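import Cfsg.Agent.Lib.PMinSmall87

/-!
`U₃(3)` in characteristic two: the overgroups of a Sylow 2-subgroup are the centraliser of an involution and
the normaliser of the diagonal subgroup, and only the first has a centre.
-/

set_option autoImplicit false
set_option linter.unusedSectionVars false

namespace Cfsg.Agent.PMinUThree87

open Cfsg.Agent.PMin87 Matrix
open Cfsg.Agent.PMinExc87 (Ans)

section Orders

variable {H : Type*} [Group H] [Finite H] {U T R : Subgroup H}

/-- an overgroup of a Sylow 2-subgroup of order 32 has it, or normalises a big part of it -/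
theorem exists_big_normal (hU : Nat.card ↥U = 32) (hc : Nat.card H = 2 ^ 5 * 189) (hT : U ≤ T)
    (h28 : 28 ≤ T.index) :
    T ≤ U ∨ ∃ R : Subgroup H, R ≤ U ∧ 16 ≤ Nat.card ↥R ∧ ∀ t ∈ T, ∀ y ∈ R, t * y * t⁻¹ ∈ R := by
  set k := (U.subgroupOf T).index with hk
  have hkc : Nat.card ↥T = 32 * k := by
    rw [hk, ← Subgroup.card_mul_index (U.subgroupOf T),
      Nat.card_congr (Subgroup.subgroupOfEquivOfLe hT).toEquiv, hU]
  have hTi := T.card_mul_index
  rw [hkc, hc] at hTi
  have hk6 : k ≤ 6 := by nlinarith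
  have hk189 : k ∣ 189 := ⟨T.index, by nlinarith⟩
  have hk13 : k = 1 ∨ k = 3 := by
    interval_cases k <;> revert hk189 <;> decide
  rcases hk13 with h1 | h3
  · exact Or.inl (Subgroup.subgroupOf_eq_top.1 (Subgroup.index_eq_one.1 h1))
  refine Or.inr ⟨(U.subgroupOf T).normalCore.map T.subtype, ?_, ?_, ?_⟩
  · rintro _ ⟨y, hy, rfl⟩
    exact Subgroup.mem_subgroupOf.1 (Subgroup.normalCore_le _ hy)
  · rw [Subgroup.card_map_of_injective T.subtype_injective]
    have h1 : (U.subgroupOf T).normalCore.index ∣ (U.subgroupOf T).index.factorial := by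
      rw [Subgroup.normalCore_eq_ker, Subgroup.index_ker]
      have hfin := Fintype.ofFinite (↥T ⧸ U.subgroupOf T)
      refine (Subgroup.card_subgroup_dvd_card _).trans ?_
      rw [Nat.card_perm, ← Subgroup.index_eq_card]
    rw [← hk, h3] at h1
    have h6 := Nat.le_of_dvd (Nat.factorial_pos 3) h1
    have := (U.subgroupOf T).normalCore.card_mul_index
    rw [hkc, h3] at this
    norm_num [Nat.factorial] at h6
    nlinarith
  · rintro t ht _ ⟨y, hy, rfl⟩
    exact ⟨⟨t, ht⟩ * y * ⟨t, ht⟩⁻¹, (Subgroup.normalCore_normal _).conj_mem y hy ⟨t, ht⟩, rfl⟩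

theorem sq_mem_of_big (hU : Nat.card ↥U = 32) (hRU : R ≤ U) (hR : 16 ≤ Nat.card ↥R) : ∀ g ∈ U, g * g ∈ R := by
  intro g hg
  have hm := (R.subgroupOf U).card_mul_index
  rw [Nat.card_congr (Subgroup.subgroupOfEquivOfLe hRU).toEquiv, hU] at hm
  have hle : (R.subgroupOf U).index ≤ 2 := by nlinarith
  have hne := Subgroup.index_ne_zero_of_finite (H := R.subgroupOf U)
  rcases (by omega : (R.subgroupOf U).index = 1 ∨ (R.subgroupOf U).index = 2) with h | h
  · exact Subgroup.subgroupOf_eq_top.1 (Subgroup.index_eq_one.1 h) (mul_mem hg hg)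
  · exact Subgroup.mem_subgroupOf.1 (Subgroup.mul_self_mem_of_index_two h ⟨g, hg⟩)

end Orders

variable {F : Type} [Field F] [Fintype F]

/-- the group -/
abbrev SU3 (F : Type) [Field F] : Type := ↥(Cfsg.SU 3 F 3)

/-- the matrix of an element -/
abbrev mt (g : (SU3 F)) : Matrix (Fin 3) (Fin 3) F :=
  ((g : Matrix.SpecialLinearGroup (Fin 3) F) : Matrix (Fin 3) (Fin 3) F)

theorem mt_ext {g k : (SU3 F)} (h : mt g = mt k) : g = k := Subtype.ext (Subtype.ext h)

theorem mt_mul (g k : (SU3 F)) : mt (g * k) = mt g * mt k := rfl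

/-- an element from a matrix -/
def mk (M : Matrix (Fin 3) (Fin 3) F) (hd : M.det = 1)
    (h : ∀ u v, hermForm 3 F 3 (M *ᵥ u) (M *ᵥ v) = hermForm 3 F 3 u v) : (SU3 F) :=
  ⟨⟨M, hd⟩, fun u v => h u v⟩

@[simp] theorem mt_mk (M : Matrix (Fin 3) (Fin 3) F) (hd : M.det = 1)
    (h : ∀ u v, hermForm 3 F 3 (M *ᵥ u) (M *ᵥ v) = hermForm 3 F 3 u v) : mt (mk M hd h) = M := rfl

/-- diagonal -/
def dg (a b c : F) (ha : a ^ 4 = 1) (hb : b ^ 4 = 1) (hc : c ^ 4 = 1) (h : a * b * c = 1) : (SU3 F) :=
  mk !![a, 0, 0; 0, b, 0; 0, 0, c] (by rw [det_fin_three]; simp; linear_combination h) fun u v => by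
    simp [hermForm, Fin.sum_univ_three, mulVec, dotProduct]
    linear_combination u 0 * v 0 ^ 3 * ha + u 1 * v 1 ^ 3 * hb + u 2 * v 2 ^ 3 * hc

/-- the last two coordinates exchanged -/
def sw (a b c : F) (ha : a ^ 4 = 1) (hb : b ^ 4 = 1) (hc : c ^ 4 = 1) (h : a * b * c = -1) : (SU3 F) :=
  mk !![a, 0, 0; 0, 0, b; 0, c, 0] (by rw [det_fin_three]; simp; linear_combination -h) fun u v => by
    simp [hermForm, Fin.sum_univ_three, mulVec, dotProduct]
    linear_combination u 0 * v 0 ^ 3 * ha + u 2 * v 2 ^ 3 * hb + u 1 * v 1 ^ 3 * hc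

/-- the cyclic permutation -/
def cyc : (SU3 F) :=
  mk !![0, 0, 1; 1, 0, 0; 0, 1, 0] (by rw [det_fin_three]; simp) fun u v => by
    simp [hermForm, Fin.sum_univ_three, mulVec, dotProduct]
    ring

/-- a unitary block -/
def blk [CharP F 3] (x : F) (hx : x ^ 4 = -1) : (SU3 F) :=
  mk !![1, 0, 0; 0, x, x; 0, -x ^ 3, x ^ 3]
    (by
      rw [det_fin_three]; simp
      have h3 : (3 : F) = 0 := CharP.cast_eq_zero F 3
      linear_combination 2 * hx - h3) fun u v => by
    haveI : Fact (Nat.Prime 3) := ⟨Nat.prime_three⟩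
    have h3 : (3 : F) = 0 := CharP.cast_eq_zero F 3
    simp [hermForm, Fin.sum_univ_three, mulVec, dotProduct, add_pow_char]
    linear_combination (u 1 + u 2) * (v 1 ^ 3 + v 2 ^ 3) * hx +
      (u 1 - u 2) * (v 1 ^ 3 - v 2 ^ 3) * (x ^ 8 - x ^ 4 + 1) * hx -
      (u 1 * v 1 ^ 3 + u 2 * v 2 ^ 3) * h3

theorem det_eq (g : (SU3 F)) : (mt g).det = 1 := (g : Matrix.SpecialLinearGroup (Fin 3) F).2

variable [CharP F 3] (x : F) (hx : x ^ 4 = -1)

include hx

theorem sq_facts : (x ^ 2) ^ 4 = 1 ∧ (-x ^ 2) ^ 4 = 1 ∧ ((-1 : F)) ^ 4 = 1 ∧ (1 : F) ^ 4 = 1 :=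
  ⟨by linear_combination (x ^ 4 - 1) * hx, by linear_combination (x ^ 4 - 1) * hx, by ring, one_pow 4⟩

/-- the involution -/
def Z : (SU3 F) := dg 1 (-1) (-1) (sq_facts x hx).2.2.2 (sq_facts x hx).2.2.1 (sq_facts x hx).2.2.1 (by ring)

/-- an element with three eigenvalues -/
def hh : (SU3 F) := dg 1 (-x ^ 2) (x ^ 2) (sq_facts x hx).2.2.2 (sq_facts x hx).2.1 (sq_facts x hx).1
  (by linear_combination -hx)

/-- a square root of the involution -/
def ww : (SU3 F) := dg (-1) (x ^ 2) (x ^ 2) (sq_facts x hx).2.2.1 (sq_facts x hx).1 (sq_facts x hx).1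
  (by linear_combination -hx)

omit hx in
theorem one_ne_neg_one : (1 : F) ≠ -1 := fun h => by
  haveI : Fact (Nat.Prime 3) := ⟨Nat.prime_three⟩
  have h2 : ((2 : ℕ) : F) = 0 := by push_cast; linear_combination h
  have := (CharP.cast_eq_zero_iff F 3 2).1 h2
  omega

theorem x_ne : x ≠ 0 := fun h => by
  rw [h] at hx
  exact one_ne_zero (α := F) (by linear_combination hx)

theorem i_ne : x ^ 2 ≠ 1 ∧ -x ^ 2 ≠ 1 ∧ x ^ 2 ≠ -x ^ 2 ∧ x ^ 2 ≠ -1 := by
  have h := one_ne_neg_one (F := F)
  refine ⟨fun e => h ?_, fun e => h ?_, fun e => ?_, fun e => h ?_⟩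
  · linear_combination hx - (x ^ 2 + 1) * e
  · linear_combination hx + (x ^ 2 - 1) * e
  · have : (2 : F) * x ^ 2 = 0 := by linear_combination e
    rcases mul_eq_zero.1 this with h2 | h2
    · exact h (by linear_combination h2)
    · exact x_ne x hx (pow_eq_zero_iff two_ne_zero |>.1 h2)
  · linear_combination hx - (x ^ 2 - 1) * e

theorem Z_ne_one : Z x hx ≠ (1 : (SU3 F)) := fun h => by
  have := congrFun (congrFun (congrArg mt h) 1) 1
  simp [Z, dg] at this
  exact one_ne_neg_one (F := F) this.symm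

theorem mem_C {g : (SU3 F)} : g ∈ Subgroup.centralizer {Z x hx} ↔
    mt g 0 1 = 0 ∧ mt g 0 2 = 0 ∧ mt g 1 0 = 0 ∧ mt g 2 0 = 0 := by
  rw [Subgroup.mem_centralizer_singleton_iff]
  constructor
  · intro h
    have h' := congrArg mt h
    rw [mt_mul, mt_mul] at h'
    have key : ∀ {a : F}, -a = a → a = 0 := fun {a} ha => by
      have : (2 : F) * a = 0 := by linear_combination -ha
      exact (mul_eq_zero.1 this).resolve_left fun h2 => one_ne_neg_one (F := F) (by linear_combination h2)
    have a := congrFun (congrFun h' 0) 1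
    have b := congrFun (congrFun h' 0) 2
    have c := congrFun (congrFun h' 1) 0
    have d := congrFun (congrFun h' 2) 0
    simp [Z, dg, Matrix.mul_apply, Fin.sum_univ_three] at a b c d
    exact ⟨key a, key b, key c.symm, key d.symm⟩
  · rintro ⟨a, b, c, d⟩
    refine mt_ext ?_
    rw [mt_mul, mt_mul]
    ext i j
    fin_cases i <;> fin_cases j <;> simp [Z, dg, Matrix.mul_apply, Fin.sum_univ_three, a, b, c, d]

/-- off the diagonal everything vanishes -/
theorem mem_D {g : (SU3 F)} : g ∈ Subgroup.centralizer {hh x hx} ↔ ∀ i j, i ≠ j → mt g i j = 0 := by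
  rw [Subgroup.mem_centralizer_singleton_iff]
  obtain ⟨h1, h2, h3, -⟩ := i_ne x hx
  constructor
  · intro h i j hij
    have h' := congrFun (congrFun (congrArg mt h) i) j
    rw [mt_mul, mt_mul] at h'
    have hd : ∀ k, mt (hh x hx) k k = ![1, -x ^ 2, x ^ 2] k := fun k => by fin_cases k <;> simp [hh, dg]
    have he : mt g i j * mt (hh x hx) j j = mt (hh x hx) i i * mt g i j := by
      revert h'
      fin_cases i <;> fin_cases j <;> simp [hh, dg, Matrix.mul_apply, Fin.sum_univ_three]
    have hne : mt (hh x hx) j j - mt (hh x hx) i i ≠ 0 := by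
      rw [hd, hd, sub_ne_zero]
      revert hij
      fin_cases i <;> fin_cases j <;> simp [h1, Ne.symm h1, h2, Ne.symm h2, h3, Ne.symm h3]
    exact (mul_eq_zero.1 (by linear_combination he :
      mt g i j * (mt (hh x hx) j j - mt (hh x hx) i i) = 0)).resolve_right hne
  · intro h
    refine mt_ext ?_
    rw [mt_mul, mt_mul]
    ext i j
    have a := h 0 1 (by decide); have b := h 0 2 (by decide); have c := h 1 0 (by decide)
    have d := h 1 2 (by decide); have e := h 2 0 (by decide); have f := h 2 1 (by decide)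
    fin_cases i <;> fin_cases j <;>
      simp [hh, dg, Matrix.mul_apply, Fin.sum_univ_three, a, b, c, d, e, f, mul_comm]

theorem diag_roots {g : (SU3 F)} (hg : g ∈ Subgroup.centralizer {hh x hx}) :
    mt g 0 0 ^ 4 = 1 ∧ mt g 1 1 ^ 4 = 1 ∧ mt g 2 2 ^ 4 = 1 ∧ mt g 0 0 * mt g 1 1 * mt g 2 2 = 1 := by
  have h := (mem_D x hx).1 hg
  have a := h 0 1 (by decide); have b := h 0 2 (by decide); have c := h 1 0 (by decide)
  have d := h 1 2 (by decide); have e := h 2 0 (by decide); have f := h 2 1 (by decide)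
  have h0 := g.2 (Pi.single 0 1) (Pi.single 0 1)
  have h1 := g.2 (Pi.single 1 1) (Pi.single 1 1)
  have h2 := g.2 (Pi.single 2 1) (Pi.single 2 1)
  change hermForm 3 F 3 (mt g *ᵥ _) (mt g *ᵥ _) = _ at h0
  change hermForm 3 F 3 (mt g *ᵥ _) (mt g *ᵥ _) = _ at h1
  change hermForm 3 F 3 (mt g *ᵥ _) (mt g *ᵥ _) = _ at h2
  simp [hermForm, Fin.sum_univ_three, Matrix.col, a, b, c, d, e, f] at h0 h1 h2
  have hd := det_eq g
  rw [det_fin_three, a, b, c, d, e, f] at hd
  exact ⟨by linear_combination h0, by linear_combination h1, by linear_combination h2,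
    by linear_combination hd⟩

/-- in a normaliser of the diagonal a row has a single entry -/
theorem row_single {g : (SU3 F)} (hg : g ∈ Subgroup.normalizer (Subgroup.centralizer {hh x hx} : Set (SU3 F)))
    (i : Fin 3) {j k : Fin 3} (hjk : j ≠ k) (hj : mt g i j ≠ 0) : mt g i k = 0 := by
  have hmem : g * hh x hx * g⁻¹ ∈ Subgroup.centralizer {hh x hx} :=
    (Subgroup.mem_normalizer_iff.1 hg _).1 (Subgroup.mem_centralizer_singleton_iff.2 rfl)
  set d := g * hh x hx * g⁻¹ with hd
  have e : g * hh x hx = d * g := by rw [hd]; group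
  have hoff := (mem_D x hx).1 hmem
  have key : ∀ l, mt g i l * mt (hh x hx) l l = mt d i i * mt g i l := fun l => by
    have h := congrFun (congrFun (congrArg mt e) i) l
    rw [mt_mul, mt_mul] at h
    have a := hoff 0 1 (by decide); have b := hoff 0 2 (by decide); have c := hoff 1 0 (by decide)
    have d' := hoff 1 2 (by decide); have e' := hoff 2 0 (by decide); have f := hoff 2 1 (by decide)
    revert h
    fin_cases i <;> fin_cases l <;> simp [hh, dg, Matrix.mul_apply, Fin.sum_univ_three, a, b, c, d', e', f]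
  by_contra hk
  have hl : ∀ l, mt g i l ≠ 0 → mt (hh x hx) l l = mt d i i := fun l hl =>
    mul_left_cancel₀ hl ((key l).trans (mul_comm _ _))
  have h2 := (hl j hj).trans (hl k hk).symm
  obtain ⟨h1, h1', h3, -⟩ := i_ne x hx
  revert h2 hjk
  fin_cases j <;> fin_cases k <;> simp [hh, dg, h1, Ne.symm h1, h1', Ne.symm h1', h3, Ne.symm h3]

/-- the two shapes in the Sylow subgroup -/
theorem shape {g : (SU3 F)}
    (hg : g ∈ Subgroup.centralizer {Z x hx} ⊓ Subgroup.normalizer (Subgroup.centralizer {hh x hx} : Set (SU3 F))) :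
    g ∈ Subgroup.centralizer {hh x hx} ∨
      mt g 1 1 = 0 ∧ mt g 2 2 = 0 ∧ mt g 1 2 ≠ 0 ∧ mt g 2 1 ≠ 0 := by
  obtain ⟨a, b, c, d⟩ := (mem_C x hx).1 hg.1
  have hd := det_eq g
  rw [det_fin_three, a, b, c, d] at hd
  by_cases h11 : mt g 1 1 = 0
  · right
    rw [h11] at hd
    have h12 : mt g 1 2 ≠ 0 := fun e => by rw [e] at hd; simp at hd
    have h21 : mt g 2 1 ≠ 0 := fun e => by rw [e] at hd; simp at hd
    exact ⟨h11, row_single x hx hg.2 2 (by decide) h21, h12, h21⟩
  · left
    have h12 := row_single x hx hg.2 1 (show (1 : Fin 3) ≠ 2 by decide) h11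
    rw [h12] at hd
    have h22 : mt g 2 2 ≠ 0 := fun e => by rw [e] at hd; simp at hd
    have h21 := row_single x hx hg.2 2 (show (2 : Fin 3) ≠ 1 by decide) h22
    refine (mem_D x hx).2 fun i j hij => ?_
    fin_cases i <;> fin_cases j <;> first | exact absurd rfl hij | exact a | exact b | exact c | exact d | exact h12 | exact h21

theorem ww_central {g : (SU3 F)} (hg : g ∈ Subgroup.centralizer {Z x hx}) : g * ww x hx = ww x hx * g := by
  obtain ⟨a, b, c, d⟩ := (mem_C x hx).1 hg
  refine mt_ext ?_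
  rw [mt_mul, mt_mul]
  ext i j
  fin_cases i <;> fin_cases j <;> simp [ww, dg, Matrix.mul_apply, Fin.sum_univ_three, a, b, c, d, mul_comm]

theorem ww_sq : ww x hx * ww x hx = Z x hx := by
  refine mt_ext ?_
  rw [mt_mul]
  ext i j
  fin_cases i <;> fin_cases j <;> simp [ww, Z, dg, Matrix.mul_apply, Fin.sum_univ_three] <;> linear_combination hx

theorem cyc_mem : (cyc : (SU3 F)) ∈ Subgroup.normalizer (Subgroup.centralizer {hh x hx} : Set (SU3 F)) := by
  have hc : (cyc : (SU3 F))⁻¹ = cyc * cyc := by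
    refine inv_eq_of_mul_eq_one_right (mt_ext ?_)
    rw [mt_mul, mt_mul]
    ext i j
    fin_cases i <;> fin_cases j <;> simp [cyc, Matrix.mul_apply, Fin.sum_univ_three] <;> rfl
  refine PFree87.mem_normalizer_of_conj (M := Subgroup.zpowers (cyc : (SU3 F))) (fun m hm d hd => ?_)
    (Subgroup.mem_zpowers _)
  have step : ∀ d ∈ Subgroup.centralizer {hh x hx}, (cyc : (SU3 F)) * d * cyc⁻¹ ∈ Subgroup.centralizer {hh x hx} := by
    intro d hd
    have h := (mem_D x hx).1 hd
    refine (mem_D x hx).2 fun i j hij => ?_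
    rw [hc, mt_mul, mt_mul, mt_mul]
    have a := h 0 1 (by decide); have b := h 0 2 (by decide); have c := h 1 0 (by decide)
    have e := h 1 2 (by decide); have f := h 2 0 (by decide); have k := h 2 1 (by decide)
    revert hij
    fin_cases i <;> fin_cases j <;> simp [cyc, Matrix.mul_apply, Matrix.vecMul, dotProduct, Fin.sum_univ_three, a, b, c, e, f, k]
  obtain ⟨n, rfl⟩ := hm
  have hpos : ∀ n : ℕ, ∀ d ∈ Subgroup.centralizer {hh x hx},
      (cyc : (SU3 F)) ^ n * d * ((cyc : (SU3 F)) ^ n)⁻¹ ∈ Subgroup.centralizer {hh x hx} := by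
    intro n
    induction n with
    | zero => intro d hd; simpa using hd
    | succ n ih =>
      intro d hd
      have := step _ (ih d hd)
      rw [pow_succ']
      simpa [mul_assoc] using this
  obtain ⟨m, hm⟩ : (cyc : (SU3 F)) ^ n ∈ Submonoid.powers (cyc : (SU3 F)) :=
    mem_powers_iff_mem_zpowers.2 ⟨n, rfl⟩
  simp only [] at hm ⊢
  exact hm ▸ hpos m d hd

omit hx in
theorem exists_x (hF : Fintype.card F = 9) : ∃ x : F, x ^ 4 = -1 := by
  obtain ⟨g, hg⟩ := IsCyclic.exists_generator (α := Fˣ)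
  have ho : orderOf g = 8 := by
    classical
    rw [orderOf_eq_card_of_forall_mem_zpowers hg, Nat.card_eq_fintype_card, Fintype.card_units, hF]
  refine ⟨g, ?_⟩
  have h8 : ((g : F) ^ 4) ^ 2 = 1 := by
    rw [← pow_mul, ← Units.val_pow_eq_pow_val, show 4 * 2 = orderOf g by rw [ho], pow_orderOf_eq_one, Units.val_one]
  rcases sq_eq_one_iff.1 h8 with h | h
  · exfalso
    have : g ^ 4 = 1 := Units.ext (by rw [Units.val_pow_eq_pow_val]; exact h)
    have := orderOf_dvd_of_pow_eq_one this
    rw [ho] at this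
    norm_num at this
  · exact h

theorem scalar_trivial {g : (SU3 F)} (h1 : g ∈ Subgroup.centralizer {hh x hx}) (h2 : (cyc : (SU3 F)) * g = g * cyc) : g = 1 := by
  obtain ⟨ha, -, -, habc⟩ := diag_roots x hx h1
  have h := (mem_D x hx).1 h1
  have a := h 0 1 (by decide); have b := h 0 2 (by decide); have c := h 1 0 (by decide)
  have d := h 1 2 (by decide); have e := h 2 0 (by decide); have f := h 2 1 (by decide)
  have h' := congrArg mt h2
  rw [mt_mul, mt_mul] at h'
  have e1 := congrFun (congrFun h' 1) 0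
  have e2 := congrFun (congrFun h' 2) 1
  simp [cyc, Matrix.mul_apply, Fin.sum_univ_three, a, b, c, d, e, f] at e1 e2
  rw [← e2, ← e1] at habc
  have hone : mt g 0 0 = 1 := by linear_combination ha - mt g 0 0 * habc
  refine mt_ext ?_
  ext i j
  change mt g i j = (1 : Matrix (Fin 3) (Fin 3) F) i j
  fin_cases i <;> fin_cases j <;> simp [a, b, c, d, e, f, ← e1, ← e2, hone]

set_option maxHeartbeats 3000000 in
omit hx in
theorem u33 {r p : Prop} (hF : Fintype.card F = 9) : Ans 2 (Cfsg.PSU 3 F 3) r p := by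
  classical
  haveI := Fact.mk Nat.prime_two
  have hF' : Fintype.card F = 3 ^ 2 := by rw [hF]; norm_num
  haveI hS := S0283.result hF' 3 le_rfl (by norm_num)
  obtain ⟨x, hx⟩ := exists_x hF
  have hcen : Subgroup.center (SU3 F) = ⊥ := eq_bot_iff.2 fun z hz => Subgroup.mem_bot.2
    (scalar_trivial x hx (Subgroup.mem_centralizer_singleton_iff.2 ((Subgroup.mem_center_iff.1 hz _).symm))
      (Subgroup.mem_center_iff.1 hz _))
  let e : Cfsg.PSU 3 F 3 ≃* (SU3 F) := (QuotientGroup.quotientMulEquivOfEq hcen).trans QuotientGroup.quotientBot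
  haveI : Finite (Cfsg.PSU 3 F 3) := Quotient.finite _
  refine Ans.of_equiv (G := Cfsg.PSU 3 F 3) (H := (SU3 F)) e ?_
  haveI : IsSimpleGroup (SU3 F) := e.symm.isSimpleGroup
  have hc : Nat.card (SU3 F) = 2 ^ 5 * 189 := by
    rw [← Nat.card_congr e.toEquiv]
    have h := S0280.result hF' 3 (by norm_num)
    norm_num [Finset.prod_range_succ, Nat.even_iff] at h ⊢
    omega
  have hidx : ∀ T : Subgroup (SU3 F), T ≠ ⊤ → 28 ≤ T.index := fun T hT => by
    have h := (S2148.result 3 hF' le_rfl (by norm_num)).1 (T.comap e.toMonoidHom) fun h => hT ?_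
    · rw [Subgroup.index_comap_of_surjective _ e.surjective] at h
      simpa using h
    · rw [← Subgroup.map_comap_eq_self_of_surjective (f := e.toMonoidHom) e.surjective T, h,
        Subgroup.map_top_of_surjective _ e.surjective]
  set C := Subgroup.centralizer {Z x hx} with hC
  set D := Subgroup.centralizer {hh x hx} with hD
  set N := Subgroup.normalizer (D : Set (SU3 F)) with hN
  set U := C ⊓ N with hU
  have hDU : D ≤ U := le_inf (fun g hg => (mem_C x hx).2 (by
    have h := (mem_D x hx).1 hg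
    exact ⟨h 0 1 (by decide), h 0 2 (by decide), h 1 0 (by decide), h 2 0 (by decide)⟩)) Subgroup.le_normalizer
  have hpow : ∀ g ∈ U, g * g ∈ D := by
    intro g hg
    rcases shape x hx hg with h | ⟨a', b', -, -⟩
    · exact mul_mem h h
    · obtain ⟨a, b, c, d⟩ := (mem_C x hx).1 hg.1
      refine (mem_D x hx).2 fun i j hij => ?_
      rw [mt_mul]
      revert hij
      fin_cases i <;> fin_cases j <;> simp [Matrix.mul_apply, Fin.sum_univ_three, a, b, c, d, a', b']
  have hD4 : ∀ g ∈ D, g ^ 4 = 1 := by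
    intro g hg
    obtain ⟨h0, h1, h2, -⟩ := diag_roots x hx hg
    have h := (mem_D x hx).1 hg
    have hsq : ∀ k l, mt (g * g) k l = if k = l then mt g k k ^ 2 else 0 := fun k l => by
      have a := h 0 1 (by decide); have b := h 0 2 (by decide); have c := h 1 0 (by decide)
      have d := h 1 2 (by decide); have e := h 2 0 (by decide); have f := h 2 1 (by decide)
      rw [mt_mul]
      fin_cases k <;> fin_cases l <;> simp [Matrix.mul_apply, Fin.sum_univ_three, a, b, c, d, e, f, sq]
    rw [show g ^ 4 = g * g * (g * g) by simp [pow_succ, mul_assoc]]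
    refine mt_ext ?_
    rw [mt_mul]
    ext i j
    change _ = (1 : Matrix (Fin 3) (Fin 3) F) i j
    fin_cases i <;> fin_cases j <;> simp [Matrix.mul_apply, Fin.sum_univ_three, hsq, ← pow_add, h0, h1, h2]
  have hU2 : IsPGroup 2 ↥U := fun g => ⟨3, Subtype.ext (by
    show (g : (SU3 F)) ^ 2 ^ 3 = 1
    rw [show (2 : ℕ) ^ 3 = 2 * 4 by norm_num, pow_mul, pow_two]
    exact hD4 _ (hpow _ g.2))⟩
  let s : (SU3 F) := sw (-1) 1 1 (by ring) (one_pow 4) (one_pow 4) (by ring)
  have hsD : s ∉ D := fun h => by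
    have := (mem_D x hx).1 h 1 2 (by decide)
    simp [s, sw] at this
  have hsinv : s⁻¹ = s := by
    refine inv_eq_of_mul_eq_one_right (mt_ext ?_)
    rw [mt_mul]
    ext i j
    change _ = (1 : Matrix (Fin 3) (Fin 3) F) i j
    fin_cases i <;> fin_cases j <;> simp [s, sw, Matrix.mul_apply, Fin.sum_univ_three]
  have hsU : s ∈ U := by
    refine ⟨(mem_C x hx).2 (by simp [s, sw]), ?_⟩
    have hstep : ∀ d ∈ D, s * d * s⁻¹ ∈ D := fun d hd => by
      have h := (mem_D x hx).1 hd
      refine (mem_D x hx).2 fun i j hij => ?_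
      rw [hsinv, mt_mul, mt_mul]
      have a := h 0 1 (by decide); have b := h 0 2 (by decide); have c := h 1 0 (by decide)
      have e' := h 1 2 (by decide); have f := h 2 0 (by decide); have k := h 2 1 (by decide)
      revert hij
      fin_cases i <;> fin_cases j <;> simp [s, sw, Matrix.mul_apply, Matrix.vecMul, dotProduct, Fin.sum_univ_three, a, b, c, e', f, k]
    refine Subgroup.mem_normalizer_iff.2 fun d => ⟨hstep d, fun hd => ?_⟩
    have := hstep _ hd
    rwa [hsinv, show s * (s * d * s) * s = d by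
      nth_rw 1 [← hsinv]; nth_rw 3 [← hsinv]; group] at this
  obtain ⟨hi4, hni4, hm4, h14⟩ := sq_facts x hx
  let ρ : Fin 4 → F := ![1, -1, x ^ 2, -x ^ 2]
  have hρ : ∀ a, ρ a ^ 4 = 1 := fun a => by fin_cases a <;> simp [ρ, hi4, hni4] <;> exact hm4
  have hρi : Function.Injective ρ := by
    obtain ⟨h1, h2, h3, h4⟩ := i_ne x hx
    have h5 := one_ne_neg_one (F := F)
    intro a b hab
    have h2' : (-x ^ 2 : F) ≠ -1 := fun h => h1 (by linear_combination -h)
    revert hab
    fin_cases a <;> fin_cases b <;>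
      simp [ρ, h1, Ne.symm h1, h2, Ne.symm h2, h2', Ne.symm h2', h3, Ne.symm h3, h4, Ne.symm h4, h5, Ne.symm h5]
  have hρinv : ∀ a b, (ρ a ^ 3 * ρ b ^ 3) ^ 4 = 1 := fun a b => by
    rw [mul_pow, ← pow_mul, ← pow_mul, mul_comm 3 4, pow_mul, pow_mul, hρ, hρ]; simp
  let f : Fin 4 × Fin 4 → ↥D := fun ab => ⟨dg (ρ ab.1 ^ 3 * ρ ab.2 ^ 3) (ρ ab.1) (ρ ab.2) (hρinv _ _) (hρ _) (hρ _)
      (by linear_combination (ρ ab.2 ^ 4) * hρ ab.1 + hρ ab.2), (mem_D x hx).2 fun i j hij => by
    revert hij
    fin_cases i <;> fin_cases j <;> simp [dg]⟩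
  have hf : Function.Injective f := fun ab ab' h => by
    have h1 := congrArg (fun g : ↥D => mt (g : (SU3 F)) 1 1) h
    have h2 := congrArg (fun g : ↥D => mt (g : (SU3 F)) 2 2) h
    simp [f, dg] at h1 h2
    exact Prod.ext (hρi h1) (hρi h2)
  have h16 : 16 ≤ Nat.card ↥D := by
    simpa using Nat.card_le_card_of_injective f hf
  have hcards : Nat.card ↥U = 32 ∧ Nat.card ↥D = 16 := by
    obtain ⟨n, hn⟩ := hU2.exists_card_eq
    have hd := Subgroup.card_subgroup_dvd_card U
    rw [hn, hc] at hd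
    have hn5 : n ≤ 5 := by
      have hco : Nat.Coprime (2 ^ n) 189 := Nat.Coprime.pow_left _ (by norm_num)
      exact (Nat.pow_dvd_pow_iff_le_right (by norm_num)).1 (hco.dvd_of_dvd_mul_right hd)
    have hpos : 1 < (D.subgroupOf U).index := Subgroup.one_lt_index_of_ne_top fun h => hsD
      (Subgroup.mem_subgroupOf.1 (h ▸ Subgroup.mem_top (⟨s, hsU⟩ : ↥U)))
    have hm := (D.subgroupOf U).card_mul_index
    rw [Nat.card_congr (Subgroup.subgroupOfEquivOfLe hDU).toEquiv, hn] at hm
    have hle : (2 : ℕ) ^ n ≤ 32 := (Nat.pow_le_pow_right (by norm_num) hn5).trans_eq (by norm_num)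
    have h2 : 32 ≤ 2 ^ n := hm ▸ (Nat.mul_le_mul h16 hpos)
    exact ⟨by omega, by nlinarith⟩
  have hUi : ¬ 2 ∣ U.index := by
    have h := U.card_mul_index
    rw [hcards.1, hc] at h
    omega
  have Fr : Frame U ![C, N] := by
    refine ⟨fun i => ?_, fun T hT hTne => ?_, fun i => ?_⟩
    · fin_cases i
      exacts [inf_le_left, inf_le_right]
    · rcases exists_big_normal hcards.1 hc hT (hidx T hTne) with h1 | ⟨R, hRU, hR16, hRn⟩
      · exact ⟨0, h1.trans inf_le_left⟩
      have hsq : ∀ g ∈ U, g * g ∈ R := sq_mem_of_big hcards.1 hRU hR16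
      by_cases hRD : R ≤ D
      · refine ⟨1, ?_⟩
        have hRe : R = D := Subgroup.eq_of_le_of_card_ge hRD (hcards.2.le.trans hR16)
        show T ≤ N
        rw [hN, ← hRe]
        exact PFree87.mem_normalizer_of_conj hRn
      obtain ⟨y, hyR, hyD⟩ := SetLike.not_le_iff_exists.1 hRD
      obtain ⟨-, -, hy12, -⟩ := (shape x hx (hRU hyR)).resolve_left hyD
      obtain ⟨ya, yb, yc, yd⟩ := (mem_C x hx).1 (hRU hyR).1
      let w1 : (SU3 F) := sw (x ^ 2) 1 (x ^ 2) hi4 h14 hi4 (by linear_combination hx)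
      let d1 : (SU3 F) := dg (-x ^ 2) (x ^ 2) 1 hni4 hi4 h14 (by linear_combination -hx)
      have hw1U : w1 ∈ U := by
        refine ⟨(mem_C x hx).2 (by simp [w1, sw]), ?_⟩
        have he : w1 = dg (-x ^ 2) 1 (x ^ 2) hni4 h14 hi4 (by linear_combination -hx) * s := by
          refine mt_ext ?_
          rw [mt_mul]
          ext i j
          fin_cases i <;> fin_cases j <;> simp [w1, s, sw, dg, Matrix.mul_apply, Fin.sum_univ_three]
        rw [he]
        refine mul_mem (Subgroup.le_normalizer ((mem_D x hx).2 fun i j hij => ?_)) hsU.2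
        revert hij
        fin_cases i <;> fin_cases j <;> simp [dg]
      have hd1U : d1 ∈ U := hDU ((mem_D x hx).2 fun i j hij => by
        revert hij
        fin_cases i <;> fin_cases j <;> simp [d1, dg])
      have hw : w1 * w1 = ww x hx := by
        refine mt_ext ?_
        rw [mt_mul]
        ext i j
        fin_cases i <;> fin_cases j <;> simp [w1, ww, sw, dg, Matrix.mul_apply, Fin.sum_univ_three] <;>
          linear_combination hx
      have hhR : hh x hx ∈ R := by
        have : w1 * w1 * (d1 * d1) = hh x hx := by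
          rw [hw]
          refine mt_ext ?_
          rw [mt_mul, mt_mul]
          ext i j
          fin_cases i <;> fin_cases j <;> simp [ww, d1, hh, dg, Matrix.mul_apply, Fin.sum_univ_three] <;>
            first | linear_combination -hx | linear_combination x ^ 2 * hx
        exact this ▸ mul_mem (hsq _ hw1U) (hsq _ hd1U)
      have hwR : ww x hx ∈ R := hw ▸ hsq _ hw1U
      refine ⟨0, fun t ht => Subgroup.mem_centralizer_singleton_iff.2 ?_⟩
      obtain ⟨q, hq⟩ : ∃ q, q = t * ww x hx * t⁻¹ := ⟨_, rfl⟩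
      have hcentral : ∀ v ∈ R, q * v = v * q := by
        intro v hv
        have h1 := hRn t⁻¹ (inv_mem ht) v hv
        rw [inv_inv] at h1
        have h2 := ww_central x hx (hRU h1).1
        calc q * v = t * (ww x hx * (t⁻¹ * v * t)) * t⁻¹ := by rw [hq]; group
          _ = t * (t⁻¹ * v * t * ww x hx) * t⁻¹ := by rw [h2]
          _ = v * q := by rw [hq]; group
      have hqD : q ∈ D := Subgroup.mem_centralizer_singleton_iff.2 (hcentral _ hhR)
      have h := (mem_D x hx).1 hqD
      have a := h 0 1 (by decide); have b := h 0 2 (by decide); have c := h 1 0 (by decide)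
      have d := h 1 2 (by decide); have e' := h 2 0 (by decide); have f' := h 2 1 (by decide)
      have hbc : mt q 1 1 = mt q 2 2 := by
        have h' := congrFun (congrFun (congrArg mt (hcentral y hyR)) 1) 2
        rw [mt_mul, mt_mul] at h'
        simp [Matrix.mul_apply, Fin.sum_univ_three, c, d, b, yc] at h'
        exact mul_right_cancel₀ hy12 (h'.trans (mul_comm _ _))
      obtain ⟨-, hb4, -, habc⟩ := diag_roots x hx hqD
      rw [← hbc] at habc
      have hqq : q * q = 1 ∨ q * q = Z x hx := by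
        have ha2 : mt q 0 0 ^ 2 = 1 := by
          linear_combination (mt q 0 0 * mt q 1 1 * mt q 1 1 + 1) * habc - mt q 0 0 ^ 2 * hb4
        rcases sq_eq_one_iff.1 (show (mt q 1 1 ^ 2) ^ 2 = 1 by linear_combination hb4) with h2 | h2
        · left
          refine mt_ext ?_
          rw [mt_mul]
          ext i j
          change _ = (1 : Matrix (Fin 3) (Fin 3) F) i j
          fin_cases i <;> fin_cases j <;>
            simp [Matrix.mul_apply, Fin.sum_univ_three, a, b, c, d, e', f', ← hbc, ← sq, ha2, h2]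
        · right
          refine mt_ext ?_
          rw [mt_mul]
          ext i j
          fin_cases i <;> fin_cases j <;>
            simp [Z, dg, Matrix.mul_apply, Fin.sum_univ_three, a, b, c, d, e', f', ← hbc, ← sq, ha2, h2]
      have hq2 : q * q = t * Z x hx * t⁻¹ := by rw [hq, ← ww_sq x hx]; group
      rw [hq2, conj_eq_one_iff] at hqq
      exact mul_inv_eq_iff_eq_mul.1 (hqq.resolve_left (Z_ne_one x hx))
    · fin_cases i
      · refine ⟨cyc, fun h => ?_, fun j hj => ?_⟩
        · have := ((mem_C x hx).1 h).2.2.1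
          simp [cyc] at this
        · obtain rfl : j = 1 := by revert hj; revert j; decide
          exact cyc_mem x hx
      · refine ⟨blk x hx, fun h => ?_, fun j hj => ?_⟩
        · have hx0 := x_ne x hx
          have := row_single x hx h 1 (show (1 : Fin 3) ≠ 2 by decide) (by simpa [blk] using hx0)
          simp [blk] at this
          exact hx0 this
        · obtain rfl : j = 0 := by revert hj; revert j; decide
          exact (mem_C x hx).2 (by simp [blk])
  refine Ans.of_one (hU2.toSylow hUi) ?_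
  change Crit 2 U r p
  refine crit_of_fixed Fr (PMinSmall87.normalizer_ne_top (fun h => ?_) fun h => ?_) (i := 0) (j := 1)
    fun α _ he => Z_ne_one x hx (α.injective (Eq.trans ?_ (map_one α).symm))
  · rw [h, Subgroup.card_bot] at hcards; omega
  · rw [h, Subgroup.card_top, hc] at hcards; omega
  have hcomm : ∀ g ∈ N, g * α (Z x hx) = α (Z x hx) * g := fun g hg => by
    obtain ⟨g0, hg0, rfl⟩ := he.ge hg
    show α g0 * α (Z x hx) = α (Z x hx) * α g0
    rw [← map_mul, ← map_mul, Subgroup.mem_centralizer_singleton_iff.1 hg0]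
  exact scalar_trivial x hx
    (Subgroup.mem_centralizer_singleton_iff.2
      (hcomm _ (Subgroup.le_normalizer (Subgroup.mem_centralizer_singleton_iff.2 rfl))).symm)
    (hcomm _ (cyc_mem x hx))

end Cfsg.Agent.PMinUThree87
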