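import Mathlib
import Cfsg.Agent.Lib.HallSolvable
import Cfsg.Agent.Lib.HallTheorem
import Cfsg.Agent.Lib.SignalizerStrongEmb

/-!
Solvable groups with abelian Sylow 2-subgroups: the subgroup `O_{2',2}`, and the normalizers of
Sylow `p`-subgroups when the Hall `p'`-subgroups are abelian and the involutions are conjugate.
-/

set_option autoImplicit false

namespace Cfsg.Agent.PPrimeAbelian30

open Subgroup

universe u

variable {X : Type u} [Group X] [Finite X] [Group.IsSolvable X]

/-- In the quotient by the odd core an abelian Sylow 2-subgroup is normal. -/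
theorem normal_image (S : Sylow 2 X) (hS : IsMulCommutative (S : Subgroup X)) :
    ((S : Subgroup X).map (QuotientGroup.mk' (Cfsg.pPrimeCore 2 X))).Normal := by
  haveI := Fact.mk Nat.prime_two
  set f := QuotientGroup.mk' (Cfsg.pPrimeCore 2 X) with hf
  set T := S.mapSurjective (f := f) (QuotientGroup.mk'_surjective _) with hT
  have hTc : (T : Subgroup (X ⧸ Cfsg.pPrimeCore 2 X)) = (S : Subgroup X).map f :=
    Sylow.coe_mapSurjective _ _
  rw [← hTc]
  have hle : Cfsg.pCore 2 (X ⧸ Cfsg.pPrimeCore 2 X) ≤ (T : Subgroup _) := by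
    have hsup := (HallCore.isPGroup_pCore 2 (X ⧸ Cfsg.pPrimeCore 2 X)).to_sup_of_normal_left T.2
    exact le_sup_left.trans (T.3 hsup le_sup_right).le
  have hsol : Group.IsSolvable (X ⧸ Cfsg.pPrimeCore 2 X) :=
    Group.isSolvable_of_surjective (f := f) (QuotientGroup.mk'_surjective _)
  haveI := hsol
  have hcen := HallSolvable.centralizer_pCore_le (HallSolvable.isPSolvable_of_solvable 2)
    (HallCore.pPrimeCore_quotient_self 2 X)
  have hTle : (T : Subgroup _) ≤ Cfsg.pCore 2 (X ⧸ Cfsg.pPrimeCore 2 X) := by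
    refine le_trans ?_ hcen
    intro a ha
    rw [mem_centralizer_iff]
    intro b hb
    have hb' := hle hb
    rw [hTc] at ha hb'
    obtain ⟨a', ha', rfl⟩ := ha
    obtain ⟨b', hb', rfl⟩ := hb'
    have hc : a' * b' = b' * a' :=
      congrArg Subtype.val (hS.is_comm.comm ⟨a', ha'⟩ ⟨b', hb'⟩)
    rw [← map_mul, ← map_mul, hc]
  rw [le_antisymm hTle hle]
  infer_instance

/-- `O_{2',2}` and the Frattini argument. -/
theorem sup_normal (S : Sylow 2 X) (hS : IsMulCommutative (S : Subgroup X)) :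
    ((S : Subgroup X) ⊔ Cfsg.pPrimeCore 2 X).Normal ∧
      normalizer ((S : Subgroup X) : Set X) ⊔ Cfsg.pPrimeCore 2 X = ⊤ := by
  haveI := Fact.mk Nat.prime_two
  have hn := normal_image S hS
  have heq : ((S : Subgroup X).map (QuotientGroup.mk' (Cfsg.pPrimeCore 2 X))).comap
      (QuotientGroup.mk' (Cfsg.pPrimeCore 2 X)) = (S : Subgroup X) ⊔ Cfsg.pPrimeCore 2 X := by
    rw [comap_map_eq, QuotientGroup.ker_mk']
  haveI hN : ((S : Subgroup X) ⊔ Cfsg.pPrimeCore 2 X).Normal := heq ▸ hn.comap _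
  refine ⟨hN, ?_⟩
  have h := Sylow.normalizer_sup_eq_top' (N := (S : Subgroup X) ⊔ Cfsg.pPrimeCore 2 X) S le_sup_left
  rw [eq_top_iff, ← h, sup_le_iff]
  exact ⟨le_sup_left, sup_le (le_normalizer.trans le_sup_left) le_sup_right⟩

/-- All involutions lie in `O_{2',2}`, in which `O` has 2-power index. -/
theorem layer_spec (S : Sylow 2 X) (hS : IsMulCommutative (S : Subgroup X)) :
    (∀ w : X, orderOf w = 2 → w ∈ (S : Subgroup X) ⊔ Cfsg.pPrimeCore 2 X) ∧
      ∃ k, (Cfsg.pPrimeCore 2 X).relIndex ((S : Subgroup X) ⊔ Cfsg.pPrimeCore 2 X) ∣ 2 ^ k := by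
  haveI := Fact.mk Nat.prime_two
  obtain ⟨hN, -⟩ := sup_normal S hS
  refine ⟨fun w hw => ?_, ?_⟩
  · have hp : IsPGroup 2 (zpowers w) :=
      IsPGroup.of_card (n := 1) (by rw [Nat.card_zpowers, hw, pow_one])
    obtain ⟨T, hT⟩ := hp.exists_le_sylow
    obtain ⟨g, hg⟩ := MulAction.exists_smul_eq X S T
    have hwT := hT (mem_zpowers w)
    rw [← hg, Sylow.coe_subgroup_smul] at hwT
    obtain ⟨s, hs, rfl⟩ := hwT
    exact hN.conj_mem _ (mem_sup_left hs) g
  · obtain ⟨k, hk⟩ := IsPGroup.iff_card.1 S.2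
    refine ⟨k, ?_⟩
    have h1 := HallCore.card_sup_dvd (S : Subgroup X) (Cfsg.pPrimeCore 2 X)
    rw [← HallCore.card_mul_relIndex (le_sup_right :
      Cfsg.pPrimeCore 2 X ≤ (S : Subgroup X) ⊔ Cfsg.pPrimeCore 2 X), hk, mul_comm (2 ^ k)] at h1
    exact Nat.dvd_of_mul_dvd_mul_left Nat.card_pos h1

/-- An involution does not normalize a Sylow `p`-subgroup. -/
theorem involution_notMem_normalizer {p : ℕ} [hp : Fact p.Prime] (hp2 : p ≠ 2)
    (hab : ∀ H : Subgroup X, (Nat.card H).Coprime p → IsMulCommutative H)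
    (hconj : ∀ a b : X, orderOf a = 2 → orderOf b = 2 → IsConj a b)
    (htwo : ∃ a b : X, orderOf a = 2 ∧ orderOf b = 2 ∧ a ≠ b ∧ a * b = b * a)
    (R : Sylow p X) {t : X} (ht : orderOf t = 2) :
    t ∉ normalizer ((R : Subgroup X) : Set X) := by
  intro htR
  haveI := Fact.mk Nat.prime_two
  have h2p : Nat.Coprime 2 p := (Nat.coprime_primes Nat.prime_two hp.out).2 (Ne.symm hp2)
  set S : Sylow 2 X := default with hSdef
  obtain ⟨k, hk⟩ := IsPGroup.iff_card.1 S.2
  have hSp : (Nat.card (S : Subgroup X)).Coprime p := hk ▸ h2p.pow_left k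
  have hS : IsMulCommutative (S : Subgroup X) := hab _ hSp
  set O := Cfsg.pPrimeCore 2 X with hO
  set f := QuotientGroup.mk' O with hf
  obtain ⟨hlay, -⟩ := layer_spec S hS
  have hn := normal_image S hS
  have htS : f t ∈ (S : Subgroup X).map f := by
    have h := mem_map_of_mem f (hlay t ht)
    rwa [Subgroup.map_sup, show O.map f = ⊥ from QuotientGroup.map_mk'_self O, sup_bot_eq] at h
  set K := (centralizer ({f t} : Set (X ⧸ O))).comap f with hK
  -- the Sylow subgroup centralises the image of `t`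
  have hR : (R : Subgroup X) ≤ K := by
    intro r hr
    rw [hK, mem_comap, mem_centralizer_singleton_iff]
    have h1 : f t * f r * (f t)⁻¹ * (f r)⁻¹ ∈ (R : Subgroup X).map f := by
      refine ⟨t * r * t⁻¹ * r⁻¹, mul_mem ((mem_normalizer_iff.1 htR r).1 hr) (inv_mem hr), ?_⟩
      simp
    have h2 : f t * f r * (f t)⁻¹ * (f r)⁻¹ ∈ (S : Subgroup X).map f := by
      rw [show f t * f r * (f t)⁻¹ * (f r)⁻¹ = f t * (f r * (f t)⁻¹ * (f r)⁻¹) by group]
      exact mul_mem htS (hn.conj_mem _ (inv_mem htS) _)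
    obtain ⟨i, hi⟩ := IsPGroup.iff_card.1 (R.2.map f)
    obtain ⟨j, hj⟩ := IsPGroup.iff_card.1 (S.2.map f)
    have d1 := Subgroup.orderOf_dvd_natCard _ h1
    have d2 := Subgroup.orderOf_dvd_natCard _ h2
    rw [hi] at d1
    rw [hj] at d2
    have h3 := Nat.eq_one_of_dvd_coprimes ((h2p.pow j i).symm) d1 d2
    rw [orderOf_eq_one_iff, mul_inv_eq_one, mul_inv_eq_iff_eq_mul] at h3
    exact h3.symm
  -- a Hall subgroup of order prime to `p` centralises it too
  obtain ⟨H, hH, -⟩ := HallTheorem.exists_isPiHall_ge_of_solvable (G := X) (π := ({p}ᶜ : Set ℕ))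
    (U := ⊥) (by simpa using HallCore.piNat_one _)
  obtain ⟨hH1, hH2⟩ := HallTheorem.isPiHall_iff.1 hH
  rw [HallCore.piNat_compl_singleton_iff hp.out] at hH1
  rw [compl_compl] at hH2
  have hHab := hab H hH1
  have h2 : ¬ 2 ∣ H.index := fun h => hp2 (Set.mem_singleton_iff.1 (hH2 2 Nat.prime_two h)).symm
  obtain ⟨P⟩ : Nonempty (Sylow 2 ↥H) := inferInstance
  set Q : Sylow 2 X := (IsPGroup.map P.2 H.subtype).toSylow (by
    rw [← relIndex_top_right, ← relIndex_mul_relIndex _ H ⊤ (map_subtype_le _) le_top,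
      relIndex_top_right]
    intro h
    rcases (Nat.prime_two.dvd_mul).1 h with h | h
    · refine P.not_dvd_index ?_
      rwa [relIndex, subgroupOf, comap_map_eq_self_of_injective H.subtype_injective] at h
    · exact h2 h) with hQ
  obtain ⟨g, hg⟩ := MulAction.exists_smul_eq X S Q
  have hQH : (Q : Subgroup X) ≤ H := by
    rw [hQ]
    exact map_subtype_le _
  have htH : f t ∈ H.map f := by
    refine map_mono hQH ?_
    rw [← hg, Sylow.coe_subgroup_smul]
    obtain ⟨s, hs, hst⟩ := hn.conj_mem _ htS (f g)⁻¹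
    refine ⟨g * s * g⁻¹, ⟨s, hs, rfl⟩, ?_⟩
    rw [map_mul, map_mul, map_inv, hst]
    group
  have hHK : H ≤ K := by
    intro x hx
    rw [hK, mem_comap, mem_centralizer_singleton_iff]
    obtain ⟨t', ht', htt⟩ := htH
    rw [← htt, ← map_mul, ← map_mul, show x * t' = t' * x from
      congrArg Subtype.val (hHab.is_comm.comm ⟨x, hx⟩ ⟨t', ht'⟩)]
  have hKtop : K = ⊤ := by
    rw [← index_eq_one]
    by_contra hne
    obtain ⟨q, hq, hqd⟩ := Nat.exists_prime_and_dvd hne
    have := Set.mem_singleton_iff.1 (hH2 q hq (hqd.trans (index_dvd_of_le hHK)))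
    subst this
    exact R.not_dvd_index (hqd.trans (index_dvd_of_le hR))
  -- all involutions have the same image
  have himg : ∀ s : X, orderOf s = 2 → f s = f t := by
    intro s hs
    obtain ⟨c, hc⟩ := isConj_iff.1 (hconj t s ht hs)
    have hcK : c ∈ K := by rw [hKtop]; trivial
    rw [hK, mem_comap, mem_centralizer_singleton_iff] at hcK
    rw [← hc, map_mul, map_mul, hcK, map_inv, mul_inv_cancel_right]
  obtain ⟨a, b, ha, hb, hne, hc⟩ := htwo
  have hmem : a⁻¹ * b ∈ O := QuotientGroup.eq.1 ((himg a ha).trans (himg b hb).symm)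
  rw [SignalizerStrongEmb.involution_inv ha] at hmem
  have hsq : (a * b) * (a * b) = 1 := by
    rw [show (a * b) * (a * b) = a * (b * a) * b by group, ← hc,
      show a * (a * b) * b = (a * a) * (b * b) by group, SignalizerStrongEmb.involution_mul_self ha,
      SignalizerStrongEmb.involution_mul_self hb, one_mul]
  have hab1 : a * b ≠ 1 := fun h => hne
    ((eq_inv_of_mul_eq_one_left h).trans (SignalizerStrongEmb.involution_inv hb))
  refine HallCore.not_dvd_card_pPrimeCore 2 X ?_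
  have := Subgroup.orderOf_dvd_natCard _ hmem
  rwa [SignalizerStrongEmb.orderOf_eq_two_of_mul_self hsq hab1] at this

end Cfsg.Agent.PPrimeAbelian30
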