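import Mathlib
import Cfsg.Agent.Lib.SolvableCentInvol1
import Cfsg.Agent.Lib.TransferThompson
import Cfsg.Agent.Lib.NormalFourGroup
import Cfsg.Agent.Lib.MaxClassTwo
import Cfsg.Agent.Lib.HallSolvable

/-!
Groups with solvable centralizers of involutions: the case of a central involution `z` of a Sylow
2-subgroup `P` with `C(z) ≤ N(P)` which is not isolated in `P`, and the criterion for
characteristic 2 type.
-/

set_option autoImplicit false

namespace Cfsg.Agent.SolvCentInvol2

open Subgroup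
open scoped commutatorElement
open Cfsg.Agent.SolvCentInvol1
open Cfsg.Agent.SignalizerCoprime (elementaryAbelian_of_le)
open Cfsg.Agent.SignalizerStrongEmb (orderOf_conj involution_mul_self involution_ne_one
  orderOf_eq_two_of_mul_self)

universe u

variable {G : Type u} [Group G]

/-! ### Small elementary abelian groups -/

/-- The subgroup generated by two elements. -/
def pair (z t : G) : Subgroup G := closure {z, t}

theorem left_mem_pair (z t : G) : z ∈ pair z t := subset_closure (Set.mem_insert _ _)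

theorem right_mem_pair (z t : G) : t ∈ pair z t :=
  subset_closure (Set.mem_insert_of_mem _ rfl)

theorem pair_le {z t : G} {E : Subgroup G} (hz : z ∈ E) (ht : t ∈ E) : pair z t ≤ E := by
  rw [pair, Subgroup.closure_le]
  rintro x (rfl | rfl) <;> assumption

theorem eq_of_mem_pair {z t x : G} (hz : z * z = 1) (ht : t * t = 1) (hc : z * t = t * z)
    (hx : x ∈ pair z t) : x = 1 ∨ x = z ∨ x = t ∨ x = z * t := by
  have hz' : ∀ y, z * (z * y) = y := fun y => by rw [← mul_assoc, hz, one_mul]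
  have ht' : ∀ y, t * (t * y) = y := fun y => by rw [← mul_assoc, ht, one_mul]
  have htz : ∀ y, t * (z * y) = z * (t * y) := fun y => by rw [← mul_assoc, ← hc, mul_assoc]
  induction hx using closure_induction with
  | mem x hx => rcases hx with rfl | rfl <;> simp
  | one => simp
  | mul a b _ _ ha hb =>
    rcases ha with rfl | rfl | rfl | rfl <;> rcases hb with rfl | rfl | rfl | rfl <;>
      simp [mul_assoc, hz, ht, hz', ht', htz, ← hc]
  | inv a _ ha =>
    have hzi : z⁻¹ = z := inv_eq_of_mul_eq_one_right hz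
    have hti : t⁻¹ = t := inv_eq_of_mul_eq_one_right ht
    rcases ha with rfl | rfl | rfl | rfl <;> simp [hzi, hti, ← hc]

theorem eq_of_mem_zpowers {z x : G} (hz : z * z = 1) (hx : x ∈ zpowers z) : x = 1 ∨ x = z := by
  have := eq_of_mem_pair hz hz rfl (pair_le (left_mem_pair z z) (left_mem_pair z z)
    (zpowers_le.mpr (left_mem_pair z z) hx))
  rcases this with h | h | h | h
  · exact Or.inl h
  · exact Or.inr h
  · exact Or.inr h
  · exact Or.inl (h.trans hz)

theorem isElementaryAbelian_pair {z t : G} (hz : z * z = 1) (ht : t * t = 1) (hc : z * t = t * z) :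
    Cfsg.IsElementaryAbelian 2 (pair z t) :=
  PGroupsBasic.isElementaryAbelian_closure
    (by rintro x (rfl | rfl) y (rfl | rfl) <;> first | rfl | exact hc | exact hc.symm)
    (by rintro x (rfl | rfl) <;> rw [pow_two] <;> assumption)

theorem two_mul_card_le [Finite G] {E F : Subgroup G} (hle : F ≤ E) {y : G} (hy : y ∈ E)
    (hy' : y ∉ F) : 2 * Nat.card F ≤ Nat.card E := by
  obtain ⟨k, hk⟩ := card_dvd_of_le hle
  have hlt : Nat.card F < Nat.card E := by
    rcases lt_or_eq_of_le (Nat.le_of_dvd Nat.card_pos (card_dvd_of_le hle)) with h | h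
    · exact h
    · exact absurd (eq_of_le_of_card_ge hle h.ge ▸ hy) hy'
  have hk2 : 2 ≤ k := by
    rcases k with _ | _ | k
    · omega
    · omega
    · omega
  rw [hk, Nat.mul_comm]
  exact Nat.mul_le_mul_left _ hk2

theorem four_le_card_pair [Finite G] {z t : G} (hz : orderOf z = 2) (ht : orderOf t = 2)
    (hne : t ≠ z) : 4 ≤ Nat.card (pair z t) := by
  have h := two_mul_card_le (zpowers_le.mpr (left_mem_pair z t)) (right_mem_pair z t) fun h => by
    rcases eq_of_mem_zpowers (involution_mul_self hz) h with e | e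
    · exact involution_ne_one ht e
    · exact hne e
  rwa [Nat.card_zpowers, hz] at h

theorem eq_of_mem_four [Finite G] {E : Subgroup G} (hE : Cfsg.IsElementaryAbelian 2 E)
    (h4 : Nat.card E ≤ 4) {a b : G} (ha : a ∈ E) (hb : b ∈ E) (ha1 : a ≠ 1) (hb1 : b ≠ 1)
    (hab : b ≠ a) {x : G} (hx : x ∈ E) : x = 1 ∨ x = a ∨ x = b ∨ x = a * b := by
  have hao := SolvCentInvol1.orderOf_eq_two hE ha ha1
  have hbo := SolvCentInvol1.orderOf_eq_two hE hb hb1
  have h := eq_of_le_of_card_ge (pair_le ha hb) (h4.trans (four_le_card_pair hao hbo hab))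
  exact eq_of_mem_pair (involution_mul_self hao) (involution_mul_self hbo)
    (PGroupsBasic.comm_of_isMulCommutative hE.1 ha hb) (h ▸ hx)

theorem good_add [Finite G] {z y : G} {E : Subgroup G} (hE : Cfsg.IsElementaryAbelian 2 E)
    (hzE : z ∈ E) (h4 : 4 ≤ Nat.card E) (hy : orderOf y = 2) (hyE : y ∉ E)
    (hc : ∀ e ∈ E, e * y = y * e) :
    Good (zpowers z) (E ⊔ zpowers y) := by
  refine ⟨PGroupsBasic.isElementaryAbelian_sup hE
    (PGroupsBasic.isElementaryAbelian_zpowers (by rw [pow_two, involution_mul_self hy]))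
    fun e he => ?_, ?_, zpowers_le.mpr (mem_sup_left hzE)⟩
  · exact mem_centralizer_iff.mpr fun x hx => by
      obtain ⟨i, rfl⟩ := mem_zpowers_iff.mp hx
      exact ((show Commute y e from (hc e he).symm).zpow_left i).eq
  · have := two_mul_card_le (le_sup_left : E ≤ E ⊔ zpowers y)
      (mem_sup_right (mem_zpowers y)) hyE
    omega

theorem good_three [Finite G] {z t u : G} (hz : orderOf z = 2) (ht : orderOf t = 2)
    (hu : orderOf u = 2) (hzt : z * t = t * z) (hzu : z * u = u * z) (htu : t * u = u * t)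
    (hne : t ≠ z) (h1 : u ≠ z) (h2 : u ≠ t) (h3 : u ≠ z * t) :
    ∃ A, Good (zpowers z) A ∧ t ∈ A ∧ u ∈ A := by
  have hz' := involution_mul_self hz
  have ht' := involution_mul_self ht
  refine ⟨_, good_add (isElementaryAbelian_pair hz' ht' hzt) (left_mem_pair z t)
    (four_le_card_pair hz ht hne) hu (fun h => ?_) fun e he => ?_,
    mem_sup_left (right_mem_pair z t), mem_sup_right (mem_zpowers u)⟩
  · rcases eq_of_mem_pair hz' ht' hzt h with e | e | e | e
    · exact involution_ne_one hu e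
    · exact h1 e
    · exact h2 e
    · exact h3 e
  · rcases eq_of_mem_pair hz' ht' hzt he with rfl | rfl | rfl | rfl
    · simp
    · exact hzu
    · exact htu
    · rw [mul_assoc, htu, ← mul_assoc, hzu, mul_assoc]

variable [Finite G] {P : Sylow 2 G}

theorem mem_sylow_of_mem_normalizer {x : G} (hx : IsPGroup 2 (zpowers x))
    (h : x ∈ normalizer ((P : Subgroup G) : Set G)) : x ∈ (P : Subgroup G) :=
  (P.3 (hx.to_sup_of_normal_right' P.2 (zpowers_le.mpr h)) le_sup_right).le
    (mem_sup_left (mem_zpowers x))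

theorem isPGroup_zpowers_of_mem {x : G} (hx : x ∈ (P : Subgroup G)) : IsPGroup 2 (zpowers x) :=
  P.2.to_le (zpowers_le.mpr hx)

theorem isPGroup_zpowers_of_orderOf {x : G} (hx : orderOf x = 2) : IsPGroup 2 (zpowers x) :=
  IsPGroup.of_card (n := 1) (by rw [Nat.card_zpowers, hx, pow_one])

/-! ### Large centre -/

/-- The case `|Z| ≥ 4`. -/
theorem case_a (hs : SolvCent G) (hO : Cfsg.pPrimeCore 2 G = ⊥) {Z : Subgroup G}
    (hc : Central P Z) (h4 : 4 ≤ Nat.card Z)
    (hbig : 8 ≤ Nat.card Z ∨ ∃ t ∈ (P : Subgroup G), orderOf t = 2 ∧ t ∉ Z) :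
    (∃ M : Subgroup G, Cfsg.IsStronglyEmbedded M) ∨ ∀ t : G, orderOf t = 2 → th t = ⊥ := by
  have hgood : ∀ y ∈ (P : Subgroup G), orderOf y = 2 → y ∉ Z → Good Z (Z ⊔ zpowers y) := by
    intro y hyP hy hyZ
    have hy2 := involution_mul_self hy
    refine ⟨PGroupsBasic.isElementaryAbelian_sup hc.elem
      (PGroupsBasic.isElementaryAbelian_zpowers (by rw [pow_two, hy2]))
      fun e he => mem_centralizer_iff.mpr fun x hx => ?_, ?_, le_sup_left⟩
    · exact (hc.comm e he x (zpowers_le.mpr hyP hx)).symm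
    · have := two_mul_card_le (le_sup_left : Z ≤ Z ⊔ zpowers y)
        (mem_sup_right (mem_zpowers y)) hyZ
      omega
  obtain ⟨A0, hA0⟩ : ∃ A, Good Z A := by
    rcases hbig with h | ⟨t, htP, ht, htZ⟩
    · exact ⟨Z, hc.elem, h, le_rfl⟩
    · exact ⟨_, hgood t htP ht htZ⟩
  refine SolvCentInvol1.alternative hs hO hc (fun e => ?_) (fun A B hA hB => ?_) fun t htP ht => ?_
  · subst e; rw [Subgroup.card_bot] at h4; omega
  · rw [← (span_spec hs hA.elem hA.card).2.2 Z hA.le h4,
      (span_spec hs hB.elem hB.card).2.2 Z hB.le h4]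
  · by_cases htZ : t ∈ Z
    · exact ⟨A0, hA0, hA0.le htZ⟩
    · exact ⟨_, hgood t htP ht htZ, mem_sup_right (mem_zpowers t)⟩

/-! ### All involutions conjugate to `z` -/

variable {z : G}

theorem le_centralizer_singleton (hzc : ∀ x ∈ (P : Subgroup G), z * x = x * z) :
    (P : Subgroup G) ≤ centralizer ({z} : Set G) := fun x hx =>
  mem_centralizer_singleton_iff.mpr (hzc x hx).symm

theorem alternative_of_all_conj (hs : SolvCent G) (hO : Cfsg.pPrimeCore 2 G = ⊥)
    (hz : orderOf z = 2) (hzP : z ∈ (P : Subgroup G))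
    (hzc : ∀ x ∈ (P : Subgroup G), z * x = x * z)
    (hcent : centralizer ({z} : Set G) ≤ normalizer ((P : Subgroup G) : Set G))
    (hall : ∀ t : G, orderOf t = 2 → ∃ g : G, g * z * g⁻¹ = t) :
    (∃ M : Subgroup G, Cfsg.IsStronglyEmbedded M) ∨ ∀ t : G, orderOf t = 2 → th t = ⊥ := by
  haveI := Fact.mk Nat.prime_two
  set W := th z with hW
  have hWC : W ≤ centralizer {z} := SignalizerBasic.centralizerPPrimeCore_le 2 z
  have hodd : ¬ 2 ∣ Nat.card W := SignalizerBasic.not_dvd_card_centralizerPPrimeCore 2 z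
  have hPW : (P : Subgroup G) ≤ normalizer (W : Set G) := (le_centralizer_singleton hzc).trans
    (SignalizerBasic.centralizer_le_normalizer_centralizerPPrimeCore 2 z)
  have hcomm : ∀ w ∈ W, ∀ x ∈ (P : Subgroup G), w * x = x * w := by
    intro w hw x hx
    rw [← commutatorElement_eq_one_iff_mul_comm]
    have hd : W ⊓ (P : Subgroup G) = ⊥ := by
      refine disjoint_iff.mp (disjoint_of_coprime_natCard ?_)
      obtain ⟨k, hk⟩ := IsPGroup.iff_card.mp P.2
      rw [hk]
      exact (Nat.Coprime.pow_left k (Nat.prime_two.coprime_iff_not_dvd.mpr hodd)).symm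
    rw [← mem_bot, ← hd, commutatorElement_def]
    refine mem_inf.mpr ⟨?_, mul_mem ((mem_normalizer_iff.mp (hcent (hWC hw)) x).mp hx) (inv_mem hx)⟩
    have := mul_mem hw ((mem_normalizer_iff.mp (hPW hx) w⁻¹).mp (inv_mem hw))
    simpa [mul_assoc] using this
  have hcard : ∀ t, orderOf t = 2 → Nat.card (th t) = Nat.card W := fun t ht => by
    obtain ⟨g, rfl⟩ := hall t ht
    rw [th_conj, card_cj]
  have heq : ∀ t ∈ (P : Subgroup G), orderOf t = 2 → th t = W := by
    intro t htP ht
    refine (eq_of_le_of_card_ge (fun w hw => ?_) (hcard t ht).le).symm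
    exact SignalizerBasic.balance_of_solvable (isPGroup_zpowers_of_orderOf hz) (hzc t htP) (hs t ht)
      ⟨hw, mem_centralizer_singleton_iff.mpr (hcomm w hw t htP)⟩
  by_cases hWb : W = ⊥
  · refine Or.inr fun t ht => ?_
    obtain ⟨g, rfl⟩ := hall t ht
    rw [th_conj, ← hW, hWb, cj, Subgroup.map_bot]
  refine Or.inl ⟨normalizer (W : Set G), isStronglyEmbedded_of (fun e => ?_) hPW ⟨z, hzP, hz⟩
    fun t htP ht g hg => mem_normalizer_of_cj_eq ?_⟩
  · haveI : W.Normal := normalizer_eq_top_iff.mp e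
    exact hWb (le_bot_iff.mp (hO ▸ le_sSup
      ⟨inferInstance, (Nat.prime_two.coprime_iff_not_dvd.mpr hodd).symm⟩))
  · calc cj g W = cj g (th t) := by rw [heq t htP ht]
      _ = th (g * t * g⁻¹) := (th_conj g t).symm
      _ = W := heq _ hg (by rw [orderOf_conj, ht])

/-- A cyclic subgroup of index two makes all involutions conjugate. -/
theorem all_conj_of_cyclic (hnm : ∀ M : Subgroup G, M.Normal → M.index ≠ 2) (hz : orderOf z = 2)
    (honly : ∀ c ∈ (P : Subgroup G), orderOf c = 2 →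
      (∀ x ∈ (P : Subgroup G), c * x = x * c) → c = z)
    {C : Subgroup G} (hCP : C ≤ (P : Subgroup G)) (hC : IsCyclic C)
    (hCi : C.relIndex (P : Subgroup G) = 2) :
    ∀ t : G, orderOf t = 2 → ∃ g : G, g * z * g⁻¹ = t := by
  haveI := Fact.mk Nat.prime_two
  intro t ht
  obtain ⟨m, -, hm⟩ := exists_conj_mem (P := P) (M := ⊤) le_top ht (mem_top t)
  have ht' : orderOf (m * t * m⁻¹) = 2 := by rw [orderOf_conj, ht]
  obtain ⟨g, hg⟩ : ∃ g : G, g * (m * t * m⁻¹) * g⁻¹ ∈ C := by
    by_contra h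
    push Not at h
    obtain ⟨M, hM, hMi, -⟩ :=
      TransferThompson.thompson_transfer P C hCP hCi ht' hm h
    exact hnm M hM hMi
  set s := g * (m * t * m⁻¹) * g⁻¹ with hs
  have hso : orderOf s = 2 := by rw [hs, orderOf_conj, ht']
  haveI : (C.subgroupOf (P : Subgroup G)).Normal := normal_of_index_eq_two hCi
  have hcen : ∀ x ∈ (P : Subgroup G), s * x = x * s := by
    intro x hx
    have hs' : x * s * x⁻¹ ∈ C := mem_subgroupOf.mp ((inferInstance :
      (C.subgroupOf (P : Subgroup G)).Normal).conj_mem ⟨s, hCP hg⟩ (mem_subgroupOf.mpr hg) ⟨x, hx⟩)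
    by_contra hne
    have hne' : x * s * x⁻¹ ≠ s := fun e => hne (mul_inv_eq_iff_eq_mul.mp e).symm
    have hs'o : orderOf (x * s * x⁻¹) = 2 := by rw [orderOf_conj, hso]
    have hle := pair_le hg hs'
    have h1 := four_le_card_pair hso hs'o hne'
    haveI := hC
    have h2 : Nat.card (pair s (x * s * x⁻¹)) ≤ 2 := by
      refine PGroupsBasic.card_le_prime_of_isCyclic (isCyclic_of_le hle) fun a ha => ?_
      exact (isElementaryAbelian_pair (involution_mul_self hso) (involution_mul_self hs'o)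
        (PGroupsBasic.comm_of_isMulCommutative (inferInstance : IsMulCommutative C) hg hs')).2 a ha
    omega
  have hsz := honly s (hCP hg) hso hcen
  refine ⟨(g * m)⁻¹, ?_⟩
  rw [← hsz, hs]
  simp [mul_assoc]

/-- An index two criterion. -/
theorem mul_mem_of_relIndex_two {S0 K : Subgroup G} (h : S0.relIndex K = 2) {x y : G} (hx : x ∈ K)
    (hy : y ∈ K) (hiff : x ∈ S0 ↔ y ∈ S0) : x * y⁻¹ ∈ S0 := by
  have := (mul_mem_iff_of_index_two (show (S0.subgroupOf K).index = 2 from h)
    (a := ⟨x, hx⟩) (b := ⟨y, hy⟩⁻¹)).mpr (by simpa [mem_subgroupOf] using hiff)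
  simpa [mem_subgroupOf] using this

/-- A cyclic subgroup of index two from an element of half order. -/
theorem exists_cyclic_of_orderOf (x : ↥(P : Subgroup G))
    (hx : 2 * orderOf x = Nat.card ↥(P : Subgroup G)) :
    ∃ C : Subgroup G, C ≤ (P : Subgroup G) ∧ IsCyclic C ∧ C.relIndex (P : Subgroup G) = 2 := by
  refine ⟨zpowers (x : G), zpowers_le.mpr x.2, inferInstance, ?_⟩
  have h := (zpowers x).card_mul_index
  rw [Nat.card_zpowers, ← hx, Nat.mul_comm 2] at h
  have h2 := Nat.eq_of_mul_eq_mul_left (orderOf_pos x) h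
  rwa [show zpowers (x : G) = (zpowers x).map (P : Subgroup G).subtype from
    ((P : Subgroup G).subtype.map_zpowers x).symm, relIndex, subgroupOf,
    comap_map_eq_self_of_injective (P : Subgroup G).subtype_injective]

/-- The splitting lemma: a conjugate of `z` outside `S0` with small intersections forces a cyclic
subgroup of index two. -/
theorem split (hz : orderOf z = 2) (hzP : z ∈ (P : Subgroup G))
    (hcent : centralizer ({z} : Set G) ≤ normalizer ((P : Subgroup G) : Set G))
    (honly : ∀ c ∈ (P : Subgroup G), orderOf c = 2 →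
      (∀ x ∈ (P : Subgroup G), c * x = x * c) → c = z)
    (hzc : ∀ x ∈ (P : Subgroup G), z * x = x * z)
    {S0 : Subgroup G} (hS0P : S0 ≤ (P : Subgroup G)) (hS0 : S0.relIndex (P : Subgroup G) = 2)
    {g : G} (huP : g * z * g⁻¹ ∈ (P : Subgroup G)) (hne : g * z * g⁻¹ ≠ z)
    (hD0 : ∀ b ∈ S0, b ∈ cj g (P : Subgroup G) → orderOf b = 2 → b = z)
    (hD1 : ∀ b ∈ cj g S0, b ∈ (P : Subgroup G) → orderOf b = 2 → b = g * z * g⁻¹) :
    ∃ C : Subgroup G, C ≤ (P : Subgroup G) ∧ IsCyclic C ∧ C.relIndex (P : Subgroup G) = 2 := by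
  classical
  haveI := Fact.mk Nat.prime_two
  set u := g * z * g⁻¹ with hu
  have huo : orderOf u = 2 := by rw [hu, orderOf_conj, hz]
  set D : Subgroup G := (P : Subgroup G) ⊓ cj g (P : Subgroup G) with hD
  have huD : u ∈ D := ⟨huP, conj_mem_cj hzP⟩
  have hmemD : ∀ x ∈ (P : Subgroup G), x * u = u * x → x ∈ D := by
    intro x hxP hxu
    refine ⟨hxP, mem_cj.mpr (mem_sylow_of_mem_normalizer ?_ (hcent ?_))⟩
    · obtain ⟨k, hk⟩ := IsPGroup.iff_card.mp (isPGroup_zpowers_of_mem hxP)
      refine IsPGroup.of_card (n := k) ?_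
      rw [Nat.card_zpowers, ← hk, Nat.card_zpowers]
      simpa using orderOf_conj g⁻¹ x
    · rw [mem_centralizer_singleton_iff]
      calc g⁻¹ * x * g * z = g⁻¹ * (x * u) * g := by rw [hu]; group
        _ = g⁻¹ * (u * x) * g := by rw [hxu]
        _ = _ := by rw [hu]; group
  have hzD : z ∈ D := hmemD z hzP (hzc u huP)
  have hD4 : Nat.card D ≤ 4 := by
    let f : D → Bool × Bool := fun x => (decide ((x : G) ∈ S0), decide (g⁻¹ * (x : G) * g ∈ S0))
    have hinj : Function.Injective f := by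
      intro x y hxy
      simp only [f, Prod.mk.injEq, decide_eq_decide] at hxy
      have h0 := mul_mem_of_relIndex_two hS0 x.2.1 y.2.1 hxy.1
      have h1 : g⁻¹ * ((x : G) * (y : G)⁻¹) * g ∈ S0 := by
        have := mul_mem_of_relIndex_two hS0 (mem_cj.mp x.2.2) (mem_cj.mp y.2.2) hxy.2
        simpa [mul_assoc] using this
      by_contra hxy'
      have hne1 : (x : G) * (y : G)⁻¹ ≠ 1 := fun e => hxy' (Subtype.ext (mul_inv_eq_one.mp e))
      have hev : Even (Nat.card (zpowers ((x : G) * (y : G)⁻¹))) := by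
        obtain ⟨k, hk⟩ := IsPGroup.iff_card.mp (isPGroup_zpowers_of_mem (hS0P h0))
        rw [hk]
        refine (Nat.even_pow' ?_).mpr even_two
        rintro rfl
        rw [pow_zero, Nat.card_zpowers, orderOf_eq_one_iff] at hk
        exact hne1 hk
      obtain ⟨b, hb, hbo⟩ := SignalizerStrongEmb.exists_involution_of_even hev
      have hb0 : b ∈ S0 := zpowers_le.mpr h0 hb
      have hb1 : b ∈ cj g S0 := zpowers_le.mpr (mem_cj.mpr h1) hb
      have e0 := hD0 b hb0 (cj_mono hS0P hb1) hbo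
      have e1 := hD1 b hb1 (hS0P hb0) hbo
      exact hne (e1.symm.trans e0)
    have := Nat.card_le_card_of_injective f hinj
    simpa using this
  have hc4 := four_le_card_pair hz huo hne
  have hDeq : pair z u = D := eq_of_le_of_card_ge (pair_le hzD huD) (hD4.trans hc4)
  have hD4' : Nat.card D = 4 := le_antisymm hD4 (hDeq ▸ hc4)
  obtain ⟨n, hn⟩ := IsPGroup.iff_card.mp P.2
  have hself : centralizer ((D.subgroupOf (P : Subgroup G)) : Set ↥(P : Subgroup G)) =
      D.subgroupOf (P : Subgroup G) := by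
    ext x
    refine ⟨fun hx => mem_subgroupOf.mpr (hmemD x x.2 ?_), fun hx => mem_centralizer_iff.mpr fun y hy => ?_⟩
    · exact congrArg Subtype.val (mem_centralizer_iff.mp hx ⟨u, huP⟩ (mem_subgroupOf.mpr huD)).symm
    · refine Subtype.ext (PGroupsBasic.comm_of_isMulCommutative
        (isElementaryAbelian_pair (involution_mul_self hz) (involution_mul_self huo) (hzc u huP)).1 ?_ ?_)
      · rw [hDeq]; exact mem_subgroupOf.mp hy
      · rw [hDeq]; exact mem_subgroupOf.mp hx
  have hcardD : Nat.card (D.subgroupOf (P : Subgroup G)) = 2 ^ 2 := by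
    rw [Nat.card_congr (subgroupOfEquivOfLe (show D ≤ (P : Subgroup G) from inf_le_left)).toEquiv, hD4']
    norm_num
  have hclass := MaxClassTwo.class_of_self_centralizing (p := 2) n _ hn _ hcardD hself
  have hn3 : 3 ≤ n := by
    by_contra hlt
    have hle : Nat.card ↥(P : Subgroup G) ≤ 4 :=
      hn ▸ le_trans (Nat.pow_le_pow_right (by norm_num) (by omega : n ≤ 2)) (by norm_num)
    have hPD : D = (P : Subgroup G) := eq_of_le_of_card_ge inf_le_left (hle.trans hD4'.ge)
    refine hne (honly u huP huo fun x hx => ?_)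
    exact PGroupsBasic.comm_of_isMulCommutative
      (isElementaryAbelian_pair (involution_mul_self hz) (involution_mul_self huo) (hzc u huP)).1
      (right_mem_pair z u) (by rw [hDeq, hPD]; exact hx)
  obtain ⟨C, hC, hCi⟩ := MaxClassTwo.exists_cyclic_index_two n _ hn hn3 hclass
  refine ⟨C.map (P : Subgroup G).subtype, map_subtype_le _, ?_, ?_⟩
  · exact isCyclic_of_surjective _
      (equivMapOfInjective C _ (P : Subgroup G).subtype_injective).surjective
  · rw [relIndex, subgroupOf, comap_map_eq_self_of_injective (P : Subgroup G).subtype_injective, hCi]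

/-- The three involutions of a central four group containing a conjugate of `z`. -/
theorem all_conj_of_central_four (hz : orderOf z = 2) (hzP : z ∈ (P : Subgroup G))
    (hzc : ∀ x ∈ (P : Subgroup G), z * x = x * z)
    (hcent : centralizer ({z} : Set G) ≤ normalizer ((P : Subgroup G) : Set G)) {g : G}
    (huP : g * z * g⁻¹ ∈ (P : Subgroup G)) (hne : g * z * g⁻¹ ≠ z)
    (huc : ∀ x ∈ (P : Subgroup G), g * z * g⁻¹ * x = x * (g * z * g⁻¹))
    (hinv : ∀ t ∈ (P : Subgroup G), orderOf t = 2 →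
      t = z ∨ t = g * z * g⁻¹ ∨ t = z * (g * z * g⁻¹)) :
    ∀ t : G, orderOf t = 2 → ∃ h : G, h * z * h⁻¹ = t := by
  haveI := Fact.mk Nat.prime_two
  set u := g * z * g⁻¹ with hu
  have huo : orderOf u = 2 := by rw [hu, orderOf_conj, hz]
  have hgP : cj g (P : Subgroup G) = (P : Subgroup G) := by
    have h : cj g⁻¹ (P : Subgroup G) ≤ (P : Subgroup G) := by
      have hn : cj g⁻¹ (P : Subgroup G) ≤ normalizer ((P : Subgroup G) : Set G) := by
        refine le_trans (fun x hx => mem_centralizer_singleton_iff.mpr ?_) hcent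
        have h1 : u * (g * x * g⁻¹) = g * x * g⁻¹ * u :=
          huc _ (by simpa using mem_cj.mp hx)
        calc x * z = g⁻¹ * (g * x * g⁻¹ * u) * g := by rw [hu]; group
          _ = g⁻¹ * (u * (g * x * g⁻¹)) * g := by rw [h1]
          _ = _ := by rw [hu]; group
      exact le_sup_left.trans (P.3 ((P.2.map _).to_sup_of_normal_right' P.2 hn) le_sup_right).le
    have h' := eq_of_le_of_card_ge h (card_cj g⁻¹ (P : Subgroup G)).ge
    conv_lhs => rw [← h', cj_cj, mul_inv_cancel, cj_one]
  have hw : ∃ h : G, h * z * h⁻¹ = z * u := by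
    have hguP : g * u * g⁻¹ ∈ (P : Subgroup G) := hgP ▸ conj_mem_cj huP
    rcases hinv _ hguP (by rw [orderOf_conj, huo]) with h | h | h
    · exfalso
      obtain ⟨e, m, hm, hn⟩ := Nat.exists_eq_pow_mul_and_not_dvd (orderOf_pos g).ne' 2 (by norm_num)
      have hswap : ∀ k : ℕ, g ^ (2 * k + 1) * z * (g ^ (2 * k + 1))⁻¹ = u := by
        intro k
        induction k with
        | zero => simp [hu]
        | succ k ih =>
          calc g ^ (2 * (k + 1) + 1) * z * (g ^ (2 * (k + 1) + 1))⁻¹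
              = g * (g * (g ^ (2 * k + 1) * z * (g ^ (2 * k + 1))⁻¹) * g⁻¹) * g⁻¹ := by
                rw [show 2 * (k + 1) + 1 = 2 + (2 * k + 1) from by ring, pow_add, pow_two]
                simp [mul_assoc]
            _ = g * z * g⁻¹ := by rw [ih, h]
      obtain ⟨k, rfl⟩ := Nat.odd_iff.mpr (by omega : m % 2 = 1)
      have h2 : IsPGroup 2 (zpowers (g ^ (2 * k + 1))) := by
        refine IsPGroup.of_card (n := e) ?_
        rw [Nat.card_zpowers, orderOf_pow, hn, Nat.gcd_mul_left_left,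
          Nat.mul_div_cancel _ (by omega : 0 < 2 * k + 1)]
      have hgP' : g ^ (2 * k + 1) ∈ (P : Subgroup G) :=
        mem_sylow_of_mem_normalizer h2 (pow_mem (mem_normalizer_of_cj_eq hgP) _)
      have := hswap k
      rw [← hzc _ hgP', mul_inv_cancel_right] at this
      exact hne this.symm
    · exact absurd (mul_left_cancel (mul_right_cancel h)) (by simpa [hu] using hne)
    · exact ⟨g * g, by rw [← h, hu]; group⟩
  intro t ht
  obtain ⟨m, -, hm⟩ := exists_conj_mem (P := P) (M := ⊤) le_top ht (mem_top t)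
  obtain ⟨h, hh⟩ : ∃ h : G, h * z * h⁻¹ = m * t * m⁻¹ := by
    rcases hinv _ hm (by rw [orderOf_conj, ht]) with e | e | e
    · exact ⟨1, by simp [e]⟩
    · exact ⟨g, e.symm⟩
    · rw [e]; exact hw
  refine ⟨m⁻¹ * h, ?_⟩
  calc m⁻¹ * h * z * (m⁻¹ * h)⁻¹ = m⁻¹ * (h * z * h⁻¹) * m := by group
    _ = t := by rw [hh]; group

/-- The case of a unique central involution of `P` and a non-isolated one. -/
theorem case_unique (hs : SolvCent G) (hO : Cfsg.pPrimeCore 2 G = ⊥)
    (hnm : ∀ M : Subgroup G, M.Normal → M.index ≠ 2)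
    (hz : orderOf z = 2) (hzP : z ∈ (P : Subgroup G))
    (hzc : ∀ x ∈ (P : Subgroup G), z * x = x * z)
    (hcent : centralizer ({z} : Set G) ≤ normalizer ((P : Subgroup G) : Set G))
    (honly : ∀ c ∈ (P : Subgroup G), orderOf c = 2 →
      (∀ x ∈ (P : Subgroup G), c * x = x * c) → c = z)
    {g0 : G} (hu0P : g0 * z * g0⁻¹ ∈ (P : Subgroup G)) (hu0z : g0 * z * g0⁻¹ ≠ z) :
    (∃ M : Subgroup G, Cfsg.IsStronglyEmbedded M) ∨ ∀ t : G, orderOf t = 2 → th t = ⊥ := by
  haveI := Fact.mk Nat.prime_two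
  by_cases hcyc : ∃ C : Subgroup G, C ≤ (P : Subgroup G) ∧ IsCyclic C ∧
      C.relIndex (P : Subgroup G) = 2
  · obtain ⟨C, hCP, hC, hCi⟩ := hcyc
    exact alternative_of_all_conj hs hO hz hzP hzc hcent (all_conj_of_cyclic hnm hz honly hCP hC hCi)
  set u0 := g0 * z * g0⁻¹ with hu0
  have hu0o : orderOf u0 = 2 := by rw [hu0, orderOf_conj, hz]
  have hz2 := involution_mul_self hz
  -- a normal four group
  obtain ⟨U, hU, hUP, hU4, hzU, hUn⟩ : ∃ U : Subgroup G, Cfsg.IsElementaryAbelian 2 U ∧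
      U ≤ (P : Subgroup G) ∧ Nat.card U = 4 ∧ z ∈ U ∧
      ∀ x ∈ (P : Subgroup G), ∀ y ∈ U, x * y * x⁻¹ ∈ U := by
    rcases NormalFourGroup.four_or_special (G := ↥(P : Subgroup G)) P.2 with
      ⟨E, hEn, hE4, hE⟩ | h | ⟨m, ⟨e⟩⟩ | ⟨m, ⟨e⟩⟩ | ⟨n, hn, hcard, x, y, hx, -, -⟩
    · refine ⟨E.map (P : Subgroup G).subtype, PGroupsBasic.isElementaryAbelian_map_hom hE _,
        map_subtype_le _, by rw [card_map_of_injective (P : Subgroup G).subtype_injective, hE4],
        ?_, ?_⟩
      · haveI := hEn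
        have hne : E ≠ ⊥ := fun e => by rw [e, Subgroup.card_bot] at hE4; omega
        obtain ⟨c, hc, hc1⟩ := (bot_or_exists_ne_one (E ⊓ center ↥(P : Subgroup G))).resolve_left
          (PGroupsBasic.inf_center_ne_bot P.2 hne)
        have hco : orderOf c = 2 := SolvCentInvol1.orderOf_eq_two hE hc.1 hc1
        have hcz := honly c c.2 (by rw [Subgroup.orderOf_coe, hco]) fun x hx =>
          congrArg Subtype.val (mem_center_iff.mp hc.2 ⟨x, hx⟩).symm
        exact ⟨c, hc.1, hcz⟩
      · rintro x hx _ ⟨y, hy, rfl⟩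
        exact ⟨_, hEn.conj_mem y hy ⟨x, hx⟩, rfl⟩
    · exfalso
      have hle := pair_le hzP hu0P
      have h1 := four_le_card_pair hz hu0o hu0z
      haveI := h
      have h2 : Nat.card (pair z u0) ≤ 2 :=
        PGroupsBasic.card_le_prime_of_isCyclic (isCyclic_of_le hle) fun a ha =>
          (isElementaryAbelian_pair hz2 (involution_mul_self hu0o) (hzc u0 hu0P)).2 a ha
      omega
    · refine absurd (exists_cyclic_of_orderOf (e.symm (DihedralGroup.r 1)) ?_) hcyc
      rw [MulEquiv.orderOf_eq, DihedralGroup.orderOf_r_one, Nat.card_congr e.toEquiv,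
        DihedralGroup.nat_card]
    · refine absurd (exists_cyclic_of_orderOf (e.symm (QuaternionGroup.a 1)) ?_) hcyc
      have hm : NeZero m := ⟨by
        rintro rfl
        haveI : Finite (QuaternionGroup 0) := Finite.of_equiv _ e.toEquiv
        have := orderOf_pos (QuaternionGroup.a 1 : QuaternionGroup 0)
        rw [QuaternionGroup.orderOf_a_one] at this
        omega⟩
      rw [MulEquiv.orderOf_eq, QuaternionGroup.orderOf_a_one, Nat.card_congr e.toEquiv,
        Nat.card_eq_fintype_card, QuaternionGroup.card]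
      ring
    · refine absurd (exists_cyclic_of_orderOf x ?_) hcyc
      rw [hx, hcard, pow_succ]
      ring
  obtain ⟨a, haU, ha1, haz⟩ : ∃ a ∈ U, a ≠ 1 ∧ a ≠ z := by
    by_contra h
    push Not at h
    have hle : U ≤ zpowers z := fun a ha => by
      by_cases ha1 : a = 1
      · rw [ha1]; exact one_mem _
      · rw [h a ha ha1]; exact mem_zpowers z
    have := card_le_of_le hle
    rw [hU4, Nat.card_zpowers, hz] at this
    omega
  have hao := SolvCentInvol1.orderOf_eq_two hU haU ha1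
  have hmem4 : ∀ x ∈ U, x = 1 ∨ x = z ∨ x = a ∨ x = z * a := fun x hx =>
    eq_of_mem_four hU hU4.le hzU haU (involution_ne_one hz) ha1 haz hx
  have hact : ∀ x ∈ (P : Subgroup G), x * a * x⁻¹ = a ∨ x * a * x⁻¹ = z * a := by
    intro x hx
    rcases hmem4 _ (hUn x hx a haU) with h | h | h | h
    · exact absurd (conj_eq_one_iff.mp h) ha1
    · exfalso
      refine haz ?_
      calc a = x⁻¹ * (x * a * x⁻¹) * x := by group
        _ = x⁻¹ * (z * x) := by rw [h, mul_assoc]
        _ = z := by rw [hzc x hx, inv_mul_cancel_left]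
    · exact Or.inl h
    · exact Or.inr h
  set S0 : Subgroup G := (P : Subgroup G) ⊓ centralizer (U : Set G) with hS0
  have hS0P : S0 ≤ (P : Subgroup G) := inf_le_left
  have hS0iff : ∀ x ∈ (P : Subgroup G), (x ∈ S0 ↔ x * a * x⁻¹ = a) := by
    intro x hx
    refine ⟨fun h => ?_, fun h => ⟨hx, mem_centralizer_iff.mpr fun y hy => ?_⟩⟩
    · rw [← mem_centralizer_iff.mp h.2 a haU, mul_inv_cancel_right]
    · have ha' : a * x = x * a := (mul_inv_eq_iff_eq_mul.mp h).symm
      rcases hmem4 y hy with rfl | rfl | rfl | rfl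
      · simp
      · exact hzc x hx
      · exact ha'
      · rw [mul_assoc, ha', ← mul_assoc, hzc x hx, mul_assoc]
  obtain ⟨x0, hx0, hx0a⟩ : ∃ x ∈ (P : Subgroup G), x * a * x⁻¹ = z * a := by
    by_contra h
    push Not at h
    exact haz (honly a (hUP haU) hao fun x hx =>
      ((mul_inv_eq_iff_eq_mul.mp ((hact x hx).resolve_right (h x hx))).symm))
  have hza : z * a ≠ a := fun h => involution_ne_one hz (mul_eq_right.mp h)
  have hS0i : S0.relIndex (P : Subgroup G) = 2 := by
    rw [relIndex, index_eq_two_iff]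
    refine ⟨⟨x0, hx0⟩, fun b => ?_⟩
    simp only [mem_subgroupOf, Subgroup.coe_mul]
    rw [hS0iff _ (mul_mem b.2 hx0), hS0iff _ b.2, xor_iff_iff_not]
    have e : (b : G) * x0 * a * ((b : G) * x0)⁻¹ = z * ((b : G) * a * (b : G)⁻¹) := by
      calc (b : G) * x0 * a * ((b : G) * x0)⁻¹ = (b : G) * (x0 * a * x0⁻¹) * (b : G)⁻¹ := by group
        _ = (b : G) * z * a * (b : G)⁻¹ := by rw [hx0a, mul_assoc (b : G) z a]
        _ = z * (b : G) * a * (b : G)⁻¹ := by rw [hzc _ b.2]
        _ = _ := by group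
    rw [e]
    rcases hact b b.2 with h | h
    · rw [h]; simp [hza]
    · rw [h, ← mul_assoc, hz2, one_mul]; simp [hza]
  have hzS0 : z ∈ S0 := ⟨hzP, mem_centralizer_iff.mpr fun y hy => (hzc y (hUP hy)).symm⟩
  have hUS0 : U ≤ S0 := fun y hy => ⟨hUP hy, mem_centralizer_iff.mpr fun x hx =>
    PGroupsBasic.comm_of_isMulCommutative hU.1 hx hy⟩
  have hcz : ∀ {x : G}, orderOf x = 2 → x * z = z * x → x ∈ (P : Subgroup G) := fun hx hxz =>
    mem_sylow_of_mem_normalizer (isPGroup_zpowers_of_orderOf hx)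
      (hcent (mem_centralizer_singleton_iff.mpr hxz))
  have hgoodU : ∀ y ∈ S0, orderOf y = 2 → y ∉ U → Good (zpowers z) (U ⊔ zpowers y) :=
    fun y hy hyo hyU => good_add hU hzU hU4.ge hyo hyU fun e he => mem_centralizer_iff.mp hy.2 e he
  have htrans : ∀ t ∈ (P : Subgroup G), orderOf t = 2 → ∃ h : G, h * t * h⁻¹ ∈ S0 := by
    intro t htP ht
    by_contra h
    push Not at h
    obtain ⟨M, hM, hMi, -⟩ := TransferThompson.thompson_transfer P S0 hS0P hS0i ht htP h
    exact hnm M hM hMi
  by_cases hex : ∃ A, Good (zpowers z) A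
  swap
  · -- no large elementary subgroup: all involutions of `S0` lie in `U`
    push Not at hex
    have hinU : ∀ y ∈ S0, orderOf y = 2 → y ∈ U := fun y hy hyo => by
      by_contra h; exact hex _ (hgoodU y hy hyo h)
    have hzaz : ∃ h : G, h * z * h⁻¹ = a := by
      have key : ∀ b ∈ U, b ≠ z → (∃ h : G, h * z * h⁻¹ = b) → b ≠ 1 → ∃ h : G, h * z * h⁻¹ = a := by
        rintro b hb hbz ⟨h, hh⟩ hb1
        rcases hmem4 b hb with e | e | e | e
        · exact absurd e hb1
        · exact absurd e hbz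
        · exact ⟨h, hh.trans e⟩
        · refine ⟨x0⁻¹ * h, ?_⟩
          calc x0⁻¹ * h * z * (x0⁻¹ * h)⁻¹ = x0⁻¹ * (h * z * h⁻¹) * x0 := by group
            _ = x0⁻¹ * (x0 * a * x0⁻¹) * x0 := by rw [hh, e, hx0a]
            _ = a := by group
      by_cases hu0S : u0 ∈ S0
      · exact key u0 (hinU _ hu0S hu0o) hu0z ⟨g0, rfl⟩ (involution_ne_one hu0o)
      by_cases hzS : z ∈ cj g0 S0
      · have hbo : orderOf (g0⁻¹ * z * g0) = 2 := by simpa using (orderOf_conj g0⁻¹ z).trans hz
        refine key _ (hinU _ (mem_cj.mp hzS) hbo) (fun e => hu0z ?_) ⟨g0⁻¹, by simp⟩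
          (involution_ne_one hbo)
        calc u0 = g0 * (g0⁻¹ * z * g0) * g0⁻¹ := by rw [e]
          _ = z := by group
      exfalso
      refine hcyc (split hz hzP hcent honly hzc hS0P hS0i hu0P hu0z (fun b hb hbg hbo => ?_)
        fun b hb hbP hbo => ?_)
      · -- `b` commutes with `u0`
        have hbu : u0 * b = b * u0 := by
          obtain ⟨w, hw, rfl⟩ := hbg
          show u0 * (g0 * w * g0⁻¹) = g0 * w * g0⁻¹ * u0
          calc u0 * (g0 * w * g0⁻¹) = g0 * (z * w) * g0⁻¹ := by rw [hu0]; group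
            _ = g0 * (w * z) * g0⁻¹ := by rw [hzc w hw]
            _ = _ := by rw [hu0]; group
        rcases hmem4 b (hinU b hb hbo) with e | e | e | e
        · exact absurd e (involution_ne_one hbo)
        · exact e
        · refine absurd ((hS0iff u0 hu0P).mpr ?_) hu0S
          rw [← e, hbu, mul_inv_cancel_right]
        · refine absurd ((hS0iff u0 hu0P).mpr ?_) hu0S
          have ha' : a = z * b := by rw [e, ← mul_assoc, hz2, one_mul]
          rw [ha', ← mul_assoc, ← hzc u0 hu0P, mul_assoc z u0 b, hbu, ← mul_assoc,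
            mul_inv_cancel_right]
      · -- `b` is the conjugate of an involution of `U`
        have hb' : g0⁻¹ * b * g0 ∈ S0 := mem_cj.mp hb
        have hbo' : orderOf (g0⁻¹ * b * g0) = 2 := by simpa using (orderOf_conj g0⁻¹ b).trans hbo
        by_contra hne
        have hwz : g0⁻¹ * b * g0 ≠ z := fun e => hne (by rw [← e]; group)
        set w := g0⁻¹ * z * g0 with hw
        have hwo : orderOf w = 2 := by simpa [hw] using (orderOf_conj g0⁻¹ z).trans hz
        have hwP : w ∈ (P : Subgroup G) := hcz hwo (by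
          calc w * z = g0⁻¹ * (z * u0) * g0 := by rw [hw, hu0]; group
            _ = g0⁻¹ * (u0 * z) * g0 := by rw [hzc u0 hu0P]
            _ = _ := by rw [hw, hu0]; group)
        have hwb : w * (g0⁻¹ * b * g0) = g0⁻¹ * b * g0 * w := by
          calc w * (g0⁻¹ * b * g0) = g0⁻¹ * (z * b) * g0 := by rw [hw]; group
            _ = g0⁻¹ * (b * z) * g0 := by rw [hzc b hbP]
            _ = _ := by rw [hw]; group
        refine hzS (mem_cj.mpr ((hS0iff w hwP).mpr ?_))
        rcases hmem4 _ (hinU _ hb' hbo') with e | e | e | e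
        · exact absurd e (involution_ne_one hbo')
        · exact absurd e hwz
        · rw [← e, hwb, mul_inv_cancel_right]
        · have ha' : a = z * (g0⁻¹ * b * g0) := by rw [e, ← mul_assoc, hz2, one_mul]
          rw [ha', ← mul_assoc, ← hzc w hwP, mul_assoc z w, hwb, ← mul_assoc,
            mul_inv_cancel_right]
    refine alternative_of_all_conj hs hO hz hzP hzc hcent fun t ht => ?_
    obtain ⟨m, -, hm⟩ := exists_conj_mem (P := P) (M := ⊤) le_top ht (mem_top t)
    obtain ⟨h, hh⟩ := htrans _ hm (by rw [orderOf_conj, ht])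
    have hso : orderOf (h * (m * t * m⁻¹) * h⁻¹) = 2 := by rw [orderOf_conj, orderOf_conj, ht]
    obtain ⟨k, hk⟩ : ∃ k : G, k * z * k⁻¹ = h * (m * t * m⁻¹) * h⁻¹ := by
      obtain ⟨k, hk⟩ := hzaz
      rcases hmem4 _ (hinU _ hh hso) with e | e | e | e
      · exact absurd e (involution_ne_one hso)
      · exact ⟨1, by rw [e]; group⟩
      · exact ⟨k, hk.trans e.symm⟩
      · refine ⟨x0 * k, ?_⟩
        calc x0 * k * z * (x0 * k)⁻¹ = x0 * (k * z * k⁻¹) * x0⁻¹ := by group
          _ = _ := by rw [hk, hx0a, e]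
    refine ⟨(h * m)⁻¹ * k, ?_⟩
    calc (h * m)⁻¹ * k * z * ((h * m)⁻¹ * k)⁻¹ = (h * m)⁻¹ * (k * z * k⁻¹) * (h * m) := by group
      _ = t := by rw [hk]; group
  obtain ⟨A0, hA0⟩ := hex
  have hCentral : Central P (zpowers z) := by
    refine ⟨PGroupsBasic.isElementaryAbelian_zpowers (by rw [pow_two, hz2]), zpowers_le.mpr hzP,
      fun w hw x hx => ?_, fun c hc => hcent (mem_centralizer_singleton_iff.mpr
        (mem_centralizer_iff.mp hc z (mem_zpowers z)).symm)⟩
    obtain ⟨i, rfl⟩ := mem_zpowers_iff.mp hw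
    exact ((show Commute z x from hzc x hx).zpow_left i).eq
  have hAS : ∀ A, Good (zpowers z) A → 4 ≤ Nat.card (A ⊓ S0 : Subgroup G) := by
    intro A hA
    have hAP := good_le hCentral hA
    have h1 : S0.relIndex A ≤ 2 :=
      (relIndex_le_of_le_right hAP (by rw [hS0i]; norm_num)).trans hS0i.le
    have h2 := (S0.subgroupOf A).card_mul_index
    have h3 : Nat.card (A ⊓ S0 : Subgroup G) = Nat.card (S0.subgroupOf A) := by
      rw [← Nat.card_congr (subgroupOfEquivOfLe (inf_le_left : A ⊓ S0 ≤ A)).toEquiv,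
        inf_subgroupOf_left]
    have h4 := hA.card
    rw [← h2, ← relIndex] at h4
    rw [h3]
    have h5 := Nat.mul_le_mul_left (Nat.card (S0.subgroupOf A)) h1
    omega
  have hB0 : ∀ A, Good (zpowers z) A → Good (zpowers z) (U ⊔ (A ⊓ S0)) ∨ U ≤ A := by
    intro A hA
    by_cases h : ∃ y ∈ A ⊓ S0, y ∉ U
    · obtain ⟨y, hy, hyU⟩ := h
      refine Or.inl ⟨PGroupsBasic.isElementaryAbelian_sup hU
        (elementaryAbelian_of_le hA.elem inf_le_left) fun e he => mem_centralizer_iff.mpr fun x hx =>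
          (mem_centralizer_iff.mp hx.2.2 e he).symm, ?_, zpowers_le.mpr (mem_sup_left hzU)⟩
      have := two_mul_card_le (le_sup_left : U ≤ U ⊔ (A ⊓ S0)) (mem_sup_right hy) hyU
      omega
    · push Not at h
      refine Or.inr ?_
      have := eq_of_le_of_card_ge (show A ⊓ S0 ≤ U from h) (hU4.le.trans (hAS A hA))
      rw [← this]; exact inf_le_left
  have hlink : ∀ A, Good (zpowers z) A → span A = span U := by
    intro A hA
    rcases hB0 A hA with h | h
    · rw [← (span_spec hs hA.elem hA.card).2.2 (A ⊓ S0) inf_le_left (hAS A hA),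
        (span_spec hs h.elem h.card).2.2 (A ⊓ S0) le_sup_right (hAS A hA),
        (span_spec hs h.elem h.card).2.2 U le_sup_left hU4.ge]
    · exact ((span_spec hs hA.elem hA.card).2.2 U h hU4.ge).symm
  refine SolvCentInvol1.alternative hs hO hCentral (fun e => ?_)
    (fun A B hA hB => (hlink A hA).trans (hlink B hB).symm) ?_
  · exact involution_ne_one hz (mem_bot.mp (e ▸ mem_zpowers z))
  have hconn0 : ∀ y ∈ S0, orderOf y = 2 → ∃ A, Good (zpowers z) A ∧ y ∈ A := by
    intro y hy hyo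
    by_cases hyU : y ∈ U
    · rcases hB0 A0 hA0 with h | h
      · exact ⟨_, h, mem_sup_left hyU⟩
      · exact ⟨A0, hA0, h hyU⟩
    · exact ⟨_, hgoodU y hy hyo hyU, mem_sup_right (mem_zpowers y)⟩
  intro t htP ht
  by_cases htS : t ∈ S0
  · exact hconn0 t htS ht
  obtain ⟨h, hh⟩ := htrans t htP ht
  obtain ⟨A, hA, htA⟩ := hconn0 _ hh (by rw [orderOf_conj, ht])
  have htA' : t ∈ cj h⁻¹ A := mem_cj.mpr (by simpa using htA)
  set C := centralizer ({t} : Set G) with hC
  have hAC : cj h⁻¹ A ≤ C := fun b hb => mem_centralizer_singleton_iff.mpr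
    (PGroupsBasic.comm_of_isMulCommutative (isElementaryAbelian_cj hA.elem).1 hb htA')
  have hpC : pair z t ≤ C := pair_le (mem_centralizer_singleton_iff.mpr (hzc t htP))
    (mem_centralizer_singleton_iff.mpr rfl)
  obtain ⟨T, hT⟩ := ((PGroupsBasic.isPGroup_of_isElementaryAbelian
    (isElementaryAbelian_pair hz2 (involution_mul_self ht) (hzc t htP))).of_equiv
    (subgroupOfEquivOfLe hpC).symm).exists_le_sylow
  obtain ⟨T', hT'⟩ := ((PGroupsBasic.isPGroup_of_isElementaryAbelian
    (isElementaryAbelian_cj (g := h⁻¹) hA.elem)).of_equiv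
    (subgroupOfEquivOfLe hAC).symm).exists_le_sylow
  obtain ⟨c, hc⟩ := MulAction.exists_smul_eq C T' T
  obtain ⟨g, hg⟩ := exists_sylow_ge (P := P) (T.2.map C.subtype)
  have hA' : cj (c : G) (cj h⁻¹ A) ≤ cj g (P : Subgroup G) := by
    rintro _ ⟨b, hb, rfl⟩
    refine hg ⟨c * ⟨b, hAC hb⟩ * c⁻¹, ?_, by simp⟩
    rw [SetLike.mem_coe, ← hc, Sylow.coe_subgroup_smul, mem_pointwise_smul_iff_inv_smul_mem]
    have := hT' (mem_subgroupOf.mpr hb : (⟨b, hAC hb⟩ : C) ∈ (cj h⁻¹ A).subgroupOf C)
    simpa [mul_assoc] using this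
  have hzg : z ∈ cj g (P : Subgroup G) :=
    hg ⟨⟨z, hpC (left_mem_pair z t)⟩, hT (mem_subgroupOf.mpr (left_mem_pair z t)), rfl⟩
  have htA'' : t ∈ cj (c : G) (cj h⁻¹ A) := by
    refine mem_cj.mpr ?_
    have hct : (c : G) * t = t * (c : G) := mem_centralizer_singleton_iff.mp c.2
    rwa [mul_assoc, ← hct, inv_mul_cancel_left]
  have htg : t ∈ cj g (P : Subgroup G) := hA' htA''
  set u := g * z * g⁻¹ with hu
  have hucomm : ∀ x ∈ cj g (P : Subgroup G), u * x = x * u := by
    rintro _ ⟨w, hw, rfl⟩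
    show u * (g * w * g⁻¹) = g * w * g⁻¹ * u
    calc u * (g * w * g⁻¹) = g * (z * w) * g⁻¹ := by rw [hu]; group
      _ = g * (w * z) * g⁻¹ := by rw [hzc w hw]
      _ = _ := by rw [hu]; group
  have hel := isElementaryAbelian_cj (g := (c : G)) (isElementaryAbelian_cj (g := h⁻¹) hA.elem)
  by_cases huz : u = z
  · refine ⟨_ ⊔ zpowers z, ⟨PGroupsBasic.isElementaryAbelian_sup hel hCentral.elem
      fun x hx => mem_centralizer_iff.mpr fun w hw => ?_, ?_, le_sup_right⟩, mem_sup_left htA''⟩
    · obtain ⟨i, rfl⟩ := mem_zpowers_iff.mp hw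
      exact ((show Commute z x from huz ▸ hucomm x (hA' hx)).zpow_left i).eq
    · exact le_trans (by rw [card_cj, card_cj]; exact hA.card) (card_le_of_le le_sup_left)
  have huo : orderOf u = 2 := by rw [hu, orderOf_conj, hz]
  have huzc : u * z = z * u := hucomm z hzg
  have huP : u ∈ (P : Subgroup G) := hcz huo huzc
  have htz : t ≠ z := fun e => htS (e ▸ hzS0)
  by_cases huGood : ∃ B, Good (zpowers z) B ∧ u ∈ B
  · obtain ⟨B, hB, huB⟩ := huGood
    by_cases hu1 : u = t
    · exact ⟨B, hB, hu1 ▸ huB⟩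
    by_cases hu2 : u = z * t
    · refine ⟨B, hB, ?_⟩
      have hmem := mul_mem (hB.le (mem_zpowers z)) huB
      rwa [hu2, ← mul_assoc, hz2, one_mul] at hmem
    obtain ⟨B', hB', htB', -⟩ := good_three hz ht huo (hzc t htP) huzc.symm (hucomm t htg).symm htz
      huz hu1 hu2
    exact ⟨B', hB', htB'⟩
  by_cases hu1 : u = t ∨ u = z * t
  swap
  · push Not at hu1
    obtain ⟨B', hB', htB', -⟩ := good_three hz ht huo (hzc t htP) huzc.symm (hucomm t htg).symm htz
      huz hu1.1 hu1.2
    exact ⟨B', hB', htB'⟩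
  exfalso
  have huS : u ∉ S0 := by
    rcases hu1 with e | e
    · exact e ▸ htS
    · intro hS
      have hmem := mul_mem hzS0 hS
      rw [e, ← mul_assoc, hz2, one_mul] at hmem
      exact htS hmem
  have hnot : z ∉ cj g S0 := by
    intro hz'
    obtain ⟨B, hB, hwB⟩ := hconn0 _ (mem_cj.mp hz')
      (by simpa using (orderOf_conj g⁻¹ z).trans hz)
    refine huGood ⟨cj g B, ⟨isElementaryAbelian_cj hB.elem, ?_, zpowers_le.mpr (mem_cj.mpr hwB)⟩,
      conj_mem_cj (hB.le (mem_zpowers z))⟩
    rw [card_cj]; exact hB.card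
  have hzu : z ≠ u := Ne.symm huz
  refine hcyc (split hz hzP hcent honly hzc hS0P hS0i huP huz (fun b hb hbg hbo => ?_)
    fun b hb hbP hbo => ?_)
  · by_contra hbz
    by_cases hbu : b = u
    · exact huS (hbu ▸ hb)
    by_cases hbzu : b = z * u
    · exact huS (by
        have hmem := mul_mem hzS0 hb
        rwa [hbzu, ← mul_assoc, hz2, one_mul] at hmem)
    obtain ⟨B, hB, huB, -⟩ := good_three hz huo hbo huzc.symm (hzc b (hS0P hb)) (hucomm b hbg) huz
      hbz hbu hbzu
    exact huGood ⟨B, hB, huB⟩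
  · by_contra hbu
    by_cases hbz : b = z
    · exact hnot (hbz ▸ hb)
    by_cases hbzu : b = z * u
    · refine hnot ?_
      have hmem := mul_mem hb (conj_mem_cj hzS0 : u ∈ cj g S0)
      rwa [hbzu, mul_assoc, involution_mul_self huo, mul_one] at hmem
    obtain ⟨B, hB, huB, -⟩ := good_three hz huo hbo huzc.symm (hzc b hbP)
      (hucomm b (cj_mono hS0P hb)) huz hbz hbu hbzu
    exact huGood ⟨B, hB, huB⟩

/-- The case of a non-isolated central involution `z`. -/
theorem case_b (hs : SolvCent G) (hO : Cfsg.pPrimeCore 2 G = ⊥)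
    (hnm : ∀ M : Subgroup G, M.Normal → M.index ≠ 2)
    (hz : orderOf z = 2) (hzP : z ∈ (P : Subgroup G))
    (hzc : ∀ x ∈ (P : Subgroup G), z * x = x * z)
    (hcent : centralizer ({z} : Set G) ≤ normalizer ((P : Subgroup G) : Set G))
    {g : G} (huP : g * z * g⁻¹ ∈ (P : Subgroup G)) (huz : g * z * g⁻¹ ≠ z) :
    (∃ M : Subgroup G, Cfsg.IsStronglyEmbedded M) ∨ ∀ t : G, orderOf t = 2 → th t = ⊥ := by
  by_cases honly : ∀ c ∈ (P : Subgroup G), orderOf c = 2 →
      (∀ x ∈ (P : Subgroup G), c * x = x * c) → c = z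
  · exact case_unique hs hO hnm hz hzP hzc hcent honly huP huz
  push Not at honly
  obtain ⟨c, hcP, hc, hcc, hcz⟩ := honly
  have hz2 := involution_mul_self hz
  have hc2 := involution_mul_self hc
  have hcomm := hzc c hcP
  have hel := isElementaryAbelian_pair hz2 hc2 hcomm
  have hpc : ∀ w ∈ pair z c, ∀ x ∈ (P : Subgroup G), w * x = x * w := by
    intro w hw x hx
    rcases eq_of_mem_pair hz2 hc2 hcomm hw with rfl | rfl | rfl | rfl
    · simp
    · exact hzc x hx
    · exact hcc x hx
    · rw [mul_assoc, hcc x hx, ← mul_assoc, hzc x hx, mul_assoc]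
  by_cases hout : ∃ t ∈ (P : Subgroup G), orderOf t = 2 ∧ t ∉ pair z c
  · refine case_a hs hO ⟨hel, pair_le hzP hcP, hpc, fun w hw => hcent
      (mem_centralizer_singleton_iff.mpr (mem_centralizer_iff.mp hw z (left_mem_pair z c)).symm)⟩
      (four_le_card_pair hz hc hcz) (Or.inr hout)
  push Not at hout
  set u := g * z * g⁻¹ with hu
  have huo : orderOf u = 2 := by rw [hu, orderOf_conj, hz]
  have huc : ∀ x ∈ (P : Subgroup G), u * x = x * u := hpc u (hout u huP huo)
  refine alternative_of_all_conj hs hO hz hzP hzc hcent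
    (all_conj_of_central_four hz hzP hzc hcent huP huz huc fun t htP ht => ?_)
  have ht' := eq_of_mem_pair hz2 hc2 hcomm (hout t htP ht)
  rcases eq_of_mem_pair hz2 hc2 hcomm (hout u huP huo) with e | e | e | e
  · exact absurd e (involution_ne_one huo)
  · exact absurd e huz
  · rcases ht' with f | f | f | f
    · exact absurd f (involution_ne_one ht)
    · exact Or.inl f
    · exact Or.inr (Or.inl (f.trans e.symm))
    · exact Or.inr (Or.inr (by rw [f, ← e]))
  · rcases ht' with f | f | f | f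
    · exact absurd f (involution_ne_one ht)
    · exact Or.inl f
    · exact Or.inr (Or.inr (by
        change t = z * u
        rw [f, e, ← mul_assoc, hz2, one_mul]))
    · exact Or.inr (Or.inl (f.trans e.symm))

/-! ### Characteristic 2 type -/

omit [Finite G] in
theorem pPrimeCore_centralizer_eq_bot {t : G} (h : th t = ⊥) :
    Cfsg.pPrimeCore 2 ↥(centralizer ({t} : Set G)) = ⊥ :=
  (Subgroup.map_eq_bot_iff_of_injective _ (centralizer ({t} : Set G)).subtype_injective).mp h

theorem charTwoType_of_th_eq_bot (hs : SolvCent G) (he : Even (Nat.card G))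
    (h : ∀ t : G, orderOf t = 2 → th t = ⊥) : Cfsg.IsCharacteristicTwoType G := by
  haveI := Fact.mk Nat.prime_two
  refine ⟨he, fun T hT hT0 => CharTwoLocal.charTwo_of_layer_oddCore ?_ ?_⟩
  · -- layer
    rw [ComponentsBasic.layer_eq_bot_iff]
    rintro ⟨L, hL⟩
    set N := normalizer (T : Set G) with hN
    have hTN : T ≤ N := le_normalizer
    haveI : (T.subgroupOf N).Normal := (normal_subgroupOf_iff_le_normalizer hTN).mpr le_rfl
    have hTp : IsPGroup 2 (T.subgroupOf N) := hT.of_equiv (subgroupOfEquivOfLe hTN).symm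
    haveI : Group.IsSolvable (T.subgroupOf N) := by
      haveI := hTp.isNilpotent
      infer_instance
    have hc := ComponentsBasic.component_commute_solvable hL
      (Subgroup.Normal.isSubnormal (H := T.subgroupOf N) inferInstance)
    rw [commutator_eq_bot_iff_le_centralizer] at hc
    obtain ⟨t, htT, ht⟩ : ∃ t ∈ T, orderOf t = 2 := PGroupsBasic.exists_orderOf_eq_of_ne_bot hT hT0
    haveI := hs t ht
    haveI : Group.IsSolvable ((centralizer ({t} : Set G)).subgroupOf N) :=
      Group.isSolvable_of_isSolvable_injective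
        (f := ((N.subtype).comp ((centralizer ({t} : Set G)).subgroupOf N).subtype).codRestrict
          (centralizer ({t} : Set G)) (fun x => mem_subgroupOf.mp x.2))
        (fun x y e => Subtype.ext (Subtype.ext (congrArg
          (fun w : centralizer ({t} : Set G) => (w : G)) e)))
    refine ComponentsBasic.isQuasisimple_not_le_solvable hL.2
      (S := (centralizer ({t} : Set G)).subgroupOf N) fun x hx => mem_subgroupOf.mpr ?_
    exact mem_centralizer_singleton_iff.mpr
      (congrArg Subtype.val (mem_centralizer_iff.mp (hc hx) ⟨t, hTN htT⟩ (mem_subgroupOf.mpr htT))).symm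
  · -- odd core
    set N := normalizer (T : Set G) with hN
    have hTN : T ≤ N := le_normalizer
    refine (eq_bot_iff_forall _).mpr fun y hy => ?_
    have hOn : (Cfsg.pPrimeCore 2 N).Normal := HallCore.pPrimeCore_normal 2 _
    have hcop := HallCore.coprime_card_pPrimeCore 2 N
    have hyT : ∀ a ∈ T, (y : G) * a = a * (y : G) := by
      intro a ha
      have h1 : (y : G) * a * (y : G)⁻¹ * a⁻¹ ∈ T :=
        mul_mem ((mem_normalizer_iff.mp y.2 a).mp ha) (inv_mem ha)
      have h2 : ((y : N) * ⟨a, hTN ha⟩ * y⁻¹ * (⟨a, hTN ha⟩ : N)⁻¹ : N) ∈ Cfsg.pPrimeCore 2 N := by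
        have := mul_mem hy (hOn.conj_mem y⁻¹ (inv_mem hy) ⟨a, hTN ha⟩)
        simpa [mul_assoc] using this
      have h3 : ((y : N) * ⟨a, hTN ha⟩ * y⁻¹ * (⟨a, hTN ha⟩ : N)⁻¹ : N) = 1 := by
        rw [← orderOf_eq_one_iff]
        obtain ⟨k, hk⟩ := IsPGroup.iff_orderOf.mp hT ⟨_, h1⟩
        refine Nat.eq_one_of_dvd_coprimes ((hcop.pow_right k).symm) ?_
          (Subgroup.orderOf_dvd_natCard _ h2)
        rw [← Subgroup.orderOf_coe, ← hk]
        simp [Subgroup.orderOf_mk]
      have := congrArg Subtype.val h3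
      simp only [Subgroup.coe_mul, Subgroup.coe_inv, Subgroup.coe_one] at this
      exact mul_inv_eq_iff_eq_mul.mp (mul_inv_eq_one.mp this)
    obtain ⟨t, ⟨htT, htc⟩, ht⟩ : ∃ t ∈ T ⊓ centralizer (T : Set G), orderOf t = 2 := by
      haveI : Nontrivial T := (nontrivial_iff_ne_bot T).mpr hT0
      haveI := hT.center_nontrivial
      obtain ⟨t, htm, ht⟩ := PGroupsBasic.exists_orderOf_eq_of_ne_bot
        (hT.to_subgroup (center T)) ((nontrivial_iff_ne_bot _).mp inferInstance)
      exact ⟨t, ⟨t.2, mem_centralizer_iff.mpr fun a ha =>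
        congrArg Subtype.val (mem_center_iff.mp htm ⟨a, ha⟩)⟩, by rw [Subgroup.orderOf_coe, ht]⟩
    set X := centralizer ({t} : Set G) with hX
    haveI := hs t ht
    have hCX : centralizer (Cfsg.pCore 2 X : Set X) ≤ Cfsg.pCore 2 X :=
      HallSolvable.centralizer_pCore_le (HallSolvable.isPSolvable_of_solvable 2)
        (pPrimeCore_centralizer_eq_bot (h t ht))
    have hTX : T ≤ X := fun a ha =>
      mem_centralizer_singleton_iff.mpr (mem_centralizer_iff.mp htc a ha)
    have hyX : (y : G) ∈ X := mem_centralizer_singleton_iff.mpr (hyT t htT)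
    set V : Subgroup G := (Cfsg.pCore 2 X).map X.subtype with hV
    have hyo : (orderOf (y : G)).Coprime 2 := by
      rw [Subgroup.orderOf_coe]
      exact hcop.coprime_dvd_left (Subgroup.orderOf_dvd_natCard _ hy)
    have hyV : (y : G) ∈ centralizer (V : Set G) := by
      refine CharTwoLocal.mem_centralizer_pq hT hyo hyT (CharTwoLocal.isPGroup_pCore_map X)
        (hTX.trans (CharTwoLocal.le_normalizer_pCore_map X))
        (CharTwoLocal.le_normalizer_pCore_map X hyX) fun x hx hxT => ?_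
      have hxN : x ∈ N := centralizer_le_normalizer (T : Set G) (mem_centralizer_iff.mpr hxT)
      have h1 : (y : G) * x * (y : G)⁻¹ * x⁻¹ ∈ V :=
        mul_mem ((mem_normalizer_iff.mp (CharTwoLocal.le_normalizer_pCore_map X hyX) x).mp hx)
          (inv_mem hx)
      have h2 : ((y : N) * ⟨x, hxN⟩ * y⁻¹ * (⟨x, hxN⟩ : N)⁻¹ : N) ∈ Cfsg.pPrimeCore 2 N := by
        have := mul_mem hy (hOn.conj_mem y⁻¹ (inv_mem hy) ⟨x, hxN⟩)
        simpa [mul_assoc] using this
      have h3 : ((y : N) * ⟨x, hxN⟩ * y⁻¹ * (⟨x, hxN⟩ : N)⁻¹ : N) = 1 := by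
        rw [← orderOf_eq_one_iff]
        obtain ⟨k, hk⟩ := IsPGroup.iff_orderOf.mp (CharTwoLocal.isPGroup_pCore_map X) ⟨_, h1⟩
        refine Nat.eq_one_of_dvd_coprimes ((hcop.pow_right k).symm) ?_
          (Subgroup.orderOf_dvd_natCard _ h2)
        rw [← Subgroup.orderOf_coe, ← hk]
        simp [Subgroup.orderOf_mk]
      have := congrArg Subtype.val h3
      simp only [Subgroup.coe_mul, Subgroup.coe_inv, Subgroup.coe_one] at this
      exact mul_inv_eq_iff_eq_mul.mp (mul_inv_eq_one.mp this)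
    have hyC : (⟨y, hyX⟩ : X) ∈ Cfsg.pCore 2 X := hCX (mem_centralizer_iff.mpr fun r hr =>
      Subtype.ext (mem_centralizer_iff.mp hyV r ⟨r, hr, rfl⟩))
    obtain ⟨k, hk⟩ := IsPGroup.iff_orderOf.mp (HallCore.isPGroup_pCore 2 X) ⟨_, hyC⟩
    rw [Subgroup.orderOf_mk, Subgroup.orderOf_mk] at hk
    have : orderOf (y : G) = 1 := Nat.eq_one_of_dvd_coprimes (hyo.pow_right k) dvd_rfl hk.dvd
    exact Subtype.ext (orderOf_eq_one_iff.mp this)

end Cfsg.Agent.SolvCentInvol2
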