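import Mathlib
import Cfsg.Agent.Lib.PPrimeAbelian30Count
import Cfsg.Agent.Lib.SolvableCentInvol2
import Cfsg.Agent.Lib.ZStarTheorem
import Cfsg.Agent.Lib.CharInducedBurnside
import Cfsg.Agent.Lib.PGroupsBasic
import Cfsg.Agent.S0205

/-!
A finite group whose `p'`-subgroups are abelian of exponent dividing `p - 1` is solvable.
-/

set_option autoImplicit false

namespace Cfsg.Agent.PPrimeAbelian30

open Subgroup SignalizerStrongEmb SolvCentInvol1

universe u

variable {G : Type u} [Group G] [Finite G] {p : ℕ} [hp : Fact p.Prime]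

/-- No simple group satisfies the minimal hypotheses. -/
theorem no_simple (hG : Hyp p G) : False := by
  classical
  haveI := hG.simple
  haveI : Nontrivial G := hG.simple.toNontrivial
  haveI := Fact.mk Nat.prime_two
  have hnsol := not_solvable hG
  have hyt : ∀ y : G, zpowers y ≠ ⊤ := zpowers_ne_top hG
  -- the prime is odd
  have hp2 : p ≠ 2 := by
    intro h
    have hpr : ∀ {q : ℕ}, q.Prime → q ∣ Nat.card G → q = 2 := by
      intro q hq hd
      by_contra hne
      haveI := Fact.mk hq
      obtain ⟨y, hy⟩ := exists_prime_orderOf_dvd_card' q hd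
      have h1 := (hG.ab _ (hyt y) (by
        rw [Nat.card_zpowers, hy, h]; exact (Nat.coprime_primes hq Nat.prime_two).2 hne)).2 y
        (mem_zpowers y)
      rw [h, show 2 - 1 = 1 from rfl, pow_one] at h1
      rw [h1, orderOf_one] at hy
      exact hq.ne_one hy.symm
    have h2 := Nat.eq_prime_pow_of_unique_prime_dvd Nat.card_pos.ne' hpr
    exact hnsol (CharInduced.solvable_of_card_two_primes 2 2 _ 0 Nat.prime_two Nat.prime_two
      (by simpa using h2))
  have h2p : Nat.Coprime 2 p := (Nat.coprime_primes Nat.prime_two hp.out).2 (Ne.symm hp2)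
  -- an abelian Sylow 2-subgroup
  obtain ⟨S⟩ : Nonempty (Sylow 2 G) := inferInstance
  obtain ⟨k, hk⟩ := IsPGroup.iff_card.1 S.2
  have hScop : (Nat.card (S : Subgroup G)).Coprime p := hk ▸ h2p.pow_left k
  have hSne : (S : Subgroup G) ≠ ⊤ := by
    intro h
    rw [h, card_top] at hk
    exact hnsol (CharInduced.solvable_of_card_two_primes 2 2 k 0 Nat.prime_two Nat.prime_two
      (by simpa using hk))
  have hSab : IsMulCommutative (S : Subgroup G) := (hG.ab _ hSne hScop).1
  haveI := hSab
  have heven : 2 ∣ Nat.card G := by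
    by_contra h
    exact hnsol (S0205.result (Nat.odd_iff.2 (Nat.two_dvd_ne_zero.1 h)))
  have hSbot : (S : Subgroup G) ≠ ⊥ := Sylow.ne_bot_of_dvd_card S heven
  -- the involutions of `S`
  set A := Cfsg.omegaOne 2 (S : Subgroup G) with hA
  have hcomm : ∀ x ∈ (S : Subgroup G), ∀ y ∈ (S : Subgroup G), x * y = y * x := fun x hx y hy =>
    PGroupsBasic.comm_of_isMulCommutative hSab hx hy
  have hAel : Cfsg.IsElementaryAbelian 2 A :=
    PGroupsBasic.isElementaryAbelian_closure (fun x hx y hy => hcomm x hx.1 y hy.1) fun x hx => hx.2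
  have hAS : A ≤ (S : Subgroup G) := (closure_le _).2 fun x hx => hx.1
  have hAmem : ∀ t ∈ (S : Subgroup G), orderOf t = 2 → t ∈ A := fun t ht ho =>
    subset_closure ⟨ht, by rw [← ho]; exact pow_orderOf_eq_one t⟩
  have hNA : ∀ n ∈ normalizer ((S : Subgroup G) : Set G), ∀ a ∈ A, n * a * n⁻¹ ∈ A := by
    intro n hn a ha
    by_cases ha1 : a = 1
    · simp [ha1, one_mem]
    exact hAmem _ ((mem_normalizer_iff.1 hn a).1 (hAS ha))
      (by rw [SignalizerStrongEmb.orderOf_conj, orderOf_eq_two hAel ha ha1])
  have hNle : normalizer ((S : Subgroup G) : Set G) ≤ normalizer (A : Set G) := by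
    intro n hn
    rw [mem_normalizer_iff]
    refine fun a => ⟨hNA n hn a, fun h => ?_⟩
    have := hNA n⁻¹ (inv_mem hn) _ h
    simpa [mul_assoc] using this
  have hAp : IsPGroup 2 A := S.2.to_le hAS
  obtain ⟨r, hr⟩ := IsPGroup.iff_card.1 hAp
  obtain ⟨z0, hz0, hz0o⟩ : ∃ z ∈ (S : Subgroup G), orderOf z = 2 :=
    exists_involution_of_even (even_iff_two_dvd.2 (by
      rcases k with _ | k
      · exact absurd (Subgroup.card_eq_one.1 (by simpa using hk)) hSbot
      · rw [hk, pow_succ]; exact dvd_mul_left _ _))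
  -- some element of `N(S)` moves an involution of `S`
  have hmove : ∃ n ∈ normalizer ((S : Subgroup G) : Set G), ∃ t ∈ A, n * t * n⁻¹ ≠ t := by
    by_contra hno
    push Not at hno
    have hiso : Cfsg.IsIsolatedInvolution z0 := by
      refine ⟨hz0o, fun g hg => ?_⟩
      set z1 := g * z0 * g⁻¹ with hz1
      have hel : Cfsg.IsElementaryAbelian 2 (closure {z0, z1}) := by
        refine PGroupsBasic.isElementaryAbelian_closure ?_ ?_
        · rintro x (rfl | rfl) y (rfl | rfl)
          exacts [rfl, hg.eq, hg.eq.symm, rfl]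
        · rintro x (hx | hx) <;> subst hx
          · rw [← hz0o]; exact pow_orderOf_eq_one _
          · rw [← hz0o, ← SignalizerStrongEmb.orderOf_conj g z0]; exact pow_orderOf_eq_one _
      obtain ⟨T, hT⟩ := (PGroupsBasic.isPGroup_of_isElementaryAbelian hel).exists_le_sylow
      obtain ⟨h, hh⟩ := MulAction.exists_smul_eq G S T
      have hmem : ∀ x ∈ closure {z0, z1}, h⁻¹ * x * h ∈ (S : Subgroup G) := by
        intro x hx
        have := hT hx
        rw [← hh, Sylow.coe_subgroup_smul] at this
        obtain ⟨s, hs, rfl⟩ := this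
        have e : h⁻¹ * (MulAut.conj h s) * h = s := by simp [mul_assoc]
        exact e.symm ▸ hs
      have key : ∀ x ∈ (S : Subgroup G), orderOf x = 2 → ∀ c : G,
          c⁻¹ * x * c ∈ (S : Subgroup G) → c⁻¹ * x * c = x := by
        intro x hx hxo c hc
        obtain ⟨n, hn, he⟩ := S.conj_eq_normalizer_conj_of_mem x c hx hc
        rw [he]
        have := hno n⁻¹ (inv_mem hn) x (hAmem x hx hxo)
        rwa [inv_inv] at this
      have h0 := hmem z0 (subset_closure (by simp))
      have h1 := hmem z1 (subset_closure (by simp))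
      have e0 : h⁻¹ * z0 * h = z0 := key z0 hz0 hz0o h h0
      have e1 : h⁻¹ * z1 * h = z0 := by
        rw [show h⁻¹ * z1 * h = (g⁻¹ * h)⁻¹ * z0 * (g⁻¹ * h) by rw [hz1]; group] at h1 ⊢
        exact key z0 hz0 hz0o _ h1
      have e2 := e1.trans e0.symm
      simpa using e2
    have hcore : Cfsg.pPrimeCore 2 G = ⊥ := by
      haveI := HallCore.pPrimeCore_normal 2 G
      refine eq_bot_of_normal hG fun h => HallCore.not_dvd_card_pPrimeCore 2 G ?_
      rw [h, card_top]
      exact heven
    have hz := ZStarTheorem.mem_center_of_isolated hiso hcore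
    have hc : center G = ⊥ := eq_bot_of_normal hG fun h => hnsol (Group.isSolvable_of_comm
      fun a b => (mem_center_iff.1 (h ▸ mem_top b : b ∈ center G) a))
    rw [hc, mem_bot] at hz
    exact involution_ne_one hz0o hz
  obtain ⟨n, hn, t, htA, hnt⟩ := hmove
  have hrank : 8 ≤ Nat.card A := by
    by_contra hlt
    -- split off the `p`-part of `n`
    set a := (orderOf n).factorization p
    set m := n ^ p ^ a with hm
    have hmcop : (orderOf m).Coprime p := by
      rw [hm, orderOf_pow' _ (pow_ne_zero _ hp.out.ne_zero),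
        Nat.gcd_eq_right (Nat.ordProj_dvd (orderOf n) p)]
      exact ((hp.out.coprime_iff_not_dvd).2 (Nat.not_dvd_ordCompl hp.out (orderOf_pos n).ne')).symm
    have hmt := commute_of_mem_normalizer hG hScop hSbot hSne hmcop (pow_mem hn _) (hAS htA)
    have hiter : ∀ i : ℕ, (fun x : G => n * x * n⁻¹)^[i] t = n ^ i * t * (n ^ i)⁻¹ := by
      intro i
      induction i with
      | zero => simp
      | succ i ih => rw [Function.iterate_succ_apply', ih, pow_succ']; group
    have hper : Function.IsPeriodicPt (fun x : G => n * x * n⁻¹) (p ^ a) t := by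
      change _ = t
      rw [hiter, ← hm, hmt, mul_inv_cancel_right]
    obtain ⟨b, -, hb⟩ := (Nat.dvd_prime_pow hp.out).1 hper.minimalPeriod_dvd
    have hb0 : b ≠ 0 := by
      intro h0
      rw [h0, pow_zero, Function.minimalPeriod_eq_one_iff_isFixedPt] at hb
      exact hnt hb
    have hle : p ^ b ≤ 3 := by
      rw [← hb]
      have hsub : Set.MapsTo (fun i => (fun x : G => n * x * n⁻¹)^[i] t)
          (Set.Iio (Function.minimalPeriod (fun x : G => n * x * n⁻¹) t)) ((A : Set G) \ {1}) := by
        intro i _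
        simp only [hiter]
        refine ⟨hNA _ (pow_mem hn i) t htA, ?_⟩
        simp only [Set.mem_singleton_iff, conj_eq_one_iff]
        exact fun h => hnt (by simp [h])
      have h3 := Set.ncard_le_ncard_of_injOn _ hsub Function.iterate_injOn_Iio_minimalPeriod
        (Set.toFinite _)
      rw [Set.ncard_sdiff_singleton_of_mem (one_mem A), ← Nat.card_coe_set_eq, ← Nat.card_coe_set_eq] at h3
      rw [Nat.card_eq_fintype_card (α := Set.Iio _)] at h3
      simp only [Fintype.card_ofFinset, Nat.card_Iio, SetLike.coe_sort_coe, Fintype.card_Iio] at h3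
      have : Nat.card A ≤ 4 := by
        rw [hr] at hlt ⊢
        rcases le_or_gt r 2 with h | h
        · exact (Nat.pow_le_pow_right (by norm_num : 0 < 2) h).trans_eq (by norm_num)
        · exact absurd (Nat.pow_le_pow_right (by norm_num : 0 < 2) (show 3 ≤ r by omega)) (by omega)
      omega
    have hp3 : p = 3 := by
      have h1 : p ≤ 3 := (Nat.le_self_pow hb0 p).trans hle
      have := hp.out.two_le
      omega
    have hpr : ∀ {q : ℕ}, q.Prime → q ∣ Nat.card G → q = 2 ∨ q = 3 := by
      intro q hq hd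
      by_contra hne
      push Not at hne
      haveI := Fact.mk hq
      obtain ⟨y, hy⟩ := exists_prime_orderOf_dvd_card' q hd
      have h1 := (hG.ab _ (hyt y) (by
        rw [Nat.card_zpowers, hy, hp3]; exact (Nat.coprime_primes hq Nat.prime_three).2 hne.2)).2 y
        (mem_zpowers y)
      rw [hp3, ← orderOf_dvd_iff_pow_eq_one, hy] at h1
      exact hne.1 ((Nat.prime_dvd_prime_iff_eq hq Nat.prime_two).1 h1)
    set N := Nat.card G
    have hN : N ≠ 0 := Nat.card_pos.ne'
    have h3' : ∀ {d : ℕ}, d.Prime → d ∣ N / 2 ^ N.factorization 2 → d = 3 := by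
      intro d hd hdd
      refine (hpr hd (hdd.trans (Nat.div_dvd_of_dvd (Nat.ordProj_dvd _ _)))).resolve_left ?_
      rintro rfl
      exact Nat.not_dvd_ordCompl Nat.prime_two hN hdd
    have h4 := Nat.eq_prime_pow_of_unique_prime_dvd
      (Nat.ordCompl_pos 2 hN).ne' h3'
    refine hnsol (CharInduced.solvable_of_card_two_primes 2 3 (N.factorization 2) (N / 2 ^ N.factorization 2).primeFactorsList.length Nat.prime_two
      Nat.prime_three ?_)
    rw [← h4]
    exact (Nat.ordProj_mul_ordCompl_eq_self N 2).symm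
  -- the strongly embedded subgroup
  have hsc : SolvCent G := fun s hs => hG.solv _ fun h => by
    have h1 : s ∈ center G := mem_center_iff.2 fun g =>
      mem_centralizer_singleton_iff.1 (h ▸ mem_top g : g ∈ centralizer ({s} : Set G))
    have hc : center G = ⊥ := eq_bot_of_normal hG fun h => hnsol (Group.isSolvable_of_comm
      fun a b => (mem_center_iff.1 (h ▸ mem_top b : b ∈ center G) a))
    rw [hc, mem_bot] at h1
    exact involution_ne_one hs h1
  obtain ⟨hodd, -, -⟩ := span_spec hsc hAel hrank
  set X := span A with hX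
  have hNX : normalizer (A : Set G) ≤ normalizer (X : Set G) := fun g hg =>
    mem_normalizer_of_cj_eq (by rw [hX, ← span_cj, cj_eq_of_mem_normalizer hg])
  set M := X ⊔ normalizer (A : Set G) with hM
  have hA1 : A ≠ ⊥ := fun h => by rw [h, card_bot] at hrank; omega
  have hA2 : A ≠ ⊤ := fun h => hSne (top_le_iff.1 (h ▸ hAS))
  have hMne : M ≠ ⊤ := by
    intro htop
    by_cases hX0 : X = ⊥
    · rw [hM, hX0, bot_sup_eq] at htop
      exact normalizer_ne_top hG hA1 hA2 htop
    · refine normalizer_ne_top hG hX0 (fun h => hodd ?_)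
        (top_le_iff.1 (htop ▸ sup_le le_normalizer hNX))
      rw [h, card_top]
      exact heven
  have hcent : ∀ s ∈ (S : Subgroup G), orderOf s = 2 → centralizer ({s} : Set G) ≤ M := by
    intro s hs hso
    set C := centralizer ({s} : Set G) with hC
    haveI := hsc s hso
    have hSC : (S : Subgroup G) ≤ C := fun x hx =>
      mem_centralizer_singleton_iff.2 (hcomm x hx s hs)
    have hab' : IsMulCommutative ((S.subtype hSC : Sylow 2 C) : Subgroup C) := by
      refine ⟨⟨fun x y => Subtype.ext (Subtype.ext ?_)⟩⟩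
      exact hcomm _ x.2 _ y.2
    have htop := (sup_normal (S.subtype hSC) hab').2
    intro c hc
    have h1 : (⟨c, hc⟩ : C) ∈ (⊤ : Subgroup C) := mem_top _
    rw [← htop] at h1
    have h2 : c ∈ (normalizer (((S.subtype hSC : Sylow 2 C) : Subgroup C) : Set C) ⊔
        Cfsg.pPrimeCore 2 C).map C.subtype := ⟨_, h1, rfl⟩
    refine (?_ : _ ≤ M) h2
    rw [Subgroup.map_sup, sup_le_iff]
    constructor
    · rintro _ ⟨x, hx, rfl⟩
      refine mem_sup_right (hNle (mem_normalizer_iff.2 fun g => ?_))
      by_cases hg : g ∈ C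
      · exact mem_normalizer_iff.1 hx ⟨g, hg⟩
      · refine ⟨fun h => absurd (hSC h) hg, fun h => absurd ?_ hg⟩
        have := mul_mem (mul_mem (inv_mem x.2) (hSC h)) x.2
        simpa [mul_assoc] using this
    · refine le_trans ?_ le_sup_left
      exact th_le_span (hAmem s hs hso) (involution_ne_one hso)
  have hSM : (S : Subgroup G) ≤ M := le_normalizer.trans (hNle.trans le_sup_right)
  have hSE : Cfsg.IsStronglyEmbedded M := by
    refine SolvCentInvol1.isStronglyEmbedded_of (P := S) hMne hSM ⟨z0, hz0, hz0o⟩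
      fun s hs hso g hg => ?_
    obtain ⟨n', hn', he⟩ := S.conj_eq_normalizer_conj_of_mem s g⁻¹ hs (by rw [inv_inv]; exact hg)
    rw [inv_inv] at he
    have hc : n' * g ∈ centralizer ({s} : Set G) := by
      rw [mem_centralizer_singleton_iff]
      calc n' * g * s = n' * (g * s * g⁻¹) * g := by group
        _ = n' * (n'⁻¹ * s * n') * g := by rw [he]
        _ = s * (n' * g) := by group
    have hn'M : n' ∈ M := mem_sup_right (hNle hn')
    simpa using mul_mem (inv_mem hn'M) (hcent s hs hso hc)
  refine no_strongly_embedded hG hp2 hSE ?_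
  obtain ⟨a, ha, b, hb, hab⟩ : ∃ a ∈ (A : Set G) \ {1}, ∃ b ∈ (A : Set G) \ {1}, a ≠ b := by
    have h1 : 1 < ((A : Set G) \ {1}).ncard := by
      rw [Set.ncard_sdiff_singleton_of_mem (one_mem A), ← Nat.card_coe_set_eq]
      change 1 < Nat.card A - 1
      omega
    exact (Set.one_lt_ncard (Set.toFinite _)).1 h1
  exact ⟨a, b, hSM (hAS ha.1), hSM (hAS hb.1), orderOf_eq_two hAel ha.1 ha.2,
    orderOf_eq_two hAel hb.1 hb.2, hab, hcomm _ (hAS ha.1) _ (hAS hb.1)⟩

/-- Every group with all `p'`-subgroups abelian of exponent dividing `p - 1` is solvable. -/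
theorem solvable_of_ab (h : ∀ H : Subgroup G, (Nat.card H).Coprime p →
    IsMulCommutative H ∧ ∀ x ∈ H, x ^ (p - 1) = 1) : Group.IsSolvable G := by
  classical
  by_contra hns
  -- a minimal non-solvable subgroup
  obtain ⟨T, hT, hmin⟩ := (Set.toFinite {T : Subgroup G | ¬ Group.IsSolvable T}).exists_minimal
    ⟨⊤, fun hs => hns (Group.isSolvable_of_surjective (f := (⊤ : Subgroup G).subtype)
      (fun g => ⟨⟨g, mem_top g⟩, rfl⟩))⟩
  have hsolT : ∀ K : Subgroup T, K ≠ ⊤ → Group.IsSolvable K := by
    intro K hK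
    by_contra hK'
    refine hK ?_
    have h1 : ¬ Group.IsSolvable ↥(K.map T.subtype) := fun h2 => hK' (haveI := h2
      Group.isSolvable_of_isSolvable_injective
        (f := (K.equivMapOfInjective T.subtype T.subtype_injective).toMonoidHom)
        (K.equivMapOfInjective T.subtype T.subtype_injective).injective)
    have h2 := hmin h1 (map_subtype_le K)
    refine eq_top_iff.2 fun x _ => ?_
    obtain ⟨y, hy, hyx⟩ := h2 x.2
    rwa [Subtype.ext hyx] at hy
  haveI hTn : Nontrivial T := by
    by_contra hn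
    rw [not_nontrivial_iff_subsingleton] at hn
    exact hT (Group.isSolvable_of_comm fun a b => Subsingleton.elim _ _)
  -- a maximal proper normal subgroup
  obtain ⟨N, ⟨hNn, hNt⟩, hNmax⟩ := (Set.toFinite {N : Subgroup T | N.Normal ∧ N ≠ ⊤}).exists_maximal
    ⟨⊥, inferInstance, bot_ne_top⟩
  haveI := hNn
  haveI := hsolT N hNt
  set f := QuotientGroup.mk' N with hf
  have hsurj : Function.Surjective f := QuotientGroup.mk'_surjective N
  have hQns : ¬ Group.IsSolvable (T ⧸ N) := fun h1 => hT (haveI := h1
    Group.isSolvable_of_ker_le_range N.subtype f (by simp [hf]))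
  haveI : Nontrivial (T ⧸ N) := by
    by_contra hn
    rw [not_nontrivial_iff_subsingleton] at hn
    exact hQns (Group.isSolvable_of_comm fun a b => Subsingleton.elim _ _)
  refine no_simple (G := T ⧸ N) (p := p) ⟨⟨fun K hK => ?_⟩, ?_, fun K hK => ?_, fun K hK hKc => ?_⟩
  · by_cases hKt : K = ⊤
    · exact Or.inr hKt
    left
    have h1 : K.comap f ∈ {N : Subgroup T | N.Normal ∧ N ≠ ⊤} := by
      refine ⟨hK.comap _, fun h => hKt ?_⟩
      rw [← map_comap_eq_self_of_surjective hsurj K, h, map_top_of_surjective f hsurj]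
    have h2 := hNmax h1 (QuotientGroup.le_comap_mk' N K)
    rw [← map_comap_eq_self_of_surjective hsurj K, Subgroup.map_eq_bot_iff, QuotientGroup.ker_mk']
    exact h2
  · by_contra hc
    push Not at hc
    exact hQns (Group.isSolvable_of_comm hc)
  all_goals
    have hpre : K.comap f ≠ ⊤ := fun h => hK (by
      rw [← map_comap_eq_self_of_surjective hsurj K, h, map_top_of_surjective f hsurj])
    haveI := hsolT _ hpre
  · exact Group.isSolvable_of_surjective (f := f.subgroupComap K)
      (fun y => by
        obtain ⟨x, hx⟩ := hsurj y.1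
        exact ⟨⟨x, by rw [mem_comap, hx]; exact y.2⟩, Subtype.ext hx⟩)
  -- lift a `p'`-subgroup
  · set φ := f.subgroupComap K with hφ
    have hφs : Function.Surjective φ := fun y => by
      obtain ⟨x, hx⟩ := hsurj y.1
      exact ⟨⟨x, by rw [mem_comap, hx]; exact y.2⟩, Subtype.ext hx⟩
    obtain ⟨H, hH, -⟩ := HallTheorem.exists_isPiHall_ge_of_solvable (G := ↥(K.comap f))
      (π := ({p}ᶜ : Set ℕ)) (U := ⊥) (by simpa using HallCore.piNat_one _)
    obtain ⟨hH1, hH2⟩ := HallTheorem.isPiHall_iff.1 hH
    rw [HallCore.piNat_compl_singleton_iff hp.out] at hH1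
    rw [compl_compl] at hH2
    have htop : H.map φ = ⊤ := by
      rw [← index_eq_one]
      by_contra hne
      obtain ⟨q, hq, hqd⟩ := Nat.exists_prime_and_dvd hne
      have h1 := Set.mem_singleton_iff.1 (hH2 q hq (hqd.trans (index_map_dvd H hφs)))
      subst h1
      exact (hq.coprime_iff_not_dvd.1 hKc.symm) (hqd.trans (index_dvd_card _))
    obtain ⟨hc, hpow⟩ := h ((H.map (K.comap f).subtype).map T.subtype) (by
      rwa [card_map_of_injective T.subtype_injective, card_map_of_injective (subtype_injective _)])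
    have hlift : ∀ y : K, ∃ x : ↥(K.comap f), x ∈ H ∧ φ x = y := fun y => by
      have : y ∈ H.map φ := by rw [htop]; exact mem_top y
      exact this
    have hmem : ∀ x : ↥(K.comap f), x ∈ H →
        ((x : T) : G) ∈ (H.map (K.comap f).subtype).map T.subtype := fun x hx =>
      mem_map_of_mem T.subtype (mem_map_of_mem (K.comap f).subtype hx)
    refine ⟨⟨⟨fun a b => ?_⟩⟩, fun a ha => ?_⟩
    · obtain ⟨x, hx, rfl⟩ := hlift a
      obtain ⟨y, hy, rfl⟩ := hlift b
      have h1 : x * y = y * x := Subtype.ext (Subtype.ext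
        (PGroupsBasic.comm_of_isMulCommutative hc (hmem x hx) (hmem y hy)))
      rw [← map_mul, ← map_mul, h1]
    · obtain ⟨x, hx, hxa⟩ := hlift ⟨a, ha⟩
      have h1 : x ^ (p - 1) = 1 := Subtype.ext (Subtype.ext (by
        simpa using hpow _ (hmem x hx)))
      have h2 := congrArg (fun z => (φ z : T ⧸ N)) h1
      simpa [map_pow, hxa] using h2

end Cfsg.Agent.PPrimeAbelian30
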