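import Mathlib
import Cfsg.Agent.Lib.HallSolvable
import Cfsg.Agent.Lib.HallTheorem
import Cfsg.Agent.Lib.HallNilpotentConj
import Cfsg.Agent.Lib.SignalizerStrongEmb
import Cfsg.Agent.Lib.PGroupsBasic

/-!
Solvable groups whose subgroups of order prime to `p` are nilpotent: modulo the odd core only the
primes `2` and `p` remain, involutions do not normalize Sylow `p`-subgroups, and an action in which
involutions fix no point has degree prime to `p`.
-/

set_option autoImplicit false
set_option linter.style.haveILetI false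

namespace Cfsg.Agent.PPrimeNilp30

open Subgroup
open Cfsg.Agent.SignalizerStrongEmb (involution_mul_self involution_inv)

universe u v

/-- All subgroups of order prime to `p` are nilpotent. -/
def PNilp (p : ℕ) (X : Type u) [Group X] : Prop :=
  ∀ H : Subgroup X, (Nat.card H).Coprime p → Group.IsNilpotent H

variable {X : Type u} [Group X] [Finite X] {p : ℕ}

omit [Finite X] in
theorem PNilp.of_injective {Y : Type v} [Group Y] {f : Y →* X} (hf : Function.Injective f)
    (h : PNilp p X) : PNilp p Y := fun H hH => by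
  haveI := h (H.map f) (by rwa [card_map_of_injective hf])
  exact Group.nilpotent_of_mulEquiv (H.equivMapOfInjective f hf).symm

/-- An element and a subgroup that it normalizes, of coprime orders prime to `p`, commute. -/
theorem commute_of_mem_normalizer {B : Subgroup X}
    (hN : ∀ H : Subgroup X, H ≤ normalizer (B : Set X) → (Nat.card H).Coprime p → Group.IsNilpotent H)
    (hB : (Nat.card B).Coprime p) {m : X} (hm : (orderOf m).Coprime p)
    (hmB : m ∈ normalizer (B : Set X)) {b : X} (hb : b ∈ B)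
    (hmb : (orderOf m).Coprime (orderOf b)) : m * b = b * m := by
  set N := normalizer (B : Set X)
  set K := zpowers (⟨m, hmB⟩ : N) ⊔ B.subgroupOf N with hK
  haveI : (B.subgroupOf N).Normal := normal_subgroupOf_of_le_normalizer le_rfl
  have hc : (Nat.card (K.map N.subtype)).Coprime p := by
    rw [card_map_of_injective N.subtype_injective]
    refine Nat.Coprime.coprime_dvd_left (HallCore.card_sup_dvd _ _) (Nat.Coprime.mul_left ?_ ?_)
    · rwa [Nat.card_zpowers, Subgroup.orderOf_mk]
    · exact hB.coprime_dvd_left (HallCore.card_subgroupOf_dvd B N)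
  haveI := hN _ (map_subtype_le K) hc
  have h := HallNilpotentConj.commute_of_coprime_orderOf (K.map N.subtype)
    ⟨m, mem_map_of_mem N.subtype (mem_sup_left (mem_zpowers (⟨m, hmB⟩ : N)))⟩
    ⟨b, mem_map_of_mem N.subtype (mem_sup_right
      (show (⟨b, le_normalizer hb⟩ : N) ∈ B.subgroupOf N from hb))⟩
    (by simpa only [← Subgroup.orderOf_coe] using hmb)
  exact congrArg Subtype.val h.eq

/-- The property passes to images of solvable groups. -/
theorem nilp_of_surjective [hp : Fact p.Prime] {Y : Type v} [Group Y] [Finite Y] {f : X →* Y}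
    (hf : Function.Surjective f) {K : Subgroup Y} [Group.IsSolvable ↥(K.comap f)]
    (hN : ∀ H : Subgroup X, H ≤ K.comap f → (Nat.card H).Coprime p → Group.IsNilpotent H)
    (hK : (Nat.card K).Coprime p) : Group.IsNilpotent K := by
  set φ := f.subgroupComap K with hφ
  have hφs : Function.Surjective φ := fun y => by
    obtain ⟨x, hx⟩ := hf y.1
    exact ⟨⟨x, by rw [mem_comap, hx]; exact y.2⟩, Subtype.ext hx⟩
  obtain ⟨H, hH, -⟩ := HallTheorem.exists_isPiHall_ge_of_solvable (G := ↥(K.comap f))
    (π := ({p}ᶜ : Set ℕ)) (U := ⊥) (by simpa using HallCore.piNat_one _)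
  obtain ⟨hH1, hH2⟩ := HallTheorem.isPiHall_iff.1 hH
  rw [HallCore.piNat_compl_singleton_iff hp.out] at hH1
  rw [compl_compl] at hH2
  have htop : H.map φ = ⊤ := by
    rw [← index_eq_one]
    by_contra hne
    obtain ⟨q, hq, hqd⟩ := Nat.exists_prime_and_dvd hne
    have h1 := Set.mem_singleton_iff.1 (hH2 q hq (hqd.trans (index_map_dvd H hφs)))
    subst h1
    exact (hq.coprime_iff_not_dvd.1 hK.symm) (hqd.trans (index_dvd_card _))
  haveI := hN (H.map (K.comap f).subtype) (map_subtype_le _)
    (by rwa [card_map_of_injective (subtype_injective _)])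
  haveI : Group.IsNilpotent H :=
    Group.nilpotent_of_mulEquiv (H.equivMapOfInjective _ (subtype_injective _)).symm
  refine Group.nilpotent_of_surjective (φ.comp H.subtype) fun y => ?_
  obtain ⟨x, hx, hxy⟩ : y ∈ H.map φ := by rw [htop]; exact mem_top y
  exact ⟨⟨x, hx⟩, hxy⟩

variable [Group.IsSolvable X] [hp : Fact p.Prime]

omit [Finite X] in
theorem isSolvable_quotient (N : Subgroup X) [N.Normal] : Group.IsSolvable (X ⧸ N) :=
  Group.isSolvable_of_surjective (f := QuotientGroup.mk' N) (QuotientGroup.mk'_surjective N)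

/-- Modulo the odd core only the primes `2` and `p` remain. -/
theorem prime_eq_of_dvd (hX : PNilp p X) (hp2 : p ≠ 2) {q : ℕ} (hq : q.Prime)
    (hd : q ∣ Nat.card (X ⧸ Cfsg.pPrimeCore 2 X)) : q = 2 ∨ q = p := by
  by_contra hne
  push Not at hne
  haveI := Fact.mk hq
  haveI := Fact.mk Nat.prime_two
  set f := QuotientGroup.mk' (Cfsg.pPrimeCore 2 X) with hf
  have hs : Function.Surjective f := QuotientGroup.mk'_surjective _
  haveI := isSolvable_quotient (Cfsg.pPrimeCore 2 X)
  have hY : PNilp p (X ⧸ Cfsg.pPrimeCore 2 X) := fun K hK =>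
    nilp_of_surjective hs (fun H _ hH => hX H hH) hK
  obtain ⟨x, hx⟩ := exists_prime_orderOf_dvd_card' q hd
  set U := Cfsg.pCore 2 (X ⧸ Cfsg.pPrimeCore 2 X) with hU
  haveI : U.Normal := HallCore.pCore_normal 2 _
  have hcen := HallSolvable.centralizer_pCore_le (HallSolvable.isPSolvable_of_solvable 2)
    (HallCore.pPrimeCore_quotient_self 2 X)
  obtain ⟨k, hk⟩ := IsPGroup.iff_card.1 (HallCore.isPGroup_pCore 2 (X ⧸ Cfsg.pPrimeCore 2 X))
  have hxU : x ∈ U := hcen (mem_centralizer_iff.2 fun u hu => by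
    refine (commute_of_mem_normalizer (B := U) (fun H _ hH => hY H hH) ?_ ?_ ?_ hu ?_).symm
    · rw [hU, hk]
      exact ((Nat.coprime_primes Nat.prime_two hp.out).2 (Ne.symm hp2)).pow_left k
    · rw [hx]; exact (Nat.coprime_primes hq hp.out).2 hne.2
    · rw [normalizer_eq_top_iff.2 inferInstance]; trivial
    · rw [hx]
      obtain ⟨j, -, hj⟩ := (Nat.dvd_prime_pow Nat.prime_two).1
        (hk ▸ Subgroup.orderOf_dvd_natCard U hu)
      rw [hj]
      exact ((Nat.coprime_primes hq Nat.prime_two).2 hne.1).pow_right j)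
  have h := Subgroup.orderOf_dvd_natCard U hxU
  rw [hx, hU, hk] at h
  exact hne.1 ((Nat.prime_dvd_prime_iff_eq hq Nat.prime_two).1 (hq.dvd_of_dvd_pow h))

/-- An involution does not normalize a Sylow `p`-subgroup. -/
theorem involution_notMem_normalizer (hX : PNilp p X) (hp2 : p ≠ 2)
    (hconj : ∀ a b : X, orderOf a = 2 → orderOf b = 2 → IsConj a b)
    (htwo : ∃ a b : X, orderOf a = 2 ∧ orderOf b = 2 ∧ a ≠ b ∧ a * b = b * a)
    (R : Sylow p X) {t : X} (ht : orderOf t = 2) :
    t ∉ normalizer ((R : Subgroup X) : Set X) := by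
  intro htR
  haveI := Fact.mk Nat.prime_two
  have h2p : Nat.Coprime 2 p := (Nat.coprime_primes Nat.prime_two hp.out).2 (Ne.symm hp2)
  set O := Cfsg.pPrimeCore 2 X with hO
  set f := QuotientGroup.mk' O with hf
  have hfs : Function.Surjective f := QuotientGroup.mk'_surjective O
  haveI := isSolvable_quotient O
  set V := Cfsg.pCore 2 (X ⧸ O) with hV
  have hVn : V.Normal := HallCore.pCore_normal 2 _
  have hcen : centralizer (V : Set (X ⧸ O)) ≤ V := HallSolvable.centralizer_pCore_le
    (HallSolvable.isPSolvable_of_solvable 2) (HallCore.pPrimeCore_quotient_self 2 X)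
  -- a central involution of a Sylow 2-subgroup
  obtain ⟨S⟩ : Nonempty (Sylow 2 X) := inferInstance
  have hS2 : 2 ∣ Nat.card X := ht ▸ orderOf_dvd_natCard t
  haveI : Nontrivial (S : Subgroup X) :=
    (nontrivial_iff_ne_bot _).2 (Sylow.ne_bot_of_dvd_card S hS2)
  haveI := S.2.center_nontrivial
  obtain ⟨z, hzc, hzo⟩ := PGroupsBasic.exists_orderOf_eq_of_ne_bot
    (S.2.to_subgroup (center (S : Subgroup X))) ((nontrivial_iff_ne_bot _).1 inferInstance)
  set T := S.mapSurjective hfs with hT
  have hTc : (T : Subgroup (X ⧸ O)) = (S : Subgroup X).map f := Sylow.coe_mapSurjective _ _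
  have hzT : ∀ y ∈ (T : Subgroup (X ⧸ O)), f z * y = y * f z := by
    intro y hy
    rw [hTc] at hy
    obtain ⟨s, hs, rfl⟩ := hy
    rw [← map_mul, ← map_mul, show (z : X) * s = s * z from
      (congrArg Subtype.val (mem_center_iff.1 hzc ⟨s, hs⟩)).symm]
  have hzV : f z ∈ V := hcen (mem_centralizer_iff.2 fun y hy =>
    (hzT y (IsPGroup.le_sylow_of_normal (HallCore.isPGroup_pCore 2 _) T hy)).symm)
  have hzo' : orderOf (z : X) = 2 := by rw [Subgroup.orderOf_coe, hzo]
  obtain ⟨c, hc⟩ := isConj_iff.1 (hconj _ t hzo' ht)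
  have htV : f t ∈ V := by
    rw [← hc, map_mul, map_mul, map_inv]
    exact hVn.conj_mem _ hzV _
  set K := centralizer ({f t} : Set (X ⧸ O)) with hK
  have hR : (R : Subgroup X).map f ≤ K := by
    rintro _ ⟨r, hr, rfl⟩
    rw [hK, mem_centralizer_singleton_iff]
    have h1 : f t * f r * (f t)⁻¹ * (f r)⁻¹ ∈ (R : Subgroup X).map f := by
      refine ⟨t * r * t⁻¹ * r⁻¹, mul_mem ((mem_normalizer_iff.1 htR r).1 hr) (inv_mem hr), ?_⟩
      simp
    have h2 : f t * f r * (f t)⁻¹ * (f r)⁻¹ ∈ V := by
      rw [show f t * f r * (f t)⁻¹ * (f r)⁻¹ = f t * (f r * (f t)⁻¹ * (f r)⁻¹) by group]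
      exact mul_mem htV (hVn.conj_mem _ (inv_mem htV) _)
    obtain ⟨i, hi⟩ := IsPGroup.iff_card.1 (R.2.map f)
    obtain ⟨j, hj⟩ := IsPGroup.iff_card.1 (HallCore.isPGroup_pCore 2 (X ⧸ O))
    have d1 := Subgroup.orderOf_dvd_natCard _ h1
    have d2 := Subgroup.orderOf_dvd_natCard _ h2
    rw [hi] at d1
    rw [hV, hj] at d2
    have h3 := Nat.eq_one_of_dvd_coprimes ((h2p.pow j i).symm) d1 d2
    rw [orderOf_eq_one_iff, mul_inv_eq_one, mul_inv_eq_iff_eq_mul] at h3
    exact h3.symm
  have hKtop : K = ⊤ := by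
    rw [← index_eq_one]
    by_contra hne
    obtain ⟨q, hq, hqd⟩ := Nat.exists_prime_and_dvd hne
    rcases prime_eq_of_dvd hX hp2 hq (hqd.trans (index_dvd_card _)) with h | h
    · subst h
      have hconjT : (T : Subgroup (X ⧸ O)).map (MulAut.conj (f c)).toMonoidHom ≤ K := by
        rintro _ ⟨y, hy, rfl⟩
        rw [hK, mem_centralizer_singleton_iff, ← hc, map_mul, map_mul, map_inv]
        change f c * y * (f c)⁻¹ * (f c * f z * (f c)⁻¹) = f c * f z * (f c)⁻¹ * (f c * y * (f c)⁻¹)
        rw [show f c * y * (f c)⁻¹ * (f c * f z * (f c)⁻¹) = f c * (y * f z) * (f c)⁻¹ by group,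
          ← hzT y hy]
        group
      refine T.not_dvd_index ?_
      have he := index_map_equiv (T : Subgroup (X ⧸ O)) (MulAut.conj (f c))
      rw [← he]
      exact hqd.trans (index_dvd_of_le hconjT)
    · subst h
      refine (R.mapSurjective hfs).not_dvd_index (hqd.trans (index_dvd_of_le ?_))
      rw [Sylow.coe_mapSurjective]
      exact hR
  -- all involutions have the same image
  have himg : ∀ s : X, orderOf s = 2 → f s = f t := by
    intro s hs
    obtain ⟨d, hd⟩ := isConj_iff.1 (hconj t s ht hs)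
    have hdK : f d ∈ K := by rw [hKtop]; trivial
    rw [hK, mem_centralizer_singleton_iff] at hdK
    rw [← hd, map_mul, map_mul, hdK, map_inv, mul_inv_cancel_right]
  obtain ⟨a, b, ha, hb, hne, hc'⟩ := htwo
  have hmem : a⁻¹ * b ∈ O := QuotientGroup.eq.1 ((himg a ha).trans (himg b hb).symm)
  rw [involution_inv ha] at hmem
  have hsq : (a * b) * (a * b) = 1 := by
    rw [show (a * b) * (a * b) = a * (b * a) * b by group, ← hc',
      show a * (a * b) * b = (a * a) * (b * b) by group, involution_mul_self ha,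
      involution_mul_self hb, one_mul]
  have hab1 : a * b ≠ 1 := fun h => hne
    ((eq_inv_of_mul_eq_one_left h).trans (involution_inv hb))
  refine HallCore.not_dvd_card_pPrimeCore 2 X ?_
  have := Subgroup.orderOf_dvd_natCard _ hmem
  rwa [SignalizerStrongEmb.orderOf_eq_two_of_mul_self hsq hab1] at this

/-- If involutions fix no point but swap the base point with every other point, the degree is prime
to `p`. -/
theorem not_dvd_card_of_free {Ω : Type v} [Finite Ω] [MulAction X Ω] (hX : PNilp p X) (hp2 : p ≠ 2)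
    (b : Ω) (hfree : ∀ w : X, orderOf w = 2 → ∀ c : Ω, w • c ≠ c)
    (hswap : ∀ c : Ω, c ≠ b → ∃ w : X, orderOf w = 2 ∧ w • b = c)
    {R : Subgroup X} [R.Normal] (hR : IsPGroup p R) (hRb : R ≤ MulAction.stabilizer X b)
    (hSyl : ¬ p ∣ R.relIndex (MulAction.stabilizer X b)) : ¬ p ∣ Nat.card Ω := by
  haveI := Fact.mk Nat.prime_two
  set O := Cfsg.pPrimeCore 2 X with hO
  set f := QuotientGroup.mk' O with hf
  set B := MulAction.stabilizer X b with hB
  have hOB : O ≤ B := by
    intro o ho
    rw [hB, MulAction.mem_stabilizer_iff]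
    by_contra hne
    obtain ⟨w, hwo, hwb⟩ := hswap _ hne
    have hmemw : ∀ e ∈ MulAction.orbit O b, w • e ∈ MulAction.orbit O b := by
      rintro _ ⟨o', rfl⟩
      refine ⟨(⟨_, (HallCore.pPrimeCore_normal 2 X).conj_mem _ o'.2 w⟩ : O) * ⟨o, ho⟩, ?_⟩
      change ((w * (o' : X) * w⁻¹) * o) • b = w • (o' : X) • b
      rw [mul_smul, ← hwb, ← mul_smul, ← mul_smul]
      congr 1
      group
    haveI := Fintype.ofFinite (MulAction.orbit O b)
    have hodd : ¬ 2 ∣ Fintype.card (MulAction.orbit O b) := by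
      intro h
      rw [← Nat.card_eq_fintype_card] at h
      refine HallCore.not_dvd_card_pPrimeCore 2 X (h.trans ?_)
      rw [Nat.card_congr (MulAction.orbitEquivQuotientStabilizer O b)]
      exact card_quotient_dvd_card _
    let σ : Equiv.Perm (MulAction.orbit O b) :=
      { toFun := fun e => ⟨w • e.1, hmemw _ e.2⟩
        invFun := fun e => ⟨w • e.1, hmemw _ e.2⟩
        left_inv := fun e => Subtype.ext (by simp [← mul_smul, involution_mul_self hwo])
        right_inv := fun e => Subtype.ext (by simp [← mul_smul, involution_mul_self hwo]) }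
    have hσ : σ ^ 2 ^ 1 = 1 := by
      refine Equiv.ext fun e => Subtype.ext ?_
      rw [pow_one, pow_two]
      change w • w • e.1 = e.1
      rw [← mul_smul, involution_mul_self hwo, one_smul]
    obtain ⟨⟨e, he'⟩, he⟩ := Equiv.Perm.exists_fixed_point_of_prime hodd hσ
    exact hfree w hwo e (congrArg Subtype.val he)
  have hRO : R ≤ O := by
    refine HallCore.le_pPrimeCore ?_
    obtain ⟨k, hk⟩ := IsPGroup.iff_card.1 hR
    rw [hk]
    exact ((Nat.coprime_primes hp.out Nat.prime_two).2 hp2).pow_left k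
  have hBodd : ¬ 2 ∣ Nat.card B := by
    intro h
    obtain ⟨w, hw, hwo⟩ := SignalizerStrongEmb.exists_involution_of_even (even_iff_two_dvd.2 h)
    exact hfree w hwo b hw
  have hBO : B ≤ O := by
    rw [← relIndex_eq_one]
    by_contra hne
    obtain ⟨q, hq, hqd⟩ := Nat.exists_prime_and_dvd hne
    rcases prime_eq_of_dvd hX hp2 hq (by
      rw [← index_eq_card]
      exact hqd.trans (relIndex_dvd_index_of_le hOB)) with h | h
    · subst h
      exact hBodd (hqd.trans (relIndex_dvd_card _ _))
    · subst h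
      exact hSyl (hqd.trans (relIndex_dvd_of_le_left _ hRO))
  have hexp : ∀ y : X ⧸ O, y * y = 1 := by
    intro y
    obtain ⟨h, rfl⟩ := QuotientGroup.mk'_surjective O y
    by_cases hc : h • b = b
    · rw [show QuotientGroup.mk' O h = 1 from (QuotientGroup.eq_one_iff h).2 (hBO hc), one_mul]
    obtain ⟨w, hwo, hwb⟩ := hswap _ hc
    have hwh : w⁻¹ * h ∈ O := hBO (by
      rw [MulAction.mem_stabilizer_iff, mul_smul, ← hwb, inv_smul_smul])
    rw [show f h = f w from (QuotientGroup.eq.2 hwh).symm, ← map_mul, involution_mul_self hwo,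
      map_one]
  intro hd
  have hidx : Nat.card Ω = Nat.card (X ⧸ O) := by
    rw [← index_eq_card, ← le_antisymm hBO hOB, hB, MulAction.index_stabilizer]
    rw [show MulAction.orbit X b = Set.univ from Set.eq_univ_of_forall fun c => ?_, Set.ncard_univ]
    by_cases hc : c = b
    · subst hc; exact MulAction.mem_orbit_self _
    · obtain ⟨w, -, hw⟩ := hswap c hc
      exact ⟨w, hw⟩
  obtain ⟨y, hy⟩ := exists_prime_orderOf_dvd_card' p (hidx ▸ hd)
  have h2 : orderOf y ∣ 2 := orderOf_dvd_of_pow_eq_one (by rw [pow_two]; exact hexp y)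
  rw [hy] at h2
  exact hp2 ((Nat.prime_dvd_prime_iff_eq hp.out Nat.prime_two).1 h2)

end Cfsg.Agent.PPrimeNilp30
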