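import Mathlib
import Cfsg.Agent.Lib.PPrimeNilp30Str

/-!
A simple group all whose proper subgroups are solvable, all whose proper subgroups of order prime to
`p` are nilpotent, has no strongly embedded subgroup containing two commuting involutions: products of
two involutions of odd order are `p`-elements, all `p`-elements fix a coset, and counting pairs gives
a contradiction.
-/

set_option autoImplicit false
set_option linter.style.haveILetI false

namespace Cfsg.Agent.PPrimeNilp30

open Subgroup SignalizerStrongEmb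

universe u

variable {G : Type u} [Group G] [Finite G]

/-- The hypotheses of the minimal situation. -/
structure Hyp (p : ℕ) (G : Type u) [Group G] : Prop where
  simple : IsSimpleGroup G
  nc : ∃ a b : G, a * b ≠ b * a
  solv : ∀ H : Subgroup G, H ≠ ⊤ → Group.IsSolvable H
  nil : ∀ H : Subgroup G, H ≠ ⊤ → (Nat.card H).Coprime p → Group.IsNilpotent H

variable {p : ℕ} [hp : Fact p.Prime] (hG : Hyp p G)

include hG

omit hp [Finite G] in
theorem eq_bot_of_normal {H : Subgroup G} [H.Normal] (h : H ≠ ⊤) : H = ⊥ := by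
  haveI := hG.simple
  exact (IsSimpleGroup.eq_bot_or_eq_top_of_normal H inferInstance).resolve_right h

omit hp [Finite G] in
theorem not_solvable : ¬ Group.IsSolvable G := by
  intro h
  haveI := hG.simple
  obtain ⟨a, b, hab⟩ := hG.nc
  exact hab (IsSimpleGroup.comm_iff_isSolvable.2 h a b)

omit hp [Finite G] in
theorem normalizer_ne_top {H : Subgroup G} (h1 : H ≠ ⊥) (h2 : H ≠ ⊤) :
    normalizer (H : Set G) ≠ ⊤ := fun h => by
  haveI : H.Normal := normalizer_eq_top_iff.1 h
  exact h1 (eq_bot_of_normal hG h2)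

omit hp [Finite G] in
theorem zpowers_ne_top (y : G) : zpowers y ≠ ⊤ := by
  intro h
  obtain ⟨a, b, hab⟩ := hG.nc
  obtain ⟨i, rfl⟩ := mem_zpowers_iff.1 (show a ∈ zpowers y by rw [h]; trivial)
  obtain ⟨j, rfl⟩ := mem_zpowers_iff.1 (show b ∈ zpowers y by rw [h]; trivial)
  exact hab (zpow_mul_comm y i j)

omit hp [Finite G] in
theorem pnilp {K : Subgroup G} (hK : K ≠ ⊤) : PNilp p K := fun H hH => by
  haveI := hG.nil (H.map K.subtype) (fun h => hK (top_le_iff.1 (h ▸ map_subtype_le H)))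
    (by rwa [card_map_of_injective K.subtype_injective])
  exact Group.nilpotent_of_mulEquiv (H.equivMapOfInjective _ K.subtype_injective).symm

omit hp in
/-- A `p'`-element commutes with the elements of coprime order of a `p'`-subgroup it normalizes. -/
theorem commute_of_normalizes {B : Subgroup G} (hB : (Nat.card B).Coprime p) (hB1 : B ≠ ⊥)
    (hB2 : B ≠ ⊤) {m : G} (hm : (orderOf m).Coprime p) (hmB : m ∈ normalizer (B : Set G))
    {b : G} (hb : b ∈ B) (hmb : (orderOf m).Coprime (orderOf b)) : m * b = b * m :=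
  commute_of_mem_normalizer
    (fun H hH hc => hG.nil H (fun h => normalizer_ne_top hG hB1 hB2 (top_le_iff.1 (h ▸ hH))) hc)
    hB hm hmB hb hmb

/-- An element of odd order inverted by an involution is a `p`-element. -/
theorem isPPower_of_inverted (hp2 : p ≠ 2) {t x : G} (ht : orderOf t = 2) (hx : Odd (orderOf x))
    (htx : t * x * t⁻¹ = x⁻¹) : x ^ (p ^ (orderOf x).factorization p) = 1 := by
  set a := (orderOf x).factorization p with ha
  set y := x ^ p ^ a with hy
  by_contra hne
  have hord : orderOf y = orderOf x / p ^ a := by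
    rw [hy, orderOf_pow' _ (pow_ne_zero _ hp.out.ne_zero),
      Nat.gcd_eq_right (Nat.ordProj_dvd (orderOf x) p)]
  have hcop : (orderOf y).Coprime p := by
    rw [hord]
    exact ((hp.out.coprime_iff_not_dvd).2 (Nat.not_dvd_ordCompl hp.out (orderOf_pos x).ne')).symm
  have hty : t * y * t⁻¹ = y⁻¹ := by rw [hy, ← conj_pow, htx, inv_pow]
  have htN : t ∈ normalizer (zpowers y : Set G) := by
    rw [mem_normalizer_iff]
    have hfw : ∀ z ∈ zpowers y, t * z * t⁻¹ ∈ zpowers y := by
      rintro _ ⟨i, rfl⟩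
      rw [← conj_zpow, hty]
      exact zpow_mem (inv_mem (mem_zpowers y)) i
    refine fun z => ⟨hfw z, fun h => ?_⟩
    have h2 := hfw _ h
    rwa [show t * (t * z * t⁻¹) * t⁻¹ = (t * t) * z * (t * t)⁻¹ by group, involution_mul_self ht, one_mul, inv_one, mul_one] at h2
  have hodd : Odd (orderOf y) :=
    hx.of_dvd_nat (by rw [hord]; exact Nat.div_dvd_of_dvd (Nat.ordProj_dvd _ _))
  have hc := commute_of_normalizes hG (B := zpowers y)
    (by rwa [Nat.card_zpowers]) (by rwa [Ne, zpowers_eq_bot]) (zpowers_ne_top hG y)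
    (m := t) (by rw [ht]; exact (Nat.coprime_primes Nat.prime_two hp.out).2 (Ne.symm hp2))
    htN (mem_zpowers y) (by rw [ht]; exact Nat.coprime_two_left.2 hodd)
  rw [hc, mul_inv_cancel_right] at hty
  have h2 : orderOf y ∣ 2 := orderOf_dvd_of_pow_eq_one (by rw [pow_two]; nth_rewrite 2 [hty]; group)
  rcases (Nat.dvd_prime Nat.prime_two).1 h2 with h | h
  · exact hne (orderOf_eq_one_iff.1 h)
  · rw [h] at hodd
    exact absurd hodd (by decide)

variable (hp2 : p ≠ 2)

section SE

variable {M : Subgroup G} (hM : Cfsg.IsStronglyEmbedded M)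
include hM

omit hp hG in
theorem isStronglyEmbedded_stabilizer (c : G ⧸ M) :
    Cfsg.IsStronglyEmbedded (MulAction.stabilizer G c) := by
  induction c using QuotientGroup.induction_on with
  | H g =>
    have hmem : ∀ x : G, x ∈ MulAction.stabilizer G (g : G ⧸ M) ↔ g⁻¹ * x * g ∈ M := by
      intro x
      rw [MulAction.mem_stabilizer_iff, MulAction.Quotient.smul_coe, eq_comm, QuotientGroup.eq,
        smul_eq_mul, mul_assoc]
    obtain ⟨t, htM, ht⟩ := exists_involution_mem hM
    refine isStronglyEmbedded_iff.2 ⟨fun h => ?_, ?_, fun s hs hso x hx => ?_⟩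
    · refine hM.1 (eq_top_iff.2 fun x _ => ?_)
      have := (hmem (g * x * g⁻¹)).1 (h ▸ mem_top _)
      simpa [mul_assoc] using this
    · refine even_card_of_involution_mem (t := g * t * g⁻¹) (by rw [orderOf_conj, ht]) ((hmem _).2 ?_)
      simpa [mul_assoc] using htM
    · rw [hmem] at hs hx ⊢
      refine mem_of_conj_mem hM (t := g⁻¹ * s * g) ?_ hs ?_
      · have := orderOf_conj g⁻¹ s
        rw [inv_inv] at this
        rw [this, hso]
      · simpa [mul_assoc] using hx

variable (htwo : ∃ a b : G, a ∈ M ∧ b ∈ M ∧ orderOf a = 2 ∧ orderOf b = 2 ∧ a ≠ b ∧ a * b = b * a)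

include hp2 htwo

omit htwo in
omit hM in
/-- Key normalizer property, for a strongly embedded subgroup with two commuting involutions. -/
theorem notMem_normalizer_sylow {K : Subgroup G} (hK : Cfsg.IsStronglyEmbedded K)
    (hK2 : ∃ a b : G, a ∈ K ∧ b ∈ K ∧ orderOf a = 2 ∧ orderOf b = 2 ∧ a ≠ b ∧ a * b = b * a)
    {R : Subgroup G} (hRK : R ≤ K) (hRc : Nat.card R = p ^ (Nat.card K).factorization p)
    {t : G} (ht : orderOf t = 2) (htK : t ∈ K) : t ∉ normalizer (R : Set G) := by
  intro htR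
  haveI := hG.solv K hK.1
  have hRc' : Nat.card (R.subgroupOf K) = p ^ (Nat.card K).factorization p := by
    rw [Nat.card_congr (subgroupOfEquivOfLe hRK).toEquiv, hRc]
  refine involution_notMem_normalizer (pnilp hG hK.1) hp2 (fun a b ha hb => ?_) ?_
    (Sylow.ofCard (R.subgroupOf K) hRc') (t := (⟨t, htK⟩ : K)) (by rwa [Subgroup.orderOf_mk]) ?_
  · rw [← Subgroup.orderOf_coe] at ha hb
    obtain ⟨h, hh, heq⟩ := IsStronglyEmbedded.conj_in hK a.2 b.2 ha (isConj_involutions hK ha hb)
    exact isConj_iff.2 ⟨⟨h, hh⟩, Subtype.ext heq⟩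
  · obtain ⟨a, b, ha, hb, hao, hbo, hne, hc⟩ := hK2
    exact ⟨⟨a, ha⟩, ⟨b, hb⟩, by rwa [Subgroup.orderOf_mk], by rwa [Subgroup.orderOf_mk],
      fun h => hne (congrArg Subtype.val h), Subtype.ext hc⟩
  · have : (R.subgroupOf K : Set K) = Subtype.val ⁻¹' (R : Set G) := rfl
    rw [show ((Sylow.ofCard (R.subgroupOf K) hRc' : Sylow p K) : Subgroup K) = R.subgroupOf K from rfl,
      mem_normalizer_iff]
    intro n
    exact mem_normalizer_iff.1 htR n

omit hp hG hp2 in
theorem two_stabilizer (c : G ⧸ M) : ∃ a b : G, a ∈ MulAction.stabilizer G c ∧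
    b ∈ MulAction.stabilizer G c ∧ orderOf a = 2 ∧ orderOf b = 2 ∧ a ≠ b ∧ a * b = b * a := by
  obtain ⟨a, b, ha, hb, hao, hbo, hne, hc⟩ := htwo
  induction c using QuotientGroup.induction_on with
  | H g =>
    have hmem : ∀ x ∈ M, g * x * g⁻¹ ∈ MulAction.stabilizer G (g : G ⧸ M) := by
      intro x hx
      rw [MulAction.mem_stabilizer_iff, MulAction.Quotient.smul_coe, eq_comm, QuotientGroup.eq]
      simpa [mul_assoc] using hx
    refine ⟨g * a * g⁻¹, g * b * g⁻¹, hmem a ha, hmem b hb, by rw [orderOf_conj, hao],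
      by rw [orderOf_conj, hbo], fun h => hne (by simpa using h), ?_⟩
    rw [show g * a * g⁻¹ * (g * b * g⁻¹) = g * (a * b) * g⁻¹ by group, hc]
    group

/-- The number of cosets is prime to `p`. -/
theorem not_dvd_index : ¬ p ∣ M.index := by
  classical
  obtain ⟨R0⟩ : Nonempty (Sylow p M) := inferInstance
  set R := (R0 : Subgroup M).map M.subtype with hR
  have hRM : R ≤ M := map_subtype_le _
  have hRp : IsPGroup p R := R0.2.map _
  have hRc : Nat.card R = p ^ (Nat.card M).factorization p := by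
    rw [hR, card_map_of_injective M.subtype_injective]
    exact R0.card_eq_multiplicity
  set b : G ⧸ M := ((1 : G) : G ⧸ M) with hb
  have hmemb : ∀ x : G, x ∈ M ↔ x ∈ MulAction.stabilizer G b := fun x => by
    rw [MulAction.mem_stabilizer_iff, hb, smul_one_eq_iff]
  have hfix : b ∈ MulAction.fixedPoints R (G ⧸ M) := fun r => (hmemb r).1 (hRM r.2)
  have hmod := hRp.card_modEq_card_fixedPoints (G ⧸ M)
  intro hd
  rw [index_eq_card] at hd
  have hdF : p ∣ Nat.card (MulAction.fixedPoints R (G ⧸ M)) :=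
    (Nat.ModEq.dvd_iff hmod dvd_rfl).1 hd
  set F := MulAction.fixedPoints R (G ⧸ M) with hF
  -- `R` is a Sylow subgroup of every stabilizer of a fixed coset
  have hle : ∀ c ∈ F, R ≤ MulAction.stabilizer G c := fun c hc r hr => hc ⟨r, hr⟩
  have hcardstab : ∀ c : G ⧸ M, Nat.card (MulAction.stabilizer G c) = Nat.card M := by
    intro c
    obtain ⟨g, hg⟩ := MulAction.exists_smul_eq G b c
    rw [← hg, MulAction.stabilizer_smul_eq_stabilizer_map_conj,
      card_map_of_injective (MulEquiv.injective _)]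
    exact congrArg (fun K : Subgroup G => Nat.card K) (Subgroup.ext fun x => (hmemb x).symm)
  have hkey : ∀ c ∈ F, ∀ t : G, orderOf t = 2 → t • c = c → t ∉ normalizer (R : Set G) :=
    fun c hc t ht htc => notMem_normalizer_sylow hG hp2
      (isStronglyEmbedded_stabilizer hM c) (two_stabilizer hM htwo c) (hle c hc)
      (by rw [hcardstab]; exact hRc) ht (MulAction.mem_stabilizer_iff.2 htc)
  obtain ⟨t0, ht0M, ht0⟩ := exists_involution_mem hM
  have hRne : R ≠ ⊥ := fun h => hkey b hfix t0 ht0 ((hmemb t0).1 ht0M) (by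
    rw [h, mem_normalizer_iff]
    intro x
    simp)
  have hRtop : R ≠ ⊤ := fun h => hM.1 (top_le_iff.1 (h ▸ hRM))
  set H := normalizer (R : Set G) with hH
  have hHne : H ≠ ⊤ := normalizer_ne_top hG hRne hRtop
  have hinv : ∀ g ∈ H, ∀ c ∈ F, g • c ∈ F := by
    intro g hg c hc r
    have h1 : g⁻¹ * (r : G) * g ∈ R := (mem_normalizer_iff''.1 hg r).1 r.2
    have h2 : (g⁻¹ * (r : G) * g) • c = c := hc ⟨_, h1⟩
    change (r : G) • g • c = g • c
    conv_rhs => rw [← h2]
    rw [← mul_smul, ← mul_smul, show g * (g⁻¹ * (r : G) * g) = (r : G) * g by group]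
  -- involutions of `H` move every fixed coset to every other
  have hswap : ∀ c ∈ F, c ≠ b → ∃ w ∈ H, orderOf w = 2 ∧ w • b = c := by
    intro c hc hcb
    have hpos : 0 < Nat.card {i : G // orderOf i = 2 ∧ i • b = c} := by
      rw [card_swap hM b c (Ne.symm hcb)]
      exact Nat.card_pos_iff.2 ⟨⟨⟨t0, ht0, ht0M⟩⟩, inferInstance⟩
    obtain ⟨⟨i, hi, hib⟩⟩ := (Nat.card_pos_iff.1 hpos).1
    have hic : i • c = b := by
      rw [← hib, ← mul_smul, involution_mul_self hi, one_smul]
    set D := MulAction.stabilizer G b ⊓ MulAction.stabilizer G c with hD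
    have hRD : R ≤ D := le_inf (hle b hfix) (hle c hc)
    set R' := R.map (MulAut.conj i).toMonoidHom with hR'
    have hR'D : R' ≤ D := by
      rintro _ ⟨r, hr, rfl⟩
      obtain ⟨h1, h2⟩ := Subgroup.mem_inf.1 (hRD hr)
      simp only [MulEquiv.coe_toMonoidHom, MulAut.conj_apply, hD, Subgroup.mem_inf,
        MulAction.mem_stabilizer_iff, mul_smul, involution_inv hi, hib, hic] at h1 h2 ⊢
      exact ⟨by rw [h2, hic], by rw [h1, hib]⟩
    have hfac : Nat.card R = p ^ (Nat.card D).factorization p := by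
      obtain ⟨k, hk⟩ := IsPGroup.iff_card.1 hRp
      have h1 : p ^ k ∣ Nat.card D := hk ▸ card_dvd_of_le hRD
      have h2 : Nat.card D ∣ Nat.card M := by
        refine card_dvd_of_le fun x hx => (hmemb x).2 ?_
        exact (Subgroup.mem_inf.1 hx).1
      have hk' : k = (Nat.card M).factorization p :=
        Nat.pow_right_injective hp.out.two_le (hk.symm.trans hRc)
      have h3 := (hp.out.pow_dvd_iff_le_factorization Nat.card_pos.ne').1 h1
      have h4 := (Nat.factorization_le_iff_dvd Nat.card_pos.ne' Nat.card_pos.ne').2 h2 p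
      rw [hk, show k = (Nat.card D).factorization p by omega]
    have hR'c : Nat.card R' = Nat.card R := by
      rw [hR', card_map_of_injective (MulEquiv.injective _)]
    set Q1 : Sylow p D := Sylow.ofCard (R.subgroupOf D)
      (by rw [Nat.card_congr (subgroupOfEquivOfLe hRD).toEquiv, hfac]) with hQ1
    set Q2 : Sylow p D := Sylow.ofCard (R'.subgroupOf D)
      (by rw [Nat.card_congr (subgroupOfEquivOfLe hR'D).toEquiv, hR'c, hfac]) with hQ2
    obtain ⟨d, hd⟩ := MulAction.exists_smul_eq D Q2 Q1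
    obtain ⟨hdb, hdc⟩ := Subgroup.mem_inf.1 d.2
    rw [MulAction.mem_stabilizer_iff] at hdb hdc
    set g := (d : G) * i with hg
    have hmapg : R.map (MulAut.conj g).toMonoidHom = R := by
      refine Subgroup.eq_of_le_of_card_ge ?_
        (Nat.card_congr (R.equivMapOfInjective _ (MulAut.conj g).injective).toEquiv).le
      rintro _ ⟨r, hr, rfl⟩
      have h1 : (⟨i * r * i⁻¹, hR'D ⟨r, hr, rfl⟩⟩ : D) ∈ (Q2 : Subgroup D) := ⟨r, hr, rfl⟩
      have h2 : d * (⟨i * r * i⁻¹, hR'D ⟨r, hr, rfl⟩⟩ : D) * d⁻¹ ∈ (Q1 : Subgroup D) := by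
        rw [← hd, Sylow.coe_subgroup_smul]
        exact ⟨_, h1, rfl⟩
      have h3 : (d : G) * (i * r * i⁻¹) * (d : G)⁻¹ ∈ R := h2
      simpa [hg, mul_assoc] using h3
    have hgH : g ∈ H := by
      rw [hH, mem_normalizer_iff]
      intro x
      conv_rhs => rw [← hmapg, mem_conj_iff, show g⁻¹ * (g * x * g⁻¹) * g = x by group]
    have hgb : g • b = c := by rw [hg, mul_smul, hib, hdc]
    have hgc : g • c = b := by rw [hg, mul_smul, hic, hdb]
    -- the 2-part of `g`
    have hgn : ∀ n : ℕ, g ^ (2 * n) • b = b ∧ g ^ (2 * n + 1) • b = c := by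
      intro n
      induction n with
      | zero => exact ⟨by simp, by simpa using hgb⟩
      | succ n ih =>
        have h1 : g ^ (2 * (n + 1)) • b = b := by
          rw [show 2 * (n + 1) = 2 * n + 1 + 1 by ring, pow_succ', mul_smul, ih.2, hgc]
        exact ⟨h1, by rw [pow_succ', mul_smul, h1, hgb]⟩
    obtain ⟨j, m, hm, hjm⟩ := Nat.exists_eq_two_pow_mul_odd (orderOf_pos g).ne'
    obtain ⟨m', rfl⟩ := hm
    set g' := g ^ (2 * m' + 1) with hg'
    have hg'ord : orderOf g' = 2 ^ j := by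
      rw [hg', orderOf_pow' _ (by omega), hjm, Nat.gcd_eq_right (Dvd.intro_left _ rfl),
        Nat.mul_div_cancel _ (by omega)]
    have hg'b : g' • b = c := (hgn m').2
    have hg'c : g' • c = b := by
      rw [← hg'b, ← mul_smul, hg', ← pow_add, show 2 * m' + 1 + (2 * m' + 1) = 2 * (2 * m' + 1) by ring]
      exact (hgn _).1
    rcases j with _ | j
    · rw [pow_zero, orderOf_eq_one_iff] at hg'ord
      exact absurd (by rw [← hg'b, hg'ord, one_smul]) hcb
    rcases j with _ | j
    · exact ⟨g', pow_mem hgH _, by simpa using hg'ord, hg'b⟩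
    exfalso
    set w := g' ^ 2 ^ (j + 1) with hw
    have hwo : orderOf w = 2 := by
      rw [hw, orderOf_pow' _ (by positivity), hg'ord, Nat.gcd_eq_right
        (Nat.pow_dvd_pow 2 (by omega)), show 2 ^ (j + 1 + 1) = 2 * 2 ^ (j + 1) by ring,
        Nat.mul_div_cancel _ (by positivity)]
    have hsq : ∀ x : G ⧸ M, (x = b ∨ x = c) → w • x = x := by
      intro x hx
      have h2 : (g' ^ 2) • x = x := by
        rw [pow_two, mul_smul]
        rcases hx with rfl | rfl
        · rw [hg'b, hg'c]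
        · rw [hg'c, hg'b]
      have h2' : g' ^ 2 ∈ MulAction.stabilizer G x := h2
      rw [hw, pow_succ', pow_mul]
      exact pow_mem h2' _
    exact hcb ((existsUnique_fixed hM hwo).unique (hsq c (Or.inr rfl)) (hsq b (Or.inl rfl)))
  -- the solvable group `H`
  haveI := hG.solv H hHne
  let F' : SubMulAction H (G ⧸ M) := ⟨F, fun h {c} hc => hinv h h.2 c hc⟩
  haveI : (R.subgroupOf H).Normal := normal_subgroupOf_of_le_normalizer le_rfl
  have hRH : R ≤ H := le_normalizer
  refine not_dvd_card_of_free (X := H) (Ω := F') (pnilp hG hHne) hp2 ⟨b, hfix⟩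
    (fun w hw c h => hkey c.1 c.2 (w : G) (by rwa [Subgroup.orderOf_coe]) (congrArg Subtype.val h) w.2)
    (fun c hc => ?_) (R := R.subgroupOf H) (hRp.of_equiv (subgroupOfEquivOfLe hRH).symm)
    (fun r hr => Subtype.ext (hfix ⟨(r : G), hr⟩)) ?_ hdF
  · obtain ⟨w, hwH, hwo, hwb⟩ := hswap c.1 c.2 fun h => hc (Subtype.ext h)
    exact ⟨⟨w, hwH⟩, by rwa [Subgroup.orderOf_mk], Subtype.ext hwb⟩
  · have hst : MulAction.stabilizer H (⟨b, hfix⟩ : F') = M.subgroupOf H := by
      ext x
      rw [MulAction.mem_stabilizer_iff, Subgroup.mem_subgroupOf, hmemb,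
        MulAction.mem_stabilizer_iff, Subtype.ext_iff]
      rfl
    rw [hst]
    intro h
    have h1 : (R.subgroupOf H).relIndex (M.subgroupOf H) = R.relIndex (M ⊓ H) := by
      rw [← relIndex_map_map_of_injective _ _ H.subtype_injective, subgroupOf_map_subtype,
        subgroupOf_map_subtype, inf_of_le_left hRH]
    rw [h1] at h
    have h2 : p ∣ (R.subgroupOf M).index := h.trans (by
      exact ⟨_, (relIndex_mul_relIndex R (M ⊓ H) M (le_inf hRM hRH) inf_le_left).symm⟩)
    exact (Sylow.ofCard (R.subgroupOf M) (by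
      rw [Nat.card_congr (subgroupOfEquivOfLe hRM).toEquiv, hRc])).not_dvd_index h2

/-- The final count. -/
theorem no_strongly_embedded : False := by
  classical
  haveI := Fintype.ofFinite G
  have hidx := not_dvd_index hG hp2 hM htwo
  -- a `p`-element fixes a coset
  have hfixp : ∀ x : G, (∃ k : ℕ, x ^ p ^ k = 1) → ∃ c : G ⧸ M, x • c = c := by
    rintro x ⟨k, hk⟩
    have hx : IsPGroup p (zpowers x) := by
      obtain ⟨i, -, hi⟩ := (Nat.dvd_prime_pow hp.out).1 (orderOf_dvd_of_pow_eq_one hk)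
      exact IsPGroup.of_card (n := i) (by rw [Nat.card_zpowers, hi])
    have hmod := hx.card_modEq_card_fixedPoints (G ⧸ M)
    rw [← index_eq_card] at hmod
    by_contra hno
    push Not at hno
    haveI : IsEmpty (MulAction.fixedPoints (zpowers x) (G ⧸ M)) :=
      ⟨fun c => hno c.1 (c.2 ⟨x, mem_zpowers x⟩)⟩
    rw [Nat.card_of_isEmpty] at hmod
    exact hidx (Nat.modEq_zero_iff_dvd.1 hmod)
  set v := Nat.card {t : G // orderOf t = 2 ∧ t ∈ M}
  have hfix : ∀ c : G ⧸ M, Nat.card {i : G // orderOf i = 2 ∧ i • c = c} = v := by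
    intro c
    induction c using QuotientGroup.induction_on with
    | H g => exact card_fixing g
  let P := {q : (G ⧸ M) × (G ⧸ M) // q.1 ≠ q.2}
  let T := Σ q : P, {i : G // orderOf i = 2 ∧ i • q.1.1 = q.1.1} ×
    {i : G // orderOf i = 2 ∧ i • q.1.2 = q.1.2}
  let U := Σ q : P, {r : {i : G // orderOf i = 2 ∧ i • q.1.1 = q.1.2} ×
    {i : G // orderOf i = 2 ∧ i • q.1.1 = q.1.2} // r.1 ≠ r.2}
  -- the two involutions interchange two cosets
  have hpair : ∀ z : T, ∃ q : P,
      (z.2.1 : G) • q.1.1 = q.1.2 ∧ (z.2.2 : G) • q.1.1 = q.1.2 := by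
    rintro ⟨⟨⟨a, b⟩, hab⟩, ⟨t, ht, hta⟩, ⟨u, hu, hub⟩⟩
    obtain ⟨htA, huA⟩ := And.intro (MulAction.mem_stabilizer_iff.2 hta) (MulAction.mem_stabilizer_iff.2 hub)
    have hodd : Odd (orderOf (t * u)) :=
      odd_orderOf_mul (isStronglyEmbedded_stabilizer hM a) ht htA hu fun h =>
        hab ((existsUnique_fixed hM hu).unique h hub)
    obtain ⟨c, hc⟩ := hfixp (t * u)
      ⟨_, isPPower_of_inverted hG hp2 ht hodd (conj_mul_eq_inv ht hu)⟩
    have h1 : u • c = t • c := by
      conv_rhs => rw [← hc, ← mul_smul, ← mul_assoc, involution_mul_self ht, one_mul]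
    refine ⟨⟨(c, t • c), fun h => ?_⟩, rfl, h1⟩
    exact hab (((existsUnique_fixed hM ht).unique hta h.symm).trans
      ((existsUnique_fixed hM hu).unique (h1.trans h.symm) hub))
  choose q hq1 hq2 using hpair
  have hne : ∀ z : T, (z.2.1 : G) ≠ z.2.2 := by
    rintro ⟨⟨⟨a, b⟩, hab⟩, ⟨t, ht, hta⟩, ⟨u, hu, hub⟩⟩ (rfl : t = u)
    exact hab ((existsUnique_fixed hM ht).unique hta hub)
  let φ : T → U := fun z => ⟨q z, ⟨⟨z.2.1, z.2.1.2.1, hq1 z⟩, ⟨z.2.2, z.2.2.2.1, hq2 z⟩⟩,
    fun h => hne z (congrArg Subtype.val h)⟩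
  have hφ : Function.Injective φ := by
    intro z z' h
    have ht : (z.2.1 : G) = z'.2.1 := congrArg (fun w : U => (w.2.1.1 : G)) h
    have hu : (z.2.2 : G) = z'.2.2 := congrArg (fun w : U => (w.2.1.2 : G)) h
    obtain ⟨⟨⟨a, b⟩, hab⟩, ⟨t, hto, hta⟩, ⟨u, huo, hub⟩⟩ := z
    obtain ⟨⟨⟨a', b'⟩, hab'⟩, ⟨t', hto', hta'⟩, ⟨u', huo', hub'⟩⟩ := z'
    simp only at ht hu
    subst ht hu
    obtain rfl := (existsUnique_fixed hM hto).unique hta hta'
    obtain rfl := (existsUnique_fixed hM huo).unique hub hub'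
    rfl
  have hle := Nat.card_le_card_of_injective φ hφ
  rw [Nat.card_sigma, Nat.card_sigma] at hle
  refine absurd hle (not_le.2 (Finset.sum_lt_sum_of_nonempty ?_ fun q' _ => ?_))
  · obtain ⟨g, -, hg⟩ := SetLike.exists_of_lt (lt_top_iff_ne_top.2 hM.1)
    exact ⟨⟨(((1 : G) : G ⧸ M), (g : G ⧸ M)), fun h => hg (by simpa [QuotientGroup.eq] using h)⟩,
      Finset.mem_univ _⟩
  · rw [Nat.card_prod, hfix, hfix, show v = Nat.card {i : G // orderOf i = 2 ∧ i • q'.1.1 = q'.1.2}
      from (card_swap hM _ _ q'.2).symm, ← Nat.card_prod]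
    obtain ⟨t0, ht0M, ht0⟩ := exists_involution_mem hM
    have hpos : 0 < Nat.card {i : G // orderOf i = 2 ∧ i • q'.1.1 = q'.1.2} := by
      rw [card_swap hM _ _ q'.2]
      exact Nat.card_pos_iff.2 ⟨⟨⟨t0, ht0, ht0M⟩⟩, inferInstance⟩
    obtain ⟨⟨x⟩, -⟩ := Nat.card_pos_iff.1 hpos
    exact Finite.card_subtype_lt (x := (x, x)) (fun h => h rfl)

end SE

end Cfsg.Agent.PPrimeNilp30
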