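import Mathlib
import Cfsg.Agent.Lib.PGroupsBasic
import Cfsg.Agent.Lib.PGroupsCyclic
import Cfsg.Agent.Lib.NormalFourGroup
import Cfsg.Agent.Lib.SolvableCentInvol2

/-!
2-groups without elementary abelian subgroups of order 8: their normal four groups through a central
involution are 1, 3 or 5 in number unless the group has a cyclic subgroup of index at most 2, and
elements of prime order `p > 3` act trivially on groups with such a subgroup.
-/

set_option autoImplicit false
set_option linter.style.haveILetI false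

namespace Cfsg.Agent.PPrimeNilp30

open Subgroup
open Cfsg.Agent.SolvCentInvol2 (pair left_mem_pair right_mem_pair pair_le eq_of_mem_pair
  isElementaryAbelian_pair two_mul_card_le four_le_card_pair eq_of_mem_four)

universe u

variable {G : Type u} [Group G]

/-- A cyclic subgroup of index at most two. -/
def CycTwo (U : Subgroup G) : Prop := ∃ c ∈ U, Nat.card U ≤ 2 * orderOf c

/-- No elementary abelian subgroup of order eight. -/
def NoEight (U : Subgroup G) : Prop :=
  ∀ A : Subgroup G, A ≤ U → Cfsg.IsElementaryAbelian 2 A → Nat.card A < 8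

/-- A four group through `t` normalized by `U`. -/
def IsFour (t : G) (U X : Subgroup G) : Prop :=
  t ∈ X ∧ X ≤ U ∧ Nat.card X = 4 ∧ Cfsg.IsElementaryAbelian 2 X ∧ U ≤ normalizer (X : Set G)

/-- A conjugation fixing a coset of `Q` and normalizing `Q` does so with all its powers. -/
theorem pow_conj_mem {Q : Subgroup G} {g u : G} (hQ : ∀ q ∈ Q, g * q * g⁻¹ ∈ Q)
    (h : u⁻¹ * (g * u * g⁻¹) ∈ Q) (n : ℕ) : u⁻¹ * (g ^ n * u * (g ^ n)⁻¹) ∈ Q := by
  induction n with
  | zero => simp
  | succ n ih =>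
    have h1 := mul_mem h (hQ _ ih)
    convert h1 using 1
    rw [pow_succ']
    group

/-- Coprime powers. -/
theorem exists_pow_eq {x : G} {d m : ℕ} (hx : x ^ m = 1) (hcop : d.Coprime m) :
    ∃ e : ℕ, (x ^ d) ^ e = x := by
  obtain ⟨e, he⟩ := exists_pow_eq_self_of_coprime
    (hcop.coprime_dvd_right (orderOf_dvd_of_pow_eq_one hx))
  exact ⟨e, he⟩

variable [Finite G] {p : ℕ} [hp : Fact p.Prime]

/-- Elements of `p`-power order, `p > 3`, centralize the 2-groups with a cyclic subgroup of index at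
most two that they normalize. -/
theorem commute_of_cycTwo (hp3 : 3 < p) {U : Subgroup G} (hU : IsPGroup 2 U) (hcyc : CycTwo U)
    {x : G} (hxU : x ∈ normalizer (U : Set G)) {k : ℕ} (hx : x ^ p ^ k = 1) {u : G} (hu : u ∈ U) :
    x * u = u * x := by
  classical
  haveI := Fact.mk Nat.prime_two
  obtain ⟨c, hcU, hc⟩ := hcyc
  set C := zpowers c with hC
  have hCU : C ≤ U := zpowers_le.2 hcU
  have hrel : C.relIndex U ≤ 2 := by
    have h := (C.subgroupOf U).card_mul_index
    rw [Nat.card_congr (subgroupOfEquivOfLe hCU).toEquiv, hC, Nat.card_zpowers] at h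
    rw [← h] at hc
    rw [mul_comm 2] at hc
    exact Nat.le_of_mul_le_mul_left hc (orderOf_pos c)
  -- representatives of `U` modulo `C`
  obtain ⟨u0, hu0, hsplit⟩ : ∃ u0 ∈ U, ∀ v ∈ U, v ∈ C ∨ u0⁻¹ * v ∈ C := by
    by_cases h : ∀ v ∈ U, v ∈ C
    · exact ⟨1, one_mem _, fun v hv => Or.inl (h v hv)⟩
    push Not at h
    obtain ⟨u0, hu0, hu0C⟩ := h
    refine ⟨u0, hu0, fun v hv => ?_⟩
    have h2 : (C.subgroupOf U).index = 2 := by
      rcases Nat.lt_or_ge (C.relIndex U) 2 with h | h
      · exfalso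
        have h0 : C.relIndex U ≠ 0 := (C.subgroupOf U).index_ne_zero_of_finite
        exact hu0C (relIndex_eq_one.1 (by omega : C.relIndex U = 1) hu0)
      · exact le_antisymm hrel h
    by_cases hvC : v ∈ C
    · exact Or.inl hvC
    · right
      have := (mul_mem_iff_of_index_two h2 (a := ⟨u0⁻¹, inv_mem hu0⟩) (b := ⟨v, hv⟩))
      simp only [mem_subgroupOf, Subgroup.coe_mul, inv_mem_iff] at this
      exact this.2 ⟨fun h => absurd h hu0C, fun h => absurd h hvC⟩
  have hu0sq : ∀ v ∈ U, v * v ∈ C := by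
    intro v hv
    rcases Nat.lt_or_ge (C.relIndex U) 2 with h | h
    · have h0 : C.relIndex U ≠ 0 := (C.subgroupOf U).index_ne_zero_of_finite
      have h1 := relIndex_eq_one.1 (by omega : C.relIndex U = 1) hv
      exact mul_mem h1 h1
    · exact mul_self_mem_of_index_two (le_antisymm hrel h : (C.subgroupOf U).index = 2) ⟨v, hv⟩
  -- the subgroup of squares
  set Q := closure {y : G | ∃ v ∈ U, v * v = y} with hQ
  have hQC : Q ≤ C := (closure_le _).2 fun y ⟨v, hv, hy⟩ => hy ▸ hu0sq v hv
  have hQn : ∀ g ∈ normalizer (U : Set G), ∀ q ∈ Q, g * q * g⁻¹ ∈ Q := by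
    intro g hg q hq
    induction hq using closure_induction with
    | mem y hy =>
      obtain ⟨v, hv, rfl⟩ := hy
      exact subset_closure ⟨g * v * g⁻¹, (mem_normalizer_iff.1 hg v).1 hv, by group⟩
    | one => simp
    | mul a b _ _ ha hb =>
      have := mul_mem ha hb
      simpa [mul_assoc] using this
    | inv a _ ha =>
      have := inv_mem ha
      simpa [mul_assoc] using this
  -- every coset of `Q` has one of four shapes
  have hfour : ∀ v ∈ U, ∃ i : Bool × Bool,
      ((if i.1 then u0 else 1) * (if i.2 then c else 1))⁻¹ * v ∈ Q := by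
    have hpar : ∀ w ∈ C, ∃ b : Bool, (if b then c else 1)⁻¹ * w ∈ Q := by
      intro w hw
      obtain ⟨n, rfl⟩ := mem_zpowers_iff.1 hw
      have hc2 : c * c ∈ Q := subset_closure ⟨c, hcU, rfl⟩
      rcases Int.even_or_odd n with ⟨j, rfl⟩ | ⟨j, rfl⟩
      · refine ⟨false, ?_⟩
        simp only [Bool.false_eq_true, if_false, inv_one, one_mul]
        rw [← two_mul, zpow_mul, zpow_two]
        exact zpow_mem hc2 j
      · refine ⟨true, ?_⟩
        simp only [if_true]
        rw [add_comm, zpow_add, zpow_one, inv_mul_cancel_left, zpow_mul, zpow_two]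
        exact zpow_mem hc2 j
    intro v hv
    rcases hsplit v hv with h | h
    · obtain ⟨b, hb⟩ := hpar v h
      exact ⟨(false, b), by simpa using hb⟩
    · obtain ⟨b, hb⟩ := hpar _ h
      refine ⟨(true, b), ?_⟩
      cases b <;> simpa [mul_assoc] using hb
  -- `x` fixes every coset of `Q`
  have hfix : ∀ v ∈ U, v⁻¹ * (x * v * x⁻¹) ∈ Q := by
    intro v hv
    choose f hf using fun i : Fin 5 => hfour (x ^ (i : ℕ) * v * (x ^ (i : ℕ))⁻¹)
      ((mem_normalizer_iff.1 (pow_mem hxU _) v).1 hv)
    obtain ⟨i, j, hij, hfij⟩ := Fintype.exists_ne_map_eq_of_card_lt f (by simp)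
    wlog hlt : (i : ℕ) < j generalizing i j
    · exact this j i hij.symm hfij.symm
        (lt_of_le_of_ne (not_lt.1 hlt) (fun h => hij (Fin.ext h).symm))
    have h1 := mul_mem (inv_mem (hf i)) (hfij ▸ hf j)
    simp only [mul_inv_rev, inv_inv] at h1
    rw [hfij] at h1
    set d := (j : ℕ) - i with hd
    have h2 : v⁻¹ * (x ^ d * v * (x ^ d)⁻¹) ∈ Q := by
      have h3 := hQn (x ^ (i : ℕ))⁻¹ (inv_mem (pow_mem hxU _)) _ h1
      convert h3 using 1
      rw [show (j : ℕ) = i + d by omega, pow_add]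
      group
    have hd4 : d.Coprime (p ^ k) := by
      refine Nat.Coprime.pow_right k ((hp.out.coprime_iff_not_dvd.2 ?_).symm)
      intro h
      have := Nat.le_of_dvd (by omega) h
      have : p ≠ 4 := fun h => absurd (h ▸ hp.out) (by norm_num)
      omega
    obtain ⟨e, he⟩ := exists_pow_eq hx hd4
    have := pow_conj_mem (fun q hq => hQn _ (pow_mem hxU d) q hq) h2 e
    rwa [he] at this
  -- `x` centralizes `C`
  obtain ⟨n, hn⟩ := IsPGroup.iff_card.1 hU
  have hcc : x * c = c * x := by
    have h1 : x * c * x⁻¹ ∈ C := by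
      have := mul_mem (mem_zpowers c) (hQC (hfix c hcU))
      simpa using this
    obtain ⟨r, hr⟩ : ∃ r : ℕ, c ^ r = x * c * x⁻¹ :=
      mem_powers_iff_mem_zpowers.2 h1 |>.imp fun r hr => hr
    obtain ⟨m, -, hm⟩ := (Nat.dvd_prime_pow Nat.prime_two).1 (hn ▸ Subgroup.orderOf_dvd_natCard U hcU)
    rcases m with _ | m
    · rw [pow_zero, orderOf_eq_one_iff] at hm
      simp [hm]
    have hrcop : r.Coprime (2 ^ (m + 1)) := by
      refine Nat.Coprime.pow_right _ ((Nat.prime_two.coprime_iff_not_dvd.2 ?_).symm)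
      intro h
      have h' : orderOf (x * c * x⁻¹) = 2 ^ (m + 1) := by
        rw [SignalizerStrongEmb.orderOf_conj, hm]
      rw [← hr, orderOf_pow, hm] at h'
      have h2 : 2 ∣ Nat.gcd (2 ^ (m + 1)) r := Nat.dvd_gcd (dvd_pow_self 2 (by omega)) h
      have h3 := Nat.div_lt_self (Nat.two_pow_pos (m + 1))
        (lt_of_lt_of_le Nat.one_lt_two (Nat.le_of_dvd (Nat.gcd_pos_of_pos_left _ (Nat.two_pow_pos _)) h2))
      omega
    have hiter : ∀ i : ℕ, x ^ i * c * (x ^ i)⁻¹ = c ^ (r ^ i) := by
      intro i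
      induction i with
      | zero => simp
      | succ i ih =>
        calc x ^ (i + 1) * c * (x ^ (i + 1))⁻¹ = x * (x ^ i * c * (x ^ i)⁻¹) * x⁻¹ := by
              rw [pow_succ']; group
          _ = (x * c * x⁻¹) ^ (r ^ i) := by rw [ih, conj_pow]
          _ = _ := by rw [← hr, ← pow_mul, pow_succ']
    have htot : c ^ (r ^ 2 ^ m) = c := by
      conv_rhs => rw [← pow_one c]
      rw [pow_eq_pow_iff_modEq, hm]
      have := Nat.ModEq.pow_totient hrcop
      rwa [Nat.totient_prime_pow Nat.prime_two (by omega), Nat.add_sub_cancel, Nat.mul_one] at this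
    obtain ⟨e, he⟩ := exists_pow_eq hx (d := 2 ^ m)
      ((((Nat.coprime_primes Nat.prime_two hp.out).2 (by omega)).pow_left m).pow_right k)
    have hcomm : Commute (x ^ 2 ^ m) c := mul_inv_eq_iff_eq_mul.1 ((hiter _).trans htot)
    have := hcomm.pow_left e
    rwa [he] at this
  -- finally
  set q := u⁻¹ * (x * u * x⁻¹) with hq
  have hqC : q ∈ C := hQC (hfix u hu)
  have hxq : x * q * x⁻¹ = q := by
    obtain ⟨i, hi⟩ := mem_zpowers_iff.1 hqC
    rw [← hi, show x * c ^ i = c ^ i * x from (Commute.zpow_right hcc i).eq, mul_inv_cancel_right]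
  have hiter : ∀ i : ℕ, x ^ i * u * (x ^ i)⁻¹ = u * q ^ i := by
    intro i
    induction i with
    | zero => simp
    | succ i ih =>
      calc x ^ (i + 1) * u * (x ^ (i + 1))⁻¹ = x * (x ^ i * u * (x ^ i)⁻¹) * x⁻¹ := by
            rw [pow_succ']; group
        _ = (x * u * x⁻¹) * (x * q * x⁻¹) ^ i := by rw [ih, conj_pow]; group
        _ = u * q * q ^ i := by rw [hxq, hq]; group
        _ = _ := by rw [pow_succ']; group
  have hq1 : q = 1 := by
    have h1 := hiter (p ^ k)
    rw [hx] at h1
    simp at h1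
    have h2 := orderOf_dvd_of_pow_eq_one h1
    have h3 := Subgroup.orderOf_dvd_natCard U (hCU hqC)
    rw [hn] at h3
    rw [← orderOf_eq_one_iff]
    exact Nat.eq_one_of_dvd_coprimes
      ((((Nat.coprime_primes Nat.prime_two hp.out).2 (by omega)).pow_left n).pow_right k) h3 h2
  rw [hq, inv_mul_eq_one] at hq1
  exact mul_inv_eq_iff_eq_mul.1 hq1.symm

omit hp in
/-- A 2-group with a single involution has a cyclic subgroup of index at most two. -/
theorem cycTwo_of_unique {U : Subgroup G} (hU : IsPGroup 2 U) {t : G}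
    (h : ∀ y ∈ U, orderOf y = 2 → y = t) : CycTwo U := by
  haveI := Fact.mk Nat.prime_two
  have huniq : ∀ H K : Subgroup U, Nat.card H = 2 → Nat.card K = 2 → H = K := by
    intro H K hH hK
    obtain ⟨a, ha, hao⟩ := PGroupsBasic.exists_orderOf_eq_of_ne_bot (hU.to_subgroup H)
      (fun e => by rw [e, card_bot] at hH; omega)
    obtain ⟨b, hb, hbo⟩ := PGroupsBasic.exists_orderOf_eq_of_ne_bot (hU.to_subgroup K)
      (fun e => by rw [e, card_bot] at hK; omega)
    have hab : a = b := Subtype.ext ((h a a.2 (by rw [Subgroup.orderOf_coe, hao])).trans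
      (h b b.2 (by rw [Subgroup.orderOf_coe, hbo])).symm)
    have h1 := eq_of_le_of_card_ge (zpowers_le.2 ha) (by rw [Nat.card_zpowers, hao, hH])
    have h2 := eq_of_le_of_card_ge (zpowers_le.2 hb) (by rw [Nat.card_zpowers, hbo, hK])
    rw [← h1, ← h2, hab]
  rcases PGroupsCyclic.isCyclic_or_quaternion hU huniq with hc | ⟨-, n, ⟨e⟩⟩
  · obtain ⟨g, hg⟩ := hc.exists_ofOrder_eq_natCard
    exact ⟨g, g.2, by rw [Subgroup.orderOf_coe, hg]; omega⟩
  · refine ⟨(e.symm (QuaternionGroup.a 1) : U), SetLike.coe_mem _, ?_⟩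
    rw [Subgroup.orderOf_coe, MulEquiv.orderOf_eq, QuaternionGroup.orderOf_a_one,
      Nat.card_congr e.toEquiv, Nat.card_eq_fintype_card, QuaternionGroup.card]
    ring_nf
    rfl

section Fours

variable {t : G} {U : Subgroup G}

omit hp in
/-- An elementary subgroup of order eight is absent. -/
theorem not_three (hne : NoEight U) {a b c : G} (ha : a ∈ U) (hb : b ∈ U) (hc : c ∈ U)
    (hao : orderOf a = 2) (hbo : orderOf b = 2) (hco : orderOf c = 2) (hab : a * b = b * a)
    (hac : a * c = c * a) (hbc : b * c = c * b) (h1 : b ≠ a) : c = a ∨ c = b ∨ c = a * b := by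
  by_contra h
  push Not at h
  obtain ⟨A, hA, hbA, hcA⟩ :=
    SolvCentInvol2.good_three hao hbo hco hab hac hbc h1 h.1 h.2.1 h.2.2
  have hle : pair a b ⊔ zpowers c ≤ U := sup_le (pair_le ha hb) (zpowers_le.2 hc)
  have he : Cfsg.IsElementaryAbelian 2 (pair a b ⊔ zpowers c) :=
    PGroupsBasic.isElementaryAbelian_mono hA.elem
      (sup_le (pair_le (hA.le (mem_zpowers a)) hbA) (zpowers_le.2 hcA))
  have h8 := hne _ hle he
  have := two_mul_card_le (le_sup_left : pair a b ≤ pair a b ⊔ zpowers c)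
    (mem_sup_right (mem_zpowers c)) (fun hm => ?_)
  · have := four_le_card_pair hao hbo h1
    omega
  · rcases eq_of_mem_pair (SignalizerStrongEmb.involution_mul_self hao)
      (SignalizerStrongEmb.involution_mul_self hbo) hab hm with e | e | e | e
    · exact SignalizerStrongEmb.involution_ne_one hco e
    · exact h.1 e
    · exact h.2.1 e
    · exact h.2.2 e

omit hp in
theorem IsFour.conj_cases {X : Subgroup G} (hX : IsFour t U X) (ht : orderOf t = 2)
    (htc : ∀ u ∈ U, u * t = t * u) {a : G} (ha : a ∈ X) (ha1 : a ≠ 1) (hat : a ≠ t) {u : G}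
    (hu : u ∈ U) : u * a * u⁻¹ = a ∨ u * a * u⁻¹ = t * a := by
  obtain ⟨htX, -, h4, hel, hn⟩ := hX
  rcases eq_of_mem_four hel h4.le htX ha (SignalizerStrongEmb.involution_ne_one ht) ha1 hat
    ((mem_normalizer_iff.1 (hn hu) a).1 ha) with h | h | h | h
  · exact absurd (conj_eq_one_iff.1 h) ha1
  · refine absurd ?_ hat
    calc a = u⁻¹ * (u * a * u⁻¹) * u := by group
      _ = u⁻¹ * (t * u) := by rw [h, mul_assoc]
      _ = t := by rw [← htc u hu, inv_mul_cancel_left]
  · exact Or.inl h
  · exact Or.inr h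

omit hp in
theorem IsFour.exists_rep {X : Subgroup G} (hX : IsFour t U X) (ht : orderOf t = 2) :
    ∃ a ∈ X, a ≠ 1 ∧ a ≠ t := by
  by_contra h
  push Not at h
  have hle : X ≤ zpowers t := fun a ha => by
    by_cases ha1 : a = 1
    · rw [ha1]; exact one_mem _
    · rw [h a ha ha1]; exact mem_zpowers t
  have := card_le_of_le hle
  rw [hX.2.2.1, Nat.card_zpowers, ht] at this
  omega

omit hp in
theorem IsFour.eq_pair {X : Subgroup G} (hX : IsFour t U X) (ht : orderOf t = 2) {a : G}
    (ha : a ∈ X) (ha1 : a ≠ 1) (hat : a ≠ t) : X = pair t a :=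
  (eq_of_le_of_card_ge (pair_le hX.1 ha) (hX.2.2.1.le.trans
    (four_le_card_pair ht (SolvCentInvol1.orderOf_eq_two hX.2.2.2.1 ha ha1) hat))).symm

omit hp in
/-- Representatives of distinct four groups do not commute. -/
theorem IsFour.anticomm {X Y : Subgroup G} (hX : IsFour t U X) (hY : IsFour t U Y)
    (hne : NoEight U) (ht : orderOf t = 2) (htc : ∀ u ∈ U, u * t = t * u) (hXY : X ≠ Y) {a b : G}
    (ha : a ∈ X) (ha1 : a ≠ 1) (hat : a ≠ t) (hb : b ∈ Y) (hb1 : b ≠ 1) (hbt : b ≠ t) :
    b * a = t * (a * b) := by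
  have hao := SolvCentInvol1.orderOf_eq_two hX.2.2.2.1 ha ha1
  have hbo := SolvCentInvol1.orderOf_eq_two hY.2.2.2.1 hb hb1
  rcases hX.conj_cases ht htc ha ha1 hat (hY.2.1 hb) with h | h
  · exfalso
    have hab : a * b = b * a := (mul_inv_eq_iff_eq_mul.1 h).symm
    have hbX : b ∈ X := by
      rcases not_three hne (hX.2.1 hX.1) (hX.2.1 ha) (hY.2.1 hb) ht hao hbo
        (htc a (hX.2.1 ha)).symm (htc b (hY.2.1 hb)).symm hab hat with e | e | e
      · exact absurd e hbt
      · exact e ▸ ha
      · exact e ▸ mul_mem hX.1 ha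
    exact hXY ((hX.eq_pair ht hbX hb1 hbt).trans (hY.eq_pair ht hb hb1 hbt).symm)
  · rw [mul_inv_eq_iff_eq_mul] at h
    rw [h, mul_assoc]

omit hp in
theorem isFour_pair (ht : orderOf t = 2) (htU : t ∈ U) (htc : ∀ u ∈ U, u * t = t * u) {e : G}
    (heU : e ∈ U) (he2 : e * e = 1) (he1 : e ≠ 1) (het : e ≠ t)
    (he : ∀ u ∈ U, u * e * u⁻¹ = e ∨ u * e * u⁻¹ = t * e) : IsFour t U (pair t e) := by
  have hel := isElementaryAbelian_pair (SignalizerStrongEmb.involution_mul_self ht) he2
    (htc e heU).symm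
  have hmem : ∀ u ∈ U, ∀ y ∈ pair t e, u * y * u⁻¹ ∈ pair t e := by
    intro u hu y hy
    have ht' : u * t * u⁻¹ = t := by rw [htc u hu, mul_inv_cancel_right]
    have he' : u * e * u⁻¹ ∈ pair t e := by
      rcases he u hu with h | h <;> rw [h]
      · exact right_mem_pair t e
      · exact mul_mem (left_mem_pair t e) (right_mem_pair t e)
    induction hy using closure_induction with
    | mem x hx =>
      rcases hx with rfl | rfl
      · rw [ht']; exact left_mem_pair _ _
      · exact he'
    | one => simp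
    | mul a b _ _ ha hb =>
      have := mul_mem ha hb
      simpa [mul_assoc] using this
    | inv a _ ha =>
      have := inv_mem ha
      simpa [mul_assoc] using this
  refine ⟨left_mem_pair t e, pair_le htU heU, le_antisymm ?_ (four_le_card_pair ht
    (SignalizerStrongEmb.orderOf_eq_two_of_mul_self he2 he1) het), hel, fun u hu => ?_⟩
  · classical
    have hsub : (pair t e : Set G) ⊆ ({1, t, e, t * e} : Finset G) := fun y hy => by
      rcases eq_of_mem_pair (SignalizerStrongEmb.involution_mul_self ht) he2 (htc e heU).symm hy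
        with rfl | rfl | rfl | rfl <;> simp
    have := Set.ncard_le_ncard hsub (Finset.finite_toSet _)
    rw [Set.ncard_coe_finset, ← Nat.card_coe_set_eq] at this
    exact this.trans Finset.card_le_four
  · rw [mem_normalizer_iff]
    refine fun y => ⟨hmem u hu y, fun h => ?_⟩
    have := hmem u⁻¹ (inv_mem hu) _ h
    simpa [mul_assoc] using this

omit hp [Finite G] in
/-- Twisting is multiplicative. -/
theorem tw_mul (ht2 : t * t = 1) (htc : ∀ u ∈ U, u * t = t * u) {a b : G} (ha : a ∈ U)
    (h1 : ∀ u ∈ U, u * a * u⁻¹ = a ∨ u * a * u⁻¹ = t * a)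
    (h2 : ∀ u ∈ U, u * b * u⁻¹ = b ∨ u * b * u⁻¹ = t * b) :
    ∀ u ∈ U, u * (a * b) * u⁻¹ = a * b ∨ u * (a * b) * u⁻¹ = t * (a * b) := by
  intro u hu
  rw [show u * (a * b) * u⁻¹ = (u * a * u⁻¹) * (u * b * u⁻¹) by group]
  rcases h1 u hu with e1 | e1 <;> rcases h2 u hu with e2 | e2 <;> rw [e1, e2]
  · exact Or.inl rfl
  · exact Or.inr (by rw [← mul_assoc, htc a ha, mul_assoc])
  · exact Or.inr (mul_assoc _ _ _)
  · exact Or.inl (by rw [← mul_assoc (t * a), mul_assoc t a t, htc a ha, ← mul_assoc, ht2, one_mul])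

omit hp [Finite G] in
/-- Moving an element past a product. -/
theorem anti_mul (ht2 : t * t = 1) {a b f : G} (hta : a * t = t * a) (h1 : f * a = t * (a * f))
    (h2 : f * b = t * (b * f)) : f * (a * b) = a * b * f := by
  calc f * (a * b) = f * a * b := by group
    _ = t * a * (f * b) := by rw [h1]; group
    _ = t * (a * t) * b * f := by rw [h2]; group
    _ = (t * t) * (a * b * f) := by rw [hta]; group
    _ = _ := by rw [ht2, one_mul]

variable (hU : IsPGroup 2 U) (ht : orderOf t = 2) (htU : t ∈ U)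
  (htc : ∀ u ∈ U, u * t = t * u) (hne : NoEight U)

include ht htU htc hne

omit hp in
/-- There are at most five normal four groups through `t`, exactly five if at least four. -/
theorem ncard_eq_five (h : 4 ≤ {X : Subgroup G | IsFour t U X}.ncard) :
    {X : Subgroup G | IsFour t U X}.ncard = 5 := by
  classical
  set Ξ := {X : Subgroup G | IsFour t U X} with hΞ
  obtain ⟨s, hs, hs4⟩ := Set.exists_subset_card_eq h
  rw [Set.ncard_eq_four] at hs4
  obtain ⟨X1, X2, X3, X4, h12, h13, h14, h23, h24, h34, rfl⟩ := hs4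
  have hX1 : IsFour t U X1 := hs (by simp)
  have hX2 : IsFour t U X2 := hs (by simp)
  have hX3 : IsFour t U X3 := hs (by simp)
  have hX4 : IsFour t U X4 := hs (by simp)
  obtain ⟨a, ha, ha1, hat⟩ := hX1.exists_rep ht
  obtain ⟨b, hb, hb1, hbt⟩ := hX2.exists_rep ht
  obtain ⟨c, hc, hc1, hct⟩ := hX3.exists_rep ht
  obtain ⟨d, hd, hd1, hdt⟩ := hX4.exists_rep ht
  have ht2 := SignalizerStrongEmb.involution_mul_self ht
  have hsq : ∀ {X : Subgroup G}, IsFour t U X → ∀ {y : G}, y ∈ X → y * y = 1 := fun {X} hX {y} hy => by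
    rw [← pow_two]; exact hX.2.2.2.1.2 y hy
  have eba := hX1.anticomm hX2 hne ht htc h12 ha ha1 hat hb hb1 hbt
  have eca := hX1.anticomm hX3 hne ht htc h13 ha ha1 hat hc hc1 hct
  have eda := hX1.anticomm hX4 hne ht htc h14 ha ha1 hat hd hd1 hdt
  have ecb := hX2.anticomm hX3 hne ht htc h23 hb hb1 hbt hc hc1 hct
  have edb := hX2.anticomm hX4 hne ht htc h24 hb hb1 hbt hd hd1 hdt
  have edc := hX3.anticomm hX4 hne ht htc h34 hc hc1 hct hd hd1 hdt
  have haU := hX1.2.1 ha
  have hbU := hX2.2.1 hb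
  have hcU := hX3.2.1 hc
  have hdU := hX4.2.1 hd
  have hab2 : a * b * (a * b) = t := by
    calc a * b * (a * b) = a * (b * a) * b := by group
      _ = (a * t) * a * (b * b) := by rw [eba]; group
      _ = t * (a * a) := by rw [htc a haU, hsq hX2 hb]; group
      _ = t := by rw [hsq hX1 ha, mul_one]
  have habc2 : a * b * c * (a * b * c) = t := by
    calc a * b * c * (a * b * c) = a * b * (c * (a * b)) * c := by group
      _ = a * b * (a * b) * (c * c) := by rw [anti_mul ht2 (htc a haU) eca ecb]; group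
      _ = t := by rw [hab2, hsq hX3 hc, mul_one]
  have edabc : d * (a * b * c) = t * (a * b * c * d) := by
    calc d * (a * b * c) = d * (a * b) * c := by group
      _ = a * b * (d * c) := by rw [anti_mul ht2 (htc a haU) eda edb]; group
      _ = (a * b * t) * c * d := by rw [edc]; group
      _ = _ := by rw [htc _ (mul_mem haU hbU)]; group
  set e := a * b * c * d with he
  have heU : e ∈ U := mul_mem (mul_mem (mul_mem haU hbU) hcU) hdU
  have he2 : e * e = 1 := by
    calc e * e = a * b * c * (d * (a * b * c)) * d := by rw [he]; group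
      _ = (a * b * c * t) * (a * b * c) * (d * d) := by rw [edabc, he]; group
      _ = t * (a * b * c * (a * b * c)) := by
        rw [htc _ (mul_mem (mul_mem haU hbU) hcU), hsq hX4 hd]; group
      _ = 1 := by rw [habc2, ht2]
  have hte : t ≠ 1 := SignalizerStrongEmb.involution_ne_one ht
  -- commutation of `e` with the representatives
  have hea : e * a = t * (a * e) := by
    have h1 : d * a = t * (a * d) := eda
    calc e * a = a * b * c * (d * a) := by rw [he]; group
      _ = t * (a * b * (c * a)) * d := by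
        rw [h1, ← mul_assoc (a * b * c) t, htc _ (mul_mem (mul_mem haU hbU) hcU)]; group
      _ = t * ((a * b * t) * a * c) * d := by rw [eca]; group
      _ = (t * t) * (a * (b * a)) * c * d := by rw [htc _ (mul_mem haU hbU)]; group
      _ = (a * t) * a * b * c * d := by rw [ht2, eba]; group
      _ = t * (a * e) := by rw [htc a haU, he]; group
  have hfe : ∀ {f : G}, f * a = t * (a * f) → f * b = t * (b * f) → f * c = t * (c * f) →
      f * d = t * (d * f) → f * e = e * f := by
    intro f h1 h2 h3 h4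
    have h12 := anti_mul ht2 (htc a haU) h1 h2
    have h34 := anti_mul ht2 (htc c hcU) h3 h4
    calc f * e = f * (a * b) * (c * d) := by rw [he]; group
      _ = a * b * (f * (c * d)) := by rw [h12]; group
      _ = _ := by rw [h34, he]; group
  have he1 : e ≠ 1 := by
    intro h1
    rw [h1, mul_one, one_mul] at hea
    exact hte (mul_eq_right.1 hea.symm)
  have het : e ≠ t := by
    intro h1
    rw [h1, htc a haU] at hea
    exact hte (mul_eq_right.1 hea.symm)
  have hee : e * e = 1 := he2
  have htw : ∀ u ∈ U, u * e * u⁻¹ = e ∨ u * e * u⁻¹ = t * e :=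
    tw_mul ht2 htc (mul_mem (mul_mem haU hbU) hcU)
      (tw_mul ht2 htc (mul_mem haU hbU)
        (tw_mul ht2 htc haU (fun u hu => hX1.conj_cases ht htc ha ha1 hat hu)
          (fun u hu => hX2.conj_cases ht htc hb hb1 hbt hu))
        (fun u hu => hX3.conj_cases ht htc hc hc1 hct hu))
      (fun u hu => hX4.conj_cases ht htc hd hd1 hdt hu)
  have hX5 := isFour_pair ht htU htc heU hee he1 het htw
  set X5 := pair t e
  have hothers : ∀ Y, IsFour t U Y → Y ≠ X1 → Y ≠ X2 → Y ≠ X3 → Y ≠ X4 → Y = X5 := by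
    intro Y hY n1 n2 n3 n4
    by_contra n5
    obtain ⟨f, hf, hf1, hft⟩ := hY.exists_rep ht
    have e1 := hX1.anticomm hY hne ht htc n1.symm ha ha1 hat hf hf1 hft
    have e2 := hX2.anticomm hY hne ht htc n2.symm hb hb1 hbt hf hf1 hft
    have e3 := hX3.anticomm hY hne ht htc n3.symm hc hc1 hct hf hf1 hft
    have e4 := hX4.anticomm hY hne ht htc n4.symm hd hd1 hdt hf hf1 hft
    have e5 := hX5.anticomm hY hne ht htc (Ne.symm n5) (right_mem_pair t e) he1 het hf hf1 hft
    rw [hfe e1 e2 e3 e4] at e5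
    exact hte (mul_eq_right.1 e5.symm)
  have hcomm : ∀ {X : Subgroup G}, IsFour t U X → ∀ {y : G}, y ∈ X → X5 = X → y * e = e * y :=
    fun {X} hX {y} hy hXe => PGroupsBasic.comm_of_isMulCommutative hX.2.2.2.1.1 hy
      (hXe ▸ right_mem_pair t e)
  have haX5 : X5 ≠ X1 := fun h => by
    rw [← hcomm hX1 ha h] at hea
    exact hte (mul_eq_right.1 hea.symm)
  have hbe : b * e = t * (e * b) := by
    have h3 : c * d * b = b * (c * d) := by
      calc c * d * b = c * (d * b) := by group
        _ = (c * t) * b * d := by rw [edb]; group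
        _ = t * (c * b) * d := by rw [htc c hcU]; group
        _ = (t * t) * b * (c * d) := by rw [ecb]; group
        _ = _ := by rw [ht2, one_mul]
    calc b * e = b * a * (b * (c * d)) := by rw [he]; group
      _ = t * (a * b * (c * d * b)) := by rw [eba, h3]; group
      _ = _ := by rw [he]; group
  have hce : c * e = t * (e * c) := by
    calc c * e = c * (a * b) * (c * d) := by rw [he]; group
      _ = (a * b * c) * (c * d) := by rw [anti_mul ht2 (htc a haU) eca ecb]
      _ = (a * b * c) * (t * (d * c)) := by rw [edc, ← mul_assoc t t, ht2, one_mul]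
      _ = (a * b * c * t) * (d * c) := by group
      _ = _ := by rw [htc _ (mul_mem (mul_mem haU hbU) hcU), he]; group
  have hde : d * e = t * (e * d) := by
    calc d * e = d * (a * b * c) * d := by rw [he]; group
      _ = t * (e * d) := by rw [edabc, he]; group
  have h5notin : X5 ∉ ({X1, X2, X3, X4} : Set (Subgroup G)) := by
    simp only [Set.mem_insert_iff, Set.mem_singleton_iff]
    rintro (h5 | h5 | h5 | h5)
    · exact haX5 h5
    · rw [hcomm hX2 hb h5] at hbe; exact hte (mul_eq_right.1 hbe.symm)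
    · rw [hcomm hX3 hc h5] at hce; exact hte (mul_eq_right.1 hce.symm)
    · rw [hcomm hX4 hd h5] at hde; exact hte (mul_eq_right.1 hde.symm)
  have hΞeq : Ξ = {X5, X1, X2, X3, X4} := by
    ext Y
    constructor
    · intro hY
      simp only [Set.mem_insert_iff, Set.mem_singleton_iff]
      by_contra hn
      push Not at hn
      exact hn.1 (hothers Y hY hn.2.1 hn.2.2.1 hn.2.2.2.1 hn.2.2.2.2)
    · rintro (rfl | hY)
      · exact hX5
      · exact hs hY
  rw [hΞeq, Set.ncard_insert_of_notMem h5notin, Set.ncard_eq_four.2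
    ⟨X1, X2, X3, X4, h12, h13, h14, h23, h24, h34, rfl⟩]

omit hp htU in
/-- The centralizer of two distinct representatives has a single involution, and together with them
generates `U`. -/
theorem pair_centralizer {X Y : Subgroup G} (hX : IsFour t U X) (hY : IsFour t U Y) (hXY : X ≠ Y)
    {a b : G} (ha : a ∈ X) (ha1 : a ≠ 1) (hat : a ≠ t) (hb : b ∈ Y) (hb1 : b ≠ 1) (hbt : b ≠ t) :
    (∀ y ∈ U ⊓ centralizer ({a, b} : Set G), orderOf y = 2 → y = t) ∧
      ∀ u ∈ U, ∃ d ∈ ({1, a, b, a * b} : Set G), u * d ∈ U ⊓ centralizer ({a, b} : Set G) := by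
  have ht2 := SignalizerStrongEmb.involution_mul_self ht
  have hte : t ≠ 1 := SignalizerStrongEmb.involution_ne_one ht
  have hao := SolvCentInvol1.orderOf_eq_two hX.2.2.2.1 ha ha1
  have hbo := SolvCentInvol1.orderOf_eq_two hY.2.2.2.1 hb hb1
  have ha2 := SignalizerStrongEmb.involution_mul_self hao
  have hb2 := SignalizerStrongEmb.involution_mul_self hbo
  have haU := hX.2.1 ha
  have hbU := hY.2.1 hb
  have eba := hX.anticomm hY hne ht htc hXY ha ha1 hat hb hb1 hbt
  have eab : a * b = t * (b * a) := by rw [eba, ← mul_assoc, ht2, one_mul]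
  refine ⟨fun y hy hyo => ?_, fun u hu => ?_⟩
  · obtain ⟨hyU, hyc⟩ := mem_inf.1 hy
    have hya : a * y = y * a := mem_centralizer_iff.1 hyc a (by simp)
    have hyb : b * y = y * b := mem_centralizer_iff.1 hyc b (by simp)
    rcases not_three hne (hX.2.1 hX.1) haU hyU ht hao hyo (htc a haU).symm
      (htc y hyU).symm hya hat with e | e | e
    · exact e
    · rw [e, eba] at hyb
      exact absurd (mul_eq_right.1 hyb) hte
    · rw [e] at hyb
      exfalso
      have : t * (b * a) = t * (a * b) := by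
        calc t * (b * a) = b * (t * a) := by rw [← mul_assoc, ← htc b hbU, mul_assoc]
          _ = t * a * b := hyb
          _ = _ := mul_assoc _ _ _
      rw [← eab, ← eba] at this
      rw [← this] at eab
      exact hte (mul_eq_right.1 eab.symm)
  · have key : ∀ d ∈ U, u * d * a * (u * d)⁻¹ = a → u * d * b * (u * d)⁻¹ = b →
        u * d ∈ U ⊓ centralizer ({a, b} : Set G) := fun d hd h1 h2 =>
      mem_inf.2 ⟨mul_mem hu hd, mem_centralizer_iff.2 fun y hy => by
        rcases hy with rfl | rfl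
        · exact (mul_inv_eq_iff_eq_mul.1 h1).symm
        · exact (mul_inv_eq_iff_eq_mul.1 h2).symm⟩
    have ca : a * b * a⁻¹ = t * b := by
      rw [eab, show t * (b * a) * a⁻¹ = t * b by group]
    have cb : b * a * b⁻¹ = t * a := by
      rw [eba, show t * (a * b) * b⁻¹ = t * a by group]
    have hut : u * t * u⁻¹ = t := by rw [htc u hu, mul_inv_cancel_right]
    have hflip : ∀ y : G, u * (t * y) * u⁻¹ = t * (u * y * u⁻¹) := fun y => by
      rw [show u * (t * y) * u⁻¹ = (u * t * u⁻¹) * (u * y * u⁻¹) by group, hut]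
    rcases hX.conj_cases ht htc ha ha1 hat hu with h1 | h1 <;>
      rcases hY.conj_cases ht htc hb hb1 hbt hu with h2 | h2
    · exact ⟨1, by simp, key 1 (one_mem _) (by simpa using h1) (by simpa using h2)⟩
    · refine ⟨a, by simp, key a haU ?_ ?_⟩
      · rw [show u * a * a * (u * a)⁻¹ = u * a * u⁻¹ by group, h1]
      · rw [show u * a * b * (u * a)⁻¹ = u * (a * b * a⁻¹) * u⁻¹ by group, ca, hflip, h2,
          ← mul_assoc, ht2, one_mul]
    · refine ⟨b, by simp, key b hbU ?_ ?_⟩
      · rw [show u * b * a * (u * b)⁻¹ = u * (b * a * b⁻¹) * u⁻¹ by group, cb, hflip, h1,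
          ← mul_assoc, ht2, one_mul]
      · rw [show u * b * b * (u * b)⁻¹ = u * b * u⁻¹ by group, h2]
    · refine ⟨a * b, by simp, key (a * b) (mul_mem haU hbU) ?_ ?_⟩
      · rw [show u * (a * b) * a * (u * (a * b))⁻¹ = u * (a * (b * a * b⁻¹) * a⁻¹) * u⁻¹ by group,
          cb, show a * (t * a) * a⁻¹ = a * t by group, htc a haU, hflip, h1, ← mul_assoc, ht2,
          one_mul]
      · rw [show u * (a * b) * b * (u * (a * b))⁻¹ = u * (a * b * a⁻¹) * u⁻¹ by group, ca, hflip,
          h2, ← mul_assoc, ht2, one_mul]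

include hU

omit hp in
/-- Exactly two normal four groups: a cyclic subgroup of index two. -/
theorem cycTwo_of_two (h : {X : Subgroup G | IsFour t U X}.ncard = 2) : CycTwo U := by
  classical
  haveI := Fact.mk Nat.prime_two
  obtain ⟨X, Y, hXY, hΞ⟩ := Set.ncard_eq_two.1 h
  have hX : IsFour t U X := hΞ.ge (by simp)
  have hY : IsFour t U Y := hΞ.ge (by simp)
  obtain ⟨a, ha, ha1, hat⟩ := hX.exists_rep ht
  obtain ⟨b, hb, hb1, hbt⟩ := hY.exists_rep ht
  have ht2 := SignalizerStrongEmb.involution_mul_self ht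
  have hte : t ≠ 1 := SignalizerStrongEmb.involution_ne_one ht
  have haU := hX.2.1 ha
  have hbU := hY.2.1 hb
  have ha2 := SignalizerStrongEmb.involution_mul_self (SolvCentInvol1.orderOf_eq_two hX.2.2.2.1 ha ha1)
  have hb2 := SignalizerStrongEmb.involution_mul_self (SolvCentInvol1.orderOf_eq_two hY.2.2.2.1 hb hb1)
  have eba := hX.anticomm hY hne ht htc hXY ha ha1 hat hb hb1 hbt
  obtain ⟨huniq, hgen⟩ := pair_centralizer ht htc hne hX hY hXY ha ha1 hat hb hb1 hbt
  set R := U ⊓ centralizer ({a, b} : Set G) with hR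
  set w := a * b with hw
  have hw2 : w * w = t := by
    calc w * w = a * (b * a) * b := by rw [hw]; group
      _ = (a * t) * a * (b * b) := by rw [eba, hw]; group
      _ = t * (a * a) := by rw [htc a haU, hb2]; group
      _ = t := by rw [ha2, mul_one]
  have hwo : orderOf w = 4 := by
    refine orderOf_eq_prime_pow (p := 2) (n := 1) ?_ ?_
    · rw [pow_one, pow_two, hw2]; exact hte
    · rw [show 2 ^ (1 + 1) = 2 * 2 from rfl, pow_mul, pow_two w, hw2, pow_two, ht2]
  by_cases hsmall : R ≤ zpowers t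
  · refine ⟨w, mul_mem haU hbU, ?_⟩
    choose d hd hud using hgen
    let f : U → ({1, a, b, a * b} : Finset G) × R := fun u =>
      (⟨d u u.2, by simpa using hd u u.2⟩, ⟨_, hud u u.2⟩)
    have hinj : Function.Injective f := fun u v huv => by
      simp only [f, Prod.mk.injEq, Subtype.mk.injEq] at huv
      obtain ⟨h1, h2⟩ := huv
      rw [h1] at h2
      exact Subtype.ext (mul_right_cancel h2)
    have h1 := Nat.card_le_card_of_injective f hinj
    rw [Nat.card_prod, Nat.card_eq_finsetCard] at h1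
    have h2 := card_le_of_le hsmall
    rw [Nat.card_zpowers, ht] at h2
    have h3 : ({1, a, b, a * b} : Finset G).card ≤ 4 := Finset.card_le_four
    rw [hwo]
    exact h1.trans ((Nat.mul_le_mul h3 h2).trans (by norm_num))
  exfalso
  -- an element of order four of `R`, central up to `t`
  have hRp : IsPGroup 2 R := hU.to_le inf_le_left
  obtain ⟨c0, hc0R, hc0⟩ := cycTwo_of_unique hRp huniq
  obtain ⟨y, hyR, hyt⟩ := SetLike.not_le_iff_exists.1 hsmall
  obtain ⟨m, hm⟩ := IsPGroup.iff_card.1 hRp
  obtain ⟨c, hcR, hc, hc4⟩ : ∃ c ∈ R, Nat.card R ≤ 2 * orderOf c ∧ 4 ≤ orderOf c := by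
    by_cases h4 : 4 ≤ orderOf c0
    · exact ⟨c0, hc0R, hc0, h4⟩
    have hy1 : y ≠ 1 := fun e => hyt (e ▸ one_mem _)
    obtain ⟨i, -, hi⟩ := (Nat.dvd_prime_pow Nat.prime_two).1 (hm ▸ Subgroup.orderOf_dvd_natCard R hyR)
    have hy4 : 4 ≤ orderOf y := by
      rcases i with _ | _ | i
      · exact absurd (orderOf_eq_one_iff.1 (by simpa using hi)) hy1
      · exact absurd (huniq y hyR (by simpa using hi) ▸ mem_zpowers t) hyt
      · rw [hi]
        exact le_trans (by norm_num) (Nat.pow_le_pow_right (by norm_num : 0 < 2) (by omega : 2 ≤ i + 1 + 1))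
    exact ⟨y, hyR, by omega, hy4⟩
  obtain ⟨j, -, hj⟩ := (Nat.dvd_prime_pow Nat.prime_two).1 (hm ▸ Subgroup.orderOf_dvd_natCard R hcR)
  have hj2 : 2 ≤ j := by
    by_contra hlt
    rw [hj] at hc4
    have := hc4.trans (Nat.pow_le_pow_right (by norm_num : 0 < 2) (by omega : j ≤ 1))
    omega
  obtain ⟨i, rfl⟩ : ∃ i, j = i + 2 := ⟨j - 2, by omega⟩
  set r := c ^ 2 ^ i with hr
  have hro : orderOf r = 4 := by
    rw [hr, orderOf_pow' _ (by positivity), hj, Nat.gcd_eq_right (pow_dvd_pow 2 (by omega)),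
      Nat.pow_div (by omega) (by norm_num), show i + 2 - i = 2 by omega]
  have hrR : r ∈ R := pow_mem hcR _
  have hrr : r * r = t := huniq _ (mul_mem hrR hrR) (by
    rw [← pow_two, orderOf_pow' _ (by norm_num), hro]; norm_num)
  have hCn : ∀ s ∈ R, s * r * s⁻¹ = r ∨ s * r * s⁻¹ = t * r := by
    intro s hs
    -- conjugation preserves the cyclic subgroup of index two
    have hCR : zpowers c ≤ R := zpowers_le.2 hcR
    have hrel : (zpowers c).relIndex R ≤ 2 := by
      have h := ((zpowers c).subgroupOf R).card_mul_index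
      rw [Nat.card_congr (subgroupOfEquivOfLe hCR).toEquiv, Nat.card_zpowers] at h
      rw [← h, mul_comm 2] at hc
      exact Nat.le_of_mul_le_mul_left hc (orderOf_pos c)
    have hn : ((zpowers c).subgroupOf R).Normal := by
      rcases Nat.lt_or_ge ((zpowers c).relIndex R) 2 with h | h
      · have h0 : (zpowers c).relIndex R ≠ 0 := ((zpowers c).subgroupOf R).index_ne_zero_of_finite
        rw [show (zpowers c).subgroupOf R = ⊤ from
          index_eq_one.1 (by change (zpowers c).relIndex R = 1; omega)]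
        infer_instance
      · exact normal_of_index_eq_two (le_antisymm hrel h)
    obtain ⟨l, hl⟩ := mem_zpowers_iff.1
      (show s * r * s⁻¹ ∈ zpowers c from hn.conj_mem ⟨r, hrR⟩ (pow_mem (mem_zpowers c) _) ⟨s, hs⟩)
    have h4 : (c ^ l) ^ 4 = 1 := by rw [hl, conj_pow, ← hro, pow_orderOf_eq_one, mul_one, mul_inv_cancel]
    rw [← zpow_natCast, ← zpow_mul, ← orderOf_dvd_iff_zpow_eq_one, hj] at h4
    push_cast at h4
    rw [pow_add] at h4
    obtain ⟨n, hn'⟩ : (2 : ℤ) ^ i ∣ l := Int.dvd_of_mul_dvd_mul_right (by norm_num : (4 : ℤ) ≠ 0)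
      (by norm_num at h4 ⊢; exact h4)
    have hsr : s * r * s⁻¹ = r ^ n := by
      rw [← hl, hn', zpow_mul, hr, ← zpow_natCast c (2 ^ i)]
      push_cast
      rfl
    have hro' : orderOf (s * r * s⁻¹) = 4 := by rw [SignalizerStrongEmb.orderOf_conj, hro]
    rw [hsr] at hro' ⊢
    rcases Int.even_or_odd n with ⟨q, rfl⟩ | ⟨q, rfl⟩
    · exfalso
      have : (r ^ (q + q)) ^ 2 = 1 := by
        rw [← zpow_natCast, ← zpow_mul, ← orderOf_dvd_iff_zpow_eq_one, hro]
        exact ⟨q, by push_cast; ring⟩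
      have := orderOf_dvd_of_pow_eq_one this
      rw [hro'] at this
      norm_num at this
    · rw [zpow_add, zpow_mul, zpow_one, zpow_two, hrr]
      rcases Int.even_or_odd q with ⟨e, rfl⟩ | ⟨e, rfl⟩
      · left
        rw [← two_mul, zpow_mul, zpow_two, ht2, one_zpow, one_mul]
      · right
        rw [zpow_add, zpow_mul, zpow_one, zpow_two, ht2, one_zpow, one_mul]
  have hra : a * r = r * a := mem_centralizer_iff.1 (mem_inf.1 hrR).2 a (by simp)
  have hrb : b * r = r * b := mem_centralizer_iff.1 (mem_inf.1 hrR).2 b (by simp)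
  have hrtw : ∀ u ∈ U, u * r * u⁻¹ = r ∨ u * r * u⁻¹ = t * r := by
    intro u hu
    obtain ⟨d, hd, hudR⟩ := (pair_centralizer ht htc hne hX hY hXY ha ha1 hat hb hb1 hbt).2 u hu
    have hdr : d * r * d⁻¹ = r := by
      simp only [Set.mem_insert_iff, Set.mem_singleton_iff] at hd
      rcases hd with rfl | rfl | rfl | rfl
      · simp
      · rw [hra, mul_inv_cancel_right]
      · rw [hrb, mul_inv_cancel_right]
      · rw [show a * b * r = a * (b * r) by group, hrb, ← mul_assoc, hra]; group
    have := hCn _ hudR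
    rwa [show u * d * r * (u * d)⁻¹ = u * (d * r * d⁻¹) * u⁻¹ by group, hdr] at this
  set e := w * r with he
  have hwr : r * w = w * r := by
    rw [hw, ← mul_assoc, ← hra, mul_assoc, ← hrb, mul_assoc]
  have he2 : e * e = 1 := by
    calc e * e = w * (r * w) * r := by rw [he]; group
      _ = w * w * (r * r) := by rw [hwr]; group
      _ = 1 := by rw [hw2, hrr, ht2]
  have hwa : w * a = t * (a * w) := by
    calc w * a = a * (b * a) := by rw [hw]; group
      _ = (a * t) * a * b := by rw [eba, hw]; group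
      _ = _ := by rw [htc a haU, hw]; group
  have hwb : b * w = t * (w * b) := by
    calc b * w = (b * a) * b := by rw [hw]; group
      _ = _ := by rw [eba, hw]; group
  have hea : e * a = t * (a * e) := by
    calc e * a = w * (r * a) := by rw [he]; group
      _ = (w * a) * r := by rw [← hra]; group
      _ = _ := by rw [hwa, he]; group
  have hbe : b * e = t * (e * b) := by
    calc b * e = (b * w) * r := by rw [he]; group
      _ = t * (w * (b * r)) := by rw [hwb]; group
      _ = _ := by rw [hrb, he]; group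
  have he1 : e ≠ 1 := by
    intro h1
    rw [h1, mul_one, one_mul] at hea
    exact hte (mul_eq_right.1 hea.symm)
  have het : e ≠ t := by
    intro h1
    rw [h1, htc a haU] at hea
    exact hte (mul_eq_right.1 hea.symm)
  have htw : ∀ u ∈ U, u * e * u⁻¹ = e ∨ u * e * u⁻¹ = t * e :=
    tw_mul ht2 htc (mul_mem haU hbU) (tw_mul ht2 htc haU
      (fun u hu => hX.conj_cases ht htc ha ha1 hat hu)
      (fun u hu => hY.conj_cases ht htc hb hb1 hbt hu)) hrtw
  have hE := isFour_pair ht htU htc (mul_mem (mul_mem haU hbU) (mem_inf.1 hrR).1) he2 he1 het htw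
  have hmem : pair t e ∈ ({X, Y} : Set (Subgroup G)) := hΞ ▸ hE
  simp only [Set.mem_insert_iff, Set.mem_singleton_iff] at hmem
  rcases hmem with h' | h'
  · rw [← PGroupsBasic.comm_of_isMulCommutative hX.2.2.2.1.1 ha (h' ▸ right_mem_pair t e)] at hea
    exact hte (mul_eq_right.1 hea.symm)
  · rw [PGroupsBasic.comm_of_isMulCommutative hY.2.2.2.1.1 hb (h' ▸ right_mem_pair t e)] at hbe
    exact hte (mul_eq_right.1 hbe.symm)

omit hp in
/-- The number of normal four groups through `t` is odd, unless there is a cyclic subgroup of index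
two. -/
theorem odd_ncard (hcyc : ¬ CycTwo U) :
    {X : Subgroup G | IsFour t U X}.ncard = 1 ∨ {X : Subgroup G | IsFour t U X}.ncard = 3 ∨
      {X : Subgroup G | IsFour t U X}.ncard = 5 := by
  classical
  haveI := Fact.mk Nat.prime_two
  by_cases h4 : 4 ≤ {X : Subgroup G | IsFour t U X}.ncard
  · exact Or.inr (Or.inr (ncard_eq_five ht htU htc hne h4))
  have hne2 : {X : Subgroup G | IsFour t U X}.ncard ≠ 2 := fun h =>
    hcyc (cycTwo_of_two hU ht htU htc hne h)
  suffices h0 : {X : Subgroup G | IsFour t U X}.ncard ≠ 0 by omega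
  rw [Ne, Set.ncard_eq_zero (Set.toFinite _), ← Ne, ← Set.nonempty_iff_ne_empty]
  have hof : ∀ x : U, Nat.card U ≤ 2 * orderOf x → False := fun x hx =>
    hcyc ⟨x, x.2, by rwa [Subgroup.orderOf_coe]⟩
  rcases NormalFourGroup.four_or_special (G := ↥U) hU with
    ⟨E, hEn, hE4, hE⟩ | h | ⟨m, ⟨e⟩⟩ | ⟨m, ⟨e⟩⟩ | ⟨n, hn, hcard, x, y, hx, -, -⟩
  · set X := E.map U.subtype with hX
    have hXU : X ≤ U := map_subtype_le _
    have hXel : Cfsg.IsElementaryAbelian 2 X := PGroupsBasic.isElementaryAbelian_map_hom hE _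
    have hX4 : Nat.card X = 4 := by rw [hX, card_map_of_injective U.subtype_injective, hE4]
    refine ⟨X, ?_, hXU, hX4, hXel, fun u hu => ?_⟩
    · by_contra htX
      have hel := PGroupsBasic.isElementaryAbelian_sup hXel
        (PGroupsBasic.isElementaryAbelian_zpowers (x := t) (by
          rw [pow_two]; exact SignalizerStrongEmb.involution_mul_self ht))
        fun y hy => mem_centralizer_iff.2 fun s hs => by
          obtain ⟨i, rfl⟩ := mem_zpowers_iff.1 hs
          exact ((show Commute t y from (htc y (hXU hy)).symm).zpow_left i).eq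
      have h1 := hne _ (sup_le hXU (zpowers_le.2 htU)) hel
      have h2 := two_mul_card_le (le_sup_left : X ≤ X ⊔ zpowers t) (mem_sup_right (mem_zpowers t)) htX
      omega
    · rw [mem_normalizer_iff]
      have hconj : ∀ v ∈ U, ∀ y ∈ X, v * y * v⁻¹ ∈ X := by
        rintro v hv _ ⟨y, hy, rfl⟩
        exact ⟨_, hEn.conj_mem y hy ⟨v, hv⟩, rfl⟩
      refine fun y => ⟨hconj u hu y, fun hy => ?_⟩
      have := hconj u⁻¹ (inv_mem hu) _ hy
      simpa [mul_assoc] using this
  · exfalso
    obtain ⟨g, hg⟩ := h.exists_ofOrder_eq_natCard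
    exact hof g (by rw [hg]; omega)
  · exfalso
    refine hof (e.symm (DihedralGroup.r 1)) ?_
    rw [MulEquiv.orderOf_eq, DihedralGroup.orderOf_r_one, Nat.card_congr e.toEquiv,
      DihedralGroup.nat_card]
  · exfalso
    haveI hm : NeZero m := ⟨by
      rintro rfl
      haveI : Finite (QuaternionGroup 0) := Finite.of_equiv _ e.toEquiv
      have := orderOf_pos (QuaternionGroup.a 1 : QuaternionGroup 0)
      rw [QuaternionGroup.orderOf_a_one] at this
      omega⟩
    refine hof (e.symm (QuaternionGroup.a 1)) ?_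
    rw [MulEquiv.orderOf_eq, QuaternionGroup.orderOf_a_one, Nat.card_congr e.toEquiv,
      Nat.card_eq_fintype_card, QuaternionGroup.card]
    omega
  · exfalso
    refine hof x ?_
    rw [hx, hcard, pow_succ]
    omega

omit htU in
/-- An element of `p`-power order fixing two of the four groups centralizes `U`. -/
theorem commute_of_fix (hp3 : 3 < p) {X Y : Subgroup G} (hX : IsFour t U X) (hY : IsFour t U Y)
    (hXY : X ≠ Y) {x : G} (hxU : x ∈ normalizer (U : Set G)) (hxt : x * t = t * x)
    (hxX : x ∈ normalizer (X : Set G)) (hxY : x ∈ normalizer (Y : Set G)) {k : ℕ}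
    (hx : x ^ p ^ k = 1) {u : G} (hu : u ∈ U) : x * u = u * x := by
  haveI := Fact.mk Nat.prime_two
  obtain ⟨a, ha, ha1, hat⟩ := hX.exists_rep ht
  obtain ⟨b, hb, hb1, hbt⟩ := hY.exists_rep ht
  have hfixed : ∀ {Z : Subgroup G}, IsFour t U Z → x ∈ normalizer (Z : Set G) →
      ∀ {y : G}, y ∈ Z → x * y = y * x := by
    intro Z hZ hxZ y hy
    by_cases hy1 : y = 1
    · simp [hy1]
    by_cases hyt : y = t
    · rw [hyt, hxt]
    have hsplit : ∀ g ∈ normalizer (Z : Set G), g * t = t * g →
        g * y * g⁻¹ = y ∨ g * y * g⁻¹ = t * y := by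
      intro g hg hgt
      rcases eq_of_mem_four hZ.2.2.2.1 hZ.2.2.1.le hZ.1 hy (SignalizerStrongEmb.involution_ne_one ht)
        hy1 hyt ((mem_normalizer_iff.1 hg y).1 hy) with e | e | e | e
      · exact absurd (conj_eq_one_iff.1 e) hy1
      · refine absurd ?_ hyt
        calc y = g⁻¹ * (g * y * g⁻¹) * g := by group
          _ = g⁻¹ * (t * g) := by rw [e, mul_assoc]
          _ = t := by rw [← hgt, inv_mul_cancel_left]
      · exact Or.inl e
      · exact Or.inr e
    have hsq : Commute (x ^ 2) y := by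
      refine mul_inv_eq_iff_eq_mul.1 ?_
      rcases hsplit x hxZ hxt with e | e
      · rw [show x ^ 2 * y * (x ^ 2)⁻¹ = x * (x * y * x⁻¹) * x⁻¹ by rw [pow_two]; group, e, e]
      · rw [show x ^ 2 * y * (x ^ 2)⁻¹ = x * (x * y * x⁻¹) * x⁻¹ by rw [pow_two]; group, e,
          show x * (t * y) * x⁻¹ = (x * t) * x⁻¹ * (x * y * x⁻¹) by group, hxt, e,
          mul_inv_cancel_right, ← mul_assoc, SignalizerStrongEmb.involution_mul_self ht, one_mul]
    obtain ⟨e, he⟩ := exists_pow_eq hx (d := 2)
      (((Nat.coprime_primes Nat.prime_two hp.out).2 (by omega)).pow_right k)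
    have := hsq.pow_left e
    rwa [he] at this
  have hxa := hfixed hX hxX ha
  have hxb := hfixed hY hxY hb
  obtain ⟨huniq, hgen⟩ := pair_centralizer ht htc hne hX hY hXY ha ha1 hat hb hb1 hbt
  set R := U ⊓ centralizer ({a, b} : Set G) with hR
  have hxR : x ∈ normalizer (R : Set G) := by
    have hmem : ∀ g ∈ normalizer (U : Set G), g * a = a * g → g * b = b * g →
        ∀ r ∈ R, g * r * g⁻¹ ∈ R := by
      intro g hg hga hgb r hr
      refine mem_inf.2 ⟨(mem_normalizer_iff.1 hg r).1 (mem_inf.1 hr).1,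
        mem_centralizer_iff.2 fun y hy => ?_⟩
      have hgy : g * y = y * g := by rcases hy with rfl | rfl <;> assumption
      have hyr : y * r = r * y := mem_centralizer_iff.1 (mem_inf.1 hr).2 y hy
      calc y * (g * r * g⁻¹) = (y * g) * r * g⁻¹ := by group
        _ = g * (y * r) * g⁻¹ := by rw [← hgy]; group
        _ = g * r * (y * g⁻¹) := by rw [hyr]; group
        _ = _ := by rw [show y * g⁻¹ = g⁻¹ * y from (Commute.inv_left hgy).eq.symm]; group
    rw [mem_normalizer_iff]
    refine fun r => ⟨hmem x hxU hxa hxb r, fun hr => ?_⟩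
    have := hmem x⁻¹ (inv_mem hxU) (Commute.inv_left hxa).eq (Commute.inv_left hxb).eq _ hr
    simpa [mul_assoc] using this
  obtain ⟨d, hd, hud⟩ := hgen u hu
  have hxd : Commute x d := by
    simp only [Set.mem_insert_iff, Set.mem_singleton_iff] at hd
    rcases hd with rfl | rfl | rfl | rfl
    · exact Commute.one_right x
    · exact hxa
    · exact hxb
    · exact Commute.mul_right hxa hxb
  have hxud : Commute x (u * d) :=
    commute_of_cycTwo hp3 (hU.to_le inf_le_left) (cycTwo_of_unique (hU.to_le inf_le_left) huniq)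
      hxR hx hud
  have := hxud.mul_right hxd.inv_right
  rwa [mul_inv_cancel_right] at this

end Fours

end Cfsg.Agent.PPrimeNilp30
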