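import Mathlib
import Cfsg.Agent.Lib.PPrimeNilp30Count
import Cfsg.Agent.Lib.PPrimeNilp30Fours
import Cfsg.Agent.Lib.SolvableCentInvol2
import Cfsg.Agent.Lib.AlperinTame
import Cfsg.Agent.Lib.ZStarTheorem
import Cfsg.Agent.Lib.ZStarBasic
import Cfsg.Agent.Lib.TransferThompson
import Cfsg.Agent.S0205

/-!
In a minimal group whose subgroups of order prime to `p > 3` are nilpotent, a Sylow 2-subgroup has
rank at least three, the signalizers `O(C(t))` span an odd subgroup `W`, and either `W = 1` and all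
these signalizers are trivial or the normalizer of `W` is strongly embedded.
-/

set_option autoImplicit false
set_option linter.style.haveILetI false

namespace Cfsg.Agent.PPrimeNilp30

open Subgroup SolvCentInvol1
open Cfsg.Agent.SolvCentInvol2 (pair left_mem_pair right_mem_pair pair_le eq_of_mem_pair
  isElementaryAbelian_pair two_mul_card_le four_le_card_pair eq_of_mem_four)
open Cfsg.Agent.SignalizerStrongEmb (involution_mul_self involution_inv involution_ne_one
  orderOf_conj)
open Cfsg.Agent.SignalizerCoprime (elementaryAbelian_of_le)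

universe u

variable {G : Type u} [Group G]

/-- A four group with an elementary abelian group centralizing `t` and normalizing it lies in an
elementary abelian group of order at least eight sharing a four group with the latter. -/
theorem extend_four [Finite G] {t : G} (ht : orderOf t = 2) {X A : Subgroup G} (htX : t ∈ X)
    (hX4 : Nat.card X = 4) (hXel : Cfsg.IsElementaryAbelian 2 X)
    (hAel : Cfsg.IsElementaryAbelian 2 A) (hA8 : 8 ≤ Nat.card A)
    (hAt : ∀ a ∈ A, a * t = t * a) (hAX : A ≤ normalizer (X : Set G)) :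
    ∃ A0 B : Subgroup G, A0 ≤ A ∧ A0 ≤ B ∧ 4 ≤ Nat.card A0 ∧ Cfsg.IsElementaryAbelian 2 B ∧
      8 ≤ Nat.card B ∧ X ≤ B ∧ B ≤ X ⊔ A := by
  set A0 := A ⊓ centralizer (X : Set G) with hA0
  obtain ⟨v, hv, hv1, hvt⟩ : ∃ v ∈ X, v ≠ 1 ∧ v ≠ t := by
    by_contra h
    push Not at h
    have hle : X ≤ zpowers t := fun a ha => by
      by_cases ha1 : a = 1
      · rw [ha1]; exact one_mem _
      · rw [h a ha ha1]; exact mem_zpowers t
    have := card_le_of_le hle
    rw [hX4, Nat.card_zpowers, ht] at this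
    omega
  have hmem4 : ∀ y ∈ X, y = 1 ∨ y = t ∨ y = v ∨ y = t * v := fun y hy =>
    eq_of_mem_four hXel hX4.le htX hv (involution_ne_one ht) hv1 hvt hy
  have hact : ∀ a ∈ A, a * v * a⁻¹ = v ∨ a * v * a⁻¹ = t * v := by
    intro a ha
    rcases hmem4 _ ((mem_normalizer_iff.1 (hAX ha) v).1 hv) with e | e | e | e
    · exact absurd (conj_eq_one_iff.1 e) hv1
    · refine absurd ?_ hvt
      calc v = a⁻¹ * (a * v * a⁻¹) * a := by group
        _ = a⁻¹ * (t * a) := by rw [e, mul_assoc]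
        _ = t := by rw [← hAt a ha, inv_mul_cancel_left]
    · exact Or.inl e
    · exact Or.inr e
  have hcent : ∀ a ∈ A, a * v * a⁻¹ = v → a ∈ A0 := fun a ha h =>
    mem_inf.2 ⟨ha, mem_centralizer_iff.2 fun y hy => by
      have hva : Commute a v := mul_inv_eq_iff_eq_mul.1 h
      rcases hmem4 y hy with rfl | rfl | rfl | rfl
      · simp
      · exact (hAt a ha).symm
      · exact hva.symm.eq
      · exact ((show Commute a t from hAt a ha).mul_right hva).symm.eq⟩
  have hA04 : 4 ≤ Nat.card A0 := by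
    classical
    obtain ⟨a1, ha1, hsplit⟩ : ∃ a1 ∈ A, ∀ a ∈ A, a ∈ A0 ∨ a1⁻¹ * a ∈ A0 := by
      by_cases h : ∀ a ∈ A, a * v * a⁻¹ = v
      · exact ⟨1, one_mem _, fun a ha => Or.inl (hcent a ha (h a ha))⟩
      push Not at h
      obtain ⟨a1, ha1, ha1v⟩ := h
      refine ⟨a1, ha1, fun a ha => ?_⟩
      rcases hact a ha with e | e
      · exact Or.inl (hcent a ha e)
      · refine Or.inr (hcent _ (mul_mem (inv_mem ha1) ha) ?_)
        rw [show a1⁻¹ * a * v * (a1⁻¹ * a)⁻¹ = a1⁻¹ * (a * v * a⁻¹) * a1 by group, e,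
          ← (hact a1 ha1).resolve_left ha1v]
        group
    choose f hf using fun a : A => (show ∃ i : Bool, (if i then a1 else 1)⁻¹ * (a : G) ∈ A0 by
      rcases hsplit a a.2 with h | h
      · exact ⟨false, by simpa using h⟩
      · exact ⟨true, by simpa using h⟩)
    let F : A → Bool × A0 := fun a => (f a, ⟨_, hf a⟩)
    have hinj : Function.Injective F := fun a b hab => by
      simp only [F, Prod.mk.injEq, Subtype.mk.injEq] at hab
      obtain ⟨h1, h2⟩ := hab
      rw [h1] at h2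
      exact Subtype.ext (mul_left_cancel h2)
    have := Nat.card_le_card_of_injective F hinj
    rw [Nat.card_prod, Nat.card_eq_fintype_card (α := Bool), Fintype.card_bool] at this
    omega
  by_cases hle : A0 ≤ X
  · have hXA0 : X = A0 := (eq_of_le_of_card_ge hle (hX4.le.trans hA04)).symm
    exact ⟨A0, A, inf_le_left, inf_le_left, hA04, hAel, hA8, hXA0.le.trans inf_le_left, le_sup_right⟩
  · obtain ⟨y, hy, hyX⟩ := SetLike.not_le_iff_exists.1 hle
    refine ⟨A0, X ⊔ A0, inf_le_left, le_sup_right, hA04, PGroupsBasic.isElementaryAbelian_sup hXel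
      (elementaryAbelian_of_le hAel inf_le_left) (fun x hx => mem_centralizer_iff.2 fun a ha =>
        (mem_centralizer_iff.1 (mem_inf.1 ha).2 x hx).symm), ?_, le_sup_left,
      sup_le_sup_left inf_le_left _⟩
    have := two_mul_card_le (le_sup_left : X ≤ X ⊔ A0) (mem_sup_right hy) hyX
    omega

theorem mem_cj_iff_normalizer {g : G} {X : Subgroup G} :
    g ∈ normalizer (X : Set G) ↔ cj g X = X :=
  ⟨cj_eq_of_mem_normalizer, mem_normalizer_of_cj_eq⟩

variable [Finite G] {p : ℕ} [hp : Fact p.Prime] (hG : Hyp p G) (hp3 : 3 < p)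

include hG

omit hp [Finite G] in
theorem center_eq_bot : center G = ⊥ :=
  eq_bot_of_normal hG fun h => not_solvable hG (Group.isSolvable_of_comm
    fun a b => (mem_center_iff.1 (h ▸ mem_top b : b ∈ center G) a))

omit hp in
theorem even_card : 2 ∣ Nat.card G := by
  by_contra h
  exact not_solvable hG (S0205.result (Nat.odd_iff.2 (Nat.two_dvd_ne_zero.1 h)))

omit hp [Finite G] in
theorem solvCent : SolvCent G := fun s hs => hG.solv _ fun h => by
  have h1 : s ∈ center G := mem_center_iff.2 fun g =>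
    mem_centralizer_singleton_iff.1 (h ▸ mem_top g : g ∈ centralizer ({s} : Set G))
  rw [center_eq_bot hG, mem_bot] at h1
  exact involution_ne_one hs h1

omit hp in
theorem pGroup_ne_top {B : Subgroup G} (hB : IsPGroup 2 B) : B ≠ ⊤ := by
  intro h
  haveI := Fact.mk Nat.prime_two
  haveI := hB.isNilpotent
  haveI : Group.IsSolvable B := inferInstance
  subst h
  exact not_solvable hG (Group.isSolvable_of_surjective (f := (⊤ : Subgroup G).subtype)
    (fun g => ⟨⟨g, mem_top g⟩, rfl⟩))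

omit hp in
theorem pPrimeCore_eq_bot : Cfsg.pPrimeCore 2 G = ⊥ := by
  haveI := Fact.mk Nat.prime_two
  haveI := HallCore.pPrimeCore_normal 2 G
  refine eq_bot_of_normal hG fun h => HallCore.not_dvd_card_pPrimeCore 2 G ?_
  rw [h, card_top]
  exact even_card hG

include hp3

/-- An element of prime power order for a prime other than `2, p` centralizes every 2-group that it
normalizes. -/
theorem commute_of_odd {B : Subgroup G} (hB : IsPGroup 2 B) {q : ℕ} (hq : q.Prime) (hq2 : q ≠ 2)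
    (hqp : q ≠ p) {y : G} {k : ℕ} (hy : orderOf y = q ^ k) (hyB : y ∈ normalizer (B : Set G)) {b : G}
    (hb : b ∈ B) : y * b = b * y := by
  by_cases hB1 : B = ⊥
  · rw [hB1, mem_bot] at hb
    simp [hb]
  haveI := Fact.mk Nat.prime_two
  obtain ⟨j, hj⟩ := IsPGroup.iff_card.1 hB
  refine commute_of_normalizes hG ?_ hB1 (pGroup_ne_top hG hB) ?_ hyB hb ?_
  · rw [hj]
    exact ((Nat.coprime_primes Nat.prime_two hp.out).2 (by omega)).pow_left j
  · rw [hy]
    exact ((Nat.coprime_primes hq hp.out).2 hqp).pow_left k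
  · obtain ⟨i, -, hi⟩ := (Nat.dvd_prime_pow Nat.prime_two).1
      (hj ▸ Subgroup.orderOf_dvd_natCard B hb)
    rw [hy, hi]
    exact (((Nat.coprime_primes hq Nat.prime_two).2 hq2).pow_left k).pow_right i

/-- A `p`-element moving an element of an elementary abelian 2-group forces rank at least three, and
at least four for `p = 5`. -/
theorem rank_of_moved {E : Subgroup G} (hE : Cfsg.IsElementaryAbelian 2 E) {y e : G} {k : ℕ}
    (hy : orderOf y = p ^ k) (hyE : y ∈ normalizer (E : Set G)) (he : e ∈ E)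
    (hne : y * e ≠ e * y) : 8 ≤ Nat.card E ∧ (p = 5 → 16 ≤ Nat.card E) := by
  haveI := Fact.mk Nat.prime_two
  have hle : zpowers y ≤ normalizer (E : Set G) := zpowers_le.2 hyE
  letI : MulAction (zpowers y) E :=
    { smul := fun g a => ⟨(g : G) * a * (g : G)⁻¹, (mem_normalizer_iff.1 (hle g.2) a).1 a.2⟩
      one_smul := fun a => Subtype.ext (by change ((1 : zpowers y) : G) * (a : G) * _ = a; simp)
      mul_smul := fun g h a => Subtype.ext (by
        change ((g * h : zpowers y) : G) * (a : G) * _ = (g : G) * ((h : G) * a * (h : G)⁻¹) * (g : G)⁻¹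
        simp [mul_assoc]) }
  have hy' : IsPGroup p (zpowers y) := IsPGroup.of_card (n := k) (by rw [Nat.card_zpowers, hy])
  have hmod := hy'.card_modEq_card_fixedPoints E
  set F := E ⊓ centralizer ({y} : Set G) with hF
  have hcard : Nat.card (MulAction.fixedPoints (zpowers y) E) = Nat.card F := by
    refine Nat.card_congr
      { toFun := fun a => ⟨(a.1 : G), mem_inf.2 ⟨a.1.2, mem_centralizer_singleton_iff.2 ?_⟩⟩
        invFun := fun a => ⟨⟨(a : G), (mem_inf.1 a.2).1⟩, fun g => Subtype.ext ?_⟩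
        left_inv := fun a => rfl
        right_inv := fun a => rfl }
    · have h : y * (a.1 : G) * y⁻¹ = a.1 := congrArg Subtype.val (a.2 ⟨y, mem_zpowers y⟩)
      exact (mul_inv_eq_iff_eq_mul.1 h).symm
    · change (g : G) * (a : G) * (g : G)⁻¹ = a
      obtain ⟨i, hi⟩ := mem_zpowers_iff.1 g.2
      have hc : Commute y (a : G) := (mem_centralizer_singleton_iff.1 (mem_inf.1 a.2).2).symm
      rw [← hi, (hc.zpow_left i).eq, mul_inv_cancel_right]
  rw [hcard] at hmod
  obtain ⟨r, hr⟩ := IsPGroup.iff_card.1 (PGroupsBasic.isPGroup_of_isElementaryAbelian hE)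
  obtain ⟨s, hs⟩ := IsPGroup.iff_card.1 ((PGroupsBasic.isPGroup_of_isElementaryAbelian hE).to_le
    (inf_le_left : F ≤ E))
  have hlt : s < r := by
    by_contra h
    have h1 := eq_of_le_of_card_ge (inf_le_left : F ≤ E)
      (by rw [hr, hs]; exact Nat.pow_le_pow_right (by norm_num) (not_lt.1 h))
    exact hne (mem_centralizer_singleton_iff.1 (mem_inf.1 (h1.ge he)).2).symm
  rw [hr, hs] at hmod
  have hcop : Nat.Coprime p (2 ^ s) :=
    ((Nat.coprime_primes hp.out Nat.prime_two).2 (by omega)).pow_right s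
  have hd : p ∣ 2 ^ (r - s) - 1 := by
    have h1 : p ∣ 2 ^ r - 2 ^ s :=
      (Nat.modEq_iff_dvd' (Nat.pow_le_pow_right (by norm_num) hlt.le)).1 hmod.symm
    rw [show 2 ^ r - 2 ^ s = 2 ^ s * (2 ^ (r - s) - 1) by
      rw [Nat.mul_sub, mul_one, ← pow_add, Nat.add_sub_cancel' hlt.le]] at h1
    exact hcop.dvd_of_dvd_mul_left h1
  have hp5 : 5 ≤ p := by
    have : p ≠ 4 := fun h => absurd (h ▸ hp.out) (by norm_num)
    omega
  have h3 : 3 ≤ r - s := by
    by_contra h
    have h1 : 2 ^ (r - s) - 1 ≤ 3 := by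
      have := Nat.pow_le_pow_right (by norm_num : 0 < 2) (by omega : r - s ≤ 2)
      omega
    have h2 : 0 < 2 ^ (r - s) - 1 := by
      have := Nat.one_lt_two_pow (show r - s ≠ 0 by omega)
      omega
    have := Nat.le_of_dvd h2 hd
    omega
  refine ⟨hr ▸ le_trans (by norm_num) (Nat.pow_le_pow_right (by norm_num : 0 < 2) (show 3 ≤ r by omega)),
    fun h5 => ?_⟩
  have h4 : 4 ≤ r - s := by
    by_contra h
    rw [show r - s = 3 by omega, h5] at hd
    norm_num at hd
  rw [hr]
  exact le_trans (by norm_num) (Nat.pow_le_pow_right (by norm_num : 0 < 2) (show 4 ≤ r by omega))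

/-- A Sylow 2-subgroup contains a large elementary abelian subgroup. -/
theorem exists_big (P : Sylow 2 G) : ∃ E : Subgroup G, E ≤ (P : Subgroup G) ∧
    Cfsg.IsElementaryAbelian 2 E ∧ 8 ≤ Nat.card E ∧ (p = 5 → 16 ≤ Nat.card E) := by
  haveI := Fact.mk Nat.prime_two
  haveI : Nontrivial (P : Subgroup G) :=
    (nontrivial_iff_ne_bot _).2 (Sylow.ne_bot_of_dvd_card P (even_card hG))
  haveI := P.2.center_nontrivial
  obtain ⟨z', hzc', hzo'⟩ := PGroupsBasic.exists_orderOf_eq_of_ne_bot
    (P.2.to_subgroup (center (P : Subgroup G))) ((nontrivial_iff_ne_bot _).1 inferInstance)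
  set z : G := (z' : G) with hz
  have hzo : orderOf z = 2 := by rw [hz, Subgroup.orderOf_coe, hzo']
  have hzc : ∀ x ∈ (P : Subgroup G), z * x = x * z := fun x hx =>
    (congrArg Subtype.val (mem_center_iff.1 hzc' ⟨x, hx⟩)).symm
  obtain ⟨g, hg, hgne⟩ : ∃ g : G, g * z * g⁻¹ ∈ P ∧ g * z * g⁻¹ ≠ z := by
    by_contra h
    push Not at h
    have := ZStarTheorem.mem_center_of_isolated (ZStarBasic.isolated_of_sylow P z hzo z'.2 h)
      (pPrimeCore_eq_bot hG)
    rw [center_eq_bot hG, mem_bot] at this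
    exact involution_ne_one hzo this
  by_contra hno
  have key : ∀ (A : Subgroup G) (k : G), AlperinTame.Chain P A k → A = zpowers z →
      AlperinTame.cmap A k = A := by
    intro A k hch
    induction hch with
    | refl A => exact fun _ => AlperinTame.cmap_one A
    | cons A Q x k hs hA _ ih =>
      intro hAz
      subst hAz
      have hx : x * z = z * x := by
        by_contra hxz
        obtain ⟨⟨htame, -⟩, hxN, -⟩ := hs
        set T := (P : Subgroup G) ⊓ (Q : Subgroup G) with hT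
        set N := normalizer (T : Set G) with hN
        set E := closure {e : G | (e ∈ T ∧ ∀ a ∈ T, e * a = a * e) ∧ e ^ 2 = 1} with hEdef
        have hEel : Cfsg.IsElementaryAbelian 2 E := PGroupsBasic.isElementaryAbelian_closure
          (fun a ha b hb => ha.1.2 b hb.1.1) fun a ha => ha.2
        have hET : E ≤ T := (closure_le _).2 fun e he => he.1.1
        have hzE : z ∈ E := subset_closure ⟨⟨hA (mem_zpowers z),
          fun a ha => hzc a (mem_inf.1 ha).1⟩, by rw [← hzo]; exact pow_orderOf_eq_one z⟩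
        have hNE : ∀ n ∈ N, n ∈ normalizer (E : Set G) := by
          have hfw : ∀ n ∈ N, ∀ e ∈ E, n * e * n⁻¹ ∈ E := by
            intro n hn e he
            induction he using closure_induction with
            | mem e he =>
              refine subset_closure ⟨⟨(mem_normalizer_iff.1 hn e).1 he.1.1, fun a ha => ?_⟩, ?_⟩
              · have ha' : n⁻¹ * a * n ∈ T := (mem_normalizer_iff''.1 hn a).1 ha
                calc n * e * n⁻¹ * a = n * (e * (n⁻¹ * a * n)) * n⁻¹ := by group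
                  _ = n * (n⁻¹ * a * n * e) * n⁻¹ := by rw [he.1.2 _ ha']
                  _ = _ := by group
              · rw [conj_pow, he.2, mul_one, mul_inv_cancel]
            | one => simp
            | mul a b _ _ ha hb =>
              have := mul_mem ha hb
              simpa [mul_assoc] using this
            | inv a _ ha =>
              have := inv_mem ha
              simpa [mul_assoc] using this
          intro n hn
          rw [mem_normalizer_iff]
          refine fun e => ⟨hfw n hn e, fun he => ?_⟩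
          have := hfw n⁻¹ (inv_mem hn) _ he
          simpa [mul_assoc] using this
        set D := N ⊓ centralizer ({z} : Set G) with hD
        have hidx : D.relIndex N ≠ 1 := fun h =>
          hxz (mem_centralizer_singleton_iff.1 (mem_inf.1 (relIndex_eq_one.1 h hxN)).2)
        obtain ⟨q, hq, hqd⟩ := Nat.exists_prime_and_dvd hidx
        haveI := Fact.mk hq
        have hPD : (P : Subgroup G) ⊓ N ≤ D := fun a ha => mem_inf.2 ⟨(mem_inf.1 ha).2,
          mem_centralizer_singleton_iff.2 (hzc a (mem_inf.1 ha).1).symm⟩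
        have hq2 : q ≠ 2 := fun h =>
          htame (h.symm.dvd.trans (hqd.trans (relIndex_dvd_of_le_left N hPD)))
        obtain ⟨R⟩ : Nonempty (Sylow q N) := inferInstance
        obtain ⟨y, hyR, hyD⟩ : ∃ y ∈ (R : Subgroup N), y ∉ D.subgroupOf N := by
          by_contra h
          push Not at h
          exact R.not_dvd_index (hqd.trans (index_dvd_of_le h))
        obtain ⟨j, hj⟩ := IsPGroup.iff_orderOf.1 R.2 ⟨y, hyR⟩
        rw [Subgroup.orderOf_mk, ← Subgroup.orderOf_coe] at hj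
        have hyz : (y : G) * z ≠ z * y := fun h =>
          hyD (mem_subgroupOf.2 (mem_inf.2 ⟨y.2, mem_centralizer_singleton_iff.2 h⟩))
        by_cases hqp : q = p
        · rw [hqp] at hj
          obtain ⟨h8, h16⟩ := rank_of_moved hG hp3 hEel hj (hNE _ y.2) hzE hyz
          exact hno ⟨E, hET.trans inf_le_left, hEel, h8, h16⟩
        · exact hyz (commute_of_odd hG hp3 (PGroupsBasic.isPGroup_of_isElementaryAbelian hEel) hq
            hq2 hqp hj (hNE _ y.2) hzE)
      have hcx : AlperinTame.cmap (zpowers z) x = zpowers z := by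
        refine AlperinTame.cmap_eq_self_iff.2 (centralizer_le_normalizer _ ?_)
        rw [mem_centralizer_iff]
        intro a ha
        obtain ⟨i, rfl⟩ := mem_zpowers_iff.1 ha
        exact ((show Commute z x from hx.symm).zpow_left i).eq
      rw [AlperinTame.cmap_mul, hcx]
      have h := ih hcx
      rwa [hcx] at h
  have hle : AlperinTame.cmap (zpowers z) g⁻¹ ≤ (P : Subgroup G) := by
    intro a ha
    rw [AlperinTame.mem_cmap] at ha
    obtain ⟨i, hi⟩ := mem_zpowers_iff.1 ha
    have : a = (g * z * g⁻¹) ^ i := by rw [conj_zpow, hi]; group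
    rw [this]
    exact zpow_mem hg i
  have h := key _ _ (AlperinTame.alperin P (zpowers z) (zpowers_le.2 z'.2) g⁻¹ hle) rfl
  have hmem : g * z * g⁻¹ ∈ zpowers z := by
    rw [← h, AlperinTame.mem_cmap]
    simp [mul_assoc]
  rcases SolvCentInvol2.eq_of_mem_zpowers (involution_mul_self hzo) hmem with e | e
  · exact involution_ne_one hzo (conj_eq_one_iff.1 e)
  · exact hgne e

omit hG hp3

/-- A Sylow 2-subgroup with a normal four group through a central involution. -/
structure Base (P : Sylow 2 G) (z : G) (V : Subgroup G) : Prop where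
  ord : orderOf z = 2
  memV : z ∈ V
  comm : ∀ x ∈ (P : Subgroup G), x * z = z * x
  card : Nat.card V = 4
  elem : Cfsg.IsElementaryAbelian 2 V
  le : V ≤ (P : Subgroup G)
  norm : (P : Subgroup G) ≤ normalizer (V : Set G)

include hG hp3 in
/-- The base configuration exists. -/
theorem exists_base (P : Sylow 2 G) : ∃ z V, Base P z V := by
  haveI := Fact.mk Nat.prime_two
  obtain ⟨E, hEP, hE, hE8, -⟩ := exists_big hG hp3 P
  have hno : ∀ x : (P : Subgroup G), Nat.card (P : Subgroup G) ≤ 2 * orderOf x → False := by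
    intro x hx
    have hcyc : IsCyclic ↥(E.subgroupOf (P : Subgroup G) ⊓ zpowers x) :=
      isCyclic_of_le inf_le_right
    have hEel : ∀ e ∈ E.subgroupOf (P : Subgroup G) ⊓ zpowers x, e ^ 2 = 1 := fun e he =>
      Subtype.ext (by simpa using hE.2 _ (mem_subgroupOf.1 (mem_inf.1 he).1))
    have h2 := PGroupsBasic.card_le_prime_of_isCyclic hcyc hEel
    have hrel : (zpowers x).index ≤ 2 := by
      have h := (zpowers x).card_mul_index
      rw [Nat.card_zpowers] at h
      rw [← h, mul_comm 2] at hx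
      exact Nat.le_of_mul_le_mul_left hx (orderOf_pos x)
    have h3 := ((zpowers x).subgroupOf (E.subgroupOf (P : Subgroup G))).card_mul_index
    have e1 : Nat.card ((zpowers x).subgroupOf (E.subgroupOf (P : Subgroup G))) =
        Nat.card ↥(E.subgroupOf (P : Subgroup G) ⊓ zpowers x) := by
      rw [show (zpowers x).subgroupOf (E.subgroupOf (P : Subgroup G)) =
        (E.subgroupOf (P : Subgroup G) ⊓ zpowers x).subgroupOf (E.subgroupOf (P : Subgroup G)) from
        (inf_subgroupOf_left _ _).symm]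
      exact Nat.card_congr (subgroupOfEquivOfLe inf_le_left).toEquiv
    rw [e1, Nat.card_congr (subgroupOfEquivOfLe hEP).toEquiv] at h3
    have h4 : ((zpowers x).subgroupOf (E.subgroupOf (P : Subgroup G))).index ≤ 2 :=
      (relIndex_le_of_le_right le_top (by rw [relIndex_top_right]; exact index_ne_zero_of_finite)).trans
        (by rw [relIndex_top_right]; exact hrel)
    have := Nat.mul_le_mul h2 h4
    omega
  rcases NormalFourGroup.four_or_special (G := ↥(P : Subgroup G)) P.2 with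
    ⟨F, hFn, hF4, hF⟩ | h | ⟨m, ⟨e⟩⟩ | ⟨m, ⟨e⟩⟩ | ⟨n, hn, hcard, x, y, hx, -, -⟩
  · haveI := hFn
    have hne : F ≠ ⊥ := fun e => by rw [e, Subgroup.card_bot] at hF4; omega
    obtain ⟨c, hc, hc1⟩ := (bot_or_exists_ne_one (F ⊓ center ↥(P : Subgroup G))).resolve_left
      (PGroupsBasic.inf_center_ne_bot P.2 hne)
    refine ⟨c, F.map (P : Subgroup G).subtype, ⟨?_, ⟨c, hc.1, rfl⟩, fun x hx => ?_, ?_,
      PGroupsBasic.isElementaryAbelian_map_hom hF _, map_subtype_le _, fun u hu => ?_⟩⟩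
    · rw [Subgroup.orderOf_coe, SolvCentInvol1.orderOf_eq_two hF hc.1 hc1]
    · exact congrArg Subtype.val (mem_center_iff.1 hc.2 ⟨x, hx⟩)
    · rw [card_map_of_injective (P : Subgroup G).subtype_injective, hF4]
    · have hconj : ∀ v ∈ (P : Subgroup G), ∀ y ∈ F.map (P : Subgroup G).subtype,
          v * y * v⁻¹ ∈ F.map (P : Subgroup G).subtype := by
        rintro v hv _ ⟨y, hy, rfl⟩
        exact ⟨_, hFn.conj_mem y hy ⟨v, hv⟩, rfl⟩
      rw [mem_normalizer_iff]
      refine fun y => ⟨hconj u hu y, fun hy => ?_⟩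
      have := hconj u⁻¹ (inv_mem hu) _ hy
      simpa [mul_assoc] using this
  · exfalso
    obtain ⟨g, hg⟩ := h.exists_ofOrder_eq_natCard
    exact hno g (by rw [hg]; omega)
  · exfalso
    refine hno (e.symm (DihedralGroup.r 1)) ?_
    rw [MulEquiv.orderOf_eq, DihedralGroup.orderOf_r_one, Nat.card_congr e.toEquiv,
      DihedralGroup.nat_card]
  · exfalso
    haveI hm : NeZero m := ⟨by
      rintro rfl
      haveI : Finite (QuaternionGroup 0) := Finite.of_equiv _ e.toEquiv
      have := orderOf_pos (QuaternionGroup.a 1 : QuaternionGroup 0)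
      rw [QuaternionGroup.orderOf_a_one] at this
      omega⟩
    refine hno (e.symm (QuaternionGroup.a 1)) ?_
    rw [MulEquiv.orderOf_eq, QuaternionGroup.orderOf_a_one, Nat.card_congr e.toEquiv,
      Nat.card_eq_fintype_card, QuaternionGroup.card]
    omega
  · exfalso
    refine hno x ?_
    rw [hx, hcard, pow_succ]
    omega

variable {P : Sylow 2 G} {z : G} {V : Subgroup G} (hb : Base P z V)

/-- The normalizer of the span of the signalizers of `V`. -/
noncomputable def mOf (V : Subgroup G) : Subgroup G := normalizer (span V : Set G)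

/-- Lying in an elementary abelian subgroup of order at least eight of `M`. -/
def Conn (V : Subgroup G) (t : G) : Prop :=
  ∃ A : Subgroup G, Cfsg.IsElementaryAbelian 2 A ∧ 8 ≤ Nat.card A ∧ A ≤ mOf V ∧ t ∈ A

include hb

omit hp in
theorem sylow_le_mOf : (P : Subgroup G) ≤ mOf V := fun x hx =>
  mem_normalizer_of_cj_eq (by rw [← span_cj, cj_eq_of_mem_normalizer (hb.norm hx)])

variable (hG' : SolvCent G)

include hG'

omit hp in
theorem span_eight {A : Subgroup G} (hA : Cfsg.IsElementaryAbelian 2 A) (h8 : 8 ≤ Nat.card A)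
    (hAP : A ≤ (P : Subgroup G)) : span A = span V := by
  obtain ⟨A0, B, hA0A, hA0B, h4, hB, hB8, hVB, -⟩ := extend_four hb.ord hb.memV hb.card hb.elem hA h8
    (fun a ha => hb.comm a (hAP ha)) (hAP.trans hb.norm)
  rw [← (span_spec hG' hA h8).2.2 A0 hA0A h4, (span_spec hG' hB hB8).2.2 A0 hA0B h4,
    (span_spec hG' hB hB8).2.2 V hVB hb.card.ge]

omit hp in
theorem span_of_le_mOf {A : Subgroup G} (hA : Cfsg.IsElementaryAbelian 2 A) (h8 : 8 ≤ Nat.card A)
    (hAM : A ≤ mOf V) : span A = span V := by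
  haveI := Fact.mk Nat.prime_two
  have hPM := sylow_le_mOf hb
  obtain ⟨S, hS⟩ := ((PGroupsBasic.isPGroup_of_isElementaryAbelian hA).of_equiv
    (subgroupOfEquivOfLe hAM).symm).exists_le_sylow
  obtain ⟨m, hm⟩ := MulAction.exists_smul_eq (mOf V) S (P.subtype hPM)
  have hle : cj (m : G) A ≤ (P : Subgroup G) := by
    rintro _ ⟨a, ha, rfl⟩
    have h1 : m * (⟨a, hAM ha⟩ : mOf V) * m⁻¹ ∈ (P.subtype hPM : Subgroup (mOf V)) := by
      rw [← hm, Sylow.coe_subgroup_smul]
      exact ⟨_, hS (mem_subgroupOf.2 ha), rfl⟩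
    exact mem_subgroupOf.1 h1
  have h := span_eight hb hG' (isElementaryAbelian_cj hA) (by rwa [card_cj]) hle
  rw [span_cj] at h
  have h2 := congrArg (cj (m : G)⁻¹) h
  rwa [cj_cj, inv_mul_cancel, cj_one, cj_eq_of_mem_normalizer (inv_mem m.2)] at h2

omit hp in
/-- Two four groups of large elementary subgroups of `M` are only conjugate in `M`. -/
theorem mem_mOf {X A1 A2 : Subgroup G} (h4 : 4 ≤ Nat.card X)
    (hA1 : Cfsg.IsElementaryAbelian 2 A1) (h81 : 8 ≤ Nat.card A1) (hA1M : A1 ≤ mOf V)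
    (hX1 : X ≤ A1) (hA2 : Cfsg.IsElementaryAbelian 2 A2) (h82 : 8 ≤ Nat.card A2)
    (hA2M : A2 ≤ mOf V) {g : G} (hX2 : cj g X ≤ A2) : g ∈ mOf V := by
  have h1 : span X = span V := by
    rw [(span_spec hG' hA1 h81).2.2 X hX1 h4, span_of_le_mOf hb hG' hA1 h81 hA1M]
  have h2 : span (cj g X) = span V := by
    rw [(span_spec hG' hA2 h82).2.2 _ hX2 (by rwa [card_cj]), span_of_le_mOf hb hG' hA2 h82 hA2M]
  exact mem_normalizer_of_cj_eq (by rw [span_cj, h1] at h2; exact h2)

omit hp in
theorem th_le {t : G} (ht : orderOf t = 2) (hc : Conn V t) : th t ≤ span V := by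
  obtain ⟨A, hA, h8, hAM, htA⟩ := hc
  exact (th_le_span htA (involution_ne_one ht)).trans (span_of_le_mOf hb hG' hA h8 hAM).le

include hG hp3

/-- The centralizer of a connected involution lies in `M`. -/
theorem centralizer_le_mOf {t : G} (ht : orderOf t = 2) (hconn : Conn V t) :
    centralizer ({t} : Set G) ≤ mOf V := by
  classical
  haveI := Fact.mk Nat.prime_two
  obtain ⟨A, hA, h8, hAM, htA⟩ := hconn
  set C := centralizer ({t} : Set G) with hC
  have hCne : C ≠ ⊤ := fun h => by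
    have h1 : t ∈ center G := mem_center_iff.2 fun g =>
      mem_centralizer_singleton_iff.1 (h ▸ mem_top g : g ∈ C)
    rw [center_eq_bot hG, mem_bot] at h1
    exact involution_ne_one ht h1
  haveI := hG.solv C hCne
  have hAC : A ≤ C := fun a ha =>
    mem_centralizer_singleton_iff.2 (PGroupsBasic.comm_of_isMulCommutative hA.1 ha htA)
  obtain ⟨T, hT⟩ := ((PGroupsBasic.isPGroup_of_isElementaryAbelian hA).of_equiv
    (subgroupOfEquivOfLe hAC).symm).exists_le_sylow
  set T' := (T : Subgroup C).map C.subtype with hT'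
  have hAT : A ≤ T' := fun a ha => ⟨⟨a, hAC ha⟩, hT (mem_subgroupOf.2 ha), rfl⟩
  have hT'M : T' ≤ mOf V := by
    obtain ⟨h, hh⟩ := exists_sylow_ge (P := P) (T.2.map C.subtype)
    have hle : cj h⁻¹ A ≤ (P : Subgroup G) := by
      rintro _ ⟨a, ha, rfl⟩
      obtain ⟨x, hx, hxa⟩ := hh (hAT ha)
      rw [← hxa]
      simp [mul_assoc]
      exact hx
    have h1 := span_eight hb hG' (isElementaryAbelian_cj hA) (by rwa [card_cj]) hle
    rw [span_cj, span_of_le_mOf hb hG' hA h8 hAM] at h1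
    have h2 := inv_mem (mem_normalizer_of_cj_eq h1)
    rw [inv_inv] at h2
    intro a ha
    obtain ⟨x, hx, rfl⟩ := hh ha
    exact mul_mem (mul_mem h2 (sylow_le_mOf hb hx)) (inv_mem h2)
  have htT' : t ∈ T' := hAT htA
  -- work modulo `O(C)`
  set O := Cfsg.pPrimeCore 2 C with hO
  haveI hOn : O.Normal := HallCore.pPrimeCore_normal 2 C
  have hOM : ∀ o ∈ O, (o : G) ∈ mOf V := fun o ho => le_normalizer
    ((th_le hb hG' ht ⟨A, hA, h8, hAM, htA⟩) ⟨o, ho, rfl⟩)
  set f := QuotientGroup.mk' O with hf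
  have hfs : Function.Surjective f := QuotientGroup.mk'_surjective O
  haveI := isSolvable_quotient O
  set V2 := Cfsg.pCore 2 (C ⧸ O) with hV2
  haveI hV2n : V2.Normal := HallCore.pCore_normal 2 _
  have hcen : centralizer (V2 : Set (C ⧸ O)) ≤ V2 := HallSolvable.centralizer_pCore_le
    (HallSolvable.isPSolvable_of_solvable 2) (HallCore.pPrimeCore_quotient_self 2 C)
  set Tb := T.mapSurjective hfs with hTb
  have hV2T : V2 ≤ (T : Subgroup C).map f := by
    rw [← Sylow.coe_mapSurjective hfs T]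
    exact IsPGroup.le_sylow_of_normal (HallCore.isPGroup_pCore 2 _) Tb
  set L := V2.comap f with hL
  haveI : L.Normal := hV2n.comap f
  set U := (T : Subgroup C) ⊓ L with hU
  have hUp : IsPGroup 2 U := T.2.to_le inf_le_left
  have hUf : ∀ v ∈ V2, ∃ u ∈ U, f u = v := fun v hv => by
    obtain ⟨s, hs, rfl⟩ := hV2T hv
    exact ⟨s, mem_inf.2 ⟨hs, hv⟩, rfl⟩
  have hker : ∀ a b : C, f a = f b → a⁻¹ * b ∈ O := fun a b h => QuotientGroup.eq.1 h
  have hLU : L = U ⊔ O := by
    refine le_antisymm (fun l hl => ?_) (sup_le inf_le_right fun o ho => ?_)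
    · obtain ⟨u, hu, hul⟩ := hUf _ hl
      have := mul_mem (mem_sup_left hu : u ∈ U ⊔ O) (mem_sup_right (hker u l hul))
      simpa using this
    · rw [hL, mem_comap, show f o = 1 from (QuotientGroup.eq_one_iff o).2 ho]
      exact one_mem _
  have hOodd : ¬ 2 ∣ Nat.card O := HallCore.not_dvd_card_pPrimeCore 2 C
  have hUsyl : ¬ 2 ∣ (U.subgroupOf L).index := by
    intro h
    refine hOodd (h.trans ?_)
    have h1 := HallCore.card_sup_dvd U O
    rw [← hLU, ← HallCore.card_mul_relIndex (inf_le_right : U ≤ L)] at h1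
    exact Nat.dvd_of_mul_dvd_mul_left Nat.card_pos h1
  set NU := normalizer (U : Set C) with hNU
  have hfrat : NU ⊔ O = ⊤ := by
    have h := Sylow.normalizer_sup_eq_top (N := L)
      ((hUp.of_equiv (subgroupOfEquivOfLe (inf_le_right : U ≤ L)).symm).toSylow hUsyl)
    have e : ((U.subgroupOf L).map L.subtype) = U := by
      rw [subgroupOf_map_subtype, inf_of_le_left inf_le_right]
    simp only [IsPGroup.toSylow_coe] at h
    rw [e, hLU, ← sup_assoc, sup_of_le_left (le_normalizer : U ≤ normalizer (U : Set C))] at h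
    exact h
  have hNf : ∀ c : C, ∃ n ∈ NU, f n = f c := by
    intro c
    obtain ⟨n, hn, o, ho, rfl⟩ : ∃ n ∈ NU, ∃ o ∈ O, n * o = c := by
      have h : c ∈ ((NU ⊔ O : Subgroup C) : Set C) := by rw [hfrat]; trivial
      rw [Subgroup.mul_normal] at h
      exact h
    exact ⟨n, hn, by rw [map_mul, show f o = 1 from (QuotientGroup.eq_one_iff o).2 ho, mul_one]⟩
  suffices hN : ∀ n ∈ NU, (n : G) ∈ mOf V by
    intro c hc
    have h : (⟨c, hc⟩ : C) ∈ NU ⊔ O := by rw [hfrat]; trivial
    have h2 : (NU ⊔ O).map C.subtype ≤ mOf V := by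
      rw [Subgroup.map_sup, sup_le_iff]
      exact ⟨by rintro _ ⟨n, hn, rfl⟩; exact hN n hn, by rintro _ ⟨o, ho, rfl⟩; exact hOM o ho⟩
    exact h2 ⟨_, h, rfl⟩
  have hp2 : p ≠ 2 := by omega
  have hprimes : ∀ {q : ℕ}, q.Prime → q ∣ Nat.card (C ⧸ O) → q = 2 ∨ q = p := fun hq hd =>
    prime_eq_of_dvd (pnilp hG hCne) hp2 hq hd
  -- `p`-elements centralizing `U` lie in `O`
  have hK1 : ∀ x ∈ NU, ∀ k : ℕ, x ^ p ^ k = 1 → (∀ u ∈ U, x * u = u * x) → f x = 1 := by
    intro x _ k hx hxu
    have h1 : f x ∈ V2 := hcen (mem_centralizer_iff.2 fun v hv => by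
      obtain ⟨u, hu, rfl⟩ := hUf v hv
      rw [← map_mul, ← map_mul, hxu u hu])
    have h2 : orderOf (f x) ∣ p ^ k := orderOf_dvd_of_pow_eq_one (by rw [← map_pow, hx, map_one])
    obtain ⟨j, hj⟩ := IsPGroup.iff_card.1 (HallCore.isPGroup_pCore 2 (C ⧸ O))
    have h3 := Subgroup.orderOf_dvd_natCard V2 h1
    rw [hV2, hj] at h3
    exact orderOf_eq_one_iff.1 (Nat.eq_one_of_dvd_coprimes
      ((((Nat.coprime_primes Nat.prime_two hp.out).2 hp2.symm).pow_left j).pow_right k) h3 h2)
  -- lifting elements of order `p`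
  have hlift : ∀ K : Subgroup C, K ≤ NU → ∀ y ∈ K.map f, orderOf y = p →
      ∃ x ∈ K, ∃ k : ℕ, x ^ p ^ k = 1 ∧ f x ≠ 1 := by
    rintro K - _ ⟨x, hx, rfl⟩ hy
    set a := (orderOf x).factorization p
    refine ⟨x ^ (orderOf x / p ^ a), pow_mem hx _, a, ?_, ?_⟩
    · rw [← pow_mul, Nat.div_mul_cancel (Nat.ordProj_dvd _ _), pow_orderOf_eq_one]
    · rw [map_pow]
      intro h
      have h1 := orderOf_dvd_of_pow_eq_one h
      rw [hy] at h1
      exact Nat.not_dvd_ordCompl hp.out (orderOf_pos x).ne' h1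
  by_cases hact : ∀ x ∈ NU, ∀ k : ℕ, x ^ p ^ k = 1 → ∀ u ∈ U, x * u = u * x
  · -- `C = T O`
    have htop : (T : Subgroup C).map f = ⊤ := by
      rw [← index_eq_one]
      by_contra hne
      obtain ⟨q, hq, hqd⟩ := Nat.exists_prime_and_dvd hne
      rcases hprimes hq (hqd.trans (index_dvd_card _)) with rfl | rfl
      · rw [← Sylow.coe_mapSurjective hfs T] at hqd
        exact Tb.not_dvd_index hqd
      · obtain ⟨y, hy⟩ := exists_prime_orderOf_dvd_card' q (hqd.trans (index_dvd_card _))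
        obtain ⟨c, rfl⟩ := hfs y
        obtain ⟨n, hn, hnc⟩ := hNf c
        obtain ⟨x, hx, k, hxk, hfx⟩ := hlift NU le_rfl (f c) ⟨n, hn, hnc⟩ hy
        exact hfx (hK1 x hx k hxk (hact x hx k hxk))
    intro n _
    have h : f n ∈ (T : Subgroup C).map f := by rw [htop]; trivial
    obtain ⟨s, hs, hsn⟩ := h
    have := mul_mem (hT'M ⟨s, hs, rfl⟩) (hOM _ (hker s n hsn))
    simpa using this
  push Not at hact
  obtain ⟨x0, hx0, k0, hx0k, u0, hu0, hxu0⟩ := hact
  intro g hg
  set U' := U.map C.subtype with hU'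
  have hU'T : U' ≤ T' := map_mono inf_le_left
  have hNU' : ∀ n ∈ NU, (n : G) ∈ normalizer (U' : Set G) := by
    intro n hn
    refine le_normalizer_map C.subtype ⟨n, hn, rfl⟩
  by_cases hne : NoEight U'
  swap
  · simp only [NoEight, not_forall, not_lt] at hne
    obtain ⟨A', hA'U, hA', hA'8⟩ := hne
    have hA'M := hA'U.trans (hU'T.trans hT'M)
    refine mem_mOf hb hG' (X := A') (le_trans (by norm_num) hA'8) hA' hA'8 hA'M le_rfl
      (isElementaryAbelian_cj hA') (by rwa [card_cj]) ?_ le_rfl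
    refine le_trans ?_ (hU'T.trans hT'M)
    exact (cj_mono hA'U).trans (cj_eq_of_mem_normalizer (hNU' g hg)).le
  have hU'p : IsPGroup 2 U' := hUp.map _
  have htC : t ∈ C := mem_centralizer_singleton_iff.2 rfl
  have htU : t ∈ U' := by
    refine ⟨⟨t, htC⟩, mem_inf.2 ⟨?_, hcen (mem_centralizer_iff.2 fun v hv => ?_)⟩, rfl⟩
    · obtain ⟨y, hy, hye⟩ := htT'
      have : y = ⟨t, htC⟩ := Subtype.ext hye
      exact this ▸ hy
    · obtain ⟨u, -, rfl⟩ := hUf v hv
      rw [← map_mul, ← map_mul]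
      exact congrArg f (Subtype.ext (mem_centralizer_singleton_iff.1 u.2))
  have hU'C : ∀ u ∈ U', u * t = t * u := by
    rintro _ ⟨u, -, rfl⟩
    exact mem_centralizer_singleton_iff.1 u.2
  have hncyc : ¬ CycTwo U' := fun h => hxu0 (Subtype.ext (commute_of_cycTwo hp3 hU'p h
    (hNU' x0 hx0) (k := k0) (x := (x0 : G)) (by simpa using congrArg Subtype.val hx0k)
    (mem_map_of_mem C.subtype hu0)))
  set Ξ := {X : Subgroup G | IsFour t U' X} with hΞ
  have hcjΞ : ∀ n : C, n ∈ NU → ∀ X ∈ Ξ, cj (n : G) X ∈ Ξ := by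
    rintro n hn X ⟨h1, h2, h3, h4, h5⟩
    refine ⟨?_, (cj_mono h2).trans (cj_eq_of_mem_normalizer (hNU' n hn)).le, by rw [card_cj, h3],
      isElementaryAbelian_cj h4, fun u hu => ?_⟩
    · rw [mem_cj]
      have : (n : G)⁻¹ * t * (n : G) = t := by
        rw [mul_assoc, ← mem_centralizer_singleton_iff.1 n.2, inv_mul_cancel_left]
      rwa [this]
    · refine mem_normalizer_of_cj_eq ?_
      rw [cj_cj, show u * (n : G) = (n : G) * ((n : G)⁻¹ * u * (n : G)) by group, ← cj_cj,
        cj_eq_of_mem_normalizer (h5 ((mem_normalizer_iff''.1 (hNU' n hn) u).1 hu))]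
  letI actN : MulAction NU Ξ :=
    { smul := fun n X => ⟨cj ((n : C) : G) X.1, hcjΞ n n.2 X.1 X.2⟩
      one_smul := fun X => Subtype.ext (cj_one X.1)
      mul_smul := fun m n X => Subtype.ext (cj_cj _ _ X.1).symm }
  have hsmul : ∀ (n : NU) (X : Ξ), ((n • X : Ξ) : Subgroup G) = cj ((n : C) : G) X.1 :=
    fun n X => rfl
  have hTNU : (T : Subgroup C) ≤ NU := by
    intro s hs
    rw [hNU, mem_normalizer_iff]
    intro y
    rw [hU, mem_inf, mem_inf]
    refine and_congr ⟨fun hy => mul_mem (mul_mem hs hy) (inv_mem hs), fun hy => ?_⟩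
      ⟨fun hy => ‹L.Normal›.conj_mem y hy s, fun hy => ?_⟩
    · have := mul_mem (mul_mem (inv_mem hs) hy) hs
      simpa [mul_assoc] using this
    · have := ‹L.Normal›.conj_mem _ hy s⁻¹
      simpa [mul_assoc] using this
  -- a four group fixed by `T`
  obtain ⟨X0, hX0⟩ : ∃ X0 : Ξ, ∀ n : NU, (n : C) ∈ (T : Subgroup C) → n • X0 = X0 := by
    have hmod := (T.2.of_equiv (subgroupOfEquivOfLe hTNU).symm).card_modEq_card_fixedPoints Ξ
    by_contra hno
    push Not at hno
    haveI : IsEmpty (MulAction.fixedPoints ((T : Subgroup C).subgroupOf NU) Ξ) := ⟨fun X => by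
      obtain ⟨n, hn, hnX⟩ := hno X.1
      exact hnX (X.2 ⟨n, mem_subgroupOf.2 hn⟩)⟩
    have h0 : Nat.card (MulAction.fixedPoints ((T : Subgroup C).subgroupOf NU) Ξ) = 0 :=
      Nat.card_of_isEmpty
    rw [h0, Nat.card_coe_set_eq] at hmod
    have hev := Nat.modEq_zero_iff_dvd.1 hmod
    rcases odd_ncard hU'p ht htU hU'C hne hncyc with h | h | h <;> rw [h] at hev <;> norm_num at hev
  have hX0' : IsFour t U' X0.1 := X0.2
  -- it is connected
  obtain ⟨-, B, -, -, -, hB, hB8, hX0B, hBle⟩ := extend_four ht hX0'.1 hX0'.2.2.1 hX0'.2.2.2.1 hA h8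
    (fun a ha => PGroupsBasic.comm_of_isMulCommutative hA.1 ha htA) (fun a ha => by
      obtain ⟨s, hs, hsa⟩ := hAT ha
      rw [← hsa]
      exact mem_normalizer_of_cj_eq
        ((hsmul ⟨s, hTNU hs⟩ X0).symm.trans (congrArg Subtype.val (hX0 ⟨s, hTNU hs⟩ hs))))
  have hBM : B ≤ mOf V := hBle.trans (sup_le (hX0'.2.1.trans (hU'T.trans hT'M)) hAM)
  by_cases hfix : (⟨g, hg⟩ : NU) • X0 = X0
  · refine mem_mOf hb hG' hX0'.2.2.1.ge hB hB8 hBM hX0B hB hB8 hBM ?_
    exact ((hsmul ⟨g, hg⟩ X0).symm.trans (congrArg Subtype.val hfix)).trans_le hX0B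
  exfalso
  -- elements of `N(U) ∩ O` act trivially
  have hOfix : ∀ n : NU, (n : C) ∈ O → ∀ X : Ξ, n • X = X := by
    intro n hn X
    refine Subtype.ext ((hsmul n X).trans (cj_eq_of_mem_normalizer
      (centralizer_le_normalizer _ (mem_centralizer_iff.2 fun y hy => ?_))))
    obtain ⟨u, hu, rfl⟩ := X.2.2.1 hy
    refine congrArg Subtype.val (show u * (n : C) = (n : C) * u from ?_)
    have h1 : (n : C) * u * (n : C)⁻¹ * u⁻¹ ∈ U ⊓ O := mem_inf.2
      ⟨mul_mem ((mem_normalizer_iff.1 n.2 u).1 hu) (inv_mem hu), by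
        rw [mul_assoc, mul_assoc, ← mul_assoc u]
        exact mul_mem hn (hOn.conj_mem _ (inv_mem hn) u)⟩
    have h2 : U ⊓ O = ⊥ := by
      refine inf_eq_bot_of_coprime ?_
      obtain ⟨j, hj⟩ := IsPGroup.iff_card.1 hUp
      rw [hj]
      exact ((Nat.prime_two.coprime_iff_not_dvd).2 hOodd).pow_left j
    rw [h2, mem_bot, mul_inv_eq_one, mul_inv_eq_iff_eq_mul] at h1
    exact h1.symm
  set St := MulAction.stabilizer NU X0 with hSt
  have hidx : St.index ∣ Nat.card (C ⧸ O) := by
    have h1 : O.subgroupOf NU ≤ St := fun n hn => hOfix n hn X0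
    refine (index_dvd_of_le h1).trans ?_
    rw [← index_eq_card]
    exact relIndex_dvd_index_of_normal O NU
  have hodd : ¬ 2 ∣ St.index := by
    intro h
    have h1 : (T : Subgroup C).subgroupOf NU ≤ St := fun n hn => hX0 n hn
    exact T.not_dvd_index (h.trans ((index_dvd_of_le h1).trans
      (relIndex_dvd_index_of_le hTNU)))
  have horb : St.index ≤ Ξ.ncard := by
    rw [hSt, MulAction.index_stabilizer, ← Nat.card_coe_set_eq, ← Nat.card_coe_set_eq]
    exact Nat.card_le_card_of_injective _ Subtype.val_injective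
  have hne1 : St.index ≠ 1 := fun h => hfix (by
    have h' : (⟨g, hg⟩ : NU) ∈ St := by rw [index_eq_one.1 h]; trivial
    exact h')
  have hp5 : 5 ≤ p := by
    have : p ≠ 4 := fun h => absurd (h ▸ hp.out) (by norm_num)
    omega
  obtain ⟨q, hq, hqd⟩ := Nat.exists_prime_and_dvd hne1
  have hqp : q = p := (hprimes hq (hqd.trans hidx)).resolve_left fun h => hodd (h ▸ hqd)
  subst hqp
  have hpn : q ≤ Ξ.ncard := (Nat.le_of_dvd (Nat.pos_of_ne_zero index_ne_zero_of_finite) hqd).trans horb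
  have hn5 : Ξ.ncard = 5 := ncard_eq_five ht htU hU'C hne
    (show 4 ≤ Ξ.ncard by omega)
  have hq5 : q = 5 := by
    have : q ≠ 4 := fun h => absurd (h ▸ hq) (by norm_num)
    omega
  subst hq5
  have hidx5 : St.index = 5 := le_antisymm (horb.trans hn5.le)
    (Nat.le_of_dvd (Nat.pos_of_ne_zero index_ne_zero_of_finite) hqd)
  obtain ⟨X1, hX1, X2, hX2, hX12⟩ : ∃ X ∈ Ξ, ∃ Y ∈ Ξ, X ≠ Y :=
    (Set.one_lt_ncard (Set.toFinite _)).1 (by omega)
  -- the only central involution of `T` is `t`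
  have hcentral : ∀ y ∈ T', orderOf y = 2 → (∀ s ∈ T', s * y = y * s) → y = t := by
    intro y hy hyo hyc
    have hyU : y ∈ U' := by
      obtain ⟨w, hw, rfl⟩ := hy
      refine ⟨w, mem_inf.2 ⟨hw, hcen (mem_centralizer_iff.2 fun v hv => ?_)⟩, rfl⟩
      obtain ⟨s, hs, rfl⟩ := hV2T hv
      rw [← map_mul, ← map_mul]
      exact congrArg f (Subtype.ext (hyc _ ⟨s, hs, rfl⟩))
    obtain ⟨a, ha, ha1, hat⟩ := IsFour.exists_rep hX1 ht
    obtain ⟨b, hb', hb1, hbt⟩ := IsFour.exists_rep hX2 ht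
    refine (pair_centralizer ht hU'C hne hX1 hX2 hX12 ha ha1 hat hb' hb1 hbt).1 y
      (mem_inf.2 ⟨hyU, mem_centralizer_iff.2 fun c hc => ?_⟩) hyo
    rcases hc with rfl | rfl
    · exact hyc _ (hU'T (hX1.2.1 ha))
    · exact hyc _ (hU'T (hX2.2.1 hb'))
  -- `T` is a Sylow 2-subgroup
  obtain ⟨P1, hP1⟩ := (T.2.map C.subtype).exists_le_sylow
  have hTP1 : T' = (P1 : Subgroup G) := by
    by_contra hne'
    have hsub : T'.subgroupOf (P1 : Subgroup G) ≠ ⊤ := fun h =>
      hne' (le_antisymm hP1 (subgroupOf_eq_top.1 h))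
    haveI : Group.IsNilpotent (P1 : Subgroup G) := P1.2.isNilpotent
    obtain ⟨n, hn, hnT⟩ := SetLike.exists_of_lt
      (Group.normalizerCondition_of_isNilpotent _ (lt_top_iff_ne_top.2 hsub))
    have hnorm : ∀ s : G, s ∈ T' ↔ (n : G) * s * (n : G)⁻¹ ∈ T' := by
      intro s
      constructor
      · intro hs
        exact mem_subgroupOf.1 ((mem_normalizer_iff.1 hn ⟨s, hP1 hs⟩).1 (mem_subgroupOf.2 hs))
      · intro hs
        have hsP : s ∈ (P1 : Subgroup G) := by
          have := mul_mem (mul_mem (inv_mem n.2) (hP1 hs)) n.2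
          simpa [mul_assoc] using this
        exact mem_subgroupOf.1 ((mem_normalizer_iff.1 hn ⟨s, hsP⟩).2 (mem_subgroupOf.2 hs))
    have hnt : (n : G) * t * (n : G)⁻¹ = t := by
      refine hcentral _ ((hnorm t).1 htT') (by rw [orderOf_conj, ht]) fun s hs => ?_
      have h1 : (n : G)⁻¹ * s * (n : G) ∈ T' := (hnorm _).2 (by simpa [mul_assoc] using hs)
      have h2 : (n : G)⁻¹ * s * (n : G) * t = t * ((n : G)⁻¹ * s * (n : G)) := by
        obtain ⟨w, -, hw⟩ := h1
        rw [← hw]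
        exact mem_centralizer_singleton_iff.1 w.2
      calc s * ((n : G) * t * (n : G)⁻¹) = (n : G) * ((n : G)⁻¹ * s * (n : G) * t) * (n : G)⁻¹ := by group
        _ = (n : G) * (t * ((n : G)⁻¹ * s * (n : G))) * (n : G)⁻¹ := by rw [h2]
        _ = _ := by group
    have hnC : (n : G) ∈ C := mem_centralizer_singleton_iff.2 (mul_inv_eq_iff_eq_mul.1 hnt)
    refine hnT (mem_subgroupOf.2 ⟨⟨n, hnC⟩, ?_, rfl⟩)
    refine (T.3 (Q := (P1 : Subgroup G).subgroupOf C)
      (P1.2.comap_of_injective C.subtype C.subtype_injective)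
      (fun s hs => mem_subgroupOf.2 (hP1 ⟨s, hs, rfl⟩))).le ?_
    exact mem_subgroupOf.2 n.2
  -- a large elementary subgroup of `T`
  obtain ⟨E, hET, hE, -, hE16⟩ := exists_big hG hp3 P1
  have hE16 := hE16 rfl
  rw [← hTP1] at hET
  -- the kernel on the five four groups
  set ρ := MulAction.toPermHom NU Ξ with hρ
  have hkerU : ∀ s : C, ∀ hs : s ∈ (T : Subgroup C), ρ ⟨s, hTNU hs⟩ = 1 → s ∈ U := by
    intro s hs hρs
    set K := ρ.ker.map NU.subtype with hK
    have hKn : (K.map f).Normal := ⟨by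
      rintro _ ⟨_, ⟨k, hk, rfl⟩, rfl⟩ y
      obtain ⟨c, rfl⟩ := hfs y
      obtain ⟨n, hn, hnc⟩ := hNf c
      rw [← hnc, ← map_inv, ← map_mul, ← map_mul]
      exact mem_map_of_mem f (mem_map_of_mem NU.subtype
        ((MonoidHom.normal_ker ρ).conj_mem k hk ⟨n, hn⟩))⟩
    have hK2 : IsPGroup 2 (K.map f) := by
      refine IsPGroup.of_card (n := (Nat.card (K.map f)).primeFactorsList.length) ?_
      refine Nat.eq_prime_pow_of_unique_prime_dvd Nat.card_pos.ne' fun {d} hd hdd => ?_
      refine (hprimes hd (hdd.trans (card_subgroup_dvd_card _))).resolve_right ?_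
      rintro rfl
      obtain ⟨⟨y, hy⟩, hyo⟩ := exists_prime_orderOf_dvd_card' 5 hdd
      rw [Subgroup.orderOf_mk] at hyo
      obtain ⟨x, hx, k, hxk, hfx⟩ := hlift K (map_subtype_le _) y hy hyo
      obtain ⟨x, hxker, rfl⟩ := hx
      have hfixX : ∀ X : Ξ, ((x : C) : G) ∈ normalizer (X.1 : Set G) := fun X => by
        have h1 : x • X = X := Equiv.ext_iff.1 (MonoidHom.mem_ker.1 hxker) X
        exact mem_normalizer_of_cj_eq ((hsmul x X).symm.trans (congrArg Subtype.val h1))
      exact hfx (hK1 x x.2 k hxk fun u hu => Subtype.ext (commute_of_fix hU'p ht hU'C hne hp3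
        hX1 hX2 hX12 (hNU' x x.2) (mem_centralizer_singleton_iff.1 (x : C).2) (hfixX ⟨X1, hX1⟩)
        (hfixX ⟨X2, hX2⟩) (by simpa using congrArg Subtype.val hxk) (mem_map_of_mem C.subtype hu)))
    haveI := hKn
    exact mem_inf.2 ⟨hs, HallCore.le_pCore hK2
      (mem_map_of_mem f (mem_map_of_mem NU.subtype (show (⟨s, hTNU hs⟩ : NU) ∈ ρ.ker from hρs)))⟩
  -- the image is a Frobenius group of order dividing 20
  have hcard5 : Nat.card Ξ = 5 := by rw [Nat.card_coe_set_eq, hn5]
  set H := ρ.range with hH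
  have hHd : Nat.card H ∣ 120 := by
    refine (card_subgroup_dvd_card H).trans ?_
    rw [Nat.card_perm, hcard5]
    rfl
  have hH3 : ¬ 3 ∣ Nat.card H := by
    intro h
    have h1 : O.subgroupOf NU ≤ ρ.ker := fun n hn =>
      MonoidHom.mem_ker.2 (Equiv.ext fun X => hOfix n hn X)
    rw [hH, ← index_ker] at h
    have h2 : 3 ∣ Nat.card (C ⧸ O) := by
      rw [← index_eq_card]
      exact h.trans ((index_dvd_of_le h1).trans (relIndex_dvd_index_of_normal O NU))
    rcases hprimes Nat.prime_three h2 with h | h <;> norm_num at h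
  have hH40 : Nat.card H ∣ 40 :=
    ((Nat.prime_three.coprime_iff_not_dvd.2 hH3).symm).dvd_of_dvd_mul_left
      (show Nat.card H ∣ 3 * 40 from hHd)
  have hH5 : 5 ∣ Nat.card H := by
    rw [hH, ← index_ker, ← hidx5]
    exact index_dvd_of_le fun n hn => Equiv.ext_iff.1 (MonoidHom.mem_ker.1 hn) X0
  haveI := Fact.mk (show Nat.Prime 5 by norm_num)
  obtain ⟨R⟩ : Nonempty (Sylow 5 H) := inferInstance
  have hRc : Nat.card (R : Subgroup H) = 5 := by
    obtain ⟨j, hj⟩ := IsPGroup.iff_card.1 R.2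
    have h1 : 5 ^ j ∣ 40 := hj ▸ (card_subgroup_dvd_card _).trans hH40
    have h2 : 1 ≤ j := by
      by_contra h
      exact Sylow.ne_bot_of_dvd_card R hH5 (Subgroup.card_eq_one.1 (by rw [hj]; simp [show j = 0 by omega]))
    have h3 : j ≤ 1 := by
      by_contra h
      exact absurd ((pow_dvd_pow 5 (by omega : 2 ≤ j)).trans h1) (by norm_num)
    rw [hj, show j = 1 by omega, pow_one]
  have hRn : (R : Subgroup H).Normal := by
    have hn1 : Nat.card (Sylow 5 H) = 1 := by
      have hm := card_sylow_modEq_one 5 H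
      have hd : Nat.card (Sylow 5 H) ∣ 8 := by
        refine (Sylow.card_dvd_index R).trans ?_
        have h := (R : Subgroup H).card_mul_index
        rw [hRc] at h
        exact Nat.dvd_of_mul_dvd_mul_left (show 0 < 5 by norm_num) (by rw [h]; exact hH40)
      have h8 : Nat.card (Sylow 5 H) ≤ 8 := Nat.le_of_dvd (by norm_num) hd
      revert hm hd
      generalize Nat.card (Sylow 5 H) = n at h8
      intro hm hd
      unfold Nat.ModEq at hm
      interval_cases n <;> first | rfl | omega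
    haveI : Subsingleton (Sylow 5 H) := (Nat.card_eq_one_iff_unique.1 hn1).1
    exact R.normal_of_subsingleton
  haveI : IsCyclic (R : Subgroup H) := isCyclic_of_prime_card hRc
  obtain ⟨σ', hσ'⟩ := IsCyclic.exists_ofOrder_eq_natCard (α := (R : Subgroup H))
  rw [hRc, ← Subgroup.orderOf_coe, ← Subgroup.orderOf_coe] at hσ'
  set σ : Equiv.Perm Ξ := ((σ' : H) : Equiv.Perm Ξ) with hσ
  -- `σ` is regular
  have hreg : ∀ Y : Ξ, ∃ i : ℕ, (σ ^ i) X0 = Y := by
    haveI := Fintype.ofFinite Ξ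
    have hcl : σ.IsCycle := Equiv.Perm.isCycle_of_prime_order' (by rw [hσ']; norm_num)
      (by rw [hσ', ← Nat.card_eq_fintype_card, hcard5]; norm_num)
    have hsupp : ∀ Y : Ξ, σ Y ≠ Y := fun Y => by
      have h1 : σ.support = Finset.univ := by
        refine Finset.eq_univ_of_card _ ?_
        rw [← hcl.orderOf, hσ', ← Nat.card_eq_fintype_card, hcard5]
      exact Equiv.Perm.mem_support.1 (h1 ▸ Finset.mem_univ Y)
    exact fun Y => hcl.exists_pow_eq (hsupp X0) (hsupp Y)
  -- elements of `E` invert or centralize `σ`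
  have hEC : ∀ e : E, (e : G) ∈ C := fun e => by
    obtain ⟨w, -, hw⟩ := hET e.2
    rw [← hw]
    exact w.2
  have hEmT : ∀ e : E, (⟨e, hEC e⟩ : C) ∈ (T : Subgroup C) := fun e => by
    obtain ⟨w, hw, hwe⟩ := hET e.2
    exact (Subtype.ext hwe : w = ⟨(e : G), hEC e⟩) ▸ hw
  let ψ : E → Equiv.Perm Ξ := fun e => ρ ⟨⟨e, hEC e⟩, hTNU (hEmT e)⟩
  have hψ : ∀ e : E, ψ e = 1 ∨ ∀ i : ℕ, ψ e ((σ ^ i) X0) = (σ⁻¹ ^ i) X0 := by
    intro e
    have heT := hEmT e
    have hX0e : ψ e X0 = X0 := hX0 _ heT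
    have hsq : ψ e * ψ e = 1 := by
      rw [← map_mul, ← map_one ρ]
      exact congrArg ρ (Subtype.ext (Subtype.ext (by
        simpa [pow_two] using hE.2 _ e.2)))
    obtain ⟨k, hk, hkσ⟩ : ∃ k < 5, ψ e * σ * (ψ e)⁻¹ = σ ^ k := by
      have h1 : (⟨ψ e, ⟨_, rfl⟩⟩ : H) * (σ' : H) * (⟨ψ e, ⟨_, rfl⟩⟩ : H)⁻¹ ∈ zpowers (σ' : H) := by
        have heq : zpowers (σ' : H) = (R : Subgroup H) :=
          eq_of_le_of_card_ge (zpowers_le.2 σ'.2) (by
            rw [Nat.card_zpowers, hRc, ← Subgroup.orderOf_coe, hσ'])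
        rw [heq]
        exact hRn.conj_mem _ σ'.2 _
      obtain ⟨k, hk⟩ := mem_powers_iff_mem_zpowers.2 h1
      refine ⟨k % 5, Nat.mod_lt _ (by norm_num), ?_⟩
      rw [← hσ', pow_mod_orderOf]
      exact (congrArg Subtype.val hk).symm
    have hkk : σ ^ (k * k) = σ := by
      have hi : (ψ e)⁻¹ = ψ e := inv_eq_of_mul_eq_one_right hsq
      calc σ ^ (k * k) = (ψ e * σ * (ψ e)⁻¹) ^ k := by rw [hkσ, ← pow_mul]
        _ = ψ e * σ ^ k * (ψ e)⁻¹ := conj_pow
        _ = (ψ e * ψ e) * σ * ((ψ e)⁻¹ * (ψ e)⁻¹) := by rw [← hkσ]; group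
        _ = σ := by rw [hi, hsq, one_mul, mul_one]
    have hmod : k * k % 5 = 1 := by
      have h := pow_inj_mod.1 (hkk.trans (pow_one σ).symm)
      rwa [hσ'] at h
    have hact' : ∀ i : ℕ, ψ e ((σ ^ i) X0) = ((σ ^ k) ^ i) X0 := by
      intro i
      rw [← hkσ, conj_pow, Equiv.Perm.mul_apply, Equiv.Perm.mul_apply,
        Equiv.Perm.inv_eq_iff_eq.2 hX0e.symm]
    interval_cases k
    · norm_num at hmod
    · left
      refine Equiv.ext fun Y => ?_
      obtain ⟨i, rfl⟩ := hreg Y
      simpa using hact' i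
    · norm_num at hmod
    · norm_num at hmod
    · right
      intro i
      rw [hact' i, show σ ^ 4 = σ⁻¹ from eq_inv_of_mul_eq_one_left (by
        rw [← pow_succ, show 4 + 1 = orderOf σ by rw [hσ'], pow_orderOf_eq_one])]
  -- so an elementary subgroup of order eight lies in `U`
  have hψmul : ∀ a b : E, ψ (a * b) = ψ a * ψ b := fun a b => by
    rw [← map_mul]; rfl
  let Ψ : E →* Equiv.Perm Ξ := MonoidHom.mk' ψ hψmul
  have hker8 : 8 ≤ Nat.card Ψ.ker := by
    have h2 : Nat.card Ψ.range ≤ 2 := by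
      by_contra h
      haveI := Fintype.ofFinite Ψ.range
      rw [Nat.card_eq_fintype_card, not_le, Fintype.two_lt_card_iff] at h
      obtain ⟨⟨a, a', rfl⟩, ⟨b, b', rfl⟩, ⟨c, c', rfl⟩, hab, hac, hbc⟩ := h
      have hsame : ∀ a b : E, ψ a ≠ 1 → ψ b ≠ 1 → ψ a = ψ b := fun a b ha hb => by
        refine Equiv.ext fun Y => ?_
        obtain ⟨i, rfl⟩ := hreg Y
        rw [(hψ a).resolve_left ha, (hψ b).resolve_left hb]
      rcases eq_or_ne (ψ a') 1 with ha | ha <;> rcases eq_or_ne (ψ b') 1 with hb | hb <;>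
        rcases eq_or_ne (ψ c') 1 with hc | hc
      all_goals first
        | exact hab (Subtype.ext (ha.trans hb.symm))
        | exact hac (Subtype.ext (ha.trans hc.symm))
        | exact hbc (Subtype.ext (hb.trans hc.symm))
        | exact hab (Subtype.ext (hsame _ _ ha hb))
        | exact hac (Subtype.ext (hsame _ _ ha hc))
        | exact hbc (Subtype.ext (hsame _ _ hb hc))
    have h3 := Ψ.ker.card_mul_index
    rw [index_ker] at h3
    have := Nat.mul_le_mul_left (Nat.card Ψ.ker) h2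
    omega
  refine absurd (hne (Ψ.ker.map E.subtype) ?_ (elementaryAbelian_of_le hE (map_subtype_le _))) ?_
  · rintro _ ⟨e, he, rfl⟩
    obtain ⟨w, hw, hwe⟩ := hET e.2
    refine ⟨w, hkerU w hw ?_, hwe⟩
    rw [← MonoidHom.mem_ker.1 he]
    exact congrArg ρ (Subtype.ext (Subtype.ext hwe))
  · rw [card_map_of_injective E.subtype_injective]
    omega

/-- Every involution has a connected conjugate. -/
theorem exists_conn_conj {t : G} (ht : orderOf t = 2) : ∃ g : G, Conn V (g * t * g⁻¹) := by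
  haveI := Fact.mk Nat.prime_two
  obtain ⟨m, -, hm⟩ := exists_conj_mem (P := P) (M := ⊤) le_top ht (mem_top t)
  set s := m * t * m⁻¹ with hs
  have hso : orderOf s = 2 := by rw [hs, orderOf_conj, ht]
  have hPM := sylow_le_mOf hb
  obtain ⟨E, hEP, hE, hE8, -⟩ := exists_big hG hp3 P
  obtain ⟨-, B0, -, -, -, hB0, hB08, hVB0, hB0le⟩ := extend_four hb.ord hb.memV hb.card hb.elem hE hE8
    (fun a ha => hb.comm a (hEP ha)) (hEP.trans hb.norm)
  have hcase : ∀ y ∈ (P : Subgroup G), orderOf y = 2 → y ∈ centralizer (V : Set G) → Conn V y := by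
    intro y hyP hyo hyc
    by_cases hyV : y ∈ V
    · exact ⟨B0, hB0, hB08, hB0le.trans (sup_le (hb.le.trans hPM) (hEP.trans hPM)), hVB0 hyV⟩
    refine ⟨V ⊔ zpowers y, PGroupsBasic.isElementaryAbelian_sup hb.elem
      (PGroupsBasic.isElementaryAbelian_zpowers (by rw [pow_two]; exact involution_mul_self hyo))
      (fun v hv => mem_centralizer_iff.2 fun w hw => by
        obtain ⟨i, rfl⟩ := mem_zpowers_iff.1 hw
        exact ((show Commute y v from (mem_centralizer_iff.1 hyc v hv).symm).zpow_left i).eq), ?_,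
      sup_le (hb.le.trans hPM) (zpowers_le.2 (hPM hyP)), mem_sup_right (mem_zpowers y)⟩
    have := two_mul_card_le (le_sup_left : V ≤ V ⊔ zpowers y) (mem_sup_right (mem_zpowers y)) hyV
    have := hb.card
    omega
  by_cases hsc : s ∈ centralizer (V : Set G)
  · exact ⟨m, hcase s hm hso hsc⟩
  set S0 := (P : Subgroup G) ⊓ centralizer (V : Set G) with hS0
  obtain ⟨v, hv, hv1, hvz⟩ : ∃ v ∈ V, v ≠ 1 ∧ v ≠ z := by
    by_contra h
    push Not at h
    have hle : V ≤ zpowers z := fun a ha => by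
      by_cases ha1 : a = 1
      · rw [ha1]; exact one_mem _
      · rw [h a ha ha1]; exact mem_zpowers z
    have := card_le_of_le hle
    rw [hb.card, Nat.card_zpowers, hb.ord] at this
    omega
  have hmem4 : ∀ y ∈ V, y = 1 ∨ y = z ∨ y = v ∨ y = z * v := fun y hy =>
    eq_of_mem_four hb.elem hb.card.le hb.memV hv (involution_ne_one hb.ord) hv1 hvz hy
  have hiff : ∀ x ∈ (P : Subgroup G), x ∈ S0 ↔ x * v * x⁻¹ = v := by
    refine fun x hx => ⟨fun h => ?_, fun h => mem_inf.2 ⟨hx, mem_centralizer_iff.2 fun y hy => ?_⟩⟩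
    · rw [← mem_centralizer_iff.1 (mem_inf.1 h).2 v hv, mul_inv_cancel_right]
    · have hxv : Commute x v := mul_inv_eq_iff_eq_mul.1 h
      rcases hmem4 y hy with rfl | rfl | rfl | rfl
      · simp
      · exact (hb.comm x hx).symm
      · exact hxv.symm.eq
      · exact ((show Commute x z from hb.comm x hx).mul_right hxv).symm.eq
  have hact : ∀ x ∈ (P : Subgroup G), x * v * x⁻¹ = v ∨ x * v * x⁻¹ = z * v := by
    intro x hx
    rcases hmem4 _ ((mem_normalizer_iff.1 (hb.norm hx) v).1 hv) with e | e | e | e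
    · exact absurd (conj_eq_one_iff.1 e) hv1
    · refine absurd ?_ hvz
      calc v = x⁻¹ * (x * v * x⁻¹) * x := by group
        _ = x⁻¹ * (z * x) := by rw [e, mul_assoc]
        _ = z := by rw [← hb.comm x hx, inv_mul_cancel_left]
    · exact Or.inl e
    · exact Or.inr e
  have hsv : s * v * s⁻¹ = z * v := (hact s hm).resolve_left fun h =>
    hsc (mem_inf.1 ((hiff s hm).2 h)).2
  have hzv : z * v ≠ v := fun h => involution_ne_one hb.ord (mul_eq_right.1 h)
  have hrel : S0.relIndex (P : Subgroup G) = 2 := by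
    rw [relIndex, index_eq_two_iff]
    refine ⟨⟨s, hm⟩, fun x => ?_⟩
    simp only [mem_subgroupOf, Subgroup.coe_mul]
    rw [hiff _ (mul_mem x.2 hm), hiff _ x.2, xor_iff_iff_not]
    have e : (x : G) * s * v * ((x : G) * s)⁻¹ = z * ((x : G) * v * (x : G)⁻¹) := by
      calc (x : G) * s * v * ((x : G) * s)⁻¹ = (x : G) * (s * v * s⁻¹) * (x : G)⁻¹ := by group
        _ = (x : G) * z * v * (x : G)⁻¹ := by rw [hsv]; group
        _ = z * (x : G) * v * (x : G)⁻¹ := by rw [hb.comm _ x.2]
        _ = _ := by group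
    rw [e]
    rcases hact x x.2 with h | h <;> rw [h]
    · simp [hzv]
    · rw [← mul_assoc, involution_mul_self hb.ord, one_mul]
      simp [hzv]
  obtain ⟨g, hg⟩ : ∃ g : G, g * s * g⁻¹ ∈ S0 := by
    by_contra h
    push Not at h
    obtain ⟨M, hMn, hMi, -⟩ := TransferThompson.thompson_transfer P S0 inf_le_left hrel hso hm h
    haveI := hMn
    rcases eq_or_ne M ⊤ with e | e
    · rw [e, index_top] at hMi
      omega
    · rw [eq_bot_of_normal hG e, index_bot] at hMi
      haveI : IsCyclic G := isCyclic_of_prime_card hMi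
      exact not_solvable hG (Group.isSolvable_of_comm fun a b => IsCyclic.commGroup.mul_comm a b)
  refine ⟨g * m, ?_⟩
  rw [show g * m * t * (g * m)⁻¹ = g * s * g⁻¹ by rw [hs]; group]
  exact hcase _ (mem_inf.1 hg).1 (by rw [orderOf_conj, hso]) (mem_inf.1 hg).2

/-- Every involution of `M` is connected. -/
theorem conn_of_mem {t : G} (ht : orderOf t = 2) (htM : t ∈ mOf V) : Conn V t := by
  classical
  haveI := Fact.mk Nat.prime_two
  by_contra hnc
  have hPM := sylow_le_mOf hb
  set D := mOf V ⊓ centralizer ({t} : Set G) with hD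
  have htD : t ∈ D := mem_inf.2 ⟨htM, mem_centralizer_singleton_iff.2 rfl⟩
  obtain ⟨T0⟩ : Nonempty (Sylow 2 D) := inferInstance
  have htc : ∀ x ∈ D, x * t = t * x := fun x hx =>
    mem_centralizer_singleton_iff.1 (mem_inf.1 hx).2
  have htT0 : (⟨t, htD⟩ : D) ∈ (T0 : Subgroup D) := by
    have h2 : IsPGroup 2 (zpowers (⟨t, htD⟩ : D)) := IsPGroup.of_card (n := 1) (by
      rw [Nat.card_zpowers, Subgroup.orderOf_mk, ht, pow_one])
    refine (T0.3 (h2.to_sup_of_normal_right' T0.2 ?_) le_sup_right).le (mem_sup_left (mem_zpowers _))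
    exact zpowers_le.2 (centralizer_le_normalizer _
      (mem_centralizer_iff.2 fun w _ => Subtype.ext (htc _ w.2)))
  set T1 := (T0 : Subgroup D).map D.subtype with hT1
  have hT1M : T1 ≤ mOf V := (map_subtype_le _).trans inf_le_left
  -- `T1` lies in a conjugate of `P` by an element of `M`
  obtain ⟨m, hmM, hm⟩ : ∃ m ∈ mOf V, T1 ≤ cj m (P : Subgroup G) := by
    obtain ⟨S, hS⟩ := ((T0.2.map D.subtype).of_equiv (subgroupOfEquivOfLe hT1M).symm).exists_le_sylow
    obtain ⟨m, hm⟩ := MulAction.exists_smul_eq (mOf V) (P.subtype hPM) S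
    refine ⟨m, m.2, fun x hx => ?_⟩
    have h1 := hS (show (⟨x, hT1M hx⟩ : mOf V) ∈ T1.subgroupOf (mOf V) from hx)
    rw [← hm, Sylow.coe_subgroup_smul] at h1
    obtain ⟨y, hy, hyx⟩ := h1
    exact ⟨(y : G), mem_subgroupOf.1 hy, congrArg Subtype.val hyx⟩
  have htS : t ∈ cj m (P : Subgroup G) := hm ⟨_, htT0, rfl⟩
  set z' := m * z * m⁻¹ with hz'
  set V' := cj m V with hV'
  have hz'o : orderOf z' = 2 := by rw [hz', orderOf_conj, hb.ord]
  have hz'c : ∀ x ∈ cj m (P : Subgroup G), x * z' = z' * x := by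
    rintro _ ⟨x, hx, rfl⟩
    change m * x * m⁻¹ * z' = z' * (m * x * m⁻¹)
    rw [hz', show m * x * m⁻¹ * (m * z * m⁻¹) = m * (x * z) * m⁻¹ by group, hb.comm x hx]
    group
  have hV'M : V' ≤ mOf V := by
    rintro _ ⟨x, hx, rfl⟩
    exact mul_mem (mul_mem hmM (hPM (hb.le hx))) (inv_mem hmM)
  obtain ⟨E, hEP, hE, hE8, -⟩ := exists_big hG hp3 P
  obtain ⟨-, B0, -, -, -, hB0, hB08, hVB0, hB0le⟩ := extend_four hb.ord hb.memV hb.card hb.elem hE hE8
    (fun a ha => hb.comm a (hEP ha)) (hEP.trans hb.norm)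
  have hB0M : cj m B0 ≤ mOf V := by
    rintro _ ⟨x, hx, rfl⟩
    exact mul_mem (mul_mem hmM (hB0le.trans (sup_le (hb.le.trans hPM) (hEP.trans hPM)) hx))
      (inv_mem hmM)
  have hz'conn : Conn V z' :=
    ⟨cj m B0, isElementaryAbelian_cj hB0, by rwa [card_cj], hB0M, conj_mem_cj (hVB0 hb.memV)⟩
  have hz't : z' ≠ t := fun h => hnc (h ▸ hz'conn)
  have hz'D : z' ∈ D := mem_inf.2 ⟨hV'M (conj_mem_cj hb.memV),
    mem_centralizer_singleton_iff.2 (hz'c t htS).symm⟩
  -- `T1` has no elementary subgroup of order eight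
  have hne : NoEight T1 := by
    intro A hAT hA
    by_contra h8
    have hel := PGroupsBasic.isElementaryAbelian_sup hA
      (PGroupsBasic.isElementaryAbelian_zpowers (x := t) (by rw [pow_two]; exact involution_mul_self ht))
      fun a ha => mem_centralizer_iff.2 fun w hw => by
        obtain ⟨i, rfl⟩ := mem_zpowers_iff.1 hw
        exact ((show Commute t a from (htc a (map_subtype_le _ (hAT ha))).symm).zpow_left i).eq
    exact hnc ⟨A ⊔ zpowers t, hel, (not_lt.1 h8).trans (card_le_of_le le_sup_left),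
      sup_le (hAT.trans hT1M) (zpowers_le.2 htM), mem_sup_right (mem_zpowers t)⟩
  have hz'T1 : z' ∈ T1 := by
    have hzc : ∀ w : D, w ∈ (T0 : Subgroup D) → w * (⟨z', hz'D⟩ : D) = ⟨z', hz'D⟩ * w := fun w hw =>
      Subtype.ext (hz'c _ (hm ⟨w, hw, rfl⟩))
    have h2 : IsPGroup 2 (zpowers (⟨z', hz'D⟩ : D)) := IsPGroup.of_card (n := 1) (by
      rw [Nat.card_zpowers, Subgroup.orderOf_mk, hz'o, pow_one])
    refine ⟨⟨z', hz'D⟩, (T0.3 (h2.to_sup_of_normal_right' T0.2 ?_) le_sup_right).le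
      (mem_sup_left (mem_zpowers _)), rfl⟩
    refine zpowers_le.2 (centralizer_le_normalizer _ (mem_centralizer_iff.2 fun w hw => hzc w hw))
  -- a Sylow subgroup of `C(t)` is larger
  set C := centralizer ({t} : Set G) with hC
  obtain ⟨T2, hT2⟩ := ((T0.2.map D.subtype).of_equiv
    (subgroupOfEquivOfLe ((map_subtype_le _).trans inf_le_right : T1 ≤ C)).symm).exists_le_sylow
  set T3 := (T2 : Subgroup C).map C.subtype with hT3
  have hT13 : T1 ≤ T3 := fun x hx => ⟨⟨x, ((map_subtype_le _).trans inf_le_right : T1 ≤ C) hx⟩,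
    hT2 (show _ ∈ T1.subgroupOf C from hx), rfl⟩
  have hne13 : T1 ≠ T3 := by
    intro h
    obtain ⟨g, A, hA, hA8, -, hgt⟩ := exists_conn_conj hG hp3 hb hG' ht
    set A' := cj g⁻¹ A with hA'
    have htA' : t ∈ A' := by
      have := conj_mem_cj (g := g⁻¹) hgt
      simpa [mul_assoc] using this
    have hA'el := isElementaryAbelian_cj (g := g⁻¹) hA
    have hA'C : A' ≤ C := fun a ha =>
      mem_centralizer_singleton_iff.2 (PGroupsBasic.comm_of_isMulCommutative hA'el.1 ha htA')
    obtain ⟨T4, hT4⟩ := ((PGroupsBasic.isPGroup_of_isElementaryAbelian hA'el).of_equiv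
      (subgroupOfEquivOfLe hA'C).symm).exists_le_sylow
    obtain ⟨c, hc⟩ := MulAction.exists_smul_eq C T4 T2
    have hle : cj (c : G) A' ≤ T1 := by
      rw [h]
      rintro _ ⟨a, ha, rfl⟩
      refine ⟨c * ⟨a, hA'C ha⟩ * c⁻¹, ?_, rfl⟩
      rw [← hc, Sylow.coe_subgroup_smul]
      exact ⟨_, hT4 (mem_subgroupOf.2 ha), rfl⟩
    have := hne _ hle (isElementaryAbelian_cj hA'el)
    rw [card_cj, hA', card_cj] at this
    omega
  haveI : Group.IsNilpotent T3 := (T2.2.map C.subtype).isNilpotent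
  obtain ⟨n, hn, hnT⟩ := SetLike.exists_of_lt (Group.normalizerCondition_of_isNilpotent
    (T1.subgroupOf T3) (lt_top_iff_ne_top.2 fun h => hne13 (le_antisymm hT13 (subgroupOf_eq_top.1 h))))
  have hnorm : ∀ s ∈ T1, (n : G) * s * (n : G)⁻¹ ∈ T1 := fun s hs =>
    mem_subgroupOf.1 ((mem_normalizer_iff.1 hn ⟨s, hT13 hs⟩).1 (mem_subgroupOf.2 hs))
  have hnorm' : ∀ s ∈ T1, (n : G)⁻¹ * s * (n : G) ∈ T1 := fun s hs =>
    mem_subgroupOf.1 ((mem_normalizer_iff''.1 hn ⟨s, hT13 hs⟩).1 (mem_subgroupOf.2 hs))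
  have hnt : (n : G) * t = t * n := mem_centralizer_singleton_iff.1 (map_subtype_le _ n.2)
  -- `n` moves `z'`
  set y := (n : G) * z' * (n : G)⁻¹ with hy
  have hyT1 : y ∈ T1 := hnorm _ hz'T1
  have hT1t : ∀ s ∈ T1, s * t = t * s := fun s hs => htc s (map_subtype_le _ hs)
  have hyz : y * z' = z' * y := hz'c y (hm hyT1)
  have hyz' : y = t * z' := by
    rcases not_three hne ⟨_, htT0, rfl⟩ hz'T1 hyT1 ht hz'o (by rw [hy, orderOf_conj, hz'o])
      (hT1t z' hz'T1).symm (hT1t y hyT1).symm hyz.symm hz't with e | e | e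
    · exfalso
      refine hz't ?_
      calc z' = (n : G)⁻¹ * y * n := by rw [hy]; group
        _ = t := by
          rw [e]
          change (n : G)⁻¹ * t * n = t
          rw [mul_assoc, ← hnt, inv_mul_cancel_left]
    · exfalso
      have hnz : (n : G) ∈ centralizer ({z'} : Set G) :=
        mem_centralizer_singleton_iff.2 (mul_inv_eq_iff_eq_mul.1 e)
      have hnD : (n : G) ∈ D := mem_inf.2
        ⟨centralizer_le_mOf hG hp3 hb hG' hz'o hz'conn hnz, mem_centralizer_singleton_iff.2 hnt⟩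
      refine hnT (mem_subgroupOf.2 ⟨⟨n, hnD⟩, ?_, rfl⟩)
      refine (T0.3 (Q := zpowers (⟨(n : G), hnD⟩ : D) ⊔ (T0 : Subgroup D)) ?_ le_sup_right).le
        (mem_sup_left (mem_zpowers _))
      refine IsPGroup.to_sup_of_normal_right' ?_ T0.2 (zpowers_le.2 ?_)
      · obtain ⟨j, hj⟩ := IsPGroup.iff_orderOf.1 (T2.2.map C.subtype) n
        refine IsPGroup.of_card (n := j) ?_
        rw [Nat.card_zpowers, Subgroup.orderOf_mk, Subgroup.orderOf_coe, hj]
      · rw [mem_normalizer_iff]
        intro w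
        constructor
        · intro hw
          obtain ⟨w', hw', e'⟩ := hnorm _ (show (w : G) ∈ T1 from ⟨w, hw, rfl⟩)
          have : w' = ⟨(n : G), hnD⟩ * w * ⟨(n : G), hnD⟩⁻¹ := Subtype.ext e'
          exact this ▸ hw'
        · intro hw
          obtain ⟨w', hw', e'⟩ := hnorm' _ (show ((⟨(n : G), hnD⟩ * w * ⟨(n : G), hnD⟩⁻¹ : D) : G) ∈ T1
            from ⟨_, hw, rfl⟩)
          have : w' = w := Subtype.ext (e'.trans (by simp [mul_assoc]))
          exact this ▸ hw'
    · exact e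
  -- an element of `V'` moves `t`
  obtain ⟨v, hvV, hvt⟩ : ∃ v ∈ V', v * t ≠ t * v := by
    by_contra h
    push Not at h
    by_cases htV : t ∈ V'
    · exact hnc ⟨cj m B0, isElementaryAbelian_cj hB0, by rwa [card_cj], hB0M, cj_mono hVB0 htV⟩
    refine hnc ⟨V' ⊔ zpowers t, PGroupsBasic.isElementaryAbelian_sup (isElementaryAbelian_cj hb.elem)
      (PGroupsBasic.isElementaryAbelian_zpowers (by rw [pow_two]; exact involution_mul_self ht))
      (fun a ha => mem_centralizer_iff.2 fun w hw => by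
        obtain ⟨i, rfl⟩ := mem_zpowers_iff.1 hw
        exact ((show Commute t a from (h a ha).symm).zpow_left i).eq), ?_,
      sup_le hV'M (zpowers_le.2 htM), mem_sup_right (mem_zpowers t)⟩
    have := two_mul_card_le (le_sup_left : V' ≤ V' ⊔ zpowers t) (mem_sup_right (mem_zpowers t)) htV
    rw [hV', card_cj, hb.card] at this
    rw [hV']
    omega
  have htconj : t * v * t⁻¹ ∈ V' := by
    obtain ⟨s, hs, hst⟩ := htS
    obtain ⟨w, hw, rfl⟩ := hvV
    refine ⟨s * w * s⁻¹, (mem_normalizer_iff.1 (hb.norm hs) w).1 hw, ?_⟩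
    rw [← hst]
    simp [mul_assoc]
  have hv4 : Nat.card V' = 4 := by rw [hV', card_cj, hb.card]
  have hz'V : z' ∈ V' := conj_mem_cj hb.memV
  have hv1 : v ≠ 1 := fun h => hvt (by simp [h])
  have hvz : v ≠ z' := fun h => hvt (by rw [h, ← hz'c t htS])
  have hz'tc : Commute z' t := (hz'c t htS).symm
  have htv : v * t * v⁻¹ = z' * t := by
    rcases eq_of_mem_four (isElementaryAbelian_cj hb.elem) hv4.le hz'V hvV (involution_ne_one hz'o)
      hv1 hvz htconj with e | e | e | e
    · exact absurd (conj_eq_one_iff.1 e) hv1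
    · exact absurd (show v = z' by
        calc v = t⁻¹ * (t * v * t⁻¹) * t := by group
          _ = t⁻¹ * (z' * t) := by rw [e, mul_assoc]
          _ = z' := by rw [hz'tc.eq, inv_mul_cancel_left]) hvz
    · exact absurd (mul_inv_eq_iff_eq_mul.1 e).symm hvt
    · calc v * t * v⁻¹ = z' * (z' * v) * t * v⁻¹ := by
            rw [← mul_assoc z' z', involution_mul_self hz'o, one_mul]
        _ = z' * t := by rw [← e]; group
  -- an element of order three
  set g := v * (n : G) with hg
  have hgt : g * t * g⁻¹ = z' * t := by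
    rw [hg, show v * (n : G) * t * (v * (n : G))⁻¹ = v * ((n : G) * t * (n : G)⁻¹) * v⁻¹ by group,
      hnt, mul_inv_cancel_right, htv]
  have hvz' : v * z' * v⁻¹ = z' := by
    rw [PGroupsBasic.comm_of_isMulCommutative (isElementaryAbelian_cj hb.elem).1 hvV hz'V,
      mul_inv_cancel_right]
  have hgz : g * z' * g⁻¹ = t := by
    rw [hg, show v * (n : G) * z' * (v * (n : G))⁻¹ = v * y * v⁻¹ by rw [hy]; group, hyz',
      show v * (t * z') * v⁻¹ = (v * t * v⁻¹) * (v * z' * v⁻¹) by group, htv, hvz', hz'tc.eq,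
      mul_assoc, involution_mul_self hz'o, mul_one]
  have hg3 : g ^ 3 * t * (g ^ 3)⁻¹ = t := by
    calc g ^ 3 * t * (g ^ 3)⁻¹ = g * (g * (g * t * g⁻¹) * g⁻¹) * g⁻¹ := by
          simp [pow_succ, mul_assoc]
      _ = g * (g * (z' * t) * g⁻¹) * g⁻¹ := by rw [hgt]
      _ = g * ((g * z' * g⁻¹) * (g * t * g⁻¹)) * g⁻¹ := by group
      _ = g * (t * (z' * t)) * g⁻¹ := by rw [hgz, hgt]
      _ = t := by
        rw [hz'tc.eq, ← mul_assoc t t, involution_mul_self ht, one_mul, hgz]
  have hgX : g ∈ normalizer (pair t z' : Set G) := by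
    have hfw : ∀ w ∈ pair t z', g * w * g⁻¹ ∈ pair t z' := by
      intro w hw
      induction hw using closure_induction with
      | mem w hw =>
        rcases hw with rfl | rfl
        · rw [hgt]; exact mul_mem (right_mem_pair _ _) (left_mem_pair _ _)
        · rw [hgz]; exact left_mem_pair _ _
      | one => simp
      | mul a b _ _ ha hb => have := mul_mem ha hb; simpa [mul_assoc] using this
      | inv a _ ha => have := inv_mem ha; simpa [mul_assoc] using this
    exact Subgroup.mem_normalizer_fintype hfw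
  set a := (orderOf g).factorization 3 with ha
  have hg' : orderOf (g ^ (orderOf g / 3 ^ a)) = 3 ^ a := by
    rw [orderOf_pow_orderOf_div (orderOf_pos g).ne' (Nat.ordProj_dvd _ _)]
  have hc1 : Commute (g ^ (orderOf g / 3 ^ a)) t := commute_of_odd hG hp3
    (PGroupsBasic.isPGroup_of_isElementaryAbelian (isElementaryAbelian_pair (involution_mul_self ht)
      (involution_mul_self hz'o) hz'tc.symm.eq))
    Nat.prime_three (by norm_num) (by omega) hg' (pow_mem hgX _) (left_mem_pair t z')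
  have hc3 : Commute (g ^ 3) t := mul_inv_eq_iff_eq_mul.1 hg3
  have hcop : Nat.Coprime 3 (orderOf g / 3 ^ a) :=
    Nat.prime_three.coprime_iff_not_dvd.2 (Nat.not_dvd_ordCompl Nat.prime_three (orderOf_pos g).ne')
  have hgc : Commute g t := by
    have h := Nat.gcd_eq_gcd_ab 3 (orderOf g / 3 ^ a)
    rw [hcop.gcd_eq_one, Nat.cast_one] at h
    have hgg : g = (g ^ 3) ^ (Nat.gcdA 3 (orderOf g / 3 ^ a)) *
        (g ^ (orderOf g / 3 ^ a)) ^ (Nat.gcdB 3 (orderOf g / 3 ^ a)) := by
      rw [← zpow_natCast g 3, ← zpow_natCast g (orderOf g / 3 ^ a), ← zpow_mul, ← zpow_mul,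
        ← zpow_add, ← h, zpow_one]
    rw [hgg]
    exact (hc3.zpow_left _).mul_left (hc1.zpow_left _)
  rw [hgc.eq, mul_inv_cancel_right] at hgt
  exact involution_ne_one hz'o (mul_eq_right.1 hgt.symm)

/-- The dichotomy. -/
theorem stronglyEmbedded_or_th_eq_bot :
    (∃ M : Subgroup G, Cfsg.IsStronglyEmbedded M) ∨ ∀ t : G, orderOf t = 2 → th t = ⊥ := by
  haveI := Fact.mk Nat.prime_two
  by_cases hW : span V = ⊥
  · refine Or.inr fun t ht => ?_
    have htM : t ∈ mOf V := by
      rw [mOf, hW, normalizer_eq_top_iff.2 inferInstance]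
      trivial
    exact le_bot_iff.1 ((th_le hb hG' ht (conn_of_mem hG hp3 hb hG' ht htM)).trans hW.le)
  left
  have hPM := sylow_le_mOf hb
  obtain ⟨E, hEP, hE, hE8, -⟩ := exists_big hG hp3 P
  refine ⟨mOf V, SignalizerStrongEmb.isStronglyEmbedded_iff.2 ⟨?_, ?_, fun t htM ht g hg => ?_⟩⟩
  · refine normalizer_ne_top hG hW fun h => ?_
    have h1 := (span_spec hG' hE hE8).1
    rw [span_eight hb hG' hE hE8 hEP, h, card_top] at h1
    exact h1 (even_card hG)
  · exact SignalizerStrongEmb.even_card_of_involution_mem hb.ord (hPM (hb.le hb.memV))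
  · obtain ⟨A, hA, hA8, hAM, htA⟩ := conn_of_mem hG hp3 hb hG' ht htM
    have hso : orderOf (g * t * g⁻¹) = 2 := by rw [orderOf_conj, ht]
    have hle : cj g A ≤ mOf V := fun a ha =>
      centralizer_le_mOf hG hp3 hb hG' hso (conn_of_mem hG hp3 hb hG' hso hg)
        (mem_centralizer_singleton_iff.2 (PGroupsBasic.comm_of_isMulCommutative
          (isElementaryAbelian_cj hA).1 ha (conj_mem_cj htA)))
    exact mem_mOf hb hG' (le_trans (by norm_num) hA8) hA hA8 hAM le_rfl (isElementaryAbelian_cj hA)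
      (by rwa [card_cj]) hle le_rfl

end Cfsg.Agent.PPrimeNilp30
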