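import Mathlib
import Cfsg.Prelude.Def_LocalEven
import Cfsg.Agent.Lib.QuadOffenderS4
import Cfsg.Agent.S2759

/-!
An element inverting an element of odd order on an elementary abelian `2`-group: if its commutators
are too few, a four-group with the action of `S₃` appears, and `S₄` is involved.
-/

set_option autoImplicit false

open Subgroup

namespace Cfsg.Agent.SolvableS4Action

universe u

variable {G : Type u} [Group G]

theorem conj_conj (g h x : G) : g * (h * x * h⁻¹) * g⁻¹ = g * h * x * (g * h)⁻¹ := by group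

/-- A four-group on which some elements of its normaliser induce `S₃`. -/
theorem involves_of_four [Finite G] (U : Subgroup G) (hU : IsPGroup 2 U) (h4 : Nat.card U = 4)
    {a y : G} (ha : a ∈ normalizer (U : Set G)) (hy : y ∈ normalizer (U : Set G))
    (ha2 : a * a ∈ centralizer (U : Set G))
    (hfix : ∀ u ∈ U, y * u * y⁻¹ = u → u = 1) (hmove : a ∉ centralizer (U : Set G)) :
    Cfsg.Involves (Equiv.Perm (Fin 4)) G := by
  classical
  refine S2759.result.mpr ⟨U, hU, ?_⟩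
  set N := normalizer (U : Set G)
  set X := {u : U // u ≠ 1}
  haveI : Fintype X := Fintype.ofFinite X
  haveI : Fintype U := Fintype.ofFinite U
  have hX : Fintype.card X = 3 := by
    rw [Fintype.card_subtype_compl, Fintype.card_subtype_eq, ← Nat.card_eq_fintype_card, h4]
  have hmem : ∀ (n : N) (x : X), (n : G) * (x.1 : G) * (n : G)⁻¹ ∈ U := fun n x =>
    (mem_normalizer_iff.mp n.2 _).mp x.1.2
  letI : MulAction N X :=
    { smul := fun n x => ⟨⟨_, hmem n x⟩, fun h => x.2 (Subtype.ext (by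
        have h1 : (n : G) * (x.1 : G) * (n : G)⁻¹ = 1 := congrArg Subtype.val h
        exact conj_eq_one_iff.mp h1))⟩
      one_smul := fun x => Subtype.ext (Subtype.ext (show (1 : G) * (x.1 : G) * (1 : G)⁻¹ = x.1 by group))
      mul_smul := fun m n x => Subtype.ext (Subtype.ext (conj_conj _ _ _).symm) }
  have hsmul : ∀ (n : N) (x : X), ((n • x).1 : G) = (n : G) * (x.1 : G) * (n : G)⁻¹ := fun _ _ => rfl
  let φ : N →* Equiv.Perm X := MulAction.toPermHom N X
  have hker : φ.ker = (centralizer (U : Set G)).subgroupOf N := by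
    ext n
    rw [MonoidHom.mem_ker, mem_subgroupOf, mem_centralizer_iff]
    constructor
    · intro h u hu
      by_cases hu1 : u = 1
      · rw [hu1, one_mul, mul_one]
      have h1 := congrArg (fun z : X => (z.1 : G))
        (Equiv.Perm.ext_iff.mp h ⟨⟨u, hu⟩, fun e => hu1 (congrArg Subtype.val e)⟩)
      change (n : G) * u * (n : G)⁻¹ = u at h1
      exact (mul_inv_eq_iff_eq_mul.mp h1).symm
    · intro h
      refine Equiv.Perm.ext fun x => Subtype.ext (Subtype.ext ?_)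
      show (n : G) * (x.1 : G) * (n : G)⁻¹ = x.1
      rw [← h _ x.1.2, mul_inv_cancel_right]
  have hτne : φ ⟨a, ha⟩ ≠ 1 := fun h => hmove (mem_subgroupOf.mp
    (hker ▸ MonoidHom.mem_ker.mpr h : (⟨a, ha⟩ : N) ∈ (centralizer (U : Set G)).subgroupOf N))
  have hτ2 : φ ⟨a, ha⟩ ^ 2 = 1 := by
    rw [pow_two, ← map_mul, ← MonoidHom.mem_ker, hker, mem_subgroupOf]
    exact ha2
  have hτo : orderOf (φ ⟨a, ha⟩) = 2 := orderOf_eq_prime hτ2 hτne
  have hσf : ∀ x : X, φ ⟨y, hy⟩ x ≠ x := fun x h => x.2 (Subtype.ext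
    (hfix _ x.1.2 (congrArg (fun z : X => (z.1 : G)) h)))
  have hσo : orderOf (φ ⟨y, hy⟩) = 3 := by
    haveI : Fact (Nat.Prime 3) := ⟨Nat.prime_three⟩
    set e := Fintype.equivFinOfCardEq hX
    set σ := e.permCongrHom (φ ⟨y, hy⟩) with hσdef
    have key : ∀ τ : Equiv.Perm (Fin 3), (∀ i, τ i ≠ i) → τ ^ 3 = 1 := by decide
    have hσ3 : σ ^ 3 = 1 := key σ fun i h => hσf (e.symm i) (e.injective (by
      simpa [hσdef] using h))
    refine orderOf_eq_prime ?_ fun h => hσf (e.symm 0) (by rw [h]; rfl)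
    exact e.permCongrHom.injective (by rw [map_pow, map_one]; exact hσ3)
  have hsurj : Function.Surjective φ := by
    rw [← MonoidHom.range_eq_top]
    refine eq_top_of_card_eq _ (Nat.le_antisymm (card_le_card_group _) ?_)
    have h2 : 2 ∣ Nat.card φ.range := hτo ▸ Subgroup.orderOf_dvd_natCard _ ⟨_, rfl⟩
    have h3 : 3 ∣ Nat.card φ.range := hσo ▸ Subgroup.orderOf_dvd_natCard _ ⟨_, rfl⟩
    have h6 : Nat.card (Equiv.Perm X) = 6 := by
      rw [Nat.card_eq_fintype_card, Fintype.card_perm, hX]; rfl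
    rw [h6]
    exact Nat.le_of_dvd Nat.card_pos
      (Nat.Coprime.mul_dvd_of_dvd_of_dvd (by norm_num : Nat.Coprime 2 3) h2 h3)
  let ψ : N →* Equiv.Perm (Fin 3) :=
    ((Fintype.equivFinOfCardEq hX).permCongrHom : Equiv.Perm X →* Equiv.Perm (Fin 3)).comp φ
  have hψs : Function.Surjective ψ :=
    (Fintype.equivFinOfCardEq hX).permCongrHom.surjective.comp hsurj
  have hψk : (centralizer (U : Set G)).subgroupOf N ≤ ψ.ker := by
    intro n hn
    rw [MonoidHom.mem_ker]
    show (Fintype.equivFinOfCardEq hX).permCongrHom (φ n) = 1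
    rw [MonoidHom.mem_ker.mp (hker ▸ hn : n ∈ φ.ker), map_one]
  haveI : (φ.ker).Normal := inferInstance
  haveI : ((centralizer (U : Set G)).subgroupOf N).Normal := hker ▸ inferInstance
  refine QuadOffenderS4.involves_of_surjective' (K := (⊤ : Subgroup (N ⧸ (centralizer (U : Set G)).subgroupOf N)))
    ((QuotientGroup.lift _ ψ hψk).comp (⊤ : Subgroup _).subtype) fun p => ?_
  obtain ⟨n, rfl⟩ := hψs p
  exact ⟨⟨QuotientGroup.mk n, mem_top _⟩, rfl⟩

variable {W : Subgroup G}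

/-- The map `x ↦ (y x y⁻¹) x` on an elementary abelian group normalised by `y`. -/
def phi (hWc : ∀ x ∈ W, ∀ z ∈ W, x * z = z * x) (y : G) (hy : y ∈ normalizer (W : Set G)) : W →* W where
  toFun x := ⟨y * x * y⁻¹, (mem_normalizer_iff.mp hy _).mp x.2⟩ * x
  map_one' := Subtype.ext (by simp)
  map_mul' x z := Subtype.ext (by
    have h := hWc _ ((mem_normalizer_iff.mp hy _).mp z.2) _ x.2
    simp only [Subgroup.coe_mul]
    calc y * ((x : G) * z) * y⁻¹ * ((x : G) * z) = y * x * y⁻¹ * (y * z * y⁻¹ * x) * z := by group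
      _ = y * x * y⁻¹ * ((x : G) * (y * z * y⁻¹)) * z := by rw [h]
      _ = _ := by group)

/-- `[W, y]` as a subgroup of `G`. -/
def comm (hWc : ∀ x ∈ W, ∀ z ∈ W, x * z = z * x) (y : G) (hy : y ∈ normalizer (W : Set G)) : Subgroup G :=
  (phi hWc y hy).range.map W.subtype

theorem mem_comm {hWc : ∀ x ∈ W, ∀ z ∈ W, x * z = z * x} {y : G} {hy : y ∈ normalizer (W : Set G)} {v : G} :
    v ∈ comm hWc y hy ↔ ∃ x ∈ W, y * x * y⁻¹ * x = v := by
  constructor
  · rintro ⟨_, ⟨x, rfl⟩, rfl⟩; exact ⟨x, x.2, rfl⟩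
  · rintro ⟨x, hx, rfl⟩; exact ⟨_, ⟨⟨x, hx⟩, rfl⟩, rfl⟩

theorem comm_le {hWc : ∀ x ∈ W, ∀ z ∈ W, x * z = z * x} {y : G} {hy : y ∈ normalizer (W : Set G)} :
    comm hWc y hy ≤ W := map_subtype_le _

/-- Elements of odd order fix no nonidentity element of `[W, y]`. -/
theorem eq_one_of_fixed (hW2 : ∀ x ∈ W, x * x = 1) (hWc : ∀ x ∈ W, ∀ z ∈ W, x * z = z * x) {y : G}
    (hy : y ∈ normalizer (W : Set G)) (hodd : Odd (orderOf y)) {v : G}
    (hv : v ∈ comm hWc y hy) (hfix : y * v * y⁻¹ = v) : v = 1 := by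
  classical
  letI : CommGroup W := { (inferInstance : Group W) with
    mul_comm := fun a b => Subtype.ext (hWc _ a.2 _ b.2) }
  obtain ⟨x, hx, hxv⟩ := mem_comm.mp hv
  have hmem : ∀ (i : ℕ) (z : G), z ∈ W → y ^ i * z * (y ^ i)⁻¹ ∈ W := fun i z hz =>
    (mem_normalizer_iff.mp (pow_mem hy i) _).mp hz
  set n := orderOf y with hn
  let f : ℕ → W := fun i => ⟨_, hmem i x hx⟩
  have hv1 : ∀ i, f (i + 1) * f i = ⟨v, comm_le hv⟩ := by
    intro i
    refine Subtype.ext ?_
    show y ^ (i + 1) * x * (y ^ (i + 1))⁻¹ * (y ^ i * x * (y ^ i)⁻¹) = v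
    have h1 : y ^ i * v * (y ^ i)⁻¹ = v := by
      induction i with
      | zero => simp
      | succ i ih => rw [pow_succ, ← conj_conj, hfix, ih]
    conv_rhs => rw [← h1, ← hxv]
    rw [pow_succ]; group
  have h2 : ∏ i ∈ Finset.range n, f (i + 1) = ∏ i ∈ Finset.range n, f i := by
    have h := Finset.prod_range_succ f n
    have hfn : f n = f 0 := Subtype.ext (by
      show y ^ n * x * (y ^ n)⁻¹ = y ^ 0 * x * (y ^ 0)⁻¹
      rw [pow_orderOf_eq_one, pow_zero])
    rw [Finset.prod_range_succ' f n, hfn, mul_left_inj] at h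
    exact h
  have h3 : ∏ i ∈ Finset.range n, (f (i + 1) * f i) = (⟨v, comm_le hv⟩ : W) ^ n := by
    rw [Finset.prod_congr rfl fun i _ => hv1 i, Finset.prod_const, Finset.card_range]
  have h4 : ((⟨v, comm_le hv⟩ : W) ^ n) = 1 := by
    rw [← h3, Finset.prod_mul_distrib, h2]
    exact Subtype.ext (hW2 _ (SetLike.coe_mem _))
  obtain ⟨k, hk⟩ := hodd
  have h5 : v ^ n = 1 := congrArg Subtype.val h4
  rw [hk, pow_succ, pow_mul, pow_two, hW2 v (comm_le hv), one_pow, one_mul] at h5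
  exact h5

/-- The data of an element inverting an element of odd order on `W`. -/
structure Inverts (W : Subgroup G) (a y : G) : Prop where
  elem : ∀ x ∈ W, x * x = 1
  comm : ∀ x ∈ W, ∀ z ∈ W, x * z = z * x
  na : a ∈ normalizer (W : Set G)
  ny : y ∈ normalizer (W : Set G)
  sq : a * a ∈ centralizer (W : Set G)
  inv : a * y * a⁻¹ * y ∈ centralizer (W : Set G)
  odd : Odd (orderOf y)
  moved : y ∉ centralizer (W : Set G)

variable {a y : G}

theorem Inverts.conj_mem_of_centralizer (h : Inverts W a y) {c : G} (hc : c ∈ centralizer (W : Set G))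
    {x : G} (hx : x ∈ W) : c * x * c⁻¹ = x := by
  have := mem_centralizer_iff.mp hc x hx
  rw [← this, mul_inv_cancel_right]

theorem Inverts.a_a (h : Inverts W a y) {x : G} (hx : x ∈ W) : a * (a * x * a⁻¹) * a⁻¹ = x := by
  rw [conj_conj]; exact h.conj_mem_of_centralizer h.sq hx

theorem Inverts.conjA (h : Inverts W a y) {x : G} (hx : x ∈ W) : a * x * a⁻¹ ∈ W :=
  (mem_normalizer_iff.mp h.na _).mp hx

theorem Inverts.conjY (h : Inverts W a y) {x : G} (hx : x ∈ W) : y * x * y⁻¹ ∈ W :=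
  (mem_normalizer_iff.mp h.ny _).mp hx

theorem Inverts.conjY' (h : Inverts W a y) {x : G} (hx : x ∈ W) : y⁻¹ * x * y⁻¹⁻¹ ∈ W :=
  (mem_normalizer_iff.mp (inv_mem h.ny) _).mp hx

theorem Inverts.a_y (h : Inverts W a y) {x : G} (hx : x ∈ W) :
    a * (y * x * y⁻¹) * a⁻¹ = y⁻¹ * (a * x * a⁻¹) * y⁻¹⁻¹ := by
  have hz := h.conjA hx
  have h1 := h.conj_mem_of_centralizer h.inv (h.conjY' hz)
  conv_rhs => rw [← h1]
  group

theorem Inverts.comm_a (h : Inverts W a y) {v : G} (hv : v ∈ SolvableS4Action.comm h.comm y h.ny) :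
    a * v * a⁻¹ ∈ SolvableS4Action.comm h.comm y h.ny := by
  obtain ⟨x, hx, rfl⟩ := mem_comm.mp hv
  have hz := h.conjA hx
  refine mem_comm.mpr ⟨y⁻¹ * (a * x * a⁻¹) * y⁻¹⁻¹, h.conjY' hz, ?_⟩
  have e : a * (y * x * y⁻¹ * x) * a⁻¹ = a * (y * x * y⁻¹) * a⁻¹ * (a * x * a⁻¹) := by group
  rw [e, h.a_y hx, h.comm _ (h.conjY' hz) _ hz]
  group

/-- `[W, y]` is not centralised by an inverting element. -/
theorem Inverts.exists_moved (h : Inverts W a y) :
    ∃ v ∈ SolvableS4Action.comm h.comm y h.ny, a * v * a⁻¹ ≠ v := by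
  by_contra hcon
  push Not at hcon
  refine h.moved (mem_centralizer_iff.mpr fun x hx => ?_)
  set v := y * x * y⁻¹ * x with hv
  have hvC : v ∈ SolvableS4Action.comm h.comm y h.ny := mem_comm.mpr ⟨x, hx, rfl⟩
  have hvW : v ∈ W := comm_le hvC
  have hw : y * v * y⁻¹ ∈ SolvableS4Action.comm h.comm y h.ny := by
    refine mem_comm.mpr ⟨y * x * y⁻¹, h.conjY hx, ?_⟩
    rw [hv]; group
  have h1 := h.a_y hvW
  rw [hcon _ hvC, hcon _ hw] at h1
  -- `y²` fixes `v`
  have h2 : y * y * v * (y * y)⁻¹ = v := by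
    calc y * y * v * (y * y)⁻¹ = y * (y * v * y⁻¹) * y⁻¹ := by group
      _ = y * (y⁻¹ * v * y⁻¹⁻¹) * y⁻¹ := by rw [h1]
      _ = v := by group
  have h3 : y * v * y⁻¹ = v := by
    obtain ⟨k, hk⟩ := h.odd
    have hpow : ∀ m : ℕ, (y * y) ^ m * v * ((y * y) ^ m)⁻¹ = v := by
      intro m
      induction m with
      | zero => simp
      | succ m ih => rw [pow_succ, ← conj_conj, h2, ih]
    have h4 := hpow (k + 1)
    rwa [← pow_two, ← pow_mul, show 2 * (k + 1) = orderOf y + 1 by omega, pow_succ,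
      pow_orderOf_eq_one, one_mul] at h4
  have h5 := eq_one_of_fixed h.elem h.comm h.ny h.odd hvC h3
  rw [hv, mul_eq_one_iff_eq_inv, inv_eq_of_mul_eq_one_right (h.elem x hx)] at h5
  exact (mul_inv_eq_iff_eq_mul.mp h5).symm

/-- A nonidentity element of `[W,y]` fixed by `a` whose translates under `y` close up to a four-group. -/
theorem Inverts.involves [Finite G] (h : Inverts W a y) {u : G}
    (hu : u ∈ SolvableS4Action.comm h.comm y h.ny) (hu1 : u ≠ 1) (hau : a * u * a⁻¹ = u)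
    (hclose : y⁻¹ * u * y⁻¹⁻¹ = y * u * y⁻¹ * u) : Cfsg.Involves (Equiv.Perm (Fin 4)) G := by
  set u1 := y * u * y⁻¹ with hu1def
  have huW := comm_le hu
  have hu1W : u1 ∈ W := h.conjY huW
  have hne : u1 ≠ u := fun e => hu1 (eq_one_of_fixed h.elem h.comm h.ny h.odd hu e)
  have h11 : u1 ≠ 1 := fun e => hu1 (conj_eq_one_iff.mp e)
  have hyu1 : y * u1 * y⁻¹ = u * u1 := by
    have h1 : y * (y⁻¹ * u * y⁻¹⁻¹) * y⁻¹ = y * (u1 * u) * y⁻¹ := by rw [hclose]
    have h2 : u = y * u1 * y⁻¹ * u1 := by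
      calc u = y * (y⁻¹ * u * y⁻¹⁻¹) * y⁻¹ := by group
        _ = y * (u1 * u) * y⁻¹ := h1
        _ = _ := by rw [hu1def]; group
    have h3 : u1 * u1 = 1 := h.elem _ hu1W
    calc y * u1 * y⁻¹ = y * u1 * y⁻¹ * (u1 * u1) := by rw [h3, mul_one]
      _ = y * u1 * y⁻¹ * u1 * u1 := by group
      _ = u * u1 := by rw [← h2]
  have hau1 : a * u1 * a⁻¹ = u * u1 := by
    rw [hu1def, h.a_y huW, hau, hclose, h.comm _ hu1W _ huW]
  have huu : u * u = 1 := h.elem _ huW
  have h1u : u1 * u1 = 1 := h.elem _ hu1W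
  have hc : u1 * u = u * u1 := h.comm _ hu1W _ huW
  have hne' : u * u1 ≠ 1 := fun e => hne (by
    calc u1 = u * u * u1 := by rw [huu, one_mul]
      _ = u := by rw [mul_assoc, e, mul_one])
  have hcl : ∀ p ∈ ({1, u, u1, u * u1} : Set G), ∀ q ∈ ({1, u, u1, u * u1} : Set G),
      p * q ∈ ({1, u, u1, u * u1} : Set G) := by
    simp only [Set.mem_insert_iff, Set.mem_singleton_iff]
    have e1 : u * (u * u1) = u1 := by rw [← mul_assoc, huu, one_mul]
    have e2 : u1 * (u * u1) = u := by rw [← mul_assoc, hc, mul_assoc, h1u, mul_one]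
    have e3 : u * u1 * u = u1 := by rw [mul_assoc, hc, e1]
    have e4 : u * u1 * u1 = u := by rw [mul_assoc, h1u, mul_one]
    have e5 : u * u1 * (u * u1) = 1 := by rw [mul_assoc, e2, huu]
    rintro p (rfl | rfl | rfl | rfl) q (rfl | rfl | rfl | rfl) <;>
      simp [huu, h1u, hc, e1, e2, e3, e4, e5]
  let U : Subgroup G :=
    { carrier := ({1, u, u1, u * u1} : Set G)
      one_mem' := Set.mem_insert _ _
      mul_mem' := fun {p q} hp hq => hcl p hp q hq
      inv_mem' := fun {p} hp => by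
        have hp2 : p * p = 1 := by
          rcases hp with rfl | rfl | rfl | rfl
          · simp
          · exact huu
          · exact h1u
          · exact h.elem _ (W.mul_mem huW hu1W)
        rwa [inv_eq_of_mul_eq_one_right hp2] }
  have hUmem : ∀ p, p ∈ U ↔ p = 1 ∨ p = u ∨ p = u1 ∨ p = u * u1 := fun p => Iff.rfl
  have hUW : U ≤ W := by
    intro p hp
    rcases hp with rfl | rfl | rfl | rfl
    · exact one_mem _
    · exact huW
    · exact hu1W
    · exact W.mul_mem huW hu1W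
  have h4 : Nat.card U = 4 := by
    show Nat.card ({1, u, u1, u * u1} : Set G) = 4
    have a3 : u * u1 ≠ u := fun e => h11 (mul_eq_left.mp e)
    have a4 : u * u1 ≠ u1 := fun e => hu1 (mul_eq_right.mp e)
    rw [Nat.card_coe_set_eq, Set.ncard_insert_of_notMem (by simp [hu1.symm, h11.symm, hne'.symm]),
      Set.ncard_insert_of_notMem (by simp [hne.symm, a3.symm]),
      Set.ncard_insert_of_notMem (by simp [a4.symm]), Set.ncard_singleton]
  have hnorm : ∀ g : G, g * u * g⁻¹ ∈ U → g * u1 * g⁻¹ ∈ U → g ∈ normalizer (U : Set G) := by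
    intro g g1 g2
    refine mem_normalizer_fintype fun p hp => ?_
    rcases hp with rfl | rfl | rfl | rfl
    · simp
    · exact g1
    · exact g2
    · rw [show g * (u * u1) * g⁻¹ = g * u * g⁻¹ * (g * u1 * g⁻¹) by group]
      exact U.mul_mem g1 g2
  refine involves_of_four U (IsPGroup.of_card (n := 2) (by rw [h4]; rfl)) h4
    (hnorm a (by rw [hau]; exact (hUmem _).mpr (by simp)) (by rw [hau1]; exact (hUmem _).mpr (by simp)))
    (hnorm y ((hUmem _).mpr (by simp [hu1def])) (by rw [hyu1]; exact (hUmem _).mpr (by simp)))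
    (mem_centralizer_iff.mpr fun p hp => mem_centralizer_iff.mp h.sq p (hUW hp)) ?_ ?_
  · intro p hp hfixp
    rcases hp with rfl | rfl | rfl | rfl
    · rfl
    · exact absurd hfixp hne
    · rw [hyu1] at hfixp
      exact absurd (mul_eq_right.mp hfixp) hu1
    · rw [show y * (u * u1) * y⁻¹ = y * u * y⁻¹ * (y * u1 * y⁻¹) by group, hyu1, ← hu1def,
        ← mul_assoc, hc, mul_assoc, h1u, mul_one] at hfixp
      exact absurd (mul_eq_left.mp hfixp.symm) h11
  · intro hcen
    have := mem_centralizer_iff.mp hcen u1 ((hUmem _).mpr (by simp))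
    rw [← this, mul_inv_cancel_right] at hau1
    exact hu1 (mul_eq_right.mp hau1.symm)

/-- Too few commutators with an inverting element. -/
theorem Inverts.involves_of_few [Finite G] (h : Inverts W a y)
    (hfew : ∀ v ∈ SolvableS4Action.comm h.comm y h.ny, ∀ w ∈ SolvableS4Action.comm h.comm y h.ny,
      a * v * a⁻¹ * v ≠ 1 → a * w * a⁻¹ * w ≠ 1 →
      y * (a * v * a⁻¹ * v * (a * w * a⁻¹ * w)) * y⁻¹ = a * v * a⁻¹ * v * (a * w * a⁻¹ * w)) :
    Cfsg.Involves (Equiv.Perm (Fin 4)) G := by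
  obtain ⟨v0, hv0, hv0a⟩ := h.exists_moved
  set C := SolvableS4Action.comm h.comm y h.ny with hC
  have hv0W := comm_le hv0
  set u := a * v0 * a⁻¹ * v0 with hudef
  have huC : u ∈ C := C.mul_mem (h.comm_a hv0) hv0
  have hu1 : u ≠ 1 := fun e => hv0a (by
    rw [hudef, mul_eq_one_iff_eq_inv, inv_eq_of_mul_eq_one_right (h.elem v0 hv0W)] at e
    exact e)
  have hau : a * u * a⁻¹ = u := by
    rw [hudef, show a * (a * v0 * a⁻¹ * v0) * a⁻¹ = a * (a * v0 * a⁻¹) * a⁻¹ * (a * v0 * a⁻¹) by group,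
      h.a_a hv0W, h.comm _ hv0W _ (h.conjA hv0W)]
  have huW := comm_le huC
  -- the commutator of `y u y⁻¹` with `a`
  set u1 := y * u * y⁻¹ with hu1def
  have hu1W : u1 ∈ W := h.conjY huW
  have hu1C : u1 ∈ C := by
    obtain ⟨x, hx, hxu⟩ := mem_comm.mp huC
    exact mem_comm.mpr ⟨y * x * y⁻¹, h.conjY hx, by rw [hu1def, ← hxu]; group⟩
  set w := a * u1 * a⁻¹ * u1 with hwdef
  have hwC : w ∈ C := C.mul_mem (h.comm_a hu1C) hu1C
  have hw1 : w ≠ 1 := by
    intro e
    rw [hwdef, hu1def, h.a_y huW, hau, mul_eq_one_iff_eq_inv,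
      inv_eq_of_mul_eq_one_right (h.elem _ (h.conjY huW))] at e
    have h2 : y * y * u * (y * y)⁻¹ = u := by
      calc y * y * u * (y * y)⁻¹ = y * (y * u * y⁻¹) * y⁻¹ := by group
        _ = y * (y⁻¹ * u * y⁻¹⁻¹) * y⁻¹ := by rw [e]
        _ = u := by group
    obtain ⟨k, hk⟩ := h.odd
    have hpow : ∀ m : ℕ, (y * y) ^ m * u * ((y * y) ^ m)⁻¹ = u := by
      intro m
      induction m with
      | zero => simp
      | succ m ih => rw [pow_succ, ← conj_conj, h2, ih]
    have h4 := hpow (k + 1)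
    rw [← pow_two, ← pow_mul, show 2 * (k + 1) = orderOf y + 1 by omega, pow_succ,
      pow_orderOf_eq_one, one_mul] at h4
    exact hu1 (eq_one_of_fixed h.elem h.comm h.ny h.odd huC h4)
  have huw : u * w = 1 := by
    refine eq_one_of_fixed h.elem h.comm h.ny h.odd (C.mul_mem huC hwC) ?_
    exact hfew v0 hv0 u1 hu1C hu1 hw1
  have hwu : w = u := by
    rw [mul_eq_one_iff_eq_inv'] at huw
    rw [huw, inv_eq_of_mul_eq_one_right (h.elem u huW)]
  refine h.involves huC hu1 hau ?_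
  have e1 : a * u1 * a⁻¹ = y⁻¹ * u * y⁻¹⁻¹ := by rw [hu1def, h.a_y huW, hau]
  rw [← e1, ← hu1def]
  calc a * u1 * a⁻¹ = w * u1 := by rw [hwdef, mul_assoc (a * u1 * a⁻¹), h.elem u1 hu1W, mul_one]
    _ = u1 * u := by rw [hwu, h.comm _ huW _ hu1W]

/-- A transvection inverting an element of odd order. -/
theorem Inverts.involves_of_index [Finite G] (h : Inverts W a y)
    (hidx : Nat.card W ≤ 2 * Nat.card (W ⊓ centralizer ({a} : Set G) : Subgroup G)) :
    Cfsg.Involves (Equiv.Perm (Fin 4)) G := by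
  classical
  refine h.involves_of_few fun v hv' w hw' hv1 hw1 => ?_
  have hv := comm_le hv'
  have hw := comm_le hw'
  let K : Subgroup W := (centralizer ({a} : Set G)).subgroupOf W
  have hKc : Nat.card K = Nat.card (W ⊓ centralizer ({a} : Set G) : Subgroup G) := by
    rw [← card_map_of_injective W.subtype_injective, subgroupOf_map_subtype, inf_comm]
  have hi : K.index ≤ 2 := by
    have h1 := K.card_mul_index
    have h2 : Nat.card K * K.index ≤ Nat.card K * 2 := by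
      rw [h1, mul_comm (Nat.card K) 2, hKc]; exact hidx
    exact Nat.le_of_mul_le_mul_left h2 Nat.card_pos
  have hmemK : ∀ x : W, x ∈ K ↔ a * (x : G) * a⁻¹ = x := fun x => by
    rw [mem_subgroupOf, mem_centralizer_singleton_iff]
    exact ⟨fun e => by rw [e.symm, mul_inv_cancel_right], fun e => (mul_inv_eq_iff_eq_mul.mp e).symm⟩
  have hne : ∀ x (hx : x ∈ W), a * x * a⁻¹ * x ≠ 1 → (⟨x, hx⟩ : W) ∉ K := fun x hx e hk => e (by
    rw [(hmemK _).mp hk]; exact h.elem x hx)
  have hvw : (⟨v, hv⟩ : W) * ⟨w, hw⟩ ∈ K := by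
    have hi2 : K.index = 2 := by
      have h0 : K.index ≠ 0 := index_ne_zero_of_finite
      have h1 : K.index ≠ 1 := fun e => hne v hv hv1 (index_eq_one.mp e ▸ mem_top _)
      omega
    rw [mul_mem_iff_of_index_two hi2]
    exact ⟨fun e => absurd e (hne v hv hv1), fun e => absurd e (hne w hw hw1)⟩
  have e : a * v * a⁻¹ * v * (a * w * a⁻¹ * w) = 1 := by
    have h3 : a * (v * w) * a⁻¹ = v * w := (hmemK _).mp hvw
    calc a * v * a⁻¹ * v * (a * w * a⁻¹ * w) = a * v * a⁻¹ * (v * (a * w * a⁻¹)) * w := by group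
      _ = a * v * a⁻¹ * (a * w * a⁻¹ * v) * w := by rw [h.comm _ hv _ (h.conjA hw)]
      _ = a * (v * w) * a⁻¹ * (v * w) := by group
      _ = 1 := by rw [h3]; exact h.elem _ (W.mul_mem hv hw)
  rw [e]; group

/-- An inverted element of order three on `W`. -/
theorem Inverts.involves_of_cube [Finite G] (h : Inverts W a y)
    (h3 : y ^ 3 ∈ centralizer (W : Set G)) : Cfsg.Involves (Equiv.Perm (Fin 4)) G := by
  obtain ⟨v0, hv0, hv0a⟩ := h.exists_moved
  set C := SolvableS4Action.comm h.comm y h.ny with hC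
  have hv0W := comm_le hv0
  set u := a * v0 * a⁻¹ * v0 with hudef
  have huC : u ∈ C := C.mul_mem (h.comm_a hv0) hv0
  have hu1 : u ≠ 1 := fun e => hv0a (by
    rw [hudef, mul_eq_one_iff_eq_inv, inv_eq_of_mul_eq_one_right (h.elem v0 hv0W)] at e
    exact e)
  have hau : a * u * a⁻¹ = u := by
    rw [hudef, show a * (a * v0 * a⁻¹ * v0) * a⁻¹ = a * (a * v0 * a⁻¹) * a⁻¹ * (a * v0 * a⁻¹) by group,
      h.a_a hv0W, h.comm _ hv0W _ (h.conjA hv0W)]
  refine h.involves huC hu1 hau ?_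
  have huW := comm_le huC
  set u1 := y * u * y⁻¹ with hu1def
  set u2 := y⁻¹ * u * y⁻¹⁻¹ with hu2def
  have hu1W : u1 ∈ W := h.conjY huW
  have hu2W : u2 ∈ W := h.conjY' huW
  have hu1C : u1 ∈ C := by
    obtain ⟨x, hx, hxu⟩ := mem_comm.mp huC
    exact mem_comm.mpr ⟨y * x * y⁻¹, h.conjY hx, by rw [hu1def, ← hxu]; group⟩
  have hu2C : u2 ∈ C := by
    obtain ⟨x, hx, hxu⟩ := mem_comm.mp huC
    exact mem_comm.mpr ⟨y⁻¹ * x * y⁻¹⁻¹, h.conjY' hx, by rw [hu2def, ← hxu]; group⟩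
  have hyy : y * u1 * y⁻¹ = u2 := by
    have h1 := h.conj_mem_of_centralizer h3 hu2W
    conv_rhs => rw [← h1]
    rw [hu1def, hu2def, pow_succ, pow_two]; group
  have hfix : y * (u1 * u * u2) * y⁻¹ = u1 * u * u2 := by
    rw [show y * (u1 * u * u2) * y⁻¹ = y * u1 * y⁻¹ * (y * u * y⁻¹) * (y * u2 * y⁻¹) by group,
      hyy, show y * u2 * y⁻¹ = u by rw [hu2def]; group]
    show u2 * u1 * u = u1 * u * u2
    rw [h.comm _ hu2W _ hu1W, mul_assoc u1 u2 u, h.comm _ hu2W _ huW, ← mul_assoc u1 u u2]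
  have h1 := eq_one_of_fixed h.elem h.comm h.ny h.odd (C.mul_mem (C.mul_mem hu1C huC) hu2C) hfix
  rw [mul_eq_one_iff_eq_inv, inv_eq_of_mul_eq_one_right (h.elem _ hu2W)] at h1
  exact h1.symm

end Cfsg.Agent.SolvableS4Action
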