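import Mathlib
import Cfsg.Prelude.Def_Solvable
import Cfsg.Prelude.Def_LocalEven
import Cfsg.Agent.Lib.HallCore
import Cfsg.Agent.Lib.HallSolvable
import Cfsg.Agent.Lib.CoprimeGen
import Cfsg.Agent.Lib.SolvableS4Action

/-!
In a solvable `S₄`-free group acting on an elementary abelian normal `2`-subgroup generated by fixed
points of Sylow `2`-subgroups, an elementary abelian group acting as `E / C_E(W)` of order `2^e` has
fixed points of index at least `2^(2e)`.
-/

set_option autoImplicit false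

open Subgroup

namespace Cfsg.Agent.SolvableS4Gap

universe u

variable {G : Type u} [Group G]

/-- An element with a fixed odd-order power. -/
theorem exists_odd_power [Finite G] (y : G) :
    ∃ k : ℕ, Odd (orderOf (y ^ 2 ^ k)) := by
  obtain ⟨k, m, hm, hkm⟩ := Nat.exists_eq_pow_mul_and_not_dvd (orderOf_pos y).ne' 2 (by norm_num)
  refine ⟨k, ?_⟩
  rw [orderOf_pow' _ (by positivity), hkm, Nat.gcd_eq_right (Dvd.intro m rfl),
    Nat.mul_div_cancel_left _ (by positivity)]
  exact Nat.not_even_iff_odd.mp fun h => hm (even_iff_two_dvd.mp h)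

/-- Powers of `2` do not kill nontrivial elements of odd order. -/
theorem pow_two_ne_one {t : G} (ht : Odd (orderOf t)) (hne : t ≠ 1) (k : ℕ) : t ^ 2 ^ k ≠ 1 := by
  intro h
  have h1 : (orderOf t).Coprime (2 ^ k) := Nat.Coprime.pow_right k (Nat.coprime_two_right.mpr ht)
  exact hne (orderOf_eq_one_iff.mp (Nat.eq_one_of_dvd_coprimes h1 dvd_rfl (orderOf_dvd_of_pow_eq_one h)))

/-- A faithful odd normal subgroup in a solvable group without normal `2`-subgroups. -/
theorem centralizer_pPrimeCore_le [Finite G] [Group.IsSolvable G] (h : Cfsg.pCore 2 G = ⊥) :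
    centralizer (Cfsg.pPrimeCore 2 G : Set G) ≤ Cfsg.pPrimeCore 2 G := by
  haveI : Fact (Nat.Prime 2) := ⟨Nat.prime_two⟩
  rw [HallCore.pPrimeCore_eq_piCore]
  refine HallSolvable.centralizer_piCore_le (HallSolvable.isPiSeparable_of_solvable _) ?_
  rw [compl_compl, ← HallCore.pCore_eq_piCore]
  exact h

/-- The gap between an elementary group and its fixed points. -/
theorem gap [Finite G] [Group.IsSolvable G] (hfree : ¬ Cfsg.Involves (Equiv.Perm (Fin 4)) G)
    (W Z : Subgroup G) [W.Normal] (hW2 : ∀ x ∈ W, x * x = 1) (hWc : ∀ x ∈ W, ∀ z ∈ W, x * z = z * x)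
    (T : Sylow 2 G) (hZT : Z ≤ centralizer ((T : Subgroup G) : Set G))
    (hgen : ∀ N : Subgroup G, N.Normal → Z ≤ N → W ≤ N) (hZW : Z ≤ W)
    (E : Subgroup G) (hE : E ≤ (T : Subgroup G))
    (hEc : ∀ x ∈ E, ∀ z ∈ E, x * z * x⁻¹ * z⁻¹ ∈ centralizer (W : Set G))
    (hEsq : ∀ x ∈ E, x * x ∈ centralizer (W : Set G)) :
    Nat.card E ^ 2 * Nat.card (W ⊓ centralizer (E : Set G) : Subgroup G) ≤
      Nat.card W * Nat.card (E ⊓ centralizer (W : Set G) : Subgroup G) ^ 2 := by
  classical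
  haveI : Fact (Nat.Prime 2) := ⟨Nat.prime_two⟩
  set C := centralizer (W : Set G) with hC
  haveI : C.Normal := normal_centralizer
  set π := QuotientGroup.mk' C with hπ
  have hπs : Function.Surjective π := QuotientGroup.mk'_surjective C
  have hπ1 : ∀ x, π x = 1 ↔ x ∈ C := fun x => QuotientGroup.eq_one_iff x
  have hcc : ∀ c ∈ C, ∀ x ∈ W, c * x * c⁻¹ = x := fun c hc x hx => by
    rw [← mem_centralizer_iff.mp hc x hx, mul_inv_cancel_right]
  -- no normal `2`-subgroup in the quotient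
  have hcore : Cfsg.pCore 2 (G ⧸ C) = ⊥ := by
    set N := (Cfsg.pCore 2 (G ⧸ C)).comap π with hN
    haveI : (Cfsg.pCore 2 (G ⧸ C)).Normal := HallCore.pCore_normal 2 _
    haveI : N.Normal := inferInstance
    suffices hle : N ≤ C by
      rw [← Subgroup.map_comap_eq_self_of_surjective hπs (Cfsg.pCore 2 (G ⧸ C)), Subgroup.map_eq_bot_iff]
      exact hle.trans (QuotientGroup.ker_mk' C).ge
    -- the fixed points of `N` contain `Z`
    have hfix : W ≤ centralizer (N : Set G) := by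
      haveI : (centralizer (N : Set G) ⊓ W).Normal := by
        haveI : (centralizer (N : Set G)).Normal := normal_centralizer
        infer_instance
      refine (hgen (centralizer (N : Set G) ⊓ W) inferInstance fun z hz => ⟨?_, hZW hz⟩).trans inf_le_left
      refine mem_centralizer_iff.mpr fun n hn => ?_
      -- `N = C (T ⊓ N)`
      have h1 : π n ∈ (T : Subgroup G).map π := by
        have h2 := HallCore.pCore_le_sylow (T.mapSurjective hπs) (mem_comap.mp hn)
        rwa [Sylow.coe_mapSurjective] at h2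
      obtain ⟨t, ht, htn⟩ := h1
      have hc : t⁻¹ * n ∈ C := by rw [← hπ1, map_mul, map_inv, htn, inv_mul_cancel]
      have h3 := mem_centralizer_iff.mp (hZT hz) t ht
      have h4 := hcc _ hc z (hZW hz)
      calc n * z = t * (t⁻¹ * n * z * (t⁻¹ * n)⁻¹) * (t⁻¹ * n) := by group
        _ = t * z * (t⁻¹ * n) := by rw [h4]
        _ = z * n := by rw [h3]; group
    exact fun n hn => mem_centralizer_iff.mpr fun w hw =>
      (mem_centralizer_iff.mp (hfix hw) n hn).symm
  set F := Cfsg.pPrimeCore 2 (G ⧸ C) with hF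
  haveI : F.Normal := HallCore.pPrimeCore_normal 2 _
  have hCF := centralizer_pPrimeCore_le hcore
  have hFodd : Odd (Nat.card F) := Nat.coprime_two_right.mp (HallCore.coprime_card_pPrimeCore 2 _)
  suffices key : ∀ n : ℕ, ∀ E' : Subgroup G, Nat.card E' = n → E' ≤ E → E ⊓ C ≤ E' →
      Nat.card E' ^ 2 * Nat.card (W ⊓ centralizer (E' : Set G) : Subgroup G) ≤
        Nat.card W * Nat.card (E' ⊓ C : Subgroup G) ^ 2 from key _ E rfl le_rfl inf_le_left
  intro n
  induction n using Nat.strong_induction_on with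
  | _ n ih =>
  intro E' hn hE'E hCE'
  subst hn
  by_cases hE'C : E' ≤ C
  · rw [inf_eq_left.mpr hE'C, mul_comm (Nat.card W)]
    exact Nat.mul_le_mul_left _ (card_le_of_le inf_le_left)
  -- the subgroups with a witness in `F`
  set X := E'.map π with hX
  have hXc : ∀ x ∈ X, ∀ z ∈ X, x * z = z * x := by
    rintro _ ⟨x, hx, rfl⟩ _ ⟨z, hz, rfl⟩
    have h1 := (hπ1 _).mpr (hEc x (hE'E hx) z (hE'E hz))
    rw [map_mul, map_mul, map_mul, map_inv, map_inv, mul_inv_eq_one, mul_inv_eq_iff_eq_mul] at h1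
    exact h1
  have hXe : ∀ x ∈ X, x * x = 1 := by
    rintro _ ⟨x, hx, rfl⟩; rw [← map_mul, hπ1]; exact hEsq x (hE'E hx)
  have hXF : ¬ F ≤ centralizer (X : Set (G ⧸ C)) := by
    intro h
    refine hE'C fun e he => (hπ1 e).mp ?_
    have hxF : π e ∈ F := hCF (mem_centralizer_iff.mpr fun f hf =>
      (mem_centralizer_iff.mp (h hf) _ (mem_map_of_mem π he)).symm)
    have h2 : orderOf (π e) ∣ 2 := orderOf_dvd_of_pow_eq_one (by
      rw [pow_two]; exact hXe _ (mem_map_of_mem π he))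
    exact orderOf_eq_one_iff.mp (Nat.eq_one_of_dvd_coprimes (Nat.coprime_two_right.mpr hFodd)
      (Subgroup.orderOf_dvd_natCard F hxF) h2)
  obtain ⟨Y, ⟨hYX, hYF⟩, hYmax⟩ := Set.exists_max_image
    {Y : Subgroup (G ⧸ C) | Y ≤ X ∧ ¬ F ⊓ centralizer (Y : Set (G ⧸ C)) ≤ centralizer (X : Set (G ⧸ C))}
    (fun Y => Nat.card Y) (Set.toFinite _) ⟨⊥, bot_le, fun h => hXF fun f hf => h ⟨hf,
      mem_centralizer_iff.mpr fun y hy => by rw [mem_bot.mp hy, one_mul, mul_one]⟩⟩
  obtain ⟨f, hf, hfX⟩ := SetLike.not_le_iff_exists.mp hYF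
  obtain ⟨a0, ha0, ha0f⟩ : ∃ a0 ∈ X, a0 * f ≠ f * a0 := by
    by_contra h
    push Not at h
    exact hfX (mem_centralizer_iff.mpr h)
  have ha0Y : a0 ∉ Y := fun h => ha0f (mem_centralizer_iff.mp hf.2 a0 h)
  have hXY : X ≤ Y ⊔ zpowers a0 := by
    intro c hc
    by_contra hcn
    have hcomm : Commute c a0 := hXc c hc a0 ha0
    set P2 := CoprimeGen.pairSubgroup c a0 hcomm
    have hPX : P2 ≤ X := CoprimeGen.pairSubgroup_le hc ha0
    set K := F ⊓ centralizer (Y : Set (G ⧸ C))
    have hK : X ≤ normalizer (K : Set (G ⧸ C)) := by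
      intro e he
      refine mem_normalizer_fintype fun k hk => ⟨Normal.conj_mem inferInstance k hk.1 e,
        mem_centralizer_iff.mpr fun b hb => ?_⟩
      have h1 : b * e = e * b := hXc b (hYX hb) e he
      have h2 : b * k = k * b := mem_centralizer_iff.mp hk.2 b hb
      exact (((show Commute b e from h1).mul_right h2).mul_right (show Commute b e from h1).inv_right).eq
    haveI : IsMulCommutative P2 :=
      ⟨⟨fun x y => Subtype.ext (hXc x (hPX x.2) y (hPX y.2))⟩⟩
    have hpair : CoprimeGen.IsPairAction 2 c a0 K :=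
      { comm := hcomm
        pow_left := by rw [pow_two]; exact hXe c hc
        pow_right := by rw [pow_two]; exact hXe a0 ha0
        right_ne := fun h => ha0Y (h ▸ one_mem Y)
        left_not_mem := fun h => hcn (mem_sup_right h)
        mem_left := hK hc
        mem_right := hK ha0 }
    refine hYF (CoprimeGen.le_of_pair_centralizers hpair (fun hd => ?_) fun e he he1 => ?_)
    · exact (Nat.not_even_iff_odd.mpr hFodd) (even_iff_two_dvd.mpr (hd.trans (card_dvd_of_le inf_le_left)))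
    · have heY : e ∉ Y := by
        intro heY
        obtain ⟨m, n, rfl⟩ := CoprimeGen.mem_pairSubgroup_iff.mp he
        rcases QuadOffenderS4.zpow_of_sq (hXe c hc) m with h | h <;>
          rcases QuadOffenderS4.zpow_of_sq (hXe a0 ha0) n with h' | h' <;> rw [h, h'] at heY he1
        · exact he1 (one_mul 1)
        · exact ha0Y (by simpa using heY)
        · exact hcn (mem_sup_left (by simpa using heY))
        · have h1 : c * a0 ∈ Y ⊔ zpowers a0 := mem_sup_left heY
          have h2 := (Y ⊔ zpowers a0).mul_mem h1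
            ((Y ⊔ zpowers a0).inv_mem (mem_sup_right (mem_zpowers a0)))
          rw [mul_inv_cancel_right] at h2
          exact hcn h2
      by_contra hle
      have hlt : Y < Y ⊔ zpowers e := left_lt_sup.mpr fun h => heY (zpowers_le.mp h)
      have hbad : ¬ F ⊓ centralizer ((Y ⊔ zpowers e : Subgroup (G ⧸ C)) : Set (G ⧸ C)) ≤
          centralizer (X : Set (G ⧸ C)) := by
        intro h
        refine hle fun k hk => h ⟨hk.1.1, ?_⟩
        have hle' : Y ⊔ zpowers e ≤ centralizer ({k} : Set (G ⧸ C)) := by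
          refine sup_le (fun b hb => ?_) (zpowers_le.mpr ?_)
          · exact mem_centralizer_singleton_iff.mpr (mem_centralizer_iff.mp hk.1.2 b hb)
          · exact mem_centralizer_singleton_iff.mpr (mem_centralizer_singleton_iff.mp hk.2).symm
        exact mem_centralizer_iff.mpr fun y hy => mem_centralizer_singleton_iff.mp (hle' hy)
      have h5 := hYmax _ ⟨sup_le hYX (zpowers_le.mpr (hPX he)), hbad⟩
      exact absurd (Subgroup.eq_of_le_of_card_ge hlt.le h5) hlt.ne
  -- back to `G`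
  obtain ⟨a, haE', rfl⟩ := ha0
  set E1 := E' ⊓ Y.comap π with hE1
  have haE1 : a ∉ E1 := fun h => ha0Y h.2
  have hlt : E1 < E' := lt_of_le_of_ne inf_le_left fun h => haE1 (h.symm ▸ haE')
  have hE1E : E1 ≤ E := inf_le_left.trans hE'E
  have hCE1 : E ⊓ C ≤ E1 := fun x hx => ⟨hCE' hx, mem_comap.mpr ((hπ1 x).mpr hx.2 ▸ one_mem Y)⟩
  have hI := ih _ (lt_of_le_of_ne (card_le_of_le hlt.le)
    fun h => hlt.ne (eq_of_le_of_card_ge hlt.le h.ge)) E1 rfl hE1E hCE1
  have hCC : E1 ⊓ C = E' ⊓ C := le_antisymm (inf_le_inf_right _ hlt.le)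
    fun x hx => ⟨hCE1 ⟨hE'E hx.1, hx.2⟩, hx.2⟩
  rw [hCC] at hI
  have hgenE : ∀ x ∈ E', x ∈ E1 ∨ x * a⁻¹ ∈ E1 := by
    intro x hx
    have hn : zpowers (π a) ≤ normalizer (Y : Set (G ⧸ C)) := zpowers_le.mpr
      (Subgroup.centralizer_le_normalizer (Y : Set (G ⧸ C)) (mem_centralizer_iff.mpr fun q hq =>
        hXc q (hYX hq) _ (mem_map_of_mem π haE')))
    have hm : π x ∈ Y ⊔ zpowers (π a) := hXY (mem_map_of_mem π hx)
    rw [← SetLike.mem_coe, coe_mul_of_right_le_normalizer_left Y (zpowers (π a)) hn] at hm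
    obtain ⟨p, hp, q, hq, hpq⟩ := Set.mem_mul.mp hm
    obtain ⟨m, rfl⟩ := mem_zpowers_iff.mp hq
    rcases QuadOffenderS4.zpow_of_sq (hXe _ (mem_map_of_mem π haE')) m with h | h <;> rw [h] at hpq
    · exact Or.inl ⟨hx, mem_comap.mpr (by rwa [← hpq, mul_one])⟩
    · exact Or.inr ⟨E'.mul_mem hx (E'.inv_mem haE'), mem_comap.mpr (by
        rwa [map_mul, map_inv, ← hpq, mul_inv_cancel_right])⟩
  have hcard2 : Nat.card E' ≤ 2 * Nat.card E1 := by
    let j : E1 ⊕ E1 → E' := Sum.elim (fun p => ⟨p, hlt.le p.2⟩)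
      (fun p => ⟨(p : G) * a, mul_mem (hlt.le p.2) haE'⟩)
    have hjs : Function.Surjective j := by
      rintro ⟨x, hx⟩
      rcases hgenE x hx with h | h
      · exact ⟨Sum.inl ⟨x, h⟩, rfl⟩
      · exact ⟨Sum.inr ⟨_, h⟩, Subtype.ext (inv_mul_cancel_right x a)⟩
    have h := Nat.card_le_card_of_surjective j hjs
    rwa [Nat.card_sum, ← two_mul] at h
  set V := W ⊓ centralizer (E1 : Set G) with hV
  set V' := W ⊓ centralizer (E' : Set G) with hV'
  have hVV : V' = V ⊓ centralizer ({a} : Set G) := by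
    refine le_antisymm (fun v hv => ⟨⟨hv.1, centralizer_le hlt.le hv.2⟩,
      mem_centralizer_singleton_iff.mpr (mem_centralizer_iff.mp hv.2 a haE').symm⟩) fun v hv => ?_
    refine ⟨hv.1.1, mem_centralizer_iff.mpr fun x hx => ?_⟩
    rcases hgenE x hx with h | h
    · exact mem_centralizer_iff.mp hv.1.2 x h
    · have h1 : Commute (x * a⁻¹) v := mem_centralizer_iff.mp hv.1.2 _ h
      have h2 : Commute a v := (mem_centralizer_singleton_iff.mp hv.2).symm
      simpa using (h1.mul_left h2).eq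
  suffices hgap : 4 * Nat.card V' ≤ Nat.card V by
    calc Nat.card E' ^ 2 * Nat.card V' ≤ (2 * Nat.card E1) ^ 2 * Nat.card V' :=
          Nat.mul_le_mul_right _ (Nat.pow_le_pow_left hcard2 2)
      _ = Nat.card E1 ^ 2 * (4 * Nat.card V') := by ring
      _ ≤ Nat.card E1 ^ 2 * Nat.card V := Nat.mul_le_mul_left _ hgap
      _ ≤ _ := hI
  by_contra hgap
  -- an inverted element
  obtain ⟨g, hg⟩ := hπs f
  set y0 := g * a * g⁻¹ * a⁻¹ with hy0
  obtain ⟨k, hk⟩ := exists_odd_power y0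
  set y := y0 ^ 2 ^ k with hy
  have hπy0 : π y0 = f * π a * f⁻¹ * (π a)⁻¹ := by rw [hy0, map_mul, map_mul, map_mul, map_inv, map_inv, hg]
  have ha2 : π a * π a = 1 := hXe _ (mem_map_of_mem π haE')
  have hainv : (π a)⁻¹ = π a := inv_eq_of_mul_eq_one_right ha2
  have ht0 : π y0 ∈ F := by
    rw [hπy0, show f * π a * f⁻¹ * (π a)⁻¹ = f * (π a * f⁻¹ * (π a)⁻¹) by group]
    exact mul_mem hf.1 (Normal.conj_mem inferInstance _ (inv_mem hf.1) _)
  have ht0ne : π y0 ≠ 1 := by
    rw [hπy0]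
    intro h
    rw [mul_inv_eq_one, mul_inv_eq_iff_eq_mul] at h
    exact ha0f h.symm
  have hπy : π y ≠ 1 := by
    rw [hy, map_pow]
    exact pow_two_ne_one (hFodd.of_dvd_nat (Subgroup.orderOf_dvd_natCard F ht0)) ht0ne k
  have hinv0 : π a * π y0 * (π a)⁻¹ = (π y0)⁻¹ := by
    rw [hπy0, mul_inv_rev, mul_inv_rev, mul_inv_rev, inv_inv, inv_inv]
    simp only [hainv, mul_assoc, ha2, mul_one]
  have hinv : a * y * a⁻¹ * y ∈ C := by
    rw [← hπ1, map_mul, map_mul, map_mul, map_inv, hy, map_pow, ← conj_pow, hinv0, inv_pow, inv_mul_cancel]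
  have hyY : ∀ e ∈ E1, π e * π y = π y * π e := by
    intro e he
    have h1 : Commute (π e) f := mem_centralizer_iff.mp hf.2 _ he.2
    have h2 : Commute (π e) (π a) := hXc _ (mem_map_of_mem π (hlt.le he)) _ (mem_map_of_mem π haE')
    rw [hy, map_pow, hπy0]
    exact ((((h1.mul_right h2).mul_right h1.inv_right).mul_right h2.inv_right).pow_right _).eq
  have hWN : ∀ x : G, x ∈ normalizer (W : Set G) := fun x => by rw [normalizer_eq_top]; exact mem_top x
  have hVn : ∀ x : G, (∀ e ∈ E1, π e * π x = π x * π e) → x ∈ normalizer (V : Set G) := by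
    intro x hx
    refine mem_normalizer_fintype fun v hv =>
      ⟨(mem_normalizer_iff.mp (hWN x) v).mp hv.1, mem_centralizer_iff.mpr fun e he => ?_⟩
    have hc : (x⁻¹ * e⁻¹ * x * e) ∈ C := by
      rw [← hπ1, map_mul, map_mul, map_mul, map_inv, map_inv]
      calc (π x)⁻¹ * (π e)⁻¹ * π x * π e = (π e * π x)⁻¹ * (π x * π e) := by group
        _ = 1 := by rw [hx e he, inv_mul_cancel]
    have h1 := hcc _ hc v hv.1
    have h2 : e * v * e⁻¹ = v := by rw [mem_centralizer_iff.mp hv.2 e he, mul_inv_cancel_right]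
    have h3 : e * (x * v * x⁻¹) * e⁻¹ = x * v * x⁻¹ := by
      calc e * (x * v * x⁻¹) * e⁻¹
          = e * x * (x⁻¹ * e⁻¹ * x * e * v * (x⁻¹ * e⁻¹ * x * e)⁻¹) * (e * x)⁻¹ := by rw [h1]; group
        _ = x * (e * v * e⁻¹) * x⁻¹ := by group
        _ = _ := by rw [h2]
    exact mul_inv_eq_iff_eq_mul.mp h3
  have hWy := hWN y
  have hmoved : y ∉ centralizer (V : Set G) := by
    intro hyV
    refine hπy ((hπ1 y).mpr ?_)
    -- `[W,y]` has no fixed point of `E1`
    set W1 := SolvableS4Action.comm hWc y hWy with hW1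
    by_contra hyC
    have hW1ne : ∃ x ∈ W, y * x * y⁻¹ ≠ x := by
      by_contra h
      push Not at h
      exact hyC (mem_centralizer_iff.mpr fun x hx => (mul_inv_eq_iff_eq_mul.mp (h x hx)).symm)
    obtain ⟨x, hx, hxne⟩ := hW1ne
    have hv1 : y * x * y⁻¹ * x ≠ 1 := fun h => hxne (by
      rw [mul_eq_one_iff_eq_inv, inv_eq_of_mul_eq_one_right (hW2 x hx)] at h; exact h)
    have hE1W1 : ∀ e ∈ E1, ∀ v ∈ W1, e * v * e⁻¹ ∈ W1 := by
      intro e he v hv
      obtain ⟨z, hz, rfl⟩ := SolvableS4Action.mem_comm.mp hv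
      refine SolvableS4Action.mem_comm.mpr ⟨e * z * e⁻¹, (mem_normalizer_iff.mp (hWN e) z).mp hz, ?_⟩
      have hc : (y⁻¹ * e⁻¹ * y * e) ∈ C := by
        rw [← hπ1, map_mul, map_mul, map_mul, map_inv, map_inv]
        calc (π y)⁻¹ * (π e)⁻¹ * π y * π e = (π e * π y)⁻¹ * (π y * π e) := by group
          _ = 1 := by rw [hyY e he, inv_mul_cancel]
      have h1 := hcc _ hc z hz
      calc y * (e * z * e⁻¹) * y⁻¹ * (e * z * e⁻¹)
          = e * y * (y⁻¹ * e⁻¹ * y * e * z * (y⁻¹ * e⁻¹ * y * e)⁻¹) * (e * y)⁻¹ * (e * z * e⁻¹) := by group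
        _ = e * (y * z * y⁻¹ * z) * e⁻¹ := by rw [h1]; group
    letI : MulAction E1 W1 :=
      { smul := fun e v => ⟨(e : G) * v * (e : G)⁻¹, hE1W1 e e.2 v v.2⟩
        one_smul := fun v => Subtype.ext (show (1 : G) * v * (1 : G)⁻¹ = v by group)
        mul_smul := fun e e' v => Subtype.ext (SolvableS4Action.conj_conj _ _ _).symm }
    have hp : IsPGroup 2 E1 := T.isPGroup'.to_le (hE1E.trans hE)
    have hWp : IsPGroup 2 W1 := by
      intro v
      refine ⟨1, Subtype.ext ?_⟩
      rw [pow_one, Subgroup.coe_pow, pow_two]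
      exact hW2 _ (SolvableS4Action.comm_le v.2)
    have hdvd : 2 ∣ Nat.card W1 := by
      haveI : Nontrivial W1 := ⟨⟨⟨_, SolvableS4Action.mem_comm.mpr ⟨x, hx, rfl⟩⟩, 1,
        fun h => hv1 (congrArg Subtype.val h)⟩⟩
      obtain ⟨j, hj0, hj⟩ := (IsPGroup.nontrivial_iff_card hWp).mp inferInstance
      rw [hj]; exact dvd_pow_self 2 hj0.ne'
    obtain ⟨⟨u, hu⟩, hufix, hu1⟩ := hp.exists_fixed_point_of_prime_dvd_card_of_fixed_point W1 hdvd
      (a := 1) (fun e => Subtype.ext (show (e : G) * 1 * (e : G)⁻¹ = 1 by group))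
    have huV : u ∈ V := ⟨SolvableS4Action.comm_le hu, mem_centralizer_iff.mpr fun e he =>
      mul_inv_eq_iff_eq_mul.mp (congrArg Subtype.val (hufix ⟨e, he⟩) : e * u * e⁻¹ = u)⟩
    have hyu : y * u * y⁻¹ = u := by
      rw [← mem_centralizer_iff.mp hyV u huV, mul_inv_cancel_right]
    exact hu1 (Subtype.ext (SolvableS4Action.eq_one_of_fixed hW2 hWc hWy hk hu hyu).symm)
  have hVW : (V : Set G) ⊆ (W : Set G) := fun v hv => hv.1
  have hI' : SolvableS4Action.Inverts V a y :=
    { elem := fun x hx => hW2 x hx.1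
      comm := fun x hx z hz => hWc x hx.1 z hz.1
      na := hVn a fun e he => hXc _ (mem_map_of_mem π (hlt.le he)) _ (mem_map_of_mem π haE')
      ny := hVn y hyY
      sq := centralizer_le hVW (hEsq a (hE'E haE'))
      inv := centralizer_le hVW hinv
      odd := hk
      moved := hmoved }
  refine hfree (hI'.involves_of_index ?_)
  rw [hVV] at hgap
  set V0 := V ⊓ centralizer ({a} : Set G) with hV0
  -- `|V| < 4 |C_V(a)|` and both are powers of two
  have hVp : IsPGroup 2 V := fun v => ⟨1, Subtype.ext (by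
    rw [pow_one, Subgroup.coe_pow, pow_two]; exact hW2 _ v.2.1)⟩
  obtain ⟨i, hi⟩ := IsPGroup.iff_card.mp hVp
  obtain ⟨j, hj⟩ := IsPGroup.iff_card.mp (hVp.to_le (inf_le_left : V0 ≤ V))
  rw [hi, hj] at hgap ⊢
  have h2 : i < j + 2 := (Nat.pow_lt_pow_iff_right (by norm_num : 1 < 2)).mp
    (by rw [pow_add]; omega)
  calc 2 ^ i ≤ 2 ^ (j + 1) := Nat.pow_le_pow_right (by norm_num) (by omega)
    _ = 2 * 2 ^ j := by rw [pow_succ, mul_comm]

end Cfsg.Agent.SolvableS4Gap
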