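import Mathlib
import Cfsg.Prelude.Def_Solvable
import Cfsg.Prelude.Def_LocalEven
import Cfsg.Agent.Lib.HallCore
import Cfsg.Agent.Lib.OffendersReplace
import Cfsg.Agent.Lib.PGroupsBasic
import Cfsg.Agent.Lib.CoprimeAction
import Cfsg.Agent.Lib.FusionQd
import Cfsg.Agent.Lib.SolvableS4Action
import Cfsg.Agent.Lib.SolvableS4Gap

/-!
Elementary abelian subgroups of largest order of a Sylow `2`-subgroup and a normal-in-`T` module with
the gap property: elements of odd order inverted by them centralise the module modulo `O₂`.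
-/

set_option autoImplicit false

open Subgroup

namespace Cfsg.Agent.SolvableS4Key

universe u

variable {G : Type u} [Group G]

/-- Exponent two. -/
def Exp2 (A : Subgroup G) : Prop := ∀ x ∈ A, x * x = 1

theorem Exp2.comm {A : Subgroup G} (h : Exp2 A) {x z : G} (hx : x ∈ A) (hz : z ∈ A) : x * z = z * x := by
  have h1 := inv_eq_of_mul_eq_one_right (h _ (A.mul_mem hx hz))
  rw [mul_inv_rev, inv_eq_of_mul_eq_one_right (h x hx), inv_eq_of_mul_eq_one_right (h z hz)] at h1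
  exact h1.symm

theorem Exp2.mono {A B : Subgroup G} (h : Exp2 B) (hAB : A ≤ B) : Exp2 A := fun x hx => h x (hAB hx)

theorem Exp2.isPGroup {A : Subgroup G} (h : Exp2 A) : IsPGroup 2 A := fun v =>
  ⟨1, Subtype.ext (by rw [pow_one, Subgroup.coe_pow, pow_two]; exact h _ v.2)⟩

theorem Exp2.sup {A B : Subgroup G} (hA : Exp2 A) (hB : Exp2 B)
    (hAB : ∀ a ∈ A, ∀ b ∈ B, a * b = b * a) : Exp2 (A ⊔ B) := by
  intro x hx
  have hn : B ≤ normalizer (A : Set G) :=
    OffendersReplace.le_normalizer_of_commute fun b hb a ha => (hAB a ha b hb).symm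
  rw [← SetLike.mem_coe, coe_mul_of_right_le_normalizer_left A B hn] at hx
  obtain ⟨a, ha, b, hb, rfl⟩ := Set.mem_mul.mp hx
  calc a * b * (a * b) = a * (b * a) * b := by group
    _ = a * a * (b * b) := by rw [← hAB a ha b hb]; group
    _ = 1 := by rw [hA a ha, hB b hb, one_mul]

theorem exp2_zpowers {w : G} (hw : w * w = 1) : Exp2 (zpowers w) := by
  intro x hx
  obtain ⟨m, rfl⟩ := mem_zpowers_iff.mp hx
  rw [← zpow_add, ← two_mul, zpow_mul, zpow_two, hw, one_zpow]

theorem exp2_map {A : Subgroup G} (h : Exp2 A) {H : Type u} [Group H] (f : G →* H) : Exp2 (A.map f) := by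
  rintro _ ⟨x, hx, rfl⟩
  rw [← map_mul, h x hx, map_one]

theorem card_sup_mul [Finite G] {A B : Subgroup G} (hAB : ∀ a ∈ A, ∀ b ∈ B, a * b = b * a) :
    Nat.card (A ⊔ B : Subgroup G) * Nat.card (A ⊓ B : Subgroup G) = Nat.card A * Nat.card B :=
  OffendersReplace.card_sup_mul_card_inf A B (OffendersReplace.le_normalizer_of_commute hAB)

/-- Two elements outside a subgroup of index at most two multiply into it. -/
theorem mul_mem_of_card_le [Finite G] {H K : Subgroup G} (hle : H ≤ K)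
    (hc : Nat.card K ≤ 2 * Nat.card H) {x z : G} (hx : x ∈ K) (hz : z ∈ K) (hxH : x ∉ H) (hzH : z ∉ H) :
    x * z ∈ H := by
  set H' := H.subgroupOf K with hH'
  have hcard : Nat.card H' = Nat.card H := Nat.card_congr (subgroupOfEquivOfLe hle).toEquiv
  have hi : H'.index ≤ 2 := by
    refine Nat.le_of_mul_le_mul_left ?_ (Nat.card_pos (α := H'))
    rw [H'.card_mul_index, hcard, mul_comm]
    exact hc
  have h1 : H'.index ≠ 1 := fun h => hxH
    (mem_subgroupOf.mp (index_eq_one.mp h ▸ mem_top _ : (⟨x, hx⟩ : K) ∈ H'))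
  have h0 : H'.index ≠ 0 := index_ne_zero_of_finite
  have := (mul_mem_iff_of_index_two (show H'.index = 2 by omega) (a := ⟨x, hx⟩) (b := ⟨z, hz⟩)).mpr
    ⟨fun h => absurd (mem_subgroupOf.mp h) hxH, fun h => absurd (mem_subgroupOf.mp h) hzH⟩
  exact mem_subgroupOf.mp this

theorem card_eq_map_mul [Finite G] (Q K : Subgroup G) [Q.Normal] :
    Nat.card K = Nat.card (K.map (QuotientGroup.mk' Q)) * Nat.card (K ⊓ Q : Subgroup G) := by
  have h3 := index_ker ((QuotientGroup.mk' Q).comp K.subtype)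
  rw [MonoidHom.range_eq_map, ← Subgroup.map_map, ← MonoidHom.range_eq_map, range_subtype,
    ← MonoidHom.comap_ker, QuotientGroup.ker_mk'] at h3
  change (Q.subgroupOf K).index = _ at h3
  rw [← h3, ← card_mul_index (Q.subgroupOf K), mul_comm]
  congr 1
  rw [← card_map_of_injective K.subtype_injective, subgroupOf_map_subtype, inf_comm]

/-- An elementary abelian subgroup of `T` of largest order. -/
def IsMaxElem (T A : Subgroup G) : Prop :=
  A ≤ T ∧ Exp2 A ∧ ∀ B : Subgroup G, B ≤ T → Exp2 B → Nat.card B ≤ Nat.card A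

theorem exists_maxElem [Finite G] (T : Subgroup G) : ∃ A, IsMaxElem T A := by
  obtain ⟨A, ⟨hA, hA2⟩, hmax⟩ := Set.exists_max_image {A : Subgroup G | A ≤ T ∧ Exp2 A}
    (fun A => Nat.card A) (Set.toFinite _)
    ⟨⊥, bot_le, fun x hx => by rw [mem_bot.mp hx, one_mul]⟩
  exact ⟨A, hA, hA2, fun B hB hB2 => hmax B ⟨hB, hB2⟩⟩

theorem IsMaxElem.of_card_ge {T A B : Subgroup G} (hA : IsMaxElem T A) (hB : B ≤ T) (hB2 : Exp2 B)
    (hc : Nat.card A ≤ Nat.card B) : IsMaxElem T B :=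
  ⟨hB, hB2, fun C hC hC2 => (hA.2.2 C hC hC2).trans hc⟩

/-- A conjugate inside `T` is again of largest order. -/
theorem IsMaxElem.map_conj [Finite G] {T A : Subgroup G} (hA : IsMaxElem T A) {x : G}
    (hx : A.map (MulAut.conj x).toMonoidHom ≤ T) : IsMaxElem T (A.map (MulAut.conj x).toMonoidHom) :=
  hA.of_card_ge hx (exp2_map hA.2.1 _) (card_map_of_injective (MulAut.conj x).injective).ge

/-- The module hypotheses. -/
structure Setup (T W : Subgroup G) : Prop where
  isTwo : IsPGroup 2 T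
  exp : Exp2 W
  norm : T ≤ normalizer (W : Set G)
  le : ∀ A, IsMaxElem T A → W ≤ A
  gap : ∀ E : Subgroup G, E ≤ T →
    (∀ x ∈ E, ∀ z ∈ E, x * z * x⁻¹ * z⁻¹ ∈ centralizer (W : Set G)) →
    (∀ x ∈ E, x * x ∈ centralizer (W : Set G)) →
    Nat.card E ^ 2 * Nat.card (W ⊓ centralizer (E : Set G) : Subgroup G) ≤
      Nat.card W * Nat.card (E ⊓ centralizer (W : Set G) : Subgroup G) ^ 2

theorem Setup.le_T [Finite G] {T W : Subgroup G} (S : Setup T W) : W ≤ T := by
  obtain ⟨A, hA⟩ := exists_maxElem T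
  exact (S.le A hA).trans hA.1

/-- An elementary subgroup of index at most two in size, against the module. -/
theorem Setup.near [Finite G] {T W A E : Subgroup G} (S : Setup T W) (hA : IsMaxElem T A) (hE : E ≤ T)
    (hE2 : Exp2 E) (hc : Nat.card A ≤ 2 * Nat.card E) :
    Nat.card E ≤ 2 * Nat.card (E ⊓ centralizer (W : Set G) : Subgroup G) ∧
      (¬ E ≤ centralizer (W : Set G) →
        4 * Nat.card (W ⊓ centralizer (E : Set G) : Subgroup G) = Nat.card W ∧
        IsMaxElem T ((E ⊓ centralizer (W : Set G)) ⊔ W)) := by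
  set C0 := E ⊓ centralizer (W : Set G) with hC0
  set F := W ⊓ centralizer (E : Set G) with hF
  have hg := S.gap E hE
    (fun x hx z hz => by
      rw [hE2.comm hx hz, show z * x * x⁻¹ * z⁻¹ = 1 by group]; exact one_mem _)
    (fun x hx => by rw [hE2 x hx]; exact one_mem _)
  change Nat.card E ^ 2 * Nat.card F ≤ Nat.card W * Nat.card C0 ^ 2 at hg
  have hcomm : ∀ c ∈ C0, ∀ w ∈ W, c * w = w * c := fun c hc w hw => (mem_centralizer_iff.mp hc.2 w hw).symm
  have hU2 : Exp2 (C0 ⊔ W) := (hE2.mono inf_le_left).sup S.exp hcomm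
  have hUT : C0 ⊔ W ≤ T := sup_le (inf_le_left.trans hE) S.le_T
  have hU := hA.2.2 _ hUT hU2
  have hprod := card_sup_mul hcomm
  have hinf : Nat.card (C0 ⊓ W : Subgroup G) ≤ Nat.card F := card_le_of_le fun x hx =>
    ⟨hx.2, mem_centralizer_iff.mpr fun e he => hE2.comm he hx.1.1⟩
  have h1 : Nat.card C0 * Nat.card W ≤ 2 * Nat.card E * Nat.card F := by
    rw [← hprod]; exact Nat.mul_le_mul (hU.trans hc) hinf
  have hCp := Nat.card_pos (α := C0)
  have hWp := Nat.card_pos (α := W)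
  have hFp := Nat.card_pos (α := F)
  have hEp := Nat.card_pos (α := E)
  have h2 : Nat.card E ≤ 2 * Nat.card C0 := by
    have h3 : Nat.card E ^ 2 * Nat.card F * (Nat.card C0 * Nat.card W) ≤
        Nat.card W * Nat.card C0 ^ 2 * (2 * Nat.card E * Nat.card F) := Nat.mul_le_mul hg h1
    have h4 : Nat.card E * (Nat.card E * Nat.card F * Nat.card C0 * Nat.card W) ≤
        2 * Nat.card C0 * (Nat.card E * Nat.card F * Nat.card C0 * Nat.card W) := by
      calc _ = Nat.card E ^ 2 * Nat.card F * (Nat.card C0 * Nat.card W) := by ring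
        _ ≤ _ := h3
        _ = _ := by ring
    exact Nat.le_of_mul_le_mul_right h4 (by positivity)
  refine ⟨h2, fun hne => ?_⟩
  have hEeq : Nat.card E = 2 * Nat.card C0 := by
    have hd : Nat.card C0 ∣ Nat.card E := card_dvd_of_le inf_le_left
    obtain ⟨k, hk⟩ := hd
    have hk2 : k ≤ 2 := by
      refine Nat.le_of_mul_le_mul_left ?_ hCp
      rw [← hk, mul_comm]; exact h2
    have hk1 : k ≠ 1 := fun h => hne fun x hx => by
      rw [h, mul_one] at hk
      exact ((eq_of_le_of_card_ge (inf_le_left : C0 ≤ E) hk.le).ge hx).2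
    have hk0 : k ≠ 0 := fun h => by rw [h, mul_zero] at hk; omega
    rw [hk, show k = 2 by omega, mul_comm]
  have hF4 : 4 * Nat.card F ≤ Nat.card W := by
    rw [hEeq] at hg
    suffices h : 4 * Nat.card F * Nat.card C0 ^ 2 ≤ Nat.card W * Nat.card C0 ^ 2 from
      Nat.le_of_mul_le_mul_right h (pow_pos hCp 2)
    calc 4 * Nat.card F * Nat.card C0 ^ 2 = (2 * Nat.card C0) ^ 2 * Nat.card F := by ring
      _ ≤ _ := hg
  have hW4 : Nat.card W ≤ 4 * Nat.card F := by
    rw [hEeq] at h1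
    suffices h : Nat.card C0 * Nat.card W ≤ Nat.card C0 * (4 * Nat.card F) from
      Nat.le_of_mul_le_mul_left h hCp
    calc Nat.card C0 * Nat.card W ≤ 2 * (2 * Nat.card C0) * Nat.card F := h1
      _ = _ := by ring
  refine ⟨le_antisymm hF4 hW4, hA.of_card_ge hUT hU2 ?_⟩
  suffices h : Nat.card A * Nat.card (C0 ⊓ W : Subgroup G) ≤
      Nat.card (C0 ⊔ W : Subgroup G) * Nat.card (C0 ⊓ W : Subgroup G) from
    Nat.le_of_mul_le_mul_right h Nat.card_pos
  calc Nat.card A * Nat.card (C0 ⊓ W : Subgroup G) ≤ 2 * Nat.card E * Nat.card F := Nat.mul_le_mul hc hinf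
    _ = Nat.card C0 * (4 * Nat.card F) := by rw [hEeq]; ring
    _ = _ := by rw [hprod, le_antisymm hF4 hW4]

variable (Q : Subgroup G) [Q.Normal]

/-- The elements of `A` whose image commutes with the image of `g`. -/
def hyper (A : Subgroup G) (g : G) : Subgroup G :=
  A ⊓ (centralizer ({QuotientGroup.mk' Q g} : Set (G ⧸ Q))).comap (QuotientGroup.mk' Q)

variable {Q}

theorem mem_hyper {A : Subgroup G} {g x : G} : x ∈ hyper Q A g ↔
    x ∈ A ∧ QuotientGroup.mk' Q g * QuotientGroup.mk' Q x = QuotientGroup.mk' Q x * QuotientGroup.mk' Q g := by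
  rw [hyper, mem_inf, mem_comap, mem_centralizer_singleton_iff]
  exact and_congr_right fun _ => eq_comm

theorem inf_le_hyper {A : Subgroup G} {g : G} : A ⊓ Q ≤ hyper Q A g := fun x hx =>
  mem_hyper.mpr ⟨hx.1, by
    rw [show QuotientGroup.mk' Q x = 1 from (QuotientGroup.eq_one_iff x).mpr hx.2, mul_one, one_mul]⟩

/-- An element congruent mod `Q` to an element of `T` lies in `T`. -/
theorem mem_of_mk_eq {T : Subgroup G} (hQT : Q ≤ T) {x z : G} (hx : x ∈ T)
    (h : QuotientGroup.mk' Q z = QuotientGroup.mk' Q x) : z ∈ T := by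
  have h1 : x⁻¹ * z ∈ Q := by
    rw [← QuotientGroup.eq_one_iff]
    show QuotientGroup.mk' Q (x⁻¹ * z) = 1
    rw [map_mul, map_inv, h, inv_mul_cancel]
  have := T.mul_mem hx (hQT h1)
  rwa [mul_inv_cancel_left] at this

/-- An element of odd order inverted by an involution, over a given commutator. -/
theorem exists_inverted [Finite G] {R : Subgroup (G ⧸ Q)} [R.Normal] (hR : Odd (Nat.card R))
    (g a : G) (ha : a * a = 1) (hg : QuotientGroup.mk' Q g ∈ R) :
    ∃ k : ℕ, Odd (orderOf ((g * a * g⁻¹ * a⁻¹) ^ 2 ^ k)) ∧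
      a * (g * a * g⁻¹ * a⁻¹) ^ 2 ^ k * a⁻¹ = ((g * a * g⁻¹ * a⁻¹) ^ 2 ^ k)⁻¹ ∧
      QuotientGroup.mk' Q (g * a * g⁻¹ * a⁻¹) ∈
        zpowers (QuotientGroup.mk' Q ((g * a * g⁻¹ * a⁻¹) ^ 2 ^ k)) := by
  set π := QuotientGroup.mk' Q
  set y0 := g * a * g⁻¹ * a⁻¹ with hy0
  obtain ⟨k, hk⟩ := SolvableS4Gap.exists_odd_power y0
  refine ⟨k, hk, ?_, ?_⟩
  · have hai : a⁻¹ = a := inv_eq_of_mul_eq_one_right ha
    have h0 : a * y0 * a⁻¹ = y0⁻¹ := by
      rw [hy0, mul_inv_rev, mul_inv_rev, mul_inv_rev, inv_inv, inv_inv]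
      simp only [hai, mul_assoc, ha, mul_one]
    rw [← conj_pow, h0, inv_pow]
  · have ht : π y0 ∈ R := by
      rw [hy0, map_mul, map_mul, map_mul, map_inv, map_inv,
        show π g * π a * (π g)⁻¹ * (π a)⁻¹ = π g * (π a * (π g)⁻¹ * (π a)⁻¹) by group]
      exact mul_mem hg (Normal.conj_mem inferInstance _ (inv_mem hg) _)
    obtain ⟨j, hj⟩ := exists_pow_eq_self_of_coprime
      ((Nat.coprime_two_left.mpr (hR.of_dvd_nat (Subgroup.orderOf_dvd_natCard R ht))).pow_left k)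
    exact mem_zpowers_iff.mpr ⟨(j : ℤ), by rw [zpow_natCast, map_pow]; exact hj⟩

variable [Finite G]

/-- The module lies in `Q`. -/
theorem le_of_setup (hfree : ¬ Cfsg.Involves (Equiv.Perm (Fin 4)) G)
    (hQC : centralizer (Q : Set G) ≤ Q) {T W : Subgroup G} (S : Setup T W) (hQT : Q ≤ T)
    {R : Subgroup (G ⧸ Q)} [R.Normal] (hR : Odd (Nat.card R)) {A : Subgroup G} (hA : IsMaxElem T A)
    {z g : G} (hzW : z ∈ W) (hg : QuotientGroup.mk' Q g ∈ R)
    (hA1 : Nat.card A ≤ 2 * Nat.card (hyper Q A g)) :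
    QuotientGroup.mk' Q g * QuotientGroup.mk' Q z = QuotientGroup.mk' Q z * QuotientGroup.mk' Q g := by
  by_contra hne
  haveI : Fact (Nat.Prime 2) := ⟨Nat.prime_two⟩
  set π := QuotientGroup.mk' Q with hπ
  have hzA : z ∈ A := S.le A hA hzW
  have hz2 : z * z = 1 := S.exp z hzW
  obtain ⟨k, hodd, hinv, hgen⟩ := exists_inverted hR g z hz2 hg
  set y0 := g * z * g⁻¹ * z⁻¹ with hy0
  set y := y0 ^ 2 ^ k with hy
  have hπy : π y ≠ 1 := by
    intro h
    rw [h, zpowers_one_eq_bot, mem_bot, hy0, map_mul, map_mul, map_mul, map_inv, map_inv,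
      mul_inv_eq_one, mul_inv_eq_iff_eq_mul] at hgen
    exact hne hgen
  -- `E`, the conjugate of the hyperplane
  set A1 := hyper Q A g
  set E := A1.map (MulAut.conj g⁻¹).toMonoidHom with hEdef
  have hE2 : Exp2 E := exp2_map (hA.2.1.mono inf_le_left) _
  have hET : E ≤ T := by
    rintro _ ⟨x, hx, rfl⟩
    refine mem_of_mk_eq hQT (hA.1 hx.1) ?_
    show π (g⁻¹ * x * g⁻¹⁻¹) = π x
    rw [inv_inv, map_mul, map_mul, map_inv, mul_assoc, ← (mem_hyper.mp hx).2, inv_mul_cancel_left]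
  have hEc : Nat.card E = Nat.card A1 := card_map_of_injective (MulAut.conj g⁻¹).injective
  have hnear := (S.near hA hET hE2 (hEc ▸ hA1)).1
  set C0 := E ⊓ centralizer (W : Set G)
  -- the elements of `A ∩ Q` coming from `C0` commute with `y`
  have hcomy : ∀ x ∈ A ⊓ Q, g⁻¹ * x * g⁻¹⁻¹ ∈ C0 → Commute y x := by
    intro x hx hx0
    have h1 : Commute z (g⁻¹ * x * g⁻¹⁻¹) := mem_centralizer_iff.mp hx0.2 z hzW
    have h2 : Commute z x := hA.2.1.comm hzA hx.1
    have h3 : Commute (g * z * g⁻¹) x := by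
      have h4 := h1.map (MulAut.conj g).toMonoidHom
      simpa [mul_assoc] using h4
    rw [hy, hy0]
    exact (h3.mul_left h2.inv_left).pow_left _
  -- so at most one nonidentity class of commutators
  have hmem : ∀ x ∈ A ⊓ Q, g⁻¹ * x * g⁻¹⁻¹ ∈ E := fun x hx => mem_map_of_mem _ (inf_le_hyper hx)
  have htwo : ∀ x ∈ A ⊓ Q, ∀ w ∈ A ⊓ Q, ¬ Commute y x → ¬ Commute y w → Commute y (x * w) := by
    intro x hx w hw hxy hwy
    refine hcomy _ (mul_mem hx hw) ?_
    rw [show g⁻¹ * (x * w) * g⁻¹⁻¹ = g⁻¹ * x * g⁻¹⁻¹ * (g⁻¹ * w * g⁻¹⁻¹) by group]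
    exact mul_mem_of_card_le inf_le_left hnear (hmem x hx) (hmem w hw)
      (fun h => hxy (hcomy x hx h)) (fun h => hwy (hcomy w hw h))
  -- commutators of `Q` with `z` lie in `A ∩ Q`
  have hcQ : ∀ q ∈ Q, z * q * z⁻¹ * q⁻¹ ∈ A ⊓ Q := by
    intro q hq
    refine ⟨S.le A hA ?_, ?_⟩
    · rw [show z * q * z⁻¹ * q⁻¹ = z * (q * z⁻¹ * q⁻¹) by group]
      exact W.mul_mem hzW ((mem_normalizer_iff.mp (S.norm (hQT hq)) _).mp (W.inv_mem hzW))
    · exact Q.mul_mem (Normal.conj_mem inferInstance q hq z) (Q.inv_mem hq)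
  -- work modulo the Frattini subgroup of `Q`
  set Φ := (frattini Q).map Q.subtype with hΦ
  haveI : Φ.Normal := by
    rw [hΦ]; infer_instance
  have hΦQ : Φ ≤ Q := map_subtype_le _
  have hQp : IsPGroup 2 Q := S.isTwo.to_le hQT
  set f := QuotientGroup.mk' Φ with hf
  have hf1 : ∀ x, f x = 1 ↔ x ∈ Φ := fun x => QuotientGroup.eq_one_iff x
  set V := Q.map f with hV
  have hV2 : Exp2 V := by
    rintro _ ⟨q, hq, rfl⟩
    rw [← map_mul, hf1]
    exact ⟨⟨q, hq⟩ ^ 2, PGroupsBasic.pow_mem_frattini hQp _, by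
      show q ^ 2 = q * q
      rw [pow_two]⟩
  have hnV : ∀ x : G, f x ∈ normalizer (V : Set (G ⧸ Φ)) := fun x => by
    haveI : V.Normal := Normal.map inferInstance f (QuotientGroup.mk'_surjective Φ)
    rw [normalizer_eq_top]; exact mem_top _
  have hmovedV : f y ∉ centralizer (V : Set (G ⧸ Φ)) := by
    intro hc
    refine hπy ((QuotientGroup.eq_one_iff y).mpr (hQC ?_))
    refine CoprimeAction.le_centralizer_of_frattini (A := zpowers y) (K := Q)
      (by rw [normalizer_eq_top]; exact le_top) ?_ ?_ (mem_zpowers y)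
    · obtain ⟨e, he⟩ := IsPGroup.iff_card.mp (hQp.to_subgroup (frattini Q))
      rw [Nat.card_zpowers, he]
      exact (Nat.coprime_two_right.mpr hodd).pow_right e
    · intro w hw q hq
      rw [← hΦ, ← hf1, map_mul, map_mul, map_mul, map_inv, map_inv]
      obtain ⟨m, rfl⟩ := mem_zpowers_iff.mp hw
      have h1 : f q * f y ^ m = f y ^ m * f q :=
        mem_centralizer_iff.mp (zpow_mem hc m) (f q) (mem_map_of_mem f hq)
      rw [map_zpow, ← h1]; group
  have hyy : f y * f y⁻¹ = 1 := by rw [map_inv, mul_inv_cancel]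
  have hI : SolvableS4Action.Inverts V (f z) (f y) :=
    { elem := hV2
      comm := fun x hx w hw => hV2.comm hx hw
      na := hnV z
      ny := hnV y
      sq := by rw [← map_mul, hz2, map_one]; exact one_mem _
      inv := by rw [← map_inv, ← map_mul, ← map_mul, hinv, ← map_mul, inv_mul_cancel, map_one]; exact one_mem _
      odd := hodd.of_dvd_nat (orderOf_map_dvd f y)
      moved := hmovedV }
  refine hfree (FusionQd.involves_of_surjective (QuotientGroup.mk'_surjective Φ)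
    (hI.involves_of_few fun v hv w hw hv1 hw1 => ?_))
  set C := SolvableS4Action.comm hI.comm (f y) hI.ny
  -- lift a commutator
  have hlift : ∀ v ∈ C, f z * v * (f z)⁻¹ * v ≠ 1 →
      ∃ x ∈ A ⊓ Q, f x = f z * v * (f z)⁻¹ * v ∧ ¬ Commute y x := by
    intro v hv hne1
    obtain ⟨q, hq, rfl⟩ := SolvableS4Action.comm_le hv
    refine ⟨_, hcQ q hq, ?_, fun hcm => hne1 ?_⟩
    · rw [map_mul, map_mul, map_mul, map_inv, map_inv,
        inv_eq_of_mul_eq_one_right (hV2 _ (mem_map_of_mem f hq))]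
    · refine SolvableS4Action.eq_one_of_fixed hI.elem hI.comm hI.ny hI.odd
        (C.mul_mem (hI.comm_a hv) hv) ?_
      have h1 : f (z * q * z⁻¹ * q⁻¹) = f z * f q * (f z)⁻¹ * f q := by
        rw [map_mul, map_mul, map_mul, map_inv, map_inv,
          inv_eq_of_mul_eq_one_right (hV2 _ (mem_map_of_mem f hq))]
      rw [← h1, (hcm.map f).eq, mul_inv_cancel_right]
  obtain ⟨x, hx, hxe, hxy⟩ := hlift v hv hv1
  obtain ⟨w', hw', hwe, hwy⟩ := hlift w hw hw1
  rw [← hxe, ← hwe, ← map_mul, ((htwo x hx w' hw' hxy hwy).map f).eq, mul_inv_cancel_right]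

/-- The translates by powers of `y`. -/
def orb (y : G) (A : Subgroup G) (i : ℤ) : Subgroup G := A.map (MulAut.conj (y ^ i)).toMonoidHom

omit [Finite G] in
theorem mem_orb {y : G} {A : Subgroup G} {i : ℤ} {u : G} :
    u ∈ orb y A i ↔ ∃ x ∈ A, y ^ i * x * (y ^ i)⁻¹ = u := Iff.rfl

omit [Finite G] in
theorem conj_mem_iSup {ι : Sort*} {E : ι → Subgroup G} (c : G)
    (h : ∀ i, ∀ u ∈ E i, c * u * c⁻¹ ∈ ⨆ i, E i) {u : G} (hu : u ∈ ⨆ i, E i) :
    c * u * c⁻¹ ∈ ⨆ i, E i := by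
  have : (⨆ i, E i) ≤ (⨆ i, E i).comap (MulAut.conj c).toMonoidHom := iSup_le h
  exact this hu

omit [Finite G] in
theorem odd_fixed_of_sq {y v : G} (hodd : Odd (orderOf y))
    (h : Commute (y * y) v) : Commute y v := by
  obtain ⟨k, hk⟩ := hodd
  have h1 := h.pow_left (k + 1)
  rwa [← pow_two, ← pow_mul, show 2 * (k + 1) = orderOf y + 1 by omega, pow_succ,
    pow_orderOf_eq_one, one_mul] at h1

omit [Finite G] in
theorem commute_of_conj {c z : G} (h : c * z * c⁻¹ = z) : Commute c z := mul_inv_eq_iff_eq_mul.mp h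

/-- An inverted element of odd order over a commutator with a hyperplane centralises the module. -/
theorem centralizes (hfree : ¬ Cfsg.Involves (Equiv.Perm (Fin 4)) G) {T W : Subgroup G} (S : Setup T W)
    (hQT : Q ≤ T) (hWQ : W ≤ Q) {R : Subgroup (G ⧸ Q)} [R.Normal] (hR : Odd (Nat.card R))
    {A : Subgroup G} (hA : IsMaxElem T A)
    (hAmax : ∀ B, IsMaxElem T B → ¬ B ≤ Q → Nat.card (B ⊓ Q : Subgroup G) ≤ Nat.card (A ⊓ Q : Subgroup G))
    {g a : G} (ha : a ∈ A) (hg : QuotientGroup.mk' Q g ∈ R)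
    (hA1 : Nat.card A ≤ 2 * Nat.card (hyper Q A g)) :
    QuotientGroup.mk' Q (g * a * g⁻¹ * a⁻¹) ∈ (centralizer (W : Set G)).map (QuotientGroup.mk' Q) := by
  classical
  haveI : Fact (Nat.Prime 2) := ⟨Nat.prime_two⟩
  set π := QuotientGroup.mk' Q with hπ
  by_cases haH : a ∈ hyper Q A g
  · rw [map_mul, map_mul, map_mul, map_inv, map_inv, (mem_hyper.mp haH).2, mul_inv_cancel_right,
      mul_inv_cancel]
    exact one_mem _
  have ha2 : a * a = 1 := hA.2.1 a ha
  have hai : a⁻¹ = a := inv_eq_of_mul_eq_one_right ha2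
  obtain ⟨k, hodd, hinv, hgen⟩ := exists_inverted hR g a ha2 hg
  set y0 := g * a * g⁻¹ * a⁻¹ with hy0
  set y := y0 ^ 2 ^ k with hy
  suffices hyW : y ∈ centralizer (W : Set G) from
    (zpowers_le.mpr (mem_map_of_mem π hyW) : zpowers (π y) ≤ _) hgen
  by_contra hyW
  set A1 := hyper Q A g with hA1def
  -- `y` commutes with `A1` modulo `Q`
  have hycomm : ∀ x ∈ A1, ∀ i : ℤ, π (y ^ i * x * (y ^ i)⁻¹) = π x := by
    intro x hx i
    have h1 : Commute (π g) (π x) := (mem_hyper.mp hx).2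
    have h2 : Commute (π a) (π x) := (show Commute a x from hA.2.1.comm ha hx.1).map π
    have h3 : Commute (π y0) (π x) := by
      rw [hy0, map_mul, map_mul, map_mul, map_inv, map_inv]
      exact ((h1.mul_left h2).mul_left h1.inv_left).mul_left h2.inv_left
    have h4 : Commute (π (y ^ i)) (π x) := by
      rw [map_zpow, hy, map_pow]
      exact (h3.pow_left _).zpow_left i
    rw [map_mul, map_mul, map_inv, h4.eq, mul_inv_cancel_right]
  set E := orb y A1 with hEdef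
  have hET : ∀ i, E i ≤ T := by
    rintro i _ ⟨x, hx, rfl⟩
    exact mem_of_mk_eq hQT (hA.1 hx.1) (hycomm x hx i)
  have hE2 : ∀ i, Exp2 (E i) := fun i => exp2_map (hA.2.1.mono inf_le_left) _
  have hEc : ∀ i, Nat.card (E i) = Nat.card A1 := fun i =>
    card_map_of_injective (MulAut.conj (y ^ i)).injective
  have hnear := fun i => S.near hA (hET i) (hE2 i) ((hEc i).symm ▸ hA1)
  have hAQ : A ⊓ Q ≤ A1 := inf_le_hyper
  have hE0 : E 0 = A1 := by
    ext u
    rw [hEdef, mem_orb]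
    simp
  have hconj : ∀ (i : ℤ) (x : G), y * (y ^ i * x * (y ^ i)⁻¹) * y⁻¹ = y ^ (i + 1) * x * (y ^ (i + 1))⁻¹ :=
    fun i x => by group
  have hainvy : ∀ i : ℤ, a * y ^ i * a⁻¹ = y ^ (-i) := fun i => by
    rw [← conj_zpow, hinv, inv_zpow, zpow_neg]
  have hUdiag : ∀ i, ∀ u ∈ E i, y * u * y⁻¹ ∈ E (i + 1) := by
    rintro i _ ⟨x, hx, rfl⟩
    exact ⟨x, hx, (hconj i x).symm⟩
  have hUa : ∀ i, ∀ u ∈ E i, a * u * a⁻¹ ∈ E (-i) := by
    rintro i _ ⟨x, hx, rfl⟩
    refine mem_orb.mpr ⟨x, hx, ?_⟩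
    have h2 : a * x * a⁻¹ = x := by rw [hA.2.1.comm ha hx.1, mul_inv_cancel_right]
    show y ^ (-i) * x * (y ^ (-i))⁻¹ = a * (y ^ i * x * (y ^ i)⁻¹) * a⁻¹
    rw [← hainvy i]
    conv_lhs => rw [← h2]
    group
  by_cases hall : ∀ i, E i ≤ centralizer (W : Set G)
  · -- every translate centralises `W`
    have hA1Q : A1 ≤ Q := by
      by_contra hnle
      refine hyW (mem_centralizer_iff.mpr fun w hw => ?_)
      have hwA : w ∈ A.map (MulAut.conj (y ^ (1 : ℤ))).toMonoidHom := by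
        by_contra hwn
        have hwE : w ∉ E 1 := fun h => hwn (map_mono inf_le_left h)
        have hcm : ∀ e ∈ E 1, ∀ u ∈ zpowers w, e * u = u * e := by
          intro e he u hu
          obtain ⟨m, rfl⟩ := mem_zpowers_iff.mp hu
          exact (mem_centralizer_iff.mp (hall 1 he) _ (W.zpow_mem hw m)).symm
        set B := E 1 ⊔ zpowers w
        have hB2 : Exp2 B := (hE2 1).sup (exp2_zpowers (S.exp w hw)) hcm
        have hBT : B ≤ T := sup_le (hET 1) (zpowers_le.mpr (S.le_T hw))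
        have hlt : E 1 < B := left_lt_sup.mpr fun h => hwE (h (mem_zpowers w))
        have hBc : Nat.card A ≤ Nat.card B := by
          refine hA1.trans ?_
          rw [← hEc 1]
          obtain ⟨c, hc⟩ := card_dvd_of_le hlt.le
          have hc1 : c ≠ 1 := fun h => hlt.ne (eq_of_le_of_card_ge hlt.le (by rw [hc, h, mul_one]))
          have hc0 : c ≠ 0 := fun h => by
            rw [h, mul_zero] at hc
            exact (Nat.card_pos (α := B)).ne' hc
          rw [hc, mul_comm]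
          exact Nat.mul_le_mul_left _ (by omega)
        have hBQ : B ≤ Q := by
          by_contra hBn
          have h1 := hAmax B (hA.of_card_ge hBT hB2 hBc) hBn
          have h2 : (A ⊓ Q).map (MulAut.conj (y ^ (1 : ℤ))).toMonoidHom < B ⊓ Q := by
            refine lt_of_le_of_ne ?_ fun h => hwn ?_
            · rintro _ ⟨x, hx, rfl⟩
              exact ⟨mem_sup_left (mem_map_of_mem _ (hAQ hx)), Normal.conj_mem inferInstance x hx.2 _⟩
            · exact map_mono inf_le_left (h.ge ⟨mem_sup_right (mem_zpowers w), hWQ hw⟩)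
          have h3 : Nat.card (A ⊓ Q : Subgroup G) < Nat.card (B ⊓ Q : Subgroup G) := by
            rw [← card_map_of_injective (f := (MulAut.conj (y ^ (1 : ℤ))).toMonoidHom)
              (MulAut.conj (y ^ (1 : ℤ))).injective]
            exact lt_of_le_of_ne (card_le_of_le h2.le) fun h => h2.ne (eq_of_le_of_card_ge h2.le h.ge)
          omega
        refine hnle fun x hx => ?_
        have h4 : y ^ (1 : ℤ) * x * (y ^ (1 : ℤ))⁻¹ ∈ Q := hBQ (mem_sup_left ⟨x, hx, rfl⟩)
        have h5 := Normal.conj_mem (inferInstance : Q.Normal) _ h4 (y ^ (1 : ℤ))⁻¹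
        simpa [mul_assoc] using h5
      obtain ⟨x, hx, hxw⟩ := mem_orb.mp hwA
      have h1 : Commute (y * a * y⁻¹) w := by
        rw [← hxw, zpow_one]
        exact (show Commute a x from hA.2.1.comm ha hx).map (MulAut.conj y).toMonoidHom
      have h2 : Commute a w := hA.2.1.comm ha (S.le A hA hw)
      have h3 : y * a * y⁻¹ * a = y * y := by
        calc y * a * y⁻¹ * a = y * (a * y * a⁻¹)⁻¹ * (a * a) := by group
          _ = y * y := by rw [hinv, inv_inv, ha2, mul_one]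
      exact (odd_fixed_of_sq hodd (h3 ▸ h1.mul_left h2)).eq.symm
    set Q0 := ⨆ i, E i with hQ0
    have hQ0Q : Q0 ≤ Q := iSup_le fun i => by
      rintro _ ⟨x, hx, rfl⟩
      exact Normal.conj_mem inferInstance x (hA1Q hx) _
    have hWQ0 : W ≤ Q0 := fun w hw => le_iSup E 0 (hE0.symm ▸ hAQ ⟨S.le A hA hw, hWQ hw⟩)
    let V0 : Subgroup G :=
      { carrier := {x | x ∈ Q0 ∧ x ∈ centralizer (Q0 : Set G) ∧ x * x = 1}
        one_mem' := ⟨one_mem _, one_mem _, one_mul 1⟩
        mul_mem' := fun {x z} hx hz => ⟨mul_mem hx.1 hz.1, mul_mem hx.2.1 hz.2.1, by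
          have h : z * x = x * z := mem_centralizer_iff.mp hx.2.1 z hz.1
          calc x * z * (x * z) = x * (z * x) * z := by group
            _ = x * x * (z * z) := by rw [h]; group
            _ = 1 := by rw [hx.2.2, hz.2.2, one_mul]⟩
        inv_mem' := fun {x} hx => by
          rw [inv_eq_of_mul_eq_one_right hx.2.2]; exact hx }
    have hWV : W ≤ V0 := fun w hw => ⟨hWQ0 hw, (iSup_le fun i u hu =>
      mem_centralizer_singleton_iff.mpr (mem_centralizer_iff.mp (hall i hu) w hw).symm :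
        Q0 ≤ centralizer ({w} : Set G)) |> fun h => mem_centralizer_iff.mpr fun u hu =>
          mem_centralizer_singleton_iff.mp (h hu), S.exp w hw⟩
    have hV02 : Exp2 V0 := fun x hx => hx.2.2
    have hn : ∀ c : G, (∀ u ∈ Q0, c * u * c⁻¹ ∈ Q0) → c ∈ normalizer (V0 : Set G) := by
      intro c hc
      have hcn : c ∈ normalizer (Q0 : Set G) := mem_normalizer_fintype hc
      refine mem_normalizer_fintype fun x hx => ⟨hc x hx.1, mem_centralizer_iff.mpr fun u hu => ?_, ?_⟩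
      · have h1 : c⁻¹ * u * c⁻¹⁻¹ ∈ Q0 := (mem_normalizer_iff.mp (inv_mem hcn) u).mp hu
        have h2 := mem_centralizer_iff.mp hx.2.1 _ h1
        calc u * (c * x * c⁻¹) = c * (c⁻¹ * u * c⁻¹⁻¹ * x) * c⁻¹ := by group
          _ = c * (x * (c⁻¹ * u * c⁻¹⁻¹)) * c⁻¹ := by rw [h2]
          _ = _ := by group
      · calc c * x * c⁻¹ * (c * x * c⁻¹) = c * (x * x) * c⁻¹ := by group
          _ = 1 := by rw [hx.2.2]; group
    have hI : SolvableS4Action.Inverts V0 a y :=
      { elem := hV02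
        comm := fun x hx z hz => hV02.comm hx hz
        na := hn a fun u hu => conj_mem_iSup a (fun i v hv => le_iSup E (-i) (hUa i v hv)) hu
        ny := hn y fun u hu => conj_mem_iSup y (fun i v hv => le_iSup E (i + 1) (hUdiag i v hv)) hu
        sq := by rw [ha2]; exact one_mem _
        inv := by rw [hinv, inv_mul_cancel]; exact one_mem _
        odd := hodd
        moved := fun h => hyW (centralizer_le (fun w hw => hWV hw) h) }
    refine hfree (hI.involves_of_index ?_)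
    have hA1Q0 : A1 ≤ Q0 := hE0 ▸ le_iSup E 0
    have hcm : ∀ u ∈ A1, ∀ v ∈ V0, u * v = v * u := fun u hu v hv =>
      mem_centralizer_iff.mp hv.2.1 u (hA1Q0 hu)
    have h1 := hA.2.2 (A1 ⊔ V0) (sup_le ((inf_le_left).trans hA.1)
      (fun v hv => hQT (hQ0Q hv.1))) ((hA.2.1.mono inf_le_left).sup hV02 hcm)
    have h2 := card_sup_mul hcm
    have h3 : Nat.card (A1 ⊓ V0 : Subgroup G) ≤ Nat.card (V0 ⊓ centralizer ({a} : Set G) : Subgroup G) :=
      card_le_of_le fun x hx => ⟨hx.2, mem_centralizer_singleton_iff.mpr (hA.2.1.comm hx.1.1 ha)⟩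
    suffices h : Nat.card A1 * Nat.card V0 ≤
        Nat.card A1 * (2 * Nat.card (V0 ⊓ centralizer ({a} : Set G) : Subgroup G)) from
      Nat.le_of_mul_le_mul_left h Nat.card_pos
    rw [← h2]
    calc _ ≤ 2 * Nat.card A1 * Nat.card (V0 ⊓ centralizer ({a} : Set G) : Subgroup G) :=
          Nat.mul_le_mul (h1.trans hA1) h3
      _ = _ := by ring
  -- some translate moves `W`
  push Not at hall
  obtain ⟨i0, hi0⟩ := hall
  obtain ⟨hF4, hU⟩ := (hnear i0).2 hi0
  set C0 := E i0 ⊓ centralizer (W : Set G) with hC0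
  have hUQ : C0 ⊔ W ≤ Q := by
    by_contra hUn
    have h1 := hAmax _ hU hUn
    have e1 := card_eq_map_mul Q A
    have e2 := card_eq_map_mul Q (C0 ⊔ W)
    have hcardU : Nat.card A ≤ Nat.card (C0 ⊔ W : Subgroup G) := hU.2.2 A hA.1 hA.2.1
    have hlt : (C0 ⊔ W).map π < A.map π := by
      refine lt_of_le_of_ne ?_ fun h => ?_
      · rw [Subgroup.map_sup, sup_le_iff]
        constructor
        · rintro _ ⟨_, ⟨⟨x, hx, rfl⟩, -⟩, rfl⟩
          exact ⟨x, hx.1, (hycomm x hx i0).symm⟩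
        · rintro _ ⟨w, hw, rfl⟩
          exact ⟨w, S.le A hA hw, rfl⟩
      · -- the image commutes with `π g`
        have hle : (C0 ⊔ W).map π ≤ centralizer ({π g} : Set (G ⧸ Q)) := by
          rw [Subgroup.map_sup, sup_le_iff]
          constructor
          · rintro _ ⟨_, ⟨⟨x, hx, rfl⟩, -⟩, rfl⟩
            exact (hycomm x hx i0).symm ▸ (mem_centralizer_singleton_iff.mpr (mem_hyper.mp hx).2.symm :
              π x ∈ centralizer ({π g} : Set (G ⧸ Q)))
          · rintro _ ⟨w, hw, rfl⟩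
            rw [show π w = 1 from (QuotientGroup.eq_one_iff w).mpr (hWQ hw)]
            exact one_mem _
        exact haH (mem_hyper.mpr ⟨ha,
          (mem_centralizer_singleton_iff.mp (hle (h ▸ mem_map_of_mem π ha))).symm⟩)
    have hc : Nat.card ((C0 ⊔ W).map π) < Nat.card (A.map π) :=
      lt_of_le_of_ne (card_le_of_le hlt.le) fun h => hlt.ne (eq_of_le_of_card_ge hlt.le h.ge)
    have h2 : Nat.card A ≤ Nat.card ((C0 ⊔ W).map π) * Nat.card (A ⊓ Q : Subgroup G) :=
      (hcardU.trans e2.le).trans (Nat.mul_le_mul_left _ h1)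
    have h3 : Nat.card ((C0 ⊔ W).map π) * Nat.card (A ⊓ Q : Subgroup G) < Nat.card A := by
      rw [e1]; exact Nat.mul_lt_mul_of_pos_right hc Nat.card_pos
    omega
  -- the intersection of the members inside `Q`
  set V := ⨅ B : {B : Subgroup G // IsMaxElem T B ∧ B ≤ Q}, (B : Subgroup G) with hV
  have hVle : ∀ B, IsMaxElem T B → B ≤ Q → V ≤ B := fun B h1 h2 =>
    iInf_le (fun B : {B : Subgroup G // IsMaxElem T B ∧ B ≤ Q} => (B : Subgroup G)) ⟨B, h1, h2⟩
  have hWV : W ≤ V := le_iInf fun B => S.le B.1 B.2.1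
  have hVU : V ≤ C0 ⊔ W := hVle _ hU hUQ
  have hV2 : Exp2 V := hU.2.1.mono hVU
  have hVn : ∀ c : G, c ∈ normalizer (V : Set G) := by
    intro c
    refine mem_normalizer_fintype fun v hv => ?_
    refine mem_iInf.mpr fun B => ?_
    have hQn : B.1.map (MulAut.conj c⁻¹).toMonoidHom ≤ Q := by
      rintro _ ⟨x, hx, rfl⟩
      exact Normal.conj_mem inferInstance x (B.2.2 hx) _
    obtain ⟨x, hx, hxv⟩ := hVle _ (B.2.1.map_conj (hQn.trans hQT)) hQn hv
    have : c * v * c⁻¹ = x := by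
      rw [← hxv]
      show c * (c⁻¹ * x * c⁻¹⁻¹) * c⁻¹ = x
      group
    rw [this]; exact hx
  have hC0V : C0 ≤ centralizer (V : Set G) := fun u hu =>
    mem_centralizer_iff.mpr fun v hv => hU.2.1.comm (hVU hv) (mem_sup_left hu)
  have hcV : ∀ (c u : G), u ∈ centralizer (V : Set G) → c * u * c⁻¹ ∈ centralizer (V : Set G) := by
    intro c u hu
    refine mem_centralizer_iff.mpr fun v hv => ?_
    have h1 : c⁻¹ * v * c⁻¹⁻¹ ∈ V := (mem_normalizer_iff.mp (hVn c⁻¹) v).mp hv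
    have h2 := mem_centralizer_iff.mp hu _ h1
    calc v * (c * u * c⁻¹) = c * (c⁻¹ * v * c⁻¹⁻¹ * u) * c⁻¹ := by group
      _ = c * (u * (c⁻¹ * v * c⁻¹⁻¹)) * c⁻¹ := by rw [h2]
      _ = _ := by group
  have hyV : y ∉ centralizer (V : Set G) := fun h => hyW (centralizer_le (fun w hw => hWV hw) h)
  have hI : SolvableS4Action.Inverts V a y :=
    { elem := hV2
      comm := fun x hx z hz => hV2.comm hx hz
      na := hVn a
      ny := hVn y
      sq := by rw [ha2]; exact one_mem _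
      inv := by rw [hinv, inv_mul_cancel]; exact one_mem _
      odd := hodd
      moved := hyV }
  set D := A ⊓ centralizer (V : Set G) with hD
  have hD4 : Nat.card A ≤ 4 * Nat.card D := by
    have h1 : C0.map (MulAut.conj (y ^ i0)⁻¹).toMonoidHom ≤ D := by
      rintro _ ⟨u, hu, rfl⟩
      refine ⟨?_, hcV _ u (hC0V hu)⟩
      obtain ⟨x, hx, rfl⟩ := mem_orb.mp hu.1
      show (y ^ i0)⁻¹ * (y ^ i0 * x * (y ^ i0)⁻¹) * (y ^ i0)⁻¹⁻¹ ∈ A
      rw [show (y ^ i0)⁻¹ * (y ^ i0 * x * (y ^ i0)⁻¹) * (y ^ i0)⁻¹⁻¹ = x by group]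
      exact hx.1
    have h2 : Nat.card C0 ≤ Nat.card D :=
      (card_map_of_injective (MulAut.conj (y ^ i0)⁻¹).injective).ge.trans (card_le_of_le h1)
    have h3 : Nat.card (E i0) ≤ 2 * Nat.card C0 := (hnear i0).1
    rw [hEc] at h3
    omega
  set C := V ⊓ centralizer ({a} : Set G) with hC
  set CA := V ⊓ centralizer (A : Set G) with hCA
  have hV4 : Nat.card V ≤ 4 * Nat.card CA := by
    have hcm : ∀ u ∈ D, ∀ v ∈ V, u * v = v * u := fun u hu v hv =>
      (mem_centralizer_iff.mp hu.2 v hv).symm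
    have h1 := hA.2.2 (D ⊔ V) (sup_le (inf_le_left.trans hA.1) (hVU.trans hU.1))
      ((hA.2.1.mono inf_le_left).sup hV2 hcm)
    have h2 := card_sup_mul hcm
    have h3 : Nat.card (D ⊓ V : Subgroup G) ≤ Nat.card CA := card_le_of_le fun x hx =>
      ⟨hx.2, mem_centralizer_iff.mpr fun u hu => hA.2.1.comm hu hx.1.1⟩
    suffices h : Nat.card D * Nat.card V ≤ Nat.card D * (4 * Nat.card CA) from
      Nat.le_of_mul_le_mul_left h Nat.card_pos
    rw [← h2]
    calc _ ≤ 4 * Nat.card D * Nat.card CA := Nat.mul_le_mul (h1.trans hD4) h3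
      _ = _ := by ring
  have hCAC : CA ≤ C := fun x hx =>
    ⟨hx.1, mem_centralizer_singleton_iff.mpr (mem_centralizer_iff.mp hx.2 a ha).symm⟩
  obtain ⟨hCeq, hVC⟩ : CA = C ∧ Nat.card V = 4 * Nat.card C := by
    have hgt : ¬ Nat.card V ≤ 2 * Nat.card C := fun h => hfree (hI.involves_of_index h)
    obtain ⟨i, hi⟩ := IsPGroup.iff_card.mp hV2.isPGroup
    obtain ⟨j, hj⟩ := IsPGroup.iff_card.mp (hV2.mono (inf_le_left : C ≤ V)).isPGroup
    have hle := card_le_of_le hCAC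
    rw [hi] at hV4 hgt
    rw [hj] at hgt hle
    have h1 : j + 1 < i := by
      rw [← Nat.pow_lt_pow_iff_right (one_lt_two : 1 < 2), pow_succ, mul_comm]
      omega
    have h2 : 2 ^ (j + 2) ≤ 2 ^ i := Nat.pow_le_pow_right (by norm_num) h1
    rw [pow_add, show (2 : ℕ) ^ 2 = 4 by rfl] at h2
    refine ⟨eq_of_le_of_card_ge hCAC (by rw [hj]; omega), ?_⟩
    rw [hi, hj]
    omega
  have hCfix : ∀ v ∈ C, ∀ x ∈ A, Commute x v := fun v hv x hx => by
    rw [← hCeq] at hv
    exact mem_centralizer_iff.mp hv.2 x hx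
  have hWC : W ≤ C := fun w hw => ⟨hWV hw, mem_centralizer_singleton_iff.mpr
    (hA.2.1.comm (S.le A hA hw) ha)⟩
  -- common fixed points
  set D2 := C ⊓ centralizer ({y} : Set G) with hD2
  have hD2C : D2 ≤ C := inf_le_left
  have hD2y : ∀ v ∈ D2, ∀ i : ℤ, Commute (y ^ i) v := fun v hv i =>
    (show Commute y v from (mem_centralizer_singleton_iff.mp hv.2).symm).zpow_left i
  have hD2E : ∀ i, ∀ u ∈ E i, ∀ v ∈ D2, Commute u v := by
    rintro i _ ⟨x, hx, rfl⟩ v hv
    have h1 := hD2y v hv i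
    exact (h1.mul_left (hCfix v hv.1 x hx.1)).mul_left h1.inv_left
  let Cj : ℤ → Subgroup G := fun j => C.map (MulAut.conj (y ^ j)).toMonoidHom
  have hCjV : ∀ j, Cj j ≤ V := by
    rintro j _ ⟨v, hv, rfl⟩
    exact (mem_normalizer_iff.mp (hVn _) v).mp hv.1
  have hint : ∀ j : ℤ, ∀ v ∈ C ⊓ Cj j, Commute (y ^ j) v := by
    intro j v hv
    obtain ⟨hvC, c, hc, hcv⟩ := hv
    have h1 : Commute a v := (mem_centralizer_singleton_iff.mp hvC.2).symm
    have h2 : Commute (y ^ j * a * (y ^ j)⁻¹) v := by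
      rw [← hcv]
      exact (show Commute a c from (mem_centralizer_singleton_iff.mp hc.2).symm).map
        (MulAut.conj (y ^ j)).toMonoidHom
    have h3 : y ^ j * a * (y ^ j)⁻¹ * a = y ^ j * y ^ j := by
      calc y ^ j * a * (y ^ j)⁻¹ * a = y ^ j * (a * y ^ j * a⁻¹)⁻¹ * (a * a) := by group
        _ = y ^ j * y ^ j := by rw [hainvy, ha2, mul_one, zpow_neg, inv_inv]
    have hjo : Odd (orderOf (y ^ j)) := hodd.of_dvd_nat (orderOf_dvd_of_pow_eq_one (by
      rw [← zpow_natCast (y ^ j), ← zpow_mul, mul_comm, zpow_mul, zpow_natCast, pow_orderOf_eq_one,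
        one_zpow]))
    exact odd_fixed_of_sq hjo (h3 ▸ h2.mul_left h1)
  have hWD : 4 * Nat.card (W ⊓ D2 : Subgroup G) ≤ Nat.card W := by
    rw [← hF4]
    refine Nat.mul_le_mul_left _ (card_le_of_le fun v hv => ⟨hv.1, mem_centralizer_iff.mpr fun u hu =>
      (hD2E i0 u hu v hv.2).eq⟩)
  have hCcomm : ∀ i j : Subgroup G, i ≤ V → j ≤ V → ∀ u ∈ i, ∀ v ∈ j, u * v = v * u :=
    fun i j hi hj u hu v hv => hV2.comm (hi hu) (hj hv)
  have hCV : C ≤ V := inf_le_left
  have hC1 : (C ⊓ Cj 1) = D2 := by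
    apply le_antisymm
    · intro v hv
      have h := hint 1 v hv
      rw [zpow_one] at h
      exact ⟨hv.1, mem_centralizer_singleton_iff.mpr h.eq.symm⟩
    · intro v hv
      exact ⟨hv.1, v, hv.1, by
        show y ^ (1 : ℤ) * v * (y ^ (1 : ℤ))⁻¹ = v
        rw [(hD2y v hv 1).eq, mul_inv_cancel_right]⟩
  have hCD : Nat.card C = 4 * Nat.card D2 := by
    have h1 := card_sup_mul (hCcomm C (Cj 1) hCV (hCjV 1))
    have hcj : Nat.card (Cj 1) = Nat.card C := card_map_of_injective (MulAut.conj (y ^ (1 : ℤ))).injective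
    rw [hC1, hcj] at h1
    have h2 : Nat.card C * Nat.card C ≤ Nat.card C * (4 * Nat.card D2) := by
      rw [← h1]
      calc _ ≤ Nat.card V * Nat.card D2 :=
            Nat.mul_le_mul_right _ (card_le_of_le (sup_le hCV (hCjV 1)))
        _ = _ := by rw [hVC]; ring
    have h3 := Nat.le_of_mul_le_mul_left h2 Nat.card_pos
    have h4 := card_sup_mul (hCcomm W D2 hWV (hD2C.trans hCV))
    have h5 : Nat.card (W ⊓ D2 : Subgroup G) * (4 * Nat.card D2) ≤
        Nat.card (W ⊓ D2 : Subgroup G) * Nat.card C := by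
      calc _ = 4 * Nat.card (W ⊓ D2 : Subgroup G) * Nat.card D2 := by ring
        _ ≤ Nat.card W * Nat.card D2 := Nat.mul_le_mul_right _ hWD
        _ = Nat.card (W ⊔ D2 : Subgroup G) * Nat.card (W ⊓ D2 : Subgroup G) := h4.symm
        _ ≤ Nat.card C * Nat.card (W ⊓ D2 : Subgroup G) :=
            Nat.mul_le_mul_right _ (card_le_of_le (sup_le hWC hD2C))
        _ = _ := mul_comm _ _
    exact le_antisymm h3 (Nat.le_of_mul_le_mul_left h5 Nat.card_pos)
  have hspan : ∀ j, Nat.card (C ⊓ Cj j : Subgroup G) ≤ Nat.card D2 → V ≤ C ⊔ Cj j := by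
    intro j hj
    have h1 := card_sup_mul (hCcomm C (Cj j) hCV (hCjV j))
    rw [show Nat.card (Cj j) = Nat.card C from
      card_map_of_injective (MulAut.conj (y ^ j)).injective] at h1
    refine (eq_of_le_of_card_ge (sup_le hCV (hCjV j)) ?_).ge
    refine Nat.le_of_mul_le_mul_right ?_ (Nat.card_pos (α := D2))
    calc Nat.card V * Nat.card D2 = Nat.card C * Nat.card C := by rw [hVC]; nth_rw 3 [hCD]; ring
      _ = _ := h1.symm
      _ ≤ _ := Nat.mul_le_mul_left _ hj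
  have hWD2C : C ≤ W ⊔ D2 := by
    have h1 := card_sup_mul (hCcomm W D2 hWV (hD2C.trans hCV))
    refine (eq_of_le_of_card_ge (sup_le hWC hD2C) ?_).ge
    refine Nat.le_of_mul_le_mul_right ?_ (Nat.card_pos (α := (W ⊓ D2 : Subgroup G)))
    calc Nat.card C * Nat.card (W ⊓ D2 : Subgroup G) = 4 * Nat.card (W ⊓ D2 : Subgroup G) * Nat.card D2 := by
          rw [hCD]; ring
      _ ≤ Nat.card W * Nat.card D2 := Nat.mul_le_mul_right _ hWD
      _ = _ := h1.symm
  -- the group generated by the translates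
  set Sg := ⨆ i, E i with hSg
  have hSgT : Sg ≤ T := iSup_le hET
  have hSgD : ∀ v ∈ D2, Sg ≤ centralizer ({v} : Set G) := fun v hv =>
    iSup_le fun i u hu => mem_centralizer_singleton_iff.mpr (hD2E i u hu v hv).eq
  set K0 := Sg ⊓ centralizer (W : Set G) with hK0
  have hK0C : ∀ u ∈ K0, ∀ v ∈ C, Commute u v := by
    intro u hu v hv
    have hle : W ⊔ D2 ≤ centralizer ({u} : Set G) := sup_le
      (fun w hw => mem_centralizer_singleton_iff.mpr (mem_centralizer_iff.mp hu.2 w hw))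
      (fun d hd => mem_centralizer_singleton_iff.mpr (mem_centralizer_singleton_iff.mp (hSgD d hd hu.1)).symm)
    exact (mem_centralizer_singleton_iff.mp (hle (hWD2C hv))).symm
  have hK0mem : ∀ u ∈ Sg, (∀ w ∈ W, Commute u w) → u ∈ K0 := fun u hu h =>
    ⟨hu, mem_centralizer_iff.mpr fun w hw => (h w hw).eq.symm⟩
  have htwo : Nat.card Sg ≤ 2 * Nat.card K0 := by
    by_contra hbig
    haveI hKn : (K0.subgroupOf Sg).Normal := by
      refine normal_subgroupOf_of_le_normalizer fun s hs => ?_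
      refine mem_normalizer_fintype fun u hu => ⟨Sg.mul_mem (Sg.mul_mem hs hu.1) (Sg.inv_mem hs),
        mem_centralizer_iff.mpr fun w hw => ?_⟩
      have h1 : s⁻¹ * w * s⁻¹⁻¹ ∈ W := (mem_normalizer_iff.mp (inv_mem (S.norm (hSgT hs))) w).mp hw
      have h2 := mem_centralizer_iff.mp hu.2 _ h1
      calc w * (s * u * s⁻¹) = s * (s⁻¹ * w * s⁻¹⁻¹ * u) * s⁻¹ := by group
        _ = s * (u * (s⁻¹ * w * s⁻¹⁻¹)) * s⁻¹ := by rw [h2]
        _ = _ := by group
    set φ := QuotientGroup.mk' (K0.subgroupOf Sg) with hφ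
    have hφ1 : ∀ s : Sg, φ s = 1 ↔ (s : G) ∈ K0 := fun s => QuotientGroup.eq_one_iff s
    have hΛp : IsPGroup 2 (Sg ⧸ K0.subgroupOf Sg) :=
      (S.isTwo.to_le hSgT).of_surjective φ (QuotientGroup.mk'_surjective _)
    have hcard : 2 < Nat.card (Sg ⧸ K0.subgroupOf Sg) := by
      have h1 := (K0.subgroupOf Sg).card_eq_card_quotient_mul_card_subgroup
      rw [Nat.card_congr (subgroupOfEquivOfLe (inf_le_left : K0 ≤ Sg)).toEquiv] at h1
      by_contra hle
      exact hbig (h1 ▸ Nat.mul_le_mul_right _ (by omega))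
    haveI : Nontrivial (Sg ⧸ K0.subgroupOf Sg) := Finite.one_lt_card_iff_nontrivial.mp (by omega)
    haveI := hΛp.center_nontrivial
    obtain ⟨c, hc⟩ := exists_prime_orderOf_dvd_card' (G := center (Sg ⧸ K0.subgroupOf Sg)) 2
      (by
        obtain ⟨n, hn0, hn⟩ := (IsPGroup.nontrivial_iff_card (hΛp.to_subgroup _)).mp
          (inferInstance : Nontrivial (center (Sg ⧸ K0.subgroupOf Sg)))
        rw [hn]; exact dvd_pow_self 2 hn0.ne')
    set z : Sg ⧸ K0.subgroupOf Sg := (c : Sg ⧸ K0.subgroupOf Sg) with hzdef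
    have hzo : orderOf z = 2 := by rw [hzdef, orderOf_submonoid]; exact hc
    have hz2 : z * z = 1 := by rw [← pow_two, ← hzo, pow_orderOf_eq_one]
    -- a generator outside `⟨z⟩`
    obtain ⟨i, s, hs, hsz⟩ : ∃ i, ∃ s : Sg, (s : G) ∈ E i ∧ φ s ∉ zpowers z := by
      by_contra hno
      push Not at hno
      have hle : Sg ≤ ((zpowers z).comap φ).map Sg.subtype := iSup_le fun i u hu =>
        ⟨⟨u, le_iSup E i hu⟩, hno i ⟨u, le_iSup E i hu⟩ hu, rfl⟩
      have htop : zpowers z = ⊤ := by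
        refine eq_top_iff.mpr fun q _ => ?_
        obtain ⟨s, rfl⟩ := QuotientGroup.mk'_surjective _ q
        obtain ⟨s', hs', hss⟩ := hle s.2
        exact (Subtype.ext hss : s' = s) ▸ hs'
      have := congrArg (fun K : Subgroup (Sg ⧸ K0.subgroupOf Sg) => Nat.card K) htop
      simp only [Nat.card_zpowers, Subgroup.card_top, hzo] at this
      omega
    have hs2 : φ s * φ s = 1 := by
      rw [← map_mul, show s * s = 1 from Subtype.ext (hE2 i _ hs), map_one]
    have hcm : ∀ u ∈ zpowers z, ∀ v ∈ zpowers (φ s), u * v = v * u := by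
      intro u hu v hv
      obtain ⟨m, rfl⟩ := mem_zpowers_iff.mp hu
      exact ((mem_center_iff.mp (zpow_mem c.2 m)) v).symm
    set P2 := zpowers z ⊔ zpowers (φ s) with hP2
    have hP2e : Exp2 P2 := (exp2_zpowers hz2).sup (exp2_zpowers hs2) hcm
    have hP2c : 4 ≤ Nat.card P2 := by
      have hlt : zpowers z < P2 := left_lt_sup.mpr fun h => hsz (h (mem_zpowers _))
      obtain ⟨d, hd⟩ := card_dvd_of_le hlt.le
      have hd1 : d ≠ 1 := fun h => hlt.ne (eq_of_le_of_card_ge hlt.le (by rw [hd, h, mul_one]))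
      have hd0 : d ≠ 0 := fun h => by rw [h, mul_zero] at hd; exact (Nat.card_pos (α := P2)).ne' hd
      rw [hd, Nat.card_zpowers, hzo]
      omega
    set E' := (P2.comap φ).map Sg.subtype with hE'
    have hE'S : E' ≤ Sg := map_subtype_le _
    have hg2 := S.gap E' (hE'S.trans hSgT) (by
      rintro _ ⟨u, hu, rfl⟩ _ ⟨v, hv, rfl⟩
      refine ((hφ1 (u * v * u⁻¹ * v⁻¹)).mp ?_).2
      rw [map_mul, map_mul, map_mul, map_inv, map_inv, hP2e.comm hu hv, mul_inv_cancel_right, mul_inv_cancel])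
      (by
      rintro _ ⟨u, hu, rfl⟩
      refine ((hφ1 (u * u)).mp ?_).2
      rw [map_mul]; exact hP2e _ hu)
    have hfix : Nat.card (W ⊓ D2 : Subgroup G) ≤ Nat.card (W ⊓ centralizer (E' : Set G) : Subgroup G) :=
      card_le_of_le fun v hv => ⟨hv.1, mem_centralizer_iff.mpr fun u hu =>
        mem_centralizer_singleton_iff.mp (hSgD v hv.2 (hE'S hu))⟩
    have hK' : E' ⊓ centralizer (W : Set G) ≤ K0 := fun u hu => ⟨hE'S hu.1, hu.2⟩
    have hE'c : 4 * Nat.card K0 ≤ Nat.card E' := by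
      have h1 := card_eq_map_mul (K0.subgroupOf Sg) (P2.comap φ)
      rw [map_comap_eq_self_of_surjective (QuotientGroup.mk'_surjective _),
        inf_eq_right.mpr (fun x hx => mem_comap.mpr (by rw [(hφ1 x).mpr (mem_subgroupOf.mp hx)]; exact one_mem _)),
        Nat.card_congr (subgroupOfEquivOfLe (inf_le_left : K0 ≤ Sg)).toEquiv] at h1
      rw [hE', card_map_of_injective Sg.subtype_injective, h1]
      exact Nat.mul_le_mul_right _ hP2c
    have h6 : Nat.card W ≤ 4 * Nat.card (W ⊓ D2 : Subgroup G) := by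
      have h4 := card_sup_mul (hCcomm W D2 hWV (hD2C.trans hCV))
      refine Nat.le_of_mul_le_mul_right ?_ (Nat.card_pos (α := D2))
      rw [← h4, mul_right_comm, ← hCD]
      exact Nat.mul_le_mul_right _ (card_le_of_le (sup_le hWC hD2C))
    have hKp := Nat.card_pos (α := K0)
    have hDp := Nat.card_pos (α := (W ⊓ D2 : Subgroup G))
    have h7 : (4 * Nat.card K0) ^ 2 * Nat.card (W ⊓ D2 : Subgroup G) ≤
        4 * Nat.card (W ⊓ D2 : Subgroup G) * Nat.card K0 ^ 2 :=
      (Nat.mul_le_mul (Nat.pow_le_pow_left hE'c 2) hfix).trans (hg2.trans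
        (Nat.mul_le_mul h6 (Nat.pow_le_pow_left (card_le_of_le hK') 2)))
    have h8 : 0 < Nat.card K0 ^ 2 * Nat.card (W ⊓ D2 : Subgroup G) := by positivity
    nlinarith
  -- the conjugates of `K0` by powers of `y`
  let K : ℤ → Subgroup G := fun j => K0.map (MulAut.conj (y ^ j)).toMonoidHom
  have hSgy : ∀ (j : ℤ), ∀ u ∈ Sg, y ^ j * u * (y ^ j)⁻¹ ∈ Sg := by
    intro j u hu
    refine conj_mem_iSup (y ^ j) (fun i v hv => ?_) hu
    obtain ⟨x, hx, rfl⟩ := mem_orb.mp hv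
    exact le_iSup E (j + i) ⟨x, hx, by
      show y ^ (j + i) * x * (y ^ (j + i))⁻¹ = _
      group⟩
  have hKS : ∀ j, K j ≤ Sg := by
    rintro j _ ⟨u, hu, rfl⟩
    exact hSgy j u hu.1
  have hKfix : ∀ j, ∀ u ∈ K j, ∀ v ∈ Cj j, Commute u v := by
    rintro j _ ⟨u, hu, rfl⟩ _ ⟨v, hv, rfl⟩
    exact (hK0C u hu v hv).map (MulAut.conj (y ^ j)).toMonoidHom
  have hK2 : ∀ j, Nat.card Sg ≤ 2 * Nat.card (K j) := fun j => by
    rw [card_map_of_injective (MulAut.conj (y ^ j)).injective]; exact htwo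
  set Ks := Sg ⊓ centralizer (V : Set G) with hKs
  have hV01 : ∀ j, V ≤ C ⊔ Cj j → K0 ⊓ K j ≤ Ks := by
    intro j hj u hu
    have h1 : C ⊔ Cj j ≤ centralizer ({u} : Set G) := sup_le
      (fun v hv => mem_centralizer_singleton_iff.mpr (hK0C u hu.1 v hv).symm.eq)
      (fun v hv => mem_centralizer_singleton_iff.mpr (hKfix j u hu.2 v hv).symm.eq)
    exact ⟨hu.1.1, mem_centralizer_iff.mpr fun v hv => mem_centralizer_singleton_iff.mp (h1 (hj hv))⟩
  have hKsy : ∀ (j : ℤ), ∀ u ∈ Ks, y ^ j * u * (y ^ j)⁻¹ ∈ Ks := fun j u hu =>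
    ⟨hSgy j u hu.1, hcV _ u hu.2⟩
  -- a translate of `A1` outside the kernel
  obtain ⟨e, he, heW⟩ := SetLike.not_le_iff_exists.mp hi0
  obtain ⟨x, hx, hxe⟩ := mem_orb.mp he
  have hxS : x ∈ Sg := le_iSup E 0 (hE0.symm ▸ hx)
  have hxK : x ∈ K0 := hK0mem x hxS fun w hw => hA.2.1.comm hx.1 (S.le A hA hw)
  have hxKs : x ∉ Ks := fun h => heW (centralizer_le (fun w hw => hWV hw) (hxe ▸ (hcV _ x h.2)))
  set xj : ℤ → G := fun j => y ^ j * x * (y ^ j)⁻¹ with hxj
  have hxjK : ∀ j, xj j ∈ K j := fun j => ⟨x, hxK, rfl⟩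
  have hxjKs : ∀ j, xj j ∉ Ks := fun j h => hxKs (by
    have := hKsy (-j) _ h
    rwa [show y ^ (-j) * (y ^ j * x * (y ^ j)⁻¹) * (y ^ (-j))⁻¹ = x by group] at this)
  -- consecutive and doubly shifted members meet in the kernel
  have hfix1 : ∀ v ∈ C, Commute y v → v ∈ D2 := fun v hv h =>
    ⟨hv, mem_centralizer_singleton_iff.mpr h.eq.symm⟩
  have hs1 : V ≤ C ⊔ Cj 1 := hspan 1 (by rw [hC1])
  have hs2 : V ≤ C ⊔ Cj 2 := by
    refine hspan 2 (card_le_of_le fun v hv => hfix1 v hv.1 ?_)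
    have h := hint 2 v hv
    rw [zpow_two] at h
    exact odd_fixed_of_sq hodd h
  have hshift : ∀ (i j : ℤ) (u : G), u ∈ K i → (y ^ j * u * (y ^ j)⁻¹) ∈ K (j + i) := by
    rintro i j _ ⟨v, hv, rfl⟩
    exact ⟨v, hv, by
      show y ^ (j + i) * v * (y ^ (j + i))⁻¹ = y ^ j * (y ^ i * v * (y ^ i)⁻¹) * (y ^ j)⁻¹
      group⟩
  have hK0eq : K 0 = K0 := by
    ext u
    show (∃ v ∈ K0, y ^ (0 : ℤ) * v * (y ^ (0 : ℤ))⁻¹ = u) ↔ _
    simp
  have hmeet : ∀ i d : ℤ, V ≤ C ⊔ Cj d → K i ⊓ K (i + d) ≤ Ks := by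
    intro i d hd u hu
    have h1 : (y ^ (-i) * u * (y ^ (-i))⁻¹) ∈ K0 ⊓ K d :=
      ⟨hK0eq ▸ (by simpa using hshift i (-i) u hu.1 : y ^ (-i) * u * (y ^ (-i))⁻¹ ∈ K (0 : ℤ)), by
        have := hshift (i + d) (-i) u hu.2
        rwa [neg_add_cancel_left] at this⟩
    have h2 := hKsy i _ (hV01 d hd h1)
    rwa [show y ^ i * (y ^ (-i) * u * (y ^ (-i))⁻¹) * (y ^ i)⁻¹ = u by group] at h2
  have hout : ∀ i d : ℤ, V ≤ C ⊔ Cj d → xj i ∉ K (i + d) ∧ xj (i + d) ∉ K i := fun i d hd =>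
    ⟨fun h => hxjKs i (hmeet i d hd ⟨hxjK i, h⟩), fun h => hxjKs (i + d) (hmeet i d hd ⟨h, hxjK (i + d)⟩)⟩
  have hS0 : xj 0 ∈ Sg := hKS 0 (hxjK 0)
  have hS3 : xj 3 ∈ Sg := hKS 3 (hxjK 3)
  have hp : xj 0 * xj 3 ∈ Ks := by
    refine hmeet 1 1 hs1 ⟨?_, ?_⟩
    · exact mul_mem_of_card_le (hKS 1) (hK2 1) hS0 hS3 (hout 0 1 hs1).1 (hout 1 2 hs2).2
    · exact mul_mem_of_card_le (hKS _) (hK2 _) hS0 hS3 (by exact (hout 0 2 hs2).1) (by exact (hout 2 1 hs1).2)
  have hx3 : xj 3 ∈ K0 := by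
    have h0 : xj 0 = x := by simp [hxj]
    rw [h0] at hp
    have h1 : x * xj 3 ∈ K0 := hK0mem _ hp.1 fun w hw =>
      (mem_centralizer_iff.mp hp.2 w (hWV hw)).symm
    have := K0.mul_mem (K0.inv_mem hxK) h1
    rwa [inv_mul_cancel_left] at this
  by_cases h3 : ∀ v ∈ C ⊓ Cj 3, Commute y v
  · exact hxjKs 3 (hV01 3 (hspan 3 (card_le_of_le fun v hv => hfix1 v hv.1 (h3 v hv))) ⟨hx3, hxjK 3⟩)
  push Not at h3
  obtain ⟨v, hv, hvy⟩ := h3
  -- `y` has order three on the fixed points of its cube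
  set U := V ⊓ centralizer ({y ^ (3 : ℤ)} : Set G) with hU3
  have hvU : v ∈ U := ⟨hCV hv.1, mem_centralizer_singleton_iff.mpr (hint 3 v hv).eq.symm⟩
  have hUn : ∀ c : G, Commute c (y ^ (3 : ℤ)) ∨ c * y ^ (3 : ℤ) * c⁻¹ = (y ^ (3 : ℤ))⁻¹ →
      c ∈ normalizer (U : Set G) := by
    intro c hc
    refine mem_normalizer_fintype fun u hu => ⟨(mem_normalizer_iff.mp (hVn c) u).mp hu.1, ?_⟩
    have h1 : Commute (y ^ (3 : ℤ)) u := (mem_centralizer_singleton_iff.mp hu.2).symm
    have h2 : Commute (c * y ^ (3 : ℤ) * c⁻¹) (c * u * c⁻¹) := h1.map (MulAut.conj c).toMonoidHom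
    refine mem_centralizer_singleton_iff.mpr (Eq.symm ?_)
    rcases hc with hc | hc
    · rw [show c * y ^ (3 : ℤ) * c⁻¹ = y ^ (3 : ℤ) by rw [hc.eq, mul_inv_cancel_right]] at h2
      exact h2.eq
    · rw [hc] at h2
      exact (inv_inv (y ^ (3 : ℤ)) ▸ h2.inv_left : Commute (y ^ (3 : ℤ)) (c * u * c⁻¹)).eq
  have hI3 : SolvableS4Action.Inverts U a y :=
    { elem := hV2.mono inf_le_left
      comm := fun p hp q hq => hV2.comm hp.1 hq.1
      na := hUn a (Or.inr (by rw [hainvy, zpow_neg]))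
      ny := hUn y (Or.inl (Commute.self_zpow y 3))
      sq := by rw [ha2]; exact one_mem _
      inv := by rw [hinv, inv_mul_cancel]; exact one_mem _
      odd := hodd
      moved := fun h => hvy (mem_centralizer_iff.mp h v hvU).symm }
  refine hfree (hI3.involves_of_cube (mem_centralizer_iff.mpr fun u hu => ?_))
  have h := mem_centralizer_singleton_iff.mp hu.2
  rwa [show (y ^ 3 : G) = y ^ (3 : ℤ) from (zpow_natCast y 3).symm]

end Cfsg.Agent.SolvableS4Key
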