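import Mathlib
import Cfsg.Prelude.Def_Solvable
import Cfsg.Prelude.Def_LocalEven
import Cfsg.Agent.Lib.HallCore
import Cfsg.Agent.Lib.LocalBasics
import Cfsg.Agent.Lib.CoprimeAction
import Cfsg.Agent.Lib.CoprimeGen
import Cfsg.Agent.Lib.FusionQd
import Cfsg.Agent.Lib.SolvableS4Gap
import Cfsg.Agent.Lib.SolvableS4Key

/-!
In a constrained solvable `S₄`-free group with a module `W` having the gap property, a subgroup
containing a Sylow `2`-subgroup, `C(W)` and all elements permuting the elementary abelian subgroups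
of largest order is the whole group.
-/

set_option autoImplicit false

open Subgroup

namespace Cfsg.Agent.SolvableS4Unique

open Cfsg.Agent.SolvableS4Key

universe u

variable {G : Type u} [Group G] [Finite G]

/-- An odd group acted on by an elementary abelian `2`-group is generated by centralisers of hyperplanes. -/
theorem le_of_hyperplanes (X : Subgroup G) : ∀ (K H : Subgroup G), Exp2 X →
    X ≤ normalizer (K : Set G) → Odd (Nat.card K) →
    (∀ Y ≤ X, Nat.card X ≤ 2 * Nat.card Y → K ⊓ centralizer (Y : Set G) ≤ H) → K ≤ H := by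
  induction hn : Nat.card X using Nat.strong_induction_on generalizing X with
  | _ n ih =>
  intro K H hX hXK hodd hfix
  by_cases hcyc : IsCyclic X
  · obtain ⟨x, hx⟩ := hcyc.exists_generator
    have hc : Nat.card X ≤ 2 := by
      rw [← orderOf_eq_card_of_forall_mem_zpowers hx]
      exact Nat.le_of_dvd two_pos (orderOf_dvd_of_pow_eq_one (Subtype.ext (by
        rw [Subgroup.coe_pow, pow_two]; exact hX _ x.2)))
    refine fun k hk => hfix ⊥ bot_le (by rw [card_bot, mul_one, ← hn]; exact hc) ⟨hk, ?_⟩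
    exact mem_centralizer_iff.mpr fun e he => by rw [mem_bot.mp he, one_mul, mul_one]
  · haveI : IsMulCommutative X := ⟨⟨fun a b => Subtype.ext (hX.comm a.2 b.2)⟩⟩
    refine CoprimeGen.le_of_centralizers hcyc hXK ?_ ?_
    · obtain ⟨e, he⟩ := (IsPGroup.iff_card (p := 2)).mp hX.isPGroup
      rw [he]
      exact (Nat.coprime_two_left.mpr hodd).pow_left e
    intro a ha ha1
    obtain ⟨X0, ⟨hX0, haX0⟩, hmax⟩ := Set.exists_max_image {Y : Subgroup G | Y ≤ X ∧ a ∉ Y}
      (fun Y => Nat.card Y) (Set.toFinite _) ⟨⊥, bot_le, fun h => ha1 (mem_bot.mp h)⟩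
    have hcma : ∀ {Y : Subgroup G}, Y ≤ X → ∀ u ∈ Y, ∀ v ∈ zpowers a, u * v = v * u := fun hY u hu v hv =>
      hX.comm (hY hu) ((zpowers_le.mpr ha) hv)
    have hdis : ∀ {Y : Subgroup G}, Y ≤ X0 →
        Nat.card (Y ⊔ zpowers a : Subgroup G) = 2 * Nat.card Y := by
      intro Y hY
      have h1 := card_sup_mul (hcma (hY.trans hX0))
      have ho : orderOf a = 2 := orderOf_eq_prime (by rw [pow_two]; exact hX a ha) ha1
      have hinf : Y ⊓ zpowers a = ⊥ := by
        rw [eq_bot_iff]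
        intro v hv
        obtain ⟨m, rfl⟩ := mem_zpowers_iff.mp hv.2
        rcases Int.even_or_odd' m with ⟨j, rfl | rfl⟩
        · rw [mem_bot, zpow_mul, zpow_two, hX a ha, one_zpow]
        · refine absurd (hY hv.1) ?_
          rw [zpow_add, zpow_mul, zpow_two, hX a ha, one_zpow, one_mul, zpow_one]
          exact haX0
      rw [hinf, card_bot, mul_one, Nat.card_zpowers, ho] at h1
      rw [h1, mul_comm]
    have hX0a : X ≤ X0 ⊔ zpowers a := by
      intro c hc
      by_contra hcn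
      have hcX : X0 ⊔ zpowers c ≤ X := sup_le hX0 (zpowers_le.mpr hc)
      have hac : a ∈ X0 ⊔ zpowers c := by
        by_contra hna
        have h1 := hmax (X0 ⊔ zpowers c) ⟨hcX, hna⟩
        have h2 : X0 = X0 ⊔ zpowers c := eq_of_le_of_card_ge le_sup_left h1
        exact hcn (mem_sup_left (h2.ge (mem_sup_right (mem_zpowers c))))
      have hn : zpowers c ≤ normalizer (X0 : Set G) :=
        OffendersReplace.le_normalizer_of_commute fun u hu v hv =>
          hX.comm ((zpowers_le.mpr hc) hu) (hX0 hv)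
      rw [← SetLike.mem_coe, coe_mul_of_right_le_normalizer_left X0 _ hn] at hac
      obtain ⟨x, hx, v, hv, hxv⟩ := Set.mem_mul.mp hac
      obtain ⟨m, rfl⟩ := mem_zpowers_iff.mp hv
      rcases Int.even_or_odd' m with ⟨j, rfl | rfl⟩
      · rw [zpow_mul, zpow_two, hX c hc, one_zpow, mul_one] at hxv
        exact haX0 (hxv ▸ hx)
      · rw [zpow_add, zpow_mul, zpow_two, hX c hc, one_zpow, one_mul, zpow_one] at hxv
        refine hcn ?_
        rw [show c = x⁻¹ * a by rw [← hxv, inv_mul_cancel_left]]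
        exact mul_mem (mem_sup_left (X0.inv_mem hx)) (mem_sup_right (mem_zpowers a))
    have hlt : Nat.card X0 < n := hn ▸ lt_of_le_of_ne (card_le_of_le hX0) fun h =>
      haX0 ((eq_of_le_of_card_ge hX0 h.ge).ge ha)
    refine ih _ hlt X0 rfl (K ⊓ centralizer {a}) H (hX.mono hX0) ?_ ?_ ?_
    · intro e he
      refine mem_normalizer_fintype fun k hk => ⟨(mem_normalizer_iff.mp (hXK (hX0 he)) k).mp hk.1, ?_⟩
      have h1 : Commute a k := (mem_centralizer_singleton_iff.mp hk.2).symm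
      have h2 : Commute a e := hX.comm ha (hX0 he)
      exact mem_centralizer_singleton_iff.mpr (((h2.mul_right h1).mul_right h2.inv_right).eq).symm
    · exact hodd.of_dvd_nat (card_dvd_of_le inf_le_left)
    · intro Y0 hY0 hc0 k hk
      refine hfix (Y0 ⊔ zpowers a) (sup_le (hY0.trans hX0) (zpowers_le.mpr ha)) ?_ ⟨hk.1.1, ?_⟩
      · rw [hdis hY0]
        calc n ≤ Nat.card (X0 ⊔ zpowers a : Subgroup G) := hn ▸ card_le_of_le hX0a
          _ = 2 * Nat.card X0 := hdis le_rfl
          _ ≤ _ := Nat.mul_le_mul_left _ hc0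
      · have hle : Y0 ⊔ zpowers a ≤ centralizer ({k} : Set G) := sup_le
          (fun u hu => mem_centralizer_singleton_iff.mpr (mem_centralizer_iff.mp hk.2 u hu))
          (zpowers_le.mpr (mem_centralizer_singleton_iff.mpr (mem_centralizer_singleton_iff.mp hk.1.2).symm))
        exact mem_centralizer_iff.mpr fun u hu => mem_centralizer_singleton_iff.mp (hle hu)

omit [Finite G] in
theorem centralizer_subgroupOf {W L : Subgroup G} (hW : W ≤ L) :
    centralizer ((W.subgroupOf L : Subgroup L) : Set L) = (centralizer (W : Set G)).subgroupOf L := by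
  ext x
  rw [mem_centralizer_iff, mem_subgroupOf, mem_centralizer_iff]
  constructor
  · intro h w hw
    exact congrArg Subtype.val (h ⟨w, hW hw⟩ hw)
  · intro h w hw
    exact Subtype.ext (h w hw)

omit [Finite G] in
theorem card_subgroupOf {W L : Subgroup G} (hW : W ≤ L) : Nat.card (W.subgroupOf L) = Nat.card W :=
  Nat.card_congr (subgroupOfEquivOfLe hW).toEquiv

omit [Finite G] in
theorem map_subgroupOf {W L : Subgroup G} (hW : W ≤ L) : (W.subgroupOf L).map L.subtype = W := by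
  rw [subgroupOf_map_subtype, inf_eq_left.mpr hW]

omit [Finite G] in
theorem exp2_subgroupOf {A L : Subgroup G} (h : Exp2 A) : Exp2 (A.subgroupOf L) := fun x hx =>
  Subtype.ext (h x hx)

omit [Finite G] in
theorem isMaxElem_subgroupOf {T A L : Subgroup G} (hTL : T ≤ L) (hA : IsMaxElem T A) :
    IsMaxElem (T.subgroupOf L) (A.subgroupOf L) := by
  refine ⟨fun x hx => hA.1 hx, exp2_subgroupOf hA.2.1, fun B hB hB2 => ?_⟩
  rw [card_subgroupOf (hA.1.trans hTL), ← card_map_of_injective L.subtype_injective]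
  refine hA.2.2 _ ?_ (exp2_map hB2 _)
  rintro _ ⟨b, hb, rfl⟩
  exact hB hb

omit [Finite G] in
theorem isMaxElem_map {T L : Subgroup G} (hTL : T ≤ L) {A : Subgroup L}
    (hA : IsMaxElem (T.subgroupOf L) A) : IsMaxElem T (A.map L.subtype) := by
  refine ⟨?_, exp2_map hA.2.1 _, fun B hB hB2 => ?_⟩
  · rintro _ ⟨b, hb, rfl⟩
    exact hA.1 hb
  · rw [card_map_of_injective L.subtype_injective, ← card_subgroupOf (hB.trans hTL)]
    exact hA.2.2 _ (fun x hx => hB hx) (exp2_subgroupOf hB2)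

/-- The hypotheses restrict to a subgroup containing `T`. -/
theorem setup_restrict {T W L : Subgroup G} (S : Setup T W) (hTL : T ≤ L) :
    Setup (T.subgroupOf L) (W.subgroupOf L) := by
  have hWL : W ≤ L := S.le_T.trans hTL
  refine ⟨S.isTwo.of_equiv (subgroupOfEquivOfLe hTL).symm, exp2_subgroupOf S.exp, ?_, ?_, ?_⟩
  · intro t ht
    refine mem_normalizer_fintype fun w hw => ?_
    exact (mem_normalizer_iff.mp (S.norm ht) w).mp hw
  · intro A hA x hx
    obtain ⟨y, hy, hyx⟩ := S.le _ (isMaxElem_map hTL hA) hx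
    exact (Subtype.ext hyx : y = x) ▸ hy
  · intro E hET hEc hEsq
    rw [centralizer_subgroupOf hWL] at hEc hEsq ⊢
    have h := S.gap (E.map L.subtype) (by rintro _ ⟨e, he, rfl⟩; exact hET he)
      (by rintro _ ⟨x, hx, rfl⟩ _ ⟨z, hz, rfl⟩; exact hEc x hx z hz)
      (by rintro _ ⟨x, hx, rfl⟩; exact hEsq x hx)
    rw [card_map_of_injective L.subtype_injective] at h
    have e1 : (W.subgroupOf L ⊓ centralizer (E : Set L)).map L.subtype =
        W ⊓ centralizer ((E.map L.subtype : Subgroup G) : Set G) := by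
      refine le_antisymm ?_ ?_
      · rintro _ ⟨w, ⟨hw, hwc⟩, rfl⟩
        refine ⟨hw, mem_centralizer_iff.mpr ?_⟩
        rintro _ ⟨e, he, rfl⟩
        exact congrArg Subtype.val (mem_centralizer_iff.mp hwc e he)
      · intro w hw
        exact ⟨⟨w, hWL hw.1⟩, ⟨hw.1, mem_centralizer_iff.mpr fun e he =>
          Subtype.ext (mem_centralizer_iff.mp hw.2 e (mem_map_of_mem L.subtype he))⟩, rfl⟩
    have e2 : (E ⊓ (centralizer (W : Set G)).subgroupOf L).map L.subtype =
        E.map L.subtype ⊓ centralizer (W : Set G) := by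
      refine le_antisymm ?_ ?_
      · rintro _ ⟨w, ⟨hw, hwc⟩, rfl⟩
        exact ⟨mem_map_of_mem _ hw, hwc⟩
      · rintro _ ⟨⟨e, he, rfl⟩, hec⟩
        exact ⟨e, ⟨he, hec⟩, rfl⟩
    rw [← e1, ← e2, card_map_of_injective L.subtype_injective,
      card_map_of_injective L.subtype_injective] at h
    rwa [card_subgroupOf hWL]

/-- The count of the elements of `A` commuting modulo `Q` with `g`. -/
theorem card_le_hyper {Q : Subgroup G} [Q.Normal] {A : Subgroup G} {g : G} {Y : Subgroup (G ⧸ Q)}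
    (hY : Y ≤ A.map (QuotientGroup.mk' Q)) (hc : Nat.card (A.map (QuotientGroup.mk' Q)) ≤ 2 * Nat.card Y)
    (hg : QuotientGroup.mk' Q g ∈ centralizer (Y : Set (G ⧸ Q))) :
    Nat.card A ≤ 2 * Nat.card (hyper Q A g) := by
  set π := QuotientGroup.mk' Q
  set A' := A ⊓ Y.comap π
  have h1 : A'.map π = Y := by
    refine le_antisymm (by rintro _ ⟨x, hx, rfl⟩; exact hx.2) fun y hy => ?_
    obtain ⟨x, hx, rfl⟩ := hY hy
    exact ⟨x, ⟨hx, hy⟩, rfl⟩
  have h2 : A' ⊓ Q = A ⊓ Q := le_antisymm (inf_le_inf_right _ inf_le_left) fun x hx =>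
    ⟨⟨hx.1, mem_comap.mpr (by
      rw [show π x = 1 from (QuotientGroup.eq_one_iff x).mpr hx.2]; exact one_mem _)⟩, hx.2⟩
  have e1 := card_eq_map_mul Q A
  have e2 := card_eq_map_mul Q A'
  rw [h1, h2] at e2
  calc Nat.card A = Nat.card (A.map π) * Nat.card (A ⊓ Q : Subgroup G) := e1
    _ ≤ 2 * Nat.card Y * Nat.card (A ⊓ Q : Subgroup G) := Nat.mul_le_mul_right _ hc
    _ = 2 * Nat.card A' := by rw [e2, mul_assoc]
    _ ≤ _ := Nat.mul_le_mul_left _ (card_le_of_le fun x hx =>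
      mem_hyper.mpr ⟨hx.1, (mem_centralizer_iff.mp hg _ hx.2).symm⟩)

/-- The uniqueness theorem. -/
theorem eq_top_of_setup [Group.IsSolvable G] (hfree : ¬ Cfsg.Involves (Equiv.Perm (Fin 4)) G)
    (hQC : centralizer (Cfsg.pCore 2 G : Set G) ≤ Cfsg.pCore 2 G) (T : Sylow 2 G) (W : Subgroup G)
    (S : Setup (T : Subgroup G) W) (M : Subgroup G) (hTM : (T : Subgroup G) ≤ M)
    (hCM : centralizer (W : Set G) ≤ M)
    (hperm : ∀ x, (∀ A, IsMaxElem (T : Subgroup G) A →
      IsMaxElem (T : Subgroup G) (A.map (MulAut.conj x).toMonoidHom)) → x ∈ M) :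
    M = ⊤ := by
  induction hn : Nat.card G using Nat.strong_induction_on generalizing G with
  | _ n ih =>
  haveI : Fact (Nat.Prime 2) := ⟨Nat.prime_two⟩
  -- proper subgroups containing `T` lie in `M`
  have hsmall : ∀ L : Subgroup G, (T : Subgroup G) ≤ L → L ≠ ⊤ → L ≤ M := by
    intro L hTL hL
    have hlt : Nat.card L < n := hn ▸ lt_of_le_of_ne (card_le_card_group L) fun h =>
      hL (eq_top_of_card_eq L h)
    have hQT : Cfsg.pCore 2 G ≤ (T : Subgroup G) := HallCore.pCore_le_sylow T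
    rw [← subgroupOf_eq_top]
    refine @ih _ hlt L _ _ inferInstance
      (fun h => hfree (FusionQd.involves_of_injective L.subtype_injective h)) ?_ (T.subtype hTL) (W.subgroupOf L) ?_
      (M.subgroupOf L) ?_ ?_ ?_ rfl
    · intro c hc
      refine HallCore.pCore_subgroupOf_le L (hQC (mem_centralizer_iff.mpr fun q hq => ?_))
      exact congrArg Subtype.val
        (mem_centralizer_iff.mp hc ⟨q, hTL (hQT hq)⟩ (HallCore.pCore_subgroupOf_le L hq))
    · rw [Sylow.coe_subtype]; exact setup_restrict S hTL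
    · rw [Sylow.coe_subtype]; exact fun x hx => hTM hx
    · rw [centralizer_subgroupOf (S.le_T.trans hTL)]; exact fun x hx => hCM hx
    · intro x hx
      rw [Sylow.coe_subtype] at hx
      refine hperm x fun A hA => ?_
      have h := isMaxElem_map hTL (hx _ (isMaxElem_subgroupOf hTL hA))
      rw [Subgroup.map_map, show L.subtype.comp (MulAut.conj x).toMonoidHom =
          (MulAut.conj (x : G)).toMonoidHom.comp L.subtype from MonoidHom.ext fun _ => rfl,
        ← Subgroup.map_map, map_subgroupOf (hA.1.trans hTL)] at h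
      exact h
  clear ih
  set Q := Cfsg.pCore 2 G with hQdef
  haveI : Q.Normal := HallCore.pCore_normal 2 G
  have hQT : Q ≤ (T : Subgroup G) := HallCore.pCore_le_sylow T
  by_cases hall : ∀ A, IsMaxElem (T : Subgroup G) A → A ≤ Q
  · refine eq_top_iff.mpr fun x _ => hperm x fun A hA => hA.map_conj ?_
    rintro _ ⟨a, ha, rfl⟩
    exact hQT (Normal.conj_mem inferInstance a (hall A hA ha) x)
  push Not at hall
  obtain ⟨A0, hA0, hA0Q⟩ := hall
  set π := QuotientGroup.mk' Q with hπ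
  have hπs : Function.Surjective π := QuotientGroup.mk'_surjective Q
  suffices htop : M.map π = ⊤ by
    rw [← comap_map_eq_self (f := π) (H := M) (by rw [QuotientGroup.ker_mk']; exact hQT.trans hTM),
      htop, comap_top]
  set Tq := T.mapSurjective hπs with hTq
  have hTqcoe : (Tq : Subgroup (G ⧸ Q)) = (T : Subgroup G).map π := Sylow.coe_mapSurjective hπs T
  have hTqM : (Tq : Subgroup (G ⧸ Q)) ≤ M.map π := hTqcoe ▸ map_mono hTM
  have hsmall' : ∀ L : Subgroup (G ⧸ Q), (Tq : Subgroup (G ⧸ Q)) ≤ L → L ≠ ⊤ → L ≤ M.map π := by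
    intro L hTL hL
    rw [← map_comap_eq_self_of_surjective hπs L]
    refine map_mono (hsmall _ (map_le_iff_le_comap.mp (hTqcoe ▸ hTL)) fun h => hL ?_)
    rw [← map_comap_eq_self_of_surjective hπs L, h, map_top_of_surjective π hπs]
  set R := Cfsg.pPrimeCore 2 (G ⧸ Q) with hRdef
  haveI : R.Normal := HallCore.pPrimeCore_normal 2 _
  have hcore : Cfsg.pCore 2 (G ⧸ Q) = ⊥ := HallCore.pCore_quotient_self 2 G
  have hRodd : Odd (Nat.card R) := Nat.coprime_two_right.mp (HallCore.coprime_card_pPrimeCore 2 _)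
  have hCR := SolvableS4Gap.centralizer_pPrimeCore_le hcore
  have hdisj : ∀ x, x ∈ R → x ∈ (Tq : Subgroup (G ⧸ Q)) → x = 1 := by
    intro x hxR hxT
    obtain ⟨e, he⟩ := Tq.isPGroup'.exists_card_eq
    have h : R ⊓ (Tq : Subgroup (G ⧸ Q)) = ⊥ := HallCore.disjoint_of_coprime_card (by
      rw [he]; exact (Nat.coprime_two_right.mpr hRodd).pow_right e)
    exact mem_bot.mp (h ▸ ⟨hxR, hxT⟩)
  -- the quotient is the product of `R` and the Sylow subgroup
  by_cases hRT : R ⊔ (Tq : Subgroup (G ⧸ Q)) ≠ ⊤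
  · set N2 := Cfsg.pPrimePCore 2 (G ⧸ Q) with hN2
    haveI : N2.Normal := HallCore.pPrimePCore_normal 2 _
    have hRN : R ≤ N2 := HallCore.pPrimeCore_le_pPrimePCore 2 _
    have hN2RT : N2 ≤ R ⊔ (Tq : Subgroup (G ⧸ Q)) := by
      intro x hx
      set ρ := QuotientGroup.mk' R
      have hρs : Function.Surjective ρ := QuotientGroup.mk'_surjective R
      have h1 := HallCore.pCore_le_sylow (Tq.mapSurjective hρs) (mem_comap.mp hx)
      rw [Sylow.coe_mapSurjective, ← mem_comap, comap_map_eq, QuotientGroup.ker_mk'] at h1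
      rwa [sup_comm]
    obtain ⟨P, hP⟩ := LocalBasics.exists_sylow_inf Tq N2
    have hfr := Sylow.normalizer_sup_eq_top P
    rw [hP, subgroupOf_map_subtype] at hfr
    set D := (Tq : Subgroup (G ⧸ Q)) ⊓ N2 with hD
    have hN2le : N2 ≤ M.map π := hN2RT.trans (hsmall' _ le_sup_right hRT)
    refine top_le_iff.mp (hfr.ge.trans (sup_le ?_ hN2le))
    refine hsmall' _ ?_ fun htop => ?_
    · intro t ht
      refine mem_normalizer_fintype fun d hd => ⟨?_, Normal.conj_mem inferInstance d hd.2 t⟩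
      exact Subgroup.mul_mem _ (Subgroup.mul_mem _ ht hd.1) (Subgroup.inv_mem _ ht)
    · -- a normal `2`-subgroup
      haveI : D.Normal := normalizer_eq_top_iff.mp htop
      have hD1 : D = ⊥ := le_bot_iff.mp (hcore ▸ HallCore.le_pCore (Tq.isPGroup'.to_le inf_le_left))
      -- then `N2 = R`, so `R` is everything
      have hN2R : N2 ≤ R := by
        intro x hx
        have h1 := hN2RT hx
        rw [← SetLike.mem_coe, coe_mul_of_right_le_normalizer_left R _
          (by rw [normalizer_eq_top]; exact le_top)] at h1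
        obtain ⟨r, hr, t, ht, rfl⟩ := Set.mem_mul.mp h1
        have : t ∈ D := ⟨ht, by
          have := N2.mul_mem (N2.inv_mem (hRN hr)) hx
          rwa [inv_mul_cancel_left] at this⟩
        rw [hD1, mem_bot] at this
        rw [this, mul_one]; exact hr
      have hq : Cfsg.pCore 2 ((G ⧸ Q) ⧸ R) = ⊥ := by
        rw [← HallCore.map_pPrimePCore 2 (G ⧸ Q), Subgroup.map_eq_bot_iff, QuotientGroup.ker_mk']
        exact hN2R
      have h := SolvableS4Gap.centralizer_pPrimeCore_le hq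
      rw [HallCore.pPrimeCore_quotient_self 2 (G ⧸ Q), coe_bot] at h
      refine hRT (eq_top_iff.mpr fun x _ => mem_sup_left ?_)
      have hx : QuotientGroup.mk' R x ∈ (⊥ : Subgroup ((G ⧸ Q) ⧸ R)) :=
        h (mem_centralizer_iff.mpr fun y hy => by rw [Set.mem_singleton_iff.mp hy, one_mul, mul_one])
      exact (QuotientGroup.eq_one_iff x).mp (mem_bot.mp hx)
  push Not at hRT
  -- `W` lies in `Q`
  have hTR : ∀ {A : Subgroup G}, IsMaxElem (T : Subgroup G) A →
      A.map π ≤ normalizer (R : Set (G ⧸ Q)) := fun _ => by rw [normalizer_eq_top]; exact le_top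
  have hWQ : W ≤ Q := by
    intro z hz
    have hle : R ≤ centralizer ({π z} : Set (G ⧸ Q)) := by
      refine le_of_hyperplanes (A0.map π) R _ (exp2_map hA0.2.1 π) (hTR hA0) hRodd fun Y hY hc r hr => ?_
      obtain ⟨g, rfl⟩ := hπs r
      refine mem_centralizer_singleton_iff.mpr ?_
      exact le_of_setup hfree hQC S hQT hRodd hA0 hz hr.1 (card_le_hyper hY hc hr.2)
    have hzR : π z ∈ R := hCR (mem_centralizer_iff.mpr fun r hr =>
      mem_centralizer_singleton_iff.mp (hle hr))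
    refine (QuotientGroup.eq_one_iff z).mp ?_
    exact hdisj _ hzR (hTqcoe.symm ▸ mem_map_of_mem π (S.le_T hz))
  -- the part of `R` inside `M`
  set H := R ⊓ M.map π with hH
  have hproper : ∀ R0 : Subgroup (G ⧸ Q), R0 ≤ R →
      (Tq : Subgroup (G ⧸ Q)) ≤ normalizer (R0 : Set (G ⧸ Q)) → ¬ R ≤ R0 → R0 ≤ M.map π := by
    intro R0 hR0 hn0 hne
    refine le_sup_left.trans (hsmall' (R0 ⊔ Tq) le_sup_right fun htop => hne fun r hr => ?_)
    have h1 : r ∈ R0 ⊔ (Tq : Subgroup (G ⧸ Q)) := htop ▸ mem_top r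
    rw [← SetLike.mem_coe, coe_mul_of_right_le_normalizer_left R0 _ hn0] at h1
    obtain ⟨r0, hr0, t, ht, rfl⟩ := Set.mem_mul.mp h1
    have := hdisj t (by
      have := R.mul_mem (R.inv_mem (hR0 hr0)) hr
      rwa [inv_mul_cancel_left] at this) ht
    rw [this, mul_one]; exact hr0
  by_cases hRbot : R = ⊥
  · rw [hRbot, bot_sup_eq] at hRT
    exact top_le_iff.mp (hRT ▸ hTqM)
  have hR' : ⁅R, R⁆ ≤ H := by
    refine le_inf (commutator_le_left R R) (hproper _ (commutator_le_left R R) ?_ ?_)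
    · rw [normalizer_eq_top]; exact le_top
    · exact (Group.IsSolvable.commutator_lt_of_ne_bot hRbot).not_ge
  have hHn : ∀ r ∈ R, ∀ h ∈ H, r * h * r⁻¹ ∈ H := fun r hr h hh => by
    have h1 := H.mul_mem (hR' (commutator_mem_commutator hr hh.1)) hh
    rwa [commutatorElement_def, inv_mul_cancel_right] at h1
  have hHT : ∀ k ∈ (Tq : Subgroup (G ⧸ Q)), ∀ h ∈ H, k * h * k⁻¹ ∈ H := fun k hk h hh =>
    ⟨Normal.conj_mem inferInstance h hh.1 k, Subgroup.mul_mem _ (Subgroup.mul_mem _ (hTqM hk) hh.2) (Subgroup.inv_mem _ (hTqM hk))⟩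
  set 𝒜 := {A : Subgroup G | IsMaxElem (T : Subgroup G) A ∧ ¬ A ≤ Q ∧
    ∀ B, IsMaxElem (T : Subgroup G) B → ¬ B ≤ Q → Nat.card (B ⊓ Q : Subgroup G) ≤ Nat.card (A ⊓ Q : Subgroup G)}
    with h𝒜
  -- commutators of `R` with the chosen subgroups
  have hcom : ∀ A ∈ 𝒜, ∀ a ∈ A.map π, ∀ r ∈ R, r * a * r⁻¹ * a⁻¹ ∈ H := by
    rintro A ⟨hA, hAQ, hAmax⟩ a ha
    let Sa : Subgroup (G ⧸ Q) :=
      { carrier := {r | r ∈ R ∧ r * a * r⁻¹ * a⁻¹ ∈ H}
        one_mem' := ⟨one_mem _, by simp⟩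
        mul_mem' := fun {r s} hr hs => ⟨R.mul_mem hr.1 hs.1, by
          rw [show r * s * a * (r * s)⁻¹ * a⁻¹ =
            r * (s * a * s⁻¹ * a⁻¹) * r⁻¹ * (r * a * r⁻¹ * a⁻¹) by group]
          exact H.mul_mem (hHn r hr.1 _ hs.2) hr.2⟩
        inv_mem' := fun {r} hr => ⟨R.inv_mem hr.1, by
          rw [show r⁻¹ * a * r⁻¹⁻¹ * a⁻¹ = r⁻¹ * (r * a * r⁻¹ * a⁻¹)⁻¹ * r⁻¹⁻¹ by group]
          exact hHn _ (R.inv_mem hr.1) _ (H.inv_mem hr.2)⟩ }
    suffices h : R ≤ Sa from fun r hr => (h hr).2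
    refine le_of_hyperplanes (A.map π) R Sa (exp2_map hA.2.1 π) (hTR hA) hRodd fun Y hY hc r hr => ?_
    refine ⟨hr.1, ?_, ?_⟩
    · rw [show r * a * r⁻¹ * a⁻¹ = r * (a * r⁻¹ * a⁻¹) by group]
      exact R.mul_mem hr.1 (Normal.conj_mem inferInstance _ (R.inv_mem hr.1) a)
    · obtain ⟨g, rfl⟩ := hπs r
      obtain ⟨a0, ha0, rfl⟩ := ha
      have h := centralizes hfree S hQT hWQ hRodd hA hAmax ha0 hr.1 (card_le_hyper hY hc hr.2)
      rw [map_mul, map_mul, map_mul, map_inv, map_inv] at h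
      exact map_mono hCM h
  set K := ⨆ A : 𝒜, (A : Subgroup G).map π with hK
  have hKT : K ≤ Tq := hTqcoe ▸ iSup_le fun A => map_mono A.2.1.1
  have hKcom : ∀ k ∈ K, ∀ r ∈ R, r * k * r⁻¹ * k⁻¹ ∈ H := by
    let Sk : Subgroup (G ⧸ Q) :=
      { carrier := {k | k ∈ (Tq : Subgroup (G ⧸ Q)) ∧ ∀ r ∈ R, r * k * r⁻¹ * k⁻¹ ∈ H}
        one_mem' := ⟨one_mem _, fun r _ => by simp⟩
        mul_mem' := fun {k l} hk hl => ⟨mul_mem hk.1 hl.1, fun r hr => by
          rw [show r * (k * l) * r⁻¹ * (k * l)⁻¹ =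
            r * k * r⁻¹ * k⁻¹ * (k * (r * l * r⁻¹ * l⁻¹) * k⁻¹) by group]
          exact H.mul_mem (hk.2 r hr) (hHT k hk.1 _ (hl.2 r hr))⟩
        inv_mem' := fun {k} hk => ⟨inv_mem hk.1, fun r hr => by
          rw [show r * k⁻¹ * r⁻¹ * k⁻¹⁻¹ = k⁻¹ * (r * k * r⁻¹ * k⁻¹)⁻¹ * k⁻¹⁻¹ by group]
          exact hHT _ (inv_mem hk.1) _ (H.inv_mem (hk.2 r hr))⟩ }
    have hle : K ≤ Sk := iSup_le fun A a ha =>
      ⟨hKT (le_iSup (fun A : 𝒜 => (A : Subgroup G).map π) A ha), hcom A A.2 a ha⟩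
    exact fun k hk => (hle hk).2
  have hKR : K ≤ normalizer (R : Set (G ⧸ Q)) := by rw [normalizer_eq_top]; exact le_top
  obtain ⟨e, he⟩ := IsPGroup.iff_card.mp (Tq.isPGroup'.to_le hKT)
  have hdec := CoprimeAction.commutator_sup_centralizer_eq hKR
    (by rw [he]; exact (Nat.coprime_two_left.mpr hRodd).pow_left e) (Or.inr inferInstance)
  have hcK : ⁅R, K⁆ ≤ M.map π := commutator_le.mpr fun r hr k hk => (hKcom k hk r hr).2
  have hfix : R ⊓ centralizer (K : Set (G ⧸ Q)) ≤ M.map π := by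
    refine hproper _ inf_le_left ?_ ?_
    · intro t ht
      refine mem_normalizer_fintype fun r hr =>
        ⟨Normal.conj_mem inferInstance r hr.1 t, mem_centralizer_iff.mpr fun k hk => ?_⟩
      -- `T` permutes the chosen subgroups
      rw [hTqcoe] at ht
      obtain ⟨t0, ht0, rfl⟩ := ht
      have hKn : K ≤ K.comap (MulAut.conj (π t0)⁻¹).toMonoidHom := by
        refine iSup_le fun A => ?_
        rintro _ ⟨a, ha, rfl⟩
        obtain ⟨hA, hAQ, hAmax⟩ := A.2
        set c := (MulAut.conj t0⁻¹).toMonoidHom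
        have hcA : IsMaxElem (T : Subgroup G) ((A : Subgroup G).map c) := hA.map_conj (by
          rintro _ ⟨x, hx, rfl⟩
          exact Subgroup.mul_mem _ (Subgroup.mul_mem _ (Subgroup.inv_mem _ ht0) (hA.1 hx)) (Subgroup.inv_mem _ (Subgroup.inv_mem _ ht0)))
        have hQc : ∀ x, c x ∈ Q ↔ x ∈ Q := fun x =>
          ⟨fun h => by
            have := Normal.conj_mem (inferInstance : Q.Normal) _ h t0
            simpa [c, mul_assoc] using this, fun h => Normal.conj_mem inferInstance x h _⟩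
        have hA' : (A : Subgroup G).map c ∈ 𝒜 := by
          refine ⟨hcA, fun h => hAQ fun x hx => (hQc x).mp (h (mem_map_of_mem c hx)), fun B hB hBQ => ?_⟩
          refine (hAmax B hB hBQ).trans (le_trans
            (card_map_of_injective (f := c) (MulAut.conj t0⁻¹).injective).ge (card_le_of_le ?_))
          rintro _ ⟨x, hx, rfl⟩
          exact ⟨mem_map_of_mem c hx.1, (hQc x).mpr hx.2⟩
        refine mem_comap.mpr (le_iSup (fun A : 𝒜 => (A : Subgroup G).map π) ⟨_, hA'⟩
          ⟨c a, mem_map_of_mem c ha, ?_⟩)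
        simp [c]
      have h1 := mem_centralizer_iff.mp hr.2 _ (hKn hk)
      have h2 : (MulAut.conj (π t0)⁻¹).toMonoidHom k = (π t0)⁻¹ * k * π t0 := by simp
      rw [h2] at h1
      calc k * (π t0 * r * (π t0)⁻¹) = π t0 * ((π t0)⁻¹ * k * π t0 * r) * (π t0)⁻¹ := by group
        _ = π t0 * (r * ((π t0)⁻¹ * k * π t0)) * (π t0)⁻¹ := by rw [h1]
        _ = _ := by group
    · intro h
      obtain ⟨A1, ⟨hA1, hA1Q⟩, hA1max⟩ := Set.exists_max_image
        {A : Subgroup G | IsMaxElem (T : Subgroup G) A ∧ ¬ A ≤ Q}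
        (fun A => Nat.card (A ⊓ Q : Subgroup G)) (Set.toFinite _) ⟨A0, hA0, hA0Q⟩
      refine hA1Q fun a ha => (QuotientGroup.eq_one_iff a).mp ?_
      have hk : π a ∈ K := le_iSup (fun A : 𝒜 => (A : Subgroup G).map π)
        ⟨A1, hA1, hA1Q, fun B hB hBQ => hA1max B ⟨hB, hBQ⟩⟩ (mem_map_of_mem π ha)
      refine hdisj _ (hCR (mem_centralizer_iff.mpr fun r hr => ?_)) (hKT hk)
      exact (mem_centralizer_iff.mp (h hr).2 _ hk).symm
  exact top_le_iff.mp (hRT ▸ sup_le (hdec ▸ sup_le hcK hfix) hTqM)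

end Cfsg.Agent.SolvableS4Unique
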