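import Mathlib
import Cfsg.Agent.Lib.PPrimeNilp30Span
import Cfsg.Agent.S3756

/-!
A finite group whose subgroups of order prime to `p > 3` are nilpotent is solvable.
-/

set_option autoImplicit false
set_option linter.style.haveILetI false

namespace Cfsg.Agent.PPrimeNilp30

open Subgroup SignalizerStrongEmb

universe u

variable {G : Type u} [Group G] [Finite G] {p : ℕ} [hp : Fact p.Prime]

/-- The symmetric group of degree four is not a section. -/
theorem not_involves (hp3 : 3 < p) {M : Type u} [Group M] [Finite M] [Group.IsSolvable M]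
    (hM : PNilp p M) : ¬ Cfsg.Involves (Equiv.Perm (Fin 4)) M := by
  rintro ⟨K, R, hn, ⟨e⟩⟩
  haveI := hn
  set f : K →* Equiv.Perm (Fin 4) := e.toMonoidHom.comp (QuotientGroup.mk' (R.subgroupOf K))
  have hf : Function.Surjective f := e.surjective.comp (QuotientGroup.mk'_surjective _)
  have hK : PNilp p K := hM.of_injective K.subtype_injective
  have hcard : (Nat.card (⊤ : Subgroup (Equiv.Perm (Fin 4)))).Coprime p := by
    rw [card_top, Nat.card_perm, Nat.card_fin, show Nat.factorial 4 = 2 ^ 3 * 3 from rfl]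
    exact (((Nat.coprime_primes Nat.prime_two hp.out).2 (by omega)).pow_left 3).mul_left
      ((Nat.coprime_primes Nat.prime_three hp.out).2 (by omega))
  haveI := nilp_of_surjective (K := ⊤) hf (fun H _ hH => hK H hH) hcard
  haveI : Fact (Nat.Prime 3) := ⟨Nat.prime_three⟩
  haveI : Fact (Nat.Prime 2) := ⟨Nat.prime_two⟩
  have ha : orderOf (Equiv.swap (0 : Fin 4) 1) = 2 := orderOf_eq_prime (by decide) (by decide)
  have hb : orderOf (Equiv.swap (0 : Fin 4) 1 * Equiv.swap (1 : Fin 4) 2) = 3 :=
    orderOf_eq_prime (by decide) (by decide)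
  have h := HallNilpotentConj.commute_of_coprime_orderOf (⊤ : Subgroup (Equiv.Perm (Fin 4)))
    ⟨Equiv.swap (0 : Fin 4) 1, mem_top _⟩
    ⟨Equiv.swap (0 : Fin 4) 1 * Equiv.swap (1 : Fin 4) 2, mem_top _⟩
    (by rw [Subgroup.orderOf_mk, Subgroup.orderOf_mk, ha, hb]; norm_num)
  exact absurd (congrArg Subtype.val h.eq) (by decide)

/-- No simple group satisfies the minimal hypotheses. -/
theorem no_simple (hG : Hyp p G) (hp3 : 3 < p) : False := by
  haveI := Fact.mk Nat.prime_two
  have hp2 : p ≠ 2 := by omega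
  obtain ⟨P⟩ : Nonempty (Sylow 2 G) := inferInstance
  obtain ⟨z, V, hb⟩ := exists_base hG hp3 P
  have hs := solvCent hG
  have hSE : ∃ M : Subgroup G, Cfsg.IsStronglyEmbedded M := by
    rcases stronglyEmbedded_or_th_eq_bot hG hp3 hb hs with h | h
    · exact h
    have hch := SolvCentInvol2.charTwoType_of_th_eq_bot hs (even_iff_two_dvd.2 (even_card hG)) h
    have hPne : (P : Subgroup G) ≠ ⊥ := Sylow.ne_bot_of_dvd_card P (even_card hG)
    obtain ⟨M, hM, hMmax⟩ := (Set.toFinite {M : Subgroup G | Cfsg.IsTwoLocal M}).exists_maximal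
      ⟨normalizer ((P : Subgroup G) : Set G), P, P.2, hPne, rfl⟩
    refine ⟨M, S3756.result (even_iff_two_dvd.2 (even_card hG)) ?_ ?_ M
      ⟨hM, fun N hN hle => le_antisymm (hMmax hN hle) hle⟩⟩
    · haveI := HallCore.pCore_normal 2 G
      exact eq_bot_of_normal hG (pGroup_ne_top hG (HallCore.isPGroup_pCore 2 G))
    · rintro N ⟨T, hT, hT0, rfl⟩
      have hNne := normalizer_ne_top hG hT0 (pGroup_ne_top hG hT)
      haveI := hG.solv _ hNne
      exact ⟨inferInstance, hch.2 T hT hT0, not_involves hp3 (pnilp hG hNne)⟩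
  obtain ⟨M, hM⟩ := hSE
  obtain ⟨t, htM, ht⟩ := exists_involution_mem hM
  obtain ⟨g, hg⟩ := isConj_iff.1 (isConj_involutions hM hb.ord ht)
  refine no_strongly_embedded hG hp2 hM ?_
  obtain ⟨v, hv, hv1, hvz⟩ : ∃ v ∈ V, v ≠ 1 ∧ v ≠ z := by
    by_contra h
    push Not at h
    have hle : V ≤ zpowers z := fun a ha => by
      by_cases ha1 : a = 1
      · rw [ha1]; exact one_mem _
      · rw [h a ha ha1]; exact mem_zpowers z
    have := card_le_of_le hle
    rw [hb.card, Nat.card_zpowers, hb.ord] at this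
    omega
  have hc : t * (g * v * g⁻¹) = g * v * g⁻¹ * t := by
    rw [← hg, show g * z * g⁻¹ * (g * v * g⁻¹) = g * (z * v) * g⁻¹ by group,
      PGroupsBasic.comm_of_isMulCommutative hb.elem.1 hb.memV hv]
    group
  have hvo : orderOf (g * v * g⁻¹) = 2 := by
    rw [orderOf_conj, SolvCentInvol1.orderOf_eq_two hb.elem hv hv1]
  exact ⟨t, g * v * g⁻¹, htM, centralizer_le hM ht htM (mem_centralizer_singleton_iff.2 hc.symm),
    ht, hvo, fun h => hvz (by rw [← hg] at h; simpa using h.symm), hc⟩

/-- Every group whose `p'`-subgroups are nilpotent is solvable, for `p > 3`. -/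
theorem solvable_of_nilp (hp3 : 3 < p) (h : PNilp p G) : Group.IsSolvable G := by
  classical
  by_contra hns
  -- a minimal non-solvable subgroup
  obtain ⟨T, hT, hmin⟩ := (Set.toFinite {T : Subgroup G | ¬ Group.IsSolvable T}).exists_minimal
    ⟨⊤, fun hs => hns (Group.isSolvable_of_surjective (f := (⊤ : Subgroup G).subtype)
      (fun g => ⟨⟨g, mem_top g⟩, rfl⟩))⟩
  have hsolT : ∀ K : Subgroup T, K ≠ ⊤ → Group.IsSolvable K := by
    intro K hK
    by_contra hK'
    refine hK ?_
    have h1 : ¬ Group.IsSolvable ↥(K.map T.subtype) := fun h2 => hK' (haveI := h2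
      Group.isSolvable_of_isSolvable_injective
        (f := (K.equivMapOfInjective T.subtype T.subtype_injective).toMonoidHom)
        (K.equivMapOfInjective T.subtype T.subtype_injective).injective)
    have h2 := hmin h1 (map_subtype_le K)
    refine eq_top_iff.2 fun x _ => ?_
    obtain ⟨y, hy, hyx⟩ := h2 x.2
    rwa [Subtype.ext hyx] at hy
  haveI hTn : Nontrivial T := by
    by_contra hn
    rw [not_nontrivial_iff_subsingleton] at hn
    exact hT (Group.isSolvable_of_comm fun a b => Subsingleton.elim _ _)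
  -- a maximal proper normal subgroup
  obtain ⟨N, ⟨hNn, hNt⟩, hNmax⟩ := (Set.toFinite {N : Subgroup T | N.Normal ∧ N ≠ ⊤}).exists_maximal
    ⟨⊥, inferInstance, bot_ne_top⟩
  haveI := hNn
  haveI := hsolT N hNt
  set f := QuotientGroup.mk' N with hf
  have hsurj : Function.Surjective f := QuotientGroup.mk'_surjective N
  have hQns : ¬ Group.IsSolvable (T ⧸ N) := fun h1 => hT (haveI := h1
    Group.isSolvable_of_ker_le_range N.subtype f (by simp [hf]))
  haveI : Nontrivial (T ⧸ N) := by
    by_contra hn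
    rw [not_nontrivial_iff_subsingleton] at hn
    exact hQns (Group.isSolvable_of_comm fun a b => Subsingleton.elim _ _)
  refine no_simple (G := T ⧸ N) (p := p) ⟨⟨fun K hK => ?_⟩, ?_, fun K hK => ?_, fun K hK hKc => ?_⟩ hp3
  · by_cases hKt : K = ⊤
    · exact Or.inr hKt
    left
    have h1 : K.comap f ∈ {N : Subgroup T | N.Normal ∧ N ≠ ⊤} := by
      refine ⟨hK.comap _, fun h => hKt ?_⟩
      rw [← map_comap_eq_self_of_surjective hsurj K, h, map_top_of_surjective f hsurj]
    have h2 := hNmax h1 (QuotientGroup.le_comap_mk' N K)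
    rw [← map_comap_eq_self_of_surjective hsurj K, Subgroup.map_eq_bot_iff, QuotientGroup.ker_mk']
    exact h2
  · by_contra hc
    push Not at hc
    exact hQns (Group.isSolvable_of_comm hc)
  all_goals
    have hpre : K.comap f ≠ ⊤ := fun h => hK (by
      rw [← map_comap_eq_self_of_surjective hsurj K, h, map_top_of_surjective f hsurj])
    haveI := hsolT _ hpre
  · exact Group.isSolvable_of_surjective (f := f.subgroupComap K)
      (fun y => by
        obtain ⟨x, hx⟩ := hsurj y.1
        exact ⟨⟨x, by rw [mem_comap, hx]; exact y.2⟩, Subtype.ext hx⟩)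
  -- lift a `p'`-subgroup
  · exact nilp_of_surjective hsurj (fun H _ hH => h.of_injective T.subtype_injective H hH) hKc

end Cfsg.Agent.PPrimeNilp30
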