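/-
If `G = N C(P)` for a Sylow subgroup `P` of the normal subgroup `N`, an extendible character of
the principal block of `N` has an extension lying in the principal block of every intermediate
subgroup.
-/
import Mathlib
import Cfsg.Agent.Lib.PrincipalCover80
import Cfsg.Agent.Lib.BrauerBlocksVal
import Cfsg.Agent.Lib.BrauerBlocksBasic

set_option autoImplicit false

namespace Cfsg.Agent.PrincipalExtend80

open Cfsg Cfsg.Agent.BlockTheoryLocalRing Cfsg.Agent.BlockTheoryCentre
open Cfsg.Agent.BlockTheoryIdem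
open Cfsg.Agent.CharBasic Cfsg.Agent.CharBasicOrth Cfsg.Agent.CharBasicDecomp
open Cfsg.Agent.PrincipalSylow80 Cfsg.Agent.PrincipalCover80
open scoped ComplexConjugate

attribute [local instance] Classical.propDecidable

universe u

variable {p : ℕ} {M : Ideal AlgInt}

section Roots

theorem memLocalRing_root (hM : IsPModular p M) {ω : ℂ} {n : ℕ} (hn : 0 < n) (h : ω ^ n = 1) :
    MemLocalRing M ω :=
  of_isIntegral hM (IsIntegral.of_pow hn (by rw [h]; exact isIntegral_one))

theorem exists_factor (hM : IsPModular p M) {ι : Type*} {s : Finset ι} {f : ι → ℂ}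
    (hf : ∀ i ∈ s, MemLocalRing M (f i)) (h : MemLocalIdeal M (∏ i ∈ s, f i)) :
    ∃ i ∈ s, MemLocalIdeal M (f i) := by
  induction s using Finset.induction with
  | empty => exact absurd (by simpa using h) (one_not_ideal hM)
  | @insert a s ha ih =>
    rw [Finset.prod_insert ha] at h
    by_cases h1 : MemLocalIdeal M (f a)
    · exact ⟨a, Finset.mem_insert_self a s, h1⟩
    by_cases h2 : MemLocalIdeal M (∏ i ∈ s, f i)
    · obtain ⟨i, hi, hi'⟩ := ih (fun i hi => hf i (Finset.mem_insert_of_mem hi)) h2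
      exact ⟨i, Finset.mem_insert_of_mem hi, hi'⟩
    exact absurd h (not_ideal_mul hM (hf a (Finset.mem_insert_self a s))
      ((localRing hM).prod_mem fun i hi => hf i (Finset.mem_insert_of_mem hi)) h1 h2)

/-- An approximate root of unity is congruent to one. -/
theorem exists_root_congr (hM : IsPModular p M) {n : ℕ} (hn : 0 < n) {y : ℂ}
    (hy : MemLocalRing M y) (h : MemLocalIdeal M (y ^ n - 1)) :
    ∃ ω : ℂ, ω ^ n = 1 ∧ MemLocalIdeal M (y - ω) := by
  have hζ := Complex.isPrimitiveRoot_exp n hn.ne'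
  have hprod : ∏ i ∈ Finset.range n, (y - Complex.exp (2 * Real.pi * Complex.I / n) ^ i) =
      y ^ n - 1 := by
    have h1 := congrArg (Polynomial.eval y)
      (X_pow_sub_C_eq_prod hζ hn (one_pow n : (1 : ℂ) ^ n = 1))
    simp only [Polynomial.eval_sub, Polynomial.eval_pow, Polynomial.eval_X, Polynomial.eval_C,
      Polynomial.eval_prod, mul_one] at h1
    exact h1.symm
  rw [← hprod] at h
  set ζ := Complex.exp (2 * Real.pi * Complex.I / n)
  have hroot : ∀ i, (ζ ^ i) ^ n = 1 := fun i => by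
    rw [← pow_mul, mul_comm, pow_mul, hζ.pow_eq_one, one_pow]
  obtain ⟨i, -, hi⟩ := exists_factor hM
    (fun i _ => (localRing hM).sub_mem hy (memLocalRing_root hM hn (hroot i))) h
  exact ⟨ζ ^ i, hroot i, hi⟩

theorem sm_of_ideal (hM : IsPModular p M) {z : ℂ} (h : MemLocalIdeal M z) :
    BrauerBlocksVal.Sm M z := BrauerBlocksVal.sm_of_memLocalIdeal hM h

theorem pPow_root_congr (hM : IsPModular p M) {k : ℕ} {ω : ℂ} (h : ω ^ p ^ k = 1) :
    MemLocalIdeal M (ω - 1) := by
  have h1 := BrauerBlocksVal.sm_sub_one_of_pow_pPow hM k h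
  have hi : IsIntegral ℤ (ω - 1) :=
    (IsIntegral.of_pow (pow_pos hM.1.pos k) (by rw [h]; exact isIntegral_one)).sub isIntegral_one
  rw [show ω - 1 = ((⟨ω - 1, hi⟩ : AlgInt) : ℂ) from rfl] at h1 ⊢
  exact (algInt_mem_ideal_iff hM).2 ((BrauerBlocksVal.sm_coe_iff hM _).1 h1)

/-- Roots of unity of order prime to `p` are separated by the ideal. -/
theorem root_ext (hM : IsPModular p M) {m : ℕ} (hm : ¬ p ∣ m) {a b : ℂ} (ha : a ^ m = 1)
    (hb : b ^ m = 1) (h : MemLocalIdeal M (a - b)) : a = b := by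
  have hm0 : 0 < m := Nat.pos_of_ne_zero fun e => hm (e ▸ dvd_zero p)
  have hb0 : b ≠ 0 := fun e => by simp [e, hm0.ne'] at hb
  have h1 : MemLocalIdeal M (a * b⁻¹ - 1) := by
    have := ideal_mul_right hM h (algInt_mem hM ⟨b⁻¹, IsIntegral.of_pow hm0 (by
      rw [inv_pow, hb, inv_one]; exact isIntegral_one)⟩)
    simpa [sub_mul, hb0] using this
  have := BrauerBlocksVal.eq_one_of_pow_eq_one_of_sm hM hm
    (ζ := a * b⁻¹) (by rw [mul_pow, inv_pow, ha, hb, inv_one, mul_one]) (sm_of_ideal hM h1)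
  field_simp at this
  exact this

/-- An element with `y ^ m ≡ 1` is congruent to a root of unity of order prime to `p`. -/
theorem exists_reg_root (hM : IsPModular p M) {m t : ℕ} (hm : ¬ p ∣ m) {y : ℂ}
    (hy : MemLocalRing M y) (h : MemLocalIdeal M (y ^ (p ^ t * m) - 1)) :
    ∃ ω : ℂ, ω ^ m = 1 ∧ MemLocalIdeal M (y - ω) := by
  have hm0 : 0 < m := Nat.pos_of_ne_zero fun e => hm (e ▸ dvd_zero p)
  refine exists_root_congr hM hm0 hy ?_
  obtain ⟨ω, hω, hω'⟩ := exists_root_congr hM (pow_pos hM.1.pos t)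
    ((localRing hM).pow_mem hy m) (by rwa [← pow_mul, mul_comm])
  exact PrincipalSylow80.ideal_trans hM hω' (pPow_root_congr hM hω)

end Roots

variable {G : Type u} [Group G] [Fintype G]

section Operators

/-- Invariance under conjugation by the normal subgroup. -/
def Inv (N : Subgroup G) (z : MonoidAlgebra ℂ G) : Prop :=
  ∀ n ∈ N, ∀ x, z.coeff (n * x * n⁻¹) = z.coeff x

/-- Support in one coset. -/
def Sup (N : Subgroup G) [N.Normal] (a : G ⧸ N) (z : MonoidAlgebra ℂ G) : Prop :=
  ∀ x : G, z.coeff x ≠ 0 → (x : G ⧸ N) = a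

/-- The sum of the coefficients. -/
noncomputable def aug (z : MonoidAlgebra ℂ G) : ℂ := ∑ x, z.coeff x

variable (N : Subgroup G) [N.Normal]

theorem aug_mul (z w : MonoidAlgebra ℂ G) : aug (z * w) = aug z * aug w := by
  simp only [aug, coeff_mul_eq]
  rw [Finset.sum_comm, Finset.sum_mul]
  refine Finset.sum_congr rfl fun y _ => ?_
  rw [← Finset.mul_sum]
  congr 1
  exact Equiv.sum_comp (Equiv.mulLeft y⁻¹) fun x => w.coeff x

theorem inv_mul_mem {z w : MonoidAlgebra ℂ G} (hz : Inv N z) (hw : Inv N w) : Inv N (z * w) := by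
  intro n hn x
  rw [coeff_mul_eq, coeff_mul_eq, ← Equiv.sum_comp (MulAut.conj n).toEquiv]
  refine Finset.sum_congr rfl fun y _ => ?_
  show z.coeff (n * y * n⁻¹) * w.coeff ((n * y * n⁻¹)⁻¹ * (n * x * n⁻¹)) = _
  rw [hz n hn y, show (n * y * n⁻¹)⁻¹ * (n * x * n⁻¹) = n * (y⁻¹ * x) * n⁻¹ by group,
    hw n hn]

theorem sup_mul {a b : G ⧸ N} {z w : MonoidAlgebra ℂ G} (hz : Sup N a z) (hw : Sup N b w) :
    Sup N (a * b) (z * w) := by
  intro x hx
  rw [coeff_mul_eq] at hx
  obtain ⟨y, -, hy⟩ := Finset.exists_ne_zero_of_sum_ne_zero hx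
  have h1 := hz y (left_ne_zero_of_mul hy)
  have h2 := hw _ (right_ne_zero_of_mul hy)
  rw [← h1, ← h2, ← QuotientGroup.mk_mul]
  simp

/-- The sum of the `N`-conjugates of `c`. -/
noncomputable def orbSum (c : G) : MonoidAlgebra ℂ G :=
  ofFun fun x => if ∃ n ∈ N, n * c * n⁻¹ = x then 1 else 0

theorem inv_orbSum (c : G) : Inv N (orbSum N c) := by
  intro m hm x
  simp only [orbSum, coeff_ofFun]
  congr 1
  apply propext
  constructor
  · rintro ⟨n, hn, h⟩
    refine ⟨m⁻¹ * n, mul_mem (inv_mem hm) hn, ?_⟩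
    calc m⁻¹ * n * c * (m⁻¹ * n)⁻¹ = m⁻¹ * (n * c * n⁻¹) * m := by group
      _ = x := by rw [h]; group
  · rintro ⟨n, hn, rfl⟩
    exact ⟨m * n, mul_mem hm hn, by group⟩

theorem int_orbSum (hM : IsPModular p M) (c : G) : IsInt M (orbSum N c) := fun x => by
  simp only [orbSum, coeff_ofFun]
  split_ifs
  exacts [(localRing hM).one_mem, (localRing hM).zero_mem]

theorem sup_orbSum (c : G) : Sup N (c : G ⧸ N) (orbSum N c) := by
  intro x hx
  simp only [orbSum, coeff_ofFun, ne_eq, ite_eq_right_iff, not_forall] at hx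
  obtain ⟨⟨n, hn, rfl⟩, -⟩ := hx
  rw [QuotientGroup.mk_mul, QuotientGroup.mk_mul, QuotientGroup.mk_inv,
    (QuotientGroup.eq_one_iff n).2 hn]
  simp

/-- The orbit of an element centralising a Sylow subgroup of `N` has order prime to `p`. -/
theorem aug_orbSum [Fintype N] [hp : Fact p.Prime] (P : Sylow p N) {c : G}
    (hc : ∀ x : N, x ∈ (P : Subgroup N) → (x : G) * c = c * (x : G)) :
    ∃ k : ℕ, ¬ p ∣ k ∧ aug (orbSum N c) = k := by
  set f : N → G := fun n => (n : G) * c * (n : G)⁻¹ with hf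
  set O := Finset.univ.image f with hO
  refine ⟨O.card, ?_, ?_⟩
  · set C : Subgroup N := (Subgroup.centralizer ({c} : Set G)).subgroupOf N with hC
    have hfib : ∀ y ∈ O, (Finset.univ.filter fun n => f n = y).card = Nat.card C := by
      intro y hy
      obtain ⟨b, -, rfl⟩ := Finset.mem_image.1 hy
      rw [← Nat.card_eq_finsetCard]
      refine Nat.card_congr
        { toFun := fun n => ⟨b⁻¹ * n.1, ?_⟩
          invFun := fun t => ⟨b * t.1, ?_⟩
          left_inv := fun n => by simp
          right_inv := fun t => by simp }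
      · have h := (Finset.mem_filter.1 n.2).2
        simp only [hf] at h
        rw [hC, Subgroup.mem_subgroupOf, Subgroup.mem_centralizer_singleton_iff]
        push_cast
        calc (b : G)⁻¹ * (n.1 : G) * c = (b : G)⁻¹ * ((n.1 : G) * c * (n.1 : G)⁻¹) * (n.1 : G) := by
              group
          _ = c * ((b : G)⁻¹ * (n.1 : G)) := by rw [h]; group
      · have h : (t.1 : G) * c = c * (t.1 : G) :=
          Subgroup.mem_centralizer_singleton_iff.1 (Subgroup.mem_subgroupOf.1 t.2)
        refine Finset.mem_filter.2 ⟨Finset.mem_univ _, ?_⟩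
        simp only [hf, Subgroup.coe_mul]
        calc (b : G) * (t.1 : G) * c * ((b : G) * (t.1 : G))⁻¹ =
            (b : G) * ((t.1 : G) * c) * (t.1 : G)⁻¹ * (b : G)⁻¹ := by group
          _ = (b : G) * c * (b : G)⁻¹ := by rw [h]; group
    have hcard : Nat.card N = O.card * Nat.card C := by
      rw [Nat.card_eq_fintype_card, ← Finset.card_univ,
        Finset.card_eq_sum_card_fiberwise (f := f) (t := O)
          (fun x _ => Finset.mem_image_of_mem _ (Finset.mem_univ x)),
        Finset.sum_congr rfl hfib, Finset.sum_const, smul_eq_mul]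
    have hPC : (P : Subgroup N) ≤ C := fun x hx => by
      rw [hC, Subgroup.mem_subgroupOf, Subgroup.mem_centralizer_singleton_iff]
      exact hc x hx
    intro hd
    refine P.not_dvd_index ?_
    have h1 : C.index = O.card := by
      have := C.card_mul_index
      rw [hcard, mul_comm] at this
      exact mul_right_cancel₀ (Nat.card_pos (α := C)).ne' this
    rw [← Subgroup.relIndex_mul_index hPC, h1]
    exact dvd_mul_of_dvd_right hd _
  · rw [aug, orbSum]
    simp only [coeff_ofFun]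
    rw [← Finset.sum_filter, Finset.sum_const, nsmul_one]
    congr 2
    ext x
    simp [hO, hf]

/-- Operators commuting with `N` act by scalars when the restriction to `N` is irreducible. -/
theorem omega_mul_inv (ψ : IrrCharacter G) (θ : IrrCharacter N)
    (hres : ∀ n : N, (ψ : G → ℂ) n = (θ : N → ℂ) n) {z : MonoidAlgebra ℂ G} (hz : Inv N z)
    (w : MonoidAlgebra ℂ G) :
    omega (ψ : G → ℂ) (z * w) = omega (ψ : G → ℂ) z * omega (ψ : G → ℂ) w := by
  obtain ⟨n, ρ, hirr, hχ⟩ := ψ.2
  have hchar : (repComap N.subtype ρ).character = (θ : N → ℂ) := by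
    funext m
    rw [← hres m, ← hχ]
    rfl
  haveI : (repComap N.subtype ρ).IsIrreducible :=
    isIrreducible_of_isIrrCharacter _ (hchar ▸ θ.2)
  obtain ⟨c, hc, htr⟩ := exists_scalar_of_commute (repComap N.subtype ρ) (ρ.asAlgebraHom z)
    fun m v => by
      have hcomm : z * MonoidAlgebra.single (m : G) 1 = MonoidAlgebra.single (m : G) 1 * z := by
        refine MonoidAlgebra.ext ?_
        ext x
        have := hz (m : G) m.2 ((m : G)⁻¹ * x)
        simp only [mul_inv_cancel_left] at this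
        simp [this]
      have := congrArg ρ.asAlgebraHom hcomm
      rw [map_mul, map_mul, Representation.asAlgebraHom_single_one] at this
      exact LinearMap.congr_fun this v
  rw [omega_apply, omega_apply, omega_apply, ← hχ, chiSum_character, chiSum_character,
    chiSum_character, map_mul, htr, hc, Representation.char_one, smul_mul_assoc]
  rw [show (LinearMap.id : Module.End ℂ (Fin n → ℂ)) = 1 from rfl, one_mul, map_smul, smul_eq_mul]
  have hn : (Module.finrank ℂ (Fin n → ℂ) : ℂ) ≠ 0 :=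
    Nat.cast_ne_zero.mpr (finrank_pos_of_irreducible ρ).ne'
  field_simp

/-- On elements supported in `N` the character acts through its restriction. -/
theorem omega_sup_one [Fintype N] (hM : IsPModular p M) (ψ : IrrCharacter G) (θ : IrrCharacter N)
    (hres : ∀ n : N, (ψ : G → ℂ) n = (θ : N → ℂ) n) (hθ : θ ∈ principalBlock M N)
    {z : MonoidAlgebra ℂ G} (hz : Inv N z) (hzi : IsInt M z) (hs : Sup N 1 z) :
    MemLocalIdeal M (omega (ψ : G → ℂ) z - aug z) := by
  set w : MonoidAlgebra ℂ N := ofFun fun n => z.coeff (n : G) with hw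
  have h0 : ∀ x ∉ Set.range (fun n : N => (n : G)), z.coeff x = 0 := fun x hx => by
    by_contra h
    exact hx ⟨⟨x, (QuotientGroup.eq_one_iff x).1 (hs x h)⟩, rfl⟩
  have h1 : chiSum (ψ : G → ℂ) z = chiSum (θ : N → ℂ) w := by
    rw [chiSum_apply, chiSum_apply]
    refine (Fintype.sum_of_injective (fun n : N => (n : G)) Subtype.val_injective _ _
      (fun x hx => by rw [h0 x hx, zero_mul]) fun n => ?_).symm
    simp [hw, hres n]
  have h2 : aug z = ∑ n, w.coeff n := by
    refine (Fintype.sum_of_injective (fun n : N => (n : G)) Subtype.val_injective _ _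
      (fun x hx => h0 x hx) fun n => ?_).symm
    simp [hw]
  have h3 : (ψ : G → ℂ) 1 = (θ : N → ℂ) 1 := hres 1
  rw [h2, omega_apply, h1, h3, ← omega_apply]
  refine omega_congr_one hM hθ ⟨fun a b => ?_, fun a => by simpa [hw] using hzi a⟩
  simpa [hw] using hz (b : G) b.2 (a : G)

theorem oneInv : Inv N (1 : MonoidAlgebra ℂ G) := fun n _ x => by
  simp [MonoidAlgebra.one_def, Finsupp.single_apply, eq_comm (a := (1 : G))]

theorem sup_one : Sup N 1 (1 : MonoidAlgebra ℂ G) := fun x hx => by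
  by_contra hne
  apply hx
  have : (1 : G) ≠ x := fun e => hne (by simp [← e])
  simp [MonoidAlgebra.one_def, Finsupp.single_apply, this]

theorem aug_one : aug (1 : MonoidAlgebra ℂ G) = 1 := by
  simp [aug, MonoidAlgebra.one_def, Finsupp.single_apply]

theorem pow_facts (hM : IsPModular p M) (ψ : IrrCharacter G) (θ : IrrCharacter N)
    (hres : ∀ n : N, (ψ : G → ℂ) n = (θ : N → ℂ) n) {a : G ⧸ N} {z : MonoidAlgebra ℂ G}
    (hz : Inv N z) (hzi : IsInt M z) (hs : Sup N a z) (j : ℕ) :
    Inv N (z ^ j) ∧ IsInt M (z ^ j) ∧ Sup N (a ^ j) (z ^ j) ∧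
      omega (ψ : G → ℂ) (z ^ j) = omega (ψ : G → ℂ) z ^ j ∧ aug (z ^ j) = aug z ^ j := by
  induction j with
  | zero =>
    simp only [pow_zero]
    exact ⟨oneInv N, isInt_one hM, sup_one N, omega_one ψ, aug_one⟩
  | succ j ih =>
    obtain ⟨h1, h2, h3, h4, h5⟩ := ih
    refine ⟨?_, ?_, ?_, ?_, ?_⟩
    · rw [pow_succ]; exact inv_mul_mem N h1 hz
    · rw [pow_succ]; exact h2.mul hM hzi
    · rw [pow_succ, pow_succ]; exact sup_mul N h3 hs
    · rw [pow_succ, omega_mul_inv N ψ θ hres h1, h4, pow_succ]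
    · rw [pow_succ, aug_mul, h5, pow_succ]

theorem omega_local_inv [Fintype N] (hM : IsPModular p M) (ψ : IrrCharacter G)
    (θ : IrrCharacter N) (hres : ∀ n : N, (ψ : G → ℂ) n = (θ : N → ℂ) n)
    (hθ : θ ∈ principalBlock M N) {a : G ⧸ N} {z : MonoidAlgebra ℂ G}
    (hz : Inv N z) (hzi : IsInt M z) (hs : Sup N a z) :
    MemLocalRing M (omega (ψ : G → ℂ) z) := by
  obtain ⟨m, hm⟩ : ∃ m, orderOf a = m + 1 := ⟨orderOf a - 1, by have := orderOf_pos a; omega⟩
  obtain ⟨g1, g2, g3, g4, -⟩ := pow_facts N hM ψ θ hres hz hzi hs (m + 1)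
  rw [← hm, pow_orderOf_eq_one, hm] at g3
  have e1 := omega_sup_one N hM ψ θ hres hθ g1 g2 g3
  have hloc : MemLocalRing M (omega (ψ : G → ℂ) z ^ (m + 1)) := by
    rw [← g4]
    have := (localRing hM).add_mem (ideal_le_ring e1)
      ((localRing hM).sum_mem (t := Finset.univ) (f := fun x => (z ^ (m + 1)).coeff x)
        fun x _ => g2 x)
    simpa [aug, mem_localRing] using this
  obtain ⟨u, v, hv, huv⟩ := hloc
  have hv0 : (v : ℂ) ≠ 0 := coe_ne_zero hv
  have hint : IsIntegral ℤ (omega (ψ : G → ℂ) z * (v : ℂ)) := by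
    refine IsIntegral.of_pow (Nat.succ_pos m) ?_
    rw [mul_pow, Nat.succ_eq_add_one, ← huv,
      show (u : ℂ) / (v : ℂ) * (v : ℂ) ^ (m + 1) = (u : ℂ) * (v : ℂ) ^ m by
        rw [pow_succ]; field_simp]
    exact u.2.mul (v.2.pow m)
  exact ⟨⟨_, hint⟩, v, hv, by simp [hv0]⟩

end Operators

section Main

variable (N : Subgroup G) [N.Normal] [Fintype N]

/-- There is a linear twist acting as the augmentation modulo the ideal. -/
theorem exists_twist [hp : Fact p.Prime] (hM : IsPModular p M) (P : Sylow p N)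
    (hcov : N ⊔ Subgroup.centralizer (((P : Subgroup N).map N.subtype : Subgroup G) : Set G) = ⊤)
    (ψ : IrrCharacter G) (θ : IrrCharacter N) (hres : ∀ n : N, (ψ : G → ℂ) n = (θ : N → ℂ) n)
    (hθ : θ ∈ principalBlock M N) :
    ∃ χ : IrrCharacter G, (∀ n : N, (χ : G → ℂ) n = (θ : N → ℂ) n) ∧
      ∀ z, Inv N z → IsInt M z → MemLocalIdeal M (omega (χ : G → ℂ) z - aug z) := by
  have hrep : ∀ a : G ⧸ N, ∃ c : G, (c : G ⧸ N) = a ∧
      ∀ x : N, x ∈ (P : Subgroup N) → (x : G) * c = c * (x : G) := by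
    intro a
    obtain ⟨g, rfl⟩ := QuotientGroup.mk_surjective a
    obtain ⟨m, hm, c, hc, rfl⟩ := Subgroup.mem_sup_of_normal_left.1 (hcov ▸ Subgroup.mem_top g)
    refine ⟨c, ?_, fun x hx => hc (x : G) ⟨x, hx, rfl⟩⟩
    rw [QuotientGroup.mk_mul, (QuotientGroup.eq_one_iff m).2 hm, one_mul]
  choose c hca hcP using hrep
  have hk' := fun a => aug_orbSum N P (hcP a)
  choose k hkp hk using hk'
  have hk0 : ∀ a, (k a : ℂ) ≠ 0 := fun a =>
    Nat.cast_ne_zero.mpr fun e => hkp a (e ▸ dvd_zero p)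
  have hkinv : ∀ a, MemLocalRing M ((k a : ℂ)⁻¹) := fun a => inv_natCast_mem hM (hkp a)
  set K : G ⧸ N → MonoidAlgebra ℂ G := fun a => orbSum N (c a) with hK
  have hKI : ∀ a, Inv N (K a) := fun a => inv_orbSum N _
  have hKM : ∀ a, IsInt M (K a) := fun a => int_orbSum N hM _
  have hKS : ∀ a, Sup N a (K a) := fun a x hx => (sup_orbSum N (c a) x hx).trans (hca a)
  have hpow : ∀ a, ∀ j : ℕ, Inv N (K a ^ j) ∧ IsInt M (K a ^ j) ∧ Sup N (a ^ j) (K a ^ j) ∧
      omega (ψ : G → ℂ) (K a ^ j) = omega (ψ : G → ℂ) (K a) ^ j ∧ aug (K a ^ j) = (k a : ℂ) ^ j :=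
    fun a j => hk a ▸ pow_facts N hM ψ θ hres (hKI a) (hKM a) (hKS a) j
  set f : G ⧸ N → ℂ := fun a => omega (ψ : G → ℂ) (K a) * (k a : ℂ)⁻¹ with hf
  have hKl : ∀ a, MemLocalRing M (omega (ψ : G → ℂ) (K a)) := fun a => by
    exact omega_local_inv N hM ψ θ hres hθ (hKI a) (hKM a) (hKS a)
  have hfl : ∀ a, MemLocalRing M (f a) := fun a => (localRing hM).mul_mem (hKl a) (hkinv a)
  have key : ∀ a (z : MonoidAlgebra ℂ G), Inv N z → IsInt M z → Sup N a z →
      MemLocalIdeal M (omega (ψ : G → ℂ) z - aug z * f a) := by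
    intro a z hz hzi hzs
    obtain ⟨m, hm⟩ : ∃ m, orderOf a = m + 1 := ⟨orderOf a - 1, by have := orderOf_pos a; omega⟩
    obtain ⟨h1, h2, h3, h4, h5⟩ := hpow a m
    obtain ⟨g1, g2, g3, g4, g5⟩ := hpow a (m + 1)
    rw [← hm, pow_orderOf_eq_one, hm] at g3
    have e1 := omega_sup_one N hM ψ θ hres hθ g1 g2 g3
    have e2 := omega_sup_one N hM ψ θ hres hθ (inv_mul_mem N hz h1) (hzi.mul hM h2) (by
      have := sup_mul N hzs h3
      rwa [← pow_succ', ← hm, pow_orderOf_eq_one] at this)
    rw [g4, g5] at e1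
    rw [omega_mul_inv N ψ θ hres hz, h4, aug_mul, h5] at e2
    set s := omega (ψ : G → ℂ) z
    set t := omega (ψ : G → ℂ) (K a)
    have hs : MemLocalRing M (aug z) := (localRing hM).sum_mem fun x _ => hzi x
    -- `s k^(m+1) ≡ s t^(m+1) ≡ aug z k^m t`
    have hk1 : MemLocalRing M (((k a : ℂ)⁻¹) ^ (m + 1)) := (localRing hM).pow_mem (hkinv a) _
    have hsl : MemLocalRing M s := omega_local_inv N hM ψ θ hres hθ hz hzi hzs
    have e3 : MemLocalIdeal M (s * (k a : ℂ) ^ (m + 1) - aug z * (k a : ℂ) ^ m * t) := by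
      have := ideal_sub hM (ideal_mul_right hM e2 (hKl a)) (ideal_mul_left hM hsl e1)
      convert this using 1
      ring
    have := ideal_mul_right hM e3 hk1
    convert this using 1
    rw [hf]
    have hk' := hk0 a
    simp only
    rw [inv_pow]
    field_simp
    ring
  have hf1 : MemLocalIdeal M (f 1 - 1) := by
    have h := key 1 1 (oneInv N) (isInt_one hM) (sup_one N)
    rw [omega_one, aug_one, one_mul] at h
    exact PrincipalSylow80.ideal_sub_comm h
  have hfm : ∀ a b, MemLocalIdeal M (f a * f b - f (a * b)) := by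
    intro a b
    have h := key (a * b) (K a * K b) (inv_mul_mem N (hKI a) (hKI b)) ((hKM a).mul hM (hKM b))
      (sup_mul N (hKS a) (hKS b))
    rw [omega_mul_inv N ψ θ hres (hKI a), aug_mul, hk, hk] at h
    have := ideal_mul_right hM h ((localRing hM).mul_mem (hkinv a) (hkinv b))
    convert this using 1
    simp only [hf]
    have ha := hk0 a; have hb := hk0 b
    field_simp
  have hfp : ∀ a, ∀ j : ℕ, MemLocalIdeal M (f a ^ j - f (a ^ j)) := by
    intro a j
    induction j with
    | zero => simpa using PrincipalSylow80.ideal_sub_comm hf1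
    | succ j ih =>
      rw [pow_succ, pow_succ]
      refine PrincipalSylow80.ideal_trans hM ?_ (hfm (a ^ j) a)
      have := ideal_mul_right hM ih (hfl a)
      convert this using 1
      ring
  obtain ⟨t, m, hm, hcard⟩ := Nat.exists_eq_pow_mul_and_not_dvd
    (Nat.card_pos (α := G ⧸ N)).ne' p hp.out.ne_one
  have hm0 : 0 < m := Nat.pos_of_ne_zero fun e => hm (by rw [e]; exact dvd_zero p)
  have hroot : ∀ a, ∃ ω : ℂ, ω ^ m = 1 ∧ MemLocalIdeal M (f a - ω) := fun a => by
    refine exists_reg_root hM hm (hfl a) (t := t) ?_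
    have := hfp a (Nat.card (G ⧸ N))
    rw [pow_card_eq_one', hcard] at this
    exact PrincipalSylow80.ideal_trans hM this hf1
  choose μ hμm hμ using hroot
  have hμl : ∀ a, MemLocalRing M (μ a) := fun a =>
    memLocalRing_root hM hm0 (hμm a)
  have hμmul : ∀ a b, μ (a * b) = μ a * μ b := fun a b => by
    refine root_ext hM hm (hμm _) (by rw [mul_pow, hμm, hμm, one_mul]) ?_
    have h1 := ideal_sub hM (ideal_mul_right hM (hμ a) (hfl b)) (ideal_neg
      (ideal_mul_left hM (hμl a) (hμ b)))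
    have h2 := ideal_sub hM (ideal_sub hM h1 (hfm a b)) (hμ (a * b))
    convert h2 using 1
    ring
  have hμ0 : ∀ a, μ a ≠ 0 := fun a e => by
    have h := hμm a
    rw [e, zero_pow hm0.ne'] at h
    exact zero_ne_one h
  let lam : G →* ℂˣ := MonoidHom.mk' (fun g => (Units.mk0 (μ (g : G ⧸ N)) (hμ0 _))⁻¹) fun g h => by
    ext
    simp [hμmul, mul_comm]
  let χ : IrrCharacter G := ⟨_, isIrrCharacter_mul_linear ψ.2 lam⟩
  have hμ1 : μ 1 = 1 := by
    have h := hμmul 1 1
    rw [one_mul] at h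
    exact (mul_right_eq_self₀.1 h.symm).resolve_right (hμ0 1)
  refine ⟨χ, fun n => ?_, fun z hz hzi => ?_⟩
  · show (ψ : G → ℂ) n * (lam (n : G) : ℂ) = _
    simp [lam, (QuotientGroup.eq_one_iff (n : G)).2 n.2, hμ1, hres n]
  -- split along cosets
  set part : G ⧸ N → MonoidAlgebra ℂ G := fun a =>
    ofFun fun x => if (x : G ⧸ N) = a then z.coeff x else 0 with hpart
  have hsum : z = ∑ a, part a := by
    refine MonoidAlgebra.ext ?_
    ext x
    simp [hpart, Finsupp.finsetSum_apply]
  have hχ1 : (χ : G → ℂ) 1 = (ψ : G → ℂ) 1 := by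
    show (ψ : G → ℂ) 1 * (lam 1 : ℂ) = _
    simp
  rw [hsum, map_sum, aug, show ∑ x, (∑ a, part a).coeff x = ∑ a, aug (part a) from by
    simp only [aug, MonoidAlgebra.coeff_sum, Finsupp.finsetSum_apply]
    exact Finset.sum_comm, ← Finset.sum_sub_distrib]
  refine ideal_sum hM fun a _ => ?_
  have hI : Inv N (part a) := fun n hn x => by
    simp only [hpart, coeff_ofFun, hz n hn x, QuotientGroup.mk_mul, QuotientGroup.mk_inv,
      (QuotientGroup.eq_one_iff n).2 hn, one_mul, inv_one, mul_one]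
  have hInt : IsInt M (part a) := fun x => by
    simp only [hpart, coeff_ofFun]
    split_ifs
    exacts [hzi x, (localRing hM).zero_mem]
  have hS : Sup N a (part a) := fun x hx => by
    simp only [hpart, coeff_ofFun, ne_eq, ite_eq_right_iff, not_forall] at hx
    exact hx.1
  have hω : omega (χ : G → ℂ) (part a) = omega (ψ : G → ℂ) (part a) * (μ a)⁻¹ := by
    rw [omega_apply, omega_apply, hχ1, mul_assoc]
    congr 1
    rw [chiSum_apply, chiSum_apply, Finset.sum_mul]
    refine Finset.sum_congr rfl fun x _ => ?_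
    by_cases hx : (part a).coeff x = 0
    · simp [hx]
    show (part a).coeff x * ((ψ : G → ℂ) x * (lam x : ℂ)) = _
    simp [lam, hS x hx]
    ring
  rw [hω]
  have haug : MemLocalRing M (aug (part a)) := (localRing hM).sum_mem fun x _ => hInt x
  have hμi : MemLocalRing M (μ a)⁻¹ := memLocalRing_root hM
    hm0 (by rw [inv_pow, hμm, inv_one])
  have h1 := ideal_mul_right hM (key a (part a) hI hInt hS) hμi
  have h2 := ideal_mul_left hM haug (ideal_mul_right hM (hμ a) hμi)
  have h3 := ideal_sub hM h1 (ideal_neg h2)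
  convert h3 using 1
  have := hμ0 a
  field_simp
  ring

/-- The principal block of every intermediate subgroup. -/
theorem principal_of_aug (hM : IsPModular p M) (χ : IrrCharacter G)
    (hχ : ∀ z, Inv N z → IsInt M z → MemLocalIdeal M (omega (χ : G → ℂ) z - aug z))
    (J : Subgroup G) [Fintype J] (hNJ : N ≤ J) (ξ : IrrCharacter J)
    (hξ : ∀ y : J, (ξ : J → ℂ) y = (χ : G → ℂ) y) : ξ ∈ principalBlock M J := by
  refine mem_principal_of_omega fun y => ?_
  set w := classSum (G := J) y with hw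
  set z : MonoidAlgebra ℂ G := ofFun fun x => if h : x ∈ J then w.coeff ⟨x, h⟩ else 0 with hz
  have hz0 : ∀ x ∉ Set.range (fun j : J => (j : G)), z.coeff x = 0 := fun x hx => by
    have : x ∉ J := fun h => hx ⟨⟨x, h⟩, rfl⟩
    simp [hz, this]
  have hzj : ∀ j : J, z.coeff (j : G) = w.coeff j := fun j => by simp [hz]
  have hI : Inv N z := fun n hn x => by
    by_cases hx : x ∈ J
    · have h := isCen_classSum (G := J) y ⟨x, hx⟩ ⟨n, hNJ hn⟩
      have h' : n * x * n⁻¹ ∈ J := mul_mem (mul_mem (hNJ hn) hx) (inv_mem (hNJ hn))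
      simp only [hz, coeff_ofFun, dif_pos hx, dif_pos h', hw]
      exact h
    · have h' : n * x * n⁻¹ ∉ J := by
        rwa [Subgroup.mul_mem_cancel_right J (inv_mem (hNJ hn)),
          Subgroup.mul_mem_cancel_left J (hNJ hn)]
      simp [hz, hx, h']
  have hInt : IsInt M z := fun x => by
    simp only [hz, coeff_ofFun]
    split_ifs
    exacts [isInt_classSum hM y _, (localRing hM).zero_mem]
  have h := hχ z hI hInt
  have h1 : chiSum (χ : G → ℂ) z = chiSum (ξ : J → ℂ) w := by
    rw [chiSum_apply, chiSum_apply]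
    refine (Fintype.sum_of_injective (fun j : J => (j : G)) Subtype.val_injective _ _
      (fun x hx => by rw [hz0 x hx, zero_mul]) fun j => ?_).symm
    rw [hzj, hξ]
  have h2 : aug z = ∑ j, w.coeff j :=
    (Fintype.sum_of_injective (fun j : J => (j : G)) Subtype.val_injective _ _
      (fun x hx => hz0 x hx) fun j => (hzj j).symm).symm
  rwa [omega_apply, h1, h2, ← show (ξ : J → ℂ) 1 = (χ : G → ℂ) 1 from hξ 1, ← omega_apply] at h

end Main

end Cfsg.Agent.PrincipalExtend80

namespace Cfsg.Agent.PrincipalExtend80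

open Cfsg Cfsg.Agent.CharBasic Cfsg.Agent.CharBasicDecomp

/-- A character whose restriction along a homomorphism is irreducible is irreducible. -/
theorem irr_of_comap_irr {H : Type*} [Group H] {K : Type*} [Group K] [Finite K] (f : K →* H)
    {χ : H → ℂ} (hχ : IsCharacter H χ) (h : IsIrrCharacter K fun k => χ (f k)) :
    IsIrrCharacter H χ := by
  obtain ⟨n, σ, rfl⟩ := hχ
  have hirr : (repComap f σ).IsIrreducible := isIrreducible_of_isIrrCharacter _ h
  refine ⟨n, σ, ?_, rfl⟩
  have : Nontrivial (Subrepresentation σ) := by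
    have := nontrivial_of_irreducible (repComap f σ)
    exact ⟨⟨⊥, ⊤, fun e => bot_ne_top (α := Submodule ℂ (Fin n → ℂ))
      (congrArg Subrepresentation.toSubmodule e)⟩⟩
  refine ⟨fun W => ?_⟩
  let W' : Subrepresentation (repComap f σ) :=
    ⟨W.toSubmodule, fun k v hv => W.apply_mem_toSubmodule (f k) hv⟩
  rcases eq_bot_or_eq_top W' with e | e
  · exact Or.inl (Subrepresentation.toSubmodule_injective
      (congrArg Subrepresentation.toSubmodule e :))
  · exact Or.inr (Subrepresentation.toSubmodule_injective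
      (congrArg Subrepresentation.toSubmodule e :))

end Cfsg.Agent.PrincipalExtend80
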