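import Mathlib
import Cfsg.Prelude.Def_Blocks
import Cfsg.Agent.Lib.GaloisChar80
import Cfsg.Agent.Lib.ClassAlgebraMod
import Cfsg.Agent.Lib.CharBasicDecomp
import Cfsg.Agent.Lib.CharBasicInt

/-!
# Schur's bound on the order of a finite group with a faithful rational character
-/

set_option autoImplicit false

namespace Cfsg.Agent.SchurBound79

open scoped ComplexConjugate
open Cfsg CharBasic BlockTheoryLocalRing

universe u

theorem exists_modular (p : ℕ) (hp : p.Prime) : ∃ M : Ideal AlgInt, IsPModular p M := by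
  have hne : Ideal.span ({(p : AlgInt)} : Set AlgInt) ≠ ⊤ := by
    rw [Ne, Ideal.eq_top_iff_one, Ideal.mem_span_singleton]
    rintro ⟨z, hz⟩
    refine hp.not_dvd_one (CharBasicInt.dvd_of_isIntegral_div hp.ne_zero ?_)
    have := congrArg (fun w : AlgInt => (w : ℂ)) hz
    simp only [OneMemClass.coe_one, MulMemClass.coe_mul] at this
    rw [Nat.cast_one, show ((1 : ℂ) / (p : ℂ)) = (z : ℂ) by
      rw [div_eq_iff (Nat.cast_ne_zero.2 hp.ne_zero), mul_comm]; simpa using this]
    exact z.2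
  obtain ⟨M, hM, hle⟩ := Ideal.exists_le_maximal _ hne
  exact ⟨M, hp, hM, hle (Ideal.subset_span rfl)⟩

theorem fixed_of_mem_adjoin (σ : ℂ ≃+* ℂ) {ζ : ℂ} (hζ : σ ζ = ζ) {x : ℂ}
    (hx : x ∈ IntermediateField.adjoin ℚ ({ζ} : Set ℂ)) : σ x = x := by
  induction hx using IntermediateField.adjoin_induction with
  | mem z hz => rw [Set.mem_singleton_iff.1 hz, hζ]
  | algebraMap q => exact map_ratCast σ q
  | add a b _ _ ha hb => rw [map_add, ha, hb]
  | inv a _ ha => rw [map_inv₀, ha]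
  | mul a b _ _ ha hb => rw [map_mul, ha, hb]

theorem geom_sum_root {μ : ℂ} {n : ℕ} (h : μ ^ n = 1) :
    ∃ m : ℕ, m ≤ 1 ∧ ∑ i ∈ Finset.range n, μ ^ i = ((n * m : ℕ) : ℂ) := by
  by_cases h1 : μ = 1
  · exact ⟨1, le_rfl, by simp [h1]⟩
  · exact ⟨0, zero_le_one, by rw [geom_sum_eq h1, h, sub_self, zero_div]; simp⟩

variable {G : Type u} [Group G] [Finite G] {p : ℕ}

theorem sum_powers {n : ℕ} (ρ : Representation ℂ G (Fin n → ℂ)) (g : G) {N : ℕ}
    (hN : g ^ N = 1) :
    ∃ m : ℕ, m ≤ n ∧ ∑ i ∈ Finset.range N, ρ.character (g ^ i) = ((N * m : ℕ) : ℂ) := by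
  obtain ⟨b, μ, -, hμ, -, hpow⟩ := exists_rep_eigenbasis ρ g
  choose m hm hms using fun i => geom_sum_root (μ := μ i) (n := N) (by
    obtain ⟨k, rfl⟩ := orderOf_dvd_of_pow_eq_one hN
    rw [pow_mul, hμ, one_pow])
  refine ⟨∑ i, m i, ?_, ?_⟩
  · calc ∑ i, m i ≤ ∑ _i : Fin (Module.finrank ℂ (Fin n → ℂ)), 1 := Finset.sum_le_sum fun i _ => hm i
    _ = n := by simp
  · simp only [hpow]
    rw [Finset.sum_comm, Finset.sum_congr rfl fun i _ => hms i, Finset.mul_sum, Nat.cast_sum]

theorem range_not_coprime (hp : p.Prime) (e : ℕ) :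
    (Finset.range (p ^ (e + 1))).filter (fun i => ¬ (p ^ (e + 1)).Coprime i)
      = (Finset.range (p ^ e)).image (p * ·) := by
  ext i
  rw [Finset.mem_filter, Finset.mem_image, Nat.coprime_pow_left_iff e.succ_pos,
    hp.coprime_iff_not_dvd, not_not]
  constructor
  · rintro ⟨hi, j, rfl⟩
    refine ⟨j, Finset.mem_range.2 ?_, rfl⟩
    rw [Finset.mem_range, pow_succ'] at hi
    exact Nat.lt_of_mul_lt_mul_left hi
  · rintro ⟨j, hj, rfl⟩
    refine ⟨?_, dvd_mul_right p j⟩
    rw [Finset.mem_range, pow_succ']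
    exact Nat.mul_lt_mul_of_pos_left (Finset.mem_range.1 hj) hp.pos

/-- A `p`-element `x ≠ 1` and a `p`-rational character value. -/
theorem exists_value (hp : p.Prime) {χ : G → ℂ} (hχ : IsCharacter G χ) {r : ℕ} (hr : 0 < r)
    (hpr : ¬ p ∣ r)
    (hrat : ∀ g : G, χ g ∈ IntermediateField.adjoin ℚ
      ({Complex.exp (2 * Real.pi * Complex.I / r)} : Set ℂ))
    (hfaith : ∀ g : G, χ g = χ 1 → g = 1) {n : ℕ} (hn : χ 1 = n) {x : G} {e : ℕ}
    (hx : orderOf x = p ^ (e + 1)) :
    ∃ k : ℕ, 1 ≤ k ∧ k ≤ n / (p - 1) ∧ χ x = (n : ℂ) - ((p * k : ℕ) : ℂ) := by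
  obtain ⟨M, hM⟩ := exists_modular p hp
  -- congruence
  have hcongr : MemLocalIdeal M (χ x - χ 1) := by
    haveI := Fintype.ofFinite G
    obtain ⟨a, -, ha⟩ := CharBasicDecomp.exists_mult hχ
    rw [ha, Finset.sum_apply, Finset.sum_apply, ← Finset.sum_sub_distrib]
    refine ideal_sum hM fun ψ _ => ?_
    simp only [Pi.smul_apply, smul_eq_mul, nsmul_eq_mul, Pi.mul_apply, Pi.natCast_def]
    rw [← mul_sub]
    exact ideal_mul_left hM (of_isIntegral hM ((isIntegral_algebraMap (x := (a ψ : ℤ))) ))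
      (ClassAlgebraMod.character_pElement_congr hM ψ hx)
  obtain ⟨d, ρ, rfl⟩ := hχ
  have hd : d = n := by
    rw [Representation.char_one] at hn
    simpa using hn
  subst hd
  set ζ := Complex.exp (2 * Real.pi * Complex.I / r)
  have hζ : ζ ^ r = 1 := (Complex.isPrimitiveRoot_exp r hr.ne').pow_eq_one
  have hcop : (p ^ (e + 1)).Coprime r :=
    (Nat.coprime_pow_left_iff e.succ_pos p r).2 (hp.coprime_iff_not_dvd.2 hpr)
  -- Galois invariance
  have hinv : ∀ c : ℕ, (p ^ (e + 1)).Coprime c → ρ.character (x ^ c) = ρ.character x := by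
    intro c hc
    obtain ⟨k, hk1, hk2⟩ := Nat.chineseRemainder hcop c 1
    have hkN : k.Coprime (p ^ (e + 1) * r) := by
      refine Nat.Coprime.mul_right ?_ ?_
      · rw [Nat.coprime_iff_gcd_eq_one, hk1.gcd_eq]
        exact hc.symm.gcd_eq_one
      · rw [Nat.coprime_iff_gcd_eq_one, hk2.gcd_eq, Nat.gcd_one_left]
    obtain ⟨σ, hσ⟩ := GaloisChar80.exists_aut (Nat.mul_pos (pow_pos hp.pos _) hr) hkN
    have hσζ : σ ζ = ζ := by
      rw [hσ ζ (by rw [mul_comm, pow_mul, hζ, one_pow]), pow_eq_pow_mod k hζ, hk2,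
        ← pow_eq_pow_mod 1 hζ, pow_one]
    obtain ⟨b, μ, -, hμ, -, hpow⟩ := exists_rep_eigenbasis ρ x
    have h1 : ρ.character x = ∑ i, μ i := by simpa using hpow 1
    calc ρ.character (x ^ c) = ρ.character (x ^ k) := by
          congr 1
          rw [pow_eq_pow_iff_modEq, hx]
          exact hk1.symm
    _ = ∑ i, μ i ^ k := hpow k
    _ = σ (ρ.character x) := by
          rw [h1, map_sum]
          refine Finset.sum_congr rfl fun i _ => (hσ _ ?_).symm
          rw [pow_mul, ← hx, hμ, one_pow]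
    _ = ρ.character x := fixed_of_mem_adjoin σ hσζ (hrat x)
  -- the two sums
  obtain ⟨m, -, hm⟩ := sum_powers ρ x (hx ▸ pow_orderOf_eq_one x)
  obtain ⟨m', hm'n, hm'⟩ := sum_powers ρ (x ^ p) (N := p ^ e)
    (by rw [← pow_mul, ← pow_succ', ← hx, pow_orderOf_eq_one])
  rw [← Finset.sum_filter_add_sum_filter_not _ (fun i => (p ^ (e + 1)).Coprime i),
    Finset.sum_congr rfl fun i hi => hinv i (Finset.mem_filter.1 hi).2, Finset.sum_const,
    range_not_coprime hp e, Finset.sum_image fun a _ b _ h => Nat.eq_of_mul_eq_mul_left hp.pos h,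
    Finset.sum_congr rfl fun i _ => by rw [pow_mul], hm', nsmul_eq_mul,
    show ((Finset.range (p ^ (e + 1))).filter fun i => (p ^ (e + 1)).Coprime i).card
      = (p ^ (e + 1)).totient from (Nat.totient_eq_card_coprime _).symm,
    Nat.totient_prime_pow hp e.succ_pos, Nat.succ_sub_one] at hm
  have hp1 : 0 < p - 1 := Nat.sub_pos_of_lt hp.one_lt
  have hval : ((p - 1 : ℕ) : ℂ) * ρ.character x = (p : ℂ) * m - m' := by
    have h0 : ((p ^ e : ℕ) : ℂ) ≠ 0 := Nat.cast_ne_zero.2 (pow_pos hp.pos e).ne'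
    refine mul_left_cancel₀ h0 ?_
    push_cast [pow_succ] at hm ⊢
    linear_combination hm
  obtain ⟨z, hz⟩ : ∃ z : ℤ, ρ.character x = z := by
    have hi := isIntegral_character ρ x
    have hq : ρ.character x = algebraMap ℚ ℂ (((p : ℚ) * m - m') / ((p - 1 : ℕ) : ℚ)) := by
      rw [map_div₀, map_sub, map_mul, map_natCast, map_natCast, map_natCast, map_natCast, eq_div_iff
        (Nat.cast_ne_zero.2 hp1.ne'), mul_comm, hval]
    rw [hq, isIntegral_algebraMap_iff (algebraMap ℚ ℂ).injective] at hi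
    obtain ⟨z, hz⟩ := IsIntegrallyClosed.isIntegral_iff.1 hi
    exact ⟨z, by rw [hq, ← hz]; simp⟩
  rw [hz, hn] at hcongr
  rw [hz] at hval
  have hvalz : ((p - 1 : ℕ) : ℤ) * z = (p : ℤ) * m - m' := by exact_mod_cast hval
  have hzle : z ≤ d := by
    have := norm_character_le ρ x
    rw [hz, Module.finrank_fin_fun, Complex.norm_intCast] at this
    exact_mod_cast (le_abs_self (z : ℝ)).trans this
  obtain ⟨w, hw⟩ : ∃ w : ℕ, z = (d : ℤ) - w := ⟨((d : ℤ) - z).toNat, by
    rw [Int.toNat_of_nonneg (by omega)]; ring⟩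
  subst hw
  have hdvd : p ∣ w := by
    rw [← natCast_mem_iff hM]
    have := ideal_neg hcongr
    push_cast at this
    simpa using this
  obtain ⟨k, rfl⟩ := hdvd
  refine ⟨k, ?_, ?_, by rw [hz]; push_cast; ring⟩
  · by_contra h0
    have : k = 0 := by omega
    subst this
    have h1 := hfaith x (by rw [hz, hn]; simp)
    rw [h1, orderOf_one] at hx
    exact (one_lt_pow₀ hp.one_lt e.succ_ne_zero).ne hx
  · rw [Nat.le_div_iff_mul_le hp1]
    obtain ⟨q, rfl⟩ : ∃ q, p = q + 1 := ⟨p - 1, by omega⟩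
    simp only [Nat.add_sub_cancel] at hvalz ⊢
    push_cast at hvalz
    have hm0 : (0 : ℤ) ≤ (q + 1) * m := by positivity
    have : (m' : ℤ) ≤ d := by exact_mod_cast hm'n
    have h2 : ((k * q : ℕ) : ℤ) * (q + 1) ≤ (d : ℤ) * (q + 1) := by push_cast; nlinarith
    exact_mod_cast le_of_mul_le_mul_right h2 (by positivity)

theorem schur_bound (hp : p.Prime) {χ : G → ℂ} (hχ : IsCharacter G χ)
    (hfaith : ∀ g : G, χ g = χ 1 → g = 1) {r : ℕ} (hr : 0 < r) (hpr : ¬ p ∣ r)
    (hrat : ∀ g : G, χ g ∈ IntermediateField.adjoin ℚ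
      ({Complex.exp (2 * Real.pi * Complex.I / r)} : Set ℂ))
    {n : ℕ} (hn : χ 1 = n) :
    (Nat.card G).factorization p ≤ ∑ i ∈ Finset.range (n + 1), n / ((p - 1) * p ^ i) := by
  classical
  haveI := Fact.mk hp
  obtain ⟨P⟩ : Nonempty (Sylow p G) := inferInstance
  haveI := Fintype.ofFinite (P : Subgroup G)
  set m := n / (p - 1) with hm
  let ψ : ↥(P : Subgroup G) → ℂ := fun x => χ x
  have hψ : IsCharacter (P : Subgroup G) ψ := isCharacter_comap (P : Subgroup G).subtype hχ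
  let F : ℕ → (↥(P : Subgroup G) → ℂ) := fun j x =>
    ∏ k ∈ Finset.Icc 1 j, (ψ x - (((n : ℤ) - (p * k : ℕ) : ℤ) : ℂ))
  have hF : ∀ j, IsGeneralizedCharacter (P : Subgroup G) (F j) := by
    intro j
    induction j with
    | zero =>
      have : F 0 = fun _ => 1 := funext fun x => by simp [F]
      rw [this]
      exact CharBasicDecomp.isGeneralizedCharacter_of_isCharacter CharBasicDecomp.isCharacter_one
    | succ j ih =>
      have : F (j + 1) = F j * (ψ - (((n : ℤ) - (p * (j + 1) : ℕ) : ℤ) : ℂ) • (fun _ => (1 : ℂ))) := by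
        funext x
        simp only [F, Pi.mul_apply, Pi.sub_apply, Pi.smul_apply, smul_eq_mul, mul_one]
        rw [Finset.prod_Icc_succ_top (by omega)]
      rw [this]
      exact CharBasicDecomp.isGeneralizedCharacter_mul ih
        (CharBasicDecomp.isGeneralizedCharacter_sub
          (CharBasicDecomp.isGeneralizedCharacter_of_isCharacter hψ)
          (CharBasicDecomp.isGeneralizedCharacter_zsmul
            (CharBasicDecomp.isGeneralizedCharacter_of_isCharacter CharBasicDecomp.isCharacter_one) _))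
  have hoff : ∀ x : (P : Subgroup G), x ≠ 1 → F m x = 0 := by
    intro x hx
    obtain ⟨e, he⟩ := (IsPGroup.iff_orderOf.1 P.2) x
    cases e with
    | zero => exact absurd (orderOf_eq_one_iff.1 (by simpa using he)) hx
    | succ e =>
      rw [← Subgroup.orderOf_coe] at he
      obtain ⟨k, hk1, hk2, hk⟩ := exists_value hp hχ hr hpr hrat hfaith hn he
      refine Finset.prod_eq_zero (i := k) (Finset.mem_Icc.2 ⟨hk1, hk2⟩) ?_
      simp only [ψ, hk]
      push_cast
      ring
  have hone : F m 1 = ((p ^ m * m.factorial : ℕ) : ℂ) := by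
    have e : ∀ k, ψ 1 - (((n : ℤ) - (p * k : ℕ) : ℤ) : ℂ) = ((p * k : ℕ) : ℂ) := by
      intro k
      simp only [ψ, OneMemClass.coe_one, hn]
      push_cast
      ring
    simp only [F, e]
    rw [← Nat.cast_prod, Finset.prod_mul_distrib, Finset.prod_const, Nat.card_Icc,
      ← Finset.Ico_add_one_right_eq_Icc, Finset.prod_Ico_id_eq_factorial, Nat.add_sub_cancel]
  obtain ⟨z, hz⟩ := CharBasicDecomp.classInner_isGeneralizedCharacter (hF m)
    (CharBasicDecomp.isGeneralizedCharacter_of_isCharacter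
      (CharBasicDecomp.isCharacter_one (G := (P : Subgroup G))))
  have hinner : classInner (F m) (fun _ => 1) = ((p ^ m * m.factorial : ℕ) : ℂ) / (Nat.card P : ℂ) := by
    rw [classInner, Finset.sum_eq_single (1 : (P : Subgroup G))]
    · rw [hone, map_one, mul_one, div_eq_inv_mul]
    · intro x _ hx
      rw [hoff x hx, zero_mul]
    · simp
  have hdvd : Nat.card P ∣ p ^ m * m.factorial :=
    CharBasicInt.dvd_of_isIntegral_div Nat.card_pos.ne' (by
      rw [← hinner, hz]; exact isIntegral_algebraMap)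
  rw [Sylow.card_eq_multiplicity, Nat.Prime.pow_dvd_iff_le_factorization hp
    (mul_ne_zero (pow_ne_zero _ hp.ne_zero) m.factorial_ne_zero),
    Nat.factorization_mul (pow_ne_zero _ hp.ne_zero) m.factorial_ne_zero] at hdvd
  have hlog : Nat.log p m < n + 1 :=
    Nat.lt_succ_of_le ((Nat.log_le_self p m).trans (Nat.div_le_self n _))
  rw [Finsupp.coe_add, Pi.add_apply, Nat.Prime.factorization_pow hp, Finsupp.single_eq_same,
    Nat.factorization_factorial hp hlog] at hdvd
  refine hdvd.trans (le_of_eq ?_)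
  rw [Finset.range_eq_Ico, Finset.sum_eq_sum_Ico_succ_bot (Nat.succ_pos n), pow_zero, mul_one]
  congr 1
  exact Finset.sum_congr rfl fun i _ => Nat.div_div_eq_div_mul _ _ _

end Cfsg.Agent.SchurBound79
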