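/-
Tools for canonical extensions of p-rational characters: recognising cyclotomic values,
determinants of power twists, and the augmentation property under twists.
-/
import Mathlib
import Cfsg.Agent.Lib.CharExtension
import Cfsg.Agent.Lib.PrincipalExtend80
import Cfsg.Agent.Lib.SchurBound79
import Cfsg.Agent.Lib.GaloisChar80

set_option autoImplicit false

namespace Cfsg.Agent.PRatExtend75

open Cfsg Cfsg.Agent.CharBasic Cfsg.Agent.CharBasicDecomp Cfsg.Agent.CharExtension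
open Cfsg.Agent.BlockTheoryLocalRing Cfsg.Agent.BlockTheoryCentre Cfsg.Agent.PrincipalExtend80

universe u

/-- The `p`-free part of a natural number. -/
def pFree (p n : ℕ) : ℕ := n / p ^ n.factorization p

theorem pFree_spec {p n : ℕ} (hp : p.Prime) (hn : n ≠ 0) :
    ¬ p ∣ pFree p n ∧ p ^ n.factorization p * pFree p n = n ∧ 0 < pFree p n :=
  ⟨Nat.not_dvd_ordCompl hp hn, Nat.ordProj_mul_ordCompl_eq_self n p, Nat.ordCompl_pos p hn⟩

theorem pFree_dvd {p a b : ℕ} (h : a ∣ b) : pFree p a ∣ pFree p b :=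
  Nat.ordCompl_dvd_ordCompl_of_dvd h p

/-- A value fixed by all power twists congruent to one modulo `m` is a combination of `m`-th roots
of unity. -/
theorem mem_adjoin_of_fixed {p m : ℕ} (hp : p.Prime) (hm : ¬ p ∣ m) (hm0 : 0 < m) (t : ℕ)
    {ι : Type*} [Fintype ι] (ω : ι → ℂ) (hω : ∀ i, ω i ^ (p ^ (t + 1) * m) = 1) (x : ℂ)
    (hx : ∀ k : ℕ, k.Coprime p → k ≡ 1 [MOD m] → ∑ i, ω i ^ k = x) :
    x ∈ IntermediateField.adjoin ℚ ({Complex.exp (2 * Real.pi * Complex.I / m)} : Set ℂ) := by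
  set q := p ^ (t + 1) with hq
  set L := IntermediateField.adjoin ℚ ({Complex.exp (2 * Real.pi * Complex.I / m)} : Set ℂ)
  have hcop : q.Coprime m := (hp.coprime_iff_not_dvd.2 hm).pow_left _
  obtain ⟨a, haq, ham⟩ := Nat.chineseRemainder hcop 0 1
  obtain ⟨b, hbq, hbm⟩ := Nat.chineseRemainder hcop 1 0
  have hab : a + b ≡ 1 [MOD q * m] :=
    (Nat.modEq_and_modEq_iff_modEq_mul hcop).1 ⟨by simpa using haq.add hbq, by simpa using ham.add hbm⟩
  have hpow : ∀ i, ω i ^ a * ω i ^ b = ω i := fun i => by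
    rw [← pow_add, pow_eq_pow_mod _ (hω i), hab, ← pow_eq_pow_mod _ (hω i), pow_one]
  have hα : ∀ i, (ω i ^ a) ^ m = 1 := fun i => by
    obtain ⟨c, rfl⟩ := Nat.modEq_zero_iff_dvd.1 haq
    rw [← pow_mul, show q * c * m = q * m * c by ring, pow_mul, hω, one_pow]
  have hβ : ∀ i, (ω i ^ b) ^ q = 1 := fun i => by
    obtain ⟨c, rfl⟩ := Nat.modEq_zero_iff_dvd.1 hbm
    rw [← pow_mul, show m * c * q = q * m * c by ring, pow_mul, hω, one_pow]
  set U := (Finset.range q).filter (fun j => q.Coprime j) with hU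
  have hsum : (U.card : ℂ) * x = ∑ i, ω i ^ a * ∑ j ∈ U, (ω i ^ b) ^ j := by
    simp only [Finset.mul_sum]
    rw [Finset.sum_comm, ← nsmul_eq_mul, ← Finset.sum_const]
    refine Finset.sum_congr rfl fun j hj => ?_
    have hjp : p.Coprime j :=
      (Nat.coprime_pow_left_iff t.succ_pos p j).1 (Finset.mem_filter.1 hj).2
    rw [← hx (a + b * j) ?_ ?_]
    · exact Finset.sum_congr rfl fun i _ => by rw [pow_add, pow_mul]
    · have h1 : a + b * j ≡ j [MOD p] := by
        have := (haq.add (hbq.mul_right j)).of_dvd (dvd_pow_self p t.succ_ne_zero)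
        simpa using this
      exact (Nat.ModEq.gcd_eq h1).trans (Nat.coprime_comm.1 hjp)
    · simpa using ham.add (hbm.mul_right j)
  have hS : ∀ β : ℂ, β ^ q = 1 → ∑ j ∈ U, β ^ j ∈ L := by
    intro β hβ
    obtain ⟨u, -, hu⟩ := SchurBound79.geom_sum_root hβ
    obtain ⟨v, -, hv⟩ := SchurBound79.geom_sum_root (μ := β ^ p) (n := p ^ t)
      (by rw [← pow_mul, ← pow_succ']; exact hβ)
    have h := Finset.sum_filter_add_sum_filter_not (Finset.range q) (fun j => q.Coprime j)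
      (fun j => β ^ j)
    rw [hu, SchurBound79.range_not_coprime hp t, Finset.sum_image (fun i _ j _ e =>
      Nat.eq_of_mul_eq_mul_left hp.pos e)] at h
    simp only [pow_mul, hv] at h
    rw [show ∑ j ∈ U, β ^ j = ((q * u : ℕ) : ℂ) - ((p ^ t * v : ℕ) : ℂ) from eq_sub_of_add_eq h]
    exact sub_mem (natCast_mem L _) (natCast_mem L _)
  have hαL : ∀ i, ω i ^ a ∈ L := fun i => by
    haveI : NeZero m := ⟨hm0.ne'⟩
    obtain ⟨j, -, hj⟩ := (Complex.isPrimitiveRoot_exp m hm0.ne').eq_pow_of_pow_eq_one (hα i)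
    rw [← hj]
    exact pow_mem (IntermediateField.mem_adjoin_simple_self ℚ _) j
  have hU0 : (U.card : ℂ) ≠ 0 := by
    have h1 : 1 ∈ U := Finset.mem_filter.2
      ⟨Finset.mem_range.2 (Nat.one_lt_pow t.succ_ne_zero hp.one_lt), Nat.coprime_one_right q⟩
    exact Nat.cast_ne_zero.2 (Finset.card_ne_zero.2 ⟨1, h1⟩)
  have hxe : x = (U.card : ℂ)⁻¹ * ∑ i, ω i ^ a * ∑ j ∈ U, (ω i ^ b) ^ j := by
    rw [← hsum, inv_mul_cancel_left₀ hU0]
  rw [hxe]
  exact mul_mem (inv_mem (natCast_mem L _))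
    (sum_mem fun i _ => mul_mem (hαL i) (hS _ (hβ i)))

variable {G : Type u} [Group G]

/-- Fixed by all Galois twists that fix the `p'`-roots of unity. -/
def PRat (p : ℕ) (χ : G → ℂ) : Prop :=
  ∀ k : ℕ, k.Coprime p → k ≡ 1 [MOD pFree p (Nat.card G)] → ∀ g, χ (g ^ k) = χ g

theorem coprime_card [Finite G] {p k : ℕ} (hp : p.Prime) (h1 : k.Coprime p)
    (h2 : k ≡ 1 [MOD pFree p (Nat.card G)]) : k.Coprime (Nat.card G) := by
  obtain ⟨-, h, -⟩ := pFree_spec hp (Nat.card_pos (α := G)).ne'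
  rw [← h]
  exact (h1.pow_right _).mul_right ((Nat.ModEq.gcd_eq h2).trans (Nat.gcd_one_left _))

theorem prat_mem_adjoin [Finite G] {p : ℕ} (hp : p.Prime) {χ : G → ℂ} (hχ : IsCharacter G χ)
    (h : PRat p χ) (g : G) :
    χ g ∈ IntermediateField.adjoin ℚ
      ({Complex.exp (2 * Real.pi * Complex.I / pFree p (Nat.card G))} : Set ℂ) := by
  obtain ⟨n, ρ, rfl⟩ := hχ
  obtain ⟨b, μ, -, hμ, -, hpow⟩ := exists_rep_eigenbasis ρ g
  obtain ⟨h1, h2, h3⟩ := pFree_spec hp (Nat.card_pos (α := G)).ne'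
  refine mem_adjoin_of_fixed hp h1 h3 ((Nat.card G).factorization p) μ (fun i => ?_) _
    (fun k hk hk1 => by rw [← hpow k]; exact h k hk hk1 g)
  obtain ⟨c, hc⟩ := orderOf_dvd_natCard g
  rw [show p ^ ((Nat.card G).factorization p + 1) * pFree p (Nat.card G) =
    p * Nat.card G by rw [pow_succ', mul_assoc, h2], hc, mul_left_comm, pow_mul, hμ, one_pow]

/-- Values in a cyclotomic field of index prime to `p` are fixed by the twists. -/
theorem prat_of_mem_adjoin [Finite G] {p m : ℕ} (hp : p.Prime) (hm : ¬ p ∣ m) {χ : G → ℂ}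
    (hχ : IsCharacter G χ)
    (h : ∀ g, χ g ∈ IntermediateField.adjoin ℚ
      ({Complex.exp (2 * Real.pi * Complex.I / m)} : Set ℂ)) : PRat p χ := by
  intro k hk hk1 g
  have hm0 : 0 < m := Nat.pos_of_ne_zero fun e => hm (e ▸ dvd_zero p)
  obtain ⟨h1, h2, h3⟩ := pFree_spec hp (Nat.card_pos (α := G)).ne'
  have hg : k ≡ 1 [MOD (Nat.card G).gcd m] := by
    refine hk1.of_dvd ?_
    have hd : (Nat.card G).gcd m ∣ p ^ (Nat.card G).factorization p * pFree p (Nat.card G) :=
      h2.symm ▸ Nat.gcd_dvd_left _ m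
    exact (Nat.Coprime.coprime_dvd_left (Nat.gcd_dvd_right _ m)
      ((hp.coprime_iff_not_dvd.2 hm).symm.pow_right _)).dvd_of_dvd_mul_left hd
  obtain ⟨k', hk'n, hk'm⟩ := Nat.chineseRemainder' hg
  have hc1 : k'.Coprime (Nat.card G) :=
    (Nat.ModEq.gcd_eq hk'n).trans (coprime_card hp hk hk1)
  have hc2 : k'.Coprime m := (Nat.ModEq.gcd_eq hk'm).trans (Nat.gcd_one_left _)
  obtain ⟨σ, hσ⟩ := GaloisChar80.exists_aut (Nat.mul_pos (Nat.card_pos (α := G)) hm0)
    (hc1.mul_right hc2)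
  have hz : σ (Complex.exp (2 * Real.pi * Complex.I / m)) =
      Complex.exp (2 * Real.pi * Complex.I / m) := by
    have hpr := (Complex.isPrimitiveRoot_exp m hm0.ne').pow_eq_one
    rw [hσ _ (by rw [mul_comm (Nat.card G) m, pow_mul, hpr, one_pow]), pow_eq_pow_mod _ hpr, hk'm,
      ← pow_eq_pow_mod _ hpr, pow_one]
  obtain ⟨n, ρ, rfl⟩ := hχ
  have hfix := SchurBound79.fixed_of_mem_adjoin σ hz (h g)
  obtain ⟨b, μ, -, hμ, -, hpow⟩ := exists_rep_eigenbasis ρ g
  have hroot : ∀ i, μ i ^ Nat.card G = 1 := fun i => by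
    obtain ⟨c, hc⟩ := orderOf_dvd_natCard g
    rw [hc, pow_mul, hμ, one_pow]
  have e1 : ρ.character g = ∑ i, μ i := by simpa using hpow 1
  calc ρ.character (g ^ k) = ∑ i, μ i ^ k := hpow k
    _ = ∑ i, σ (μ i) := Finset.sum_congr rfl fun i _ => by
        rw [hσ _ (by rw [pow_mul, hroot, one_pow]), pow_eq_pow_mod k (hroot i),
          pow_eq_pow_mod k' (hroot i), hk'n]
    _ = σ (ρ.character g) := by rw [e1, map_sum]
    _ = ρ.character g := hfix

section Det

variable {d : ℕ}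

/-- The determinant of a power twist is the power of the determinant. -/
theorem detU_pow [Finite G] (η η' : G →* GU' d) (k : ℕ)
    (h : ∀ y, chr η' y = chr η (y ^ k)) (x : G) :
    detU d (η' x) = detU d (η x) ^ k := by
  let Z := Subgroup.zpowers x
  let f1 : Z →* GU' d := η'.comp Z.subtype
  let f2 : Z →* GU' d := MonoidHom.mk' (fun z => η ((z : G) ^ k)) fun a b => by
    obtain ⟨i, hi⟩ := Subgroup.mem_zpowers_iff.1 a.2
    obtain ⟨j, hj⟩ := Subgroup.mem_zpowers_iff.1 b.2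
    rw [Subgroup.coe_mul, (show Commute (a : G) (b : G) by
      rw [← hi, ← hj]; exact Commute.zpow_zpow_self x i j).mul_pow, map_mul]
  have hc : chr f1 = chr f2 := funext fun z => h z
  apply Units.ext
  have e1 := detChar_chr f1 ⟨x, Subgroup.mem_zpowers x⟩
  rw [hc, detChar_chr f2] at e1
  change (detU d (η (x ^ k)) : ℂ) = (detU d (η' x) : ℂ) at e1
  rw [← e1, map_pow η, map_pow, Units.val_pow_eq_pow_val]

/-- The determinant has order prime to `p`. -/
def DetReg (p : ℕ) (η : G →* GU' d) : Prop :=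
  ∀ g, detU d (η g) ^ pFree p (Nat.card G) = 1

/-- The determinant of a rational hom has order prime to `p`, for odd `p`. -/
theorem detReg_of_prat [Finite G] {p : ℕ} (hp : p.Prime) (hp2 : p ≠ 2) (η : G →* GU' d)
    (h : PRat p (chr η)) : DetReg p η := by
  intro g
  obtain ⟨h1, h2, h3⟩ := pFree_spec hp (Nat.card_pos (α := G)).ne'
  set m := pFree p (Nat.card G)
  set q := p ^ (Nat.card G).factorization p
  obtain ⟨k, hkm, hkp⟩ := Nat.chineseRemainder (hp.coprime_iff_not_dvd.2 h1).symm 1 2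
  have hk2 : k.Coprime p := (Nat.ModEq.gcd_eq hkp).trans
    ((Nat.coprime_primes Nat.prime_two hp).2 (Ne.symm hp2))
  have e : detU d (η g) ^ k = detU d (η g) :=
    (detU_pow η η k (fun y => (h k hk2 hkm y).symm) g).symm
  have hk0 : 1 ≤ k := Nat.one_le_iff_ne_zero.2 fun e0 => by
    subst e0
    exact hp.one_lt.ne' ((Nat.coprime_zero_left p).1 hk2)
  set δ := detU d (η g)
  have e1 : δ ^ (k - 1) = 1 := by
    refine mul_right_cancel (b := δ) ?_
    rw [← pow_succ, Nat.sub_add_cancel hk0, e, one_mul]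
  have e2 : δ ^ Nat.card G = 1 := by
    rw [← map_pow, ← map_pow, pow_card_eq_one', map_one, map_one]
  have e3 := pow_gcd_eq_one.2 ⟨e1, e2⟩
  have hnp : ¬ p ∣ k - 1 := fun hd => by
    have h12 : 2 ≡ 1 [MOD p] := hkp.symm.trans ((Nat.modEq_iff_dvd' hk0).2 hd).symm
    have := (Nat.modEq_iff_dvd' (by norm_num : 1 ≤ 2)).1 h12.symm
    exact hp.not_dvd_one this
  have hd : (k - 1).gcd (Nat.card G) ∣ m := by
    have hd : (k - 1).gcd (Nat.card G) ∣ q * m := h2.symm ▸ Nat.gcd_dvd_right _ _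
    refine Nat.Coprime.dvd_of_dvd_mul_left ?_ hd
    exact ((hp.coprime_iff_not_dvd.2 fun h => hnp (h.trans (Nat.gcd_dvd_left _ _))).symm).pow_right _
  obtain ⟨c, hc⟩ := hd
  rw [hc, pow_mul, e3, one_pow]

theorem chr_twist {N : Subgroup G} [N.Normal] {ρ : N →* GU' d} (S : SchurData (scal d) ρ) (η : G →* GU' d)
    (γ : G →* ℂˣ) (g : G) : chr (twist S η γ) g = chr η g * (γ g : ℂ) := by
  rw [chr_apply, chr_apply, twist_apply, Units.val_mul, scal_val, mul_smul_comm,
    show (LinearMap.id : Module.End ℂ (Fin d → ℂ)) = 1 from rfl, mul_one, map_smul, smul_eq_mul,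
    mul_comm]

end Det

section Aug

variable [Fintype G] {p : ℕ} {M : Ideal AlgInt}

/-- The central character of every locally integral `N`-invariant element is its augmentation. -/
def Aug (M : Ideal AlgInt) (N : Subgroup G) (χ : G → ℂ) : Prop :=
  ∀ z, Inv N z → IsInt M z → MemLocalIdeal M (omega χ z - aug z)

theorem Aug.comp {N : Subgroup G} {χ : G → ℂ} (h : Aug M N χ) (e : G ≃* G)
    (he : ∀ x, e x ∈ N ↔ x ∈ N) : Aug M N (fun x => χ (e x)) := by
  intro z hz hzi
  set w : MonoidAlgebra ℂ G := ofFun fun y => z.coeff (e.symm y) with hw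
  have hI : Inv N w := fun n hn x => by
    simp only [hw, coeff_ofFun, map_mul, map_inv]
    exact hz _ ((he _).1 (by rwa [e.apply_symm_apply])) _
  have hwi : IsInt M w := fun x => by simpa [hw] using hzi _
  have h1 : aug w = aug z := by
    simp only [aug, hw, coeff_ofFun]
    exact Equiv.sum_comp e.symm.toEquiv fun y => z.coeff y
  have h2 : omega (fun x => χ (e x)) z = omega χ w := by
    rw [omega_apply, omega_apply, map_one e, chiSum_apply, chiSum_apply]
    congr 1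
    refine (Fintype.sum_equiv e.toEquiv _ _ fun x => ?_)
    simp [hw]
  rw [h2, ← h1]
  exact h w hI hwi

/-- The property only depends on the values modulo the ideal. -/
theorem Aug.congr (hM : IsPModular p M) {N : Subgroup G} {χ χ' : G → ℂ} (h : Aug M N χ) {d : ℕ}
    (hd : ¬ p ∣ d) (h1 : χ 1 = d) (h1' : χ' 1 = d)
    (hc : ∀ x, MemLocalIdeal M (χ' x - χ x)) : Aug M N χ' := by
  intro z hz hzi
  have h2 : MemLocalIdeal M (omega χ' z - omega χ z) := by
    rw [omega_apply, omega_apply, h1, h1', ← mul_sub, chiSum_apply, chiSum_apply,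
      ← Finset.sum_sub_distrib]
    refine ideal_mul_left hM (inv_natCast_mem hM hd) (ideal_sum hM fun x _ => ?_)
    rw [← mul_sub]
    exact ideal_mul_left hM (hzi x) (hc x)
  exact PrincipalSylow80.ideal_trans hM h2 (h z hz hzi)

theorem Aug.pow_twist (hM : IsPModular p M) {N : Subgroup G} {χ : G → ℂ} (hχ : IsCharacter G χ)
    (h : Aug M N χ) {d : ℕ} (hd : ¬ p ∣ d) (h1 : χ 1 = d) {k : ℕ} (hk0 : 1 ≤ k)
    (hk : k ≡ 1 [MOD pFree p (Nat.card G)]) : Aug M N (fun x => χ (x ^ k)) := by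
  refine h.congr hM hd h1 (by simpa using h1) fun x => ?_
  show MemLocalIdeal M (χ (x ^ k) - χ x)
  rw [← Nat.sub_add_cancel hk0, pow_succ]
  refine PrincipalSylow80.char_mul_congr hM hχ ?_ (Commute.pow_self x _)
  obtain ⟨c, hc⟩ := (Nat.modEq_iff_dvd' hk0).1 hk.symm
  obtain ⟨-, h2, -⟩ := pFree_spec hM.1 (Nat.card_pos (α := G)).ne'
  obtain ⟨j, -, hj⟩ := (Nat.dvd_prime_pow hM.1).1 (orderOf_dvd_of_pow_eq_one
    (show (x ^ (k - 1)) ^ p ^ (Nat.card G).factorization p = 1 by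
      rw [← pow_mul, hc, mul_comm, ← mul_assoc, h2, pow_mul, pow_card_eq_one', one_pow]))
  exact ⟨j, hj⟩

/-- Two extensions with the augmentation property and a twist of order prime to `p` agree. -/
theorem Aug.unique [hp : Fact p.Prime] (hM : IsPModular p M) (N : Subgroup G) [N.Normal]
    [Fintype N] (P : Sylow p N)
    (hcov : N ⊔ Subgroup.centralizer (((P : Subgroup N).map N.subtype : Subgroup G) : Set G) = ⊤)
    {d : ℕ} {η η' : G →* GU' d} (γ : G →* ℂˣ) (hγN : ∀ n : N, γ n = 1)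
    (hγ : ∀ g, chr η' g = chr η g * (γ g : ℂ)) {e : ℕ} (he : ¬ p ∣ e) (hγe : ∀ g, γ g ^ e = 1)
    (h : Aug M N (chr η)) (h' : Aug M N (chr η')) : γ = 1 := by
  ext g
  obtain ⟨n, hn, c, hc, rfl⟩ := Subgroup.mem_sup_of_normal_left.1 (hcov ▸ Subgroup.mem_top g)
  have hcn : γ (n * c) = γ c := by rw [map_mul, hγN ⟨n, hn⟩, one_mul]
  rw [hcn, MonoidHom.one_apply]
  obtain ⟨k, hkp, hk⟩ := aug_orbSum N P (c := c) (fun x hx => hc (x : G) ⟨x, hx, rfl⟩)
  set z := orbSum N c
  have hw : omega (chr η') z = (γ c : ℂ) * omega (chr η) z := by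
    have h1 : chr η' 1 = chr η 1 := by rw [chr_one, chr_one]
    rw [omega_apply, omega_apply, h1, mul_left_comm, chiSum_apply, chiSum_apply]
    conv_rhs => rw [Finset.mul_sum]
    refine congrArg ((chr η 1)⁻¹ * ·) (Finset.sum_congr rfl fun x _ => ?_)
    by_cases hx : z.coeff x = 0
    · simp [hx]
    have hxc := QuotientGroup.eq.1 (sup_orbSum N c x hx).symm
    have hgx : γ x = γ c := by
      have := hγN ⟨c⁻¹ * x, hxc⟩
      rwa [map_mul, map_inv, inv_mul_eq_one, eq_comm] at this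
    rw [hγ, hgx]
    ring
  have e1 := h' z (inv_orbSum N c) (int_orbSum N hM c)
  have e2 := h z (inv_orbSum N c) (int_orbSum N hM c)
  rw [hw, hk] at e1
  rw [hk] at e2
  have hloc : MemLocalRing M (γ c : ℂ) := of_isIntegral hM
    (IsIntegral.of_pow ((Nat.pos_of_ne_zero fun e0 => he (by rw [e0]; exact dvd_zero p)) : 0 < e)
      (by rw [← Units.val_pow_eq_pow_val, hγe, Units.val_one]; exact isIntegral_one))
  have e3 := ideal_mul_right hM (ideal_sub hM e1 (ideal_mul_left hM hloc e2))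
    (inv_natCast_mem hM hkp)
  have hk0 : (k : ℂ) ≠ 0 := Nat.cast_ne_zero.mpr fun e0 => hkp (e0 ▸ dvd_zero p)
  have e4 : MemLocalIdeal M ((γ c : ℂ) - 1) := by
    convert e3 using 1
    field_simp
    ring
  have := root_ext hM he (a := (γ c : ℂ)) (b := 1)
    (by rw [← Units.val_pow_eq_pow_val, hγe, Units.val_one]) (one_pow _) e4
  simpa using this

end Aug

end Cfsg.Agent.PRatExtend75
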