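/-
A `p`-rational invariant character of `p'`-degree of the principal block of a normal subgroup `N`
extends to a `p`-rational character of the principal block when `N C(Q)` has `p`-power index,
`Q` a Sylow subgroup of `N` and `p` odd.
-/
import Mathlib
import Cfsg.Agent.Lib.PRatExtend75Basic

set_option autoImplicit false

namespace Cfsg.Agent.PRatExtend75

open Cfsg Cfsg.Agent.CharBasic Cfsg.Agent.CharBasicDecomp Cfsg.Agent.CharExtension
open Cfsg.Agent.BlockTheoryLocalRing Cfsg.Agent.BlockTheoryCentre Cfsg.Agent.PrincipalExtend80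
open Cfsg.Agent.BlockTheoryIdem
open Cfsg.Agent.PrincipalCover80

attribute [local instance] Classical.propDecidable

universe u

variable {p : ℕ} [hp : Fact p.Prime] {M : Ideal AlgInt}

/-- Passing to an overgroup of `N`. -/
theorem exists_transfer {G : Type u} [Group G] [Finite G] (N : Subgroup G) [N.Normal]
    (P : Sylow p N)
    (hcov : N ⊔ Subgroup.centralizer (((P : Subgroup N).map N.subtype : Subgroup G) : Set G) = ⊤)
    (H : Subgroup G) (hle : N ≤ H) :
    ∃ PK : Sylow p (N.subgroupOf H), N.subgroupOf H ⊔ Subgroup.centralizer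
      ((((PK : Subgroup (N.subgroupOf H))).map (N.subgroupOf H).subtype : Subgroup H) : Set H)
      = ⊤ := by
  let e := Subgroup.subgroupOfEquivOfLe hle
  have hpg : IsPGroup p ((P : Subgroup N).comap e.toMonoidHom) :=
    P.isPGroup'.comap_of_injective _ e.injective
  have hind : ¬ p ∣ ((P : Subgroup N).comap e.toMonoidHom).index := by
    rw [Subgroup.index_comap_of_surjective _ e.surjective]
    exact P.not_dvd_index
  refine ⟨hpg.toSylow hind, eq_top_iff.2 fun y _ => ?_⟩
  obtain ⟨a, ha, c, hc, hac⟩ :=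
    Subgroup.mem_sup_of_normal_left.1 (hcov ▸ Subgroup.mem_top (y : G))
  have hcH : c ∈ H := by
    rw [show c = a⁻¹ * (y : G) by rw [← hac, inv_mul_cancel_left]]
    exact mul_mem (inv_mem (hle ha)) y.2
  rw [show y = (⟨a, hle ha⟩ : H) * ⟨c, hcH⟩ from Subtype.ext hac.symm]
  refine mul_mem (Subgroup.mem_sup_left (Subgroup.mem_subgroupOf.2 ha))
    (Subgroup.mem_sup_right (Subgroup.mem_centralizer_iff.2 ?_))
  rintro x ⟨k, hk, rfl⟩
  have hk' : e k ∈ (P : Subgroup N) := hk
  exact Subtype.ext (Subgroup.mem_centralizer_iff.1 hc _ ⟨e k, hk', rfl⟩)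

variable {G : Type u} [Group G] [Fintype G] (N : Subgroup G) [N.Normal] [Fintype N]

/-- An extension can be twisted to have the augmentation property. -/
theorem exists_aug (hM : IsPModular p M) (P : Sylow p N)
    (hcov : N ⊔ Subgroup.centralizer (((P : Subgroup N).map N.subtype : Subgroup G) : Set G) = ⊤)
    {θ : IrrCharacter N} (hθ : θ ∈ principalBlock M N) {d : ℕ} {ρ : N →* GU' d}
    (hch : chr ρ = (θ : N → ℂ)) (hirr : (toRep ρ).IsIrreducible) (η : G →* GU' d)
    (hη : ∀ n : N, η n = ρ n) :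
    ∃ η' : G →* GU' d, (∀ n : N, η' n = ρ n) ∧ Aug M N (chr η') := by
  obtain ⟨hc1, hc2⟩ := ext_to_char_top hirr η hη
  obtain ⟨χ, hχN, hχ⟩ := PrincipalExtend80.exists_twist N hM P hcov ⟨_, hc1⟩ θ
    (fun n => (hc2 n).trans (congrFun hch n)) hθ
  obtain ⟨η', hη', hη'N⟩ := char_to_ext N.subtype ρ (isCharacter_of_isIrrCharacter χ.2)
    (fun n => (hχN n).trans (congrFun hch n).symm)
  exact ⟨η', hη'N, fun z hz hzi => hη' ▸ hχ z hz hzi⟩

/-- Recognising an extension with the augmentation property. -/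
theorem eq_of_aug (hM : IsPModular p M) (P : Sylow p N)
    (hcov : N ⊔ Subgroup.centralizer (((P : Subgroup N).map N.subtype : Subgroup G) : Set G) = ⊤)
    {d : ℕ} {ρ : N →* GU' d} (S : SchurData (scal d) ρ) {η : G →* GU' d}
    (hη : ∀ n : N, η n = ρ n) (h : Aug M N (chr η)) {χ' : G → ℂ} (hχ' : IsCharacter G χ')
    (hres : ∀ n : N, χ' n = chr ρ n) (h' : Aug M N χ')
    (hbound : ∀ η' : G →* GU' d, chr η' = χ' → ∃ e, ¬ p ∣ e ∧ ∀ γ : G →* ℂˣ,
      (∀ n : N, γ n = 1) → (∀ g, η' g = η g * scal d (γ g)) → ∀ g, γ g ^ e = 1) :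
    χ' = chr η := by
  obtain ⟨η', hη', hη'N⟩ := char_to_ext N.subtype ρ hχ' hres
  obtain ⟨γ, hγN, hγ⟩ := CharExtension.exists_twist S hη hη'N
  obtain ⟨e, he, hb⟩ := hbound η' hη'
  have hchr : ∀ g, chr η' g = chr η g * (γ g : ℂ) := fun g => by
    rw [← chr_twist S η γ g, chr_apply, chr_apply, hγ g, twist_apply]
  have h1 := Aug.unique hM N P hcov γ hγN hchr he (hb γ hγN hγ) h (hη' ▸ h')
  rw [← hη']
  funext g
  rw [hchr, h1, MonoidHom.one_apply, Units.val_one, mul_one]

omit [Fintype N] in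
theorem det_twist {d : ℕ} {η η' : G →* GU' d} {γ : G →* ℂˣ}
    (hγ : ∀ g, η' g = η g * scal d (γ g)) (g : G) :
    detU d (η' g) = detU d (η g) * γ g ^ d := by rw [hγ, map_mul, detU_scal]

omit [Fintype N] in
theorem pow_bound {d m : ℕ} {η η' : G →* GU' d} {γ : G →* ℂˣ}
    (hγ : ∀ g, η' g = η g * scal d (γ g)) (g : G) (h : detU d (η g) ^ m = 1)
    (h' : detU d (η' g) ^ m = 1) : γ g ^ (d * m) = 1 := by
  rw [det_twist hγ, mul_pow, h, one_mul, ← pow_mul] at h'
  exact h'

/-- Membership of the principal block from the augmentation property. -/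
theorem mem_principal (hM : IsPModular p M) {χ : IrrCharacter G} (h : Aug M N (χ : G → ℂ)) :
    χ ∈ principalBlock M G :=
  mem_principal_of_omega fun g =>
    h (classSum g) (fun n _ x => isCen_classSum g x n) (isInt_classSum hM g)

omit [N.Normal] [Fintype N] [Fintype G] in
theorem inv_setup [N.Normal] {θ : N → ℂ}
    (hinv : ∀ g : G, ∀ n n' : N, (n' : G) = g * (n : G) * g⁻¹ → θ n' = θ n)
    (H : Subgroup G) (hle : N ≤ H) (g : H) (n : N.subgroupOf H) :
    θ (Subgroup.subgroupOfEquivOfLe hle ⟨g * n * g⁻¹,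
      Subgroup.Normal.conj_mem inferInstance (n : H) n.2 g⟩) =
      θ (Subgroup.subgroupOfEquivOfLe hle n) :=
  hinv (g : G) _ _ rfl

/-- Extension to an overgroup with a quotient of prime power order, prime different from `p`. -/
theorem ext_rGroup (hM : IsPModular p M) {r : ℕ} (hr : r.Prime) (hrp : r ≠ p) :
    ∀ (n : ℕ) (N : Subgroup G) [N.Normal] [Fintype N] (P : Sylow p N),
      N ⊔ Subgroup.centralizer (((P : Subgroup N).map N.subtype : Subgroup G) : Set G) = ⊤ →
      ∀ θ : IrrCharacter N, θ ∈ principalBlock M N →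
      (∀ g : G, ∀ x x' : N, (x' : G) = g * (x : G) * g⁻¹ → (θ : N → ℂ) x' = (θ : N → ℂ) x) →
      N.index = r ^ n → ∃ ψ : IrrCharacter G, ∀ x : N, (ψ : G → ℂ) x = (θ : N → ℂ) x := by
  intro n
  induction n with
  | zero =>
    intro N _ _ P _ θ _ _ hidx
    obtain rfl : N = ⊤ := Subgroup.index_eq_one.1 (by simpa using hidx)
    exact ⟨comapIrr Subgroup.topEquiv.symm θ, fun x => rfl⟩
  | succ n ih =>
    intro N _ _ P hcov θ hθ hinv hidx
    haveI := Fact.mk hr
    have hQc : Nat.card (G ⧸ N) = r ^ (n + 1) := by rw [← Subgroup.index_eq_card, hidx]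
    haveI : Nontrivial (G ⧸ N) := Finite.one_lt_card_iff_nontrivial.1
      (hQc ▸ Nat.one_lt_pow n.succ_ne_zero hr.one_lt)
    have hQ : IsPGroup r (G ⧸ N) := IsPGroup.of_card hQc
    haveI := hQ.center_nontrivial
    obtain ⟨z, hz⟩ : ∃ z : Subgroup.center (G ⧸ N), orderOf z = r := by
      refine exists_prime_orderOf_dvd_card' r ?_
      obtain ⟨k, hk⟩ := IsPGroup.iff_card.1 (hQ.to_subgroup (Subgroup.center (G ⧸ N)))
      rw [hk]
      refine dvd_pow_self r fun h0 => ?_
      have := Finite.one_lt_card (α := Subgroup.center (G ⧸ N))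
      rw [hk, h0, pow_zero] at this
      exact lt_irrefl _ this
    haveI : (Subgroup.zpowers (z : G ⧸ N)).Normal := ⟨fun x hx g => by
      have : x ∈ Subgroup.center (G ⧸ N) := Subgroup.zpowers_le.2 z.2 hx
      rwa [Subgroup.mem_center_iff.1 this g, mul_inv_cancel_right]⟩
    set N1 : Subgroup G := (Subgroup.zpowers (z : G ⧸ N)).comap (QuotientGroup.mk' N) with hN1
    have hle : N ≤ N1 := fun x hx => by
      show ((x : G) : G ⧸ N) ∈ Subgroup.zpowers (z : G ⧸ N)
      rw [(QuotientGroup.eq_one_iff x).2 hx]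
      exact one_mem _
    have hi1 : N1.index = r ^ n := by
      rw [hN1, Subgroup.index_comap_of_surjective _ (QuotientGroup.mk'_surjective N)]
      refine Nat.eq_of_mul_eq_mul_left hr.pos ?_
      rw [← pow_succ', ← hQc, ← (Subgroup.zpowers (z : G ⧸ N)).card_mul_index, Nat.card_zpowers,
        Subgroup.orderOf_coe, hz]
    have hK : (N.subgroupOf N1).index = r := by
      have h1 := Subgroup.relIndex_mul_index hle
      rw [hi1, hidx, pow_succ'] at h1
      exact Nat.eq_of_mul_eq_mul_right (pow_pos hr.pos n) h1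
    haveI : Fintype N1 := Fintype.ofFinite _
    haveI : Fintype (N.subgroupOf N1) := Fintype.ofFinite _
    obtain ⟨PK, hcovK⟩ := exists_transfer N P hcov N1 hle
    let e := Subgroup.subgroupOfEquivOfLe hle
    let θK : IrrCharacter (N.subgroupOf N1) := comapIrr e θ
    obtain ⟨d, ρ, -, -, hch, S, hi, hirr⟩ := exists_setup θK.2 (inv_setup N hinv N1 hle)
    obtain ⟨η0, hη0⟩ := exists_ext_cyclic S hi (fun k a hk => exists_root k a hk)
      (isCyclic_of_prime_card (p := r) (by rw [← Subgroup.index_eq_card, hK]))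
    obtain ⟨η1, hη1, hA⟩ := exists_aug _ hM PK hcovK (comapIrr_mem e hθ) hch hirr η0 hη0
    obtain ⟨hc1, hc2⟩ := ext_to_char_top hirr η1 hη1
    let θ1 : IrrCharacter N1 := ⟨_, hc1⟩
    have hB1 : θ1 ∈ principalBlock M N1 := mem_principal _ hM hA
    have hinv1 : ∀ g : G, ∀ x x' : N1, (x' : G) = g * (x : G) * g⁻¹ →
        (θ1 : N1 → ℂ) x' = (θ1 : N1 → ℂ) x := by
      intro g x x' hx
      let a : N1 ≃* N1 := MulAut.conjNormal g
      have hcoe : ∀ y, ((a y : N1) : G) = g * (y : G) * g⁻¹ := fun y =>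
        MulAut.conjNormal_apply g y
      have haK : ∀ y, a y ∈ N.subgroupOf N1 ↔ y ∈ N.subgroupOf N1 := fun y => by
        rw [Subgroup.mem_subgroupOf, Subgroup.mem_subgroupOf, hcoe]
        refine ⟨fun h => ?_, fun h => Subgroup.Normal.conj_mem inferInstance _ h g⟩
        simpa [mul_assoc] using Subgroup.Normal.conj_mem (inferInstance : N.Normal) _ h g⁻¹
      have key : (fun y => chr η1 (a y)) = chr η1 := by
        refine eq_of_aug _ hM PK hcovK S hη1 hA
          (isCharacter_comap a.toMonoidHom (isCharacter_chr η1)) (fun k => ?_) (hA.comp a haK)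
          fun η' _ => ⟨r, fun h => hrp ((Nat.prime_dvd_prime_iff_eq hp.out hr).1 h).symm,
            fun γ hγN _ y => hK ▸ pow_index_eq_one γ hγN y⟩
        have hk : a (k : N1) ∈ N.subgroupOf N1 := (haK _).2 k.2
        refine (hc2 ⟨_, hk⟩).trans ?_
        rw [hch]
        exact hinv g _ _ (hcoe _)
      rw [show x' = a x from Subtype.ext (hx.trans (hcoe x).symm)]
      exact congrFun key x
    have hpg : IsPGroup p ((P : Subgroup N).map (Subgroup.inclusion hle)) := P.isPGroup'.map _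
    have hind : ¬ p ∣ ((P : Subgroup N).map (Subgroup.inclusion hle)).index := by
      rw [Subgroup.index_map_of_injective _ (Subgroup.inclusion_injective hle),
        Subgroup.inclusion_range, hK]
      intro h
      rcases hp.out.dvd_mul.1 h with h | h
      · exact P.not_dvd_index h
      · exact hrp ((Nat.prime_dvd_prime_iff_eq hp.out hr).1 h).symm
    have hcov1 : N1 ⊔ Subgroup.centralizer
        ((((hpg.toSylow hind : Sylow p N1) : Subgroup N1).map N1.subtype : Subgroup G) : Set G)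
        = ⊤ := by
      rw [show ((hpg.toSylow hind : Sylow p N1) : Subgroup N1) =
        (P : Subgroup N).map (Subgroup.inclusion hle) from rfl, Subgroup.map_map,
        Subgroup.subtype_comp_inclusion]
      exact eq_top_iff.2 (hcov ▸ sup_le_sup_right hle _)
    obtain ⟨ψ, hψ⟩ := ih N1 (hpg.toSylow hind) hcov1 θ1 hB1 hinv1 hi1
    refine ⟨ψ, fun x => (hψ ⟨x, hle x.2⟩).trans ?_⟩
    exact (hc2 ⟨⟨x, hle x.2⟩, x.2⟩).trans (congrFun hch _)

/-- Adjusting the determinant by a twist of `p`-power order. -/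
theorem exists_detReg (hM : IsPModular p M) {d : ℕ} (hd : ¬ p ∣ d) {ρ : N →* GU' d}
    (S : SchurData (scal d) ρ) (hρ : DetReg p ρ) (η : G →* GU' d) (hη : ∀ n : N, η n = ρ n)
    (h : Aug M N (chr η)) :
    ∃ η' : G →* GU' d, (∀ n : N, η' n = ρ n) ∧ Aug M N (chr η') ∧ DetReg p η' := by
  obtain ⟨h1, h2, h3⟩ := pFree_spec hp.out (Nat.card_pos (α := G)).ne'
  set m := pFree p (Nat.card G) with hm
  set t := (Nat.card G).factorization p
  set q := p ^ t with hq
  have hq0 : 0 < q.totient := Nat.totient_pos.2 (pow_pos hp.out.pos t)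
  have hcop : (d * m).Coprime q :=
    ((hp.out.coprime_iff_not_dvd.2 (fun h => (hp.out.dvd_mul.1 h).elim hd h1)).symm).pow_right t
  set E := (d * m) ^ (q.totient - 1) * m with hE
  have hdE : d * E ≡ 1 [MOD q] := by
    have := Nat.ModEq.pow_totient hcop
    rw [← Nat.sub_add_cancel hq0, pow_succ] at this
    convert this using 1
    rw [hE]
    ring
  let δ : G →* ℂˣ := (detU d).comp η
  let γ : G →* ℂˣ := δ⁻¹ ^ E
  have hγ : ∀ g, γ g = (δ g)⁻¹ ^ E := fun g => by simp [γ]
  have hcard : ∀ g, δ g ^ (q * m) = 1 := fun g => by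
    rw [h2, ← map_pow, pow_card_eq_one', map_one]
  have hγN : ∀ n : N, γ n = 1 := fun n => by
    have hn : δ n = detU d (ρ n) := by simp [δ, hη]
    have hdvd : pFree p (Nat.card N) ∣ m := pFree_dvd (Subgroup.card_subgroup_dvd_card N)
    obtain ⟨c, hc⟩ := hdvd
    rw [hγ, hn, inv_pow, hE, hc, mul_left_comm, pow_mul, hρ n, one_pow, inv_one]
  refine ⟨twist S η γ, fun n => ?_, ?_, ?_⟩
  · rw [twist_apply, hη, hγN, map_one, mul_one]
  · refine h.congr hM hd (chr_one η) (chr_one _) fun x => ?_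
    rw [chr_twist, ← mul_sub_one]
    refine ideal_mul_left hM (of_isIntegral hM (isCharacter_integral (isCharacter_chr η) x))
      (pPow_root_congr hM (k := t) ?_)
    rw [← Units.val_pow_eq_pow_val, hγ, inv_pow, inv_pow, ← pow_mul,
      show E * p ^ t = q * m * (d * m) ^ (q.totient - 1) by rw [hE, hq]; ring,
      pow_mul, hcard, one_pow, inv_one, Units.val_one]
  · intro g
    rw [twist_apply, map_mul, detU_scal, hγ]
    show (δ g * ((δ g)⁻¹ ^ E) ^ d) ^ m = 1
    have e1 : δ g ^ (d * E * m) = δ g ^ (1 * m) := by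
      rw [pow_eq_pow_mod _ (hcard g), pow_eq_pow_mod (1 * m) (hcard g),
        Nat.ModEq.mul_right' m hdE]
    rw [mul_pow, ← pow_mul, ← pow_mul, inv_pow, show E * (d * m) = d * E * m by ring, e1,
      one_mul, mul_inv_cancel]

/-- Existence of the canonical extension to `N C(Q)`. -/
theorem exists_ext_cov (hM : IsPModular p M) (hp2 : p ≠ 2) (P : Sylow p N)
    (hcov : N ⊔ Subgroup.centralizer (((P : Subgroup N).map N.subtype : Subgroup G) : Set G) = ⊤)
    {θ : IrrCharacter N} (hθ : θ ∈ principalBlock M N)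
    (hinv : ∀ g : G, ∀ x x' : N, (x' : G) = g * (x : G) * g⁻¹ → (θ : N → ℂ) x' = (θ : N → ℂ) x)
    {d : ℕ} (hd : ¬ p ∣ d) {ρ : N →* GU' d} (hch : chr ρ = (θ : N → ℂ))
    (S : SchurData (scal d) ρ) (hi : ∀ g, ∃ u, Impl ρ u g) (hirr : (toRep ρ).IsIrreducible)
    (hrat : PRat p (θ : N → ℂ)) :
    ∃ η : G →* GU' d, (∀ n : N, η n = ρ n) ∧ Aug M N (chr η) ∧ DetReg p η := by
  have hdet : DetReg p ρ := detReg_of_prat hp.out hp2 ρ (hch ▸ hrat)
  obtain ⟨η0, hη0⟩ := exists_ext_of_forall_prime S hi fun r hr => by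
    haveI : Fact r.Prime := ⟨hr⟩
    obtain ⟨R⟩ : Nonempty (Sylow r (G ⧸ N)) := inferInstance
    let H : Subgroup G := (R : Subgroup (G ⧸ N)).comap (QuotientGroup.mk' N)
    have hle : N ≤ H := fun n hn => by
      show ((n : G) : G ⧸ N) ∈ (R : Subgroup (G ⧸ N))
      rw [(QuotientGroup.eq_one_iff n).2 hn]; exact Subgroup.one_mem _
    have hPi : H.index = (R : Subgroup (G ⧸ N)).index :=
      Subgroup.index_comap_of_surjective _ (QuotientGroup.mk'_surjective N)
    obtain ⟨m, hm⟩ : ∃ m, (N.subgroupOf H).index = r ^ m := by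
      obtain ⟨m, hm⟩ := IsPGroup.iff_card.1 R.isPGroup'
      refine ⟨m, ?_⟩
      have h1 := Subgroup.relIndex_mul_index hle
      have h2 := (R : Subgroup (G ⧸ N)).card_mul_index
      rw [hm, ← Subgroup.index_eq_card] at h2
      rw [hPi, ← h2] at h1
      exact Nat.eq_of_mul_eq_mul_right (Nat.pos_of_ne_zero Subgroup.index_ne_zero_of_finite) h1
    have hHc : H.index.Coprime r := by
      rw [hPi]; exact (hr.coprime_iff_not_dvd.2 R.not_dvd_index).symm
    haveI : Fintype H := Fintype.ofFinite _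
    haveI : Fintype (N.subgroupOf H) := Fintype.ofFinite _
    let e := Subgroup.subgroupOfEquivOfLe hle
    by_cases hrp : r = p
    · subst hrp
      let ρK : N.subgroupOf H →* GU' d := ρ.comp e.toMonoidHom
      have SK : SchurData (scal d) ρK := ⟨S.inj, S.central, fun u hu => S.schur u fun n => by
        simpa [ρK] using hu (e.symm n)⟩
      have hiK : ∀ g : H, ∃ u, Impl ρK u g := fun g => by
        obtain ⟨u, hu⟩ := hi (g : G)
        exact ⟨u, fun n => (hu (e n)).trans (congrArg ρ (Subtype.ext rfl))⟩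
      let lam : N.subgroupOf H →* ℂˣ := (detU d).comp ρK
      have hlaminv : ∀ (g : H) n, lam (cn g n) = lam n := fun g n => by
        obtain ⟨u, hu⟩ := hiK g
        show detU d (ρK (cn g n)) = detU d (ρK n)
        rw [← hu n, map_mul, map_mul, map_inv, mul_right_comm, mul_inv_cancel, one_mul]
      have hord : orderOf lam ∣ pFree r (Nat.card N) :=
        orderOf_dvd_of_pow_eq_one (MonoidHom.ext fun n => by
          rw [MonoidHom.pow_apply, MonoidHom.one_apply]; exact hdet (e n))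
      have hcop : ∀ x : ℕ, ¬ r ∣ x → (N.subgroupOf H).index.Coprime x := fun x hx =>
        hm ▸ ((hr.coprime_iff_not_dvd.2 hx).pow_left m)
      obtain ⟨μ, hμ, -, -⟩ := linear_ext_coprime lam hlaminv (hcop _ fun h =>
        (pFree_spec hr (Nat.card_pos (α := N)).ne').1 (h.trans hord))
      obtain ⟨η, hη, -⟩ := exists_ext_det SK hiK (detU d) d (detU_scal d)
        (fun a => exists_root d a (Nat.pos_of_ne_zero fun h => hd (h ▸ dvd_zero r)))
        (hcop d hd) μ hμ
      exact ⟨H, hle, η, hHc, fun n => (hη ⟨⟨n, hle n.2⟩, n.2⟩).trans (congrArg ρ (Subtype.ext rfl))⟩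
    · obtain ⟨PK, hcovK⟩ := exists_transfer N P hcov H hle
      let θK : IrrCharacter (N.subgroupOf H) := comapIrr e θ
      obtain ⟨ψ, hψ⟩ := ext_rGroup hM hr hrp m (N.subgroupOf H) PK hcovK θK (comapIrr_mem e hθ)
        (fun g x x' hx => hinv (g : G) _ _ (congrArg Subtype.val hx)) hm
      obtain ⟨τ, -, hτ⟩ := char_to_ext (Subgroup.inclusion hle) ρ
        (isCharacter_of_isIrrCharacter ψ.2)
        (fun n => (hψ ⟨⟨(n : G), hle n.2⟩, n.2⟩).trans (congrFun hch n).symm)
      exact ⟨H, hle, τ, hHc, fun n => hτ n⟩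
  obtain ⟨η1, hη1, hA1⟩ := exists_aug N hM P hcov hθ hch hirr η0 hη0
  exact exists_detReg N hM hd S hdet η1 hη1 hA1

end Cfsg.Agent.PRatExtend75
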