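/-
The main theorem: p-rational characters of p'-degree in the principal block extend p-rationally
into the principal block.
-/
import Mathlib
import Cfsg.Agent.Lib.PRatExtend75

set_option autoImplicit false

namespace Cfsg.Agent.PRatExtend75

open Cfsg Cfsg.Agent.CharBasic Cfsg.Agent.CharBasicDecomp Cfsg.Agent.CharBasicOrth
open Cfsg.Agent.CharExtension
open Cfsg.Agent.BlockTheoryLocalRing Cfsg.Agent.BlockTheoryCentre Cfsg.Agent.PrincipalExtend80
open Cfsg.Agent.PrincipalCover80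

attribute [local instance] Classical.propDecidable

universe u

variable {p : ℕ} [hp : Fact p.Prime] {M : Ideal AlgInt}

theorem one_le_of_coprime {k : ℕ} (h : k.Coprime p) : 1 ≤ k :=
  Nat.one_le_iff_ne_zero.2 fun e => by
    subst e
    exact hp.out.one_lt.ne' ((Nat.coprime_zero_left p).1 h)

/-- The extension lying in the principal block, with values in a field prime to `p`. -/
theorem main {G : Type u} [Group G] [Fintype G] (hM : IsPModular p M) (hp2 : p ≠ 2)
    (N : Subgroup G) [N.Normal] [Fintype N] (θ : IrrCharacter N)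
    (hinv : ∀ g : G, ∀ n n' : N, (n' : G) = g * (n : G) * g⁻¹ → (θ : N → ℂ) n' = (θ : N → ℂ) n)
    (hdeg : ¬ p ∣ charDegree (θ : N → ℂ)) (hrat : PRat p (θ : N → ℂ))
    (hθ : θ ∈ principalBlock M N) (Q : Sylow p N)
    (hidx : ∃ a : ℕ, (N ⊔ Subgroup.centralizer
      (((Q : Subgroup N).map N.subtype : Subgroup G) : Set G)).index = p ^ a) :
    ∃ χ : IrrCharacter G, χ ∈ principalBlock M G ∧ PRat p (χ : G → ℂ) ∧
      ∀ n : N, (χ : G → ℂ) n = (θ : N → ℂ) n := by
  obtain ⟨a, ha⟩ := hidx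
  set Q0 : Subgroup G := (Q : Subgroup N).map N.subtype with hQ0
  set C : Subgroup G := Subgroup.centralizer (Q0 : Set G) with hC
  set H : Subgroup G := N ⊔ C with hH
  have hle : N ≤ H := le_sup_left
  -- `H` is normal by the Frattini argument
  have hconj : ∀ g : G, g ∈ Subgroup.normalizer (Q0 : Set G) →
      ∀ c ∈ C, g * c * g⁻¹ ∈ C := by
    intro g hg c hc
    refine Subgroup.mem_centralizer_iff.2 fun q hq => ?_
    have hq' : g⁻¹ * q * g⁻¹⁻¹ ∈ Q0 := (Subgroup.mem_normalizer_iff.1 (inv_mem hg) q).1 hq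
    have h := Subgroup.mem_centralizer_iff.1 hc _ hq'
    calc q * (g * c * g⁻¹) = g * (g⁻¹ * q * g⁻¹⁻¹ * c) * g⁻¹ := by group
      _ = g * (c * (g⁻¹ * q * g⁻¹⁻¹)) * g⁻¹ := by rw [h]
      _ = g * c * g⁻¹ * q := by group
  haveI hHn : H.Normal := ⟨fun x hx g => by
    obtain ⟨w, hw, n, hn, rfl⟩ := Subgroup.mem_sup_of_normal_right.1
      ((Sylow.normalizer_sup_eq_top Q).ge (Subgroup.mem_top g))
    obtain ⟨b, hb, c, hc, rfl⟩ := Subgroup.mem_sup_of_normal_left.1 hx
    have h1 : n * (b * c) * n⁻¹ ∈ H := mul_mem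
      (mul_mem (hle hn) (mul_mem (hle hb) (Subgroup.mem_sup_right hc))) (inv_mem (hle hn))
    obtain ⟨b', hb', c', hc', h2⟩ := Subgroup.mem_sup_of_normal_left.1 h1
    rw [show w * n * (b * c) * (w * n)⁻¹ = w * (n * (b * c) * n⁻¹) * w⁻¹ by group, ← h2,
      show w * (b' * c') * w⁻¹ = w * b' * w⁻¹ * (w * c' * w⁻¹) by group]
    exact mul_mem (hle (Subgroup.Normal.conj_mem inferInstance _ hb' w))
      (Subgroup.mem_sup_right (hconj w hw _ hc'))⟩
  haveI : Fintype H := Fintype.ofFinite _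
  haveI : Fintype (N.subgroupOf H) := Fintype.ofFinite _
  let e := Subgroup.subgroupOfEquivOfLe hle
  let θK : IrrCharacter (N.subgroupOf H) := comapIrr e θ
  -- the covering condition inside `H`
  obtain ⟨PK, hcovK⟩ : ∃ PK : Sylow p (N.subgroupOf H), N.subgroupOf H ⊔ Subgroup.centralizer
      ((((PK : Subgroup (N.subgroupOf H))).map (N.subgroupOf H).subtype : Subgroup H) : Set H)
      = ⊤ := by
    have hpg : IsPGroup p ((Q : Subgroup N).comap e.toMonoidHom) :=
      Q.isPGroup'.comap_of_injective _ e.injective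
    have hind : ¬ p ∣ ((Q : Subgroup N).comap e.toMonoidHom).index := by
      rw [Subgroup.index_comap_of_surjective _ e.surjective]
      exact Q.not_dvd_index
    refine ⟨hpg.toSylow hind, eq_top_iff.2 fun y _ => ?_⟩
    obtain ⟨b, hb, c, hc, hbc⟩ := Subgroup.mem_sup_of_normal_left.1 y.2
    rw [show y = (⟨b, hle hb⟩ : H) * ⟨c, Subgroup.mem_sup_right hc⟩ from Subtype.ext hbc.symm]
    refine mul_mem (Subgroup.mem_sup_left (Subgroup.mem_subgroupOf.2 hb))
      (Subgroup.mem_sup_right (Subgroup.mem_centralizer_iff.2 ?_))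
    rintro x ⟨k, hk, rfl⟩
    have hk' : e k ∈ (Q : Subgroup N) := hk
    exact Subtype.ext (Subgroup.mem_centralizer_iff.1 hc _ ⟨e k, hk', rfl⟩)
  have hθK := comapIrr_mem (M := M) e hθ
  obtain ⟨d, ρ, hd0, hd1, hch, S, hi, hirr⟩ := exists_setup θK.2 (inv_setup N hinv H hle)
  have hd : ¬ p ∣ d := by
    intro h
    apply hdeg
    have : (θ : N → ℂ) 1 = (d : ℂ) := by
      rw [← hd1]
      exact congrArg (θ : N → ℂ) (map_one e).symm
    rw [PrincipalSylow80.irr_charDegree, Nat.cast_inj] at this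
    rwa [this]
  have hratK : PRat p (θK : N.subgroupOf H → ℂ) := by
    intro k hk hk1 x
    show (θ : N → ℂ) (e (x ^ k)) = (θ : N → ℂ) (e x)
    rw [map_pow]
    exact hrat k hk (by rw [← Nat.card_congr e.toEquiv]; exact hk1) (e x)
  obtain ⟨η, hη, hA, hD⟩ := exists_ext_cov (N.subgroupOf H) hM hp2 PK hcovK hθK
    (fun g x x' hx => hinv (g : G) _ _ (congrArg Subtype.val hx)) hd hch S hi hirr hratK
  obtain ⟨hc1, hc2⟩ := ext_to_char_top hirr η hη
  set m := pFree p (Nat.card H) with hm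
  obtain ⟨hm1, -, -⟩ := pFree_spec hp.out (Nat.card_pos (α := H)).ne'
  have hdm : ¬ p ∣ d * m := fun h => (hp.out.dvd_mul.1 h).elim hd hm1
  have hrat0 : PRat p (chr η) := by
    intro k hk hk1
    have hkn := coprime_card hp.out hk hk1
    have key : (fun y => chr η (y ^ k)) = chr η := by
      refine eq_of_aug _ hM PK hcovK S hη hA (GaloisChar80.isCharacter_pow hkn (isCharacter_chr η))
        (fun n => ?_) (hA.pow_twist hM (isCharacter_chr η) hd (chr_one η) (one_le_of_coprime hk) hk1)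
        fun η' hη' => ⟨d * m, hdm, fun γ _ hγ g => pow_bound hγ g (hD g) ?_⟩
      · refine (hc2 (n ^ k)).trans ?_
        rw [hch]
        exact hratK k hk (hk1.of_dvd (pFree_dvd (Subgroup.card_subgroup_dvd_card _))) n
      · rw [detU_pow η η' k (fun y => congrFun hη' y), ← pow_mul, mul_comm, pow_mul, hD g, one_pow]
    exact fun g => congrFun key g
  have hinv0 : ∀ (g : G) (x : H), chr η ⟨g * x * g⁻¹, hHn.conj_mem (x : G) x.2 g⟩ = chr η x := by
    intro g x
    let f : H ≃* H := MulAut.conjNormal g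
    have hcoe : ∀ y, ((f y : H) : G) = g * (y : G) * g⁻¹ := fun y => MulAut.conjNormal_apply g y
    have hfK : ∀ y, f y ∈ N.subgroupOf H ↔ y ∈ N.subgroupOf H := fun y => by
      rw [Subgroup.mem_subgroupOf, Subgroup.mem_subgroupOf, hcoe]
      refine ⟨fun h => ?_, fun h => Subgroup.Normal.conj_mem inferInstance _ h g⟩
      simpa [mul_assoc] using Subgroup.Normal.conj_mem (inferInstance : N.Normal) _ h g⁻¹
    have key : (fun y => chr η (f y)) = chr η := by
      refine eq_of_aug _ hM PK hcovK S hη hA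
        (isCharacter_comap f.toMonoidHom (isCharacter_chr η)) (fun n => ?_) (hA.comp f hfK)
        fun η' hη' => ⟨d * m, hdm, fun γ _ hγ y => pow_bound hγ y (hD y) ?_⟩
      · refine (hc2 ⟨_, (hfK _).2 n.2⟩).trans ?_
        rw [hch]
        exact hinv g _ _ (hcoe _)
      · have h1 := detChar_chr η' y
        rw [hη', show (fun z => chr η (f z)) = chr (η.comp f.toMonoidHom) from rfl,
          detChar_chr] at h1
        rw [← Units.ext h1]
        exact hD (f y)
    rw [show (⟨g * x * g⁻¹, hHn.conj_mem (x : G) x.2 g⟩ : H) = f x from Subtype.ext (hcoe x).symm]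
    exact congrFun key x
  let χ0 : IrrCharacter H := ⟨_, hc1⟩
  have hB0 : χ0 ∈ principalBlock M H := mem_principal _ hM hA
  obtain ⟨d', ρ', hd'0, hd'1, hch', S', hi', hirr'⟩ := exists_setup χ0.2 hinv0
  have hd' : ¬ p ∣ d' := by
    have h1 : (χ0 : H → ℂ) 1 = (d : ℂ) := chr_one η
    rw [hd'1, Nat.cast_inj] at h1
    rwa [h1]
  have hρ'D : DetReg p ρ' := detReg_of_prat hp.out hp2 ρ' (hch' ▸ hrat0)
  let lam : H →* ℂˣ := (detU d').comp ρ'
  have hlaminv : ∀ (g : G) n, lam (cn g n) = lam n := fun g n => by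
    obtain ⟨u, hu⟩ := hi' g
    show detU d' (ρ' (cn g n)) = detU d' (ρ' n)
    rw [← hu n, map_mul, map_mul, map_inv, mul_right_comm, mul_inv_cancel, one_mul]
  have hord : orderOf lam ∣ m := orderOf_dvd_of_pow_eq_one (MonoidHom.ext fun n => by
    rw [MonoidHom.pow_apply, MonoidHom.one_apply]; exact hρ'D n)
  have hcop : ∀ x : ℕ, ¬ p ∣ x → H.index.Coprime x := fun x hx =>
    ha ▸ ((hp.out.coprime_iff_not_dvd.2 hx).pow_left a)
  obtain ⟨μ, hμ, hμo, -⟩ := linear_ext_coprime lam hlaminv (hcop _ fun h => hm1 (h.trans hord))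
  obtain ⟨ξ, hξ, hξd⟩ := exists_ext_det S' hi' (detU d') d' (detU_scal d')
    (fun b => exists_root d' b hd'0) (hcop d' hd') μ hμ
  obtain ⟨hχ1, hχ2⟩ := ext_to_char_top hirr' ξ hξ
  have hres : ∀ x : H, chr ξ x = chr η x := fun x => (hχ2 x).trans (congrFun hch' x)
  have hξm : ∀ g, detU d' (ξ g) ^ m = 1 := fun g => by
    obtain ⟨c, hc⟩ := hord
    rw [hξd, hc, ← hμo, pow_mul, ← MonoidHom.pow_apply, pow_orderOf_eq_one, MonoidHom.one_apply,
      one_pow]
  refine ⟨⟨_, hχ1⟩, ?_, ?_, fun n => ?_⟩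
  · refine mem_principal_of_reg H hM (fun g hg => ?_) (θ := χ0) ?_ hB0
    · obtain ⟨c, hc⟩ := exists_pow_eq_self_of_coprime
        (((hp.out.coprime_iff_not_dvd).2 hg).pow_left a)
      rw [← hc]
      exact pow_mem (ha ▸ H.pow_index_mem g) c
    · rw [show (fun x : H => chr ξ x) = (χ0 : H → ℂ) from funext hres, classInner_irr_self χ0.2]
      exact one_ne_zero
  · intro k hk hk1 g
    have hkn := coprime_card hp.out hk hk1
    obtain ⟨ξ', hξ', hξ'N⟩ := char_to_ext H.subtype ρ'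
      (GaloisChar80.isCharacter_pow hkn (isCharacter_chr ξ)) (fun x => by
        show chr ξ ((x : G) ^ k) = chr ρ' x
        rw [← Subgroup.coe_pow, hres, hch']
        exact hrat0 k hk (hk1.of_dvd (pFree_dvd (Subgroup.card_subgroup_dvd_card _))) x)
    obtain ⟨γ, hγN, hγ⟩ := CharExtension.exists_twist S' hξ hξ'N
    have hg : γ g = 1 := by
      have h1 := CharExtension.pow_index_eq_one γ hγN g
      have h2 := pow_bound hγ g (hξm g) (by
        rw [detU_pow ξ ξ' k (fun y => congrFun hξ' y), ← pow_mul, mul_comm, pow_mul, hξm g,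
          one_pow])
      have h3 := pow_gcd_eq_one.2 ⟨h1, h2⟩
      rwa [(hcop _ fun h => (hp.out.dvd_mul.1 h).elim hd' hm1).gcd_eq_one, pow_one] at h3
    show chr ξ (g ^ k) = chr ξ g
    rw [← congrFun hξ' g, chr_apply, chr_apply, hγ, hg, map_one, mul_one]
  · show chr ξ (n : G) = _
    refine (hres ⟨n, hle n.2⟩).trans ?_
    exact (hc2 ⟨⟨n, hle n.2⟩, n.2⟩).trans (congrFun hch _)

end Cfsg.Agent.PRatExtend75
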