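import Cfsg.Agent.Lib.BrauerCharBlock
import Cfsg.Agent.Lib.GaloisChar80

/-!
# Characters of a block fixed by a power map that fixes the regular elements

The number of fixed characters is the trace of the power map on the span of the block, computed
through the subsections: each of them contributes a nonnegative integer, and the regular section
contributes the block rank.
-/

set_option autoImplicit false

namespace Cfsg.Agent.PRationalCount

open Cfsg BrauerBlocksVal BrauerCharBlock BlockSubsections79 BlockTheoryIdem BlockTheoryInduced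
  BlockTheoryBrauer BlockTheoryCentre

attribute [local instance] Classical.propDecidable

set_option linter.unusedSectionVars false

universe u

/-- The trace of an endomorphism of a product is the sum of the diagonal traces. -/
theorem trace_pi {ι : Type*} [Fintype ι] {V : ι → Type*} [∀ i, AddCommGroup (V i)]
    [∀ i, Module ℂ (V i)] [∀ i, FiniteDimensional ℂ (V i)] (U : Module.End ℂ (∀ i, V i)) :
    LinearMap.trace ℂ _ U =
      ∑ i, LinearMap.trace ℂ (V i) ((LinearMap.proj i).comp (U.comp (LinearMap.single ℂ V i))) := by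
  classical
  have h : U = ∑ i, (U.comp (LinearMap.single ℂ V i)).comp (LinearMap.proj i) := by
    refine LinearMap.ext fun v => ?_
    rw [LinearMap.sum_apply]
    simp only [LinearMap.comp_apply, LinearMap.proj_apply, LinearMap.coe_single, ← map_sum,
      Finset.univ_sum_single]
  conv_lhs => rw [h, map_sum]
  exact Finset.sum_congr rfl fun i _ => LinearMap.trace_comp_comm' _ _

/-- The diagonal component of an endomorphism transported to a product. -/
noncomputable def diag {ι : Type*} [Fintype ι] [DecidableEq ι] {W : Type*} [AddCommGroup W] [Module ℂ W]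
    {V : ι → Type*} [∀ i, AddCommGroup (V i)] [∀ i, Module ℂ (V i)] (L : W ≃ₗ[ℂ] ∀ i, V i)
    (T : Module.End ℂ W) (i : ι) : Module.End ℂ (V i) :=
  (LinearMap.proj i).comp ((L.conj T).comp (LinearMap.single ℂ V i))

theorem diag_apply {ι : Type*} [Fintype ι] [DecidableEq ι] {W : Type*} [AddCommGroup W] [Module ℂ W]
    {V : ι → Type*} [∀ i, AddCommGroup (V i)] [∀ i, Module ℂ (V i)] (L : W ≃ₗ[ℂ] ∀ i, V i)
    (T : Module.End ℂ W) (i : ι) (v : V i) :
    diag L T i v = L (T (L.symm (LinearMap.single ℂ V i v))) i := rfl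

/-- An endomorphism whose diagonal components have natural traces. -/
theorem trace_eq_sum_diag {ι : Type*} [Fintype ι] [DecidableEq ι] {W : Type*} [AddCommGroup W]
    [Module ℂ W] [FiniteDimensional ℂ W] {V : ι → Type*} [∀ i, AddCommGroup (V i)]
    [∀ i, Module ℂ (V i)] [∀ i, FiniteDimensional ℂ (V i)] (L : W ≃ₗ[ℂ] ∀ i, V i)
    (T : Module.End ℂ W) {N : ℕ} (hN : LinearMap.trace ℂ W T = N) (n : ι → ℕ)
    (hn : ∀ i, LinearMap.trace ℂ (V i) (diag L T i) = n i) : N = ∑ i, n i := by
  have h := trace_pi (L.conj T)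
  rw [LinearMap.trace_conj' T L, hN] at h
  have h' : (N : ℂ) = ((∑ i, n i : ℕ) : ℂ) := by
    rw [h, Nat.cast_sum]
    refine Finset.sum_congr rfl fun i _ => ?_
    rw [← hn i, diag]
    congr!
  exact Nat.cast_inj.1 h'

variable {p : ℕ} {M : Ideal AlgInt}

/-- A map of the span of a block sending Brauer characters to Brauer characters or to zero has
natural trace. -/
theorem exists_trace_eq_nat {C : Type u} [Group C] [Fintype C] (hM : IsPModular p M)
    {b : Set (IrrCharacter C)} (hb : IsPBlock M b) (D : Module.End ℂ (regSpan p b))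
    (hD : ∀ v : regSpan p b, (v : C → ℂ) ∈ blockSet p M b →
      (D v : C → ℂ) ∈ blockSet p M b ∨ (D v : C → ℂ) = 0) :
    ∃ n : ℕ, LinearMap.trace ℂ _ D = n := by
  classical
  let f : blockSet p M b → regSpan p b := fun s => ⟨s, blockSet_subset_regSpan hM hb s.2⟩
  have hli : LinearIndependent ℂ f := LinearIndependent.of_comp (regSpan p b).subtype
    ((linearIndepOn_ibr hM).mono (blockSet_subset_ibr b))
  have : Finite (blockSet p M b) := hli.finite
  have := Fintype.ofFinite (blockSet p M b)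
  have hsp : ⊤ ≤ Submodule.span ℂ (Set.range f) := by
    intro v _
    rw [← Submodule.apply_mem_span_image_iff_mem_span (f := (regSpan p b).subtype)
      Subtype.val_injective, ← Set.range_comp]
    show (v : C → ℂ) ∈ Submodule.span ℂ (Set.range fun s : blockSet p M b => (s : C → ℂ))
    rw [Subtype.range_coe_subtype, Set.setOf_mem_eq, span_blockSet hM hb]
    exact v.2
  let β := Module.Basis.mk hli hsp
  have hβ : ∀ s, β s = f s := Module.Basis.mk_apply hli hsp
  rw [LinearMap.trace_eq_matrix_trace ℂ β, Matrix.trace]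
  refine ⟨∑ s, if D (f s) = f s then 1 else 0, ?_⟩
  push_cast
  refine Finset.sum_congr rfl fun s _ => ?_
  rw [Matrix.diag_apply, LinearMap.toMatrix_apply, hβ]
  rcases hD (f s) s.2 with h | h
  · have he : D (f s) = β ⟨_, h⟩ := by rw [hβ]
    rw [he, β.repr_self, Finsupp.single_apply]
    by_cases hs : (⟨_, h⟩ : blockSet p M b) = s
    · rw [if_pos hs, if_pos (by rw [hs, hβ])]
    · rw [if_neg hs, if_neg fun e => hs (β.injective (by rw [hβ s]; exact e))]
  · have he : D (f s) = 0 := Subtype.ext h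
    rw [he, map_zero, Finsupp.zero_apply, if_neg fun e => hli.ne_zero s e.symm]

section Group

variable {G : Type u} [Group G] [Fintype G]

theorem isClassFunction_of_mem_regSpan {C : Type u} [Group C] [Fintype C]
    {b : Set (IrrCharacter C)} {F : C → ℂ} (hF : F ∈ regSpan p b) : IsClassFunction C F := by
  induction hF using Submodule.span_induction with
  | mem F hF =>
    obtain ⟨φ, -, rfl⟩ := hF
    intro g h
    have he : IsPRegular p (h * g * h⁻¹) ↔ IsPRegular p g := by
      rw [IsPRegular, IsPRegular, show h * g * h⁻¹ = MulAut.conj h g from rfl, MulEquiv.orderOf_eq]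
    simp only [pRegularPart, irr_classFun φ g h]
    by_cases hg : IsPRegular p g
    · rw [if_pos hg, if_pos (he.2 hg)]
    · rw [if_neg hg, if_neg (mt he.1 hg)]
  | zero => exact fun _ _ => rfl
  | add F F' _ _ e e' => intro g h; simp [e g h, e' g h]
  | smul a F _ e => intro g h; simp [e g h]

theorem isClassFunction_sum {B : Set (IrrCharacter G)} (c : B → ℂ) :
    IsClassFunction G (fun g => ∑ χ : B, c χ * (χ.1 : G → ℂ) g) := fun g h => by
  simp only [irr_classFun _ g h]

/-- The twist of a character stays in its block. -/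
theorem twist_mem (hM : IsPModular p M) {B : Set (IrrCharacter G)} (hB : IsPBlock M B)
    {k : ℕ} (hk : ∀ y : G, ¬ p ∣ orderOf y → y ^ k = y) {χ ψ : IrrCharacter G}
    (hψ : ∀ g, (ψ : G → ℂ) g = (χ : G → ℂ) (g ^ k)) (hχ : χ ∈ B) : ψ ∈ B := by
  have h : SameBlock M (χ : G → ℂ) (ψ : G → ℂ) :=
    BlockTheoryNormal.sameBlock_of_regular hM fun g hg => by
      have h1 : (ψ : G → ℂ) g = (χ : G → ℂ) g := by rw [hψ, hk g hg]
      have h2 : (ψ : G → ℂ) 1 = (χ : G → ℂ) 1 := by rw [hψ, one_pow]
      rw [centralChar, centralChar, h1, h2, sub_self]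
      exact BlockTheoryLocalRing.ideal_zero hM
  rw [eq_blockOf_of_mem hM hB hχ]
  exact h

/-- The characters of a block fixed by a power map fixing the regular elements are at least as
many as the block rank. -/
theorem blockRank_le_card_fixed (hM : IsPModular p M) {B : Set (IrrCharacter G)} (hB : IsPBlock M B)
    {k : ℕ} (hk : k.Coprime (Nat.card G)) (hky : ∀ y : G, ¬ p ∣ orderOf y → y ^ k = y) :
    blockRank p B ≤
      Nat.card {χ : IrrCharacter G // χ ∈ B ∧ ∀ g, (χ : G → ℂ) (g ^ k) = (χ : G → ℂ) g} := by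
  classical
  let tw : B → B := fun χ =>
    ⟨⟨fun g => (χ.1 : G → ℂ) (g ^ k), GaloisChar80.isIrrCharacter_pow hk χ.1.2⟩,
      twist_mem hM hB hky (fun g => rfl) χ.2⟩
  have htw : Function.Injective tw := by
    intro χ χ' h
    refine Subtype.ext (Subtype.ext (funext fun g => ?_))
    have h1 := congrFun (congrArg (fun χ : B => (χ.1 : G → ℂ)) h) ((GaloisChar80.powPerm hk).symm g)
    simp only [tw] at h1
    rwa [← GaloisChar80.powPerm_apply hk, Equiv.apply_symm_apply] at h1
  let π : B ≃ B := Equiv.ofBijective tw (Finite.injective_iff_bijective.1 htw)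
  obtain ⟨X, hX, hXrep⟩ : ∃ X : Finset G, (∀ x ∈ X, ∃ j : ℕ, orderOf x = p ^ j) ∧
      ∀ g : G, (∃ j : ℕ, orderOf g = p ^ j) → ∃! x, x ∈ X ∧ IsConj g x := by
    let X : Finset G := ((Finset.univ : Finset G).filter fun g => ∃ j : ℕ, orderOf g = p ^ j).image
      fun g => (ConjClasses.mk g).out
    have hc : ∀ g : G, IsConj g (ConjClasses.mk g).out := fun g =>
      ConjClasses.mk_eq_mk_iff_isConj.1 (Quotient.out_eq (ConjClasses.mk g)).symm
    refine ⟨X, fun x hx => ?_, fun g hg => ⟨(ConjClasses.mk g).out,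
      ⟨Finset.mem_image.2 ⟨g, Finset.mem_filter.2 ⟨Finset.mem_univ _, hg⟩, rfl⟩, hc g⟩, ?_⟩⟩
    · obtain ⟨g, hg, rfl⟩ := Finset.mem_image.1 hx
      obtain ⟨c, hc'⟩ := isConj_iff.1 (hc g)
      obtain ⟨j, hj⟩ := (Finset.mem_filter.1 hg).2
      refine ⟨j, ?_⟩
      rw [← hc', ← hj, show c * g * c⁻¹ = MulAut.conj c g from rfl, MulEquiv.orderOf_eq]
    · rintro x ⟨hx, hgx⟩
      obtain ⟨g', -, rfl⟩ := Finset.mem_image.1 hx
      rw [ConjClasses.mk_eq_mk_iff_isConj.2 (hgx.trans (hc g').symm)]
  let S := fun x : X => Finset.univ.filter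
      (fun b => IsInducedBlock M (Subgroup.centralizer ({(x : G)} : Set G)) b B)
  let ι := Σ x : X, {b // b ∈ S x}
  let comb : (B → ℂ) →ₗ[ℂ] (G → ℂ) := Fintype.linearCombination ℂ (fun χ : B => ((χ.1 : G → ℂ)))
  let L : (B → ℂ) →ₗ[ℂ] (∀ σ : ι, regSpan p σ.2.1) := LinearMap.pi fun σ =>
    ((proj p σ.2.1).comp ((sec (σ.1 : G)).comp comb)).codRestrict _ fun c => proj_mem _ _
  have hL : ∀ c σ, (L c σ : _ → ℂ) = proj p σ.2.1 (sec (σ.1 : G) (comb c)) := fun c σ => rfl
  have hcomb : ∀ c g, comb c g = ∑ χ : B, c χ * (χ.1 : G → ℂ) g := fun c g => by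
    simp [comb, Fintype.linearCombination_apply]
  have hcf : ∀ c, IsClassFunction G (comb c) := fun c g h => by
    rw [hcomb, hcomb]; exact isClassFunction_sum c g h
  have hmem : ∀ σ : ι, IsInducedBlock M _ σ.2.1 B := fun σ => (Finset.mem_filter.1 σ.2.2).2
  -- the values on a section are determined by the components
  have hsec : ∀ (c : B → ℂ) (x : X) (W : Subgroup.centralizer ({(x : G)} : Set G) → ℂ),
      IsClassFunction _ W → (∀ b : {b // b ∈ S x}, (L c ⟨x, b⟩ : _ → ℂ) = proj p b.1 W) →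
      (∀ b, IsPBlock M b → b ∉ S x → proj p b W = 0) →
      ∀ y : Subgroup.centralizer ({(x : G)} : Set G), ¬ p ∣ orderOf y →
        comb c ((x : G) * y) = W y := by
    intro c x W hW h1 h2 y hy
    refine sub_eq_zero.1 ?_
    refine eq_zero_of_proj hM (F := sec (x : G) (comb c) - W) ?_ (fun b hb => ?_) hy
    · intro g h
      simp only [Pi.sub_apply, isClassFunction_sec (hcf c) _ g h, hW g h]
    rw [map_sub, sub_eq_zero]
    by_cases hind : b ∈ S x
    · exact (hL c ⟨x, ⟨b, hind⟩⟩).symm.trans (h1 ⟨b, hind⟩)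
    · rw [h2 b hb hind]
      obtain ⟨B', hB'⟩ := inducedBlockDefined_centralizer hM (hX x x.2) hb
      rw [show comb c = ∑ χ : B, c χ • (χ.1 : G → ℂ) from Fintype.linearCombination_apply ℂ _ c,
        map_sum, map_sum]
      refine Finset.sum_eq_zero fun χ _ => ?_
      rw [map_smul, map_smul, proj_sec_eq_zero hM (hX x x.2) hB' (fun hm => hind
        (Finset.mem_filter.2 ⟨Finset.mem_univ _, block_eq_of_mem hM hB'.2.1 hB hm χ.2 ▸ hB'⟩)),
        smul_zero]
  -- values of comb c at a conjugate of a representative times a regular element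
  have hconj : ∀ (c : B → ℂ) (x : X) (h : G) (w : G), Commute (h * x * h⁻¹) w →
      comb c (h * x * h⁻¹ * w) = comb c ((x : G) * (h⁻¹ * w * h)) ∧
        h⁻¹ * w * h ∈ Subgroup.centralizer ({(x : G)} : Set G) ∧ orderOf (h⁻¹ * w * h) = orderOf w := by
    intro c x h w hw
    refine ⟨?_, ?_, ?_⟩
    · conv_rhs => rw [← hcf c _ h]
      congr 1; group
    · rw [Subgroup.mem_centralizer_singleton_iff]
      calc h⁻¹ * w * h * x = h⁻¹ * (w * (h * x * h⁻¹)) * h := by group
        _ = h⁻¹ * ((h * x * h⁻¹) * w) * h := by rw [hw.eq]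
        _ = _ := by group
    · rw [show h⁻¹ * w * h = MulAut.conj h⁻¹ w by simp, MulEquiv.orderOf_eq]
  have hinj : Function.Injective L := by
    rw [injective_iff_map_eq_zero]
    intro c hc
    have h0 : comb c = 0 := by
      funext g
      obtain ⟨z, w, hzw, hcom, hz, hw⟩ := exists_pPart hM.1 g
      obtain ⟨x, ⟨hxX, hzx⟩, -⟩ := hXrep z hz
      obtain ⟨h, hh⟩ := isConj_iff.1 hzx.symm
      obtain ⟨e, hm, ho⟩ := hconj c ⟨x, hxX⟩ h w (by
        show Commute (h * x * h⁻¹) w
        rw [hh]; exact hcom)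
      change comb c (h * x * h⁻¹ * w) = _ at e
      rw [hh, hzw] at e
      rw [e, Pi.zero_apply]
      exact hsec c ⟨x, hxX⟩ 0 (fun _ _ => rfl)
        (fun b => by rw [hc, map_zero]; rfl) (fun b _ _ => map_zero _) ⟨_, hm⟩
        (by rw [Subgroup.orderOf_mk, ho]; exact hw)
    have hli : LinearIndependent ℂ (fun χ : B => ((χ.1 : G → ℂ))) :=
      (CharBasicOrth.linearIndependent_irr (G := G)).comp _ Subtype.val_injective
    rw [show comb c = ∑ χ : B, c χ • (χ.1 : G → ℂ) from Fintype.linearCombination_apply ℂ _ c] at h0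
    exact funext fun χ => Fintype.linearIndependent_iff.1 hli c h0 χ
  have hfr : Module.finrank ℂ (B → ℂ) = Module.finrank ℂ (∀ σ : ι, regSpan p σ.2.1) := by
    rw [Module.finrank_fintype_fun_eq_card, Module.finrank_pi_fintype, Fintype.sum_sigma,
      ← Nat.card_eq_fintype_card, card_eq_sum_rank hM hB hX hXrep]
    exact Finset.sum_congr rfl fun x _ => (Finset.sum_coe_sort (S x) fun b => blockRank p b).symm
  let Le : (B → ℂ) ≃ₗ[ℂ] (∀ σ : ι, regSpan p σ.2.1) := LinearMap.linearEquivOfInjective L hinj hfr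
  let T : Module.End ℂ (B → ℂ) := LinearMap.funLeft ℂ ℂ π.symm
  have hT : ∀ c g, comb (T c) g = comb c (g ^ k) := by
    intro c g
    rw [hcomb, hcomb, ← Equiv.sum_comp π]
    refine Finset.sum_congr rfl fun χ _ => ?_
    rw [LinearMap.funLeft_apply, Equiv.symm_apply_apply]
    rfl
  have htrT : LinearMap.trace ℂ _ T =
      (Nat.card {χ : IrrCharacter G // χ ∈ B ∧ ∀ g, (χ : G → ℂ) (g ^ k) = (χ : G → ℂ) g} : ℂ) := by
    rw [LinearMap.trace_eq_matrix_trace ℂ (Pi.basisFun ℂ B), Matrix.trace]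
    have hdiag : ∀ χ : B, Matrix.diag (LinearMap.toMatrix (Pi.basisFun ℂ B) (Pi.basisFun ℂ B) T) χ =
        if π χ = χ then 1 else 0 := by
      intro χ
      rw [Matrix.diag_apply, LinearMap.toMatrix_apply, Pi.basisFun_repr, Pi.basisFun_apply,
        LinearMap.funLeft_apply, Pi.single_apply]
      refine if_congr ⟨fun e => ?_, fun e => ?_⟩ rfl rfl
      · conv_lhs => rw [← e]
        exact π.apply_symm_apply χ
      · exact π.symm_apply_eq.2 e.symm
    rw [Finset.sum_congr rfl fun χ _ => hdiag χ, Finset.sum_boole, ← Fintype.card_subtype,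
      ← Nat.card_eq_fintype_card]
    congr 1
    refine Nat.card_congr ((Equiv.subtypeEquivRight fun χ => ?_).trans
      (Equiv.subtypeSubtypeEquivSubtypeInter (fun χ : IrrCharacter G => χ ∈ B)
        (fun χ : IrrCharacter G => ∀ g, (χ : G → ℂ) (g ^ k) = (χ : G → ℂ) g)))
    exact ⟨fun e g => congrFun (congrArg (fun χ : B => (χ.1 : G → ℂ)) e) g,
      fun e => Subtype.ext (Subtype.ext (funext e))⟩
  let D : ∀ σ : ι, Module.End ℂ (regSpan p σ.2.1) := fun σ =>
    diag (V := fun σ : ι => regSpan p σ.2.1) Le T σ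
  have hD : ∀ (σ : ι) (v : regSpan p σ.2.1),
      let c := Le.symm (LinearMap.single ℂ (fun σ : ι => regSpan p σ.2.1) σ v)
      (D σ v : _ → ℂ) = proj p σ.2.1 (fun y => comb c (((σ.1 : G) * y) ^ k)) ∧
        (∀ y : Subgroup.centralizer ({(σ.1 : G)} : Set G), ¬ p ∣ orderOf y →
          comb c ((σ.1 : G) * y) = (v : _ → ℂ) y) ∧
        ∀ (x : X) (y : Subgroup.centralizer ({(x : G)} : Set G)), ¬ p ∣ orderOf y →
          x ≠ σ.1 → comb c ((x : G) * y) = 0 := by
    intro σ v c
    have hc : ∀ τ, L c τ = LinearMap.single ℂ (fun σ : ι => regSpan p σ.2.1) σ v τ := fun τ =>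
      congrFun (Le.apply_symm_apply _) τ
    refine ⟨?_, fun y hy => ?_, fun x y hy hne => ?_⟩
    · rw [show D σ = diag (V := fun σ : ι => regSpan p σ.2.1) Le T σ from rfl, diag_apply]
      show (L (T c) σ).1 = _
      rw [hL]
      exact congrArg _ (funext fun y => hT c _)
    · refine hsec c σ.1 v (isClassFunction_of_mem_regSpan v.2) (fun b => ?_) (fun b hb hbS => ?_) y hy
      · rw [hc, proj_regSpan hM (hmem ⟨σ.1, b⟩).1 (hmem σ).1 v.2]
        by_cases hb : b = σ.2
        · subst hb
          rw [if_pos rfl, LinearMap.coe_single]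
          exact congrArg Subtype.val (Pi.single_eq_same (M := fun τ : ι => regSpan p τ.2.1) σ v)
        · rw [if_neg fun e => hb (Subtype.ext e), LinearMap.coe_single,
            Pi.single_eq_of_ne fun e : (⟨σ.1, b⟩ : ι) = σ => hb (eq_of_heq (Sigma.ext_iff.1 e).2)]
          rfl
      · rw [proj_regSpan hM hb (hmem σ).1 v.2, if_neg fun e : b = σ.2.1 => hbS (e.symm ▸ σ.2.2)]
    · refine hsec c x 0 (fun _ _ => rfl) (fun b => ?_) (fun b _ _ => map_zero _) y hy
      rw [hc, map_zero, LinearMap.coe_single, Pi.single_eq_of_ne]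
      · rfl
      · exact fun e => hne (congrArg Sigma.fst e)
  have hkk : ∀ (x : G) (y : G), Commute x y → ¬ p ∣ orderOf y → (x * y) ^ k = x ^ k * y :=
    fun x y hc hy => by rw [hc.mul_pow, hky y hy]
  have hone : ∀ σ : ι, (σ.1 : G) = 1 → D σ = 1 := by
    intro σ h1
    refine LinearMap.ext fun v => Subtype.ext ?_
    obtain ⟨hd, hv, -⟩ := hD σ v
    rw [hd, Module.End.one_apply]
    conv_rhs => rw [show (v : _ → ℂ) = proj p σ.2.1 v by
      rw [proj_regSpan hM (hmem σ).1 (hmem σ).1 v.2, if_pos rfl]]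
    refine proj_congr hM (hmem σ).1 fun y hy => ?_
    have hy' : ¬ p ∣ orderOf (y : G) := by rwa [Subgroup.orderOf_coe]
    have e1 : (σ.1 : G) ^ k = σ.1 := by rw [h1, one_pow]
    rw [hkk _ _ (Subgroup.mem_centralizer_singleton_iff.1 y.2).symm hy', e1]
    exact hv y hy
  have hnat : ∀ σ : ι, ∃ n : ℕ, LinearMap.trace ℂ _ (D σ) = n := by
    intro σ
    refine exists_trace_eq_nat hM (hmem σ).1 (D σ) fun v hv => ?_
    obtain ⟨hd, hval, hzero⟩ := hD σ v
    rw [hd]
    set c := Le.symm (LinearMap.single ℂ (fun σ : ι => regSpan p σ.2.1) σ v) with hc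
    obtain ⟨j, hj⟩ := hX _ σ.1.2
    have hkx : k.Coprime (orderOf (σ.1 : G)) := hk.coprime_dvd_right (orderOf_dvd_natCard _)
    obtain ⟨x', ⟨hx'X, hxx'⟩, -⟩ := hXrep ((σ.1 : G) ^ k) ⟨j, by rw [hkx.symm.orderOf_pow, hj]⟩
    obtain ⟨h, hh⟩ := isConj_iff.1 hxx'.symm
    have hcy : ∀ y : Subgroup.centralizer ({(σ.1 : G)} : Set G), Commute (σ.1 : G) (y : G) := fun y =>
      (Subgroup.mem_centralizer_singleton_iff.1 y.2).symm
    by_cases he : (⟨x', hx'X⟩ : X) = σ.1
    · have he' : x' = (σ.1 : G) := congrArg Subtype.val he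
      rw [he'] at hh
      let α : Subgroup.centralizer ({(σ.1 : G)} : Set G) ≃* Subgroup.centralizer ({(σ.1 : G)} : Set G) :=
        { toFun := fun y => ⟨h⁻¹ * y * h, (hconj c σ.1 h y (by rw [hh]; exact (hcy y).pow_left k)).2.1⟩
          invFun := fun y => ⟨h * y * h⁻¹, by
            rw [Subgroup.mem_centralizer_singleton_iff]
            obtain ⟨k', hk'⟩ := exists_pow_eq_self_of_coprime hkx
            have h1 : Commute ((σ.1 : G) ^ k) (h * y * h⁻¹) := by
              rw [← hh]
              exact (hcy y).map (MulAut.conj h).toMonoidHom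
            have h2 := h1.pow_left k'
            rw [hk'] at h2
            exact h2.symm.eq⟩
          left_inv := fun y => Subtype.ext (by simp only; group)
          right_inv := fun y => Subtype.ext (by simp only; group)
          map_mul' := fun a b => Subtype.ext (by simp only [Subgroup.coe_mul]; group) }
      rw [proj_congr hM (hmem σ).1 (F' := fun y => (v : _ → ℂ) (α y)) fun y hy => ?_]
      · exact proj_comp hM (hmem σ).1 α hv
      · have hy' : ¬ p ∣ orderOf (y : G) := by rwa [Subgroup.orderOf_coe]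
        rw [hkk _ _ (hcy y) hy', ← hh]
        obtain ⟨e, -, -⟩ := hconj c σ.1 h y (by rw [hh]; exact (hcy y).pow_left k)
        rw [e]
        exact hval (α y) (by rwa [MulEquiv.orderOf_eq])
    · right
      rw [proj_congr hM (hmem σ).1 (F' := 0) fun y hy => ?_, map_zero]
      have hy' : ¬ p ∣ orderOf (y : G) := by rwa [Subgroup.orderOf_coe]
      rw [hkk _ _ (hcy y) hy', ← hh]
      obtain ⟨e, hm, ho⟩ := hconj c ⟨x', hx'X⟩ h y (by rw [hh]; exact (hcy y).pow_left k)
      rw [e, Pi.zero_apply]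
      exact hzero ⟨x', hx'X⟩ ⟨_, hm⟩ (by rw [Subgroup.orderOf_mk, ho]; exact hy') he
  choose n hn using hnat
  have htrace : (Nat.card {χ : IrrCharacter G // χ ∈ B ∧ ∀ g, (χ : G → ℂ) (g ^ k) = (χ : G → ℂ) g}) =
      ∑ σ, n σ :=
    trace_eq_sum_diag (V := fun σ : ι => regSpan p σ.2.1) Le T htrT n hn
  rw [htrace]
  obtain ⟨x₀, ⟨hx₀X, hx₀⟩, -⟩ := hXrep 1 ⟨0, by simp⟩
  have hx1 : x₀ = 1 := isConj_one_right.1 hx₀
  let x₁ : X := ⟨x₀, hx₀X⟩
  let L₁ : (B → ℂ) →ₗ[ℂ] (∀ b : {b // b ∈ S x₁}, regSpan p b.1) :=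
    LinearMap.pi fun b => (LinearMap.proj (R := ℂ) (φ := fun σ : ι => regSpan p σ.2.1) ⟨x₁, b⟩).comp L
  let R : (G → ℂ) →ₗ[ℂ] (G → ℂ) :=
    { toFun := fun f => pRegularPart p f
      map_add' := fun f f' => by funext g; simp only [pRegularPart, Pi.add_apply]; split_ifs <;> simp
      map_smul' := fun a f => by funext g; simp only [pRegularPart, Pi.smul_apply, RingHom.id_apply]; split_ifs <;> simp }
  have hker : LinearMap.ker L₁ ≤ LinearMap.ker (R.comp comb) := by
    intro c hc
    rw [LinearMap.mem_ker] at hc ⊢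
    funext g
    show pRegularPart p (comb c) g = 0
    rw [pRegularPart]
    split_ifs with hg
    · have hg1 : g ∈ Subgroup.centralizer ({(x₁ : G)} : Set G) := by
        rw [Subgroup.mem_centralizer_singleton_iff]; simp [x₁, hx1]
      have h2 := hsec c x₁ 0 (fun _ _ => rfl) (fun b => by
        rw [map_zero]; exact congrArg Subtype.val (congrFun hc b)) (fun b _ _ => map_zero _)
        ⟨g, hg1⟩ (by rw [Subgroup.orderOf_mk]; exact hg)
      simpa [x₁, hx1] using h2
    · rfl
  have hrank : blockRank p B ≤ ∑ b : {b // b ∈ S x₁}, blockRank p b.1 := by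
    have hrange : LinearMap.range (R.comp comb) =
        Submodule.span ℂ ((fun χ : IrrCharacter G => pRegularPart p (χ : G → ℂ)) '' B) := by
      rw [LinearMap.range_comp, Fintype.range_linearCombination, Submodule.map_span, ← Set.range_comp,
        Set.image_eq_range]
      rfl
    have h1 := LinearMap.finrank_range_add_finrank_ker (R.comp comb)
    have h2 := LinearMap.finrank_range_add_finrank_ker L₁
    have h3 := Submodule.finrank_mono hker
    have h4 : Module.finrank ℂ (LinearMap.range L₁) ≤ ∑ b : {b // b ∈ S x₁}, blockRank p b.1 :=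
      (Submodule.finrank_le _).trans (le_of_eq (Module.finrank_pi_fintype ℂ))
    rw [hrange] at h1
    change Module.finrank ℂ _ ≤ _
    omega
  refine hrank.trans ?_
  rw [Fintype.sum_sigma]
  refine le_trans (le_of_eq ?_) (Finset.single_le_sum (fun x _ => Nat.zero_le (∑ b, n ⟨x, b⟩))
    (Finset.mem_univ x₁))
  refine Finset.sum_congr rfl fun b _ => ?_
  have h := hn ⟨x₁, b⟩
  rw [hone ⟨x₁, b⟩ hx1, LinearMap.trace_one, Nat.cast_inj] at h
  exact h

end Group

end Cfsg.Agent.PRationalCount
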