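import Mathlib
import Cfsg.Agent.Lib.SL25Presentation
import Cfsg.Agent.Lib.PSLCard

/-!
`PSL(2,11)`: the two classes of icosahedral subgroups and the `2`-transitive action of degree `11`.
Elements of `SL(2,11)` are handled through their tuples of entries.
-/

set_option autoImplicit false

namespace Cfsg.Agent.PSL211A5

open Cfsg.Agent.SL25Presentation (P gx gy gz toSL11 toA5)
open scoped Pointwise

instance : Fact (Nat.Prime 11) := ⟨by norm_num⟩

set_option maxRecDepth 100000

/-- the field -/
abbrev R := ZMod 11
/-- `SL(2,11)` -/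
abbrev S11 := Matrix.SpecialLinearGroup (Fin 2) R
/-- `PSL(2,11)` -/
abbrev G11 := Matrix.ProjectiveSpecialLinearGroup (Fin 2) R

/-- code of four entries -/
def code (a b c d : ℕ) : ℕ := ((a * 11 + b) * 11 + c) * 11 + d
/-- first entry -/
def ea (x : ℕ) : ℕ := x / 1331
/-- second entry -/
def eb (x : ℕ) : ℕ := x / 121 % 11
/-- third entry -/
def ec (x : ℕ) : ℕ := x / 11 % 11
/-- fourth entry -/
def ed (x : ℕ) : ℕ := x % 11

/-- multiplication of codes -/
def mu (x y : ℕ) : ℕ :=
  code ((ea x * ea y + eb x * ec y) % 11) ((ea x * eb y + eb x * ed y) % 11)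
    ((ec x * ea y + ed x * ec y) % 11) ((ec x * eb y + ed x * ed y) % 11)

/-- negation modulo 11 -/
def nm (a : ℕ) : ℕ := (11 - a) % 11

/-- negation of codes -/
def ng (x : ℕ) : ℕ := code (nm (ea x)) (nm (eb x)) (nm (ec x)) (nm (ed x))

/-- the adjugate -/
def iv (x : ℕ) : ℕ := code (ed x) (nm (eb x)) (nm (ec x)) (ea x)

/-- conjugation by `diag(1,-1)` -/
def dl (x : ℕ) : ℕ := code (ea x) (nm (eb x)) (nm (ec x)) (ed x)

/-- the code of a matrix -/
def toV (A : S11) : ℕ := code (A.1 0 0).val (A.1 0 1).val (A.1 1 0).val (A.1 1 1).val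

theorem decode {a b c d : ℕ} (hb : b < 11) (hc : c < 11) (hd : d < 11) :
    ea (code a b c d) = a ∧ eb (code a b c d) = b ∧ ec (code a b c d) = c ∧ ed (code a b c d) = d := by
  unfold ea eb ec ed code
  omega

theorem decode_toV (A : S11) : ea (toV A) = (A.1 0 0).val ∧ eb (toV A) = (A.1 0 1).val ∧
    ec (toV A) = (A.1 1 0).val ∧ ed (toV A) = (A.1 1 1).val :=
  decode (ZMod.val_lt _) (ZMod.val_lt _) (ZMod.val_lt _)

theorem toV_injective : Function.Injective toV := by
  intro A B h
  obtain ⟨a1, a2, a3, a4⟩ := decode_toV A
  obtain ⟨b1, b2, b3, b4⟩ := decode_toV B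
  rw [h] at a1 a2 a3 a4
  apply Matrix.SpecialLinearGroup.ext
  intro i j
  fin_cases i <;> fin_cases j <;> apply ZMod.val_injective <;> simp_all

theorem val_neg' (x : R) : (-x).val = nm x.val := by
  rw [ZMod.neg_val', nm]

theorem toV_mul (A B : S11) : toV (A * B) = mu (toV A) (toV B) := by
  obtain ⟨a1, a2, a3, a4⟩ := decode_toV A
  obtain ⟨b1, b2, b3, b4⟩ := decode_toV B
  rw [mu, a1, a2, a3, a4, b1, b2, b3, b4, toV]
  simp [Matrix.mul_apply, Fin.sum_univ_two, ZMod.val_add, ZMod.val_mul, Nat.add_mod]

theorem toV_inv (A : S11) : toV A⁻¹ = iv (toV A) := by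
  obtain ⟨a1, a2, a3, a4⟩ := decode_toV A
  rw [iv, a1, a2, a3, a4, toV, ← val_neg', ← val_neg']
  simp [Matrix.SpecialLinearGroup.coe_inv, Matrix.adjugate_fin_two]

theorem toV_neg (A : S11) : toV (-A) = ng (toV A) := by
  obtain ⟨a1, a2, a3, a4⟩ := decode_toV A
  rw [ng, a1, a2, a3, a4, toV, ← val_neg', ← val_neg', ← val_neg', ← val_neg']
  simp

theorem toV_one : toV (1 : S11) = 1332 := by
  simp [toV, code, ZMod.val_one]

/-- the outer automorphism -/
def delta : S11 →* S11 where
  toFun A := ⟨!![A.1 0 0, -A.1 0 1; -A.1 1 0, A.1 1 1], by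
    have := A.2
    rw [Matrix.det_fin_two] at this
    rw [Matrix.det_fin_two_of]
    linear_combination this⟩
  map_one' := Subtype.ext (by ext i j; fin_cases i <;> fin_cases j <;> simp)
  map_mul' A B := Subtype.ext (by
    show !![(A.1 * B.1) 0 0, -(A.1 * B.1) 0 1; -(A.1 * B.1) 1 0, (A.1 * B.1) 1 1] =
      !![A.1 0 0, -A.1 0 1; -A.1 1 0, A.1 1 1] * !![B.1 0 0, -B.1 0 1; -B.1 1 0, B.1 1 1]
    ext i j
    fin_cases i <;> fin_cases j <;> simp [Matrix.mul_apply, Fin.sum_univ_two] <;> ring)

theorem delta_val (A : S11) :
    (delta A).1 = !![A.1 0 0, -A.1 0 1; -A.1 1 0, A.1 1 1] := rfl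

theorem toV_delta (A : S11) : toV (delta A) = dl (toV A) := by
  obtain ⟨a1, a2, a3, a4⟩ := decode_toV A
  rw [dl, a1, a2, a3, a4, ← val_neg', ← val_neg']
  simp [toV, delta_val]

/-- the projection -/
abbrev pr : S11 →* G11 := QuotientGroup.mk' (Subgroup.center S11)

theorem center_cases {z : S11} (hz : z ∈ Subgroup.center S11) : z = 1 ∨ z = -1 := by
  obtain ⟨r, hr, he⟩ := Matrix.SpecialLinearGroup.mem_center_iff.1 hz
  simp only [Fintype.card_fin] at hr
  rcases sq_eq_one_iff.1 hr with rfl | rfl
  · left; exact Subtype.ext (by rw [← he]; simp)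
  · right; exact Subtype.ext (by rw [← he]; ext i j; fin_cases i <;> fin_cases j <;> simp)

theorem pr_eq_iff {A B : S11} : pr A = pr B ↔ B = A ∨ B = -A := by
  rw [QuotientGroup.mk'_eq_mk']
  constructor
  · rintro ⟨z, hz, rfl⟩
    rcases center_cases hz with rfl | rfl
    · simp
    · right; simp
  · rintro (rfl | rfl)
    · exact ⟨1, one_mem _, mul_one _⟩
    · refine ⟨-1, ?_, by simp⟩
      rw [Subgroup.mem_center_iff]
      intro g; simp

/-- the codes of the subgroup `2.A₅` -/
def L : List ℕ :=
  [
    231, 297, 440, 572, 627, 825, 880, 1012, 1155, 1221, 1332, 1465, 1693, 1740, 1850, 2037,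
    2144, 2254, 2397, 2477, 2573, 2668, 2887, 2971, 3063, 3206, 3316, 3411, 3598, 3708, 3767,
    3983, 3997, 4133, 4352, 4408, 4518, 4705, 4803, 4913, 5056, 5145, 5232, 5327, 5462, 5684,
    5737, 5847, 6034, 6135, 6245, 6388, 6474, 6564, 6664, 6794, 7009, 7069, 7179, 7366, 7460,
    7570, 7713, 7806, 7889, 7988, 8215, 8298, 8391, 8534, 8644, 8738, 8925, 9035, 9095, 9310,
    9325, 9540, 9630, 9716, 9859, 9969, 10070, 10257, 10367, 10420, 10642, 10655, 10872, 10959,
    11048, 11191, 11301, 11399, 11586, 11696, 11752, 11971, 11984, 12121, 12337, 12396, 12506,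
    12693, 12788, 12898, 13041, 13133, 13217, 13320, 13531, 13627, 13707, 13850, 13960, 14067,
    14254, 14364, 14411, 14639
  ]

/-- the set `L` as a bit mask -/
def mask : ℕ :=
  0x80000000000000000000000000000000000000000000000000000000080000000000100000000000000000000000000040000000000000000000000000000000000000000000000800000000000000000000000001000000000000000000000000000400000000000000000000000000000000000800000000000000000008000000000000000000000008000000000000000000000000000000000000000000000000000100000000000000000000000002000000000000000000002000000000000000000000020000000000000000000000000000000000040000000000000000000000000010000000000000000000000020000000000000000000000000000000000000000000000400000000000000000000000000100000000000000200000000000000000000000000000000000000000000000000000200000000000000000000000000000000010008000000000000000000000000000000000000000000000000000001000000000000010000000000000000000000000004000000000000000000000000000000000000000000000080000000000000000000000020000000000000000000000000008000000000000000000000000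0000000000100000000000000000000008000000000000000000001000000000000000000000000000000000000000000000000000000800400000000000000000000000000000000000000000000000000000010000000000000800000000000000000000000000200000000000000000000000000000000000000000000004000000000000000000000000200000000000000000000000000080000000000000000000000000000000000100000000000000000000040000000000000000000001000000000000000000000000000000000000000000000000000002000400000000000000000000000000000000000000000000000000000800000000000000800000000000000000000000000200000000000000000000000000000000000000000000004000000000000000000000010000000000000000000000000004000000000000000000000000000000000008000000000000000000000040000000000000000000080000000000000000000000000000000000000000000000000000000100000000000000000000000020000000000000000000040000000000000000000000200000000000000000000000000000000000400000000000000000000000000100000000000000000000000400000000000000000000000000000000000000000000008000000000000000000000000002000000000000002000000000000000000000000000000000000000000000000000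0040000000000000000000000000000000100000000000000000000000010000000000000000000000400000000000000000000100000000000000000000000000000000000200000000000000000000000000080000000000000000000000004000000000000000000000000000000000000000000000080000000000000000000000000020000000000001000000000000000000000000000000000000000000000000000000040000000000000000000000000000000008000000000000000000000010000000000000000000002000000000000000000000100000000000000000000000000000000000200000000000000000000000000080000000000000000000000020000000000000000000000000000000000000000000000400000000000000000000000000100000000000001000000000000000000000000000000000000000000000000000000200000000000000000000000000000000020008000000000000000000000000000000000000000000000000000008000000000000010000000000000000000000000004000000000000000000000000000000000000000000000080000000000000000000000100000000000000000000000000040000000000000000000000000000000000080000000000000000000000800000000000000000000800000000000000000000000000000000000000000000000000000100000000000000000000000200000000000000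00000000020000000000000000000200000000000000000000000000000000000400000000000000000000000000100000000000000000000000000200000000000000000000000000000000000000000000004000000000000000000000000001000000000002000000000000000000000000000000000000000000000000000000002000000000000000000000000000000001000000000000000000000000000200000000000000008000000000000000000000000000000000010000000000000000000000000000000010000000000000200000000000000000000000000000000000000000000000008000000000000100000000000000000000000000000000100000000000000000000000000000000000200000000000000008000000000000000000000000000000000000000000000000000000000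

/-- fast membership in `L` -/
abbrev InL (x : ℕ) : Prop := Nat.testBit mask x = true

theorem testBit_foldr (l : List ℕ) (n : ℕ) :
    Nat.testBit (l.foldr (fun c m => 2 ^ c ||| m) 0) n = true ↔ n ∈ l := by
  induction l with
  | nil => simp
  | cons c l ih =>
    rw [List.foldr_cons, Nat.testBit_lor, Bool.or_eq_true, ih, Nat.testBit_two_pow, List.mem_cons,
      decide_eq_true_iff]
    exact or_congr_left eq_comm

theorem inL_iff (x : ℕ) : InL x ↔ x ∈ L := by
  have h : mask = L.foldr (fun c m => 2 ^ c ||| m) 0 := by decide +kernel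
  rw [InL, h, testBit_foldr]

/-- involution conjugators -/
def RS : List ℕ :=
  [
    231, 232, 233, 234, 235, 236, 237, 238, 239, 240, 241, 297, 298, 299, 300, 301, 302, 303,
    304, 305, 306, 307, 440, 441, 442, 443, 444, 445, 446, 447, 448, 449, 450, 572, 573, 574,
    575, 576, 577, 578, 579, 580, 581, 582, 627, 628, 629, 630, 631, 632, 633, 634, 635, 636,
    637
  ]

theorem L_length : L.length = 120 := by decide +kernel

theorem L_closed : ∀ g ∈ [9540, 3997, 13320], ∀ x ∈ L,
    InL (mu x g) ∧ InL (mu x (iv g)) := by decide +kernel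

theorem one_mem_L : InL 1332 := by decide +kernel

theorem L_neg : ∀ x ∈ L, InL (ng x) := by decide +kernel

theorem toV_gens : toV (toSL11 gx) = 9540 ∧ toV (toSL11 gy) = 3997 ∧
    toV (toSL11 gz) = 13320 := by
  unfold toSL11
  simp only [gx, gy, gz, PresentedGroup.toGroup.of]
  decide +kernel

theorem toV_mem_L (u : P) : InL (toV (toSL11 u)) := by
  have hu : u ∈ Subgroup.closure ({gx, gy, gz} : Set P) :=
    SL25Presentation.closure_gens ▸ Subgroup.mem_top u
  have hg : ∀ g ∈ ({gx, gy, gz} : Set P), toV (toSL11 g) ∈ [9540, 3997, 13320] := by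
    rintro g (rfl | rfl | rfl) <;> simp [toV_gens.1, toV_gens.2.1, toV_gens.2.2]
  induction hu using Subgroup.closure_induction_right with
  | one => rw [map_one, toV_one]; exact one_mem_L
  | mul_right x _ y hy ih => rw [map_mul, toV_mul]; exact (L_closed _ (hg y hy) _ ((inL_iff _).1 ih)).1
  | mul_inv_cancel x _ y hy ih =>
    rw [map_mul, map_inv, toV_mul, toV_inv]; exact (L_closed _ (hg y hy) _ ((inL_iff _).1 ih)).2

theorem exists_of_mem_L {x : ℕ} (hx : x ∈ L) : ∃ u, toV (toSL11 u) = x := by
  classical
  haveI := SL25Presentation.finite_card_le.1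
  letI := Fintype.ofFinite P
  have hinj : Function.Injective (fun u => toV (toSL11 u)) :=
    toV_injective.comp SL25Presentation.toSL11_injective
  have heq : Finset.univ.image (fun u => toV (toSL11 u)) = L.toFinset := by
    refine Finset.eq_of_subset_of_card_le (fun v hv => ?_) ?_
    · obtain ⟨u, -, rfl⟩ := Finset.mem_image.1 hv
      exact List.mem_toFinset.2 ((inL_iff _).1 (toV_mem_L u))
    · rw [Finset.card_image_of_injective _ hinj, Finset.card_univ, ← Nat.card_eq_fintype_card,
        SL25Presentation.card_P, ← L_length]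
      exact L.toFinset_card_le
  obtain ⟨u, -, hu⟩ := Finset.mem_image.1 (heq ▸ List.mem_toFinset.2 hx)
  exact ⟨u, hu⟩

theorem mem_L_iff (A : S11) : InL (toV A) ↔ A ∈ toSL11.range := by
  constructor
  · intro h
    obtain ⟨u, hu⟩ := exists_of_mem_L ((inL_iff _).1 h)
    exact ⟨u, toV_injective hu⟩
  · rintro ⟨u, rfl⟩; exact toV_mem_L u

/-- the first icosahedral subgroup -/
def H0 : Subgroup G11 := toSL11.range.map pr

/-- the second icosahedral subgroup -/
def K0 : Subgroup G11 := (toSL11.range.map delta).map pr

theorem mem_H0 (A : S11) : pr A ∈ H0 ↔ InL (toV A) := by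
  constructor
  · rintro ⟨W, hW, hWA⟩
    have hW' : InL (toV W) := (mem_L_iff W).2 hW
    rcases pr_eq_iff.1 hWA with rfl | rfl
    · exact hW'
    · rw [toV_neg]; exact L_neg _ ((inL_iff _).1 hW')
  · intro h; exact ⟨A, (mem_L_iff A).1 h, rfl⟩

theorem delta_delta (A : S11) : delta (delta A) = A := by
  exact Subtype.ext (by ext i j; fin_cases i <;> fin_cases j <;> simp [delta_val])

theorem delta_neg (A : S11) : delta (-A) = -delta A := by
  exact Subtype.ext (by ext i j; fin_cases i <;> fin_cases j <;> simp [delta_val])

theorem mem_K0 (A : S11) : pr A ∈ K0 ↔ InL (dl (toV A)) := by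
  rw [← toV_delta]
  constructor
  · rintro ⟨_, ⟨W, hW, rfl⟩, hWA⟩
    have hW' : InL (toV W) := (mem_L_iff W).2 hW
    rcases pr_eq_iff.1 hWA with rfl | rfl
    · rwa [delta_delta]
    · rw [delta_neg, delta_delta, toV_neg]; exact L_neg _ ((inL_iff _).1 hW')
  · intro h
    exact ⟨A, ⟨delta A, (mem_L_iff _).1 h, delta_delta A⟩, rfl⟩

/-- both subgroups are `A₅` -/
theorem range_iso (χ : P →* S11) (hz : pr (χ gz) = 1) (hx : pr (χ gx) ≠ 1) :
    Nonempty ((pr.comp χ).range ≃* alternatingGroup (Fin 5)) := by
  haveI := SL25Presentation.finite_card_le.1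
  have hgz : gz ∈ toA5.ker := by rw [MonoidHom.mem_ker]; exact PresentedGroup.toGroup.of _
  have hker : toA5.ker = Subgroup.zpowers gz := by
    refine (Subgroup.eq_of_le_of_card_ge (Subgroup.zpowers_le.2 hgz) ?_).symm
    have hm := toA5.ker.card_mul_index
    rw [Subgroup.index_ker, MonoidHom.range_eq_top.2 SL25Presentation.toA5_surjective,
      Subgroup.card_top, nat_card_alternatingGroup, Nat.card_fin, SL25Presentation.card_P,
      show Nat.factorial 5 = 120 from rfl] at hm
    have h2 : orderOf gz = 2 := by
      refine orderOf_eq_prime SL25Presentation.gz2 fun h => ?_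
      have := toV_gens.2.2
      rw [h, map_one, toV_one] at this
      norm_num at this
    rw [Nat.card_zpowers, h2]
    omega
  have hle : toA5.ker ≤ (pr.comp χ).ker := by
    rw [hker, Subgroup.zpowers_le, MonoidHom.mem_ker]; exact hz
  let ψ := toA5.liftOfSurjective SL25Presentation.toA5_surjective ⟨pr.comp χ, hle⟩
  have hψ : ∀ u, ψ (toA5 u) = pr (χ u) := fun u =>
    MonoidHom.liftOfRightInverse_comp_apply _ _ _ _ u
  have hinj : Function.Injective ψ := by
    rw [← MonoidHom.ker_eq_bot_iff]
    refine (IsSimpleGroup.eq_bot_or_eq_top_of_normal ψ.ker inferInstance).resolve_right fun h => hx ?_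
    rw [← hψ]
    exact MonoidHom.mem_ker.1 (h ▸ Subgroup.mem_top _)
  have hr : ψ.range = (pr.comp χ).range := by
    ext y
    constructor
    · rintro ⟨a, rfl⟩
      obtain ⟨u, rfl⟩ := SL25Presentation.toA5_surjective a
      exact ⟨u, (hψ u).symm⟩
    · rintro ⟨u, rfl⟩; exact ⟨toA5 u, hψ u⟩
  exact ⟨(MulEquiv.subgroupCongr hr.symm).trans (MonoidHom.ofInjective hinj).symm⟩

theorem pr_eq_one {A : S11} : pr A = 1 ↔ toV A = 1332 ∨ toV A = 13320 := by
  rw [← map_one pr, eq_comm, pr_eq_iff, ← toV_injective.eq_iff, ← toV_injective.eq_iff, toV_neg, toV_one,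
    show ng 1332 = 13320 from rfl]

theorem H0_iso : Nonempty (H0 ≃* alternatingGroup (Fin 5)) := by
  rw [show H0 = (pr.comp toSL11).range by rw [MonoidHom.range_comp]; rfl]
  refine range_iso _ ?_ ?_
  · rw [pr_eq_one, toV_gens.2.2]; right; rfl
  · rw [Ne, pr_eq_one, toV_gens.1]; decide +kernel

theorem K0_iso : Nonempty (K0 ≃* alternatingGroup (Fin 5)) := by
  rw [show K0 = (pr.comp (delta.comp toSL11)).range by simp only [MonoidHom.range_comp]; rfl]
  refine range_iso _ ?_ ?_
  · rw [MonoidHom.comp_apply, pr_eq_one, toV_delta, toV_gens.2.2]; right; decide +kernel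
  · rw [MonoidHom.comp_apply, Ne, pr_eq_one, toV_delta, toV_gens.1]; decide +kernel

/-- upper unitriangular matrices -/
def up (k : R) : S11 := ⟨!![1, k; 0, 1], by simp [Matrix.det_fin_two_of]⟩

theorem toV_up (k : R) : toV (up k) = 1332 + 121 * k.val := by
  simp [toV, up, code, ZMod.val_one]; ring

theorem up_add (k l : R) : up (k + l) = up k * up l := by
  exact Subtype.ext (by rw [Matrix.SpecialLinearGroup.coe_mul]; simp [up, Matrix.mul_fin_two, add_comm])

theorem up_inv (k : R) : (up k)⁻¹ = up (-k) := by
  exact inv_eq_of_mul_eq_one_right (by rw [← up_add, add_neg_cancel]; exact Subtype.ext (by simp [up, Matrix.one_fin_two]))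

theorem up_notMem : ∀ k ∈ List.range 11, k ≠ 0 →
    ¬ InL (1332 + 121 * k) ∧ ¬ InL (dl (1332 + 121 * k)) := by
  decide +kernel

theorem up_witness : ∀ k ∈ List.range 11, k ≠ 0 →
    ∃ W ∈ L, InL (mu (mu (1332 + 121 * nm k) W) (1332 + 121)) := by
  decide +kernel

theorem up_conj_H : ∀ k ∈ List.range 11, k ≠ 0 → ∃ g ∈ [9540, 3997],
    ¬ InL (mu (mu (1332 + 121 * k) g) (1332 + 121 * nm k)) := by
  decide +kernel

theorem up_conj_K : ∀ k ∈ List.range 11, k ≠ 0 → ∃ g ∈ [9540, 3997],
    ¬ InL (dl (mu (mu (1332 + 121 * k) (dl g)) (1332 + 121 * nm k))) := by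
  decide +kernel

theorem val_mem_range (k : R) : k.val ∈ List.range 11 := List.mem_range.2 (ZMod.val_lt k)

theorem val_ne_zero' {k : R} (hk : k ≠ 0) : k.val ≠ 0 := fun h => hk ((ZMod.val_eq_zero k).1 h)

theorem card_G11 : Nat.card G11 = 660 := by
  show Nat.card (Matrix.ProjectiveSpecialLinearGroup (Fin 2) R) = 660
  rw [PSLCard.card_PSL2, Nat.card_zmod]; rfl

theorem index_of_iso {H : Subgroup G11} (h : Nonempty (H ≃* alternatingGroup (Fin 5))) : H.index = 11 := by
  obtain ⟨e⟩ := h
  have hm := H.card_mul_index
  rw [Nat.card_congr e.toEquiv, nat_card_alternatingGroup, Nat.card_fin, card_G11,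
    show Nat.factorial 5 = 120 from rfl] at hm
  omega

/-- the eleven upper unitriangular elements form a transversal -/
theorem exists_up {H : Subgroup G11} (hi : H.index = 11) (hu : ∀ k : R, k ≠ 0 → pr (up k) ∉ H)
    (g : G11) : ∃ k : R, (pr (up k))⁻¹ * g ∈ H := by
  classical
  haveI : Finite (G11 ⧸ H) := Nat.finite_of_card_ne_zero (by rw [← Subgroup.index_eq_card, hi]; norm_num)
  have hinj : Function.Injective (fun k : R => (QuotientGroup.mk (pr (up k)) : G11 ⧸ H)) := by
    intro a b h
    by_contra hne
    refine hu (-a + b) (fun h0 => hne (neg_add_eq_zero.1 h0)) ?_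
    have := QuotientGroup.eq.1 h
    rwa [← map_inv, ← map_mul, up_inv, ← up_add] at this
  have hbij := (Nat.bijective_iff_injective_and_card _).2
    ⟨hinj, by rw [← Subgroup.index_eq_card, hi, Nat.card_eq_fintype_card, ZMod.card]⟩
  obtain ⟨k, hk⟩ := hbij.2 (QuotientGroup.mk g)
  exact ⟨k, QuotientGroup.eq.1 hk⟩

theorem H0_up : ∀ k : R, k ≠ 0 → pr (up k) ∉ H0 := fun k hk => by
  rw [mem_H0, toV_up]; exact (up_notMem _ (val_mem_range k) (val_ne_zero' hk)).1

theorem K0_up : ∀ k : R, k ≠ 0 → pr (up k) ∉ K0 := fun k hk => by
  rw [mem_K0, toV_up]; exact (up_notMem _ (val_mem_range k) (val_ne_zero' hk)).2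

/-- element form of double transitivity on cosets -/
theorem H0_double : ∀ x ∉ H0, ∃ h ∈ H0, x⁻¹ * h * pr (up 1) ∈ H0 := by
  intro x hx
  obtain ⟨k, hk⟩ := exists_up (index_of_iso H0_iso) H0_up x
  have hk0 : k ≠ 0 := by
    rintro rfl
    refine hx ?_
    rwa [show up 0 = 1 from toV_injective (by simp [toV_up, toV_one]), map_one, inv_one, one_mul] at hk
  obtain ⟨W, hWL, hW2⟩ := up_witness _ (val_mem_range k) (val_ne_zero' hk0)
  obtain ⟨u, rfl⟩ := exists_of_mem_L hWL
  refine ⟨pr (toSL11 u), (mem_H0 _).2 (toV_mem_L u), ?_⟩
  have h2 : pr ((up k)⁻¹ * toSL11 u * up 1) ∈ H0 := by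
    rw [mem_H0, toV_mul, toV_mul, up_inv, toV_up, toV_up, val_neg', ZMod.val_one, Nat.mul_one]; exact hW2
  have h3 := H0.mul_mem (H0.inv_mem hk) h2
  simpa [mul_assoc] using h3

/-- double transitivity from the element form -/
theorem isMultiplyPretransitive_two {G : Type*} [Group G] {H : Subgroup G} {w : G} (hw : w ∉ H)
    (hd : ∀ x ∉ H, ∃ h ∈ H, x⁻¹ * h * w ∈ H) : MulAction.IsMultiplyPretransitive G (G ⧸ H) 2 := by
  rw [MulAction.is_two_pretransitive_iff]
  have key : ∀ a b : G ⧸ H, a ≠ b → ∃ g : G, g • (QuotientGroup.mk 1 : G ⧸ H) = a ∧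
      g • (QuotientGroup.mk w : G ⧸ H) = b := by
    intro a b hab
    obtain ⟨x, rfl⟩ := QuotientGroup.mk_surjective a
    obtain ⟨y, rfl⟩ := QuotientGroup.mk_surjective b
    have hx : x⁻¹ * y ∉ H := fun h => hab (QuotientGroup.eq.2 h)
    obtain ⟨h, hh, hh2⟩ := hd _ hx
    refine ⟨x * h, ?_, ?_⟩
    · rw [MulAction.Quotient.smul_mk]
      exact QuotientGroup.eq.2 (by simpa [smul_eq_mul] using H.inv_mem hh)
    · rw [MulAction.Quotient.smul_mk]
      refine (QuotientGroup.eq.2 ?_).symm
      simpa [smul_eq_mul, mul_assoc] using hh2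
  intro a b c d hab hcd
  obtain ⟨g, hga, hgb⟩ := key a b hab
  obtain ⟨g', hgc, hgd⟩ := key c d hcd
  exact ⟨g' * g⁻¹, by rw [mul_smul, ← hga, inv_smul_smul, hgc], by rw [mul_smul, ← hgb, inv_smul_smul, hgd]⟩

end Cfsg.Agent.PSL211A5
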