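import Cfsg.Agent.Lib.BinaryFix34
import Cfsg.Agent.Lib.PSL2Proj52
import Cfsg.Agent.Lib.PSLSimple

/-!
Coset actions of `PSL(2,q)`: triangles of elements whose fixed point sets have small stabilisers.
-/

set_option autoImplicit false

namespace Cfsg.Agent.PSL2Binary34

open scoped MatrixGroups
open Matrix Cfsg.Agent.PSL2Elements Cfsg.Agent.PSL2Proj52
open Cfsg.Agent.SuzukiBinary Cfsg.Agent.BinaryFix34

variable {F : Type*} [Field F]

set_option quotPrecheck false
local notation "G" => ProjectiveSpecialLinearGroup (Fin 2) F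

/-- The lower unitriangular matrix. -/
def lo (c : F) : SL(2, F) := mk2 1 0 c 1 (by ring)

/-- Every lift of an element of the stabiliser of the fixed points of `X` commutes with `X`. -/
def Good (H : Subgroup (ProjectiveSpecialLinearGroup (Fin 2) F)) (X : SL(2, F)) : Prop :=
  ∀ Y : SL(2, F), π Y ∈ fixSub H (π X) → Y * X = X * Y

/-- `X` fixes a coset. -/
def HasFix (H : Subgroup (ProjectiveSpecialLinearGroup (Fin 2) F)) (X : SL(2, F)) : Prop :=
  ∃ b, b⁻¹ * π X * b ∈ H

theorem hasFix_of_mem {H : Subgroup G} {X : SL(2, F)} (h : π X ∈ H) : HasFix H X :=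
  ⟨1, by simpa using h⟩

theorem HasFix.conj {H : Subgroup G} {X : SL(2, F)} (h : HasFix H X) (C : SL(2, F)) :
    HasFix H (C * X * C⁻¹) := by
  obtain ⟨b, hb⟩ := h
  refine ⟨π C * b, ?_⟩
  rw [map_mul, map_mul, map_inv,
    show (π C * b)⁻¹ * (π C * π X * (π C)⁻¹) * (π C * b) = b⁻¹ * π X * b by group]
  exact hb

theorem HasFix.of_isConj {H : Subgroup G} {X Y : SL(2, F)} (h : HasFix H X) (hc : IsConj X Y) :
    HasFix H Y := by
  obtain ⟨C, rfl⟩ := isConj_iff.1 hc
  exact h.conj C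

theorem HasFix.neg {H : Subgroup G} {X : SL(2, F)} (h : HasFix H X) : HasFix H (-X) := by
  rw [HasFix, π_neg]; exact h

theorem Good.neg {H : Subgroup G} {X : SL(2, F)} (h : Good H X) : Good H (-X) := by
  intro Y hY
  rw [π_neg] at hY
  rw [mul_neg, neg_mul, h Y hY]

theorem Good.inv {H : Subgroup G} {X : SL(2, F)} (h : Good H X) : Good H X⁻¹ := by
  intro Y hY
  rw [map_inv, fixSub_inv] at hY
  exact (show Commute Y X from h Y hY).inv_right

theorem Good.conj {H : Subgroup G} {X : SL(2, F)} (h : Good H X) (C : SL(2, F)) :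
    Good H (C * X * C⁻¹) := by
  intro Y hY
  have h1 := h (C⁻¹ * Y * C) (by
    have := conj_mem (π C)⁻¹ hY
    rw [map_mul, map_mul, map_inv]
    rw [map_mul, map_mul, map_inv, inv_inv,
      show (π C)⁻¹ * (π C * π X * (π C)⁻¹) * π C = π X by group] at this
    exact this)
  calc Y * (C * X * C⁻¹) = C * (C⁻¹ * Y * C * X) * C⁻¹ := by group
    _ = C * (X * (C⁻¹ * Y * C)) * C⁻¹ := by rw [h1]
    _ = C * X * C⁻¹ * Y := by group

theorem Good.of_isConj {H : Subgroup G} {X Y : SL(2, F)} (h : Good H X) (hc : IsConj X Y) :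
    Good H Y := by
  obtain ⟨C, rfl⟩ := isConj_iff.1 hc
  exact h.conj C

/-- Commuting is transitive away from the centre. -/
theorem commute_trans {A X Y : SL(2, F)} (hA : A ∉ Subgroup.center SL(2, F))
    (hX : X * A = A * X) (hY : Y * A = A * Y) : X * Y = Y * X := by
  obtain ⟨a, b, ha⟩ := exists_eq_of_commute hA (congrArg Subtype.val hX)
  obtain ⟨c, d, hc⟩ := exists_eq_of_commute hA (congrArg Subtype.val hY)
  refine Subtype.ext ?_
  rw [coe_mul', coe_mul', ha, hc]
  simp only [add_mul, mul_add, smul_mul_assoc, mul_smul_comm, one_mul, mul_one, smul_add, smul_smul]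
  rw [mul_comm c a, mul_comm c b, mul_comm d a, mul_comm d b]
  abel

/-- A triangle of good elements. -/
theorem not_binary_of_triangle [Finite F] {H : Subgroup G} {X Y : SL(2, F)} (hfix : HasFix H X)
    (hX : Good H X) (hY : Good H Y) (hZ : Good H (X⁻¹ * Y)) (hne : X * Y ≠ Y * X) : ¬ Binary H := by
  intro hB
  obtain ⟨g, h1, h2, h3⟩ := exists_of_binary hB hfix (y := π Y)
  obtain ⟨A, rfl⟩ := π_surjective g
  by_cases hA : A ∈ Subgroup.center SL(2, F)
  · have h1' : π A = 1 := (QuotientGroup.eq_one_iff A).2 hA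
    rw [h1', inv_one, one_mul] at h3
    have hc : X * (X⁻¹ * Y) = X⁻¹ * Y * X :=
      hZ X (by rw [map_mul, map_inv]; exact h3)
    refine hne ?_
    rw [mul_inv_cancel_left] at hc
    conv_lhs => rw [hc]
    group
  · exact hne (commute_trans hA (hX A h1).symm (hY A h2).symm)

/-- Commuting elements: the relation between the three traces. -/
theorem kappa_of_commute {X Y : SL(2, F)} (hX : X ∉ Subgroup.center SL(2, F))
    (h : X * Y = Y * X) :
    tr X ^ 2 + tr Y ^ 2 + tr (X⁻¹ * Y) ^ 2 - tr X * tr Y * tr (X⁻¹ * Y) - 4 = 0 := by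
  obtain ⟨a, b, hab⟩ := exists_eq_of_commute hX (congrArg Subtype.val h.symm)
  have hd := det_eq Y
  have hdX := det_eq X
  obtain ⟨i1, i2, i3, i4⟩ := inv_apply X
  simp only [tr, mul_apply2, i1, i2, i3, i4, hab, Matrix.add_apply, Matrix.smul_apply,
    Matrix.one_apply_eq, smul_eq_mul] at hd ⊢
  simp at hd ⊢
  grind

/-- A good semisimple element. -/
theorem not_binary_of_good [Finite F] {H : Subgroup G} {X : SL(2, F)} (hfix : HasFix H X)
    (hX : Good H X) (h4 : tr X ^ 2 ≠ 4)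
    (hexc : (2 : F) = 0 → tr X = 1 → ∃ r : F, r ^ 2 + r + 1 = 0) : ¬ Binary H := by
  set t := tr X with ht
  have hgood : ∀ Y : SL(2, F), tr Y = t ∨ tr Y = -t → Good H Y := by
    rintro Y (h | h)
    · exact hX.of_isConj (isConj_of_tr_eq h.symm (ht ▸ h4))
    · exact hX.neg.of_isConj (isConj_of_tr_eq (by rw [tr_neg, h]) (by rw [tr_neg, neg_sq]; exact h4))
  by_cases hc : (2 : F) = 0 ∧ t = 1
  · obtain ⟨h2, h1⟩ := hc
    obtain ⟨r, hr⟩ := hexc h2 h1
    have hr0 : r ≠ 0 := by rintro rfl; simp at hr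
    set X₁ : SL(2, F) := mk2 r 0 0 (r ^ 2) (by grind)
    set Y₁ : SL(2, F) := mk2 (r ^ 2) 1 0 r (by grind)
    obtain ⟨i1, i2, i3, i4⟩ := inv_apply X₁
    have hX1 : tr X₁ = t := by simp [tr, X₁, mk2, h1]; grind
    refine not_binary_of_triangle (hfix.of_isConj (isConj_of_tr_eq hX1.symm (ht ▸ h4)))
      (hgood X₁ (Or.inl hX1)) (hgood Y₁ (Or.inl ?_)) (hgood _ (Or.inl ?_)) ?_
    · simp [tr, Y₁, mk2, h1]; grind
    · simp only [tr, mul_apply2, i1, i2, i3, i4]; simp [X₁, Y₁, mk2, h1]; grind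
    · intro e
      have := congrArg (fun C : SL(2, F) => C.1 0 1) e
      simp only [mul_apply2] at this
      simp [X₁, Y₁, mk2] at this
      grind
  obtain ⟨e, he, hne⟩ : ∃ e : F, (e = t ∨ e = -t) ∧
      t ^ 2 + t ^ 2 + e ^ 2 - t * t * e - 4 ≠ 0 := by
    have ht2 : t - 2 ≠ 0 := fun h => h4 (by linear_combination (t + 2) * h)
    by_cases hm : t + 1 = 0
    · refine ⟨-t, Or.inr rfl, fun h => hc ?_⟩
      have h2 : (2 : F) = 0 := by
        rw [show t = -1 from eq_neg_of_add_eq_zero_left hm] at h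
        linear_combination -h
      exact ⟨h2, by linear_combination hm - h2⟩
    · refine ⟨t, Or.inl rfl, fun h => ?_⟩
      have : (t - 2) * ((t - 2) * (t + 1)) = 0 := by linear_combination -h
      rcases mul_eq_zero.1 this with h' | h'
      · exact ht2 h'
      · exact (mul_eq_zero.1 h').elim ht2 hm
  obtain ⟨B, hB1, hB2⟩ := exists_factor t t e h4
  refine not_binary_of_triangle (X := B) (Y := comp t)
    (hfix.of_isConj (isConj_of_tr_eq hB1.symm (ht ▸ h4))) (hgood B (Or.inl hB1))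
    (hgood _ (Or.inl (by simp [tr, PSL2Elements.comp, mk2])))
    (hgood _ (he.imp (fun h => hB2.trans h) fun h => hB2.trans h)) fun h => hne ?_
  have hBc : B ∉ Subgroup.center SL(2, F) := fun hc' => h4 (by
    rw [← hB1]; exact tr_sq_eq_four_of_mem_center hc')
  have := kappa_of_commute hBc h
  rwa [hB1, hB2, show tr (comp t : SL(2, F)) = t by simp [tr, PSL2Elements.comp, mk2]] at this

/-- Good unipotent elements in odd characteristic. -/
theorem not_binary_of_good_u [Finite F] {H : Subgroup G} (h2 : (2 : F) ≠ 0) {r : F} (hr : r ≠ 0)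
    (hfix : HasFix H (u r)) (hX : Good H (u r)) : ¬ Binary H := by
  have hinv : (u r : SL(2, F))⁻¹ = u (-r) :=
    inv_eq_of_mul_eq_one_right (by rw [u_mul, add_neg_cancel, u_zero])
  have h4 : (4 : F) ≠ 0 := by
    rw [show (4 : F) = 2 * 2 by norm_num]; exact mul_ne_zero h2 h2
  refine not_binary_of_triangle (Y := lo (4 / r)) hfix hX ?_ ?_ ?_
  · have h1 : Good H (u (((Units.mk0 (2 / r) (div_ne_zero h2 hr) : Fˣ) : F) ^ 2 * -r)) :=
      (hinv ▸ hX.inv).of_isConj (u_conj_square _ _)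
    have h3 := h1.conj w
    convert h3 using 1
    rw [eq_mul_inv_iff_mul_eq]
    apply ext2 <;> simp only [mul_apply2] <;> simp [lo, w, u, mk2] <;> field_simp <;> ring
  · have h3 := (hX.conj (lo (-2 / r))).neg
    convert h3 using 1
    obtain ⟨i1, i2, i3, i4⟩ := inv_apply (lo (-2 / r))
    obtain ⟨j1, j2, j3, j4⟩ := inv_apply (u r : SL(2, F))
    apply ext2 <;> simp only [coe_neg', Matrix.neg_apply, mul_apply2, i1, i2, i3, i4, j1, j2, j3, j4] <;>
      simp [lo, u, mk2] <;> field_simp <;> ring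
  · intro e
    have := congrArg (fun C : SL(2, F) => C.1 0 0) e
    simp only [mul_apply2] at this
    simp [lo, u, mk2] at this
    tauto

/-! ### Root groups -/

theorem eq_top_of_roots {K : Subgroup G} (hu : ∀ e : F, π (u e) ∈ K) (hl : ∀ e : F, π (lo e) ∈ K) :
    K = ⊤ := by
  rw [eq_top_iff]
  intro g _
  obtain ⟨A, rfl⟩ := π_surjective g
  have key : ∀ B : SL(2, F), B.1 1 0 ≠ 0 → π B ∈ K := by
    intro B hc
    have e : B = u ((B.1 0 0 - 1) / B.1 1 0) * lo (B.1 1 0) * u ((B.1 1 1 - 1) / B.1 1 0) := by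
      have hd := det_eq B
      apply ext2 <;> simp only [mul_apply2] <;> simp [lo, u, mk2] <;> field_simp <;> grind
    rw [e, map_mul, map_mul]
    exact mul_mem (mul_mem (hu _) (hl _)) (hu _)
  by_cases hc : A.1 1 0 = 0
  · have hd := det_eq A
    rw [hc, mul_zero, sub_zero] at hd
    have := key (lo 1 * A) (by
      rw [mul_apply2]
      simp [lo, mk2, hc]; exact left_ne_zero_of_mul_eq_one hd)
    rw [map_mul] at this
    exact (mul_mem_cancel_left (hl 1)).1 this
  · exact key A hc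

theorem eq_top_of_u_of_not_borel {K : Subgroup G} (hu : ∀ e : F, π (u e) ∈ K) {A : SL(2, F)}
    (hA : A.1 1 0 ≠ 0) (hconj : ∀ e : F, π (A * u e * A⁻¹) ∈ K) : K = ⊤ := by
  refine eq_top_of_roots hu fun c => ?_
  set s := u (-(A.1 0 0) / A.1 1 0) with hs
  have h1 := hconj (-c / A.1 1 0 ^ 2)
  have h2 := mul_mem (mul_mem (hu (-(A.1 0 0) / A.1 1 0)) h1) (inv_mem (hu (-(A.1 0 0) / A.1 1 0)))
  convert h2 using 1
  rw [← map_mul, ← map_inv, ← map_mul]
  congr 1
  have hd := det_eq A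
  obtain ⟨i1, i2, i3, i4⟩ := inv_apply A
  obtain ⟨j1, j2, j3, j4⟩ := inv_apply (u (-(A.1 0 0) / A.1 1 0) : SL(2, F))
  apply ext2 <;> simp only [mul_apply2, i1, i2, i3, i4, j1, j2, j3, j4] <;> simp [lo, u, mk2] <;>
    field_simp <;> grind

/-- A unipotent element whose stabiliser contains no whole root group is good. -/
theorem good_u [Finite F] (hq : 4 ≤ Nat.card F) {H : Subgroup G} (hH : H ≠ ⊤) {r : F} (hr : r ≠ 0)
    (hfix : HasFix H (u r)) (hU : ∀ b : G, ∃ e : F, b⁻¹ * π (u e) * b ∉ H) : Good H (u r) := by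
  have hsimple : IsSimpleGroup G :=
    PSLSimple.isSimpleGroup_PSL_fin' le_rfl fun _ => hq
  obtain ⟨b₀, hb₀⟩ := hfix
  set S := fixSub H (π (u r))
  have hnorm : ∀ e : F, π (u e) ∈ Subgroup.normalizer (S : Set G) := by
    intro e
    have key : ∀ e : F, ∀ g ∈ S, π (u e) * g * (π (u e))⁻¹ ∈ S := fun e g hg =>
      conj_mem_of_commute _ (by rw [← map_mul, ← map_mul, u_mul, u_mul, add_comm]) hg
    refine Subgroup.mem_normalizer_iff.2 fun g => ⟨key e g, fun hg => ?_⟩
    have := key (-e) _ hg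
    rw [show (u (-e) : SL(2, F)) = (u e)⁻¹ from
      (inv_eq_of_mul_eq_one_right (by rw [u_mul, add_neg_cancel, u_zero])).symm, map_inv] at this
    simpa [mul_assoc] using this
  intro A hA
  have hc : A.1 1 0 = 0 := by
    by_contra hc
    have htop : Subgroup.normalizer (S : Set G) = ⊤ := by
      refine eq_top_of_u_of_not_borel hnorm hc fun e => ?_
      rw [map_mul, map_mul, map_inv]
      exact mul_mem (mul_mem (Subgroup.le_normalizer hA) (hnorm e)) (inv_mem (Subgroup.le_normalizer hA))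
    have : S.Normal := Subgroup.normalizer_eq_top_iff.1 htop
    rcases this.eq_bot_or_eq_top with h | h
    · have h1 := self_mem H (π (u r))
      change π (u r) ∈ S at h1
      rw [h, Subgroup.mem_bot, π_eq_one] at h1
      rcases h1 with e | e <;> have := congrArg (fun C : SL(2, F) => C.1 0 1) e <;>
        simp [u, mk2] at this <;> exact hr this
    · refine hH (eq_top_iff.2 fun g _ => ?_)
      have := (h ▸ Subgroup.mem_top (b₀ * g * b₀⁻¹) : b₀ * g * b₀⁻¹ ∈ S) b₀ hb₀
      simpa [mul_assoc] using this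
  have hd := det_eq A
  rw [hc, mul_zero, sub_zero] at hd
  by_cases he : A.1 0 0 = A.1 1 1
  · apply ext2 <;> simp only [mul_apply2] <;> simp [u, mk2, hc, he, mul_comm, add_comm]
  exfalso
  obtain ⟨e', he'⟩ := hU b₀
  have ha0 : A.1 0 0 ≠ 0 := left_ne_zero_of_mul_eq_one hd
  have h1a : 1 - A.1 0 0 ^ 2 ≠ 0 := fun h =>
    he (mul_left_cancel₀ ha0 (by linear_combination -h - hd))
  have h1 := mul_mem (((Subgroup.mem_normalizer_iff.1 (hnorm (e' / (1 - A.1 0 0 ^ 2)))) _).1 hA)
    (inv_mem hA)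
  refine he' ?_
  have h2 : π (u e') ∈ S := by
    convert h1 using 1
    rw [← map_inv, ← map_mul, ← map_mul, ← map_inv, ← map_mul]
    congr 1
    obtain ⟨i1, i2, i3, i4⟩ := inv_apply A
    obtain ⟨j1, j2, j3, j4⟩ := inv_apply (u (e' / (1 - A.1 0 0 ^ 2)) : SL(2, F))
    apply ext2 <;> simp only [mul_apply2, i1, i2, i3, i4, j1, j2, j3, j4] <;>
      simp [u, mk2, hc] <;> field_simp <;> grind
  exact h2 b₀ hb₀

theorem le_borel_of_roots {H : Subgroup G} (hH : H ≠ ⊤) (hU : ∀ e : F, π (u e) ∈ H) {A : SL(2, F)}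
    (hA : π A ∈ H) : A.1 1 0 = 0 := by
  by_contra hc
  refine hH (eq_top_of_u_of_not_borel hU hc fun e => ?_)
  rw [map_mul, map_mul, map_inv]
  exact mul_mem (mul_mem hA (hU e)) (inv_mem hA)

/-- A subgroup containing a root group and a torus element. -/
theorem not_binary_of_borel [Finite F] {H : Subgroup G} (hH : H ≠ ⊤) (hU : ∀ e : F, π (u e) ∈ H)
    {A : SL(2, F)} (hA : π A ∈ H) (hne : A.1 0 0 ≠ A.1 1 1) : ¬ Binary H := by
  have hc := le_borel_of_roots hH hU hA
  have hd := det_eq A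
  rw [hc, mul_zero, sub_zero] at hd
  set a : Fˣ := Units.mk0 (A.1 0 0) (left_ne_zero_of_mul_eq_one hd) with ha
  have hinv : ((a⁻¹ : Fˣ) : F) = A.1 1 1 := by
    rw [Units.val_inv_eq_inv_val, ha, Units.val_mk0]; exact inv_eq_of_mul_eq_one_right hd
  set e := -(A.1 0 1) / (A.1 1 1 - A.1 0 0)
  have hconj : u e * A * (u e)⁻¹ = d a := by
    have h0 : A.1 1 1 - A.1 0 0 ≠ 0 := sub_ne_zero.2 (Ne.symm hne)
    obtain ⟨j1, j2, j3, j4⟩ := inv_apply (u e : SL(2, F))
    apply ext2 <;> simp only [mul_apply2, j1, j2, j3, j4] <;>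
      simp [u, d, mk2, hc, e, ha] <;> field_simp <;> grind
  have hda : π (d a) ∈ H := by
    rw [← hconj, map_mul, map_mul, map_inv]
    exact mul_mem (mul_mem (hU e) hA) (inv_mem (hU e))
  have hgood : Good H (d a) := by
    intro Y hY
    have h1 := le_of_mem hda hY
    have h2 : (π (w : SL(2, F)))⁻¹ * π Y * π w ∈ H := hY (π w) (by
      rw [← map_inv, ← map_mul, ← map_mul,
        show (w : SL(2, F))⁻¹ * d a * w = (d a)⁻¹ by
          obtain ⟨i1, i2, i3, i4⟩ := inv_apply (w : SL(2, F))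
          obtain ⟨j1, j2, j3, j4⟩ := inv_apply (d a : SL(2, F))
          apply ext2 <;> simp only [mul_apply2, i1, i2, i3, i4, j1, j2, j3, j4] <;> simp [w, d, mk2],
        map_inv]
      exact inv_mem hda)
    rw [← map_inv, ← map_mul, ← map_mul] at h2
    have e1 := le_borel_of_roots hH hU h1
    have e2 := le_borel_of_roots hH hU h2
    obtain ⟨i1, i2, i3, i4⟩ := inv_apply (w : SL(2, F))
    simp only [mul_apply2, i1, i2, i3, i4] at e2
    simp [w, mk2] at e2
    apply ext2 <;> simp only [mul_apply2] <;> simp [d, mk2, e1, e2, mul_comm]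
  refine not_binary_of_good (hasFix_of_mem hda) hgood ?_ fun h2 h1 => ⟨(a : F), ?_⟩
  · intro h
    refine hne ?_
    rw [tr_d, ha, Units.val_mk0, inv_eq_of_mul_eq_one_right hd] at h
    have : (A.1 0 0 - A.1 1 1) ^ 2 = 0 := by linear_combination h - 4 * hd
    exact sub_eq_zero.1 (pow_eq_zero_iff two_ne_zero |>.1 this)
  · rw [tr_d] at h1
    have := a.ne_zero
    field_simp at h1
    grind

end Cfsg.Agent.PSL2Binary34
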