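import Cfsg.Agent.Lib.PSL2BinaryBasic34

/-!
Coset actions of `PSL(2,q)` on cyclic and dihedral subgroups of order prime to `q`.
-/

set_option autoImplicit false

namespace Cfsg.Agent.PSL2Binary34

open scoped MatrixGroups
open Matrix Cfsg.Agent.PSL2Elements Cfsg.Agent.PSL2Proj52
open Cfsg.Agent.SuzukiBinary Cfsg.Agent.BinaryFix34

variable {F : Type*} [Field F]

set_option quotPrecheck false
local notation "G" => ProjectiveSpecialLinearGroup (Fin 2) F

/-- Every nontrivial element of `H` is semisimple. -/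
def SemiSub (H : Subgroup (ProjectiveSpecialLinearGroup (Fin 2) F)) : Prop :=
  ∀ X : SL(2, F), π X ∈ H → π X ≠ 1 → tr X ^ 2 ≠ 4

theorem two_ne_of_neg {t : F} (h2 : (2 : F) ≠ 0) (h : t = -t) : t = 0 :=
  (mul_eq_zero.1 (show (2 : F) * t = 0 by linear_combination h)).resolve_left h2

theorem neg_eq_self (h2 : (2 : F) = 0) (A : SL(2, F)) : -A = A := by
  rw [← neg_one_mul A, neg_one_eq_one h2, one_mul]

theorem commute_or_anti {X Y : SL(2, F)} (h : π Y * π X = π X * π Y) :
    Y * X = X * Y ∨ Y * X = -(X * Y) := by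
  rw [← map_mul, ← map_mul] at h
  exact (π_eq_iff _ _).1 h

theorem strict_commute {X Y : SL(2, F)} (h : π Y * π X = π X * π Y)
    (ht : (2 : F) = 0 ∨ tr X ≠ 0) : Y * X = X * Y := by
  rcases commute_or_anti h with e | e
  · exact e
  by_cases h2 : (2 : F) = 0
  · rw [e, neg_eq_self h2]
  refine absurd (two_ne_of_neg h2 ?_) (ht.resolve_left h2)
  calc tr X = tr (Y * X * Y⁻¹) := (tr_conj Y X).symm
    _ = tr (-X) := by rw [e, neg_mul, mul_inv_cancel_right]
    _ = -tr X := tr_neg X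

theorem sq_one_of_tr_zero (h2 : (2 : F) ≠ 0) {X : SL(2, F)} (h : tr X = 0) : π X * π X = 1 := by
  rw [← map_mul, π_eq_one, ← pow_two]
  exact Or.inr ((sq_eq_neg_one_iff X h2).2 h)

theorem tr_zero_of_sq_one (h2 : (2 : F) ≠ 0) {X : SL(2, F)} (hne : π X ≠ 1) (h : π X * π X = 1) :
    tr X = 0 := by
  rw [← map_mul, π_eq_one, ← pow_two] at h
  rcases h with e | e
  · rcases eq_one_or_neg_one_of_sq_eq_one h2 e with e | e
    · exact absurd ((π_eq_one X).2 (Or.inl e)) hne
    · exact absurd ((π_eq_one X).2 (Or.inr e)) hne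
  · exact (sq_eq_neg_one_iff X h2).1 e

theorem eq_or_inv_of_commute {X Y : SL(2, F)} (h : Y * X = X * Y) (ht : tr Y = tr X)
    (h4 : tr X ^ 2 ≠ 4) : Y = X ∨ Y = X⁻¹ := by
  have hX : X ∉ Subgroup.center SL(2, F) := fun hc => h4 (tr_sq_eq_four_of_mem_center hc)
  obtain ⟨a, b, hab⟩ := exists_eq_of_commute hX (congrArg Subtype.val h)
  have hd := det_eq Y
  have hdX := det_eq X
  simp only [tr, hab, Matrix.add_apply, Matrix.smul_apply, Matrix.one_apply_eq, smul_eq_mul] at ht hd
  simp at ht hd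
  set t := X.1 0 0 + X.1 1 1 with htdef
  have h1 : 2 * a + b * t = t := by rw [htdef]; linear_combination ht
  have h2 : a ^ 2 + a * b * t + b ^ 2 = 1 := by rw [htdef]; grind
  have h3 : (t ^ 2 - 4) * ((b - 1) * (b + 1)) = 0 := by grind
  have hb : (b - 1) * (b + 1) = 0 :=
    (mul_eq_zero.1 h3).resolve_left (sub_ne_zero.2 (by simpa [tr, htdef] using h4))
  obtain ⟨i1, i2, i3, i4⟩ := inv_apply X
  have hcase : (b = 1 ∧ a = 0) ∨ (b = -1 ∧ a = t) := by
    by_cases hc : (2 : F) = 0
    · have hb1 : b = 1 := by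
        rcases mul_eq_zero.1 hb with h' | h'
        · linear_combination h'
        · linear_combination h' - hc
      subst hb1
      by_cases ha : a = 0
      · exact Or.inl ⟨rfl, ha⟩
      · refine Or.inr ⟨by linear_combination hc, ?_⟩
        have : a + t = 0 := mul_left_cancel₀ ha (by linear_combination h2)
        linear_combination this - t * hc
    · rcases mul_eq_zero.1 hb with h' | h'
      · have hb1 : b = 1 := by linear_combination h'
        exact Or.inl ⟨hb1, mul_left_cancel₀ hc (by rw [hb1] at h1; linear_combination h1)⟩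
      · have hb1 : b = -1 := by linear_combination h'
        exact Or.inr ⟨hb1, mul_left_cancel₀ hc (by rw [hb1] at h1; linear_combination h1)⟩
  rcases hcase with ⟨rfl, rfl⟩ | ⟨rfl, rfl⟩
  · exact Or.inl (Subtype.ext (by rw [hab]; simp))
  · refine Or.inr ?_
    apply ext2 <;> simp [hab, i1, i2, i3, i4, htdef]

/-- A commutative subgroup of semisimple elements. -/
theorem comm_case [Finite F] {H : Subgroup G} (hsemi : SemiSub H) (hbot : H ≠ ⊥) [IsCyclic H]
    (hB : Binary H) :
    (2 : F) = 0 ∧ (∀ r : F, r ^ 2 + r + 1 ≠ 0) ∧ Nat.card H = 3 := by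
  have hcomm : ∀ a ∈ H, ∀ b ∈ H, a * b = b * a := fun a ha b hb =>
    congrArg Subtype.val ((IsCyclic.commutative (α := H)).is_comm.comm ⟨a, ha⟩ ⟨b, hb⟩)
  have hgood : ∀ X : SL(2, F), π X ∈ H → ((2 : F) = 0 ∨ tr X ≠ 0) → Good H X := fun X hX ht Y hY =>
    strict_commute (hcomm _ (le_of_mem hX hY) _ hX) ht
  by_cases hex : ∃ X : SL(2, F), π X ∈ H ∧ π X ≠ 1 ∧ tr X ≠ 0 ∧
      ((2 : F) = 0 → tr X = 1 → ∃ r : F, r ^ 2 + r + 1 = 0)
  · obtain ⟨X, hX, hX1, ht, hroot⟩ := hex
    exact absurd hB (not_binary_of_good (hasFix_of_mem hX) (hgood X hX (Or.inr ht)) (hsemi X hX hX1) hroot)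
  push Not at hex
  obtain ⟨⟨g, hgH⟩, hgen⟩ := IsCyclic.exists_generator (α := H)
  have hmem : ∀ y ∈ H, ∃ i : ℤ, g ^ i = y := fun y hy => by
    obtain ⟨i, hi⟩ := hgen ⟨y, hy⟩
    exact ⟨i, by simpa using congrArg Subtype.val hi⟩
  have hg1 : g ≠ 1 := fun e => hbot ((Subgroup.eq_bot_iff_forall _).2 fun y hy => by
    obtain ⟨i, rfl⟩ := hmem y hy
    rw [e, _root_.one_zpow])
  obtain ⟨X, rfl⟩ := π_surjective g
  by_cases h2 : (2 : F) = 0
  · have ht : tr X ≠ 0 := fun h => hsemi X hgH hg1 (by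
      rw [h, show (4 : F) = 2 * 2 by norm_num, h2]; simp)
    obtain ⟨-, h1, hroot⟩ := hex X hgH hg1 ht
    refine ⟨h2, hroot, ?_⟩
    have hcube : π X ^ 3 = 1 := by
      rw [← map_pow, π_eq_one]
      refine Or.inl (Subtype.ext ?_)
      rw [coe_pow', pow_succ, pow_two, sq_eq, sub_mul, one_mul, smul_mul_assoc, sq_eq, h1, one_smul,
        one_smul, sub_sub_cancel_left, coe_one']
      exact neg_eq_of_add_eq_zero_left (by
        rw [← two_nsmul, ← Nat.cast_smul_eq_nsmul F, Nat.cast_ofNat, h2, zero_smul])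
    rw [show H = Subgroup.zpowers (π X) from le_antisymm
      (fun y hy => Subgroup.mem_zpowers_iff.2 (hmem y hy)) (Subgroup.zpowers_le.2 hgH),
      Nat.card_zpowers]
    exact orderOf_eq_prime hcube hg1
  · have ht : tr X = 0 := by
      by_contra h
      exact absurd (hex X hgH hg1 h).1 h2
    exfalso
    refine not_binary_of_good (hasFix_of_mem hgH) (fun Y hY => ?_) (hsemi X hgH hg1)
      (fun h => absurd h h2) hB
    obtain ⟨i, hi⟩ := hmem _ (le_of_mem hgH hY)
    have hsq : π X ^ (2 : ℕ) = 1 := by rw [pow_two]; exact sq_one_of_tr_zero h2 ht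
    rcases Int.even_or_odd i with ⟨j, rfl⟩ | ⟨j, rfl⟩
    · rw [← two_mul, _root_.zpow_mul, show ((2 : ℤ)) = ((2 : ℕ) : ℤ) from rfl, zpow_natCast, hsq,
        _root_.one_zpow, eq_comm, π_eq_one] at hi
      rcases hi with e | e <;> simp [e]
    · rw [_root_.zpow_add_one, _root_.zpow_mul, show ((2 : ℤ)) = ((2 : ℕ) : ℤ) from rfl, zpow_natCast, hsq,
        _root_.one_zpow, one_mul, π_eq_iff] at hi
      rcases hi with e | e <;> simp [e]

/-- A point of the unit circle off the axes. -/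
theorem exists_circle [Finite F] (hq : 7 ≤ Nat.card F) (h2 : (2 : F) ≠ 0) :
    ∃ α β : F, α ^ 2 + β ^ 2 = 1 ∧ α ≠ 0 ∧ β ≠ 0 := by
  classical
  have := Fintype.ofFinite F
  obtain ⟨m, hm⟩ : ∃ m : F, m ^ 5 ≠ m := by
    by_contra h
    push Not at h
    have hdeg : ((Polynomial.X ^ 5 - Polynomial.X : Polynomial F)).natDegree = 5 := by
      compute_degree!
    have hne : (Polynomial.X ^ 5 - Polynomial.X : Polynomial F) ≠ 0 := fun e => by
      rw [e] at hdeg; simp at hdeg
    have hle := Polynomial.card_le_degree_of_subset_roots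
      (p := (Polynomial.X ^ 5 - Polynomial.X : Polynomial F)) (Z := Finset.univ) (fun x _ => by
        rw [Polynomial.mem_roots hne, Polynomial.IsRoot]; simp [h x])
    rw [hdeg, Finset.card_univ, ← Nat.card_eq_fintype_card] at hle
    omega
  have hd : 1 + m ^ 2 ≠ 0 := fun h => hm (by linear_combination (m ^ 3 - m) * h)
  refine ⟨(1 - m ^ 2) / (1 + m ^ 2), 2 * m / (1 + m ^ 2), by field_simp; ring,
    div_ne_zero (fun h => hm (by linear_combination -(m ^ 3 + m) * h)) hd,
    div_ne_zero (mul_ne_zero h2 (fun h => hm (by rw [h]; simp))) hd⟩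

/-- A dihedral subgroup. -/
theorem not_binary_of_dihedral [Finite F] {H R : Subgroup G} (h2 : (2 : F) ≠ 0) (hq : 7 ≤ Nat.card F)
    (hsemi : SemiSub H) (hcomm : ∀ a ∈ R, ∀ b ∈ R, a * b = b * a) {s : G} (hsH : s ∈ H) (hs1 : s ≠ 1)
    (hs2 : s * s = 1) (hout : ∀ g ∈ H, g ∉ R → g * g = 1 ∧ s * g ∈ R)
    (hinv : ∀ r ∈ R, s * r * s⁻¹ = r⁻¹) : ¬ Binary H := by
  intro hB
  obtain ⟨S, rfl⟩ := π_surjective s
  have hS0 : tr S = 0 := tr_zero_of_sq_one h2 hs1 hs2
  have hS2 : S.1 * S.1 = -1 := by rw [sq_eq, hS0, zero_smul, zero_sub]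
  obtain ⟨α, β, hαβ, hα, hβ⟩ := exists_circle hq h2
  obtain ⟨C, hC⟩ : ∃ C : SL(2, F), C.1 = α • (1 : Matrix (Fin 2) (Fin 2) F) + β • S.1 := by
    refine ⟨⟨α • (1 : Matrix (Fin 2) (Fin 2) F) + β • S.1, ?_⟩, rfl⟩
    have hdS := det_eq S
    rw [tr] at hS0
    rw [Matrix.det_fin_two]
    simp
    grind
  have hCS : C * S = S * C := by
    refine Subtype.ext ?_
    rw [coe_mul', coe_mul', hC]
    simp [add_mul, mul_add]
  have hSc : S ∉ Subgroup.center SL(2, F) := fun hc => hs1 ((QuotientGroup.eq_one_iff S).2 hc)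
  have hCc : C ∉ Subgroup.center SL(2, F) := fun hc => by
    refine hSc ?_
    rw [mem_center_iff_entries, hC] at hc
    simp at hc
    rw [mem_center_iff_entries]
    grind
  have htC : tr C = 2 * α := by rw [tr] at hS0 ⊢; rw [hC]; simp; linear_combination β * hS0
  set K := fixSub H (π S) with hK
  have hKH : K ≤ H := le_of_mem hsH
  have hsK : π S ∈ K := self_mem _ _
  have hcK : ∀ g ∈ K, π C * g * (π C)⁻¹ ∈ K := fun g hg =>
    conj_mem_of_commute _ (by rw [← map_mul, ← map_mul, hCS]) hg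
  have hsq : ∀ g ∈ H, g * π S = π S * g → g * g = 1 := by
    intro g hg e
    by_cases hgR : g ∈ R
    · have h := hinv g hgR
      rw [← e, mul_inv_cancel_right] at h
      rw [← mul_inv_cancel g, ← h]
    · exact (hout g hg hgR).1
  have hstrict : ∀ g ∈ K, g * π S = π S * g := by
    intro g hg
    by_contra hne
    obtain ⟨ρ, hρ, hρR, hρne⟩ : ∃ ρ ∈ K, ρ ∈ R ∧ ρ * π S ≠ π S * ρ := by
      by_cases hgR : g ∈ R
      · exact ⟨g, hg, hgR, hne⟩
      · refine ⟨π S * g, mul_mem hsK hg, (hout g (hKH hg) hgR).2, fun e => hne ?_⟩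
        rw [mul_assoc] at e
        exact mul_left_cancel e
    have hρ2 : ρ * ρ ≠ 1 := fun e => hρne (by
      have h := hinv ρ hρR
      rw [inv_eq_of_mul_eq_one_right e, mul_inv_eq_iff_eq_mul] at h
      exact h.symm)
    obtain ⟨X, rfl⟩ := π_surjective ρ
    have hX1 : π X ≠ 1 := fun e => hρ2 (by rw [e, mul_one])
    have hX0 : tr X ≠ 0 := fun e => hρ2 (sq_one_of_tr_zero h2 e)
    have h4 := hsemi X (hKH hρ) hX1
    have hX' : π (C * X * C⁻¹) ∈ R := by
      by_contra hnR
      have hm := hcK _ hρ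
      rw [← map_inv, ← map_mul, ← map_mul] at hm
      have h1 := (hout _ (hKH hm) hnR).1
      rw [map_mul, map_mul, map_inv,
        show π C * π X * (π C)⁻¹ * (π C * π X * (π C)⁻¹) = π C * (π X * π X) * (π C)⁻¹ by group,
        conj_eq_one_iff] at h1
      exact hρ2 h1
    have hcom : C * X * C⁻¹ * X = X * (C * X * C⁻¹) :=
      strict_commute (hcomm _ hX' _ hρR) (Or.inr hX0)
    have hSXS : S * X * S⁻¹ = X⁻¹ := by
      have h := hinv _ hρR
      rw [← map_inv, ← map_inv, ← map_mul, ← map_mul] at h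
      rcases (π_eq_iff _ _).1 h with e | e
      · exact e
      · refine absurd (two_ne_of_neg h2 ?_) hX0
        calc tr X = tr (S * X * S⁻¹) := (tr_conj S X).symm
          _ = -tr X := by rw [e, tr_neg, tr_inv]
    have hfinal : ∀ A : SL(2, F), A ∉ Subgroup.center SL(2, F) → A * S = S * A → A * X = X * A →
        False := fun A hA h1 h3 => hρne (by
      rw [← map_mul, ← map_mul, commute_trans hA h3.symm h1.symm])
    rcases eq_or_inv_of_commute hcom (tr_conj C X) h4 with e | e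
    · exact hfinal C hCc hCS (mul_inv_eq_iff_eq_mul.1 e)
    · refine hfinal (S⁻¹ * C) (fun hc => ?_) ?_ ?_
      · rcases (mem_center_iff _).1 hc with e' | e'
        · rw [inv_mul_eq_one] at e'
          rw [← e', hS0] at htC
          exact mul_ne_zero h2 hα htC.symm
        · rw [inv_mul_eq_iff_eq_mul, mul_neg, mul_one] at e'
          rw [e', tr_neg, hS0, neg_zero] at htC
          exact mul_ne_zero h2 hα htC.symm
      · calc S⁻¹ * C * S = S⁻¹ * (C * S) := mul_assoc ..
          _ = C := by rw [hCS, inv_mul_cancel_left]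
          _ = S * (S⁻¹ * C) := by group
      · calc S⁻¹ * C * X = S⁻¹ * (C * X * C⁻¹) * C := by group
          _ = S⁻¹ * (S * X * S⁻¹) * C := by rw [e, hSXS]
          _ = X * (S⁻¹ * C) := by group
  by_cases hgood : Good H S
  · refine not_binary_of_good (hasFix_of_mem hsH) hgood ?_ (fun h => absurd h h2) hB
    rw [hS0, show (4 : F) = 2 * 2 by norm_num]
    exact fun h => mul_ne_zero h2 h2 (by linear_combination -h)
  rw [Good] at hgood
  push Not at hgood
  obtain ⟨Z, hZ, hZne⟩ := hgood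
  have hZS : Z * S = -(S * Z) := (commute_or_anti (hstrict _ hZ)).resolve_left hZne
  set Y := C * Z with hY
  have hYS : Y * S = -(S * Y) := by
    rw [hY, mul_assoc, hZS, mul_neg, ← mul_assoc, hCS, mul_assoc]
  have hYK : π Y ∉ K := by
    intro h
    have hCK : π C ∈ K := by
      have := mul_mem h (inv_mem hZ)
      rwa [hY, map_mul, mul_inv_cancel_right] at this
    have h1 : π C * π C = 1 := hsq _ (hKH hCK) (hstrict _ hCK)
    by_cases hC1 : π C = 1
    · exact hCc ((QuotientGroup.eq_one_iff C).1 hC1)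
    · exact mul_ne_zero h2 hα (htC ▸ tr_zero_of_sq_one h2 hC1 h1)
  clear_value Y
  have hY0 : tr Y = 0 := by
    refine two_ne_of_neg h2 ?_
    have e : S * Y * S⁻¹ = -Y := by rw [← neg_eq_iff_eq_neg.2 hYS, neg_mul, mul_inv_cancel_right]
    calc tr Y = tr (S * Y * S⁻¹) := (tr_conj S Y).symm
      _ = -tr Y := by rw [e, tr_neg]
  obtain ⟨M, hMS, hMY⟩ : ∃ M : SL(2, F), M * S = Y * M ∧ M * Y = S * Y * M := by
    have hdS := det_eq S
    have hdY := det_eq Y
    have e00 := congrArg (fun A : SL(2, F) => A.1 0 0) hYS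
    simp only [mul_apply2, coe_neg', Matrix.neg_apply] at e00
    rw [tr] at hS0 hY0
    have one : ∀ A : SL(2, F), A.1 0 0 + A.1 1 1 = 0 → (1 + A.1).det = 2 := by
      intro A h0
      have hd := det_eq A
      rw [Matrix.det_fin_two]
      simp
      linear_combination hd + h0
    have hdet : ((2 : F)⁻¹ • (1 + S.1 + Y.1 + S.1 * Y.1)).det = 1 := by
      rw [show 1 + S.1 + Y.1 + S.1 * Y.1 = (1 + S.1) * (1 + Y.1) by noncomm_ring,
        Matrix.det_smul, Matrix.det_mul, one S hS0, one Y hY0, Fintype.card_fin]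
      field_simp
    obtain ⟨M, hM⟩ : ∃ M : SL(2, F), M.1 = (2 : F)⁻¹ • (1 + S.1 + Y.1 + S.1 * Y.1) := ⟨⟨_, hdet⟩, rfl⟩
    refine ⟨M, ?_, ?_⟩ <;> apply ext2 <;> simp only [mul_apply2, hM] <;>
      simp [Matrix.mul_apply, Fin.sum_univ_two] <;> field_simp <;> grind
  have hc1 : π M * π S * (π M)⁻¹ = π Y := by rw [← map_mul, hMS, map_mul, mul_inv_cancel_right]
  have hc2 : (π M)⁻¹ * π (S * Y) * π M = π Y := by
    rw [mul_assoc, ← map_mul, ← hMY, map_mul, inv_mul_cancel_left]
  have hc3 : (π M)⁻¹ * π S * π M = π (S * Y) := by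
    have e : S * M = M * (S * Y) := by
      rw [← mul_assoc, hMS, mul_assoc, hMY, ← mul_assoc, ← mul_assoc, hYS, neg_mul, neg_mul,
        mul_assoc S Y Y, show Y * Y = -1 from Subtype.ext (by
          rw [coe_mul', sq_eq, hY0, zero_smul, zero_sub, coe_neg', coe_one']),
        mul_neg, neg_mul, neg_neg, mul_one]
    rw [mul_assoc, ← map_mul, e, map_mul, inv_mul_cancel_left]
  obtain ⟨g, h1, h3, h5⟩ := exists_of_binary hB (⟨1, by simpa using hsH⟩ : ∃ b, b⁻¹ * π S * b ∈ H)
    (y := π Y)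
  have hback : ∀ h, h ∈ fixSub H (π Y) → (π M)⁻¹ * h * π M ∈ K := fun h hh => by
    have := conj_mem (π M)⁻¹ hh
    rwa [← hc1, inv_inv, show (π M)⁻¹ * (π M * π S * (π M)⁻¹) * π M = π S by group] at this
  have hSYK : π (S * Y) ∉ K := fun h => hYK (by
    have := mul_mem (inv_mem hsK) h
    rwa [map_mul, inv_mul_cancel_left] at this)
  by_cases hg1 : g = 1
  · have he : (π S)⁻¹ * π Y = π (S * Y) := by rw [map_mul, inv_eq_of_mul_eq_one_right hs2]
    rw [hg1, inv_one, one_mul, he] at h5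
    have h6 := conj_mem (π M)⁻¹ h5
    rw [inv_inv, hc2, hc3] at h6
    have h7 := hback _ h6
    rw [hc2] at h7
    exact hYK h7
  obtain ⟨A, rfl⟩ := π_surjective g
  have hgy : π A * π Y = π Y * π A := by
    have h := hstrict _ (hback _ h3)
    calc π A * π Y = π M * ((π M)⁻¹ * π A * π M * π S) * (π M)⁻¹ := by rw [← hc1]; group
      _ = π Y * π A := by rw [h, ← hc1]; group
  have key : ∀ {B P : SL(2, F)}, P ∉ Subgroup.center SL(2, F) → tr P = 0 → B * P = P * B →
      ∀ {Q : SL(2, F)}, Q * P = -(P * Q) → B * Q = -(Q * B) → π B = π P := by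
    intro B P hP hP0 hBP Q hQP hBQ
    obtain ⟨a, b, hab⟩ := exists_eq_of_commute hP (congrArg Subtype.val hBP)
    have h1 := congrArg Subtype.val hBQ
    have h3 := congrArg Subtype.val hQP
    rw [coe_neg', coe_mul', coe_mul', hab] at h1
    rw [coe_neg', coe_mul', coe_mul'] at h3
    simp only [add_mul, mul_add, smul_mul_assoc, mul_smul_comm, one_mul, mul_one] at h1
    rw [h3, smul_neg] at h1
    have ha : (2 * a) • Q.1 = 0 := by
      rw [two_mul, add_smul]
      have := eq_neg_iff_add_eq_zero.1 h1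
      rw [← this]; abel
    have ha0 : a = 0 := by
      by_contra ha0
      have := (smul_eq_zero.1 ha).resolve_left (mul_ne_zero h2 ha0)
      have hdQ := det_eq Q
      rw [this] at hdQ
      simp at hdQ
    have hb : b * b = 1 := by
      have hdB := det_eq B
      have hdP := det_eq P
      rw [hab, ha0] at hdB
      simp at hdB
      linear_combination hdB - b * b * hdP
    rcases mul_self_eq_one_iff.1 hb with e | e
    · exact (π_eq_iff B P).2 (Or.inl (Subtype.ext (by rw [hab, ha0, e]; simp)))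
    · exact (π_eq_iff B P).2 (Or.inr (Subtype.ext (by rw [hab, ha0, e, coe_neg']; simp)))
  have hYc : Y ∉ Subgroup.center SL(2, F) := fun hc => hYK (by
    have h' : π Y = 1 := (QuotientGroup.eq_one_iff Y).2 hc
    rw [h']; exact one_mem _)
  have hSY0 : tr (S * Y) = 0 := by
    refine two_ne_of_neg h2 ?_
    have e : S * (S * Y) * S⁻¹ = -(S * Y) := by
      rw [show S * (S * Y) * S⁻¹ = S * (-(Y * S)) * S⁻¹ by rw [hYS, neg_neg], mul_neg, neg_mul,
        ← mul_assoc, mul_inv_cancel_right]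
    calc tr (S * Y) = tr (S * (S * Y) * S⁻¹) := (tr_conj S _).symm
      _ = -tr (S * Y) := by rw [e, tr_neg]
  have hSYc : S * Y ∉ Subgroup.center SL(2, F) := fun hc => hSYK (by
    have h' : π (S * Y) = 1 := (QuotientGroup.eq_one_iff (S * Y)).2 hc
    rw [h']; exact one_mem _)
  rcases commute_or_anti (hstrict _ h1) with eS | eS <;> rcases commute_or_anti hgy with eY | eY
  · refine hZne ?_
    have hAc : A ∉ Subgroup.center SL(2, F) := fun hc => hg1 ((QuotientGroup.eq_one_iff A).2 hc)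
    have hcom := commute_trans hAc eS.symm eY.symm
    rw [← hcom] at hYS
    exfalso
    have : Y = -Y := by
      have h' := congrArg (fun z => S⁻¹ * z) hYS
      simpa [mul_neg, inv_mul_cancel_left] using h' 
    exact hYc ((mem_center_iff_entries Y).2 (by
      have k : ∀ i j, Y.1 i j = 0 := fun i j => two_ne_of_neg h2 (by
        simpa using congrArg (fun z : SL(2, F) => z.1 i j) this)
      exact ⟨k 0 1, k 1 0, by rw [k, k]⟩))
  · have e := key hSc (by rw [hS0]) eS hYS eY
    rw [e] at h3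
    have := hback _ h3
    rw [hc3] at this
    exact hSYK this
  · have hSY' : S * Y = -(Y * S) := by rw [hYS, neg_neg]
    have e := key hYc hY0 eY hSY' eS
    rw [e] at h1
    exact hYK h1
  · have h1' : A * (S * Y) = S * Y * A := by
      rw [← mul_assoc, eS, neg_mul, mul_assoc, eY, mul_neg, neg_neg, mul_assoc]
    have hS' : S * (S * Y) = -(S * Y * S) := by rw [mul_assoc S Y S, hYS, mul_neg, neg_neg]
    have e := key hSYc hSY0 h1' hS' eS
    rw [e] at h1
    exact hSYK h1

end Cfsg.Agent.PSL2Binary34
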