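import Cfsg.Agent.Lib.PSL2BinaryDihedral34
import Cfsg.Agent.Lib.DicksonDihedralMax

/-!
Coset actions of `SL(2,2ⁿ)` on subgroups of even order.
-/

set_option autoImplicit false

namespace Cfsg.Agent.PSL2Binary34

open scoped MatrixGroups
open Matrix Cfsg.Agent.PSL2Elements Cfsg.Agent.PSL2Proj52
open Cfsg.Agent.SuzukiBinary Cfsg.Agent.BinaryFix34

variable {F : Type*} [Field F]

set_option quotPrecheck false
local notation "G" => ProjectiveSpecialLinearGroup (Fin 2) F

theorem tr_zero_of_inverts (h2 : (2 : F) = 0) {X R : SL(2, F)} (hR : tr R ≠ 0)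
    (h : X * R * X⁻¹ = R⁻¹) : X ∉ Subgroup.center SL(2, F) ∧ tr X = 0 ∧ X * R ≠ R * X := by
  have hne : X * R ≠ R * X := by
    intro e
    rw [e, mul_inv_cancel_right] at h
    have hsq : R.1 * R.1 = 1 := by
      rw [← coe_mul', show R * R = 1 by nth_rewrite 2 [h]; rw [mul_inv_cancel], coe_one']
    rw [sq_eq] at hsq
    have e01 := congrFun (congrFun hsq 0) 1
    have e00 := congrFun (congrFun hsq 0) 0
    simp at e01 e00
    rcases e01 with e' | e'
    · exact hR e'
    · rcases mul_eq_zero.1 (show tr R * R.1 0 0 = 0 by linear_combination e00 + h2) with e'' | e''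
      · exact hR e''
      · have hd := det_eq R
        rw [e', e''] at hd
        simp at hd
  refine ⟨fun hc => hne ((Subgroup.mem_center_iff.1 hc R).symm), ?_, hne⟩
  have hcomm : X * X * R = R * (X * X) := by
    have hi : X * R⁻¹ * X⁻¹ = R := by
      rw [show X * R⁻¹ * X⁻¹ = (X * R * X⁻¹)⁻¹ by group, h, inv_inv]
    calc X * X * R = X * (X * R * X⁻¹) * X := by group
      _ = X * R⁻¹ * X⁻¹ * (X * X) := by rw [h]; group
      _ = R * (X * X) := by rw [hi]
  by_contra hX
  refine hne (Subtype.ext ?_)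
  have h1 := congrArg Subtype.val hcomm
  rw [coe_mul', coe_mul', coe_mul', coe_mul', sq_eq, sub_mul, mul_sub, one_mul, mul_one,
    smul_mul_assoc, mul_smul_comm, sub_left_inj] at h1
  rw [coe_mul', coe_mul']
  exact smul_right_injective _ hX h1

theorem tr_zero_of_sq (h2 : (2 : F) = 0) {Q : SL(2, F)} (h : Q * Q = 1) : tr Q = 0 := by
  by_contra ht
  have h' : Q.1 * Q.1 = 1 := congrArg Subtype.val h
  rw [sq_eq] at h'
  have e01 := congrFun (congrFun h' 0) 1
  have e00 := congrFun (congrFun h' 0) 0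
  have e10 := congrFun (congrFun h' 1) 0
  simp at e01 e00 e10
  have a0 : Q.1 0 0 = 0 := by
    rcases mul_eq_zero.1 (show tr Q * Q.1 0 0 = 0 by linear_combination e00 + h2) with e | e
    exacts [absurd e ht, e]
  have hd := det_eq Q
  rw [a0, e01.resolve_left ht] at hd
  simp at hd

theorem not_central_of_tr (h2 : (2 : F) = 0) {A : SL(2, F)} (h : tr A ≠ 0) :
    A ∉ Subgroup.center SL(2, F) ∧ tr A ^ 2 ≠ 4 := by
  have h4 : tr A ^ 2 ≠ 4 := by
    rw [show (4 : F) = 2 * 2 by norm_num, h2, mul_zero]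
    exact pow_ne_zero 2 h
  exact ⟨fun hc => h4 (tr_sq_eq_four_of_mem_center hc), h4⟩

theorem exists_sqrt [Finite F] (h2 : (2 : F) = 0) (x : F) : ∃ y : F, y ^ 2 = x := by
  have : CharP F 2 := CharTwo.of_one_ne_zero_of_two_eq_zero one_ne_zero h2
  obtain ⟨y, hy⟩ := FiniteField.isSquare_of_char_two (ringChar.eq F 2 ▸ rfl) x
  exact ⟨y, by rw [hy, pow_two]⟩

/-- All involutions are conjugate. -/
theorem isConj_u_of_tr_zero [Finite F] (h2 : (2 : F) = 0) {X : SL(2, F)}
    (hX : X ∉ Subgroup.center SL(2, F)) (h : tr X = 0) {r : F} (hr : r ≠ 0) : IsConj (u r) X := by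
  obtain ⟨x, hx⟩ := isConj_u_of_tr_two (A := X) (by rw [h, h2])
  have hx0 : x ≠ 0 := by
    rintro rfl
    rw [u_zero] at hx
    obtain ⟨c, hc⟩ := isConj_iff.1 hx
    rw [conj_eq_one_iff] at hc
    exact hX (hc ▸ one_mem _)
  obtain ⟨y, hy⟩ := exists_sqrt h2 (x / r)
  have hy0 : y ≠ 0 := by rintro rfl; simp [eq_comm, hx0, hr] at hy
  refine IsConj.trans ?_ hx.symm
  have := u_conj_square (Units.mk0 y hy0) r
  rwa [Units.val_mk0, hy, div_mul_cancel₀ _ hr] at this

/-- An involution and a semisimple element. -/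
theorem not_binary_even_mixed [Finite F] (hq : 4 ≤ Nat.card F) (h2 : (2 : F) = 0) {H : Subgroup G}
    (hH : H ≠ ⊤) (hU : ∀ b : G, ∃ e : F, b⁻¹ * π (u e) * b ∉ H) {r : F} (hr : r ≠ 0)
    (hrH : π (u r) ∈ H) {R : SL(2, F)} (hRH : π R ∈ H) (hR : tr R ≠ 0) : ¬ Binary H := by
  intro hB
  have : Fact (Nat.Prime 2) := ⟨Nat.prime_two⟩
  have : CharP F 2 := CharTwo.of_one_ne_zero_of_two_eq_zero one_ne_zero h2
  have hinj := π_injective_of_even h2
  have hinvol : ∀ X : SL(2, F), X ∉ Subgroup.center SL(2, F) → tr X = 0 →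
      HasFix H X ∧ Good H X := by
    intro X hX h
    have hc := isConj_u_of_tr_zero h2 hX h hr
    exact ⟨(hasFix_of_mem hrH).of_isConj hc, (good_u hq hH hr (hasFix_of_mem hrH) hU).of_isConj hc⟩
  have hinvH : ∀ X : SL(2, F), X * R * X⁻¹ = R⁻¹ → π X ∈ H := by
    intro X hX
    obtain ⟨hXc, hX0, -⟩ := tr_zero_of_inverts h2 hR hX
    have hXR : X * R * R * (X * R)⁻¹ = R⁻¹ := by
      rw [show X * R * R * (X * R)⁻¹ = X * R * X⁻¹ by group]; exact hX
    obtain ⟨hYc, hY0, hYne⟩ := tr_zero_of_inverts h2 hR hXR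
    have hne : X * (X * R) ≠ X * R * X := fun e =>
      (tr_zero_of_inverts h2 hR hX).2.2 (mul_left_cancel (by rw [← mul_assoc, mul_assoc X R X] at e; rwa [mul_assoc] at e))
    obtain ⟨g, h1, h3, h5⟩ := exists_of_binary hB (hinvol X hXc hX0).1 (y := π (X * R))
    obtain ⟨A, rfl⟩ := π_surjective g
    by_cases hA : A ∈ Subgroup.center SL(2, F)
    · have h1' : π A = 1 := (QuotientGroup.eq_one_iff A).2 hA
      rw [h1', inv_one, one_mul, map_mul, inv_mul_cancel_left] at h5
      exact le_of_mem hRH h5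
    · exact absurd (commute_trans hA ((hinvol X hXc hX0).2 A h1).symm
        ((hinvol _ hYc hY0).2 A h3).symm) hne
  obtain ⟨hRc, hR4⟩ := not_central_of_tr h2 hR
  obtain ⟨W, hW⟩ := isConj_iff.1 (isConj_inv hR4)
  have hWH := hinvH W hW
  have hTH : ∀ C : SL(2, F), C * R = R * C → π C ∈ H := by
    intro C hC
    have := hinvH (W * C) (by
      rw [show W * C * R * (W * C)⁻¹ = W * (C * R * C⁻¹) * W⁻¹ by group, hC, mul_inv_cancel_right, hW])
    rw [map_mul] at this
    exact (mul_mem_cancel_left hWH).1 this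
  obtain ⟨hcyc, hcard⟩ := centralizer_semisimple hR4
  obtain ⟨⟨C, hCR⟩, hCgen⟩ := IsCyclic.exists_generator (α := Subgroup.centralizer ({R} : Set SL(2, F)))
  have hCR' : C * R = R * C := Subgroup.mem_centralizer_singleton_iff.1 hCR
  have hgen : ∀ D : SL(2, F), D * R = R * D → ∃ i : ℤ, C ^ i = D := by
    intro D hD
    obtain ⟨i, hi⟩ := hCgen ⟨D, Subgroup.mem_centralizer_singleton_iff.2 hD⟩
    exact ⟨i, by simpa using congrArg Subtype.val hi⟩
  set N := orderOf C with hN
  have hNq : N = Nat.card F - 1 ∨ N = Nat.card F + 1 := by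
    rw [hN, show orderOf C = orderOf (⟨C, hCR⟩ : Subgroup.centralizer ({R} : Set SL(2, F))) from
      Subgroup.orderOf_coe ⟨C, hCR⟩, orderOf_eq_card_of_forall_mem_zpowers hCgen]
    exact hcard.imp (fun h => h.2) (fun h => h.2)
  have heven : Even (Nat.card F) := by
    by_contra h
    exact (two_ne_of_odd (Nat.not_even_iff_odd.1 h)) h2
  have hdd : Nat.gcd 2 (Nat.card F - 1) = 1 := by
    rcases gcd_eq (F := F) with ⟨h, -⟩ | ⟨-, h⟩
    · exact absurd heven (Nat.not_even_iff_odd.2 h)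
    · exact h
  have hg0 : orderOf (π C) = N := by rw [orderOf_injective π hinj]
  have hWC : W * C * W⁻¹ = C⁻¹ := by
    obtain ⟨i, hi⟩ := hgen R rfl
    have h1 : W * C * W⁻¹ * R = R * (W * C * W⁻¹) := by
      have h1 : Commute (W * C * W⁻¹) (W * R * W⁻¹) := by
        show _ = _
        calc W * C * W⁻¹ * (W * R * W⁻¹) = W * (C * R) * W⁻¹ := by group
          _ = W * R * W⁻¹ * (W * C * W⁻¹) := by rw [hCR']; group
      rw [hW] at h1
      exact (Commute.inv_right_iff.1 h1).eq
    have hC4 : tr C ≠ 0 := by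
      intro h0
      have hd2 : orderOf C ∣ 2 := orderOf_dvd_of_pow_eq_one (by
        rw [pow_two]
        refine Subtype.ext ?_
        rw [coe_mul', sq_eq, h0, zero_smul, zero_sub, ← coe_one', ← coe_neg', neg_one_eq_one h2])
      rw [← hN] at hd2
      have := Nat.le_of_dvd two_pos hd2
      omega
    rcases eq_or_inv_of_commute (commute_trans hRc h1 hCR') (tr_conj W C) (not_central_of_tr h2 hC4).2
      with e | e
    · exfalso
      have hCc : C ∉ Subgroup.center SL(2, F) := fun hc => by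
        rcases (mem_center_iff C).1 hc with e' | e'
        · rw [e', orderOf_one] at hN; omega
        · rw [e', neg_one_eq_one h2, orderOf_one] at hN; omega
      exact (tr_zero_of_inverts h2 hR hW).2.2 (commute_trans hCc (mul_inv_eq_iff_eq_mul.1 e) hCR'.symm)
    · exact e
  have hgh : π W * π C * (π W)⁻¹ = (π C)⁻¹ := by rw [← map_inv, ← map_inv, ← map_mul, ← map_mul, hWC]
  have hN3 : 3 ≤ N := by rcases hNq with h | h <;> omega
  have hHcard : Nat.card H = 2 * N := by
    refine DicksonDihedralMax.card_eq_of_le 2 (by omega) hg0 hgh hN3 ?_ (hTH C hCR') hWH hH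
    obtain ⟨j, hj⟩ := heven
    rcases hNq with h | h
    · refine Or.inr ⟨by rw [h]; show _ = _ / Nat.gcd 2 _; rw [hdd, Nat.div_one], ?_⟩
      simp only [Finset.mem_insert, Finset.mem_singleton, not_or]
      omega
    · exact Or.inl ⟨by rw [h]; show _ = _ / Nat.gcd 2 _; rw [hdd, Nat.div_one], by omega, by omega⟩
  have hdich : ∀ Q : SL(2, F), π Q ∈ H → Q * R = R * Q ∨ Q * R * Q⁻¹ = R⁻¹ := by
    intro Q hQ
    let Z := (Subgroup.zpowers (π C)).subgroupOf H
    have hZi : Z.index = 2 := by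
      have h1 : Nat.card Z = N := by
        rw [Nat.card_congr (Subgroup.subgroupOfEquivOfLe (Subgroup.zpowers_le.2 (hTH C hCR'))).toEquiv,
          Nat.card_zpowers, hg0]
      have := Z.card_mul_index
      rw [h1, hHcard, mul_comm 2 N] at this
      exact Nat.eq_of_mul_eq_mul_left (by omega) this
    have hback : ∀ A : SL(2, F), π A ∈ Subgroup.zpowers (π C) → A * R = R * A := by
      rintro A ⟨i, hi⟩
      simp only at hi
      rw [← map_zpow] at hi
      rw [← hinj hi]
      exact ((show Commute C R from hCR').zpow_left i).eq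
    by_cases hQZ : π Q ∈ Subgroup.zpowers (π C)
    · exact Or.inl (hback Q hQZ)
    · right
      have hWZ : π W ∉ Subgroup.zpowers (π C) := fun h => (tr_zero_of_inverts h2 hR hW).2.2 (hback W h)
      have h := (Subgroup.mul_mem_iff_of_index_two hZi (a := (⟨π W, hWH⟩ : H)⁻¹) (b := ⟨π Q, hQ⟩)).2
        ⟨fun h => absurd (Subgroup.mem_subgroupOf.1 (inv_mem_iff.1 h)) hWZ,
          fun h => absurd (Subgroup.mem_subgroupOf.1 h) hQZ⟩
      have h' : π (W⁻¹ * Q) ∈ Subgroup.zpowers (π C) := by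
        rw [map_mul, map_inv]; exact Subgroup.mem_subgroupOf.1 h
      have hc := hback _ h'
      calc Q * R * Q⁻¹ = W * (W⁻¹ * Q * R) * (W⁻¹ * Q)⁻¹ * W⁻¹ := by group
        _ = W * R * W⁻¹ := by rw [hc]; group
        _ = R⁻¹ := hW
  have hrefl : ∀ Q : SL(2, F), π Q ∈ H → Q ≠ 1 → tr Q = 0 → Q * R * Q⁻¹ = R⁻¹ := by
    intro Q hQ hQ1 hQ0
    refine (hdich Q hQ).resolve_left fun hc => hQ1 ?_
    obtain ⟨a, b, hab⟩ := exists_eq_of_commute hRc (congrArg Subtype.val hc)
    have hb : b = 0 := by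
      rw [tr, hab] at hQ0
      simp at hQ0
      rw [tr] at hR
      exact mul_right_cancel₀ hR (by linear_combination hQ0 - a * h2)
    have hmem : Q ∈ Subgroup.center SL(2, F) := by
      rw [mem_center_iff_entries, hab, hb]
      simp
    rcases (mem_center_iff Q).1 hmem with e | e
    · exact e
    · rw [e, neg_one_eq_one h2]
  have hrot : ∀ Q : SL(2, F), π Q ∈ H → tr Q ≠ 0 → Q * R = R * Q := fun Q hQ hQ0 =>
    (hdich Q hQ).resolve_right fun h => hQ0 (tr_zero_of_inverts h2 hR h).2.1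
  set U := u r with hUdef
  have hUc : U ∉ Subgroup.center SL(2, F) := fun hc => by
    rw [mem_center_iff_entries] at hc
    exact hr (by simpa [hUdef, u, mk2] using hc.1)
  have hU1 : U ≠ 1 := fun e => hUc (e ▸ one_mem _)
  have hU0 : tr U = 0 := by rw [hUdef, tr_u, h2]
  -- an involution inverts the rotations of each conjugate of `H` containing it
  have hinvert : ∀ (Q Y : SL(2, F)) (D : SL(2, F)), D * Q * D⁻¹ = Y → π Q ∈ H → tr Q ≠ 0 →
      π U ∈ fixSub H (π Y) → U * Y * U⁻¹ = Y⁻¹ := by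
    intro Q Y D hD hQ hQ0 hUY
    have hm := hUY (π D) (by
      rw [← hD, map_mul, map_mul, map_inv,
        show (π D)⁻¹ * (π D * π Q * (π D)⁻¹) * π D = π Q by group]; exact hQ)
    rw [← map_inv, ← map_mul, ← map_mul] at hm
    have hne1 : D⁻¹ * U * D ≠ 1 := fun e => hU1 (by
      calc U = D * (D⁻¹ * U * D) * D⁻¹ := by group
        _ = 1 := by rw [e]; simp)
    have hinvR := hrefl _ hm hne1 (by
      rw [show D⁻¹ * U * D = D⁻¹ * U * D⁻¹⁻¹ by rw [inv_inv], tr_conj, hU0])
    -- hence it inverts every rotation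
    set V := D⁻¹ * U * D with hV
    have hVQ : V * Q * V⁻¹ = Q⁻¹ := by
      rcases hdich (V * Q) (by rw [map_mul]; exact mul_mem hm hQ) with h | h
      · exfalso
        refine (tr_zero_of_inverts h2 hR hinvR).2.2 ?_
        calc V * R = V * (R * Q) * Q⁻¹ := by group
          _ = V * Q * R * Q⁻¹ := by rw [← hrot Q hQ hQ0]; group
          _ = R * V := by rw [h]; group
      · obtain ⟨-, h0, -⟩ := tr_zero_of_inverts h2 hR h
        have hsq : V * Q * (V * Q) = 1 := by
          refine Subtype.ext ?_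
          rw [coe_mul', sq_eq, h0, zero_smul, zero_sub, ← coe_one', ← coe_neg', neg_one_eq_one h2]
        have hVV : V * V = 1 := by
          refine Subtype.ext ?_
          rw [coe_mul', sq_eq, (tr_zero_of_inverts h2 hR hinvR).2.1, zero_smul, zero_sub, ← coe_one',
            ← coe_neg', neg_one_eq_one h2]
        rw [inv_eq_of_mul_eq_one_right hVV]
        exact eq_inv_of_mul_eq_one_left (by rw [← hsq]; group)
    calc U * Y * U⁻¹ = D * (V * Q * V⁻¹) * D⁻¹ := by rw [← hD, hV]; group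
      _ = Y⁻¹ := by rw [hVQ, ← hD]; group
  -- the triangle
  obtain ⟨Y, Q₁, Q₂, hQ₁, hQ₁0, hQ₁t, hQ₂, hQ₂0, hQ₂t⟩ : ∃ Y Q₁ Q₂ : SL(2, F),
      π Q₁ ∈ H ∧ tr Q₁ ≠ 0 ∧ tr Y = tr Q₁ ∧ π Q₂ ∈ H ∧ tr Q₂ ≠ 0 ∧ tr (U * Y) = tr Q₂ := by
    by_cases hex : ∃ Q : SL(2, F), π Q ∈ H ∧ tr Q ≠ 0 ∧ tr Q ≠ tr R
    · obtain ⟨Q, hQ, hQ0, hQt⟩ := hex
      set c := (tr R + tr Q) / r with hc
      have hc0 : c ≠ 0 := div_ne_zero (fun h => hQt (by linear_combination h - tr R * h2)) hr
      refine ⟨mk2 0 (-1 / c) c (tr R) (by field_simp; ring), R, Q, hRH, hR, ?_, hQ, hQ0, ?_⟩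
      · simp [tr, mk2]
      · have key : r * c + tr R = tr Q := by rw [hc]; field_simp; linear_combination tr R * h2
        rw [← key]
        simp only [hUdef, tr, mul_apply2]
        simp [u, mk2]
    · push Not at hex
      have hR2 : π (R * R) ∈ H := by rw [map_mul]; exact mul_mem hRH hRH
      have htr2 : tr (R * R) = tr R * tr R := by
        rw [tr_eq, tr_eq, coe_mul', sq_eq, Matrix.trace_sub, Matrix.trace_smul, Matrix.trace_one,
          smul_eq_mul, ← tr_eq]
        simp [h2]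
      have h1 : tr R = 1 := mul_left_cancel₀ hR
        ((htr2.symm.trans (hex _ hR2 (htr2 ▸ mul_ne_zero hR hR))).trans (mul_one _).symm)
      obtain ⟨w, hw⟩ : ∃ w : F, w ^ 2 - tr R * w + 1 = 0 := by
        rcases hcard with ⟨h, -⟩ | ⟨-, h⟩
        · exact h
        exfalso
        have htC : tr C = 1 := by
          rw [← h1]
          refine hex C (hTH C hCR') fun h0 => ?_
          have hd2 : orderOf C ∣ 2 := orderOf_dvd_of_pow_eq_one (by
            rw [pow_two]
            refine Subtype.ext ?_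
            rw [coe_mul', sq_eq, h0, zero_smul, zero_sub, ← coe_one', ← coe_neg', neg_one_eq_one h2])
          rw [← hN] at hd2
          have := Nat.le_of_dvd two_pos hd2
          omega
        have hC3 : C ^ 3 = 1 := by
          refine Subtype.ext ?_
          rw [coe_pow', pow_succ, pow_two, sq_eq, sub_mul, one_mul, smul_mul_assoc, sq_eq, htC, one_smul,
            one_smul, sub_sub_cancel_left, coe_one']
          ext i j
          fin_cases i <;> fin_cases j <;> simp <;> linear_combination -h2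
        have hd3 := Nat.le_of_dvd (by norm_num) (orderOf_dvd_of_pow_eq_one hC3)
        rw [← hN] at hd3
        have hN' : N = Nat.card (Subgroup.centralizer ({R} : Set SL(2, F))) := by
          rw [hN, show orderOf C = orderOf (⟨C, hCR⟩ : Subgroup.centralizer ({R} : Set SL(2, F))) from
            Subgroup.orderOf_coe ⟨C, hCR⟩, orderOf_eq_card_of_forall_mem_zpowers hCgen]
        omega
      refine ⟨mk2 w 1 0 (tr R - w) (by linear_combination -hw), R, R, hRH, hR, ?_, hRH, hR, ?_⟩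
      · simp [tr, mk2]
      · simp only [hUdef, tr, mul_apply2]
        simp [u, mk2]
  obtain ⟨D₁, hD₁⟩ := isConj_iff.1 (isConj_of_tr_eq hQ₁t.symm (not_central_of_tr h2 hQ₁0).2)
  obtain ⟨D₂, hD₂⟩ := isConj_iff.1 (isConj_of_tr_eq hQ₂t.symm (not_central_of_tr h2 hQ₂0).2)
  have hUU : U * U = 1 := by
    refine Subtype.ext ?_
    rw [coe_mul', sq_eq, hU0, zero_smul, zero_sub, ← coe_one', ← coe_neg', neg_one_eq_one h2]
  have hUi : U⁻¹ = U := inv_eq_of_mul_eq_one_right hUU
  obtain ⟨g, h1, h3, h5⟩ := exists_of_binary hB (hasFix_of_mem hrH) (y := π Y)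
  obtain ⟨A, rfl⟩ := π_surjective g
  have hAU := good_u hq hH hr (hasFix_of_mem hrH) hU A h1
  have hA : A = 1 ∨ A = U := by
    by_cases hA1 : A = 1
    · exact Or.inl hA1
    right
    obtain ⟨a, b, hab⟩ := exists_eq_of_commute hUc (congrArg Subtype.val hAU)
    have hA0 : tr A = 0 := by
      rw [tr, hab]
      simp [hUdef, u, mk2]
      linear_combination (a + b) * h2
    by_contra hne
    have hP : π (U * A) ∈ H := by rw [map_mul]; exact mul_mem hrH (le_of_mem hrH h1)
    have hi1 := hrefl A (le_of_mem hrH h1) hA1 hA0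
    have hi2 := hrefl U hrH hU1 hU0
    have hP1 : U * A ≠ 1 := fun e => hne (by rw [← hUi]; exact eq_inv_of_mul_eq_one_right e)
    have hP0 : tr (U * A) = 0 := by
      refine tr_zero_of_sq h2 ?_
      calc U * A * (U * A) = U * (A * U) * A := by group
        _ = U * U * (A * A) := by rw [show A * U = U * A from hAU]; group
        _ = 1 := by
          rw [hUU, one_mul]
          refine Subtype.ext ?_
          rw [coe_mul', sq_eq, hA0, zero_smul, zero_sub, ← coe_one', ← coe_neg', neg_one_eq_one h2]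
    refine (tr_zero_of_inverts h2 hR (hrefl _ hP hP1 hP0)).2.2 ?_
    calc U * A * R = U * (A * R * A⁻¹) * U⁻¹ * (U * A) := by group
      _ = U * R⁻¹ * U⁻¹ * (U * A) := by rw [hi1]
      _ = R * (U * A) := by rw [show U * R⁻¹ * U⁻¹ = (U * R * U⁻¹)⁻¹ by group, hi2, inv_inv]
  rcases hA with rfl | rfl
  · rw [map_one, inv_one, one_mul, ← map_inv, ← map_mul, hUi] at h5
    have h := hinvert Q₂ _ D₂ hD₂ hQ₂ hQ₂0 h5
    refine hQ₁0 (hQ₁t ▸ tr_zero_of_sq h2 ?_)
    rw [_root_.mul_inv_rev, hUi, ← mul_assoc U U Y, hUU, one_mul] at h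
    calc Y * Y = Y * U * (U * Y) := by rw [mul_assoc Y U, ← mul_assoc U U Y, hUU, one_mul]
      _ = Y⁻¹ * U * (U * Y) := by rw [h]
      _ = 1 := by rw [mul_assoc, ← mul_assoc U U Y, hUU, one_mul, inv_mul_cancel]
  · have h := hinvert Q₁ _ D₁ hD₁ hQ₁ hQ₁0 h3
    refine hQ₂0 (hQ₂t ▸ tr_zero_of_sq h2 ?_)
    rw [hUi] at h
    calc U * Y * (U * Y) = U * Y * U * Y := by group
      _ = 1 := by rw [h, inv_mul_cancel]

/-! ### Proper subgroups of a root group -/

theorem exists_scalar (V : Type*) [AddCommGroup V] [Finite V] [Finite F] (act : F → V → V)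
    (hact : ∀ v : V, v ≠ 0 → Function.Injective fun a => act a v) (X : Set V) (h0 : (0 : V) ∈ X)
    (h : X.ncard * X.ncard ≤ Nat.card F) : ∃ a : F, ∀ x ∈ X, act a x ∈ X → x = 0 := by
  classical
  by_contra hc
  push Not at hc
  choose f h1 h2 h3 using hc
  have hlt : Nat.card F ≤ (X \ {0}).ncard * X.ncard := by
    rw [← Nat.card_coe_set_eq, ← Nat.card_coe_set_eq, ← Nat.card_prod]
    refine Nat.card_le_card_of_injective
      (fun a => ((⟨f a, h1 a, h3 a⟩ : ↥(X \ {0})), (⟨act a (f a), h2 a⟩ : X))) fun a b e => ?_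
    have e1 : f a = f b := congrArg (fun p : ↥(X \ {0}) × X => (p.1 : V)) e
    have e2 : act a (f a) = act b (f b) := congrArg (fun p : ↥(X \ {0}) × X => (p.2 : V)) e
    rw [← e1] at e2
    exact hact _ (h3 a) e2
  have hlt' : (X \ {0}).ncard < X.ncard := Set.ncard_diff_singleton_lt_of_mem h0
  have hpos : 0 < X.ncard := (Set.ncard_pos X.toFinite).2 ⟨0, h0⟩
  nlinarith

/-- A proper subgroup of a root group. -/
theorem not_binary_even_elem [Finite F] (h2 : (2 : F) = 0) {H : Subgroup G}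
    (hH : ∀ g ∈ H, ∃ e : F, g = π (u e)) (hbot : H ≠ ⊥) (hne : ∃ e : F, π (u e) ∉ H) :
    ¬ Binary H := by
  classical
  have : CharP F 2 := CharTwo.of_one_ne_zero_of_two_eq_zero one_ne_zero h2
  let : Algebra (ZMod 2) F := ZMod.algebra F 2
  have hinj := π_injective_of_even h2
  let E' : AddSubgroup F :=
    { carrier := {e | π (u e) ∈ H}
      zero_mem' := by show π (u (0 : F)) ∈ H; rw [u_zero, map_one]; exact one_mem _
      add_mem' := fun {a b} ha hb => by
        show π (u (a + b)) ∈ H; rw [← u_mul, map_mul]; exact mul_mem ha hb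
      neg_mem' := fun {a} ha => by show π (u (-a)) ∈ H; rw [CharTwo.neg_eq]; exact ha }
  let E : Submodule (ZMod 2) F := AddSubgroup.toZModSubmodule 2 E'
  have hE : ∀ e, e ∈ E ↔ π (u e) ∈ H := fun e => Iff.rfl
  obtain ⟨l₀, hl₀, hl₀0⟩ : ∃ l ∈ E, l ≠ 0 := by
    by_contra hc
    push Not at hc
    refine hbot ((Subgroup.eq_bot_iff_forall _).mpr fun g hg => ?_)
    obtain ⟨e, rfl⟩ := hH g hg
    rw [hc e hg, u_zero, map_one]
  have : Finite (Module.Dual (ZMod 2) F) :=
    Finite.of_injective (fun f => (f : F → ZMod 2)) DFunLike.coe_injective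
  let L := E.dualAnnihilator
  have hLne : ∃ μ ∈ L, μ ≠ 0 := by
    by_contra hc
    push Not at hc
    obtain ⟨e, he⟩ := hne
    have hb : L = ⊥ := (Submodule.eq_bot_iff _).mpr hc
    rw [Submodule.dualAnnihilator_eq_bot_iff] at hb
    exact he ((hE e).mp (hb ▸ Submodule.mem_top))
  have hscale : ∀ c : F, c ≠ 0 → ∃ D : G, ∀ e : F, D * π (u e) * D⁻¹ = π (u (c * e)) ∧
      D⁻¹ * π (u e) * D = π (u (c⁻¹ * e)) := by
    intro c hc
    obtain ⟨y, hy⟩ := exists_sqrt h2 c
    have hy0 : y ≠ 0 := by rintro rfl; exact hc (by simpa using hy.symm)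
    refine ⟨π (d (Units.mk0 y hy0)), fun e => ?_⟩
    have h1 : ∀ e, π (d (Units.mk0 y hy0)) * π (u e) * (π (d (Units.mk0 y hy0)))⁻¹ = π (u (c * e)) := by
      intro e
      rw [← map_inv, ← map_mul, ← map_mul, d_conj_u, Units.val_mk0, hy]
    refine ⟨h1 e, ?_⟩
    have h3 := h1 (c⁻¹ * e)
    rw [mul_inv_cancel_left₀ hc] at h3
    rw [← h3]; group
  have hmul : ∀ e f : F, π (u e) * π (u f) = π (u (e + f)) := fun e f => by rw [← map_mul, u_mul]
  have hinvu : ∀ e : F, (π (u e) : G)⁻¹ = π (u e) := fun e =>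
    inv_eq_of_mul_eq_one_right (by rw [hmul, CharTwo.add_self_eq_zero, u_zero, map_one])
  have hsize : (Nat.card E * Nat.card E ≤ Nat.card F) ∨ (Nat.card L * Nat.card L ≤ Nat.card F) := by
    have h1 := Subspace.finrank_add_finrank_dualAnnihilator_eq E
    rw [Module.natCard_eq_pow_finrank (K := ZMod 2) (V := F),
      Module.natCard_eq_pow_finrank (K := ZMod 2) (V := E),
      Module.natCard_eq_pow_finrank (K := ZMod 2) (V := L), ← pow_add, ← pow_add, Nat.card_zmod,
      Nat.pow_le_pow_iff_right (by norm_num), Nat.pow_le_pow_iff_right (by norm_num)]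
    show _ ∨ Module.finrank (ZMod 2) E.dualAnnihilator + Module.finrank (ZMod 2) E.dualAnnihilator ≤ _
    omega
  rcases hsize with hsm | hsm
  · obtain ⟨a, ha⟩ := exists_scalar F (fun a x => a * x)
      (fun v hv a b h => mul_right_cancel₀ hv h) (E : Set F) (zero_mem E)
      (by rw [← Nat.card_coe_set_eq]; exact hsm)
    have ha0 : a ≠ 0 := fun h => hl₀0 (ha _ hl₀ (by rw [h, zero_mul]; exact zero_mem E))
    have ha1 : a ≠ 1 := fun h => hl₀0 (ha _ hl₀ (by rw [h, one_mul]; exact hl₀))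
    have hc0 : 1 + a ≠ 0 := fun h => ha1 (CharTwo.add_eq_zero.mp h).symm
    obtain ⟨Da, hDa⟩ := hscale a ha0
    obtain ⟨Dc, hDc⟩ := hscale _ hc0
    refine not_binary_of_tri_top ⟨Da, Subgroup.mem_top _, Dc, Subgroup.mem_top _, π (u l₀), hl₀,
      π (u l₀), hl₀, π (u l₀), hl₀, ?_, fun g hg hgu hx => ?_⟩
    · rw [(hDa l₀).1, (hDc l₀).1, hinvu, hmul, add_mul, one_mul]
    obtain ⟨e, rfl⟩ := hH g hg
    rw [(hDa e).2] at hgu
    have he : e = 0 := by
      have h := ha (a⁻¹ * e) hgu (by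
        show a * (a⁻¹ * e) ∈ E
        rw [mul_inv_cancel_left₀ ha0]; exact hg)
      exact (mul_eq_zero.mp h).resolve_left (inv_ne_zero ha0)
    rw [he, u_zero, map_one, inv_one, one_mul, (hDc l₀).2] at hx
    set e' := (1 + a)⁻¹ * l₀ with he'
    have hl : l₀ = e' + a * e' := by
      rw [show e' + a * e' = (1 + a) * e' by ring, he', mul_inv_cancel_left₀ hc0]
    have hae : a * e' ∈ E := by
      have h := E.add_mem hl₀ (show e' ∈ E from hx)
      rwa [show l₀ + e' = a * e' by rw [hl]; grind] at h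
    have := ha e' hx hae
    rw [this, mul_zero, add_zero] at hl
    exact hl₀0 hl
  · obtain ⟨l, hl, hl0⟩ := hLne
    let act : F → Module.Dual (ZMod 2) F → Module.Dual (ZMod 2) F := fun a μ =>
      μ.comp (LinearMap.mulLeft (ZMod 2) a)
    have hact : ∀ a μ x, act a μ x = μ (a * x) := fun a μ x => rfl
    obtain ⟨a, ha⟩ := exists_scalar (Module.Dual (ZMod 2) F) act
      (fun μ hμ a b h => by
        by_contra hab
        refine hμ (LinearMap.ext fun y => ?_)
        have := LinearMap.congr_fun h ((a - b)⁻¹ * y)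
        rw [hact, hact, ← sub_eq_zero, ← map_sub, ← sub_mul,
          mul_inv_cancel_left₀ (sub_ne_zero.2 hab)] at this
        simpa using this)
      (L : Set (Module.Dual (ZMod 2) F)) (zero_mem L) (by rw [← Nat.card_coe_set_eq]; exact hsm)
    have ha0 : a ≠ 0 := fun h => hl0 (ha _ hl (by
      show act a l ∈ L
      rw [show act a l = 0 from LinearMap.ext fun x => by rw [hact, h, zero_mul, map_zero]; rfl]
      exact zero_mem L))
    have ha1 : a ≠ 1 := fun h => hl0 (ha _ hl (by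
      show act a l ∈ L
      rw [show act a l = l from LinearMap.ext fun x => by rw [hact, h, one_mul]]
      exact hl))
    set c := 1 + a with hc
    have hc0 : c ≠ 0 := fun h => ha1 (CharTwo.add_eq_zero.mp h).symm
    obtain ⟨Da, hDa⟩ := hscale _ (inv_ne_zero ha0)
    obtain ⟨Dc, hDc⟩ := hscale _ (inv_ne_zero hc0)
    have hkill : ∀ μ ∈ L, ∀ e ∈ E, μ e = 0 := fun μ hμ e he =>
      (Submodule.mem_dualAnnihilator μ).mp hμ e he
    obtain ⟨e₀, he₀, hval⟩ : ∃ e₀ ∈ E, l (c * e₀) ≠ 0 := by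
      by_contra hcon
      push Not at hcon
      refine hl0 (ha l hl ((Submodule.mem_dualAnnihilator _).mpr fun e he => ?_))
      have h1 := hcon e he
      rw [hc, add_mul, one_mul, map_add, hkill l hl e he, zero_add] at h1
      exact h1
    let BC : Submodule (ZMod 2) F :=
      E.map (LinearMap.mulLeft (ZMod 2) a⁻¹) ⊔ E.map (LinearMap.mulLeft (ZMod 2) c⁻¹)
    have hBC : BC = ⊤ := by
      rw [← Submodule.dualAnnihilator_eq_bot_iff, Submodule.eq_bot_iff]
      intro μ hμ
      have hμ' := (Submodule.mem_dualAnnihilator μ).mp hμ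
      have hA : act a⁻¹ μ ∈ L := (Submodule.mem_dualAnnihilator _).mpr fun e he =>
        hμ' _ (Submodule.mem_sup_left ⟨e, he, rfl⟩)
      have hC : act c⁻¹ μ ∈ L := (Submodule.mem_dualAnnihilator _).mpr fun e he =>
        hμ' _ (Submodule.mem_sup_right ⟨e, he, rfl⟩)
      have hmul' : act a (act a⁻¹ μ + act c⁻¹ μ) = act c⁻¹ μ := by
        refine LinearMap.ext fun x => ?_
        rw [hact, LinearMap.add_apply, hact, hact, ← map_add, hact]
        congr 1
        have e1 : a * a⁻¹ = 1 := mul_inv_cancel₀ ha0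
        have e2 : (1 + a) * c⁻¹ = 1 := mul_inv_cancel₀ hc0
        grind
      have h0 := ha _ (add_mem hA hC) (hmul'.symm ▸ hC)
      rw [h0] at hmul'
      refine LinearMap.ext fun y => ?_
      have := LinearMap.congr_fun hmul' (c * y)
      rw [hact, hact, inv_mul_cancel_left₀ hc0, LinearMap.zero_apply] at this
      rw [← this]
      rfl
    obtain ⟨_, ⟨e₁, he₁, rfl⟩, _, ⟨e₂, he₂, rfl⟩, hdec⟩ :=
      Submodule.mem_sup.mp (hBC ▸ Submodule.mem_top : e₀ ∈ BC)
    simp only [LinearMap.mulLeft_apply] at hdec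
    refine not_binary_of_tri_top ⟨Da, Subgroup.mem_top _, Dc, Subgroup.mem_top _, π (u e₀), he₀,
      π (u e₁), he₁, π (u e₂), he₂, ?_, fun g hg hgu hx => ?_⟩
    · rw [(hDa e₁).1, (hDc e₂).1, hinvu, hmul]
      congr 2
      rw [← hdec]; grind
    obtain ⟨e, rfl⟩ := hH g hg
    rw [(hDa e).2, inv_inv] at hgu
    rw [hinvu, hmul, (hDc _).2, inv_inv] at hx
    refine hval ?_
    have h1 : l (c * (e + e₀)) = 0 := hkill l hl _ hx
    have h3 : l e = 0 := hkill l hl _ hg
    have h4 : l (a * e) = 0 := hkill l hl _ hgu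
    rw [show c * (e + e₀) = e + a * e + c * e₀ by rw [hc]; ring, map_add, map_add, h3, h4, add_zero,
      zero_add] at h1
    exact h1

end Cfsg.Agent.PSL2Binary34
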