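import Cfsg.Agent.Lib.Simple168

/-!
Conjugacy classes in a simple group of order 168.
-/

namespace Cfsg.Agent.Simple168Classes

open SimpleOrder SmallGroupBasic Simple168

set_option linter.unusedSectionVars false

variable {G : Type*} [Group G] [Finite G] [IsSimpleGroup G] (h : Nat.card G = 168)
include h

theorem card_orderOf_three : Nat.card {g : G // orderOf g = 3} = 56 := by
  have : Fact (Nat.Prime 3) := ⟨by norm_num⟩
  rw [card_orderOf_eq (fun P => (card_three_data h P).1), card_sylow_three h]

theorem card_orderOf_seven : Nat.card {g : G // orderOf g = 7} = 48 := by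
  have : Fact (Nat.Prime 7) := ⟨by norm_num⟩
  rw [card_orderOf_eq (fun P => (card_seven_data h P).1), card_sylow_seven h]

theorem card_centralizer_seven {x : G} (hx : orderOf x = 7) :
    Nat.card ↥(Subgroup.centralizer ({x} : Set G)) = 7 := by
  have : Fact (Nat.Prime 7) := ⟨by norm_num⟩
  obtain ⟨P, hP⟩ := exists_sylow_of_orderOf (p := 7) (fun P => (card_seven_data h P).1) hx
  rw [← centralizer_zpowers, ← hP]
  exact (card_seven_data h P).2.2

theorem seven_class {x : G} (hx : orderOf x = 7) :
    Nat.card {g : G // IsConj x g} = 24 ∧ ¬ IsConj x x⁻¹ := by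
  have : Fact (Nat.Prime 7) := ⟨by norm_num⟩
  constructor
  · have := (Subgroup.centralizer ({x} : Set G)).card_mul_index
    rw [card_centralizer_seven h hx, h] at this
    rw [card_isConj_eq_index]; omega
  · intro hc
    obtain ⟨g, hg⟩ := isConj_iff.1 hc
    obtain ⟨P, hP⟩ := exists_sylow_of_orderOf (p := 7) (fun P => (card_seven_data h P).1) hx
    have hgN : g ∈ Subgroup.normalizer ((P : Subgroup G) : Set G) := by
      rw [Subgroup.mem_normalizer_iff, hP]
      have hmap : Subgroup.map (MulAut.conj g).toMonoidHom (Subgroup.zpowers x) =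
          Subgroup.zpowers x := by
        rw [MonoidHom.map_zpowers]
        show Subgroup.zpowers (g * x * g⁻¹) = _
        rw [hg, Subgroup.zpowers_inv]
      intro n
      constructor
      · intro hn
        rw [← hmap]
        exact ⟨n, hn, rfl⟩
      · intro hn
        rw [← hmap] at hn
        obtain ⟨m, hm, he⟩ := hn
        have : m = n := (MulAut.conj g).injective he
        exact this ▸ hm
    have hg21 : g ^ 21 = 1 := by
      have := orderOf_dvd_natCard (⟨g, hgN⟩ : ↥(Subgroup.normalizer ((P : Subgroup G) : Set G)))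
      rw [(card_seven_data h P).2.1, ← Subgroup.orderOf_coe] at this
      exact orderOf_dvd_iff_pow_eq_one.1 this
    have hit : ∀ k : ℕ, g ^ (2 * k) * x * (g ^ (2 * k))⁻¹ = x := by
      intro k
      induction k with
      | zero => simp
      | succ k ih =>
        have e : g ^ (2 * (k + 1)) * x * (g ^ (2 * (k + 1)))⁻¹ =
            g * (g * (g ^ (2 * k) * x * (g ^ (2 * k))⁻¹) * g⁻¹) * g⁻¹ := by
          rw [Nat.mul_succ, show 2 * k + 2 = (1 + 1) + 2 * k by ring, pow_add, pow_add, pow_one]
          group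
        rw [e, ih, hg]
        calc g * x⁻¹ * g⁻¹ = (g * x * g⁻¹)⁻¹ := by group
          _ = x := by rw [hg, inv_inv]
    have h10 := hit 10
    have e : x = x⁻¹ := by
      calc x = g ^ 21 * x * (g ^ 21)⁻¹ := by rw [hg21]; group
        _ = g * (g ^ (2 * 10) * x * (g ^ (2 * 10))⁻¹) * g⁻¹ := by
          rw [show 21 = 1 + 2 * 10 by norm_num, pow_add, pow_one]; group
        _ = x⁻¹ := by rw [h10, hg]
    have : orderOf x ∣ 2 := orderOf_dvd_of_pow_eq_one (by rw [sq]; nth_rw 2 [e]; exact mul_inv_cancel x)
    rw [hx] at this; norm_num at this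

theorem isConj_three {s t : G} (hs : orderOf s = 3) (ht : orderOf t = 3) : IsConj s t := by
  have : Fact (Nat.Prime 3) := ⟨by norm_num⟩
  have hS : ∀ P : Sylow 3 G, Nat.card ↥(P : Subgroup G) = 3 := fun P => (card_three_data h P).1
  have key : ∀ x : G, orderOf x = 3 → IsConj x x⁻¹ := by
    intro x hx
    obtain ⟨P, hP⟩ := exists_sylow_of_orderOf hS hx
    obtain ⟨-, hN, hC⟩ := card_three_data h P
    obtain ⟨g, hgN, hgC⟩ : ∃ g ∈ Subgroup.normalizer ((P : Subgroup G) : Set G),
        g ∉ Subgroup.centralizer ((P : Subgroup G) : Set G) :=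
      SetLike.not_le_iff_exists.1 fun hle => by
        have := Subgroup.card_dvd_of_le hle
        rw [hN, hC] at this; norm_num at this
    have hm : g * x * g⁻¹ ∈ (P : Subgroup G) :=
      (Subgroup.mem_normalizer_iff.1 hgN x).1 (hP ▸ Subgroup.mem_zpowers x)
    rw [hP] at hm hgC
    obtain ⟨j, hj⟩ := Subgroup.mem_zpowers_iff.1 hm
    refine isConj_iff.2 ⟨g, ?_⟩
    rw [← hj, ← zpow_mod_orderOf, hx]
    have hord : orderOf (g * x * g⁻¹) = 3 := by rw [orderOf_conj, hx]
    rw [← hj, ← zpow_mod_orderOf, hx] at hord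
    have h0 : 0 ≤ j % (3 : ℕ) := Int.emod_nonneg _ (by norm_num)
    have h3 : j % (3 : ℕ) < 3 := Int.emod_lt_of_pos _ (by norm_num)
    have hne : j % (3 : ℕ) ≠ 1 := by
      intro h1
      apply hgC
      rw [centralizer_zpowers, Subgroup.mem_centralizer_singleton_iff]
      rw [← zpow_mod_orderOf, hx, h1, zpow_one] at hj
      exact mul_inv_eq_iff_eq_mul.1 hj.symm
    generalize j % (3 : ℕ) = k at h0 h3 hne hord
    interval_cases k
    · simp at hord
    · omega
    · refine eq_inv_of_mul_eq_one_left ?_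
      rw [zpow_ofNat, ← pow_succ]
      exact (orderOf_dvd_iff_pow_eq_one (n := 3)).1 (dvd_of_eq hx)
  obtain ⟨P, hP⟩ := exists_sylow_of_orderOf hS hs
  obtain ⟨Q, hQ⟩ := exists_sylow_of_orderOf hS ht
  obtain ⟨c, hc⟩ := MulAction.exists_smul_eq G P Q
  have hm : c * s * c⁻¹ ∈ Subgroup.zpowers t := by
    rw [← hQ, ← hc, Sylow.coe_subgroup_smul, Subgroup.mem_pointwise_smul_iff_inv_smul_mem, hP]
    simp [MulAut.smul_def, mul_assoc]
  obtain ⟨j, hj⟩ := Subgroup.mem_zpowers_iff.1 hm
  have hc' : IsConj s (c * s * c⁻¹) := isConj_iff.2 ⟨c, rfl⟩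
  have hord : orderOf (c * s * c⁻¹) = 3 := by rw [orderOf_conj, hs]
  rw [← hj, ← zpow_mod_orderOf, ht] at hc' hord
  have h0 : 0 ≤ j % (3 : ℕ) := Int.emod_nonneg _ (by norm_num)
  have h3 : j % (3 : ℕ) < 3 := Int.emod_lt_of_pos _ (by norm_num)
  generalize j % (3 : ℕ) = k at h0 h3 hc' hord
  interval_cases k
  · simp at hord
  · simpa using hc'
  · have e : t ^ (2 : ℤ) = t⁻¹ := by
      refine eq_inv_of_mul_eq_one_left ?_
      rw [zpow_ofNat, ← pow_succ]
      exact (orderOf_dvd_iff_pow_eq_one (n := 3)).1 (dvd_of_eq ht)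
    rw [e] at hc'
    exact hc'.trans (key t ht).symm

/-- The partition of the group by element orders. -/
theorem card_two_add_card_four :
    Nat.card {g : G // orderOf g = 2} + Nat.card {g : G // orderOf g = 4} = 63 := by
  classical
  have := Fintype.ofFinite G
  have hcnt : ∀ k, Nat.card {g : G // orderOf g = k} =
      (Finset.univ.filter fun g : G => orderOf g = k).card := fun k => by
    rw [Nat.card_eq_fintype_card, Fintype.card_subtype]
  have hsum := Finset.card_eq_sum_card_fiberwise (f := fun g : G => orderOf g)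
    (s := Finset.univ) (t := {1, 2, 3, 4, 7}) (fun g _ => by
      rcases orderOf_cases h g with e | e | e | e | e <;> simp [e])
  rw [Finset.sum_insert (by decide), Finset.sum_insert (by decide), Finset.sum_insert (by decide),
    Finset.sum_insert (by decide), Finset.sum_singleton, Finset.card_univ,
    ← Nat.card_eq_fintype_card, h] at hsum
  have h3 := card_orderOf_three h
  have h7 := card_orderOf_seven h
  rw [hcnt] at h3 h7
  have h1 : (Finset.univ.filter fun g : G => orderOf g = 1).card = 1 := by
    rw [Finset.card_eq_one]; exact ⟨1, by ext; simp⟩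
  rw [hcnt, hcnt]
  omega

theorem card_isConj_of_central {z : G} (hz : orderOf z = 2) (T : Sylow 2 G)
    (hT : Subgroup.centralizer ({z} : Set G) = (T : Subgroup G)) :
    Nat.card {g : G // IsConj z g} = 21 := by
  have := (Subgroup.centralizer ({z} : Set G)).card_mul_index
  rw [card_isConj_eq_index]
  rw [hT, card_sylow_two_subgroup h T, h] at this
  rw [hT]; omega

/-- The counts and class structure for orders 2 and 4. -/
theorem two_four :
    Nat.card {g : G // orderOf g = 2} = 21 ∧ Nat.card {g : G // orderOf g = 4} = 42 ∧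
      (∀ s t : G, orderOf s = 2 → orderOf t = 2 → IsConj s t) ∧
      (∀ s t : G, orderOf s = 4 → orderOf t = 4 → IsConj s t) := by
  have : Fact (Nat.Prime 2) := ⟨by norm_num⟩
  choose x y hxT hyT hx hyx hy hC using fun T : Sylow 2 G => exists_dihedral_gens h T
  -- pairs (Sylow 2-subgroup, sign) give elements of order 4
  let f : Sylow 2 G × Bool → {g : G // orderOf g = 4} := fun q =>
    ⟨if q.2 then x q.1 else (x q.1)⁻¹, by split <;> simp [hx]⟩
  have hsq : ∀ q, (f q : G) ^ 2 = x q.1 ^ 2 := by
    intro q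
    by_cases hq : q.2
    · simp [f, hq]
    · simp only [f, hq, if_false, Bool.false_eq_true, inv_pow]
      rw [inv_eq_iff_mul_eq_one, ← pow_add]
      exact (orderOf_dvd_iff_pow_eq_one (n := 4)).1 (dvd_of_eq (hx q.1))
  have hf : Function.Injective f := by
    rintro ⟨T, b⟩ ⟨T', b'⟩ he
    have hTT : T = T' := Sylow.ext (by
      rw [← hC T, ← hC T', ← hsq (T, b), ← hsq (T', b'), he])
    subst hTT
    have hne : x T ≠ (x T)⁻¹ := fun e => by
      have h2 : orderOf (x T) ∣ 2 :=
        orderOf_dvd_of_pow_eq_one (by rw [sq]; nth_rw 2 [e]; exact mul_inv_cancel _)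
      rw [hx T] at h2; norm_num at h2
    have he' := congrArg Subtype.val he
    cases b <;> cases b' <;> simp only [f, if_true, if_false, Bool.false_eq_true] at he'
    · rfl
    · exact absurd he'.symm hne
    · exact absurd he' hne
    · rfl
  have h4le : 42 ≤ Nat.card {g : G // orderOf g = 4} := by
    have := Nat.card_le_card_of_injective f hf
    rwa [Nat.card_prod, card_sylow_two h, Nat.card_eq_fintype_card (α := Bool), Fintype.card_bool]
      at this
  obtain ⟨T⟩ : Nonempty (Sylow 2 G) := inferInstance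
  have hz : orderOf (x T ^ 2) = 2 := by rw [orderOf_pow' _ (by norm_num), hx]; norm_num
  have hcl := card_isConj_of_central h hz T (hC T)
  let g : {g : G // IsConj (x T ^ 2) g} → {g : G // orderOf g = 2} := fun s =>
    ⟨s.1, by rw [IsConj.orderOf_eq' s.2, hz]⟩
  have hg : Function.Injective g := fun a b e =>
    Subtype.ext (congrArg (fun s : {g : G // orderOf g = 2} => (s : G)) e)
  have h2le : 21 ≤ Nat.card {g : G // orderOf g = 2} := by
    have := Nat.card_le_card_of_injective g hg
    rwa [hcl] at this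
  have hsum := card_two_add_card_four h
  refine ⟨by omega, by omega, ?_, ?_⟩
  · have hgs : Function.Surjective g :=
      ((Nat.bijective_iff_injective_and_card g).2 ⟨hg, by omega⟩).2
    intro s t hs ht
    obtain ⟨a, ha⟩ := hgs ⟨s, hs⟩
    obtain ⟨b, hb⟩ := hgs ⟨t, ht⟩
    have ha' : (a : G) = s := congrArg Subtype.val ha
    have hb' : (b : G) = t := congrArg Subtype.val hb
    exact ha' ▸ hb' ▸ a.2.symm.trans b.2
  · have hfs : Function.Surjective f :=
      ((Nat.bijective_iff_injective_and_card f).2 ⟨hf, by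
        rw [Nat.card_prod, card_sylow_two h, Nat.card_eq_fintype_card (α := Bool), Fintype.card_bool]
        omega⟩).2
    have hinv : ∀ U b, IsConj (x U) (f (U, b) : G) := by
      intro U b
      cases b
      · exact isConj_iff.2 ⟨y U, by simp [f, hy U]⟩
      · exact IsConj.refl _
    intro s t hs ht
    obtain ⟨⟨U, b⟩, ha⟩ := hfs ⟨s, hs⟩
    obtain ⟨⟨W, b'⟩, hb⟩ := hfs ⟨t, ht⟩
    have ha' : (f (U, b) : G) = s := congrArg Subtype.val ha
    have hb' : (f (W, b') : G) = t := congrArg Subtype.val hb
    obtain ⟨c, hc⟩ := MulAction.exists_smul_eq G U W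
    have hcU : c * x U * c⁻¹ ∈ (W : Subgroup G) := by
      rw [← hc, Sylow.coe_subgroup_smul, Subgroup.mem_pointwise_smul_iff_inv_smul_mem]
      simpa [MulAut.smul_def, mul_assoc] using hxT U
    obtain ⟨⟨V, b''⟩, hv⟩ := hfs ⟨c * x U * c⁻¹, by rw [orderOf_conj, hx]⟩
    have hv' : (f (V, b'') : G) = c * x U * c⁻¹ := congrArg Subtype.val hv
    have hVW : V = W := by
      apply Sylow.ext
      have e : (W : Subgroup G) ≤ Subgroup.centralizer ({x V ^ 2} : Set G) := by
        intro w hw
        rw [Subgroup.mem_centralizer_singleton_iff]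
        have hz2 : orderOf (x V ^ 2) = 2 := by rw [orderOf_pow' _ (by norm_num), hx]; norm_num
        rw [← hsq (V, b''), hv', conj_pow]
        have hw' : c⁻¹ * w * c ∈ (U : Subgroup G) := by
          rw [← hc, Sylow.coe_subgroup_smul, Subgroup.mem_pointwise_smul_iff_inv_smul_mem] at hw
          simpa [MulAut.smul_def, mul_assoc] using hw
        have h2 := (hC U).symm ▸ hw'
        rw [Subgroup.mem_centralizer_singleton_iff] at h2
        calc w * (c * x U ^ 2 * c⁻¹) = c * ((c⁻¹ * w * c) * x U ^ 2) * c⁻¹ := by group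
          _ = c * (x U ^ 2 * (c⁻¹ * w * c)) * c⁻¹ := by rw [h2]
          _ = c * x U ^ 2 * c⁻¹ * w := by group
      rw [hC V] at e
      exact (Subgroup.eq_of_le_of_card_ge e
        (by rw [card_sylow_two_subgroup h, card_sylow_two_subgroup h])).symm
    subst hVW
    have hUW : IsConj (x U) (x V) :=
      (isConj_iff.2 ⟨c, hv'.symm⟩ : IsConj (x U) (f (V, b'') : G)).trans (hinv V b'').symm
    rw [← ha', ← hb']
    exact ((hinv U b).symm.trans hUW).trans (hinv V b')

end Cfsg.Agent.Simple168Classes
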