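import Cfsg.Agent.Lib.Simple168Klein

/-! Maximal subgroups of the simple group of order 168. -/

namespace Cfsg.Agent.Simple168Maximal

open SimpleOrder SmallGroupBasic Simple168Klein Equiv

/-- The normal four-group of `Perm (Fin 4)`. -/
def v4 : Subgroup (Perm (Fin 4)) where
  carrier := {σ | σ * σ = 1 ∧ Perm.sign σ = 1}
  mul_mem' {a b} ha hb := by
    have key : ∀ a b : Perm (Fin 4), a * a = 1 ∧ Perm.sign a = 1 → b * b = 1 ∧ Perm.sign b = 1 →
        (a * b) * (a * b) = 1 ∧ Perm.sign (a * b) = 1 := by decide +kernel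
    exact key a b ha hb
  one_mem' := by simp
  inv_mem' {a} ha := by
    have : a⁻¹ = a := inv_eq_of_mul_eq_one_right ha.1
    rwa [this]

theorem card_v4_set :
    Fintype.card {σ : Perm (Fin 4) // σ * σ = 1 ∧ Perm.sign σ = 1} = 4 := by decide +kernel

theorem isKleinFour_v4 : IsKleinFour ↥v4 := by
  refine ⟨?_, ?_⟩
  · exact (Nat.card_eq_fintype_card
      (α := {σ : Perm (Fin 4) // σ * σ = 1 ∧ Perm.sign σ = 1})).trans card_v4_set
  · refine ((Nat.dvd_prime Nat.prime_two).1 (Monoid.exponent_dvd_of_forall_pow_eq_one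
      fun a => ?_)).resolve_left fun h1 => ?_
    · rw [sq]; exact Subtype.ext a.2.1
    · have hmem : swap (0 : Fin 4) 1 * swap 2 3 ∈ v4 := by
        show (swap (0 : Fin 4) 1 * swap 2 3) * (swap 0 1 * swap 2 3) = 1 ∧
          Perm.sign (swap (0 : Fin 4) 1 * swap 2 3) = 1
        decide +kernel
      have h2 := Monoid.pow_exponent_eq_one (⟨_, hmem⟩ : ↥v4)
      rw [h1, pow_one] at h2
      exact absurd (congrArg Subtype.val h2) (by
        show ¬ (swap (0 : Fin 4) 1 * swap 2 3 = 1)
        decide +kernel)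

theorem v4_normal : v4.Normal := by
  refine ⟨fun a ha g => ⟨?_, ?_⟩⟩
  · rw [show g * a * g⁻¹ * (g * a * g⁻¹) = g * (a * a) * g⁻¹ by group, ha.1, mul_one, mul_inv_cancel]
  · rw [map_mul, map_mul, map_inv, ha.2, mul_one, mul_inv_cancel]

variable {G : Type*} [Group G] [Finite G] [IsSimpleGroup G] (h : Nat.card G = 168)
include h

theorem le_index' {H : Subgroup G} (hH : H ≠ ⊤) : 7 ≤ H.index :=
  le_index (Simple168.not_comm h) (fun i hi => by
    rw [h]; interval_cases i <;> norm_num [Nat.factorial]) H hH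

theorem normalizer_klein_ne_top {U : Subgroup G} (hU : IsKleinFour ↥U) :
    Subgroup.normalizer (U : Set G) ≠ ⊤ := by
  intro ht
  have := card_normalizer_klein h hU
  rw [ht, Subgroup.card_top, h] at this
  omega

theorem isCoatom_normalizer {U : Subgroup G} (hU : IsKleinFour ↥U) :
    IsCoatom (Subgroup.normalizer (U : Set G)) := by
  refine ⟨normalizer_klein_ne_top h hU, fun K hK => ?_⟩
  by_contra hne
  have h1 := le_index' h hne
  have h2 := K.card_mul_index
  rw [h] at h2
  have h3 := Subgroup.card_dvd_of_le hK.le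
  rw [card_normalizer_klein h hU] at h3
  have h4 : Nat.card ↥(Subgroup.normalizer (U : Set G)) < Nat.card ↥K :=
    lt_of_not_ge fun hge => hK.ne (Subgroup.eq_of_le_of_card_ge hK.le hge)
  rw [card_normalizer_klein h hU] at h4
  nlinarith

theorem klein_unique {U W : Subgroup G} (hU : IsKleinFour ↥U) (hW : IsKleinFour ↥W)
    (hle : Subgroup.normalizer (U : Set G) ≤ Subgroup.normalizer (W : Set G)) : U = W := by
  have : Fact (Nat.Prime 2) := ⟨Nat.prime_two⟩
  obtain ⟨T, T', hne, hUT, hUT'⟩ := exists_two_sylow h hU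
  have hsub : ∀ S : Sylow 2 G, U ≤ (S : Subgroup G) → W ≤ (S : Subgroup G) := by
    intro S hS
    have hSW : (S : Subgroup G) ≤ Subgroup.normalizer (W : Set G) :=
      (le_normalizer_of_card (Simple168.card_sylow_two_subgroup h S) hU.card_four hS).trans hle
    have hWp : IsPGroup 2 ↥W := IsPGroup.of_card (n := 2) (by rw [hW.card_four]; norm_num)
    have := S.3 (IsPGroup.to_sup_of_normal_right' S.2 hWp hSW) le_sup_left
    rw [← this]
    exact le_sup_right
  have hUI : U ≤ (T : Subgroup G) ⊓ T' := le_inf hUT hUT'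
  have hWI : W ≤ (T : Subgroup G) ⊓ T' := le_inf (hsub T hUT) (hsub T' hUT')
  have hI : Nat.card ↥((T : Subgroup G) ⊓ T' : Subgroup G) ≤ 4 := by
    have hd : Nat.card ↥((T : Subgroup G) ⊓ T' : Subgroup G) ∣ 8 :=
      Simple168.card_sylow_two_subgroup h T ▸ Subgroup.card_dvd_of_le inf_le_left
    have hlt : Nat.card ↥((T : Subgroup G) ⊓ T' : Subgroup G) ≠ 8 := fun e => by
      have heq : (T : Subgroup G) ⊓ T' = (T : Subgroup G) :=
        Subgroup.eq_of_le_of_card_ge inf_le_left
          (by rw [e, Simple168.card_sylow_two_subgroup h T])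
      exact hne (Sylow.ext (Subgroup.eq_of_le_of_card_ge (inf_eq_left.1 heq)
        (by rw [Simple168.card_sylow_two_subgroup h T, Simple168.card_sylow_two_subgroup h T'])))
    have := Nat.le_of_dvd (by norm_num) hd
    interval_cases Nat.card ↥((T : Subgroup G) ⊓ T' : Subgroup G) <;> omega
  exact (Subgroup.eq_of_le_of_card_ge hUI (by rw [hU.card_four]; exact hI)).trans
    (Subgroup.eq_of_le_of_card_ge hWI (by rw [hW.card_four]; exact hI)).symm

theorem exists_klein : ∃ U : Subgroup G, IsKleinFour ↥U := by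
  have : Fact (Nat.Prime 2) := ⟨Nat.prime_two⟩
  obtain ⟨T⟩ : Nonempty (Sylow 2 G) := inferInstance
  have hk := card_klein h T
  obtain ⟨U⟩ : Nonempty {U : Subgroup G // U ≤ (T : Subgroup G) ∧ IsKleinFour ↥U} :=
    (Nat.card_pos_iff.1 (by rw [hk]; norm_num)).1
  exact ⟨U.1, U.2.2⟩

omit h [Finite G] [IsSimpleGroup G] in
theorem map_normalizer_conj (U : Subgroup G) (g : G) :
    (Subgroup.normalizer (U : Set G)).map (MulAut.conj g).toMonoidHom =
      Subgroup.normalizer ((U.map (MulAut.conj g).toMonoidHom : Subgroup G) : Set G) :=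
  Subgroup.map_equiv_normalizer_eq U (MulAut.conj g)

theorem normalizer_three_le (P : Sylow 3 G) :
    ∃ U : Subgroup G, IsKleinFour ↥U ∧
      Subgroup.normalizer ((P : Subgroup G) : Set G) ≤ Subgroup.normalizer (U : Set G) := by
  have : Fact (Nat.Prime 3) := ⟨Nat.prime_three⟩
  obtain ⟨U, hU⟩ := exists_klein h
  set M := Subgroup.normalizer (U : Set G) with hM
  have hM24 := card_normalizer_klein h hU
  have hs := SmallGroupS4.card_normalizer_of_sylow_four (G := ↥M) hM24 fun g e =>
    Simple168.orderOf_ne_six h (g : G) (by rw [Subgroup.orderOf_coe, e])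
  obtain ⟨Q⟩ : Nonempty (Sylow 3 ↥M) := inferInstance
  have hQ3 : Nat.card ↥(Q : Subgroup ↥M) = 3 := by
    rw [Q.card_eq_multiplicity, hM24, show (24 : ℕ) = 3 ^ 1 * 8 by norm_num,
      Nat.factorization_mul (by norm_num) (by norm_num)]
    simp [Nat.factorization_eq_zero_of_not_dvd (show ¬ 3 ∣ 8 by norm_num), Nat.prime_three.factorization]
  obtain ⟨R, hR⟩ := (IsPGroup.of_card (p := 3) (n := 1) (by
      rw [← Nat.card_congr ((Q : Subgroup ↥M).equivMapOfInjective _ M.subtype_injective).toEquiv,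
        hQ3, pow_one]) : IsPGroup 3 ↥((Q : Subgroup ↥M).map M.subtype)).exists_le_sylow
  have hR3 := Simple168.card_three_data h R
  have hQR : (Q : Subgroup ↥M).map M.subtype = (R : Subgroup G) :=
    Subgroup.eq_of_le_of_card_ge hR (by
      rw [hR3.1, ← Nat.card_congr ((Q : Subgroup ↥M).equivMapOfInjective _ M.subtype_injective).toEquiv,
        hQ3])
  have hNR : Subgroup.normalizer ((R : Subgroup G) : Set G) ≤ M := by
    have h6 : Nat.card ↥(Subgroup.normalizer ((Q : Subgroup ↥M) : Set ↥M)) = 6 := by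
      have := (Subgroup.normalizer ((Q : Subgroup ↥M) : Set ↥M)).card_mul_index
      rw [show (Subgroup.normalizer ((Q : Subgroup ↥M) : Set ↥M)).index = 4 from
        Q.card_eq_index_normalizer.symm.trans hs, hM24] at this
      omega
    have hle : (Subgroup.normalizer ((Q : Subgroup ↥M) : Set ↥M)).map M.subtype ≤
        Subgroup.normalizer ((R : Subgroup G) : Set G) := by
      rw [← hQR]
      exact Subgroup.le_normalizer_map _
    rw [← Subgroup.eq_of_le_of_card_ge hle (by
      rw [hR3.2.1, ← Nat.card_congr ((Subgroup.normalizer ((Q : Subgroup ↥M) : Set ↥M)).equivMapOfInjective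
        _ M.subtype_injective).toEquiv, h6])]
    exact Subgroup.map_subtype_le _
  obtain ⟨g, hg⟩ := MulAction.exists_smul_eq G R P
  refine ⟨U.map (MulAut.conj g).toMonoidHom,
    isKleinFour_of_equiv (U.equivMapOfInjective (MulAut.conj g).toMonoidHom (MulAut.conj g).injective) hU, ?_⟩
  rw [← map_normalizer_conj, ← hg]
  have e : ((g • R : Sylow 3 G) : Subgroup G) =
      (R : Subgroup G).map (MulAut.conj g).toMonoidHom := rfl
  rw [e, ← map_normalizer_conj]
  exact Subgroup.map_mono hNR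

theorem le_normalizer_of_not_seven {M : Subgroup G} (h7 : ¬ 7 ∣ Nat.card ↥M) (hM : M ≠ ⊤) :
    ∃ U : Subgroup G, IsKleinFour ↥U ∧ M ≤ Subgroup.normalizer (U : Set G) := by
  classical
  have : Fact (Nat.Prime 2) := ⟨Nat.prime_two⟩
  have : Fact (Nat.Prime 3) := ⟨Nat.prime_three⟩
  have hd : Nat.card ↥M ∣ 168 := h ▸ Subgroup.card_subgroup_dvd_card M
  have hd24 : Nat.card ↥M ∣ 24 :=
    (Nat.Coprime.dvd_of_dvd_mul_right ((Nat.Prime.coprime_iff_not_dvd (by norm_num)).2 h7).symm
      (by simpa using (show Nat.card ↥M ∣ 24 * 7 by simpa using hd)))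
  by_cases h3 : 3 ∣ Nat.card ↥M
  swap
  · -- a 2-group
    have hd8 : Nat.card ↥M ∣ 8 :=
      Nat.Coprime.dvd_of_dvd_mul_right (Nat.prime_three.coprime_iff_not_dvd.2 h3).symm
        (show Nat.card ↥M ∣ 8 * 3 from hd24)
    obtain ⟨j, -, hj⟩ := (Nat.dvd_prime_pow Nat.prime_two).1 (show Nat.card ↥M ∣ 2 ^ 3 from hd8)
    obtain ⟨T, hT⟩ := (IsPGroup.of_card (p := 2) hj : IsPGroup 2 ↥M).exists_le_sylow
    have hk := card_klein h T
    obtain ⟨U⟩ : Nonempty {U : Subgroup G // U ≤ (T : Subgroup G) ∧ IsKleinFour ↥U} :=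
      (Nat.card_pos_iff.1 (by rw [hk]; norm_num)).1
    exact ⟨U.1, U.2.2, hT.trans
      (le_normalizer_of_card (Simple168.card_sylow_two_subgroup h T) U.2.2.card_four U.2.1)⟩
  obtain ⟨P⟩ : Nonempty (Sylow 3 ↥M) := inferInstance
  have hP3 : Nat.card ↥(P : Subgroup ↥M) = 3 := by
    obtain ⟨j, hj⟩ := IsPGroup.iff_card.1 P.2
    have h1 : Nat.card ↥(P : Subgroup ↥M) ∣ 24 := (Subgroup.card_subgroup_dvd_card _).trans hd24
    have h2 : 3 ∣ Nat.card ↥(P : Subgroup ↥M) := by
      rcases j with _ | j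
      · exfalso
        rw [pow_zero] at hj
        exact P.ne_bot_of_dvd_card h3 (Subgroup.card_eq_one.1 hj)
      · rw [hj]; exact dvd_pow_self 3 (Nat.succ_ne_zero j)
    have : j ≤ 1 := by
      by_contra hjj
      have : 3 ^ 2 ∣ 24 := (pow_dvd_pow 3 (by omega : 2 ≤ j)).trans (hj ▸ h1)
      norm_num at this
    interval_cases j
    · simp at hj; rw [hj] at h2; norm_num at h2
    · simpa using hj
  have hPmap : Nat.card ↥((P : Subgroup ↥M).map M.subtype) = 3 := by
    rw [← Nat.card_congr ((P : Subgroup ↥M).equivMapOfInjective _ M.subtype_injective).toEquiv, hP3]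
  obtain ⟨R, hR⟩ := (IsPGroup.of_card (p := 3) (n := 1) (by rw [hPmap, pow_one]) :
    IsPGroup 3 ↥((P : Subgroup ↥M).map M.subtype)).exists_le_sylow
  have hQR : (P : Subgroup ↥M).map M.subtype = (R : Subgroup G) :=
    Subgroup.eq_of_le_of_card_ge hR (by rw [(Simple168.card_three_data h R).1, hPmap])
  set Np := Subgroup.normalizer ((P : Subgroup ↥M) : Set ↥M) with hNp
  have hNple : Np.map M.subtype ≤ Subgroup.normalizer ((R : Subgroup G) : Set G) := by
    rw [← hQR]
    exact Subgroup.le_normalizer_map _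
  have hmul := Np.card_mul_index
  rw [show Np.index = Nat.card (Sylow 3 ↥M) from P.card_eq_index_normalizer.symm] at hmul
  by_cases h1 : Nat.card (Sylow 3 ↥M) = 1
  · obtain ⟨U, hU, hle⟩ := normalizer_three_le h R
    refine ⟨U, hU, le_trans ?_ (hNple.trans hle)⟩
    have htop : Np = ⊤ := Subgroup.index_eq_one.1 (P.card_eq_index_normalizer.symm.trans h1)
    rw [htop]
    intro z hz
    exact ⟨⟨z, hz⟩, Subgroup.mem_top _, rfl⟩
  have hs4 : Nat.card (Sylow 3 ↥M) = 4 := by
    have hd' : Nat.card (Sylow 3 ↥M) ∣ 8 := by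
      have h2 := (P : Subgroup ↥M).card_mul_index
      rw [hP3] at h2
      have h3' : (P : Subgroup ↥M).index ∣ 8 :=
        Nat.dvd_of_mul_dvd_mul_left (by norm_num : 0 < 3) (by rw [h2]; exact hd24)
      exact P.card_dvd_index.trans h3'
    have hmod := card_sylow_modEq_one 3 ↥M
    rw [Nat.ModEq] at hmod
    have := Nat.le_of_dvd (by norm_num) hd'
    interval_cases hh : Nat.card (Sylow 3 ↥M) <;> omega
  rw [hs4] at hmul
  have hNp6 : Nat.card ↥Np ∣ 6 := by
    have := Subgroup.card_dvd_of_le hNple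
    rwa [(Simple168.card_three_data h R).2.1,
      ← Nat.card_congr (Np.equivMapOfInjective _ M.subtype_injective).toEquiv] at this
  have hNp3 : 3 ∣ Nat.card ↥Np := hP3 ▸ Subgroup.card_dvd_of_le Subgroup.le_normalizer
  have hcases : Nat.card ↥Np = 3 ∨ Nat.card ↥Np = 6 := by
    have := Nat.le_of_dvd (by norm_num) hNp6
    interval_cases hh : Nat.card ↥Np <;> omega
  rcases hcases with hN3 | hN6
  · -- order twelve
    have hburn : Np ≤ Subgroup.centralizer ((P : Subgroup ↥M) : Set ↥M) := by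
      have heq : (P : Subgroup ↥M) = Np :=
        Subgroup.eq_of_le_of_card_ge Subgroup.le_normalizer (by rw [hP3]; exact hN3.le)
      have hc := isCyclic_of_prime_card (α := ↥(P : Subgroup ↥M)) hP3
      rw [← heq]
      intro a ha b hb
      exact congrArg Subtype.val
        ((IsCyclic.commGroup (α := ↥(P : Subgroup ↥M))).mul_comm ⟨b, hb⟩ ⟨a, ha⟩)
    obtain ⟨K, hK4, hKn⟩ : ∃ K : Subgroup ↥M, Nat.card ↥K = 4 ∧ K.Normal := by
      refine ⟨(MonoidHom.transferSylow P hburn).ker, ?_, MonoidHom.normal_ker _⟩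
      have := (MonoidHom.ker_transferSylow_isComplement' P hburn).card_mul
      rw [hP3] at this
      omega
    set K' := K.map M.subtype with hK'
    have hK'4 : Nat.card ↥K' = 4 := by
      rw [hK', ← Nat.card_congr (K.equivMapOfInjective _ M.subtype_injective).toEquiv, hK4]
    have hMK : M ≤ Subgroup.normalizer (K' : Set G) := by
      refine le_trans ?_ (Subgroup.le_normalizer_map (H := K) M.subtype)
      rw [Subgroup.normalizer_eq_top_iff.2 hKn]
      intro z hz
      exact ⟨⟨z, hz⟩, Subgroup.mem_top _, rfl⟩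
    have hsq : ∀ w ∈ K', w * w = 1 := by
      intro w hw
      by_contra hw2
      have h4 : orderOf w ∣ 2 ^ 2 := by simpa [hK'4] using Subgroup.orderOf_dvd_natCard _ hw
      obtain ⟨j, hj, hj'⟩ := (Nat.dvd_prime_pow Nat.prime_two).1 h4
      have hw4 : orderOf w = 4 := by
        interval_cases j
        · exact absurd (by rw [orderOf_eq_one_iff.1 hj', mul_one]) hw2
        · exact absurd (by rw [← sq, ← pow_one 2, ← hj']; exact pow_orderOf_eq_one w) hw2
        · simpa using hj'
      have hgen : Subgroup.zpowers w = K' := Subgroup.eq_of_le_of_card_ge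
        (Subgroup.zpowers_le.2 hw) (by rw [hK'4, Nat.card_zpowers, hw4])
      obtain ⟨v, hvR, hv⟩ := SmallGroupS4.exists_orderOf_of_dvd (H := (R : Subgroup G)) 3
        Nat.prime_three (by rw [(Simple168.card_three_data h R).1])
      have hvM : v ∈ M := by
        rw [← hQR] at hvR
        exact Subgroup.map_subtype_le _ hvR
      -- `v` fixes the unique involution of `K'`
      have hz : orderOf (w ^ 2) = 2 := by rw [orderOf_pow, hw4]; rfl
      have hvz : v * w ^ 2 * v⁻¹ = w ^ 2 := by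
        have hmem : v * w * v⁻¹ ∈ K' := (Subgroup.mem_normalizer_iff.1 (hMK hvM) w).1 hw
        rw [← hgen] at hmem
        obtain ⟨k, hk⟩ := hmem
        have hk' : w ^ k = v * w * v⁻¹ := hk
        have hodd : ¬ (2 : ℤ) ∣ k := by
          rintro ⟨i, rfl⟩
          have : orderOf (v * w * v⁻¹) ∣ 2 := orderOf_dvd_of_pow_eq_one (by
            rw [← hk', ← zpow_natCast, ← zpow_mul,
              show (2 * i) * ((2 : ℕ) : ℤ) = ((4 : ℕ) : ℤ) * i by push_cast; ring,
              zpow_mul, zpow_natCast, ← hw4, pow_orderOf_eq_one, one_zpow])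
          rw [SmallGroupBasic.orderOf_conj, hw4] at this
          norm_num at this
        obtain ⟨i, hi⟩ : ∃ i, k = 2 * i + 1 := ⟨k / 2, by omega⟩
        rw [← conj_pow, ← hk', ← zpow_natCast, ← zpow_mul, hi,
          show (2 * i + 1) * ((2 : ℕ) : ℤ) = ((4 : ℕ) : ℤ) * i + ((2 : ℕ) : ℤ) by push_cast; ring,
          zpow_add, zpow_mul, zpow_natCast w 4, ← hw4, pow_orderOf_eq_one, one_zpow, one_mul]
        norm_cast
      exact SmallGroupS4.not_commute_of_orders (Simple168.orderOf_ne_six h) hz hv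
        (mul_inv_eq_iff_eq_mul.1 hvz).symm
    refine ⟨K', ⟨hK'4, ?_⟩, hMK⟩
    refine ((Nat.dvd_prime Nat.prime_two).1 (Monoid.exponent_dvd_of_forall_pow_eq_one
      fun a => ?_)).resolve_left fun h1 => ?_
    · rw [sq]; exact Subtype.ext (hsq a.1 a.2)
    · have hnt : Nontrivial ↥K' := Finite.one_lt_card_iff_nontrivial.1 (by rw [hK'4]; norm_num)
      obtain ⟨a, ha⟩ := exists_ne (1 : ↥K')
      have h2 := Monoid.pow_exponent_eq_one a
      rw [h1, pow_one] at h2
      exact ha h2
  · -- order twenty-four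
    have hM24 : Nat.card ↥M = 24 := by omega
    obtain ⟨e⟩ := SmallGroupS4.nonempty_equiv_perm_four (G := ↥M) hM24 fun g e =>
      Simple168.orderOf_ne_six h (g : G) (by rw [Subgroup.orderOf_coe, e])
    set V := v4.comap e.toMonoidHom with hV
    have hVk : IsKleinFour ↥V := by
      have h1 := isKleinFour_of_equiv (e.symm.subgroupMap v4) isKleinFour_v4
      have h3 : V = v4.map e.symm.toMonoidHom :=
        (Subgroup.map_equiv_eq_comap_symm e.symm v4).symm
      rw [h3]
      exact h1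
    have hVn : V.Normal := v4_normal.comap _
    refine ⟨V.map M.subtype, isKleinFour_of_equiv (V.equivMapOfInjective _ M.subtype_injective) hVk, ?_⟩
    refine le_trans ?_ (Subgroup.le_normalizer_map (H := V) M.subtype)
    rw [Subgroup.normalizer_eq_top_iff.2 hVn]
    intro z hz
    exact ⟨⟨z, hz⟩, Subgroup.mem_top _, rfl⟩

theorem eq_normalizer_seven {M : Subgroup G} (hM : IsCoatom M) (h7 : 7 ∣ Nat.card ↥M) :
    haveI : Fact (Nat.Prime 7) := ⟨by norm_num⟩
    ∃ P : Sylow 7 G, M = Subgroup.normalizer ((P : Subgroup G) : Set G) := by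
  have : Fact (Nat.Prime 7) := ⟨by norm_num⟩
  obtain ⟨v, hvM, hv⟩ := SmallGroupS4.exists_orderOf_of_dvd 7 (by norm_num) h7
  obtain ⟨P, hP⟩ := exists_sylow_of_orderOf (fun P => (Simple168.card_seven_data h P).1) hv
  have hPM : (P : Subgroup G) ≤ M := hP ▸ Subgroup.zpowers_le.2 hvM
  set P' := Sylow.subtype P hPM with hP'
  have hP7 : Nat.card ↥(P' : Subgroup ↥M) = 7 := by
    rw [hP', Sylow.coe_subtype, Nat.card_congr (Subgroup.subgroupOfEquivOfLe hPM).toEquiv,
      (Simple168.card_seven_data h P).1]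
  have hmul := (P' : Subgroup ↥M).card_mul_index
  rw [hP7] at hmul
  have hidx : 7 ≤ M.index := le_index' h hM.1
  have hMmul := M.card_mul_index
  rw [h] at hMmul
  have h24 : Nat.card ↥M ≤ 24 := by nlinarith
  have hone : Nat.card (Sylow 7 ↥M) = 1 := by
    have hle : Nat.card (Sylow 7 ↥M) ≤ (P' : Subgroup ↥M).index :=
      Nat.le_of_dvd (Nat.pos_of_ne_zero Subgroup.index_ne_zero_of_finite) P'.card_dvd_index
    have hmod := card_sylow_modEq_one 7 ↥M
    rw [Nat.ModEq] at hmod
    omega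
  have hMN : M ≤ Subgroup.normalizer ((P : Subgroup G) : Set G) := by
    have h1 := Subgroup.le_normalizer_map (H := (P' : Subgroup ↥M)) M.subtype
    rw [hP', Sylow.coe_subtype, Subgroup.map_subgroupOf_eq_of_le hPM] at h1
    refine le_trans ?_ h1
    have htop : Subgroup.normalizer ((P' : Subgroup ↥M) : Set ↥M) = ⊤ :=
      Subgroup.index_eq_one.1 (P'.card_eq_index_normalizer.symm.trans hone)
    intro z hz
    refine ⟨⟨z, hz⟩, ?_, rfl⟩
    have := htop ▸ Subgroup.mem_top (⟨z, hz⟩ : ↥M)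
    rw [hP', Sylow.coe_subtype] at this
    exact this
  refine ⟨P, ?_⟩
  rcases eq_or_lt_of_le hMN with e | hlt
  · exact e
  · have := hM.2 _ hlt
    exact absurd this (normalizer_ne_top (Simple168.not_comm h) (by rw [h]; norm_num) P)

theorem cases {M : Subgroup G} (hM : IsCoatom M) :
    (∃ U : Subgroup G, IsKleinFour ↥U ∧ M = Subgroup.normalizer (U : Set G)) ∨
      haveI : Fact (Nat.Prime 7) := ⟨by norm_num⟩
      ∃ P : Sylow 7 G, M = Subgroup.normalizer ((P : Subgroup G) : Set G) := by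
  by_cases h7 : 7 ∣ Nat.card ↥M
  · exact Or.inr (eq_normalizer_seven h hM h7)
  · obtain ⟨U, hU, hle⟩ := le_normalizer_of_not_seven h h7 hM.1
    refine Or.inl ⟨U, hU, ?_⟩
    rcases eq_or_lt_of_le hle with e | hlt
    · exact e
    · exact absurd (hM.2 _ hlt) (normalizer_klein_ne_top h hU)

theorem not_comm_normalizer_seven [Fact (Nat.Prime 7)] (P : Sylow 7 G) :
    ¬ IsMulCommutative ↥(Subgroup.normalizer ((P : Subgroup G) : Set G)) := by
  intro hc
  obtain ⟨-, hN, hC⟩ := Simple168.card_seven_data h P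
  have hle : Subgroup.normalizer ((P : Subgroup G) : Set G) ≤
      Subgroup.centralizer ((P : Subgroup G) : Set G) := fun a ha b hb =>
    congrArg Subtype.val (hc.is_comm.comm ⟨b, Subgroup.le_normalizer hb⟩ ⟨a, ha⟩)
  have := Subgroup.card_dvd_of_le hle
  rw [hN, hC] at this
  norm_num at this

theorem main :
    (∀ M : Subgroup G, IsCoatom M → Nonempty (↥M ≃* Equiv.Perm (Fin 4)) ∨
      (Nat.card ↥M = 21 ∧ ¬ IsMulCommutative ↥M)) ∧
    (∀ M M' : Subgroup G, IsCoatom M → IsCoatom M' → Nat.card ↥M = 21 → Nat.card ↥M' = 21 →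
      ∃ g : G, M' = M.map (MulAut.conj g).toMonoidHom) ∧
    ∃ M₁ M₂ : Subgroup G, IsCoatom M₁ ∧ IsCoatom M₂ ∧ Nonempty (↥M₁ ≃* Equiv.Perm (Fin 4)) ∧
      Nonempty (↥M₂ ≃* Equiv.Perm (Fin 4)) ∧ (∀ g : G, M₂ ≠ M₁.map (MulAut.conj g).toMonoidHom) ∧
      ∀ M : Subgroup G, IsCoatom M → Nonempty (↥M ≃* Equiv.Perm (Fin 4)) → ∃ g : G,
        M = M₁.map (MulAut.conj g).toMonoidHom ∨ M = M₂.map (MulAut.conj g).toMonoidHom := by
  classical
  have : Fact (Nat.Prime 7) := ⟨by norm_num⟩
  have : Fact (Nat.Prime 2) := ⟨Nat.prime_two⟩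
  refine ⟨?_, ?_, ?_⟩
  · intro M hM
    rcases cases h hM with ⟨U, hU, rfl⟩ | ⟨P, rfl⟩
    · exact Or.inl (nonempty_normalizer_equiv h hU)
    · exact Or.inr ⟨(Simple168.card_seven_data h P).2.1, not_comm_normalizer_seven h P⟩
  · intro M M' hM hM' h21 h21'
    rcases cases h hM with ⟨U, hU, rfl⟩ | ⟨P, rfl⟩
    · rw [card_normalizer_klein h hU] at h21; omega
    rcases cases h hM' with ⟨U, hU, rfl⟩ | ⟨P', rfl⟩
    · rw [card_normalizer_klein h hU] at h21'; omega
    obtain ⟨g, hg⟩ := MulAction.exists_smul_eq G P P'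
    refine ⟨g, ?_⟩
    rw [map_normalizer_conj, ← hg]
    rfl
  · obtain ⟨T⟩ : Nonempty (Sylow 2 G) := inferInstance
    obtain ⟨U₁, U₂, hne, huniv⟩ := Nat.card_eq_two_iff.1 (card_klein h T)
    refine ⟨_, _, isCoatom_normalizer h U₁.2.2, isCoatom_normalizer h U₂.2.2,
      nonempty_normalizer_equiv h U₁.2.2, nonempty_normalizer_equiv h U₂.2.2, ?_, ?_⟩
    · intro g hg
      rw [map_normalizer_conj] at hg
      have h1 := klein_unique h U₂.2.2
        (isKleinFour_of_equiv (U₁.1.equivMapOfInjective _ (MulAut.conj g).injective) U₁.2.2) hg.le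
      exact not_conj h T U₁.2.1 U₂.2.1 U₁.2.2 U₂.2.2 (fun e => hne (Subtype.ext e)) g h1.symm
    · intro M hM he
      rcases cases h hM with ⟨U, hU, rfl⟩ | ⟨P, rfl⟩
      · obtain ⟨T', hT'⟩ := (IsPGroup.of_card (p := 2) (n := 2) (by rw [hU.card_four]; norm_num) :
          IsPGroup 2 ↥U).exists_le_sylow
        obtain ⟨g, hg⟩ := MulAction.exists_smul_eq G T' T
        have hle : U.map (MulAut.conj g).toMonoidHom ≤ (T : Subgroup G) := by
          rw [← hg]; exact Subgroup.map_mono hT'
        have hk := isKleinFour_of_equiv (U.equivMapOfInjective (MulAut.conj g).toMonoidHom (MulAut.conj g).injective) hU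
        refine ⟨g⁻¹, ?_⟩
        have hback : (Subgroup.normalizer (U : Set G)) =
            (Subgroup.normalizer ((U.map (MulAut.conj g).toMonoidHom : Subgroup G) : Set G)).map
              (MulAut.conj g⁻¹).toMonoidHom := by
          rw [← map_normalizer_conj, Subgroup.map_map]
          convert (Subgroup.map_id _).symm using 2
          ext z
          simp [mul_assoc]
        have hmem : (⟨_, hle, hk⟩ : {U : Subgroup G // U ≤ (T : Subgroup G) ∧ IsKleinFour ↥U}) ∈
            ({U₁, U₂} : Set _) := huniv ▸ Set.mem_univ _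
        rcases hmem with e | e
        · exact Or.inl (hback.trans (by rw [show U.map (MulAut.conj g).toMonoidHom = U₁.1 from congrArg Subtype.val e]))
        · exact Or.inr (hback.trans (by
            rw [show U.map (MulAut.conj g).toMonoidHom = U₂.1 from
              congrArg Subtype.val (Set.mem_singleton_iff.1 e)]))
      · obtain ⟨e⟩ := he
        have := Nat.card_congr e.toEquiv
        rw [(Simple168.card_seven_data h P).2.1, Nat.card_perm, Nat.card_fin] at this
        norm_num [Nat.factorial] at this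

end Cfsg.Agent.Simple168Maximal
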