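import Cfsg.Agent.Lib.PSL2BinaryDihedral34
import Cfsg.Agent.Lib.DicksonDihedralMax
import Cfsg.Agent.Lib.PermPrimeDegree
import Cfsg.Agent.Lib.Simple168Maximal
import Cfsg.Agent.Lib.Simple168Classes

/-!
Coset actions of `PSL(2,q)` on subgroups isomorphic to `A₄`, `S₄`, `A₅` of order prime to `q`.
-/

set_option autoImplicit false

namespace Cfsg.Agent.PSL2Binary34

open scoped MatrixGroups
open Matrix Cfsg.Agent.PSL2Elements Cfsg.Agent.PSL2Proj52
open Cfsg.Agent.SuzukiBinary Cfsg.Agent.BinaryFix34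

variable {F : Type*} [Field F]

set_option quotPrecheck false
local notation "G" => ProjectiveSpecialLinearGroup (Fin 2) F

/-- Facts about the subgroup: exceptional type. -/
def ExcType (H : Subgroup (ProjectiveSpecialLinearGroup (Fin 2) F)) : Prop :=
  Nonempty (H ≃* alternatingGroup (Fin 4)) ∨ Nonempty (H ≃* Equiv.Perm (Fin 4)) ∨
    Nonempty (H ≃* alternatingGroup (Fin 5))

theorem card_exc {H : Subgroup G} :
    (Nonempty (H ≃* alternatingGroup (Fin 4)) → Nat.card H = 12) ∧
    (Nonempty (H ≃* Equiv.Perm (Fin 4)) → Nat.card H = 24) ∧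
    (Nonempty (H ≃* alternatingGroup (Fin 5)) → Nat.card H = 60) := by
  refine ⟨?_, ?_, ?_⟩ <;> intro he <;> obtain ⟨e⟩ := he
  · rw [Nat.card_congr e.toEquiv, nat_card_alternatingGroup]; simp [Nat.factorial]
  · rw [Nat.card_congr e.toEquiv, Nat.card_perm]; simp [Nat.factorial]
  · rw [Nat.card_congr e.toEquiv, nat_card_alternatingGroup]; simp [Nat.factorial]

theorem exc_pow_cases {H : Subgroup G} (he : ExcType H) {g : G} (hg : g ∈ H) :
    g ^ 2 = 1 ∨ g ^ 3 = 1 ∨ g ^ 4 = 1 ∨ g ^ 5 = 1 := by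
  have key : ∀ {K : Type} [Group K] (e : H ≃* K) (n : ℕ), e ⟨g, hg⟩ ^ n = 1 → g ^ n = 1 := by
    intro K _ e n h
    rw [← map_pow, e.map_eq_one_iff] at h
    exact congrArg Subtype.val h
  rcases he with h' | h' | h' <;> obtain ⟨e⟩ := h'
  · rcases DicksonTorus.A4_pow_cases (e ⟨g, hg⟩) with h | h
    exacts [Or.inl (key e 2 h), Or.inr (Or.inl (key e 3 h))]
  · rcases DicksonTorus.S4_pow_cases (e ⟨g, hg⟩) with h | h
    exacts [Or.inr (Or.inl (key e 3 h)), Or.inr (Or.inr (Or.inl (key e 4 h)))]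
  · rcases DicksonTorus.A5_pow_cases (e ⟨g, hg⟩) with h | h | h
    exacts [Or.inl (key e 2 h), Or.inr (Or.inl (key e 3 h)), Or.inr (Or.inr (Or.inr (key e 5 h)))]

theorem three_dvd_exc {H : Subgroup G} (he : ExcType H) : 3 ∣ Nat.card H := by
  rcases he with h | h | h
  · rw [card_exc.1 h]; norm_num
  · rw [card_exc.2.1 h]; norm_num
  · rw [card_exc.2.2 h]; norm_num

/-- The generic exceptional case. -/
theorem exc_generic [Finite F] (p : ℕ) [Fact p.Prime] [CharP F p] (h2 : (2 : F) ≠ 0)
    (hq : 8 ≤ Nat.card F) {H : Subgroup G} (hH : H ≠ ⊤) (hsemi : SemiSub H) (he : ExcType H)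
    (hB : Binary H) :
    (Nonempty (H ≃* Equiv.Perm (Fin 4)) ∨ Nonempty (H ≃* alternatingGroup (Fin 5))) ∧
      (Nat.card F = 11 ∨ Nat.card F = 13) := by
  have : Fact (Nat.Prime 3) := ⟨Nat.prime_three⟩
  obtain ⟨⟨a, haH⟩, ha3'⟩ := (exists_prime_orderOf_dvd_card' 3 (three_dvd_exc he) : ∃ x : H, orderOf x = 3)
  rw [← Subgroup.orderOf_coe] at ha3'
  change orderOf a = 3 at ha3'
  obtain ⟨A, rfl⟩ := π_surjective a
  have ha1 : π A ≠ 1 := fun e => by rw [e, orderOf_one] at ha3'; norm_num at ha3'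
  have ht0 : tr A ≠ 0 := fun h => by
    have := orderOf_dvd_of_pow_eq_one (show π A ^ 2 = 1 by rw [pow_two]; exact sq_one_of_tr_zero h2 h)
    rw [ha3'] at this
    norm_num at this
  have h4 := hsemi A haH ha1
  have hAc : A ∉ Subgroup.center SL(2, F) := fun hc => ha1 ((QuotientGroup.eq_one_iff A).2 hc)
  by_cases hgood : Good H A
  · exact absurd hB (not_binary_of_good (hasFix_of_mem haH) hgood h4 fun h => absurd h h2)
  rw [Good] at hgood
  push Not at hgood
  obtain ⟨B, hBK, hBne⟩ := hgood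
  set K := fixSub H (π A) with hK
  have hKH : K ≤ H := le_of_mem haH
  have hBne' : π B * π A ≠ π A * π B := fun e => hBne (strict_commute e (Or.inr ht0))
  -- the torus
  obtain ⟨hcyc, hcard⟩ := centralizer_semisimple h4
  obtain ⟨⟨C, hCA⟩, hCgen⟩ := IsCyclic.exists_generator (α := Subgroup.centralizer ({A} : Set SL(2, F)))
  have hCA' : C * A = A * C := Subgroup.mem_centralizer_singleton_iff.1 hCA
  have hgen : ∀ D : SL(2, F), D * A = A * D → ∃ i : ℤ, C ^ i = D := by
    intro D hD
    obtain ⟨i, hi⟩ := hCgen ⟨D, Subgroup.mem_centralizer_singleton_iff.2 hD⟩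
    exact ⟨i, by simpa using congrArg Subtype.val hi⟩
  set N := orderOf C with hN
  have hNcard : N = Nat.card (Subgroup.centralizer ({A} : Set SL(2, F))) := by
    rw [hN, show orderOf C = orderOf (⟨C, hCA⟩ : Subgroup.centralizer ({A} : Set SL(2, F))) from
      Subgroup.orderOf_coe ⟨C, hCA⟩, orderOf_eq_card_of_forall_mem_zpowers hCgen]
  have hNq : N = Nat.card F - 1 ∨ N = Nat.card F + 1 := by
    rw [hNcard]; exact hcard.imp (fun h => h.2) (fun h => h.2)
  have hodd : Odd (Nat.card F) := by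
    by_contra h
    exact h2 (two_eq_of_even (Nat.not_odd_iff_even.1 h))
  have hdd : Nat.gcd 2 (Nat.card F - 1) = 2 := by
    rcases gcd_eq (F := F) with ⟨-, h⟩ | ⟨h, -⟩
    · exact h
    · exact absurd hodd (Nat.not_odd_iff_even.2 h)
  obtain ⟨j, hj⟩ := hodd
  have hdN : Nat.gcd 2 (Nat.card F - 1) ∣ N := by rw [hdd]; rcases hNq with h | h <;> rw [h] <;> omega
  set k := N / 2 with hk
  have hg0 : orderOf (π C) = k := by rw [orderOf_π hdN hN.symm, hdd]
  have hk3 : 3 ≤ k := by rcases hNq with h | h <;> omega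
  have hpN : ¬ p ∣ N := by
    obtain ⟨n, hn0, hn⟩ := PSL2Sylow.card_field_eq (F := F) p
    have hpq : p ∣ Nat.card F := hn ▸ dvd_pow_self p (by omega)
    intro hp
    refine (Fact.out : p.Prime).one_lt.ne' (Nat.dvd_one.1 ?_)
    rcases hNq with h | h <;> rw [h] at hp
    · have := Nat.dvd_sub hpq hp
      rwa [show Nat.card F - (Nat.card F - 1) = 1 by omega] at this
    · exact (Nat.dvd_add_right hpq).1 hp
  have hC4 : tr C ^ 2 ≠ 4 := by
    intro h
    have hcases : (tr C - 2) * (tr C + 2) = 0 := by linear_combination h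
    have hp2 : C ^ (2 * p) = 1 := by
      rw [mul_comm, pow_mul, pow_two]
      rcases mul_eq_zero.1 hcases with e | e
      · rw [pow_char p (sub_eq_zero.1 e), mul_one]
      · have h1 : (-C) ^ p = 1 := pow_char p (by rw [tr_neg]; linear_combination -e)
        have hpodd : Odd p := (Fact.out : p.Prime).odd_of_ne_two fun e' => h2 (by
          subst e'; exact_mod_cast CharP.cast_eq_zero F 2)
        rw [hpodd.neg_pow, neg_eq_iff_eq_neg] at h1
        rw [h1, neg_mul_neg, mul_one]
    have hd := orderOf_dvd_of_pow_eq_one hp2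
    rw [← hN] at hd
    have := Nat.Coprime.dvd_of_dvd_mul_right ((Nat.Prime.coprime_iff_not_dvd Fact.out).2 hpN).symm hd
    have := Nat.le_of_dvd two_pos this
    omega
  obtain ⟨W, hW⟩ := isConj_iff.1 (isConj_inv h4)
  have hCc : C ∉ Subgroup.center SL(2, F) := fun hc => hC4 (tr_sq_eq_four_of_mem_center hc)
  have hWC : W * C * W⁻¹ = C⁻¹ := by
    have hcomA : W * C * W⁻¹ * A = A * (W * C * W⁻¹) := by
      have h1 : Commute (W * C * W⁻¹) (W * A * W⁻¹) := by
        show _ = _
        calc W * C * W⁻¹ * (W * A * W⁻¹) = W * (C * A) * W⁻¹ := by group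
          _ = W * A * W⁻¹ * (W * C * W⁻¹) := by rw [hCA']; group
      rw [hW] at h1
      exact (Commute.inv_right_iff.1 h1).eq
    rcases eq_or_inv_of_commute (commute_trans hAc hcomA hCA') (tr_conj W C) hC4 with e | e
    · exfalso
      have hWA : W * A = A * W := commute_trans hCc (mul_inv_eq_iff_eq_mul.1 e) hCA'.symm
      rw [hWA, mul_inv_cancel_right] at hW
      have hsq : π A * π A = 1 := by
        nth_rewrite 2 [hW]
        rw [map_inv, mul_inv_cancel]
      exact ht0 (tr_zero_of_sq_one h2 ha1 hsq)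
    · exact e
  have hgh : π W * π C * (π W)⁻¹ = (π C)⁻¹ := by
    rw [← map_inv, ← map_inv, ← map_mul, ← map_mul, hWC]
  have haz : π A ∈ Subgroup.zpowers (π C) := by
    obtain ⟨i, hi⟩ := hgen A rfl
    exact ⟨i, by simp only; rw [← map_zpow, hi]⟩
  have h3k : 3 ∣ k := by
    rw [← hg0, ← Nat.card_zpowers, ← ha3']
    exact Subgroup.orderOf_dvd_natCard _ haz
  -- the normaliser of the stabiliser
  set M := Subgroup.normalizer (K : Set G) with hM
  have hnorm : ∀ c : G, (∀ g ∈ K, c * g * c⁻¹ ∈ K) → (∀ g ∈ K, c⁻¹ * g * c ∈ K) → c ∈ M := fun c h h' =>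
    Subgroup.mem_normalizer_iff.2 fun g => ⟨h g, fun hg => by simpa [mul_assoc] using h' _ hg⟩
  have hCM : π C ∈ M := hnorm _
    (fun g hg => conj_mem_of_commute _ (by rw [← map_mul, ← map_mul, hCA']) hg)
    (fun g hg => by
      have := conj_mem_of_commute (π C)⁻¹ ((show Commute (π C) (π A) by
        show _ = _; rw [← map_mul, ← map_mul, hCA']).inv_left.eq) hg
      rwa [inv_inv] at this)
  have hWA' : π W * π A * (π W)⁻¹ = (π A)⁻¹ := by rw [← map_inv, ← map_inv, ← map_mul, ← map_mul, hW]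
  have hWM : π W ∈ M := hnorm _ (fun g hg => conj_mem_of_invert _ hWA' hg) (fun g hg => by
    have := conj_mem_of_invert (π W)⁻¹ (by
      have h' := congrArg (fun z => ((π W)⁻¹ * z * π W)⁻¹) hWA'
      beta_reduce at h'
      rw [show ((π W)⁻¹ * (π W * π A * (π W)⁻¹) * π W)⁻¹ = (π A)⁻¹ by group] at h'
      rw [h']; group) hg
    rwa [inv_inv] at this)
  have hMtop : M ≠ ⊤ := by
    intro h
    have hsimple : IsSimpleGroup G := PSLSimple.isSimpleGroup_PSL_fin' le_rfl fun _ => by omega
    rcases (Subgroup.normalizer_eq_top_iff.1 h).eq_bot_or_eq_top with e | e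
    · exact ha1 (Subgroup.mem_bot.1 (e ▸ self_mem H (π A) : π A ∈ (⊥ : Subgroup G)))
    · exact hH (eq_top_iff.2 (e ▸ hKH))
  have h9 : Nat.card F ≠ 9 := by
    intro h9
    obtain ⟨n, hn0, hn⟩ := PSL2Sylow.card_field_eq (F := F) p
    have hp3 : p = 3 := ((Nat.prime_dvd_prime_iff_eq Nat.prime_three Fact.out).1
      (Nat.prime_three.dvd_of_dvd_pow (show 3 ∣ p ^ n by rw [← hn, h9]; norm_num))).symm
    exact hpN (hp3 ▸ h3k.trans (Nat.div_dvd_of_dvd (hdd ▸ hdN)))
  have hMcard : Nat.card M = 2 * k := by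
    refine DicksonDihedralMax.card_eq_of_le p (by omega) hg0 hgh hk3 ?_ hCM hWM hMtop
    rcases hNq with h | h
    · refine Or.inr ⟨by rw [hk, h]; show _ = _ / Nat.gcd 2 _; rw [hdd], ?_⟩
      simp only [Finset.mem_insert, Finset.mem_singleton, not_or]
      refine ⟨by omega, h9, fun h11 => ?_⟩
      rw [hk, h, h11] at h3k
      norm_num at h3k
    · exact Or.inl ⟨by rw [hk, h]; show _ = _ / Nat.gcd 2 _; rw [hdd], by omega, h9⟩
  have hgM : π B ∈ M := Subgroup.le_normalizer hBK
  let Z := (Subgroup.zpowers (π C)).subgroupOf M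
  have hZi : Z.index = 2 := by
    have h1 : Nat.card Z = k := by
      rw [Nat.card_congr (Subgroup.subgroupOfEquivOfLe (Subgroup.zpowers_le.2 hCM)).toEquiv,
        Nat.card_zpowers, hg0]
    have := Z.card_mul_index
    rw [h1, hMcard, mul_comm 2 k] at this
    exact Nat.eq_of_mul_eq_mul_left (by omega) this
  have hWZ : π W ∉ Subgroup.zpowers (π C) := by
    rintro ⟨i, hi⟩
    simp only at hi
    rw [← hi, (Commute.refl (π C)).zpow_left i |>.eq, mul_inv_cancel_right] at hgh
    have := orderOf_dvd_of_pow_eq_one (show π C ^ 2 = 1 by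
      rw [pow_two]; nth_rewrite 2 [hgh]; rw [mul_inv_cancel])
    rw [hg0] at this
    have := Nat.le_of_dvd two_pos this
    omega
  have hBZ : π B ∉ Subgroup.zpowers (π C) := by
    rintro ⟨i, hi⟩
    simp only at hi
    exact hBne' (by
      rw [← hi]
      exact ((show Commute (π C) (π A) by show _ = _; rw [← map_mul, ← map_mul, hCA']).zpow_left i).eq)
  obtain ⟨i, hi⟩ : (π W)⁻¹ * π B ∈ Subgroup.zpowers (π C) := by
    have h := (Subgroup.mul_mem_iff_of_index_two hZi (a := (⟨π W, hWM⟩ : M)⁻¹) (b := ⟨π B, hgM⟩)).2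
      ⟨fun h => absurd (Subgroup.mem_subgroupOf.1 (inv_mem_iff.1 h)) hWZ,
        fun h => absurd (Subgroup.mem_subgroupOf.1 h) hBZ⟩
    exact Subgroup.mem_subgroupOf.1 h
  simp only at hi
  have hBA : π B * π A * (π B)⁻¹ = (π A)⁻¹ := by
    rw [show π B = π W * π C ^ i by rw [hi, mul_inv_cancel_left]]
    have hc : π C ^ i * π A = π A * π C ^ i :=
      ((show Commute (π C) (π A) by show _ = _; rw [← map_mul, ← map_mul, hCA']).zpow_left i).eq
    rw [show π W * π C ^ i * π A * (π W * π C ^ i)⁻¹ = π W * (π C ^ i * π A * (π C ^ i)⁻¹) * (π W)⁻¹ by group,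
      hc, mul_inv_cancel_right, hWA']
  have hA4 : ¬ Nonempty (H ≃* alternatingGroup (Fin 4)) := by
    rintro ⟨e⟩
    have h := DicksonTorus.A4_not_inverted (e ⟨π A, haH⟩) (e ⟨π B, hKH hBK⟩) (by
      rw [← map_inv, ← map_inv, ← map_mul, ← map_mul]
      exact congrArg e (Subtype.ext hBA))
    rw [← map_mul, e.map_eq_one_iff] at h
    have := orderOf_dvd_of_pow_eq_one
      (show π A ^ 2 = 1 by rw [pow_two]; exact congrArg Subtype.val h)
    rw [ha3'] at this
    norm_num at this
  have hsq : π C ^ 2 ∈ H := by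
    have h1 : π C * π B * (π C)⁻¹ * (π B)⁻¹ ∈ K :=
      mul_mem (conj_mem_of_commute _ (by rw [← map_mul, ← map_mul, hCA']) hBK) (inv_mem hBK)
    refine hKH ?_
    convert h1 using 1
    rw [show π B = π W * π C ^ i by rw [hi, mul_inv_cancel_left],
      show π C * (π W * π C ^ i) * (π C)⁻¹ * (π W * π C ^ i)⁻¹ =
        π C * (π W * π C * (π W)⁻¹)⁻¹ by group, hgh, inv_inv, pow_two]
  have hle : orderOf (π C ^ 2) ≤ 5 := by
    rcases exc_pow_cases he hsq with h | h | h | h <;>
      exact (Nat.le_of_dvd (by norm_num) (orderOf_dvd_of_pow_eq_one h)).trans (by norm_num)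
  rw [orderOf_pow' _ two_ne_zero, hg0] at hle
  refine ⟨?_, ?_⟩
  · rcases he with h | h | h
    exacts [absurd h hA4, Or.inl h, Or.inr h]
  · obtain ⟨c, hc⟩ := h3k
    rcases Nat.even_or_odd k with ⟨b, hb⟩ | ⟨b, hb⟩
    · rw [Nat.gcd_eq_right (⟨b, by omega⟩ : 2 ∣ k)] at hle
      rcases hNq with h | h <;> omega
    · rw [show k.gcd 2 = 1 from Nat.coprime_two_right.2 ⟨b, hb⟩, Nat.div_one] at hle
      rcases hNq with h | h <;> omega

theorem card_psl_odd [Finite F] {q n : ℕ} (hq : Nat.card F = q) (hn : q * (q ^ 2 - 1) / 2 = n)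
    (hodd : Odd q) : Nat.card G = n := by
  rw [PSLCard.card_PSL2_odd (hq ▸ hodd), hq, hn]

/-- Binary coset actions of prime degree. -/
theorem not_binary_of_prime_index [Finite F] (hq : 4 ≤ Nat.card F) {H : Subgroup G}
    (hprime : H.index.Prime) (hbig : Nat.card G < H.index.factorial) : ¬ Binary H := by
  intro hB
  have hsimple : IsSimpleGroup G := PSLSimple.isSimpleGroup_PSL_fin' le_rfl fun _ => hq
  let φ : G →* Equiv.Perm (G ⧸ H) := MulAction.toPermHom G (G ⧸ H)
  have : MulAction.IsPretransitive φ.range (G ⧸ H) := ⟨fun a b => by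
    obtain ⟨g, hg⟩ := MulAction.exists_smul_eq G a b
    exact ⟨⟨φ g, ⟨g, rfl⟩⟩, hg⟩⟩
  have h2 : MulAction.IsMultiplyPretransitive G (G ⧸ H) 2 := by
    rcases PermPrimeDegree.solvable_or_twoTransitive (α := G ⧸ H) hprime φ.range with h | h
    · exfalso
      rcases φ.normal_ker.eq_bot_or_eq_top with e | e
      · have hinj : Function.Injective φ.rangeRestrict := fun a b hab =>
          (MonoidHom.ker_eq_bot_iff φ).1 e (congrArg Subtype.val hab)
        have := Group.isSolvable_of_isSolvable_injective hinj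
        exact PSLSimple.not_isMulCommutative_PSL_fin le_rfl (fun _ => hq)
          (IsSimpleGroup.comm_iff_isSolvable.2 this)
      · refine hprime.ne_one (Subgroup.index_eq_one.2 (eq_top_iff.2 fun g _ => ?_))
        have hg : φ g = 1 := (e ▸ Subgroup.mem_top g : g ∈ φ.ker)
        have h' : g • ((1 : G) : G ⧸ H) = ((1 : G) : G ⧸ H) := by
          simpa [φ] using congrFun (congrArg (fun σ : Equiv.Perm (G ⧸ H) => (σ : _ → _)) hg) ((1 : G) : G ⧸ H)
        rw [smul_coe_eq_iff, Carries, mul_one, mul_one, inv_mem_iff] at h'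
        exact h'
    · rw [MulAction.is_two_pretransitive_iff] at h ⊢
      intro a b c d hab hcd
      obtain ⟨⟨_, g, rfl⟩, h1, h2⟩ := h hab hcd
      exact ⟨g, h1, h2⟩
  have := factorial_index_le hB hprime.two_le
  omega

/-- `A₄` in `PSL(2,7)`. -/
theorem not_binary_A4_seven [Finite F] (hq : Nat.card F = 7) {H : Subgroup G}
    (he : Nonempty (H ≃* alternatingGroup (Fin 4))) : ¬ Binary H := by
  classical
  intro hB
  have hsimple : IsSimpleGroup G := PSLSimple.isSimpleGroup_PSL_fin' le_rfl fun _ => by omega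
  have hG : Nat.card G = 168 := card_psl_odd hq (by norm_num) ⟨3, rfl⟩
  have hH : Nat.card H = 12 := card_exc.1 he
  have hHtop : H ≠ ⊤ := fun e => by rw [e, Subgroup.card_top, hG] at hH; norm_num at hH
  obtain ⟨U, hU, hHU⟩ := Simple168Maximal.le_normalizer_of_not_seven hG (M := H)
    (by rw [hH]; norm_num) hHtop
  have hN : Nat.card ↥(Subgroup.normalizer (U : Set G)) = 24 := by
    rcases (Simple168Maximal.main hG).1 _ (Simple168Maximal.isCoatom_normalizer hG hU) with ⟨⟨e⟩⟩ | ⟨h, -⟩
    · rw [Nat.card_congr e.toEquiv, Nat.card_perm]; simp [Nat.factorial]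
    · have := Subgroup.card_dvd_of_le hHU
      rw [hH, h] at this
      norm_num at this
  set N := Subgroup.normalizer (H : Set G)
  have hUN : Subgroup.normalizer (U : Set G) ≤ N := by
    have h2 : (H.subgroupOf (Subgroup.normalizer (U : Set G))).index = 2 := by
      have := (H.subgroupOf (Subgroup.normalizer (U : Set G))).card_mul_index
      rw [Nat.card_congr (Subgroup.subgroupOfEquivOfLe hHU).toEquiv, hH, hN] at this
      omega
    intro n hn
    have hnorm := Subgroup.normal_of_index_eq_two h2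
    refine Subgroup.mem_normalizer_iff.2 fun g => ⟨fun hg => ?_, fun hg => ?_⟩
    · exact Subgroup.mem_subgroupOf.1
        (hnorm.conj_mem ⟨g, hHU hg⟩ (Subgroup.mem_subgroupOf.2 hg) ⟨n, hn⟩)
    · have h := Subgroup.mem_subgroupOf.1
        (hnorm.conj_mem ⟨n * g * n⁻¹, hHU hg⟩ (Subgroup.mem_subgroupOf.2 hg) ⟨n, hn⟩⁻¹)
      simpa [mul_assoc] using h
  have hidx : N.index ≤ 7 := by
    have h1 := N.card_mul_index
    have h3 : 24 ≤ Nat.card N := hN ▸ Subgroup.card_le_of_le hUN
    rw [hG] at h1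
    nlinarith
  -- every element of order two or three lies in exactly one conjugate
  let T := {g : G // orderOf g = 2 ∨ orderOf g = 3}
  let P := (G ⧸ N) × {w : H // w ≠ 1}
  let f : P → G := fun x => x.1.out * (x.2.1 : G) * x.1.out⁻¹
  have hconj : ∀ g : G, orderOf g = 2 ∨ orderOf g = 3 → ∃ x : P, f x = g := by
    intro g hg
    obtain ⟨n, hn, hgn⟩ : ∃ n : ℕ, (n = 2 ∨ n = 3) ∧ orderOf g = n := ⟨_, hg, rfl⟩
    have : Fact n.Prime := ⟨by rcases hn with rfl | rfl <;> norm_num⟩
    obtain ⟨z, hz⟩ := (exists_prime_orderOf_dvd_card' n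
      (by rw [hH]; rcases hn with rfl | rfl <;> norm_num) : ∃ x : H, orderOf x = n)
    rw [← Subgroup.orderOf_coe] at hz
    obtain ⟨c, hc⟩ : ∃ c, c * (z : G) * c⁻¹ = g := by
      rcases hn with rfl | rfl
      · exact isConj_iff.1 ((Simple168Classes.two_four hG).2.2.1 _ _ hz hgn)
      · exact isConj_iff.1 (Simple168Classes.isConj_three hG hz hgn)
    have hout : (QuotientGroup.mk (s := N) c).out⁻¹ * c ∈ N := by
      rw [← QuotientGroup.eq, QuotientGroup.out_eq']
    set n' := (QuotientGroup.mk (s := N) c).out⁻¹ * c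
    refine ⟨(QuotientGroup.mk c, ⟨⟨n' * z * n'⁻¹, (Subgroup.mem_normalizer_iff.1 hout _).1 z.2⟩, fun e => ?_⟩), ?_⟩
    · have e' : n' * (z : G) * n'⁻¹ = 1 := congrArg Subtype.val e
      rw [conj_eq_one_iff] at e'
      rw [e', orderOf_one] at hz
      omega
    · show _ * (n' * (z : G) * n'⁻¹) * _ = g
      rw [← hc]
      simp only [n']
      group
  have hT : Nat.card T = 77 := by
    have h1 := Simple168Classes.card_orderOf_three hG
    have h2 := (Simple168Classes.two_four hG).1
    rw [show Nat.card T = Nat.card ({g : G // orderOf g = 2} ⊕ {g : G // orderOf g = 3}) from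
      Nat.card_congr (subtypeOrEquiv (fun g : G => orderOf g = 2) (fun g => orderOf g = 3) (by
        intro P' h2 h3 g hg
        have e2 : orderOf g = 2 := h2 g hg
        have e3 : orderOf g = 3 := h3 g hg
        omega)), Nat.card_sum, h1, h2]
  have hfT : ∀ x : P, orderOf (f x) = 2 ∨ orderOf (f x) = 3 := by
    intro x
    rw [show f x = MulAut.conj x.1.out (x.2.1 : G) from rfl, MulEquiv.orderOf_eq, Subgroup.orderOf_coe]
    obtain ⟨e⟩ := he
    have hw : x.2.1 ≠ 1 := x.2.2
    rcases DicksonTorus.A4_pow_cases (e x.2.1) with h | h <;> rw [← map_pow, e.map_eq_one_iff] at h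
    · exact Or.inl (orderOf_eq_prime h hw)
    · exact Or.inr (orderOf_eq_prime h hw)
  let f' : P → T := fun x => ⟨f x, hfT x⟩
  have hsurj : Function.Surjective f' := fun g => by
    obtain ⟨x, hx⟩ := hconj g.1 g.2
    exact ⟨x, Subtype.ext hx⟩
  have hP : Nat.card P ≤ 77 := by
    have : Fintype H := Fintype.ofFinite H
    have hw : Nat.card {w : H // w ≠ 1} = 11 := by
      rw [Nat.card_eq_fintype_card, Fintype.card_subtype_compl, Fintype.card_subtype_eq,
        ← Nat.card_eq_fintype_card, hH]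
    rw [Nat.card_prod, hw]
    rw [Subgroup.index] at hidx
    omega
  have hinj : Function.Injective f' :=
    (Nat.bijective_iff_surjective_and_card f').2 ⟨hsurj,
      le_antisymm (hP.trans hT.ge) (Nat.card_le_card_of_surjective f' hsurj)⟩ |>.1
  have hTI : ∀ {g c c' : G}, g ≠ 1 → c⁻¹ * g * c ∈ H → c'⁻¹ * g * c' ∈ H →
      (QuotientGroup.mk c : G ⧸ N) = QuotientGroup.mk c' := by
    intro g c c' hg h1 h2
    have key : ∀ c : G, c⁻¹ * g * c ∈ H → ∃ x : P, x.1 = QuotientGroup.mk c ∧ f x = g := by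
      intro c hc
      have hout : (QuotientGroup.mk (s := N) c).out⁻¹ * c ∈ N := by
        rw [← QuotientGroup.eq, QuotientGroup.out_eq']
      have hm := (Subgroup.mem_normalizer_iff.1 hout _).1 hc
      rw [show (QuotientGroup.mk (s := N) c).out⁻¹ * c * (c⁻¹ * g * c) *
        ((QuotientGroup.mk (s := N) c).out⁻¹ * c)⁻¹ =
        (QuotientGroup.mk (s := N) c).out⁻¹ * g * (QuotientGroup.mk (s := N) c).out by group] at hm
      refine ⟨(QuotientGroup.mk c, ⟨⟨_, hm⟩, fun e => hg ?_⟩), rfl, ?_⟩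
      · have e' := congrArg Subtype.val e
        simp only at e'
        calc g = (QuotientGroup.mk (s := N) c).out * ((QuotientGroup.mk (s := N) c).out⁻¹ * g *
            (QuotientGroup.mk (s := N) c).out) * (QuotientGroup.mk (s := N) c).out⁻¹ := by group
          _ = 1 := by rw [e']; simp
      · show _ * _ * _ = g
        group
    obtain ⟨x, hx, ex⟩ := key c h1
    obtain ⟨y, hy, ey⟩ := key c' h2
    rw [← hx, ← hy, hinj (Subtype.ext (ex.trans ey.symm) : f' x = f' y)]
  have hNH : ∀ {g c c' : G}, (QuotientGroup.mk c : G ⧸ N) = QuotientGroup.mk c' → c⁻¹ * g * c ∈ H →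
      c'⁻¹ * g * c' ∈ H := by
    intro g c c' e h
    have hn : c'⁻¹ * c ∈ N := QuotientGroup.eq.1 e.symm
    have := (Subgroup.mem_normalizer_iff.1 hn _).1 h
    rwa [show c'⁻¹ * c * (c⁻¹ * g * c) * (c'⁻¹ * c)⁻¹ = c'⁻¹ * g * c' by group] at this
  -- the triangle
  have : Fintype F := Fintype.ofFinite F
  have hc7 : (7 : F) = 0 := by
    have := Nat.cast_card_eq_zero F
    rw [← Nat.card_eq_fintype_card, hq] at this
    exact_mod_cast this
  have h5 : (5 : F) ≠ 0 := fun h => one_ne_zero (α := F) (by linear_combination 3 * h - 2 * hc7)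
  set X : SL(2, F) := mk2 3 0 0 5 (by linear_combination 2 * hc7)
  set Y : SL(2, F) := mk2 5 1 0 3 (by linear_combination 2 * hc7)
  have hfix : ∀ A : SL(2, F), tr A = 1 ∨ tr A = -1 → ∃ c : G, c⁻¹ * π A * c ∈ H := by
    intro A hA
    have hsq : tr A ^ 2 = 1 := by rcases hA with h | h <;> rw [h] <;> norm_num
    have h3 : π A ^ 3 = 1 := by
      rw [← map_pow, π_eq_one]
      have e : (A ^ 3).1 = (-tr A) • (1 : Matrix (Fin 2) (Fin 2) F) := by
        rw [coe_pow', pow_succ, pow_two, sq_eq, sub_mul, one_mul, smul_mul_assoc, sq_eq, smul_sub,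
          smul_smul, ← pow_two, hsq, one_smul, neg_smul]
        abel
      rcases hA with h | h
      · exact Or.inr (Subtype.ext (by rw [e, h, coe_neg', coe_one']; simp))
      · exact Or.inl (Subtype.ext (by rw [e, h, coe_one']; simp))
    have hne : π A ≠ 1 := fun h => by
      rcases (π_eq_one A).1 h with e | e <;> rw [e] at hsq <;> simp [tr] at hsq <;>
        exact one_ne_zero (α := F) (by grind)
    obtain ⟨x, hx⟩ := hconj (π A) (Or.inr (orderOf_eq_prime h3 hne))
    exact ⟨x.1.out, by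
      rw [← hx, show x.1.out⁻¹ * f x * x.1.out = (x.2.1 : G) by simp only [f]; group]; exact x.2.1.2⟩
  obtain ⟨i1, i2, i3, i4⟩ := inv_apply X
  obtain ⟨c, hc⟩ := hfix X (Or.inl (by simp [tr, X, mk2]; linear_combination hc7))
  obtain ⟨d, hd⟩ := hfix Y (Or.inl (by simp [tr, Y, mk2]; linear_combination hc7))
  obtain ⟨e, he'⟩ := hfix (X⁻¹ * Y) (Or.inr (by
    simp only [tr, mul_apply2, i1, i2, i3, i4]; simp [X, Y, mk2]; linear_combination 5 * hc7))
  rw [map_mul, map_inv] at he'
  have hYX : ¬ (c⁻¹ * π Y * c ∈ H) := by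
    intro h
    have hm := mul_mem h hc
    rw [show c⁻¹ * π Y * c * (c⁻¹ * π X * c) = c⁻¹ * π (Y * X) * c by rw [map_mul]; group] at hm
    have e1 : Y * X = u 5 := by
      apply ext2 <;> simp only [mul_apply2] <;> simp [X, Y, u, mk2] <;> linear_combination 2 * hc7
    rw [e1] at hm
    have h7 : π (u (5 : F)) ^ 7 = 1 := by
      rw [← map_pow, π_eq_one]
      left
      have e7 : (u (5 : F)) ^ 7 = u (7 * 5 : F) := by
        simp only [pow_succ, pow_zero, one_mul, u_mul]; congr 1; ring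
      rw [e7, hc7, zero_mul, u_zero]
    have hord : orderOf (⟨_, hm⟩ : H) ∣ 7 := orderOf_dvd_of_pow_eq_one (Subtype.ext (by
      show (c⁻¹ * π (u (5 : F)) * c) ^ 7 = 1
      rw [show c⁻¹ * π (u (5 : F)) * c = c⁻¹ * π (u (5 : F)) * c⁻¹⁻¹ by rw [inv_inv], conj_pow, h7]
      group))
    have h12 := (orderOf_dvd_natCard (⟨_, hm⟩ : H))
    rw [hH] at h12
    have h1 := orderOf_eq_one_iff.1 (Nat.eq_one_of_dvd_coprimes (by norm_num : Nat.Coprime 7 12) hord h12)
    have h1' : c⁻¹ * π (u (5 : F)) * c = 1 := congrArg Subtype.val h1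
    have : π (u (5 : F)) = 1 := by
      calc π (u (5 : F)) = c * (c⁻¹ * π (u (5 : F)) * c) * c⁻¹ := by group
        _ = 1 := by rw [h1']; simp
    rcases (π_eq_one _).1 this with e' | e' <;> have := congrArg (fun A : SL(2, F) => A.1 0 1) e' <;>
      simp [u, mk2] at this <;> exact h5 this
  obtain ⟨g, hg1, hg2, hg3⟩ := exists_of_binary hB ⟨c, hc⟩ (y := π Y)
  by_cases hg : g = 1
  · rw [hg, inv_one, one_mul] at hg3
    have hx1 : π X ≠ 1 := fun h => by
      rcases (π_eq_one X).1 h with e' | e' <;> have := congrArg (fun A : SL(2, F) => A.1 0 0) e' <;>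
        simp [X, mk2] at this
      · exact one_ne_zero (α := F) (by linear_combination (4 : F) * this - hc7)
      · exact one_ne_zero (α := F) (by linear_combination (2 : F) * this - hc7)
    have hec := hTI hx1 (hg3 e he') hc
    refine hYX ?_
    have := mul_mem hc (hNH hec he')
    rwa [show c⁻¹ * π X * c * (c⁻¹ * ((π X)⁻¹ * π Y) * c) = c⁻¹ * π Y * c by group] at this
  · exact hYX (hNH (hTI hg (hg1 c hc) (hg2 d hd)).symm hd)

/-- Exceptional subgroups. -/
theorem not_binary_of_exc [Finite F] (p : ℕ) [Fact p.Prime] [CharP F p] (h2 : (2 : F) ≠ 0)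
    (hq : 7 ≤ Nat.card F) {H : Subgroup G} (hH : H ≠ ⊤) (hsemi : SemiSub H) (he : ExcType H) :
    ¬ Binary H := by
  intro hB
  by_cases h7 : Nat.card F = 7
  · have hG : Nat.card G = 168 := card_psl_odd h7 (by norm_num) ⟨3, rfl⟩
    rcases he with h | h | h
    · exact not_binary_A4_seven h7 h hB
    · have hidx : H.index = 7 := by
        have := H.card_mul_index
        rw [card_exc.2.1 h, hG] at this
        omega
      exact not_binary_of_prime_index (by omega) (hidx ▸ by norm_num)
        (by rw [hidx, hG]; simp [Nat.factorial]) hB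
    · have := Subgroup.card_subgroup_dvd_card H
      rw [card_exc.2.2 h, hG] at this
      norm_num at this
  · obtain ⟨hs, hqq⟩ := exc_generic p h2 (by omega) hH hsemi he hB
    rcases hqq with h11 | h13
    · have hG : Nat.card G = 660 := card_psl_odd h11 (by norm_num) ⟨5, rfl⟩
      rcases hs with h | h
      · have := Subgroup.card_subgroup_dvd_card H
        rw [card_exc.2.1 h, hG] at this
        norm_num at this
      · have hidx : H.index = 11 := by
          have := H.card_mul_index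
          rw [card_exc.2.2 h, hG] at this
          omega
        exact not_binary_of_prime_index (by omega) (hidx ▸ by norm_num)
          (by rw [hidx, hG]; simp [Nat.factorial]) hB
    · have hG : Nat.card G = 1092 := card_psl_odd h13 (by norm_num) ⟨6, rfl⟩
      rcases hs with h | h <;> have := Subgroup.card_subgroup_dvd_card H
      · rw [card_exc.2.1 h, hG] at this
        norm_num at this
      · rw [card_exc.2.2 h, hG] at this
        norm_num at this

end Cfsg.Agent.PSL2Binary34
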