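import Cfsg.Agent.Lib.PSL2BinaryBasic34

/-!
The binary coset actions of `SL(2,2ⁿ)`.
-/

set_option autoImplicit false

namespace Cfsg.Agent.PSL2Binary34

open scoped MatrixGroups
open Matrix Cfsg.Agent.PSL2Elements Cfsg.Agent.PSL2Proj52
open Cfsg.Agent.SuzukiBinary Cfsg.Agent.BinaryFix34

variable {F : Type*} [Field F]

set_option quotPrecheck false
local notation "G" => ProjectiveSpecialLinearGroup (Fin 2) F

variable (F) in
/-- The image of the upper root group. -/
def uImage : Subgroup (ProjectiveSpecialLinearGroup (Fin 2) F) :=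
  (uHom : Multiplicative F →* SL(2, F)).range.map π

theorem mem_uImage {g : G} : g ∈ uImage F ↔ ∃ e : F, g = π (u e) := by
  constructor
  · rintro ⟨_, ⟨x, rfl⟩, rfl⟩
    exact ⟨x.toAdd, rfl⟩
  · rintro ⟨e, rfl⟩
    exact ⟨u e, ⟨Multiplicative.ofAdd e, rfl⟩, rfl⟩

/-- Nonzero vectors: the action on the cosets of a root group. -/
theorem binary_uImage (h2 : (2 : F) = 0) : Binary (uImage F) := by
  have hinj := π_injective_of_even h2
  rw [binary_iff]
  intro n a b hn hp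
  choose A hA using fun i => π_surjective (a i)
  choose B hB using fun i => π_surjective (b i)
  have key : ∀ (g : SL(2, F)) (i : Fin n), Carries (uImage F) (π g) (a i) (b i) ↔
      ((g * A i).1 0 0 = (B i).1 0 0 ∧ (g * A i).1 1 0 = (B i).1 1 0) := by
    intro g i
    rw [Carries, ← hA i, ← hB i, ← map_mul, ← map_inv, ← map_mul, mem_uImage]
    constructor
    · rintro ⟨e, he⟩
      have he' : B i = g * A i * u e := by rw [← hinj he, mul_inv_cancel_left]
      rw [he']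
      simp only [mul_apply2]
      simp [u, mk2]
    · rintro ⟨h0, h1⟩
      obtain ⟨i1, i2, i3, i4⟩ := inv_apply (g * A i)
      refine ⟨((g * A i)⁻¹ * B i).1 0 1, ?_⟩
      congr 1
      have hdB := det_eq (B i)
      have hd := det_eq (g * A i)
      apply ext2
      · rw [mul_apply2 _ _ 0 0, i1, i2, ← h0, ← h1]; simp [u, mk2]; linear_combination hd
      · simp [u, mk2]
      · rw [mul_apply2 _ _ 1 0, i3, i4, ← h0, ← h1]; simp [u, mk2]; ring
      · rw [mul_apply2 _ _ 1 1, i3, i4, h0, h1]; simp [u, mk2]; linear_combination hdB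
  have hp' : ∀ i j : Fin n, i ≠ j → ∃ g : SL(2, F),
      ((g * A i).1 0 0 = (B i).1 0 0 ∧ (g * A i).1 1 0 = (B i).1 1 0) ∧
      ((g * A j).1 0 0 = (B j).1 0 0 ∧ (g * A j).1 1 0 = (B j).1 1 0) := by
    intro i j hij
    obtain ⟨g, h1, h3⟩ := hp i j hij
    obtain ⟨g, rfl⟩ := π_surjective g
    exact ⟨g, (key g i).1 h1, (key g j).1 h3⟩
  suffices h : ∃ g : SL(2, F), ∀ i, (g * A i).1 0 0 = (B i).1 0 0 ∧ (g * A i).1 1 0 = (B i).1 1 0 by
    obtain ⟨g, hg⟩ := h
    exact ⟨π g, fun i => (key g i).2 (hg i)⟩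
  simp only [mul_apply2] at hp' ⊢
  let i₀ : Fin n := ⟨0, by omega⟩
  set v := fun i => (A i).1 0 0
  set v' := fun i => (A i).1 1 0
  by_cases hall : ∀ i, v i₀ * v' i - v' i₀ * v i = 0
  · refine ⟨B i₀ * (A i₀)⁻¹, fun i => ?_⟩
    obtain ⟨i1, i2, i3, i4⟩ := inv_apply (A i₀)
    have hd := det_eq (A i₀)
    have base : (B i₀ * (A i₀)⁻¹).1 0 0 * v i₀ + (B i₀ * (A i₀)⁻¹).1 0 1 * v' i₀ = (B i₀).1 0 0 ∧
        (B i₀ * (A i₀)⁻¹).1 1 0 * v i₀ + (B i₀ * (A i₀)⁻¹).1 1 1 * v' i₀ = (B i₀).1 1 0 := by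
      simp only [mul_apply2, i1, i2, i3, i4, v, v']
      exact ⟨by linear_combination (B i₀).1 0 0 * hd, by linear_combination (B i₀).1 1 0 * hd⟩
    by_cases hi : i₀ = i
    · rw [← hi]; exact base
    obtain ⟨g, ⟨g0, g0'⟩, g1, g1'⟩ := hp' i₀ i hi
    have hv0 : v i₀ ≠ 0 ∨ v' i₀ ≠ 0 := by
      by_contra hc
      push Not at hc
      simp only [v, v'] at hc
      rw [hc.1, hc.2] at hd
      simp at hd
    obtain ⟨c, hc0, hc1⟩ : ∃ c, v i = c * v i₀ ∧ v' i = c * v' i₀ := by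
      rcases hv0 with h | h
      · exact ⟨v i / v i₀, by field_simp, by field_simp; linear_combination hall i⟩
      · exact ⟨v' i / v' i₀, by field_simp; linear_combination -(hall i), by field_simp⟩
    simp only [v, v'] at hc0 hc1 base ⊢
    rw [hc0, hc1] at g1 g1'
    constructor
    · rw [← g1, hc0, hc1]; linear_combination c * base.1 - c * g0
    · rw [← g1', hc0, hc1]; linear_combination c * base.2 - c * g0'
  push Not at hall
  obtain ⟨j, hj⟩ := hall
  have h0j : i₀ ≠ j := fun e => hj (by rw [← e]; ring)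
  obtain ⟨g, ⟨g0, g0'⟩, gj, gj'⟩ := hp' i₀ j h0j
  refine ⟨g, fun i => ?_⟩
  by_cases hi : i₀ = i
  · rw [← hi]; exact ⟨g0, g0'⟩
  by_cases hij : j = i
  · rw [← hij]; exact ⟨gj, gj'⟩
  obtain ⟨p, ⟨p0, p0'⟩, pi, pi'⟩ := hp' i₀ i hi
  obtain ⟨q, ⟨qj, qj'⟩, qi, qi'⟩ := hp' j i hij
  have dg := det_eq g
  have dp := det_eq p
  have dq := det_eq q
  simp only [v, v'] at hj
  set x := g.1 0 0 * (A i).1 0 0 + g.1 0 1 * (A i).1 1 0 with hx
  set y := g.1 1 0 * (A i).1 0 0 + g.1 1 1 * (A i).1 1 0 with hy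
  have e0 : (B i₀).1 0 0 * (y - (B i).1 1 0) - (B i₀).1 1 0 * (x - (B i).1 0 0) = 0 := by
    have hl : (B i₀).1 0 0 * y - (B i₀).1 1 0 * x =
        (A i₀).1 0 0 * (A i).1 1 0 - (A i₀).1 1 0 * (A i).1 0 0 := by
      rw [← g0, ← g0', hx, hy]
      linear_combination ((A i₀).1 0 0 * (A i).1 1 0 - (A i₀).1 1 0 * (A i).1 0 0) * dg
    have hr : (B i₀).1 0 0 * (B i).1 1 0 - (B i₀).1 1 0 * (B i).1 0 0 =
        (A i₀).1 0 0 * (A i).1 1 0 - (A i₀).1 1 0 * (A i).1 0 0 := by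
      rw [← p0, ← p0', ← pi, ← pi']
      linear_combination ((A i₀).1 0 0 * (A i).1 1 0 - (A i₀).1 1 0 * (A i).1 0 0) * dp
    linear_combination hl - hr
  have e1 : (B j).1 0 0 * (y - (B i).1 1 0) - (B j).1 1 0 * (x - (B i).1 0 0) = 0 := by
    have hl : (B j).1 0 0 * y - (B j).1 1 0 * x =
        (A j).1 0 0 * (A i).1 1 0 - (A j).1 1 0 * (A i).1 0 0 := by
      rw [← gj, ← gj', hx, hy]
      linear_combination ((A j).1 0 0 * (A i).1 1 0 - (A j).1 1 0 * (A i).1 0 0) * dg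
    have hr : (B j).1 0 0 * (B i).1 1 0 - (B j).1 1 0 * (B i).1 0 0 =
        (A j).1 0 0 * (A i).1 1 0 - (A j).1 1 0 * (A i).1 0 0 := by
      rw [← qj, ← qj', ← qi, ← qi']
      linear_combination ((A j).1 0 0 * (A i).1 1 0 - (A j).1 1 0 * (A i).1 0 0) * dq
    linear_combination hl - hr
  have hD : (B i₀).1 0 0 * (B j).1 1 0 - (B i₀).1 1 0 * (B j).1 0 0 ≠ 0 := by
    intro h
    apply hj
    rw [← g0, ← g0', ← gj, ← gj'] at h
    linear_combination h - ((A i₀).1 0 0 * (A j).1 1 0 - (A i₀).1 1 0 * (A j).1 0 0) * dg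
  constructor
  · have : ((B i₀).1 0 0 * (B j).1 1 0 - (B i₀).1 1 0 * (B j).1 0 0) * (x - (B i).1 0 0) = 0 := by
      linear_combination (B j).1 0 0 * e0 - (B i₀).1 0 0 * e1
    exact sub_eq_zero.1 ((mul_eq_zero.1 this).resolve_left hD)
  · have : ((B i₀).1 0 0 * (B j).1 1 0 - (B i₀).1 1 0 * (B j).1 0 0) * (y - (B i).1 1 0) = 0 := by
      linear_combination (B j).1 1 0 * e0 - (B i₀).1 1 0 * e1
    exact sub_eq_zero.1 ((mul_eq_zero.1 this).resolve_left hD)

theorem comp_unique (h2 : (2 : F) = 0) (hroot : ∀ r : F, r ^ 2 + r + 1 ≠ 0) {Y : SL(2, F)}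
    (h1 : tr Y = 1) (h3 : tr (PSL2Elements.comp (1 : F) * Y) = 1) : Y = PSL2Elements.comp 1 := by
  have hd := det_eq Y
  rw [tr] at h1 h3
  simp only [mul_apply2] at h3
  simp [PSL2Elements.comp, mk2] at h3
  have hquad : Y.1 0 0 ^ 2 + Y.1 0 0 * (1 + Y.1 1 0) + (1 + Y.1 1 0) ^ 2 = 0 := by grind
  have hu : 1 + Y.1 1 0 = 0 := by
    by_contra hne
    exact hroot (Y.1 0 0 / (1 + Y.1 1 0)) (by field_simp; linear_combination hquad)
  have ha : Y.1 0 0 = 0 := by
    rw [hu] at hquad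
    simpa using hquad
  apply ext2 <;> simp [PSL2Elements.comp, mk2] <;> grind

theorem tr_of_three [Finite F] (h2 : (2 : F) = 0) {X : SL(2, F)} (h : X ^ 3 = 1) (hne : X ≠ 1) :
    tr X = 1 := by
  have hc : X ∉ Subgroup.center SL(2, F) := fun hc => by
    rcases (mem_center_iff X).1 hc with e | e
    · exact hne e
    · exact hne (by rw [e, neg_one_eq_one h2])
  rw [mem_center_iff_entries] at hc
  have h' := congrArg Subtype.val h
  rw [coe_pow', pow_succ, pow_two, sq_eq, sub_mul, one_mul, smul_mul_assoc, sq_eq, smul_sub, smul_smul,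
    coe_one'] at h'
  have e01 := congrFun (congrFun h' 0) 1
  have e10 := congrFun (congrFun h' 1) 0
  have e00 := congrFun (congrFun h' 0) 0
  have e11 := congrFun (congrFun h' 1) 1
  simp at e01 e10 e00 e11
  by_contra ht
  have hk : tr X * tr X - 1 ≠ 0 := fun hk => by
    have : (tr X - 1) * (tr X - 1) = 0 := by linear_combination hk - (tr X - 1) * h2
    exact ht (sub_eq_zero.1 (mul_self_eq_zero.1 this))
  refine hc ⟨?_, ?_, ?_⟩
  · exact (mul_eq_zero.1 (show (tr X * tr X - 1) * X.1 0 1 = 0 by linear_combination e01)).resolve_left hk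
  · exact (mul_eq_zero.1 (show (tr X * tr X - 1) * X.1 1 0 = 0 by linear_combination e10)).resolve_left hk
  · exact sub_eq_zero.1
      ((mul_eq_zero.1 (show (tr X * tr X - 1) * (X.1 0 0 - X.1 1 1) = 0 by
        linear_combination e00 - e11)).resolve_left hk)

/-- Subgroups of order three when `3 ∤ q - 1`. -/
theorem binary_three [Finite F] (h2 : (2 : F) = 0) (hroot : ∀ r : F, r ^ 2 + r + 1 ≠ 0)
    {H : Subgroup G} (hcard : Nat.card H = 3) : Binary H := by
  have hinj := π_injective_of_even h2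
  have : Fact (Nat.Prime 3) := ⟨Nat.prime_three⟩
  let P : G → Subgroup G := fun a => H.map (MulAut.conj a).toMonoidHom
  have hP : ∀ {a g : G}, g ∈ P a ↔ a⁻¹ * g * a ∈ H := fun {a g} => by
    rw [Subgroup.mem_map_equiv, MulAut.conj_symm_apply]
  have hPcard : ∀ a, Nat.card (P a) = 3 := fun a => by
    rw [← hcard]
    exact Nat.card_congr (H.equivMapOfInjective _ (MulAut.conj a).injective).toEquiv.symm
  have hgen : ∀ {a g : G}, g ∈ P a → g ≠ 1 → P a = Subgroup.zpowers g := by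
    intro a g hg h1
    have h3 : orderOf g = 3 := by
      have h := orderOf_dvd_natCard (⟨g, hg⟩ : P a)
      rw [hPcard, Subgroup.orderOf_mk] at h
      rcases (Nat.dvd_prime Nat.prime_three).1 h with h | h
      · exact absurd (orderOf_eq_one_iff.1 h) h1
      · exact h
    exact (Subgroup.eq_of_le_of_card_ge (Subgroup.zpowers_le.2 hg)
      (by rw [hPcard, Nat.card_zpowers, h3])).symm
  have htr : ∀ {a : G} {X : SL(2, F)}, π X ∈ P a → π X ≠ 1 → tr X = 1 := by
    intro a X hX h1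
    refine tr_of_three h2 (hinj ?_) fun e => h1 (by rw [e, map_one])
    rw [map_pow, map_one]
    have := pow_card_eq_one' (x := (⟨π X, hX⟩ : P a))
    rw [hPcard] at this
    exact congrArg Subtype.val this
  have hmid : ∀ {a a' a'' z z' : G}, z ∈ P a → z' ∈ P a' → z * z' ∈ P a'' → P a ≠ P a' →
      z = 1 ∨ z' = 1 := by
    intro a a' a'' z z' h h' h'' hne
    by_contra hc
    push Not at hc
    have hzz : z * z' ≠ 1 := fun e => by
      have hz : z ∈ P a' := by rw [eq_inv_of_mul_eq_one_left e]; exact inv_mem h'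
      exact hne ((hgen h hc.1).trans (hgen hz hc.1).symm)
    obtain ⟨Z, rfl⟩ := π_surjective z
    obtain ⟨Z', rfl⟩ := π_surjective z'
    rw [← map_mul] at h'' hzz
    have t1 := htr h hc.1
    have t2 := htr h' hc.2
    have t3 := htr h'' hzz
    have h4 : tr Z ^ 2 ≠ 4 := by
      rw [t1]; intro e; exact one_ne_zero (α := F) (by linear_combination e + 2 * h2)
    obtain ⟨D, hD⟩ := isConj_iff.1 (isConj_comp h4)
    rw [t1] at hD
    have hY := comp_unique h2 hroot (Y := D * Z' * D⁻¹) (by rw [tr_conj, t2]) (by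
      rw [← hD, show D * Z * D⁻¹ * (D * Z' * D⁻¹) = D * (Z * Z') * D⁻¹ by group, tr_conj, t3])
    rw [← hD] at hY
    have e : Z' = Z := mul_left_cancel (mul_right_cancel hY)
    rw [e] at h'
    exact hne ((hgen h hc.1).trans (hgen h' hc.1).symm)
  have hin : ∀ {g g' a b : G}, Carries H g a b → Carries H g' a b → g⁻¹ * g' ∈ P a := by
    intro g g' a b h h'
    have := mul_mem h (inv_mem h')
    rw [hP]
    rwa [show (g * a)⁻¹ * b * ((g' * a)⁻¹ * b)⁻¹ = a⁻¹ * (g⁻¹ * g') * a by group] at this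
  have hout : ∀ {g g' a b : G}, Carries H g' a b → g⁻¹ * g' ∈ P a → Carries H g a b := by
    intro g g' a b h hz
    have := mul_mem (hP.1 hz) h
    rwa [show a⁻¹ * (g⁻¹ * g') * a * ((g' * a)⁻¹ * b) = (g * a)⁻¹ * b by group] at this
  rw [binary_iff]
  intro n a b hn hp
  let i₀ : Fin n := ⟨0, by omega⟩
  by_cases hall : ∀ i, P (a i) = P (a i₀)
  · refine ⟨b i₀ * (a i₀)⁻¹, fun i => ?_⟩
    have h0 : Carries H (b i₀ * (a i₀)⁻¹) (a i₀) (b i₀) := by
      rw [Carries, inv_mul_cancel_right, inv_mul_cancel]; exact one_mem _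
    by_cases hi : i₀ = i
    · rw [← hi]; exact h0
    · obtain ⟨g, h1, h3⟩ := hp i₀ i hi
      exact hout h3 (hall i ▸ hin h0 h1)
  push Not at hall
  obtain ⟨j, hj⟩ := hall
  have h0j : i₀ ≠ j := fun e => hj (by rw [e])
  obtain ⟨g, hg0, hgj⟩ := hp i₀ j h0j
  refine ⟨g, fun i => ?_⟩
  by_cases hi : i₀ = i
  · rw [← hi]; exact hg0
  by_cases hji : j = i
  · rw [← hji]; exact hgj
  obtain ⟨g1, h10, h1i⟩ := hp i₀ i hi
  by_cases hpi : P (a i) = P (a i₀)
  · exact hout h1i (hpi ▸ hin hg0 h10)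
  obtain ⟨g2, h2j, h2i⟩ := hp j i hji
  have z1 := hin hg0 h10
  have z2 := hin h1i h2i
  have z3 := hin hgj h2j
  have key : g⁻¹ * g1 = 1 := by
    rcases hmid z1 z2 (a'' := a j) (by
      rw [show g⁻¹ * g1 * (g1⁻¹ * g2) = g⁻¹ * g2 by group]; exact z3) (Ne.symm hpi) with h | h
    · exact h
    · rw [inv_mul_eq_one] at h
      rw [← h] at z3
      by_contra hne
      exact hj ((hgen z3 hne).trans (hgen z1 hne).symm)
  rw [inv_mul_eq_one.mp key]
  exact h1i

end Cfsg.Agent.PSL2Binary34
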