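import Cfsg.Agent.Lib.PSL2BinaryExceptional34
import Cfsg.Agent.Lib.PSL2BinaryEven34
import Cfsg.Agent.Lib.PSL2BinaryPositive34
import Cfsg.Agent.Lib.DicksonPSL
import Cfsg.Agent.Lib.PSL2Sylow

/-!
The classification of the binary coset actions of `PSL(2,q)`.
-/

set_option autoImplicit false

namespace Cfsg.Agent.PSL2Binary34

open scoped MatrixGroups Pointwise
open Matrix Cfsg.Agent.PSL2Elements Cfsg.Agent.PSL2Proj52
open Cfsg.Agent.SuzukiBinary Cfsg.Agent.BinaryFix34

variable {F : Type*} [Field F]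

set_option quotPrecheck false
local notation "G" => ProjectiveSpecialLinearGroup (Fin 2) F

theorem card_uImage (h2 : (2 : F) = 0) : Nat.card (uImage F) = Nat.card F := by
  rw [uImage, Nat.card_congr ((uHom (F := F)).range.equivMapOfInjective π
    (π_injective_of_even h2)).toEquiv.symm]
  exact PSL2Sylow.card_uSub

theorem charP_two (h2 : (2 : F) = 0) : CharP F 2 :=
  CharTwo.of_one_ne_zero_of_two_eq_zero one_ne_zero h2

theorem exists_sylow_uImage [Finite F] (h2 : (2 : F) = 0) :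
    ∃ P : Sylow 2 G, (P : Subgroup G) = uImage F := by
  have := charP_two h2
  have : Fact (Nat.Prime 2) := ⟨Nat.prime_two⟩
  obtain ⟨P, hP⟩ := PSL2Sylow.exists_sylow_eq_uSub (F := F) 2
  exact ⟨P.mapSurjective (π_surjective (F := F)), by rw [Sylow.coe_mapSurjective, hP]; rfl⟩

theorem card_sylow_eq [Finite F] (h2 : (2 : F) = 0) (P : Sylow 2 G) :
    Nat.card P = Nat.card F := by
  have : Fact (Nat.Prime 2) := ⟨Nat.prime_two⟩
  obtain ⟨P₀, hP₀⟩ := exists_sylow_uImage h2
  have h := card_uImage (F := F) h2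
  rw [← hP₀, P₀.card_eq_multiplicity] at h
  rw [P.card_eq_multiplicity, h]

theorem binary_sylow [Finite F] (h2 : (2 : F) = 0) (P : Sylow 2 G) :
    Binary (P : Subgroup G) := by
  have : Fact (Nat.Prime 2) := ⟨Nat.prime_two⟩
  obtain ⟨P₀, hP₀⟩ := exists_sylow_uImage h2
  obtain ⟨g, rfl⟩ := MulAction.exists_smul_eq G P₀ P
  have h := (binary_uImage h2).map (MulAut.conj g)
  rw [← hP₀] at h
  exact h

theorem card_eq_pow_of_two [Finite F] (h2 : (2 : F) = 0) : ∃ a : ℕ, 0 < a ∧ Nat.card F = 2 ^ a := by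
  classical
  have := charP_two h2
  have := Fintype.ofFinite F
  obtain ⟨a, -, ha⟩ := FiniteField.card F 2
  exact ⟨a, a.pos, by rw [Nat.card_eq_fintype_card, ha]⟩

/-- Primitive cube roots of unity exist exactly when `3 ∣ q - 1`. -/
theorem root_iff [Finite F] (h3 : (3 : F) ≠ 0) :
    (∃ r : F, r ^ 2 + r + 1 = 0) ↔ 3 ∣ Nat.card F - 1 := by
  rw [← PSLCard.card_units_field F]
  constructor
  · rintro ⟨r, hr⟩
    have hr0 : r ≠ 0 := by rintro rfl; simp at hr
    have : Fact (Nat.Prime 3) := ⟨Nat.prime_three⟩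
    have h : orderOf (Units.mk0 r hr0) = 3 := orderOf_eq_prime
      (Units.ext (by push_cast [Units.val_mk0]; linear_combination (r - 1) * hr))
      (fun e => h3 (by
        have := congrArg Units.val e
        rw [Units.val_mk0, Units.val_one] at this
        rw [this] at hr
        linear_combination hr))
    exact h ▸ orderOf_dvd_natCard _
  · intro h
    have : Fact (Nat.Prime 3) := ⟨Nat.prime_three⟩
    obtain ⟨x, hx⟩ := exists_prime_orderOf_dvd_card' 3 h
    refine ⟨x, ?_⟩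
    have h1 : (x : F) ^ 3 = 1 := by
      rw [← Units.val_pow_eq_pow_val, ← hx, pow_orderOf_eq_one, Units.val_one]
    have h2 : (x : F) - 1 ≠ 0 := fun e => by
      have : x = 1 := Units.ext (by rw [Units.val_one]; exact sub_eq_zero.1 e)
      rw [this, orderOf_one] at hx
      norm_num at hx
    exact (mul_eq_zero.1 (show ((x : F) - 1) * ((x : F) ^ 2 + x + 1) = 0 by
      linear_combination h1)).resolve_left h2

theorem three_dvd_two_pow_sub_one (a : ℕ) : 3 ∣ 2 ^ a - 1 ↔ Even a := by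
  have key : 2 ^ a % 3 = if Even a then 1 else 2 := by
    induction a with
    | zero => simp
    | succ n ih => rw [pow_succ, Nat.mul_mod, ih]; by_cases h : Even n <;> simp [h, parity_simps]
  have h1 : 1 ≤ 2 ^ a := Nat.one_le_two_pow
  by_cases h : Even a <;> simp only [h, if_true, if_false] at key <;> simp only [h, iff_true, iff_false] <;>
    omega

theorem root_iff_even [Finite F] (h2 : (2 : F) = 0) {a : ℕ} (ha : Nat.card F = 2 ^ a) :
    (∃ r : F, r ^ 2 + r + 1 = 0) ↔ Even a := by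
  rw [root_iff (fun h => one_ne_zero (by linear_combination h - h2)), ha,
    three_dvd_two_pow_sub_one]

theorem map_conj_mem {H : Subgroup G} {c g : G} :
    g ∈ H.map (MulAut.conj c).toMonoidHom ↔ c⁻¹ * g * c ∈ H := by
  rw [Subgroup.mem_map_equiv, MulAut.conj_symm_apply]

theorem conj_ne_top {H : Subgroup G} (hH : H ≠ ⊤) (c : G) :
    H.map (MulAut.conj c).toMonoidHom ≠ ⊤ := fun e => hH (eq_top_iff.2 fun g _ => by
  have : c * g * c⁻¹ ∈ H.map (MulAut.conj c).toMonoidHom := e ▸ Subgroup.mem_top _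
  rw [map_conj_mem] at this
  simpa [mul_assoc] using this)

theorem card_conj (H : Subgroup G) (c : G) :
    Nat.card (H.map (MulAut.conj c).toMonoidHom) = Nat.card H :=
  (Nat.card_congr (H.equivMapOfInjective _ (MulAut.conj c).injective).toEquiv).symm

/-- A subgroup with a whole root group. -/
theorem root_case [Finite F] {H : Subgroup G} (hH : H ≠ ⊤) (hB : Binary H)
    (hU : ∀ e : F, π (u e) ∈ H) : (2 : F) = 0 ∧ Nat.card H = Nat.card F := by
  have key : ∀ A : SL(2, F), π A ∈ H → A.1 1 0 = 0 ∧ A.1 0 0 = A.1 1 1 := fun A hA =>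
    ⟨le_borel_of_roots hH hU hA, by_contra fun h => not_binary_of_borel hH hU hA h hB⟩
  have h2 : (2 : F) = 0 := by
    by_contra h2
    refine not_binary_of_good_u h2 one_ne_zero (hasFix_of_mem (hU 1)) (fun Y hY => ?_) hB
    obtain ⟨h1, h3⟩ := key Y (le_of_mem (hU 1) hY)
    apply ext2 <;> simp only [mul_apply2] <;> simp [u, mk2, h1, h3, add_comm]
  refine ⟨h2, ?_⟩
  rw [← card_uImage h2]
  congr 2
  refine le_antisymm (fun g hg => mem_uImage.2 ?_) fun g hg => ?_
  · obtain ⟨A, rfl⟩ := π_surjective g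
    obtain ⟨h1, h3⟩ := key A hg
    have hd := det_eq A
    rw [h1, mul_zero, sub_zero, ← h3] at hd
    have ha : A.1 0 0 = 1 := sub_eq_zero.1 ((pow_eq_zero_iff two_ne_zero).1
      (show (A.1 0 0 - 1) ^ 2 = 0 by linear_combination hd + (1 - A.1 0 0) * h2))
    refine ⟨A.1 0 1, congrArg π ?_⟩
    apply ext2 <;> simp [u, mk2, h1, ← h3, ha]
  · obtain ⟨e, rfl⟩ := mem_uImage.1 hg
    exact hU e

/-- A subgroup with a unipotent element. -/
theorem unipotent_case [Finite F] (hq : 4 ≤ Nat.card F) {H : Subgroup G} (hH : H ≠ ⊤) (hB : Binary H)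
    {r : F} (hr : r ≠ 0) (hrH : π (u r) ∈ H) : (2 : F) = 0 ∧ Nat.card H = Nat.card F := by
  by_cases hU : ∀ b : G, ∃ e : F, b⁻¹ * π (u e) * b ∉ H
  · exfalso
    by_cases h2 : (2 : F) = 0
    · by_cases hR : ∃ R : SL(2, F), π R ∈ H ∧ tr R ≠ 0
      · obtain ⟨R, hRH, hR⟩ := hR
        exact not_binary_even_mixed hq h2 hH hU hr hrH hRH hR hB
      push Not at hR
      refine not_binary_even_elem h2 (fun g hg => ?_) (fun e => ?_) ?_ hB
      · obtain ⟨A, rfl⟩ := π_surjective g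
        have h1 := hR A hg
        have h3 := hR (A * u r) (by rw [map_mul]; exact mul_mem hg hrH)
        have hc : A.1 1 0 = 0 := by
          simp only [tr, mul_apply2] at h1 h3
          simp [u, mk2] at h3
          exact (mul_eq_zero.1 (show A.1 1 0 * r = 0 by linear_combination h3 - h1)).resolve_right hr
        have hd := det_eq A
        rw [hc, mul_zero, sub_zero] at hd
        simp only [tr] at h1
        have ha : A.1 0 0 = 1 := sub_eq_zero.1 ((pow_eq_zero_iff two_ne_zero).1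
          (show (A.1 0 0 - 1) ^ 2 = 0 by
            linear_combination A.1 0 0 * h1 - hd - A.1 0 0 * h2))
        have hb : A.1 1 1 = 1 := by rwa [ha, one_mul] at hd
        refine ⟨A.1 0 1, congrArg π ?_⟩
        apply ext2 <;> simp [u, mk2, hc, hb, ha]
      · rw [e, Subgroup.mem_bot] at hrH
        rw [← map_one π] at hrH
        have h01 := congrArg (fun C : SL(2, F) => C.1 0 1) (π_injective_of_even h2 hrH)
        simp [u, mk2] at h01
        exact hr h01
      · obtain ⟨e, he⟩ := hU 1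
        exact ⟨e, by simpa using he⟩
    · exact not_binary_of_good_u h2 hr (hasFix_of_mem hrH) (good_u hq hH hr (hasFix_of_mem hrH) hU) hB
  · push Not at hU
    obtain ⟨b, hb⟩ := hU
    have h := root_case (conj_ne_top hH b) (hB.map _) fun e => map_conj_mem.2 (hb e)
    rwa [card_conj] at h

/-- A subgroup with a non-semisimple element. -/
theorem nonsemi_case [Finite F] (hq : 4 ≤ Nat.card F) {H : Subgroup G} (hH : H ≠ ⊤) (hB : Binary H)
    (h : ¬ SemiSub H) : (2 : F) = 0 ∧ Nat.card H = Nat.card F := by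
  unfold SemiSub at h
  push Not at h
  obtain ⟨X, hX, hX1, ht⟩ := h
  obtain ⟨X', hX', ht'⟩ : ∃ X' : SL(2, F), π X' = π X ∧ tr X' = 2 := by
    rcases mul_eq_zero.1 (show (tr X - 2) * (tr X + 2) = 0 by linear_combination ht) with h | h
    · exact ⟨X, rfl, sub_eq_zero.1 h⟩
    · exact ⟨-X, π_neg X, by rw [tr_neg]; linear_combination -h⟩
  obtain ⟨x, hx⟩ := isConj_u_of_tr_two ht'
  obtain ⟨C, hC⟩ := isConj_iff.1 hx
  have hx0 : x ≠ 0 := by
    rintro rfl
    rw [u_zero, mul_inv_eq_one] at hC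
    exact hX1 (by rw [← hX', show X' = 1 from by simpa using hC, map_one])
  have h := unipotent_case hq (conj_ne_top hH (π C)) (hB.map _) hx0 (map_conj_mem.2 (by
    rw [← hC, ← map_inv, ← map_mul, ← map_mul,
      show C⁻¹ * (C * X' * C⁻¹) * C = X' by group, hX']
    exact hX))
  rwa [card_conj] at h

theorem not_dvd_card_of_semi [Finite F] (p : ℕ) [hp : Fact p.Prime] [CharP F p] {H : Subgroup G}
    (hsemi : SemiSub H) : ¬ p ∣ Nat.card H := by
  intro h
  obtain ⟨⟨g, hg⟩, hord⟩ := exists_prime_orderOf_dvd_card' p h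
  obtain ⟨X, rfl⟩ := π_surjective g
  rw [Subgroup.orderOf_mk] at hord
  have hne : π X ≠ 1 := fun e => hp.out.one_lt.ne' (by rw [← hord, e, orderOf_one])
  have h4 := hsemi X hg hne
  have key : ∀ n, X ^ n = 1 → p ∣ n := fun n hn =>
    hord ▸ orderOf_dvd_of_pow_eq_one (by rw [← map_pow, hn, map_one])
  obtain ⟨a, ha, hq⟩ := PSL2Sylow.card_field_eq (F := F) p
  have hpq : p ∣ Nat.card F := hq ▸ dvd_pow_self p (by omega)
  have h1 := PSLCard.one_lt_card F
  refine hp.out.one_lt.ne' (Nat.dvd_one.1 ?_)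
  rcases pow_trichotomy p X with ⟨e, -⟩ | ⟨e, -⟩ | e | e
  · exact absurd (by rw [e]; norm_num) h4
  · exact absurd (by rw [e]; norm_num) h4
  · have := Nat.dvd_sub hpq (key _ e)
    rwa [show Nat.card F - (Nat.card F - 1) = 1 by omega] at this
  · have := Nat.dvd_sub (key _ e) hpq
    rwa [show Nat.card F + 1 - Nat.card F = 1 by omega] at this

theorem dihedral_case [Finite F] {H : Subgroup G} (h2 : (2 : F) ≠ 0) (hq : 7 ≤ Nat.card F)
    (hsemi : SemiSub H) {k : ℕ} (e : H ≃* DihedralGroup k) : ¬ Binary H := by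
  let R : Subgroup G := ((Subgroup.zpowers (DihedralGroup.r (1 : ZMod k))).comap e.toMonoidHom).map H.subtype
  have hR : ∀ (g : G) (hg : g ∈ H), g ∈ R ↔ ∃ i, e ⟨g, hg⟩ = DihedralGroup.r i := by
    intro g hg
    constructor
    · rintro ⟨x, hx, rfl⟩
      obtain ⟨i, hi⟩ := Subgroup.mem_zpowers_iff.1 hx
      rw [DihedralGroup.r_one_zpow] at hi
      exact ⟨(i : ZMod k), hi.symm⟩
    · rintro ⟨i, hi⟩
      refine ⟨⟨g, hg⟩, Subgroup.mem_zpowers_iff.2 ?_, rfl⟩
      obtain ⟨j, rfl⟩ := ZMod.intCast_surjective i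
      exact ⟨j, by rw [DihedralGroup.r_one_zpow]; exact hi.symm⟩
  have hRH : ∀ g ∈ R, g ∈ H := by
    rintro g ⟨x, -, rfl⟩
    exact x.2
  set s : H := e.symm (DihedralGroup.sr 0)
  have hes : e s = DihedralGroup.sr 0 := e.apply_symm_apply _
  refine not_binary_of_dihedral (R := R) (s := (s : G)) h2 hq hsemi (fun a ha b hb => ?_) s.2 ?_ ?_
    (fun g hg hgR => ?_) (fun r hr => ?_)
  · obtain ⟨i, hi⟩ := (hR a (hRH a ha)).1 ha
    obtain ⟨j, hj⟩ := (hR b (hRH b hb)).1 hb
    refine congrArg Subtype.val (e.injective (a₁ := ⟨a, hRH a ha⟩ * ⟨b, hRH b hb⟩)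
      (a₂ := ⟨b, hRH b hb⟩ * ⟨a, hRH a ha⟩) ?_)
    rw [map_mul, map_mul, hi, hj, DihedralGroup.r_mul_r, DihedralGroup.r_mul_r, add_comm]
  · intro h1
    have : e s = 1 := by rw [show s = 1 from Subtype.ext h1, map_one]
    rw [hes, DihedralGroup.one_def] at this
    cases this
  · refine congrArg Subtype.val (e.injective (a₁ := s * s) (a₂ := 1) ?_)
    rw [map_mul, map_one, hes, DihedralGroup.sr_mul_self]
  · rcases h : e ⟨g, hg⟩ with i | i
    · exact absurd ((hR g hg).2 ⟨i, h⟩) hgR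
    · refine ⟨congrArg Subtype.val (e.injective (a₁ := (⟨g, hg⟩ : H) * ⟨g, hg⟩) (a₂ := 1) ?_),
        (hR _ (mul_mem s.2 hg)).2 ⟨i, ?_⟩⟩
      · rw [map_mul, map_one, h, DihedralGroup.sr_mul_self]
      · rw [show (⟨(s : G) * g, mul_mem s.2 hg⟩ : H) = s * ⟨g, hg⟩ from rfl, map_mul, hes, h,
          DihedralGroup.sr_mul_sr, sub_zero]
  · obtain ⟨i, hi⟩ := (hR r (hRH r hr)).1 hr
    refine congrArg Subtype.val (e.injective (a₁ := s * ⟨r, hRH r hr⟩ * s⁻¹)
      (a₂ := (⟨r, hRH r hr⟩ : H)⁻¹) ?_)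
    rw [map_mul, map_mul, map_inv, map_inv, hes, hi]
    simp

theorem exists_orderOf_char {R : Type*} [Field R] [Finite R] (p : ℕ) [hp : Fact p.Prime] [CharP R p] :
    p ∣ Nat.card (ProjectiveSpecialLinearGroup (Fin 2) R) ∧
      p ∣ Nat.card (ProjGenLinGroup (Fin 2) R) := by
  have hord : orderOf (π (u (1 : R))) = p := by
    refine orderOf_eq_prime ?_ ?_
    · rw [← map_pow, pow_char p (by simp [tr, u, mk2]; norm_num), map_one]
    · rw [Ne, π_eq_one]
      rintro (e | e) <;> simpa [u, mk2] using congrArg (fun C : SL(2, R) => C.1 0 1) e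
  refine ⟨?_, ?_⟩
  · have := orderOf_dvd_natCard (π (u (1 : R)))
    rwa [hord] at this
  · have := orderOf_dvd_natCard
      (ProjectiveSpecialLinearGroup.toPGL (n := Fin 2) (R := R) (π (u (1 : R))))
    rwa [orderOf_injective _ ProjectiveSpecialLinearGroup.toPGL_injective, hord] at this

/-- A subgroup of semisimple elements. -/
theorem semi_case [Finite F] (hq : 4 ≤ Nat.card F) (hq5 : Nat.card F ≠ 5) {H : Subgroup G}
    (hH : H ≠ ⊤) (hbot : H ≠ ⊥) (hsemi : SemiSub H) (hB : Binary H) :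
    (2 : F) = 0 ∧ (∀ r : F, r ^ 2 + r + 1 ≠ 0) ∧ Nat.card H = 3 := by
  obtain ⟨p, hp⟩ := CharP.exists F
  have hp' : p.Prime := CharP.char_is_prime F p
  have : Fact p.Prime := ⟨hp'⟩
  have hnd := not_dvd_card_of_semi p hsemi
  have hodd : 2 ∣ Nat.card H → (2 : F) ≠ 0 := fun hd h2 => hnd (by
    have := charP_two h2
    rwa [CharP.eq F hp this])
  have h7 : (2 : F) ≠ 0 → 7 ≤ Nat.card F := fun h2 => by
    have hqodd : ¬ Even (Nat.card F) := fun he => h2 (two_eq_of_even he)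
    rw [Nat.not_even_iff] at hqodd
    omega
  rcases DicksonPSL.dickson_psl p H with ⟨hc, -, -⟩ | ⟨hd, -⟩ | ⟨k, -, -, -, ⟨e⟩⟩ | h | h | h |
      ⟨R, -, h⟩
  · exact comm_case hsemi hbot hB
  · exact absurd hd hnd
  · have h2 := hodd (by rw [Nat.card_congr e.toEquiv, DihedralGroup.nat_card]; exact dvd_mul_right 2 k)
    exact absurd hB (dihedral_case h2 (h7 h2) hsemi e)
  · have h2 := hodd (by rw [card_exc.1 h]; norm_num)
    exact absurd hB (not_binary_of_exc p h2 (h7 h2) hH hsemi (Or.inl h))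
  · have h2 := hodd (by rw [card_exc.2.1 h]; norm_num)
    exact absurd hB (not_binary_of_exc p h2 (h7 h2) hH hsemi (Or.inr (Or.inl h)))
  · have h2 := hodd (by rw [card_exc.2.2 h]; norm_num)
    exact absurd hB (not_binary_of_exc p h2 (h7 h2) hH hsemi (Or.inr (Or.inr h)))
  · have : CharP R p := (RingHom.charP_iff R.subtype R.subtype.injective p).mpr inferInstance
    obtain ⟨h1, h3⟩ := exists_orderOf_char (R := R) p
    rcases h with ⟨⟨e⟩⟩ | ⟨-, ⟨e⟩⟩
    · exact absurd (Nat.card_congr e.toEquiv ▸ h3) hnd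
    · exact absurd (Nat.card_congr e.toEquiv ▸ h1) hnd

/-- The binary coset actions. -/
theorem binary_iff_cases [Finite F] (hq : 4 ≤ Nat.card F) (hq5 : Nat.card F ≠ 5) {H : Subgroup G}
    (hH : H ≠ ⊤) :
    Binary H ↔ H = ⊥ ∨ ((∃ a : ℕ, Nat.card F = 2 ^ a) ∧ ∃ P : Sylow 2 G, H = P) ∨
      ((∃ a : ℕ, Odd a ∧ Nat.card F = 2 ^ a) ∧ Nat.card H = 3) := by
  have : Fact (Nat.Prime 2) := ⟨Nat.prime_two⟩
  have hpow : ∀ {a : ℕ}, Nat.card F = 2 ^ a → (2 : F) = 0 := fun {a} ha =>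
    two_eq_of_even (ha ▸ Nat.even_pow.2 ⟨even_two, by rintro rfl; simp at ha; omega⟩)
  constructor
  · intro hB
    by_cases hbot : H = ⊥
    · exact Or.inl hbot
    by_cases hsemi : SemiSub H
    · obtain ⟨h2, hroot, hcard⟩ := semi_case hq hq5 hH hbot hsemi hB
      obtain ⟨a, -, ha⟩ := card_eq_pow_of_two h2
      refine Or.inr (Or.inr ⟨⟨a, Nat.not_even_iff_odd.1 fun he => ?_, ha⟩, hcard⟩)
      obtain ⟨r, hr⟩ := (root_iff_even h2 ha).2 he
      exact hroot r hr
    · obtain ⟨h2, hcard⟩ := nonsemi_case hq hH hB hsemi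
      obtain ⟨a, -, ha⟩ := card_eq_pow_of_two h2
      obtain ⟨P, hP⟩ := (IsPGroup.of_card (hcard.trans ha)).exists_le_sylow
      exact Or.inr (Or.inl ⟨⟨a, ha⟩, P, Subgroup.eq_of_le_of_card_ge hP
        (by rw [hcard]; exact (card_sylow_eq h2 P).le)⟩)
  · rintro (rfl | ⟨⟨a, ha⟩, P, rfl⟩ | ⟨⟨a, hodd, ha⟩, hcard⟩)
    · exact binary_bot
    · exact binary_sylow (hpow ha) P
    · refine binary_three (hpow ha) (fun r hr => ?_) hcard
      exact Nat.not_even_iff_odd.2 hodd ((root_iff_even (hpow ha) ha).1 ⟨r, hr⟩)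

end Cfsg.Agent.PSL2Binary34
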