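import Cfsg.Agent.Lib.L34MultiplierBound

/-!
The two elementary abelian subgroups of order 16 of a Sylow `2`-subgroup of `PSL_3(4)`, and their
normalisers.
-/

set_option autoImplicit false
set_option backward.isDefEq.respectTransparency false

namespace Cfsg.Agent.PSL34Parabolic

open Matrix Cfsg.Agent.L34MultiplierBound
open scoped MatrixGroups
open Cfsg.Agent.StemSLnTv (tv)

variable {F : Type*} [Field F]

local notation "PSL3" => Matrix.ProjectiveSpecialLinearGroup (Fin 3) F

/-- The matrix `[[1, r], [0, M]]`. -/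
def par (M : SL(2, F)) (r : Fin 2 → F) : SL(3, F) :=
  ⟨!![1, r 0, r 1; 0, M.1 0 0, M.1 0 1; 0, M.1 1 0, M.1 1 1], by
    have h := M.2
    rw [Matrix.det_fin_two] at h
    rw [Matrix.det_fin_three]
    simp
    linear_combination h⟩

theorem par_val (M : SL(2, F)) (r : Fin 2 → F) :
    (par M r).1 = !![1, r 0, r 1; 0, M.1 0 0, M.1 0 1; 0, M.1 1 0, M.1 1 1] := rfl

theorem par_mul (M N : SL(2, F)) (r s : Fin 2 → F) :
    par M r * par N s = par (M * N) (s + Matrix.vecMul r N.1) := by
  refine Subtype.ext ?_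
  rw [Matrix.SpecialLinearGroup.coe_mul, par_val, par_val, par_val,
    Matrix.SpecialLinearGroup.coe_mul]
  ext i j
  fin_cases i <;> fin_cases j <;>
    simp [Matrix.mul_apply, Fin.sum_univ_three, Fin.sum_univ_two, Matrix.vecMul, dotProduct] <;> ring

theorem par_one : par (1 : SL(2, F)) 0 = 1 := by
  refine Subtype.ext ?_
  rw [par_val, Matrix.SpecialLinearGroup.coe_one]
  ext i j
  fin_cases i <;> fin_cases j <;> simp

/-- An element of `par` which is central is trivial. -/
theorem par_center {M : SL(2, F)} {r : Fin 2 → F}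
    (h : par M r ∈ Subgroup.center SL(3, F)) : M = 1 ∧ r = 0 := by
  obtain ⟨t, -, ht⟩ := Matrix.SpecialLinearGroup.mem_center_iff.1 h
  rw [par_val] at ht
  have e : ∀ i j, (Matrix.scalar (Fin 3) t) i j =
      !![1, r 0, r 1; 0, M.1 0 0, M.1 0 1; 0, M.1 1 0, M.1 1 1] i j := fun i j => by rw [ht]
  have e00 := e 0 0
  have e01 := e 0 1
  have e02 := e 0 2
  have e11 := e 1 1
  have e12 := e 1 2
  have e21 := e 2 1
  have e22 := e 2 2
  simp [Matrix.scalar_apply] at e00 e01 e02 e11 e12 e21 e22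
  subst e00
  refine ⟨Subtype.ext ?_, ?_⟩
  · rw [Matrix.SpecialLinearGroup.coe_one]
    ext i j
    fin_cases i <;> fin_cases j <;> simp [← e11, ← e12, ← e21, ← e22]
  · ext i
    fin_cases i <;> simp [← e01, ← e02]

theorem proj_par_inj {M N : SL(2, F)} {r s : Fin 2 → F}
    (h : proj (par M r) = proj (par N s)) : M = N ∧ r = s := by
  have h' : (par M r)⁻¹ * par N s ∈ Subgroup.center SL(3, F) := QuotientGroup.eq.1 h
  have e : (par M r)⁻¹ = par M⁻¹ (-Matrix.vecMul r (M⁻¹ : SL(2, F)).1) := by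
    refine inv_eq_of_mul_eq_one_right ?_
    rw [par_mul, mul_inv_cancel, neg_add_cancel, par_one]
  rw [e, par_mul] at h'
  obtain ⟨h1, h2⟩ := par_center h'
  have hMN : M = N := inv_mul_eq_one.1 h1
  subst hMN
  refine ⟨rfl, ?_⟩
  rw [Matrix.neg_vecMul, Matrix.vecMul_vecMul, ← Matrix.SpecialLinearGroup.coe_mul, inv_mul_cancel,
    Matrix.SpecialLinearGroup.coe_one, Matrix.vecMul_one, ← sub_eq_add_neg, sub_eq_zero] at h2
  exact h2.symm

/-- The first row group as a homomorphism. -/
noncomputable def rowHom : Multiplicative (Fin 2 → F) →* PSL3 where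
  toFun v := proj (par 1 (Multiplicative.toAdd v))
  map_one' := by simp [par_one]
  map_mul' v w := by
    rw [← map_mul, par_mul, one_mul, Matrix.SpecialLinearGroup.coe_one, Matrix.vecMul_one,
      toAdd_mul, add_comm]

/-- The first elementary abelian subgroup of order 16. -/
noncomputable def qA : Subgroup PSL3 := (rowHom (F := F)).range

theorem mem_qA {x : PSL3} : x ∈ qA (F := F) ↔ ∃ r, proj (par 1 r) = x :=
  ⟨fun ⟨v, hv⟩ => ⟨Multiplicative.toAdd v, hv⟩, fun ⟨r, hr⟩ => ⟨Multiplicative.ofAdd r, hr⟩⟩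

theorem card_qA [Fintype F] (hF : Fintype.card F = 4) : Nat.card (qA (F := F)) = 16 := by
  have hinj : Function.Injective (rowHom (F := F)) := fun v w h =>
    Multiplicative.toAdd.injective (proj_par_inj h).2
  refine (Nat.card_congr (MonoidHom.ofInjective hinj).toEquiv).symm.trans ?_
  show Nat.card (Fin 2 → F) = 16
  rw [Nat.card_eq_fintype_card, Fintype.card_fun, hF, Fintype.card_fin]
  norm_num

theorem qA_comm {x y : PSL3} (hx : x ∈ qA (F := F)) (hy : y ∈ qA (F := F)) : x * y = y * x := by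
  obtain ⟨v, rfl⟩ := hx
  obtain ⟨w, rfl⟩ := hy
  rw [← map_mul, ← map_mul, mul_comm]

theorem qA_sq (h2 : (2 : F) = 0) {x : PSL3} (hx : x ∈ qA (F := F)) : x * x = 1 := by
  obtain ⟨r, rfl⟩ := mem_qA.1 hx
  rw [← map_mul, par_mul, one_mul, Matrix.SpecialLinearGroup.coe_one, Matrix.vecMul_one,
    show r + r = 0 from funext fun i => add_self h2 (r i), par_one, map_one]

/-- The Levi complement. -/
noncomputable def levi : SL(2, F) →* PSL3 where
  toFun M := proj (par M 0)
  map_one' := by simp [par_one]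
  map_mul' M N := by rw [← map_mul, par_mul, Matrix.zero_vecMul, add_zero]

theorem row_levi (M : SL(2, F)) (r : Fin 2 → F) :
    proj (par 1 r) * levi M = levi M * proj (par 1 (Matrix.vecMul r M.1)) := by
  show proj (par 1 r) * proj (par M 0) = proj (par M 0) * _
  rw [← map_mul, ← map_mul, par_mul, par_mul, one_mul, mul_one, Matrix.SpecialLinearGroup.coe_one,
    Matrix.vecMul_one, zero_add, add_zero]

theorem levi_mem_normalizer (M : SL(2, F)) :
    levi M ∈ Subgroup.normalizer ((qA (F := F) : Subgroup PSL3) : Set PSL3) := by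
  have key : ∀ (N : SL(2, F)) x, x ∈ qA (F := F) → levi N * x * (levi N)⁻¹ ∈ qA (F := F) := by
    intro N x hx
    obtain ⟨r, rfl⟩ := mem_qA.1 hx
    refine mem_qA.2 ⟨Matrix.vecMul r (N⁻¹ : SL(2, F)).1, ?_⟩
    rw [eq_mul_inv_iff_mul_eq, row_levi, Matrix.vecMul_vecMul,
      ← Matrix.SpecialLinearGroup.coe_mul, inv_mul_cancel, Matrix.SpecialLinearGroup.coe_one,
      Matrix.vecMul_one]
  refine Subgroup.mem_normalizer_iff.2 fun x => ⟨key M x, fun h => ?_⟩
  have := key M⁻¹ _ h
  simpa [map_inv, mul_assoc] using this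

theorem levi_injective {M : SL(2, F)} (h : levi M ∈ qA (F := F)) : M = 1 := by
  obtain ⟨r, hr⟩ := mem_qA.1 h
  exact ((proj_par_inj hr).1).symm

theorem levi_transitive {x : PSL3} (hx : x ∈ qA (F := F)) (hx1 : x ≠ 1) :
    ∃ M : SL(2, F), proj (par 1 ![1, 0]) * levi M = levi M * x := by
  obtain ⟨r, rfl⟩ := mem_qA.1 hx
  by_cases h0 : r 0 = 0
  · have h1 : r 1 ≠ 0 := fun h1 => hx1 (by
      rw [show r = 0 from funext fun i => by fin_cases i <;> assumption, par_one, map_one])
    refine ⟨⟨!![0, r 1; -(r 1)⁻¹, 0], by rw [Matrix.det_fin_two_of]; field_simp; ring⟩, ?_⟩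
    rw [row_levi]
    congr 3
    ext i
    fin_cases i <;> simp [Matrix.vecMul, dotProduct, Fin.sum_univ_two, h0]
  · refine ⟨⟨!![r 0, r 1; 0, (r 0)⁻¹], by rw [Matrix.det_fin_two_of]; field_simp; simp⟩, ?_⟩
    rw [row_levi]
    congr 3
    ext i
    fin_cases i <;> simp [Matrix.vecMul, dotProduct, Fin.sum_univ_two]

/-- The normaliser of `qA` is the parabolic subgroup. -/
theorem normalizer_qA [Fintype F] (hF : Fintype.card F = 4) {x : PSL3}
    (hx : x ∈ Subgroup.normalizer ((qA (F := F) : Subgroup PSL3) : Set PSL3)) :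
    ∃ M : SL(2, F), (levi M)⁻¹ * x ∈ qA (F := F) := by
  obtain ⟨g, rfl⟩ := QuotientGroup.mk'_surjective (Subgroup.center SL(3, F)) x
  obtain ⟨r', hr'⟩ := mem_qA.1
    ((Subgroup.mem_normalizer_iff.1 hx (proj (par 1 ![1, 0]))).1 (mem_qA.2 ⟨_, rfl⟩))
  change proj (par 1 r') = proj g * proj (par 1 ![1, 0]) * (proj g)⁻¹ at hr'
  rw [eq_mul_inv_iff_mul_eq, ← map_mul, ← map_mul] at hr'
  obtain ⟨z, -, hz⟩ := Matrix.SpecialLinearGroup.mem_center_iff.1 (QuotientGroup.eq.1 hr')
  have hval : g.1 * (par 1 ![1, 0]).1 = (par 1 r').1 * g.1 * Matrix.scalar (Fin 3) z := by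
    rw [hz, ← Matrix.SpecialLinearGroup.coe_mul, ← Matrix.SpecialLinearGroup.coe_mul,
      ← Matrix.SpecialLinearGroup.coe_mul, mul_inv_cancel_left]
  rw [par_val, par_val] at hval
  have e : ∀ i j, (g.1 * !![1, (![1, 0] : Fin 2 → F) 0, (![1, 0] : Fin 2 → F) 1;
      0, (1 : SL(2, F)).1 0 0, (1 : SL(2, F)).1 0 1;
      0, (1 : SL(2, F)).1 1 0, (1 : SL(2, F)).1 1 1]) i j =
      (!![1, r' 0, r' 1; 0, (1 : SL(2, F)).1 0 0, (1 : SL(2, F)).1 0 1;
      0, (1 : SL(2, F)).1 1 0, (1 : SL(2, F)).1 1 1] * g.1 * Matrix.scalar (Fin 3) z) i j :=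
    fun i j => by rw [hval]
  have a1 := e 1 0
  have a2 := e 2 0
  have b1 := e 1 1
  have b2 := e 2 1
  simp [Matrix.mul_apply, Fin.sum_univ_three, Matrix.scalar_apply, Matrix.diagonal, Matrix.vecMul,
    dotProduct] at a1 a2 b1 b2
  have g10 : g.1 1 0 = 0 := by
    by_cases hz1 : z = 1
    · subst hz1; linear_combination b1
    · have : g.1 1 0 * (z - 1) = 0 := by linear_combination -a1
      exact (mul_eq_zero.1 this).resolve_right (sub_ne_zero.2 hz1)
  have g20 : g.1 2 0 = 0 := by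
    by_cases hz1 : z = 1
    · subst hz1; linear_combination b2
    · have : g.1 2 0 * (z - 1) = 0 := by linear_combination -a2
      exact (mul_eq_zero.1 this).resolve_right (sub_ne_zero.2 hz1)
  have hdet := g.2
  rw [Matrix.det_fin_three, g10, g20] at hdet
  set c := g.1 0 0 with hc
  have hc0 : c ≠ 0 := by intro h; rw [h] at hdet; simp at hdet
  have hc3 : c ^ 3 = 1 := by
    have := FiniteField.pow_card_sub_one_eq_one c hc0
    rwa [hF] at this
  let M : SL(2, F) := ⟨!![g.1 1 1 / c, g.1 1 2 / c; g.1 2 1 / c, g.1 2 2 / c], by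
    rw [Matrix.det_fin_two_of]
    field_simp
    have : c * (g.1 1 1 * g.1 2 2 - g.1 1 2 * g.1 2 1) = c ^ 3 := by
      rw [hc3]; linear_combination hdet
    have := mul_left_cancel₀ hc0 (show c * (g.1 1 1 * g.1 2 2 - g.1 1 2 * g.1 2 1) = c * c ^ 2 by
      rw [this]; ring)
    linear_combination this⟩
  let r : Fin 2 → F := ![g.1 0 1 / c, g.1 0 2 / c]
  have hmem : (par M r)⁻¹ * g ∈ Subgroup.center SL(3, F) := by
    have hs : g = par M r * ⟨Matrix.scalar (Fin 3) c, by
        rw [Matrix.scalar_apply, Matrix.det_diagonal]; simpa using hc3⟩ := by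
      refine Subtype.ext ?_
      rw [Matrix.SpecialLinearGroup.coe_mul, par_val]
      ext i j
      fin_cases i <;> fin_cases j <;>
        simp [M, r, Matrix.mul_apply, Fin.sum_univ_three, Matrix.scalar_apply, Matrix.diagonal,
          g10, g20, hc, div_mul_cancel₀ _ (show g.1 0 0 ≠ 0 from hc0)]
    rw [hs, inv_mul_cancel_left, Matrix.SpecialLinearGroup.mem_center_iff]
    exact ⟨c, by simpa using hc3, rfl⟩
  refine ⟨M, mem_qA.2 ⟨r, ?_⟩⟩
  have he : proj (par M r) = proj g := QuotientGroup.eq.2 hmem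
  change proj (par 1 r) = (levi M)⁻¹ * proj g
  rw [eq_inv_mul_iff_mul_eq, ← he]
  show proj (par M 0) * _ = _
  rw [← map_mul, par_mul, mul_one, Matrix.zero_vecMul, add_zero]

/-- The inverse-transpose antidiagonal automorphism. -/
def graphSL : SL(3, F) →* SL(3, F) where
  toFun g := ⟨((g⁻¹ : SL(3, F)).1.submatrix Fin.revPerm Fin.revPerm)ᵀ, by
    rw [Matrix.det_transpose, Matrix.det_submatrix_equiv_self]
    exact (g⁻¹).2⟩
  map_one' := Subtype.ext (by simp [Matrix.submatrix_one_equiv])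
  map_mul' g h := Subtype.ext (by
    show (((g * h)⁻¹ : SL(3, F)).1.submatrix Fin.revPerm Fin.revPerm)ᵀ =
      ((g⁻¹ : SL(3, F)).1.submatrix Fin.revPerm Fin.revPerm)ᵀ *
      ((h⁻¹ : SL(3, F)).1.submatrix Fin.revPerm Fin.revPerm)ᵀ
    rw [← Matrix.transpose_mul, Matrix.submatrix_mul_equiv, _root_.mul_inv_rev,
      Matrix.SpecialLinearGroup.coe_mul])

theorem graphSL_val (g : SL(3, F)) :
    (graphSL g).1 = ((g⁻¹ : SL(3, F)).1.submatrix Fin.revPerm Fin.revPerm)ᵀ := rfl

theorem graphSL_invol (g : SL(3, F)) : graphSL (graphSL g) = g := by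
  refine Subtype.ext ?_
  rw [graphSL_val, ← map_inv, graphSL_val, inv_inv]
  ext i j
  simp

/-- The automorphism as an equivalence. -/
def graphSLEquiv : SL(3, F) ≃* SL(3, F) :=
  { graphSL with invFun := graphSL, left_inv := graphSL_invol, right_inv := graphSL_invol }

theorem map_center : (Subgroup.center SL(3, F)).map (graphSLEquiv (F := F)).toMonoidHom =
    Subgroup.center SL(3, F) := by
  ext x
  rw [Subgroup.mem_map_equiv, Subgroup.mem_center_iff, Subgroup.mem_center_iff]
  exact ⟨fun h y => graphSLEquiv.symm.injective (by rw [map_mul, map_mul]; exact h _),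
    fun h y => graphSLEquiv.injective (by
      rw [map_mul, map_mul, MulEquiv.apply_symm_apply]; exact h _)⟩

/-- The induced automorphism of `PSL_3`. -/
noncomputable def graph : PSL3 ≃* PSL3 :=
  QuotientGroup.congr (Subgroup.center SL(3, F)) (Subgroup.center SL(3, F)) graphSLEquiv
    map_center

theorem graph_proj (g : SL(3, F)) : graph (proj g) = proj (graphSL g) := rfl

theorem graph_invol (x : PSL3) : graph (graph x) = x := by
  obtain ⟨g, rfl⟩ := QuotientGroup.mk'_surjective (Subgroup.center SL(3, F)) x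
  change graph (graph (proj g)) = proj g
  rw [graph_proj, graph_proj, graphSL_invol]

theorem uni_val (a b c : F) : (uni a b c).1 = !![1, a, a * b + c; 0, 1, b; 0, 0, 1] := by
  refine Matrix.ext_iff_mulVec.2 fun w => ?_
  simp only [uni, Cfsg.Agent.PSLSimple.mulVec_mul, StemSLnTv.tv_mulVec (show (0 : Fin 3) ≠ 1 by decide),
    StemSLnTv.tv_mulVec (show (1 : Fin 3) ≠ 2 by decide),
    StemSLnTv.tv_mulVec (show (0 : Fin 3) ≠ 2 by decide)]
  ext i
  fin_cases i <;> simp [Matrix.mulVec, dotProduct, Fin.sum_univ_three] <;> ring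

theorem uni_eq_par (a c : F) : uni a 0 c = par 1 ![a, c] := by
  refine Subtype.ext ?_
  rw [uni_val, par_val]
  ext i j
  fin_cases i <;> fin_cases j <;> simp

theorem graph_uni (h2 : (2 : F) = 0) (a b c : F) :
    graphSL (uni a b c) = uni b a (a * b + c) := by
  refine Subtype.ext ?_
  rw [graphSL_val, uni_inv h2, uni_val, uni_val]
  have hs := add_self h2 (a * b)
  ext i j
  fin_cases i <;> fin_cases j <;> simp [Fin.revPerm_apply, Fin.rev] <;>
    first | ring | linear_combination hs | linear_combination -hs | linear_combination 2 * hs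

/-- The second elementary abelian subgroup of order 16. -/
noncomputable def qB : Subgroup PSL3 := (qA (F := F)).map (graph (F := F)).toMonoidHom

theorem map_qB : (qB (F := F)).map (graph (F := F)).toMonoidHom = qA (F := F) := by
  rw [qB, Subgroup.map_map]
  refine Eq.trans (congrArg (fun f => (qA (F := F)).map f) ?_) (Subgroup.map_id _)
  exact MonoidHom.ext graph_invol

theorem card_qB [Fintype F] (hF : Fintype.card F = 4) : Nat.card (qB (F := F)) = 16 := by
  exact (Subgroup.card_map_of_injective (graph (F := F)).injective).trans (card_qA hF)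

theorem graph_sylow_le (h2 : (2 : F) = 0) :
    (sylow h2).map (graph (F := F)).toMonoidHom = sylow h2 := by
  have hle : (sylow h2).map (graph (F := F)).toMonoidHom ≤ sylow h2 := by
    rintro _ ⟨_, ⟨⟨a, b, c⟩, rfl⟩, rfl⟩
    exact ⟨(b, a, a * b + c), by simp [graph_proj, graph_uni h2]⟩
  refine le_antisymm hle fun x hx => ⟨graph x, hle ⟨x, hx, rfl⟩, graph_invol x⟩

theorem uni_mem_qA (a c : F) : proj (uni a 0 c) ∈ qA (F := F) :=
  mem_qA.2 ⟨_, by rw [uni_eq_par]⟩

theorem uni_mem_qB (h2 : (2 : F) = 0) (b c : F) : proj (uni 0 b c) ∈ qB (F := F) :=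
  ⟨_, uni_mem_qA b c, by simp [graph_proj, graph_uni h2]⟩

theorem qA_le_sylow (h2 : (2 : F) = 0) : qA (F := F) ≤ sylow h2 := by
  intro x hx
  obtain ⟨r, rfl⟩ := mem_qA.1 hx
  exact ⟨(r 0, 0, r 1), by
    show proj (uni (r 0) 0 (r 1)) = _
    rw [uni_eq_par]; congr 2⟩

theorem qB_le_sylow (h2 : (2 : F) = 0) : qB (F := F) ≤ sylow h2 := by
  rw [← graph_sylow_le h2]
  exact Subgroup.map_mono (qA_le_sylow h2)

theorem uni_commute (h2 : (2 : F) = 0) {a b c a' b' c' : F}
    (h : Commute (proj (uni a b c)) (proj (uni a' b' c'))) : a' * b = a * b' := by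
  have h' : proj (uni a b c * uni a' b' c') = proj (uni a' b' c' * uni a b c) := by
    rw [map_mul, map_mul]; exact h
  rw [uni_mul h2, uni_mul h2] at h'
  have := congrArg (fun x : F × F × F => x.2.2)
    (proj_uni_injective h2 (a₁ := (_, _, _)) (a₂ := (_, _, _)) h')
  simp only at this
  linear_combination this

theorem sup_eq_sylow (h2 : (2 : F) = 0) : qA (F := F) ⊔ qB (F := F) = sylow h2 := by
  refine le_antisymm (sup_le (qA_le_sylow h2) (qB_le_sylow h2)) ?_
  rintro _ ⟨⟨a, b, c⟩, rfl⟩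
  have e : uni a b c = uni a 0 0 * uni 0 b c := by rw [uni_mul h2]; simp
  show proj (uni a b c) ∈ _
  rw [e, map_mul]
  exact mul_mem (Subgroup.mem_sup_left (uni_mem_qA a 0)) (Subgroup.mem_sup_right (uni_mem_qB h2 b c))

/-- An element of the Sylow subgroup centralising both subgroups lies in both. -/
theorem central_mem (h2 : (2 : F) = 0) {x : PSL3} (hx : x ∈ sylow h2)
    (hA : ∀ y ∈ qA (F := F), Commute x y) (hB : ∀ y ∈ qB (F := F), Commute x y) :
    x ∈ qA (F := F) ⊓ qB (F := F) := by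
  obtain ⟨⟨a, b, c⟩, rfl⟩ := hx
  have hb : b = 0 := by simpa using uni_commute h2 (hA _ (uni_mem_qA 1 0))
  have ha : a = 0 := by simpa using (uni_commute h2 (hB _ (uni_mem_qB h2 1 0))).symm
  subst ha hb
  exact ⟨uni_mem_qA 0 c, uni_mem_qB h2 0 c⟩

/-- Elementary abelian subgroups of order 16 of the Sylow subgroup. -/
theorem eq_qA_or_qB [Fintype F] (hF : Fintype.card F = 4) (h2 : (2 : F) = 0) {E : Subgroup PSL3}
    (hE : E ≤ sylow h2) (hcard : Nat.card E = 16) (hsq : ∀ x ∈ E, x * x = 1)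
    (hcomm : ∀ x ∈ E, ∀ y ∈ E, Commute x y) : E = qA (F := F) ∨ E = qB (F := F) := by
  by_cases h : ∃ a b c, proj (uni a b c) ∈ E ∧ a ≠ 0
  · obtain ⟨a, b, c, hm, ha⟩ := h
    have hb : b = 0 := by
      have h1 := hsq _ hm
      rw [← map_mul, uni_mul h2, ← map_one proj, ← uni_zero] at h1
      have := congrArg (fun x : F × F × F => x.2.2)
        (proj_uni_injective h2 (a₁ := (_, _, _)) (a₂ := (_, _, _)) h1)
      simp only at this
      have e : a * b = 0 := by linear_combination this - c * h2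
      exact (mul_eq_zero.1 e).resolve_left ha
    refine Or.inl (Subgroup.eq_of_le_of_card_ge ?_ (by rw [hcard, card_qA hF]))
    intro y hy
    obtain ⟨⟨a', b', c'⟩, rfl⟩ := hE hy
    have := uni_commute h2 (hcomm _ hm _ hy)
    rw [hb, mul_zero] at this
    have : b' = 0 := (mul_eq_zero.1 this.symm).resolve_left ha
    subst this
    exact uni_mem_qA a' c'
  · push Not at h
    refine Or.inr (Subgroup.eq_of_le_of_card_ge ?_ (by rw [hcard, card_qB hF]))
    intro y hy
    obtain ⟨⟨a', b', c'⟩, rfl⟩ := hE hy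
    obtain rfl : a' = 0 := h a' b' c' hy
    exact uni_mem_qB h2 b' c'

/-- In characteristic two the centre of `SL_2` is trivial. -/
theorem center_two (h2 : (2 : F) = 0) : Subgroup.center SL(2, F) = ⊥ := by
  rw [eq_bot_iff]
  intro g hg
  obtain ⟨t, ht, hg'⟩ := Matrix.SpecialLinearGroup.mem_center_iff.1 hg
  rw [Fintype.card_fin] at ht
  have h1 : (t - 1) ^ 2 = 0 := by linear_combination ht + (1 - t) * h2
  have t1 : t = 1 := sub_eq_zero.1 (pow_eq_zero_iff two_ne_zero |>.1 h1)
  subst t1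
  exact Subgroup.mem_bot.2 (Subtype.ext (by rw [← hg', Matrix.SpecialLinearGroup.coe_one]; simp))

end Cfsg.Agent.PSL34Parabolic
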