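import Mathlib
import Cfsg.Agent.Lib.SpectrumPSL61

/-!
Adjacency in the prime graph of `PSL(n, q)`: elements of order `r * s` for primes `r ≠ s`.
-/

set_option autoImplicit false
set_option linter.unusedSectionVars false

namespace Cfsg.Agent.PSLAdjacency57

open Matrix Polynomial

variable {F : Type*} [Field F] [Fintype F] {n : ℕ}

local notation "SL" => Matrix.SpecialLinearGroup (Fin n) F
local notation "Mat" => Matrix (Fin n) (Fin n) F
local notation "PS" => Matrix.ProjectiveSpecialLinearGroup (Fin n) F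
local notation "q" => Fintype.card F
local notation "KK" => AlgebraicClosure F

/-- The roots of the minimal polynomial in an algebraic closure. -/
noncomputable def rts (M : Mat) : Multiset KK := ((minpoly F M).map (algebraMap F KK)).roots

theorem q_two : 2 ≤ q := Fintype.one_lt_card

theorem coprime_card {p r : ℕ} [Fact p.Prime] [CharP F p] (hr : r.Prime) (hrp : r ≠ p) :
    r.Coprime q := by
  obtain ⟨f, -, hf⟩ := FiniteField.card F p
  rw [hf]
  exact ((Nat.coprime_primes hr Fact.out).2 hrp).pow_right _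

theorem not_dvd_sub_one (p : ℕ) [Fact p.Prime] [CharP F p] : ¬ p ∣ q - 1 := by
  obtain ⟨f, -, hf⟩ := FiniteField.card F p
  intro h
  have hpq : p ∣ q := hf ▸ dvd_pow_self p f.ne_zero
  have := Nat.dvd_sub hpq h
  rw [Nat.sub_sub_self (Nat.le_of_lt q_two)] at this
  exact (Fact.out : p.Prime).one_lt.ne' (Nat.dvd_one.1 this)

/-- the multiplicative order of `q` modulo `r` -/
theorem dvd_pow_sub_one_iff {r : ℕ} (i : ℕ) :
    r ∣ q ^ i - 1 ↔ orderOf ((q : ℕ) : ZMod r) ∣ i := by
  rw [orderOf_dvd_iff_pow_eq_one, ← ZMod.natCast_eq_zero_iff, Nat.cast_sub (Nat.one_le_pow _ _ (by have := q_two (F := F); omega)),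
    Nat.cast_pow, Nat.cast_one, sub_eq_zero]

theorem ord_pos {r : ℕ} (hr : r.Prime) (hc : r.Coprime q) : 0 < orderOf ((q : ℕ) : ZMod r) := by
  haveI := Fact.mk hr
  have h0 : ((q : ℕ) : ZMod r) ≠ 0 := by
    rw [Ne, ZMod.natCast_eq_zero_iff]
    exact (hr.coprime_iff_not_dvd).1 hc
  have h := ZMod.pow_card_sub_one_eq_one h0
  exact Nat.pos_of_dvd_of_pos (orderOf_dvd_of_pow_eq_one h) (by have := hr.two_le; omega)

theorem not_dvd_sub_one_of_ord {r : ℕ} (h : 2 ≤ orderOf ((q : ℕ) : ZMod r)) : ¬ r ∣ q - 1 := by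
  intro hd
  have := (dvd_pow_sub_one_iff (F := F) (r := r) 1).1 (by rwa [pow_one])
  rw [Nat.dvd_one] at this
  omega

theorem rts_monic (M : Mat) : ((minpoly F M).map (algebraMap F KK)).Monic :=
  (minpoly.monic (Matrix.isIntegral M)).map _

theorem rts_card (M : Mat) : (rts M).card ≤ n := by
  refine (Polynomial.card_roots' _).trans ?_
  rw [natDegree_map]
  refine (Polynomial.natDegree_le_of_dvd (Matrix.minpoly_dvd_charpoly M) M.charpoly_monic.ne_zero).trans
    (le_of_eq ?_)
  rw [Matrix.charpoly_natDegree_eq_dim, Fintype.card_fin]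

theorem eq_prod (M : Mat) :
    (minpoly F M).map (algebraMap F KK) = ((rts M).map fun a => X - C a).prod :=
  (IsAlgClosed.splits _).eq_prod_roots_of_monic (rts_monic M)

theorem rts_frob (M : Mat) : (rts M).map (fun a => a ^ q) = rts M := by
  set φ : KK →+* KK := (FiniteField.frobeniusAlgHom F KK).toRingHom with hφ
  have h1 : (rts M).map φ = (((minpoly F M).map (algebraMap F KK)).map φ).roots :=
    Polynomial.roots_map_of_injective_of_card_eq_natDegree φ.injective
      (IsAlgClosed.card_roots_eq_natDegree)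
  have h2 : φ.comp (algebraMap F KK) = algebraMap F KK :=
    (FiniteField.frobeniusAlgHom F KK).comp_algebraMap
  rw [Polynomial.map_map, h2] at h1
  exact h1

theorem count_frob (M : Mat) (a : KK) [DecidableEq KK] :
    (rts M).count (a ^ q) = (rts M).count a := by
  conv_lhs => rw [← rts_frob M]
  exact Multiset.count_map_eq_count' _ _ (FiniteField.frobeniusAlgHom F KK).injective a

theorem count_frob_pow (M : Mat) (a : KK) [DecidableEq KK] (i : ℕ) :
    (rts M).count (a ^ q ^ i) = (rts M).count a := by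
  induction i with
  | zero => rw [pow_zero, pow_one]
  | succ i ih => rw [pow_succ, pow_mul, count_frob, ih]

theorem pow_of_mem {M : Mat} {m : ℕ} {c : F} (h : M ^ m = Matrix.scalar (Fin n) c) {a : KK}
    (ha : a ∈ rts M) : a ^ m = algebraMap F KK c := by
  have hd : minpoly F M ∣ X ^ m - C c := by
    refine minpoly.dvd F M ?_
    rw [map_sub, map_pow, aeval_X, aeval_C, h, sub_eq_zero]
    rfl
  have ha' := (mem_roots'.1 ha).2
  obtain ⟨w, hw⟩ := Polynomial.map_dvd (algebraMap F KK) hd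
  rw [Polynomial.map_sub, Polynomial.map_pow, map_X, map_C] at hw
  have := congrArg (Polynomial.eval a) hw
  rw [eval_mul, ha'.eq_zero, zero_mul, eval_sub, eval_pow, eval_X, eval_C, sub_eq_zero] at this
  exact this

/-- A power of `M` is scalar as soon as the minimal polynomial divides `X ^ m - w`. -/
theorem exists_scalar (hn : 1 ≤ n) {M : Mat} {m : ℕ} {w : KK}
    (h : (minpoly F M).map (algebraMap F KK) ∣ X ^ m - C w) :
    ∃ c : F, M ^ m = Matrix.scalar (Fin n) c ∧ algebraMap F KK c = w := by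
  haveI : Nonempty (Fin n) := ⟨⟨0, hn⟩⟩
  have hμ := minpoly.monic (Matrix.isIntegral (R := F) M)
  have hdeg : 0 < (minpoly F M).natDegree := minpoly.natDegree_pos (Matrix.isIntegral M)
  have h1 : (X ^ m %ₘ minpoly F M).map (algebraMap F KK) = C w := by
    rw [Polynomial.map_modByMonic _ hμ, Polynomial.map_pow, map_X,
      Polynomial.modByMonic_eq_of_dvd_sub (hμ.map _) h,
      Polynomial.modByMonic_eq_self_iff (hμ.map _), Polynomial.degree_map]
    refine lt_of_le_of_lt degree_C_le ?_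
    exact natDegree_pos_iff_degree_pos.1 hdeg
  set Q := X ^ m %ₘ minpoly F M with hQ
  have hc : algebraMap F KK (Q.coeff 0) = w := by
    have := congrArg (fun f => Polynomial.coeff f 0) h1
    simpa using this
  have hQC : Q = C (Q.coeff 0) := by
    apply Polynomial.map_injective _ (algebraMap F KK).injective
    rw [h1, map_C, hc]
  refine ⟨Q.coeff 0, ?_, hc⟩
  have := congrArg (aeval M) (Polynomial.modByMonic_add_div (X ^ m) (minpoly F M))
  rw [← hQ, hQC, map_add, map_mul, minpoly.aeval, zero_mul, add_zero, aeval_C, map_pow, aeval_X] at this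
  exact this.symm

theorem exists_scalar_of_nodup (hn : 1 ≤ n) {M : Mat} {m : ℕ} (hm : 0 < m) {w : KK}
    (hnd : (rts M).Nodup) (h : ∀ a ∈ rts M, a ^ m = w) :
    ∃ c : F, M ^ m = Matrix.scalar (Fin n) c ∧ algebraMap F KK c = w := by
  refine exists_scalar hn ?_
  have h0 : (X ^ m - C w : KK[X]) ≠ 0 := X_pow_sub_C_ne_zero hm w
  rw [eq_prod, Multiset.prod_X_sub_C_dvd_iff_le_roots h0, Multiset.le_iff_subset hnd]
  intro a ha
  rw [mem_roots h0, IsRoot, eval_sub, eval_pow, eval_X, eval_C, h a ha, sub_self]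

theorem exists_scalar_of_all_eq (hn : 1 ≤ n) {M : Mat} (p : ℕ) [Fact p.Prime] [CharP F p]
    {w : KK} (h : ∀ a ∈ rts M, a = w) :
    ∃ c : F, M ^ p ^ n = Matrix.scalar (Fin n) c := by
  haveI : CharP KK p := charP_of_injective_algebraMap (algebraMap F KK).injective p
  obtain ⟨c, hc, -⟩ := exists_scalar hn (M := M) (m := p ^ n) (w := w ^ p ^ n) (by
    rw [eq_prod, Multiset.eq_replicate.2 ⟨rfl, h⟩, Multiset.map_replicate, Multiset.prod_replicate,
      map_pow, ← sub_pow_char_pow]
    exact pow_dvd_pow _ ((rts_card M).trans (Nat.lt_pow_self (Fact.out : p.Prime).one_lt).le))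
  exact ⟨c, hc⟩

theorem mk_pow_eq_one_of_scalar (g : SL) {m : ℕ} {c : F}
    (h : (g : Mat) ^ m = Matrix.scalar (Fin n) c) : ((g : SL) : PS) ^ m = 1 := by
  rw [← QuotientGroup.mk_pow, SpectrumPSL61.mk_eq_one_iff]
  refine ⟨c, ?_, by rw [Matrix.SpecialLinearGroup.coe_pow]; exact h.symm⟩
  have := congrArg Matrix.det h
  rw [Matrix.det_pow, g.2, one_pow] at this
  simpa [Matrix.scalar_apply, Matrix.det_diagonal] using this.symm

theorem orderOf_eq_mul {G : Type*} [Group G] {r s : ℕ} (hr : r.Prime) (hs : s.Prime) (x : G)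
    (h : x ^ (r * s) = 1) (h1 : x ^ r ≠ 1) (h2 : x ^ s ≠ 1) : orderOf x = r * s := by
  obtain ⟨a, b, ha, hb, e⟩ := (Nat.dvd_mul).1 (orderOf_dvd_of_pow_eq_one h)
  rcases (Nat.dvd_prime hr).1 ha with rfl | rfl
  · exact absurd (orderOf_dvd_iff_pow_eq_one.1 (e ▸ by simpa using hb)) h2
  · rcases (Nat.dvd_prime hs).1 hb with rfl | rfl
    · exact absurd (orderOf_dvd_iff_pow_eq_one.1 (e ▸ by simp)) h1
    · exact e.symm

/-- Lifting an element of order prime to `q - 1`. -/
theorem exists_lift {m : ℕ} (hm : m.Coprime (q - 1)) (x : PS) (hx : orderOf x = m) :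
    ∃ h : SL, orderOf h = m ∧ orderOf ((h : SL) : PS) = m := by
  obtain ⟨g, rfl⟩ := QuotientGroup.mk_surjective x
  have h1 := pow_orderOf_eq_one ((g : SL) : PS)
  rw [hx, ← QuotientGroup.mk_pow, SpectrumPSL61.mk_eq_one_iff] at h1
  obtain ⟨a, han, ha⟩ := h1
  have hpow : (g ^ (q - 1)) ^ m = 1 := by
    apply Subtype.ext
    show (((g ^ (q - 1)) ^ m : SL) : Mat) = ((1 : SL) : Mat)
    rw [← pow_mul, mul_comm, pow_mul, Matrix.SpecialLinearGroup.coe_pow, ← ha, ← map_pow,
      Matrix.SpecialLinearGroup.coe_one]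
    rcases eq_or_ne a 0 with rfl | h0
    · rcases Nat.eq_zero_or_pos n with rfl | hn
      · exact Subsingleton.elim _ _
      · rw [zero_pow hn.ne'] at han
        exact absurd han zero_ne_one
    · rw [FiniteField.pow_card_sub_one_eq_one a h0, map_one]
  have h2 : orderOf (((g ^ (q - 1) : SL)) : PS) = m := by
    rw [QuotientGroup.mk_pow, Nat.Coprime.orderOf_pow (hx.symm ▸ hm), hx]
  exact ⟨g ^ (q - 1), Nat.dvd_antisymm (orderOf_dvd_of_pow_eq_one hpow)
    (h2 ▸ orderOf_map_dvd (QuotientGroup.mk' _) _), h2⟩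

/-- A matrix of order `r * s`, both primes prime to `q - 1`, gives such an element of `PSL`. -/
theorem mem_range_of_matrix (hn : 1 ≤ n) {r s : ℕ} (hr : r.Prime) (hs : s.Prime) (hne : r ≠ s)
    (hrq : ¬ r ∣ q - 1) (hsq : ¬ s ∣ q - 1) (M : Mat) (hM : orderOf M = r * s) :
    r * s ∈ Set.range (orderOf : PS → ℕ) := by
  haveI : Nonempty (Fin n) := ⟨⟨0, hn⟩⟩
  have hunit : ∀ (m : ℕ) (a : F), m.Prime → ¬ m ∣ q - 1 → a ^ m = 1 → a = 1 := by
    intro m a hm hnd h
    have h0 : a ≠ 0 := fun h0 => by rw [h0, zero_pow hm.ne_zero] at h; exact zero_ne_one h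
    have := pow_gcd_eq_one.2 ⟨h, FiniteField.pow_card_sub_one_eq_one a h0⟩
    rwa [(hm.coprime_iff_not_dvd.2 hnd).gcd_eq_one, pow_one] at this
  have hMrs : M ^ (r * s) = 1 := hM ▸ pow_orderOf_eq_one M
  have hdet : M.det = 1 := by
    have h := congrArg Matrix.det hMrs
    rw [Matrix.det_pow, Matrix.det_one, pow_mul] at h
    exact hunit r _ hr hrq (hunit s _ hs hsq h)
  let g : SL := ⟨M, hdet⟩
  have key : ∀ a b : ℕ, a * b = r * s → b.Prime → ¬ b ∣ q - 1 → a < r * s → 0 < a →
      ((g : SL) : PS) ^ a ≠ 1 := by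
    intro a b hab hb hbq hlt ha0 h
    rw [← QuotientGroup.mk_pow, SpectrumPSL61.mk_eq_one_iff] at h
    obtain ⟨c, -, hc⟩ := h
    rw [Matrix.SpecialLinearGroup.coe_pow] at hc
    change Matrix.scalar (Fin n) c = M ^ a at hc
    have hc1 : c ^ b = 1 := by
      apply (Matrix.scalar_inj (n := Fin n)).1
      rw [map_pow, hc, ← pow_mul, hab, hMrs, map_one]
    rw [hunit b c hb hbq hc1, map_one] at hc
    have := Nat.le_of_dvd ha0 (orderOf_dvd_of_pow_eq_one hc.symm)
    omega
  refine ⟨((g : SL) : PS), orderOf_eq_mul hr hs _ ?_ ?_ ?_⟩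
  · exact mk_pow_eq_one_of_scalar g (c := 1) (by rw [map_one]; exact hMrs)
  · exact key r s rfl hs hsq (lt_mul_of_one_lt_right hr.pos hs.one_lt) hr.pos
  · exact key s r (mul_comm s r) hr hrq (lt_mul_of_one_lt_left hs.pos hr.one_lt) hs.pos

/-- block diagonal matrices -/
noncomputable def blk (a b : ℕ) :
    Matrix (Fin a) (Fin a) F × Matrix (Fin b) (Fin b) F →* Matrix (Fin (a + b)) (Fin (a + b)) F where
  toFun x := Matrix.reindexAlgEquiv F F finSumFinEquiv (Matrix.fromBlocks x.1 0 0 x.2)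
  map_one' := by rw [Prod.fst_one, Prod.snd_one, Matrix.fromBlocks_one, map_one]
  map_mul' x y := by
    rw [← map_mul, Matrix.fromBlocks_multiply]
    simp

theorem blk_injective (a b : ℕ) : Function.Injective (blk (F := F) a b) := by
  intro x y h
  have h' := (Matrix.reindexAlgEquiv F F (finSumFinEquiv : Fin a ⊕ Fin b ≃ Fin (a + b))).injective h
  rw [Matrix.fromBlocks_inj] at h'
  exact Prod.ext h'.1 h'.2.2.2

theorem exists_blk {a b : ℕ} (hab : a + b = n) (A : Matrix (Fin a) (Fin a) F)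
    (B : Matrix (Fin b) (Fin b) F) : ∃ M : Mat, orderOf M = Nat.lcm (orderOf A) (orderOf B) := by
  subst hab
  exact ⟨blk a b (A, B), by rw [orderOf_injective _ (blk_injective a b), Prod.orderOf_mk]⟩

theorem exists_matrix_exact (p : ℕ) [Fact p.Prime] [CharP F p] {m d : ℕ} (hd : 0 < d)
    (hm : m ∣ q ^ d - 1) : ∃ A : Matrix (Fin d) (Fin d) F, orderOf A = m := by
  haveI : NeZero d := ⟨hd.ne'⟩
  let L := FiniteField.Extension F p d
  haveI : Finite L := Module.finite_of_finite F
  let b : Module.Basis (Fin d) F L :=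
    Module.finBasisOfFinrankEq F L (FiniteField.finrank_extension F p d)
  obtain ⟨x, hx⟩ := IsCyclic.exists_ofOrder_eq_natCard (α := Lˣ)
  have hcard : orderOf x = q ^ d - 1 := by
    rw [hx, Nat.card_units, FiniteField.natCard_extension, Nat.card_eq_fintype_card]
  refine ⟨Algebra.leftMulMatrix b ((x ^ (orderOf x / m) : Lˣ) : L), ?_⟩
  refine (orderOf_injective (Algebra.leftMulMatrix b).toRingHom.toMonoidHom
    (Algebra.leftMulMatrix_injective b) _).trans ?_
  rw [orderOf_units]
  exact orderOf_pow_orderOf_div (orderOf_pos x).ne' (hcard.symm ▸ hm)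

theorem exists_matrix (p : ℕ) [Fact p.Prime] [CharP F p] {m d : ℕ} (hd : 0 < d) (hdn : d ≤ n)
    (hm : m ∣ q ^ d - 1) : ∃ A : Mat, orderOf A = m := by
  obtain ⟨A, hA⟩ := exists_matrix_exact (F := F) p hd hm
  obtain ⟨M, hM⟩ := exists_blk (F := F) (show d + (n - d) = n by omega) A 1
  exact ⟨M, by rw [hM, hA, orderOf_one, Nat.lcm_one_right]⟩

theorem transvection_pow {i j : Fin n} (hij : i ≠ j) (m : ℕ) :
    (Matrix.transvection i j (1 : F)) ^ m = Matrix.transvection i j (m : F) := by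
  induction m with
  | zero => rw [pow_zero, Nat.cast_zero, Matrix.transvection_zero]
  | succ m ih =>
    rw [pow_succ, ih, Matrix.transvection_mul_transvection_same _ _ hij, Nat.cast_succ]

theorem orderOf_transvection (p : ℕ) [Fact p.Prime] [CharP F p] {i j : Fin n} (hij : i ≠ j) :
    orderOf (Matrix.transvection i j (1 : F)) = p := by
  refine orderOf_eq_prime ?_ ?_
  · rw [transvection_pow hij, CharP.cast_eq_zero, Matrix.transvection_zero]
  · intro h
    have := congrFun (congrFun h i) j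
    simp [Matrix.transvection, hij] at this

/-- the orbit of a root under Frobenius -/
noncomputable def orb (a : KK) (L : ℕ) [DecidableEq KK] : Finset KK :=
  (Finset.range L).image fun i => a ^ q ^ i

theorem orb_card [DecidableEq KK] {a : KK} {m L : ℕ} (hm : m ∣ orderOf a)
    (hc : (orderOf a).Coprime q) (hL : ∀ i, m ∣ q ^ i - 1 → L ∣ i) : (orb a L).card = L := by
  rw [orb, Finset.card_image_of_injOn, Finset.card_range]
  have key : ∀ i j : ℕ, i < j → j < L → a ^ q ^ i ≠ a ^ q ^ j := by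
    intro i j hij hj h
    have ha0 : a ^ q ^ i ≠ 0 := by
      intro h0
      have ha : a = 0 := eq_zero_of_pow_eq_zero h0
      rw [ha, orderOf_zero, Nat.coprime_zero_left] at hc
      have := q_two (F := F); omega
    have h' : (a ^ q ^ i) ^ (q ^ (j - i) - 1) = 1 := by
      have e : a ^ q ^ j = (a ^ q ^ i) ^ (q ^ (j - i) - 1) * a ^ q ^ i := by
        rw [← pow_succ, Nat.sub_add_cancel (Nat.one_le_pow _ _ (by have := q_two (F := F); omega)),
          ← pow_mul, ← pow_add, show i + (j - i) = j by omega]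
      rw [← h] at e
      exact mul_right_cancel₀ ha0 (e.symm.trans (one_mul _).symm)
    have h'' := orderOf_dvd_of_pow_eq_one h'
    rw [(hc.pow_right i).orderOf_pow] at h''
    have := Nat.le_of_dvd (by omega) (hL (j - i) (hm.trans h''))
    omega
  intro i hi j hj h
  simp only [Finset.coe_range, Set.mem_Iio] at hi hj
  rcases lt_trichotomy i j with h1 | h1 | h1
  · exact absurd h (key i j h1 hj)
  · exact h1
  · exact absurd h.symm (key j i h1 hi)

theorem orderOf_of_mem_orb [DecidableEq KK] {a b : KK} {L : ℕ} (hc : (orderOf a).Coprime q)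
    (hb : b ∈ orb a L) : orderOf b = orderOf a := by
  obtain ⟨i, -, rfl⟩ := Finset.mem_image.1 hb
  exact (hc.pow_right i).orderOf_pow

theorem count_of_mem_orb [DecidableEq KK] {M : Mat} {a b : KK} {L : ℕ} (hb : b ∈ orb a L) :
    (rts M).count b = (rts M).count a := by
  obtain ⟨i, -, rfl⟩ := Finset.mem_image.1 hb
  exact count_frob_pow M a i

theorem card_le_of_count [DecidableEq KK] {M : Mat} {T : Finset KK} {c : ℕ}
    (h : ∀ x ∈ T, c ≤ (rts M).count x) : c * T.card ≤ n := by
  refine le_trans ?_ (rts_card M)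
  have hle : c • T.val ≤ rts M := by
    rw [Multiset.le_iff_count]
    intro x
    rw [Multiset.count_nsmul]
    by_cases hx : x ∈ T
    · rw [Multiset.count_eq_one_of_mem T.nodup hx, mul_one]
      exact h x hx
    · rw [Multiset.count_eq_zero_of_notMem hx, mul_zero]
      exact Nat.zero_le _
  have := Multiset.card_le_card hle
  rwa [Multiset.card_nsmul] at this

theorem exists_root_pow_ne (hn : 1 ≤ n) {M : Mat} {m : ℕ} (hm : 0 < m) (hnd : (rts M).Nodup)
    (h : M ^ m ≠ 1) : ∃ a ∈ rts M, a ^ m ≠ 1 := by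
  by_contra hno
  push Not at hno
  obtain ⟨c, hc, hc1⟩ := exists_scalar_of_nodup hn hm hnd hno
  rw [← map_one (algebraMap F KK)] at hc1
  rw [(algebraMap F KK).injective hc1, map_one] at hc
  exact h hc

theorem rts_nodup (hn : 1 ≤ n) {M : Mat} {m : ℕ} (hm : (m : F) ≠ 0) (h : M ^ m = 1) :
    (rts M).Nodup := by
  haveI : Nonempty (Fin n) := ⟨⟨0, hn⟩⟩
  have hd : minpoly F M ∣ X ^ m - C 1 := by
    refine minpoly.dvd F M ?_
    rw [map_sub, map_pow, aeval_X, aeval_C, h, map_one, sub_self]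
  exact Polynomial.nodup_roots
    (((Polynomial.separable_X_pow_sub_C (1 : F) hm one_ne_zero).of_dvd hd).map)

/-- Two odd primes different from `p`: the necessary condition. -/
theorem necessary (p : ℕ) [Fact p.Prime] [CharP F p] (hn : 1 ≤ n) {r s k l : ℕ} (hr : r.Prime)
    (hs : s.Prime) (hne : r ≠ s) (hrp : r ≠ p) (hsp : s ≠ p)
    (hk : k = orderOf ((q : ℕ) : ZMod r)) (hl : l = orderOf ((q : ℕ) : ZMod s))
    (h2k : 2 ≤ k) (hkl : k ≤ l)
    (h : r * s ∈ Set.range (orderOf : PS → ℕ)) : k + l ≤ n ∨ k ∣ l := by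
  classical
  obtain ⟨x, hx⟩ := h
  have hrq : ¬ r ∣ q - 1 := not_dvd_sub_one_of_ord (hk ▸ h2k)
  have hsq : ¬ s ∣ q - 1 := not_dvd_sub_one_of_ord (hl ▸ h2k.trans hkl)
  obtain ⟨g, hg, -⟩ := exists_lift ((Nat.Coprime.mul_left (hr.coprime_iff_not_dvd.2 hrq)
    (hs.coprime_iff_not_dvd.2 hsq))) x hx
  set M : Mat := (g : Mat) with hMdef
  have hpowM : ∀ i, g ^ i = 1 ↔ M ^ i = 1 := fun i => by
    rw [hMdef, ← Matrix.SpecialLinearGroup.coe_pow]
    exact ⟨fun h => by rw [h]; rfl, fun h => Subtype.ext h⟩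
  have hMrs : M ^ (r * s) = 1 := (hpowM _).1 (hg ▸ pow_orderOf_eq_one g)
  have hne0 : ((r * s : ℕ) : F) ≠ 0 := by
    rw [Ne, CharP.cast_eq_zero_iff F p, (Fact.out : p.Prime).dvd_mul,
      Nat.prime_dvd_prime_iff_eq Fact.out hr, Nat.prime_dvd_prime_iff_eq Fact.out hs]
    omega
  have hnd := rts_nodup hn hne0 hMrs
  have hMpow : ∀ a : ℕ, 0 < a → a < r * s → M ^ a ≠ 1 := fun a ha hlt h => by
    have := Nat.le_of_dvd ha (orderOf_dvd_of_pow_eq_one ((hpowM a).2 h))
    omega
  obtain ⟨a, ha, has⟩ := exists_root_pow_ne hn hs.pos hnd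
    (hMpow s hs.pos (lt_mul_of_one_lt_left hs.pos hr.one_lt))
  obtain ⟨b, hb, hbr⟩ := exists_root_pow_ne hn hr.pos hnd
    (hMpow r hr.pos (lt_mul_of_one_lt_right hr.pos hs.one_lt))
  have hrsq : (r * s).Coprime q :=
    Nat.Coprime.mul_left (coprime_card hr hrp) (coprime_card hs hsp)
  have hord : ∀ {y : KK}, y ∈ rts M → orderOf y ∣ r * s := fun {y} hy =>
    orderOf_dvd_of_pow_eq_one (by
      rw [pow_of_mem (c := (1 : F)) (by rw [hMrs, map_one]) hy, map_one])
  have hra : r ∣ orderOf a := by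
    by_contra hno
    exact has (orderOf_dvd_iff_pow_eq_one.1 (((hr.coprime_iff_not_dvd.2 hno).symm).dvd_of_dvd_mul_left
      (hord ha)))
  have hsb : s ∣ orderOf b := by
    by_contra hno
    exact hbr (orderOf_dvd_iff_pow_eq_one.1 (((hs.coprime_iff_not_dvd.2 hno).symm).dvd_of_dvd_mul_right
      (hord hb)))
  by_cases hboth : ∃ y ∈ rts M, r * s ∣ orderOf y
  · obtain ⟨y, hy, hyrs⟩ := hboth
    have hc : (orderOf y).Coprime q := hrsq.coprime_dvd_left (hord hy)
    have hcard : (orb y (Nat.lcm k l)).card = Nat.lcm k l := orb_card hyrs hc fun i hi =>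
      Nat.lcm_dvd (hk ▸ (dvd_pow_sub_one_iff i).1 ((dvd_mul_right r s).trans hi))
        (hl ▸ (dvd_pow_sub_one_iff i).1 ((dvd_mul_left s r).trans hi))
    have hle := card_le_of_count (M := M) (T := orb y (Nat.lcm k l)) (c := 1) fun z hz => by
      rw [count_of_mem_orb hz]; exact Multiset.one_le_count_iff_mem.2 hy
    by_cases hdiv : k ∣ l
    · exact Or.inr hdiv
    left
    obtain ⟨t, ht⟩ := Nat.dvd_lcm_right k l
    have hL0 : 0 < Nat.lcm k l := Nat.pos_of_ne_zero (Nat.lcm_ne_zero (by omega) (by omega))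
    have ht2 : 2 ≤ t := by
      rcases t with _ | _ | t
      · omega
      · exact absurd (by simpa [ht] using Nat.dvd_lcm_left k l) hdiv
      · omega
    have : l * 2 ≤ l * t := Nat.mul_le_mul_left l ht2
    omega
  · push Not at hboth
    left
    have hca : (orderOf a).Coprime q := hrsq.coprime_dvd_left (hord ha)
    have hcb : (orderOf b).Coprime q := hrsq.coprime_dvd_left (hord hb)
    have h1 : (orb a k).card = k := orb_card hra hca fun i hi => hk ▸ (dvd_pow_sub_one_iff i).1 hi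
    have h2 : (orb b l).card = l := orb_card hsb hcb fun i hi => hl ▸ (dvd_pow_sub_one_iff i).1 hi
    have hdisj : Disjoint (orb a k) (orb b l) := by
      rw [Finset.disjoint_left]
      intro z hz hz'
      have e1 := orderOf_of_mem_orb hca hz
      have e2 := orderOf_of_mem_orb hcb hz'
      exact hboth a ha (((Nat.coprime_primes hr hs).2 hne).mul_dvd_of_dvd_of_dvd hra
        (e1 ▸ e2.symm ▸ hsb))
    have hle := card_le_of_count (M := M) (T := orb a k ∪ orb b l) (c := 1) fun z hz => by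
      rcases Finset.mem_union.1 hz with hz | hz <;>
        rw [count_of_mem_orb hz] <;> exact Multiset.one_le_count_iff_mem.2 (by assumption)
    rw [Finset.card_union_of_disjoint hdisj, h1, h2] at hle
    omega

/-- Two primes different from `p`: the sufficient condition. -/
theorem sufficient (p : ℕ) [Fact p.Prime] [CharP F p] {r s k l : ℕ} (hr : r.Prime)
    (hs : s.Prime) (hne : r ≠ s)
    (hk : k = orderOf ((q : ℕ) : ZMod r)) (hl : l = orderOf ((q : ℕ) : ZMod s))
    (h2k : 2 ≤ k) (hkl : k ≤ l) (hln : l ≤ n) (h : k + l ≤ n ∨ k ∣ l) :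
    r * s ∈ Set.range (orderOf : PS → ℕ) := by
  have hrq : ¬ r ∣ q - 1 := not_dvd_sub_one_of_ord (hk ▸ h2k)
  have hsq : ¬ s ∣ q - 1 := not_dvd_sub_one_of_ord (hl ▸ h2k.trans hkl)
  have hcop := (Nat.coprime_primes hr hs).2 hne
  suffices ∃ M : Mat, orderOf M = r * s by
    obtain ⟨M, hM⟩ := this
    exact mem_range_of_matrix (by omega) hr hs hne hrq hsq M hM
  rcases h with h | h
  · obtain ⟨A, hA⟩ := exists_matrix_exact (F := F) p (m := r) (d := k) (by omega)
      ((dvd_pow_sub_one_iff k).2 (hk ▸ dvd_rfl))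
    obtain ⟨B, hB⟩ := exists_matrix (n := n - k) (F := F) p (m := s) (d := l) (by omega) (by omega)
      ((dvd_pow_sub_one_iff l).2 (hl ▸ dvd_rfl))
    obtain ⟨M, hM⟩ := exists_blk (show k + (n - k) = n by omega) A B
    exact ⟨M, by rw [hM, hA, hB, hcop.lcm_eq_mul]⟩
  · exact exists_matrix p (d := l) (by omega) hln (hcop.mul_dvd_of_dvd_of_dvd
      ((dvd_pow_sub_one_iff l).2 (hk ▸ h)) ((dvd_pow_sub_one_iff l).2 (hl ▸ dvd_rfl)))

theorem ord_le (p : ℕ) [Fact p.Prime] [CharP F p] {s : ℕ} (hs : s.Prime) (hsp : s ≠ p)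
    (h : s ∣ Nat.card PS) : orderOf ((q : ℕ) : ZMod s) ≤ n := by
  have h1 : Nat.card PS ∣ Nat.card SL := Subgroup.card_quotient_dvd_card _
  have h2 : Nat.card SL ∣ Nat.card (GL (Fin n) F) :=
    Subgroup.card_dvd_of_injective Matrix.SpecialLinearGroup.toGL
      Matrix.SpecialLinearGroup.toGL_injective
  have h3 := h.trans (h1.trans h2)
  rw [Matrix.card_GL_field] at h3
  obtain ⟨i, -, hi⟩ := ((Nat.prime_iff.1 hs).dvd_finsetProd_iff _).1 h3
  have e : q ^ n - q ^ (i : ℕ) = q ^ (i : ℕ) * (q ^ (n - i) - 1) := by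
    rw [Nat.mul_sub, mul_one, ← pow_add, show (i : ℕ) + (n - i) = n by have := i.2; omega]
  rw [e] at hi
  rcases hs.dvd_mul.1 hi with h4 | h4
  · exact absurd (hs.dvd_of_dvd_pow h4) (hs.coprime_iff_not_dvd.1 (coprime_card hs hsp))
  · have h5 := (dvd_pow_sub_one_iff (n - i)).1 h4
    have := Nat.le_of_dvd (by have := i.2; omega) h5
    omega

/-- An element of order `r * p`: the roots are neither all distinct nor all equal. -/
theorem rts_rp (p : ℕ) [Fact p.Prime] [CharP F p] (hn : 1 ≤ n) {r : ℕ} (hr : r.Prime) (hrp : r ≠ p)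
    (g : SL) (hx : orderOf ((g : SL) : PS) = r * p) :
    (∀ a ∈ rts (g : Mat), ∀ b ∈ rts (g : Mat), a ^ r = b ^ r) ∧ ¬ (rts (g : Mat)).Nodup ∧
      ∀ w : KK, ∃ a ∈ rts (g : Mat), a ≠ w := by
  haveI : CharP KK p := charP_of_injective_algebraMap (algebraMap F KK).injective p
  have h1 := pow_orderOf_eq_one ((g : SL) : PS)
  rw [hx, ← QuotientGroup.mk_pow, SpectrumPSL61.mk_eq_one_iff] at h1
  obtain ⟨c, -, hc⟩ := h1
  rw [Matrix.SpecialLinearGroup.coe_pow] at hc
  have heq : ∀ a ∈ rts (g : Mat), ∀ b ∈ rts (g : Mat), a ^ r = b ^ r := by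
    intro a ha b hb
    apply frobenius_inj KK p
    simp only [frobenius_def, ← pow_mul]
    rw [pow_of_mem hc.symm ha, pow_of_mem hc.symm hb]
  have hp := (Fact.out : p.Prime)
  refine ⟨heq, fun hnd => ?_, fun w => ?_⟩
  · have hnot : ((g : SL) : PS) ^ r ≠ 1 := fun h => by
      have := Nat.le_of_dvd hr.pos (hx ▸ orderOf_dvd_of_pow_eq_one h)
      have := lt_mul_of_one_lt_right hr.pos hp.one_lt
      omega
    rcases Multiset.empty_or_exists_mem (rts (g : Mat)) with h0 | ⟨a, ha⟩
    · obtain ⟨d, hd, -⟩ := exists_scalar_of_nodup hn hr.pos (w := (1 : KK)) hnd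
        (by simp [h0])
      exact hnot (mk_pow_eq_one_of_scalar g hd)
    · obtain ⟨d, hd, -⟩ := exists_scalar_of_nodup hn hr.pos (w := a ^ r) hnd
        (fun b hb => heq b hb a ha)
      exact hnot (mk_pow_eq_one_of_scalar g hd)
  · by_contra hno
    push Not at hno
    obtain ⟨d, hd⟩ := exists_scalar_of_all_eq hn p hno
    have h := orderOf_dvd_of_pow_eq_one (mk_pow_eq_one_of_scalar g hd)
    rw [hx] at h
    exact hrp ((Nat.prime_dvd_prime_iff_eq hr hp).1 (hr.dvd_of_dvd_pow ((dvd_mul_right r p).trans h)))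

theorem necessary_rp (p : ℕ) [Fact p.Prime] [CharP F p] (hn : 1 ≤ n) {r k : ℕ} (hr : r.Prime)
    (hrp : r ≠ p) (hk : k = orderOf ((q : ℕ) : ZMod r)) (h2k : 2 ≤ k)
    (h : r * p ∈ Set.range (orderOf : PS → ℕ)) : k + 2 ≤ n := by
  classical
  obtain ⟨x, hx⟩ := h
  have hrq : ¬ r ∣ q - 1 := not_dvd_sub_one_of_ord (hk ▸ h2k)
  obtain ⟨g, hg, hgx⟩ := exists_lift (Nat.Coprime.mul_left (hr.coprime_iff_not_dvd.2 hrq)
    ((Fact.out : p.Prime).coprime_iff_not_dvd.2 (not_dvd_sub_one p))) x hx
  obtain ⟨-, hnd, hne⟩ := rts_rp p hn hr hrp g hgx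
  obtain ⟨a, ha, ha1⟩ := hne 1
  have hM : (g : Mat) ^ (r * p) = Matrix.scalar (Fin n) 1 := by
    rw [map_one, ← Matrix.SpecialLinearGroup.coe_pow, ← hg, pow_orderOf_eq_one]
    rfl
  haveI : CharP KK p := charP_of_injective_algebraMap (algebraMap F KK).injective p
  haveI := Fact.mk hr
  have har : orderOf a = r := by
    refine orderOf_eq_prime ?_ ha1
    apply frobenius_inj KK p
    rw [frobenius_def, frobenius_def, ← pow_mul, pow_of_mem hM ha, map_one, one_pow]
  have hca : (orderOf a).Coprime q := har.symm ▸ coprime_card hr hrp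
  have h1 : (orb a k).card = k := orb_card (har ▸ dvd_rfl) hca fun i hi =>
    hk ▸ (dvd_pow_sub_one_iff i).1 hi
  obtain ⟨y, hy⟩ : ∃ y, 2 ≤ (rts (g : Mat)).count y := by
    by_contra hno
    push Not at hno
    exact hnd (Multiset.nodup_iff_count_le_one.2 fun y => by have := hno y; omega)
  by_cases hy' : y ∈ orb a k
  · have := card_le_of_count (M := (g : Mat)) (T := orb a k) (c := 2) fun z hz => by
      rw [count_of_mem_orb hz, ← count_of_mem_orb hy']; exact hy
    omega
  · have hle : (orb a k).val + Multiset.replicate 2 y ≤ rts (g : Mat) := by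
      rw [Multiset.le_iff_count]
      intro z
      rw [Multiset.count_add, Multiset.count_replicate]
      by_cases hz : z ∈ orb a k
      · rw [Multiset.count_eq_one_of_mem (orb a k).nodup hz, count_of_mem_orb hz,
          if_neg (fun e : y = z => hy' (e.symm ▸ hz))]
        exact Multiset.one_le_count_iff_mem.2 ha
      · rw [Multiset.count_eq_zero_of_notMem hz, zero_add]
        split_ifs with e
        · exact e ▸ hy
        · exact Nat.zero_le _
    have := (Multiset.card_le_card hle).trans (rts_card (g : Mat))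
    rw [Multiset.card_add, Multiset.card_replicate, Finset.card_val, h1] at this
    omega

theorem sufficient_rp (p : ℕ) [Fact p.Prime] [CharP F p] {r k : ℕ} (hr : r.Prime)
    (hrp : r ≠ p) (hk : k = orderOf ((q : ℕ) : ZMod r)) (h2k : 2 ≤ k) (hkn : k + 2 ≤ n) :
    r * p ∈ Set.range (orderOf : PS → ℕ) := by
  have hrq : ¬ r ∣ q - 1 := not_dvd_sub_one_of_ord (hk ▸ h2k)
  obtain ⟨A, hA⟩ := exists_matrix_exact (F := F) p (m := r) (d := k) (by omega)
    ((dvd_pow_sub_one_iff k).2 (hk ▸ dvd_rfl))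
  obtain ⟨M, hM⟩ := exists_blk (show k + (n - k) = n by omega) A
    (Matrix.transvection (⟨0, by omega⟩ : Fin (n - k)) ⟨1, by omega⟩ (1 : F))
  rw [hA, orderOf_transvection p (by simp), ((Nat.coprime_primes hr Fact.out).2 hrp).lcm_eq_mul] at hM
  exact mem_range_of_matrix (by omega) hr Fact.out hrp hrq (not_dvd_sub_one p) M hM

theorem not_rp_two (p : ℕ) [Fact p.Prime] [CharP F p] (hn : n = 2) {r : ℕ} (hr : r.Prime)
    (hrp : r ≠ p) : r * p ∉ Set.range (orderOf : PS → ℕ) := by
  rintro ⟨x, hx⟩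
  obtain ⟨g, rfl⟩ := QuotientGroup.mk_surjective x
  obtain ⟨-, hnd, hne⟩ := rts_rp p (by omega) hr hrp g hx
  classical
  obtain ⟨y, hy⟩ : ∃ y, 2 ≤ (rts (g : Mat)).count y := by
    by_contra hno
    push Not at hno
    exact hnd (Multiset.nodup_iff_count_le_one.2 fun y => by have := hno y; omega)
  obtain ⟨a, ha, hay⟩ := hne y
  have hle : a ::ₘ Multiset.replicate 2 y ≤ rts (g : Mat) := by
    rw [Multiset.le_iff_count]
    intro z
    rw [Multiset.count_cons, Multiset.count_replicate]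
    by_cases hz : z = a
    · subst hz
      rw [if_neg (Ne.symm hay), if_pos rfl]
      exact Multiset.one_le_count_iff_mem.2 ha
    · rw [if_neg hz]
      split_ifs with e
      · simpa using e ▸ hy
      · exact Nat.zero_le _
  have := (Multiset.card_le_card hle).trans (rts_card (g : Mat))
  rw [Multiset.card_cons, Multiset.card_replicate] at this
  omega

theorem not_rp_three (p : ℕ) [Fact p.Prime] [CharP F p] (hn : n = 3) (hp : (3 : ℕ) ≠ p)
    (h9 : ¬ 9 ∣ q - 1) : 3 * p ∉ Set.range (orderOf : PS → ℕ) := by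
  classical
  rintro ⟨x, hx⟩
  obtain ⟨g, rfl⟩ := QuotientGroup.mk_surjective x
  obtain ⟨heq, hnd, hne⟩ := rts_rp p (by omega) Nat.prime_three hp g hx
  set M : Mat := (g : Mat) with hMdef
  obtain ⟨y, hy⟩ : ∃ y, 2 ≤ (rts M).count y := by
    by_contra hno
    push Not at hno
    exact hnd (Multiset.nodup_iff_count_le_one.2 fun y => by have := hno y; omega)
  obtain ⟨a, ha, hay⟩ := hne y
  have hle : a ::ₘ Multiset.replicate 2 y ≤ rts M := by
    rw [Multiset.le_iff_count]
    intro z
    rw [Multiset.count_cons, Multiset.count_replicate]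
    by_cases hz : z = a
    · subst hz
      rw [if_neg (Ne.symm hay), if_pos rfl]
      exact Multiset.one_le_count_iff_mem.2 ha
    · rw [if_neg hz]
      split_ifs with e
      · simpa using e ▸ hy
      · exact Nat.zero_le _
  have hR : rts M = a ::ₘ Multiset.replicate 2 y := (Multiset.eq_of_le_of_card_le hle (by
    rw [Multiset.card_cons, Multiset.card_replicate]; exact (rts_card M).trans hn.le)).symm
  -- the minimal polynomial is the characteristic polynomial
  have hchar : minpoly F M = M.charpoly := by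
    refine (Polynomial.eq_of_monic_of_dvd_of_natDegree_le (minpoly.monic (Matrix.isIntegral M))
      M.charpoly_monic (Matrix.minpoly_dvd_charpoly M) ?_).symm
    rw [Matrix.charpoly_natDegree_eq_dim, Fintype.card_fin]
    have h3 : (rts M).card = n := by rw [hR]; simp [hn]
    exact h3.ge.trans ((Polynomial.card_roots' _).trans natDegree_map_le)
  have hprod : (rts M).prod = 1 := by
    rw [rts, hchar, ← Matrix.charpoly_map, ← Matrix.det_eq_prod_roots_charpoly]
    show ((algebraMap F KK).mapMatrix M).det = 1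
    rw [← RingHom.map_det, hMdef, g.2, map_one]
  rw [hR, Multiset.prod_cons, Multiset.prod_replicate] at hprod
  have hy0 : y ≠ 0 := fun h => by simp [h] at hprod
  have hyq : y ^ q = y := by
    have h := count_frob M y
    rw [hR, Multiset.count_cons, Multiset.count_cons, Multiset.count_replicate,
      Multiset.count_replicate, if_pos rfl, if_neg (Ne.symm hay)] at h
    by_contra hne'
    split_ifs at h <;> first | omega | exact hne' (by assumption) | exact hne' (Eq.symm (by assumption))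
  have hy1 : y ^ (q - 1) = 1 := by
    rw [show q = q - 1 + 1 by have := q_two (F := F); omega, pow_succ] at hyq
    exact mul_right_cancel₀ hy0 (hyq.trans (one_mul y).symm)
  have hmem : y ∈ rts M := by rw [hR]; simp
  have hy9 : y ^ 9 = 1 := by
    have h := heq a ha y hmem
    have h' := congrArg (· ^ 3) hprod
    simp only [mul_pow, one_pow, h] at h'
    rw [← h']; ring
  have hy3 : y ^ 3 = 1 := by
    have h := pow_gcd_eq_one.2 ⟨hy9, hy1⟩
    have hd : Nat.gcd 9 (q - 1) ∣ 3 ^ 2 := Nat.gcd_dvd_left _ _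
    obtain ⟨i, hi, e⟩ := (Nat.dvd_prime_pow Nat.prime_three).1 hd
    rw [e] at h
    interval_cases i
    · rw [pow_zero, pow_one] at h; rw [h, one_pow]
    · rwa [pow_one] at h
    · exact absurd (show 9 ∣ q - 1 from (show (9 : ℕ) = 3 ^ 2 by norm_num) ▸ e ▸ Nat.gcd_dvd_right _ _) h9
  apply hay
  have : a * y ^ 2 = y * y ^ 2 := by rw [hprod, ← hy3]; ring
  exact mul_right_cancel₀ (pow_ne_zero 2 hy0) this

theorem sufficient_rp_diag (p : ℕ) [Fact p.Prime] [CharP F p] {r : ℕ} (hr : r.Prime) (hrp : r ≠ p)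
    {i j : Fin n} (hij : i ≠ j) (d : Fin n → F) (hd : ∏ t, d t = 1) (hdij : d i = d j)
    {c : F} (hc : ∀ t, d t ^ (r * p) = c) {a b : Fin n} (hne : d a ^ p ≠ d b ^ p) :
    r * p ∈ Set.range (orderOf : PS → ℕ) := by
  haveI : Nonempty (Fin n) := ⟨i⟩
  have hcomm : Commute (Matrix.diagonal d) (Matrix.transvection i j (1 : F)) := by
    show Matrix.diagonal d * _ = _ * Matrix.diagonal d
    ext s t
    rw [Matrix.diagonal_mul, Matrix.mul_diagonal]
    by_cases h : s = i ∧ t = j
    · rw [h.1, h.2, hdij]; ring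
    · by_cases hst : s = t
      · subst hst; ring
      · simp [Matrix.transvection, hst, h, Matrix.single_apply, eq_comm (a := i), eq_comm (a := j)]
  let g : SL := ⟨Matrix.diagonal d * Matrix.transvection i j (1 : F), by
    rw [Matrix.det_mul, Matrix.det_diagonal, hd, Matrix.det_transvection_of_ne i j hij, one_mul]⟩
  have hpow : ∀ m : ℕ, ((g ^ m : SL) : Mat) =
      Matrix.diagonal (fun t => d t ^ m) * Matrix.transvection i j (m : F) := fun m => by
    rw [Matrix.SpecialLinearGroup.coe_pow]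
    show (Matrix.diagonal d * Matrix.transvection i j (1 : F)) ^ m = _
    rw [hcomm.mul_pow, Matrix.diagonal_pow, transvection_pow hij]
    rfl
  refine ⟨((g : SL) : PS), orderOf_eq_mul hr Fact.out _ ?_ ?_ ?_⟩
  · refine mk_pow_eq_one_of_scalar g (c := c) ?_
    rw [← Matrix.SpecialLinearGroup.coe_pow, hpow, Nat.cast_mul, CharP.cast_eq_zero F p, mul_zero,
      Matrix.transvection_zero, mul_one, Matrix.scalar_apply]
    exact congrArg Matrix.diagonal (funext hc)
  · intro h
    rw [← QuotientGroup.mk_pow, SpectrumPSL61.mk_eq_one_iff] at h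
    obtain ⟨e, -, he⟩ := h
    rw [hpow] at he
    have h1 := congrFun (congrFun he i) j
    rw [Matrix.diagonal_mul, Matrix.scalar_apply, Matrix.diagonal_apply_ne _ hij] at h1
    have hr0 : (r : F) ≠ 0 := by
      rw [Ne, CharP.cast_eq_zero_iff F p, Nat.prime_dvd_prime_iff_eq Fact.out hr]
      exact Ne.symm hrp
    have hdi : d i ≠ 0 := fun h0 => by
      have := Finset.prod_eq_zero (Finset.mem_univ i) h0
      rw [hd] at this
      exact one_ne_zero this
    simp [Matrix.transvection, hij, hr0, hdi] at h1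
  · intro h
    rw [← QuotientGroup.mk_pow, SpectrumPSL61.mk_eq_one_iff] at h
    obtain ⟨e, -, he⟩ := h
    rw [hpow, CharP.cast_eq_zero, Matrix.transvection_zero, mul_one, Matrix.scalar_apply,
      Matrix.diagonal_eq_diagonal_iff] at he
    exact hne ((he a).symm.trans (he b))

theorem sufficient_rp_four (p : ℕ) [Fact p.Prime] [CharP F p] {r : ℕ} (hr : r.Prime) (hrp : r ≠ p)
    (hrq : r ∣ q - 1) (hn : 4 ≤ n) : r * p ∈ Set.range (orderOf : PS → ℕ) := by
  classical
  haveI := Fact.mk hr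
  obtain ⟨u, hu⟩ := exists_prime_orderOf_dvd_card' (G := Fˣ) r
    (by rwa [Nat.card_eq_fintype_card, Fintype.card_units])
  have hur : (u : F) ^ r = 1 := by
    have := congrArg Units.val (hu ▸ pow_orderOf_eq_one u); simpa using this
  have hup : (u : F) ^ p ≠ 1 := fun h => by
    have := orderOf_dvd_of_pow_eq_one (x := u) (n := p) (Units.ext (by simpa using h))
    rw [hu] at this
    exact hrp ((Nat.prime_dvd_prime_iff_eq hr Fact.out).1 this)
  let i0 : Fin n := ⟨0, by omega⟩
  let i1 : Fin n := ⟨1, by omega⟩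
  have h01 : i0 ≠ i1 := by simp [i0, i1]
  let d : Fin n → F := fun t => if t = i0 then (u : F) else if t = i1 then (u : F)⁻¹ else 1
  refine sufficient_rp_diag p hr hrp (i := ⟨2, by omega⟩) (j := ⟨3, by omega⟩) (by simp) d ?_
    (by simp [d, i0, i1]) (c := 1) ?_ (a := i0) (b := ⟨2, by omega⟩) ?_
  · rw [← Finset.prod_subset (Finset.subset_univ {i0, i1}) (fun t _ ht => by
      simp only [Finset.mem_insert, Finset.mem_singleton, not_or] at ht
      simp [d, ht.1, ht.2]), Finset.prod_pair h01]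
    simp [d, h01.symm]
  · intro t
    rw [pow_mul]
    simp only [d]
    split_ifs <;> simp [hur]
  · simp [d, i0, i1, hup]

theorem sufficient_rp_three (p : ℕ) [Fact p.Prime] [CharP F p] {r : ℕ} (hr : r.Prime) (hrp : r ≠ p)
    (hn : n = 3) (a : Fˣ) (ha : a ^ (3 * r) = 1) (ha3 : a ^ 3 ≠ 1) :
    r * p ∈ Set.range (orderOf : PS → ℕ) := by
  subst hn
  have hap : (a ^ 3) ^ p ≠ 1 := fun h => by
    have h1 : orderOf (a ^ 3) ∣ Nat.gcd p r :=
      Nat.dvd_gcd (orderOf_dvd_of_pow_eq_one h) (orderOf_dvd_of_pow_eq_one (by rw [← pow_mul, ha]))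
    rw [((Nat.coprime_primes (Fact.out : p.Prime) hr).2 (Ne.symm hrp)).gcd_eq_one, Nat.dvd_one,
      orderOf_eq_one_iff] at h1
    exact ha3 h1
  refine sufficient_rp_diag p hr hrp (i := 0) (j := 1) (by decide) ![(a : F), (a : F), ((a : F) ^ 2)⁻¹]
    ?_ rfl (c := (a : F) ^ (r * p)) ?_ (a := 0) (b := 2) ?_
  · have := a.ne_zero
    simp [Fin.prod_univ_three]; field_simp
  · intro t
    fin_cases t
    · rfl
    · rfl
    · show (((a : F) ^ 2)⁻¹) ^ (r * p) = (a : F) ^ (r * p)
      rw [inv_pow, inv_eq_iff_eq_inv, eq_comm, inv_eq_of_mul_eq_one_left]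
      rw [← mul_pow,
        show (a : F) ^ 2 * a = a ^ 3 by ring, ← pow_mul, ← mul_assoc, pow_mul]
      have := congrArg Units.val ha
      rw [Units.val_pow_eq_pow_val, Units.val_one] at this
      rw [this, one_pow]
  · show (a : F) ^ p ≠ (((a : F) ^ 2)⁻¹) ^ p
    intro h
    apply hap
    apply Units.ext
    have h0 := a.ne_zero
    rw [Units.val_pow_eq_pow_val, Units.val_pow_eq_pow_val, Units.val_one,
      show (a : F) ^ 3 = a * a ^ 2 by ring, mul_pow, h, ← mul_pow, inv_mul_cancel₀ (pow_ne_zero _ h0),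
      one_pow]

end Cfsg.Agent.PSLAdjacency57
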