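import Mathlib
import Cfsg.Agent.Lib.SLClasses53
import Cfsg.Agent.Lib.PSLCard

/-!
The class numbers of `SL(n,q)` and `PSL(n,q)`.
-/

set_option autoImplicit false

open Polynomial
open Cfsg.Agent.GLClassBound53 Cfsg.Agent.GLInvariants53 Cfsg.Agent.SLClassCount53 Cfsg.Agent.SLClasses53

namespace Cfsg.Agent.SLClassNumber53

universe u

variable {F : Type u} [Field F] [Fintype F]

local notation "q" => Fintype.card F

theorem card_roots_le {k : ℕ} (hk : 0 < k) : Nat.card {a : Fˣ // a ^ k = 1} ≤ Nat.gcd k (q - 1) := by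
  classical
  rw [Nat.card_eq_fintype_card, Fintype.card_subtype]
  refine le_trans (Finset.card_le_card ?_) (IsCyclic.card_pow_eq_one_le (Nat.gcd_pos_of_pos_left _ hk))
  intro a ha
  simp only [Finset.mem_filter, Finset.mem_univ, true_and] at ha ⊢
  exact pow_gcd_eq_one.2 ⟨ha, by rw [← Fintype.card_units]; exact pow_card_eq_one⟩

theorem card_cst_le (d : ℕ) {k : ℕ} (hk : 0 < k) :
    Nat.card {p : P F (d + 1) // cst p.1 ^ k = 1} ≤ Nat.gcd k (q - 1) * q ^ d := by
  classical
  have h0 : ∀ p : P F (d + 1), cst p.1 ≠ 0 := fun p => mul_ne_zero (pow_ne_zero _ (neg_ne_zero.2 one_ne_zero)) p.2.1.2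
  let f : {p : P F (d + 1) // cst p.1 ^ k = 1} → {a : Fˣ // a ^ k = 1} × (Fin d → F) := fun p =>
    (⟨Units.mk0 _ (h0 p.1), Units.ext (by simpa using p.2)⟩, (PEquiv d p.1).2)
  have hf : Function.Injective f := by
    intro a b hab
    refine Subtype.ext ((PEquiv d).injective (Prod.ext (Subtype.ext ?_) (congrArg Prod.snd hab :)))
    have h1 : cst a.1.1 = cst b.1.1 := congrArg (fun t : {a : Fˣ // a ^ k = 1} × (Fin d → F) => (t.1.1 : F)) hab
    rw [cst, cst, a.1.2.2, b.1.2.2] at h1
    have h2 := mul_left_cancel₀ (pow_ne_zero _ (neg_ne_zero.2 (one_ne_zero (α := F)))) h1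
    simpa [Cfsg.Agent.GLClassBound53.PEquiv, coeffEquiv_apply] using! h2
  refine (Nat.card_le_card_of_injective f hf).trans ?_
  rw [Nat.card_prod, Nat.card_eq_fintype_card (α := Fin d → F), Fintype.card_fun, Fintype.card_fin]
  exact Nat.mul_le_mul_right _ (card_roots_le hk)

variable {n : ℕ} [NeZero n]

local notation "SLn" => Matrix.SpecialLinearGroup (Fin n) F

noncomputable instance instFintypeT (k m : ℕ) : Fintype (T F k m) :=
  @Fintype.ofFinite _ (finite_T (F := F) k m).1

open scoped Classical in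
noncomputable def A1 (F : Type u) [Field F] [Fintype F] (n : ℕ) [NeZero n] : Finset (T F n n) :=
  Finset.univ.filter fun h => chi h.1 = 1 ∧ h.1 0 ≠ 1

open scoped Classical in
noncomputable def A2 (F : Type u) [Field F] [Fintype F] (n : ℕ) [NeZero n] : Finset (T F n n) :=
  Finset.univ.filter fun h => chi h.1 = 1 ∧ h.1 0 = 1

theorem card_SL_classes_le :
    Nat.card (ConjClasses SLn) ≤ (A1 F n).card + ∑ h ∈ A2 F n, split h.1 := by
  classical
  rw [← Nat.card_univ (α := ConjClasses SLn)]
  refine (card_classes_le Set.univ (A1 F n ∪ A2 F n) fun c _ => ?_).trans ?_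
  · simp only [A1, A2, Finset.mem_union, Finset.mem_filter, Finset.mem_univ, true_and]
    have := chi_tupC c
    tauto
  · rw [Finset.sum_union (show Disjoint (A1 F n) (A2 F n) from Finset.disjoint_filter.2 fun h _ h1 h2 => h1.2 h2.2),
      Finset.card_eq_sum_ones]
    exact Nat.add_le_add_right (Finset.sum_le_sum fun h hh =>
      (split_eq_one (Finset.mem_filter.1 hh).2.2).le) _

theorem weight_zero_eq (h : T F n n) (h0 : h.1 0 = 1) : ∀ j : Fin n, (j : ℕ) = 0 → h.1 j = 1 := fun j hj => by
  rw [show j = 0 from Fin.ext hj, h0]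

theorem natDegree_zero_pos (h : T F n n) (h0 : h.1 0 ≠ 1) : 0 < (h.1 0).natDegree :=
  Nat.pos_of_ne_zero fun hd => h0 ((h.2.1 0).1.natDegree_eq_zero.1 hd)

open scoped Classical in
theorem card_A1 : (q - 1) * (A1 F n).card + (Finset.univ.filter fun h : T F n n => h.1 0 = 1).card ≤
    GLClassCount53.tot q n n := by
  classical
  set B := Finset.univ.filter fun h : T F n n => h.1 0 ≠ 1 with hB
  have h1 : (q - 1) * (A1 F n).card ≤ B.card := by
    rw [← Fintype.card_units, ← Fintype.card_coe (A1 F n), ← Fintype.card_prod, ← Fintype.card_coe B]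
    let mod : Fˣ → T F n n → F[X] := fun a h => h.1 0 + C (((a : F) - 1) * (h.1 0).coeff 0)
    have hmod : ∀ (a : Fˣ) (h : T F n n), h.1 0 ≠ 1 → (mod a h).Monic ∧ (mod a h).natDegree = (h.1 0).natDegree ∧
        (mod a h).coeff 0 = (a : F) * (h.1 0).coeff 0 := by
      intro a h h0
      refine ⟨(h.2.1 0).1.add_of_left ?_, natDegree_add_C, ?_⟩
      · exact lt_of_le_of_lt degree_C_le (natDegree_pos_iff_degree_pos.1 (natDegree_zero_pos h h0))
      · simp [mod, sub_mul]
    let f : Fˣ × A1 F n → B := fun x =>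
      ⟨⟨Function.update x.2.1.1 0 (mod x.1 x.2.1), fun j => by
          have hm := hmod x.1 x.2.1 (Finset.mem_filter.1 x.2.2).2.2
          by_cases hj : j = 0
          · subst hj
            rw [Function.update_self]
            exact ⟨hm.1, by rw [hm.2.2]; exact mul_ne_zero x.1.ne_zero (x.2.1.2.1 0).2⟩
          · rw [Function.update_of_ne hj]
            exact x.2.1.2.1 j, by
          refine Eq.trans ?_ x.2.1.2.2
          refine Finset.sum_congr rfl fun j _ => ?_
          by_cases hj : j = 0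
          · subst hj
            rw [Function.update_self, (hmod x.1 x.2.1 (Finset.mem_filter.1 x.2.2).2.2).2.1]
          · rw [Function.update_of_ne hj]⟩, by
        have hm := hmod x.1 x.2.1 (Finset.mem_filter.1 x.2.2).2.2
        refine Finset.mem_filter.2 ⟨Finset.mem_univ _, ?_⟩
        show Function.update x.2.1.1 0 (mod x.1 x.2.1) 0 ≠ 1
        rw [Function.update_self]
        intro he
        have := natDegree_zero_pos x.2.1 (Finset.mem_filter.1 x.2.2).2.2
        rw [← hm.2.1, he, natDegree_one] at this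
        exact absurd this (lt_irrefl 0)⟩
    refine Fintype.card_le_of_injective f ?_
    rintro ⟨a, h⟩ ⟨b, k⟩ hab
    have hu : Function.update h.1.1 0 (mod a h.1) = Function.update k.1.1 0 (mod b k.1) :=
      congrArg (fun t : B => t.1.1) hab
    have hh := Finset.mem_filter.1 h.2
    have hk := Finset.mem_filter.1 k.2
    have hchi : ∀ (c : Fˣ) (t : T F n n), t.1 0 ≠ 1 → chi t.1 = 1 →
        chi (Function.update t.1 0 (mod c t)) = (c : F) := by
      intro c t t0 tc
      rw [chi, ← Finset.mul_prod_erase _ _ (Finset.mem_univ (0 : Fin n)), Function.update_self,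
        Finset.prod_congr rfl fun j hj => by rw [Function.update_of_ne (Finset.ne_of_mem_erase hj)]]
      rw [chi, ← Finset.mul_prod_erase _ _ (Finset.mem_univ (0 : Fin n))] at tc
      simp only [Fin.val_zero, zero_add, pow_one] at tc ⊢
      rw [show cst (mod c t) = (c : F) * cst (t.1 0) by
        rw [cst, cst, (hmod c t t0).2.1, (hmod c t t0).2.2]; ring]
      rw [mul_assoc, tc, mul_one]
    have e1 : (a : F) = (b : F) := by rw [← hchi a h.1 hh.2.2 hh.2.1, hu, hchi b k.1 hk.2.2 hk.2.1]
    have e2 : a = b := Units.ext e1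
    subst e2
    refine Prod.ext rfl (Subtype.ext (Subtype.ext (funext fun j => ?_)))
    by_cases hj : j = 0
    · subst hj
      have e3 := congrFun hu 0
      rw [Function.update_self, Function.update_self] at e3
      ext i
      have e4 := congrArg (fun t : F[X] => t.coeff i) e3
      simp only [mod, coeff_add, coeff_C] at e4
      by_cases hi : i = 0
      · subst hi
        simp only [if_true, sub_mul, one_mul, add_sub_cancel] at e4
        exact mul_left_cancel₀ a.ne_zero e4
      · simpa [hi] using e4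
    · have e3 := congrFun hu j
      rwa [Function.update_of_ne hj, Function.update_of_ne hj] at e3
  have h2 : B.card + (Finset.univ.filter fun h : T F n n => h.1 0 = 1).card = Fintype.card (T F n n) := by
    have := Finset.card_filter_add_card_filter_not (s := (Finset.univ : Finset (T F n n))) (fun h => h.1 0 = 1)
    rw [hB, add_comm, ← Finset.card_univ]
    exact this
  have h3 := (finite_T (F := F) n n).2
  rw [Nat.card_eq_fintype_card] at h3
  omega

open scoped Classical in
theorem card_zero_part_ge (j : Fin n) (hj : (j : ℕ) ≠ 0) (d : ℕ) (hd : ((j : ℕ) + 1) * d = n) :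
    Nat.card (P F d) ≤ (Finset.univ.filter fun h : T F n n => h.1 0 = 1).card := by
  haveI := Fintype.ofFinite (P F d)
  rw [Nat.card_eq_fintype_card, ← Fintype.card_coe]
  refine Fintype.card_le_of_injective (fun p => ⟨⟨Function.update (fun _ => 1) j p.1, fun i => ?_, ?_⟩, ?_⟩) ?_
  · by_cases hi : i = j
    · subst hi; rw [Function.update_self]; exact p.2.1
    · rw [Function.update_of_ne hi]; exact ⟨monic_one, by simp⟩
  · rw [Finset.sum_eq_single j (fun i _ hi => by rw [Function.update_of_ne hi]; simp)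
      (fun h => absurd (Finset.mem_univ j) h), Function.update_self, p.2.2, hd]
  · refine Finset.mem_filter.2 ⟨Finset.mem_univ _, ?_⟩
    show Function.update (fun _ => (1 : F[X])) j p.1 0 = 1
    exact Function.update_of_ne (fun (e : (0 : Fin n) = j) => hj (by rw [← e]; rfl)) _ _
  · intro a b hab
    have := congrArg (fun t : {x // x ∈ Finset.univ.filter fun h : T F n n => h.1 0 = 1} => t.1.1 j) hab
    exact Subtype.ext (by simpa using this)

theorem card_A2_le : (A2 F n).card ≤ W q n := by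
  classical
  refine le_trans ?_ (card_T2_le (F := F) n n)
  rw [← Fintype.card_coe, ← Nat.card_eq_fintype_card]
  haveI : Finite (T2 F n n) := Subtype.finite
  exact Nat.card_le_card_of_injective (fun h => (⟨h.1, weight_zero_eq h.1 (Finset.mem_filter.1 h.2).2.2⟩ : T2 F n n))
    fun a b hab => Subtype.ext (congrArg (fun t : T2 F n n => t.1) hab)

theorem sum_split_A2_le :
    ∑ h ∈ A2 F n, split h.1 ≤ Nat.gcd n (q - 1) * (A2 F n).card := by
  rw [mul_comm, ← smul_eq_mul]
  exact Finset.sum_le_card_nsmul _ _ _ fun h _ => split_le h.1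

theorem eq_of_single (h : T F n n) (j : Fin n) (hj : ∀ i, i ≠ j → h.1 i = 1) :
    ((j : ℕ) + 1) * (h.1 j).natDegree = n ∧ chi h.1 = cst (h.1 j) ^ ((j : ℕ) + 1) := by
  refine ⟨?_, ?_⟩
  · refine Eq.trans ?_ h.2.2
    rw [Finset.sum_eq_single j (fun i _ hi => by rw [hj i hi]; simp) (fun e => absurd (Finset.mem_univ j) e)]
  · rw [chi, Finset.prod_eq_single j (fun i _ hi => by rw [hj i hi]; simp [cst_one]) (fun e => absurd (Finset.mem_univ j) e)]

theorem card_single_le (j : Fin n) (d : ℕ) (hd : ((j : ℕ) + 1) * (d + 1) = n) (A : Finset (T F n n))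
    (hA : ∀ h ∈ A, chi h.1 = 1 ∧ ∀ i, i ≠ j → h.1 i = 1) :
    A.card ≤ Nat.gcd ((j : ℕ) + 1) (q - 1) * q ^ d := by
  refine le_trans ?_ (card_cst_le d (Nat.succ_pos _))
  rw [← Fintype.card_coe, ← Nat.card_eq_fintype_card]
  refine Nat.card_le_card_of_injective (fun h => ⟨⟨h.1.1 j, h.1.2.1 j, ?_⟩, ?_⟩) fun a b hab => ?_
  · exact Nat.eq_of_mul_eq_mul_left (Nat.succ_pos _) ((eq_of_single h.1 j (hA _ h.2).2).1.trans hd.symm)
  · rw [← (eq_of_single h.1 j (hA _ h.2).2).2]; exact (hA _ h.2).1
  · refine Subtype.ext (Subtype.ext (funext fun i => ?_))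
    by_cases hi : i = j
    · subst hi
      exact congrArg (fun t : {p : P F (d + 1) // cst p.1 ^ ((i : ℕ) + 1) = 1} => t.1.1) hab
    · rw [(hA _ a.2).2 i hi, (hA _ b.2).2 i hi]

theorem tot_two {r : ℕ} (hr : 2 ≤ r) : GLClassCount53.tot r 2 2 + 1 = r ^ 2 := by
  obtain ⟨s, rfl⟩ : ∃ s, r = s + 2 := ⟨r - 2, by omega⟩
  simp [GLClassCount53.tot, GLClassCount53.cnt, Finset.sum_range_succ]
  ring

theorem tot_three {r : ℕ} (hr : 2 ≤ r) : GLClassCount53.tot r 3 3 + r = r ^ 3 := by
  obtain ⟨s, rfl⟩ : ∃ s, r = s + 2 := ⟨r - 2, by omega⟩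
  simp [GLClassCount53.tot, GLClassCount53.cnt, Finset.sum_range_succ]
  ring

theorem tot_four {r : ℕ} (hr : 2 ≤ r) : GLClassCount53.tot r 4 4 + r = r ^ 4 := by
  obtain ⟨s, rfl⟩ : ∃ s, r = s + 2 := ⟨r - 2, by omega⟩
  simp [GLClassCount53.tot, GLClassCount53.cnt, Finset.sum_range_succ]
  ring

theorem card_P_one : Nat.card (P F 1) = q - 1 := by simp [card_P, GLClassCount53.cnt]

theorem degree_cases {m : ℕ} (h : T F (m + 1) (m + 1)) (h0 : h.1 0 = 1) :
    ∑ i : Fin m, ((i : ℕ) + 2) * (h.1 i.succ).natDegree = m + 1 := by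
  have := h.2.2
  rw [Fin.sum_univ_succ, h0] at this
  simpa [add_assoc] using this

theorem eq_one_of_deg {k m : ℕ} (h : T F k m) (i : Fin k) (hd : (h.1 i).natDegree = 0) : h.1 i = 1 :=
  (h.2.1 i).1.natDegree_eq_zero.1 hd

theorem classes_two : Nat.card (ConjClasses (Matrix.SpecialLinearGroup (Fin 2) F)) ≤ q + Nat.gcd 2 (q - 1) ^ 2 := by
  classical
  have hq : 2 ≤ q := Fintype.one_lt_card
  have h1 := card_A1 (F := F) (n := 2)
  have h2 := card_zero_part_ge (F := F) (n := 2) 1 (by decide) 1 (by decide)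
  rw [card_P_one] at h2
  have h3 := tot_two hq
  have hA1 : (A1 F 2).card ≤ q := by
    refine Nat.le_of_mul_le_mul_left ?_ (show 0 < q - 1 by omega)
    have : (q - 1) * q + q = q ^ 2 := by rw [Nat.sub_mul, one_mul, sq, Nat.sub_add_cancel (Nat.le_mul_self _)]
    omega
  have hA2 : (A2 F 2).card ≤ Nat.gcd 2 (q - 1) := by
    refine (card_single_le 1 0 rfl (A2 F 2) fun h hh => ⟨(Finset.mem_filter.1 hh).2.1, fun i hi => ?_⟩).trans (by simp)
    fin_cases i
    · exact (Finset.mem_filter.1 hh).2.2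
    · exact absurd rfl hi
  calc Nat.card (ConjClasses (Matrix.SpecialLinearGroup (Fin 2) F)) ≤ (A1 F 2).card + ∑ h ∈ A2 F 2, split h.1 :=
        card_SL_classes_le
    _ ≤ q + Nat.gcd 2 (q - 1) * Nat.gcd 2 (q - 1) :=
        Nat.add_le_add hA1 (sum_split_A2_le.trans (Nat.mul_le_mul_left _ hA2))
    _ = _ := by rw [sq]

theorem classes_three : Nat.card (ConjClasses (Matrix.SpecialLinearGroup (Fin 3) F)) + 1 ≤
    q ^ 2 + q + Nat.gcd 3 (q - 1) ^ 2 := by
  classical
  have hq : 2 ≤ q := Fintype.one_lt_card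
  have h1 := card_A1 (F := F) (n := 3)
  have h2 := card_zero_part_ge (F := F) (n := 3) 2 (by decide) 1 (by decide)
  rw [card_P_one] at h2
  have h3 := tot_three hq
  have hA1 : (A1 F 3).card + 1 ≤ q ^ 2 + q := by
    refine Nat.le_of_mul_le_mul_left ?_ (show 0 < q - 1 by omega)
    have : (q - 1) * (q ^ 2 + q) + q = q ^ 3 := by
      obtain ⟨s, hs⟩ : ∃ s, q = s + 1 := ⟨q - 1, by omega⟩
      rw [hs, Nat.add_sub_cancel]
      ring
    rw [mul_add, mul_one]
    omega
  have hA2 : (A2 F 3).card ≤ Nat.gcd 3 (q - 1) := by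
    refine (card_single_le 2 0 rfl (A2 F 3) fun h hh => ⟨(Finset.mem_filter.1 hh).2.1, fun i hi => ?_⟩).trans (by simp)
    have hd := degree_cases h (Finset.mem_filter.1 hh).2.2
    simp [Fin.sum_univ_two] at hd
    fin_cases i
    · exact (Finset.mem_filter.1 hh).2.2
    · exact eq_one_of_deg h _ (by show (h.1 1).natDegree = 0; omega)
    · exact absurd rfl hi
  have := (card_SL_classes_le (F := F) (n := 3)).trans
    (Nat.add_le_add_left (sum_split_A2_le.trans (Nat.mul_le_mul_left _ hA2)) _)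
  rw [sq (Nat.gcd 3 (q - 1))]
  omega

theorem classes_four : Nat.card (ConjClasses (Matrix.SpecialLinearGroup (Fin 4) F)) ≤
    q ^ 3 + q ^ 2 + (Nat.gcd 2 (q - 1) ^ 2 * q + Nat.gcd 4 (q - 1) ^ 2) := by
  classical
  have hq : 2 ≤ q := Fintype.one_lt_card
  have h1 := card_A1 (F := F) (n := 4)
  have h2 := card_zero_part_ge (F := F) (n := 4) 1 (by decide) 2 (by decide)
  rw [card_P, GLClassCount53.cnt, if_neg (by norm_num), show 2 - 1 = 1 from rfl, pow_one] at h2
  have h3 := tot_four hq
  have hA1 : (A1 F 4).card ≤ q ^ 3 + q ^ 2 := by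
    refine Nat.le_of_mul_le_mul_left ?_ (show 0 < q - 1 by omega)
    have : (q - 1) * (q ^ 3 + q ^ 2) + (q - 1) * q + q = q ^ 4 := by
      obtain ⟨s, hs⟩ : ∃ s, q = s + 1 := ⟨q - 1, by omega⟩
      rw [hs, Nat.add_sub_cancel]
      ring
    omega
  have hdeg : ∀ h ∈ A2 F 4, ((h.1 1).natDegree = 2 ∧ h.1 2 = 1 ∧ h.1 3 = 1) ∨
      (h.1 1 = 1 ∧ h.1 2 = 1 ∧ (h.1 3).natDegree = 1) := by
    intro h hh
    have hd := degree_cases h (Finset.mem_filter.1 hh).2.2
    simp [Fin.sum_univ_three] at hd
    have e2 : h.1 2 = 1 := eq_one_of_deg h _ (by show (h.1 2).natDegree = 0; omega)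
    rcases Nat.eq_zero_or_pos (h.1 1).natDegree with hz | hz
    · exact Or.inr ⟨eq_one_of_deg h _ hz, e2, by show (h.1 3).natDegree = 1; omega⟩
    · exact Or.inl ⟨by show (h.1 1).natDegree = 2; omega, e2, eq_one_of_deg h _ (by show (h.1 3).natDegree = 0; omega)⟩
  set S := (A2 F 4).filter fun h => h.1 1 ≠ 1 with hS
  set R := (A2 F 4).filter fun h => ¬ h.1 1 ≠ 1 with hR
  have hSc : S.card ≤ Nat.gcd 2 (q - 1) * q := by
    refine (card_single_le 1 1 rfl S fun h hh => ?_).trans (by simp)
    obtain ⟨hA, hne⟩ := Finset.mem_filter.1 hh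
    obtain ⟨-, e2, e3⟩ := (hdeg h hA).resolve_right fun e => hne e.1
    refine ⟨(Finset.mem_filter.1 hA).2.1, fun i hi => ?_⟩
    fin_cases i
    · exact (Finset.mem_filter.1 hA).2.2
    · exact absurd rfl hi
    · exact e2
    · exact e3
  have hRc : R.card ≤ Nat.gcd 4 (q - 1) := by
    refine (card_single_le 3 0 rfl R fun h hh => ?_).trans (by simp)
    obtain ⟨hA, hne⟩ := Finset.mem_filter.1 hh
    push Not at hne
    refine ⟨(Finset.mem_filter.1 hA).2.1, fun i hi => ?_⟩
    rcases hdeg h hA with ⟨e1, -, -⟩ | ⟨-, e2, -⟩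
    · rw [hne, natDegree_one] at e1
      omega
    fin_cases i
    · exact (Finset.mem_filter.1 hA).2.2
    · exact hne
    · exact e2
    · exact absurd rfl hi
  have hsum : ∑ h ∈ A2 F 4, split h.1 ≤ Nat.gcd 2 (q - 1) ^ 2 * q + Nat.gcd 4 (q - 1) ^ 2 := by
    rw [← Finset.sum_filter_add_sum_filter_not (A2 F 4) (fun h => h.1 1 ≠ 1)]
    refine Nat.add_le_add ?_ ?_
    · calc ∑ h ∈ S, split h.1 ≤ S.card • Nat.gcd 2 (q - 1) := by
            refine Finset.sum_le_card_nsmul _ _ _ fun h hh => ?_
            refine (split_le_exp (Finset.mem_filter.1 hh).2).trans ?_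
            refine Nat.le_of_dvd (Nat.gcd_pos_of_pos_left _ (by norm_num)) (Nat.dvd_gcd (Nat.gcd_dvd_right _ _) ?_)
            exact (Nat.gcd_dvd_left _ _).trans (Nat.gcd_dvd_right _ _)
        _ ≤ Nat.gcd 2 (q - 1) * q * Nat.gcd 2 (q - 1) := by rw [smul_eq_mul]; exact Nat.mul_le_mul_right _ hSc
        _ = _ := by ring
    · calc ∑ h ∈ R, split h.1 ≤ R.card • Nat.gcd 4 (q - 1) := Finset.sum_le_card_nsmul _ _ _ fun h _ => split_le h.1
        _ ≤ Nat.gcd 4 (q - 1) * Nat.gcd 4 (q - 1) := by rw [smul_eq_mul]; exact Nat.mul_le_mul_right _ hRc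
        _ = _ := (sq _).symm
  exact card_SL_classes_le.trans (Nat.add_le_add hA1 hsum)

theorem classes_general :
    (q - 1) * Nat.card (ConjClasses SLn) ≤ q ^ n + (q - 1) * (Nat.gcd n (q - 1) * W q n) := by
  classical
  have h1 := card_A1 (F := F) (n := n)
  have h2 := GLClassCount53.tot_le (Fintype.one_lt_card (α := F)) n n (Nat.pos_of_ne_zero (NeZero.ne n))
  have h3 : Nat.card (ConjClasses SLn) ≤ (A1 F n).card + Nat.gcd n (q - 1) * W q n :=
    card_SL_classes_le.trans (Nat.add_le_add_left (sum_split_A2_le.trans (Nat.mul_le_mul_left _ card_A2_le)) _)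
  have h4 := Nat.mul_le_mul_left (q - 1) h3
  rw [mul_add] at h4
  omega

/-- classes fixed under multiplication by a scalar -/
theorem card_fixed_le (a : F) (e m : ℕ) (he : orderOf a = e) (he1 : 1 ≤ e) (hm : e * m = n)
    (S : Set (ConjClasses SLn)) (hS : ∀ c ∈ S, ∀ j, scale a ((tupC c).1 j) = (tupC c).1 j) :
    Nat.card S ≤ q ^ m + (Nat.gcd n (q - 1) - 1) * W q m := by
  classical
  have hm0 : 0 < m := Nat.pos_of_ne_zero fun h => NeZero.ne n (by rw [← hm, h, mul_zero])
  have ha : a ≠ 0 := fun h => by rw [h, orderOf_zero] at he; omega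
  set B := Finset.univ.filter fun h : T F n n => chi h.1 = 1 ∧ ∀ j, scale a (h.1 j) = h.1 j with hB
  have key : ∀ p : F[X], Good p → scale a p = p → expand F e (contract e p) = p ∧ Good (contract e p) ∧
      p.natDegree = (contract e p).natDegree * e := by
    intro p hp hfix
    have hi : ∀ i, p.coeff i ≠ 0 → a ^ i = a ^ p.natDegree := by
      intro i hne
      have h := congrArg (fun t : F[X] => t.coeff i) hfix
      simp only [coeff_scale] at h
      field_simp at h
      exact h
    have hD : e ∣ p.natDegree := by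
      rw [← he, orderOf_dvd_iff_pow_eq_one, ← hi 0 hp.2, pow_zero]
    have hexp : expand F e (contract e p) = p := by
      ext i
      rw [coeff_expand (by omega)]
      split_ifs with hd
      · rw [coeff_contract (by omega), Nat.div_mul_cancel hd]
      · by_contra hne
        refine hd ?_
        rw [← he, orderOf_dvd_iff_pow_eq_one, hi i (Ne.symm hne), ← orderOf_dvd_iff_pow_eq_one, he]
        exact hD
    refine ⟨hexp, ⟨(monic_expand_iff (by omega : 0 < e)).1 (by rw [hexp]; exact hp.1), ?_⟩, ?_⟩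
    · rw [coeff_contract (by omega), zero_mul]; exact hp.2
    · conv_lhs => rw [← hexp, natDegree_expand]
  refine (card_classes_le S B fun c hc => Finset.mem_filter.2 ⟨Finset.mem_univ _, chi_tupC c, hS c hc⟩).trans ?_
  have hle : ∑ h ∈ B, split h.1 ≤
      ∑ h ∈ B, (1 + (Nat.gcd n (q - 1) - 1) * if h.1 0 = 1 then 1 else 0) := by
    refine Finset.sum_le_sum fun h _ => ?_
    split_ifs with h0
    · have := split_le (F := F) h.1
      omega
    · simp [split_eq_one (F := F) h0]
  refine hle.trans ?_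
  rw [Finset.sum_add_distrib, ← Finset.mul_sum, ← Finset.card_eq_sum_ones, ← Finset.card_filter]
  let red : B → T F n m := fun h => ⟨fun j => contract e (h.1.1 j), fun j =>
      (key _ (h.1.2.1 j) ((Finset.mem_filter.1 h.2).2.2 j)).2.1, by
    refine Nat.eq_of_mul_eq_mul_left he1 ?_
    rw [Finset.mul_sum, hm]
    refine Eq.trans ?_ h.1.2.2
    refine Finset.sum_congr rfl fun j _ => ?_
    rw [(key _ (h.1.2.1 j) ((Finset.mem_filter.1 h.2).2.2 j)).2.2]
    ring⟩
  have hred : Function.Injective red := by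
    intro x y hxy
    refine Subtype.ext (Subtype.ext (funext fun j => ?_))
    rw [← (key _ (x.1.2.1 j) ((Finset.mem_filter.1 x.2).2.2 j)).1, ← (key _ (y.1.2.1 j) ((Finset.mem_filter.1 y.2).2.2 j)).1]
    exact congrArg (fun t : T F n m => expand F e (t.1 j)) hxy
  refine Nat.add_le_add ?_ (Nat.mul_le_mul_left _ ?_)
  · refine le_trans ?_ ((finite_T (F := F) n m).2.trans (GLClassCount53.tot_le Fintype.one_lt_card n m hm0))
    rw [← Fintype.card_coe, ← Nat.card_eq_fintype_card]
    exact Nat.card_le_card_of_injective red hred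
  · refine le_trans ?_ (card_T2_le (F := F) n m)
    rw [← Fintype.card_coe, ← Nat.card_eq_fintype_card]
    haveI : Finite (T2 F n m) := Subtype.finite
    refine Nat.card_le_card_of_injective (fun h => (⟨red ⟨h.1, (Finset.mem_filter.1 h.2).1⟩, fun j hj => ?_⟩ : T2 F n m)) ?_
    · show contract e (h.1.1 j) = 1
      rw [show j = 0 from Fin.ext hj, (Finset.mem_filter.1 h.2).2]
      ext i
      rw [coeff_contract (by omega), coeff_one, coeff_one]
      simp [Nat.ne_of_gt he1]
    · intro x y hxy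
      have := hred (congrArg (fun t : T2 F n m => t.1) hxy)
      exact Subtype.ext (congrArg Subtype.val this :)

theorem card_fixed_two (a : F) (he : orderOf a = 2)
    (S : Set (ConjClasses (Matrix.SpecialLinearGroup (Fin 2) F))) (hS : ∀ c ∈ S, ∀ j, scale a ((tupC c).1 j) = (tupC c).1 j) :
    Nat.card S ≤ 1 := by
  classical
  set B := Finset.univ.filter fun h : T F 2 2 => chi h.1 = 1 ∧ ∀ j, scale a (h.1 j) = h.1 j with hB
  have hcoeff : ∀ p : F[X], Good p → scale a p = p → ∀ i, p.coeff i ≠ 0 → a ^ i = a ^ p.natDegree := by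
    intro p hp hfix i hne
    have ha : a ≠ 0 := fun h => by rw [h, orderOf_zero] at he; omega
    have h := congrArg (fun t : F[X] => t.coeff i) hfix
    simp only [coeff_scale] at h
    field_simp at h
    exact h
  have ha1 : a ≠ 1 := fun h => by rw [h, orderOf_one] at he; omega
  have huniq : ∀ h ∈ B, h.1 1 = 1 ∧ h.1 0 = X ^ 2 + 1 := by
    intro h hh
    obtain ⟨-, hchi, hfix⟩ := Finset.mem_filter.1 hh
    have hw := h.2.2
    rw [Fin.sum_univ_two] at hw
    simp at hw
    have hd1 : (h.1 1).natDegree = 0 := by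
      by_contra hne
      have hd : (h.1 1).natDegree = 1 := by omega
      have := hcoeff _ (h.2.1 1) (hfix 1) 0 (h.2.1 1).2
      rw [hd, pow_zero, pow_one] at this
      exact ha1 this.symm
    have e1 := eq_one_of_deg h 1 hd1
    have hd0 : (h.1 0).natDegree = 2 := by omega
    have hc1 : (h.1 0).coeff 1 = 0 := by
      by_contra hne
      have := hcoeff _ (h.2.1 0) (hfix 0) 1 hne
      rw [hd0, pow_one, ← he, pow_orderOf_eq_one] at this
      exact ha1 this
    have hc0 : (h.1 0).coeff 0 = 1 := by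
      rw [chi, Fin.prod_univ_two, e1, cst_one, cst, hd0] at hchi
      simpa using hchi
    refine ⟨e1, ?_⟩
    ext i
    rcases i with _ | _ | _ | i
    · simp [hc0]
    · simp [hc1, coeff_one]
    · simpa [coeff_one, hd0] using! (h.2.1 0).1.coeff_natDegree
    · rw [coeff_eq_zero_of_natDegree_lt (by omega)]
      simp [coeff_one]
  refine (card_classes_le S B fun c hc => Finset.mem_filter.2 ⟨Finset.mem_univ _, chi_tupC c, hS c hc⟩).trans ?_
  have hs : ∀ h ∈ B, split h.1 = 1 := fun h hh => split_eq_one fun e => by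
    rw [(huniq h hh).2] at e
    have := congrArg natDegree e
    rw [natDegree_one, ← C_1, natDegree_X_pow_add_C] at this
    omega
  rw [Finset.sum_congr rfl hs, Finset.sum_const, smul_eq_mul, mul_one, Finset.card_le_one]
  intro x hx y hy
  refine Subtype.ext (funext fun j => ?_)
  fin_cases j
  · exact (huniq x hx).2.trans (huniq y hy).2.symm
  · exact (huniq x hx).1.trans (huniq y hy).1.symm

end Cfsg.Agent.SLClassNumber53
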