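import Mathlib
import Cfsg.Agent.Lib.SLClassNumber53

/-!
The class number of `PSL(n,q)` against that of `SL(n,q)`, and the final bounds.
-/

set_option autoImplicit false

open Polynomial
open Cfsg.Agent.GLClassBound53 Cfsg.Agent.GLInvariants53 Cfsg.Agent.SLClassCount53 Cfsg.Agent.SLClasses53
open Cfsg.Agent.SLClassNumber53

namespace Cfsg.Agent.PSLClassNumber53

universe u

variable {F : Type u} [Field F] [Fintype F]

local notation "q" => Fintype.card F

section quotient

variable {n : ℕ} [NeZero n]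

local notation "SLn" => Matrix.SpecialLinearGroup (Fin n) F
local notation "Zn" => Subgroup.center (Matrix.SpecialLinearGroup (Fin n) F)
local notation "PSLn" => Matrix.ProjectiveSpecialLinearGroup (Fin n) F

theorem conj_central (z : Zn) {g h : SLn} (hc : IsConj g h) : IsConj ((z : SLn) * g) ((z : SLn) * h) := by
  obtain ⟨c, hc⟩ := isConj_iff.1 hc
  refine isConj_iff.2 ⟨c, ?_⟩
  rw [← hc, ← mul_assoc, Subgroup.mem_center_iff.1 z.2 c]
  group

noncomputable instance instMulActionCenter : MulAction Zn (ConjClasses SLn) where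
  smul z c := Quotient.map (fun g => (z : SLn) * g) (fun _ _ h => conj_central z h) c
  one_smul c := by
    obtain ⟨g, rfl⟩ := Quotient.exists_rep c
    show ConjClasses.mk ((1 : SLn) * g) = ConjClasses.mk g
    rw [one_mul]
  mul_smul x y c := by
    obtain ⟨g, rfl⟩ := Quotient.exists_rep c
    show ConjClasses.mk (((x : SLn) * y) * g) = ConjClasses.mk ((x : SLn) * ((y : SLn) * g))
    rw [mul_assoc]

theorem smul_mk (z : Zn) (g : SLn) : z • ConjClasses.mk g = ConjClasses.mk ((z : SLn) * g) := rfl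

/-- the map to classes of the projective group -/
noncomputable def proj : ConjClasses SLn → ConjClasses PSLn := ConjClasses.map (QuotientGroup.mk' Zn)

theorem proj_surjective : Function.Surjective (proj (F := F) (n := n)) :=
  ConjClasses.map_surjective (QuotientGroup.mk'_surjective _)

theorem proj_smul (z : Zn) (c : ConjClasses SLn) : proj (z • c) = proj c := by
  obtain ⟨g, rfl⟩ := Quotient.exists_rep c
  show ConjClasses.mk (QuotientGroup.mk' Zn ((z : SLn) * g)) = ConjClasses.mk (QuotientGroup.mk' Zn g)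
  congr 1
  rw [map_mul, show QuotientGroup.mk' Zn (z : SLn) = 1 from (QuotientGroup.eq_one_iff _).2 z.2, one_mul]

theorem exists_smul_of_proj_eq {c d : ConjClasses SLn} (h : proj c = proj d) : ∃ z : Zn, z • c = d := by
  obtain ⟨g, rfl⟩ := Quotient.exists_rep c
  obtain ⟨k, rfl⟩ := Quotient.exists_rep d
  obtain ⟨x, hx⟩ := isConj_iff.1 (ConjClasses.mk_eq_mk_iff_isConj.1
    (h : ConjClasses.mk (QuotientGroup.mk' Zn g) = ConjClasses.mk (QuotientGroup.mk' Zn k)))
  obtain ⟨y, rfl⟩ := QuotientGroup.mk'_surjective _ x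
  rw [← map_inv, ← map_mul, ← map_mul, QuotientGroup.mk'_eq_mk'] at hx
  obtain ⟨z, hz, hzk⟩ := hx
  refine ⟨⟨z, hz⟩, ?_⟩
  show ConjClasses.mk (z * g) = ConjClasses.mk k
  rw [ConjClasses.mk_eq_mk_iff_isConj, isConj_iff]
  refine ⟨y, ?_⟩
  have hzc := Subgroup.mem_center_iff.1 hz
  rw [← mul_assoc, hzc y, mul_assoc z, mul_assoc z, ← hzc, hzk]

theorem card_SL_le_mul : Nat.card (ConjClasses SLn) ≤ Nat.card Zn * Nat.card (ConjClasses PSLn) := by
  let s := Function.surjInv (proj_surjective (F := F) (n := n))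
  rw [← Nat.card_prod]
  refine Nat.card_le_card_of_surjective (fun x : Zn × ConjClasses PSLn => x.1 • s x.2) fun c => ?_
  obtain ⟨z, hz⟩ := exists_smul_of_proj_eq (show proj (s (proj c)) = proj c from Function.surjInv_eq _ _)
  exact ⟨(z, proj c), hz⟩

open scoped Classical in
theorem mul_card_PSL_le [Fintype Zn] : Nat.card Zn * Nat.card (ConjClasses PSLn) ≤
    ∑ z : Zn, Nat.card (MulAction.fixedBy (ConjClasses SLn) z) := by
  classical
  haveI := Fintype.ofFinite (ConjClasses SLn)
  haveI := Fintype.ofFinite (Quotient (MulAction.orbitRel Zn (ConjClasses SLn)))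
  have h := MulAction.sum_card_fixedBy_eq_card_orbits_mul_card_group Zn (ConjClasses SLn)
  simp only [← Nat.card_eq_fintype_card] at h
  rw [h, mul_comm]
  refine Nat.mul_le_mul_right _ (Nat.card_le_card_of_surjective
    (Quotient.lift (proj (F := F) (n := n)) fun a b hab => ?_) fun c => ?_)
  · obtain ⟨z, rfl⟩ := MulAction.orbitRel_apply.1 hab
    exact proj_smul z b
  · obtain ⟨d, rfl⟩ := proj_surjective c
    exact ⟨Quotient.mk _ d, rfl⟩

theorem scalar_of_center (z : Zn) : ∃ a : F, a ^ n = 1 ∧ ((z : SLn) : Matrix (Fin n) (Fin n) F) = a • 1 := by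
  obtain ⟨a, ha, hz⟩ := Matrix.SpecialLinearGroup.mem_center_iff.1 z.2
  refine ⟨a, by simpa using ha, ?_⟩
  rw [← hz, Matrix.scalar_apply, Matrix.smul_one_eq_diagonal]

theorem fixed_scale (z : Zn) (a : F) (ha : a ≠ 0) (hz : ((z : SLn) : Matrix (Fin n) (Fin n) F) = a • 1)
    (c : ConjClasses SLn) (hc : z • c = c) (j : Fin n) : scale a ((tupC c).1 j) = (tupC c).1 j := by
  obtain ⟨g, rfl⟩ := Quotient.exists_rep c
  change scale a (tup (gl g) j) = tup (gl g) j
  refine scale_tup ha (gl g) (gl ((z : SLn) * g)) ?_ ?_ j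
  · rw [gl_val, gl_val, Matrix.SpecialLinearGroup.coe_mul, hz, smul_one_mul]
  · exact gl.map_isConj (ConjClasses.mk_eq_mk_iff_isConj.1 hc).symm

end quotient

/-! ### bounds for `SL` -/

open scoped Classical in
theorem classes_q_two {n : ℕ} [NeZero n] (hq2 : q = 2) :
    Nat.card (ConjClasses (Matrix.SpecialLinearGroup (Fin n) F)) ≤ 2 ^ n := by
  have h1 := card_A1 (F := F) (n := n)
  have h2 := GLClassCount53.tot_le (Fintype.one_lt_card (α := F)) n n (Nat.pos_of_ne_zero (NeZero.ne n))
  have h3 : (A2 F n).card ≤ (Finset.univ.filter fun h : T F n n => h.1 0 = 1).card :=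
    Finset.card_le_card fun h hh => by
      simp only [A2, Finset.mem_filter, Finset.mem_univ, true_and] at hh ⊢
      exact hh.2
  have h4 := (card_SL_classes_le (F := F) (n := n)).trans (Nat.add_le_add_left (sum_split_A2_le (F := F) (n := n)) _)
  rw [hq2] at h1 h2 h4
  simp [-Nat.card_eq_fintype_card] at h1 h4
  omega

theorem gcd_le_sub (n : ℕ) : Nat.gcd n (q - 1) ≤ q - 1 :=
  Nat.gcd_le_right _ (by have : 2 ≤ q := Fintype.one_lt_card; omega)

theorem q_ne_six : q ≠ 6 := by
  obtain ⟨p, hp⟩ := CharP.exists F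
  haveI := hp
  obtain ⟨k, hpr, hk⟩ := FiniteField.card F p
  intro h6
  have h2 : p = 2 := (Nat.prime_dvd_prime_iff_eq hpr Nat.prime_two).1 <| by
    have hd : p ∣ 2 * 3 := by rw [show 2 * 3 = 6 from rfl, ← h6, hk]; exact dvd_pow_self p k.ne_zero
    rcases hpr.dvd_mul.1 hd with h | h
    · exact h
    · exfalso
      have h3 := (Nat.prime_dvd_prime_iff_eq hpr Nat.prime_three).1 h
      subst h3
      have : 2 ∣ 3 ^ (k : ℕ) := by rw [← hk, h6]; norm_num
      have := (Nat.prime_two.dvd_of_dvd_pow this)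
      omega
  subst h2
  have : 3 ∣ 2 ^ (k : ℕ) := by rw [← hk, h6]; norm_num
  have := Nat.prime_three.dvd_of_dvd_pow this
  omega

theorem sl_two_bound : 2 * Nat.card (ConjClasses (Matrix.SpecialLinearGroup (Fin 2) F)) ≤ 5 * q ^ 1 := by
  have hq : 2 ≤ q := Fintype.one_lt_card
  have h := classes_two (F := F)
  have hg2 : Nat.gcd 2 (q - 1) ≤ 2 := Nat.gcd_le_left _ (by norm_num)
  have hg1 := gcd_le_sub (F := F) 2
  have hsq : Nat.gcd 2 (q - 1) ^ 2 ≤ 4 := (Nat.pow_le_pow_left hg2 2)
  rw [pow_one]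
  rcases Nat.lt_or_ge q 3 with h3 | h3
  · have : Nat.gcd 2 (q - 1) ^ 2 ≤ 1 := (Nat.pow_le_pow_left (show Nat.gcd 2 (q - 1) ≤ 1 by omega) 2)
    omega
  · omega

theorem sl_bound (n : ℕ) [NeZero n] (hn : 3 ≤ n) :
    Nat.card (ConjClasses (Matrix.SpecialLinearGroup (Fin n) F)) ≤ q ^ (n - 1) + 3 * q ^ (n - 2) := by
  obtain ⟨m, rfl⟩ : ∃ m, n = m + 3 := ⟨n - 3, by omega⟩
  rw [show m + 3 - 1 = m + 2 from rfl, show m + 3 - 2 = m + 1 from rfl]
  have hq : 2 ≤ q := Fintype.one_lt_card
  have hg := gcd_le_sub (F := F) (m + 3)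
  match m with
  | 0 =>
    have h := classes_three (F := F)
    simp only [zero_add, pow_one] at h hg ⊢
    change Nat.card (ConjClasses (Matrix.SpecialLinearGroup (Fin 3) F)) ≤ _
    have hd : Nat.gcd 3 (q - 1) ∣ 3 := Nat.gcd_dvd_left _ _
    rcases (Nat.dvd_prime Nat.prime_three).1 hd with hd | hd <;> rw [hd] at h hg <;> norm_num at h <;> omega
  | 1 =>
    have h := classes_four (F := F)
    simp only [Nat.reduceAdd] at h hg ⊢
    have hd2 : Nat.gcd 2 (q - 1) ∣ 2 := Nat.gcd_dvd_left _ _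
    have hd : Nat.gcd 4 (q - 1) ∣ 4 := Nat.gcd_dvd_left _ _
    have hle : Nat.gcd 4 (q - 1) ≤ 4 := Nat.le_of_dvd (by norm_num) hd
    have hsq : q * q = q ^ 2 := (sq q).symm
    rcases (Nat.dvd_prime Nat.prime_two).1 hd2 with h2 | h2
    · rw [h2] at h
      have : Nat.gcd 4 (q - 1) = 1 := by
        by_contra hne
        obtain ⟨p, hp, hpd⟩ := Nat.exists_prime_and_dvd hne
        have := hp.dvd_of_dvd_pow (show p ∣ 2 ^ 2 from hpd.trans hd)
        have hp2 := (Nat.prime_dvd_prime_iff_eq hp Nat.prime_two).1 this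
        subst hp2
        have := Nat.dvd_gcd (dvd_refl 2) (hpd.trans (Nat.gcd_dvd_right 4 (q - 1)))
        rw [h2] at this
        omega
      rw [this] at h
      nlinarith
    · rw [h2] at h
      rcases Nat.lt_or_ge q 5 with h5 | h5
      · interval_cases q <;> first | (norm_num at h2; done) | omega | (norm_num at h; norm_num; omega)
      · have := Nat.pow_le_pow_left hle 2
        nlinarith
  | k + 2 =>
    rcases Nat.lt_or_ge q 3 with h3 | h3
    · have hq2 : q = 2 := by omega
      have h := classes_q_two (F := F) (n := k + 2 + 3) hq2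
      rw [hq2]
      have e1 : 2 ^ (k + 2 + 3) = 4 * 2 ^ (k + 2 + 1) := by
        rw [show k + 2 + 3 = (k + 2 + 1) + 2 by omega, pow_add]; ring
      have e2 : 2 ^ (k + 2 + 2) = 2 * 2 ^ (k + 2 + 1) := by
        rw [show k + 2 + 2 = (k + 2 + 1) + 1 by omega, pow_succ]; ring
      omega
    · have h := classes_general (F := F) (n := k + 2 + 3)
      have key : 2 * ((q - 1) * (Nat.gcd (k + 2 + 3) (q - 1) * W q (k + 2 + 3))) + 6 * q ^ (k + 3) ≤
          4 * q ^ (k + 4) := by
        match k with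
        | 0 =>
          simp only [Nat.reduceAdd, W] at hg ⊢
          have hd : Nat.gcd 5 (q - 1) ∣ 5 := Nat.gcd_dvd_left _ _
          rcases (Nat.dvd_prime (by norm_num : Nat.Prime 5)).1 hd with hd | hd
          · rw [hd]
            obtain ⟨r, hr⟩ : ∃ r, q = r + 3 := ⟨q - 3, by omega⟩
            rw [hr, show r + 3 - 1 = r + 2 by omega]
            ring_nf
            nlinarith
          · rw [hd] at hg ⊢
            have h6 := q_ne_six (F := F)
            obtain ⟨r, hr⟩ : ∃ r, q = r + 7 := ⟨q - 7, by omega⟩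
            rw [hr, show r + 7 - 1 = r + 6 by omega]
            ring_nf
            nlinarith
        | j + 1 =>
          have hw := W_le q h3 j
          rw [show j + 1 + 2 + 3 = j + 6 by omega, show j + 1 + 3 = j + 4 by omega, show j + 1 + 4 = (j + 4) + 1 by omega,
            pow_succ q (j + 4)]
          have hg' : Nat.gcd (j + 6) (q - 1) ≤ q - 1 := gcd_le_sub _
          generalize W q (j + 6) = Wv at hw ⊢
          generalize Nat.gcd (j + 6) (q - 1) = G at hg' ⊢
          generalize q ^ (j + 4) = Y at hw ⊢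
          have e1 := Nat.mul_le_mul_left G hw
          have e2 := Nat.mul_le_mul_right (3 * Y) hg'
          have e3 : 3 * (q - 1) * Y + 6 * Y ≤ 4 * (Y * q) := by
            rw [show 3 * (q - 1) * Y + 6 * Y = (3 * (q - 1) + 6) * Y by ring, show 4 * (Y * q) = 4 * q * Y by ring]
            exact Nat.mul_le_mul_right _ (by omega)
          linarith
      refine Nat.le_of_mul_le_mul_left ?_ (show 0 < q - 1 by omega)
      generalize Nat.card (ConjClasses (Matrix.SpecialLinearGroup (Fin (k + 2 + 3)) F)) = C at h ⊢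
      generalize Nat.gcd (k + 2 + 3) (q - 1) * W q (k + 2 + 3) = GW at h key
      obtain ⟨r, hr⟩ : ∃ r, q = r + 1 := ⟨q - 1, by omega⟩
      rw [hr, Nat.add_sub_cancel] at h key ⊢
      rw [show k + 2 + 3 = (k + 3) + 2 by omega, pow_add _ (k + 3) 2] at h
      rw [show k + 4 = k + 3 + 1 by omega, pow_add _ (k + 3) 1] at key
      rw [show k + 2 + 2 = k + 3 + 1 by omega, pow_add _ (k + 3) 1, show k + 2 + 1 = k + 3 by omega]
      nlinarith

theorem sl_lower (n : ℕ) (hn : 2 ≤ n) :
    q ^ (n - 1) < Nat.card (ConjClasses (Matrix.SpecialLinearGroup (Fin n) F)) := by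
  classical
  obtain ⟨m, rfl⟩ : ∃ m, n = m + 2 := ⟨n - 2, by omega⟩
  rw [show m + 2 - 1 = m + 1 from rfl]
  let S := Matrix.SpecialLinearGroup (Fin (m + 2)) F
  let t : S := ⟨1 + Matrix.single 0 1 (1 : F), Matrix.det_transvection_of_ne (0 : Fin (m + 2)) 1 (by simp) 1⟩
  have ht : (t : Matrix (Fin (m + 2)) (Fin (m + 2)) F).charpoly = (1 : Matrix (Fin (m + 2)) (Fin (m + 2)) F).charpoly := by
    show (1 + Matrix.single 0 1 (1 : F)).charpoly = _
    have hut : (1 + Matrix.single (0 : Fin (m + 2)) 1 (1 : F)).BlockTriangular id := by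
      intro i j hij
      simp only [id] at hij
      rw [Matrix.add_apply, Matrix.one_apply_ne (ne_of_gt hij), Matrix.single_apply, zero_add, if_neg]
      rintro ⟨rfl, rfl⟩
      exact absurd hij (Fin.not_lt_zero _)
    rw [Matrix.charpoly_of_upperTriangular _ hut, Matrix.charpoly_of_upperTriangular _ Matrix.blockTriangular_one]
    refine Finset.prod_congr rfl fun i _ => ?_
    rw [Matrix.add_apply, Matrix.single_apply, if_neg, add_zero]
    rintro ⟨h1, h2⟩
    rw [← h1] at h2
    exact absurd h2 (by simp [Fin.ext_iff])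
  let B := {a : F // a ≠ 0 ∧ (-1) ^ (m + 2) * a = 1}
  let PA := {p : P F (m + 2) // (-1) ^ (m + 2) * p.1.coeff 0 = 1}
  have hex : ∀ p : PA, ∃ g : S, (g : Matrix (Fin (m + 2)) (Fin (m + 2)) F).charpoly = p.1.1 := by
    intro p
    have hf0 : p.1.1 ≠ 0 := p.1.2.1.1.ne_zero
    let pb := AdjoinRoot.powerBasis hf0
    have hdim : pb.dim = m + 2 := by simp [pb, p.1.2.2]
    let N := Matrix.reindex (finCongr hdim) (finCongr hdim) (Algebra.leftMulMatrix pb.basis pb.gen)
    have hN : N.charpoly = p.1.1 := by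
      rw [Matrix.charpoly_reindex, charpoly_leftMulMatrix, AdjoinRoot.powerBasis_gen,
        AdjoinRoot.minpoly_root hf0, p.1.2.1.1.leadingCoeff, inv_one, C_1, mul_one]
    refine ⟨⟨N, ?_⟩, hN⟩
    rw [Matrix.det_eq_sign_charpoly_coeff, hN, Fintype.card_fin]
    exact p.2
  choose g hg using hex
  let g' : PA → S := fun p => if p.1.1 = (1 : Matrix (Fin (m + 2)) (Fin (m + 2)) F).charpoly then 1 else g p
  have hg' : ∀ p, (g' p : Matrix (Fin (m + 2)) (Fin (m + 2)) F).charpoly = p.1.1 := by
    intro p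
    by_cases hp : p.1.1 = (1 : Matrix (Fin (m + 2)) (Fin (m + 2)) F).charpoly
    · simp only [g', if_pos hp]
      exact hp.symm
    · simp only [g', if_neg hp]
      exact hg p
  have hconj : ∀ x y : S, ConjClasses.mk x = ConjClasses.mk y →
      (x : Matrix (Fin (m + 2)) (Fin (m + 2)) F).charpoly = (y : Matrix (Fin (m + 2)) (Fin (m + 2)) F).charpoly := by
    intro x y h
    obtain ⟨c, hc⟩ := isConj_iff.1 (ConjClasses.mk_eq_mk_iff_isConj.1 h)
    rw [← hc, Matrix.SpecialLinearGroup.coe_mul, Matrix.SpecialLinearGroup.coe_mul]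
    have := Matrix.charpoly_units_conj (Matrix.SpecialLinearGroup.toGL c) (x : Matrix (Fin (m + 2)) (Fin (m + 2)) F)
    rw [← this]
    congr 1
    rw [← Matrix.coe_units_inv, ← map_inv]
    rfl
  let f : Option PA → ConjClasses S := fun o => o.elim (ConjClasses.mk t) (fun p => ConjClasses.mk (g' p))
  have hf : Function.Injective f := by
    have hne : ∀ p, f none ≠ f (some p) := by
      intro p h
      have h1 := (hconj _ _ h).symm
      rw [hg', ht] at h1
      have h2 : ConjClasses.mk t = ConjClasses.mk (g' p) := h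
      simp only [g', if_pos h1] at h2
      obtain ⟨c, hc⟩ := isConj_iff.1 (ConjClasses.mk_eq_mk_iff_isConj.1 h2)
      rw [mul_inv_eq_one, mul_eq_left] at hc
      have h3 := congrFun (congrFun (congrArg (fun x : S => (x : Matrix (Fin (m + 2)) (Fin (m + 2)) F)) hc) 0) 1
      simp [t] at h3
    rintro (_ | a) (_ | b) h
    · rfl
    · exact absurd h (hne b)
    · exact absurd h.symm (hne a)
    · refine congrArg some (Subtype.ext (Subtype.ext ?_))
      rw [← hg' a, ← hg' b]
      exact hconj _ _ h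
  have hPA : q ^ (m + 1) ≤ Nat.card PA := by
    rw [← Fintype.card_fin (m + 1), ← Fintype.card_fun, ← Nat.card_eq_fintype_card]
    haveI : Finite PA := Subtype.finite
    refine Nat.card_le_card_of_injective (fun v => (⟨(Cfsg.Agent.GLClassBound53.PEquiv (m + 1)).symm
      (⟨(-1) ^ (m + 2), pow_ne_zero _ (neg_ne_zero.2 one_ne_zero)⟩, v), ?_⟩ : PA)) fun v w h => ?_
    · simp only [Cfsg.Agent.GLClassBound53.PEquiv, Equiv.symm_trans_apply, Equiv.coe_fn_symm_mk]
      rw [show ((coeffEquiv (F := F) (m + 2)).symm (Fin.cons ((-1) ^ (m + 2)) v)).1.coeff 0 =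
        coeffEquiv (m + 2) ((coeffEquiv (F := F) (m + 2)).symm (Fin.cons ((-1) ^ (m + 2)) v)) 0 from
        (coeffEquiv_apply _ 0).symm, Equiv.apply_symm_apply, Fin.cons_zero, ← mul_pow, neg_mul_neg, one_mul, one_pow]
    · exact (Prod.ext_iff.1 ((Cfsg.Agent.GLClassBound53.PEquiv (m + 1)).symm.injective (congrArg Subtype.val h))).2
  haveI : Finite PA := Subtype.finite
  have := Nat.card_le_card_of_injective f hf
  rw [Finite.card_option] at this
  show q ^ (m + 1) < Nat.card (ConjClasses S)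
  omega

end Cfsg.Agent.PSLClassNumber53
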