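import Mathlib
import Cfsg.Agent.Lib.PSLClassNumber53

/-!
The upper bound for the class number of `PSL(n,q)`.
-/

set_option autoImplicit false

open Polynomial
open Cfsg.Agent.GLClassBound53 Cfsg.Agent.SLClassCount53 Cfsg.Agent.SLClasses53
open Cfsg.Agent.SLClassNumber53 Cfsg.Agent.PSLClassNumber53

namespace Cfsg.Agent.PSLClassUpper53

universe u

variable {F : Type u} [Field F] [Fintype F] {n : ℕ} [NeZero n]

local notation "q" => Fintype.card F
local notation "SLn" => Matrix.SpecialLinearGroup (Fin n) F
local notation "Zn" => Subgroup.center (Matrix.SpecialLinearGroup (Fin n) F)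
local notation "PSLn" => Matrix.ProjectiveSpecialLinearGroup (Fin n) F

/-- the scalar of a central element -/
noncomputable def scal (z : Zn) : F := ((z : SLn) : Matrix (Fin n) (Fin n) F) 0 0

theorem scal_spec (z : Zn) :
    scal z ^ n = 1 ∧ ((z : SLn) : Matrix (Fin n) (Fin n) F) = scal z • 1 := by
  obtain ⟨a, ha, hz⟩ := scalar_of_center z
  have : scal z = a := by simp [scal, hz]
  rw [this]
  exact ⟨ha, hz⟩

theorem scal_injective : Function.Injective (scal (F := F) (n := n)) := fun x y h =>
  Subtype.ext (Subtype.ext (by rw [(scal_spec x).2, (scal_spec y).2, h]))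

theorem scal_one : scal (1 : Zn) = 1 := by simp [scal]

theorem fixed_le (z : Zn) (hz : z ≠ 1) : ∃ e m : ℕ, orderOf (scal z) = e ∧ 2 ≤ e ∧ e * m = n ∧
    Nat.card (MulAction.fixedBy (ConjClasses SLn) z) ≤ q ^ m + (Nat.gcd n (q - 1) - 1) * W q m := by
  obtain ⟨ha, hzm⟩ := scal_spec z
  have ha1 : scal z ≠ 1 := fun h => hz (scal_injective (h.trans scal_one.symm))
  obtain ⟨m, hm⟩ := orderOf_dvd_of_pow_eq_one ha
  have he : 2 ≤ orderOf (scal z) := by
    have h0 : orderOf (scal z) ≠ 0 := fun h => NeZero.ne n (by rw [hm, h, zero_mul])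
    have h1 : orderOf (scal z) ≠ 1 := fun h => ha1 (orderOf_eq_one_iff.1 h)
    omega
  refine ⟨_, m, rfl, he, hm.symm, card_fixed_le (scal z) _ m rfl (by omega) hm.symm _ fun c hc j => ?_⟩
  exact fixed_scale z _ (fun h => by rw [h, zero_pow (NeZero.ne n)] at ha; exact zero_ne_one ha) hzm c hc j

open scoped Classical in
theorem mul_classes_le [Fintype Zn] :
    Nat.gcd n (q - 1) * Nat.card (ConjClasses PSLn) ≤ Nat.card (ConjClasses SLn) +
      ∑ z ∈ Finset.univ.erase (1 : Zn), Nat.card (MulAction.fixedBy (ConjClasses SLn) z) := by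
  have h := mul_card_PSL_le (F := F) (n := n)
  rw [PSLCard.card_center_SL, Nat.card_eq_fintype_card (α := F),
    ← Finset.add_sum_erase Finset.univ _ (Finset.mem_univ (1 : Zn))] at h
  refine h.trans (le_of_eq ?_)
  congr 1
  rw [show MulAction.fixedBy (ConjClasses SLn) (1 : Zn) = Set.univ from Set.eq_univ_of_forall fun c => one_smul _ c,
    Nat.card_univ]

open scoped Classical in
theorem card_erase_one [Fintype Zn] : (Finset.univ.erase (1 : Zn)).card = Nat.gcd n (q - 1) - 1 := by
  rw [Finset.card_erase_of_mem (Finset.mem_univ _), Finset.card_univ, ← Nat.card_eq_fintype_card,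
    PSLCard.card_center_SL, Nat.card_eq_fintype_card]

theorem upper_two : Nat.gcd 2 (q - 1) * Nat.card (ConjClasses (Matrix.ProjectiveSpecialLinearGroup (Fin 2) F)) ≤
    q + 5 := by
  classical
  haveI := Fintype.ofFinite (Subgroup.center (Matrix.SpecialLinearGroup (Fin 2) F))
  refine mul_classes_le.trans ?_
  have h := classes_two (F := F)
  have hs : ∑ z ∈ Finset.univ.erase (1 : Subgroup.center (Matrix.SpecialLinearGroup (Fin 2) F)),
      Nat.card (MulAction.fixedBy (ConjClasses (Matrix.SpecialLinearGroup (Fin 2) F)) z) ≤ (Nat.gcd 2 (q - 1) - 1) * 1 := by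
    rw [← card_erase_one (F := F) (n := 2), ← smul_eq_mul]
    refine Finset.sum_le_card_nsmul _ _ _ fun z hz => ?_
    obtain ⟨e, m, he, he2, hm, -⟩ := fixed_le z (Finset.ne_of_mem_erase hz)
    have : e = 2 := by
      have := Nat.le_of_dvd (by norm_num) (Dvd.intro m hm)
      omega
    refine card_fixed_two (scal z) (he.trans this) _ fun c hc j => ?_
    obtain ⟨ha, hzm⟩ := scal_spec z
    exact fixed_scale z _ (fun h0 => by rw [h0, zero_pow (by norm_num)] at ha; exact zero_ne_one ha) hzm c hc j
  have hg : Nat.gcd 2 (q - 1) ≤ 2 := Nat.gcd_le_left _ (by norm_num)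
  have := Nat.pow_le_pow_left hg 2
  omega

open scoped Classical in
theorem sum_fixed_le (hn : 3 ≤ n) [Fintype Zn] :
    ∑ z ∈ Finset.univ.erase (1 : Zn), Nat.card (MulAction.fixedBy (ConjClasses SLn) z) ≤ 2 * q ^ (n - 2) := by
  classical
  have hq : 2 ≤ q := Fintype.one_lt_card
  have hd := gcd_le_sub (F := F) n
  have hdn : Nat.gcd n (q - 1) ≤ n := Nat.gcd_le_left _ (by omega)
  have hcard := card_erase_one (F := F) (n := n)
  rcases Nat.lt_or_ge n 6 with h6 | h6
  · rcases (show n = 3 ∨ n = 4 ∨ n = 5 by omega) with hn' | hn' | hn'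
    · have hb : ∀ z ∈ Finset.univ.erase (1 : Zn), Nat.card (MulAction.fixedBy (ConjClasses SLn) z) ≤ q := by
        intro z hz
        obtain ⟨e, m, -, he2, hm, hle⟩ := fixed_le z (Finset.ne_of_mem_erase hz)
        have hm1 : m = 1 := by
          rcases (Nat.dvd_prime Nat.prime_three).1 (show e ∣ 3 from hn' ▸ Dvd.intro m hm) with h | h <;> subst h <;> omega
        subst hm1
        simpa [W] using hle
      have := Finset.sum_le_card_nsmul _ _ _ hb
      rw [smul_eq_mul] at this
      have h2 : (Finset.univ.erase (1 : Zn)).card * q ≤ 2 * q := Nat.mul_le_mul_right _ (by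
        omega)
      rw [show n - 2 = 1 by omega, pow_one]
      exact this.trans h2
    · have hb : ∀ z ∈ Finset.univ.erase (1 : Zn), Nat.card (MulAction.fixedBy (ConjClasses SLn) z) ≤
          q + if scal z = -1 then q ^ 2 + (Nat.gcd n (q - 1) - 1) * q - q else 0 := by
        intro z hz
        obtain ⟨e, m, he, he2, hm, hle⟩ := fixed_le z (Finset.ne_of_mem_erase hz)
        have hm' : m = 1 ∨ m = 2 := by
          have := Nat.mul_le_mul_right m he2
          have : m ≠ 0 := fun h => by rw [h, mul_zero] at hm; omega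
          omega
        rcases hm' with rfl | rfl
        · refine le_trans ?_ (Nat.le_add_right _ _)
          simpa [W] using hle
        · have h1 : scal z = -1 := by
            have hsq : scal z ^ 2 = 1 := by
              rw [← show e = 2 by omega, ← he]; exact pow_orderOf_eq_one _
            rcases sq_eq_one_iff.1 hsq with h | h
            · rw [h, orderOf_one] at he; omega
            · exact h
          rw [if_pos h1]
          simp only [W] at hle
          omega
      refine (Finset.sum_le_sum hb).trans ?_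
      rw [Finset.sum_add_distrib, Finset.sum_const, smul_eq_mul, ← Finset.sum_filter, Finset.sum_const, smul_eq_mul]
      have h1 : ((Finset.univ.erase (1 : Zn)).filter fun z => scal z = -1).card ≤ 1 :=
        Finset.card_le_one.2 fun x hx y hy => scal_injective ((Finset.mem_filter.1 hx).2.trans (Finset.mem_filter.1 hy).2.symm)
      have h2 : ((Finset.univ.erase (1 : Zn)).filter fun z => scal z = -1).card ≤ (Finset.univ.erase (1 : Zn)).card :=
        Finset.card_filter_le _ _
      rw [hcard] at h2 ⊢
      rw [show n - 2 = 2 by omega]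
      have hgn : Nat.gcd n (q - 1) = Nat.gcd 4 (q - 1) := by rw [hn']
      rw [hgn] at hd h2 ⊢
      have hgd : Nat.gcd 4 (q - 1) ∣ 4 := Nat.gcd_dvd_left _ _
      generalize ((Finset.univ.erase (1 : Zn)).filter fun z => scal z = -1).card = c at h1 h2 ⊢
      generalize hg : Nat.gcd 4 (q - 1) = g at hd hgd h2 ⊢
      have hg4 : g = 1 ∨ g = 2 ∨ g = 4 := by
        have := Nat.le_of_dvd (by norm_num) hgd
        interval_cases g <;> omega
      have hsq : q * q = q ^ 2 := (sq q).symm
      have h5 : g = 4 → 5 * q ≤ q ^ 2 := fun h => by rw [← hsq]; exact Nat.mul_le_mul_right _ (by omega)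
      have hqq : q ≤ q ^ 2 := by rw [← hsq]; exact Nat.le_mul_self _
      interval_cases c <;> rcases hg4 with rfl | rfl | rfl <;> omega
    · have hb : ∀ z ∈ Finset.univ.erase (1 : Zn), Nat.card (MulAction.fixedBy (ConjClasses SLn) z) ≤ q := by
        intro z hz
        obtain ⟨e, m, -, he2, hm, hle⟩ := fixed_le z (Finset.ne_of_mem_erase hz)
        have hm1 : m = 1 := by
          rcases (Nat.dvd_prime (by norm_num : Nat.Prime 5)).1 (show e ∣ 5 from hn' ▸ Dvd.intro m hm) with h | h <;> subst h <;> omega
        subst hm1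
        simpa [W] using hle
      have := Finset.sum_le_card_nsmul _ _ _ hb
      rw [smul_eq_mul] at this
      have h2 : (Finset.univ.erase (1 : Zn)).card * q ≤ 4 * q := Nat.mul_le_mul_right _ (by
        omega)
      rw [show n - 2 = 3 by omega]
      have h4 : 2 * q ≤ q ^ 3 := by
        rw [pow_succ]
        exact Nat.mul_le_mul_right _ (le_trans hq (Nat.le_self_pow (by norm_num) q))
      omega
  · have hb : ∀ z ∈ Finset.univ.erase (1 : Zn), Nat.card (MulAction.fixedBy (ConjClasses SLn) z) ≤ 2 * q ^ (n / 2) := by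
      intro z hz
      obtain ⟨e, m, -, he2, hm, hle⟩ := fixed_le z (Finset.ne_of_mem_erase hz)
      have hm2 : m ≤ n / 2 := by
        have := Nat.mul_le_mul_right m he2
        omega
      have hm0 : 0 < m := Nat.pos_of_ne_zero fun h => by rw [h, mul_zero] at hm; omega
      have h1 : q ^ m ≤ q ^ (n / 2) := Nat.pow_le_pow_right (by omega) hm2
      obtain ⟨k, rfl⟩ : ∃ k, m = k + 1 := ⟨m - 1, by omega⟩
      have h2 : (Nat.gcd n (q - 1) - 1) * W q (k + 1) ≤ q * q ^ k :=
        Nat.mul_le_mul (by omega) (W_le_pow q hq k)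
      rw [← pow_succ'] at h2
      omega
    refine (Finset.sum_le_card_nsmul _ _ _ hb).trans ?_
    rw [smul_eq_mul]
    have hc : (Finset.univ.erase (1 : Zn)).card ≤ q := by
      omega
    refine (Nat.mul_le_mul_right _ hc).trans ?_
    rw [mul_left_comm, ← pow_succ']
    exact Nat.mul_le_mul_left _ (Nat.pow_le_pow_right (by omega) (by omega))

theorem upper (hn : 3 ≤ n) :
    Nat.gcd n (q - 1) * Nat.card (ConjClasses PSLn) ≤ q ^ (n - 1) + 5 * q ^ (n - 2) := by
  classical
  haveI := Fintype.ofFinite Zn
  have h1 := mul_classes_le (F := F) (n := n)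
  have h2 := sl_bound (F := F) n hn
  have h3 := sum_fixed_le (F := F) (n := n) hn
  refine h1.trans (le_trans (Nat.add_le_add h2 ?_) (le_of_eq (by ring : q ^ (n - 1) + 3 * q ^ (n - 2) + 2 * q ^ (n - 2) = _)))
  exact h3

end Cfsg.Agent.PSLClassUpper53
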