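import Mathlib
import Cfsg.Agent.Lib.SL2TorusChars
import Cfsg.Agent.Lib.SL2Even
import Cfsg.Agent.Lib.CharKernel
import Cfsg.Agent.Lib.PSL2Proj52
import Cfsg.Agent.S2299
import Cfsg.Agent.S2300
import Cfsg.Agent.S4765

/-!
The degree data of `PSL(2,q)` for `q` the square of a prime: the order, one linear character,
a character of degree `q`, and every degree is one of `1, q, q + 1, q - 1, (q + 1)/δ`.
(The degree `(q - 1)/2` does not occur because `q ≡ 1 mod 4`.)
-/

set_option autoImplicit false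

namespace Cfsg.Agent.PSLSqDegrees82

open Cfsg Cfsg.Agent.GL2Borel Cfsg.Agent.GL2Chars Cfsg.Agent.PSL2Elements Cfsg.Agent.SL2Borel
open Cfsg.Agent.SL2Chars
open scoped MatrixGroups

universe u

variable {F : Type u} [Field F] [Fintype F]

/-- For `q ≡ 1 mod 4` no character of degree `(q - 1)/2` is trivial at `-1`. -/
theorem half_not_even (hodd : Odd (Fintype.card F)) {h : ℕ} (hq : Fintype.card F = 2 * h + 1)
    (heven : Even h) {χ : SL(2, F) → ℂ} (hχ : IsIrrCharacter SL(2, F) χ)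
    (hk : SL2Odd.HasKind χ h 5) : χ (-1) ≠ χ 1 := by
  classical
  intro he
  obtain ⟨A, hA⟩ := PSL2Proj52.exists_orderOf_card_add_one (F := F)
  rw [Nat.card_eq_fintype_card] at hA
  have hcard : Nat.card (Subgroup.zpowers A) = Fintype.card F + 1 := by rw [Nat.card_zpowers, hA]
  have hC : IsCyclic (Subgroup.zpowers A) := inferInstance
  have hm1 : (-1 : SL(2, F)) ∈ Subgroup.zpowers A := SL2TorusChars.neg_one_mem hC hcard hodd
  have hsgn : ∀ g, χ (-g) = χ g := by
    intro g
    obtain ⟨n, ρ, hρ, hρc⟩ := hχ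
    obtain ⟨s, hs⟩ := CharBasic.exists_scalar_of_mem_center ρ
      ((mem_center_iff (-1 : SL(2, F))).2 (Or.inr rfl))
    have hmul : ∀ x, χ (-x) = s * χ x := fun x => by
      rw [← hρc, ← neg_one_mul x]
      simp only [Representation.character, map_mul, hs]
      rw [show (s • LinearMap.id : (Fin n → ℂ) →ₗ[ℂ] (Fin n → ℂ)) * ρ x = s • ρ x by
        rw [smul_mul_assoc]; rfl, map_smul, smul_eq_mul]
    have hs1 : s = 1 := by
      have h1 := hmul 1
      rw [he] at h1
      exact (mul_eq_right₀ (CharBasic.isIrrCharacter_apply_one_ne_zero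
        ⟨n, ρ, hρ, hρc⟩)).1 h1.symm
    rw [hmul, hs1, one_mul]
  have hnc : ∀ x : SL(2, F), x = A ∨ x = -A → x ∉ Subgroup.center SL(2, F) := by
    intro x hx hz
    have hA2 : A * A = 1 := by
      rcases (mem_center_iff x).1 hz with e | e <;> rcases hx with rfl | rfl
      · simp [e]
      · rw [neg_eq_iff_eq_neg] at e; simp [e]
      · simp [e]
      · simp only [neg_inj] at e; simp [e]
    have := Nat.le_of_dvd two_pos (orderOf_dvd_of_pow_eq_one (n := 2) (x := A) (by rw [sq, hA2]))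
    have := Fintype.one_lt_card (α := F)
    omega
  let c₁ : Subgroup.zpowers A := ⟨A, Subgroup.mem_zpowers A⟩
  let c₂ : Subgroup.zpowers A := ⟨-A, by
    simpa using Subgroup.mul_mem _ hm1 (Subgroup.mem_zpowers A)⟩
  have v₁ := SL2TorusChars.half_value hC hcard hodd hq hχ hk (c := c₁) (hnc _ (Or.inl rfl))
  have v₂ := SL2TorusChars.half_value hC hcard hodd hq hχ hk (c := c₂) (hnc _ (Or.inr rfl))
  have hne1 : c₁ ^ (h + 1) ≠ 1 := fun e => by
    have e' : A ^ (h + 1) = 1 := congrArg Subtype.val e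
    have := Nat.le_of_dvd (by omega) (orderOf_dvd_of_pow_eq_one e')
    omega
  have hpow : A ^ (h + 1) = -1 := by
    rcases SL2TorusChars.pow_succ_cases hC hcard hodd hq c₁ with e | e
    · exact absurd e hne1
    · simpa [c₁] using congrArg Subtype.val e
  have heq1 : c₂ ^ (h + 1) = 1 := by
    refine Subtype.ext ?_
    show (-A) ^ (h + 1) = 1
    have ho : Odd (h + 1) := heven.add_one
    rw [ho.neg_pow, hpow, neg_neg]
  simp only [SL2TorusChars.thetaZero, if_neg hne1] at v₁
  simp only [SL2TorusChars.thetaZero, if_pos heq1] at v₂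
  rw [show (c₂ : SL(2, F)) = -A from rfl, hsgn] at v₂
  rw [show (c₁ : SL(2, F)) = A from rfl, v₂] at v₁
  norm_num at v₁

theorem charDegree_eq {G : Type u} [Group G] {χ : G → ℂ} {n : ℕ} (h : χ 1 = n) :
    charDegree χ = n := by simp [charDegree, h]

/-- The data. -/
theorem data {p : ℕ} (hp : p.Prime) (hF : Fintype.card F = p ^ 2) :
    ∃ δ : ℕ, ((δ = 1 ∧ p = 2) ∨ (δ = 2 ∧ p ≠ 2)) ∧
      δ * Nat.card (Matrix.ProjectiveSpecialLinearGroup (Fin 2) F) =
        p ^ 2 * ((p ^ 2) ^ 2 - 1) ∧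
      (∀ χ ψ : IrrCharacter (Matrix.ProjectiveSpecialLinearGroup (Fin 2) F),
        charDegree (χ : Matrix.ProjectiveSpecialLinearGroup (Fin 2) F → ℂ) = 1 →
        charDegree (ψ : Matrix.ProjectiveSpecialLinearGroup (Fin 2) F → ℂ) = 1 → χ = ψ) ∧
      (∃ χ : IrrCharacter (Matrix.ProjectiveSpecialLinearGroup (Fin 2) F),
        charDegree (χ : Matrix.ProjectiveSpecialLinearGroup (Fin 2) F → ℂ) = p ^ 2) ∧
      ∀ χ : IrrCharacter (Matrix.ProjectiveSpecialLinearGroup (Fin 2) F),
        let d := charDegree (χ : Matrix.ProjectiveSpecialLinearGroup (Fin 2) F → ℂ)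
        d = 1 ∨ d = p ^ 2 ∨ d = p ^ 2 + 1 ∨ d = p ^ 2 - 1 ∨ δ * d = p ^ 2 + 1 := by
  classical
  haveI := Fact.mk hp
  have h4 : 4 ≤ Fintype.card F := by
    rw [hF]; nlinarith [hp.two_le]
  haveI : CharP F p := charP_of_card_eq_prime_pow hF
  obtain ⟨hS, hSuniq⟩ := Cfsg.Agent.S4765.result p F h4
  have hexq : ∃ χ : IrrCharacter (Matrix.ProjectiveSpecialLinearGroup (Fin 2) F),
      charDegree (χ : Matrix.ProjectiveSpecialLinearGroup (Fin 2) F → ℂ) = p ^ 2 := by
    obtain ⟨⟨χ, hχ⟩⟩ := (Nat.card_eq_one_iff_unique.1 hS).2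
    exact ⟨χ, by rw [hSuniq χ hχ, hF]⟩
  let N := Subgroup.center SL(2, F)
  have hcardF : Nat.card F = p ^ 2 := by rw [Nat.card_eq_fintype_card, hF]
  have hone_inj : (∀ a b : IrrCharacter SL(2, F),
      charDegree (a : SL(2, F) → ℂ) = 1 → charDegree (b : SL(2, F) → ℂ) = 1 → a = b) →
      ∀ χ ψ : IrrCharacter (Matrix.ProjectiveSpecialLinearGroup (Fin 2) F),
        charDegree (χ : Matrix.ProjectiveSpecialLinearGroup (Fin 2) F → ℂ) = 1 →
        charDegree (ψ : Matrix.ProjectiveSpecialLinearGroup (Fin 2) F → ℂ) = 1 → χ = ψ := by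
    intro huniq χ ψ hχ hψ
    rw [← CharKernel.charDegree_quotEquiv N] at hχ hψ
    exact (CharKernel.quotEquiv N).injective (Subtype.ext (huniq _ _ hχ hψ))
  have hsub : Nat.card {χ : IrrCharacter SL(2, F) // (χ : SL(2, F) → ℂ) 1 = 1} = 1 →
      ∀ a b : IrrCharacter SL(2, F),
        charDegree (a : SL(2, F) → ℂ) = 1 → charDegree (b : SL(2, F) → ℂ) = 1 → a = b := by
    intro h1 a b ha hb
    haveI := (Nat.card_eq_one_iff_unique.1 h1).1
    exact congrArg Subtype.val (Subsingleton.elim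
      (⟨a, by rw [CharAverage.irr_apply_one a, ha, Nat.cast_one]⟩ :
        {χ : IrrCharacter SL(2, F) // (χ : SL(2, F) → ℂ) 1 = 1})
      ⟨b, by rw [CharAverage.irr_apply_one b, hb, Nat.cast_one]⟩)
  rcases eq_or_ne p 2 with rfl | hp2
  · obtain ⟨hdeg, hcnt⟩ := Cfsg.Agent.S2300.result (F := F)
    refine ⟨1, Or.inl ⟨rfl, rfl⟩, ?_, hone_inj (hsub (hcnt h4).1), hexq, fun χ => ?_⟩
    · rw [one_mul, PSLCard.card_PSL2_even (by rw [hcardF]; decide), hcardF]
    · intro d
      have hd : d = charDegree ((CharKernel.quotEquiv N χ).1 : SL(2, F) → ℂ) :=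
        (CharKernel.charDegree_quotEquiv N χ).symm
      have h := hdeg _ (CharKernel.quotEquiv N χ).1.2
      rw [CharAverage.irr_apply_one, ← hd] at h
      rcases h with h | h | h | h
      · exact Or.inl (by exact_mod_cast h)
      · refine Or.inr (Or.inr (Or.inr (Or.inl ?_)))
        rw [← Nat.cast_one, ← Nat.cast_sub (by omega), Nat.cast_inj] at h
        rw [h, hF]
      · exact Or.inr (Or.inl (by rw [Nat.cast_inj] at h; rw [h, hF]))
      · refine Or.inr (Or.inr (Or.inl ?_))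
        rw [← Nat.cast_one, ← Nat.cast_add, Nat.cast_inj] at h
        rw [h, hF]
  · have hodd : Odd (Fintype.card F) := by
      rw [hF]; exact (hp.odd_of_ne_two hp2).pow
    obtain ⟨hdeg, hcnt⟩ := Cfsg.Agent.S2299.result (F := F) hodd
    have h5 : 5 ≤ Fintype.card F := by
      rw [hF]
      have := hp.two_le
      have : 3 ≤ p := by omega
      nlinarith
    refine ⟨2, Or.inr ⟨rfl, hp2⟩, ?_, hone_inj (hsub (hcnt h5).1), hexq, fun χ => ?_⟩
    · have h := PSLCard.card_PSL2_mul (F := F)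
      have hg : Nat.gcd 2 (Nat.card F - 1) = 2 := by
        rw [Nat.card_eq_fintype_card]
        obtain ⟨k, hk⟩ := hodd
        exact Nat.gcd_eq_left ⟨k, by omega⟩
      rw [hg, hcardF] at h
      exact h
    · intro d
      obtain ⟨h, hh, hq⟩ := SL2Odd.exists_half hodd
      set θ := (CharKernel.quotEquiv N χ).1 with hθ
      have hd : (θ : SL(2, F) → ℂ) 1 = (d : ℂ) := by
        rw [CharAverage.irr_apply_one, hθ, CharKernel.charDegree_quotEquiv]
      have heven : Even h := by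
        obtain ⟨k, hk⟩ := hp.odd_of_ne_two hp2
        refine ⟨k * k + k, ?_⟩
        have : p ^ 2 = 2 * (2 * (k * k + k)) + 1 := by rw [hk]; ring
        omega
      obtain ⟨k, hk⟩ := SL2Odd.exists_kind hodd hq θ.2
      have hm1 : (θ : SL(2, F) → ℂ) (-1) = (θ : SL(2, F) → ℂ) 1 :=
        (CharKernel.quotEquiv N χ).2 (-1) ((mem_center_iff _).2 (Or.inr rfl))
      have hk5 : k ≠ 5 := fun e => half_not_even hodd hq heven θ.2 (e ▸ hk) hm1
      have hd' := hk.1
      rw [hd, Nat.cast_inj] at hd'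
      fin_cases k <;> simp [SL2Odd.tbl] at hd' hk5
      · exact Or.inl hd'
      · exact Or.inr (Or.inl (hd'.trans hF))
      · exact Or.inr (Or.inr (Or.inl (by omega)))
      · exact Or.inr (Or.inr (Or.inr (Or.inr (by omega))))
      · exact Or.inr (Or.inr (Or.inr (Or.inl (by omega))))

end Cfsg.Agent.PSLSqDegrees82
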