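import Mathlib
import Cfsg.Prelude.Def_LocalEven
import Cfsg.Prelude.Def_PLocal
import Cfsg.Agent.Lib.OrthUnitaryHerm
import Cfsg.Agent.Lib.QdStructure56

/-!
`Qd(p)` is not involved in `PSU 3 q` for `q` a power of the odd prime `p` (helper56).

The normaliser of a nontrivial p-subgroup of `SU 3 q` fixes an isotropic line, so the commutator
of any two of its elements is unipotent, which is false for two opposite transvections of `SL 2 p`.
-/

set_option autoImplicit false

namespace Cfsg.Agent.PSU3QdFree56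

open Cfsg.Agent.OrthUnitaryHerm
open scoped Matrix MatrixGroups

universe u

variable {K : Type u} [Field K] [Fintype K] {p q : ℕ} [Fact p.Prime] [CharP K p]

/-- The action of an element of `SU`. -/
abbrev act (g : Cfsg.SU 3 K q) (v : Fin 3 → K) : Fin 3 → K :=
  ((g : SL(3, K)) : Matrix (Fin 3) (Fin 3) K) *ᵥ v

theorem act_mul (g h : Cfsg.SU 3 K q) (v : Fin 3 → K) : act (g * h) v = act g (act h v) := by
  rw [act, act, act, Matrix.mulVec_mulVec, Subgroup.coe_mul, Matrix.SpecialLinearGroup.coe_mul]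

theorem act_one (v : Fin 3 → K) : act (1 : Cfsg.SU 3 K q) v = v := by
  rw [act, Subgroup.coe_one, Matrix.SpecialLinearGroup.coe_one, Matrix.one_mulVec]

theorem act_inv_act (g : Cfsg.SU 3 K q) (v : Fin 3 → K) : act g⁻¹ (act g v) = v := by
  rw [← act_mul, inv_mul_cancel, act_one]

theorem herm_act (g : Cfsg.SU 3 K q) (u v : Fin 3 → K) :
    Cfsg.hermForm 3 K q (act g u) (act g v) = Cfsg.hermForm 3 K q u v :=
  isU_of_mem_SU g u v

/-- An isotropic line fixed by the normaliser of a nontrivial p-subgroup. -/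
theorem exists_isotropic_line (hF : Fintype.card K = q ^ 2) (P : Subgroup (Cfsg.SU 3 K q))
    (hP : IsPGroup p P) (hP1 : P ≠ ⊥) :
    ∃ e : Fin 3 → K, e ≠ 0 ∧ Cfsg.hermForm 3 K q e e = 0 ∧
      ∀ g ∈ Subgroup.normalizer (P : Set (Cfsg.SU 3 K q)), ∃ c : K, act g e = c • e := by
  classical
  let W : Submodule K (Fin 3 → K) :=
    { carrier := {v | ∀ g ∈ P, act g v = v}
      add_mem' := fun {a b} ha hb g hg => by
        show _ *ᵥ (a + b) = a + b
        rw [Matrix.mulVec_add]; exact congrArg₂ _ (ha g hg) (hb g hg)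
      zero_mem' := fun g _ => Matrix.mulVec_zero _
      smul_mem' := fun c {a} ha g hg => by
        show _ *ᵥ (c • a) = c • a
        rw [Matrix.mulVec_smul]; exact congrArg _ (ha g hg) }
  let W' : Submodule K (Fin 3 → K) :=
    { carrier := {v | ∀ w ∈ W, Cfsg.hermForm 3 K q v w = 0}
      add_mem' := fun {a b} ha hb w hw => by rw [herm_add_left, ha w hw, hb w hw, add_zero]
      zero_mem' := fun w _ => by simp [Cfsg.hermForm]
      smul_mem' := fun c {a} ha w hw => by rw [herm_smul_left, ha w hw, mul_zero] }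
  have hW : ∀ g ∈ Subgroup.normalizer (P : Set (Cfsg.SU 3 K q)), ∀ w ∈ W, act g w ∈ W := by
    intro g hg w hw x hx
    have h1 : g⁻¹ * x * g ∈ P := (Subgroup.mem_normalizer_iff''.1 hg x).1 hx
    have h2 := congrArg (act g) (hw _ h1)
    rwa [← act_mul, show g * (g⁻¹ * x * g) = x * g by group, act_mul] at h2
  have hW' : ∀ g ∈ Subgroup.normalizer (P : Set (Cfsg.SU 3 K q)), ∀ w ∈ W', act g w ∈ W' := by
    intro g hg v hv w hw
    have h1 := hW g⁻¹ (inv_mem hg) w hw
    have h2 : act g (act g⁻¹ w) = w := by rw [← act_mul, mul_inv_cancel, act_one]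
    rw [← h2, herm_act]
    exact hv _ h1
  set R := W ⊓ W'
  have hR : R ≠ ⊥ := by
    intro hR
    have hW'0 : W' = ⊥ := by
      by_contra h0
      have : Finite W' := inferInstance
      let _ : MulAction P W' :=
        { smul := fun g w => ⟨act (g : Cfsg.SU 3 K q) w, hW' g (Subgroup.le_normalizer g.2) _ w.2⟩
          one_smul := fun w => Subtype.ext (act_one _)
          mul_smul := fun g h w => Subtype.ext (act_mul _ _ _) }
      have hdvd : p ∣ Nat.card W' := by
        obtain ⟨f, hp, hf⟩ : ∃ f : ℕ, p.Prime ∧ Fintype.card K = p ^ f := by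
          obtain ⟨n, hp, hn⟩ := FiniteField.card K p
          exact ⟨n, hp, hn⟩
        rw [Nat.card_eq_fintype_card, Module.card_eq_pow_finrank (K := K)]
        have hf0 : f ≠ 0 := fun h => by
          have := Fintype.one_lt_card (α := K); rw [hf, h] at this; simp at this
        have hd0 : Module.finrank K W' ≠ 0 := fun h => h0 (Submodule.finrank_eq_zero.1 h)
        rw [hf, ← pow_mul]
        exact dvd_pow_self p (Nat.mul_ne_zero hf0 hd0)
      obtain ⟨w, hw, hw0⟩ := hP.exists_fixed_point_of_prime_dvd_card_of_fixed_point W' hdvd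
        (a := 0) (fun g => Subtype.ext (by
          show _ *ᵥ (0 : Fin 3 → K) = 0
          exact Matrix.mulVec_zero _))
      have hmem : (w : Fin 3 → K) ∈ R :=
        ⟨fun g hg => congrArg Subtype.val (hw ⟨g, hg⟩), w.2⟩
      rw [hR, Submodule.mem_bot] at hmem
      exact hw0 (Subtype.ext hmem).symm
    have hWtop : W = ⊤ := by
      let b := Module.finBasis K W
      let L : (Fin 3 → K) →ₗ[K] (Fin (Module.finrank K W) → K) :=
        { toFun := fun v i => Cfsg.hermForm 3 K q v (b i : Fin 3 → K)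
          map_add' := fun u v => funext fun i => herm_add_left u v _
          map_smul' := fun c v => funext fun i => herm_smul_left c v _ }
      have hL : Function.Injective L := by
        rw [← LinearMap.ker_eq_bot]
        refine le_bot_iff.1 (fun v hv => ?_)
        rw [← hW'0]
        intro w hw
        have hsum : (w : Fin 3 → K) = ∑ i, b.repr ⟨w, hw⟩ i • (b i : Fin 3 → K) := by
          conv_lhs => rw [show w = ((⟨w, hw⟩ : W) : Fin 3 → K) from rfl, ← b.sum_repr ⟨w, hw⟩]
          rw [Submodule.coe_sum]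
          rfl
        rw [hsum, herm_conj hF]
        have hz : Cfsg.hermForm 3 K q (∑ i, b.repr ⟨w, hw⟩ i • (b i : Fin 3 → K)) v = 0 := by
          have hlin : ∀ (s : Finset (Fin (Module.finrank K W))),
              Cfsg.hermForm 3 K q (∑ i ∈ s, b.repr ⟨w, hw⟩ i • (b i : Fin 3 → K)) v = 0 := by
            intro s
            induction s using Finset.induction_on with
            | empty => simp [Cfsg.hermForm]
            | insert a s ha ih =>
              rw [Finset.sum_insert ha, herm_add_left, ih, add_zero, herm_smul_left,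
                herm_conj hF, show Cfsg.hermForm 3 K q v (b a : Fin 3 → K) = 0 from
                  congr_fun (LinearMap.mem_ker.1 hv) a, zero_pow (q_ne_zero hF), mul_zero]
          exact hlin Finset.univ
        rw [hz, zero_pow (q_ne_zero hF)]
      have h1 := LinearMap.finrank_le_finrank_of_injective hL
      rw [Module.finrank_fin_fun, Module.finrank_fin_fun] at h1
      refine Submodule.eq_top_of_finrank_eq (le_antisymm (Submodule.finrank_le W) ?_)
      rwa [Module.finrank_fin_fun]
    refine hP1 ((Subgroup.eq_bot_iff_forall P).2 fun g hg => ?_)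
    apply Subtype.ext
    apply Matrix.SpecialLinearGroup.ext
    intro i j
    have hmem : (Pi.single j 1 : Fin 3 → K) ∈ W := hWtop ▸ Submodule.mem_top
    have := congr_fun (hmem g hg) i
    rw [act, Matrix.mulVec_single_one] at this
    simpa [Matrix.one_apply, Pi.single_apply] using this
  obtain ⟨e, he, he0⟩ := (Submodule.ne_bot_iff R).1 hR
  have hiso : ∀ u ∈ R, ∀ v ∈ R, Cfsg.hermForm 3 K q u v = 0 := fun u hu v hv => hu.2 v hv.1
  refine ⟨e, he0, hiso e he e he, fun g hg => ?_⟩
  set f := act g e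
  have hf : f ∈ R := ⟨hW g hg e he.1, hW' g hg e he.2⟩
  by_contra hne
  have hind : LinearIndependent K ![e, f] := by
    rw [LinearIndependent.pair_iff]
    intro a c hac
    by_cases hc : c = 0
    · subst hc
      rw [zero_smul, add_zero, smul_eq_zero] at hac
      exact ⟨hac.resolve_right he0, rfl⟩
    · refine absurd ⟨-(c⁻¹ * a), ?_⟩ hne
      have h2 := congrArg (fun w => c⁻¹ • w) hac
      simp only [smul_add, smul_smul, inv_mul_cancel₀ hc, one_smul, smul_zero] at h2
      rw [neg_smul]
      exact eq_neg_of_add_eq_zero_right h2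
  let M : (Fin 3 → K) →ₗ[K] (Fin 2 → K) :=
    { toFun := fun v => ![Cfsg.hermForm 3 K q v e, Cfsg.hermForm 3 K q v f]
      map_add' := fun u v => by
        funext i; fin_cases i <;> simp [herm_add_left]
      map_smul' := fun c v => by
        funext i; fin_cases i <;> simp [herm_smul_left] }
  have hMsurj : LinearMap.range M = ⊤ := by
    by_contra hlt
    obtain ⟨φ, hφ, hle⟩ := Submodule.exists_le_ker_of_lt_top _ (lt_top_iff_ne_top.2 hlt)
    set a := φ ![1, 0]
    set c := φ ![0, 1]
    have hφv : ∀ x y : K, φ ![x, y] = x * a + y * c := by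
      intro x y
      have : (![x, y] : Fin 2 → K) = x • ![1, 0] + y • ![0, 1] := by
        funext i; fin_cases i <;> simp
      rw [this, map_add, map_smul, map_smul, smul_eq_mul, smul_eq_mul]
    have hz : ∀ v, Cfsg.hermForm 3 K q v (a ^ q • e + c ^ q • f) = 0 := by
      intro v
      have h1 : φ (M v) = 0 := hle ⟨v, rfl⟩
      rw [show M v = ![Cfsg.hermForm 3 K q v e, Cfsg.hermForm 3 K q v f] from rfl, hφv] at h1
      rw [herm_add_right hF, herm_smul_right, herm_smul_right, pow_q_q hF, pow_q_q hF]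
      linear_combination h1
    have h0 : a ^ q • e + c ^ q • f = 0 := eq_zero_of_herm_eq_zero hF fun x => by
      rw [herm_conj hF, hz, zero_pow (q_ne_zero hF)]
    obtain ⟨ha, hc⟩ := LinearIndependent.pair_iff.1 hind _ _ h0
    apply hφ
    refine LinearMap.ext fun x => ?_
    rw [show x = ![x 0, x 1] by funext i; fin_cases i <;> rfl, hφv,
      eq_zero_of_pow_eq_zero ha, eq_zero_of_pow_eq_zero hc]
    simp
  have h1 := LinearMap.finrank_range_add_finrank_ker M
  rw [hMsurj, finrank_top, Module.finrank_fin_fun, Module.finrank_fin_fun] at h1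
  have hmem : ∀ i, ![e, f] i ∈ LinearMap.ker M := by
    intro i
    fin_cases i <;>
      (rw [LinearMap.mem_ker]; funext j; fin_cases j) <;>
      simp [M, hiso e he e he, hiso e he f hf, hiso f hf e he, hiso f hf f hf]
  have h2 := LinearIndependent.fintype_card_le_finrank (b := fun i => (⟨![e, f] i, hmem i⟩ : LinearMap.ker M))
    (LinearIndependent.of_comp (LinearMap.ker M).subtype hind)
  rw [Fintype.card_fin] at h2
  omega

/-- Commutators of elements fixing an isotropic line are unipotent. -/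
theorem commutator_pow_eq_one (hp : p ≠ 2) (hF : Fintype.card K = q ^ 2) {e : Fin 3 → K} (he : e ≠ 0)
    (hee : Cfsg.hermForm 3 K q e e = 0) {a b : Cfsg.SU 3 K q} (ha : ∃ c : K, act a e = c • e)
    (hb : ∃ c : K, act b e = c • e) : (a * b * a⁻¹ * b⁻¹) ^ p = 1 := by
  classical
  let E : (Fin 3 → K) →ₗ[K] K :=
    { toFun := fun v => Cfsg.hermForm 3 K q v e
      map_add' := fun u v => herm_add_left u v _
      map_smul' := fun c v => herm_smul_left c v _ }
  have hE : E ≠ 0 := fun h => he (eq_zero_of_herm_eq_zero hF fun x => by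
    rw [herm_conj hF, show Cfsg.hermForm 3 K q x e = 0 from LinearMap.congr_fun h x,
      zero_pow (q_ne_zero hF)])
  have hk : Module.finrank K (LinearMap.ker E) = 2 := by
    have h := LinearMap.finrank_range_add_finrank_ker E
    rw [LinearMap.range_eq_top.2 (LinearMap.surjective hE), finrank_top, Module.finrank_self,
      Module.finrank_fin_fun] at h
    omega
  obtain ⟨f, hf, hfe⟩ : ∃ f, f ∈ LinearMap.ker E ∧ f ∉ Submodule.span K {e} := by
    by_contra h
    simp only [not_exists, not_and, not_not] at h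
    have := Submodule.finrank_mono (h : LinearMap.ker E ≤ Submodule.span K {e})
    rw [hk, finrank_span_singleton he] at this
    omega
  have hker : ∀ v, Cfsg.hermForm 3 K q v e = 0 → ∃ x y : K, v = x • e + y • f := by
    intro v hv
    have hsub : Submodule.span K {e, f} = LinearMap.ker E := by
      refine Submodule.eq_of_le_of_finrank_le (Submodule.span_le.2 ?_) ?_
      · rintro w (rfl | rfl)
        · exact hee
        · exact hf
      · rw [hk]
        have hlt : Submodule.span K {e} < Submodule.span K {e, f} := by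
          refine lt_of_le_not_ge (Submodule.span_mono (by simp)) fun h => hfe (h ?_)
          exact Submodule.subset_span (by simp)
        have := Submodule.finrank_lt_finrank_of_lt hlt
        rw [finrank_span_singleton he] at this
        exact this
    obtain ⟨x, y, hxy⟩ := Submodule.mem_span_pair.1 (hsub.symm ▸ (LinearMap.mem_ker.2 hv) :
      v ∈ Submodule.span K {e, f})
    exact ⟨x, y, hxy.symm⟩
  have hind : ∀ x y : K, x • e + y • f = 0 → y = 0 := by
    intro x y h
    by_contra hy
    apply hfe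
    rw [Submodule.mem_span_singleton]
    refine ⟨-(y⁻¹ * x), ?_⟩
    have h2 := congrArg (fun w => y⁻¹ • w) h
    simp only [smul_add, smul_smul, inv_mul_cancel₀ hy, one_smul, smul_zero] at h2
    rw [neg_smul]
    exact (eq_neg_of_add_eq_zero_right h2).symm
  -- triangular shape
  have shape : ∀ g : Cfsg.SU 3 K q, (∃ c : K, act g e = c • e) →
      ∃ l m n : K, l ≠ 0 ∧ m ≠ 0 ∧ act g e = l • e ∧ act g f = n • e + m • f := by
    rintro g ⟨l, hl⟩
    have hl0 : l ≠ 0 := fun h => he (by
      have := congrArg (act g⁻¹) hl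
      rw [act_inv_act, h, zero_smul] at this
      rw [this]; exact Matrix.mulVec_zero _)
    obtain ⟨n, m, hnm⟩ := hker (act g f) (by
      have h1 := herm_act g f e
      rw [hl, herm_smul_right, show Cfsg.hermForm 3 K q f e = 0 from hf] at h1
      exact (mul_eq_zero.1 h1).resolve_left (pow_ne_zero _ hl0))
    refine ⟨l, m, n, hl0, fun hm => ?_, hl, hnm⟩
    subst hm
    rw [zero_smul, add_zero] at hnm
    have h2 := congrArg (act g⁻¹) hnm
    rw [act_inv_act, act, Matrix.mulVec_smul] at h2
    change f = n • act g⁻¹ e at h2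
    have h3 : act g⁻¹ e = l⁻¹ • e := by
      have := congrArg (act g⁻¹) hl
      rw [act_inv_act, act, Matrix.mulVec_smul] at this
      change e = l • act g⁻¹ e at this
      rw [eq_inv_smul_iff₀ hl0]; exact this.symm
    exact hfe (by rw [h2, h3, smul_smul]; exact Submodule.smul_mem _ _ (Submodule.mem_span_singleton_self e))
  have tri : ∀ g h : Cfsg.SU 3 K q, ∀ l m n l' m' n' : K,
      act g e = l • e → act g f = n • e + m • f → act h e = l' • e → act h f = n' • e + m' • f →
      act (g * h) e = (l' * l) • e ∧ act (g * h) f = (n' * l + m' * n) • e + (m' * m) • f := by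
    intro g h l m n l' m' n' h1 h2 h3 h4
    rw [act_mul, act_mul, h3, h4]
    constructor
    · show _ *ᵥ (l' • e) = _
      rw [Matrix.mulVec_smul]
      show l' • act g e = _
      rw [h1, smul_smul]
    · show _ *ᵥ (n' • e + m' • f) = _
      rw [Matrix.mulVec_add, Matrix.mulVec_smul, Matrix.mulVec_smul]
      show n' • act g e + m' • act g f = _
      rw [h1, h2]
      module
  obtain ⟨la, ma, na, hla, hma, hae, haf⟩ := shape a ha
  obtain ⟨lb, mb, nb, hlb, hmb, hbe, hbf⟩ := shape b hb
  have hinv : ∀ g : Cfsg.SU 3 K q, ∀ l m n : K, l ≠ 0 → m ≠ 0 → act g e = l • e →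
      act g f = n • e + m • f →
      ∃ n' : K, act g⁻¹ e = l⁻¹ • e ∧ act g⁻¹ f = n' • e + m⁻¹ • f := by
    intro g l m n hl hm h1 h2
    have h3 : act g⁻¹ e = l⁻¹ • e := by
      have := congrArg (act g⁻¹) h1
      rw [act_inv_act, act, Matrix.mulVec_smul] at this
      change e = l • act g⁻¹ e at this
      rw [eq_inv_smul_iff₀ hl]; exact this.symm
    refine ⟨-(m⁻¹ * n * l⁻¹), h3, ?_⟩
    have := congrArg (act g⁻¹) h2
    rw [act_inv_act, act, Matrix.mulVec_add, Matrix.mulVec_smul, Matrix.mulVec_smul] at this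
    change f = n • act g⁻¹ e + m • act g⁻¹ f at this
    rw [h3] at this
    have h4 : m • act g⁻¹ f = f - n • (l⁻¹ • e) := by rw [eq_sub_iff_add_eq', ← this]
    rw [show act g⁻¹ f = m⁻¹ • (m • act g⁻¹ f) by rw [smul_smul, inv_mul_cancel₀ hm, one_smul], h4]
    module
  obtain ⟨na', hae', haf'⟩ := hinv a la ma na hla hma hae haf
  obtain ⟨nb', hbe', hbf'⟩ := hinv b lb mb nb hlb hmb hbe hbf
  obtain ⟨h1, h2⟩ := tri a b _ _ _ _ _ _ hae haf hbe hbf
  obtain ⟨h3, h4⟩ := tri (a * b) a⁻¹ _ _ _ _ _ _ h1 h2 hae' haf'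
  obtain ⟨h5, h6⟩ := tri (a * b * a⁻¹) b⁻¹ _ _ _ _ _ _ h3 h4 hbe' hbf'
  set c := a * b * a⁻¹ * b⁻¹
  have hl1 : lb⁻¹ * (la⁻¹ * (lb * la)) = 1 := by field_simp
  have hm1 : mb⁻¹ * (ma⁻¹ * (mb * ma)) = 1 := by field_simp
  rw [hl1, one_smul] at h5
  rw [hm1, one_smul] at h6
  set N : Matrix (Fin 3) (Fin 3) K := ((c : SL(3, K)) : Matrix (Fin 3) (Fin 3) K) - 1
  have hN : ∀ v, N *ᵥ v = act c v - v := fun v => by rw [Matrix.sub_mulVec, Matrix.one_mulVec]
  have hNe : N *ᵥ e = 0 := by rw [hN, h5, sub_self]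
  have h3' : N ^ 3 = 0 := by
    rw [Matrix.ext_iff_mulVec]
    intro v
    rw [pow_three, ← Matrix.mulVec_mulVec, ← Matrix.mulVec_mulVec, Matrix.zero_mulVec]
    have hv : Cfsg.hermForm 3 K q (N *ᵥ v) e = 0 := by
      rw [hN, herm_sub_left]
      conv_lhs => arg 1; arg 5; rw [← h5]
      rw [herm_act, sub_self]
    obtain ⟨x, y, hxy⟩ := hker _ hv
    rw [hxy, Matrix.mulVec_add, Matrix.mulVec_smul, Matrix.mulVec_smul, hNe, smul_zero, zero_add,
      Matrix.mulVec_smul, hN f, h6, add_sub_cancel_right, Matrix.mulVec_smul, hNe, smul_zero,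
      smul_zero]
  apply Subtype.ext
  apply Subtype.ext
  show (((c ^ p : Cfsg.SU 3 K q) : SL(3, K)) : Matrix (Fin 3) (Fin 3) K) = 1
  rw [SubgroupClass.coe_pow, Matrix.SpecialLinearGroup.coe_pow, ← sub_eq_zero]
  have hp3 : 3 ≤ p := by have := (Fact.out : p.Prime).two_le; omega
  have hfr : N ^ p = ((c : SL(3, K)) : Matrix (Fin 3) (Fin 3) K) ^ p - 1 := by
    rw [sub_pow_char_of_commute _ (Commute.one_right _), one_pow]
  rw [← hfr, ← Nat.sub_add_cancel hp3, pow_add, h3', mul_zero]

theorem main (hp : p ≠ 2) (hF : Fintype.card K = q ^ 2) :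
    ¬ Cfsg.Involves ↥(Cfsg.qd p) (Cfsg.PSU 3 K q) := by
  classical
  rintro ⟨Kq, R, hR, ⟨ε⟩⟩
  let π := QuotientGroup.mk' (Subgroup.center ↥(Cfsg.SU 3 K q))
  let H : Subgroup (Cfsg.SU 3 K q) := Kq.comap π
  let φ : H →* QdStructure56.Qd (ZMod p) :=
    ε.toMonoidHom.comp ((QuotientGroup.mk' (R.subgroupOf Kq)).comp (π.subgroupComap Kq))
  have hφ : Function.Surjective φ :=
    ε.surjective.comp ((QuotientGroup.mk'_surjective _).comp
      (π.subgroupComap_surjective_of_surjective Kq (QuotientGroup.mk'_surjective _)))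
  let ψ : H →* SL(2, ZMod p) := (QdStructure56.blk (F := ZMod p)).comp φ
  have hψ : Function.Surjective ψ := QdStructure56.blk_surjective.comp hφ
  set L := ψ.ker
  have hpL : p ∣ Nat.card L := by
    obtain ⟨x, hx⟩ := hφ (QdStructure56.mk (F := ZMod p) 1 ![1, 0])
    have hxL : x ∈ L := by
      rw [MonoidHom.mem_ker]
      show QdStructure56.blk (φ x) = 1
      rw [hx, QdStructure56.blk_mk]
    refine dvd_trans ?_ (Subgroup.orderOf_dvd_natCard L hxL)
    refine dvd_trans ?_ (orderOf_map_dvd φ x)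
    rw [hx]
    have hpow : ∀ n : ℕ, QdStructure56.vec ((QdStructure56.mk (F := ZMod p) 1 ![1, 0]) ^ n) = n • ![1, 0] ∧
        QdStructure56.blk ((QdStructure56.mk (F := ZMod p) 1 ![1, 0]) ^ n) = 1 := by
      intro n
      induction n with
      | zero => simp
      | succ n ih =>
        rw [pow_succ, QdStructure56.vec_mul, map_mul, ih.1, ih.2, QdStructure56.vec_mk,
          QdStructure56.blk_mk, one_mul]
        refine ⟨?_, rfl⟩
        rw [Matrix.SpecialLinearGroup.coe_one, Matrix.one_mulVec, succ_nsmul, add_comm]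
    refine ((Nat.Prime.eq_one_or_self_of_dvd (Fact.out : p.Prime) _ ?_).resolve_left ?_).symm.dvd
    · refine orderOf_dvd_of_pow_eq_one (QdStructure56.ext_blk_vec ?_ ?_)
      · rw [(hpow p).2, map_one]
      · rw [(hpow p).1, QdStructure56.vec_one]
        simp
    · rw [orderOf_eq_one_iff]
      intro h
      have := congrArg QdStructure56.vec h
      rw [QdStructure56.vec_mk, QdStructure56.vec_one] at this
      simpa using congr_fun this 0
  let P : Sylow p L := default
  have hfr := Sylow.normalizer_sup_eq_top P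
  set N := Subgroup.normalizer (((P : Subgroup L).map L.subtype : Subgroup H) : Set H)
  have hsurj : ∀ y, ∃ n ∈ N, ψ n = y := by
    intro y
    obtain ⟨x, rfl⟩ := hψ y
    have hx : x ∈ N ⊔ L := hfr.symm ▸ Subgroup.mem_top x
    obtain ⟨n, hn, l, hl, rfl⟩ := Subgroup.mem_sup_of_normal_right.1 hx
    exact ⟨n, hn, by rw [map_mul, (MonoidHom.mem_ker.1 hl), mul_one]⟩
  let P' : Subgroup (Cfsg.SU 3 K q) := ((P : Subgroup L).map L.subtype).map H.subtype
  have hP' : IsPGroup p P' := (P.isPGroup'.map _).map _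
  have hP'1 : P' ≠ ⊥ := by
    intro h
    rw [Subgroup.map_eq_bot_iff_of_injective _ H.subtype_injective,
      Subgroup.map_eq_bot_iff_of_injective _ L.subtype_injective] at h
    exact P.ne_bot_of_dvd_card hpL h
  obtain ⟨e, he, hee, hline⟩ := exists_isotropic_line hF P' hP' hP'1
  have hN : ∀ n ∈ N, ∃ c : K, act (n : Cfsg.SU 3 K q) e = c • e := fun n hn =>
    hline _ (Subgroup.le_normalizer_map H.subtype (Subgroup.mem_map_of_mem H.subtype hn))
  let u : SL(2, ZMod p) := ⟨!![1, 1; 0, 1], by simp [Matrix.det_fin_two]⟩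
  let l : SL(2, ZMod p) := ⟨!![1, 0; 1, 1], by simp [Matrix.det_fin_two]⟩
  obtain ⟨a, ha, hau⟩ := hsurj u
  obtain ⟨b, hb, hbl⟩ := hsurj l
  have hc : (a * b * a⁻¹ * b⁻¹) ^ p = 1 := by
    apply Subtype.ext
    exact commutator_pow_eq_one hp hF he hee (hN a ha) (hN b hb)
  have htr : ((u * l * u⁻¹ * l⁻¹ : SL(2, ZMod p)) : Matrix (Fin 2) (Fin 2) (ZMod p)).trace = 3 := by
    show ((u : Matrix (Fin 2) (Fin 2) (ZMod p)) * (l : Matrix (Fin 2) (Fin 2) (ZMod p)) *
      (u : Matrix (Fin 2) (Fin 2) (ZMod p)).adjugate *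
      (l : Matrix (Fin 2) (Fin 2) (ZMod p)).adjugate).trace = 3
    simp [u, l, Matrix.adjugate_fin_two_of, Matrix.trace_fin_two, Matrix.mul_fin_two]
    norm_num
  have h1 : (u * l * u⁻¹ * l⁻¹) ^ p = 1 := by
    rw [← hau, ← hbl, ← map_inv, ← map_inv, ← map_mul, ← map_mul, ← map_mul, ← map_pow, hc,
      map_one]
  have h2 := congrArg (fun x : SL(2, ZMod p) => (x : Matrix (Fin 2) (Fin 2) (ZMod p)).trace) h1
  simp only [Matrix.SpecialLinearGroup.coe_pow, ZMod.trace_pow_card, htr,
    Matrix.SpecialLinearGroup.coe_one, Matrix.trace_one, Fintype.card_fin, ZMod.pow_card] at h2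
  exact one_ne_zero (α := ZMod p) (by push_cast at h2; linear_combination h2)

end Cfsg.Agent.PSU3QdFree56
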