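import Mathlib

/-!
A set of residues mod a prime whose `p`-th convolution power is constant off one point is a
singleton or the complement of one.
-/

set_option autoImplicit false

open Polynomial

namespace Cfsg.Agent.PrimeCirculant23

variable {p : ℕ} [hp : Fact p.Prime]

theorem pow_congr {L : Type*} [Monoid L] {ζ : L} (h : ζ ^ p = 1) {a b : ℕ}
    (hab : (a : ZMod p) = b) : ζ ^ a = ζ ^ b := by
  rw [ZMod.natCast_eq_natCast_iff'] at hab
  conv_lhs => rw [← Nat.div_add_mod a p]
  conv_rhs => rw [← Nat.div_add_mod b p]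
  rw [pow_add, pow_add, pow_mul, pow_mul, h, one_pow, one_pow, hab]

/-- A rational dependence between the `p`-th roots of unity is constant. -/
theorem coeff_const {L : Type*} [Field L] [CharZero L] {ζ : L} (hζ : IsPrimitiveRoot ζ p)
    (c : ZMod p → ℚ) (h : ∑ i, (c i : L) * ζ ^ i.val = 0) : ∀ i, c i = c 0 := by
  classical
  have hp1 : 1 < p := hp.out.one_lt
  set P : ℚ[X] := ∑ i : ZMod p, C (c i) * X ^ i.val with hP
  have hev : aeval ζ P = 0 := by
    rw [hP, map_sum, ← h]
    refine Finset.sum_congr rfl fun i _ => ?_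
    simp
  have hdvd : cyclotomic p ℚ ∣ P := by
    rw [cyclotomic_eq_minpoly_rat hζ hp.out.pos]
    exact minpoly.dvd ℚ ζ hev
  have hcoeff : ∀ i : ZMod p, P.coeff i.val = c i := fun i => by
    rw [hP, finsetSum_coeff, Finset.sum_eq_single i]
    · simp
    · intro j _ hj
      rw [coeff_C_mul, coeff_X_pow, if_neg, mul_zero]
      exact fun h => hj (ZMod.val_injective p h.symm)
    · simp
  obtain ⟨Q, hQ⟩ := hdvd
  have hdegP : P.natDegree ≤ p - 1 := natDegree_sum_le_of_forall_le _ _ fun i _ =>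
    (natDegree_C_mul_X_pow_le _ _).trans (by have := ZMod.val_lt i; omega)
  have hQd : Q.natDegree = 0 := by
    by_cases hQ0 : Q = 0
    · simp [hQ0]
    · have := natDegree_mul (cyclotomic_ne_zero p ℚ) hQ0
      rw [← hQ, natDegree_cyclotomic, Nat.totient_prime hp.out] at this
      omega
  intro i
  have key : ∀ j : ZMod p, c j = Q.coeff 0 := fun j => by
    rw [← hcoeff, hQ, eq_C_of_natDegree_eq_zero hQd, cyclotomic_prime, coeff_mul_C,
      finsetSum_coeff, Finset.sum_eq_single j.val]
    · simp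
    · intro n _ hn
      rw [coeff_X_pow, if_neg (Ne.symm hn)]
    · intro h
      exact absurd (Finset.mem_range.2 (ZMod.val_lt j)) h
  rw [key, key]

/-- The main lemma: `A` is the circulant of `D`. -/
theorem singleton_or_compl {L : Type*} [Field L] [CharZero L] [IsCyclotomicExtension {p} ℚ L]
    {ζ : L} (hζ : IsPrimitiveRoot ζ p) (hp2 : p ≠ 2) (D : Finset (ZMod p))
    (hne : D.Nonempty) (huniv : D ≠ Finset.univ) (t : ZMod p)
    (A : Matrix (ZMod p) (ZMod p) L) (hA : ∀ i j, A i j = if j - i ∈ D then 1 else 0)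
    (hconst : ∃ α β : ℤ, ∀ j, (A ^ p) 0 j = (if j = t then (α : L) else 0) + β) :
    ∃ j, D = {j} ∨ D = Finset.univ.erase j := by
  classical
  obtain ⟨α, β, hαβ⟩ := hconst
  have hpp := hp.out
  haveI : FiniteDimensional ℚ L := IsCyclotomicExtension.finiteDimensional {p} ℚ L
  have hirr : Irreducible (cyclotomic p ℚ) := cyclotomic.irreducible_rat hpp.pos
  have hfr : Module.finrank ℚ L = p - 1 := by
    rw [IsCyclotomicExtension.finrank L hirr, Nat.totient_prime hpp]
  set ψ : L := ∑ d ∈ D, ζ ^ d.val with hψ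
  set v : ZMod p → L := fun j => ζ ^ j.val with hv
  have hAv : A.mulVec v = ψ • v := by
    funext i
    simp only [Matrix.mulVec, dotProduct, hA, ite_mul, one_mul, zero_mul, Pi.smul_apply,
      smul_eq_mul, hψ, Finset.sum_mul, hv]
    rw [← Finset.sum_filter]
    refine Finset.sum_nbij' (fun j => j - i) (fun d => d + i) ?_ ?_ ?_ ?_ ?_
    · intro j hj; simpa using hj
    · intro d hd; simpa using hd
    · intro j _; simp
    · intro j _; simp
    · intro j _
      rw [← pow_add]
      exact pow_congr hζ.pow_eq_one (by simp)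
  have hpow : ∀ n : ℕ, (A ^ n).mulVec v = ψ ^ n • v := by
    intro n
    induction n with
    | zero => simp
    | succ n ih =>
      rw [pow_succ, ← Matrix.mulVec_mulVec, hAv, Matrix.mulVec_smul, ih, smul_smul, pow_succ']
  have hgeom : ∑ j : ZMod p, ζ ^ j.val = 0 := by
    have := hζ.geom_sum_eq_zero hpp.one_lt
    rw [← this]
    refine Finset.sum_nbij' (fun j => j.val) (fun n => (n : ZMod p)) ?_ ?_ ?_ ?_ ?_
    · intro j _; simpa using ZMod.val_lt j
    · intro n _; simp
    · intro j _; simp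
    · intro n hn; exact ZMod.val_natCast_of_lt (Finset.mem_range.1 hn)
    · intro j _; rfl
  have hψp : ψ ^ p = (α : L) * ζ ^ t.val := by
    have h := congrFun (hpow p) 0
    simp only [Pi.smul_apply, smul_eq_mul, hv, ZMod.val_zero, pow_zero, mul_one] at h
    rw [← h]
    simp only [Matrix.mulVec, dotProduct, hαβ, add_mul, Finset.sum_add_distrib, ite_mul, zero_mul,
      Finset.sum_ite_eq', Finset.mem_univ, if_true, ← Finset.mul_sum, hgeom, mul_zero, add_zero]
  -- `ψ` is a rational multiple of a root of unity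
  obtain ⟨r, s, hrs⟩ : ∃ (r : ℚ) (s : ℕ), ψ = (r : L) * ζ ^ s := by
    by_cases hψ0 : ψ = 0
    · exact ⟨0, 0, by simp [hψ0]⟩
    have hα : (α : ℚ) ≠ 0 := by
      intro h
      rw [Int.cast_eq_zero] at h
      simp [h, hpp.ne_zero, hψ0] at hψp
    have hN : Algebra.norm ℚ ψ ^ p = (α : ℚ) ^ (p - 1) := by
      rw [← map_pow, hψp, map_mul, map_pow, hζ.norm_eq_one hp2 hirr, one_pow, mul_one,
        show (α : L) = algebraMap ℚ L (α : ℚ) by simp, Algebra.norm_algebraMap, hfr]
    set N : ℚ := Algebra.norm ℚ ψ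
    have hN0 : N ≠ 0 := by
      intro h
      rw [h, zero_pow hpp.ne_zero] at hN
      exact pow_ne_zero _ hα hN.symm
    set r : ℚ := (α : ℚ) / N with hr
    have hr0 : r ≠ 0 := div_ne_zero hα hN0
    have hrp : r ^ p = (α : ℚ) := by
      rw [hr, div_pow, hN, div_eq_iff (pow_ne_zero _ hα), ← pow_succ', Nat.sub_add_cancel hpp.pos]
    refine ⟨r, ?_⟩
    set γ : L := ψ / (r : L)
    have hrL : (r : L) ≠ 0 := by exact_mod_cast hr0
    have hγp : γ ^ p = ζ ^ t.val := by
      rw [div_pow, hψp, ← Rat.cast_pow, hrp, div_eq_iff (by exact_mod_cast hα)]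
      push_cast
      ring
    have hγ2 : γ ^ (p ^ 2) = 1 := by
      rw [pow_two, pow_mul, hγp, ← pow_mul, mul_comm, pow_mul, hζ.pow_eq_one, one_pow]
    by_cases h1 : γ ^ p = 1
    · obtain ⟨i, -, hi⟩ := hζ.eq_pow_of_pow_eq_one h1
      exact ⟨i, by rw [hi, mul_div_cancel₀ _ hrL]⟩
    · exfalso
      have hord : orderOf γ = p ^ 2 :=
        orderOf_eq_prime_pow (by simpa using h1) hγ2
      have hprim : IsPrimitiveRoot γ (p ^ 2) := hord ▸ IsPrimitiveRoot.orderOf γ
      have hdeg := minpoly.natDegree_le (A := ℚ) γ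
      rw [← cyclotomic_eq_minpoly_rat hprim (pow_pos hpp.pos 2), natDegree_cyclotomic,
        Nat.totient_prime_pow hpp two_pos, hfr] at hdeg
      have := hpp.two_le
      have h3 : 2 * (p - 1) ≤ p ^ (2 - 1) * (p - 1) := Nat.mul_le_mul_right _ (by simpa)
      omega
  -- compare coefficients
  refine ⟨(s : ZMod p), ?_⟩
  let c : ZMod p → ℚ := fun i => (if i ∈ D then 1 else 0) - (if i = (s : ZMod p) then r else 0)
  have hc : ∑ i, (c i : L) * ζ ^ i.val = 0 := by
    have h1 : ψ = ∑ i, (if i ∈ D then (1 : L) else 0) * ζ ^ i.val := by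
      simp [hψ, ← Finset.sum_filter, ite_mul, hv]
    have h2 : (r : L) * ζ ^ s = ∑ i, (if i = (s : ZMod p) then (r : L) else 0) * ζ ^ i.val := by
      simp only [ite_mul, zero_mul, Finset.sum_ite_eq', Finset.mem_univ, if_true]
      rw [pow_congr hζ.pow_eq_one (a := (s : ZMod p).val) (b := s) (by simp)]
    calc ∑ i, (c i : L) * ζ ^ i.val
        = ψ - (r : L) * ζ ^ s := by
          rw [h1, h2, ← Finset.sum_sub_distrib]
          refine Finset.sum_congr rfl fun i _ => ?_
          simp only [c]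
          split_ifs <;> simp [sub_mul]
      _ = 0 := sub_eq_zero.2 hrs
  have hall := coeff_const hζ c hc
  have hne' : ∀ i j : ZMod p, i ≠ s → j ≠ s → (i ∈ D ↔ j ∈ D) := by
    intro i j hi hj
    have := (hall i).trans (hall j).symm
    simp only [c, if_neg hi, if_neg hj, sub_zero] at this
    by_cases hiD : i ∈ D <;> by_cases hjD : j ∈ D <;> simp [hiD, hjD] at this ⊢
  obtain ⟨m, hm⟩ : ∃ m : ZMod p, m ≠ s := exists_ne _
  by_cases hmD : m ∈ D
  · right
    have hs : (s : ZMod p) ∉ D := fun h => huniv (Finset.eq_univ_of_forall fun i => by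
      by_cases hi : i = (s : ZMod p)
      · exact hi ▸ h
      · exact (hne' m i hm hi).1 hmD)
    ext i
    simp only [Finset.mem_erase, Finset.mem_univ, and_true]
    exact ⟨fun hi e => hs (e ▸ hi), fun hi => (hne' m i hm hi).1 hmD⟩
  · left
    obtain ⟨d, hd⟩ := hne
    have : ∀ i ∈ D, i = (s : ZMod p) := fun i hi => by
      by_contra h
      exact hmD ((hne' i m h hm).1 hi)
    ext i
    simp only [Finset.mem_singleton]
    exact ⟨this i, fun hi => hi ▸ this d hd ▸ hd⟩

end Cfsg.Agent.PrimeCirculant23
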