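import Mathlib
import Cfsg.Agent.Lib.PermPrimeDegree
import Cfsg.Agent.Lib.PrimeCirculant23

/-!
Doubly transitive groups of degree `p ^ 2 + 1`: an elementary proof that a point stabiliser is
primitive on the remaining points unless `p = 2` and the order is `20`.
-/

set_option autoImplicit false

open MulAction Finset
open scoped Pointwise

namespace Cfsg.Agent.PSquarePlusOne23

/-- A point stabiliser with blocks of size `p`, transported to every point. -/
structure Sys (G Ω : Type*) [Group G] [MulAction G Ω] (p : ℕ) where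
  B : Ω → Ω → Finset Ω
  two : ∀ x y u v : Ω, x ≠ y → u ≠ v → ∃ g : G, g • x = u ∧ g • y = v
  mem : ∀ {x y : Ω}, x ≠ y → y ∈ B x y
  notMem : ∀ {x y : Ω}, x ≠ y → x ∉ B x y
  card : ∀ {x y : Ω}, x ≠ y → (B x y).card = p
  eq_of_mem : ∀ {x y z : Ω}, x ≠ y → z ∈ B x y → B x z = B x y
  map : ∀ (g : G) {x y z : Ω}, x ≠ y → z ∈ B x y → g • z ∈ B (g • x) (g • y)

variable {G Ω : Type*} [Group G] [Finite G] [MulAction G Ω] [Fintype Ω] [DecidableEq Ω]
variable {p : ℕ} [hp : Fact p.Prime]

omit [Finite G] [Fintype Ω] in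
theorem orbit_prime {k : G} {e : ℕ} (hk : k ^ (p ^ e) = 1) {x : Ω} {S : Finset Ω} (hx : x ∈ S)
    (hS : ∀ y ∈ S, k • y ∈ S) (hcard : S.card ≤ p) :
    k • x = x ∨ (S.card = p ∧ k ^ p • x = x ∧ ∀ y ∈ S, ∃ i, k ^ i • x = y) := by
  have hpp := hp.out
  have hd : period k x ∣ p ^ e := pow_smul_eq_iff_period_dvd.1 (by rw [hk, one_smul])
  obtain ⟨j, -, hj⟩ := (Nat.dvd_prime_pow hpp).1 hd
  have hmem : ∀ i : ℕ, k ^ i • x ∈ S := by
    intro i
    induction i with
    | zero => simpa using hx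
    | succ i ih => rw [pow_succ', mul_smul]; exact hS _ ih
  have key : ∀ i i', i ≤ i' → i' < period k x → k ^ i • x = k ^ i' • x → i = i' := by
    intro i i' hle hlt h
    obtain ⟨d, rfl⟩ := Nat.exists_eq_add_of_le hle
    rw [pow_add, mul_smul, smul_left_cancel_iff, eq_comm, pow_smul_eq_iff_period_dvd] at h
    rcases Nat.eq_zero_or_pos d with h0 | h0
    · omega
    · have := Nat.le_of_dvd h0 h; omega
  have hsub : (Finset.range (period k x)).image (fun i => k ^ i • x) ⊆ S := by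
    intro y hy
    obtain ⟨i, -, rfl⟩ := Finset.mem_image.1 hy
    exact hmem i
  have hc : ((Finset.range (period k x)).image fun i => k ^ i • x).card = period k x := by
    rw [Finset.card_image_of_injOn, Finset.card_range]
    intro i hi i' hi' h
    simp only [coe_range, Set.mem_Iio] at hi hi'
    rcases le_total i i' with hle | hle
    · exact key i i' hle hi' h
    · exact (key i' i hle hi h.symm).symm
  have hle : period k x ≤ S.card := hc ▸ Finset.card_le_card hsub
  rcases j with _ | _ | j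
  · left
    have := (pow_smul_eq_iff_period_dvd (m := k) (a := x) (n := 1)).2 (by simp [hj])
    simpa using this
  · right
    rw [zero_add, pow_one] at hj
    have hS' : S.card = p := by omega
    refine ⟨hS', pow_smul_eq_iff_period_dvd.2 (hj ▸ dvd_rfl), fun y hy => ?_⟩
    have := Finset.eq_of_subset_of_card_le hsub (by omega)
    rw [← this] at hy
    obtain ⟨i, -, hi⟩ := Finset.mem_image.1 hy
    exact ⟨i, hi⟩
  · exfalso
    have : p ^ 2 ≤ p ^ (j + 1 + 1) := Nat.pow_le_pow_right hpp.pos (by omega)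
    have := hpp.two_le
    have : p * 2 ≤ p ^ 2 := by rw [pow_two]; exact Nat.mul_le_mul_left p hpp.two_le
    omega

namespace Sys

variable (S : Sys G Ω p)

omit [Finite G] [Fintype Ω] [DecidableEq Ω] hp in
theorem ne_of_mem {x y z : Ω} (h : x ≠ y) (hz : z ∈ S.B x y) : z ≠ x :=
  fun e => S.notMem h (e ▸ hz)

omit [Finite G] [Fintype Ω] [DecidableEq Ω] hp in
theorem mem_iff {g : G} {x y z : Ω} (h : x ≠ y) :
    g • z ∈ S.B (g • x) (g • y) ↔ z ∈ S.B x y := by
  refine ⟨fun hz => ?_, S.map g h⟩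
  have := S.map g⁻¹ (by simpa using h) hz
  simpa using this

omit [Finite G] [Fintype Ω] [DecidableEq Ω] hp in
theorem mem_fix {g : G} {x y z : Ω} (hxy : x ≠ y) (hgx : g • x = x) :
    g • z ∈ S.B x (g • y) ↔ z ∈ S.B x y := by
  have := S.mem_iff (g := g) (z := z) hxy
  rwa [hgx] at this

omit [Finite G] [Fintype Ω] [DecidableEq Ω] hp in
theorem eq_map {g : G} {x y z : Ω} (hx : g • x = x) (hy : y ≠ x) (hz : z ≠ x)
    (h : S.B x y = S.B x z) : S.B x (g • y) = S.B x (g • z) := by
  have h1 : g • y ∈ S.B x (g • z) := (S.mem_fix hz.symm hx).2 (h ▸ S.mem hy.symm)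
  have hgz : x ≠ g • z := fun e => hz (smul_left_cancel g (e.symm.trans hx.symm))
  exact S.eq_of_mem hgz h1

/-- A line through two points: `x` together with the block of `y` seen from `x`. -/
def L (x y : Ω) : Finset Ω := insert x (S.B x y)

omit [Finite G] [Fintype Ω] hp in
theorem card_L {x y : Ω} (h : x ≠ y) : (S.L x y).card = p + 1 := by
  rw [L, Finset.card_insert_of_notMem (S.notMem h), S.card h]

variable (hn : Fintype.card Ω = p ^ 2 + 1)
include hn

omit [Finite G] [MulAction G Ω] [Group G] S in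
theorem no_lines (L : Ω → Ω → Finset Ω) (hc : ∀ x y, x ≠ y → (L x y).card = p + 1)
    (hx : ∀ x y, x ≠ y → x ∈ L x y) (hy : ∀ x y, x ≠ y → y ∈ L x y)
    (hl : ∀ x y, x ≠ y → ∀ u ∈ L x y, ∀ v ∈ L x y, u ≠ v → L u v = L x y) : False := by
  classical
  set P := (Finset.univ : Finset Ω).offDiag
  have key : ∀ l ∈ P.image (fun e => L e.1 e.2),
      (P.filter fun e => L e.1 e.2 = l).card = (p + 1) * p := by
    intro l hl'
    obtain ⟨⟨x, y⟩, hxy, rfl⟩ := Finset.mem_image.1 hl'
    have hne : x ≠ y := (Finset.mem_offDiag.1 hxy).2.2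
    have : (P.filter fun e => L e.1 e.2 = L x y) = (L x y).offDiag := by
      ext ⟨u, v⟩
      simp only [Finset.mem_filter, Finset.mem_offDiag, P, Finset.mem_univ, true_and]
      exact ⟨fun ⟨huv, he⟩ => ⟨he ▸ hx u v huv, he ▸ hy u v huv, huv⟩,
        fun ⟨hu, hv, huv⟩ => ⟨huv, hl x y hne u hu v hv huv⟩⟩
    rw [this, Finset.offDiag_card, hc x y hne, Nat.mul_succ]
    omega
  have h := Finset.card_eq_sum_card_image (fun e => L e.1 e.2) P
  rw [Finset.sum_congr rfl key, Finset.sum_const, smul_eq_mul, Finset.offDiag_card,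
    Finset.card_univ, hn, Nat.mul_succ, Nat.add_sub_cancel] at h
  have hdvd : p + 1 ∣ (p ^ 2 + 1) * p ^ 2 := by rw [h]; exact (dvd_mul_right _ _).mul_left _
  have hcop : Nat.Coprime (p + 1) (p ^ 2) := by
    apply Nat.Coprime.pow_right
    simp
  have h2 := hcop.dvd_of_dvd_mul_right hdvd
  have h3 : p ^ 2 + 1 = (p + 1) * (p - 1) + 2 := by
    obtain ⟨m, rfl⟩ : ∃ m, p = m + 1 := ⟨p - 1, by have := hp.out.pos; omega⟩
    simp only [Nat.add_sub_cancel]; ring
  rw [h3, Nat.dvd_add_right (dvd_mul_right _ _)] at h2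
  have := Nat.le_of_dvd two_pos h2
  have := hp.out.two_le
  omega

omit [Finite G] in
theorem false_of_symm {b c : Ω} (hbc : b ≠ c) (h : S.L b c = S.L c b) : False := by
  have hsy : ∀ x y, x ≠ y → S.L x y = S.L y x := by
    intro x y hxy
    obtain ⟨g, rfl, rfl⟩ := S.two b c x y hbc hxy
    have key : ∀ u v, u ≠ v → S.L (g • u) (g • v) = (S.L u v).image (g • ·) := by
      intro u v huv
      refine (Finset.eq_of_subset_of_card_le (fun z hz => ?_) ?_).symm
      · obtain ⟨w, hw, rfl⟩ := Finset.mem_image.1 hz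
        rcases Finset.mem_insert.1 hw with hw | hw
        · exact hw ▸ Finset.mem_insert_self _ _
        · exact Finset.mem_insert_of_mem (S.map g huv hw)
      · rw [S.card_L (fun e => huv (smul_left_cancel g e)),
          Finset.card_image_of_injective _ (MulAction.injective g), S.card_L huv]
    rw [key b c hbc, key c b hbc.symm, h]
  refine no_lines hn S.L (fun x y => S.card_L) (fun x y _ => Finset.mem_insert_self _ _)
    (fun x y h => Finset.mem_insert_of_mem (S.mem h)) ?_
  intro x y hxy u hu v hv huv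
  have hB : ∀ w, w ∈ S.B x y → S.L x w = S.L x y := fun w hw => by
    rw [L, L, S.eq_of_mem hxy hw]
  rcases Finset.mem_insert.1 hu with hu | hu <;> rcases Finset.mem_insert.1 hv with hv | hv
  · exact absurd (hu.trans hv.symm) huv
  · rw [hu, hB v hv]
  · rw [hv, hsy u x (S.ne_of_mem hxy hu), hB u hu]
  · have hux : u ≠ x := S.ne_of_mem hxy hu
    have h1 : S.L u x = S.L x y := by rw [hsy u x hux, hB u hu]
    have hv' : v ∈ S.B u x := by
      have : v ∈ S.L u x := h1 ▸ Finset.mem_insert_of_mem hv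
      exact (Finset.mem_insert.1 this).resolve_left huv.symm
    rw [L, S.eq_of_mem hux hv', ← L, h1]

omit [Finite G] in
theorem false_of_subset {a b : Ω} (hab : a ≠ b)
    (h : ∀ c ∈ S.B b a, c ≠ a → c ∈ S.B a b) : False := by
  refine S.false_of_symm hn hab (Finset.eq_of_subset_of_card_le (fun z hz => ?_) ?_).symm
  · rcases Finset.mem_insert.1 hz with e | e
    · rw [e]; exact Finset.mem_insert_of_mem (S.mem hab)
    · by_cases hza : z = a
      · rw [hza]; exact Finset.mem_insert_self _ _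
      · exact Finset.mem_insert_of_mem (h z e hza)
  · rw [S.card_L hab, S.card_L hab.symm]

omit S hp in
theorem card_rest (a : Ω) : ((Finset.univ : Finset Ω).erase a).card = p ^ 2 := by
  rw [Finset.card_erase_of_mem (Finset.mem_univ _), Finset.card_univ, hn, Nat.add_sub_cancel]

/-- The blocks of the stabiliser of `a`. -/
def blocks (a : Ω) : Finset (Finset Ω) := ((Finset.univ : Finset Ω).erase a).image (S.B a)

omit [Finite G] in
theorem card_blocks (a : Ω) : (S.blocks a).card = p := by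
  have key : ∀ l ∈ S.blocks a, (((Finset.univ : Finset Ω).erase a).filter
      fun y => S.B a y = l).card = p := by
    intro l hl
    obtain ⟨y, hy, rfl⟩ := Finset.mem_image.1 hl
    have hy' : a ≠ y := (Finset.mem_erase.1 hy).1.symm
    refine Eq.trans ?_ (S.card hy')
    congr 1
    ext z
    simp only [Finset.mem_filter, Finset.mem_erase, Finset.mem_univ, and_true]
    exact ⟨fun ⟨hz, e⟩ => e ▸ S.mem (Ne.symm hz),
      fun hz => ⟨S.ne_of_mem hy' hz, S.eq_of_mem hy' hz⟩⟩
  have h := Finset.card_eq_sum_card_image (S.B a) ((Finset.univ : Finset Ω).erase a)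
  change _ = ∑ l ∈ S.blocks a, _ at h
  rw [Finset.sum_congr rfl key, Finset.sum_const, smul_eq_mul, card_rest hn, pow_two] at h
  exact (Nat.eq_of_mul_eq_mul_right hp.out.pos h).symm

omit [Finite G] in
theorem card_le_of_injOn {a : Ω} (F : Finset Ω) (hF : ∀ z ∈ F, z ≠ a)
    (h : ∀ y ∈ F, ∀ z ∈ F, S.B a y = S.B a z → y = z) : F.card ≤ p := by
  rw [← S.card_blocks hn a]
  refine Finset.card_le_card_of_injOn (S.B a) (fun z hz => ?_) (fun y hy z hz e => h y hy z hz e)
  exact Finset.mem_image_of_mem _ (Finset.mem_erase.2 ⟨hF z hz, Finset.mem_univ _⟩)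

include S in
omit [Finite G] in
theorem class_card {β : Type*} {a b : Ω} (hb : b ≠ a) (f : Ω → β)
    (hinv : ∀ g : G, g • a = a → ∀ y z, y ≠ a → z ≠ a → f y = f z → f (g • y) = f (g • z))
    (F : Finset Ω) (hF : ∀ z, z ∈ F ↔ z ≠ a ∧ f z = f b) : F.card ∣ p ^ 2 := by
  classical
  let c : Ω → Finset Ω := fun y => ((Finset.univ : Finset Ω).erase a).filter fun z => f z = f y
  have hmono : ∀ g : G, g • a = a → ∀ y, y ≠ a → (c y).card ≤ (c (g • y)).card := by
    intro g hg y hy
    refine Finset.card_le_card_of_injOn (g • ·) (fun z hz => ?_)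
      (MulAction.injective g).injOn
    simp only [c, Finset.coe_filter, Finset.mem_erase, Finset.mem_univ, and_true,
      Set.mem_ofPred_eq] at hz ⊢
    exact ⟨fun e => hz.1 (smul_left_cancel g (e.trans hg.symm)), hinv g hg z y hz.1 hy hz.2⟩
  have hall : ∀ y, y ≠ a → (c y).card = F.card := by
    intro y hy
    have hFc : F = c b := by ext z; simp [c, hF]
    obtain ⟨g, hga, hgb⟩ := S.two a b a y hb.symm hy.symm
    refine le_antisymm ?_ ?_
    · have := hmono g⁻¹ (inv_smul_eq_iff.2 hga.symm) y hy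
      rwa [inv_smul_eq_iff.2 hgb.symm, ← hFc] at this
    · have := hmono g hga b hb
      rwa [hgb, ← hFc] at this
  have h := Finset.card_eq_sum_card_image f ((Finset.univ : Finset Ω).erase a)
  rw [Finset.sum_congr rfl (fun v hv => ?_), Finset.sum_const, smul_eq_mul, card_rest hn] at h
  · exact Dvd.intro_left _ h.symm
  · obtain ⟨y, hy, rfl⟩ := Finset.mem_image.1 hv
    exact hall y (Finset.mem_erase.1 hy).1

omit [Finite G] in
theorem class_eq_block {β : Type*} {a b : Ω} (hb : b ≠ a) (f : Ω → β)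
    (hinv : ∀ g : G, g • a = a → ∀ y z, y ≠ a → z ≠ a → f y = f z → f (g • y) = f (g • z))
    (hblock : ∀ z ∈ S.B a b, f z = f b) (hne : ∃ c, c ≠ a ∧ f c ≠ f b) :
    ∀ z, z ≠ a → f z = f b → z ∈ S.B a b := by
  classical
  set F := ((Finset.univ : Finset Ω).erase a).filter fun z => f z = f b with hF
  have h := S.class_card hn hb f hinv F (fun z => by simp [F])
  have hsub : S.B a b ⊆ F := fun z hz => by
    simp [F, S.ne_of_mem hb.symm hz, hblock z hz]
  obtain ⟨c, hca, hc⟩ := hne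
  have hlt : F.card < p ^ 2 := by
    rw [← card_rest hn a]
    exact Finset.card_lt_card (Finset.ssubset_iff_of_subset (Finset.filter_subset _ _) |>.2
      ⟨c, by simp [hca], by simp [F, hc]⟩)
  obtain ⟨i, hi, hi'⟩ := (Nat.dvd_prime_pow hp.out).1 h
  have hFle : F.card ≤ (S.B a b).card := by
    rw [S.card hb.symm]
    interval_cases i
    · rw [hi', pow_zero]; exact hp.out.pos
    · rw [hi', pow_one]
    · omega
  intro z hza hz
  rw [Finset.eq_of_subset_of_card_le hsub hFle]
  simp [F, hza, hz]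

omit [Finite G] in
theorem class_card_eq {β : Type*} {a b c : Ω} (hb : b ≠ a) (f : Ω → β)
    (hinv : ∀ g : G, g • a = a → ∀ y z, y ≠ a → z ≠ a → f y = f z → f (g • y) = f (g • z))
    (F : Finset Ω) (hF : ∀ z, z ∈ F ↔ z ≠ a ∧ f z = f b) (hc : c ∈ F) (hcb : c ≠ b)
    (hinj : ∀ y ∈ F, ∀ z ∈ F, S.B a y = S.B a z → y = z) : F.card = p := by
  have h := S.class_card hn hb f hinv F hF
  have hle := S.card_le_of_injOn hn F (fun z hz => ((hF z).1 hz).1) hinj
  have h2 : 1 < F.card := Finset.one_lt_card.2 ⟨c, hc, b, (hF b).2 ⟨hb, rfl⟩, hcb⟩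
  obtain ⟨i, hi, hi'⟩ := (Nat.dvd_prime_pow hp.out).1 h
  interval_cases i
  · rw [hi', pow_zero] at h2; omega
  · rw [hi', pow_one]
  · have : p * 2 ≤ p ^ 2 := by rw [pow_two]; exact Nat.mul_le_mul_left p hp.out.two_le
    have := hp.out.pos
    omega

omit hn

/-- A family of subsets of `G` transported by conjugation. -/
def ConjFam (a : Ω) (f : Ω → Set G) : Prop :=
  ∀ g : G, g • a = a → ∀ y h, h ∈ f (g • y) ↔ g⁻¹ * h * g ∈ f y

omit [Finite G] [Fintype Ω] [DecidableEq Ω] hp in
theorem ConjFam.inv {a : Ω} {f : Ω → Set G} (hf : ConjFam a f) :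
    ∀ g : G, g • a = a → ∀ y z, y ≠ a → z ≠ a → f y = f z → f (g • y) = f (g • z) := by
  intro g hg y z _ _ h
  ext k
  rw [hf g hg, hf g hg, h]

omit [Fintype Ω] [DecidableEq Ω] hp in
theorem ConjFam.eq {a y z : Ω} {f : Ω → Set G} (hf : ConjFam a f) (S : Sys G Ω p) (hy : y ≠ a)
    (hz : z ≠ a) (h : f y ⊆ f z) : f y = f z := by
  obtain ⟨g, hga, hgy⟩ := S.two a y a z hy.symm hz.symm
  have hfz : f z = (fun k => g * k * g⁻¹) '' f y := by
    ext k
    constructor
    · intro hk
      rw [← hgy, hf g hga] at hk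
      exact ⟨_, hk, by group⟩
    · rintro ⟨k, hk, rfl⟩
      rw [← hgy, hf g hga]
      convert hk using 1
      group
  refine Set.eq_of_subset_of_ncard_le h ?_ (Set.toFinite _)
  rw [hfz, Set.ncard_image_of_injective _ (fun k k' e => by simpa using e)]

omit [Finite G] [Fintype Ω] [DecidableEq Ω] hp in
theorem conj_smul_eq {g h : G} {y : Ω} : (g⁻¹ * h * g) • y = y ↔ h • (g • y) = g • y := by
  rw [mul_smul, mul_smul, inv_smul_eq_iff]

omit [Finite G] [Fintype Ω] [DecidableEq Ω] hp in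
theorem conj_smul_fix {g h : G} {a : Ω} (hg : g • a = a) :
    (g⁻¹ * h * g) • a = a ↔ h • a = a := by
  rw [conj_smul_eq, hg]

omit [Finite G] [Fintype Ω] [DecidableEq Ω] hp in
theorem conj_pow_eq_one {g h : G} {r : ℕ} : (g⁻¹ * h * g) ^ r = 1 ↔ h ^ r = 1 := by
  have : g⁻¹ * h * g = g⁻¹ * h * (g⁻¹)⁻¹ := by rw [inv_inv]
  rw [this, conj_pow, mul_inv_eq_one, mul_eq_left]

/-- The kernel of the action of the stabiliser of `a` on its blocks. -/
def K (a : Ω) : Subgroup G where
  carrier := {g | g • a = a ∧ ∀ y, y ≠ a → g • y ∈ S.B a y}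
  one_mem' := ⟨one_smul _ _, fun y hy => by simpa using S.mem hy.symm⟩
  mul_mem' := by
    rintro g h ⟨hga, hg⟩ ⟨hha, hh⟩
    refine ⟨by rw [mul_smul, hha, hga], fun y hy => ?_⟩
    have hy' : h • y ≠ a := S.ne_of_mem hy.symm (hh y hy)
    rw [mul_smul, ← S.eq_of_mem hy.symm (hh y hy)]
    exact hg _ hy'
  inv_mem' := by
    rintro g ⟨hga, hg⟩
    refine ⟨inv_smul_eq_iff.2 hga.symm, fun y hy => ?_⟩
    have hz : g⁻¹ • y ≠ a := fun e => hy (by rw [← smul_inv_smul g y, e, hga])
    have := hg _ hz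
    rw [smul_inv_smul] at this
    rw [S.eq_of_mem hz.symm this]
    exact S.mem hz.symm

omit [Finite G] [Fintype Ω] [DecidableEq Ω] hp in
theorem mem_K {a : Ω} {g : G} :
    g ∈ S.K a ↔ g • a = a ∧ ∀ y, y ≠ a → g • y ∈ S.B a y := Iff.rfl

omit [Finite G] [Fintype Ω] [DecidableEq Ω] hp in
theorem K_maps {a y z : Ω} {k : G} (hk : k ∈ S.K a) (hy : y ≠ a) (hz : z ∈ S.B a y) :
    k • z ∈ S.B a y :=
  S.eq_of_mem hy.symm hz ▸ hk.2 z (S.ne_of_mem hy.symm hz)

omit [Finite G] [Fintype Ω] [DecidableEq Ω] hp in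
theorem conj_K {a : Ω} {g k : G} (hg : g • a = a) :
    g⁻¹ * k * g ∈ S.K a ↔ k ∈ S.K a := by
  have key : ∀ g k : G, g • a = a → k ∈ S.K a → g⁻¹ * k * g ∈ S.K a := by
    intro g k hg hk
    refine ⟨(conj_smul_fix hg).2 hk.1, fun y hy => ?_⟩
    have hgy : g • y ≠ a := fun e => hy (smul_left_cancel g (e.trans hg.symm))
    have h1 : g • ((g⁻¹ * k * g) • y) ∈ S.B a (g • y) := by
      rw [mul_smul, mul_smul, smul_inv_smul]
      exact hk.2 _ hgy
    exact (S.mem_fix hy.symm hg).1 h1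
  refine ⟨fun h => ?_, key g k hg⟩
  have := key g⁻¹ _ (inv_smul_eq_iff.2 hg.symm) h
  rwa [show (g⁻¹)⁻¹ * (g⁻¹ * k * g) * g⁻¹ = k by group] at this

omit [Finite G] [Fintype Ω] [DecidableEq Ω] hp in
theorem fix_maps {a b z : Ω} {g : G} (hab : a ≠ b) (ha : g • a = a) (hb : g • b = b)
    (hz : z ∈ S.B a b) : g • z ∈ S.B a b := by
  have := S.map g hab hz
  rwa [ha, hb] at this

include hn

/-- No point set of size `p + 1` fixed by a two-point stabiliser part. -/
theorem false_of_fixed {a b φ : Ω} (hab : a ≠ b) (r : ℕ) (hφa : φ ≠ a) (hφb : φ ≠ b)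
    (h3 : ∀ h : G, h • a = a → h • b = b → h ^ r = 1 → h • φ = φ)
    (hinj : ∀ y z, y ≠ a → z ≠ a →
      (∀ h : G, h • a = a → h • b = b → h ^ r = 1 → h • y = y ∧ h • z = z) →
      S.B a y = S.B a z → y = z) : False := by
  classical
  let T : Ω → Ω → Set G := fun x y => {h | h • x = x ∧ h • y = y ∧ h ^ r = 1}
  have hT : ∀ (g : G) x y h, h ∈ T (g • x) (g • y) ↔ g⁻¹ * h * g ∈ T x y := by
    intro g x y h
    simp only [T, Set.mem_ofPred_eq, conj_smul_eq, conj_pow_eq_one]
  have hcf : ConjFam a (T a) := fun g hg y h => by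
    have := hT g a y h
    rwa [hg] at this
  let F : Ω → Ω → Finset Ω := fun x y => Finset.univ.filter fun z => ∀ h ∈ T x y, h • z = z
  have hFmap : ∀ (g : G) x y z, g • z ∈ F (g • x) (g • y) ↔ z ∈ F x y := by
    intro g x y z
    simp only [F, Finset.mem_filter, Finset.mem_univ, true_and]
    constructor
    · intro h k hk
      have := h (g * k * g⁻¹) ((hT g x y _).2 (by convert hk using 1; group))
      rw [mul_smul, mul_smul, inv_smul_smul] at this
      exact smul_left_cancel g this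
    · intro h k hk
      have := h _ ((hT g x y k).1 hk)
      rwa [conj_smul_eq] at this
  have hcls : ∀ z, z ∈ (F a b).erase a ↔ z ≠ a ∧ T a z = T a b := by
    intro z
    simp only [F, Finset.mem_erase, Finset.mem_filter, Finset.mem_univ, true_and]
    refine ⟨fun ⟨hza, hz⟩ => ⟨hza, (hcf.eq S hab.symm hza fun h hh => ?_).symm⟩,
      fun ⟨hza, hz⟩ => ⟨hza, fun h hh => ?_⟩⟩
    · exact ⟨hh.1, hz h hh, hh.2.2⟩
    · rw [← hz] at hh; exact hh.2.1
  have hcard : ((F a b).erase a).card = p := by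
    refine S.class_card_eq hn hab.symm (T a) hcf.inv _ hcls (c := φ) ?_ hφb ?_
    · exact Finset.mem_erase.2 ⟨hφa, Finset.mem_filter.2 ⟨Finset.mem_univ _,
        fun h hh => h3 h hh.1 hh.2.1 hh.2.2⟩⟩
    · intro y hy z hz e
      have hy' := Finset.mem_filter.1 (Finset.mem_erase.1 hy).2
      have hz' := Finset.mem_filter.1 (Finset.mem_erase.1 hz).2
      exact hinj y z (Finset.mem_erase.1 hy).1 (Finset.mem_erase.1 hz).1
        (fun h h1 h2 h3 => ⟨hy'.2 h ⟨h1, h2, h3⟩, hz'.2 h ⟨h1, h2, h3⟩⟩) e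
  have haF : a ∈ F a b := Finset.mem_filter.2 ⟨Finset.mem_univ _, fun h hh => hh.1⟩
  have hcardab : (F a b).card = p + 1 := by
    rw [← Finset.card_erase_add_one haF, hcard]
  refine no_lines hn F (fun x y hxy => ?_) (fun x y _ => ?_) (fun x y _ => ?_)
    (fun x y hxy u hu v hv huv => ?_)
  · obtain ⟨g, rfl, rfl⟩ := S.two a b x y hab hxy
    have : F (g • a) (g • b) = (F a b).image (g • ·) := by
      ext z
      rw [Finset.mem_image]
      refine ⟨fun hz => ⟨g⁻¹ • z, ?_, smul_inv_smul g z⟩, ?_⟩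
      · rwa [← hFmap g, smul_inv_smul]
      · rintro ⟨w, hw, rfl⟩
        exact (hFmap g a b w).2 hw
    rw [this, Finset.card_image_of_injective _ (MulAction.injective g), hcardab]
  · exact Finset.mem_filter.2 ⟨Finset.mem_univ _, fun h hh => hh.1⟩
  · exact Finset.mem_filter.2 ⟨Finset.mem_univ _, fun h hh => hh.2.1⟩
  · simp only [F, Finset.mem_filter, Finset.mem_univ, true_and] at hu hv
    have hsub : T x y ⊆ T u v := fun h hh => ⟨hu h hh, hv h hh, hh.2.2⟩
    obtain ⟨g, hgx, hgy⟩ := S.two x y u v hxy huv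
    have heq : T x y = T u v := by
      refine Set.eq_of_subset_of_ncard_le hsub ?_ (Set.toFinite _)
      refine Set.ncard_le_ncard_of_injOn (fun k => g⁻¹ * k * g) (fun k hk => ?_)
        (fun k _ k' _ e => by simpa using e) (Set.toFinite _)
      rw [← hgx, ← hgy] at hk
      exact (hT g x y k).1 hk
    simp only [F, heq]

/-- Two heads: the fixed points of the stabiliser of `b` in `K` give a contradiction. -/
theorem false_of_class {a b : Ω} (hab : a ≠ b)
    (hX : ∀ c ∈ S.B b a, c ≠ a → ∀ k ∈ S.K a, k • b = b → k • c = c)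
    (hinj : ∀ y z, y ≠ a → z ≠ a →
      (∀ k ∈ S.K a, k • b = b → k • y = y ∧ k • z = z) → S.B a y = S.B a z → y = z) :
    False := by
  classical
  let f : Ω → Set G := fun y => {k | k ∈ S.K a ∧ k • y = y}
  have hf : ConjFam a f := fun g hg y h => by
    simp only [f, Set.mem_ofPred_eq, S.conj_K hg, conj_smul_eq]
  set Φ := (Finset.univ : Finset Ω).filter fun z => z ≠ a ∧ ∀ k ∈ f b, k • z = z with hΦ
  set W := insert b ((S.B b a).erase a) with hW
  have hWcard : W.card = p := by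
    rw [hW, Finset.card_insert_of_notMem (fun h => S.notMem hab.symm (Finset.mem_erase.1 h).2),
      Finset.card_erase_of_mem (S.mem hab.symm), S.card hab.symm, Nat.sub_add_cancel hp.out.pos]
  have hWΦ : W ⊆ Φ := by
    intro z hz
    simp only [Φ, Finset.mem_filter, Finset.mem_univ, true_and]
    rcases Finset.mem_insert.1 hz with rfl | hz
    · exact ⟨hab.symm, fun k hk => hk.2⟩
    · obtain ⟨hza, hz⟩ := Finset.mem_erase.1 hz
      exact ⟨hza, fun k hk => hX z hz hza k hk.1 hk.2⟩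
  have hΦcard : Φ.card ≤ p := by
    refine S.card_le_of_injOn hn Φ (fun z hz => (Finset.mem_filter.1 hz).2.1) fun y hy z hz e => ?_
    simp only [Φ, Finset.mem_filter, Finset.mem_univ, true_and] at hy hz
    exact hinj y z hy.1 hz.1 (fun k hk hkb => ⟨hy.2 k ⟨hk, hkb⟩, hz.2 k ⟨hk, hkb⟩⟩) e
  have hWeq : W = Φ := Finset.eq_of_subset_of_card_le hWΦ (hWcard ▸ hΦcard)
  obtain ⟨c, hc⟩ : ((S.B b a).erase a).Nonempty := by
    rw [← Finset.card_pos, Finset.card_erase_of_mem (S.mem hab.symm), S.card hab.symm]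
    have := hp.out.two_le
    omega
  obtain ⟨hca, hcB⟩ := Finset.mem_erase.1 hc
  have hcb : c ≠ b := S.ne_of_mem hab.symm hcB
  have hbc : f b = f c :=
    hf.eq S hab.symm hca fun k hk => ⟨hk.1, hX c hcB hca k hk.1 hk.2⟩
  obtain ⟨g, hga, hgb⟩ := S.two a b a c hab hca.symm
  have hsub : S.L c a ⊆ S.L b a := by
    intro z hz
    rcases Finset.mem_insert.1 hz with rfl | hz
    · exact Finset.mem_insert_of_mem hcB
    by_cases hza : z = a
    · rw [hza]; exact Finset.mem_insert_of_mem (S.mem hab.symm)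
    have hz' : g⁻¹ • z ∈ S.B b a := by
      rw [← S.mem_iff (g := g) hab.symm, smul_inv_smul, hga, hgb]
      exact hz
    have hz'a : g⁻¹ • z ≠ a := fun e => hza (by rw [← smul_inv_smul g z, e, hga])
    have hzΦ : z ∈ Φ := by
      refine Finset.mem_filter.2 ⟨Finset.mem_univ _, hza, fun k hk => ?_⟩
      rw [hbc, ← hgb, hf g hga] at hk
      have := hX _ hz' hz'a _ hk.1 hk.2
      rwa [conj_smul_eq, smul_inv_smul] at this
    rw [← hWeq] at hzΦ
    rcases Finset.mem_insert.1 hzΦ with rfl | hzW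
    · exact Finset.mem_insert_self _ _
    · exact Finset.mem_insert_of_mem (Finset.mem_erase.1 hzW).2
  have heq := Finset.eq_of_subset_of_card_le hsub (by rw [S.card_L hab.symm, S.card_L hca])
  have hbB : b ∈ S.B c a := by
    have : b ∈ S.L c a := heq ▸ Finset.mem_insert_self _ _
    exact (Finset.mem_insert.1 this).resolve_left hcb.symm
  refine S.false_of_symm hn hcb.symm ?_
  rw [L, L, S.eq_of_mem hab.symm hcB, S.eq_of_mem hca hbB]
  exact heq.symm

variable [FaithfulSMul G Ω]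

/-- No element of order `p` of the kernel fixes a point other than `a`. -/
theorem no_pfix {a b : Ω} (hb : b ≠ a) {k : G} (hk : k ∈ S.K a) (hkp : k ^ p = 1)
    (hkb : k • b = b) : k = 1 := by
  classical
  by_contra hk1
  let f : Ω → Set G := fun y => {j | j ∈ S.K a ∧ j ^ p = 1 ∧ j • y = y}
  have hf : ConjFam a f := fun g hg y h => by
    simp only [f, Set.mem_ofPred_eq, S.conj_K hg, conj_pow_eq_one, conj_smul_eq]
  have hblk : ∀ z ∈ S.B a b, ∀ j ∈ f b, j • z = z := by
    intro z hz j hj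
    rcases orbit_prime (e := 1) (by rw [pow_one]; exact hj.2.1) hz
      (fun y hy => S.K_maps hj.1 hb hy) (S.card hb.symm).le with h | ⟨-, -, h⟩
    · exact h
    · obtain ⟨i, hi⟩ := h b (S.mem hb.symm)
      have hib : j ^ i • b = b := by
        clear hi
        induction i with
        | zero => simp
        | succ i ih => rw [pow_succ, mul_smul, hj.2.2, ih]
      rw [smul_left_cancel (j ^ i) (hi.trans hib.symm)]
      exact hj.2.2
  have hcls := S.class_eq_block hn hb f hf.inv
    (fun z hz => (hf.eq S hb (S.ne_of_mem hb.symm hz)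
      fun j hj => ⟨hj.1, hj.2.1, hblk z hz j hj⟩).symm) (by
    by_contra h
    push Not at h
    refine hk1 (eq_of_smul_eq_smul (α := Ω) fun c => ?_)
    rw [one_smul]
    by_cases hca : c = a
    · rw [hca]; exact hk.1
    · have : k ∈ f c := by rw [h c hca]; exact ⟨hk, hkp, hkb⟩
      exact this.2.2)
  refine S.false_of_subset hn hb.symm fun c hc hca => hcls c hca ?_
  refine (hf.eq S hb hca fun j hj => ⟨hj.1, hj.2.1, ?_⟩).symm
  have hSinv : ∀ y ∈ (S.B b a).erase a, j • y ∈ (S.B b a).erase a := by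
    intro y hy
    obtain ⟨hya, hy⟩ := Finset.mem_erase.1 hy
    exact Finset.mem_erase.2 ⟨fun e => hya (smul_left_cancel j (e.trans hj.1.1.symm)),
      S.fix_maps hb hj.2.2 hj.1.1 hy⟩
  rcases orbit_prime (e := 1) (by rw [pow_one]; exact hj.2.1)
    (Finset.mem_erase.2 ⟨hca, hc⟩) hSinv
    ((Finset.card_le_card (Finset.erase_subset _ _)).trans (S.card hb).le) with h | ⟨h, -, -⟩
  · exact h
  · rw [Finset.card_erase_of_mem (S.mem hb), S.card hb] at h
    have := hp.out.pos
    omega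

omit [FaithfulSMul G Ω] hn [Finite G] in
theorem block_smul {a y : Ω} {g : G} (hy : y ≠ a) (hg : g • a = a) :
    g • S.B a y = S.B a (g • y) := by
  have hgy : g • y ≠ a := fun e => hy (smul_left_cancel g (e.trans hg.symm))
  refine Finset.eq_of_subset_of_card_le (fun z hz => ?_) ?_
  · obtain ⟨w, hw, rfl⟩ := Finset.mem_smul_finset.1 hz
    exact (S.mem_fix hy.symm hg).2 hw
  · rw [Finset.card_smul_finset, S.card hy.symm, S.card hgy.symm]

omit [FaithfulSMul G Ω] hn [Finite G] in
theorem smul_mem_blocks {a : Ω} {g : G} (hg : g • a = a) {l : Finset Ω} (hl : l ∈ S.blocks a) :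
    g • l ∈ S.blocks a := by
  obtain ⟨y, hy, rfl⟩ := Finset.mem_image.1 hl
  have hy' := (Finset.mem_erase.1 hy).1
  rw [S.block_smul hy' hg]
  exact Finset.mem_image_of_mem _ (Finset.mem_erase.2
    ⟨fun e => hy' (smul_left_cancel g (e.trans hg.symm)), Finset.mem_univ _⟩)

omit [FaithfulSMul G Ω] [DecidableEq Ω] in
include S in
theorem orbit_stabilizer_eq {a b : Ω} (hb : b ≠ a) :
    (stabilizer (stabilizer G a) b).index = p ^ 2 := by
  classical
  rw [index_stabilizer, show orbit (stabilizer G a) b = ↑((Finset.univ : Finset Ω).erase a) from ?_,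
    Set.ncard_coe_finset, card_rest hn]
  ext z
  simp only [Finset.coe_erase, Finset.coe_univ, Set.mem_sdiff, Set.mem_univ, true_and,
    Set.mem_singleton_iff]
  constructor
  · rintro ⟨⟨g, hg⟩, rfl⟩
    exact fun e => hb (smul_left_cancel g ((e : g • b = a).trans (mem_stabilizer_iff.1 hg).symm))
  · intro hz
    obtain ⟨g, hga, hgb⟩ := S.two a b a z hb.symm (Ne.symm hz)
    exact ⟨⟨g, hga⟩, hgb⟩

theorem exists_q {a b : Ω} (hb : b ≠ a) : ∃ q ∈ S.K a, q ^ p = 1 ∧ q ≠ 1 := by
  classical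
  have hpp := hp.out
  let T := {l // l ∈ S.blocks a}
  letI : MulAction (stabilizer G a) T :=
    { smul := fun g l => ⟨(g : G) • l.1, S.smul_mem_blocks g.2 l.2⟩
      one_smul := fun l => Subtype.ext (one_smul G l.1)
      mul_smul := fun g h l => Subtype.ext (mul_smul (g : G) h l.1) }
  let φ := MulAction.toPermHom (stabilizer G a) T
  have hcard : Nat.card (stabilizer G a) = Nat.card φ.range * Nat.card φ.ker := by
    rw [Subgroup.card_eq_card_quotient_mul_card_subgroup φ.ker,
      Nat.card_congr (QuotientGroup.quotientKerEquivRange φ).toEquiv]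
  have hdvd : p ^ 2 ∣ Nat.card φ.range * Nat.card φ.ker := by
    rw [← hcard, ← S.orbit_stabilizer_eq hn hb]
    exact Subgroup.index_dvd_card _
  have hker : p ∣ Nat.card φ.ker := by
    by_contra h
    have h1 := Nat.Coprime.dvd_of_dvd_mul_right
      (Nat.Coprime.pow_left 2 (hpp.coprime_iff_not_dvd.2 h)) hdvd
    have h2 := h1.trans (Subgroup.card_subgroup_dvd_card φ.range)
    rw [Nat.card_perm, Nat.card_eq_fintype_card, Fintype.card_coe, S.card_blocks hn,
      ← Nat.mul_factorial_pred hpp.ne_zero, pow_two] at h2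
    have := (hpp.dvd_factorial).1 (Nat.dvd_of_mul_dvd_mul_left hpp.pos h2)
    have := hpp.pos
    omega
  obtain ⟨⟨⟨q, hqa⟩, hqker⟩, hq⟩ := exists_prime_orderOf_dvd_card' p hker
  rw [← Subgroup.orderOf_coe, ← Subgroup.orderOf_coe] at hq
  change orderOf q = p at hq
  refine ⟨q, ⟨hqa, fun y hy => ?_⟩, ?_, ?_⟩
  · have hmem : S.B a y ∈ S.blocks a :=
      Finset.mem_image_of_mem _ (Finset.mem_erase.2 ⟨hy, Finset.mem_univ _⟩)
    have h : q • S.B a y = S.B a y :=
      congrArg Subtype.val (Equiv.Perm.ext_iff.1 (MonoidHom.mem_ker.1 hqker) ⟨_, hmem⟩)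
    rw [← h]
    exact Finset.smul_mem_smul_finset (S.mem hy.symm)
  · rw [← hq]; exact pow_orderOf_eq_one q
  · intro h
    rw [h, orderOf_one] at hq
    exact hpp.one_lt.ne hq

section WithQ

variable {a : Ω} {q : G} (hqK : q ∈ S.K a) (hqp : q ^ p = 1) (hq1 : q ≠ 1)
include hqK hqp hq1

theorem q_eq_of_smul {y : Ω} (hy : y ≠ a) {i j : ℕ} (h : q ^ i • y = q ^ j • y) :
    (i : ZMod p) = j := by
  have hu : (q ^ j)⁻¹ * q ^ i ∈ S.K a :=
    mul_mem (inv_mem (pow_mem hqK j)) (pow_mem hqK i)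
  have hup : ((q ^ j)⁻¹ * q ^ i) ^ p = 1 := by
    rw [Commute.mul_pow ((Commute.refl q).pow_pow j i).inv_left, inv_pow, ← pow_mul, ← pow_mul,
      mul_comm j, mul_comm i, pow_mul, pow_mul, hqp, one_pow, one_pow, inv_one, one_mul]
  have := S.no_pfix hn hy hu hup (by rw [mul_smul, h, inv_smul_smul])
  have h2 : q ^ i = q ^ j := inv_mul_eq_one.1 this |>.symm
  rw [pow_eq_pow_iff_modEq, orderOf_eq_prime hqp hq1] at h2
  exact (ZMod.natCast_eq_natCast_iff _ _ _).2 h2

theorem q_cover {y z : Ω} (hy : y ≠ a) (hz : z ∈ S.B a y) : ∃ i, q ^ i • y = z := by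
  rcases orbit_prime (e := 1) (by rw [pow_one]; exact hqp) (S.mem hy.symm)
    (fun w hw => S.K_maps hqK hy hw) (S.card hy.symm).le with h | ⟨-, -, h⟩
  · exact absurd (S.no_pfix hn hy hqK hqp h) hq1
  · exact h z hz

theorem faithful_block {b : Ω} (hb : b ≠ a) {k : G} (hk : k ∈ S.K a)
    (hfix : ∀ z ∈ S.B a b, k • z = z) : k = 1 := by
  classical
  have hpp := hp.out
  let N : Subgroup G := S.K a ⊓ fixingSubgroup G (↑(S.B a b) : Set Ω)
  have hN : ∀ n, n ∈ N ↔ n ∈ S.K a ∧ ∀ z ∈ S.B a b, n • z = z := fun n => by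
    simp only [N, Subgroup.mem_inf, mem_fixingSubgroup_iff, Finset.mem_coe]
  have hpN : ¬p ∣ Nat.card N := by
    intro h
    obtain ⟨⟨n, hn'⟩, hno⟩ := exists_prime_orderOf_dvd_card' p h
    rw [← Subgroup.orderOf_coe] at hno
    change orderOf n = p at hno
    have := S.no_pfix hn hb ((hN n).1 hn').1 (hno ▸ pow_orderOf_eq_one n)
      (((hN n).1 hn').2 b (S.mem hb.symm))
    rw [this, orderOf_one] at hno
    exact hpp.one_lt.ne hno
  refine eq_of_smul_eq_smul (α := Ω) fun y => ?_
  rw [one_smul]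
  by_cases hy : y = a
  · rw [hy]; exact hk.1
  let f : Ω → Set Ω := fun z => orbit N z
  have hsub : ∀ z ∈ S.B a y, f z ⊆ ↑(S.B a y) := by
    rintro z hz w ⟨⟨n, hn'⟩, rfl⟩
    exact S.K_maps ((hN n).1 hn').1 hy hz
  have hsize : ∀ z ∈ S.B a y, (f z).ncard = (f y).ncard := by
    intro z hz
    obtain ⟨i, rfl⟩ := S.q_cover hn hqK hqp hq1 hy hz
    have hconj : ∀ n ∈ N, q ^ i * n * (q ^ i)⁻¹ ∈ N ∧ (q ^ i)⁻¹ * n * q ^ i ∈ N := by
      have key : ∀ u ∈ S.K a, ∀ n ∈ N, u * n * u⁻¹ ∈ N := by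
        intro u hu n hn'
        rw [hN] at hn' ⊢
        refine ⟨mul_mem (mul_mem hu hn'.1) (inv_mem hu), fun w hw => ?_⟩
        rw [mul_smul, mul_smul, hn'.2 _ (S.K_maps (inv_mem hu) hb hw), smul_inv_smul]
      intro n hn'
      refine ⟨key _ (pow_mem hqK i) n hn', ?_⟩
      simpa using key _ (inv_mem (pow_mem hqK i)) n hn'
    have : f (q ^ i • y) = (fun w => q ^ i • w) '' f y := by
      ext w
      constructor
      · rintro ⟨⟨n, hn'⟩, rfl⟩
        refine ⟨((q ^ i)⁻¹ * n * q ^ i) • y, ⟨⟨_, (hconj n hn').2⟩, rfl⟩, ?_⟩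
        change q ^ i • (((q ^ i)⁻¹ * n * q ^ i) • y) = n • (q ^ i • y)
        rw [smul_smul, smul_smul]
        group
      · rintro ⟨w, ⟨⟨n, hn'⟩, rfl⟩, rfl⟩
        refine ⟨⟨_, (hconj n hn').1⟩, ?_⟩
        change (q ^ i * n * (q ^ i)⁻¹) • (q ^ i • y) = q ^ i • (n • y)
        rw [smul_smul, smul_smul]
        group
    rw [this, Set.ncard_image_of_injective _ (MulAction.injective _)]
  have hdvd : (f y).ncard ∣ p := by
    have h := Finset.card_eq_sum_card_image f (S.B a y)
    rw [Finset.sum_congr rfl (g := fun _ => (f y).ncard) (fun v hv => ?_), Finset.sum_const,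
      smul_eq_mul, S.card (Ne.symm hy)] at h
    · exact Dvd.intro_left _ h.symm
    · obtain ⟨z, hz, rfl⟩ := Finset.mem_image.1 hv
      rw [← hsize z hz, ← Set.ncard_coe_finset]
      congr 1
      ext w
      simp only [Finset.coe_filter, Set.mem_ofPred_eq]
      exact ⟨fun ⟨_, hw⟩ => hw ▸ mem_orbit_self w,
        fun hw => ⟨hsub z hz hw, orbit_eq_iff.2 hw⟩⟩
  rcases (Nat.dvd_prime hpp).1 hdvd with h | h
  · obtain ⟨w, hw⟩ := Set.ncard_eq_one.1 h
    have h1 : k • y ∈ f y := ⟨⟨k, (hN k).2 ⟨hk, hfix⟩⟩, rfl⟩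
    have h2 : y ∈ f y := mem_orbit_self y
    rw [hw, Set.mem_singleton_iff] at h1 h2
    rw [h1, ← h2]
  · exact absurd (h ▸ (index_stabilizer N y).symm ▸ Subgroup.index_dvd_card _) hpN

theorem eq_of_eq_on {b : Ω} (hb : b ≠ a) {k k' : G} (hk : k ∈ S.K a) (hk' : k' ∈ S.K a)
    (h : ∀ z ∈ S.B a b, k • z = k' • z) : k = k' := by
  have := S.faithful_block hn hqK hqp hq1 hb (mul_mem (inv_mem hk') hk) fun z hz => by
    rw [mul_smul, h z hz, inv_smul_smul]
  exact (inv_mul_eq_one.1 this).symm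

theorem eq_pow_of_comm {b : Ω} (hb : b ≠ a) {k : G} (hk : k ∈ S.K a) (hc : Commute k q) :
    ∃ i, k = q ^ i := by
  obtain ⟨i, hi⟩ := S.q_cover hn hqK hqp hq1 hb (S.K_maps hk hb (S.mem hb.symm))
  refine ⟨i, S.eq_of_eq_on hn hqK hqp hq1 hb hk (pow_mem hqK i) fun z hz => ?_⟩
  obtain ⟨j, rfl⟩ := S.q_cover hn hqK hqp hq1 hb hz
  rw [smul_smul, (hc.pow_right j).eq, mul_smul, ← hi, smul_smul, smul_smul, ← pow_add, ← pow_add,
    add_comm]

/-- In case A every element of the stabiliser of `a` normalises `⟨q⟩`. -/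
theorem normalizes {b : Ω} (hb : b ≠ a) (hA : ∀ k ∈ S.K a, ∃ m : ℕ, k * q * k⁻¹ = q ^ m)
    {g : G} (hg : g • a = a) : ∃ m : ℕ, g * q * g⁻¹ = q ^ m := by
  set y := g * q * g⁻¹ with hy
  have hyK : y ∈ S.K a := by
    rw [← S.conj_K hg, hy]
    convert hqK using 1
    group
  have hyp : y ^ p = 1 := by rw [hy, conj_pow, hqp, mul_one, mul_inv_cancel]
  obtain ⟨m, hm⟩ := hA y hyK
  have hiter : ∀ j : ℕ, y ^ j * q * (y ^ j)⁻¹ = q ^ (m ^ j) := by
    intro j
    induction j with
    | zero => simp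
    | succ j ih =>
      calc y ^ (j + 1) * q * (y ^ (j + 1))⁻¹ = y * (y ^ j * q * (y ^ j)⁻¹) * y⁻¹ := by
            rw [pow_succ']; group
        _ = q ^ (m ^ (j + 1)) := by
            rw [ih, ← conj_pow, hm, ← pow_mul, ← pow_succ']
  have h1 := hiter p
  rw [hyp, one_mul, inv_one, mul_one] at h1
  have h2 : ((1 : ℕ) : ZMod p) = ((m ^ p : ℕ) : ZMod p) :=
    S.q_eq_of_smul hn hqK hqp hq1 hb (i := 1) (by rw [pow_one, ← h1])
  rw [Nat.cast_pow, ZMod.pow_card] at h2
  have hc : Commute y q := by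
    have : y * q * y⁻¹ = q := by
      rw [hm, PrimeCirculant23.pow_congr hqp (b := 1) h2.symm, pow_one]
    exact mul_inv_eq_iff_eq_mul.1 this
  exact S.eq_pow_of_comm hn hqK hqp hq1 hb hyK hc

theorem comm_of_two (hA : ∀ k ∈ S.K a, ∃ m : ℕ, k * q * k⁻¹ = q ^ m) {g : G} (hg : g • a = a)
    {y z : Ω} (hy : y ≠ a) (hz : z ∈ S.B a y) (hzy : z ≠ y) (hgy : g • y = y) (hgz : g • z = z) :
    Commute g q := by
  obtain ⟨m, hm⟩ := S.normalizes hn hqK hqp hq1 hy hA hg
  obtain ⟨i, rfl⟩ := S.q_cover hn hqK hqp hq1 hy hz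
  have h1 : q ^ (m * i) • y = q ^ i • y := by
    rw [pow_mul, ← hm, conj_pow, mul_smul, mul_smul, inv_smul_eq_iff.2 hgy.symm, hgz]
  have h2 := S.q_eq_of_smul hn hqK hqp hq1 hy h1
  have hi : (i : ZMod p) ≠ 0 := by
    intro h
    exact hzy (by rw [PrimeCirculant23.pow_congr hqp (b := 0) (by simpa using h), pow_zero,
      one_smul])
  rw [Nat.cast_mul, mul_eq_right₀ hi] at h2
  rw [PrimeCirculant23.pow_congr hqp (b := 1) (by simpa using h2), pow_one] at hm
  exact mul_inv_eq_iff_eq_mul.1 hm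

theorem fix_of_comm {g : G} {y z : Ω} (hy : y ≠ a) (hc : Commute g q) (hgy : g • y = y)
    (hz : z ∈ S.B a y) : g • z = z := by
  obtain ⟨i, rfl⟩ := S.q_cover hn hqK hqp hq1 hy hz
  rw [smul_smul, (hc.pow_right i).eq, mul_smul, hgy]

/-- Case A with a nontrivial element of the two-point stabiliser centralising `q`. -/
theorem caseA1 (hA : ∀ k ∈ S.K a, ∃ m : ℕ, k * q * k⁻¹ = q ^ m) {b : Ω} (hab : a ≠ b) {g0 : G}
    (h0a : g0 • a = a) (h0b : g0 • b = b) (h0 : Commute g0 q) (h01 : g0 ≠ 1) : False := by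
  classical
  let f : Ω → Set G := fun y => {g | g • a = a ∧ ∀ z ∈ S.B a y, g • z = z}
  have hmemf : ∀ {y g}, y ≠ a → g • a = a → g • y = y → Commute g q → g ∈ f y :=
    fun hy ha hgy hc => ⟨ha, fun z hz => S.fix_of_comm hn hqK hqp hq1 hy hc hgy hz⟩
  have hcommf : ∀ {y g}, y ≠ a → g ∈ f y → Commute g q := by
    intro y g hy hg
    have hz : q • y ∈ S.B a y := S.K_maps hqK hy (S.mem hy.symm)
    exact S.comm_of_two hn hqK hqp hq1 hA hg.1 hy hz
      (fun e => hq1 (S.no_pfix hn hy hqK hqp e)) (hg.2 y (S.mem hy.symm)) (hg.2 _ hz)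
  have hinv : ∀ g : G, g • a = a → ∀ y z, y ≠ a → z ≠ a → f y = f z → f (g • y) = f (g • z) := by
    intro g hg y z hy hz h
    have key : ∀ (g : G) y, g • a = a → y ≠ a → ∀ k, k ∈ f y → g * k * g⁻¹ ∈ f (g • y) := by
      intro g y hg hy k hk
      refine ⟨by rw [mul_smul, mul_smul, inv_smul_eq_iff.2 hg.symm, hk.1, hg], fun w hw => ?_⟩
      rw [← S.block_smul hy hg] at hw
      obtain ⟨w', hw', rfl⟩ := Finset.mem_smul_finset.1 hw
      rw [mul_smul, mul_smul, inv_smul_smul, hk.2 w' hw']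
    have half : ∀ y z, y ≠ a → z ≠ a → f y = f z → f (g • y) ⊆ f (g • z) := by
      intro y z hy hz h k hk
      have hgy : g • y ≠ a := fun e => hy (smul_left_cancel g (e.trans hg.symm))
      have := key g⁻¹ (g • y) (inv_smul_eq_iff.2 hg.symm) hgy k hk
      rw [inv_smul_smul, h] at this
      have := key g z hg hz _ this
      convert this using 1
      group
    exact Set.Subset.antisymm (half y z hy hz h) (half z y hz hy h.symm)
  have hne : ∃ c, c ≠ a ∧ f c ≠ f b := by
    by_contra h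
    push Not at h
    refine h01 (eq_of_smul_eq_smul (α := Ω) fun c => ?_)
    rw [one_smul]
    by_cases hca : c = a
    · rw [hca]; exact h0a
    · have : g0 ∈ f c := by rw [h c hca]; exact hmemf hab.symm h0a h0b h0
      exact this.2 c (S.mem (Ne.symm hca))
  have hcls := S.class_eq_block hn hab.symm f hinv
    (fun z hz => by simp only [f, S.eq_of_mem hab hz]) hne
  have hfix : ∀ z, z ≠ a → (∀ g ∈ f b, g • z = z) → z ∈ S.B a b := by
    intro z hza hz
    refine hcls z hza ?_
    have hsub : f b ⊆ f z := fun g hg => hmemf hza hg.1 (hz g hg) (hcommf hab.symm hg)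
    obtain ⟨t, hta, htb⟩ := S.two a b a z hab hza.symm
    refine (Set.eq_of_subset_of_ncard_le hsub ?_ (Set.toFinite _)).symm
    refine Set.ncard_le_ncard_of_injOn (fun k => t⁻¹ * k * t) (fun k hk => ?_)
      (fun k _ k' _ e => by simpa using e) (Set.toFinite _)
    refine ⟨(conj_smul_fix hta).2 hk.1, fun w hw => conj_smul_eq.2 ?_⟩
    refine hk.2 _ ?_
    rw [← htb]
    exact (S.mem_fix hab hta).2 hw
  obtain ⟨t, hta, htb⟩ := S.two a b b a hab hab.symm
  -- the transported family fixes the block of `a` seen from `b`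
  have hconjfix : ∀ g ∈ f b, (t * g * t⁻¹) • a = a ∧ (t * g * t⁻¹) • b = b ∧
      ∀ z ∈ S.B b a, (t * g * t⁻¹) • z = z := by
    intro g hg
    have h1 : ∀ w : Ω, g • w = w → (t * g * t⁻¹) • (t • w) = t • w := fun w hw => by
      rw [mul_smul, mul_smul, inv_smul_smul, hw]
    refine ⟨?_, ?_, fun z hz => ?_⟩
    · have := h1 b (hg.2 b (S.mem hab))
      rwa [htb] at this
    · have := h1 a hg.1
      rwa [hta] at this
    have hw : t⁻¹ • z ∈ S.B a b := by
      rw [← S.mem_iff (g := t) hab, smul_inv_smul, hta, htb]; exact hz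
    have := h1 _ (hg.2 _ hw)
    rwa [smul_inv_smul] at this
  by_cases hall : ∀ g ∈ f b, t * g * t⁻¹ ∈ f b
  · refine S.false_of_subset hn hab fun c hc hca => hfix c hca fun g hg => ?_
    have him : (fun k => t * k * t⁻¹) '' f b = f b :=
      Set.eq_of_subset_of_ncard_le (Set.image_subset_iff.2 hall)
        (by rw [Set.ncard_image_of_injective _ (fun k k' e => by simpa using e)]) (Set.toFinite _)
    rw [← him] at hg
    obtain ⟨g', hg', rfl⟩ := hg
    exact (hconjfix g' hg').2.2 c hc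
  push Not at hall
  obtain ⟨g', hg', hng⟩ := hall
  obtain ⟨hga, hgb, hgX⟩ := hconjfix g' hg'
  set g := t * g' * t⁻¹ with hgdef
  have hnc : ¬Commute g q := fun h => hng (hmemf hab.symm hga hgb h)
  have huniq : ∀ y z, y ≠ a → z ≠ a → g • y = y → g • z = z → S.B a y = S.B a z → y = z := by
    intro y z hy hz hgy hgz e
    by_contra hyz
    exact hnc (S.comm_of_two hn hqK hqp hq1 hA hga hy (e ▸ S.mem hz.symm) (Ne.symm hyz) hgy hgz)
  set W := insert b ((S.B b a).erase a) with hW
  have hWfix : ∀ z ∈ W, z ≠ a ∧ g • z = z := by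
    intro z hz
    rcases Finset.mem_insert.1 hz with rfl | hz
    · exact ⟨hab.symm, hgb⟩
    · exact ⟨(Finset.mem_erase.1 hz).1, hgX z (Finset.mem_erase.1 hz).2⟩
  have hWcard : W.card = p := by
    rw [hW, Finset.card_insert_of_notMem (fun h => S.notMem hab.symm (Finset.mem_erase.1 h).2),
      Finset.card_erase_of_mem (S.mem hab.symm), S.card hab.symm, Nat.sub_add_cancel hp.out.pos]
  have hgK : g ∈ S.K a := by
    refine ⟨hga, fun y hy => ?_⟩
    have hsurj : W.image (S.B a) = S.blocks a := by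
      refine Finset.eq_of_subset_of_card_le (fun l hl => ?_) ?_
      · obtain ⟨z, hz, rfl⟩ := Finset.mem_image.1 hl
        exact Finset.mem_image_of_mem _ (Finset.mem_erase.2 ⟨(hWfix z hz).1, Finset.mem_univ _⟩)
      · rw [S.card_blocks hn, Finset.card_image_of_injOn, hWcard]
        intro y hy z hz e
        exact huniq y z (hWfix y hy).1 (hWfix z hz).1 (hWfix y hy).2 (hWfix z hz).2 e
    have hyb : S.B a y ∈ W.image (S.B a) := by
      rw [hsurj]; exact Finset.mem_image_of_mem _ (Finset.mem_erase.2 ⟨hy, Finset.mem_univ _⟩)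
    obtain ⟨z, hz, hzy⟩ := Finset.mem_image.1 hyb
    rw [← hzy, ← (hWfix z hz).2, ← S.block_smul (hWfix z hz).1 hga, hzy]
    exact Finset.smul_mem_smul_finset (S.mem hy.symm)
  refine S.false_of_class hn hab (fun c hc hca k hk hkb => ?_) fun y z hy hz h e =>
    huniq y z hy hz (h g hgK hgb).1 (h g hgK hgb).2 e
  -- elements of `K` fixing `b` commute
  have hkg : k * g = g * k := by
    obtain ⟨m, hm⟩ := S.normalizes hn hqK hqp hq1 hab.symm hA hga
    obtain ⟨n, hn'⟩ := hA k hk
    refine S.eq_of_eq_on hn hqK hqp hq1 hab.symm (mul_mem hk hgK) (mul_mem hgK hk) fun z hz => ?_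
    obtain ⟨i, rfl⟩ := S.q_cover hn hqK hqp hq1 hab.symm hz
    have hact : ∀ (u : G) (l : ℕ), u * q * u⁻¹ = q ^ l → u • b = b → ∀ j : ℕ,
        u • (q ^ j • b) = q ^ (l * j) • b := by
      intro u l hu hub j
      calc u • (q ^ j • b) = (u * q ^ j * u⁻¹) • (u • b) := by
            rw [smul_smul, smul_smul]; group
        _ = q ^ (l * j) • b := by rw [← conj_pow, hu, ← pow_mul, hub]
    rw [mul_smul k g, mul_smul g k, hact g m hm hgb, hact k n hn' hkb, hact k n hn' hkb,
      hact g m hm hgb, Nat.mul_left_comm]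
  have h1 : g • (k • c) = k • c := by rw [smul_smul, ← hkg, mul_smul, hgX c hc]
  exact huniq _ c (S.ne_of_mem (Ne.symm hca) (hk.2 c hca)) hca h1 (hgX c hc)
    (S.eq_of_mem (Ne.symm hca) (hk.2 c hca))

/-- Case A with semiregular two-point stabilisers: the group is small. -/
theorem caseA2 (hA : ∀ k ∈ S.K a, ∃ m : ℕ, k * q * k⁻¹ = q ^ m) {b : Ω} (hab : a ≠ b)
    (hC : ∀ g : G, g • a = a → g • b = b → Commute g q → g = 1) :
    p = 2 ∧ Nat.card G = 20 := by
  classical
  have hpp := hp.out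
  have hb : b ≠ a := hab.symm
  let H := stabilizer G a
  let D : Subgroup H := stabilizer H b
  let v : D → G := fun u => ((u : H) : G)
  have hva : ∀ u : D, v u • a = a := fun u => (u : H).2
  have hvb : ∀ u : D, v u • b = b := fun u => u.2
  have hvinj : Function.Injective v := fun u u' h => Subtype.ext (Subtype.ext h)
  have hm : ∀ u : D, ∃ m : ℕ, v u * q * (v u)⁻¹ = q ^ m := fun u =>
    S.normalizes hn hqK hqp hq1 hb hA (hva u)
  choose m hm using hm
  let μ : D →* ZMod p :=
    { toFun := fun u => (m u : ZMod p)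
      map_one' := by
        have h : q ^ m 1 = q ^ 1 := by
          rw [← hm 1, show v 1 = 1 from rfl, pow_one]
          group
        have := S.q_eq_of_smul hn hqK hqp hq1 hb (i := m 1) (j := 1) (congrArg (· • b) h)
        rwa [Nat.cast_one] at this
      map_mul' := fun u w => by
        rw [← Nat.cast_mul]
        refine S.q_eq_of_smul hn hqK hqp hq1 hb (i := m (u * w)) (congrArg (· • b) ?_)
        rw [← hm, pow_mul, ← hm, conj_pow, ← hm w]
        have hv : v (u * w) = v u * v w := rfl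
        rw [hv]
        group }
  have hμ : ∀ u w, μ u = μ w → u = w := by
    intro u w h
    have h1 : v u * q * (v u)⁻¹ = v w * q * (v w)⁻¹ := by
      rw [hm, hm]; exact PrimeCirculant23.pow_congr hqp (show (m u : ZMod p) = m w from h)
    have hc : Commute ((v w)⁻¹ * v u) q := by
      have h2 : v u * q = v w * q * (v w)⁻¹ * v u := by rw [← h1]; group
      show (v w)⁻¹ * v u * q = q * ((v w)⁻¹ * v u)
      rw [mul_assoc, h2]; group
    have := hC ((v w)⁻¹ * v u) (by rw [mul_smul, hva, inv_smul_eq_iff, hva])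
      (by rw [mul_smul, hvb, inv_smul_eq_iff, hvb]) hc
    exact hvinj (inv_mul_eq_one.1 this).symm
  haveI : IsCyclic D := isCyclic_of_injective_ringHom μ hμ
  haveI : Fintype D := Fintype.ofFinite D
  have hdle : Nat.card D ≤ p - 1 := by
    have h0 : ∀ u, μ u ≠ 0 := fun u h => by
      have := μ.map_mul u u⁻¹
      rw [mul_inv_cancel, map_one, h, zero_mul] at this
      exact one_ne_zero this
    rw [Nat.card_eq_fintype_card, ← Finset.card_univ,
      show p - 1 = ((Finset.univ : Finset (ZMod p)).erase 0).card by simp]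
    exact Finset.card_le_card_of_injOn μ (fun u _ => by simp [h0 u])
      (fun u _ w _ e => hμ u w e)
  -- two-point stabilisers are semiregular
  have hsemi : ∀ g : G, g • a = a → g • b = b → g ≠ 1 → ∀ φ, g • φ = φ → φ = a ∨ φ = b := by
    intro g hga hgb hg1 φ hφ
    by_contra hc
    push Not at hc
    let u : D := ⟨⟨g, hga⟩, hgb⟩
    have hr : 0 < orderOf u := orderOf_pos u
    have hz : ∀ h : D, h ^ orderOf u = 1 → h ∈ Subgroup.zpowers u := by
      intro h hh
      have hsub : (Finset.univ.filter fun w : D => w ∈ Subgroup.zpowers u) ⊆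
          Finset.univ.filter fun w : D => w ^ orderOf u = 1 := fun w hw => by
        obtain ⟨i, rfl⟩ := Subgroup.mem_zpowers_iff.1 (Finset.mem_filter.1 hw).2
        refine Finset.mem_filter.2 ⟨Finset.mem_univ _, ?_⟩
        rw [← zpow_natCast, ← zpow_mul, mul_comm, zpow_mul, zpow_natCast, pow_orderOf_eq_one,
          one_zpow]
      have hcard : (Finset.univ.filter fun w : D => w ∈ Subgroup.zpowers u).card = orderOf u := by
        rw [← Nat.card_zpowers, Nat.card_eq_fintype_card, Fintype.card_subtype]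
      have := Finset.eq_of_subset_of_card_le hsub
        (by rw [hcard]; exact IsCyclic.card_pow_eq_one_le hr)
      have hmem : h ∈ Finset.univ.filter fun w : D => w ^ orderOf u = 1 :=
        Finset.mem_filter.2 ⟨Finset.mem_univ _, hh⟩
      rw [← this] at hmem
      exact (Finset.mem_filter.1 hmem).2
    refine S.false_of_fixed hn hab (orderOf u) hc.1 hc.2 (fun h ha hb' hhr => ?_)
      (fun y z hy hz' hfix e => ?_)
    · obtain ⟨i, hi⟩ := Subgroup.mem_zpowers_iff.1
        (hz ⟨⟨h, ha⟩, hb'⟩ (Subtype.ext (Subtype.ext hhr)))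
      have hi' : g ^ i = h := congrArg v hi
      rw [← hi']
      exact mem_stabilizer_iff.1 (zpow_mem (show g ∈ stabilizer G φ from hφ) i)
    · by_contra hyz
      obtain ⟨h1, h2⟩ := hfix g hga hgb (congrArg v (pow_orderOf_eq_one u))
      exact hg1 (hC g hga hgb
        (S.comm_of_two hn hqK hqp hq1 hA hga hy (e ▸ S.mem hz'.symm) (Ne.symm hyz) h1 h2))
  have htrans : IsPretransitive G Ω := ⟨fun x y => by
    by_cases h : x = y
    · exact ⟨1, by rw [one_smul, h]⟩
    · obtain ⟨g, hg, -⟩ := S.two x y y x h (Ne.symm h)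
      exact ⟨g, hg⟩⟩
  have hH : Nat.card H = p ^ 2 * Nat.card D := by
    rw [← S.orbit_stabilizer_eq hn hb, Subgroup.index_mul_card]
  have hG : Nat.card G = (p ^ 2 + 1) * Nat.card H := by
    rw [← hn, ← Nat.card_eq_fintype_card, ← index_stabilizer_of_transitive G a,
      Subgroup.index_mul_card]
  by_cases hp2 : p = 2
  · refine ⟨hp2, ?_⟩
    have hD1 : Nat.card D = 1 := by
      have := Nat.card_pos (α := D)
      omega
    rw [hG, hH, hD1, hp2]
    norm_num
  exfalso
  have hp3 : 3 ≤ p := by have := hpp.two_le; omega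
  have hsq : p * 2 ≤ p ^ 2 := by rw [pow_two]; exact Nat.mul_le_mul_left p hpp.two_le
  have hodd : Odd p := hpp.odd_of_ne_two hp2
  -- an involution fixing exactly two points
  by_cases hd : 2 ∣ Nat.card D
  · obtain ⟨u, hu⟩ := exists_prime_orderOf_dvd_card' 2 hd
    haveI : Fintype G := Fintype.ofFinite G
    have hu1 : v u ≠ 1 := fun h => by
      have : u = 1 := hvinj h
      rw [this, orderOf_one] at hu
      omega
    have huu : v u * v u = 1 := by
      rw [← pow_two]
      exact congrArg v (orderOf_dvd_iff_pow_eq_one.1 (hu ▸ dvd_rfl : orderOf u ∣ 2))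
    let T := (Finset.univ : Finset G).filter fun s =>
      s * s = 1 ∧ s ≠ 1 ∧ ((Finset.univ : Finset Ω).filter fun x => s • x = x).card = 2
    let P := (Finset.univ : Finset Ω).offDiag
    have hPc : P.card = (p ^ 2 + 1) * p ^ 2 := by
      simp only [P, Finset.offDiag_card, Finset.card_univ, hn, Nat.mul_succ, Nat.add_sub_cancel]
    have h1 : P.card ≤ 2 * T.card := by
      have hcov : P ⊆ T.biUnion fun s =>
          ((Finset.univ : Finset Ω).filter fun x => s • x = x).offDiag := by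
        rintro ⟨x, y⟩ hxy
        obtain ⟨g, rfl, rfl⟩ := S.two a b x y hab (Finset.mem_offDiag.1 hxy).2.2
        refine Finset.mem_biUnion.2 ⟨g * v u * g⁻¹, Finset.mem_filter.2 ⟨Finset.mem_univ _, ?_, ?_, ?_⟩,
          Finset.mem_offDiag.2 ⟨?_, ?_, (Finset.mem_offDiag.1 hxy).2.2⟩⟩
        · rw [show g * v u * g⁻¹ * (g * v u * g⁻¹) = g * (v u * v u) * g⁻¹ by group, huu]
          group
        · intro h
          exact hu1 (conj_eq_one_iff.1 h)
        · have : (Finset.univ : Finset Ω).filter (fun x => (g * v u * g⁻¹) • x = x) =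
              ({a, b} : Finset Ω).image (g • ·) := by
            ext x
            simp only [Finset.mem_filter, Finset.mem_univ, true_and, Finset.mem_image,
              Finset.mem_insert, Finset.mem_singleton]
            constructor
            · intro hx
              refine ⟨g⁻¹ • x, hsemi (v u) (hva u) (hvb u) hu1 _ ?_, smul_inv_smul g x⟩
              rw [mul_smul, mul_smul] at hx
              rw [eq_inv_smul_iff, hx]
            · rintro ⟨w, hw, rfl⟩
              rw [mul_smul, mul_smul, inv_smul_smul]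
              rcases hw with rfl | rfl
              · rw [hva]
              · rw [hvb]
          rw [this, Finset.card_image_of_injective _ (MulAction.injective g), Finset.card_pair hab]
        · simp [mul_smul, hva]
        · simp [mul_smul, hvb]
      calc P.card ≤ _ := Finset.card_le_card hcov
        _ ≤ _ := Finset.card_biUnion_le
        _ ≤ ∑ s ∈ T, 2 := Finset.sum_le_sum fun s hs => by
            rw [Finset.offDiag_card, (Finset.mem_filter.1 hs).2.2.2]
        _ = 2 * T.card := by rw [Finset.sum_const, smul_eq_mul, mul_comm]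
    have h2 : T.card * (p ^ 2 - 1) ≤ P.card * Nat.card D := by
      let r : G → Ω × Ω → Prop := fun s e => s • e.1 = e.2 ∧ s • e.2 = e.1
      have hlow : ∀ s ∈ T, p ^ 2 - 1 ≤ (P.filter fun e => r s e).card := by
        intro s hs
        obtain ⟨-, hss, -, hfc⟩ := Finset.mem_filter.1 hs
        have hmov : ((Finset.univ : Finset Ω).filter fun x => ¬s • x = x).card = p ^ 2 - 1 := by
          have := Finset.card_filter_add_card_filter_not (s := (Finset.univ : Finset Ω))
            (fun x => s • x = x)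
          rw [hfc, Finset.card_univ, hn] at this
          omega
        rw [← hmov]
        refine Finset.card_le_card_of_injOn (fun x => (x, s • x)) (fun x hx => ?_)
          (fun x _ y _ e => congrArg Prod.fst e)
        refine Finset.mem_filter.2 ⟨Finset.mem_offDiag.2 ⟨Finset.mem_univ _, Finset.mem_univ _,
          fun e => (Finset.mem_filter.1 hx).2 e.symm⟩, rfl, ?_⟩
        rw [smul_smul, hss, one_smul]
      have hhigh : ∀ e ∈ P, (T.filter fun s => r s e).card ≤ Nat.card D := by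
        rintro ⟨x, y⟩ hxy
        rcases (T.filter fun s => r s (x, y)).eq_empty_or_nonempty with h | ⟨s0, hs0⟩
        · simp [h]
        obtain ⟨-, hx0, hy0⟩ := Finset.mem_filter.1 hs0
        obtain ⟨g, rfl, rfl⟩ := S.two a b x y hab (Finset.mem_offDiag.1 hxy).2.2
        rw [Nat.card_eq_fintype_card]
        have hmem : ∀ s ∈ T.filter (fun s => r s (g • a, g • b)),
            (g⁻¹ * s0⁻¹ * s * g) • a = a ∧ (g⁻¹ * s0⁻¹ * s * g) • b = b := by
          intro s hs
          obtain ⟨-, hx, hy⟩ := Finset.mem_filter.1 hs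
          simp only at hx hy hx0 hy0
          constructor
          · rw [mul_smul, mul_smul, mul_smul, hx, ← hx0, inv_smul_smul, inv_smul_smul]
          · rw [mul_smul, mul_smul, mul_smul, hy, ← hy0, inv_smul_smul, inv_smul_smul]
        rw [← Finset.card_univ (α := D)]
        refine Finset.card_le_card_of_injOn
          (fun s => if h : (g⁻¹ * s0⁻¹ * s * g) • a = a ∧ (g⁻¹ * s0⁻¹ * s * g) • b = b then
            (⟨⟨_, h.1⟩, h.2⟩ : D) else 1) (fun s _ => Finset.mem_univ _) ?_
        intro s hs s' hs' e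
        simp only [dif_pos (hmem s hs), dif_pos (hmem s' hs')] at e
        have := congrArg v e
        simpa [v] using this
      calc T.card * (p ^ 2 - 1) = ∑ s ∈ T, (p ^ 2 - 1) := by rw [Finset.sum_const, smul_eq_mul]
        _ ≤ ∑ s ∈ T, (P.filter fun e => r s e).card := Finset.sum_le_sum hlow
        _ = ∑ e ∈ P, (T.filter fun s => r s e).card := by
            simp only [Finset.card_filter]; exact Finset.sum_comm
        _ ≤ ∑ e ∈ P, Nat.card D := Finset.sum_le_sum hhigh
        _ = P.card * Nat.card D := by rw [Finset.sum_const, smul_eq_mul]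
    have hTpos : 0 < T.card := by
      rw [hPc] at h1
      have : 0 < (p ^ 2 + 1) * p ^ 2 := by positivity
      omega
    have h3 : T.card * (p ^ 2 - 1) ≤ T.card * (2 * Nat.card D) :=
      h2.trans ((Nat.mul_le_mul_right _ h1).trans (by rw [mul_comm 2, mul_assoc]))
    have h4 := Nat.le_of_mul_le_mul_left h3 hTpos
    have : p * 3 ≤ p ^ 2 := by rw [pow_two]; exact Nat.mul_le_mul_left p hp3
    omega
  · -- two-point stabilisers of odd order
    haveI : Fintype G := Fintype.ofFinite G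
    let σ : G →* ℤˣ := (Equiv.Perm.sign).comp (MulAction.toPermHom G Ω)
    have hpodd2 : Odd (p ^ 2) := hodd.pow
    have hHodd : Odd (Nat.card H) := by
      rw [hH]; exact hpodd2.mul (Nat.odd_iff.2 (by omega))
    have hσH : ∀ g : G, g • a = a → σ g = 1 := by
      intro g hg
      have h1 : σ g ^ Nat.card H = 1 := by
        rw [← map_pow]
        have : g ^ Nat.card H = 1 := congrArg Subtype.val (pow_card_eq_one' (x := (⟨g, hg⟩ : H)))
        rw [this, map_one]
      rcases Int.units_eq_one_or (σ g) with h | h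
      · exact h
      · rw [h, hHodd.neg_one_pow] at h1
        exact absurd h1 (by decide)
    obtain ⟨z, hz⟩ := exists_prime_orderOf_dvd_card' (G := G) 2 (by
      rw [hG]
      refine Dvd.dvd.mul_right ?_ _
      rw [← even_iff_two_dvd]
      exact hpodd2.add_one)
    have hzz : z * z = 1 := by rw [← pow_two, ← hz, pow_orderOf_eq_one]
    have hz1 : z ≠ 1 := fun h => by rw [h, orderOf_one] at hz; omega
    have hfix : ((Finset.univ : Finset Ω).filter fun x => z • x = x).card ≤ 1 := by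
      rw [Finset.card_le_one]
      intro x hx y hy
      simp only [Finset.mem_filter, Finset.mem_univ, true_and] at hx hy
      by_contra hxy
      obtain ⟨g, rfl, rfl⟩ := S.two a b x y hab hxy
      let u : D := ⟨⟨g⁻¹ * z * g, conj_smul_eq.2 hx⟩, conj_smul_eq.2 hy⟩
      have hu1 : u ^ 2 = 1 := by
        refine hvinj ?_
        change (g⁻¹ * z * g) ^ 2 = 1
        rw [conj_pow_eq_one, pow_two, hzz]
      have hu : u = 1 := by
        rw [← orderOf_eq_one_iff]
        have h1 := orderOf_dvd_of_pow_eq_one hu1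
        have h2 : orderOf u ∣ Nat.card D := orderOf_dvd_natCard u
        rcases (Nat.dvd_prime Nat.prime_two).1 h1 with h | h
        · exact h
        · exact absurd (h ▸ h2) hd
      have := congrArg v hu
      exact hz1 (by
        have h' : g⁻¹ * z * g = 1 := this
        calc z = g * (g⁻¹ * z * g) * g⁻¹ := by group
          _ = 1 := by rw [h']; group)
    have hsgn : σ z = -1 := by
      set π : Equiv.Perm Ω := MulAction.toPermHom G Ω z with hπ
      have hπ1 : π ≠ 1 := fun h => hz1 (eq_of_smul_eq_smul (α := Ω) fun x => by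
        rw [one_smul]; exact Equiv.Perm.ext_iff.1 h x)
      have hπ2 : orderOf π = 2 := orderOf_eq_prime (by
        rw [hπ, ← map_pow, pow_two, hzz, map_one]) hπ1
      obtain ⟨k, hk⟩ := Equiv.Perm.cycleType_prime_order (σ := π) (hπ2 ▸ Nat.prime_two)
      have hsupp : π.support.card = 2 * (k + 1) := by
        rw [← Equiv.Perm.sum_cycleType, hk, hπ2, Multiset.sum_replicate, smul_eq_mul, mul_comm]
      have hsc : p ^ 2 + 1 ≤ π.support.card + 1 := by
        have := Finset.card_filter_add_card_filter_not (s := (Finset.univ : Finset Ω))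
          (fun x => z • x = x)
        rw [Finset.card_univ, hn] at this
        have he : π.support = (Finset.univ : Finset Ω).filter (fun x => ¬z • x = x) := by
          ext x; simp [Equiv.Perm.mem_support, hπ]
        rw [← he] at this
        omega
      have hle : π.support.card ≤ p ^ 2 + 1 := hn ▸ Finset.card_le_univ _
      change Equiv.Perm.sign π = -1
      rw [Equiv.Perm.sign_of_cycleType, hk, hπ2, Multiset.sum_replicate, Multiset.card_replicate,
        smul_eq_mul]
      refine Odd.neg_one_pow ?_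
      obtain ⟨j, hj⟩ := hodd
      have hpsq : p ^ 2 + 1 = 2 * (2 * (j * j + j) + 1) := by rw [hj]; ring
      rw [Nat.odd_iff]
      omega
    by_cases hmove : ∃ g : G, σ g = 1 ∧ g • a ≠ a
    · obtain ⟨g, hg, hga⟩ := hmove
      have hzc : ∃ n : G, σ n = 1 ∧ n • a = z • a := by
        by_cases hza : z • a = a
        · exact ⟨1, map_one σ, by rw [one_smul, hza]⟩
        · obtain ⟨h, hha, hhz⟩ := S.two a (g • a) a (z • a) (Ne.symm hga) (Ne.symm hza)
          exact ⟨h * g, by rw [map_mul, hσH h hha, hg, one_mul], by rw [mul_smul, hhz]⟩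
      obtain ⟨n, hn1, hna⟩ := hzc
      have := hσH (n⁻¹ * z) (by rw [mul_smul, ← hna, inv_smul_smul])
      rw [map_mul, map_inv, hn1, inv_one, one_mul, hsgn] at this
      exact absurd this (by decide)
    · push Not at hmove
      refine hq1 (eq_of_smul_eq_smul (α := Ω) fun y => ?_)
      rw [one_smul]
      obtain ⟨h, rfl⟩ := exists_smul_eq G a y
      have := hmove (h⁻¹ * q * h) (by
        rw [map_mul, map_mul, mul_right_comm, map_inv, inv_mul_cancel, one_mul, hσH q hqK.1])
      rwa [conj_smul_eq] at this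

/-- The kernel acts on a block. -/
def blk (S : Sys G Ω p) {a c : Ω} (hc : c ≠ a) : SubMulAction (S.K a) Ω where
  carrier := ↑(S.B a c)
  smul_mem' k _ hz := S.K_maps k.2 hc hz

/-- In case B the kernel is doubly transitive on every block. -/
theorem twoT (hA : ¬∀ k ∈ S.K a, ∃ m : ℕ, k * q * k⁻¹ = q ^ m) {c : Ω} (hc : c ≠ a) :
    p ≠ 2 ∧ ∀ z ∈ S.B a c, ∀ w ∈ S.B a c, z ≠ c → w ≠ c → ∃ k ∈ S.K a, k • c = c ∧ k • z = w := by
  classical
  have hpp := hp.out
  constructor
  · intro hp2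
    refine hA fun k hk => ⟨1, ?_⟩
    rw [pow_one]
    have hy : (k * q * k⁻¹) ^ p = 1 := by rw [conj_pow, hqp, mul_one, mul_inv_cancel]
    have hyK : k * q * k⁻¹ ∈ S.K a := mul_mem (mul_mem hk hqK) (inv_mem hk)
    refine S.eq_of_eq_on hn hqK hqp hq1 hc hyK hqK fun z hz => ?_
    have hza : z ≠ a := S.ne_of_mem hc.symm hz
    have h1 : (k * q * k⁻¹) • z ≠ z := fun e =>
      hq1 (conj_eq_one_iff.1 (S.no_pfix hn hza hyK hy e))
    have h2 : q • z ≠ z := fun e => hq1 (S.no_pfix hn hza hqK hqp e)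
    have hcard : ((S.B a c).erase z).card ≤ 1 := by
      rw [Finset.card_erase_of_mem hz, S.card hc.symm, hp2]
    exact Finset.card_le_one.1 hcard _ (Finset.mem_erase.2 ⟨h1, S.K_maps hyK hc hz⟩) _
      (Finset.mem_erase.2 ⟨h2, S.K_maps hqK hc hz⟩)
  intro z hz w hw hzc hwc
  let T := ↥(S.blk hc)
  have hT : Nat.card T = p := by
    have e : T = ↥(↑(S.B a c) : Set Ω) := rfl
    rw [e, Nat.card_coe_set_eq, Set.ncard_coe_finset, S.card hc.symm]
  haveI : Finite T := Nat.finite_of_card_ne_zero (hT ▸ hpp.ne_zero)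
  let φ := MulAction.toPermHom (S.K a) T
  haveI : IsPretransitive φ.range T := by
    refine ⟨fun x y => ?_⟩
    obtain ⟨i, hi⟩ := S.q_cover hn hqK hqp hq1 hc x.2
    obtain ⟨j, hj⟩ := S.q_cover hn hqK hqp hq1 hc y.2
    exact ⟨⟨φ (⟨q, hqK⟩ ^ j * (⟨q, hqK⟩ ^ i)⁻¹), _, rfl⟩, Subtype.ext (by
      change (q ^ j * (q ^ i)⁻¹) • x.1 = y.1
      rw [mul_smul, ← hi, inv_smul_smul, hj])⟩
  rcases PermPrimeDegree.affine_or_twoTransitive (p := p) hT φ.range with h | ⟨e, he⟩
  · have h' : ∀ {x y u v : T}, x ≠ y → u ≠ v → ∃ g : φ.range, g • x = u ∧ g • y = v :=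
      is_two_pretransitive_iff.1 h
    obtain ⟨⟨_, k, rfl⟩, h1, h2⟩ := @h' (⟨c, S.mem hc.symm⟩ : T) (⟨z, hz⟩ : T)
      (⟨c, S.mem hc.symm⟩ : T) (⟨w, hw⟩ : T)
      (fun e => hzc (congrArg Subtype.val e).symm) (fun e => hwc (congrArg Subtype.val e).symm)
    exact ⟨k, k.2, congrArg Subtype.val h1, congrArg Subtype.val h2⟩
  · refine absurd (fun k hk => ?_) hA
    obtain ⟨u0, v0, -, h0⟩ := he (φ ⟨q, hqK⟩) ⟨_, rfl⟩
    obtain ⟨u, v, -, h1⟩ := he (φ ⟨k, hk⟩) ⟨_, rfl⟩
    have h0' : ∀ x, q • (e x : Ω) = e (u0 * x + v0) := fun x => congrArg Subtype.val (h0 x)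
    have h1' : ∀ x, k • (e x : Ω) = e (u * x + v) := fun x => congrArg Subtype.val (h1 x)
    have hu0 : u0 = 1 := by
      by_contra hu
      have hx : u0 * (v0 / (1 - u0)) + v0 = v0 / (1 - u0) := by
        have : (1 : ZMod p) - u0 ≠ 0 := sub_ne_zero.2 (Ne.symm hu)
        field_simp
        ring
      refine hq1 (S.no_pfix hn (S.ne_of_mem hc.symm (e (v0 / (1 - u0))).2) hqK hqp ?_)
      rw [h0', hx]
    have hpow : ∀ (i : ℕ) (x : ZMod p), q ^ i • (e x : Ω) = e (x + i * v0) := by
      intro i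
      induction i with
      | zero => intro x; simp
      | succ i ih =>
        intro x
        rw [pow_succ', mul_smul, ih, h0', hu0, one_mul]
        push_cast
        ring_nf
    refine ⟨u.val, mul_inv_eq_iff_eq_mul.2 (S.eq_of_eq_on hn hqK hqp hq1 hc (mul_mem hk hqK)
      (mul_mem (pow_mem hqK _) hk) fun y hy => ?_)⟩
    obtain ⟨x, hx⟩ := e.surjective ⟨y, hy⟩
    have hy' : y = (e x : Ω) := (congrArg Subtype.val hx).symm
    rw [hy', mul_smul, mul_smul, h0', h1', h1', hpow, hu0, ZMod.natCast_rightInverse u]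
    ring_nf

/-- Two of three points of a block are related by the stabiliser of `b` in the kernel. -/
theorem two_orbit (hA : ¬∀ k ∈ S.K a, ∃ m : ℕ, k * q * k⁻¹ = q ^ m) {b c : Ω} (hb : b ≠ a)
    (hc : c ≠ a) {z1 z2 z3 : Ω} (h1 : z1 ∈ S.B a c) (h2 : z2 ∈ S.B a c) (h3 : z3 ∈ S.B a c)
    (h12 : ∀ k ∈ S.K a, k • b = b → k • z1 ≠ z2) (h13 : ∀ k ∈ S.K a, k • b = b → k • z1 ≠ z3)
    (h23 : ∀ k ∈ S.K a, k • b = b → k • z2 ≠ z3) : False := by
  classical
  haveI : Fintype (S.K a) := Fintype.ofFinite _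
  let T1 := ↥(S.blk hb)
  let T2 := ↥(S.blk hc)
  haveI : Fintype T1 := Fintype.ofFinite _
  haveI : Fintype T2 := Fintype.ofFinite _
  let Q1 := Quotient (orbitRel (S.K a) (T1 × T1))
  let Q2 := Quotient (orbitRel (S.K a) (T2 × T2))
  let Q := Quotient (orbitRel (S.K a) (T1 × T2))
  haveI : Fintype Q1 := Fintype.ofFinite _
  haveI : Fintype Q2 := Fintype.ofFinite _
  haveI : Fintype Q := Fintype.ofFinite _
  have hQ : 3 ≤ Fintype.card Q := by
    let f : Fin 3 → Q := fun i => Quotient.mk'' ((⟨b, S.mem hb.symm⟩ : T1),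
      (![(⟨z1, h1⟩ : T2), ⟨z2, h2⟩, ⟨z3, h3⟩] i))
    have hne : ∀ (x y : T2), (∀ k ∈ S.K a, k • b = b → k • (x : Ω) ≠ y) →
        (Quotient.mk'' ((⟨b, S.mem hb.symm⟩ : T1), y) : Q) ≠
          Quotient.mk'' ((⟨b, S.mem hb.symm⟩ : T1), x) := by
      intro x y h e
      obtain ⟨k, hk⟩ := orbitRel_apply.1 (Quotient.exact' e)
      exact h k k.2 (congrArg (fun t : T1 × T2 => (t.1 : Ω)) hk)
        (congrArg (fun t : T1 × T2 => (t.2 : Ω)) hk)
    have hf : Function.Injective f := by
      intro i j hij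
      by_contra hne'
      fin_cases i <;> fin_cases j <;>
        first
        | exact hne' rfl
        | exact hne ⟨z1, h1⟩ ⟨z2, h2⟩ h12 hij
        | exact hne ⟨z1, h1⟩ ⟨z2, h2⟩ h12 hij.symm
        | exact hne ⟨z1, h1⟩ ⟨z3, h3⟩ h13 hij
        | exact hne ⟨z1, h1⟩ ⟨z3, h3⟩ h13 hij.symm
        | exact hne ⟨z2, h2⟩ ⟨z3, h3⟩ h23 hij
        | exact hne ⟨z2, h2⟩ ⟨z3, h3⟩ h23 hij.symm
    simpa using Fintype.card_le_of_injective f hf
  have hdiag : ∀ (d : Ω) (hd : d ≠ a) [Fintype (Quotient (orbitRel (S.K a)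
      (↥(S.blk hd) × ↥(S.blk hd))))],
      Fintype.card (Quotient (orbitRel (S.K a) (↥(S.blk hd) × ↥(S.blk hd)))) ≤ 2 := by
    intro d hd _
    obtain ⟨w, hwB, hwd⟩ : ∃ w ∈ S.B a d, w ≠ d :=
      ⟨q • d, S.K_maps hqK hd (S.mem hd.symm), fun e => hq1 (S.no_pfix hn hd hqK hqp e)⟩
    let g : Bool → Quotient (orbitRel (S.K a) (↥(S.blk hd) × ↥(S.blk hd))) := fun t =>
      Quotient.mk'' ((⟨d, S.mem hd.symm⟩ : ↥(S.blk hd)),
        if t then (⟨d, S.mem hd.symm⟩ : ↥(S.blk hd)) else ⟨w, hwB⟩)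
    have hg : Function.Surjective g := by
      intro x
      induction x using Quotient.inductionOn' with
      | h x =>
        obtain ⟨⟨y, hy⟩, ⟨z, hz⟩⟩ := x
        obtain ⟨i, hi⟩ := S.q_cover hn hqK hqp hq1 hd hy
        set z' := (q ^ i)⁻¹ • z with hz'
        have hz'B : z' ∈ S.B a d := S.K_maps (inv_mem (pow_mem hqK i)) hd hz
        by_cases hzd : z' = d
        · refine ⟨true, Quotient.sound' (orbitRel_apply.2 ⟨(⟨q, hqK⟩ ^ i)⁻¹, ?_⟩)⟩
          refine Prod.ext (Subtype.ext ?_) (Subtype.ext ?_)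
          · change (q ^ i)⁻¹ • y = d
            rw [← hi, inv_smul_smul]
          · exact hzd
        · obtain ⟨k, hk, hkd, hkz⟩ := (S.twoT hn hqK hqp hq1 hA hd).2 z' hz'B w hwB hzd hwd
          refine ⟨false, Quotient.sound' (orbitRel_apply.2
            ⟨⟨k, hk⟩ * (⟨q, hqK⟩ ^ i)⁻¹, ?_⟩)⟩
          refine Prod.ext (Subtype.ext ?_) (Subtype.ext ?_)
          · change (k * (q ^ i)⁻¹) • y = d
            rw [mul_smul, ← hi, inv_smul_smul, hkd]
          · change (k * (q ^ i)⁻¹) • z = w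
            rw [mul_smul]
            exact hkz
    simpa using Fintype.card_le_of_surjective g hg
  -- Burnside counting and the inequality of Cauchy and Schwarz
  have hprod : ∀ {X Y : Type _} [MulAction (S.K a) X] [MulAction (S.K a) Y] (k : S.K a),
      Nat.card (fixedBy (X × Y) k) = Nat.card (fixedBy X k) * Nat.card (fixedBy Y k) := by
    intro X Y _ _ k
    rw [← Nat.card_prod]
    exact Nat.card_congr
      { toFun := fun x => (⟨x.1.1, congrArg Prod.fst x.2⟩, ⟨x.1.2, congrArg Prod.snd x.2⟩)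
        invFun := fun x => ⟨(x.1.1, x.2.1), Prod.ext x.1.2 x.2.2⟩
        left_inv := fun _ => rfl
        right_inv := fun _ => rfl }
  have hB : ∀ (X : Type _) [MulAction (S.K a) X] [Fintype X]
      [Fintype (Quotient (orbitRel (S.K a) X))],
      ∑ k : S.K a, Nat.card (fixedBy X k) =
        Fintype.card (Quotient (orbitRel (S.K a) X)) * Fintype.card (S.K a) := by
    intro X _ _ _
    rw [← sum_card_fixedBy_eq_card_orbits_mul_card_group (S.K a) X]
    simp [Nat.card_eq_fintype_card]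
  let F1 : S.K a → ℕ := fun k => Nat.card (fixedBy T1 k)
  let F2 : S.K a → ℕ := fun k => Nat.card (fixedBy T2 k)
  have e1 : ∑ k, F1 k ^ 2 = Fintype.card Q1 * Fintype.card (S.K a) := by
    rw [← hB (T1 × T1)]; exact Finset.sum_congr rfl fun k _ => by rw [hprod, pow_two]
  have e2 : ∑ k, F2 k ^ 2 = Fintype.card Q2 * Fintype.card (S.K a) := by
    rw [← hB (T2 × T2)]; exact Finset.sum_congr rfl fun k _ => by rw [hprod, pow_two]
  have e3 : ∑ k, F1 k * F2 k = Fintype.card Q * Fintype.card (S.K a) := by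
    rw [← hB (T1 × T2)]; exact Finset.sum_congr rfl fun k _ => by rw [hprod]
  have hcs := Finset.sum_mul_sq_le_sq_mul_sq (Finset.univ : Finset (S.K a)) F1 F2
  rw [e1, e2, e3] at hcs
  have q1 : Fintype.card Q1 ≤ 2 := hdiag b hb
  have q2 : Fintype.card Q2 ≤ 2 := hdiag c hc
  have hK := Fintype.card_pos (α := S.K a)
  have : (Fintype.card Q * Fintype.card (S.K a)) ^ 2 ≤ (2 * Fintype.card (S.K a)) ^ 2 := by
    refine hcs.trans ?_
    rw [pow_two (2 * _)]
    gcongr
  have := Nat.le_of_mul_le_mul_right ((Nat.pow_le_pow_iff_left two_ne_zero).1 this) hK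
  omega

/-- An element centralising `q` moving the block of `b` to the block of `c`. -/
theorem exists_mover {b c : Ω} (hb : b ≠ a) (hc : c ≠ a) :
    ∃ x : G, x • a = a ∧ Commute x q ∧ x • b ∈ S.B a c ∧ x ^ p ∈ S.K a := by
  classical
  have hpp := hp.out
  let H := stabilizer G a
  let q' : H := ⟨q, hqK.1⟩
  have hq' : Nat.card (Subgroup.zpowers q') = p ^ 1 := by
    rw [Nat.card_zpowers, pow_one, ← Subgroup.orderOf_coe]
    exact orderOf_eq_prime hqp hq1
  obtain ⟨P, hPcard, hqP⟩ := Sylow.exists_subgroup_card_pow_prime_le p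
    (show p ^ 2 ∣ Nat.card H from S.orbit_stabilizer_eq hn hb ▸ Subgroup.index_dvd_card _)
    (Subgroup.zpowers q') hq' (by norm_num)
  have hcomm : ∀ u : P, Commute ((u : H) : G) q := fun u => by
    have := IsPGroup.commutative_of_card_eq_prime_sq hPcard u
      ⟨q', hqP (Subgroup.mem_zpowers q')⟩
    exact congrArg (fun t : P => ((t : H) : G)) this
  have hsq : ∀ u : P, ((u : H) : G) ^ (p ^ 2) = 1 := fun u => by
    have : u ^ (p ^ 2) = 1 := hPcard ▸ pow_card_eq_one'
    exact congrArg (fun t : P => ((t : H) : G)) this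
  obtain ⟨u, hu⟩ : ∃ u : P, ((u : H) : G) ∉ S.K a := by
    by_contra h
    push Not at h
    haveI : Fintype P := Fintype.ofFinite P
    let f : P → ↥(S.B a b) := fun u => ⟨((u : H) : G) • b, S.K_maps (h u) hb (S.mem hb.symm)⟩
    obtain ⟨u, w, huw, hf⟩ := Fintype.exists_ne_map_eq_of_card_lt
      (α := P) f (by
        rw [Fintype.card_coe, S.card hb.symm, ← Nat.card_eq_fintype_card, hPcard, pow_two]
        exact lt_mul_of_one_lt_left hpp.pos hpp.one_lt)
    have hfix : (((w⁻¹ * u : P) : H) : G) • b = b := by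
      have : ((u : H) : G) • b = ((w : H) : G) • b := congrArg Subtype.val hf
      simp only [Subgroup.coe_mul, Subgroup.coe_inv, mul_smul, this, inv_smul_smul]
    set d : G := (((w⁻¹ * u : P) : H) : G) with hd
    have hd1 : d ≠ 1 := fun e => huw (inv_mul_eq_one.1
      (Subtype.ext (Subtype.ext e) : w⁻¹ * u = 1)).symm
    have hdK : d ∈ S.K a := h _
    by_cases hdp : d ^ p = 1
    · exact hd1 (S.no_pfix hn hb hdK hdp hfix)
    · refine hdp (S.no_pfix hn hb (pow_mem hdK p) ?_ ?_)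
      · rw [← pow_mul, ← pow_two, hd, hsq]
      · exact mem_stabilizer_iff.1 (pow_mem (show d ∈ stabilizer G b from hfix) p)
  set x0 : G := ((u : H) : G) with hx0
  have hx0a : x0 • a = a := (u : H).2
  have hpow2 : x0 ^ (p ^ 2) = 1 := hsq u
  have horb : ∀ y, y ≠ a → x0 • S.B a y = S.B a y ∨
      (x0 ^ p • S.B a y = S.B a y ∧ ∀ l ∈ S.blocks a, ∃ i, x0 ^ i • S.B a y = l) := by
    intro y hy
    rcases orbit_prime hpow2 (S := S.blocks a)
      (Finset.mem_image_of_mem _ (Finset.mem_erase.2 ⟨hy, Finset.mem_univ _⟩))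
      (fun l hl => S.smul_mem_blocks hx0a hl) (S.card_blocks hn a).le with h | ⟨-, h1, h2⟩
    · exact Or.inl h
    · exact Or.inr ⟨h1, h2⟩
  obtain ⟨y, hy, hmove⟩ : ∃ y, y ≠ a ∧ x0 • y ∉ S.B a y := by
    by_contra h
    push Not at h
    exact hu ⟨hx0a, h⟩
  have hy' : x0 • S.B a y ≠ S.B a y := fun h =>
    hmove (h ▸ Finset.smul_mem_smul_finset (S.mem hy.symm))
  obtain ⟨hyp, hall⟩ := (horb y hy).resolve_left hy'
  have hblk : ∀ z, z ≠ a → x0 ^ p • S.B a z = S.B a z := by
    intro z hz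
    obtain ⟨i, hi⟩ := hall _ (Finset.mem_image_of_mem _ (Finset.mem_erase.2 ⟨hz, Finset.mem_univ _⟩))
    rw [← hi, smul_smul, ← pow_add, add_comm, pow_add, mul_smul, hyp]
  obtain ⟨i, hi⟩ := hall _ (Finset.mem_image_of_mem _ (Finset.mem_erase.2 ⟨hb, Finset.mem_univ _⟩))
  obtain ⟨j, hj⟩ := hall _ (Finset.mem_image_of_mem _ (Finset.mem_erase.2 ⟨hc, Finset.mem_univ _⟩))
  have hpowa : ∀ n : ℕ, x0 ^ n • a = a := fun n =>
    mem_stabilizer_iff.1 (pow_mem (show x0 ∈ stabilizer G a from hx0a) n)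
  refine ⟨x0 ^ j * (x0 ^ i)⁻¹, ?_, ?_, ?_, ?_⟩
  · rw [mul_smul, inv_smul_eq_iff.2 (hpowa i).symm, hpowa]
  · exact ((hcomm u).pow_left j).mul_left ((hcomm u).pow_left i).inv_left
  · have h1 : (x0 ^ j * (x0 ^ i)⁻¹) • S.B a b = S.B a c := by
      rw [mul_smul, ← hi, inv_smul_smul, hj]
    rw [← h1]
    exact Finset.smul_mem_smul_finset (S.mem hb.symm)
  · have hxpK : x0 ^ p ∈ S.K a :=
      ⟨hpowa p, fun z hz => hblk z hz ▸ Finset.smul_mem_smul_finset (S.mem hz.symm)⟩
    have hcx : Commute (x0 ^ j) (x0 ^ i)⁻¹ := ((Commute.refl x0).pow_pow j i).inv_right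
    rw [hcx.mul_pow, inv_pow, ← pow_mul, ← pow_mul, mul_comm j, mul_comm i, pow_mul, pow_mul]
    exact mul_mem (pow_mem hxpK j) (inv_mem (pow_mem hxpK i))

theorem caseB (hA : ¬∀ k ∈ S.K a, ∃ m : ℕ, k * q * k⁻¹ = q ^ m) {b : Ω} (hab : a ≠ b) : False := by
  classical
  have hpp := hp.out
  have hb : b ≠ a := hab.symm
  obtain ⟨hp2, htwo⟩ := S.twoT hn hqK hqp hq1 hA hb
  have hp3 : 3 ≤ p := by have := hpp.two_le; omega
  -- at most one fixed point of the stabiliser of `b` in each block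
  have hinj : ∀ y z, y ≠ a → z ≠ a → (∀ k ∈ S.K a, k • b = b → k • y = y ∧ k • z = z) →
      S.B a y = S.B a z → y = z := by
    intro y z hy hz h e
    by_contra hyz
    have hzB : z ∈ S.B a y := e ▸ S.mem hz.symm
    obtain ⟨w, hw⟩ : (((S.B a y).erase y).erase z).Nonempty := by
      rw [← Finset.card_pos, Finset.card_erase_of_mem (Finset.mem_erase.2 ⟨Ne.symm hyz, hzB⟩),
        Finset.card_erase_of_mem (S.mem hy.symm), S.card hy.symm]
      omega
    simp only [Finset.mem_erase] at hw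
    exact S.two_orbit hn hqK hqp hq1 hA hb hy (S.mem hy.symm) hzB hw.2.2
      (fun k hk hkb h' => hyz ((h k hk hkb).1.symm.trans h'))
      (fun k hk hkb h' => hw.2.1 (h'.symm.trans (h k hk hkb).1))
      (fun k hk hkb h' => hw.1 (h'.symm.trans (h k hk hkb).2))
  have hXinv : ∀ g : G, g • a = a → g • b = b → ∀ c ∈ S.B b a, c ≠ a →
      g • c ∈ S.B b a ∧ g • c ≠ a := fun g hga hgb c hc hca =>
    ⟨S.fix_maps hb hgb hga hc, fun e => hca (smul_left_cancel g (e.trans hga.symm))⟩
  have hXB : ∀ c ∈ S.B b a, c ≠ a → c ∉ S.B a b := by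
    intro c hc hca hcB
    have hsub : (S.B a b).erase b ⊆ (S.B b a).erase a := by
      intro z hz
      obtain ⟨hzb, hzB⟩ := Finset.mem_erase.1 hz
      obtain ⟨k, hk, hkb, hkc⟩ := htwo c hcB z hzB (S.ne_of_mem hb hc) hzb
      have := hXinv k hk.1 hkb c hc hca
      rw [hkc] at this
      exact Finset.mem_erase.2 ⟨this.2, this.1⟩
    have heq := Finset.eq_of_subset_of_card_le hsub (by
      rw [Finset.card_erase_of_mem (S.mem hab), Finset.card_erase_of_mem (S.mem hb), S.card hab,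
        S.card hb])
    refine S.false_of_subset hn hab fun d hd hda => ?_
    have : d ∈ (S.B b a).erase a := Finset.mem_erase.2 ⟨hda, hd⟩
    rw [← heq] at this
    exact (Finset.mem_erase.1 this).2
  by_cases hall : ∀ c ∈ S.B b a, c ≠ a → ∀ k ∈ S.K a, k • b = b → k • c = c
  · exact S.false_of_class hn hab hall hinj
  push Not at hall
  obtain ⟨c, hc, hca, k0, hk0, hk0b, hk0c⟩ := hall
  -- the orbit of `c`
  set O := (S.B a c).filter fun z => ∃ k ∈ S.K a, k • b = b ∧ k • c = z with hO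
  have hmemO : ∀ {z}, z ∈ O ↔ z ∈ S.B a c ∧ ∃ k ∈ S.K a, k • b = b ∧ k • c = z := by
    intro z; simp [O]
  have hOinv : ∀ k ∈ S.K a, k • b = b → ∀ z, z ∈ O → k • z ∈ O := by
    intro k hk hkb z hz
    obtain ⟨hzB, k', hk', hk'b, rfl⟩ := hmemO.1 hz
    exact hmemO.2 ⟨S.K_maps hk hca hzB, k * k', mul_mem hk hk', by rw [mul_smul, hk'b, hkb],
      mul_smul _ _ _⟩
  have hOX : O ⊆ (S.B b a).erase a := by
    intro z hz
    obtain ⟨-, k, hk, hkb, rfl⟩ := hmemO.1 hz
    exact Finset.mem_erase.2 ⟨(hXinv k hk.1 hkb c hc hca).2, (hXinv k hk.1 hkb c hc hca).1⟩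
  have hcO : c ∈ O := hmemO.2 ⟨S.mem (Ne.symm hca), 1, one_mem _, one_smul _ _, one_smul _ _⟩
  -- an element moving the block of `b` to the block of `c` and centralising `q`
  obtain ⟨x, hxa, hxq, hxc, hxp⟩ := S.exists_mover hn hqK hqp hq1 hb hca
  let e : ZMod p → Ω := fun i => q ^ i.val • b
  have hemem : ∀ i, e i ∈ S.B a b := fun i => S.K_maps (pow_mem hqK _) hb (S.mem hab)
  have heinj : Function.Injective e := fun i j h => by
    have := S.q_eq_of_smul hn hqK hqp hq1 hb h
    simpa using this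
  have hesurj : ∀ z ∈ S.B a b, ∃ i, e i = z := fun z hz => by
    obtain ⟨i, hi⟩ := S.q_cover hn hqK hqp hq1 hb hz
    refine ⟨(i : ZMod p), ?_⟩
    rw [← hi]
    exact congrArg (· • b) (PrimeCirculant23.pow_congr hqp (by simp))
  have hxB : x • S.B a b = S.B a c := by
    rw [S.block_smul hb hxa]
    exact S.eq_of_mem (Ne.symm hca) hxc
  have hxe : ∀ z ∈ S.B a c, ∃ i, x • e i = z := by
    intro z hz
    rw [← hxB] at hz
    obtain ⟨w, hw, rfl⟩ := Finset.mem_smul_finset.1 hz
    obtain ⟨i, rfl⟩ := hesurj w hw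
    exact ⟨i, rfl⟩
  set D : Finset (ZMod p) := Finset.univ.filter fun i => x • e i ∈ O with hD
  have hDne : D.Nonempty := by
    obtain ⟨i, hi⟩ := hxe c (S.mem (Ne.symm hca))
    exact ⟨i, by simp [D, hi, hcO]⟩
  have hDuniv : D ≠ Finset.univ := by
    intro h
    have hsub : S.B a c ⊆ O := fun z hz => by
      obtain ⟨i, rfl⟩ := hxe z hz
      have : i ∈ D := h ▸ Finset.mem_univ i
      simpa [D] using this
    have := (Finset.card_le_card hsub).trans (Finset.card_le_card hOX)
    rw [S.card (Ne.symm hca), Finset.card_erase_of_mem (S.mem hb), S.card hb] at this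
    omega
  -- incidence
  let E : Ω → Ω → Prop := fun y z => ∃ k ∈ S.K a, k • b = y ∧ k⁻¹ • z ∈ O
  have hEK : ∀ k ∈ S.K a, ∀ y z, E (k • y) (k • z) ↔ E y z := by
    intro k hk y z
    constructor
    · rintro ⟨k', hk', h1, h2⟩
      exact ⟨k⁻¹ * k', mul_mem (inv_mem hk) hk', by rw [mul_smul, h1, inv_smul_smul],
        by rwa [mul_inv_rev, inv_inv, mul_smul]⟩
    · rintro ⟨k', hk', h1, h2⟩
      exact ⟨k * k', mul_mem hk hk', by rw [mul_smul, h1],
        by rwa [mul_inv_rev, mul_smul, inv_smul_smul]⟩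
  have hE : ∀ i j, E (e i) (x • e j) ↔ j - i ∈ D := by
    intro i j
    have hshift : (q ^ i.val)⁻¹ • (x • e j) = x • e (j - i) := by
      rw [inv_smul_eq_iff]
      change x • (q ^ j.val • b) = q ^ i.val • (x • (q ^ (j - i).val • b))
      rw [smul_smul (q ^ i.val), ← (hxq.pow_right _).eq, mul_smul]
      congr 1
      rw [smul_smul, ← pow_add,
        PrimeCirculant23.pow_congr hqp (a := i.val + (j - i).val) (b := j.val) (by simp)]
    simp only [D, Finset.mem_filter, Finset.mem_univ, true_and, ← hshift]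
    constructor
    · rintro ⟨k, hk, h1, h2⟩
      have := hOinv ((q ^ i.val)⁻¹ * k) (mul_mem (inv_mem (pow_mem hqK _)) hk)
        (by rw [mul_smul, h1, inv_smul_smul]) _ h2
      rwa [mul_smul, smul_inv_smul] at this
    · intro h
      exact ⟨q ^ i.val, pow_mem hqK _, rfl, h⟩
  -- coordinates for the kernel
  have hπex : ∀ k : S.K a, ∀ i, ∃ j, e j = (k : G) • e i := fun k i =>
    hesurj _ (S.K_maps k.2 hb (hemem i))
  choose π hπ using hπex
  have hπbij : ∀ k, Function.Bijective (π k) := fun k => by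
    refine (Finite.injective_iff_bijective).1 fun i j h => heinj ?_
    have := hπ k i
    rw [h, hπ k j] at this
    exact (smul_left_cancel _ this).symm
  let L := CyclotomicField p ℚ
  haveI : NeZero p := ⟨hpp.ne_zero⟩
  haveI : IsCyclotomicExtension {p} ℚ L := CyclotomicField.isCyclotomicExtension p ℚ
  let ζ : L := IsCyclotomicExtension.zeta p ℚ L
  have hζ : IsPrimitiveRoot ζ p := IsCyclotomicExtension.zeta_spec p ℚ L
  let Aℤ : Matrix (ZMod p) (ZMod p) ℤ := Matrix.of fun i j => if E (e i) (x • e j) then 1 else 0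
  have hxn : ∀ (n : ℕ) (k : S.K a), (x ^ n)⁻¹ * k * x ^ n ∈ S.K a := fun n k => by
    refine (S.conj_K ?_).2 k.2
    exact mem_stabilizer_iff.1 (pow_mem (show x ∈ stabilizer G a from hxa) n)
  have hA' : ∀ (n : ℕ) (k : S.K a) i j,
      (Aℤ ^ n) (π k i) (π ⟨_, hxn n k⟩ j) = (Aℤ ^ n) i j := by
    intro n
    induction n with
    | zero =>
      intro k i j
      have : (⟨_, hxn 0 k⟩ : S.K a) = k := Subtype.ext (by simp)
      rw [this]
      simp [Matrix.one_apply, (hπbij k).1.eq_iff]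
    | succ n ih =>
      intro k i j
      rw [pow_succ, Matrix.mul_apply, Matrix.mul_apply,
        ← (hπbij ⟨_, hxn n k⟩).sum_comp fun l => (Aℤ ^ n) (π k i) l * Aℤ l _]
      refine Finset.sum_congr rfl fun l _ => ?_
      rw [ih]
      congr 1
      simp only [Aℤ, Matrix.of_apply, hπ]
      refine if_congr ?_ rfl rfl
      conv_rhs => rw [← hEK ((x ^ n)⁻¹ * k * x ^ n) (hxn n k)]
      have : x * ((x ^ (n + 1))⁻¹ * (k : G) * x ^ (n + 1)) =
          (x ^ n)⁻¹ * k * x ^ n * x := by rw [pow_succ]; group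
      simp only [← mul_smul, this]
  -- the wrap-around
  set w : G := x ^ p
  have hwK : w ∈ S.K a := hxp
  obtain ⟨t, ht⟩ := hesurj (w⁻¹ • b) (S.K_maps (inv_mem hwK) hb (S.mem hab))
  have hconst : ∀ j j', j ≠ t → j' ≠ t → (Aℤ ^ p) 0 j = (Aℤ ^ p) 0 j' := by
    intro j j' hj hj'
    have hne : ∀ i, i ≠ t → w • e i ≠ b := fun i hi h =>
      hi (heinj (by rw [ht, eq_inv_smul_iff, h]))
    obtain ⟨k, hk, hkb, hkj⟩ := htwo (w • e j) (S.K_maps hwK hb (hemem j)) (w • e j')
      (S.K_maps hwK hb (hemem j')) (hne j hj) (hne j' hj')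
    have h0 : π ⟨k, hk⟩ 0 = 0 := heinj (by
      rw [hπ]; simp only [e, ZMod.val_zero, pow_zero, one_smul, hkb])
    have h1 : π ⟨_, hxn p ⟨k, hk⟩⟩ j = j' := heinj (by
      rw [hπ]
      change (w⁻¹ * k * w) • e j = e j'
      rw [mul_smul, mul_smul, hkj, inv_smul_smul])
    have := hA' p ⟨k, hk⟩ 0 j
    rw [h0, h1] at this
    exact this.symm
  obtain ⟨j1, hj1⟩ := exists_ne t
  let A : Matrix (ZMod p) (ZMod p) L := (Int.castRingHom L).mapMatrix Aℤ
  obtain ⟨j0, hj0⟩ := PrimeCirculant23.singleton_or_compl hζ hp2 D hDne hDuniv t A (fun i j => by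
      simp only [A, RingHom.mapMatrix_apply, Matrix.map_apply, Aℤ, Matrix.of_apply]
      by_cases h : j - i ∈ D <;> simp [h, hE])
    ⟨(Aℤ ^ p) 0 t - (Aℤ ^ p) 0 j1, (Aℤ ^ p) 0 j1, fun j => by
      rw [← map_pow, RingHom.mapMatrix_apply, Matrix.map_apply]
      by_cases h : j = t
      · simp [h]
      · simp [h, hconst j j1 h hj1]⟩
  set φ := x • e j0 with hφ
  have hφB : φ ∈ S.B a c := by rw [← hxB]; exact Finset.smul_mem_smul_finset (hemem j0)
  rcases hj0 with hs | hs
  · -- a singleton orbit, so `c` is fixed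
    have hkc : k0 • c ∈ O := hOinv k0 hk0 hk0b c hcO
    have key : ∀ z ∈ O, z = φ := fun z hz => by
      obtain ⟨i, rfl⟩ := hxe z (hmemO.1 hz).1
      have : i ∈ D := by simp [D, hz]
      rw [hs, Finset.mem_singleton] at this
      rw [this]
    exact hk0c ((key _ hkc).trans (key c hcO).symm)
  have hOeq : O = (S.B a c).erase φ := by
    ext z
    constructor
    · intro hz
      obtain ⟨i, rfl⟩ := hxe z (hmemO.1 hz).1
      refine Finset.mem_erase.2 ⟨fun h => ?_, (hmemO.1 hz).1⟩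
      have : i ∈ D := by simp [D, hz]
      rw [hs] at this
      exact (Finset.mem_erase.1 this).1 (heinj (smul_left_cancel x h))
    · intro hz
      obtain ⟨hzφ, hzB⟩ := Finset.mem_erase.1 hz
      obtain ⟨i, rfl⟩ := hxe z hzB
      have : i ∈ D := hs ▸ Finset.mem_erase.2 ⟨fun h => hzφ (h ▸ rfl), Finset.mem_univ _⟩
      simpa [D] using this
  have hOX' : O = (S.B b a).erase a := by
    refine Finset.eq_of_subset_of_card_le hOX ?_
    rw [hOeq, Finset.card_erase_of_mem hφB, Finset.card_erase_of_mem (S.mem hb),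
      S.card (Ne.symm hca), S.card hb]
  have hφa : φ ≠ a := S.ne_of_mem (Ne.symm hca) hφB
  have hφb : φ ≠ b := fun h => hXB c hc hca (by
    rw [h] at hφB
    rw [S.eq_of_mem (Ne.symm hca) hφB]
    exact S.mem (Ne.symm hca))
  refine S.false_of_fixed hn hab 0 hφa hφb (fun h ha hb' _ => ?_)
    (fun y z hy hz h e => hinj y z hy hz (fun k hk hkb => h k hk.1 hkb (pow_zero k)) e)
  by_contra hne
  obtain ⟨hgc, hgca⟩ := hXinv h ha hb' c hc hca
  have hgcO : h • c ∈ O := hOX' ▸ Finset.mem_erase.2 ⟨hgca, hgc⟩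
  have hblockfix : h • S.B a c = S.B a c := by
    rw [S.block_smul hca ha]
    exact S.eq_of_mem (Ne.symm hca) (hmemO.1 hgcO).1
  have hmem : h • φ ∈ O := by
    rw [hOeq]
    exact Finset.mem_erase.2 ⟨hne, hblockfix ▸ Finset.smul_mem_smul_finset hφB⟩
  rw [hOX', Finset.mem_erase] at hmem
  have := (hXinv h⁻¹ (inv_smul_eq_iff.2 ha.symm) (inv_smul_eq_iff.2 hb'.symm) _ hmem.2 hmem.1)
  rw [inv_smul_smul] at this
  have hφO : φ ∈ O := hOX' ▸ Finset.mem_erase.2 ⟨this.2, this.1⟩
  rw [hOeq] at hφO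
  exact (Finset.mem_erase.1 hφO).1 rfl

end WithQ

include S in
theorem main {a b : Ω} (hab : a ≠ b) : p = 2 ∧ Nat.card G = 20 := by
  obtain ⟨q, hqK, hqp, hq1⟩ := S.exists_q hn hab.symm
  by_cases hA : ∀ k ∈ S.K a, ∃ m : ℕ, k * q * k⁻¹ = q ^ m
  · by_cases hC : ∀ g : G, g • a = a → g • b = b → Commute g q → g = 1
    · exact S.caseA2 hn hqK hqp hq1 hA hab hC
    · push Not at hC
      obtain ⟨g, h1, h2, h3, h4⟩ := hC
      exact (S.caseA1 hn hqK hqp hq1 hA hab h1 h2 h3 h4).elim
  · exact (S.caseB hn hqK hqp hq1 hA hab).elim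

end Sys

end Cfsg.Agent.PSquarePlusOne23
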