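import Mathlib
import Cfsg.Agent.Lib.IsolatedInv

/-!
Sets of involutions in which any two members commute or have product of order `p` (`p` an odd prime):
midpoints, the line through two noncommuting members, commuting pairs with product in the set.
-/

set_option autoImplicit false
set_option linter.unusedSectionVars false

namespace Cfsg.Agent.PTransp70

open Cfsg.Agent

variable {G : Type*} [Group G]

/-- Conjugation-closed involutions, any two commuting or with product of order dividing `p`. -/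
structure IsPSet (p : ℕ) (D : Set G) : Prop where
  two : ∀ a ∈ D, orderOf a = 2
  conj : ∀ a ∈ D, ∀ g : G, g * a * g⁻¹ ∈ D
  pair : ∀ a ∈ D, ∀ b ∈ D, Commute a b ∨ (a * b) ^ p = 1

/-- The member of the line of `a`, `b` interchanging `a` and `b`. -/
def mid (p : ℕ) (a b : G) : G := a * (a * b) ^ ((p + 1) / 2)

namespace IsPSet

variable {p : ℕ} {D : Set G} (hD : IsPSet p D)
include hD

theorem mul_self {a : G} (ha : a ∈ D) : a * a = 1 := IsolatedInv.sq_of_orderOf_two (hD.two a ha)

theorem inv_eq {a : G} (ha : a ∈ D) : a⁻¹ = a := IsolatedInv.inv_eq_self_of_sq (hD.mul_self ha)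

theorem ne_one {a : G} (ha : a ∈ D) : a ≠ 1 := IsolatedInv.ne_one_of_orderOf_two (hD.two a ha)

theorem mul_mul {a : G} (ha : a ∈ D) (x : G) : a * (a * x) = x := by
  rw [← mul_assoc, hD.mul_self ha, one_mul]

theorem conj' {a g : G} (ha : a ∈ D) (hg : g * g = 1) : g * a * g ∈ D := by
  have := hD.conj a ha g
  rwa [IsolatedInv.inv_eq_self_of_sq hg] at this

theorem pow_eq_one {a b : G} (ha : a ∈ D) (hb : b ∈ D) (h : ¬ Commute a b) : (a * b) ^ p = 1 :=
  (hD.pair a ha b hb).resolve_left h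

theorem commute_of_sq {a b : G} (ha : a ∈ D) (hb : b ∈ D) (h : (a * b) * (a * b) = 1) :
    Commute a b := by
  calc a * b = (a * b)⁻¹ := (inv_eq_of_mul_eq_one_right h).symm
    _ = b * a := by rw [mul_inv_rev, hD.inv_eq ha, hD.inv_eq hb]

theorem inverts {a b : G} (ha : a ∈ D) (hb : b ∈ D) (j : ℕ) :
    a * (a * b) ^ j * a = ((a * b) ^ j)⁻¹ := by
  have := IsolatedInv.conj_mul_pow (hD.mul_self ha) (hD.mul_self hb) j
  rwa [hD.inv_eq ha] at this

theorem inv_mul_pow {a b : G} (ha : a ∈ D) (hb : b ∈ D) (j : ℕ) :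
    ((a * b) ^ j)⁻¹ * a = a * (a * b) ^ j := by
  rw [← hD.inverts ha hb j, mul_assoc, hD.mul_self ha, mul_one]

theorem mul_inv_pow {a b : G} (ha : a ∈ D) (hb : b ∈ D) (j : ℕ) :
    a * ((a * b) ^ j)⁻¹ = (a * b) ^ j * a := by
  rw [← hD.inverts ha hb j, mul_assoc a _ a, hD.mul_mul ha]

theorem conj_pow_line {a b : G} (ha : a ∈ D) (hb : b ∈ D) (k : ℕ) :
    ((a * b) ^ k)⁻¹ * a * (a * b) ^ k = a * (a * b) ^ (2 * k) := by
  rw [hD.inv_mul_pow ha hb k, mul_assoc, ← pow_add, two_mul]

theorem commute_mul {a b z : G} (hza : Commute z a) (hzb : Commute z b) (j : ℕ) :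
    Commute z (a * (a * b) ^ j) := hza.mul_right ((hza.mul_right hzb).pow_right j)

section prime

variable (hp : p.Prime) (hp3 : 3 ≤ p)
include hp hp3

theorem p_mod_two : p % 2 = 1 := by
  rcases hp.eq_two_or_odd with h | h <;> omega

theorem two_half : 2 * ((p + 1) / 2) = p + 1 := by
  have := hD.p_mod_two hp hp3
  omega

theorem orderOf_eq {a b : G} (ha : a ∈ D) (hb : b ∈ D) (h : ¬ Commute a b) :
    orderOf (a * b) = p := by
  have := Fact.mk hp
  refine orderOf_eq_prime (hD.pow_eq_one ha hb h) fun h1 => h ?_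
  have : b = a := by rw [← hD.mul_mul ha b, h1, mul_one]
  rw [this]

theorem line_mem {a b : G} (ha : a ∈ D) (hb : b ∈ D) (h : ¬ Commute a b) (j : ℕ) :
    a * (a * b) ^ j ∈ D := by
  have h1 : (a * b) ^ j = (a * b) ^ (2 * (j * ((p + 1) / 2))) := by
    rw [show 2 * (j * ((p + 1) / 2)) = j * (2 * ((p + 1) / 2)) by ring, hD.two_half hp hp3,
      mul_comm j, pow_mul, pow_succ, hD.pow_eq_one ha hb h, one_mul]
  rw [h1, ← hD.conj_pow_line ha hb]
  have := hD.conj a ha ((a * b) ^ (j * ((p + 1) / 2)))⁻¹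
  rwa [inv_inv] at this

theorem mid_mem {a b : G} (ha : a ∈ D) (hb : b ∈ D) (h : ¬ Commute a b) : mid p a b ∈ D :=
  hD.line_mem hp hp3 ha hb h _

theorem mid_conj {a b : G} (ha : a ∈ D) (hb : b ∈ D) (h : ¬ Commute a b) :
    mid p a b * a * mid p a b = b := by
  unfold mid
  rw [mul_assoc a _ a, ← hD.mul_inv_pow ha hb, hD.mul_mul ha, ← hD.inv_mul_pow ha hb]
  rw [hD.inv_mul_pow ha hb, ← mul_assoc, hD.inv_mul_pow ha hb, mul_assoc, ← pow_add]
  rw [← two_mul, hD.two_half hp hp3, pow_succ, hD.pow_eq_one ha hb h, one_mul, hD.mul_mul ha]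

theorem mid_conj' {a b : G} (ha : a ∈ D) (hb : b ∈ D) (h : ¬ Commute a b) :
    mid p a b * b * mid p a b = a := by
  have hm := hD.mul_self (hD.mid_mem hp hp3 ha hb h)
  have e := hD.mid_conj hp hp3 ha hb h
  generalize mid p a b = μ at hm e ⊢
  rw [← e, show μ * (μ * a * μ) * μ = (μ * μ) * a * (μ * μ) by group, hm, one_mul, mul_one]

theorem mid_symm {a b : G} (ha : a ∈ D) (hb : b ∈ D) (h : ¬ Commute a b) :
    mid p b a = mid p a b := by
  unfold mid
  have h1 : b * a = (a * b)⁻¹ := by rw [mul_inv_rev, hD.inv_eq ha, hD.inv_eq hb]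
  have h2 : (a * b) ^ ((p + 1) / 2) * (a * b) ^ ((p + 1) / 2) = a * b := by
    rw [← pow_add, ← two_mul, hD.two_half hp hp3, pow_succ, hD.pow_eq_one ha hb h, one_mul]
  rw [h1, inv_pow]
  generalize (a * b) ^ ((p + 1) / 2) = v at h2 ⊢
  rw [← hD.mul_mul ha b, ← h2]
  group

theorem mid_fix {a b g : G} (ha : a ∈ D) (hb : b ∈ D) (h : ¬ Commute a b)
    (h1 : g * a * g⁻¹ = b) (h2 : g * b * g⁻¹ = a) : g * mid p a b * g⁻¹ = mid p a b := by
  conv_rhs => rw [← hD.mid_symm hp hp3 ha hb h]
  unfold mid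
  rw [← MulAut.conj_apply, map_mul, map_pow, map_mul, MulAut.conj_apply, MulAut.conj_apply, h1, h2]

theorem commute_mid_of_swap {a b g : G} (ha : a ∈ D) (hb : b ∈ D) (h : ¬ Commute a b)
    (h1 : g * a * g⁻¹ = b) (h2 : g * b * g⁻¹ = a) : Commute g (mid p a b) :=
  mul_inv_eq_iff_eq_mul.1 (hD.mid_fix hp hp3 ha hb h h1 h2)

theorem commute_mid {a b z : G} (hza : Commute z a) (hzb : Commute z b) :
    Commute z (mid p a b) := hD.commute_mul hza hzb _

/-- With a commuting pair whose product is in the set, commuting with one member is commuting with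
the other. -/
theorem commute_partner {x d z : G} (hx : x ∈ D) (hd : d ∈ D) (hxd : Commute x d) (ht : x * d ∈ D)
    (hz : z ∈ D) (hzx : Commute z x) : Commute z d := by
  by_contra h
  have hd' : d = x * (x * d) := (hD.mul_mul hx d).symm
  rcases hD.pair z hz (x * d) ht with hc | hc
  · exact h (hd' ▸ hzx.mul_right hc)
  · have hxzd : Commute x (z * d) := hzx.symm.mul_right hxd
    have e : z * (x * d) = x * (z * d) := by rw [← mul_assoc, hzx.eq, mul_assoc]
    rw [e, hxzd.mul_pow, hD.pow_eq_one hz hd h, mul_one] at hc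
    have := orderOf_dvd_of_pow_eq_one hc
    rw [hD.two x hx] at this
    have := hD.p_mod_two hp hp3
    omega

/-- The members commuting with a product of two commuting members commute with both. -/
theorem commute_of_prod {x d z : G} (hx : x ∈ D) (hd : d ∈ D) (hxd : Commute x d) (hne : x ≠ d)
    (hz : z ∈ D) (hze : Commute z (x * d)) : Commute z x ∧ Commute z d := by
  have hd' : d = x * (x * d) := (hD.mul_mul hx d).symm
  suffices h : Commute z x from ⟨h, hd' ▸ h.mul_right hze⟩
  by_contra h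
  have hxe : Commute x (x * d) := (Commute.refl x).mul_right hxd
  have hxz : ¬ Commute x z := fun hc => h hc.symm
  have hm := hD.mid_mem hp hp3 hx hz hxz
  have hme : Commute (x * d) (mid p x z) := hD.commute_mid hp hp3 hxe.symm hze.symm
  have h1 : z * (x * d) ∈ D := by
    have := hD.conj' hd (hD.mul_self hm)
    rw [hd', ← mul_assoc, mul_assoc _ (x * d), hme.eq, ← mul_assoc,
      hD.mid_conj hp hp3 hx hz hxz] at this
    exact this
  rcases hD.pair x hx _ h1 with hc | hc
  · refine hxz ?_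
    have hinv : (x * d)⁻¹ = x * d := by rw [mul_inv_rev, hD.inv_eq hx, hD.inv_eq hd, hxd.eq]
    have := hc.mul_right (hxe.inv_right)
    rwa [mul_inv_cancel_right] at this
  · rw [← mul_assoc, ((hxe.symm).mul_right hze.symm).symm.mul_pow, hD.pow_eq_one hx hz hxz,
      one_mul] at hc
    have hsq : (x * d) ^ 2 = 1 := by
      rw [hxd.mul_pow, pow_two, pow_two, hD.mul_self hx, hD.mul_self hd, one_mul]
    have h2 := Nat.dvd_gcd (orderOf_dvd_of_pow_eq_one hc) (orderOf_dvd_of_pow_eq_one hsq)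
    have hg : Nat.gcd p 2 = 1 :=
      (Nat.coprime_primes hp Nat.prime_two).2 (by omega)
    rw [hg, Nat.dvd_one, orderOf_eq_one_iff] at h2
    exact hne ((mul_left_cancel (h2.trans (hD.mul_self hx).symm)).symm)


end prime

end IsPSet

end Cfsg.Agent.PTransp70
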