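import Cfsg.Agent.Lib.PTranspMin70
import Cfsg.Agent.Lib.PTranspAux70

/-!
In a smallest counterexample the cliques of the commuting relation: every involution is a member and
fixes only one clique, two cliques have exactly `p` interchanging members, and centralisers of
products of noncommuting members have odd order.
-/

set_option autoImplicit false
set_option linter.unusedSectionVars false

universe u

namespace Cfsg.Agent.PTransp70

variable {G : Type u} [Group G] [Finite G] {p : ℕ} {D : Set G}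

namespace Min

variable (M : Min p D)
include M

@[reducible] def setoid : Setoid D where
  r a b := Commute (a : G) (b : G)
  iseqv := ⟨fun a => Commute.refl _, fun h => h.symm, fun {a b c} h h' => M.trans a.2 b.2 c.2 h h'⟩

/-- The cliques. -/
abbrev Cl : Type u := Quotient M.setoid

/-- The clique of a member. -/
def cl (a : G) (ha : a ∈ D) : M.Cl := Quotient.mk M.setoid ⟨a, ha⟩

/-- Conjugation on cliques. -/
def mv (g : G) : M.Cl → M.Cl :=
  Quotient.map (fun a => (⟨g * a * g⁻¹, M.set.conj a a.2 g⟩ : D))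
    fun _ _ h => h.map (MulAut.conj g).toMonoidHom

theorem mk_eq {a b : G} {ha : a ∈ D} {hb : b ∈ D} : M.cl a ha = M.cl b hb ↔ Commute a b :=
  Quotient.eq (r := M.setoid)

theorem ind {P : M.Cl → Prop} (h : ∀ a ha, P (M.cl a ha)) (K : M.Cl) : P K :=
  Quotient.inductionOn K fun a => h a.1 a.2

theorem mk_congr {a b : G} (h : a = b) (ha : a ∈ D) : M.cl a ha = M.cl b (h ▸ ha) := by
  subst h; rfl

theorem mv_mk (g a : G) (ha : a ∈ D) :
    M.mv g (M.cl a ha) = M.cl (g * a * g⁻¹) (M.set.conj a ha g) := rfl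

theorem mv_one (K : M.Cl) : M.mv 1 K = K := by
  induction K using M.ind with
  | h a ha => rw [M.mv_mk, M.mk_eq]; simp

theorem mv_mul (g h : G) (K : M.Cl) : M.mv (g * h) K = M.mv g (M.mv h K) := by
  induction K using M.ind with
  | h a ha => rw [M.mv_mk, M.mv_mk, M.mv_mk, M.mk_eq]; simp [mul_assoc]

/-- Conjugation as permutations. -/
def perm : G →* Equiv.Perm M.Cl where
  toFun g :=
    { toFun := M.mv g
      invFun := M.mv g⁻¹
      left_inv := fun K => by rw [← M.mv_mul, inv_mul_cancel, M.mv_one]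
      right_inv := fun K => by rw [← M.mv_mul, mul_inv_cancel, M.mv_one] }
  map_one' := Equiv.ext M.mv_one
  map_mul' g h := Equiv.ext (M.mv_mul g h)

theorem mv_involution {s : G} (hs : s * s = 1) {K K' : M.Cl} (h : M.mv s K = K') :
    M.mv s K' = K := by
  rw [← h, ← M.mv_mul, hs, M.mv_one]

theorem mv_self {a : G} (ha : a ∈ D) {K : M.Cl} (h : M.mv a K = K) : M.cl a ha = K := by
  induction K using M.ind with
  | h b hb =>
    rw [M.mv_mk, M.mk_eq, M.set.inv_eq ha] at h
    exact M.mk_eq.2 (M.commute_of_conj_commute ha hb h)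

theorem mv_eq_self_of_commute {a g : G} (ha : a ∈ D) (h : Commute g a) :
    M.mv g (M.cl a ha) = M.cl a ha := by
  rw [M.mv_mk, M.mk_eq, h.eq, mul_inv_cancel_right]

/-- The members of a clique. -/
def clique (K : M.Cl) : Set G := {z | ∃ hz : z ∈ D, M.cl z hz = K}

/-- The members interchanging two cliques. -/
def swap (K K' : M.Cl) : Set G := {x | x ∈ D ∧ M.mv x K = K'}

theorem exists_member (K : M.Cl) : ∃ a, ∃ ha : a ∈ D, M.cl a ha = K := by
  induction K using M.ind with
  | h a ha => exact ⟨a, ha, rfl⟩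

theorem card_clique_eq (K K' : M.Cl) : Nat.card (M.clique K) = Nat.card (M.clique K') := by
  suffices ∀ K K', Nat.card (M.clique K) ≤ Nat.card (M.clique K') from
    le_antisymm (this K K') (this K' K)
  intro K K'
  obtain ⟨a, ha, rfl⟩ := M.exists_member K
  obtain ⟨b, hb, rfl⟩ := M.exists_member K'
  obtain ⟨g, rfl⟩ := M.cls a ha b hb
  refine Nat.card_le_card_of_injective (fun z => ⟨g * z.1 * g⁻¹, M.set.conj _ z.2.1 g, ?_⟩)
    fun z w h => Subtype.ext ?_
  · rw [← M.mv_mk g z.1 z.2.1, z.2.2, M.mv_mk]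
  · simpa using congrArg Subtype.val h

theorem mid_mem_swap {a b : G} (ha : a ∈ D) (hb : b ∈ D) (h : ¬ Commute a b) :
    mid p a b ∈ M.swap (M.cl a ha) (M.cl b hb) := by
  have hm := M.set.mid_mem M.prime M.three_le ha hb h
  refine ⟨hm, ?_⟩
  rw [M.mv_mk, M.mk_eq, M.set.inv_eq hm, M.set.mid_conj M.prime M.three_le ha hb h]

theorem swap_nonempty {K K' : M.Cl} (h : K ≠ K') : (M.swap K K').Nonempty := by
  obtain ⟨a, ha, rfl⟩ := M.exists_member K
  obtain ⟨b, hb, rfl⟩ := M.exists_member K'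
  exact ⟨_, M.mid_mem_swap ha hb (fun e => h (M.mk_eq.2 e))⟩

theorem swap_symm {K K' : M.Cl} {x : G} (hx : x ∈ M.swap K K') : x ∈ M.swap K' K :=
  ⟨hx.1, M.mv_involution (M.set.mul_self hx.1) hx.2⟩

/-- The interchanging member of two noncommuting members is unique. -/
theorem eq_mid {a b n : G} (ha : a ∈ D) (hb : b ∈ D) (hn : n ∈ D) (h : ¬ Commute a b)
    (hna : n * a * n = b) : n = mid p a b := by
  have hp := M.prime
  have hm := M.set.mid_mem hp M.three_le ha hb h
  have hn2 := M.set.mul_self hn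
  have hnb : n * b * n = a := by
    rw [← hna, show n * (n * a * n) * n = (n * n) * a * (n * n) by group, hn2, one_mul, mul_one]
  have hc : Commute n (mid p a b) := M.set.commute_mid_of_swap hp M.three_le ha hb h
    (by rw [M.set.inv_eq hn, hna]) (by rw [M.set.inv_eq hn, hnb])
  by_contra hne
  have hv := M.prod_mem hn hm hc hne
  have key : ∀ z ∈ D, (n * mid p a b) * z * (n * mid p a b) = z →
      Commute (n * mid p a b) z := fun z _ e => by
    have := congrArg (· * (n * mid p a b)) e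
    change n * mid p a b * z = z * (n * mid p a b)
    have h4 : n * mid p a b * z * (n * mid p a b) * (n * mid p a b) = n * mid p a b * z := by
      rw [mul_assoc _ (n * mid p a b), M.set.mul_self hv, mul_one]
    exact h4.symm.trans this
  have h1 := M.set.mid_conj hp M.three_le ha hb h
  have h2 := M.set.mid_conj' hp M.three_le ha hb h
  generalize mid p a b = μ at hm hc hv key h1 h2
  have e1 : (n * μ) * a * (n * μ) = a := by
    nth_rw 2 [hc.eq]
    rw [show n * μ * a * (μ * n) = n * (μ * a * μ) * n by group, h1, hnb]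
  have e2 : (n * μ) * b * (n * μ) = b := by
    nth_rw 2 [hc.eq]
    rw [show n * μ * b * (μ * n) = n * (μ * b * μ) * n by group, h2, hna]
  exact h (M.trans ha hv hb (key a ha e1).symm (key b hb e2))

theorem card_swap {K K' : M.Cl} (h : K ≠ K') :
    Nat.card (M.swap K K') = Nat.card (M.clique K') := by
  obtain ⟨a, ha, rfl⟩ := M.exists_member K
  refine Nat.card_congr (Equiv.ofBijective
    (fun x => ⟨x.1 * a * x.1⁻¹, M.set.conj a ha x.1, ?_⟩) ⟨?_, ?_⟩)
  · rw [← M.mv_mk]; exact x.2.2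
  · intro x y e
    have e' : x.1 * a * x.1⁻¹ = y.1 * a * y.1⁻¹ := congrArg Subtype.val e
    have hne : ¬ Commute a (x.1 * a * x.1⁻¹) := fun hc => h (by
      rw [← x.2.2, M.mv_mk]; exact M.mk_eq.2 hc)
    refine Subtype.ext ?_
    rw [M.eq_mid ha (M.set.conj a ha _) x.2.1 hne (congrArg (x.1 * a * ·) (M.set.inv_eq x.2.1).symm),
      M.eq_mid ha (M.set.conj a ha _) y.2.1 hne ((congrArg (y.1 * a * ·) (M.set.inv_eq y.2.1).symm).trans e'.symm)]
  · rintro ⟨b, hb, hbK⟩
    have hab : ¬ Commute a b := fun hc => h (by rw [← hbK]; exact M.mk_eq.2 hc)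
    refine ⟨⟨mid p a b, hbK ▸ M.mid_mem_swap ha hb hab⟩, Subtype.ext ?_⟩
    change mid p a b * a * (mid p a b)⁻¹ = b
    rw [M.set.inv_eq (M.set.mid_mem M.prime M.three_le ha hb hab),
      M.set.mid_conj M.prime M.three_le ha hb hab]

theorem swap_not_commute {K K' : M.Cl} (h : K ≠ K') {x y : G} (hx : x ∈ M.swap K K')
    (hy : y ∈ M.swap K K') (hne : x ≠ y) : ¬ Commute x y := fun hc => by
  have hv := M.prod_mem hx.1 hy.1 hc hne
  have hK : M.mv (x * y) K = K := by rw [M.mv_mul, hy.2, (M.swap_symm hx).2]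
  have hK' : M.mv (x * y) K' = K' := by rw [M.mv_mul, (M.swap_symm hy).2, hx.2]
  exact h ((M.mv_self hv hK).symm.trans (M.mv_self hv hK'))

theorem swap_conj {K K' : M.Cl} {x y : G} (hx : x ∈ M.swap K K') (hy : y ∈ M.swap K K') :
    x * y * x ∈ M.swap K K' := by
  refine ⟨M.set.conj' hy.1 (M.set.mul_self hx.1), ?_⟩
  rw [M.mv_mul, M.mv_mul, hx.2, (M.swap_symm hy).2, hx.2]

theorem swap_line {K K' : M.Cl} {r r' : G} (hr : r ∈ M.swap K K') (hr' : r' ∈ M.swap K K') :
    ∀ j : ℕ, r * (r * r') ^ j ∈ M.swap K K'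
  | 0 => by simpa using hr
  | 1 => by
    rw [pow_one, M.set.mul_mul hr.1]
    exact hr'
  | j + 2 => by
    have hX := M.swap_conj hr' (M.swap_conj hr (swap_line hr hr' j))
    have e : r * (r * r') ^ (j + 2) = r' * (r * (r * (r * r') ^ j) * r) * r' := by
      rw [M.set.mul_mul hr.1 ((r * r') ^ j), pow_succ, pow_succ', ← mul_assoc, ← mul_assoc r,
        M.set.mul_mul hr.1]
      group
    rwa [e]

theorem le_card_clique (K : M.Cl) : p ≤ Nat.card (M.clique K) := by
  obtain ⟨a, ha, rfl⟩ := M.exists_member K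
  obtain ⟨b, hb, hab⟩ := M.outsider ha
  have hne : M.cl a ha ≠ M.cl b hb := fun e => hab (M.mk_eq.1 e)
  obtain ⟨a', ha', haa', ht⟩ := M.partner ha
  have hane : a ≠ a' := fun e => M.set.ne_one ht (by rw [← e, M.set.mul_self ha])
  have h2 : 1 < Nat.card (M.clique (M.cl a ha)) := by
    rw [Finite.one_lt_card_iff_nontrivial]
    exact ⟨⟨a, ha, rfl⟩, ⟨a', ha', M.mk_eq.2 haa'.symm⟩, fun e => hane (congrArg Subtype.val e)⟩
  rw [M.card_clique_eq _ (M.cl b hb), ← M.card_swap hne] at h2 ⊢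
  obtain ⟨⟨r, hr⟩, ⟨r', hr'⟩, hrr⟩ := Finite.one_lt_card_iff_nontrivial.1 h2
  have hnc := M.swap_not_commute hne hr hr' fun e => hrr (Subtype.ext e)
  have hord := M.set.orderOf_eq M.prime M.three_le hr.1 hr'.1 hnc
  calc p = Nat.card (Fin p) := (Nat.card_fin p).symm
    _ ≤ _ := Nat.card_le_card_of_injective
        (fun j => ⟨r * (r * r') ^ (j : ℕ), M.swap_line hr hr' j⟩) fun i j e => by
        have e' := mul_left_cancel (congrArg Subtype.val e)
        exact Fin.ext (pow_injOn_Iio_orderOf (Set.mem_Iio.2 (hord.symm ▸ i.2))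
          (Set.mem_Iio.2 (hord.symm ▸ j.2)) e')

theorem five_le_card (K : M.Cl) : 5 ≤ Nat.card (M.clique K) :=
  le_trans M.five_le (M.le_card_clique K)

/-- A clique with the identity. -/
def cliqueGrp (K : M.Cl) : Subgroup G where
  carrier := insert 1 (M.clique K)
  one_mem' := Set.mem_insert _ _
  mul_mem' := by
    rintro a b (rfl | ⟨ha, hKa⟩) hb
    · rwa [one_mul]
    rcases hb with rfl | ⟨hb, hKb⟩
    · rw [mul_one]; exact Or.inr ⟨ha, hKa⟩
    have hab : Commute a b := M.mk_eq.1 (hKa.trans hKb.symm)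
    by_cases e : a = b
    · subst e; exact Or.inl (M.set.mul_self ha)
    · exact Or.inr ⟨M.prod_mem ha hb hab e,
        (M.mk_eq.2 (((Commute.refl a).mul_right hab).symm)).trans hKa⟩
  inv_mem' := by
    rintro a (rfl | ⟨ha, hKa⟩)
    · simp
    · rw [M.set.inv_eq ha]; exact Or.inr ⟨ha, hKa⟩

theorem card_cliqueGrp (K : M.Cl) :
    Nat.card (M.cliqueGrp K) = Nat.card (M.clique K) + 1 := by
  change Nat.card (insert 1 (M.clique K) : Set G) = _
  rw [Nat.card_coe_set_eq, Set.ncard_insert_of_notMem (fun h => M.set.ne_one h.1 rfl),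
    Nat.card_coe_set_eq]

theorem cliqueGrp_sq (K : M.Cl) {z : G} (hz : z ∈ M.cliqueGrp K) : z * z = 1 := by
  rcases hz with rfl | ⟨hz, -⟩
  · simp
  · exact M.set.mul_self hz

theorem cliqueGrp_comm (K : M.Cl) {z w : G} (hz : z ∈ M.cliqueGrp K) (hw : w ∈ M.cliqueGrp K) :
    Commute z w := by
  rcases hz with rfl | ⟨hz, hKz⟩
  · exact Commute.one_left _
  rcases hw with rfl | ⟨hw, hKw⟩
  · exact Commute.one_right _
  exact M.mk_eq.1 (hKz.trans hKw.symm)

theorem two_fixed {s : G} (hs : s * s = 1) {K : M.Cl} (h : M.mv s K = K) :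
    ∃ a a', a ∈ M.clique K ∧ a' ∈ M.clique K ∧ a ≠ a' ∧ Commute s a ∧ Commute s a' := by
  set E := M.cliqueGrp K with hE
  have hst : ∀ z ∈ E, s * z * s ∈ E := by
    rintro z (rfl | ⟨hz, hKz⟩)
    · rw [mul_one, hs]; exact E.one_mem
    · refine Or.inr ⟨M.set.conj' hz hs, ?_⟩
      conv_rhs => rw [← h, ← hKz, M.mv_mk]
      exact M.mk_eq.2 (by rw [IsolatedInv.inv_eq_self_of_sq hs])
  set C : Subgroup E := (Subgroup.centralizer {s}).subgroupOf E with hC
  let f : E → C := fun z => ⟨⟨z.1 * (s * z.1 * s), E.mul_mem z.2 (hst _ z.2)⟩, by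
    rw [hC, Subgroup.mem_subgroupOf, Subgroup.mem_centralizer_singleton_iff]
    have hc := M.cliqueGrp_comm K z.2 (hst _ z.2)
    calc z.1 * (s * z.1 * s) * s = z.1 * s * z.1 * (s * s) := by group
      _ = s * (s * z.1 * s * z.1) := by rw [hs, mul_one]; simp [← mul_assoc, hs]
      _ = s * (z.1 * (s * z.1 * s)) := by rw [hc.eq]⟩
  have hfib : ∀ z w : E, f z = f w → z.1 * w.1 ∈ Subgroup.centralizer {s} := by
    intro z w e
    have e' : z.1 * (s * z.1 * s) = w.1 * (s * w.1 * s) := congrArg (fun c : C => (c : E).1) e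
    rw [Subgroup.mem_centralizer_singleton_iff]
    have h1 := M.cliqueGrp_comm K w.2 (hst _ z.2)
    have hw := M.cliqueGrp_sq K w.2
    have hz := M.cliqueGrp_sq K z.2
    have e2 : s * z.1 * s * (s * w.1 * s) = z.1 * w.1 := by
      have h3 : w.1 * (s * z.1 * s) * (s * w.1 * s) = w.1 * z.1 * w.1 := by
        calc w.1 * (s * z.1 * s) * (s * w.1 * s)
            = (s * z.1 * s) * (w.1 * (s * w.1 * s)) := by rw [h1.eq, mul_assoc]
          _ = (s * z.1 * s) * (z.1 * (s * z.1 * s)) := by rw [e']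
          _ = z.1 * ((s * z.1 * s) * (s * z.1 * s)) := by
              rw [← mul_assoc, ← (M.cliqueGrp_comm K z.2 (hst _ z.2)).eq, mul_assoc]
          _ = z.1 := by rw [M.cliqueGrp_sq K (hst _ z.2), mul_one]
          _ = w.1 * z.1 * w.1 := by
              rw [(M.cliqueGrp_comm K w.2 z.2).eq, mul_assoc, hw, mul_one]
      exact mul_left_cancel (a := w.1) (by rw [← mul_assoc, h3, mul_assoc])
    rw [show s * z.1 * s * (s * w.1 * s) = s * (z.1 * (s * s) * w.1) * s by group, hs, mul_one] at e2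
    calc z.1 * w.1 * s = (s * (z.1 * w.1) * s) * s := by rw [e2]
      _ = s * (z.1 * w.1) := by rw [mul_assoc _ s s, hs, mul_one]
  classical
  have hle : Nat.card E ≤ Nat.card C * Nat.card C := by
    rw [← Nat.card_prod]
    let σ : C → E := fun c => if hc : ∃ z, f z = c then hc.choose else 1
    have hσ : ∀ z, f (σ (f z)) = f z := fun z => by
      have : ∃ w, f w = f z := ⟨z, rfl⟩
      simp only [σ, dif_pos this]
      exact this.choose_spec
    refine Nat.card_le_card_of_injective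
      (fun z => (f z, (⟨⟨z.1 * (σ (f z)).1, E.mul_mem z.2 (σ (f z)).2⟩,
        hfib _ _ (hσ z).symm⟩ : C))) fun z w e => Subtype.ext ?_
    obtain ⟨e1, e2⟩ := Prod.mk.inj e
    have e2' : z.1 * (σ (f z)).1 = w.1 * (σ (f w)).1 := congrArg (fun c : C => (c : E).1) e2
    rw [e1] at e2'
    exact mul_right_cancel e2'
  rw [M.card_cliqueGrp] at hle
  have h5 := M.five_le_card K
  have h3 : 3 ≤ Nat.card C := by
    by_contra hlt
    have := Nat.mul_le_mul (show Nat.card C ≤ 2 by omega) (show Nat.card C ≤ 2 by omega)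
    omega
  have : ∃ a a' : C, a ≠ 1 ∧ a' ≠ 1 ∧ a ≠ a' := by
    have := Fintype.ofFinite C
    rw [Nat.card_eq_fintype_card] at h3
    have h2 : 1 < (Finset.univ.erase (1 : C)).card := by
      rw [Finset.card_erase_of_mem (Finset.mem_univ _), Finset.card_univ]; omega
    obtain ⟨a, ha, a', ha', hne⟩ := Finset.one_lt_card.1 h2
    exact ⟨a, a', (Finset.mem_erase.1 ha).1, (Finset.mem_erase.1 ha').1, hne⟩
  obtain ⟨a, a', ha, ha', hne⟩ := this
  have hmem : ∀ c : C, c ≠ 1 → (c : E).1 ∈ M.clique K := fun c hc =>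
    ((c : E).2).resolve_left fun e => hc (Subtype.ext (Subtype.ext e))
  exact ⟨_, _, hmem a ha, hmem a' ha', fun e => hne (Subtype.ext (Subtype.ext e)),
    (Subgroup.mem_centralizer_singleton_iff.1 (Subgroup.mem_subgroupOf.1 a.2)).symm,
    (Subgroup.mem_centralizer_singleton_iff.1 (Subgroup.mem_subgroupOf.1 a'.2)).symm⟩

/-- An involution fixes at most one clique. -/
theorem unique_fix {s : G} (hs : s * s = 1) (hs1 : s ≠ 1) {K K' : M.Cl} (h : M.mv s K = K)
    (h' : M.mv s K' = K') : K = K' := by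
  by_contra hne
  obtain ⟨a, a', ⟨ha, hKa⟩, ⟨ha', hKa'⟩, hd, hsa, hsa'⟩ := M.two_fixed hs h
  obtain ⟨b, -, ⟨hb, hKb⟩, -, -, hsb, -⟩ := M.two_fixed hs h'
  have haa : Commute a a' := M.mk_eq.1 (hKa.trans hKa'.symm)
  exact hs1 (M.eq_one_of_centralizes ha ha' hb haa (M.prod_mem ha ha' haa hd)
    (fun hc => hne (by rw [← hKa, ← hKb]; exact M.mk_eq.2 hc)) hsa hsa' hsb)

theorem exists_other (K : M.Cl) : ∃ K', K' ≠ K := by
  obtain ⟨a, ha, rfl⟩ := M.exists_member K
  obtain ⟨b, hb, hab⟩ := M.outsider ha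
  exact ⟨M.cl b hb, fun e => hab (M.mk_eq.1 e).symm⟩

/-- Every involution is a member. -/
theorem mem_of_sq {s : G} (hs : s * s = 1) (hs1 : s ≠ 1) : s ∈ D := by
  by_contra hsD
  have hinv := IsolatedInv.inv_eq_self_of_sq hs
  obtain ⟨K, hK⟩ : ∃ K, M.mv s K = K := by
    obtain ⟨z, hz, -⟩ := M.line
    have hz' := M.set.conj z hz s
    by_cases hc : Commute z (s * z * s⁻¹)
    · exact ⟨M.cl z hz, by rw [M.mv_mk, M.mk_eq]; exact hc.symm⟩
    · have hm := M.set.mid_mem M.prime M.three_le hz hz' hc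
      refine ⟨M.cl _ hm, M.mv_eq_self_of_commute hm ?_⟩
      refine M.set.commute_mid_of_swap M.prime M.three_le hz hz' hc rfl ?_
      rw [hinv, show s * (s * z * s) * s = (s * s) * z * (s * s) by group, hs, one_mul, mul_one]
  obtain ⟨K', hne⟩ := M.exists_other K
  obtain ⟨z, hz, rfl⟩ := M.exists_member K'
  rcases Nat.even_or_odd (orderOf (s * z)) with he | ho
  · obtain ⟨w, -, hw1, hw2, hws, hwz⟩ :=
      IsolatedInv.exists_central_of_even hs (M.set.mul_self hz) he
    have h1 : M.mv s (M.mv w K) = M.mv w K := by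
      rw [← M.mv_mul, ← hws.eq, M.mv_mul, hK]
    have h2 : M.mv w K = K := M.unique_fix hs hs1 h1 hK
    exact hne (M.unique_fix hw2 hw1 (M.mv_eq_self_of_commute hz hwz) h2)
  · obtain ⟨c, -, hc⟩ := IsolatedInv.exists_conj_of_odd hs (M.set.mul_self hz) ho
    refine hsD ?_
    rw [show s = c⁻¹ * z * c⁻¹⁻¹ by rw [← hc]; group]
    exact M.set.conj z hz _

/-- The stabiliser of two cliques. -/
def stab (K K' : M.Cl) : Subgroup G where
  carrier := {g | M.mv g K = K ∧ M.mv g K' = K'}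
  one_mem' := ⟨M.mv_one _, M.mv_one _⟩
  mul_mem' := fun {g h} hg hh =>
    ⟨by rw [M.mv_mul, hh.1, hg.1], by rw [M.mv_mul, hh.2, hg.2]⟩
  inv_mem' := fun {g} hg =>
    ⟨by conv_lhs => rw [← hg.1]
        rw [← M.mv_mul, inv_mul_cancel, M.mv_one],
      by conv_lhs => rw [← hg.2]
         rw [← M.mv_mul, inv_mul_cancel, M.mv_one]⟩

theorem odd_card_of_no_inv (L : Subgroup G) (h : ∀ w ∈ L, w * w = 1 → w = 1) :
    Odd (Nat.card L) := by
  rw [← Nat.not_even_iff_odd]
  intro he
  have := Fact.mk Nat.prime_two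
  obtain ⟨w, hw⟩ := exists_prime_orderOf_dvd_card' (G := L) 2 (even_iff_two_dvd.1 he)
  have h1 := IsolatedInv.sq_of_orderOf_two hw
  exact IsolatedInv.ne_one_of_orderOf_two hw (Subtype.ext (h w w.2 (congrArg Subtype.val h1)))

theorem odd_stab {K K' : M.Cl} (h : K ≠ K') : Odd (Nat.card (M.stab K K')) :=
  M.odd_card_of_no_inv _ fun w hw h2 => by
    by_contra h1
    exact h (M.unique_fix h2 h1 hw.1 hw.2)

theorem inverted_equiv {K K' : M.Cl} (h : K ≠ K') {r : G} (hr : r ∈ M.swap K K') :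
    Nat.card {g : G // g ∈ M.stab K K' ∧ r * g * r = g⁻¹} = Nat.card (M.swap K K') := by
  have hr2 := M.set.mul_self hr.1
  refine Nat.card_congr
    { toFun := fun g => ⟨r * g.1, ?_, ?_⟩
      invFun := fun x => ⟨r * x.1, ⟨?_, ?_⟩, ?_⟩
      left_inv := fun g => Subtype.ext (M.set.mul_mul hr.1 _)
      right_inv := fun x => Subtype.ext (M.set.mul_mul hr.1 _) }
  · refine M.mem_of_sq ?_ fun e => ?_
    · rw [show r * g.1 * (r * g.1) = (r * g.1 * r) * g.1 by group, g.2.2, inv_mul_cancel]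
    · have hg : g.1 = r := by rw [← M.set.mul_mul hr.1 g.1, e, mul_one]
      exact h ((hr.2.symm.trans (hg ▸ g.2.1.1)).symm)
  · rw [M.mv_mul, g.2.1.1, hr.2]
  · rw [M.mv_mul, x.2.2, (M.swap_symm hr).2]
  · rw [M.mv_mul, (M.swap_symm x.2).2, hr.2]
  · rw [← mul_assoc, hr2, one_mul, mul_inv_rev, M.set.inv_eq hr.1, M.set.inv_eq x.2.1]

theorem card_clique (K : M.Cl) : Nat.card (M.clique K) = p := by
  have hp := M.prime
  obtain ⟨K', hne⟩ := M.exists_other K
  obtain ⟨r, hr⟩ := M.swap_nonempty hne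
  have hr2 := M.set.mul_self hr.1
  obtain ⟨a, ha⟩ := inverted_card hp (M.stab K' K) (M.odd_stab hne) hr2
    (fun g hg => by
      refine ⟨?_, ?_⟩
      · rw [M.mv_mul, M.mv_mul, hr.2, hg.2, (M.swap_symm hr).2]
      · rw [M.mv_mul, M.mv_mul, (M.swap_symm hr).2, hg.1, hr.2])
    (fun g hg hgi => by
      have hx : r * g ∈ M.swap K' K := by
        refine ⟨M.mem_of_sq ?_ fun e => ?_, by rw [M.mv_mul, hg.1, hr.2]⟩
        · rw [show r * g * (r * g) = (r * g * r) * g by group, hgi, inv_mul_cancel]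
        · have hgr : g = r := by rw [← M.set.mul_mul hr.1 g, e, mul_one]
          exact hne ((hr.2.symm.trans (hgr ▸ hg.1)).symm)
      by_cases e : r = r * g
      · rw [left_eq_mul.1 e, one_pow]
      · have := M.set.pow_eq_one hr.1 hx.1 (M.swap_not_commute hne hr hx e)
        rwa [M.set.mul_mul hr.1] at this)
  rw [M.inverted_equiv hne hr, M.card_swap hne] at ha
  have hP : IsPGroup 2 (M.cliqueGrp K) := fun z => ⟨1, Subtype.ext (by
    rw [pow_one, pow_two]; exact M.cliqueGrp_sq K z.2)⟩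
  have := Fact.mk Nat.prime_two
  obtain ⟨n, hn⟩ := IsPGroup.iff_card.1 hP
  rw [M.card_cliqueGrp, ha] at hn
  have h5 := M.five_le_card K
  rw [ha] at h5 ⊢
  exact pow_eq_self_of_two_pow hp (M.set.p_mod_two hp M.three_le) (fun e => by simp [e] at h5) hn

theorem swap_card {K K' : M.Cl} (h : K ≠ K') : Nat.card (M.swap K K') = p := by
  rw [M.card_swap h, M.card_clique]

theorem exists_swap_ne {K K' : M.Cl} (h : K ≠ K') {r : G} (hr : r ∈ M.swap K K') :
    ∃ r' ∈ M.swap K K', r ≠ r' := by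
  by_contra hall
  push Not at hall
  have := M.swap_card h
  have h1 : Nat.card (M.swap K K') ≤ 1 := by
    rw [Finite.card_le_one_iff_subsingleton]
    exact ⟨fun a b => Subtype.ext ((hall _ a.2).symm.trans (hall _ b.2))⟩
  have := M.five_le
  omega

theorem swap_eq_line {K K' : M.Cl} (h : K ≠ K') {r r' : G} (hr : r ∈ M.swap K K')
    (hr' : r' ∈ M.swap K K') (hne : r ≠ r') {x : G} (hx : x ∈ M.swap K K') :
    ∃ j : ℕ, x = r * (r * r') ^ j := by
  have hord := M.set.orderOf_eq M.prime M.three_le hr.1 hr'.1 (M.swap_not_commute h hr hr' hne)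
  let f : Fin p → M.swap K K' := fun j => ⟨r * (r * r') ^ (j : ℕ), M.swap_line hr hr' j⟩
  have hinj : Function.Injective f := fun i j e =>
    Fin.ext (pow_injOn_Iio_orderOf (Set.mem_Iio.2 (hord.symm ▸ i.2))
      (Set.mem_Iio.2 (hord.symm ▸ j.2)) (mul_left_cancel (congrArg Subtype.val e)))
  obtain ⟨j, hj⟩ := (hinj.bijective_of_nat_card_le (by rw [M.swap_card h, Nat.card_fin])).2 ⟨x, hx⟩
  exact ⟨j, (congrArg Subtype.val hj).symm⟩

theorem inverted_mem_zpowers {K K' : M.Cl} (h : K ≠ K') {r r' : G} (hr : r ∈ M.swap K K')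
    (hr' : r' ∈ M.swap K K') (hne : r ≠ r') {g : G} (hg : g ∈ M.stab K K')
    (hgi : r * g * r = g⁻¹) : g ∈ Subgroup.zpowers (r * r') := by
  by_cases hg1 : r * g = 1
  · exfalso
    have hgr : g = r := by rw [← M.set.mul_mul hr.1 g, hg1, mul_one]
    exact h ((hgr ▸ hg.1).symm.trans hr.2)
  have hx : r * g ∈ M.swap K K' :=
    ⟨M.mem_of_sq (by rw [show r * g * (r * g) = (r * g * r) * g by group, hgi, inv_mul_cancel]) hg1,
      by rw [M.mv_mul, hg.1, hr.2]⟩
  obtain ⟨j, hj⟩ := M.swap_eq_line h hr hr' hne hx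
  rw [mul_left_cancel hj]
  exact Subgroup.npow_mem_zpowers _ _

theorem odd_centralizer {a b : G} (ha : a ∈ D) (hb : b ∈ D) (h : ¬ Commute a b) :
    Odd (Nat.card (Subgroup.centralizer ({a * b} : Set G))) := by
  refine M.odd_card_of_no_inv _ fun x hxc hx2 => ?_
  by_contra hx1
  have hx := M.mem_of_sq hx2 hx1
  have hxu : Commute x (a * b) := Subgroup.mem_centralizer_singleton_iff.1 hxc
  have key : ∀ c ∈ D, Commute c (a * b) → Commute a c → False := by
    intro c hc hcu hac
    have hcb : Commute c b := by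
      rw [← M.set.mul_mul ha b]
      exact hac.symm.mul_right hcu
    exact h (M.trans ha hc hb hac hcb)
  have hx' : a * x * a ∈ D := M.set.conj' hx (M.set.mul_self ha)
  have hxu' : Commute (a * x * a) (a * b) := by
    have h0 := (hxu.inv_right).map (MulAut.conj a).toMonoidHom
    have e : a * (a * b)⁻¹ * a = a * b := by
      rw [← pow_one (a * b), ← M.set.inverts ha hb 1]
      simp [mul_assoc, M.set.mul_self ha]
      rw [M.set.mul_mul ha]
    simp only [MulEquiv.coe_toMonoidHom, MulAut.conj_apply, M.set.inv_eq ha] at h0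
    rw [e] at h0
    exact h0
  by_cases hc : Commute (a * x * a) x
  · exact key x hx hxu (M.commute_of_conj_commute ha hx hc)
  · have hm := M.set.mid_mem M.prime M.three_le hx' hx hc
    refine key _ hm ?_ ?_
    · exact (M.set.commute_mid M.prime M.three_le hxu'.symm hxu.symm).symm
    · refine M.set.commute_mid_of_swap M.prime M.three_le hx' hx hc ?_ ?_
      · rw [M.set.inv_eq ha]; simp [mul_assoc, M.set.mul_self ha]; rw [M.set.mul_mul ha]
      · rw [M.set.inv_eq ha]

end Min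

end Cfsg.Agent.PTransp70
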