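import Cfsg.Agent.Lib.PTranspClique70

/-!
A set of involutions, two of them commuting or having product of order `p ≥ 5`, has no commuting
pair with product in the set unless the pair is centralised by the whole set: counting pairs of
noncommuting members against pairs of cliques.
-/

set_option autoImplicit false
set_option linter.unusedSectionVars false

universe u

namespace Cfsg.Agent.PTransp70

variable {G : Type u} [Group G] [Finite G] {p : ℕ} {D : Set G}

namespace Min

variable (M : Min p D)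
include M

theorem mul_mem_stab {K K' : M.Cl} {r r' : G} (hr : r ∈ M.swap K K') (hr' : r' ∈ M.swap K K') :
    r * r' ∈ M.stab K K' := by
  refine ⟨?_, ?_⟩
  · rw [M.mv_mul, hr'.2, (M.swap_symm hr).2]
  · rw [M.mv_mul, (M.swap_symm hr').2, hr.2]

theorem zpow_inverted {r r' : G} (hr : r ∈ D) (hr' : r' ∈ D) (k : ℤ) :
    r * (r * r') ^ k * r = ((r * r') ^ k)⁻¹ := by
  have h := (conj_zpow (i := k) (a := r) (b := r * r')).symm
  have h1 := M.set.inverts hr hr' 1
  rw [pow_one] at h1
  rw [M.set.inv_eq hr] at h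
  rw [h, h1, inv_zpow]

theorem stab_pow_p {K K' : M.Cl} (h : K ≠ K') {r r' : G} (hr : r ∈ M.swap K K')
    (hr' : r' ∈ M.swap K K') (hne : r ≠ r') {w : G} (hw : w ∈ M.stab K K') (hwp : w ^ p = 1) :
    w ∈ Subgroup.zpowers (r * r') := by
  have hp := M.prime
  have := Fact.mk hp
  have hr2 := M.set.mul_self hr.1
  have hri := M.set.inv_eq hr.1
  have hnc := M.swap_not_commute h hr hr' hne
  have hord := M.set.orderOf_eq hp M.three_le hr.1 hr'.1 hnc
  have hup := M.set.pow_eq_one hr.1 hr'.1 hnc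
  have hr'u : r' = r * (r * r') := (M.set.mul_mul hr.1 r').symm
  have hzi := M.zpow_inverted hr.1 hr'.1
  have hwr : r * w * r ∈ M.stab K K' := by
    refine ⟨?_, ?_⟩
    · rw [M.mv_mul, M.mv_mul, hr.2, hw.2, (M.swap_symm hr).2]
    · rw [M.mv_mul, M.mv_mul, (M.swap_symm hr).2, hw.1, hr.2]
  have hus := M.mul_mem_stab hr hr'
  obtain ⟨i, hi⟩ : ∃ i : ℤ, (r * r') ^ i = w⁻¹ * (r * w * r) :=
    Subgroup.mem_zpowers_iff.1 (M.inverted_mem_zpowers h hr hr' hne
      (mul_mem (inv_mem hw) hwr) (by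
        rw [show r * (w⁻¹ * (r * w * r)) * r = r * w⁻¹ * r * w * (r * r) by group, hr2, mul_one,
          mul_inv_rev, mul_inv_rev, mul_inv_rev, inv_inv, hri]
        group))
  set u := r * r' with hu
  set k : ℤ := i * (((p + 1) / 2 : ℕ) : ℤ) with hk
  have h2k : u ^ (i - k) = u ^ k := by
    rw [show i - k = k + (p : ℤ) * (-i) by
      have := congrArg (Nat.cast : ℕ → ℤ) (M.set.two_half hp M.three_le)
      rw [hk]; push_cast at this ⊢; linear_combination -i * this]
    rw [zpow_add, zpow_mul u (p : ℤ), zpow_natCast, hup, one_zpow, mul_one]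
  set c := w * u ^ k with hc
  have hcr : r * c * r = c := by
    rw [hc, show r * (w * u ^ k) * r = (r * w * r) * (r⁻¹ * u ^ k * r) by group, hri, hzi,
      show r * w * r = w * u ^ i by rw [hi, mul_inv_cancel_left], mul_assoc, ← zpow_neg, ← zpow_add,
      ← sub_eq_add_neg, h2k]
  have hcs : c ∈ M.stab K K' := mul_mem hw (zpow_mem hus k)
  have hcomm : c * r = r * c := by
    conv_lhs => rw [← hcr]
    rw [mul_assoc, hr2, mul_one]
  obtain ⟨j, hj⟩ : ∃ j : ℕ, c * r' * c⁻¹ = r * u ^ j :=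
    M.swap_eq_line h hr hr' hne
      ⟨M.set.conj r' hr'.1 c, by
        rw [M.mv_mul, M.mv_mul, (inv_mem hcs : c⁻¹ ∈ M.stab K K').1, hr'.2, hcs.2]⟩
  have hcu : c * u * c⁻¹ = u ^ j := by
    have e : c * u * c⁻¹ = (c * r * c⁻¹) * (c * r' * c⁻¹) := by rw [hu]; group
    rw [e, hj, hcomm, mul_inv_cancel_right, M.set.mul_mul hr.1]
  have hcun : ∀ m : ℤ, c * u ^ m = u ^ ((j : ℤ) * m) * c := by
    intro m
    have := (conj_zpow (i := m) (a := c) (b := u)).symm
    rw [hcu, ← zpow_natCast, ← zpow_mul] at this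
    rw [← this, inv_mul_cancel_right]
  have hwc : w = c * u ^ (-k) := by rw [hc, zpow_neg, mul_inv_cancel_right]
  have hind : ∀ n : ℕ, ∃ m : ℤ, w ^ n = u ^ m * c ^ n := by
    intro n
    induction n with
    | zero => exact ⟨0, by simp⟩
    | succ n ih =>
      obtain ⟨m, hm⟩ := ih
      refine ⟨(j : ℤ) * (-k + m), ?_⟩
      rw [pow_succ', hm, hwc, pow_succ', ← mul_assoc, mul_assoc c, ← zpow_add, hcun, mul_assoc]
  have hcp : c ^ p = 1 := by
    obtain ⟨m, hm⟩ := hind p
    rw [hwp] at hm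
    have hcm : c ^ p = (u ^ m)⁻¹ := eq_inv_of_mul_eq_one_right hm.symm
    have hfix : r * (u ^ m)⁻¹ * r = (u ^ m)⁻¹ := by
      rw [← hcm]
      have := ((show Commute r c from hcomm.symm).pow_right p).eq
      rw [this, mul_assoc, hr2, mul_one]
    rw [← zpow_neg, hzi, ← zpow_neg, neg_neg] at hfix
    have h2 : u ^ (2 * m) = 1 := by
      rw [two_mul, zpow_add]
      nth_rw 2 [hfix]
      rw [zpow_neg, mul_inv_cancel]
    have h3 := orderOf_dvd_iff_zpow_eq_one.2 h2
    rw [hord] at h3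
    have h4 : (p : ℤ) ∣ m := by
      rcases (Nat.prime_iff_prime_int.1 hp).dvd_mul.1 h3 with h5 | h5
      · have := Int.le_of_dvd (by norm_num) h5
        have := M.five_le
        omega
      · exact h5
    rw [hcm, orderOf_dvd_iff_zpow_eq_one.1 (hord.symm ▸ h4), inv_one]
  have hcju : ∀ n : ℕ, c ^ n * u = u ^ (j ^ n) * c ^ n := by
    intro n
    induction n with
    | zero => simp
    | succ n ih =>
      rw [pow_succ' c, mul_assoc, ih, ← mul_assoc, ← zpow_natCast u (j ^ n), hcun,
        pow_succ' j, Nat.cast_pow, ← Nat.cast_pow, ← Nat.cast_mul, zpow_natCast, mul_assoc]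
  have hj1 : u ^ j = u := by
    have h1 := hcju p
    rw [hcp, one_mul, mul_one] at h1
    nth_rw 1 [← pow_one u] at h1
    rw [pow_eq_pow_iff_modEq, hord, ← ZMod.natCast_eq_natCast_iff, Nat.cast_pow, ZMod.pow_card] at h1
    conv_rhs => rw [← pow_one u]
    rw [pow_eq_pow_iff_modEq, hord, ← ZMod.natCast_eq_natCast_iff, h1]
  have hc' : Commute c r' := by
    rw [hr'u]
    refine Commute.mul_right hcomm ?_
    rw [hj1] at hcu
    exact mul_inv_eq_iff_eq_mul.1 hcu
  -- the clique of `r` is fixed pointwise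
  set Q := M.cl r hr.1
  let σ : Equiv.Perm (M.clique Q) :=
    { toFun := fun z => ⟨c * z.1 * c⁻¹, M.set.conj _ z.2.1 c, by
        rw [← M.mv_mk c z.1 z.2.1, z.2.2]; exact M.mv_eq_self_of_commute hr.1 hcomm⟩
      invFun := fun z => ⟨c⁻¹ * z.1 * c⁻¹⁻¹, M.set.conj _ z.2.1 c⁻¹, by
        rw [← M.mv_mk c⁻¹ z.1 z.2.1, z.2.2]
        exact M.mv_eq_self_of_commute hr.1 (Commute.inv_left hcomm)⟩
      left_inv := fun z => Subtype.ext (by simp [mul_assoc])
      right_inv := fun z => Subtype.ext (by simp [mul_assoc]) }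
  have hσn : ∀ (n : ℕ) (z : M.clique Q), ((σ ^ n) z).1 = c ^ n * z.1 * (c ^ n)⁻¹ := by
    intro n z
    induction n with
    | zero => simp
    | succ n ih =>
      rw [pow_succ', Equiv.Perm.mul_apply]
      change c * ((σ ^ n) z).1 * c⁻¹ = _
      rw [ih, pow_succ']
      group
  have hσp : σ ^ p = 1 := Equiv.ext fun z => Subtype.ext (by rw [hσn, hcp]; simp)
  have hσr : σ ⟨r, hr.1, rfl⟩ = ⟨r, hr.1, rfl⟩ :=
    Subtype.ext (by change c * r * c⁻¹ = r; rw [hcomm, mul_inv_cancel_right])
  obtain ⟨t, ht, hrt, hrt'⟩ := M.partner hr.1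
  have hct : c * t * c⁻¹ = t := congrArg Subtype.val
    (fix_all_of_fix_one σ hσp (M.card_clique Q) hσr ⟨t, ht, M.mk_eq.2 hrt.symm⟩)
  have hc1 := M.eq_one_of_centralizes hr.1 ht hr'.1 hrt hrt' hnc hcomm
    (mul_inv_eq_iff_eq_mul.1 hct) hc'
  rw [hwc, hc1, one_mul]
  exact Subgroup.zpow_mem_zpowers u _

theorem not_fix_both {a b : G} (ha : a ∈ D) (hb : b ∈ D) (h : ¬ Commute a b) {K : M.Cl}
    (hK : M.mv (a * b) K = K) : M.mv a K ≠ K := fun e => by
  have hbK : M.mv b K = K := by
    rw [← M.set.mul_mul ha b, M.mv_mul, hK, e]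
  exact h (M.mk_eq.1 ((M.mv_self ha e).trans (M.mv_self hb hbK).symm))

theorem fix_not_dvd {a b : G} (ha : a ∈ D) (hb : b ∈ D) (h : ¬ Commute a b) {K : M.Cl}
    (hK : M.mv (a * b) K = K) : ¬ p ∣ Nat.card {L : M.Cl // M.mv (a * b) L = L} := by
  have hp := M.prime
  have ha2 := M.set.mul_self ha
  have hup := M.set.pow_eq_one ha hb h
  have hord := M.set.orderOf_eq hp M.three_le ha hb h
  have hau : a * (a * b) * a = (a * b)⁻¹ := by simpa using M.set.inverts ha hb 1
  have hnau : ¬ Commute a (a * b) := fun hc => h (by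
    rw [← M.set.mul_mul ha b]; exact (Commute.refl a).mul_right hc)
  set u := a * b with hu
  set F := {L : M.Cl // M.mv u L = L}
  have hxe : ∀ z : G, z ∈ D → z * u * z = u⁻¹ →
      u * z = z * u⁻¹ ∧ z * u = u⁻¹ * z ∧ z * u⁻¹ * z = u := by
    intro z hz hzu
    have h1 : u * z = z * u⁻¹ := by
      rw [← hzu, ← mul_assoc z, ← mul_assoc z, M.set.mul_self hz, one_mul]
    refine ⟨h1, ?_, ?_⟩
    · rw [← hzu, mul_assoc (z * u) z z, M.set.mul_self hz, mul_one]
    · rw [← h1, mul_assoc, M.set.mul_self hz, mul_one]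
  set J := {x : G // x ∈ D ∧ x * u * x = u⁻¹}
  have hne : ∀ x : J, M.mv x.1 K ≠ K := by
    intro x e
    obtain ⟨hx, hxu⟩ := x.2
    have hxK := M.mv_self hx e
    have hc : Commute x.1 (u * x.1 * u⁻¹) := (M.mk_eq (ha := hx) (hb := M.set.conj _ hx u)).1 (hxK.trans
      (by rw [← M.mv_mk u x.1 hx, hxK, hK]))
    have e1 : u * x.1 * u⁻¹ = x.1 * (u⁻¹ * u⁻¹) := by
      rw [(hxe _ hx hxu).1, mul_assoc]
    rw [e1] at hc
    have hc' : Commute x.1 (u⁻¹ * u⁻¹) := by
      have := ((Commute.refl x.1).inv_right).mul_right hc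
      rwa [inv_mul_cancel_left] at this
    have h2 : (u⁻¹ * u⁻¹)⁻¹ = u⁻¹ * u⁻¹ := by
      calc (u⁻¹ * u⁻¹)⁻¹ = x.1 * (u⁻¹ * u⁻¹) * x.1 := by
            rw [mul_inv_rev, inv_inv]
            have hxu' : x.1 * u⁻¹ * x.1 = u := (hxe _ hx hxu).2.2
            calc u * u = (x.1 * u⁻¹ * x.1) * (x.1 * u⁻¹ * x.1) := by rw [hxu']
              _ = x.1 * u⁻¹ * (x.1 * x.1) * u⁻¹ * x.1 := by group
              _ = _ := by rw [M.set.mul_self hx, mul_one]; group
        _ = u⁻¹ * u⁻¹ := by rw [hc'.eq, mul_assoc, M.set.mul_self hx, mul_one]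
    have h4 : u ^ 4 = 1 := by
      rw [mul_inv_rev, inv_inv] at h2
      rw [show u ^ 4 = (u * u) * (u * u) by simp [pow_succ, mul_assoc]]
      nth_rw 2 [h2]
      group
    have := orderOf_dvd_of_pow_eq_one h4
    rw [hord] at this
    have := Nat.le_of_dvd (by norm_num) this
    have := M.five_le
    omega
  have hfixJ : ∀ x : J, M.mv u (M.mv x.1 K) = M.mv x.1 K := by
    intro x
    have e := (hxe _ x.2.1 x.2.2).1
    rw [← M.mv_mul, e, M.mv_mul]
    congr 1
    conv_lhs => rw [← hK]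
    rw [← M.mv_mul, inv_mul_cancel, M.mv_one]
  let φ : J → {L : F // L ≠ ⟨K, hK⟩} := fun x =>
    ⟨⟨M.mv x.1 K, hfixJ x⟩, fun e => hne x (congrArg Subtype.val e)⟩
  have hfib : ∀ L, Nat.card {x // φ x = L} = p := by
    intro L
    have hKL : K ≠ L.1.1 := fun e => L.2 (Subtype.ext e.symm)
    refine Eq.trans ?_ (M.swap_card hKL)
    refine Nat.card_congr
      { toFun := fun x => ⟨x.1.1, x.1.2.1,
          congrArg (fun z : {L : F // L ≠ ⟨K, hK⟩} => z.1.1) x.2⟩
        invFun := fun x => ⟨⟨x.1, x.2.1, ?_⟩, Subtype.ext (Subtype.ext x.2.2)⟩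
        left_inv := fun x => rfl
        right_inv := fun x => rfl }
    obtain ⟨r', hr', hne'⟩ := M.exists_swap_ne hKL x.2
    obtain ⟨k, hk⟩ := Subgroup.mem_zpowers_iff.1
      (M.stab_pow_p hKL x.2 hr' hne' ⟨hK, L.1.2⟩ hup)
    have h5 := M.zpow_inverted x.2.1 hr'.1 k
    rw [hk] at h5
    exact h5
  have hJ : Nat.card J = Nat.card {L : F // L ≠ ⟨K, hK⟩} * p := by
    classical
    have := Fintype.ofFinite {L : F // L ≠ ⟨K, hK⟩}
    rw [← Nat.card_congr (Equiv.sigmaFiberEquiv φ), Nat.card_sigma]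
    simp [hfib]
  obtain ⟨e, he⟩ := inverted_card hp (Subgroup.centralizer ({u} : Set G))
    (M.odd_centralizer ha hb h) ha2
    (fun g hg => by
      rw [Subgroup.mem_centralizer_singleton_iff] at hg ⊢
      have h0 := ((show Commute g u from hg).inv_right).map (MulAut.conj a).toMonoidHom
      simp only [MulEquiv.coe_toMonoidHom, MulAut.conj_apply, M.set.inv_eq ha] at h0
      rw [show a * u⁻¹ * a = u by
        rw [← hau]; simp [← mul_assoc, ha2]; simp [mul_assoc, ha2]] at h0
      exact h0.eq)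
    (fun g hg hgi => by
      have hx2 : a * g * (a * g) = 1 := by
        rw [show a * g * (a * g) = (a * g * a) * g by group, hgi, inv_mul_cancel]
      have hxD : a * g ∈ D := M.mem_of_sq hx2 fun e => hnau (by
        rw [← M.set.mul_mul ha g, e, mul_one] at hg
        exact (Subgroup.mem_centralizer_singleton_iff.1 hg))
      by_cases hc : Commute a (a * g)
      · have hg1 : g * g = 1 := by
          have hc' : Commute a g := by
            rw [← M.set.mul_mul ha g]; exact (Commute.refl a).mul_right hc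
          rw [hc'.eq, mul_assoc g a a, ha2, mul_one] at hgi
          nth_rw 1 [hgi]
          exact inv_mul_cancel g
        have hodd : Odd (orderOf g) := by
          rw [← Subgroup.orderOf_mk g hg]
          exact (M.odd_centralizer ha hb h).of_dvd_nat (orderOf_dvd_natCard _)
        have hd : orderOf g ∣ 2 := orderOf_dvd_of_pow_eq_one (by rw [pow_two, hg1])
        rcases (Nat.dvd_prime Nat.prime_two).1 hd with h1 | h1
        · rw [orderOf_eq_one_iff.1 h1, one_pow]
        · rw [h1] at hodd; exact absurd hodd (by decide)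
      · have := M.set.pow_eq_one ha hxD hc
        rwa [M.set.mul_mul ha] at this)
  have hequiv : Nat.card J =
      Nat.card {g : G // g ∈ Subgroup.centralizer ({u} : Set G) ∧ a * g * a = g⁻¹} := by
    refine Nat.card_congr
      { toFun := fun x => ⟨a * x.1, ?_, ?_⟩
        invFun := fun g => ⟨a * g.1, ?_, ?_⟩
        left_inv := fun x => Subtype.ext (M.set.mul_mul ha _)
        right_inv := fun x => Subtype.ext (M.set.mul_mul ha _) }
    · rw [Subgroup.mem_centralizer_singleton_iff]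
      have e' := (hxe _ x.2.1 x.2.2).2.1
      have e2 : a * u⁻¹ = u * a := by
        rw [← hau, mul_assoc, ← mul_assoc, ha2, one_mul]
      rw [mul_assoc, e', ← mul_assoc, e2, mul_assoc]
    · have ei : x.1⁻¹ = x.1 := M.set.inv_eq x.2.1
      have ea : a⁻¹ = a := M.set.inv_eq ha
      simp only [← mul_assoc, ha2, one_mul, mul_inv_rev, ei, ea]
    · refine M.mem_of_sq ?_ fun e => hnau ?_
      · rw [show a * g.1 * (a * g.1) = (a * g.1 * a) * g.1 by group, g.2.2, inv_mul_cancel]
      · have hg := g.2.1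
        rw [← M.set.mul_mul ha g.1, e, mul_one] at hg
        exact (Subgroup.mem_centralizer_singleton_iff.1 hg)
    · have hg : Commute g.1 u := Subgroup.mem_centralizer_singleton_iff.1 g.2.1
      have e3 : g.1 * a * g.1 = a := by
        calc g.1 * a * g.1 = g.1 * (a * g.1 * a) * a := by simp [mul_assoc, ha2]
          _ = a := by rw [g.2.2, mul_inv_cancel, one_mul]
      calc a * g.1 * u * (a * g.1) = a * (g.1 * u) * a * g.1 := by group
        _ = a * u * (g.1 * a * g.1) := by rw [hg.eq]; group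
        _ = u⁻¹ := by rw [e3, hau]
  rw [hequiv, he] at hJ
  have hF : Nat.card {L : F // L ≠ ⟨K, hK⟩} + 1 = Nat.card F := by
    classical
    have := Fintype.ofFinite F
    simp only [Nat.card_eq_fintype_card, Fintype.card_subtype_compl, Fintype.card_subtype_eq]
    have : 0 < Fintype.card F := Fintype.card_pos_iff.2 ⟨⟨K, hK⟩⟩
    omega
  intro hdvd
  rcases e with _ | e
  · have : p ∣ 1 := by rw [← pow_zero p, hJ]; exact dvd_mul_left p _
    exact hp.not_dvd_one this
  · rw [pow_succ] at hJ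
    have h1 := Nat.eq_of_mul_eq_mul_right hp.pos hJ
    rcases e with _ | e
    · rw [← hF, ← h1, pow_zero] at hdvd
      have := Nat.le_of_dvd (by norm_num) hdvd
      have := M.five_le
      omega
    · rw [← hF, ← h1] at hdvd
      exact hp.not_dvd_one ((Nat.dvd_add_right (dvd_pow_self p e.succ_ne_zero)).1 hdvd)

theorem contra : False := by
  have hp := M.prime
  have := Fact.mk hp
  classical
  have := Fintype.ofFinite M.Cl
  have hσ : ∀ {a b : G}, a ∈ D → b ∈ D → ¬ Commute a b → M.perm (a * b) ^ p = 1 := by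
    intro a b ha hb h
    rw [← map_pow, M.set.pow_eq_one ha hb h, map_one]
  obtain ⟨x, hx, d, hd, y, hy, hxd, ht, hxy⟩ := M.line
  have hN : ¬ p ∣ Nat.card M.Cl := by
    have hKne : M.cl x hx ≠ M.cl y hy := fun e => hxy (M.mk_eq.1 e)
    obtain ⟨r, hr⟩ := M.swap_nonempty hKne
    obtain ⟨r', hr', hne⟩ := M.exists_swap_ne hKne hr
    have hnc := M.swap_not_commute hKne hr hr' hne
    have hK := (M.mul_mem_stab hr hr').1
    have hm : Nat.card M.Cl ≡ Nat.card {L : M.Cl // M.mv (r * r') L = L} [MOD p] :=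
      card_modEq_fix _ (hσ hr.1 hr'.1 hnc)
    intro hd'
    exact M.fix_not_dvd hr.1 hr'.1 hnc hK
      ((Nat.modEq_zero_iff_dvd).1 (hm.symm.trans ((Nat.modEq_zero_iff_dvd).2 hd')))
  have hex : ∀ q : {q : D × D // ¬ Commute q.1.1 q.2.1},
      ∃ K : M.Cl, M.mv (q.1.1.1 * q.1.2.1) K = K := by
    rintro ⟨⟨⟨a, ha⟩, ⟨b, hb⟩⟩, hab⟩
    by_contra hno
    push Not at hno
    have hm : Nat.card M.Cl ≡ Nat.card {L : M.Cl // M.mv (a * b) L = L} [MOD p] :=
      card_modEq_fix _ (hσ ha hb hab)
    have h0 : Nat.card {L : M.Cl // M.mv (a * b) L = L} = 0 :=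
      Nat.card_eq_zero.2 (Or.inl ⟨fun L => hno L.1 L.2⟩)
    rw [h0] at hm
    exact hN ((Nat.modEq_zero_iff_dvd).1 hm)
  choose K hK using hex
  let T := Σ q : {q : M.Cl × M.Cl // q.1 ≠ q.2},
    {z : M.swap q.1.1 q.1.2 × M.swap q.1.1 q.1.2 // z.1 ≠ z.2}
  let f : {q : D × D // ¬ Commute q.1.1 q.2.1} → T := fun q =>
    ⟨⟨(K q, M.mv q.1.1.1 (K q)), (M.not_fix_both q.1.1.2 q.1.2.2 q.2 (hK q)).symm⟩,
      ⟨(⟨q.1.1.1, q.1.1.2, rfl⟩, ⟨q.1.2.1, q.1.2.2, by
        have e : q.1.2.1 = q.1.1.1 * (q.1.1.1 * q.1.2.1) := (M.set.mul_mul q.1.1.2 _).symm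
        exact (congrArg (M.mv · (K q)) e).trans ((M.mv_mul _ _ _).trans
          (congrArg (M.mv q.1.1.1) (hK q)))⟩),
       fun e => q.2 (by
        have e' := congrArg Subtype.val e
        change (q.1.1.1 : G) = q.1.2.1 at e'
        rw [← e'])⟩⟩
  have hinj : Function.Injective f := by
    intro q q' e
    have e1 : (f q).2.1.1.1 = (f q').2.1.1.1 := by rw [e]
    have e2 : (f q).2.1.2.1 = (f q').2.1.2.1 := by rw [e]
    exact Subtype.ext (Prod.ext (Subtype.ext e1) (Subtype.ext e2))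
  have hle := Nat.card_le_card_of_injective f hinj
  have hD : Nat.card D = Nat.card M.Cl * p := by
    rw [← Nat.card_congr (Equiv.sigmaFiberEquiv fun a : D => M.cl a.1 a.2), Nat.card_sigma]
    have : ∀ L : M.Cl, Nat.card {a : D // M.cl a.1 a.2 = L} = p := fun L => by
      refine Eq.trans ?_ (M.card_clique L)
      exact Nat.card_congr
        { toFun := fun a => ⟨a.1.1, a.1.2, a.2⟩
          invFun := fun a => ⟨⟨a.1, a.2.1⟩, a.2.2⟩
          left_inv := fun a => rfl
          right_inv := fun a => rfl }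
    simp [this]
  have hcomm : Nat.card {q : D × D // Commute q.1.1 q.2.1} = Nat.card D * p := by
    have := Fintype.ofFinite D
    rw [← Nat.card_congr (Equiv.sigmaFiberEquiv
      fun q : {q : D × D // Commute q.1.1 q.2.1} => q.1.1), Nat.card_sigma]
    have : ∀ a : D, Nat.card {q : {q : D × D // Commute q.1.1 q.2.1} // q.1.1 = a} = p :=
      fun a => by
      refine Eq.trans ?_ (M.card_clique (M.cl a.1 a.2))
      exact Nat.card_congr
        { toFun := fun q => ⟨q.1.1.2.1, q.1.1.2.2, M.mk_eq.2 (by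
            have := q.1.2.symm; rwa [q.2] at this)⟩
          invFun := fun b => ⟨⟨(a, ⟨b.1, b.2.1⟩), (M.mk_eq.1 b.2.2).symm⟩, rfl⟩
          left_inv := fun q => by
            obtain ⟨⟨⟨q1, q2⟩, hq⟩, rfl⟩ := q
            rfl
          right_inv := fun b => rfl }
    rw [Finset.sum_congr rfl fun a _ => this a, Finset.sum_const, Finset.card_univ, smul_eq_mul,
      ← Nat.card_eq_fintype_card]
  have hP : Nat.card {q : D × D // ¬ Commute q.1.1 q.2.1} + Nat.card D * p =
      Nat.card D * Nat.card D := by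
    rw [← hcomm, ← Nat.card_prod D D, add_comm, ← Nat.card_sum,
      Nat.card_congr (Equiv.sumCompl _)]
  have hoff : ∀ {α : Type u} [Finite α],
      Nat.card {q : α × α // q.1 ≠ q.2} + Nat.card α = Nat.card α * Nat.card α := by
    intro α _
    have : Nat.card {q : α × α // q.1 = q.2} = Nat.card α := Nat.card_congr
      { toFun := fun q => q.1.1
        invFun := fun a => ⟨(a, a), rfl⟩
        left_inv := fun q => Subtype.ext (Prod.ext rfl q.2)
        right_inv := fun a => rfl }
    rw [← Nat.card_prod α α, ← this, add_comm, ← Nat.card_sum,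
      Nat.card_congr (Equiv.sumCompl _)]
  have hT : Nat.card T = Nat.card {q : M.Cl × M.Cl // q.1 ≠ q.2} * (p * p - p) := by
    rw [Nat.card_sigma]
    have : ∀ q : {q : M.Cl × M.Cl // q.1 ≠ q.2},
        Nat.card {z : M.swap q.1.1 q.1.2 × M.swap q.1.1 q.1.2 // z.1 ≠ z.2} = p * p - p := by
      intro q
      have := hoff (α := M.swap q.1.1 q.1.2)
      rw [M.swap_card q.2] at this
      omega
    rw [Finset.sum_congr rfl fun q _ => this q, Finset.sum_const, Finset.card_univ, smul_eq_mul,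
      ← Nat.card_eq_fintype_card]
  rw [hT] at hle
  have hCl := hoff (α := M.Cl)
  rw [hD] at hP
  have h1 : 1 < Nat.card M.Cl := by
    rw [Finite.one_lt_card_iff_nontrivial]
    exact ⟨⟨M.cl x hx, M.cl y hy, fun e => hxy (M.mk_eq.1 e)⟩⟩
  set n := Nat.card M.Cl
  set P := Nat.card {q : D × D // ¬ Commute q.1.1 q.2.1}
  set o := Nat.card {q : M.Cl × M.Cl // q.1 ≠ q.2}
  have hP' : P = o * (p * p) := by nlinarith
  rw [hP'] at hle
  have ho : 0 < o := by
    by_contra h0
    have : o = 0 := by omega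
    rw [this, zero_add] at hCl
    nlinarith
  have := Nat.le_of_mul_le_mul_left hle ho
  have := M.five_le
  have : p ≤ p * p := Nat.le_mul_self p
  omega

end Min

/-- In a `p`-transposition set, `p ≥ 5`, a commuting pair with product in the set is centralised by
every member. -/
theorem not_hasLine {p : ℕ} (hp : p.Prime) (hp5 : 5 ≤ p) :
    ∀ (G : Type u) [Group G] [Finite G] (D : Set G), IsPSet p D → ¬ HasLine D := by
  suffices ∀ n (G : Type u) [Group G] [Finite G] (D : Set G), Nat.card G = n → IsPSet p D →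
      ¬ HasLine D from fun G _ _ D h => this _ G D rfl h
  intro n
  induction n using Nat.strong_induction_on with
  | _ n ih =>
    intro G _ _ D hn hD hL
    obtain ⟨x, hx, d, hd, y, hy, hxd, ht, hxy⟩ := hL
    have hp3 : 3 ≤ p := le_trans (by norm_num) hp5
    set D' : Set G := {z | ∃ g : G, g * x * g⁻¹ = z} with hD'
    have hsub : ∀ z ∈ D', z ∈ D := by
      rintro z ⟨g, rfl⟩; exact hD.conj x hx g
    have hset : IsPSet p D' :=
      { two := fun z hz => hD.two z (hsub z hz)
        conj := by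
          rintro z ⟨g, rfl⟩ k
          exact ⟨k * g, by group⟩
        pair := fun a ha b hb => hD.pair a (hsub a ha) b (hsub b hb) }
    have hdy : ¬ Commute d y := fun h => hxy
      (hD.commute_partner hp hp3 hd hx hxd.symm (hxd.eq ▸ ht) hy h.symm).symm
    have hty : ¬ Commute (x * d) y := fun h => hxy (hD.commute_partner hp hp3 ht hx
      ((Commute.refl x).mul_right hxd).symm (by
        rw [← ((Commute.refl x).mul_right hxd).eq, hD.mul_mul hx]; exact hd) hy h.symm).symm
    have hcl : ∀ a b : G, a ∈ D → b ∈ D → ¬ Commute a b → a ∈ D' → b ∈ D' := by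
      intro a b ha hb hab ha'
      obtain ⟨g, rfl⟩ := ha'
      refine ⟨mid p (g * x * g⁻¹) b * g, ?_⟩
      have hm := hD.mid_mem hp hp3 ha hb hab
      have := hD.mid_conj hp hp3 ha hb hab
      conv_rhs => rw [← this]
      rw [mul_inv_rev, hD.inv_eq hm]
      group
    have hyD : y ∈ D' := hcl x y hx hy hxy ⟨1, by simp⟩
    have M : Min p D' :=
      { prime := hp
        five_le := hp5
        set := hset
        small := fun H _ _ E hH hE => ih _ (hn ▸ hH) H E rfl hE
        cls := by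
          rintro a ⟨g, rfl⟩ b ⟨k, rfl⟩
          exact ⟨k * g⁻¹, by group⟩
        line := ⟨x, ⟨1, by simp⟩, d, hcl y d hy hd (fun h => hdy h.symm) hyD, y, hyD, hxd,
          hcl y (x * d) hy ht (fun h => hty h.symm) hyD, hxy⟩ }
    exact M.contra

end Cfsg.Agent.PTransp70
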