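import Cfsg.Agent.Lib.PTranspBasic70

/-!
A smallest group with a `p`-transposition set (`p ≥ 5`) having a commuting pair with product in the
set and a member not commuting with it: generation, transitivity of commuting, products of
commuting members.
-/

set_option autoImplicit false
set_option linter.unusedSectionVars false

universe u

namespace Cfsg.Agent.PTransp70

variable {G : Type u} [Group G]

/-- A commuting pair with product in `D`, and a member not commuting with it. -/
def HasLine (D : Set G) : Prop :=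
  ∃ x ∈ D, ∃ d ∈ D, ∃ y ∈ D, Commute x d ∧ x * d ∈ D ∧ ¬ Commute x y

/-- The image in a quotient of the members outside the normal subgroup. -/
def quotSet (D : Set G) (N : Subgroup G) : Set (G ⧸ N) :=
  (fun z : G => (z : G ⧸ N)) '' {z | z ∈ D ∧ z ∉ N}

theorem eq_one_or_self {i z : G} (hi : i * i = 1) (hz : z ∈ Subgroup.zpowers i) :
    z = 1 ∨ z = i := by
  obtain ⟨k, rfl⟩ := Subgroup.mem_zpowers_iff.1 hz
  have h2 : i ^ (2 : ℤ) = 1 := by rw [zpow_two, hi]
  rcases Int.even_or_odd' k with ⟨j, rfl | rfl⟩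
  · left; rw [zpow_mul, h2, one_zpow]
  · right; rw [zpow_add, zpow_mul, h2, one_zpow, one_mul, zpow_one]

namespace IsPSet

variable {p : ℕ} {D : Set G} (hD : IsPSet p D)
include hD

theorem restrict (H : Subgroup G) : IsPSet p {z : H | (z : G) ∈ D} where
  two a ha := by rw [← Subgroup.orderOf_coe]; exact hD.two _ ha
  conj a ha g := by simpa using hD.conj _ ha (g : G)
  pair a ha b hb := (hD.pair _ ha _ hb).imp (fun h => Subtype.ext h) fun h =>
    Subtype.ext (by simpa using h)

theorem quot (N : Subgroup G) [N.Normal] : IsPSet p (quotSet D N) where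
  two := by
    rintro _ ⟨z, ⟨hz, hzN⟩, rfl⟩
    refine orderOf_eq_prime (p := 2) ?_ ?_
    · rw [pow_two, ← QuotientGroup.mk_mul, hD.mul_self hz, QuotientGroup.mk_one]
    · exact fun h => hzN ((QuotientGroup.eq_one_iff z).1 h)
  conj := by
    rintro _ ⟨z, ⟨hz, hzN⟩, rfl⟩ g
    induction g using QuotientGroup.induction_on with
    | H g =>
      refine ⟨g * z * g⁻¹, ⟨hD.conj z hz g, fun h => hzN ?_⟩, by simp⟩
      have := Subgroup.Normal.conj_mem ‹_› _ h g⁻¹
      simpa [mul_assoc] using this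
  pair := by
    rintro _ ⟨a, ⟨ha, -⟩, rfl⟩ _ ⟨b, ⟨hb, -⟩, rfl⟩
    exact (hD.pair a ha b hb).imp (fun h => h.map (QuotientGroup.mk' N)) fun h => by
      have h' := congrArg (QuotientGroup.mk' N) h
      simpa using h'

theorem hasLine_quot (hp : p.Prime) (hp3 : 3 ≤ p) (N : Subgroup G) [N.Normal] {a b c y : G}
    (ha : a ∈ D) (hb : b ∈ D) (hc : c ∈ D) (hy : y ∈ D) (haN : a ∉ N) (hbN : b ∉ N) (hcN : c ∉ N)
    (hab : Commute a b) (habc : ((a * b : G) : G ⧸ N) = (c : G ⧸ N))
    (hay : ¬ Commute a y) (hby : ¬ Commute b y) : HasLine (quotSet D N) := by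
  have h2p : ∀ q : G ⧸ N, q ^ 2 = 1 → q ^ p = 1 → q = 1 := fun q h2 h => by
    have := Nat.dvd_gcd (orderOf_dvd_of_pow_eq_one h) (orderOf_dvd_of_pow_eq_one h2)
    rwa [(Nat.coprime_primes hp Nat.prime_two).2 (by omega), Nat.dvd_one,
      orderOf_eq_one_iff] at this
  have sq : ∀ {z : G}, z ∈ D → (z : G ⧸ N) * (z : G ⧸ N) = 1 := fun {z} hz => by
    rw [← QuotientGroup.mk_mul, hD.mul_self hz, QuotientGroup.mk_one]
  have hnc : ¬ Commute (a : G ⧸ N) (y : G ⧸ N) := by
    intro h
    have h1 : (a : G ⧸ N) * (y : G ⧸ N) = 1 := h2p _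
      (by rw [h.mul_pow, pow_two, pow_two, sq ha, sq hy, one_mul])
      (by rw [← QuotientGroup.mk_mul, ← QuotientGroup.mk_pow, hD.pow_eq_one ha hy hay,
        QuotientGroup.mk_one])
    have hya : (y : G ⧸ N) = a := by
      rw [← one_mul (y : G ⧸ N), ← sq ha, mul_assoc, h1, mul_one]
    refine hcN ((QuotientGroup.eq_one_iff c).1 (h2p _ ?_ ?_))
    · rw [pow_two, sq hc]
    · rw [← habc, hab.eq, QuotientGroup.mk_mul, ← hya, ← QuotientGroup.mk_mul,
        ← QuotientGroup.mk_pow, hD.pow_eq_one hb hy hby, QuotientGroup.mk_one]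
  refine ⟨a, ⟨a, ⟨ha, haN⟩, rfl⟩, b, ⟨b, ⟨hb, hbN⟩, rfl⟩, y, ⟨y, ⟨hy, fun h => hnc ?_⟩, rfl⟩,
    hab.map (QuotientGroup.mk' N), ?_, hnc⟩
  · rw [(QuotientGroup.eq_one_iff y).2 h]; exact Commute.one_right _
  · exact ⟨c, ⟨hc, hcN⟩, by rw [← QuotientGroup.mk_mul]; exact habc.symm⟩

/-- The `abc`-quotient: three commuting members whose product centralises `y`. -/
theorem hasLine_triangle (hp : p.Prime) (hp3 : 3 ≤ p) {a b c y : G} (ha : a ∈ D) (hb : b ∈ D)
    (hc : c ∈ D) (hy : y ∈ D) (hab : Commute a b) (hne : a ≠ b) (hac : Commute a c)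
    (hbc : Commute b c) (hay : ¬ Commute a y) (hby : ¬ Commute b y)
    (hi : Commute (a * b * c) y) :
    ∃ (N : Subgroup (Subgroup.closure ({a, b, c, y} : Set G))) (_ : N.Normal),
      (N = ⊥ ↔ a * b * c = 1) ∧
      HasLine (quotSet {z : Subgroup.closure ({a, b, c, y} : Set G) | (z : G) ∈ D} N) := by
  set H := Subgroup.closure ({a, b, c, y} : Set G) with hH
  have mem : ∀ z ∈ ({a, b, c, y} : Set G), z ∈ H := fun z hz => Subgroup.subset_closure hz
  have haH := mem a (by simp)
  have hbH := mem b (by simp)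
  have hcH := mem c (by simp)
  have hyH := mem y (by simp)
  set i : H := ⟨a, haH⟩ * ⟨b, hbH⟩ * ⟨c, hcH⟩ with hiH
  have hcab : Commute c (a * b) := hac.symm.mul_right hbc.symm
  have h2 : (a * b * c) * (a * b * c) = 1 := by
    rw [← pow_two, hcab.symm.mul_pow, hab.mul_pow, pow_two, pow_two, pow_two, hD.mul_self ha,
      hD.mul_self hb, hD.mul_self hc, one_mul, one_mul]
  have hi2 : i * i = 1 := Subtype.ext h2
  have hcen : ∀ g : H, Commute g i := by
    intro g
    have hle : H ≤ Subgroup.centralizer {a * b * c} := by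
      refine (Subgroup.closure_le _).2 fun z hz => Subgroup.mem_centralizer_singleton_iff.2 ?_
      rcases hz with rfl | rfl | rfl | rfl
      · exact (((Commute.refl z).mul_right hab).mul_right hac).eq
      · exact ((hab.symm.mul_right (Commute.refl z)).mul_right hbc).eq
      · exact (hcab.mul_right (Commute.refl z)).eq
      · exact hi.symm.eq
    exact Subtype.ext (Subgroup.mem_centralizer_singleton_iff.1 (hle g.2))
  have hN : (Subgroup.zpowers i).Normal := ⟨fun n hn g => by
    obtain ⟨k, rfl⟩ := Subgroup.mem_zpowers_iff.1 hn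
    rw [((hcen g).zpow_right k).eq, mul_inv_cancel_right]
    exact Subgroup.zpow_mem_zpowers i k⟩
  have hni : ∀ {z : G} (hzH : z ∈ H), z ∈ D → z ≠ a * b * c →
      (⟨z, hzH⟩ : H) ∉ Subgroup.zpowers i := by
    intro z hzH hzD hzi h
    rcases eq_one_or_self hi2 h with h | h
    · exact hD.ne_one hzD (congrArg Subtype.val h)
    · exact hzi (congrArg Subtype.val h)
  refine ⟨Subgroup.zpowers i, hN, ?_, ?_⟩
  · rw [Subgroup.zpowers_eq_bot]
    exact ⟨fun h => congrArg Subtype.val h, fun h => Subtype.ext h⟩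
  refine (hD.restrict H).hasLine_quot hp hp3 (Subgroup.zpowers i) (a := ⟨a, haH⟩) (b := ⟨b, hbH⟩)
    (c := ⟨c, hcH⟩) (y := ⟨y, hyH⟩) ha hb hc hy ?_ ?_ ?_ (Subtype.ext hab) ?_
    (fun h => hay (congrArg Subtype.val h)) (fun h => hby (congrArg Subtype.val h))
  · refine hni haH ha fun h => hby ?_
    have hbc1 : b * c = 1 := mul_left_cancel (a := a) (by rw [← mul_assoc, ← h, mul_one])
    rw [← h] at hi
    exact absurd hi hay
  · refine hni hbH hb fun h => hby ?_
    rw [← h] at hi
    exact hi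
  · refine hni hcH hc fun h => hne ?_
    have := mul_right_cancel (b := c) (h.symm.trans (one_mul c).symm)
    exact (hD.inv_eq ha).symm.trans (inv_eq_of_mul_eq_one_right this)
  · refine QuotientGroup.eq.2 ?_
    have : (⟨a, haH⟩ * ⟨b, hbH⟩ : H)⁻¹ * ⟨c, hcH⟩ = i := Subtype.ext (by
      change (a * b)⁻¹ * c = a * b * c
      rw [mul_inv_rev, hD.inv_eq ha, hD.inv_eq hb, hab.eq])
    rw [this]
    exact Subgroup.mem_zpowers i

end IsPSet

/-- A smallest counterexample. -/
structure Min (p : ℕ) (D : Set G) [Finite G] : Prop where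
  prime : p.Prime
  five_le : 5 ≤ p
  set : IsPSet p D
  small : ∀ (H : Type u) [Group H] [Finite H] (E : Set H),
    Nat.card H < Nat.card G → IsPSet p E → ¬ HasLine E
  cls : ∀ a ∈ D, ∀ b ∈ D, ∃ g : G, g * a * g⁻¹ = b
  line : HasLine D

namespace Min

variable [Finite G] {p : ℕ} {D : Set G} (M : Min p D)
include M

theorem three_le : 3 ≤ p := le_trans (by norm_num) M.five_le

theorem card_lt {H : Subgroup G} (h : H ≠ ⊤) : Nat.card H < Nat.card G :=
  lt_of_le_of_ne H.card_le_card_group fun e => h (Subgroup.eq_top_of_card_eq H e)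

theorem gen {x d y : G} (hx : x ∈ D) (hd : d ∈ D) (hy : y ∈ D) (hxd : Commute x d)
    (ht : x * d ∈ D) (hxy : ¬ Commute x y) {H : Subgroup G} (hxH : x ∈ H) (hdH : d ∈ H)
    (hyH : y ∈ H) : H = ⊤ := by
  by_contra h
  exact M.small H _ (M.card_lt h) (M.set.restrict H)
    ⟨⟨x, hxH⟩, hx, ⟨d, hdH⟩, hd, ⟨y, hyH⟩, hy, Subtype.ext hxd, ht,
      fun hc => hxy (congrArg Subtype.val hc)⟩

theorem normal_eq_bot {N : Subgroup G} (hN : N.Normal) (hT : N ≠ ⊤) : N = ⊥ := by
  by_contra hB
  obtain ⟨x, hx, d, hd, y, hy, hxd, ht, hxy⟩ := M.line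
  have hnot : ∀ {z : G}, z ∈ D → z ∉ N := by
    intro z hz hzN
    have : ∀ w ∈ D, w ∈ N := fun w hw => by
      obtain ⟨g, rfl⟩ := M.cls z hz w hw
      exact hN.conj_mem z hzN g
    exact hT (M.gen hx hd hy hxd ht hxy (this x hx) (this d hd) (this y hy))
  have hdy : ¬ Commute d y := fun h => hxy
    (M.set.commute_partner M.prime M.three_le hd hx hxd.symm (hxd.eq ▸ ht) hy h.symm).symm
  refine M.small (G ⧸ N) _ ?_ (M.set.quot N) (M.set.hasLine_quot M.prime M.three_le N hx hd ht hy
    (hnot hx) (hnot hd) (hnot ht) hxd rfl hxy hdy)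
  rw [Subgroup.card_eq_card_quotient_mul_card_subgroup N]
  refine lt_mul_of_one_lt_right Nat.card_pos ?_
  exact Subgroup.one_lt_card_iff_ne_bot N |>.2 hB

theorem center_eq_bot : Subgroup.center G = ⊥ := by
  refine M.normal_eq_bot inferInstance fun h => ?_
  obtain ⟨x, -, -, -, y, -, -, -, hxy⟩ := M.line
  exact hxy ((Subgroup.mem_center_iff.1 (h ▸ Subgroup.mem_top x : x ∈ Subgroup.center G) y).symm)

theorem eq_one_of_centralizes {x d y z : G} (hx : x ∈ D) (hd : d ∈ D) (hy : y ∈ D)
    (hxd : Commute x d) (ht : x * d ∈ D) (hxy : ¬ Commute x y) (h1 : Commute z x)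
    (h2 : Commute z d) (h3 : Commute z y) : z = 1 := by
  have h := M.gen hx hd hy hxd ht hxy (H := Subgroup.centralizer {z})
    (Subgroup.mem_centralizer_singleton_iff.2 h1.symm.eq)
    (Subgroup.mem_centralizer_singleton_iff.2 h2.symm.eq)
    (Subgroup.mem_centralizer_singleton_iff.2 h3.symm.eq)
  have : z ∈ Subgroup.center G := Subgroup.mem_center_iff.2 fun g =>
    Subgroup.mem_centralizer_singleton_iff.1 (h ▸ Subgroup.mem_top g : g ∈ Subgroup.centralizer {z})
  rwa [M.center_eq_bot, Subgroup.mem_bot] at this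

theorem partner {a : G} (ha : a ∈ D) : ∃ b ∈ D, Commute a b ∧ a * b ∈ D := by
  obtain ⟨x, hx, d, hd, -, -, hxd, ht, -⟩ := M.line
  obtain ⟨g, rfl⟩ := M.cls x hx a ha
  exact ⟨g * d * g⁻¹, M.set.conj d hd g, hxd.map (MulAut.conj g).toMonoidHom,
    by simpa using M.set.conj _ ht g⟩

theorem outsider {a : G} (ha : a ∈ D) : ∃ y ∈ D, ¬ Commute a y := by
  obtain ⟨x, hx, -, -, y, hy, -, -, hxy⟩ := M.line
  obtain ⟨g, rfl⟩ := M.cls x hx a ha
  refine ⟨g * y * g⁻¹, M.set.conj y hy g, fun h => hxy ?_⟩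
  simpa [mul_assoc] using h.map (MulAut.conj g⁻¹).toMonoidHom

theorem trans {a b c : G} (ha : a ∈ D) (hb : b ∈ D) (hc : c ∈ D) (hab : Commute a b)
    (hbc : Commute b c) : Commute a c := by
  by_contra h
  obtain ⟨a', ha', haa', ht⟩ := M.partner ha
  have hba' := M.set.commute_partner M.prime M.three_le ha ha' haa' ht hb hab.symm
  exact M.set.ne_one hb (M.eq_one_of_centralizes ha ha' hc haa' ht h hab.symm hba' hbc)

theorem commute_of_conj_commute {z w : G} (hz : z ∈ D) (hw : w ∈ D)
    (h : Commute (z * w * z) w) : Commute z w := by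
  by_contra hc
  have hsq : ((z * w) ^ 2) ^ 2 = 1 := by
    rw [show (z * w) ^ 2 = (z * w * z) * w by rw [pow_two]; group, h.mul_pow, pow_two, pow_two,
      M.set.mul_self hw, M.set.mul_self (M.set.conj' hw (M.set.mul_self hz)), one_mul]
  rw [← pow_mul] at hsq
  have := orderOf_dvd_of_pow_eq_one hsq
  rw [M.set.orderOf_eq M.prime M.three_le hz hw hc] at this
  have := Nat.le_of_dvd (by norm_num) this
  have := M.five_le
  omega

/-- The product of two different commuting members is a member. -/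
theorem prod_mem {a b : G} (ha : a ∈ D) (hb : b ∈ D) (hab : Commute a b) (hne : a ≠ b) :
    a * b ∈ D := by
  by_contra hnm
  have hp := M.prime
  have hp3 := M.three_le
  set e := a * b with he
  have he2 : e * e = 1 := by
    rw [he, ← pow_two, hab.mul_pow, pow_two, pow_two, M.set.mul_self ha, M.set.mul_self hb, one_mul]
  have hinv : e⁻¹ = e := IsolatedInv.inv_eq_self_of_sq he2
  have hex : ∃ y ∈ D, ¬ Commute (e * y * e) y := by
    by_contra hall
    push Not at hall
    set N : Subgroup G :=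
      { carrier := {g | ∀ z ∈ D, Commute (g * z * g⁻¹) z}
        one_mem' := fun z _ => by simp
        mul_mem' := fun {g h} hg hh z hz => by
          have h1 := hg (h * z * h⁻¹) (M.set.conj z hz h)
          have h2 := M.trans (M.set.conj _ (M.set.conj z hz h) g) (M.set.conj z hz h) hz h1
            (hh z hz)
          simpa [mul_assoc] using h2
        inv_mem' := fun {g} hg z hz => by
          have h1 := hg (g⁻¹ * z * g⁻¹⁻¹) (M.set.conj z hz g⁻¹)
          simpa [mul_assoc] using h1.symm } with hNdef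
    have hNn : N.Normal := ⟨fun g hg k z hz => by
      have h1 := (hg (k⁻¹ * z * k⁻¹⁻¹) (M.set.conj z hz k⁻¹)).map (MulAut.conj k).toMonoidHom
      simpa [mul_assoc] using h1⟩
    have hNT : N ≠ ⊤ := by
      intro h
      obtain ⟨y, hy, hay⟩ := M.outsider ha
      have hm := M.set.mid_mem hp hp3 ha hy hay
      have h1 : Commute (mid p a y * a * (mid p a y)⁻¹) a :=
        (h ▸ Subgroup.mem_top (mid p a y) : mid p a y ∈ N) a ha
      rw [M.set.inv_eq hm, M.set.mid_conj hp hp3 ha hy hay] at h1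
      exact hay h1.symm
    have heN : e ∈ N := fun z hz => by rw [hinv]; exact hall z hz
    rw [M.normal_eq_bot hNn hNT, Subgroup.mem_bot] at heN
    exact hne ((inv_eq_of_mul_eq_one_right heN).symm.trans (M.set.inv_eq ha)).symm
  obtain ⟨y, hy, hey⟩ := hex
  have hy' : e * y * e ∈ D := M.set.conj' hy he2
  have hsw : e * (e * y * e) * e⁻¹ = y := by
    rw [hinv, show e * (e * y * e) * e = (e * e) * y * (e * e) by group, he2, one_mul, mul_one]
  set c := mid p (e * y * e) y with hcdef
  have hc : c ∈ D := M.set.mid_mem hp hp3 hy' hy hey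
  have hec : Commute e c :=
    M.set.commute_mid_of_swap hp hp3 hy' hy hey hsw (by rw [hinv])
  obtain ⟨hca, hcb⟩ := M.set.commute_of_prod hp hp3 ha hb hab hne hc hec.symm
  have hay : ¬ Commute a y := by
    intro h
    have h' : Commute b y := M.trans hb ha hy hab.symm h
    apply hey
    rw [← (h.symm.mul_right h'.symm).eq, mul_assoc, he2, mul_one]
  have hby : ¬ Commute b y := fun h => hay (M.trans ha hb hy hab h)
  have hi : Commute (a * b * c) y := by
    have h1 : c * y * c = e * y * e := M.set.mid_conj' hp hp3 hy' hy hey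
    refine mul_inv_eq_iff_eq_mul.1 ?_
    rw [mul_inv_rev, M.set.inv_eq hc, ← he, hinv]
    calc e * c * y * (c * e) = e * (c * y * c) * e := by group
      _ = y := by
        rw [h1]
        conv_lhs => arg 2; rw [← hinv]
        exact hsw
  obtain ⟨N, hN, hNb, hline⟩ := M.set.hasLine_triangle hp hp3 ha hb hc hy hab hne hca.symm hcb.symm
    hay hby hi
  have hi1 : a * b * c ≠ 1 := by
    intro h
    rw [← he] at h
    exact hnm (by rw [← hinv, inv_eq_of_mul_eq_one_right h]; exact hc)
  refine M.small _ _ (lt_of_lt_of_le ?_ (Subgroup.card_le_card_group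
    (Subgroup.closure ({a, b, c, y} : Set G)))) ((M.set.restrict _).quot N) hline
  rw [Subgroup.card_eq_card_quotient_mul_card_subgroup N]
  exact lt_mul_of_one_lt_right Nat.card_pos
    ((Subgroup.one_lt_card_iff_ne_bot N).2 (mt hNb.1 hi1))

end Min

end Cfsg.Agent.PTransp70
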