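import Cfsg.Agent.Lib.PTranspLine70

/-!
In a `p`-transposition set with `p ≥ 5`: for a commuting pair `a`, `b` and `y` commuting with neither,
`y` commutes with its conjugate by `a b`; no four members form an induced path in the commuting
graph.
-/

set_option autoImplicit false
set_option linter.unusedSectionVars false

universe u

namespace Cfsg.Agent.PTransp70

variable {G : Type u} [Group G] [Finite G]

namespace IsPSet

variable {p : ℕ} {D : Set G} (hD : IsPSet p D) (hp : p.Prime) (hp5 : 5 ≤ p)
include hD hp hp5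

theorem commute_of_conj_commute {z w : G} (hz : z ∈ D) (hw : w ∈ D)
    (h : Commute (z * w * z) w) : Commute z w := by
  by_contra hc
  have hsq : ((z * w) ^ 2) ^ 2 = 1 := by
    rw [show (z * w) ^ 2 = (z * w * z) * w by rw [pow_two]; group, h.mul_pow, pow_two, pow_two,
      hD.mul_self hw, hD.mul_self (hD.conj' hw (hD.mul_self hz)), one_mul]
  rw [← pow_mul] at hsq
  have := orderOf_dvd_of_pow_eq_one hsq
  rw [hD.orderOf_eq hp (le_trans (by norm_num) hp5) hz hw hc] at this
  have := Nat.le_of_dvd (by norm_num) this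
  omega

/-- For a commuting pair and a member commuting with neither, the member commutes with its
conjugate by the product. -/
theorem commute_prod_conj {a b y : G} (ha : a ∈ D) (hb : b ∈ D) (hy : y ∈ D) (hab : Commute a b)
    (hne : a ≠ b) (hay : ¬ Commute a y) (hby : ¬ Commute b y) :
    Commute (a * b * y * (a * b)) y := by
  by_contra hey
  have hp3 : 3 ≤ p := le_trans (by norm_num) hp5
  set e := a * b with he
  have he2 : e * e = 1 := by
    rw [he, ← pow_two, hab.mul_pow, pow_two, pow_two, hD.mul_self ha, hD.mul_self hb, one_mul]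
  have hinv : e⁻¹ = e := IsolatedInv.inv_eq_self_of_sq he2
  have hy' : e * y * e ∈ D := hD.conj' hy he2
  have hsw : e * (e * y * e) * e⁻¹ = y := by
    rw [hinv, show e * (e * y * e) * e = (e * e) * y * (e * e) by group, he2, one_mul, mul_one]
  set c := mid p (e * y * e) y with hcdef
  have hc : c ∈ D := hD.mid_mem hp hp3 hy' hy hey
  have hec : Commute e c := hD.commute_mid_of_swap hp hp3 hy' hy hey hsw (by rw [hinv])
  obtain ⟨hca, hcb⟩ := hD.commute_of_prod hp hp3 ha hb hab hne hc hec.symm
  have hi : Commute (a * b * c) y := by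
    have h1 : c * y * c = e * y * e := hD.mid_conj' hp hp3 hy' hy hey
    refine mul_inv_eq_iff_eq_mul.1 ?_
    rw [mul_inv_rev, hD.inv_eq hc, ← he, hinv]
    calc e * c * y * (c * e) = e * (c * y * c) * e := by group
      _ = y := by
        rw [h1]
        conv_lhs => arg 2; rw [← hinv]
        exact hsw
  obtain ⟨N, hN, -, hline⟩ :=
    hD.hasLine_triangle hp hp3 ha hb hc hy hab hne hca.symm hcb.symm hay hby hi
  exact not_hasLine hp hp5 _ _ ((hD.restrict _).quot N) hline

/-- No induced path on four vertices in the commuting graph. -/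
theorem no_path {t d s w : G} (ht : t ∈ D) (hd : d ∈ D) (hs : s ∈ D) (hw : w ∈ D)
    (htd : Commute t d) (hds : Commute d s) (hsw : Commute s w) (hts : ¬ Commute t s)
    (htw : ¬ Commute t w) (hdw : ¬ Commute d w) : False := by
  have hp3 : 3 ≤ p := le_trans (by norm_num) hp5
  have hord := hD.orderOf_eq hp hp3 hd hw hdw
  have hup := hD.pow_eq_one hd hw hdw
  have hd2 := hD.mul_self hd
  have hdi := hD.inv_eq hd
  set u := d * w with hu
  set e := d * t with he
  have hde : Commute d e := (Commute.refl d).mul_right htd.symm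
  have he2 : e * e = 1 := by
    rw [he, ← pow_two, htd.symm.mul_pow, pow_two, pow_two, hd2, hD.mul_self ht, one_mul]
  have htd' : t ≠ d := fun h => hts (h ▸ hds)
  have hud : ∀ n : ℕ, d * u ^ n * d = (u ^ n)⁻¹ := hD.inverts hd hw
  have hdu : ∀ n : ℕ, d * (u ^ n)⁻¹ * d = u ^ n := fun n => by
    rw [← hud n, show d * (d * u ^ n * d) * d = (d * d) * u ^ n * (d * d) by group, hd2, one_mul,
      mul_one]
  let ec : ℕ → G := fun i => (u ^ i)⁻¹ * e * u ^ i
  have hec_sq : ∀ i, ec i * ec i = 1 := fun i => by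
    change (u ^ i)⁻¹ * e * u ^ i * ((u ^ i)⁻¹ * e * u ^ i) = 1
    rw [show (u ^ i)⁻¹ * e * u ^ i * ((u ^ i)⁻¹ * e * u ^ i) = (u ^ i)⁻¹ * (e * e) * u ^ i by group,
      he2, mul_one, inv_mul_cancel]
  have hec_mod : ∀ i, ec (i % p) = ec i := fun i => by
    have : u ^ (i % p) = u ^ i := by
      conv_rhs => rw [← Nat.mod_add_div i p, pow_add, pow_mul, hup, one_pow, mul_one]
    simp only [ec, this]
  have hec0 : ∀ i, Commute e (ec i) := by
    intro i
    rw [← hec_mod]
    by_cases hi : i % p = 0
    · simp [ec, hi]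
    set j := i % p with hj
    have hjp : j < p := Nat.mod_lt _ hp.pos
    have hne1 : u ^ j ≠ 1 := pow_ne_one_of_lt_orderOf hi (hord.symm ▸ hjp)
    set z := d * u ^ j with hz
    have hzD : z ∈ D := hD.line_mem hp hp3 hd hw hdw j
    have hdz : ¬ Commute d z := fun h => by
      have hdu' : Commute d (u ^ j) := by
        rw [← hD.mul_mul hd (u ^ j)]; exact (Commute.refl d).mul_right h
      have h2 : (u ^ j) ^ 2 = 1 := by
        have h3 := hud j
        rw [hdu'.eq, mul_assoc, hd2, mul_one] at h3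
        rw [pow_two]
        nth_rw 2 [h3]
        exact mul_inv_cancel _
      have h4 : (u ^ j) ^ p = 1 := by rw [← pow_mul, mul_comm, pow_mul, hup, one_pow]
      have h5 := Nat.dvd_gcd (orderOf_dvd_of_pow_eq_one h4) (orderOf_dvd_of_pow_eq_one h2)
      rw [(Nat.coprime_primes hp Nat.prime_two).2 (by omega), Nat.dvd_one,
        orderOf_eq_one_iff] at h5
      exact hne1 h5
    have htz : ¬ Commute t z := fun h => by
      have htu : Commute t (u ^ j) := by
        rw [← hD.mul_mul hd (u ^ j)]; exact htd.mul_right h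
      obtain ⟨k, hk⟩ : ∃ k, (u ^ j) ^ k = u := by
        have hco : Nat.Coprime j p := ((hp.coprime_iff_not_dvd).2 fun hdv =>
          hi (Nat.eq_zero_of_dvd_of_lt hdv hjp)).symm
        obtain ⟨k, hk⟩ := exists_pow_eq_self_of_coprime (hord.symm ▸ hco)
        exact ⟨k, hk⟩
      apply htw
      rw [← hD.mul_mul hd w, ← hu, ← hk]
      exact htd.mul_right (htu.pow_right k)
    have key : Commute (e * z * e) z :=
      hD.commute_prod_conj hp hp5 hd ht hzD htd.symm (fun h => htd' h.symm) hdz htz
    have hzz : z * e * z = ec j := by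
      change d * u ^ j * e * (d * u ^ j) = (u ^ j)⁻¹ * e * u ^ j
      rw [← hud j]
      calc d * u ^ j * e * (d * u ^ j) = d * u ^ j * (e * d) * u ^ j := by group
        _ = d * u ^ j * (d * e) * u ^ j := by rw [hde.eq]
        _ = _ := by group
    have h4 : ((e * z) * (e * z)) * ((e * z) * (e * z)) = 1 := by
      rw [show (e * z) * (e * z) = (e * z * e) * z by group, ← pow_two, key.mul_pow, pow_two,
        pow_two, hD.mul_self hzD, hD.mul_self (hD.conj' hzD he2), one_mul]
    rw [← hzz]
    have hinv : (e * (z * e * z))⁻¹ = e * (z * e * z) :=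
      IsolatedInv.inv_eq_self_of_sq (by simpa [mul_assoc] using h4)
    have hz' : (z * e * z)⁻¹ = z * e * z := by
      simp [hD.inv_eq hzD, IsolatedInv.inv_eq_self_of_sq he2, mul_assoc]
    rw [mul_inv_rev, hz', IsolatedInv.inv_eq_self_of_sq he2] at hinv
    exact hinv.symm
  have hec_comm : ∀ i j, Commute (ec i) (ec j) := by
    intro i j
    rcases le_total i j with h | h
    all_goals
      obtain ⟨k, rfl⟩ := Nat.exists_eq_add_of_le h
    · have := (hec0 k).map (MulAut.conj (u ^ i)⁻¹).toMonoidHom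
      simp only [MulEquiv.coe_toMonoidHom, MulAut.conj_apply, inv_inv] at this
      simp only [ec, add_comm i k, pow_add, mul_inv_rev] at this ⊢
      simpa only [mul_assoc] using this
    · have := (hec0 k).map (MulAut.conj (u ^ j)⁻¹).toMonoidHom
      simp only [MulEquiv.coe_toMonoidHom, MulAut.conj_apply, inv_inv] at this
      simp only [ec, add_comm j k, pow_add, mul_inv_rev] at this ⊢
      simpa only [mul_assoc] using this.symm
  set V := Subgroup.closure (Set.range ec) with hV
  have hVc : ∀ {v v' : G}, v ∈ V → v' ∈ V → Commute v v' := by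
    intro v v' hv hv'
    have h1 : V ≤ Subgroup.centralizer (Set.range ec) := (Subgroup.closure_le _).2 (by
      rintro _ ⟨i, rfl⟩ _ ⟨j, rfl⟩
      exact (hec_comm j i).eq)
    have h2 : V ≤ Subgroup.centralizer (V : Set G) := by
      rw [hV, Subgroup.centralizer_closure]
      exact h1
    exact h2 hv' v hv
  have hV2 : ∀ {v : G}, v ∈ V → v * v = 1 := by
    intro v hv
    induction hv using Subgroup.closure_induction with
    | mem x hx => obtain ⟨i, rfl⟩ := hx; exact hec_sq i
    | one => simp
    | mul x y hx hy ihx ihy =>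
      rw [← pow_two, (hVc hx hy).mul_pow, pow_two, pow_two, ihx, ihy, one_mul]
    | inv x _ ihx => rw [← mul_inv_rev, ihx, inv_one]
  have hVstab : ∀ (g g' : G), g' * g = 1 → (∀ i, g * ec i * g' ∈ V) →
      ∀ v ∈ V, g * v * g' ∈ V := by
    intro g g' hg h v hv
    have hg' : g * g' = 1 := mul_eq_one_comm.1 hg
    induction hv using Subgroup.closure_induction with
    | mem x hx => obtain ⟨i, rfl⟩ := hx; exact h i
    | one => rw [mul_one, hg']; exact V.one_mem
    | mul x y _ _ ihx ihy =>
      rw [show g * (x * y) * g' = (g * x * g') * (g * y * g') by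
        simp only [mul_assoc]; rw [← mul_assoc g' g, hg, one_mul]]
      exact V.mul_mem ihx ihy
    | inv x _ ihx =>
      have := V.inv_mem ihx
      rwa [mul_inv_rev, mul_inv_rev, inv_eq_of_mul_eq_one_left hg',
        inv_eq_of_mul_eq_one_right hg', ← mul_assoc] at this
  have hecV : ∀ i, ec i ∈ V := fun i => Subgroup.subset_closure ⟨i, rfl⟩
  have hVu : ∀ v ∈ V, ∀ n : ℕ, (u ^ n)⁻¹ * v * u ^ n ∈ V := fun v hv n =>
    hVstab _ _ (mul_inv_cancel _) (fun i => by
      have : (u ^ n)⁻¹ * ec i * u ^ n = ec (i + n) := by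
        simp only [ec, pow_add, mul_inv_rev]; group
      rw [this]; exact hecV _) v hv
  have hdec : ∀ i, d * ec i * d = ec (i * (p - 1)) := by
    intro i
    have h1 : u ^ (i * (p - 1)) = (u ^ i)⁻¹ := by
      refine eq_inv_of_mul_eq_one_left ?_
      rw [← pow_add, ← Nat.mul_succ, show (p - 1).succ = p by omega, mul_comm, pow_mul, hup,
        one_pow]
    change d * ((u ^ i)⁻¹ * e * u ^ i) * d = (u ^ (i * (p - 1)))⁻¹ * e * u ^ (i * (p - 1))
    rw [h1, inv_inv]
    calc d * ((u ^ i)⁻¹ * e * u ^ i) * d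
        = (d * (u ^ i)⁻¹ * d) * (d⁻¹ * e * d) * (d⁻¹ * u ^ i * d) := by group
      _ = u ^ i * e * (u ^ i)⁻¹ := by
          rw [hdu, hdi, hud, hde.eq, mul_assoc e d d, hd2, mul_one]
  have hVd : ∀ v ∈ V, d * v * d ∈ V := hVstab _ _ hd2 fun i => by rw [hdec]; exact hecV _
  have hwd : w = d * u := (hD.mul_mul hd w).symm
  have hVw : ∀ v ∈ V, w * v * w ∈ V := by
    intro v hv
    have h1 := hVu _ (hVd v hv) 1
    rw [pow_one] at h1
    convert h1 using 1
    rw [hu, mul_inv_rev, hdi, hD.inv_eq hw]
    simp only [mul_assoc]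
    rw [hD.mul_mul hd, hD.mul_mul hd]
  -- elements `v (d v d)` and the conjugates of `d`
  have hphi_mem : ∀ v ∈ V, d * (v * (d * v * d)) ∈ D := by
    intro v hv
    have e1 : d * (v * (d * v * d)) = v⁻¹ * d * v⁻¹⁻¹ := by
      rw [inv_inv, IsolatedInv.inv_eq_self_of_sq (hV2 hv), (hVc hv (hVd v hv)).eq]
      simp only [mul_assoc]
      rw [hD.mul_mul hd]
    rw [e1]; exact hD.conj d hd _
  have hphi_d : ∀ v ∈ V, Commute d (v * (d * v * d)) := by
    intro v hv
    change d * (v * (d * v * d)) = v * (d * v * d) * d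
    conv_lhs => rw [(hVc hv (hVd v hv)).eq]
    simp only [mul_assoc, hd2, mul_one]
    rw [hD.mul_mul hd]
  -- `e` is of that form
  obtain ⟨v0, hv0, hev0⟩ : ∃ v ∈ V, e = v * (d * v * d) := by
    set h := (p + 1) / 2 with hh
    have h2h := hD.two_half hp hp3
    have hind : ∀ n : ℕ, ∃ v ∈ V, (u⁻¹ * e) ^ n = (u ^ n)⁻¹ * v := by
      intro n
      induction n with
      | zero => exact ⟨1, V.one_mem, by simp⟩
      | succ n ih =>
        obtain ⟨v, hv, hn⟩ := ih
        refine ⟨(u * v * u⁻¹) * e, V.mul_mem ?_ (by simpa [ec] using hecV 0), ?_⟩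
        · have hp1 : u ^ (p - 1) = u⁻¹ := by
            refine eq_inv_of_mul_eq_one_left ?_
            rw [← pow_succ, show p - 1 + 1 = p by omega, hup]
          have := hVu v hv (p - 1)
          rwa [hp1, inv_inv] at this
        · rw [pow_succ, hn, pow_succ']; group
    obtain ⟨v, hv, hvn⟩ := hind h
    have hwt : w * t = u⁻¹ * e := by
      rw [hu, he, mul_inv_rev, hdi, hD.inv_eq hw, mul_assoc, hD.mul_mul hd]
    refine ⟨v, hv, ?_⟩
    have hwtc : ¬ Commute w t := fun h => htw h.symm
    have hμ : mid p w t = mid p d w * v := by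
      have e1 : u * (u ^ h)⁻¹ = u ^ h := by
        rw [mul_inv_eq_iff_eq_mul, ← pow_add, ← two_mul, h2h, pow_succ, hup, one_mul]
      change w * (w * t) ^ h = d * u ^ h * v
      rw [hwt, hvn]
      conv_lhs => rw [hwd]
      conv_rhs => rw [← e1]
      group
    have hm1 := hD.mid_conj' hp hp3 hd hw hdw
    have hm2 := hD.mid_conj hp hp3 hw ht hwtc
    have hm2' : (mid p w t)⁻¹ = mid p w t := hD.inv_eq (hD.mid_mem hp hp3 hw ht hwtc)
    have ht' : t = v * d * v := by
      have : (mid p w t)⁻¹ * w * mid p w t = t := by rw [hm2']; exact hm2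
      rw [hμ, mul_inv_rev, IsolatedInv.inv_eq_self_of_sq (hV2 hv),
        hD.inv_eq (hD.mid_mem hp hp3 hd hw hdw)] at this
      rw [← this]
      calc v * mid p d w * w * (mid p d w * v) = v * (mid p d w * w * mid p d w) * v := by group
        _ = v * d * v := by rw [hm1]
    rw [(hVc hv (hVd v hv)).eq, he, ht']
    simp only [mul_assoc]
  -- the centralizer of `s`
  set W := Subgroup.centralizer ({s} : Set G) with hW
  have memW : ∀ {x : G}, x ∈ W ↔ Commute x s := fun {x} => Subgroup.mem_centralizer_singleton_iff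
  have hsu : Commute u s := Commute.mul_left hds hsw.symm
  have hWconj : ∀ {x g g' : G}, g' * g = 1 → Commute g s → Commute g' s → x ∈ W →
      g * x * g' ∈ W := fun _ hg hg' hx => memW.2 ((hg.mul_left (memW.1 hx)).mul_left hg')
  have heW : e ∉ W := fun h => hts (by
    rw [← hD.mul_mul hd t]; exact hds.mul_left (memW.1 h))
  have hindex : ∀ v ∈ V, v * (d * v * d) ∈ W ∨ e * (v * (d * v * d)) ∈ W := by
    intro v hv
    by_contra hno
    push Not at hno
    obtain ⟨hf, hef⟩ := hno
    set f := v * (d * v * d) with hfdef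
    have hfV : f ∈ V := V.mul_mem hv (hVd v hv)
    have hd2f : Commute d f := hphi_d v hv
    have hef2 : e * f = (v0 * v) * (d * (v0 * v) * d) := by
      rw [hev0, hfdef]
      have h1 : Commute (d * v0 * d) v := hVc (hVd v0 hv0) hv
      calc v0 * (d * v0 * d) * (v * (d * v * d))
          = v0 * ((d * v0 * d) * v) * (d * v * d) := by group
        _ = v0 * (v * (d * v0 * d)) * (d * v * d) := by rw [h1.eq]
        _ = v0 * v * (d * v0 * (d * d) * v * d) := by group
        _ = v0 * v * (d * (v0 * v) * d) := by rw [hd2, mul_one]; group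
    have hT2 : d * f ∈ D := hphi_mem v hv
    have hT3 : d * (e * f) ∈ D := by rw [hef2]; exact hphi_mem _ (V.mul_mem hv0 hv)
    have hdef : Commute d (e * f) := hde.mul_right hd2f
    have hprod : t * (d * f) = e * f := by
      rw [← mul_assoc, show t * d = e from htd.eq]
    have hcT : Commute t (d * f) := by
      rw [← hD.mul_mul hd t, ← he]
      exact Commute.mul_left ((Commute.refl d).mul_right hd2f)
        (Commute.mul_right hde.symm (hVc (by simpa [ec] using hecV 0) hfV))
    have hneT : t ≠ d * f := fun h => hef (by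
      rw [← hprod, ← h, hD.mul_self ht]; exact W.one_mem)
    have hfs : ¬ Commute (d * f) s := fun h => hf (memW.2 (by
      rw [← hD.mul_mul hd f]; exact hds.mul_left h))
    have h1 := hD.commute_prod_conj hp hp5 ht hT2 hs hcT hneT hts hfs
    rw [hprod] at h1
    have h2 : e * f * s * (e * f) = (d * (e * f)) * s * (d * (e * f)) := by
      symm
      calc d * (e * f) * s * (d * (e * f))
          = (d * (e * f)) * (s * d) * (e * f) := by group
        _ = ((e * f) * d) * (d * s) * (e * f) := by rw [hdef.eq, hds.eq]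
        _ = e * f * (d * d) * s * (e * f) := by group
        _ = e * f * s * (e * f) := by rw [hd2, mul_one]
    rw [h2] at h1
    refine hef (memW.2 ?_)
    rw [← hD.mul_mul hd (e * f)]
    exact hds.mul_left (hD.commute_of_conj_commute hp hp5 hT3 hs h1)
  -- congruence modulo `W`
  let R : G → G → Prop := fun x y => x * y ∈ W
  have hRs : ∀ {x y : G}, x ∈ V → y ∈ V → R x y → R y x := fun hx hy h => by
    change _ * _ ∈ W; rw [(hVc hy hx).eq]; exact h
  have hRt : ∀ {x y z : G}, y ∈ V → R x y → R y z → R x z := fun {x y z} hy h h' => by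
    change x * z ∈ W
    rw [show x * z = (x * y) * (y * z) by
      rw [mul_assoc x y (y * z), ← mul_assoc y y, hV2 hy, one_mul]]
    exact W.mul_mem h h'
  have hRrefl : ∀ {x : G}, x ∈ V → R x x := fun hx => by
    change _ * _ ∈ W; rw [hV2 hx]; exact W.one_mem
  have hRu : ∀ {x y : G} (n : ℕ), R x y →
      R ((u ^ n)⁻¹ * x * u ^ n) ((u ^ n)⁻¹ * y * u ^ n) := fun {x y} n h => by
    change _ * _ ∈ W
    rw [show (u ^ n)⁻¹ * x * u ^ n * ((u ^ n)⁻¹ * y * u ^ n) = (u ^ n)⁻¹ * (x * y) * u ^ n by group]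
    exact hWconj (mul_inv_cancel _) (hsu.pow_left n).inv_left (hsu.pow_left n) h
  have hRd : ∀ {x y : G}, R x y → R (d * x * d) (d * y * d) := fun {x y} h => by
    change _ * _ ∈ W
    rw [show d * x * d * (d * y * d) = d * x * (d * d) * y * d by group, hd2, mul_one,
      mul_assoc d x y]
    exact hWconj hd2 hds hds h
  have hRw : ∀ {x y : G}, R x y → R (w * x * w) (w * y * w) := fun {x y} h => by
    change _ * _ ∈ W
    rw [show w * x * w * (w * y * w) = w * x * (w * w) * y * w by group, hD.mul_self hw, mul_one,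
      mul_assoc w x y]
    exact hWconj (hD.mul_self hw) hsw.symm hsw.symm h
  have heV : e ∈ V := by simpa [ec] using hecV 0
  have hec1 : (u ^ 1)⁻¹ * e * u ^ 1 = ec 1 := rfl
  suffices h1 : R (ec 1) e by
    have hall : ∀ i, R (ec i) e := by
      intro i
      induction i with
      | zero => change R ((u ^ 0)⁻¹ * e * u ^ 0) e; simp [R, he2, W.one_mem]
      | succ i ih =>
        have := hRu 1 ih
        have e1 : (u ^ 1)⁻¹ * ec i * u ^ 1 = ec (i + 1) := by
          simp only [ec, pow_succ, pow_zero, one_mul, mul_inv_rev]; group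
        rw [e1] at this
        exact hRt (hecV 1) this h1
    have hVW : ∀ v ∈ V, v ∈ W ∨ R v e := by
      intro v hv
      induction hv using Subgroup.closure_induction with
      | mem x hx => obtain ⟨i, rfl⟩ := hx; exact Or.inr (hall i)
      | one => exact Or.inl W.one_mem
      | mul x y hx hy ihx ihy =>
        rcases ihx with ihx | ihx <;> rcases ihy with ihy | ihy
        · exact Or.inl (W.mul_mem ihx ihy)
        · refine Or.inr ?_
          change x * y * e ∈ W; rw [mul_assoc]; exact W.mul_mem ihx ihy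
        · refine Or.inr ?_
          change x * y * e ∈ W
          rw [mul_assoc, (hVc hy heV).eq, ← mul_assoc]; exact W.mul_mem ihx ihy
        · refine Or.inl ?_
          have e1 : x * y = (x * e) * (y * e) := by
            rw [(hVc hy heV).eq]
            simp only [mul_assoc]
            rw [← mul_assoc e e, he2, one_mul]
          rw [e1]; exact W.mul_mem ihx ihy
      | inv x hx ihx => rw [IsolatedInv.inv_eq_self_of_sq (hV2 hx)]; exact ihx
    refine heW ?_
    rw [hev0]
    rcases hVW v0 hv0 with h | h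
    · exact W.mul_mem h (hWconj hd2 hds hds h)
    · refine hRt (z := d * v0 * d) heV h ?_
      have h5 := hRd h
      rw [hde.eq, mul_assoc e d d, hd2, mul_one] at h5
      exact hRs (hVd _ hv0) heV h5
  -- the two-dimensional quotient
  set h := (p + 1) / 2 with hh
  set b := (u ^ h)⁻¹ * e * u ^ h with hb
  have hbV : b ∈ V := hecV h
  have hwb : w * b * w = b := by
    have h2h := hD.two_half hp hp3
    have e1 : (u ^ h)⁻¹ * u = u ^ h := by
      rw [inv_mul_eq_iff_eq_mul, ← pow_add, ← two_mul, h2h, pow_succ, hup, one_mul]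
    have e3 : u ^ h * u⁻¹ = (u ^ h)⁻¹ := by
      rw [mul_inv_eq_iff_eq_mul]
      exact e1.symm
    calc w * b * w = d * u * ((u ^ h)⁻¹ * e * u ^ h) * (u⁻¹ * d) := by
          conv_lhs => arg 2; rw [← hD.inv_eq hw, hwd, mul_inv_rev, hdi]
          rw [← hwd]
      _ = d * (u * (u ^ h)⁻¹) * e * (u ^ h * u⁻¹) * d := by group
      _ = d * u ^ h * e * (u ^ h)⁻¹ * d := by
          rw [e3, show u * (u ^ h)⁻¹ = (u ^ h)⁻¹ * u from
            (((Commute.refl u).pow_right h).inv_right).eq, e1]
      _ = (d * u ^ h * d) * (d⁻¹ * e * d) * (d⁻¹ * (u ^ h)⁻¹ * d) := by group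
      _ = b := by
          rw [hud, hdi, hdu, hde.eq, mul_assoc e d d, hd2, mul_one]
  have hua : ∀ n : ℕ, ∀ {x : G}, x ∈ V → (u ^ n)⁻¹ * x * u ^ n ∈ V := fun n x hx => hVu x hx n
  -- `psi v = v (w v w)` lies in `W` or `b W`
  have hpsi : ∀ v ∈ V, v * (w * v * w) ∈ W ∨ R (v * (w * v * w)) b := by
    intro v hv
    set v' := u ^ h * v * (u ^ h)⁻¹ with hv'
    have hp1 : u ^ (h * (p - 1)) = (u ^ h)⁻¹ := by
      refine eq_inv_of_mul_eq_one_left ?_
      rw [← pow_add, ← Nat.mul_succ, show (p - 1).succ = p by omega, mul_comm, pow_mul, hup,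
        one_pow]
    have hv'V : v' ∈ V := by
      have := hVu v hv (h * (p - 1))
      rwa [hp1, inv_inv] at this
    have hconj : (u ^ h)⁻¹ * (d * v' * d) * u ^ h = w * v * w := by
      have h2h := hD.two_half hp hp3
      have e2 : u ^ h * u ^ h = u := by
        rw [← pow_add, ← two_mul, h2h, pow_succ, hup, one_mul]
      have e4 : (u ^ h)⁻¹ * d = d * u ^ h := hD.inv_mul_pow hd hw h
      have e5 : d * u ^ h = (u ^ h)⁻¹ * d := e4.symm
      calc (u ^ h)⁻¹ * (d * v' * d) * u ^ h
          = ((u ^ h)⁻¹ * d) * v' * (d * u ^ h) := by group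
        _ = (d * u ^ h) * v' * ((u ^ h)⁻¹ * d) := by rw [e4]
        _ = d * (u ^ h * u ^ h) * v * ((u ^ h * u ^ h)⁻¹ * d) := by rw [hv']; group
        _ = w * v * (u⁻¹ * d) := by rw [e2, ← hwd]
        _ = w * v * w := by
            rw [show u⁻¹ * d = w by
              conv_rhs => rw [← hD.inv_eq hw, hwd, mul_inv_rev, hdi]]
    have hvv : (u ^ h)⁻¹ * v' * u ^ h = v := by rw [hv']; group
    have key : ∀ {x : G}, (u ^ h)⁻¹ * (v' * (d * v' * d)) * u ^ h = x → x = v * (w * v * w) := by
      intro x hx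
      rw [← hx, ← hconj]
      conv_rhs => arg 1; rw [← hvv]
      group
    rcases hindex v' hv'V with h3 | h3
    · left
      rw [← key rfl]
      exact hWconj (mul_inv_cancel _) (hsu.pow_left h).inv_left (hsu.pow_left h) h3
    · right
      have h4 : R (v' * (d * v' * d)) e := by
        change _ * _ ∈ W
        rw [(hVc (V.mul_mem hv'V (hVd _ hv'V)) heV).eq]; exact h3
      have := hRu h h4
      rwa [key rfl] at this
  have ha1 : w * e * w = ec 1 := by
    change _ = (u ^ 1)⁻¹ * e * u ^ 1
    rw [pow_one]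
    conv_lhs => arg 2; rw [hwd]
    conv_lhs => arg 1; arg 1; rw [← hD.inv_eq hw, hwd, mul_inv_rev, hdi]
    calc u⁻¹ * d * e * (d * u) = u⁻¹ * (d * e) * d * u := by group
      _ = u⁻¹ * e * u := by rw [hde.eq, show u⁻¹ * (e * d) * d = u⁻¹ * e * (d * d) by group, hd2,
            mul_one]
  by_contra h1
  have hab : R (ec 1) (e * b) := by
    rcases hpsi e heV with h3 | h3
    · exact absurd (hRs heV (hecV 1) (ha1 ▸ h3)) h1
    · rw [ha1] at h3
      change ec 1 * (e * b) ∈ W
      rw [← mul_assoc, (hVc (hecV 1) heV).eq]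
      exact h3
  have hdb : d * b * d ∈ V := hVd b hbV
  have hrel : R (d * b * d) b ∨ R (d * b * d) (e * b) := by
    rcases hindex b hbV with h3 | h3
    · left
      change d * b * d * b ∈ W
      rw [(hVc hdb hbV).eq]; exact h3
    · right
      change d * b * d * (e * b) ∈ W
      rw [(hVc hdb (V.mul_mem heV hbV)).eq, mul_assoc]; exact h3
  have hub1 : ∀ y : G, R (d * b * d) y → R ((u ^ 1)⁻¹ * b * u ^ 1) (w * y * w) := by
    intro y hy
    have := hRw hy
    have e1 : w * (d * b * d) * w = (u ^ 1)⁻¹ * b * u ^ 1 := by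
      rw [pow_one, hu, mul_inv_rev, hdi, hD.inv_eq hw]; group
    rwa [e1] at this
  -- `u ^ 6` fixes the class of `e`, hence so does `u`
  have hebV : e * b ∈ V := V.mul_mem heV hbV
  have step : ∀ (x y : G), R ((u ^ 1)⁻¹ * x * u ^ 1) y → ∀ (n : ℕ),
      R ((u ^ (n + 1))⁻¹ * x * u ^ (n + 1)) ((u ^ n)⁻¹ * y * u ^ n) := by
    intro x y hxy n
    have := hRu n hxy
    rwa [show (u ^ n)⁻¹ * ((u ^ 1)⁻¹ * x * u ^ 1) * u ^ n = (u ^ (n + 1))⁻¹ * x * u ^ (n + 1) by
      rw [pow_one, pow_succ']; group] at this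
  have h6 : R (ec 6) e := by
    have hu_e : R ((u ^ 1)⁻¹ * e * u ^ 1) (e * b) := hab
    rcases hrel with h3 | h3
    · -- `b` fixed, period two
      have hu_b : R ((u ^ 1)⁻¹ * b * u ^ 1) b := by
        have := hub1 b h3; rwa [hwb] at this
      have hu_eb : R ((u ^ 1)⁻¹ * (e * b) * u ^ 1) e := by
        have h4 : R ((u ^ 1)⁻¹ * e * u ^ 1 * ((u ^ 1)⁻¹ * b * u ^ 1)) (e * b * b) := by
          change _ * _ ∈ W
          have m1 := hVu e heV 1
          have m2 := hVu b hbV 1
          generalize (u ^ 1)⁻¹ * e * u ^ 1 = x at hu_e m1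
          generalize (u ^ 1)⁻¹ * b * u ^ 1 = y at hu_b m2
          rw [show x * y * (e * b * b) = x * (y * (e * b)) * b by group, (hVc m2 hebV).eq,
            show x * (e * b * y) * b = (x * (e * b)) * (y * b) by group]
          exact W.mul_mem hu_e hu_b
        rw [mul_assoc e b b, hV2 hbV, mul_one] at h4
        rwa [show (u ^ 1)⁻¹ * e * u ^ 1 * ((u ^ 1)⁻¹ * b * u ^ 1) = (u ^ 1)⁻¹ * (e * b) * u ^ 1 by
          group] at h4
      have s2 : ∀ n, R (ec (n + 2)) (ec n) := by
        intro n
        have t1 := step e (e * b) hu_e (n + 1)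
        have t2 := step (e * b) e hu_eb n
        exact hRt (hVu _ hebV (n + 1)) t1 t2
      exact hRt (hecV 4) (s2 4) (hRt (hecV 2) (s2 2) (by
        have := s2 0
        simpa [ec] using this))
    · -- period three
      have hu_b : R ((u ^ 1)⁻¹ * b * u ^ 1) e := by
        have h4 := hub1 _ h3
        rw [show w * (e * b) * w = (w * e * w) * (w⁻¹ * b * w) by group, hD.inv_eq hw, hwb,
          ha1] at h4
        refine hRt (V.mul_mem (hecV 1) hbV) h4 ?_
        change ec 1 * b * e ∈ W
        rw [mul_assoc, (hVc hbV heV).eq]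
        exact hab
      have hu_eb : R ((u ^ 1)⁻¹ * (e * b) * u ^ 1) b := by
        have h4 : R ((u ^ 1)⁻¹ * e * u ^ 1 * ((u ^ 1)⁻¹ * b * u ^ 1)) (e * b * e) := by
          change _ * _ ∈ W
          have m1 := hVu e heV 1
          have m2 := hVu b hbV 1
          generalize (u ^ 1)⁻¹ * e * u ^ 1 = x at hu_e m1
          generalize (u ^ 1)⁻¹ * b * u ^ 1 = y at hu_b m2
          rw [show x * y * (e * b * e) = x * (y * (e * b)) * e by group, (hVc m2 hebV).eq,
            show x * (e * b * y) * e = (x * (e * b)) * (y * e) by group]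
          exact W.mul_mem hu_e hu_b
        rw [(hVc heV hbV).eq, mul_assoc b e e, he2, mul_one] at h4
        rwa [show (u ^ 1)⁻¹ * e * u ^ 1 * ((u ^ 1)⁻¹ * b * u ^ 1) = (u ^ 1)⁻¹ * (e * b) * u ^ 1 by
          group] at h4
      have s3 : ∀ n, R (ec (n + 3)) (ec n) := by
        intro n
        exact hRt (hVu _ hebV (n + 2)) (step e _ hu_e (n + 2))
          (hRt (hVu _ hbV (n + 1)) (step _ _ hu_eb (n + 1)) (step b e hu_b n))
      exact hRt (hecV 3) (s3 3) (by
        have := s3 0
        simpa [ec] using this)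
  have hk6 : ∀ k, R (ec (6 * k)) e := by
    intro k
    induction k with
    | zero => change R ((u ^ 0)⁻¹ * e * u ^ 0) e; simpa using hRrefl heV
    | succ k ih =>
      have := hRu 6 ih
      have e1 : (u ^ 6)⁻¹ * ec (6 * k) * u ^ 6 = ec (6 * (k + 1)) := by
        simp only [ec, Nat.mul_succ, pow_add, mul_inv_rev]; group
      rw [e1] at this
      exact hRt (hecV 6) this h6
  obtain ⟨k, hk⟩ : ∃ k, 6 * k % p = 1 := by
    have hco : Nat.Coprime 6 p := by
      rw [Nat.coprime_comm, hp.coprime_iff_not_dvd]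
      intro hdv
      have := Nat.le_of_dvd (by norm_num) hdv
      interval_cases p
      · norm_num at hdv
      · norm_num at hp
    obtain ⟨k, -, hk⟩ := Nat.exists_mul_mod_eq_one_of_coprime hco hp.one_lt
    exact ⟨k, hk⟩
  have := hk6 k
  rw [← hec_mod (6 * k), hk] at this
  exact h1 this

end IsPSet

end Cfsg.Agent.PTransp70
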