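import Cfsg.Agent.Lib.PTranspPath70
import Cfsg.Agent.Lib.HallCore

/-!
No class of involutions generating a group with trivial solvable radical has all noncommuting
products of order `p ≥ 5` and the same number of common commuting members for all noncommuting
pairs.
-/

set_option autoImplicit false
set_option linter.unusedSectionVars false

universe u

namespace Cfsg.Agent.PTransp70

variable {G : Type u} [Group G] [Finite G]

namespace IsPSet

variable {p : ℕ} {D : Set G} (hD : IsPSet p D) (hp : p.Prime) (hp5 : 5 ≤ p)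
include hD hp hp5

/-- Commuting is not transitive on a class generating a group with trivial solvable radical. -/
theorem exists_path (hsol : ∀ N : Subgroup G, N.Normal → Group.IsSolvable ↥N → N = ⊥)
    {x d : G} (hx : x ∈ D) (hd : d ∈ D) (hxd : Commute x d) (hne : x ≠ d) :
    ∃ a ∈ D, ∃ s ∈ D, ∃ b ∈ D, Commute a s ∧ Commute s b ∧ ¬ Commute a b := by
  by_contra hno
  push Not at hno
  have hp3 : 3 ≤ p := le_trans (by norm_num) hp5
  have htr : ∀ {a s b : G}, a ∈ D → s ∈ D → b ∈ D → Commute a s → Commute s b → Commute a b :=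
    fun ha hs hb h h' => hno _ ha _ hs _ hb h h'
  let N : Subgroup G :=
    { carrier := {g | ∀ z ∈ D, Commute (g * z * g⁻¹) z}
      one_mem' := fun z _ => by simp
      mul_mem' := fun {g h} hg hh z hz => by
        have h1 := hg (h * z * h⁻¹) (hD.conj z hz h)
        have h2 := htr (hD.conj _ (hD.conj z hz h) g) (hD.conj z hz h) hz h1 (hh z hz)
        simpa [mul_assoc] using h2
      inv_mem' := fun {g} hg z hz => by
        have h1 := hg (g⁻¹ * z * g⁻¹⁻¹) (hD.conj z hz g⁻¹)
        simpa [mul_assoc] using h1.symm }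
  have hN : N.Normal := ⟨fun g hg k z hz => by
    have h1 := (hg (k⁻¹ * z * k⁻¹⁻¹) (hD.conj z hz k⁻¹)).map (MulAut.conj k).toMonoidHom
    simpa [mul_assoc] using h1⟩
  set e := x * d with he
  have hinv : e⁻¹ = e := by
    rw [he, mul_inv_rev, hD.inv_eq hx, hD.inv_eq hd, hxd.eq]
  have he2 : e * e = 1 := by
    nth_rw 1 [← hinv]
    exact inv_mul_cancel e
  have heN : e ∈ N := fun z hz => by
    rw [hinv]
    by_cases h : Commute x z
    · have hdz := htr hd hx hz hxd.symm h
      have hez : Commute e z := h.mul_left hdz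
      rw [hez.eq, mul_assoc, he2, mul_one]
    · exact hD.commute_prod_conj hp hp5 hx hd hz hxd hne h
        fun hdz => h (htr hx hd hz hxd hdz)
  set K : Set G := {z | z ∈ D ∧ Commute z x}
  set W := Subgroup.closure K with hW
  have hKc : ∀ {a b : G}, a ∈ K → b ∈ K → Commute a b := fun ha hb =>
    htr ha.1 hx hb.1 ha.2 hb.2.symm
  have hWc : ∀ {v v' : G}, v ∈ W → v' ∈ W → Commute v v' := by
    intro v v' hv hv'
    have h1 : W ≤ Subgroup.centralizer K := (Subgroup.closure_le _).2
      fun a ha b hb => (hKc hb ha).eq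
    have h2 : W ≤ Subgroup.centralizer (W : Set G) := by
      rw [hW, Subgroup.centralizer_closure]
      exact h1
    exact h2 hv' v hv
  have hW2 : ∀ {v : G}, v ∈ W → v * v = 1 := by
    intro v hv
    induction hv using Subgroup.closure_induction with
    | mem z hz => exact hD.mul_self hz.1
    | one => simp
    | mul a b ha hb iha ihb =>
      rw [← pow_two, (hWc ha hb).mul_pow, pow_two, pow_two, iha, ihb, one_mul]
    | inv a _ iha => rw [← mul_inv_rev, iha, inv_one]
  have hWN : ∀ n ∈ N, ∀ v ∈ W, n * v * n⁻¹ ∈ W := by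
    intro n hn v hv
    induction hv using Subgroup.closure_induction with
    | mem z hz =>
      exact Subgroup.subset_closure ⟨hD.conj z hz.1 n,
        htr (hD.conj z hz.1 n) hz.1 hx (hn z hz.1) hz.2⟩
    | one => simp
    | mul a b _ _ iha ihb =>
      rw [show n * (a * b) * n⁻¹ = (n * a * n⁻¹) * (n * b * n⁻¹) by group]
      exact W.mul_mem iha ihb
    | inv a _ iha => simpa [mul_assoc] using W.inv_mem iha
  have heW : e ∈ W := W.mul_mem (Subgroup.subset_closure ⟨hx, Commute.refl x⟩)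
    (Subgroup.subset_closure ⟨hd, hxd.symm⟩)
  set A : Subgroup N := W.subgroupOf N with hA
  have hAn : A.Normal := ⟨fun a ha n => by
    rw [hA, Subgroup.mem_subgroupOf] at ha ⊢
    exact hWN n n.2 a ha⟩
  have hAp : IsPGroup 2 A := fun a => ⟨1, Subtype.ext (Subtype.ext (by
    rw [pow_one, pow_two]
    exact hW2 a.2))⟩
  have hle : A ≤ Cfsg.pCore 2 N := le_sSup ⟨hAn, hAp⟩
  have : (Cfsg.pCore 2 N).Characteristic := Cfsg.Agent.HallCore.pCore_characteristic 2 N
  have hPn : ((Cfsg.pCore 2 N).map N.subtype).Normal := inferInstance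
  have : Fact (Nat.Prime 2) := ⟨Nat.prime_two⟩
  have hPs : Group.IsSolvable ↥((Cfsg.pCore 2 N).map N.subtype) := by
    have := ((Cfsg.Agent.HallCore.isPGroup_pCore 2 N).map N.subtype).isNilpotent
    infer_instance
  have hmem : e ∈ (Cfsg.pCore 2 N).map N.subtype :=
    ⟨⟨e, heN⟩, hle (Subgroup.mem_subgroupOf.2 heW), rfl⟩
  rw [hsol _ hPn hPs, Subgroup.mem_bot, he] at hmem
  exact hne ((hD.inv_eq hx).symm.trans (inv_eq_of_mul_eq_one_right hmem))

/-- The contradiction for `p ≥ 5`. -/
theorem false_of_const (hsol : ∀ N : Subgroup G, N.Normal → Group.IsSolvable ↥N → N = ⊥)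
    (hgen : Subgroup.closure D = ⊤) (hcls : ∀ a ∈ D, ∀ b ∈ D, ∃ g : G, g * a * g⁻¹ = b)
    {x d : G} (hx : x ∈ D) (hd : d ∈ D) (hxd : Commute x d) (hne : x ≠ d) (m : ℕ)
    (hm : ∀ a ∈ D, ∀ b ∈ D, ¬ Commute a b →
      Nat.card {z : G // z ∈ D ∧ Commute z a ∧ Commute z b} = m) : False := by
  obtain ⟨a, ha, s, hs, b, hb, has, hsb, hab⟩ := hD.exists_path hp hp5 hsol hx hd hxd hne
  set B : Set G := {z | z ∈ D ∧ Commute z a ∧ Commute z b} with hB
  have hP4 : ∀ {t d' s' w : G}, t ∈ D → d' ∈ D → s' ∈ D → w ∈ D → Commute t d' → Commute d' s' →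
      Commute s' w → ¬ Commute t s' → ¬ Commute t w → ¬ Commute d' w → False :=
    fun h1 h2 h3 h4 h5 h6 h7 h8 h9 h10 => hD.no_path hp hp5 h1 h2 h3 h4 h5 h6 h7 h8 h9 h10
  have hclosed : ∀ q ∈ B, ∀ z ∈ D, ¬ Commute z q → z ∈ B := by
    rintro q ⟨hq, hqa, hqb⟩ z hz hzq
    by_contra hzB
    have hza : ¬ Commute z a := by
      intro h
      have hzb : ¬ Commute z b := fun h' => hzB ⟨hz, h, h'⟩
      exact hP4 hz ha hq hb h hqa.symm hqb hzq hzb hab
    have hzb : ¬ Commute z b := by
      intro h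
      exact hP4 hz hb hq ha h hqb.symm hqa hzq hza fun h' => hab h'.symm
    have hsub : {c | c ∈ D ∧ Commute c z ∧ Commute c a} ⊆ B := by
      rintro c ⟨hc, hcz, hca⟩
      by_contra hcB
      have hcb : ¬ Commute c b := fun h => hcB ⟨hc, hca, h⟩
      by_cases hcq : Commute c q
      · exact hP4 hz hc hq hb hcz.symm hcq hqb hzq hzb hcb
      · exact hP4 hc ha hq hb hca hqa.symm hqb hcq hcb hab
    have heq : {c | c ∈ D ∧ Commute c z ∧ Commute c a} = B := by
      refine Set.eq_of_subset_of_ncard_le hsub ?_ (Set.toFinite _)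
      rw [← Nat.card_coe_set_eq, ← Nat.card_coe_set_eq]
      exact le_of_eq ((hm a ha b hb hab).trans (hm z hz a ha hza).symm)
    have hq' : q ∈ {c | c ∈ D ∧ Commute c z ∧ Commute c a} := heq ▸ ⟨hq, hqa, hqb⟩
    exact hzq hq'.2.1.symm
  have hstab : ∀ k ∈ D, ∀ z ∈ B, k * z * k ∈ B := by
    intro k hk z hz
    by_cases h : Commute k z
    · rw [h.eq, mul_assoc, hD.mul_self hk, mul_one]; exact hz
    · refine hclosed z hz _ (hD.conj' hz.1 (hD.mul_self hk)) fun h' => h ?_
      exact hD.commute_of_conj_commute hp hp5 hk hz.1 h'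
  let S : Subgroup G :=
    { carrier := {g | ∀ z, z ∈ B ↔ g * z * g⁻¹ ∈ B}
      one_mem' := fun z => by simp
      mul_mem' := fun {g h} hg hh z => by
        rw [hh z, hg (h * z * h⁻¹)]; simp [mul_assoc]
      inv_mem' := fun {g} hg z => by
        rw [hg (g⁻¹ * z * g⁻¹⁻¹)]; simp [mul_assoc] }
  have hS : Subgroup.closure D ≤ S := (Subgroup.closure_le _).2 fun k hk z => by
    rw [hD.inv_eq hk]
    refine ⟨hstab k hk z, fun h => ?_⟩
    have := hstab k hk _ h
    rwa [show k * (k * z * k) * k = (k * k) * z * (k * k) by group, hD.mul_self hk, one_mul,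
      mul_one] at this
  obtain ⟨g, hg⟩ := hcls s hs a ha
  have haB : a ∈ B := hg ▸ ((hS (hgen ▸ Subgroup.mem_top g : g ∈ Subgroup.closure D)) s).1
    ⟨hs, has.symm, hsb⟩
  exact hab haB.2.2

end IsPSet

end Cfsg.Agent.PTransp70
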