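import Cfsg.Agent.Lib.ChevalleyCore
import Cfsg.Agent.Lib.ChevE6Fold77
import Cfsg.Agent.Lib.CosetCertCore

/-!
Matrices over a field with four elements, stored column by column as pairs of bit masks, and the root elements of
type E6 in this form.
-/

set_option autoImplicit false
set_option linter.unusedSimpArgs false

namespace Cfsg.Agent.PackedF4Mat15

open Cfsg.Agent.CosetCertCore (force force_eq)
open Cfsg.Lie Cfsg.Agent.ChevalleyCert Cfsg.Agent.ChevalleyCore Cfsg.Agent.ChevalleyEngine

/-- a packed vector: the two bit planes -/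
abbrev V : Type := ℕ × ℕ

/-- a scalar as a pair of bits -/
abbrev S : Type := Bool × Bool

/-- scalar multiplication -/
def smulV : S → V → V
  | (false, false), _ => (0, 0)
  | (true, false), v => v
  | (false, true), v => (v.2, v.1 ^^^ v.2)
  | (true, true), v => (v.1 ^^^ v.2, v.1)

/-- addition -/
def vxor (u v : V) : V := (u.1 ^^^ v.1, u.2 ^^^ v.2)

/-- matrix times vector with an accumulator (evaluated by the kernel) -/
noncomputable def applyAcc (M : List V) : Nat → Nat → Nat → Nat → V :=
  List.rec (motive := fun _ => Nat → Nat → Nat → Nat → V) (fun _ _ x y => (x, y))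
    (fun c _ ih a b x y =>
      force (Nat.shiftRight a 1) fun a' => force (Nat.shiftRight b 1) fun b' =>
      Bool.rec
        (Bool.rec (ih a' b' x y)
          (force (Nat.xor x c.2) fun x' => force (Nat.xor y (Nat.xor c.1 c.2)) fun y' => ih a' b' x' y')
          (Nat.beq (Nat.land b 1) 1))
        (Bool.rec (force (Nat.xor x c.1) fun x' => force (Nat.xor y c.2) fun y' => ih a' b' x' y')
          (force (Nat.xor x (Nat.xor c.1 c.2)) fun x' => force (Nat.xor y c.1) fun y' => ih a' b' x' y')
          (Nat.beq (Nat.land b 1) 1))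
        (Nat.beq (Nat.land a 1) 1)) M

/-- matrix times vector -/
noncomputable def applyM (M : List V) (v : V) : V := applyAcc M v.1 v.2 0 0

theorem testBit_zero_beq (a : ℕ) : Nat.beq (Nat.land a 1) 1 = a.testBit 0 := by
  show Nat.beq (a &&& 1) 1 = _
  rw [Nat.and_one_is_mod, Nat.testBit_zero]
  rcases Nat.mod_two_eq_zero_or_one a with h | h <;> rw [h] <;> rfl

theorem applyAcc_cons (c : V) (cs : List V) (a b x y : ℕ) : applyAcc (c :: cs) a b x y =
    applyAcc cs (a / 2) (b / 2) (x ^^^ (smulV (a.testBit 0, b.testBit 0) c).1)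
      (y ^^^ (smulV (a.testBit 0, b.testBit 0) c).2) := by
  rw [← testBit_zero_beq a, ← testBit_zero_beq b]
  simp only [applyAcc, force_eq]
  cases Nat.beq (Nat.land a 1) 1 <;> cases Nat.beq (Nat.land b 1) 1 <;>
    simp [smulV, Nat.shiftRight_succ]

/-- product of matrices -/
noncomputable def mulM (A B : List V) : List V := B.map (applyM A)

/-- sum of matrices -/
def addM (A B : List V) : List V := List.zipWith vxor A B

/-- the identity -/
def idM : List V := (List.range 78).map fun p => (2 ^ p, 0)

/-- equality check of packed matrices -/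
noncomputable def eqM (A B : List V) : Bool :=
  List.rec (motive := fun _ => List V → Bool) (fun B => B.isEmpty)
    (fun a _ ih B =>
      List.rec (motive := fun _ => Bool) false (fun b B' _ => Nat.beq a.1 b.1 && Nat.beq a.2 b.2 && ih B') B) A B

theorem eq_of_eqM : ∀ {A B : List V}, eqM A B = true → A = B := by
  intro A
  induction A with
  | nil =>
    intro B h
    cases B with
    | nil => rfl
    | cons b B => simp [eqM] at h
  | cons a A ih =>
    intro B h
    cases B with
    | nil => simp [eqM] at h
    | cons b B =>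
      have h' : (Nat.beq a.1 b.1 && Nat.beq a.2 b.2 && eqM A B) = true := h
      simp only [Bool.and_eq_true] at h'
      rw [ih h'.2, Prod.ext (Nat.eq_of_beq_eq_true h'.1.1) (Nat.eq_of_beq_eq_true h'.1.2)]

/-- the part of a column given by a list of integer entries -/
def addPairs (s : S) (l : List (ℕ × ℤ)) : V :=
  l.foldr (fun e acc => if e.2 % 2 = 0 then acc else vxor (smulV s (2 ^ e.1, 0)) acc) (0, 0)

/-- a column of a root element, from the scalars `t`, `t²`, `t³` -/
def colX (r : ℕ) (s1 s2 s3 : S) (p : ℕ) : V :=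
  vxor (2 ^ p, 0) (vxor (addPairs s1 (colOp chevE6 (ChevE6Fold77.accD chevE6) (.X 1 r) p))
    (vxor (addPairs s2 (colOp chevE6 (ChevE6Fold77.accD chevE6) (.X 2 r) p))
      (addPairs s3 (colOp chevE6 (ChevE6Fold77.accD chevE6) (.X 3 r) p))))

/-- a root element -/
def matX (r : ℕ) (s1 s2 s3 : S) : List V := (List.range 78).map (colX r s1 s2 s3)

variable {K : Type*} [Field K] [CharP K 2]

/-- the value of a scalar, for a chosen element `ω` -/
def phi (ω : K) (s : S) : K := (if s.1 then 1 else 0) + (if s.2 then ω else 0)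

/-- an entry of a vector -/
def val (ω : K) (v : V) (i : ℕ) : K := phi ω (v.1.testBit i, v.2.testBit i)

/-- a packed vector as a vector -/
def toV (ω : K) (v : V) : chevE6.Idx → K := fun q => val ω v (enc chevE6 q)

/-- a packed matrix as a matrix -/
def toM (ω : K) (M : List V) : Matrix chevE6.Idx chevE6.Idx K :=
  Matrix.of fun q p => val ω (M.getD (enc chevE6 p) (0, 0)) (enc chevE6 q)

variable {ω : K} (hω : ω * ω = ω + 1)

include hω in
theorem phi_vals : ∀ s t : S, phi ω ((s.1 ^^ t.1), (s.2 ^^ t.2)) = phi ω s + phi ω t := by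
  rintro ⟨a, b⟩ ⟨c, d⟩
  cases a <;> cases b <;> cases c <;> cases d <;>
    simp [phi, CharTwo.add_self_eq_zero, add_comm, add_left_comm, add_assoc, CharTwo.add_cancel_left]

include hω in
theorem val_vxor (u v : V) (i : ℕ) : val ω (vxor u v) i = val ω u i + val ω v i := by
  simp only [val, vxor, Nat.testBit_xor]
  exact phi_vals hω (_, _) (_, _)

theorem val_zero (i : ℕ) : val ω ((0, 0) : V) i = 0 := by simp [val, phi]

include hω in
theorem val_smulV (s : S) (v : V) (i : ℕ) : val ω (smulV s v) i = phi ω s * val ω v i := by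
  obtain ⟨a, b⟩ := s
  cases a <;> cases b <;> simp only [val, smulV, Nat.testBit_xor, Nat.zero_testBit] <;>
    rcases v.1.testBit i <;> rcases v.2.testBit i <;>
    simp [phi, hω, mul_add, add_mul, CharTwo.add_self_eq_zero, add_comm, add_left_comm, add_assoc,
      CharTwo.add_cancel_left]

theorem val_two_pow (p i : ℕ) : val ω ((2 ^ p, 0) : V) i = if i = p then 1 else 0 := by
  by_cases h : i = p
  · subst h; simp [val, phi]
  · simp [val, phi, Nat.testBit_two_pow, Ne.symm h, h]

include hω in
theorem val_applyAcc (cs : List V) : ∀ (a b x y i : ℕ),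
    val ω (applyAcc cs a b x y) i = val ω (x, y) i +
      ∑ j ∈ Finset.range cs.length, val ω (cs.getD j (0, 0)) i * val ω (a, b) j := by
  induction cs with
  | nil => intro a b x y i; simp [applyAcc]
  | cons c cs ih =>
    intro a b x y i
    rw [applyAcc_cons, ih, List.length_cons, Finset.sum_range_succ', ← add_assoc]
    have e1 : val ω ((x ^^^ (smulV (a.testBit 0, b.testBit 0) c).1,
        y ^^^ (smulV (a.testBit 0, b.testBit 0) c).2) : V) i =
        val ω (x, y) i + phi ω (a.testBit 0, b.testBit 0) * val ω c i := by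
      rw [← val_smulV hω, ← val_vxor hω]; rfl
    rw [e1]
    have e2 : ∑ k ∈ Finset.range cs.length, val ω ((c :: cs).getD (k + 1) (0, 0)) i * val ω (a, b) (k + 1) =
        ∑ k ∈ Finset.range cs.length, val ω (cs.getD k (0, 0)) i * val ω (a / 2, b / 2) k :=
      Finset.sum_congr rfl fun j _ => by simp [val, Nat.testBit_add_one]
    rw [e2, List.getD_cons_zero, show phi ω (a.testBit 0, b.testBit 0) = val ω (a, b) 0 from rfl]
    ring

include hω in
theorem val_applyM (cs : List V) (v : V) (i : ℕ) :
    val ω (applyM cs v) i = ∑ j ∈ Finset.range cs.length, val ω (cs.getD j (0, 0)) i * val ω v j := by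
  rw [applyM, val_applyAcc hω]
  simp [val, phi]

theorem sum_idx {M : Type*} [AddCommMonoid M] (F : ℕ → M) :
    ∑ q : chevE6.Idx, F (enc chevE6 q) = ∑ j ∈ Finset.range 78, F j := by
  refine Finset.sum_bij (fun q _ => enc chevE6 q) (fun q _ => Finset.mem_range.2 (enc_lt chevE6 q))
    (fun _ _ _ _ h => enc_injective chevE6 h) (fun j hj => ?_) (fun _ _ => rfl)
  obtain ⟨q, rfl⟩ := exists_enc chevE6 (show j < chevE6.rank + chevE6.nroots from Finset.mem_range.1 hj)
  exact ⟨q, Finset.mem_univ _, rfl⟩

include hω in
theorem mulVec_toV {A : List V} (hA : A.length = 78) (v : V) : Matrix.mulVec (toM ω A) (toV ω v) = toV ω (applyM A v) := by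
  funext q
  rw [toV, val_applyM hω, hA, ← sum_idx]
  rfl

theorem toM_col (M : List V) (p : chevE6.Idx) :
    (fun q => toM ω M q p) = toV ω (M.getD (enc chevE6 p) (0, 0)) := rfl

include hω in
theorem toM_mul {A B : List V} (hA : A.length = 78) (hB : B.length = 78) :
    toM ω (mulM A B) = toM ω A * toM ω B := by
  ext q p
  have hp : enc chevE6 p < B.length := by rw [hB]; exact enc_lt chevE6 p
  show val ω ((mulM A B).getD (enc chevE6 p) (0, 0)) (enc chevE6 q) = _
  rw [mulM, List.getD_eq_getElem _ _ (by simpa using hp), List.getElem_map, ← List.getD_eq_getElem _ (0, 0) hp,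
    val_applyM hω, hA, Matrix.mul_apply, ← sum_idx]
  rfl

theorem length_mulM (A B : List V) : (mulM A B).length = B.length := List.length_map ..

theorem toM_id : toM ω idM = 1 := by
  ext q p
  show val ω (idM.getD (enc chevE6 p) (0, 0)) (enc chevE6 q) = _
  have hp : enc chevE6 p < 78 := enc_lt chevE6 p
  rw [idM, List.getD_eq_getElem _ _ (by simpa using hp), List.getElem_map, List.getElem_range, val_two_pow,
    Matrix.one_apply]
  by_cases h : q = p
  · simp [h]
  · rw [if_neg fun e => h (enc_injective chevE6 e), if_neg h]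

include hω in
theorem toM_add {A B : List V} (hA : A.length = 78) (hB : B.length = 78) :
    toM ω (addM A B) = toM ω A + toM ω B := by
  ext q p
  have hp : enc chevE6 p < 78 := enc_lt chevE6 p
  show val ω ((addM A B).getD (enc chevE6 p) (0, 0)) (enc chevE6 q) = _
  rw [addM, List.getD_eq_getElem _ _ (by simp [hA, hB]; exact hp), List.getElem_zipWith, val_vxor hω,
    ← List.getD_eq_getElem _ (0, 0) (hA.symm ▸ hp), ← List.getD_eq_getElem _ (0, 0) (hB.symm ▸ hp)]
  rfl

theorem int_cast_parity (z : ℤ) : (z : K) = if z % 2 = 0 then 0 else 1 := by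
  rcases Int.emod_two_eq_zero_or_one z with h | h
  · rw [if_pos h]; exact (CharP.intCast_eq_zero_iff K 2 z).2 (Int.dvd_of_emod_eq_zero h)
  · rw [if_neg (by omega)]
    have : ((z - 1 : ℤ) : K) = 0 := (CharP.intCast_eq_zero_iff K 2 (z - 1)).2 (by omega)
    push_cast at this
    exact sub_eq_zero.1 this

include hω in
theorem val_addPairs (s : S) (l : List (ℕ × ℤ)) (q : chevE6.Idx) :
    val ω (addPairs s l) (enc chevE6 q) = phi ω s * ((evalPairs chevE6 l q : ℤ) : K) := by
  induction l with
  | nil => simp [addPairs, evalPairs, val_zero]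
  | cons e l ih =>
    rw [addPairs, List.foldr_cons, ← addPairs]
    simp only [evalPairs, List.map_cons, List.sum_cons, Int.cast_add, mul_add]
    rw [← evalPairs, ← ih]
    by_cases he : e.2 % 2 = 0
    · rw [if_pos he]
      have : ((if e.1 = enc chevE6 q then e.2 else 0 : ℤ) : K) = 0 := by
        split <;> simp [int_cast_parity e.2, he]
      rw [this, mul_zero, zero_add]
    · rw [if_neg he, val_vxor hω, val_smulV hω, val_two_pow]
      congr 2
      by_cases h : e.1 = enc chevE6 q
      · simp [h, int_cast_parity e.2, he]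
      · simp [h, Ne.symm h]

include hω in
/-- the packed root element is the root element -/
theorem toM_matX (C : Cert chevE6) {r : ℕ} (hr : r < chevE6.nroots) {s1 s2 s3 : S}
    (h2 : phi ω s2 = phi ω s1 ^ 2) (h3 : phi ω s3 = phi ω s1 ^ 3) :
    toM ω (matX r s1 s2 s3) = ((xg C r (phi ω s1) : GL chevE6.Idx K) : Matrix chevE6.Idx chevE6.Idx K) := by
  rw [coe_xg, x_eq_xR C hr]
  ext q p
  have hp : enc chevE6 p < 78 := enc_lt chevE6 p
  have hA := ChevE6Fold77.accD_ok chevE6
  have key : ∀ k, ((evalPairs chevE6 (colOp chevE6 (ChevE6Fold77.accD chevE6) (.X k r) (enc chevE6 p)) q : ℤ) : K) =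
      (xm chevE6 k r q p : K) := fun k => by
    rw [evalPairs_colOp chevE6 hA (o := .X k r) hr q p]; rfl
  show val ω ((matX r s1 s2 s3).getD (enc chevE6 p) (0, 0)) (enc chevE6 q) = _
  rw [matX, List.getD_eq_getElem _ _ (by simpa using hp), List.getElem_map, List.getElem_range, colX,
    val_vxor hω, val_vxor hω, val_vxor hω, val_addPairs hω, val_addPairs hω, val_addPairs hω, key, key, key, h2, h3,
    val_two_pow, ChevalleyExp.xR]
  simp only [Matrix.add_apply, Matrix.smul_apply, ChevalleyExp.castM, Matrix.map_apply, smul_eq_mul, Matrix.one_apply]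
  have e : (if enc chevE6 q = enc chevE6 p then (1 : K) else 0) = if q = p then 1 else 0 := by
    by_cases h : q = p
    · simp [h]
    · rw [if_neg fun e => h (enc_injective chevE6 e), if_neg h]
  rw [e]
  ring

end Cfsg.Agent.PackedF4Mat15
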