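import Mathlib

/-!
A checker for products of sparse matrices over `ZMod 13` of size 78: a matrix is stored as a list of rows,
each row packed into one natural number with 40-bit digits.
-/

set_option autoImplicit false

namespace Cfsg.Agent.PackedMatFi22Core40

abbrev Bd : ℕ := 2 ^ 40

/-- the `j`-th digit -/
def digit (x j : ℕ) : ℕ := x / 2 ^ (40 * j) % Bd

def rep (c : ℕ) : ℕ → ℕ
  | 0 => 0
  | k + 1 => c + Bd * rep c k

def H8 : ℕ := rep (2 ^ 40 - 2 ^ 8) 78
def M16 : ℕ := rep (2 ^ 16 - 1) 78
def H16 : ℕ := rep (2 ^ 40 - 2 ^ 16) 78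

def force {α : Type} (n : ℕ) (f : ℕ → α) : α :=
  match n with
  | 0 => f 0
  | k + 1 => f (k + 1)

theorem force_eq {α : Type} (n : ℕ) (f : ℕ → α) : force n f = f n := by
  cases n <;> rfl

/-- digitwise reduction, guarded -/
def red (n : ℕ) : Option ℕ :=
  force (((n * 1290556) >>> 24) &&& M16) fun q =>
    force (n - 13 * q) fun r =>
      if (r &&& H8 == 0) && (q &&& H16 == 0) && (r + 13 * q == n) then some r else none

abbrev SRow := List (ℕ × ℕ)
abbrev SMat := List SRow

/-- a binary tree of numbers, for fast lookup by the kernel -/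
inductive Tree where
  | leaf : ℕ → Tree
  | node : Tree → Tree → Tree

/-- lookup; `k` is half the number of leaves -/
noncomputable def Tree.get (t : Tree) : ℕ → ℕ → ℕ :=
  Tree.rec (fun v _ _ => v)
    (fun _ _ gl gr k c => Bool.rec (gr (k / 2) (c - k)) (gl (k / 2) c) (Nat.blt c k)) t

/-- tree of the first `2 ^ k` entries, and the rest -/
def takeTree : ℕ → List ℕ → Tree × List ℕ
  | 0, [] => (.leaf 0, [])
  | 0, x :: l => (.leaf x, l)
  | k + 1, l => match takeTree k l with
    | (a, l1) => match takeTree k l1 with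
      | (b, l2) => (.node a b, l2)

noncomputable def rowAcc (r : SRow) (t : Tree) : ℕ → ℕ :=
  List.rec (fun a => a) (fun e _ k a => force (a + e.2 * t.get 64 e.1) k) r

def mapRows (f : SRow → Option ℕ) : SMat → Option (List ℕ)
  | [] => some []
  | r :: rs =>
    match f r with
    | none => none
    | some v => match mapRows f rs with
      | none => none
      | some l => some (v :: l)

def withTree (p : Tree × List ℕ) (f : Tree → Option (List ℕ)) : Option (List ℕ) :=
  match p with
  | (t, _) => f t

theorem withTree_eq (p : Tree × List ℕ) (f : Tree → Option (List ℕ)) : withTree p f = f p.1 := by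
  cases p; rfl

noncomputable def step (G : SMat) (X : List ℕ) : Option (List ℕ) :=
  withTree (takeTree 7 X) fun t => mapRows (fun r => red (rowAcc r t 0)) G

def idAux : ℕ → ℕ → List ℕ
  | _, 0 => []
  | s, k + 1 => force (2 ^ (40 * s)) fun v => v :: idAux (s + 1) k

def idP : List ℕ := idAux 0 78

noncomputable def evalWord (gens : List SMat) : List ℕ → Option (List ℕ)
  | [] => some idP
  | g :: gs => match evalWord gens gs with
    | none => none
    | some X => step (gens.getD g []) X

noncomputable def wordIsOne (gens : List SMat) (w : List ℕ) : Bool :=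
  match evalWord gens w with
  | none => false
  | some X => X == idP

def rowsOk (G : SMat) : Bool :=
  (G.length == 78) && G.all (fun r => r.all (fun e => decide (e.1 < 78)) && decide ((r.map (·.2)).sum < 2 ^ 30))

/-! ### soundness -/

theorem digit_zero (x : ℕ) : digit x 0 = x % Bd := by simp [digit]

theorem digit_succ (x j : ℕ) : digit x (j + 1) = digit (x / Bd) j := by
  unfold digit
  rw [Nat.div_div_eq_div_mul, ← pow_add, show 40 * (j + 1) = 40 + 40 * j by ring]

theorem digit_add : ∀ (j : ℕ) (x y : ℕ), (∀ i ≤ j, digit x i + digit y i < Bd) →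
    digit (x + y) j = digit x j + digit y j := by
  intro j
  induction j with
  | zero =>
    intro x y h
    have h0 := h 0 le_rfl
    simp only [digit_zero] at h0 ⊢
    rw [Nat.add_mod, Nat.mod_eq_of_lt h0]
  | succ j ih =>
    intro x y h
    have h0 := h 0 (Nat.zero_le _)
    simp only [digit_zero] at h0
    have hd : (x + y) / Bd = x / Bd + y / Bd := by
      have e := Nat.div_add_mod x Bd
      have e' := Nat.div_add_mod y Bd
      simp only [Bd] at *
      omega
    rw [digit_succ, hd, ih, ← digit_succ, ← digit_succ]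
    intro i hi
    have := h (i + 1) (by omega)
    rwa [digit_succ, digit_succ] at this

theorem digit_mul : ∀ (j : ℕ) (a x : ℕ), (∀ i ≤ j, a * digit x i < Bd) →
    digit (a * x) j = a * digit x j := by
  intro j
  induction j with
  | zero =>
    intro a x h
    have h0 := h 0 le_rfl
    simp only [digit_zero] at h0 ⊢
    rw [Nat.mul_mod, Nat.mod_eq_of_lt (lt_of_le_of_lt (Nat.mul_le_mul_right _ (Nat.mod_le _ _)) h0)]
    rcases lt_or_ge a Bd with ha | ha
    · rw [Nat.mod_eq_of_lt ha]
    · have : x % Bd = 0 := by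
        by_contra hne
        have : Bd * 1 ≤ a * (x % Bd) := Nat.mul_le_mul ha (by omega)
        omega
      simp [this]
  | succ j ih =>
    intro a x h
    have h0 := h 0 (Nat.zero_le _)
    simp only [digit_zero] at h0
    have hd : a * x / Bd = a * (x / Bd) := by
      conv_lhs => rw [← Nat.div_add_mod x Bd, mul_add, mul_left_comm]
      rw [Nat.mul_add_div (by norm_num [Bd]), Nat.div_eq_of_lt h0, add_zero]
    rw [digit_succ, hd, ih, ← digit_succ]
    intro i hi
    have := h (i + 1) (by omega)
    rwa [digit_succ] at this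

theorem digit_and (x y j : ℕ) : digit (x &&& y) j = digit x j &&& digit y j := by
  unfold digit Bd
  rw [← Nat.shiftRight_eq_div_pow, ← Nat.shiftRight_eq_div_pow, ← Nat.shiftRight_eq_div_pow,
    Nat.shiftRight_and_distrib, Nat.and_mod_two_pow]

theorem small_of_and {x : ℕ} (k : ℕ) (hk : k ≤ 40) (hx : x < 2 ^ 40)
    (h : x &&& (2 ^ 40 - 2 ^ k) = 0) : x < 2 ^ k := by
  have h1 : (x >>> k) &&& ((2 ^ 40 - 2 ^ k) >>> k) = 0 := by
    rw [← Nat.shiftRight_and_distrib, h, Nat.zero_shiftRight]
  have h2 : (2 ^ 40 - 2 ^ k) >>> k = 2 ^ (40 - k) - 1 := by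
    rw [Nat.shiftRight_eq_div_pow]
    have : 2 ^ 40 - 2 ^ k = (2 ^ (40 - k) - 1) * 2 ^ k := by
      rw [Nat.sub_mul, one_mul, ← pow_add, Nat.sub_add_cancel hk]
    rw [this, Nat.mul_div_cancel _ (by positivity)]
  rw [h2, Nat.and_two_pow_sub_one_eq_mod, Nat.shiftRight_eq_div_pow, Nat.mod_eq_of_lt] at h1
  · rcases Nat.div_eq_zero_iff.mp h1 with h3 | h3
    · exact absurd h3 (by positivity)
    · exact h3
  · rw [Nat.div_lt_iff_lt_mul (by positivity), ← pow_add, Nat.sub_add_cancel hk]
    exact hx

theorem digit_rep (c : ℕ) (hc : c < Bd) : ∀ j k, j < k → digit (rep c k) j = c := by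
  intro j
  induction j with
  | zero =>
    intro k hk
    obtain ⟨k, rfl⟩ : ∃ m, k = m + 1 := ⟨k - 1, by omega⟩
    rw [digit_zero, rep, Nat.add_mul_mod_self_left, Nat.mod_eq_of_lt hc]
  | succ j ih =>
    intro k hk
    obtain ⟨k, rfl⟩ : ∃ m, k = m + 1 := ⟨k - 1, by omega⟩
    rw [digit_succ, rep, Nat.add_mul_div_left _ _ (Nat.two_pow_pos _), Nat.div_eq_of_lt hc, zero_add]
    exact ih k (by omega)

theorem masks : ∀ j < 78, digit H8 j = 2 ^ 40 - 2 ^ 8 ∧ digit H16 j = 2 ^ 40 - 2 ^ 16 := fun j hj =>
  ⟨digit_rep _ (by norm_num [Bd]) j 78 hj, digit_rep _ (by norm_num [Bd]) j 78 hj⟩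

/-- a row with small digits -/
def Small (x : ℕ) : Prop := ∀ j < 78, digit x j < 2 ^ 8

theorem digit_lt (x j : ℕ) : digit x j < Bd := Nat.mod_lt _ (by norm_num [Bd])

def val (x j : ℕ) : ZMod 13 := (digit x j : ℕ)

theorem red_sound {n r : ℕ} (h : red n = some r) :
    Small r ∧ ∀ j < 78, val r j = val n j := by
  unfold red at h
  simp only [force_eq] at h
  set q := ((n * 1290556) >>> 24) &&& M16 with hq
  clear_value q
  generalize n - 13 * q = r' at h
  split at h
  · rename_i hc
    simp only [Bool.and_eq_true, beq_iff_eq] at hc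
    obtain ⟨⟨h1, h2⟩, h3⟩ := hc
    rw [Option.some.injEq] at h
    subst h
    have hr : ∀ j < 78, digit r' j < 2 ^ 8 := fun j hj => by
      refine small_of_and 8 (by norm_num) (digit_lt _ _) ?_
      rw [← (masks j hj).1, ← digit_and, h1]; simp [digit]
    have hq' : ∀ j < 78, digit q j < 2 ^ 16 := fun j hj => by
      refine small_of_and 16 (by norm_num) (digit_lt _ _) ?_
      rw [← (masks j hj).2, ← digit_and, h2]; simp [digit]
    refine ⟨hr, fun j hj => ?_⟩
    have hm : ∀ i ≤ j, digit (13 * q) i = 13 * digit q i := fun i hi =>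
      digit_mul i 13 q fun t ht => by
        have := hq' t (by omega); simp only [Bd]; omega
    have : digit n j = digit r' j + 13 * digit q j := by
      rw [← h3, digit_add, hm j le_rfl]
      intro i hi
      rw [hm i hi]
      have := hq' i (by omega); have := hr i (by omega); simp only [Bd]; omega
    unfold val
    rw [this, Nat.cast_add, Nat.cast_mul, show ((13 : ℕ) : ZMod 13) = 0 from by decide, zero_mul, add_zero]
  · exact absurd h (by simp)

theorem get_node (a b : Tree) (k c : ℕ) :
    (Tree.node a b).get k c = if c < k then a.get (k / 2) c else b.get (k / 2) (c - k) := by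
  show (Bool.rec (motive := fun _ => ℕ) (b.get (k / 2) (c - k)) (a.get (k / 2) c) (Nat.blt c k)) = _
  cases hb : Nat.blt c k with
  | false =>
    rw [if_neg]
    intro h
    rw [Nat.blt_eq.mpr h] at hb
    exact absurd hb (by decide)
  | true => rw [if_pos (Nat.blt_eq.mp hb)]

theorem takeTree_spec : ∀ (k : ℕ) (l : List ℕ), (takeTree k l).2 = l.drop (2 ^ k) ∧
    ∀ c < 2 ^ k, (takeTree k l).1.get (2 ^ k / 2) c = l.getD c 0 := by
  intro k
  induction k with
  | zero =>
    intro l
    cases l with
    | nil => exact ⟨rfl, fun c _ => by simp [takeTree, Tree.get]⟩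
    | cons x l =>
      refine ⟨rfl, fun c hc => ?_⟩
      obtain rfl : c = 0 := by simpa using hc
      simp [takeTree, Tree.get]
  | succ k ih =>
    intro l
    obtain ⟨h1, g1⟩ := ih l
    obtain ⟨h2, g2⟩ := ih (takeTree k l).2
    have hp : 2 ^ (k + 1) = 2 ^ k + 2 ^ k := by ring
    refine ⟨?_, fun c hc => ?_⟩
    · show (takeTree k (takeTree k l).2).2 = _
      rw [h2, h1, List.drop_drop, hp]
    · show (Tree.node (takeTree k l).1 (takeTree k (takeTree k l).2).1).get (2 ^ (k + 1) / 2) c = _
      rw [get_node, show 2 ^ (k + 1) / 2 = 2 ^ k by omega]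
      split
      · exact g1 c ‹_›
      · rw [g2 _ (by omega), h1, List.getD_eq_getElem?_getD, List.getD_eq_getElem?_getD, List.getElem?_drop,
          show 2 ^ k + (c - 2 ^ k) = c by omega]

theorem rowAcc_cons (e : ℕ × ℕ) (es : SRow) (t : Tree) (acc : ℕ) :
    rowAcc (e :: es) t acc = rowAcc es t (acc + e.2 * t.get 64 e.1) := by
  simp only [rowAcc, force_eq]

theorem rowAcc_sound (t : Tree) (X : List ℕ) (ht : ∀ c < 78, t.get 64 c = X.getD c 0)
    (hX : ∀ c < 78, Small (X.getD c 0)) :
    ∀ (r : SRow) (acc A : ℕ), (∀ e ∈ r, e.1 < 78) → (r.map (·.2)).sum + A < 2 ^ 30 →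
      (∀ j < 78, digit acc j ≤ A * 255) → ∀ j < 78,
      digit (rowAcc r t acc) j = digit acc j + (r.map fun e => e.2 * digit (X.getD e.1 0) j).sum := by
  intro r
  induction r with
  | nil => intro acc A _ _ _ j _; simp [rowAcc]
  | cons e es ih =>
    intro acc A hc hs ha j hj
    simp only [List.map_cons, List.sum_cons] at hs
    have he := hX e.1 (hc e List.mem_cons_self)
    have hb : ∀ i < 78, e.2 * digit (X.getD e.1 0) i ≤ e.2 * 255 := fun i hi =>
      Nat.mul_le_mul_left _ (by have := he i hi; omega)
    have hm : ∀ i < 78, digit (e.2 * X.getD e.1 0) i = e.2 * digit (X.getD e.1 0) i := fun i hi =>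
      digit_mul i _ _ fun t ht => by
        have := hb t (by omega); simp only [Bd]; omega
    have hadd : ∀ i < 78, digit (acc + e.2 * X.getD e.1 0) i = digit acc i + e.2 * digit (X.getD e.1 0) i := by
      intro i hi
      rw [digit_add, hm i hi]
      intro t ht
      rw [hm t (by omega)]
      have := hb t (by omega); have := ha t (by omega); simp only [Bd]; omega
    rw [rowAcc_cons, ht e.1 (hc e List.mem_cons_self), ih _ (A + e.2) (fun x hx => hc x (List.mem_cons_of_mem _ hx)) (by omega)
      (fun i hi => by rw [hadd i hi]; have := hb i hi; have := ha i hi; omega) j hj, hadd j hj]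
    simp only [List.map_cons, List.sum_cons]
    ring

/-- value of a packed matrix -/
def pMat (X : List ℕ) : Matrix (Fin 78) (Fin 78) (ZMod 13) :=
  fun i j => val (X.getD i.1 0) j.1

/-- value of a sparse row -/
def rowVal (r : SRow) (k : ℕ) : ZMod 13 :=
  (r.map fun e => if e.1 = k then (e.2 : ZMod 13) else 0).sum

def sMat (G : SMat) : Matrix (Fin 78) (Fin 78) (ZMod 13) :=
  fun i k => rowVal (G.getD i.1 []) k.1

theorem mapRows_get (f : SRow → Option ℕ) : ∀ (G : SMat) (Y : List ℕ), mapRows f G = some Y →
    Y.length = G.length ∧ ∀ i < G.length, f (G.getD i []) = some (Y.getD i 0) := by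
  intro G
  induction G with
  | nil => intro Y h; simp only [mapRows, Option.some.injEq] at h; subst h; simp
  | cons r rs ih =>
    intro Y h
    simp only [mapRows] at h
    cases h1 : f r with
    | none => simp [h1] at h
    | some v =>
      cases h2 : mapRows f rs with
      | none => simp [h1, h2] at h
      | some l =>
        simp only [h1, h2, Option.some.injEq] at h
        subst h
        obtain ⟨hl, hi⟩ := ih l h2
        refine ⟨by simp [hl], fun i hi' => ?_⟩
        cases i with
        | zero => simpa using h1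
        | succ i =>
          simp only [List.getD_cons_succ]
          exact hi i (by simpa using hi')

theorem rowVal_mul (r : SRow) (X : Matrix (Fin 78) (Fin 78) (ZMod 13)) (j : Fin 78) (hc : ∀ e ∈ r, e.1 < 78) :
    ∑ k : Fin 78, rowVal r k.1 * X k j =
      (r.map fun e => if h : e.1 < 78 then (e.2 : ZMod 13) * X ⟨e.1, h⟩ j else 0).sum := by
  induction r with
  | nil => simp [rowVal]
  | cons e es ih =>
    have he := hc e List.mem_cons_self
    simp only [rowVal, List.map_cons, List.sum_cons, add_mul, Finset.sum_add_distrib]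
    rw [show ∑ k : Fin 78, (es.map fun e => if e.1 = k.1 then (e.2 : ZMod 13) else 0).sum * X k j = _ from
      ih fun x hx => hc x (List.mem_cons_of_mem _ hx)]
    refine congrArg₂ (· + ·) ?_ rfl
    rw [dif_pos he, Finset.sum_eq_single (⟨e.1, he⟩ : Fin 78)]
    · simp
    · intro k _ hk
      rw [if_neg, zero_mul]
      intro h; exact hk (Fin.ext h.symm)
    · simp

def AllSmall (X : List ℕ) : Prop := ∀ c < 78, Small (X.getD c 0)

theorem step_sound {G : SMat} {X Y : List ℕ} (hG : rowsOk G = true) (hX : AllSmall X)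
    (h : step G X = some Y) : AllSmall Y ∧ pMat Y = sMat G * pMat X := by
  simp only [rowsOk, Bool.and_eq_true, beq_iff_eq, List.all_eq_true, decide_eq_true_eq] at hG
  obtain ⟨hl, hr⟩ := hG
  rw [step, withTree_eq] at h
  obtain ⟨T, hT⟩ : ∃ T, takeTree 7 X = T := ⟨_, rfl⟩
  rw [hT] at h
  have ht : ∀ c < 78, T.1.get 64 c = X.getD c 0 := fun c hc => by
    have h7 := (takeTree_spec 7 X).2 c (lt_of_lt_of_le hc (by norm_num))
    rw [hT] at h7
    exact h7
  obtain ⟨-, hs⟩ := mapRows_get (fun r => red (rowAcc r T.1 0)) G Y h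
  refine ⟨fun c hc => (red_sound (hs c (by omega))).1, ?_⟩
  ext i j
  have hi : i.1 < G.length := by omega
  have hmem : G.getD i.1 [] ∈ G := by
    rw [List.getD_eq_getElem _ _ hi]; exact List.getElem_mem hi
  obtain ⟨hc, hsum⟩ := hr _ hmem
  rw [Matrix.mul_apply]
  show val (Y.getD i.1 0) j.1 = ∑ k, rowVal (G.getD i.1 []) k.1 * pMat X k j
  rw [(red_sound (hs i.1 hi)).2 j.1 j.2, rowVal_mul _ _ _ hc, val,
    rowAcc_sound _ X ht hX _ 0 0 hc (by omega) (fun t _ => by simp [digit]) j.1 j.2]
  rw [show digit 0 j.1 = 0 from by simp [digit], zero_add, Nat.cast_list_sum, List.map_map]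
  refine congrArg List.sum (List.map_congr_left fun e he => ?_)
  rw [dif_pos (hc e he)]
  simp [pMat, val]

theorem idP_get : (List.range 78).all (fun c => idP.getD c 0 == 2 ^ (40 * c)) = true := by
  decide +kernel

theorem digit_pow : ∀ (j c : ℕ), digit (2 ^ (40 * c)) j = if c = j then 1 else 0 := by
  intro j
  induction j with
  | zero =>
    intro c
    rw [digit_zero]
    cases c with
    | zero => rw [if_pos rfl, mul_zero, pow_zero]; exact Nat.one_mod_eq_one.mpr (by norm_num)
    | succ c =>
      rw [if_neg (by omega), show 40 * (c + 1) = 40 + 40 * c by ring, pow_add]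
      exact Nat.mul_mod_right _ _
  | succ j ih =>
    intro c
    rw [digit_succ]
    cases c with
    | zero =>
      rw [if_neg (by omega), mul_zero, pow_zero, Nat.div_eq_of_lt (Nat.one_lt_two_pow (by norm_num))]
      unfold digit
      rw [Nat.zero_div, Nat.zero_mod]
    | succ c =>
      rw [show 40 * (c + 1) = 40 + 40 * c by ring, pow_add, Nat.mul_div_cancel_left _ (Nat.two_pow_pos _), ih]
      simp only [Nat.add_right_cancel_iff]

theorem idP_facts : ∀ c < 78, ∀ j < 78, digit (idP.getD c 0) j = if c = j then 1 else 0 := by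
  intro c hc j _
  have h := List.all_eq_true.mp idP_get c (List.mem_range.mpr hc)
  rw [beq_iff_eq] at h
  rw [h, digit_pow]

theorem pMat_id : pMat idP = 1 := by
  ext i j
  simp only [pMat, val, idP_facts i.1 i.2 j.1 j.2, Matrix.one_apply, Fin.ext_iff]
  split <;> simp

theorem evalWord_sound (gens : List SMat) : ∀ (w : List ℕ) (Y : List ℕ),
    (∀ g ∈ w, rowsOk (gens.getD g []) = true) → evalWord gens w = some Y →
      AllSmall Y ∧ pMat Y = (w.map fun g => sMat (gens.getD g [])).prod := by
  intro w
  induction w with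
  | nil =>
    intro Y _ h
    simp only [evalWord, Option.some.injEq] at h
    subst h
    refine ⟨fun c hc j hj => ?_, by simp [pMat_id]⟩
    rw [idP_facts c hc j hj]; split <;> norm_num
  | cons g gs ih =>
    intro Y hg h
    simp only [evalWord] at h
    cases h1 : evalWord gens gs with
    | none => simp [h1] at h
    | some X =>
      simp only [h1] at h
      obtain ⟨hX, hp⟩ := ih X (fun x hx => hg x (List.mem_cons_of_mem _ hx)) h1
      obtain ⟨hY, hq⟩ := step_sound (hg g List.mem_cons_self) hX h
      refine ⟨hY, ?_⟩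
      rw [hq, hp, List.map_cons, List.prod_cons]

theorem wordIsOne_sound {gens : List SMat} {w : List ℕ} (hg : ∀ g ∈ w, rowsOk (gens.getD g []) = true)
    (h : wordIsOne gens w = true) : (w.map fun g => sMat (gens.getD g [])).prod = 1 := by
  unfold wordIsOne at h
  cases h1 : evalWord gens w with
  | none => simp [h1] at h
  | some X =>
    simp only [h1, beq_iff_eq] at h
    rw [← (evalWord_sound gens w X hg h1).2, h, pMat_id]

end Cfsg.Agent.PackedMatFi22Core40
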