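import Cfsg.Agent.Lib.PackedMatFi22Core40

/-! Certificate: nine 78 x 78 matrices over `ZMod 13` for the generators of the Fischer group Fi22. -/

set_option autoImplicit false

namespace Cfsg.Agent.PackedMatFi22Data40

open Cfsg.Agent.PackedMatFi22Core40

def g0 : SMat := [
  [(0, 12)],
  [(1, 12)],
  [(2, 12)],
  [(3, 12)],
  [(4, 12)],
  [(5, 12)],
  [(6, 12)],
  [(7, 12)],
  [(8, 12)],
  [(9, 12)],
  [(10, 12)],
  [(11, 12)],
  [(12, 12)],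
  [(13, 12)],
  [(14, 12)],
  [(15, 12)],
  [(16, 12)],
  [(17, 12)],
  [(18, 12)],
  [(19, 12)],
  [(37, 12)],
  [(38, 12)],
  [(39, 12)],
  [(40, 12)],
  [(41, 12)],
  [(42, 12)],
  [(43, 12)],
  [(44, 12)],
  [(45, 12)],
  [(46, 12)],
  [(47, 12)],
  [(48, 12)],
  [(49, 12)],
  [(50, 12)],
  [(51, 12)],
  [(52, 12)],
  [(36, 1)],
  [(20, 12)],
  [(21, 12)],
  [(22, 12)],
  [(23, 12)],
  [(24, 12)],
  [(25, 12)],
  [(26, 12)],
  [(27, 12)],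
  [(28, 12)],
  [(29, 12)],
  [(30, 12)],
  [(31, 12)],
  [(32, 12)],
  [(33, 12)],
  [(34, 12)],
  [(35, 12)],
  [(53, 12)],
  [(54, 12)],
  [(55, 12)],
  [(56, 12)],
  [(57, 12)],
  [(58, 12)],
  [(59, 12)],
  [(60, 12)],
  [(61, 12)],
  [(62, 12)],
  [(63, 12), (68, 1), (69, 1), (72, 1), (73, 1), (74, 1), (75, 1), (76, 1), (77, 1)],
  [(64, 12), (68, 12), (69, 12), (74, 12), (75, 12)],
  [(65, 12), (70, 1), (71, 1), (72, 1), (73, 1), (74, 1), (75, 1), (76, 1), (77, 1)],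
  [(66, 12), (70, 12), (71, 12), (74, 12), (75, 12)],
  [(67, 12), (72, 12), (73, 12), (76, 12), (77, 12)],
  [(69, 1)],
  [(68, 1)],
  [(71, 1)],
  [(70, 1)],
  [(73, 1)],
  [(72, 1)],
  [(75, 1)],
  [(74, 1)],
  [(77, 1)],
  [(76, 1)]]

def g1 : SMat := [
  [(0, 12)],
  [(1, 12)],
  [(2, 12)],
  [(3, 12)],
  [(4, 12)],
  [(5, 12)],
  [(6, 12)],
  [(7, 12)],
  [(8, 12)],
  [(9, 12)],
  [(21, 12)],
  [(22, 12)],
  [(23, 12)],
  [(24, 12)],
  [(25, 12)],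
  [(26, 12)],
  [(27, 12)],
  [(28, 12)],
  [(29, 12)],
  [(30, 12)],
  [(20, 1)],
  [(10, 12)],
  [(11, 12)],
  [(12, 12)],
  [(13, 12)],
  [(14, 12)],
  [(15, 12)],
  [(16, 12)],
  [(17, 12)],
  [(18, 12)],
  [(19, 12)],
  [(31, 12)],
  [(32, 12)],
  [(33, 12)],
  [(34, 12)],
  [(35, 12)],
  [(37, 12)],
  [(36, 12)],
  [(38, 12)],
  [(39, 12)],
  [(40, 12)],
  [(41, 12)],
  [(42, 12)],
  [(43, 12)],
  [(44, 12)],
  [(45, 12)],
  [(46, 12)],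
  [(47, 12)],
  [(53, 12)],
  [(54, 12)],
  [(55, 12)],
  [(56, 12)],
  [(57, 12)],
  [(48, 12)],
  [(49, 12)],
  [(50, 12)],
  [(51, 12)],
  [(52, 12)],
  [(58, 12)],
  [(59, 12)],
  [(60, 12)],
  [(61, 12)],
  [(62, 12)],
  [(70, 1)],
  [(74, 1)],
  [(64, 1), (65, 12), (67, 1), (69, 1), (73, 1), (74, 1), (75, 1), (76, 1), (77, 1)],
  [(64, 12), (66, 12), (67, 12), (74, 12), (76, 12)],
  [(76, 1)],
  [(64, 12), (68, 12), (69, 12), (74, 12), (75, 12)],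
  [(75, 1)],
  [(63, 1)],
  [(69, 12), (71, 12), (73, 12), (75, 12), (77, 12)],
  [(67, 12), (72, 12), (73, 12), (76, 12), (77, 12)],
  [(77, 1)],
  [(64, 1)],
  [(69, 1)],
  [(67, 1)],
  [(73, 1)]]

def g2 : SMat := [
  [(0, 12)],
  [(1, 12)],
  [(2, 12)],
  [(3, 12)],
  [(11, 12)],
  [(12, 12)],
  [(13, 12)],
  [(14, 12)],
  [(15, 12)],
  [(16, 12)],
  [(10, 1)],
  [(4, 12)],
  [(5, 12)],
  [(6, 12)],
  [(7, 12)],
  [(8, 12)],
  [(9, 12)],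
  [(17, 12)],
  [(18, 12)],
  [(19, 12)],
  [(21, 12)],
  [(20, 12)],
  [(22, 12)],
  [(23, 12)],
  [(24, 12)],
  [(25, 12)],
  [(26, 12)],
  [(27, 12)],
  [(31, 12)],
  [(32, 12)],
  [(33, 12)],
  [(28, 12)],
  [(29, 12)],
  [(30, 12)],
  [(34, 12)],
  [(35, 12)],
  [(36, 12)],
  [(38, 12)],
  [(37, 12)],
  [(39, 12)],
  [(40, 12)],
  [(41, 12)],
  [(42, 12)],
  [(43, 12)],
  [(44, 12)],
  [(48, 12)],
  [(49, 12)],
  [(50, 12)],
  [(45, 12)],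
  [(46, 12)],
  [(47, 12)],
  [(51, 12)],
  [(52, 12)],
  [(53, 12)],
  [(54, 12)],
  [(55, 12)],
  [(58, 12)],
  [(59, 12)],
  [(56, 12)],
  [(57, 12)],
  [(60, 12)],
  [(61, 12)],
  [(62, 12)],
  [(63, 1)],
  [(63, 12), (64, 12)],
  [(63, 1), (67, 12), (69, 12), (71, 12), (72, 12), (73, 11), (75, 12), (76, 12), (77, 12)],
  [(63, 12), (67, 1), (68, 1), (69, 1), (71, 1), (72, 1), (73, 2), (74, 1), (75, 1), (76, 1), (77, 1)],
  [(63, 1), (67, 12), (68, 12), (69, 12), (72, 12), (73, 12), (74, 12), (75, 12), (76, 12), (77, 12)],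
  [(63, 12), (66, 1), (67, 1), (69, 1), (71, 1), (72, 1), (73, 2), (74, 1), (75, 1), (76, 1), (77, 1)],
  [(63, 1), (66, 12), (67, 12), (69, 12), (71, 12), (73, 12), (74, 12), (75, 12), (76, 12), (77, 12)],
  [(63, 12), (70, 12)],
  [(63, 1), (68, 12), (69, 12), (71, 12), (72, 12), (73, 12), (74, 12), (75, 12), (76, 12), (77, 12)],
  [(63, 1), (66, 12), (67, 12), (71, 12), (72, 12), (73, 12), (74, 12), (75, 12), (76, 12), (77, 12)],
  [(63, 12), (66, 1), (67, 1), (68, 1), (69, 1), (71, 1), (72, 1), (73, 1), (74, 1), (75, 1), (76, 1), (77, 1)],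
  [(63, 1), (65, 1), (67, 12), (69, 12), (71, 12), (72, 12), (73, 11), (74, 12), (75, 12), (76, 12), (77, 12)],
  [(63, 12), (65, 12), (67, 1), (69, 1), (71, 1), (72, 1), (73, 2), (74, 1), (75, 1), (76, 2), (77, 2)],
  [(63, 12), (65, 12), (67, 1), (69, 1), (71, 1), (72, 1), (73, 2), (74, 1), (75, 2), (76, 1), (77, 2)],
  [(63, 1), (65, 1), (67, 12), (69, 12), (71, 12), (72, 12), (73, 11), (75, 12), (76, 12), (77, 11)]]

def g3 : SMat := [
  [(5, 12)],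
  [(1, 12)],
  [(6, 12)],
  [(8, 12)],
  [(4, 1)],
  [(0, 12)],
  [(2, 12)],
  [(7, 12)],
  [(3, 12)],
  [(9, 12)],
  [(11, 12)],
  [(10, 12)],
  [(12, 12)],
  [(13, 12)],
  [(17, 12)],
  [(15, 12)],
  [(18, 12)],
  [(14, 12)],
  [(16, 12)],
  [(19, 12)],
  [(20, 12)],
  [(22, 12)],
  [(21, 12)],
  [(23, 12)],
  [(24, 12)],
  [(28, 12)],
  [(26, 12)],
  [(29, 12)],
  [(25, 12)],
  [(27, 12)],
  [(30, 12)],
  [(31, 12)],
  [(32, 12)],
  [(34, 12)],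
  [(33, 12)],
  [(35, 12)],
  [(36, 12)],
  [(37, 12)],
  [(39, 12)],
  [(38, 12)],
  [(40, 12)],
  [(41, 12)],
  [(45, 12)],
  [(43, 12)],
  [(46, 12)],
  [(42, 12)],
  [(44, 12)],
  [(47, 12)],
  [(48, 12)],
  [(49, 12)],
  [(51, 12)],
  [(50, 12)],
  [(52, 12)],
  [(53, 12)],
  [(54, 12)],
  [(56, 12)],
  [(55, 12)],
  [(57, 12)],
  [(58, 12)],
  [(60, 12)],
  [(59, 12)],
  [(61, 12)],
  [(62, 12)],
  [(64, 1)],
  [(63, 1)],
  [(65, 12), (70, 1), (71, 1), (72, 1), (73, 1), (74, 1), (75, 1), (76, 1), (77, 1)],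
  [(66, 12), (70, 12), (71, 12), (74, 12), (75, 12)],
  [(67, 12), (72, 12), (73, 12), (76, 12), (77, 12)],
  [(68, 12), (70, 12), (72, 12), (74, 12), (76, 12)],
  [(69, 12), (71, 12), (73, 12), (75, 12), (77, 12)],
  [(74, 1)],
  [(75, 1)],
  [(76, 1)],
  [(77, 1)],
  [(70, 1)],
  [(71, 1)],
  [(72, 1)],
  [(73, 1)]]

def g4 : SMat := [
  [(0, 12)],
  [(3, 12)],
  [(2, 1)],
  [(1, 12)],
  [(6, 12)],
  [(7, 12)],
  [(4, 12)],
  [(5, 12)],
  [(8, 12)],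
  [(9, 12)],
  [(10, 12)],
  [(13, 12)],
  [(14, 12)],
  [(11, 12)],
  [(12, 12)],
  [(15, 12)],
  [(16, 12)],
  [(17, 12)],
  [(19, 12)],
  [(18, 12)],
  [(20, 12)],
  [(21, 12)],
  [(24, 12)],
  [(25, 12)],
  [(22, 12)],
  [(23, 12)],
  [(26, 12)],
  [(27, 12)],
  [(28, 12)],
  [(30, 12)],
  [(29, 12)],
  [(31, 12)],
  [(33, 12)],
  [(32, 12)],
  [(34, 12)],
  [(35, 12)],
  [(36, 12)],
  [(37, 12)],
  [(38, 12)],
  [(41, 12)],
  [(42, 12)],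
  [(39, 12)],
  [(40, 12)],
  [(43, 12)],
  [(44, 12)],
  [(45, 12)],
  [(47, 12)],
  [(46, 12)],
  [(48, 12)],
  [(50, 12)],
  [(49, 12)],
  [(51, 12)],
  [(52, 12)],
  [(53, 12)],
  [(55, 12)],
  [(54, 12)],
  [(56, 12)],
  [(57, 12)],
  [(58, 12)],
  [(59, 12)],
  [(61, 12)],
  [(60, 12)],
  [(62, 12)],
  [(63, 12), (66, 1), (67, 1), (71, 1), (73, 1), (74, 1), (75, 1), (76, 1), (77, 1)],
  [(69, 1)],
  [(64, 1), (65, 12), (67, 1), (69, 1), (73, 1), (74, 1), (75, 1), (76, 1), (77, 1)],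
  [(71, 1)],
  [(73, 1)],
  [(64, 12), (68, 12), (69, 12), (74, 12), (75, 12)],
  [(64, 1)],
  [(66, 12), (70, 12), (71, 12), (74, 12), (75, 12)],
  [(66, 1)],
  [(67, 12), (72, 12), (73, 12), (76, 12), (77, 12)],
  [(67, 1)],
  [(75, 1)],
  [(74, 1)],
  [(77, 1)],
  [(76, 1)]]

def g5 : SMat := [
  [(0, 12)],
  [(1, 1)],
  [(3, 12)],
  [(2, 12)],
  [(4, 12)],
  [(5, 12)],
  [(8, 12)],
  [(9, 12)],
  [(6, 12)],
  [(7, 12)],
  [(10, 12)],
  [(11, 12)],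
  [(12, 12)],
  [(15, 12)],
  [(16, 12)],
  [(13, 12)],
  [(14, 12)],
  [(18, 12)],
  [(17, 12)],
  [(19, 12)],
  [(20, 12)],
  [(21, 12)],
  [(22, 12)],
  [(23, 12)],
  [(26, 12)],
  [(27, 12)],
  [(24, 12)],
  [(25, 12)],
  [(29, 12)],
  [(28, 12)],
  [(30, 12)],
  [(32, 12)],
  [(31, 12)],
  [(33, 12)],
  [(34, 12)],
  [(35, 12)],
  [(36, 12)],
  [(37, 12)],
  [(38, 12)],
  [(39, 12)],
  [(40, 12)],
  [(43, 12)],
  [(44, 12)],
  [(41, 12)],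
  [(42, 12)],
  [(46, 12)],
  [(45, 12)],
  [(47, 12)],
  [(49, 12)],
  [(48, 12)],
  [(50, 12)],
  [(51, 12)],
  [(52, 12)],
  [(54, 12)],
  [(53, 12)],
  [(55, 12)],
  [(56, 12)],
  [(57, 12)],
  [(58, 12)],
  [(59, 12)],
  [(60, 12)],
  [(62, 12)],
  [(61, 12)],
  [(63, 12), (68, 1), (69, 1), (72, 1), (73, 1), (74, 1), (75, 1), (76, 1), (77, 1)],
  [(64, 12), (68, 12), (69, 12), (74, 12), (75, 12)],
  [(66, 1)],
  [(65, 1)],
  [(67, 12), (72, 12), (73, 12), (76, 12), (77, 12)],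
  [(74, 1)],
  [(75, 1)],
  [(68, 12), (70, 12), (72, 12), (74, 12), (76, 12)],
  [(69, 12), (71, 12), (73, 12), (75, 12), (77, 12)],
  [(76, 1)],
  [(77, 1)],
  [(68, 1)],
  [(69, 1)],
  [(72, 1)],
  [(73, 1)]]

def g6 : SMat := [
  [(0, 12)],
  [(61, 12)],
  [(2, 12)],
  [(60, 12)],
  [(4, 12)],
  [(5, 12)],
  [(6, 12)],
  [(7, 12)],
  [(59, 12)],
  [(58, 12)],
  [(10, 12)],
  [(11, 12)],
  [(12, 12)],
  [(13, 12)],
  [(14, 12)],
  [(57, 12)],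
  [(56, 12)],
  [(17, 12)],
  [(55, 12)],
  [(54, 12)],
  [(20, 12)],
  [(21, 12)],
  [(22, 12)],
  [(23, 12)],
  [(24, 12)],
  [(25, 12)],
  [(52, 12)],
  [(51, 12)],
  [(28, 12)],
  [(50, 12)],
  [(49, 12)],
  [(31, 12)],
  [(47, 12)],
  [(46, 12)],
  [(44, 12)],
  [(43, 12)],
  [(36, 12)],
  [(37, 12)],
  [(38, 12)],
  [(39, 12)],
  [(40, 12)],
  [(41, 12)],
  [(42, 12)],
  [(35, 12)],
  [(34, 12)],
  [(45, 12)],
  [(33, 12)],
  [(32, 12)],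
  [(48, 12)],
  [(30, 12)],
  [(29, 12)],
  [(27, 12)],
  [(26, 12)],
  [(53, 12)],
  [(19, 12)],
  [(18, 12)],
  [(16, 12)],
  [(15, 12)],
  [(9, 12)],
  [(8, 12)],
  [(3, 12)],
  [(1, 12)],
  [(62, 1)],
  [(65, 1), (67, 12), (69, 12), (71, 12), (72, 12), (73, 11), (75, 12), (76, 12), (77, 12)],
  [(65, 12), (67, 1), (69, 1), (70, 1), (71, 1), (72, 1), (73, 2), (74, 1), (75, 1), (76, 1), (77, 1)],
  [(65, 1)],
  [(65, 12), (66, 12)],
  [(65, 1), (67, 12), (70, 12), (71, 12), (72, 12), (73, 12), (74, 12), (75, 12), (76, 12), (77, 12)],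
  [(65, 12), (68, 12)],
  [(65, 1), (69, 12), (70, 12), (71, 12), (72, 12), (73, 12), (74, 12), (75, 12), (76, 12), (77, 12)],
  [(64, 1), (65, 12), (67, 1), (69, 1), (71, 1), (72, 1), (73, 2), (74, 1), (75, 1), (76, 1), (77, 1)],
  [(64, 12), (65, 1), (67, 12), (69, 12), (71, 12), (73, 12), (74, 12), (75, 12), (76, 12), (77, 12)],
  [(64, 12), (65, 1), (67, 12), (69, 12), (72, 12), (73, 12), (74, 12), (75, 12), (76, 12), (77, 12)],
  [(64, 1), (65, 12), (67, 1), (69, 1), (70, 1), (71, 1), (72, 1), (73, 1), (74, 1), (75, 1), (76, 1), (77, 1)],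
  [(63, 1), (65, 1), (67, 12), (69, 12), (71, 12), (72, 12), (73, 11), (74, 12), (75, 12), (76, 12), (77, 12)],
  [(63, 12), (65, 12), (67, 1), (69, 1), (71, 1), (72, 1), (73, 2), (74, 1), (75, 1), (76, 2), (77, 2)],
  [(63, 12), (65, 12), (67, 1), (69, 1), (71, 1), (72, 1), (73, 2), (74, 1), (75, 2), (76, 1), (77, 2)],
  [(63, 1), (65, 1), (67, 12), (69, 12), (71, 12), (72, 12), (73, 11), (75, 12), (76, 12), (77, 11)]]

def g7 : SMat := [
  [(0, 1)],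
  [(1, 12)],
  [(2, 12)],
  [(3, 12)],
  [(5, 12)],
  [(4, 12)],
  [(7, 12)],
  [(6, 12)],
  [(9, 12)],
  [(8, 12)],
  [(10, 12)],
  [(12, 12)],
  [(11, 12)],
  [(14, 12)],
  [(13, 12)],
  [(16, 12)],
  [(15, 12)],
  [(17, 12)],
  [(18, 12)],
  [(19, 12)],
  [(20, 12)],
  [(21, 12)],
  [(23, 12)],
  [(22, 12)],
  [(25, 12)],
  [(24, 12)],
  [(27, 12)],
  [(26, 12)],
  [(28, 12)],
  [(29, 12)],
  [(30, 12)],
  [(31, 12)],
  [(32, 12)],
  [(33, 12)],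
  [(35, 12)],
  [(34, 12)],
  [(36, 12)],
  [(37, 12)],
  [(38, 12)],
  [(40, 12)],
  [(39, 12)],
  [(42, 12)],
  [(41, 12)],
  [(44, 12)],
  [(43, 12)],
  [(45, 12)],
  [(46, 12)],
  [(47, 12)],
  [(48, 12)],
  [(49, 12)],
  [(50, 12)],
  [(52, 12)],
  [(51, 12)],
  [(53, 12)],
  [(54, 12)],
  [(55, 12)],
  [(57, 12)],
  [(56, 12)],
  [(59, 12)],
  [(58, 12)],
  [(60, 12)],
  [(61, 12)],
  [(62, 12)],
  [(63, 12), (68, 1), (69, 1), (72, 1), (73, 1), (74, 1), (75, 1), (76, 1), (77, 1)],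
  [(67, 1)],
  [(64, 1), (65, 12), (67, 1), (69, 1), (73, 1), (74, 1), (75, 1), (76, 1), (77, 1)],
  [(64, 12), (66, 12), (67, 12), (74, 12), (76, 12)],
  [(64, 1)],
  [(72, 1)],
  [(73, 1)],
  [(68, 12), (70, 12), (72, 12), (74, 12), (76, 12)],
  [(69, 12), (71, 12), (73, 12), (75, 12), (77, 12)],
  [(68, 1)],
  [(69, 1)],
  [(76, 1)],
  [(77, 1)],
  [(74, 1)],
  [(75, 1)]]

def g8 : SMat := [
  [(0, 11), (5, 8), (7, 8), (9, 8), (12, 8), (14, 8), (16, 8), (17, 5), (18, 5), (19, 5), (23, 8), (25, 8), (27, 8), (28, 5), (29, 5), (30, 5), (31, 5), (32, 5), (33, 5), (34, 8), (40, 8), (42, 8), (44, 8), (45, 5), (46, 5), (47, 5), (48, 5), (49, 5), (50, 5), (51, 8), (53, 5), (54, 5), (55, 5), (56, 8), (58, 8), (63, 8), (64, 7), (65, 8), (66, 5), (67, 4), (68, 7), (69, 5), (70, 5), (71, 5), (72, 4), (73, 10), (74, 10), (75, 12), (76, 10), (77, 4)],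
  [(1, 6), (2, 3), (3, 10), (6, 3), (8, 10), (13, 3), (15, 10), (24, 3), (26, 10), (41, 3), (43, 10), (61, 10), (62, 3)],
  [(1, 3), (2, 6), (3, 10), (4, 3), (6, 10), (11, 3), (13, 10), (22, 3), (24, 10), (39, 3), (41, 10), (60, 10), (61, 3)],
  [(1, 10), (2, 10), (3, 6), (4, 3), (8, 10), (11, 3), (15, 10), (22, 3), (26, 10), (39, 3), (43, 10), (60, 10), (62, 3)],
  [(2, 3), (3, 3), (4, 6), (6, 10), (8, 10), (10, 3), (11, 10), (21, 3), (22, 10), (38, 3), (39, 10), (59, 10), (60, 3)],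
  [(0, 8), (5, 11), (7, 8), (9, 8), (12, 8), (14, 5), (16, 5), (17, 8), (18, 8), (19, 5), (23, 8), (25, 5), (27, 5), (28, 8), (29, 8), (30, 5), (31, 5), (32, 5), (33, 8), (34, 5), (40, 8), (42, 5), (44, 5), (45, 8), (46, 8), (47, 5), (48, 5), (49, 5), (50, 8), (51, 5), (53, 5), (54, 5), (55, 8), (56, 5), (58, 8), (63, 6), (64, 5), (65, 8), (66, 5), (67, 4), (68, 7), (69, 5), (70, 7), (71, 3), (72, 6), (73, 10), (74, 12), (75, 10), (76, 12), (77, 4)],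
  [(1, 3), (2, 10), (4, 10), (6, 6), (8, 10), (10, 3), (13, 10), (21, 3), (24, 10), (38, 3), (41, 10), (59, 10), (61, 3)],
  [(0, 8), (5, 8), (7, 11), (9, 8), (12, 5), (14, 8), (16, 5), (17, 8), (18, 5), (19, 8), (23, 5), (25, 8), (27, 5), (28, 8), (29, 5), (30, 8), (31, 5), (32, 8), (33, 5), (34, 5), (40, 5), (42, 8), (44, 5), (45, 8), (46, 5), (47, 8), (48, 5), (49, 8), (50, 5), (51, 5), (53, 5), (54, 8), (55, 5), (56, 5), (58, 8), (63, 6), (64, 7), (65, 8), (66, 11), (67, 8), (68, 7), (69, 7), (70, 7), (71, 9), (72, 6), (73, 1), (74, 3), (75, 1), (76, 1), (77, 6)],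
  [(1, 10), (3, 10), (4, 10), (6, 10), (8, 6), (10, 3), (15, 10), (21, 3), (26, 10), (38, 3), (43, 10), (59, 10), (62, 3)],
  [(0, 8), (5, 8), (7, 8), (9, 11), (12, 5), (14, 5), (16, 8), (17, 5), (18, 8), (19, 8), (23, 5), (25, 5), (27, 8), (28, 5), (29, 8), (30, 8), (31, 8), (32, 5), (33, 5), (34, 5), (40, 5), (42, 5), (44, 8), (45, 5), (46, 8), (47, 8), (48, 8), (49, 5), (50, 5), (51, 5), (53, 8), (54, 5), (55, 5), (56, 5), (58, 8), (63, 6), (64, 7), (65, 2), (66, 5), (67, 8), (68, 5), (69, 9), (70, 7), (71, 9), (72, 8), (73, 5), (74, 1), (75, 3), (76, 3), (77, 10)],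
  [(4, 3), (6, 3), (8, 3), (10, 6), (11, 10), (13, 10), (15, 10), (20, 3), (21, 10), (37, 3), (38, 10), (57, 10), (59, 3)],
  [(2, 3), (3, 3), (4, 10), (10, 10), (11, 6), (13, 10), (15, 10), (20, 3), (22, 10), (37, 3), (39, 10), (57, 10), (60, 3)],
  [(0, 8), (5, 8), (7, 5), (9, 5), (12, 11), (14, 8), (16, 8), (17, 8), (18, 8), (19, 5), (23, 8), (25, 5), (27, 5), (28, 5), (29, 5), (30, 8), (31, 8), (32, 8), (33, 5), (34, 5), (40, 8), (42, 5), (44, 5), (45, 5), (46, 5), (47, 8), (48, 8), (49, 8), (50, 5), (51, 5), (53, 5), (54, 5), (55, 8), (56, 8), (58, 5), (63, 8), (64, 5), (65, 6), (66, 7), (67, 8), (68, 5), (69, 5), (70, 7), (71, 7), (72, 6), (73, 1), (74, 12), (75, 12), (76, 1), (77, 6)],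
  [(1, 3), (2, 10), (6, 10), (10, 10), (11, 10), (13, 6), (15, 10), (20, 3), (24, 10), (37, 3), (41, 10), (57, 10), (61, 3)],
  [(0, 8), (5, 5), (7, 8), (9, 5), (12, 8), (14, 11), (16, 8), (17, 8), (18, 5), (19, 8), (23, 5), (25, 8), (27, 5), (28, 5), (29, 8), (30, 5), (31, 8), (32, 5), (33, 8), (34, 5), (40, 5), (42, 8), (44, 5), (45, 5), (46, 8), (47, 5), (48, 8), (49, 5), (50, 8), (51, 5), (53, 5), (54, 8), (55, 5), (56, 8), (58, 5), (63, 8), (64, 7), (65, 6), (66, 5), (67, 4), (68, 5), (69, 7), (70, 7), (71, 5), (72, 6), (73, 10), (74, 12), (75, 12), (76, 12), (77, 4)],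
  [(1, 10), (3, 10), (8, 10), (10, 10), (11, 10), (13, 10), (15, 6), (20, 3), (26, 10), (37, 3), (43, 10), (57, 10), (62, 3)],
  [(0, 8), (5, 5), (7, 5), (9, 8), (12, 8), (14, 8), (16, 11), (17, 5), (18, 8), (19, 8), (23, 5), (25, 5), (27, 8), (28, 8), (29, 5), (30, 5), (31, 5), (32, 8), (33, 8), (34, 5), (40, 5), (42, 5), (44, 8), (45, 8), (46, 5), (47, 5), (48, 5), (49, 8), (50, 8), (51, 5), (53, 8), (54, 5), (55, 5), (56, 8), (58, 5), (63, 8), (64, 7), (65, 8), (66, 7), (67, 4), (68, 7), (69, 5), (70, 7), (71, 5), (72, 4), (73, 10), (74, 1), (75, 10), (76, 10), (77, 4)],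
  [(0, 5), (5, 8), (7, 8), (9, 5), (12, 8), (14, 8), (16, 5), (17, 11), (18, 8), (19, 8), (23, 5), (25, 5), (27, 8), (28, 8), (29, 5), (30, 5), (31, 8), (32, 5), (33, 5), (34, 8), (40, 5), (42, 5), (44, 8), (45, 8), (46, 5), (47, 5), (48, 8), (49, 5), (50, 5), (51, 8), (53, 5), (54, 8), (55, 8), (56, 5), (58, 5), (63, 6), (64, 5), (65, 6), (66, 5), (67, 4), (68, 5), (69, 7), (70, 5), (71, 7), (72, 4), (73, 1), (74, 10), (75, 1), (76, 10), (77, 8)],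
  [(0, 5), (5, 8), (7, 5), (9, 8), (12, 8), (14, 5), (16, 8), (17, 8), (18, 11), (19, 8), (23, 5), (25, 8), (27, 5), (28, 5), (29, 8), (30, 5), (31, 5), (32, 8), (33, 5), (34, 8), (40, 5), (42, 8), (44, 5), (45, 5), (46, 8), (47, 5), (48, 5), (49, 8), (50, 5), (51, 8), (53, 8), (54, 5), (55, 8), (56, 5), (58, 5), (63, 6), (64, 5), (65, 8), (66, 7), (67, 4), (68, 7), (69, 5), (70, 5), (71, 7), (72, 6), (73, 10), (74, 12), (75, 12), (76, 12), (77, 4)],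
  [(0, 5), (5, 5), (7, 8), (9, 8), (12, 5), (14, 8), (16, 8), (17, 8), (18, 8), (19, 11), (23, 8), (25, 5), (27, 5), (28, 5), (29, 5), (30, 8), (31, 5), (32, 5), (33, 8), (34, 8), (40, 8), (42, 5), (44, 5), (45, 5), (46, 5), (47, 8), (48, 5), (49, 5), (50, 8), (51, 8), (53, 8), (54, 8), (55, 5), (56, 5), (58, 5), (63, 6), (64, 7), (65, 8), (66, 5), (67, 8), (68, 7), (69, 7), (70, 5), (71, 5), (72, 6), (73, 1), (74, 12), (75, 12), (76, 1), (77, 6)],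
  [(10, 3), (11, 3), (13, 3), (15, 3), (20, 6), (21, 10), (22, 10), (24, 10), (26, 10), (36, 3), (37, 10), (52, 10), (57, 3)],
  [(4, 3), (6, 3), (8, 3), (10, 10), (20, 10), (21, 6), (22, 10), (24, 10), (26, 10), (36, 3), (38, 10), (52, 10), (59, 3)],
  [(2, 3), (3, 3), (4, 10), (11, 10), (20, 10), (21, 10), (22, 6), (24, 10), (26, 10), (36, 3), (39, 10), (52, 10), (60, 3)],
  [(0, 8), (5, 8), (7, 5), (9, 5), (12, 8), (14, 5), (16, 5), (17, 5), (18, 5), (19, 8), (23, 11), (25, 8), (27, 8), (28, 8), (29, 8), (30, 5), (31, 8), (32, 8), (33, 5), (34, 5), (40, 8), (42, 5), (44, 5), (45, 5), (46, 5), (47, 8), (48, 5), (49, 5), (50, 8), (51, 8), (53, 8), (54, 8), (55, 5), (56, 5), (58, 5), (63, 6), (64, 7), (65, 6), (66, 7), (67, 6), (68, 5), (69, 7), (70, 5), (71, 7), (72, 6), (73, 1), (74, 1), (75, 1), (76, 12), (77, 6)],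
  [(1, 3), (2, 10), (6, 10), (13, 10), (20, 10), (21, 10), (22, 10), (24, 6), (26, 10), (36, 3), (41, 10), (52, 10), (61, 3)],
  [(0, 8), (5, 5), (7, 8), (9, 5), (12, 5), (14, 8), (16, 5), (17, 5), (18, 8), (19, 5), (23, 8), (25, 11), (27, 8), (28, 8), (29, 5), (30, 8), (31, 8), (32, 5), (33, 8), (34, 5), (40, 5), (42, 8), (44, 5), (45, 5), (46, 8), (47, 5), (48, 5), (49, 8), (50, 5), (51, 8), (53, 8), (54, 5), (55, 8), (56, 5), (58, 5), (63, 6), (64, 5), (65, 6), (66, 5), (67, 6), (68, 5), (69, 5), (70, 5), (71, 5), (72, 6), (73, 1), (74, 10), (75, 10), (76, 1), (77, 8)],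
  [(1, 10), (3, 10), (8, 10), (15, 10), (20, 10), (21, 10), (22, 10), (24, 10), (26, 6), (36, 3), (43, 10), (52, 10), (62, 3)],
  [(0, 8), (5, 5), (7, 5), (9, 8), (12, 5), (14, 5), (16, 8), (17, 8), (18, 5), (19, 5), (23, 8), (25, 8), (27, 11), (28, 5), (29, 8), (30, 8), (31, 5), (32, 8), (33, 8), (34, 5), (40, 5), (42, 5), (44, 8), (45, 8), (46, 5), (47, 5), (48, 8), (49, 5), (50, 5), (51, 8), (53, 5), (54, 8), (55, 8), (56, 5), (58, 5), (63, 6), (64, 5), (65, 8), (66, 7), (67, 6), (68, 7), (69, 7), (70, 5), (71, 5), (72, 4), (73, 10), (74, 12), (75, 12), (76, 12), (77, 4)],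
  [(0, 5), (5, 8), (7, 8), (9, 5), (12, 5), (14, 5), (16, 8), (17, 8), (18, 5), (19, 5), (23, 8), (25, 8), (27, 5), (28, 11), (29, 8), (30, 8), (31, 8), (32, 5), (33, 5), (34, 8), (40, 5), (42, 5), (44, 8), (45, 8), (46, 5), (47, 5), (48, 5), (49, 8), (50, 8), (51, 5), (53, 8), (54, 5), (55, 5), (56, 8), (58, 5), (63, 8), (64, 7), (65, 6), (66, 5), (67, 6), (68, 5), (69, 5), (70, 7), (71, 7), (72, 4), (73, 10), (74, 12), (75, 12), (76, 12), (77, 4)],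
  [(0, 5), (5, 8), (7, 5), (9, 8), (12, 5), (14, 8), (16, 5), (17, 5), (18, 8), (19, 5), (23, 8), (25, 5), (27, 8), (28, 8), (29, 11), (30, 8), (31, 5), (32, 8), (33, 5), (34, 8), (40, 5), (42, 8), (44, 5), (45, 5), (46, 8), (47, 5), (48, 8), (49, 5), (50, 8), (51, 5), (53, 5), (54, 8), (55, 5), (56, 8), (58, 5), (63, 8), (64, 7), (65, 8), (66, 7), (67, 6), (68, 7), (69, 7), (70, 7), (71, 7), (72, 6), (73, 1), (74, 1), (75, 1), (76, 1), (77, 8)],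
  [(0, 5), (5, 5), (7, 8), (9, 8), (12, 8), (14, 5), (16, 5), (17, 5), (18, 5), (19, 8), (23, 5), (25, 8), (27, 8), (28, 8), (29, 8), (30, 11), (31, 5), (32, 5), (33, 8), (34, 8), (40, 8), (42, 5), (44, 5), (45, 5), (46, 5), (47, 8), (48, 8), (49, 8), (50, 5), (51, 5), (53, 5), (54, 5), (55, 8), (56, 8), (58, 5), (63, 8), (64, 5), (65, 8), (66, 5), (67, 2), (68, 7), (69, 5), (70, 7), (71, 5), (72, 6), (73, 10), (74, 10), (75, 10), (76, 8), (77, 2)],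
  [(0, 5), (5, 5), (7, 5), (9, 8), (12, 8), (14, 8), (16, 5), (17, 8), (18, 5), (19, 5), (23, 8), (25, 8), (27, 5), (28, 8), (29, 5), (30, 5), (31, 11), (32, 8), (33, 8), (34, 8), (40, 5), (42, 5), (44, 8), (45, 5), (46, 8), (47, 8), (48, 8), (49, 5), (50, 5), (51, 5), (53, 8), (54, 5), (55, 5), (56, 5), (58, 8), (63, 6), (64, 7), (65, 8), (66, 7), (67, 6), (68, 11), (69, 9), (70, 7), (71, 7), (72, 8), (73, 1), (74, 3), (75, 1), (76, 1), (77, 6)],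
  [(0, 5), (5, 5), (7, 8), (9, 5), (12, 8), (14, 5), (16, 8), (17, 5), (18, 8), (19, 5), (23, 8), (25, 5), (27, 8), (28, 5), (29, 8), (30, 5), (31, 8), (32, 11), (33, 8), (34, 8), (40, 5), (42, 8), (44, 5), (45, 8), (46, 5), (47, 8), (48, 5), (49, 8), (50, 5), (51, 5), (53, 5), (54, 8), (55, 5), (56, 5), (58, 8), (63, 6), (64, 7), (65, 6), (66, 5), (67, 6), (68, 5), (69, 7), (70, 7), (71, 7), (72, 6), (73, 1), (74, 10), (75, 12), (76, 12), (77, 6)],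
  [(0, 5), (5, 8), (7, 5), (9, 5), (12, 5), (14, 8), (16, 8), (17, 5), (18, 5), (19, 8), (23, 5), (25, 8), (27, 8), (28, 5), (29, 5), (30, 8), (31, 8), (32, 8), (33, 11), (34, 8), (40, 8), (42, 5), (44, 5), (45, 8), (46, 8), (47, 5), (48, 5), (49, 5), (50, 8), (51, 5), (53, 5), (54, 5), (55, 8), (56, 5), (58, 8), (63, 6), (64, 5), (65, 6), (66, 7), (67, 6), (68, 5), (69, 5), (70, 7), (71, 9), (72, 6), (73, 1), (74, 1), (75, 3), (76, 1), (77, 8)],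
  [(0, 8), (5, 5), (7, 5), (9, 5), (12, 5), (14, 5), (16, 5), (17, 8), (18, 8), (19, 8), (23, 5), (25, 5), (27, 5), (28, 8), (29, 8), (30, 8), (31, 8), (32, 8), (33, 8), (34, 11), (40, 8), (42, 8), (44, 8), (45, 5), (46, 5), (47, 5), (48, 5), (49, 5), (50, 5), (51, 8), (53, 5), (54, 5), (55, 5), (56, 8), (58, 8), (63, 8), (64, 7), (65, 6), (66, 7), (67, 6), (68, 5), (69, 5), (70, 5), (71, 3), (72, 4), (73, 10), (74, 12), (75, 10), (76, 12), (77, 4)],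
  [(35, 6), (36, 10), (37, 10), (38, 10), (39, 10), (41, 10), (43, 10), (52, 10), (57, 10), (59, 10), (60, 10), (61, 10), (62, 10)],
  [(20, 3), (21, 3), (22, 3), (24, 3), (26, 3), (35, 10), (36, 6), (37, 10), (38, 10), (39, 10), (41, 10), (43, 10), (52, 3)],
  [(10, 3), (11, 3), (13, 3), (15, 3), (20, 10), (35, 10), (36, 10), (37, 6), (38, 10), (39, 10), (41, 10), (43, 10), (57, 3)],
  [(4, 3), (6, 3), (8, 3), (10, 10), (21, 10), (35, 10), (36, 10), (37, 10), (38, 6), (39, 10), (41, 10), (43, 10), (59, 3)],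
  [(2, 3), (3, 3), (4, 10), (11, 10), (22, 10), (35, 10), (36, 10), (37, 10), (38, 10), (39, 6), (41, 10), (43, 10), (60, 3)],
  [(0, 8), (5, 8), (7, 5), (9, 5), (12, 8), (14, 5), (16, 5), (17, 5), (18, 5), (19, 8), (23, 8), (25, 5), (27, 5), (28, 5), (29, 5), (30, 8), (31, 5), (32, 5), (33, 8), (34, 8), (40, 11), (42, 8), (44, 8), (45, 8), (46, 8), (47, 5), (48, 8), (49, 8), (50, 5), (51, 5), (53, 8), (54, 8), (55, 5), (56, 5), (58, 5), (63, 6), (64, 7), (65, 6), (66, 7), (67, 6), (68, 7), (69, 9), (70, 7), (71, 9), (72, 6), (73, 1), (74, 1), (75, 1), (76, 1), (77, 8)],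
  [(1, 3), (2, 10), (6, 10), (13, 10), (24, 10), (35, 10), (36, 10), (37, 10), (38, 10), (39, 10), (41, 6), (43, 10), (61, 3)],
  [(0, 8), (5, 5), (7, 8), (9, 5), (12, 5), (14, 8), (16, 5), (17, 5), (18, 8), (19, 5), (23, 5), (25, 8), (27, 5), (28, 5), (29, 8), (30, 5), (31, 5), (32, 8), (33, 5), (34, 8), (40, 8), (42, 11), (44, 8), (45, 8), (46, 5), (47, 8), (48, 8), (49, 5), (50, 8), (51, 5), (53, 8), (54, 5), (55, 8), (56, 5), (58, 5), (63, 6), (64, 5), (65, 6), (66, 5), (67, 6), (68, 7), (69, 7), (70, 7), (71, 7), (72, 6), (73, 1), (74, 1), (75, 1), (76, 12), (77, 6)],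
  [(1, 10), (3, 10), (8, 10), (15, 10), (26, 10), (35, 10), (36, 10), (37, 10), (38, 10), (39, 10), (41, 10), (43, 6), (62, 3)],
  [(0, 8), (5, 5), (7, 5), (9, 8), (12, 5), (14, 5), (16, 8), (17, 8), (18, 5), (19, 5), (23, 5), (25, 5), (27, 8), (28, 8), (29, 5), (30, 5), (31, 8), (32, 5), (33, 5), (34, 8), (40, 8), (42, 8), (44, 11), (45, 5), (46, 8), (47, 8), (48, 5), (49, 8), (50, 8), (51, 5), (53, 5), (54, 8), (55, 8), (56, 5), (58, 5), (63, 6), (64, 5), (65, 8), (66, 7), (67, 6), (68, 5), (69, 5), (70, 7), (71, 7), (72, 8), (73, 1), (74, 12), (75, 12), (76, 1), (77, 6)],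
  [(0, 5), (5, 8), (7, 8), (9, 5), (12, 5), (14, 5), (16, 8), (17, 8), (18, 5), (19, 5), (23, 5), (25, 5), (27, 8), (28, 8), (29, 5), (30, 5), (31, 5), (32, 8), (33, 8), (34, 5), (40, 8), (42, 8), (44, 5), (45, 11), (46, 8), (47, 8), (48, 8), (49, 5), (50, 5), (51, 8), (53, 8), (54, 5), (55, 5), (56, 8), (58, 5), (63, 8), (64, 7), (65, 6), (66, 5), (67, 6), (68, 7), (69, 7), (70, 5), (71, 5), (72, 8), (73, 1), (74, 12), (75, 12), (76, 1), (77, 6)],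
  [(0, 5), (5, 8), (7, 5), (9, 8), (12, 5), (14, 8), (16, 5), (17, 5), (18, 8), (19, 5), (23, 5), (25, 8), (27, 5), (28, 5), (29, 8), (30, 5), (31, 8), (32, 5), (33, 8), (34, 5), (40, 8), (42, 5), (44, 8), (45, 8), (46, 11), (47, 8), (48, 5), (49, 8), (50, 5), (51, 8), (53, 5), (54, 8), (55, 5), (56, 8), (58, 5), (63, 8), (64, 7), (65, 8), (66, 7), (67, 6), (68, 5), (69, 5), (70, 5), (71, 5), (72, 2), (73, 10), (74, 10), (75, 10), (76, 8), (77, 2)],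
  [(0, 5), (5, 5), (7, 8), (9, 8), (12, 8), (14, 5), (16, 5), (17, 5), (18, 5), (19, 8), (23, 8), (25, 5), (27, 5), (28, 5), (29, 5), (30, 8), (31, 8), (32, 8), (33, 5), (34, 5), (40, 5), (42, 8), (44, 8), (45, 8), (46, 8), (47, 11), (48, 5), (49, 5), (50, 8), (51, 8), (53, 5), (54, 5), (55, 8), (56, 8), (58, 5), (63, 8), (64, 5), (65, 8), (66, 5), (67, 2), (68, 5), (69, 3), (70, 5), (71, 3), (72, 2), (73, 6), (74, 10), (75, 10), (76, 10), (77, 4)],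
  [(0, 5), (5, 5), (7, 5), (9, 8), (12, 8), (14, 8), (16, 5), (17, 8), (18, 5), (19, 5), (23, 5), (25, 5), (27, 8), (28, 5), (29, 8), (30, 8), (31, 8), (32, 5), (33, 5), (34, 5), (40, 8), (42, 8), (44, 5), (45, 8), (46, 5), (47, 5), (48, 11), (49, 8), (50, 8), (51, 8), (53, 8), (54, 5), (55, 5), (56, 5), (58, 8), (63, 6), (64, 7), (65, 8), (66, 7), (67, 6), (68, 5), (69, 3), (70, 5), (71, 5), (72, 4), (73, 10), (74, 12), (75, 10), (76, 12), (77, 4)],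
  [(0, 5), (5, 5), (7, 8), (9, 5), (12, 8), (14, 5), (16, 8), (17, 5), (18, 8), (19, 5), (23, 5), (25, 8), (27, 5), (28, 8), (29, 5), (30, 8), (31, 5), (32, 8), (33, 5), (34, 5), (40, 8), (42, 5), (44, 8), (45, 5), (46, 8), (47, 5), (48, 8), (49, 11), (50, 8), (51, 8), (53, 5), (54, 8), (55, 5), (56, 5), (58, 8), (63, 6), (64, 7), (65, 6), (66, 5), (67, 6), (68, 7), (69, 9), (70, 5), (71, 5), (72, 6), (73, 1), (74, 1), (75, 3), (76, 1), (77, 8)],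
  [(0, 5), (5, 8), (7, 5), (9, 5), (12, 5), (14, 8), (16, 8), (17, 5), (18, 5), (19, 8), (23, 8), (25, 5), (27, 5), (28, 8), (29, 8), (30, 5), (31, 5), (32, 5), (33, 8), (34, 5), (40, 5), (42, 8), (44, 8), (45, 5), (46, 5), (47, 8), (48, 8), (49, 8), (50, 11), (51, 8), (53, 5), (54, 5), (55, 8), (56, 5), (58, 8), (63, 6), (64, 5), (65, 6), (66, 7), (67, 6), (68, 7), (69, 7), (70, 5), (71, 7), (72, 6), (73, 1), (74, 10), (75, 12), (76, 12), (77, 6)],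
  [(0, 8), (5, 5), (7, 5), (9, 5), (12, 5), (14, 5), (16, 5), (17, 8), (18, 8), (19, 8), (23, 8), (25, 8), (27, 8), (28, 5), (29, 5), (30, 5), (31, 5), (32, 5), (33, 5), (34, 8), (40, 5), (42, 5), (44, 5), (45, 8), (46, 8), (47, 8), (48, 8), (49, 8), (50, 8), (51, 11), (53, 5), (54, 5), (55, 5), (56, 8), (58, 8), (63, 8), (64, 7), (65, 6), (66, 7), (67, 6), (68, 7), (69, 7), (70, 11), (71, 9), (72, 8), (73, 1), (74, 3), (75, 1), (76, 1), (77, 6)],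
  [(20, 10), (21, 10), (22, 10), (24, 10), (26, 10), (35, 10), (36, 3), (52, 6), (57, 10), (59, 10), (60, 10), (61, 10), (62, 10)],
  [(0, 5), (5, 5), (7, 5), (9, 8), (12, 5), (14, 5), (16, 8), (17, 5), (18, 8), (19, 8), (23, 8), (25, 8), (27, 5), (28, 8), (29, 5), (30, 5), (31, 8), (32, 5), (33, 5), (34, 5), (40, 8), (42, 8), (44, 5), (45, 8), (46, 5), (47, 5), (48, 8), (49, 5), (50, 5), (51, 5), (53, 11), (54, 8), (55, 8), (56, 8), (58, 8), (63, 8), (64, 5), (65, 8), (66, 7), (67, 4), (68, 5), (69, 5), (70, 7), (71, 5), (72, 4), (73, 10), (74, 10), (75, 12), (76, 10), (77, 4)],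
  [(0, 5), (5, 5), (7, 8), (9, 5), (12, 5), (14, 8), (16, 5), (17, 8), (18, 5), (19, 8), (23, 8), (25, 5), (27, 8), (28, 5), (29, 8), (30, 5), (31, 5), (32, 8), (33, 5), (34, 5), (40, 8), (42, 5), (44, 8), (45, 5), (46, 8), (47, 5), (48, 5), (49, 8), (50, 5), (51, 5), (53, 8), (54, 11), (55, 8), (56, 8), (58, 8), (63, 8), (64, 5), (65, 6), (66, 5), (67, 4), (68, 7), (69, 3), (70, 7), (71, 5), (72, 6), (73, 10), (74, 12), (75, 10), (76, 12), (77, 4)],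
  [(0, 5), (5, 8), (7, 5), (9, 5), (12, 8), (14, 5), (16, 5), (17, 8), (18, 8), (19, 5), (23, 5), (25, 8), (27, 8), (28, 5), (29, 5), (30, 8), (31, 5), (32, 5), (33, 8), (34, 5), (40, 5), (42, 8), (44, 8), (45, 5), (46, 5), (47, 8), (48, 5), (49, 5), (50, 8), (51, 5), (53, 8), (54, 8), (55, 11), (56, 8), (58, 8), (63, 8), (64, 11), (65, 6), (66, 7), (67, 8), (68, 7), (69, 9), (70, 7), (71, 7), (72, 6), (73, 1), (74, 3), (75, 1), (76, 1), (77, 6)],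
  [(0, 8), (5, 5), (7, 5), (9, 5), (12, 8), (14, 8), (16, 8), (17, 5), (18, 5), (19, 5), (23, 5), (25, 5), (27, 5), (28, 8), (29, 8), (30, 8), (31, 5), (32, 5), (33, 5), (34, 8), (40, 5), (42, 5), (44, 5), (45, 8), (46, 8), (47, 8), (48, 5), (49, 5), (50, 5), (51, 8), (53, 8), (54, 8), (55, 8), (56, 11), (58, 8), (63, 2), (64, 5), (65, 6), (66, 7), (67, 8), (68, 7), (69, 9), (70, 5), (71, 9), (72, 8), (73, 5), (74, 1), (75, 3), (76, 3), (77, 10)],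
  [(10, 10), (11, 10), (13, 10), (15, 10), (20, 3), (35, 10), (37, 3), (52, 10), (57, 6), (59, 10), (60, 10), (61, 10), (62, 10)],
  [(0, 8), (5, 8), (7, 8), (9, 8), (12, 5), (14, 5), (16, 5), (17, 5), (18, 5), (19, 5), (23, 5), (25, 5), (27, 5), (28, 5), (29, 5), (30, 5), (31, 8), (32, 8), (33, 8), (34, 8), (40, 5), (42, 5), (44, 5), (45, 5), (46, 5), (47, 5), (48, 8), (49, 8), (50, 8), (51, 8), (53, 8), (54, 8), (55, 8), (56, 8), (58, 11), (63, 8), (64, 5), (65, 8), (66, 5), (67, 4), (68, 5), (69, 5), (70, 5), (71, 5), (72, 4), (73, 10), (74, 10), (75, 10), (76, 10), (77, 4)],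
  [(4, 10), (6, 10), (8, 10), (10, 3), (21, 3), (35, 10), (38, 3), (52, 10), (57, 10), (59, 6), (60, 10), (61, 10), (62, 10)],
  [(2, 10), (3, 10), (4, 3), (11, 3), (22, 3), (35, 10), (39, 3), (52, 10), (57, 10), (59, 10), (60, 6), (61, 10), (62, 10)],
  [(1, 10), (2, 3), (6, 3), (13, 3), (24, 3), (35, 10), (41, 3), (52, 10), (57, 10), (59, 10), (60, 10), (61, 6), (62, 10)],
  [(1, 3), (3, 3), (8, 3), (15, 3), (26, 3), (35, 10), (43, 3), (52, 10), (57, 10), (59, 10), (60, 10), (61, 10), (62, 6)],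
  [(5, 4), (12, 9), (29, 9), (32, 4), (45, 9), (48, 4), (56, 4), (58, 9), (63, 6)],
  [(0, 9), (12, 4), (27, 4), (32, 9), (42, 4), (48, 9), (55, 9), (58, 4), (64, 6)],
  [(9, 4), (19, 9), (29, 9), (34, 4), (44, 9), (50, 4), (54, 4), (58, 9), (65, 6)],
  [(7, 9), (19, 4), (28, 4), (34, 9), (42, 4), (50, 9), (53, 9), (58, 4), (66, 6)],
  [(0, 2), (5, 2), (7, 2), (9, 2), (12, 11), (14, 2), (16, 2), (17, 2), (18, 2), (19, 11), (23, 2), (25, 2), (27, 11), (28, 11), (29, 2), (30, 2), (31, 2), (32, 2), (33, 2), (34, 2), (40, 2), (42, 11), (44, 2), (45, 2), (46, 11), (47, 2), (48, 2), (49, 2), (50, 2), (51, 2), (53, 2), (54, 2), (55, 2), (56, 2), (58, 11), (63, 8), (64, 5), (65, 8), (66, 5), (67, 8), (68, 5), (69, 5), (70, 5), (71, 5), (72, 2), (73, 10), (74, 10), (75, 10), (76, 10), (77, 2)],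
  [(0, 9), (14, 4), (23, 4), (31, 9), (44, 4), (50, 9), (54, 9), (58, 4), (68, 6)],
  [(0, 4), (14, 9), (27, 9), (33, 4), (40, 9), (48, 4), (54, 4), (58, 9), (69, 6)],
  [(5, 9), (18, 4), (23, 4), (32, 9), (45, 4), (51, 9), (53, 9), (58, 4), (70, 6)],
  [(5, 4), (18, 9), (28, 9), (34, 4), (40, 9), (49, 4), (53, 4), (58, 9), (71, 6)],
  [(0, 2), (5, 2), (7, 2), (9, 2), (12, 2), (14, 11), (16, 2), (17, 2), (18, 11), (19, 2), (23, 11), (25, 2), (27, 2), (28, 2), (29, 2), (30, 11), (31, 2), (32, 2), (33, 2), (34, 2), (40, 2), (42, 2), (44, 11), (45, 11), (46, 2), (47, 2), (48, 2), (49, 2), (50, 2), (51, 2), (53, 2), (54, 2), (55, 2), (56, 2), (58, 11), (63, 8), (64, 5), (65, 8), (66, 5), (67, 2), (68, 5), (69, 5), (70, 5), (71, 5), (72, 8), (73, 10), (74, 10), (75, 10), (76, 10), (77, 2)],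
  [(0, 11), (5, 11), (7, 11), (9, 11), (12, 11), (14, 2), (16, 11), (17, 11), (18, 2), (19, 11), (23, 11), (25, 11), (27, 2), (28, 2), (29, 11), (30, 11), (31, 11), (32, 11), (33, 11), (34, 11), (40, 2), (42, 11), (44, 11), (45, 11), (46, 11), (47, 2), (48, 11), (49, 11), (50, 11), (51, 11), (53, 11), (54, 11), (55, 11), (56, 11), (58, 2), (63, 5), (64, 8), (65, 5), (66, 8), (67, 11), (68, 8), (69, 8), (70, 8), (71, 8), (72, 11), (73, 9), (74, 3), (75, 3), (76, 3), (77, 11)],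
  [(0, 4), (16, 9), (23, 9), (32, 4), (42, 9), (50, 4), (53, 4), (58, 9), (74, 6)],
  [(0, 9), (16, 4), (25, 4), (33, 9), (40, 4), (49, 9), (53, 9), (58, 4), (75, 6)],
  [(0, 11), (5, 11), (7, 11), (9, 11), (12, 11), (14, 11), (16, 2), (17, 2), (18, 11), (19, 11), (23, 2), (25, 11), (27, 11), (28, 11), (29, 11), (30, 2), (31, 11), (32, 11), (33, 11), (34, 11), (40, 11), (42, 2), (44, 11), (45, 11), (46, 2), (47, 11), (48, 11), (49, 11), (50, 11), (51, 11), (53, 11), (54, 11), (55, 11), (56, 11), (58, 2), (63, 5), (64, 8), (65, 5), (66, 8), (67, 11), (68, 8), (69, 8), (70, 8), (71, 8), (72, 11), (73, 3), (74, 3), (75, 3), (76, 9), (77, 11)],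
  [(0, 2), (5, 2), (7, 2), (9, 2), (12, 2), (14, 2), (16, 11), (17, 11), (18, 2), (19, 2), (23, 2), (25, 11), (27, 2), (28, 2), (29, 11), (30, 2), (31, 2), (32, 2), (33, 2), (34, 2), (40, 11), (42, 2), (44, 2), (45, 2), (46, 2), (47, 11), (48, 2), (49, 2), (50, 2), (51, 2), (53, 2), (54, 2), (55, 2), (56, 2), (58, 11), (63, 8), (64, 5), (65, 8), (66, 5), (67, 2), (68, 5), (69, 5), (70, 5), (71, 5), (72, 2), (73, 10), (74, 10), (75, 10), (76, 10), (77, 8)]]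

def gens : List SMat := [g0, g1, g2, g3, g4, g5, g6, g7, g8]

end Cfsg.Agent.PackedMatFi22Data40
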