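import Cfsg.Agent.Lib.PackedMatFi22Data40

set_option autoImplicit false

/-! Certificate: the three further relators of Fi22 hold for the nine 78 x 78 matrices. -/

namespace Cfsg.Agent.PackedMatFi22Long40

open Cfsg.Agent.PackedMatFi22Core40 Cfsg.Agent.PackedMatFi22Data40

theorem spider_ok : wordIsOne gens (List.replicate 10 [3, 2, 1, 3, 4, 5, 3, 7, 8]).flatten = true := by
  decide +kernel

theorem e7a_ok : wordIsOne gens (List.replicate 9 [0, 1, 2, 3, 4, 5, 7]).flatten = true := by
  decide +kernel

theorem e7b_ok : wordIsOne gens (List.replicate 9 [1, 2, 3, 4, 5, 6, 7]).flatten = true := by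
  decide +kernel

end Cfsg.Agent.PackedMatFi22Long40
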