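import Cfsg.Prelude.Def_Spor_Fi22
import Cfsg.Agent.Lib.PackedMatFi22Data40

set_option autoImplicit false

/-! Certificate: the Coxeter relators of Fi22 hold for the nine 78 x 78 matrices. -/

open Cfsg Cfsg.Spor

namespace Cfsg.Agent.PackedMatFi22Pairs40

open Cfsg.Agent.PackedMatFi22Core40 Cfsg.Agent.PackedMatFi22Data40

/-- the nine generators, in order -/
def allGen : List Fi22.Gen := [.a, .b, .c, .d, .e, .f, .g, .h, .i]

def num : Fi22.Gen → ℕ
  | .a => 0 | .b => 1 | .c => 2 | .d => 3 | .e => 4 | .f => 5 | .g => 6 | .h => 7 | .i => 8

/-- the relators with first letter `x` -/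
noncomputable def pairsOk (x : Fi22.Gen) : Bool :=
  allGen.all fun y => wordIsOne gens (List.replicate (coxLabel Fi22.edges x y) [num x, num y]).flatten

theorem ok_a : pairsOk .a = true := by decide +kernel

theorem ok_b : pairsOk .b = true := by decide +kernel

theorem ok_c : pairsOk .c = true := by decide +kernel

theorem ok_d : pairsOk .d = true := by decide +kernel

theorem ok_e : pairsOk .e = true := by decide +kernel

theorem ok_f : pairsOk .f = true := by decide +kernel

theorem ok_g : pairsOk .g = true := by decide +kernel

theorem ok_h : pairsOk .h = true := by decide +kernel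

theorem ok_i : pairsOk .i = true := by decide +kernel

theorem ok (x : Fi22.Gen) : pairsOk x = true := by
  cases x
  · exact ok_a
  · exact ok_b
  · exact ok_c
  · exact ok_d
  · exact ok_e
  · exact ok_f
  · exact ok_g
  · exact ok_h
  · exact ok_i

end Cfsg.Agent.PackedMatFi22Pairs40
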