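import Mathlib
import Cfsg.Agent.Lib.FrobeniusFixedPoints
import Cfsg.Agent.Lib.SignalizerCoprime

/-!
Fixed points of the complement of a Frobenius group of automorphisms.
-/

set_option autoImplicit false
set_option maxHeartbeats 800000

namespace Cfsg.Agent.Palfy7

universe u

theorem frob_card {A : Type u} [CommGroup A] [Finite A] (g β : MulAut A) {l r i : ℕ}
    (hl : l.Prime) (hr : r.Prime) (hg : g ^ l = 1) (hβ : β ^ r = 1)
    (hconj : β * g * β⁻¹ = g ^ i) (hne : β * g * β⁻¹ ≠ g) (hfpf : ∀ x, g x = x → x = 1)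
    (hlA : ¬ l ∣ Nat.card A) (hrA : ¬ r ∣ Nat.card A) :
    Nat.card A = Nat.card {x : A // β x = x} ^ r := by
  classical
  have : Finite (MulAut A) := Finite.of_injective (fun f : MulAut A => (f : A → A))
    DFunLike.coe_injective
  let X := A ⋊[MonoidHom.id (MulAut A)] MulAut A
  have : Finite X := Finite.of_equiv _ SemidirectProduct.equivProd.symm
  let inl' : A →* X := SemidirectProduct.inl
  let inr' : MulAut A →* X := SemidirectProduct.inr
  have hact : ∀ (f : MulAut A) (x : A), inr' f * inl' x * (inr' f)⁻¹ = inl' (f x) := fun f x => by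
    rw [← map_inv]; exact (SemidirectProduct.inl_aut f x).symm
  have := Fact.mk hl
  have := Fact.mk hr
  have hg1 : g ≠ 1 := by rintro rfl; simp at hne
  have hβ1 : β ≠ 1 := by rintro rfl; simp at hne
  have hog : orderOf g = l := orderOf_eq_prime hg hg1
  have hoβ : orderOf β = r := orderOf_eq_prime hβ hβ1
  set U : Subgroup X := Subgroup.zpowers (inr' g) with hU
  set E : Subgroup X := Subgroup.zpowers (inr' β) with hE
  set N : Subgroup X := inl'.range with hN
  have hcardE : Nat.card E = r := by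
    rw [hE, Nat.card_zpowers, orderOf_injective inr' SemidirectProduct.inr_injective, hoβ]
  have hcardU : Nat.card U = l := by
    rw [hU, Nat.card_zpowers, orderOf_injective inr' SemidirectProduct.inr_injective, hog]
  have hEn : inr' β ∈ Subgroup.normalizer (U : Set X) := by
    have := Fintype.ofFinite U
    refine Subgroup.mem_normalizer_fintype ?_
    rintro _ ⟨k, rfl⟩
    refine ⟨(i : ℤ) * k, ?_⟩
    simp only [← map_zpow, ← map_inv, ← map_mul]
    rw [zpow_mul, zpow_natCast, ← hconj, conj_zpow]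
  have hUn : ∀ e ∈ E, ∀ u ∈ U, e * u * e⁻¹ ∈ U := fun e he u hu =>
    (Subgroup.mem_normalizer_iff.1 ((Subgroup.zpowers_le.2 hEn) he) u).1 hu
  have hEfpf : ∀ e ∈ E, e ≠ 1 → ∀ u ∈ U, e * u = u * e → u = 1 := by
    rintro e he he1 u ⟨k, rfl⟩ hcomm
    obtain ⟨j, rfl⟩ := he
    simp only [← map_zpow, ← map_mul] at hcomm he1 ⊢
    have hcomm' : Commute (β ^ j) (g ^ k) := SemidirectProduct.inr_injective hcomm
    have hbj : β ∈ Subgroup.zpowers (β ^ j) := by
      have hne1 : (⟨β ^ j, ⟨j, rfl⟩⟩ : Subgroup.zpowers β) ≠ 1 := fun h => he1 (by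
        rw [show β ^ j = 1 from congrArg Subtype.val h, map_one])
      obtain ⟨m, hm⟩ := mem_zpowers_of_prime_card (p := r)
        (by rw [Nat.card_zpowers, hoβ]) (g' := ⟨β, Subgroup.mem_zpowers β⟩) hne1
      exact ⟨m, by simpa using congrArg Subtype.val hm⟩
    obtain ⟨m, hm⟩ := hbj
    have hbk : Commute β (g ^ k) := hm ▸ hcomm'.zpow_left m
    by_contra hk
    have hk' : g ^ k ≠ 1 := fun h => hk (by rw [h, map_one])
    have hgk : g ∈ Subgroup.zpowers (g ^ k) := by
      have hne1 : (⟨g ^ k, ⟨k, rfl⟩⟩ : Subgroup.zpowers g) ≠ 1 := fun h =>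
        hk' (congrArg Subtype.val h)
      obtain ⟨m, hm⟩ := mem_zpowers_of_prime_card (p := l)
        (by rw [Nat.card_zpowers, hog]) (g' := ⟨g, Subgroup.mem_zpowers g⟩) hne1
      exact ⟨m, by simpa using congrArg Subtype.val hm⟩
    obtain ⟨m', hm'⟩ := hgk
    have : Commute β g := hm' ▸ hbk.zpow_right m'
    exact hne (mul_inv_eq_iff_eq_mul.2 this.eq)
  have hNn : N.Normal := by
    rw [hN, SemidirectProduct.range_inl_eq_ker_rightHom]; infer_instance
  have hcardN : Nat.card N = Nat.card A :=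
    (Nat.card_congr (MonoidHom.ofInjective SemidirectProduct.inl_injective).toEquiv).symm
  have hsolv : Group.IsSolvable N :=
    Group.isSolvable_of_surjective (f := inl'.rangeRestrict) inl'.rangeRestrict_surjective
  have hcop : (Nat.card N).Coprime (Nat.card ↥(U ⊔ E)) := by
    rw [hcardN]
    refine Nat.Coprime.coprime_dvd_right (SignalizerCoprime.card_sup_dvd_mul
      (Subgroup.zpowers_le.2 hEn)) ?_
    rw [hcardU, hcardE]
    exact ((hl.coprime_iff_not_dvd.2 hlA).symm).mul_right (hr.coprime_iff_not_dvd.2 hrA).symm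
  have hF := FrobeniusFixedPoints.main U E N (by
    intro h; rw [← Subgroup.card_eq_one, hcardE] at h; exact hr.ne_one h) hUn hEfpf
    (fun x _ h hh => hNn.conj_mem h hh x) hsolv hcop
  have hfix : ∀ (f : MulAut A) (x : A),
      inl' x ∈ Subgroup.centralizer (Subgroup.zpowers (inr' f) : Set X) ↔ f x = x := by
    intro f x
    rw [Subgroup.zpowers_eq_closure, Subgroup.centralizer_closure,
      Subgroup.mem_centralizer_singleton_iff]
    refine ⟨fun h => SemidirectProduct.inl_injective (φ := MonoidHom.id (MulAut A)) ?_, fun h => ?_⟩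
    · show inl' (f x) = inl' x
      rw [← hact, ← h, mul_inv_cancel_right]
    · have := hact f x
      rw [h, mul_inv_eq_iff_eq_mul] at this
      exact this.symm
  have hU1 : N ⊓ Subgroup.centralizer (U : Set X) = ⊥ := by
    refine (Subgroup.eq_bot_iff_forall _).2 ?_
    rintro _ ⟨⟨x, rfl⟩, hx⟩
    rw [hfpf x ((hfix g x).1 hx), map_one]
  have hUE1 : N ⊓ Subgroup.centralizer ((U ⊔ E : Subgroup X) : Set X) = ⊥ :=
    le_bot_iff.1 (hU1 ▸ inf_le_inf_left _ (Subgroup.centralizer_le (SetLike.coe_subset_coe.2 le_sup_left)))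
  have hEcard : Nat.card ↥(N ⊓ Subgroup.centralizer (E : Set X)) =
      Nat.card {x : A // β x = x} :=
    (Nat.card_congr (Equiv.ofBijective
      (fun x : {x : A // β x = x} =>
        (⟨inl' x, ⟨⟨x, rfl⟩, (hfix β x).2 x.2⟩⟩ : ↥(N ⊓ Subgroup.centralizer (E : Set X))))
      ⟨fun x y e => Subtype.ext (SemidirectProduct.inl_injective (congrArg Subtype.val e)),
        fun ⟨_, ⟨x, rfl⟩, hx⟩ => ⟨⟨x, (hfix β x).1 hx⟩, rfl⟩⟩)).symm
  rw [FrobeniusFixedPoints.Formula, hU1, hUE1, hcardN, hEcard, hcardE, Subgroup.card_bot] at hF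
  simpa using hF

theorem geom_strict {x y : ℤ} (hy : 2 ≤ y) (hxy : y < x) {n : ℕ} (hn : 2 ≤ n) :
    (y ^ n - 1) * (x - 1) < (x ^ n - 1) * (y - 1) := by
  induction n, hn using Nat.le_induction with
  | base =>
    have h1 : (0 : ℤ) < x - 1 := by linarith
    have h2 : (0 : ℤ) < y - 1 := by linarith
    have h3 : (0 : ℤ) < x - y := by linarith
    nlinarith [mul_pos (mul_pos h1 h2) h3]
  | succ n hn ih =>
    have hy1 : (1 : ℤ) ≤ y ^ n := one_le_pow₀ (by linarith)
    have hyn : 0 ≤ (y ^ n - 1) * (x - 1) := by nlinarith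
    rw [pow_succ, pow_succ]
    nlinarith [mul_le_mul_of_nonneg_left hxy.le (le_of_lt (lt_of_le_of_lt hyn ih))]

/-- No family of `n` pieces of size `y` exhausts a set of size `y ^ r` while pieces of the same
number of a larger size `x` cover a set of size `x ^ r`. -/
theorem no_cover_count {x y n r : ℕ} (hy : 2 ≤ y) (hxy : y < x) (hr : 2 ≤ r)
    (h1 : n * (y - 1) = y ^ r - 1) (h2 : x ^ r - 1 ≤ n * (x - 1)) : False := by
  have hx1 : 1 ≤ x := by omega
  have hyr : 1 ≤ y ^ r := Nat.one_le_pow _ _ (by omega)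
  have hxr : 1 ≤ x ^ r := Nat.one_le_pow _ _ (by omega)
  have h1' := congrArg (fun m : ℕ => (m : ℤ)) h1
  have h2' : ((x ^ r - 1 : ℕ) : ℤ) ≤ ((n * (x - 1) : ℕ) : ℤ) := by exact_mod_cast h2
  push_cast [Nat.cast_sub hyr, Nat.cast_sub hxr, Nat.cast_sub hx1,
    Nat.cast_sub (show 1 ≤ y by omega)] at h1' h2'
  have := geom_strict (x := (x : ℤ)) (y := (y : ℤ)) (by exact_mod_cast hy) (by exact_mod_cast hxy) hr
  nlinarith [mul_le_mul_of_nonneg_right h2' (show (0 : ℤ) ≤ (y : ℤ) - 1 by linarith)]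

end Cfsg.Agent.Palfy7
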