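import Mathlib
import Cfsg.Agent.Lib.FrobeniusFPF

/-!
Coprime action in which every non-trivial vector is fixed by exactly one conjugate of an element
of prime order: abelian normal subgroups act fixed-point-freely.
-/

set_option autoImplicit false
set_option maxHeartbeats 800000
set_option linter.unusedSectionVars false

namespace Cfsg.Agent.Palfy7

variable {H V : Type*} [Group H] [CommGroup V] [MulDistribMulAction H V]

/-- The standing hypotheses on the element `a` and the normal subgroup `K`. -/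
structure Setup (H V : Type*) [Group H] [CommGroup V] [MulDistribMulAction H V]
    (K : Subgroup H) (a : H) (q : ℕ) : Prop where
  prime : q.Prime
  order : orderOf a = q
  normal : K.Normal
  gen : ∀ h : H, ∃ k ∈ K, h * a * h⁻¹ = k * a * k⁻¹
  cop : q.Coprime (Nat.card K)
  moves : ∃ k ∈ K, k * a ≠ a * k
  faithful : ∀ h : H, (∀ v : V, h • v = v) → h = 1
  irr : ∀ W : Subgroup V, (∀ (h : H), ∀ w ∈ W, h • w ∈ W) → W = ⊥ ∨ W = ⊤
  fix : ∀ v : V, v ≠ 1 → ∃ k ∈ K, (k * a * k⁻¹) • v = v ∧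
    ∀ c ∈ K, c • v = v → Commute c (k * a * k⁻¹)

/-- The vectors fixed by all elements of a subgroup. -/
def fixV (V : Type*) [CommGroup V] [MulDistribMulAction H V] (S : Subgroup H) : Subgroup V where
  carrier := {v | ∀ s ∈ S, s • v = v}
  one_mem' := fun s _ => smul_one s
  mul_mem' := fun hu hw s hs => by rw [smul_mul', hu s hs, hw s hs]
  inv_mem' := fun hu s hs => by rw [smul_inv', hu s hs]

theorem smul_ne_one' (h : H) {v : V} (hv : v ≠ 1) : h • v ≠ 1 := fun e =>
  hv (smul_left_cancel h (e.trans (smul_one h).symm))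

theorem mem_fixV {S : Subgroup H} {v : V} : v ∈ fixV V S ↔ ∀ s ∈ S, s • v = v := Iff.rfl

/-- An element whose order is prime to `|K|` and which moves `x` by a fixed element of `K`
fixes `x`. -/
theorem commute_of_defect {K : Subgroup H} {a x : H} {q : ℕ} (hq : a ^ q = 1)
    (hcop : q.Coprime (Nat.card K)) (hd : a * x * a⁻¹ * x⁻¹ ∈ K)
    (hfix : Commute a (a * x * a⁻¹ * x⁻¹)) : Commute a x := by
  set d := a * x * a⁻¹ * x⁻¹ with hd'
  have h1 : ∀ n : ℕ, a ^ n * x * (a ^ n)⁻¹ = d ^ n * x := by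
    intro n
    induction n with
    | zero => simp
    | succ n ih =>
      have h2 : a * d ^ n * a⁻¹ = d ^ n := by
        rw [mul_inv_eq_iff_eq_mul]; exact hfix.pow_right n
      calc a ^ (n + 1) * x * (a ^ (n + 1))⁻¹ = a * (a ^ n * x * (a ^ n)⁻¹) * a⁻¹ := by
            rw [pow_succ']; group
        _ = a * d ^ n * a⁻¹ * (d * x) := by rw [ih, hd']; group
        _ = d ^ (n + 1) * x := by rw [h2, pow_succ]; group
  have h2 : d ^ q = 1 := by simpa [hq] using (h1 q).symm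
  have hK : d ^ Nat.card K = 1 := by
    have h := pow_card_eq_one' (G := K) (x := ⟨d, hd⟩)
    exact congrArg Subtype.val h
  have hd1 : d = 1 := by
    have h3 := (pow_gcd_eq_one (a := d)).2 ⟨h2, hK⟩
    rwa [hcop.gcd_eq_one, pow_one] at h3
  rw [hd', mul_inv_eq_one, mul_inv_eq_iff_eq_mul] at hd1
  exact hd1

namespace Setup

variable {K : Subgroup H} {a : H} {q : ℕ} (S : Setup H V K a q)
include S

theorem pow_q (k : H) : (k * a * k⁻¹) ^ q = 1 := by
  rw [conj_pow, ← S.order, pow_orderOf_eq_one]; simp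

theorem ne_one : a ≠ 1 := fun h => S.prime.ne_one (by rw [← S.order, h, orderOf_one])

theorem diff_mem {k : H} (hk : k ∈ K) : k * a * k⁻¹ * a⁻¹ ∈ K := by
  have h := K.mul_mem hk (S.normal.conj_mem k⁻¹ (K.inv_mem hk) a)
  convert h using 1; group

theorem diff_mem' {k l : H} (hk : k ∈ K) (hl : l ∈ K) :
    (k * a * k⁻¹)⁻¹ * (l * a * l⁻¹) ∈ K := by
  have h := S.normal.conj_mem _ (K.mul_mem (K.inv_mem (S.diff_mem hk)) (S.diff_mem hl)) a⁻¹
  convert h using 1; group

theorem uniq {v : V} (hv : v ≠ 1) {k l : H} (hk : k ∈ K) (hl : l ∈ K)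
    (hk' : (k * a * k⁻¹) • v = v) (hl' : (l * a * l⁻¹) • v = v) :
    k * a * k⁻¹ = l * a * l⁻¹ := by
  obtain ⟨m, hm, hmv, hmc⟩ := S.fix v hv
  suffices ∀ l ∈ K, (l * a * l⁻¹) • v = v → l * a * l⁻¹ = m * a * m⁻¹ by
    rw [this k hk hk', this l hl hl']
  intro l hl hlv
  have hcK := S.diff_mem' hm hl
  set A := m * a * m⁻¹ with hA
  set c := A⁻¹ * (l * a * l⁻¹) with hc
  have hcv : c • v = v := by rw [hc, mul_smul, hlv, inv_smul_eq_iff, hmv]
  have hcomm : Commute A c := (hmc c hcK hcv).symm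
  have hl1 : l * a * l⁻¹ = A * c := by rw [hc, mul_inv_cancel_left]
  have h2 : c ^ q = 1 := by
    have h3 := S.pow_q l
    rwa [hl1, hcomm.mul_pow, S.pow_q m, one_mul] at h3
  have hK : c ^ Nat.card K = 1 := congrArg Subtype.val (pow_card_eq_one' (G := K) (x := ⟨c, hcK⟩))
  have h3 := (pow_gcd_eq_one (a := c)).2 ⟨h2, hK⟩
  rw [S.cop.gcd_eq_one, pow_one] at h3
  rw [hl1, h3, mul_one]

theorem conj_eq (k h : H) :
    ∃ l ∈ K, h * (k * a * k⁻¹) * h⁻¹ = l * a * l⁻¹ := by
  obtain ⟨l, hl, e⟩ := S.gen (h * k)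
  exact ⟨l, hl, by rw [← e]; group⟩

theorem centralises_of_conj {N : Subgroup H} (hN : N.Normal) {k : H}
    (h : ∀ n ∈ N, Commute (k * a * k⁻¹) n) : ∀ n ∈ N, Commute a n := by
  intro n hn
  have h1 := h _ (hN.conj_mem n hn k)
  have h2 := (Commute.conj_iff k).1 h1
  exact h2

theorem conj_centralises {N : Subgroup H} (hN : N.Normal)
    (h : ∀ n ∈ N, Commute a n) (k : H) : ∀ n ∈ N, Commute (k * a * k⁻¹) n := by
  intro n hn
  have h1 := h _ (hN.conj_mem n hn k⁻¹)
  have h2 := (Commute.conj_iff k).2 h1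
  rwa [show k * (k⁻¹ * n * k⁻¹⁻¹) * k⁻¹ = n by group] at h2

variable [Finite H]

/-- Abelian normal subgroups inside `K` act fixed-point-freely. -/
theorem fpf (hsign : q ≠ 2 ∨ ∀ v : V, v * v = 1 → v = 1) {N : Subgroup H} (hN : N.Normal)
    (hNc : ∀ x ∈ N, ∀ y ∈ N, x * y = y * x) :
    ∀ n ∈ N, n ≠ 1 → ∀ v : V, n • v = v → v = 1 := by
  classical
  let T : V → Subgroup H := fun v => N ⊓ MulAction.stabilizer H v
  let I : Set (Subgroup H) := {M | ∃ v : V, v ≠ 1 ∧ T v = M}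
  have hTn : ∀ (v : V) n, n ∈ T v ↔ n ∈ N ∧ n • v = v := fun v n => Iff.rfl
  have hTsmul : ∀ (h : H) (v : V) n, n ∈ T (h • v) ↔ h⁻¹ * n * h ∈ T v := by
    intro h v n
    rw [hTn, hTn, mul_smul, mul_smul, inv_smul_eq_iff]
    refine and_congr_left fun _ => ⟨fun hn => ?_, fun hn => ?_⟩
    · simpa using hN.conj_mem n hn h⁻¹
    · have := hN.conj_mem _ hn h
      rwa [show h * (h⁻¹ * n * h) * h⁻¹ = n by group] at this
  have hmax : ∀ v : V, v ≠ 1 → ∃ M, Maximal (· ∈ I) M ∧ T v ≤ M := fun v hv => by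
    obtain ⟨M, h1, h2⟩ := Finite.exists_le_maximal (p := (· ∈ I)) (show T v ∈ I from ⟨v, hv, rfl⟩)
    exact ⟨M, h2, h1⟩
  have hW : ∀ {M : Subgroup H}, Maximal (· ∈ I) M → ∀ u : V, u ≠ 1 → u ∈ fixV V M →
      T u = M := by
    intro M hM u hu hfix
    have h1 : M ≤ T u := by
      obtain ⟨v, -, hv⟩ := hM.1
      intro n hn
      exact ⟨((hTn v n).1 (hv ▸ hn)).1, hfix n hn⟩
    exact le_antisymm (hM.2 ⟨u, hu, rfl⟩ h1) h1
  have hWT : ∀ v : V, v ∈ fixV V (T v) := fun v n hn => ((hTn v n).1 hn).2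
  have hind : ∀ (s : Finset (Subgroup H)), (∀ M ∈ s, Maximal (· ∈ I) M) →
      ∀ f : Subgroup H → V, (∀ M ∈ s, f M ∈ fixV V M) → ∏ M ∈ s, f M = 1 →
      ∀ M ∈ s, f M = 1 := by
    intro s
    induction s using Finset.induction_on with
    | empty => intro _ _ _ _ M hM; simp at hM
    | @insert M₁ s hnot ih =>
      intro hs f hf hprod
      have hs' : ∀ M ∈ s, Maximal (· ∈ I) M := fun M hM => hs M (Finset.mem_insert_of_mem hM)
      have hM₁ := hs M₁ (Finset.mem_insert_self _ _)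
      rw [Finset.prod_insert hnot] at hprod
      have hother : ∀ M ∈ s, f M = 1 := by
        intro M hM
        by_contra hne
        have hall : ∀ n ∈ M₁, n • f M = f M := by
          intro n hn
          have hnN : n ∈ N := by
            obtain ⟨v, -, hv⟩ := hM₁.1
            exact ((hTn v n).1 (hv ▸ hn)).1
          have h1 : ∏ M' ∈ s, (n • f M' / f M') = 1 := by
            rw [Finset.prod_div_distrib, div_eq_one, ← Finset.smul_prod']
            have h2 := congrArg (n • ·) hprod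
            simp only [smul_mul', smul_one, hf M₁ (Finset.mem_insert_self _ _) n hn] at h2
            exact mul_left_cancel (h2.trans hprod.symm)
          refine div_eq_one.1 (ih hs' (fun M' => n • f M' / f M') (fun M' hM' => ?_) h1 M hM)
          refine Subgroup.div_mem _ (fun m hm => ?_) (hf M' (Finset.mem_insert_of_mem hM'))
          obtain ⟨v, -, hv⟩ := (hs' M' hM').1
          rw [← mul_smul, hNc m ((hTn v m).1 (hv ▸ hm)).1 n hnN, mul_smul,
            hf M' (Finset.mem_insert_of_mem hM') m hm]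
        have h1 : T (f M) = M := hW (hs' M hM) _ hne (hf M (Finset.mem_insert_of_mem hM))
        have h2 : M₁ ≤ M := h1 ▸ fun n hn => ⟨by
          obtain ⟨v, -, hv⟩ := hM₁.1
          exact ((hTn v n).1 (hv ▸ hn)).1, hall n hn⟩
        have h3 : M = M₁ := le_antisymm (hM₁.2 (hs' M hM).1 h2) h2
        exact hnot (h3 ▸ hM)
      intro M hM
      rcases Finset.mem_insert.1 hM with rfl | hM
      · rwa [Finset.prod_eq_one hother, mul_one] at hprod
      · exact hother M hM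
  have hmaxsmul : ∀ (h : H) (v : V), v ≠ 1 → Maximal (· ∈ I) (T v) →
      Maximal (· ∈ I) (T (h • v)) := by
    intro h v hv hm
    refine ⟨⟨h • v, (smul_ne_one' h hv), rfl⟩, ?_⟩
    rintro _ ⟨u, hu, rfl⟩ hle n hn
    have hu' : h⁻¹ • u ≠ 1 := smul_ne_one' _ hu
    have hle' : T v ≤ T (h⁻¹ • u) := fun m hm' => by
      rw [hTsmul, inv_inv]
      refine hle ((hTsmul _ _ _).2 ?_)
      rwa [show h⁻¹ * (h * m * h⁻¹) * h = m by group]
    refine (hTsmul _ _ _).2 (hm.2 ⟨_, hu', rfl⟩ hle' ?_)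
    rw [hTsmul, inv_inv, show h * (h⁻¹ * n * h) * h⁻¹ = n by group]
    exact hn
  -- two vectors from different components
  have hpair : ∀ v₁ v₂ : V, v₁ ≠ 1 → v₂ ≠ 1 → Maximal (· ∈ I) (T v₁) → Maximal (· ∈ I) (T v₂) →
      T v₁ ≠ T v₂ → ∀ g : H, g • (v₁ * v₂) = v₁ * v₂ →
      (g • v₁ = v₁ ∧ g • v₂ = v₂) ∨ (g • v₁ = v₂ ∧ g • v₂ = v₁) := by
    intro v₁ v₂ hv₁ hv₂ hm₁ hm₂ hne g hg
    have hx₁ : g • v₁ ≠ 1 := smul_ne_one' g hv₁
    have hx₂ : g • v₂ ≠ 1 := smul_ne_one' g hv₂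
    have hne' : T (g • v₁) ≠ T (g • v₂) := by
      intro e
      refine hne (Subgroup.ext fun n => ?_)
      have h1 := SetLike.ext_iff.1 e (g * n * g⁻¹)
      rw [hTsmul, hTsmul, show g⁻¹ * (g * n * g⁻¹) * g = n by group] at h1
      exact h1
    let φ : Subgroup H → V → Subgroup H → V := fun A x M => if M = A then x else 1
    have hφ : ∀ (x : V) M, φ (T x) x M ∈ fixV V M := fun x M => by
      dsimp only [φ]
      split_ifs with h
      · exact h ▸ hWT x
      · exact one_mem _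
    let s : Finset (Subgroup H) := {T (g • v₁), T (g • v₂), T v₁, T v₂}
    let f : Subgroup H → V := fun M => φ (T (g • v₁)) (g • v₁) M * φ (T (g • v₂)) (g • v₂) M *
      (φ (T v₁) v₁ M * φ (T v₂) v₂ M)⁻¹
    have hs : ∀ M ∈ s, Maximal (· ∈ I) M := by
      intro M hM
      simp only [s, Finset.mem_insert, Finset.mem_singleton] at hM
      rcases hM with rfl | rfl | rfl | rfl
      exacts [hmaxsmul g v₁ hv₁ hm₁, hmaxsmul g v₂ hv₂ hm₂, hm₁, hm₂]
    have hprod : ∏ M ∈ s, f M = 1 := by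
      simp only [f, φ, Finset.prod_mul_distrib, Finset.prod_inv_distrib, Finset.prod_ite_eq', s,
        Finset.mem_insert, Finset.mem_singleton, true_or, or_true, if_true]
      rw [← smul_mul', hg, mul_inv_cancel]
    have hz := hind s hs f (fun M _ =>
      mul_mem (mul_mem (hφ _ M) (hφ _ M)) (inv_mem (mul_mem (hφ _ M) (hφ _ M)))) hprod
    have h1 := hz (T (g • v₁)) (by simp [s])
    have h2 := hz (T (g • v₂)) (by simp [s])
    simp only [f, φ, if_pos, if_neg hne', if_neg (Ne.symm hne'), one_mul, mul_one,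
      mul_inv_eq_one] at h1 h2
    by_cases e : T (g • v₁) = T v₁
    · rw [if_pos e, if_neg (fun e' => hne (e.symm.trans e')), mul_one] at h1
      rw [if_neg (fun e' => hne' (e.trans e'.symm)), one_mul] at h2
      split_ifs at h2 with e2
      · exact Or.inl ⟨h1, h2⟩
      · exact absurd h2 hx₂
    · rw [if_neg e, one_mul] at h1
      split_ifs at h1 with e1
      · rw [if_neg (c := T (g • v₂) = T v₂) (fun e' => hne' (e1.trans e'.symm)), mul_one] at h2
        split_ifs at h2 with e2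
        · exact Or.inr ⟨h1, h2⟩
        · exact absurd h2 hx₂
      · exact absurd h1 hx₁
  have hsame : ∀ v₁ v₂ : V, v₁ ≠ 1 → v₂ ≠ 1 → Maximal (· ∈ I) (T v₁) → Maximal (· ∈ I) (T v₂) →
      T v₁ ≠ T v₂ → ∀ k ∈ K, (k * a * k⁻¹) • v₁ = v₁ → (k * a * k⁻¹) • v₂ = v₂ := by
    intro v₁ v₂ hv₁ hv₂ hm₁ hm₂ hne k hk hkv
    have hTinv : T v₂⁻¹ = T v₂ := by
      ext n
      rw [hTn, hTn, smul_inv', inv_inj]
    have hstep : ∀ w : V, w ≠ 1 → Maximal (· ∈ I) (T w) → T v₁ ≠ T w → ∀ g : H,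
        (∃ l ∈ K, g = l * a * l⁻¹) → g • (v₁ * w) = v₁ * w →
        ¬ (g • v₁ = w ∧ g • w = v₁) → (k * a * k⁻¹) • w = w := by
      intro w hw hmw hnew g hgl hgw hno
      obtain ⟨l, hl, rfl⟩ := hgl
      obtain ⟨h1, h2⟩ := (hpair v₁ w hv₁ hw hm₁ hmw hnew _ hgw).resolve_right hno
      rwa [S.uniq hv₁ hk hl hkv h1]
    have hprod1 : ∀ w : V, T v₁ ≠ T w → v₁ * w ≠ 1 := by
      intro w hnew e
      refine hnew ?_
      rw [eq_inv_of_mul_eq_one_left e]
      ext n
      rw [hTn, hTn, smul_inv', inv_inj]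
    obtain ⟨l, hl, hlv, -⟩ := S.fix _ (hprod1 v₂ hne)
    rcases hsign with hq2 | hV
    · refine hstep v₂ hv₂ hm₂ hne _ ⟨l, hl, rfl⟩ hlv fun ⟨e1, e2⟩ => hne ?_
      obtain ⟨j, hj⟩ := S.prime.odd_of_ne_two hq2
      have hsq : ((l * a * l⁻¹) ^ 2) • v₁ = v₁ := by rw [sq, mul_smul, e1, e2]
      have hj' : ∀ i : ℕ, (((l * a * l⁻¹) ^ 2) ^ i) • v₁ = v₁ := fun i => by
        induction i with
        | zero => simp
        | succ i ih => rw [pow_succ, mul_smul, hsq, ih]
      have h3 := S.pow_q l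
      rw [hj, pow_succ', pow_mul] at h3
      have h4 := congrArg (· • v₁) h3
      simp only [mul_smul, hj', one_smul, e1] at h4
      rw [h4]
    · by_cases hq2 : q = 2
      swap
      · refine hstep v₂ hv₂ hm₂ hne _ ⟨l, hl, rfl⟩ hlv fun ⟨e1, e2⟩ => hne ?_
        obtain ⟨j, hj⟩ := S.prime.odd_of_ne_two hq2
        have hsq : ((l * a * l⁻¹) ^ 2) • v₁ = v₁ := by rw [sq, mul_smul, e1, e2]
        have hj' : ∀ i : ℕ, (((l * a * l⁻¹) ^ 2) ^ i) • v₁ = v₁ := fun i => by
          induction i with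
          | zero => simp
          | succ i ih => rw [pow_succ, mul_smul, hsq, ih]
        have h3 := S.pow_q l
        rw [hj, pow_succ', pow_mul] at h3
        have h4 := congrArg (· • v₁) h3
        simp only [mul_smul, hj', one_smul, e1] at h4
        rw [h4]
      by_contra hno
      obtain ⟨e1, e2⟩ : (l * a * l⁻¹) • v₁ = v₂ ∧ (l * a * l⁻¹) • v₂ = v₁ := by
        by_contra h
        exact hno (hstep v₂ hv₂ hm₂ hne _ ⟨l, hl, rfl⟩ hlv h)
      have hne2 : T v₁ ≠ T v₂⁻¹ := by rwa [hTinv]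
      obtain ⟨m, hm, hmv, -⟩ := S.fix _ (hprod1 v₂⁻¹ hne2)
      obtain ⟨f1, f2⟩ : (m * a * m⁻¹) • v₁ = v₂⁻¹ ∧ (m * a * m⁻¹) • v₂⁻¹ = v₁ := by
        by_contra h
        have := hstep v₂⁻¹ (inv_ne_one.2 hv₂) (hTinv.symm ▸ hm₂) hne2 _ ⟨m, hm, rfl⟩ hmv h
        rw [smul_inv', inv_inj] at this
        exact hno this
      set g := (m * a * m⁻¹) * (l * a * l⁻¹) with hg
      have hgK : g ∈ K := by
        have h := S.diff_mem' hm hl
        rwa [inv_eq_of_mul_eq_one_right (by rw [← sq, ← hq2]; exact S.pow_q m)] at h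
      have hgv : g • v₁ = v₁⁻¹ := by
        rw [hg, mul_smul, e1]
        rw [smul_inv', inv_eq_iff_eq_inv] at f2
        exact f2
      have hgn : ∀ n : ℕ, (g ^ n) • v₁ = if Even n then v₁ else v₁⁻¹ := fun n => by
        induction n with
        | zero => simp
        | succ n ih =>
          rw [pow_succ', mul_smul, ih]
          by_cases h : Even n
          · rw [if_pos h, if_neg (by rw [Nat.even_add_one]; exact not_not.2 h), hgv]
          · rw [if_neg h, if_pos (Nat.even_add_one.2 h), smul_inv', hgv, inv_inv]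
      have hodd : Odd (Nat.card K) := by
        have := S.cop
        rw [hq2] at this
        exact (Nat.coprime_two_left).1 this
      have h5 := hgn (Nat.card K)
      rw [show g ^ Nat.card K = 1 from
          congrArg Subtype.val (pow_card_eq_one' (G := K) (x := ⟨g, hgK⟩)), one_smul,
        if_neg (Nat.not_even_iff_odd.2 hodd)] at h5
      exact hv₁ (hV v₁ (mul_eq_one_iff_eq_inv.2 h5))
  intro n hn hn1 v hv
  by_contra hv1
  obtain ⟨M, hM, hle⟩ := hmax v hv1
  have hnM : n ∈ M := hle ((hTn v n).2 ⟨hn, hv⟩)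
  obtain ⟨v₁, hv₁, rfl⟩ := hM.1
  by_cases hone : ∀ u : V, u ≠ 1 → Maximal (· ∈ I) (T u) → T u = T v₁
  · -- a single component
    have hinv : ∀ h : H, ∀ w ∈ fixV V (T v₁), h • w ∈ fixV V (T v₁) := by
      intro h w hw m hm
      have e := hone _ ((smul_ne_one' h hv₁)) (hmaxsmul h v₁ hv₁ hM)
      rw [← e, hTsmul] at hm
      have h2 := hw _ hm
      rw [show m • h • w = h • ((h⁻¹ * m * h) • w) by rw [← mul_smul, ← mul_smul]; group, h2]
    rcases S.irr _ hinv with h | h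
    · exact hv₁ ((Subgroup.eq_bot_iff_forall _).1 h v₁ (hWT v₁))
    · exact hn1 (S.faithful n fun w => (h.symm ▸ Subgroup.mem_top w : w ∈ fixV V (T v₁)) n hnM)
  · push Not at hone
    obtain ⟨v₂, hv₂, hm₂, hne⟩ := hone
    obtain ⟨k, hk, hkv, -⟩ := S.fix v₁ hv₁
    have hall : ∀ u : V, u ≠ 1 → Maximal (· ∈ I) (T u) → (k * a * k⁻¹) • u = u := by
      intro u hu hmu
      by_cases e : T u = T v₁
      · exact hsame v₂ u hv₂ hu hm₂ hmu (e ▸ hne) k hk
          (hsame v₁ v₂ hv₁ hv₂ hM hm₂ hne.symm k hk hkv)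
      · exact hsame v₁ u hv₁ hu hM hmu (Ne.symm e) k hk hkv
    let F : Subgroup V :=
      { carrier := {w | ∀ h : H, (k * a * k⁻¹) • (h • w) = h • w}
        one_mem' := fun h => by simp
        mul_mem' := fun hx hy h => by rw [smul_mul', smul_mul', hx h, hy h]
        inv_mem' := fun hx h => by rw [smul_inv', smul_inv', hx h] }
    have hF : ∀ h : H, ∀ w ∈ F, h • w ∈ F := fun h w hw g => by
      rw [← mul_smul g h]; exact hw (g * h)
    have hv₁F : v₁ ∈ F := fun h =>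
      hall _ ((smul_ne_one' h hv₁)) (hmaxsmul h v₁ hv₁ hM)
    rcases S.irr F hF with h | h
    · exact hv₁ ((Subgroup.eq_bot_iff_forall _).1 h v₁ hv₁F)
    · have h1 := S.faithful (k * a * k⁻¹) fun w => by
        simpa using (h.symm ▸ Subgroup.mem_top w : w ∈ F) 1
      exact S.ne_one (by simpa [mul_inv_eq_one] using h1)

/-- Abelian normal subgroups inside `K` are cyclic. -/
theorem isCyclic (hsign : q ≠ 2 ∨ ∀ v : V, v * v = 1 → v = 1) [Finite V] [Nontrivial V]
    {N : Subgroup H} (hN : N.Normal)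
    (hNc : ∀ x ∈ N, ∀ y ∈ N, x * y = y * x) : IsCyclic N :=
  FrobeniusFPF.isCyclic_of_comm (W := V)
    (fun m hm w hw => S.fpf hsign hN hNc m m.2 (fun e => hm (Subtype.ext e)) w hw)
    fun x y => Subtype.ext (hNc x x.2 y y.2)

end Setup

end Cfsg.Agent.Palfy7
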