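import Mathlib

/-!
An irreducible symplectic module over the field of two elements on which an element of order three
moves only a plane, while it acts coprimely on a normal subgroup.
-/

set_option autoImplicit false
set_option maxHeartbeats 800000
set_option linter.unusedSectionVars false

open scoped commutatorElement

namespace Cfsg.Agent.Palfy7

variable {H U : Type*} [Group H] [CommGroup U] [MulDistribMulAction H U]

/-- The symplectic hypotheses. -/
structure Symp (H U : Type*) [Group H] [CommGroup U] [MulDistribMulAction H U]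
    (f : U → U → ℤˣ) (K : Subgroup H) (a : H) (P : Subgroup U) : Prop where
  exp2 : ∀ x : U, x * x = 1
  fmul : ∀ x y z, f (x * y) z = f x z * f y z
  fsymm : ∀ x y, f x y = f y x
  fself : ∀ x, f x x = 1
  finv : ∀ (h : H) x y, f (h • x) (h • y) = f x y
  fnd : ∀ x, (∀ y, f x y = 1) → x = 1
  irr : ∀ W : Subgroup U, (∀ (h : H), ∀ w ∈ W, h • w ∈ W) → W = ⊥ ∨ W = ⊤
  normal : K.Normal
  cube : a ^ 3 = 1
  cop : Nat.Coprime 3 (Nat.card K)
  gen : ∀ h : H, ∃ k ∈ K, h * a * h⁻¹ = k * a * k⁻¹
  pcard : Nat.card P ≤ 4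
  pmem : ∀ w : U, a • w / w ∈ P
  pfpf : ∀ p ∈ P, a • p = p → p = 1
  moves : ∃ w : U, a • w ≠ w

/-- The elements all of whose defects lie in `W`. -/
def defectSub (H : Type*) [Group H] [MulDistribMulAction H U] (W : Subgroup U) : Subgroup H where
  carrier := {h | ∀ w : U, h • w / w ∈ W}
  one_mem' := fun w => by simp
  mul_mem' := fun {h h'} hh hh' w => by
    have := W.mul_mem (hh (h' • w)) (hh' w)
    rwa [div_mul_div_cancel, ← mul_smul] at this
  inv_mem' := fun {h} hh w => by
    have := W.inv_mem (hh (h⁻¹ • w))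
    rwa [smul_inv_smul, inv_div] at this

/-- The defect homomorphism. -/
def defectHom (U : Type*) [CommGroup U] [MulDistribMulAction H U] (h : H) : U →* U where
  toFun w := h • w / w
  map_one' := by simp
  map_mul' x y := by rw [smul_mul', mul_div_mul_comm]

theorem mem_defect_range {h : H} {x : U} :
    x ∈ (defectHom U h).range ↔ ∃ w, h • w / w = x := Iff.rfl

/-- A group of odd prime order at least five fixes every point of a set of at most four points as
soon as it fixes one of them. -/
theorem fix_small {P : Subgroup U} (hP : Nat.card P ≤ 4) [Finite U] {g : H} {l : ℕ} (hl : l.Prime)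
    (hl5 : 5 ≤ l) (hg : g ^ l = 1) (hinv : ∀ p ∈ P, g • p ∈ P) : ∀ p ∈ P, g • p = p := by
  classical
  intro p hp
  by_contra hne
  have hper : Function.IsPeriodicPt (fun x : U => g • x) l p := by
    show (fun x : U => g • x)^[l] p = p
    rw [smul_iterate]; show g ^ l • p = p
    rw [hg, one_smul]
  have hmin : Function.minimalPeriod (fun x : U => g • x) p = l := by
    rcases (Nat.dvd_prime hl).1 hper.minimalPeriod_dvd with h | h
    · exact absurd (Function.minimalPeriod_eq_one_iff_isFixedPt.1 h) hne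
    · exact h
  let F : Option (Fin l) → P := fun o => o.elim ⟨1, P.one_mem⟩ fun i =>
    ⟨(fun x : U => g • x)^[(i : ℕ)] p, by
      induction (i : ℕ) with
      | zero => exact hp
      | succ n ih => rw [Function.iterate_succ_apply']; exact hinv _ ih⟩
  have hp1 : ∀ n : ℕ, (fun x : U => g • x)^[n] p ≠ 1 := fun n => by
    induction n with
    | zero => exact fun e => hne (by simp only [Function.iterate_zero, id] at e; rw [e, smul_one])
    | succ n ih =>
      rw [Function.iterate_succ_apply']
      exact fun e => ih (smul_left_cancel g (e.trans (smul_one g).symm))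
  have hF : Function.Injective F := by
    intro o o' e
    rcases o with _ | i <;> rcases o' with _ | j
    · rfl
    · exact absurd (congrArg Subtype.val e).symm (hp1 j)
    · exact absurd (congrArg Subtype.val e) (hp1 i)
    · have h1 := Function.iterate_injOn_Iio_minimalPeriod (f := fun x : U => g • x) (x := p)
        (by rw [Set.mem_Iio, hmin]; exact i.2) (by rw [Set.mem_Iio, hmin]; exact j.2)
        (congrArg Subtype.val e)
      rw [Fin.ext h1]
  have h := Nat.card_le_card_of_injective F hF
  rw [Nat.card_eq_fintype_card, Fintype.card_option, Fintype.card_fin] at h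
  omega

namespace Symp

variable {f : U → U → ℤˣ} {K : Subgroup H} {a : H} {P : Subgroup U} (S : Symp H U f K a P)
include S

theorem fmul_right (x y z : U) : f x (y * z) = f x y * f x z := by
  rw [S.fsymm, S.fmul, S.fsymm y, S.fsymm z]

theorem fone (x : U) : f 1 x = 1 := by
  have h := S.fmul 1 1 x
  rw [mul_one] at h
  exact left_eq_mul.1 h

theorem fone_right (x : U) : f x 1 = 1 := by rw [S.fsymm, S.fone]

theorem eq_inv (x : U) : x⁻¹ = x := inv_eq_of_mul_eq_one_right (S.exp2 x)

/-- No group of order eight carries a non-degenerate alternating form. -/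
theorem not_card_eight [Finite U] (R : Subgroup U) (hR : Nat.card R = 8)
    (hnd : ∀ x ∈ R, (∀ y ∈ R, f x y = 1) → x = 1) : False := by
  classical
  obtain ⟨x, hx, hx1⟩ := R.bot_or_exists_ne_one.resolve_left fun h => by
    rw [h, Subgroup.card_bot] at hR; omega
  let φ : R →* ℤˣ :=
    { toFun := fun y => f x y
      map_one' := S.fone_right x
      map_mul' := fun y z => S.fmul_right x y z }
  have hker : φ.ker.index ≤ 2 := by
    rw [Subgroup.index_ker]
    exact (Subgroup.card_le_card_group _).trans (by simp [Nat.card_eq_fintype_card])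
  have hne : ∃ y : R, φ y ≠ 1 := by
    by_contra h
    push Not at h
    exact hx1 (hnd x hx fun y hy => h ⟨y, hy⟩)
  obtain ⟨y, hy⟩ := hne
  have hk4 : 3 ≤ Nat.card φ.ker := by
    have := φ.ker.card_mul_index
    rw [hR] at this
    nlinarith [Nat.card_pos (α := φ.ker)]
  obtain ⟨z, hz, hz1, hzx⟩ : ∃ z : R, z ∈ φ.ker ∧ z ≠ 1 ∧ z ≠ ⟨x, hx⟩ := by
    by_contra h
    push Not at h
    have hsub : (φ.ker : Set R) ⊆ {1, ⟨x, hx⟩} := fun z hz => by
      rcases eq_or_ne z 1 with e | e
      · exact Or.inl e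
      · exact Or.inr (h z hz e)
    have h1 := Set.ncard_le_ncard hsub (Set.toFinite _)
    rw [← Nat.card_coe_set_eq] at h1
    have h2 := Set.ncard_insert_le (1 : R) {(⟨x, hx⟩ : R)}
    rw [Set.ncard_singleton] at h2
    have : Nat.card φ.ker = Nat.card (φ.ker : Set R) := rfl
    omega
  -- one of `z`, `z x` is orthogonal to `y`
  obtain ⟨w, hw1, hwx, hwy⟩ : ∃ w : R, w ≠ 1 ∧ f x w = 1 ∧ f w y = 1 := by
    rcases Int.units_eq_one_or (f (z : U) y) with h | h
    · exact ⟨z, hz1, hz, h⟩
    · refine ⟨z * ⟨x, hx⟩, fun e => hzx ?_, ?_, ?_⟩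
      · rw [eq_inv_of_mul_eq_one_left e]
        exact Subtype.ext (S.eq_inv x)
      · show f x ((z : U) * x) = 1
        rw [S.fmul_right, S.fself, mul_one]; exact hz
      · show f ((z : U) * x) y = 1
        rw [S.fmul, h, (Int.units_eq_one_or (f x y)).resolve_left hy, Int.units_mul_self]
  refine hw1 (Subtype.ext (hnd w w.2 fun u hu => ?_))
  -- decompose `u`
  have hfu : ∀ v : R, f x v = 1 → f (w : U) v = 1 := by
    intro v hv
    by_contra hbad
    -- the radical of `f` on the kernel
    let ψ : R →* ℤˣ :=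
      { toFun := fun t => f (w : U) t
        map_one' := S.fone_right _
        map_mul' := fun s t => S.fmul_right _ s t }
    have hsub : Nat.card φ.ker ≤ 4 := by
      have := φ.ker.card_mul_index
      have h2 : φ.ker.index ≠ 1 := fun e => hy (by
        have : y ∈ φ.ker := (Subgroup.index_eq_one.1 e) ▸ Subgroup.mem_top y
        exact this)
      rw [hR] at this
      rcases (show φ.ker.index = 0 ∨ φ.ker.index = 2 by omega) with h0 | h0
      · exact absurd h0 Subgroup.index_ne_zero_of_finite
      · rw [h0] at this; omega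
    have hwx' : (w : R) ∈ φ.ker := hwx
    have hxk : (⟨x, hx⟩ : R) ∈ φ.ker := S.fself x
    have hwnx : w ≠ ⟨x, hx⟩ := fun e => by
      subst e
      exact hy hwy
    have h5 : ({1, ⟨x, hx⟩, w, w * ⟨x, hx⟩, v} : Set R) ⊆ φ.ker := by
      rintro t (rfl | rfl | rfl | rfl | rfl)
      exacts [one_mem _, hxk, hwx', mul_mem hwx' hxk, hv]
    have hwxne : w * ⟨x, hx⟩ ≠ 1 := fun e => hwnx (by
      rw [eq_inv_of_mul_eq_one_left e]; exact Subtype.ext (S.eq_inv x))
    have hxne : (⟨x, hx⟩ : R) ≠ 1 := fun e => hx1 (congrArg Subtype.val e)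
    have hψ : ∀ t : R, t = 1 ∨ t = ⟨x, hx⟩ ∨ t = w ∨ t = w * ⟨x, hx⟩ → f (w : U) t = 1 := by
      have h1 : f (w : U) x = 1 := by rw [S.fsymm]; exact hwx
      rintro t (rfl | rfl | rfl | rfl)
      · exact S.fone_right _
      · exact h1
      · exact S.fself _
      · show f (w : U) ((w : U) * x) = 1
        rw [S.fmul_right, S.fself, h1, one_mul]
    have hv' : v ≠ 1 ∧ v ≠ ⟨x, hx⟩ ∧ v ≠ w ∧ v ≠ w * ⟨x, hx⟩ :=
      ⟨fun e => hbad (hψ v (Or.inl e)), fun e => hbad (hψ v (Or.inr (Or.inl e))),
        fun e => hbad (hψ v (Or.inr (Or.inr (Or.inl e)))),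
        fun e => hbad (hψ v (Or.inr (Or.inr (Or.inr e))))⟩
    have hcard : ({1, ⟨x, hx⟩, w, w * ⟨x, hx⟩, v} : Finset R).card = 5 := by
      rw [Finset.card_insert_of_notMem, Finset.card_insert_of_notMem,
        Finset.card_insert_of_notMem, Finset.card_insert_of_notMem, Finset.card_singleton]
      · simp [Ne.symm hv'.2.2.2]
      · simp only [Finset.mem_insert, Finset.mem_singleton, not_or]
        exact ⟨fun e => hxne (by simpa using e.symm), Ne.symm hv'.2.2.1⟩
      · simp only [Finset.mem_insert, Finset.mem_singleton, not_or]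
        exact ⟨hwnx.symm, fun e => hw1 (by simpa using e.symm), Ne.symm hv'.2.1⟩
      · simp only [Finset.mem_insert, Finset.mem_singleton, not_or]
        exact ⟨hxne.symm, Ne.symm hw1, hwxne.symm, Ne.symm hv'.1⟩
    have hle := Finset.card_le_card (s := ({1, ⟨x, hx⟩, w, w * ⟨x, hx⟩, v} : Finset R))
      (t := ((Set.toFinite (φ.ker : Set R))).toFinset) (fun t ht => by
        rw [Set.Finite.mem_toFinset]
        exact h5 (by simpa using ht))
    rw [hcard, ← Set.ncard_eq_toFinset_card, ← Nat.card_coe_set_eq] at hle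
    have : Nat.card φ.ker = Nat.card (φ.ker : Set R) := rfl
    omega
  rcases Int.units_eq_one_or (f x u) with h | h
  · exact hfu ⟨u, hu⟩ h
  · have h1 := hfu (⟨u, hu⟩ * y) (by
      show f x (u * (y : U)) = 1
      rw [S.fmul_right, h, (Int.units_eq_one_or (f x y)).resolve_left hy, Int.units_mul_self])
    change f (w : U) (u * (y : U)) = 1 at h1
    rwa [S.fmul_right, hwy, mul_one] at h1

/-- The faithful case: the normal subgroup is trivial. -/
theorem eq_bot [Finite H] [Finite U] [Group.IsSolvable H]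
    (faith : ∀ h : H, (∀ w : U, h • w = w) → h = 1) : K = ⊥ := by
  classical
  by_contra hK
  obtain ⟨J, hJ⟩ := Set.Finite.exists_minimal (s := {J : Subgroup H | J.Normal ∧ J ≤ K ∧ J ≠ ⊥})
    (Set.toFinite _) ⟨K, S.normal, le_rfl, hK⟩
  obtain ⟨⟨hJn, hJK, hJb⟩, hJmin⟩ := hJ
  have := hJn
  have hlt := Group.IsSolvable.commutator_lt_of_ne_bot hJb
  have hJc : ∀ i ∈ J, ∀ j ∈ J, i * j = j * i := by
    intro i hi j hj
    by_contra hne
    have hmem : ⁅i, j⁆ ∈ ⁅J, J⁆ := Subgroup.commutator_mem_commutator hi hj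
    have hbot : ⁅J, J⁆ ≠ ⊥ := fun e => hne (by
      rw [e, Subgroup.mem_bot, commutatorElement_eq_one_iff_mul_comm] at hmem
      exact hmem)
    exact absurd (hJmin ⟨Subgroup.commutator_normal J J, hlt.le.trans hJK, hbot⟩ hlt.le) hlt.not_ge
  -- no non-trivial invariant set of fixed vectors
  have hCJ : ∀ w : U, (∀ j ∈ J, j • w = w) → w = 1 := by
    let F : Subgroup U :=
      { carrier := {w | ∀ j ∈ J, j • w = w}
        one_mem' := fun j _ => smul_one j
        mul_mem' := fun hx hy j hj => by rw [smul_mul', hx j hj, hy j hj]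
        inv_mem' := fun hx j hj => by rw [smul_inv', hx j hj] }
    have hF : ∀ h : H, ∀ w ∈ F, h • w ∈ F := fun h w hw j hj => by
      have h1 := hw _ (hJn.conj_mem j hj h⁻¹)
      rw [show j • h • w = h • ((h⁻¹ * j * h⁻¹⁻¹) • w) by rw [← mul_smul, ← mul_smul]; group, h1]
    rcases S.irr F hF with h | h
    · exact fun w hw => (Subgroup.eq_bot_iff_forall _).1 h w hw
    · obtain ⟨j, hj, hj1⟩ := J.bot_or_exists_ne_one.resolve_left hJb
      exact absurd (faith j fun w => (h.symm ▸ Subgroup.mem_top w : w ∈ F) j hj) hj1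
  obtain ⟨w₀, hw₀⟩ := S.moves
  obtain ⟨j₁, hj₁, hj₁1⟩ := J.bot_or_exists_ne_one.resolve_left hJb
  obtain ⟨l, hl, hld₁⟩ := Nat.exists_prime_and_dvd (mt orderOf_eq_one_iff.1 hj₁1)
  let Jl : Subgroup H :=
    { carrier := {x | x ∈ J ∧ x ^ l = 1}
      one_mem' := ⟨J.one_mem, one_pow l⟩
      mul_mem' := fun {x y} hx hy => ⟨J.mul_mem hx.1 hy.1, by
        rw [(show Commute x y from hJc x hx.1 y hy.1).mul_pow, hx.2, hy.2, one_mul]⟩
      inv_mem' := fun {x} hx => ⟨J.inv_mem hx.1, by rw [inv_pow, hx.2, inv_one]⟩ }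
  have hJln : Jl.Normal := ⟨fun x hx h => ⟨hJn.conj_mem x hx.1 h, by
    rw [conj_pow, hx.2]; group⟩⟩
  have hx₁ : orderOf (j₁ ^ (orderOf j₁ / l)) = l :=
    orderOf_pow_orderOf_div (orderOf_pos _).ne' hld₁
  have hJJ : J ≤ Jl := hJmin ⟨hJln, fun x hx => hJK hx.1, fun e => hl.ne_one (by
    rw [← hx₁, (Subgroup.eq_bot_iff_forall _).1 e _
      ⟨J.pow_mem hj₁ _, orderOf_dvd_iff_pow_eq_one.1 (dvd_of_eq hx₁)⟩, orderOf_one])⟩ fun x hx => hx.1
  have hJl : ∀ x ∈ J, x ^ l = 1 := fun x hx => (hJJ hx).2
  have hl5 : 5 ≤ l := by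
    by_contra h
    have : l = 2 ∨ l = 3 := by
      rcases Nat.lt_or_ge l 4 with h4 | h4
      · have := hl.two_le; omega
      · have h44 : l = 4 := by omega
        rw [h44] at hl; exact absurd hl (by norm_num)
    rcases this with rfl | rfl
    · have hp : IsPGroup 2 J := fun x => ⟨1, Subtype.ext (by simpa using hJl x x.2)⟩
      have hdvd : 2 ∣ Nat.card U := by
        have h1 : orderOf w₀ = 2 := orderOf_eq_prime (by rw [sq]; exact S.exp2 w₀) fun e =>
          hw₀ (by rw [e, smul_one])
        exact h1 ▸ orderOf_dvd_natCard _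
      have : Fact (Nat.Prime 2) := ⟨Nat.prime_two⟩
      obtain ⟨w, hw, hw1⟩ := hp.exists_fixed_point_of_prime_dvd_card_of_fixed_point U hdvd
        (a := (1 : U)) (fun m => smul_one (m : H))
      exact hw1 (hCJ w fun j hj => hw ⟨j, hj⟩).symm
    · exact (Nat.Prime.coprime_iff_not_dvd (by norm_num)).1 S.cop
        (hx₁ ▸ Subgroup.orderOf_dvd_natCard K (hJK (J.pow_mem hj₁ _)))
  -- elements of `J` commuting with `a` are trivial on `P`
  have hPfix : ∀ g : H, ∀ l : ℕ, l.Prime → 5 ≤ l → g ^ l = 1 → Commute a g →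
      ∀ p ∈ P, g • p = p := by
    intro g l hl hl5 hgl hc
    refine fix_small S.pcard hl hl5 hgl fun p hp => ?_
    -- `P` is the image of the defect of `a`
    have hPr : P = (defectHom U a).range := by
      refine le_antisymm (fun q hq => ?_) (fun q hq => ?_)
      · let φ : P →* P := ((defectHom U a).comp P.subtype).codRestrict P fun q => S.pmem _
        have hinj : Function.Injective φ := (injective_iff_map_eq_one φ).2 fun q hq =>
          Subtype.ext (S.pfpf q q.2 (div_eq_one.1 (congrArg Subtype.val hq)))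
        obtain ⟨r, hr⟩ := (Finite.injective_iff_surjective.1 hinj) ⟨q, hq⟩
        exact ⟨r, congrArg Subtype.val hr⟩
      · obtain ⟨w, rfl⟩ := hq
        exact S.pmem w
    rw [hPr] at hp ⊢
    obtain ⟨w, rfl⟩ := hp
    exact ⟨g • w, by
      show a • g • w / g • w = g • (a • w / w)
      rw [smul_div', ← mul_smul, hc.eq, mul_smul]⟩
  -- the element `a` moves `J`
  obtain ⟨j, hj, hja⟩ : ∃ j ∈ J, ¬ Commute a j := by
    by_contra h
    push Not at h
    refine hw₀ (div_eq_one.1 (hCJ _ fun j hj => ?_))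
    by_contra hne
    exact hne (hPfix j l hl hl5 (hJl j hj) (h j hj) _ (S.pmem w₀))
  -- an element of prime order moving at most sixteen vectors
  set a' := j * a * j⁻¹ with ha'
  set g₀ := a' * a⁻¹ with hg₀
  have hg₀J : g₀ ∈ J := by
    have := J.mul_mem hj (hJn.conj_mem j⁻¹ (J.inv_mem hj) a)
    convert this using 1; rw [hg₀, ha']; group
  have hg₀1 : g₀ ≠ 1 := fun e => hja (by
    rw [hg₀, mul_inv_eq_one, ha', mul_inv_eq_iff_eq_mul] at e
    exact e.symm)
  set g := g₀ with hgdef
  have hgJ : g ∈ J := hg₀J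
  have hgpow : g ^ l = 1 := hJl g hgJ
  have := Fact.mk hl
  have hgl : orderOf g = l := orderOf_eq_prime hgpow hg₀1
  set P' : Subgroup U := P.map (MulDistribMulAction.toMonoidHom U j) with hP'
  have hP'mem : ∀ w, a' • w / w ∈ P' := fun w => ⟨a • j⁻¹ • w / j⁻¹ • w, S.pmem _, by
    show j • (a • j⁻¹ • w / j⁻¹ • w) = _
    rw [smul_div', smul_inv_smul, ha', mul_smul, mul_smul]⟩
  set Sp := P ⊔ P' with hSp
  have hP'c : Nat.card P' ≤ 4 :=
    (Nat.le_of_dvd Nat.card_pos (Subgroup.card_map_dvd _ _)).trans S.pcard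
  have hSc : Nat.card Sp ≤ 16 := by
    let m : P × P' → Sp := fun x =>
      ⟨(x.1 : U) * x.2, mul_mem (Subgroup.mem_sup_left x.1.2) (Subgroup.mem_sup_right x.2.2)⟩
    have hm : Function.Surjective m := fun x => by
      obtain ⟨u, hu, v, hv, e⟩ := Subgroup.mem_sup.1 x.2
      exact ⟨(⟨u, hu⟩, ⟨v, hv⟩), Subtype.ext e⟩
    refine (Nat.card_le_card_of_surjective m hm).trans ?_
    rw [Nat.card_prod]
    exact (Nat.mul_le_mul S.pcard hP'c)
  have haD : a ∈ defectSub H Sp := fun w => Subgroup.mem_sup_left (S.pmem w)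
  have ha'D : a' ∈ defectSub H Sp := fun w => Subgroup.mem_sup_right (hP'mem w)
  have hgD : g ∈ defectSub H Sp :=
    mul_mem ha'D (inv_mem haD)
  -- analysis of an element of order `l` with defects in `Sp`
  have hprop : ∀ e : H, e ^ l = 1 → e ≠ 1 →
      e ∈ defectSub H Sp → (∀ x ∈ (defectHom U e).range, e • x = x → x = 1) ∧
      l ∣ Nat.card (defectHom U e).range - 1 ∧
      (defectHom U e).range ≤ Sp ∧ 1 < Nat.card (defectHom U e).range := by
    intro e hel he1 heD
    set R := (defectHom U e).range with hR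
    have hfree : ∀ x ∈ R, e • x = x → x = 1 := by
      rintro _ ⟨w, rfl⟩ hx
      change e • (e • w / w) = e • w / w at hx
      set d := e • w / w with hd
      have hn : ∀ n : ℕ, (e ^ n) • w = w * d ^ n := fun n => by
        induction n with
        | zero => simp
        | succ n ih =>
          rw [pow_succ', mul_smul, ih, smul_mul', smul_pow', hx, pow_succ',
            show e • w = w * d by rw [hd, mul_div_cancel], mul_assoc]
      have h1 := hn l
      rw [hel, one_smul, left_eq_mul] at h1
      have h2 : d ^ 2 = 1 := by rw [sq]; exact S.exp2 d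
      have h3 := (pow_gcd_eq_one (a := d)).2 ⟨h1, h2⟩
      rwa [(Nat.coprime_primes hl Nat.prime_two).2 (by omega) |>.gcd_eq_one, pow_one] at h3
    refine ⟨hfree, ?_, ?_, ?_⟩
    · -- orbits of length `l` on the non-trivial elements
      let E := Subgroup.zpowers e
      have hRinv : ∀ x ∈ R, e • x ∈ R := by
        rintro _ ⟨w, rfl⟩
        exact ⟨e • w, (smul_div' e _ _).symm⟩
      have hpow : ∀ n : ℕ, ∀ x ∈ R, (e ^ n) • x ∈ R := fun n => by
        induction n with
        | zero => simp
        | succ n ih => intro x hx; rw [pow_succ', mul_smul]; exact hRinv _ (ih x hx)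
      have := Fact.mk hl
      have heo : orderOf e = l := orderOf_eq_prime hel he1
      have hE : IsPGroup l E := IsPGroup.of_card (n := 1) (by rw [Nat.card_zpowers, heo, pow_one])
      let _ : MulAction E R :=
        { smul := fun m x => ⟨(m : H) • (x : U), by
            obtain ⟨n, hn⟩ := mem_powers_iff_mem_zpowers.2 m.2
            rw [show (m : H) = e ^ n from hn.symm]
            exact hpow n x x.2⟩
          one_smul := fun x => Subtype.ext (one_smul H (x : U))
          mul_smul := fun m n x => Subtype.ext (mul_smul (m : H) (n : H) (x : U)) }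
      have hfix : Nat.card (MulAction.fixedPoints E R) = 1 := by
        refine Nat.card_eq_one_iff_unique.2 ⟨⟨fun x y => ?_⟩, ⟨⟨1, fun m => Subtype.ext ?_⟩⟩⟩
        · have h1 : ∀ z : MulAction.fixedPoints E R, z.1 = 1 := fun z => Subtype.ext
            (hfree _ z.1.2 (congrArg Subtype.val (z.2 ⟨e, Subgroup.mem_zpowers e⟩)))
          exact Subtype.ext ((h1 x).trans (h1 y).symm)
        · exact smul_one (m : H)
      have h := hE.card_modEq_card_fixedPoints R
      rw [hfix] at h
      exact (Nat.modEq_iff_dvd' Nat.card_pos).1 h.symm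
    · rintro _ ⟨w, rfl⟩; exact heD w
    · rw [Subgroup.one_lt_card_iff_ne_bot]
      intro hb
      refine he1 (faith e fun w => div_eq_one.1 ?_)
      exact (Subgroup.eq_bot_iff_forall _).1 hb _ ⟨w, rfl⟩
  have hg1 : g ≠ 1 := fun e => hl.ne_one (by rw [← hgl, e, orderOf_one])
  obtain ⟨hfree, hdiv, hle, hgt⟩ := hprop g hgpow hg1 hgD
  set R := (defectHom U g).range with hR
  have hRc : ∀ T : Subgroup U, ∃ k, Nat.card T = 2 ^ k := fun T => by
    have hp : IsPGroup 2 T := fun x => ⟨1, Subtype.ext (by simpa [sq] using S.exp2 (x : U))⟩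
    exact IsPGroup.iff_card.1 hp
  have hcases : ∀ T : Subgroup U, 1 < Nat.card T → Nat.card T ≤ 16 → l ∣ Nat.card T - 1 →
      Nat.card T = 8 ∧ l = 7 ∨ Nat.card T = 16 ∧ l = 5 := by
    intro T h1 h16 hd
    obtain ⟨k, hk⟩ := hRc T
    have hk4 : k ≤ 4 := by
      by_contra h
      have : 2 ^ 5 ≤ 2 ^ k := Nat.pow_le_pow_right (by norm_num) (by omega)
      omega
    have hle15 : l ≤ 15 := (Nat.le_of_dvd (by omega) hd).trans (by omega)
    interval_cases k <;> simp only [hk] at h1 hd ⊢
    · omega
    · have := Nat.le_of_dvd (by norm_num) hd; omega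
    · have := Nat.le_of_dvd (by norm_num) hd; omega
    · have := Nat.le_of_dvd (by norm_num) hd
      have : l = 7 := by
        interval_cases l <;> omega
      omega
    · have : l = 5 := by
        interval_cases l <;> first | omega | (norm_num at hl)
      omega
  rcases hcases R hgt ((Subgroup.card_le_of_le hle).trans hSc) hdiv with ⟨h8, -⟩ | ⟨h16, hl5'⟩
  · -- eight: non-degenerate
    refine S.not_card_eight R h8 fun x hx hxR => S.fnd x fun y => ?_
    have hRinv : ∀ r ∈ R, g • r / r ∈ R := fun r _ => ⟨r, rfl⟩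
    let φ : R →* R := ((defectHom U g).comp R.subtype).codRestrict R fun r => hRinv r r.2
    have hinj : Function.Injective φ := (injective_iff_map_eq_one φ).2 fun r hr =>
      Subtype.ext (hfree r r.2 (div_eq_one.1 (congrArg Subtype.val hr)))
    obtain ⟨r, hr⟩ := Finite.injective_iff_surjective.1 hinj ⟨_, y, rfl⟩
    have hr' : g • (r : U) / r = g • y / y := congrArg Subtype.val hr
    have hc : g • (y / r) = y / r := by
      rw [smul_div']
      exact div_eq_div_iff_div_eq_div.2 hr'.symm
    obtain ⟨w, rfl⟩ := hx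
    have h1 : f (g • w / w) (y / r) = 1 := by
      rw [div_eq_mul_inv, S.eq_inv w, S.fmul]
      nth_rw 1 [← hc]
      rw [S.finv, Int.units_mul_self]
    calc f (defectHom U g w) y = f (defectHom U g w) (y / r * r) := by rw [div_mul_cancel]
      _ = f (g • w / w) (y / r) * f (defectHom U g w) r := S.fmul_right _ _ _
      _ = 1 := by rw [h1, hxR r r.2, one_mul]
  · -- sixteen
    subst hl5'
    set Jg := Subgroup.closure ({g, a * g * a⁻¹} : Set H) with hJg
    have hJgJ : Jg ≤ J := by
      rw [Subgroup.closure_le]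
      rintro x (rfl | rfl)
      exacts [hgJ, hJn.conj_mem g hgJ a]
    have hJgD : Jg ≤ defectSub H Sp := by
      rw [Subgroup.closure_le]
      rintro x (rfl | rfl)
      exacts [hgD, mul_mem (mul_mem haD hgD) (inv_mem haD)]
    have hJg5 : ∀ x ∈ Jg, x ^ 5 = 1 := by
      intro x hx
      induction hx using Subgroup.closure_induction with
      | mem x hx =>
        rcases hx with rfl | rfl
        · exact hgpow
        · rw [conj_pow, hgpow]; group
      | one => exact one_pow 5
      | mul x y hx hy ex ey => rw [(show Commute x y from hJc x (hJgJ hx) y (hJgJ hy)).mul_pow, ex,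
          ey, one_mul]
      | inv x hx ex => rw [inv_pow, ex, inv_one]
    have hSp16 : Nat.card Sp = 16 := le_antisymm hSc (h16 ▸ Subgroup.card_le_of_le hle)
    have hfreeS : ∀ x ∈ Jg, x ≠ 1 → ∀ s ∈ Sp, x • s = s → s = 1 := by
      intro x hx hx1 s hs hxs
      obtain ⟨hf, hd, hl', hg'⟩ := hprop x (hJg5 x hx) hx1 (hJgD hx)
      rcases hcases _ hg' ((Subgroup.card_le_of_le hl').trans hSc) hd with ⟨-, h⟩ | ⟨h, -⟩
      · omega
      · have e : (defectHom U x).range = Sp := Subgroup.eq_of_le_of_card_ge hl' (by omega)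
        exact hf s (e ▸ hs) hxs
    have hSinv : ∀ x ∈ Jg, ∀ s ∈ Sp, x • s ∈ Sp := fun x hx s hs => by
      simpa using Sp.mul_mem (hJgD hx s) hs
    let _ : MulAction Jg {s : Sp // s ≠ 1} :=
      { smul := fun x s => ⟨⟨(x : H) • ((s : Sp) : U), hSinv x x.2 _ s.1.2⟩, fun e => s.2
          (Subtype.ext (smul_left_cancel (x : H)
            ((congrArg Subtype.val e).trans (smul_one (x : H)).symm)))⟩
        one_smul := fun s => Subtype.ext (Subtype.ext (one_smul H ((s : Sp) : U)))
        mul_smul := fun x y s => Subtype.ext (Subtype.ext (mul_smul (x : H) (y : H) _)) }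
    obtain ⟨s₀, hs₀⟩ : ∃ s : Sp, s ≠ 1 := by
      have : 1 < Nat.card Sp := by omega
      rw [Finite.one_lt_card_iff_nontrivial] at this
      exact exists_ne 1
    have hcard : Nat.card Jg ≤ 15 := by
      have h15 : Nat.card {s : Sp // s ≠ 1} = 15 := by
        have := Fintype.ofFinite Sp
        rw [Nat.card_eq_fintype_card, Fintype.card_subtype_compl, Fintype.card_subtype_eq,
          ← Nat.card_eq_fintype_card, hSp16]
      rw [← h15]
      refine Nat.card_le_card_of_injective (fun x => x • (⟨s₀, hs₀⟩ : {s : Sp // s ≠ 1}))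
        fun x y e => ?_
      have e' : (x : H) • (s₀ : U) = (y : H) • (s₀ : U) :=
        congrArg (fun s : {s : Sp // s ≠ 1} => ((s : Sp) : U)) e
      by_contra hne
      refine hs₀ (Subtype.ext (hfreeS _ (Jg.mul_mem (Jg.inv_mem y.2) x.2) (fun h => hne ?_) _ s₀.2
        (by rw [mul_smul, e', inv_smul_smul])))
      rw [inv_mul_eq_one] at h
      exact Subtype.ext h.symm
    have hgJg : g ∈ Jg := Subgroup.subset_closure (Or.inl rfl)
    have hagJg : a * g * a⁻¹ ∈ Jg := Subgroup.subset_closure (Or.inr rfl)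
    have hJg5' : Nat.card Jg = 5 := by
      have := Fact.mk (show Nat.Prime 5 by norm_num)
      obtain ⟨k, hk⟩ := IsPGroup.iff_card.1
        (show IsPGroup 5 Jg from fun x => ⟨1, Subtype.ext (by simpa using hJg5 x x.2)⟩)
      have h1 : 5 ∣ Nat.card Jg := hgl ▸ Subgroup.orderOf_dvd_natCard Jg hgJg
      rcases k with _ | _ | k
      · rw [hk] at h1; norm_num at h1
      · simpa using hk
      · have : 5 ^ 2 ≤ 5 ^ (k + 1 + 1) := Nat.pow_le_pow_right (by norm_num) (by omega)
        rw [hk] at hcard
        omega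
    have hz : Subgroup.zpowers g = Jg := Subgroup.eq_of_le_of_card_ge
      (Subgroup.zpowers_le.2 hgJg) (by rw [Nat.card_zpowers, hgl, hJg5'])
    obtain ⟨i, hi⟩ := mem_powers_iff_mem_zpowers.2 (hz ▸ hagJg : a * g * a⁻¹ ∈ Subgroup.zpowers g)
    change g ^ i = a * g * a⁻¹ at hi
    have hiter : ∀ n : ℕ, a ^ n * g * (a ^ n)⁻¹ = g ^ (i ^ n) := fun n => by
      induction n with
      | zero => simp
      | succ n ih =>
        calc a ^ (n + 1) * g * (a ^ (n + 1))⁻¹ = a * (a ^ n * g * (a ^ n)⁻¹) * a⁻¹ := by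
              rw [pow_succ']; group
          _ = g ^ (i ^ (n + 1)) := by
              rw [ih, ← conj_pow, ← hi, ← pow_mul, pow_succ']
    have h3 := hiter 3
    rw [S.cube] at h3
    have h3' : i ^ 3 % 5 = 1 := by
      have h4 : g ^ 1 = g ^ (i ^ 3) := by simpa using h3
      rw [pow_inj_mod, hgl] at h4
      omega
    have hi1 : i % 5 = 1 := by
      have := Nat.mod_lt i (show 0 < 5 by norm_num)
      have h5 : (i % 5) ^ 3 % 5 = 1 := by rw [← Nat.pow_mod]; exact h3'
      interval_cases (i % 5) <;> omega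
    have hc : Commute a g := by
      have : g ^ i = g := by
        conv_rhs => rw [← pow_one g]
        rw [pow_inj_mod, hgl]
        omega
      rw [this, eq_mul_inv_iff_mul_eq] at hi
      exact hi.symm
    have hPne : ∃ p ∈ P, p ≠ 1 :=
      ⟨_, S.pmem w₀, fun e => hw₀ (div_eq_one.1 e)⟩
    obtain ⟨p, hp, hp1⟩ := hPne
    exact hp1 (hfreeS g hgJg hg1 p (Subgroup.mem_sup_left hp)
      (hPfix g 5 hl le_rfl hgpow hc p hp))

/-- Every vector fixed by `a` is trivial. -/
theorem fixed_eq_one [Finite H] [Finite U] [Group.IsSolvable H] :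
    ∀ w : U, a • w = w → w = 1 := by
  classical
  let φ : H →* MulAut U := MulDistribMulAction.toMulAut H U
  let aR : φ.range := φ.rangeRestrict a
  have hφ : ∀ (h : H) (w : U), (φ.rangeRestrict h) • w = h • w := fun h w => rfl
  have : Group.IsSolvable φ.range :=
    Group.isSolvable_of_surjective (f := φ.rangeRestrict) φ.rangeRestrict_surjective
  have S' : Symp φ.range U f (K.map φ.rangeRestrict) aR P :=
    { exp2 := S.exp2, fmul := S.fmul, fsymm := S.fsymm, fself := S.fself, fnd := S.fnd
      finv := fun h x y => by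
        obtain ⟨h, rfl⟩ := φ.rangeRestrict_surjective h
        exact S.finv h x y
      irr := fun W hW => S.irr W fun h w hw => hW (φ.rangeRestrict h) w hw
      normal := S.normal.map _ φ.rangeRestrict_surjective
      cube := by rw [← map_pow, S.cube, map_one]
      cop := S.cop.coprime_dvd_right (Subgroup.card_map_dvd _ _)
      gen := fun h => by
        obtain ⟨h, rfl⟩ := φ.rangeRestrict_surjective h
        obtain ⟨k, hk, e⟩ := S.gen h
        exact ⟨_, Subgroup.mem_map_of_mem _ hk, by
          rw [← map_inv, ← map_mul, ← map_mul, ← map_inv, ← map_mul, ← map_mul, e]⟩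
      pcard := S.pcard
      pmem := S.pmem
      pfpf := S.pfpf
      moves := S.moves }
  have hKt : ∀ k ∈ K, ∀ w : U, k • w = w := by
    have h := S'.eq_bot fun h hh => Subtype.ext (MulEquiv.ext hh)
    intro k hk w
    have h1 : φ.rangeRestrict k = 1 :=
      (Subgroup.eq_bot_iff_forall _).1 h _ (Subgroup.mem_map_of_mem _ hk)
    rw [← hφ k w, h1, one_smul]
  let F : Subgroup U :=
    { carrier := {w | a • w = w}
      one_mem' := smul_one a
      mul_mem' := fun {x y} (hx : a • x = x) (hy : a • y = y) => by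
        show a • (x * y) = x * y
        rw [smul_mul', hx, hy]
      inv_mem' := fun {x} (hx : a • x = x) => by
        show a • x⁻¹ = x⁻¹
        rw [smul_inv', hx] }
  have hF : ∀ h : H, ∀ w ∈ F, h • w ∈ F := fun h w (hw : a • w = w) => by
    obtain ⟨k, hk, e⟩ := S.gen h⁻¹
    show a • h • w = h • w
    rw [inv_inv] at e
    have h1 : (h⁻¹ * a * h) • w = w := by
      rw [e, mul_smul, mul_smul, hKt _ (K.inv_mem hk), hw, hKt k hk]
    rw [mul_smul, mul_smul, inv_smul_eq_iff] at h1
    exact h1
  rcases S.irr F hF with h | h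
  · exact fun w hw => (Subgroup.eq_bot_iff_forall _).1 h w hw
  · obtain ⟨w, hw⟩ := S.moves
    exact absurd (h.symm ▸ Subgroup.mem_top w : w ∈ F) hw

end Symp

end Cfsg.Agent.Palfy7
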