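import Mathlib
import Cfsg.Agent.Lib.PalfyStep7
import Cfsg.Agent.Lib.PalfySymp7
import Cfsg.Agent.Lib.ClassTwoPow

/-!
An element of prime order with exactly one conjugate fixing each non-trivial vector either moves
the maximal cyclic normal subgroup, or has order three and a quaternion section.
-/

set_option autoImplicit false
set_option maxHeartbeats 1000000
set_option linter.unusedSectionVars false

open scoped commutatorElement

namespace Cfsg.Agent.Palfy7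

variable {H V : Type*} [Group H] [CommGroup V] [MulDistribMulAction H V]

/-- The quaternion alternative. -/
def Plane (V : Type*) [CommGroup V] [MulDistribMulAction H V] (K Z : Subgroup H) (a : H) : Prop :=
  ∃ (U₀ : Subgroup H) (ζ : H), U₀.Normal ∧ U₀ ≤ K ∧ (∀ u ∈ U₀, ∀ z ∈ Z, Commute u z) ∧
    ζ ∈ U₀ ∧ ζ ∈ Z ∧ ζ ≠ 1 ∧ ζ * ζ = 1 ∧ (∀ u ∈ U₀, u * u = 1 ∨ u * u = ζ) ∧
    (∀ u ∈ U₀, Commute a u → u = 1 ∨ u = ζ) ∧ (∃ u ∈ U₀, u ≠ 1 ∧ u ≠ ζ) ∧
    (∀ u ∈ U₀, u ≠ 1 → u ≠ ζ → ¬ Commute u (a * u * a⁻¹)) ∧ ∀ v : V, ζ • v = v → v = 1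

/-- A maximal abelian normal subgroup inside `K`. -/
def MaxAb (K Z : Subgroup H) : Prop :=
  Maximal (fun N : Subgroup H => N.Normal ∧ N ≤ K ∧ ∀ x ∈ N, ∀ y ∈ N, x * y = y * x) Z

theorem exists_maxAb [Finite H] (K : Subgroup H) : ∃ Z, MaxAb K Z := by
  obtain ⟨Z, -, hZ⟩ := Finite.exists_le_maximal
    (p := fun N : Subgroup H => N.Normal ∧ N ≤ K ∧ ∀ x ∈ N, ∀ y ∈ N, x * y = y * x)
    (show (⊥ : Subgroup H).Normal ∧ _ ∧ _ from
      ⟨inferInstance, bot_le, fun x hx y hy => by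
        rw [Subgroup.mem_bot.1 hx, Subgroup.mem_bot.1 hy]⟩)
  exact ⟨Z, hZ⟩

theorem mul_pow_local {t : ℕ} (ht : t.Prime) (ht2 : t ≠ 2) {x y : H} (hx : Commute ⁅y, x⁆ x)
    (hy : Commute ⁅y, x⁆ y) (ho : ⁅y, x⁆ ^ t = 1) : (x * y) ^ t = x ^ t * y ^ t := by
  let L := Subgroup.closure ({x, y} : Set H)
  let x' : L := ⟨x, Subgroup.subset_closure (Or.inl rfl)⟩
  let y' : L := ⟨y, Subgroup.subset_closure (Or.inr rfl)⟩
  have hc : ⁅y', x'⁆ ∈ Subgroup.center L := by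
    refine Subgroup.mem_center_iff.mpr fun k => Subtype.ext ?_
    have hle : L ≤ Subgroup.centralizer ({⁅y, x⁆} : Set H) := by
      rw [Subgroup.closure_le]
      rintro _ (rfl | rfl)
      · exact Subgroup.mem_centralizer_singleton_iff.mpr hx.eq.symm
      · exact Subgroup.mem_centralizer_singleton_iff.mpr hy.eq.symm
    exact Subgroup.mem_centralizer_singleton_iff.mp (hle k.2)
  exact congrArg Subtype.val (ClassTwoPow.mul_pow_prime_central ht ht2 hc (Subtype.ext ho))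

/-- Two elements generating a non-cyclic abelian group leave some common element fixing a
non-trivial vector of an invariant subgroup. -/
theorem exists_fix_pair [Finite H] [Finite V] {t : ℕ} (ht : t.Prime) {x z : H}
    (hxz : Commute x z) (hx : x ^ t = 1) (hz : z ^ t = 1) (hz1 : z ≠ 1)
    (hxnot : x ∉ Subgroup.zpowers z)
    {W : Subgroup V} (hW : W ≠ ⊥) (hWx : ∀ w ∈ W, x • w ∈ W) (hWz : ∀ w ∈ W, z • w ∈ W) :
    ∃ i j : ℕ, x ^ i * z ^ j ≠ 1 ∧ ∃ w ∈ W, w ≠ 1 ∧ (x ^ i * z ^ j) • w = w := by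
  classical
  by_contra hno
  push Not at hno
  let M : Subgroup H :=
    { carrier := {m | ∃ i j : ℕ, x ^ i * z ^ j = m}
      one_mem' := ⟨0, 0, by simp⟩
      mul_mem' := by
        rintro _ _ ⟨i, j, rfl⟩ ⟨i', j', rfl⟩
        refine ⟨i + i', j + j', ?_⟩
        rw [pow_add, pow_add, (hxz.pow_pow i' j).mul_mul_mul_comm]
      inv_mem' := by
        rintro _ ⟨i, j, rfl⟩
        refine ⟨(t - 1) * i, (t - 1) * j, ?_⟩
        refine eq_inv_of_mul_eq_one_left ?_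
        rw [(hxz.pow_pow i ((t - 1) * j)).symm.mul_mul_mul_comm, ← pow_add, ← pow_add]
        obtain ⟨s, hs⟩ : ∃ s, t = s + 1 := ⟨t - 1, by have := ht.one_lt; omega⟩
        rw [show (t - 1) * i + i = t * i by subst hs; simp; ring,
          show (t - 1) * j + j = t * j by subst hs; simp; ring, pow_mul, pow_mul, hx, hz, one_pow,
          one_pow, one_mul] }
  have hMW : ∀ m ∈ M, ∀ w ∈ W, m • w ∈ W := by
    rintro _ ⟨i, j, rfl⟩ w hw
    rw [mul_smul]
    have hpow : ∀ (g : H), (∀ w ∈ W, g • w ∈ W) → ∀ n : ℕ, ∀ w ∈ W, (g ^ n) • w ∈ W := by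
      intro g hg n
      induction n with
      | zero => simp
      | succ n ih => intro w hw; rw [pow_succ', mul_smul]; exact hg _ (ih w hw)
    exact hpow x hWx i _ (hpow z hWz j w hw)
  let _ : MulDistribMulAction M W :=
    { smul := fun m w => ⟨(m : H) • (w : V), hMW m m.2 w w.2⟩
      one_smul := fun w => Subtype.ext (one_smul H (w : V))
      mul_smul := fun m n w => Subtype.ext (mul_smul (m : H) (n : H) (w : V))
      smul_mul := fun m u w => Subtype.ext (smul_mul' (m : H) (u : V) w)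
      smul_one := fun m => Subtype.ext (smul_one (m : H)) }
  have hfpf : FrobeniusFPF.IsFPF M W := by
    rintro ⟨_, i, j, rfl⟩ hm w hw
    by_contra hw1
    exact hno i j (fun e => hm (Subtype.ext e)) w w.2 (fun e => hw1 (Subtype.ext e))
      (congrArg Subtype.val hw)
  have : Nontrivial W := (Subgroup.nontrivial_iff_ne_bot W).2 hW
  have hzM : z ∈ M := ⟨0, 1, by simp⟩
  have hxM : x ∈ M := ⟨1, 0, by simp⟩
  have hcomm : ∀ m n : M, m * n = n * m := by
    rintro ⟨_, i, j, rfl⟩ ⟨_, i', j', rfl⟩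
    refine Subtype.ext ?_
    have h1 : Commute (x ^ i * z ^ j) (x ^ i' * z ^ j') :=
      ((((Commute.refl x).pow_pow _ _).mul_right (hxz.pow_pow _ _)).mul_left
        ((hxz.symm.pow_pow _ _).mul_right ((Commute.refl z).pow_pow _ _)))
    exact h1
  have hcyc := FrobeniusFPF.isCyclic_of_comm hfpf hcomm
  have := Fintype.ofFinite M
  have hzo : orderOf (⟨z, hzM⟩ : M) = t := by
    have := Fact.mk ht
    exact orderOf_eq_prime (Subtype.ext hz) fun e => hz1 (congrArg Subtype.val e)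
  let s : Finset M := (Finset.univ.filter fun m => m ^ t = 1)
  have hs : s.card ≤ t := IsCyclic.card_pow_eq_one_le ht.pos
  have hzs : ∀ n : ℕ, (⟨z, hzM⟩ : M) ^ n ∈ s := fun n =>
    Finset.mem_filter.2 ⟨Finset.mem_univ _, Subtype.ext (by
      show (z ^ n) ^ t = 1
      rw [← pow_mul, mul_comm, pow_mul, hz, one_pow])⟩
  have hsub : (Finset.range t).image (fun n => (⟨z, hzM⟩ : M) ^ n) = s := by
    refine Finset.eq_of_subset_of_card_le (fun m hm => ?_) ?_
    · obtain ⟨n, -, rfl⟩ := Finset.mem_image.1 hm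
      exact hzs n
    · rw [Finset.card_image_of_injOn, Finset.card_range]
      · exact hs
      · intro m hm n hn e
        have hm' : m < t := Finset.mem_range.1 hm
        have hn' : n < t := Finset.mem_range.1 hn
        exact pow_injOn_Iio_orderOf (by rw [Set.mem_Iio, hzo]; exact hm')
          (by rw [Set.mem_Iio, hzo]; exact hn') e
  have hxs : (⟨x, hxM⟩ : M) ∈ s := Finset.mem_filter.2 ⟨Finset.mem_univ _, Subtype.ext hx⟩
  rw [← hsub, Finset.mem_image] at hxs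
  obtain ⟨n, -, hn⟩ := hxs
  exact hxnot ⟨n, by simpa using congrArg Subtype.val hn⟩

namespace Setup

variable {K : Subgroup H} {a : H} {q : ℕ}

/-- Either `a` moves the maximal abelian normal subgroup, or a quaternion section appears. -/
theorem single [Finite H] [Finite V] [Nontrivial V] [Group.IsSolvable H]
    (S : Setup H V K a q)
    (hab : ∀ N : Subgroup H, N.Normal → N ≤ K → (∀ x ∈ N, ∀ y ∈ N, x * y = y * x) →
      ∀ n ∈ N, n ≠ 1 → ∀ v : V, n • v = v → v = 1)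
    {Z : Subgroup H} (hZ : MaxAb K Z) :
    (∃ z ∈ Z, ¬ Commute a z) ∨ (q = 3 ∧ Plane V K Z a) := by
  classical
  by_cases haZ : ∃ z ∈ Z, ¬ Commute a z
  · exact Or.inl haZ
  push Not at haZ
  refine Or.inr ?_
  obtain ⟨⟨hZn, hZK, hZc⟩, hZmax⟩ := hZ
  have := hZn
  have := S.normal
  have hfpf := hab Z hZn hZK hZc
  have hZcyc : IsCyclic Z := FrobeniusFPF.isCyclic_of_comm (W := V)
    (fun m hm w hw => hfpf m m.2 (fun e => hm (Subtype.ext e)) w hw)
    fun x y => Subtype.ext (hZc x x.2 y y.2)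
  set Y : Subgroup H := K ⊓ Subgroup.centralizer (Z : Set H) with hY
  have hYn : Y.Normal := inferInstance
  have hYZ : ∀ y ∈ Y, ∀ z ∈ Z, Commute y z := fun y hy z hz =>
    (Subgroup.mem_centralizer_iff.1 hy.2 z hz).symm
  have habZ : ∀ N : Subgroup H, N.Normal → N ≤ Y → (∀ x ∈ N, ∀ y ∈ N, x * y = y * x) → N ≤ Z := by
    intro N hN hNY hNc
    have := hN
    have hsup : (N ⊔ Z).Normal ∧ N ⊔ Z ≤ K ∧ ∀ x ∈ N ⊔ Z, ∀ y ∈ N ⊔ Z, x * y = y * x := by
      refine ⟨inferInstance, sup_le (hNY.trans inf_le_left) hZK, fun x hx y hy => ?_⟩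
      obtain ⟨n, hn, z, hz, rfl⟩ := Subgroup.mem_sup_of_normal_right.1 hx
      obtain ⟨m, hm, w, hw, rfl⟩ := Subgroup.mem_sup_of_normal_right.1 hy
      exact (((show Commute n m from hNc n hn m hm).mul_right (hYZ n (hNY hn) w hw)).mul_left
        ((hYZ m (hNY hm) z hz).symm.mul_right (hZc z hz w hw)))
    exact le_sup_left.trans (hZmax hsup le_sup_right)
  -- the subgroup generated by the defects of `a`
  set D : Subgroup H :=
    Subgroup.normalClosure {d | ∃ k ∈ K, d = k * a * k⁻¹ * a⁻¹} ⊔ Z with hD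
  have hdY : ∀ k ∈ K, k * a * k⁻¹ * a⁻¹ ∈ Y := fun k hk => by
    refine ⟨S.diff_mem hk, Subgroup.mem_centralizer_iff.2 fun z hz => ?_⟩
    exact (((S.conj_centralises hZn haZ k z hz).mul_left (haZ z hz).inv_left)).symm
  have hDY : D ≤ Y := sup_le (Subgroup.normalClosure_le_normal fun d ⟨k, hk, e⟩ => e ▸ hdY k hk)
    fun z hz => ⟨hZK hz, Subgroup.mem_centralizer_iff.2 fun w hw => hZc w hw z hz⟩
  have hDn : D.Normal := inferInstance
  have hDne : D ≠ Z := by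
    intro hDZ
    obtain ⟨k, hk, hka⟩ := S.moves
    have hd : k * a * k⁻¹ * a⁻¹ ∈ Z := hDZ ▸ Subgroup.mem_sup_left
      (Subgroup.subset_normalClosure ⟨k, hk, rfl⟩)
    set d := k * a * k⁻¹ * a⁻¹ with hd'
    have hc := haZ d hd
    have h1 : d ^ q = 1 := by
      have h2 := S.pow_q k
      rwa [show k * a * k⁻¹ = d * a by rw [hd']; group, hc.symm.mul_pow, ← S.order,
        pow_orderOf_eq_one, mul_one, S.order] at h2
    have hK : d ^ Nat.card K = 1 :=
      congrArg Subtype.val (pow_card_eq_one' (G := K) (x := ⟨d, hZK hd⟩))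
    have h3 := (pow_gcd_eq_one (a := d)).2 ⟨h1, hK⟩
    rw [S.cop.gcd_eq_one, pow_one, hd', mul_inv_eq_one, mul_inv_eq_iff_eq_mul] at h3
    exact hka h3
  obtain ⟨U, ⟨hUn, hZU, hUne, hUD⟩, hUmin⟩ := Set.Finite.exists_minimal
    (s := {U : Subgroup H | U.Normal ∧ Z ≤ U ∧ U ≠ Z ∧ U ≤ D}) (Set.toFinite _)
    ⟨D, hDn, le_sup_right, hDne, le_rfl⟩
  have := hUn
  have hUY : U ≤ Y := hUD.trans hDY
  have hsplit : ∀ N : Subgroup H, N.Normal → N ≤ U → ¬ N ≤ Z → N ⊔ Z = U := fun N hN hNU hNZ => by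
    have := hN
    exact le_antisymm (sup_le hNU hZU) (hUmin ⟨inferInstance, le_sup_right,
      fun e => hNZ (le_sup_left.trans e.le), (sup_le hNU hZU).trans hUD⟩ (sup_le hNU hZU))
  -- commutators of `U` lie in `Z`
  have hUc : ∀ x ∈ U, ∀ y ∈ U, ⁅x, y⁆ ∈ Z := by
    by_contra hne
    push Not at hne
    obtain ⟨x, hx, y, hy, hxy⟩ := hne
    have hN : (⁅U, U⁆ : Subgroup H).Normal := inferInstance
    have hNU : (⁅U, U⁆ : Subgroup H) ≤ U := Subgroup.commutator_le_self U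
    have hs := hsplit _ hN hNU fun h => hxy (h (Subgroup.commutator_mem_commutator hx hy))
    have hle : (⁅U, U⁆ : Subgroup H) ≤ ⁅(⁅U, U⁆ : Subgroup H), ⁅U, U⁆⁆ := by
      refine Subgroup.commutator_le.2 fun u hu w hw => ?_
      rw [← hs, Subgroup.mem_sup_of_normal_right] at hu hw
      obtain ⟨a₁, ha₁, z₁, hz₁, rfl⟩ := hu
      obtain ⟨a₂, ha₂, z₂, hz₂, rfl⟩ := hw
      have c1 : Commute z₁ a₂ := (hYZ a₂ (hUY (hNU ha₂)) z₁ hz₁).symm
      have c2 : Commute z₂ a₁ := (hYZ a₁ (hUY (hNU ha₁)) z₂ hz₂).symm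
      have c3 : Commute z₁ z₂ := hZc z₁ hz₁ z₂ hz₂
      have e : ⁅a₁ * z₁, a₂ * z₂⁆ = ⁅a₁, a₂⁆ := by
        rw [commutatorElement_def, commutatorElement_def, mul_inv_rev, mul_inv_rev]
        have e1 : a₁ * z₁ * (a₂ * z₂) * (z₁⁻¹ * a₁⁻¹) = a₁ * a₂ * a₁⁻¹ * z₂ := by
          calc a₁ * z₁ * (a₂ * z₂) * (z₁⁻¹ * a₁⁻¹)
              = a₁ * (z₁ * (a₂ * z₂)) * z₁⁻¹ * a₁⁻¹ := by group
            _ = a₁ * ((a₂ * z₂) * z₁) * z₁⁻¹ * a₁⁻¹ := by rw [(c1.mul_right c3).eq]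
            _ = a₁ * a₂ * (z₂ * a₁⁻¹) := by group
            _ = a₁ * a₂ * (a₁⁻¹ * z₂) := by rw [c2.inv_right.eq]
            _ = _ := by group
        rw [e1]; group
      rw [e]
      exact Subgroup.commutator_mem_commutator ha₁ ha₂
    rcases eq_or_ne (⁅U, U⁆ : Subgroup H) ⊥ with h0 | h0
    · exact hxy ((h0 ▸ Subgroup.commutator_mem_commutator hx hy : ⁅x, y⁆ ∈ (⊥ : Subgroup H)) ▸
        Z.one_mem)
    · exact (Group.IsSolvable.commutator_lt_of_ne_bot h0).not_ge hle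
  have hcom : ∀ x ∈ U, ∀ y ∈ U, ∀ u ∈ U, Commute ⁅x, y⁆ u := fun x hx y hy u hu =>
    (hYZ u (hUY hu) _ (hUc x hx y hy)).symm
  -- a Sylow subgroup of `U`
  have hnil : Group.IsNilpotent U := by
    have hZsub : Z.subgroupOf U ≤ Subgroup.center U := fun z hz =>
      Subgroup.mem_center_iff.2 fun u => Subtype.ext (hYZ u (hUY u.2) z hz)
    let _ : CommGroup (U ⧸ Z.subgroupOf U) :=
      { (inferInstance : Group (U ⧸ Z.subgroupOf U)) with
        mul_comm := fun x y => by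
          induction x using QuotientGroup.induction_on with | H x => ?_
          induction y using QuotientGroup.induction_on with | H y => ?_
          refine QuotientGroup.eq.2 ?_
          rw [Subgroup.mem_subgroupOf]
          have h := hUc _ (U.inv_mem y.2) _ (U.inv_mem x.2)
          convert h using 1
          push_cast [commutatorElement_def]; group }
    exact isNilpotent_of_ker_le_center (QuotientGroup.mk' (Z.subgroupOf U))
      (by rw [QuotientGroup.ker_mk']; exact hZsub)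
  obtain ⟨t, ht, hT⟩ : ∃ (t : ℕ) (_ : Fact t.Prime), ∃ T : Sylow t U,
      ¬ (T : Subgroup U).map U.subtype ≤ Z := by
    have hidx : (Z.subgroupOf U).index ≠ 1 := fun e => hUne (le_antisymm
      (Subgroup.subgroupOf_eq_top.1 (Subgroup.index_eq_one.1 e)) hZU)
    obtain ⟨p, hp, hpd⟩ := Nat.exists_prime_and_dvd hidx
    have : Fact p.Prime := ⟨hp⟩
    obtain ⟨T⟩ : Nonempty (Sylow p U) := inferInstance
    refine ⟨p, ⟨hp⟩, T, fun h => T.not_dvd_index (hpd.trans (Subgroup.index_dvd_of_le ?_))⟩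
    exact fun w hw => Subgroup.mem_subgroupOf.2 (h ⟨w, hw, rfl⟩)
  obtain ⟨T, hTZ⟩ := hT
  set U₀ := (T : Subgroup U).map U.subtype with hU₀
  have hTn : (T : Subgroup U).Characteristic := Sylow.characteristic_of_normal T inferInstance
  have hU₀n : U₀.Normal := ConjAct.normal_of_characteristic_of_normal
  have hU₀U : U₀ ≤ U := Subgroup.map_subtype_le _
  have hU₀p : IsPGroup t U₀ := T.isPGroup'.map _
  have hU₀K : U₀ ≤ K := hU₀U.trans (hUY.trans inf_le_left)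
  have hU₀Z : ∀ u ∈ U₀, ∀ z ∈ Z, Commute u z := fun u hu z hz => hYZ u (hUY (hU₀U hu)) z hz
  have hgen := hsplit U₀ hU₀n hU₀U hTZ
  have hncomm : ∃ x ∈ U₀, ∃ y ∈ U₀, ¬ Commute x y := by
    by_contra h
    push Not at h
    exact hTZ (habZ U₀ hU₀n (hU₀U.trans hUY) h)
  have hcen : ∀ x ∈ U₀, (∀ y ∈ U₀, Commute x y) → x ∈ Z := by
    intro x hx hxc
    exact habZ (U₀ ⊓ Subgroup.centralizer (U₀ : Set H)) inferInstance
      (inf_le_left.trans (hU₀U.trans hUY))
      (fun u hu w hw => (Subgroup.mem_centralizer_iff.1 hw.2 u hu.1))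
      ⟨hx, Subgroup.mem_centralizer_iff.2 fun y hy => (hxc y hy).symm⟩
  -- exponent `t` modulo `Z`
  have hexp : ∀ x ∈ U₀, x ^ t ∈ Z := by
    let N : Subgroup H :=
      { carrier := {x | x ∈ U₀ ∧ x ^ t ∈ Z}
        one_mem' := ⟨U₀.one_mem, by simp⟩
        mul_mem' := fun {x y} hx hy => ⟨U₀.mul_mem hx.1 hy.1, by
          have hc : Commute (QuotientGroup.mk' Z x) (QuotientGroup.mk' Z y) := by
            rw [Commute, SemiconjBy, ← map_mul, ← map_mul, QuotientGroup.mk'_eq_mk']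
            have h := hUc _ (U.inv_mem (hU₀U hy.1)) _ (U.inv_mem (hU₀U hx.1))
            exact ⟨_, h, by rw [commutatorElement_def]; group⟩
          rw [← QuotientGroup.eq_one_iff, ← QuotientGroup.mk'_apply, map_pow, map_mul, hc.mul_pow,
            ← map_pow, ← map_pow, QuotientGroup.mk'_apply, QuotientGroup.mk'_apply,
            (QuotientGroup.eq_one_iff _).2 hx.2, (QuotientGroup.eq_one_iff _).2 hy.2, one_mul]⟩
        inv_mem' := fun {x} hx => ⟨U₀.inv_mem hx.1, by rw [inv_pow]; exact Z.inv_mem hx.2⟩ }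
    have hNn : N.Normal := ⟨fun x hx h => ⟨hU₀n.conj_mem x hx.1 h, by
      rw [conj_pow]; exact hZn.conj_mem _ hx.2 h⟩⟩
    have hNZ : ¬ N ≤ Z := by
      intro h
      obtain ⟨x, hx, hxZ⟩ := SetLike.not_le_iff_exists.1 hTZ
      obtain ⟨k, hk⟩ := hU₀p ⟨x, hx⟩
      have hxk : x ^ t ^ k = 1 := congrArg Subtype.val hk
      -- descend to an element with `t`-th power in `Z`
      have : ∀ k : ℕ, x ^ t ^ k ∈ Z → x ∈ Z := by
        intro k
        induction k with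
        | zero => simp
        | succ k ih =>
          intro hk
          refine ih (h ⟨U₀.pow_mem hx _, ?_⟩)
          rwa [← pow_mul, ← pow_succ]
      exact hxZ (this k (by rw [hxk]; exact Z.one_mem))
    intro x hx
    have hxN : x ∈ N ⊔ Z := (hsplit N hNn (fun u hu => hU₀U hu.1) hNZ).symm ▸ hU₀U hx
    obtain ⟨n, hn, z, hz, rfl⟩ := Subgroup.mem_sup_of_normal_right.1 hxN
    rw [(hU₀Z n hn.1 z hz).mul_pow]
    exact Z.mul_mem hn.2 (Z.pow_mem hz t)
  have hct : ∀ x ∈ U₀, ∀ y ∈ U₀, ⁅x, y⁆ ^ t = 1 := by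
    intro x hx y hy
    set c := ⁅x, y⁆ with hc
    have hcx : Commute c x := hcom x (hU₀U hx) y (hU₀U hy) x (hU₀U hx)
    have hn : ∀ n : ℕ, x ^ n * y * (x ^ n)⁻¹ = c ^ n * y := fun n => by
      induction n with
      | zero => simp
      | succ n ih =>
        calc x ^ (n + 1) * y * (x ^ (n + 1))⁻¹ = x * (x ^ n * y * (x ^ n)⁻¹) * x⁻¹ := by
              rw [pow_succ']; group
          _ = (x * c ^ n) * y * x⁻¹ := by rw [ih]; group
          _ = (c ^ n * x) * y * x⁻¹ := by rw [(hcx.pow_left n).eq]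
          _ = c ^ n * (c * y) := by rw [hc, commutatorElement_def]; group
          _ = _ := by rw [pow_succ]; group
    have h := hn t
    rw [(hU₀Z y hy _ (hexp x hx)).symm.eq, mul_inv_cancel_right] at h
    exact right_eq_mul.1 h
  obtain ⟨ζ, hζU, hζZ, hζ1, hζt⟩ : ∃ ζ, ζ ∈ U₀ ∧ ζ ∈ Z ∧ ζ ≠ 1 ∧ ζ ^ t = 1 := by
    obtain ⟨x, hx, y, hy, hxy⟩ := hncomm
    exact ⟨⁅x, y⁆, U₀.mul_mem (U₀.mul_mem (U₀.mul_mem hx hy) (U₀.inv_mem hx)) (U₀.inv_mem hy),
      hUc x (hU₀U hx) y (hU₀U hy), fun e => hxy (commutatorElement_eq_one_iff_commute.1 e),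
      hct x hx y hy⟩
  have hζo : orderOf ζ = t := orderOf_eq_prime hζt hζ1
  have htors : ∀ z ∈ Z, z ^ t = 1 → z ∈ Subgroup.zpowers ζ := by
    intro z hz hzt
    have := Fintype.ofFinite Z
    have hs := IsCyclic.card_pow_eq_one_le (α := Z) ht.out.pos
    by_contra hnot
    have h1 : (insert (⟨z, hz⟩ : Z) ((Finset.range t).image fun n => (⟨ζ, hζZ⟩ : Z) ^ n)) ⊆
        Finset.univ.filter (fun w : Z => w ^ t = 1) := by
      intro w hw
      refine Finset.mem_filter.2 ⟨Finset.mem_univ _, ?_⟩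
      rcases Finset.mem_insert.1 hw with rfl | hw
      · exact Subtype.ext hzt
      · obtain ⟨n, -, rfl⟩ := Finset.mem_image.1 hw
        exact Subtype.ext (by
          show (ζ ^ n) ^ t = 1
          rw [← pow_mul, mul_comm, pow_mul, hζt, one_pow])
    have h2 := (Finset.card_le_card h1).trans hs
    rw [Finset.card_insert_of_notMem, Finset.card_image_of_injOn, Finset.card_range] at h2
    · omega
    · intro m hm n hn e
      exact pow_injOn_Iio_orderOf (x := ζ) (by rw [Set.mem_Iio, hζo]; exact Finset.mem_range.1 hm)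
        (by rw [Set.mem_Iio, hζo]; exact Finset.mem_range.1 hn) (congrArg Subtype.val e)
    · intro hmem
      obtain ⟨n, -, hn⟩ := Finset.mem_image.1 hmem
      exact hnot ⟨n, by simpa using congrArg Subtype.val hn⟩
  have hqt : q ≠ t := fun e => by
    have h1 : t ∣ Nat.card K := hζo ▸ Subgroup.orderOf_dvd_natCard K (hU₀K hζU)
    exact (S.prime.coprime_iff_not_dvd).1 S.cop (e ▸ h1)
  -- `a` moves `U₀`
  have hmove : ¬ ∀ u ∈ U₀, Commute a u := by
    intro hc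
    have hcU : ∀ u ∈ U, Commute a u := fun u hu => by
      rw [← hgen, Subgroup.mem_sup_of_normal_right] at hu
      obtain ⟨x, hx, z, hz, rfl⟩ := hu
      exact (hc x hx).mul_right (haZ z hz)
    have hDC : D ≤ Subgroup.centralizer (U : Set H) := by
      refine sup_le (Subgroup.normalClosure_le_normal ?_) fun z hz =>
        Subgroup.mem_centralizer_iff.2 fun u hu => hYZ u (hUY hu) z hz
      rintro d ⟨k, hk, rfl⟩
      exact Subgroup.mem_centralizer_iff.2 fun u hu =>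
        (((S.conj_centralises hUn hcU k u hu).mul_left (hcU u hu).inv_left)).symm
    exact hUne (le_antisymm (habZ U hUn hUY fun x hx y hy =>
      Subgroup.mem_centralizer_iff.1 (hDC (hUD hy)) x hx) hZU)
  -- a vector with largest stabiliser in `U₀`
  have : Fintype V := Fintype.ofFinite V
  obtain ⟨v, hvm, hvmax⟩ := Finset.exists_max_image (Finset.univ.filter fun v : V => v ≠ 1)
    (fun v => Nat.card ↥(U₀ ⊓ MulAction.stabilizer H v)) (by
      obtain ⟨w, hw⟩ := exists_ne (1 : V)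
      exact ⟨w, by simp [hw]⟩)
  have hv : v ≠ 1 := by simpa using hvm
  set E := U₀ ⊓ MulAction.stabilizer H v with hE
  obtain ⟨k, hk, hkv, hkc⟩ := S.fix v hv
  set a' := k * a * k⁻¹ with ha'
  have haE : ∀ e ∈ E, Commute a' e := fun e he => (hkc e (hU₀K he.1) he.2).symm
  have ha'Z : ∀ z ∈ Z, Commute a' z := S.conj_centralises hZn haZ k
  have ha'q : a' ^ q = 1 := S.pow_q k
  have ha'not : ¬ ∀ u ∈ U₀, Commute a' u := fun h => hmove (S.centralises_of_conj hU₀n h)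
  have hEE : ∀ e ∈ E, ∀ f ∈ E, Commute e f := by
    intro e he f hf
    have h1 : ⁅e, f⁆ ∈ MulAction.stabilizer H v :=
      mul_mem (mul_mem (mul_mem he.2 hf.2) (inv_mem he.2)) (inv_mem hf.2)
    have h2 := hUc e (hU₀U he.1) f (hU₀U hf.1)
    by_contra hne
    exact hv (hfpf _ h2 (fun h => hne (commutatorElement_eq_one_iff_commute.1 h)) v h1)
  -- the maximality
  have hmaxE : ∀ x ∈ U₀, (∀ e ∈ E, Commute x e) → x ^ t = 1 → ∃ e ∈ E, x * e⁻¹ ∈ Z := by
    intro x hx hxE hxt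
    by_cases hxz : x ∈ Subgroup.zpowers ζ
    · exact ⟨1, E.one_mem, by simpa using (Subgroup.zpowers_le.2 hζZ) hxz⟩
    have hW : fixV V E ≠ ⊥ := fun h =>
      hv ((Subgroup.eq_bot_iff_forall _).1 h v fun e he => he.2)
    have hWinv : ∀ g : H, (∀ e ∈ E, Commute g e) → ∀ w ∈ fixV V E, g • w ∈ fixV V E :=
      fun g hg w hw e he => by rw [← mul_smul, ← (hg e he).eq, mul_smul, hw e he]
    obtain ⟨i, j, hne, w, hw, hw1, hfix⟩ := exists_fix_pair ht.out (hU₀Z x hx ζ hζZ) hxt hζt hζ1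
      hxz hW (hWinv x hxE) (hWinv ζ fun e he => (hU₀Z e he.1 ζ hζZ).symm)
    have hle : E ≤ U₀ ⊓ MulAction.stabilizer H w := fun e he => ⟨he.1, hw e he⟩
    have heq : E = U₀ ⊓ MulAction.stabilizer H w :=
      Subgroup.eq_of_le_of_card_ge hle (hvmax w (by simp [hw1]))
    have hm : x ^ i * ζ ^ j ∈ E :=
      heq ▸ ⟨U₀.mul_mem (U₀.pow_mem hx i) (U₀.pow_mem hζU j), hfix⟩
    have hi : ¬ t ∣ i := by
      rintro ⟨i', rfl⟩
      rw [pow_mul, hxt, one_pow, one_mul] at hne hfix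
      exact hw1 (hfpf _ (Z.pow_mem hζZ j) hne w hfix)
    have hit : Nat.Coprime i t := (ht.out.coprime_iff_not_dvd.2 hi).symm
    obtain ⟨m, -, hm'⟩ := Nat.exists_mul_mod_eq_one_of_coprime hit ht.out.one_lt
    have hxm : x = (x ^ i) ^ m := by
      rw [← pow_mul, pow_eq_pow_mod _ hxt, hm', pow_one]
    refine ⟨(x ^ i * ζ ^ j) ^ m, E.pow_mem hm m, ?_⟩
    rw [((hU₀Z x hx ζ hζZ).pow_pow i j).mul_pow, ← hxm, mul_inv_rev, ← mul_assoc]
    rw [show x * ((ζ ^ j) ^ m)⁻¹ * x⁻¹ = ((ζ ^ j) ^ m)⁻¹ by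
      rw [(((hU₀Z x hx ζ hζZ).pow_right j).pow_right m).inv_right.eq, mul_inv_cancel_right]]
    exact Z.inv_mem (Z.pow_mem (Z.pow_mem hζZ j) m)
  have hInE : ∀ x, (∃ e ∈ E, x * e⁻¹ ∈ Z) → Commute a' x := by
    rintro x ⟨e, he, hxe⟩
    have := (ha'Z _ hxe).mul_right (haE e he)
    rwa [inv_mul_cancel_right] at this
  -- defects commute with `E`
  have hdef : ∀ x ∈ U₀, a' * x * a'⁻¹ * x⁻¹ ∈ U₀ ∧ ∀ e ∈ E, Commute (a' * x * a'⁻¹ * x⁻¹) e := by
    intro x hx
    refine ⟨U₀.mul_mem (hU₀n.conj_mem x hx a') (U₀.inv_mem hx), fun e he => ?_⟩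
    set c := ⁅x, e⁆ with hc
    have h1 : a' * c * a'⁻¹ = c :=
      mul_inv_eq_iff_eq_mul.2 (ha'Z c (hUc x (hU₀U hx) e (hU₀U he.1))).eq
    have h2 : a' * e * a'⁻¹ = e := mul_inv_eq_iff_eq_mul.2 (haE e he).eq
    set d := a' * x * a'⁻¹ * x⁻¹ with hd
    have hdU : d ∈ U₀ := U₀.mul_mem (hU₀n.conj_mem x hx a') (U₀.inv_mem hx)
    have h3 : ⁅d * x, e⁆ = c := by
      have : ⁅a' * x * a'⁻¹, a' * e * a'⁻¹⁆ = a' * c * a'⁻¹ := by
        rw [hc, commutatorElement_def, commutatorElement_def]; group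
      rw [h1, h2] at this
      rwa [show d * x = a' * x * a'⁻¹ by rw [hd]; group]
    have hcd : Commute d c := (hcom x (hU₀U hx) e (hU₀U he.1) d (hU₀U hdU)).symm
    have h4 : d * (c * e) * d⁻¹ = c * e := by
      have e1 : d * x * e * (d * x)⁻¹ = d * (c * e) * d⁻¹ := by
        rw [hc, commutatorElement_def]; group
      rw [← e1]
      rw [commutatorElement_def] at h3
      rw [← h3]; group
    have h5 : d * (c * e) = (c * e) * d := mul_inv_eq_iff_eq_mul.1 h4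
    have h6 : c * (d * e) = c * (e * d) := by
      rw [← mul_assoc, ← hcd.eq, mul_assoc, h5, mul_assoc]
    exact mul_left_cancel h6
  by_cases hall : ∀ x ∈ U₀, (∀ e ∈ E, Commute x e) → Commute a' x
  · refine absurd (fun x hx => ?_) ha'not
    obtain ⟨hdU, hdE⟩ := hdef x hx
    exact commute_of_defect ha'q S.cop (hU₀K hdU) (hall _ hdU hdE)
  push Not at hall
  obtain ⟨x, hx, hxE, hxa⟩ := hall
  -- `t = 2`
  have hroot : ∀ w ∈ U₀, (∀ e ∈ E, Commute w e) → ∀ z, z ∈ U₀ → z ∈ Z → w ^ t = z ^ t →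
      ∃ e ∈ E, w * e⁻¹ ∈ Z := by
    intro w hw hwE z hzU hz hwz
    have hc := hU₀Z w hw z hz
    obtain ⟨e, he, hez⟩ := hmaxE (w * z⁻¹) (U₀.mul_mem hw (U₀.inv_mem hzU))
      (fun e he => (hwE e he).mul_left (hU₀Z e he.1 z hz).symm.inv_left)
      (by rw [hc.inv_right.mul_pow, hwz, inv_pow, mul_inv_cancel])
    refine ⟨e, he, ?_⟩
    have h1 : w * e⁻¹ = w * z⁻¹ * e⁻¹ * z := by
      rw [mul_assoc (w * z⁻¹), ((hU₀Z e he.1 z hz).inv_left).eq]; group
    rw [h1]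
    exact Z.mul_mem hez hz
  have ht2 : t = 2 := by
    by_contra ht2
    let N : Subgroup H :=
      { carrier := {w | w ∈ U₀ ∧ ∃ z, z ∈ U₀ ∧ z ∈ Z ∧ w ^ t = z ^ t}
        one_mem' := ⟨U₀.one_mem, 1, U₀.one_mem, Z.one_mem, rfl⟩
        mul_mem' := by
          rintro w w' ⟨hw, z, hzU, hz, e⟩ ⟨hw', z', hzU', hz', e'⟩
          refine ⟨U₀.mul_mem hw hw', z * z', U₀.mul_mem hzU hzU', Z.mul_mem hz hz', ?_⟩
          have hcw := hcom w' (hU₀U hw') w (hU₀U hw)
          rw [mul_pow_local ht.out ht2 (hcw w (hU₀U hw)) (hcw w' (hU₀U hw')) (hct w' hw' w hw), e,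
            e', (show Commute z z' from hZc z hz z' hz').mul_pow]
        inv_mem' := by
          rintro w ⟨hw, z, hzU, hz, e⟩
          exact ⟨U₀.inv_mem hw, z⁻¹, U₀.inv_mem hzU, Z.inv_mem hz, by
            rw [inv_pow, inv_pow, e]⟩ }
    have hNn : N.Normal := ⟨fun w hw h => by
      obtain ⟨hw, z, hzU, hz, e⟩ := hw
      exact ⟨hU₀n.conj_mem w hw h, h * z * h⁻¹, hU₀n.conj_mem z hzU h, hZn.conj_mem z hz h,
        by rw [conj_pow, conj_pow, e]⟩⟩
    by_cases hNZ : N ≤ Z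
    · obtain ⟨u, hu, w, hw, huw⟩ := hncomm
      -- the `t`-th powers lie in a cyclic `t`-group
      have := hZcyc
      have hcyc2 : IsCyclic ↥(U₀ ⊓ Z) := Subgroup.isCyclic_of_le (inf_le_right : U₀ ⊓ Z ≤ Z)
      obtain ⟨⟨g, hg⟩, hgen⟩ := hcyc2
      have hlog : ∀ y ∈ U₀, ∃ i : ℤ, g ^ i = y ^ t := fun y hy => by
        obtain ⟨i, hi⟩ := hgen ⟨y ^ t, U₀.pow_mem hy t, hexp y hy⟩
        exact ⟨i, by simpa using congrArg Subtype.val hi⟩
      have hcase : ∀ y ∈ U₀, ∀ i : ℤ, g ^ i = y ^ t → (t : ℤ) ∣ i → y ∈ Z := by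
        rintro y hy i hi ⟨i', rfl⟩
        exact hNZ ⟨hy, g ^ i', U₀.zpow_mem hg.1 i', Z.zpow_mem hg.2 i', by
          rw [← hi, ← zpow_natCast, ← zpow_mul, mul_comm]⟩
      obtain ⟨i, hi⟩ := hlog u hu
      by_cases hti : (t : ℤ) ∣ i
      · exact huw (hU₀Z w hw u (hcase u hu i hi hti)).symm
      obtain ⟨j, hj⟩ := hlog w hw
      obtain ⟨α, β, hαβ⟩ : ∃ α β : ℤ, α * i + β * t = 1 := by
        have : IsCoprime i (t : ℤ) :=
          ((Nat.prime_iff_prime_int.1 ht.out).coprime_iff_not_dvd.2 hti).symm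
        exact this
      set m := α * j
      have hmem : w * (u ^ m)⁻¹ ∈ Z := by
        refine hcase _ (U₀.mul_mem hw (U₀.inv_mem (U₀.zpow_mem hu m))) (j * β * t) ?_
          (dvd_mul_left _ _)
        have hum := U₀.inv_mem (U₀.zpow_mem hu m)
        have hcw := hcom _ (hU₀U hum) w (hU₀U hw)
        rw [mul_pow_local ht.out ht2 (hcw w (hU₀U hw)) (hcw _ (hU₀U hum)) (hct _ hum w hw), ← hj,
          inv_pow, show (u ^ m) ^ t = (u ^ t) ^ m by
            rw [← zpow_natCast (u ^ m), ← zpow_mul, mul_comm, zpow_mul, zpow_natCast], ← hi,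
          ← zpow_mul, ← zpow_neg, ← zpow_add]
        congr 1
        linear_combination j * hαβ
      have h2 : Commute u (w * (u ^ m)⁻¹ * u ^ m) :=
        (hU₀Z u hu _ hmem).mul_right ((Commute.refl u).zpow_right m)
      rw [inv_mul_cancel_right] at h2
      exact huw h2
    · have hs := hsplit N hNn (fun w hw => hU₀U hw.1) hNZ
      have hxN : x ∈ N ⊔ Z := hs.symm ▸ hU₀U hx
      obtain ⟨n, ⟨hn, z, hzU, hz, hnz⟩, z', hz', rfl⟩ := Subgroup.mem_sup_of_normal_right.1 hxN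
      refine hxa (hInE _ (hroot (n * z') hx hxE (z * z') (U₀.mul_mem hzU ?_) (Z.mul_mem hz hz') ?_))
      · have := U₀.mul_mem (U₀.inv_mem hn) hx
        rwa [inv_mul_cancel_left] at this
      · rw [(hU₀Z n hn z' hz').mul_pow, (show Commute z z' from hZc z hz z' hz').mul_pow, hnz]
  subst ht2
  have hqodd : q ≠ 2 := hqt
  -- squares
  have hQ : ∀ w ∈ U₀, (∀ e ∈ E, Commute w e) → ¬ (∃ e ∈ E, w * e⁻¹ ∈ Z) →
      ¬ ∃ z, z ∈ U₀ ∧ z ∈ Z ∧ w ^ 2 = z ^ 2 := fun w hw hwE hnot ⟨z, hzU, hz, e⟩ =>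
    hnot (hroot w hw hwE z hzU hz e)
  have hζ2 : ∀ z ∈ Z, z ^ 2 = 1 → z = 1 ∨ z = ζ := by
    intro z hz hz2
    obtain ⟨n, rfl⟩ := Subgroup.mem_zpowers_iff.1 (htors z hz hz2)
    rcases Int.even_or_odd' n with ⟨m, rfl | rfl⟩
    · left; rw [zpow_mul, zpow_ofNat, hζt, one_zpow]
    · right; rw [zpow_add_one, zpow_mul, zpow_ofNat, hζt, one_zpow, one_mul]
  -- coset representatives
  set y := a' * x * a'⁻¹ with hy
  have hyU : y ∈ U₀ := hU₀n.conj_mem x hx a'
  have hyE : ∀ e ∈ E, Commute y e := fun e he => by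
    have := (Commute.conj_iff a').2 (hxE e he)
    rwa [mul_inv_eq_iff_eq_mul.2 (haE e he).eq] at this
  let inEZ : H → Prop := fun w => ∃ e ∈ E, w * e⁻¹ ∈ Z
  have hin_mul : ∀ w w', inEZ w → inEZ w' → inEZ (w * w') := by
    rintro w w' ⟨e, he, h⟩ ⟨f, hf, h'⟩
    refine ⟨e * f, E.mul_mem he hf, ?_⟩
    have : w * w' * (e * f)⁻¹ = (w * e⁻¹) * (e * (w' * f⁻¹) * e⁻¹) := by group
    rw [this]
    exact Z.mul_mem h (hZn.conj_mem _ h' e)
  have hin_inv : ∀ w, inEZ w → inEZ w⁻¹ := by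
    rintro w ⟨e, he, h⟩
    refine ⟨e⁻¹, E.inv_mem he, ?_⟩
    have : w⁻¹ * e⁻¹⁻¹ = e⁻¹ * (w * e⁻¹)⁻¹ * e⁻¹⁻¹ := by group
    rw [this]
    exact hZn.conj_mem _ (Z.inv_mem h) _
  have hin_Z : ∀ z ∈ Z, inEZ z := fun z hz => ⟨1, E.one_mem, by simpa using hz⟩
  have hxn : ¬ inEZ x := fun h => hxa (hInE x h)
  have hyn : ¬ inEZ y := fun h => by
    have h1 : Commute a' y := hInE y h
    exact hxa (by rw [hy] at h1; exact (Commute.conj_iff a').1 (by simpa using h1))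
  have hxyn : ¬ inEZ (x * y) := by
    intro h
    have h1 : inEZ (y * x⁻¹) := by
      have h2 := hin_mul _ _ (hin_inv _ (hin_Z _ (hexp x hx))) h
      rw [show (x ^ 2)⁻¹ * (x * y) = x⁻¹ * y by rw [sq]; group] at h2
      obtain ⟨e, he, hz⟩ := h2
      have h3 : ∀ w, inEZ w → Commute w x → inEZ (x * w * x⁻¹) := fun w hw hc => by
        rwa [hc.symm.eq, mul_inv_cancel_right]
      have hc : Commute (x⁻¹ * y) x := by
        have := ((hxE e he).mul_right (hU₀Z x hx _ hz))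
        have h4 : Commute x (x⁻¹ * y * e⁻¹ * e) := (hU₀Z x hx _ hz).mul_right (hxE e he)
        rw [inv_mul_cancel_right] at h4
        exact h4.symm
      have := h3 _ ⟨e, he, hz⟩ hc
      rwa [show x * (x⁻¹ * y) * x⁻¹ = y * x⁻¹ by group] at this
    exact hxa (commute_of_defect ha'q S.cop (hU₀K (U₀.mul_mem hyU (U₀.inv_mem hx)))
      (hInE _ h1))
  -- two anticommuting elements
  have hpair : ∀ w w', w ∈ U₀ → w' ∈ U₀ → (∀ e ∈ E, Commute w e) → (∀ e ∈ E, Commute w' e) →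
      ¬ inEZ w → ¬ inEZ w' → ¬ inEZ (w * w') →
      ⁅w', w⁆ = ζ ∧ (∀ z, z ∈ U₀ → z ∈ Z → z = 1 ∨ z = ζ) ∧ w ^ 2 = ζ := by
    intro w w' hw hw' hwE hw'E h1 h2 h3
    have q1 := hQ w hw hwE h1
    have q2 := hQ w' hw' hw'E h2
    have q3 := hQ (w * w') (U₀.mul_mem hw hw') (fun e he => (hwE e he).mul_left (hw'E e he)) h3
    obtain ⟨⟨g, hg⟩, hgen⟩ := (Subgroup.isCyclic_of_le (inf_le_right : U₀ ⊓ Z ≤ Z) :
      IsCyclic ↥(U₀ ⊓ Z))
    have hlog : ∀ z, z ∈ U₀ → z ∈ Z → ∃ i : ℤ, g ^ i = z := fun z hzU hz => by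
      obtain ⟨i, hi⟩ := hgen ⟨z, hzU, hz⟩
      exact ⟨i, by simpa using congrArg Subtype.val hi⟩
    have hoddlog : ∀ u ∈ U₀, (¬ ∃ z, z ∈ U₀ ∧ z ∈ Z ∧ u ^ 2 = z ^ 2) →
        ∃ m : ℤ, g ^ (2 * m + 1) = u ^ 2 := by
      intro u hu hno
      obtain ⟨i, hi⟩ := hlog _ (U₀.pow_mem hu 2) (hexp u hu)
      rcases Int.even_or_odd' i with ⟨m, rfl | rfl⟩
      · exact absurd ⟨g ^ m, U₀.zpow_mem hg.1 m, Z.zpow_mem hg.2 m, by
          rw [← hi, ← zpow_natCast, ← zpow_mul, mul_comm]; norm_num⟩ hno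
      · exact ⟨m, hi⟩
    obtain ⟨m₁, e₁⟩ := hoddlog w hw q1
    obtain ⟨m₂, e₂⟩ := hoddlog w' hw' q2
    set c := ⁅w', w⁆ with hc
    have hcU : c ∈ U₀ :=
      U₀.mul_mem (U₀.mul_mem (U₀.mul_mem hw' hw) (U₀.inv_mem hw')) (U₀.inv_mem hw)
    have hcZ : c ∈ Z := hUc w' (hU₀U hw') w (hU₀U hw)
    have hsq : (w * w') ^ 2 = w ^ 2 * w' ^ 2 * c := by
      have hcw := hcom w' (hU₀U hw') w (hU₀U hw)
      calc (w * w') ^ 2 = w * (w' * w) * w' := by rw [sq]; group
        _ = w * (c * (w * w')) * w' := by rw [hc, commutatorElement_def]; group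
        _ = w * ((w * w') * c) * w' := by
          rw [((hcw w (hU₀U hw)).mul_right (hcw w' (hU₀U hw'))).eq]
        _ = w * w * w' * (c * w') := by group
        _ = w * w * w' * (w' * c) := by rw [(hcw w' (hU₀U hw')).eq]
        _ = _ := by rw [sq, sq]; group
    have hc1 : c ≠ 1 := fun e => q3 ⟨g ^ (m₁ + m₂ + 1), U₀.zpow_mem hg.1 _, Z.zpow_mem hg.2 _, by
      rw [hsq, e, mul_one, ← e₁, ← e₂, ← zpow_add, ← zpow_natCast (g ^ _), ← zpow_mul]
      congr 1; push_cast; ring⟩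
    have hcζ : c = ζ := (hζ2 c hcZ (hct w' hw' w hw)).resolve_left hc1
    obtain ⟨i, hi⟩ := hlog c hcU hcZ
    rcases Int.even_or_odd' i with ⟨m, rfl | rfl⟩
    · refine absurd ⟨g ^ (m₁ + m₂ + 1 + m), U₀.zpow_mem hg.1 _, Z.zpow_mem hg.2 _, ?_⟩ q3
      rw [hsq, ← e₁, ← e₂, ← hi, ← zpow_add, ← zpow_add, ← zpow_natCast (g ^ _), ← zpow_mul]
      congr 1; push_cast; ring
    have hg2 : g ^ 2 = 1 := by
      have h4 : g ^ (2 * (2 * m + 1)) = 1 := by
        rw [mul_comm, zpow_mul, hi, hcζ, zpow_ofNat, hζt]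
      obtain ⟨n, hn⟩ := hU₀p ⟨g, hg.1⟩
      have hn' : g ^ ((2 ^ n : ℕ) : ℤ) = 1 := by
        rw [zpow_natCast]; exact congrArg Subtype.val hn
      have h5 : IsCoprime (((2 ^ n : ℕ) : ℤ)) (2 * m + 1) := by
        push_cast
        exact IsCoprime.pow_left ⟨-m, 1, by ring⟩
      obtain ⟨α, β, hαβ⟩ := h5
      have h6 : g ^ ((2 : ℤ)) = g ^ (((2 ^ n : ℕ) : ℤ) * (2 * α) + (2 * (2 * m + 1)) * β) := by
        congr 1; linear_combination (-2 : ℤ) * hαβ
      rw [zpow_add, zpow_mul g _ (2 * α), zpow_mul g _ β, hn', h4, one_zpow, one_zpow, one_mul] at h6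
      exact_mod_cast h6
    have hall2 : ∀ z, z ∈ U₀ → z ∈ Z → z = 1 ∨ z = ζ := fun z hzU hz => by
      obtain ⟨j, rfl⟩ := hlog z hzU hz
      refine hζ2 _ hz ?_
      rw [← zpow_natCast, ← zpow_mul, mul_comm, zpow_mul, zpow_natCast, hg2, one_zpow]
    refine ⟨hcζ, hall2, (hall2 _ (U₀.pow_mem hw 2) (hexp w hw)).resolve_left fun e => ?_⟩
    exact q1 ⟨1, U₀.one_mem, Z.one_mem, by rw [e, one_pow]⟩
  obtain ⟨hcxy, hZ2, hx2⟩ := hpair x y hx hyU hxE hyE hxn hyn hxyn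
  -- cosets of `E`
  have hEZU : ∀ w, inEZ w → w ∈ U₀ → ∃ e ∈ E, w = e ∨ w = ζ * e := by
    rintro w ⟨e, he, hz⟩ hw
    refine ⟨e, he, ?_⟩
    rcases hZ2 _ (U₀.mul_mem hw (U₀.inv_mem he.1)) hz with h | h
    · exact Or.inl (mul_inv_eq_one.1 h)
    · exact Or.inr (mul_inv_eq_iff_eq_mul.1 h)
  have hCE : ∀ w ∈ U₀, (∀ e ∈ E, Commute w e) →
      inEZ w ∨ inEZ (x * w) ∨ inEZ (y * w) ∨ inEZ (x * y * w) := by
    intro w hw hwE
    by_contra hno
    push Not at hno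
    obtain ⟨h0, h1, h2, h3⟩ := hno
    have hyw : ¬ inEZ (x * (y * w)) := by rwa [← mul_assoc]
    obtain ⟨c1, -, -⟩ := hpair x w hx hw hxE hwE hxn h0 h1
    obtain ⟨c2, -, -⟩ := hpair x (y * w) hx (U₀.mul_mem hyU hw) hxE
      (fun e he => (hyE e he).mul_left (hwE e he)) hxn h2 hyw
    have e : ⁅y * w, x⁆ = y * ⁅w, x⁆ * y⁻¹ * ⁅y, x⁆ := by
      simp only [commutatorElement_def]; group
    rw [c2, c1, hcxy, mul_inv_eq_iff_eq_mul.2 (hU₀Z y hyU ζ hζZ).eq] at e
    exact hζ1 (by simpa [← sq, hζt] using e)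
  -- the plane
  have hxy2 : x * x = ζ := by rw [← sq]; exact hx2
  have hyy : y * y = ζ := by
    rw [hy, show a' * x * a'⁻¹ * (a' * x * a'⁻¹) = a' * (x * x) * a'⁻¹ by group, hxy2,
      mul_inv_eq_iff_eq_mul.2 (ha'Z ζ hζZ).eq]
  have hyx : y * x = ζ * (x * y) := by
    rw [← hcxy, commutatorElement_def]; group
  have hζζ : ζ * ζ = 1 := by rw [← sq]; exact hζt
  have hζc : ∀ w ∈ U₀, ζ * w = w * ζ := fun w hw => (hU₀Z w hw ζ hζZ).symm.eq
  -- conjugating once more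
  set y' := a' * y * a'⁻¹ with hy'
  have hy'U : y' ∈ U₀ := hU₀n.conj_mem y hyU a'
  have hy'E : ∀ e ∈ E, Commute y' e := fun e he => by
    have := (Commute.conj_iff a').2 (hyE e he)
    rwa [mul_inv_eq_iff_eq_mul.2 (haE e he).eq] at this
  have hconj : ∀ w, inEZ w → a' * w * a'⁻¹ = w := fun w hw =>
    mul_inv_eq_iff_eq_mul.2 (hInE w hw).eq
  have hperm : inEZ (x * y * y') := by
    rcases hCE y' hy'U hy'E with h | h | h | h
    · exfalso
      have h1 : Commute a' y' := hInE _ h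
      rw [hy'] at h1
      have h2 : Commute a' y := (Commute.conj_iff a').1 (by simpa using h1)
      rw [hy] at h2
      exact hxa ((Commute.conj_iff a').1 (by simpa using h2))
    · -- period two
      exfalso
      have h2 : Commute (a' ^ 2) x := by
        have hd : a' ^ 2 * x * (a' ^ 2)⁻¹ * x⁻¹ = y' * x⁻¹ := by rw [hy', hy, sq]; group
        have hin : inEZ (y' * x⁻¹) := by
          have h' := hin_mul _ _ (hin_inv _ (hin_Z _ (hexp x hx))) h
          rw [show (x ^ 2)⁻¹ * (x * y') = x⁻¹ * y' by rw [sq]; group] at h'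
          obtain ⟨e, he, hz⟩ := h'
          have h4 : Commute x (x⁻¹ * y' * e⁻¹ * e) := (hU₀Z x hx _ hz).mul_right (hxE e he)
          rw [inv_mul_cancel_right] at h4
          rw [show y' * x⁻¹ = x * (x⁻¹ * y') * x⁻¹ by group, h4.eq, mul_inv_cancel_right]
          exact ⟨e, he, hz⟩
        refine commute_of_defect (by rw [← pow_mul, mul_comm, pow_mul, ha'q, one_pow]) S.cop
          (by rw [hd]; exact hU₀K (U₀.mul_mem hy'U (U₀.inv_mem hx))) ?_
        rw [hd]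
        exact (hInE _ hin).pow_left 2
      obtain ⟨m, hm⟩ := S.prime.odd_of_ne_two hqodd
      have h3 : Commute (a' ^ (2 * (m + 1))) x := by rw [pow_mul]; exact h2.pow_left _
      rw [show 2 * (m + 1) = q + 1 by omega, pow_succ, ha'q, one_mul] at h3
      exact hxa h3
    · exfalso
      have h1 := hconj _ h
      rw [hy', hy] at h1
      have hxy_eq : x * y = y * y' := by
        have h4 : a' * (x * y) * a'⁻¹ = y * y' := by rw [hy', hy]; group
        have h5 := hconj _ h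
        exact mul_left_cancel (mul_right_cancel (h4.trans h5.symm))
      exact hxyn (hxy_eq ▸ h)
    · exact h
  have hq3 : q = 3 := by
    by_contra hq
    have h3 : Commute (a' ^ 3) x := by
      have hd : a' ^ 3 * x * (a' ^ 3)⁻¹ * x⁻¹ = a' * y' * a'⁻¹ * x⁻¹ := by
        rw [hy', hy, pow_succ, sq]; group
      have hin : inEZ (a' * y' * a'⁻¹ * x⁻¹) := by
        have h1 := hconj _ hperm
        -- `y * y' * y'' = x * y * y'`
        have h2 : y * y' * (a' * y' * a'⁻¹) = x * y * y' := by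
          rw [← h1, hy', hy]; group
        have h4 : a' * y' * a'⁻¹ * x⁻¹ = (y * y')⁻¹ * x * (y * y') * x⁻¹ := by
          rw [show a' * y' * a'⁻¹ = (y * y')⁻¹ * (x * y * y') by rw [← h2]; group]; group
        rw [h4]
        exact hin_Z _ (by
          have h5 := hUc _ (U.inv_mem (U.mul_mem (hU₀U hyU) (hU₀U hy'U))) x (hU₀U hx)
          rwa [commutatorElement_def, inv_inv] at h5)
      refine commute_of_defect (by rw [← pow_mul, mul_comm, pow_mul, ha'q, one_pow]) S.cop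
        (by rw [hd]; exact hU₀K (U₀.mul_mem (hU₀n.conj_mem _ hy'U _) (U₀.inv_mem hx))) ?_
      rw [hd]
      exact (hInE _ hin).pow_left 3
    have hco : Nat.Coprime 3 q := (Nat.coprime_primes Nat.prime_three S.prime).2 (Ne.symm hq)
    obtain ⟨m, -, hm⟩ := Nat.exists_mul_mod_eq_one_of_coprime hco S.prime.one_lt
    apply hxa
    have := h3.pow_left m
    rwa [← pow_mul, pow_eq_pow_mod _ ha'q, hm, pow_one] at this
  refine ⟨hq3, ?_⟩
  -- the symplectic module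
  subst hq3
  set Z₂ := Z.subgroupOf U₀ with hZ₂
  let ρ : H → (U₀ ⧸ Z₂) →* (U₀ ⧸ Z₂) := fun h =>
    QuotientGroup.map Z₂ Z₂ (MulAut.conjNormal (H := U₀) h).toMonoidHom (fun u hu =>
      Subgroup.mem_subgroupOf.2 (by
        show ((MulAut.conjNormal h u : U₀) : H) ∈ Z
        rw [MulAut.conjNormal_apply]
        exact hZn.conj_mem _ (Subgroup.mem_subgroupOf.1 hu) h))
  let _ : CommGroup (U₀ ⧸ Z₂) :=
    { (inferInstance : Group (U₀ ⧸ Z₂)) with
      mul_comm := fun u w => by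
        induction u using QuotientGroup.induction_on with | H u => ?_
        induction w using QuotientGroup.induction_on with | H w => ?_
        refine QuotientGroup.eq.2 ?_
        rw [Subgroup.mem_subgroupOf]
        have h := hUc _ (U.inv_mem (hU₀U w.2)) _ (U.inv_mem (hU₀U u.2))
        convert h using 1
        push_cast [commutatorElement_def]; group }
  let act : MulDistribMulAction H (U₀ ⧸ Z₂) :=
    { smul := fun h w => ρ h w
      one_smul := fun w => by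
        induction w using QuotientGroup.induction_on with | H w => ?_
        show QuotientGroup.mk (MulAut.conjNormal (1 : H) w) = QuotientGroup.mk w
        rw [map_one, MulAut.one_apply]
      mul_smul := fun g h w => by
        induction w using QuotientGroup.induction_on with | H w => ?_
        show QuotientGroup.mk (MulAut.conjNormal (g * h) w) =
          QuotientGroup.mk (MulAut.conjNormal g (MulAut.conjNormal h w))
        rw [map_mul, MulAut.mul_apply]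
      smul_mul := fun h u w => map_mul (ρ h) u w
      smul_one := fun h => map_one (ρ h) }
  let π : ∀ u, u ∈ U₀ → U₀ ⧸ Z₂ := fun u hu => QuotientGroup.mk ⟨u, hu⟩
  have hsm : ∀ (h u : H) (hu : u ∈ U₀),
      h • π u hu = π (h * u * h⁻¹) (hU₀n.conj_mem u hu h) := fun h u hu =>
    congrArg QuotientGroup.mk (Subtype.ext (MulAut.conjNormal_apply h ⟨u, hu⟩))
  have hπeq : ∀ (u w : H) (hu : u ∈ U₀) (hw : w ∈ U₀), π u hu = π w hw ↔ u⁻¹ * w ∈ Z :=
    fun u w hu hw => QuotientGroup.eq.trans Subgroup.mem_subgroupOf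
  have hπ1 : ∀ (u : H) (hu : u ∈ U₀), π u hu = 1 ↔ u ∈ Z := fun u hu =>
    (QuotientGroup.eq_one_iff _).trans Subgroup.mem_subgroupOf
  have hπs : ∀ w : U₀ ⧸ Z₂, ∃ u hu, π u hu = w := fun w => by
    induction w using QuotientGroup.induction_on with | H u => exact ⟨u, u.2, rfl⟩
  have hπm : ∀ (u w : H) (hu : u ∈ U₀) (hw : w ∈ U₀),
      π u hu * π w hw = π (u * w) (U₀.mul_mem hu hw) := fun u w hu hw => rfl
  have h2 : ∀ w : U₀ ⧸ Z₂, w * w = 1 := fun w => by
    obtain ⟨u, hu, rfl⟩ := hπs w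
    rw [hπm, hπ1, ← sq]
    exact hexp u hu
  have hinv2 : ∀ w : U₀ ⧸ Z₂, w⁻¹ = w := fun w => inv_eq_of_mul_eq_one_right (h2 w)
  have hdiv : ∀ u w : U₀ ⧸ Z₂, u / w = u * w := fun u w => by rw [div_eq_mul_inv, hinv2]
  have h2l : ∀ u w : U₀ ⧸ Z₂, u * (u * w) = w := fun u w => by rw [← mul_assoc, h2, one_mul]
  -- the images
  set X := π x hx
  set Y' := π y hyU
  set Y'' := π y' hy'U
  have hsX : a' • X = Y' := hsm a' x hx
  have hsY : a' • Y' = Y'' := hsm a' y hyU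
  have hperm' : ∃ e ∈ E, ∃ he : e ∈ U₀, X * Y' * Y'' = π e he := by
    obtain ⟨e, he, hz⟩ := hperm
    refine ⟨e, he, he.1, ?_⟩
    rw [hπm, hπm, hπeq]
    have := Z.inv_mem (hZn.conj_mem _ hz e⁻¹)
    convert this using 1; group
  obtain ⟨e₁, he₁, he₁U, he₁eq⟩ := hperm'
  set E₁ := π e₁ he₁U
  have hsE : ∀ e (he : e ∈ E), a' • π e he.1 = π e he.1 := fun e he => by
    rw [hsm]
    congr 1
    exact mul_inv_eq_iff_eq_mul.2 (haE e he).eq
  have hY'' : Y'' = X * Y' * E₁ := by rw [← he₁eq, h2l]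
  set p₁ := X * Y'
  set p₂ := X * E₁
  set p₃ := Y' * E₁
  have hp₁₂ : p₁ * p₂ = p₃ := by
    show X * Y' * (X * E₁) = Y' * E₁
    rw [mul_mul_mul_comm, h2, one_mul]
  have hs1 : a' • p₁ = p₂ := by
    show a' • (X * Y') = X * E₁
    rw [smul_mul', hsX, hsY, hY'', mul_assoc X, mul_left_comm, h2l]
  have hs2 : a' • p₂ = p₃ := by
    show a' • (X * E₁) = Y' * E₁
    rw [smul_mul', hsX, hsE e₁ he₁]
  have hs3 : a' • p₃ = p₁ := by
    show a' • (Y' * E₁) = X * Y'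
    rw [smul_mul', hsY, hsE e₁ he₁, hY'', mul_assoc, h2, mul_one]
  have hp1ne : p₁ ≠ 1 := fun e => hxyn (hin_Z _ ((hπ1 _ _).1 e))
  have hp2ne : p₂ ≠ 1 := fun e => by
    have e' := e; rw [← hs1] at e'
    exact hp1ne (smul_left_cancel a' (e'.trans (smul_one a').symm))
  have hp3ne : p₃ ≠ 1 := fun e => by
    have e' := e; rw [← hs2] at e'
    exact hp2ne (smul_left_cancel a' (e'.trans (smul_one a').symm))
  let P : Subgroup (U₀ ⧸ Z₂) :=
    { carrier := {1, p₁, p₂, p₃}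
      one_mem' := Or.inl rfl
      mul_mem' := by
        have h21 : p₂ * p₁ = p₃ := by rw [mul_comm, hp₁₂]
        have h13 : p₁ * p₃ = p₂ := by rw [← hp₁₂, h2l]
        have h23 : p₂ * p₃ = p₁ := by rw [← h21, h2l]
        have h31 : p₃ * p₁ = p₂ := by rw [mul_comm, h13]
        have h32 : p₃ * p₂ = p₁ := by rw [mul_comm, h23]
        rintro u w (rfl | rfl | rfl | rfl) (rfl | rfl | rfl | rfl) <;>
          simp [h2, hp₁₂, h21, h13, h23, h31, h32]
      inv_mem' := fun {u} hu => by rwa [hinv2] }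
  have hPfpf : ∀ p ∈ P, a' • p = p → p = 1 := by
    have h12 : p₂ ≠ p₁ := fun e => hp3ne (by rw [← hp₁₂, e, h2])
    have h23 : p₃ ≠ p₂ := fun e => h12 (smul_left_cancel a' (by rw [hs2, hs1, e]))
    have h31 : p₁ ≠ p₃ := fun e => h23 (smul_left_cancel a' (by rw [hs3, hs2, e]))
    rintro p (rfl | rfl | rfl | rfl) hp
    · rfl
    · exact absurd (hs1.symm.trans hp) h12
    · exact absurd (hs2.symm.trans hp) h23
    · exact absurd (hs3.symm.trans hp) h31
  -- the defects lie in the plane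
  have hnorm : ∀ p ∈ P, p * a' • p * a' • a' • p = 1 := by
    rintro p (rfl | rfl | rfl | rfl)
    · simp
    · rw [hs1, hs2, hp₁₂, h2]
    · rw [hs2, hs3, show p₂ * p₃ = p₁ by rw [← hp₁₂, mul_comm p₁, h2l], h2]
    · rw [hs3, hs1, show p₃ * p₁ = p₂ by rw [mul_comm, ← hp₁₂, h2l], h2]
  have hcube : ∀ w : U₀ ⧸ Z₂, a' • a' • a' • w = w := fun w => by
    rw [← mul_smul, ← mul_smul, show a' * a' * a' = a' ^ 3 by rw [pow_succ, sq], ha'q, one_smul]
  have hpm : ∀ w : U₀ ⧸ Z₂, a' • w / w ∈ P := by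
    intro w
    obtain ⟨u, hu, rfl⟩ := hπs w
    obtain ⟨hdU, hdE⟩ := hdef u hu
    set d := a' * u * a'⁻¹ * u⁻¹
    have hd : a' • π u hu / π u hu = π d hdU := by
      rw [hsm, div_eq_mul_inv]; rfl
    rw [hd]
    -- the component in `P`
    obtain ⟨p, hp, e, he, heq⟩ : ∃ p ∈ P, ∃ e, ∃ he : e ∈ E, π d hdU = p * π e he.1 := by
      have key : ∀ (r : H) (hr : r ∈ U₀), inEZ (r * d) →
          ∃ e, ∃ he : e ∈ E, π r hr * π d hdU = π e he.1 := by
        rintro r hr ⟨e, he, hz⟩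
        refine ⟨e, he, ?_⟩
        rw [hπm, hπeq]
        have := Z.inv_mem (hZn.conj_mem _ hz e⁻¹)
        convert this using 1; group
      rcases hCE d hdU hdE with ⟨e, he, hz⟩ | h | h | h
      · exact ⟨1, P.one_mem, e, he, by
          rw [one_mul, hπeq]
          have := Z.inv_mem (hZn.conj_mem _ hz e⁻¹)
          convert this using 1; group⟩
      · obtain ⟨e, he, h⟩ := key x hx h
        refine ⟨p₂, Or.inr (Or.inr (Or.inl rfl)), e₁ * e, E.mul_mem he₁ he, ?_⟩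
        rw [← hπm e₁ e he₁U he.1]
        show π d hdU = X * E₁ * (E₁ * π e he.1)
        rw [mul_assoc, h2l, ← h, h2l]
      · obtain ⟨e, he, h⟩ := key y hyU h
        refine ⟨p₃, Or.inr (Or.inr (Or.inr rfl)), e₁ * e, E.mul_mem he₁ he, ?_⟩
        rw [← hπm e₁ e he₁U he.1]
        show π d hdU = Y' * E₁ * (E₁ * π e he.1)
        rw [mul_assoc, h2l, ← h, h2l]
      · obtain ⟨e, he, h⟩ := key (x * y) (U₀.mul_mem hx hyU) h
        refine ⟨p₁, Or.inr (Or.inl rfl), e, he, ?_⟩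
        rw [← h]
        exact (h2l p₁ (π d hdU)).symm
    have htel : π d hdU * a' • π d hdU * a' • a' • π d hdU = 1 := by
      have h := hcube (π u hu)
      rw [← hd]; simp only [smul_div']; rw [h, hdiv, hdiv, hdiv]
      have key : ∀ A B C : U₀ ⧸ Z₂, B * A * (C * B) * (A * C) = A * A * (B * B * (C * C)) :=
        fun A B C => by ac_rfl
      rw [key, h2, h2, h2, one_mul, one_mul]
    rw [heq, smul_mul', smul_mul', hsE e he, hsE e he] at htel
    have : π e he.1 = 1 := by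
      have h' : p * π e he.1 * (a' • p * π e he.1) * (a' • a' • p * π e he.1) =
          p * a' • p * a' • a' • p * (π e he.1 * π e he.1 * π e he.1) := by ac_rfl
      rwa [h', hnorm p hp, one_mul, h2, one_mul] at htel
    rw [heq, this, mul_one]
    exact hp
  -- the form
  let χ : H → ℤˣ := fun c => if c = 1 then 1 else -1
  have hcU : ∀ u ∈ U₀, ∀ w ∈ U₀, ⁅u, w⁆ = 1 ∨ ⁅u, w⁆ = ζ := fun u hu w hw =>
    hZ2 _ (U₀.mul_mem (U₀.mul_mem (U₀.mul_mem hu hw) (U₀.inv_mem hu)) (U₀.inv_mem hw))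
      (hUc u (hU₀U hu) w (hU₀U hw))
  have hmulc : ∀ u ∈ U₀, ∀ u' ∈ U₀, ∀ w ∈ U₀, χ ⁅u * u', w⁆ = χ ⁅u, w⁆ * χ ⁅u', w⁆ := by
    intro u hu u' hu' w hw
    have e : ⁅u * u', w⁆ = u * ⁅u', w⁆ * u⁻¹ * ⁅u, w⁆ := by
      simp only [commutatorElement_def]; group
    rw [mul_inv_eq_iff_eq_mul.2 ((hcom u' (hU₀U hu') w (hU₀U hw) u (hU₀U hu)).symm).eq] at e
    rw [e]
    rcases hcU u hu w hw with h | h <;> rcases hcU u' hu' w hw with h' | h' <;>
      simp [χ, h, h', hζζ, hζ1]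
  have hsymc : ∀ u ∈ U₀, ∀ w ∈ U₀, χ ⁅u, w⁆ = χ ⁅w, u⁆ := by
    intro u hu w hw
    rw [show ⁅u, w⁆ = ⁅w, u⁆⁻¹ from (commutatorElement_inv w u).symm]
    simp only [χ, inv_eq_one]
  have hZarg : ∀ u ∈ U₀, ∀ z, z ∈ U₀ → z ∈ Z → ∀ w ∈ U₀, χ ⁅u * z, w⁆ = χ ⁅u, w⁆ := by
    intro u hu z hzU hz w hw
    rw [hmulc u hu z hzU w hw, show ⁅z, w⁆ = 1 from
      commutatorElement_eq_one_iff_commute.2 (hU₀Z w hw z hz).symm]
    simp [χ]
  let f : U₀ ⧸ Z₂ → U₀ ⧸ Z₂ → ℤˣ := fun u w =>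
    χ ⁅((Quotient.out u : U₀) : H), ((Quotient.out w : U₀) : H)⁆
  have hf : ∀ (u w : H) (hu : u ∈ U₀) (hw : w ∈ U₀), f (π u hu) (π w hw) = χ ⁅u, w⁆ := by
    intro u w hu hw
    have hout : ∀ (r : H) (hr : r ∈ U₀), ∃ z, z ∈ U₀ ∧ z ∈ Z ∧
        ((Quotient.out (π r hr) : U₀) : H) = r * z := by
      intro r hr
      have h : QuotientGroup.mk (Quotient.out (π r hr) : U₀) = π r hr := QuotientGroup.out_eq' _
      refine ⟨r⁻¹ * ((Quotient.out (π r hr) : U₀) : H),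
        U₀.mul_mem (U₀.inv_mem hr) (Quotient.out (π r hr) : U₀).2, ?_, by group⟩
      exact Subgroup.mem_subgroupOf.1 (QuotientGroup.eq.1 h.symm)
    obtain ⟨z, hzU, hz, ez⟩ := hout u hu
    obtain ⟨z', hzU', hz', ez'⟩ := hout w hw
    show χ _ = _
    rw [ez, ez', hZarg u hu z hzU hz _ (U₀.mul_mem hw hzU'), hsymc u hu _ (U₀.mul_mem hw hzU'),
      hZarg w hw z' hzU' hz' u hu, hsymc w hw u hu]
  have Sy : Symp H (U₀ ⧸ Z₂) f K a' P :=
    { exp2 := h2
      fmul := fun u u' w => by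
        obtain ⟨u, hu, rfl⟩ := hπs u
        obtain ⟨u', hu', rfl⟩ := hπs u'
        obtain ⟨w, hw, rfl⟩ := hπs w
        rw [hπm, hf, hf, hf, hmulc u hu u' hu' w hw]
      fsymm := fun u w => by
        obtain ⟨u, hu, rfl⟩ := hπs u
        obtain ⟨w, hw, rfl⟩ := hπs w
        rw [hf, hf, hsymc u hu w hw]
      fself := fun u => by
        obtain ⟨u, hu, rfl⟩ := hπs u
        rw [hf, commutatorElement_self]; simp [χ]
      finv := fun h u w => by
        obtain ⟨u, hu, rfl⟩ := hπs u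
        obtain ⟨w, hw, rfl⟩ := hπs w
        rw [hsm, hsm, hf, hf, show ⁅h * u * h⁻¹, h * w * h⁻¹⁆ = h * ⁅u, w⁆ * h⁻¹ by
          simp only [commutatorElement_def]; group]
        simp [χ]
      fnd := fun u hu0 => by
        obtain ⟨u, hu, rfl⟩ := hπs u
        refine (hπ1 u hu).2 (hcen u hu fun w hw => ?_)
        have h := hu0 (π w hw)
        rw [hf] at h
        by_contra hne
        simp [χ, commutatorElement_eq_one_iff_commute, hne] at h
      irr := fun W hW => by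
        let N : Subgroup H :=
          { carrier := {u | ∃ hu : u ∈ U₀, π u hu ∈ W}
            one_mem' := ⟨U₀.one_mem, (show π 1 U₀.one_mem = 1 from rfl) ▸ W.one_mem⟩
            mul_mem' := fun {u w} ⟨hu, h⟩ ⟨hw, h'⟩ => ⟨U₀.mul_mem hu hw, W.mul_mem h h'⟩
            inv_mem' := fun {u} ⟨hu, h⟩ => ⟨U₀.inv_mem hu, W.inv_mem h⟩ }
        have hN : N.Normal := ⟨fun u ⟨hu, h⟩ g => ⟨hU₀n.conj_mem u hu g, hsm g u hu ▸ hW g _ h⟩⟩
        by_cases hNZ : N ≤ Z
        · refine Or.inl ((Subgroup.eq_bot_iff_forall _).2 fun w hw => ?_)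
          obtain ⟨u, hu, rfl⟩ := hπs w
          exact (hπ1 u hu).2 (hNZ ⟨hu, hw⟩)
        · refine Or.inr ((Subgroup.eq_top_iff' _).2 fun w => ?_)
          obtain ⟨u, hu, rfl⟩ := hπs w
          have huN : u ∈ N ⊔ Z := (hsplit N hN (fun w hw => hU₀U hw.1) hNZ).symm ▸ hU₀U hu
          obtain ⟨n, ⟨hn, hnW⟩, z, hz, rfl⟩ := Subgroup.mem_sup_of_normal_right.1 huN
          have : π (n * z) hu = π n hn := by
            rw [eq_comm, hπeq, inv_mul_cancel_left]; exact hz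
          rwa [this]
      normal := S.normal
      cube := ha'q
      cop := S.cop
      gen := fun h => by
        obtain ⟨l, hl, e⟩ := S.conj_eq k h
        exact ⟨l * k⁻¹, K.mul_mem hl (K.inv_mem hk), by rw [ha'] at *; rw [e]; group⟩
      pcard := by
        show Nat.card ({1, p₁, p₂, p₃} : Set (U₀ ⧸ Z₂)) ≤ 4
        rw [Nat.card_coe_set_eq]
        refine (Set.ncard_insert_le _ _).trans ?_
        refine le_trans (Nat.add_le_add_right (Set.ncard_insert_le _ _) 1) ?_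
        refine le_trans (Nat.add_le_add_right (Nat.add_le_add_right (Set.ncard_insert_le _ _) 1) 1) ?_
        simp
      pmem := hpm
      pfpf := hPfpf
      moves := ⟨p₁, fun e => hp1ne (hPfpf p₁ (Or.inr (Or.inl rfl)) e)⟩ }
  have hfix := Sy.fixed_eq_one
  have hallP : ∀ w : U₀ ⧸ Z₂, w = 1 ∨ w = p₁ ∨ w = p₂ ∨ w = p₃ := by
    intro w
    obtain ⟨p, hp, hpw⟩ : ∃ p ∈ P, a' • p / p = a' • w / w := by
      rcases hpm w with h | h | h | h
      · exact ⟨1, P.one_mem, by rw [smul_one, div_one]; exact h.symm⟩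
      · exact ⟨p₂, Or.inr (Or.inr (Or.inl rfl)), by
          rw [hs2, hdiv, h, ← hp₁₂, mul_assoc, h2, mul_one]⟩
      · exact ⟨p₃, Or.inr (Or.inr (Or.inr rfl)), by rw [hs3, hdiv, h, ← hp₁₂, h2l]⟩
      · exact ⟨p₁, Or.inr (Or.inl rfl), by rw [hs1, hdiv, h, mul_comm, hp₁₂]⟩
    have h1 : w / p = 1 := hfix _ (by
      rw [smul_div']
      exact div_eq_div_iff_div_eq_div.2 hpw.symm)
    rw [div_eq_one] at h1
    exact h1 ▸ hp
  have hker : ∀ u (hu : u ∈ U₀), Commute a u → u = 1 ∨ u = ζ := by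
    intro u hu hau
    have hu' : k * u * k⁻¹ ∈ U₀ := hU₀n.conj_mem u hu k
    have h1 : Commute a' (k * u * k⁻¹) := (Commute.conj_iff k).2 hau
    have h2' := hfix (π _ hu') (by
      rw [hsm]
      congr 1
      exact mul_inv_eq_iff_eq_mul.2 h1.eq)
    have h3 := hZn.conj_mem _ ((hπ1 _ _).1 h2') k⁻¹
    rw [show k⁻¹ * (k * u * k⁻¹) * k⁻¹⁻¹ = u by group] at h3
    exact hZ2 u hu h3
  refine ⟨U₀, ζ, hU₀n, hU₀K, hU₀Z, hζU, hζZ, hζ1, hζζ, fun u hu => ?_, hker,
    ⟨x, hx, fun e => hxn (e ▸ hin_Z 1 Z.one_mem), fun e => hxn (e ▸ hin_Z ζ hζZ)⟩, ?_,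
    hfpf ζ hζZ hζ1⟩
  · exact hZ2 _ (U₀.mul_mem hu hu) (by rw [← sq]; exact hexp u hu)
  · intro u hu hu1 huζ hc
    have hu' : k * u * k⁻¹ ∈ U₀ := hU₀n.conj_mem u hu k
    have h1 : Commute (k * u * k⁻¹) (a' * (k * u * k⁻¹) * a'⁻¹) := by
      have := (Commute.conj_iff k).2 hc
      rwa [show k * (a * u * a⁻¹) * k⁻¹ = a' * (k * u * k⁻¹) * a'⁻¹ by rw [ha']; group] at this
    set p := π _ hu'
    have hp1 : p ≠ 1 := fun e => by
      have h3 := hZn.conj_mem _ ((hπ1 _ _).1 e) k⁻¹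
      rw [show k⁻¹ * (k * u * k⁻¹) * k⁻¹⁻¹ = u by group] at h3
      exact (hZ2 u hu h3).elim hu1 huζ
    have hf1 : f p (a' • p) = 1 := by
      rw [hsm, hf, commutatorElement_eq_one_iff_commute.2 h1]; simp [χ]
    refine hp1 (Sy.fnd p fun w => ?_)
    have hsm3 : ∀ r, r = 1 ∨ r = p ∨ r = a' • p ∨ r = p * a' • p → f p r = 1 := by
      rintro r (rfl | rfl | rfl | rfl)
      exacts [Sy.fone_right p, Sy.fself p, hf1, by rw [Sy.fmul_right, Sy.fself, hf1, one_mul]]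
    refine hsm3 w ?_
    rcases hallP p with h | h | h | h
    · exact absurd h hp1
    · rw [h, hs1, hp₁₂]; exact hallP w
    · rw [h, hs2, show p₂ * p₃ = p₁ by rw [← hp₁₂, mul_comm p₁, h2l]]
      rcases hallP w with r | r | r | r <;> simp [r]
    · rw [h, hs3, show p₃ * p₁ = p₂ by rw [mul_comm, ← hp₁₂, h2l]]
      rcases hallP w with r | r | r | r <;> simp [r]

end Setup

end Cfsg.Agent.Palfy7
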