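import Mathlib
import Cfsg.Agent.Lib.PalfySingle7

/-!
Two elements of distinct prime orders, each with exactly one conjugate fixing every non-trivial
vector, cannot have centralisers covering the coprime normal subgroup up to conjugacy.
-/

set_option autoImplicit false
set_option maxHeartbeats 800000
set_option linter.unusedSectionVars false

namespace Cfsg.Agent.Palfy7

variable {H V : Type*} [Group H] [CommGroup V] [MulDistribMulAction H V]
variable {K : Subgroup H}

/-- Abelian normal subgroups act fixed-point-freely, using the odd one of the two primes. -/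
theorem fpf_of_two [Finite H] {a b : H} {q r : ℕ} (S₁ : Setup H V K a q) (S₂ : Setup H V K b r)
    (hqr : q ≠ r) : ∀ N : Subgroup H, N.Normal → N ≤ K → (∀ x ∈ N, ∀ y ∈ N, x * y = y * x) →
      ∀ n ∈ N, n ≠ 1 → ∀ v : V, n • v = v → v = 1 := by
  intro N hN _ hc
  by_cases hq : q = 2
  · exact S₂.fpf (Or.inl fun h => hqr (hq.trans h.symm)) hN hc
  · exact S₁.fpf (Or.inl hq) hN hc

/-- A generator of a maximal abelian normal subgroup is moved if the subgroup is. -/
theorem gen_moved {Z : Subgroup H} [hZ : Z.Normal] {g : H} (hg : Subgroup.zpowers g = Z)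
    {a y : H} (hc : Commute a (y * g * y⁻¹)) : ∀ z ∈ Z, Commute a z := by
  intro z hz
  have hz' : y⁻¹ * z * y⁻¹⁻¹ ∈ Subgroup.zpowers g := hg ▸ hZ.conj_mem z hz y⁻¹
  obtain ⟨i, hi⟩ := hz'
  have hi' : (y * g * y⁻¹) ^ i = z := by
    rw [conj_zpow]; simp only at hi; rw [hi]; group
  exact hi' ▸ hc.zpow_right i

/-- The mixed case. -/
theorem core_mixed [Finite H] {a b : H} {q : ℕ} (S₁ : Setup H V K a q) (hq3 : q ≠ 3)
    (cover : ∀ k ∈ K, ∃ y ∈ K, Commute a (y * k * y⁻¹) ∨ Commute b (y * k * y⁻¹))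
    {Z : Subgroup H} (hZ : MaxAb K Z) (hcyc : IsCyclic Z) (hmove : ∃ z ∈ Z, ¬ Commute a z)
    (hbZ : ∀ z ∈ Z, Commute b z) (hP : Plane V K Z b) : False := by
  obtain ⟨⟨hZn, hZK, hZc⟩, -⟩ := hZ
  have := hZn
  obtain ⟨U₀, ζ, hU₀n, hU₀K, hU₀Z, hζU, hζZ, hζ1, hζ2, hsq, hfix, ⟨u, hu, hu1, huζ⟩, -, -⟩ := hP
  have hcop2 : q ≠ 2 := fun h => by
    have := Fact.mk Nat.prime_two
    have h2 : orderOf ζ = 2 := orderOf_eq_prime (by rw [sq]; exact hζ2) hζ1
    have h3 : 2 ∣ Nat.card K := h2 ▸ Subgroup.orderOf_dvd_natCard K (hU₀K hζU)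
    exact (S₁.prime.coprime_iff_not_dvd).1 S₁.cop (h ▸ h3)
  have hcycI := hcyc
  obtain ⟨⟨g, hg⟩, hgen⟩ := hcyc
  have hgZ : Subgroup.zpowers g = Z := by
    refine le_antisymm (Subgroup.zpowers_le.2 hg) fun z hz => ?_
    obtain ⟨i, hi⟩ := hgen ⟨z, hz⟩
    exact ⟨i, by simpa using congrArg Subtype.val hi⟩
  have hgne : ¬ Commute a g := fun h => by
    obtain ⟨z, hz, hne⟩ := hmove
    exact hne (gen_moved (y := 1) hgZ (by simpa using h) z hz)
  -- fixing a square means fixing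
  have hhalf : ∀ z ∈ Z, Commute a (z * z) → Commute a z := by
    intro z hz hc
    classical
    set d := a * z * a⁻¹ * z⁻¹ with hd
    have hdZ : d ∈ Z := Z.mul_mem (hZn.conj_mem z hz a) (Z.inv_mem hz)
    refine commute_of_defect (S₁.order ▸ pow_orderOf_eq_one a) S₁.cop (hZK hdZ) ?_
    show Commute a d
    have hd2 : d * d = 1 := by
      have h1 : d * d = (a * z * a⁻¹) * (a * z * a⁻¹) * (z⁻¹ * z⁻¹) := by
        have hcz : Commute (z⁻¹) (a * z * a⁻¹) := hZc _ (Z.inv_mem hz) _ (hZn.conj_mem z hz a)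
        calc d * d = a * z * a⁻¹ * (z⁻¹ * (a * z * a⁻¹)) * z⁻¹ := by rw [hd]; group
          _ = a * z * a⁻¹ * ((a * z * a⁻¹) * z⁻¹) * z⁻¹ := by rw [hcz.eq]
          _ = _ := by group
      rw [h1, show (a * z * a⁻¹) * (a * z * a⁻¹) = a * (z * z) * a⁻¹ by group,
        mul_inv_eq_iff_eq_mul.2 hc.eq]
      group
    -- both `d` and its image under `a` square to one in the cyclic group
    have := Fintype.ofFinite Z
    have hs := IsCyclic.card_pow_eq_one_le (α := Z) (n := 2) (by norm_num)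
    have had : a * d * a⁻¹ ∈ Z := hZn.conj_mem d hdZ a
    by_contra hne
    have hd1 : d ≠ 1 := fun e => hne (e ▸ Commute.one_right a)
    have hne' : a * d * a⁻¹ ≠ d := fun e => hne (mul_inv_eq_iff_eq_mul.1 e)
    have hsub : ({1, ⟨d, hdZ⟩, ⟨a * d * a⁻¹, had⟩} : Finset Z) ⊆
        Finset.univ.filter (fun w : Z => w ^ 2 = 1) := by
      intro w hw
      refine Finset.mem_filter.2 ⟨Finset.mem_univ _, ?_⟩
      simp only [Finset.mem_insert, Finset.mem_singleton] at hw
      rcases hw with rfl | rfl | rfl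
      · exact one_pow 2
      · exact Subtype.ext (by simpa [sq] using hd2)
      · exact Subtype.ext (by simp [sq, show a * d * a⁻¹ * (a * d * a⁻¹) = a * (d * d) * a⁻¹ by group, hd2])
    have h3 : ({1, ⟨d, hdZ⟩, ⟨a * d * a⁻¹, had⟩} : Finset Z).card = 3 := by
      rw [Finset.card_insert_of_notMem, Finset.card_pair]
      · exact fun e => hne' (congrArg Subtype.val e).symm
      · simp only [Finset.mem_insert, Finset.mem_singleton, not_or]
        refine ⟨fun e => hd1 (congrArg Subtype.val e).symm, fun e => ?_⟩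
        have e' : a * d * a⁻¹ = 1 := (congrArg Subtype.val e).symm
        rw [mul_inv_eq_one] at e'
        exact hd1 (mul_eq_left.1 e')
    have := (Finset.card_le_card hsub).trans hs
    omega
  obtain ⟨v, m, hm, hgm⟩ := Nat.exists_eq_pow_mul_and_not_dvd (orderOf_pos g).ne' 2 (by norm_num)
  set z := g ^ (2 ^ v) with hz'
  have hzZ : z ∈ Z := Z.pow_mem hg _
  have hzne : ¬ Commute a z := by
    have h : ∀ n : ℕ, Commute a (g ^ 2 ^ n) → Commute a g := fun n => by
      induction n with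
      | zero => simp
      | succ n ih =>
        intro hc
        refine ih (hhalf _ (Z.pow_mem hg _) ?_)
        rwa [← sq, ← pow_mul, ← pow_succ]
    exact fun hc => hgne (h v hc)
  have hzo : orderOf z = m := by
    rw [hz', orderOf_pow_of_dvd (by positivity) (hgm ▸ dvd_mul_right _ _), hgm,
      Nat.mul_div_cancel_left _ (by positivity)]
  obtain ⟨j, hj⟩ : Odd m := Nat.odd_iff.2 (by omega)
  obtain ⟨y, hy, hc | hc⟩ := cover (z * u) (K.mul_mem (hZK hzZ) (hU₀K hu))
  · -- the power four leaves the part in `Z`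
    have hzu : Commute z u := (hU₀Z u hu z hzZ).symm
    have hu4 : u ^ 4 = 1 := by
      rw [show (4 : ℕ) = 2 * 2 from rfl, pow_mul, sq u]
      rcases hsq u hu with h | h <;> rw [h]
      · exact one_pow 2
      · rw [sq]; exact hζ2
    have h4 := hc.pow_right 4
    rw [conj_pow, hzu.mul_pow, hu4, mul_one] at h4
    -- `z` is a power of its fourth power
    have hm4 : Nat.Coprime 4 m :=
      (Nat.Coprime.pow_left 2 (Nat.coprime_two_left.2 ⟨j, hj⟩) : Nat.Coprime (2 ^ 2) m)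
    obtain ⟨i, hi⟩ := exists_pow_eq_self_of_coprime (x := z) (n := 4) (hzo ▸ hm4)
    have h5 := h4.pow_right i
    rw [conj_pow, hi] at h5
    -- conjugates of a cyclic normal subgroup
    have hzn : ∀ w, y⁻¹ * w * y⁻¹⁻¹ ∈ Subgroup.zpowers z ↔ w ∈ Subgroup.zpowers z := by
      have hle : ∀ (h : H) w, w ∈ Subgroup.zpowers z → h * w * h⁻¹ ∈ Subgroup.zpowers z := by
        intro h w hw
        obtain ⟨i, rfl⟩ := hw
        have hgh : h * g * h⁻¹ ∈ Subgroup.zpowers g := hgZ ▸ hZn.conj_mem g hg h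
        obtain ⟨l, hl⟩ := hgh
        refine ⟨l * i, ?_⟩
        simp only at hl ⊢
        rw [hz', ← conj_zpow, ← conj_pow, ← hl, ← zpow_natCast, ← zpow_natCast, ← zpow_mul,
          ← zpow_mul, ← zpow_mul]
        congr 1; ring
      intro w
      refine ⟨fun h => ?_, hle _ _⟩
      have := hle y _ h
      rwa [show y * (y⁻¹ * w * y⁻¹⁻¹) * y⁻¹ = w by group] at this
    obtain ⟨l, hl⟩ := (hzn z).2 (Subgroup.mem_zpowers z)
    simp only at hl
    have h6 := h5.zpow_right l
    rw [conj_zpow, hl, show y * (y⁻¹ * z * y⁻¹⁻¹) * y⁻¹ = z by group] at h6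
    exact hzne h6
  · -- the odd power leaves the part in the quaternion group
    have hzu : Commute z u := (hU₀Z u hu z hzZ).symm
    have hpow := hc.pow_right m
    rw [conj_pow, hzu.mul_pow, ← hzo, pow_orderOf_eq_one, one_mul, hzo] at hpow
    have h1 := hfix _ (hU₀n.conj_mem _ (U₀.pow_mem hu m) y) hpow
    have hmem : y * u ^ m * y⁻¹ ∈ Z := by
      rcases h1 with h | h <;> rw [h]
      exacts [Z.one_mem, hζZ]
    have h2 := hZn.conj_mem _ hmem y⁻¹
    rw [show y⁻¹ * (y * u ^ m * y⁻¹) * y⁻¹⁻¹ = u ^ m by group, hj, pow_succ', pow_mul, sq] at h2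
    have huu : u * u ∈ Z := by
      rcases hsq u hu with h | h <;> rw [h]
      exacts [Z.one_mem, hζZ]
    have huZ : u ∈ Z := by
      have := Z.mul_mem h2 (Z.inv_mem (Z.pow_mem huu j))
      rwa [mul_inv_cancel_right] at this
    exact (hfix u hu (hbZ u huZ)).elim hu1 huζ

/-- The covering lemma. -/
theorem core [Finite H] [Finite V] [Nontrivial V] [Group.IsSolvable H] {a b : H} {q r : ℕ}
    (S₁ : Setup H V K a q) (S₂ : Setup H V K b r) (hqr : q ≠ r)
    (cover : ∀ k ∈ K, ∃ y ∈ K, Commute a (y * k * y⁻¹) ∨ Commute b (y * k * y⁻¹)) : False := by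
  classical
  have hab := fpf_of_two S₁ S₂ hqr
  obtain ⟨Z, hZ⟩ := exists_maxAb K
  have hZn := hZ.1.1
  have hcyc : IsCyclic Z := FrobeniusFPF.isCyclic_of_comm (W := V)
    (fun m hm w hw => hab Z hZn hZ.1.2.1 hZ.1.2.2 m m.2 (fun e => hm (Subtype.ext e)) w hw)
    fun x y => Subtype.ext (hZ.1.2.2 x x.2 y y.2)
  have split : ∀ {c : H} {s : ℕ}, Setup H V K c s → (∃ z ∈ Z, ¬ Commute c z) ∨
      ((∀ z ∈ Z, Commute c z) ∧ s = 3 ∧ Plane V K Z c) := fun {c s} S => by
    by_cases h : ∃ z ∈ Z, ¬ Commute c z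
    · exact Or.inl h
    · push Not at h
      exact Or.inr ⟨h, (S.single hab hZ).resolve_left fun ⟨z, hz, hne⟩ => hne (h z hz)⟩
  rcases split S₁ with h₁ | ⟨haZ, hq, P₁⟩ <;> rcases split S₂ with h₂ | ⟨hbZ, hr, P₂⟩
  · obtain ⟨⟨g, hg⟩, hgen⟩ := hcyc
    have := hZn
    have hgZ : Subgroup.zpowers g = Z := by
      refine le_antisymm (Subgroup.zpowers_le.2 hg) fun z hz => ?_
      obtain ⟨i, hi⟩ := hgen ⟨z, hz⟩
      exact ⟨i, by simpa using congrArg Subtype.val hi⟩
    obtain ⟨y, -, hc | hc⟩ := cover g (hZ.1.2.1 hg)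
    · obtain ⟨z, hz, hne⟩ := h₁; exact hne (gen_moved hgZ hc z hz)
    · obtain ⟨z, hz, hne⟩ := h₂; exact hne (gen_moved hgZ hc z hz)
  · exact core_mixed S₁ (fun h => hqr (h.trans hr.symm)) cover hZ hcyc h₁ hbZ P₂
  · exact core_mixed S₂ (fun h => hqr (hq.trans h.symm))
      (fun k hk => (cover k hk).imp fun y hy => ⟨hy.1, hy.2.symm⟩) hZ hcyc h₂ haZ P₁
  · exact hqr (hq.trans hr.symm)

end Cfsg.Agent.Palfy7
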