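import Mathlib
import Cfsg.Prelude.Def_Blocks
import Cfsg.Agent.Lib.CharItoMichlerPSolvable
import Cfsg.Agent.Lib.CharGallagher
import Cfsg.Agent.Lib.CharInducedCorr
import Cfsg.Agent.Lib.CharInducedRep
import Cfsg.Agent.Lib.CharCliffordCorr
import Cfsg.Agent.Lib.RealChars
import Cfsg.Agent.Lib.HallSolvable
import Cfsg.Agent.Lib.ComponentsFitting
import Cfsg.Agent.Lib.CoprimeAction
import Cfsg.Agent.Lib.PalfyStep7

/-!
Tools for the three-prime theorem on character degrees of solvable groups.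
-/

set_option autoImplicit false
set_option maxHeartbeats 800000
set_option linter.unusedSectionVars false

namespace Cfsg.Agent.Palfy7

open CharBasic CharInduced CharBasicOrth

universe u

variable {G : Type u} [Group G]

/-- A prime dividing some character degree. -/
def Occ (G : Type u) [Group G] (x : ℕ) : Prop :=
  ∃ χ : Cfsg.IrrCharacter G, x ∣ Cfsg.charDegree (χ : G → ℂ)

/-- Two primes never dividing the same degree. -/
def NA (G : Type u) [Group G] (x y : ℕ) : Prop :=
  ∀ χ : Cfsg.IrrCharacter G, x ∣ Cfsg.charDegree (χ : G → ℂ) →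
    y ∣ Cfsg.charDegree (χ : G → ℂ) → False

theorem NA.symm {x y : ℕ} (h : NA G x y) : NA G y x := fun χ hy hx => h χ hx hy

/-- Three occurring pairwise non-adjacent primes. -/
structure Bad (G : Type u) [Group G] (p q r : ℕ) : Prop where
  pp : p.Prime
  qp : q.Prime
  rp : r.Prime
  pq : p ≠ q
  qr : q ≠ r
  pr : p ≠ r
  op : Occ G p
  oq : Occ G q
  or' : Occ G r
  npq : NA G p q
  nqr : NA G q r
  npr : NA G p r

theorem Bad.rot {p q r : ℕ} (B : Bad G p q r) : Bad G q r p :=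
  ⟨B.qp, B.rp, B.pp, B.qr, B.pr.symm, B.pq.symm, B.oq, B.or', B.op, B.nqr, B.npr.symm, B.npq.symm⟩

theorem Bad.swap {p q r : ℕ} (B : Bad G p q r) : Bad G p r q :=
  ⟨B.pp, B.rp, B.qp, B.pr, B.qr.symm, B.pq, B.op, B.or', B.oq, B.npr, B.nqr.symm, B.npq⟩

theorem degree_dvd_of_normal [Finite G] (L : Subgroup G) [L.Normal] (θ : Cfsg.IrrCharacter L) :
    ∃ χ : Cfsg.IrrCharacter G, Cfsg.charDegree (θ : L → ℂ) ∣ Cfsg.charDegree (χ : G → ℂ) ∧
      (inertia L (θ : L → ℂ)).index ∣ Cfsg.charDegree (χ : G → ℂ) := by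
  have := Fintype.ofFinite G
  have := Fintype.ofFinite L
  obtain ⟨χ, d, hd, hdvd⟩ := CharItoMichler.constituent_dvd L θ.2
  refine ⟨χ, ?_, ?_⟩
  · rw [CharItoMichler.charDegree_eq hd]; exact (dvd_mul_left _ _).trans hdvd
  · have h1 := card_inertia_mul_card_orbit L (θ : L → ℂ)
    rw [← (inertia L (θ : L → ℂ)).card_mul_index] at h1
    rw [← Nat.eq_of_mul_eq_mul_left Nat.card_pos h1]
    exact (dvd_mul_right _ _).trans hdvd

theorem NA.of_normal [Finite G] (L : Subgroup G) [L.Normal] {x y : ℕ} (h : NA G x y) :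
    NA L x y := fun θ hx hy => by
  obtain ⟨χ, hd, -⟩ := degree_dvd_of_normal L θ
  exact h χ (hx.trans hd) (hy.trans hd)

theorem degree_comap {H : Type u} [Group H] (f : G →* H) (hf : Function.Surjective f)
    (χ : Cfsg.IrrCharacter H) :
    ∃ ψ : Cfsg.IrrCharacter G, Cfsg.charDegree (ψ : G → ℂ) = Cfsg.charDegree (χ : H → ℂ) :=
  ⟨⟨_, isIrrCharacter_comap f hf χ.2⟩, by simp [Cfsg.charDegree]⟩

theorem NA.of_surjective {H : Type u} [Group H] {x y : ℕ} (h : NA G x y) (f : G →* H)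
    (hf : Function.Surjective f) : NA H x y := fun χ hx hy => by
  obtain ⟨ψ, e⟩ := degree_comap f hf χ
  exact h ψ (e.symm ▸ hx) (e.symm ▸ hy)

theorem not_occ_of_abelian [Finite G] {x : ℕ} (hx : x.Prime) (A : Subgroup G) [A.Normal]
    (hA : ∀ a ∈ A, ∀ b ∈ A, a * b = b * a) (hidx : ¬ x ∣ A.index) : ¬ Occ G x := by
  rintro ⟨χ, hχ⟩
  obtain ⟨n, -, hn1, hdvd⟩ := DegreeDvd.degree_dvd_index_abelian χ.2 A
    (fun a b => Subtype.ext (hA a a.2 b b.2))
  rw [CharItoMichler.charDegree_eq hn1] at hχ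
  exact hidx (hχ.trans hdvd)

theorem sylow_of_not_occ [Finite G] [Group.IsSolvable G] {x : ℕ} [Fact x.Prime] (h : ¬ Occ G x)
    (P : Sylow x G) : (P : Subgroup G).Normal ∧ ∀ a ∈ (P : Subgroup G), ∀ b ∈ (P : Subgroup G),
      a * b = b * a := by
  obtain ⟨hn, hc⟩ := (CharItoMichler.iff_degrees (HallSolvable.isPSolvable_of_solvable x) P).2
    fun χ hχ => h ⟨χ, hχ⟩
  exact ⟨hn, fun a ha b hb => congrArg Subtype.val (hc.is_comm.comm (⟨a, ha⟩ : P) ⟨b, hb⟩)⟩

/-- A prime lost by a normal subgroup of index prime to it is lost by the group. -/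
theorem occ_of_normal [Finite G] [Group.IsSolvable G] (L : Subgroup G) [L.Normal] {x : ℕ}
    (hx : x.Prime) (hidx : ¬ x ∣ L.index) (h : Occ G x) : Occ L x := by
  by_contra hL
  have : Fact x.Prime := ⟨hx⟩
  obtain ⟨P⟩ : Nonempty (Sylow x L) := inferInstance
  obtain ⟨hn, hc⟩ := sylow_of_not_occ hL P
  have : (P : Subgroup L).Characteristic := Sylow.characteristic_of_normal P hn
  have hmn : ((P : Subgroup L).map L.subtype).Normal :=
    ConjAct.normal_of_characteristic_of_normal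
  refine not_occ_of_abelian hx ((P : Subgroup L).map L.subtype) ?_ ?_ h
  · rintro _ ⟨a, ha, rfl⟩ _ ⟨b, hb, rfl⟩
    exact congrArg Subtype.val (hc a ha b hb)
  · rw [Subgroup.index_map_subtype]
    exact fun hd => (hx.dvd_mul.1 hd).elim P.not_dvd_index hidx

/-- A group with a normal abelian `q`-part and `r`-part has an abelian normal Hall subgroup. -/
theorem exists_hall [Finite G] [Group.IsSolvable G] {q r : ℕ} (hq : q.Prime) (hr : r.Prime)
    (hqr : q ≠ r) (hoq : ¬ Occ G q) (hor : ¬ Occ G r) :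
    ∃ X : Subgroup G, X.Normal ∧ (∀ a ∈ X, ∀ b ∈ X, a * b = b * a) ∧
      (∀ l : ℕ, l.Prime → l ∣ Nat.card X → l = q ∨ l = r) ∧ ¬ q ∣ X.index ∧ ¬ r ∣ X.index := by
  have : Fact q.Prime := ⟨hq⟩
  have : Fact r.Prime := ⟨hr⟩
  obtain ⟨Q⟩ : Nonempty (Sylow q G) := inferInstance
  obtain ⟨R⟩ : Nonempty (Sylow r G) := inferInstance
  obtain ⟨hQn, hQc⟩ := sylow_of_not_occ hoq Q
  obtain ⟨hRn, hRc⟩ := sylow_of_not_occ hor R
  have := hQn
  have := hRn
  obtain ⟨i, hi⟩ := IsPGroup.iff_card.1 Q.isPGroup'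
  obtain ⟨j, hj⟩ := IsPGroup.iff_card.1 R.isPGroup'
  have hdisj : Disjoint (Q : Subgroup G) (R : Subgroup G) :=
    disjoint_iff.2 (Subgroup.inf_eq_bot_of_coprime (by
      rw [hi, hj]; exact Nat.coprime_pow_primes i j hq hr hqr))
  refine ⟨(Q : Subgroup G) ⊔ R, inferInstance, fun a ha b hb => ?_, fun l hl hd => ?_,
    fun h => Q.not_dvd_index (h.trans (Subgroup.index_dvd_of_le le_sup_left)),
    fun h => R.not_dvd_index (h.trans (Subgroup.index_dvd_of_le le_sup_right))⟩
  · obtain ⟨x, hx, y, hy, rfl⟩ := Subgroup.mem_sup_of_normal_right.1 ha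
    obtain ⟨x', hx', y', hy', rfl⟩ := Subgroup.mem_sup_of_normal_right.1 hb
    have c : ∀ s ∈ (Q : Subgroup G), ∀ t ∈ (R : Subgroup G), Commute s t := fun s hs t ht =>
      Subgroup.commute_of_normal_of_disjoint _ _ hQn hRn hdisj s t hs ht
    exact (((show Commute x x' from hQc x hx x' hx').mul_right (c x hx y' hy')).mul_left
      ((c x' hx' y hy).symm.mul_right (show Commute y y' from hRc y hy y' hy')))
  · have hle : Nat.card ↥((Q : Subgroup G) ⊔ R) ∣ q ^ i * r ^ j := by
      rw [← hi, ← hj]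
      exact HallCore.card_sup_dvd _ _
    rcases hl.dvd_mul.1 (hd.trans hle) with h | h
    · exact Or.inl ((Nat.prime_dvd_prime_iff_eq hl hq).1 (hl.dvd_of_dvd_pow h))
    · exact Or.inr ((Nat.prime_dvd_prime_iff_eq hl hr).1 (hl.dvd_of_dvd_pow h))

section degree

variable [Finite G] {H : Type u} [Group H] [Finite H] {π : G →* H} {ι : H →* G}

/-- Degrees over an extendible character of the kernel of a split surjection. -/
theorem degree_over (hπι : ∀ h, π (ι h) = h) (θ : Cfsg.IrrCharacter π.ker)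
    {T : Subgroup G} (hT : T = inertia π.ker (θ : π.ker → ℂ))
    (χ₀ : Cfsg.IrrCharacter T) (hNT : π.ker ≤ T)
    (hext : ∀ n : π.ker, (χ₀ : T → ℂ) ⟨(n : G), hNT n.2⟩ = (θ : π.ker → ℂ) n)
    (β : Cfsg.IrrCharacter (T.comap ι)) :
    ∃ χ : Cfsg.IrrCharacter G,
      (T.comap ι).index * Cfsg.charDegree (β : T.comap ι → ℂ) * Cfsg.charDegree (χ₀ : T → ℂ) ∣
        Cfsg.charDegree (χ : G → ℂ) := by
  classical
  have := Fintype.ofFinite G
  have := Fintype.ofFinite π.ker
  have := Fintype.ofFinite T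
  have hmem : ∀ t ∈ T, ι (π t) ∈ T := fun t ht => by
    have hn : t⁻¹ * ι (π t) ∈ π.ker := by
      rw [MonoidHom.mem_ker, map_mul, map_inv, hπι, inv_mul_cancel]
    simpa using T.mul_mem ht (hNT hn)
  let σ : T →* T.comap ι :=
    { toFun := fun t => ⟨π t, hmem t t.2⟩
      map_one' := Subtype.ext (map_one π)
      map_mul' := fun a b => Subtype.ext (map_mul π _ _) }
  have hσ : Function.Surjective σ := fun h => ⟨⟨ι h, h.2⟩, Subtype.ext (hπι _)⟩
  set N' := π.ker.subgroupOf T
  let e := Subgroup.subgroupOfEquivOfLe hNT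
  have hθ' : Cfsg.IsIrrCharacter N' ((θ : π.ker → ℂ) ∘ e.toMonoidHom) :=
    isIrrCharacter_comap e.toMonoidHom e.surjective θ.2
  have hβ' : Cfsg.IsIrrCharacter T ((β : T.comap ι → ℂ) ∘ σ) :=
    isIrrCharacter_comap σ hσ β.2
  have htriv : ∀ n : N', ((β : T.comap ι → ℂ) ∘ σ) n = ((β : T.comap ι → ℂ) ∘ σ) 1 := fun n => by
    simp only [Function.comp_apply]
    rw [map_one σ]
    refine congrArg (β : T.comap ι → ℂ) (Subtype.ext ?_)
    show π ((n : T) : G) = 1
    exact MonoidHom.mem_ker.1 (Subgroup.mem_subgroupOf.1 n.2)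
  obtain ⟨hψ, hover⟩ := (CharGallagher.bijOn_one N' hθ' χ₀.2
    (fun n => hext (e n))).mapsTo ⟨hβ', htriv⟩
  set ψ : T → ℂ := ((β : T.comap ι → ℂ) ∘ σ) * (χ₀ : T → ℂ)
  have hover' : Cfsg.classInner (fun n : π.ker => ψ ⟨n, hNT n.2⟩) (θ : π.ker → ℂ) ≠ 0 := by
    intro h
    exact hover ((classInner_congr_equiv (G := π.ker) e
      (fun n : π.ker => ψ ⟨n, hNT n.2⟩) (θ : π.ker → ℂ)).trans h)
  have hirr := ind_inertia_irr π.ker T hNT θ.2 (fun g => by rw [hT]; exact Iff.rfl) hψ hover'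
  refine ⟨⟨_, hirr⟩, ?_⟩
  obtain ⟨b, -, hb⟩ := isIrrCharacter_apply_one β.2
  obtain ⟨c, -, hc⟩ := isIrrCharacter_apply_one χ₀.2
  have hidx : (T.comap ι).index = T.index := by
    have hTc : T = (T.comap ι).comap π := by
      ext g
      refine ⟨hmem g, fun hg => ?_⟩
      have hn : (ι (π g))⁻¹ * g ∈ π.ker := by
        rw [MonoidHom.mem_ker, map_mul, map_inv, hπι, inv_mul_cancel]
      simpa using T.mul_mem (show ι (π g) ∈ T from hg) (hNT hn)
    conv_rhs => rw [hTc]
    exact (Subgroup.index_comap_of_surjective _ fun h => ⟨ι h, hπι h⟩).symm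
  have h1 : indFun T ψ 1 = ((T.index * (b * c) : ℕ) : ℂ) := by
    rw [ind_one_apply, show ψ 1 = (β : T.comap ι → ℂ) (σ 1) * (χ₀ : T → ℂ) 1 from rfl, map_one,
      hb, hc]
    push_cast; ring
  rw [CharItoMichler.charDegree_eq hb, CharItoMichler.charDegree_eq hc,
    CharItoMichler.charDegree_eq h1, hidx, mul_assoc]

end degree

section cover

variable [Finite G]

/-- A class of a normal subgroup of order prime to the order of `a` and invariant under it
contains a fixed element. -/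
theorem exists_fixed_in_class (L : Subgroup G) [L.Normal]
    {a : G} (ha : (orderOf a).Coprime (Nat.card L)) {x : G} (hx : x ∈ L)
    (hinv : ∃ y ∈ L, y * x * y⁻¹ = a * x * a⁻¹) : ∃ y ∈ L, Commute a (y * x * y⁻¹) := by
  have hnorm : a ∈ Subgroup.normalizer (L : Set G) :=
    (Subgroup.normalizer_eq_top_iff.2 (inferInstance : L.Normal)).symm ▸ Subgroup.mem_top a
  let _ : MulAction G G :=
    { smul := fun g y => g * y * g⁻¹
      one_smul := fun y => by show 1 * y * 1⁻¹ = y; group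
      mul_smul := fun g h y => by show g * h * y * (g * h)⁻¹ = g * (h * y * h⁻¹) * g⁻¹; group }
  have hstab : ∀ n : ℕ, ∃ y ∈ L, y * x * y⁻¹ = a ^ n * x * (a ^ n)⁻¹ := by
    obtain ⟨y₀, hy₀, e₀⟩ := hinv
    intro n
    induction n with
    | zero => exact ⟨1, L.one_mem, by simp⟩
    | succ n ih =>
      obtain ⟨y, hy, e⟩ := ih
      refine ⟨a * y * a⁻¹ * y₀, L.mul_mem ((inferInstance : L.Normal).conj_mem y hy a) hy₀, ?_⟩
      calc a * y * a⁻¹ * y₀ * x * (a * y * a⁻¹ * y₀)⁻¹
          = a * y * a⁻¹ * (y₀ * x * y₀⁻¹) * a * y⁻¹ * a⁻¹ := by group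
        _ = a * (y * x * y⁻¹) * a⁻¹ := by rw [e₀]; group
        _ = _ := by rw [e, pow_succ']; group
  obtain ⟨y, hy, hfix⟩ := CoprimeAction.exists_fixed_point (A := Subgroup.zpowers a) (K := L)
    (Subgroup.zpowers_le.2 hnorm) (by rwa [Nat.card_zpowers])
    (Or.inl (CoprimeAction.isSolvable_zpowers a)) x (fun b hb => by
      obtain ⟨n, hn⟩ := mem_powers_iff_mem_zpowers.2 hb
      obtain ⟨y, hy, e⟩ := hstab n
      exact ⟨y, hy, hn ▸ e⟩)
  refine ⟨y, hy, ?_⟩
  have := hfix a (Subgroup.mem_zpowers a)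
  change a * (y * x * y⁻¹) * a⁻¹ = y * x * y⁻¹ at this
  exact mul_inv_eq_iff_eq_mul.1 this

/-- If every irreducible character of a normal subgroup is fixed by one of two commuting elements of
coprime orders prime to it, every class of it meets one of their centralisers. -/
theorem cover (L : Subgroup G) [L.Normal] {a b : G} (hab : Commute a b)
    (hcop : (orderOf a).Coprime (orderOf b)) (haL : (orderOf a).Coprime (Nat.card L))
    (hbL : (orderOf b).Coprime (Nat.card L))
    (hfix : ∀ θ : Cfsg.IrrCharacter L,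
      a ∈ inertia L (θ : L → ℂ) ∨ b ∈ inertia L (θ : L → ℂ)) :
    ∀ x ∈ L, ∃ y ∈ L, Commute a (y * x * y⁻¹) ∨ Commute b (y * x * y⁻¹) := by
  classical
  have := Fintype.ofFinite L
  have : Fintype (ConjClasses L) := Fintype.ofFinite _
  let cj : G → L → L := fun g n => ⟨g * n * g⁻¹, (inferInstance : L.Normal).conj_mem n n.2 g⟩
  have hbr : ∀ g : G, Nat.card {χ : Cfsg.IrrCharacter L // g ∈ inertia L (χ : L → ℂ)} =
      Nat.card {C : ConjClasses L // ∀ n, ConjClasses.mk n = C → IsConj (cj g n) n} := by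
    intro g
    rw [← RealChars.card_fixed_eq (cj g) (fun χ => isIrrCharacter_conjFun L χ.2 g)]
    exact Nat.card_congr (Equiv.subtypeEquivRight fun χ => mem_inertia_iff L)
  -- both are powers of the product
  have hpa : a ∈ Subgroup.zpowers (a * b) := by
    obtain ⟨i, hi⟩ := exists_pow_eq_self_of_coprime (x := a) (n := orderOf b) hcop.symm
    refine ⟨((orderOf b * i : ℕ) : ℤ), ?_⟩
    simp only
    rw [zpow_natCast, pow_mul, hab.mul_pow, pow_orderOf_eq_one, mul_one, hi]
  have hpb : b ∈ Subgroup.zpowers (a * b) := by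
    obtain ⟨i, hi⟩ := exists_pow_eq_self_of_coprime (x := b) (n := orderOf a) hcop
    refine ⟨((orderOf a * i : ℕ) : ℤ), ?_⟩
    simp only
    rw [zpow_natCast, pow_mul, hab.mul_pow, pow_orderOf_eq_one, one_mul, hi]
  -- the fixer of a class is a subgroup
  let Fx : ConjClasses L → Subgroup G := fun C =>
    { carrier := {g | ∀ n, ConjClasses.mk n = C → IsConj (cj g n) n}
      one_mem' := fun n _ => by
        rw [show cj 1 n = n from Subtype.ext (by show (1 : G) * n * 1⁻¹ = n; group)]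
      mul_mem' := fun {g h} hg hh n hn => by
        have e : cj (g * h) n = cj g (cj h n) :=
          Subtype.ext (by show g * h * n * (g * h)⁻¹ = g * (h * n * h⁻¹) * g⁻¹; group)
        have h1 := hh n hn
        have h2 : ConjClasses.mk (cj h n) = C := (ConjClasses.mk_eq_mk_iff_isConj.2 h1).trans hn
        rw [e]
        exact (hg _ h2).trans h1
      inv_mem' := fun {g} hg n hn => by
        obtain ⟨c, hc⟩ := isConj_iff.1 (hg n hn)
        refine isConj_iff.2 ⟨cj g⁻¹ c⁻¹ , ?_⟩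
        refine Subtype.ext ?_
        have hc' := congrArg Subtype.val hc
        change (c : G) * (g * n * g⁻¹) * (c : G)⁻¹ = n at hc'
        show g⁻¹ * ((c⁻¹ : L) : G) * g⁻¹⁻¹ * (g⁻¹ * n * g⁻¹⁻¹) *
          (g⁻¹ * ((c⁻¹ : L) : G) * g⁻¹⁻¹)⁻¹ = n
        rw [Subgroup.coe_inv]
        calc _ = g⁻¹ * ((c : G)⁻¹ * n * (c : G)) * g := by group
          _ = g⁻¹ * ((c : G)⁻¹ * ((c : G) * (g * n * g⁻¹) * (c : G)⁻¹) * (c : G)) * g := by
            rw [hc']
          _ = _ := by group }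
  have hclass : ∀ C : ConjClasses L, a ∈ Fx C ∨ b ∈ Fx C := by
    by_contra hne
    push Not at hne
    obtain ⟨C₀, hC₀⟩ := hne
    have hall : (Finset.univ.filter fun χ : Cfsg.IrrCharacter L => a ∈ inertia L (χ : L → ℂ)) ∪
        (Finset.univ.filter fun χ : Cfsg.IrrCharacter L => b ∈ inertia L (χ : L → ℂ)) =
        Finset.univ := by
      ext χ; simpa using hfix χ
    have hi1 := Finset.card_union_add_card_inter
      (Finset.univ.filter fun χ : Cfsg.IrrCharacter L => a ∈ inertia L (χ : L → ℂ))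
      (Finset.univ.filter fun χ : Cfsg.IrrCharacter L => b ∈ inertia L (χ : L → ℂ))
    rw [hall, ← Finset.filter_and] at hi1
    have hi2 := Finset.card_union_add_card_inter
      (Finset.univ.filter fun C : ConjClasses L => a ∈ Fx C)
      (Finset.univ.filter fun C : ConjClasses L => b ∈ Fx C)
    rw [← Finset.filter_and] at hi2
    have hlt : ((Finset.univ.filter fun C : ConjClasses L => a ∈ Fx C) ∪
        (Finset.univ.filter fun C : ConjClasses L => b ∈ Fx C)).card <
        (Finset.univ : Finset (ConjClasses L)).card :=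
      Finset.card_lt_univ_of_notMem (x := C₀) (by simpa using hC₀)
    have hn : ∀ g, (Finset.univ.filter fun χ : Cfsg.IrrCharacter L =>
        g ∈ inertia L (χ : L → ℂ)).card =
        (Finset.univ.filter fun C : ConjClasses L => g ∈ Fx C).card := by
      intro g
      rw [← Fintype.card_subtype, ← Fintype.card_subtype, ← Nat.card_eq_fintype_card,
        ← Nat.card_eq_fintype_card, hbr g]
      exact Nat.card_congr (Equiv.subtypeEquivRight fun C => Iff.rfl)
    have hand : ∀ (S : Subgroup G), (a ∈ S ∧ b ∈ S) ↔ a * b ∈ S := fun S =>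
      ⟨fun h => S.mul_mem h.1 h.2,
        fun h => ⟨(Subgroup.zpowers_le.2 h) hpa, (Subgroup.zpowers_le.2 h) hpb⟩⟩
    have hab1 := hn (a * b)
    simp only [← hand] at hab1
    have htot : (Finset.univ : Finset (Cfsg.IrrCharacter L)).card =
        (Finset.univ : Finset (ConjClasses L)).card := by
      have h1 := hn 1
      simpa [Subgroup.one_mem] using h1
    rw [hn a, hn b, hab1, htot] at hi1
    omega
  intro x hx
  have key : ∀ g : G, (orderOf g).Coprime (Nat.card L) → g ∈ Fx (ConjClasses.mk ⟨x, hx⟩) →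
      ∃ y ∈ L, Commute g (y * x * y⁻¹) := by
    intro g hgL hg
    obtain ⟨c, hc⟩ := isConj_iff.1 (hg ⟨x, hx⟩ rfl).symm
    exact exists_fixed_in_class L hgL hx ⟨c, c.2, congrArg Subtype.val hc⟩
  rcases hclass (ConjClasses.mk ⟨x, hx⟩) with h | h
  · obtain ⟨y, hy, hc⟩ := key a haL h; exact ⟨y, hy, Or.inl hc⟩
  · obtain ⟨y, hy, hc⟩ := key b hbL h; exact ⟨y, hy, Or.inr hc⟩

/-- Two elements of the same coset of a normal subgroup of coprime order are conjugate. -/
theorem conj_in_coset (K : Subgroup G) [K.Normal] {a a' : G}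
    (ha : (orderOf a).Coprime (Nat.card K)) (hd : a' * a⁻¹ ∈ K) (ha' : a' ^ orderOf a = 1) :
    ∃ k ∈ K, a' = k * a * k⁻¹ := by
  have hK : ∀ m ∈ K, m ^ orderOf a = 1 → m = 1 := fun m hm he => by
    have h1 : m ^ Nat.card K = 1 :=
      congrArg Subtype.val (pow_card_eq_one' (G := K) (x := ⟨m, hm⟩))
    have h2 := (pow_gcd_eq_one (a := m)).2 ⟨he, h1⟩
    rwa [ha.gcd_eq_one, pow_one] at h2
  have hmk : (QuotientGroup.mk a' : G ⧸ K) = QuotientGroup.mk a := by
    refine QuotientGroup.eq.2 ?_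
    have := (inferInstance : K.Normal).conj_mem _ (K.inv_mem hd) a'⁻¹
    convert this using 1; group
  have hpowK : ∀ m : ℕ, (a' ^ m ∈ K ↔ a ^ m ∈ K) := fun m => by
    rw [← QuotientGroup.eq_one_iff, ← QuotientGroup.eq_one_iff, QuotientGroup.mk_pow,
      QuotientGroup.mk_pow, hmk]
  have ho : orderOf a' = orderOf a := by
    refine Nat.dvd_antisymm (orderOf_dvd_of_pow_eq_one ha') (orderOf_dvd_of_pow_eq_one ?_)
    refine hK _ ((hpowK _).1 (by rw [pow_orderOf_eq_one]; exact K.one_mem)) ?_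
    rw [← pow_mul, mul_comm, pow_mul, pow_orderOf_eq_one, one_pow]
  obtain ⟨n, hn, hnA⟩ := CoprimeSZ.exists_conj_of_card_eq (N := K) (A := Subgroup.zpowers a)
    (B := Subgroup.zpowers a')
    (by rw [Subgroup.normalizer_eq_top_iff.2 inferInstance]; exact le_top)
    (by rwa [Nat.card_zpowers]) (Or.inl (CoprimeAction.isSolvable_zpowers a))
    (Subgroup.zpowers_le.2 (by
      have := mul_mem (Subgroup.mem_sup_left hd : a' * a⁻¹ ∈ K ⊔ Subgroup.zpowers a)
        (Subgroup.mem_sup_right (Subgroup.mem_zpowers a))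
      rwa [inv_mul_cancel_right] at this))
    (by rw [Nat.card_zpowers, Nat.card_zpowers, ho])
  have hmem : n * a * n⁻¹ ∈ Subgroup.zpowers a' :=
    hnA ▸ CoprimeSZ.conj_mul_mem_conj_smul (Subgroup.mem_zpowers a)
  obtain ⟨i, hi⟩ := mem_powers_iff_mem_zpowers.2 hmem
  have hi : a' ^ i = n * a * n⁻¹ := hi
  refine ⟨n, hn, ?_⟩
  rw [← hi]
  -- the exponent is one
  have h1 : (QuotientGroup.mk (a ^ i) : G ⧸ K) = QuotientGroup.mk a := by
    rw [QuotientGroup.mk_pow, ← hmk, ← QuotientGroup.mk_pow, hi, QuotientGroup.mk_mul,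
      QuotientGroup.mk_mul, (QuotientGroup.eq_one_iff n).2 hn,
      (QuotientGroup.eq_one_iff n⁻¹).2 (K.inv_mem hn)]
    simp [hmk]
  have h2 : a⁻¹ * a ^ i = 1 := by
    refine hK _ ?_ ?_
    · have := QuotientGroup.eq.1 h1.symm; exact this
    · rw [((Commute.refl a).pow_right i).inv_left.mul_pow, inv_pow, pow_orderOf_eq_one, inv_one,
        one_mul, ← pow_mul, mul_comm, pow_mul, pow_orderOf_eq_one, one_pow]
  have h3 : a ^ i = a ^ 1 := by rw [pow_one, ← inv_mul_eq_one.1 h2]
  rw [pow_inj_mod, ← ho] at h3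
  conv_lhs => rw [← pow_one a']
  exact (pow_inj_mod.2 h3).symm

end cover

/-- In a solvable group an abelian Hall subgroup spans a normal subgroup with the largest normal
subgroup of coprime order. -/
theorem exists_core_sup [Finite G] [Group.IsSolvable G] {q r : ℕ} (hq : q.Prime) (hr : r.Prime)
    (X : Subgroup G) (hXc : ∀ a ∈ X, ∀ b ∈ X, a * b = b * a)
    (hXπ : ∀ l : ℕ, l.Prime → l ∣ Nat.card X → l = q ∨ l = r)
    (hXq : ¬ q ∣ X.index) (hXr : ¬ r ∣ X.index) :
    ∃ K : Subgroup G, K.Normal ∧ ¬ q ∣ Nat.card K ∧ ¬ r ∣ Nat.card K ∧ (K ⊔ X).Normal ∧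
      ∀ L : Subgroup G, L.Normal → ¬ q ∣ Nat.card L → ¬ r ∣ Nat.card L → L ≤ K := by
  classical
  obtain ⟨K, -, hKmax⟩ := Finite.exists_le_maximal
    (p := fun L : Subgroup G => L.Normal ∧ ¬ q ∣ Nat.card L ∧ ¬ r ∣ Nat.card L)
    (show (⊥ : Subgroup G).Normal ∧ _ ∧ _ from ⟨inferInstance, by
      rw [Subgroup.card_bot]; exact hq.not_dvd_one, by
      rw [Subgroup.card_bot]; exact hr.not_dvd_one⟩)
  obtain ⟨⟨hKn, hKq, hKr⟩, hmax⟩ := hKmax
  have := hKn
  have hle : ∀ L : Subgroup G, L.Normal → ¬ q ∣ Nat.card L → ¬ r ∣ Nat.card L → L ≤ K := by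
    intro L hL hLq hLr
    have := hL
    refine le_sup_right.trans (hmax (y := K ⊔ L) ⟨inferInstance, fun h => ?_, fun h => ?_⟩
      le_sup_left)
    · exact ((hq.dvd_mul).1 (h.trans (HallCore.card_sup_dvd K L))).elim hKq hLq
    · exact ((hr.dvd_mul).1 (h.trans (HallCore.card_sup_dvd K L))).elim hKr hLr
  refine ⟨K, hKn, hKq, hKr, ?_, hle⟩
  -- in the quotient the Fitting subgroup is the Hall subgroup
  set f := QuotientGroup.mk' K with hf
  set F := Cfsg.fittingSubgroup (G ⧸ K) with hF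
  have hFn : Group.IsNilpotent F := inferInstance
  have hFπ : ∀ l : ℕ, l.Prime → l ∣ Nat.card F → l = q ∨ l = r := by
    intro l hl hlF
    by_contra hne
    push Not at hne
    have : Fact l.Prime := ⟨hl⟩
    obtain ⟨S⟩ : Nonempty (Sylow l F) := inferInstance
    have : (S : Subgroup F).Characteristic := Sylow.characteristic_of_normal S inferInstance
    have hSn : ((S : Subgroup F).map F.subtype).Normal :=
      ConjAct.normal_of_characteristic_of_normal
    have hS : ((S : Subgroup F).map F.subtype) ≠ ⊥ := fun h => by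
      rw [Subgroup.map_eq_bot_iff, Subgroup.ker_subtype, le_bot_iff] at h
      exact S.ne_bot_of_dvd_card hlF h
    obtain ⟨i, hi⟩ := IsPGroup.iff_card.1 (S.isPGroup'.map F.subtype)
    set L := ((S : Subgroup F).map F.subtype).comap f
    have hcardL : Nat.card L = Nat.card ((S : Subgroup F).map F.subtype) * Nat.card K := by
      exact (HallCore.card_comap_mk' K _).symm
    have hx : ∀ x : ℕ, x.Prime → l ≠ x → ¬ x ∣ Nat.card K → ¬ x ∣ Nat.card L := by
      intro x hx hlx hxK h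
      rw [hcardL, hi] at h
      rcases hx.dvd_mul.1 h with h | h
      · exact hlx ((Nat.prime_dvd_prime_iff_eq hx hl).1 (hx.dvd_of_dvd_pow h)).symm
      · exact hxK h
    have hLK := hle L (hSn.comap f) (hx q hq hne.1 hKq) (hx r hr hne.2 hKr)
    refine hS ((Subgroup.eq_bot_iff_forall _).2 fun y hy => ?_)
    obtain ⟨g, rfl⟩ := QuotientGroup.mk'_surjective K y
    exact (QuotientGroup.eq_one_iff g).2 (hLK hy)
  set Xb := X.map f with hXb
  have : F.Normal := HallSolvable.fitting_normal_inst _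
  have hFX : F ≤ Xb := by
    have h1 : Nat.card ↥(F ⊔ Xb) ∣ Nat.card Xb := by
      have : F.Normal := HallSolvable.fitting_normal_inst _
      have hdvd : Nat.card ↥(F ⊔ Xb) ∣ Nat.card Xb * Xb.index := by
        rw [Subgroup.card_mul_index]; exact Subgroup.card_subgroup_dvd_card _
      refine Nat.Coprime.dvd_of_dvd_mul_right (n := Xb.index) (Nat.coprime_of_dvd fun l hl hd hi => ?_)
        hdvd
      have hidx : l ∣ X.index :=
        hi.trans (Subgroup.index_map_dvd X (QuotientGroup.mk'_surjective K))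
      have hd' : l = q ∨ l = r := by
        rw [sup_comm] at hd
        rcases hl.dvd_mul.1 (hd.trans (HallCore.card_sup_dvd Xb F)) with h | h
        · exact hXπ l hl (h.trans (Subgroup.card_map_dvd X f))
        · exact hFπ l hl h
      rcases hd' with rfl | rfl
      exacts [hXq hidx, hXr hidx]
    have h2 : Xb = F ⊔ Xb := Subgroup.eq_of_le_of_card_ge le_sup_right
      (Nat.le_of_dvd Nat.card_pos h1)
    exact h2 ▸ le_sup_left
  have hXF : Xb = F := by
    refine le_antisymm (fun x hx => ?_) hFX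
    refine HallSolvable.centralizer_fitting_le (G := G ⧸ K)
      (Subgroup.mem_centralizer_iff.2 fun y hy => ?_)
    obtain ⟨a, ha, rfl⟩ := hx
    obtain ⟨b, hb, rfl⟩ := hFX hy
    rw [← map_mul, ← map_mul, hXc b hb a ha]
  have hn : ((X.map f).comap f).Normal := (hXF ▸ (inferInstance : F.Normal) : Xb.Normal).comap f
  rwa [hf, HallSolvable.comap_mk'_map, sup_comm] at hn

end Cfsg.Agent.Palfy7
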