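import Mathlib
import Cfsg.Agent.Lib.PalfyTools7
import Cfsg.Agent.Lib.PalfyCore7

/-!
Passing from a stabiliser condition to the standing hypotheses.
-/

set_option autoImplicit false
set_option maxHeartbeats 800000
set_option linter.unusedSectionVars false

namespace Cfsg.Agent.Palfy7

section fix

variable {H : Type*} [Group H] [Finite H]

theorem mem_zpowers_le {X : Subgroup H} {x : H} (hx : x ∈ X) : Subgroup.zpowers x ≤ X :=
  Subgroup.zpowers_le.2 hx

/-- A complement contains a conjugate of every element of order prime to the kernel. -/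
theorem exists_fix (K X' : Subgroup H) [K.Normal] (hX'c : ∀ x ∈ X', ∀ y ∈ X', x * y = y * x)
    (hsup : K ⊔ X' = ⊤) (hcop : (Nat.card X').Coprime (Nat.card K)) {a : H}
    (ha : (orderOf a).Coprime (Nat.card K)) :
    ∃ k ∈ K, k * a * k⁻¹ ∈ X' ∧
      ∀ c ∈ K, (∀ x ∈ X', c * x * c⁻¹ ∈ X') → Commute c (k * a * k⁻¹) := by
  have hinf : X' ⊓ K = ⊥ := Subgroup.inf_eq_bot_of_coprime hcop
  obtain ⟨k₀, hk₀, x, hx, hax⟩ :=
    Subgroup.mem_sup_of_normal_left.1 (hsup.symm ▸ Subgroup.mem_top a : a ∈ K ⊔ X')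
  have hxa : x * a⁻¹ ∈ K := by
    rw [← hax, mul_inv_rev, mul_inv_cancel_left]; exact K.inv_mem hk₀
  have hxo : x ^ orderOf a = 1 := by
    have h1 : (QuotientGroup.mk (x ^ orderOf a) : H ⧸ K) = 1 := by
      have hmk : (QuotientGroup.mk x : H ⧸ K) = QuotientGroup.mk a := by
        rw [← hax, QuotientGroup.mk_mul, (QuotientGroup.eq_one_iff k₀).2 hk₀, one_mul]
      rw [QuotientGroup.mk_pow, hmk, ← QuotientGroup.mk_pow, pow_orderOf_eq_one]
      rfl
    have h2 : x ^ orderOf a ∈ X' ⊓ K := ⟨X'.pow_mem hx _, (QuotientGroup.eq_one_iff _).1 h1⟩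
    rwa [hinf, Subgroup.mem_bot] at h2
  obtain ⟨k, hk, hxk⟩ := conj_in_coset K ha hxa hxo
  refine ⟨k, hk, hxk ▸ hx, fun c hc hcX => ?_⟩
  rw [← hxk]
  have h1 : c * x * c⁻¹ * x⁻¹ ∈ X' ⊓ K := ⟨X'.mul_mem (hcX x hx) (X'.inv_mem hx), by
    show c * x * c⁻¹ * x⁻¹ ∈ K
    have := K.mul_mem hc ((inferInstance : K.Normal).conj_mem _ (K.inv_mem hc) x)
    convert this using 1; group⟩
  rw [hinf, Subgroup.mem_bot, mul_inv_eq_one, mul_inv_eq_iff_eq_mul] at h1
  exact h1

/-- Two subgroups with the same prime support and indices prime to it have equal orders. -/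
theorem card_eq_of_hall {X Y : Subgroup H} {q r : ℕ}
    (hX : ∀ l : ℕ, l.Prime → l ∣ Nat.card X → l = q ∨ l = r) (hXi : ¬ q ∣ X.index ∧ ¬ r ∣ X.index)
    (hY : ∀ l : ℕ, l.Prime → l ∣ Nat.card Y → l = q ∨ l = r) (hYi : ¬ q ∣ Y.index ∧ ¬ r ∣ Y.index) :
    Nat.card X = Nat.card Y := by
  have h : ∀ (X Y : Subgroup H), (∀ l : ℕ, l.Prime → l ∣ Nat.card X → l = q ∨ l = r) →
      ¬ q ∣ Y.index ∧ ¬ r ∣ Y.index → Nat.card X ∣ Nat.card Y := by
    intro X Y hX hYi
    refine (Nat.coprime_of_dvd fun l hl hd hi => ?_ : Nat.Coprime (Nat.card X) Y.index).dvd_of_dvd_mul_right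
      (by rw [Subgroup.card_mul_index]; exact Subgroup.card_subgroup_dvd_card X)
    rcases hX l hl hd with rfl | rfl
    exacts [hYi.1 hi, hYi.2 hi]
  exact Nat.dvd_antisymm (h X Y hX hYi) (h Y X hY hXi)

/-- All Hall subgroups complement the core of coprime order. -/
theorem hall_sup {K X Y : Subgroup H} [K.Normal] (hsup : K ⊔ X = ⊤)
    (hXY : Nat.card X = Nat.card Y) (hcop : (Nat.card Y).Coprime (Nat.card K)) : K ⊔ Y = ⊤ := by
  apply Subgroup.eq_top_of_card_eq
  refine le_antisymm (Nat.le_of_dvd Nat.card_pos (Subgroup.card_subgroup_dvd_card _)) ?_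
  have h1 : Nat.card H ≤ Nat.card X * Nat.card K := by
    rw [← Subgroup.card_top (G := H), ← hsup, sup_comm]
    exact Nat.le_of_dvd (Nat.mul_pos Nat.card_pos Nat.card_pos) (HallCore.card_sup_dvd X K)
  refine h1.trans (Nat.le_of_dvd Nat.card_pos ?_)
  rw [hXY]
  exact hcop.mul_dvd_of_dvd_of_dvd (Subgroup.card_dvd_of_le le_sup_right)
    (Subgroup.card_dvd_of_le le_sup_left)

end fix

/-- The standing hypotheses for the image of the acting group. -/
theorem setup_image {H V : Type*} [Group H] [CommGroup V] [MulDistribMulAction H V] [Finite H]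
    (K : Subgroup H) [hK : K.Normal] (a : H) {q : ℕ} (hq : q.Prime)
    (htriv : ∀ v : V, (a ^ q) • v = v) (hcop : q.Coprime (Nat.card K))
    (hmoves : ∃ k ∈ K, ∃ v : V, (k * a * k⁻¹ * a⁻¹) • v ≠ v)
    (hirr : ∀ W : Subgroup V, (∀ (h : H), ∀ w ∈ W, h • w ∈ W) → W = ⊥ ∨ W = ⊤)
    (hgen : ∀ h : H, ∃ k ∈ K, h * a * h⁻¹ = k * a * k⁻¹)
    (hfix : ∀ v : V, v ≠ 1 → ∃ k ∈ K, (k * a * k⁻¹) • v = v ∧
      ∀ c ∈ K, c • v = v → Commute c (k * a * k⁻¹)) :
    Setup (MulDistribMulAction.toMulAut H V).range V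
      (K.map (MulDistribMulAction.toMulAut H V).rangeRestrict)
      ((MulDistribMulAction.toMulAut H V).rangeRestrict a) q := by
  set φ := MulDistribMulAction.toMulAut H V
  have hφ : ∀ (h : H) (v : V), (φ.rangeRestrict h) • v = h • v := fun h v => rfl
  have hext : ∀ h : H, (∀ v : V, h • v = v) → φ.rangeRestrict h = 1 := fun h hh =>
    Subtype.ext (MulEquiv.ext hh)
  have := Fact.mk hq
  exact
    { prime := hq
      order := orderOf_eq_prime (by rw [← map_pow]; exact hext _ htriv) fun e => by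
        obtain ⟨k, -, v, hv⟩ := hmoves
        refine hv ?_
        rw [← hφ, map_mul, map_mul, map_mul, map_inv, map_inv, e, inv_one, mul_one, mul_one,
          mul_inv_cancel, one_smul]
      normal := hK.map _ φ.rangeRestrict_surjective
      gen := fun h => by
        obtain ⟨h, rfl⟩ := φ.rangeRestrict_surjective h
        obtain ⟨k, hk, e⟩ := hgen h
        exact ⟨_, Subgroup.mem_map_of_mem _ hk, by
          rw [← map_inv, ← map_mul, ← map_mul, ← map_inv, ← map_mul, ← map_mul, e]⟩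
      cop := hcop.coprime_dvd_right (Subgroup.card_map_dvd _ _)
      moves := by
        obtain ⟨k, hk, v, hv⟩ := hmoves
        refine ⟨_, Subgroup.mem_map_of_mem _ hk, fun e => hv ?_⟩
        rw [← hφ, map_mul, map_mul, map_mul, map_inv, map_inv, e, mul_inv_cancel_right,
          mul_inv_cancel, one_smul]
      faithful := fun h hh => Subtype.ext (MulEquiv.ext hh)
      irr := fun W hW => hirr W fun h w hw => hW (φ.rangeRestrict h) w hw
      fix := fun v hv => by
        obtain ⟨k, hk, hkv, hkc⟩ := hfix v hv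
        refine ⟨_, Subgroup.mem_map_of_mem _ hk, ?_, ?_⟩
        · rw [← map_inv, ← map_mul, ← map_mul, hφ]; exact hkv
        · rintro _ ⟨c, hc, rfl⟩ hcv
          rw [← map_inv, ← map_mul, ← map_mul]
          exact (hkc c hc hcv).map _ }

end Cfsg.Agent.Palfy7
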