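import Mathlib
import Cfsg.Agent.Lib.PalfySetup7
import Cfsg.Agent.Lib.PalfyFrob7

/-!
An element moving the core cannot cover a second, larger module on which some element of the
centre acts without fixed points.
-/

set_option autoImplicit false
set_option maxHeartbeats 800000
set_option linter.unusedSectionVars false

namespace Cfsg.Agent.Palfy7

universe u

variable {H V W : Type u} [Group H] [Finite H] [CommGroup V] [MulDistribMulAction H V] [Finite V]
  [CommGroup W] [MulDistribMulAction H W] [Finite W]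

/-- In a cyclic subgroup all elements killed by a prime are powers of one of them. -/
theorem mem_zpowers_of_cyclic {Z : Subgroup H} [IsCyclic Z] {l : ℕ} [hl : Fact l.Prime] {d x : H}
    (hd : d ∈ Z) (hd1 : d ≠ 1) (hdl : d ^ l = 1) (hx : x ∈ Z) (hxl : x ^ l = 1) :
    x ∈ Subgroup.zpowers d := by
  classical
  have := Fintype.ofFinite Z
  have := Fintype.ofFinite H
  by_contra hne
  have ho : orderOf d = l := orderOf_eq_prime hdl hd1
  have hle : Subgroup.zpowers d ≤ Z := Subgroup.zpowers_le.2 hd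
  let f : Subgroup.zpowers d → Z := Subgroup.inclusion hle
  have hf : Function.Injective f := Subgroup.inclusion_injective hle
  have hsub : insert (⟨x, hx⟩ : Z) (Finset.univ.image f) ⊆
      Finset.univ.filter (fun w : Z => w ^ l = 1) := by
    intro w hw
    refine Finset.mem_filter.2 ⟨Finset.mem_univ _, ?_⟩
    rcases Finset.mem_insert.1 hw with rfl | hw
    · exact Subtype.ext hxl
    · obtain ⟨⟨_, j, rfl⟩, -, rfl⟩ := Finset.mem_image.1 hw
      refine Subtype.ext ?_
      show (d ^ j) ^ l = 1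
      rw [← zpow_natCast, ← zpow_mul, mul_comm, zpow_mul, zpow_natCast, hdl, one_zpow]
  have hni : (⟨x, hx⟩ : Z) ∉ Finset.univ.image f := fun h => by
    obtain ⟨w, -, hw⟩ := Finset.mem_image.1 h
    have e : (w : H) = x := congrArg Subtype.val hw
    exact hne (e ▸ w.2)
  have h := (Finset.card_le_card hsub).trans (IsCyclic.card_pow_eq_one_le (α := Z) hl.out.pos)
  rw [Finset.card_insert_of_notMem hni, Finset.card_image_of_injective _ hf, Finset.card_univ,
    ← Nat.card_eq_fintype_card, Nat.card_zpowers, ho] at h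
  omega

/-- The non-trivial vectors fixed by a conjugate. -/
theorem card_fix_conj {U : Type u} [CommGroup U] [MulDistribMulAction H U] [Fintype U]
    [DecidableEq U] (b k : H) :
    (Finset.univ.filter fun v : U => v ≠ 1 ∧ (k * b * k⁻¹) • v = v).card =
      Nat.card {v : U // b • v = v} - 1 := by
  classical
  have hmem : (1 : U) ∈ Finset.univ.filter (fun v : U => b • v = v) := by simp
  have h1 : (Finset.univ.filter fun v : U => b • v = v).card = Nat.card {v : U // b • v = v} := by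
    rw [Nat.card_eq_fintype_card, Fintype.card_subtype]
  rw [← h1, ← Finset.card_erase_of_mem hmem]
  refine Finset.card_bij (fun v _ => k⁻¹ • v) (fun v hv => ?_) (fun v _ w _ e => smul_left_cancel _ e)
    (fun v hv => ?_)
  · simp only [Finset.mem_filter, Finset.mem_univ, true_and] at hv
    refine Finset.mem_erase.2 ⟨smul_ne_one' _ hv.1, Finset.mem_filter.2 ⟨Finset.mem_univ _, ?_⟩⟩
    have h := congrArg (k⁻¹ • ·) hv.2
    simp only [mul_smul, inv_smul_smul] at h
    exact h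
  · obtain ⟨hv1, hv2⟩ := Finset.mem_erase.1 hv
    simp only [Finset.mem_filter, Finset.mem_univ, true_and] at hv2
    exact ⟨k • v, by simp [Finset.mem_filter, smul_ne_one' k hv1, mul_smul, hv2], inv_smul_smul k v⟩

/-- The case of one moving element. -/
theorem central_case [Group.IsSolvable H] (K : Subgroup H) [K.Normal] (b : H) {r : ℕ}
    (hr : r.Prime) (hrK : r.Coprime (Nat.card K)) (hbo : (orderOf b).Coprime (Nat.card K))
    (hgen : ∀ h : H, ∃ k ∈ K, h * b * h⁻¹ = k * b * k⁻¹)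
    (hbV : ∀ v : V, (b ^ r) • v = v) (hbW : ∀ w : W, (b ^ r) • w = w)
    (hmoves : ∃ k ∈ K, ∃ v : V, (k * b * k⁻¹ * b⁻¹) • v ≠ v)
    (hirr : ∀ W' : Subgroup V, (∀ (h : H), ∀ w ∈ W', h • w ∈ W') → W' = ⊥ ∨ W' = ⊤)
    (hfix : ∀ v : V, v ≠ 1 → ∃ k ∈ K, (k * b * k⁻¹) • v = v ∧
      ∀ c ∈ K, c • v = v → Commute c (k * b * k⁻¹))
    (hKV : (Nat.card V).Coprime (Nat.card K)) (hKW : (Nat.card W).Coprime (Nat.card K))
    (hrV : ¬ r ∣ Nat.card V) (hrW : ¬ r ∣ Nat.card W) (hlt : Nat.card V < Nat.card W)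
    (hcovW : ∀ w : W, w ≠ 1 → ∃ k ∈ K, b • (k • w) = k • w)
    (hcovK : ∀ k ∈ K, ∀ w : W, w ≠ 1 → k • w = w → ∃ y ∈ K, Commute b (y * k * y⁻¹))
    (hinv : ∀ h : H, (∀ w : W, h • w = w⁻¹) → ∀ v : V, h • v = v) : False := by
  classical
  have := Fintype.ofFinite V
  have := Fintype.ofFinite W
  have : Nontrivial V := by
    obtain ⟨k, -, v, hv⟩ := hmoves
    exact ⟨⟨_, _, hv⟩⟩
  have : Nontrivial W := Finite.one_lt_card_iff_nontrivial.1
    (lt_of_le_of_lt (Nat.one_le_iff_ne_zero.2 Nat.card_pos.ne') hlt)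
  set φ := (MulDistribMulAction.toMulAut H V).rangeRestrict with hφdef
  have hφs : Function.Surjective φ := MonoidHom.rangeRestrict_surjective _
  have hext : ∀ h : H, (∀ v : V, h • v = v) → φ h = 1 := fun h hh =>
    Subtype.ext (MulEquiv.ext hh)
  have hφ : ∀ (h : H) (v : V), φ h • v = h • v := fun _ _ => rfl
  -- elements of the core acting trivially commute with `b`
  obtain ⟨v₀, hv₀⟩ := exists_ne (1 : V)
  have hD : ∀ d ∈ K, φ d = 1 → Commute b d := by
    intro d hd hd1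
    obtain ⟨k, hk, -, hkc⟩ := hfix v₀ hv₀
    have hd' : k * d * k⁻¹ ∈ K := (inferInstance : K.Normal).conj_mem d hd k
    have hfix' : (k * d * k⁻¹) • v₀ = v₀ := by
      rw [← hφ, map_mul, map_mul, hd1, mul_one, map_inv, mul_inv_cancel, one_smul]
    exact ((Commute.conj_iff k).1 (hkc _ hd' hfix')).symm
  have hbpow : b ^ orderOf b = 1 := pow_orderOf_eq_one b
  -- a commutator with `b` centralises them
  have hcentD : ∀ x ∈ K, ∀ d ∈ K, φ d = 1 → Commute (x⁻¹ * (b * x * b⁻¹)) d := by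
    intro x hx d hd hd1
    have h1 : x * d * x⁻¹ ∈ K := (inferInstance : K.Normal).conj_mem d hd x
    have h2 : φ (x * d * x⁻¹) = 1 := by rw [map_mul, map_mul, hd1, mul_one, map_inv, mul_inv_cancel]
    have c1 := (hD d hd hd1).eq
    have c2 := (hD _ h1 h2).eq
    show x⁻¹ * (b * x * b⁻¹) * d = d * (x⁻¹ * (b * x * b⁻¹))
    have c1' : b⁻¹ * d = d * b⁻¹ := by
      calc b⁻¹ * d = b⁻¹ * (d * b) * b⁻¹ := by group
        _ = d * b⁻¹ := by rw [← c1]; group
    calc x⁻¹ * (b * x * b⁻¹) * d = x⁻¹ * (b * x * (b⁻¹ * d)) := by group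
      _ = x⁻¹ * ((b * (x * d * x⁻¹)) * x * b⁻¹) := by rw [c1']; group
      _ = d * (x⁻¹ * (b * x * b⁻¹)) := by rw [c2]; group
  -- a conjugate is determined by a vector it fixes
  have huniq : ∀ v : V, v ≠ 1 → ∀ k ∈ K, ∀ l ∈ K, (k * b * k⁻¹) • v = v →
      (l * b * l⁻¹) • v = v → k * b * k⁻¹ = l * b * l⁻¹ := by
    intro v hv
    obtain ⟨m, hm, hmv, hmc⟩ := hfix v hv
    suffices ∀ l ∈ K, (l * b * l⁻¹) • v = v → l * b * l⁻¹ = m * b * m⁻¹ by
      intro k hk l hl h1 h2; rw [this k hk h1, this l hl h2]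
    intro l hl hlv
    set c := (m * b * m⁻¹)⁻¹ * (l * b * l⁻¹) with hc
    have hcK : c ∈ K := by
      have h := K.mul_mem hm (K.mul_mem ((inferInstance : K.Normal).conj_mem _
        (K.mul_mem (K.inv_mem hm) hl) b⁻¹) (K.inv_mem hl))
      convert h using 1; rw [hc]; group
    have hcv : c • v = v := by rw [hc, mul_smul, hlv, inv_smul_eq_iff, hmv]
    have hl1 : l * b * l⁻¹ = m * b * m⁻¹ * c := by rw [hc, mul_inv_cancel_left]
    have hpow : ∀ k : H, (k * b * k⁻¹) ^ orderOf b = 1 := fun k => by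
      rw [conj_pow, hbpow]; group
    have h2 : c ^ orderOf b = 1 := by
      have h3 := hpow l
      rwa [hl1, (hmc c hcK hcv).symm.mul_pow, hpow, one_mul] at h3
    have h4 : c ^ Nat.card K = 1 :=
      congrArg Subtype.val (pow_card_eq_one' (G := K) (x := ⟨c, hcK⟩))
    have h3 := (pow_gcd_eq_one (a := c)).2 ⟨h2, h4⟩
    rw [hbo.gcd_eq_one, pow_one] at h3
    rw [hl1, h3, mul_one]
  have S := setup_image K b hr hbV hrK hmoves hirr hgen hfix
  have hsign : r ≠ 2 ∨ ∀ v : V, v * v = 1 → v = 1 := by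
    by_cases h2 : r = 2
    · refine Or.inr fun v hv => ?_
      by_contra hne
      have := Fact.mk Nat.prime_two
      exact hrV (h2 ▸ (orderOf_eq_prime (by rw [sq, hv]) hne : orderOf v = 2) ▸ orderOf_dvd_natCard v)
    · exact Or.inl h2
  set Kb := K.map φ with hKb
  have hab : ∀ N : Subgroup (MulDistribMulAction.toMulAut H V).range, N.Normal → N ≤ Kb →
      (∀ x ∈ N, ∀ y ∈ N, x * y = y * x) → ∀ n ∈ N, n ≠ 1 → ∀ v : V, n • v = v → v = 1 :=
    fun N hN _ hc => S.fpf hsign hN hc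
  have : Group.IsSolvable (MulDistribMulAction.toMulAut H V).range :=
    Group.isSolvable_of_surjective (f := φ) hφs
  obtain ⟨Z, hZ⟩ := exists_maxAb Kb
  have hZn := hZ.1.1
  have hZK := hZ.1.2.1
  have hZc := hZ.1.2.2
  have hcyc : IsCyclic Z := FrobeniusFPF.isCyclic_of_comm (W := V)
    (fun m hm w hw => hab Z hZn hZK hZc m m.2 (fun e => hm (Subtype.ext e)) w hw)
    fun x y => Subtype.ext (hZc x x.2 y y.2)
  have hbb : (φ b) ^ r = 1 := by rw [← map_pow]; exact hext _ hbV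
  have hlift : ∀ z ∈ Kb, ∃ x ∈ K, φ x = z := fun z hz => Subgroup.mem_map.1 hz
  by_cases hmv : ∃ z ∈ Z, ¬ Commute (φ b) z
  · -- a moved element of the cyclic normal subgroup
    obtain ⟨z, ⟨hzZ, hzne⟩, hzmin⟩ := Set.exists_min_image
      {z | z ∈ Z ∧ ¬ Commute (φ b) z} orderOf (Set.toFinite _) hmv
    have hz1 : z ≠ 1 := fun e => hzne (e ▸ Commute.one_right _)
    obtain ⟨l, hl, hld⟩ := Nat.exists_prime_and_dvd (fun e => hz1 (orderOf_eq_one_iff.1 e))
    have := Fact.mk hl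
    have hzl : Commute (φ b) (z ^ l) := by
      by_contra hne
      have h1 := hzmin (z ^ l) ⟨Z.pow_mem hzZ l, hne⟩
      rw [orderOf_pow_of_dvd hl.ne_zero hld] at h1
      exact absurd h1 (not_le.2 (Nat.div_lt_self (orderOf_pos z) hl.one_lt))
    obtain ⟨x, hx, rfl⟩ := hlift z (hZK hzZ)
    set g₀ := x⁻¹ * (b * x * b⁻¹) with hg₀
    have hg₀K : g₀ ∈ K := K.mul_mem (K.inv_mem hx) ((inferInstance : K.Normal).conj_mem x hx b)
    have hd : φ g₀ = (φ x)⁻¹ * (φ b * φ x * (φ b)⁻¹) := by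
      rw [hg₀]; simp only [map_mul, map_inv]
    have hdZ : φ g₀ ∈ Z := hd ▸ Z.mul_mem (Z.inv_mem hzZ) (hZn.conj_mem _ hzZ _)
    have hdl : φ g₀ ^ l = 1 := by
      rw [hd, (show Commute (φ x)⁻¹ (φ b * φ x * (φ b)⁻¹) from
        hZc _ (Z.inv_mem hzZ) _ (hZn.conj_mem _ hzZ _)).mul_pow, conj_pow, inv_pow,
        mul_inv_eq_iff_eq_mul.2 hzl.eq, inv_mul_cancel]
    have hdne : ¬ Commute (φ b) (φ g₀) := by
      intro hc
      refine hzne (commute_of_defect hbb S.cop (hZK ?_) ?_)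
      · exact Z.mul_mem (hZn.conj_mem _ hzZ _) (Z.inv_mem hzZ)
      · rwa [hZc _ (hZn.conj_mem _ hzZ _) _ (Z.inv_mem hzZ), ← hd]
    have hd1 : φ g₀ ≠ 1 := fun e => hdne (e ▸ Commute.one_right _)
    obtain ⟨i, hi⟩ : ∃ i : ℕ, φ g₀ ^ i = φ b * φ g₀ * (φ b)⁻¹ := by
      refine mem_powers_iff_mem_zpowers.2 (mem_zpowers_of_cyclic hdZ hd1 hdl
        (hZn.conj_mem _ hdZ _) ?_)
      rw [conj_pow, hdl]; group
    set e := (g₀ ^ i)⁻¹ * (b * g₀ * b⁻¹) with he
    have heK : e ∈ K := K.mul_mem (K.inv_mem (K.pow_mem hg₀K i))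
      ((inferInstance : K.Normal).conj_mem _ hg₀K b)
    have he1 : φ e = 1 := by
      rw [he]; simp only [map_mul, map_inv, map_pow]; rw [hi, inv_mul_cancel]
    have hge : Commute g₀ e := hcentD x hx e heK he1
    have hbe : b * e * b⁻¹ = e := mul_inv_eq_iff_eq_mul.2 (hD e heK he1).eq
    have hbg₀ : b * g₀ * b⁻¹ = g₀ ^ (i : ℤ) * e := by rw [he, zpow_natCast, mul_inv_cancel_left]
    set g := g₀ ^ ((i : ℤ) - 1) * e with hg
    have hgK : g ∈ K := K.mul_mem (K.zpow_mem hg₀K _) heK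
    have hbg : b * g * b⁻¹ = g ^ i := by
      rw [hg, ← zpow_natCast (g₀ ^ ((i : ℤ) - 1) * e), (hge.zpow_left _).mul_zpow, ← zpow_mul]
      calc b * (g₀ ^ ((i : ℤ) - 1) * e) * b⁻¹
          = (b * g₀ * b⁻¹) ^ ((i : ℤ) - 1) * (b * e * b⁻¹) := by rw [conj_zpow]; group
        _ = g₀ ^ ((i : ℤ) * ((i : ℤ) - 1)) * (e ^ ((i : ℤ) - 1) * e) := by
          rw [hbg₀, hbe, (hge.zpow_left _).mul_zpow, ← zpow_mul, mul_assoc]
        _ = _ := by rw [mul_comm (i : ℤ), ← zpow_add_one]; congr 1; simp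
    have hgl : g ^ l = 1 := by
      have h0 : φ (g₀ ^ l) = 1 := by rw [map_pow, hdl]
      have h1 : b * g₀ ^ l * b⁻¹ = g₀ ^ l :=
        mul_inv_eq_iff_eq_mul.2 (hD _ (K.pow_mem hg₀K l) h0).eq
      rw [← conj_pow, hbg₀, (hge.zpow_left _).mul_pow, ← zpow_natCast (g₀ ^ (i : ℤ)),
        ← zpow_mul, ← zpow_natCast g₀ l] at h1
      rw [hg, (hge.zpow_left _).mul_pow, ← zpow_natCast (g₀ ^ ((i : ℤ) - 1)), ← zpow_mul, sub_mul,
        one_mul, zpow_sub, mul_assoc]
      rw [((hge.zpow_left (l : ℤ)).pow_right l).inv_left.eq, ← mul_assoc, h1, mul_inv_cancel]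
    set d := φ g with hdg
    have hgd : d = φ g₀ ^ ((i : ℤ) - 1) := by
      rw [hdg, hg, map_mul, map_zpow, he1, mul_one]
    have hgdZ : d ∈ Z := hgd ▸ Z.zpow_mem hdZ _
    have hgd1 : d ≠ 1 := fun h => hdne (by
      rw [hgd, zpow_sub, zpow_natCast, zpow_one, hi, mul_inv_eq_one] at h
      exact mul_inv_eq_iff_eq_mul.1 h)
    have hdl' : d ^ l = 1 := by rw [hdg, ← map_pow, hgl, map_one]
    have hndn : (Subgroup.zpowers d).Normal := ⟨fun w hw h => by
      obtain ⟨j, rfl⟩ := hw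
      simp only
      rw [← conj_zpow]
      exact Subgroup.zpow_mem _ (mem_zpowers_of_cyclic hgdZ hgd1 hdl'
        (hZn.conj_mem _ hgdZ h) (by rw [conj_pow, hdl']; group)) j⟩
    have hnocomm : ∀ y : (MulDistribMulAction.toMulAut H V).range,
        ¬ Commute (φ b) (y * d * y⁻¹) := by
      intro y hc
      refine hdne (gen_moved (g := d) rfl hc _ ?_)
      exact mem_zpowers_of_cyclic hgdZ hgd1 hdl' hdZ hdl
    have hfV : ∀ v : V, g • v = v → v = 1 := fun v hv =>
      hab Z hZn hZK hZc d hgdZ hgd1 v ((hφ g v).trans hv)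
    have hfW : ∀ w : W, g • w = w → w = 1 := by
      intro w hw
      by_contra hw1
      obtain ⟨y, -, hc⟩ := hcovK g hgK w hw1 hw
      exact hnocomm (φ y) (by rw [← map_inv, ← map_mul, ← map_mul]; exact hc.map φ)
    have hne : b * g * b⁻¹ ≠ g := fun h => hnocomm 1 (by
      simp only [one_mul, inv_one, mul_one]
      exact (show Commute b g from mul_inv_eq_iff_eq_mul.1 h).map φ)
    have hlK : l ∣ Nat.card K := by
      have h1 : g ≠ 1 := fun h => hgd1 (by rw [hdg, h, map_one])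
      exact (orderOf_eq_prime hgl h1) ▸ Subgroup.orderOf_dvd_natCard K hgK
    have key : ∀ (U : Type u) [CommGroup U] [MulDistribMulAction H U] [Finite U] [Nontrivial U],
        (∀ u : U, (b ^ r) • u = u) → (∀ u : U, g • u = u → u = 1) → ¬ r ∣ Nat.card U →
        (Nat.card U).Coprime (Nat.card K) → Nat.card U = Nat.card {u : U // b • u = u} ^ r := by
      intro U _ _ _ _ hbU hgU hrU hKU
      have hgU1 : MulDistribMulAction.toMulAut H U g ≠ 1 := fun h => by
        obtain ⟨u, hu⟩ := exists_ne (1 : U)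
        exact hu (hgU u (DFunLike.congr_fun h u :))
      have hgUl : MulDistribMulAction.toMulAut H U g ^ l = 1 := by rw [← map_pow, hgl, map_one]
      refine frob_card (MulDistribMulAction.toMulAut H U g) (MulDistribMulAction.toMulAut H U b)
        hl hr hgUl (by rw [← map_pow]; exact MulEquiv.ext hbU)
        (i := i) (by rw [← map_inv, ← map_mul, ← map_mul, ← map_pow, hbg]) ?_ hgU
        (fun h => hl.ne_one (Nat.eq_one_of_dvd_coprimes hKU h hlK)) hrU
      intro h
      rw [← map_inv, ← map_mul, ← map_mul, hbg, map_pow] at h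
      refine hne (hbg.trans ?_)
      have hi1 : i % l = 1 % l := by
        have h2 : (MulDistribMulAction.toMulAut H U g) ^ i =
            (MulDistribMulAction.toMulAut H U g) ^ 1 := by rw [pow_one]; exact h
        rw [pow_inj_mod, orderOf_eq_prime hgUl hgU1] at h2
        exact h2
      rw [← Nat.mod_add_div i l, pow_add, pow_mul, hgl, one_pow, mul_one, hi1,
        Nat.mod_eq_of_lt hl.one_lt, pow_one]
    have hV := key V hbV hfV hrV hKV
    have hW := key W hbW hfW hrW hKW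
    set y := Nat.card {v : V // b • v = v}
    set x' := Nat.card {w : W // b • w = w}
    have hy2 : 2 ≤ y := by
      by_contra hlt'
      have h1 := Finite.one_lt_card (α := V)
      rw [hV] at h1
      have h2 := Nat.pow_le_pow_left (show y ≤ 1 by omega) r
      rw [one_pow] at h2
      omega
    have hxy : y < x' := lt_of_pow_lt_pow_left' r (hV ▸ hW ▸ hlt)
    have := Fintype.ofFinite H
    set B := (Finset.univ.filter fun h : H => ∃ k ∈ K, h = k * b * k⁻¹)
    have hB : ∀ h, h ∈ B ↔ ∃ k ∈ K, h = k * b * k⁻¹ := fun h => by simp [B]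
    refine no_cover_count hy2 hxy hr.two_le (n := B.card) ?_ ?_
    · rw [← hV]
      have hU : Finset.univ.filter (fun v : V => v ≠ 1) =
          B.biUnion fun h => Finset.univ.filter fun v : V => v ≠ 1 ∧ h • v = v := by
        ext v
        simp only [Finset.mem_filter, Finset.mem_univ, true_and, Finset.mem_biUnion, hB]
        refine ⟨fun hv => ?_, fun ⟨_, _, hv, _⟩ => hv⟩
        obtain ⟨k, hk, hkv, -⟩ := hfix v hv
        exact ⟨_, ⟨k, hk, rfl⟩, hv, hkv⟩
      have h1 := congrArg Finset.card hU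
      rw [Finset.card_biUnion, Finset.filter_ne', Finset.card_erase_of_mem (Finset.mem_univ _),
        Finset.card_univ, ← Nat.card_eq_fintype_card, Finset.sum_const_nat (m := y - 1)] at h1
      · exact h1.symm
      · intro h hh
        obtain ⟨k, hk, rfl⟩ := (hB h).1 hh
        exact card_fix_conj b k
      · intro h hh h' hh' hne'
        rw [Function.onFun, Finset.disjoint_left]
        intro v hv hv'
        simp only [Finset.mem_filter, Finset.mem_univ, true_and] at hv hv'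
        obtain ⟨k, hk, rfl⟩ := (hB h).1 hh
        obtain ⟨k', hk', rfl⟩ := (hB h').1 hh'
        exact hne' (huniq v hv.1 k hk k' hk' hv.2 hv'.2)
    · rw [← hW]
      have hsub : Finset.univ.filter (fun w : W => w ≠ 1) ⊆
          B.biUnion fun h => Finset.univ.filter fun w : W => w ≠ 1 ∧ h • w = w := by
        intro w hw
        simp only [Finset.mem_filter, Finset.mem_univ, true_and] at hw
        obtain ⟨k, hk, hkw⟩ := hcovW w hw
        refine Finset.mem_biUnion.2 ⟨k⁻¹ * b * k⁻¹⁻¹, (hB _).2 ⟨k⁻¹, K.inv_mem hk, rfl⟩, ?_⟩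
        simp only [Finset.mem_filter, Finset.mem_univ, true_and]
        exact ⟨hw, by rw [mul_smul, mul_smul, inv_inv, hkw, inv_smul_smul]⟩
      have h1 := (Finset.card_le_card hsub).trans Finset.card_biUnion_le
      rw [Finset.filter_ne', Finset.card_erase_of_mem (Finset.mem_univ _), Finset.card_univ,
        ← Nat.card_eq_fintype_card, Finset.sum_const_nat (m := x' - 1)] at h1
      · exact h1
      · intro h hh
        obtain ⟨k, hk, rfl⟩ := (hB h).1 hh
        exact card_fix_conj b k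
  · -- the quaternion case
    push Not at hmv
    obtain ⟨-, U₀, ζ, hU₀n, hU₀K, hU₀Z, hζU, hζZ, hζ1, hζ2, hsq, hkerb, ⟨t, ht, ht1, htζ⟩, hnc,
      hζfpf⟩ := (S.single hab hZ).resolve_left fun ⟨z, hz, hne⟩ => hne (hmv z hz)
    have hζc : ∀ w ∈ U₀, Commute w ζ := fun w hw => hU₀Z w hw ζ hζZ
    -- membership in the centre of the plane
    let In2 : (MulDistribMulAction.toMulAut H V).range → Prop := fun w => w = 1 ∨ w = ζ
    have hIn2 : ∀ w ∈ U₀, In2 (w * w) := hsq
    have hcomm2 : ∀ w ∈ U₀, ∀ s, In2 s → Commute w s := fun w hw s hs => by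
      rcases hs with rfl | rfl
      exacts [Commute.one_right w, hζc w hw]
    have hb2 : ∀ s, In2 s → Commute (φ b) s := fun s hs => by
      rcases hs with rfl | rfl
      exacts [Commute.one_right _, hmv _ hζZ]
    -- elements over the centre of the plane
    have hover : ∀ s ∈ K, In2 (φ s) → Commute b s := by
      intro s hs h2
      have hdK : b * s * b⁻¹ * s⁻¹ ∈ K :=
        K.mul_mem ((inferInstance : K.Normal).conj_mem s hs b) (K.inv_mem hs)
      refine commute_of_defect hbpow hbo hdK (hD _ hdK ?_)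
      simp only [map_mul, map_inv]
      rw [mul_inv_eq_iff_eq_mul.2 (hb2 _ h2).eq, mul_inv_cancel]
    have hstep : ∀ s ∈ K, φ s ∈ U₀ → ¬ In2 (φ s) →
        s⁻¹ * (b * s * b⁻¹) ∈ K ∧ φ (s⁻¹ * (b * s * b⁻¹)) ∈ U₀ ∧
          ¬ In2 (φ (s⁻¹ * (b * s * b⁻¹))) := by
      intro s hs hsU hs2
      have e : φ (s⁻¹ * (b * s * b⁻¹)) = (φ s)⁻¹ * (φ b * φ s * (φ b)⁻¹) := by
        simp only [map_mul, map_inv]
      refine ⟨K.mul_mem (K.inv_mem hs) ((inferInstance : K.Normal).conj_mem s hs b),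
        e ▸ U₀.mul_mem (U₀.inv_mem hsU) (hU₀n.conj_mem _ hsU _), fun h2 => ?_⟩
      refine hnc (φ s) hsU (fun h => hs2 (Or.inl h)) (fun h => hs2 (Or.inr h)) ?_
      rw [e] at h2
      rw [← mul_inv_cancel_left (φ s) (φ b * φ s * (φ b)⁻¹)]
      exact (Commute.refl _).mul_right (hcomm2 _ hsU _ h2)
    obtain ⟨t₀, ht₀, rfl⟩ := hlift t (hU₀K ht)
    obtain ⟨hu1K, hu1U, hu12⟩ := hstep t₀ ht₀ ht (fun h => h.elim ht1 htζ)
    set u₁ := t₀⁻¹ * (b * t₀ * b⁻¹) with hu₁
    have hu₁D : ∀ d ∈ K, φ d = 1 → Commute u₁ d := hcentD t₀ ht₀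
    obtain ⟨huK, huU, hu2⟩ := hstep u₁ hu1K hu1U hu12
    set u := u₁⁻¹ * (b * u₁ * b⁻¹) with hu
    have huc : ∀ s ∈ K, In2 (φ s) → Commute u s := by
      intro s hs h2
      set c := u₁ * s * u₁⁻¹ * s⁻¹ with hc
      have hcK : c ∈ K := K.mul_mem ((inferInstance : K.Normal).conj_mem s hs u₁) (K.inv_mem hs)
      have hc1 : φ c = 1 := by
        rw [hc]; simp only [map_mul, map_inv]
        rw [mul_inv_eq_iff_eq_mul.2 (hcomm2 _ hu1U _ h2).eq, mul_inv_cancel]
      have c1 := (hu₁D c hcK hc1).eq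
      have c2 := (hD c hcK hc1).eq
      have c3 := (hover s hs h2).eq
      have e1 : u₁ * s = c * s * u₁ := by rw [hc]; group
      have c3' : b⁻¹ * s = s * b⁻¹ := by
        calc b⁻¹ * s = b⁻¹ * (s * b) * b⁻¹ := by group
          _ = s * b⁻¹ := by rw [← c3]; group
      have c1' : u₁⁻¹ * c = c * u₁⁻¹ := by
        calc u₁⁻¹ * c = u₁⁻¹ * (c * u₁) * u₁⁻¹ := by group
          _ = c * u₁⁻¹ := by rw [← c1]; group
      have e2 : u₁⁻¹ * s = c⁻¹ * s * u₁⁻¹ := by
        calc u₁⁻¹ * s = c⁻¹ * (c * u₁⁻¹) * s := by group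
          _ = c⁻¹ * u₁⁻¹ * (c * s * u₁) * u₁⁻¹ := by rw [← c1']; group
          _ = _ := by rw [← e1]; group
      show u₁⁻¹ * (b * u₁ * b⁻¹) * s = s * (u₁⁻¹ * (b * u₁ * b⁻¹))
      calc u₁⁻¹ * (b * u₁ * b⁻¹) * s = u₁⁻¹ * b * u₁ * (b⁻¹ * s) := by group
        _ = u₁⁻¹ * b * (u₁ * s) * b⁻¹ := by rw [c3']; group
        _ = u₁⁻¹ * (b * c) * s * u₁ * b⁻¹ := by rw [e1]; group
        _ = u₁⁻¹ * c * (b * s) * u₁ * b⁻¹ := by rw [c2]; group
        _ = u₁⁻¹ * c * (s * b) * u₁ * b⁻¹ := by rw [c3]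
        _ = c * (u₁⁻¹ * s) * b * u₁ * b⁻¹ := by rw [c1']; group
        _ = _ := by rw [e2]; group
    set v := b * u * b⁻¹ with hv
    have hvK : v ∈ K := (inferInstance : K.Normal).conj_mem u huK b
    have hvφ : φ v = φ b * φ u * (φ b)⁻¹ := by rw [hv]; simp only [map_mul, map_inv]
    have hvU : φ v ∈ U₀ := hvφ ▸ hU₀n.conj_mem _ huU _
    have hvc : ∀ s ∈ K, In2 (φ s) → Commute v s := fun s hs h2 => by
      have h := (Commute.conj_iff b).2 (huc s hs h2)
      rwa [mul_inv_eq_iff_eq_mul.2 (hover s hs h2).eq] at h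
    have hncuv : ¬ Commute (φ u) (φ v) := fun h =>
      hnc (φ u) huU (fun e => hu2 (Or.inl e)) (fun e => hu2 (Or.inr e)) (hvφ ▸ h)
    set e := u * v * u⁻¹ * v⁻¹ with he
    have heK : e ∈ K :=
      K.mul_mem (K.mul_mem (K.mul_mem huK hvK) (K.inv_mem huK)) (K.inv_mem hvK)
    have hein : ∀ s₁ s₂, In2 s₁ → In2 s₂ → In2 (s₁ * s₂) := by
      rintro _ _ (rfl | rfl) (rfl | rfl) <;> simp [In2, hζ2]
    have hinv2 : ∀ s, In2 s → In2 s⁻¹ := by
      rintro s (rfl | rfl)
      · exact Or.inl inv_one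
      · exact Or.inr (inv_eq_of_mul_eq_one_right hζ2)
    have he2 : In2 (φ e) := by
      have h1 := hein _ _ (hIn2 _ (U₀.mul_mem huU hvU))
        (hein _ _ (hinv2 _ (hIn2 _ huU)) (hinv2 _ (hIn2 _ hvU)))
      refine Eq.subst (motive := In2) ?_ h1
      have c := (hcomm2 _ (U₀.inv_mem hvU) _ (hinv2 _ (hIn2 _ huU))).eq
      rw [he]; simp only [map_mul, map_inv]
      calc φ u * φ v * (φ u * φ v) * ((φ u * φ u)⁻¹ * (φ v * φ v)⁻¹)
          = φ u * φ v * φ u * φ v * ((φ u * φ u)⁻¹ * (φ v)⁻¹) * (φ v)⁻¹ := by group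
        _ = φ u * φ v * φ u * φ v * ((φ v)⁻¹ * (φ u * φ u)⁻¹) * (φ v)⁻¹ := by rw [c]
        _ = _ := by group
    have heζ : φ e = ζ := he2.resolve_left fun h => hncuv (by
      rw [he] at h; simp only [map_mul, map_inv] at h
      exact mul_inv_eq_iff_eq_mul.1 (mul_inv_eq_one.1 h))
    have hue := (huc e heK he2).eq
    have hve := (hvc e heK he2).eq
    have huv : u * v = e * v * u := by rw [he]; group
    have huuK : u * u ∈ K := K.mul_mem huK huK
    have huu2 : In2 (φ (u * u)) := by rw [map_mul]; exact hIn2 _ huU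
    have hee : e * e = 1 := by
      have c := (hvc (u * u) huuK huu2).eq
      have h1 : u * u * v = e * e * v * (u * u) := by
        calc u * u * v = u * (e * v * u) := by rw [mul_assoc, huv]
          _ = u * e * v * u := by group
          _ = e * (u * v) * u := by rw [hue]; group
          _ = _ := by rw [huv]; group
      rw [mul_assoc (e * e), c, right_eq_mul] at h1
      exact h1
    have hvv : v * v = u * u := by
      rw [hv, show b * u * b⁻¹ * (b * u * b⁻¹) = b * (u * u) * b⁻¹ by group,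
        mul_inv_eq_iff_eq_mul.2 (hover _ huuK huu2).eq]
    set x := u * v⁻¹ with hx
    have hxK : x ∈ K := K.mul_mem huK (K.inv_mem hvK)
    have hxx : x * x = e := by
      have h1 : v⁻¹ * u = e * u * v⁻¹ := by
        calc v⁻¹ * u = v⁻¹ * (u * v) * v⁻¹ := by group
          _ = v⁻¹ * (v * e) * u * v⁻¹ := by rw [huv, hve]; group
          _ = _ := by group
      calc x * x = u * (v⁻¹ * u) * v⁻¹ := by rw [hx]; group
        _ = e * (u * u) * (v * v)⁻¹ := by rw [h1, show u * (e * u * v⁻¹) = u * e * u * v⁻¹ by group, hue]; group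
        _ = e := by rw [hvv]; group
    set y := b * x * b⁻¹ with hy
    have hyK : y ∈ K := (inferInstance : K.Normal).conj_mem x hxK b
    have hbe := (hover e heK he2).eq
    have hyy : y * y = e := by
      rw [hy, show b * x * b⁻¹ * (b * x * b⁻¹) = b * (x * x) * b⁻¹ by group, hxx,
        mul_inv_eq_iff_eq_mul.2 hbe]
    have hxφ : φ x ∈ U₀ := by
      rw [hx, map_mul, map_inv]; exact U₀.mul_mem huU (U₀.inv_mem hvU)
    have hyφ : φ y = φ b * φ x * (φ b)⁻¹ := by rw [hy]; simp only [map_mul, map_inv]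
    have hx2 : ¬ In2 (φ x) := fun h => hncuv (by
      rw [hx, map_mul, map_inv] at h
      have c := hcomm2 _ hvU _ h
      have := (Commute.mul_left c.symm (Commute.refl (φ v)))
      rwa [inv_mul_cancel_right] at this)
    have hy2 : ¬ In2 (φ y) := fun h => hx2 (by
      have : φ x = φ y := by
        have c := (hb2 _ h).eq
        rw [hyφ] at c ⊢
        calc φ x = (φ b)⁻¹ * (φ b * φ x * (φ b)⁻¹ * φ b) := by group
          _ = φ b * φ x * (φ b)⁻¹ := by rw [← c]; group
      exact this ▸ h)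
    have hxy2 : ¬ In2 (φ x * φ y) := fun h => by
      refine hnc (φ x) hxφ (fun e => hx2 (Or.inl e)) (fun e => hx2 (Or.inr e)) ?_
      rw [← hyφ, ← inv_mul_cancel_left (φ x) (φ y)]
      exact (Commute.refl (φ x)).inv_right.mul_right (hcomm2 _ hxφ _ h)
    -- the fixed space of the involution
    obtain ⟨w₀, hw₀⟩ : ∃ w : W, w * e • w ≠ 1 := by
      by_contra hall
      push Not at hall
      refine hζ1 (heζ ▸ hext e (hinv e fun w => ?_))
      exact eq_inv_of_mul_eq_one_right (hall w)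
    have hefix : e • (w₀ * e • w₀) = w₀ * e • w₀ := by
      rw [smul_mul', ← mul_smul, hee, one_smul, mul_comm]
    have hcx : Commute e x := by
      have := ((Commute.mul_right (show Commute e u from hue.symm)
        (show Commute e v⁻¹ from (show Commute e v from hve.symm).inv_right)))
      exact this
    have hcy : Commute e y := by
      have h := (Commute.conj_iff b).2 hcx
      rwa [mul_inv_eq_iff_eq_mul.2 hbe] at h
    obtain ⟨z, hzK, hzU, hz2, w, hw1, hzw⟩ : ∃ z ∈ K, φ z ∈ U₀ ∧ ¬ In2 (φ z) ∧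
        ∃ w : W, w ≠ 1 ∧ z • w = w := by
      set w₁ := w₀ * e • w₀ with hw₁
      have step : ∀ z : H, z * z = e → Commute e z → ∀ w : W, e • w = w →
          e • (w * z • w) = w * z • w ∧ z • (w * z • w) = w * z • w := by
        intro z hzz hcz w hw
        refine ⟨?_, ?_⟩
        · rw [smul_mul', hw, ← mul_smul, hcz.eq, mul_smul, hw]
        · rw [smul_mul', ← mul_smul, hzz, hw, mul_comm]
      by_cases h1 : w₁ * x • w₁ = 1
      swap
      · exact ⟨x, hxK, hxφ, hx2, _, h1, (step x hxx hcx w₁ hefix).2⟩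
      by_cases h2 : w₁ * y • w₁ = 1
      swap
      · exact ⟨y, hyK, hyφ ▸ hU₀n.conj_mem _ hxφ _, hy2, _, h2, (step y hyy hcy w₁ hefix).2⟩
      refine ⟨x * y, K.mul_mem hxK hyK, ?_, ?_, w₁, hw₀, ?_⟩
      · rw [map_mul]; exact U₀.mul_mem hxφ (hyφ ▸ hU₀n.conj_mem _ hxφ _)
      · rwa [map_mul]
      · rw [mul_smul, eq_inv_of_mul_eq_one_right h2, smul_inv', eq_inv_of_mul_eq_one_right h1,
          inv_inv]
    obtain ⟨k, -, hc⟩ := hcovK z hzK w hw1 hzw
    have hc' : Commute (φ b) (φ k * φ z * (φ k)⁻¹) := by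
      rw [← map_inv, ← map_mul, ← map_mul]; exact hc.map φ
    have hZ' : φ k * φ z * (φ k)⁻¹ ∈ Z := by
      rcases hkerb _ (hU₀n.conj_mem _ hzU _) hc' with h | h <;> rw [h]
      exacts [Z.one_mem, hζZ]
    have hzZ := hZn.conj_mem _ hZ' (φ k)⁻¹
    rw [show (φ k)⁻¹ * (φ k * φ z * (φ k)⁻¹) * (φ k)⁻¹⁻¹ = φ z by group] at hzZ
    exact hz2 (hkerb _ hzU (hmv _ hzZ))

end Cfsg.Agent.Palfy7
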