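import Mathlib
import Cfsg.Agent.Lib.CharExtension
import Cfsg.Agent.Lib.DegreeDvd
import Cfsg.Agent.Lib.CharInducedRep
import Cfsg.Agent.Lib.PalfyTools7

/-!
Characters of a group of class two over a non-trivial character of the derived subgroup.
-/

set_option autoImplicit false
set_option maxHeartbeats 800000
set_option linter.unusedSectionVars false

namespace Cfsg.Agent.Palfy7

open CharBasic CharBasicOrth CharBasicDecomp CharInduced

universe u

/-- An invariant irreducible character extends when its index is prime to the order. -/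
theorem coprime_ext {T : Type u} [Group T] [Finite T] (N : Subgroup T) [N.Normal] {θ : N → ℂ}
    (hθ : Cfsg.IsIrrCharacter N θ)
    (hinv : ∀ (g : T) (n : N), θ ⟨g * n * g⁻¹, (inferInstance : N.Normal).conj_mem (n : T) n.2 g⟩ = θ n)
    (hcop : N.index.Coprime (Nat.card N)) :
    ∃ χ : T → ℂ, Cfsg.IsIrrCharacter T χ ∧ ∀ n : N, χ n = θ n := by
  obtain ⟨d, ρ, hd, -, hρ, S, himpl, hirr⟩ := CharExtension.exists_setup hθ hinv
  have := hirr
  have hdN : d ∣ Nat.card N := by
    have h := DegreeDvd.finrank_dvd_card (CharExtension.toRep ρ)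
    rwa [Module.finrank_fin_fun] at h
  let lam : N →* ℂˣ := (CharExtension.detU d).comp ρ
  have hlinv : ∀ g n, lam (CharExtension.cn g n) = lam n := fun g n => by
    obtain ⟨w, hw⟩ := himpl g
    show CharExtension.detU d (ρ (CharExtension.cn g n)) = CharExtension.detU d (ρ n)
    rw [← hw n, map_mul, map_mul, map_inv, mul_comm, inv_mul_cancel_left]
  have hord : orderOf lam ∣ Nat.card N := orderOf_dvd_of_pow_eq_one (MonoidHom.ext fun n => by
    rw [MonoidHom.pow_apply, ← map_pow, pow_card_eq_one', map_one, MonoidHom.one_apply])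
  obtain ⟨μ, hμ, -, -⟩ := CharExtension.linear_ext_coprime lam hlinv (hcop.coprime_dvd_right hord)
  obtain ⟨η, hη, -⟩ := CharExtension.exists_ext_det S himpl (CharExtension.detU d) d
    (CharExtension.detU_scal d) (fun a => CharExtension.exists_root d a hd)
    (hcop.coprime_dvd_right hdN) μ (fun n => hμ n)
  obtain ⟨h1, h2⟩ := CharExtension.ext_to_char_top hirr η hη
  exact ⟨_, h1, fun n => by rw [h2, hρ]⟩

/-- The sum of all linear characters of a finite abelian group. -/
theorem sum_linear {Q : Type u} [CommGroup Q] [Finite Q] [Fintype (Q →* ℂˣ)] {x : Q} (hx : x ≠ 1) :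
    ∑ l : Q →* ℂˣ, (l x : ℂ) = 0 := by
  obtain ⟨l₀, hl₀⟩ : ∃ l₀ : Q →* ℂˣ, l₀ x ≠ 1 := by
    by_contra h
    push Not at h
    exact hx ((CommGroup.forall_apply_eq_apply_iff (G := Q) (M := ℂ)).1
      fun φ => (h φ).trans (map_one φ).symm)
  have h : ∑ l : Q →* ℂˣ, (l x : ℂ) = (l₀ x : ℂ) * ∑ l : Q →* ℂˣ, (l x : ℂ) := by
    rw [Finset.mul_sum]
    exact (Fintype.sum_equiv (Equiv.mulLeft l₀) _ _ fun l => by simp).symm
  have h2 : ((l₀ x : ℂ) - 1) * ∑ l : Q →* ℂˣ, (l x : ℂ) = 0 := by
    rw [sub_mul, one_mul, ← h, sub_self]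
  exact (mul_eq_zero.1 h2).resolve_left (sub_ne_zero.2 fun e => hl₀ (Units.ext e))

section twist

variable {P : Type u} [Group P] [Finite P] (M : Subgroup P) [M.Normal]

/-- An irreducible character over a linear character of a central subgroup. -/
theorem exists_over (hM : M ≤ Subgroup.center P) (μ : M →* ℂˣ) :
    ∃ θ : P → ℂ, Cfsg.IsIrrCharacter P θ ∧ ∀ m : M, θ m = θ 1 * μ m := by
  classical
  have := Fintype.ofFinite P
  have := Fintype.ofFinite M
  set f : M → ℂ := fun m => (μ m : ℂ) with hf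
  have hfi : Cfsg.IsIrrCharacter M f := isIrrCharacter_linear μ
  have hcl := CharInduced.isClassFunction_ind M f
  obtain ⟨χ, hχ⟩ : ∃ χ : Cfsg.IrrCharacter P, Cfsg.classInner (Cfsg.indFun M f) (χ : P → ℂ) ≠ 0 := by
    by_contra h
    push Not at h
    have h1 := congrFun (eq_sum_classInner hcl) 1
    simp only [Finset.sum_apply, h, zero_smul, Pi.zero_apply, Finset.sum_const_zero] at h1
    rw [CharInduced.ind_one_apply, show f 1 = 1 by simp [hf], mul_one, Nat.cast_eq_zero] at h1
    exact Subgroup.index_ne_zero_of_finite h1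
  refine ⟨χ, χ.2, fun m => ?_⟩
  rw [CharInduced.inner_ind_left M f (CharInduced.isClassFunction_irr χ.2)] at hχ
  obtain ⟨n, ρ, hρ, hχρ⟩ := χ.2
  have hsc : ∀ z : M, ∃ c : ℂ, ρ z = c • LinearMap.id := fun z =>
    exists_scalar_of_mem_center ρ (hM z.2)
  choose c hc using hsc
  have := nontrivial_of_irreducible ρ
  have hinj : ∀ a b : ℂ, a • (LinearMap.id : (Fin n → ℂ) →ₗ[ℂ] (Fin n → ℂ)) = b • LinearMap.id →
      a = b := fun a b e => by
    obtain ⟨v, hv⟩ := exists_ne (0 : Fin n → ℂ)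
    exact smul_left_injective ℂ hv (LinearMap.congr_fun e v)
  have hcm : ∀ a b : M, c (a * b) = c a * c b := fun a b => hinj _ _ (by
    rw [← hc, Subgroup.coe_mul, map_mul, hc, hc]
    ext v; simp [mul_assoc, mul_left_comm])
  have hc1 : c 1 = 1 := hinj _ _ (by rw [← hc, OneMemClass.coe_one, map_one, one_smul]; rfl)
  let C : M →* ℂ := { toFun := c, map_one' := hc1, map_mul' := hcm }
  let L : M →* ℂˣ := C.toHomUnits
  have hLc : ∀ z : M, (L z : ℂ) = c z := fun z => rfl
  have hval : ∀ z : M, (χ : P → ℂ) z = (n : ℂ) * (L z : ℂ) := fun z => by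
    rw [hLc, ← hχρ]; simp [Representation.character, hc, mul_comm]
  suffices L = μ by
    rw [hval, this, show (χ : P → ℂ) 1 = n by rw [← hχρ]; simp]
  by_contra hne
  apply hχ
  rw [show (fun h : M => (χ : P → ℂ) h) = (n : ℂ) • (fun z : M => (L z : ℂ)) from funext hval,
    CharBasicOrth.classInner_smul_right,
    classInner_irr_ne hfi (isIrrCharacter_linear L) (fun e => hne (MonoidHom.ext fun z =>
      Units.ext (congrFun e z).symm)), mul_zero]

variable {M}

/-- The characters over the same one differ by a linear character. -/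
theorem twist_trans (hMc : ∀ x y : P, x * y * x⁻¹ * y⁻¹ ∈ M) (μ : M →* ℂˣ) {θ θ' : P → ℂ}
    (hθ : Cfsg.IsIrrCharacter P θ) (hθ' : Cfsg.IsIrrCharacter P θ')
    (h : ∀ m : M, θ m = θ 1 * μ m) (h' : ∀ m : M, θ' m = θ' 1 * μ m) :
    ∃ l : P →* ℂˣ, (∀ m : M, l m = 1) ∧ θ' = fun x => (l x : ℂ) * θ x := by
  classical
  have := Fintype.ofFinite P
  let _ : CommGroup (P ⧸ M) :=
    { (inferInstance : Group (P ⧸ M)) with
      mul_comm := fun a b => by
        induction a using QuotientGroup.induction_on with | H a => ?_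
        induction b using QuotientGroup.induction_on with | H b => ?_
        rw [← QuotientGroup.mk_mul, ← QuotientGroup.mk_mul, QuotientGroup.eq]
        have := hMc b⁻¹ a⁻¹
        rw [inv_inv, inv_inv] at this
        convert this using 1; group }
  have hQc : Nat.card ((P ⧸ M) →* ℂˣ) = Nat.card (P ⧸ M) :=
    CommGroup.card_monoidHom_of_hasEnoughRootsOfUnity (P ⧸ M) ℂ
  have : Finite ((P ⧸ M) →* ℂˣ) := Nat.finite_of_card_ne_zero (hQc ▸ Nat.card_pos.ne')
  have := Fintype.ofFinite ((P ⧸ M) →* ℂˣ)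
  obtain ⟨l, hl⟩ : ∃ l : (P ⧸ M) →* ℂˣ,
      Cfsg.classInner θ' (fun x => (l (x : P ⧸ M) : ℂ) * θ x) ≠ 0 := by
    by_contra hall
    push Not at hall
    have hsum := classInner_sum_right (G := P) Finset.univ
      (fun (l : (P ⧸ M) →* ℂˣ) (x : P) => (l (x : P ⧸ M) : ℂ) * θ x) θ'
    simp only [hall, Finset.sum_const_zero] at hsum
    have h1 := card_mul_classInner θ'
      (∑ l : (P ⧸ M) →* ℂˣ, fun x : P => (l (x : P ⧸ M) : ℂ) * θ x)
    rw [hsum, mul_zero] at h1
    have hval : ∀ x : P, θ' x * starRingEnd ℂ ((∑ l : (P ⧸ M) →* ℂˣ,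
        fun x : P => (l (x : P ⧸ M) : ℂ) * θ x) x) =
        if x ∈ M then (Fintype.card ((P ⧸ M) →* ℂˣ) : ℂ) * (θ' 1 * starRingEnd ℂ (θ 1)) else 0 := by
      intro x
      rw [Finset.sum_apply, ← Finset.sum_mul]
      split_ifs with hx
      · have e : (x : P ⧸ M) = 1 := (QuotientGroup.eq_one_iff x).2 hx
        simp only [e, map_one, Units.val_one, Finset.sum_const, Finset.card_univ, nsmul_eq_mul,
          mul_one]
        rw [h ⟨x, hx⟩, h' ⟨x, hx⟩]
        have hn := norm_linear μ ⟨x, hx⟩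
        simp only [map_mul, map_natCast]
        have hu : (μ ⟨x, hx⟩ : ℂ) * starRingEnd ℂ (μ ⟨x, hx⟩ : ℂ) = 1 := by
          rw [Complex.mul_conj', hn]; norm_num
        linear_combination (θ' 1 * starRingEnd ℂ (θ 1) * (Fintype.card ((P ⧸ M) →* ℂˣ) : ℂ)) * hu
      · rw [sum_linear (fun e => hx ((QuotientGroup.eq_one_iff x).1 e)), zero_mul, map_zero,
          mul_zero]
    rw [Finset.sum_congr rfl fun x _ => hval x, Finset.sum_ite, Finset.sum_const_zero, add_zero,
      Finset.sum_const, nsmul_eq_mul] at h1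
    have hcard : (Finset.univ.filter fun x : P => x ∈ M).card ≠ 0 :=
      Finset.card_ne_zero.2 ⟨1, by simp⟩
    rcases mul_eq_zero.1 h1.symm with e | e
    · exact hcard (by exact_mod_cast e)
    · rcases mul_eq_zero.1 e with e | e
      · exact Fintype.card_ne_zero (Nat.cast_eq_zero.1 e)
      · rcases mul_eq_zero.1 e with e | e
        · exact isIrrCharacter_apply_one_ne_zero hθ' e
        · exact isIrrCharacter_apply_one_ne_zero hθ ((map_eq_zero _).1 e)
  refine ⟨l.comp (QuotientGroup.mk' M), fun m => ?_, ?_⟩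
  · show l ((m : P) : P ⧸ M) = 1
    rw [(QuotientGroup.eq_one_iff (m : P)).2 m.2, map_one]
  · by_contra hne
    refine hl (classInner_irr_ne hθ' ?_ hne)
    have := isIrrCharacter_mul_linear hθ (l.comp (QuotientGroup.mk' M))
    convert this using 1
    funext x; simp [mul_comm]

/-- An automorphism fixing all characters over `μ` fixes the radical of `μ` modulo `M`. -/
theorem radical_fixed (hMc : ∀ x y : P, x * y * x⁻¹ * y⁻¹ ∈ M) (μ : M →* ℂˣ) {θ : P → ℂ}
    (hθ : Cfsg.IsIrrCharacter P θ) (h : ∀ m : M, θ m = θ 1 * μ m) (σ : P →* P)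
    (hfix : ∀ l : P →* ℂˣ, (∀ m : M, l m = 1) → ∀ x, (l (σ x) : ℂ) * θ (σ x) = (l x : ℂ) * θ x)
    (x : P) (hx : ∀ y, μ ⟨x * y * x⁻¹ * y⁻¹, hMc x y⟩ = 1) : x⁻¹ * σ x ∈ M := by
  classical
  have hθx : θ x ≠ 0 := by
    obtain ⟨n, ρ, hρ, hθρ⟩ := hθ
    have hn : θ 1 = n := by rw [← hθρ]; simp
    have hcomm : ∀ y v, ρ x (ρ y v) = ρ y (ρ x v) := by
      intro y v
      have h1 : ρ (x * y * x⁻¹ * y⁻¹) = LinearMap.id := by
        rw [← character_eq_finrank_iff, Module.finrank_fin_fun, ← hn,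
          show ρ.character = θ from hθρ]
        have h2 := h ⟨_, hMc x y⟩
        rw [hx y, Units.val_one, mul_one] at h2
        exact h2
      have h3 : ρ x * ρ y = ρ y * ρ x := by
        rw [← map_mul, ← map_mul, show x * y = x * y * x⁻¹ * y⁻¹ * (y * x) by group, map_mul, h1]
        rfl
      exact LinearMap.congr_fun h3 v
    obtain ⟨c, hc, htr⟩ := exists_scalar_of_commute ρ (ρ x) hcomm
    have := nontrivial_of_irreducible ρ
    have hc0 : c ≠ 0 := by
      rintro rfl
      rw [zero_smul] at hc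
      have h1 : ρ x⁻¹ * ρ x = 1 := by rw [← map_mul, inv_mul_cancel, map_one]
      rw [hc, mul_zero] at h1
      exact zero_ne_one h1
    rw [← hθρ]
    show LinearMap.trace ℂ _ (ρ x) ≠ 0
    rw [htr, Module.finrank_fin_fun]
    refine mul_ne_zero ?_ hc0
    rw [← hn]; exact isIrrCharacter_apply_one_ne_zero ⟨n, ρ, hρ, hθρ⟩
  have h0 : θ (σ x) = θ x := by simpa using hfix 1 (fun _ => rfl) x
  let _ : CommGroup (P ⧸ M) :=
    { (inferInstance : Group (P ⧸ M)) with
      mul_comm := fun a b => by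
        induction a using QuotientGroup.induction_on with | H a => ?_
        induction b using QuotientGroup.induction_on with | H b => ?_
        rw [← QuotientGroup.mk_mul, ← QuotientGroup.mk_mul, QuotientGroup.eq]
        have := hMc b⁻¹ a⁻¹
        rw [inv_inv, inv_inv] at this
        convert this using 1; group }
  refine QuotientGroup.eq.1 ((CommGroup.forall_apply_eq_apply_iff (G := P ⧸ M) (M := ℂ)).1
    fun l => ?_)
  have h1 := hfix (l.comp (QuotientGroup.mk' M)) (fun m => by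
    show l ((m : P) : P ⧸ M) = 1
    rw [(QuotientGroup.eq_one_iff (m : P)).2 m.2, map_one]) x
  rw [h0] at h1
  exact Units.ext (mul_right_cancel₀ hθx h1).symm

end twist

/-- An averaged twist is fixed by a group of order prime to the twisting group. -/
theorem exists_fixed_twist {K L Θ : Type*} [Group K] [Finite K] [CommGroup L] [Finite L]
    [MulAction L Θ] (fθ : K → Θ → Θ) (fL : K → L →* L)
    (hmul : ∀ k l θ, fθ (k * l) θ = fθ k (fθ l θ))
    (hcompat : ∀ k x θ, fθ k (x • θ) = fL k x • fθ k θ)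
    {θ₀ : Θ} (htrans : ∀ k, ∃ x : L, fθ k θ₀ = x • θ₀)
    (hcop : (Nat.card K).Coprime (Nat.card L)) : ∃ x : L, ∀ k, fθ k (x • θ₀) = x • θ₀ := by
  classical
  have := Fintype.ofFinite K
  choose c hc using htrans
  have hmulc : ∀ {a b a' b' : L}, a • θ₀ = a' • θ₀ → b • θ₀ = b' • θ₀ →
      (a * b) • θ₀ = (a' * b') • θ₀ := fun {a b a' b'} h1 h2 => by
    rw [mul_smul, h2, ← mul_smul, mul_comm, mul_smul, h1, ← mul_smul, mul_comm]
  have hprod : ∀ (s : Finset K) (a b : K → L), (∀ i, a i • θ₀ = b i • θ₀) →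
      (∏ i ∈ s, a i) • θ₀ = (∏ i ∈ s, b i) • θ₀ := fun s a b hab => by
    induction s using Finset.induction_on with
    | empty => simp
    | @insert i s hi ih => rw [Finset.prod_insert hi, Finset.prod_insert hi]; exact hmulc (hab i) ih
  have hck : ∀ k l, c (k * l) • θ₀ = (fL k (c l) * c k) • θ₀ := fun k l => by
    rw [← hc, hmul, hc l, hcompat, hc k, ← mul_smul]
  have hpow : ∀ (j : ℕ) {a b : L}, a • θ₀ = b • θ₀ → (a ^ j) • θ₀ = (b ^ j) • θ₀ := fun j a b h => by
    induction j with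
    | zero => simp
    | succ j ih => rw [pow_succ, pow_succ]; exact hmulc ih h
  set m := Nat.card K
  obtain ⟨j, hj⟩ : ∃ j : ℕ, ∀ x : L, x ^ (m * j) = x := by
    rcases (Nat.one_le_iff_ne_zero.2 (Nat.card_pos (α := L)).ne').eq_or_lt with h | h
    · have : Subsingleton L := (Nat.card_eq_one_iff_unique.1 h.symm).1
      exact ⟨0, fun x => Subsingleton.elim _ _⟩
    · obtain ⟨j, -, hj⟩ := Nat.exists_mul_mod_eq_gcd (k := Nat.card L) (n := m)
        (by rwa [hcop.gcd_eq_one])
      exact ⟨j, fun x => by rw [← pow_mod_natCard, hj, hcop.gcd_eq_one, pow_one]⟩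
  set t := ∏ l : K, c l
  refine ⟨t ^ j, fun k => ?_⟩
  rw [hcompat, hc k, ← mul_smul]
  have ht : t • θ₀ = (fL k t * c k ^ m) • θ₀ := by
    have h1 := hprod Finset.univ (fun l => c (k * l)) (fun l => fL k (c l) * c k) (hck k)
    rw [Fintype.prod_equiv (Equiv.mulLeft k) (fun l => c (k * l)) c (fun l => rfl),
      Finset.prod_mul_distrib, Finset.prod_const, Finset.card_univ, ← Nat.card_eq_fintype_card,
      ← map_prod] at h1
    exact h1
  rw [hpow j ht, mul_pow, ← pow_mul, hj, map_pow]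

end Cfsg.Agent.Palfy7
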