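import Mathlib
import Cfsg.Agent.Lib.PalfySetup7

/-!
Consequences of minimality in a split extension `G = π.ker ⋊ H` of a least three-prime example.
-/

set_option autoImplicit false
set_option maxHeartbeats 800000
set_option linter.unusedSectionVars false

namespace Cfsg.Agent.Palfy7

universe u

variable {G H : Type u} [Group G] [Finite G] [Group.IsSolvable G] [Group H] [Finite H]
variable {p q r : ℕ} {π : G →* H} {ι : H →* G}

/-- A least example has all proper normal subgroups of index divisible by one of the three primes. -/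
theorem normal_eq_top (B : Bad G p q r)
    (hmin : ∀ L : Subgroup G, L.Normal → L ≠ ⊤ → ¬ Bad L p q r) (L : Subgroup G) [L.Normal]
    (hp : ¬ p ∣ L.index) (hq : ¬ q ∣ L.index) (hr : ¬ r ∣ L.index) : L = ⊤ := by
  by_contra hL
  exact hmin L inferInstance hL
    ⟨B.pp, B.qp, B.rp, B.pq, B.qr, B.pr, occ_of_normal L B.pp hp B.op, occ_of_normal L B.qp hq B.oq,
      occ_of_normal L B.rp hr B.or', B.npq.of_normal L, B.nqr.of_normal L, B.npr.of_normal L⟩

/-- The coprime core and an abelian Hall subgroup exhaust the complement. -/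
theorem core_sup_eq_top [Group.IsSolvable H] (B : Bad G p q r)
    (hmin : ∀ L : Subgroup G, L.Normal → L ≠ ⊤ → ¬ Bad L p q r)
    (hπι : ∀ h, π (ι h) = h) (X : Subgroup H) (hXc : ∀ a ∈ X, ∀ b ∈ X, a * b = b * a)
    (hXπ : ∀ l : ℕ, l.Prime → l ∣ Nat.card X → l = q ∨ l = r)
    (hXq : ¬ q ∣ X.index) (hXr : ¬ r ∣ X.index)
    (P : Subgroup H) [P.Normal] (hPp : IsPGroup p P) (hPi : ¬ p ∣ P.index) :
    ∃ K : Subgroup H, K.Normal ∧ K ⊔ X = ⊤ ∧ ¬ q ∣ Nat.card K ∧ ¬ r ∣ Nat.card K ∧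
      (Nat.card X).Coprime (Nat.card K) ∧ P ≤ K := by
  obtain ⟨K, hKn, hKq, hKr, hn, hle⟩ := exists_core_sup B.qp B.rp X hXc hXπ hXq hXr
  have := Fact.mk B.pp
  obtain ⟨i, hi⟩ := IsPGroup.iff_card.1 hPp
  have hPK : P ≤ K := hle P inferInstance
    (fun h => B.pq ((Nat.prime_dvd_prime_iff_eq B.qp B.pp).1 (B.qp.dvd_of_dvd_pow (hi ▸ h))).symm)
    (fun h => B.pr ((Nat.prime_dvd_prime_iff_eq B.rp B.pp).1 (B.rp.dvd_of_dvd_pow (hi ▸ h))).symm)
  refine ⟨K, hKn, ?_, hKq, hKr, Nat.coprime_of_dvd fun l hl hX hK => ?_, hPK⟩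
  · have := hn.comap π
    have hi : ((K ⊔ X).comap π).index = (K ⊔ X).index :=
      Subgroup.index_comap_of_surjective _ fun h => ⟨ι h, hπι h⟩
    have htop := normal_eq_top B hmin ((K ⊔ X).comap π)
      (fun h => hPi ((hi ▸ h).trans (Subgroup.index_dvd_of_le (hPK.trans le_sup_left))))
      (fun h => hXq ((hi ▸ h).trans (Subgroup.index_dvd_of_le le_sup_right)))
      (fun h => hXr ((hi ▸ h).trans (Subgroup.index_dvd_of_le le_sup_right)))
    refine (Subgroup.eq_top_iff' _).2 fun h => ?_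
    have := htop.symm ▸ Subgroup.mem_top (ι h)
    rwa [Subgroup.mem_comap, hπι] at this
  · rcases hXπ l hl hX with rfl | rfl
    exacts [hKq hK, hKr hK]

/-- The `q`-th power of a `q`-element of the Hall subgroup is central. -/
theorem pow_central (B : Bad G p q r)
    (hmin : ∀ L : Subgroup G, L.Normal → L ≠ ⊤ → ¬ Bad L p q r)
    (hπι : ∀ h, π (ι h) = h) (K X : Subgroup H) [K.Normal]
    (hXc : ∀ a ∈ X, ∀ b ∈ X, a * b = b * a) (hsup : K ⊔ X = ⊤)
    (hcop : (Nat.card X).Coprime (Nat.card K)) (hKq : ¬ q ∣ Nat.card K)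
    (hNmin : ∀ L : Subgroup G, L.Normal → L ≤ π.ker → L = ⊥ ∨ L = π.ker ∨
      (Nat.card π.ker).Coprime q)
    {a : H} (ha : a ∈ X) {e : ℕ} (hae : a ^ q ^ e = 1) :
    (∀ n ∈ π.ker, Commute (ι (a ^ q)) n) ∧ ∀ k ∈ K, Commute (a ^ q) k := by
  have hq := Fact.mk B.qp
  by_cases ha1 : a = 1
  · subst ha1; simp [Commute.one_left]
  let pw : H →* H ⧸ K := QuotientGroup.mk' K
  let X₀ : Subgroup H :=
    { carrier := {y | ∃ x ∈ X, x ^ q = y}
      one_mem' := ⟨1, X.one_mem, one_pow q⟩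
      mul_mem' := by
        rintro _ _ ⟨x, hx, rfl⟩ ⟨y, hy, rfl⟩
        exact ⟨x * y, X.mul_mem hx hy, (show Commute x y from hXc x hx y hy).mul_pow q⟩
      inv_mem' := by
        rintro _ ⟨x, hx, rfl⟩
        exact ⟨x⁻¹, X.inv_mem hx, inv_pow x q⟩ }
  have hX₀X : X₀ ≤ X := by rintro _ ⟨x, hx, rfl⟩; exact X.pow_mem hx q
  have hsplit : ∀ h : H, ∃ k ∈ K, ∃ x ∈ X, h = k * x := fun h => by
    obtain ⟨k, hk, x, hx, e⟩ := Subgroup.mem_sup_of_normal_left.1
      (hsup.symm ▸ Subgroup.mem_top h : h ∈ K ⊔ X)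
    exact ⟨k, hk, x, hx, e.symm⟩
  have hM₀ : (K ⊔ X₀).Normal := ⟨fun y hy h => by
    obtain ⟨k, hk, x, hx, rfl⟩ := hsplit h
    obtain ⟨m, hm, x₀, hx₀, rfl⟩ := Subgroup.mem_sup_of_normal_left.1 hy
    have e : x * x₀ * x⁻¹ = x₀ := mul_inv_eq_iff_eq_mul.2 (hXc x hx x₀ (hX₀X hx₀))
    have e2 : k * x * (m * x₀) * (k * x)⁻¹ = k * (x * m * x⁻¹) * (x * x₀ * x⁻¹) * k⁻¹ := by group
    rw [e2, e]
    exact mul_mem (mul_mem (mul_mem (Subgroup.mem_sup_left hk)
      (Subgroup.mem_sup_left ((inferInstance : K.Normal).conj_mem m hm x)))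
      (Subgroup.mem_sup_right hx₀)) (Subgroup.mem_sup_left (K.inv_mem hk))⟩
  have hidx : ∃ i, (K ⊔ X₀).index = q ^ i := by
    have hp : IsPGroup q (H ⧸ (K ⊔ X₀)) := fun y => ⟨1, by
      induction y using QuotientGroup.induction_on with | H h => ?_
      obtain ⟨k, hk, x, hx, rfl⟩ := hsplit h
      rw [QuotientGroup.mk_mul, (QuotientGroup.eq_one_iff k).2 (Subgroup.mem_sup_left hk), one_mul,
        ← QuotientGroup.mk_pow, pow_one, QuotientGroup.eq_one_iff]
      exact Subgroup.mem_sup_right ⟨x, hx, rfl⟩⟩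
    obtain ⟨i, hi⟩ := IsPGroup.iff_card.1 hp
    exact ⟨i, by rw [Subgroup.index_eq_card, hi]⟩
  have hne : K ⊔ X₀ ≠ ⊤ := by
    intro htop
    -- every element of `X` is a `q`-th power, so `a` is trivial
    have hall : ∀ x ∈ X, x ∈ X₀ := by
      intro x hx
      obtain ⟨k, hk, x₀, hx₀, e⟩ := Subgroup.mem_sup_of_normal_left.1
        (htop.symm ▸ Subgroup.mem_top x : x ∈ K ⊔ X₀)
      have hkX : k ∈ X ⊓ K := ⟨by
        show k ∈ X
        have := X.mul_mem hx (X.inv_mem (hX₀X hx₀))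
        rwa [← e, mul_inv_cancel_right] at this, hk⟩
      rw [Subgroup.inf_eq_bot_of_coprime hcop, Subgroup.mem_bot] at hkX
      rw [hkX, one_mul] at e
      exact e ▸ hx₀
    let f : X → X := fun x => ⟨(x : H) ^ q, X.pow_mem x.2 q⟩
    have hf : Function.Surjective f := fun y => by
      obtain ⟨x, hx, e⟩ := hall y y.2
      exact ⟨⟨x, hx⟩, Subtype.ext e⟩
    have hfi : Function.Injective f := Finite.injective_iff_surjective.2 hf
    have hcan : ∀ j : ℕ, ∀ x : X, (x : H) ^ q ^ j = 1 → (x : H) = 1 := by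
      intro j
      induction j with
      | zero => intro x hx; simpa using hx
      | succ j ih =>
        intro x hx
        have h1 := ih (f x) (by
          show ((x : H) ^ q) ^ q ^ j = 1
          rw [← pow_mul, ← pow_succ']; exact hx)
        exact congrArg Subtype.val (hfi (a₁ := x) (a₂ := 1) (Subtype.ext (by
          show (x : H) ^ q = (1 : H) ^ q
          rw [one_pow]; exact h1)))
    exact ha1 (hcan e ⟨a, ha⟩ hae)
  obtain ⟨i, hi⟩ := hidx
  set L := (K ⊔ X₀).comap π with hL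
  have hLn : L.Normal := hM₀.comap π
  have hLi : L.index = q ^ i := by
    rw [hL, Subgroup.index_comap_of_surjective _ fun h => ⟨ι h, hπι h⟩, hi]
  have hLne : L ≠ ⊤ := fun h => hne ((Subgroup.eq_top_iff' _).2 fun y => by
    have := h.symm ▸ Subgroup.mem_top (ι y)
    rwa [hL, Subgroup.mem_comap, hπι] at this)
  have hlost : ¬ Occ L q := by
    intro ho
    have hnd : ∀ x : ℕ, x.Prime → x ≠ q → ¬ x ∣ L.index := fun x hx hxq h =>
      hxq ((Nat.prime_dvd_prime_iff_eq hx B.qp).1 (hx.dvd_of_dvd_pow (hLi ▸ h)))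
    exact hmin L hLn hLne ⟨B.pp, B.qp, B.rp, B.pq, B.qr, B.pr,
      occ_of_normal L B.pp (hnd p B.pp B.pq) B.op, ho,
      occ_of_normal L B.rp (hnd r B.rp B.qr.symm) B.or',
      B.npq.of_normal L, B.nqr.of_normal L, B.npr.of_normal L⟩
  obtain ⟨S⟩ : Nonempty (Sylow q L) := inferInstance
  obtain ⟨hSn, hSc⟩ := sylow_of_not_occ hlost S
  have : (S : Subgroup L).Characteristic := Sylow.characteristic_of_normal S hSn
  set A := (S : Subgroup L).map L.subtype with hA
  have hAn : A.Normal := ConjAct.normal_of_characteristic_of_normal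
  have hAc : ∀ x ∈ A, ∀ y ∈ A, x * y = y * x := by
    rintro _ ⟨x, hx, rfl⟩ _ ⟨y, hy, rfl⟩
    exact congrArg Subtype.val (hSc x hx y hy)
  have hAq : IsPGroup q A := S.isPGroup'.map _
  have haL : ι (a ^ q) ∈ L := by
    rw [hL, Subgroup.mem_comap, hπι]; exact Subgroup.mem_sup_right ⟨a, ha, rfl⟩
  have haA : ι (a ^ q) ∈ A := by
    have hz : IsPGroup q (Subgroup.zpowers (⟨ι (a ^ q), haL⟩ : L)) := by
      refine IsPGroup.iff_card.2 ?_
      rw [Nat.card_zpowers]
      have hd : orderOf (⟨ι (a ^ q), haL⟩ : L) ∣ q ^ e := by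
        refine orderOf_dvd_of_pow_eq_one (Subtype.ext ?_)
        show ι (a ^ q) ^ q ^ e = 1
        rw [← map_pow, ← pow_mul, mul_comm, pow_mul, hae, one_pow, map_one]
      obtain ⟨j, -, hj⟩ := (Nat.dvd_prime_pow B.qp).1 hd
      exact ⟨j, hj⟩
    obtain ⟨T, hT⟩ := hz.exists_le_sylow
    have : Unique (Sylow q L) := Sylow.unique_of_normal S hSn
    rw [Subsingleton.elim T S] at hT
    exact ⟨⟨ι (a ^ q), haL⟩, hT (Subgroup.mem_zpowers _), rfl⟩
  refine ⟨fun n hn => ?_, fun k hk => ?_⟩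
  · have := hAn
    set c := ι (a ^ q) * n * (ι (a ^ q))⁻¹ * n⁻¹ with hc
    have hcA : c ∈ A := by
      have := A.mul_mem haA (hAn.conj_mem _ (A.inv_mem haA) n)
      convert this using 1; rw [hc]; group
    have hcN : c ∈ π.ker := π.ker.mul_mem (π.normal_ker.conj_mem n hn _) (π.ker.inv_mem hn)
    have key : c = 1 → Commute (ι (a ^ q)) n := fun h => by
      rw [hc, mul_inv_eq_one, mul_inv_eq_iff_eq_mul] at h; exact h
    rcases hNmin (A ⊓ π.ker) inferInstance inf_le_right with h | h | h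
    · exact key ((Subgroup.eq_bot_iff_forall _).1 h c ⟨hcA, hcN⟩)
    · exact hAc _ haA n ((h.symm ▸ hn : n ∈ A ⊓ π.ker)).1
    · apply key
      obtain ⟨j, hj⟩ := hAq ⟨c, hcA⟩
      have h1 : c ^ q ^ j = 1 := congrArg Subtype.val hj
      have h2 : c ^ Nat.card π.ker = 1 :=
        congrArg Subtype.val (pow_card_eq_one' (G := π.ker) (x := ⟨c, hcN⟩))
      have h3 := (pow_gcd_eq_one (a := c)).2 ⟨h2, h1⟩
      rwa [(h.pow_right j).gcd_eq_one, pow_one] at h3
  · set d := a ^ q * k * (a ^ q)⁻¹ * k⁻¹ with hd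
    have hdK : d ∈ K := K.mul_mem ((inferInstance : K.Normal).conj_mem k hk _) (K.inv_mem hk)
    have hdA : ι d ∈ A := by
      have := A.mul_mem haA (hAn.conj_mem _ (A.inv_mem haA) (ι k))
      convert this using 1
      rw [hd]; simp only [map_mul, map_inv]; group
    obtain ⟨j, hj⟩ := hAq ⟨ι d, hdA⟩
    have hι : Function.Injective ι := fun x y h => by rw [← hπι x, h, hπι]
    have h1 : d ^ q ^ j = 1 := hι (by rw [map_pow, map_one]; exact congrArg Subtype.val hj)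
    have h2 : d ^ Nat.card K = 1 :=
      congrArg Subtype.val (pow_card_eq_one' (G := K) (x := ⟨d, hdK⟩))
    have h3 := (pow_gcd_eq_one (a := d)).2 ⟨h2, h1⟩
    rw [(((B.qp.coprime_iff_not_dvd).2 hKq).symm.pow_right j).gcd_eq_one, pow_one, hd,
      mul_inv_eq_one, mul_inv_eq_iff_eq_mul] at h3
    exact h3

end Cfsg.Agent.Palfy7
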