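import Mathlib
import Cfsg.Agent.Lib.PalfySplit7
import Cfsg.Agent.Lib.CharBasicLinear

/-!
No least three-prime example has a minimal normal subgroup of order prime to the lost prime.
-/

set_option autoImplicit false
set_option maxHeartbeats 800000
set_option linter.unusedSectionVars false

namespace Cfsg.Agent.Palfy7

open CharBasic CharInduced CharBasicDecomp

universe u

theorem pow_mem_of_normal {H : Type u} [Group H] [Finite H] (I : Subgroup H) [I.Normal] {a : H}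
    (h : (orderOf a).Coprime I.index) : a ∈ I := by
  obtain ⟨i, hi⟩ := exists_pow_eq_self_of_coprime (x := a) (n := I.index) h.symm
  rw [← hi]
  exact I.pow_mem (I.pow_index_mem a) i

theorem normal_of_le {H : Type u} [Group H] [Finite H] {K X : Subgroup H} [K.Normal]
    (hXc : ∀ a ∈ X, ∀ b ∈ X, a * b = b * a) (hsup : K ⊔ X = ⊤) {I : Subgroup H} (hKI : K ≤ I) :
    I.Normal := by
  refine ⟨fun i hi h => ?_⟩
  obtain ⟨k, hk, x, hx, rfl⟩ :=
    Subgroup.mem_sup_of_normal_left.1 (hsup.symm ▸ Subgroup.mem_top h : h ∈ K ⊔ X)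
  obtain ⟨k', hk', x', hx', rfl⟩ :=
    Subgroup.mem_sup_of_normal_left.1 (hsup.symm ▸ Subgroup.mem_top i : i ∈ K ⊔ X)
  have hx'I : x' ∈ I := by
    have := I.mul_mem (I.inv_mem (hKI hk')) hi
    rwa [inv_mul_cancel_left] at this
  have e : k * x * (k' * x') * (k * x)⁻¹ = k * (x * k' * x⁻¹) * x' * k⁻¹ := by
    have : x * x' * x⁻¹ = x' := mul_inv_eq_iff_eq_mul.2 (hXc x hx x' hx')
    calc _ = k * (x * k' * x⁻¹) * (x * x' * x⁻¹) * k⁻¹ := by group
      _ = _ := by rw [this]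
  rw [e]
  exact I.mul_mem (I.mul_mem (I.mul_mem (hKI hk)
    (hKI ((inferInstance : K.Normal).conj_mem k' hk' x))) hx'I) (I.inv_mem (hKI hk))

variable {G H : Type u} [Group G] [Finite G] [Group.IsSolvable G] [Group H] [Finite H]
  [Group.IsSolvable H]

/-- The case of a minimal normal subgroup prime to the lost prime. -/
theorem case_two {p q r : ℕ} (B : Bad G p q r)
    (hmin : ∀ L : Subgroup G, L.Normal → L ≠ ⊤ → ¬ Bad L p q r)
    (π : G →* H) (ι : H →* G) (hπι : ∀ h, π (ι h) = h) (hne : π.ker ≠ ⊥)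
    (hNmin : ∀ L : Subgroup G, L.Normal → L ≤ π.ker → L = ⊥ ∨ L = π.ker)
    (hNc : ∀ x ∈ π.ker, ∀ y ∈ π.ker, x * y = y * x)
    (P : Subgroup H) [P.Normal] (hPp : IsPGroup p P) (hPi : ¬ p ∣ P.index)
    (hPN : ∃ x ∈ P, ∃ n ∈ π.ker, ¬ Commute (ι x) n) : False := by
  classical
  set N := π.ker with hN
  have hsurj : Function.Surjective π := fun h => ⟨ι h, hπι h⟩
  let _ : CommGroup N :=
    { (inferInstance : Group N) with mul_comm := fun x y => Subtype.ext (hNc x x.2 y y.2) }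
  let cjn : H → N →* N := fun h => (MulAut.conjNormal (H := N) (ι h)).toMonoidHom
  let act : MulDistribMulAction H (N →* ℂˣ) :=
    { smul := fun h v => v.comp (cjn h⁻¹)
      one_smul := fun v => MonoidHom.ext fun n => by
        show v (MulAut.conjNormal (ι (1 : H)⁻¹) n) = v n
        rw [inv_one, map_one, map_one, MulAut.one_apply]
      mul_smul := fun g h v => MonoidHom.ext fun n => by
        show v (MulAut.conjNormal (ι (g * h)⁻¹) n) =
          v (MulAut.conjNormal (ι h⁻¹) (MulAut.conjNormal (ι g⁻¹) n))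
        rw [mul_inv_rev, map_mul, map_mul, MulAut.mul_apply]
      smul_mul := fun _ _ _ => rfl
      smul_one := fun _ => rfl }
  have hsm : ∀ (h : H) (v : N →* ℂˣ) (n : N),
      (h • v) n = v ⟨(ι h)⁻¹ * n * ι h, (by
      have h' := π.normal_ker.conj_mem _ n.2 (ι h)⁻¹
      rwa [inv_inv] at h')⟩ := by
    intro h v n
    show v (MulAut.conjNormal (ι h⁻¹) n) = _
    refine congrArg v (Subtype.ext ?_)
    simp
  have htriv : ∀ h : H, (∀ v : N →* ℂˣ, h • v = v) → ∀ n ∈ N, Commute (ι h) n := by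
    intro h hh n hn
    have h1 := (CommGroup.forall_apply_eq_apply_iff (G := N) (M := ℂ)).1 (fun v : N →* ℂˣ =>
      (hsm h v ⟨n, hn⟩).symm.trans (DFunLike.congr_fun (hh v) ⟨n, hn⟩))
    have h2 : (ι h)⁻¹ * n * ι h = n := congrArg Subtype.val h1
    calc ι h * n = ι h * ((ι h)⁻¹ * n * ι h) := by rw [h2]
      _ = n * ι h := by group
  have hVcard : Nat.card (N →* ℂˣ) = Nat.card N :=
    CommGroup.card_monoidHom_of_hasEnoughRootsOfUnity N ℂ
  have : Finite (N →* ℂˣ) := Nat.finite_of_card_ne_zero (hVcard ▸ Nat.card_pos.ne')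
  have : Nontrivial (N →* ℂˣ) := by
    rw [← Finite.one_lt_card_iff_nontrivial, hVcard, Subgroup.one_lt_card_iff_ne_bot]
    exact hne
  have hirr : ∀ W : Subgroup (N →* ℂˣ), (∀ (h : H), ∀ w ∈ W, h • w ∈ W) → W = ⊥ ∨ W = ⊤ := by
    intro W hW
    let A : Subgroup G :=
      { carrier := {g | ∃ hg : g ∈ N, ∀ w ∈ W, w ⟨g, hg⟩ = 1}
        one_mem' := ⟨N.one_mem, fun w _ => map_one w⟩
        mul_mem' := fun {a b} ⟨ha, ha'⟩ ⟨hb, hb'⟩ => ⟨N.mul_mem ha hb, fun w hw => by
          show w (⟨a, ha⟩ * ⟨b, hb⟩) = 1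
          rw [map_mul, ha' w hw, hb' w hw, one_mul]⟩
        inv_mem' := fun {a} ⟨ha, ha'⟩ => ⟨N.inv_mem ha, fun w hw => by
          show w (⟨a, ha⟩⁻¹) = 1
          rw [map_inv, ha' w hw, inv_one]⟩ }
    have hA : A.Normal := ⟨fun a ⟨ha, ha'⟩ g => by
      have hmem : g * (ι (π g))⁻¹ ∈ N := by
        rw [hN, MonoidHom.mem_ker, map_mul, map_inv, hπι, mul_inv_cancel]
      refine ⟨π.normal_ker.conj_mem a ha g, fun w hw => ?_⟩
      have hc : ι (π g) * a * (ι (π g))⁻¹ ∈ N := π.normal_ker.conj_mem a ha _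
      have e : g * a * g⁻¹ = ι (π g) * a * (ι (π g))⁻¹ := by
        have h1 := hNc _ hmem _ hc
        calc g * a * g⁻¹
            = g * (ι (π g))⁻¹ * (ι (π g) * a * (ι (π g))⁻¹) * (g * (ι (π g))⁻¹)⁻¹ := by group
          _ = ι (π g) * a * (ι (π g))⁻¹ * (g * (ι (π g))⁻¹) * (g * (ι (π g))⁻¹)⁻¹ := by rw [h1]
          _ = _ := by group
      have h3 := ha' _ (hW (π g)⁻¹ w hw)
      rw [hsm] at h3
      refine Eq.trans (congrArg w (Subtype.ext ?_)) h3
      show g * a * g⁻¹ = (ι (π g)⁻¹)⁻¹ * a * ι (π g)⁻¹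
      rw [e, map_inv, inv_inv]⟩
    rcases hNmin A hA (fun g ⟨hg, _⟩ => hg) with h | h
    · refine Or.inr (Subgroup.eq_top_of_card_eq W (le_antisymm
        (Nat.le_of_dvd Nat.card_pos (Subgroup.card_subgroup_dvd_card W)) ?_))
      rw [hVcard]
      let ev : N → (W →* ℂˣ) := fun n =>
        { toFun := fun w => (w : N →* ℂˣ) n
          map_one' := rfl
          map_mul' := fun _ _ => rfl }
      have hev : Function.Injective ev := by
        intro n m e
        have hm : (n * m⁻¹ : N) = 1 := by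
          refine Subtype.ext ((Subgroup.eq_bot_iff_forall _).1 h _
            ⟨(n * m⁻¹).2, fun w hw => ?_⟩)
          show w (n * m⁻¹) = 1
          rw [map_mul, map_inv, show w n = w m from DFunLike.congr_fun e ⟨w, hw⟩, mul_inv_cancel]
        exact mul_inv_eq_one.1 hm
      have hWcard : Nat.card (W →* ℂˣ) = Nat.card W :=
        CommGroup.card_monoidHom_of_hasEnoughRootsOfUnity W ℂ
      have : Finite (W →* ℂˣ) := Nat.finite_of_card_ne_zero (hWcard ▸ Nat.card_pos.ne')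
      exact hWcard ▸ Nat.card_le_card_of_injective ev hev
    · refine Or.inl ((Subgroup.eq_bot_iff_forall _).2 fun w hw => MonoidHom.ext fun n => ?_)
      obtain ⟨_, hg⟩ := (h.symm ▸ n.2 : (n : G) ∈ A)
      exact hg w hw
  -- degrees over a vector
  have hdeg : ∀ v : N →* ℂˣ, ∀ β : Cfsg.IrrCharacter (MulAction.stabilizer H v),
      ∃ χ : Cfsg.IrrCharacter G, (MulAction.stabilizer H v).index *
        Cfsg.charDegree (β : MulAction.stabilizer H v → ℂ) ∣ Cfsg.charDegree (χ : G → ℂ) := by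
    intro v
    set T := inertia N (fun n => (v n : ℂ)) with hT
    have hv : Cfsg.IsIrrCharacter N (fun n => (v n : ℂ)) := isIrrCharacter_linear v
    have hNT : N ≤ T := le_inertia N (CharBasic.isClassFunction_of_isCharacter
      (isCharacter_of_isIrrCharacter hv))
    have hinvT : ∀ t ∈ T, ∀ n : N, v ⟨t * n * t⁻¹, π.normal_ker.conj_mem _ n.2 t⟩ = v n :=
      fun t ht n => Units.ext ((mem_inertia_iff N).1 ht n)
    have hιT : ∀ t ∈ T, ι (π t) ∈ T := fun t ht => by
      have hn : t⁻¹ * ι (π t) ∈ N := by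
        rw [hN, MonoidHom.mem_ker, map_mul, map_inv, hπι, inv_mul_cancel]
      simpa using T.mul_mem ht (hNT hn)
    have hkmem : ∀ t : G, t * (ι (π t))⁻¹ ∈ N := fun t => by
      rw [hN, MonoidHom.mem_ker, map_mul, map_inv, hπι, mul_inv_cancel]
    let χ₀h : T →* ℂˣ :=
      { toFun := fun t => v ⟨(t : G) * (ι (π t))⁻¹, hkmem t⟩
        map_one' := by
          rw [show (⟨((1 : T) : G) * (ι (π (1 : T)))⁻¹, hkmem _⟩ : N) = 1 from
            Subtype.ext (by simp)]
          exact map_one v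
        map_mul' := fun s t => by
          rw [← hinvT _ (hιT s s.2) ⟨(t : G) * (ι (π t))⁻¹, hkmem t⟩, ← map_mul]
          refine congrArg v (Subtype.ext ?_)
          simp only [Subgroup.coe_mul, map_mul]
          group }
    have hext : ∀ n : N, (χ₀h ⟨n, hNT n.2⟩ : ℂ) = (v n : ℂ) := fun n => by
      have e : π (n : G) = 1 := n.2
      exact congrArg (fun z => (v z : ℂ)) (Subtype.ext (by simp [e]))
    have hcomap : T.comap ι = MulAction.stabilizer H v := by
      ext h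
      rw [Subgroup.mem_comap, MulAction.mem_stabilizer_iff, mem_inertia_iff]
      constructor
      · intro hh
        have h2 : h⁻¹ • v = v := MonoidHom.ext fun n => by
          rw [hsm]
          refine Eq.trans (congrArg v (Subtype.ext ?_)) (Units.ext (hh n))
          simp
        conv_lhs => rw [← h2]
        exact smul_inv_smul h v
      · intro hh n
        have h2 : h⁻¹ • v = v := inv_smul_eq_iff.2 hh.symm
        show (v _ : ℂ) = (v n : ℂ)
        refine congrArg Units.val ?_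
        refine Eq.trans ?_ (DFunLike.congr_fun h2 n)
        rw [hsm]
        refine congrArg v (Subtype.ext ?_)
        simp
    intro β
    obtain ⟨β', hidx, hβ'⟩ : ∃ β' : Cfsg.IrrCharacter (T.comap ι),
        (T.comap ι).index = (MulAction.stabilizer H v).index ∧
        Cfsg.charDegree (β' : T.comap ι → ℂ) =
          Cfsg.charDegree (β : MulAction.stabilizer H v → ℂ) := by
      rw [hcomap]
      exact ⟨β, rfl, rfl⟩
    obtain ⟨χ, hχ⟩ := degree_over hπι ⟨_, hv⟩ (T := T) hT ⟨_, isIrrCharacter_linear χ₀h⟩ hNT hext β'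
    exact ⟨χ, (dvd_mul_right _ _).trans (by rwa [hidx, hβ'] at hχ)⟩
  -- the lost prime divides every index
  have := Fact.mk B.pp
  have hp : ∀ v : N →* ℂˣ, v ≠ 1 → p ∣ (MulAction.stabilizer H v).index := by
    intro v hv
    by_contra hnd
    set Hv := MulAction.stabilizer H v
    obtain ⟨i, hi⟩ := IsPGroup.iff_card.1 hPp
    have hle : P ≤ Hv := by
      have h1 : Hv.relIndex (Hv ⊔ P) ∣ Nat.card P := by
        have h2 : Nat.card Hv * Hv.relIndex (Hv ⊔ P) ∣ Nat.card Hv * Nat.card P := by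
          rw [HallCore.card_mul_relIndex le_sup_left]; exact HallCore.card_sup_dvd Hv P
        exact Nat.dvd_of_mul_dvd_mul_left Nat.card_pos h2
      obtain ⟨j, -, hj⟩ := (Nat.dvd_prime_pow B.pp).1 (hi ▸ h1)
      have h3 : Hv.relIndex (Hv ⊔ P) ∣ Hv.index :=
        Subgroup.relIndex_dvd_index_of_le le_sup_left
      have hj0 : j = 0 := by
        by_contra hj0
        exact hnd (((hj ▸ dvd_pow_self p hj0) : p ∣ Hv.relIndex (Hv ⊔ P)).trans h3)
      rw [hj0, pow_zero, Subgroup.relIndex_eq_one] at hj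
      exact le_sup_right.trans hj
    have hinv : ∀ h : H, ∀ w ∈ fixV (N →* ℂˣ) P, h • w ∈ fixV (N →* ℂˣ) P := fun h w hw x hx => by
      have h1 := hw _ ((inferInstance : P.Normal).conj_mem x hx h⁻¹)
      rw [inv_inv, mul_smul, mul_smul, inv_smul_eq_iff] at h1
      exact h1
    rcases hirr _ hinv with h | h
    · exact hv ((Subgroup.eq_bot_iff_forall _).1 h v fun x hx => hle hx)
    · obtain ⟨x, hx, n, hn, hxn⟩ := hPN
      exact hxn (htriv x (fun w => (h.symm ▸ Subgroup.mem_top w : w ∈ fixV (N →* ℂˣ) P) x hx) n hn)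
  -- stabilisers contain abelian normal Hall subgroups
  have hstab : ∀ v : N →* ℂˣ, v ≠ 1 → ∃ X : Subgroup H, (∀ a ∈ X, ∀ b ∈ X, a * b = b * a) ∧
      (∀ l : ℕ, l.Prime → l ∣ Nat.card X → l = q ∨ l = r) ∧ ¬ q ∣ X.index ∧ ¬ r ∣ X.index ∧
      (∀ x ∈ X, x • v = v) ∧ ∀ c : H, c • v = v → ∀ x ∈ X, c * x * c⁻¹ ∈ X := by
    intro v hv
    set Hv := MulAction.stabilizer H v with hHv
    have hidx : ∀ x : ℕ, x.Prime → NA G p x → ¬ x ∣ Hv.index ∧ ¬ Occ Hv x := by
      intro x hx hna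
      refine ⟨fun h => ?_, fun ⟨β, hβ⟩ => ?_⟩
      · obtain ⟨χ, hχ⟩ := hdeg v ⟨_, isIrrCharacter_one⟩
        exact hna χ (((hp v hv).mul_right _).trans hχ) ((h.mul_right _).trans hχ)
      · obtain ⟨χ, hχ⟩ := hdeg v β
        exact hna χ (((hp v hv).mul_right _).trans hχ) ((hβ.mul_left _).trans hχ)
    obtain ⟨hq1, hq2⟩ := hidx q B.qp B.npq
    obtain ⟨hr1, hr2⟩ := hidx r B.rp B.npr
    obtain ⟨X, hXn, hXc, hXπ, hXq, hXr⟩ := exists_hall B.qp B.rp B.qr hq2 hr2
    refine ⟨X.map Hv.subtype, ?_, fun l hl h => hXπ l hl (h.trans (Subgroup.card_map_dvd _ _)),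
      ?_, ?_, ?_, ?_⟩
    · rintro _ ⟨a, ha, rfl⟩ _ ⟨b, hb, rfl⟩
      exact congrArg Subtype.val (hXc a ha b hb)
    · rw [Subgroup.index_map_subtype]; exact fun h => (B.qp.dvd_mul.1 h).elim hXq hq1
    · rw [Subgroup.index_map_subtype]; exact fun h => (B.rp.dvd_mul.1 h).elim hXr hr1
    · rintro _ ⟨a, -, rfl⟩; exact a.2
    · rintro c hc _ ⟨a, ha, rfl⟩
      exact ⟨⟨c, hc⟩ * a * ⟨c, hc⟩⁻¹, hXn.conj_mem a ha _, by simp⟩
  obtain ⟨v₀, hv₀⟩ := exists_ne (1 : N →* ℂˣ)
  obtain ⟨X, hXc, hXπ, hXq, hXr, -, -⟩ := hstab v₀ hv₀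
  obtain ⟨K, hKn, hsup, hKq, hKr, hcop, hPK⟩ :=
    core_sup_eq_top B hmin hπι X hXc hXπ hXq hXr P hPp hPi
  have := hKn
  have hgen : ∀ a ∈ X, ∀ h : H, ∃ k ∈ K, h * a * h⁻¹ = k * a * k⁻¹ := by
    intro a ha h
    obtain ⟨k, hk, x, hx, rfl⟩ :=
      Subgroup.mem_sup_of_normal_left.1 (hsup.symm ▸ Subgroup.mem_top h : h ∈ K ⊔ X)
    refine ⟨k, hk, ?_⟩
    calc k * x * a * (k * x)⁻¹ = k * (x * a * x⁻¹) * k⁻¹ := by group
      _ = k * a * k⁻¹ := by rw [mul_inv_eq_iff_eq_mul.2 (hXc x hx a ha)]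
  have hfix : ∀ a ∈ X, ∀ v : N →* ℂˣ, v ≠ 1 → ∃ k ∈ K, (k * a * k⁻¹) • v = v ∧
      ∀ c ∈ K, c • v = v → Commute c (k * a * k⁻¹) := by
    intro a ha v hv
    obtain ⟨X', hX'c, hX'π, hX'q, hX'r, hX'v, hX'n⟩ := hstab v hv
    have hcard := card_eq_of_hall hXπ ⟨hXq, hXr⟩ hX'π ⟨hX'q, hX'r⟩
    have hcop' : (Nat.card X').Coprime (Nat.card K) := hcard ▸ hcop
    obtain ⟨k, hk, hkX, hkc⟩ := exists_fix K X' hX'c (hall_sup hsup hcard hcop') hcop'
      (hcop.coprime_dvd_left (Subgroup.orderOf_dvd_natCard X ha))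
    exact ⟨k, hk, hX'v _ hkX, fun c hc hcv => hkc c hc (hX'n c hcv)⟩
  have hι : Function.Injective ι := fun x y h => by rw [← hπι x, h, hπι]
  -- choice of an element moving the core, for either prime
  have hchoice : ∀ {x y : ℕ}, Bad G p x y → (∀ L : Subgroup G, L.Normal → L ≠ ⊤ → ¬ Bad L p x y) →
      ¬ x ∣ X.index → ¬ x ∣ Nat.card K →
      ∃ a ∈ X, (∃ e, a ^ x ^ e = 1) ∧ (∀ v : N →* ℂˣ, (a ^ x) • v = v) ∧
        ∃ k ∈ K, ∃ v : N →* ℂˣ, (k * a * k⁻¹ * a⁻¹) • v ≠ v := by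
    intro x y B' hmin' hXx hKx
    have := Fact.mk B'.qp
    have hpow : ∀ a ∈ X, (∃ e, a ^ x ^ e = 1) → ∀ v : N →* ℂˣ, (a ^ x) • v = v := by
      rintro a ha ⟨e, he⟩ v
      obtain ⟨hc, -⟩ := pow_central B' hmin' hπι K X hXc hsup hcop hKx
        (fun L hL hLN => (hNmin L hL hLN).imp id Or.inl) ha he
      refine MonoidHom.ext fun n => ?_
      rw [hsm]
      refine congrArg v (Subtype.ext ?_)
      show (ι (a ^ x))⁻¹ * n * ι (a ^ x) = n
      rw [mul_assoc, ← (hc n n.2).eq, inv_mul_cancel_left]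
    by_contra hno
    push Not at hno
    obtain ⟨S⟩ : Nonempty (Sylow x X) := inferInstance
    set Q₀ := (S : Subgroup X).map X.subtype with hQ₀
    have hQX : Q₀ ≤ X := Subgroup.map_subtype_le _
    have hQp : ∀ a ∈ Q₀, ∃ e, a ^ x ^ e = 1 := fun a ha => by
      obtain ⟨e, he⟩ := (S.isPGroup'.map X.subtype) ⟨a, ha⟩
      exact ⟨e, congrArg Subtype.val he⟩
    have hcent : ∀ a ∈ Q₀, (∀ k ∈ K, Commute a k) ∧ ∀ n ∈ N, Commute (ι a) n := by
      intro a ha
      obtain ⟨e, he⟩ := hQp a ha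
      have haX := hQX ha
      have hm : ∀ k ∈ K, ∀ v : N →* ℂˣ, (k * a * k⁻¹ * a⁻¹) • v = v :=
        fun k hk => hno a haX ⟨e, he⟩ (hpow a haX ⟨e, he⟩) k hk
      -- elements of the core acting trivially commute with `a`
      have hC : ∀ d ∈ K, (∀ v : N →* ℂˣ, d • v = v) → Commute a d := by
        intro d hd hdv
        obtain ⟨k, hk, -, hkc⟩ := hfix a haX v₀ hv₀
        have hd' : k * d * k⁻¹ ∈ K := hKn.conj_mem d hd k
        have := hkc _ hd' (by rw [mul_smul, mul_smul, hdv, smul_inv_smul])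
        exact ((Commute.conj_iff k).1 this).symm
      have hK : ∀ k ∈ K, Commute a k := by
        intro k hk
        have hdK : a * k * a⁻¹ * k⁻¹ ∈ K := K.mul_mem (hKn.conj_mem k hk a) (K.inv_mem hk)
        refine commute_of_defect he ((B'.qp.coprime_iff_not_dvd.2 hKx).pow_left e) hdK
          (hC _ hdK ?_)
        intro v
        have h1 := hm k hk v
        rw [show a * k * a⁻¹ * k⁻¹ = (k * a * k⁻¹ * a⁻¹)⁻¹ by group, inv_smul_eq_iff, h1]
      refine ⟨hK, fun n hn => htriv a (fun v => ?_) n hn⟩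
      by_cases hv : v = 1
      · subst hv; rfl
      · obtain ⟨k, hk, hkv, -⟩ := hfix a haX v hv
        rwa [← (hK k hk).eq, mul_inv_cancel_right] at hkv
    have hQc : ∀ a ∈ Q₀, ∀ h : H, h * a = a * h := by
      intro a ha h
      obtain ⟨k, hk, y, hy, rfl⟩ :=
        Subgroup.mem_sup_of_normal_left.1 (hsup.symm ▸ Subgroup.mem_top h : h ∈ K ⊔ X)
      exact (((hcent a ha).1 k hk).symm.mul_left (show Commute y a from hXc y hy a (hQX ha)))
    have hQn : Q₀.Normal := ⟨fun a ha h => by rwa [hQc a ha h, mul_inv_cancel_right]⟩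
    set A := Q₀.comap π with hA
    have hAn : A.Normal := hQn.comap π
    have hAc : ∀ g ∈ A, ∀ g' ∈ A, g * g' = g' * g := by
      intro g hg g' hg'
      have hmem : ∀ t : G, (ι (π t))⁻¹ * t ∈ N := fun t => by
        rw [hN, MonoidHom.mem_ker, map_mul, map_inv, hπι, inv_mul_cancel]
      have c1 := (hcent _ hg).2 _ (hmem g')
      have c2 := (hcent _ hg').2 _ (hmem g)
      have c3 : Commute (ι (π g)) (ι (π g')) :=
        (show Commute (π g) (π g') from (hQc _ hg' (π g))).map ι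
      have c4 : Commute ((ι (π g))⁻¹ * g) ((ι (π g'))⁻¹ * g') := hNc _ (hmem g) _ (hmem g')
      have := ((c3.mul_right c1).mul_left ((c2.symm).mul_right c4))
      rwa [mul_inv_cancel_left, mul_inv_cancel_left] at this
    refine not_occ_of_abelian B'.qp A hAc ?_ B'.oq
    rw [hA, Subgroup.index_comap_of_surjective _ hsurj, hQ₀, Subgroup.index_map_subtype]
    exact fun h => (B'.qp.dvd_mul.1 h).elim S.not_dvd_index hXx
  obtain ⟨a, ha, ⟨ea, hea⟩, hatriv, hamove⟩ := hchoice B hmin hXq hKq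
  obtain ⟨b, hb, ⟨eb, heb⟩, hbtriv, hbmove⟩ :=
    hchoice B.swap (fun L h1 h2 h3 => hmin L h1 h2 h3.swap) hXr hKr
  have hoa : orderOf a ∣ q ^ ea := orderOf_dvd_of_pow_eq_one hea
  have hob : orderOf b ∣ r ^ eb := orderOf_dvd_of_pow_eq_one heb
  -- every character of the core is fixed by one of the two elements
  have hfixθ : ∀ θ : Cfsg.IrrCharacter K,
      a ∈ inertia K (θ : K → ℂ) ∨ b ∈ inertia K (θ : K → ℂ) := by
    intro θ
    set I := inertia K (θ : K → ℂ)
    have : I.Normal := normal_of_le hXc hsup (le_inertia K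
      (CharBasic.isClassFunction_of_isCharacter (isCharacter_of_isIrrCharacter θ.2)))
    obtain ⟨χ, -, hχ⟩ := degree_dvd_of_normal K θ
    obtain ⟨ψ, hψ⟩ := degree_comap π hsurj χ
    by_cases hq : q ∣ I.index
    · refine Or.inr (pow_mem_of_normal I ((Nat.Coprime.coprime_dvd_left hob) ?_))
      exact ((B.rp.coprime_iff_not_dvd).2 fun hr =>
        B.nqr ψ (hψ.symm ▸ hq.trans hχ) (hψ.symm ▸ hr.trans hχ)).pow_left eb
    · exact Or.inl (pow_mem_of_normal I ((Nat.Coprime.coprime_dvd_left hoa)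
        (((B.qp.coprime_iff_not_dvd).2 hq).pow_left ea)))
  have hcov := cover K (show Commute a b from hXc a ha b hb)
    (((Nat.coprime_pow_primes ea eb B.qp B.rp B.qr).coprime_dvd_left hoa).coprime_dvd_right hob)
    (hcop.coprime_dvd_left (Subgroup.orderOf_dvd_natCard X ha))
    (hcop.coprime_dvd_left (Subgroup.orderOf_dvd_natCard X hb)) hfixθ
  have S₁ := setup_image K a B.qp hatriv ((B.qp.coprime_iff_not_dvd).2 hKq) hamove hirr
    (hgen a ha) (hfix a ha)
  have S₂ := setup_image K b B.rp hbtriv ((B.rp.coprime_iff_not_dvd).2 hKr) hbmove hirr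
    (hgen b hb) (hfix b hb)
  set φ := MulDistribMulAction.toMulAut H (N →* ℂˣ)
  have : Group.IsSolvable φ.range :=
    Group.isSolvable_of_surjective (f := φ.rangeRestrict) φ.rangeRestrict_surjective
  refine core S₁ S₂ B.qr fun k hk => ?_
  obtain ⟨k, hk', rfl⟩ := hk
  obtain ⟨y, hy, hc⟩ := hcov k hk'
  refine ⟨_, Subgroup.mem_map_of_mem _ hy, hc.imp (fun h => ?_) (fun h => ?_)⟩ <;>
  · rw [← map_inv, ← map_mul, ← map_mul]; exact h.map _

end Cfsg.Agent.Palfy7
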