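import Mathlib
import Cfsg.Agent.Lib.PalfyTwo7
import Cfsg.Agent.Lib.PalfyOneChar7
import Cfsg.Agent.Lib.PalfyCentral7

/-!
No least three-prime example has its minimal normal subgroup inside the normal Sylow subgroup for
the lost prime.
-/

set_option autoImplicit false
set_option maxHeartbeats 1600000
set_option linter.unusedSectionVars false

namespace Cfsg.Agent.Palfy7

open CharBasic CharInduced CharBasicDecomp

universe u

variable {G H : Type u} [Group G] [Finite G] [Group.IsSolvable G] [Group H] [Finite H]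
  [Group.IsSolvable H]

/-- Two proper subgroups do not cover a group. -/
theorem eq_top_or_eq_top {A : Type u} [Group A] {S T : Subgroup A} (h : ∀ x, x ∈ S ∨ x ∈ T) :
    S = ⊤ ∨ T = ⊤ := by
  by_contra hne
  push Not at hne
  obtain ⟨x, hx⟩ : ∃ x, x ∉ S := by
    by_contra h'; push Not at h'; exact hne.1 ((Subgroup.eq_top_iff' _).2 h')
  obtain ⟨y, hy⟩ : ∃ y, y ∉ T := by
    by_contra h'; push Not at h'; exact hne.2 ((Subgroup.eq_top_iff' _).2 h')
  have hxT := (h x).resolve_left hx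
  have hyS := (h y).resolve_right hy
  rcases h (x * y) with hxy | hxy
  · exact hx (by simpa using S.mul_mem hxy (S.inv_mem hyS))
  · exact hy (by simpa using T.mul_mem (T.inv_mem hxT) hxy)

/-- The case of a minimal normal subgroup inside a normal Sylow subgroup. -/
theorem case_one {p q r : ℕ} (B : Bad G p q r)
    (hmin : ∀ L : Subgroup G, L.Normal → L ≠ ⊤ → ¬ Bad L p q r)
    (π : G →* H) (ι : H →* G) (hπι : ∀ h, π (ι h) = h) (hkp : IsPGroup p π.ker)
    (hpH : ¬ p ∣ Nat.card H) (M : Subgroup G) [M.Normal] (hMker : M ≤ π.ker)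
    (hMmin : ∀ L : Subgroup G, L.Normal → L ≤ M → L = ⊥ ∨ L = M)
    (hMc : ∀ m ∈ M, ∀ n ∈ π.ker, Commute m n)
    (hder : ∀ x ∈ π.ker, ∀ y ∈ π.ker, x * y * x⁻¹ * y⁻¹ ∈ M)
    (hnab : ∃ x ∈ π.ker, ∃ y ∈ π.ker, ¬ Commute x y) : False := by
  classical
  have := Fact.mk B.pp
  have hsurj : Function.Surjective π := fun h => ⟨ι h, hπι h⟩
  have hι : Function.Injective ι := fun x y h => by rw [← hπι x, h, hπι]
  have hmemN : ∀ t : G, t * (ι (π t))⁻¹ ∈ π.ker := fun t => by
    rw [MonoidHom.mem_ker, map_mul, map_inv, hπι, mul_inv_cancel]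
  have hpdvd : ∀ {n : ℕ}, n ∣ Nat.card π.ker → n.Coprime (Nat.card H) := by
    intro n hn
    obtain ⟨i, hi⟩ := IsPGroup.iff_card.1 hkp
    exact ((B.pp.coprime_iff_not_dvd.2 hpH).pow_left i).coprime_dvd_left (hi ▸ hn)
  have hne' : ∀ x : ℕ, x.Prime → p ≠ x → ¬ x ∣ Nat.card π.ker := by
    intro x hx hpx h
    obtain ⟨i, hi⟩ := IsPGroup.iff_card.1 hkp
    exact hpx ((Nat.prime_dvd_prime_iff_eq hx B.pp).1 (hx.dvd_of_dvd_pow (hi ▸ h))).symm
  -- the commutators generate the minimal normal subgroup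
  set D := Subgroup.closure {m : G | ∃ x ∈ π.ker, ∃ y ∈ π.ker, x * y * x⁻¹ * y⁻¹ = m} with hD
  have hDM : D = M := by
    have hle : D ≤ M := by
      rw [hD, Subgroup.closure_le]
      rintro _ ⟨x, hx, y, hy, rfl⟩
      exact hder x hx y hy
    have hn : D.Normal := by
      refine ⟨fun m hm g => ?_⟩
      refine Subgroup.closure_induction (p := fun m _ => g * m * g⁻¹ ∈ D) ?_ ?_ ?_ ?_ hm
      · rintro _ ⟨x, hx, y, hy, rfl⟩
        refine Subgroup.subset_closure ⟨g * x * g⁻¹, π.normal_ker.conj_mem x hx g, g * y * g⁻¹,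
          π.normal_ker.conj_mem y hy g, by group⟩
      · simp
      · intro a b _ _ ha hb
        have := D.mul_mem ha hb
        convert this using 1; group
      · intro a _ ha
        have := D.inv_mem ha
        convert this using 1; group
    refine (hMmin D hn hle).resolve_left fun h => ?_
    obtain ⟨x, hx, y, hy, hxy⟩ := hnab
    refine hxy ?_
    have h1 := (Subgroup.eq_bot_iff_forall _).1 h _ (Subgroup.subset_closure ⟨x, hx, y, hy, rfl⟩)
    rw [mul_inv_eq_one, mul_inv_eq_iff_eq_mul] at h1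
    exact h1
  have hMne : M ≠ ⊥ := fun h => by
    obtain ⟨x, hx, y, hy, hxy⟩ := hnab
    have h1 := (Subgroup.eq_bot_iff_forall _).1 h _ (hder x hx y hy)
    rw [mul_inv_eq_one, mul_inv_eq_iff_eq_mul] at h1
    exact hxy h1
  -- the module `M` and its dual
  let _ : CommGroup M := { (inferInstance : Group M) with
    mul_comm := fun x y => Subtype.ext (hMc x x.2 y (hMker y.2)) }
  let act : MulDistribMulAction H (M →* ℂˣ) :=
    { smul := fun h v => v.comp (MulAut.conjNormal (H := M) (ι h⁻¹)).toMonoidHom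
      one_smul := fun v => MonoidHom.ext fun n => by
        show v (MulAut.conjNormal (ι (1 : H)⁻¹) n) = v n
        rw [inv_one, map_one, map_one, MulAut.one_apply]
      mul_smul := fun g h v => MonoidHom.ext fun n => by
        show v (MulAut.conjNormal (ι (g * h)⁻¹) n) =
          v (MulAut.conjNormal (ι h⁻¹) (MulAut.conjNormal (ι g⁻¹) n))
        rw [mul_inv_rev, map_mul, map_mul, MulAut.mul_apply]
      smul_mul := fun _ _ _ => rfl
      smul_one := fun _ => rfl }
  have hsm : ∀ (h : H) (v : M →* ℂˣ) (n : M),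
      (h • v) n = v ⟨(ι h)⁻¹ * n * ι h, (by
      have h' := (inferInstance : M.Normal).conj_mem _ n.2 (ι h)⁻¹
      rwa [inv_inv] at h')⟩ := by
    intro h v n
    show v (MulAut.conjNormal (ι h⁻¹) n) = _
    refine congrArg v (Subtype.ext ?_)
    simp
  have hfixM : ∀ h : H, (∀ m ∈ M, Commute (ι h) m) → ∀ v : M →* ℂˣ, h • v = v := by
    intro h hh v
    refine MonoidHom.ext fun n => ?_
    rw [hsm]
    refine congrArg v (Subtype.ext ?_)
    show (ι h)⁻¹ * n * ι h = n
    rw [mul_assoc, ← (hh n n.2).eq, inv_mul_cancel_left]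
  have htriv : ∀ h : H, (∀ v : M →* ℂˣ, h • v = v) → ∀ n ∈ M, Commute (ι h) n := by
    intro h hh n hn
    have h1 := (CommGroup.forall_apply_eq_apply_iff (G := M) (M := ℂ)).1 (fun v : M →* ℂˣ =>
      (hsm h v ⟨n, hn⟩).symm.trans (DFunLike.congr_fun (hh v) ⟨n, hn⟩))
    have h2 : (ι h)⁻¹ * n * ι h = n := congrArg Subtype.val h1
    calc ι h * n = ι h * ((ι h)⁻¹ * n * ι h) := by rw [h2]
      _ = n * ι h := by group
  have hVcard : Nat.card (M →* ℂˣ) = Nat.card M :=
    CommGroup.card_monoidHom_of_hasEnoughRootsOfUnity M ℂ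
  have : Finite (M →* ℂˣ) := Nat.finite_of_card_ne_zero (hVcard ▸ Nat.card_pos.ne')
  have : Nontrivial (M →* ℂˣ) := by
    rw [← Finite.one_lt_card_iff_nontrivial, hVcard, Subgroup.one_lt_card_iff_ne_bot]
    exact hMne
  have hirr : ∀ W : Subgroup (M →* ℂˣ), (∀ (h : H), ∀ w ∈ W, h • w ∈ W) → W = ⊥ ∨ W = ⊤ := by
    intro W hW
    let A : Subgroup G :=
      { carrier := {g | ∃ hg : g ∈ M, ∀ w ∈ W, w ⟨g, hg⟩ = 1}
        one_mem' := ⟨M.one_mem, fun w _ => map_one w⟩
        mul_mem' := fun {a b} ⟨ha, ha'⟩ ⟨hb, hb'⟩ => ⟨M.mul_mem ha hb, fun w hw => by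
          show w (⟨a, ha⟩ * ⟨b, hb⟩) = 1
          rw [map_mul, ha' w hw, hb' w hw, one_mul]⟩
        inv_mem' := fun {a} ⟨ha, ha'⟩ => ⟨M.inv_mem ha, fun w hw => by
          show w (⟨a, ha⟩⁻¹) = 1
          rw [map_inv, ha' w hw, inv_one]⟩ }
    have hA : A.Normal := ⟨fun a ⟨ha, ha'⟩ g => by
      refine ⟨(inferInstance : M.Normal).conj_mem a ha g, fun w hw => ?_⟩
      have hc : ι (π g) * a * (ι (π g))⁻¹ ∈ M := (inferInstance : M.Normal).conj_mem a ha _
      have e : g * a * g⁻¹ = ι (π g) * a * (ι (π g))⁻¹ := by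
        have h1 := (hMc _ hc _ (hmemN g)).eq
        calc g * a * g⁻¹
            = g * (ι (π g))⁻¹ * (ι (π g) * a * (ι (π g))⁻¹) * (g * (ι (π g))⁻¹)⁻¹ := by group
          _ = ι (π g) * a * (ι (π g))⁻¹ * (g * (ι (π g))⁻¹) * (g * (ι (π g))⁻¹)⁻¹ := by rw [← h1]
          _ = _ := by group
      have h3 := ha' _ (hW (π g)⁻¹ w hw)
      rw [hsm] at h3
      refine Eq.trans (congrArg w (Subtype.ext ?_)) h3
      show g * a * g⁻¹ = (ι (π g)⁻¹)⁻¹ * a * ι (π g)⁻¹
      rw [e, map_inv, inv_inv]⟩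
    rcases hMmin A hA (fun g ⟨hg, _⟩ => hg) with h | h
    · refine Or.inr (Subgroup.eq_top_of_card_eq W (le_antisymm
        (Nat.le_of_dvd Nat.card_pos (Subgroup.card_subgroup_dvd_card W)) ?_))
      rw [hVcard]
      let ev : M → (W →* ℂˣ) := fun n =>
        { toFun := fun w => (w : M →* ℂˣ) n
          map_one' := rfl
          map_mul' := fun _ _ => rfl }
      have hev : Function.Injective ev := by
        intro n m e
        have hm : (n * m⁻¹ : M) = 1 := by
          refine Subtype.ext ((Subgroup.eq_bot_iff_forall _).1 h _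
            ⟨(n * m⁻¹).2, fun w hw => ?_⟩)
          show w (n * m⁻¹) = 1
          rw [map_mul, map_inv, show w n = w m from DFunLike.congr_fun e ⟨w, hw⟩, mul_inv_cancel]
        exact mul_inv_eq_one.1 hm
      have hWcard : Nat.card (W →* ℂˣ) = Nat.card W :=
        CommGroup.card_monoidHom_of_hasEnoughRootsOfUnity W ℂ
      have : Finite (W →* ℂˣ) := Nat.finite_of_card_ne_zero (hWcard ▸ Nat.card_pos.ne')
      exact hWcard ▸ Nat.card_le_card_of_injective ev hev
    · refine Or.inl ((Subgroup.eq_bot_iff_forall _).2 fun w hw => MonoidHom.ext fun n => ?_)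
      obtain ⟨_, hg⟩ := (h.symm ▸ n.2 : (n : G) ∈ A)
      exact hg w hw
  -- the kernel and its characters
  set MP := M.subgroupOf π.ker with hMP
  let em := Subgroup.subgroupOfEquivOfLe hMker
  have hMPc : MP ≤ Subgroup.center π.ker := fun m hm => Subgroup.mem_center_iff.2 fun g =>
    Subtype.ext (hMc _ (Subgroup.mem_subgroupOf.1 hm) g g.2).eq.symm
  have hderP : ∀ x y : π.ker, x * y * x⁻¹ * y⁻¹ ∈ MP := fun x y =>
    Subgroup.mem_subgroupOf.2 (hder x x.2 y y.2)
  let Over : (M →* ℂˣ) → (π.ker → ℂ) → Prop := fun v θ => Cfsg.IsIrrCharacter π.ker θ ∧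
    ∀ m : M, θ ⟨m, hMker m.2⟩ = θ 1 * v m
  have hOver : ∀ {v θ}, Over v θ → ∀ m : MP, θ m = θ 1 * (v.comp em.toMonoidHom) m :=
    fun {v θ} h m => h.2 (em m)
  have hexover : ∀ v, ∃ θ, Over v θ := fun v => by
    obtain ⟨θ, hθ, hθm⟩ := exists_over MP hMPc (v.comp em.toMonoidHom)
    exact ⟨θ, hθ, fun m => (hθm (em.symm m)).trans (by
      show θ 1 * ((v (em (em.symm m)) : ℂˣ) : ℂ) = _
      rw [MulEquiv.apply_symm_apply])⟩
  have hpθ : ∀ {v θ}, v ≠ 1 → Over v θ → p ∣ Cfsg.charDegree θ := by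
    intro v θ hv hθ
    obtain ⟨n, ρ, hρ, hθρ⟩ := hθ.1
    have hn : θ 1 = n := by rw [← hθρ]; simp
    rw [CharItoMichler.charDegree_eq hn]
    have hd := DegreeDvd.finrank_dvd_card ρ
    rw [Module.finrank_fin_fun] at hd
    obtain ⟨i, hi⟩ := IsPGroup.iff_card.1 hkp
    obtain ⟨j, -, hj⟩ := (Nat.dvd_prime_pow B.pp).1 (hi ▸ hd)
    rcases Nat.eq_zero_or_pos j with hj0 | hj0
    · exfalso
      rw [hj0, pow_zero] at hj
      obtain ⟨lam, hlam⟩ := CharExtension.exists_linHom (isCharacter_of_isIrrCharacter hθ.1)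
        (by rw [hn, hj, Nat.cast_one])
      refine hv (MonoidHom.ext fun m => ?_)
      let S : Subgroup G :=
        { carrier := {g | ∃ hg : g ∈ M, v ⟨g, hg⟩ = 1}
          one_mem' := ⟨M.one_mem, map_one v⟩
          mul_mem' := fun {a b} ⟨ha, ha'⟩ ⟨hb, hb'⟩ => ⟨M.mul_mem ha hb, by
            show v (⟨a, ha⟩ * ⟨b, hb⟩) = 1
            rw [map_mul, ha', hb', one_mul]⟩
          inv_mem' := fun {a} ⟨ha, ha'⟩ => ⟨M.inv_mem ha, by
            show v (⟨a, ha⟩⁻¹) = 1
            rw [map_inv, ha', inv_one]⟩ }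
      have hDS : D ≤ S := by
        rw [hD, Subgroup.closure_le]
        rintro _ ⟨x, hx, y, hy, rfl⟩
        refine ⟨hder x hx y hy, Units.ext ?_⟩
        have h1 := hθ.2 ⟨_, hder x hx y hy⟩
        rw [hlam] at h1
        simp only [map_one, Units.val_one, one_mul] at h1
        rw [← h1, Units.val_one, show (⟨x * y * x⁻¹ * y⁻¹, _⟩ : π.ker) =
          ⟨x, hx⟩ * ⟨y, hy⟩ * ⟨x, hx⟩⁻¹ * ⟨y, hy⟩⁻¹ from rfl, map_mul, map_mul, map_mul, map_inv,
          map_inv]
        simp [mul_comm, mul_left_comm]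
      obtain ⟨_, h⟩ := hDS (show (m : G) ∈ D by rw [hDM]; exact m.2)
      exact h
    · exact hj ▸ dvd_pow_self p hj0.ne'
  -- stabilisers of characters contain abelian normal Hall subgroups
  have hTv : ∀ {v θ}, Over v θ → ∀ t : H, ι t ∈ inertia π.ker θ → t • v = v := by
    intro v θ hθ t ht
    have h2 : t⁻¹ • v = v := MonoidHom.ext fun m => by
      rw [hsm]
      refine Units.ext ?_
      have hc : ι t * m * (ι t)⁻¹ ∈ M := (inferInstance : M.Normal).conj_mem m m.2 (ι t)
      have h1 := (mem_inertia_iff π.ker).1 ht ⟨m, hMker m.2⟩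
      rw [hθ.2 m, show (⟨ι t * m * (ι t)⁻¹, _⟩ : π.ker) = ⟨((⟨_, hc⟩ : M) : G), hMker hc⟩ from rfl,
        hθ.2 ⟨_, hc⟩] at h1
      rw [← mul_left_cancel₀ (isIrrCharacter_apply_one_ne_zero hθ.1) h1]
      refine congrArg (fun z => (v z : ℂ)) (Subtype.ext ?_)
      simp
    conv_lhs => rw [← h2]
    exact smul_inv_smul t v
  have hstab : ∀ {v θ}, v ≠ 1 → Over v θ → ∃ X : Subgroup H, (∀ a ∈ X, ∀ b ∈ X, a * b = b * a) ∧
      (∀ l : ℕ, l.Prime → l ∣ Nat.card X → l = q ∨ l = r) ∧ ¬ q ∣ X.index ∧ ¬ r ∣ X.index ∧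
      (∀ x ∈ X, ι x ∈ inertia π.ker θ) ∧
      ∀ c : H, ι c ∈ inertia π.ker θ → ∀ x ∈ X, c * x * c⁻¹ ∈ X := by
    intro v θ hv hθ
    set T := inertia π.ker θ with hT
    have hNT : π.ker ≤ T := le_inertia π.ker (CharBasic.isClassFunction_of_isCharacter
      (isCharacter_of_isIrrCharacter hθ.1))
    let e := Subgroup.subgroupOfEquivOfLe hNT
    have hθ' : Cfsg.IsIrrCharacter (π.ker.subgroupOf T) (θ ∘ e.toMonoidHom) :=
      isIrrCharacter_comap e.toMonoidHom e.surjective hθ.1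
    obtain ⟨χ₀, hχ₀, hχ₀e⟩ := coprime_ext (π.ker.subgroupOf T) hθ'
      (fun g n => (mem_inertia_iff π.ker).1 g.2 (e n)) (by
        rw [Nat.card_congr e.toEquiv]
        refine ((hpdvd dvd_rfl).coprime_dvd_right ?_).symm
        have h1 : (π.ker.subgroupOf T).index = π.ker.relIndex T := rfl
        rw [h1]
        refine (Subgroup.relIndex_dvd_index_of_normal π.ker T).trans ?_
        rw [Subgroup.index_ker]
        exact Subgroup.card_subgroup_dvd_card _)
    have hext : ∀ n : π.ker, χ₀ ⟨n, hNT n.2⟩ = θ n := fun n => hχ₀e (e.symm n) |>.trans (by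
      show θ (e (e.symm n)) = θ n
      rw [MulEquiv.apply_symm_apply])
    have hdeg : Cfsg.charDegree χ₀ = Cfsg.charDegree θ := by
      obtain ⟨n, -, hn⟩ := isIrrCharacter_apply_one hθ.1
      rw [CharItoMichler.charDegree_eq hn]
      refine CharItoMichler.charDegree_eq ?_
      rw [← hn, ← hext 1]
      rfl
    have hidx : ∀ x : ℕ, x.Prime → NA G p x → ¬ x ∣ (T.comap ι).index ∧ ¬ Occ (T.comap ι) x := by
      intro x hx hna
      have hχ := fun β => degree_over hπι ⟨θ, hθ.1⟩ (T := T) rfl ⟨χ₀, hχ₀⟩ hNT hext β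
      refine ⟨fun h => ?_, fun ⟨β, hβ⟩ => ?_⟩
      · obtain ⟨χ, hχ⟩ := hχ ⟨_, isIrrCharacter_one⟩
        exact hna χ ((hdeg ▸ hpθ hv hθ).trans ((dvd_mul_left _ _).trans hχ))
          (((h.mul_right _).mul_right _).trans hχ)
      · obtain ⟨χ, hχ⟩ := hχ β
        exact hna χ ((hdeg ▸ hpθ hv hθ).trans ((dvd_mul_left _ _).trans hχ))
          (((hβ.mul_left _).mul_right _).trans hχ)
    obtain ⟨hq1, hq2⟩ := hidx q B.qp B.npq
    obtain ⟨hr1, hr2⟩ := hidx r B.rp B.npr
    obtain ⟨X, hXn, hXc, hXπ, hXq, hXr⟩ := exists_hall B.qp B.rp B.qr hq2 hr2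
    refine ⟨X.map (T.comap ι).subtype, ?_,
      fun l hl h => hXπ l hl (h.trans (Subgroup.card_map_dvd _ _)), ?_, ?_, ?_, ?_⟩
    · rintro _ ⟨a, ha, rfl⟩ _ ⟨b, hb, rfl⟩
      exact congrArg Subtype.val (hXc a ha b hb)
    · rw [Subgroup.index_map_subtype]; exact fun h => (B.qp.dvd_mul.1 h).elim hXq hq1
    · rw [Subgroup.index_map_subtype]; exact fun h => (B.rp.dvd_mul.1 h).elim hXr hr1
    · rintro _ ⟨a, -, rfl⟩; exact a.2
    · rintro c hc _ ⟨a, ha, rfl⟩
      exact ⟨⟨c, hc⟩ * a * ⟨c, hc⟩⁻¹, hXn.conj_mem a ha _, by simp⟩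
  obtain ⟨v₀, hv₀⟩ := exists_ne (1 : M →* ℂˣ)
  obtain ⟨θ₀, hθ₀⟩ := hexover v₀
  obtain ⟨X, hXc, hXπ, hXq, hXr, -, -⟩ := hstab hv₀ hθ₀
  obtain ⟨K, hKn, hsup, hKq, hKr, hcop, -⟩ := core_sup_eq_top B hmin hπι X hXc hXπ hXq hXr ⊥
    (fun y => ⟨0, Subsingleton.elim _ _⟩) (fun h => hpH (Subgroup.index_bot (G := H) ▸ h))
  have := hKn
  have hgen : ∀ a ∈ X, ∀ h : H, ∃ k ∈ K, h * a * h⁻¹ = k * a * k⁻¹ := by
    intro a ha h
    obtain ⟨k, hk, x, hx, rfl⟩ :=
      Subgroup.mem_sup_of_normal_left.1 (hsup.symm ▸ Subgroup.mem_top h : h ∈ K ⊔ X)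
    refine ⟨k, hk, ?_⟩
    calc k * x * a * (k * x)⁻¹ = k * (x * a * x⁻¹) * k⁻¹ := by group
      _ = k * a * k⁻¹ := by rw [mul_inv_eq_iff_eq_mul.2 (hXc x hx a ha)]
  have hfixθ : ∀ {v θ}, v ≠ 1 → Over v θ → ∀ a ∈ X, ∃ k ∈ K, ι (k * a * k⁻¹) ∈ inertia π.ker θ ∧
      ∀ c ∈ K, ι c ∈ inertia π.ker θ → Commute c (k * a * k⁻¹) := by
    intro v θ hv hθ a ha
    obtain ⟨X', hX'c, hX'π, hX'q, hX'r, hX'T, hX'n⟩ := hstab hv hθ
    have hcard := card_eq_of_hall hXπ ⟨hXq, hXr⟩ hX'π ⟨hX'q, hX'r⟩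
    have hcop' : (Nat.card X').Coprime (Nat.card K) := hcard ▸ hcop
    obtain ⟨k, hk, hkX, hkc⟩ := exists_fix K X' hX'c (hall_sup hsup hcard hcop') hcop'
      (hcop.coprime_dvd_left (Subgroup.orderOf_dvd_natCard X ha))
    exact ⟨k, hk, hX'T _ hkX, fun c hc hcT => hkc c hc (hX'n c hcT)⟩
  -- the quotient module
  let _ : CommGroup (π.ker ⧸ MP) :=
    { (inferInstance : Group (π.ker ⧸ MP)) with
      mul_comm := fun a b => by
        induction a using QuotientGroup.induction_on with | H a => ?_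
        induction b using QuotientGroup.induction_on with | H b => ?_
        rw [← QuotientGroup.mk_mul, ← QuotientGroup.mk_mul, QuotientGroup.eq]
        have := hderP b⁻¹ a⁻¹
        rw [inv_inv, inv_inv] at this
        convert this using 1; group }
  let cq : H → (π.ker ⧸ MP →* π.ker ⧸ MP) := fun h =>
    QuotientGroup.map MP MP (MulAut.conjNormal (H := π.ker) (ι h)).toMonoidHom fun x hx => by
      rw [Subgroup.mem_comap, Subgroup.mem_subgroupOf]
      show ι h * x * (ι h)⁻¹ ∈ M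
      exact (inferInstance : M.Normal).conj_mem _ (Subgroup.mem_subgroupOf.1 hx) _
  let _ : MulDistribMulAction H (π.ker ⧸ MP) :=
    { smul := fun h x => cq h x
      one_smul := fun x => by
        induction x using QuotientGroup.induction_on with | H x => ?_
        show QuotientGroup.mk (MulAut.conjNormal (ι 1) x) = _
        rw [map_one, map_one, MulAut.one_apply]
      mul_smul := fun g h x => by
        induction x using QuotientGroup.induction_on with | H x => ?_
        show QuotientGroup.mk (MulAut.conjNormal (ι (g * h)) x) =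
          QuotientGroup.mk (MulAut.conjNormal (ι g) (MulAut.conjNormal (ι h) x))
        rw [map_mul, map_mul, MulAut.mul_apply]
      smul_mul := fun h x y => map_mul (cq h) x y
      smul_one := fun h => map_one (cq h) }
  have hsmq : ∀ (h : H) (x : π.ker), h • (x : π.ker ⧸ MP) =
      ((⟨ι h * x * (ι h)⁻¹, π.normal_ker.conj_mem x x.2 _⟩ : π.ker) : π.ker ⧸ MP) := fun h x => rfl
  -- twisting by linear characters
  let _ : MulAction ((π.ker ⧸ MP) →* ℂˣ) (π.ker → ℂ) :=
    { smul := fun l θ x => (l (x : π.ker ⧸ MP) : ℂ) * θ x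
      one_smul := fun θ => funext fun x => by
        show ((1 : ℂˣ) : ℂ) * θ x = θ x; simp
      mul_smul := fun l l' θ => funext fun x => by
        show ((l (x : π.ker ⧸ MP) * l' (x : π.ker ⧸ MP) : ℂˣ) : ℂ) * θ x =
          (l (x : π.ker ⧸ MP) : ℂ) * ((l' (x : π.ker ⧸ MP) : ℂ) * θ x)
        rw [Units.val_mul, mul_assoc] }
  have hover : ∀ {v θ} (l : π.ker ⧸ MP →* ℂˣ), Over v θ → Over v (l • θ) := by
    intro v θ l hθ
    refine ⟨?_, fun m => ?_⟩
    · have := isIrrCharacter_mul_linear hθ.1 (l.comp (QuotientGroup.mk' MP))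
      convert this using 1
      funext x
      show (l (x : π.ker ⧸ MP) : ℂ) * θ x = _
      simp [mul_comm]
    · show (l _ : ℂ) * θ _ = (l ((1 : π.ker) : π.ker ⧸ MP) : ℂ) * θ 1 * _
      rw [(QuotientGroup.eq_one_iff (⟨(m : G), hMker m.2⟩ : π.ker)).2
          (Subgroup.mem_subgroupOf.2 m.2), QuotientGroup.mk_one,
        map_one, Units.val_one, one_mul, one_mul, hθ.2 m]
  -- every vector is fixed by one conjugate
  have hfix : ∀ a ∈ X, ∀ v : M →* ℂˣ, v ≠ 1 → ∃ k ∈ K, (k * a * k⁻¹) • v = v ∧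
      ∀ c ∈ K, c • v = v → Commute c (k * a * k⁻¹) := by
    intro a ha v hv
    obtain ⟨θ, hθ⟩ := hexover v
    set Kv := K ⊓ MulAction.stabilizer H v
    have hLcard : Nat.card (π.ker ⧸ MP →* ℂˣ) = Nat.card (π.ker ⧸ MP) :=
      CommGroup.card_monoidHom_of_hasEnoughRootsOfUnity (π.ker ⧸ MP) ℂ
    have : Finite (π.ker ⧸ MP →* ℂˣ) := Nat.finite_of_card_ne_zero (hLcard ▸ Nat.card_pos.ne')
    let fL : Kv → (π.ker ⧸ MP →* ℂˣ) →* (π.ker ⧸ MP →* ℂˣ) := fun k =>
      { toFun := fun l => l.comp (cq (k : H)⁻¹), map_one' := rfl, map_mul' := fun _ _ => rfl }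
    obtain ⟨l, hl⟩ := exists_fixed_twist (Θ := π.ker → ℂ) (L := π.ker ⧸ MP →* ℂˣ)
      (fun (k : Kv) φ => conjFun π.ker φ (ι (k : H)⁻¹)) fL
      (fun k k' φ => by
        show conjFun π.ker φ (ι ((k : H) * k')⁻¹) =
          conjFun π.ker (conjFun π.ker φ (ι (k' : H)⁻¹)) (ι (k : H)⁻¹)
        rw [conjFun_conjFun, ← map_mul, mul_inv_rev])
      (fun k l φ => funext fun x => rfl) (θ₀ := θ) (fun k => by
        have h1 : Over v (conjFun π.ker θ (ι (k : H)⁻¹)) := by
          refine ⟨isIrrCharacter_conjFun π.ker hθ.1 _, fun m => ?_⟩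
          rw [show conjFun π.ker θ (ι (k : H)⁻¹) 1 = θ 1 from congrArg θ (Subtype.ext (by simp))]
          have hc : ι (k : H)⁻¹ * m * (ι (k : H)⁻¹)⁻¹ ∈ M :=
            (inferInstance : M.Normal).conj_mem m m.2 _
          show θ ⟨((⟨_, hc⟩ : M) : G), hMker hc⟩ = _
          rw [hθ.2 ⟨_, hc⟩]
          refine congrArg (fun z : ℂˣ => θ 1 * (z : ℂ)) ?_
          refine Eq.trans ?_ (DFunLike.congr_fun (show (k : H) • v = v from k.2.2) m)
          rw [hsm]
          exact congrArg v (Subtype.ext (by simp))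
        obtain ⟨l, hl, e⟩ := twist_trans hderP (v.comp em.toMonoidHom) hθ.1 h1.1 (hOver hθ)
          (hOver h1)
        exact ⟨QuotientGroup.lift MP l (fun m hm => hl ⟨m, hm⟩), e⟩)
      ((hpdvd (hLcard ▸ Subgroup.card_quotient_dvd_card MP)).symm.coprime_dvd_left
        (Subgroup.card_subgroup_dvd_card Kv))
    obtain ⟨k, hk, hkT, hkc⟩ := hfixθ hv (hover l hθ) a ha
    refine ⟨k, hk, hTv (hover l hθ) _ hkT, fun c hc hcv => hkc c hc ?_⟩
    have h := hl ⟨c⁻¹, K.inv_mem hc, inv_smul_eq_iff.2 hcv.symm⟩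
    simp only [inv_inv] at h
    exact h
  -- a central element fixes all characters over all vectors
  have hcentθ : ∀ a ∈ X, (∀ h, h * a = a * h) → ∀ {v θ}, v ≠ 1 → Over v θ →
      ι a ∈ inertia π.ker θ := by
    intro a ha hc v θ hv hθ
    obtain ⟨k, -, hkT, -⟩ := hfixθ hv hθ a ha
    rwa [hc k, mul_inv_cancel_right] at hkT
  -- choice for either prime
  have hchoice : ∀ {x y : ℕ}, Bad G p x y → (∀ L : Subgroup G, L.Normal → L ≠ ⊤ → ¬ Bad L p x y) →
      ¬ x ∣ X.index → ¬ x ∣ Nat.card K →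
      ∃ a ∈ X, (∃ e, a ^ x ^ e = 1) ∧ (∀ n ∈ π.ker, Commute (ι (a ^ x)) n) ∧
        ((∃ k ∈ K, ∃ v : M →* ℂˣ, (k * a * k⁻¹ * a⁻¹) • v ≠ v) ∨
          ((∀ h, h * a = a * h) ∧ (∀ m ∈ M, Commute (ι a) m) ∧
            ∃ n ∈ π.ker, ¬ Commute (ι a) n)) := by
    intro x y B' hmin' hXx hKx
    have := Fact.mk B'.qp
    have hxP : ¬ x ∣ Nat.card π.ker := hne' x B'.qp B'.pq
    have hpow : ∀ a ∈ X, (∃ e, a ^ x ^ e = 1) → ∀ n ∈ π.ker, Commute (ι (a ^ x)) n := by
      rintro a ha ⟨e, he⟩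
      exact (pow_central B' hmin' hπι K X hXc hsup hcop hKx
        (fun L _ _ => Or.inr (Or.inr (B'.qp.coprime_iff_not_dvd.2 hxP).symm)) ha he).1
    by_contra hno
    push Not at hno
    obtain ⟨S⟩ : Nonempty (Sylow x X) := inferInstance
    set Q₀ := (S : Subgroup X).map X.subtype with hQ₀
    have hQX : Q₀ ≤ X := Subgroup.map_subtype_le _
    have hQp : ∀ a ∈ Q₀, ∃ e, a ^ x ^ e = 1 := fun a ha => by
      obtain ⟨e, he⟩ := (S.isPGroup'.map X.subtype) ⟨a, ha⟩
      exact ⟨e, congrArg Subtype.val he⟩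
    have hcent : ∀ a ∈ Q₀, (∀ h : H, h * a = a * h) ∧ ∀ n ∈ π.ker, Commute (ι a) n := by
      intro a ha
      obtain ⟨e, he⟩ := hQp a ha
      have haX := hQX ha
      obtain ⟨hm, hr'⟩ := hno a haX ⟨e, he⟩ (hpow a haX ⟨e, he⟩)
      have hC : ∀ d ∈ K, (∀ v : M →* ℂˣ, d • v = v) → Commute a d := by
        intro d hd hdv
        obtain ⟨k, hk, -, hkc⟩ := hfix a haX v₀ hv₀
        have hd' : k * d * k⁻¹ ∈ K := hKn.conj_mem d hd k
        have := hkc _ hd' (by rw [mul_smul, mul_smul, hdv, smul_inv_smul])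
        exact ((Commute.conj_iff k).1 this).symm
      have hK : ∀ k ∈ K, Commute a k := by
        intro k hk
        have hdK : a * k * a⁻¹ * k⁻¹ ∈ K := K.mul_mem (hKn.conj_mem k hk a) (K.inv_mem hk)
        refine commute_of_defect he ((B'.qp.coprime_iff_not_dvd.2 hKx).pow_left e) hdK
          (hC _ hdK ?_)
        intro v
        have h1 := hm k hk v
        rw [show a * k * a⁻¹ * k⁻¹ = (k * a * k⁻¹ * a⁻¹)⁻¹ by group, inv_smul_eq_iff, h1]
      have hH : ∀ h : H, h * a = a * h := fun h => by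
        obtain ⟨k, hk, y', hy', rfl⟩ :=
          Subgroup.mem_sup_of_normal_left.1 (hsup.symm ▸ Subgroup.mem_top h : h ∈ K ⊔ X)
        exact ((hK k hk).symm.mul_left (show Commute y' a from hXc y' hy' a haX))
      refine ⟨hH, hr' hH (htriv a fun v => ?_)⟩
      by_cases hv : v = 1
      · subst hv; rfl
      · obtain ⟨k, hk, hkv, -⟩ := hfix a haX v hv
        rwa [← (hK k hk).eq, mul_inv_cancel_right] at hkv
    set A := Q₀.map ι with hA
    have hAc : ∀ g ∈ A, ∀ t : G, Commute g t := by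
      rintro _ ⟨a, ha, rfl⟩ t
      have h1 : Commute (ι a) (t * (ι (π t))⁻¹) := (hcent a ha).2 _ (hmemN t)
      have h2 : Commute (ι a) (ι (π t)) := (show Commute a (π t) from ((hcent a ha).1 _).symm).map ι
      have := h1.mul_right h2
      rwa [inv_mul_cancel_right] at this
    have hAn : A.Normal := ⟨fun g hg t => by
      rwa [← (hAc g hg t).eq, mul_inv_cancel_right]⟩
    refine not_occ_of_abelian B'.qp A (fun g hg g' _ => (hAc g hg g').eq) ?_ B'.oq
    have h1 : A.index * Nat.card A = Nat.card π.ker * Q₀.index * Nat.card Q₀ := by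
      have e1 : π.ker.index = Nat.card H := by
        rw [Subgroup.index_ker, MonoidHom.range_eq_top.2 hsurj, Subgroup.card_top]
      rw [mul_assoc, Subgroup.index_mul_card, Subgroup.index_mul_card, ← e1,
        Subgroup.card_mul_index]
    rw [hA, Subgroup.card_map_of_injective hι] at h1
    rw [hA, Nat.eq_of_mul_eq_mul_right Nat.card_pos h1, hQ₀, Subgroup.index_map_subtype]
    exact fun h => (B'.qp.dvd_mul.1 h).elim hxP fun h =>
      (B'.qp.dvd_mul.1 h).elim S.not_dvd_index hXx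
  obtain ⟨a, ha, ⟨ea, hea⟩, haker, haA⟩ := hchoice B hmin hXq hKq
  obtain ⟨b, hb, ⟨eb, heb⟩, hbker, hbA⟩ :=
    hchoice B.swap (fun L h1 h2 h3 => hmin L h1 h2 h3.swap) hXr hKr
  have hoa : orderOf a ∣ q ^ ea := orderOf_dvd_of_pow_eq_one hea
  have hob : orderOf b ∣ r ^ eb := orderOf_dvd_of_pow_eq_one heb
  -- every class of the preimage of the core meets one of the centralisers
  set L := K.comap π with hL
  have hLn : L.Normal := hKn.comap π
  have hLi : L.index = K.index := by rw [hL, Subgroup.index_comap_of_surjective _ hsurj]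
  have hLcard : Nat.card L = Nat.card π.ker * Nat.card K := by
    have h1 : Nat.card L * L.index = Nat.card π.ker * (Nat.card K * K.index) := by
      rw [Subgroup.card_mul_index, Subgroup.card_mul_index]
      have e1 : π.ker.index = Nat.card H := by
        rw [Subgroup.index_ker, MonoidHom.range_eq_top.2 hsurj, Subgroup.card_top]
      rw [← e1, Subgroup.card_mul_index]
    rw [hLi, ← mul_assoc] at h1
    exact Nat.eq_of_mul_eq_mul_right (Nat.pos_of_ne_zero Subgroup.index_ne_zero_of_finite) h1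
  have hfixL : ∀ θ : Cfsg.IrrCharacter L,
      ι a ∈ inertia L (θ : L → ℂ) ∨ ι b ∈ inertia L (θ : L → ℂ) := by
    intro θ
    set I := inertia L (θ : L → ℂ) with hI
    have hLI : L ≤ I := le_inertia L
      (CharBasic.isClassFunction_of_isCharacter (isCharacter_of_isIrrCharacter θ.2))
    have hkI : π.ker ≤ I := (Subgroup.comap_mono bot_le : (⊥ : Subgroup H).comap π ≤ L).trans hLI
    have hKI : K ≤ I.comap ι := fun k hk => hLI (by
      show π (ι k) ∈ K
      rw [hπι]; exact hk)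
    have hn0 : (I.comap ι).Normal := normal_of_le hXc hsup hKI
    have hIn : I.Normal := by
      have e : I = (I.comap ι).comap π := by
        ext g
        refine ⟨fun hg => ?_, fun hg => ?_⟩
        · show ι (π g) ∈ I
          have := I.mul_mem (I.inv_mem (hkI (hmemN g))) hg
          simpa [mul_assoc] using this
        · have := I.mul_mem (hkI (hmemN g)) (show ι (π g) ∈ I from hg)
          simpa [mul_assoc] using this
      rw [e]; exact hn0.comap π
    obtain ⟨χ, -, hχ⟩ := degree_dvd_of_normal L θ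
    by_cases hq : q ∣ I.index
    · refine Or.inr (pow_mem_of_normal I ((Nat.Coprime.coprime_dvd_left
        ((orderOf_map_dvd ι b).trans hob)) ?_))
      exact ((B.rp.coprime_iff_not_dvd).2 fun hr =>
        B.nqr χ (hq.trans hχ) (hr.trans hχ)).pow_left eb
    · exact Or.inl (pow_mem_of_normal I ((Nat.Coprime.coprime_dvd_left
        ((orderOf_map_dvd ι a).trans hoa)) (((B.qp.coprime_iff_not_dvd).2 hq).pow_left ea)))
  have hcopL : ∀ {x e : ℕ} {c : H}, x.Prime → p ≠ x → ¬ x ∣ Nat.card K → orderOf c ∣ x ^ e →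
      (orderOf (ι c)).Coprime (Nat.card L) := by
    intro x e c hx hpx hxK hd
    refine Nat.Coprime.coprime_dvd_left ((orderOf_map_dvd ι c).trans hd) (Nat.Coprime.pow_left e ?_)
    rw [hx.coprime_iff_not_dvd, hLcard]
    exact fun h => (hx.dvd_mul.1 h).elim (hne' x hx hpx) hxK
  have hcov := Palfy7.cover L (show Commute (ι a) (ι b) from (show Commute a b from hXc a ha b hb).map ι)
    (((Nat.coprime_pow_primes ea eb B.qp B.rp B.qr).coprime_dvd_left
      ((orderOf_map_dvd ι a).trans hoa)).coprime_dvd_right ((orderOf_map_dvd ι b).trans hob))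
    (hcopL B.qp B.pq hKq hoa) (hcopL B.rp B.pr hKr hob) hfixL
  have hπK : ∀ y ∈ L, π y ∈ K := fun y hy => hy
  -- conjugation by `G` on the quotient module
  have hconj : ∀ (y : G) (n : π.ker),
      ((⟨y * n * y⁻¹, π.normal_ker.conj_mem n n.2 y⟩ : π.ker) : π.ker ⧸ MP) =
        π y • (n : π.ker ⧸ MP) := by
    intro y n
    rw [hsmq]
    set t : π.ker := ⟨y * (ι (π y))⁻¹, hmemN y⟩
    set n' : π.ker := ⟨ι (π y) * n * (ι (π y))⁻¹, π.normal_ker.conj_mem n n.2 _⟩
    rw [show (⟨y * n * y⁻¹, π.normal_ker.conj_mem n n.2 y⟩ : π.ker) = t * n' * t⁻¹ from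
      Subtype.ext (by simp [t, n', mul_assoc]), QuotientGroup.mk_mul, QuotientGroup.mk_mul,
      QuotientGroup.mk_inv, mul_comm (t : π.ker ⧸ MP), mul_inv_cancel_right]
  have hclass : ∀ c : H, ∀ (y : G) (n : π.ker), Commute (ι c) (y * n * y⁻¹) →
      c • (π y • (n : π.ker ⧸ MP)) = π y • (n : π.ker ⧸ MP) := by
    intro c y n hc
    rw [← hconj, hsmq]
    exact congrArg QuotientGroup.mk (Subtype.ext (mul_inv_eq_iff_eq_mul.2 hc.eq))
  have hcomm_smul : ∀ (x h : H), h * x = x * h → ∀ w : π.ker ⧸ MP,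
      x • (h • w) = h • (x • w) := fun x h e w => by rw [← mul_smul, ← mul_smul, e]
  -- a non-moving element acts non-trivially on the quotient
  have hne1 : ∀ {c : H}, (orderOf c).Coprime (Nat.card π.ker) → (∀ m ∈ M, Commute (ι c) m) →
      (∀ x : π.ker ⧸ MP, c • x = x) → ∀ n ∈ π.ker, Commute (ι c) n := by
    intro c hc hcM hcx n hn
    have h1 : ι c * n * (ι c)⁻¹ * n⁻¹ ∈ M := by
      have e := hcx ((⟨n, hn⟩ : π.ker) : π.ker ⧸ MP)
      rw [hsmq, QuotientGroup.eq] at e
      have e' : (ι c * n * (ι c)⁻¹)⁻¹ * n ∈ M := Subgroup.mem_subgroupOf.1 e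
      have := (inferInstance : M.Normal).conj_mem _ (M.inv_mem e') n
      convert this using 1; group
    refine commute_of_defect (q := orderOf c) (by rw [← map_pow, pow_orderOf_eq_one, map_one])
      (hc.coprime_dvd_right (Subgroup.card_dvd_of_le hMker)) h1 (hcM _ h1)
  have hcoH : ∀ c : H, (orderOf c).Coprime (Nat.card π.ker) := fun c =>
    ((hpdvd dvd_rfl).coprime_dvd_right (orderOf_dvd_natCard c)).symm
  -- the case of one non-moving element
  have hone : ∀ {x y : ℕ} {a b : H}, Bad G p x y → a ∈ X → b ∈ X →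
      (∀ h, h * a = a * h) → (∀ m ∈ M, Commute (ι a) m) → (∃ n ∈ π.ker, ¬ Commute (ι a) n) →
      (∀ n ∈ π.ker, Commute (ι (b ^ y)) n) →
      (∃ k ∈ K, ∃ v : M →* ℂˣ, (k * b * k⁻¹ * b⁻¹) • v ≠ v) → ¬ y ∣ Nat.card K →
      (∀ g ∈ L, ∃ z ∈ L, Commute (ι a) (z * g * z⁻¹) ∨ Commute (ι b) (z * g * z⁻¹)) → False := by
    intro x y a b B' ha hb hac haM han hbker hbmove hKy hcov
    let δ : π.ker ⧸ MP →* π.ker ⧸ MP :=
      { toFun := fun w => a • w / w
        map_one' := by rw [smul_one, div_one]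
        map_mul' := fun u w => by rw [smul_mul', mul_div_mul_comm] }
    have hδ : ∀ w, δ w = a • w / w := fun w => rfl
    set W := δ.range with hW
    have hWC : ∀ w ∈ W, a • w = w → w = 1 := by
      rintro _ ⟨u, rfl⟩ hfix'
      set w := δ u
      have h1 : ∀ n : ℕ, (a ^ n) • u = w ^ n * u := fun n => by
        induction n with
        | zero => simp
        | succ n ih =>
          rw [pow_succ', mul_smul, ih, smul_mul', smul_pow', hfix', pow_succ]
          rw [show a • u = w * u from (div_mul_cancel (a • u) u).symm, mul_assoc]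
      have h2 := h1 (orderOf a)
      rw [pow_orderOf_eq_one, one_smul, right_eq_mul] at h2
      have h4 := (pow_gcd_eq_one (a := w)).2 ⟨h2, pow_card_eq_one'⟩
      rwa [((hcoH a).coprime_dvd_right (Subgroup.card_quotient_dvd_card MP)).gcd_eq_one,
        pow_one] at h4
    have hsplit : ∀ u : π.ker ⧸ MP, ∃ w ∈ W, a • (u / w) = u / w := by
      intro u
      let f : W → W := fun w => ⟨δ w, ⟨w, rfl⟩⟩
      have hf : Function.Injective f := fun w w' e => by
        have e1 : δ ((w : π.ker ⧸ MP) / w') = 1 := by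
          rw [map_div, show δ w = δ w' from congrArg Subtype.val e, div_self']
        exact Subtype.ext (div_eq_one.1 (hWC _ (W.div_mem w.2 w'.2) (div_eq_one.1 e1)))
      obtain ⟨w, hw⟩ := (Finite.injective_iff_surjective.1 hf) ⟨δ u, ⟨u, rfl⟩⟩
      refine ⟨w, w.2, div_eq_one.1 ?_⟩
      show δ (u / w) = 1
      rw [map_div, show δ w = δ u from congrArg Subtype.val hw, div_self']
    have hWinv : ∀ (h : H), ∀ w ∈ W, h • w ∈ W := by
      rintro h _ ⟨u, rfl⟩
      exact ⟨h • u, by rw [hδ, hδ, smul_div', hcomm_smul a h (hac h) u]⟩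
    let _ : MulDistribMulAction H W :=
      { smul := fun h w => ⟨h • (w : π.ker ⧸ MP), hWinv h w w.2⟩
        one_smul := fun w => Subtype.ext (one_smul H (w : π.ker ⧸ MP))
        mul_smul := fun g h w => Subtype.ext (mul_smul g h (w : π.ker ⧸ MP))
        smul_mul := fun h u w => Subtype.ext (smul_mul' h (u : π.ker ⧸ MP) w)
        smul_one := fun h => Subtype.ext (smul_one h) }
    have hWsm : ∀ (h : H) (w : W), ((h • w : W) : π.ker ⧸ MP) = h • (w : π.ker ⧸ MP) :=
      fun _ _ => rfl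
    -- the commutator pairing
    let cm : π.ker → π.ker → M := fun u w => ⟨_, hder u u.2 w w.2⟩
    have hcm_congr : ∀ u u' w w' : π.ker, (u : π.ker ⧸ MP) = u' → (w : π.ker ⧸ MP) = w' →
        cm u w = cm u' w' := by
      intro u u' w w' hu hw
      have hu' : (u : G)⁻¹ * u' ∈ M := Subgroup.mem_subgroupOf.1 (QuotientGroup.eq.1 hu)
      have hw' : (w : G)⁻¹ * w' ∈ M := Subgroup.mem_subgroupOf.1 (QuotientGroup.eq.1 hw)
      refine Subtype.ext ?_
      show (u : G) * w * (u : G)⁻¹ * (w : G)⁻¹ = (u' : G) * w' * (u' : G)⁻¹ * (w' : G)⁻¹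
      obtain ⟨m, hm, e⟩ : ∃ m ∈ M, (u' : G) = u * m := ⟨_, hu', (mul_inv_cancel_left _ _).symm⟩
      obtain ⟨m', hm', e'⟩ : ∃ m' ∈ M, (w' : G) = w * m' := ⟨_, hw', (mul_inv_cancel_left _ _).symm⟩
      have c1 := (hMc m hm (w * m') (e' ▸ w'.2)).eq
      have c2 := (hMc m' hm' (u : G)⁻¹ (π.ker.inv_mem u.2)).eq
      rw [e, e']
      calc (u : G) * w * (u : G)⁻¹ * (w : G)⁻¹
          = u * w * ((u : G)⁻¹ * m') * (m'⁻¹ * (w : G)⁻¹) := by group
        _ = u * w * (m' * (u : G)⁻¹) * (m'⁻¹ * (w : G)⁻¹) := by rw [c2]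
        _ = u * ((w * m') * m) * m⁻¹ * (u : G)⁻¹ * (m'⁻¹ * (w : G)⁻¹) := by group
        _ = u * (m * (w * m')) * m⁻¹ * (u : G)⁻¹ * (m'⁻¹ * (w : G)⁻¹) := by rw [c1]
        _ = _ := by group
    have hcm_mul : ∀ u u' w : π.ker, cm (u * u') w = cm u w * cm u' w := by
      intro u u' w
      rw [mul_comm (cm u w)]
      refine Subtype.ext ?_
      have c := (hMc _ (hder u' u'.2 w w.2) u u.2).eq
      show ((u : G) * u') * w * ((u : G) * u')⁻¹ * (w : G)⁻¹ =
        (u' : G) * w * (u' : G)⁻¹ * (w : G)⁻¹ * (u * w * (u : G)⁻¹ * (w : G)⁻¹)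
      calc ((u : G) * u') * w * ((u : G) * u')⁻¹ * (w : G)⁻¹
          = (u : G) * ((u' : G) * w * (u' : G)⁻¹ * (w : G)⁻¹) * (w * (u : G)⁻¹ * (w : G)⁻¹) := by
            group
        _ = (u' : G) * w * (u' : G)⁻¹ * (w : G)⁻¹ * u * (w * (u : G)⁻¹ * (w : G)⁻¹) := by rw [← c]
        _ = _ := by group
    have hcm_symm : ∀ u w : π.ker, cm w u = (cm u w)⁻¹ := fun u w => Subtype.ext (by
      show (w : G) * u * (w : G)⁻¹ * (u : G)⁻¹ = ((u : G) * w * (u : G)⁻¹ * (w : G)⁻¹)⁻¹
      group)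
    let Bl : π.ker ⧸ MP →* (π.ker ⧸ MP →* M) := MonoidHom.mk'
      (fun u => MonoidHom.mk' (fun w => cm u.out w.out) fun w w' => by
        rw [hcm_congr u.out u.out (w * w').out (w.out * w'.out) rfl
          (by rw [QuotientGroup.mk_mul, QuotientGroup.out_eq', QuotientGroup.out_eq',
            QuotientGroup.out_eq']), hcm_symm, hcm_mul, mul_inv, ← hcm_symm, ← hcm_symm])
      fun u u' => MonoidHom.ext fun w => by
        show cm (u * u').out w.out = cm u.out w.out * cm u'.out w.out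
        rw [← hcm_mul]
        exact hcm_congr _ _ _ _
          (by rw [QuotientGroup.mk_mul, QuotientGroup.out_eq', QuotientGroup.out_eq',
            QuotientGroup.out_eq']) rfl
    have hBl : ∀ u w : π.ker, Bl u w = cm u w := fun u w =>
      hcm_congr _ _ _ _ (QuotientGroup.out_eq' _) (QuotientGroup.out_eq' _)
    have hBlsm : ∀ (h : H) (u w : π.ker ⧸ MP),
        (Bl (h • u) (h • w) : G) = ι h * (Bl u w : G) * (ι h)⁻¹ := by
      intro h u w
      induction u using QuotientGroup.induction_on with | H u => ?_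
      induction w using QuotientGroup.induction_on with | H w => ?_
      rw [hsmq, hsmq, hBl, hBl]
      show ι h * u * (ι h)⁻¹ * (ι h * w * (ι h)⁻¹) * (ι h * u * (ι h)⁻¹)⁻¹ *
        (ι h * w * (ι h)⁻¹)⁻¹ = ι h * (u * w * (u : G)⁻¹ * (w : G)⁻¹) * (ι h)⁻¹
      group
    have hperp : ∀ c w, a • c = c → w ∈ W → Bl w c = 1 := by
      rintro c _ hc ⟨u, rfl⟩
      rw [hδ, map_div, MonoidHom.div_apply, div_eq_one]
      have h := hBlsm a u c
      rw [hc, mul_inv_eq_iff_eq_mul.2 (haM _ (Bl u c).2).eq] at h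
      exact Subtype.ext h
    have hrad : ∀ v : M →* ℂˣ, v ≠ 1 → ∀ w ∈ W, (∀ w' ∈ W, v (Bl w w') = 1) → w = 1 := by
      intro v hv w hw hall
      refine hWC w hw ?_
      obtain ⟨θ, hθ⟩ := hexover v
      induction w using QuotientGroup.induction_on with | H n => ?_
      let σ : π.ker →* π.ker := (MulAut.conjNormal (H := π.ker) (ι a)).toMonoidHom
      have hxy : ∀ y : π.ker, v (cm n y) = 1 := fun y => by
        obtain ⟨w', hw', hc⟩ := hsplit (y : π.ker ⧸ MP)
        rw [← hBl, ← mul_div_cancel w' (y : π.ker ⧸ MP), map_mul, map_mul, hall w' hw',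
          hperp _ _ hc hw, map_one, mul_one]
      have h := radical_fixed hderP (v.comp em.toMonoidHom) hθ.1 (hOver hθ) σ (fun l hl z => ?_) n
        (fun y => hxy y)
      · rw [hsmq]
        exact (QuotientGroup.eq.2 h).symm
      · have h1 := hover (QuotientGroup.lift MP l fun m hm => hl ⟨m, hm⟩) hθ
        exact (mem_inertia_iff π.ker).1 (hcentθ a ha hac hv h1) z
    obtain ⟨w₀, hw₀⟩ : ∃ w : W, w ≠ 1 := by
      by_contra hall
      push Not at hall
      obtain ⟨n, hn, hne⟩ := han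
      refine hne (hne1 (hcoH a) haM (fun u => ?_) n hn)
      have h1 : δ u = 1 := congrArg Subtype.val (hall ⟨δ u, u, rfl⟩)
      exact div_eq_one.1 h1
    have hsurjW : ∀ w : W, w ≠ 1 → Function.Surjective fun w' : W => Bl w w' := by
      intro w hw
      set R := ((Bl (w : π.ker ⧸ MP)).comp W.subtype).range with hR
      suffices R = ⊤ by
        intro m
        obtain ⟨w', hw'⟩ := (this.symm ▸ Subgroup.mem_top m : m ∈ R)
        exact ⟨w', hw'⟩
      refine (Subgroup.eq_top_iff' _).2 fun m => ?_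
      rw [← QuotientGroup.eq_one_iff]
      refine (CommGroup.forall_apply_eq_apply_iff (G := M ⧸ R) (M := ℂ)).1 fun f => ?_
      rw [map_one]
      by_contra hne
      refine hw (Subtype.ext (hrad (f.comp (QuotientGroup.mk' R)) (fun e => hne ?_) w w.2
        fun w' hw' => ?_))
      · exact DFunLike.congr_fun e m
      · show f (QuotientGroup.mk' R (Bl w w')) = 1
        rw [QuotientGroup.mk'_apply, (QuotientGroup.eq_one_iff (Bl w w' : M)).2
          (MonoidHom.mem_range.2 ⟨⟨w', hw'⟩, rfl⟩), map_one]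
    have hlt : Nat.card (M →* ℂˣ) < Nat.card W := by
      rw [hVcard]
      have := Fintype.ofFinite W
      have := Fintype.ofFinite M
      rw [Nat.card_eq_fintype_card, Nat.card_eq_fintype_card]
      refine Fintype.card_lt_of_surjective_not_injective _ (hsurjW w₀ hw₀) fun hinj => hw₀ ?_
      refine hinj (?_ : Bl w₀ w₀ = Bl w₀ (1 : W))
      rw [Subgroup.coe_one, map_one, ← QuotientGroup.out_eq' (w₀ : π.ker ⧸ MP), hBl]
      exact Subtype.ext (by simp [cm])
    have hcopKp : ∀ {n : ℕ}, n ∣ Nat.card π.ker → n.Coprime (Nat.card K) := fun hn =>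
      (hpdvd hn).coprime_dvd_right (Subgroup.card_subgroup_dvd_card K)
    have hWdvd : Nat.card W ∣ Nat.card π.ker :=
      (Subgroup.card_subgroup_dvd_card W).trans (Subgroup.card_quotient_dvd_card MP)
    have hyP : ¬ y ∣ Nat.card π.ker := hne' y B'.rp B'.pr
    have hbW : ∀ u : π.ker ⧸ MP, (b ^ y) • u = u := fun u => by
      induction u using QuotientGroup.induction_on with | H u => ?_
      rw [hsmq]
      exact congrArg QuotientGroup.mk (Subtype.ext (mul_inv_eq_iff_eq_mul.2 (hbker u u.2).eq))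
    refine central_case (V := M →* ℂˣ) (W := W) K b B'.rp (B'.rp.coprime_iff_not_dvd.2 hKy)
      (hcop.coprime_dvd_left (Subgroup.orderOf_dvd_natCard X hb)) (hgen b hb)
      (hfixM _ fun m hm => hbker m (hMker hm)) (fun w => Subtype.ext (hbW w)) hbmove hirr
      (hfix b hb) ?_ (hcopKp hWdvd) ?_ (fun h => hyP (h.trans hWdvd)) hlt ?_ ?_ ?_
    · rw [hVcard]; exact hcopKp (Subgroup.card_dvd_of_le hMker)
    · rw [hVcard]; exact fun h => hyP (h.trans (Subgroup.card_dvd_of_le hMker))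
    · rintro ⟨w, hwW⟩ hw1
      induction w using QuotientGroup.induction_on with | H n => ?_
      obtain ⟨z, hz, hc | hc⟩ := hcov n (show π n ∈ K by rw [MonoidHom.mem_ker.1 n.2]; exact K.one_mem)
      · exfalso
        have h := hclass a z n hc
        rw [hcomm_smul a (π z) (hac _)] at h
        exact hw1 (Subtype.ext (hWC _ hwW (smul_left_cancel (π z) h)))
      · exact ⟨π z, hπK z hz, Subtype.ext (hclass b z n hc)⟩
    · rintro k hk ⟨w, hwW⟩ hw1 hkw
      induction w using QuotientGroup.induction_on with | H n => ?_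
      have hkn : ((⟨ι k * n * (ι k)⁻¹, π.normal_ker.conj_mem n n.2 _⟩ : π.ker) : π.ker ⧸ MP) = n :=
        congrArg Subtype.val hkw
      have hd : (n : G)⁻¹ * ι k * n * (ι k)⁻¹ ∈ M := by
        have h := Subgroup.mem_subgroupOf.1 (QuotientGroup.eq.1 hkn.symm)
        convert h using 1
        simp [mul_assoc]
      obtain ⟨c, hc, hcn⟩ := CoprimeAction.exists_fixed_mem_coset_zpowers (a := ι k) (D := M)
        ((Subgroup.normalizer_eq_top_iff.2 (inferInstance : M.Normal)).symm ▸ Subgroup.mem_top _)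
        ((hcoH k).coprime_dvd_left (orderOf_map_dvd ι k) |>.coprime_dvd_right
          (Subgroup.card_dvd_of_le hMker)) n hd
      have hcker : c ∈ π.ker := by
        have := π.ker.mul_mem n.2 (hMker hcn)
        rwa [mul_inv_cancel_left] at this
      have hcls : ((⟨c, hcker⟩ : π.ker) : π.ker ⧸ MP) = n := by
        refine (QuotientGroup.eq.2 ?_).symm
        exact Subgroup.mem_subgroupOf.2 hcn
      set g := c * ι k with hg
      have hgL : g ∈ L := by
        show π g ∈ K
        rw [hg, map_mul, MonoidHom.mem_ker.1 hcker, one_mul, hπι]; exact hk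
      obtain ⟨z, hz, hca | hcb⟩ := hcov g hgL
      · exfalso
        -- the part in the kernel is a power
        have hcopc : (orderOf c).Coprime (orderOf (ι k)) := by
          refine (hcoH k).symm.coprime_dvd_left ?_ |>.coprime_dvd_right (orderOf_map_dvd ι k)
          exact Subgroup.orderOf_dvd_natCard π.ker hcker
        obtain ⟨i, hi⟩ := exists_pow_eq_self_of_coprime (x := c) (n := orderOf (ι k)) hcopc.symm
        have hp := hca.pow_right (orderOf (ι k) * i)
        rw [conj_pow, hg, pow_mul, (show Commute c (ι k) from hc.symm).mul_pow, pow_orderOf_eq_one,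
          mul_one, hi] at hp
        have h := hclass a z ⟨c, hcker⟩ hp
        rw [hcls, hcomm_smul a (π z) (hac _)] at h
        exact hw1 (Subtype.ext (hWC _ hwW (smul_left_cancel (π z) h)))
      · refine ⟨π z, hπK z hz, ?_⟩
        have := hcb.map π
        rw [hg, hπι, map_mul, map_mul, map_mul, MonoidHom.mem_ker.1 hcker, one_mul, hπι,
          map_inv] at this
        exact this
    · intro h hh v
      refine hfixM h (fun m hm => ?_) v
      obtain ⟨w', hw'⟩ := hsurjW w₀ hw₀ ⟨m, hm⟩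
      have e := hBlsm h w₀ w'
      rw [← hWsm, ← hWsm, hh, hh, Subgroup.coe_inv, Subgroup.coe_inv] at e
      simp only [map_inv, MonoidHom.inv_apply, inv_inv] at e
      rw [show Bl (w₀ : π.ker ⧸ MP) w' = ⟨m, hm⟩ from hw'] at e
      exact (mul_inv_eq_iff_eq_mul.1 e.symm)
  rcases haA with hamove | ⟨hac, haM, han⟩ <;> rcases hbA with hbmove | ⟨hbc, hbM, hbn⟩
  · set φ := MulDistribMulAction.toMulAut H (M →* ℂˣ)
    have : Group.IsSolvable φ.range :=
      Group.isSolvable_of_surjective (f := φ.rangeRestrict) φ.rangeRestrict_surjective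
    have S₁ := setup_image K a B.qp (hfixM _ fun m hm => haker m (hMker hm))
      ((B.qp.coprime_iff_not_dvd).2 hKq) hamove hirr (hgen a ha) (hfix a ha)
    have S₂ := setup_image K b B.rp (hfixM _ fun m hm => hbker m (hMker hm))
      ((B.rp.coprime_iff_not_dvd).2 hKr) hbmove hirr (hgen b hb) (hfix b hb)
    refine core S₁ S₂ B.qr fun k hk => ?_
    obtain ⟨k, hk', rfl⟩ := hk
    obtain ⟨y, hy, hc⟩ := hcov (ι k) (by
      show π (ι k) ∈ K
      rw [hπι]; exact hk')
    refine ⟨_, Subgroup.mem_map_of_mem _ (hπK y hy), hc.imp (fun h => ?_) (fun h => ?_)⟩ <;>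
    · have h' := h.map π
      simp only [map_mul, map_inv, hπι] at h'
      rw [← map_inv, ← map_mul, ← map_mul]; exact h'.map _
  · exact hone B.swap hb ha hbc hbM hbn haker hamove hKq
      (fun g hg => (hcov g hg).imp fun z hz => ⟨hz.1, hz.2.symm⟩)
  · exact hone B ha hb hac haM han hbker hbmove hKr hcov
  · let Cf : H → Subgroup (π.ker ⧸ MP) := fun c =>
      { carrier := {u | c • u = u}
        one_mem' := smul_one c
        mul_mem' := fun {u w} (hu : c • u = u) (hw : c • w = w) => by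
          show c • (u * w) = u * w
          rw [smul_mul', hu, hw]
        inv_mem' := fun {u} (hu : c • u = u) => by
          show c • u⁻¹ = u⁻¹
          rw [smul_inv', hu] }
    have hall : ∀ u, u ∈ Cf a ∨ u ∈ Cf b := fun u => by
      induction u using QuotientGroup.induction_on with | H n => ?_
      obtain ⟨z, -, hc | hc⟩ := hcov n (show π n ∈ K by rw [MonoidHom.mem_ker.1 n.2]; exact K.one_mem)
      · refine Or.inl ?_
        have h := hclass a z n hc
        rw [hcomm_smul a (π z) (hac _)] at h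
        exact smul_left_cancel _ h
      · refine Or.inr ?_
        have h := hclass b z n hc
        rw [hcomm_smul b (π z) (hbc _)] at h
        exact smul_left_cancel _ h
    rcases eq_top_or_eq_top hall with h | h
    · obtain ⟨n, hn, hne⟩ := han
      exact hne (hne1 (hcoH a) haM (fun u => (h.symm ▸ Subgroup.mem_top u : u ∈ Cf a)) n hn)
    · obtain ⟨n, hn, hne⟩ := hbn
      exact hne (hne1 (hcoH b) hbM (fun u => (h.symm ▸ Subgroup.mem_top u : u ∈ Cf b)) n hn)

end Cfsg.Agent.Palfy7
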