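import Mathlib
import Cfsg.Agent.Lib.PalfyOne7
import Cfsg.Agent.Lib.PGroupsBasic

/-!
A solvable group has no three occurring pairwise non-adjacent primes.
-/

set_option autoImplicit false
set_option maxHeartbeats 800000
set_option linter.unusedSectionVars false

namespace Cfsg.Agent.Palfy7

universe u

/-- A complement gives a split surjection. -/
theorem exists_split {G : Type u} [Group G] (N C : Subgroup G) [N.Normal] (hinf : N ⊓ C = ⊥)
    (hsup : N ⊔ C = ⊤) : ∃ π : G →* C, π.ker = N ∧ ∀ c : C, π (C.subtype c) = c := by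
  let f : C →* G ⧸ N := (QuotientGroup.mk' N).comp C.subtype
  have hf : Function.Bijective f := by
    refine ⟨(injective_iff_map_eq_one f).2 fun c hc => ?_, fun g => ?_⟩
    · have h1 : (c : G) ∈ N ⊓ C := ⟨(QuotientGroup.eq_one_iff (c : G)).1 hc, c.2⟩
      rw [hinf, Subgroup.mem_bot] at h1
      exact Subtype.ext h1
    · obtain ⟨g, rfl⟩ := QuotientGroup.mk'_surjective N g
      obtain ⟨n, hn, c, hc, rfl⟩ :=
        Subgroup.mem_sup_of_normal_left.1 (hsup.symm ▸ Subgroup.mem_top g : g ∈ N ⊔ C)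
      refine ⟨⟨c, hc⟩, ?_⟩
      show (c : G ⧸ N) = ((n * c : G) : G ⧸ N)
      rw [QuotientGroup.mk_mul, (QuotientGroup.eq_one_iff n).2 hn, one_mul]
  let e := MulEquiv.ofBijective f hf
  refine ⟨e.symm.toMonoidHom.comp (QuotientGroup.mk' N), ?_, fun c => ?_⟩
  · ext g
    rw [MonoidHom.mem_ker]
    show e.symm (g : G ⧸ N) = 1 ↔ g ∈ N
    rw [← map_one e.symm, e.symm.injective.eq_iff, QuotientGroup.eq_one_iff]
  · exact e.symm_apply_apply c

/-- A least example cannot lose the prime `p` in a minimal quotient. -/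
theorem lost_false {G : Type u} [Group G] [Finite G] [Group.IsSolvable G] {p q r : ℕ}
    (B : Bad G p q r) (hmin : ∀ L : Subgroup G, L.Normal → L ≠ ⊤ → ¬ Bad L p q r)
    (M : Subgroup G) [M.Normal] (hM : HallSolvable.IsMinNormal M) (hlost : ¬ Occ (G ⧸ M) p) :
    False := by
  classical
  have := Fact.mk B.pp
  have hMc : ∀ x ∈ M, ∀ y ∈ M, x * y = y * x := fun x hx y hy =>
    congrArg Subtype.val (hM.commutative_of_solvable.is_comm.comm ⟨x, hx⟩ ⟨y, hy⟩)
  obtain ⟨s, hs, -, hsM⟩ := hM.exists_prime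
  have := Fact.mk hs
  obtain ⟨P⟩ : Nonempty (Sylow p G) := inferInstance
  set f := QuotientGroup.mk' M
  obtain ⟨hPbn, hPbc⟩ := sylow_of_not_occ hlost (P.mapSurjective (QuotientGroup.mk'_surjective M))
  simp only [Sylow.coe_mapSurjective] at hPbn hPbc
  have hPMn : ((P : Subgroup G) ⊔ M).Normal := by
    have h := hPbn.comap f
    rwa [HallSolvable.comap_mk'_map] at h
  have hder : ∀ x ∈ (P : Subgroup G), ∀ y ∈ (P : Subgroup G), x * y * x⁻¹ * y⁻¹ ∈ M := by
    intro x hx y hy
    rw [← QuotientGroup.eq_one_iff, QuotientGroup.mk_mul, QuotientGroup.mk_mul,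
      QuotientGroup.mk_mul, QuotientGroup.mk_inv, QuotientGroup.mk_inv,
      show (x : G ⧸ M) * (y : G ⧸ M) = (y : G ⧸ M) * (x : G ⧸ M) from
        hPbc _ ⟨x, hx, rfl⟩ _ ⟨y, hy, rfl⟩, mul_inv_cancel_right, mul_inv_cancel]
  -- the subgroup is not normal abelian
  have hnoab : (P : Subgroup G).Normal →
      ∃ x ∈ (P : Subgroup G), ∃ y ∈ (P : Subgroup G), ¬ Commute x y := by
    intro hn
    by_contra hab
    push Not at hab
    have := hn
    exact not_occ_of_abelian (G := G) B.pp (P : Subgroup G) (fun a ha b hb => (hab a ha b hb).eq) P.not_dvd_index B.op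
  by_cases hMP : M ≤ (P : Subgroup G)
  · -- the minimal normal subgroup is a `p`-group
    have hPn : (P : Subgroup G).Normal := sup_eq_left.2 hMP ▸ hPMn
    obtain ⟨x, hx, y, hy, hxy⟩ := hnoab hPn
    -- it is central in the Sylow subgroup
    have hcz : ∀ m ∈ M, ∀ n ∈ (P : Subgroup G), Commute m n := by
      have hzn : ((Subgroup.center (P : Subgroup G)).map (P : Subgroup G).subtype).Normal :=
        ConjAct.normal_of_characteristic_of_normal
      have hne : M ⊓ (Subgroup.center (P : Subgroup G)).map (P : Subgroup G).subtype ≠ ⊥ := by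
        intro h
        have hn' : (M.subgroupOf (P : Subgroup G)).Normal := inferInstance
        refine PGroupsBasic.inf_center_ne_bot P.isPGroup' (N := M.subgroupOf (P : Subgroup G)) ?_ ?_
        · rw [ne_eq, Subgroup.subgroupOf_eq_bot, disjoint_iff, inf_eq_left.2 hMP]
          exact hM.ne_bot
        · refine (Subgroup.eq_bot_iff_forall _).2 fun z hz => Subtype.ext
            ((Subgroup.eq_bot_iff_forall _).1 h z ⟨Subgroup.mem_subgroupOf.1 hz.1, z, hz.2, rfl⟩)
      intro m hm n hn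
      obtain ⟨z, hz, rfl⟩ := ((hM.eq_of_le inf_le_left hne).symm ▸ hm :
        m ∈ M ⊓ (Subgroup.center (P : Subgroup G)).map (P : Subgroup G).subtype).2
      exact congrArg Subtype.val (Subgroup.mem_center_iff.1 hz ⟨n, hn⟩).symm
    obtain ⟨C, hC⟩ := Subgroup.exists_right_complement'_of_coprime (N := (P : Subgroup G))
      P.card_coprime_index
    obtain ⟨π, hπ, hπC⟩ := exists_split (P : Subgroup G) C hC.disjoint.eq_bot hC.sup_eq_top
    refine case_one B hmin π C.subtype hπC (hπ.symm ▸ P.isPGroup') ?_ M (hπ.symm ▸ hMP)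
      (fun L hL hle => hM.2.2 L hL hle) (hπ.symm ▸ hcz) (hπ.symm ▸ hder)
      ⟨x, hπ.symm ▸ hx, y, hπ.symm ▸ hy, hxy⟩
    rw [← hC.symm.index_eq_card]
    exact P.not_dvd_index
  · -- the minimal normal subgroup is prime to `p`
    have hsp : s ≠ p := by
      rintro rfl
      exact hMP ((P.is_maximal' (hsM.to_sup_of_normal_left P.isPGroup') le_sup_right) ▸ le_sup_left)
    have hinf : M ⊓ (P : Subgroup G) = ⊥ :=
      (IsPGroup.disjoint_of_ne s p hsp M P hsM P.isPGroup').eq_bot
    have hPc : ∀ x ∈ (P : Subgroup G), ∀ y ∈ (P : Subgroup G), Commute x y := fun x hx y hy => by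
      have h : x * y * x⁻¹ * y⁻¹ ∈ M ⊓ (P : Subgroup G) := ⟨hder x hx y hy,
        P.mul_mem (P.mul_mem (P.mul_mem hx hy) (P.inv_mem hx)) (P.inv_mem hy)⟩
      rw [hinf, Subgroup.mem_bot, mul_inv_eq_one, mul_inv_eq_iff_eq_mul] at h
      exact h
    set C := Subgroup.normalizer ((P : Subgroup G) : Set G) with hCdef
    have hsup : M ⊔ C = ⊤ := by
      have := Sylow.normalizer_sup_eq_top' (N := (P : Subgroup G) ⊔ M) P le_sup_left
      refine eq_top_iff.2 (this.ge.trans (sup_le le_sup_right ?_))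
      exact sup_le (Subgroup.le_normalizer.trans le_sup_right) le_sup_left
    have hMC : (M ⊓ C).Normal := ⟨fun m hm g => by
      obtain ⟨n, hn, c, hc, rfl⟩ :=
        Subgroup.mem_sup_of_normal_left.1 (hsup.symm ▸ Subgroup.mem_top g : g ∈ M ⊔ C)
      have h1 : c * m * c⁻¹ ∈ M ⊓ C := ⟨(inferInstance : M.Normal).conj_mem m hm.1 c,
        C.mul_mem (C.mul_mem hc hm.2) (C.inv_mem hc)⟩
      have e : n * c * m * (n * c)⁻¹ = c * m * c⁻¹ := by
        calc n * c * m * (n * c)⁻¹ = n * (c * m * c⁻¹) * n⁻¹ := by group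
          _ = c * m * c⁻¹ := mul_inv_eq_iff_eq_mul.2 (hMc n hn _ h1.1)
      rwa [e]⟩
    rcases hM.2.2 (M ⊓ C) hMC inf_le_left with hbot | htop
    swap
    · have hPn : (P : Subgroup G).Normal := by
        rw [← Subgroup.normalizer_eq_top_iff, eq_top_iff, ← hsup]
        exact sup_le (inf_eq_left.1 htop) le_rfl
      obtain ⟨x, hx, y, hy, hxy⟩ := hnoab hPn
      exact hxy (hPc x hx y hy)
    obtain ⟨π, hπ, hπC⟩ := exists_split M C hbot hsup
    have hPle : (P : Subgroup G) ≤ C := Subgroup.le_normalizer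
    have : ((P : Subgroup G).subgroupOf C).Normal := Subgroup.normal_in_normalizer
    refine case_two B hmin π C.subtype hπC (hπ.symm ▸ hM.ne_bot) (hπ.symm ▸ hM.2.2) (hπ.symm ▸ hMc)
      ((P : Subgroup G).subgroupOf C)
      (P.isPGroup'.of_equiv (Subgroup.subgroupOfEquivOfLe hPle).symm)
      (fun h => P.not_dvd_index (h.trans (Subgroup.relIndex_dvd_index_of_le hPle))) ?_
    by_contra hall
    push Not at hall
    -- otherwise the minimal normal subgroup normalises the Sylow subgroup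
    refine hM.ne_bot ((Subgroup.eq_bot_iff_forall _).2 fun m hm => ?_)
    refine (Subgroup.eq_bot_iff_forall _).1 hbot m ⟨hm, Subgroup.mem_normalizer_iff.2 fun x => ?_⟩
    have hcomm : ∀ x ∈ (P : Subgroup G), m * x * m⁻¹ = x := fun x hx =>
      mul_inv_eq_iff_eq_mul.2 (hall ⟨x, hPle hx⟩ (Subgroup.mem_subgroupOf.2 hx) m (hπ.symm ▸ hm)).eq.symm
    refine ⟨fun hx => by rwa [hcomm x hx], fun hx => ?_⟩
    have h := hcomm _ hx
    rwa [show x = m⁻¹ * (m * x * m⁻¹) * m by group,
      show m⁻¹ * (m * x * m⁻¹) * m = m * x * m⁻¹ from by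
        calc m⁻¹ * (m * x * m⁻¹) * m = m⁻¹ * (m * (m * x * m⁻¹) * m⁻¹) * m := by rw [h]
          _ = _ := by group]

/-- No three primes. -/
theorem no_bad : ∀ (n : ℕ) (G : Type u) [Group G] [Finite G] [Group.IsSolvable G],
    Nat.card G = n → ∀ p q r : ℕ, ¬ Bad G p q r := by
  intro n
  induction n using Nat.strong_induction_on with
  | _ n ih =>
    intro G _ _ _ hn p q r B
    rcases subsingleton_or_nontrivial G with h | h
    · exact not_occ_of_abelian B.pp (⊤ : Subgroup G) (fun a _ b _ => Subsingleton.elim _ _)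
        (by rw [Subgroup.index_top]; exact B.pp.not_dvd_one) B.op
    have hmin : ∀ {a b c : ℕ} (L : Subgroup G), L.Normal → L ≠ ⊤ → ¬ Bad L a b c :=
      fun L _ hL => ih _ (hn ▸ HallSolvable.card_subgroup_lt hL) L rfl _ _ _
    obtain ⟨M, hM⟩ := HallSolvable.exists_minNormal (G := G)
    have := hM.normal
    have hQ := ih _ (hn ▸ HallSolvable.card_quotient_lt hM.ne_bot) (G ⧸ M) rfl p q r
    have hs := QuotientGroup.mk'_surjective M
    by_cases hp : Occ (G ⧸ M) p
    swap
    · exact lost_false B (fun L => hmin L) M hM hp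
    by_cases hq : Occ (G ⧸ M) q
    swap
    · exact lost_false B.rot (fun L => hmin L) M hM hq
    by_cases hr : Occ (G ⧸ M) r
    swap
    · exact lost_false B.rot.rot (fun L => hmin L) M hM hr
    exact hQ ⟨B.pp, B.qp, B.rp, B.pq, B.qr, B.pr, hp, hq, hr, B.npq.of_surjective _ hs,
      B.nqr.of_surjective _ hs, B.npr.of_surjective _ hs⟩

end Cfsg.Agent.Palfy7
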