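import Mathlib
import Cfsg.Prelude.Def_ClassicalGeometry

/-!
The maximal parabolic subgroups of `GL_n(F)`: stabilisers of the coordinate subspaces.
-/

set_option autoImplicit false

namespace Cfsg.Agent.ParabolicGL

variable {F : Type*} [Field F] {n : ℕ}

/-- The coordinate subspace spanned by the first `k` standard vectors. -/
def coordSub (F : Type*) [Field F] (n k : ℕ) : Submodule F (Fin n → F) where
  carrier := {v | ∀ i : Fin n, k ≤ (i : ℕ) → v i = 0}
  add_mem' {a b} ha hb := fun i hi => by simp [ha i hi, hb i hi]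
  zero_mem' := fun i _ => rfl
  smul_mem' c a ha := fun i hi => by simp [ha i hi]

theorem mem_coordSub {k : ℕ} {v : Fin n → F} :
    v ∈ coordSub F n k ↔ ∀ i : Fin n, k ≤ (i : ℕ) → v i = 0 := Iff.rfl

theorem single_mem_coordSub {k : ℕ} {j : Fin n} (hj : (j : ℕ) < k) (c : F) :
    (Pi.single j c : Fin n → F) ∈ coordSub F n k := fun i hi => by
  rw [Pi.single_eq_of_ne (fun h => by subst h; omega)]

/-- A vector of the coordinate subspace is a combination of the standard vectors below `k`. -/
theorem coordSub_le {k : ℕ} {U : Submodule F (Fin n → F)}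
    (h : ∀ j : Fin n, (j : ℕ) < k → (Pi.single j 1 : Fin n → F) ∈ U) : coordSub F n k ≤ U := by
  intro v hv
  rw [← Finset.univ_sum_single v]
  refine Submodule.sum_mem _ fun j _ => ?_
  by_cases hj : (j : ℕ) < k
  · rw [show (Pi.single j (v j) : Fin n → F) = v j • (Pi.single j (1 : F) : Fin n → F) by
      simp [← Pi.single_smul]]
    exact U.smul_mem _ (h j hj)
  · rw [hv j (not_lt.mp hj), Pi.single_zero]
    exact U.zero_mem

/-- The parabolic subgroup, as in the statements. -/
abbrev para (F : Type*) [Field F] (n k : ℕ) : Subgroup (Matrix.GeneralLinearGroup (Fin n) F) :=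
  Cfsg.stabilizing (Cfsg.glToMat (Fin n) F) {v : Fin n → F | ∀ i : Fin n, k ≤ (i : ℕ) → v i = 0}

theorem mem_para_iff_forall {k : ℕ} {g : Matrix.GeneralLinearGroup (Fin n) F} :
    g ∈ para F n k ↔ ∀ v ∈ coordSub F n k, g.1.mulVec v ∈ coordSub F n k := by
  refine ⟨fun h v hv => (h v).mp hv, fun h v => ⟨h v, fun hv => ?_⟩⟩
  let f : coordSub F n k →ₗ[F] coordSub F n k := g.1.mulVecLin.restrict h
  have hginj : Function.Injective g.1.mulVec := Matrix.mulVec_injective_of_isUnit g.isUnit
  have hf : Function.Injective f := fun a b hab =>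
    Subtype.ext (hginj (congrArg Subtype.val hab))
  obtain ⟨w, hw⟩ := LinearMap.surjective_of_injective hf ⟨_, hv⟩
  have : (w : Fin n → F) = v := hginj (congrArg Subtype.val hw)
  exact this ▸ w.2

theorem mem_para_iff {k : ℕ} {g : Matrix.GeneralLinearGroup (Fin n) F} :
    g ∈ para F n k ↔ ∀ i j : Fin n, k ≤ (i : ℕ) → (j : ℕ) < k → g.1 i j = 0 := by
  rw [mem_para_iff_forall]
  constructor
  · intro h i j hi hj
    have := h _ (single_mem_coordSub hj 1) i hi
    simpa [Matrix.col_apply] using this
  · intro h
    have : coordSub F n k ≤ (coordSub F n k).comap g.1.mulVecLin := by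
      refine coordSub_le fun j hj => ?_
      intro i hi
      simpa [Matrix.col_apply] using h i j hi hj
    exact fun v hv => this hv

/-- An elementary transvection as an element of `GL_n`. -/
def elem (a b : Fin n) (hab : a ≠ b) (c : F) : Matrix.GeneralLinearGroup (Fin n) F :=
  Matrix.GeneralLinearGroup.mkOfDetNeZero (Matrix.transvection a b c) (by
    rw [Matrix.det_transvection_of_ne a b hab c]; exact one_ne_zero)

theorem elem_val (a b : Fin n) (hab : a ≠ b) (c : F) :
    (elem a b hab c).1 = Matrix.transvection a b c := rfl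

theorem elem_mem_para {k : ℕ} (a b : Fin n) (hab : a ≠ b) (c : F)
    (h : ¬ (k ≤ (a : ℕ) ∧ (b : ℕ) < k)) : elem a b hab c ∈ para F n k := by
  rw [mem_para_iff]
  intro i j hi hj
  rw [elem_val, Matrix.transvection, Matrix.add_apply, Matrix.one_apply_ne (fun e => by subst e; omega),
    zero_add, Matrix.single_apply, if_neg]
  rintro ⟨rfl, rfl⟩
  exact h ⟨hi, hj⟩

theorem elem_mulVec (a b : Fin n) (hab : a ≠ b) (c : F) (v : Fin n → F) :
    (elem a b hab c).1.mulVec v = v + Pi.single a (c * v b) := by
  rw [elem_val, Matrix.transvection, Matrix.add_mulVec, Matrix.one_mulVec]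
  congr 1
  ext i
  by_cases hi : i = a
  · subst hi; simp [Matrix.mulVec, dotProduct, Matrix.single_apply]
  · simp [Matrix.mulVec, dotProduct, Ne.symm hi, hi]

/-- The only subspaces invariant under a maximal parabolic are `⊥`, `coordSub` and `⊤`. -/
theorem eq_of_invariant {k : ℕ} {U : Submodule F (Fin n → F)}
    (hU : ∀ g ∈ para F n k, ∀ v ∈ U, (g : Matrix (Fin n) (Fin n) F).mulVec v ∈ U) :
    U = ⊥ ∨ U = coordSub F n k ∨ U = ⊤ := by
  classical
  have key : ∀ u ∈ U, ∀ a b : Fin n, a ≠ b → u b ≠ 0 → ¬ (k ≤ (a : ℕ) ∧ (b : ℕ) < k) →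
      (Pi.single a 1 : Fin n → F) ∈ U := by
    intro u hu a b hab hub h
    have := sub_mem (hU _ (elem_mem_para a b hab 1 h) u hu) hu
    rw [elem_mulVec, add_sub_cancel_left, one_mul] at this
    have := U.smul_mem (u b)⁻¹ this
    rwa [← Pi.single_smul, smul_eq_mul, inv_mul_cancel₀ hub] at this
  -- the same with `a = b`: subtract all the other coordinates
  have keyd : ∀ u ∈ U, ∀ b : Fin n, u b ≠ 0 →
      (∀ a, a ≠ b → u a ≠ 0 → (Pi.single a 1 : Fin n → F) ∈ U) → (Pi.single b 1 : Fin n → F) ∈ U := by
    intro u hu b hub h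
    have h1 : (∑ a ∈ Finset.univ.erase b, (Pi.single a (u a) : Fin n → F)) ∈ U := by
      refine Submodule.sum_mem _ fun a ha => ?_
      by_cases h0 : u a = 0
      · simp [h0]
      · have := U.smul_mem (u a) (h a (Finset.ne_of_mem_erase ha) h0)
        rwa [← Pi.single_smul, smul_eq_mul, mul_one] at this
    have h2 := sub_mem hu h1
    nth_rewrite 1 [← Finset.univ_sum_single u] at h2
    rw [← Finset.add_sum_erase _ _ (Finset.mem_univ b), add_sub_cancel_right] at h2
    have := U.smul_mem (u b)⁻¹ h2
    rwa [← Pi.single_smul, smul_eq_mul, inv_mul_cancel₀ hub] at this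
  by_cases hle : U ≤ coordSub F n k
  · by_cases hb : U = ⊥
    · exact Or.inl hb
    right; left
    obtain ⟨u, hu, hu0⟩ := Submodule.exists_mem_ne_zero_of_ne_bot hb
    obtain ⟨b, hb0⟩ := Function.ne_iff.mp hu0
    have hbk : (b : ℕ) < k := by
      by_contra h
      exact hb0 (hle hu b (not_lt.mp h))
    have hoff : ∀ a : Fin n, (a : ℕ) < k → a ≠ b → (Pi.single a 1 : Fin n → F) ∈ U :=
      fun a ha hab => key u hu a b hab hb0 (by omega)
    refine le_antisymm hle (coordSub_le fun a ha => ?_)
    by_cases hab : a = b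
    · subst hab
      refine keyd u hu a hb0 fun c hc hc0 => hoff c ?_ hc
      by_contra h
      exact hc0 (hle hu c (not_lt.mp h))
    · exact hoff a ha hab
  · right; right
    obtain ⟨u, hu, hu'⟩ := SetLike.not_le_iff_exists.mp hle
    simp only [mem_coordSub, not_forall] at hu'
    obtain ⟨b, hbk, hb0⟩ := hu'
    have hoff : ∀ a : Fin n, a ≠ b → (Pi.single a 1 : Fin n → F) ∈ U :=
      fun a hab => key u hu a b hab hb0 (by omega)
    have hall : ∀ a : Fin n, (Pi.single a 1 : Fin n → F) ∈ U := fun a => by
      by_cases hab : a = b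
      · subst hab; exact keyd u hu a hb0 fun c hc _ => hoff c hc
      · exact hoff a hab
    rw [eq_top_iff]
    intro v _
    rw [← Finset.univ_sum_single v]
    refine Submodule.sum_mem _ fun a _ => ?_
    have := U.smul_mem (v a) (hall a)
    rwa [← Pi.single_smul, smul_eq_mul, mul_one] at this

/-- A subgroup of `GL_n` containing a maximal parabolic properly is everything. -/
theorem eq_top_of_para_lt {k : ℕ} {H : Subgroup (Matrix.GeneralLinearGroup (Fin n) F)}
    (hle : para F n k < H) : H = ⊤ := by
  classical
  obtain ⟨g, hgH, hg⟩ := SetLike.exists_of_lt hle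
  rw [mem_para_iff] at hg
  push Not at hg
  obtain ⟨i, j, hi, hj, hij⟩ := hg
  -- `v = g e_j` is outside the subspace; move it to `e_i`
  set P : Matrix (Fin n) (Fin n) F := Matrix.updateCol 1 i (fun l => g.1 l j) with hP
  have hPd : P.det ≠ 0 := by
    rw [hP, ← Matrix.cramer_apply, Matrix.cramer_one]; exact hij
  set p := Matrix.GeneralLinearGroup.mkOfDetNeZero P hPd with hp
  have hpP : p.1 = P := rfl
  have hpm : p ∈ para F n k := by
    rw [mem_para_iff]
    intro a b ha hb
    have hbi : b ≠ i := fun e => by subst e; omega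
    rw [hpP, hP, Matrix.updateCol_ne hbi, Matrix.one_apply_ne (fun e => by subst e; omega)]
  set h := p⁻¹ * g with hh
  have hhH : h ∈ H := H.mul_mem (H.inv_mem (hle.le hpm)) hgH
  have hhe : h.1.mulVec (Pi.single j 1) = Pi.single i 1 := by
    have h1 : g.1.mulVec (Pi.single j 1) = P.mulVec (Pi.single i 1) := by
      ext l
      simp [hP, Matrix.col_apply]
    rw [hh, Units.val_mul, ← Matrix.mulVec_mulVec, h1, ← hpP, Matrix.mulVec_mulVec, Units.inv_mul,
      Matrix.one_mulVec]
  -- all transvections with centre `e_i` lie in `H`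
  have hrow : ∀ (b : Fin n) (hb : i ≠ b) (c : F), elem i b hb c ∈ H := by
    intro b hb c
    have hm : h⁻¹ * elem i b hb c * h ∈ para F n k := by
      rw [mem_para_iff_forall]
      intro v hv
      have he : (h⁻¹).1.mulVec (Pi.single i 1) = Pi.single j 1 := by
        rw [← hhe, Matrix.mulVec_mulVec, Units.inv_mul, Matrix.one_mulVec]
      have hsm : ∀ d : F, (Pi.single i d : Fin n → F) = d • (Pi.single i (1 : F) : Fin n → F) :=
        fun d => by simp [← Pi.single_smul]
      rw [Units.val_mul, Units.val_mul, ← Matrix.mulVec_mulVec, ← Matrix.mulVec_mulVec, elem_mulVec,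
        Matrix.mulVec_add, Matrix.mulVec_mulVec, Units.inv_mul, Matrix.one_mulVec, hsm,
        Matrix.mulVec_smul, he]
      exact add_mem hv (Submodule.smul_mem _ _ (single_mem_coordSub hj 1))
    have := H.mul_mem (H.mul_mem hhH (hle.le hm)) (H.inv_mem hhH)
    rwa [show h * (h⁻¹ * elem i b hb c * h) * h⁻¹ = elem i b hb c by group] at this
  have hall : ∀ (a b : Fin n) (hab : a ≠ b) (c : F), elem a b hab c ∈ H := by
    intro a b hab c
    by_cases hab' : k ≤ (a : ℕ) ∧ (b : ℕ) < k
    · by_cases hai : a = i
      · subst hai; exact hrow b hab c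
      · set S := Matrix.GeneralLinearGroup.mkOfDetNeZero
          ((Equiv.swap a i).permMatrix F) (by simp [Matrix.det_permutation, hai]) with hS
        have hSm : S ∈ para F n k := by
          rw [mem_para_iff]
          intro r s hr hs
          show (Equiv.swap a i).permMatrix F r s = 0
          simp only [PEquiv.toMatrix_apply, Equiv.toPEquiv_apply, Option.mem_some_iff]
          rw [if_neg]
          intro e
          rw [Equiv.swap_apply_def] at e
          split_ifs at e <;> subst e <;> omega
        have hib : i ≠ b := fun e => by subst e; omega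
        have hba : b ≠ a := hab.symm
        have := H.mul_mem (H.mul_mem (hle.le hSm) (hrow b hib c)) (hle.le hSm)
        convert this using 1
        apply Units.ext
        show Matrix.transvection a b c = (Equiv.swap a i).permMatrix F * Matrix.transvection i b c *
          (Equiv.swap a i).permMatrix F
        ext r s
        rw [PEquiv.mul_toMatrix_toPEquiv, Matrix.submatrix_apply, PEquiv.toMatrix_toPEquiv_mul,
          Matrix.submatrix_apply, Equiv.symm_swap]
        simp only [Matrix.transvection, Matrix.add_apply, Matrix.one_apply, Matrix.single_apply,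
          id_eq, EmbeddingLike.apply_eq_iff_eq]
        congr 1
        have e1 : (i = Equiv.swap a i r) = (a = r) := by
          apply propext
          constructor
          · intro e
            have := congrArg (Equiv.swap a i) e
            simpa using this
          · rintro rfl; simp
        have e2 : (b = Equiv.swap a i s) = (b = s) := by
          apply propext
          constructor
          · intro e
            have := congrArg (Equiv.swap a i) e
            rwa [Equiv.swap_apply_self, Equiv.swap_apply_of_ne_of_ne hba (Ne.symm hib)] at this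
          · rintro rfl; rw [Equiv.swap_apply_of_ne_of_ne hba (Ne.symm hib)]
        simp only [e1, e2]
    · exact hle.le (elem_mem_para a b hab c hab')
  have hlist : ∀ L : List (Matrix.TransvectionStruct (Fin n) F),
      ∃ x ∈ H, x.1 = (L.map Matrix.TransvectionStruct.toMatrix).prod := by
    intro L
    induction L with
    | nil => exact ⟨1, H.one_mem, by simp⟩
    | cons t L ih =>
      obtain ⟨x, hx, hxe⟩ := ih
      exact ⟨elem t.i t.j t.hij t.c * x, H.mul_mem (hall _ _ _ _) hx, by
        simp [hxe, elem_val, Matrix.TransvectionStruct.toMatrix]⟩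
  rw [eq_top_iff]
  intro M _
  obtain ⟨L, L', D, hM⟩ := Matrix.Pivot.exists_list_transvec_mul_diagonal_mul_list_transvec M.1
  obtain ⟨x, hx, hxe⟩ := hlist L
  obtain ⟨y, hy, hye⟩ := hlist L'
  have hd : (Matrix.diagonal D).det ≠ 0 := by
    intro h0
    apply (Matrix.GeneralLinearGroup.det M).ne_zero
    rw [Matrix.GeneralLinearGroup.val_det_apply, hM, Matrix.det_mul, Matrix.det_mul, h0]
    simp
  have hdm : Matrix.GeneralLinearGroup.mkOfDetNeZero (Matrix.diagonal D) hd ∈ para F n k := by
    rw [mem_para_iff]
    intro a b ha hb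
    exact Matrix.diagonal_apply_ne _ (fun e => by subst e; omega)
  have := H.mul_mem (H.mul_mem hx (hle.le hdm)) hy
  convert this using 1
  apply Units.ext
  show M.1 = x.1 * Matrix.diagonal D * y.1
  rw [hM, hxe, hye]

theorem para_ne_top {k : ℕ} (hk0 : 0 < k) (hkn : k < n) : para F n k ≠ ⊤ := by
  intro h
  let a : Fin n := ⟨k, hkn⟩
  let b : Fin n := ⟨0, by omega⟩
  have hab : a ≠ b := by simp [a, b, Fin.ext_iff]; omega
  have hm : elem a b hab (1 : F) ∈ para F n k := h ▸ Subgroup.mem_top _
  have := mem_para_iff.mp hm a b le_rfl hk0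
  simp [elem_val, Matrix.transvection, Matrix.one_apply_ne hab] at this

end Cfsg.Agent.ParabolicGL
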