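import Mathlib
import Cfsg.Agent.Lib.GLUnipotentDC

/-!
Orders and indices of standard parabolic subgroups of `GL_n(q)`.
-/

set_option autoImplicit false

namespace Cfsg.Agent.ParabolicIndexGL

open Finset
open scoped MatrixGroups
open Cfsg.Agent.GLUnipotentDC (lab compLabel_eq_lab card_lab_fiber compLabel_mono)

/-- `[k] = 1 + q + ⋯ + q^(k-1)`. -/
def qInt (q k : ℕ) : ℕ := ∑ l ∈ Finset.range k, q ^ l

/-- `[m]!`. -/
def qFact (q m : ℕ) : ℕ := ∏ j ∈ Finset.range m, qInt q (j + 1)

variable {F : Type*} [Field F] [Fintype F]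

theorem qFact_pos (q m : ℕ) : 0 < qFact q m :=
  Finset.prod_pos fun _ _ => by
    rw [qInt, Finset.sum_range_succ', pow_zero]
    exact Nat.succ_pos _

theorem card_GL_qFact {q : ℕ} (hq : Fintype.card F = q) (m : ℕ) :
    Nat.card (GL (Fin m) F) = q ^ m.choose 2 * (q - 1) ^ m * qFact q m := by
  subst hq
  rw [Matrix.card_GL_field, qFact, Finset.prod_range fun j => qInt (Fintype.card F) (j + 1)]
  have h : ∀ i : Fin m, Fintype.card F ^ m - Fintype.card F ^ (i : ℕ) =
      Fintype.card F ^ (i : ℕ) * ((Fintype.card F - 1) * qInt (Fintype.card F) (m - i)) := by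
    intro i
    rw [qInt, Nat.mul_comm (Fintype.card F - 1), geom_sum_mul_of_one_le Fintype.card_pos,
      Nat.mul_sub, mul_one, ← pow_add, Nat.add_sub_cancel' i.isLt.le]
  simp only [h, Finset.prod_mul_distrib, Finset.prod_pow_eq_pow_sum, Finset.prod_const,
    Finset.card_univ, Fintype.card_fin]
  rw [← Finset.sum_range fun i => i, Finset.sum_range_id, ← Nat.choose_two_right, mul_assoc]
  congr 2
  refine Fintype.prod_equiv Fin.revPerm _ _ fun i => ?_
  congr 1
  simp [Fin.val_rev]
  omega

section Parabolic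

variable {n : ℕ} (μ : Fin n → ℕ) (h : ∑ i, μ i = n)

/-- Positions strictly above the block diagonal. -/
abbrev Above := {p : Fin n × Fin n // lab μ h p.1 < lab μ h p.2}

theorem two_mul_card_above :
    2 * Fintype.card (Above μ h) + ∑ i, μ i * μ i = n * n := by
  classical
  have h1 : Fintype.card {p : Fin n × Fin n // lab μ h p.1 = lab μ h p.2} = ∑ i, μ i * μ i := by
    rw [Fintype.card_congr (show {p : Fin n × Fin n // lab μ h p.1 = lab μ h p.2} ≃
      Σ a : Fin n, {k // lab μ h k = a} × {k // lab μ h k = a} from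
      { toFun := fun p => ⟨lab μ h p.1.2, ⟨p.1.1, p.2⟩, ⟨p.1.2, rfl⟩⟩
        invFun := fun x => ⟨(x.2.1.1, x.2.2.1), x.2.1.2.trans x.2.2.2.symm⟩
        left_inv := fun p => rfl
        right_inv := by
          rintro ⟨a, ⟨u, hu⟩, ⟨v, hv⟩⟩
          subst hv
          rfl })]
    simp [card_lab_fiber μ h]
  have h2 : Fintype.card {p : Fin n × Fin n // lab μ h p.2 < lab μ h p.1} = Fintype.card (Above μ h) :=
    Fintype.card_congr (Equiv.subtypeEquiv (Equiv.prodComm _ _) fun p => Iff.rfl)
  rw [← h1]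
  simp only [Fintype.card_subtype] at h2 ⊢
  have h3 := Finset.card_filter_add_card_filter_not (s := (Finset.univ : Finset (Fin n × Fin n)))
    (fun p => lab μ h p.1 = lab μ h p.2)
  have h4 : Finset.univ.filter (fun p : Fin n × Fin n => ¬ lab μ h p.1 = lab μ h p.2) =
      Finset.univ.filter (fun p : Fin n × Fin n => lab μ h p.1 < lab μ h p.2) ∪
        Finset.univ.filter (fun p : Fin n × Fin n => lab μ h p.2 < lab μ h p.1) := by
    ext p
    simp [lt_or_lt_iff_ne]
  rw [h4, Finset.card_union_of_disjoint (Finset.disjoint_filter.2 fun p _ hp hp' => absurd hp' (lt_asymm hp)),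
    h2] at h3
  simp only [Finset.card_univ, Fintype.card_prod, Fintype.card_fin] at h3
  omega

theorem choose_two_split :
    n.choose 2 = Fintype.card (Above μ h) + ∑ i, (μ i).choose 2 := by
  have hc : ∀ m : ℕ, 2 * m.choose 2 + m = m * m := by
    intro m
    induction m with
    | zero => rfl
    | succ m ih =>
      rw [Nat.choose_succ_succ, Nat.choose_one_right]
      linarith
  have h1 := two_mul_card_above μ h
  have h2 : 2 * ∑ i, (μ i).choose 2 + n = ∑ i, μ i * μ i := by
    conv_lhs => arg 2; rw [← h]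
    rw [Finset.mul_sum, ← Finset.sum_add_distrib]
    exact Finset.sum_congr rfl fun i _ => hc (μ i)
  have := hc n
  omega

theorem det_eq_prod_blocks {g : Matrix (Fin n) (Fin n) F} (hg : g.BlockTriangular (lab μ h)) :
    g.det = ∏ a, (g.toSquareBlock (lab μ h) a).det :=
  hg.det_fintype

/-- A parabolic element is its diagonal blocks and the entries above. -/
noncomputable def parabolicEquiv :
    ↥(Cfsg.parabolicGL n F μ) ≃
      (Π a : Fin n, GL {k : Fin n // lab μ h k = a} F) × (Above μ h → F) := by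
  classical
  have hlt : ∀ i j : Fin n, Cfsg.compLabel μ j < Cfsg.compLabel μ i ↔ lab μ h j < lab μ h i := fun i j => by
    rw [compLabel_eq_lab μ h, compLabel_eq_lab μ h, Fin.lt_def]
  have hbl : ∀ g : ↥(Cfsg.parabolicGL n F μ),
      ((g : GL (Fin n) F) : Matrix (Fin n) (Fin n) F).BlockTriangular (lab μ h) :=
    fun g i j hij => g.2 ((hlt i j).2 hij)
  have hblock : ∀ (g : ↥(Cfsg.parabolicGL n F μ)) (a : Fin n),
      (((g : GL (Fin n) F) : Matrix (Fin n) (Fin n) F).toSquareBlock (lab μ h) a).det ≠ 0 := by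
    intro g a ha
    refine ((Matrix.isUnit_iff_isUnit_det _).1 g.1.isUnit).ne_zero ?_
    rw [det_eq_prod_blocks μ h (hbl g), Finset.prod_eq_zero (Finset.mem_univ a) ha]
  let M : (Π a : Fin n, GL {k : Fin n // lab μ h k = a} F) × (Above μ h → F) → Matrix (Fin n) (Fin n) F :=
    fun x => Matrix.of fun i j =>
      if e : lab μ h i = lab μ h j then
        (x.1 (lab μ h j)).val ⟨i, e⟩ ⟨j, rfl⟩
      else if e' : lab μ h i < lab μ h j then x.2 ⟨(i, j), e'⟩ else 0
  have hMbl : ∀ x, (M x).BlockTriangular (lab μ h) := by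
    intro x i j hij
    simp only [M, Matrix.of_apply]
    rw [dif_neg (ne_of_gt hij), dif_neg (not_lt.2 hij.le)]
  have hMblock : ∀ x a, (M x).toSquareBlock (lab μ h) a = (x.1 a : Matrix _ _ F) := by
    intro x a
    ext ⟨i, hi⟩ ⟨j, hj⟩
    subst hj
    change (M x) i j = _
    simp only [M, Matrix.of_apply]
    rw [dif_pos hi]
  have hMdet : ∀ x, (M x).det ≠ 0 := by
    intro x
    rw [det_eq_prod_blocks μ h (hMbl x), Finset.prod_ne_zero_iff]
    intro a _
    rw [hMblock]
    exact ((Matrix.isUnit_iff_isUnit_det _).1 (x.1 a).isUnit).ne_zero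
  exact {
    toFun := fun g => (fun a => Matrix.GeneralLinearGroup.mkOfDetNeZero _ (hblock g a),
      fun p => ((g : GL (Fin n) F) : Matrix (Fin n) (Fin n) F) p.1.1 p.1.2)
    invFun := fun x => ⟨Matrix.GeneralLinearGroup.mkOfDetNeZero (M x) (hMdet x),
      fun i j hij => hMbl x ((hlt i j).1 hij)⟩
    left_inv := by
      intro g
      refine Subtype.ext (Units.ext (Matrix.ext fun i j => ?_))
      simp only [Matrix.GeneralLinearGroup.mkOfDetNeZero, M]
      change (if e : lab μ h i = lab μ h j then _ else _) = _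
      split_ifs with e e'
      · rfl
      · rfl
      · exact (hbl g (lt_of_le_of_ne (not_lt.1 e') (Ne.symm e))).symm
    right_inv := by
      intro x
      refine Prod.ext (funext fun a => Units.ext (hMblock x a)) (funext fun p => ?_)
      change (M x) p.1.1 p.1.2 = x.2 p
      simp only [M, Matrix.of_apply]
      rw [dif_neg (ne_of_lt p.2), dif_pos p.2] }

include h in
theorem card_parabolic {q : ℕ} (hq : Fintype.card F = q) :
    Nat.card ↥(Cfsg.parabolicGL n F μ) = q ^ n.choose 2 * (q - 1) ^ n * ∏ i, qFact q (μ i) := by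
  classical
  rw [Nat.card_congr (parabolicEquiv μ h), Nat.card_prod, Nat.card_pi, Nat.card_fun,
    Nat.card_eq_fintype_card (α := F), hq, Nat.card_eq_fintype_card (α := Above μ h)]
  have hblk : ∀ a : Fin n, Nat.card (GL {k : Fin n // lab μ h k = a} F) =
      q ^ (μ a).choose 2 * (q - 1) ^ μ a * qFact q (μ a) := by
    intro a
    rw [← card_GL_qFact hq]
    let e : {k : Fin n // lab μ h k = a} ≃ Fin (μ a) :=
      Fintype.equivFinOfCardEq (card_lab_fiber μ h a)
    exact Nat.card_congr (Units.mapEquiv (Matrix.reindexAlgEquiv F F e).toMulEquiv).toEquiv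
  simp only [hblk, Finset.prod_mul_distrib, Finset.prod_pow_eq_pow_sum, h]
  rw [choose_two_split μ h, pow_add]
  ring

include h in
theorem index_mul {q : ℕ} (hq : Fintype.card F = q) :
    Nat.card (GL (Fin n) F ⧸ Cfsg.parabolicGL n F μ) * ∏ i, qFact q (μ i) = qFact q n := by
  have h1 := (Cfsg.parabolicGL n F μ).card_eq_card_quotient_mul_card_subgroup
  rw [card_parabolic μ h hq, card_GL_qFact hq] at h1
  have hq2 : 2 ≤ q := hq ▸ Fintype.one_lt_card
  have hpos : 0 < q ^ n.choose 2 * (q - 1) ^ n := by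
    have : 0 < q - 1 := by omega
    positivity
  refine Nat.eq_of_mul_eq_mul_left hpos ?_
  rw [h1]
  ring

end Parabolic

end Cfsg.Agent.ParabolicIndexGL
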