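import Mathlib
import Cfsg.Prelude.Def_Spor_Mathieu
import Cfsg.Agent.Lib.GolayBasic
import Cfsg.Agent.Lib.GolayPerm
import Cfsg.Agent.Lib.GolayModule

/-!
A loop cocycle on the binary code of length 24: a function `th`, additive in the second argument, with
coboundary the triple intersection form and diagonal a quarter of the weight.
-/

set_option autoImplicit false

namespace Cfsg.Agent.ParkerTheta60

open Cfsg Cfsg.Agent.GolayBasic Cfsg.Agent.GolayPerm
open Cfsg.Agent.GolayModule (act)

abbrev W : Type := GolayPt → ZMod 2

/-- dot product -/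
def dot (x y : W) : ZMod 2 := ∑ p, x p * y p

/-- triple form -/
def tri (x y z : W) : ZMod 2 := ∑ p, x p * y p * z p

/-- size of common support -/
def icard (x r : W) : ℕ := (support₂ x ∩ support₂ r).card

theorem mem_support₂ {x : W} {p : GolayPt} : p ∈ support₂ x ↔ x p = 1 := by
  simp only [support₂, Finset.mem_filter, Finset.mem_univ, true_and]
  generalize x p = a
  revert a; decide

theorem eq_zero_or_one (a : ZMod 2) : a = 0 ∨ a = 1 := by revert a; decide

theorem icard_cast (x r : W) : (icard x r : ZMod 2) = dot x r := by
  rw [icard, dot, Finset.card_eq_sum_ones, Nat.cast_sum,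
    ← Finset.sum_subset (Finset.subset_univ (support₂ x ∩ support₂ r))]
  · refine Finset.sum_congr rfl fun p hp => ?_
    simp only [Finset.mem_inter, mem_support₂] at hp
    simp [hp.1, hp.2]
  · intro p _ hp
    simp only [Finset.mem_inter, mem_support₂] at hp
    rcases eq_zero_or_one (x p) with h | h <;> rcases eq_zero_or_one (r p) with h' | h' <;>
      simp_all

/-- supports of a sum -/
theorem icard_add (x y r : W) :
    icard (x + y) r + 2 * (support₂ x ∩ support₂ y ∩ support₂ r).card = icard x r + icard y r := by
  have h1 : support₂ (x + y) ∩ support₂ r =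
      ((support₂ x ∩ support₂ r) \ (support₂ y ∩ support₂ r)) ∪
        ((support₂ y ∩ support₂ r) \ (support₂ x ∩ support₂ r)) := by
    ext p
    simp only [Finset.mem_union, Finset.mem_sdiff, Finset.mem_inter, mem_support₂, Pi.add_apply]
    generalize x p = a
    generalize y p = b
    generalize r p = c
    revert a b c; decide
  have h2 : support₂ x ∩ support₂ y ∩ support₂ r =
      (support₂ x ∩ support₂ r) ∩ (support₂ y ∩ support₂ r) := by
    ext p; simp only [Finset.mem_inter]; tauto
  simp only [icard]
  rw [h1, h2, Finset.card_union_of_disjoint disjoint_sdiff_sdiff]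
  have a1 := Finset.card_sdiff_add_card_inter (support₂ x ∩ support₂ r) (support₂ y ∩ support₂ r)
  have a2 := Finset.card_sdiff_add_card_inter (support₂ y ∩ support₂ r) (support₂ x ∩ support₂ r)
  rw [Finset.inter_comm (support₂ y ∩ support₂ r)] at a2
  omega

theorem tri_eq (x y r : W) :
    ((support₂ x ∩ support₂ y ∩ support₂ r).card : ZMod 2) = tri x y r := by
  rw [tri, Finset.card_eq_sum_ones, Nat.cast_sum,
    ← Finset.sum_subset (Finset.subset_univ (support₂ x ∩ support₂ y ∩ support₂ r))]
  · refine Finset.sum_congr rfl fun p hp => ?_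
    simp only [Finset.mem_inter, mem_support₂] at hp
    simp [hp.1.1, hp.1.2, hp.2]
  · intro p _ hp
    simp only [Finset.mem_inter, mem_support₂] at hp
    rcases eq_zero_or_one (x p) with h | h <;> rcases eq_zero_or_one (y p) with h' | h' <;>
      rcases eq_zero_or_one (r p) with h'' | h'' <;> simp_all

theorem tri_add (x y z z' : W) : tri x y (z + z') = tri x y z + tri x y z' := by
  simp only [tri, Pi.add_apply, mul_add, Finset.sum_add_distrib]

theorem dot_add_left (x y z : W) : dot (x + y) z = dot x z + dot y z := by
  simp only [dot, Pi.add_apply, add_mul, Finset.sum_add_distrib]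

theorem dot_add_right (x y z : W) : dot x (y + z) = dot x y + dot x z := by
  simp only [dot, Pi.add_apply, mul_add, Finset.sum_add_distrib]

theorem dot_comm (x y : W) : dot x y = dot y x := by
  simp only [dot, mul_comm]

theorem tri_diag (x y : W) : tri x y x = dot x y ∧ tri x y y = dot x y := by
  constructor <;> (simp only [tri, dot]; refine Finset.sum_congr rfl fun p _ => ?_) <;>
    rcases eq_zero_or_one (x p) with h | h <;> rcases eq_zero_or_one (y p) with h' | h' <;>
      simp [h, h']

theorem dot_act (σ : Equiv.Perm GolayPt) (x y : W) : dot (act σ x) (act σ y) = dot x y :=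
  Equiv.sum_comp σ.symm fun p => x p * y p

theorem tri_act (σ : Equiv.Perm GolayPt) (x y z : W) : tri (act σ x) (act σ y) (act σ z) = tri x y z :=
  Equiv.sum_comp σ.symm fun p => x p * y p * z p

theorem icard_word (m n : ℕ) : icard (word m) (word n) = wt (m &&& n) := by
  rw [icard, support₂_word, support₂_word, ← mset_and, card_mset]

/-! ### the basis -/

/-- the correcting linear forms, as masks -/
def colRows : List ℕ := [0, 0, 0, 0, 0, 2, 16, 0, 1, 4, 8, 128]

/-- `k`-th basis word -/
def rowW (k : Fin 12) : W := word (basisRows.getD k 0)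

/-- `k`-th correcting word -/
def colW (k : Fin 12) : W := word (colRows.getD k 0)

/-- coordinate `k` -/
def coord (z : W) (k : Fin 12) : ZMod 2 := z (pt k)

theorem coord_word (n : ℕ) (k : Fin 12) : coord (word n) k = if n.testBit k then 1 else 0 := by
  rw [coord, word_apply, idx_pt (by omega)]

theorem coord_add (z z' : W) (k : Fin 12) : coord (z + z') k = coord z k + coord z' k := rfl

/-- the component forms -/
def ev (x : W) (k : Fin 12) : ZMod 2 := ((icard x (rowW k) / 2 + icard x (colW k) : ℕ) : ZMod 2)

/-- the cocycle -/
def th (x z : W) : ZMod 2 := ∑ k : Fin 12, coord z k * ev x k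

theorem th_add (x z z' : W) : th x (z + z') = th x z + th x z' := by
  simp only [th, coord_add, add_mul, Finset.sum_add_distrib]

theorem th_zero_right (x : W) : th x 0 = 0 := by
  simp [th, coord]

theorem rowW_mem (k : Fin 12) : rowW k ∈ golayCode := by
  have : ∀ k : Fin 12, basisRows.getD k 0 < 2 ^ 24 ∧ inCode (basisRows.getD k 0) = true := by
    decide +kernel
  exact (word_mem_iff (this k).1).2 (this k).2

theorem rows_low : ∀ k j : Fin 12, coord (rowW k) j = if j = k then 1 else 0 := by
  decide +kernel

/-- a word of the code is the combination of basis words given by its first twelve values -/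
theorem eq_combination {z : W} (hz : z ∈ golayCode) : z = ∑ k : Fin 12, coord z k • rowW k := by
  have hc : (∑ k : Fin 12, coord z k • rowW k) ∈ golayCode :=
    Submodule.sum_mem golayCode fun k _ => Submodule.smul_mem golayCode _ (rowW_mem k)
  obtain ⟨n, hn, he⟩ := exists_enc (Submodule.sub_mem _ hz hc)
  have h0 : n = 0 := by
    refine Nat.eq_of_testBit_eq fun i => ?_
    rw [Nat.zero_testBit]
    by_cases hi : i < 12
    · have e1 : coord (z - ∑ k : Fin 12, coord z k • rowW k) ⟨i, hi⟩ = 0 := by
        simp only [coord, Pi.sub_apply, Finset.sum_apply, Pi.smul_apply, smul_eq_mul]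
        rw [sub_eq_zero, Finset.sum_eq_single (⟨i, hi⟩ : Fin 12)]
        · have := rows_low ⟨i, hi⟩ ⟨i, hi⟩
          rw [if_pos rfl, coord] at this
          rw [this, mul_one]
        · intro b _ hb
          have := rows_low b ⟨i, hi⟩
          rw [if_neg (Ne.symm hb), coord] at this
          rw [this, mul_zero]
        · simp
      rw [← he, coord_word] at e1
      have hbit : (enc n).testBit i = n.testBit i := by
        have := congrArg (fun m => m.testBit i) (enc_and hn)
        rw [Nat.testBit_and, show (4095 : ℕ) = 2 ^ 12 - 1 from rfl, Nat.testBit_two_pow_sub_one,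
          decide_eq_true hi, Bool.and_true] at this
        exact this
      rw [hbit] at e1
      cases h : n.testBit i
      · rfl
      · simp [h] at e1
    · exact Nat.testBit_lt_two_pow (lt_of_lt_of_le hn (by
        calc 4096 = 2 ^ 12 := by norm_num
          _ ≤ 2 ^ i := Nat.pow_le_pow_right (by norm_num) (by omega)))
  rw [h0, enc_zero, word_zero] at he
  exact sub_eq_zero.1 he.symm

theorem even_aux : (List.range 4096).all (fun x => basisRows.all fun b => wt (enc x &&& b) % 2 == 0) = true := by
  decide +kernel

theorem icard_even {x : W} (hx : x ∈ golayCode) (k : Fin 12) : icard x (rowW k) % 2 = 0 := by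
  obtain ⟨n, hn, rfl⟩ := exists_enc hx
  rw [rowW, icard_word]
  have h1 := List.all_eq_true.1 even_aux n (List.mem_range.2 hn)
  have h2 := List.all_eq_true.1 h1 (basisRows.getD k 0) (by
    rw [List.getD_eq_getElem _ 0 (show (k : ℕ) < basisRows.length from k.isLt)]
    exact List.getElem_mem _)
  simpa using h2

theorem dot_rowW {x : W} (hx : x ∈ golayCode) (k : Fin 12) : dot x (rowW k) = 0 := by
  rw [← icard_cast, ZMod.natCast_eq_zero_iff_even, Nat.even_iff]
  exact icard_even hx k

theorem dot_eq_zero {x y : W} (hx : x ∈ golayCode) (hy : y ∈ golayCode) : dot x y = 0 := by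
  rw [eq_combination hy, dot]
  simp only [Finset.sum_apply, Pi.smul_apply, smul_eq_mul, Finset.mul_sum]
  rw [Finset.sum_comm]
  refine Finset.sum_eq_zero fun k _ => ?_
  have := dot_rowW hx k
  rw [dot] at this
  calc (∑ p, x p * (coord y k * rowW k p)) = coord y k * ∑ p, x p * rowW k p := by
        rw [Finset.mul_sum]; exact Finset.sum_congr rfl fun p _ => by ring
    _ = 0 := by rw [this, mul_zero]

theorem ev_add {x y : W} (hx : x ∈ golayCode) (hy : y ∈ golayCode) (k : Fin 12) :
    ev (x + y) k = ev x k + ev y k + tri x y (rowW k) := by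
  simp only [ev, Nat.cast_add, icard_cast, dot_add_left, ← tri_eq]
  have h := icard_add x y (rowW k)
  have ex := icard_even hx k
  have ey := icard_even hy k
  have exy := icard_even (Submodule.add_mem _ hx hy) k
  have key : icard (x + y) (rowW k) / 2 + (support₂ x ∩ support₂ y ∩ support₂ (rowW k)).card =
      icard x (rowW k) / 2 + icard y (rowW k) / 2 := by omega
  have key' := congrArg (fun n : ℕ => (n : ZMod 2)) key
  simp only [Nat.cast_add] at key'
  have two : ∀ a : ZMod 2, a + a = 0 := by decide
  linear_combination key' - two ((support₂ x ∩ support₂ y ∩ support₂ (rowW k)).card : ZMod 2)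

theorem th_cocycle {x y z : W} (hx : x ∈ golayCode) (hy : y ∈ golayCode) (hz : z ∈ golayCode) :
    th (x + y) z = th x z + th y z + tri x y z := by
  have h : tri x y z = ∑ k : Fin 12, coord z k * tri x y (rowW k) := by
    conv_lhs => rw [eq_combination hz]
    simp only [tri, Finset.sum_apply, Pi.smul_apply, smul_eq_mul, Finset.mul_sum]
    rw [Finset.sum_comm]
    exact Finset.sum_congr rfl fun k _ => Finset.sum_congr rfl fun p _ => by ring
  simp only [th, ev_add hx hy, mul_add, Finset.sum_add_distrib, h]

theorem th_zero_left (z : W) : th 0 z = 0 := by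
  simp [th, ev, icard, support₂]

/-- a quarter of the weight -/
def q4 (x : W) : ZMod 2 := ((support₂ x).card / 4 : ℕ)

theorem q4_act (σ : Equiv.Perm GolayPt) (x : W) : q4 (act σ x) = q4 x := by
  rw [q4, q4]
  congr 2
  refine Finset.card_bij' (fun p _ => σ.symm p) (fun p _ => σ p) ?_ ?_ ?_ ?_ <;>
    simp [mem_support₂, act]

/-- the cocycle on numbers below `4096` -/
def thN (n m : ℕ) : ℕ :=
  (((List.range 12).map fun k => if m.testBit k then
    wt (enc n &&& basisRows.getD k 0) / 2 + wt (enc n &&& colRows.getD k 0) else 0).sum) % 2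

theorem th_enc (n : ℕ) {m : ℕ} (hm : m < 4096) : th (word (enc n)) (word (enc m)) = (thN n m : ZMod 2) := by
  have hl : ∀ k : Fin 12, (enc m).testBit k = m.testBit k := by
    intro k
    have := congrArg (fun a => a.testBit (k : ℕ)) (enc_and hm)
    rw [Nat.testBit_and, show (4095 : ℕ) = 2 ^ 12 - 1 from rfl, Nat.testBit_two_pow_sub_one,
      decide_eq_true k.isLt, Bool.and_true] at this
    exact this
  rw [thN, ZMod.natCast_mod, ← List.sum_toFinset, List.toFinset_range, Nat.cast_sum,
    Finset.sum_range fun k => ((if m.testBit k then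
      wt (enc n &&& basisRows.getD k 0) / 2 + wt (enc n &&& colRows.getD k 0) else 0 : ℕ) : ZMod 2)]
  · refine Finset.sum_congr rfl fun k _ => ?_
    rw [coord_word, hl, ev, rowW, colW, icard_word, icard_word]
    cases m.testBit k <;> simp
  · exact List.nodup_range

theorem diag_aux : (List.range 4096).all (fun x => thN x x == wt (enc x) / 4 % 2) = true := by
  decide +kernel

theorem th_diag {x : W} (hx : x ∈ golayCode) : th x x = q4 x := by
  obtain ⟨n, hn, rfl⟩ := exists_enc hx
  have := List.all_eq_true.1 diag_aux n (List.mem_range.2 hn)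
  simp only [beq_iff_eq] at this
  rw [th_enc n hn, q4, support₂_word, card_mset, this, ZMod.natCast_mod]

theorem th_comm {x y : W} (hx : x ∈ golayCode) (hy : y ∈ golayCode) :
    th x y + th y x = q4 (x + y) + q4 x + q4 y := by
  have hd := dot_eq_zero hx hy
  have hxy := th_diag (Submodule.add_mem _ hx hy)
  rw [th_add, th_cocycle hx hy hx, th_cocycle hx hy hy, (tri_diag x y).1, (tri_diag x y).2, hd,
    th_diag hx, th_diag hy] at hxy
  have two : ∀ a : ZMod 2, a + a = 0 := by decide
  linear_combination hxy - two (q4 x) - two (q4 y)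

theorem dual_aux : (List.range 4096).all (fun m =>
    m == 0 || basisRows.any fun b => wt ((m <<< 12) &&& b) % 2 == 1) = true := by
  decide +kernel

/-- the code contains every word orthogonal to it -/
theorem mem_of_dot {w : W} (h : ∀ x ∈ golayCode, dot w x = 0) : w ∈ golayCode := by
  set c : W := ∑ k : Fin 12, coord w k • rowW k with hc
  have hcm : c ∈ golayCode := Submodule.sum_mem golayCode fun k _ => Submodule.smul_mem golayCode _ (rowW_mem k)
  have hlow : ∀ j : Fin 12, coord (w - c) j = 0 := by
    intro j
    simp only [coord, hc, Pi.sub_apply, Finset.sum_apply, Pi.smul_apply, smul_eq_mul]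
    rw [sub_eq_zero, Finset.sum_eq_single j]
    · have := rows_low j j
      rw [if_pos rfl, coord] at this
      rw [this, mul_one]
    · intro b _ hb
      have := rows_low b j
      rw [if_neg (Ne.symm hb), coord] at this
      rw [this, mul_zero]
    · simp
  suffices hz : w - c = 0 by rw [sub_eq_zero.1 hz]; exact hcm
  set M := wmask (w - c) with hM
  have hshift : M = (M >>> 12) <<< 12 := by
    refine Nat.eq_of_testBit_eq fun i => ?_
    rw [Nat.testBit_shiftLeft, Nat.testBit_shiftRight]
    by_cases hi : i < 12
    · have := hlow ⟨i, hi⟩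
      rw [← word_wmask (w - c), coord_word, ← hM] at this
      cases hb : M.testBit i
      · simp [Nat.not_le.2 hi]
      · simp [hb] at this
    · simp [show 12 ≤ i by omega, show 12 + (i - 12) = i by omega]
  have hlt : M >>> 12 < 4096 := by
    rw [Nat.shiftRight_eq_div_pow]
    have := wmask_lt (w - c)
    omega
  have hd := List.all_eq_true.1 dual_aux _ (List.mem_range.2 hlt)
  simp only [Bool.or_eq_true, beq_iff_eq, List.any_eq_true] at hd
  rcases hd with h0 | ⟨b, hb, hodd⟩
  · rw [← word_wmask (w - c), ← hM, hshift, h0, Nat.zero_shiftLeft, word_zero]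
  · exfalso
    obtain ⟨k, hk, rfl⟩ := List.mem_iff_getElem.1 hb
    have hr := rowW_mem ⟨k, hk⟩
    have e : dot (w - c) (rowW ⟨k, hk⟩) = 0 := by
      rw [sub_eq_add_neg, dot_add_left, h _ hr, show -c = c by funext p; exact ZMod.neg_eq_self_mod_two _,
        dot_eq_zero hcm hr, add_zero]
    rw [← word_wmask (w - c), ← hM, hshift, rowW, ← icard_cast, icard_word,
      ZMod.natCast_eq_zero_iff_even, Nat.even_iff,
      List.getD_eq_getElem _ 0 (show k < basisRows.length from hk)] at e
    omega

/-- distinct points are told apart by the code -/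
theorem exists_separating {i j : GolayPt} (hij : i ≠ j) : ∃ x ∈ golayCode, x i ≠ x j := by
  by_contra hne
  push Not at hne
  have hw : (Pi.single i 1 + Pi.single j 1 : W) ∈ golayCode := by
    refine mem_of_dot fun x hx => ?_
    rw [dot_add_left]
    simp only [dot, Pi.single_apply, ite_mul, one_mul, zero_mul, Finset.sum_ite_eq', Finset.mem_univ,
      if_true, hne x hx]
    have two : ∀ a : ZMod 2, a + a = 0 := by decide
    exact two _
  have hs : support₂ (Pi.single i 1 + Pi.single j 1 : W) = {i, j} := by
    ext p
    simp only [mem_support₂, Pi.add_apply, Pi.single_apply, Finset.mem_insert, Finset.mem_singleton]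
    by_cases h1 : p = i <;> by_cases h2 : p = j <;> simp_all
  have hsup : ({i, j} : Finset GolayPt) ∈ supports (golayCode : Set W) := ⟨_, hw, hs⟩
  have h2 := Finset.card_pair hij
  have := card_support_cases hsup
  rcases this with h0 | h0 | h0 | h0 | h0
  · exact Finset.insert_ne_empty _ _ h0
  all_goals omega

theorem eq_one_of_act {σ : Equiv.Perm GolayPt} (h : ∀ x ∈ golayCode, act σ x = x) : σ = 1 := by
  refine Equiv.ext fun p => ?_
  by_contra hp
  obtain ⟨x, hx, hne⟩ := exists_separating hp
  have := congrFun (h x hx) (σ p)
  simp only [act, Equiv.symm_apply_apply] at this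
  exact hne (by simpa using this.symm)


end Cfsg.Agent.ParkerTheta60
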