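import Mathlib
import Cfsg.Prelude.Def_Spor_Mathieu
import Cfsg.Agent.Lib.ParkerTheta60

/-!
The automorphisms of the code loop that lie over `M23`, modulo the sign change at the fixed point:
an extension of `M23` by a quotient of the cocode of order `2 ^ 11`.
-/

set_option autoImplicit false

namespace Cfsg.Agent.ParkerM23Ext60

open Cfsg Cfsg.Agent.GolayBasic Cfsg.Agent.GolayPerm Cfsg.Agent.ParkerTheta60
open Cfsg.Agent.GolayModule (act act_mem act_add act_mul)

attribute [local irreducible] dot tri th q4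

theorem two (a : ZMod 2) : a + a = 0 := by revert a; decide

/-- carrier of the loop -/
abbrev P : Type := ZMod 2 × ↥golayCode

/-- cocycle on code words -/
def t (x y : ↥golayCode) : ZMod 2 := th x.1 y.1

theorem t_zero_left (x : ↥golayCode) : t 0 x = 0 := th_zero_left _

theorem t_zero_right (x : ↥golayCode) : t x 0 = 0 := th_zero_right _

/-- loop product -/
def mul (u v : P) : P := (u.1 + v.1 + t u.2 v.2, u.2 + v.2)

theorem m23_mem24 (s : ↥Spor.M23) : (s : Equiv.Perm GolayPt) ∈ M24 := s.2.1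

theorem m23_none (s : ↥Spor.M23) : (s : Equiv.Perm GolayPt) none = none := s.2.2

/-- action on code words -/
def cact (s : ↥Spor.M23) (x : ↥golayCode) : ↥golayCode :=
  ⟨act s.1 x.1, act_mem (m23_mem24 s) x.2⟩

theorem cact_mul (s r : ↥Spor.M23) (x : ↥golayCode) : cact (s * r) x = cact s (cact r x) :=
  Subtype.ext (act_mul _ _ _)

theorem cact_one (x : ↥golayCode) : cact 1 x = x := Subtype.ext rfl

theorem cact_add (s : ↥Spor.M23) (x y : ↥golayCode) : cact s (x + y) = cact s x + cact s y :=
  Subtype.ext (act_add _ _ _)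

theorem cact_zero (s : ↥Spor.M23) : cact s 0 = 0 := Subtype.ext rfl

theorem cact_inv (s : ↥Spor.M23) (x : ↥golayCode) : cact s (cact s⁻¹ x) = x := by
  rw [← cact_mul, mul_inv_cancel, cact_one]

theorem cact_inj {s r : ↥Spor.M23} (h : ∀ x, cact s x = cact r x) : s = r := by
  have h1 : ((r⁻¹ * s : ↥Spor.M23) : Equiv.Perm GolayPt) = 1 := by
    refine eq_one_of_act fun x hx => ?_
    have := congrArg Subtype.val (show cact (r⁻¹ * s) ⟨x, hx⟩ = ⟨x, hx⟩ by
      rw [cact_mul, h, ← cact_mul, inv_mul_cancel, cact_one])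
    exact this
  exact (inv_mul_eq_one.1 (Subtype.ext h1)).symm

/-- the group of loop automorphisms over `M23` -/
def E0 : Subgroup (Equiv.Perm P) where
  carrier := {g | (∀ u v, g (mul u v) = mul (g u) (g v)) ∧ ∃ s : ↥Spor.M23, ∀ u, (g u).2 = cact s u.2}
  one_mem' := ⟨fun _ _ => rfl, 1, fun u => (cact_one u.2).symm⟩
  mul_mem' := by
    rintro g h ⟨hg, s, hs⟩ ⟨hh, r, hr⟩
    refine ⟨fun u v => ?_, s * r, fun u => ?_⟩
    · simp [Equiv.Perm.mul_apply, hg, hh]
    · rw [Equiv.Perm.mul_apply, hs, hr, cact_mul]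
  inv_mem' := by
    rintro g ⟨hg, s, hs⟩
    refine ⟨fun u v => ?_, s⁻¹, fun u => ?_⟩
    · apply g.injective
      rw [hg]
      simp
    · have := hs (g⁻¹ u)
      simp only [Equiv.Perm.inv_def, Equiv.apply_symm_apply] at this
      rw [Equiv.Perm.inv_def, this, ← cact_mul, inv_mul_cancel, cact_one]

/-- the underlying element of `M23` -/
noncomputable def pi0 (g : ↥E0) : ↥Spor.M23 := g.2.2.choose

theorem pi0_spec (g : ↥E0) (u : P) : ((g : Equiv.Perm P) u).2 = cact (pi0 g) u.2 := g.2.2.choose_spec u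

theorem pi0_eq {g : ↥E0} {s : ↥Spor.M23} (h : ∀ u, ((g : Equiv.Perm P) u).2 = cact s u.2) : pi0 g = s :=
  cact_inj fun x => (pi0_spec g (0, x)).symm.trans (h (0, x))

/-- the map to `M23` -/
noncomputable def pi : ↥E0 →* ↥Spor.M23 where
  toFun := pi0
  map_one' := pi0_eq fun u => (cact_one u.2).symm
  map_mul' g h := pi0_eq fun u => by
    rw [cact_mul, ← pi0_spec h, ← pi0_spec g]; rfl

theorem pi_spec (g : ↥E0) (u : P) : ((g : Equiv.Perm P) u).2 = cact (pi g) u.2 := pi0_spec g u

/-- the first component at `(0, x)` -/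
def fv (g : ↥E0) (x : ↥golayCode) : ZMod 2 := ((g : Equiv.Perm P) (0, x)).1

theorem apply_zero (g : ↥E0) : (g : Equiv.Perm P) (0, 0) = (0, 0) := by
  have h2 : ((g : Equiv.Perm P) (0, 0)).2 = 0 := (pi_spec g _).trans (cact_zero _)
  have h := g.2.1 (0, 0) (0, 0)
  rw [show mul ((0, 0) : P) (0, 0) = (0, 0) by simp [mul, t_zero_left]] at h
  have h1 := congrArg Prod.fst h
  simp only [mul, h2, t_zero_left, two, add_zero] at h1
  exact Prod.ext h1 h2

theorem apply_sign (g : ↥E0) (a : ZMod 2) : (g : Equiv.Perm P) (a, 0) = (a, 0) := by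
  rcases eq_zero_or_one a with rfl | rfl
  · exact apply_zero g
  · have h2 : ((g : Equiv.Perm P) (1, 0)).2 = 0 := (pi_spec g _).trans (cact_zero _)
    refine Prod.ext ?_ h2
    rcases eq_zero_or_one ((g : Equiv.Perm P) (1, 0)).1 with h | h
    · have : (g : Equiv.Perm P) (1, 0) = (g : Equiv.Perm P) (0, 0) := by
        rw [apply_zero]; exact Prod.ext h h2
      exact absurd (congrArg Prod.fst ((g : Equiv.Perm P).injective this)) one_ne_zero
    · exact h

theorem apply_eq (g : ↥E0) (a : ZMod 2) (x : ↥golayCode) :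
    (g : Equiv.Perm P) (a, x) = (a + fv g x, cact (pi g) x) := by
  have h := g.2.1 (a, 0) (0, x)
  rw [show mul ((a, 0) : P) (0, x) = (a, x) by simp [mul, t_zero_left], apply_sign] at h
  rw [h]
  refine Prod.ext ?_ ?_
  · simp only [mul, t_zero_left, add_zero]; rfl
  · simp only [mul, zero_add]; exact pi_spec g _

theorem apply_eq' (g : ↥E0) (u : P) : (g : Equiv.Perm P) u = (u.1 + fv g u.2, cact (pi g) u.2) :=
  apply_eq g u.1 u.2

theorem fv_add (g : ↥E0) (x y : ↥golayCode) :
    fv g (x + y) = fv g x + fv g y + (t (cact (pi g) x) (cact (pi g) y) + t x y) := by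
  have h := congrArg Prod.fst (g.2.1 (0, x) (0, y))
  simp only [mul, apply_eq, zero_add] at h
  linear_combination h + (-1 : ZMod 2) * two (t x y)

theorem fv_zero (g : ↥E0) : fv g 0 = 0 := congrArg Prod.fst (apply_zero g)

/-- the automorphism given by a functional -/
def gwPerm (w : W) : Equiv.Perm P where
  toFun u := (u.1 + dot w u.2.1, u.2)
  invFun u := (u.1 + dot w u.2.1, u.2)
  left_inv u := Prod.ext (by simp only [add_assoc, two, add_zero]) rfl
  right_inv u := Prod.ext (by simp only [add_assoc, two, add_zero]) rfl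

theorem gwPerm_apply (w : W) (u : P) : gwPerm w u = (u.1 + dot w u.2.1, u.2) := rfl

theorem gwPerm_mem (w : W) : gwPerm w ∈ E0 := by
  refine ⟨fun u v => ?_, 1, fun u => (cact_one u.2).symm⟩
  refine Prod.ext ?_ rfl
  simp only [gwPerm_apply, mul, Submodule.coe_add, dot_add_right]
  ring

/-- functionals as elements of `E0` -/
def gw (w : W) : ↥E0 := ⟨gwPerm w, gwPerm_mem w⟩

theorem gw_apply (w : W) (u : P) : ((gw w : ↥E0) : Equiv.Perm P) u = (u.1 + dot w u.2.1, u.2) := rfl

theorem gw_add (v w : W) : gw (v + w) = gw v * gw w := by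
  refine Subtype.ext (Equiv.ext fun u => ?_)
  rw [Subgroup.coe_mul, Equiv.Perm.mul_apply, gw_apply, gw_apply, gw_apply]
  exact Prod.ext (by simp only [dot_add_left]; ring) rfl

theorem pi_gw (w : W) : pi (gw w) = 1 := pi0_eq fun u => (cact_one u.2).symm

theorem dot_zero_left (x : W) : dot 0 x = 0 := by simp [ParkerTheta60.dot]

theorem gw_zero : gw 0 = 1 := by
  refine Subtype.ext (Equiv.ext fun u => ?_)
  rw [gw_apply, dot_zero_left, add_zero]; rfl

theorem gw_eq_one_iff {w : W} : gw w = 1 ↔ w ∈ golayCode := by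
  constructor
  · refine fun h => mem_of_dot fun x hx => ?_
    have h1 := congrArg (fun g : ↥E0 => ((g : Equiv.Perm P) (0, ⟨x, hx⟩)).1) h
    simpa [gw_apply] using h1
  · intro h
    refine Subtype.ext (Equiv.ext fun u => ?_)
    rw [gw_apply, ParkerTheta60.dot_eq_zero h u.2.2, add_zero]; rfl

theorem conj_gw (g : ↥E0) (w : W) : g * gw w * g⁻¹ = gw (act (pi g).1 w) := by
  rw [mul_inv_eq_iff_eq_mul]
  refine Subtype.ext (Equiv.ext fun u => ?_)
  simp only [Subgroup.coe_mul, Equiv.Perm.mul_apply, gw_apply]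
  rw [apply_eq' g, apply_eq' g]
  refine Prod.ext ?_ rfl
  have : dot (act (pi g).1 w) (cact (pi g) u.2).1 = dot w u.2.1 := dot_act _ _ _
  simp only [this]
  ring

/-- the word at the fixed point -/
def delta : W := Pi.single none 1

theorem act_delta (s : ↥Spor.M23) : act s.1 delta = delta := by
  funext p
  simp only [act, delta, Pi.single_apply]
  have h := m23_none s
  by_cases hp : p = none
  · subst hp; rw [if_pos ((Equiv.symm_apply_eq _).2 h.symm)]; simp
  · rw [if_neg hp, if_neg]
    intro hh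
    exact hp (by rw [(Equiv.symm_apply_eq _).1 hh, h])

/-- the central subgroup to be divided out -/
def Z : Subgroup ↥E0 := Subgroup.zpowers (gw delta)

theorem mem_Z {g : ↥E0} : g ∈ Z ↔ g = 1 ∨ g = gw delta := by
  constructor
  · rintro ⟨k, rfl⟩
    have h2 : gw delta * gw delta = 1 := by
      rw [← gw_add, show delta + delta = (0 : W) from funext fun p => two _, gw_zero]
    have hsq : (gw delta) ^ (2 : ℤ) = 1 := by rw [zpow_two]; exact h2
    rcases Int.even_or_odd k with ⟨j, rfl⟩ | ⟨j, rfl⟩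
    · left; show gw delta ^ (j + j) = 1
      rw [← two_mul, zpow_mul, hsq, one_zpow]
    · right; show gw delta ^ (2 * j + 1) = gw delta
      rw [zpow_add_one, zpow_mul, hsq, one_zpow, one_mul]
  · rintro (rfl | rfl)
    · exact one_mem _
    · exact Subgroup.mem_zpowers _

instance : Z.Normal := ⟨fun z hz g => by
  rcases mem_Z.1 hz with rfl | rfl
  · simpa using one_mem Z
  · rw [conj_gw, act_delta]; exact Subgroup.mem_zpowers _⟩

theorem fst_of_mem_Z {g : ↥E0} (hg : g ∈ Z) {x : ↥golayCode} (hx : x.1 none = 0) :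
    ((g : Equiv.Perm P) (0, x)).1 = 0 := by
  rcases mem_Z.1 hg with rfl | rfl
  · rfl
  · simp [gw_apply, dot, delta, Pi.single_apply, hx]

/-- loop automorphisms exist over every element of `M23` -/
theorem exists_fun (s : ↥Spor.M23) : ∃ q : ↥golayCode → ZMod 2,
    ∀ x y, q (x + y) = q x + q y + (t (cact s x) (cact s y) + t x y) := by
  let D : ↥golayCode → ↥golayCode → ZMod 2 := fun x y => t (cact s x) (cact s y) + t x y
  have Dsymm : ∀ x y, D x y = D y x := by
    intro x y
    have h1 := th_comm x.2 y.2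
    have h2 := th_comm (act_mem (m23_mem24 s) x.2) (act_mem (m23_mem24 s) y.2)
    rw [← act_add, q4_act, q4_act, q4_act] at h2
    simp only [D, t]
    have e : ∀ a b c d e : ZMod 2, a + b = e → c + d = e → c + a = d + b := by decide
    exact e _ _ _ _ _ h1 h2
  have Dadd : ∀ x y z, D (x + y) z = D x z + D y z := by
    intro x y z
    have h1 := th_cocycle x.2 y.2 z.2
    have h2 := th_cocycle (act_mem (m23_mem24 s) x.2) (act_mem (m23_mem24 s) y.2) (act_mem (m23_mem24 s) z.2)
    rw [tri_act] at h2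
    simp only [D, t, cact_add, Submodule.coe_add]
    change th ((act s.1 x.1) + act s.1 y.1) (act s.1 z.1) + th ((x : W) + y) z = _
    rw [h1, h2]
    change _ = th (act s.1 x.1) (act s.1 z.1) + th (x : W) z + (th (act s.1 y.1) (act s.1 z.1) + th (y : W) z)
    linear_combination two (tri (x : W) y z)
  have Ddiag : ∀ x, D x x = 0 := by
    intro x
    simp only [D, t]
    change th (act s.1 x.1) (act s.1 x.1) + th (x : W) x = 0
    rw [th_diag x.2, th_diag (act_mem (m23_mem24 s) x.2), q4_act, two]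
  -- an alternating bilinear form is the coboundary of a function
  classical
  let b := Module.finBasis (ZMod 2) ↥golayCode
  have key : ∀ S : Finset (Fin (Module.finrank (ZMod 2) ↥golayCode)), ∃ q : ↥golayCode → ZMod 2, ∀ x y,
      q (x + y) = q x + q y + ∑ i ∈ S, ∑ j ∈ S, b.repr x i * b.repr y j * D (b i) (b j) := by
    intro S
    induction S using Finset.induction_on with
    | empty => exact ⟨0, by simp⟩
    | @insert a S ha ih =>
      obtain ⟨q, hq⟩ := ih
      refine ⟨fun x => q x + ∑ j ∈ S, b.repr x a * b.repr x j * D (b a) (b j), fun x y => ?_⟩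
      simp only [Finset.sum_insert ha, Ddiag, mul_zero, zero_add, hq, map_add, Finsupp.add_apply]
      simp only [Finset.sum_add_distrib, add_mul, mul_add, Dsymm _ (b a)]
      simp only [mul_comm (b.repr x _) (b.repr y a)]
      ring
  obtain ⟨q, hq⟩ := key Finset.univ
  refine ⟨q, fun x y => (hq x y).trans ?_⟩
  congr 1
  change _ = D x y
  have Dzero : ∀ z, D 0 z = 0 := by simp [D, cact_zero, t_zero_left]
  have hsum : ∀ (f : Fin (Module.finrank (ZMod 2) ↥golayCode) → ↥golayCode) (z : ↥golayCode)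
      (S : Finset (Fin (Module.finrank (ZMod 2) ↥golayCode))), D (∑ i ∈ S, f i) z = ∑ i ∈ S, D (f i) z := by
    intro f z S
    induction S using Finset.induction_on with
    | empty => simp [Dzero]
    | @insert a S ha ih => simp [Finset.sum_insert ha, Dadd, ih]
  have hsmul : ∀ (c : ZMod 2) x z, D (c • x) z = c * D x z := by
    intro c x z
    rcases eq_zero_or_one c with rfl | rfl <;> simp [Dzero]
  conv_rhs => rw [← b.sum_repr x, hsum]
  refine Finset.sum_congr rfl fun i _ => ?_
  rw [hsmul, Dsymm]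
  conv_rhs => rw [← b.sum_repr y, hsum, Finset.mul_sum]
  refine Finset.sum_congr rfl fun j _ => ?_
  rw [hsmul, Dsymm (b j)]
  ring

theorem pi_surjective : Function.Surjective pi := by
  intro s
  obtain ⟨q, hq⟩ := exists_fun s
  let g : Equiv.Perm P :=
    { toFun := fun u => (u.1 + q u.2, cact s u.2)
      invFun := fun u => (u.1 + q (cact s⁻¹ u.2), cact s⁻¹ u.2)
      left_inv := fun u => by
        have : cact s⁻¹ (cact s u.2) = u.2 := by rw [← cact_mul, inv_mul_cancel, cact_one]
        simp [this, add_assoc, two]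
      right_inv := fun u => by simp [cact_inv, add_assoc, two] }
  have hg : g ∈ E0 := by
    refine ⟨fun u v => Prod.ext ?_ (cact_add _ _ _), s, fun u => rfl⟩
    change u.1 + v.1 + t u.2 v.2 + q (u.2 + v.2) = u.1 + q u.2 + (v.1 + q v.2) + t (cact s u.2) (cact s v.2)
    rw [hq]
    linear_combination two (t u.2 v.2)
  exact ⟨⟨g, hg⟩, pi0_eq fun u => rfl⟩

theorem exists_gw_of_pi_eq_one {g : ↥E0} (h : pi g = 1) : ∃ w : W, g = gw w := by
  have hadd : ∀ x y, fv g (x + y) = fv g x + fv g y := by
    intro x y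
    have := fv_add g x y
    rwa [h, cact_one, cact_one, two, add_zero] at this
  let f : ↥golayCode →+ ZMod 2 := AddMonoidHom.mk' (fv g) hadd
  let w : W := ∑ k : Fin 12, Pi.single (pt k) (f ⟨rowW k, rowW_mem k⟩)
  refine ⟨w, Subtype.ext (Equiv.ext fun u => ?_)⟩
  rw [apply_eq', gw_apply, h, cact_one]
  refine Prod.ext ?_ rfl
  change u.1 + fv g u.2 = u.1 + dot w u.2.1
  refine congrArg (u.1 + ·) ?_
  have hu : u.2 = ∑ k : Fin 12, coord u.2.1 k • (⟨rowW k, rowW_mem k⟩ : ↥golayCode) := by
    apply Subtype.ext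
    simpa [Submodule.coe_sum] using eq_combination u.2.2
  have hsm : ∀ (c : ZMod 2) (z : ↥golayCode), f (c • z) = c * f z := by
    intro c z
    rcases eq_zero_or_one c with rfl | rfl <;> simp
  change f u.2 = _
  conv_lhs => rw [hu, map_sum]
  simp only [dot, w, Finset.sum_apply, Finset.sum_mul]
  rw [Finset.sum_comm]
  refine Finset.sum_congr rfl fun k _ => ?_
  rw [hsm]
  simp [Pi.single_apply, coord, mul_comm]

end Cfsg.Agent.ParkerM23Ext60
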