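import Mathlib
import Cfsg.Prelude.Def_Spor_Mathieu
import Cfsg.Agent.Lib.ParkerTheta60
import Cfsg.Agent.Lib.ParkerM23Ext60

/-!
No subgroup complements the sign changes: three relations of two elements of `M23` whose lifts
cannot all hold.
-/

set_option autoImplicit false

namespace Cfsg.Agent.ParkerM23Nonsplit60

open Cfsg Cfsg.Agent.GolayBasic Cfsg.Agent.GolayPerm Cfsg.Agent.ParkerTheta60 Cfsg.Agent.ParkerM23Ext60
open Cfsg.Agent.GolayModule (act act_word)

attribute [local irreducible] dot tri th q4

/-- the two encoded permutations: `false` is the translation -/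
def code : Bool → ℕ
  | false => 956302485175575353788796878166559809
  | true => 964895826507680352824062331884603968

theorem code_ok : ∀ i : Bool, good (code i) = true ∧ pimg (code i) 23 = 23 := by decide +kernel

/-- the two elements of `M23` -/
noncomputable def m (i : Bool) : ↥Spor.M23 :=
  ⟨permOf (code i), permOf_mem_M24 (code_ok i).1, by
    change permOf (code i) none = none
    rw [permOf_apply (valid_of_good (code_ok i).1), pfun,
      show idx (none : GolayPt) = 23 from rfl, (code_ok i).2]
    rfl⟩

/-- image of a number below `4096` -/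
def next (i : Bool) (n : ℕ) : ℕ := pmask (code i) (enc n) &&& 4095

theorem next_lt (i : Bool) (n : ℕ) : next i n < 4096 := and_lt_4096 _

/-- the code word with given number -/
def cw (n : ℕ) (hn : n < 4096) : ↥golayCode := ⟨word (enc n), word_enc_mem hn⟩

theorem cw_congr {a b : ℕ} (h : a = b) (ha : a < 4096) (hb : b < 4096) : cw a ha = cw b hb := by
  subst h; rfl

theorem cw_zero : cw 0 (by norm_num) = 0 := Subtype.ext (by simp [cw, enc_zero, word_zero])

theorem cw_add {a b : ℕ} (ha : a < 4096) (hb : b < 4096) :
    cw a ha + cw b hb = cw (a ^^^ b) (Nat.xor_lt_two_pow (n := 12) ha hb) :=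
  Subtype.ext (by simp [cw, enc_xor, word_xor])

theorem cact_cw (i : Bool) {n : ℕ} (hn : n < 4096) : cact (m i) (cw n hn) = cw (next i n) (next_lt i n) := by
  refine Subtype.ext ?_
  change act (permOf (code i)) (word (enc n)) = word (enc (next i n))
  have hv := valid_of_good (code_ok i).1
  rw [act_word hv]
  have hin : word (pmask (code i) (enc n)) ∈ golayCode := by
    rw [← act_word hv]
    exact GolayModule.act_mem (permOf_mem_M24 (code_ok i).1) (word_enc_mem hn)
  rw [word_mem_iff (GolayModule.pmask_lt hv), inCode, beq_iff_eq] at hin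
  rw [next, hin]

/-- the word and starting point of each relation -/
def rels : List (List Bool × ℕ) :=
  [((List.replicate 7 [false, false, false, true]).flatten, 2112),
   ((List.replicate 5 [false, false, false, false, true]).flatten, 3072),
   ((List.replicate 5 [false, true, false, false, false, true]).flatten, 3328)]

/-- running the word from the right: final point and the visited points of each letter -/
def run : List Bool → ℕ → ℕ × List ℕ × List ℕ
  | [], n => (n, [], [])
  | i :: l, n =>
    let r := run l n
    (next i r.1, if i then (r.2.1, r.1 :: r.2.2) else (r.1 :: r.2.1, r.2.2))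

/-- all visited points of a letter -/
def visits (i : Bool) : List ℕ :=
  (rels.map fun r => if i then (run r.1 r.2).2.2 else (run r.1 r.2).2.1).flatten

/-- the defect accumulated along a list -/
def defect (i : Bool) : List ℕ → ℕ → ℕ
  | [], _ => 0
  | x :: l, s => thN (next i s) (next i x) + thN s x + defect i l (s ^^^ x)

theorem run_lt : ∀ (l : List Bool) {n : ℕ}, n < 4096 →
    (run l n).1 < 4096 ∧ (∀ x ∈ (run l n).2.1, x < 4096) ∧ ∀ x ∈ (run l n).2.2, x < 4096
  | [], n, hn => ⟨hn, by simp [run], by simp [run]⟩
  | i :: l, n, hn => by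
    obtain ⟨h1, h2, h3⟩ := run_lt l hn
    refine ⟨next_lt _ _, ?_, ?_⟩ <;> cases i <;> simp [run, h1, h2, h3] <;> assumption

/-- exclusive or of a list -/
def xsum : List ℕ → ℕ → ℕ
  | [], s => s
  | x :: l, s => xsum l (s ^^^ x)

variable (g : Bool → ↥E0)

/-- first component at a number -/
def fn (i : Bool) (n : ℕ) : ZMod 2 := if h : n < 4096 then fv (g i) (cw n h) else 0

theorem sum_fn (hg : ∀ i, pi (g i) = m i) (i : Bool) : ∀ (l : List ℕ) (s : ℕ), s < 4096 → (∀ x ∈ l, x < 4096) →
    fn g i s + (l.map (fn g i)).sum = fn g i (xsum l s) + (defect i l s : ZMod 2)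
  | [], s, _, _ => by simp [xsum, defect]
  | x :: l, s, hs, hl => by
    have hx : x < 4096 := hl x List.mem_cons_self
    have hsx : s ^^^ x < 4096 := Nat.xor_lt_two_pow (n := 12) hs hx
    have key : fn g i (s ^^^ x) = fn g i s + fn g i x + ((thN (next i s) (next i x) + thN s x : ℕ) : ZMod 2) := by
      simp only [fn, dif_pos hs, dif_pos hx, dif_pos hsx, ← cw_add hs hx]
      rw [fv_add, hg, cact_cw, cact_cw, Nat.cast_add, ← th_enc _ (next_lt i x), ← th_enc _ hx]
      rfl
    have ih := sum_fn hg i l (s ^^^ x) hsx fun y hy => hl y (List.mem_cons_of_mem _ hy)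
    simp only [List.map_cons, List.sum_cons, xsum, defect, Nat.cast_add]
    rw [key] at ih
    simp only [Nat.cast_add] at ih
    linear_combination ih - ParkerM23Ext60.two ((thN (next i s) (next i x) : ℕ) : ZMod 2)
      - ParkerM23Ext60.two ((thN s x : ℕ) : ZMod 2)

theorem apply_run (hg : ∀ i, pi (g i) = m i) : ∀ (l : List Bool) (n : ℕ) (hn : n < 4096),
    (((l.map g).prod : ↥E0) : Equiv.Perm P) (0, cw n hn) =
      (((run l n).2.1.map (fn g false)).sum + ((run l n).2.2.map (fn g true)).sum,
        cw (run l n).1 (run_lt l hn).1)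
  | [], n, hn => by simp [run]
  | i :: l, n, hn => by
    have h1 := (run_lt l hn).1
    rw [List.map_cons, List.prod_cons, Subgroup.coe_mul, Equiv.Perm.mul_apply, apply_run hg l n hn,
      apply_eq, hg, cact_cw]
    refine Prod.ext ?_ rfl
    cases i <;> simp only [run, if_true, Bool.false_eq_true, if_false, List.map_cons, List.sum_cons,
      fn, dif_pos h1] <;> ring

/-- the word evaluates to the identity permutation -/
def relOk (l : List Bool) : Bool :=
  pts.all fun p => l.foldr (fun i q => pimg (code i) q) p == p

theorem pimg_fold {l : List Bool} : ∀ {p : ℕ}, p < 24 →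
    l.foldr (fun i q => pimg (code i) q) p < 24 ∧
      (((l.map m).prod : ↥Spor.M23) : Equiv.Perm GolayPt) (pt p) =
        pt (l.foldr (fun i q => pimg (code i) q) p) := by
  induction l with
  | nil => intro p hp; exact ⟨hp, rfl⟩
  | cons i l ih =>
    intro p hp
    obtain ⟨h1, h2⟩ := ih hp
    have hv := valid_of_good (code_ok i).1
    refine ⟨pimg_lt hv h1, ?_⟩
    rw [List.map_cons, List.prod_cons, Subgroup.coe_mul, Equiv.Perm.mul_apply, h2]
    change permOf (code i) _ = _
    rw [permOf_apply hv, pfun, idx_pt h1]
    rfl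

theorem prod_eq_one {l : List Bool} (h : relOk l = true) : (l.map m).prod = 1 := by
  refine Subtype.ext (Equiv.ext fun q => ?_)
  have h2 := (pimg_fold (l := l) (idx_lt q)).2
  have h3 := List.all_eq_true.1 h _ (mem_pts.2 (idx_lt q))
  simp only [beq_iff_eq] at h3
  rw [h3, pt_idx] at h2
  exact h2

theorem rels_ok : rels.all (fun r => relOk r.1 && decide (r.2 < 4096) && !(enc r.2).testBit 23) = true := by
  decide +kernel

theorem cert : xsum (visits false) 0 = 0 ∧ xsum (visits true) 0 = 0 ∧
    (defect false (visits false) 0 + defect true (visits true) 0) % 2 = 1 := by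
  decide +kernel

/-- the lifts of the two elements cannot satisfy the three relations modulo `Z` -/
theorem no_lifts (hg : ∀ i, pi (g i) = m i)
    (hrel : ∀ r ∈ rels, ((r.1.map g).prod : ↥E0) ∈ Z) : False := by
  have hzero : ∀ r ∈ rels, ((run r.1 r.2).2.1.map (fn g false)).sum +
      ((run r.1 r.2).2.2.map (fn g true)).sum = 0 := by
    intro r hr
    have h := List.all_eq_true.1 rels_ok r hr
    simp only [Bool.and_eq_true, decide_eq_true_eq, Bool.not_eq_true'] at h
    have hnone : (cw r.2 h.1.2).1 none = 0 := by
      simp [cw, word_apply, show idx (none : GolayPt) = 23 from rfl, h.2]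
    have := fst_of_mem_Z (hrel r hr) hnone
    rwa [apply_run g hg r.1 r.2 h.1.2] at this
  have hlt : ∀ i, ∀ x ∈ visits i, x < 4096 := by
    intro i x hx
    simp only [visits, List.mem_flatten, List.mem_map] at hx
    obtain ⟨_, ⟨r, hr, rfl⟩, hx⟩ := hx
    have h := List.all_eq_true.1 rels_ok r hr
    simp only [Bool.and_eq_true, decide_eq_true_eq] at h
    cases i
    · exact (run_lt r.1 h.1.2).2.1 x hx
    · exact (run_lt r.1 h.1.2).2.2 x hx
  have ha := sum_fn g hg false (visits false) 0 (by norm_num) (hlt false)
  have hb := sum_fn g hg true (visits true) 0 (by norm_num) (hlt true)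
  have h0 : ∀ i, fn g i 0 = 0 := fun i => by rw [fn, dif_pos (by norm_num), cw_zero, fv_zero]
  rw [cert.1, h0, zero_add, zero_add] at ha
  rw [cert.2.1, h0, zero_add, zero_add] at hb
  have htot : ((visits false).map (fn g false)).sum + ((visits true).map (fn g true)).sum = 0 := by
    simp only [visits, if_true, Bool.false_eq_true, if_false, List.map_flatten, List.map_map, List.sum_flatten]
    rw [← List.sum_map_add]
    refine List.sum_eq_zero fun z hz => ?_
    obtain ⟨r, hr, rfl⟩ := List.mem_map.1 hz
    exact hzero r hr
  rw [ha, hb, ← Nat.cast_add, ← ZMod.natCast_mod, cert.2.2] at htot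
  exact (one_ne_zero : (1 : ZMod 2) ≠ 0) (by simpa using htot)

end Cfsg.Agent.ParkerM23Nonsplit60
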