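import Mathlib
import Cfsg.Agent.Lib.FrobeniusKegel
import Cfsg.Agent.Lib.FrobeniusBasic
import Cfsg.Agent.Lib.PGroupsBasic

/-!
# Groups with a partition: the normal refinement, and the elementary lemmas

A partition is refined to one invariant under conjugation; two commuting non-identity elements of different
members have the same prime order.
-/

set_option autoImplicit false

open scoped Pointwise

namespace Cfsg.Agent.Part11

universe u

/-- A conjugation invariant non-trivial partition: `cmp g` is the member containing `g`. -/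
structure NPart (G : Type u) [Group G] where
  cmp : G → Subgroup G
  mem : ∀ g, g ∈ cmp g
  ne_top : ∀ g, g ≠ 1 → cmp g ≠ ⊤
  eq_of_mem : ∀ g h, g ≠ 1 → h ≠ 1 → h ∈ cmp g → cmp h = cmp g
  conj_mem : ∀ a g h, g ≠ 1 → h ∈ cmp g → a * h * a⁻¹ ∈ cmp (a * g * a⁻¹)

variable {G : Type u} [Group G]

/-- The normal refinement of a partition. -/
theorem exists_npart (S : Set (Subgroup G)) (hS2 : ∃ H ∈ S, ∃ K ∈ S, H ≠ K)
    (hS1 : ∀ H ∈ S, H ≠ ⊥) (hpart : ∀ g : G, g ≠ 1 → ∃! H : Subgroup G, H ∈ S ∧ g ∈ H) :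
    Nonempty (NPart G) := by
  classical
  let comp : G → Subgroup G := fun g => if h : g ≠ 1 then (hpart g h).choose else ⊤
  have hc : ∀ g, g ≠ 1 → comp g ∈ S ∧ g ∈ comp g ∧ ∀ H ∈ S, g ∈ H → H = comp g := by
    intro g h
    simp only [comp, dif_pos h]
    exact ⟨(hpart g h).choose_spec.1.1, (hpart g h).choose_spec.1.2,
      fun H h1 h2 => (hpart g h).choose_spec.2 H ⟨h1, h2⟩⟩
  have hm : ∀ g, g ∈ comp g := by
    intro g
    by_cases h : g ≠ 1
    · exact (hc g h).2.1
    · simp [comp, not_not.1 h]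
  refine ⟨⟨fun g => ⨅ a : G, (comp (a * g * a⁻¹)).comap (MulAut.conj a).toMonoidHom, ?_, ?_, ?_, ?_⟩⟩
  · intro g
    rw [Subgroup.mem_iInf]
    intro a
    simpa using hm (a * g * a⁻¹)
  · intro g hg htop
    obtain ⟨H, hH, K, hK, hne⟩ := hS2
    have htop' : comp g = ⊤ := by
      rw [Subgroup.eq_top_iff']
      intro y
      have hy : y ∈ (⨅ a : G, (comp (a * g * a⁻¹)).comap (MulAut.conj a).toMonoidHom) :=
        htop ▸ Subgroup.mem_top y
      rw [Subgroup.mem_iInf] at hy
      simpa using hy 1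
    have key : ∀ L ∈ S, L = comp g := by
      intro L hL
      obtain ⟨x, hx, hx1⟩ := L.bot_or_exists_ne_one.resolve_left (hS1 L hL)
      rw [(hc x hx1).2.2 L hL hx, (hc x hx1).2.2 (comp g) (hc g hg).1 (htop' ▸ Subgroup.mem_top x)]
    exact hne ((key H hH).trans (key K hK).symm)
  · intro g h hg hh hmem
    rw [Subgroup.mem_iInf] at hmem
    refine iInf_congr fun a => ?_
    have e := (hc (a * h * a⁻¹) (by simpa using hh)).2.2 _ (hc (a * g * a⁻¹) (by simpa using hg)).1
      (by simpa using hmem a)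
    rw [e]
  · intro a g h hg hmem
    rw [Subgroup.mem_iInf] at hmem ⊢
    intro b
    have := hmem (b * a)
    simpa [mul_assoc] using this

namespace NPart

variable (P : NPart G)

theorem mem_comm {g h : G} (hg : g ≠ 1) (hh : h ≠ 1) (hm : h ∈ P.cmp g) : g ∈ P.cmp h := by
  rw [P.eq_of_mem g h hg hh hm]; exact P.mem g

theorem eq_of_common {g h x : G} (hg : g ≠ 1) (hh : h ≠ 1) (hx : x ≠ 1) (h1 : x ∈ P.cmp g)
    (h2 : x ∈ P.cmp h) : P.cmp g = P.cmp h := by
  rw [← P.eq_of_mem g x hg hx h1, P.eq_of_mem h x hh hx h2]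

theorem cmp_pow {g : G} {k : ℕ} (h : g ^ k ≠ 1) : P.cmp (g ^ k) = P.cmp g := by
  refine P.eq_of_mem g _ (fun e => h (by rw [e, one_pow])) h ?_
  exact Subgroup.pow_mem _ (P.mem g) k

theorem conj_mem_iff {a g h : G} (hg : g ≠ 1) :
    a * h * a⁻¹ ∈ P.cmp (a * g * a⁻¹) ↔ h ∈ P.cmp g := by
  refine ⟨fun hm => ?_, P.conj_mem a g h hg⟩
  have := P.conj_mem a⁻¹ _ _ (by simpa using hg) hm
  simpa [mul_assoc] using this

/-- An element moving a member onto a member meeting it normalises it. -/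
theorem mem_normalizer {a x : G} (hx : x ≠ 1) (h : a * x * a⁻¹ ∈ P.cmp x) :
    a ∈ Subgroup.normalizer (P.cmp x : Set G) := by
  rw [Subgroup.mem_normalizer_iff]
  intro y
  have e : P.cmp (a * x * a⁻¹) = P.cmp x := P.eq_of_mem x _ hx (by simpa using hx) h
  show y ∈ P.cmp x ↔ a * y * a⁻¹ ∈ P.cmp x
  conv_rhs => rw [← e]
  exact (P.conj_mem_iff hx).symm

theorem mem_normalizer_of_commute {a x : G} (hx : x ≠ 1) (h : Commute a x) :
    a ∈ Subgroup.normalizer (P.cmp x : Set G) :=
  P.mem_normalizer hx (by rw [h.eq, mul_inv_cancel_right]; exact P.mem x)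

/-- Commuting elements of different members have the same order. -/
theorem pow_orderOf_eq_one {x y : G} (hc : Commute x y) (hx : x ≠ 1) (hy : y ∉ P.cmp x) :
    y ^ orderOf x = 1 := by
  by_contra h
  have hy1 : y ≠ 1 := fun e => hy (e ▸ one_mem _)
  have hg : (x * y) ^ orderOf x = y ^ orderOf x := by rw [hc.mul_pow, _root_.pow_orderOf_eq_one, one_mul]
  have hxy : x * y ≠ 1 := fun e => h (by rw [← hg, e, one_pow])
  have e : P.cmp (x * y) = P.cmp y := by
    rw [← P.cmp_pow (k := orderOf x) (hg ▸ h), hg, P.cmp_pow h]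
  have : x * y ∈ P.cmp y := e ▸ P.mem (x * y)
  exact hy (P.mem_comm hy1 hx (((P.cmp y).mul_mem_cancel_right (P.mem y)).1 this))

theorem orderOf_eq {x y : G} (hc : Commute x y) (hx : x ≠ 1) (hy : y ∉ P.cmp x) :
    orderOf y = orderOf x := by
  have hy1 : y ≠ 1 := fun e => hy (e ▸ one_mem _)
  refine Nat.dvd_antisymm (orderOf_dvd_of_pow_eq_one (P.pow_orderOf_eq_one hc hx hy)) ?_
  exact orderOf_dvd_of_pow_eq_one
    (P.pow_orderOf_eq_one hc.symm hy1 fun h => hy (P.mem_comm hy1 hx h))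

theorem mem_of_orderOf_ne {x y : G} (hc : Commute x y) (hx : x ≠ 1) (h : orderOf y ≠ orderOf x) :
    y ∈ P.cmp x :=
  by_contra fun hy => h (P.orderOf_eq hc hx hy)

theorem prime_orderOf [Finite G] {x y : G} (hc : Commute x y) (hx : x ≠ 1) (hy : y ∉ P.cmp x) :
    (orderOf x).Prime := by
  have hy1 : y ≠ 1 := fun e => hy (e ▸ one_mem _)
  set n := orderOf x with hn
  have hn1 : n ≠ 1 := fun e => hx (orderOf_eq_one_iff.1 e)
  obtain ⟨p, hp, k, hk⟩ := Nat.exists_prime_and_dvd hn1
  have hk0 : k ≠ 0 := fun e => (orderOf_pos x).ne' (by rw [← hn, hk, e, mul_zero])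
  have ho : orderOf (x ^ k) = p := by
    rw [orderOf_pow_of_dvd hk0 (hn ▸ hk ▸ Dvd.intro_left p rfl), ← hn, hk,
      Nat.mul_div_cancel _ (Nat.pos_of_ne_zero hk0)]
  have hxk : x ^ k ≠ 1 := fun e => hp.ne_one (by rw [← ho, e, orderOf_one])
  have := P.orderOf_eq (hc.pow_left k) hxk (by rw [P.cmp_pow hxk]; exact hy)
  rw [P.orderOf_eq hc hx hy, ho] at this
  rw [← hn] at this
  exact this ▸ hp

end NPart

/-- The `r`-th power of `g * v` as a product of conjugates of `v`. -/
theorem prod_conj_eq {g v : G} {n : ℕ} (h1 : (v * g) ^ n = 1) (h2 : g ^ n = 1) :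
    ((List.range n).map fun i => g ^ i * v * (g ^ i)⁻¹).prod = 1 := by
  rw [FrobeniusKegel.pow_mul_eq, h2, mul_one] at h1
  exact h1

/-- The orbit sum of a fixed-point-free subgroup and the cyclic norms kill the group. -/
theorem frob_sum {Q M : Type*} [Group Q] [CommGroup M] (φ : Q →* MulAut M) (R : Subgroup Q) [Finite R]
    (y : Q) {p : ℕ} (hp : p.Prime) (hyp : y ^ p = 1) (hn : ∀ r ∈ R, y * r * y⁻¹ ∈ R)
    (hc : ∀ r ∈ R, Commute r y → r = 1)
    (hy : ∀ r ∈ R, ∀ v : M, ∏ i ∈ Finset.range p, φ ((r * y * r⁻¹) ^ i) v = 1)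
    (hR : ∀ v : M, (∀ r ∈ R, φ r v = v) → v = 1) (v : M) : v ^ Nat.card R = 1 := by
  classical
  haveI := Fintype.ofFinite R
  have hsum : ∀ w : M, ∏ r : R, φ (r : Q) w = 1 := by
    intro w
    refine hR _ fun a ha => ?_
    rw [map_prod]
    refine Fintype.prod_equiv (Equiv.mulLeft (⟨a, ha⟩ : R)) _ _ fun r => ?_
    simp [map_mul]
  have hn' : ∀ i : ℕ, ∀ r ∈ R, y ^ i * r * (y ^ i)⁻¹ ∈ R := by
    intro i
    induction i with
    | zero => intro r hr; simpa using hr
    | succ i ih =>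
      intro r hr
      have := hn _ (ih r hr)
      rw [pow_succ']
      simpa [mul_assoc] using this
  have hfree : ∀ i, 0 < i → i < p → ∀ r ∈ R, Commute r (y ^ i) → r = 1 := by
    intro i h0 hi r hr hcm
    refine hc r hr ?_
    have hco : Nat.Coprime i p := (hp.coprime_iff_not_dvd.2 (Nat.not_dvd_of_pos_of_lt h0 hi)).symm
    obtain ⟨j, hj⟩ := exists_pow_eq_self_of_coprime (x := y) (n := i)
      (hco.coprime_dvd_right (orderOf_dvd_of_pow_eq_one hyp))
    rw [← hj]
    exact hcm.pow_right j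
  have hpart : ∀ i ∈ Finset.range p,
      ∏ r : R, φ ((r * y * (r : Q)⁻¹) ^ i) v = if i = 0 then v ^ Nat.card R else 1 := by
    intro i hi
    rcases Nat.eq_zero_or_pos i with rfl | h0
    · simp [Nat.card_eq_fintype_card]
    rw [if_neg (by omega)]
    let f : R → R := fun r => ⟨r * (y ^ i * (r : Q)⁻¹ * (y ^ i)⁻¹), R.mul_mem r.2 (hn' i _ (R.inv_mem r.2))⟩
    have hinj : Function.Injective f := by
      intro a b e
      have e' : (a : Q) * (y ^ i * (a : Q)⁻¹ * (y ^ i)⁻¹) = b * (y ^ i * (b : Q)⁻¹ * (y ^ i)⁻¹) :=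
        congrArg Subtype.val e
      have hb : Commute ((b : Q)⁻¹ * a) (y ^ i) := by
        show (b : Q)⁻¹ * a * y ^ i = y ^ i * ((b : Q)⁻¹ * a)
        have := congrArg (fun z => (b : Q)⁻¹ * z * (y ^ i * a)) e'
        simpa [mul_assoc] using this
      have h1 := hfree i h0 (Finset.mem_range.1 hi) _ (R.mul_mem (R.inv_mem b.2) a.2) hb
      exact Subtype.ext (inv_mul_eq_one.1 h1).symm
    rw [← hsum (φ (y ^ i) v)]
    refine Fintype.prod_bijective f hinj.bijective_of_finite _ _ fun r => ?_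
    show φ ((r * y * (r : Q)⁻¹) ^ i) v = φ (r * (y ^ i * (r : Q)⁻¹ * (y ^ i)⁻¹)) (φ (y ^ i) v)
    rw [← MulAut.mul_apply, ← map_mul, conj_pow]
    group
  have htot : ∏ r : R, ∏ i ∈ Finset.range p, φ ((r * y * (r : Q)⁻¹) ^ i) v = 1 :=
    Finset.prod_eq_one fun r _ => hy r r.2 v
  rw [Finset.prod_comm, Finset.prod_congr rfl hpart, Finset.prod_ite_eq' _ 0] at htot
  simpa [hp.pos] using htot

/-- The conjugation action of the quotient by a normal subgroup centralising `V`. -/
def quotConj (X V : Subgroup G) [X.Normal] [V.Normal] (h : ∀ x ∈ X, ∀ v ∈ V, x * v = v * x) :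
    G ⧸ X →* MulAut V :=
  QuotientGroup.lift X MulAut.conjNormal fun x hx =>
    MulEquiv.ext fun v => Subtype.ext (by simp [MulAut.conjNormal_apply, h x hx v v.2])

/-- A normal subgroup containing the centraliser of each of its non-identity elements is a Frobenius
kernel. -/
theorem exists_frobeniusComplement [Finite G] (U : Subgroup G) [U.Normal] (hU : U ≠ ⊥) (hU' : U ≠ ⊤)
    (hcc : ∀ u ∈ U, u ≠ 1 → ∀ g, Commute g u → g ∈ U) :
    ∃ H : Subgroup G, Cfsg.IsFrobeniusComplement H := by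
  have hco : (Nat.card U).Coprime U.index := by
    refine Nat.coprime_of_dvd fun p hp h1 h2 => ?_
    haveI := Fact.mk hp
    let P : Sylow p G := default
    haveI : (U.subgroupOf (P : Subgroup G)).Normal := inferInstance
    have hPU : (P : Subgroup G) ⊓ U ≠ ⊥ := by
      obtain ⟨u, hu⟩ := exists_prime_orderOf_dvd_card' p h1
      have hu' : orderOf (u : G) = p := by rw [Subgroup.orderOf_coe]; exact hu
      obtain ⟨Q, hQ⟩ := (IsPGroup.of_card (n := 1) (by rw [Nat.card_zpowers, hu', pow_one]) :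
        IsPGroup p (Subgroup.zpowers (u : G))).exists_le_sylow
      obtain ⟨a, ha⟩ := MulAction.exists_smul_eq G Q P
      intro hb
      have hm : a * (u : G) * a⁻¹ ∈ (P : Subgroup G) ⊓ U := by
        refine ⟨?_, ‹U.Normal›.conj_mem _ u.2 a⟩
        rw [← ha]
        show a * (u : G) * a⁻¹ ∈ ((MulAut.conj a • Q : Sylow p G) : Subgroup G)
        rw [Sylow.pointwise_smul_def, Subgroup.mem_pointwise_smul_iff_inv_smul_mem]
        simpa [mul_assoc] using hQ (Subgroup.mem_zpowers _)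
      rw [hb, Subgroup.mem_bot] at hm
      have h1' : (u : G) = 1 := by simpa using hm
      rw [h1', orderOf_one] at hu'
      exact hp.ne_one hu'.symm
    have hPle : (P : Subgroup G) ≤ U := by
      haveI : Group.IsNilpotent (P : Subgroup G) := P.2.isNilpotent
      obtain ⟨z, hz, hz1⟩ := ((U.subgroupOf (P : Subgroup G)) ⊓
        Subgroup.center (P : Subgroup G)).bot_or_exists_ne_one.resolve_left (by
          refine PGroupsBasic.inf_center_ne_bot P.2 fun e => hPU ?_
          rw [Subgroup.subgroupOf_eq_bot, disjoint_iff, inf_comm] at e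
          exact e)
      intro g hg
      refine hcc z hz.1 (fun e => hz1 (Subtype.ext e)) g ?_
      exact congrArg Subtype.val (Subgroup.mem_center_iff.1 hz.2 ⟨g, hg⟩)
    exact P.not_dvd_index ((h2.trans (Subgroup.index_dvd_of_le hPle)))
  obtain ⟨H, hH⟩ := Subgroup.exists_right_complement'_of_coprime hco
  refine ⟨H, FrobeniusBasic.isFrobeniusComplement_of_fpf hH hU ?_ ?_⟩
  · intro e
    rw [e] at hH
    exact hU' (Subgroup.isComplement'_bot_right.1 hH)
  · intro h hh hh1
    rw [Subgroup.eq_bot_iff_forall]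
    intro k hk
    by_contra hk1
    have hkc : Commute h k := by
      have := Subgroup.mem_centralizer_iff.1 hk.2 h rfl
      exact this
    exact hh1 (Subgroup.disjoint_def.1 hH.disjoint (hcc k hk.1 hk1 h hkc) hh)

end Cfsg.Agent.Part11
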