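import Mathlib
import Cfsg.Agent.Lib.PGroupsBasic

/-!
# Small tools for the partition classification
-/

set_option autoImplicit false

open scoped Pointwise

namespace Cfsg.Agent.Part11

variable {G : Type*} [Group G] [Finite G]

theorem exists_pow_orderOf_eq {g : G} {r : ℕ} (hr : r ∣ orderOf g) : ∃ k : ℕ, orderOf (g ^ k) = r := by
  obtain ⟨k, hk⟩ := hr
  have hpos := orderOf_pos g
  have hr0 : 0 < r := Nat.pos_of_ne_zero fun e => hpos.ne' (by rw [hk, e, zero_mul])
  have hk0 : k ≠ 0 := fun e => hpos.ne' (by rw [hk, e, mul_zero])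
  exact ⟨k, by rw [orderOf_pow_of_dvd hk0 (hk ▸ Dvd.intro_left r rfl), hk,
    Nat.mul_div_cancel _ (Nat.pos_of_ne_zero hk0)]⟩

theorem two_mul_half_mod {n : ℕ} (h : Odd n) (j : ℕ) : ∃ m, 2 * m = j + n * j := by
  obtain ⟨l, hl⟩ := h
  exact ⟨(l + 1) * j, by rw [hl]; ring⟩

omit [Finite G] in
/-- An element inverted by a commuting element squares to the identity. -/
theorem sq_eq_one_of_inverted {a y : G} (h : y * a * y⁻¹ = a⁻¹) (hc : Commute a y) : a * a = 1 := by
  rw [← hc.eq, mul_inv_cancel_right] at h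
  nth_rewrite 2 [h]
  exact mul_inv_cancel a

theorem eq_one_of_inverted {a y : G} (ha : Odd (orderOf a)) (h : y * a * y⁻¹ = a⁻¹) (hc : Commute a y) :
    a = 1 := by
  have h2 : orderOf a ∣ 2 := orderOf_dvd_of_pow_eq_one (by rw [pow_two]; exact sq_eq_one_of_inverted h hc)
  rcases (Nat.dvd_prime Nat.prime_two).1 h2 with e | e
  · exact orderOf_eq_one_iff.1 e
  · rw [e] at ha; exact absurd ha (by decide)

/-- An element of order `r` has a non-identity fixed point on a normal subgroup of order divisible by `r`. -/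
theorem exists_commute_of_dvd_card (X : Subgroup G) [X.Normal] {u : G} {r : ℕ} (hr : r.Prime)
    (hu : orderOf u = r) (h : r ∣ Nat.card X) : ∃ x ∈ X, x ≠ 1 ∧ Commute u x := by
  haveI := Fact.mk hr
  let A := Subgroup.zpowers u
  letI : MulAction A X := MulAction.compHom X ((MulAut.conjNormal (H := X)).comp A.subtype)
  have hsm : ∀ (a : A) (x : X), ((a • x : X) : G) = (a : G) * (x : G) * (a : G)⁻¹ := fun a x =>
    MulAut.conjNormal_apply (a : G) x
  have hA : IsPGroup r A := IsPGroup.of_card (n := 1) (by rw [Nat.card_zpowers, hu, pow_one])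
  have h1 : (1 : X) ∈ MulAction.fixedPoints A X := fun a => Subtype.ext (by simp [hsm])
  obtain ⟨x, hx, hx1⟩ := hA.exists_fixed_point_of_prime_dvd_card_of_fixed_point X h h1
  refine ⟨x, x.2, fun e => hx1 (Subtype.ext (by simp [e])), ?_⟩
  have := (hsm ⟨u, Subgroup.mem_zpowers u⟩ x).symm.trans (congrArg Subtype.val (hx ⟨u, Subgroup.mem_zpowers u⟩))
  exact mul_inv_eq_iff_eq_mul.1 this

/-- A non-trivial normal subgroup of a nilpotent group meets the centre. -/
theorem inf_center_ne_bot {N : Type*} [Group N] [Group.IsNilpotent N] (A : Subgroup N) [A.Normal]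
    (hA : A ≠ ⊥) : A ⊓ Subgroup.center N ≠ ⊥ := by
  classical
  have hex : ∃ n, A ⊓ Subgroup.upperCentralSeries N n ≠ ⊥ := by
    obtain ⟨n, hn⟩ := Group.IsNilpotent.nilpotent' (G := N)
    exact ⟨n, by rw [hn, inf_top_eq]; exact hA⟩
  obtain ⟨k, hk⟩ : ∃ k, Nat.find hex = k + 1 := Nat.exists_eq_succ_of_ne_zero fun h => by
    have h1 := Nat.find_spec hex
    rw [h, Subgroup.upperCentralSeries_zero, inf_bot_eq] at h1
    exact h1 rfl
  have h1 := Nat.find_spec hex
  have h0 : A ⊓ Subgroup.upperCentralSeries N k = ⊥ :=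
    not_ne_iff.1 (Nat.find_min hex (by omega))
  rw [hk] at h1
  obtain ⟨x, hx, hx1⟩ := (A ⊓ Subgroup.upperCentralSeries N (k + 1)).bot_or_exists_ne_one.resolve_left h1
  intro hb
  have hxc : x ∈ Subgroup.center N := by
    rw [Subgroup.mem_center_iff]
    intro y
    have hm : x * y * x⁻¹ * y⁻¹ ∈ A ⊓ Subgroup.upperCentralSeries N k := by
      refine ⟨?_, Subgroup.mem_upperCentralSeries_succ_iff.1 hx.2 y⟩
      rw [show x * y * x⁻¹ * y⁻¹ = x * (y * x⁻¹ * y⁻¹) by group]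
      exact A.mul_mem hx.1 (‹A.Normal›.conj_mem _ (A.inv_mem hx.1) y)
    rw [h0, Subgroup.mem_bot] at hm
    exact (mul_inv_eq_iff_eq_mul.1 (mul_inv_eq_one.1 hm)).symm
  have : x ∈ A ⊓ Subgroup.center N := ⟨hx.1, hxc⟩
  rw [hb, Subgroup.mem_bot] at this
  exact hx1 this

/-- The subgroup of elements of exponent `s` of a normal commutative subgroup. -/
theorem exists_normal_exponent (A : Subgroup G) [A.Normal] (hA : ∀ a ∈ A, ∀ b ∈ A, a * b = b * a)
    {s : ℕ} (hs : s.Prime) (hsA : s ∣ Nat.card A) :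
    ∃ V : Subgroup G, V.Normal ∧ V ≠ ⊥ ∧ V ≤ A ∧ ∀ v ∈ V, v ^ s = 1 := by
  haveI := Fact.mk hs
  let V : Subgroup G :=
    { carrier := {a | a ∈ A ∧ a ^ s = 1}
      one_mem' := ⟨A.one_mem, one_pow s⟩
      mul_mem' := fun {a b} ha hb => ⟨A.mul_mem ha.1 hb.1,
        by rw [(show Commute a b from hA a ha.1 b hb.1).mul_pow, ha.2, hb.2, one_mul]⟩
      inv_mem' := fun {a} ha => ⟨A.inv_mem ha.1, by rw [inv_pow, ha.2, inv_one]⟩ }
  refine ⟨V, ⟨fun v hv g => ⟨‹A.Normal›.conj_mem _ hv.1 g, by rw [conj_pow, hv.2, mul_one, mul_inv_cancel]⟩⟩,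
    ?_, fun v hv => hv.1, fun v hv => hv.2⟩
  obtain ⟨a, ha⟩ := exists_prime_orderOf_dvd_card' s hsA
  intro hb
  have hm : (a : G) ∈ V := ⟨a.2, by rw [← ha, ← Subgroup.orderOf_coe, pow_orderOf_eq_one]⟩
  rw [hb, Subgroup.mem_bot] at hm
  rw [← Subgroup.orderOf_coe, hm, orderOf_one] at ha
  exact hs.ne_one ha.symm

/-- A non-trivial soluble group has a non-trivial normal commutative subgroup. -/
theorem exists_normal_commutative {Q : Type*} [Group Q] [Group.IsSolvable Q] [Nontrivial Q] :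
    ∃ A : Subgroup Q, A.Normal ∧ A ≠ ⊥ ∧ ∀ a ∈ A, ∀ b ∈ A, a * b = b * a := by
  classical
  obtain ⟨n, hn⟩ := (Group.isSolvable_def Q).1 ‹_›
  have hex : ∃ n, derivedSeries Q n = ⊥ := ⟨n, hn⟩
  obtain ⟨k, hk⟩ : ∃ k, Nat.find hex = k + 1 := Nat.exists_eq_succ_of_ne_zero fun h => by
    have h1 := Nat.find_spec hex
    rw [h, derivedSeries_zero] at h1
    exact (top_ne_bot (α := Subgroup Q)) h1
  refine ⟨derivedSeries Q k, inferInstance, Nat.find_min hex (by omega), fun a ha b hb => ?_⟩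
  have h1 := Nat.find_spec hex
  rw [hk, derivedSeries_succ] at h1
  exact ((Subgroup.commutator_eq_bot_iff_le_centralizer.1 h1) ha b hb).symm

theorem exists_normal_pGroup {Q : Type*} [Group Q] [Finite Q] [Group.IsSolvable Q] [Nontrivial Q] :
    ∃ (r : ℕ) (N : Subgroup Q), r.Prime ∧ N.Normal ∧ N ≠ ⊥ ∧ IsPGroup r N := by
  obtain ⟨A, hAn, hA, hAc⟩ := exists_normal_commutative (Q := Q)
  obtain ⟨r, hr, hd⟩ := Nat.exists_prime_and_dvd (n := Nat.card A)
    (fun e => hA (Subgroup.card_eq_one.1 e))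
  obtain ⟨V, hVn, hV, -, hVe⟩ := exists_normal_exponent A hAc hr hd
  exact ⟨r, V, hr, hVn, hV, fun v => ⟨1, Subtype.ext (by simpa using hVe v v.2)⟩⟩

end Cfsg.Agent.Part11
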