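import Mathlib
import Cfsg.Agent.Lib.Part11Basic
import Cfsg.Agent.Lib.Part11Tools
import Cfsg.Agent.Lib.CIT21Frob5
import Cfsg.Agent.Lib.TwoInvolutions
import Cfsg.Agent.S0215
import Cfsg.Agent.Lib.SuzukiUniq67Main

/-!
# Simple partitioned groups: an involution centraliser inside its member
-/

set_option autoImplicit false

open scoped Pointwise

namespace Cfsg.Agent.Part11

universe u

variable {G : Type u} [Group G] [Finite G]

/-- A conjugate, within a subgroup containing a Sylow subgroup, of a `p`-element lies in it. -/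
theorem exists_conj_mem_sylow {p : ℕ} [Fact p.Prime] (S : Sylow p G) {H : Subgroup G}
    (hS : (S : Subgroup G) ≤ H) {u : G} (hu : u ∈ H) (hup : ∃ j : ℕ, u ^ p ^ j = 1) :
    ∃ a ∈ H, a * u * a⁻¹ ∈ (S : Subgroup G) := by
  let T := Subgroup.zpowers (⟨u, hu⟩ : H)
  have hT : IsPGroup p T := by
    obtain ⟨j, hj⟩ := hup
    obtain ⟨k, -, hk⟩ := (Nat.dvd_prime_pow Fact.out).1 (orderOf_dvd_of_pow_eq_one hj)
    exact IsPGroup.of_card (n := k) (by rw [Nat.card_zpowers, Subgroup.orderOf_mk, hk])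
  obtain ⟨Q, hQ⟩ := hT.exists_le_sylow
  obtain ⟨a, ha⟩ := MulAction.exists_smul_eq H Q (S.subtype hS)
  refine ⟨a, a.2, ?_⟩
  have h1 : a * ⟨u, hu⟩ * a⁻¹ ∈ (S.subtype hS : Subgroup H) := by
    rw [← ha]
    show a * ⟨u, hu⟩ * a⁻¹ ∈ ((MulAut.conj a • Q : Sylow p H) : Subgroup H)
    rw [Sylow.pointwise_smul_def, Subgroup.mem_pointwise_smul_iff_inv_smul_mem]
    simpa [mul_assoc] using hQ (Subgroup.mem_zpowers _)
  rw [Sylow.coe_subtype, Subgroup.mem_subgroupOf] at h1
  simpa using h1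

theorem commute_of_sq {a b : G} (ha : a * a = 1) (hb : b * b = 1) (h : a * b * (a * b) = 1) :
    Commute a b := by
  show a * b = b * a
  calc a * b = a * b * (a * b) * (b⁻¹ * a⁻¹) := by group
    _ = b⁻¹ * a⁻¹ := by rw [h, one_mul]
    _ = b * a := by rw [inv_eq_of_mul_eq_one_right ha, inv_eq_of_mul_eq_one_right hb]

omit [Finite G] in
theorem orderOf_invol {t : G} (ht1 : t ≠ 1) (ht : t * t = 1) : orderOf t = 2 :=
  orderOf_eq_prime (by rw [pow_two, ht]) ht1

/-- A fixed-point-free involution inverts. -/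
theorem inverted_of_no_fixed {H : Subgroup G} {s : G} (hs : s * s = 1) (hn : ∀ h ∈ H, s * h * s⁻¹ ∈ H)
    (hf : ∀ h ∈ H, Commute s h → h = 1) : ∀ h ∈ H, s * h * s⁻¹ = h⁻¹ := by
  let φ : H →* H :=
    { toFun := fun h => ⟨s * h * s⁻¹, hn h h.2⟩
      map_one' := Subtype.ext (by simp)
      map_mul' := fun a b => Subtype.ext (by
        show s * ((a : G) * b) * s⁻¹ = s * a * s⁻¹ * (s * b * s⁻¹)
        group) }
  have hfp : MonoidHom.FixedPointFree φ := fun a ha =>
    Subtype.ext (hf a a.2 (mul_inv_eq_iff_eq_mul.1 (congrArg Subtype.val ha)))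
  have hinv : Function.Involutive φ := by
    intro a
    apply Subtype.ext
    show s * (s * (a : G) * s⁻¹) * s⁻¹ = a
    rw [show s * (s * (a : G) * s⁻¹) * s⁻¹ = s * s * a * (s * s)⁻¹ by group, hs, one_mul, inv_one, mul_one]
  intro h hh
  exact congrArg Subtype.val (congrFun (MonoidHom.FixedPointFree.coe_eq_inv_of_involutive hfp hinv) ⟨h, hh⟩)

namespace NPart

variable (P : NPart G)

/-- The centraliser of `t` lies in its member. -/
def Inner (t : G) : Prop := ∀ x, Commute x t → x ∈ P.cmp t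

theorem outside_sq {t w : G} (ht1 : t ≠ 1) (ht : t * t = 1) (hc : Commute w t) (hw : w ∉ P.cmp t) :
    w * w = 1 := by
  have := P.orderOf_eq hc.symm ht1 hw
  rw [orderOf_invol ht1 ht] at this
  rw [← pow_two, ← this, _root_.pow_orderOf_eq_one]

theorem outside_inverts {t w a : G} (ht1 : t ≠ 1) (ht : t * t = 1) (hc : Commute w t) (hw : w ∉ P.cmp t)
    (ha : a ∈ P.cmp t) (hac : Commute a t) : w * a * w⁻¹ = a⁻¹ := by
  have h1 := P.outside_sq ht1 ht hc hw
  have h2 := P.outside_sq ht1 ht (hc.mul_left hac) fun h => hw (((P.cmp t).mul_mem_cancel_right ha).1 h)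
  rw [inv_eq_of_mul_eq_one_right h1]
  calc w * a * w = w * a * (w * a) * a⁻¹ := by group
    _ = a⁻¹ := by rw [h2, one_mul]

theorem inner_conj {t : G} (a : G) (ht1 : t ≠ 1) (h : P.Inner t) : P.Inner (a * t * a⁻¹) := by
  intro x hx
  have hc : Commute (a⁻¹ * x * a) t := by
    show a⁻¹ * x * a * t = t * (a⁻¹ * x * a)
    calc a⁻¹ * x * a * t = a⁻¹ * (x * (a * t * a⁻¹)) * a := by group
      _ = a⁻¹ * ((a * t * a⁻¹) * x) * a := by rw [hx.eq]
      _ = t * (a⁻¹ * x * a) := by group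
  have := P.conj_mem a t _ ht1 (h _ hc)
  simpa [mul_assoc] using this

theorem inner_of_commute {z s : G} (hz1 : z ≠ 1) (hz : z * z = 1) (hI : P.Inner z) (hs1 : s ≠ 1)
    (hs : s * s = 1) (hc : Commute z s) : P.Inner s := by
  intro w hw
  by_contra hwX
  have hsz : s ∈ P.cmp z := hI s hc.symm
  have e : P.cmp s = P.cmp z := P.eq_of_mem z s hz1 hs1 hsz
  have h1 := P.outside_inverts hs1 hs hw hwX (e ▸ P.mem z) hc
  rw [inv_eq_of_mul_eq_one_right hz] at h1
  exact hwX (e ▸ hI w (mul_inv_eq_iff_eq_mul.1 h1))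

end NPart

/-- The strongly embedded configuration. -/
structure SECtx (P : NPart G) (S : Sylow 2 G) (z : G) : Prop where
  simple : IsSimpleGroup G
  nonab : ∃ a b : G, a * b ≠ b * a
  invol : z * z = 1
  ne_one : z ≠ 1
  mem : z ∈ (S : Subgroup G)
  central : ∀ s ∈ (S : Subgroup G), Commute s z
  inner : P.Inner z

namespace SECtx

variable {P : NPart G} {S : Sylow 2 G} {z : G} (C : SECtx P S z)
include C

theorem sylow_le : (S : Subgroup G) ≤ P.cmp z := fun s hs => C.inner s (C.central s hs)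

theorem sylow_le_normalizer : (S : Subgroup G) ≤ Subgroup.normalizer (P.cmp z : Set G) :=
  C.sylow_le.trans Subgroup.le_normalizer

theorem inner_of_mem {u : G} (hu1 : u ≠ 1) (hu : u * u = 1) (hm : u ∈ P.cmp z) : P.Inner u := by
  obtain ⟨a, -, hS⟩ := exists_conj_mem_sylow S C.sylow_le hm ⟨1, by rw [pow_one, pow_two, hu]⟩
  have h1 : P.Inner (a * u * a⁻¹) := P.inner_of_commute C.ne_one C.invol C.inner (by simpa using hu1)
    (by rw [show a * u * a⁻¹ * (a * u * a⁻¹) = a * (u * u) * a⁻¹ by group, hu, mul_one, mul_inv_cancel])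
    (C.central _ hS).symm
  have h2 := P.inner_conj a⁻¹ (by simpa using hu1) h1
  simpa [mul_assoc] using h2

theorem mem_of_normalizer {u : G} (hu : u * u = 1) (hm : u ∈ Subgroup.normalizer (P.cmp z : Set G)) :
    u ∈ P.cmp z := by
  obtain ⟨a, ha, hS⟩ := exists_conj_mem_sylow S C.sylow_le_normalizer hm ⟨1, by rw [pow_one, pow_two, hu]⟩
  exact (Subgroup.mem_normalizer_iff.1 ha u).2 (C.sylow_le hS)

theorem normalizer_ne_top : Subgroup.normalizer (P.cmp z : Set G) ≠ ⊤ := by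
  intro h
  haveI := C.simple
  haveI hn : (P.cmp z).Normal := Subgroup.normalizer_eq_top_iff.1 h
  rcases hn.eq_bot_or_eq_top with e | e
  · exact C.ne_one (Subgroup.mem_bot.1 (e ▸ P.mem z))
  · exact P.ne_top z C.ne_one e

theorem exists_outside : ∃ v : G, v * v = 1 ∧ v ∉ Subgroup.normalizer (P.cmp z : Set G) := by
  by_contra hno
  push Not at hno
  haveI := C.simple
  haveI hn : (Subgroup.closure {v : G | v * v = 1}).Normal := ⟨fun x hx g => by
    have hle : (Subgroup.closure {v : G | v * v = 1}).map (MulAut.conj g).toMonoidHom ≤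
        Subgroup.closure {v : G | v * v = 1} := by
      rw [MonoidHom.map_closure]
      refine Subgroup.closure_mono ?_
      rintro _ ⟨v, hv, rfl⟩
      show g * v * g⁻¹ * (g * v * g⁻¹) = 1
      rw [show g * v * g⁻¹ * (g * v * g⁻¹) = g * (v * v) * g⁻¹ by group, hv, mul_one, mul_inv_cancel]
    exact hle (Subgroup.mem_map_of_mem _ hx)⟩
  have hle : Subgroup.closure {v : G | v * v = 1} ≤ Subgroup.normalizer (P.cmp z : Set G) :=
    (Subgroup.closure_le _).2 fun v hv => hno v hv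
  rcases hn.eq_bot_or_eq_top with e | e
  · exact C.ne_one (Subgroup.mem_bot.1 (e ▸ Subgroup.subset_closure C.invol))
  · exact C.normalizer_ne_top (top_le_iff.1 (e ▸ hle))

theorem conj_of_inside {u v : G} (hu1 : u ≠ 1) (hu : u * u = 1) (hum : u ∈ P.cmp z) (hv : v * v = 1)
    (hvm : v ∉ Subgroup.normalizer (P.cmp z : Set G)) : ∃ g : G, g * u * g⁻¹ = v := by
  have hv1 : v ≠ 1 := fun e => hvm (e ▸ one_mem _)
  have ho := orderOf_invol hu1 hu
  have ho' := orderOf_invol hv1 hv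
  by_cases hodd : Odd (orderOf (u * v))
  · obtain ⟨d, -, hd⟩ := (TwoInvolutions.conj_iff_odd ho ho').2 hodd
    exact ⟨d, hd⟩
  obtain ⟨hi, hiu, hiv⟩ := TwoInvolutions.half_props ho ho' (Nat.not_odd_iff_even.1 hodd)
  set i := (u * v) ^ (orderOf (u * v) / 2)
  have hi1 : i ≠ 1 := fun e => by rw [e, orderOf_one] at hi; exact absurd hi (by norm_num)
  have hii : i * i = 1 := TwoInvolutions.mul_self_of_orderOf hi
  have e : P.cmp u = P.cmp z := P.eq_of_mem z u C.ne_one hu1 hum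
  have him : i ∈ P.cmp z := e ▸ C.inner_of_mem hu1 hu hum i hiu
  have hI := C.inner_of_mem hi1 hii him v hiv.symm
  rw [P.eq_of_mem z i C.ne_one hi1 him] at hI
  exact absurd (Subgroup.le_normalizer hI) hvm

/-- All involutions are conjugate. -/
theorem conj_all {u : G} (hu1 : u ≠ 1) (hu : u * u = 1) : ∃ g : G, g * z * g⁻¹ = u := by
  obtain ⟨v, hv, hvm⟩ := C.exists_outside
  by_cases hm : u ∈ Subgroup.normalizer (P.cmp z : Set G)
  · obtain ⟨g, hg⟩ := C.conj_of_inside hu1 hu (C.mem_of_normalizer hu hm) hv hvm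
    obtain ⟨k, hk⟩ := C.conj_of_inside C.ne_one C.invol (P.mem z) hv hvm
    exact ⟨g⁻¹ * k, by rw [show g⁻¹ * k * z * (g⁻¹ * k)⁻¹ = g⁻¹ * (k * z * k⁻¹) * g by group, hk, ← hg]; group⟩
  · exact C.conj_of_inside C.ne_one C.invol (P.mem z) hu hm

/-- The coset counting: one inequality per coset. -/
theorem card_fibre_le (s₀ : G) (hs₀ : s₀ * s₀ = 1) (hs₀m : s₀ ∉ Subgroup.normalizer (P.cmp z : Set G)) :
    ∀ i j : G, i * i = 1 → j * j = 1 → i⁻¹ * j ∈ P.cmp z → s₀⁻¹ * i ∈ Subgroup.normalizer (P.cmp z : Set G) →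
      i = j := by
  intro i j hi hj hij hmem
  by_contra hne
  have hx1 : i⁻¹ * j ≠ 1 := fun e => hne (inv_mul_eq_one.1 e)
  have hc : i * (i⁻¹ * j) * i⁻¹ = (i⁻¹ * j)⁻¹ := by
    rw [mul_inv_rev, inv_inv, inv_eq_of_mul_eq_one_right hi, inv_eq_of_mul_eq_one_right hj,
      ← mul_assoc, hi, one_mul]
  have hn : i ∈ Subgroup.normalizer (P.cmp (i⁻¹ * j) : Set G) :=
    P.mem_normalizer hx1 (by rw [hc]; exact (P.cmp _).inv_mem (P.mem _))
  rw [P.eq_of_mem z _ C.ne_one hx1 hij] at hn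
  refine hs₀m ?_
  have h1 := Subgroup.mul_mem _ hn (Subgroup.inv_mem _ hmem)
  simpa using h1

theorem card_count :
    Nat.card {i : G // i ≠ 1 ∧ i * i = 1} =
      (Subgroup.normalizer (P.cmp z : Set G)).index * Nat.card {i : P.cmp z // i ≠ 1 ∧ i * i = 1} := by
  classical
  set M := Subgroup.normalizer (P.cmp z : Set G) with hM
  rw [Subgroup.index_eq_card, ← Nat.card_prod]
  refine Nat.card_congr (Equiv.ofBijective
    (fun x : (G ⧸ M) × {i : P.cmp z // i ≠ 1 ∧ i * i = 1} => (⟨x.1.out * (x.2.1 : G) * x.1.out⁻¹,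
      fun e => x.2.2.1 (Subtype.ext (by simpa using e)),
      by
        have h : ((x.2.1 : G)) * (x.2.1 : G) = 1 := congrArg Subtype.val x.2.2.2
        rw [show x.1.out * (x.2.1 : G) * x.1.out⁻¹ * (x.1.out * (x.2.1 : G) * x.1.out⁻¹) =
          x.1.out * ((x.2.1 : G) * (x.2.1 : G)) * x.1.out⁻¹ by group, h, mul_one, mul_inv_cancel]⟩ :
      {i : G // i ≠ 1 ∧ i * i = 1})) ⟨?_, ?_⟩).symm
  · rintro ⟨q, ⟨u, hu⟩, hu'⟩ ⟨q', ⟨v, hv⟩, hv'⟩ e
    have e' : q.out * u * q.out⁻¹ = q'.out * v * q'.out⁻¹ := congrArg Subtype.val e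
    have hu1 : u ≠ 1 := fun h => hu'.1 (Subtype.ext h)
    have hv1 : v ≠ 1 := fun h => hv'.1 (Subtype.ext h)
    have hconj : (q'.out⁻¹ * q.out) * u * (q'.out⁻¹ * q.out)⁻¹ = v := by
      rw [show q'.out⁻¹ * q.out * u * (q'.out⁻¹ * q.out)⁻¹ = q'.out⁻¹ * (q.out * u * q.out⁻¹) * q'.out by
        group, e']
      group
    have eu := P.eq_of_mem z u C.ne_one hu1 hu
    have hn : q'.out⁻¹ * q.out ∈ Subgroup.normalizer (P.cmp u : Set G) :=
      P.mem_normalizer hu1 (by rw [hconj, eu]; exact hv)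
    rw [eu] at hn
    have hq : q' = q := by
      rw [← QuotientGroup.out_eq' q', ← QuotientGroup.out_eq' q, QuotientGroup.eq]
      exact hn
    subst hq
    have : u = v := by simpa using hconj
    subst this
    rfl
  · rintro ⟨i, hi1, hi⟩
    obtain ⟨g, hg⟩ := C.conj_all hi1 hi
    set q : G ⧸ M := (g : G ⧸ M) with hq
    have hm : q.out⁻¹ * g ∈ M := QuotientGroup.eq.1 (QuotientGroup.out_eq' q)
    set u := q.out⁻¹ * i * q.out with hu
    have hux : u ∈ P.cmp z := by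
      have := (Subgroup.mem_normalizer_iff.1 hm z).1 (P.mem z)
      rw [hu, ← hg]
      simpa [mul_assoc] using this
    refine ⟨(q, ⟨⟨u, hux⟩, fun e => hi1 ?_, Subtype.ext ?_⟩), Subtype.ext ?_⟩
    · have h1 : u = 1 := congrArg Subtype.val e
      rw [hu] at h1
      calc i = q.out * (q.out⁻¹ * i * q.out) * q.out⁻¹ := by group
        _ = 1 := by rw [h1, mul_one, mul_inv_cancel]
    · show u * u = 1
      rw [hu, show q.out⁻¹ * i * q.out * (q.out⁻¹ * i * q.out) = q.out⁻¹ * (i * i) * q.out by group, hi,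
        mul_one, inv_mul_cancel]
    · show q.out * u * q.out⁻¹ = i
      rw [hu]; group

theorem ne_normalizer : P.cmp z ≠ Subgroup.normalizer (P.cmp z : Set G) := by
  classical
  intro e
  haveI := Fintype.ofFinite G
  set M := Subgroup.normalizer (P.cmp z : Set G) with hM
  haveI := Fintype.ofFinite (G ⧸ M)
  let I := {i : G // i ≠ 1 ∧ i * i = 1}
  let IX := {i : P.cmp z // i ≠ 1 ∧ i * i = 1}
  -- an involution in each coset, at most one outside
  have hN2 : 2 ≤ M.index := by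
    have := M.one_lt_index_of_ne_top C.normalizer_ne_top
    omega
  let f : I → IX ⊕ {q : G ⧸ M // q ≠ (1 : G)} := fun i =>
    if h : (i.1 : G) ∈ M then Sum.inl ⟨⟨i.1, e ▸ h⟩, fun hh => i.2.1 (congrArg Subtype.val hh),
      Subtype.ext i.2.2⟩
    else Sum.inr ⟨(i.1 : G), fun hh => h (by simpa using QuotientGroup.eq.1 hh.symm)⟩
  have hf : Function.Injective f := by
    rintro ⟨i, hi1, hi⟩ ⟨j, hj1, hj⟩ hij
    by_cases h1 : i ∈ M <;> by_cases h2 : j ∈ M <;> simp [f, h1, h2] at hij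
    · exact Subtype.ext (congrArg (fun w : IX => (w.1 : G)) hij)
    · have hm : i⁻¹ * j ∈ M := QuotientGroup.eq.1 hij
      exact Subtype.ext (C.card_fibre_le i hi h1 i j hi hj (e ▸ hm) (by simp))
  have hle := Nat.card_le_card_of_injective f hf
  rw [Nat.card_sum, show Nat.card I = M.index * Nat.card IX from C.card_count] at hle
  have hsub : Nat.card {q : G ⧸ M // q ≠ (1 : G)} = M.index - 1 := by
    rw [Nat.card_eq_fintype_card, Fintype.card_subtype_compl, Fintype.card_subtype_eq,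
      Subgroup.index_eq_card, Nat.card_eq_fintype_card]
  rw [hsub] at hle
  have hone : Nat.card IX ≤ 1 := by
    by_contra hgt
    push Not at hgt
    have h1 : 2 * (M.index - 1) ≤ (M.index - 1) * Nat.card IX := by nlinarith
    have h2 : M.index * Nat.card IX = (M.index - 1) * Nat.card IX + Nat.card IX := by
      have : M.index = (M.index - 1) + 1 := by omega
      nth_rewrite 1 [this]
      ring
    omega
  have huniq : ∀ g : G, g * z * g⁻¹ ∈ S → g * z * g⁻¹ = z := by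
    intro g hg
    haveI : Subsingleton IX := (Finite.card_le_one_iff_subsingleton).1 hone
    have hzI : (⟨z, P.mem z⟩ : P.cmp z) ≠ 1 ∧ (⟨z, P.mem z⟩ : P.cmp z) * ⟨z, P.mem z⟩ = 1 :=
      ⟨fun h => C.ne_one (congrArg Subtype.val h), Subtype.ext C.invol⟩
    have hgz : g * z * g⁻¹ * (g * z * g⁻¹) = 1 := by
      rw [show g * z * g⁻¹ * (g * z * g⁻¹) = g * (z * z) * g⁻¹ by group, C.invol, mul_one, mul_inv_cancel]
    have hgI : (⟨g * z * g⁻¹, C.sylow_le hg⟩ : P.cmp z) ≠ 1 ∧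
        (⟨g * z * g⁻¹, C.sylow_le hg⟩ : P.cmp z) * ⟨g * z * g⁻¹, C.sylow_le hg⟩ = 1 :=
      ⟨fun h => C.ne_one (by simpa using congrArg Subtype.val h), Subtype.ext hgz⟩
    have := Subsingleton.elim (⟨_, hgI⟩ : IX) ⟨_, hzI⟩
    exact congrArg (fun x : IX => (x.1 : G)) this
  obtain ⟨N, hNn, hNodd, hN⟩ :=
    Cfsg.Agent.S0215.result S z (orderOf_invol C.ne_one C.invol) C.mem huniq
  haveI := C.simple
  rcases hNn.eq_bot_or_eq_top with hb | hb
  · have hz : z ∈ Subgroup.center G := Subgroup.mem_center_iff.2 fun g => by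
      have := hN g
      rw [hb, Subgroup.mem_bot] at this
      exact (mul_inv_eq_iff_eq_mul.1 (mul_inv_eq_one.1 this)).symm
    rcases (inferInstance : (Subgroup.center G).Normal).eq_bot_or_eq_top with hc | hc
    · exact C.ne_one (Subgroup.mem_bot.1 (hc ▸ hz))
    · obtain ⟨a, b, hab⟩ := C.nonab
      exact hab (Subgroup.mem_center_iff.1 (hc ▸ Subgroup.mem_top b) a)
  · rw [hb, Subgroup.card_top] at hNodd
    exact Nat.not_even_iff_odd.2 hNodd
      (even_iff_two_dvd.2 (orderOf_invol C.ne_one C.invol ▸ orderOf_dvd_natCard z))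

theorem ord_out {m : G} (hm : m ∈ Subgroup.normalizer (P.cmp z : Set G)) (hmX : m ∉ P.cmp z) {r : ℕ}
    (hr : r.Prime) (h : m ^ r ∈ P.cmp z) : orderOf m = r := by
  have hm1 : m ≠ 1 := fun e => hmX (e ▸ one_mem _)
  by_cases h1 : m ^ r = 1
  · exact orderOf_eq_prime (hp := ⟨hr⟩) h1 hm1
  exfalso
  have := P.eq_of_mem z _ C.ne_one h1 h
  rw [P.cmp_pow h1] at this
  exact hmX (this ▸ P.mem m)

theorem nilpotent : Group.IsNilpotent (P.cmp z) := by
  set M := Subgroup.normalizer (P.cmp z : Set G) with hM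
  set X := P.cmp z with hX
  haveI : (X.subgroupOf M).Normal := Subgroup.normal_in_normalizer
  obtain ⟨m, hmM, hmX⟩ := SetLike.exists_of_lt (lt_of_le_of_ne Subgroup.le_normalizer C.ne_normalizer)
  set q : M ⧸ X.subgroupOf M := ((⟨m, hmM⟩ : M) : M ⧸ X.subgroupOf M) with hq
  have hq1 : q ≠ 1 := fun e => hmX (Subgroup.mem_subgroupOf.1 ((QuotientGroup.eq_one_iff _).1 e))
  obtain ⟨r, hr, hrd⟩ := Nat.exists_prime_and_dvd (n := orderOf q) fun e => hq1 (orderOf_eq_one_iff.1 e)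
  obtain ⟨k, hk⟩ := exists_pow_orderOf_eq hrd
  set y : M := (⟨m, hmM⟩ : M) ^ k with hy
  have hyq : orderOf (y : M ⧸ X.subgroupOf M) = r := by rw [hy, QuotientGroup.mk_pow]; exact hk
  have key : ∀ w : M, orderOf (w : M ⧸ X.subgroupOf M) = r → w ^ r = 1 := by
    intro w hw
    have h1 : (w : G) ^ r ∈ X := by
      have := (QuotientGroup.eq_one_iff (N := X.subgroupOf M) (w ^ r)).1
        (by rw [QuotientGroup.mk_pow, ← hw, pow_orderOf_eq_one])
      simpa [Subgroup.mem_subgroupOf] using this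
    have h2 : (w : G) ∉ X := fun h => hr.ne_one (by
      rw [← hw, (QuotientGroup.eq_one_iff w).2 h, orderOf_one])
    refine Subtype.ext ?_
    rw [Subgroup.coe_pow, Subgroup.coe_one, ← C.ord_out w.2 h2 hr h1, pow_orderOf_eq_one]
  have hyr := key y hyq
  have hyX : y ∉ X.subgroupOf M := fun h => hr.ne_one (by
    rw [← hyq, (QuotientGroup.eq_one_iff y).2 h, orderOf_one])
  have hyo : orderOf y = r := orderOf_eq_prime (hp := ⟨hr⟩) hyr fun e => hyX (by rw [e]; exact one_mem _)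
  set H := X.subgroupOf M ⊔ Subgroup.zpowers y with hH
  have hS : FrobeniusKegel.Split r ((X.subgroupOf M).subgroupOf H) := by
    refine ⟨inferInstance, ?_, ?_⟩
    · show (X.subgroupOf M).relIndex H = r
      rw [hH, sup_comm, Subgroup.relIndex_sup_right, ← Subgroup.inf_relIndex_right]
      have hb : X.subgroupOf M ⊓ Subgroup.zpowers y = ⊥ := by
        rw [Subgroup.eq_bot_iff_forall]
        rintro x ⟨hx, hxz⟩
        obtain ⟨i, rfl⟩ := hxz
        have h1 : ((y : M ⧸ X.subgroupOf M)) ^ i = 1 := by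
          rw [← QuotientGroup.mk_zpow]; exact (QuotientGroup.eq_one_iff _).2 hx
        have h2 := orderOf_dvd_iff_zpow_eq_one.2 h1
        rw [hyq, ← hyo] at h2
        exact orderOf_dvd_iff_zpow_eq_one.1 h2
      rw [hb, Subgroup.relIndex_bot_left, Nat.card_zpowers, hyo]
    · intro x hx
      obtain ⟨a, ha, b, hb, e⟩ :=
        (Subgroup.mem_sup_of_normal_left (s := X.subgroupOf M) (t := Subgroup.zpowers y)).1 x.2
      obtain ⟨i, rfl⟩ := hb
      refine Subtype.ext ?_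
      have h1 : ((x : M) : M ⧸ X.subgroupOf M) = (y : M ⧸ X.subgroupOf M) ^ i := by
        rw [← e, QuotientGroup.mk_mul, (QuotientGroup.eq_one_iff a).2 ha, one_mul, QuotientGroup.mk_zpow]
      have h2 : orderOf ((x : M) : M ⧸ X.subgroupOf M) ∣ r := by
        refine orderOf_dvd_of_pow_eq_one ?_
        rw [h1, ← zpow_natCast, ← zpow_mul, mul_comm, zpow_mul, zpow_natCast, ← hyq, pow_orderOf_eq_one,
          one_zpow]
      have h3 := (hr.eq_one_or_self_of_dvd _ h2).resolve_left fun e' =>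
        hx ((QuotientGroup.eq_one_iff (N := X.subgroupOf M) (x : M)).1 (orderOf_eq_one_iff.1 e'))
      rw [Subgroup.coe_pow, Subgroup.coe_one]
      exact key _ h3
  have h := hS.isNilpotent hr
  have h' := (Group.isNilpotent_congr
    (Subgroup.subgroupOfEquivOfLe (le_sup_left : X.subgroupOf M ≤ H))).1 h
  exact (Group.isNilpotent_congr (Subgroup.subgroupOfEquivOfLe (Subgroup.le_normalizer (H := X)))).1 h'

theorem conj_in {u v : G} (hu1 : u ≠ 1) (hu : u * u = 1) (hum : u ∈ P.cmp z) (hv1 : v ≠ 1) (hv : v * v = 1)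
    (hvm : v ∈ P.cmp z) : ∃ m ∈ Subgroup.normalizer (P.cmp z : Set G), m * u * m⁻¹ = v := by
  obtain ⟨g, hg⟩ := C.conj_all hu1 hu
  obtain ⟨k, hk⟩ := C.conj_all hv1 hv
  have hkv : k * g⁻¹ * u * (k * g⁻¹)⁻¹ = v := by
    rw [← hg, ← hk]; group
  refine ⟨k * g⁻¹, ?_, hkv⟩
  have eu := P.eq_of_mem z u C.ne_one hu1 hum
  have hn := P.mem_normalizer hu1 (show k * g⁻¹ * u * (k * g⁻¹)⁻¹ ∈ P.cmp u by rw [hkv, eu]; exact hvm)
  rwa [eu] at hn

theorem central_self {u : G} (hu : u * u = 1) (hum : u ∈ P.cmp z) :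
    ∀ x ∈ P.cmp z, Commute x u := by
  by_cases hu1 : u = 1
  · intro x _; rw [hu1]; exact Commute.one_right x
  haveI := C.nilpotent
  haveI := Fact.mk Nat.prime_two
  set X := P.cmp z with hX
  let T : Sylow 2 X := default
  have h2 : 2 ∣ Nat.card X := orderOf_invol C.ne_one C.invol ▸ Subgroup.orderOf_dvd_natCard _ (P.mem z)
  have hTn : (T : Subgroup X).Normal :=
    (Group.isNilpotent_of_finite_tfae.out 0 3 rfl rfl).mp ‹Group.IsNilpotent X› 2 inferInstance T
  obtain ⟨c, hc, hc1⟩ := ((T : Subgroup X) ⊓ Subgroup.center X).bot_or_exists_ne_one.resolve_left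
    (inf_center_ne_bot _ (T.ne_bot_of_dvd_card h2))
  obtain ⟨j, hj⟩ := IsPGroup.iff_orderOf.1 T.2 ⟨c, hc.1⟩
  rw [Subgroup.orderOf_mk] at hj
  have hd : 2 ∣ orderOf c := by
    rcases Nat.eq_zero_or_pos j with rfl | h
    · exact absurd (orderOf_eq_one_iff.1 (by simpa using hj)) hc1
    · exact hj ▸ dvd_pow_self 2 h.ne'
  obtain ⟨k, hk⟩ := exists_pow_orderOf_eq hd
  set d : G := ((c ^ k : X) : G) with hd'
  have hdo : orderOf d = 2 := by rw [hd', Subgroup.orderOf_coe, hk]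
  have hd1 : d ≠ 1 := fun e => by rw [e, orderOf_one] at hdo; exact absurd hdo (by norm_num)
  obtain ⟨m, hm, hmu⟩ := C.conj_in hd1 (TwoInvolutions.mul_self_of_orderOf hdo) (SetLike.coe_mem _) hu1 hu hum
  intro x hx
  have hx' : m⁻¹ * x * m ∈ X := by
    simpa using (Subgroup.mem_normalizer_iff.1 (Subgroup.inv_mem _ hm) x).1 hx
  have hcd : Commute (m⁻¹ * x * m) d :=
    congrArg Subtype.val (Subgroup.mem_center_iff.1 ((Subgroup.center X).pow_mem hc.2 k) ⟨_, hx'⟩)
  rw [← hmu]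
  show x * (m * d * m⁻¹) = m * d * m⁻¹ * x
  calc x * (m * d * m⁻¹) = m * (m⁻¹ * x * m * d) * m⁻¹ := by group
    _ = m * (d * (m⁻¹ * x * m)) * m⁻¹ := by rw [hcd.eq]
    _ = m * d * m⁻¹ * x := by group

/-- Every involution is central in its member, which contains its centraliser. -/
theorem central_all {t : G} (ht1 : t ≠ 1) (ht : t * t = 1) :
    P.Inner t ∧ ∀ x ∈ P.cmp t, Commute x t := by
  obtain ⟨g, rfl⟩ := C.conj_all ht1 ht
  refine ⟨P.inner_conj g C.ne_one C.inner, fun x hx => ?_⟩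
  have hx' : g⁻¹ * x * g ∈ P.cmp z := by
    have := P.conj_mem g⁻¹ _ x ht1 hx
    simpa [mul_assoc] using this
  have hcd := C.central_self C.invol (P.mem z) _ hx'
  show x * (g * z * g⁻¹) = g * z * g⁻¹ * x
  calc x * (g * z * g⁻¹) = g * (g⁻¹ * x * g * z) * g⁻¹ := by group
    _ = g * (z * (g⁻¹ * x * g)) * g⁻¹ := by rw [hcd.eq]
    _ = g * z * g⁻¹ * x := by group

theorem inverted_rep {s : G} (hs : s * s = 1) (hsm : s ∉ Subgroup.normalizer (P.cmp z : Set G)) {y : G}
    (hy : y ∈ Subgroup.normalizer (P.cmp z : Set G)) :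
    ∃ u ∈ Subgroup.normalizer (P.cmp z : Set G), y⁻¹ * u ∈ P.cmp z ∧ s * u * s⁻¹ = u⁻¹ := by
  classical
  haveI := Fintype.ofFinite G
  set M := Subgroup.normalizer (P.cmp z : Set G) with hM
  set X := P.cmp z with hX
  haveI := Fintype.ofFinite (G ⧸ M)
  haveI : (X.subgroupOf M).Normal := Subgroup.normal_in_normalizer
  let I := {i : G // i ≠ 1 ∧ i * i = 1}
  let IX := {i : X // i ≠ 1 ∧ i * i = 1}
  let Mb := M ⧸ X.subgroupOf M
  -- number of involutions of `X`
  have hzM : ∀ m : M, (m : G) * z * (m : G)⁻¹ ∈ X := fun m => (Subgroup.mem_normalizer_iff.1 m.2 z).1 (P.mem z)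
  let e₀ : M → IX := fun m => ⟨⟨(m : G) * z * (m : G)⁻¹, hzM m⟩,
    fun e => C.ne_one (by simpa using congrArg Subtype.val e), Subtype.ext (by
      show (m : G) * z * (m : G)⁻¹ * ((m : G) * z * (m : G)⁻¹) = 1
      rw [show (m : G) * z * (m : G)⁻¹ * ((m : G) * z * (m : G)⁻¹) = (m : G) * (z * z) * (m : G)⁻¹ by group,
        C.invol, mul_one, mul_inv_cancel])⟩
  have he₀ : ∀ a b : M, e₀ a = e₀ b ↔ (a : Mb) = b := by
    intro a b
    rw [QuotientGroup.eq, Subgroup.mem_subgroupOf]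
    constructor
    · intro e
      have e' : (a : G) * z * (a : G)⁻¹ = (b : G) * z * (b : G)⁻¹ := congrArg (fun w : IX => (w.1 : G)) e
      refine C.inner _ ?_
      show (a : G)⁻¹ * b * z = z * ((a : G)⁻¹ * b)
      calc (a : G)⁻¹ * b * z = (a : G)⁻¹ * ((b : G) * z * (b : G)⁻¹) * b := by group
        _ = z * ((a : G)⁻¹ * b) := by rw [← e']; group
    · intro h
      have hc : Commute ((a : G)⁻¹ * b) z := C.central_self C.invol (P.mem z) _ h
      refine Subtype.ext (Subtype.ext ?_)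
      show (a : G) * z * (a : G)⁻¹ = (b : G) * z * (b : G)⁻¹
      calc (a : G) * z * (a : G)⁻¹ = (a : G) * (z * ((a : G)⁻¹ * b)) * (b : G)⁻¹ := by group
        _ = (b : G) * z * (b : G)⁻¹ := by rw [← hc.eq]; group
  let E : Mb ≃ IX := Equiv.ofBijective (fun q => e₀ q.out)
    ⟨fun a b e => by rw [← QuotientGroup.out_eq' a, ← QuotientGroup.out_eq' b]; exact (he₀ _ _).1 e, by
      rintro ⟨⟨v, hv⟩, hv1, hv2⟩
      obtain ⟨m, hm, hmv⟩ := C.conj_in C.ne_one C.invol (P.mem z) (fun e => hv1 (Subtype.ext e))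
        (congrArg Subtype.val hv2) hv
      refine ⟨((⟨m, hm⟩ : M) : Mb), ((he₀ _ ⟨m, hm⟩).2 (QuotientGroup.out_eq' _)).trans ?_⟩
      exact Subtype.ext (Subtype.ext hmv)⟩
  -- the coset of `s`
  have hsq : ((s : G ⧸ M)) ≠ (1 : G) := fun e => hsm (by simpa using QuotientGroup.eq.1 e.symm)
  let F : (q : G ⧸ M) → Type u := fun q => {i : I // ((i.1 : G) : G ⧸ M) = q}
  have hfib : ∀ q : G ⧸ M, Nat.card (F q) ≤ Nat.card IX := by
    intro q
    by_cases hq : q = ((1 : G) : G ⧸ M)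
    · refine Nat.card_le_card_of_injective (fun i : F q => (⟨⟨(i.1.1 : G), C.mem_of_normalizer i.1.2.2 (by
        simpa using QuotientGroup.eq.1 (hq.symm.trans i.2.symm))⟩,
        fun e => i.1.2.1 (congrArg Subtype.val e), Subtype.ext i.1.2.2⟩ : IX)) ?_
      intro a b e
      exact Subtype.ext (Subtype.ext (congrArg (fun w : IX => (w.1 : G)) e))
    · by_cases hne : Nonempty (F q)
      · obtain ⟨i₀⟩ := hne
        rw [← Nat.card_congr E]
        have hi₀M : (i₀.1.1 : G) ∉ M := fun h => hq (by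
          rw [← i₀.2, QuotientGroup.eq]; simpa using M.inv_mem h)
        have hmem : ∀ i : F q, (i₀.1.1 : G)⁻¹ * i.1.1 ∈ M := fun i => QuotientGroup.eq.1 (i₀.2.trans i.2.symm)
        refine Nat.card_le_card_of_injective (fun i : F q => ((⟨_, hmem i⟩ : M) : Mb)) ?_
        intro a b e
        have h1 := QuotientGroup.eq.1 e
        rw [Subgroup.mem_subgroupOf] at h1
        refine Subtype.ext (Subtype.ext (C.card_fibre_le _ i₀.1.2.2 hi₀M _ _ a.1.2.2 b.1.2.2 ?_ (hmem a)))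
        simpa [mul_assoc] using h1
      · simp only [not_nonempty_iff] at hne
        simp
  have htot : ∑ q : G ⧸ M, Nat.card (F q) = Fintype.card (G ⧸ M) * Nat.card IX := by
    rw [← Nat.card_sigma, ← Nat.card_eq_fintype_card (α := G ⧸ M), ← Subgroup.index_eq_card, ← C.card_count]
    exact Nat.card_congr (Equiv.sigmaFiberEquiv fun i : I => ((i.1 : G) : G ⧸ M))
  have hfull : Nat.card (F (s : G ⧸ M)) = Nat.card IX := by
    refine ((Finset.sum_eq_sum_iff_of_le fun q _ => hfib q).1 ?_) _ (Finset.mem_univ _)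
    rw [htot, Finset.sum_const, Finset.card_univ, smul_eq_mul]
  have hmem : ∀ i : F (s : G ⧸ M), s⁻¹ * i.1.1 ∈ M := fun i => QuotientGroup.eq.1 i.2.symm
  let κ : F (s : G ⧸ M) → Mb := fun i => ((⟨_, hmem i⟩ : M) : Mb)
  have hκ : Function.Injective κ := by
    intro a b e
    have h1 := QuotientGroup.eq.1 e
    rw [Subgroup.mem_subgroupOf] at h1
    refine Subtype.ext (Subtype.ext (C.card_fibre_le s hs hsm _ _ a.1.2.2 b.1.2.2 ?_ (hmem a)))
    simpa [mul_assoc] using h1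
  have hbij : Function.Bijective κ := (Nat.bijective_iff_injective_and_card κ).2
    ⟨hκ, hfull.trans (Nat.card_congr E).symm⟩
  obtain ⟨i, hi⟩ := hbij.2 ((⟨y, hy⟩ : M) : Mb)
  refine ⟨s⁻¹ * i.1.1, hmem i, ?_, ?_⟩
  · have h1 := QuotientGroup.eq.1 hi.symm
    rw [Subgroup.mem_subgroupOf] at h1
    exact h1
  · rw [mul_inv_rev, inv_inv, inv_eq_of_mul_eq_one_right i.1.2.2, inv_eq_of_mul_eq_one_right hs,
      ← mul_assoc, hs, one_mul]

/-- The member is a CC-subgroup. -/
theorem cc {x : G} (hx : x ∈ P.cmp z) (hx1 : x ≠ 1) : Subgroup.centralizer ({x} : Set G) ≤ P.cmp z := by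
  classical
  intro y hy
  have hyc : Commute y x := Subgroup.mem_centralizer_singleton_iff.1 hy
  by_contra hyX
  set M := Subgroup.normalizer (P.cmp z : Set G) with hM
  have ex := P.eq_of_mem z x C.ne_one hx1 hx
  have hyM : y ∈ M := by
    have := P.mem_normalizer_of_commute hx1 hyc
    rwa [ex] at this
  have hyne : y ∉ P.cmp x := ex ▸ hyX
  have hp := P.prime_orderOf hyc.symm hx1 hyne
  have hord := P.orderOf_eq hyc.symm hx1 hyne
  set p := orderOf x with hp'
  haveI := Fact.mk hp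
  have hp2 : p ≠ 2 := by
    intro e
    refine hyX (C.mem_of_normalizer ?_ hyM)
    rw [← pow_two, ← e, ← hord, pow_orderOf_eq_one]
  obtain ⟨s, hs, hsm⟩ := C.exists_outside
  have hs1 : s ≠ 1 := fun e => hsm (e ▸ one_mem _)
  obtain ⟨u, huM, huy, hsu⟩ := C.inverted_rep hs hsm hyM
  have huX : u ∉ P.cmp z := fun h => hyX (by
    have h1 := (P.cmp z).mul_mem h ((P.cmp z).inv_mem huy)
    simpa [mul_assoc] using h1)
  haveI : ((P.cmp z).subgroupOf M).Normal := Subgroup.normal_in_normalizer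
  have hup : u ^ p ∈ P.cmp z := by
    have e : ((⟨u, huM⟩ : M) : M ⧸ (P.cmp z).subgroupOf M) = ((⟨y, hyM⟩ : M) : M ⧸ (P.cmp z).subgroupOf M) :=
      (QuotientGroup.eq.2 (show (⟨y, hyM⟩ : M)⁻¹ * ⟨u, huM⟩ ∈ (P.cmp z).subgroupOf M from huy)).symm
    have h1 : ((⟨u, huM⟩ : M) ^ p) ∈ (P.cmp z).subgroupOf M := by
      rw [← QuotientGroup.eq_one_iff, QuotientGroup.mk_pow, e, ← QuotientGroup.mk_pow,
        QuotientGroup.eq_one_iff]
      show y ^ p ∈ P.cmp z
      rw [← hord, pow_orderOf_eq_one]; exact one_mem _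
    exact h1
  have huo := C.ord_out huM huX hp hup
  have hu1 : u ≠ 1 := fun e => huX (e ▸ one_mem _)
  have hu2 : u * u ≠ 1 := fun e => hp2 (by
    have := orderOf_dvd_of_pow_eq_one (show u ^ 2 = 1 by rw [pow_two, e])
    rw [huo] at this
    exact (Nat.prime_dvd_prime_iff_eq hp Nat.prime_two).1 this)
  obtain ⟨b, hb, hb1, hbu⟩ := exists_commute_of_dvd_card ((P.cmp z).subgroupOf M) hp
    (u := (⟨u, huM⟩ : M)) (by rw [Subgroup.orderOf_mk, huo])
    (by rw [Nat.card_congr (Subgroup.subgroupOfEquivOfLe Subgroup.le_normalizer).toEquiv]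
        exact Subgroup.orderOf_dvd_natCard _ hx)
  have hbu' : Commute u (b : G) := congrArg Subtype.val hbu
  -- a fixed point of `s` on `C(u)`
  let Cu := Subgroup.centralizer ({u} : Set G)
  have hnorm : ∀ h ∈ Cu, s * h * s⁻¹ ∈ Cu := by
    intro h hh
    have hc : Commute h u := Subgroup.mem_centralizer_singleton_iff.1 hh
    refine Subgroup.mem_centralizer_singleton_iff.2 ?_
    have h1 : Commute (s * h * s⁻¹) (s * u * s⁻¹) := by
      show s * h * s⁻¹ * (s * u * s⁻¹) = s * u * s⁻¹ * (s * h * s⁻¹)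
      calc s * h * s⁻¹ * (s * u * s⁻¹) = s * (h * u) * s⁻¹ := by group
        _ = s * (u * h) * s⁻¹ := by rw [hc.eq]
        _ = s * u * s⁻¹ * (s * h * s⁻¹) := by group
    rw [hsu] at h1
    simpa using h1.inv_right.eq
  obtain ⟨c, hc, hcs, hc1⟩ : ∃ c ∈ Cu, Commute s c ∧ c ≠ 1 := by
    by_contra hno
    push Not at hno
    have hinv := inverted_of_no_fixed hs hnorm fun h hh hc => hno h hh hc
    have h1 := hinv (b : G) (Subgroup.mem_centralizer_singleton_iff.2 hbu'.symm.eq)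
    have hb1' : (b : G) ≠ 1 := fun e => hb1 (Subtype.ext e)
    refine hsm ?_
    have eb := P.eq_of_mem z (b : G) C.ne_one hb1' hb
    have hn := P.mem_normalizer hb1' (show s * (b : G) * s⁻¹ ∈ P.cmp (b : G) by
      rw [h1]; exact (P.cmp _).inv_mem (P.mem _))
    rwa [eb] at hn
  obtain ⟨hIs, hcent⟩ := C.central_all hs1 hs
  have hcm : c ∈ P.cmp s := hIs c hcs.symm
  have ec := P.eq_of_mem s c hs1 hc1 hcm
  have hun : u ∈ Subgroup.normalizer (P.cmp c : Set G) :=
    P.mem_normalizer_of_commute hc1 (show Commute c u from Subgroup.mem_centralizer_singleton_iff.1 hc).symm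
  rw [ec] at hun
  have h1 : u * u ∈ P.cmp s := by
    have h2 := (P.cmp s).mul_mem ((Subgroup.mem_normalizer_iff.1 hun s).1 (P.mem s)) ((P.cmp s).inv_mem (P.mem s))
    have e : u * s * u⁻¹ * s⁻¹ = u * u := by
      rw [show u * s * u⁻¹ * s⁻¹ = u * (s * u * s⁻¹)⁻¹ by group, hsu, inv_inv]
    rwa [e] at h2
  have hcom : Commute (u * u) s := hcent _ h1
  have hu : u ∈ P.cmp s := by
    have := P.cmp_pow (g := u) (k := 2) (by rwa [pow_two])
    rw [pow_two, P.eq_of_mem s _ hs1 hu2 h1] at this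
    exact this ▸ P.mem u
  have hcu : Commute u s := hcent u hu
  rw [← hcu.eq, mul_inv_cancel_right] at hsu
  exact hu2 (by nth_rewrite 2 [hsu]; exact mul_inv_cancel u)

theorem concl : (∃ (F : Type) (_ : Field F) (_ : Fintype F),
    Nonempty (G ≃* Matrix.ProjectiveSpecialLinearGroup (Fin 2) F)) ∨ Cfsg.Lie.IsoSuzuki G := by
  haveI := C.simple
  haveI := C.nilpotent
  have hti : ∀ (x g : G), x ∈ P.cmp z → x ≠ 1 → g * x * g⁻¹ ∈ P.cmp z →
      g ∈ Subgroup.normalizer (P.cmp z : Set G) := by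
    intro x g hx hx1 hg
    have e := P.eq_of_mem z x C.ne_one hx1 hx
    have := P.mem_normalizer hx1 (a := g) (e.symm ▸ hg)
    rwa [e] at this
  obtain ⟨-, Ω, _, _, hZ⟩ := CIT21Frob5.main_of_nilpotent C.nonab (P.cmp z) (even_iff_two_dvd.2
    (orderOf_invol C.ne_one C.invol ▸ Subgroup.orderOf_dvd_natCard _ (P.mem z)))
    (fun x hx hx1 => C.cc hx hx1) hti
  exact SuzukiUniq67.psl2_or_isoSuzuki hZ

end SECtx

end Cfsg.Agent.Part11
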