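import Mathlib
import Cfsg.Agent.Lib.Part11Tools

/-!
# Displacements on a normal commutative subgroup
-/

set_option autoImplicit false

namespace Cfsg.Agent.Part11

variable {G : Type*} [Group G] [Finite G]

/-- The hypotheses on a module: a normal commutative subgroup of exponent `p`. -/
structure Elem (p : ℕ) (A : Subgroup G) : Prop where
  normal : A.Normal
  comm : ∀ a ∈ A, ∀ b ∈ A, a * b = b * a
  exp : ∀ a ∈ A, a ^ p = 1

namespace Elem

variable {p : ℕ} {A : Subgroup G}

theorem conj_pow_mem (hA : Elem p A) (z : G) {v : G} (hv : v ∈ A) (i : ℕ) :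
    z ^ i * v * (z ^ i)⁻¹ ∈ A :=
  hA.normal.conj_mem v hv _

theorem orderOf_eq [Fact p.Prime] (hA : Elem p A) {v : G} (hv : v ∈ A) (h1 : v ≠ 1) : orderOf v = p :=
  orderOf_eq_prime (hA.exp v hv) h1

/-- The orbit product, when `z ^ n` fixes `v`. -/
theorem norm_commute (hA : Elem p A) (z : G) {v : G} (hv : v ∈ A) (n : ℕ)
    (hn : z ^ n * v * (z ^ n)⁻¹ = v) :
    ((List.range n).map fun i => z ^ i * v * (z ^ i)⁻¹).prod ∈ A ∧
      Commute z ((List.range n).map fun i => z ^ i * v * (z ^ i)⁻¹).prod := by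
  set w := ((List.range n).map fun i => z ^ i * v * (z ^ i)⁻¹).prod with hw
  have hwA : w ∈ A := list_prod_mem fun x hx => by
    obtain ⟨i, -, rfl⟩ := List.mem_map.1 hx
    exact hA.conj_pow_mem z hv i
  have hshift : z * w * z⁻¹ = ((List.range n).map fun i => z ^ (i + 1) * v * (z ^ (i + 1))⁻¹).prod := by
    rw [hw, ← MulAut.conj_apply, map_list_prod, List.map_map]
    congr 1
    refine List.map_congr_left fun i _ => ?_
    show MulAut.conj z (z ^ i * v * (z ^ i)⁻¹) = _
    rw [MulAut.conj_apply, pow_succ']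
    group
  refine ⟨hwA, mul_inv_eq_iff_eq_mul.1 ?_⟩
  rw [hshift]
  have h1 : ((List.range (n + 1)).map fun i => z ^ i * v * (z ^ i)⁻¹).prod = w * v := by
    rw [List.range_succ, List.map_append, List.prod_append, List.map_singleton, List.prod_singleton, hn]
  rw [List.range_succ_eq_map, List.map_cons, List.prod_cons, List.map_map] at h1
  simp only [pow_zero, one_mul, inv_one, mul_one] at h1
  rw [hA.comm w hwA v hv] at h1
  exact mul_left_cancel h1

/-- Coprime action: a subgroup containing the displacements and the fixed points contains the module. -/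
theorem le_of_displace [Fact p.Prime] (hA : Elem p A) {r : G} (hr : ¬ p ∣ orderOf r) {W : Subgroup G}
    (hd : ∀ v ∈ A, r * v * r⁻¹ * v⁻¹ ∈ W) (hf : ∀ v ∈ A, Commute r v → v ∈ W) : A ≤ W := by
  intro v hv
  set m := orderOf r with hm
  have hi : ∀ i : ℕ, r ^ i * v * (r ^ i)⁻¹ * v⁻¹ ∈ W := by
    intro i
    induction i with
    | zero => simpa using W.one_mem
    | succ i ih =>
      have := W.mul_mem (hd _ (hA.conj_pow_mem r hv i)) ih
      rw [pow_succ']
      simpa [mul_assoc] using this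
  have hj : ∀ j : ℕ, ((List.range j).map fun i => r ^ i * v * (r ^ i)⁻¹).prod * (v ^ j)⁻¹ ∈ W := by
    intro j
    induction j with
    | zero => simpa using W.one_mem
    | succ j ih =>
      rw [List.range_succ, List.map_append, List.prod_append, List.map_singleton, List.prod_singleton]
      have hc : Commute (r ^ j * v * (r ^ j)⁻¹ * v⁻¹) (v ^ j)⁻¹ :=
        hA.comm _ (A.mul_mem (hA.conj_pow_mem r hv j) (A.inv_mem hv)) _ (A.inv_mem (A.pow_mem hv j))
      have := W.mul_mem ih (hi j)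
      rw [mul_assoc, ← hc.eq] at this
      rw [pow_succ, mul_inv_rev]
      simpa [mul_assoc] using this
  obtain ⟨hwA, hwc⟩ := hA.norm_commute r hv m (by rw [hm, pow_orderOf_eq_one]; simp)
  have hw := hf _ hwA hwc
  have hvm : v ^ m ∈ W := by
    have := W.mul_mem (W.inv_mem (hj m)) hw
    simpa [mul_assoc] using this
  have hco : (orderOf v).Coprime m := by
    by_cases h1 : v = 1
    · simp [h1]
    rw [hA.orderOf_eq hv h1]
    exact (Fact.out : p.Prime).coprime_iff_not_dvd.2 hr
  obtain ⟨j, hj'⟩ := exists_pow_eq_self_of_coprime (x := v) (n := m) hco.symm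
  exact hj' ▸ W.pow_mem hvm j

end Elem

/-- A prime power order element fixes a non-identity element of a normal non-trivial `p`-subgroup. -/
theorem exists_commute_of_pGroup {p : ℕ} [Fact p.Prime] (A : Subgroup G) [A.Normal] (hA : IsPGroup p A)
    (hA1 : A ≠ ⊥) {g : G} (hg : ∃ j : ℕ, g ^ p ^ j = 1) : ∃ x ∈ A, x ≠ 1 ∧ Commute g x := by
  let T := Subgroup.zpowers g
  letI : MulAction T A := MulAction.compHom A ((MulAut.conjNormal (H := A)).comp T.subtype)
  have hsm : ∀ (a : T) (x : A), ((a • x : A) : G) = (a : G) * (x : G) * (a : G)⁻¹ := fun a x =>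
    MulAut.conjNormal_apply (a : G) x
  have hT : IsPGroup p T := by
    obtain ⟨j, hj⟩ := hg
    obtain ⟨k, -, hk⟩ := (Nat.dvd_prime_pow Fact.out).1 (orderOf_dvd_of_pow_eq_one hj)
    exact IsPGroup.of_card (n := k) (by rw [Nat.card_zpowers, hk])
  have hd : p ∣ Nat.card A := by
    obtain ⟨n, hn⟩ := hA.exists_card_eq
    rcases Nat.eq_zero_or_pos n with rfl | h
    · exact absurd (Subgroup.card_eq_one.1 (by simpa using hn)) hA1
    · exact hn ▸ dvd_pow_self p h.ne'
  have h1 : (1 : A) ∈ MulAction.fixedPoints T A := fun a => Subtype.ext (by simp [hsm])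
  obtain ⟨x, hx, hx1⟩ := hT.exists_fixed_point_of_prime_dvd_card_of_fixed_point A hd h1
  refine ⟨x, x.2, fun e => hx1 (Subtype.ext (by simp [e])), ?_⟩
  exact mul_inv_eq_iff_eq_mul.1
    ((hsm ⟨g, Subgroup.mem_zpowers g⟩ x).symm.trans (congrArg Subtype.val (hx ⟨g, Subgroup.mem_zpowers g⟩)))

/-- The prime-to-`p` part. -/
theorem exists_split (g : G) {p : ℕ} (hp : p.Prime) :
    ∃ j m : ℕ, ¬ p ∣ m ∧ orderOf g = p ^ j * m ∧ (g ^ m) ^ p ^ j = 1 ∧ orderOf (g ^ p ^ j) = m := by
  refine ⟨(orderOf g).factorization p, ordCompl[p] (orderOf g),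
    Nat.not_dvd_ordCompl hp (orderOf_pos g).ne', (Nat.ordProj_mul_ordCompl_eq_self _ p).symm, ?_, ?_⟩
  · rw [← pow_mul, mul_comm, Nat.ordProj_mul_ordCompl_eq_self, pow_orderOf_eq_one]
  · rw [orderOf_pow_of_dvd (pow_ne_zero _ hp.ne_zero) (Nat.ordProj_dvd _ p)]

theorem orderOf_eq_pow {g : G} {p j : ℕ} (hp : p.Prime) (h : g ^ p ^ j = 1) : ∃ i, orderOf g = p ^ i := by
  obtain ⟨i, -, hi⟩ := (Nat.dvd_prime_pow hp).1 (orderOf_dvd_of_pow_eq_one h)
  exact ⟨i, hi⟩

end Cfsg.Agent.Part11
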