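import Mathlib
import Cfsg.Agent.Lib.Part11Basic
import Cfsg.Agent.Lib.Part11Tools
import Cfsg.Agent.Lib.BaerSuzuki
import Cfsg.Agent.S0205

/-!
# A partition with a normal member

Such a group has a proper Hughes subgroup or is a Frobenius group.
-/

set_option autoImplicit false

open scoped Pointwise

namespace Cfsg.Agent.Part11

universe u

variable {G : Type u} [Group G] [Finite G]

/-- The conclusion reached for groups with a normal member or a non-trivial soluble radical. -/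
def Small (G : Type u) [Group G] : Prop :=
  (∃ p : ℕ, p.Prime ∧ Subgroup.closure {g : G | g ^ p ≠ 1} ≠ ⊤) ∨
    (∃ H : Subgroup G, Cfsg.IsFrobeniusComplement H)

/-- The structure of the quotient by a normal member. -/
structure KCtx (P : NPart G) (X : Subgroup G) : Prop where
  normal : X.Normal
  ne_top : X ≠ ⊤
  ne_bot : X ≠ ⊥
  cmp_eq : ∀ x ∈ X, x ≠ 1 → P.cmp x = X

namespace KCtx

variable {P : NPart G} {X : Subgroup G} (K : KCtx P X)
include K

theorem outside {z x : G} (hz : z ∉ X) (hx : x ∈ X) (hx1 : x ≠ 1) (hc : Commute z x) :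
    (orderOf z).Prime ∧ orderOf x = orderOf z := by
  have hz1 : z ≠ 1 := fun e => hz (e ▸ one_mem _)
  have hm : x ∉ P.cmp z := fun h => hz (by
    have := P.mem_comm hz1 hx1 h
    rwa [K.cmp_eq x hx hx1] at this)
  exact ⟨P.prime_orderOf hc hz1 hm, P.orderOf_eq hc hz1 hm⟩

theorem orderOf_eq {z : G} (hz : z ∉ X) {r : ℕ} (hr : r.Prime) (hrX : r ∣ Nat.card X)
    (hrz : r ∣ orderOf z) : orderOf z = r := by
  have := K.normal
  obtain ⟨k, hk⟩ := exists_pow_orderOf_eq hrz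
  have hu1 : z ^ k ≠ 1 := fun e => hr.ne_one (by rw [← hk, e, orderOf_one])
  by_cases hu : z ^ k ∈ X
  · rw [← (K.outside hz hu hu1 (Commute.self_pow z k)).2, hk]
  obtain ⟨x, hx, hx1, hcx⟩ := exists_commute_of_dvd_card X hr hk hrX
  by_contra hne
  have hc : Commute (z ^ k) (x * z) := hcx.mul_right (Commute.pow_self z k)
  have hxz : x * z ∉ X := fun h => hz ((X.mul_mem_cancel_left hx).1 h)
  have hord : orderOf (x * z) ≠ orderOf (z ^ k) := by
    intro e
    have h1 : (x * z) ^ r = 1 := by rw [← hk, ← e, pow_orderOf_eq_one]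
    have h2 : z ^ r ∈ X := by
      rw [← QuotientGroup.eq_one_iff (N := X), QuotientGroup.mk_pow,
        show ((z : G ⧸ X)) = ((x * z : G) : G ⧸ X) by
          rw [QuotientGroup.mk_mul, (QuotientGroup.eq_one_iff x).2 hx, one_mul],
        ← QuotientGroup.mk_pow, h1, QuotientGroup.mk_one]
    have h3 : z ^ r ≠ 1 := fun e' => hne (orderOf_eq_prime (hp := ⟨hr⟩) e' fun e1 => hz (e1 ▸ one_mem _))
    obtain ⟨hp, -⟩ := K.outside hz h2 h3 (Commute.self_pow z r)
    exact hne ((Nat.prime_dvd_prime_iff_eq hr hp).1 hrz).symm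
  have hm1 : x * z ∈ P.cmp (z ^ k) := P.mem_of_orderOf_ne hc hu1 hord
  have hm2 : z ∈ P.cmp (z ^ k) := P.mem_of_orderOf_ne (Commute.pow_self z k) hu1 (by rw [hk]; exact hne)
  have hxm : x ∈ P.cmp (z ^ k) := ((P.cmp (z ^ k)).mul_mem_cancel_right hm2).1 hm1
  have e : P.cmp (z ^ k) = X := by rw [← P.eq_of_mem _ x hu1 hx1 hxm, K.cmp_eq x hx hx1]
  exact hu (e ▸ P.mem _)

/-- All lifts of a quotient element whose order has a prime factor of `|X|` have that order. -/
theorem orderOf_lift [X.Normal] {z : G} {r : ℕ} (hr : r.Prime) (hrX : r ∣ Nat.card X)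
    (hrz : r ∣ orderOf (z : G ⧸ X)) : orderOf z = r ∧ orderOf (z : G ⧸ X) = r := by
  have hz : z ∉ X := fun h => by
    rw [(QuotientGroup.eq_one_iff z).2 h, orderOf_one, Nat.dvd_one] at hrz
    exact hr.ne_one hrz
  have hd : orderOf (z : G ⧸ X) ∣ orderOf z := orderOf_map_dvd (QuotientGroup.mk' X) z
  have h1 := K.orderOf_eq hz hr hrX (hrz.trans hd)
  exact ⟨h1, Nat.dvd_antisymm (h1 ▸ hd) hrz⟩

theorem qord [X.Normal] {q : G ⧸ X} {r : ℕ} (hr : r.Prime) (hrX : r ∣ Nat.card X)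
    (hrq : r ∣ orderOf q) : orderOf q = r := by
  induction q using QuotientGroup.induction_on with
  | H z => exact (K.orderOf_lift hr hrX hrq).2

/-- Elements commuting with an element of such an order have exponent `r`. -/
theorem qcomm [X.Normal] {y q : G ⧸ X} {r : ℕ} (hr : r.Prime) (hrX : r ∣ Nat.card X)
    (hy : orderOf y = r) (hc : Commute y q) : q ^ r = 1 := by
  by_cases hd : r ∣ orderOf q
  · rw [← K.qord hr hrX hd, pow_orderOf_eq_one]
  have hco : (orderOf y).Coprime (orderOf q) := by rw [hy]; exact hr.coprime_iff_not_dvd.2 hd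
  have h1 := hc.orderOf_mul_eq_mul_orderOf_of_coprime hco
  have h2 := K.qord (q := y * q) hr hrX (by rw [h1, hy]; exact dvd_mul_right _ _)
  rw [h1, hy] at h2
  have h3 : orderOf q = 1 := Nat.eq_of_mul_eq_mul_left hr.pos (by simpa using h2)
  rw [orderOf_eq_one_iff.1 h3, one_pow]

theorem isNilpotent {z : G} (hz : z ∉ X) {r : ℕ} (hr : r.Prime) (hrX : r ∣ Nat.card X)
    (hrz : r ∣ orderOf z) : Group.IsNilpotent X := by
  have := K.normal
  have ho := K.orderOf_eq hz hr hrX hrz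
  have hq : orderOf (z : G ⧸ X) = r := by
    refine (hr.eq_one_or_self_of_dvd _ (ho ▸ orderOf_map_dvd (QuotientGroup.mk' X) z)).resolve_left ?_
    intro e
    exact hz ((QuotientGroup.eq_one_iff z).1 (orderOf_eq_one_iff.1 e))
  set H := X ⊔ Subgroup.zpowers z with hH
  have hS : FrobeniusKegel.Split r (X.subgroupOf H) := by
    refine ⟨inferInstance, ?_, ?_⟩
    · show X.relIndex H = r
      rw [hH, sup_comm, Subgroup.relIndex_sup_right, ← Subgroup.inf_relIndex_right]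
      have hb : X ⊓ Subgroup.zpowers z = ⊥ := by
        rw [Subgroup.eq_bot_iff_forall]
        rintro x ⟨hx, hxz⟩
        obtain ⟨i, rfl⟩ := hxz
        have h1 : ((z : G ⧸ X)) ^ i = 1 := by
          rw [← QuotientGroup.mk_zpow]; exact (QuotientGroup.eq_one_iff _).2 hx
        have h2 := orderOf_dvd_iff_zpow_eq_one.2 h1
        rw [hq, ← ho] at h2
        exact orderOf_dvd_iff_zpow_eq_one.1 h2
      rw [hb, Subgroup.relIndex_bot_left, Nat.card_zpowers, ho]
    · intro x hx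
      obtain ⟨a, ha, b, hb, e⟩ := (Subgroup.mem_sup_of_normal_left (s := X) (t := Subgroup.zpowers z)).1 x.2
      obtain ⟨i, rfl⟩ := hb
      refine Subtype.ext ?_
      have h1 : ((x : G) : G ⧸ X) = (z : G ⧸ X) ^ i := by
        rw [← e, QuotientGroup.mk_mul, (QuotientGroup.eq_one_iff a).2 ha, one_mul, QuotientGroup.mk_zpow]
      have h2 : orderOf ((x : G) : G ⧸ X) ∣ r := by
        refine orderOf_dvd_of_pow_eq_one ?_
        rw [h1, ← zpow_natCast, ← zpow_mul, mul_comm, zpow_mul, zpow_natCast, ← hq, pow_orderOf_eq_one,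
          one_zpow]
      have h3 : orderOf ((x : G) : G ⧸ X) = r := (hr.eq_one_or_self_of_dvd _ h2).resolve_left fun e' =>
        hx ((QuotientGroup.eq_one_iff (N := X) (x : G)).1 (orderOf_eq_one_iff.1 e'))
      have h4 := (K.orderOf_lift (z := (x : G)) hr hrX (dvd_of_eq h3.symm)).1
      rw [Subgroup.coe_pow, Subgroup.coe_one, ← h4, pow_orderOf_eq_one]
  exact Group.isNilpotent_congr (Subgroup.subgroupOfEquivOfLe (le_sup_left : X ≤ H)) |>.1 (hS.isNilpotent hr)

/-- An elementary abelian normal subgroup in the centre of `X`. -/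
theorem exists_module [Group.IsNilpotent X] {s : ℕ} (hs : s.Prime) (hsX : s ∣ Nat.card X) :
    ∃ V : Subgroup G, V.Normal ∧ V ≠ ⊥ ∧ V ≤ X ∧ (∀ x ∈ X, ∀ v ∈ V, x * v = v * x) ∧
      ∀ v ∈ V, v ^ s = 1 := by
  have := K.normal
  have := Fact.mk hs
  let A : Subgroup G :=
    { carrier := {a | a ∈ X ∧ ∀ x ∈ X, x * a = a * x}
      one_mem' := ⟨X.one_mem, fun x _ => by simp⟩
      mul_mem' := fun {a b} ha hb => ⟨X.mul_mem ha.1 hb.1, fun x hx => by
        rw [← mul_assoc, ha.2 x hx, mul_assoc, hb.2 x hx, mul_assoc]⟩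
      inv_mem' := fun {a} ha => ⟨X.inv_mem ha.1, fun x hx =>
        ((show Commute x a from ha.2 x hx).inv_right).eq⟩ }
  haveI : A.Normal := ⟨fun a ha g => ⟨K.normal.conj_mem _ ha.1 g, fun x hx => by
    have h := ha.2 _ (K.normal.conj_mem x hx g⁻¹)
    rw [inv_inv] at h
    calc x * (g * a * g⁻¹) = g * (g⁻¹ * x * g * a) * g⁻¹ := by group
    _ = g * (a * (g⁻¹ * x * g)) * g⁻¹ := by rw [h]
    _ = g * a * g⁻¹ * x := by group⟩⟩
  have hsA : s ∣ Nat.card A := by
    let S : Sylow s X := default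
    have hSn : (S : Subgroup X).Normal :=
      (Group.isNilpotent_of_finite_tfae.out 0 3 rfl rfl).mp ‹Group.IsNilpotent X› s inferInstance S
    obtain ⟨c, hc, hc1⟩ := ((S : Subgroup X) ⊓ Subgroup.center X).bot_or_exists_ne_one.resolve_left
      (inf_center_ne_bot _ (S.ne_bot_of_dvd_card hsX))
    have hd : s ∣ orderOf c := by
      obtain ⟨j, hj⟩ := IsPGroup.iff_orderOf.1 S.2 ⟨c, hc.1⟩
      rw [Subgroup.orderOf_mk] at hj
      rcases Nat.eq_zero_or_pos j with rfl | h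
      · exact absurd (orderOf_eq_one_iff.1 (by simpa using hj)) hc1
      · rw [hj]; exact dvd_pow_self s h.ne'
    refine hd.trans ?_
    rw [← Subgroup.orderOf_coe c]
    refine Subgroup.orderOf_dvd_natCard _ ⟨c.2, fun x hx => ?_⟩
    exact congrArg Subtype.val (Subgroup.mem_center_iff.1 hc.2 ⟨x, hx⟩)
  obtain ⟨V, hVn, hV, hVA, hVe⟩ :=
    exists_normal_exponent A (fun a ha b hb => hb.2 a ha.1) hs hsA
  exact ⟨V, hVn, hV, fun v hv => (hVA hv).1, fun x hx v hv => (hVA hv).2 x hx, hVe⟩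

/-- The norms of the quotient kill the module. -/
theorem norm_eq_one [X.Normal] {V : Subgroup G} [hVn : V.Normal] (hVX : V ≤ X)
    (hVc : ∀ x ∈ X, ∀ v ∈ V, x * v = v * x) {q : G ⧸ X} (hq : q ≠ 1) (v : G) (hv : v ∈ V) :
    ((List.range (orderOf q)).map fun i => ((quotConj X V hVc (q ^ i)) ⟨v, hv⟩ : G)).prod = 1 := by
  induction q using QuotientGroup.induction_on with
  | H z =>
  have hz : z ∉ X := fun h => hq ((QuotientGroup.eq_one_iff z).2 h)
  set n := orderOf (z : G ⧸ X) with hn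
  have hfun : (fun i => ((quotConj X V hVc ((z : G ⧸ X) ^ i)) ⟨v, hv⟩ : G)) =
      fun i => z ^ i * v * (z ^ i)⁻¹ := by
    funext i
    rw [← QuotientGroup.mk_pow]
    exact MulAut.conjNormal_apply (z ^ i) ⟨v, hv⟩
  rw [hfun]
  set w := ((List.range n).map fun i => z ^ i * v * (z ^ i)⁻¹).prod with hw
  by_cases hd : ∃ r : ℕ, r.Prime ∧ r ∣ Nat.card X ∧ r ∣ n
  · obtain ⟨r, hr, hrX, hrn⟩ := hd
    obtain ⟨h1, h2⟩ := K.orderOf_lift hr hrX hrn
    have h3 : ((v * z : G) : G ⧸ X) = (z : G ⧸ X) := by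
      rw [QuotientGroup.mk_mul, (QuotientGroup.eq_one_iff v).2 (hVX hv), one_mul]
    obtain ⟨h4, -⟩ := K.orderOf_lift (z := v * z) hr hrX (h3.symm ▸ hrn)
    refine prod_conj_eq ?_ ?_
    · rw [hn, h2, ← h4, pow_orderOf_eq_one]
    · rw [hn, h2, ← h1, pow_orderOf_eq_one]
  · have hwV : w ∈ V := list_prod_mem fun x hx => by
      obtain ⟨i, -, rfl⟩ := List.mem_map.1 hx
      exact hVn.conj_mem _ hv _
    have hzn : z ^ n ∈ X := by
      rw [← QuotientGroup.eq_one_iff (N := X), QuotientGroup.mk_pow, hn, pow_orderOf_eq_one]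
    have hlast : z ^ n * v * (z ^ n)⁻¹ = v := mul_inv_eq_iff_eq_mul.2 (hVc _ hzn v hv)
    have e := FrobeniusKegel.pow_mul_eq z v n
    have hcm : Commute z w := by
      show z * w = w * z
      have hshift : z * w * z⁻¹ = ((List.range n).map fun i => z ^ (i + 1) * v * (z ^ (i + 1))⁻¹).prod := by
        rw [hw, ← MulAut.conj_apply, map_list_prod, List.map_map]
        congr 1
        refine List.map_congr_left fun i _ => ?_
        show MulAut.conj z (z ^ i * v * (z ^ i)⁻¹) = _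
        rw [MulAut.conj_apply, pow_succ']
        group
      have hall : ∀ i j : ℕ, Commute (z ^ i * v * (z ^ i)⁻¹) (z ^ j * v * (z ^ j)⁻¹) := fun i j =>
        hVc _ (hVX (hVn.conj_mem _ hv _)) _ (hVn.conj_mem _ hv _)
      have key : z * w * z⁻¹ = w := by
        rw [hshift]
        have h1 : ((List.range (n + 1)).map fun i => z ^ i * v * (z ^ i)⁻¹).prod = w * v := by
          rw [List.range_succ, List.map_append, List.prod_append, List.map_singleton, List.prod_singleton,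
            hlast]
        rw [List.range_succ_eq_map, List.map_cons, List.prod_cons, List.map_map] at h1
        simp only [pow_zero, one_mul, inv_one, mul_one] at h1
        have h2 : Commute v w := hVc _ (hVX hv) _ hwV
        rw [show w * v = v * w from h2.eq.symm] at h1
        exact mul_left_cancel h1
      exact mul_inv_eq_iff_eq_mul.1 key
    by_contra hw1
    obtain ⟨hp, ho⟩ := K.outside hz (hVX hwV) hw1 hcm
    refine hd ⟨orderOf z, hp, ?_, ?_⟩
    · rw [← ho]; exact Subgroup.orderOf_dvd_natCard _ (hVX hwV)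
    · rcases hp.eq_one_or_self_of_dvd n (orderOf_map_dvd (QuotientGroup.mk' X) z) with e' | e'
      · exact absurd (orderOf_eq_one_iff.1 e') hq
      · exact dvd_of_eq e'.symm

/-- No element of order `p ∣ |X|` acts fixed-point-freely on a non-trivial subgroup of order prime to `p`. -/
theorem no_action [X.Normal] [Group.IsNilpotent X] {y : G ⧸ X} {p : ℕ} (hp : p.Prime)
    (hpX : p ∣ Nat.card X) (hy : orderOf y = p) {R : Subgroup (G ⧸ X)} (hR : R ≠ ⊥)
    (hn : ∀ r ∈ R, y * r * y⁻¹ ∈ R) (hc : ∀ r ∈ R, Commute r y → r = 1) (hpR : ¬ p ∣ Nat.card R) :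
    False := by
  obtain ⟨V, hVn, hV, hVX, hVc, hVe⟩ := K.exists_module hp hpX
  letI : CommGroup V :=
    { (inferInstance : Group V) with mul_comm := fun a b => Subtype.ext (hVc _ (hVX a.2) _ b.2) }
  have hnorm : ∀ q : G ⧸ X, q ≠ 1 → ∀ v : V,
      ∏ i ∈ Finset.range (orderOf q), quotConj X V hVc (q ^ i) v = 1 := by
    intro q hq v
    have h := K.norm_eq_one hVX hVc hq (v : G) v.2
    have e : ∏ i ∈ Finset.range (orderOf q), quotConj X V hVc (q ^ i) v =
        ((List.range (orderOf q)).map fun i => quotConj X V hVc (q ^ i) v).prod := rfl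
    refine Subtype.ext ?_
    rw [e, Subgroup.val_list_prod, List.map_map]
    exact h
  obtain ⟨r₀, hr₀, hr₁⟩ := R.bot_or_exists_ne_one.resolve_left hR
  have hkill : ∀ v : V, ∀ m : ℕ, ¬ p ∣ m → v ^ m = 1 → v = 1 := by
    intro v m hm hvm
    refine orderOf_eq_one_iff.1 (Nat.eq_one_of_dvd_coprimes (hp.coprime_iff_not_dvd.2 hm)
      (orderOf_dvd_of_pow_eq_one (Subtype.ext (by simpa using hVe v v.2)))
      (orderOf_dvd_of_pow_eq_one hvm))
  have hfix : ∀ v : V, (∀ r ∈ R, quotConj X V hVc r v = v) → v = 1 := by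
    intro v h
    refine hkill v (orderOf r₀) (fun hd => hpR (hd.trans (Subgroup.orderOf_dvd_natCard _ hr₀))) ?_
    have h1 := hnorm r₀ hr₁ v
    rw [Finset.prod_congr rfl fun i _ => h _ (R.pow_mem hr₀ i)] at h1
    simpa using h1
  have hall : ∀ v : V, v = 1 := by
    intro v
    refine hkill v _ hpR (frob_sum (quotConj X V hVc) R y hp (by rw [← hy, pow_orderOf_eq_one]) hn hc
      (fun r _ w => ?_) hfix v)
    have ho : orderOf (r * y * r⁻¹) = p := by
      rw [← MulAut.conj_apply, MulEquiv.orderOf_eq, hy]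
    have h1 := hnorm (r * y * r⁻¹) (fun e => hp.ne_one (by rw [← ho, e, orderOf_one])) w
    rwa [ho] at h1
  exact hV (Subgroup.eq_bot_iff_forall _ |>.2 fun v hv => congrArg Subtype.val (hall ⟨v, hv⟩))

/-- The elements of orders dividing `|X|` of the quotient lie in a normal subgroup of prime exponent. -/
def Core (X : Subgroup G) [X.Normal] : Prop :=
  ∃ (p : ℕ) (Y : Subgroup (G ⧸ X)), p.Prime ∧ p ∣ Nat.card X ∧ Y.Normal ∧ (∀ q ∈ Y, q ^ p = 1) ∧
    ∀ (r : ℕ) (q : G ⧸ X), r.Prime → r ∣ Nat.card X → orderOf q = r → r = p ∧ q ∈ Y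

theorem core_even [X.Normal] [Group.IsNilpotent X] (h2 : 2 ∣ Nat.card X) {q₀ : G ⧸ X}
    (hq₀ : orderOf q₀ = 2) : Core X := by
  have hinv : ∀ q : G ⧸ X, orderOf q = 2 → ∃ N : Subgroup (G ⧸ X), N.Normal ∧ IsPGroup 2 N ∧ q ∈ N := by
    intro q hq
    by_contra hno
    obtain ⟨h, h1, ho, hi⟩ := BaerSuzuki.exists_inverted_odd q hq fun N hN hN2 hm => hno ⟨N, hN, hN2, hm⟩
    have hodd : ∀ r ∈ Subgroup.zpowers h, q * r * q⁻¹ = r⁻¹ := by
      rintro r ⟨i, rfl⟩
      show q * h ^ i * q⁻¹ = (h ^ i)⁻¹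
      rw [← conj_zpow, hi, inv_zpow]
    refine K.no_action Nat.prime_two h2 hq (R := Subgroup.zpowers h)
      (by simpa [Subgroup.zpowers_eq_bot] using h1) (fun r hr => hodd r hr ▸ inv_mem hr)
      (fun r hr hc => ?_) ?_
    · exact eq_one_of_inverted (ho.of_dvd_nat (orderOf_dvd_of_mem_zpowers hr)) (hodd r hr) hc
    · rw [Nat.card_zpowers]; exact fun hd => Nat.not_even_iff_odd.2 ho (even_iff_two_dvd.2 hd)
  haveI := Fact.mk Nat.prime_two
  have hsq : ∀ q : G ⧸ X, q * q = 1 → q ≠ 1 → orderOf q = 2 := fun q h h1 =>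
    orderOf_eq_prime (by rw [pow_two]; exact h) h1
  let Y : Subgroup (G ⧸ X) :=
    { carrier := {q | q * q = 1}
      one_mem' := one_mul 1
      inv_mem' := fun {q} (h : q * q = 1) => show q⁻¹ * q⁻¹ = 1 by rw [← mul_inv_rev, h, inv_one]
      mul_mem' := fun {a b} (ha : a * a = 1) (hb : b * b = 1) => by
        show a * b * (a * b) = 1
        by_cases ha1 : a = 1
        · simpa [ha1] using hb
        by_cases hb1 : b = 1
        · simpa [hb1] using ha
        obtain ⟨M, hMn, hM, haM⟩ := hinv a (hsq a ha ha1)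
        obtain ⟨N, hNn, hN, hbN⟩ := hinv b (hsq b hb hb1)
        obtain ⟨j, hj⟩ := IsPGroup.iff_orderOf.1 (hM.to_sup_of_normal_right hN)
          ⟨a * b, Subgroup.mul_mem _ (Subgroup.mem_sup_left haM) (Subgroup.mem_sup_right hbN)⟩
        rw [Subgroup.orderOf_mk] at hj
        rcases Nat.eq_zero_or_pos j with rfl | hj0
        · rw [orderOf_eq_one_iff.1 (show orderOf (a * b) = 1 by simpa using hj), one_mul]
        · have := K.qord (q := a * b) Nat.prime_two h2 (hj ▸ dvd_pow_self 2 hj0.ne')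
          rw [← pow_two, ← this, pow_orderOf_eq_one] }
  have hYn : Y.Normal := ⟨fun q (hq : q * q = 1) g => show g * q * g⁻¹ * (g * q * g⁻¹) = 1 by
    rw [show g * q * g⁻¹ * (g * q * g⁻¹) = g * (q * q) * g⁻¹ by group, hq, mul_one, mul_inv_cancel]⟩
  refine ⟨2, Y, Nat.prime_two, h2, hYn, fun q hq => (pow_two q).trans hq, ?_⟩
  intro r q hr hrX hq
  by_cases hr2 : r = 2
  · subst hr2
    exact ⟨rfl, show q * q = 1 by rw [← pow_two, ← hq, pow_orderOf_eq_one]⟩
  exfalso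
  refine K.no_action hr hrX hq (R := Y) ?_ (fun a ha => hYn.conj_mem a ha q) (fun a ha hc => ?_) ?_
  · intro hb
    have hm : q₀ ∈ Y := show q₀ * q₀ = 1 by rw [← pow_two, ← hq₀, pow_orderOf_eq_one]
    rw [hb, Subgroup.mem_bot] at hm
    rw [hm, orderOf_one] at hq₀
    exact absurd hq₀ (by norm_num)
  · have h1 := orderOf_dvd_of_pow_eq_one (K.qcomm hr hrX hq hc.symm)
    have h2' : orderOf a ∣ 2 := orderOf_dvd_of_pow_eq_one ((pow_two a).trans ha)
    exact orderOf_eq_one_iff.1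
      (Nat.eq_one_of_dvd_coprimes ((Nat.coprime_primes hr Nat.prime_two).2 hr2) h1 h2')
  · intro hd
    obtain ⟨j, hj⟩ := (IsPGroup.iff_card (p := 2)).1
      (fun a : Y => ⟨1, Subtype.ext (by simpa [pow_two] using (show (a : G ⧸ X) * a = 1 from a.2))⟩)
    rw [hj] at hd
    exact hr2 ((Nat.prime_dvd_prime_iff_eq hr Nat.prime_two).1 (hr.dvd_of_dvd_pow hd))

theorem core_inverting [X.Normal] [Group.IsNilpotent X] (h2 : ¬ 2 ∣ Nat.card X) {q₀ : G ⧸ X}
    (hq₀ : orderOf q₀ = 2) {y₀ : G ⧸ X} {p : ℕ} (hp : p.Prime) (hpX : p ∣ Nat.card X)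
    (hy₀ : orderOf y₀ = p) : Core X := by
  induction q₀ using QuotientGroup.induction_on with
  | H z₀ =>
  obtain ⟨k, hk⟩ := exists_pow_orderOf_eq (g := z₀) (r := 2)
    (hq₀ ▸ orderOf_map_dvd (QuotientGroup.mk' X) z₀)
  set z := z₀ ^ k with hzdef
  have hzX : z ∉ X := fun h => h2 (hk ▸ Subgroup.orderOf_dvd_natCard _ h)
  have hzq : orderOf (z : G ⧸ X) = 2 := by
    refine (Nat.prime_two.eq_one_or_self_of_dvd _ (hk ▸ orderOf_map_dvd (QuotientGroup.mk' X) z)).resolve_left ?_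
    exact fun e => hzX ((QuotientGroup.eq_one_iff z).1 (orderOf_eq_one_iff.1 e))
  have hzz : z * z = 1 := by rw [← pow_two, ← hk, pow_orderOf_eq_one]
  have hinvX : ∀ x ∈ X, z * x * z⁻¹ = x⁻¹ := by
    intro x hx
    have hfp : MonoidHom.FixedPointFree (MulAut.conjNormal (H := X) z : X → X) := by
      intro a ha
      by_contra ha1
      have hc : Commute z a := mul_inv_eq_iff_eq_mul.1 (congrArg Subtype.val ha)
      obtain ⟨-, ho⟩ := K.outside hzX a.2 (fun e => ha1 (Subtype.ext e)) hc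
      exact h2 (hk ▸ ho ▸ Subgroup.orderOf_dvd_natCard _ a.2)
    have hinv : Function.Involutive (MulAut.conjNormal (H := X) z : X → X) := by
      intro a
      apply Subtype.ext
      rw [MulAut.conjNormal_apply, MulAut.conjNormal_apply,
        show z * (z * (a : G) * z⁻¹) * z⁻¹ = z * z * a * (z * z)⁻¹ by group, hzz, one_mul, inv_one, mul_one]
    have h := congrFun (MonoidHom.FixedPointFree.coe_eq_inv_of_involutive
      (φ := MulAut.conjNormal (H := X) z) hfp hinv) ⟨x, hx⟩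
    simpa using congrArg Subtype.val h
  let C := Subgroup.centralizer (X : Set G)
  haveI hCn : C.Normal := inferInstance
  set Y := C.map (QuotientGroup.mk' X) with hY
  haveI hYn : Y.Normal := hCn.map _ (QuotientGroup.mk'_surjective X)
  have hcomY : ∀ q : G ⧸ X, (z : G ⧸ X) * q * (z : G ⧸ X)⁻¹ * q⁻¹ ∈ Y := by
    intro q
    induction q using QuotientGroup.induction_on with
    | H g =>
    refine ⟨z * g * z⁻¹ * g⁻¹, ?_, by simp⟩
    show z * g * z⁻¹ * g⁻¹ ∈ C
    rw [Subgroup.mem_centralizer_iff]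
    intro x hx
    have hx' : g⁻¹ * x * g ∈ X := by simpa using K.normal.conj_mem x hx g⁻¹
    have e1 : z⁻¹ * (g⁻¹ * x * g) * z = (g⁻¹ * x * g)⁻¹ := by
      have := hinvX _ hx'
      rwa [inv_eq_of_mul_eq_one_right hzz] at this ⊢
    have e2 : z * g * z⁻¹ * g⁻¹ * x * (z * g * z⁻¹ * g⁻¹)⁻¹ = x := by
      calc z * g * z⁻¹ * g⁻¹ * x * (z * g * z⁻¹ * g⁻¹)⁻¹
          = z * (g * (z⁻¹ * (g⁻¹ * x * g) * z) * g⁻¹) * z⁻¹ := by group
        _ = z * x⁻¹ * z⁻¹ := by rw [e1]; group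
        _ = x := by rw [hinvX _ (X.inv_mem hx), inv_inv]
    exact (mul_inv_eq_iff_eq_mul.1 e2).symm
  have hYne : ∃ g ∈ C, g ∉ X := by
    by_contra hno
    push Not at hno
    have hy1 : (z : G ⧸ X) * y₀ * (z : G ⧸ X)⁻¹ * y₀⁻¹ = 1 := by
      obtain ⟨g, hg, e⟩ := hcomY y₀
      rw [← e]
      exact (QuotientGroup.eq_one_iff g).2 (hno g hg)
    have hc : Commute y₀ (z : G ⧸ X) := (mul_inv_eq_iff_eq_mul.1 (mul_inv_eq_one.1 hy1)).symm
    have := orderOf_dvd_of_pow_eq_one (K.qcomm hp hpX hy₀ hc)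
    rw [hzq] at this
    exact h2 (this.trans hpX)
  obtain ⟨g, hgC, hgX⟩ := hYne
  have hexp : ∀ r : ℕ, r.Prime → r ∣ Nat.card X → r = orderOf g := by
    intro r hr hrX
    have := Fact.mk hr
    obtain ⟨x, hx⟩ := exists_prime_orderOf_dvd_card' r hrX
    have hx1 : (x : G) ≠ 1 := fun e => hr.ne_one (by rw [← hx, ← Subgroup.orderOf_coe, e, orderOf_one])
    rw [← (K.outside hgX x.2 hx1 (Subgroup.mem_centralizer_iff.1 hgC x x.2).symm).2, Subgroup.orderOf_coe, hx]
  have hp' := hexp p hp hpX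
  have hYp : ∀ q ∈ Y, q ^ p = 1 := by
    rintro q ⟨c, hc, rfl⟩
    by_cases hcX : c ∈ X
    · rw [QuotientGroup.mk'_apply, (QuotientGroup.eq_one_iff c).2 hcX, one_pow]
    obtain ⟨x, hx, hx1⟩ := X.bot_or_exists_ne_one.resolve_left K.ne_bot
    obtain ⟨hcp, ho⟩ := K.outside hcX hx hx1 (Subgroup.mem_centralizer_iff.1 hc x hx).symm
    have : orderOf c = p := by
      rw [hp', ← hexp _ hcp (ho ▸ Subgroup.orderOf_dvd_natCard _ hx)]
    rw [← map_pow, ← this, pow_orderOf_eq_one, map_one]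
  refine ⟨p, Y, hp, hpX, hYn, hYp, ?_⟩
  intro r y hr hrX hy
  have hrp : r = p := (hexp r hr hrX).trans hp'.symm
  subst hrp
  refine ⟨rfl, ?_⟩
  by_contra hyY
  have hp2 : r ≠ 2 := fun e => h2 (e ▸ hrX)
  have hcz : ∀ q ∈ Y, Commute q (z : G ⧸ X) → q = 1 := by
    intro q hq hc
    by_contra hq1
    have h := orderOf_dvd_of_pow_eq_one (K.qcomm hr hrX (orderOf_eq_prime (hp := ⟨hr⟩) (hYp q hq) hq1) hc)
    rw [hzq] at h
    exact h2 (h.trans hrX)
  have hinvY : ∀ q ∈ Y, (z : G ⧸ X) * q * (z : G ⧸ X)⁻¹ = q⁻¹ := by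
    have hz2 : (z : G ⧸ X) * z = 1 := by rw [← QuotientGroup.mk_mul, hzz, QuotientGroup.mk_one]
    intro q hq
    have hfp : MonoidHom.FixedPointFree (MulAut.conjNormal (H := Y) (z : G ⧸ X) : Y → Y) := fun a ha =>
      Subtype.ext (hcz a a.2 (mul_inv_eq_iff_eq_mul.1 (congrArg Subtype.val ha)).symm)
    have hinv : Function.Involutive (MulAut.conjNormal (H := Y) (z : G ⧸ X) : Y → Y) := by
      intro a
      apply Subtype.ext
      rw [MulAut.conjNormal_apply, MulAut.conjNormal_apply,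
        show (z : G ⧸ X) * ((z : G ⧸ X) * (a : G ⧸ X) * (z : G ⧸ X)⁻¹) * (z : G ⧸ X)⁻¹ =
          (z : G ⧸ X) * z * a * ((z : G ⧸ X) * z)⁻¹ by group, hz2, one_mul, inv_one, mul_one]
    have h := congrFun (MonoidHom.FixedPointFree.coe_eq_inv_of_involutive
      (φ := MulAut.conjNormal (H := Y) (z : G ⧸ X)) hfp hinv) ⟨q, hq⟩
    simpa using congrArg Subtype.val h
  set c := (z : G ⧸ X) * y * (z : G ⧸ X)⁻¹ * y⁻¹ with hcdef
  have hcY : c ∈ Y := hcomY y
  obtain ⟨m, hm⟩ := two_mul_half_mod (hr.odd_of_ne_two hp2) 1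
  have hy' : c ^ m * y ∉ Y := fun h => hyY ((Y.mul_mem_cancel_left (Y.pow_mem hcY m)).1 h)
  have hcc : Commute (c ^ m * y) (z : G ⧸ X) := by
    have h1 : c ^ m * c ^ m = c := by
      rw [← pow_add, ← two_mul, hm, pow_add, pow_one, mul_one, hYp c hcY, mul_one]
    have h2' : (z : G ⧸ X) * (c ^ m * y) * (z : G ⧸ X)⁻¹ = c ^ m * y := by
      rw [show (z : G ⧸ X) * (c ^ m * y) * (z : G ⧸ X)⁻¹ =
        ((z : G ⧸ X) * c ^ m * (z : G ⧸ X)⁻¹) * c * y by rw [hcdef]; group, hinvY _ (Y.pow_mem hcY m)]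
      nth_rewrite 2 [← h1]
      group
    exact (mul_inv_eq_iff_eq_mul.1 h2').symm
  have hd : r ∣ orderOf (c ^ m * y) := by
    by_contra hnd
    have e1 : ((c ^ m * y : G ⧸ X) : (G ⧸ X) ⧸ Y) = (y : (G ⧸ X) ⧸ Y) := by
      rw [QuotientGroup.mk_mul, (QuotientGroup.eq_one_iff _).2 (Y.pow_mem hcY m), one_mul]
    have d1 : orderOf (y : (G ⧸ X) ⧸ Y) ∣ r := hy ▸ orderOf_map_dvd (QuotientGroup.mk' Y) y
    have d2 : orderOf (y : (G ⧸ X) ⧸ Y) ∣ orderOf (c ^ m * y) := by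
      rw [← e1]; exact orderOf_map_dvd (QuotientGroup.mk' Y) _
    exact hyY ((QuotientGroup.eq_one_iff y).1 (orderOf_eq_one_iff.1
      (Nat.eq_one_of_dvd_coprimes (hr.coprime_iff_not_dvd.2 hnd) d1 d2)))
  have h3 := orderOf_dvd_of_pow_eq_one (K.qcomm hr hrX (K.qord hr hrX hd) hcc)
  rw [hzq] at h3
  exact h2 (h3.trans hrX)

theorem core_odd [X.Normal] [Group.IsNilpotent X] (hodd : Odd (Nat.card (G ⧸ X))) {y₀ : G ⧸ X} {p : ℕ}
    (hp : p.Prime) (hpX : p ∣ Nat.card X) (hy₀ : orderOf y₀ = p) : Core X := by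
  haveI : Group.IsSolvable (G ⧸ X) := Cfsg.Agent.S0205.result hodd
  haveI := Fact.mk hp
  haveI : Nontrivial (G ⧸ X) := ⟨⟨y₀, 1, fun e => hp.ne_one (by rw [← hy₀, e, orderOf_one])⟩⟩
  have hfree : ∀ (s : ℕ) (y : G ⧸ X), s.Prime → s ∣ Nat.card X → orderOf y = s →
      ∀ (r : ℕ) (R : Subgroup (G ⧸ X)), r.Prime → r ≠ s → R ≠ ⊥ → IsPGroup r R →
        (∀ a ∈ R, y * a * y⁻¹ ∈ R) → False := by
    intro s y hs hsX hy r R hr hrs hR hRr hn
    have := Fact.mk hr
    refine K.no_action hs hsX hy hR hn (fun a ha hc => ?_) ?_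
    · obtain ⟨j, hj⟩ := IsPGroup.iff_orderOf.1 hRr ⟨a, ha⟩
      rw [Subgroup.orderOf_mk] at hj
      exact orderOf_eq_one_iff.1 (Nat.eq_one_of_dvd_coprimes
        (((Nat.coprime_primes hr hs).2 hrs).pow_left j) (dvd_of_eq hj)
        (orderOf_dvd_of_pow_eq_one (K.qcomm hs hsX hy hc.symm)))
    · intro hd
      obtain ⟨j, hj⟩ := hRr.exists_card_eq
      rw [hj] at hd
      exact hrs ((Nat.prime_dvd_prime_iff_eq hs hr).1 (hs.dvd_of_dvd_pow hd)).symm
  obtain ⟨r₁, N₁, hr₁, hN₁n, hN₁, hN₁p⟩ := exists_normal_pGroup (Q := G ⧸ X)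
  have hone : ∀ (s : ℕ) (y : G ⧸ X), s.Prime → s ∣ Nat.card X → orderOf y = s → s = p := by
    intro s y hs hsX hy
    have e1 : r₁ = s := by_contra fun e => hfree s y hs hsX hy r₁ N₁ hr₁ e hN₁ hN₁p fun a ha => hN₁n.conj_mem a ha y
    have e2 : r₁ = p :=
      by_contra fun e => hfree p y₀ hp hpX hy₀ r₁ N₁ hr₁ e hN₁ hN₁p fun a ha => hN₁n.conj_mem a ha y₀
    exact e1.symm.trans e2
  obtain ⟨Y, ⟨hYn, hYp⟩, hYmax⟩ := (Set.toFinite {N : Subgroup (G ⧸ X) | N.Normal ∧ IsPGroup p N}).exists_maximal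
    ⟨⊥, inferInstance, IsPGroup.of_bot⟩
  refine ⟨p, Y, hp, hpX, hYn, ?_, ?_⟩
  · intro q hq
    obtain ⟨j, hj⟩ := IsPGroup.iff_orderOf.1 hYp ⟨q, hq⟩
    rw [Subgroup.orderOf_mk] at hj
    rcases Nat.eq_zero_or_pos j with rfl | h
    · rw [orderOf_eq_one_iff.1 (show orderOf q = 1 by simpa using hj), one_pow]
    · rw [← K.qord hp hpX (hj ▸ dvd_pow_self p h.ne'), pow_orderOf_eq_one]
  intro s y hs hsX hy
  obtain rfl := hone s y hs hsX hy
  refine ⟨rfl, by_contra fun hyY => ?_⟩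
  haveI : Nontrivial ((G ⧸ X) ⧸ Y) := ⟨⟨y, 1, fun e => hyY ((QuotientGroup.eq_one_iff y).1 e)⟩⟩
  haveI : Group.IsSolvable ((G ⧸ X) ⧸ Y) :=
    solvable_of_surjective (QuotientGroup.mk'_surjective Y)
  obtain ⟨r, Mb, hr, hMbn, hMb, hMbp⟩ := exists_normal_pGroup (Q := (G ⧸ X) ⧸ Y)
  set M := Mb.comap (QuotientGroup.mk' Y) with hM
  haveI hMn : M.Normal := hMbn.comap _
  have hYM : Y ≤ M := fun a ha => by
    show (a : (G ⧸ X) ⧸ Y) ∈ Mb
    rw [(QuotientGroup.eq_one_iff a).2 ha]; exact Mb.one_mem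
  have hrs : r ≠ s := by
    rintro rfl
    have hk : IsPGroup r (QuotientGroup.mk' Y).ker := by rw [QuotientGroup.ker_mk']; exact hYp
    have hle : M ≤ Y := hYmax ⟨hMn, hMbp.comap_of_ker_isPGroup _ hk⟩ hYM
    apply hMb
    rw [Subgroup.eq_bot_iff_forall]
    intro a ha
    induction a using QuotientGroup.induction_on with
    | H b => exact (QuotientGroup.eq_one_iff b).2 (hle ha)
  haveI := Fact.mk hr
  let S : Sylow r M := default
  have hrM : r ∣ Nat.card M := by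
    obtain ⟨a, ha, ha1⟩ := Mb.bot_or_exists_ne_one.resolve_left hMb
    obtain ⟨j, hj⟩ := IsPGroup.iff_orderOf.1 hMbp ⟨a, ha⟩
    rw [Subgroup.orderOf_mk] at hj
    have hd : r ∣ orderOf a := by
      rcases Nat.eq_zero_or_pos j with rfl | h
      · exact absurd (orderOf_eq_one_iff.1 (by simpa using hj)) ha1
      · exact hj ▸ dvd_pow_self r h.ne'
    induction a using QuotientGroup.induction_on with
    | H b => exact hd.trans ((orderOf_map_dvd (QuotientGroup.mk' Y) b).trans (Subgroup.orderOf_dvd_natCard _ ha))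
  set R := (S : Subgroup M).map M.subtype with hR
  have hRr : IsPGroup r R := S.2.map _
  have hRb : R ≠ ⊥ := fun e => S.ne_bot_of_dvd_card hrM
    ((Subgroup.map_eq_bot_iff_of_injective _ M.subtype_injective).1 e)
  have hfr : Subgroup.normalizer (R : Set (G ⧸ X)) ⊔ M = ⊤ := Sylow.normalizer_sup_eq_top S
  obtain ⟨n, hn, m, hm, e⟩ := Subgroup.mem_sup_of_normal_right.1 (hfr ▸ Subgroup.mem_top y)
  have hyM : y ∉ M := fun h => by
    have h' : (y : (G ⧸ X) ⧸ Y) ∈ Mb := h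
    obtain ⟨j, hj⟩ := IsPGroup.iff_orderOf.1 hMbp ⟨(y : (G ⧸ X) ⧸ Y), h'⟩
    rw [Subgroup.orderOf_mk] at hj
    have hd : orderOf (y : (G ⧸ X) ⧸ Y) ∣ s := hy ▸ orderOf_map_dvd (QuotientGroup.mk' Y) y
    exact hyY ((QuotientGroup.eq_one_iff y).1 (orderOf_eq_one_iff.1
      (Nat.eq_one_of_dvd_coprimes (((Nat.coprime_primes hr hs).2 hrs).pow_left j) (dvd_of_eq hj) hd)))
  have hd : s ∣ orderOf n := by
    by_contra hnd
    have d1 : orderOf (y : (G ⧸ X) ⧸ M) ∣ s := hy ▸ orderOf_map_dvd (QuotientGroup.mk' M) y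
    have d2 : orderOf (y : (G ⧸ X) ⧸ M) ∣ orderOf n := by
      rw [← e, QuotientGroup.mk_mul, (QuotientGroup.eq_one_iff m).2 hm, mul_one]
      exact orderOf_map_dvd (QuotientGroup.mk' M) n
    exact hyM ((QuotientGroup.eq_one_iff y).1 (orderOf_eq_one_iff.1
      (Nat.eq_one_of_dvd_coprimes (hs.coprime_iff_not_dvd.2 hnd) d1 d2)))
  exact hfree s n hs hsX (K.qord hs hsX hd) r R hr hrs hRb hRr
    fun a ha => (Subgroup.mem_normalizer_iff.1 hn a).1 ha

/-- A normal member gives a proper Hughes subgroup or a Frobenius group. -/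
theorem small : Small G := by
  have := K.normal
  by_cases hno : ∀ z, z ∉ X → ∀ r : ℕ, r.Prime → r ∣ Nat.card X → ¬ r ∣ orderOf z
  · refine Or.inr (exists_frobeniusComplement X K.ne_bot K.ne_top fun x hx hx1 z hc => ?_)
    by_contra hz
    obtain ⟨hp, ho⟩ := K.outside hz hx hx1 hc
    exact hno z hz _ hp (ho ▸ Subgroup.orderOf_dvd_natCard _ hx) dvd_rfl
  push Not at hno
  obtain ⟨z, hz, r, hr, hrX, hrz⟩ := hno
  haveI := K.isNilpotent hz hr hrX hrz
  have hy₀ : orderOf (z : G ⧸ X) = r := by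
    have ho := K.orderOf_eq hz hr hrX hrz
    refine (hr.eq_one_or_self_of_dvd _ (ho ▸ orderOf_map_dvd (QuotientGroup.mk' X) z)).resolve_left ?_
    exact fun e => hz ((QuotientGroup.eq_one_iff z).1 (orderOf_eq_one_iff.1 e))
  have hcore : Core X := by
    rcases Nat.even_or_odd (Nat.card (G ⧸ X)) with he | ho
    · haveI := Fact.mk Nat.prime_two
      obtain ⟨q, hq⟩ := exists_prime_orderOf_dvd_card' (G := G ⧸ X) 2 (even_iff_two_dvd.1 he)
      by_cases h2 : 2 ∣ Nat.card X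
      · exact K.core_even h2 hq
      · exact K.core_inverting h2 hq hr hrX hy₀
    · exact K.core_odd ho hr hrX hy₀
  obtain ⟨p, Y, hp, hpX, hYn, hYp, hY⟩ := hcore
  by_cases htop : Y = ⊤
  · refine Or.inl ⟨p, hp, fun e => K.ne_top (top_le_iff.1 ?_)⟩
    rw [← e, Subgroup.closure_le]
    intro g hg
    by_contra hgX
    have h1 : orderOf (g : G ⧸ X) = p := orderOf_eq_prime (hp := ⟨hp⟩) (hYp _ (htop ▸ Subgroup.mem_top _))
      (fun e' => hgX ((QuotientGroup.eq_one_iff g).1 e'))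
    exact hg (by rw [← (K.orderOf_lift hp hpX (dvd_of_eq h1.symm)).1, pow_orderOf_eq_one])
  set U := Y.comap (QuotientGroup.mk' X) with hU
  haveI : U.Normal := hYn.comap _
  have hXU : X ≤ U := fun a ha => by
    show (a : G ⧸ X) ∈ Y
    rw [(QuotientGroup.eq_one_iff a).2 ha]; exact Y.one_mem
  refine Or.inr (exists_frobeniusComplement U (fun e => K.ne_bot (eq_bot_iff.2 (e ▸ hXU))) (fun e => htop ?_) ?_)
  · rw [Subgroup.eq_top_iff']
    intro a
    induction a using QuotientGroup.induction_on with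
    | H b => exact (e.symm ▸ Subgroup.mem_top b : b ∈ U)
  intro u hu hu1 g hc
  show (g : G ⧸ X) ∈ Y
  by_cases hgX : g ∈ X
  · rw [(QuotientGroup.eq_one_iff g).2 hgX]; exact Y.one_mem
  by_cases huX : u ∈ X
  · obtain ⟨hgp, ho⟩ := K.outside hgX huX hu1 hc
    have hgd := ho ▸ Subgroup.orderOf_dvd_natCard _ huX
    have hne : orderOf (g : G ⧸ X) = orderOf g :=
      (hgp.eq_one_or_self_of_dvd _ (orderOf_map_dvd (QuotientGroup.mk' X) g)).resolve_left
        fun e => hgX ((QuotientGroup.eq_one_iff g).1 (orderOf_eq_one_iff.1 e))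
    exact (hY _ _ hgp hgd hne).2
  · have hou : orderOf (u : G ⧸ X) = p := orderOf_eq_prime (hp := ⟨hp⟩) (hYp _ hu)
      (fun e' => huX ((QuotientGroup.eq_one_iff u).1 e'))
    have h1 := K.qcomm hp hpX hou ((hc.symm).map (QuotientGroup.mk' X))
    exact (hY p _ hp hpX (orderOf_eq_prime (hp := ⟨hp⟩) h1
      fun e' => hgX ((QuotientGroup.eq_one_iff g).1 e'))).2

end KCtx

theorem small_of_normal_member (P : NPart G) {x₀ : G} (h : x₀ ≠ 1) (hn : (P.cmp x₀).Normal) : Small G :=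
  (KCtx.mk (P := P) hn (P.ne_top x₀ h) (fun e => h (Subgroup.mem_bot.1 (e ▸ P.mem x₀)))
    (fun x hx hx1 => P.eq_of_mem x₀ x h hx1 hx)).small

end Cfsg.Agent.Part11
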