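import Mathlib
import Cfsg.Agent.Lib.Part11Kernel
import Cfsg.Agent.Lib.Part11Displace

/-!
# Partitioned groups with a non-trivial soluble normal subgroup (Baer)
-/

set_option autoImplicit false

open scoped Pointwise

namespace Cfsg.Agent.Part11

universe u

variable {G : Type u} [Group G] [Finite G]

namespace NPart

variable (P : NPart G)

/-- A normal subgroup inside a member makes the member normal. -/
theorem normal_of_le {N : Subgroup G} [N.Normal] (hN : N ≠ ⊥) {x : G} (hx : x ≠ 1) (h : N ≤ P.cmp x) :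
    (P.cmp x).Normal := by
  obtain ⟨v, hv, hv1⟩ := N.bot_or_exists_ne_one.resolve_left hN
  have e : P.cmp v = P.cmp x := P.eq_of_mem x v hx hv1 (h hv)
  rw [← e]
  refine ⟨fun y hy a => ?_⟩
  have ha : a ∈ Subgroup.normalizer (P.cmp v : Set G) :=
    P.mem_normalizer hv1 (e ▸ h (‹N.Normal›.conj_mem v hv a))
  exact (Subgroup.mem_normalizer_iff.1 ha y).1 hy

end NPart

/-- The setting: no normal member, a maximal normal `p`-subgroup of exponent `p`. -/
structure RCtx (P : NPart G) (p : ℕ) (U : Subgroup G) : Prop where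
  prime : p.Prime
  noNormal : ∀ x : G, x ≠ 1 → ¬ (P.cmp x).Normal
  normal : U.Normal
  ne_bot : U ≠ ⊥
  exp : ∀ u ∈ U, u ^ p = 1
  maximal : ∀ N : Subgroup G, N.Normal → IsPGroup p N → U ≤ N → N ≤ U

/-- A module centralised by `U`. -/
structure RMod (p : ℕ) (U A : Subgroup G) : Prop extends Elem p A where
  ne_bot : A ≠ ⊥
  le : A ≤ U
  central : ∀ u ∈ U, ∀ a ∈ A, u * a = a * u

namespace RCtx

variable {P : NPart G} {p : ℕ} {U A : Subgroup G}

/-- A member meeting the module contains no element of order prime to `p`. -/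
theorem eq_one_of_meet (R : RCtx P p U) (M : RMod p U A) {g x r : G} (hg : g ≠ 1) (hx : x ∈ A) (hx1 : x ≠ 1)
    (hxg : x ∈ P.cmp g) (hr : r ∈ P.cmp g) (hco : ¬ p ∣ orderOf r) : r = 1 := by
  by_contra hr1
  haveI := Fact.mk R.prime
  haveI := M.normal
  have e1 : P.cmp x = P.cmp g := P.eq_of_mem g x hg hx1 hxg
  have e2 : P.cmp r = P.cmp g := P.eq_of_mem g r hg hr1 hr
  refine R.noNormal g hg (P.normal_of_le M.ne_bot hg (M.toElem.le_of_displace hco ?_ ?_))
  · intro v hv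
    have hn := P.mem_normalizer_of_commute hx1 (show Commute v x from M.comm v hv x hx)
    rw [e1] at hn
    have := (Subgroup.mem_normalizer_iff.1 hn r⁻¹).1 ((P.cmp g).inv_mem hr)
    have h2 := (P.cmp g).mul_mem hr this
    simpa [mul_assoc] using h2
  · intro v hv hc
    rw [← e2]
    by_cases hv1 : v = 1
    · exact hv1 ▸ (P.cmp r).one_mem
    refine P.mem_of_orderOf_ne hc hr1 fun e => hco ?_
    rw [← e, M.toElem.orderOf_eq hv hv1]

theorem fpf_mod (R : RCtx P p U) (M : RMod p U A) {r x : G} (hco : ¬ p ∣ orderOf r) (hr1 : r ≠ 1)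
    (hx : x ∈ A) (hc : Commute r x) : x = 1 := by
  by_contra hx1
  haveI := Fact.mk R.prime
  refine hr1 (R.eq_one_of_meet M hr1 hx hx1 (P.mem_of_orderOf_ne hc hr1 fun e => hco ?_) (P.mem r) hco)
  rw [← e, M.toElem.orderOf_eq hx hx1]

theorem fpf (R : RCtx P p U) (M : RMod p U A) {r x : G} (hco : ¬ p ∣ orderOf r) (hr1 : r ≠ 1)
    (hx : x ∈ U) (hc : Commute r x) : x = 1 := by
  by_contra hx1
  haveI := Fact.mk R.prime
  haveI := M.normal
  have hxr : x ∈ P.cmp r := P.mem_of_orderOf_ne hc hr1 fun e => hco (by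
    rw [← e, orderOf_eq_prime (R.exp x hx) hx1])
  have e1 : P.cmp x = P.cmp r := P.eq_of_mem r x hr1 hx1 hxr
  refine R.noNormal r hr1 (P.normal_of_le M.ne_bot hr1 (M.toElem.le_of_displace hco ?_ ?_))
  · intro v hv
    have hn := P.mem_normalizer_of_commute hx1 (show Commute v x from (M.central x hx v hv).symm)
    rw [e1] at hn
    have := (Subgroup.mem_normalizer_iff.1 hn r⁻¹).1 ((P.cmp r).inv_mem (P.mem r))
    have h2 := (P.cmp r).mul_mem (P.mem r) this
    simpa [mul_assoc] using h2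
  · intro v hv hcv
    rw [R.fpf_mod M hco hr1 hv hcv]
    exact (P.cmp r).one_mem

/-- No element of order prime to `p` commutes with a non-identity `p`-element. -/
theorem mixed (R : RCtx P p U) (M : RMod p U A) {g r : G} (hg : ∃ j : ℕ, g ^ p ^ j = 1) (hg1 : g ≠ 1)
    (hco : ¬ p ∣ orderOf r) (hc : Commute g r) : r = 1 := by
  by_contra hr1
  haveI := Fact.mk R.prime
  haveI := M.normal
  have hAp : IsPGroup p A := fun a => ⟨1, Subtype.ext (by simpa using M.exp a a.2)⟩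
  obtain ⟨x, hx, hx1, hgx⟩ := exists_commute_of_pGroup A hAp M.ne_bot hg
  have hne : orderOf r ≠ orderOf g := fun e => by
    obtain ⟨j, hj⟩ := hg
    obtain ⟨i, hi⟩ := orderOf_eq_pow R.prime hj
    rcases Nat.eq_zero_or_pos i with rfl | h
    · exact hg1 (orderOf_eq_one_iff.1 (by simpa using hi))
    · exact hco (e ▸ hi ▸ dvd_pow_self p h.ne')
  let B : Subgroup G := A ⊓ Subgroup.centralizer {g}
  have hB : ∀ b ∈ B, Commute g b := fun b hb => Subgroup.mem_centralizer_iff.1 hb.2 g rfl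
  let f : B → B := fun b => ⟨b * (r * (b : G)⁻¹ * r⁻¹), B.mul_mem b.2 ⟨M.normal.conj_mem _ (A.inv_mem b.2.1) r, by
    show r * (b : G)⁻¹ * r⁻¹ ∈ Subgroup.centralizer {g}
    rw [Subgroup.mem_centralizer_iff]
    rintro _ rfl
    exact ((hc.mul_right (hB b b.2).inv_right).mul_right hc.inv_right).eq⟩⟩
  have hf : Function.Injective f := by
    intro a b e
    have e' : (a : G) * (r * (a : G)⁻¹ * r⁻¹) = b * (r * (b : G)⁻¹ * r⁻¹) := congrArg Subtype.val e
    have hb : Commute r ((b : G)⁻¹ * a) := by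
      show r * ((b : G)⁻¹ * a) = (b : G)⁻¹ * a * r
      have := congrArg (fun z => (b : G)⁻¹ * z * (r * a)) e'
      simpa [mul_assoc] using this.symm
    exact Subtype.ext (inv_mul_eq_one.1 (R.fpf_mod M hco hr1 (A.mul_mem (A.inv_mem b.2.1) a.2.1) hb)).symm
  obtain ⟨b, hb⟩ := hf.bijective_of_finite.surjective ⟨x, hx, Subgroup.mem_centralizer_iff.2 fun y hy => by
    rw [Set.mem_singleton_iff.1 hy]; exact hgx.eq⟩
  have hb' : (b : G) * r * (b : G)⁻¹ = x * r := by
    have := congrArg Subtype.val hb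
    simp only [f] at this
    rw [← this]
    group
  have hr2 : r ∈ P.cmp g := P.mem_of_orderOf_ne hc hg1 hne
  have hxr : x * r ∈ P.cmp g := P.mem_of_orderOf_ne (hgx.mul_right hc) hg1 (by
    rw [← hb', ← MulAut.conj_apply, MulEquiv.orderOf_eq]; exact hne)
  exact hr1 (R.eq_one_of_meet M hg1 hx hx1 (((P.cmp g).mul_mem_cancel_right hr2).1 hxr) hr2 hco)

theorem centralizer_le (R : RCtx P p U) (M : RMod p U A) : Subgroup.centralizer (A : Set G) ≤ U := by
  haveI := Fact.mk R.prime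
  haveI := M.normal
  refine R.maximal _ inferInstance ?_ (fun u hu => Subgroup.mem_centralizer_iff.2 fun a ha => (M.central u hu a ha).symm)
  intro c
  obtain ⟨j, m, hm, -, -, ho⟩ := exists_split (c : G) R.prime
  refine ⟨j, Subtype.ext ?_⟩
  show (c : G) ^ p ^ j = 1
  by_contra h1
  obtain ⟨a, ha, ha1⟩ := A.bot_or_exists_ne_one.resolve_left M.ne_bot
  exact ha1 (R.fpf_mod M (ho.symm ▸ hm) h1 ha
    ((show Commute (c : G) a from (Subgroup.mem_centralizer_iff.1 c.2 a ha).symm).pow_left _))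

/-- Two members meeting the module: the first one is exactly the fixed and displacement subgroup. -/
theorem quad (R : RCtx P p U) (M : RMod p U A) {h r : G} (hh : h ^ p ≠ 1)
    (hj : ∃ j : ℕ, h ^ p ^ j = 1) (hco : ¬ p ∣ orderOf (r * h * r⁻¹ * h⁻¹) ∨
      ∃ k : ℕ, (r * h * r⁻¹ * h⁻¹) ^ k ≠ 1 ∧ ¬ p ∣ orderOf ((r * h * r⁻¹ * h⁻¹) ^ k))
    (hne : r * h * r⁻¹ * h⁻¹ ≠ 1) :
    (∀ v ∈ A, Commute h v ↔ v ∈ P.cmp h) ∧ (∀ v ∈ A, h * v * h⁻¹ * v⁻¹ ∈ P.cmp h) ∧
      Nat.card ↥(A ⊓ P.cmp h) * Nat.card ↥(A ⊓ P.cmp h) = Nat.card A ∧ A ⊓ P.cmp h ≠ ⊥ := by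
  classical
  haveI := Fact.mk R.prime
  haveI := M.normal
  have hh1 : h ≠ 1 := fun e => hh (by rw [e, one_pow])
  have hord : ∀ v ∈ A, orderOf v ≠ orderOf h := by
    intro v hv e
    by_cases hv1 : v = 1
    · rw [hv1, orderOf_one] at e; exact hh1 (orderOf_eq_one_iff.1 e.symm)
    · exact hh (by rw [← M.toElem.orderOf_eq hv hv1, e, pow_orderOf_eq_one])
  have hfix : ∀ v ∈ A, Commute h v → v ∈ P.cmp h := fun v hv hc => P.mem_of_orderOf_ne hc hh1 (hord v hv)
  have hAp : IsPGroup p A := fun a => ⟨1, Subtype.ext (by simpa using M.exp a a.2)⟩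
  obtain ⟨x, hx, hx1, hhx⟩ := exists_commute_of_pGroup A hAp M.ne_bot hj
  have hW : x ∈ P.cmp h := hfix x hx hhx
  have hd : ∀ v ∈ A, h * v * h⁻¹ * v⁻¹ ∈ P.cmp h := by
    intro v hv
    have hn := P.mem_normalizer_of_commute hx1 (show Commute v x from M.comm v hv x hx)
    rw [P.eq_of_mem h x hh1 hx1 hW] at hn
    have := (Subgroup.mem_normalizer_iff.1 hn h⁻¹).1 ((P.cmp h).inv_mem (P.mem h))
    have h2 := (P.cmp h).mul_mem (P.mem h) this
    simpa [mul_assoc] using h2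
  set W := A ⊓ P.cmp h with hWdef
  set W' := A ⊓ P.cmp (r * h * r⁻¹) with hW'def
  have hdisj : W ⊓ W' = ⊥ := by
    rw [Subgroup.eq_bot_iff_forall]
    intro v hv
    by_contra hv1
    have e : P.cmp h = P.cmp (r * h * r⁻¹) :=
      P.eq_of_common hh1 (by simpa using hh1) hv1 hv.1.2 hv.2.2
    have hc : r * h * r⁻¹ * h⁻¹ ∈ P.cmp h :=
      (P.cmp h).mul_mem (e ▸ P.mem _) ((P.cmp h).inv_mem (P.mem h))
    rcases hco with hco | ⟨k, hk, hco⟩
    · exact hne (R.eq_one_of_meet M hh1 hv.1.1 hv1 hv.1.2 hc hco)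
    · exact hk (R.eq_one_of_meet M hh1 hv.1.1 hv1 hv.1.2 ((P.cmp h).pow_mem hc k) hco)
  have hcardW' : Nat.card W' = Nat.card W := by
    refine (Nat.card_congr (Equiv.subtypeEquiv (MulAut.conj r).toEquiv fun v => ?_)).symm
    show v ∈ A ∧ v ∈ P.cmp h ↔ r * v * r⁻¹ ∈ A ∧ r * v * r⁻¹ ∈ P.cmp (r * h * r⁻¹)
    rw [P.conj_mem_iff hh1]
    refine and_congr_left fun _ => ⟨fun hv => M.normal.conj_mem v hv r, fun hv => ?_⟩
    simpa [mul_assoc] using M.normal.conj_mem _ hv r⁻¹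
  have hle : Nat.card W * Nat.card W ≤ Nat.card A := by
    rw [← hcardW', ← Nat.card_prod]
    refine Nat.card_le_card_of_injective
      (fun x : W' × W' => (⟨(r⁻¹ * (x.1 : G) * r) * x.2, A.mul_mem
        (by simpa using M.normal.conj_mem _ x.1.2.1 r⁻¹) x.2.2.1⟩ : A)) ?_
    intro a b e
    have e' : r⁻¹ * (a.1 : G) * r * a.2 = r⁻¹ * (b.1 : G) * r * b.2 := congrArg Subtype.val e
    have hin : ∀ w : W', r⁻¹ * (w : G) * r ∈ W := fun w => by
      refine ⟨by simpa using M.normal.conj_mem _ w.2.1 r⁻¹, ?_⟩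
      show r⁻¹ * (w : G) * r ∈ P.cmp h
      rw [← P.conj_mem_iff (a := r) hh1]
      simpa [mul_assoc] using w.2.2
    have h1 : (r⁻¹ * (b.1 : G) * r)⁻¹ * (r⁻¹ * (a.1 : G) * r) = (b.2 : G) * (a.2 : G)⁻¹ := by
      rw [eq_mul_inv_iff_mul_eq, mul_assoc, inv_mul_eq_iff_eq_mul]; exact e'
    have h2 : (b.2 : G) * (a.2 : G)⁻¹ ∈ W ⊓ W' :=
      ⟨h1 ▸ W.mul_mem (W.inv_mem (hin b.1)) (hin a.1), W'.mul_mem b.2.2 (W'.inv_mem a.2.2)⟩
    rw [hdisj, Subgroup.mem_bot, mul_inv_eq_one] at h2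
    rw [h2] at e'
    exact Prod.ext (Subtype.ext (by simpa using e')) (Subtype.ext h2.symm)
  let f : A →* G :=
    { toFun := fun v => h * v * h⁻¹ * (v : G)⁻¹
      map_one' := by simp
      map_mul' := fun a b => by
        show h * ((a : G) * b) * h⁻¹ * ((a : G) * b)⁻¹ =
          h * a * h⁻¹ * (a : G)⁻¹ * (h * b * h⁻¹ * (b : G)⁻¹)
        have hc : Commute (h * (b : G) * h⁻¹ * (b : G)⁻¹) (a : G)⁻¹ :=
          M.comm _ (A.mul_mem (M.normal.conj_mem _ b.2 h) (A.inv_mem b.2)) _ (A.inv_mem a.2)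
        calc h * ((a : G) * b) * h⁻¹ * ((a : G) * b)⁻¹
            = h * a * h⁻¹ * ((h * b * h⁻¹ * (b : G)⁻¹) * (a : G)⁻¹) := by group
          _ = h * a * h⁻¹ * ((a : G)⁻¹ * (h * b * h⁻¹ * (b : G)⁻¹)) := by rw [hc.eq]
          _ = _ := by group }
  have hker : ∀ v : A, v ∈ f.ker ↔ Commute h (v : G) := by
    intro v
    show h * (v : G) * h⁻¹ * (v : G)⁻¹ = 1 ↔ h * (v : G) = (v : G) * h
    rw [mul_inv_eq_one, mul_inv_eq_iff_eq_mul]
  have hr1 : Nat.card f.range ≤ Nat.card W := Subgroup.card_le_of_le (by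
    rintro _ ⟨v, rfl⟩
    exact ⟨A.mul_mem (M.normal.conj_mem _ v.2 h) (A.inv_mem v.2), hd v v.2⟩)
  have hkW : f.ker.map A.subtype ≤ W := by
    rintro _ ⟨v, hv, rfl⟩
    exact ⟨v.2, hfix v v.2 ((hker v).1 hv)⟩
  have hk1 : Nat.card (f.ker.map A.subtype) = Nat.card f.ker :=
    (Nat.card_congr (f.ker.equivMapOfInjective A.subtype A.subtype_injective).toEquiv).symm
  have hprod : Nat.card f.ker * Nat.card f.range = Nat.card A := by
    rw [← Subgroup.index_ker, Subgroup.card_mul_index]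
  have hkW' : Nat.card f.ker ≤ Nat.card W := hk1 ▸ Subgroup.card_le_of_le hkW
  have hW0 : 0 < Nat.card W := Nat.card_pos
  have hkeq : f.ker.map A.subtype = W := by
    refine Subgroup.eq_of_le_of_card_ge hkW ?_
    rw [hk1]
    by_contra hlt
    push Not at hlt
    have := Nat.mul_lt_mul_of_lt_of_le hlt hr1 hW0
    omega
  refine ⟨fun v hv => ⟨hfix v hv, fun hm => ?_⟩, hd, ?_, ?_⟩
  · obtain ⟨v', hv', e⟩ : v ∈ f.ker.map A.subtype := hkeq ▸ (⟨hv, hm⟩ : v ∈ W)
    subst e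
    exact (hker v').1 hv'
  · refine le_antisymm hle ?_
    calc Nat.card A = Nat.card f.ker * Nat.card f.range := hprod.symm
      _ ≤ _ := Nat.mul_le_mul hkW' hr1
  · intro hb
    have : x ∈ W := ⟨hx, hW⟩
    rw [hb, Subgroup.mem_bot] at this
    exact hx1 this

theorem exists_step (R : RCtx P p U) {n : G} {N : Subgroup G} (hn : n ∈ N) (hnU : n ∉ U)
    (hj : ∃ j : ℕ, n ^ p ^ j = 1) :
    ∃ g ∈ N, g ∉ U ∧ g ^ p ∈ U ∧ ∃ j : ℕ, g ^ p ^ j = 1 := by
  classical
  obtain ⟨j, hj⟩ := hj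
  have hex : ∃ i, n ^ p ^ i ∈ U := ⟨j, hj ▸ U.one_mem⟩
  obtain ⟨i, hi⟩ := Nat.exists_eq_succ_of_ne_zero (n := Nat.find hex) fun e => hnU (by
    have := Nat.find_spec hex
    simpa [e] using this)
  refine ⟨n ^ p ^ i, N.pow_mem hn _, Nat.find_min hex (by omega), ?_, j, ?_⟩
  · rw [← pow_mul, ← pow_succ, ← Nat.succ_eq_add_one, ← hi]
    exact Nat.find_spec hex
  · rw [← pow_mul, mul_comm, pow_mul, hj, one_pow]

theorem even_case (R : RCtx P p U) (M : RMod p U U) (hp2 : p = 2) {g : G} (hgU : g ∉ U) (hg2 : g ^ p ∈ U) :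
    Nonempty (G ≃* Equiv.Perm (Fin 4)) := by
  subst hp2
  classical
  haveI := R.normal
  haveI := Fact.mk Nat.prime_two
  obtain ⟨h, hhU, hh2, hhU2⟩ : ∃ h, h ∉ U ∧ h ^ 2 ≠ 1 ∧ h ^ 2 ∈ U := by
    by_contra hno
    push Not at hno
    have key : ∀ u ∈ U, (u * g) ^ 2 = 1 := by
      intro u hu
      by_contra h1
      refine hno (u * g) (fun h => hgU ((U.mul_mem_cancel_left hu).1 h)) h1 ?_
      rw [← QuotientGroup.eq_one_iff (N := U), QuotientGroup.mk_pow, QuotientGroup.mk_mul,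
        (QuotientGroup.eq_one_iff u).2 hu, one_mul, ← QuotientGroup.mk_pow, QuotientGroup.eq_one_iff]
      exact hg2
    refine hgU (R.centralizer_le M (Subgroup.mem_centralizer_iff.2 fun u hu => ?_))
    have h1 := key u hu
    have h0 : g * g = 1 := by simpa [pow_two] using key 1 U.one_mem
    have hu2 : u * u = 1 := by simpa [pow_two] using M.exp u hu
    rw [pow_two] at h1
    have h2 : g * u * g = u := by
      calc g * u * g = (u * u) * (g * u * g) := by rw [hu2, one_mul]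
        _ = u * (u * g * (u * g)) := by group
        _ = u := by rw [h1, mul_one]
    calc u * g = g * u * g * g := by rw [h2]
      _ = g * u * (g * g) := by group
      _ = g * u := by rw [h0, mul_one]
  have hh1 : h ≠ 1 := fun e => hhU (e ▸ U.one_mem)
  have hj : ∃ j : ℕ, h ^ 2 ^ j = 1 := ⟨2, by
    rw [show (2 : ℕ) ^ 2 = 2 * 2 by norm_num, pow_mul, M.exp _ hhU2]⟩
  have hho : orderOf (h : G ⧸ U) = 2 := orderOf_eq_prime
    (by rw [← QuotientGroup.mk_pow]; exact (QuotientGroup.eq_one_iff _).2 hhU2)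
    (fun e => hhU ((QuotientGroup.eq_one_iff h).1 e))
  obtain ⟨k, hk1, hkodd, hkinv⟩ := BaerSuzuki.exists_inverted_odd (h : G ⧸ U) hho (fun N hN hNp hm => by
    have hk : IsPGroup 2 (QuotientGroup.mk' U).ker := by
      rw [QuotientGroup.ker_mk']; exact fun a => ⟨1, Subtype.ext (by simpa using M.exp a a.2)⟩
    refine hhU (R.maximal (N.comap (QuotientGroup.mk' U)) (hN.comap _) (hNp.comap_of_ker_isPGroup _ hk) ?_ hm)
    intro u hu
    show (u : G ⧸ U) ∈ N
    rw [(QuotientGroup.eq_one_iff u).2 hu]; exact N.one_mem)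
  induction k using QuotientGroup.induction_on with
  | H z =>
  obtain ⟨j, m, hm, hzo, -, hro⟩ := exists_split z Nat.prime_two
  set r := z ^ 2 ^ j with hr
  have hco2 : Nat.Coprime (2 ^ j) (orderOf (z : G ⧸ U)) :=
    (Nat.prime_two.coprime_iff_not_dvd.2 fun hd => Nat.not_even_iff_odd.2 hkodd (even_iff_two_dvd.2 hd)).pow_left j
  have hr1 : (r : G ⧸ U) ≠ 1 := by
    rw [hr, QuotientGroup.mk_pow]
    exact fun e => hk1 (orderOf_eq_one_iff.1 (Nat.eq_one_of_dvd_coprimes hco2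
      (orderOf_dvd_of_pow_eq_one e) dvd_rfl))
  have hrinv : (h : G ⧸ U) * r * (h : G ⧸ U)⁻¹ = (r : G ⧸ U)⁻¹ := by
    rw [hr, QuotientGroup.mk_pow, ← conj_pow, hkinv, inv_pow]
  have hrodd : Odd (orderOf (r : G ⧸ U)) := hkodd.of_dvd_nat (by rw [hr, QuotientGroup.mk_pow]; exact orderOf_pow_dvd _)
  set c := r * h * r⁻¹ * h⁻¹ with hc
  have hcq : (c : G ⧸ U) = (r : G ⧸ U) * r := by
    have : (h : G ⧸ U) * (r : G ⧸ U)⁻¹ * (h : G ⧸ U)⁻¹ = r := by
      rw [← inv_inj]; simpa [mul_assoc] using hrinv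
    rw [hc, QuotientGroup.mk_mul, QuotientGroup.mk_mul, QuotientGroup.mk_mul, QuotientGroup.mk_inv,
      QuotientGroup.mk_inv, mul_assoc, mul_assoc, ← mul_assoc (h : G ⧸ U), this]
  have hc1 : (c : G ⧸ U) ≠ 1 := by
    rw [hcq, ← pow_two]
    intro e
    have hd := orderOf_dvd_of_pow_eq_one e
    rcases (Nat.dvd_prime Nat.prime_two).1 hd with e' | e'
    · exact hr1 (orderOf_eq_one_iff.1 e')
    · rw [e'] at hrodd; exact absurd hrodd (by decide)
  obtain ⟨i, l, hl, hco', -, hcl⟩ := exists_split c Nat.prime_two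
  have hck : c ^ 2 ^ i ≠ 1 := by
    intro e
    refine hc1 (orderOf_eq_one_iff.1 (Nat.eq_one_of_dvd_coprimes (a := 2 ^ i) (b := orderOf (r : G ⧸ U))
      ((Nat.prime_two.coprime_iff_not_dvd.2 fun hd => Nat.not_even_iff_odd.2 hrodd (even_iff_two_dvd.2 hd)).pow_left i)
      ?_ ?_))
    · exact (orderOf_map_dvd (QuotientGroup.mk' U) c).trans (orderOf_dvd_of_pow_eq_one e)
    · rw [hcq]; exact (Commute.refl _).orderOf_mul_dvd_lcm.trans (by simp)
  obtain ⟨hfix, hdisp, hcard, hW0⟩ := R.quad M hh2 hj (r := r)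
    (Or.inr ⟨2 ^ i, hck, by rw [hcl]; exact hl⟩) (fun e => hc1 (by rw [hc, e, QuotientGroup.mk_one]))
  set W := U ⊓ P.cmp h with hW
  obtain ⟨w, hw, hw1⟩ := W.bot_or_exists_ne_one.resolve_left hW0
  have hne : ∀ u ∈ U, u ∉ W → h * u * h⁻¹ * u⁻¹ * (h * h) = 1 := by
    intro u hu huW
    have hexp : (u * h) ^ 2 = h * u * h⁻¹ * u⁻¹ * (h * h) := by
      have hu2 : u⁻¹ = u := inv_eq_of_mul_eq_one_right (by simpa [pow_two] using M.exp u hu)
      have hcm : u * (h * u * h⁻¹) = h * u * h⁻¹ * u := M.comm u hu _ (R.normal.conj_mem u hu h)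
      rw [pow_two, hu2, show u * h * (u * h) = u * (h * u * h⁻¹) * (h * h) by group, hcm]
    by_contra h1
    refine huW ⟨hu, ?_⟩
    have hcw : Commute (u * h) w :=
      (show Commute u w from M.comm u hu w hw.1).mul_left ((hfix w hw.1).2 hw.2)
    have hm : u * h ∈ P.cmp w := P.mem_of_orderOf_ne hcw.symm hw1 (fun e => h1 (by
      rw [← hexp, ← M.toElem.orderOf_eq hw.1 hw1, ← e, pow_orderOf_eq_one]))
    rw [P.eq_of_mem h w hh1 hw1 hw.2] at hm
    exact ((P.cmp h).mul_mem_cancel_right (P.mem h)).1 hm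
  obtain ⟨u₀, hu₀, hu₀W⟩ : ∃ u ∈ U, u ∉ W := by
    by_contra hno
    push Not at hno
    exact R.noNormal h hh1 (P.normal_of_le R.ne_bot hh1 fun u hu => (hno u hu).2)
  have hcov : ∀ u ∈ U, u ∉ W → u₀⁻¹ * u ∈ W := by
    intro u hu huW
    have e1 := hne u hu huW
    rw [← hne u₀ hu₀ hu₀W] at e1
    have e2 : h * u * h⁻¹ * u⁻¹ = h * u₀ * h⁻¹ * u₀⁻¹ := mul_right_cancel e1
    refine ⟨U.mul_mem (U.inv_mem hu₀) hu, (hfix _ (U.mul_mem (U.inv_mem hu₀) hu)).1 (mul_inv_eq_iff_eq_mul.1 ?_)⟩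
    have hcm : Commute u⁻¹ u₀ := M.comm _ (U.inv_mem hu) _ hu₀
    calc h * (u₀⁻¹ * u) * h⁻¹ = (h * u₀ * h⁻¹)⁻¹ * (h * u * h⁻¹ * u⁻¹) * u := by group
      _ = u₀⁻¹ * u := by rw [e2]; group
  have hWU : Nat.card U ≤ 2 * Nat.card W := by
    have : Function.Injective (fun u : U => if hu : (u : G) ∈ W then (Sum.inl ⟨u, hu⟩ : W ⊕ W)
        else Sum.inr ⟨u₀⁻¹ * u, hcov u u.2 hu⟩) := by
      intro a b e
      by_cases ha : (a : G) ∈ W <;> by_cases hb : (b : G) ∈ W <;> simp [ha, hb] at e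
      · exact Subtype.ext (by simpa using e)
      · exact Subtype.ext (by simpa using e)
    have h2 := Nat.card_le_card_of_injective _ this
    rwa [Nat.card_sum, ← two_mul] at h2
  have hW2 : 2 ≤ Nat.card W := by
    by_contra hlt
    exact hW0 (Subgroup.card_eq_one.1 (by have := Nat.card_pos (α := W); omega))
  have hUle : Nat.card U = 4 := by
    rw [← hcard] at hWU ⊢
    have : Nat.card W = 2 := by nlinarith
    rw [this]
  have hcardG : Nat.card (G ⧸ U) = 6 := by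
    let φ : G ⧸ U →* MulAut U := quotConj U U fun x hx v hv => M.central x hx v hv
    have hφ : Function.Injective φ := by
      rw [injective_iff_map_eq_one]
      intro q
      induction q using QuotientGroup.induction_on with
      | H a =>
      intro ha
      refine (QuotientGroup.eq_one_iff a).2 (R.centralizer_le M (Subgroup.mem_centralizer_iff.2 fun v hv => ?_))
      have h2 : MulAut.conjNormal (H := U) a ⟨v, hv⟩ = ⟨v, hv⟩ := DFunLike.congr_fun ha ⟨v, hv⟩
      exact (mul_inv_eq_iff_eq_mul.1 (congrArg Subtype.val h2)).symm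
    let T := {v : U // v ≠ 1}
    have hperm : ∀ q : G ⧸ U, ∀ v : U, v ≠ 1 ↔ (φ q).toEquiv v ≠ 1 :=
      fun q v => ((φ q).map_ne_one_iff).symm
    let ψ : G ⧸ U → Equiv.Perm T := fun q => (φ q).toEquiv.subtypeEquiv (hperm q)
    have hψ : Function.Injective ψ := by
      intro a b e
      refine hφ (MulEquiv.ext fun v => ?_)
      by_cases hv : v = 1
      · rw [hv, map_one, map_one]
      · exact congrArg Subtype.val (Equiv.congr_fun e ⟨v, hv⟩)
    haveI := Fintype.ofFinite U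
    have hT : Nat.card T = 3 := by
      rw [Nat.card_eq_fintype_card, Fintype.card_subtype_compl, Fintype.card_subtype_eq,
        ← Nat.card_eq_fintype_card, hUle]
    have h6 : Nat.card (G ⧸ U) ≤ 6 := by
      have := Nat.card_le_card_of_injective ψ hψ
      rwa [Nat.card_perm, hT] at this
    have d2 : 2 ∣ Nat.card (G ⧸ U) := hho ▸ orderOf_dvd_natCard _
    have d3 : orderOf (r : G ⧸ U) ∣ Nat.card (G ⧸ U) := orderOf_dvd_natCard _
    have hne1 : orderOf (r : G ⧸ U) ≠ 1 := fun e => hr1 (orderOf_eq_one_iff.1 e)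
    have d6 : 2 * orderOf (r : G ⧸ U) ∣ Nat.card (G ⧸ U) :=
      Nat.Coprime.mul_dvd_of_dvd_of_dvd
        (Nat.prime_two.coprime_iff_not_dvd.2 fun hd => Nat.not_even_iff_odd.2 hrodd (even_iff_two_dvd.2 hd)) d2 d3
    obtain ⟨o, ho⟩ := hrodd
    have := Nat.le_of_dvd Nat.card_pos d6
    omega
  have hG : Nat.card G = 24 := by rw [Subgroup.card_eq_card_quotient_mul_card_subgroup U, hcardG, hUle]
  haveI := Fact.mk Nat.prime_three
  let φ : G →* Equiv.Perm (Sylow 3 G) := MulAction.toPermHom G (Sylow 3 G)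
  have hker : φ.ker = ⊥ := by
    have hKU : φ.ker ⊓ U = ⊥ := by
      rw [Subgroup.eq_bot_iff_forall]
      rintro u ⟨hu, huU⟩
      let S : Sylow 3 G := default
      have hS : u • S = S := Equiv.ext_iff.1 hu S
      have huN : u ∈ Subgroup.normalizer ((S : Subgroup G) : Set G) := Sylow.smul_eq_iff_mem_normalizer.1 hS
      obtain ⟨a, ha, ha1⟩ := (S : Subgroup G).bot_or_exists_ne_one.resolve_left
        (S.ne_bot_of_dvd_card (by rw [hG]; norm_num))
      obtain ⟨e, he⟩ := IsPGroup.iff_orderOf.1 S.2 ⟨a, ha⟩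
      rw [Subgroup.orderOf_mk] at he
      have hco : ¬ 2 ∣ orderOf a := by
        rw [he]; intro hd
        exact absurd (Nat.prime_two.dvd_of_dvd_pow hd) (by norm_num)
      refine R.fpf M hco ha1 huU ?_
      have hm : u * a * u⁻¹ * a⁻¹ ∈ (S : Subgroup G) ⊓ U := by
        refine ⟨(S : Subgroup G).mul_mem ((Subgroup.mem_normalizer_iff.1 huN a).1 ha) ((S : Subgroup G).inv_mem ha), ?_⟩
        rw [show u * a * u⁻¹ * a⁻¹ = u * (a * u⁻¹ * a⁻¹) by group]
        exact U.mul_mem huU (R.normal.conj_mem _ (U.inv_mem huU) a)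
      have h1 : u * a * u⁻¹ * a⁻¹ = 1 := by
        by_contra hne
        obtain ⟨e', he'⟩ := IsPGroup.iff_orderOf.1 S.2 ⟨_, hm.1⟩
        rw [Subgroup.orderOf_mk, M.toElem.orderOf_eq hm.2 hne] at he'
        exact absurd ((Nat.prime_dvd_prime_iff_eq Nat.prime_two Nat.prime_three).1
          (Nat.prime_two.dvd_of_dvd_pow (dvd_of_eq he'))) (by norm_num)
      exact (mul_inv_eq_iff_eq_mul.1 (mul_inv_eq_one.1 h1)).symm
    rw [Subgroup.eq_bot_iff_forall]
    intro a ha
    have haU : a ∈ U := R.centralizer_le M (Subgroup.mem_centralizer_iff.2 fun v hv => by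
      have hm : a * v * a⁻¹ * v⁻¹ ∈ φ.ker ⊓ U := by
        refine ⟨?_, U.mul_mem (R.normal.conj_mem v hv a) (U.inv_mem hv)⟩
        rw [show a * v * a⁻¹ * v⁻¹ = a * (v * a⁻¹ * v⁻¹) by group]
        exact φ.ker.mul_mem ha ((inferInstance : φ.ker.Normal).conj_mem _ (φ.ker.inv_mem ha) v)
      rw [hKU, Subgroup.mem_bot] at hm
      exact (mul_inv_eq_iff_eq_mul.1 (mul_inv_eq_one.1 hm)).symm)
    have hm : a ∈ φ.ker ⊓ U := ⟨ha, haU⟩
    rwa [hKU, Subgroup.mem_bot] at hm
  have hinj : Function.Injective φ := (MonoidHom.ker_eq_bot_iff φ).1 hker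
  have hn3 : Nat.card (Sylow 3 G) = 4 := by
    have hmod : Nat.card (Sylow 3 G) % 3 = 1 := card_sylow_modEq_one 3 G
    have hidx : (default : Sylow 3 G).index = 8 := by
      have h1 := (default : Sylow 3 G).toSubgroup.card_mul_index
      have h2 : Nat.card (default : Sylow 3 G) = 3 := by
        rw [Sylow.card_eq_multiplicity, hG]
        have : Nat.factorization 24 3 = 1 := by
          rw [show (24 : ℕ) = 3 * 8 by norm_num, Nat.factorization_mul (by norm_num) (by norm_num)]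
          simp [Nat.prime_three.factorization_self, Nat.factorization_eq_zero_of_not_dvd]
        rw [this, pow_one]
      rw [hG] at h1
      rw [show Nat.card ((default : Sylow 3 G) : Subgroup G) = 3 from h2] at h1
      omega
    have hdvd : Nat.card (Sylow 3 G) ∣ 8 := hidx ▸ (default : Sylow 3 G).card_dvd_index
    have hne1 : Nat.card (Sylow 3 G) ≠ 1 := fun e => by
      have := Nat.card_le_card_of_injective _ hinj
      rw [hG, Nat.card_perm, e] at this
      norm_num at this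
    have hle8 := Nat.le_of_dvd (by norm_num) hdvd
    interval_cases h8 : Nat.card (Sylow 3 G) <;> omega
  have hbij : Function.Bijective φ := (Nat.bijective_iff_injective_and_card φ).2
    ⟨hinj, by rw [hG, Nat.card_perm, hn3]; rfl⟩
  exact ⟨(MulEquiv.ofBijective φ hbij).trans
    (Finite.equivFinOfCardEq hn3).permCongrHom⟩

theorem odd_case (R : RCtx P p U) (M : RMod p U A) (hp2 : p ≠ 2) {g₀ : G} (hgU : g₀ ∉ U)
    (hgp : g₀ ^ p ∈ U) (hgj : ∃ j : ℕ, g₀ ^ p ^ j = 1) : False := by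
  classical
  haveI := R.normal
  haveI := M.normal
  have hp := R.prime
  haveI := Fact.mk hp
  have hp' : ¬ p ∣ 2 := fun h => hp2 ((Nat.prime_dvd_prime_iff_eq hp Nat.prime_two).1 h)
  by_cases heven : 2 ∣ Nat.card G
  · haveI := Fact.mk Nat.prime_two
    obtain ⟨q, hq⟩ := exists_prime_orderOf_dvd_card' 2 heven
    have hq1 : q ≠ 1 := fun e => by rw [e, orderOf_one] at hq; exact absurd hq (by norm_num)
    have hqq : q * q = 1 := by rw [← pow_two, ← hq, pow_orderOf_eq_one]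
    have hqco : ¬ p ∣ orderOf q := by rw [hq]; exact hp'
    have hinv : ∀ u ∈ U, q * u * q⁻¹ = u⁻¹ := by
      intro u hu
      have hfp : MonoidHom.FixedPointFree (MulAut.conjNormal (H := U) q : U → U) := fun a ha =>
        Subtype.ext (R.fpf M hqco hq1 a.2 (mul_inv_eq_iff_eq_mul.1 (congrArg Subtype.val ha)))
      have hi : Function.Involutive (MulAut.conjNormal (H := U) q : U → U) := by
        intro a
        apply Subtype.ext
        rw [MulAut.conjNormal_apply, MulAut.conjNormal_apply,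
          show q * (q * (a : G) * q⁻¹) * q⁻¹ = q * q * a * (q * q)⁻¹ by group, hqq, one_mul, inv_one, mul_one]
      have h := congrFun (MonoidHom.FixedPointFree.coe_eq_inv_of_involutive
        (φ := MulAut.conjNormal (H := U) q) hfp hi) ⟨u, hu⟩
      simpa using congrArg Subtype.val h
    have hcA : q * g₀ * q⁻¹ * g₀⁻¹ ∈ U := by
      refine R.centralizer_le M (Subgroup.mem_centralizer_iff.2 fun v hv => ?_)
      have hv' : g₀⁻¹ * v * g₀ ∈ U := by simpa using R.normal.conj_mem v (M.le hv) g₀⁻¹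
      have e1 : q⁻¹ * (g₀⁻¹ * v * g₀) * q = (g₀⁻¹ * v * g₀)⁻¹ := by
        have := hinv _ hv'
        rwa [inv_eq_of_mul_eq_one_right hqq] at this ⊢
      have e2 : q * g₀ * q⁻¹ * g₀⁻¹ * v * (q * g₀ * q⁻¹ * g₀⁻¹)⁻¹ = v := by
        calc q * g₀ * q⁻¹ * g₀⁻¹ * v * (q * g₀ * q⁻¹ * g₀⁻¹)⁻¹
            = q * (g₀ * (q⁻¹ * (g₀⁻¹ * v * g₀) * q) * g₀⁻¹) * q⁻¹ := by group
          _ = q * v⁻¹ * q⁻¹ := by rw [e1]; group
          _ = v := by rw [hinv _ (U.inv_mem (M.le hv)), inv_inv]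
      exact (mul_inv_eq_iff_eq_mul.1 e2).symm
    set c := q * g₀ * q⁻¹ * g₀⁻¹ with hc
    obtain ⟨m, hm⟩ := two_mul_half_mod (hp.odd_of_ne_two hp2) 1
    have hcm : c ^ m * c ^ m = c := by
      rw [← pow_add, ← two_mul, hm, pow_add, pow_one, mul_one, R.exp c hcA, mul_one]
    have hcomm : Commute (c ^ m * g₀) q := by
      have h1 : q * (c ^ m * g₀) * q⁻¹ = c ^ m * g₀ := by
        rw [show q * (c ^ m * g₀) * q⁻¹ = (q * c ^ m * q⁻¹) * c * g₀ by rw [hc]; group,
          hinv _ (U.pow_mem hcA m)]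
        nth_rewrite 2 [← hcm]
        group
      exact (mul_inv_eq_iff_eq_mul.1 h1).symm
    have hgU' : c ^ m * g₀ ∉ U := fun h => hgU ((U.mul_mem_cancel_left (U.pow_mem hcA m)).1 h)
    have hmem : (c ^ m * g₀) ^ p ∈ U := by
      rw [← QuotientGroup.eq_one_iff (N := U), QuotientGroup.mk_pow, QuotientGroup.mk_mul,
        (QuotientGroup.eq_one_iff _).2 (U.pow_mem hcA m), one_mul, ← QuotientGroup.mk_pow,
        QuotientGroup.eq_one_iff]
      exact hgp
    exact hq1 (R.mixed M ⟨2, by rw [pow_two, pow_mul]; exact R.exp _ hmem⟩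
      (fun e => hgU' (by rw [e]; exact U.one_mem)) hqco hcomm)
  have hodd : Odd (Nat.card (G ⧸ U)) := Nat.not_even_iff_odd.1 fun he =>
    heven ((even_iff_two_dvd.1 he).trans (Subgroup.card_quotient_dvd_card U))
  haveI : Group.IsSolvable (G ⧸ U) := Cfsg.Agent.S0205.result hodd
  haveI : Nontrivial (G ⧸ U) := ⟨⟨(g₀ : G ⧸ U), 1, fun e => hgU ((QuotientGroup.eq_one_iff g₀).1 e)⟩⟩
  obtain ⟨r, Nb, hr, hNbn, hNb, hNbp⟩ := exists_normal_pGroup (Q := G ⧸ U)
  haveI := Fact.mk hr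
  set N := Nb.comap (QuotientGroup.mk' U) with hN
  haveI hNn : N.Normal := hNbn.comap _
  have hUN : U ≤ N := fun u hu => by
    show (u : G ⧸ U) ∈ Nb
    rw [(QuotientGroup.eq_one_iff u).2 hu]; exact Nb.one_mem
  have hUp : IsPGroup p U := fun a => ⟨1, Subtype.ext (by simpa using R.exp a a.2)⟩
  have hrp : r ≠ p := by
    rintro rfl
    have hk : IsPGroup r (QuotientGroup.mk' U).ker := by rw [QuotientGroup.ker_mk']; exact hUp
    have hle : N ≤ U := R.maximal N hNn (hNbp.comap_of_ker_isPGroup _ hk) hUN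
    apply hNb
    rw [Subgroup.eq_bot_iff_forall]
    intro a ha
    induction a using QuotientGroup.induction_on with
    | H b => exact (QuotientGroup.eq_one_iff b).2 (hle ha)
  let S : Sylow r N := default
  set T := (S : Subgroup N).map N.subtype with hT
  have hTr : IsPGroup r T := S.2.map _
  have hTord : ∀ a ∈ T, ¬ p ∣ orderOf a := by
    intro a ha hd
    obtain ⟨j, hj⟩ := IsPGroup.iff_orderOf.1 hTr ⟨a, ha⟩
    rw [Subgroup.orderOf_mk] at hj
    rw [hj] at hd
    exact hrp ((Nat.prime_dvd_prime_iff_eq hp hr).1 (hp.dvd_of_dvd_pow hd)).symm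
  have hTU : ∀ a ∈ T, a ∈ U → a = 1 := fun a ha haU => by
    by_contra h1
    exact hTord a ha (by rw [orderOf_eq_prime (R.exp a haU) h1])
  have hrN : r ∣ Nat.card N := by
    obtain ⟨a, ha, ha1⟩ := Nb.bot_or_exists_ne_one.resolve_left hNb
    obtain ⟨j, hj⟩ := IsPGroup.iff_orderOf.1 hNbp ⟨a, ha⟩
    rw [Subgroup.orderOf_mk] at hj
    have hd : r ∣ orderOf a := by
      rcases Nat.eq_zero_or_pos j with rfl | h
      · exact absurd (orderOf_eq_one_iff.1 (by simpa using hj)) ha1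
      · exact hj ▸ dvd_pow_self r h.ne'
    induction a using QuotientGroup.induction_on with
    | H b => exact hd.trans ((orderOf_map_dvd (QuotientGroup.mk' U) b).trans (Subgroup.orderOf_dvd_natCard _ ha))
  obtain ⟨t₀, ht₀, ht₀1⟩ := T.bot_or_exists_ne_one.resolve_left fun e => S.ne_bot_of_dvd_card hrN
    ((Subgroup.map_eq_bot_iff_of_injective _ N.subtype_injective).1 e)
  have hfr : Subgroup.normalizer (T : Set G) ⊔ N = ⊤ := Sylow.normalizer_sup_eq_top S
  obtain ⟨n, hn, k, hk, e⟩ := Subgroup.mem_sup_of_normal_right.1 (hfr ▸ Subgroup.mem_top g₀)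
  have hgN : g₀ ∉ N := by
    intro h
    have h' : (g₀ : G ⧸ U) ∈ Nb := h
    obtain ⟨j, hj⟩ := IsPGroup.iff_orderOf.1 hNbp ⟨(g₀ : G ⧸ U), h'⟩
    rw [Subgroup.orderOf_mk] at hj
    have hd : orderOf (g₀ : G ⧸ U) ∣ p := orderOf_dvd_of_pow_eq_one (by
      rw [← QuotientGroup.mk_pow]; exact (QuotientGroup.eq_one_iff _).2 hgp)
    exact hgU ((QuotientGroup.eq_one_iff g₀).1 (orderOf_eq_one_iff.1
      (Nat.eq_one_of_dvd_coprimes (((Nat.coprime_primes hr hp).2 hrp).pow_left j) (dvd_of_eq hj) hd)))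
  obtain ⟨j, m, hm, hno, hnm, -⟩ := exists_split n hp
  have hnU : n ^ m ∉ U := by
    intro h
    have d1 : orderOf (g₀ : G ⧸ N) ∣ p := orderOf_dvd_of_pow_eq_one (by
      rw [← QuotientGroup.mk_pow]; exact (QuotientGroup.eq_one_iff _).2 (hUN hgp))
    have d2 : orderOf (g₀ : G ⧸ N) ∣ m := by
      refine orderOf_dvd_of_pow_eq_one ?_
      rw [← e, QuotientGroup.mk_mul, (QuotientGroup.eq_one_iff k).2 hk, mul_one, ← QuotientGroup.mk_pow]
      exact (QuotientGroup.eq_one_iff _).2 (hUN h)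
    exact hgN ((QuotientGroup.eq_one_iff g₀).1 (orderOf_eq_one_iff.1
      (Nat.eq_one_of_dvd_coprimes (hp.coprime_iff_not_dvd.2 hm) d1 d2)))
  obtain ⟨g, hgT, hgU1, hgp1, hgj1⟩ := R.exists_step (Subgroup.pow_mem _ hn m) hnU ⟨j, hnm⟩
  have hg1 : g ≠ 1 := fun e => hgU1 (e ▸ U.one_mem)
  have hnorm : ∀ a ∈ T, g * a * g⁻¹ ∈ T := fun a ha => (Subgroup.mem_normalizer_iff.1 hgT a).1 ha
  -- the quotient and the module
  letI : CommGroup A :=
    { (inferInstance : Group A) with mul_comm := fun a b => Subtype.ext (M.comm _ a.2 _ b.2) }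
  let φ : G ⧸ U →* MulAut A := quotConj U A fun x hx v hv => M.central x hx v hv
  set Rb := T.map (QuotientGroup.mk' U) with hRb
  have hmain : ∀ v : A, v ^ Nat.card Rb = 1 := by
    refine fun v => frob_sum φ Rb (g : G ⧸ U) hp
      (by rw [← QuotientGroup.mk_pow]; exact (QuotientGroup.eq_one_iff _).2 hgp1) ?_ ?_ ?_ ?_ v
    · rintro _ ⟨a, ha, rfl⟩
      exact ⟨g * a * g⁻¹, hnorm a ha, by simp⟩
    · rintro _ ⟨a, ha, rfl⟩ hc
      have hm1 : g * a * g⁻¹ * a⁻¹ = 1 := by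
        refine hTU _ (T.mul_mem (hnorm a ha) (T.inv_mem ha)) ?_
        rw [← QuotientGroup.eq_one_iff (N := U)]
        simp only [QuotientGroup.mk_mul, QuotientGroup.mk_inv]
        rw [show (g : G ⧸ U) * a = a * g from hc.eq.symm]
        group
      rw [R.mixed M hgj1 hg1 (hTord a ha) (mul_inv_eq_iff_eq_mul.1 (mul_inv_eq_one.1 hm1)), map_one]
    · rintro _ ⟨a, ha, rfl⟩ w
      set y := a * g * a⁻¹ with hy
      have hyp : y ^ p ∈ U := by rw [hy, conj_pow]; exact R.normal.conj_mem _ hgp1 a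
      have hyU : y ∉ U := fun h => hgU1 (by simpa [hy, mul_assoc] using R.normal.conj_mem _ h a⁻¹)
      refine Subtype.ext ?_
      have hfun : (fun i => ((φ ((QuotientGroup.mk' U a * (g : G ⧸ U) * (QuotientGroup.mk' U a)⁻¹) ^ i) w : A) : G))
          = fun i => y ^ i * (w : G) * (y ^ i)⁻¹ := by
        funext i
        rw [QuotientGroup.mk'_apply, ← QuotientGroup.mk_inv, ← QuotientGroup.mk_mul, ← QuotientGroup.mk_mul,
          ← hy, ← QuotientGroup.mk_pow]
        exact MulAut.conjNormal_apply (y ^ i) w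
      have hprod : ((∏ i ∈ Finset.range p,
          φ ((QuotientGroup.mk' U a * (g : G ⧸ U) * (QuotientGroup.mk' U a)⁻¹) ^ i) w : A) : G) =
          ((List.range p).map fun i => y ^ i * (w : G) * (y ^ i)⁻¹).prod := by
        have e0 : (∏ i ∈ Finset.range p,
            φ ((QuotientGroup.mk' U a * (g : G ⧸ U) * (QuotientGroup.mk' U a)⁻¹) ^ i) w : A) =
            ((List.range p).map fun i =>
              φ ((QuotientGroup.mk' U a * (g : G ⧸ U) * (QuotientGroup.mk' U a)⁻¹) ^ i) w).prod := rfl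
        rw [e0, Subgroup.val_list_prod, List.map_map, ← hfun]
        rfl
      rw [hprod]
      by_cases hall : ∀ v ∈ A, (v * y) ^ p = 1
      · exact prod_conj_eq (hall _ w.2) (by simpa using hall 1 A.one_mem)
      push Not at hall
      obtain ⟨v, hv, hvy⟩ := hall
      set h := v * y with hh
      have hact : ∀ x ∈ A, ∀ i : ℕ, h ^ i * x * (h ^ i)⁻¹ = y ^ i * x * (y ^ i)⁻¹ := by
        intro x hx i
        have e1 : φ ((h ^ i : G) : G ⧸ U) ⟨x, hx⟩ = φ ((y ^ i : G) : G ⧸ U) ⟨x, hx⟩ := by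
          rw [QuotientGroup.mk_pow, QuotientGroup.mk_pow, hh, QuotientGroup.mk_mul,
            (QuotientGroup.eq_one_iff v).2 (M.le hv), one_mul]
        exact ((MulAut.conjNormal_apply (h ^ i) ⟨x, hx⟩).symm.trans (congrArg Subtype.val e1)).trans
          (MulAut.conjNormal_apply (y ^ i) ⟨x, hx⟩)
      have hhq : (h : G ⧸ U) = (y : G ⧸ U) := by
        rw [hh, QuotientGroup.mk_mul, (QuotientGroup.eq_one_iff v).2 (M.le hv), one_mul]
      have hhj : ∃ j : ℕ, h ^ p ^ j = 1 := ⟨2, by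
        rw [pow_two, pow_mul]
        refine R.exp _ ?_
        rw [← QuotientGroup.eq_one_iff (N := U), QuotientGroup.mk_pow, hhq, ← QuotientGroup.mk_pow,
          QuotientGroup.eq_one_iff]
        exact hyp⟩
      have hynorm : y * t₀ * y⁻¹ ∈ T := by
        rw [hy, show a * g * a⁻¹ * t₀ * (a * g * a⁻¹)⁻¹ = a * (g * (a⁻¹ * t₀ * a) * g⁻¹) * a⁻¹ by group]
        exact T.mul_mem (T.mul_mem ha (hnorm _ (T.mul_mem (T.mul_mem (T.inv_mem ha) ht₀) ha))) (T.inv_mem ha)
      set c := t₀ * h * t₀⁻¹ * h⁻¹ with hc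
      have hcT : t₀ * y * t₀⁻¹ * y⁻¹ ∈ T := by
        rw [show t₀ * y * t₀⁻¹ * y⁻¹ = t₀ * (y * t₀ * y⁻¹)⁻¹ by group]
        exact T.mul_mem ht₀ (T.inv_mem hynorm)
      have hcq : (c : G ⧸ U) = ((t₀ * y * t₀⁻¹ * y⁻¹ : G) : G ⧸ U) := by
        rw [hc]; simp only [QuotientGroup.mk_mul, QuotientGroup.mk_inv, hhq]
      have hcU : c ∉ U := by
        intro hcU
        have h1 := hTU _ hcT ((QuotientGroup.eq_one_iff _).1
          (hcq.symm.trans ((QuotientGroup.eq_one_iff c).2 hcU)))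
        have hyj : ∃ j : ℕ, y ^ p ^ j = 1 := by
          obtain ⟨j', hj'⟩ := hgj1
          exact ⟨j', by rw [hy, conj_pow, hj', mul_one, mul_inv_cancel]⟩
        exact ht₀1 (R.mixed M hyj (fun e => hyU (e ▸ U.one_mem)) (hTord _ ht₀)
          (mul_inv_eq_iff_eq_mul.1 (mul_inv_eq_one.1 h1)).symm)
      obtain ⟨i, l, hl, -, -, hcl⟩ := exists_split c hp
      have hck : c ^ p ^ i ≠ 1 := by
        intro h1
        have hd1 : orderOf (c : G ⧸ U) ∣ p ^ i :=
          (orderOf_map_dvd (QuotientGroup.mk' U) c).trans (orderOf_dvd_of_pow_eq_one h1)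
        have hd2 : orderOf (c : G ⧸ U) ∣ orderOf (t₀ * y * t₀⁻¹ * y⁻¹) :=
          hcq ▸ orderOf_map_dvd (QuotientGroup.mk' U) _
        exact hcU ((QuotientGroup.eq_one_iff c).1 (orderOf_eq_one_iff.1 (Nat.eq_one_of_dvd_coprimes
          ((hp.coprime_iff_not_dvd.2 (hTord _ hcT)).pow_left i) hd1 hd2)))
      obtain ⟨hfix, hdisp, -, -⟩ := R.quad M hvy hhj (r := t₀)
        (Or.inr ⟨p ^ i, hck, by rw [hcl]; exact hl⟩) (fun e' => hcU (by rw [hc, e']; exact U.one_mem))
      set d := h * (w : G) * h⁻¹ * (w : G)⁻¹ with hd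
      have hdA : d ∈ A := A.mul_mem (M.normal.conj_mem _ w.2 h) (A.inv_mem w.2)
      have hdc : Commute h d := (hfix d hdA).2 (hdisp w w.2)
      have hiter : ∀ i : ℕ, h ^ i * (w : G) * (h ^ i)⁻¹ = d ^ i * w := by
        intro i
        induction i with
        | zero => simp
        | succ i ih =>
          calc h ^ (i + 1) * (w : G) * (h ^ (i + 1))⁻¹ = h * (h ^ i * w * (h ^ i)⁻¹) * h⁻¹ := by
                rw [pow_succ']; group
            _ = h * d ^ i * h⁻¹ * (h * (w : G) * h⁻¹) := by rw [ih]; group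
            _ = d ^ i * (d * w) := by
                rw [(hdc.pow_right i).eq, mul_inv_cancel_right, show h * (w : G) * h⁻¹ = d * w by rw [hd]; group]
            _ = d ^ (i + 1) * w := by rw [pow_succ]; exact (mul_assoc (d ^ i) d (w : G)).symm
      have hsum : ∀ n : ℕ, ((List.range n).map fun i => h ^ i * (w : G) * (h ^ i)⁻¹).prod =
          d ^ (n * (n - 1) / 2) * (w : G) ^ n := by
        intro n
        induction n with
        | zero => simp
        | succ n ih =>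
          rw [List.range_succ, List.map_append, List.prod_append, List.map_singleton, List.prod_singleton,
            ih, hiter]
          have hcm : Commute ((w : G) ^ n) (d ^ n) := M.comm _ (A.pow_mem w.2 n) _ (A.pow_mem hdA n)
          rw [mul_assoc, ← mul_assoc ((w : G) ^ n), hcm.eq, ← mul_assoc, ← mul_assoc, ← pow_add, mul_assoc,
            ← pow_succ]
          congr 2
          rw [← Finset.sum_range_id, ← Finset.sum_range_id, Finset.sum_range_succ]
      rw [List.map_congr_left fun i _ => (hact w w.2 i).symm, hsum p]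
      obtain ⟨o, ho⟩ := hp.odd_of_ne_two hp2
      have : p * (p - 1) / 2 = p * o := by
        rw [ho, Nat.add_sub_cancel, ← mul_assoc, mul_comm (2 * o + 1) 2, mul_assoc, Nat.mul_div_cancel_left _ two_pos]
      rw [this, pow_mul, M.exp d hdA, one_pow, one_mul, M.exp _ w.2]
      rfl
    · intro v hv
      have h1 : MulAut.conjNormal (H := A) t₀ v = v := hv _ ⟨t₀, ht₀, rfl⟩
      exact Subtype.ext (R.fpf_mod M (hTord _ ht₀) ht₀1 v.2
        (mul_inv_eq_iff_eq_mul.1 (congrArg Subtype.val h1)))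
  obtain ⟨v, hv, hv1⟩ := A.bot_or_exists_ne_one.resolve_left M.ne_bot
  have h2 : v ^ Nat.card Rb = 1 := by simpa using congrArg Subtype.val (hmain ⟨v, hv⟩)
  obtain ⟨i, hi⟩ := (hTr.map (QuotientGroup.mk' U)).exists_card_eq
  rw [← hRb] at hi
  rw [hi] at h2
  have hd := orderOf_dvd_of_pow_eq_one h2
  rw [M.toElem.orderOf_eq hv hv1] at hd
  exact hrp ((Nat.prime_dvd_prime_iff_eq hp hr).1 (hp.dvd_of_dvd_pow hd)).symm

theorem conclusion (R : RCtx P p U) (M : RMod p U A) (M2 : p = 2 → RMod p U U) :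
    Small G ∨ Nonempty (G ≃* Equiv.Perm (Fin 4)) := by
  haveI := R.normal
  have hp := R.prime
  by_cases hall : ∀ g : G, (∃ j : ℕ, g ^ p ^ j = 1) → g ∈ U
  · by_cases htop : U = ⊤
    · refine Or.inl (Or.inl ⟨p, hp, fun e => ?_⟩)
      apply R.ne_bot
      rw [htop, ← e, Subgroup.closure_eq_bot_iff]
      intro g hg
      exact absurd (R.exp g (htop ▸ Subgroup.mem_top g)) hg
    refine Or.inl (Or.inr (exists_frobeniusComplement U R.ne_bot htop fun u hu hu1 g hc => ?_))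
    obtain ⟨j, m, hm, -, -, ho⟩ := exists_split g hp
    by_cases h1 : g ^ p ^ j = 1
    · exact hall g ⟨j, h1⟩
    · exact absurd (R.fpf M (ho.symm ▸ hm) h1 hu (hc.pow_left _)) hu1
  · push Not at hall
    obtain ⟨n, hnj, hnU⟩ := hall
    obtain ⟨g, -, hgU, hgp, hgj⟩ := R.exists_step (Subgroup.mem_top n) hnU hnj
    by_cases hp2 : p = 2
    · exact Or.inr (R.even_case (M2 hp2) hp2 hgU hgp)
    · exact (R.odd_case M hp2 hgU hgp hgj).elim

end RCtx

/-- Baer's theorem on partitioned groups with a non-trivial soluble normal subgroup. -/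
theorem radical_case (P : NPart G) (N : Subgroup G) [N.Normal] (hN : N ≠ ⊥) [Group.IsSolvable N] :
    Small G ∨ Nonempty (G ≃* Equiv.Perm (Fin 4)) := by
  classical
  by_cases hno : ∃ x : G, x ≠ 1 ∧ (P.cmp x).Normal
  · obtain ⟨x, hx, hn⟩ := hno
    exact Or.inl (small_of_normal_member P hx hn)
  push Not at hno
  haveI : Nontrivial N := (Subgroup.nontrivial_iff_ne_bot N).2 hN
  obtain ⟨n, hn⟩ := (Group.isSolvable_def N).1 ‹_›
  have hex : ∃ n, derivedSeries N n = ⊥ := ⟨n, hn⟩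
  obtain ⟨k, hk⟩ : ∃ k, Nat.find hex = k + 1 := Nat.exists_eq_succ_of_ne_zero fun h => by
    have h1 := Nat.find_spec hex
    rw [h, derivedSeries_zero] at h1
    exact (top_ne_bot (α := Subgroup N)) h1
  set D := (derivedSeries N k).map N.subtype with hD
  haveI hDn : D.Normal := inferInstance
  have hD1 : D ≠ ⊥ := fun e => Nat.find_min hex (by omega)
    ((Subgroup.map_eq_bot_iff_of_injective _ N.subtype_injective).1 e)
  have hDc : ∀ a ∈ D, ∀ b ∈ D, a * b = b * a := by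
    rintro _ ⟨a, ha, rfl⟩ _ ⟨b, hb, rfl⟩
    have h1 := Nat.find_spec hex
    rw [hk, derivedSeries_succ] at h1
    exact congrArg Subtype.val ((Subgroup.commutator_eq_bot_iff_le_centralizer.1 h1) ha b hb).symm
  obtain ⟨p, hp, hpd⟩ := Nat.exists_prime_and_dvd (n := Nat.card D) fun e => hD1 (Subgroup.card_eq_one.1 e)
  haveI := Fact.mk hp
  obtain ⟨V, hVn, hV, -, hVe⟩ := exists_normal_exponent D hDc hp hpd
  obtain ⟨U, hVU, ⟨hUn, hUp⟩, hUmax⟩ := (Set.toFinite {N : Subgroup G | N.Normal ∧ IsPGroup p N}).exists_le_maximal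
    (show V ∈ {N : Subgroup G | N.Normal ∧ IsPGroup p N} from
      ⟨hVn, fun a => ⟨1, Subtype.ext (by simpa using hVe a a.2)⟩⟩)
  have hU1 : U ≠ ⊥ := fun e => hV (eq_bot_iff.2 (e ▸ hVU))
  let Z : Subgroup G := (Subgroup.center U).map U.subtype
  haveI hZn : Z.Normal := inferInstance
  have hZc : ∀ u ∈ U, ∀ a ∈ Z, u * a = a * u := by
    rintro u hu _ ⟨a, ha, rfl⟩
    exact congrArg Subtype.val (Subgroup.mem_center_iff.1 ha ⟨u, hu⟩)
  have hZle : Z ≤ U := Subgroup.map_subtype_le _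
  have hpZ : p ∣ Nat.card Z := by
    haveI : Nontrivial U := (Subgroup.nontrivial_iff_ne_bot U).2 hU1
    obtain ⟨n, hn⟩ := (hUp.to_le hZle).exists_card_eq
    rcases Nat.eq_zero_or_pos n with rfl | h
    · have hb : Z = ⊥ := Subgroup.card_eq_one.1 (by simpa using hn)
      exact absurd ((Subgroup.map_eq_bot_iff_of_injective _ U.subtype_injective).1 hb)
        ((Subgroup.nontrivial_iff_ne_bot _).1 hUp.center_nontrivial)
    · exact hn ▸ dvd_pow_self p h.ne'
  obtain ⟨A, hAn, hA, hAZ, hAe⟩ := exists_normal_exponent Z (fun a ha b hb => hZc a (hZle ha) b hb) hp hpZ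
  have hexp : ∀ u ∈ U, u ^ p = 1 := by
    intro u hu
    by_contra h1
    have hu1 : u ≠ 1 := fun e => h1 (by rw [e, one_pow])
    refine hno u hu1 (P.normal_of_le hA hu1 fun a ha => ?_)
    refine P.mem_of_orderOf_ne (hZc u hu a (hAZ ha)) hu1 fun e => h1 ?_
    exact orderOf_dvd_iff_pow_eq_one.1 (e ▸ orderOf_dvd_of_pow_eq_one (hAe a ha))
  have M : RMod p U A := ⟨⟨hAn, fun a ha b hb => hZc a (hZle (hAZ ha)) b (hAZ hb), hAe⟩, hA,
    fun a ha => hZle (hAZ ha), fun u hu a ha => hZc u hu a (hAZ ha)⟩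
  have R : RCtx P p U := ⟨hp, hno, hUn, hU1, hexp, fun N hN hNp hle => hUmax ⟨hN, hNp⟩ hle⟩
  refine R.conclusion M fun h2 => ?_
  subst h2
  have hcomm : ∀ a ∈ U, ∀ b ∈ U, a * b = b * a := by
    intro a ha b hb
    have hi : ∀ x ∈ U, x⁻¹ = x := fun x hx => inv_eq_of_mul_eq_one_right (by simpa [pow_two] using hexp x hx)
    calc a * b = (a * b)⁻¹ := (hi _ (U.mul_mem ha hb)).symm
      _ = b⁻¹ * a⁻¹ := mul_inv_rev a b
      _ = b * a := by rw [hi a ha, hi b hb]
  exact ⟨⟨hUn, hcomm, hexp⟩, hU1, le_rfl, fun u hu a ha => hcomm u hu a ha⟩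

end Cfsg.Agent.Part11
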