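import Mathlib
import Cfsg.Agent.Lib.Part11Inner
import Cfsg.Agent.Lib.PGroupsCyclic
import Cfsg.Agent.Lib.SmallGroupBasic
import Cfsg.Agent.Lib.ExtTwoLayer
import Cfsg.Agent.Lib.TransferThompson
import Cfsg.Agent.S0508

/-!
# Simple partitioned groups (Suzuki)
-/

set_option autoImplicit false

open scoped Pointwise

namespace Cfsg.Agent.Part11

universe u

variable {G : Type u} [Group G] [Finite G]

/-- A Sylow subgroup with a central involution commuting with a given one. -/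
theorem exists_sylow_central {t : G} (ht1 : t ≠ 1) (ht : t * t = 1) :
    ∃ (S : Sylow 2 G) (z : G), t ∈ (S : Subgroup G) ∧ z ∈ (S : Subgroup G) ∧ z ≠ 1 ∧ z * z = 1 ∧
      ∀ s ∈ (S : Subgroup G), Commute s z := by
  haveI := Fact.mk Nat.prime_two
  obtain ⟨S, hS⟩ := (IsPGroup.of_card (n := 1) (by rw [Nat.card_zpowers, orderOf_invol ht1 ht, pow_one]) :
    IsPGroup 2 (Subgroup.zpowers t)).exists_le_sylow
  have htS : t ∈ (S : Subgroup G) := hS (Subgroup.mem_zpowers t)
  haveI : Nontrivial (S : Subgroup G) := ⟨⟨⟨t, htS⟩, 1, fun e => ht1 (congrArg Subtype.val e)⟩⟩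
  obtain ⟨c, hc, hc1⟩ := (Subgroup.center (S : Subgroup G)).bot_or_exists_ne_one.resolve_left
    ((Subgroup.nontrivial_iff_ne_bot _).1 S.2.center_nontrivial)
  obtain ⟨j, hj⟩ := IsPGroup.iff_orderOf.1 S.2 c
  have hd : 2 ∣ orderOf c := by
    rcases Nat.eq_zero_or_pos j with rfl | h
    · exact absurd (orderOf_eq_one_iff.1 (by simpa using hj)) hc1
    · exact hj ▸ dvd_pow_self 2 h.ne'
  obtain ⟨k, hk⟩ := exists_pow_orderOf_eq hd
  have ho : orderOf ((c ^ k : (S : Subgroup G)) : G) = 2 := by rw [Subgroup.orderOf_coe, hk]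
  refine ⟨S, ((c ^ k : (S : Subgroup G)) : G), htS, SetLike.coe_mem _, fun e => ?_,
    TwoInvolutions.mul_self_of_orderOf ho, fun s hs => ?_⟩
  · rw [e, orderOf_one] at ho; exact absurd ho (by norm_num)
  · exact congrArg Subtype.val
      (Subgroup.mem_center_iff.1 ((Subgroup.center _).pow_mem hc k) ⟨s, hs⟩)

/-- If some involution centraliser lies in its member, all do, and the involutions are central there. -/
theorem exists_sectx (P : NPart G) (hs : IsSimpleGroup G) (hna : ∃ a b : G, a * b ≠ b * a) {t : G}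
    (ht1 : t ≠ 1) (ht : t * t = 1) (hI : P.Inner t) : ∃ (S : Sylow 2 G) (z : G), SECtx P S z := by
  obtain ⟨S, z, htS, hzS, hz1, hz, hc⟩ := exists_sylow_central ht1 ht
  exact ⟨S, z, hs, hna, hz, hz1, hzS, hc, P.inner_of_commute ht1 ht hI hz1 hz (hc t htS)⟩

/-- The dihedral configuration. -/
structure GDCtx (P : NPart G) (S : Sylow 2 G) (t a w : G) : Prop where
  simple : IsSimpleGroup G
  invol : t * t = 1
  ne_one : t ≠ 1
  mem : t ∈ (S : Subgroup G)
  central : ∀ s ∈ (S : Subgroup G), Commute s t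
  ha : Commute a t
  ha2 : a * a ≠ 1
  hw : Commute w t
  hwX : w ∉ P.cmp t

namespace GDCtx

variable {P : NPart G} {S : Sylow 2 G} {t a w : G} (C : GDCtx P S t a w)
include C

theorem ha_mem : a ∈ P.cmp t :=
  P.mem_of_orderOf_ne C.ha.symm C.ne_one (fun e => C.ha2 (by
    rw [orderOf_invol C.ne_one C.invol] at e
    rw [← pow_two, ← e, pow_orderOf_eq_one]))

theorem cover {x : G} (hx : Commute x t) (hxX : x ∉ P.cmp t) : w * x ∈ P.cmp t := by
  by_contra h
  have h1 := P.outside_inverts C.ne_one C.invol (C.hw.mul_left hx) h C.ha_mem C.ha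
  rw [show w * x * a * (w * x)⁻¹ = w * (x * a * x⁻¹) * w⁻¹ by group,
    P.outside_inverts C.ne_one C.invol hx hxX C.ha_mem C.ha,
    show w * a⁻¹ * w⁻¹ = (w * a * w⁻¹)⁻¹ by group,
    P.outside_inverts C.ne_one C.invol C.hw C.hwX C.ha_mem C.ha, inv_inv] at h1
  exact C.ha2 (by nth_rewrite 2 [h1]; exact mul_inv_cancel a)

theorem abelian {b c : G} (hb : b ∈ P.cmp t) (hbt : Commute b t) (hc : c ∈ P.cmp t) (hct : Commute c t) :
    Commute b c := by
  have h1 := P.outside_inverts C.ne_one C.invol C.hw C.hwX ((P.cmp t).mul_mem hb hc) (hbt.mul_left hct)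
  rw [show w * (b * c) * w⁻¹ = (w * b * w⁻¹) * (w * c * w⁻¹) by group,
    P.outside_inverts C.ne_one C.invol C.hw C.hwX hb hbt, P.outside_inverts C.ne_one C.invol C.hw C.hwX hc hct,
    mul_inv_rev] at h1
  show b * c = c * b
  calc b * c = (c⁻¹ * b⁻¹)⁻¹ := by group
    _ = (b⁻¹ * c⁻¹)⁻¹ := by rw [h1]
    _ = c * b := by group

theorem exists_out : ∃ w₀ ∈ (S : Subgroup G), w₀ ∉ P.cmp t := by
  by_contra hno
  push Not at hno
  haveI := Fact.mk Nat.prime_two
  have hinv : ∀ s ∈ (S : Subgroup G), w * s * w⁻¹ = s⁻¹ := fun s hs =>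
    P.outside_inverts C.ne_one C.invol C.hw C.hwX (hno s hs) (C.central s hs)
  have hww := P.outside_sq C.ne_one C.invol C.hw C.hwX
  have hW : IsPGroup 2 (Subgroup.zpowers w) := IsPGroup.of_card (n := 1) (by
    rw [Nat.card_zpowers, orderOf_invol (fun e => C.hwX (by rw [e]; exact one_mem _)) hww, pow_one])
  have hle : Subgroup.zpowers w ≤ Subgroup.normalizer ((S : Subgroup G) : Set G) := by
    rw [Subgroup.zpowers_le, Subgroup.mem_normalizer_iff]
    intro s
    refine ⟨fun hs => by rw [hinv s hs]; exact (S : Subgroup G).inv_mem hs, fun h => ?_⟩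
    have h1 := hinv _ h
    rw [show w * (w * s * w⁻¹) * w⁻¹ = w * w * s * (w * w)⁻¹ by group, hww] at h1
    simp only [one_mul, inv_one, mul_one] at h1
    rw [h1]
    exact (S : Subgroup G).inv_mem h
  have h := S.is_maximal' (hW.to_sup_of_normal_right' S.2 hle) le_sup_right
  exact C.hwX (hno w (h ▸ Subgroup.mem_sup_left (Subgroup.mem_zpowers w)))

theorem relIndex_two : ((S : Subgroup G) ⊓ P.cmp t).relIndex (S : Subgroup G) = 2 := by
  obtain ⟨w₀, hw₀, hw₀X⟩ := C.exists_out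
  rw [Subgroup.relIndex, Subgroup.index_eq_two_iff]
  refine ⟨⟨w₀, hw₀⟩, fun b => ?_⟩
  simp only [Subgroup.mem_subgroupOf, Subgroup.mem_inf, Subgroup.coe_mul, SetLike.coe_mem, true_and,
    (S : Subgroup G).mul_mem b.2 hw₀]
  by_cases hb : (b : G) ∈ P.cmp t
  · exact Or.inr ⟨hb, fun h => hw₀X (((P.cmp t).mul_mem_cancel_left hb).1 h)⟩
  · refine Or.inl ⟨?_, hb⟩
    have hs1 := P.outside_sq C.ne_one C.invol (C.central _ hw₀) hw₀X
    have hs2 := P.outside_sq C.ne_one C.invol (C.central _ b.2) hb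
    have h1 := C.cover (C.central _ b.2) hb
    have h2 := C.cover (C.central _ hw₀) hw₀X
    have h3 := (P.cmp t).mul_mem ((P.cmp t).inv_mem h1) h2
    rw [show ((w : G) * b)⁻¹ * (w * w₀) = (b : G)⁻¹ * w₀ by group, inv_eq_of_mul_eq_one_right hs2] at h3
    exact h3

theorem central_eq {b : G} (hb : b ∈ (S : Subgroup G)) (hbX : b ∈ P.cmp t) (hbb : b * b = 1) (hb1 : b ≠ 1)
    {x : G} : Commute x b ↔ Commute x t := by
  have hbt := C.central b hb
  have hwb : Commute w b := by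
    have h := P.outside_inverts C.ne_one C.invol C.hw C.hwX hbX hbt
    rw [inv_eq_of_mul_eq_one_right hbb] at h
    exact mul_inv_eq_iff_eq_mul.1 h
  have eb : P.cmp b = P.cmp t := P.eq_of_mem t b C.ne_one hb1 hbX
  have htb : t ∈ P.cmp b := eb ▸ P.mem t
  constructor
  · intro hx
    by_cases hxX : x ∈ P.cmp t
    · have h1 := P.outside_inverts hb1 hbb hwb (eb ▸ C.hwX) (eb ▸ (P.cmp t).mul_mem hxX (P.mem t))
        (hx.mul_left hbt.symm)
      rw [show w * (x * t) * w⁻¹ = (w * x * w⁻¹) * (w * t * w⁻¹) by group,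
        P.outside_inverts hb1 hbb hwb (eb ▸ C.hwX) (eb ▸ hxX) hx,
        P.outside_inverts hb1 hbb hwb (eb ▸ C.hwX) htb hbt.symm, mul_inv_rev] at h1
      show x * t = t * x
      calc x * t = (t⁻¹ * x⁻¹)⁻¹ := by group
        _ = (x⁻¹ * t⁻¹)⁻¹ := by rw [h1]
        _ = t * x := by group
    · have h1 := P.outside_inverts hb1 hbb hx (eb ▸ hxX) htb hbt.symm
      rw [inv_eq_of_mul_eq_one_right C.invol] at h1
      exact mul_inv_eq_iff_eq_mul.1 h1
  · intro hx
    by_cases hxX : x ∈ P.cmp t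
    · exact C.abelian hxX hx hbX hbt
    · have h1 := C.abelian (C.cover hx hxX) (C.hw.mul_left hx) hbX hbt
      have h2 : x = w⁻¹ * (w * x) := by group
      rw [h2]
      exact hwb.inv_left.mul_left h1

/-- `t` is the only involution of `S` in its member. -/
theorem unique {b : G} (hb : b ∈ (S : Subgroup G)) (hbX : b ∈ P.cmp t) (hbb : b * b = 1) (hb1 : b ≠ 1) :
    b = t := by
  by_contra hbt
  haveI := C.simple
  obtain ⟨w₀, hw₀, hw₀X⟩ := C.exists_out
  have hw₀1 : w₀ ≠ 1 := fun e => hw₀X (e ▸ one_mem _)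
  have hw₀₂ := P.outside_sq C.ne_one C.invol (C.central _ hw₀) hw₀X
  by_cases hconj : ∃ g : G, g * w₀ * g⁻¹ ∈ (S : Subgroup G) ⊓ P.cmp t
  swap
  · obtain ⟨M, hMn, hMi, hwM⟩ := TransferThompson.thompson_transfer S ((S : Subgroup G) ⊓ P.cmp t) inf_le_left
      C.relIndex_two (orderOf_invol hw₀1 hw₀₂) hw₀ (fun g hg => hconj ⟨g, hg⟩)
    rcases hMn.eq_bot_or_eq_top with e | e
    · rw [e, Subgroup.index_bot] at hMi
      haveI := Fact.mk Nat.prime_two
      haveI : IsCyclic G := isCyclic_of_prime_card hMi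
      letI : CommGroup G := IsCyclic.commGroup
      exact C.ha2 (by rw [← pow_two, ← hMi, pow_card_eq_one'])
    · exact hwM (e ▸ Subgroup.mem_top _)
  obtain ⟨g, hgS, hgX⟩ := hconj
  set u := g * w₀ * g⁻¹ with hu
  have huu : u * u = 1 := by
    rw [hu, show g * w₀ * g⁻¹ * (g * w₀ * g⁻¹) = g * (w₀ * w₀) * g⁻¹ by group, hw₀₂, mul_one, mul_inv_cancel]
  have hu1 : u ≠ 1 := by simpa [hu] using hw₀1
  have eu : P.cmp u = P.cmp t := P.eq_of_mem t u C.ne_one hu1 hgX
  -- transported data at `w₀`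
  have key : ∀ x : G, x ∈ (S : Subgroup G) → x ∈ P.cmp t → x * x = 1 → x ≠ 1 →
      g * x * g⁻¹ ∉ P.cmp t := by
    intro x hxS hxX hxx hx1 hmem
    have h1 : g * x * g⁻¹ ∈ P.cmp u := eu.symm ▸ hmem
    rw [hu, P.conj_mem_iff hw₀1] at h1
    have ex : P.cmp w₀ = P.cmp t :=
      (P.eq_of_mem w₀ x hw₀1 hx1 h1).symm.trans (P.eq_of_mem t x C.ne_one hx1 hxX)
    exact hw₀X (ex ▸ P.mem w₀)
  have hcom : ∀ x : G, x ∈ (S : Subgroup G) → x ∈ P.cmp t → x * x = 1 → x ≠ 1 →
      Commute (g * x * g⁻¹) t := by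
    intro x hxS hxX hxx hx1
    refine (C.central_eq hgS hgX huu hu1).1 ?_
    have hc : Commute x w₀ := ((C.central_eq hxS hxX hxx hx1).2 (C.central _ hw₀)).symm
    show g * x * g⁻¹ * (g * w₀ * g⁻¹) = g * w₀ * g⁻¹ * (g * x * g⁻¹)
    calc g * x * g⁻¹ * (g * w₀ * g⁻¹) = g * (x * w₀) * g⁻¹ := by group
      _ = g * (w₀ * x) * g⁻¹ := by rw [hc.eq]
      _ = g * w₀ * g⁻¹ * (g * x * g⁻¹) := by group
  have h1 := C.cover (hcom b hb hbX hbb hb1) (key b hb hbX hbb hb1)
  have h2 := C.cover (hcom t C.mem (P.mem t) C.invol C.ne_one) (key t C.mem (P.mem t) C.invol C.ne_one)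
  have h3 := (P.cmp t).mul_mem ((P.cmp t).inv_mem h1) h2
  rw [show (w * (g * b * g⁻¹))⁻¹ * (w * (g * t * g⁻¹)) = g * (b⁻¹ * t) * g⁻¹ by group,
    inv_eq_of_mul_eq_one_right hbb] at h3
  exact key (b * t) ((S : Subgroup G).mul_mem hb C.mem) ((P.cmp t).mul_mem hbX (P.mem t))
    (by
      rw [show b * t * (b * t) = b * (t * b) * t by group, ← (C.central b hb).eq,
        show b * (b * t) * t = (b * b) * (t * t) by group, hbb, C.invol, one_mul])
    (fun e => hbt (by rw [mul_eq_one_iff_eq_inv.1 e, inv_eq_of_mul_eq_one_right C.invol])) h3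

theorem isCyclic_inf : IsCyclic ((S : Subgroup G) ⊓ P.cmp t : Subgroup G) := by
  haveI := Fact.mk Nat.prime_two
  have hK : IsPGroup 2 ((S : Subgroup G) ⊓ P.cmp t : Subgroup G) := S.2.to_le inf_le_left
  refine PGroupsCyclic.isCyclic_of_comm hK
    (fun b c => Subtype.ext (C.abelian b.2.2 (C.central _ b.2.1) c.2.2 (C.central _ c.2.1)).eq)
    (z := ⟨t, Subgroup.mem_inf.2 ⟨C.mem, P.mem t⟩⟩) (fun g hg => ?_) (by rw [Subgroup.orderOf_mk, orderOf_invol C.ne_one C.invol])
  by_cases hg1 : (g : G) = 1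
  · have : g = 1 := Subtype.ext hg1
    rw [this]; exact one_mem _
  have h := C.unique g.2.1 g.2.2 (by simpa [pow_two] using congrArg Subtype.val hg) hg1
  exact Subgroup.mem_zpowers_iff.2 ⟨1, Subtype.ext (by simpa using h.symm)⟩

theorem dihedral : ∃ n : ℕ, 2 ≤ n ∧ Nonempty ((S : Subgroup G) ≃* DihedralGroup n) := by
  set K : Subgroup (S : Subgroup G) := ((S : Subgroup G) ⊓ P.cmp t).subgroupOf (S : Subgroup G) with hK
  haveI := C.isCyclic_inf
  haveI : IsCyclic K := isCyclic_of_surjective (Subgroup.subgroupOfEquivOfLe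
    (inf_le_left : (S : Subgroup G) ⊓ P.cmp t ≤ (S : Subgroup G))).symm.toMonoidHom
    (Subgroup.subgroupOfEquivOfLe _).symm.surjective
  obtain ⟨x, hx⟩ := (Subgroup.isCyclic_iff_exists_zpowers_eq_top K).1 inferInstance
  obtain ⟨w₀, hw₀, hw₀X⟩ := C.exists_out
  have hxK : x ∈ K := hx ▸ Subgroup.mem_zpowers x
  have hxX : (x : G) ∈ P.cmp t := (Subgroup.mem_inf.1 (Subgroup.mem_subgroupOf.1 hxK)).2
  have hw₀₂ := P.outside_sq C.ne_one C.invol (C.central _ hw₀) hw₀X
  have hn : Nat.card K = orderOf x := by rw [← hx, Nat.card_zpowers]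
  haveI : NeZero (Nat.card K) := ⟨Nat.card_pos.ne'⟩
  refine ⟨Nat.card K, ?_, SmallGroupBasic.nonempty_dihedral_equiv (x := x) (y := ⟨w₀, hw₀⟩) ?_ hn.symm
    (Subtype.ext hw₀₂) ?_ ?_⟩
  · have h := Subgroup.orderOf_dvd_natCard K (x := (⟨t, C.mem⟩ : (S : Subgroup G)))
      (Subgroup.mem_subgroupOf.2 ⟨C.mem, P.mem t⟩)
    rw [Subgroup.orderOf_mk, orderOf_invol C.ne_one C.invol] at h
    exact Nat.le_of_dvd Nat.card_pos h
  · rw [← K.card_mul_index, show K.index = 2 from C.relIndex_two, mul_comm]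
  · refine Subtype.ext ?_
    have h := P.outside_inverts C.ne_one C.invol (C.central _ hw₀) hw₀X hxX (C.central _ x.2)
    rw [inv_eq_of_mul_eq_one_right hw₀₂] at h
    exact h
  · intro h
    rw [hx] at h
    exact hw₀X (Subgroup.mem_inf.1 (Subgroup.mem_subgroupOf.1 h)).2

theorem unique_commute {i : G} (hi : i ∈ P.cmp t) (hit : Commute i t) (hii : i * i = 1) (hi1 : i ≠ 1) :
    i = t := by
  haveI := Fact.mk Nat.prime_two
  have hSC : (S : Subgroup G) ≤ Subgroup.centralizer {t} := fun s hs =>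
    Subgroup.mem_centralizer_singleton_iff.2 (C.central s hs).eq
  obtain ⟨a', ha', haS⟩ := exists_conj_mem_sylow S hSC
    (Subgroup.mem_centralizer_singleton_iff.2 hit.eq) ⟨1, by rw [pow_one, pow_two, hii]⟩
  have hat : Commute a' t := Subgroup.mem_centralizer_singleton_iff.1 ha'
  have hn := P.mem_normalizer_of_commute C.ne_one hat
  have h := C.unique haS ((Subgroup.mem_normalizer_iff.1 hn i).1 hi)
    (by rw [show a' * i * a'⁻¹ * (a' * i * a'⁻¹) = a' * (i * i) * a'⁻¹ by group, hii, mul_one, mul_inv_cancel])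
    (by simpa using hi1)
  calc i = a'⁻¹ * (a' * i * a'⁻¹) * a' := by group
    _ = t := by rw [h, mul_assoc, ← hat.eq, ← mul_assoc, inv_mul_cancel, one_mul]

/-- The whole member centralises `t`. -/
theorem cmp_commute {x : G} (hx : x ∈ P.cmp t) : Commute x t := by
  classical
  haveI := Fact.mk Nat.prime_two
  set X := P.cmp t with hX
  set K := (S : Subgroup G) ⊓ X with hK
  have hSC : (S : Subgroup G) ≤ Subgroup.centralizer {t} := fun s hs =>
    Subgroup.mem_centralizer_singleton_iff.2 (C.central s hs).eq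
  obtain ⟨R, hR⟩ := ((S.2.to_le (inf_le_left : K ≤ (S : Subgroup G))).comap_subtype
    (K := X)).exists_le_sylow
  have htR : (⟨t, P.mem t⟩ : X) ∈ (R : Subgroup X) := hR (Subgroup.mem_comap.2 ⟨C.mem, P.mem t⟩)
  -- `t` is central in `R`
  have hRC : ∀ r ∈ (R : Subgroup X), Commute (r : G) t := by
    haveI : Nontrivial (R : Subgroup X) :=
      ⟨⟨⟨⟨t, P.mem t⟩, htR⟩, 1, fun e => C.ne_one (congrArg (fun y : (R : Subgroup X) => (y.1 : G)) e)⟩⟩
    obtain ⟨c, hc, hc1⟩ := (Subgroup.center (R : Subgroup X)).bot_or_exists_ne_one.resolve_left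
      ((Subgroup.nontrivial_iff_ne_bot _).1 R.2.center_nontrivial)
    obtain ⟨j, hj⟩ := IsPGroup.iff_orderOf.1 R.2 c
    have hd : 2 ∣ orderOf c := by
      rcases Nat.eq_zero_or_pos j with rfl | h
      · exact absurd (orderOf_eq_one_iff.1 (by simpa using hj)) hc1
      · exact hj ▸ dvd_pow_self 2 h.ne'
    obtain ⟨k, hk⟩ := exists_pow_orderOf_eq hd
    set d := c ^ k with hd'
    have hdc : d ∈ Subgroup.center (R : Subgroup X) := Subgroup.pow_mem _ hc k
    have hdo : orderOf ((d : X) : G) = 2 := by rw [Subgroup.orderOf_coe, Subgroup.orderOf_coe, hk]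
    have hdt : Commute ((d : X) : G) t :=
      (congrArg (fun y : (R : Subgroup X) => (y.1 : G)) (Subgroup.mem_center_iff.1 hdc ⟨_, htR⟩)).symm
    have heq : ((d : X) : G) = t := C.unique_commute (d : X).2 hdt (TwoInvolutions.mul_self_of_orderOf hdo)
      (fun e => by rw [e, orderOf_one] at hdo; exact absurd hdo (by norm_num))
    intro r hr
    rw [← heq]
    exact congrArg (fun y : (R : Subgroup X) => (y.1 : G)) (Subgroup.mem_center_iff.1 hdc ⟨r, hr⟩)
  -- `R` is cyclic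
  have hRcyc : IsCyclic (R : Subgroup X) := by
    refine PGroupsCyclic.isCyclic_of_comm R.2 (fun b c => Subtype.ext (Subtype.ext
      (C.abelian b.1.2 (hRC _ b.2) c.1.2 (hRC _ c.2)).eq)) (z := ⟨⟨t, P.mem t⟩, htR⟩) (fun g hg => ?_)
      (by rw [Subgroup.orderOf_mk, Subgroup.orderOf_mk, orderOf_invol C.ne_one C.invol])
    by_cases hg1 : g = 1
    · rw [hg1]; exact one_mem _
    have h := C.unique_commute g.1.2 (hRC _ g.2)
      (by simpa [pow_two] using congrArg (fun y : (R : Subgroup X) => (y.1 : G)) hg)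
      (fun e => hg1 (Subtype.ext (Subtype.ext e)))
    exact Subgroup.mem_zpowers_iff.2 ⟨1, Subtype.ext (Subtype.ext (by simpa using h.symm))⟩
  have h2X : 2 ∣ Nat.card X :=
    orderOf_invol C.ne_one C.invol ▸ Subgroup.orderOf_dvd_natCard _ (P.mem t)
  have hmin : (Nat.card X).minFac = 2 := Nat.minFac_eq_two_iff _ |>.2 h2X
  have hle := IsCyclic.normalizer_le_centralizer hmin hRcyc
  have hcomp := MonoidHom.ker_transferSylow_isComplement' R hle
  set K₀ := (MonoidHom.transferSylow R hle).ker with hK₀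
  have hK₀odd : ∀ k ∈ K₀, Odd (orderOf k) := by
    intro k hk
    refine Odd.of_dvd_nat ?_ (K₀.orderOf_dvd_natCard hk)
    rw [Nat.odd_iff, ← Nat.two_dvd_ne_zero]
    exact MonoidHom.not_dvd_card_ker_transferSylow R hle
  have hinK₀ : ∀ y : X, Odd (orderOf y) → y ∈ K₀ := by
    intro y hy
    rw [hK₀, MonoidHom.mem_ker]
    obtain ⟨j, hj⟩ := IsPGroup.iff_orderOf.1 R.2 (MonoidHom.transferSylow R hle y)
    exact orderOf_eq_one_iff.1 (Nat.eq_one_of_dvd_coprimes
      ((Nat.prime_two.coprime_iff_not_dvd.2 fun hd => Nat.not_even_iff_odd.2 hy (even_iff_two_dvd.2 hd)).pow_left j)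
      (dvd_of_eq hj) (orderOf_map_dvd (MonoidHom.transferSylow R hle) y))
  have hinv : ∀ v : G, Commute v t → v ∉ X → ∀ k ∈ K₀, v * (k : G) * v⁻¹ = (k : G)⁻¹ := by
    intro v hv hvX k hk
    have hn := P.mem_normalizer_of_commute C.ne_one hv
    have hmap : ∀ h ∈ K₀.map X.subtype, v * h * v⁻¹ ∈ K₀.map X.subtype := by
      rintro _ ⟨y, hy, rfl⟩
      refine ⟨⟨v * (y : G) * v⁻¹, (Subgroup.mem_normalizer_iff.1 hn y).1 y.2⟩, hinK₀ _ ?_, rfl⟩
      rw [← Subgroup.orderOf_coe]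
      show Odd (orderOf (v * (y : G) * v⁻¹))
      rw [← MulAut.conj_apply, MulEquiv.orderOf_eq, Subgroup.orderOf_coe]
      exact hK₀odd y hy
    refine inverted_of_no_fixed (P.outside_sq C.ne_one C.invol hv hvX) hmap ?_ _ ⟨k, hk, rfl⟩
    rintro _ ⟨y, hy, rfl⟩ hc
    by_contra hy1
    have hy1' : ((y : G)) ≠ 1 := hy1
    have ey := P.eq_of_mem t (y : G) C.ne_one hy1' y.2
    have h := P.orderOf_eq hc.symm hy1' (ey ▸ hvX)
    rw [orderOf_invol (fun e => hvX (by rw [e]; exact one_mem _)) (P.outside_sq C.ne_one C.invol hv hvX),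
      Subgroup.coe_subtype, Subgroup.orderOf_coe] at h
    have h2 := hK₀odd y hy
    rw [← h] at h2
    exact absurd h2 (by decide)
  have hK₀t : ∀ k ∈ K₀, Commute (k : G) t := by
    intro k hk
    have h1 := hinv w C.hw C.hwX k hk
    have h2 := hinv (w * t) (C.hw.mul_left (Commute.refl t))
      (fun h => C.hwX ((X.mul_mem_cancel_right (P.mem t)).1 h)) k hk
    have h3 : w * (t * (k : G) * t⁻¹) * w⁻¹ = w * (k : G) * w⁻¹ := by
      rw [h1, ← h2]; group
    exact (mul_inv_eq_iff_eq_mul.1 (mul_left_cancel (mul_right_cancel h3))).symm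
  obtain ⟨⟨⟨k, hk⟩, ⟨r, hr⟩⟩, e⟩ := hcomp.2 (⟨x, hx⟩ : X)
  have e' : (k : G) * (r : G) = x := congrArg Subtype.val e
  rw [← e']
  exact (hK₀t k hk).mul_left (hRC r hr)

theorem concl : ∃ (F : Type) (_ : Field F) (_ : Fintype F),
    Odd (Fintype.card F) ∧ Nonempty (G ≃* Matrix.ProjectiveSpecialLinearGroup (Fin 2) F) := by
  haveI := C.simple
  obtain ⟨n, hn, hD⟩ := C.dihedral
  set L := Subgroup.centralizer ({t} : Set G) with hL
  set O := (Cfsg.oddCore L).map L.subtype with hO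
  have hodd : ∀ y ∈ O, Odd (orderOf y) := by
    rintro _ ⟨y, hy, rfl⟩
    rw [Subgroup.coe_subtype, Subgroup.orderOf_coe]
    exact (ExtTwoLayer.odd_oddCore L).of_dvd_nat (Subgroup.orderOf_dvd_natCard _ hy)
  have hOt : ∀ y ∈ O, Commute y t := by
    rintro _ ⟨y, -, rfl⟩
    exact Subgroup.mem_centralizer_singleton_iff.1 y.2
  have hOX : ∀ y ∈ O, y ∈ P.cmp t := by
    intro y hy
    by_contra h
    have h2 := hodd y hy
    rw [orderOf_invol (fun e => h (by rw [e]; exact one_mem _)) (P.outside_sq C.ne_one C.invol (hOt y hy) h)] at h2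
    exact absurd h2 (by decide)
  refine Cfsg.Agent.S0508.result S n hn hD t (orderOf_invol C.ne_one C.invol) C.mem
    (fun s hs => (C.central s hs).eq) O rfl ?_ ?_ ?_
  · intro hO1
    obtain ⟨y, hy, hy1⟩ := O.bot_or_exists_ne_one.resolve_left hO1
    have heq : (S : Subgroup G) ⊓ Subgroup.centralizer (O : Set G) = (S : Subgroup G) ⊓ P.cmp t := by
      ext s
      refine ⟨fun hs => ⟨hs.1, ?_⟩, fun hs => ⟨hs.1, Subgroup.mem_centralizer_iff.2 fun c hc =>
        (C.abelian (hOX c hc) (hOt c hc) hs.2 (C.central s hs.1)).eq⟩⟩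
      by_contra hsX
      have h1 := P.outside_inverts C.ne_one C.invol (C.central s hs.1) hsX (hOX y hy) (hOt y hy)
      exact hy1 (eq_one_of_inverted (hodd y hy) h1 (Subgroup.mem_centralizer_iff.1 hs.2 y hy))
    rw [heq]
    exact ⟨C.isCyclic_inf, C.relIndex_two⟩
  · intro s hs hsO y hy
    refine P.outside_inverts C.ne_one C.invol (C.central s hs) (fun h => hsO ?_) (hOX y hy) (hOt y hy)
    exact Subgroup.mem_centralizer_iff.2 fun c hc => (C.abelian (hOX c hc) (hOt c hc) h (C.central s hs)).eq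
  · intro Y hYO hY g hg
    obtain ⟨y, hy, hy1⟩ := Y.bot_or_exists_ne_one.resolve_left hY
    have ey := P.eq_of_mem t y C.ne_one hy1 (hOX y (hYO hy))
    have hgy := (Subgroup.mem_normalizer_iff.1 hg y).1 hy
    have hgn := P.mem_normalizer hy1 (a := g) (ey.symm ▸ hOX _ (hYO hgy))
    rw [ey] at hgn
    have hgt := (Subgroup.mem_normalizer_iff.1 hgn t).1 (P.mem t)
    have heq := C.unique_commute hgt (C.cmp_commute hgt)
      (by rw [show g * t * g⁻¹ * (g * t * g⁻¹) = g * (t * t) * g⁻¹ by group, C.invol, mul_one, mul_inv_cancel])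
      (by simpa using C.ne_one)
    exact Subgroup.mem_centralizer_singleton_iff.2 (mul_inv_eq_iff_eq_mul.1 heq)

end GDCtx

/-- Suzuki's theorem on simple groups with a partition. -/
theorem simple_case (P : NPart G) (hs : IsSimpleGroup G) (hna : ∃ a b : G, a * b ≠ b * a)
    (heven : Even (Nat.card G)) :
    (∃ (F : Type) (_ : Field F) (_ : Fintype F),
      Nonempty (G ≃* Matrix.ProjectiveSpecialLinearGroup (Fin 2) F)) ∨ Cfsg.Lie.IsoSuzuki G := by
  classical
  by_cases hI : ∃ t : G, t ≠ 1 ∧ t * t = 1 ∧ P.Inner t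
  · obtain ⟨t, ht1, ht, hI⟩ := hI
    obtain ⟨S, z, C⟩ := exists_sectx P hs hna ht1 ht hI
    exact C.concl
  push Not at hI
  have hout : ∀ t : G, t ≠ 1 → t * t = 1 → ∃ w, Commute w t ∧ w ∉ P.cmp t := by
    intro t ht1 ht
    simpa [NPart.Inner] using hI t ht1 ht
  by_cases hA : ∃ (S : Sylow 2 G) (t a : G), t ≠ 1 ∧ t * t = 1 ∧ t ∈ (S : Subgroup G) ∧
      (∀ s ∈ (S : Subgroup G), Commute s t) ∧ Commute a t ∧ a * a ≠ 1
  · obtain ⟨S, t, a, ht1, ht, htS, hc, ha, ha2⟩ := hA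
    obtain ⟨w, hw, hwX⟩ := hout t ht1 ht
    obtain ⟨F, hF, hF', -, h⟩ := (GDCtx.mk (P := P) hs ht ht1 htS hc ha ha2 hw hwX).concl
    exact Or.inl ⟨F, hF, hF', h⟩
  push Not at hA
  -- elementary abelian centralisers
  have hall : ∀ t : G, t ≠ 1 → t * t = 1 → ∀ a, Commute a t → a * a = 1 := by
    intro t ht1 ht a ha
    obtain ⟨S, z, htS, hzS, hz1, hz, hc⟩ := exists_sylow_central ht1 ht
    have hsq : ∀ s ∈ (S : Subgroup G), s * s = 1 := fun s hs' => hA S z s hz1 hz hzS hc (hc s hs')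
    refine hA S t a ht1 ht htS (fun s hs' => ?_) ha
    exact commute_of_sq (hsq s hs') ht (hsq _ ((S : Subgroup G).mul_mem hs' htS))
  haveI := Fact.mk Nat.prime_two
  obtain ⟨z, hzo⟩ := exists_prime_orderOf_dvd_card' (G := G) 2 (even_iff_two_dvd.1 heven)
  have hz := TwoInvolutions.mul_self_of_orderOf hzo
  have hz1 : z ≠ 1 := fun e => by rw [e, orderOf_one] at hzo; exact absurd hzo (by norm_num)
  set C := Subgroup.centralizer ({z} : Set G) with hC
  have hzC : z ∈ C := Subgroup.mem_centralizer_singleton_iff.2 rfl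
  have hex : ∀ x ∈ C, x * x = 1 := fun x hx => hall z hz1 hz x (Subgroup.mem_centralizer_singleton_iff.1 hx)
  have hcomm : ∀ x ∈ C, ∀ y ∈ C, Commute x y := fun x hx y hy =>
    commute_of_sq (hex x hx) (hex y hy) (hex _ (C.mul_mem hx hy))
  have hself : ∀ x ∈ C, x ≠ 1 → ∀ y, Commute y x → y ∈ C := by
    intro x hx hx1 y hy
    have h1 := hall x hx1 (hex x hx)
    have hzx : Commute z x := (Subgroup.mem_centralizer_singleton_iff.1 hx).symm
    exact Subgroup.mem_centralizer_singleton_iff.2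
      (commute_of_sq (h1 y hy) hz (h1 _ (hy.mul_left hzx))).eq
  letI : CommGroup C := { (inferInstance : Group C) with
    mul_comm := fun a b => Subtype.ext (hcomm _ a.2 _ b.2).eq }
  haveI := hs
  have hti : ∀ (x g : G), x ∈ C → x ≠ 1 → g * x * g⁻¹ ∈ C → g ∈ Subgroup.normalizer (C : Set G) := by
    intro x g hx hx1 hg
    refine Subgroup.mem_normalizer_iff.2 fun y => ⟨fun hy => hself _ hg (by simpa using hx1) _ ?_,
      fun hy => hself x hx hx1 y ?_⟩
    · have h := hcomm y hy x hx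
      show g * y * g⁻¹ * (g * x * g⁻¹) = g * x * g⁻¹ * (g * y * g⁻¹)
      calc g * y * g⁻¹ * (g * x * g⁻¹) = g * (y * x) * g⁻¹ := by group
        _ = g * (x * y) * g⁻¹ := by rw [h.eq]
        _ = g * x * g⁻¹ * (g * y * g⁻¹) := by group
    · have h : g * y * g⁻¹ * (g * x * g⁻¹) = g * x * g⁻¹ * (g * y * g⁻¹) := (hcomm _ hy _ hg).eq
      show y * x = x * y
      calc y * x = g⁻¹ * (g * y * g⁻¹ * (g * x * g⁻¹)) * g := by group
        _ = g⁻¹ * (g * x * g⁻¹ * (g * y * g⁻¹)) * g := by rw [h]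
        _ = x * y := by group
  obtain ⟨-, Ω, _, _, hZ⟩ := CIT21Frob5.main_of_nilpotent hna C
    (even_iff_two_dvd.2 (hzo ▸ Subgroup.orderOf_dvd_natCard _ hzC))
    (fun x hx hx1 y hy => hself x hx hx1 y (Subgroup.mem_centralizer_singleton_iff.1 hy)) hti
  exact SuzukiUniq67.psl2_or_isoSuzuki hZ

end Cfsg.Agent.Part11
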