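import Mathlib
import Cfsg.Agent.Lib.Part11Basic
import Cfsg.Agent.Lib.Part11Inner
import Cfsg.Agent.Lib.Part11Simple
import Cfsg.Agent.Lib.Part11Radical
import Cfsg.Agent.Lib.EppoFour4
import Cfsg.Agent.S0205

/-!
# Partitioned groups without soluble normal subgroups are almost simple
-/

set_option autoImplicit false
set_option linter.style.haveILetI false

namespace Cfsg.Agent.Part11

universe u v

variable {G : Type u} [Group G]

theorem conj_closure {a y : G} {S : Set G} (h : ∀ x ∈ S, a * x * a⁻¹ ∈ S)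
    (hy : y ∈ Subgroup.closure S) : a * y * a⁻¹ ∈ Subgroup.closure S := by
  have : Subgroup.closure S ≤ (Subgroup.closure S).comap (MulAut.conj a).toMonoidHom :=
    (Subgroup.closure_le _).2 fun x hx => Subgroup.subset_closure (h x hx)
  exact this hy

/-- A non-soluble group has an element which is neither trivial nor an involution. -/
theorem exists_orderOf_ne_two [Finite G] {L : Subgroup G} (h : ¬ Group.IsSolvable L) :
    ∃ x ∈ L, x ≠ 1 ∧ orderOf x ≠ 2 := by
  by_contra hc
  push Not at hc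
  refine h ?_
  have hsq : ∀ x : L, x * x = 1 := by
    intro x
    by_cases hx : (x : G) = 1
    · rw [show x = 1 from Subtype.ext hx, one_mul]
    · apply Subtype.ext
      have := hc x x.2 hx
      rw [Subgroup.coe_mul, Subgroup.coe_one, ← pow_two, ← this, pow_orderOf_eq_one]
  exact (Group.isSolvable_def _).2 ⟨1, by
    rw [derivedSeries_one, commutator_def, Subgroup.commutator_eq_bot_iff_le_centralizer]
    exact fun a _ => Subgroup.mem_centralizer_iff.2 fun b _ =>
      (commute_of_sq (hsq b) (hsq a) (hsq (b * a))).eq⟩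

theorem even_card_of_not_solvable [Finite G] {L : Subgroup G} (h : ¬ Group.IsSolvable L) :
    ∃ t ∈ L, orderOf t = 2 := by
  have he : Even (Nat.card L) := by
    by_contra hc
    exact h (Cfsg.Agent.S0205.result (Nat.not_even_iff_odd.1 hc))
  haveI := Fact.mk Nat.prime_two
  obtain ⟨t, ht⟩ := exists_prime_orderOf_dvd_card' (G := L) 2 (even_iff_two_dvd.1 he)
  exact ⟨t, t.2, by rwa [Subgroup.orderOf_coe]⟩

/-- A minimal normal subgroup is simple and has trivial centraliser. -/
theorem exists_simple_normal [Finite G] [Nontrivial G] (P : NPart G)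
    (hno : ∀ x : G, x ≠ 1 → ¬ (P.cmp x).Normal)
    (hns : ∀ N : Subgroup G, N.Normal → Group.IsSolvable N → N = ⊥) :
    ∃ T : Subgroup G, T.Normal ∧ IsSimpleGroup T ∧ (∃ a b : T, a * b ≠ b * a) ∧
      Subgroup.centralizer (T : Set G) = ⊥ := by
  classical
  have key : ∀ N : Subgroup G, N.Normal → N ≠ ⊥ → ∀ x : G, x ≠ 1 → ¬ N ≤ P.cmp x := by
    intro N hN hN1 x hx hle
    haveI := hN
    exact hno x hx (P.normal_of_le hN1 hx hle)
  obtain ⟨M, -, hM⟩ := (Set.toFinite {N : Subgroup G | N.Normal ∧ N ≠ ⊥}).exists_le_minimal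
    (show (⊤ : Subgroup G) ∈ {N : Subgroup G | N.Normal ∧ N ≠ ⊥} from ⟨inferInstance, top_ne_bot⟩)
  obtain ⟨⟨hMn, hM1⟩, hmin⟩ := hM
  haveI := hMn
  have hmin' : ∀ N : Subgroup G, N.Normal → N ≤ M → N = ⊥ ∨ N = M := fun N h1 h2 =>
    or_iff_not_imp_left.2 fun h => le_antisymm h2 (hmin ⟨h1, h⟩ h2)
  have hMsol : ¬ Group.IsSolvable M := fun h => hM1 (hns M hMn h)
  -- the involutions of `M` generate it
  have hMinv : Subgroup.closure {x : G | x ∈ M ∧ orderOf x = 2} = M := by
    obtain ⟨t, ht, ht2⟩ := even_card_of_not_solvable hMsol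
    have hS : ∀ g : G, ∀ x ∈ {x : G | x ∈ M ∧ orderOf x = 2}, g * x * g⁻¹ ∈ {x : G | x ∈ M ∧ orderOf x = 2} :=
      fun g x hx => ⟨hMn.conj_mem x hx.1 g, by rw [← MulAut.conj_apply, MulEquiv.orderOf_eq]; exact hx.2⟩
    refine (hmin' _ ⟨fun n hn g => conj_closure (hS g) hn⟩
      ((Subgroup.closure_le _).2 fun x hx => hx.1)).resolve_left fun e => ?_
    · have : t ∈ Subgroup.closure {x : G | x ∈ M ∧ orderOf x = 2} := Subgroup.subset_closure ⟨ht, ht2⟩
      rw [e, Subgroup.mem_bot] at this
      rw [this, orderOf_one] at ht2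
      norm_num at ht2
  have hcent : Subgroup.centralizer (M : Set G) = ⊥ := by
    by_contra hC
    have hCsol : ¬ Group.IsSolvable (Subgroup.centralizer (M : Set G)) := fun h => hC (hns _ inferInstance h)
    obtain ⟨b, hb, hb1, hb2⟩ := exists_orderOf_ne_two hCsol
    refine key M hMn hM1 b hb1 ?_
    rw [← hMinv, Subgroup.closure_le]
    intro x hx
    refine P.mem_of_orderOf_ne (Subgroup.mem_centralizer_iff.1 hb x hx.1).symm hb1 ?_
    rw [hx.2]; exact hb2.symm
  refine ⟨M, hMn, ?_, ?_, hcent⟩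
  swap
  · by_contra h
    push Not at h
    exact hMsol ((Group.isSolvable_def _).2 ⟨1, by
      rw [derivedSeries_one, commutator_def, Subgroup.commutator_eq_bot_iff_le_centralizer]
      exact fun a _ => Subgroup.mem_centralizer_iff.2 fun b _ => h b a⟩)
  haveI : Nontrivial M := (Subgroup.nontrivial_iff_ne_bot M).2 hM1
  -- no soluble normal subgroup of `M`
  have hMrad : ∀ L : Subgroup M, L.Normal → Group.IsSolvable L → L = ⊥ := by
    obtain ⟨R, -, hR⟩ := (Set.toFinite {L : Subgroup M | L.Normal ∧ Group.IsSolvable L}).exists_le_maximal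
      (show (⊥ : Subgroup M) ∈ {L : Subgroup M | L.Normal ∧ Group.IsSolvable L} from
        ⟨inferInstance, inferInstance⟩)
    obtain ⟨⟨hRn, hRs⟩, hRmax⟩ := hR
    haveI := hRn
    have hgreat : ∀ L : Subgroup M, L.Normal → Group.IsSolvable L → L ≤ R := by
      intro L hLn hLs
      haveI := hLn
      exact le_sup_right.trans (hRmax ⟨inferInstance, EppoFour4.isSolvable_sup_normal hRs hLs⟩ le_sup_left)
    haveI hchar : R.Characteristic := by
      refine Subgroup.characteristic_iff_map_le.2 fun φ => hgreat _ (hRn.map _ φ.surjective) ?_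
      haveI := hRs
      exact Group.isSolvable_of_surjective (φ.toMonoidHom.subgroupMap_surjective R)
    have hRbot : R.map M.subtype = ⊥ := by
      refine hns _ inferInstance ?_
      haveI := hRs
      exact Group.isSolvable_of_surjective (M.subtype.subgroupMap_surjective R)
    intro L hLn hLs
    exact eq_bot_iff.2 ((hgreat L hLn hLs).trans
      ((Subgroup.map_eq_bot_iff_of_injective _ M.subtype_injective).1 hRbot).le)
  refine ⟨fun N hN => or_iff_not_imp_left.2 fun hN1 => ?_⟩
  by_contra hNtop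
  obtain ⟨K, hKN, hK⟩ := (Set.toFinite {L : Subgroup M | L.Normal ∧ L ≠ ⊥}).exists_le_minimal
    (show N ∈ {L : Subgroup M | L.Normal ∧ L ≠ ⊥} from ⟨hN, hN1⟩)
  obtain ⟨⟨hKn, hK1⟩, hKmin⟩ := hK
  haveI := hKn
  have hKsol : ¬ Group.IsSolvable K := fun h => hK1 (hMrad K hKn h)
  set K' := K.map M.subtype with hK'
  have hK'sol : ¬ Group.IsSolvable K' := fun h =>
    hKsol (by
      haveI := h
      exact Group.isSolvable_of_surjective
        (f := (K.equivMapOfInjective M.subtype M.subtype_injective).symm.toMonoidHom)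
        (K.equivMapOfInjective M.subtype M.subtype_injective).symm.surjective)
  obtain ⟨l₀, hl₀, hl₀2⟩ := even_card_of_not_solvable hK'sol
  obtain ⟨k₀, hk₀, hk₀1, hk₀2⟩ := exists_orderOf_ne_two hK'sol
  set W := P.cmp l₀ with hW
  have hl₀1 : l₀ ≠ 1 := fun e => by rw [e, orderOf_one] at hl₀2; norm_num at hl₀2
  -- normal subgroups of `M` lying below `K` are trivial or `K`
  have hKclo : ∀ (S : Set M), (∀ a : M, ∀ x ∈ S, a * x * a⁻¹ ∈ S) → S ⊆ (K : Set M) →
      (∃ s ∈ S, s ≠ 1) → Subgroup.closure S = K := by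
    intro S hS hSK hs
    refine le_antisymm ((Subgroup.closure_le _).2 hSK) (hKmin ⟨⟨fun n hn g => conj_closure (hS g) hn⟩, ?_⟩
      ((Subgroup.closure_le _).2 hSK))
    intro e
    obtain ⟨s, hsS, hs1⟩ := hs
    have := Subgroup.subset_closure hsS
    rw [e] at this
    exact hs1 (Subgroup.mem_bot.1 this)
  obtain ⟨g₀, hg₀⟩ : ∃ g : G, ¬ (∀ x ∈ K', g * x * g⁻¹ ∈ K') := by
    by_contra hc
    push Not at hc
    haveI : K'.Normal := ⟨fun n hn g => hc g n hn⟩
    rcases hmin' K' inferInstance (Subgroup.map_subtype_le K) with h | h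
    · exact hK1 ((Subgroup.map_eq_bot_iff_of_injective _ M.subtype_injective).1 h)
    · refine hNtop (eq_top_iff.2 fun m _ => hKN ?_)
      obtain ⟨m', hm', e⟩ := (h.symm ▸ m.2 : (m : G) ∈ K')
      exact (Subtype.ext e : m' = m) ▸ hm'
  -- conjugates of `K` different from it commute with it
  have hcomm : ∀ g : G, ¬ (∀ x ∈ K', g * x * g⁻¹ ∈ K') → ∀ x ∈ K', ∀ y ∈ K',
      Commute (g * x * g⁻¹) y := by
    intro g hg
    let φ : M ≃* M := MulAut.conjNormal g
    have hφK : (K.map φ.toMonoidHom).Normal := hKn.map _ φ.surjective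
    have hne : K ⊓ K.map φ.toMonoidHom = ⊥ := by
      by_contra h
      have h1 : K ≤ K ⊓ K.map φ.toMonoidHom := hKmin ⟨inferInstance, h⟩ inf_le_left
      have h2 : K = K.map φ.toMonoidHom := by
        refine Subgroup.eq_of_le_of_card_ge (h1.trans inf_le_right) (le_of_eq ?_)
        exact Nat.card_congr (K.equivMapOfInjective _ φ.injective).symm.toEquiv
      refine hg fun x hx => ?_
      obtain ⟨m, hm, rfl⟩ := hx
      exact ⟨φ m, by rw [h2]; exact ⟨m, hm, rfl⟩, by simp [φ, MulAut.conjNormal_apply]⟩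
    intro x hx y hy
    obtain ⟨m, hm, rfl⟩ := hx
    obtain ⟨n, hn, rfl⟩ := hy
    have h := Subgroup.commute_of_normal_of_disjoint _ _ hφK hKn (by rw [disjoint_iff, inf_comm, hne])
      (φ m) n ⟨m, hm, rfl⟩ hn
    have e := congrArg (fun z : M => (z : G)) h.eq
    simpa [φ, MulAut.conjNormal_apply, Commute, SemiconjBy] using e
  -- everything of `K` and of its conjugates lies in `W`
  have hother : ∀ g : G, ¬ (∀ x ∈ K', g * x * g⁻¹ ∈ K') → ∀ x ∈ K', g * x * g⁻¹ ∈ W := by
    intro g hg x hx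
    obtain ⟨m, hm, rfl⟩ := hx
    have hS := hKclo {z : M | z ∈ K ∧ orderOf (z : G) ≠ 2}
      (fun a z hz => ⟨hKn.conj_mem z hz.1 a, by
        rw [Subgroup.coe_mul, Subgroup.coe_mul, Subgroup.coe_inv, ← MulAut.conj_apply]
        rw [MulEquiv.orderOf_eq]; exact hz.2⟩)
      (fun z hz => hz.1) (by
        obtain ⟨z, hz, e⟩ := hk₀
        exact ⟨z, ⟨hz, by rw [show (z : G) = k₀ from e]; exact hk₀2⟩,
          fun h => hk₀1 (by rw [← e, h]; rfl)⟩)
    rw [← hS] at hm
    have : Subgroup.closure {z : M | z ∈ K ∧ orderOf (z : G) ≠ 2} ≤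
        W.comap ((MulAut.conj g).toMonoidHom.comp M.subtype) := by
      rw [Subgroup.closure_le]
      intro z hz
      refine P.mem_of_orderOf_ne (hcomm g hg z ⟨z, hz.1, rfl⟩ l₀ hl₀).symm hl₀1 ?_
      rw [hl₀2]
      change orderOf (MulAut.conj g (z : G)) ≠ 2
      rw [MulEquiv.orderOf_eq]; exact hz.2
    exact this hm
  have hself : K' ≤ W := by
    have hS := hKclo {z : M | z ∈ K ∧ orderOf (z : G) = 2}
      (fun a z hz => ⟨hKn.conj_mem z hz.1 a, by
        rw [Subgroup.coe_mul, Subgroup.coe_mul, Subgroup.coe_inv, ← MulAut.conj_apply]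
        rw [MulEquiv.orderOf_eq]; exact hz.2⟩)
      (fun z hz => hz.1) (by
        obtain ⟨z, hz, e⟩ := hl₀
        exact ⟨z, ⟨hz, by rw [show (z : G) = l₀ from e]; exact hl₀2⟩,
          fun h => hl₀1 (by rw [← e, h]; rfl)⟩)
    set w := g₀ * k₀ * g₀⁻¹ with hw
    have hw1 : w ≠ 1 := by simpa [hw] using hk₀1
    have hw2 : orderOf w ≠ 2 := by
      rw [hw, ← MulAut.conj_apply, MulEquiv.orderOf_eq]; exact hk₀2
    have heq : P.cmp w = W := P.eq_of_mem l₀ w hl₀1 hw1 (hother g₀ hg₀ k₀ hk₀)
    rintro _ ⟨z, hz, rfl⟩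
    rw [← hS] at hz
    have : Subgroup.closure {z : M | z ∈ K ∧ orderOf (z : G) = 2} ≤ W.comap M.subtype := by
      rw [Subgroup.closure_le]
      intro y hy
      show (y : G) ∈ W
      rw [← heq]
      refine P.mem_of_orderOf_ne (hcomm g₀ hg₀ k₀ hk₀ y ⟨y, hy.1, rfl⟩) hw1 ?_
      rw [hy.2]; exact hw2.symm
    exact this hz
  refine key M hMn hM1 l₀ hl₀1 ?_
  have hall : ∀ g : G, ∀ x ∈ K', g * x * g⁻¹ ∈ W := fun g x hx => by
    by_cases hg : ∀ x ∈ K', g * x * g⁻¹ ∈ K'
    · exact hself (hg x hx)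
    · exact hother g hg x hx
  have hnc : Subgroup.normalClosure (K' : Set G) = M := by
    refine (hmin' _ inferInstance (Subgroup.normalClosure_le_normal (Subgroup.map_subtype_le K))).resolve_left
      fun e => hl₀1 ?_
    have := Subgroup.subset_normalClosure (s := (K' : Set G)) hl₀
    rwa [e, SetLike.mem_coe, Subgroup.mem_bot] at this
  rw [← hnc, Subgroup.normalClosure, Subgroup.closure_le]
  intro y hy
  obtain ⟨x, hx, hxy⟩ := Group.mem_conjugatesOfSet_iff.1 hy
  obtain ⟨c, rfl⟩ := isConj_iff.1 hxy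
  exact hall c x hx

/-- An almost simple group with socle `L` and a partition. -/
structure ACtx {G : Type u} [Group G] (P : NPart G) (L : Type v) [Group L] where
  emb : L →* G
  act : G →* MulAut L
  emb_inj : Function.Injective emb
  act_inj : Function.Injective act
  spec : ∀ g y, emb (act g y) = g * emb y * g⁻¹
  simple : IsSimpleGroup L
  nonab : ∃ a b : L, a * b ≠ b * a
  not_le : ∀ x : G, x ≠ 1 → ¬ ∀ y, emb y ∈ P.cmp x

/-- The normal subgroup `T` makes an almost simple context. -/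
theorem exists_actx (P : NPart G) {L : Type v} [Group L] (T : Subgroup G) [T.Normal]
    (e : T ≃* L) (hs : IsSimpleGroup L) (hna : ∃ a b : L, a * b ≠ b * a)
    (hT : Subgroup.centralizer (T : Set G) = ⊥) (hle : ∀ x : G, x ≠ 1 → ¬ T ≤ P.cmp x) :
    Nonempty (ACtx P L) := by
  refine ⟨⟨T.subtype.comp e.symm.toMonoidHom,
    (MulAut.congr e).toMonoidHom.comp MulAut.conjNormal, T.subtype_injective.comp e.symm.injective,
    ?_, ?_, hs, hna, fun x hx h => hle x hx fun y hy => ?_⟩⟩
  · refine (MulAut.congr e).injective.comp ((injective_iff_map_eq_one _).2 fun g hg => ?_)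
    rw [← Subgroup.mem_bot, ← hT, Subgroup.mem_centralizer_iff]
    intro y hy
    have := congrArg (fun φ : MulAut T => ((φ ⟨y, hy⟩ : T) : G)) hg
    simp only [MulAut.conjNormal_apply, MulAut.one_apply] at this
    exact (mul_inv_eq_iff_eq_mul.1 this).symm
  · intro g y
    simp [MulAut.congr, MulAut.conjNormal_apply]
  · simpa using h (e ⟨y, hy⟩)

namespace ACtx

variable {L : Type v} [Group L] {P : NPart G} (C : ACtx P L)
include C

theorem emb_ne_one {x : L} (h : x ≠ 1) : C.emb x ≠ 1 := fun e =>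
  h (C.emb_inj (e.trans (map_one _).symm))

/-- The induced partition of the socle. -/
def part : NPart L where
  cmp y := (P.cmp (C.emb y)).comap C.emb
  mem y := P.mem _
  ne_top y hy h := C.not_le _ (C.emb_ne_one hy) fun z => by
    have : z ∈ (P.cmp (C.emb y)).comap C.emb := h ▸ Subgroup.mem_top z
    exact this
  eq_of_mem g h hg hh hm := by rw [P.eq_of_mem _ _ (C.emb_ne_one hg) (C.emb_ne_one hh) hm]
  conj_mem a g h hg hm := by
    show C.emb (a * h * a⁻¹) ∈ P.cmp (C.emb (a * g * a⁻¹))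
    simp only [map_mul, map_inv]
    exact P.conj_mem _ _ _ (C.emb_ne_one hg) hm

theorem act_emb (x : L) : C.act (C.emb x) = MulAut.conj x := by
  refine MulEquiv.ext fun y => C.emb_inj ?_
  rw [C.spec, MulAut.conj_apply, map_mul, map_mul, map_inv]

theorem commute_of_fix {g : G} {s : L} (h : C.act g s = s) : Commute g (C.emb s) := by
  have := C.spec g s
  rw [h] at this
  exact eq_mul_inv_iff_mul_eq.1 this |>.symm

theorem mem_of_fix {g : G} (hg : g ≠ 1) {s : L} (h : C.act g s = s) (ho : orderOf s ≠ orderOf g) :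
    C.emb s ∈ P.cmp g :=
  P.mem_of_orderOf_ne (C.commute_of_fix h) hg (by rwa [orderOf_injective C.emb C.emb_inj s])

/-- The elements of the socle normalising a member. -/
def norm (x : G) : Subgroup L := (Subgroup.normalizer (P.cmp x : Set G)).comap C.emb

theorem mem_norm_of_fix {g : G} (hg : g ≠ 1) {s : L} (h : C.act g s = s) : s ∈ C.norm g :=
  P.mem_normalizer_of_commute hg (C.commute_of_fix h).symm

theorem mem_norm_of_commute {x : G} (hx : x ≠ 1) {s y : L} (hs : s ≠ 1) (hm : C.emb s ∈ P.cmp x)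
    (hc : Commute y s) : y ∈ C.norm x := by
  show C.emb y ∈ Subgroup.normalizer (P.cmp x : Set G)
  rw [← P.eq_of_mem x _ hx (C.emb_ne_one hs) hm]
  exact P.mem_normalizer_of_commute (C.emb_ne_one hs) (hc.map C.emb)

/-- A member meeting the socle is not normalised by it. -/
theorem norm_ne_top {x : G} (hx : x ≠ 1) {s : L} (hs : s ≠ 1) (hm : C.emb s ∈ P.cmp x) :
    C.norm x ≠ ⊤ := by
  intro htop
  haveI := C.simple
  have hn : ((P.cmp x).comap C.emb).Normal := ⟨fun n hn g => by
    have h1 : g ∈ C.norm x := htop ▸ Subgroup.mem_top g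
    show C.emb (g * n * g⁻¹) ∈ P.cmp x
    rw [map_mul, map_mul, map_inv]
    exact (Subgroup.mem_normalizer_iff.1 h1 (C.emb n)).1 hn⟩
  rcases hn.eq_bot_or_eq_top with h | h
  · have h1 : s ∈ (P.cmp x).comap C.emb := hm
    rw [h, Subgroup.mem_bot] at h1
    exact hs h1
  · exact C.not_le x hx fun y => (h.symm ▸ Subgroup.mem_top y : y ∈ (P.cmp x).comap C.emb)

/-- An automorphism which differs from the action of an element by an inner one. -/
theorem exists_act_eq {g : G} {α : MulAut L} (h : C.act g * α⁻¹ ∈ (MulAut.conj (G := L)).range) :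
    ∃ φ : G, C.act φ = α := by
  obtain ⟨x, hx⟩ := h
  refine ⟨(C.emb x)⁻¹ * g, ?_⟩
  rw [map_mul, map_inv, C.act_emb, hx]
  group

/-- A member cannot contain commuting involutions one of which inverts a centralising element. -/
theorem klein [Finite L] {t s y : L} (ht1 : t ≠ 1) (ht : t * t = 1) (hs : s * s = 1)
    (hst : s ∈ C.part.cmp t) (hcs : Commute s t) (hcy : Commute y t) (hy : y * y ≠ 1)
    (hinv : s * y * s⁻¹ = y⁻¹) : False := by
  have hsne : s ≠ 1 := by
    rintro rfl
    rw [inv_one, one_mul, mul_one] at hinv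
    exact hy (by nth_rewrite 2 [hinv]; exact mul_inv_cancel y)
  have hy1 : y ≠ 1 := fun e => hy (by rw [e, one_mul])
  have hycmp : y ∈ C.part.cmp t := by
    by_contra h
    exact hy (C.part.outside_sq ht1 ht hcy h)
  have hI : C.part.Inner t := by
    intro x hx
    by_contra hxX
    have h1 := C.part.outside_inverts ht1 ht hx hxX ((C.part.cmp t).inv_mem hycmp) hcy.inv_left
    rw [inv_inv] at h1
    have hout : x * s ∉ C.part.cmp t := fun h =>
      hxX (((C.part.cmp t).mul_mem_cancel_right hst).1 h)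
    have hsq := C.part.outside_sq ht1 ht (hx.mul_left hcs) hout
    have h2 : Commute (x * s) y := by
      have : x * s * y * (x * s)⁻¹ = y := by
        calc x * s * y * (x * s)⁻¹ = x * (s * y * s⁻¹) * x⁻¹ := by group
          _ = y := by rw [hinv, h1]
      exact mul_inv_eq_iff_eq_mul.1 this
    have hne : x * s ≠ 1 := fun e => hout (e ▸ one_mem _)
    refine hout ?_
    have hyo : orderOf (x * s) ≠ orderOf y := by
      intro e
      rw [orderOf_invol hne hsq] at e
      exact hy (by rw [← pow_two, e, pow_orderOf_eq_one])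
    have := C.part.mem_of_orderOf_ne h2.symm hy1 hyo
    rwa [C.part.eq_of_mem t y ht1 hy1 hycmp] at this
  obtain ⟨S, z, D⟩ := exists_sectx C.part C.simple C.nonab ht1 ht hI
  have he := C.part.eq_of_mem t s ht1 hsne hst
  have h3 := (D.central_all hsne hs).2 y (by rw [he]; exact hycmp)
  rw [← h3.eq, mul_inv_cancel_right] at hinv
  exact hy (by nth_rewrite 2 [hinv]; exact mul_inv_cancel y)

end ACtx

end Cfsg.Agent.Part11
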