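import Mathlib
import Cfsg.Prelude.Def_Sz
import Cfsg.Agent.Lib.Part11Basic
import Cfsg.Agent.Lib.SuzukiAut
import Cfsg.Agent.Lib.SuzukiGroupLie

/-!
# Partitioned groups whose socle is a Suzuki group

An outer automorphism of `Sz(q)` is, up to an inner one, a field automorphism of odd order fixing
elements of order two and four; the member of that automorphism then contains the socle.
-/

set_option autoImplicit false

namespace Cfsg.Agent.Part11

open Cfsg.Agent.SuzukiGroupBasic Cfsg.Agent.SuzukiGroupStructure Cfsg.Agent.SuzukiAut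
open Cfsg.Agent.SuzukiTwoAut Cfsg.Agent.SuzukiGroupCentralizer

universe u

variable {G : Type u} [Group G]

theorem Ts_orderOf_two {F : Type} [Field F] {m : ℕ} [Param F m] {b : F} (hb : b ≠ 0) :
    orderOf (Ts 0 b : ↥(Cfsg.Sz F m)) = 2 :=
  orderOf_eq_prime (Ts_sq_eq_one.2 rfl) fun e => hb (Ts_eq_one e).2

theorem Ts_orderOf_four {F : Type} [Field F] {m : ℕ} [Param F m] {a : F} (ha : a ≠ 0) (b : F) :
    orderOf (Ts a b : ↥(Cfsg.Sz F m)) = 4 :=
  orderOf_eq_prime_pow (p := 2) (n := 1) (by rw [pow_one]; exact fun e => ha (Ts_sq_eq_one.1 e))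
    (Ts_pow_four a b)

theorem Ts_central {F : Type} [Field F] {m : ℕ} [Param F m] (a b c : F) :
    Commute (Ts 0 c : ↥(Cfsg.Sz F m)) (Ts a b) := by
  show (Ts 0 c : ↥(Cfsg.Sz F m)) * Ts a b = Ts a b * Ts 0 c
  rw [Ts_mul, Ts_mul, sg_zero, zero_mul, mul_zero, add_zero, add_zero, zero_add, add_zero, add_comm]

theorem fieldAut_Ws {F : Type} [Field F] {m : ℕ} [Param F m] (i : ZMod (2 * m + 1)) :
    fieldAut i (Ws : ↥(Cfsg.Sz F m)) = Ws :=
  Subtype.ext (map_W i)

theorem fieldAut_pow {F : Type} [Field F] {m : ℕ} [Param F m] (i : ZMod (2 * m + 1)) (n : ℕ) :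
    (fieldAut i : MulAut ↥(Cfsg.Sz F m)) ^ n = fieldAut (n • i) := by
  induction n with
  | zero => rw [pow_zero, zero_smul, fieldAut_zero]
  | succ n ih => rw [pow_succ, ih, ← fieldAut_add, succ_nsmul]

/-- The socle of an almost simple partitioned group with Suzuki socle is the whole group. -/
theorem suzuki_case [Finite G] (P : NPart G) (T : Subgroup G) [T.Normal]
    (hC : Subgroup.centralizer (T : Set G) = ⊥) (hno : ∀ x : G, x ≠ 1 → ¬ T ≤ P.cmp x)
    (hSz : Cfsg.Lie.IsoSuzuki T) : T = ⊤ := by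
  classical
  obtain ⟨F, _, _, m, hm, hF, ⟨e₀⟩⟩ := hSz
  haveI : Param F m := Param.mk' hm hF
  let e : T ≃* ↥(Cfsg.Sz F m) := e₀.trans SuzukiGroupLie.lieEquiv
  by_contra hT
  obtain ⟨g, -, hgT⟩ := SetLike.exists_of_lt (lt_top_iff_ne_top.2 hT)
  obtain ⟨i, s, hs⟩ := exists_eq ((e.symm.trans (MulAut.conjNormal g)).trans e)
  replace hs : ∀ x, e (MulAut.conjNormal g (e.symm x)) = s * fieldAut i x * s⁻¹ := fun x => by
    have h := MulEquiv.congr_fun (mul_inv_eq_iff_eq_mul.1 hs.symm) x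
    simpa using h
  set t : T := e.symm s with ht
  set φ : G := (t : G)⁻¹ * g with hφ
  have hφT : φ ∉ T := fun h => hgT ((T.mul_mem_cancel_left (inv_mem t.2)).1 h)
  have hact : ∀ x : T, MulAut.conjNormal φ x = e.symm (fieldAut i (e x)) := by
    intro x
    have h : MulAut.conjNormal g x = t * e.symm (fieldAut i (e x)) * t⁻¹ := by
      apply e.injective
      have := hs (e x)
      rw [e.symm_apply_apply] at this
      rw [this, map_mul, map_mul, map_inv, ht, e.apply_symm_apply, e.apply_symm_apply]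
    have h' := congrArg Subtype.val h
    apply Subtype.ext
    simp only [MulAut.conjNormal_apply, Subgroup.coe_mul, Subgroup.coe_inv] at h' ⊢
    rw [hφ]
    calc (t : G)⁻¹ * g * x * ((t : G)⁻¹ * g)⁻¹ = (t : G)⁻¹ * (g * x * g⁻¹) * t := by group
      _ = _ := by rw [h']; group
  have hn : φ ^ (2 * m + 1) = 1 := by
    have hiter : ∀ (n : ℕ) (x : T), MulAut.conjNormal (φ ^ n) x = e.symm ((fieldAut i ^ n) (e x)) := by
      intro n
      induction n with
      | zero => simp
      | succ n ih =>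
        intro x
        rw [pow_succ', map_mul, MulAut.mul_apply, ih, hact, e.apply_symm_apply, pow_succ' (fieldAut i),
          MulAut.mul_apply]
    have hm' : φ ^ (2 * m + 1) ∈ Subgroup.centralizer (T : Set G) := by
      refine Subgroup.mem_centralizer_iff.2 fun x hx => ?_
      have h := congrArg Subtype.val (hiter (2 * m + 1) ⟨x, hx⟩)
      rw [fieldAut_pow, nsmul_eq_mul, ZMod.natCast_self, zero_mul, fieldAut_zero, MulAut.one_apply,
        e.symm_apply_apply, MulAut.conjNormal_apply] at h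
      exact (mul_inv_eq_iff_eq_mul.1 h).symm
    rwa [hC, Subgroup.mem_bot] at hm'
  have hφ1 : φ ≠ 1 := fun h => hφT (h ▸ one_mem T)
  have hodd : ¬ 2 ∣ orderOf φ := fun h => by
    have := h.trans (orderOf_dvd_of_pow_eq_one hn)
    omega
  -- the embedding of the Suzuki group
  let ι : ↥(Cfsg.Sz F m) →* G := T.subtype.comp e.symm.toMonoidHom
  have hι : Function.Injective ι := Subtype.val_injective.comp e.symm.injective
  have hord : ∀ x, orderOf (ι x) = orderOf x := fun x => orderOf_injective ι hι x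
  have hne : ∀ x, x ≠ 1 → ι x ≠ 1 := fun x hx h => hx (hι (h.trans (map_one ι).symm))
  set Y := P.cmp φ with hY
  have hfix : ∀ x, fieldAut i x = x → 2 ∣ orderOf x → ι x ∈ Y := by
    intro x hx h2
    refine P.mem_of_orderOf_ne ?_ hφ1 fun h => hodd (h ▸ (hord x).symm ▸ h2)
    have h := congrArg Subtype.val (hact (e.symm x))
    rw [e.apply_symm_apply, hx, MulAut.conjNormal_apply] at h
    exact mul_inv_eq_iff_eq_mul.1 h
  have hone : fp i (1 : F) = 1 := map_one (fr i)
  have hzero : fp i (0 : F) = 0 := map_zero (fr i)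
  have hne4 : ∀ a b : F, a ≠ 0 → (Ts a b : ↥(Cfsg.Sz F m)) ≠ 1 := fun a b ha h => ha (Ts_eq_one h).1
  have hne2 : ∀ b : F, b ≠ 0 → (Ts 0 b : ↥(Cfsg.Sz F m)) ≠ 1 := fun b hb h => hb (Ts_eq_one h).2
  have hcmp : ∀ x, x ≠ 1 → ι x ∈ Y → P.cmp (ι x) = Y := fun x hx h => P.eq_of_mem φ _ hφ1 (hne x hx) h
  have h40 : ι (Ts 1 0) ∈ Y := hfix _ (by rw [fieldAut_Ts, hone, hzero])
    (by rw [Ts_orderOf_four one_ne_zero]; decide)
  have h21 : ι (Ts 0 1) ∈ Y := hfix _ (by rw [fieldAut_Ts, hone, hzero])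
    (by rw [Ts_orderOf_two one_ne_zero])
  have hU : ∀ a b : F, ι (Ts a b) ∈ Y := by
    intro a b
    rcases eq_or_ne a 0 with rfl | ha
    · rcases eq_or_ne b 0 with rfl | hb
      · rw [Ts_zero, map_one]; exact one_mem _
      rw [← hcmp _ (hne4 1 0 one_ne_zero) h40]
      refine P.mem_of_orderOf_ne ((Ts_central 1 0 b).symm.map ι) (hne _ (hne4 1 0 one_ne_zero)) ?_
      rw [hord, hord, Ts_orderOf_two hb, Ts_orderOf_four one_ne_zero]
      decide
    · rw [← hcmp _ (hne2 1 one_ne_zero) h21]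
      refine P.mem_of_orderOf_ne ((Ts_central a b 1).map ι) (hne _ (hne2 1 one_ne_zero)) ?_
      rw [hord, hord, Ts_orderOf_two one_ne_zero, Ts_orderOf_four ha]
      decide
  have hW : ι Ws ∈ Y := by
    refine hfix _ (fieldAut_Ws i) ?_
    rw [orderOf_eq_prime (p := 2) (by rw [pow_two, Ws_mul_Ws])]
    intro h
    have := Ws_smul_inf (F := F) (m := m)
    rw [h, one_smul] at this
    exact inf_ne_zero this
  have hnorm : ∀ x, ι x ∈ Subgroup.normalizer (Y : Set G) := by
    have hb : ∀ x : ↥(Cfsg.Sz F m), x • Cfsg.suzukiPointInfinity F = Cfsg.suzukiPointInfinity F →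
        ι x ∈ Subgroup.normalizer (Y : Set G) := by
      intro x hx
      obtain ⟨a, b, k, rfl⟩ := fix_inf_iff.mp hx
      rw [map_mul]
      refine mul_mem (Subgroup.le_normalizer (hU a b)) ?_
      rw [← hcmp _ (hne4 1 0 one_ne_zero) h40]
      refine P.mem_normalizer (hne _ (hne4 1 0 one_ne_zero)) ?_
      rw [hcmp _ (hne4 1 0 one_ne_zero) h40, ← map_inv, ← map_mul, ← map_mul, Hs_Ts]
      exact hU _ _
    intro x
    rcases bruhat x with h | ⟨a, b, h, hh, rfl⟩
    · exact hb x h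
    · rw [map_mul, map_mul]
      exact mul_mem (mul_mem (Subgroup.le_normalizer (hU a b)) (Subgroup.le_normalizer hW)) (hb h hh)
  haveI : (Y.comap ι).Normal := ⟨fun y hy x => by
    rw [Subgroup.mem_comap, map_mul, map_mul, map_inv]
    exact (Subgroup.mem_normalizer_iff.1 (hnorm x) _).1 hy⟩
  have htop : Y.comap ι = ⊤ := eq_top_of_normal _ fun h =>
    hne4 1 0 one_ne_zero (Subgroup.mem_bot.1 (h ▸ (h40 : Ts 1 0 ∈ Y.comap ι)))
  refine hno φ hφ1 fun x hx => ?_
  have : e ⟨x, hx⟩ ∈ Y.comap ι := htop ▸ Subgroup.mem_top _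
  simpa [ι] using this

end Cfsg.Agent.Part11
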