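import Mathlib
import Cfsg.Agent.Lib.Part11Almost
import Cfsg.Agent.Lib.AutPSLBasic
import Cfsg.Agent.Lib.AutPSLMain
import Cfsg.Agent.Lib.AutPSLApi
import Cfsg.Agent.Lib.AutPSLField
import Cfsg.Agent.Lib.PSL2Elements

/-!
# Partitioned almost simple groups with socle `PSL(2, q)`
-/

set_option autoImplicit false
set_option linter.style.haveILetI false

namespace Cfsg.Agent.Part11

open Matrix AutPSLBasic AutPSLMain AutPSLApi

universe v

variable {F : Type} [Field F]

/-- The projection onto `PSL₂`. -/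
noncomputable def pm : Matrix.SpecialLinearGroup (Fin 2) F →* AutPSLBasic.P 2 F := QuotientGroup.mk' _

theorem pm_eq_one {s : Matrix.SpecialLinearGroup (Fin 2) F} :
    pm s = 1 ↔ s.1 0 1 = 0 ∧ s.1 1 0 = 0 ∧ s.1 0 0 = s.1 1 1 :=
  (QuotientGroup.eq_one_iff s).trans (PSL2Elements.mem_center_iff_entries s)

theorem pm_neg (s : Matrix.SpecialLinearGroup (Fin 2) F) : pm (-s) = pm s :=
  (mk_eq_mk_iff).2 ⟨-1, by rw [PSL2Elements.coe_neg', neg_smul, one_smul, neg_neg]⟩

theorem pm_eq_top_of_u_w (N : Subgroup (AutPSLBasic.P 2 F)) (hu : ∀ c, pm (PSL2Elements.u c) ∈ N)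
    (hw : pm (PSL2Elements.w : Matrix.SpecialLinearGroup (Fin 2) F) ∈ N) : N = ⊤ := by
  rw [eq_top_iff]
  intro x _
  obtain ⟨s, rfl⟩ := QuotientGroup.mk'_surjective _ x
  change pm s ∈ N
  have ht : ∀ (i j : Fin 2) (h : i ≠ j) (c : F),
      pm (Matrix.SpecialLinearGroup.transvection h c) ∈ N := by
    intro i j h c
    fin_cases i <;> fin_cases j
    · exact absurd rfl h
    · rw [show Matrix.SpecialLinearGroup.transvection h c = PSL2Elements.u c from by
        apply PSL2Elements.ext2 <;>
          simp [PSL2Elements.u, Matrix.SpecialLinearGroup.transvection_coe, Matrix.single_apply]]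
      exact hu c
    · rw [show Matrix.SpecialLinearGroup.transvection h c =
          PSL2Elements.w * PSL2Elements.u (-c) * PSL2Elements.w⁻¹ from by
        rw [eq_mul_inv_iff_mul_eq]
        apply PSL2Elements.ext2 <;>
          simp [PSL2Elements.u, PSL2Elements.w, PSL2Elements.mul_apply2,
            Matrix.SpecialLinearGroup.transvection_coe, Matrix.single_apply]]
      rw [map_mul, map_mul, map_inv]
      exact N.mul_mem (N.mul_mem hw (hu _)) (N.inv_mem hw)
    · exact absurd rfl h
  refine Matrix.SpecialLinearGroup.diagonal_transvection_induction' (fun s => pm s ∈ N) s ?_ ?_ ?_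
  · intro i j hij c hc
    rw [diag2n_decompose hij c hc]
    simp only [map_mul]
    exact N.mul_mem (N.mul_mem (N.mul_mem (N.mul_mem (N.mul_mem (ht _ _ _ _) (ht _ _ _ _))
      (ht _ _ _ _)) (ht _ _ _ _)) (ht _ _ _ _)) (ht _ _ _ _)
  · intro i j hij a
    exact ht i j hij a
  · intro A B hA hB
    rw [map_mul]
    exact N.mul_mem hA hB

theorem fd_fix (σ : F ≃+* F) (s : Matrix.SpecialLinearGroup (Fin 2) F)
    (h : ∀ i j, σ (s.1 i j) = s.1 i j) : fd σ (pm s) = pm s := by
  show (QuotientGroup.mk (slField σ s) : AutPSLBasic.P 2 F) = QuotientGroup.mk s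
  congr 1
  apply Subtype.ext
  rw [coe_slField]
  ext i j
  exact h i j

theorem fd_fix_u (σ : F ≃+* F) {c : F} (h : σ c = c) :
    fd σ (pm (PSL2Elements.u c)) = pm (PSL2Elements.u c) := by
  refine fd_fix σ _ fun i j => ?_
  fin_cases i <;> fin_cases j <;> simp [PSL2Elements.u, h]

theorem fd_fix_w (σ : F ≃+* F) :
    fd σ (pm PSL2Elements.w) = (pm PSL2Elements.w : AutPSLBasic.P 2 F) := by
  refine fd_fix σ _ fun i j => ?_
  fin_cases i <;> fin_cases j <;> simp [PSL2Elements.w]

theorem pm_w_ne_one : pm (PSL2Elements.w : Matrix.SpecialLinearGroup (Fin 2) F) ≠ 1 := fun e => by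
  simpa [PSL2Elements.w] using (pm_eq_one.1 e).2.1

theorem pm_w_sq : pm PSL2Elements.w * pm PSL2Elements.w = (1 : AutPSLBasic.P 2 F) := by
  rw [← map_mul, PSL2Elements.w_sq, pm_neg, map_one]

theorem cj_fd_pow (a : GL (Fin 2) F) (σ : F ≃+* F) (k : ℕ) :
    ∃ b : GL (Fin 2) F, (cj a * fd σ : MulAut (AutPSLBasic.P 2 F)) ^ k = cj b * fd (σ ^ k) := by
  induction k with
  | zero => exact ⟨1, by rw [pow_zero, pow_zero, map_one, map_one, mul_one]⟩
  | succ k ih =>
    obtain ⟨b, hb⟩ := ih
    refine ⟨b * Matrix.GeneralLinearGroup.map ((σ ^ k : F ≃+* F) : F →+* F) a, ?_⟩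
    rw [pow_succ, hb, map_mul, pow_succ σ k, map_mul]
    calc cj b * fd (σ ^ k) * (cj a * fd σ) = cj b * (fd (σ ^ k) * cj a) * fd σ := by group
      _ = _ := by rw [fd_mul_cj]; group

theorem det_gmap (σ : F ≃+* F) (a : GL (Fin 2) F) :
    Matrix.GeneralLinearGroup.det (Matrix.GeneralLinearGroup.map (σ : F →+* F) a) =
      Units.map (σ : F →* F) (Matrix.GeneralLinearGroup.det a) := by
  apply Units.ext
  exact ((σ : F →+* F).map_det (a : Matrix (Fin 2) (Fin 2) F)).symm

/-- Matrices with determinant of the same square class give the same outer automorphism. -/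
theorem cj_mem_inn {a : GL (Fin 2) F} (h : IsSquare (Matrix.GeneralLinearGroup.det a)) :
    (cj a : MulAut (AutPSLBasic.P 2 F)) ∈ (MulAut.conj (G := AutPSLBasic.P 2 F)).range := by
  obtain ⟨c, hc⟩ := h
  set b := Matrix.GeneralLinearGroup.scalar (Fin 2) c⁻¹ * a with hb
  have hdet : b ∈ (Matrix.GeneralLinearGroup.det : GL (Fin 2) F →* Fˣ).ker := by
    rw [MonoidHom.mem_ker, hb, map_mul, hc]
    have : Matrix.GeneralLinearGroup.det (Matrix.GeneralLinearGroup.scalar (Fin 2) c⁻¹) = c⁻¹ * c⁻¹ := by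
      apply Units.ext
      show Matrix.det (Matrix.scalar (Fin 2) ((c⁻¹ : Fˣ) : F)) = _
      simp [sq]
    rw [this]
    group
  rw [AutPSLField.ker_det] at hdet
  obtain ⟨s, hs⟩ := hdet
  refine ⟨QuotientGroup.mk s, ?_⟩
  rw [AutPSLGeometry.conj_mk, hs, hb, map_mul, AutPSLField.cj_scalar le_rfl, one_mul]

theorem isSquare_mul_of_not {δ : Fˣ} (hδ : ∀ x : Fˣ, x ∈ Subgroup.zpowers δ) {a b : Fˣ}
    (ha : ¬ IsSquare a) (hb : ¬ IsSquare b) : IsSquare (a * b) := by
  obtain ⟨k, rfl⟩ := hδ a
  obtain ⟨l, rfl⟩ := hδ b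
  rcases Int.even_or_odd k with ⟨m, rfl⟩ | ⟨m, rfl⟩
  · exact absurd ⟨δ ^ m, _root_.zpow_add δ m m⟩ ha
  rcases Int.even_or_odd l with ⟨n, rfl⟩ | ⟨n, rfl⟩
  · exact absurd ⟨δ ^ n, _root_.zpow_add δ n n⟩ hb
  · refine ⟨δ ^ (m + n + 1), ?_⟩
    show δ ^ (2 * m + 1) * δ ^ (2 * n + 1) = _
    rw [← _root_.zpow_add, ← _root_.zpow_add]
    ring_nf

theorem exists_generator [Fintype F] :
    ∃ δ : Fˣ, (∀ x, x ∈ Subgroup.zpowers δ) ∧ orderOf δ = Fintype.card F - 1 := by
  obtain ⟨δ, hδ⟩ := IsCyclic.exists_generator (α := Fˣ)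
  refine ⟨δ, hδ, ?_⟩
  rw [orderOf_eq_card_of_forall_mem_zpowers hδ, Nat.card_units, Nat.card_eq_fintype_card]

theorem not_isSquare_generator [Fintype F] {δ : Fˣ} (hδ : ∀ x, x ∈ Subgroup.zpowers δ)
    (hord : orderOf δ = Fintype.card F - 1) (hodd : Odd (Fintype.card F)) : ¬ IsSquare δ := by
  rintro ⟨w, hw⟩
  obtain ⟨k, rfl⟩ := hδ w
  have h1 : δ ^ (k + k - 1) = 1 := by
    rw [_root_.zpow_sub, _root_.zpow_add, zpow_one]
    exact mul_inv_eq_one.2 hw.symm
  have h2 := orderOf_dvd_iff_zpow_eq_one.2 h1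
  rw [hord] at h2
  obtain ⟨m, hm⟩ := hodd
  have h3 : (2 : ℤ) ∣ k + k - 1 := by
    refine dvd_trans ?_ h2
    rw [hm, show 2 * m + 1 - 1 = 2 * m by omega]
    exact ⟨m, by push_cast; ring⟩
  omega

namespace ACtx

variable {G : Type v} [Group G] {Q : NPart G} (C : ACtx Q (AutPSLBasic.P 2 F))
include C

theorem field_finish {φ : G} (hφ1 : φ ≠ 1) {σ : F ≃+* F} (hφ : C.act φ = fd σ) {b : F} (hb : b ≠ 0)
    (hm : C.emb (pm (PSL2Elements.u b)) ∈ Q.cmp φ) : False := by
  have hb1 : pm (PSL2Elements.u b) ≠ 1 := fun e =>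
    hb (by simpa [PSL2Elements.u] using (pm_eq_one.1 e).1)
  refine C.norm_ne_top hφ1 hb1 hm (pm_eq_top_of_u_w _ (fun c => ?_) ?_)
  · refine C.mem_norm_of_commute hφ1 hb1 hm ?_
    show pm _ * pm _ = pm _ * pm _
    rw [← map_mul, ← map_mul, PSL2Elements.u_mul, PSL2Elements.u_mul, add_comm]
  · exact C.mem_norm_of_fix hφ1 (by rw [hφ]; exact fd_fix_w σ)

/-- No element induces a field automorphism of prime order. -/
theorem no_field [Fintype F] [Finite G] (h4 : Fintype.card F ≠ 4) {φ : G} {σ : F ≃+* F} {r : ℕ}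
    (hr : r.Prime) (ho : orderOf σ = r) (hφ : C.act φ = fd σ) : False := by
  classical
  have hoφ : orderOf φ = r := by
    rw [← orderOf_injective C.act C.act_inj φ, hφ, orderOf_injective fd (fd_injective le_rfl), ho]
  have hσ : σ ≠ 1 := fun e => hr.one_lt.ne' (by rw [← ho, e, orderOf_one])
  have hφ1 : φ ≠ 1 := fun e => hr.one_lt.ne' (by rw [← hoφ, e, orderOf_one])
  have hfix : ∀ {s}, fd σ s = s → C.act φ s = s := fun h => by rw [hφ]; exact h
  obtain ⟨p, hpc⟩ := CharP.exists F
  haveI := hpc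
  have hp : p.Prime := CharP.char_is_prime F p
  haveI := Fact.mk hp
  by_cases hrp : r = p
  swap
  · refine C.field_finish hφ1 hφ one_ne_zero (C.mem_of_fix hφ1 (hfix (fd_fix_u σ (map_one σ))) ?_)
    rw [hoφ]
    have hpow : ∀ k : ℕ, (PSL2Elements.u (1 : F)) ^ k = PSL2Elements.u (k : F) := by
      intro k
      induction k with
      | zero => rw [pow_zero, Nat.cast_zero, PSL2Elements.u_zero]
      | succ k ih => rw [pow_succ, ih, PSL2Elements.u_mul, Nat.cast_succ]
    have : orderOf (pm (PSL2Elements.u (1 : F))) = p := by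
      refine orderOf_eq_prime ?_ fun e => ?_
      · rw [← map_pow, hpow, CharP.cast_eq_zero, PSL2Elements.u_zero, map_one]
      · exact one_ne_zero (α := F) (by simpa [PSL2Elements.u] using (pm_eq_one.1 e).1)
    rw [this]
    exact fun h => hrp h.symm
  subst hrp
  rcases eq_or_ne r 2 with rfl | hr2
  · -- characteristic two
    obtain ⟨a, ha, ha0, ha1⟩ : ∃ a : F, σ a = a ∧ a ≠ 0 ∧ a ≠ 1 := by
      by_contra hc
      push Not at hc
      have hσ2 : ∀ x, σ (σ x) = x := fun x => by
        have h1 : σ ^ 2 = 1 := by rw [← ho]; exact pow_orderOf_eq_one σ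
        rw [pow_two] at h1
        exact RingEquiv.congr_fun h1 x
      have hroot : ∀ x : F, x = 0 ∨ x = 1 ∨ x * (x + 1) = 1 := by
        intro x
        by_cases hx : σ x = x
        · by_cases h0 : x = 0
          · exact Or.inl h0
          · exact Or.inr (Or.inl (hc x hx h0))
        refine Or.inr (Or.inr ?_)
        have hx0 : x ≠ 0 := fun e => hx (by rw [e, map_zero])
        have hs : x + σ x = 1 := by
          refine hc _ (by rw [map_add, hσ2, add_comm]) fun e => hx ?_
          exact (CharTwo.add_eq_zero.1 e).symm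
        have hm : x * σ x = 1 := hc _ (by rw [map_mul, hσ2, mul_comm])
          (mul_ne_zero hx0 fun e => hx0 (σ.injective (e.trans (map_zero σ).symm)))
        rwa [show σ x = x + 1 from by
          rw [← hs, ← add_assoc, CharTwo.add_self_eq_zero, zero_add]] at hm
      obtain ⟨z, hz⟩ : ∃ z : F, z ≠ 0 ∧ z ≠ 1 := by
        by_contra hz
        push Not at hz
        exact hσ (RingEquiv.ext fun x => by
          by_cases h0 : x = 0
          · rw [h0, map_zero, map_zero]
          · rw [hz x h0, map_one, map_one])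
      have hz' : z * (z + 1) = 1 := by
        rcases hroot z with h | h | h
        · exact absurd h hz.1
        · exact absurd h hz.2
        · exact h
      have hcard : Fintype.card F ≤ 4 := by
        rw [← Finset.card_univ]
        refine (Finset.card_le_card (t := {0, 1, z, z + 1}) fun x _ => ?_).trans Finset.card_le_four
        simp only [Finset.mem_insert, Finset.mem_singleton]
        rcases hroot x with h | h | h
        · exact Or.inl h
        · exact Or.inr (Or.inl h)
        · have : (x - z) * (x + z + 1) = 0 := by linear_combination h - hz'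
          rcases mul_eq_zero.1 this with h' | h'
          · exact Or.inr (Or.inr (Or.inl (sub_eq_zero.1 h')))
          · refine Or.inr (Or.inr (Or.inr ?_))
            rw [add_assoc] at h'
            exact CharTwo.add_eq_zero.1 h'
      obtain ⟨n, -, hn⟩ := FiniteField.card F 2
      have h2 : 2 < Fintype.card F := by
        rw [← Finset.card_univ]
        refine lt_of_lt_of_le ?_ (Finset.card_le_card (s := {0, 1, z}) (Finset.subset_univ _))
        rw [Finset.card_insert_of_notMem (by simp [hz.1.symm]),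
          Finset.card_insert_of_notMem (by simp [hz.2.symm]), Finset.card_singleton]
        norm_num
      rcases Nat.lt_or_ge (n : ℕ) 2 with hlt | hge
      · have : (n : ℕ) = 1 := by have := n.pos; omega
        rw [this] at hn
        omega
      · have := Nat.pow_le_pow_right (show 0 < 2 by norm_num) hge
        omega
    set au := Units.mk0 a ha0 with hau
    have hd : fd σ (pm (PSL2Elements.d au)) = pm (PSL2Elements.d au) := by
      refine fd_fix σ _ fun i j => ?_
      fin_cases i <;> fin_cases j <;> simp [PSL2Elements.d, hau, ha, map_inv₀]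
    have hsq : a * a ≠ 1 := fun e => ha1 (by
      rcases mul_self_eq_one_iff.1 e with h | h
      · exact h
      · rw [h, CharTwo.neg_eq])
    have hdord : orderOf (pm (PSL2Elements.d au)) ≠ orderOf φ := by
      rw [hoφ]
      intro e
      have h1 : pm (PSL2Elements.d au) * pm (PSL2Elements.d au) = 1 := by
        have h := pow_orderOf_eq_one (pm (PSL2Elements.d au))
        rwa [e, pow_two] at h
      rw [← map_mul, PSL2Elements.d_mul] at h1
      have h2 := (pm_eq_one.1 h1).2.2
      simp [PSL2Elements.d, hau] at h2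
      have h3 : (a * a) * (a * a) = 1 := by field_simp at h2; linear_combination h2
      rcases mul_self_eq_one_iff.1 h3 with h | h
      · exact hsq h
      · exact hsq (by rw [h, CharTwo.neg_eq])
    have hdm := C.mem_of_fix hφ1 (hfix hd) hdord
    have hu := C.mem_norm_of_fix hφ1 (hfix (fd_fix_u σ (map_one σ)))
    have hmem : C.emb (pm (PSL2Elements.u 1)) * C.emb (pm (PSL2Elements.d au)) *
        (C.emb (pm (PSL2Elements.u 1)))⁻¹ ∈ Q.cmp φ :=
      (Subgroup.mem_normalizer_iff.1 hu _).1 hdm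
    have hm2 := (Q.cmp φ).mul_mem hmem ((Q.cmp φ).inv_mem hdm)
    rw [← map_inv, ← map_inv, ← map_mul, ← map_mul, ← map_mul, ← map_inv, ← map_inv, ← map_mul,
      ← map_mul, ← map_mul] at hm2
    have he : PSL2Elements.u 1 * PSL2Elements.d au * (PSL2Elements.u 1)⁻¹ * (PSL2Elements.d au)⁻¹ =
        (PSL2Elements.u (1 - a * a) : Matrix.SpecialLinearGroup (Fin 2) F) := by
      rw [mul_inv_eq_iff_eq_mul, mul_inv_eq_iff_eq_mul]
      apply PSL2Elements.ext2 <;>
        simp [PSL2Elements.u, PSL2Elements.d, PSL2Elements.mul_apply2, hau] <;> field_simp <;> ring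
    rw [he] at hm2
    exact C.field_finish hφ1 hφ (sub_ne_zero.2 (Ne.symm hsq)) hm2
  · -- odd characteristic
    have h2F : (2 : F) ≠ 0 := by
      intro e
      have : (r : ℕ) ∣ 2 := (CharP.cast_eq_zero_iff F r 2).1 (by exact_mod_cast e)
      exact hr2 ((Nat.prime_dvd_prime_iff_eq hr Nat.prime_two).1 this)
    obtain ⟨a₀, b₀, hab⟩ := ZMod.sq_add_sq r (-1 : ZMod r)
    set κ : ZMod r →+* F := ZMod.castHom (dvd_refl r) F with hκ
    have hκσ : ∀ x, σ (κ x) = κ x := fun x =>
      RingHom.congr_fun (Subsingleton.elim ((σ : F →+* F).comp κ) κ) x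
    have hab' : κ a₀ ^ 2 + κ b₀ ^ 2 = -1 := by rw [← map_pow, ← map_pow, ← map_add, hab, map_neg, map_one]
    let s2 : Matrix.SpecialLinearGroup (Fin 2) F :=
      PSL2Elements.mk2 (κ a₀) (κ b₀) (κ b₀) (-κ a₀) (by linear_combination -hab')
    have hsfix : fd σ (pm s2) = pm s2 := by
      refine fd_fix σ _ fun i j => ?_
      fin_cases i <;> fin_cases j <;> simp [s2, hκσ, map_neg]
    have hs2 : pm s2 * pm s2 = 1 := by
      rw [← map_mul, pm_eq_one]
      refine ⟨?_, ?_, ?_⟩ <;> simp [s2, PSL2Elements.mul_apply2] <;> ring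
    obtain ⟨δ, hδ, hδo⟩ := exists_generator (F := F)
    have hδ4 : (δ : F) ^ 4 ≠ 1 := by
      intro e
      have h1 : δ ^ 4 = 1 := Units.ext (by rw [Units.val_pow_eq_pow_val, e, Units.val_one])
      have h2 := Nat.le_of_dvd (by norm_num) (orderOf_dvd_of_pow_eq_one h1)
      have h5 : 5 < Fintype.card F := by
        obtain ⟨n, -, hn⟩ := FiniteField.card F r
        rcases Nat.lt_or_ge (n : ℕ) 2 with hlt | hge
        · exfalso
          have hn1 : (n : ℕ) = 1 := by have := n.pos; omega
          rw [hn1, pow_one] at hn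
          have hb := ZMod.castHom_bijective F hn
          refine hσ (RingEquiv.ext fun x => ?_)
          obtain ⟨y, rfl⟩ := hb.2 x
          exact hκσ y
        · have h3 : 3 ≤ r := by have := hr.two_le; omega
          have := Nat.pow_le_pow_right (show 0 < r by omega) hge
          have := Nat.pow_le_pow_left h3 2
          omega
      rw [hδo] at h2
      omega
    set x : F := (δ : F) with hx
    have hx0 : x ≠ 0 := δ.ne_zero
    have hden : 1 + x ^ 2 ≠ 0 := fun e => hδ4 (by linear_combination (x ^ 2 - 1) * e)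
    have hnum : 1 - x ^ 2 ≠ 0 := fun e => hδ4 (by linear_combination -(x ^ 2 + 1) * e)
    set c : F := (1 - x ^ 2) / (1 + x ^ 2) with hc
    set e : F := 2 * x / (1 + x ^ 2) with he
    let y : Matrix.SpecialLinearGroup (Fin 2) F :=
      PSL2Elements.mk2 c (-e) e c (by rw [hc, he]; field_simp; ring)
    have hw1 := pm_w_ne_one (F := F)
    have hw2 := pm_w_sq (F := F)
    have how : orderOf (pm (PSL2Elements.w : Matrix.SpecialLinearGroup (Fin 2) F)) ≠ orderOf φ := by
      rw [orderOf_invol hw1 hw2, hoφ]; exact hr2.symm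
    have hos : orderOf (pm s2) ≠ orderOf φ := by
      rw [hoφ]
      intro e'
      have : orderOf (pm s2) ∣ 2 := orderOf_dvd_of_pow_eq_one (by rw [pow_two, hs2])
      exact hr2 ((Nat.prime_dvd_prime_iff_eq hr Nat.prime_two).1 (e' ▸ this))
    have hwm := C.mem_of_fix hφ1 (hfix (fd_fix_w σ)) how
    have hsm := C.mem_of_fix hφ1 (hfix hsfix) hos
    refine C.klein (t := pm PSL2Elements.w) (s := pm s2) (y := pm y) hw1 hw2 hs2 ?_ ?_ ?_ ?_ ?_
    · show C.emb (pm s2) ∈ Q.cmp (C.emb (pm PSL2Elements.w))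
      rwa [Q.eq_of_mem φ _ hφ1 (C.emb_ne_one hw1) hwm]
    · show pm s2 * pm PSL2Elements.w = pm PSL2Elements.w * pm s2
      rw [← map_mul, ← map_mul, ← pm_neg (PSL2Elements.w * s2)]
      congr 1
      apply PSL2Elements.ext2 <;> simp [s2, PSL2Elements.w, PSL2Elements.mul_apply2]
    · show pm y * pm PSL2Elements.w = pm PSL2Elements.w * pm y
      rw [← map_mul, ← map_mul]
      congr 1
      apply PSL2Elements.ext2 <;> simp [y, PSL2Elements.w, PSL2Elements.mul_apply2]
    · rw [← map_mul, Ne, pm_eq_one]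
      rintro ⟨h, -, -⟩
      have h' : 2 * (c * e) = 0 := by
        simp [y, PSL2Elements.mul_apply2] at h
        linear_combination -h
      rcases mul_eq_zero.1 h' with h' | h'
      · exact h2F h'
      rcases mul_eq_zero.1 h' with h' | h'
      · rw [hc, div_eq_zero_iff] at h'
        exact h'.elim hnum hden
      · rw [he, div_eq_zero_iff] at h'
        exact h'.elim (mul_ne_zero h2F hx0) hden
    · rw [← map_inv, ← map_mul, ← map_mul, ← map_inv]
      congr 1
      rw [mul_inv_eq_iff_eq_mul]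
      apply PSL2Elements.ext2 <;>
        simp [s2, y, PSL2Elements.mul_apply2, PSL2Elements.inv_apply] <;> ring

/-- No element induces the product of a diagonal and a field automorphism of order two. -/
theorem no_diag_field [Fintype F] [Finite G] {g : G} {σ : F ≃+* F} (ho : orderOf σ = 2)
    (hodd : Odd (Fintype.card F)) {δ : Fˣ} (hδ : ∀ x, x ∈ Subgroup.zpowers δ)
    (hord : orderOf δ = Fintype.card F - 1)
    (hg : C.act g = cj (gdiag ![δ, 1]) * fd σ) : False := by
  classical
  have hσ : σ ≠ 1 := fun e => by rw [e, orderOf_one] at ho; norm_num at ho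
  have hσσ : σ * σ = 1 := by rw [← pow_two, ← ho, pow_orderOf_eq_one]
  obtain ⟨p, hpc⟩ := CharP.exists F
  haveI := hpc
  obtain ⟨n, hp, hn⟩ := FiniteField.card F p
  haveI := Fact.mk hp
  have h2n : 2 ∣ (n : ℕ) := by
    have h1 := card_ringAut (F := F) hn n.pos
    rw [← ho, ← h1]
    exact orderOf_dvd_natCard σ
  obtain ⟨i, hi⟩ : IsSquare (-1 : F) := by
    rw [FiniteField.isSquare_neg_one_iff, hn]
    obtain ⟨k, hk⟩ := h2n
    rw [hk, pow_mul, Nat.pow_mod]
    have hpo : p % 2 = 1 := by
      rw [hn, Nat.odd_pow_iff n.pos.ne'] at hodd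
      exact Nat.odd_iff.1 hodd
    have : p ^ 2 % 4 = 1 := by
      rw [Nat.pow_mod]
      have : p % 4 = 1 ∨ p % 4 = 3 := by omega
      rcases this with h | h <;> rw [h]
    rw [this, one_pow]
    norm_num
  have hi0 : i ≠ 0 := fun e => by rw [e, mul_zero] at hi; exact neg_ne_zero.2 one_ne_zero hi
  set iu := Units.mk0 i hi0 with hiu
  have hiinv : i⁻¹ = -i := inv_eq_of_mul_eq_one_right (by linear_combination hi)
  set t : Matrix.SpecialLinearGroup (Fin 2) F := PSL2Elements.d iu with ht
  have ht1 : pm t ≠ 1 := fun e => by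
    have h := (pm_eq_one.1 e).2.2
    simp [ht, PSL2Elements.d, hiu, hiinv] at h
    have h2 : (2 : F) * i = 0 := by linear_combination h
    rcases mul_eq_zero.1 h2 with h3 | h3
    · have h4 : p ∣ 2 := (CharP.cast_eq_zero_iff F p 2).1 (by exact_mod_cast h3)
      rw [hn, (Nat.prime_dvd_prime_iff_eq hp Nat.prime_two).1 h4, Nat.odd_pow_iff n.pos.ne'] at hodd
      exact absurd hodd (by decide)
    · exact hi0 h3
  have hiiu : iu * iu = -1 := Units.ext (by rw [Units.val_mul, Units.val_neg, Units.val_one]; exact hi.symm)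
  have ht2 : pm t * pm t = 1 := by
    rw [← map_mul, ht, PSL2Elements.d_mul, hiiu, pm_eq_one]
    simp [PSL2Elements.d]
  have hg1 : g ≠ 1 := fun e => hσ (cj_fd_eq_one le_rfl ((e ▸ hg.symm).trans (map_one C.act))).2
  have hconj : ∀ (s s' : Matrix.SpecialLinearGroup (Fin 2) F) (D : GL (Fin 2) F),
      (D : Matrix (Fin 2) (Fin 2) F) * (slField σ s).1 = s'.1 * (D : Matrix (Fin 2) (Fin 2) F) →
      (cj D * fd σ : MulAut (AutPSLBasic.P 2 F)) (pm s) = pm s' := by
    intro s s' D h
    show (QuotientGroup.mk (slConj D (slField σ s)) : AutPSLBasic.P 2 F) = QuotientGroup.mk s'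
    congr 1
    apply Subtype.ext
    rw [coe_slConj, h, mul_assoc, Units.mul_inv, mul_one]
  have hfixt : C.act g (pm t) = pm t := by
    rw [hg]
    have hσi : σ i = i ∨ σ i = -i := by
      apply mul_self_eq_mul_self_iff.1
      rw [← map_mul, ← hi, map_neg, map_one, hi]
    rcases hσi with h | h
    · refine hconj t t _ ?_
      ext a b
      fin_cases a <;> fin_cases b <;>
        simp [coe_slField, Matrix.mul_apply, Fin.sum_univ_two, gdiag, ht, PSL2Elements.d, hiu,
          map_inv₀, h, mul_comm]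
    · rw [hconj t (-t) _ ?_, pm_neg]
      ext a b
      fin_cases a <;> fin_cases b <;>
        simp [coe_slField, Matrix.mul_apply, Fin.sum_univ_two, gdiag, ht, PSL2Elements.d, hiu,
          map_inv₀, h, mul_comm, inv_neg]
  have hσδ : σ (δ : F) ≠ δ := fun e => hσ (RingEquiv.ext fun x => by
    rcases eq_or_ne x 0 with rfl | hx
    · rw [map_zero, map_zero]
    · obtain ⟨k, hk⟩ := hδ (Units.mk0 x hx)
      have := congrArg Units.val hk
      simp only [Units.val_zpow_eq_zpow_val, Units.val_mk0] at this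
      rw [← this, map_zpow₀, e, map_zpow₀]
      rfl)
  have hsq : g * g ≠ 1 := by
    intro e
    have h := congrArg C.act e
    rw [map_mul, map_one, hg, mul_assoc, ← mul_assoc (fd σ), fd_mul_cj, mul_assoc, ← mul_assoc,
      ← map_mul, ← map_mul, hσσ] at h
    obtain ⟨hc, -⟩ := cj_fd_eq_one le_rfl h
    obtain ⟨c, hc⟩ := (AutPSLField.mem_center _).1 hc
    have h00 := congrArg (fun A : GL (Fin 2) F => (A : Matrix (Fin 2) (Fin 2) F) 0 0) hc
    have h11 := congrArg (fun A : GL (Fin 2) F => (A : Matrix (Fin 2) (Fin 2) F) 1 1) hc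
    simp [Matrix.mul_apply, Fin.sum_univ_two, gdiag, Matrix.GeneralLinearGroup.map_apply] at h00 h11
    have hinv : σ (δ : F) = (δ : F)⁻¹ :=
      eq_inv_of_mul_eq_one_right (h00.trans h11.symm)
    have hall : ∀ x : F, x ≠ 0 → σ x = x⁻¹ := by
      intro x hx
      obtain ⟨k, hk⟩ := hδ (Units.mk0 x hx)
      have := congrArg Units.val hk
      simp only [Units.val_zpow_eq_zpow_val, Units.val_mk0] at this
      rw [← this, map_zpow₀, hinv, _root_.inv_zpow]
    rcases eq_or_ne (1 + (δ : F)) 0 with h1 | h1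
    · exact hσδ (by rw [hinv, show (δ : F) = -1 by linear_combination h1, inv_neg, inv_one])
    · have h2 := hall _ h1
      rw [map_add, map_one, hinv] at h2
      have h3 : (δ : F) ^ 2 + δ + 1 = 0 := by
        field_simp at h2
        linear_combination h2
      have h4 : δ ^ 3 = 1 := Units.ext (by
        rw [Units.val_pow_eq_pow_val, Units.val_one]; linear_combination ((δ : F) - 1) * h3)
      have h5 := Nat.le_of_dvd (by norm_num) (orderOf_dvd_of_pow_eq_one h4)
      obtain ⟨k, hk⟩ := h2n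
      have hk1 : 1 ≤ k := by have := n.pos; omega
      have hp3 : 3 ≤ p := by
        rw [hn, Nat.odd_pow_iff n.pos.ne'] at hodd
        obtain ⟨m, hm⟩ := hodd
        have := hp.two_le
        omega
      have := Nat.pow_le_pow_right (show 0 < p by omega) (show 2 ≤ (n : ℕ) by omega)
      have := Nat.pow_le_pow_left hp3 2
      rw [hord] at h5
      omega
  have hgt := C.commute_of_fix hfixt
  have hgm : g ∈ Q.cmp (C.emb (pm t)) := by
    refine Q.mem_of_orderOf_ne hgt.symm (C.emb_ne_one ht1) fun e => hsq ?_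
    rw [orderOf_injective C.emb C.emb_inj, orderOf_invol ht1 ht2] at e
    rw [← pow_two, ← e, pow_orderOf_eq_one]
  have hwt : Commute (pm PSL2Elements.w) (pm t) := by
    show pm _ * pm _ = pm _ * pm _
    rw [← map_mul, ← map_mul, ← pm_neg (t * PSL2Elements.w)]
    congr 1
    apply PSL2Elements.ext2 <;>
      simp [ht, PSL2Elements.d, PSL2Elements.w, PSL2Elements.mul_apply2, hiinv, hiu]
  have hwm : C.emb (pm PSL2Elements.w) ∈ Q.cmp (C.emb (pm t)) := by
    by_contra hout
    have h := Q.outside_inverts (C.emb_ne_one ht1) (by rw [← map_mul, ht2, map_one]) (hwt.map C.emb)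
      hout hgm hgt
    rw [eq_inv_iff_mul_eq_one] at h
    have h2 := congrArg C.act h
    rw [map_mul, map_mul, map_mul, map_inv, map_one, C.act_emb, hg] at h2
    rw [show (pm PSL2Elements.w : AutPSLBasic.P 2 F) = QuotientGroup.mk PSL2Elements.w from rfl,
      AutPSLGeometry.conj_mk] at h2
    set W : GL (Fin 2) F := Matrix.SpecialLinearGroup.toGL PSL2Elements.w with hW
    have hWfix : Matrix.GeneralLinearGroup.map (σ : F →+* F) W⁻¹ = W⁻¹ := by
      rw [map_inv]
      congr 1
      apply Units.ext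
      ext a b
      fin_cases a <;> fin_cases b <;> simp [hW, PSL2Elements.w, Matrix.GeneralLinearGroup.map_apply]
    have hWD : W * gdiag ![δ, 1] * W⁻¹ = gdiag ![1, δ] := by
      rw [mul_inv_eq_iff_eq_mul]
      apply Units.ext
      ext a b
      fin_cases a <;> fin_cases b <;>
        simp [hW, PSL2Elements.w, gdiag, Matrix.mul_apply, Fin.sum_univ_two]
    have h3 : cj W * (cj (gdiag ![δ, 1]) * fd σ) * (cj W)⁻¹ =
        (cj (gdiag ![1, δ]) * fd σ : MulAut (AutPSLBasic.P 2 F)) := by
      rw [← map_inv, ← hWD, map_mul, map_mul]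
      calc cj W * (cj (gdiag ![δ, 1]) * fd σ) * cj W⁻¹ =
            cj W * cj (gdiag ![δ, 1]) * (fd σ * cj W⁻¹) := by group
        _ = _ := by rw [fd_mul_cj, hWfix]; group
    rw [h3, mul_assoc, ← mul_assoc (fd σ), fd_mul_cj, mul_assoc, ← mul_assoc, ← map_mul, ← map_mul,
      hσσ] at h2
    obtain ⟨hc, -⟩ := cj_fd_eq_one le_rfl h2
    obtain ⟨c, hc⟩ := (AutPSLField.mem_center _).1 hc
    have h00 := congrArg (fun A : GL (Fin 2) F => (A : Matrix (Fin 2) (Fin 2) F) 0 0) hc
    have h11 := congrArg (fun A : GL (Fin 2) F => (A : Matrix (Fin 2) (Fin 2) F) 1 1) hc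
    simp [Matrix.mul_apply, Fin.sum_univ_two, gdiag, Matrix.GeneralLinearGroup.map_apply] at h00 h11
    exact hσδ (h00.trans h11.symm)
  refine C.klein (t := pm t) (s := pm PSL2Elements.w) (y := pm (PSL2Elements.d δ)) ht1 ht2 pm_w_sq
    hwm hwt ?_ ?_ ?_
  · show pm _ * pm _ = pm _ * pm _
    rw [← map_mul, ← map_mul, ht, PSL2Elements.d_mul, PSL2Elements.d_mul, mul_comm]
  · rw [← map_mul, PSL2Elements.d_mul, Ne, pm_eq_one]
    rintro ⟨-, -, h⟩
    simp [PSL2Elements.d] at h
    have h1 : δ ^ 4 = 1 := Units.ext (by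
      rw [Units.val_pow_eq_pow_val, Units.val_one]
      field_simp at h
      linear_combination h)
    have h2 := Nat.le_of_dvd (by norm_num) (orderOf_dvd_of_pow_eq_one h1)
    rw [hord, hn] at h2
    have hp3 : 3 ≤ p := by
      rw [hn, Nat.odd_pow_iff n.pos.ne'] at hodd
      obtain ⟨m, hm⟩ := hodd
      have := hp.two_le
      omega
    obtain ⟨k, hk⟩ := h2n
    have := Nat.pow_le_pow_right (show 0 < p by omega) (show 2 ≤ (n : ℕ) by have := n.pos; omega)
    have := Nat.pow_le_pow_left hp3 2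
    omega
  · rw [← map_inv, ← map_mul, ← map_mul, PSL2Elements.w_conj_d, ← map_inv]
    congr 1
    refine (inv_eq_of_mul_eq_one_right ?_).symm
    rw [PSL2Elements.d_mul, mul_inv_cancel, PSL2Elements.d_one]

/-- An almost simple partitioned group with socle `PSL(2, q)` is `PSL(2, q)` or `PGL(2, q)`. -/
theorem psl_case [Fintype F] [Finite G] (h4 : Fintype.card F ≠ 4) :
    Nonempty (G ≃* AutPSLBasic.P 2 F) ∨ (Odd (Fintype.card F) ∧
      Nonempty (G ≃* (GL (Fin 2) F ⧸ Subgroup.center (GL (Fin 2) F)))) := by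
  classical
  haveI : Finite (F ≃+* F) := Finite.of_injective (fun σ => (σ : F → F)) DFunLike.coe_injective
  obtain ⟨δ, hδ, hδo⟩ := exists_generator (F := F)
  have hchar2 : ¬ Odd (Fintype.card F) → ∀ u : Fˣ, IsSquare u := by
    intro he u
    obtain ⟨k, rfl⟩ := hδ u
    have hc : Odd (orderOf δ) := by
      rw [hδo]
      have := Fintype.card_pos (α := F)
      rw [Nat.not_odd_iff_even] at he
      obtain ⟨m, hm⟩ := he
      exact ⟨m - 1, by omega⟩
    obtain ⟨m, hm⟩ := hc
    refine ⟨δ ^ (k * (m + 1)), ?_⟩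
    show δ ^ k = _
    rw [← _root_.zpow_add, show k * ((m : ℤ) + 1) + k * (m + 1) = ((2 * m + 1 : ℕ) : ℤ) * k + k by push_cast; ring,
      _root_.zpow_add, _root_.zpow_mul, zpow_natCast, ← hm, pow_orderOf_eq_one, _root_.one_zpow, one_mul]
  have hfield : ∀ g a σ, C.act g = cj a * fd σ → σ = 1 := by
    intro g a σ hg
    by_contra hσ
    set r := (orderOf σ).minFac with hr
    have h1 : orderOf σ ≠ 1 := fun e => hσ (orderOf_eq_one_iff.1 e)
    have hrp : r.Prime := Nat.minFac_prime h1
    obtain ⟨b, hb⟩ := cj_fd_pow a σ (orderOf σ / r)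
    set τ := σ ^ (orderOf σ / r) with hτ
    have hgk : C.act (g ^ (orderOf σ / r)) = cj b * fd τ := by rw [map_pow, hg, hb]
    have hτo : orderOf τ = r := orderOf_pow_orderOf_div (orderOf_pos σ).ne' (Nat.minFac_dvd _)
    have square_case : ∀ (g : G) (b : GL (Fin 2) F) (τ : F ≃+* F), orderOf τ = r →
        C.act g = cj b * fd τ → IsSquare (Matrix.GeneralLinearGroup.det b) → False := by
      intro g b τ hτo hg hs
      obtain ⟨φ, hφ⟩ := C.exists_act_eq (g := g) (α := fd τ) (by
        rw [hg, mul_inv_cancel_right]; exact cj_mem_inn hs)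
      exact C.no_field h4 hrp hτo hφ
    by_cases hs : IsSquare (Matrix.GeneralLinearGroup.det b)
    · exact square_case _ b τ hτo hgk hs
    have hodd : Odd (Fintype.card F) := by_contra fun he => hs (hchar2 he _)
    by_cases hr2 : r = 2
    · obtain ⟨φ, hφ⟩ := C.exists_act_eq (g := g ^ (orderOf σ / r))
        (α := cj (gdiag ![δ, 1]) * fd τ) (by
        rw [hgk, _root_.mul_inv_rev, mul_assoc, mul_inv_cancel_left, ← map_inv, ← map_mul]
        refine cj_mem_inn ?_
        rw [map_mul, map_inv]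
        have hdd : Matrix.GeneralLinearGroup.det (gdiag ![δ, (1 : Fˣ)]) = δ := by
          apply Units.ext
          show Matrix.det (Matrix.diagonal _) = _
          simp [Fin.prod_univ_two]
        rw [hdd]
        exact isSquare_mul_of_not hδ hs fun h => not_isSquare_generator hδ hδo hodd (by simpa using h.inv))
      exact C.no_diag_field (hr2 ▸ hτo) hodd hδ hδo hφ
    · refine square_case ((g ^ (orderOf σ / r)) ^ 2)
        (b * Matrix.GeneralLinearGroup.map (τ : F →+* F) b) (τ ^ 2) ?_ ?_ ?_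
      · rw [orderOf_pow' τ two_ne_zero, hτo,
          Nat.Coprime.gcd_eq_one ((Nat.coprime_primes hrp Nat.prime_two).2 hr2), Nat.div_one]
      · rw [map_pow, hgk, pow_two, pow_two τ, map_mul, map_mul]
        calc cj b * fd τ * (cj b * fd τ) = cj b * (fd τ * cj b) * fd τ := by group
          _ = _ := by rw [fd_mul_cj]; group
      · rw [map_mul, det_gmap]
        refine isSquare_mul_of_not hδ hs fun h => hs ?_
        have h' := h.map (Units.map (τ.symm : F →* F))
        have e : Units.map (τ.symm : F →* F) (Units.map (τ : F →* F) (Matrix.GeneralLinearGroup.det b)) =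
            Matrix.GeneralLinearGroup.det b := Units.ext (by simp)
        rwa [e] at h'
  have hall : ∀ g, ∃ a, C.act g = cj a := by
    intro g
    obtain ⟨a, σ, hg⟩ := rigid_two (C.act g)
    exact ⟨a, by rw [hg, hfield g a σ hg, map_one, mul_one]⟩
  by_cases hsq : ∀ g a, C.act g = cj a → IsSquare (Matrix.GeneralLinearGroup.det a)
  · refine Or.inl ⟨(MulEquiv.ofBijective C.emb ⟨C.emb_inj, fun g => ?_⟩).symm⟩
    obtain ⟨a, ha⟩ := hall g
    obtain ⟨x, hx⟩ := cj_mem_inn (hsq g a ha)
    exact ⟨x, C.act_inj (by rw [C.act_emb, hx, ha])⟩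
  push Not at hsq
  obtain ⟨g₀, a₀, ha₀, hn₀⟩ := hsq
  refine Or.inr ⟨by_contra fun he => hn₀ (hchar2 he _), ?_⟩
  have hrange : C.act.range = (cjP (F := F) le_rfl).range := by
    refine le_antisymm ?_ ?_
    · rintro _ ⟨g, rfl⟩
      obtain ⟨a, ha⟩ := hall g
      exact ⟨QuotientGroup.mk a, ha.symm⟩
    · rintro _ ⟨x, rfl⟩
      induction x using QuotientGroup.induction_on with
      | H a =>
        show cj a ∈ C.act.range
        by_cases hs : IsSquare (Matrix.GeneralLinearGroup.det a)
        · obtain ⟨x, hx⟩ := cj_mem_inn hs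
          exact ⟨C.emb x, by rw [C.act_emb, hx]⟩
        · obtain ⟨x, hx⟩ := cj_mem_inn (a := a * a₀) (by
            rw [map_mul]; exact isSquare_mul_of_not hδ hs hn₀)
          refine ⟨C.emb x * g₀⁻¹, ?_⟩
          rw [map_mul, map_inv, C.act_emb, hx, ha₀, map_mul, mul_inv_cancel_right]
  exact ⟨(MonoidHom.ofInjective C.act_inj).trans ((MulEquiv.subgroupCongr hrange).trans
    (MonoidHom.ofInjective (cjP_injective le_rfl)).symm)⟩

end ACtx

end Cfsg.Agent.Part11
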