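import Cfsg.Agent.Lib.CenSplitStable50

/-!
A consistent polycyclic presentation with exponents two defines a group of the expected order: the group is
built letter by letter from the last one, as a group of permutations of two copies of the previous group.
-/

set_option autoImplicit false

namespace Cfsg.Agent.PcConsist14

open Subgroup
open Cfsg.Agent.CenSplitStable50 (P P_cons P_nil P_map P_append)

/-- right sides of relations, stored at the places `t * (t + 1) / 2 + i` of a search tree -/
inductive PcTree
  | leaf (v : List ℕ)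
  | node (p : ℕ) (l r : PcTree)

/-- looking up a place -/
noncomputable def PcTree.get (T : PcTree) : ℕ → List ℕ :=
  PcTree.rec (motive := fun _ => ℕ → List ℕ) (fun v _ => v)
    (fun p _ _ l r x => bif Nat.blt x p then l x else r x) T

/-- the right side of the relation of `(t, i)` -/
noncomputable def rhs (rows : PcTree) (t i : ℕ) : List ℕ := rows.get (t * (t + 1) / 2 + i)

/-- the conjugate of `j` by `k`, as a word -/
noncomputable def cwd (rows : PcTree) (k j : ℕ) : List ℕ := (rhs rows j k).tail

/-- appending a letter to a normal form, written top first -/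
noncomputable def qins (rows : PcTree) (n lo : ℕ) : ℕ → List ℕ → ℕ → Option (List ℕ)
  | 0, _, _ => none
  | _ + 1, [], a => some [a]
  | k + 1, t :: s, a =>
    bif Nat.blt t a then some (a :: t :: s)
    else bif Nat.ble lo a && Nat.blt t n then
      (rhs rows t a).foldl (fun acc x => acc.bind fun s' => qins rows n lo k s' x) (some s)
    else none

/-- the normal form of a word -/
noncomputable def qcoll (rows : PcTree) (n lo : ℕ) (w : List ℕ) : Option (List ℕ) :=
  w.foldl (fun acc x => acc.bind fun s => qins rows n lo 100 s x) (some [])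

/-- two words with the same normal form -/
noncomputable def qsame (rows : PcTree) (n lo : ℕ) (v w : List ℕ) : Bool :=
  match qcoll rows n lo v, qcoll rows n lo w with
  | some a, some b => a == b
  | _, _ => false

/-- the checks at a letter -/
noncomputable def stepOK (rows : PcTree) (n k : ℕ) : Bool :=
  let m := n - (k + 1)
  let φ := cwd rows k
  let q := rhs rows k k
  q.all (fun a => (Nat.blt k a && Nat.blt a n)) &&
  qsame rows n (k + 1) (q.flatMap φ) q &&
  (List.range m).all fun t' =>
    let t := t' + (k + 1)
    ((rhs rows t k).head? == some k) && (φ t).all (fun a => (Nat.blt k a && Nat.blt a n)) &&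
    qsame rows n (k + 1) (q ++ (φ t).flatMap φ) (t :: q) &&
    (List.range (t' + 1)).all fun i' =>
      let i := i' + (k + 1)
      qsame rows n (k + 1) (φ t ++ φ i) ((rhs rows t i).flatMap φ)

/-- the relations from `lo` on hold -/
def Sat {H : Type*} [Group H] (rows : PcTree) (n lo : ℕ) (L : ℕ → H) : Prop :=
  ∀ t < n, ∀ i ≤ t, lo ≤ i → P L [t, i] = P L (rhs rows t i)

theorem qins_sound {H : Type*} [Group H] {rows : PcTree} {n lo : ℕ} {L : ℕ → H}
    (hL : Sat rows n lo L) : ∀ (k : ℕ) (s : List ℕ) (a : ℕ) (s' : List ℕ),
      qins rows n lo k s a = some s' → P L s.reverse * L a = P L s'.reverse := by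
  intro k
  induction k with
  | zero => intro s a s' h; simp [qins] at h
  | succ k ih =>
    intro s a s' h
    cases s with
    | nil =>
      simp only [qins, Option.some.injEq] at h
      subst h
      simp [P]
    | cons t s =>
      simp only [qins] at h
      simp only [Bool.cond_eq_ite] at h
      split_ifs at h with h1 h2
      · simp only [Option.some.injEq] at h
        subst h
        simp [P, mul_assoc]
      · simp only [Bool.and_eq_true, Nat.blt_eq, Nat.ble_eq] at h1 h2
        have key : ∀ (l : List ℕ) (acc : Option (List ℕ)) (out : List ℕ),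
            l.foldl (fun acc x => acc.bind fun s' => qins rows n lo k s' x) acc = some out →
            ∃ s₀, acc = some s₀ ∧ P L s₀.reverse * P L l = P L out.reverse := by
          intro l
          induction l with
          | nil => intro acc out h; exact ⟨out, h, by rw [P_nil, mul_one]⟩
          | cons x l ihl =>
            intro acc out h
            obtain ⟨s₁, hs₁, e⟩ := ihl _ _ h
            obtain ⟨s₀, rfl, hi⟩ := Option.bind_eq_some_iff.1 hs₁
            exact ⟨s₀, rfl, by rw [P_cons, ← mul_assoc, ih _ _ _ hi, e]⟩
        obtain ⟨s₀, hs₀, e⟩ := key _ _ _ h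
        simp only [Option.some.injEq] at hs₀
        subst hs₀
        rw [← e, ← hL t h2.2 a (not_lt.1 h1) h2.1]
        simp [P, mul_assoc]

theorem qsame_sound {H : Type*} [Group H] {rows : PcTree} {n lo : ℕ} {L : ℕ → H}
    (hL : Sat rows n lo L) {v w : List ℕ} (h : qsame rows n lo v w = true) : P L v = P L w := by
  have hc : ∀ (w out : List ℕ), qcoll rows n lo w = some out → P L w = P L out.reverse := by
    intro w out h
    have key : ∀ (l : List ℕ) (acc : Option (List ℕ)) (out : List ℕ),
        l.foldl (fun acc x => acc.bind fun s' => qins rows n lo 100 s' x) acc = some out →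
        ∃ s₀, acc = some s₀ ∧ P L s₀.reverse * P L l = P L out.reverse := by
      intro l
      induction l with
      | nil => intro acc out h; exact ⟨out, h, by rw [P_nil, mul_one]⟩
      | cons x l ihl =>
        intro acc out h
        obtain ⟨s₁, hs₁, e⟩ := ihl _ _ h
        obtain ⟨s₀, rfl, hi⟩ := Option.bind_eq_some_iff.1 hs₁
        exact ⟨s₀, rfl, by rw [P_cons, ← mul_assoc, qins_sound hL 100 _ _ _ hi, e]⟩
    obtain ⟨s₀, hs₀, e⟩ := key w _ _ h
    simp only [Option.some.injEq] at hs₀
    subst hs₀
    simpa [P] using e
  simp only [qsame] at h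
  split at h
  · rename_i a b ha hb
    simp only [beq_iff_eq] at h
    rw [hc v a ha, hc w b hb, h]
  · exact absurd h (by simp)

/-- the right sides only use later letters -/
structure Shape (rows : PcTree) (n : ℕ) (ok : ℕ → Bool) : Prop where
  sq : ∀ i < n, ok i = true → ∀ a ∈ rhs rows i i, i < a ∧ a < n ∧ ok a = true
  conj : ∀ t < n, ∀ i < t, ok t = true → ok i = true →
    ∃ l, rhs rows t i = i :: l ∧ ∀ a ∈ l, i < a ∧ a < n ∧ ok a = true

/-- the order of a group on letters with relations of this shape -/
theorem card_le_of_shape {H : Type*} [Group H] [Finite H] {rows : PcTree} {n : ℕ} {ok : ℕ → Bool}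
    (hS : Shape rows n ok) (L : ℕ → H)
    (hrel : ∀ t < n, ∀ i ≤ t, ok t = true → ok i = true → P L [t, i] = P L (rhs rows t i)) :
    Nat.card (closure (L '' {i | i < n ∧ ok i = true})) ≤ 2 ^ ((List.range n).filter ok).length := by
  have main : ∀ d ≤ n, Nat.card (closure (L '' {i | n - d ≤ i ∧ i < n ∧ ok i = true})) *
      2 ^ ((List.range (n - d)).filter ok).length ≤ 2 ^ ((List.range n).filter ok).length := by
    intro d
    induction d with
    | zero =>
      intro _
      rw [Nat.sub_zero, show {i | n ≤ i ∧ i < n ∧ ok i = true} = (∅ : Set ℕ) by ext; simp; omega,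
        Set.image_empty, Subgroup.closure_empty, Subgroup.card_bot, one_mul]
    | succ d ih =>
      intro hd
      specialize ih (by omega)
      obtain ⟨j, hj⟩ : ∃ j, n - (d + 1) = j := ⟨_, rfl⟩
      rw [show n - d = j + 1 by omega, List.range_succ, List.filter_append, List.length_append, pow_add] at ih
      rw [hj]
      by_cases hok : ok j = true
      · rw [List.filter_cons, if_pos hok, List.filter_nil, List.length_singleton, pow_one] at ih
        refine le_trans ?_ ih
        rw [show {i | j ≤ i ∧ i < n ∧ ok i = true} = insert j {i | j + 1 ≤ i ∧ i < n ∧ ok i = true} by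
          ext x
          simp only [Set.mem_setOf_eq, Set.mem_insert_iff]
          constructor
          · rintro ⟨h1, h2, h3⟩
            rcases Nat.eq_or_lt_of_le h1 with h | h
            · exact Or.inl h.symm
            · exact Or.inr ⟨h, h2, h3⟩
          · rintro (rfl | ⟨h1, h2, h3⟩)
            · exact ⟨le_rfl, by omega, hok⟩
            · exact ⟨by omega, h2, h3⟩, Set.image_insert_eq]
        rw [mul_comm (2 ^ _) 2, ← mul_assoc, mul_comm _ 2]
        refine Nat.mul_le_mul_right _ (CenSplitStable50.card_step _ _ _ rfl ?_ ?_)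
        · have e := hrel j (by omega) j le_rfl hok hok
          simp only [P_cons, P_nil, mul_one] at e
          rw [e]
          refine Subgroup.list_prod_mem _ fun y hy => ?_
          obtain ⟨a, ha, rfl⟩ := List.mem_map.1 hy
          obtain ⟨h1, h2, h3⟩ := hS.sq j (by omega) hok a ha
          exact subset_closure ⟨a, ⟨h1, h2, h3⟩, rfl⟩
        · rintro _ ⟨t, ⟨ht1, ht2, ht3⟩, rfl⟩
          obtain ⟨l, hl, hlt⟩ := hS.conj t ht2 j (by omega) ht3 hok
          have e := hrel t ht2 j (by omega) ht3 hok
          simp only [hl, P_cons, P_nil, mul_one] at e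
          refine ⟨P L l, Subgroup.list_prod_mem _ fun y hy => ?_, e⟩
          obtain ⟨b, hb, rfl⟩ := List.mem_map.1 hy
          obtain ⟨h1, h2, h3⟩ := hlt b hb
          exact subset_closure ⟨b, ⟨h1, h2, h3⟩, rfl⟩
      · rw [List.filter_cons, if_neg hok, List.filter_nil, List.length_nil, pow_zero, mul_one] at ih
        refine le_trans (le_of_eq ?_) ih
        rw [show {i | j ≤ i ∧ i < n ∧ ok i = true} = {i | j + 1 ≤ i ∧ i < n ∧ ok i = true} by
          ext x
          simp only [Set.mem_setOf_eq]
          constructor
          · rintro ⟨h1, h2, h3⟩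
            rcases Nat.eq_or_lt_of_le h1 with h | h
            · exact absurd h3 (h ▸ hok)
            · exact ⟨h, h2, h3⟩
          · rintro ⟨h1, h2, h3⟩
            exact ⟨by omega, h2, h3⟩]
  have := main n le_rfl
  rw [Nat.sub_self, List.range_zero, List.filter_nil, List.length_nil, pow_zero, mul_one] at this
  simpa using this

/-- checking the shape -/
noncomputable def shapeB (rows : PcTree) (n : ℕ) (ok : ℕ → Bool) : Bool :=
  (List.range n).all fun t => !ok t || (List.range (t + 1)).all fun i => !ok i ||
    (bif Nat.beq i t then (rhs rows i i).all fun a => Nat.blt i a && Nat.blt a n && ok a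
      else match rhs rows t i with
        | [] => false
        | b :: l => Nat.beq b i && l.all fun a => Nat.blt i a && Nat.blt a n && ok a)

theorem shapeB_sound {rows : PcTree} {n : ℕ} {ok : ℕ → Bool} (h : shapeB rows n ok = true) :
    Shape rows n ok := by
  simp only [shapeB, List.all_eq_true, List.mem_range, Bool.or_eq_true, Bool.not_eq_true'] at h
  refine ⟨fun i hi hok a ha => ?_, fun t ht i hit hokt hoki => ?_⟩
  · rcases h i hi with h1 | h1
    · rw [hok] at h1; simp at h1
    rcases h1 i (by omega) with h2 | h2
    · rw [hok] at h2; simp at h2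
    rw [show Nat.beq i i = true by simp] at h2
    simp only [cond_true, List.all_eq_true, Bool.and_eq_true, Nat.blt_eq] at h2
    exact ⟨(h2 a ha).1.1, (h2 a ha).1.2, (h2 a ha).2⟩
  · rcases h t ht with h1 | h1
    · rw [hokt] at h1; simp at h1
    rcases h1 i (by omega) with h2 | h2
    · rw [hoki] at h2; simp at h2
    have hne : Nat.beq i t = false := by
      rw [Bool.eq_false_iff]; intro e; have := Nat.eq_of_beq_eq_true e; omega
    rw [hne, cond_false] at h2
    split at h2
    · simp at h2
    · rename_i b l hl
      simp only [List.all_eq_true, Bool.and_eq_true, Nat.blt_eq] at h2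
      obtain rfl := Nat.eq_of_beq_eq_true h2.1
      exact ⟨l, hl, fun a ha => ⟨(h2.2 a ha).1.1, (h2.2 a ha).1.2, (h2.2 a ha).2⟩⟩

theorem filter_lt (k : ℕ) : ∀ n, ((List.range n).filter fun a => Nat.blt k a).length = n - (k + 1)
  | 0 => by simp
  | n + 1 => by
    rw [List.range_succ, List.filter_append, List.length_append, filter_lt k n, List.filter_cons]
    by_cases h : k < n
    · rw [if_pos (by simpa using h)]; simp; omega
    · rw [if_neg (by simpa using h)]; simp; omega

theorem shape_of {rows : PcTree} {n : ℕ} (h : ∀ k < n, stepOK rows n k = true) :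
    Shape rows n fun _ => true := by
  have hk : ∀ k < n, (∀ a ∈ rhs rows k k, k < a ∧ a < n) ∧ ∀ t, k < t → t < n →
      (rhs rows t k).head? = some k ∧ ∀ a ∈ cwd rows k t, k < a ∧ a < n := by
    intro k hkn
    have hok := h k hkn
    simp only [stepOK, Bool.and_eq_true, List.all_eq_true, List.mem_range, Nat.blt_eq, beq_iff_eq] at hok
    obtain ⟨⟨hq, -⟩, hp⟩ := hok
    refine ⟨hq, fun t h1 h2 => ?_⟩
    obtain ⟨t', rfl⟩ : ∃ t', t = t' + (k + 1) := ⟨t - (k + 1), by omega⟩
    obtain ⟨⟨⟨e1, e2⟩, -⟩, -⟩ := hp t' (by omega)
    exact ⟨e1, e2⟩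
  refine ⟨fun i hi _ a ha => ⟨((hk i hi).1 a ha).1, ((hk i hi).1 a ha).2, rfl⟩,
    fun t ht i hit _ _ => ?_⟩
  obtain ⟨e1, e2⟩ := (hk i (by omega)).2 t hit ht
  unfold cwd at e2
  cases hc : rhs rows t i with
  | nil => rw [hc] at e1; simp at e1
  | cons b l =>
    rw [hc] at e1 e2
    simp only [List.head?_cons, Option.some.injEq] at e1
    exact ⟨l, by rw [e1], fun a ha => ⟨(e2 a ha).1, (e2 a ha).2, rfl⟩⟩

theorem P_flatMap {H : Type*} [Group H] (L : ℕ → H) (φ : ℕ → List ℕ) :
    ∀ w : List ℕ, P L (w.flatMap φ) = P (fun a => P L (φ a)) w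
  | [] => rfl
  | a :: w => by rw [List.flatMap_cons, P_append, P_flatMap L φ w, P_cons]

theorem P_congr {H : Type*} [Group H] {L L' : ℕ → H} : ∀ {w : List ℕ}, (∀ a ∈ w, L a = L' a) → P L w = P L' w
  | [], _ => rfl
  | a :: w, h => by
    rw [P_cons, P_cons, h a List.mem_cons_self, P_congr fun b hb => h b (List.mem_cons_of_mem _ hb)]

/-- the permutation of a letter of the previous group -/
def rho {H : Type} [Group H] (φ : H →* H) : H →* Equiv.Perm (H × Bool) where
  toFun a :=
    { toFun := fun p => (cond p.2 (φ a) a * p.1, p.2)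
      invFun := fun p => ((cond p.2 (φ a) a)⁻¹ * p.1, p.2)
      left_inv := fun p => by simp
      right_inv := fun p => by simp }
  map_one' := by ext ⟨h, b⟩ <;> cases b <;> simp
  map_mul' a b := by
    apply Equiv.ext
    rintro ⟨h, c⟩
    cases c <;> simp [mul_assoc]

/-- the permutation of the new letter -/
def xi {H : Type} [Group H] (q : H) : Equiv.Perm (H × Bool) where
  toFun p := cond p.2 (q * p.1, false) (p.1, true)
  invFun p := cond p.2 (p.1, false) (q⁻¹ * p.1, true)
  left_inv p := by obtain ⟨h, b⟩ := p; cases b <;> simp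
  right_inv p := by obtain ⟨h, b⟩ := p; cases b <;> simp

/-- Consistency gives the group. -/
theorem exists_group (rows : PcTree) (n : ℕ) (h : ∀ k < n, stepOK rows n k = true) :
    ∃ (H : Type) (_ : Group H) (_ : Finite H) (L : ℕ → H),
      Sat rows n 0 L ∧ closure (L '' Set.Iio n) = ⊤ ∧ Nat.card H = 2 ^ n := by
  suffices H : ∀ d ≤ n, ∃ (H : Type) (_ : Group H) (_ : Finite H) (L : ℕ → H),
      Sat rows n (n - d) L ∧ closure (L '' Set.Ico (n - d) n) = ⊤ ∧ Nat.card H = 2 ^ d by
    obtain ⟨H, i1, i2, L, h1, h2, h3⟩ := H n le_rfl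
    rw [Nat.sub_self] at h1 h2
    refine ⟨H, i1, i2, L, h1, ?_, h3⟩
    rwa [show Set.Iio n = Set.Ico 0 n by ext; simp]
  intro d
  induction d with
  | zero =>
    intro _
    refine ⟨PUnit, inferInstance, inferInstance, fun _ => 1, fun t ht i hi hlo => ?_, ?_, by simp⟩
    · exact Subsingleton.elim _ _
    · exact Subsingleton.elim _ _
  | succ d ih =>
    intro hd
    have hSh := shape_of h
    have hgt : ∀ t i, i ≤ t → t < n → ∀ a ∈ rhs rows t i, i ≤ a ∧ a < n := by
      intro t i hit ht a ha
      rcases Nat.eq_or_lt_of_le hit with rfl | hlt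
      · obtain ⟨h1, h2, -⟩ := hSh.sq i ht rfl a ha
        exact ⟨h1.le, h2⟩
      · obtain ⟨l, hl, hlt'⟩ := hSh.conj t ht i hlt rfl rfl
        rw [hl] at ha
        rcases List.mem_cons.1 ha with rfl | ha
        · exact ⟨le_rfl, by omega⟩
        · obtain ⟨h1, h2, -⟩ := hlt' a ha
          exact ⟨h1.le, h2⟩
    obtain ⟨H, i1, i2, L, hL, htop, hcard⟩ := ih (by omega)
    obtain ⟨k, hk⟩ : ∃ k, k = n - (d + 1) := ⟨_, rfl⟩
    rw [show n - d = k + 1 by omega] at hL htop
    rw [← hk]
    have hkn : k < n := by omega
    have hm : n - (k + 1) = d := by omega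
    have hok := h k hkn
    simp only [stepOK, Bool.and_eq_true, List.all_eq_true, List.mem_range, Nat.blt_eq,
      beq_iff_eq] at hok
    obtain ⟨⟨hqlt, hφq⟩, hpairs⟩ := hok
    set φw := cwd rows k with hφw
    set q := P L (rhs rows k k) with hq
    have hpr : ∀ t, k < t → t < n → (rhs rows t k).head? = some k ∧
        (∀ a ∈ φw t, k < a ∧ a < n) ∧
        qsame rows n (k + 1) (rhs rows k k ++ (φw t).flatMap φw) (t :: rhs rows k k) = true ∧
        ∀ i, k < i → i ≤ t → qsame rows n (k + 1) (φw t ++ φw i) ((rhs rows t i).flatMap φw) = true := by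
      intro t h1 h2
      obtain ⟨t', rfl⟩ : ∃ t', t = t' + (k + 1) := ⟨t - (k + 1), by omega⟩
      obtain ⟨⟨⟨e1, e2⟩, e3⟩, e4⟩ := hpairs t' (by omega)
      refine ⟨e1, e2, e3, fun i hi hit => ?_⟩
      obtain ⟨i', rfl⟩ : ∃ i', i = i' + (k + 1) := ⟨i - (k + 1), by omega⟩
      exact e4 i' (by omega)
    -- the automorphism
    obtain ⟨φ, hφ⟩ : ∃ φ : H →* H, ∀ j, k < j → j < n → φ (L j) = P L (φw j) := by
      let y : ℕ → H × H := fun a => (L a, P L (φw a))
      have hy : ∀ w : List ℕ, P y w = (P L w, P L (w.flatMap φw)) := by
        intro w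
        induction w with
        | nil => rfl
        | cons a w ihw => rw [P_cons, ihw, P_cons, List.flatMap_cons, P_append]; rfl
      set T := closure (y '' {i | i < n ∧ Nat.blt k i = true}) with hT
      have hcardT : Nat.card T ≤ 2 ^ d := by
        have hS' : Shape rows n fun a => Nat.blt k a :=
          { sq := fun i hi hok a ha => by
              obtain ⟨h1, h2, -⟩ := hSh.sq i hi rfl a ha
              exact ⟨h1, h2, by simp only [Nat.blt_eq] at hok ⊢; omega⟩
            conj := fun t ht i hit _ hok => by
              obtain ⟨l, hl, hlt⟩ := hSh.conj t ht i hit rfl rfl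
              refine ⟨l, hl, fun a ha => ?_⟩
              obtain ⟨h1, h2, -⟩ := hlt a ha
              exact ⟨h1, h2, by simp only [Nat.blt_eq] at hok ⊢; omega⟩ }
        have := card_le_of_shape hS' y fun t ht i hit _ hi => by
          simp only [Nat.blt_eq] at hi
          rw [hy, hy]
          simp only [List.flatMap_cons, List.flatMap_nil, List.append_nil]
          exact Prod.ext (hL t ht i hit (by omega))
            (qsame_sound hL ((hpr t (by omega) ht).2.2.2 i hi hit))
        rwa [filter_lt, hm] at this
      let π := (MonoidHom.fst H H).comp T.subtype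
      have hsur : Function.Surjective π := by
        rw [← MonoidHom.range_eq_top, eq_top_iff, ← htop, Subgroup.closure_le]
        rintro _ ⟨j, ⟨hj1, hj2⟩, rfl⟩
        exact ⟨⟨y j, subset_closure ⟨j, ⟨hj2, by simp only [Nat.blt_eq]; omega⟩, rfl⟩⟩, rfl⟩
      have hbij : Function.Bijective π :=
        (Nat.bijective_iff_surjective_and_card _).2
          ⟨hsur, le_antisymm (hcardT.trans hcard.ge) (Nat.card_le_card_of_surjective _ hsur)⟩
      let e := MulEquiv.ofBijective π hbij
      refine ⟨((MonoidHom.snd H H).comp T.subtype).comp e.symm.toMonoidHom, fun j hj1 hj2 => ?_⟩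
      have hmem : y j ∈ T := subset_closure ⟨j, ⟨hj2, by simp only [Nat.blt_eq]; exact hj1⟩, rfl⟩
      show (e.symm (L j) : H × H).2 = _
      rw [← show e ⟨_, hmem⟩ = L j from rfl, e.symm_apply_apply]
    have hφP : ∀ w : List ℕ, (∀ a ∈ w, k < a ∧ a < n) → φ (P L w) = P L (w.flatMap φw) := by
      intro w hw
      rw [P_map, P_flatMap]
      exact P_congr fun a ha => hφ a (hw a ha).1 (hw a ha).2
    have hφφq : φ q = q := by
      rw [hq, hφP _ hqlt]
      exact qsame_sound hL hφq
    -- the letters
    let L' : ℕ → Equiv.Perm (H × Bool) := fun j => if j = k then xi q else rho φ (L j)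
    have hP : ∀ w : List ℕ, (∀ a ∈ w, k < a) → P L' w = rho φ (P L w) := by
      intro w hw
      rw [P_map]
      exact P_congr fun a ha => if_neg (by have := hw a ha; omega)
    have hsat : Sat rows n k L' := by
      intro t ht i hit hki
      rcases Nat.eq_or_lt_of_le hki with rfl | hki'
      · rcases Nat.eq_or_lt_of_le hit with rfl | hkt
        · rw [hP _ fun a ha => (hqlt a ha).1]
          apply Equiv.ext
          rintro ⟨x, b⟩
          simp only [P_cons, P_nil, mul_one, L', if_pos, Equiv.Perm.mul_apply]
          cases b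
          · simp [xi, rho, hq]
          · simp only [xi, rho, ← hq]
            simp [hφφq]
        · obtain ⟨e1, e2, e3, -⟩ := hpr t hkt ht
          have hr : rhs rows t k = k :: φw t := by
            rw [hφw, cwd]
            cases hc : rhs rows t k with
            | nil => rw [hc] at e1; simp at e1
            | cons b l =>
              rw [hc] at e1
              simp only [List.head?_cons, Option.some.injEq] at e1
              rw [e1, List.tail_cons]
          have e3' := qsame_sound hL e3
          rw [P_append, ← hφP _ e2, P_cons, ← hq, ← hφ t hkt ht] at e3'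
          rw [hr, P_cons, P_cons, P_cons, P_nil, mul_one, hP _ fun a ha => (e2 a ha).1, ← hφ t hkt ht]
          show L' t * L' k = L' k * _
          rw [show L' t = rho φ (L t) from if_neg (by omega), show L' k = xi q from if_pos rfl]
          apply Equiv.ext
          rintro ⟨x, b⟩
          cases b
          · simp [xi, rho]
          · simp only [Equiv.Perm.mul_apply, xi, rho]
            simp [← mul_assoc, e3']
      · rw [hP _ fun a ha => lt_of_lt_of_le hki' (hgt t i hit ht a ha).1,
          hP _ fun a ha => by simp only [List.mem_cons, List.not_mem_nil, or_false] at ha; omega,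
          hL t ht i hit (by omega)]
    set S := closure (L' '' Set.Ico k n) with hS
    let L'' : ℕ → S := fun j => if hj : j ∈ Set.Ico k n then ⟨L' j, subset_closure ⟨j, hj, rfl⟩⟩ else 1
    have hval : ∀ w : List ℕ, (∀ a ∈ w, k ≤ a ∧ a < n) → ((P L'' w : S) : Equiv.Perm (H × Bool)) = P L' w := by
      intro w hw
      rw [← Subgroup.coe_subtype, P_map]
      exact P_congr fun a ha => by rw [Subgroup.coe_subtype]; simp only [L'', dif_pos (show a ∈ Set.Ico k n from hw a ha)]
    have hsat'' : Sat rows n k L'' := by
      intro t ht i hit hki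
      have hmem : ∀ a ∈ rhs rows t i, k ≤ a ∧ a < n := fun a ha =>
        ⟨le_trans hki (hgt t i hit ht a ha).1, (hgt t i hit ht a ha).2⟩
      apply Subtype.ext
      rw [hval _ (fun a ha => by simp only [List.mem_cons, List.not_mem_nil, or_false] at ha; omega),
        hval _ hmem]
      exact hsat t ht i hit hki
    have htop' : closure (L'' '' Set.Ico k n) = ⊤ := by
      apply Subgroup.map_injective S.subtype_injective
      rw [MonoidHom.map_closure, Set.image_image, ← MonoidHom.range_eq_map, Subgroup.range_subtype]
      exact (congrArg Subgroup.closure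
        (Set.image_congr (g := L') fun j hj => by simp only [Subgroup.coe_subtype, L'', dif_pos hj])).trans hS.symm
    refine ⟨S, inferInstance, inferInstance, L'', hsat'', htop', le_antisymm ?_ ?_⟩
    · have hS' : Shape rows n fun a => Nat.ble k a :=
        { sq := fun i hi hok a ha => by
            obtain ⟨h1, h2, -⟩ := hSh.sq i hi rfl a ha
            exact ⟨h1, h2, by simp only [Nat.ble_eq] at hok ⊢; omega⟩
          conj := fun t ht i hit _ hok => by
            obtain ⟨l, hl, hlt⟩ := hSh.conj t ht i hit rfl rfl
            refine ⟨l, hl, fun a ha => ?_⟩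
            obtain ⟨h1, h2, -⟩ := hlt a ha
            exact ⟨h1, h2, by simp only [Nat.ble_eq] at hok ⊢; omega⟩ }
      have h1 := card_le_of_shape hS' L'' fun t ht i hit _ hi => hsat'' t ht i hit (Nat.le_of_ble_eq_true hi)
      rw [show {i | i < n ∧ Nat.ble k i = true} = Set.Ico k n by
          ext x; simp only [Set.mem_setOf_eq, Set.mem_Ico, Nat.ble_eq]; omega, htop', Subgroup.card_top] at h1
      refine h1.trans (Nat.pow_le_pow_right (by norm_num) ?_)
      have : ∀ N, ((List.range N).filter fun a => Nat.ble k a).length = N - k := by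
        intro N
        induction N with
        | zero => simp
        | succ N ihN =>
          rw [List.range_succ, List.filter_append, List.length_append, ihN, List.filter_cons]
          by_cases h : k ≤ N
          · rw [if_pos (by simpa using h)]; simp; omega
          · rw [if_neg (by simpa using h)]; simp; omega
      rw [this]; omega
    · have hrho : ∀ a : H, rho φ a ∈ S := by
        intro a
        have : a ∈ closure (L '' Set.Ico (k + 1) n) := htop ▸ mem_top a
        refine (closure_le (S.comap (rho φ))).2 ?_ this
        rintro _ ⟨j, hj, rfl⟩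
        simp only [Set.mem_Ico] at hj
        show rho φ (L j) ∈ S
        rw [← show L' j = rho φ (L j) from if_neg (by omega)]
        exact subset_closure ⟨j, by simp only [Set.mem_Ico]; omega, rfl⟩
      have hxi : xi q ∈ S := by
        rw [← show L' k = xi q from if_pos rfl]
        exact subset_closure ⟨k, by simp only [Set.mem_Ico]; omega, rfl⟩
      have := Nat.card_le_card_of_surjective (α := S) (fun g => (g : Equiv.Perm (H × Bool)) (1, false)) (by
        rintro ⟨x, b⟩
        cases b
        · exact ⟨⟨_, hrho x⟩, by simp [rho]⟩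
        · exact ⟨⟨_, mul_mem hxi (hrho x)⟩, by simp [rho, xi]⟩)
      rw [Nat.card_prod, hcard, Nat.card_eq_fintype_card (α := Bool), Fintype.card_bool] at this
      rw [pow_succ]
      exact this

end Cfsg.Agent.PcConsist14
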