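import Mathlib
import Cfsg.Agent.Lib.PearlMaxClass
import Cfsg.Agent.Lib.MaxClassTwo
import Cfsg.Agent.Lib.PGroupsBasic
import Cfsg.Agent.Lib.PGroupsHallPetrescu

/-!
`3`-groups with an element of order `3` whose centralizer has order `9`: subgroups are generated by
two elements, or the group is the wreath product of order `81`.
-/

open Subgroup
open scoped commutatorElement

namespace Cfsg.Agent.PearlThree

local notation "𝓛" => Subgroup.lowerCentralSeries (⊤ : Subgroup _)

section General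

variable {G : Type*} [Group G] {p : ℕ} [hp : Fact p.Prime]

/-- A `p`-group with a centralizer of order `p ^ 2` of one of its elements is two-generated. -/
theorem two_gens [Finite G] {n : ℕ} {h : G} (hG : Nat.card G = p ^ n)
    (hC : Nat.card (centralizer ({h} : Set G)) = p ^ 2) : (frattini G).index ≤ p ^ 2 := by
  have h2 := PearlMaxClass.two_le hG hC
  by_cases hn : n = 2
  · subst hn
    exact hG ▸ Nat.le_of_dvd Nat.card_pos (index_dvd_card _)
  have h := card_mul_index (𝓛 1 : Subgroup G)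
  rw [PearlMaxClass.card_lcs hG hC (by omega) le_rfl (by omega), hG,
    show p ^ n = p ^ (n - 1 - 1) * p ^ 2 by rw [← pow_add]; congr 1; omega] at h
  rw [← Nat.eq_of_mul_eq_mul_left (pow_pos hp.out.pos _) h]
  exact Nat.le_of_dvd (Nat.pos_of_ne_zero index_ne_zero_of_finite)
    (index_dvd_of_le (PGroupsBasic.commutator_le_frattini (IsPGroup.of_card hG)))

theorem mk_commute {N : Subgroup G} [N.Normal] {a b : G} :
    Commute (QuotientGroup.mk' N a) (QuotientGroup.mk' N b) ↔ ⁅a, b⁆ ∈ N := by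
  rw [← commutatorElement_eq_one_iff_commute, ← map_commutatorElement]
  exact QuotientGroup.eq_one_iff _

theorem le_commute {N : Subgroup G} [N.Normal] {A : Subgroup G} {g : G}
    (h : ∀ a ∈ A, ⁅a, g⁆ ∈ N) :
    A ≤ (centralizer ({QuotientGroup.mk' N g} : Set (G ⧸ N))).comap (QuotientGroup.mk' N) :=
  fun a ha => mem_centralizer_singleton_iff.mpr (mk_commute.mpr (h a ha)).eq

theorem mem_of_le_commute {N : Subgroup G} [N.Normal] {A : Subgroup G} {g : G}
    (h : A ≤ (centralizer ({QuotientGroup.mk' N g} : Set (G ⧸ N))).comap (QuotientGroup.mk' N))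
    {a : G} (ha : a ∈ A) : ⁅a, g⁆ ∈ N :=
  mk_commute.mp (mem_centralizer_singleton_iff.mp (h ha))

theorem inv_mem_comm {N : Subgroup G} {a b : G} (h : ⁅a, b⁆ ∈ N) : ⁅b, a⁆ ∈ N := by
  rw [← commutatorElement_inv]; exact inv_mem h

end General

variable {G : Type*} [Group G]

/-- `C_G(L₁ / L₃)`. -/
def gam (G : Type*) [Group G] : Subgroup G :=
  (centralizer (((𝓛 1).map (QuotientGroup.mk' (𝓛 3 : Subgroup G))) : Set (G ⧸ (𝓛 3 : Subgroup G)))).comap
    (QuotientGroup.mk' (𝓛 3 : Subgroup G))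

theorem mem_gam {g : G} : g ∈ gam G ↔ ∀ a ∈ (𝓛 1 : Subgroup G), ⁅g, a⁆ ∈ (𝓛 3 : Subgroup G) := by
  constructor
  · intro hg a ha
    exact mk_commute.mp (mem_centralizer_iff.mp hg _ (mem_map_of_mem _ ha)).symm
  · intro h
    refine mem_centralizer_iff.mpr ?_
    rintro _ ⟨a, ha, rfl⟩
    exact (mk_commute.mpr (h a ha)).eq.symm

theorem lcs_one_le_gam : (𝓛 1 : Subgroup G) ≤ gam G := fun _ hu => mem_gam.mpr fun _ ha =>
  PGroupsHallPetrescu.commutator_lcs_le 1 1 (commutator_mem_commutator hu ha)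

variable [Finite G] {n : ℕ} {x : G} [hp : Fact (Nat.Prime 3)]

section

variable (hG : Nat.card G = 3 ^ n) (hC : Nat.card (centralizer ({x} : Set G)) = 3 ^ 2)
  (hx : x ^ 3 = 1) (hn : 4 ≤ n)

include hG hC hn

theorem exists_exact {i : ℕ} (hi : i + 2 ≤ n) :
    ∃ k ∈ (𝓛 i : Subgroup G), k ∉ (𝓛 (i + 1) : Subgroup G) :=
  SetLike.exists_of_lt (PearlMaxClass.lcs_lt hG hC hi)

theorem lcs_gen {i : ℕ} (hi1 : 1 ≤ i) {k : G} (hk : k ∈ (𝓛 i : Subgroup G))
    (hk' : k ∉ (𝓛 (i + 1) : Subgroup G)) :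
    (𝓛 i : Subgroup G) ≤ zpowers k ⊔ 𝓛 (i + 1) := by
  have hP : IsPGroup 3 G := IsPGroup.of_card hG
  have hin : i + 1 ≤ n - 1 := by
    by_contra h
    rw [PearlMaxClass.lcs_bot hG hC (by omega), mem_bot] at hk
    exact hk' (hk ▸ one_mem _)
  have hle : zpowers k ⊔ 𝓛 (i + 1) ≤ (𝓛 i : Subgroup G) :=
    sup_le (zpowers_le.mpr hk) (Subgroup.lowerCentralSeries_antitone _ (Nat.le_succ i))
  refine (eq_of_le_of_card_ge hle ?_).ge
  obtain ⟨m, hm⟩ := IsPGroup.iff_card.mp (hP.to_subgroup (zpowers k ⊔ 𝓛 (i + 1)))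
  have h : Nat.card (𝓛 (i + 1) : Subgroup G) < Nat.card (zpowers k ⊔ 𝓛 (i + 1) : Subgroup G) :=
    lt_of_le_of_ne (card_le_of_le le_sup_right) fun e =>
      hk' ((eq_of_le_of_card_ge le_sup_right e.ge).ge (mem_sup_left (mem_zpowers k)))
  rw [PearlMaxClass.card_lcs hG hC (by omega) (by omega) hin, hm] at h
  rw [PearlMaxClass.card_lcs hG hC (by omega) hi1 (by omega), hm]
  exact Nat.pow_le_pow_right (by norm_num)
    (by have := (Nat.pow_lt_pow_iff_right (by norm_num : 1 < 3)).mp h; omega)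

theorem exists_pow_mem_gam (g : G) : ∃ i : ℕ, (x ^ i)⁻¹ * g ∈ gam G := by
  obtain ⟨a, ha, ha'⟩ := exists_exact hG hC hn (i := 1) (by omega)
  let N : Subgroup G := 𝓛 3
  let π := QuotientGroup.mk' N
  have hcent : ∀ y : G, ⁅π y, π a⁆ ∈ center (G ⧸ N) := fun y => by
    rw [← map_commutatorElement, mem_center_iff]
    intro t
    obtain ⟨t, rfl⟩ := QuotientGroup.mk'_surjective N t
    refine (mk_commute.mpr (inv_mem_comm ?_)).eq
    exact commutator_mem_commutator (inv_mem_comm (commutator_mem_commutator ha (mem_top y)))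
      (mem_top t)
  have hxa : ⁅x, a⁆ ∈ (𝓛 2 : Subgroup G) := inv_mem_comm (commutator_mem_commutator ha (mem_top x))
  have hxa' : ⁅x, a⁆ ∉ (𝓛 3 : Subgroup G) := fun h =>
    ha' (PearlMaxClass.comm_exact hG hC le_rfl (by omega) ha (inv_mem_comm h))
  have hga : ⁅g, a⁆ ∈ zpowers ⁅x, a⁆ ⊔ 𝓛 3 := lcs_gen hG hC hn (by omega) hxa hxa'
    (inv_mem_comm (commutator_mem_commutator ha (mem_top g)))
  have hle : zpowers ⁅x, a⁆ ⊔ 𝓛 3 ≤ (zpowers ⁅π x, π a⁆).comap π := by
    refine sup_le (zpowers_le.mpr ?_) fun t ht => ?_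
    · rw [mem_comap, map_commutatorElement]
      exact mem_zpowers _
    · rw [mem_comap, show π t = 1 from (QuotientGroup.eq_one_iff t).mpr ht]
      exact one_mem _
  have h := hle hga
  rw [mem_comap, map_commutatorElement] at h
  obtain ⟨i, hi⟩ := (isOfFinOrder_of_finite ⁅π x, π a⁆).mem_powers_iff_mem_zpowers.mpr h
  refine ⟨i, mem_gam.mpr fun b hb => inv_mem_comm ?_⟩
  have key : ⁅π ((x ^ i)⁻¹ * g), π a⁆ = 1 := by
    rw [map_mul, map_inv, map_pow,
      PGroupsBasic.commutatorElement_mul_left_of_central (hcent g),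
      PGroupsBasic.commutatorElement_inv_left_of_central (by rw [← map_pow]; exact hcent _),
      PGroupsBasic.commutatorElement_pow_left (hcent x)]
    simp only [] at hi
    rw [hi, inv_mul_cancel]
  refine mem_of_le_commute ((lcs_gen hG hC hn le_rfl ha ha').trans
    (sup_le (zpowers_le.mpr ?_) (le_commute fun t ht => ?_))) hb
  · exact mem_centralizer_singleton_iff.mpr (commutatorElement_eq_one_iff_mul_comm.mp key).symm
  · exact commutator_mem_commutator ht (mem_top _)

theorem notMem_gam : x ∉ gam G := fun h => by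
  obtain ⟨a, ha, ha'⟩ := exists_exact hG hC hn (i := 1) (by omega)
  exact ha' (PearlMaxClass.comm_exact hG hC le_rfl (by omega) ha (inv_mem_comm (mem_gam.mp h a ha)))

theorem gam_normal : (gam G).Normal := PGroupsBasic.normal_of_commutator_le (lcs_one_le_gam)

include hx in
theorem index_gam : (gam G).index = 3 := by
  have := gam_normal hG hC hn
  have hne : (gam G).index ≠ 1 := fun h =>
    notMem_gam hG hC hn (index_eq_one.mp h ▸ mem_top x)
  have hgen : ∀ q : G ⧸ gam G, q ∈ zpowers (x : G ⧸ gam G) := fun q => by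
    obtain ⟨g, rfl⟩ := QuotientGroup.mk'_surjective (gam G) q
    obtain ⟨i, hi⟩ := exists_pow_mem_gam hG hC hn g
    refine ⟨(i : ℤ), ?_⟩
    show (x : G ⧸ gam G) ^ (i : ℤ) = (g : G ⧸ gam G)
    rw [zpow_natCast, ← QuotientGroup.mk_pow]
    exact QuotientGroup.eq.mpr hi
  have hdvd : (gam G).index ∣ 3 := by
    rw [Subgroup.index_eq_card, ← orderOf_eq_card_of_forall_mem_zpowers hgen]
    refine orderOf_dvd_of_pow_eq_one ?_
    rw [← QuotientGroup.mk_pow, hx]
    rfl
  exact ((Nat.dvd_prime hp.out).mp hdvd).resolve_left hne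

include hx in
theorem card_gam : Nat.card (gam G) = 3 ^ (n - 1) := by
  have h := card_mul_index (gam G)
  rw [index_gam hG hC hx hn, hG, show 3 ^ n = 3 ^ (n - 1) * 3 by
    rw [← pow_succ]; congr 1; omega] at h
  exact Nat.eq_of_mul_eq_mul_right (by norm_num) h

include hx in
/-- `[Γ, L_j] ≤ L_{j+2}`. -/
theorem gam_comm : ∀ j, 1 ≤ j → ∀ g ∈ gam G, ∀ a ∈ (𝓛 j : Subgroup G),
    ⁅g, a⁆ ∈ (𝓛 (j + 2) : Subgroup G) := by
  intro j
  induction j using Nat.strong_induction_on with
  | _ j ih =>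
    intro h1 g hg a ha
    obtain h | h | h : j = 1 ∨ j = 2 ∨ 3 ≤ j := by omega
    · subst h
      exact mem_gam.mp hg a ha
    · subst h
      obtain ⟨a₁, ha₁, ha₁'⟩ := exists_exact hG hC hn (i := 1) (by omega)
      have hgen := lcs_gen hG hC hn le_rfl ha₁ ha₁'
      have h21 : ∀ t ∈ (𝓛 2 : Subgroup G), ∀ u ∈ (𝓛 1 : Subgroup G), ⁅t, u⁆ ∈ (𝓛 4 : Subgroup G) :=
        fun t ht u hu => PGroupsHallPetrescu.commutator_lcs_le 2 1 (commutator_mem_commutator ht hu)
      have h11 : ∀ u ∈ (𝓛 1 : Subgroup G), ⁅u, a₁⁆ ∈ (𝓛 4 : Subgroup G) := fun u hu =>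
        mem_of_le_commute (hgen.trans (sup_le (zpowers_le.mpr
          (mem_centralizer_singleton_iff.mpr rfl)) (le_commute fun t ht => h21 t ht a₁ ha₁))) hu
      have hLL : ⁅(𝓛 1 : Subgroup G), (𝓛 1 : Subgroup G)⁆ ≤ 𝓛 4 := by
        refine commutator_le.mpr fun u hu v hv => inv_mem_comm ?_
        refine mem_of_le_commute (hgen.trans (sup_le (zpowers_le.mpr ?_)
          (le_commute fun t ht => h21 t ht u hu))) hv
        exact mem_centralizer_singleton_iff.mpr (mk_commute.mpr (inv_mem_comm (h11 u hu))).eq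
      have hGL : ⁅(⊤ : Subgroup G), gam G⁆ ≤ 𝓛 1 := by
        rw [Subgroup.top_lowerCentralSeries_one, _root_.commutator_def]
        exact commutator_mono le_rfl le_top
      have hg1 : ⁅gam G, (𝓛 1 : Subgroup G)⁆ ≤ 𝓛 3 :=
        commutator_le.mpr fun u hu v hv => mem_gam.mp hu v hv
      have key : ⁅⁅(𝓛 1 : Subgroup G), (⊤ : Subgroup G)⁆, gam G⁆ ≤ 𝓛 4 :=
        PGroupsHallPetrescu.commutator_rotate_le ((commutator_mono hGL le_rfl).trans hLL)
          (commutator_mono hg1 le_rfl)
      exact inv_mem_comm (key (commutator_mem_commutator ha hg))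
    · obtain ⟨i, rfl⟩ : ∃ i, j = i + 2 := ⟨j - 2, by omega⟩
      by_cases hbig : n - 1 ≤ i + 2
      · rw [PearlMaxClass.lcs_bot hG hC hbig, mem_bot] at ha
        subst ha
        rw [commutatorElement_one_right]
        exact one_mem _
      obtain ⟨k, hk, hk'⟩ := exists_exact hG hC hn (i := i) (by omega)
      obtain ⟨hk3, hk3'⟩ := PearlMaxClass.pow_lcs hG hC (by norm_num) hx (by omega) (n - 1) i
        (by omega) (by omega) k hk
      have hcube : k ^ 3 ∉ (𝓛 (i + 2 + 1) : Subgroup G) := hk3' hk' (by omega)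
      refine inv_mem_comm (mem_of_le_commute ((lcs_gen hG hC hn (by omega) hk3 hcube).trans
        (sup_le (zpowers_le.mpr ?_) (le_commute fun t ht => ?_))) ha)
      · let π := QuotientGroup.mk' (𝓛 (i + 2 + 2) : Subgroup G)
        have hc := ih i (by omega) (by omega) g hg k hk
        have hck : Commute (π ⁅g, k⁆) (π k) := mk_commute.mpr
          (Subgroup.lowerCentralSeries_antitone _ (by omega)
            (PGroupsHallPetrescu.commutator_lcs_le (i + 2) i (commutator_mem_commutator hc hk)))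
        have hc3 : π ⁅g, k⁆ ^ 3 = 1 := by
          rw [← map_pow]
          exact (QuotientGroup.eq_one_iff _).mpr (PearlMaxClass.pow_lcs hG hC (by norm_num) hx
            (by omega) (n - 1) (i + 2) (by omega) (by omega) _ hc).1
        have e : π g * π k ^ 3 * (π g)⁻¹ = π k ^ 3 := by
          rw [← conj_pow, show π g * π k * (π g)⁻¹ = π ⁅g, k⁆ * π k by
            rw [map_commutatorElement, commutatorElement_def]; group, hck.mul_pow, hc3, one_mul]
        refine mem_centralizer_singleton_iff.mpr ?_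
        show π (k ^ 3) * π g = π g * π (k ^ 3)
        rw [map_pow]
        exact (mul_inv_eq_iff_eq_mul.mp e).symm
      · exact Subgroup.lowerCentralSeries_antitone _ (by omega : i + 2 + 2 ≤ i + 2 + 1 + 1)
          (commutator_mem_commutator ht (mem_top g) : ⁅t, g⁆ ∈ (𝓛 (i + 2 + 1 + 1) : Subgroup G))

include hx in
theorem sup_zpowers_eq_top {h : G} (hh : h ∉ gam G) : gam G ⊔ zpowers h = ⊤ :=
  (PGroupsBasic.isCoatom_of_index_eq (index_gam hG hC hx hn)).2 _
    (lt_of_le_of_ne le_sup_left fun e => hh (e.ge (mem_sup_right (mem_zpowers h))))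

theorem centralizer_inf_gam :
    centralizer ({x} : Set G) ⊓ gam G = (𝓛 (n - 2) : Subgroup G) := by
  have hle : (𝓛 (n - 2) : Subgroup G) ≤ centralizer ({x} : Set G) ⊓ gam G := by
    rw [← PearlMaxClass.centralizer_inf hG hC (by omega)]
    exact inf_le_inf_left _ lcs_one_le_gam
  refine (eq_of_le_of_card_ge hle ?_).symm
  rw [PearlMaxClass.card_lcs hG hC (by omega) (by omega) (by omega),
    show n - 1 - (n - 2) = 1 by omega]
  obtain ⟨k, hk⟩ := IsPGroup.iff_card.mp
    ((IsPGroup.of_card hG).to_subgroup (centralizer ({x} : Set G) ⊓ gam G))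
  have hlt : Nat.card (centralizer ({x} : Set G) ⊓ gam G : Subgroup G) < 3 ^ 2 := by
    rw [← hC]
    refine lt_of_le_of_ne (card_le_of_le inf_le_left) fun e => notMem_gam hG hC hn ?_
    exact ((eq_of_le_of_card_ge inf_le_left e.ge).ge (mem_centralizer_singleton_iff.mpr rfl)).2
  rw [hk] at hlt ⊢
  have := (Nat.pow_lt_pow_iff_right (by norm_num : 1 < 3)).mp hlt
  exact Nat.pow_le_pow_right (by norm_num) (by omega)

theorem comm_exact_gam {a : G} (ha : a ∈ gam G) (hc : ⁅a, x⁆ ∈ (𝓛 2 : Subgroup G)) :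
    a ∈ (𝓛 1 : Subgroup G) := by
  obtain ⟨b, hb, e⟩ := PearlMaxClass.surj_comm hG hC (𝓛 1) (𝓛 2)
    (fun c hc => commutator_mem_commutator hc (mem_top x)) (by
      rw [PearlMaxClass.centralizer_inf hG hC (by omega),
        PearlMaxClass.card_lcs hG hC (by omega) (by omega) (by omega),
        PearlMaxClass.card_lcs hG hC (by omega) (by omega) (by omega),
        PearlMaxClass.card_lcs hG hC (by omega) (by omega) (by omega), ← pow_add,
        show n - 1 - 2 + (n - 1 - (n - 2)) = n - 1 - 1 by omega]) hc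
  have hmem : b⁻¹ * a ∈ centralizer ({x} : Set G) ⊓ gam G := by
    refine ⟨mem_centralizer_singleton_iff.mpr ?_,
      (gam G).mul_mem ((gam G).inv_mem (lcs_one_le_gam hb)) ha⟩
    rw [commutatorElement_def, commutatorElement_def, mul_left_inj] at e
    calc b⁻¹ * a * x = b⁻¹ * (a * x * a⁻¹) * a := by group
      _ = b⁻¹ * (b * x * b⁻¹) * a := by rw [e]
      _ = x * (b⁻¹ * a) := by group
  rw [centralizer_inf_gam hG hC hn] at hmem
  have h2 : b⁻¹ * a ∈ (𝓛 1 : Subgroup G) := Subgroup.lowerCentralSeries_antitone _ (by omega) hmem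
  simpa using mul_mem hb h2

include hx in
/-- Outside `Γ` centralizers have order at most `9`. -/
theorem card_centralizer_le {h : G} (hh : h ∉ gam G) :
    Nat.card (centralizer ({h} : Set G)) ≤ 3 ^ 2 := by
  have hsup := sup_zpowers_eq_top hG hC hx hn hh
  -- inside `L₁`
  have hin : centralizer ({h} : Set G) ⊓ 𝓛 1 ≤ (𝓛 (n - 2) : Subgroup G) := by
    have key : ∀ j, 1 ≤ j → j ≤ n - 3 → ∀ c ∈ (𝓛 j : Subgroup G),
        c ∈ centralizer ({h} : Set G) → c ∈ (𝓛 (j + 1) : Subgroup G) := by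
      intro j h1 hj c hc hch
      refine PearlMaxClass.comm_exact hG hC h1 (by omega) hc (inv_mem_comm ?_)
      refine mem_of_le_commute (A := gam G ⊔ zpowers h) (sup_le
        (le_commute fun t ht => gam_comm hG hC hx hn j h1 t ht c hc) (zpowers_le.mpr ?_))
        (hsup ▸ mem_top x)
      refine mem_centralizer_singleton_iff.mpr ?_
      rw [← map_mul, ← map_mul, mem_centralizer_singleton_iff.mp hch]
    intro c hc
    have : ∀ i, 1 + i ≤ n - 2 → c ∈ (𝓛 (1 + i) : Subgroup G) := by
      intro i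
      induction i with
      | zero => exact fun _ => hc.2
      | succ i ih => exact fun hi => key (1 + i) (by omega) (by omega) c (ih (by omega)) hc.1
    have := this (n - 3) (by omega)
    rwa [show 1 + (n - 3) = n - 2 by omega] at this
  -- inside `Γ`
  have hgam : centralizer ({h} : Set G) ⊓ gam G ≤ 𝓛 1 := by
    intro g hg
    by_contra hg1
    refine hg1 (comm_exact_gam hG hC hn hg.2 (inv_mem_comm ?_))
    have hle : zpowers g ⊔ 𝓛 1 = gam G := by
      refine eq_of_le_of_card_ge (sup_le (zpowers_le.mpr hg.2) lcs_one_le_gam) ?_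
      obtain ⟨m, hm⟩ := IsPGroup.iff_card.mp ((IsPGroup.of_card hG).to_subgroup (zpowers g ⊔ 𝓛 1))
      have hlt : Nat.card (𝓛 1 : Subgroup G) < Nat.card (zpowers g ⊔ 𝓛 1 : Subgroup G) :=
        lt_of_le_of_ne (card_le_of_le le_sup_right) fun e =>
          hg1 ((eq_of_le_of_card_ge le_sup_right e.ge).ge (mem_sup_left (mem_zpowers g)))
      rw [hm, PearlMaxClass.card_lcs hG hC (by omega) le_rfl (by omega)] at hlt
      rw [hm, card_gam hG hC hx hn]
      exact Nat.pow_le_pow_right (by norm_num)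
        (by have := (Nat.pow_lt_pow_iff_right (by norm_num : 1 < 3)).mp hlt; omega)
    refine mem_of_le_commute (A := zpowers g ⊔ 𝓛 1 ⊔ zpowers h) (sup_le (sup_le (zpowers_le.mpr ?_)
      (le_commute fun t ht => commutator_mem_commutator ht (mem_top g))) (zpowers_le.mpr ?_))
      (by rw [hle, hsup]; exact mem_top x)
    · exact mem_centralizer_singleton_iff.mpr rfl
    · refine mem_centralizer_singleton_iff.mpr ?_
      rw [← map_mul, ← map_mul, mem_centralizer_singleton_iff.mp hg.1]
  have hcard : Nat.card (centralizer ({h} : Set G) ⊓ gam G : Subgroup G) ≤ 3 := by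
    refine (card_le_of_le ((le_inf inf_le_left hgam).trans hin)).trans ?_
    rw [PearlMaxClass.card_lcs hG hC (by omega) (by omega) (by omega),
      show n - 1 - (n - 2) = 1 by omega, pow_one]
  have hrel := relIndex_le_of_le_right (H := gam G)
    (le_top : centralizer ({h} : Set G) ≤ ⊤) (by rw [relIndex_top_right]; exact index_ne_zero_of_finite)
  rw [relIndex_top_right, index_gam hG hC hx hn, ← inf_relIndex_right] at hrel
  have h2 := relIndex_mul_relIndex (⊥ : Subgroup G) _ _ bot_le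
    (inf_le_right : gam G ⊓ centralizer ({h} : Set G) ≤ centralizer ({h} : Set G))
  rw [relIndex_bot_left, relIndex_bot_left] at h2
  rw [← h2]
  calc Nat.card (gam G ⊓ centralizer ({h} : Set G) : Subgroup G) *
        (gam G ⊓ centralizer ({h} : Set G)).relIndex (centralizer ({h} : Set G))
      ≤ 3 * 3 := Nat.mul_le_mul (by rw [inf_comm]; exact hcard) hrel
    _ = 3 ^ 2 := by norm_num

include hx in
/-- Cubes of elements of `Γ ∖ L₁` for order at least `3 ^ 5`. -/
theorem cube_gam (h5 : 5 ≤ n) {a : G} (ha : a ∈ gam G) (ha' : a ∉ (𝓛 1 : Subgroup G)) :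
    a ^ 3 ∈ (𝓛 2 : Subgroup G) ∧ a ^ 3 ∉ (𝓛 3 : Subgroup G) := by
  let N : Subgroup G := 𝓛 3
  let π := QuotientGroup.mk' N
  let c := ⁅a, x⁆
  let d := ⁅c, x⁆
  have hc : c ∈ (𝓛 1 : Subgroup G) := commutator_mem_commutator (mem_top a) (mem_top x)
  have hd : d ∈ (𝓛 2 : Subgroup G) := commutator_mem_commutator hc (mem_top x)
  have hd' : d ∉ (𝓛 3 : Subgroup G) := fun h =>
    ha' (comm_exact_gam hG hC hn ha (PearlMaxClass.comm_exact hG hC le_rfl (by omega) hc h))
  have hax : a * x ∉ gam G := fun h =>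
    notMem_gam hG hC hn (((gam G).mul_mem_cancel_left ha).mp h)
  have hax3 : (a * x) ^ 3 ∈ N := by
    have := gam_normal hG hC hn
    have h1 : (a * x) ^ 3 ∈ gam G := by
      have := (gam G).pow_index_mem (a * x)
      rwa [index_gam hG hC hx hn] at this
    have h2 : (a * x) ^ 3 ∈ centralizer ({a * x} : Set G) :=
      mem_centralizer_singleton_iff.mpr ((Commute.refl (a * x)).pow_left 3).eq
    -- the centralizer of `a * x` meets `Γ` in the centre
    by_contra hN
    obtain ⟨k, hk⟩ := IsPGroup.iff_card.mp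
      ((IsPGroup.of_card hG).to_subgroup (centralizer ({a * x} : Set G) ⊓ gam G))
    have hlt : Nat.card (centralizer ({a * x} : Set G) ⊓ gam G : Subgroup G) < 3 ^ 2 := by
      refine lt_of_lt_of_le ?_ (card_centralizer_le hG hC hx hn hax)
      exact lt_of_le_of_ne (card_le_of_le inf_le_left) fun e =>
        hax ((eq_of_le_of_card_ge inf_le_left e.ge).ge (mem_centralizer_singleton_iff.mpr rfl)).2
    have hZle : (𝓛 (n - 2) : Subgroup G) ≤ centralizer ({a * x} : Set G) ⊓ gam G := by
      refine le_inf (fun z hz => mem_centralizer_singleton_iff.mpr ?_)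
        ((Subgroup.lowerCentralSeries_antitone _ (by omega)).trans lcs_one_le_gam)
      have h : ⁅z, a * x⁆ ∈ (𝓛 (n - 2 + 1) : Subgroup G) :=
        commutator_mem_commutator hz (mem_top _)
      rw [PearlMaxClass.lcs_bot hG hC (by omega), mem_bot] at h
      exact commutatorElement_eq_one_iff_mul_comm.mp h
    rw [hk] at hlt
    have hk1 : k ≤ 1 := by have := (Nat.pow_lt_pow_iff_right (by norm_num : 1 < 3)).mp hlt; omega
    have e := eq_of_le_of_card_ge hZle (by
      rw [hk, PearlMaxClass.card_lcs hG hC (by omega) (by omega) (by omega),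
        show n - 1 - (n - 2) = 1 by omega]
      exact Nat.pow_le_pow_right (by norm_num) hk1)
    exact hN (Subgroup.lowerCentralSeries_antitone _ (by omega) (e.ge ⟨h2, h1⟩))
  have hac : Commute (π a) (π c) := mk_commute.mpr (mem_gam.mp ha c hc)
  have hdc : ∀ t : G, Commute (π d) (π t) := fun t =>
    mk_commute.mpr (commutator_mem_commutator hd (mem_top t))
  have hc3 : π c ^ 3 = 1 := by
    rw [← map_pow]
    exact (QuotientGroup.eq_one_iff _).mpr
      (PearlMaxClass.pow_lcs hG hC (by norm_num) hx (by omega) (n - 1) 1 (by omega) le_rfl c hc).1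
  have hX3 : π x ^ 3 = 1 := by rw [← map_pow, hx, map_one]
  have h0 : (π a * π x) ^ 3 = 1 := by
    rw [← map_mul, ← map_pow]; exact (QuotientGroup.eq_one_iff _).mpr hax3
  have e1 : π x * π a * (π x)⁻¹ = (π c)⁻¹ * π a := by
    rw [show π c = ⁅π a, π x⁆ from map_commutatorElement π a x, commutatorElement_def]; group
  have e2 : π x * π c * (π x)⁻¹ = (π d)⁻¹ * π c := by
    rw [show π d = ⁅π c, π x⁆ from map_commutatorElement π c x, commutatorElement_def]; group
  have e3 : π x * π x * π a * (π x)⁻¹ * (π x)⁻¹ = (π c)⁻¹ * π d * ((π c)⁻¹ * π a) := by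
    calc π x * π x * π a * (π x)⁻¹ * (π x)⁻¹ = π x * (π x * π a * (π x)⁻¹) * (π x)⁻¹ := by group
      _ = π x * ((π c)⁻¹ * π a) * (π x)⁻¹ := by rw [e1]
      _ = (π x * π c * (π x)⁻¹)⁻¹ * (π x * π a * (π x)⁻¹) := by group
      _ = ((π d)⁻¹ * π c)⁻¹ * ((π c)⁻¹ * π a) := by rw [e1, e2]
      _ = _ := by rw [mul_inv_rev, inv_inv]
  have h1 : π a ^ 3 * π d = 1 := by
    calc π a ^ 3 * π d = π a ^ 3 * (π c ^ 3)⁻¹ * π d := by rw [hc3, inv_one, mul_one]
      _ = π a * ((π c)⁻¹ * π a) * ((π c)⁻¹ * π d * ((π c)⁻¹ * π a)) := by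
        have hA : Commute (π a) (π c)⁻¹ := hac.inv_right
        have hD : Commute (π d) (π a) := hdc a
        have hD2 : Commute (π d) (π c)⁻¹ := (hdc c).inv_right
        simp only [pow_succ, pow_zero, one_mul, mul_inv_rev, mul_assoc, hA.eq, hA.left_comm,
          hD.eq, hD.left_comm, hD2.eq, hD2.left_comm]
      _ = π a * (π x * π a * (π x)⁻¹) * (π x * π x * π a * (π x)⁻¹ * (π x)⁻¹) * π x ^ 3 := by
        rw [e1, e3, hX3, mul_one]
      _ = (π a * π x) ^ 3 := by simp only [pow_succ, pow_zero, one_mul]; group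
      _ = 1 := h0
  have h2 : a ^ 3 * d ∈ N := by
    rw [← QuotientGroup.eq_one_iff, ← QuotientGroup.mk'_apply, map_mul, map_pow]
    exact h1
  refine ⟨((𝓛 2 : Subgroup G).mul_mem_cancel_right hd).mp
    (Subgroup.lowerCentralSeries_antitone _ (by omega : 2 ≤ 3) h2), fun h => hd' ?_⟩
  exact ((𝓛 3 : Subgroup G).mul_mem_cancel_left h).mp h2

include hx in
theorem gens_of_not_le {H : Subgroup G} (hH : ¬ H ≤ gam G) :
    ∃ T : Finset G, T.card ≤ 2 ∧ closure (T : Set G) = H := by
  obtain ⟨h, hhH, hh⟩ := SetLike.not_le_iff_exists.mp hH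
  have hP : IsPGroup 3 H := (IsPGroup.of_card hG).to_subgroup H
  let h' : H := ⟨h, hhH⟩
  have hmem : ∀ t : H, t ∈ centralizer ({h'} : Set H) → (t : G) ∈ centralizer ({h} : Set G) :=
    fun t ht => mem_centralizer_singleton_iff.mpr
      (congrArg Subtype.val (mem_centralizer_singleton_iff.mp ht))
  have hle : Nat.card (centralizer ({h'} : Set H)) ≤ 3 ^ 2 := by
    refine le_trans ?_ (card_centralizer_le hG hC hx hn hh)
    exact Nat.card_le_card_of_injective
      (fun t : centralizer ({h'} : Set H) => (⟨((t : H) : G), hmem t t.2⟩ : centralizer ({h} : Set G)))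
      fun a b e => Subtype.ext (Subtype.ext (congrArg (fun u : centralizer ({h} : Set G) => (u : G)) e))
  refine PearlMaxClass.exists_gens hP ?_
  obtain ⟨m, hm⟩ := IsPGroup.iff_card.mp hP
  obtain ⟨k, hk⟩ := IsPGroup.iff_card.mp (hP.to_subgroup (centralizer ({h'} : Set H)))
  rw [hk] at hle
  obtain h2 | h2 : k = 2 ∨ k ≤ 1 := by
    have := (Nat.pow_le_pow_iff_right (by norm_num : 1 < 3)).mp hle; omega
  · exact two_gens hm (h2 ▸ hk)
  have hne : h' ≠ 1 := fun e => hh (by
    rw [show h = 1 from congrArg Subtype.val e]; exact one_mem _)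
  have hz : zpowers h' = centralizer ({h'} : Set H) := by
    refine eq_of_le_of_card_ge (zpowers_le.mpr (mem_centralizer_singleton_iff.mpr rfl)) ?_
    rw [hk, Nat.card_zpowers]
    obtain ⟨l, hl⟩ := IsPGroup.iff_orderOf.mp hP h'
    rw [hl]
    refine Nat.pow_le_pow_right (by norm_num) (le_trans h2 (Nat.one_le_iff_ne_zero.mpr fun h0 => hne ?_))
    rw [h0, pow_zero, orderOf_eq_one_iff] at hl
    exact hl
  have htop : centralizer ({h'} : Set H) = ⊤ := by
    have : Nontrivial H := ⟨h', 1, hne⟩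
    have hc1 : 1 < Nat.card (center H) := by
      have := hP.center_nontrivial
      exact Finite.one_lt_card
    obtain ⟨l, hl⟩ := IsPGroup.iff_card.mp (hP.to_subgroup (center H))
    rw [hl] at hc1
    have hl1 : 1 ≤ l := Nat.one_le_iff_ne_zero.mpr fun h0 => by simp [h0] at hc1
    have e : center H = centralizer ({h'} : Set H) :=
      eq_of_le_of_card_ge (center_le_centralizer _) (by
        rw [hk, hl]; exact Nat.pow_le_pow_right (by norm_num) (by omega))
    have hc : h' ∈ center H := e.ge (mem_centralizer_singleton_iff.mpr rfl)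
    exact eq_top_iff.mpr fun t _ =>
      mem_centralizer_singleton_iff.mpr (mem_center_iff.mp hc t)
  calc (frattini H).index ≤ Nat.card H := Nat.le_of_dvd Nat.card_pos (index_dvd_card _)
    _ = 3 ^ k := by rw [← hk, htop, card_top]
    _ ≤ 3 ^ 2 := Nat.pow_le_pow_right (by norm_num) (by omega)

include hx in
theorem gens_of_le (h5 : 5 ≤ n) {H : Subgroup G} (hH : H ≤ gam G) :
    ∃ T : Finset G, T.card ≤ 2 ∧ closure (T : Set G) = H := by
  have hP : IsPGroup 3 G := IsPGroup.of_card hG
  by_cases h1 : H ≤ 𝓛 1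
  · exact PearlMaxClass.exists_gens (hP.to_subgroup H)
      (PearlMaxClass.index_frattini_le hG hC (by norm_num) hx (by omega) h1)
  obtain ⟨a, haH, ha⟩ := SetLike.not_le_iff_exists.mp h1
  obtain ⟨ha2, ha3⟩ := cube_gam hG hC hx hn h5 (hH haH) ha
  refine PearlMaxClass.exists_gens (hP.to_subgroup H) ?_
  let F : Subgroup G := (frattini H).map H.subtype
  let K : Subgroup G := H ⊓ 𝓛 1
  have hK : Nat.card K ≤ 3 ^ 2 * Nat.card (F ⊓ 𝓛 3 : Subgroup G) := by
    have hidx := PearlMaxClass.index_frattini_le hG hC (by norm_num) hx (by omega)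
      (inf_le_right : K ≤ 𝓛 1)
    have hKH : ∀ t ∈ K, t ∈ H := fun t ht => ht.1
    have hcomm : commutator K ≤ (F ⊓ 𝓛 3).subgroupOf K := by
      rw [_root_.commutator_def, commutator_le]
      intro u _ v _
      refine mem_inf.mpr ⟨⟨⁅(⟨u, hKH _ u.2⟩ : H), ⟨v, hKH _ v.2⟩⁆,
        PGroupsBasic.commutator_le_frattini (hP.to_subgroup H)
          (commutator_mem_commutator (mem_top _) (mem_top _)), rfl⟩, ?_⟩
      exact PGroupsHallPetrescu.commutator_lcs_le 1 1 (commutator_mem_commutator u.2.2 v.2.2)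
    have : ((F ⊓ 𝓛 3).subgroupOf K).Normal := PGroupsBasic.normal_of_commutator_le hcomm
    have hfr : frattini K ≤ (F ⊓ 𝓛 3).subgroupOf K :=
      PGroupsBasic.frattini_le_of_elementary_quotient (p := 3) hcomm fun t => mem_inf.mpr
        ⟨⟨(⟨t, hKH _ t.2⟩ : H) ^ 3, PGroupsBasic.pow_mem_frattini (hP.to_subgroup H) _, rfl⟩,
          (PearlMaxClass.pow_lcs hG hC (by norm_num) hx (by omega) (n - 1) 1 (by omega) le_rfl
            _ t.2.2).1⟩
    calc Nat.card K = Nat.card (frattini K) * (frattini K).index := (card_mul_index _).symm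
      _ ≤ Nat.card ((F ⊓ 𝓛 3).subgroupOf K) * 3 ^ 2 :=
        Nat.mul_le_mul (card_le_of_le hfr) hidx
      _ ≤ Nat.card (F ⊓ 𝓛 3 : Subgroup G) * 3 ^ 2 := by
        refine Nat.mul_le_mul_right _ (Nat.card_le_card_of_injective
          (fun t : (F ⊓ 𝓛 3).subgroupOf K => (⟨((t : K) : G), t.2⟩ : (F ⊓ 𝓛 3 : Subgroup G)))
          fun a b e => Subtype.ext (Subtype.ext
            (congrArg (fun u : (F ⊓ 𝓛 3 : Subgroup G) => (u : G)) e)))
      _ = _ := mul_comm _ _
  have hF : Nat.card (F ⊓ 𝓛 3 : Subgroup G) * 3 ≤ Nat.card F := by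
    obtain ⟨u, hu⟩ := IsPGroup.iff_card.mp (hP.to_subgroup (F ⊓ 𝓛 3))
    obtain ⟨v, hv⟩ := IsPGroup.iff_card.mp (hP.to_subgroup F)
    have hlt : Nat.card (F ⊓ 𝓛 3 : Subgroup G) < Nat.card F :=
      lt_of_le_of_ne (card_le_of_le inf_le_left) fun e =>
        ha3 ((eq_of_le_of_card_ge inf_le_left e.ge).ge
          (⟨⟨a, haH⟩ ^ 3, PGroupsBasic.pow_mem_frattini (hP.to_subgroup H) _, rfl⟩ :
            a ^ 3 ∈ F)).2
    rw [hu, hv] at hlt ⊢
    rw [← pow_succ]
    exact Nat.pow_le_pow_right (by norm_num) ((Nat.pow_lt_pow_iff_right (by norm_num : 1 < 3)).mp hlt)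
  have hrel : (𝓛 1 : Subgroup G).relIndex H ≤ 3 := by
    refine (relIndex_le_of_le_right hH index_ne_zero_of_finite).trans ?_
    have h := relIndex_mul_relIndex (⊥ : Subgroup G) _ _ bot_le (lcs_one_le_gam (G := G))
    rw [relIndex_bot_left, relIndex_bot_left, card_gam hG hC hx hn,
      PearlMaxClass.card_lcs hG hC (by omega) le_rfl (by omega),
      show 3 ^ (n - 1) = 3 ^ (n - 1 - 1) * 3 by rw [← pow_succ]; congr 1; omega] at h
    exact (Nat.eq_of_mul_eq_mul_left (pow_pos (by norm_num) _) h).le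
  have hsplit : Nat.card H ≤ Nat.card K * 3 := by
    have h := relIndex_mul_relIndex (⊥ : Subgroup G) _ _ bot_le (inf_le_left : K ≤ H)
    rw [relIndex_bot_left, relIndex_bot_left,
      show K.relIndex H = (𝓛 1 : Subgroup G).relIndex H by
        show (H ⊓ 𝓛 1).relIndex H = _
        rw [inf_comm, inf_relIndex_right]] at h
    rw [← h]
    exact Nat.mul_le_mul_left _ hrel
  have h2 : Nat.card H ≤ 3 ^ 2 * Nat.card F :=
    calc Nat.card H ≤ Nat.card K * 3 := hsplit
      _ ≤ 3 ^ 2 * Nat.card (F ⊓ 𝓛 3 : Subgroup G) * 3 := Nat.mul_le_mul_right _ hK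
      _ ≤ 3 ^ 2 * Nat.card F := by rw [mul_assoc]; exact Nat.mul_le_mul_left _ hF
  rw [← card_mul_index (frattini H), mul_comm] at h2
  refine Nat.le_of_mul_le_mul_right ?_ (Nat.card_pos (α := frattini H))
  rwa [show Nat.card F = Nat.card (frattini H) from
    card_map_of_injective H.subtype_injective] at h2

include hx in
/-- Order `81`. -/
theorem four_cases (h4 : n = 4) :
    (∀ H : Subgroup G, ∃ T : Finset G, T.card ≤ 2 ∧ closure (T : Set G) = H) ∨
      ∃ K : Subgroup G, Nat.card K = 9 ∧ K.normalCore = ⊥ := by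
  subst h4
  have hP : IsPGroup 3 G := IsPGroup.of_card hG
  have hL3 : (𝓛 3 : Subgroup G) = ⊥ := PearlMaxClass.lcs_bot hG hC (by omega)
  obtain ⟨a, ha, ha'⟩ : ∃ a ∈ gam G, a ∉ (𝓛 1 : Subgroup G) := by
    refine SetLike.not_le_iff_exists.mp fun h => ?_
    have h1 := card_le_of_le h
    rw [card_gam hG hC hx hn, PearlMaxClass.card_lcs hG hC (by omega) le_rfl (by omega)] at h1
    norm_num at h1
  have hgen : zpowers a ⊔ 𝓛 1 = gam G := by
    refine eq_of_le_of_card_ge (sup_le (zpowers_le.mpr ha) lcs_one_le_gam) ?_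
    obtain ⟨m, hm⟩ := IsPGroup.iff_card.mp (hP.to_subgroup (zpowers a ⊔ 𝓛 1))
    have hlt : Nat.card (𝓛 1 : Subgroup G) < Nat.card (zpowers a ⊔ 𝓛 1 : Subgroup G) :=
      lt_of_le_of_ne (card_le_of_le le_sup_right) fun e =>
        ha' ((eq_of_le_of_card_ge le_sup_right e.ge).ge (mem_sup_left (mem_zpowers a)))
    rw [hm, PearlMaxClass.card_lcs hG hC (by omega) le_rfl (by omega)] at hlt
    rw [hm, card_gam hG hC hx hn]
    exact Nat.pow_le_pow_right (by norm_num)
      (by have := (Nat.pow_lt_pow_iff_right (by norm_num : 1 < 3)).mp hlt; omega)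
  have hab : ∀ u ∈ gam G, ∀ v ∈ gam G, u * v = v * u := by
    have h1 : ∀ u ∈ gam G, ∀ v ∈ (𝓛 1 : Subgroup G), u * v = v * u := fun u hu v hv => by
      have h := mem_gam.mp hu v hv
      rw [hL3, mem_bot] at h
      exact commutatorElement_eq_one_iff_mul_comm.mp h
    intro u hu v hv
    have hua : u * a = a * u := by
      have hle : gam G ≤ centralizer ({a} : Set G) := by
        rw [← hgen]
        exact sup_le (zpowers_le.mpr (mem_centralizer_singleton_iff.mpr rfl))
          fun t ht => mem_centralizer_singleton_iff.mpr (h1 a ha t ht).symm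
      exact mem_centralizer_singleton_iff.mp (hle hu)
    have hle : gam G ≤ centralizer ({u} : Set G) := by
      rw [← hgen]
      exact sup_le (zpowers_le.mpr (mem_centralizer_singleton_iff.mpr hua.symm))
        fun t ht => mem_centralizer_singleton_iff.mpr (h1 u hu t ht).symm
    exact (mem_centralizer_singleton_iff.mp (hle hv)).symm
  by_cases hexp : ∀ u ∈ gam G, u ^ 3 = 1
  · right
    obtain ⟨c, hc, hc'⟩ := exists_exact hG hC hn (i := 1) (by omega)
    let K : Subgroup G := zpowers a ⊔ zpowers c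
    have ho : ∀ u ∈ gam G, Nat.card (zpowers u) ≤ 3 := fun u hu => by
      rw [Nat.card_zpowers]
      exact Nat.le_of_dvd (by norm_num) (orderOf_dvd_of_pow_eq_one (hexp u hu))
    have hK9 : Nat.card K ≤ 9 := by
      let f := (zpowers a).subtype.noncommCoprod (zpowers c).subtype (fun u v =>
        hab u (zpowers_le.mpr ha u.2) v (zpowers_le.mpr (lcs_one_le_gam hc) v.2))
      have hr : f.range = K := by
        refine (MonoidHom.noncommCoprod_range _ _ _).trans ?_
        rw [range_subtype, range_subtype]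
      rw [← hr]
      refine (Nat.card_le_card_of_surjective _ f.rangeRestrict_surjective).trans ?_
      rw [Nat.card_prod]
      exact Nat.mul_le_mul (ho a ha) (ho c (lcs_one_le_gam hc))
    have hsupK : (𝓛 2 : Subgroup G) ⊔ K = gam G := by
      refine le_antisymm (sup_le ((Subgroup.lowerCentralSeries_antitone _ (by omega)).trans
        lcs_one_le_gam) (sup_le (zpowers_le.mpr ha) (zpowers_le.mpr (lcs_one_le_gam hc)))) ?_
      rw [← hgen]
      refine sup_le (le_sup_of_le_right le_sup_left) ((lcs_gen hG hC hn le_rfl hc hc').trans ?_)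
      exact sup_le (le_sup_of_le_right le_sup_right) le_sup_left
    have hL2 : Nat.card (𝓛 2 : Subgroup G) = 3 := by
      rw [PearlMaxClass.card_lcs hG hC (by omega) (by omega) (by omega)]
      norm_num
    have hinf : (𝓛 2 : Subgroup G) ⊓ K = ⊥ := by
      refine (PGroupsBasic.le_or_inf_eq_bot hL2 (K := K)).resolve_left fun h => ?_
      have := card_le_of_le (hsupK.ge.trans (sup_le h le_rfl))
      rw [card_gam hG hC hx hn] at this
      norm_num at this
      omega
    refine ⟨K, le_antisymm hK9 ?_, ?_⟩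
    · have h := PGroupsBasic.card_sup_of_normal hinf
      rw [hsupK, card_gam hG hC hx hn, hL2] at h
      norm_num at h
      omega
    · by_contra hne
      refine PGroupsBasic.inf_center_ne_bot hP hne (le_bot_iff.mp ?_)
      have hcl := PearlMaxClass.class_eq hG hC
      obtain ⟨hZ, -, -, -⟩ := MaxClassTwo.center_of_maxClass (p := 3) (by norm_num) hG hcl
      have hle : (𝓛 2 : Subgroup G) ≤ center G := fun z hz => mem_center_iff.mpr fun g => by
        have h : ⁅z, g⁆ ∈ (𝓛 3 : Subgroup G) := commutator_mem_commutator hz (mem_top g)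
        rw [hL3, mem_bot] at h
        exact (commutatorElement_eq_one_iff_mul_comm.mp h).symm
      have e := eq_of_le_of_card_ge hle (by rw [hZ, hL2])
      calc K.normalCore ⊓ center G ≤ 𝓛 2 ⊓ K :=
            le_inf (inf_le_right.trans e.ge) (inf_le_left.trans (normalCore_le K))
        _ = ⊥ := hinf
  · left
    intro H
    by_cases hH : H ≤ gam G
    swap
    · exact gens_of_not_le hG hC hx hn hH
    refine PearlMaxClass.exists_gens (hP.to_subgroup H) ?_
    by_cases he : H = gam G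
    · subst he
      obtain ⟨u, hu, hu3⟩ : ∃ u ∈ gam G, u ^ 3 ≠ 1 := by push Not at hexp; exact hexp
      have hne : frattini (gam G) ≠ ⊥ := fun h => hu3 (congrArg Subtype.val
        (PGroupsBasic.pow_eq_one_of_frattini_eq_bot (hP.to_subgroup _) h ⟨u, hu⟩))
      have h := card_mul_index (frattini (gam G))
      rw [card_gam hG hC hx hn] at h
      obtain ⟨v, hv⟩ := IsPGroup.iff_card.mp ((hP.to_subgroup (gam G)).to_subgroup (frattini (gam G)))
      have hv1 : 1 ≤ v := Nat.one_le_iff_ne_zero.mpr fun h0 =>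
        hne (eq_bot_of_card_eq _ (hv.trans (by rw [h0, pow_zero])))
      refine Nat.le_of_mul_le_mul_left ?_ (show 0 < 3 by norm_num)
      calc 3 * (frattini (gam G)).index ≤ Nat.card (frattini (gam G)) * (frattini (gam G)).index :=
            Nat.mul_le_mul_right _ (hv ▸ Nat.le_self_pow (by omega) 3)
        _ = 3 * 3 ^ 2 := by rw [h]; norm_num
    · refine le_trans (Nat.le_of_dvd Nat.card_pos (index_dvd_card _)) ?_
      obtain ⟨m, hm⟩ := IsPGroup.iff_card.mp (hP.to_subgroup H)
      have hlt : Nat.card H < Nat.card (gam G) :=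
        lt_of_le_of_ne (card_le_of_le hH) fun e => he (eq_of_le_of_card_ge hH e.ge)
      rw [card_gam hG hC hx hn, hm] at hlt
      rw [hm]
      exact Nat.pow_le_pow_right (by norm_num)
        (by have := (Nat.pow_lt_pow_iff_right (by norm_num : 1 < 3)).mp hlt; omega)

include hx in
/-- The classification of the sectional rank for `p = 3`. -/
theorem main :
    (∀ H : Subgroup G, ∃ T : Finset G, T.card ≤ 2 ∧ closure (T : Set G) = H) ∨
      (n = 4 ∧ ∃ K : Subgroup G, Nat.card K = 9 ∧ K.normalCore = ⊥) := by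
  obtain h4 | h5 : n = 4 ∨ 5 ≤ n := by omega
  · exact (four_cases hG hC hx hn h4).imp_right fun h => ⟨h4, h⟩
  · refine Or.inl fun H => ?_
    by_cases hH : H ≤ gam G
    · exact gens_of_le hG hC hx hn h5 hH
    · exact gens_of_not_le hG hC hx hn hH

end

/-- A group of order `81` with a core-free subgroup of index `9` is a Sylow subgroup of `S₉`. -/
theorem exists_sylow_iso (hG : Nat.card G = 81) {K : Subgroup G} (hK : Nat.card K = 9)
    (hcore : K.normalCore = ⊥) :
    ∃ W : Sylow 3 (Equiv.Perm (Fin 9)), Nonempty (G ≃* (W : Subgroup (Equiv.Perm (Fin 9)))) := by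
  have hidx : Nat.card (G ⧸ K) = 9 := by
    have h := card_mul_index K
    rw [hK, hG] at h
    rw [← index_eq_card]
    omega
  let e : G ⧸ K ≃ Fin 9 := Finite.equivFinOfCardEq hidx
  let f : G →* Equiv.Perm (Fin 9) :=
    e.permCongrHom.toMonoidHom.comp (MulAction.toPermHom G (G ⧸ K))
  have hinj : Function.Injective f := by
    refine e.permCongrHom.injective.comp ?_
    rw [← MonoidHom.ker_eq_bot_iff, ← normalCore_eq_ker, hcore]
  have hcard : Nat.card f.range = 3 ^ (Nat.card (Equiv.Perm (Fin 9))).factorization 3 := by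
    rw [Nat.card_congr (MonoidHom.ofInjective hinj).toEquiv.symm, hG, Nat.card_perm, Nat.card_fin,
      show (9 : ℕ) = 3 ^ 2 from rfl,
      ← Nat.multiplicity_eq_factorization hp.out (3 ^ 2).factorial_ne_zero,
      Nat.Prime.multiplicity_factorial_pow hp.out]
    rfl
  exact ⟨Sylow.ofCard f.range hcard, ⟨MonoidHom.ofInjective hinj⟩⟩

end Cfsg.Agent.PearlThree
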