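import Cfsg.Agent.Lib.PermMultiTrans
import Cfsg.Agent.Lib.PermMinimalNormal

/-!
Burnside's theorem on minimal normal subgroups of 2-transitive groups, with elementary proof.
-/

set_option autoImplicit false

open MulAction
open scoped Pointwise

namespace Cfsg.Agent.PermBurnside

universe u v

variable {G : Type u} [Group G] [Finite G] {X : Type v} [MulAction G X] [Finite X]
  [FaithfulSMul G X]

omit [FaithfulSMul G X] in
/-- In a transitive group with trivial two-point stabilizers there are exactly `n - 1`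
derangements. -/
theorem card_derangements [IsPretransitive G X] [FaithfulSMul G X] (hn : 2 ≤ Nat.card X)
    (h2 : ∀ a b : X, a ≠ b → ∀ g : G, g • a = a → g • b = b → g = 1) :
    Nat.card {g : G // ∀ a : X, g • a ≠ a} = Nat.card X - 1 := by
  classical
  have := Fintype.ofFinite G
  have := Fintype.ofFinite X
  have : Nonempty X := (Nat.card_pos_iff.1 (by omega)).1
  have hB := MulAction.sum_card_fixedBy_eq_card_orbits_mul_card_group G X
  have h1 : Fintype.card (Quotient (orbitRel G X)) = 1 := by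
    have : Subsingleton (Quotient (orbitRel G X)) :=
      (MulAction.pretransitive_iff_subsingleton_quotient G X).1 ‹_›
    rw [Fintype.card_eq_one_iff]
    exact ⟨⟦Classical.arbitrary X⟧, fun _ => Subsingleton.elim _ _⟩
  rw [h1, one_mul] at hB
  set D := Finset.univ.filter fun g : G => ∀ a : X, g • a ≠ a with hD
  have hval : ∀ g : G, Fintype.card (fixedBy X g) + (if g ∈ D then 1 else 0) =
      1 + if g = 1 then Fintype.card X - 1 else 0 := by
    intro g
    by_cases hg : g = 1
    · subst hg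
      rw [Fintype.card_congr (Equiv.subtypeUnivEquiv (p := fun x => x ∈ fixedBy X (1 : G))
        (fun x => by simp)), if_neg (by simp [hD]), if_pos rfl]
      have := Fintype.card_pos (α := X)
      omega
    · rw [if_neg hg, add_zero]
      by_cases hgD : g ∈ D
      · rw [if_pos hgD]
        have hnone := (Finset.mem_filter.1 hgD).2
        rw [(Fintype.card_eq_zero_iff (α := fixedBy X g)).2 ⟨fun x => hnone x.1 x.2⟩]
      · rw [if_neg hgD, add_zero]
        have hex : ∃ a : X, g • a = a := by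
          by_contra h
          exact hgD (Finset.mem_filter.2 ⟨Finset.mem_univ _, fun a ha => h ⟨a, ha⟩⟩)
        obtain ⟨a, ha⟩ := hex
        rw [Fintype.card_eq_one_iff]
        refine ⟨⟨a, ha⟩, fun b => ?_⟩
        by_contra hne
        exact hg (h2 b a (fun h => hne (Subtype.ext h)) g b.2 ha)
  have hsum := Finset.sum_congr rfl fun g (_ : g ∈ Finset.univ) => hval g
  rw [Finset.sum_add_distrib, Finset.sum_add_distrib, hB, Finset.sum_const,
    Finset.sum_ite_eq' Finset.univ (1 : G) fun _ => Fintype.card X - 1] at hsum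
  simp only [Finset.sum_ite_mem, Finset.univ_inter, Finset.sum_const, smul_eq_mul, mul_one,
    Finset.mem_univ, if_true, Finset.card_univ] at hsum
  rw [Nat.card_eq_fintype_card, Fintype.card_subtype, Nat.card_eq_fintype_card]
  change D.card = _
  omega

/-- A transitive normal subgroup with trivial two-point stabilizers of a 2-transitive group
contains a non-trivial normal p-subgroup of the whole group. -/
theorem exists_normal_pSubgroup [IsMultiplyPretransitive G X 2] (hn : 2 ≤ Nat.card X)
    (N : Subgroup G) [N.Normal] [IsPretransitive N X]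
    (h2 : ∀ a b : X, a ≠ b → ∀ g ∈ N, g • a = a → g • b = b → g = 1) :
    ∃ (p : ℕ) (P : Subgroup G), p.Prime ∧ P.Normal ∧ P ≤ N ∧ P ≠ ⊥ ∧ IsPGroup p P := by
  classical
  have : Nonempty X := (Nat.card_pos_iff.1 (by omega)).1
  let a : X := Classical.arbitrary X
  let D : Type u := {g : N // ∀ x : X, g • x ≠ x}
  have hDcard : Nat.card D = Nat.card X - 1 :=
    card_derangements (G := N) hn fun x y hxy g hx hy => Subtype.ext (h2 x y hxy g g.2 hx hy)
  -- the derangements form one class
  have hclass : ∀ d e : D, ∃ g : G, g * (d.1 : G) * g⁻¹ = (e.1 : G) := by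
    intro d
    have hconj : ∀ g : G, ∀ x : X, (g * (d.1 : G) * g⁻¹) • x ≠ x := by
      intro g x h
      rw [mul_smul, mul_smul] at h
      exact d.2 (g⁻¹ • x) (eq_inv_smul_iff.2 h)
    let S : Set D := {e | ∃ g : G, g * (d.1 : G) * g⁻¹ = (e.1 : G)}
    let F : S → {x : X // x ≠ a} := fun e => ⟨(e.1.1 : G) • a, e.1.2 a⟩
    have hF : Function.Surjective F := by
      rintro ⟨b, hb⟩
      obtain ⟨g, hga, hgb⟩ := PermMultiTrans.exists_smul_two (G := G)
        (a := a) (b := (d.1 : G) • a) (c := a) (d := b) (fun h => d.2 a h.symm) (Ne.symm hb)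
      refine ⟨⟨⟨⟨g * (d.1 : G) * g⁻¹, Subgroup.Normal.conj_mem ‹_› _ d.1.2 g⟩, hconj g⟩, g, rfl⟩, ?_⟩
      apply Subtype.ext
      change (g * (d.1 : G) * g⁻¹) • a = b
      rw [PermBasic.conj_smul_eq hga, hgb]
    have hle := Nat.card_le_card_of_surjective F hF
    have hXa : Nat.card {x : X // x ≠ a} = Nat.card X - 1 := by
      have := Fintype.ofFinite X
      simp [Nat.card_eq_fintype_card, Fintype.card_subtype_compl]
    rw [hXa, ← hDcard, Nat.card_coe_set_eq] at hle
    have : S = Set.univ := by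
      refine Set.eq_of_subset_of_ncard_le (Set.subset_univ _) ?_
      rwa [Set.ncard_univ]
    intro e
    exact (this ▸ Set.mem_univ e : e ∈ S)
  -- an element of prime order dividing the degree has no fixed point
  have hder : ∀ q : ℕ, q.Prime → q ∣ Nat.card X → ∀ g : N, orderOf g = q → ∀ x : X, g • x ≠ x := by
    intro q hq hqn g hg x hx
    have : Fact q.Prime := ⟨hq⟩
    have hP : IsPGroup q (Subgroup.zpowers g) :=
      IsPGroup.of_card (n := 1) (by rw [Nat.card_zpowers, hg, pow_one])
    have hmod := hP.card_modEq_card_fixedPoints X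
    have hfix : fixedPoints (Subgroup.zpowers g) X = {x} := by
      ext y
      constructor
      · intro hy
        by_contra hne
        have : (g : G) = 1 := h2 y x hne g g.2 (hy ⟨g, Subgroup.mem_zpowers g⟩) hx
        rw [← Subgroup.orderOf_coe, this, orderOf_one] at hg
        exact hq.one_lt.ne hg
      · rintro rfl ⟨h, hh⟩
        obtain ⟨k, rfl⟩ := Subgroup.mem_zpowers_iff.1 hh
        change g ^ k ∈ stabilizer N y
        exact zpow_mem (show g ∈ stabilizer N y from hx) k
    rw [hfix, Nat.card_coe_set_eq, Set.ncard_singleton] at hmod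
    have h0 : Nat.card X ≡ 0 [MOD q] := Nat.modEq_zero_iff_dvd.2 hqn
    exact hq.one_lt.ne' (Nat.dvd_one.1 (Nat.modEq_zero_iff_dvd.1 (hmod.symm.trans h0)))
  obtain ⟨p, hp, hpn⟩ := Nat.exists_prime_and_dvd (by omega : Nat.card X ≠ 1)
  have : Fact p.Prime := ⟨hp⟩
  have hXN : Nat.card X ∣ Nat.card N := PermBasic.card_dvd_of_transitive
  obtain ⟨d₀, hd₀⟩ := exists_prime_orderOf_dvd_card' p (hpn.trans hXN)
  let d : D := ⟨d₀, hder p hp hpn d₀ hd₀⟩
  have hord : ∀ e : D, orderOf e.1 = p := by
    intro e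
    obtain ⟨g, hg⟩ := hclass d e
    rw [← Subgroup.orderOf_coe, ← hg, ← MulAut.conj_apply, MulEquiv.orderOf_eq,
      Subgroup.orderOf_coe, hd₀]
  have hpow : ∃ f, Nat.card X = p ^ f := by
    refine ⟨_, Nat.eq_prime_pow_of_unique_prime_dvd (by omega) fun {q} hq hqn => ?_⟩
    have : Fact q.Prime := ⟨hq⟩
    obtain ⟨g, hg⟩ := exists_prime_orderOf_dvd_card' q (hqn.trans hXN)
    rw [← hg, hord ⟨g, hder q hq hqn g hg⟩]
  obtain ⟨f, hf⟩ := hpow
  obtain ⟨P⟩ : Nonempty (Sylow p N) := inferInstance
  have hPD : ∀ g ∈ (P : Subgroup N), g ≠ 1 → ∀ x : X, g • x ≠ x := by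
    intro g hg hg1 x hx
    obtain ⟨k, hk⟩ := IsPGroup.iff_orderOf.1 P.2 ⟨g, hg⟩
    rw [Subgroup.orderOf_mk] at hk
    have hk0 : k ≠ 0 := by
      rintro rfl
      rw [pow_zero, orderOf_eq_one_iff] at hk
      exact hg1 hk
    have hpg : p ∣ orderOf g := hk ▸ dvd_pow_self p hk0
    have h4 : orderOf (g ^ (orderOf g / p)) = p :=
      orderOf_pow_orderOf_div (orderOf_pos g).ne' hpg
    refine hder p hp hpn _ h4 x ?_
    exact (Subgroup.pow_mem _ (show g ∈ stabilizer N x from hx) _ : g ^ (orderOf g / p) ∈ stabilizer N x)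
  have hPle : Nat.card X ≤ Nat.card P := by
    apply Nat.le_of_dvd Nat.card_pos
    rw [hf] at hXN ⊢
    rw [P.card_eq_multiplicity]
    exact pow_dvd_pow p ((hp.pow_dvd_iff_le_factorization Nat.card_pos.ne').1 hXN)
  let F : {g : (P : Subgroup N) // g ≠ 1} → D := fun g =>
    ⟨g.1.1, hPD g.1.1 g.1.2 fun h => g.2 (Subtype.ext h)⟩
  have hF : Function.Injective F := fun g g' h =>
    Subtype.ext (Subtype.ext (congrArg (fun e : D => e.1) h))
  have hFs : Function.Bijective F := by
    refine hF.bijective_of_nat_card_le ?_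
    rw [hDcard]
    have := Fintype.ofFinite (P : Subgroup N)
    have h1 : Nat.card {g : (P : Subgroup N) // g ≠ 1} = Nat.card (P : Subgroup N) - 1 := by
      simp [Nat.card_eq_fintype_card, Fintype.card_subtype_compl]
    rw [h1]
    exact Nat.sub_le_sub_right hPle 1
  refine ⟨p, (P : Subgroup N).map N.subtype, hp, ⟨?_⟩, Subgroup.map_subtype_le _, ?_, P.2.map _⟩
  · rintro _ ⟨g, hg, rfl⟩ c
    by_cases hg1 : g = 1
    · subst hg1; simp
    · have hmem : c * (g : G) * c⁻¹ ∈ N := Subgroup.Normal.conj_mem ‹_› _ g.2 c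
      have hD' : ∀ x : X, (⟨_, hmem⟩ : N) • x ≠ x := by
        intro x h
        change (c * (g : G) * c⁻¹) • x = x at h
        rw [mul_smul, mul_smul] at h
        exact hPD g hg hg1 (c⁻¹ • x) (eq_inv_smul_iff.2 h)
      obtain ⟨⟨g', _⟩, hg'⟩ := hFs.2 ⟨_, hD'⟩
      exact ⟨g'.1, g'.2, congrArg (fun e : D => (e.1 : G)) hg'⟩
  · rw [Ne, Subgroup.map_eq_bot_iff_of_injective _ N.subtype_injective]
    intro h
    rw [h, Subgroup.card_bot] at hPle
    omega

omit [Finite G] in
/-- An imprimitive transitive normal subgroup of a 2-transitive group has trivial two-point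
stabilizers. -/
theorem eq_one_of_fix_two [IsMultiplyPretransitive G X 2] (N : Subgroup G) [N.Normal]
    [IsPretransitive N X] (hN : ¬ IsPreprimitive N X) {a b : X} (hab : a ≠ b) {h : G}
    (hh : h ∈ N) (ha : h • a = a) (hb : h • b = b) : h = 1 := by
  classical
  have hex : ∃ n, ∃ B : Set X, IsBlock N B ∧ B.Nontrivial ∧ B ≠ Set.univ ∧ B.ncard = n := by
    by_contra hc
    push Not at hc
    apply hN
    refine { isTrivialBlock_of_isBlock := fun {B} hB => ?_ }
    by_contra hne
    simp only [IsTrivialBlock, not_or, Set.not_subsingleton_iff] at hne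
    exact hc _ B hB hne.1 hne.2 rfl
  obtain ⟨Δ, hΔ, hΔnt, hΔu, hΔc⟩ := Nat.find_spec hex
  have hline : ∀ g : G, IsBlock N (g • Δ) := by
    intro g
    rw [MulAction.isBlock_iff_smul_eq_or_disjoint]
    intro n
    have hmem : g⁻¹ * (n : G) * g ∈ N := by
      simpa using Subgroup.Normal.conj_mem ‹N.Normal› _ n.2 g⁻¹
    have he : n • (g • Δ) = g • ((⟨_, hmem⟩ : N) • Δ) := by
      simp only [Subgroup.smul_def, smul_smul]
      group
    rw [he]
    rcases (MulAction.isBlock_iff_smul_eq_or_disjoint.1 hΔ) ⟨_, hmem⟩ with h' | h'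
    · exact Or.inl (by rw [h'])
    · exact Or.inr ((Set.disjoint_image_iff (MulAction.injective g)).2 h')
  have huniq : ∀ g g' : G, ∀ x y : X, x ≠ y → x ∈ g • Δ → y ∈ g • Δ → x ∈ g' • Δ →
      y ∈ g' • Δ → g • Δ = g' • Δ := by
    intro g g' x y hxy h1 h2 h3 h4
    have hi : (g • Δ ∩ g' • Δ).Nontrivial := ⟨x, ⟨h1, h3⟩, y, ⟨h2, h4⟩, hxy⟩
    have hle : Δ.ncard ≤ (g • Δ ∩ g' • Δ).ncard := by
      rw [hΔc]
      refine Nat.find_min' hex ⟨_, (hline g).inter (hline g'), hi, ?_, rfl⟩
      intro hu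
      have : g • Δ = Set.univ := Set.eq_univ_of_univ_subset (hu ▸ Set.inter_subset_left)
      exact hΔu (by
        have := congrArg (g⁻¹ • ·) this
        simpa using this)
    have e1 := Set.eq_of_subset_of_ncard_le (Set.inter_subset_left)
      (by rwa [Set.ncard_smul_set] : (g • Δ).ncard ≤ (g • Δ ∩ g' • Δ).ncard)
    have e2 := Set.eq_of_subset_of_ncard_le (Set.inter_subset_right)
      (by rwa [Set.ncard_smul_set] : (g' • Δ).ncard ≤ (g • Δ ∩ g' • Δ).ncard)
    exact e1.symm.trans e2
  obtain ⟨u, hu, w, hw, huw⟩ := hΔnt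
  have hpair : ∀ x y : X, x ≠ y → ∃ g : G, x ∈ g • Δ ∧ y ∈ g • Δ := by
    intro x y hxy
    obtain ⟨g, rfl, rfl⟩ := PermMultiTrans.exists_smul_two (G := G) huw hxy
    exact ⟨g, Set.smul_mem_smul_set hu, Set.smul_mem_smul_set hw⟩
  have hstab : ∀ g : G, ∀ x : X, x ∈ g • Δ → h • x = x → h • (g • Δ) = g • Δ := by
    intro g x hx hfix
    have := (hline g).smul_eq_of_nonempty (g := (⟨h, hh⟩ : N))
      ⟨x, ⟨x, hx, hfix⟩, hx⟩
    exact this
  -- fixed points `x`, `y`: any point off their line is fixed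
  have key : ∀ g : G, ∀ x y z : X, x ≠ y → h • x = x → h • y = y → x ∈ g • Δ → y ∈ g • Δ →
      z ∉ g • Δ → h • z = z := by
    intro g x y z hxy hx hy hxg hyg hz
    by_contra hne
    have hxz : x ≠ z := fun e => hz (e ▸ hxg)
    have hyz : y ≠ z := fun e => hz (e ▸ hyg)
    obtain ⟨g₁, h1x, h1z⟩ := hpair x z hxz
    obtain ⟨g₂, h2y, h2z⟩ := hpair y z hyz
    have m1 : h • z ∈ g₁ • Δ := hstab g₁ x h1x hx ▸ Set.smul_mem_smul_set h1z
    have m2 : h • z ∈ g₂ • Δ := hstab g₂ y h2y hy ▸ Set.smul_mem_smul_set h2z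
    have e := huniq g₁ g₂ z (h • z) (Ne.symm hne) h1z m1 h2z m2
    have e' := huniq g g₁ x y hxy hxg hyg h1x (e.symm ▸ h2y)
    exact hz (e'.symm ▸ h1z)
  obtain ⟨g, hag, hbg⟩ := hpair a b hab
  obtain ⟨c, hc⟩ : ∃ c, c ∉ g • Δ := by
    rw [← Set.ne_univ_iff_exists_notMem]
    intro hu'
    exact hΔu (by
      have := congrArg (g⁻¹ • ·) hu'
      simpa using this)
  have hcfix := key g a b c hab ha hb hag hbg hc
  refine eq_of_smul_eq_smul fun z : X => ?_
  rw [one_smul]
  by_cases hz : z ∈ g • Δ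
  · by_cases hza : z = a
    · rw [hza, ha]
    have hac : a ≠ c := fun e => hc (e ▸ hag)
    obtain ⟨g₁, h1a, h1c⟩ := hpair a c hac
    refine key g₁ a c z hac ha hcfix h1a h1c fun hz1 => ?_
    exact hc ((huniq g g₁ a z (Ne.symm hza) hag hz h1a hz1).symm ▸ h1c)
  · exact key g a b z hab ha hb hag hbg hz

/-- Burnside's theorem: a minimal normal subgroup of a finite 2-transitive group is abelian and
regular, or simple and primitive. -/
theorem minNormal_of_twoTransitive [IsMultiplyPretransitive G X 2] (hn : 2 ≤ Nat.card X)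
    {N : Subgroup G} (hN : PermMinimalNormal.IsMinNormal N) :
    (IsMulCommutative N ∧ ∀ a : X, stabilizer N a = ⊥) ∨
      (¬ IsMulCommutative N ∧ IsSimpleGroup N ∧ IsPreprimitive N X) := by
  classical
  have := hN.1
  have : Nonempty X := (Nat.card_pos_iff.1 (by omega)).1
  have : IsPreprimitive G X := isPreprimitive_of_is_two_pretransitive ‹_›
  have : IsPretransitive N X := PermBasic.isPretransitive_of_normal N hN.2.1
  have : Nontrivial N := (Subgroup.nontrivial_iff_ne_bot N).2 hN.2.1
  by_cases hab : IsMulCommutative N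
  · exact Or.inl ⟨hab, fun a => PermBasic.stabilizer_eq_bot_of_abelian N hab a⟩
  refine Or.inr ⟨hab, ?_⟩
  have noP : ∀ p : ℕ, p.Prime → ¬ IsPGroup p N := by
    intro p hp hP
    have : Fact p.Prime := ⟨hp⟩
    apply hab
    have hz : (Subgroup.center N).map N.subtype ≠ ⊥ := by
      rw [Ne, Subgroup.map_eq_bot_iff_of_injective _ N.subtype_injective]
      exact (Subgroup.nontrivial_iff_ne_bot _).1 hP.center_nontrivial
    rcases hN.2.2 _ inferInstance (Subgroup.map_subtype_le (Subgroup.center N)) with h | h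
    · exact absurd h hz
    · constructor
      constructor
      intro x y
      obtain ⟨z, hzc, hzx⟩ := (h.symm ▸ x.2 : (x : G) ∈ (Subgroup.center N).map N.subtype)
      obtain rfl : z = x := Subtype.ext hzx
      exact ((Subgroup.mem_center_iff.1 hzc) y).symm
  have hprim : IsPreprimitive N X := by
    by_contra hnp
    obtain ⟨p, P, hp, hPn, hPN, hP1, hPp⟩ := exists_normal_pSubgroup (G := G) hn N
      fun a b hne g hg ha hb => eq_one_of_fix_two N hnp hne hg ha hb
    rcases hN.2.2 P hPn hPN with h | h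
    · exact hP1 h
    · exact noP p hp (h ▸ hPp)
  refine ⟨?_, hprim⟩
  by_contra hns
  obtain ⟨M, -, hM⟩ := PermMinimalNormal.exists_isMinNormal_le (G := N) ⊤ top_ne_bot
  -- `M` is not normal in the whole group
  have hne : ∃ g : G, M.map (MulAut.conjNormal (H := N) g).toMonoidHom ≠ M := by
    by_contra hc
    push Not at hc
    have hMn : (M.map N.subtype).Normal := ⟨by
      rintro _ ⟨x, hx, rfl⟩ g
      have hmem : MulAut.conjNormal (H := N) g x ∈ M := by
        rw [← hc g]; exact Subgroup.mem_map_of_mem _ hx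
      exact ⟨_, hmem, by simp⟩⟩
    rcases hN.2.2 _ hMn (Subgroup.map_subtype_le M) with h | h
    · rw [Subgroup.map_eq_bot_iff_of_injective _ N.subtype_injective] at h
      exact hM.2.1 h
    · have hMtop : M = ⊤ := by
        apply Subgroup.map_injective N.subtype_injective
        rw [h, ← MonoidHom.range_eq_map, Subgroup.range_subtype]
      refine hns ⟨fun K hK => ?_⟩
      rcases hM.2.2 K hK (hMtop ▸ le_top) with h' | h'
      · exact Or.inl h'
      · exact Or.inr (h'.trans hMtop)
  obtain ⟨g₀, hg₀⟩ := hne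
  set L := M.map (MulAut.conjNormal (H := N) g₀).toMonoidHom with hLdef
  have hL : PermMinimalNormal.IsMinNormal L := hM.map_mulEquiv _
  obtain ⟨hMt, hLt, hCM, -, hMnab⟩ :=
    PermMinimalNormal.primitive_two_minNormal (X := X) hM hL (Ne.symm hg₀)
  have htwo : ∀ K : Subgroup N, PermMinimalNormal.IsMinNormal K → K = M ∨ K = L := by
    intro K hK
    by_cases hKM : K = M
    · exact Or.inl hKM
    · have := (PermMinimalNormal.primitive_two_minNormal (X := X) hM hK (Ne.symm hKM)).2.2.1
      exact Or.inr (this.symm.trans hCM)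
  have hcomm : ∀ x ∈ M, ∀ y ∈ L, x * y = y * x := fun x hx y hy =>
    (Subgroup.mem_centralizer_iff.1 ((hCM.symm ▸ hy : y ∈ Subgroup.centralizer (M : Set N)))) x hx
  have hLreg : ∀ x : X, stabilizer L x = ⊥ :=
    PermMinimalNormal.stabilizer_eq_bot_of_commuting M L hcomm
  have hMreg : ∀ x : X, stabilizer M x = ⊥ :=
    PermMinimalNormal.stabilizer_eq_bot_of_commuting L M fun x hx y hy => (hcomm y hy x hx).symm
  let a : X := Classical.arbitrary X
  have hsame : ∀ x y : N, x ∈ M → y ∈ L → x • a = y • a → orderOf x = orderOf y := by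
    intro x y hx hy h
    have hc : Commute x y := hcomm x hx y hy
    have hpow : ∀ k : ℕ, (x ^ k) • a = (y ^ k) • a := by
      intro k
      induction k with
      | zero => simp
      | succ k ih =>
        calc (x ^ (k + 1)) • a = x ^ k • (x • a) := by rw [pow_succ, mul_smul]
          _ = x ^ k • (y • a) := by rw [h]
          _ = y • (x ^ k • a) := by rw [← mul_smul, (hc.pow_left k).eq, mul_smul]
          _ = (y ^ (k + 1)) • a := by rw [ih, ← mul_smul, pow_succ']
    refine orderOf_eq_orderOf_iff.2 fun k => ?_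
    constructor
    · intro hk
      exact (PermBasic.stabilizer_subgroup_eq_bot_iff' L a).1 (hLreg a) _ (L.pow_mem hy k)
        (by rw [← hpow, hk, one_smul])
    · intro hk
      exact (PermBasic.stabilizer_subgroup_eq_bot_iff' M a).1 (hMreg a) _ (M.pow_mem hx k)
        (by rw [hpow, hk, one_smul])
  have horder : ∀ x y : N, x ∈ M → y ∈ M → x ≠ 1 → y ≠ 1 → orderOf x = orderOf y := by
    intro x y hx hy hx1 hy1
    have hxa : a ≠ x • a := fun h => hx1
      ((PermBasic.stabilizer_subgroup_eq_bot_iff' M a).1 (hMreg a) x hx h.symm)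
    have hya : a ≠ y • a := fun h => hy1
      ((PermBasic.stabilizer_subgroup_eq_bot_iff' M a).1 (hMreg a) y hy h.symm)
    obtain ⟨g, hga, hgb⟩ := PermMultiTrans.exists_smul_two (G := G) hxa hya
    set c := MulAut.conjNormal (H := N) g x with hc
    have hca : c • a = y • a := by
      rw [← hgb]
      change (c : G) • a = g • ((x : G) • a)
      rw [hc, MulAut.conjNormal_apply, PermBasic.conj_smul_eq hga]
    have hord : orderOf c = orderOf x := MulEquiv.orderOf_eq _ x
    have hcmem : c ∈ M.map (MulAut.conjNormal (H := N) g).toMonoidHom :=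
      Subgroup.mem_map_of_mem _ hx
    rcases htwo _ (hM.map_mulEquiv (MulAut.conjNormal (H := N) g)) with h | h
    · rw [← hord]
      congr 1
      exact congrArg Subtype.val ((PermBasic.orbitMap_bijective (G := M) (hMreg a)).1
        (a₁ := ⟨c, h ▸ hcmem⟩) (a₂ := ⟨y, hy⟩) hca)
    · rw [← hord]
      exact (hsame y c hy (h ▸ hcmem) hca.symm).symm
  have : Nontrivial M := (Subgroup.nontrivial_iff_ne_bot M).2 hM.2.1
  obtain ⟨p, hp, hpM⟩ := Nat.exists_prime_and_dvd (n := Nat.card M)
    (fun h => hM.2.1 (Subgroup.eq_bot_of_card_eq M h))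
  have : Fact p.Prime := ⟨hp⟩
  obtain ⟨x₀, hx₀⟩ := exists_prime_orderOf_dvd_card' p hpM
  have hx₀1 : (x₀ : N) ≠ 1 := fun h => by
    rw [← Subgroup.orderOf_coe, h, orderOf_one] at hx₀
    exact hp.one_lt.ne hx₀
  have hMp : IsPGroup p M := by
    rw [IsPGroup.iff_orderOf]
    intro x
    by_cases hx : (x : N) = 1
    · exact ⟨0, by rw [← Subgroup.orderOf_coe, hx, orderOf_one, pow_zero]⟩
    · exact ⟨1, by
        rw [← Subgroup.orderOf_coe, horder x x₀ x.2 x₀.2 hx hx₀1, Subgroup.orderOf_coe, hx₀,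
          pow_one]⟩
  apply hMnab
  have := hM.1
  have hz : (Subgroup.center M).map M.subtype ≠ ⊥ := by
    rw [Ne, Subgroup.map_eq_bot_iff_of_injective _ M.subtype_injective]
    exact (Subgroup.nontrivial_iff_ne_bot _).1 hMp.center_nontrivial
  rcases hM.2.2 _ inferInstance (Subgroup.map_subtype_le (Subgroup.center M)) with h | h
  · exact absurd h hz
  · constructor
    constructor
    intro x y
    obtain ⟨z, hzc, hzx⟩ := (h.symm ▸ x.2 : (x : N) ∈ (Subgroup.center M).map M.subtype)
    obtain rfl : z = x := Subtype.ext hzx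
    exact ((Subgroup.mem_center_iff.1 hzc) y).symm

end Cfsg.Agent.PermBurnside
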