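import Cfsg.Agent.Lib.PermMultiTrans
import Cfsg.Agent.Lib.SimplePSLApply
import Cfsg.Agent.Lib.AutPSLApi
import Cfsg.Agent.S0741
import Cfsg.Agent.S3401

/-!
Transitive groups of degree 18 whose point stabilisers normalise a group of order 17 acting on
the other points: they are `PSL(2,17)` and `PGL(2,17)`.
-/

set_option autoImplicit false

open MulAction
open Cfsg.Agent.SimplePSLOrder (aff)

namespace Cfsg.Agent.PermDegree18

attribute [local instance] SimplePSLApply.fact_prime_seventeen

/-- The projective line over 17 elements. -/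
abbrev L := Option (ZMod 17)

/-- The hypotheses on the permutation group. -/
structure Setting (X : Subgroup (Equiv.Perm L)) : Prop where
  tr : ∀ b : ZMod 17, ∃ g ∈ X, ⇑g = aff 1 b
  move : ∃ g ∈ X, g none ≠ none
  stab : ∀ g ∈ X, g none = none → ∃ s b : ZMod 17, ⇑g = aff s b

theorem aff_inj {s b s' b' : ZMod 17} (h : aff s b = aff s' b') : s = s' ∧ b = b' := by
  have h0 := congrFun h (some 0)
  have h1 := congrFun h (some 1)
  simp [SimplePSLOrder.aff] at h0 h1
  subst h0
  exact ⟨by simpa using h1, rfl⟩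

theorem aff_mul_apply {g h : Equiv.Perm L} {s b s' b' : ZMod 17} (hg : ⇑g = aff s b)
    (hh : ⇑h = aff s' b') : ⇑(g * h) = aff (s * s') (s * b' + b) := by
  funext x
  rw [Equiv.Perm.mul_apply, hg, hh, SimplePSLOrder.aff_aff]

theorem aff_ne_zero {g : Equiv.Perm L} {s b : ZMod 17} (hg : ⇑g = aff s b) : s ≠ 0 := by
  rintro rfl
  have : g (some 0) = g (some 1) := by simp [hg, SimplePSLOrder.aff]
  simpa using g.injective this

/-- The multipliers of the diagonal elements. -/
def mult (X : Subgroup (Equiv.Perm L)) : Subgroup (ZMod 17)ˣ where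
  carrier := {s | ∃ g ∈ X, ⇑g = aff (s : ZMod 17) 0}
  one_mem' := ⟨1, X.one_mem, funext fun x => (SimplePSLOrder.aff_one_zero x).symm⟩
  mul_mem' := by
    rintro s s' ⟨g, hg, hgs⟩ ⟨h, hh, hhs⟩
    exact ⟨g * h, X.mul_mem hg hh, by rw [aff_mul_apply hgs hhs]; simp⟩
  inv_mem' := by
    rintro s ⟨g, hg, hgs⟩
    refine ⟨g⁻¹, X.inv_mem hg, funext fun x => ?_⟩
    rw [Equiv.Perm.inv_def, Equiv.symm_apply_eq, hgs, SimplePSLOrder.aff_aff, mul_zero, add_zero,
      Units.mul_inv, SimplePSLOrder.aff_one_zero]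

variable {X : Subgroup (Equiv.Perm L)}

namespace Setting

theorem transitive (hX : Setting X) : IsPretransitive X L := by
  obtain ⟨g, hg, hgn⟩ := hX.move
  obtain ⟨c, hc⟩ : ∃ c, g none = some c := Option.ne_none_iff_exists'.1 hgn
  have h0 : ∀ o : L, ∃ k : X, k • (none : L) = o := by
    rintro (_ | d)
    · exact ⟨1, one_smul _ _⟩
    · obtain ⟨t, ht, hte⟩ := hX.tr (d - c)
      refine ⟨⟨t * g, X.mul_mem ht hg⟩, ?_⟩
      change t (g none) = some d
      simp [hc, hte, SimplePSLOrder.aff]
  refine ⟨fun x y => ?_⟩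
  obtain ⟨k, hk⟩ := h0 x
  obtain ⟨l, hl⟩ := h0 y
  exact ⟨l * k⁻¹, by rw [mul_smul, ← hk, inv_smul_smul, hl]⟩

theorem twoTransitive (hX : Setting X) : IsMultiplyPretransitive X L 2 := by
  have := hX.transitive
  refine PermMultiTrans.isTwoPretransitive_of_stabilizer (none : L) fun x y hx hy => ?_
  obtain ⟨i, rfl⟩ := Option.ne_none_iff_exists'.1 hx
  obtain ⟨j, rfl⟩ := Option.ne_none_iff_exists'.1 hy
  obtain ⟨t, ht, hte⟩ := hX.tr (j - i)
  refine ⟨⟨t, ht⟩, ?_, ?_⟩
  · change t none = none
    simp [hte, SimplePSLOrder.aff]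
  · change t (some i) = some j
    simp [hte, SimplePSLOrder.aff]

theorem three (hX : Setting X) (g : X) (a b c : L) (hab : a ≠ b) (hbc : b ≠ c) (hac : a ≠ c)
    (ha : g • a = a) (hb : g • b = b) (hc : g • c = c) : g = 1 := by
  have := hX.transitive
  obtain ⟨k, hk⟩ := exists_smul_eq X a (none : L)
  set g' := k * g * k⁻¹ with hg'
  have hfix : ∀ z : L, g • z = z → g' • (k • z) = k • z := fun z hz => by
    rw [hg', mul_smul, mul_smul, inv_smul_smul, hz]
  have h1 := hfix a ha
  rw [hk] at h1
  obtain ⟨s, t, hst⟩ := hX.stab g' g'.2 h1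
  obtain ⟨i, hi⟩ := Option.ne_none_iff_exists'.1 (show k • b ≠ none by
    rw [← hk]; exact (MulAction.injective k).ne hab.symm)
  obtain ⟨j, hj⟩ := Option.ne_none_iff_exists'.1 (show k • c ≠ none by
    rw [← hk]; exact (MulAction.injective k).ne hac.symm)
  have h2 := hfix b hb
  have h3 := hfix c hc
  rw [hi] at h2
  rw [hj] at h3
  change (g' : Equiv.Perm L) (some i) = some i at h2
  change (g' : Equiv.Perm L) (some j) = some j at h3
  rw [hst] at h2 h3
  simp [SimplePSLOrder.aff] at h2 h3
  have hij : i ≠ j := fun h => hbc (MulAction.injective k (by change k • b = k • c; rw [hi, hj, h]))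
  have hs : (s - 1) * (i - j) = 0 := by linear_combination h2 - h3
  rcases mul_eq_zero.1 hs with h | h
  · rw [sub_eq_zero] at h
    subst h
    rw [one_mul, add_eq_left] at h2
    subst h2
    have : g' = 1 := Subtype.ext (Equiv.coe_fn_injective (hst.trans (funext fun x =>
      SimplePSLOrder.aff_one_zero x)))
    rw [hg', mul_inv_eq_one, mul_eq_left] at this
    exact this
  · exact absurd (sub_eq_zero.1 h) hij

theorem mem_mult_of_stab (hX : Setting X) {g : Equiv.Perm L} (hg : g ∈ X) {s b : ZMod 17}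
    (hgs : ⇑g = aff s b) : Units.mk0 s (aff_ne_zero hgs) ∈ mult X := by
  obtain ⟨t, ht, hte⟩ := hX.tr (-b)
  exact ⟨t * g, X.mul_mem ht hg, by rw [aff_mul_apply hte hgs]; simp⟩

/-- Elements fixing `none` correspond to multipliers and translations. -/
theorem card_stab (hX : Setting X) :
    Nat.card (stabilizer X (none : L)) = 17 * Nat.card (mult X) := by
  choose t ht hte using hX.tr
  let F : mult X × ZMod 17 → stabilizer X (none : L) := fun z =>
    ⟨⟨t z.2 * z.1.2.choose, X.mul_mem (ht _) z.1.2.choose_spec.1⟩, by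
      rw [mem_stabilizer_iff]
      change (t z.2) (z.1.2.choose none) = none
      rw [z.1.2.choose_spec.2, hte]; rfl⟩
  have hF : ∀ z, ⇑((F z).1 : Equiv.Perm L) = aff (z.1.1 : ZMod 17) z.2 := fun z => by
    change ⇑(t z.2 * z.1.2.choose) = _
    rw [aff_mul_apply (hte z.2) z.1.2.choose_spec.2]
    simp
  have hbij : Function.Bijective F := by
    constructor
    · intro z z' h
      have := aff_inj ((hF z).symm.trans ((congrArg (fun w : stabilizer X (none : L) =>
        ⇑((w.1 : X) : Equiv.Perm L)) h).trans (hF z')))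
      exact Prod.ext (Subtype.ext (Units.ext this.1)) this.2
    · rintro ⟨g, hg⟩
      obtain ⟨s, b, hsb⟩ := hX.stab g g.2 hg
      refine ⟨(⟨_, hX.mem_mult_of_stab g.2 hsb⟩, b), Subtype.ext (Subtype.ext ?_)⟩
      exact Equiv.coe_fn_injective ((hF _).trans hsb.symm)
  rw [← Nat.card_congr (Equiv.ofBijective F hbij), Nat.card_prod, Nat.card_zmod, mul_comm]

theorem card_L : Nat.card L = 18 := by
  rw [Nat.card_eq_fintype_card, Fintype.card_option, ZMod.card]

theorem card_eq (hX : Setting X) : Nat.card X = 18 * (17 * Nat.card (mult X)) := by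
  have := hX.transitive
  rw [← PermBasic.card_mul_card_stabilizer (G := X) (none : L), card_L, hX.card_stab]

theorem card_units : Nat.card (ZMod 17)ˣ = 16 := by
  rw [Nat.card_eq_fintype_card, ZMod.card_units]

theorem card_mult_dvd : Nat.card (mult X) ∣ 16 :=
  card_units ▸ Subgroup.card_subgroup_dvd_card _

theorem card_two_point (hX : Setting X) :
    Nat.card ↥(stabilizer X (none : L) ⊓ stabilizer X (some 0 : L)) = Nat.card (mult X) := by
  let F : mult X → ↥(stabilizer X (none : L) ⊓ stabilizer X (some 0 : L)) := fun z =>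
    ⟨⟨z.2.choose, z.2.choose_spec.1⟩, by
      refine ⟨?_, ?_⟩ <;>
      · change z.2.choose _ = _
        rw [z.2.choose_spec.2]; simp [SimplePSLOrder.aff]⟩
  refine (Nat.card_congr (Equiv.ofBijective F ⟨fun z z' h => ?_, ?_⟩)).symm
  · have := congrArg (fun w : ↥(stabilizer X (none : L) ⊓ stabilizer X (some 0 : L)) =>
      ⇑((w.1 : X) : Equiv.Perm L)) h
    exact Subtype.ext (Units.ext (aff_inj (z.2.choose_spec.2.symm.trans
      (this.trans z'.2.choose_spec.2))).1)
  · rintro ⟨g, hg0, hg1⟩
    obtain ⟨s, b, hsb⟩ := hX.stab g g.2 hg0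
    have hb : b = 0 := by
      have : (g : Equiv.Perm L) (some 0) = some 0 := hg1
      rw [hsb] at this
      simpa [SimplePSLOrder.aff] using this
    subst hb
    have hmem := hX.mem_mult_of_stab g.2 hsb
    refine ⟨⟨_, hmem⟩, Subtype.ext (Subtype.ext ?_)⟩
    exact Equiv.coe_fn_injective (hmem.choose_spec.2.trans hsb.symm)

theorem translation_stab (hX : Setting X) {b : ZMod 17} (hb : b ≠ 0) :
    ∃ g : X, g • (none : L) = none ∧ ∀ x : L, x ≠ none → g • x ≠ x := by
  obtain ⟨t, ht, hte⟩ := hX.tr b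
  refine ⟨⟨t, ht⟩, ?_, fun x hx => ?_⟩
  · change t none = none
    rw [hte]; rfl
  · obtain ⟨i, rfl⟩ := Option.ne_none_iff_exists'.1 hx
    change t (some i) ≠ some i
    simp [hte, SimplePSLOrder.aff, hb]

/-- The point stabiliser has an element of order 17 and the group is not a Frobenius group. -/
theorem mult_ne_one (hX : Setting X) : Nat.card (mult X) ≠ 1 := by
  intro h1
  have hcard := hX.card_eq
  rw [h1] at hcard
  have : IsPretransitive X L := hX.transitive
  have h2 : 2 ∣ Nat.card X := by rw [hcard]; norm_num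
  obtain ⟨w, hw⟩ := exists_prime_orderOf_dvd_card' (G := X) 2 h2
  obtain ⟨O, hOodd, hOidx, hOiff⟩ := S3401.exists_odd_half w hw (by rw [hcard]; decide) h2
  have hOcard : Nat.card O = 153 := by
    have := O.index_mul_card
    rw [hOidx, hcard] at this
    omega
  obtain ⟨P⟩ : Nonempty (Sylow 17 X) := inferInstance
  have hsyl : ∀ Q : Sylow 17 O, Nat.card (Sylow 17 O) = 1 := fun Q => by
    have hQc : Nat.card Q = 17 := by
      rw [Q.card_eq_multiplicity, hOcard,
        show 153 = 17 * 9 by norm_num, Nat.factorization_mul (by norm_num) (by norm_num)]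
      rw [Finsupp.add_apply, Nat.Prime.factorization_self (by norm_num),
        Nat.factorization_eq_zero_of_not_dvd (by norm_num)]
      norm_num
    have hdvd := Q.card_dvd_index
    have hidx : (Q : Subgroup O).index = 9 := by
      have := (Q : Subgroup O).index_mul_card
      rw [hOcard, hQc] at this
      omega
    rw [hidx] at hdvd
    have hmod := card_sylow_modEq_one 17 O
    have hle : Nat.card (Sylow 17 O) ≤ 9 := Nat.le_of_dvd (by norm_num) hdvd
    unfold Nat.ModEq at hmod
    omega
  obtain ⟨Q⟩ : Nonempty (Sylow 17 O) := inferInstance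
  have hsub : Subsingleton (Sylow 17 O) :=
    Finite.card_le_one_iff_subsingleton.1 (hsyl Q).le
  -- elements of order 17 lie in `Q`
  have hmemQ : ∀ x : X, orderOf x = 17 → ∃ y ∈ (Q : Subgroup O), (y : X) = x := by
    intro x hx
    have hxO : x ∈ O := (hOiff x).2 (by rw [hx]; decide)
    have hz : IsPGroup 17 (Subgroup.zpowers (⟨x, hxO⟩ : O)) :=
      IsPGroup.of_card (n := 1) (by rw [Nat.card_zpowers, Subgroup.orderOf_mk, hx, pow_one])
    obtain ⟨Q', hQ'⟩ := hz.exists_le_sylow
    exact ⟨⟨x, hxO⟩, Subsingleton.elim Q' Q ▸ hQ' (Subgroup.mem_zpowers _), rfl⟩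
  obtain ⟨t, ht0, htne⟩ := hX.translation_stab (b := 1) one_ne_zero
  have ht17 : orderOf t = 17 := by
    have ht0' : t ∈ stabilizer X (none : L) := ht0
    have hd := orderOf_dvd_natCard (⟨t, ht0'⟩ : stabilizer X (none : L))
    rw [hX.card_stab, h1, mul_one, Subgroup.orderOf_mk] at hd
    rcases (Nat.dvd_prime (by norm_num)).1 hd with h | h
    · rw [orderOf_eq_one_iff] at h
      have := htne (some 0) (by simp)
      rw [h, one_smul] at this
      exact absurd rfl this
    · exact h
  obtain ⟨g, hg, hgn⟩ := hX.move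
  obtain ⟨y, hy, hyt⟩ := hmemQ t ht17
  obtain ⟨y', hy', hyt'⟩ := hmemQ (MulAut.conj (⟨g, hg⟩ : X) t) (by
    rw [MulEquiv.orderOf_eq, ht17])
  have hQc : IsCyclic Q := by
    refine isCyclic_of_prime_card (p := 17) ?_
    rw [Q.card_eq_multiplicity, hOcard, show 153 = 17 * 9 by norm_num,
      Nat.factorization_mul (by norm_num) (by norm_num), Finsupp.add_apply,
      Nat.Prime.factorization_self (by norm_num),
      Nat.factorization_eq_zero_of_not_dvd (by norm_num)]
    norm_num
  have hcomm : t * MulAut.conj (⟨g, hg⟩ : X) t = MulAut.conj (⟨g, hg⟩ : X) t * t := by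
    have := congrArg (fun z : Q => ((z : O) : X))
      (IsCyclic.isMulCommutative.is_comm.comm (⟨y, hy⟩ : Q) ⟨y', hy'⟩)
    simpa [hyt, hyt'] using this
  -- the conjugate fixes `g none`, so does `t`
  set c := (⟨g, hg⟩ : X) • (none : L) with hc
  have hfix : MulAut.conj (⟨g, hg⟩ : X) t • c = c := by
    rw [MulAut.conj_apply, hc, mul_smul, mul_smul, inv_smul_smul, ht0]
  have hne : ∀ x : L, x ≠ c → MulAut.conj (⟨g, hg⟩ : X) t • x ≠ x := by
    intro x hx h
    rw [MulAut.conj_apply, mul_smul, mul_smul] at h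
    refine htne ((⟨g, hg⟩ : X)⁻¹ • x) (fun h' => hx ?_) (eq_inv_smul_iff.2 h)
    rw [hc, ← h', smul_inv_smul]
  have : t • c = c := by
    by_contra hne'
    apply hne _ hne'
    rw [← mul_smul, ← hcomm, mul_smul, hfix]
  exact htne c hgn this

theorem isZassenhaus (hX : Setting X) : Cfsg.IsZassenhausGroup X L := by
  have := hX.transitive
  have h2t := hX.twoTransitive
  refine ⟨inferInstance, h2t, hX.three, ?_, fun N hN hNt => ?_⟩
  · have hne : stabilizer X (none : L) ⊓ stabilizer X (some 0 : L) ≠ ⊥ := by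
      intro h
      have := hX.card_two_point
      rw [h, Subgroup.card_bot] at this
      exact hX.mult_ne_one this.symm
    obtain ⟨g, hg, hg1⟩ := (Subgroup.bot_or_exists_ne_one _).resolve_left hne
    exact ⟨g, hg1, none, some 0, by simp, hg.1, hg.2⟩
  · by_contra hreg
    push Not at hreg
    have hc : Nat.card N = 18 := by rw [PermBasic.card_eq_of_regular (hreg none), card_L]
    obtain ⟨R⟩ : Nonempty (Sylow 3 N) := inferInstance
    have hRc : Nat.card R = 9 := by
      rw [R.card_eq_multiplicity, hc, show (18 : ℕ) = 3 ^ 2 * 2 by norm_num,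
        Nat.factorization_mul (by norm_num) (by norm_num), Finsupp.add_apply,
        Nat.Prime.factorization_pow (by norm_num), Finsupp.single_eq_same,
        Nat.factorization_eq_zero_of_not_dvd (by norm_num)]
      norm_num
    have hidx : (R : Subgroup N).index = 2 := by
      have := (R : Subgroup N).index_mul_card
      rw [hRc, hc] at this
      omega
    have hRn : (R : Subgroup N).Normal := Subgroup.normal_of_index_eq_two hidx
    have := R.characteristic_of_normal hRn
    have hR' : ((R : Subgroup N).map N.subtype).Normal := inferInstance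
    have : IsPreprimitive X L := isPreprimitive_of_is_two_pretransitive h2t
    have hRt := PermBasic.isPretransitive_of_normal (X := L) _ (show (R : Subgroup N).map N.subtype ≠ ⊥ from
      fun h => by
        have := congrArg (fun K : Subgroup X => Nat.card K) h
        simp only [Subgroup.card_map_of_injective N.subtype_injective, Subgroup.card_bot] at this
        rw [hRc] at this
        omega)
    have hd := @PermBasic.card_dvd_of_transitive _ _ _ _ hRt ⟨(none : L)⟩
    rw [card_L, Subgroup.card_map_of_injective N.subtype_injective, hRc] at hd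
    omega

theorem card_mult (hX : Setting X) : Nat.card (mult X) = 8 ∨ Nat.card (mult X) = 16 := by
  have hd := card_mult_dvd (X := X)
  have h1 := hX.mult_ne_one
  have hle : Nat.card (mult X) ≤ 16 := Nat.le_of_dvd (by norm_num) hd
  have heven : Even (Nat.card (mult X)) := by
    rcases Nat.lt_or_ge (Nat.card (mult X)) 2 with h | h
    · have := Nat.card_pos (α := mult X); omega
    · obtain ⟨i, -, hi⟩ := (Nat.dvd_prime_pow (Nat.prime_two)).1 (show Nat.card (mult X) ∣ 2 ^ 4 from hd)
      cases i with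
      | zero => omega
      | succ i => rw [hi, pow_succ]; exact even_two.mul_left _
  have h2 := Cfsg.Agent.S0741.result hX.isZassenhaus (a := (none : L)) (b := some 0) (by simp)
    (by rw [hX.card_two_point]; exact heven)
  rw [hX.card_two_point, Fintype.card_option, ZMod.card] at h2
  obtain ⟨i, hi', hi⟩ := (Nat.dvd_prime_pow (Nat.prime_two)).1 (show Nat.card (mult X) ∣ 2 ^ 4 from hd)
  rw [hi] at h2 ⊢
  interval_cases i <;> simp_all

/-- Coordinates in the sense of `SimplePSLOrder`, when the multipliers are the squares. -/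
theorem coord (hX : Setting X) (h8 : Nat.card (mult X) = 8) :
    Nonempty (SimplePSLOrder.Coord 17 8 X) := by
  have hsub : ∀ s ∈ mult X, (s : ZMod 17) ^ 8 = 1 := fun s hs => by
    have h : (⟨s, hs⟩ : mult X) ^ 8 = 1 := h8 ▸ pow_card_eq_one'
    simpa using congrArg (fun z : mult X => ((z : (ZMod 17)ˣ) : ZMod 17)) h
  have hall : ∀ s : ZMod 17, s ^ 8 = 1 → ∃ g ∈ X, ⇑g = aff s 0 := by
    let F : mult X → {s : ZMod 17 // s ^ 8 = 1} := fun z => ⟨(z : (ZMod 17)ˣ), hsub z z.2⟩
    have hF : Function.Bijective F := by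
      refine Function.Injective.bijective_of_nat_card_le (fun z z' h =>
        Subtype.ext (Units.ext (congrArg Subtype.val h))) ?_
      rw [h8, Nat.card_eq_fintype_card]
      exact SimplePSLApply.data_seventeen.hroots.le
    intro s hs
    obtain ⟨⟨u, hu⟩, hue⟩ := hF.2 ⟨s, hs⟩
    obtain ⟨g, hg, hge⟩ := hu
    refine ⟨g, hg, ?_⟩
    rw [hge]
    exact congrArg (fun w => aff w 0) (congrArg Subtype.val hue)
  have := hX.twoTransitive
  obtain ⟨w, hw1, hw2⟩ := PermMultiTrans.exists_smul_two (G := X) (a := (none : L)) (b := some 0)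
    (c := some 0) (d := none) (by simp) (by simp)
  exact ⟨⟨X.subtype, Subtype.val_injective,
    fun g hg => by
      obtain ⟨s, b, hsb⟩ := hX.stab g g.2 hg
      have h8' := hsub _ (hX.mem_mult_of_stab g.2 hsb)
      rw [Units.val_mk0] at h8'
      exact ⟨s, b, h8', hsb⟩,
    fun s b hs => by
      obtain ⟨g, hg, hge⟩ := hall s hs
      obtain ⟨t, ht, hte⟩ := hX.tr b
      exact ⟨⟨t * g, X.mul_mem ht hg⟩, by
        change ⇑(t * g) = _
        rw [aff_mul_apply hte hge]; simp⟩,
    ⟨w, hw1, hw2⟩⟩⟩

theorem equiv_psl_of_eight (hX : Setting X) (h8 : Nat.card (mult X) = 8) (F : Type*) [Field F]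
    [Finite F] (hF : Nat.card F = 17) :
    Nonempty (X ≃* Matrix.ProjectiveSpecialLinearGroup (Fin 2) F) := by
  obtain ⟨C⟩ := hX.coord h8
  obtain ⟨e⟩ := SimplePSLOrder.exists_equiv_model SimplePSLApply.data_seventeen C (by simp)
  have := Cfsg.Agent.PSLSimple.isSimpleGroup_PSL_fin' (F := F) (n := 2) le_rfl (fun _ => by omega)
  obtain ⟨e'⟩ := SimplePSLApply.equiv_model (H := Matrix.ProjectiveSpecialLinearGroup (Fin 2) F)
    SimplePSLApply.data_seventeen (by norm_num) (by decide +kernel) (by simp) (by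
      rw [Cfsg.Agent.PSLCard.card_PSL2_odd (by rw [hF]; decide), hF]; norm_num)
  exact ⟨e.trans e'.symm⟩

end Setting

/-- The permutation `t ↦ 3 t`. -/
def mulThree : Equiv.Perm L where
  toFun := aff 3 0
  invFun := aff 6 0
  left_inv x := by
    rw [SimplePSLOrder.aff_aff, show (6 : ZMod 17) * 3 = 1 by decide]
    simp [SimplePSLOrder.aff_one_zero]
  right_inv x := by
    rw [SimplePSLOrder.aff_aff, show (3 : ZMod 17) * 6 = 1 by decide]
    simp [SimplePSLOrder.aff_one_zero]

theorem mulThree_pow (i : ℕ) (t : ZMod 17) : (mulThree ^ i) (some t) = some (3 ^ i * t) := by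
  induction i with
  | zero => simp
  | succ i ih =>
    rw [pow_succ', Equiv.Perm.mul_apply, ih]
    change aff 3 0 (some (3 ^ i * t)) = _
    simp [SimplePSLOrder.aff]
    ring

theorem sign_mulThree : Equiv.Perm.sign mulThree = -1 := by
  have hcyc : mulThree.IsCycle := by
    refine ⟨some 1, by decide, fun y hy => ?_⟩
    obtain ⟨t, rfl⟩ : ∃ t, y = some t := by
      rcases y with _ | t
      · exact absurd rfl hy
      · exact ⟨t, rfl⟩
    obtain ⟨i, -, hi⟩ : ∃ i < 16, (3 : ZMod 17) ^ i = t := by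
      have : t ≠ 0 := fun h => hy (by subst h; decide)
      revert t
      decide +kernel
    exact ⟨i, by rw [zpow_natCast, mulThree_pow, mul_one, hi]⟩
  have hsupp : mulThree.support.card = 16 := by decide +kernel
  rw [hcyc.sign, hsupp]
  decide

variable {X : Subgroup (Equiv.Perm L)}

/-- With all multipliers, the even elements form the `PSL` case. -/
theorem Setting.even_part (hX : Setting X) (h16 : Nat.card (mult X) = 16) :
    ∃ Y : Subgroup (Equiv.Perm L), Y ≤ X ∧ Setting Y ∧ Nat.card (mult Y) = 8 ∧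
      ∀ x ∈ X, ∀ y ∈ Y, x * y * x⁻¹ ∈ Y := by
  classical
  have hall : ∀ s : (ZMod 17)ˣ, s ∈ mult X := by
    have := Subgroup.eq_top_of_card_eq (mult X) (by rw [h16, Setting.card_units])
    intro s; rw [this]; exact Subgroup.mem_top s
  have htop3 : mulThree ∈ X := by
    obtain ⟨g, hg, hge⟩ := hall (Units.mk0 (3 : ZMod 17) (by decide))
    rwa [show mulThree = g from Equiv.ext fun x => (congrFun hge x).symm]
  let Y := X ⊓ alternatingGroup L
  have hsign_tr : ∀ (t : Equiv.Perm L) (b : ZMod 17), ⇑t = aff 1 b → t ∈ alternatingGroup L := by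
    intro t b ht
    have hp : t ^ 17 = 1 := by
      have : ∀ n : ℕ, ⇑(t ^ n) = aff 1 ((n : ZMod 17) * b) := by
        intro n
        induction n with
        | zero => funext x; simp [SimplePSLOrder.aff_one_zero]
        | succ n ih =>
          rw [pow_succ', aff_mul_apply ht ih]
          push_cast
          ring_nf
      refine Equiv.ext fun x => ?_
      rw [this, show ((17 : ℕ) : ZMod 17) = 0 from ZMod.natCast_self 17, zero_mul]
      exact SimplePSLOrder.aff_one_zero x
    rw [Equiv.Perm.mem_alternatingGroup]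
    rcases Int.units_eq_one_or (Equiv.Perm.sign t) with h | h
    · exact h
    · have := congrArg Equiv.Perm.sign hp
      rw [map_pow, map_one, h] at this
      exact absurd this (by decide)
  have hY : Setting Y := by
    refine ⟨fun b => ?_, ?_, fun g hg => hX.stab g hg.1⟩
    · obtain ⟨t, ht, hte⟩ := hX.tr b
      exact ⟨t, ⟨ht, hsign_tr t b hte⟩, hte⟩
    · obtain ⟨g, hg, hgn⟩ := hX.move
      rcases Int.units_eq_one_or (Equiv.Perm.sign g) with h | h
      · exact ⟨g, ⟨hg, Equiv.Perm.mem_alternatingGroup.2 h⟩, hgn⟩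
      · refine ⟨g * mulThree, ⟨X.mul_mem hg htop3, Equiv.Perm.mem_alternatingGroup.2 ?_⟩, ?_⟩
        · rw [map_mul, h, sign_mulThree]; rfl
        · rw [Equiv.Perm.mul_apply]
          exact hgn
  refine ⟨Y, inf_le_left, hY, ?_, fun x hx y hy => ⟨X.mul_mem (X.mul_mem hx hy.1) (X.inv_mem hx),
    Equiv.Perm.mem_alternatingGroup.2 (by
      rw [map_mul, map_mul, map_inv, Equiv.Perm.mem_alternatingGroup.1 hy.2, mul_one,
        mul_inv_cancel])⟩⟩
  rcases hY.card_mult with h | h
  · exact h
  · exfalso
    have h3 : Units.mk0 (3 : ZMod 17) (by decide) ∈ mult Y := by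
      have := Subgroup.eq_top_of_card_eq (mult Y) (by rw [h, Setting.card_units])
      rw [this]; exact Subgroup.mem_top _
    obtain ⟨g, hg, hge⟩ := h3
    have : g = mulThree := Equiv.ext fun x => congrFun hge x
    have h4 := Equiv.Perm.mem_alternatingGroup.1 hg.2
    rw [this, sign_mulThree] at h4
    exact absurd h4 (by decide)

/-- The two groups. -/
theorem Setting.equiv_psl_or_pgl (hX : Setting X) (F : Type*) [Field F] [Fintype F]
    (hF : Fintype.card F = 17) :
    Nonempty (X ≃* Matrix.ProjectiveSpecialLinearGroup (Fin 2) F) ∨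
      Nonempty (X ≃* (GL (Fin 2) F ⧸ Subgroup.center (GL (Fin 2) F))) := by
  classical
  have hF' : Nat.card F = 17 := by rw [Nat.card_eq_fintype_card, hF]
  rcases hX.card_mult with h | h
  · exact Or.inl (hX.equiv_psl_of_eight h F hF')
  refine Or.inr ?_
  obtain ⟨Y, hYX, hY, hY8, hconj⟩ := hX.even_part h
  obtain ⟨eY⟩ := hY.equiv_psl_of_eight hY8 F hF'
  let Y' := Y.subgroupOf X
  have : Y'.Normal := ⟨fun y hy x => hconj x x.2 y hy⟩
  let e : Y' ≃* Matrix.ProjectiveSpecialLinearGroup (Fin 2) F :=
    (Subgroup.subgroupOfEquivOfLe hYX).trans eY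
  let ψ : X →* MulAut (Matrix.ProjectiveSpecialLinearGroup (Fin 2) F) :=
    (MulAut.congr e).toMonoidHom.comp MulAut.conjNormal
  have hψ : Function.Injective ψ := by
    rw [← MonoidHom.ker_eq_bot_iff, Subgroup.eq_bot_iff_forall]
    intro c hc
    have hc' : MulAut.conjNormal (H := Y') c = 1 :=
      (MulAut.congr e).injective ((MonoidHom.mem_ker.1 hc).trans (map_one _).symm)
    have hcomm : ∀ y : Equiv.Perm L, y ∈ Y → (c : Equiv.Perm L) * y = y * c := by
      intro y hy
      have := congrArg (fun z : Y' => ((z : X) : Equiv.Perm L))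
        (DFunLike.congr_fun hc' (⟨⟨y, hYX hy⟩, hy⟩ : Y'))
      simp only [MulAut.conjNormal_apply, MulAut.one_apply, Subgroup.coe_mul,
        InvMemClass.coe_inv] at this
      exact mul_inv_eq_iff_eq_mul.1 this
    have hnone : (c : Equiv.Perm L) none = none := by
      by_contra hne
      obtain ⟨t, ht, hte⟩ := hY.tr 1
      have h1 := DFunLike.congr_fun (hcomm t ht) none
      rw [Equiv.Perm.mul_apply, Equiv.Perm.mul_apply,
        show t none = none by rw [hte]; rfl] at h1
      obtain ⟨i, hi⟩ := Option.ne_none_iff_exists'.1 hne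
      rw [hi, hte] at h1
      simp [SimplePSLOrder.aff] at h1
    have := hY.transitive
    refine Subtype.ext (Equiv.ext fun x => ?_)
    obtain ⟨y, rfl⟩ := exists_smul_eq Y (none : L) x
    change (c : Equiv.Perm L) ((y : Equiv.Perm L) none) = (y : Equiv.Perm L) none
    rw [← Equiv.Perm.mul_apply, hcomm y y.2, Equiv.Perm.mul_apply, hnone]
  have hcard : Nat.card (MulAut (Matrix.ProjectiveSpecialLinearGroup (Fin 2) F)) = Nat.card X := by
    rw [hX.card_eq, h]
    rw [AutPSLApi.card_mulAut (p := 17) (f := 1) (by rw [hF, pow_one]) le_rfl le_rfl, if_pos rfl,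
      one_mul, one_mul]
    have := Cfsg.Agent.PSLCard.card_PGL2 (F := F)
    rw [hF'] at this
    exact this.trans (by norm_num)
  have hψb := hψ.bijective_of_nat_card_le hcard.le
  have hcj := (AutPSLApi.cjP_injective (F := F) (n := 2) le_rfl).bijective_of_nat_card_le (by
    rw [hcard, hX.card_eq, h]
    have := Cfsg.Agent.PSLCard.card_PGL2 (F := F)
    rw [hF'] at this
    exact le_of_eq ((this.trans (by norm_num)).symm))
  exact ⟨(MulEquiv.ofBijective ψ hψb).trans (MulEquiv.ofBijective _ hcj).symm⟩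

theorem w0_involutive : Function.Involutive (SimplePSLOrder.w0 (p := 17)) := by
  unfold Function.Involutive
  decide +kernel

/-- An element of the model of order nine. -/
def nine : Equiv.Perm L :=
  w0_involutive.toPerm _ *
    ⟨aff 1 3, aff 1 (-3), fun x => by
      rw [SimplePSLOrder.aff_aff]; simp [SimplePSLOrder.aff_one_zero], fun x => by
      rw [SimplePSLOrder.aff_aff]; simp [SimplePSLOrder.aff_one_zero]⟩

theorem orderOf_nine : orderOf nine = 3 ^ (1 + 1) :=
  orderOf_eq_prime_pow (p := 3) (by decide +kernel) (by decide +kernel)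

/-- An element of order nine. -/
theorem Setting.exists_orderOf_nine (hX : Setting X) : ∃ g : X, orderOf g = 9 := by
  obtain ⟨Y, hYX, hY, hY8⟩ : ∃ Y : Subgroup (Equiv.Perm L), Y ≤ X ∧ Setting Y ∧ Nat.card (mult Y) = 8 := by
    rcases hX.card_mult with h | h
    · exact ⟨X, le_rfl, hX, h⟩
    · obtain ⟨Y, h1, h2, h3, -⟩ := hX.even_part h
      exact ⟨Y, h1, h2, h3⟩
  obtain ⟨C⟩ := hY.coord hY8
  obtain ⟨e⟩ := SimplePSLOrder.exists_equiv_model SimplePSLApply.data_seventeen C (by simp)
  have hmem : nine ∈ SimplePSLOrder.model 17 8 :=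
    mul_mem (Subgroup.subset_closure (Or.inr rfl))
      (Subgroup.subset_closure (Or.inl ⟨1, 3, one_pow _, rfl⟩))
  refine ⟨Subgroup.inclusion hYX (e.symm ⟨nine, hmem⟩), ?_⟩
  rw [orderOf_injective _ (Subgroup.inclusion_injective hYX), MulEquiv.orderOf_eq,
    Subgroup.orderOf_mk, orderOf_nine]
  norm_num

end Cfsg.Agent.PermDegree18
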