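import Cfsg.Agent.Lib.PermMultiTrans

/-!
Multiply transitive groups with elements of small support.
-/

set_option autoImplicit false

open MulAction

namespace Cfsg.Agent.PermJordan

universe u

variable {α : Type u} [DecidableEq α] [Fintype α]

omit [Fintype α] in
/-- Among `j` points of an invariant set, a subset with at most one exit can be found. -/
theorem exists_subset_few_exits (g : Equiv.Perm α) (T : Finset α) (hT : ∀ x ∈ T, g x ∈ T)
    (j : ℕ) (hj : j ≤ T.card) :
    ∃ S ⊆ T, S.card = j ∧ (S.filter fun x => g x ∉ S).card ≤ 1 := by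
  induction j with
  | zero => exact ⟨∅, Finset.empty_subset _, rfl, by simp⟩
  | succ j ih =>
    obtain ⟨S, hST, hScard, hS⟩ := ih (by omega)
    rcases (S.filter fun x => g x ∉ S).eq_empty_or_nonempty with he | ⟨x, hx⟩
    · obtain ⟨u, hu⟩ : (T \ S).Nonempty := by
        rw [← Finset.card_pos, Finset.card_sdiff_of_subset hST]; omega
      rw [Finset.mem_sdiff] at hu
      refine ⟨insert u S, Finset.insert_subset hu.1 hST, by rw [Finset.card_insert_of_notMem hu.2, hScard], ?_⟩
      refine (Finset.card_le_card fun y hy => ?_).trans (Finset.card_singleton u).le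
      rw [Finset.mem_filter, Finset.mem_insert] at hy
      rw [Finset.mem_singleton]
      rcases hy.1 with h | h
      · exact h
      · exfalso
        have : y ∈ S.filter fun x => g x ∉ S :=
          Finset.mem_filter.2 ⟨h, fun h' => hy.2 (Finset.mem_insert_of_mem h')⟩
        rw [he] at this
        exact Finset.notMem_empty _ this
    · rw [Finset.mem_filter] at hx
      refine ⟨insert (g x) S, Finset.insert_subset (hT x (hST hx.1)) hST,
        by rw [Finset.card_insert_of_notMem hx.2, hScard], ?_⟩
      refine (Finset.card_le_card fun y hy => ?_).trans (Finset.card_singleton (g x)).le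
      rw [Finset.mem_filter, Finset.mem_insert] at hy
      rw [Finset.mem_singleton]
      rcases hy.1 with h | h
      · exact h
      · exfalso
        have h1 : y ∈ S.filter fun x => g x ∉ S :=
          Finset.mem_filter.2 ⟨h, fun h' => hy.2 (Finset.mem_insert_of_mem h')⟩
        have h2 : y = x := Finset.card_le_one.1 hS y h1 x (Finset.mem_filter.2 hx)
        exact hy.2 (by rw [h2]; exact Finset.mem_insert_self _ _)

/-- If a conjugate differs from `g`, the quotient moves few points. -/
theorem support_div_subset (g h : Equiv.Perm α) (S : Finset α) (hS : ∀ x ∈ S, h x = x) :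
    (g⁻¹ * (h * g * h⁻¹)).support ⊆
      (g.support ∪ g.support.map h.toEmbedding) \ (S.filter fun x => g x ∈ S) := by
  intro x hx
  rw [Equiv.Perm.mem_support] at hx
  rw [Finset.mem_sdiff]
  have hval : ∀ y, (g⁻¹ * (h * g * h⁻¹)) y = g⁻¹ (h (g (h⁻¹ y))) := fun y => rfl
  have hinv : ∀ y, h y = y → h⁻¹ y = y := fun y hy => by
    rw [Equiv.Perm.inv_def, Equiv.symm_apply_eq, hy]
  refine ⟨?_, fun hxD => hx ?_⟩
  · by_contra hne
    simp only [Finset.mem_union, Equiv.Perm.mem_support, Finset.mem_map_equiv, not_or,
      not_not] at hne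
    apply hx
    rw [hval, Equiv.Perm.inv_def, Equiv.symm_apply_eq]
    rw [show h⁻¹ x = h.symm x from rfl, hne.2, Equiv.apply_symm_apply, hne.1]
  · rw [Finset.mem_filter] at hxD
    rw [hval, hinv x (hS x hxD.1), hS _ hxD.2, Equiv.Perm.inv_def, Equiv.symm_apply_apply]

omit [DecidableEq α] [Fintype α] in
/-- A group element prescribed on `S` (fixed pointwise) and one further point. -/
theorem exists_fix_and_map [Finite α] {G : Subgroup (Equiv.Perm α)} {k : ℕ}
    (hG : IsMultiplyPretransitive G α k) (S : Finset α) (hk : S.card + 1 ≤ k)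
    (hkn : k ≤ Nat.card α) {c d : α} (hc : c ∉ S) (hd : d ∉ S) :
    ∃ h ∈ G, (∀ x ∈ S, h x = x) ∧ h c = d := by
  have := isMultiplyPretransitive_of_le (G := G) (α := α) (n := k) hk hkn
  let e := S.equivFin
  have hinj : ∀ c, c ∉ S → Function.Injective (Fin.snoc (fun i => (e.symm i : α)) c) :=
    fun c hc => Fin.snoc_injective_iff.2 ⟨Subtype.val_injective.comp e.symm.injective, by
      rintro ⟨i, hi⟩
      exact hc (hi ▸ (e.symm i).2)⟩
  obtain ⟨g, hg⟩ := PermMultiTrans.isMultiplyPretransitive_iff_fun.1 this _ _ (hinj c hc) (hinj d hd)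
  refine ⟨g, g.2, fun x hx => ?_, ?_⟩
  · have := hg (Fin.castSucc (e ⟨x, hx⟩))
    rwa [Fin.snoc_castSucc, Fin.snoc_castSucc, Equiv.symm_apply_apply] at this
  · have := hg (Fin.last _)
    rwa [Fin.snoc_last, Fin.snoc_last] at this

/-- Wielandt 15.1: a `k`-transitive group with a non-trivial element moving fewer than `2k - 2`
points has one moving at most three points. -/
theorem exists_support_le_three (G : Subgroup (Equiv.Perm α)) {k : ℕ}
    (hkn : k ≤ Fintype.card α) (hG : IsMultiplyPretransitive G α k) (g₀ : Equiv.Perm α)
    (hg₀ : g₀ ∈ G) (h1 : g₀ ≠ 1) (hsupp : g₀.support.card < 2 * k - 2) :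
    ∃ h : Equiv.Perm α, h ∈ G ∧ h ≠ 1 ∧ h.support.card ≤ 3 := by
  classical
  have hkn' : k ≤ Nat.card α := by rw [Nat.card_eq_fintype_card]; exact hkn
  obtain ⟨g, hgmem, hmin⟩ :=
    (Finset.univ.filter fun g : Equiv.Perm α => g ∈ G ∧ g ≠ 1).exists_min_image
      (fun g => g.support.card) ⟨g₀, by simp [hg₀, h1]⟩
  simp only [Finset.mem_filter, Finset.mem_univ, true_and] at hgmem hmin
  obtain ⟨hgG, hg1⟩ := hgmem
  have hm : g.support.card < 2 * k - 2 := (hmin g₀ ⟨hg₀, h1⟩).trans_lt hsupp
  by_contra hcon
  push Not at hcon
  have hm4 : 3 < g.support.card := hcon g hgG hg1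
  set m := g.support.card with hmdef
  -- any conjugate with small quotient is equal to `g`
  have small : ∀ h ∈ G, h * g * h⁻¹ ≠ g → m ≤ (g⁻¹ * (h * g * h⁻¹)).support.card := by
    intro h hh hne
    refine hmin _ ⟨G.mul_mem (G.inv_mem hgG) (G.mul_mem (G.mul_mem hh hgG) (G.inv_mem hh)), ?_⟩
    intro he
    rw [inv_mul_eq_one] at he
    exact hne he.symm
  have hTinv : ∀ x ∈ g.support, g x ∈ g.support := fun x hx =>
    Equiv.Perm.apply_mem_support.2 hx
  -- counting
  have count : ∀ h ∈ G, h * g * h⁻¹ ≠ g → ∀ S I : Finset α, S ⊆ g.support → I ⊆ g.support →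
      Disjoint S I → (∀ x ∈ S, h x = x) → (∀ x ∈ I, h x ∈ g.support) →
      S.card + I.card + (S.filter fun x => g x ∈ S).card ≤ m := by
    intro h hh hne S I hS hI hdis hfix hin
    have h1 := (small h hh hne).trans (Finset.card_le_card (support_div_subset g h S hfix))
    have hsub : (S.filter fun x => g x ∈ S) ⊆ g.support ∪ g.support.map h.toEmbedding :=
      (Finset.filter_subset _ _).trans (hS.trans Finset.subset_union_left)
    rw [Finset.card_sdiff_of_subset hsub] at h1
    have h2 := Finset.card_union_add_card_inter g.support (g.support.map h.toEmbedding)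
    rw [Finset.card_map] at h2
    have h3 : (S ∪ I).map h.toEmbedding ⊆ g.support ∩ g.support.map h.toEmbedding := by
      intro y hy
      rw [Finset.mem_inter]
      obtain ⟨x, hx, rfl⟩ := Finset.mem_map.1 hy
      rcases Finset.mem_union.1 hx with hx | hx
      · refine ⟨?_, Finset.mem_map_of_mem _ (hS hx)⟩
        change h x ∈ _
        rw [hfix x hx]; exact hS hx
      · exact ⟨hin x hx, Finset.mem_map_of_mem _ (hI hx)⟩
    have h4 := Finset.card_le_card h3
    rw [Finset.card_map, Finset.card_union_of_disjoint hdis] at h4
    have h5 := Finset.card_le_card hsub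
    rw [← hmdef] at h2
    omega
  -- a group element breaking an exit
  have breakExit : ∀ S : Finset α, S.card + 1 ≤ k → ∀ x ∈ S, g x ∉ S → ∀ d, d ∉ S → d ≠ g x →
      ∃ h ∈ G, (∀ y ∈ S, h y = y) ∧ h (g x) = d ∧ h * g * h⁻¹ ≠ g := by
    intro S hS x hx hgx d hd hdne
    obtain ⟨h, hh, hfix, hmap⟩ := exists_fix_and_map hG S hS hkn' hgx hd
    refine ⟨h, hh, hfix, hmap, fun he => hdne ?_⟩
    have := DFunLike.congr_fun he x
    rw [Equiv.Perm.mul_apply, Equiv.Perm.mul_apply,
      show h⁻¹ x = x by rw [Equiv.Perm.inv_def, Equiv.symm_apply_eq, hfix x hx], hmap] at this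
    exact this
  -- the parameter
  obtain ⟨j, hj4, hjk, hmj, hjm, hjlt⟩ :
      ∃ j, 4 ≤ j ∧ j ≤ k ∧ m ≤ 2 * j - 3 ∧ j ≤ m ∧ (5 ≤ m → j < m) :=
    ⟨(m + 4) / 2, by omega, by omega, by omega, by omega, by omega⟩
  obtain ⟨S, hST, hScard, hexit⟩ := exists_subset_few_exits g g.support hTinv (j - 1) (by omega)
  have hD : j - 2 ≤ (S.filter fun x => g x ∈ S).card := by
    have := Finset.card_filter_add_card_filter_not (s := S) (fun x => g x ∈ S)
    omega
  by_cases hout : ∃ e, e ∉ g.support
  · obtain ⟨e, he⟩ := hout
    obtain ⟨c, hc⟩ : (g.support \ S).Nonempty := by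
      rw [← Finset.card_pos, Finset.card_sdiff_of_subset hST]; omega
    rw [Finset.mem_sdiff] at hc
    rcases (S.filter fun x => g x ∉ S).eq_empty_or_nonempty with he0 | ⟨x, hx⟩
    · -- no exit: push a point out of the support
      have heS : e ∉ S := fun h => he (hST h)
      obtain ⟨h, hh, hfix, hmap⟩ := exists_fix_and_map hG S (by omega) hkn' hc.2 heS
      have hne : h * g * h⁻¹ ≠ g := by
        intro hx
        have := DFunLike.congr_fun hx e
        rw [Equiv.Perm.mul_apply, Equiv.Perm.mul_apply,
          show h⁻¹ e = c by rw [Equiv.Perm.inv_def, Equiv.symm_apply_eq, hmap],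
          Equiv.Perm.notMem_support.1 he] at this
        rw [← hmap] at this
        exact (Equiv.Perm.mem_support.1 hc.1) (h.injective this)
      have h1 := count h hh hne S ∅ hST (Finset.empty_subset _) (Finset.disjoint_empty_right _)
        hfix (fun x hx => absurd hx (Finset.notMem_empty x))
      have hall : (S.filter fun x => g x ∈ S).card = S.card := by
        have := Finset.card_filter_add_card_filter_not (s := S) (fun x => g x ∈ S)
        rw [he0, Finset.card_empty] at this
        omega
      rw [Finset.card_empty, hall] at h1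
      omega
    · rw [Finset.mem_filter] at hx
      by_cases h2 : ∃ d ∈ g.support \ S, d ≠ g x
      · obtain ⟨d, hd, hdne⟩ := h2
        rw [Finset.mem_sdiff] at hd
        obtain ⟨h, hh, hfix, hmap, hne⟩ := breakExit S (by omega) x hx.1 hx.2 d hd.2 hdne
        have h1 := count h hh hne S {g x} hST
          (Finset.singleton_subset_iff.2 (hTinv x (hST hx.1)))
          (Finset.disjoint_singleton_right.2 hx.2) hfix (fun y hy => by
            rw [Finset.mem_singleton.1 hy, hmap]; exact hd.1)
        rw [Finset.card_singleton] at h1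
        omega
      · -- only one point of the support is left: four points moved
        push Not at h2
        have : (g.support \ S).card ≤ 1 :=
          (Finset.card_le_card fun y hy => Finset.mem_singleton.2 (h2 y hy)).trans
            (Finset.card_singleton (g x)).le
        rw [Finset.card_sdiff_of_subset hST] at this
        obtain ⟨h, hh, hfix, hmap, hne⟩ := breakExit S (by omega) x hx.1 hx.2 e
          (fun h => he (hST h)) (fun h => he (h ▸ hTinv x (hST hx.1)))
        have h1 := count h hh hne S ∅ hST (Finset.empty_subset _) (Finset.disjoint_empty_right _)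
          hfix (fun x hx => absurd hx (Finset.notMem_empty x))
        omega
  · -- `g` moves every point
    push Not at hout
    have hmn : Fintype.card α = m := by
      rw [hmdef, show g.support = Finset.univ from Finset.eq_univ_of_forall hout, Finset.card_univ]
    rcases Nat.lt_or_ge m 5 with hm5 | hm5
    · -- four points: the group is symmetric
      obtain ⟨a, b, hab⟩ : ∃ a b : α, a ≠ b := by
        have : 1 < Fintype.card α := by omega
        exact Fintype.one_lt_card_iff.1 this
      have hcard : ((Finset.univ.erase a).erase b).card + 2 = Fintype.card α := by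
        rw [Finset.card_erase_of_mem (Finset.mem_erase.2 ⟨hab.symm, Finset.mem_univ _⟩),
          Finset.card_erase_of_mem (Finset.mem_univ _), Finset.card_univ]
        omega
      set R := (Finset.univ.erase a).erase b with hR
      obtain ⟨h, hh, hfix, hmap⟩ := exists_fix_and_map hG R (by omega) hkn'
        (show a ∉ R by simp [hR]) (show b ∉ R by simp [hR])
      have hle : h.support ⊆ {a, b} := by
        intro y hy
        by_contra hne
        simp only [Finset.mem_insert, Finset.mem_singleton, not_or] at hne
        exact Equiv.Perm.mem_support.1 hy (hfix y (by simp [hR, hne.1, hne.2]))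
      have := hcon h hh (fun he => hab (by rw [← hmap, he, Equiv.Perm.one_apply]))
      have h3 := (Finset.card_le_card hle).trans (Finset.card_le_two)
      omega
    · obtain ⟨S', hS', x, hx, hxo, hDne⟩ : ∃ S' : Finset α, S'.card = j - 1 ∧ ∃ x ∈ S',
          g x ∉ S' ∧ (S'.filter fun y => g y ∈ S').Nonempty := by
        rcases (S.filter fun x => g x ∉ S).eq_empty_or_nonempty with he0 | ⟨x, hx⟩
        · -- trade one point
          have hclosed : ∀ y ∈ S, g y ∈ S := fun y hy => by
            by_contra h
            have : y ∈ S.filter fun x => g x ∉ S := Finset.mem_filter.2 ⟨hy, h⟩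
            rw [he0] at this
            exact Finset.notMem_empty _ this
          obtain ⟨w₀, hw₀⟩ : S.Nonempty := by rw [← Finset.card_pos]; omega
          obtain ⟨u, hu⟩ : (g.support \ S).Nonempty := by
            rw [← Finset.card_pos, Finset.card_sdiff_of_subset hST]; omega
          rw [Finset.mem_sdiff] at hu
          have hw : g w₀ ∈ S := hclosed _ hw₀
          have hwne : w₀ ≠ g w₀ := (Equiv.Perm.mem_support.1 (hST hw₀)).symm
          refine ⟨insert u (S.erase (g w₀)), ?_, w₀,
            Finset.mem_insert_of_mem (Finset.mem_erase.2 ⟨hwne, hw₀⟩), ?_, ?_⟩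
          · rw [Finset.card_insert_of_notMem (fun h => hu.2 (Finset.mem_erase.1 h).2),
              Finset.card_erase_of_mem hw]
            omega
          · simp only [Finset.mem_insert, Finset.mem_erase, ne_eq, not_true_eq_false, false_and,
              or_false]
            exact fun h => hu.2 (h ▸ hw)
          · obtain ⟨y, hy⟩ : ((S.erase (g w₀)).erase w₀).Nonempty := by
              rw [← Finset.card_pos,
                Finset.card_erase_of_mem (Finset.mem_erase.2 ⟨hwne, hw₀⟩),
                Finset.card_erase_of_mem hw]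
              omega
            simp only [Finset.mem_erase] at hy
            exact ⟨y, Finset.mem_filter.2 ⟨Finset.mem_insert_of_mem (Finset.mem_erase.2 hy.2),
              Finset.mem_insert_of_mem (Finset.mem_erase.2
                ⟨fun h => hy.1 (g.injective h), hclosed y hy.2.2⟩)⟩⟩
        · rw [Finset.mem_filter] at hx
          exact ⟨S, hScard, x, hx.1, hx.2, by rw [← Finset.card_pos]; omega⟩
      obtain ⟨d, hd⟩ : ((Finset.univ \ S').erase (g x)).Nonempty := by
        rw [← Finset.card_pos, Finset.card_erase_of_mem
          (Finset.mem_sdiff.2 ⟨Finset.mem_univ _, hxo⟩), Finset.card_sdiff_of_subset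
          (Finset.subset_univ _), Finset.card_univ]
        omega
      simp only [Finset.mem_erase, Finset.mem_sdiff, Finset.mem_univ, true_and] at hd
      obtain ⟨h, hh, hfix, -, hne⟩ := breakExit S' (by omega) x hx hxo d hd.2 hd.1
      have h1 := (small h hh hne).trans (Finset.card_le_card (support_div_subset g h S' hfix))
      have h2 : ((g.support ∪ g.support.map h.toEmbedding) \ (S'.filter fun y => g y ∈ S')).card ≤
          (Finset.univ \ (S'.filter fun y => g y ∈ S')).card :=
        Finset.card_le_card (Finset.sdiff_subset_sdiff (Finset.subset_univ _) le_rfl)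
      rw [Finset.card_sdiff_of_subset (Finset.subset_univ (S'.filter fun y => g y ∈ S')),
        Finset.card_univ] at h2
      have h3 := hDne.card_pos
      omega

/-- A primitive group with a non-trivial element moving at most three points contains the
alternating group. -/
theorem alternating_le_of_support_le_three {G : Subgroup (Equiv.Perm α)}
    (hG : IsPreprimitive G α) {h : Equiv.Perm α} (hh : h ∈ G) (h1 : h ≠ 1)
    (hs : h.support.card ≤ 3) : alternatingGroup α ≤ G := by
  have h2 : 2 ≤ h.support.card := Equiv.Perm.two_le_card_support_of_ne_one h1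
  rcases (by omega : h.support.card = 2 ∨ h.support.card = 3) with hc | hc
  · rw [Equiv.Perm.subgroup_eq_top_of_isPreprimitive_of_isSwap_mem hG h
      (Equiv.Perm.card_support_eq_two.1 hc) hh]
    exact le_top
  · exact Equiv.Perm.alternatingGroup_le_of_isPreprimitive_of_isThreeCycle_mem hG
      (card_support_eq_three_iff.1 hc) hh

end Cfsg.Agent.PermJordan
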