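import Cfsg.Agent.Lib.PhanExtend47

/-!
A coherent chain of homomorphisms of `SU 3` blocks with the Phan commutation relations extends to a
homomorphism of `SU N`.
-/

set_option autoImplicit false
set_option linter.unusedSectionVars false

namespace Cfsg.Agent.PhanChain47

open Cfsg Cfsg.Agent.OrthUnitaryHerm Cfsg.Agent.OrthUnitaryTransvection Cfsg.Agent.PhanBlocks47
open Cfsg.Agent.PhanCoset47 (emb_emb')
open scoped Matrix

universe u v

variable {F : Type u} [Field F] [Fintype F] {q : ℕ}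

/-- The elements of the blocks of length two and three. -/
def genSet (F : Type u) [Field F] [Fintype F] (q L : ℕ) : Set (SU L F q) :=
  {x | (∃ (k : ℕ) (h : k + 2 ≤ L) (a : SU 2 F q), emb k h a = x) ∨
    ∃ (k : ℕ) (h : k + 3 ≤ L) (b : SU 3 F q), emb k h b = x}

theorem gen_blocks (hF : Fintype.card F = q ^ 2) : ∀ L : ℕ, 2 ≤ L →
    Subgroup.closure (genSet F q L) = ⊤ := by
  intro L
  induction L with
  | zero => intro h; omega
  | succ k ih =>
    intro h
    rw [eq_top_iff]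
    by_cases hk : k < 3
    · intro g _
      obtain rfl | rfl : k = 1 ∨ k = 2 := by omega
      · exact Subgroup.subset_closure (Or.inl ⟨0, by omega, g, emb_full g _⟩)
      · exact Subgroup.subset_closure (Or.inr ⟨0, by omega, g, emb_full g _⟩)
    rw [← gen_first (q := q) hF (k := k) (by omega) (Or.inl (by omega)), sup_le_iff]
    constructor
    · rintro _ ⟨a, rfl⟩
      exact Subgroup.subset_closure (Or.inl ⟨0, by omega, a, rfl⟩)
    · rw [MonoidHom.range_eq_map, ← ih (by omega), MonoidHom.map_closure, Subgroup.closure_le]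
      rintro _ ⟨x, hx, rfl⟩
      rcases hx with ⟨i, hi, a, rfl⟩ | ⟨i, hi, a, rfl⟩
      · exact Subgroup.subset_closure (Or.inl ⟨1 + i, by omega, a, (emb_emb hi _ _ a).symm⟩)
      · exact Subgroup.subset_closure (Or.inr ⟨1 + i, by omega, a, (emb_emb hi _ _ a).symm⟩)

/-- The data of a coherent chain. -/
structure Chain (F : Type u) [Field F] [Fintype F] (q N : ℕ) (G : Type v) [Group G] where
  hF : Fintype.card F = q ^ 2
  ψ : ∀ k : ℕ, k + 2 ≤ N → (SU 2 F q →* G)
  f : ∀ k : ℕ, k + 3 ≤ N → (SU 3 F q →* G)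
  h0 : ∀ (k : ℕ) (h : k + 3 ≤ N) (a : SU 2 F q), f k h (emb 0 (by omega) a) = ψ k (by omega) a
  h1 : ∀ (k : ℕ) (h : k + 3 ≤ N) (a : SU 2 F q), f k h (emb 1 (by omega) a) = ψ (k + 1) (by omega) a
  c22 : ∀ (i j : ℕ) (hi : i + 2 ≤ N) (hj : j + 2 ≤ N), i + 2 ≤ j →
    ∀ a b, Commute (ψ i hi a) (ψ j hj b)
  c23 : ∀ (i j : ℕ) (hi : i + 2 ≤ N) (hj : j + 3 ≤ N), (i + 2 ≤ j ∨ j + 3 ≤ i) →
    ∀ a b, Commute (ψ i hi a) (f j hj b)
  c33 : ∀ (i j : ℕ) (hi : i + 3 ≤ N) (hj : j + 3 ≤ N), i + 3 ≤ j →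
    ∀ a b, Commute (f i hi a) (f j hj b)

variable {N : ℕ} {G : Type v} [Group G] (C : Chain F q N G)

/-- `φ` restricts to the chain on the interval starting at `a`. -/
structure Good {L : ℕ} (a : ℕ) (φ : SU L F q →* G) : Prop where
  le : a + L ≤ N
  pair : ∀ (k : ℕ) (h : k + 2 ≤ L) (x : SU 2 F q), φ (emb k h x) = C.ψ (a + k) (by omega) x
  triple : ∀ (k : ℕ) (h : k + 3 ≤ L) (x : SU 3 F q), φ (emb k h x) = C.f (a + k) (by omega) x

theorem ψ_congr {k k' : ℕ} (e : k = k') (h : k + 2 ≤ N) (h' : k' + 2 ≤ N) : C.ψ k h = C.ψ k' h' := by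
  subst e; rfl

theorem f_congr {k k' : ℕ} (e : k = k') (h : k + 3 ≤ N) (h' : k' + 3 ≤ N) : C.f k h = C.f k' h' := by
  subst e; rfl

theorem Good.unique {L a : ℕ} (hL : 2 ≤ L) {φ φ' : SU L F q →* G} (h : Good C a φ) (h' : Good C a φ') :
    φ = φ' := by
  refine MonoidHom.eq_of_eqOn_dense (gen_blocks C.hF L hL) ?_
  rintro _ (⟨k, hk, x, rfl⟩ | ⟨k, hk, x, rfl⟩)
  · rw [h.pair, h'.pair]
  · rw [h.triple, h'.triple]

theorem Good.sub {L l a b : ℕ} {φ : SU L F q →* G} (h : Good C a φ) (hb : b + l ≤ L) :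
    Good C (a + b) (φ.comp (emb b hb)) where
  le := by have := h.le; omega
  pair k hk x := by
    rw [MonoidHom.comp_apply, emb_emb hk hb (by omega), h.pair (b + k) (by omega) x,
      ψ_congr C (Nat.add_assoc a b k).symm]
  triple k hk x := by
    rw [MonoidHom.comp_apply, emb_emb hk hb (by omega), h.triple (b + k) (by omega) x,
      f_congr C (Nat.add_assoc a b k).symm]

theorem Good.commute {K L a b : ℕ} (hK : 2 ≤ K) (hL : 2 ≤ L) {φ : SU K F q →* G} {φ' : SU L F q →* G}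
    (h : Good C a φ) (h' : Good C b φ') (hab : a + K ≤ b) (x : SU K F q) (y : SU L F q) :
    Commute (φ x) (φ' y) := by
  have key : ∀ x ∈ genSet F q K, Commute (φ x) (φ' y) := by
    intro x hx
    suffices ∀ y' : SU L F q, y' ∈ (Subgroup.centralizer {φ x}).comap φ' from
      (Subgroup.mem_centralizer_singleton_iff.1 (this y)).symm
    intro y'
    have htop : (⊤ : Subgroup (SU L F q)) ≤ (Subgroup.centralizer {φ x}).comap φ' := by
      rw [← gen_blocks C.hF L hL, Subgroup.closure_le]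
      intro z hz
      show φ' z ∈ Subgroup.centralizer {φ x}
      rw [Subgroup.mem_centralizer_singleton_iff]
      rcases hx with ⟨k, hk, u, rfl⟩ | ⟨k, hk, u, rfl⟩ <;> rcases hz with ⟨l, hl, w, rfl⟩ | ⟨l, hl, w, rfl⟩
      · rw [h.pair, h'.pair]; exact (C.c22 _ _ _ _ (by omega) u w).eq.symm
      · rw [h.pair, h'.triple]; exact (C.c23 _ _ _ _ (Or.inl (by omega)) u w).eq.symm
      · rw [h.triple, h'.pair]; exact (C.c23 _ _ _ _ (Or.inr (by omega)) w u).eq
      · rw [h.triple, h'.triple]; exact (C.c33 _ _ _ _ (by omega) u w).eq.symm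
    exact htop (Subgroup.mem_top y')
  have htop : (⊤ : Subgroup (SU K F q)) ≤ (Subgroup.centralizer {φ' y}).comap φ := by
    rw [← gen_blocks C.hF K hK, Subgroup.closure_le]
    intro z hz
    show φ z ∈ Subgroup.centralizer {φ' y}
    rw [Subgroup.mem_centralizer_singleton_iff]
    exact (key z hz).eq
  exact Subgroup.mem_centralizer_singleton_iff.1 (htop (Subgroup.mem_top x))

theorem good_three (a : ℕ) (h : a + 3 ≤ N) : Good C a (C.f a h) where
  le := h
  pair k hk x := by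
    obtain rfl | rfl : k = 0 ∨ k = 1 := by omega
    · exact C.h0 a h x
    · exact C.h1 a h x
  triple k hk x := by
    obtain rfl : k = 0 := by omega
    rw [emb_full]
    rfl

/-- Extending two overlapping good homomorphisms. -/
theorem good_step {m a : ℕ} (hm : 2 ≤ m) (hq : 3 ≤ m ∨ 4 ≤ q) {φ1 φ2 : SU (m + 1) F q →* G}
    (g1 : Good C a φ1) (g2 : Good C (a + 1) φ2) : ∃ φ : SU (m + 2) F q →* G, Good C a φ := by
  have h1m : (1 : ℕ) + m ≤ m + 1 := by omega
  have h0m : (0 : ℕ) + m ≤ m + 1 := by omega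
  have agree : φ1.comp (emb 1 h1m) = φ2.comp (emb 0 h0m) := Good.unique C hm (g1.sub C h1m) (g2.sub C h0m)
  obtain ⟨φ, e1, e2⟩ := Cfsg.Agent.PhanCoset47.exists_extension C.hF hm hq φ1 φ2
    (fun x => DFunLike.congr_fun agree x)
    (fun x y => (g1.sub C h0m).commute C hm (le_refl 2) (g2.sub C (l := 2) (b := m - 1) (by omega))
      (by omega) x y)
    (fun x y => (g1.sub C (l := 2) (b := 0) (by omega)).commute C (le_refl 2) hm (g2.sub C h1m)
      (by omega) x y)
    (fun h3 x y ha => (g1.sub C ha).commute C (by omega) (by omega)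
      (g2.sub C (l := m - 1) (b := 2) (by omega)) (by omega) x y)
  refine ⟨φ, ⟨by have := g2.le; omega, fun k hk x => ?_, fun k hk x => ?_⟩⟩
  · rcases Nat.eq_zero_or_pos k with rfl | hk0
    · have h : emb (n := m + 2) 0 hk x = emb 0 (by omega) (emb (n := m + 1) 0 (by omega) x) :=
        (emb_emb' (a := 0) (b := 0) _ _ _ rfl x).symm
      rw [h, show φ (emb 0 _ (emb 0 _ x)) = φ1 (emb 0 (by omega) x) from DFunLike.congr_fun e1 _, g1.pair]
    · have h : emb (n := m + 2) k hk x = emb 1 (by omega) (emb (n := m + 1) (k - 1) (by omega) x) :=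
        (emb_emb' (a := k - 1) (b := 1) _ _ _ (by omega) x).symm
      rw [h, show φ (emb 1 _ (emb (k - 1) _ x)) = φ2 (emb (k - 1) (by omega) x) from DFunLike.congr_fun e2 _,
        g2.pair, ψ_congr C (by omega : a + 1 + (k - 1) = a + k)]
  · rcases Nat.eq_zero_or_pos k with rfl | hk0
    · have h : emb (n := m + 2) 0 hk x = emb 0 (by omega) (emb (n := m + 1) 0 (by omega) x) :=
        (emb_emb' (a := 0) (b := 0) _ _ _ rfl x).symm
      rw [h, show φ (emb 0 _ (emb 0 _ x)) = φ1 (emb 0 (by omega) x) from DFunLike.congr_fun e1 _, g1.triple]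
    · have h : emb (n := m + 2) k hk x = emb 1 (by omega) (emb (n := m + 1) (k - 1) (by omega) x) :=
        (emb_emb' (a := k - 1) (b := 1) _ _ _ (by omega) x).symm
      rw [h, show φ (emb 1 _ (emb (k - 1) _ x)) = φ2 (emb (k - 1) (by omega) x) from DFunLike.congr_fun e2 _,
        g2.triple, f_congr C (by omega : a + 1 + (k - 1) = a + k)]

theorem exists_good (hbase : 4 ≤ q ∨ ∀ a, a + 4 ≤ N → ∃ φ : SU 4 F q →* G, Good C a φ) :
    ∀ L : ℕ, 3 ≤ L → ∀ a : ℕ, a + L ≤ N → ∃ φ : SU L F q →* G, Good C a φ := by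
  intro L
  induction L with
  | zero => intro h; omega
  | succ k ih =>
    intro h a ha
    rcases Nat.lt_or_ge k 3 with hk | hk
    · obtain rfl : k = 2 := by omega
      exact ⟨C.f a ha, good_three C a ha⟩
    obtain ⟨m, rfl⟩ : ∃ m, k = m + 1 := ⟨k - 1, by omega⟩
    obtain ⟨φ1, g1⟩ := ih hk a (by omega)
    obtain ⟨φ2, g2⟩ := ih hk (a + 1) (by omega)
    rcases Nat.lt_or_ge m 3 with hm | hm
    · rcases hbase with hq | hb
      · exact good_step C (by omega) (Or.inr hq) g1 g2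
      · obtain rfl : m = 2 := by omega
        exact hb a ha
    · exact good_step C (by omega) (Or.inl hm) g1 g2

/-- The homomorphism of `SU N`. -/
theorem exists_hom (hN : 3 ≤ N) (hbase : 4 ≤ q ∨ ∀ a, a + 4 ≤ N → ∃ φ : SU 4 F q →* G, Good C a φ) :
    ∃ φ : SU N F q →* G, (∀ k h, (C.ψ k h).range ≤ φ.range) ∧ ∀ k h, (C.f k h).range ≤ φ.range := by
  obtain ⟨φ, g⟩ := exists_good C hbase N hN 0 (by omega)
  refine ⟨φ, fun k h => ?_, fun k h => ?_⟩
  · rintro _ ⟨x, rfl⟩
    exact ⟨emb k h x, by rw [g.pair, ψ_congr C (Nat.zero_add k)]⟩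
  · rintro _ ⟨x, rfl⟩
    exact ⟨emb k h x, by rw [g.triple, f_congr C (Nat.zero_add k)]⟩

end Cfsg.Agent.PhanChain47
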