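import Cfsg.Agent.Lib.PhanAut47
import Cfsg.Agent.Lib.PhanChain47
import Cfsg.Prelude.Def_PhanSystems

/-!
A weak Phan system of unitary type gives a coherent chain of homomorphisms of `SU 3`.
-/

set_option autoImplicit false
set_option linter.unusedSectionVars false

namespace Cfsg.Agent.PhanAlign47

open Cfsg Cfsg.Agent.OrthUnitaryHerm Cfsg.Agent.OrthUnitaryTransvection Cfsg.Agent.PhanBlocks47
open Cfsg.Agent.PhanAut47
open scoped Matrix

universe u v

variable {F : Type u} [Field F] [Fintype F] {q : ℕ}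

/-- The block on the coordinates `0, 1`. -/
abbrev B0 : SU 2 F q →* SU 3 F q := emb 0 (by omega)

/-- The block on the coordinates `1, 2`. -/
abbrev B1 : SU 2 F q →* SU 3 F q := emb 1 (by omega)

theorem mat_apply {n : ℕ} (g : SU n F q) (i j : Fin n) : mat g i j = act g (Pi.single j 1) i := by
  simp [act, mat]

theorem mat_emb {m n : ℕ} (a : ℕ) (h : a + m ≤ n) (g : SU m F q) :
    mat (emb a h g) = embMat a h (mat g) := rfl

theorem mat_B0 (g : SU 2 F q) :
    mat (B0 g) = !![mat g 0 0, mat g 0 1, 0; mat g 1 0, mat g 1 1, 0; 0, 0, 1] := by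
  rw [mat_emb]
  refine Matrix.ext fun i j => ?_
  fin_cases i <;> fin_cases j <;> rfl

theorem mat_B1 (g : SU 2 F q) :
    mat (B1 g) = !![1, 0, 0; 0, mat g 0 0, mat g 0 1; 0, mat g 1 0, mat g 1 1] := by
  rw [mat_emb]
  refine Matrix.ext fun i j => ?_
  fin_cases i <;> fin_cases j <;> rfl

/-! ### Twists -/

/-- The diagonal matrix changing the first coordinate. -/
def dia {n : ℕ} (x : F) : Matrix (Fin n) (Fin n) F := Matrix.diagonal fun i => if (i : ℕ) = 0 then x else 1

theorem dia_isU {n : ℕ} {x : F} (hx : x * x ^ q = 1) : IsU q (dia (n := n) x) := by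
  intro u v
  simp only [hermForm, dia, Matrix.mulVec_diagonal, mul_pow]
  refine Finset.sum_congr rfl fun i _ => ?_
  split_ifs
  · linear_combination (u i * v i ^ q) * hx
  · simp

theorem map_isU {n : ℕ} (τ : F ≃+* F) {A : Matrix (Fin n) (Fin n) F} (hA : IsU q A) : IsU q (A.map τ) := by
  intro u v
  have e : ∀ w : Fin n → F, A.map τ *ᵥ w = fun i => τ ((A *ᵥ fun j => τ.symm (w j)) i) := fun w => by
    funext i
    simp [Matrix.mulVec, dotProduct, map_sum]
  have h := congrArg τ (hA (fun j => τ.symm (u j)) fun j => τ.symm (v j))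
  rw [e, e]
  simpa [hermForm, map_sum] using h

/-- An entrywise field automorphism followed by conjugation by a diagonal isometry. -/
def twist {n : ℕ} (τ : F ≃+* F) (μ : F) (hμ : μ * μ ^ q = 1) : SU n F q →* SU n F q where
  toFun g := mkSU (dia μ * (mat g).map τ * dia (μ ^ q))
    (by
      have hd : ((mat g).map τ).det = 1 :=
        ((RingHom.map_det (τ : F →+* F) (mat g)).symm).trans ((congrArg _ g.1.2).trans (map_one _))
      have he : (dia (n := n) μ).det * (dia (n := n) (μ ^ q)).det = 1 := by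
        rw [dia, dia, Matrix.det_diagonal, Matrix.det_diagonal, ← Finset.prod_mul_distrib]
        exact Finset.prod_eq_one fun i _ => by split_ifs <;> simp [hμ]
      rw [Matrix.det_mul, Matrix.det_mul, hd, mul_one, he])
    (((dia_isU hμ).mul (map_isU τ (isU_of_mem_SU g))).mul (dia_isU (by rw [← mul_pow, hμ, one_pow])))
  map_one' := mat_ext (by
    show dia μ * ((1 : Matrix (Fin n) (Fin n) F)).map τ * dia (μ ^ q) = 1
    rw [Matrix.map_one _ (map_zero τ) (map_one τ), Matrix.mul_one, dia, dia, Matrix.diagonal_mul_diagonal]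
    rw [← Matrix.diagonal_one]
    congr 1
    funext i
    split_ifs <;> simp [hμ])
  map_mul' g h := mat_ext (by
    show dia μ * (mat g * mat h).map τ * dia (μ ^ q) =
      (dia μ * (mat g).map τ * dia (μ ^ q)) * (dia μ * (mat h).map τ * dia (μ ^ q))
    have e : dia (n := n) (μ ^ q) * dia (n := n) μ = 1 := by
      rw [dia, dia, Matrix.diagonal_mul_diagonal, ← Matrix.diagonal_one]
      congr 1
      funext i
      split_ifs <;> simp [mul_comm _ μ, hμ]
    rw [show (mat g * mat h).map τ = (mat g).map τ * (mat h).map τ from Matrix.map_mul (f := (τ : F →+* F))]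
    simp only [Matrix.mul_assoc]
    rw [← Matrix.mul_assoc (dia (μ ^ q)) (dia μ), e, Matrix.one_mul])

theorem mat_twist {n : ℕ} (τ : F ≃+* F) (μ : F) (hμ : μ * μ ^ q = 1) (g : SU n F q) (i j : Fin n) :
    mat (twist τ μ hμ g) i j =
      (if (i : ℕ) = 0 then μ else 1) * τ (mat g i j) * (if (j : ℕ) = 0 then μ ^ q else 1) := by
  show (dia (n := n) μ * (mat g).map τ * dia (n := n) (μ ^ q) : Matrix (Fin n) (Fin n) F) i j = _
  rw [dia, dia, Matrix.mul_diagonal, Matrix.diagonal_mul, Matrix.map_apply]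

theorem twist_injective {n : ℕ} (τ : F ≃+* F) (μ : F) (hμ : μ * μ ^ q = 1) :
    Function.Injective (twist (n := n) τ μ hμ) := by
  have hμ0 : μ ≠ 0 := fun h => by simp [h] at hμ
  intro g h e
  refine mat_ext (Matrix.ext fun i j => τ.injective ?_)
  have := congrArg (fun x : SU n F q => mat x i j) e
  simp only [mat_twist] at this
  refine mul_left_cancel₀ ?_ (mul_right_cancel₀ ?_ this) <;> split_ifs <;> simp [hμ0]

/-! ### Standard homomorphisms -/

variable {G : Type v} [Group G]

/-- A homomorphism of `SU 3` injective on both blocks. -/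
structure Std (f : SU 3 F q →* G) : Prop where
  ker_le : f.ker ≤ Subgroup.center (SU 3 F q)
  inj0 : Function.Injective (f.comp B0)
  inj1 : Function.Injective (f.comp B1)

theorem fix_of_central (hF : Fintype.card F = q ^ 2) {z : SU 3 F q} (hz : z ∈ Subgroup.center (SU 3 F q))
    {k : Fin 3} (h : act z (Pi.single k 1) = Pi.single k 1) : z = 1 := by
  have key : ∀ j : Fin 3, act z (Pi.single j 1) = Pi.single j 1 := fun j => by
    obtain ⟨g, hg⟩ := trans_norm hF (by omega : 2 ≤ 3) (u := Pi.single k (1 : F)) (v := Pi.single j 1)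
      (by rw [herm_single_self hF, herm_single_self hF]) (by rw [herm_single_self hF]; exact one_ne_zero)
    rw [← hg, ← act_mul, ← Subgroup.mem_center_iff.1 hz g, act_mul, h]
  refine mat_ext (Matrix.ext fun i j => ?_)
  rw [mat_apply, key]
  show _ = (1 : Matrix (Fin 3) (Fin 3) F) i j
  simp [Matrix.one_apply, Pi.single_apply]

theorem std_of_ker (hF : Fintype.card F = q ^ 2) {f : SU 3 F q →* G}
    (hk : f.ker ≤ Subgroup.center (SU 3 F q)) : Std f := by
  refine ⟨hk, ?_, ?_⟩ <;> rw [injective_iff_map_eq_one] <;> intro a ha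
  · refine emb_injective _ _ ((fix_of_central hF (hk ha) (k := 2) ?_).trans (map_one _).symm)
    refine vec_ext 0 (by omega : 0 + 2 ≤ 3) (fun i => ?_) fun k hk' => emb_out 0 _ a _ hk'
    rw [emb_idx, show slice 0 (by omega : 0 + 2 ≤ 3) (Pi.single (2 : Fin 3) (1 : F)) = 0 from funext fun j => by
      fin_cases j <;> simp [slice, idx], act_zero]
    fin_cases i <;> simp [idx]
  · refine emb_injective _ _ ((fix_of_central hF (hk ha) (k := 0) ?_).trans (map_one _).symm)
    refine vec_ext 1 (by omega : 1 + 2 ≤ 3) (fun i => ?_) fun k hk' => emb_out 1 _ a _ hk'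
    rw [emb_idx, show slice 1 (by omega : 1 + 2 ≤ 3) (Pi.single (0 : Fin 3) (1 : F)) = 0 from funext fun j => by
      fin_cases j <;> simp [slice, idx], act_zero]
    fin_cases i <;> simp [idx]

/-- The diagonal elements of the second block normalise the first block. -/
theorem torus_conj (hF : Fintype.card F = q ^ 2) {d : SU 2 F q} (hd : d ∈ torus F q) (x : SU 2 F q) :
    ∃ x', B1 d * B0 x * (B1 d)⁻¹ = B0 x' ∧ mat x' 0 0 = mat x 0 0 ∧
      mat x' 0 1 = mat d 0 0 ^ q * mat x 0 1 := by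
  obtain ⟨h1, h2, h3⟩ := shape hF x
  obtain ⟨g1, g2, g3⟩ := shape hF d
  rw [show mat d 0 1 = 0 from hd, zero_mul, add_zero] at g3
  rw [show mat d 0 1 = 0 from hd, zero_pow (q_ne_zero hF), neg_zero] at g1
  set l := mat d 0 0
  refine ⟨mk2 hF (mat x 0 0) (l ^ q * mat x 0 1) ?_, ?_, rfl, rfl⟩
  · rw [mul_pow, pow_q_q hF]
    linear_combination h3 + (mat x 0 1 * mat x 0 1 ^ q) * g3
  · rw [mul_inv_eq_iff_eq_mul]
    refine mat_ext ?_
    rw [PhanAut47.mat_mul, PhanAut47.mat_mul, mat_B0, mat_B0, mat_B1, mat_mk2, g1, g2,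
      show mat d 0 1 = 0 from hd, h1, h2]
    refine Matrix.ext fun i j => ?_
    fin_cases i <;> fin_cases j <;>
      simp [Matrix.mul_apply, Fin.sum_univ_three, mul_pow, pow_q_q hF]
    all_goals (first | exact Or.inl rfl | ring1 | linear_combination -(mat x 0 1) * g3 | linear_combination (mat x 0 1) * g3)

/-- An element of the second block normalising the first one is diagonal. -/
theorem torus_of_normalizes (hF : Fintype.card F = q ^ 2) {f : SU 3 F q →* G} (hf : Std f) {g : SU 2 F q}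
    (hg : ∀ x, f (B1 g) * f (B0 x) * (f (B1 g))⁻¹ ∈ (f.comp B0).range) : g ∈ torus F q := by
  set y : SU 2 F q := mk2 hF 0 1 (by simp [zero_pow (q_ne_zero hF)]) with hy
  obtain ⟨x', hx'⟩ := hg y
  have hz : B1 g * B0 y * (B1 g)⁻¹ * (B0 x')⁻¹ ∈ f.ker := by
    rw [MonoidHom.mem_ker, map_mul, map_mul, map_mul, map_inv, map_inv, ← hx']
    exact mul_inv_cancel _
  set z := B1 g * B0 y * (B1 g)⁻¹ * (B0 x')⁻¹ with hzd
  have hsc := center_SU_scalar hF (by omega : 2 ≤ 3) (hf.ker_le hz)
  set c := mat z 0 0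
  have hc : mat z = c • (1 : Matrix (Fin 3) (Fin 3) F) := Matrix.ext fun i j => by
    rw [Matrix.smul_apply, Matrix.one_apply, smul_eq_mul, mul_ite, mul_one, mul_zero]
    exact hsc i j
  set e2 : Fin 3 → F := Pi.single 2 1
  have hx2 : act (B0 x') e2 = e2 := by
    refine vec_ext 0 (by omega : 0 + 2 ≤ 3) (fun i => ?_) fun k hk' => emb_out 0 _ x' _ hk'
    rw [emb_idx, show slice 0 (by omega : 0 + 2 ≤ 3) e2 = 0 from funext fun j => by
      fin_cases j <;> simp [slice, idx, e2], act_zero]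
    fin_cases i <;> simp [idx, e2]
  set v := act (B1 g)⁻¹ e2 with hv
  have hyv : act (B0 y) v = c • v := by
    have e : B0 y = (B1 g)⁻¹ * z * B0 x' * B1 g := by rw [hzd]; group
    have hzc : act z e2 = c • e2 := by
      show mat z *ᵥ e2 = c • e2
      rw [show mat z = c • (1 : Matrix (Fin 3) (Fin 3) F) from hc, Matrix.smul_mulVec, Matrix.one_mulVec]
    rw [hv, ← act_mul, e, mul_assoc _ (B1 g) (B1 g)⁻¹, mul_inv_cancel, mul_one, act_mul, act_mul, hx2, hzc,
      act_smul]
  have hv0 : v 0 = 0 := by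
    rw [hv, ← map_inv, emb_out 1 _ g⁻¹ _ (by simp [InR])]
    simp [e2]
  have hv1 : v 1 = 0 := by
    have h := congrFun hyv 0
    rw [show (0 : Fin 3) = idx 0 (by omega : 0 + 2 ≤ 3) 0 from rfl, emb_idx, hy, act_mk2] at h
    simp [slice, idx] at h
    rw [hv0, mul_zero] at h
    exact h
  have h01 : mat g⁻¹ 0 1 = 0 := by
    rw [mat_apply, ← hv1, hv, ← map_inv, show (1 : Fin 3) = idx 1 (by omega : 1 + 2 ≤ 3) 0 from rfl, emb_idx]
    congr 2
    funext i
    fin_cases i <;> simp [slice, idx, e2]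
  obtain ⟨g1, g2, g3⟩ := shape hF g⁻¹
  show mat g 0 1 = 0
  have h : (mat g⁻¹ * mat g) 0 1 = 0 := by
    rw [← PhanAut47.mat_mul, inv_mul_cancel]
    simp [mat]
  rw [Matrix.mul_apply, Fin.sum_univ_two, h01, zero_mul, add_zero] at h
  rcases mul_eq_zero.1 h with h' | h'
  · rw [h', h01] at g3; simp at g3
  · exact h'

/-- Re-parametrise the right neighbour so that it agrees on the common block. -/
theorem exists_align (hF : Fintype.card F = q ^ 2) {f f' : SU 3 F q →* G} (hf : Std f) (hf' : Std f')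
    (hU : (f.comp B1).range = (f'.comp B0).range)
    (hc : ∀ x y, Commute (f (B0 x)) (f' (B1 y))) :
    ∃ β : SU 3 F q →* SU 3 F q, Function.Bijective β ∧ (∀ x, f' (β (B0 x)) = f (B1 x)) ∧
      Std (f'.comp β) ∧ ((f'.comp β).comp B1).range = (f'.comp B1).range := by
  classical
  let eR := MonoidHom.ofInjective hf.inj1
  let eL := MonoidHom.ofInjective hf'.inj0
  let α : MulAut (SU 2 F q) := (eR.trans (MulEquiv.subgroupCongr hU)).trans eL.symm
  have hα : ∀ x, f' (B0 (α x)) = f (B1 x) := fun x => by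
    have : eL (α x) = MulEquiv.subgroupCongr hU (eR x) := eL.apply_symm_apply _
    exact congrArg Subtype.val this
  -- `α` preserves the torus
  have hstab : ∀ d ∈ torus F q, ∀ lam ∈ torus F q, ∀ y', B1 lam * B0 (α d) * (B1 lam)⁻¹ = B0 y' →
      α.symm y' ∈ torus F q := by
    intro d hd lam hlam y' hy'
    refine torus_of_normalizes hF hf fun x => ?_
    set s := f' (B1 lam)
    have hs : ∀ x, s * f (B0 x) * s⁻¹ = f (B0 x) := fun x => by
      rw [← (hc x lam).eq, mul_inv_cancel_right]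
    have hy : f (B1 (α.symm y')) = s * f (B1 d) * s⁻¹ := by
      rw [← hα, MulEquiv.apply_symm_apply, ← hy', map_mul, map_mul, map_inv, hα]
    obtain ⟨x'', hx'', -⟩ := torus_conj hF hd x
    refine ⟨x'', ?_⟩
    show f (B0 x'') = _
    rw [hy, ← hx'', map_mul, map_mul, map_inv]
    have h2 := hs (x'')
    rw [← hx'', map_mul, map_mul, map_inv] at h2
    rw [← h2]
    have h3 := hs x
    calc s * (f (B1 d) * f (B0 x) * (f (B1 d))⁻¹) * s⁻¹
        = (s * f (B1 d) * s⁻¹) * (s * f (B0 x) * s⁻¹) * (s * f (B1 d) * s⁻¹)⁻¹ := by group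
      _ = _ := by rw [h3]
  have hpres : ∀ d ∈ torus F q, α d ∈ torus F q := by
    intro d hd
    by_contra hne
    set b := mat (α d) 0 1
    have hb : b ≠ 0 := hne
    have hone : ∀ u : {x : Fˣ // x ^ (q + 1) = 1}, (u.1 : F) * (u.1 : F) ^ q = 1 := fun u => by
      rw [← pow_succ']
      simpa using congrArg Units.val u.2
    let lam : {x : Fˣ // x ^ (q + 1) = 1} → SU 2 F q := fun u => mk2 hF (u.1 : F) 0 (by
      rw [zero_mul, add_zero, hone u])
    have hlam : ∀ u, lam u ∈ torus F q := fun u => rfl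
    let y : {x : Fˣ // x ^ (q + 1) = 1} → SU 2 F q := fun u => (torus_conj hF (hlam u) (α d)).choose
    have hy : ∀ u, B1 (lam u) * B0 (α d) * (B1 (lam u))⁻¹ = B0 (y u) ∧ mat (y u) 0 1 = (u.1 : F) ^ q * b :=
      fun u => ⟨(torus_conj hF (hlam u) (α d)).choose_spec.1, (torus_conj hF (hlam u) (α d)).choose_spec.2.2⟩
    let Φ : Option {x : Fˣ // x ^ (q + 1) = 1} → torus F q := fun o => o.elim ⟨1, by simp [torus, mat]⟩
      fun u => ⟨α.symm (y u), hstab d hd _ (hlam u) _ (hy u).1⟩
    have hinj : Function.Injective Φ := by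
      have hne1 : ∀ u, α.symm (y u) ≠ 1 := fun u h => by
        have h' : y u = 1 := by simpa using congrArg α h
        have := (hy u).2
        rw [h'] at this
        simp [mat, hb] at this
      rintro (_ | u) (_ | w) h
      · rfl
      · exact absurd (congrArg Subtype.val h).symm (hne1 w)
      · exact absurd (congrArg Subtype.val h) (hne1 u)
      · have h' : y u = y w := α.symm.injective (congrArg Subtype.val h)
        have e := (hy u).2.symm.trans ((congrArg (fun g => mat g 0 1) h').trans (hy w).2)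
        have e' := congrArg (fun x => x ^ q) (mul_right_cancel₀ hb e)
        simp only [pow_q_q hF] at e'
        exact congrArg some (Subtype.ext (Units.ext e'))
    have h := Nat.card_le_card_of_injective Φ hinj
    rw [card_torus hF, Finite.card_option, card_normOne hF] at h
    omega
  obtain ⟨τ, μ, hμ, hτ⟩ := aut_SU2 hF α hpres
  set β := twist (n := 3) τ μ hμ with hβ
  have hbij : Function.Bijective β := Finite.injective_iff_bijective.1 (twist_injective τ μ hμ)
  have hμ' : μ ^ q * μ = 1 := by rw [mul_comm]; exact hμ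
  have h0 : ∀ x, β (B0 x) = B0 (α x) := fun x => by
    obtain ⟨a1, a2, -⟩ := shape hF x
    obtain ⟨b1, b2, -⟩ := shape hF (α x)
    refine mat_ext (Matrix.ext fun i j => ?_)
    rw [hβ, mat_twist, mat_B0, mat_B0, b1, b2, a1, a2, (hτ x).1, (hτ x).2]
    fin_cases i <;> fin_cases j <;>
      simp [mul_pow, mul_assoc, mul_left_comm μ, mul_comm μ, hμ']
  have h1 : ∀ x, β (B1 x) = B1 (twist τ 1 (by simp) x) := fun x => by
    refine mat_ext (Matrix.ext fun i j => ?_)
    rw [hβ, mat_twist, mat_B1, mat_B1, mat_twist, mat_twist, mat_twist, mat_twist]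
    fin_cases i <;> fin_cases j <;> simp [hμ]
  refine ⟨β, hbij, fun x => by rw [h0, hα], std_of_ker hF ?_, ?_⟩
  · intro z hz
    have hz' : β z ∈ Subgroup.center (SU 3 F q) := hf'.ker_le (by simpa using hz)
    rw [Subgroup.mem_center_iff] at hz' ⊢
    intro g
    apply hbij.1
    rw [map_mul, map_mul, hz']
  · refine le_antisymm ?_ ?_
    · rintro _ ⟨x, rfl⟩
      exact ⟨twist τ 1 (by simp) x, by simp only [MonoidHom.comp_apply, h1]⟩
    · rintro _ ⟨x, rfl⟩
      obtain ⟨y, rfl⟩ := (Finite.injective_iff_bijective.1 (twist_injective (n := 2) τ (1 : F) (by simp))).2 x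
      exact ⟨y, by simp only [MonoidHom.comp_apply, h1]⟩

/-! ### Reading off the hypotheses -/

theorem suBlock_eq (hF : Fintype.card F = q ^ 2) (a : ℕ) (h : a + 2 ≤ 3) (s : Set (Fin 3))
    (hs : ∀ k : Fin 3, k ∈ s ↔ InR a 2 k) : suBlock 3 F q s = (emb a h : SU 2 F q →* SU 3 F q).range := by
  refine le_antisymm ?_ ?_
  · rw [suBlock, Subgroup.closure_le]
    intro A hA
    obtain ⟨g, hg⟩ := exists_emb hF a h A (fun k hk => by
      obtain ⟨hkk, hkl⟩ := hA k (fun e => hk ((hs k).1 e))
      funext i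
      by_cases hi : i = k
      · subst hi; simp [act, hkk]
      · simpa [act, hi] using (hkl i hi).2)
    exact ⟨g, hg⟩
  · rintro _ ⟨g, rfl⟩
    refine Subgroup.subset_closure fun k hk => ?_
    have hk' : ¬ InR a 2 k := fun e => hk ((hs k).2 e)
    have key : ∀ l, mat (emb a h g) k l = (Pi.single l 1 : Fin 3 → F) k := fun l => by
      rw [mat_apply, emb_out a h g _ hk']
    have key' : act (emb a h g) (Pi.single k 1) = Pi.single k 1 := by
      refine vec_ext a h (fun i => ?_) fun j hj => emb_out a h g _ hj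
      rw [emb_idx, show slice a h (Pi.single k (1 : F)) = 0 from funext fun j => by
        rw [slice, Pi.single_eq_of_ne]; · rfl
        intro e; exact hk' (e ▸ inR_idx a h j), act_zero, Pi.single_eq_of_ne]
      · rfl
      · intro e; exact hk' (e ▸ inR_idx a h i)
    refine ⟨by show mat (emb a h g) k k = 1; rw [key, Pi.single_eq_same], fun l hl => ⟨?_, ?_⟩⟩
    · show mat (emb a h g) k l = 0
      rw [key, Pi.single_eq_of_ne (Ne.symm hl)]
    · show mat (emb a h g) l k = 0
      rw [mat_apply, key', Pi.single_eq_of_ne hl]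

theorem of_standard (hF : Fintype.card F = q ^ 2) {V A B : Subgroup G}
    (h : IsStandardUnitaryPair V A B F q) :
    ∃ f : SU 3 F q →* G, Std f ∧ f.range = V ∧ (f.comp B0).range = A ∧ (f.comp B1).range = B := by
  have e0 : suBlock 3 F q {0, 1} = (B0 : SU 2 F q →* SU 3 F q).range :=
    suBlock_eq hF 0 (by omega) _ fun k => by fin_cases k <;> simp [InR]
  have e1 : suBlock 3 F q {1, 2} = (B1 : SU 2 F q →* SU 3 F q).range :=
    suBlock_eq hF 1 (by omega) _ fun k => by fin_cases k <;> simp [InR]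
  rcases h with ⟨ψ, hA, hB⟩ | ⟨ψ, hA, hB⟩
  · refine ⟨V.subtype.comp ψ.toMonoidHom, std_of_ker hF ?_, ?_, ?_, ?_⟩
    · intro z hz
      have hz' : (V.subtype.comp ψ.toMonoidHom) z = 1 := hz
      have : ψ z = 1 := Subtype.ext hz'
      rw [MulEquiv.map_eq_one_iff] at this
      rw [this]; exact one_mem _
    · rw [MonoidHom.range_comp, MonoidHom.range_eq_top.2 ψ.surjective, ← MonoidHom.range_eq_map,
        Subgroup.range_subtype]
    · rw [← hA, e0, MonoidHom.range_comp]
    · rw [← hB, e1, MonoidHom.range_comp]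
  · refine ⟨V.subtype.comp (ψ.toMonoidHom.comp (QuotientGroup.mk' _)), std_of_ker hF ?_, ?_, ?_, ?_⟩
    · intro z hz
      have hz' : (V.subtype.comp (ψ.toMonoidHom.comp (QuotientGroup.mk' _))) z = 1 := hz
      have : ψ (QuotientGroup.mk' (Subgroup.center (SU 3 F q)) z) = 1 := Subtype.ext hz'
      rw [MulEquiv.map_eq_one_iff] at this
      exact (QuotientGroup.eq_one_iff z).1 this
    · rw [MonoidHom.range_comp, MonoidHom.range_comp, MonoidHom.range_eq_top.2 (QuotientGroup.mk'_surjective _),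
        ← MonoidHom.range_eq_map, MonoidHom.range_eq_top.2 ψ.surjective, ← MonoidHom.range_eq_map,
        Subgroup.range_subtype]
    · rw [← hA, e0, MonoidHom.range_comp]
    · rw [← hB, e1, MonoidHom.range_comp]

/-- A weak Phan system gives a coherent family of standard homomorphisms. -/
theorem exists_family (hF : Fintype.card F = q ^ 2) {n : ℕ} (U : Fin n → Subgroup G)
    (V : Fin n → Fin n → Subgroup G)
    (h1 : ∀ i j : Fin n, (i : ℕ) + 2 ≤ j → ∀ x ∈ U i, ∀ y ∈ U j, x * y = y * x)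
    (h2 : ∀ i j : Fin n, (i : ℕ) + 1 = j → IsStandardUnitaryPair (V i j) (U i) (U j) F q) :
    ∃ f : ∀ i : ℕ, i + 1 < n → (SU 3 F q →* G),
      (∀ (i : ℕ) (h : i + 1 < n), Std (f i h) ∧ (f i h).range = V ⟨i, by omega⟩ ⟨i + 1, h⟩ ∧
        ((f i h).comp B0).range = U ⟨i, by omega⟩ ∧ ((f i h).comp B1).range = U ⟨i + 1, h⟩) ∧
      ∀ (i : ℕ) (h : i + 2 < n) (x : SU 2 F q),
        f i (by omega) (B1 x) = f (i + 1) h (B0 x) := by
  classical
  let P : ∀ i : ℕ, i + 1 < n → (SU 3 F q →* G) → Prop := fun i h f =>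
    Std f ∧ f.range = V ⟨i, by omega⟩ ⟨i + 1, h⟩ ∧ (f.comp B0).range = U ⟨i, by omega⟩ ∧
      (f.comp B1).range = U ⟨i + 1, h⟩
  have hex : ∀ (i : ℕ) (h : i + 1 < n), ∃ f, P i h f := fun i h => of_standard hF (h2 _ _ rfl)
  have hstep : ∀ (i : ℕ) (h : i + 2 < n) (f : SU 3 F q →* G), P i (by omega) f →
      ∃ f', P (i + 1) h f' ∧ ∀ x, f (B1 x) = f' (B0 x) := by
    intro i h f hf
    obtain ⟨f', s1, s2, s3, s4⟩ := hex (i + 1) h
    obtain ⟨β, hb, hβ0, hβs, hβr⟩ := exists_align hF hf.1 s1 (hf.2.2.2.trans s3.symm) (fun x y =>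
      h1 ⟨i, by omega⟩ ⟨i + 1 + 1, h⟩ (le_refl _) _ (hf.2.2.1.le ⟨x, rfl⟩) _ (s4.le ⟨y, rfl⟩))
    refine ⟨f'.comp β, ⟨hβs, ?_, ?_, hβr.trans s4⟩, fun x => (hβ0 x).symm⟩
    · rw [MonoidHom.range_comp, MonoidHom.range_eq_top.2 hb.2, ← MonoidHom.range_eq_map, s2]
    · rw [← hf.2.2.2]
      refine MonoidHom.range_eq_map ((f'.comp β).comp B0) |>.trans ?_
      rw [show (f'.comp β).comp B0 = f.comp B1 from MonoidHom.ext hβ0, ← MonoidHom.range_eq_map]
  let seq : ∀ i : ℕ, ∀ h : i + 1 < n, {f : SU 3 F q →* G // P i h f} := fun i =>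
    Nat.rec (motive := fun i => ∀ h : i + 1 < n, {f : SU 3 F q →* G // P i h f})
      (fun h => ⟨(hex 0 h).choose, (hex 0 h).choose_spec⟩)
      (fun i ih h => ⟨(hstep i h (ih (by omega)).1 (ih (by omega)).2).choose,
        (hstep i h (ih (by omega)).1 (ih (by omega)).2).choose_spec.1⟩) i
  refine ⟨fun i h => (seq i h).1, fun i h => (seq i h).2, fun i h x => ?_⟩
  exact (hstep i h (seq i (by omega)).1 (seq i (by omega)).2).choose_spec.2 x

end Cfsg.Agent.PhanAlign47
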