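import Cfsg.Agent.Lib.PhanBlocks47
import Cfsg.Agent.Lib.AutPSLMain
import Cfsg.Agent.Lib.SL3Edge47
import Cfsg.Agent.Lib.SUMinDegree32Geom

/-!
The automorphisms of `SU 2` normalising the diagonal torus: entrywise field automorphisms composed with
conjugation by a diagonal isometry.
-/

set_option autoImplicit false
set_option linter.unusedSectionVars false

namespace Cfsg.Agent.PhanAut47

open Cfsg Cfsg.Agent.OrthUnitaryHerm Cfsg.Agent.OrthUnitaryTransvection Cfsg.Agent.PhanBlocks47
open scoped Matrix MatrixGroups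

universe u

variable {F : Type u} [Field F] [Fintype F] {q : ℕ}

/-- The matrix of an element of `SU n`. -/
abbrev mat {n : ℕ} (g : SU n F q) : Matrix (Fin n) (Fin n) F :=
  ((g : Matrix.SpecialLinearGroup (Fin n) F) : Matrix (Fin n) (Fin n) F)

theorem mat_ext {n : ℕ} {g h : SU n F q} (e : mat g = mat h) : g = h := Subtype.ext (Subtype.ext e)

theorem mat_mul {n : ℕ} (g h : SU n F q) : mat (g * h) = mat g * mat h := rfl

/-! ### The shape of `SU 2` -/

theorem shape (hF : Fintype.card F = q ^ 2) (g : SU 2 F q) :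
    mat g 1 0 = -(mat g 0 1) ^ q ∧ mat g 1 1 = (mat g 0 0) ^ q ∧
      mat g 0 0 * mat g 0 0 ^ q + mat g 0 1 * mat g 0 1 ^ q = 1 := by
  have e00 := herm_act g (Pi.single 0 1) (Pi.single 0 1)
  have e01 := herm_act g (Pi.single 0 1) (Pi.single 1 1)
  have hd : (mat g).det = 1 := g.1.2
  rw [Matrix.det_fin_two] at hd
  simp [herm_two, act, zero_pow (q_ne_zero hF)] at e00 e01
  have hdq := congrArg (fun x => x ^ q) hd
  simp only [sub_pow_q hF, mul_pow, one_pow] at hdq
  have e10 := congrArg (fun x => x ^ q) e01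
  simp only [add_pow_q hF, mul_pow, pow_q_q hF, zero_pow (q_ne_zero hF)] at e10
  set a := mat g 0 0
  set b := mat g 0 1
  set c := mat g 1 0
  set d := mat g 1 1
  have h11 : d = a ^ q := by linear_combination a ^ q * hd + c * e10 - d * e00
  have hcb : c ^ q = -b := by linear_combination -c ^ q * hd + a * e10 - b * e00
  have h10 : c = -b ^ q := by
    have := congrArg (fun x => x ^ q) hcb
    simpa only [pow_q_q hF, neg_pow_q hF] using this
  refine ⟨h10, h11, ?_⟩
  linear_combination e00 - c ^ q * h10 + b ^ q * hcb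

theorem mat_mk2 (hF : Fintype.card F = q ^ 2) (a b : F) (h : a * a ^ q + b * b ^ q = 1) :
    mat (mk2 hF a b h) = !![a, b; -b ^ q, a ^ q] := rfl

theorem eq_mk2 (hF : Fintype.card F = q ^ 2) (g : SU 2 F q) :
    g = mk2 hF (mat g 0 0) (mat g 0 1) (shape hF g).2.2 := by
  obtain ⟨h1, h2, -⟩ := shape hF g
  refine mat_ext (Matrix.ext fun i j => ?_)
  rw [mat_mk2]
  fin_cases i <;> fin_cases j <;> simp [h1, h2]

theorem ext2 (hF : Fintype.card F = q ^ 2) {g h : SU 2 F q} (h0 : mat g 0 0 = mat h 0 0)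
    (h1 : mat g 0 1 = mat h 0 1) : g = h := by
  obtain ⟨a1, a2, -⟩ := shape hF g
  obtain ⟨b1, b2, -⟩ := shape hF h
  refine mat_ext (Matrix.ext fun i j => ?_)
  fin_cases i <;> fin_cases j <;> simp [h0, h1, a1, a2, b1, b2]

/-- The diagonal torus. -/
def torus (F : Type u) [Field F] [Fintype F] (q : ℕ) : Set (SU 2 F q) := {g | mat g 0 1 = 0}

theorem card_torus (hF : Fintype.card F = q ^ 2) : Nat.card (torus F q) = q + 1 := by
  rw [← card_normOne hF]
  refine Nat.card_congr
    { toFun := fun g => ⟨Units.mk0 (mat g.1 0 0) (fun h => by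
          have h3 := (shape hF g.1).2.2
          rw [h, g.2] at h3
          simp at h3), Units.ext (by
          have h3 := (shape hF g.1).2.2
          rw [g.2, zero_mul, add_zero] at h3
          simpa [pow_succ'] using h3)⟩
      invFun := fun u => ⟨mk2 hF (u.1 : F) 0 (by
          have := congrArg Units.val u.2
          rw [zero_mul, add_zero, ← pow_succ']
          simpa using this), rfl⟩
      left_inv := fun g => Subtype.ext (ext2 hF rfl g.2.symm)
      right_inv := fun u => Subtype.ext (Units.ext rfl) }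

/-! ### Automorphisms of `SL 2` -/

theorem aut_SL2 {K : Type u} [Field K] [Fintype K] (α : MulAut SL(2, K)) :
    ∃ (g : GL (Fin 2) K) (σ : K ≃+* K), ∀ x : SL(2, K),
      (α x : Matrix (Fin 2) (Fin 2) K) = (g : Matrix (Fin 2) (Fin 2) K) * (x : Matrix (Fin 2) (Fin 2) K).map σ *
        ((g⁻¹ : GL (Fin 2) K) : Matrix (Fin 2) (Fin 2) K) := by
  classical
  obtain ⟨g, σ, h⟩ := AutPSLMain.rigid_two (AutPSLBasic.quotAut α)
  refine ⟨g, σ, ?_⟩
  set β : MulAut SL(2, K) := AutPSLBasic.slConj g * AutPSLBasic.slField σ with hβ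
  have hz : ∀ x, (β x)⁻¹ * α x ∈ Subgroup.center SL(2, K) := fun x => by
    rw [← QuotientGroup.eq]
    have := DFunLike.congr_fun h (QuotientGroup.mk x)
    exact this.symm
  let z : SL(2, K) →* SL(2, K) :=
    { toFun := fun x => (β x)⁻¹ * α x
      map_one' := by simp
      map_mul' := fun x y => by
        simp only [map_mul, _root_.mul_inv_rev]
        rw [show (β y)⁻¹ * (β x)⁻¹ * (α x * α y) = (β y)⁻¹ * ((β x)⁻¹ * α x) * α y by group,
          Subgroup.mem_center_iff.1 (hz x) (β y)⁻¹, mul_assoc] }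
  have hp : ∀ w : SL(2, K), w ^ ringChar K = 1 → z w = 1 := by
    intro w hw
    obtain ⟨r, hr2, hr⟩ := Matrix.SpecialLinearGroup.mem_center_iff.1 (hz w)
    have h1 : z w ^ ringChar K = 1 := by rw [← map_pow, hw, map_one]
    rw [Fintype.card_fin] at hr2
    have hp' : (ringChar K).Prime := CharP.char_is_prime K _
    have hr1 : r = 1 := by
      rcases hp'.eq_two_or_odd' with e | ⟨k, hk⟩
      · have h2 : (2 : K) = 0 := by
          have := CharP.cast_eq_zero K (ringChar K)
          rwa [e] at this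
        have : (r - 1) ^ 2 = 0 := by linear_combination hr2 - (r - 1) * h2
        exact sub_eq_zero.1 (pow_eq_zero_iff two_ne_zero |>.1 this)
      · have h3 : r ^ ringChar K = 1 := by
          have h4 := congrArg (fun y : SL(2, K) => (y : Matrix (Fin 2) (Fin 2) K) 0 0) h1
          have h5 : ((z w ^ ringChar K : SL(2, K)) : Matrix (Fin 2) (Fin 2) K) =
              Matrix.scalar (Fin 2) r ^ ringChar K := by
            rw [Matrix.SpecialLinearGroup.coe_pow, hr]; rfl
          simp only [h5] at h4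
          rw [← map_pow] at h4
          simpa [Matrix.scalar_apply] using h4
        rw [hk, pow_succ, pow_mul, hr2, one_pow, one_mul] at h3
        exact h3
    apply Subtype.ext
    show ((β w)⁻¹ * α w : SL(2, K)).1 = 1
    rw [← hr, hr1, map_one]
  have key : ∀ x, z x = 1 := by
    intro x
    refine DFunLike.congr_fun (SL3Edge47.hom_ext (f := z) (g := 1) (fun t => hp _ ?_) (fun t => hp _ ?_)) x
    · rw [SL3Edge47.up_pow, CharP.cast_eq_zero, zero_mul, SL3Edge47.up_zero]
    · rw [SL3Edge47.lo_pow, CharP.cast_eq_zero, zero_mul, SL3Edge47.lo_zero]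
  intro x
  have e : α x = β x := (inv_mul_eq_one.1 (key x)).symm
  rw [e]
  rfl

/-- Automorphisms of a finite field are Frobenius powers. -/
theorem aut_eq_frob {K : Type u} [Field K] [Fintype K] (p : ℕ) [Fact p.Prime] [CharP K p] (σ : K ≃+* K) :
    ∃ k : ℕ, ∀ x, σ x = x ^ p ^ k := by
  letI : Algebra (ZMod p) K := ZMod.algebra K p
  let σ' : K ≃ₐ[ZMod p] K := AlgEquiv.ofRingEquiv (f := σ)
    (fun r => RingHom.congr_fun (RingHom.ext_zmod (σ.toRingHom.comp (algebraMap (ZMod p) K)) _) r)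
  obtain ⟨k, hk⟩ := (FiniteField.bijective_frobeniusAlgEquivOfAlgebraic_pow (ZMod p) K).2 σ'
  refine ⟨k, fun x => ?_⟩
  have h := DFunLike.congr_fun hk x
  rw [AlgEquiv.coe_pow, FiniteField.coe_frobeniusAlgEquivOfAlgebraic_iterate, ZMod.card] at h
  exact h.symm

/-! ### The real form -/

/-- The fixed field of `x ↦ x ^ q`. -/
def fixedField (hF : Fintype.card F = q ^ 2) : Subfield F where
  carrier := {x | x ^ q = x}
  zero_mem' := zero_pow_q hF
  one_mem' := one_pow q
  add_mem' := fun {x y} hx hy => (add_pow_q hF x y).trans (congrArg₂ (· + ·) hx hy)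
  mul_mem' := fun {x y} hx hy => (mul_pow x y q).trans (congrArg₂ (· * ·) hx hy)
  neg_mem' := fun {x} hx => (neg_pow_q hF x).trans (congrArg Neg.neg hx)
  inv_mem' := fun x hx => (inv_pow x q).trans (congrArg Inv.inv hx)

set_option maxHeartbeats 1200000 in
theorem exists_iso_SL2 (hF : Fintype.card F = q ^ 2) :
    ∃ (Q : GL (Fin 2) F) (θ : SL(2, fixedField hF) ≃* SU 2 F q), ∀ M : SL(2, fixedField hF),
      mat (θ M) = (Q : Matrix (Fin 2) (Fin 2) F) *
        (M : Matrix (Fin 2) (Fin 2) (fixedField hF)).map (↑) * ((Q⁻¹ : GL (Fin 2) F) : Matrix (Fin 2) (Fin 2) F) := by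
  classical
  obtain ⟨z, hz⟩ := exists_norm_eq hF (a := (-1 : F)) (by rw [neg_pow_q hF, one_pow])
  rw [pow_succ'] at hz
  set e : Fin 2 → F := ![1, z] with he
  have hee : hermForm 2 F q e e = 0 := by rw [herm_two]; simp [he, hz]
  have he0 : e ≠ 0 := fun h => by simpa [he] using congrFun h 0
  obtain ⟨f, hff, hfe, hef⟩ := exists_hyp hF he0 hee
  obtain ⟨c, hc0, hc⟩ := exists_skew hF
  have hcq : c ^ q = -c := eq_neg_of_add_eq_zero_right hc
  set P : Matrix (Fin 2) (Fin 2) F := Matrix.of fun i j => ![e i, c * f i] j with hP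
  have hPv : ∀ x : Fin 2 → F, P *ᵥ x = x 0 • e + (x 1 * c) • f := fun x => by
    funext i
    simp [hP, Matrix.mulVec, dotProduct, Fin.sum_univ_two]
    ring
  have hPh : ∀ x y : Fin 2 → F, hermForm 2 F q (P *ᵥ x) (P *ᵥ y) =
      c * (x 1 * y 0 ^ q - x 0 * y 1 ^ q) := fun x y => by
    simp only [hPv, herm_add_left, herm_add_right hF, herm_smul_left, herm_smul_right, hee, hff, hfe, hef,
      mul_pow, hcq]
    ring
  have hPdet : P.det ≠ 0 := by
    intro h
    obtain ⟨v, hv0, hv⟩ := Matrix.exists_mulVec_eq_zero_iff.2 h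
    have h1 := hPh v ![1, 0]
    have h2 := hPh v ![0, 1]
    rw [hv, herm_zero_left] at h1 h2
    simp [zero_pow (q_ne_zero hF), hc0] at h1 h2
    exact hv0 (funext fun i => by fin_cases i <;> assumption)
  let Q : GL (Fin 2) F := Matrix.GeneralLinearGroup.mkOfDetNeZero P hPdet
  have hQ : (Q : Matrix (Fin 2) (Fin 2) F) = P := rfl
  have hQi : ∀ x, P *ᵥ (((Q⁻¹ : GL (Fin 2) F) : Matrix (Fin 2) (Fin 2) F) *ᵥ x) = x := fun x => by
    rw [Matrix.mulVec_mulVec, ← hQ, ← Units.val_mul, mul_inv_cancel, Units.val_one, Matrix.one_mulVec]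
  have hU : ∀ M : Matrix (Fin 2) (Fin 2) F, IsU q (P * M * ((Q⁻¹ : GL (Fin 2) F) : Matrix (Fin 2) (Fin 2) F)) ↔
      ∀ x y : Fin 2 → F, (M *ᵥ x) 1 * (M *ᵥ y) 0 ^ q - (M *ᵥ x) 0 * (M *ᵥ y) 1 ^ q =
        x 1 * y 0 ^ q - x 0 * y 1 ^ q := by
    intro M
    constructor
    · intro h x y
      have h1 := h (P *ᵥ x) (P *ᵥ y)
      simp only [← Matrix.mulVec_mulVec] at h1
      rw [Matrix.mulVec_mulVec x ((Q⁻¹ : GL (Fin 2) F) : Matrix (Fin 2) (Fin 2) F) P,
        Matrix.mulVec_mulVec y ((Q⁻¹ : GL (Fin 2) F) : Matrix (Fin 2) (Fin 2) F) P, ← hQ, ← Units.val_mul,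
        inv_mul_cancel, Units.val_one, Matrix.one_mulVec, Matrix.one_mulVec, hQ, hPh, hPh] at h1
      exact mul_left_cancel₀ hc0 h1
    · intro h u v
      simp only [← Matrix.mulVec_mulVec]
      rw [hPh, h, ← hPh, hQi, hQi]
  have hfix : ∀ {a : fixedField hF}, (a : F) ^ q = a := fun {a} => a.2
  let θ0 : SL(2, fixedField hF) → SU 2 F q := fun M => mkSU
    (P * (M : Matrix (Fin 2) (Fin 2) (fixedField hF)).map (↑) * ((Q⁻¹ : GL (Fin 2) F) : Matrix (Fin 2) (Fin 2) F))
    (by
      rw [Matrix.det_mul, Matrix.det_mul, mul_right_comm, ← Matrix.det_mul, ← hQ, ← Units.val_mul,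
        mul_inv_cancel, Units.val_one, Matrix.det_one, one_mul]
      exact ((RingHom.map_det (fixedField hF).subtype (M : Matrix (Fin 2) (Fin 2) (fixedField hF))).symm).trans
        ((congrArg _ M.2).trans (map_one _)))
    ((hU _).2 (fun x y => by
      have hd := congrArg (fun a : fixedField hF => (a : F)) M.2
      simp only [Matrix.det_fin_two, Subfield.coe_sub, Subfield.coe_mul, Subfield.coe_one] at hd
      simp [Matrix.mulVec, dotProduct, Fin.sum_univ_two, add_pow_q hF, mul_pow, hfix]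
      linear_combination (x 1 * y 0 ^ q - x 0 * y 1 ^ q) * hd))
  have hmul : ∀ M N, θ0 (M * N) = θ0 M * θ0 N := fun M N => by
    refine mat_ext ?_
    show P * ((M : Matrix (Fin 2) (Fin 2) (fixedField hF)) * (N : Matrix (Fin 2) (Fin 2) (fixedField hF))).map
      ((fixedField hF).subtype) * _ = (P * _ * _) * (P * _ * _)
    rw [Matrix.map_mul]
    simp only [Matrix.mul_assoc]
    rw [← Matrix.mul_assoc _ P, ← hQ, ← Units.val_mul, inv_mul_cancel, Units.val_one, Matrix.one_mul]
    rfl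
  let θh : SL(2, fixedField hF) →* SU 2 F q := MonoidHom.mk' θ0 hmul
  have hinj : Function.Injective θh := fun M N h => by
    have h1 := congrArg (fun g : SU 2 F q => ((Q⁻¹ : GL (Fin 2) F) : Matrix (Fin 2) (Fin 2) F) * mat g * P) h
    simp only [θh, MonoidHom.mk'_apply, θ0, mkSU, mat] at h1
    simp only [← Matrix.mul_assoc] at h1
    simp only [← hQ, ← Units.val_mul, inv_mul_cancel, Units.val_one, Matrix.one_mul] at h1
    simp only [Matrix.mul_assoc] at h1
    rw [← Units.val_mul, inv_mul_cancel, Units.val_one, Matrix.mul_one, Matrix.mul_one] at h1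
    exact Subtype.ext (Matrix.map_injective Subtype.val_injective h1)
  have hsurj : Function.Surjective θh := fun g => by
    set M : Matrix (Fin 2) (Fin 2) F := ((Q⁻¹ : GL (Fin 2) F) : Matrix (Fin 2) (Fin 2) F) * mat g * P with hM
    have hPM : P * M * ((Q⁻¹ : GL (Fin 2) F) : Matrix (Fin 2) (Fin 2) F) = mat g := by
      rw [hM, ← hQ]
      simp only [← Matrix.mul_assoc]
      rw [← Units.val_mul, mul_inv_cancel, Units.val_one, Matrix.one_mul]
      simp only [Matrix.mul_assoc]
      rw [← Units.val_mul, mul_inv_cancel, Units.val_one, Matrix.mul_one]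
    have hd : M.det = 1 := by
      have h1 := congrArg Matrix.det hPM
      rw [Matrix.det_mul, Matrix.det_mul, mul_right_comm, ← Matrix.det_mul, ← hQ, ← Units.val_mul,
        mul_inv_cancel, Units.val_one, Matrix.det_one, one_mul] at h1
      exact h1.trans g.1.2
    have h := (hU M).1 (hPM ▸ isU_of_mem_SU g)
    rw [Matrix.det_fin_two] at hd
    have h00 := h ![1, 0] ![1, 0]
    have h01 := h ![1, 0] ![0, 1]
    have h11 := h ![0, 1] ![0, 1]
    simp [Matrix.mulVec, dotProduct, Fin.sum_univ_two, zero_pow (q_ne_zero hF)] at h00 h01 h11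
    set a := M 0 0
    set b := M 0 1
    set c' := M 1 0
    set d := M 1 1
    have hdq : a ^ q * d ^ q - b ^ q * c' ^ q = 1 := by
      have := congrArg (fun x => x ^ q) hd
      simpa only [sub_pow_q hF, mul_pow, one_pow] using this
    have h10 : c' ^ q * b - a ^ q * d = -1 := by
      have := congrArg (fun x => x ^ q) h01
      simp only [sub_pow_q hF, mul_pow, pow_q_q hF, neg_pow_q hF, one_pow] at this
      exact this
    have fa : a ^ q = a := by linear_combination (-a ^ q) * hd - b * h00 - a * h10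
    have fc : c' ^ q = c' := by linear_combination (-c' ^ q) * hd - d * h00 - c' * h10
    have fb : b ^ q = b := by linear_combination (-b ^ q) * hd + a * h11 - b * h01
    have fd : d ^ q = d := by linear_combination (-d ^ q) * hd + c' * h11 - d * h01
    have hfixM : ∀ i j, M i j ^ q = M i j := fun i j => by
      fin_cases i <;> fin_cases j <;> assumption
    let N : SL(2, fixedField hF) := ⟨Matrix.of fun i j => ⟨M i j, hfixM i j⟩, Subtype.ext (by
      simp [Matrix.det_fin_two]; exact hd)⟩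
    exact ⟨N, mat_ext hPM⟩
  exact ⟨Q, MulEquiv.ofBijective θh ⟨hinj, hsurj⟩, fun M => rfl⟩

/-! ### Automorphisms of `SU 2` preserving the torus -/

set_option maxHeartbeats 1200000 in
theorem aut_SU2 (hF : Fintype.card F = q ^ 2) (α : MulAut (SU 2 F q))
    (hα : ∀ g ∈ torus F q, α g ∈ torus F q) :
    ∃ (τ : F ≃+* F) (μ : F), μ * μ ^ q = 1 ∧ ∀ g : SU 2 F q,
      mat (α g) 0 0 = τ (mat g 0 0) ∧ mat (α g) 0 1 = μ * τ (mat g 0 1) := by
  classical
  obtain ⟨Q, θ, hθ⟩ := exists_iso_SL2 hF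
  obtain ⟨g0, σ, hσ⟩ := aut_SL2 ((θ.trans α).trans θ.symm)
  obtain ⟨p, k0, hp, hchar, -, -⟩ := exists_prime_pow hF
  haveI : Fact p.Prime := ⟨hp⟩
  haveI : CharP F p := hchar
  haveI : CharP (fixedField hF) p := (RingHom.charP_iff_charP (fixedField hF).subtype p).2 inferInstance
  obtain ⟨k, hk⟩ := aut_eq_frob p σ
  let τ : F ≃+* F := RingEquiv.ofBijective (iterateFrobenius F p k)
    (Finite.injective_iff_bijective.1 (iterateFrobenius F p k).injective)
  have hτ : ∀ x, τ x = x ^ p ^ k := fun x => rfl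
  let g0F : GL (Fin 2) F := Matrix.GeneralLinearGroup.map (fixedField hF).subtype g0
  let QT : GL (Fin 2) F := Matrix.GeneralLinearGroup.map (τ : F →+* F) Q
  let R : GL (Fin 2) F := Q * g0F * QT⁻¹
  have key : ∀ g : SU 2 F q, mat (α g) * (R : Matrix (Fin 2) (Fin 2) F) = (R : Matrix (Fin 2) (Fin 2) F) * (mat g).map τ := by
    intro g
    obtain ⟨M, rfl⟩ := θ.surjective g
    have h1 : α (θ M) = θ (((θ.trans α).trans θ.symm) M) := by simp
    rw [h1, hθ, hθ, hσ]
    have hmap : ∀ A : Matrix (Fin 2) (Fin 2) (fixedField hF), (A.map σ).map ((↑) : fixedField hF → F) =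
        (A.map ((↑) : fixedField hF → F)).map τ := fun A => by
      ext i j
      simp [hτ, hk]
    have hcoe : ∀ A B : Matrix (Fin 2) (Fin 2) (fixedField hF), (A * B).map ((↑) : fixedField hF → F) =
        A.map (↑) * B.map (↑) := fun A B => Matrix.map_mul (f := (fixedField hF).subtype)
    have hτmul : ∀ A B : Matrix (Fin 2) (Fin 2) F, (A * B).map τ = A.map τ * B.map τ := fun A B =>
      Matrix.map_mul (f := (τ : F →+* F))
    rw [hcoe, hcoe, hmap, hτmul, hτmul]
    have eQ : (Q : Matrix (Fin 2) (Fin 2) F).map τ = (QT : Matrix (Fin 2) (Fin 2) F) := rfl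
    have eQi : ((Q⁻¹ : GL (Fin 2) F) : Matrix (Fin 2) (Fin 2) F).map τ =
        ((QT⁻¹ : GL (Fin 2) F) : Matrix (Fin 2) (Fin 2) F) := rfl
    have eg : (g0 : Matrix (Fin 2) (Fin 2) (fixedField hF)).map ((↑) : fixedField hF → F) =
        (g0F : Matrix (Fin 2) (Fin 2) F) := rfl
    have egi : ((g0⁻¹ : GL (Fin 2) (fixedField hF)) : Matrix (Fin 2) (Fin 2) (fixedField hF)).map
        ((↑) : fixedField hF → F) = ((g0F⁻¹ : GL (Fin 2) F) : Matrix (Fin 2) (Fin 2) F) := rfl
    rw [eQ, eQi, eg, egi]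
    simp only [R, Units.val_mul, Matrix.mul_assoc]
    congr 2
    rw [← Matrix.mul_assoc ((Q⁻¹ : GL (Fin 2) F) : Matrix (Fin 2) (Fin 2) F), ← Units.val_mul, inv_mul_cancel,
      Units.val_one, Matrix.one_mul, ← Matrix.mul_assoc ((g0F⁻¹ : GL (Fin 2) F) : Matrix (Fin 2) (Fin 2) F),
      ← Units.val_mul, inv_mul_cancel, Units.val_one, Matrix.one_mul]
    rw [← Matrix.mul_assoc ((QT⁻¹ : GL (Fin 2) F) : Matrix (Fin 2) (Fin 2) F) (QT : Matrix (Fin 2) (Fin 2) F),
      ← Units.val_mul, inv_mul_cancel, Units.val_one, Matrix.one_mul]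
  set r00 := (R : Matrix (Fin 2) (Fin 2) F) 0 0 with e00
  set r01 := (R : Matrix (Fin 2) (Fin 2) F) 0 1 with e01
  set r10 := (R : Matrix (Fin 2) (Fin 2) F) 1 0 with e10
  set r11 := (R : Matrix (Fin 2) (Fin 2) F) 1 1 with e11
  have hdet : r00 * r11 - r01 * r10 ≠ 0 := by
    have h := (Matrix.isUnit_iff_isUnit_det _).1 (R.isUnit)
    rw [Matrix.det_fin_two] at h
    exact h.ne_zero
  have hent : ∀ g : SU 2 F q,
      mat (α g) 0 0 * r00 + mat (α g) 0 1 * r10 = r00 * τ (mat g 0 0) + r01 * τ (mat g 1 0) ∧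
      mat (α g) 0 0 * r01 + mat (α g) 0 1 * r11 = r00 * τ (mat g 0 1) + r01 * τ (mat g 1 1) ∧
      mat (α g) 1 0 * r00 + mat (α g) 1 1 * r10 = r10 * τ (mat g 0 0) + r11 * τ (mat g 1 0) ∧
      mat (α g) 1 0 * r01 + mat (α g) 1 1 * r11 = r10 * τ (mat g 0 1) + r11 * τ (mat g 1 1) := fun g => by
    refine ⟨?_, ?_, ?_, ?_⟩ <;>
    [have h := congrFun (congrFun (key g) 0) 0; have h := congrFun (congrFun (key g) 0) 1;
      have h := congrFun (congrFun (key g) 1) 0; have h := congrFun (congrFun (key g) 1) 1] <;>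
    simpa [Matrix.mul_apply, Fin.sum_univ_two, ← e00, ← e01, ← e10, ← e11] using h
  -- a regular torus element forces `R` to be monomial
  obtain ⟨l, hl, hl2⟩ := exists_normOne_sq_ne_one hF
  have hlq : (l : F) * (l : F) ^ q = 1 := by
    rw [← pow_succ', ← Units.val_pow_eq_pow_val, hl, Units.val_one]
  set d := mk2 hF (l : F) 0 (by rw [zero_mul, add_zero, hlq]) with hd
  have hdt : d ∈ torus F q := rfl
  obtain ⟨q1, q2, q3, q4⟩ := hent d
  have ha := hα d hdt
  obtain ⟨s1, s2, -⟩ := shape hF (α d)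
  rw [show mat (α d) 0 1 = 0 from ha] at q1 q2 s1
  rw [zero_pow (q_ne_zero hF), neg_zero] at s1
  rw [s1] at q3 q4
  simp [hd, mat_mk2, zero_pow (q_ne_zero hF)] at q1 q2 q3 q4
  have hne : τ (l : F) ≠ τ (l : F) ^ q := by
    rw [← map_pow]
    intro h
    have h' : (l : F) = (l : F) ^ q := τ.injective h
    rw [← h'] at hlq
    exact hl2 (Units.ext (by rw [Units.val_pow_eq_pow_val, pow_two, hlq, Units.val_one]))
  have hmono : (r01 = 0 ∧ r10 = 0) ∨ (r00 = 0 ∧ r11 = 0) := by
    by_cases h0 : r00 = 0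
    · right
      refine ⟨h0, ?_⟩
      by_contra h1
      have h01' : r01 ≠ 0 := fun h => hdet (by rw [h0, h]; ring)
      have h10' : r10 ≠ 0 := fun h => hdet (by rw [h0, h]; ring)
      have a1 : mat (α d) 1 1 = τ (l : F) := mul_right_cancel₀ h10' (q3.trans (mul_comm _ _))
      have a2 : mat (α d) 1 1 = τ (l : F) ^ q := mul_right_cancel₀ h1 (q4.trans (mul_comm _ _))
      exact hne (a1.symm.trans a2)
    · left
      have a1 : mat (α d) 0 0 = τ (l : F) := mul_right_cancel₀ h0 (q1.trans (mul_comm _ _))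
      have h01' : r01 = 0 := by
        by_contra h
        exact hne (a1.symm.trans (mul_right_cancel₀ h (q2.trans (mul_comm _ _))))
      refine ⟨h01', ?_⟩
      by_contra h
      have a2 : mat (α d) 1 1 = τ (l : F) := mul_right_cancel₀ h (q3.trans (mul_comm _ _))
      rw [s2, a1] at a2
      exact hne a2.symm
  -- an element with non-zero corner
  set w := mk2 hF (0 : F) 1 (by simp [zero_pow (q_ne_zero hF)]) with hw
  rcases hmono with ⟨z1, z2⟩ | ⟨z1, z2⟩
  · have h0 : r00 ≠ 0 := fun h => hdet (by rw [h, z1]; ring)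
    have h1 : r11 ≠ 0 := fun h => hdet (by rw [h, z1]; ring)
    have hform : ∀ g : SU 2 F q, mat (α g) 0 0 = τ (mat g 0 0) ∧
        mat (α g) 0 1 = r00 / r11 * τ (mat g 0 1) ∧ mat (α g) 1 0 = r11 / r00 * τ (mat g 1 0) := fun g => by
      obtain ⟨p1, p2, p3, -⟩ := hent g
      rw [z1, z2] at p1
      rw [z1] at p2
      rw [z2] at p3
      refine ⟨?_, ?_, ?_⟩
      · apply mul_right_cancel₀ h0; linear_combination p1
      · field_simp; linear_combination p2
      · field_simp; linear_combination p3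
    refine ⟨τ, r00 / r11, ?_, fun g => ⟨(hform g).1, (hform g).2.1⟩⟩
    obtain ⟨w0, w1, w2⟩ := hform w
    obtain ⟨-, -, t3⟩ := shape hF (α w)
    rw [w0, w1] at t3
    simp [hw, mat_mk2, zero_pow (q_ne_zero hF)] at t3
    exact t3
  · have h01' : r01 ≠ 0 := fun h => hdet (by rw [h, z1]; ring)
    have h10' : r10 ≠ 0 := fun h => hdet (by rw [h, z1]; ring)
    let cq : F ≃+* F := RingEquiv.ofBijective
      ({ toFun := fun x => x ^ q
         map_one' := one_pow q
         map_mul' := fun x y => mul_pow x y q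
         map_zero' := zero_pow_q hF
         map_add' := add_pow_q hF } : F →+* F)
      ⟨fun x y h => by
        have := congrArg (fun z => z ^ q) h
        simpa [pow_q_q hF] using this, fun x => ⟨x ^ q, pow_q_q hF x⟩⟩
    have hform : ∀ g : SU 2 F q, mat (α g) 0 0 = (cq.trans τ) (mat g 0 0) ∧
        mat (α g) 0 1 = -(r01 / r10) * (cq.trans τ) (mat g 0 1) := fun g => by
      obtain ⟨p1, p2, -, -⟩ := hent g
      obtain ⟨t1, t2, -⟩ := shape hF g
      rw [z1, t1, map_neg, map_pow] at p1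
      rw [z1, z2, t2, map_pow] at p2
      refine ⟨?_, ?_⟩
      · show _ = τ (mat g 0 0 ^ q)
        rw [map_pow]
        apply mul_right_cancel₀ h01'; linear_combination p2
      · show _ = _ * τ (mat g 0 1 ^ q)
        rw [map_pow]
        field_simp; linear_combination p1
    refine ⟨cq.trans τ, -(r01 / r10), ?_, hform⟩
    obtain ⟨w0, w1⟩ := hform w
    obtain ⟨-, -, t3⟩ := shape hF (α w)
    rw [w0, w1] at t3
    simp [hw, mat_mk2, cq, zero_pow (q_ne_zero hF)] at t3
    linear_combination t3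

end Cfsg.Agent.PhanAut47
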