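import Mathlib
import Cfsg.Agent.Lib.OrthUnitaryTransvection

/-!
Coordinate blocks of `SU n F q`: the embedding of `SU m` on an interval of coordinates, its image as a
pointwise stabiliser, transitivity on vectors of given norm, and generation by blocks.
-/

set_option autoImplicit false
set_option linter.unusedSectionVars false

namespace Cfsg.Agent.PhanBlocks47

open Cfsg Cfsg.Agent.OrthUnitaryHerm Cfsg.Agent.OrthUnitaryTransvection
open scoped Matrix

variable {F : Type*} [Field F] [Fintype F] {q n m r : ℕ}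

/-! ### Transitivity -/

theorem act_mkSU (M : Matrix (Fin n) (Fin n) F) (hd : M.det = 1) (hM : IsU q M) (x : Fin n → F) :
    act (mkSU M hd hM) x = M *ᵥ x := rfl

/-- `SU n` is transitive on the vectors of a given non-zero norm, `n ≥ 2`. -/
theorem trans_norm (hF : Fintype.card F = q ^ 2) (hn : 2 ≤ n) {u v : Fin n → F}
    (huv : hermForm n F q u u = hermForm n F q v v) (h0 : hermForm n F q u u ≠ 0) :
    ∃ g : SU n F q, act g u = v := by
  obtain ⟨M, hM, hMu⟩ := exists_isU_map hF huv h0
  set a := hermForm n F q v v with ha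
  have ha0 : a ≠ 0 := huv ▸ h0
  have haq : a ^ q = a := herm_self_pow hF v
  let π : (Fin n → F) →ₗ[F] (Fin n → F) := LinearMap.id - (hermL q v).smulRight (a⁻¹ • v)
  have hπ : ∀ x, π x = x - hermForm n F q x v • a⁻¹ • v := fun x => rfl
  have hperp : ∀ x, hermForm n F q (π x) v = 0 := fun x => by
    rw [hπ, herm_sub_left, herm_smul_left, herm_smul_left, ← ha, inv_mul_cancel₀ ha0, mul_one, sub_self]
  obtain ⟨w, hw, hww⟩ := exists_norm_of_proj hF π
    (fun x y => by
      rw [hπ, hπ, herm_sub_left, herm_sub_right hF, herm_smul_left, herm_smul_left, herm_smul_right,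
        herm_smul_right, ← herm_conj hF, inv_pow, haq]
      ring)
    (fun x => by rw [hπ (π x), hperp, zero_smul, sub_zero])
    (fun h => by
      have htop : ⊤ ≤ Submodule.span F ({v} : Set (Fin n → F)) := by
        intro x _
        have h2 := LinearMap.congr_fun h x
        rw [hπ, LinearMap.zero_apply, sub_eq_zero] at h2
        rw [h2]
        exact Submodule.smul_mem _ _ (Submodule.smul_mem _ _ (Submodule.mem_span_singleton_self v))
      have h3 := Submodule.finrank_mono htop
      rw [finrank_top, Module.finrank_fin_fun] at h3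
      have hv : v ≠ 0 := by rintro rfl; exact ha0 (by rw [ha, herm_zero_left])
      rw [finrank_span_singleton hv] at h3
      omega) (r := 1) (one_pow q)
  have hwv : hermForm n F q v w = 0 := herm_skew_zero hF (hw ▸ hperp w)
  have hd0 : M.det ^ (q + 1) = 1 := hM.det_pow hF
  set c := M.det⁻¹ - 1 with hc
  have hdne : M.det ≠ 0 := fun h => by simp [h, zero_pow (Nat.succ_ne_zero q)] at hd0
  have hT : IsU q (unitaryTransvection n q w c) := isU_transvection hF (by
    rw [hww, hc, sub_pow_q hF, inv_pow, one_pow]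
    have hdq : M.det * M.det ^ q = 1 := by rw [← pow_succ']; exact hd0
    field_simp
    linear_combination -hdq)
  refine ⟨mkSU _ (?_) (hT.mul hM), ?_⟩
  · rw [Matrix.det_mul, det_transvection hF, hww, mul_one, hc, add_sub_cancel, inv_mul_cancel₀ hdne]
  · rw [act_mkSU, ← Matrix.mulVec_mulVec, hMu, transvection_mulVec, hwv, mul_zero, zero_smul, add_zero]

/-- `SU n` is transitive on non-zero isotropic vectors, `n ≥ 3`. -/
theorem trans_iso (hF : Fintype.card F = q ^ 2) (hn : 3 ≤ n) {u v : Fin n → F} (hu0 : u ≠ 0)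
    (hu : hermForm n F q u u = 0) (hv0 : v ≠ 0) (hv : hermForm n F q v v = 0) :
    ∃ g : SU n F q, act g u = v := by
  obtain ⟨g, -, h⟩ := exists_move hF hn ⊤ (fun _ _ _ _ _ _ => Subgroup.mem_top _) hu0 hu hv0 hv
  exact ⟨g, h⟩

/-- An element of `SU 2`. -/
def mk2 (hF : Fintype.card F = q ^ 2) (a b : F) (h : a * a ^ q + b * b ^ q = 1) : SU 2 F q :=
  mkSU !![a, b; -b ^ q, a ^ q] (by rw [Matrix.det_fin_two_of]; linear_combination h) (fun u v => by
    simp only [hermForm, Fin.sum_univ_two, Matrix.mulVec, dotProduct, Matrix.of_apply,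
      Matrix.cons_val', Matrix.cons_val_zero, Matrix.cons_val_one, Matrix.cons_val_fin_one,
      add_pow_q hF, mul_pow, neg_pow_q hF, pow_q_q hF]
    linear_combination (u 0 * v 0 ^ q + u 1 * v 1 ^ q) * h)

theorem act_mk2 (hF : Fintype.card F = q ^ 2) (a b : F) (h : a * a ^ q + b * b ^ q = 1)
    (x : Fin 2 → F) : act (mk2 hF a b h) x = ![a * x 0 + b * x 1, -b ^ q * x 0 + a ^ q * x 1] := by
  show !![a, b; -b ^ q, a ^ q] *ᵥ x = _
  funext i
  fin_cases i <;> simp [Matrix.mulVec, dotProduct, Fin.sum_univ_two]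

theorem herm_two (u v : Fin 2 → F) :
    hermForm 2 F q u v = u 0 * v 0 ^ q + u 1 * v 1 ^ q := by
  simp [hermForm, Fin.sum_univ_two]

/-- An isotropic plane vector `u` can be moved to `(c u₀, c^q u₁)` for any non-zero `c`. -/
theorem iso_scale (hF : Fintype.card F = q ^ 2) {u : Fin 2 → F} (hu0 : u ≠ 0)
    (hu : hermForm 2 F q u u = 0) {c : F} (hc : c ≠ 0) :
    ∃ g : SU 2 F q, act g u 0 = c * u 0 ∧ act g u 1 = c ^ q * u 1 := by
  rw [herm_two] at hu
  have h0 : u 0 ≠ 0 := by
    intro h
    rw [h, zero_mul, zero_add, ← pow_succ'] at hu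
    apply hu0
    funext i
    fin_cases i
    · exact h
    · exact pow_eq_zero_iff (Nat.succ_ne_zero q) |>.1 hu
  obtain ⟨ζ, hζ⟩ : ∃ ζ, ζ = u 1 / u 0 := ⟨_, rfl⟩
  have hu1 : u 1 = ζ * u 0 := by rw [hζ, div_mul_cancel₀ _ h0]
  rw [hu1, mul_pow] at hu
  have hn : ζ * ζ ^ q = -1 := by
    have hne : u 0 * u 0 ^ q ≠ 0 := mul_ne_zero h0 (pow_ne_zero _ h0)
    apply mul_left_cancel₀ hne
    linear_combination hu
  obtain ⟨t, ht⟩ := exists_trace hF (a := c * c ^ q - 1) (by
    rw [sub_pow_q hF, mul_pow, pow_q_q hF, one_pow]; ring)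
  have hcq := pow_ne_zero q hc
  have hζ0 : ζ ≠ 0 := fun h => by simp [h] at hn
  set b := t / (c ^ q * ζ) with hb
  have h1 : c ^ q * ζ * b = t := by rw [hb, mul_div_cancel₀ _ (mul_ne_zero hcq hζ0)]
  have h1q : c * ζ ^ q * b ^ q = t ^ q := by rw [← h1]; simp only [mul_pow, pow_q_q hF]
  refine ⟨mk2 hF (c - b * ζ) b ?_, ?_, ?_⟩
  · rw [sub_pow_q hF, mul_pow]
    linear_combination (-1 : F) * ht + b * b ^ q * hn - h1 - h1q
  · rw [act_mk2, Matrix.cons_val_zero, hu1]
    ring
  · rw [act_mk2, Matrix.cons_val_one, Matrix.cons_val_zero, hu1, sub_pow_q hF, mul_pow]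
    linear_combination -(b ^ q * u 0) * hn

/-! ### Intervals of coordinates -/

/-- The coordinates of the interval `[a, a+m)`. -/
def InR (a m : ℕ) (k : Fin n) : Prop := a ≤ (k : ℕ) ∧ (k : ℕ) < a + m

instance (a m : ℕ) (k : Fin n) : Decidable (InR a m k) := inferInstanceAs (Decidable (_ ∧ _))

/-- The inclusion of the interval. -/
def idx (a : ℕ) (h : a + m ≤ n) (i : Fin m) : Fin n := ⟨a + i, by omega⟩

theorem inR_idx (a : ℕ) (h : a + m ≤ n) (i : Fin m) : InR a m (idx a h i) :=
  ⟨Nat.le_add_right _ _, by simp [idx]⟩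

theorem idx_inj (a : ℕ) (h : a + m ≤ n) : Function.Injective (idx a h : Fin m → Fin n) :=
  fun i j e => Fin.ext (by simpa [idx] using congrArg Fin.val e)

/-- The coordinates split into the interval and the rest. -/
def split (a : ℕ) (h : a + m ≤ n) : Fin m ⊕ {k : Fin n // ¬ InR a m k} ≃ Fin n where
  toFun := Sum.elim (idx a h) Subtype.val
  invFun k := if hk : InR a m k then Sum.inl ⟨(k : ℕ) - a, by obtain ⟨h1, h2⟩ := hk; omega⟩ else Sum.inr ⟨k, hk⟩
  left_inv s := by
    rcases s with i | ⟨k, hk⟩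
    · show (if hk : InR a m (idx a h i) then _ else _) = _
      rw [dif_pos (inR_idx a h i)]
      exact congrArg Sum.inl (Fin.ext (by simp [idx]))
    · show (if hk : InR a m k then _ else _) = _
      rw [dif_neg hk]
      rfl
  right_inv k := by
    by_cases hk : InR a m k
    · simp only [dif_pos hk, Sum.elim_inl]
      exact Fin.ext (by obtain ⟨h1, h2⟩ := hk; simp [idx]; omega)
    · simp [dif_neg hk]

theorem split_inl (a : ℕ) (h : a + m ≤ n) (i : Fin m) : split a h (Sum.inl i) = idx a h i := rfl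

theorem split_inr (a : ℕ) (h : a + m ≤ n) (k : {k : Fin n // ¬ InR a m k}) :
    split a h (Sum.inr k) = k.1 := rfl

theorem vec_ext (a : ℕ) (h : a + m ≤ n) {x y : Fin n → F} (h1 : ∀ i, x (idx a h i) = y (idx a h i))
    (h2 : ∀ k, ¬ InR a m k → x k = y k) : x = y := by
  funext k
  obtain ⟨s, rfl⟩ := (split a h).surjective k
  rcases s with i | ⟨k, hk⟩
  · exact h1 i
  · exact h2 k hk

/-- The coordinates of a vector in the interval. -/
def slice (a : ℕ) (h : a + m ≤ n) (x : Fin n → F) : Fin m → F := fun i => x (idx a h i)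

theorem slice_add (a : ℕ) (h : a + m ≤ n) (x y : Fin n → F) :
    slice a h (x + y) = slice a h x + slice a h y := rfl

theorem slice_slice {a b : ℕ} (h : a + m ≤ n) (h' : b + n ≤ r) (h'' : (b + a) + m ≤ r)
    (x : Fin r → F) : slice a h (slice b h' x) = slice (b + a) h'' x := by
  funext i
  exact congrArg x (Fin.ext (by simp [idx, Nat.add_assoc]))

theorem herm_split (a : ℕ) (h : a + m ≤ n) (x y : Fin n → F) :
    hermForm n F q x y = hermForm m F q (slice a h x) (slice a h y) +
      ∑ k : {k : Fin n // ¬ InR a m k}, x k.1 * y k.1 ^ q := by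
  unfold hermForm
  rw [← (split a h).sum_comp, Fintype.sum_sum_type]
  rfl

/-- The vector supported on the interval. -/
def put (a : ℕ) (h : a + m ≤ n) (w : Fin m → F) : Fin n → F := fun k => Sum.elim w 0 ((split a h).symm k)

theorem put_idx (a : ℕ) (h : a + m ≤ n) (w : Fin m → F) (i : Fin m) : put a h w (idx a h i) = w i := by
  rw [← split_inl, put, Equiv.symm_apply_apply]; rfl

theorem put_out (a : ℕ) (h : a + m ≤ n) (w : Fin m → F) {k : Fin n} (hk : ¬ InR a m k) :
    put a h w k = 0 := by
  rw [show k = split a h (Sum.inr ⟨k, hk⟩) from rfl, put, Equiv.symm_apply_apply]; rfl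

theorem slice_put (a : ℕ) (h : a + m ≤ n) (w : Fin m → F) : slice a h (put a h w) = w :=
  funext (put_idx a h w)

theorem herm_put (_hF : Fintype.card F = q ^ 2) (a : ℕ) (h : a + m ≤ n) (u v : Fin m → F) :
    hermForm n F q (put a h u) (put a h v) = hermForm m F q u v := by
  rw [herm_split a h, slice_put, slice_put, Finset.sum_eq_zero (fun k _ => ?_), add_zero]
  rw [put_out a h u k.2, zero_mul]

/-! ### The embedding -/

/-- The block matrix. -/
def embMat (a : ℕ) (h : a + m ≤ n) (M : Matrix (Fin m) (Fin m) F) : Matrix (Fin n) (Fin n) F :=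
  Matrix.reindex (split a h) (split a h) (Matrix.fromBlocks M 0 0 1)

theorem embMat_idx (a : ℕ) (h : a + m ≤ n) (M : Matrix (Fin m) (Fin m) F) (x : Fin n → F) (i : Fin m) :
    (embMat a h M *ᵥ x) (idx a h i) = (M *ᵥ slice a h x) i := by
  rw [← split_inl, embMat, Matrix.reindex_apply, Matrix.submatrix_mulVec_equiv, Function.comp_apply,
    Equiv.symm_apply_apply, Equiv.symm_symm, Matrix.fromBlocks_mulVec]
  simp [split_inl, Function.comp_def]
  rfl

theorem embMat_out (a : ℕ) (h : a + m ≤ n) (M : Matrix (Fin m) (Fin m) F) (x : Fin n → F) {k : Fin n}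
    (hk : ¬ InR a m k) : (embMat a h M *ᵥ x) k = x k := by
  rw [show k = split a h (Sum.inr ⟨k, hk⟩) from rfl, embMat, Matrix.reindex_apply,
    Matrix.submatrix_mulVec_equiv, Function.comp_apply,
    Equiv.symm_apply_apply, Equiv.symm_symm, Matrix.fromBlocks_mulVec]
  simp [Function.comp_def, Matrix.one_mulVec]

theorem embMat_det (a : ℕ) (h : a + m ≤ n) (M : Matrix (Fin m) (Fin m) F) :
    (embMat a h M).det = M.det := by
  rw [embMat, Matrix.det_reindex_self, Matrix.det_fromBlocks_zero₂₁, Matrix.det_one, mul_one]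

theorem embMat_isU (a : ℕ) (h : a + m ≤ n) {M : Matrix (Fin m) (Fin m) F} (hM : IsU q M) :
    IsU q (embMat a h M) := by
  intro u v
  rw [herm_split a h, herm_split a h u v]
  congr 1
  · rw [show slice a h (embMat a h M *ᵥ u) = M *ᵥ slice a h u from funext (embMat_idx a h M u),
      show slice a h (embMat a h M *ᵥ v) = M *ᵥ slice a h v from funext (embMat_idx a h M v), hM]
  · exact Finset.sum_congr rfl fun k _ => by rw [embMat_out a h M u k.2, embMat_out a h M v k.2]

/-- `SU m` on the interval `[a, a+m)`. -/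
def embFun (a : ℕ) (h : a + m ≤ n) (g : SU m F q) : SU n F q :=
  mkSU (embMat a h ((g : Matrix.SpecialLinearGroup (Fin m) F) : Matrix (Fin m) (Fin m) F))
    (by rw [embMat_det]; exact g.1.2) (embMat_isU a h (isU_of_mem_SU g))

theorem slice_embFun (a : ℕ) (h : a + m ≤ n) (g : SU m F q) (x : Fin n → F) :
    slice a h (act (embFun a h g) x) = act g (slice a h x) := funext (embMat_idx a h _ x)

theorem out_embFun (a : ℕ) (h : a + m ≤ n) (g : SU m F q) (x : Fin n → F) {k : Fin n}
    (hk : ¬ InR a m k) : act (embFun a h g) x k = x k := embMat_out a h _ x hk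

/-- The block embedding. -/
def emb (a : ℕ) (h : a + m ≤ n) : SU m F q →* SU n F q where
  toFun := embFun a h
  map_one' := su_ext fun x => vec_ext a h (fun i => by
      have := congrFun (slice_embFun a h (1 : SU m F q) x) i
      rw [act_one] at this
      rw [act_one]; exact this)
    (fun k hk => by rw [out_embFun a h _ x hk, act_one])
  map_mul' g g' := su_ext fun x => vec_ext a h (fun i => by
      rw [act_mul]
      refine (congrFun (slice_embFun a h (g * g') x) i).trans ?_
      rw [act_mul, ← slice_embFun a h g' x]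
      exact (congrFun (slice_embFun a h g _) i).symm)
    (fun k hk => by rw [act_mul, out_embFun a h _ _ hk, out_embFun a h _ _ hk, out_embFun a h _ _ hk])

theorem slice_emb (a : ℕ) (h : a + m ≤ n) (g : SU m F q) (x : Fin n → F) :
    slice a h (act (emb a h g) x) = act g (slice a h x) := slice_embFun a h g x

theorem emb_idx (a : ℕ) (h : a + m ≤ n) (g : SU m F q) (x : Fin n → F) (i : Fin m) :
    act (emb a h g) x (idx a h i) = act g (slice a h x) i := congrFun (slice_embFun a h g x) i

theorem emb_out (a : ℕ) (h : a + m ≤ n) (g : SU m F q) (x : Fin n → F) {k : Fin n}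
    (hk : ¬ InR a m k) : act (emb a h g) x k = x k := out_embFun a h g x hk

theorem emb_injective (a : ℕ) (h : a + m ≤ n) : Function.Injective (emb (F := F) (q := q) a h) := by
  intro g g' e
  refine su_ext fun w => ?_
  rw [← slice_put a h w, ← slice_emb, ← slice_emb, e]

theorem emb_put (_hF : Fintype.card F = q ^ 2) (a : ℕ) (h : a + m ≤ n) (g : SU m F q) (w : Fin m → F) :
    act (emb a h g) (put a h w) = put a h (act g w) := by
  refine vec_ext a h (fun i => ?_) fun k hk => ?_
  · rw [emb_idx, slice_put, put_idx]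
  · rw [emb_out a h g _ hk, put_out a h _ hk, put_out a h _ hk]

theorem emb_emb {a b : ℕ} (h : a + m ≤ n) (h' : b + n ≤ r) (h'' : (b + a) + m ≤ r) (g : SU m F q) :
    emb b h' (emb a h g) = emb (b + a) h'' g := by
  have key : ∀ i, idx b h' (idx a h i) = idx (b + a) h'' i := fun i =>
    Fin.ext (by simp [idx, Nat.add_assoc])
  refine su_ext fun x => vec_ext (b + a) h'' (fun i => ?_) fun k hk => ?_
  · rw [emb_idx (b + a) h'', ← key, emb_idx, emb_idx, slice_slice h h' h'']
  · rw [emb_out (b + a) h'' g x hk]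
    by_cases hb : InR b n k
    · obtain ⟨j, rfl⟩ : ∃ j, idx b h' j = k := ⟨⟨(k : ℕ) - b, by obtain ⟨h1, h2⟩ := hb; omega⟩,
        Fin.ext (by obtain ⟨h1, h2⟩ := hb; simp [idx]; omega)⟩
      rw [emb_idx, emb_out a h g _ (fun hj => hk ?_)]
      · rfl
      · obtain ⟨h1, h2⟩ := hj
        simp only [InR, idx]
        omega
    · rw [emb_out b h' _ x hb]

theorem emb_full (g : SU n F q) (h : 0 + n ≤ n) : emb 0 h g = g := by
  refine su_ext fun x => vec_ext 0 h (fun i => ?_) fun k hk => ?_
  · rw [emb_idx]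
    have e : ∀ i : Fin n, idx 0 h i = i := fun i => Fin.ext (by simp [idx])
    rw [e]
    congr 1
    funext j
    simp [slice, e]
  · exact absurd ⟨Nat.zero_le _, by omega⟩ hk

/-- The pointwise stabiliser of the coordinate vectors outside an interval is the block. -/
theorem exists_emb (hF : Fintype.card F = q ^ 2) (a : ℕ) (h : a + m ≤ n) (g : SU n F q)
    (hg : ∀ k, ¬ InR a m k → act g (Pi.single k 1) = Pi.single k 1) : ∃ g', emb a h g' = g := by
  set M := ((g : Matrix.SpecialLinearGroup (Fin n) F) : Matrix (Fin n) (Fin n) F) with hM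
  have hout : ∀ x k, ¬ InR a m k → act g x k = x k := fun x k hk => by
    rw [← herm_single_right hF k (act g x)]
    conv_lhs => rw [← hg k hk]
    rw [herm_act, herm_single_right hF]
  have hcol : ∀ i k, ¬ InR a m k → M i k = (Pi.single k 1 : Fin n → F) i := fun i k hk => by
    rw [← hg k hk]; simp [act, ← hM]
  have hrow : ∀ k j, ¬ InR a m k → M k j = (Pi.single j 1 : Fin n → F) k := fun k j hk => by
    rw [← hout (Pi.single j 1) k hk]; simp [act, ← hM]
  let M' : Matrix (Fin m) (Fin m) F := fun i j => M (idx a h i) (idx a h j)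
  have hMM : embMat a h M' = M := by
    ext k l
    obtain ⟨s, rfl⟩ := (split a h).surjective k
    obtain ⟨s', rfl⟩ := (split a h).surjective l
    rw [embMat, Matrix.reindex_apply, Matrix.submatrix_apply, Equiv.symm_apply_apply,
      Equiv.symm_apply_apply]
    rcases s with i | ⟨k, hk⟩ <;> rcases s' with j | ⟨l, hl⟩
    · rfl
    · rw [Matrix.fromBlocks_apply₁₂, split_inl, split_inr, hcol _ _ hl, Matrix.zero_apply,
        Pi.single_eq_of_ne]
      rintro rfl
      exact hl (inR_idx a h i)
    · rw [Matrix.fromBlocks_apply₂₁, split_inl, split_inr, hrow _ _ hk, Matrix.zero_apply,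
        Pi.single_eq_of_ne]
      rintro rfl
      exact hk (inR_idx a h j)
    · rw [Matrix.fromBlocks_apply₂₂, split_inr, split_inr, hrow _ _ hk, Matrix.one_apply,
        Pi.single_apply]
      simp only [Subtype.mk.injEq]
  have hd : M'.det = 1 := by rw [← embMat_det a h, hMM]; exact g.1.2
  have hU : IsU q M' := fun u v => by
    have e : ∀ w, put a h (M' *ᵥ w) = M *ᵥ put a h w := fun w => by
      refine vec_ext a h (fun i => ?_) fun k hk => ?_
      · rw [put_idx, ← hMM, embMat_idx, slice_put]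
      · rw [put_out a h _ hk, ← hMM, embMat_out a h _ _ hk, put_out a h _ hk]
    rw [← herm_put hF a h, e, e, isU_of_mem_SU g, herm_put hF a h]
  exact ⟨mkSU M' hd hU, Subtype.ext (Subtype.ext hMM)⟩

/-- The norm of the last coordinate and the rest. -/
theorem herm_last (hn : 1 ≤ n) (x y : Fin n → F) :
    hermForm n F q x y = hermForm (n - 1) F q (slice 0 (by omega) x) (slice 0 (by omega) y) +
      x ⟨n - 1, by omega⟩ * y ⟨n - 1, by omega⟩ ^ q := by
  obtain ⟨k, rfl⟩ : ∃ k, n = k + 1 := ⟨n - 1, by omega⟩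
  unfold hermForm
  rw [Fin.sum_univ_castSucc]
  congr 1
  refine Finset.sum_congr rfl fun i _ => ?_
  have e : idx (n := k + 1) 0 (by omega : 0 + (k + 1 - 1) ≤ k + 1) i = i.castSucc := Fin.ext (by simp [idx])
  simp only [slice]
  rw [e]

/-- Elements fixing the last coordinate vector. -/
theorem exists_emb_last (hF : Fintype.card F = q ^ 2) (hn : 1 ≤ n) (g : SU n F q)
    (hg : act g (Pi.single ⟨n - 1, by omega⟩ 1) = Pi.single ⟨n - 1, by omega⟩ 1) :
    ∃ g' : SU (n - 1) F q, emb 0 (by omega) g' = g :=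
  exists_emb hF 0 (by omega) g fun k hk => by
    have : k = ⟨n - 1, by omega⟩ := Fin.ext (by simp only [InR] at hk; have := k.2; simp only; omega)
    rw [this]; exact hg

end Cfsg.Agent.PhanBlocks47
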