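import Cfsg.Agent.Lib.PhanGen47

/-!
The coset map of a Phan amalgam: a map from vectors of norm one to the cosets of the first block, built from
the two overlapping blocks `[0, m]` and `[1, m+1]`.
-/

set_option autoImplicit false
set_option linter.unusedSectionVars false

namespace Cfsg.Agent.PhanCoset47

open Cfsg Cfsg.Agent.OrthUnitaryHerm Cfsg.Agent.OrthUnitaryTransvection Cfsg.Agent.PhanBlocks47
open scoped Matrix

universe u v

variable {F : Type u} [Field F] [Fintype F] {q m : ℕ}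

/-- A group containing two overlapping copies of `SU (m+1)` mapped onto blocks of `SU (m+2)`. -/
structure Amal (F : Type u) [Field F] [Fintype F] (q m : ℕ) (G : Type v) [Group G] where
  hF : Fintype.card F = q ^ 2
  hm : 2 ≤ m
  hq : 3 ≤ m ∨ 4 ≤ q
  π : G →* SU (m + 2) F q
  Φ1 : SU (m + 1) F q →* G
  Φ2 : SU (m + 1) F q →* G
  π1 : ∀ g, π (Φ1 g) = emb 0 (by omega) g
  π2 : ∀ g, π (Φ2 g) = emb 1 (by omega) g
  agree : ∀ a : SU m F q, Φ1 (emb 1 (by omega) a) = Φ2 (emb 0 (by omega) a)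
  hc1 : ∀ (a : SU m F q) (b : SU 2 F q),
    Commute (Φ1 (emb 0 (by omega) a)) (Φ2 (emb (m - 1) (by omega) b))
  hc2 : ∀ (a : SU 2 F q) (b : SU m F q),
    Commute (Φ1 (emb 0 (by omega) a)) (Φ2 (emb 1 (by omega) b))
  hc3 : 3 ≤ m → ∀ (a : SU 3 F q) (b : SU (m - 1) F q) (ha : 0 + 3 ≤ m + 1),
    Commute (Φ1 (emb 0 ha a)) (Φ2 (emb 2 (by omega) b))
  hgen : Φ1.range ⊔ Φ2.range = ⊤

variable {G : Type v} [Group G] (A : Amal F q m G)

namespace Amal

/-- The norm of a scalar. -/
def N (q : ℕ) (x : F) : F := x * x ^ q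

theorem N_zero (_hF : Fintype.card F = q ^ 2) : N q (0 : F) = 0 := zero_mul _

theorem N_fixed (hF : Fintype.card F = q ^ 2) (x : F) : N q x ^ q = N q x := by
  rw [N, mul_pow, pow_q_q hF, mul_comm]

/-- The action on vectors. -/
def ρ (g : G) (v : Fin (m + 2) → F) : Fin (m + 2) → F := act (A.π g) v

theorem ρ_mul (g h : G) (v : Fin (m + 2) → F) : A.ρ (g * h) v = A.ρ g (A.ρ h v) := by
  rw [ρ, map_mul, act_mul]; rfl

theorem ρ_one (v : Fin (m + 2) → F) : A.ρ 1 v = v := by rw [ρ, map_one, act_one]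

theorem ρ_inv_ρ (g : G) (v : Fin (m + 2) → F) : A.ρ g⁻¹ (A.ρ g v) = v := by
  rw [← ρ_mul, inv_mul_cancel, ρ_one]

theorem ρ_commute {g h : G} (c : Commute g h) (v : Fin (m + 2) → F) :
    A.ρ g (A.ρ h v) = A.ρ h (A.ρ g v) := by rw [← ρ_mul, c.eq, ρ_mul]

/-- Norm one. -/
def X (_A : Amal F q m G) (v : Fin (m + 2) → F) : Prop := hermForm (m + 2) F q v v = 1

theorem X_ρ {v : Fin (m + 2) → F} (g : G) (hv : A.X v) : A.X (A.ρ g v) := by
  unfold X ρ
  rw [herm_act]; exact hv

/-- All but the last coordinate. -/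
def hd (v : Fin (m + 2) → F) : Fin (m + 1) → F := slice 0 (by omega) v

/-- All but the first coordinate. -/
def tl (v : Fin (m + 2) → F) : Fin (m + 1) → F := slice 1 (by omega) v

/-- The middle coordinates. -/
def md (v : Fin (m + 2) → F) : Fin m → F := slice 1 (by omega) v

/-- The first `m` coordinates. -/
def ini (v : Fin (m + 2) → F) : Fin m → F := slice 0 (by omega) v

/-- The last two coordinates. -/
def fin2 (v : Fin (m + 2) → F) : Fin 2 → F := slice m (by omega) v

/-- `v ∈ A`: the last coordinate has norm other than one. -/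
def Aset (_A : Amal F q m G) (v : Fin (m + 2) → F) : Prop := N q (v (Fin.last (m + 1))) ≠ 1

/-- `v ∈ B`: the first coordinate has norm other than one. -/
def Bset (_A : Amal F q m G) (v : Fin (m + 2) → F) : Prop := N q (v 0) ≠ 1

theorem hd_last (v : Fin (m + 2) → F) (g : SU (m + 1) F q) :
    A.ρ (A.Φ1 g) v (Fin.last (m + 1)) = v (Fin.last (m + 1)) := by
  rw [ρ, A.π1, emb_out 0 _ g v]
  simp [InR, Fin.val_last]

theorem hd_ρ1 (v : Fin (m + 2) → F) (g : SU (m + 1) F q) : hd (A.ρ (A.Φ1 g) v) = act g (hd v) := by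
  rw [hd, ρ, A.π1, slice_emb]; rfl

theorem tl_first (v : Fin (m + 2) → F) (g : SU (m + 1) F q) : A.ρ (A.Φ2 g) v 0 = v 0 := by
  rw [ρ, A.π2, emb_out 1 _ g v]
  simp [InR]

theorem tl_ρ2 (v : Fin (m + 2) → F) (g : SU (m + 1) F q) : tl (A.ρ (A.Φ2 g) v) = act g (tl v) := by
  rw [tl, ρ, A.π2, slice_emb]; rfl

theorem norm_hd (_A : Amal F q m G) (v : Fin (m + 2) → F) :
    hermForm (m + 2) F q v v = hermForm (m + 1) F q (hd v) (hd v) + N q (v (Fin.last (m + 1))) := by
  rw [herm_last (by omega) v v]; rfl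

theorem norm_tl (_A : Amal F q m G) (v : Fin (m + 2) → F) :
    hermForm (m + 2) F q v v = N q (v 0) + hermForm (m + 1) F q (tl v) (tl v) :=
  norm_split_first (k := m + 1) _A.hF (by omega) v

theorem norm_cut (_A : Amal F q m G) (v : Fin (m + 2) → F) :
    hermForm (m + 2) F q v v = hermForm m F q (ini v) (ini v) + hermForm 2 F q (fin2 v) (fin2 v) := by
  unfold hermForm
  rw [Fin.sum_univ_add]
  congr 1
  · refine Finset.sum_congr rfl fun i _ => ?_
    have e : idx 0 (by omega : 0 + m ≤ m + 2) i = Fin.castAdd 2 i := Fin.ext (by simp [idx])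
    simp only [ini, slice, e]

theorem hd_norm_ne {v : Fin (m + 2) → F} (hv : A.X v) (ha : A.Aset v) :
    hermForm (m + 1) F q (hd v) (hd v) ≠ 0 := fun h => by
  have := A.norm_hd v
  rw [hv, h, zero_add] at this
  exact ha this.symm

theorem tl_norm_ne {v : Fin (m + 2) → F} (hv : A.X v) (hb : A.Bset v) :
    hermForm (m + 1) F q (tl v) (tl v) ≠ 0 := fun h => by
  have := A.norm_tl v
  rw [hv, h, add_zero] at this
  exact hb this.symm

/-- The middle block. -/
def M (a : SU m F q) : G := A.Φ1 (emb 1 (by omega) a)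

theorem M_eq (a : SU m F q) : A.M a = A.Φ2 (emb 0 (by omega) a) := A.agree a

/-- The block on the first `m` coordinates. -/
def K (a : SU m F q) : G := A.Φ1 (emb 0 (by omega) a)

/-- The last pair. -/
def U (b : SU 2 F q) : G := A.Φ2 (emb (m - 1) (by have := A.hm; omega) b)

/-- The first pair. -/
def U0 (a : SU 2 F q) : G := A.Φ1 (emb 0 (by have := A.hm; omega) a)

theorem π_M (a : SU m F q) : A.π (A.M a) = emb 1 (by omega) a := by
  rw [M, A.π1, emb_emb _ _ (by omega : 0 + 1 + m ≤ m + 2)]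

theorem π_K (a : SU m F q) : A.π (A.K a) = emb 0 (by omega) a := by
  rw [K, A.π1, emb_emb _ _ (by omega : 0 + 0 + m ≤ m + 2)]

theorem π_U0 (a : SU 2 F q) : A.π (A.U0 a) = emb 0 (by omega) a := by
  rw [U0, A.π1, emb_emb _ _ (by omega : 0 + 0 + 2 ≤ m + 2)]

theorem π_U (b : SU 2 F q) : A.π (A.U b) = emb m (by omega) b := by
  have hm := A.hm
  rw [U, A.π2, emb_emb _ _ (by omega : 1 + (m - 1) + 2 ≤ m + 2)]
  congr 2
  omega

theorem md_M (v : Fin (m + 2) → F) (a : SU m F q) : md (A.ρ (A.M a) v) = act a (md v) := by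
  rw [md, ρ, π_M, slice_emb]; rfl

theorem M_out (v : Fin (m + 2) → F) (a : SU m F q) {i : Fin (m + 2)} (hi : i.val = 0 ∨ i.val = m + 1) :
    A.ρ (A.M a) v i = v i := by
  rw [ρ, π_M, emb_out 1 _ a v]
  simp only [InR]
  omega

theorem ini_K (v : Fin (m + 2) → F) (a : SU m F q) : ini (A.ρ (A.K a) v) = act a (ini v) := by
  rw [ini, ρ, π_K, slice_emb]; rfl

theorem K_out (v : Fin (m + 2) → F) (a : SU m F q) {i : Fin (m + 2)} (hi : m ≤ i.val) :
    A.ρ (A.K a) v i = v i := by
  rw [ρ, π_K, emb_out 0 _ a v]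
  simp only [InR]
  omega

theorem fin2_U (v : Fin (m + 2) → F) (b : SU 2 F q) : fin2 (A.ρ (A.U b) v) = act b (fin2 v) := by
  rw [fin2, ρ, π_U, slice_emb]; rfl

theorem U_out (v : Fin (m + 2) → F) (b : SU 2 F q) {i : Fin (m + 2)} (hi : i.val < m) :
    A.ρ (A.U b) v i = v i := by
  rw [ρ, π_U, emb_out m _ b v]
  simp only [InR]
  omega

theorem U_first (v : Fin (m + 2) → F) (b : SU 2 F q) : A.ρ (A.U b) v 0 = v 0 :=
  A.U_out v b (by have := A.hm; simp; omega)

theorem fin2_one (v : Fin (m + 2) → F) : fin2 v 1 = v (Fin.last (m + 1)) :=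
  congrArg v (Fin.ext (by simp [idx]))

theorem commute_K_U (a : SU m F q) (b : SU 2 F q) : Commute (A.K a) (A.U b) := A.hc1 a b

/-! ### The first route -/

/-- The base coset. -/
def base : G ⧸ A.Φ1.range := ((1 : G) : G ⧸ A.Φ1.range)

theorem smul_base_of_mem {h : G} (hh : h ∈ A.Φ1.range) : h • A.base = A.base := by
  show ((h * 1 : G) : G ⧸ A.Φ1.range) = ((1 : G) : G ⧸ A.Φ1.range)
  rw [mul_one, QuotientGroup.eq, mul_one]
  exact inv_mem hh

open Classical in
/-- A chosen element of `SU 2` sending `e₁` to a vector with second coordinate `t`. -/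
noncomputable def ut (_A : Amal F q m G) (t : F) : SU 2 F q :=
  if h : ∃ u : SU 2 F q, act u ![0, 1] 1 = t then h.choose else 1

/-- The first coordinate of its image of `e₁`. -/
noncomputable def rt (t : F) : F := act (A.ut t) ![0, 1] 0

theorem K_base (a : SU m F q) : A.K a • A.base = A.base := A.smul_base_of_mem ⟨_, rfl⟩

theorem M_base (a : SU m F q) : A.M a • A.base = A.base := A.smul_base_of_mem ⟨_, rfl⟩

theorem ut_spec (t : F) : act (A.ut t) ![0, 1] 1 = t ∧ N q (A.rt t) = 1 - N q t := by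
  have hF := A.hF
  have h : ∃ u : SU 2 F q, act u ![0, 1] 1 = t := by
    obtain ⟨r, hr⟩ := exists_norm_eq hF (a := 1 - N q t) (by rw [sub_pow_q hF, one_pow, N_fixed hF])
    rw [pow_succ'] at hr
    obtain ⟨u, hu⟩ := trans_norm hF (le_refl 2) (u := ![0, 1]) (v := ![r, t])
      (by simp [herm_two, hr, N, zero_pow_q hF]) (by simp [herm_two, zero_pow_q hF])
    exact ⟨u, by rw [hu]; rfl⟩
  have h1 : act (A.ut t) ![0, 1] 1 = t := by
    unfold ut
    rw [dif_pos h]
    exact h.choose_spec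
  refine ⟨h1, ?_⟩
  have h2 := herm_act (A.ut t) ![0, 1] ![0, 1]
  rw [herm_two, h1] at h2
  simp only [herm_two, Matrix.cons_val_zero, Matrix.cons_val_one, one_pow, mul_one, zero_mul, zero_add] at h2
  unfold N rt
  linear_combination h2

theorem rt_ne {t : F} (ht : N q t ≠ 1) : A.rt t ≠ 0 := fun h => by
  have := (A.ut_spec t).2
  rw [h, N, zero_mul] at this
  exact ht (sub_eq_zero.1 this.symm).symm

/-- The last coordinate vector of the first block, scaled. -/
def ev (m : ℕ) (r : F) : Fin (m + 1) → F := r • Pi.single (Fin.last m) 1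

/-- `g` moves the standard point of the first route to `v`. -/
def R1 (v : Fin (m + 2) → F) (g : SU (m + 1) F q) : Prop :=
  act g (ev m (A.rt (v (Fin.last (m + 1))))) = hd v

open Classical in
/-- The first route. -/
noncomputable def c1 (v : Fin (m + 2) → F) : G ⧸ A.Φ1.range :=
  if h : ∃ g, A.R1 v g then (A.Φ1 h.choose * A.U (A.ut (v (Fin.last (m + 1))))) • A.base else A.base

theorem exists_R1 {v : Fin (m + 2) → F} (hv : A.X v) (ha : A.Aset v) : ∃ g, A.R1 v g := by
  have hF := A.hF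
  refine trans_norm hF (by have := A.hm; omega) ?_ ?_
  · rw [ev, herm_smul_self, herm_single_self hF, mul_one, ← N, (A.ut_spec _).2]
    have := A.norm_hd v
    rw [hv] at this
    linear_combination this
  · rw [ev, herm_smul_self, herm_single_self hF, mul_one]
    exact mul_ne_zero (A.rt_ne ha) (pow_ne_zero _ (A.rt_ne ha))

theorem c1_eq {v : Fin (m + 2) → F} (ha : A.Aset v) {g : SU (m + 1) F q} (hg : A.R1 v g) :
    A.c1 v = (A.Φ1 g * A.U (A.ut (v (Fin.last (m + 1))))) • A.base := by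
  have h : ∃ g, A.R1 v g := ⟨g, hg⟩
  unfold c1
  rw [dif_pos h]
  set g' := h.choose with hg'
  set u := A.ut (v (Fin.last (m + 1)))
  have h1 : act (g⁻¹ * g') (Pi.single (Fin.last m) 1) = Pi.single (Fin.last m) 1 := by
    have e : act g' (ev m (A.rt (v (Fin.last (m + 1))))) = act g (ev m (A.rt (v (Fin.last (m + 1))))) :=
      h.choose_spec.trans hg.symm
    rw [act_mul]
    have e2 := congrArg (act g⁻¹) e
    rw [act_inv_act, ev, act_smul, act_smul] at e2
    exact smul_right_injective _ (A.rt_ne ha) e2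
  obtain ⟨a, ha'⟩ := exists_emb_last A.hF (by omega) (g⁻¹ * g') h1
  have e : A.Φ1 g' = A.Φ1 g * A.K a := by
    rw [K]
    have : emb 0 (by omega) a = g⁻¹ * g' := ha'
    rw [this, ← map_mul, mul_inv_cancel_left]
  rw [e, mul_assoc, (A.commute_K_U a u).eq, ← mul_assoc, mul_smul _ (A.K a), A.K_base]

theorem c1_ρ1 {v : Fin (m + 2) → F} (hv : A.X v) (ha : A.Aset v) (g : SU (m + 1) F q) :
    A.c1 (A.ρ (A.Φ1 g) v) = A.Φ1 g • A.c1 v := by
  obtain ⟨h, hh⟩ := A.exists_R1 hv ha
  have ha' : A.Aset (A.ρ (A.Φ1 g) v) := by rw [Aset, hd_last]; exact ha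
  have hh' : A.R1 (A.ρ (A.Φ1 g) v) (g * h) := by
    rw [R1, hd_last, act_mul, hh, hd_ρ1]
  rw [A.c1_eq ha hh, A.c1_eq ha' hh', hd_last, map_mul, mul_assoc, mul_smul]

theorem c1_M {v : Fin (m + 2) → F} (hv : A.X v) (ha : A.Aset v) (a : SU m F q) :
    A.c1 (A.ρ (A.M a) v) = A.M a • A.c1 v := A.c1_ρ1 hv ha _

theorem c1_K {v : Fin (m + 2) → F} (hv : A.X v) (ha : A.Aset v) (a : SU m F q) :
    A.c1 (A.ρ (A.K a) v) = A.K a • A.c1 v := A.c1_ρ1 hv ha _

/-- The last coordinate vector. -/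
def lastv (m : ℕ) : Fin (m + 2) → F := Pi.single (Fin.last (m + 1)) 1

theorem reach_c1 {v : Fin (m + 2) → F} {g : SU (m + 1) F q} (hg : A.R1 v g) :
    A.ρ (A.Φ1 g * A.U (A.ut (v (Fin.last (m + 1))))) (lastv m) = v := by
  have hm := A.hm
  set t := v (Fin.last (m + 1))
  set p := A.ρ (A.U (A.ut t)) (lastv m) with hp
  have hp2 : fin2 p = act (A.ut t) ![0, 1] := by
    rw [hp, fin2_U]
    congr 1
    funext i
    fin_cases i <;> simp [fin2, slice, lastv, idx, Pi.single_apply, Fin.ext_iff]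
  have hpl : p (Fin.last (m + 1)) = t := by rw [← fin2_one p, hp2, (A.ut_spec t).1]
  have hph : hd p = ev m (A.rt t) := by
    funext i
    by_cases hi : i = Fin.last m
    · subst hi
      simp only [ev, Pi.smul_apply, Pi.single_eq_same, smul_eq_mul, mul_one]
      rw [rt, ← hp2]
      exact congrArg p (Fin.ext (by simp [idx]))
    · simp only [ev, Pi.smul_apply, Pi.single_eq_of_ne hi, smul_zero]
      show A.ρ _ _ (idx 0 _ i) = 0
      have hi' : i.val < m := by
        have := i.2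
        have : i.val ≠ m := fun h => hi (Fin.ext (by simpa using h))
        omega
      rw [A.U_out _ _ (by simpa [idx] using hi'), lastv, Pi.single_eq_of_ne]
      intro h
      have := congrArg Fin.val h
      simp [idx] at this
      omega
  rw [ρ_mul, ← hp]
  refine vec_ext 0 (by omega : 0 + (m + 1) ≤ m + 2) (fun i => ?_) fun k hk => ?_
  · show hd (A.ρ (A.Φ1 g) p) i = hd v i
    rw [hd_ρ1, hph, hg]
  · have : k = Fin.last (m + 1) := Fin.ext (by
      simp [InR] at hk; have := k.2; simp only [Fin.val_last]; omega)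
    rw [this, hd_last, hpl]

open Classical in
/-- The map on vectors with first coordinate zero. -/
noncomputable def f (z : Fin (m + 1) → F) : G ⧸ A.Φ1.range :=
  if h : ∃ g : SU (m + 1) F q, act g (Pi.single (Fin.last m) 1) = z then A.Φ2 h.choose • A.base
  else A.base

theorem f_eq {z : Fin (m + 1) → F} {g : SU (m + 1) F q}
    (hg : act g (Pi.single (Fin.last m) 1) = z) : A.f z = A.Φ2 g • A.base := by
  have h : ∃ g : SU (m + 1) F q, act g (Pi.single (Fin.last m) 1) = z := ⟨g, hg⟩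
  unfold f
  rw [dif_pos h]
  set g' := h.choose with hg'
  obtain ⟨a, ha⟩ := exists_emb_last A.hF (by omega) (g⁻¹ * g') (by
    show act (g⁻¹ * g') (Pi.single (Fin.last m) 1) = Pi.single (Fin.last m) 1
    rw [act_mul, h.choose_spec, ← hg, act_inv_act])
  have e : A.Φ2 g' = A.Φ2 g * A.M a := by
    rw [M_eq]
    have : emb 0 (by omega) a = g⁻¹ * g' := ha
    rw [this, ← map_mul, mul_inv_cancel_left]
  rw [e, mul_smul, A.M_base]

theorem f_act {z : Fin (m + 1) → F} (hz : hermForm (m + 1) F q z z = 1) (b : SU (m + 1) F q) :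
    A.f (act b z) = A.Φ2 b • A.f z := by
  obtain ⟨g, hg⟩ := trans_norm A.hF (by have := A.hm; omega) (u := Pi.single (Fin.last m) (1 : F)) (v := z)
    (by rw [herm_single_self A.hF, hz]) (by rw [herm_single_self A.hF]; exact one_ne_zero)
  rw [A.f_eq hg, A.f_eq (g := b * g) (by rw [act_mul, hg]), map_mul, mul_smul]

theorem agree0 {v : Fin (m + 2) → F} (hv : A.X v) (ha : A.Aset v) (h0 : v 0 = 0) :
    A.c1 v = A.f (tl v) := by
  have hF := A.hF
  have hm := A.hm
  set r := A.rt (v (Fin.last (m + 1)))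
  have hy : hermForm m F q (md v) (md v) = N q r := by
    have h1 := A.norm_hd v
    rw [hv, norm_split_first (k := m) hF (by omega : 1 + m ≤ m + 1) (hd v)] at h1
    rw [(A.ut_spec _).2]
    have e0 : hd v 0 = v 0 := congrArg v (Fin.ext (by simp [idx]))
    have e1 : slice 1 (by omega : 1 + m ≤ m + 1) (hd v) = md v := slice_slice _ _ _ _
    rw [e0, h0, e1, zero_mul, zero_add] at h1
    linear_combination -h1
  obtain ⟨a, ha'⟩ := trans_norm hF hm (u := r • Pi.single (⟨m - 1, by omega⟩ : Fin m) (1 : F)) (v := md v)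
    (by rw [herm_smul_self, herm_single_self hF, mul_one]; exact hy.symm)
    (by rw [herm_smul_self, herm_single_self hF, mul_one]
        exact mul_ne_zero (A.rt_ne ha) (pow_ne_zero _ (A.rt_ne ha)))
  have hR : A.R1 v (emb 1 (by omega) a) := by
    refine vec_ext 1 (by omega : 1 + m ≤ m + 1) (fun i => ?_) fun k hk => ?_
    · rw [emb_idx]
      have e : slice 1 (by omega : 1 + m ≤ m + 1) (ev m r) = r • Pi.single (⟨m - 1, by omega⟩ : Fin m) (1 : F) := by
        funext j
        simp only [slice, ev, Pi.smul_apply]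
        congr 1
        rw [Pi.single_apply, Pi.single_apply]
        refine if_congr ?_ rfl rfl
        simp [idx, Fin.ext_iff]
        omega
      rw [e, ha']
      exact congrArg v (Fin.ext (by simp [idx]))
    · have hk0 : k = 0 := Fin.ext (by simp [InR] at hk; have := k.2; simp only [Fin.val_zero]; omega)
      rw [emb_out 1 _ a _ hk, hk0]
      simp only [ev, Pi.smul_apply]
      rw [Pi.single_eq_of_ne (fun h => by have := congrArg Fin.val h; simp at this; omega), smul_zero]
      exact (show hd v 0 = 0 from (congrArg v (Fin.ext (by simp [idx]))).trans h0).symm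
  rw [A.c1_eq ha hR]
  have hr := A.reach_c1 hR
  have e : A.Φ1 (emb 1 (by omega) a) * A.U (A.ut (v (Fin.last (m + 1)))) =
      A.Φ2 (emb 0 (by omega) a * emb (m - 1) (by omega) (A.ut (v (Fin.last (m + 1))))) := by
    rw [A.agree, map_mul]; rfl
  rw [e] at hr ⊢
  refine (A.f_eq ?_).symm
  have e2 : tl (lastv (F := F) m) = Pi.single (Fin.last m) (1 : F) := by
    funext i
    simp only [tl, slice, lastv, Pi.single_apply]
    refine if_congr ?_ rfl rfl
    simp [idx, Fin.ext_iff]
    omega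
  exact (congrArg (act _) e2).symm.trans ((A.tl_ρ2 _ _).symm.trans (congrArg tl hr))

end Amal

end Cfsg.Agent.PhanCoset47
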