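import Cfsg.Agent.Lib.PhanRoutes47
import Cfsg.Agent.Lib.OrthUnitaryIsotropic

/-!
The coset map of a Phan amalgam is equivariant, so two overlapping homomorphisms of `SU (m+1)` with the
Phan commutation relations extend to `SU (m+2)`.
-/

set_option autoImplicit false
set_option linter.unusedSectionVars false

namespace Cfsg.Agent.PhanCoset47

open Cfsg Cfsg.Agent.OrthUnitaryHerm Cfsg.Agent.OrthUnitaryTransvection Cfsg.Agent.PhanBlocks47
open scoped Matrix

universe u v

variable {F : Type u} [Field F] [Fintype F] {q m : ℕ}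

/-- A parameter of an Eichler element avoiding two norms. -/
theorem exists_mu_avoid (hF : Fintype.card F = q ^ 2) (hq : 4 ≤ q) {a : F} (ha : a ^ q = a) (ha0 : a ≠ 0) :
    ∃ μ : F, μ + μ ^ q + a = 0 ∧ μ * μ ^ q ≠ a ∧ μ * μ ^ q ≠ 2 * a := by
  classical
  by_contra h
  push Not at h
  obtain ⟨μ0, hμ0'⟩ := exists_trace hF (a := -a) (by rw [neg_pow_q hF, ha])
  have hμ0 : μ0 + μ0 ^ q + a = 0 := by linear_combination hμ0'
  let S : Finset F := Finset.univ.filter fun μ => μ + μ ^ q + a = 0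
  have hS : S.card = q := by
    have h1 : Nat.card {x : F // x + x ^ q = 0} = q := Cfsg.Agent.OrthUnitaryIsotropic.card_skew_one hF
    have h2 : Nat.card {μ : F // μ + μ ^ q + a = 0} = q := by
      refine Eq.trans ?_ h1
      exact Nat.card_congr
        { toFun := fun μ => ⟨μ.1 - μ0, by rw [sub_pow_q hF]; linear_combination μ.2 - hμ0⟩
          invFun := fun x => ⟨x.1 + μ0, by rw [add_pow_q hF]; linear_combination x.2 + hμ0⟩
          left_inv := fun μ => by simp
          right_inv := fun x => by simp }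
    rw [Nat.card_eq_fintype_card, Fintype.card_subtype] at h2
    exact h2
  have hpair : ∀ μ ν : F, μ + μ ^ q + a = 0 → ν + ν ^ q + a = 0 → μ * μ ^ q = ν * ν ^ q →
      μ = ν ∨ μ = -a - ν := by
    intro μ ν hμ hν he
    have h3 : (μ - ν) * (μ + ν + a) = 0 := by linear_combination μ * hμ - ν * hν - he
    rcases mul_eq_zero.1 h3 with h4 | h4
    · exact Or.inl (sub_eq_zero.1 h4)
    · exact Or.inr (by linear_combination h4)
  have hclass : ∀ b : F, (S.filter fun μ => μ * μ ^ q = b).card ≤ 2 := by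
    intro b
    rcases Finset.eq_empty_or_nonempty (S.filter fun μ => μ * μ ^ q = b) with e | ⟨ν, hν⟩
    · rw [e]; simp
    refine le_trans (Finset.card_le_card (t := {ν, -a - ν}) fun μ hμ => ?_) Finset.card_le_two
    simp only [S, Finset.mem_filter, Finset.mem_univ, true_and] at hμ hν
    rcases hpair μ ν hμ.1 hν.1 (hμ.2.trans hν.2.symm) with e | e <;> simp [e]
  rcases Nat.lt_or_ge q 5 with h5 | h5
  · obtain rfl : q = 4 := by omega
    have h2 : (2 : F) = 0 := by
      have h16 : ((16 : ℕ) : F) = 0 := by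
        have e : ((Fintype.card F : ℕ) : F) = 0 := FiniteField.cast_card_eq_zero F
        rwa [hF] at e
      have h24 : (2 : F) ^ 4 = 0 := by rw [← h16]; norm_num
      exact pow_eq_zero_iff (by norm_num) |>.1 h24
    have hsub : S ⊆ S.filter fun μ => μ * μ ^ 4 = a := by
      intro μ hμ
      refine Finset.mem_filter.2 ⟨hμ, ?_⟩
      simp only [S, Finset.mem_filter, Finset.mem_univ, true_and] at hμ
      by_contra hne
      have h3 := h μ hμ hne
      rw [h2, zero_mul] at h3
      rcases mul_eq_zero.1 h3 with h4 | h4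
      · exact ha0 (by rw [h4] at hμ; simpa using hμ)
      · exact ha0 (by rw [pow_eq_zero_iff (by norm_num)] at h4; rw [h4] at hμ; simpa using hμ)
    have := (Finset.card_le_card hsub).trans (hclass a)
    omega
  · have hsub : S ⊆ (S.filter fun μ => μ * μ ^ q = a) ∪ (S.filter fun μ => μ * μ ^ q = 2 * a) := by
      intro μ hμ
      have hμ' := hμ
      simp only [S, Finset.mem_filter, Finset.mem_univ, true_and] at hμ'
      by_cases hne : μ * μ ^ q = a
      · exact Finset.mem_union_left _ (Finset.mem_filter.2 ⟨hμ, hne⟩)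
      · exact Finset.mem_union_right _ (Finset.mem_filter.2 ⟨hμ, h μ hμ' hne⟩)
    have := (Finset.card_le_card hsub).trans ((Finset.card_union_le _ _).trans
      (Nat.add_le_add (hclass a) (hclass (2 * a))))
    omega

variable {G : Type v} [Group G] (A : Amal F q m G)

namespace Amal

theorem tl_norm_zero {v : Fin (m + 2) → F} (hv : A.X v) (h1 : N q (v 0) = 1) :
    hermForm (m + 1) F q (tl v) (tl v) = 0 := by
  have := A.norm_tl v
  rw [hv, h1] at this
  linear_combination -this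

theorem ρ2_fix {v : Fin (m + 2) → F} {b : SU (m + 1) F q} (hb : act b (tl v) = tl v) :
    A.ρ (A.Φ2 b) v = v := by
  refine vec_ext 1 (by omega : 1 + (m + 1) ≤ m + 2) (fun i => ?_) fun k hk => ?_
  · show tl (A.ρ (A.Φ2 b) v) i = tl v i
    rw [tl_ρ2, hb]
  · have : k = 0 := Fin.ext (by simp [InR] at hk; have := k.2; simp only [Fin.val_zero]; omega)
    rw [this, tl_first]

theorem md_eq (v : Fin (m + 2) → F) : md v = slice 0 (by omega : 0 + m ≤ m + 1) (tl v) :=
  (slice_slice (a := 0) (b := 1) (r := m + 2) (by omega) (by omega) (by omega) v).symm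

theorem M_fix {v : Fin (m + 2) → F} {d : SU m F q} (hd : act d (md v) = md v) :
    A.ρ (A.M d) v = v := by
  refine vec_ext 1 (by omega : 1 + m ≤ m + 2) (fun i => ?_) fun k hk => ?_
  · show md (A.ρ (A.M d) v) i = md v i
    rw [md_M, hd]
  · exact A.M_out v d (by simp [InR] at hk; have := k.2; omega)

set_option maxHeartbeats 1200000 in
/-- The loop through the two pair blocks, for `m = 2`. -/
theorem loop_two (A : Amal F q 2 G) {w : Fin (2 + 2) → F} (hw : A.X w) (hw1 : N q (w 0) = 1)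
    (hwl : w (Fin.last 3) = 0) (hwz : tl w = zI q 2) (β : F) (hβ : β ≠ 0) :
    ∃ s : SU 3 F q, act s (zI q 2) = zI q 2 ∧
      act s (Pi.single 2 1) = Pi.single 2 1 + β • zI q 2 ∧ A.Φ2 s • A.c1 w = A.c1 w := by
  have hF := A.hF
  have hq : 4 ≤ q := A.hq.resolve_left (by omega)
  obtain ⟨μ, hμ, hμ1, hμ2⟩ := exists_mu_avoid hF hq (a := β * β ^ q)
    (by rw [mul_pow, pow_q_q hF, mul_comm]) (mul_ne_zero hβ (pow_ne_zero _ hβ))
  have hz : (zeta q : F) * zeta q ^ q = -1 := zeta_spec hF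
  set e : Fin 3 → F := zI q 2 with he
  have e0 : e 0 = 1 := by simp [he, zI]
  have e1 : e 1 = zeta q := by simp [he, zI]
  have e2 : e 2 = 0 := by simp [he, zI]
  have hw' : hermForm 3 F q ((-β ^ q) • Pi.single 2 (1 : F)) e = 0 := by
    rw [herm_smul_left, herm_single_left, e2, zero_pow (q_ne_zero hF), mul_zero]
  have hμ' : μ + μ ^ q + hermForm 3 F q ((-β ^ q) • Pi.single 2 (1 : F)) ((-β ^ q) • Pi.single 2 (1 : F)) = 0 := by
    rw [herm_smul_self, herm_single_self hF, mul_one, neg_pow_q hF, pow_q_q hF]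
    linear_combination hμ
  set s := eich hF e ((-β ^ q) • Pi.single 2 (1 : F)) μ A.zI_norm hw' hμ' with hs
  have hse : act s e = e := by
    rw [hs, eich_act, A.zI_norm, herm_skew_zero hF hw']
    simp
  have hs2 : act s (Pi.single 2 1) = Pi.single 2 1 + β • e := by
    rw [hs, eich_act, herm_single_left, e2, zero_pow (q_ne_zero hF), herm_smul_right,
      herm_single_self hF, neg_pow_q hF, pow_q_q hF]
    simp
  refine ⟨s, hse, hs2, ?_⟩
  have hs0 : act s (Pi.single 0 1) = ![1 + μ, μ * zeta q, -β ^ q] := by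
    rw [hs, eich_act, herm_single_left, e0, one_pow, herm_smul_right, herm_single_right hF]
    funext i
    fin_cases i <;> simp [e0, e1, e2]
  set a : F := 1 + μ with ha
  have hNa : a * a ^ q = 1 - β * β ^ q + μ * μ ^ q := by
    rw [ha, add_pow_q hF, one_pow]
    linear_combination hμ
  obtain ⟨r, hr⟩ := exists_norm_eq hF (a := 1 - a * a ^ q)
    (by rw [sub_pow_q hF, one_pow, mul_pow, pow_q_q hF, mul_comm (a ^ q)])
  rw [pow_succ'] at hr
  set bb : SU 2 F q := mk2 hF a r (by rw [hr]; ring) with hbb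
  have hn : hermForm 2 F q ![-r ^ q, 0] ![-r ^ q, 0] = β * β ^ q - μ * μ ^ q := by
    rw [herm_two]
    simp [neg_pow_q hF, pow_q_q hF, zero_pow (q_ne_zero hF)]
    linear_combination hr - hNa
  have hn0 : β * β ^ q - μ * μ ^ q ≠ 0 := sub_ne_zero.2 (Ne.symm hμ1)
  obtain ⟨t1, ht1⟩ := trans_norm hF (le_refl 2) (u := ![-r ^ q, 0]) (v := ![μ * zeta q, -β ^ q])
    (by rw [hn, herm_two]; simp [mul_pow, neg_pow_q hF, pow_q_q hF]; linear_combination -(μ * μ ^ q) * hz)
    (by rw [hn]; exact hn0)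
  have h12 : (1 : ℕ) + 2 ≤ 2 + 1 := by omega
  have h02 : (0 : ℕ) + 2 ≤ 2 + 1 := by omega
  have i10 : idx (n := 2 + 1) 1 h12 (0 : Fin 2) = 1 := rfl
  have i11 : idx (n := 2 + 1) 1 h12 (1 : Fin 2) = 2 := rfl
  have i00 : idx (n := 2 + 1) 0 h02 (0 : Fin 2) = 0 := rfl
  have i01 : idx (n := 2 + 1) 0 h02 (1 : Fin 2) = 1 := rfl
  have hbe : act (emb 0 h02 bb) (Pi.single (0 : Fin 3) 1) = ![a, -r ^ q, 0] := by
    refine vec_ext 0 h02 (fun i => ?_) fun k hk => ?_
    · rw [emb_idx, hbb, act_mk2]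
      fin_cases i <;> simp [slice, i00, i01]
    · have : k = 2 := Fin.ext (by simp [InR] at hk; have := k.2; simp; omega)
      rw [this, emb_out 0 h02 bb _ (by simp [InR])]
      simp
  have hte : act (emb 1 h12 t1) ![a, -r ^ q, 0] = ![1 + μ, μ * zeta q, -β ^ q] := by
    refine vec_ext 1 h12 (fun i => ?_) fun k hk => ?_
    · rw [emb_idx, show slice 1 h12 ![a, -r ^ q, 0] = ![-r ^ q, 0] from funext fun j => by
        fin_cases j <;> simp [slice, i10, i11], ht1]
      fin_cases i <;> simp [i10, i11]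
    · have : k = 0 := Fin.ext (by simp [InR] at hk; have := k.2; simp only [Fin.val_zero]; omega)
      rw [this, emb_out 1 h12 t1 _ (by simp [InR])]
      simp [ha]
  obtain ⟨d2, hd2⟩ := exists_emb hF 1 h12 ((emb 1 h12 t1 * emb 0 h02 bb)⁻¹ * s) (fun k hk => by
    have : k = 0 := Fin.ext (by simp [InR] at hk; have := k.2; simp only [Fin.val_zero]; omega)
    rw [this, act_mul, hs0, ← hte, ← hbe, ← act_mul (emb 1 h12 t1), act_inv_act])
  have hsd : s = emb 1 h12 t1 * emb 0 h02 bb * emb 1 h12 d2 := by rw [hd2]; group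
  set p := act t1 ![0, 1] with hp
  have hp1 : p 0 * p 0 ^ q + p 1 * p 1 ^ q = 1 := by
    rw [← herm_two, hp, herm_act, herm_two]
    simp [zero_pow (q_ne_zero hF)]
  have hp2 : p 0 * (μ * zeta q) ^ q - p 1 * β = 0 := by
    have := herm_act t1 ![0, 1] ![-r ^ q, 0]
    rw [ht1, ← hp, herm_two, herm_two] at this
    simpa [neg_pow_q hF, pow_q_q hF, zero_pow (q_ne_zero hF), sub_eq_add_neg] using this
  have hd : N q (act (emb 1 h12 d2) e 2) ≠ 1 := by
    have h3 : act (emb 1 h12 d2) e = act (emb 0 h02 bb)⁻¹ (act (emb 1 h12 t1)⁻¹ e) := by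
      conv_lhs => rw [hd2, act_mul, hse, mul_inv_rev, act_mul]
    rw [h3, ← map_inv, emb_out 0 h02 _ _ (by simp [InR]), ← map_inv, ← i11, emb_idx,
      show slice 1 h12 e = ![zeta q, 0] from funext fun j => by
        fin_cases j <;> simp [slice, i10, i11, e1, e2]]
    have h4 : act t1⁻¹ ![zeta q, 0] 1 = zeta q * p 0 ^ q := by
      rw [← herm_single_right hF (1 : Fin 2) (act t1⁻¹ ![zeta q, 0]), ← herm_act t1, act_act_inv,
        show (Pi.single 1 1 : Fin 2 → F) = ![0, 1] from funext fun j => by fin_cases j <;> simp,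
        ← hp, herm_two]
      simp
    rw [h4, N, mul_pow, pow_q_q hF]
    intro h5
    have hP : p 0 * p 0 ^ q = -1 := by linear_combination -h5 + p 0 * p 0 ^ q * hz
    have h6 : p 0 * (μ * zeta q) ^ q = p 1 * β := sub_eq_zero.1 hp2
    have h7 := congrArg (fun x => x * x ^ q) h6
    simp only [mul_pow, pow_q_q hF] at h7
    apply hμ2
    have h9 : -(p 0 * p 0 ^ q) * (μ * μ ^ q) = p 1 * p 1 ^ q * (β * β ^ q) := by
      linear_combination h7 - p 0 * p 0 ^ q * (μ * μ ^ q) * hz
    have h10 : p 1 * p 1 ^ q = 2 := by linear_combination hp1 - hP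
    rw [hP, h10, neg_neg, one_mul] at h9
    exact h9
  set w2 := A.ρ (A.U d2) w with hw2
  set w3 := A.ρ (A.M bb) w2 with hw3
  have hl : (Fin.last 3 : Fin (2 + 2)) = ((2 : Fin 3)).succ := rfl
  have hA2 : A.Aset w2 := by
    rw [Aset, hl, ← tl_val w2, hw2, U, tl_ρ2, hwz]
    exact hd
  have hA3 : A.Aset w3 := A.Aset_M bb hA2
  have hwA : A.Aset w := by rw [Aset, hwl, N, zero_mul]; exact zero_ne_one
  have hw20 : N q (w2 0) = 1 := by rw [hw2, U_first, hw1]
  have hw30 : N q (w3 0) = 1 := by rw [hw3, A.M_out w2 bb (Or.inl (by simp)), hw20]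
  have hsΦ : A.Φ2 s = A.U t1 * A.M bb * A.U d2 := by rw [hsd, map_mul, map_mul, M_eq]; rfl
  have hfix : A.ρ (A.U t1) w3 = w := by
    rw [hw3, hw2, ← ρ_mul, ← ρ_mul, ← hsΦ]
    exact A.ρ2_fix (by rw [hwz, hse])
  have c1 := A.c1_U (A.X_ρ _ (A.X_ρ _ hw)) hw30 t1 hA3 (by rw [hfix]; exact hwA)
  rw [hfix, A.c1_M (A.X_ρ _ hw) hA2 bb, A.c1_U hw hw1 d2 hwA hA2] at c1
  rw [hsΦ, mul_smul, mul_smul]
  exact c1.symm

theorem zI_apply (j : Fin (m + 1)) :
    (zI q m : Fin (m + 1) → F) j = if j.val = 0 then 1 else if j.val = 1 then zeta q else 0 := rfl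

set_option maxHeartbeats 1600000 in
/-- The stabiliser of an isotropic base point fixes its coset. -/
theorem stab_iso {v : Fin (m + 2) → F} (hv : A.X v) (hz0 : tl v ≠ 0)
    (hzn : hermForm (m + 1) F q (tl v) (tl v) = 0) : A.Stab v := by
  have hF := A.hF
  have hm := A.hm
  have hwX := A.X_vb hv
  have hwA := A.vb_Aset v
  intro b hb
  set w := A.vb v with hw
  have htl : tl w = zI q m := by
    rw [hw, vb_tl]; unfold z0; rw [if_neg hz0, if_pos hzn]
  have hN : N q (w 0) = 1 := by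
    have := A.norm_tl v
    rw [hv, hzn, add_zero] at this
    rw [hw, vb_zero]; exact this.symm
  rw [htl] at hb
  -- the subgroup of good elements
  let T : Subgroup (SU (m + 1) F q) := (MulAction.stabilizer G (A.c1 w)).comap A.Φ2
  suffices b ∈ T by exact this
  have hK : ∀ d : SU m F q, act d (md w) = md w → emb 0 (by omega : 0 + m ≤ m + 1) d ∈ T := fun d hd => by
    show A.Φ2 _ • A.c1 w = A.c1 w
    rw [← A.M_eq, ← A.c1_M hwX hwA, A.M_fix hd]
  set el : Fin (m + 1) → F := Pi.single (Fin.last m) 1 with hel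
  have hlast : ∀ g : SU (m + 1) F q, act g (zI q m) = zI q m → act g el = el → g ∈ T := by
    intro g hg1 hg2
    obtain ⟨d, hd⟩ := exists_emb_last hF (by omega) g hg2
    have e : md w = slice 0 (by omega : 0 + m ≤ m + 1) (zI q m : Fin (m + 1) → F) := by
      rw [md_eq, htl]
    have hd' : act d (md w) = md w := by
      rw [e]
      have h1 := slice_emb 0 (by omega : 0 + m ≤ m + 1) (d : SU m F q) (zI q m)
      rw [← h1]
      congr 1
      rw [show emb 0 (by omega : 0 + m ≤ m + 1) (d : SU m F q) = g from hd]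
      exact hg1
    have := hK d hd'
    rwa [show emb 0 (by omega : 0 + m ≤ m + 1) (d : SU m F q) = g from hd] at this
  set u := act b el with hu
  have hz : (zeta q : F) * zeta q ^ q = -1 := zeta_spec hF
  have h20 : (0 : ℕ) + 2 ≤ m + 1 := by omega
  have hperp : hermForm (m + 1) F q u (zI q m) = 0 := by
    rw [hu]
    conv_lhs => rw [← hb]
    rw [herm_act, hel, herm_single_left, zI_apply]
    simp [Fin.val_last, show m ≠ 0 by omega, show m ≠ 1 by omega, zero_pow (q_ne_zero hF)]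
  set i0 : Fin (m + 1) := ⟨0, by omega⟩ with hi0
  set i1 : Fin (m + 1) := ⟨1, by omega⟩ with hi1
  have hu1 : u i1 = u i0 * zeta q := by
    rw [herm_split 0 h20, herm_two, Finset.sum_eq_zero (fun k _ => by
      have := k.2
      simp [InR] at this
      rw [zI_apply, if_neg (by omega), if_neg (by omega), zero_pow (q_ne_zero hF), mul_zero])] at hperp
    have e0 : slice 0 h20 u 0 = u i0 := rfl
    have e1 : slice 0 h20 u 1 = u i1 := congrArg u (Fin.ext (by simp [idx, hi1]))
    rw [e0, e1] at hperp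
    simp [slice, idx, zI_apply] at hperp
    linear_combination (-(zeta q : F)) * hperp + u i1 * hz
  rcases Nat.lt_or_ge m 3 with hm3 | hm3
  · obtain rfl : m = 2 := by omega
    have hel2 : el = Pi.single (2 : Fin 3) 1 := rfl
    set x := act b (Pi.single (0 : Fin 3) 1) with hx
    have hx0 : x 0 + x 1 * zeta q ^ q = 1 := by
      have h := herm_act b (Pi.single (0 : Fin 3) (1 : F)) (zI q 2)
      rw [hb, ← hx, herm_single_left] at h
      simpa [hermForm, Fin.sum_univ_three, zI, zero_pow (q_ne_zero hF)] using h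
    set Bm := ((b : Matrix.SpecialLinearGroup (Fin 3) F) : Matrix (Fin 3) (Fin 3) F) with hBm
    have c0 : ∀ i, Bm i 0 = x i := fun i => by simp [hx, act, hBm]
    have c2 : ∀ i, Bm i 2 = u i := fun i => by simp [hu, hel2, act, hBm]
    have c1' : ∀ i, Bm i 0 + Bm i 1 * zeta q = zI q 2 i := fun i => by
      conv_rhs => rw [← hb]
      simp [act, ← hBm, Matrix.mulVec, dotProduct, Fin.sum_univ_three, zI]
    have hdet : Bm.det = 1 := b.1.2
    have hu2 : u i1 = u 1 := rfl
    have hu0 : u i0 = u 0 := rfl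
    rw [hu2, hu0] at hu1
    rw [Matrix.det_fin_three, c0, c0, c0, c2, c2, c2, hu1] at hdet
    have q0 := c1' 0
    have q1 := c1' 1
    have q2 := c1' 2
    rw [c0] at q0 q1 q2
    simp [zI] at q0 q1 q2
    have hc : u 2 = 1 := by
      apply mul_left_cancel₀ (zeta_ne (F := F) hF)
      have hx1 : x 1 = (x 0 - 1) * zeta q := by
        linear_combination (-(zeta q : F)) * hx0 + x 1 * hz
      linear_combination (zeta q : F) * hdet - (x 0 * u 2 - u 0 * x 2) * q1
        + (x 1 * u 2 - u 0 * zeta q * x 2) * q0 - (u 0 * x 1 - x 0 * (u 0 * zeta q)) * q2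
        + u 2 * hx1
    have hue : u = el + u 0 • zI q 2 := by
      funext i
      fin_cases i <;> simp [hel2, zI, hc, hu1, mul_comm]
    have hwl : w (Fin.last 3) = 0 := by
      have e : (Fin.last 3 : Fin (2 + 2)) = ((2 : Fin 3)).succ := rfl
      rw [e, ← tl_val w, htl]; simp [zI]
    by_cases hβ : u 0 = 0
    · refine hlast b hb ?_
      rw [← hu, hue, hβ, zero_smul, add_zero]
    · obtain ⟨s, hs1, hs2, hs3⟩ := A.loop_two hwX hN hwl htl (u 0) hβ
      have hsT : s ∈ T := hs3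
      have h1 : s⁻¹ * b ∈ T := hlast _ (by rw [act_mul, hb]; conv_lhs => rw [← hs1, act_inv_act])
        (by rw [act_mul, ← hu, hue, hel2, ← hs2, act_inv_act])
      have := mul_mem hsT h1
      rwa [mul_inv_cancel_left] at this
  -- `m ≥ 3`
  have h30 : (0 : ℕ) + 3 ≤ m + 2 := by omega
  have h2m : (2 : ℕ) + (m - 1) ≤ m + 1 := by omega
  set p : Fin (m + 2) → F := Pi.single ⟨2, by omega⟩ 1 with hp
  have hwo : ∀ k : Fin (m + 2), ¬ InR 0 3 k → w k = 0 := fun k hk => by
    simp [InR] at hk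
    obtain ⟨j, rfl⟩ : ∃ j : Fin (m + 1), j.succ = k := ⟨⟨k.val - 1, by omega⟩, Fin.ext (by simp; omega)⟩
    simp at hk
    rw [← tl_val w, htl, zI_apply, if_neg (by omega), if_neg (by omega)]
  have hpX : A.X p := herm_single_self hF _
  have hp0 : p 0 = 0 := by rw [hp, Pi.single_eq_of_ne]; simp [Fin.ext_iff]
  have hpA : A.Aset p := by
    rw [Aset, hp, Pi.single_eq_of_ne (by simp [Fin.ext_iff]; omega), N, zero_mul]; exact zero_ne_one
  have hpo : ∀ k : Fin (m + 2), ¬ InR 0 3 k → p k = 0 := fun k hk => by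
    rw [hp, Pi.single_eq_of_ne]; rintro rfl; simp [InR] at hk
  obtain ⟨a3, ha3⟩ := trans_norm hF (by omega : 2 ≤ 3) (u := slice 0 h30 p) (v := slice 0 h30 w)
    (by rw [← herm_eq_of_zero hF 0 h30 hpo, ← herm_eq_of_zero hF 0 h30 hwo]; exact hpX.trans hwX.symm)
    (by rw [← herm_eq_of_zero hF 0 h30 hpo, hpX]; exact one_ne_zero)
  have hπ3 : A.π (A.Φ1 (emb 0 (by omega : 0 + 3 ≤ m + 1) a3)) = emb 0 h30 a3 := by
    rw [A.π1, emb_emb' _ _ h30 rfl]
  have hwp : A.ρ (A.Φ1 (emb 0 (by omega : 0 + 3 ≤ m + 1) a3)) p = w := by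
    rw [ρ, hπ3]
    refine vec_ext 0 h30 (fun i => ?_) fun k hk => ?_
    · rw [emb_idx, ha3]; rfl
    · rw [emb_out 0 h30 _ _ hk, hpo k hk, hwo k hk]
  have hfn : hermForm (m + 1) F q (tl p) (tl p) = 1 := by
    have := A.norm_tl p
    rw [hpX, hp0, N, zero_mul, zero_add] at this
    exact this.symm
  have hcw : A.c1 w = A.Φ1 (emb 0 (by omega : 0 + 3 ≤ m + 1) a3) • A.f (tl p) := by
    rw [← hwp, A.c1_ρ1 hpX hpA, A.agree0 hpX hpA hp0]
  have hfix2 : ∀ (l : SU (m - 1) F q) (z : Fin (m + 1) → F),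
      (∀ j : Fin (m + 1), 2 ≤ j.val → z j = 0) → act (emb 2 h2m l) z = z := fun l z hzl => by
    refine vec_ext 2 h2m (fun i => ?_) fun k hk => emb_out 2 h2m l z hk
    rw [emb_idx, show slice 2 h2m z = 0 from funext fun j => hzl _ (by simp [idx]), act_zero,
      hzl _ (by simp [idx])]
    rfl
  have hL : ∀ l : SU (m - 1) F q, emb 2 h2m l ∈ T := fun l => by
    show A.Φ2 _ • A.c1 w = A.c1 w
    rw [hcw, smul_smul, ← (A.hc3 hm3 a3 l _).eq, ← smul_smul, ← A.f_act hfn]
    congr 2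
    refine hfix2 l _ fun j hj => ?_
    rw [tl_val, hp, Pi.single_eq_of_ne]
    intro h; have := congrArg Fin.val h; simp at this; omega
  have hzI2 : ∀ j : Fin (m + 1), 2 ≤ j.val → (zI q m : Fin (m + 1) → F) j = 0 := fun j hj => by
    rw [zI_apply, if_neg (by omega), if_neg (by omega)]
  have hu2n : hermForm (m - 1) F q (slice 2 h2m u) (slice 2 h2m u) = 1 := by
    have h1 : hermForm (m + 1) F q u u = 1 := by rw [hu, herm_act, hel, herm_single_self hF]
    have hc2' : hermForm (m + 1) F q u u = hermForm (m - 1) F q (slice 2 h2m u) (slice 2 h2m u) +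
        ∑ k : {k : Fin (m + 1) // ¬ InR 2 (m - 1) k}, u k.1 * u k.1 ^ q := herm_split 2 h2m u u
    have hs : (∑ k : {k : Fin (m + 1) // ¬ InR 2 (m - 1) k}, u k.1 * u k.1 ^ q) =
        u i0 * u i0 ^ q + u i1 * u i1 ^ q := by
      rw [← Finset.sum_pair (f := fun k => u k * u k ^ q) (show i0 ≠ i1 by simp [hi0, hi1, Fin.ext_iff])]
      exact (Finset.sum_subtype _ (fun k => by
        have := k.2
        simp only [InR, Finset.mem_insert, Finset.mem_singleton, hi0, hi1, Fin.ext_iff]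
        omega) (fun k => u k * u k ^ q)).symm
    rw [h1, hs, hu1, mul_pow] at hc2'
    linear_combination -hc2' - u i0 * u i0 ^ q * hz
  set ef : Fin (m - 1) → F := Pi.single ⟨0, by omega⟩ 1 with hef
  set es : Fin (m - 1) → F := Pi.single ⟨m - 2, by omega⟩ 1 with hes
  have hsl : slice 2 h2m el = es := by
    funext j
    rw [slice, hel, hes, Pi.single_apply, Pi.single_apply]
    refine if_congr ?_ rfl rfl
    simp [idx, Fin.ext_iff]
    omega
  obtain ⟨l, hl⟩ := trans_norm hF (by omega : 2 ≤ m - 1) (u := es) (v := slice 2 h2m u)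
    (by rw [hu2n, hes, herm_single_self hF]) (by rw [hes, herm_single_self hF]; exact one_ne_zero)
  obtain ⟨pi, hpi⟩ := trans_norm hF (by omega : 2 ≤ m - 1) (u := ef) (v := es)
    (by rw [hef, hes, herm_single_self hF, herm_single_self hF])
    (by rw [hef, herm_single_self hF]; exact one_ne_zero)
  set β := u i0 with hβ
  -- an Eichler element of the middle block
  have hm0 : (0 : ℕ) + m ≤ m + 1 := by omega
  set y : Fin m → F := slice 0 hm0 (zI q m) with hy
  set j2 : Fin m := ⟨2, by omega⟩ with hj2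
  have hyy : hermForm m F q y y = 0 := by
    rw [hy, ← herm_eq_of_zero hF 0 hm0 (fun k hk => hzI2 k (by simp [InR] at hk; omega))]
    exact A.zI_norm
  have hy2 : y j2 = 0 := hzI2 _ (by simp [idx, hj2])
  have hwy : hermForm m F q ((-β ^ q) • Pi.single j2 (1 : F)) y = 0 := by
    rw [herm_smul_left, herm_single_left, hy2, zero_pow (q_ne_zero hF), mul_zero]
  obtain ⟨μ, hμ⟩ := exists_mu hF ((-β ^ q) • Pi.single j2 (1 : F))
  set s' := eich hF y ((-β ^ q) • Pi.single j2 (1 : F)) μ hyy hwy hμ with hs'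
  have hs'y : act s' y = y := by
    rw [hs', eich_act, hyy, herm_skew_zero hF hwy]
    simp
  have hs'2 : act s' (Pi.single j2 1) = Pi.single j2 1 + β • y := by
    rw [hs', eich_act, herm_single_left, hy2, zero_pow (q_ne_zero hF), herm_smul_right,
      herm_single_self hF, neg_pow_q hF, pow_q_q hF]
    simp
  have hS' : emb 0 hm0 s' ∈ T := hK s' (by rw [md_eq, htl, ← hy, hs'y])
  set e2 : Fin (m + 1) → F := Pi.single ⟨2, by omega⟩ 1 with he2
  have hse2 : act (emb 0 hm0 s') e2 = e2 + β • zI q m := by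
    have e : slice 0 hm0 e2 = Pi.single j2 1 := funext fun i => by
      rw [slice, he2, Pi.single_apply, Pi.single_apply]
      exact if_congr (by simp [idx, hj2, Fin.ext_iff]) rfl rfl
    refine vec_ext 0 hm0 (fun i => ?_) fun k hk => ?_
    · rw [emb_idx, e, hs'2, ← e, hy]; rfl
    · have hk' : k.val = m := by simp [InR] at hk; have := k.2; omega
      rw [emb_out 0 hm0 s' _ hk, Pi.add_apply, Pi.smul_apply, hzI2 k (by omega), smul_zero, add_zero]
  have hpie : act (emb 2 h2m pi) e2 = el := by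
    refine vec_ext 2 h2m (fun i => ?_) fun k hk => ?_
    · rw [emb_idx, show slice 2 h2m e2 = ef from funext fun j => by
        rw [slice, he2, hef, Pi.single_apply, Pi.single_apply]
        exact if_congr (by simp [idx, Fin.ext_iff]) rfl rfl, hpi, ← hsl]
      rfl
    · have hk' : k.val < 2 := by simp [InR] at hk; have := k.2; omega
      rw [emb_out 2 h2m pi _ hk, he2, hel, Pi.single_eq_of_ne, Pi.single_eq_of_ne] <;>
        (intro h; have := congrArg Fin.val h; simp at this; omega)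
  set s := emb 2 h2m pi * emb 0 hm0 s' * (emb 2 h2m pi)⁻¹ with hs
  have hsT : s ∈ T := mul_mem (mul_mem (hL pi) hS') (inv_mem (hL pi))
  have hsz : act s (zI q m) = zI q m := by
    rw [hs, act_mul, act_mul, ← map_inv, hfix2 _ _ hzI2]
    have : act (emb 0 hm0 s') (zI q m) = zI q m := by
      refine vec_ext 0 hm0 (fun i => ?_) fun k hk => emb_out 0 hm0 s' _ hk
      rw [emb_idx, ← hy, hs'y]; rfl
    rw [this, hfix2 _ _ hzI2]
  have hse : act s el = el + β • zI q m := by
    rw [hs, act_mul, act_mul]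
    conv_lhs => rw [← hpie, act_inv_act, hse2, act_add, act_smul, hpie, hfix2 _ _ hzI2]
  have hue : u = act (emb 2 h2m l) (el + β • zI q m) := by
    rw [act_add, act_smul, hfix2 _ _ hzI2]
    refine vec_ext 2 h2m (fun i => ?_) fun k hk => ?_
    · rw [Pi.add_apply, emb_idx, hsl, hl, Pi.smul_apply, hzI2 _ (by simp [idx]), smul_zero, add_zero]
      rfl
    · have hk' : k = i0 ∨ k = i1 := by
        simp only [InR] at hk; have := k.2; simp only [hi0, hi1, Fin.ext_iff]; omega
      rw [Pi.add_apply, emb_out 2 h2m l _ hk, hel, Pi.single_eq_of_ne (by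
        intro h; have h' := congrArg Fin.val h; rcases hk' with rfl | rfl <;> simp [hi0, hi1] at h' <;> omega),
        zero_add, Pi.smul_apply, smul_eq_mul, zI_apply]
      rcases hk' with rfl | rfl
      · simp [hi0, hβ]
      · simp [hi1, hβ]
        exact hu1
  have h1 : s⁻¹ * (emb 2 h2m l)⁻¹ * b ∈ T := by
    refine hlast _ ?_ ?_
    · rw [act_mul, act_mul, hb, ← map_inv, hfix2 _ _ hzI2]
      conv_lhs => rw [← hsz, act_inv_act]
    · rw [act_mul, act_mul, ← hu, hue, act_inv_act, ← hse, act_inv_act]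
  have := mul_mem (hL l) (mul_mem hsT h1)
  rwa [show emb 2 h2m l * (s * (s⁻¹ * (emb 2 h2m l)⁻¹ * b)) = b by group] at this

theorem stab_all {v : Fin (m + 2) → F} (hv : A.X v) : A.Stab v := by
  by_cases hz : hermForm (m + 1) F q (tl v) (tl v) ≠ 0 ∨ tl v = 0
  · exact A.stab_line hv hz
  · push Not at hz
    exact A.stab_iso hv hz.2 hz.1

theorem c2_U {v : Fin (m + 2) → F} (hv : A.X v) (t : SU 2 F q) :
    A.c2 (A.ρ (A.U t) v) = A.U t • A.c2 v := A.c2_ρ2 (A.stab_all hv) _

theorem c2_M {v : Fin (m + 2) → F} (hv : A.X v) (a : SU m F q) :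
    A.c2 (A.ρ (A.M a) v) = A.M a • A.c2 v := by
  rw [M_eq]; exact A.c2_ρ2 (A.stab_all hv) _

theorem agree_move_M {v : Fin (m + 2) → F} (hv : A.X v) (ha : A.Aset v) (a : SU m F q) :
    A.c1 (A.ρ (A.M a) v) = A.c2 (A.ρ (A.M a) v) ↔ A.c1 v = A.c2 v := by
  rw [A.c1_M hv ha, A.c2_M hv]
  exact (MulAction.injective _).eq_iff

theorem agree_move_U {v : Fin (m + 2) → F} (hv : A.X v) (h1 : N q (v 0) = 1) (ha : A.Aset v)
    (t : SU 2 F q) (hta : A.Aset (A.ρ (A.U t) v)) :
    A.c1 (A.ρ (A.U t) v) = A.c2 (A.ρ (A.U t) v) ↔ A.c1 v = A.c2 v := by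
  rw [A.c1_U hv h1 t ha hta, A.c2_U hv]
  exact (MulAction.injective _).eq_iff

/-- Agreement at an isotropic base orbit with last coordinate zero, `m = 2`. -/
theorem agree_two (A : Amal F q 2 G) {v : Fin (2 + 2) → F} (hv : A.X v) (h1 : N q (v 0) = 1)
    (hl : v (Fin.last 3) = 0) (hne : md v ≠ 0) (hiso : hermForm 2 F q (md v) (md v) = 0) :
    A.c1 v = A.c2 v := by
  have hF := A.hF
  have hy0 : md v 0 ≠ 0 := by
    intro h
    apply hne
    rw [herm_two, h, zero_mul, zero_add, ← pow_succ'] at hiso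
    funext i
    fin_cases i
    · exact h
    · exact pow_eq_zero_iff (Nat.succ_ne_zero q) |>.1 hiso
  obtain ⟨a1, ha10, ha11⟩ := iso_scale hF hne hiso (inv_ne_zero hy0)
  set y' := act a1 (md v) with hy'
  have hy'0 : y' 0 = 1 := by rw [ha10, inv_mul_cancel₀ hy0]
  have hy'iso : hermForm 2 F q y' y' = 0 := by rw [hy', herm_act]; exact hiso
  have hy'ne : y' ≠ 0 := fun h => by simpa [h] using hy'0
  set ζ' := y' 1 with hζ'
  have hζn : ζ' * ζ' ^ q = -1 := by
    rw [herm_two, hy'0] at hy'iso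
    simp at hy'iso
    linear_combination hy'iso
  have hz : (zeta q : F) * zeta q ^ q = -1 := zeta_spec hF
  set μ := ζ' / zeta q with hμ
  have hμn : μ * μ ^ q = 1 := by
    have h2 : zeta q * zeta q ^ q ≠ (0 : F) := by rw [hz]; simp
    rw [hμ, div_pow, div_mul_div_comm, hζn, hz, div_self]
    simp
  have hμ0 : μ ≠ 0 := fun h => by simp [h] at hμn
  obtain ⟨a2, ha20, ha21⟩ := iso_scale hF hy'ne hy'iso hμ0
  set D := mk2 hF μ 0 (by rw [zero_mul, add_zero, hμn]) with hD
  set v' := A.ρ (A.M (a2 * a1)) v with hv'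
  have hwne : tl v ≠ 0 := fun h => hne (by rw [md_eq, h]; rfl)
  have hzn := A.tl_norm_zero hv h1
  set w := A.vb v with hw
  have hwtl : tl w = zI q 2 := by
    rw [hw, vb_tl]; unfold z0; rw [if_neg hwne, if_pos hzn]
  have hw0 : w 0 = v 0 := by rw [hw, vb_zero]
  have hwl : w (Fin.last 3) = 0 := by
    show w ((2 : Fin 3)).succ = 0
    rw [← tl_val w, hwtl]; simp [zI]
  have hwA : A.Aset w := A.vb_Aset v
  have hwX : A.X w := A.X_vb hv
  set w1 := A.ρ (A.U D) w with hw1
  have hf : fin2 w1 = act D ![zeta q, 0] := by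
    rw [hw1, fin2_U]
    congr 1
    funext i
    fin_cases i
    · show w ((1 : Fin 3)).succ = _
      rw [← tl_val w, hwtl]; simp [zI]
    · exact hwl
  rw [hD, act_mk2] at hf
  have hw1l : w1 (Fin.last 3) = 0 := by
    rw [← fin2_one w1, hf]; simp [zero_pow (q_ne_zero hF)]
  have hw1A : A.Aset w1 := by rw [Aset, hw1l, N, zero_mul]; exact zero_ne_one
  have hw1m : md w1 = ![1, μ * zeta q] := by
    funext i
    fin_cases i
    · show w1 ((0 : Fin 3)).succ = 1
      rw [hw1, A.U_out w D (by simp), ← tl_val w, hwtl]; simp [zI]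
    · show fin2 w1 0 = _
      rw [hf]; simp
  have hv'eq : A.ρ (A.M D) w1 = v' := by
    refine vec_ext 1 (by omega : 1 + 2 ≤ 2 + 2) (fun i => ?_) fun k hk => ?_
    · show md (A.ρ (A.M D) w1) i = md v' i
      rw [md_M, hw1m, hv', md_M, act_mul, ← hy', hD, act_mk2]
      have hq1 : μ ^ q * (μ * zeta q) = zeta q := by linear_combination (zeta q : F) * hμn
      have hq2 : μ ^ q * ζ' = zeta q := by
        rw [← hq1, hμ, div_mul_cancel₀ _ (zeta_ne hF)]
      fin_cases i
      · simp [ha20, hy'0]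
      · simp [ha21, zero_pow (q_ne_zero hF)]
        exact Or.inl (by rw [hμ, div_mul_cancel₀ _ (zeta_ne hF)])
    · have hk' : k.val = 0 ∨ k.val = 2 + 1 := by simp [InR] at hk; have := k.2; omega
      rw [A.M_out w1 D hk', hv', A.M_out v _ hk']
      rcases hk' with h | h
      · rw [show k = 0 from Fin.ext h, hw1, U_first, hw0]
      · rw [show k = Fin.last 3 from Fin.ext h, hw1l, hl]
  have hvA : A.Aset v := by rw [Aset, hl, N, zero_mul]; exact zero_ne_one
  rw [← A.agree_move_M hv hvA (a2 * a1), ← hv', ← hv'eq, A.agree_move_M (A.X_ρ _ hwX) hw1A,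
    A.agree_move_U hwX (by rw [hw0, h1]) hwA D hw1A]
  exact (A.c2_vb (A.stab_all hv)).symm

theorem agree_iso0 {v : Fin (m + 2) → F} (hv : A.X v) (h1 : N q (v 0) = 1) (hne : tl v ≠ 0)
    (hl : v (Fin.last (m + 1)) = 0) : A.c1 v = A.c2 v := by
  have hF := A.hF
  have hm := A.hm
  have hzn := A.tl_norm_zero hv h1
  have hout : ∀ x : Fin (m + 2) → F, x (Fin.last (m + 1)) = 0 →
      ∀ i : Fin (m + 1), ¬ InR 0 m i → tl x i = 0 := fun x hx i hi => by
    have : i = Fin.last m := Fin.ext (by simp [InR] at hi; have := i.2; simp only [Fin.val_last]; omega)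
    rw [this, tl_val, ← hx]
    rfl
  have hmne : ∀ x : Fin (m + 2) → F, x (Fin.last (m + 1)) = 0 → tl x ≠ 0 → md x ≠ 0 :=
    fun x hx hx0 h => hx0 (vec_ext 0 (by omega : 0 + m ≤ m + 1) (fun i => by
      have := congrFun h i
      rw [md_eq] at this
      exact this) (fun k hk => hout x hx k hk))
  have hmn : ∀ x : Fin (m + 2) → F, x (Fin.last (m + 1)) = 0 →
      hermForm m F q (md x) (md x) = hermForm (m + 1) F q (tl x) (tl x) := fun x hx => by
    rw [md_eq, ← herm_eq_of_zero hF 0 (by omega : 0 + m ≤ m + 1) (hout x hx)]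
  rcases Nat.lt_or_ge m 3 with hm3 | hm3
  · obtain rfl : m = 2 := by omega
    exact A.agree_two hv h1 hl (hmne v hl hne) ((hmn v hl).trans hzn)
  set w := A.vb v with hw
  have hwl : w (Fin.last (m + 1)) = 0 := by
    have e : (Fin.last (m + 1) : Fin (m + 2)) = (Fin.last m).succ := Fin.ext (by simp)
    rw [e, ← tl_val w, hw, vb_tl, z0_last]
  have hwtl : tl w = zI q m := by
    rw [hw, vb_tl]; unfold z0; rw [if_neg hne, if_pos hzn]
  obtain ⟨a, ha⟩ := trans_iso hF hm3 (u := md w) (v := md v) (hmne w hwl (hwtl ▸ zI_ne))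
    ((hmn w hwl).trans (hwtl ▸ A.zI_norm)) (hmne v hl hne) ((hmn v hl).trans hzn)
  have e : A.ρ (A.M a) w = v := by
    refine vec_ext 1 (by omega : 1 + m ≤ m + 2) (fun i => ?_) fun k hk => ?_
    · show md (A.ρ (A.M a) w) i = md v i
      rw [md_M, ha]
    · have hk' : k.val = 0 ∨ k.val = m + 1 := by simp [InR] at hk; have := k.2; omega
      rw [A.M_out w a hk']
      rcases hk' with h | h
      · rw [show k = 0 from Fin.ext h, hw, vb_zero]
      · rw [show k = Fin.last (m + 1) from Fin.ext h, hwl, hl]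
  rw [← e, A.agree_move_M (A.X_vb hv) (A.vb_Aset v)]
  exact (A.c2_vb (A.stab_all hv)).symm

/-- Agreement on all of `A`. -/
theorem agreeA {v : Fin (m + 2) → F} (hv : A.X v) (ha : A.Aset v) : A.c1 v = A.c2 v := by
  have hF := A.hF
  have hm := A.hm
  by_cases hb : A.Bset v
  · exact A.agreeAB hv ha hb
  have h1 : N q (v 0) = 1 := not_not.1 hb
  by_cases hne : tl v = 0
  · have hvb : A.vb v = v := by
      obtain ⟨b, -, hb'⟩ := A.exists_vb v
      refine vec_ext 1 (by omega : 1 + (m + 1) ≤ m + 2) (fun i => ?_) fun k hk => ?_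
      · show tl (A.vb v) i = tl v i
        rw [vb_tl]; unfold z0; rw [if_pos hne, hne]
      · have : k = 0 := Fin.ext (by simp [InR] at hk; have := k.2; simp only [Fin.val_zero]; omega)
        rw [this, vb_zero]
    conv_rhs => rw [← hvb, A.c2_vb (A.stab_all hv)]
    rw [hvb]
  by_cases hl : v (Fin.last (m + 1)) = 0
  · exact A.agree_iso0 hv h1 hne hl
  have hmd : hermForm m F q (md v) (md v) ≠ 0 := by
    intro h
    have hzn := A.tl_norm_zero hv h1
    rw [herm_last (by omega) (tl v) (tl v)] at hzn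
    have e : slice 0 (by omega : 0 + (m + 1 - 1) ≤ m + 1) (tl v) = md v := by rw [md_eq]
    rw [e] at hzn
    have e2 : tl v ⟨m + 1 - 1, by omega⟩ = v (Fin.last (m + 1)) := congrArg v (Fin.ext (by simp [idx]; omega))
    rw [e2] at hzn
    rw [show hermForm (m + 1 - 1) F q (md v) (md v) = hermForm m F q (md v) (md v) from rfl, h, zero_add] at hzn
    exact mul_ne_zero hl (pow_ne_zero _ hl) hzn
  obtain ⟨a, hav⟩ := move_coord hF hm (⟨0, by omega⟩ : Fin m) (Or.inl hmd)
  set v1 := A.ρ (A.M a) v with hv1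
  have h10 : N q (v1 0) = 1 := by rw [hv1, A.M_out v a (Or.inl (by simp))]; exact h1
  have h1A : A.Aset v1 := A.Aset_M a ha
  have hf0 : fin2 v1 0 = 0 := by
    have e : fin2 v1 0 = md v1 ⟨m - 1, by omega⟩ := congrArg v1 (Fin.ext (by simp [idx]; omega))
    rw [e, hv1, md_M, hav _ (fun h => by have := congrArg Fin.val h; simp at this; omega)]
  have hf1 : fin2 v1 1 = v (Fin.last (m + 1)) := by
    rw [fin2_one, hv1, A.M_out v a (Or.inr (by simp [Fin.val_last]))]
  obtain ⟨t, ht⟩ := move_coord hF (le_refl 2) (0 : Fin 2) (v := fin2 v1) (Or.inl (by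
    rw [herm_two, hf0, hf1, zero_mul, zero_add]
    exact mul_ne_zero hl (pow_ne_zero _ hl)))
  set v2 := A.ρ (A.U t) v1 with hv2
  have h2l : v2 (Fin.last (m + 1)) = 0 := by
    rw [← fin2_one v2, hv2, fin2_U]; exact ht 1 (by decide)
  have h2A : A.Aset v2 := by rw [Aset, h2l, N, zero_mul]; exact zero_ne_one
  rw [← A.agree_move_M hv ha a, ← hv1, ← A.agree_move_U (A.X_ρ _ hv) h10 h1A t h2A]
  have h20 : N q (v2 0) = 1 := by rw [hv2, U_first]; exact h10
  refine A.agree_iso0 (A.X_ρ _ (A.X_ρ _ hv)) h20 (fun h => ?_) h2l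
  apply hne
  rw [U, tl_ρ2] at h
  have h' : tl v1 = 0 := by rw [← act_inv_act (emb (m - 1) (by omega) t) (tl v1), h, act_zero]
  rw [hv1, M_eq, tl_ρ2] at h'
  rw [← act_inv_act (emb 0 (by omega : 0 + m ≤ m + 1) a) (tl v), h', act_zero]

theorem c2_U0 {v : Fin (m + 2) → F} (hv : A.X v) (a : SU 2 F q) :
    A.c2 (A.ρ (A.U0 a) v) = A.U0 a • A.c2 v := by
  have hF := A.hF
  have hm := A.hm
  have h2 : (2 : ℕ) + m ≤ m + 2 := by omega
  set y : Fin m → F := slice 2 h2 v with hy
  obtain ⟨d, hd⟩ : ∃ d : SU m F q, N q (act d y ⟨m - 1, by omega⟩) ≠ 1 := by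
    by_cases hyn : hermForm m F q y y ≠ 0 ∨ y = 0
    · obtain ⟨d, hd⟩ := move_coord hF hm (⟨0, by omega⟩ : Fin m) hyn
      exact ⟨d, by rw [hd _ (fun h => by have := congrArg Fin.val h; simp at this; omega), N, zero_mul];
                   exact zero_ne_one⟩
    push Not at hyn
    obtain ⟨hy1, hy0⟩ := hyn
    rcases Nat.lt_or_ge m 3 with hm3 | hm3
    · obtain rfl : m = 2 := by omega
      have hq : 4 ≤ q := A.hq.resolve_left (by omega)
      have hy10 : y 1 ≠ 0 := by
        intro h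
        apply hy0
        rw [herm_two, h, zero_mul, add_zero, ← pow_succ'] at hy1
        funext i
        fin_cases i
        · exact pow_eq_zero_iff (Nat.succ_ne_zero q) |>.1 hy1
        · exact h
      obtain ⟨c, hc, hS⟩ := exists_scale hF hy10 {1} (by simp; omega)
      obtain ⟨d, -, hd⟩ := iso_scale hF hy0 hy1 (pow_ne_zero q hc)
      refine ⟨d, fun h => hS (Finset.mem_singleton.2 ?_)⟩
      rw [show (⟨2 - 1, _⟩ : Fin 2) = 1 from rfl, hd, pow_q_q hF, N] at h
      exact h
    · obtain ⟨u, hu0, hu, hui⟩ := exists_iso_gap (q := q) hF hm3 (⟨m - 1, by omega⟩ : Fin m)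
      obtain ⟨d, hdu⟩ := trans_iso hF hm3 hy0 hy1 hu0 hu
      exact ⟨d, by rw [hdu, hui, N, zero_mul]; exact zero_ne_one⟩
  set T := A.Φ2 (emb 1 (by omega) d) with hT
  have hπT : A.π T = emb 2 h2 d := by rw [hT, A.π2, emb_emb' _ _ h2 rfl]
  have hlast : ∀ x, A.ρ (A.U0 a) x (Fin.last (m + 1)) = x (Fin.last (m + 1)) := fun x => hd_last A x _
  have hl : A.ρ T v (Fin.last (m + 1)) = act d y ⟨m - 1, by omega⟩ := by
    rw [ρ, hπT, show (Fin.last (m + 1)) = idx 2 h2 ⟨m - 1, by omega⟩ from Fin.ext (by simp [idx]; omega),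
      emb_idx]
  have hA : A.Aset (A.ρ T v) := by rw [Aset, hl]; exact hd
  have hcm : Commute (A.U0 a) T := A.hc2 a d
  have hA' : A.Aset (A.ρ (A.U0 a) (A.ρ T v)) := by rw [Aset, hlast, hl]; exact hd
  have h1 := A.agreeA (A.X_ρ (A.U0 a) (A.X_ρ T hv)) hA'
  have h2' : A.c1 (A.ρ (A.U0 a) (A.ρ T v)) = A.U0 a • A.c1 (A.ρ T v) := A.c1_ρ1 (A.X_ρ T hv) hA _
  rw [h2', A.agreeA (A.X_ρ T hv) hA, hT, A.c2_ρ2 (A.stab_all hv), ← hT, A.ρ_commute hcm, hT,
    A.c2_ρ2 (A.stab_all (A.X_ρ _ hv)), ← hT, smul_smul, hcm.eq, ← smul_smul] at h1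
  exact (MulAction.injective _ h1).symm

/-- The elements for which the coset map is equivariant. -/
noncomputable def equiv : Subgroup G where
  carrier := {g | ∀ v, A.X v → A.c2 (A.ρ g v) = g • A.c2 v}
  one_mem' v _ := by rw [ρ_one, one_smul]
  mul_mem' {g h} hg hh v hv := by rw [ρ_mul, hg _ (A.X_ρ h hv), hh v hv, mul_smul]
  inv_mem' {g} hg v hv := by
    have h := hg _ (A.X_ρ g⁻¹ hv)
    rw [← ρ_mul, mul_inv_cancel, ρ_one] at h
    rw [h, inv_smul_smul]

theorem equiv_eq_top : A.equiv = ⊤ := by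
  have hm := A.hm
  rw [← A.hgen, eq_comm]
  refine le_antisymm ?_ (A.hgen.symm ▸ le_top)
  have h2 : A.Φ2.range ≤ A.equiv := by
    rintro _ ⟨b, rfl⟩ v hv
    exact A.c2_ρ2 (A.stab_all hv) b
  refine sup_le ?_ h2
  rw [MonoidHom.range_eq_map, ← gen_first (q := q) A.hF hm A.hq3, Subgroup.map_sup, sup_le_iff,
    MonoidHom.map_range, MonoidHom.map_range]
  constructor
  · rintro _ ⟨a, rfl⟩ v hv
    exact A.c2_U0 hv a
  · rintro _ ⟨d, rfl⟩
    refine h2 ⟨emb 0 (by omega) d, ?_⟩
    exact (A.agree d).symm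

theorem injective : Function.Injective A.π := by
  rw [injective_iff_map_eq_one]
  intro z hz
  have hX : A.X (lastv m) := herm_single_self A.hF _
  have h0 : lastv (F := F) m 0 = 0 := by
    rw [lastv, Pi.single_eq_of_ne]; simp [Fin.ext_iff]
  have e2 : tl (lastv (F := F) m) = Pi.single (Fin.last m) (1 : F) := by
    funext i
    rw [tl_val, lastv, Pi.single_apply, Pi.single_apply]
    exact if_congr (by simp [Fin.ext_iff]) rfl rfl
  have hb : A.c2 (lastv m) = A.base := by
    rw [A.c2_f hX h0, e2, A.f_eq (g := 1) (act_one _), map_one, one_smul]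
  have h := (show z ∈ A.equiv by rw [A.equiv_eq_top]; trivial) (lastv m) hX
  rw [ρ, hz, act_one, hb] at h
  have hzH : z ∈ A.Φ1.range := by
    have h' : ((1 : G) : G ⧸ A.Φ1.range) = ((z * 1 : G) : G ⧸ A.Φ1.range) := h
    rw [QuotientGroup.eq] at h'
    simpa using h'
  obtain ⟨g, rfl⟩ := hzH
  rw [A.π1] at hz
  rw [emb_injective 0 _ (hz.trans (map_one _).symm), map_one]

end Amal

/-- Two overlapping homomorphisms of `SU (m+1)` with the Phan commutation relations extend to `SU (m+2)`. -/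
theorem exists_extension (hF : Fintype.card F = q ^ 2) (hm : 2 ≤ m) (hq : 3 ≤ m ∨ 4 ≤ q)
    {G : Type v} [Group G] (φ1 φ2 : SU (m + 1) F q →* G)
    (agree : ∀ a : SU m F q, φ1 (emb 1 (by omega) a) = φ2 (emb 0 (by omega) a))
    (hc1 : ∀ (a : SU m F q) (b : SU 2 F q),
      Commute (φ1 (emb 0 (by omega) a)) (φ2 (emb (m - 1) (by omega) b)))
    (hc2 : ∀ (a : SU 2 F q) (b : SU m F q),
      Commute (φ1 (emb 0 (by omega) a)) (φ2 (emb 1 (by omega) b)))
    (hc3 : 3 ≤ m → ∀ (a : SU 3 F q) (b : SU (m - 1) F q) (ha : 0 + 3 ≤ m + 1),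
      Commute (φ1 (emb 0 ha a)) (φ2 (emb 2 (by omega) b))) :
    ∃ φ : SU (m + 2) F q →* G, φ.comp (emb 0 (by omega)) = φ1 ∧ φ.comp (emb 1 (by omega)) = φ2 := by
  set ψ1 := (emb (F := F) (q := q) (m := m + 1) (n := m + 2) 0 (by omega)).prod φ1 with hψ1
  set ψ2 := (emb (F := F) (q := q) (m := m + 1) (n := m + 2) 1 (by omega)).prod φ2 with hψ2
  set Γ : Subgroup (SU (m + 2) F q × G) := ψ1.range ⊔ ψ2.range with hΓ
  let Φ1 : SU (m + 1) F q →* Γ := ψ1.codRestrict Γ fun g => Subgroup.mem_sup_left ⟨g, rfl⟩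
  let Φ2 : SU (m + 1) F q →* Γ := ψ2.codRestrict Γ fun g => Subgroup.mem_sup_right ⟨g, rfl⟩
  have hmid : ∀ a : SU m F q, emb (n := m + 2) 0 (by omega) (emb (n := m + 1) 1 (by omega) a) =
      emb (n := m + 2) 1 (by omega) (emb (n := m + 1) 0 (by omega) a) := fun a => by
    rw [emb_emb' _ _ (by omega : 1 + m ≤ m + 2) rfl, emb_emb' _ _ (by omega : 1 + m ≤ m + 2) rfl]
  have hcomm : ∀ {k l i j : ℕ} (hk : 0 + k ≤ m + 1) (hl : i + l ≤ m + 1) (a : SU k F q) (b : SU l F q),
      k ≤ i + 1 → Commute (φ1 (emb 0 hk a)) (φ2 (emb i hl b)) → i + 1 = j →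
      Commute (Φ1 (emb 0 hk a)) (Φ2 (emb i hl b)) := by
    intro k l i j hk hl a b hki hc hij
    refine Subtype.ext (Prod.ext ?_ hc.eq)
    show emb 0 _ (emb 0 hk a) * emb 1 _ (emb i hl b) = emb 1 _ (emb i hl b) * emb 0 _ (emb 0 hk a)
    rw [emb_emb' _ _ (by omega : 0 + k ≤ m + 2) rfl,
      emb_emb' (c := j) _ _ (by omega) (by omega)]
    have fixA : ∀ x, ∀ i' : Fin (m + 2), ¬ InR 0 k i' →
        act (emb (n := m + 2) 0 (by omega : 0 + k ≤ m + 2) a) x i' = x i' := fun x i' h => emb_out 0 _ a x h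
    refine su_ext fun x => vec_ext 0 (by omega : 0 + k ≤ m + 2) (fun i' => ?_) fun i' hi' => ?_
    · rw [act_mul, act_mul, emb_idx, emb_out j (by omega) b _ (by simp [InR, idx]; omega), emb_idx]
      congr 1
      funext i''
      exact emb_out j (by omega) b x (by simp [InR, idx]; omega)
    · rw [act_mul, act_mul, fixA _ _ hi']
      by_cases hj : InR j l i'
      · obtain ⟨i'', rfl⟩ : ∃ i'', idx (n := m + 2) j (by omega : j + l ≤ m + 2) i'' = i' :=
          ⟨⟨i'.val - j, by obtain ⟨h1, h2⟩ := hj; omega⟩, Fin.ext (by obtain ⟨h1, h2⟩ := hj; simp [idx]; omega)⟩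
        rw [emb_idx, emb_idx]
        congr 1
        funext i'''
        exact (fixA x _ (by simp [InR, idx]; omega)).symm
      · rw [emb_out j _ b _ hj, emb_out j _ b _ hj, fixA x _ hi']
  let A : Amal F q m Γ :=
    { hF := hF
      hm := hm
      hq := hq
      π := (MonoidHom.fst _ _).comp Γ.subtype
      Φ1 := Φ1
      Φ2 := Φ2
      π1 := fun _ => rfl
      π2 := fun _ => rfl
      agree := fun a => Subtype.ext (Prod.ext (hmid a) (agree a))
      hc1 := fun a b => hcomm (j := m) _ _ a b (by omega) (hc1 a b) (by omega)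
      hc2 := fun a b => hcomm (j := 2) _ _ a b (by omega) (hc2 a b) (by omega)
      hc3 := fun h3 a b ha => hcomm (j := 3) _ _ a b (by omega) (hc3 h3 a b ha) (by omega)
      hgen := by
        apply Subgroup.map_injective Γ.subtype_injective
        rw [Subgroup.map_sup, MonoidHom.map_range, MonoidHom.map_range, ← MonoidHom.range_eq_map,
          Subgroup.range_subtype]
        rfl }
  have hsurj : Function.Surjective A.π := by
    rw [← MonoidHom.range_eq_top, eq_top_iff, ← gen_first (q := q) hF (k := m + 1) (by omega) (Or.inl (by omega))]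
    refine sup_le ?_ ?_
    · rintro _ ⟨a, rfl⟩
      exact ⟨Φ1 (emb 0 (by omega) a), emb_emb' (a := 0) (b := 0) _ _ _ rfl a⟩
    · rintro _ ⟨a, rfl⟩
      exact ⟨Φ2 a, rfl⟩
  let e := MulEquiv.ofBijective A.π ⟨A.injective, hsurj⟩
  refine ⟨((MonoidHom.snd _ _).comp Γ.subtype).comp e.symm.toMonoidHom, ?_, ?_⟩
  · refine MonoidHom.ext fun g => ?_
    have h : e.symm (emb 0 (by omega) g) = Φ1 g := e.symm_apply_eq.2 rfl
    show ((e.symm (emb 0 _ g)) : SU (m + 2) F q × G).2 = φ1 g
    rw [h]; rfl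
  · refine MonoidHom.ext fun g => ?_
    have h : e.symm (emb 1 (by omega) g) = Φ2 g := e.symm_apply_eq.2 rfl
    show ((e.symm (emb 1 _ g)) : SU (m + 2) F q × G).2 = φ2 g
    rw [h]; rfl

end Cfsg.Agent.PhanCoset47
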