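import Cfsg.Agent.Lib.PhanFourStd47
import Cfsg.Agent.Lib.OrthUnitaryPSU

/-!
Common facts for two overlapping homomorphisms of `SU 3` into a quotient of `SU 4`.
-/

set_option autoImplicit false
set_option linter.unusedSectionVars false

namespace Cfsg.Agent.PhanFourBase47

open Cfsg Cfsg.Agent.OrthUnitaryHerm Cfsg.Agent.OrthUnitaryTransvection Cfsg.Agent.PhanBlocks47
open Cfsg.Agent.PhanAut47 Cfsg.Agent.PhanAlign47 Cfsg.Agent.PhanFrame47 Cfsg.Agent.PhanFourStd47
open Cfsg.Agent.SL3Edge47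
open scoped Matrix

universe u v

variable {F : Type u} [Field F] [Fintype F] {q : ℕ} {G : Type v} [Group G]

/-- A non-trivial homomorphism of `SU 4` has central kernel. -/
theorem ker_le_center (hF : Fintype.card F = q ^ 2) (g : SU 4 F q →* G) {y : SU 4 F q} (hy : g y ≠ 1) :
    g.ker ≤ Subgroup.center (SU 4 F q) := by
  haveI : IsSimpleGroup (PSU 4 F q) := OrthUnitaryPSU.isSimpleGroup_PSU hF (by omega) (by omega)
  have hn : (g.ker.map (QuotientGroup.mk' (Subgroup.center (SU 4 F q)))).Normal :=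
    Subgroup.Normal.map inferInstance _ (QuotientGroup.mk'_surjective _)
  rcases hn.eq_bot_or_eq_top with h | h
  · intro z hz
    have : QuotientGroup.mk' (Subgroup.center (SU 4 F q)) z ∈ g.ker.map (QuotientGroup.mk' _) := ⟨z, hz, rfl⟩
    rw [h, Subgroup.mem_bot] at this
    exact (QuotientGroup.eq_one_iff z).1 this
  · exfalso
    -- then `g` has commutative image, so it kills the perfect group
    have hmem : ∀ z : SU 4 F q, ∃ w ∈ g.ker, ∃ c ∈ Subgroup.center (SU 4 F q), w * c = z := fun z => by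
      obtain ⟨w, hw, hwz⟩ : QuotientGroup.mk' (Subgroup.center (SU 4 F q)) z ∈ g.ker.map (QuotientGroup.mk' _) :=
        h ▸ Subgroup.mem_top _
      refine ⟨w, hw, w⁻¹ * z, ?_, by group⟩
      exact QuotientGroup.eq.1 hwz
    have hcomm : commutator (SU 4 F q) ≤ g.ker := by
      rw [commutator_def, Subgroup.commutator_le]
      intro a _ b _
      obtain ⟨w, hw, c, hc, rfl⟩ := hmem a
      rw [commutatorElement_def, MonoidHom.mem_ker, map_mul, map_mul, map_mul, map_inv, map_inv, map_mul,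
        (MonoidHom.mem_ker.1 hw), one_mul, ← map_mul, Subgroup.mem_center_iff.1 hc b |>.symm, map_mul,
        mul_inv_cancel_right, mul_inv_cancel]
    rw [OrthUnitaryPSU.commutator_eq_top hF (by omega) (by omega)] at hcomm
    exact hy (hcomm (Subgroup.mem_top y))

/-- `SU 2` is generated by the elements of order dividing the characteristic. -/
theorem gen_char (hF : Fintype.card F = q ^ 2) {p : ℕ} [CharP F p] :
    Subgroup.closure {x : SU 2 F q | x ^ p = 1} = ⊤ := by
  obtain ⟨-, θ, -⟩ := exists_iso_SL2 hF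
  rw [eq_top_iff]
  intro x _
  have hz : ((p : ℕ) : fixedField hF) = 0 := Subtype.ext (by simpa using CharP.cast_eq_zero F p)
  have := gen_le (H := (Subgroup.closure {x : SU 2 F q | x ^ p = 1}).comap θ.toMonoidHom)
    (fun t => Subgroup.subset_closure (show θ (up t) ^ p = 1 by
      rw [← map_pow, up_pow, hz, zero_mul, up_zero, map_one]))
    (fun t => Subgroup.subset_closure (show θ (lo t) ^ p = 1 by
      rw [← map_pow, lo_pow, hz, zero_mul, lo_zero, map_one])) (θ.symm x)
  simpa using this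

/-- A diagonal element of the first block does not commute with the swap of the second one. -/
theorem not_commute_zero (hF : Fintype.card F = q ^ 2) {f : SU 3 F q →* G} (hf : Std f) {d s : SU 2 F q}
    (hd : d ∈ torus F q) (hd1 : mat d 0 0 ≠ 1) (hs : mat s 0 0 = 0) :
    ¬ Commute (f (B0 d)) (f (B1 s)) := by
  intro hc
  set z := B0 d * B1 s * (B0 d)⁻¹ * (B1 s)⁻¹ with hz
  have hk : z ∈ f.ker := by
    rw [MonoidHom.mem_ker, hz, map_mul, map_mul, map_mul, map_inv, map_inv, hc.eq]; group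
  obtain ⟨x', h, h00, h01⟩ := torus_conj' hF hd s
  have hzz : z = B1 (x' * s⁻¹) := by rw [hz, h, map_mul, map_inv]
  have h1 : z = 1 := fix_of_central hF (hf.ker_le hk) (k := 0) (by
    rw [hzz]; exact emb_fix 1 _ _ (by simp [InR]))
  rw [hzz] at h1
  have hxs : x' = s := mul_inv_eq_one.1 (emb_injective 1 _ (h1.trans (map_one _).symm))
  obtain ⟨-, -, h3⟩ := shape hF s
  rw [hs, zero_mul, zero_add] at h3
  rw [hxs] at h01
  have h4 : mat d 0 0 ^ q = 1 := (mul_eq_right₀ (fun h => by simp [h] at h3)).1 h01.symm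
  exact hd1 (by rw [← pow_q_q hF (mat d 0 0), h4, one_pow])

/-- A diagonal element of the second block does not commute with the swap of the first one. -/
theorem not_commute_one (hF : Fintype.card F = q ^ 2) {f : SU 3 F q →* G} (hf : Std f) {d s : SU 2 F q}
    (hd : d ∈ torus F q) (hd1 : mat d 0 0 ≠ 1) (hs : mat s 0 0 = 0) :
    ¬ Commute (f (B1 d)) (f (B0 s)) := by
  intro hc
  set z := B1 d * B0 s * (B1 d)⁻¹ * (B0 s)⁻¹ with hz
  have hk : z ∈ f.ker := by
    rw [MonoidHom.mem_ker, hz, map_mul, map_mul, map_mul, map_inv, map_inv, hc.eq]; group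
  obtain ⟨x', h, h00, h01⟩ := torus_conj hF hd s
  have hzz : z = B0 (x' * s⁻¹) := by rw [hz, h, map_mul, map_inv]
  have h1 : z = 1 := fix_of_central hF (hf.ker_le hk) (k := 2) (by
    rw [hzz]; exact emb_fix 0 _ _ (by simp [InR]))
  rw [hzz] at h1
  have hxs : x' = s := mul_inv_eq_one.1 (emb_injective 0 _ (h1.trans (map_one _).symm))
  obtain ⟨-, -, h3⟩ := shape hF s
  rw [hs, zero_mul, zero_add] at h3
  rw [hxs] at h01
  have h4 : mat d 0 0 ^ q = 1 := (mul_eq_right₀ (fun h => by simp [h] at h3)).1 h01.symm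
  exact hd1 (by rw [← pow_q_q hF (mat d 0 0), h4, one_pow])

theorem swap_ok (hF : Fintype.card F = q ^ 2) : (0 : F) * 0 ^ q + 1 * 1 ^ q = 1 := by
  simp [zero_pow (q_ne_zero hF)]

/-- The swap. -/
abbrev sw (hF : Fintype.card F = q ^ 2) : SU 2 F q := mk2 hF 0 1 (swap_ok hF)

/-- The cyclic element. -/
abbrev cyc (hF : Fintype.card F = q ^ 2) : SU 3 F q := B0 (sw hF) * B1 (sw hF)

theorem cyc_conj (hF : Fintype.card F = q ^ 2) {d : SU 2 F q} (hd : d ∈ torus F q) :
    cyc hF * B0 d * (cyc hF)⁻¹ = B1 d := by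
  obtain ⟨h1, h2, h3⟩ := shape hF d
  have hd0 : mat d 0 1 = 0 := hd
  rw [hd0, zero_pow (q_ne_zero hF), neg_zero] at h1
  rw [mul_inv_eq_iff_eq_mul]
  refine PhanAut47.mat_ext ?_
  simp only [PhanAut47.mat_mul, mat_B0, mat_B1, mat_mk2, h1, h2, hd0]
  refine Matrix.ext fun i j => ?_
  fin_cases i <;> fin_cases j <;>
    simp [Matrix.mul_apply, Fin.sum_univ_three, zero_pow (q_ne_zero hF)]

theorem cyc_range (hF : Fintype.card F = q ^ 2) (x : SU 2 F q) :
    ∃ x', (cyc hF)⁻¹ * B1 x * cyc hF = B0 x' := by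
  obtain ⟨x', hx'⟩ := exists_emb hF 0 (by omega : 0 + 2 ≤ 3) ((cyc hF)⁻¹ * B1 x * cyc hF) (fun j hj => by
    have : j = 2 := by
      fin_cases j <;> simp [InR] at hj ⊢
    subst this
    have hc : act (cyc hF) (Pi.single 2 1) = Pi.single 0 (1 : F) := by
      funext i
      rw [← mat_apply]
      simp only [PhanAut47.mat_mul, mat_B0, mat_B1, mat_mk2]
      fin_cases i <;> simp [Matrix.mul_apply, Fin.sum_univ_three, zero_pow (q_ne_zero hF)]
    rw [act_mul, act_mul, hc, emb_fix 1 _ x (by simp [InR]), ← hc, act_inv_act])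
  exact ⟨x', hx'.symm⟩

/-- An orthonormal reordering of the coordinates. -/
theorem exists_perm_su (hF : Fintype.card F = q ^ 2) {k : ℕ} (π : Equiv.Perm (Fin (k + 1))) :
    ∃ (g : SU (k + 1) F q) (c : Fin (k + 1) → F), (∀ i, c i ≠ 0) ∧
      ∀ i, act g (Pi.single i 1) = c i • Pi.single (π i) 1 :=
  exists_su_of_orth hF (fun i => Pi.single (π i) 1) (fun i j => by
    rw [herm_single_right hF]
    simp [Pi.single_apply, eq_comm, π.injective.eq_iff])

theorem act_conj_fix {n : ℕ} {g x : SU n F q} {v : Fin n → F} {c : F} (hc : c ≠ 0) {w : Fin n → F}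
    (hg : act g v = c • w) (hx : act x w = w) : act (g⁻¹ * x * g) v = v := by
  rw [act_mul, act_mul, hg, act_smul, hx, ← hg, act_inv_act]

end Cfsg.Agent.PhanFourBase47
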