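import Cfsg.Agent.Lib.PhanFrame47

/-!
Two overlapping homomorphisms of `SU 3` whose three pair blocks are the standard ones inside a quotient of
`SU 4` come from one homomorphism of `SU 4`, for a prime `q`.
-/

set_option autoImplicit false
set_option linter.unusedSectionVars false

namespace Cfsg.Agent.PhanFourStd47

open Cfsg Cfsg.Agent.OrthUnitaryHerm Cfsg.Agent.OrthUnitaryTransvection Cfsg.Agent.PhanBlocks47
open Cfsg.Agent.PhanAut47 Cfsg.Agent.PhanAlign47 Cfsg.Agent.PhanFrame47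
open scoped Matrix

universe u v

variable {F : Type u} [Field F] [Fintype F] {q : ℕ} {G : Type v} [Group G]

theorem act_scalar (hF : Fintype.card F = q ^ 2) {n : ℕ} (hn : 2 ≤ n) {c : SU n F q}
    (hc : c ∈ Subgroup.center (SU n F q)) : ∃ χ : F, ∀ v, act c v = χ • v := by
  refine ⟨mat c ⟨0, by omega⟩ ⟨0, by omega⟩, fun v => funext fun i => ?_⟩
  show ((mat c) *ᵥ v) i = _
  rw [Matrix.mulVec, dotProduct, Finset.sum_eq_single i]
  · rw [show mat c i i = mat c ⟨0, by omega⟩ ⟨0, by omega⟩ from (center_SU_scalar hF hn hc i i).trans (if_pos rfl)]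
    rfl
  · intro j _ hj
    rw [show mat c i j = 0 from (center_SU_scalar hF hn hc i j).trans (if_neg (Ne.symm hj)), zero_mul]
  · exact fun h => absurd (Finset.mem_univ i) h

theorem emb_fix {m n : ℕ} (a : ℕ) (h : a + m ≤ n) (z : SU m F q) {j : Fin n} (hj : ¬ InR a m j) :
    act (emb a h z) (Pi.single j 1) = Pi.single j 1 := by
  refine vec_ext a h (fun i => ?_) fun k hk => emb_out a h z _ hk
  rw [emb_idx, show slice a h (Pi.single j (1 : F)) = 0 from funext fun i => by
    have hne : idx a h i ≠ j := fun e => hj (e ▸ inR_idx a h i)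
    simp [slice, hne], act_zero]
  have hne : idx a h i ≠ j := fun e => hj (e ▸ inR_idx a h i)
  simp [hne]

theorem act_emb_single {m n : ℕ} (a : ℕ) (h : a + m ≤ n) (z : SU m F q) (i j : Fin m) :
    act (emb a h z) (Pi.single (idx a h j) 1) (idx a h i) = mat z i j := by
  rw [emb_idx, mat_apply]
  congr 1
  funext k
  simp [slice, Pi.single_apply, (idx_inj a h).eq_iff]

/-- A homomorphism with central kernel is injective on a block. -/
theorem block_inj (hF : Fintype.card F = q ^ 2) {g : SU 4 F q →* G}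
    (hg : g.ker ≤ Subgroup.center (SU 4 F q)) {a : ℕ} (h : a + 2 ≤ 4) :
    Function.Injective (g.comp (emb (F := F) (q := q) a h)) := by
  rw [injective_iff_map_eq_one]
  intro z hz
  refine emb_injective a h ((?_ : emb a h z = 1).trans (map_one _).symm)
  obtain ⟨χ, hχ⟩ := act_scalar hF (by omega) (hg hz)
  obtain ⟨j, hj⟩ : ∃ j : Fin 4, ¬ InR a 2 j := by
    by_cases ha : a = 0
    · exact ⟨3, by simp [InR, ha]⟩
    · exact ⟨0, by simp [InR, ha]⟩
  have h1 := congrFun (hχ (Pi.single j 1)) j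
  rw [emb_fix a h z hj, Pi.smul_apply, Pi.single_eq_same, smul_eq_mul, mul_one] at h1
  exact su_ext fun v => by rw [act_one, hχ, ← h1, one_smul]

/-- An element normalising a block maps block coordinates off the others. -/
theorem normalize_zero (hF : Fintype.card F = q ^ 2) {g : SU 4 F q →* G}
    (hg : g.ker ≤ Subgroup.center (SU 4 F q)) {a : ℕ} (h : a + 2 ≤ 4) {Y : SU 4 F q}
    (hY : ∀ z, ∃ z', g (Y * emb a h z * Y⁻¹) = g (emb a h z')) {j : Fin 4} (hj : ¬ InR a 2 j) (i : Fin 2) :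
    act Y (Pi.single (idx a h i) 1) j = 0 := by
  set x := act Y⁻¹ (Pi.single j 1) with hx
  have key : ∀ z, ∃ χ : F, act z (slice a h x) = χ • slice a h x := fun z => by
    obtain ⟨z', hz'⟩ := hY z
    have hk : (emb a h z')⁻¹ * (Y * emb a h z * Y⁻¹) ∈ g.ker := by
      rw [MonoidHom.mem_ker, map_mul g (emb a h z')⁻¹, hz', map_inv, inv_mul_cancel]
    obtain ⟨χ, hχ⟩ := act_scalar hF (by omega) (hg hk)
    have h1 : act (emb a h z) x = χ • x := by
      have e : emb a h z = Y⁻¹ * (emb a h z' * ((emb a h z')⁻¹ * (Y * emb a h z * Y⁻¹))) * Y := by group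
      rw [e, hx, act_mul, act_mul, act_mul, act_act_inv, hχ, act_smul, act_smul, emb_fix a h z' hj]
    exact ⟨χ, by rw [← slice_emb, h1]; rfl⟩
  set u := slice a h x with hu
  obtain ⟨χ, hχ⟩ := key (mk2 hF 0 1 (by simp [zero_pow (q_ne_zero hF)]))
  have e0 := congrFun hχ 0
  have e1 := congrFun hχ 1
  simp [act_mk2, zero_pow (q_ne_zero hF)] at e0 e1
  obtain ⟨l, hl, hl2⟩ := exists_normOne_sq_ne_one hF
  have hlq : (l : F) * (l : F) ^ q = 1 := by
    rw [← pow_succ', ← Units.val_pow_eq_pow_val, hl, Units.val_one]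
  obtain ⟨χ', hχ'⟩ := key (mk2 hF (l : F) 0 (by rw [zero_mul, add_zero, hlq]))
  have d0 := congrFun hχ' 0
  have d1 := congrFun hχ' 1
  simp [act_mk2, zero_pow (q_ne_zero hF)] at d0 d1
  have hne : (l : F) ≠ (l : F) ^ q := fun h => hl2 (Units.ext (by
    rw [Units.val_pow_eq_pow_val, pow_two, Units.val_one]
    nth_rewrite 2 [h]
    exact hlq))
  have hu0 : u 0 = 0 ∧ u 1 = 0 := by
    by_cases h0 : u 0 = 0
    · rw [h0, mul_zero] at e0
      exact ⟨h0, e0⟩
    · by_cases h1 : u 1 = 0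
      · rw [h1, mul_zero, neg_eq_zero] at e1
        exact ⟨e1, h1⟩
      · exfalso
        have a1 : (l : F) = χ' := d0.resolve_right h0
        have a2 : (l : F) ^ q = χ' := d1.resolve_right h1
        exact hne (a1.trans a2.symm)
  have hxi : x (idx a h i) = 0 := by
    fin_cases i
    · exact hu0.1
    · exact hu0.2
  rw [hx] at hxi
  rw [← herm_single_right hF (idx a h i) (act Y⁻¹ _), ← herm_act Y, act_act_inv, herm_single_left] at hxi
  exact (pow_eq_zero_iff (q_ne_zero hF)).1 hxi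

/-- The diagonal elements of the first block act on the second one. -/
theorem torus_conj' (hF : Fintype.card F = q ^ 2) {d : SU 2 F q} (hd : d ∈ torus F q) (x : SU 2 F q) :
    ∃ x', B0 d * B1 x * (B0 d)⁻¹ = B1 x' ∧ mat x' 0 0 = mat x 0 0 ∧
      mat x' 0 1 = mat d 0 0 ^ q * mat x 0 1 := by
  obtain ⟨h1, h2, h3⟩ := shape hF x
  obtain ⟨g1, g2, g3⟩ := shape hF d
  rw [show mat d 0 1 = 0 from hd, zero_mul, add_zero] at g3
  rw [show mat d 0 1 = 0 from hd, zero_pow (q_ne_zero hF), neg_zero] at g1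
  set l := mat d 0 0
  refine ⟨mk2 hF (mat x 0 0) (l ^ q * mat x 0 1) ?_, ?_, rfl, rfl⟩
  · rw [mul_pow, pow_q_q hF]
    linear_combination h3 + (mat x 0 1 * mat x 0 1 ^ q) * g3
  · rw [mul_inv_eq_iff_eq_mul]
    refine mat_ext ?_
    rw [PhanAut47.mat_mul, PhanAut47.mat_mul, mat_B0, mat_B1, mat_B1, mat_mk2, g1, g2,
      show mat d 0 1 = 0 from hd, h1, h2]
    refine Matrix.ext fun i j => ?_
    fin_cases i <;> fin_cases j <;>
      simp [Matrix.mul_apply, Fin.sum_univ_three, mul_pow, pow_q_q hF]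
    all_goals (first | ring1 | linear_combination (mat x 0 0 ^ q) * g3 | linear_combination (mat x 0 0) * g3 |
      linear_combination -(mat x 0 1 ^ q) * g3 | linear_combination (mat x 0 1 ^ q) * g3 |
      linear_combination (mat x 0 1) * g3 | linear_combination -(mat x 0 1) * g3)

/-- The embeddings of the pair blocks in `SU 4`. -/
abbrev E (k : Fin 3) : SU 2 F q →* SU 4 F q := emb k.val (by omega)

/-- The torus of a pair acts on a neighbouring pair in `SU 4`. -/
theorem conj_four (hF : Fintype.card F = q ^ 2) {d : SU 2 F q} (hd : d ∈ torus F q) (x : SU 2 F q)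
    (k : Fin 3) (hk : k ≠ 1) :
    ∃ x', E k d * E 1 x * (E k d)⁻¹ = E 1 x' ∧ mat x' 0 1 = mat d 0 0 ^ q * mat x 0 1 := by
  fin_cases k
  · obtain ⟨x', h, -, h'⟩ := torus_conj' hF hd x
    refine ⟨x', ?_, h'⟩
    have := congrArg (emb (F := F) (q := q) (m := 3) (n := 4) 0 (by omega)) h
    simpa [map_mul, map_inv, E, emb_emb _ _ (by omega : 0 + 0 + 2 ≤ 4), emb_emb _ _ (by omega : 0 + 1 + 2 ≤ 4)]
      using this
  · exact absurd rfl hk
  · obtain ⟨x', h, -, h'⟩ := torus_conj hF hd x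
    refine ⟨x', ?_, h'⟩
    have := congrArg (emb (F := F) (q := q) (m := 3) (n := 4) 1 (by omega)) h
    simpa [map_mul, map_inv, E, emb_emb _ _ (by omega : 1 + 0 + 2 ≤ 4), emb_emb _ _ (by omega : 1 + 1 + 2 ≤ 4)]
      using this

/-! ### Diagonal twists of `SU 4` -/

theorem diag_isU {n : ℕ} {ν : Fin n → F} (hν : ∀ i, ν i * ν i ^ q = 1) : IsU q (Matrix.diagonal ν) := by
  intro u v
  simp only [hermForm, Matrix.mulVec_diagonal, mul_pow]
  refine Finset.sum_congr rfl fun i _ => ?_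
  linear_combination (u i * v i ^ q) * hν i

/-- An entrywise field automorphism followed by conjugation by a diagonal isometry. -/
def dtwist {n : ℕ} (τ : F ≃+* F) (ν : Fin n → F) (hν : ∀ i, ν i * ν i ^ q = 1) : SU n F q →* SU n F q where
  toFun g := mkSU (Matrix.diagonal ν * (mat g).map τ * Matrix.diagonal (fun i => ν i ^ q))
    (by
      have hd : ((mat g).map τ).det = 1 :=
        ((RingHom.map_det (τ : F →+* F) (mat g)).symm).trans ((congrArg _ g.1.2).trans (map_one _))
      rw [Matrix.det_mul, Matrix.det_mul, hd, mul_one, Matrix.det_diagonal, Matrix.det_diagonal,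
        ← Finset.prod_mul_distrib]
      exact Finset.prod_eq_one fun i _ => hν i)
    (((diag_isU hν).mul (map_isU τ (isU_of_mem_SU g))).mul (diag_isU fun i => by rw [← mul_pow, hν, one_pow]))
  map_one' := PhanAut47.mat_ext (by
    show Matrix.diagonal ν * ((1 : Matrix (Fin n) (Fin n) F)).map τ * Matrix.diagonal (fun i => ν i ^ q) = 1
    rw [Matrix.map_one _ (map_zero τ) (map_one τ), Matrix.mul_one, Matrix.diagonal_mul_diagonal,
      ← Matrix.diagonal_one]
    congr 1
    funext i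
    exact hν i)
  map_mul' g h := PhanAut47.mat_ext (by
    show Matrix.diagonal ν * (mat g * mat h).map τ * Matrix.diagonal (fun i => ν i ^ q) =
      (Matrix.diagonal ν * (mat g).map τ * Matrix.diagonal (fun i => ν i ^ q)) *
        (Matrix.diagonal ν * (mat h).map τ * Matrix.diagonal (fun i => ν i ^ q))
    have e : Matrix.diagonal (fun i => ν i ^ q) * Matrix.diagonal ν = 1 := by
      rw [Matrix.diagonal_mul_diagonal, ← Matrix.diagonal_one]
      congr 1
      funext i
      rw [mul_comm]; exact hν i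
    rw [show (mat g * mat h).map τ = (mat g).map τ * (mat h).map τ from Matrix.map_mul (f := (τ : F →+* F))]
    simp only [Matrix.mul_assoc]
    rw [← Matrix.mul_assoc (Matrix.diagonal fun i => ν i ^ q) (Matrix.diagonal ν), e, Matrix.one_mul])

theorem mat_dtwist {n : ℕ} (τ : F ≃+* F) (ν : Fin n → F) (hν : ∀ i, ν i * ν i ^ q = 1) (g : SU n F q)
    (i j : Fin n) : mat (dtwist τ ν hν g) i j = ν i * τ (mat g i j) * ν j ^ q := by
  show (Matrix.diagonal ν * (mat g).map τ * Matrix.diagonal (fun i => ν i ^ q) : Matrix (Fin n) (Fin n) F) i j = _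
  rw [Matrix.mul_diagonal, Matrix.diagonal_mul, Matrix.map_apply]

theorem dtwist_bijective {n : ℕ} (τ : F ≃+* F) (ν : Fin n → F) (hν : ∀ i, ν i * ν i ^ q = 1) :
    Function.Bijective (dtwist (n := n) τ ν hν) := by
  refine Finite.injective_iff_bijective.1 fun g h e => PhanAut47.mat_ext (Matrix.ext fun i j => τ.injective ?_)
  have := congrArg (fun x : SU n F q => mat x i j) e
  simp only [mat_dtwist] at this
  have h0 : ∀ i, ν i ≠ 0 := fun i h => by simpa [h] using hν i
  exact mul_left_cancel₀ (h0 i) (mul_right_cancel₀ (pow_ne_zero _ (h0 j)) this)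

theorem mat_E (g : SU 2 F q) :
    mat (E 0 g) = !![mat g 0 0, mat g 0 1, 0, 0; mat g 1 0, mat g 1 1, 0, 0; 0, 0, 1, 0; 0, 0, 0, 1] ∧
    mat (E 1 g) = !![1, 0, 0, 0; 0, mat g 0 0, mat g 0 1, 0; 0, mat g 1 0, mat g 1 1, 0; 0, 0, 0, 1] ∧
    mat (E 2 g) = !![1, 0, 0, 0; 0, 1, 0, 0; 0, 0, mat g 0 0, mat g 0 1; 0, 0, mat g 1 0, mat g 1 1] := by
  refine ⟨?_, ?_, ?_⟩ <;>
  · rw [E, mat_emb]
    refine Matrix.ext fun i j => ?_
    fin_cases i <;> fin_cases j <;> rfl

/-- Field automorphisms agreeing on a non-fixed element agree, `q` prime. -/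
theorem aut_eq_of_apply (hF : Fintype.card F = q ^ 2) (hq : q.Prime) {τ τ' : F ≃+* F} {l : F}
    (hl : l ^ q ≠ l) (h : τ l = τ' l) : τ = τ' := by
  haveI := Fact.mk hq
  haveI : CharP F q := charP_of_card_eq_prime_pow hF
  have hfix : ∀ (σ : F ≃+* F) (a : F), a ^ q = a → σ a = a := fun σ a ha => by
    obtain ⟨k, hk⟩ := aut_eq_frob q σ
    rw [hk]
    clear hk
    induction k with
    | zero => rw [pow_zero, pow_one]
    | succ k ih => rw [pow_succ, pow_mul, ih, ha]
  refine RingEquiv.ext fun x => ?_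
  have hne : l - l ^ q ≠ 0 := sub_ne_zero.2 (Ne.symm hl)
  set b := (x - x ^ q) / (l - l ^ q) with hb
  have hbq : b ^ q = b := by
    rw [hb, div_pow, sub_pow_q hF, sub_pow_q hF, pow_q_q hF, pow_q_q hF, ← neg_sub x, ← neg_sub l,
      neg_div_neg_eq]
  have hbl : b * (l - l ^ q) = x - x ^ q := div_mul_cancel₀ _ hne
  have haq : (x - b * l) ^ q = x - b * l := by
    rw [sub_pow_q hF, mul_pow, hbq]
    linear_combination hbl
  have hx : x = (x - b * l) + b * l := by ring
  rw [hx, map_add, map_add, map_mul, map_mul, hfix τ _ haq, hfix τ' _ haq, hfix τ _ hbq, hfix τ' _ hbq, h]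

/-- The common homomorphism. -/
theorem exists_phi (hF : Fintype.card F = q ^ 2) (hq : q.Prime) {g : SU 4 F q →* G}
    (hg : g.ker ≤ Subgroup.center (SU 4 F q)) {f0 f1 : SU 3 F q →* G} (s0 : Std f0) (s1 : Std f1)
    (agree : ∀ x, f0 (B1 x) = f1 (B0 x))
    (b0 : ∀ x, ∃ y, g (E 0 y) = f0 (B0 x)) (b1 : ∀ x, ∃ y, g (E 1 y) = f0 (B1 x))
    (b2 : ∀ x, ∃ y, g (E 2 y) = f1 (B1 x)) :
    ∃ T : SU 4 F q →* SU 4 F q, Function.Bijective T ∧
      (∀ x, g (T (E 0 x)) = f0 (B0 x)) ∧ (∀ x, g (T (E 1 x)) = f0 (B1 x)) ∧ ∀ x, g (T (E 2 x)) = f1 (B1 x) := by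
  classical
  let ψ : Fin 3 → (SU 2 F q →* G) := ![f0.comp B0, f0.comp B1, f1.comp B1]
  have hψi : ∀ k, Function.Injective (ψ k) := fun k => by
    fin_cases k
    · exact s0.inj0
    · exact s0.inj1
    · exact s1.inj1
  have hbl : ∀ k x, ∃ y, g (E k y) = ψ k x := fun k x => by
    fin_cases k
    · exact b0 x
    · exact b1 x
    · exact b2 x
  have hinj : ∀ k, Function.Injective (g.comp (E (F := F) (q := q) k)) := fun k => block_inj hF hg _
  choose y hy using hbl
  let α0 : Fin 3 → (SU 2 F q →* SU 2 F q) := fun k =>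
    { toFun := y k
      map_one' := hinj k ((hy k 1).trans (by rw [map_one, map_one]))
      map_mul' := fun a b => hinj k (by
        rw [map_mul]
        show g (E k (y k (a * b))) = g (E k (y k a)) * g (E k (y k b))
        rw [hy, hy, hy, map_mul]) }
  have hα : ∀ k x, g (E k (α0 k x)) = ψ k x := hy
  have hb : ∀ k, Function.Bijective (α0 k) := fun k => Finite.injective_iff_bijective.1 fun a b e =>
    hψi k (by rw [← hα, ← hα, e])
  let α : Fin 3 → MulAut (SU 2 F q) := fun k => MulEquiv.ofBijective (α0 k) (hb k)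
  have hα' : ∀ k x, g (E k (α k x)) = ψ k x := hα
  have hc : ∀ (k : Fin 3), k ≠ 1 → ∀ d ∈ torus F q, ∀ x, ∃ x',
      g (E k (α k d) * E 1 (α 1 x) * (E k (α k d))⁻¹) = g (E 1 (α 1 x')) ∧
        mat x' 0 1 = mat d 0 0 ^ q * mat x 0 1 := by
    intro k hk d hd x
    rw [map_mul, map_mul, map_inv, hα', hα']
    fin_cases k
    · obtain ⟨x', h, -, h'⟩ := torus_conj' hF hd x
      refine ⟨x', ?_, h'⟩
      rw [hα']
      show f0 (B0 d) * f0 (B1 x) * (f0 (B0 d))⁻¹ = f0 (B1 x')
      rw [← h, map_mul, map_mul, map_inv]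
    · exact absurd rfl hk
    · obtain ⟨x', h, -, h'⟩ := torus_conj hF hd x
      refine ⟨x', ?_, h'⟩
      rw [hα']
      show f1 (B1 d) * f0 (B1 x) * (f1 (B1 d))⁻¹ = f0 (B1 x')
      rw [agree, agree, ← h, map_mul, map_mul, map_inv]
  have hpres : ∀ k, ∀ d ∈ torus F q, α k d ∈ torus F q := by
    intro k d hd
    fin_cases k
    · -- the first torus normalises the middle block
      have h := normalize_zero hF hg (a := 1) (by omega) (Y := E 0 (α 0 d)) (fun z => by
        obtain ⟨x, rfl⟩ := (α 1).surjective z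
        obtain ⟨x', h, -⟩ := hc 0 (by decide) d hd x
        exact ⟨_, h⟩) (j := 0) (by simp [InR]) 0
      have h' := act_emb_single (n := 4) 0 (by omega) (α 0 d) 0 1
      exact h'.symm.trans h
    · -- the middle torus normalises the first block
      have h := normalize_zero hF hg (a := 0) (by omega) (Y := E 1 (α 1 d)) (fun z => by
        obtain ⟨x, rfl⟩ := (α 0).surjective z
        obtain ⟨x', h, -⟩ := torus_conj hF hd x
        refine ⟨α 0 x', ?_⟩
        show g (E 1 (α 1 d) * E 0 (α 0 x) * (E 1 (α 1 d))⁻¹) = g (E 0 (α 0 x'))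
        rw [map_mul, map_mul, map_inv, hα', hα', hα']
        show f0 (B1 d) * f0 (B0 x) * (f0 (B1 d))⁻¹ = f0 (B0 x')
        rw [← h, map_mul, map_mul, map_inv]) (j := 2) (by simp [InR]) 1
      have h' := act_emb_single (n := 4) 1 (by omega) (α 1 d) 1 0
      have h0 : mat (α 1 d) 1 0 = 0 := h'.symm.trans h
      rw [(shape hF (α 1 d)).1, neg_eq_zero, pow_eq_zero_iff (q_ne_zero hF)] at h0
      exact h0
    · -- the last torus normalises the middle block
      have h := normalize_zero hF hg (a := 1) (by omega) (Y := E 2 (α 2 d)) (fun z => by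
        obtain ⟨x, rfl⟩ := (α 1).surjective z
        obtain ⟨x', h, -⟩ := hc 2 (by decide) d hd x
        exact ⟨_, h⟩) (j := 3) (by simp [InR]) 1
      have h' := act_emb_single (n := 4) 2 (by omega) (α 2 d) 1 0
      have h0 : mat (α 2 d) 1 0 = 0 := h'.symm.trans h
      rw [(shape hF (α 2 d)).1, neg_eq_zero, pow_eq_zero_iff (q_ne_zero hF)] at h0
      exact h0
  choose τ μ hμ hτ using fun k => aut_SU2 hF (α k) (hpres k)
  obtain ⟨l, hl, hl2⟩ := exists_normOne_sq_ne_one hF
  have hlq : (l : F) * (l : F) ^ q = 1 := by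
    rw [← pow_succ', ← Units.val_pow_eq_pow_val, hl, Units.val_one]
  have hlne : (l : F) ^ q ≠ l := fun h => hl2 (Units.ext (by
    rw [Units.val_pow_eq_pow_val, pow_two, Units.val_one]
    nth_rewrite 2 [← h]
    exact hlq))
  have hτeq : ∀ k, k ≠ 1 → τ k = τ 1 := by
    intro k hk
    set d := mk2 hF (l : F) 0 (by rw [zero_mul, add_zero, hlq]) with hd
    set x := mk2 hF 0 1 (by simp [zero_pow (q_ne_zero hF)]) with hx
    obtain ⟨x', h, hx'⟩ := hc k hk d rfl x
    obtain ⟨z, hz, hz'⟩ := conj_four hF (hpres k d rfl) (α 1 x) k hk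
    rw [hz] at h
    have hzx : z = α 1 x' := hinj 1 h
    rw [hzx, (hτ 1 x').2, (hτ k d).1, (hτ 1 x).2, hx', show mat x 0 1 = 1 from rfl, mul_one, map_one, mul_one,
      show mat d 0 0 = (l : F) from rfl] at hz'
    rw [mul_comm (τ k _ ^ q)] at hz'
    have hμ0 : μ 1 ≠ 0 := fun h => by simpa [h] using hμ 1
    have h3 := mul_left_cancel₀ hμ0 hz'
    rw [map_pow] at h3
    have h4 := congrArg (fun a => a ^ q) h3
    simp only [pow_q_q hF] at h4
    exact (aut_eq_of_apply hF hq hlne h4).symm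
  set ν : Fin 4 → F := ![μ 0, 1, μ 1 ^ q, μ 2 ^ q * μ 1 ^ q] with hν
  have hμq : ∀ k, μ k ^ q * (μ k ^ q) ^ q = 1 := fun k => by rw [← mul_pow, hμ, one_pow]
  have hν1 : ∀ i, ν i * ν i ^ q = 1 := fun i => by
    fin_cases i <;> simp [hν, hμ, hμq, mul_pow]
    linear_combination (μ 1 ^ q * (μ 1 ^ q) ^ q) * hμq 2 + hμq 1
  set T := dtwist (τ 1) ν hν1 with hT
  have key : ∀ k x, T (E k x) = E k (α k x) := by
    intro k x
    have e0 : τ 0 = τ 1 := hτeq 0 (by decide)
    have e2 : τ 2 = τ 1 := hτeq 2 (by decide)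
    obtain ⟨a1, a2, -⟩ := shape hF x
    refine PhanAut47.mat_ext (Matrix.ext fun i j => ?_)
    obtain ⟨t1, t2, -⟩ := shape hF (α k x)
    obtain ⟨r1, r2⟩ := hτ k x
    obtain ⟨m0, m1, m2⟩ := mat_E x
    obtain ⟨n0, n1, n2⟩ := mat_E (α k x)
    have q0 := hμ 0
    have q1 := hμ 1
    have q2 := hμ 2
    rw [hT, mat_dtwist]
    fin_cases k <;> simp only [Fin.zero_eta, Fin.mk_one, Fin.reduceFinMk] at * <;>
      [rw [m0, n0]; rw [m1, n1]; rw [m2, n2]] <;>
      rw [t1, t2, r1, r2, a1, a2] <;>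
      fin_cases i <;> fin_cases j <;>
      simp [hν, e0, e2, mul_pow, pow_q_q hF]
    all_goals (first
      | ring1
      | linear_combination q0
      | linear_combination q1
      | linear_combination q2
      | linear_combination (τ 1 (mat x 0 0)) * q0
      | linear_combination (τ 1 (mat x 0 0)) * q1
      | linear_combination (τ 1 (mat x 0 0)) * q2
      | linear_combination (τ 1 (mat x 0 0) ^ q) * q1
      | linear_combination (τ 1 (mat x 0 0) ^ q) * q2
      | linear_combination (τ 1 (mat x 0 0) ^ q * μ 1 * μ 1 ^ q) * q2 + (τ 1 (mat x 0 0) ^ q) * q1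
      | linear_combination (μ 1 * μ 1 ^ q) * q2 + q1
      | linear_combination (μ 2 * μ 2 ^ q) * q1 + q2
      | linear_combination (τ 1 (mat x 0 1) * μ 2) * q1
      | linear_combination -(τ 1 (mat x 0 1) ^ q * μ 2 ^ q) * q1
      | linear_combination (τ 1 (mat x 0 1) ^ q * μ 2 ^ q) * q1)
  exact ⟨T, dtwist_bijective _ _ _, fun x => by rw [key, hα']; rfl, fun x => by rw [key, hα']; rfl,
    fun x => by rw [key, hα']; rfl⟩

end Cfsg.Agent.PhanFourStd47
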