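import Cfsg.Agent.Lib.PhanFourBase47

/-!
Two overlapping homomorphisms of `SU 3` into a quotient of `SU 4` over the field with nine elements come from
one homomorphism of `SU 4`.
-/

set_option autoImplicit false
set_option linter.unusedSectionVars false

namespace Cfsg.Agent.PhanFourThree47

open Cfsg Cfsg.Agent.OrthUnitaryHerm Cfsg.Agent.OrthUnitaryTransvection Cfsg.Agent.PhanBlocks47
open Cfsg.Agent.PhanAut47 Cfsg.Agent.PhanAlign47 Cfsg.Agent.PhanFrame47 Cfsg.Agent.PhanFourStd47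
open Cfsg.Agent.PhanFourBase47
open scoped Matrix

universe u v

variable {F : Type u} [Field F] [Fintype F] {G : Type v} [Group G]

theorem three_zero (hF : Fintype.card F = 3 ^ 2) : (3 : F) = 0 := by exact_mod_cast qF_zero hF

theorem two_ne (hF : Fintype.card F = 3 ^ 2) : (2 : F) ≠ 0 := fun h =>
  one_ne_zero (show (1 : F) = 0 by linear_combination three_zero hF - h)

theorem char_three (hF : Fintype.card F = 3 ^ 2) : CharP F 3 := by
  haveI : Fact (Nat.Prime 3) := ⟨Nat.prime_three⟩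
  exact charP_of_card_eq_prime_pow hF

theorem eq_neg_self (hF : Fintype.card F = 3 ^ 2) {n : ℕ} {v : Fin n → F} (h : v = -v) : v = 0 :=
  funext fun i => by
    have := congrFun h i
    rw [Pi.neg_apply] at this
    exact (mul_eq_zero.1 (show (2 : F) * v i = 0 by linear_combination this)).resolve_left (two_ne hF)

theorem combi1 : ∀ a : Fin 4 → Bool, ((Finset.univ.filter fun i => a i = true).card % 2 = 0) →
    (∃ i, a i = true) → (∃ i, a i = false) → (Finset.univ.filter fun i => a i = true).card = 2 := by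
  decide

theorem combi2 : ∀ a b : Fin 4 → Bool, (Finset.univ.filter fun i => a i = true).card = 2 →
    (Finset.univ.filter fun i => b i = true).card = 2 → (∀ i, a i = true → b i = false) →
    ∀ i, b i = !(a i) := by
  decide

theorem combi3 : ∀ a b : Fin 4 → Bool, (Finset.univ.filter fun i => a i = true).card = 2 →
    (Finset.univ.filter fun i => b i = true).card = 2 → (∀ i, b i = a i) ∨ (∀ i, b i = !(a i)) ∨
      ∃ i0 i1 i2 i3, (a i0 = true ∧ b i0 = false) ∧ (a i1 = true ∧ b i1 = true) ∧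
        (a i2 = false ∧ b i2 = true) ∧ (a i3 = false ∧ b i3 = false) := by
  decide

/-- The sign of a Boolean. -/
def sgn (b : Bool) : F := if b then -1 else 1

theorem exists_sgn {a : F} (h : a * a = 1) : ∃ b : Bool, a = sgn b := by
  rcases mul_self_eq_one_iff.1 h with h | h
  · exact ⟨false, h⟩
  · exact ⟨true, h⟩

/-- The hypotheses. -/
structure Data (F : Type u) [Field F] [Fintype F] (G : Type v) [Group G] where
  hF : Fintype.card F = 3 ^ 2
  g : SU 4 F 3 →* G
  hg : g.ker ≤ Subgroup.center (SU 4 F 3)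
  f0 : SU 3 F 3 →* G
  f1 : SU 3 F 3 →* G
  s0 : Std f0
  s1 : Std f1
  agree : ∀ x, f0 (B1 x) = f1 (B0 x)
  comm : ∀ x y, Commute (f0 (B0 x)) (f1 (B1 y))
  r0 : ∀ x, f0 x ∈ g.range
  r1 : ∀ x, f1 x ∈ g.range

variable (D : Data F G)

namespace Data

theorem ker_pow {z : SU 4 F 3} (hz : D.g z = 1) : z ^ 4 = 1 := by
  obtain ⟨χ, hχ⟩ := act_scalar D.hF (by omega) (D.hg hz)
  have hd : (mat z).det = 1 := z.1.2
  have hm : mat z = Matrix.diagonal fun _ => χ := Matrix.ext fun i j => by
    rw [mat_apply, hχ, Matrix.diagonal_apply]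
    by_cases hij : i = j
    · subst hij; simp
    · simp [hij]
  rw [hm, Matrix.det_diagonal] at hd
  simp at hd
  exact su_ext fun v => by rw [pow_eigen (hχ v), hd, one_smul, act_one]

theorem ker_comm {z : SU 4 F 3} (hz : D.g z = 1) (x : SU 4 F 3) : Commute z x :=
  (Subgroup.mem_center_iff.1 (D.hg hz) x).symm

/-- Lifts of order dividing three are unique. -/
theorem unique {y y' : SU 4 F 3} (h : y ^ 3 = 1) (h' : y' ^ 3 = 1) (e : D.g y = D.g y') : y = y' := by
  have hk : D.g (y⁻¹ * y') = 1 := by rw [map_mul, map_inv, e, inv_mul_cancel]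
  have h3 : (y⁻¹ * y') ^ 3 = 1 := by
    have e2 : y' ^ 3 = y ^ 3 * (y⁻¹ * y') ^ 3 := by
      rw [← (D.ker_comm hk y).symm.mul_pow, mul_inv_cancel_left]
    rw [h, h', one_mul] at e2
    exact e2.symm
  have h1 : y⁻¹ * y' = 1 := by
    have h4 := D.ker_pow hk
    rw [pow_succ, h3, one_mul] at h4
    exact h4
  exact inv_mul_eq_one.1 h1

theorem unique_conj {c y : SU 4 F 3} (hy : y ^ 3 = 1) {y' : SU 4 F 3} (hy' : y' ^ 3 = 1)
    (e : D.g c * D.g y * (D.g c)⁻¹ = D.g y') : c * y * c⁻¹ = y' :=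
  D.unique (by rw [conj_pow, hy, mul_one, mul_inv_cancel]) hy' (by rw [map_mul, map_mul, map_inv, e])

/-- The lifted group of a homomorphism of `SU 2`. -/
def lifts (ψ : SU 2 F 3 →* G) : Set (SU 4 F 3) := {y | y ^ 3 = 1 ∧ D.g y ∈ ψ.range}

/-- The lifted group. -/
def U (ψ : SU 2 F 3 →* G) : Subgroup (SU 4 F 3) := Subgroup.closure (D.lifts ψ)

theorem exists_lift {ψ : SU 2 F 3 →* G} (hr : ∀ x, ψ x ∈ D.g.range) (x : SU 2 F 3) :
    ∃ y ∈ D.U ψ, D.g y = ψ x := by
  haveI := char_three D.hF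
  have hm : x ∈ Subgroup.closure {x : SU 2 F 3 | x ^ 3 = 1} := by rw [gen_char D.hF]; trivial
  induction hm using Subgroup.closure_induction with
  | mem a ha =>
    obtain ⟨y, hy⟩ := hr a
    have h3 : D.g (y ^ 3) = 1 := by rw [map_pow, hy, ← map_pow, show a ^ 3 = 1 from ha, map_one]
    have e : D.g (y ^ 4) = ψ a := by rw [pow_succ, map_mul, h3, one_mul, hy]
    refine ⟨y ^ 4, Subgroup.subset_closure ⟨?_, e ▸ ⟨a, rfl⟩⟩, e⟩
    rw [← pow_mul, show 4 * 3 = 3 * 4 from rfl, pow_mul, D.ker_pow h3]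
  | one => exact ⟨1, one_mem _, by rw [map_one, map_one]⟩
  | mul a b _ _ ha hb =>
    obtain ⟨y, hy, e⟩ := ha
    obtain ⟨z, hz, e'⟩ := hb
    exact ⟨y * z, mul_mem hy hz, by rw [map_mul, map_mul, e, e']⟩
  | inv a _ ha =>
    obtain ⟨y, hy, e⟩ := ha
    exact ⟨y⁻¹, inv_mem hy, by rw [map_inv, map_inv, e]⟩

theorem U_commute {ψ ψ' : SU 2 F 3 →* G} (h : ∀ a b, Commute (ψ a) (ψ' b)) {y z : SU 4 F 3}
    (hy : y ∈ D.U ψ) (hz : z ∈ D.U ψ') : Commute y z := by
  have key : ∀ y ∈ D.lifts ψ, ∀ z ∈ D.lifts ψ', Commute y z := by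
    rintro y ⟨hy, a, ha⟩ z ⟨hz, b, hb⟩
    have := D.unique_conj (c := y) hz hz (by
      rw [← ha, ← hb, (h a b).eq, mul_inv_cancel_right])
    exact mul_inv_eq_iff_eq_mul.1 this
  have h1 : ∀ z ∈ D.lifts ψ', D.U ψ ≤ Subgroup.centralizer {z} := fun z hz =>
    (Subgroup.closure_le _).2 fun y hy => Subgroup.mem_centralizer_singleton_iff.2 (key y hy z hz).eq
  have h2 : D.U ψ' ≤ Subgroup.centralizer {y} :=
    (Subgroup.closure_le _).2 fun z hz => Subgroup.mem_centralizer_singleton_iff.2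
      (Subgroup.mem_centralizer_singleton_iff.1 (h1 z hz hy)).symm
  exact (Subgroup.mem_centralizer_singleton_iff.1 (h2 hz)).symm

theorem U_conj {ψ ψ' : SU 2 F 3 →* G} {c : SU 4 F 3}
    (h : ∀ a, ∃ b, D.g c * ψ a * (D.g c)⁻¹ = ψ' b) {y : SU 4 F 3} (hy : y ∈ D.U ψ) :
    c * y * c⁻¹ ∈ D.U ψ' := by
  have : D.U ψ ≤ (D.U ψ').comap (MulAut.conj c).toMonoidHom := (Subgroup.closure_le _).2 (by
    rintro y ⟨hy, a, ha⟩
    obtain ⟨b, hb⟩ := h a
    refine Subgroup.subset_closure ⟨?_, b, ?_⟩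
    · show (c * y * c⁻¹) ^ 3 = 1
      rw [conj_pow, hy, mul_one, mul_inv_cancel]
    · show ψ' b = D.g (c * y * c⁻¹)
      rw [map_mul, map_mul, map_inv, ← ha, hb])
  exact this hy

theorem fix_of_lifts {ψ : SU 2 F 3 →* G} {v : Fin 4 → F}
    (h : ∀ y ∈ D.lifts ψ, act y v = v) {y : SU 4 F 3} (hy : y ∈ D.U ψ) : act y v = v := by
  induction hy using Subgroup.closure_induction with
  | mem a ha => exact h a ha
  | one => rw [act_one]
  | mul a b _ _ ha hb => rw [act_mul, hb, ha]
  | inv a _ ha => conv_lhs => rw [← ha]; rw [act_inv_act]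

end Data

theorem mm_ok (hF : Fintype.card F = 3 ^ 2) : (-1 : F) * (-1) ^ 3 + 0 * 0 ^ 3 = 1 := by norm_num

/-- The central involution of `SU 2`. -/
abbrev mm (hF : Fintype.card F = 3 ^ 2) : SU 2 F 3 := mk2 hF (-1) 0 (mm_ok hF)

theorem mm_torus (hF : Fintype.card F = 3 ^ 2) : mm hF ∈ torus F 3 := rfl

theorem mm_ne (hF : Fintype.card F = 3 ^ 2) : mat (mm hF) 0 0 ≠ 1 := fun h =>
  two_ne hF (show (2 : F) = 0 by
    have h' : (-1 : F) = 1 := h
    linear_combination -h')

theorem exists_quat (hF : Fintype.card F = 3 ^ 2) : ∃ d : SU 2 F 3,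
    d * d = mm hF ∧ sw hF * sw hF = mm hF ∧ d * sw hF * d⁻¹ * (sw hF)⁻¹ = mm hF := by
  obtain ⟨i, hi⟩ := exists_root (q := 3) hF
  have h4 : i ^ 4 = 1 := hi.pow_eq_one
  have h2 : i ^ 2 = -1 := by
    have : (i ^ 2 - 1) * (i ^ 2 + 1) = 0 := by linear_combination h4
    rcases mul_eq_zero.1 this with h | h
    · exact absurd (sub_eq_zero.1 h) (hi.pow_ne_one_of_pos_of_lt (by omega) (by omega))
    · exact eq_neg_of_add_eq_zero_left h
  refine ⟨mk2 hF i 0 (by linear_combination h4), ?_, ?_, ?_⟩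
  · refine PhanAut47.mat_ext ?_
    simp only [PhanAut47.mat_mul, mat_mk2]
    refine Matrix.ext fun a b => ?_
    fin_cases a <;> fin_cases b <;> simp [Matrix.mul_apply, Fin.sum_univ_two] <;>
      first | linear_combination h2 | linear_combination (i ^ 4 - i ^ 2 + 1) * h2 | norm_num
  · refine PhanAut47.mat_ext ?_
    simp only [PhanAut47.mat_mul, mat_mk2]
    refine Matrix.ext fun a b => ?_
    fin_cases a <;> fin_cases b <;> simp [Matrix.mul_apply, Fin.sum_univ_two] <;> norm_num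
  · rw [mul_inv_eq_iff_eq_mul, mul_inv_eq_iff_eq_mul]
    refine PhanAut47.mat_ext ?_
    simp only [PhanAut47.mat_mul, mat_mk2]
    refine Matrix.ext fun a b => ?_
    fin_cases a <;> fin_cases b <;> simp [Matrix.mul_apply, Fin.sum_univ_two] <;>
      first | linear_combination i * h2 | linear_combination -i * h2 | norm_num

namespace Data

/-- An involution in the lifted group over the central involution. -/
structure Inv (ψ : SU 2 F 3 →* G) (T : SU 4 F 3) : Prop where
  mem : T ∈ D.U ψ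
  sq : T * T = 1
  img : D.g T = ψ (mm D.hF)
  nsc : ∀ χ : F, ∃ v, act T v ≠ χ • v

theorem scalar_commute {T : SU 4 F 3} {χ : F} (h : ∀ v, act T v = χ • v) (y : SU 4 F 3) : Commute T y :=
  su_ext fun v => by rw [act_mul, act_mul, h, h, act_smul]

theorem exists_inv {ψ : SU 2 F 3 →* G} (hr : ∀ x, ψ x ∈ D.g.range) {z : G} (hz : z ∈ D.g.range)
    (hnc : ¬ Commute (ψ (mm D.hF)) z) : ∃ T, D.Inv ψ T := by
  obtain ⟨d, hdd, hss, hds⟩ := exists_quat D.hF
  obtain ⟨A, hA, hAg⟩ := D.exists_lift hr d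
  obtain ⟨S, hS, hSg⟩ := D.exists_lift hr (sw D.hF)
  set T := A * S * A⁻¹ * S⁻¹ with hT
  have hTg : D.g T = ψ (mm D.hF) := by
    rw [← hds, hT]; simp only [map_mul, map_inv, hAg, hSg]
  have hA2 : D.g (T⁻¹ * (A * A)) = 1 := by
    rw [map_mul, map_inv, hTg, map_mul, hAg, ← map_mul, hdd, inv_mul_cancel]
  have hS2 : D.g (T⁻¹ * (S * S)) = 1 := by
    rw [map_mul, map_inv, hTg, map_mul, hSg, ← map_mul, hss, inv_mul_cancel]
  have cA : Commute T A := by
    have h := D.ker_comm hA2 A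
    have e : T = A * A * (T⁻¹ * (A * A))⁻¹ := by group
    rw [e]
    exact ((Commute.refl A).mul_left (Commute.refl A)).mul_left h.inv_left
  have cS : Commute T S := by
    have h := D.ker_comm hS2 S
    have e : T = S * S * (T⁻¹ * (S * S))⁻¹ := by group
    rw [e]
    exact ((Commute.refl S).mul_left (Commute.refl S)).mul_left h.inv_left
  have cAS : Commute (A * A) S := by
    have e : A * A = T * (T⁻¹ * (A * A)) := by group
    rw [e]
    exact cS.mul_left (D.ker_comm hA2 S)
  have hsq : T * T = 1 := by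
    have e : A * A * S * (A * A)⁻¹ * S⁻¹ = A * T * A⁻¹ * T := by rw [hT]; group
    rw [cAS.eq, mul_inv_cancel_right, mul_inv_cancel, ← cA.eq, mul_inv_cancel_right] at e
    exact e.symm
  refine ⟨T, ⟨mul_mem (mul_mem (mul_mem hA hS) (inv_mem hA)) (inv_mem hS), hsq, hTg, fun χ => ?_⟩⟩
  by_contra h
  push Not at h
  obtain ⟨y, rfl⟩ := hz
  apply hnc
  rw [← hTg]
  exact Commute.map (scalar_commute h y) D.g

theorem sq_act {T : SU 4 F 3} (h : T * T = 1) (v : Fin 4 → F) : act T (act T v) = v := by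
  rw [← act_mul, h, act_one]

theorem sq_pow {T : SU 4 F 3} (h : T * T = 1) : T ^ (3 + 1) = 1 := by
  rw [show 3 + 1 = 2 * 2 from rfl, pow_mul, pow_two T, h, one_pow]

include D in
/-- A frame of two commuting involutions. -/
theorem exists_signs {T T' : SU 4 F 3} (h : T * T = 1) (h' : T' * T' = 1) (hc : Commute T T') :
    ∃ (P : SU 4 F 3) (a b : Fin 4 → Bool), ∀ i, act T (act P (Pi.single i 1)) = (sgn (a i) : F) • act P (Pi.single i 1) ∧
      act T' (act P (Pi.single i 1)) = (sgn (b i) : F) • act P (Pi.single i 1) := by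
  obtain ⟨P, a, b, -, -, hab⟩ := exists_diag (q := 3) D.hF (k := 3) (sq_pow h) (sq_pow h') hc (fun _ => 1)
  have key : ∀ (X : SU 4 F 3) (c : Fin 4 → F), X * X = 1 →
      (∀ i, act (P⁻¹ * X * P) (Pi.single i 1) = c i • Pi.single i 1) →
      ∀ i, ∃ s : Bool, act X (act P (Pi.single i 1)) = (sgn s : F) • act P (Pi.single i 1) := by
    intro X c hX hc i
    have e := hc i
    rw [act_mul, act_mul] at e
    have e' := congrArg (act P) e
    rw [act_act_inv, act_smul] at e'
    have e2 := congrArg (act X) e'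
    rw [sq_act hX, act_smul, e', smul_smul] at e2
    have hne : act P (Pi.single i 1) ≠ 0 := fun h0 => by
      have := congrArg (act P⁻¹) h0
      rw [act_inv_act, act_zero] at this
      simpa using congrFun this i
    obtain ⟨k, hk⟩ := Function.ne_iff.1 hne
    have hcc : c i * c i = 1 := by
      have := congrFun e2 k
      rw [Pi.smul_apply, smul_eq_mul] at this
      exact mul_right_cancel₀ hk (this.symm.trans (one_mul _).symm)
    obtain ⟨s, hs⟩ := exists_sgn hcc
    exact ⟨s, hs ▸ e'⟩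
  choose a' ha' using key T a h fun i => (hab i).1
  choose b' hb' using key T' b h' fun i => (hab i).2
  exact ⟨P, a', b', fun i => ⟨ha' i, hb' i⟩⟩

theorem span_frame (P : SU 4 F 3) (v : Fin 4 → F) :
    v = ∑ i, act P⁻¹ v i • act P (Pi.single i 1) := by
  conv_lhs => rw [← act_act_inv P v, vec_sum (act P⁻¹ v), act_sum]
  exact Finset.sum_congr rfl fun i _ => act_smul _ _ _

include D in
theorem coord_zero {T P : SU 4 F 3} {a : Fin 4 → Bool}
    (h : ∀ i, act T (act P (Pi.single i 1)) = (sgn (a i) : F) • act P (Pi.single i 1)) {v : Fin 4 → F} {s : Bool}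
    (hv : act T v = (sgn s : F) • v) {i : Fin 4} (hi : a i ≠ s) : act P⁻¹ v i = 0 := by
  set w := act P⁻¹ v with hw
  have e : act T v = ∑ k, (sgn (a k) * w k) • act P (Pi.single k 1) := by
    conv_lhs => rw [span_frame P v, act_sum]
    exact Finset.sum_congr rfl fun k _ => by rw [act_smul, h, smul_smul, mul_comm, hw]
  have e2 := congrArg (fun x => act P⁻¹ x i) (hv.symm.trans e)
  simp only [act_sum, act_smul, act_inv_act, Finset.sum_apply, Pi.smul_apply, ← hw, smul_eq_mul] at e2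
  rw [Finset.sum_eq_single i (fun k _ hk => by simp [hk.symm]) (fun hh => absurd (Finset.mem_univ i) hh),
    Pi.single_eq_same, mul_one] at e2
  have : (sgn (a i) - sgn s : F) * w i = 0 := by linear_combination -e2
  rcases mul_eq_zero.1 this with h' | h'
  · exfalso
    have h2 := two_ne D.hF
    cases ha : a i <;> cases hs : s <;> simp [sgn, ha, hs] at h' hi
    · exact h2 (by linear_combination h')
    · exact h2 (by linear_combination -h')
  · exact h'

theorem count_two {ψ : SU 2 F 3 →* G} {T P : SU 4 F 3} (hT : D.Inv ψ T) {a : Fin 4 → Bool}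
    (h : ∀ i, act T (act P (Pi.single i 1)) = (sgn (a i) : F) • act P (Pi.single i 1)) :
    (Finset.univ.filter fun i => a i = true).card = 2 := by
  have hd : (mat (P⁻¹ * T * P)).det = 1 := (P⁻¹ * T * P).1.2
  have hm : mat (P⁻¹ * T * P) = Matrix.diagonal fun i => (sgn (a i) : F) := Matrix.ext fun i j => by
    rw [mat_apply, act_mul, act_mul, h, act_smul, act_inv_act, Matrix.diagonal_apply]
    by_cases hij : i = j
    · subst hij; simp
    · simp [hij]
  rw [hm, Matrix.det_diagonal] at hd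
  unfold sgn at hd
  rw [Finset.prod_ite, Finset.prod_const, Finset.prod_const_one, mul_one] at hd
  have hev : (Finset.univ.filter fun i => a i = true).card % 2 = 0 := by
    rcases Nat.even_or_odd (Finset.univ.filter fun i => a i = true).card with he | ho
    · exact Nat.even_iff.1 he
    · rw [ho.neg_one_pow] at hd
      exact absurd (show (2 : F) = 0 by linear_combination -hd) (two_ne D.hF)
  have allsame : ∀ s : Bool, ∃ i, a i ≠ s := fun s => by
    by_contra hall
    push Not at hall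
    obtain ⟨v, hv⟩ := hT.nsc (sgn s)
    apply hv
    conv_lhs => rw [span_frame P v, act_sum]
    conv_rhs => rw [span_frame P v, Finset.smul_sum]
    exact Finset.sum_congr rfl fun k _ => by rw [act_smul, h, hall, smul_comm]
  obtain ⟨i, hi⟩ := allsame false
  obtain ⟨j, hj⟩ := allsame true
  exact combi1 a hev ⟨i, by simpa using hi⟩ ⟨j, by simpa using hj⟩

/-- The negative eigenspace has dimension at most two. -/
theorem finrank_neg {ψ : SU 2 F 3 →* G} {T : SU 4 F 3} (hT : D.Inv ψ T) :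
    Module.finrank F (LinearMap.ker (actL T + LinearMap.id)) ≤ 2 := by
  classical
  obtain ⟨P, a, b, hab⟩ := D.exists_signs hT.sq hT.sq (Commute.refl T)
  set S := Finset.univ.filter fun i => a i = true with hS
  have hle : LinearMap.ker (actL T + LinearMap.id) ≤
      Submodule.span F (Set.range fun i : S => act P (Pi.single (i : Fin 4) 1)) := by
    intro v hv
    have hv' : act T v = (sgn true : F) • v := by
      have := LinearMap.mem_ker.1 hv
      simp only [LinearMap.add_apply, LinearMap.id_apply] at this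
      rw [show sgn true = (-1 : F) from rfl, neg_one_smul]
      exact eq_neg_of_add_eq_zero_left this
    rw [span_frame P v]
    refine Submodule.sum_mem _ fun i _ => ?_
    by_cases hi : a i = true
    · exact Submodule.smul_mem _ _ (Submodule.subset_span ⟨⟨i, by simp [hS, hi]⟩, rfl⟩)
    · rw [D.coord_zero (fun i => (hab i).1) hv' hi, zero_smul]; exact zero_mem _
  refine (Submodule.finrank_mono hle).trans ?_
  have h := finrank_range_le_card (R := F) (fun i : S => act P (Pi.single (i : Fin 4) 1))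
  rw [Fintype.card_coe, hS, D.count_two hT fun i => (hab i).1] at h
  exact h

theorem lift_comm_inv {ψ : SU 2 F 3 →* G} {T : SU 4 F 3} (hT : D.Inv ψ T) {x : SU 4 F 3} (hx : x ∈ D.lifts ψ) :
    Commute T x := by
  obtain ⟨hx3, a, ha⟩ := hx
  refine mul_inv_eq_iff_eq_mul.1 (D.unique_conj hx3 hx3 ?_)
  rw [hT.img, ← ha, ← map_inv, ← map_mul, ← map_mul]
  congr 1
  rw [mul_inv_eq_iff_eq_mul]
  refine PhanAut47.mat_ext ?_
  simp only [PhanAut47.mat_mul, mat_mk2]
  refine Matrix.ext fun i j => ?_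
  fin_cases i <;> fin_cases j <;> simp [Matrix.mul_apply, Fin.sum_univ_two] <;> norm_num

/-- An element of order dividing three centralising the lifted group fixes the negative eigenspace. -/
theorem fix_neg {ψ : SU 2 F 3 →* G} {T : SU 4 F 3} (hT : D.Inv ψ T) {y : SU 4 F 3} (hy : y ^ 3 = 1)
    (hc : ∀ x ∈ D.U ψ, Commute x y) {v : Fin 4 → F} (hv : act T v = -v) : act y v = v := by
  by_contra hne
  haveI := char_three D.hF
  set W := LinearMap.ker (actL T + LinearMap.id) with hW
  have memW : ∀ z, z ∈ W ↔ act T z = -z := fun z => by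
    rw [hW, LinearMap.mem_ker, LinearMap.add_apply, LinearMap.id_apply]
    exact ⟨eq_neg_of_add_eq_zero_left, fun h => by rw [show actL T z = act T z from rfl, h, neg_add_cancel]⟩
  have hTy : ∀ z, act T (act y z) = act y (act T z) := fun z => by
    rw [← act_mul, (hc T hT.mem).eq, act_mul]
  set N : (Fin 4 → F) → Fin 4 → F := fun z => act y z - z with hN
  have hNW : ∀ z, act T z = -z → act T (N z) = -N z := fun z hz => by
    rw [hN, act_sub, hTy, hz]
    rw [show act y (-z) = -act y z from map_neg (actL y) z, neg_sub]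
    abel
  have hN3 : N (N (N v)) = 0 := by
    have e3 : act y (act y (act y v)) = v := by rw [← act_mul, ← act_mul, ← pow_three', hy, act_one]
    simp only [hN, act_sub, e3]
    funext i
    simp only [Pi.sub_apply, Pi.zero_apply]
    linear_combination (act y v i - act y (act y v) i) * three_zero D.hF
  have hN0 : N v ≠ 0 := sub_ne_zero.2 hne
  obtain ⟨u, huW, hu, huu⟩ : ∃ u, act T u = -u ∧ N u ≠ 0 ∧ N (N u) = 0 := by
    by_cases h2 : N (N v) = 0
    · exact ⟨v, hv, hN0, h2⟩
    · exact ⟨N v, hNW v hv, h2, hN3⟩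
  set p := N u with hp
  have hpW : act T p = -p := hNW u huW
  have hNsmul : ∀ (c : F) z, N (c • z) = c • N z := fun c z => by simp only [hN, act_smul, smul_sub]
  have hind : LinearIndependent F ![p, u] := by
    rw [LinearIndependent.pair_iff]
    intro s t hst
    have h := congrArg N hst
    simp only [hN, act_add, act_smul, act_zero, sub_zero] at h
    have h' : s • N p + t • N u = 0 := by
      rw [← h]; simp only [hN, smul_sub]; abel
    rw [huu, smul_zero, zero_add] at h'
    have ht : t = 0 := (smul_eq_zero.1 h').resolve_right hu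
    rw [ht, zero_smul, add_zero] at hst
    exact ⟨(smul_eq_zero.1 hst).resolve_right hu, ht⟩
  have hspan : W = Submodule.span F (Set.range ![p, u]) := by
    refine (Submodule.eq_of_le_of_finrank_le ?_ ?_).symm
    · rw [Submodule.span_le]
      rintro _ ⟨i, rfl⟩
      fin_cases i
      · exact (memW p).2 hpW
      · exact (memW u).2 huW
    · rw [finrank_span_eq_card hind, Fintype.card_fin]
      exact D.finrank_neg hT
  have hscale : ∀ x ∈ D.U ψ, ∀ (_ : Commute T x), ∃ χ : F, act x p = χ • p := by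
    intro x hx hTx
    have hxW : act x p ∈ W := (memW _).2 (by
      rw [← act_mul, hTx.eq, act_mul, hpW]; exact map_neg (actL x) p)
    rw [hspan, Submodule.mem_span_range_iff_exists_fun] at hxW
    obtain ⟨c, hc'⟩ := hxW
    rw [Fin.sum_univ_two] at hc'
    simp only [Matrix.cons_val_zero, Matrix.cons_val_one] at hc'
    have hyp : act y p = p := sub_eq_zero.1 huu
    have hfix : act y (act x p) = act x p := by
      rw [← act_mul, ← (hc x hx).eq, act_mul, hyp]
    rw [← hc', act_add, act_smul, act_smul, hyp] at hfix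
    have h2 : c 1 • N u = 0 := by
      simp only [hN, smul_sub]
      exact sub_eq_zero.2 (add_left_cancel hfix)
    rw [(smul_eq_zero.1 h2).resolve_right hu, zero_smul, add_zero] at hc'
    exact ⟨c 0, hc'.symm⟩
  have hfixp : act T p = p := by
    refine D.fix_of_lifts (ψ := ψ) (fun x hx => ?_) hT.mem
    have hxU : x ∈ D.U ψ := Subgroup.subset_closure hx
    obtain ⟨χ, hχ⟩ := hscale x hxU (D.lift_comm_inv hT hx)
    exact fix_of_char Nat.prime_three hx.1 hχ
  exact hu (eq_neg_self D.hF (hfixp.symm.trans hpW))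
theorem fix_neg_group {ψ ψ' : SU 2 F 3 →* G} {T : SU 4 F 3} (hT : D.Inv ψ T)
    (h : ∀ a b, Commute (ψ a) (ψ' b)) {v : Fin 4 → F} (hv : act T v = -v) {y : SU 4 F 3} (hy : y ∈ D.U ψ') :
    act y v = v :=
  D.fix_of_lifts (fun _ hz => D.fix_neg hT hz.1
    (fun _ hx => D.U_commute h hx (Subgroup.subset_closure hz)) hv) hy

set_option maxHeartbeats 1200000 in
/-- The standard position. -/
theorem exists_blocks : ∃ P : SU 4 F 3, ∀ x,
    (∃ y, D.g (P * E 0 y * P⁻¹) = D.f0 (B0 x)) ∧ (∃ y, D.g (P * E 1 y * P⁻¹) = D.f0 (B1 x)) ∧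
      ∃ y, D.g (P * E 2 y * P⁻¹) = D.f1 (B1 x) := by
  have hF := D.hF
  have hsw : mat (sw hF) 0 0 = 0 := rfl
  set ψ0 := D.f0.comp B0 with hψ0
  set ψ1 := D.f0.comp B1 with hψ1
  set ψ2 := D.f1.comp B1 with hψ2
  have r0 : ∀ x, ψ0 x ∈ D.g.range := fun x => D.r0 _
  have r1 : ∀ x, ψ1 x ∈ D.g.range := fun x => D.r0 _
  have r2 : ∀ x, ψ2 x ∈ D.g.range := fun x => D.r1 _
  obtain ⟨T0, hT0⟩ := D.exists_inv r0 (D.r0 (B1 (sw hF))) (not_commute_zero hF D.s0 (mm_torus hF) (mm_ne hF) hsw)
  obtain ⟨T2, hT2⟩ := D.exists_inv r2 (D.r1 (B0 (sw hF))) (not_commute_one hF D.s1 (mm_torus hF) (mm_ne hF) hsw)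
  have c02 : ∀ a b, Commute (ψ0 a) (ψ2 b) := D.comm
  have c20 : ∀ a b, Commute (ψ2 a) (ψ0 b) := fun a b => (D.comm b a).symm
  -- the opposite involution
  obtain ⟨P, a, b, hab⟩ := D.exists_signs hT0.sq hT2.sq (D.U_commute c02 hT0.mem hT2.mem)
  have hba : ∀ i, b i = !(a i) := by
    refine combi2 a b (D.count_two hT0 fun i => (hab i).1) (D.count_two hT2 fun i => (hab i).2) fun i hi => ?_
    have h := D.fix_neg_group hT0 c02 (v := act P (Pi.single i 1))
      (by rw [(hab i).1, hi, show sgn true = (-1 : F) from rfl, neg_one_smul]) hT2.mem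
    rw [(hab i).2] at h
    by_contra hb
    rw [Bool.not_eq_false] at hb
    rw [hb, show sgn true = (-1 : F) from rfl, neg_one_smul] at h
    have h0 := congrArg (act P⁻¹) (eq_neg_self hF h.symm)
    rw [act_inv_act, act_zero] at h0
    simpa using congrFun h0 i
  have hopp : ∀ v, act T2 v = -act T0 v := fun v => by
    conv_lhs => rw [span_frame P v, act_sum]
    conv_rhs => rw [span_frame P v, act_sum, ← Finset.sum_neg_distrib]
    refine Finset.sum_congr rfl fun i _ => ?_
    rw [act_smul, act_smul, (hab i).1, (hab i).2, hba, ← smul_neg, ← neg_smul]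
    congr 2
    cases a i <;> simp [sgn]
  have fix0 : ∀ v, act T0 v = v → ∀ y ∈ D.U ψ0, act y v = v := fun v hv y hy =>
    D.fix_neg_group hT2 c20 (by rw [hopp, hv]) hy
  have fix2 : ∀ v, act T0 v = -v → ∀ y ∈ D.U ψ2, act y v = v := fun v hv y hy =>
    D.fix_neg_group hT0 c02 hv hy
  -- the middle involution
  obtain ⟨C, hC⟩ := D.r0 (cyc hF)
  set T1 := C * T0 * C⁻¹ with hT1
  have hT1g : D.g T1 = ψ1 (mm hF) := by
    rw [hT1, map_mul, map_mul, map_inv, hC, hT0.img]
    show _ * D.f0 (B0 (mm hF)) * _ = D.f0 (B1 (mm hF))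
    rw [← cyc_conj hF (mm_torus hF)]
    simp only [map_mul, map_inv]
  have hT1sq : T1 * T1 = 1 := by
    calc T1 * T1 = C * (T0 * T0) * C⁻¹ := by rw [hT1]; group
      _ = 1 := by rw [hT0.sq]; group
  have hback : ∀ x, ∃ x', (D.g C)⁻¹ * ψ1 x * D.g C = ψ0 x' := fun x => by
    obtain ⟨x', hx'⟩ := cyc_range hF x
    refine ⟨x', ?_⟩
    show _ * D.f0 (B1 x) * _ = D.f0 (B0 x')
    rw [hC, ← hx']
    simp only [map_mul, map_inv]
  have hfwd : ∀ x, ∃ x', D.g C * ψ0 x * (D.g C)⁻¹ = ψ1 x' := by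
    have key : Function.Bijective fun x => (hback x).choose := by
      refine Finite.injective_iff_bijective.1 fun u w e => D.s0.inj1 ?_
      have hu := (hback u).choose_spec
      have hw := (hback w).choose_spec
      have e' : (hback u).choose = (hback w).choose := e
      rw [e'] at hu
      exact mul_left_cancel (mul_right_cancel (hu.trans hw.symm))
    intro x
    obtain ⟨x', hx'⟩ := key.2 x
    refine ⟨x', ?_⟩
    rw [← hx', ← (hback x').choose_spec]
    group
  have fix1 : ∀ v, act T1 v = v → ∀ y ∈ D.U ψ1, act y v = v := by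
    intro v hv y hy
    have h := D.U_conj (ψ := ψ1) (ψ' := ψ0) (c := C⁻¹) (fun x => by
      obtain ⟨x', hx'⟩ := hback x
      exact ⟨x', by rw [map_inv, inv_inv]; exact hx'⟩) hy
    have hv' : act T0 (act C⁻¹ v) = act C⁻¹ v := by
      have := congrArg (act C⁻¹) hv
      rwa [hT1, act_mul, act_mul, act_inv_act] at this
    have h2 := fix0 _ hv' _ h
    rw [inv_inv, act_mul, act_mul, act_act_inv] at h2
    have := congrArg (act C) h2
    rwa [act_act_inv, act_act_inv] at this
  have hT1I : D.Inv ψ1 T1 := ⟨D.U_conj hfwd hT0.mem, hT1sq, hT1g, fun χ => by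
    obtain ⟨v, hv⟩ := hT0.nsc χ
    refine ⟨act C v, fun h => hv ?_⟩
    have := congrArg (act C⁻¹) h
    rwa [hT1, act_mul, act_mul, act_inv_act, act_inv_act, act_smul, act_inv_act] at this⟩
  have c01 : Commute T1 T0 := by
    set T' := T1 * T0 * T1⁻¹ with hT'
    have hm : T' ∈ D.U ψ0 := D.U_conj (c := T1) (fun x => by
      obtain ⟨x', h, -⟩ := torus_conj hF (mm_torus hF) x
      refine ⟨x', ?_⟩
      show D.g T1 * D.f0 (B0 x) * (D.g T1)⁻¹ = D.f0 (B0 x')
      rw [hT1g]
      show D.f0 (B1 (mm hF)) * D.f0 (B0 x) * (D.f0 (B1 (mm hF)))⁻¹ = _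
      rw [← map_inv, ← map_mul, ← map_mul, h]) hT0.mem
    have hk : D.g (T0⁻¹ * T') = 1 := by
      rw [map_mul, hT', map_mul, map_mul, map_inv, map_inv, hT1g, hT0.img]
      show (D.f0 (B0 (mm hF)))⁻¹ * (D.f0 (B1 (mm hF)) * D.f0 (B0 (mm hF)) * (D.f0 (B1 (mm hF)))⁻¹) = 1
      have hc : Commute (B1 (mm hF) : SU 3 F 3) (B0 (mm hF)) := by
        refine PhanAut47.mat_ext ?_
        simp only [PhanAut47.mat_mul, mat_B0, mat_B1, mat_mk2]
        refine Matrix.ext fun i j => ?_
        fin_cases i <;> fin_cases j <;> simp [Matrix.mul_apply, Fin.sum_univ_three]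
      rw [← map_mul D.f0 (B1 _), hc.eq, map_mul, mul_inv_cancel_right, inv_mul_cancel]
    obtain ⟨χ, hχ⟩ := act_scalar hF (by omega) (D.hg hk)
    obtain ⟨v, hv⟩ : ∃ v, act T0 v ≠ -v := by
      obtain ⟨v, hv⟩ := hT0.nsc (-1)
      exact ⟨v, by rwa [neg_one_smul] at hv⟩
    set p := v + act T0 v with hp
    have hpne : p ≠ 0 := fun h => hv (eq_neg_of_add_eq_zero_right h)
    have hpf : act T0 p = p := by rw [hp, act_add, sq_act hT0.sq, add_comm]
    have h1 : act (T0⁻¹ * T') p = p := by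
      rw [act_mul, fix0 p hpf T' hm]
      conv_lhs => rw [← hpf]
      rw [act_inv_act]
    obtain ⟨k, hk'⟩ := Function.ne_iff.1 hpne
    have hχ1 : χ = 1 := by
      have := congrFun ((hχ p).symm.trans h1) k
      rw [Pi.smul_apply, smul_eq_mul] at this
      exact mul_right_cancel₀ hk' (this.trans (one_mul _).symm)
    have : T0 = T' := inv_mul_eq_one.1 (su_ext fun w => by rw [hχ, hχ1, one_smul, act_one])
    rw [hT'] at this
    exact (mul_inv_eq_iff_eq_mul.1 this.symm)
  obtain ⟨Q, a', b', hab'⟩ := D.exists_signs hT0.sq hT1sq c01.symm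
  rcases combi3 a' b' (D.count_two hT0 fun i => (hab' i).1) (D.count_two hT1I fun i => (hab' i).2) with
    h | h | ⟨i0, i1, i2, i3, h0, h1, h2, h3⟩
  · exfalso
    have e : T1 = T0 := su_ext fun v => by
      conv_lhs => rw [span_frame Q v, act_sum]
      conv_rhs => rw [span_frame Q v, act_sum]
      exact Finset.sum_congr rfl fun i _ => by rw [act_smul, act_smul, (hab' i).1, (hab' i).2, h]
    refine not_commute_zero hF D.s1 (d := mm hF) (s := sw hF) (mm_torus hF) (mm_ne hF) hsw ?_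
    rw [← D.agree, show D.f0 (B1 (mm hF)) = ψ1 (mm hF) from rfl, ← hT1g, e, hT0.img]
    exact D.comm _ _
  · exfalso
    have e : T1 = T2 := su_ext fun v => by
      rw [hopp]
      conv_lhs => rw [span_frame Q v, act_sum]
      conv_rhs => rw [span_frame Q v, act_sum, ← Finset.sum_neg_distrib]
      refine Finset.sum_congr rfl fun i _ => ?_
      rw [act_smul, act_smul, (hab' i).1, (hab' i).2, h, ← smul_neg, ← neg_smul]
      congr 2
      cases a' i <;> simp [sgn]
    refine not_commute_one hF D.s0 (d := mm hF) (s := sw hF) (mm_torus hF) (mm_ne hF) hsw ?_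
    rw [show D.f0 (B1 (mm hF)) = ψ1 (mm hF) from rfl, ← hT1g, e, hT2.img]
    exact (D.comm _ _).symm
  let π : Equiv.Perm (Fin 4) := Equiv.ofBijective ![i0, i1, i2, i3] (Finite.injective_iff_bijective.1 (by
    intro u w huw
    fin_cases u <;> fin_cases w <;> simp at huw ⊢ <;> simp_all))
  obtain ⟨R, c, hc, hR⟩ := exists_perm_su hF π
  have hblock : ∀ {ψ : SU 2 F 3 →* G} (_ : ∀ x, ψ x ∈ D.g.range) (k : Fin 3),
      (∀ j : Fin 4, ¬ InR k.val 2 j → ∀ y ∈ D.U ψ, act y (act Q (Pi.single (π j) 1)) = act Q (Pi.single (π j) 1)) →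
      ∀ x, ∃ y, D.g (Q * R * E k y * (Q * R)⁻¹) = ψ x := by
    intro ψ hr k hk x
    obtain ⟨y, hy, hyg⟩ := D.exists_lift hr x
    obtain ⟨z, hz⟩ := exists_emb hF k.val (by omega : (k : ℕ) + 2 ≤ 4) ((Q * R)⁻¹ * y * (Q * R)) (fun j hj =>
      act_conj_fix (hc j) (by rw [act_mul, hR, act_smul]) (hk j hj y hy))
    refine ⟨z, ?_⟩
    rw [show E k z = _ from hz, ← hyg]
    congr 1
    group
  have hs : ∀ b : Bool, b = false → ∀ v : Fin 4 → F, sgn b • v = v := fun b h v => by
    rw [h, show sgn false = (1 : F) from rfl, one_smul]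
  have hs' : ∀ b : Bool, b = true → ∀ v : Fin 4 → F, sgn b • v = -v := fun b h v => by
    rw [h, show sgn true = (-1 : F) from rfl, neg_one_smul]
  have hπ : ∀ k, π k = ![i0, i1, i2, i3] k := fun k => rfl
  refine ⟨Q * R, fun x => ⟨hblock r0 0 (fun j hj => fix0 _ ?_) x, hblock r1 1 (fun j hj => fix1 _ ?_) x,
    hblock r2 2 (fun j hj => fix2 _ ?_) x⟩⟩
  · rw [(hab' _).1]
    refine hs _ ?_ _
    rw [hπ]
    fin_cases j <;> simp [InR] at hj ⊢ <;> tauto
  · rw [(hab' _).2]
    refine hs _ ?_ _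
    rw [hπ]
    fin_cases j <;> simp [InR] at hj ⊢ <;> tauto
  · rw [(hab' _).1]
    refine hs' _ ?_ _
    rw [hπ]
    fin_cases j <;> simp [InR] at hj ⊢ <;> tauto

/-- The homomorphism of `SU 4`. -/
theorem exists_hom : ∃ φ : SU 4 F 3 →* G, (∀ x, φ (emb 0 (by omega) x) = D.f0 x) ∧
    ∀ x, φ (emb 1 (by omega) x) = D.f1 x := by
  have hF := D.hF
  obtain ⟨P, hP⟩ := D.exists_blocks
  set g' := D.g.comp (MulAut.conj P).toMonoidHom with hg'
  have hk : g'.ker ≤ Subgroup.center (SU 4 F 3) := fun z hz => by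
    have h : P * z * P⁻¹ ∈ Subgroup.center (SU 4 F 3) := D.hg hz
    rw [Subgroup.mem_center_iff] at h ⊢
    intro x
    have := h (P * x * P⁻¹)
    have e := congrArg (fun t => P⁻¹ * t * P) this
    simpa [mul_assoc] using e
  obtain ⟨T, -, t0, t1, t2⟩ := exists_phi hF Nat.prime_three hk D.s0 D.s1 D.agree
    (fun x => (hP x).1) (fun x => (hP x).2.1) (fun x => (hP x).2.2)
  set φ := g'.comp T with hφ
  have gen := gen_first (q := 3) hF (k := 2) (le_refl 2) (Or.inr (le_refl 3))
  have k0 : φ.comp (emb 0 (by omega : 0 + 3 ≤ 4)) = D.f0 := by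
    refine MonoidHom.eq_of_eqOn_top fun x _ => ?_
    have hle : (⊤ : Subgroup (SU 3 F 3)) ≤ (φ.comp (emb 0 (by omega : 0 + 3 ≤ 4))).eqLocus D.f0 := by
      rw [← gen]
      refine sup_le ?_ ?_ <;> rintro _ ⟨y, rfl⟩
      · show φ (emb 0 _ (B0 y)) = D.f0 (B0 y)
        rw [emb_emb _ _ (by omega : 0 + 0 + 2 ≤ 4), ← t0 y]; rfl
      · show φ (emb 0 _ (B1 y)) = D.f0 (B1 y)
        rw [emb_emb _ _ (by omega : 0 + 1 + 2 ≤ 4), ← t1 y]; rfl
    exact hle (Subgroup.mem_top x)
  have k1 : φ.comp (emb 1 (by omega : 1 + 3 ≤ 4)) = D.f1 := by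
    refine MonoidHom.eq_of_eqOn_top fun x _ => ?_
    have hle : (⊤ : Subgroup (SU 3 F 3)) ≤ (φ.comp (emb 1 (by omega : 1 + 3 ≤ 4))).eqLocus D.f1 := by
      rw [← gen]
      refine sup_le ?_ ?_ <;> rintro _ ⟨y, rfl⟩
      · show φ (emb 1 _ (B0 y)) = D.f1 (B0 y)
        rw [emb_emb _ _ (by omega : 1 + 0 + 2 ≤ 4), ← D.agree, ← t1 y]; rfl
      · show φ (emb 1 _ (B1 y)) = D.f1 (B1 y)
        rw [emb_emb _ _ (by omega : 1 + 1 + 2 ≤ 4), ← t2 y]; rfl
    exact hle (Subgroup.mem_top x)
  exact ⟨φ, fun x => DFunLike.congr_fun k0 x, fun x => DFunLike.congr_fun k1 x⟩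

end Data

end Cfsg.Agent.PhanFourThree47
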