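import Cfsg.Agent.Lib.PhanTwoGroup47

/-!
Two overlapping homomorphisms of `SU 3` into `SU 4` over the field with four elements come from one
endomorphism of `SU 4`.
-/

set_option autoImplicit false
set_option linter.unusedSectionVars false

namespace Cfsg.Agent.PhanFourTwo47

open Cfsg Cfsg.Agent.OrthUnitaryHerm Cfsg.Agent.OrthUnitaryTransvection Cfsg.Agent.PhanBlocks47
open Cfsg.Agent.PhanAut47 Cfsg.Agent.PhanAlign47 Cfsg.Agent.PhanFrame47 Cfsg.Agent.PhanFourStd47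
open Cfsg.Agent.PhanFourBase47
open scoped Matrix

universe u

variable {F : Type u} [Field F] [Fintype F]

/-- The number of coordinates with a given exponent. -/
def cnt (e : Fin 4 → Fin 3) (k : Fin 3) : ℕ := (Finset.univ.filter fun i => e i = k).card

theorem combi1 : ∀ e : Fin 4 → Fin 3, (4 - cnt e 0) % 2 = 0 → (cnt e 1 + 2 * cnt e 2) % 3 = 0 →
    cnt e 0 ≠ 4 → (cnt e 0 = 2 ∧ cnt e 1 = 1 ∧ cnt e 2 = 1) ∨ (cnt e 0 = 0 ∧ cnt e 1 = 2 ∧ cnt e 2 = 2) := by
  decide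

theorem combi2 : ∀ e : Fin 4 → Fin 3, cnt e 0 = 0 → ∀ i, e i ≠ 0 := by decide

theorem combi3 : ∀ e : Fin 4 → Fin 3, cnt e 0 = 4 → ∀ i, e i = 0 := by decide

theorem combi4 : ∀ h : Fin 4 → Fin 3, cnt h 0 = 2 → cnt h 1 = 1 → cnt h 2 = 1 →
    h = ![1, 2, 0, 0] ∨ h = ![2, 1, 0, 0] ∨ h = ![0, 0, 1, 2] ∨ h = ![0, 0, 2, 1] ∨
      ((h 0 = 0 ∨ h 1 = 0) ∧ (h 2 = 0 ∨ h 3 = 0)) := by
  decide

theorem combi5 : ∀ e : Fin 4 → Fin 3, cnt e 0 = 2 → cnt e 1 = 1 → cnt e 2 = 1 →
    ∃ i j, e i = 1 ∧ e j = 2 ∧ ∀ k, k ≠ i → k ≠ j → e k = 0 := by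
  decide

theorem combi6 (e : Fin 4 → Fin 3) (he : cnt e 1 = 1) {i j : Fin 4} (hi : e i = 1) (h : e j = e i) : j = i := by
  obtain ⟨a, ha⟩ := Finset.card_eq_one.1 he
  have h1 : i ∈ Finset.univ.filter fun i => e i = 1 := by simp [hi]
  have h2 : j ∈ Finset.univ.filter fun i => e i = 1 := by simp [hi, h]
  rw [ha, Finset.mem_singleton] at h1 h2
  rw [h1, h2]

theorem combi7 (e : Fin 4 → Fin 3) (he : cnt e 2 = 1) {i j : Fin 4} (hi : e i = 2) (h : e j = e i) : j = i := by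
  obtain ⟨a, ha⟩ := Finset.card_eq_one.1 he
  have h1 : i ∈ Finset.univ.filter fun i => e i = 2 := by simp [hi]
  have h2 : j ∈ Finset.univ.filter fun i => e i = 2 := by simp [hi, h]
  rw [ha, Finset.mem_singleton] at h1 h2
  rw [h1, h2]

theorem same_of_no_mix (e f : Fin 4 → Fin 3) (he : ∀ i, e i ≠ 0) (hf : ∀ i, f i ≠ 0)
    (he1 : cnt e 1 = 2) (hf1 : cnt f 1 = 2) (h : ∀ i, e i = 1 → f i = 1) : e = f := by
  have hs : (Finset.univ.filter fun i => e i = 1) = Finset.univ.filter fun i => f i = 1 :=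
    Finset.eq_of_subset_of_card_le (fun i hi => by simp at hi ⊢; exact h i hi)
      (by rw [show (Finset.univ.filter fun i => e i = 1).card = 2 from he1,
        show (Finset.univ.filter fun i => f i = 1).card = 2 from hf1])
  have key : ∀ a : Fin 3, a ≠ 0 → a ≠ 1 → a = 2 := by decide
  funext i
  have hi : e i = 1 ↔ f i = 1 := by
    have := Finset.ext_iff.1 hs i
    simpa using this
  by_cases h1 : e i = 1
  · rw [h1, hi.1 h1]
  · rw [key _ (he i) h1, key _ (hf i) fun h => h1 (hi.2 h)]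

/-- The trace. -/
def tr {n : ℕ} (x : SU n F 2) : F := (mat x).trace

theorem tr_conj {n : ℕ} (g x : SU n F 2) : tr (g⁻¹ * x * g) = tr x := by
  rw [tr, tr, PhanAut47.mat_mul, Matrix.trace_mul_comm, ← PhanAut47.mat_mul]
  congr 2
  group

theorem tr_conj' {n : ℕ} (g x : SU n F 2) : tr (g * x * g⁻¹) = tr x := by
  simpa using tr_conj g⁻¹ x

theorem w_facts {w : F} (hw : IsPrimitiveRoot w 3) :
    w ≠ 0 ∧ w ≠ 1 ∧ w ^ 2 ≠ 1 ∧ w ≠ w ^ 2 ∧ w ^ 3 = 1 ∧ 1 + w + w ^ 2 = 0 := by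
  have h0 : w ≠ 0 := hw.ne_zero (by omega)
  have h1 : w ≠ 1 := hw.ne_one (by omega)
  have h3 := hw.pow_eq_one
  have h2 : w ^ 2 ≠ 1 := fun h => h1 (by linear_combination h3 - w * h)
  refine ⟨h0, h1, h2, fun h => h1 (mul_left_cancel₀ h0 (by linear_combination -h)), h3, ?_⟩
  exact (mul_eq_zero.1 (show (w - 1) * (1 + w + w ^ 2) = 0 by linear_combination h3)).resolve_left
    (sub_ne_zero.2 h1)

theorem pow_inj3 {w : F} (hw : IsPrimitiveRoot w 3) {a b : Fin 3} (h : w ^ (a : ℕ) = w ^ (b : ℕ)) : a = b :=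
  Fin.ext (hw.pow_inj a.2 b.2 h)

theorem exists_exp {w : F} (hw : IsPrimitiveRoot w 3) {a : F} (ha : a ^ 3 = 1) :
    ∃ e : Fin 3, a = w ^ (e : ℕ) := by
  obtain ⟨i, hi, rfl⟩ := hw.eq_pow_of_pow_eq_one ha
  exact ⟨⟨i, hi⟩, rfl⟩

/-- `x` is diagonal with the given exponents. -/
def IsDg (w : F) (x : SU 4 F 2) (e : Fin 4 → Fin 3) : Prop :=
  ∀ i, act x (Pi.single i 1) = w ^ (e i : ℕ) • Pi.single i 1

theorem IsDg.mat_eq {w : F} {x : SU 4 F 2} {e : Fin 4 → Fin 3} (h : IsDg w x e) :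
    mat x = Matrix.diagonal fun i => w ^ (e i : ℕ) := Matrix.ext fun i j => by
  rw [mat_apply, h, Matrix.diagonal_apply]
  by_cases hij : i = j
  · subst hij; simp
  · simp [hij]

theorem IsDg.tr_eq {w : F} {x : SU 4 F 2} {e : Fin 4 → Fin 3} (h : IsDg w x e) :
    tr x = (cnt e 0 : F) + (cnt e 1 : F) * w + (cnt e 2 : F) * w ^ 2 := by
  rw [tr, h.mat_eq, Matrix.trace_diagonal, ← Finset.sum_fiberwise' Finset.univ e fun k => w ^ (k : ℕ),
    Fin.sum_univ_three]
  simp only [Finset.sum_const, nsmul_eq_mul, cnt, Fin.val_zero, pow_zero, mul_one, Fin.val_one, pow_one,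
    Fin.val_two]

theorem IsDg.det_eq {w : F} (hw : IsPrimitiveRoot w 3) {x : SU 4 F 2} {e : Fin 4 → Fin 3} (h : IsDg w x e) :
    (cnt e 1 + 2 * cnt e 2) % 3 = 0 := by
  have hd : (mat x).det = 1 := x.1.2
  rw [h.mat_eq, Matrix.det_diagonal, Finset.prod_pow_eq_pow_sum] at hd
  have hs : (∑ i, (e i : ℕ)) = cnt e 1 + 2 * cnt e 2 := by
    rw [← Finset.sum_fiberwise' Finset.univ e fun k => (k : ℕ), Fin.sum_univ_three]
    simp [cnt, mul_comm]
  rw [hs] at hd
  exact Nat.mod_eq_zero_of_dvd (hw.dvd_of_pow_eq_one _ hd)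

theorem IsDg.inv {w : F} (hw : IsPrimitiveRoot w 3) {x : SU 4 F 2} {e : Fin 4 → Fin 3} (h : IsDg w x e)
    (i : Fin 4) : act x⁻¹ (Pi.single i 1) = (w ^ (e i : ℕ)) ^ 2 • Pi.single i 1 := by
  have hc : (w ^ (e i : ℕ)) ^ 2 * w ^ (e i : ℕ) = 1 := by
    rw [← pow_succ, ← pow_mul, mul_comm, pow_mul, hw.pow_eq_one, one_pow]
  have h1 := congrArg (act x⁻¹) (h i)
  rw [act_inv_act, act_smul] at h1
  conv_rhs => rw [h1, smul_smul, hc, one_smul]

/-- An element inverted by another one has balanced exponents. -/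
theorem pattern (hF : Fintype.card F = 2 ^ 2) {w : F} (hw : IsPrimitiveRoot w 3) {x s : SU 4 F 2}
    (hs : s * x * s⁻¹ = x⁻¹) (hx : x ≠ 1) {e : Fin 4 → Fin 3} (h : IsDg w x e) :
    (cnt e 0 = 2 ∧ cnt e 1 = 1 ∧ cnt e 2 = 1 ∧ tr x = 1) ∨
      (cnt e 0 = 0 ∧ cnt e 1 = 2 ∧ cnt e 2 = 2 ∧ tr x = 0) := by
  obtain ⟨w0, w1, w2, w12, w3, wsum⟩ := w_facts hw
  have h2 := two_zero hF
  have hsum : cnt e 0 + cnt e 1 + cnt e 2 = 4 := by
    have := Finset.card_eq_sum_card_fiberwise (s := (Finset.univ : Finset (Fin 4)))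
      (t := (Finset.univ : Finset (Fin 3))) (f := e) (fun i _ => Finset.mem_univ _)
    simpa [Fin.sum_univ_three, cnt] using this.symm
  have hinv : tr x⁻¹ = (cnt e 0 : F) + (cnt e 1 : F) * w ^ 2 + (cnt e 2 : F) * w := by
    have hm : mat x⁻¹ = Matrix.diagonal fun i => (w ^ (e i : ℕ)) ^ 2 := Matrix.ext fun i j => by
      rw [mat_apply, h.inv hw, Matrix.diagonal_apply]
      by_cases hij : i = j
      · subst hij; simp
      · simp [hij]
    rw [tr, hm, Matrix.trace_diagonal, ← Finset.sum_fiberwise' Finset.univ e fun k => (w ^ (k : ℕ)) ^ 2,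
      Fin.sum_univ_three]
    simp only [Finset.sum_const, nsmul_eq_mul, cnt, Fin.val_zero, pow_zero, one_pow, mul_one, Fin.val_one,
      pow_one, Fin.val_two]
    linear_combination (((Finset.univ.filter fun i => e i = 2).card : F) * w) * w3
  have he : tr x⁻¹ = tr x := by rw [← hs, tr_conj']
  rw [hinv, h.tr_eq] at he
  have hcast : ((4 - cnt e 0 : ℕ) : F) = 0 := by
    rw [show 4 - cnt e 0 = cnt e 1 + cnt e 2 by omega, Nat.cast_add]
    have : ((cnt e 1 : F) - (cnt e 2 : F)) * (w ^ 2 - w) = 0 := by linear_combination he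
    rcases mul_eq_zero.1 this with h' | h'
    · linear_combination h' + (cnt e 2 : F) * h2
    · exact absurd (sub_eq_zero.1 h').symm w12
  haveI : CharP F 2 := CharTwo.of_one_ne_zero_of_two_eq_zero one_ne_zero h2
  have hev : (4 - cnt e 0) % 2 = 0 := by
    have := (CharP.cast_eq_zero_iff F 2 _).1 hcast
    omega
  have hne : cnt e 0 ≠ 4 := fun h4 => hx (eq_one_of_coords fun i => by
    rw [h i, combi3 e h4 i]; simp)
  rcases combi1 e hev (h.det_eq hw) hne with ⟨a, b, c⟩ | ⟨a, b, c⟩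
  · refine Or.inl ⟨a, b, c, ?_⟩
    rw [h.tr_eq, a, b, c]
    push_cast
    linear_combination wsum
  · refine Or.inr ⟨a, b, c, ?_⟩
    rw [h.tr_eq, a, b, c]
    push_cast
    linear_combination (w + w ^ 2) * h2

/-- A coordinate of an eigenvector of a diagonal element. -/
theorem eig_coord {n : ℕ} {x : SU n F 2} {a : Fin n → F} (hx : ∀ i, act x (Pi.single i 1) = a i • Pi.single i 1)
    {v : Fin n → F} {c : F} (hv : act x v = c • v) {j : Fin n} (hj : v j ≠ 0) : a j = c := by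
  have h3 : act x v j = a j * v j := by
    conv_lhs => rw [vec_sum v, act_sum]
    simp [act_smul, hx, Pi.single_apply, mul_comm]
  rw [hv, Pi.smul_apply, smul_eq_mul] at h3
  exact (mul_right_cancel₀ hj h3).symm

theorem exists_dg (hF : Fintype.card F = 2 ^ 2) {w : F} (hw : IsPrimitiveRoot w 3) {x y : SU 4 F 2}
    (hx : x ^ 3 = 1) (hy : y ^ 3 = 1) (hxy : Commute x y) :
    ∃ (g : SU 4 F 2) (e f : Fin 4 → Fin 3), IsDg w (g⁻¹ * x * g) e ∧ IsDg w (g⁻¹ * y * g) f := by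
  obtain ⟨g, a, b, ha, hb, h⟩ := exists_diag (q := 2) hF (k := 3) hx hy hxy (fun _ => 1)
  choose e he using fun i => exists_exp hw (ha i)
  choose f hf using fun i => exists_exp hw (hb i)
  refine ⟨g, e, f, fun i => ?_, fun i => ?_⟩
  · rw [(h i).1, ← he]; rfl
  · rw [(h i).2, ← hf]; rfl

/-- The hypotheses. -/
structure Data (F : Type u) [Field F] [Fintype F] where
  F0 : SU 3 F 2 →* SU 4 F 2
  F1 : SU 3 F 2 →* SU 4 F 2
  s0 : Std F0
  s1 : Std F1
  agree : ∀ x, F0 (B1 x) = F1 (B0 x)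
  comm : ∀ x y, Commute (F0 (B0 x)) (F1 (B1 y))

/-- Conjugated data. -/
def Data.conj (D : Data F) (g : SU 4 F 2) : Data F where
  F0 := (MulAut.conj g⁻¹).toMonoidHom.comp D.F0
  F1 := (MulAut.conj g⁻¹).toMonoidHom.comp D.F1
  s0 := by
    have hk : ((MulAut.conj g⁻¹).toMonoidHom.comp D.F0).ker ≤ Subgroup.center (SU 3 F 2) := fun z hz =>
      D.s0.ker_le ((MulEquiv.map_eq_one_iff (MulAut.conj g⁻¹)).1 hz)
    exact ⟨hk, fun a b h => D.s0.inj0 (MulEquiv.injective (MulAut.conj g⁻¹) h),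
      fun a b h => D.s0.inj1 (MulEquiv.injective (MulAut.conj g⁻¹) h)⟩
  s1 := by
    have hk : ((MulAut.conj g⁻¹).toMonoidHom.comp D.F1).ker ≤ Subgroup.center (SU 3 F 2) := fun z hz =>
      D.s1.ker_le ((MulEquiv.map_eq_one_iff (MulAut.conj g⁻¹)).1 hz)
    exact ⟨hk, fun a b h => D.s1.inj0 (MulEquiv.injective (MulAut.conj g⁻¹) h),
      fun a b h => D.s1.inj1 (MulEquiv.injective (MulAut.conj g⁻¹) h)⟩
  agree x := congrArg (MulAut.conj g⁻¹) (D.agree x)
  comm x y := (D.comm x y).map (MulAut.conj g⁻¹).toMonoidHom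

theorem Data.conj_F0 (D : Data F) (g : SU 4 F 2) (x : SU 3 F 2) : (D.conj g).F0 x = g⁻¹ * D.F0 x * g := by
  show g⁻¹ * D.F0 x * g⁻¹⁻¹ = _
  rw [inv_inv]

theorem Data.conj_F1 (D : Data F) (g : SU 4 F 2) (x : SU 3 F 2) : (D.conj g).F1 x = g⁻¹ * D.F1 x * g := by
  show g⁻¹ * D.F1 x * g⁻¹⁻¹ = _
  rw [inv_inv]

theorem dd_ok {w : F} (hw : IsPrimitiveRoot w 3) : w * w ^ 2 + 0 * 0 ^ 2 = 1 := by
  linear_combination hw.pow_eq_one

/-- The torus generator. -/
abbrev dd (hF : Fintype.card F = 2 ^ 2) {w : F} (hw : IsPrimitiveRoot w 3) : SU 2 F 2 := mk2 hF w 0 (dd_ok hw)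

section

variable (hF : Fintype.card F = 2 ^ 2) {w : F} (hw : IsPrimitiveRoot w 3)
include hF hw

theorem dd_torus : dd hF hw ∈ torus F 2 := rfl

theorem dd_ne : mat (dd hF hw) 0 0 ≠ 1 := (w_facts hw).2.1

theorem dd_cube : dd hF hw ^ 3 = 1 := by
  obtain ⟨w0, w1, w2, w12, w3, wsum⟩ := w_facts hw
  refine PhanAut47.mat_ext ?_
  rw [pow_succ, pow_succ, pow_one, PhanAut47.mat_mul, PhanAut47.mat_mul, mat_mk2]
  refine Matrix.ext fun i j => ?_
  fin_cases i <;> fin_cases j <;> simp [Matrix.mul_apply, Fin.sum_univ_two, mat] <;>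
    first | linear_combination w3 | linear_combination (w ^ 3 + 1) * w3

theorem sw_inverts : sw hF * dd hF hw * (sw hF)⁻¹ = (dd hF hw)⁻¹ := by
  obtain ⟨w0, w1, w2, w12, w3, wsum⟩ := w_facts hw
  rw [mul_inv_eq_iff_eq_mul, eq_inv_mul_iff_mul_eq]
  refine PhanAut47.mat_ext ?_
  simp only [PhanAut47.mat_mul, mat_mk2]
  refine Matrix.ext fun i j => ?_
  fin_cases i <;> fin_cases j <;> simp [Matrix.mul_apply, Fin.sum_univ_two] <;>
    first | linear_combination w3 | linear_combination -w3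

theorem tori_commute : Commute (B0 (dd hF hw)) (B1 (dd hF hw)) := by
  refine PhanAut47.mat_ext ?_
  simp only [PhanAut47.mat_mul, mat_B0, mat_B1, mat_mk2]
  refine Matrix.ext fun i j => ?_
  fin_cases i <;> fin_cases j <;> simp [Matrix.mul_apply, Fin.sum_univ_three, mul_comm]

theorem quot_commute : Commute (B0 (sw hF)) (B0 (dd hF hw) * (B1 (dd hF hw))⁻¹) := by
  obtain ⟨w0, w1, w2, w12, w3, wsum⟩ := w_facts hw
  have e : (B1 (dd hF hw) : SU 3 F 2)⁻¹ = B1 (dd hF hw * dd hF hw) := by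
    rw [← map_inv]
    congr 1
    refine inv_eq_of_mul_eq_one_right ?_
    rw [← mul_assoc, ← pow_three', dd_cube]
  rw [e]
  refine PhanAut47.mat_ext ?_
  simp only [PhanAut47.mat_mul, mat_B0, mat_B1, mat_mk2]
  refine Matrix.ext fun i j => ?_
  fin_cases i <;> fin_cases j <;>
    simp [Matrix.mul_apply, Fin.sum_univ_three, Fin.sum_univ_two] <;>
    first | ring1 | linear_combination w * w3 | linear_combination -w * w3 | linear_combination w3 |
      linear_combination -w3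

/-- The three torus elements and their properties. -/
theorem facts (D : Data F) :
    (D.F0 (B0 (dd hF hw))) ^ 3 = 1 ∧ (D.F0 (B1 (dd hF hw))) ^ 3 = 1 ∧ (D.F1 (B1 (dd hF hw))) ^ 3 = 1 ∧
      tr (D.F0 (B1 (dd hF hw))) = tr (D.F0 (B0 (dd hF hw))) ∧
      tr (D.F1 (B1 (dd hF hw))) = tr (D.F0 (B1 (dd hF hw))) := by
  refine ⟨by rw [← map_pow, ← map_pow, dd_cube, map_one, map_one],
    by rw [← map_pow, ← map_pow, dd_cube, map_one, map_one],
    by rw [← map_pow, ← map_pow, dd_cube, map_one, map_one], ?_, ?_⟩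
  · rw [← cyc_conj hF (dd_torus hF hw), map_mul, map_mul, map_inv, tr_conj']
  · rw [D.agree, ← cyc_conj hF (dd_torus hF hw), map_mul, map_mul, map_inv, tr_conj']

theorem ne_one_0 (D : Data F) : D.F0 (B0 (dd hF hw)) ≠ 1 := fun h => by
  have h1 : dd hF hw = 1 := D.s0.inj0 (h.trans (map_one _).symm)
  exact dd_ne hF hw (by rw [h1]; rfl)

theorem ne_one_1 (D : Data F) : D.F0 (B1 (dd hF hw)) ≠ 1 := fun h => by
  have h1 : dd hF hw = 1 := D.s0.inj1 (h.trans (map_one _).symm)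
  exact dd_ne hF hw (by rw [h1]; rfl)

theorem ne_one_2 (D : Data F) : D.F1 (B1 (dd hF hw)) ≠ 1 := fun h => by
  have h1 : dd hF hw = 1 := D.s1.inj1 (h.trans (map_one _).symm)
  exact dd_ne hF hw (by rw [h1]; rfl)

theorem inverts {n : ℕ} (f : SU 2 F 2 →* SU n F 2) :
    f (sw hF) * f (dd hF hw) * (f (sw hF))⁻¹ = (f (dd hF hw))⁻¹ := by
  rw [← map_inv, ← map_mul, ← map_mul, sw_inverts, map_inv]

/-- The first torus element has trace one. -/
theorem trace_one (D : Data F) : tr (D.F0 (B0 (dd hF hw))) = 1 := by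
  obtain ⟨p0, p1, -, t1, -⟩ := facts hF hw D
  obtain ⟨w0, w1, w2, w12, w3, wsum⟩ := w_facts hw
  obtain ⟨g, e, f, he, hf⟩ := exists_dg hF hw p0 p1 ((tori_commute hF hw).map D.F0)
  set E := D.conj g with hE
  rw [← D.conj_F0] at he hf
  rw [← tr_conj g, ← D.conj_F0]
  rcases pattern hF hw (inverts hF hw (E.F0.comp B0)) (ne_one_0 hF hw E) he with
    ⟨-, -, -, h⟩ | ⟨a0, a1, -, a3⟩
  · exact h
  exfalso
  rcases pattern hF hw (inverts hF hw (E.F0.comp B1)) (ne_one_1 hF hw E) hf with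
    ⟨-, -, -, h⟩ | ⟨b0, b1, -, -⟩
  · have : tr (E.F0 (B1 (dd hF hw))) = tr (E.F0 (B0 (dd hF hw))) := (facts hF hw E).2.2.2.1
    rw [MonoidHom.comp_apply] at h a3
    rw [h, a3] at this
    exact one_ne_zero this
  by_cases hmix : ∀ i, e i = 1 → f i = 1
  · have hef := same_of_no_mix e f (combi2 e a0) (combi2 f b0) a1 b1 hmix
    have hsame : E.F0 (B0 (dd hF hw)) = E.F0 (B1 (dd hF hw)) := PhanAut47.mat_ext (by
      rw [he.mat_eq, hf.mat_eq, hef])
    refine not_commute_zero hF E.s1 (d := dd hF hw) (s := sw hF) (dd_torus hF hw) (dd_ne hF hw) rfl ?_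
    rw [← E.agree, ← hsame]
    exact E.comm _ _
  push Not at hmix
  obtain ⟨i, hei, hfi⟩ := hmix
  have hfi2 : f i = 2 := by
    have key : ∀ a : Fin 3, a ≠ 0 → a ≠ 1 → a = 2 := by decide
    exact key _ (combi2 f b0 i) hfi
  set x0 := E.F0 (B0 (dd hF hw)) with hx0
  set x1 := E.F0 (B1 (dd hF hw)) with hx1
  set s := E.F0 (B0 (sw hF)) with hs
  set v := act s (Pi.single i 1) with hv
  have hz : Commute s (x0 * x1⁻¹) := by
    have := (quot_commute hF hw).map E.F0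
    rwa [map_mul, map_inv] at this
  have hinv : s * x0 * s⁻¹ = x0⁻¹ := inverts hF hw (E.F0.comp B0)
  have he2 : (e i : ℕ) = 1 := by rw [hei]; rfl
  have hf2 : (f i : ℕ) = 2 := by rw [hfi2]; rfl
  have v0 : act x0 v = (w ^ 2) • v := by
    have e1 : x0 * s = s * x0⁻¹ := by
      rw [← hinv]
      have := congrArg (fun t => t⁻¹) hinv
      simp only [mul_inv_rev, inv_inv] at this
      calc x0 * s = (s * (x0⁻¹ * s⁻¹)) * s := by rw [this]
        _ = s * x0⁻¹ := by group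
        _ = s * (s * x0 * s⁻¹) := by rw [hinv]
    rw [hv, ← act_mul, e1, act_mul, he.inv hw, act_smul, he2, pow_one]
  have v1 : act x1 v = v := by
    have e2 : x1⁻¹ * s = x0⁻¹ * (s * (x0 * x1⁻¹)) := by
      rw [hz.eq]; group
    have h1 : act x1⁻¹ v = v := by
      rw [hv, ← act_mul, e2, act_mul, act_mul, act_mul, hf.inv hw, act_smul, he i, hf2, he2, pow_one, smul_smul,
        act_smul, act_smul]
      rw [← hv]
      have h3 : act x0⁻¹ v = w • v := by
        have h4 := congrArg (act x0⁻¹) v0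
        rw [act_inv_act, act_smul] at h4
        conv_rhs => rw [h4, smul_smul, show w * w ^ 2 = 1 by linear_combination w3, one_smul]
      rw [h3, smul_smul, show (w ^ 2) ^ 2 * w * w = 1 by linear_combination (w ^ 3 + 1) * w3, one_smul]
    have := congrArg (act x1) h1
    rwa [act_act_inv, eq_comm] at this
  obtain ⟨j, hj⟩ : ∃ j, v j ≠ 0 := Function.ne_iff.1 (fun h : v = 0 => by
    have := congrArg (act s⁻¹) h
    rw [hv, act_inv_act, act_zero] at this
    simpa using congrFun this i)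
  have hfj : f j = 0 := pow_inj3 hw (by
    rw [eig_coord hf (c := 1) (by rw [one_smul]; exact v1) hj]; simp)
  exact combi2 f b0 j hfj

/-- Elements generated by involutions fix a line they preserve. -/
theorem fixes_line {L : SU 2 F 2 →* SU 4 F 2} {v : Fin 4 → F}
    (h : ∀ x, ∃ χ : F, act (L x) v = χ • v) (x : SU 2 F 2) : act (L x) v = v := by
  haveI : CharP F 2 := CharTwo.of_one_ne_zero_of_two_eq_zero one_ne_zero (two_zero hF)
  have hm : x ∈ Subgroup.closure {x : SU 2 F 2 | x ^ 2 = 1} := by rw [gen_char hF]; trivial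
  induction hm using Subgroup.closure_induction with
  | mem y hy =>
    obtain ⟨χ, hχ⟩ := h y
    exact fix_of_char (p := 2) Nat.prime_two (by rw [← map_pow, show y ^ 2 = 1 from hy, map_one]) hχ
  | one => rw [map_one, act_one]
  | mul a b _ _ ha hb => rw [map_mul, act_mul, hb, ha]
  | inv a _ ha => rw [map_inv]; conv_lhs => rw [← ha]; rw [act_inv_act]

theorem fix_unique {L : SU 2 F 2 →* SU 4 F 2} {x0 : SU 4 F 2} {e : Fin 4 → Fin 3} (he : IsDg w x0 e)
    (hc : ∀ x, Commute x0 (L x)) {i : Fin 4} (hi : ∀ j, e j = e i → j = i) (x : SU 2 F 2) :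
    act (L x) (Pi.single i 1) = Pi.single i 1 := by
  refine fixes_line hF hw (fun y => ⟨act (L y) (Pi.single i 1) i, funext fun j => ?_⟩) x
  by_cases hj : j = i
  · subst hj; simp
  · rw [act_apply_eq_zero he (hc y) fun h => hj (hi j (pow_inj3 hw h))]
    simp [hj]

/-- Both outer torus elements in standard position. -/
theorem exists_std (D : Data F) : ∃ g : SU 4 F 2,
    IsDg w ((D.conj g).F0 (B0 (dd hF hw))) ![1, 2, 0, 0] ∧
      IsDg w ((D.conj g).F1 (B1 (dd hF hw))) ![0, 0, 1, 2] := by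
  obtain ⟨p0, -, p2, t1, t2⟩ := facts hF hw D
  obtain ⟨g, e, f, he, hf⟩ := exists_dg hF hw p0 p2 (D.comm _ _)
  rw [← D.conj_F0] at he
  rw [← D.conj_F1] at hf
  set E := D.conj g with hE
  have te : tr (E.F0 (B0 (dd hF hw))) = 1 := trace_one hF hw E
  have tf : tr (E.F1 (B1 (dd hF hw))) = 1 := by
    rw [(facts hF hw E).2.2.2.2, (facts hF hw E).2.2.2.1, te]
  obtain ⟨e0, e1, e2, -⟩ := (pattern hF hw (inverts hF hw (E.F0.comp B0)) (ne_one_0 hF hw E) he).resolve_right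
    (fun h => one_ne_zero (te.symm.trans h.2.2.2))
  obtain ⟨f0, f1, f2, -⟩ := (pattern hF hw (inverts hF hw (E.F1.comp B1)) (ne_one_2 hF hw E) hf).resolve_right
    (fun h => one_ne_zero (tf.symm.trans h.2.2.2))
  obtain ⟨i0, i1, hi0, hi1, hie⟩ := combi5 e e0 e1 e2
  obtain ⟨i2, i3, hi2, hi3, hif⟩ := combi5 f f0 f1 f2
  have fz : ∀ i, e i ≠ 0 → f i = 0 := by
    intro i hi
    have key : ∀ a : Fin 3, a ≠ 0 → a = 1 ∨ a = 2 := by decide
    have huniq : ∀ j, e j = e i → j = i := fun j hj => by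
      rcases key _ hi with h | h
      · exact combi6 e e1 h hj
      · exact combi7 e e2 h hj
    have h := fix_unique hF hw (L := E.F1.comp B1) he (fun x => E.comm _ x) huniq (dd hF hw)
    rw [MonoidHom.comp_apply, hf i] at h
    refine pow_inj3 hw ?_
    have := congrFun h i
    simpa using this
  have d01 : i0 ≠ i1 := fun h => by rw [h, hi1] at hi0; exact absurd hi0 (by decide)
  have d23 : i2 ≠ i3 := fun h => by rw [h, hi3] at hi2; exact absurd hi2 (by decide)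
  have a0 : f i0 = 0 := fz i0 (by rw [hi0]; decide)
  have a1 : f i1 = 0 := fz i1 (by rw [hi1]; decide)
  have d02 : i0 ≠ i2 := fun h => by rw [h, hi2] at a0; exact absurd a0 (by decide)
  have d03 : i0 ≠ i3 := fun h => by rw [h, hi3] at a0; exact absurd a0 (by decide)
  have d12 : i1 ≠ i2 := fun h => by rw [h, hi2] at a1; exact absurd a1 (by decide)
  have d13 : i1 ≠ i3 := fun h => by rw [h, hi3] at a1; exact absurd a1 (by decide)
  let π : Equiv.Perm (Fin 4) := Equiv.ofBijective ![i0, i1, i2, i3] (Finite.injective_iff_bijective.1 (by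
    intro a b hab
    fin_cases a <;> fin_cases b <;> simp [d01, d01.symm, d23, d23.symm, d02, d02.symm, d03, d03.symm, d12,
      d12.symm, d13, d13.symm] at hab ⊢))
  obtain ⟨P, c, hc, hP⟩ := exists_perm_su hF π
  have hπ : ∀ k, π k = ![i0, i1, i2, i3] k := fun k => rfl
  have conjDg : ∀ {x : SU 4 F 2} {h : Fin 4 → Fin 3}, IsDg w x h → IsDg w (P⁻¹ * x * P) (fun k => h (π k)) := by
    intro x h hx k
    rw [act_mul, act_mul, hP, act_smul, hx, smul_comm, ← hP, act_smul, act_inv_act]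
  refine ⟨g * P, ?_, ?_⟩
  · have h := conjDg he
    rw [hE, D.conj_F0] at h
    rw [D.conj_F0]
    convert h using 1
    · group
    · funext k
      fin_cases k
      · simp [hπ, hi0]
      · simp [hπ, hi1]
      · simp [hπ, hie i2 d02.symm d12.symm]
      · simp [hπ, hie i3 d03.symm d13.symm]
  · have h := conjDg hf
    rw [hE, D.conj_F1] at h
    rw [D.conj_F1]
    convert h using 1
    · group
    · funext k
      fin_cases k
      · simp [hπ, a0]
      · simp [hπ, a1]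
      · simp [hπ, hi2]
      · simp [hπ, hi3]

/-- The blocks, for data in standard position. -/
theorem exists_blocks (D : Data F) (h0 : IsDg w (D.F0 (B0 (dd hF hw))) ![1, 2, 0, 0])
    (h2 : IsDg w (D.F1 (B1 (dd hF hw))) ![0, 0, 1, 2]) :
    ∃ P : SU 4 F 2, ∀ x,
      (∃ y, E 0 y = (D.conj P).F0 (B0 x)) ∧ (∃ y, E 1 y = (D.conj P).F0 (B1 x)) ∧
        ∃ y, E 2 y = (D.conj P).F1 (B1 x) := by
  obtain ⟨w0, w1, w2, w12, w3, wsum⟩ := w_facts hw
  set x0 := D.F0 (B0 (dd hF hw)) with hx0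
  set x1 := D.F0 (B1 (dd hF hw)) with hx1
  set x2 := D.F1 (B1 (dd hF hw)) with hx2
  have fix2 : ∀ j : Fin 4, (j : ℕ) < 2 → ∀ x, act (D.F1 (B1 x)) (Pi.single j 1) = Pi.single j 1 :=
    fun j hj x => fix_unique hF hw (L := D.F1.comp B1) h0 (fun x => D.comm _ x) (i := j) (by
      intro k
      fin_cases j <;> simp at hj <;> fin_cases k <;> simp) x
  have fix0 : ∀ j : Fin 4, 2 ≤ (j : ℕ) → ∀ x, act (D.F0 (B0 x)) (Pi.single j 1) = Pi.single j 1 :=
    fun j hj x => fix_unique hF hw (L := D.F0.comp B0) h2 (fun x => (D.comm x _).symm) (i := j) (by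
      intro k
      fin_cases j <;> simp at hj <;> fin_cases k <;> simp) x
  have c01 : Commute x0 x1 := (tori_commute hF hw).map D.F0
  have c12 : Commute x2 x1 := by
    have := (tori_commute hF hw).map D.F1
    rw [← D.agree] at this
    exact this.symm
  have hcol : ∀ i, act x1 (Pi.single i 1) = act x1 (Pi.single i 1) i • Pi.single i 1 := fun i => funext fun j => by
    by_cases hij : j = i
    · subst hij; simp
    · by_cases he : (![1, 2, 0, 0] : Fin 4 → Fin 3) j = ![1, 2, 0, 0] i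
      · rw [act_apply_eq_zero h2 c12 fun h => ?_]
        · simp [hij]
        · have := pow_inj3 hw h
          fin_cases i <;> fin_cases j <;> simp at hij he this
      · rw [act_apply_eq_zero h0 c01 fun h => he (pow_inj3 hw h)]
        simp [hij]
  choose h hh using fun i => exists_exp hw (a := act x1 (Pi.single i 1) i) (by
    have hp := pow_eigen (hcol i) 3
    rw [(facts hF hw D).2.1, act_one] at hp
    have := congrFun hp i
    rw [Pi.smul_apply, Pi.single_eq_same, smul_eq_mul, mul_one] at this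
    exact this.symm)
  have h1 : IsDg w x1 h := fun i => by rw [hcol i, hh i]
  have te : tr x1 = 1 := by rw [hx1, (facts hF hw D).2.2.2.1, trace_one]
  obtain ⟨n0, n1, n2, -⟩ := (pattern hF hw (inverts hF hw (D.F0.comp B1)) (ne_one_1 hF hw D) h1).resolve_right
    (fun h => one_ne_zero (te.symm.trans h.2.2.2))
  have hsw : mat (sw hF) 0 0 = 0 := rfl
  have no0 : x1 ≠ x0 ∧ x1 ≠ x0⁻¹ := by
    constructor <;> intro hx <;>
      refine not_commute_zero hF D.s1 (d := dd hF hw) (s := sw hF) (dd_torus hF hw) (dd_ne hF hw) hsw ?_ <;>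
      rw [← D.agree, ← hx1, hx]
    · exact D.comm _ _
    · exact (D.comm _ _).inv_left
  have no2 : x1 ≠ x2 ∧ x1 ≠ x2⁻¹ := by
    constructor <;> intro hx <;>
      refine not_commute_one hF D.s0 (d := dd hF hw) (s := sw hF) (dd_torus hF hw) (dd_ne hF hw) hsw ?_ <;>
      rw [← hx1, hx]
    · exact (D.comm _ _).symm
    · exact (D.comm _ _).symm.inv_left
  have hsame : ∀ {y : SU 4 F 2} {k : Fin 4 → Fin 3}, IsDg w y k → h = k → x1 = y := fun hy hk =>
    PhanAut47.mat_ext (by rw [h1.mat_eq, hy.mat_eq, hk])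
  have hopp : ∀ {y : SU 4 F 2} {k : Fin 4 → Fin 3}, IsDg w y k → (∀ i, h i = -k i) → x1 = y⁻¹ := fun hy hk => by
    refine eq_inv_of_mul_eq_one_left (eq_one_of_coords fun i => ?_)
    rw [act_mul, hy, act_smul, h1, smul_smul, hk, ← pow_add]
    have : ∀ a : Fin 3, ((a : ℕ) + ((-a : Fin 3) : ℕ)) % 3 = 0 := by decide
    rw [← Nat.div_add_mod ((_ : ℕ) + _) 3, this, add_zero, pow_mul, w3, one_pow, one_smul]
  obtain ⟨hmixA, hmixB⟩ : (h 0 = 0 ∨ h 1 = 0) ∧ (h 2 = 0 ∨ h 3 = 0) := by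
    rcases combi4 h n0 n1 n2 with e | e | e | e | e
    · exact absurd (hsame h0 e) no0.1
    · exact absurd (hopp h0 fun i => by rw [e]; fin_cases i <;> rfl) no0.2
    · exact absurd (hsame h2 e) no2.1
    · exact absurd (hopp h2 fun i => by rw [e]; fin_cases i <;> rfl) no2.2
    · exact e
  have fix1 : ∀ j, h j = 0 → ∀ x, act (D.F0 (B1 x)) (Pi.single j 1) = Pi.single j 1 := by
    intro j hj x
    set C := D.F0 (cyc hF) with hC
    set v := act C⁻¹ (Pi.single j 1) with hv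
    obtain ⟨x', hx'⟩ := cyc_range hF x
    have hx1' : x1 = C * x0 * C⁻¹ := by
      rw [hx1, ← cyc_conj hF (dd_torus hF hw), map_mul, map_mul, map_inv]
    have hvv : act x0 v = (1 : F) • v := by
      have := h1 j
      rw [hj, hx1', act_mul, act_mul, ← hv] at this
      simp at this
      rw [one_smul]
      exact (act_inv_act C (act x0 v)).symm.trans (congrArg (act C⁻¹) this)
    have hv01 : ∀ k : Fin 4, (k : ℕ) < 2 → v k = 0 := fun k hk => by
      by_contra hne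
      have := eig_coord h0 hvv hne
      fin_cases k <;> simp at hk this
      · exact w1 this
      · exact w2 (sq_eq_one_iff.2 this)
    have hfix : act (D.F0 (B0 x')) v = v := by
      conv_lhs => rw [vec_sum v, act_sum]
      conv_rhs => rw [vec_sum v]
      refine Finset.sum_congr rfl fun k _ => ?_
      rw [act_smul]
      rcases Nat.lt_or_ge (k : ℕ) 2 with hk | hk
      · rw [hv01 k hk, zero_smul, zero_smul]
      · rw [fix0 k hk]
    have e : D.F0 (B1 x) = C * D.F0 (B0 x') * C⁻¹ := by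
      rw [← hx', map_mul, map_mul, map_inv, ← hC]; group
    rw [e, act_mul, act_mul, ← hv, hfix, hv, act_act_inv]
  obtain ⟨a, ha, ha'⟩ : ∃ a : Fin 4, (a = 0 ∨ a = 1) ∧ h a = 0 := by
    rcases hmixA with e | e
    · exact ⟨0, Or.inl rfl, e⟩
    · exact ⟨1, Or.inr rfl, e⟩
  obtain ⟨b, hb, hb'⟩ : ∃ b : Fin 4, (b = 2 ∨ b = 3) ∧ h b = 0 := by
    rcases hmixB with e | e
    · exact ⟨2, Or.inl rfl, e⟩
    · exact ⟨3, Or.inr rfl, e⟩
  let π : Equiv.Perm (Fin 4) := Equiv.swap 0 a * Equiv.swap 3 b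
  have hπ : π 0 = a ∧ π 3 = b ∧ 2 ≤ (π 2 : ℕ) ∧ 2 ≤ (π 3 : ℕ) ∧ (π 0 : ℕ) < 2 ∧ (π 1 : ℕ) < 2 := by
    show (Equiv.swap 0 a * Equiv.swap 3 b) 0 = a ∧ (Equiv.swap 0 a * Equiv.swap 3 b) 3 = b ∧ _
    rcases ha with rfl | rfl <;> rcases hb with rfl | rfl <;> decide
  obtain ⟨P, c, hc, hP⟩ := exists_perm_su hF π
  have hfixP : ∀ {y : SU 4 F 2} {k : Fin 4}, act y (Pi.single (π k) 1) = Pi.single (π k) 1 →
      act (P⁻¹ * y * P) (Pi.single k 1) = Pi.single k 1 := fun hy => act_conj_fix (hc _) (hP _) hy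
  refine ⟨P, fun x => ⟨?_, ?_, ?_⟩⟩
  · refine exists_emb hF 0 (by omega) _ fun k hk => ?_
    rw [D.conj_F0]
    refine hfixP (fix0 _ ?_ x)
    fin_cases k <;> simp [InR] at hk ⊢
    · exact hπ.2.2.1
    · exact hπ.2.2.2.1
  · refine exists_emb hF 1 (by omega) _ fun k hk => ?_
    rw [D.conj_F0]
    refine hfixP (fix1 _ ?_ x)
    fin_cases k <;> simp [InR] at hk ⊢
    · rw [hπ.1]; exact ha'
    · rw [hπ.2.1]; exact hb'
  · refine exists_emb hF 2 (by omega) _ fun k hk => ?_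
    rw [D.conj_F1]
    refine hfixP (fix2 _ ?_ x)
    fin_cases k <;> simp [InR] at hk ⊢
    · exact Nat.le_of_lt_succ hπ.2.2.2.2.1
    · exact Nat.le_of_lt_succ hπ.2.2.2.2.2

end

/-- The endomorphism of `SU 4`. -/
theorem exists_hom (hF : Fintype.card F = 2 ^ 2) (D : Data F) :
    ∃ φ : SU 4 F 2 →* SU 4 F 2, (∀ x, φ (emb 0 (by omega) x) = D.F0 x) ∧
      ∀ x, φ (emb 1 (by omega) x) = D.F1 x := by
  obtain ⟨w, hw⟩ := exists_root (q := 2) hF
  obtain ⟨g, h0, h2⟩ := exists_std hF hw D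
  obtain ⟨P, hP⟩ := exists_blocks hF hw (D.conj g) h0 h2
  set K := (D.conj g).conj P with hK
  obtain ⟨T, hT, t0, t1, t2⟩ := exists_phi hF Nat.prime_two (g := MonoidHom.id (SU 4 F 2))
    (by rw [MonoidHom.ker_id]; exact bot_le) K.s0 K.s1 K.agree (fun x => (hP x).1) (fun x => (hP x).2.1)
    (fun x => (hP x).2.2)
  let Te := MulEquiv.ofBijective T hT
  have k0 : Te.symm.toMonoidHom.comp K.F0 = emb 0 (by omega) := by
    refine eq_emb hF 0 _ _ (fun x => ?_) fun x => ?_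
    · show Te.symm (K.F0 (B0 x)) = _
      rw [← t0 x, emb_emb _ _ (by omega : 0 + 0 + 2 ≤ 4)]
      exact Te.symm_apply_apply _
    · show Te.symm (K.F0 (B1 x)) = _
      rw [← t1 x, emb_emb _ _ (by omega : 0 + 1 + 2 ≤ 4)]
      exact Te.symm_apply_apply _
  have k1 : Te.symm.toMonoidHom.comp K.F1 = emb 1 (by omega) := by
    refine eq_emb hF 1 _ _ (fun x => ?_) fun x => ?_
    · show Te.symm (K.F1 (B0 x)) = _
      rw [← K.agree, ← t1 x, emb_emb _ _ (by omega : 1 + 0 + 2 ≤ 4)]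
      exact Te.symm_apply_apply _
    · show Te.symm (K.F1 (B1 x)) = _
      rw [← t2 x, emb_emb _ _ (by omega : 1 + 1 + 2 ≤ 4)]
      exact Te.symm_apply_apply _
  refine ⟨(MulAut.conj (g * P)).toMonoidHom.comp T, fun x => ?_, fun x => ?_⟩
  · show g * P * T (emb 0 _ x) * (g * P)⁻¹ = D.F0 x
    rw [← k0, show T ((Te.symm.toMonoidHom.comp K.F0) x) = K.F0 x from Te.apply_symm_apply _, hK, Data.conj_F0,
      Data.conj_F0]
    group
  · show g * P * T (emb 1 _ x) * (g * P)⁻¹ = D.F1 x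
    rw [← k1, show T ((Te.symm.toMonoidHom.comp K.F1) x) = K.F1 x from Te.apply_symm_apply _, hK, Data.conj_F1,
      Data.conj_F1]
    group

end Cfsg.Agent.PhanFourTwo47
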