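import Cfsg.Agent.Lib.PhanAlign47

/-!
Common orthonormal eigenframes of two commuting elements of order dividing `q + 1` in `SU n`, and elements
commuting with diagonal ones.
-/

set_option autoImplicit false
set_option linter.unusedSectionVars false

namespace Cfsg.Agent.PhanFrame47

open Cfsg Cfsg.Agent.OrthUnitaryHerm Cfsg.Agent.OrthUnitaryTransvection Cfsg.Agent.PhanBlocks47
open Cfsg.Agent.PhanAut47
open scoped Matrix

universe u

variable {F : Type u} [Field F] [Fintype F] {q n : ℕ}

theorem qF_zero (hF : Fintype.card F = q ^ 2) : (q : F) = 0 := by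
  have e : ((Fintype.card F : ℕ) : F) = 0 := FiniteField.cast_card_eq_zero F
  rw [hF, Nat.cast_pow] at e
  exact (pow_eq_zero_iff two_ne_zero).1 e

theorem exists_root (hF : Fintype.card F = q ^ 2) : ∃ ζ : F, IsPrimitiveRoot ζ (q + 1) := by
  classical
  obtain ⟨γ, hγ⟩ := IsCyclic.exists_generator (α := Fˣ)
  have hc := card_units_eq (q := q) hF
  have ho : orderOf γ = (q + 1) * (q - 1) := by rw [orderOf_eq_card_of_forall_mem_zpowers hγ, hc]
  have hq2 : 2 ≤ q := by
    by_contra h
    interval_cases q
    · exact q_ne_zero hF rfl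
    · exact Fintype.one_lt_card (α := F) |>.ne' (by simpa using hF)
  have hz : orderOf (γ ^ (q - 1)) = q + 1 := by
    rw [orderOf_pow' _ (by omega), ho, Nat.gcd_eq_right (Dvd.intro_left _ rfl),
      Nat.mul_div_cancel _ (by omega)]
  exact ⟨((γ ^ (q - 1) : Fˣ) : F), IsPrimitiveRoot.coe_units_iff.2 (hz ▸ IsPrimitiveRoot.orderOf _)⟩

/-- The action as a linear map. -/
def actL (x : SU n F q) : (Fin n → F) →ₗ[F] (Fin n → F) where
  toFun := act x
  map_add' := act_add x
  map_smul' := act_smul x

theorem act_sum {ι : Type*} (x : SU n F q) (s : Finset ι) (f : ι → Fin n → F) :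
    act x (∑ i ∈ s, f i) = ∑ i ∈ s, act x (f i) := map_sum (actL x) f s

theorem herm_sum_left {ι : Type*} (s : Finset ι) (f : ι → Fin n → F) (v : Fin n → F) :
    hermForm n F q (∑ i ∈ s, f i) v = ∑ i ∈ s, hermForm n F q (f i) v :=
  map_sum (hermL q v) f s

/-- The eigen component. -/
def proj (x : SU n F q) (a : F) (v : Fin n → F) : Fin n → F :=
  ∑ r ∈ Finset.range (q + 1), (a⁻¹) ^ r • act (x ^ r) v

theorem act_proj {x : SU n F q} (hx : x ^ (q + 1) = 1) {a : F} (ha : a ^ (q + 1) = 1) (v : Fin n → F) :
    act x (proj x a v) = a • proj x a v := by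
  have ha0 : a ≠ 0 := fun h => by simp [h] at ha
  have hshift : act x (proj x a v) = a • ∑ r ∈ Finset.range (q + 1), (a⁻¹) ^ (r + 1) • act (x ^ (r + 1)) v := by
    rw [proj, act_sum, Finset.smul_sum]
    refine Finset.sum_congr rfl fun r _ => ?_
    rw [act_smul, ← act_mul, ← pow_succ', smul_smul, pow_succ' a⁻¹, ← mul_assoc, mul_inv_cancel₀ ha0, one_mul]
  rw [hshift]
  congr 1
  rw [proj]
  have h := Finset.sum_range_succ' (fun r => (a⁻¹) ^ r • act (x ^ r) v) (q + 1)
  rw [Finset.sum_range_succ, hx, inv_pow, ha, inv_one, one_smul, act_one, pow_zero, pow_zero, one_smul, act_one]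
    at h
  exact (add_right_cancel h).symm

theorem sum_proj (hF : Fintype.card F = q ^ 2) (x : SU n F q) {ζ : F}
    (hζ : IsPrimitiveRoot ζ (q + 1)) (v : Fin n → F) :
    ∑ j ∈ Finset.range (q + 1), proj x (ζ ^ j) v = v := by
  simp only [proj]
  rw [Finset.sum_comm, Finset.sum_eq_single 0]
  · simp [act_one]
    funext i
    simp [qF_zero hF]
  · intro r hr hr0
    rw [← Finset.sum_smul]
    have hr' : r < q + 1 := Finset.mem_range.1 hr
    have hne : ζ⁻¹ ^ r ≠ 1 := fun h => by
      rw [inv_pow, inv_eq_one] at h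
      exact hζ.pow_ne_one_of_pos_of_lt hr0 hr' h
    have hs : ∑ j ∈ Finset.range (q + 1), ((ζ ^ j)⁻¹) ^ r = 0 := by
      have e : ∀ j, ((ζ ^ j)⁻¹) ^ r = (ζ⁻¹ ^ r) ^ j := fun j => by
        rw [← inv_pow, ← pow_mul, ← pow_mul, mul_comm]
      simp only [e]
      rw [geom_sum_eq hne, ← pow_mul, mul_comm, pow_mul, inv_pow, hζ.pow_eq_one, inv_one, one_pow, sub_self,
        zero_div]
    rw [hs, zero_smul]
  · intro h
    exact absurd (Finset.mem_range.2 (Nat.succ_pos q)) h

theorem herm_eigen (hF : Fintype.card F = q ^ 2) {x : SU n F q} {u v : Fin n → F} {a b : F}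
    (hu : act x u = a • u) (hv : act x v = b • v) (hb : b ^ (q + 1) = 1) (hab : a ≠ b) :
    hermForm n F q u v = 0 := by
  have h := herm_act x u v
  rw [hu, hv, herm_smul_left, herm_smul_right, ← mul_assoc] at h
  by_contra h0
  have h1 : a * b ^ q = 1 := mul_right_cancel₀ h0 (h.trans (one_mul _).symm)
  apply hab
  calc a = a * (b ^ q * b) := by rw [← pow_succ, hb, mul_one]
    _ = b := by rw [← mul_assoc, h1, one_mul]

theorem herm_proj_perp (hF : Fintype.card F = q ^ 2) {x : SU n F q} {e : Fin n → F} {a : F}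
    (he : act x e = a • e) (ha : a ≠ 0) {v : Fin n → F} (hv : hermForm n F q v e = 0) (c : F) :
    hermForm n F q (proj x c v) e = 0 := by
  have h : ∀ r : ℕ, hermForm n F q (act (x ^ r) v) e = 0 := fun r => by
    induction r with
    | zero => rw [pow_zero, act_one, hv]
    | succ r ih =>
      have h1 := herm_act x (act (x ^ r) v) e
      rw [he, herm_smul_right, ih, ← act_mul, ← pow_succ'] at h1
      exact (mul_eq_zero.1 h1).resolve_left (pow_ne_zero _ ha)
  rw [proj, herm_sum_left]
  exact Finset.sum_eq_zero fun r _ => by rw [herm_smul_left, h, mul_zero]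

theorem act_comm_proj {x y : SU n F q} (hxy : Commute x y) (a : F) (v : Fin n → F) :
    act y (proj x a v) = proj x a (act y v) := by
  rw [proj, proj, act_sum]
  refine Finset.sum_congr rfl fun r _ => ?_
  rw [act_smul, ← act_mul, ← act_mul, (hxy.pow_left r).eq]

theorem proj_smul (x : SU n F q) (a c : F) (v : Fin n → F) : proj x a (c • v) = c • proj x a v := by
  rw [proj, proj, Finset.smul_sum]
  exact Finset.sum_congr rfl fun r _ => by rw [act_smul, smul_comm]

/-- An orthonormal family of common eigenvectors. -/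
structure Eig (x y : SU n F q) (k : ℕ) where
  e : Fin k → Fin n → F
  a : Fin k → F
  b : Fin k → F
  orth : ∀ i j, hermForm n F q (e i) (e j) = if i = j then 1 else 0
  hx : ∀ i, act x (e i) = a i • e i
  hy : ∀ i, act y (e i) = b i • e i
  ha : ∀ i, a i ^ (q + 1) = 1
  hb : ∀ i, b i ^ (q + 1) = 1

theorem exists_eig (hF : Fintype.card F = q ^ 2) {x y : SU n F q} (hx : x ^ (q + 1) = 1)
    (hy : y ^ (q + 1) = 1) (hxy : Commute x y) : ∀ k : ℕ, k ≤ n → Nonempty (Eig x y k) := by
  intro k
  induction k with
  | zero =>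
    intro _
    exact ⟨⟨Fin.elim0, Fin.elim0, Fin.elim0, fun i => i.elim0, fun i => i.elim0, fun i => i.elim0,
      fun i => i.elim0, fun i => i.elim0⟩⟩
  | succ k ih =>
    intro hk
    obtain ⟨E⟩ := ih (by omega)
    let π : (Fin n → F) →ₗ[F] (Fin n → F) := LinearMap.id - ∑ i, (hermL q (E.e i)).smulRight (E.e i)
    have hπ : ∀ v, π v = v - ∑ i, hermForm n F q v (E.e i) • E.e i := fun v => by
      simp [π, hermL_apply]
    have hperp : ∀ v j, hermForm n F q (π v) (E.e j) = 0 := fun v j => by
      rw [hπ, herm_sub_left, herm_sum_left]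
      simp [herm_smul_left, E.orth]
    obtain ⟨w, hw, hww⟩ := exists_norm_of_proj hF π
      (fun u v => by
        have e : ∀ u v, hermForm n F q (π u) v = hermForm n F q u v -
            ∑ i, hermForm n F q u (E.e i) * hermForm n F q (E.e i) v := fun u v => by
          rw [hπ, herm_sub_left, herm_sum_left]
          simp [herm_smul_left]
        have e2 : hermForm n F q u (π v) = hermForm n F q (π v) u ^ q := herm_conj hF _ _
        rw [e2, e, e, sub_pow_q hF, sum_pow_q hF, ← herm_conj hF]
        congr 1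
        refine Finset.sum_congr rfl fun i _ => ?_
        rw [mul_pow, ← herm_conj hF, ← herm_conj hF, mul_comm])
      (fun v => by rw [hπ (π v)]; simp [hperp])
      (fun h => by
        have htop : ⊤ ≤ Submodule.span F (Set.range E.e) := by
          intro v _
          have h2 := LinearMap.congr_fun h v
          rw [hπ, LinearMap.zero_apply, sub_eq_zero] at h2
          rw [h2]
          exact Submodule.sum_mem _ fun i _ =>
            Submodule.smul_mem _ _ (Submodule.subset_span (Set.mem_range_self i))
        have h3 := Submodule.finrank_mono htop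
        rw [finrank_top, Module.finrank_fin_fun] at h3
        have h4 := finrank_range_le_card (R := F) E.e
        rw [Fintype.card_fin] at h4
        unfold Set.finrank at h4
        omega) (r := 1) (one_pow q)
    have hwe : ∀ j, hermForm n F q w (E.e j) = 0 := fun j => hw ▸ hperp w j
    obtain ⟨ζ, hζ⟩ := exists_root hF
    have hζp : ∀ j, (ζ ^ j) ^ (q + 1) = 1 := fun j => by
      rw [← pow_mul, mul_comm, pow_mul, hζ.pow_eq_one, one_pow]
    set u : ℕ × ℕ → Fin n → F := fun p => proj x (ζ ^ p.1) (proj y (ζ ^ p.2) w) with hu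
    set s := Finset.range (q + 1) ×ˢ Finset.range (q + 1) with hs
    have hsum : ∑ p ∈ s, u p = w := by
      rw [hs, Finset.sum_product_right]
      simp only [hu, sum_proj hF x hζ]
      exact sum_proj hF y hζ w
    have hux : ∀ p, act x (u p) = ζ ^ p.1 • u p := fun p => act_proj hx (hζp _) _
    have huy : ∀ p, act y (u p) = ζ ^ p.2 • u p := fun p => by
      rw [hu, act_comm_proj hxy, act_proj hy (hζp _), proj_smul]
    obtain ⟨p, hp⟩ : ∃ p, hermForm n F q (u p) (u p) ≠ 0 := by
      by_contra hall
      push Not at hall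
      apply (one_ne_zero : (1 : F) ≠ 0)
      rw [← hww]
      nth_rewrite 1 [← hsum]
      rw [herm_sum_left]
      refine Finset.sum_eq_zero fun p hp => ?_
      rw [herm_conj hF]
      nth_rewrite 1 [← hsum]
      rw [herm_sum_left, sum_pow_q hF]
      refine Finset.sum_eq_zero fun p' hp' => ?_
      rw [← herm_conj hF]
      by_cases h : p = p'
      · rw [h]; exact hall p'
      · have hlt : ∀ {m}, m ∈ Finset.range (q + 1) → m < q + 1 := fun h => Finset.mem_range.1 h
        rw [hs, Finset.mem_product] at hp hp'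
        by_cases h1 : p.1 = p'.1
        · refine herm_eigen hF (huy p) (huy p') (hζp _) fun e => h ?_
          exact Prod.ext h1 (hζ.pow_inj (hlt hp.2) (hlt hp'.2) e)
        · exact herm_eigen hF (hux p) (hux p') (hζp _) fun e => h1 (hζ.pow_inj (hlt hp.1) (hlt hp'.1) e)
    obtain ⟨c, hc⟩ := exists_norm_eq hF (a := (hermForm n F q (u p) (u p))⁻¹)
      (by rw [inv_pow, herm_self_pow hF])
    rw [pow_succ'] at hc
    have hperp' : ∀ j, hermForm n F q (c • u p) (E.e j) = 0 := fun j => by
      have ha0 : E.a j ≠ 0 := fun h => by simpa [h] using E.ha j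
      have hb0 : E.b j ≠ 0 := fun h => by simpa [h] using E.hb j
      rw [herm_smul_left, hu, herm_proj_perp hF (E.hx j) ha0 (herm_proj_perp hF (E.hy j) hb0 (hwe j) _) _,
        mul_zero]
    refine ⟨⟨Fin.snoc E.e (c • u p), Fin.snoc E.a (ζ ^ p.1), Fin.snoc E.b (ζ ^ p.2), ?_, ?_, ?_, ?_, ?_⟩⟩
    · intro i j
      induction i using Fin.lastCases with
      | last =>
        induction j using Fin.lastCases with
        | last =>
          simp only [Fin.snoc_last, if_true]
          rw [herm_smul_left, herm_smul_right, ← mul_assoc, hc, inv_mul_cancel₀ hp]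
        | cast j => simp [hperp', (Fin.castSucc_lt_last j).ne']
      | cast i =>
        induction j using Fin.lastCases with
        | last =>
          simp only [Fin.snoc_last, Fin.snoc_castSucc]
          rw [if_neg (Fin.castSucc_lt_last i).ne, herm_conj hF, hperp', zero_pow (q_ne_zero hF)]
        | cast j => simp [E.orth]
    · intro i
      induction i using Fin.lastCases with
      | last => simp only [Fin.snoc_last, act_smul, hux, smul_comm c]
      | cast i => simp [E.hx]
    · intro i
      induction i using Fin.lastCases with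
      | last => simp only [Fin.snoc_last, act_smul, huy, smul_comm c]
      | cast i => simp [E.hy]
    · intro i
      induction i using Fin.lastCases with
      | last => simp [hζp]
      | cast i => simp [E.ha]
    · intro i
      induction i using Fin.lastCases with
      | last => simp [hζp]
      | cast i => simp [E.hb]

/-- An orthonormal basis is, up to scalars, the image of the coordinate basis under an element of `SU`. -/
theorem exists_su_of_orth (hF : Fintype.card F = q ^ 2) {k : ℕ} (e : Fin (k + 1) → Fin (k + 1) → F)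
    (he : ∀ i j, hermForm (k + 1) F q (e i) (e j) = if i = j then 1 else 0) :
    ∃ (g : SU (k + 1) F q) (c : Fin (k + 1) → F), (∀ i, c i ≠ 0) ∧
      ∀ i, act g (Pi.single i 1) = c i • e i := by
  classical
  set M : Matrix (Fin (k + 1)) (Fin (k + 1)) F := Matrix.of fun r i => e i r with hM
  have hMv : ∀ v, M *ᵥ v = ∑ i, v i • e i := fun v => by
    funext r
    simp [hM, Matrix.mulVec, dotProduct, mul_comm]
  have hU : IsU q M := fun u v => by
    rw [hMv, hMv, herm_sum_left]
    refine Finset.sum_congr rfl fun i _ => ?_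
    rw [herm_smul_left, herm_conj hF, herm_sum_left, sum_pow_q hF,
      Finset.sum_eq_single i (fun j _ hj => by rw [herm_smul_left, he, if_neg hj, mul_zero, zero_pow (q_ne_zero hF)])
        (fun h => absurd (Finset.mem_univ i) h), herm_smul_left, he, if_pos rfl, mul_one]
  have hd : M.det ^ (q + 1) = 1 := hU.det_pow hF
  have hd0 : M.det ≠ 0 := fun h => by rw [h, zero_pow (Nat.succ_ne_zero q)] at hd; exact one_ne_zero hd.symm
  set d : Fin (k + 1) → F := Function.update 1 0 M.det⁻¹ with hdd
  have hdn : ∀ i, d i ^ (q + 1) = 1 := fun i => by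
    by_cases hi : i = 0
    · subst hi; simp [hdd, inv_pow, hd]
    · simp [hdd, hi]
  refine ⟨mkSU (M * monMat 1 d) ?_ (hU.mul (isU_monMat 1 hdn)), d, fun i h => ?_, fun i => ?_⟩
  · rw [Matrix.det_mul, det_monMat, hdd, Finset.prod_update_of_mem (Finset.mem_univ _)]
    simp [hd0]
  · have := hdn i
    rw [h, zero_pow (Nat.succ_ne_zero q)] at this
    exact zero_ne_one this
  · rw [act_mkSU, ← Matrix.mulVec_mulVec, hMv, Finset.sum_eq_single i (fun j _ hj => by
      rw [monMat_mulVec]; simp [hj]) (fun h => absurd (Finset.mem_univ i) h), monMat_mulVec]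
    simp

/-- Two commuting elements are simultaneously diagonal in some basis from `SU`. -/
theorem exists_diag (hF : Fintype.card F = q ^ 2) {k : ℕ} {x y : SU (k + 1) F q}
    (hx : x ^ (q + 1) = 1) (hy : y ^ (q + 1) = 1) (hxy : Commute x y) (σ : (Fin (k + 1) → F × F) → Equiv.Perm (Fin (k + 1))) :
    ∃ (g : SU (k + 1) F q) (a b : Fin (k + 1) → F),
      (∀ i, a i ^ (q + 1) = 1) ∧ (∀ i, b i ^ (q + 1) = 1) ∧
      ∀ i, act (g⁻¹ * x * g) (Pi.single i 1) = a (σ (fun j => (a j, b j)) i) • Pi.single i 1 ∧
        act (g⁻¹ * y * g) (Pi.single i 1) = b (σ (fun j => (a j, b j)) i) • Pi.single i 1 := by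
  obtain ⟨E⟩ := exists_eig hF hx hy hxy (k + 1) le_rfl
  set τ := σ (fun j => (E.a j, E.b j))
  obtain ⟨g, c, hc, hg⟩ := exists_su_of_orth hF (fun i => E.e (τ i))
    (fun i j => by rw [E.orth]; simp [τ.injective.eq_iff])
  refine ⟨g, E.a, E.b, E.ha, E.hb, fun i => ⟨?_, ?_⟩⟩
  · rw [act_mul, act_mul, hg, act_smul, E.hx, smul_comm, ← hg, act_smul, act_inv_act]
  · rw [act_mul, act_mul, hg, act_smul, E.hy, smul_comm, ← hg, act_smul, act_inv_act]

/-- An element commuting with a diagonal one preserves its eigenspaces. -/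
theorem act_apply_eq_zero {x h : SU n F q} {a : Fin n → F}
    (hx : ∀ i, act x (Pi.single i 1) = a i • Pi.single i 1) (hc : Commute x h) {i j : Fin n}
    (hij : a i ≠ a j) : act h (Pi.single j 1) i = 0 := by
  classical
  set v := act h (Pi.single j 1) with hv
  have h1 : act x v = a j • v := by rw [hv, ← act_mul, hc.eq, act_mul, hx, act_smul]
  have h2 : v = ∑ k, v k • Pi.single k (1 : F) := by
    funext r; simp [Pi.single_apply]
  have h3 : act x v i = a i * v i := by
    rw [h2, act_sum]
    simp [act_smul, hx, Pi.single_apply, mul_comm]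
  rw [h1, Pi.smul_apply, smul_eq_mul] at h3
  by_contra h0
  exact hij (mul_right_cancel₀ h0 h3).symm

theorem vec_sum (v : Fin n → F) : v = ∑ k, v k • Pi.single k (1 : F) := by
  funext r; simp [Pi.single_apply]

theorem eq_one_of_coords {x : SU n F q} (h : ∀ i, act x (Pi.single i 1) = Pi.single i 1) : x = 1 :=
  su_ext fun v => by
    rw [act_one]
    conv_lhs => rw [vec_sum v, act_sum]
    conv_rhs => rw [vec_sum v]
    exact Finset.sum_congr rfl fun i _ => by rw [act_smul, h]

/-- An element of finite order which scales a vector by a root of unity of coprime order fixes it. -/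
theorem pow_eigen {x : SU n F q} {v : Fin n → F} {χ : F} (h : act x v = χ • v) :
    ∀ r : ℕ, act (x ^ r) v = χ ^ r • v := fun r => by
  induction r with
  | zero => rw [pow_zero, act_one, pow_zero, one_smul]
  | succ r ih => rw [pow_succ', act_mul, ih, act_smul, h, smul_smul, pow_succ]

theorem fix_of_char {x : SU n F q} {v : Fin n → F} {χ : F} {p : ℕ} [CharP F p] (hp : p.Prime)
    (hx : x ^ p = 1) (h : act x v = χ • v) : act x v = v := by
  by_cases hv : v = 0
  · rw [hv, act_zero]
  have h1 := pow_eigen h p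
  rw [hx, act_one] at h1
  have h2 : χ ^ p = 1 := by
    obtain ⟨i, hi⟩ : ∃ i, v i ≠ 0 := Function.ne_iff.1 hv
    have := congrFun h1 i
    rw [Pi.smul_apply, smul_eq_mul] at this
    exact mul_right_cancel₀ hi (this.symm.trans (one_mul _).symm)
  haveI := Fact.mk hp
  have h3 : (χ - 1) ^ p = 0 := by rw [sub_pow_char, h2, one_pow, sub_self]
  rw [h, sub_eq_zero.1 ((pow_eq_zero_iff hp.ne_zero).1 h3), one_smul]

end Cfsg.Agent.PhanFrame47
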