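import Cfsg.Agent.Lib.PhanBlocks47

/-!
Generation of `SU n` by blocks, and small counting facts for the fixed field.
-/

set_option autoImplicit false
set_option linter.unusedSectionVars false

namespace Cfsg.Agent.PhanBlocks47

open Cfsg Cfsg.Agent.OrthUnitaryHerm Cfsg.Agent.OrthUnitaryTransvection
open scoped Matrix

variable {F : Type*} [Field F] [Fintype F] {q n : ℕ}

/-- A non-zero element of the fixed field avoiding few given values. -/
theorem exists_fixed_avoid (hF : Fintype.card F = q ^ 2) (S : Finset F) (hS : S.card + 2 ≤ q) :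
    ∃ x : F, x ^ q = x ∧ x ≠ 0 ∧ x ∉ S := by
  classical
  by_contra h
  push Not at h
  have hmem : ∀ y : {x : Fˣ // x ^ (q - 1) = 1}, ((y.1 : F)) ∈ S := fun y => by
    refine h _ ?_ y.1.ne_zero
    have h1 := congrArg Units.val y.2
    simp only [Units.val_pow_eq_pow_val, Units.val_one] at h1
    calc (y.1 : F) ^ q = (y.1 : F) ^ (q - 1 + 1) := congrArg _ (by omega)
      _ = y.1 := by rw [pow_succ, h1, one_mul]
  let f : {x : Fˣ // x ^ (q - 1) = 1} → {x : F // x ∈ S} := fun y => ⟨_, hmem y⟩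
  have hinj : Function.Injective f := fun a b e =>
    Subtype.ext (Units.ext (congrArg Subtype.val e))
  have h2 := Nat.card_le_card_of_injective f hinj
  rw [card_fixedUnits hF, Nat.card_eq_fintype_card, Fintype.card_coe] at h2
  omega

/-- A scalar whose norm times a given non-zero norm avoids few values. -/
theorem exists_scale (hF : Fintype.card F = q ^ 2) {x : F} (hx : x ≠ 0) (S : Finset F)
    (hS : S.card + 2 ≤ q) : ∃ c : F, c ≠ 0 ∧ (c * x) * (c * x) ^ q ∉ S := by
  obtain ⟨y, hy, hy0, hyS⟩ := exists_fixed_avoid hF S hS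
  obtain ⟨d, hd⟩ := exists_norm_eq hF hy
  rw [pow_succ'] at hd
  refine ⟨d / x, div_ne_zero (fun h => hy0 (by rw [← hd, h, zero_mul])) hx, ?_⟩
  rw [div_mul_cancel₀ _ hx, hd]
  exact hyS

theorem herm_smul_self (c : F) (x : Fin n → F) :
    hermForm n F q (c • x) (c • x) = c * c ^ q * hermForm n F q x x := by
  rw [herm_smul_left, herm_smul_right, mul_assoc]

theorem herm_single_self (hF : Fintype.card F = q ^ 2) (i : Fin n) :
    hermForm n F q (Pi.single i (1 : F)) (Pi.single i 1) = 1 := by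
  rw [herm_single_right hF, Pi.single_eq_same]

/-- A multiple of a coordinate vector with given fixed norm. -/
theorem exists_coord (hF : Fintype.card F = q ^ 2) (i : Fin n) {a : F} (ha : a ^ q = a) :
    ∃ r : F, hermForm n F q (r • Pi.single i (1 : F)) (r • Pi.single i 1) = a := by
  obtain ⟨r, hr⟩ := exists_norm_eq hF ha
  exact ⟨r, by rw [herm_smul_self, herm_single_self hF, mul_one, ← pow_succ', hr]⟩

/-- A vector of prescribed norm is moved onto a coordinate line. -/
theorem move_coord (hF : Fintype.card F = q ^ 2) (hn : 2 ≤ n) (i : Fin n) {v : Fin n → F}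
    (hv : hermForm n F q v v ≠ 0 ∨ v = 0) : ∃ g : SU n F q, ∀ j, j ≠ i → act g v j = 0 := by
  rcases hv with hv | rfl
  · obtain ⟨r, hr⟩ := exists_coord (n := n) hF i (herm_self_pow hF v)
    obtain ⟨g, hg⟩ := trans_norm hF hn hr.symm hv
    exact ⟨g, fun j hj => by rw [hg]; simp [Pi.single_eq_of_ne hj]⟩
  · exact ⟨1, fun j _ => by rw [act_one]; rfl⟩

theorem act_zero (g : SU n F q) : act g (0 : Fin n → F) = 0 := Matrix.mulVec_zero _

/-- An isotropic vector with second coordinate zero, dimension at least three. -/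
theorem exists_iso_gap (hF : Fintype.card F = q ^ 2) (hn : 3 ≤ n) (i : Fin n) :
    ∃ v : Fin n → F, v ≠ 0 ∧ hermForm n F q v v = 0 ∧ v i = 0 := by
  classical
  obtain ⟨z, hz⟩ := exists_norm_eq hF (a := (-1 : F)) (by rw [neg_pow_q hF, one_pow])
  obtain ⟨j, k, hji, hki, hjk⟩ : ∃ j k : Fin n, j ≠ i ∧ k ≠ i ∧ j ≠ k := by
    have h2 : 1 < ((Finset.univ : Finset (Fin n)).erase i).card := by
      rw [Finset.card_erase_of_mem (Finset.mem_univ i), Finset.card_univ, Fintype.card_fin]; omega
    obtain ⟨j, hj, k, hk, hjk⟩ := Finset.one_lt_card.1 h2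
    exact ⟨j, k, (Finset.mem_erase.1 hj).1, (Finset.mem_erase.1 hk).1, hjk⟩
  refine ⟨Pi.single j 1 + z • Pi.single k 1, fun h => ?_, ?_, ?_⟩
  · simpa [hjk] using congrFun h j
  · simp only [herm_add_left, herm_add_right hF, herm_smul_left, herm_smul_right,
      herm_single_right hF, Pi.add_apply, Pi.smul_apply, smul_eq_mul, Pi.single_eq_same,
      Pi.single_eq_of_ne hjk, Pi.single_eq_of_ne hjk.symm]
    linear_combination hz
  · simp [Pi.single_eq_of_ne hji.symm, Pi.single_eq_of_ne hki.symm]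

theorem norm_split_first {k : ℕ} (_hF : Fintype.card F = q ^ 2) (h : 1 + k ≤ k + 1)
    (v : Fin (k + 1) → F) :
    hermForm (k + 1) F q v v =
      v 0 * v 0 ^ q + hermForm k F q (slice 1 h v) (slice 1 h v) := by
  unfold hermForm
  rw [Fin.sum_univ_succ]
  congr 1
  refine Finset.sum_congr rfl fun i _ => ?_
  have e : idx 1 h i = i.succ := Fin.ext (by simp [idx, Nat.add_comm])
  simp only [slice, e]

/-- `SU n` is generated by the first pair block and the block on the last `n-1` coordinates. -/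
theorem gen_first (hF : Fintype.card F = q ^ 2) {k : ℕ} (hk : 2 ≤ k) (hq : 3 ≤ k ∨ 3 ≤ q) :
    (emb (m := 2) (n := k + 1) (F := F) (q := q) 0 (by omega)).range ⊔
      (emb (m := k) (n := k + 1) (F := F) (q := q) 1 (by omega)).range = ⊤ := by
  classical
  set K := (emb (m := 2) (n := k + 1) (F := F) (q := q) 0 (by omega)).range ⊔
      (emb (m := k) (n := k + 1) (F := F) (q := q) 1 (by omega)).range with hK
  have h01 : (1 : ℕ) + k ≤ k + 1 := by omega
  have h02 : (0 : ℕ) + 2 ≤ k + 1 := by omega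
  have mT : ∀ g : SU k F q, emb 1 h01 g ∈ K := fun g => Subgroup.mem_sup_right ⟨g, rfl⟩
  have mU : ∀ g : SU 2 F q, emb 0 h02 g ∈ K := fun g => Subgroup.mem_sup_left ⟨g, rfl⟩
  set e0 : Fin (k + 1) → F := Pi.single 0 1 with he0
  have hout : ∀ (g : SU k F q) (v : Fin (k + 1) → F), act (emb 1 h01 g) v 0 = v 0 := fun g v =>
    emb_out 1 h01 g v (fun h => by simp [InR] at h)
  have htail : ∀ v : Fin (k + 1) → F, hermForm (k + 1) F q v v = 1 →
      (hermForm k F q (slice 1 h01 v) (slice 1 h01 v) ≠ 0 ∨ slice 1 h01 v = 0) →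
      ∃ g ∈ K, act g v = e0 := by
    intro v hv ht
    obtain ⟨g, hg⟩ := move_coord hF hk ⟨0, by omega⟩ ht
    set w := act (emb 1 h01 g) v with hw
    have hw2 : ∀ i : Fin (k + 1), (2 : ℕ) ≤ (i : ℕ) → w i = 0 := fun i hi => by
      have e : i = idx 1 h01 ⟨(i : ℕ) - 1, by omega⟩ := Fin.ext (by simp [idx]; omega)
      rw [e, hw, emb_idx]
      exact hg _ (fun h => by have := congrArg Fin.val h; simp at this; omega)
    have hwn : hermForm 2 F q (slice 0 h02 w) (slice 0 h02 w) = 1 := by
      have := herm_split (q := q) 0 h02 w w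
      rw [show hermForm (k + 1) F q w w = 1 by rw [hw, herm_act]; exact hv] at this
      rw [this, Finset.sum_eq_zero (fun i _ => ?_), add_zero]
      rw [hw2 i.1 (by have := i.2; simp [InR] at this; omega), zero_mul]
    obtain ⟨u, hu⟩ := trans_norm hF (le_refl 2) (u := slice 0 h02 w) (v := ![1, 0])
      (by rw [hwn, herm_two]; simp [zero_pow_q hF]) (by rw [hwn]; exact one_ne_zero)
    refine ⟨emb 0 h02 u * emb 1 h01 g, mul_mem (mU u) (mT g), ?_⟩
    rw [act_mul, ← hw]
    refine vec_ext 0 h02 (fun i => ?_) fun i hi => ?_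
    · rw [emb_idx, hu, he0]
      fin_cases i <;> simp [idx]
    · rw [emb_out 0 h02 u w hi, hw2 i (by simp [InR] at hi; omega), he0, Pi.single_eq_of_ne]
      rintro rfl
      simp [InR] at hi
  have hreach : ∀ v : Fin (k + 1) → F, hermForm (k + 1) F q v v = 1 → ∃ g ∈ K, act g v = e0 := by
    intro v hv
    by_cases ht : hermForm k F q (slice 1 h01 v) (slice 1 h01 v) ≠ 0 ∨ slice 1 h01 v = 0
    · exact htail v hv ht
    push Not at ht
    obtain ⟨ht1, ht0⟩ := ht
    have hx0 : v 0 * v 0 ^ q = 1 := by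
      have := norm_split_first (k := k) (q := q) hF h01 v
      rw [hv, ht1, add_zero] at this
      exact this.symm
    have hv0 : v 0 ≠ 0 := fun h => by simp [h] at hx0
    -- first make the pair `(v 0, v 1)` anisotropic
    obtain ⟨g, hg⟩ : ∃ g : SU k F q, v 0 * v 0 ^ q +
        act g (slice 1 h01 v) ⟨0, by omega⟩ * act g (slice 1 h01 v) ⟨0, by omega⟩ ^ q ≠ 0 := by
      rcases Nat.lt_or_ge k 3 with hk3 | hk3
      · obtain rfl : k = 2 := by omega
        set y := slice 1 h01 v with hy'
        have hy0 : y 0 ≠ 0 := by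
          intro h
          apply ht0
          rw [herm_two, h, zero_mul, zero_add, ← pow_succ'] at ht1
          funext i
          fin_cases i
          · exact h
          · exact pow_eq_zero_iff (Nat.succ_ne_zero q) |>.1 ht1
        obtain ⟨c, hc, hcS⟩ := exists_scale hF hy0 {-1} (by simp; omega)
        obtain ⟨g, hg, -⟩ := iso_scale hF ht0 ht1 hc
        refine ⟨g, ?_⟩
        show v 0 * v 0 ^ q + act g y 0 * act g y 0 ^ q ≠ 0
        rw [hx0, hg]
        intro h
        exact hcS (Finset.mem_singleton.2 (eq_neg_of_add_eq_zero_right h))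
      · obtain ⟨u, hu0, hu, hui⟩ := exists_iso_gap (q := q) hF hk3 ⟨0, by omega⟩
        obtain ⟨g, hg⟩ := trans_iso hF hk3 ht0 ht1 hu0 hu
        exact ⟨g, by rw [hg, hui, zero_mul, add_zero, hx0]; exact one_ne_zero⟩
    set w := act (emb 1 h01 g) v with hw
    have hw1 : w ⟨1, by omega⟩ = act g (slice 1 h01 v) ⟨0, by omega⟩ := by
      rw [hw, show (⟨1, by omega⟩ : Fin (k + 1)) = idx 1 h01 ⟨0, by omega⟩ from Fin.ext (by simp [idx]), emb_idx]
    obtain ⟨u, hu⟩ := move_coord hF (le_refl 2) (1 : Fin 2) (v := slice 0 h02 w) (Or.inl (by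
      rw [herm_two]
      show w (idx 0 h02 0) * w (idx 0 h02 0) ^ q + w (idx 0 h02 1) * w (idx 0 h02 1) ^ q ≠ 0
      rw [show idx 0 h02 (0 : Fin 2) = 0 from Fin.ext (by simp [idx]),
        show idx 0 h02 (1 : Fin 2) = ⟨1, by omega⟩ from Fin.ext (by simp [idx]), hw1, hw, hout]
      exact hg))
    set w' := act (emb 0 h02 u) w with hw'
    have hw'0 : w' 0 = 0 := by
      rw [hw', show (0 : Fin (k + 1)) = idx 0 h02 0 from Fin.ext (by simp [idx]), emb_idx]
      exact hu 0 (by decide)
    have hn' : hermForm (k + 1) F q w' w' = 1 := by rw [hw', herm_act, hw, herm_act]; exact hv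
    obtain ⟨h, hh, hhe⟩ := htail w' hn' (Or.inl (by
      have := norm_split_first (k := k) (q := q) hF h01 w'
      rw [hn', hw'0, zero_mul, zero_add] at this
      rw [← this]; exact one_ne_zero))
    exact ⟨h * emb 0 h02 u * emb 1 h01 g, mul_mem (mul_mem hh (mU u)) (mT g), by
      rw [act_mul, act_mul, ← hw, ← hw', hhe]⟩
  rw [eq_top_iff]
  intro g _
  obtain ⟨h, hh, hhe⟩ := hreach (act g e0) (by rw [herm_act, he0, herm_single_self hF])
  obtain ⟨g', hg'⟩ := exists_emb hF 1 h01 (h * g) (fun i hi => by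
    have : i = 0 := Fin.ext (by simp [InR] at hi; have := i.2; simp only [Fin.val_zero]; omega)
    rw [this, act_mul, ← he0, hhe])
  have e : g = h⁻¹ * emb 1 h01 g' := by rw [hg']; group
  rw [e]
  exact mul_mem (inv_mem hh) (mT g')

end Cfsg.Agent.PhanBlocks47
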