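import Cfsg.Agent.Lib.PhanWeak47

/-!
Two copies of `SU 2` in `SU 3` containing commuting cyclic subgroups of order `q + 1` and generating form a
standard pair.
-/

set_option autoImplicit false
set_option linter.unusedSectionVars false

namespace Cfsg.Agent.PhanPair47

open Cfsg Cfsg.Agent.OrthUnitaryHerm Cfsg.Agent.OrthUnitaryTransvection Cfsg.Agent.PhanBlocks47
open Cfsg.Agent.PhanAut47 Cfsg.Agent.PhanAlign47 Cfsg.Agent.SL3Edge47

universe u v

variable {F : Type u} [Field F] [Fintype F] {q : ℕ}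

theorem ringChar_le (hF : Fintype.card F = q ^ 2) :
    (ringChar F).Prime ∧ ringChar F ≤ q := by
  haveI : CharP F (ringChar F) := ringChar.charP F
  have hp : (ringChar F).Prime := CharP.char_is_prime F _
  refine ⟨hp, Nat.le_of_dvd (Nat.pos_of_ne_zero (q_ne_zero hF)) (hp.dvd_of_dvd_pow (n := 2) ?_)⟩
  rw [← hF]
  exact (CharP.cast_eq_zero_iff F (ringChar F) _).1 (Nat.cast_card_eq_zero F)

theorem scalar_pow_one {c : F} {p : ℕ} [CharP F p] (hp : p.Prime) (h : c ^ p = 1) : c = 1 := by
  haveI := Fact.mk hp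
  have : (c - 1) ^ p = 0 := by rw [sub_pow_char, h, one_pow, sub_self]
  exact sub_eq_zero.1 ((pow_eq_zero_iff hp.ne_zero).1 this)

/-- An isotropic vector orthogonal to an isotropic vector in dimension three is a multiple of it. -/
theorem iso_line (hF : Fintype.card F = q ^ 2) {p r : Fin 3 → F} (hp0 : p ≠ 0)
    (hp : hermForm 3 F q p p = 0) (hr : hermForm 3 F q r r = 0) (hrp : hermForm 3 F q r p = 0) :
    ∃ c : F, r = c • p := by
  obtain ⟨z, hz⟩ := exists_norm_eq hF (a := (-1 : F)) (by rw [neg_pow_q hF, one_pow])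
  have hz' : z * z ^ q = -1 := by rw [← pow_succ', hz]
  obtain ⟨g, hg⟩ := trans_iso hF (le_refl 3) hp0 hp (v := ![1, z, 0]) (fun h => by
      simpa using congrFun h 0) (by
      simp [hermForm, Fin.sum_univ_three, zero_pow (q_ne_zero hF), hz'])
  set s := act g r with hs
  have h1 : hermForm 3 F q s ![1, z, 0] = 0 := by rw [hs, ← hg, herm_act, hrp]
  have h2 : hermForm 3 F q s s = 0 := by rw [hs, herm_act, hr]
  simp [hermForm, Fin.sum_univ_three, zero_pow (q_ne_zero hF)] at h1 h2
  have h3 : s 1 = s 0 * z := by linear_combination (-z) * h1 + (s 1) * hz'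
  have h4 : s 2 = 0 := by
    have : s 2 * s 2 ^ q = 0 := by
      rw [h3, mul_pow] at h2
      linear_combination h2 - (s 0 * s 0 ^ q) * hz'
    rcases mul_eq_zero.1 this with h | h
    · exact h
    · exact (pow_eq_zero_iff (q_ne_zero hF)).1 h
  refine ⟨s 0, ?_⟩
  have : s = s 0 • ![1, z, 0] := by
    funext i; fin_cases i <;> simp [h3, h4]
  rw [← hg, ← act_smul, hs] at this
  simpa [hs, act_inv_act] using congrArg (act g⁻¹) this

/-- An involution in even characteristic fixes exactly the orthogonal of its centre. -/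
theorem exists_centre (hF : Fintype.card F = q ^ 2) (h2 : (2 : F) = 0) {t : SU 3 F q} (ht : t * t = 1)
    (ht1 : t ≠ 1) :
    ∃ p : Fin 3 → F, p ≠ 0 ∧ hermForm 3 F q p p = 0 ∧
      (∀ x, ∃ c : F, act t x - x = c • p) ∧ (∀ x, act t x = x ↔ hermForm 3 F q x p = 0) := by
  have hinv : ∀ x, act t (act t x) = x := fun x => by rw [← act_mul, ht, act_one]
  have hsym : ∀ x y, hermForm 3 F q (act t x) y = hermForm 3 F q x (act t y) := fun x y => by
    conv_lhs => rw [← hinv y]
    rw [herm_act]
  have hneg : ∀ a : F, -a = a := fun a => by linear_combination (-a) * h2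
  have hNN : ∀ x, act t (act t x - x) = act t x - x := fun x => by
    rw [act_sub, hinv]
    funext i
    simp only [Pi.sub_apply]
    linear_combination (x i - act t x i) * h2
  have hiso : ∀ x y, hermForm 3 F q (act t x - x) (act t y - y) = 0 := fun x y => by
    have e : hermForm 3 F q (act t x - x) (act t y) = hermForm 3 F q (act t x - x) y := by
      rw [← hsym, hNN]
    rw [herm_sub_right hF, e, sub_self]
  obtain ⟨x₀, hx₀⟩ : ∃ x₀, act t x₀ ≠ x₀ := by
    by_contra h
    push Not at h
    exact ht1 (su_ext fun x => by rw [h, act_one])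
  refine ⟨act t x₀ - x₀, sub_ne_zero.2 hx₀, hiso _ _, fun x =>
    iso_line hF (sub_ne_zero.2 hx₀) (hiso _ _) (hiso _ _) (hiso _ _), fun x => ?_⟩
  have hN : ∀ a b, hermForm 3 F q (act t a - a) b = hermForm 3 F q a (act t b - b) := fun a b => by
    rw [herm_sub_left, herm_sub_right hF, hsym]
  constructor
  · intro h
    rw [← hN, h, sub_self, herm_zero_left]
  · intro h
    refine sub_eq_zero.1 (eq_zero_of_herm_eq_zero hF fun y => ?_)
    obtain ⟨c, hc⟩ := iso_line hF (sub_ne_zero.2 hx₀) (hiso x₀ x₀) (hiso y y) (hiso y x₀)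
    rw [hN, hc, herm_smul_right, h, mul_zero]

/-- Commuting involutions in even characteristic fix the same vectors. -/
theorem fix_iff_of_commute (hF : Fintype.card F = q ^ 2) (h2 : (2 : F) = 0) {t u : SU 3 F q}
    (ht : t * t = 1) (ht1 : t ≠ 1) (hu : u * u = 1) (hu1 : u ≠ 1) (hc : t * u = u * t) (x : Fin 3 → F) :
    act t x = x ↔ act u x = x := by
  obtain ⟨p, hp0, hp, htp, htf⟩ := exists_centre hF h2 ht ht1
  obtain ⟨r, hr0, hr, hur, huf⟩ := exists_centre hF h2 hu hu1
  obtain ⟨x₁, hx₁⟩ : ∃ x₁, act u x₁ ≠ x₁ := by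
    by_contra h
    push Not at h
    exact hu1 (su_ext fun x => by rw [h, act_one])
  obtain ⟨b, hb⟩ := hur x₁
  have hb0 : b ≠ 0 := fun h => hx₁ (sub_eq_zero.1 (by rw [hb, h, zero_smul]))
  obtain ⟨e, he⟩ := hur (act t x₁ - x₁)
  obtain ⟨d, hd⟩ := htp r
  have hx : act t (act u x₁ - x₁) - (act u x₁ - x₁) =
      act u (act t x₁ - x₁) - (act t x₁ - x₁) := by
    rw [act_sub, act_sub, ← act_mul, ← act_mul, hc]
    abel
  rw [hb, he, act_smul, ← smul_sub, hd, smul_smul] at hx
  have hrp : ∃ c : F, r = c • p := by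
    by_cases hd0 : d = 0
    · exact iso_line hF hp0 hp hr ((htf r).1 (sub_eq_zero.1 (by rw [hd, hd0, zero_smul])))
    · by_cases he0 : e = 0
      · rw [he0, zero_smul, smul_eq_zero] at hx
        exact absurd (hx.resolve_right hp0) (mul_ne_zero hb0 hd0)
      · exact ⟨e⁻¹ * (b * d), by rw [← smul_smul, hx, inv_smul_smul₀ he0]⟩
  obtain ⟨c, rfl⟩ := hrp
  have hc0 : c ≠ 0 := fun h => hr0 (by rw [h, zero_smul])
  rw [htf, huf, herm_smul_right, mul_eq_zero, or_iff_right (pow_ne_zero _ hc0)]

/-- The last coordinate vector of `F ^ 3`. -/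
abbrev e2 : Fin 3 → F := Pi.single 2 1

theorem act_B0_e2 (a : SU 2 F q) : act (B0 a) e2 = (e2 : Fin 3 → F) := by
  refine vec_ext 0 (by omega : 0 + 2 ≤ 3) (fun i => ?_) fun k hk => emb_out 0 _ a _ hk
  rw [emb_idx, show slice 0 (by omega : 0 + 2 ≤ 3) (e2 : Fin 3 → F) = 0 from funext fun j => by
    fin_cases j <;> simp [slice, idx], act_zero]
  fin_cases i <;> simp [idx]

theorem act_B0_fix_two (a : SU 2 F q) (x : Fin 3 → F) : act (B0 a) x 2 = x 2 :=
  emb_out 0 _ a x (by simp [InR])

/-- A vector of non-zero norm has a multiple that is the image of the last coordinate vector. -/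
theorem exists_to_last (hF : Fintype.card F = q ^ 2) {w : Fin 3 → F} (hw : hermForm 3 F q w w ≠ 0) :
    ∃ (g : SU 3 F q) (d : F), d ≠ 0 ∧ act g e2 = d • w := by
  obtain ⟨d, hd⟩ := exists_norm_eq hF (a := (hermForm 3 F q w w)⁻¹)
    (by rw [inv_pow, herm_self_pow hF])
  rw [pow_succ'] at hd
  obtain ⟨g, hg⟩ := trans_norm hF (by omega : 2 ≤ 3) (u := (e2 : Fin 3 → F)) (v := d • w)
    (by rw [herm_single_self hF, herm_smul_self, hd, inv_mul_cancel₀ hw])
    (by rw [herm_single_self hF]; exact one_ne_zero)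
  exact ⟨g, d, fun h => inv_ne_zero hw (by rw [← hd, h, zero_mul]), hg⟩

theorem act_e2_eq_e2_iff {g k : SU 3 F q} :
    act (g⁻¹ * k * g) e2 = (e2 : Fin 3 → F) ↔ act k (act g e2) = act g e2 := by
  rw [act_mul, act_mul]
  exact ⟨fun h => by simpa [act_act_inv] using congrArg (act g) h, fun h => by rw [h, act_inv_act]⟩

/-- Two unipotent families generate the image of `SU 2`. -/
theorem exists_fixed (hF : Fintype.card F = q ^ 2) (φ : SU 2 F q →* SU 3 F q) (hφ : Function.Injective φ) :
    ∃ g : SU 3 F q, ∀ x, act (φ x) (act g e2) = act g e2 := by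
  classical
  obtain ⟨-, θ, -⟩ := exists_iso_SL2 hF
  set K := fixedField hF
  set ρ := φ.comp θ.toMonoidHom
  have hρ : Function.Injective ρ := hφ.comp θ.injective
  suffices h : ∃ g : SU 3 F q, ∀ t : K, act (ρ (up t)) (act g e2) = act g e2 ∧
      act (ρ (lo t)) (act g e2) = act g e2 by
    obtain ⟨g, hg⟩ := h
    refine ⟨g, fun x => ?_⟩
    let H : Subgroup (SU 3 F q) :=
      { carrier := {y | act y (act g e2) = act g e2}
        mul_mem' := fun {a b} ha hb => by
          show act (a * b) _ = _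
          rw [act_mul, show act b _ = _ from hb, show act a _ = _ from ha]
        one_mem' := act_one _
        inv_mem' := fun {a} ha => by
          show act a⁻¹ _ = _
          conv_lhs => rw [← show act a _ = _ from ha]
          rw [act_inv_act] }
    have := gen_le (H := H.comap ρ) (fun t => (hg t).1) (fun t => (hg t).2) (θ.symm x)
    simpa [ρ, H] using this
  haveI : CharP F (ringChar F) := ringChar.charP F
  have hp := (ringChar_le hF).1
  have hup : ∀ t : K, ρ (up t) ^ ringChar F = 1 ∧ ρ (lo t) ^ ringChar F = 1 := by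
    intro t
    have hz : ((ringChar F : ℕ) : K) = 0 := Subtype.ext (by simpa using CharP.cast_eq_zero F (ringChar F))
    rw [← map_pow, ← map_pow, up_pow, lo_pow, hz, zero_mul, up_zero, lo_zero, map_one]
    exact ⟨rfl, rfl⟩
  by_cases h2 : (2 : F) = 0
  · have hk2 : (2 : K) = 0 := K.subtype.injective (by rw [map_ofNat, map_zero]; exact h2)
    have hsq : ∀ t : K, ρ (up t) * ρ (up t) = 1 ∧ ρ (lo t) * ρ (lo t) = 1 := fun t => by
      rw [← map_mul, ← map_mul, up_mul, lo_mul, ← two_mul, hk2, zero_mul, up_zero, lo_zero, map_one]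
      exact ⟨rfl, rfl⟩
    have hne : ∀ t : K, t ≠ 0 → ρ (up t) ≠ 1 ∧ ρ (lo t) ≠ 1 := fun t ht => by
      constructor <;> intro h <;> rw [← map_one ρ] at h
      · exact ht (up_inj ((hρ h).trans up_zero.symm))
      · exact ht (lo_inj ((hρ h).trans lo_zero.symm))
    obtain ⟨p, hp0, hp', hpc, hpf⟩ := exists_centre hF h2 (hsq 1).1 (hne 1 one_ne_zero).1
    obtain ⟨r, hr0, hr', hrc, hrf⟩ := exists_centre hF h2 (hsq 1).2 (hne 1 one_ne_zero).2
    obtain ⟨w, hw, hw0⟩ := Submodule.exists_mem_ne_zero_of_ne_bot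
      (LinearMap.ker_ne_bot_of_finrank_lt (f := (hermL (q := q) p).prod (hermL (q := q) r))
        (by rw [Module.finrank_prod, Module.finrank_fin_fun, Module.finrank_self]; norm_num))
    replace hw : hermForm 3 F q w p = 0 ∧ hermForm 3 F q w r = 0 :=
      Prod.ext_iff.1 (LinearMap.mem_ker.1 hw)
    have hww : hermForm 3 F q w w ≠ 0 := by
      intro hww
      obtain ⟨c, hc⟩ := iso_line hF hp0 hp' hww hw.1
      obtain ⟨d, hd⟩ := iso_line hF hr0 hr' hww hw.2
      have hc0 : c ≠ 0 := fun h => hw0 (by rw [hc, h, zero_smul])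
      have hd0 : d ≠ 0 := fun h => hw0 (by rw [hd, h, zero_smul])
      have hpr : ∀ x, hermForm 3 F q x p = 0 ↔ hermForm 3 F q x r = 0 := fun x => by
        have e : c • p = d • r := hc.symm.trans hd
        have := congrArg (hermForm 3 F q x) e
        rw [herm_smul_right, herm_smul_right] at this
        constructor <;> intro h <;> rw [h, mul_zero] at this
        · exact (mul_eq_zero.1 this.symm).resolve_left (pow_ne_zero _ hd0)
        · exact (mul_eq_zero.1 this).resolve_left (pow_ne_zero _ hc0)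
      have hfix : ∀ x, act (ρ (up 1)) x = x ↔ act (ρ (lo 1)) x = x := fun x => by rw [hpf, hrf, hpr]
      have hcomm : ρ (up 1) * ρ (lo 1) = ρ (lo 1) * ρ (up 1) := su_ext fun x => by
        obtain ⟨a, ha⟩ := hpc x
        obtain ⟨b, hb⟩ := hrc x
        rw [sub_eq_iff_eq_add] at ha hb
        have hp1 : act (ρ (lo 1)) p = p := (hfix p).1 ((hpf p).2 hp')
        have hr1 : act (ρ (up 1)) r = r := (hfix r).2 ((hrf r).2 hr')
        rw [act_mul, act_mul, hb, act_add, act_smul, hr1, ha, act_add, act_smul, hp1, hb]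
        abel
      rw [← map_mul, ← map_mul] at hcomm
      have := congrArg (fun M : Matrix.SpecialLinearGroup (Fin 2) K => M.1 0 0) (hρ hcomm)
      simp only [mul_val, coe_up, coe_lo] at this
      simp [Matrix.mul_apply, Fin.sum_univ_two] at this
    obtain ⟨g, d, -, hg⟩ := exists_to_last hF hww
    refine ⟨g, fun t => ?_⟩
    rw [hg, act_smul, act_smul]
    have hw1 := (hpf w).2 hw.1
    have hw2 := (hrf w).2 hw.2
    by_cases ht : t = 0
    · rw [ht, up_zero, lo_zero, map_one, act_one]; exact ⟨rfl, rfl⟩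
    constructor <;> congr 1
    · refine (fix_iff_of_commute hF h2 (hsq 1).1 (hne 1 one_ne_zero).1 (hsq t).1 (hne t ht).1 ?_ w).1 hw1
      rw [← map_mul, ← map_mul, up_mul, up_mul, add_comm]
    · refine (fix_iff_of_commute hF h2 (hsq 1).2 (hne 1 one_ne_zero).2 (hsq t).2 (hne t ht).2 ?_ w).1 hw2
      rw [← map_mul, ← map_mul, lo_mul, lo_mul, add_comm]
  · set m : Matrix.SpecialLinearGroup (Fin 2) K := m1 with hm
    have hk2 : (2 : K) ≠ 0 := fun h => h2 (by rw [← map_ofNat K.subtype 2, h, map_zero])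
    have hmsq : m * m = 1 := by
      refine Subtype.ext ?_
      rw [hm, mul_val, one_val]
      simp [m1, Matrix.one_fin_two]
    have hmne : ρ m ≠ 1 := fun h => by
      rw [← map_one ρ] at h
      have := congrArg (fun M : Matrix.SpecialLinearGroup (Fin 2) K => M.1 0 0) (hρ h)
      simp [hm, m1] at this
      exact hk2 (by linear_combination -this)
    have hmc : ∀ x, m * x = x * m := fun x => by
      refine Subtype.ext ?_
      rw [hm, mul_val, mul_val]
      simp only [m1]
      refine Matrix.ext fun i j => ?_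
      fin_cases i <;> fin_cases j <;> simp [Matrix.mul_apply, Fin.sum_univ_two]
    set t := ρ m with ht
    have ht2 : t * t = 1 := by rw [ht, ← map_mul, hmsq, map_one]
    have hinv : ∀ x, act t (act t x) = x := fun x => by rw [← act_mul, ht2, act_one]
    have hfx : ∀ x, act t (x + act t x) = x + act t x := fun x => by rw [act_add, hinv, add_comm]
    obtain ⟨w, hwt, hww⟩ : ∃ w, act t w = w ∧ hermForm 3 F q w w ≠ 0 := by
      by_contra hall
      push Not at hall
      have hzero : ∀ v, act t v = v → v = 0 := by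
        intro v hv
        refine eq_zero_of_herm_eq_zero hF fun y => ?_
        have key : ∀ c : F, c ^ q * hermForm 3 F q v (y + act t y) +
            c * hermForm 3 F q (y + act t y) v = 0 := by
          intro c
          have h := hall (v + c • (y + act t y)) (by rw [act_add, act_smul, hv, hfx])
          rw [herm_add_left, herm_add_right hF, herm_add_right hF, hall v hv, herm_smul_right,
            herm_smul_left, herm_smul_left, herm_smul_right, hall _ (hfx y)] at h
          linear_combination h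
        obtain ⟨c, hc0, hc⟩ := exists_skew hF
        have h1 := key 1
        have hk := key c
        rw [one_pow, one_mul, one_mul] at h1
        have h3 : 2 * c * hermForm 3 F q v (y + act t y) = 0 := by
          rw [eq_neg_of_add_eq_zero_right hc] at hk
          linear_combination c * h1 - hk
        have h4 := (mul_eq_zero.1 h3).resolve_left (mul_ne_zero h2 hc0)
        have h5 : hermForm 3 F q v (act t y) = hermForm 3 F q v y := by
          conv_lhs => rw [← hv]
          rw [herm_act]
        rw [herm_add_right hF, h5, ← two_mul] at h4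
        exact (mul_eq_zero.1 h4).resolve_left h2
      have hneg : ∀ x, act t x = -x := fun x => eq_neg_of_add_eq_zero_right (hzero _ (hfx x))
      have hmat : mat t = -1 := Matrix.ext fun i j => by
        rw [mat_apply, hneg]
        simp [Matrix.one_apply, Pi.single_apply]
      have hdet : (mat t).det = 1 := t.1.2
      rw [hmat, Matrix.det_neg, Matrix.det_one, mul_one, Fintype.card_fin] at hdet
      exact h2 (by linear_combination -hdet)
    obtain ⟨g, d, -, hg⟩ := exists_to_last hF hww
    obtain ⟨a, ha⟩ := exists_emb_last hF (by omega : 1 ≤ 3) (g⁻¹ * t * g) (by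
      show act _ e2 = e2
      rw [act_e2_eq_e2_iff, hg, act_smul, hwt])
    change B0 a = _ at ha
    have ha2 : a * a = 1 := emb_injective _ _ (by
      rw [map_mul, map_one, ha]
      calc g⁻¹ * t * g * (g⁻¹ * t * g) = g⁻¹ * (t * t) * g := by group
        _ = 1 := by rw [ht2]; group)
    have ha1 : a ≠ 1 := fun h => hmne (by
      rw [h, map_one] at ha
      calc t = g * (g⁻¹ * t * g) * g⁻¹ := by group
        _ = 1 := by rw [← ha]; group)
    obtain ⟨s1, s2, s3⟩ := shape hF a
    have e00 := congrArg (fun M : SU 2 F q => mat M 0 0) ha2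
    have e01 := congrArg (fun M : SU 2 F q => mat M 0 1) ha2
    simp only [PhanAut47.mat_mul, Matrix.mul_apply, Fin.sum_univ_two, s1, s2] at e00 e01
    rw [show mat (1 : SU 2 F q) 0 0 = 1 from rfl] at e00
    rw [show mat (1 : SU 2 F q) 0 1 = 0 from rfl] at e01
    set α := mat a 0 0
    set β := mat a 0 1
    have hsum : α * (α + α ^ q) = 2 := by linear_combination e00 + s3
    have hβ : β = 0 := by
      have : β * (α + α ^ q) = 0 := by linear_combination e01
      rcases mul_eq_zero.1 this with h | h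
      · exact h
      · rw [h, mul_zero] at hsum; exact absurd hsum.symm h2
    have hα : α = -1 := by
      rw [hβ] at e00
      have : α * α = 1 := by linear_combination e00
      rcases mul_self_eq_one_iff.1 this with h | h
      · exact absurd (ext2 hF (g := a) (h := 1) (h.trans rfl) (hβ.trans rfl)) ha1
      · exact h
    have honly : ∀ x, act (B0 a) x = x → x = x 2 • e2 := by
      intro x hx
      have hs := slice_emb 0 (by omega : 0 + 2 ≤ 3) a x
      rw [hx] at hs
      have hz : ∀ i, slice 0 (by omega : 0 + 2 ≤ 3) x i = 0 := by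
        intro i
        have hi := congrFun hs i
        rw [show act a (slice 0 (by omega : 0 + 2 ≤ 3) x) = Matrix.mulVec (mat a) _ from rfl,
          Matrix.mulVec, dotProduct, Fin.sum_univ_two] at hi
        fin_cases i <;> simp only [Fin.zero_eta, Fin.mk_one] at hi ⊢ <;>
          simp only [s1, s2, hβ, hα, show mat a 0 1 = 0 from hβ, show mat a 0 0 = -1 from hα, zero_pow (q_ne_zero hF),
            neg_pow_q hF, one_pow, neg_zero, zero_mul, add_zero, zero_add, neg_one_mul] at hi <;>
          exact (mul_eq_zero.1 (show (2 : F) * _ = 0 by linear_combination hi)).resolve_left h2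
      funext i
      fin_cases i
      · simpa [slice, idx] using hz 0
      · simpa [slice, idx] using hz 1
      · simp
    have hfixes : ∀ x, ρ x ^ ringChar F = 1 → act (ρ x) (act g e2) = act g e2 := by
      intro x hx
      set y := g⁻¹ * ρ x * g with hy
      have hcy : B0 a * y = y * B0 a := by
        rw [ha, hy]
        have : t * ρ x = ρ x * t := by rw [ht, ← map_mul, hmc, map_mul]
        calc g⁻¹ * t * g * (g⁻¹ * ρ x * g) = g⁻¹ * (t * ρ x) * g := by group
          _ = g⁻¹ * (ρ x * t) * g := by rw [this]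
          _ = _ := by group
      obtain ⟨χ, hχ⟩ : ∃ χ : F, act y e2 = χ • e2 :=
        ⟨_, honly (act y e2) (by rw [← act_mul, hcy, act_mul, act_B0_e2])⟩
      have hpow : ∀ k, act (y ^ k) e2 = χ ^ k • (e2 : Fin 3 → F) := fun k => by
        induction k with
        | zero => rw [pow_zero, act_one, pow_zero, one_smul]
        | succ k ih => rw [pow_succ', act_mul, ih, act_smul, hχ, smul_smul, pow_succ]
      have hyp : y ^ ringChar F = 1 := by
        rw [hy, show g⁻¹ * ρ x * g = g⁻¹ * ρ x * g⁻¹⁻¹ by rw [inv_inv], conj_pow, hx]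
        group
      have h1 := congrFun (hpow (ringChar F)) 2
      rw [hyp, act_one] at h1
      simp [e2] at h1
      rw [scalar_pow_one hp h1.symm, one_smul] at hχ
      exact (act_e2_eq_e2_iff).1 hχ
    exact ⟨g, fun s => ⟨hfixes _ (hup s).1, hfixes _ (hup s).2⟩⟩

theorem range_eq_conj (hF : Fintype.card F = q ^ 2) (φ : SU 2 F q →* SU 3 F q) (hφ : Function.Injective φ)
    (a : ℕ) (h : a + 2 ≤ 3) (k : Fin 3) (hk : ∀ j : Fin 3, ¬ InR a 2 j → j = k) (g : SU 3 F q)
    (hfix : ∀ x, act (φ x) (act g (Pi.single k 1)) = act g (Pi.single k 1)) :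
    φ.range = (emb a h : SU 2 F q →* SU 3 F q).range.map (MulAut.conj g).toMonoidHom := by
  refine Subgroup.eq_of_le_of_card_ge ?_ ?_
  · rintro _ ⟨x, rfl⟩
    obtain ⟨y, hy⟩ := exists_emb hF a h (g⁻¹ * φ x * g) (fun j hj => by
      rw [hk j hj, act_mul, act_mul, hfix, act_inv_act])
    exact ⟨emb a h y, ⟨y, rfl⟩, by simp [hy, mul_assoc]⟩
  · rw [Subgroup.card_map_of_injective (MulEquiv.injective _),
      ← Nat.card_congr (MonoidHom.ofInjective (emb_injective a h)).toEquiv,
      ← Nat.card_congr (MonoidHom.ofInjective hφ).toEquiv]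

/-- An element of order `q + 1` in the block fixes only the last coordinate line. -/
theorem only_last (hF : Fintype.card F = q ^ 2) {a : SU 2 F q} (ha : orderOf a = q + 1) {x : Fin 3 → F}
    (hx : act (B0 a) x = x) : x = x 2 • e2 := by
  haveI : CharP F (ringChar F) := ringChar.charP F
  obtain ⟨hp, hle⟩ := ringChar_le hF
  haveI := Fact.mk hp
  set v := slice 0 (by omega : 0 + 2 ≤ 3) x with hv
  have hav : act a v = v := by rw [hv, ← slice_emb, hx]
  by_cases hv0 : v = 0
  · funext i
    fin_cases i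
    · simpa [hv, slice, idx] using congrFun hv0 0
    · simpa [hv, slice, idx] using congrFun hv0 1
    · simp
  exfalso
  have hd : (mat a - 1).det = 0 := Matrix.exists_mulVec_eq_zero_iff.1 ⟨v, hv0, by
    rw [Matrix.sub_mulVec, Matrix.one_mulVec]
    exact sub_eq_zero.2 hav⟩
  have hd1 : (mat a).det = 1 := a.1.2
  rw [Matrix.det_fin_two] at hd hd1
  simp only [Matrix.sub_apply, Matrix.one_apply_eq, Matrix.one_apply_ne zero_ne_one,
    Matrix.one_apply_ne one_ne_zero, sub_zero] at hd
  have htr : mat a 0 0 + mat a 1 1 = 2 := by linear_combination hd1 - hd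
  have hsq : (mat a - 1) * (mat a - 1) = 0 := by
    refine Matrix.ext fun i j => ?_
    fin_cases i <;> fin_cases j <;>
      simp [Matrix.mul_apply, Fin.sum_univ_two, Matrix.one_apply]
    · linear_combination (mat a 0 0 - 1) * htr + hd * (-1)
    · linear_combination (mat a 0 1) * htr
    · linear_combination (mat a 1 0) * htr
    · linear_combination (mat a 1 1 - 1) * htr + hd * (-1)
  have hpow : ∀ k : ℕ, mat (a ^ k) = 1 + k • (mat a - 1) := fun k => by
    induction k with
    | zero => rw [pow_zero, zero_nsmul, add_zero]; rfl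
    | succ k ih =>
      rw [pow_succ, PhanAut47.mat_mul, ih, succ_nsmul]
      have key : ∀ N M : Matrix (Fin 2) (Fin 2) F, N * N = 0 → M = 1 + N →
          (1 + k • N) * M = 1 + (k • N + N) := fun N M hN hM => by
        rw [hM, mul_add, mul_one, add_mul, one_mul, smul_mul_assoc, hN, smul_zero, add_zero, add_assoc]
      exact key _ _ hsq (by rw [add_sub_cancel])
  have h1 : a ^ ringChar F = 1 := by
    refine PhanAut47.mat_ext ?_
    rw [hpow]
    refine Matrix.ext fun i j => ?_
    simp [CharP.cast_eq_zero]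
    rfl
  have := Nat.le_of_dvd hp.pos (ha ▸ orderOf_dvd_of_pow_eq_one h1)
  omega

/-- The pair is conjugate to the two blocks. -/
theorem exists_pair_conj (hF : Fintype.card F = q ^ 2) (φ ψ : SU 2 F q →* SU 3 F q)
    (hφ : Function.Injective φ) (hψ : Function.Injective ψ) {c e : SU 3 F q} (hc : c ∈ φ.range)
    (he : e ∈ ψ.range) (hco : orderOf c = q + 1) (heo : orderOf e = q + 1) (hce : c * e = e * c)
    (hgen : φ.range ⊔ ψ.range = ⊤) :
    ∃ g : SU 3 F q, φ.range = (B0 : SU 2 F q →* SU 3 F q).range.map (MulAut.conj g).toMonoidHom ∧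
      ψ.range = (B1 : SU 2 F q →* SU 3 F q).range.map (MulAut.conj g).toMonoidHom := by
  obtain ⟨g₁, h₁⟩ := exists_fixed hF φ hφ
  obtain ⟨g₂, h₂⟩ := exists_fixed hF ψ hψ
  have hk0 : ∀ j : Fin 3, ¬ InR 0 2 j → j = 2 := fun j => by fin_cases j <;> simp [InR]
  have hk1 : ∀ j : Fin 3, ¬ InR 1 2 j → j = 0 := fun j => by fin_cases j <;> simp [InR]
  have eφ := range_eq_conj hF φ hφ 0 (by omega) 2 hk0 g₁ h₁
  have eψ := range_eq_conj hF ψ hψ 0 (by omega) 2 hk0 g₂ h₂
  have only : ∀ (g z : SU 3 F q), z ∈ (B0 : SU 2 F q →* SU 3 F q).range.map (MulAut.conj g).toMonoidHom →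
      orderOf z = q + 1 → ∀ x, act z x = x → ∃ χ : F, x = χ • act g e2 := by
    rintro g _ ⟨_, ⟨a, rfl⟩, rfl⟩ ho x hx
    have hinj : Function.Injective ((MulAut.conj g).toMonoidHom.comp (B0 : SU 2 F q →* SU 3 F q)) :=
      fun u v h => emb_injective _ _ (MulEquiv.injective (MulAut.conj g) h)
    have hoa : orderOf a = q + 1 := by rw [← ho, ← orderOf_injective _ hinj a]; rfl
    have hf : act (B0 a) (act g⁻¹ x) = act g⁻¹ x := by
      conv_rhs => rw [← hx]
      simp [act_mul, act_inv_act]
    exact ⟨_, by rw [← act_act_inv g x]; conv_lhs => rw [only_last hF hoa hf, act_smul]⟩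
  obtain ⟨x₀, rfl⟩ := hc
  obtain ⟨y₀, rfl⟩ := he
  set w := act g₁ e2 with hw
  set w' := act g₂ e2 with hw'
  obtain ⟨χ, hχ⟩ := only g₂ _ (eψ.le ⟨y₀, rfl⟩) heo (act (φ x₀) w') (by
    rw [← act_mul, ← hce, act_mul, h₂])
  rw [← hw'] at hχ
  have horth : hermForm 3 F q w' w = 0 := by
    by_contra hne
    have hh : χ * hermForm 3 F q w' w = hermForm 3 F q w' w := by
      rw [← herm_smul_left, ← hχ]
      conv_lhs => rw [← h₁ x₀, herm_act]
    rw [mul_eq_right₀ hne] at hh
    rw [hh, one_smul] at hχ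
    obtain ⟨d, hd⟩ := only g₁ _ (eφ.le ⟨x₀, rfl⟩) hco w' hχ
    rw [← hw] at hd
    have hd0 : d ≠ 0 := fun h => hne (by rw [hd, h, zero_smul, herm_zero_left])
    have hfix : ∀ y, act (ψ y) w = w := fun y => by
      have := h₂ y
      rw [hd, act_smul] at this
      exact smul_right_injective _ hd0 this
    have e' := range_eq_conj hF ψ hψ 0 (by omega) 2 hk0 g₁ hfix
    rw [e', ← eφ, sup_idem] at hgen
    obtain ⟨k, hk⟩ := trans_norm hF (by omega : 2 ≤ 3) (u := (e2 : Fin 3 → F)) (v := Pi.single 0 1)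
      (by rw [herm_single_self hF, herm_single_self hF]) (by rw [herm_single_self hF]; exact one_ne_zero)
    obtain ⟨x, hx⟩ : g₁ * k * g₁⁻¹ ∈ φ.range := hgen ▸ Subgroup.mem_top _
    have := h₁ x
    rw [hx, hw, act_mul, act_mul, act_inv_act, hk] at this
    simpa using congrFun (congrArg (act g₁⁻¹) this |>.trans (act_inv_act _ _) |>.symm.trans
      (act_inv_act _ _)) 0
  set v := act g₁⁻¹ w' with hv
  have hv2 : v 2 = 0 := by
    rw [← herm_single_right hF 2 v, hv, ← herm_act g₁, act_act_inv]
    exact horth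
  have hvn : hermForm 2 F q (slice 0 (by omega : 0 + 2 ≤ 3) v) (slice 0 (by omega : 0 + 2 ≤ 3) v) = 1 := by
    have := herm_single_self (n := 3) hF 2
    rw [← herm_act g₂, ← hw', ← herm_act g₁⁻¹, ← hv, herm_last (by omega : 1 ≤ 3)] at this
    rw [show v ⟨3 - 1, by omega⟩ = 0 from hv2, zero_mul, add_zero] at this
    exact this
  obtain ⟨b, hb⟩ := trans_norm hF (le_refl 2) (u := (Pi.single 0 1 : Fin 2 → F))
    (v := slice 0 (by omega : 0 + 2 ≤ 3) v) (by rw [hvn, herm_single_self hF])
    (by rw [herm_single_self hF]; exact one_ne_zero)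
  have hbv : act (B0 b) (Pi.single 0 1) = v := by
    refine vec_ext 0 (by omega : 0 + 2 ≤ 3) (fun i => ?_) fun k hk => ?_
    · rw [emb_idx, show slice 0 (by omega : 0 + 2 ≤ 3) (Pi.single (0 : Fin 3) (1 : F)) = Pi.single 0 1 from
        funext fun j => by fin_cases j <;> simp [slice, idx], hb]
      rfl
    · rw [emb_out 0 _ b _ hk, hk0 k hk, hv2]
      simp
  refine ⟨g₁ * B0 b, range_eq_conj hF φ hφ 0 _ 2 hk0 _ (fun x => ?_),
    range_eq_conj hF ψ hψ 1 _ 0 hk1 _ (fun x => ?_)⟩
  · rw [act_mul, show act (B0 b) (Pi.single 2 1) = (e2 : Fin 3 → F) from act_B0_e2 b]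
    exact h₁ x
  · rw [act_mul, hbv, hv, act_act_inv]
    exact h₂ x

/-- Two subgroups isomorphic to `SU 2` generating an `SU 3` form a standard pair. -/
theorem standard_of_commuting_cyclic {G : Type v} [Group G] (hF : Fintype.card F = q ^ 2) {A B : Subgroup G}
    (eA : SU 2 F q ≃* A) (eB : SU 2 F q ≃* B) (θ : ↥(A ⊔ B) ≃* SU 3 F q) {C E : Subgroup G}
    (hC : C ≤ A ∧ IsCyclic C ∧ Nat.card C = q + 1) (hE : E ≤ B ∧ IsCyclic E ∧ Nat.card E = q + 1)
    (hCE : ∀ x ∈ C, ∀ y ∈ E, x * y = y * x) : IsStandardUnitaryPair (A ⊔ B) A B F q := by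
  set φ : SU 2 F q →* SU 3 F q :=
    θ.toMonoidHom.comp ((Subgroup.inclusion (le_sup_left : A ≤ A ⊔ B)).comp eA.toMonoidHom) with hφ
  set ψ : SU 2 F q →* SU 3 F q :=
    θ.toMonoidHom.comp ((Subgroup.inclusion (le_sup_right : B ≤ A ⊔ B)).comp eB.toMonoidHom) with hψ
  have iφ : Function.Injective φ := θ.injective.comp ((Subgroup.inclusion_injective (le_sup_left : A ≤ A ⊔ B)).comp eA.injective)
  have iψ : Function.Injective ψ := θ.injective.comp ((Subgroup.inclusion_injective (le_sup_right : B ≤ A ⊔ B)).comp eB.injective)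
  set ι : SU 3 F q →* G := (A ⊔ B).subtype.comp θ.symm.toMonoidHom with hι
  have hι' : Function.Injective ι := Subtype.val_injective.comp θ.symm.injective
  have iA : φ.range.map ι = A := by
    rw [MonoidHom.map_range, show ι.comp φ = A.subtype.comp eA.toMonoidHom from MonoidHom.ext fun x => by
      simp [hι, hφ], MonoidHom.range_comp, MonoidHom.range_eq_top.2 eA.surjective, ← MonoidHom.range_eq_map,
      Subgroup.range_subtype]
  have iB : ψ.range.map ι = B := by
    rw [MonoidHom.map_range, show ι.comp ψ = B.subtype.comp eB.toMonoidHom from MonoidHom.ext fun x => by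
      simp [hι, hψ], MonoidHom.range_comp, MonoidHom.range_eq_top.2 eB.surjective, ← MonoidHom.range_eq_map,
      Subgroup.range_subtype]
  obtain ⟨cc, hcc⟩ := hC.2.1.exists_generator
  obtain ⟨ee, hee⟩ := hE.2.1.exists_generator
  have hco : orderOf (cc : G) = q + 1 := by
    rw [Subgroup.orderOf_coe, orderOf_eq_card_of_forall_mem_zpowers hcc, hC.2.2]
  have heo : orderOf (ee : G) = q + 1 := by
    rw [Subgroup.orderOf_coe, orderOf_eq_card_of_forall_mem_zpowers hee, hE.2.2]
  set c : SU 3 F q := θ ⟨cc, le_sup_left (a := A) (b := B) (hC.1 cc.2)⟩ with hc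
  set e : SU 3 F q := θ ⟨ee, le_sup_right (a := A) (b := B) (hE.1 ee.2)⟩ with he
  have ic : ι c = cc := by simp [hι, hc]
  have ie : ι e = ee := by simp [hι, he]
  have hgen : φ.range ⊔ ψ.range = ⊤ := by
    refine Subgroup.map_injective hι' ?_
    rw [Subgroup.map_sup, iA, iB, ← MonoidHom.range_eq_map, hι, MonoidHom.range_comp,
      MonoidHom.range_eq_top.2 θ.symm.surjective, ← MonoidHom.range_eq_map, Subgroup.range_subtype]
  obtain ⟨g, g0, g1⟩ := exists_pair_conj hF φ ψ iφ iψ (c := c) (e := e)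
    ((Subgroup.mem_map_iff_mem hι').1 (by rw [iA, ic]; exact hC.1 cc.2))
    ((Subgroup.mem_map_iff_mem hι').1 (by rw [iB, ie]; exact hE.1 ee.2))
    (by rw [← orderOf_injective ι hι', ic, hco]) (by rw [← orderOf_injective ι hι', ie, heo])
    (hι' (by rw [map_mul, map_mul, ic, ie]; exact hCE _ cc.2 _ ee.2)) hgen
  refine Or.inl ⟨(MulAut.conj g).trans θ.symm, ?_, ?_⟩
  · rw [suBlock_eq hF 0 (by omega) _ fun k => by fin_cases k <;> simp [InR]]
    refine Eq.trans ?_ iA
    rw [g0, Subgroup.map_map]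
    rfl
  · rw [suBlock_eq hF 1 (by omega) _ fun k => by fin_cases k <;> simp [InR]]
    refine Eq.trans ?_ iB
    rw [g1, Subgroup.map_map]
    rfl

end Cfsg.Agent.PhanPair47
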