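import Cfsg.Agent.Lib.PhanCoset47

/-!
The second route of the coset map of a Phan amalgam and its agreement with the first one away from the
vectors whose first coordinate has norm one.
-/

set_option autoImplicit false
set_option linter.unusedSectionVars false

namespace Cfsg.Agent.PhanCoset47

open Cfsg Cfsg.Agent.OrthUnitaryHerm Cfsg.Agent.OrthUnitaryTransvection Cfsg.Agent.PhanBlocks47
open scoped Matrix

universe u v

variable {F : Type u} [Field F] [Fintype F] {q m : ℕ} {G : Type v} [Group G] (A : Amal F q m G)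

theorem emb_emb' {a b c k n r : ℕ} (h : a + k ≤ n) (h' : b + n ≤ r) (h'' : c + k ≤ r)
    (e : c = b + a) (g : SU k F q) : emb b h' (emb a h g) = emb c h'' g := by
  subst e
  exact emb_emb h h' h'' g

namespace Amal

theorem herm_eq_of_zero (_hF : Fintype.card F = q ^ 2) {n k : ℕ} (a : ℕ) (h : a + k ≤ n) {x : Fin n → F}
    (hx : ∀ i, ¬ InR a k i → x i = 0) :
    hermForm n F q x x = hermForm k F q (slice a h x) (slice a h x) := by
  rw [herm_split a h, Finset.sum_eq_zero (fun i _ => ?_), add_zero]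
  rw [hx i.1 i.2, zero_mul]

theorem tl_val (v : Fin (m + 2) → F) (j : Fin (m + 1)) : tl v j = v j.succ :=
  congrArg v (Fin.ext (by simp [idx, Nat.add_comm]))

theorem hd_val (v : Fin (m + 2) → F) (j : Fin (m + 1)) : hd v j = v j.castSucc :=
  congrArg v (Fin.ext (by simp [idx]))

theorem Aset_M {v : Fin (m + 2) → F} (a : SU m F q) (ha : A.Aset v) : A.Aset (A.ρ (A.M a) v) := by
  rw [Aset, A.M_out v a (Or.inr (by simp [Fin.val_last]))]; exact ha

theorem Bset_M {v : Fin (m + 2) → F} (a : SU m F q) (hb : A.Bset v) : A.Bset (A.ρ (A.M a) v) := by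
  rw [Bset, A.M_out v a (Or.inl (by simp))]; exact hb

/-! ### Base points of the second route -/

open Classical in
/-- A root of the norm equation. -/
noncomputable def nroot (q : ℕ) (a : F) : F := if h : ∃ r : F, N q r = a then h.choose else 0

theorem nroot_spec (hF : Fintype.card F = q ^ 2) {a : F} (ha : a ^ q = a) : N q (nroot q a) = a := by
  have h : ∃ r : F, N q r = a := by
    obtain ⟨r, hr⟩ := exists_norm_eq hF ha
    exact ⟨r, by rw [N, ← pow_succ', hr]⟩
  unfold nroot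
  rw [dif_pos h]
  exact h.choose_spec

/-- The scalar of norm `-1` used in the isotropic base point. -/
noncomputable def zeta (q : ℕ) : F := nroot q (-1 : F)

theorem zeta_spec (hF : Fintype.card F = q ^ 2) : N q (zeta q : F) = -1 :=
  nroot_spec hF (by rw [neg_pow_q hF, one_pow])

theorem zeta_ne (hF : Fintype.card F = q ^ 2) : (zeta q : F) ≠ 0 := fun h => by
  have := zeta_spec (F := F) hF
  rw [h, N, zero_mul] at this
  exact one_ne_zero (neg_eq_zero.1 this.symm)

/-- The isotropic base point. -/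
noncomputable def zI (q m : ℕ) : Fin (m + 1) → F :=
  fun j => if j.val = 0 then 1 else if j.val = 1 then zeta q else 0

open Classical in
/-- The canonical point with the same norm. -/
noncomputable def z0 (_A : Amal F q m G) (z : Fin (m + 1) → F) : Fin (m + 1) → F :=
  if z = 0 then 0 else if hermForm (m + 1) F q z z = 0 then zI q m
  else nroot q (hermForm (m + 1) F q z z) • Pi.single 0 1

theorem zI_ne : (zI q m : Fin (m + 1) → F) ≠ 0 := fun h => by
  simpa [zI] using congrFun h 0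

include A in
theorem zI_norm : hermForm (m + 1) F q (zI q m) (zI q m) = 0 := by
  have hF := A.hF
  have hm := A.hm
  rw [herm_eq_of_zero hF 0 (by omega : 0 + 2 ≤ m + 1) (fun i hi => by
    simp [InR] at hi
    simp [zI, show i.val ≠ 0 by omega, show i.val ≠ 1 by omega])]
  have := zeta_spec (F := F) hF
  rw [N] at this
  simp [herm_two, slice, idx, zI, this]

theorem z0_act (z : Fin (m + 1) → F) (b : SU (m + 1) F q) : A.z0 (act b z) = A.z0 z := by
  have h : act b z = 0 ↔ z = 0 :=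
    ⟨fun h => by rw [← act_inv_act b z, h, act_zero], fun h => by rw [h, act_zero]⟩
  unfold z0
  by_cases hz : z = 0
  · rw [if_pos hz, if_pos (h.2 hz)]
  · rw [if_neg hz, if_neg (fun e => hz (h.1 e)), herm_act]

theorem exists_to_z0 (z : Fin (m + 1) → F) : ∃ b : SU (m + 1) F q, act b (A.z0 z) = z := by
  have hF := A.hF
  have hm := A.hm
  unfold z0
  by_cases hz : z = 0
  · rw [if_pos hz, hz]; exact ⟨1, act_one _⟩
  rw [if_neg hz]
  by_cases hn : hermForm (m + 1) F q z z = 0
  · rw [if_pos hn]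
    exact trans_iso hF (by omega) zI_ne A.zI_norm hz hn
  · rw [if_neg hn]
    have e := nroot_spec hF (herm_self_pow hF z)
    rw [N] at e
    refine trans_norm hF (by omega) ?_ ?_ <;> rw [herm_smul_self, herm_single_self hF, mul_one, e]
    exact hn

theorem z0_last (z : Fin (m + 1) → F) : A.z0 z (Fin.last m) = 0 := by
  have hm := A.hm
  unfold z0
  split_ifs
  · rfl
  · simp [zI, Fin.val_last, show m ≠ 0 by omega, show m ≠ 1 by omega]
  · rw [Pi.smul_apply, Pi.single_eq_of_ne, smul_zero]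
    intro h
    have := congrArg Fin.val h
    simp at this
    omega

/-- The base point of the orbit of the second block. -/
noncomputable def vb (v : Fin (m + 2) → F) : Fin (m + 2) → F := Fin.cons (v 0) (A.z0 (tl v))

theorem vb_zero (v : Fin (m + 2) → F) : A.vb v 0 = v 0 := rfl

theorem vb_tl (v : Fin (m + 2) → F) : tl (A.vb v) = A.z0 (tl v) := by
  funext j
  rw [tl_val, vb, Fin.cons_succ]

theorem vb_Aset (v : Fin (m + 2) → F) : A.Aset (A.vb v) := by
  have e : (Fin.last (m + 1) : Fin (m + 2)) = (Fin.last m).succ := Fin.ext (by simp)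
  rw [Aset, e, vb, Fin.cons_succ, A.z0_last, N, zero_mul]
  exact zero_ne_one

theorem exists_vb (v : Fin (m + 2) → F) :
    ∃ b : SU (m + 1) F q, act b (tl (A.vb v)) = tl v ∧ A.ρ (A.Φ2 b) (A.vb v) = v := by
  obtain ⟨b, hb⟩ := A.exists_to_z0 (tl v)
  rw [← vb_tl] at hb
  refine ⟨b, hb, vec_ext 1 (by omega : 1 + (m + 1) ≤ m + 2) (fun i => ?_) fun k hk => ?_⟩
  · show tl (A.ρ (A.Φ2 b) (A.vb v)) i = tl v i
    rw [tl_ρ2, hb]
  · have : k = 0 := Fin.ext (by simp [InR] at hk; have := k.2; simp only [Fin.val_zero]; omega)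
    rw [this, tl_first, vb_zero]

theorem X_vb {v : Fin (m + 2) → F} (hv : A.X v) : A.X (A.vb v) := by
  obtain ⟨b, -, hb⟩ := A.exists_vb v
  rw [← A.ρ_inv_ρ (A.Φ2 b) (A.vb v), hb]
  exact A.X_ρ _ hv

theorem vb_ρ2 (v : Fin (m + 2) → F) (b : SU (m + 1) F q) : A.vb (A.ρ (A.Φ2 b) v) = A.vb v := by
  rw [vb, vb, tl_first, tl_ρ2, z0_act]

theorem vb_idem (v : Fin (m + 2) → F) : A.vb (A.vb v) = A.vb v := by
  obtain ⟨b, -, hb⟩ := A.exists_vb v
  conv_rhs => rw [← hb, vb_ρ2]

/-- The stabiliser of the base point fixes its coset. -/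
def Stab (v : Fin (m + 2) → F) : Prop :=
  ∀ b : SU (m + 1) F q, act b (tl (A.vb v)) = tl (A.vb v) → A.Φ2 b • A.c1 (A.vb v) = A.c1 (A.vb v)

open Classical in
/-- The second route. -/
noncomputable def c2 (v : Fin (m + 2) → F) : G ⧸ A.Φ1.range :=
  if h : ∃ b : SU (m + 1) F q, act b (tl (A.vb v)) = tl v then A.Φ2 h.choose • A.c1 (A.vb v)
  else A.base

theorem c2_eq {v : Fin (m + 2) → F} (hs : A.Stab v) {b : SU (m + 1) F q}
    (hb : act b (tl (A.vb v)) = tl v) : A.c2 v = A.Φ2 b • A.c1 (A.vb v) := by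
  have h : ∃ b : SU (m + 1) F q, act b (tl (A.vb v)) = tl v := ⟨b, hb⟩
  unfold c2
  rw [dif_pos h]
  set b' := h.choose
  have e : A.Φ2 (b⁻¹ * b') • A.c1 (A.vb v) = A.c1 (A.vb v) := hs _ (by
    rw [act_mul, h.choose_spec, ← hb, act_inv_act])
  conv_rhs => rw [← e, ← mul_smul, ← map_mul, mul_inv_cancel_left]

theorem c2_vb {v : Fin (m + 2) → F} (hs : A.Stab v) : A.c2 (A.vb v) = A.c1 (A.vb v) := by
  have hs' : A.Stab (A.vb v) := by unfold Stab; rw [vb_idem]; exact hs
  rw [A.c2_eq hs' (b := 1) (by rw [act_one, vb_idem]), map_one, one_smul, vb_idem]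

theorem Stab_ρ2 {v : Fin (m + 2) → F} (hs : A.Stab v) (b : SU (m + 1) F q) :
    A.Stab (A.ρ (A.Φ2 b) v) := by
  unfold Stab; rw [vb_ρ2]; exact hs

theorem c2_ρ2 {v : Fin (m + 2) → F} (hs : A.Stab v) (b : SU (m + 1) F q) :
    A.c2 (A.ρ (A.Φ2 b) v) = A.Φ2 b • A.c2 v := by
  obtain ⟨d, hd, -⟩ := A.exists_vb v
  rw [A.c2_eq hs hd, A.c2_eq (A.Stab_ρ2 hs b) (b := b * d) (by rw [vb_ρ2, act_mul, hd, tl_ρ2]),
    vb_ρ2, map_mul, mul_smul]

include A in
theorem hq3 : 3 ≤ m ∨ 3 ≤ q := A.hq.imp id (fun h => by omega)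

set_option maxHeartbeats 1000000 in
/-- Stabilisers of anisotropic and zero base points. -/
theorem stab_line {v : Fin (m + 2) → F} (hv : A.X v)
    (hz : hermForm (m + 1) F q (tl v) (tl v) ≠ 0 ∨ tl v = 0) : A.Stab v := by
  have hF := A.hF
  have hm := A.hm
  have hX0 := A.X_vb hv
  set w := A.vb v with hw
  have hsupp : ∀ j : Fin (m + 1), j ≠ 0 → tl w j = 0 := fun j hj => by
    rw [hw, vb_tl]
    unfold z0
    rcases hz with h | h
    · rw [if_neg (fun e => h (by rw [e, herm_zero_left])), if_neg h, Pi.smul_apply,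
        Pi.single_eq_of_ne hj, smul_zero]
    · rw [if_pos h]; rfl
  have h20 : (0 : ℕ) + 2 ≤ m + 2 := by omega
  have hwo : ∀ k : Fin (m + 2), ¬ InR 0 2 k → w k = 0 := fun k hk => by
    simp [InR] at hk
    obtain ⟨j, rfl⟩ : ∃ j : Fin (m + 1), j.succ = k := ⟨⟨k.val - 1, by omega⟩, Fin.ext (by simp; omega)⟩
    rw [← tl_val w]
    exact hsupp j (fun e => by rw [e] at hk; simp at hk)
  have hw2 : hermForm 2 F q (slice 0 h20 w) (slice 0 h20 w) = 1 := by
    rw [← herm_eq_of_zero hF 0 h20 hwo]; exact hX0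
  obtain ⟨a, ha⟩ := trans_norm hF (le_refl 2) (u := slice 0 h20 w) (v := ![0, 1])
    (by rw [hw2, herm_two]; simp [zero_pow_q hF]) (by rw [hw2]; exact one_ne_zero)
  set p := A.ρ (A.U0 a) w with hp
  have hpX : A.X p := A.X_ρ _ hX0
  have hp0 : p 0 = 0 := by
    have e : (0 : Fin (m + 2)) = idx 0 h20 0 := Fin.ext (by simp [idx])
    rw [hp, ρ, π_U0, e, emb_idx, ha]; rfl
  have hpo : ∀ k : Fin (m + 2), ¬ InR 0 2 k → p k = 0 := fun k hk => by
    rw [hp, ρ, π_U0, emb_out 0 h20 a w hk, hwo k hk]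
  have hpA : A.Aset p := by
    rw [Aset, hpo _ (by simp [InR, Fin.val_last]; omega), N, zero_mul]; exact zero_ne_one
  have hc : A.c1 w = A.U0 a⁻¹ • A.f (tl p) := by
    rw [← A.agree0 hpX hpA hp0]
    have h3 := A.c1_ρ1 hpX hpA (emb 0 (by omega : 0 + 2 ≤ m + 1) a⁻¹)
    have e : A.ρ (A.Φ1 (emb 0 (by omega : 0 + 2 ≤ m + 1) a⁻¹)) p = w := by
      rw [hp, U0, map_inv, map_inv, ρ_inv_ρ]
    rw [e] at h3
    exact h3
  have hfn : hermForm (m + 1) F q (tl p) (tl p) = 1 := by
    have := A.norm_tl p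
    rw [hpX, hp0, N, zero_mul, zero_add] at this
    exact this.symm
  have hT : ∀ d : SU m F q, A.Φ2 (emb 1 (by omega) d) • A.c1 w = A.c1 w := fun d => by
    rw [hc, smul_smul, show A.Φ2 (emb 1 (by omega) d) * A.U0 a⁻¹ = A.U0 a⁻¹ * A.Φ2 (emb 1 (by omega) d)
      from (A.hc2 a⁻¹ d).eq.symm, ← smul_smul]
    show A.U0 a⁻¹ • (A.Φ2 (emb 1 _ d) • A.f (tl p)) = _
    rw [← A.f_act hfn]
    congr 2
    refine vec_ext 1 (by omega : 1 + m ≤ m + 1) (fun i => ?_) fun k hk => emb_out 1 _ d _ hk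
    rw [emb_idx]
    have e : slice 1 (by omega : 1 + m ≤ m + 1) (tl p) = 0 := funext fun j => by
      rw [slice, tl_val, Pi.zero_apply]
      exact hpo _ (by simp [InR, idx])
    rw [e, act_zero]
    exact (congrFun e i).symm
  rcases hz with h | h
  · intro b hb
    rw [← hw] at hb ⊢
    set r := nroot q (hermForm (m + 1) F q (tl v) (tl v))
    have hr0 : r ≠ 0 := fun e => h (by
      rw [← nroot_spec hF (herm_self_pow hF (tl v))]
      show N q r = 0
      rw [e, N, zero_mul])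
    have hze : tl w = r • Pi.single 0 1 := by
      rw [hw, vb_tl]
      unfold z0
      rw [if_neg (fun e => h (by rw [e, herm_zero_left])), if_neg h]
    rw [hze, act_smul] at hb
    obtain ⟨d, rfl⟩ := exists_emb hF 1 (by omega : 1 + m ≤ m + 1) b (fun k hk => by
      have : k = 0 := Fin.ext (by simp [InR] at hk; have := k.2; simp only [Fin.val_zero]; omega)
      rw [this]
      exact smul_right_injective _ hr0 hb)
    exact hT d
  · intro b _
    rw [← hw]
    have hwA : A.Aset w := A.vb_Aset v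
    have hM : ∀ d : SU m F q, A.M d • A.c1 w = A.c1 w := fun d => by
      rw [← A.c1_M hX0 hwA]
      congr 1
      refine vec_ext 1 (by omega : 1 + m ≤ m + 2) (fun i => ?_) fun k hk => ?_
      · show md (A.ρ (A.M d) w) i = md w i
        have e : md w = (0 : Fin m → F) := funext fun j => by
          show w (idx 1 (by omega : 1 + m ≤ m + 2) j) = 0
          have : idx 1 (by omega : 1 + m ≤ m + 2) j = (j.castSucc : Fin (m + 1)).succ :=
            Fin.ext (by simp [idx, Nat.add_comm])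
          rw [this, ← tl_val w, hw, vb_tl]
          unfold z0
          rw [if_pos h]; rfl
        rw [md_M, e, act_zero]
      · exact A.M_out w d (by simp [InR] at hk; have := k.2; omega)
    have htop := gen_first (q := q) hF hm A.hq3
    have hle : (⊤ : Subgroup (SU (m + 1) F q)) ≤
        (MulAction.stabilizer G (A.c1 w)).comap A.Φ2 := by
      rw [← htop, sup_le_iff]
      constructor
      · rintro _ ⟨u, rfl⟩
        have e : emb 0 (by omega : 0 + 2 ≤ m + 1) u =
            emb 0 (by omega : 0 + m ≤ m + 1) (emb 0 (by omega : 0 + 2 ≤ m) u) :=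
          (emb_emb' (a := 0) (b := 0) (c := 0) _ _ _ rfl u).symm
        rw [Subgroup.mem_comap, MulAction.mem_stabilizer_iff, e, ← A.M_eq]
        exact hM _
      · rintro _ ⟨d, rfl⟩
        exact hT d
    exact hle (Subgroup.mem_top b)

theorem Stab_of_Bset {v : Fin (m + 2) → F} (hv : A.X v) (hb : A.Bset v) : A.Stab v :=
  A.stab_line hv (Or.inl (A.tl_norm_ne hv hb))

theorem c2_f {v : Fin (m + 2) → F} (hv : A.X v) (h0 : v 0 = 0) : A.c2 v = A.f (tl v) := by
  have hB : A.Bset v := by rw [Bset, h0, N, zero_mul]; exact zero_ne_one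
  obtain ⟨b, hb, -⟩ := A.exists_vb v
  rw [A.c2_eq (A.Stab_of_Bset hv hB) hb, A.agree0 (A.X_vb hv) (A.vb_Aset v) (by rw [vb_zero, h0]),
    ← hb, ← A.f_act]
  · rw [← A.norm_tl (A.vb v) |>.symm.trans (A.X_vb hv), vb_zero, h0, N, zero_mul, zero_add]

theorem agree_last0 {v : Fin (m + 2) → F} (hv : A.X v) (hb : A.Bset v)
    (hl : v (Fin.last (m + 1)) = 0) : A.c1 v = A.c2 v := by
  have hF := A.hF
  have hm := A.hm
  have hs := A.Stab_of_Bset hv hb
  obtain ⟨b, hbv, hbv'⟩ := A.exists_vb v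
  have hne := A.tl_norm_ne hv hb
  set w := A.vb v with hw
  have hwA := A.vb_Aset v
  have hnv : hermForm m F q (md v) (md v) = hermForm (m + 1) F q (tl v) (tl v) := by
    rw [herm_eq_of_zero hF 0 (by omega : 0 + m ≤ m + 1) (x := tl v) (fun i hi => ?_)]
    · congr 1 <;> exact (slice_slice (a := 0) (b := 1) (r := m + 2) (by omega) (by omega) (by omega) v).symm
    · have : i = Fin.last m := Fin.ext (by simp [InR] at hi; have := i.2; simp only [Fin.val_last]; omega)
      rw [this, tl_val, ← hl]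
      rfl
  have hnw : hermForm m F q (md w) (md w) = hermForm (m + 1) F q (tl v) (tl v) := by
    rw [← hbv, herm_act, herm_eq_of_zero hF 0 (by omega : 0 + m ≤ m + 1) (x := tl w) (fun i hi => ?_)]
    · congr 1 <;> exact (slice_slice (a := 0) (b := 1) (r := m + 2) (by omega) (by omega) (by omega) w).symm
    · have : i = Fin.last m := Fin.ext (by simp [InR] at hi; have := i.2; simp only [Fin.val_last]; omega)
      rw [this, hw, vb_tl, z0_last]
  obtain ⟨a, ha⟩ := trans_norm hF hm (u := md w) (v := md v) (hnw.trans hnv.symm) (by rw [hnw]; exact hne)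
  have e : A.ρ (A.M a) w = v := by
    refine vec_ext 1 (by omega : 1 + m ≤ m + 2) (fun i => ?_) fun k hk => ?_
    · show md (A.ρ (A.M a) w) i = md v i
      rw [md_M, ha]
    · have hk' : k.val = 0 ∨ k.val = m + 1 := by simp [InR] at hk; have := k.2; omega
      rw [A.M_out w a hk']
      rcases hk' with h | h
      · rw [show k = 0 from Fin.ext h, hw, vb_zero]
      · rw [show k = Fin.last (m + 1) from Fin.ext h, hl]
        have e : (Fin.last (m + 1) : Fin (m + 2)) = (Fin.last m).succ := Fin.ext (by simp)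
        rw [e, ← tl_val w, hw, vb_tl, z0_last]
  have hws : A.Stab w := by unfold Stab; rw [hw, vb_idem]; exact hs
  conv_lhs => rw [← e, A.c1_M (A.X_vb hv) hwA a]
  conv_rhs => rw [← e, M_eq, A.c2_ρ2 hws, hw, A.c2_vb hs]
  rw [M_eq]

/-- Agreement at vectors on which both pairs of ends can be straightened. -/
theorem agree_split {v : Fin (m + 2) → F} (hv : A.X v) (ha : A.Aset v) (hb : A.Bset v)
    (hx : hermForm m F q (ini v) (ini v) ≠ 0 ∨ ini v = 0)
    (hy : hermForm 2 F q (fin2 v) (fin2 v) ≠ 0 ∨ fin2 v = 0) : A.c1 v = A.c2 v := by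
  have hF := A.hF
  have hm := A.hm
  obtain ⟨a, haz⟩ := move_coord hF hm (⟨m - 1, by omega⟩ : Fin m) hx
  obtain ⟨t, ht⟩ := move_coord hF (le_refl 2) (0 : Fin 2) hy
  set p := A.ρ (A.K a) v with hp
  have hpX : A.X p := A.X_ρ _ hv
  have hp0 : p 0 = 0 := by
    rw [show (0 : Fin (m + 2)) = idx 0 (by omega : 0 + m ≤ m + 2) ⟨0, by omega⟩ from Fin.ext (by simp [idx])]
    show ini (A.ρ (A.K a) v) ⟨0, _⟩ = 0
    rw [ini_K]
    exact haz _ (fun h => by have := congrArg Fin.val h; simp at this; omega)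
  have hpA : A.Aset p := by rw [Aset, hp, A.K_out v a (by simp [Fin.val_last])]; exact ha
  set p' := A.ρ (A.U t) p with hp'
  have hpl : p' (Fin.last (m + 1)) = 0 := by
    rw [← fin2_one p', hp', fin2_U]
    have e : fin2 p = fin2 v := funext fun i => A.K_out v a (by simp [idx])
    rw [e]
    exact ht 1 (by decide)
  set v' := A.ρ (A.U t) v with hv'
  have hpv : p' = A.ρ (A.K a) v' := by rw [hp', hp, hv', ← A.ρ_commute (A.commute_K_U a t)]
  have hv'X : A.X v' := A.X_ρ _ hv
  have hv'l : v' (Fin.last (m + 1)) = 0 := by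
    rw [← A.K_out v' a (i := Fin.last (m + 1)) (by simp [Fin.val_last]), ← hpv, hpl]
  have hv'A : A.Aset v' := by rw [Aset, hv'l, N, zero_mul]; exact zero_ne_one
  have hv'B : A.Bset v' := by rw [Bset, hv', U_first]; exact hb
  have hp'0 : p' 0 = 0 := by rw [hp', U_first, hp0]
  have hp'A : A.Aset p' := by rw [Aset, hpl, N, zero_mul]; exact zero_ne_one
  have hfn : hermForm (m + 1) F q (tl p) (tl p) = 1 := by
    have := A.norm_tl p
    rw [hpX, hp0, N, zero_mul, zero_add] at this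
    exact this.symm
  have h1 : A.K a • A.c1 v' = A.U t • (A.K a • A.c1 v) := by
    rw [← A.c1_K hv'X hv'A, ← hpv, A.agree0 (A.X_ρ _ hpX) hp'A hp'0, U, tl_ρ2,
      A.f_act hfn, ← A.c1_K hv ha, ← hp, A.agree0 hpX hpA hp0]
  rw [smul_smul, ← (A.commute_K_U a t).eq, ← smul_smul] at h1
  have h2 := A.agree_last0 hv'X hv'B hv'l
  rw [MulAction.injective _ h1] at h2
  have h3 : A.c2 v' = A.U t • A.c2 v := A.c2_ρ2 (A.Stab_of_Bset hv hb) _
  rw [h3] at h2
  exact MulAction.injective _ h2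

/-- A middle move making both pairs of ends straight. -/
theorem exists_good_move {v : Fin (m + 2) → F} (hv : A.X v) (ha : A.Aset v) :
    ∃ a : SU m F q, (hermForm m F q (ini (A.ρ (A.M a) v)) (ini (A.ρ (A.M a) v)) ≠ 0 ∨
        ini (A.ρ (A.M a) v) = 0) ∧
      (hermForm 2 F q (fin2 (A.ρ (A.M a) v)) (fin2 (A.ρ (A.M a) v)) ≠ 0 ∨ fin2 (A.ρ (A.M a) v) = 0) := by
  have hF := A.hF
  have hm := A.hm
  have hlast : ∀ (a : SU m F q), fin2 (A.ρ (A.M a) v) 1 = v (Fin.last (m + 1)) := fun a => by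
    rw [fin2_one, A.M_out v a (Or.inr (by simp [Fin.val_last]))]
  have hcut : ∀ a : SU m F q, hermForm m F q (ini (A.ρ (A.M a) v)) (ini (A.ρ (A.M a) v)) =
      1 - hermForm 2 F q (fin2 (A.ρ (A.M a) v)) (fin2 (A.ρ (A.M a) v)) := fun a => by
    have := A.norm_cut (A.ρ (A.M a) v)
    rw [A.X_ρ _ hv] at this
    linear_combination -this
  have key : ∀ a : SU m F q, fin2 (A.ρ (A.M a) v) 0 = 0 →
      (hermForm m F q (ini (A.ρ (A.M a) v)) (ini (A.ρ (A.M a) v)) ≠ 0 ∨ ini (A.ρ (A.M a) v) = 0) ∧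
      (hermForm 2 F q (fin2 (A.ρ (A.M a) v)) (fin2 (A.ρ (A.M a) v)) ≠ 0 ∨
        fin2 (A.ρ (A.M a) v) = 0) := by
    intro a h0
    have e : hermForm 2 F q (fin2 (A.ρ (A.M a) v)) (fin2 (A.ρ (A.M a) v)) = N q (v (Fin.last (m + 1))) := by
      rw [herm_two, h0, zero_mul, zero_add, hlast]; rfl
    refine ⟨Or.inl (by rw [hcut, e]; exact sub_ne_zero.2 (Ne.symm ha)), ?_⟩
    by_cases hl : v (Fin.last (m + 1)) = 0
    · refine Or.inr (funext fun i => ?_)
      fin_cases i
      · exact h0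
      · exact (hlast a).trans hl
    · exact Or.inl (by rw [e]; exact mul_ne_zero hl (pow_ne_zero _ hl))
  have hmd : ∀ a : SU m F q, fin2 (A.ρ (A.M a) v) 0 = act a (md v) ⟨m - 1, by omega⟩ := fun a => by
    rw [← A.md_M]
    exact congrArg (A.ρ (A.M a) v) (Fin.ext (by simp [idx]; omega))
  by_cases hy : hermForm m F q (md v) (md v) ≠ 0 ∨ md v = 0
  · obtain ⟨a, h⟩ := move_coord hF hm (⟨0, by omega⟩ : Fin m) hy
    exact ⟨a, key a (by rw [hmd]; exact h _ (fun e => by have := congrArg Fin.val e; simp at this; omega))⟩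
  push Not at hy
  obtain ⟨hy1, hy0⟩ := hy
  rcases Nat.lt_or_ge m 3 with hm3 | hm3
  · obtain rfl : m = 2 := by omega
    have hq : 4 ≤ q := A.hq.resolve_left (by omega)
    have hy00 : md v 0 ≠ 0 := by
      intro h
      apply hy0
      rw [herm_two, h, zero_mul, zero_add, ← pow_succ'] at hy1
      funext i
      fin_cases i
      · exact h
      · exact pow_eq_zero_iff (Nat.succ_ne_zero q) |>.1 hy1
    classical
    obtain ⟨c, hc, hS⟩ := exists_scale hF hy00 {-N q (v 0), 1 - N q (v 0)}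
      (le_trans (Nat.add_le_add_right (Finset.card_le_two) 2) hq)
    obtain ⟨a, ha0, -⟩ := iso_scale hF hy0 hy1 hc
    simp only [Finset.mem_insert, Finset.mem_singleton, not_or] at hS
    have e : hermForm 2 F q (ini (A.ρ (A.M a) v)) (ini (A.ρ (A.M a) v)) =
        N q (v 0) + c * md v 0 * (c * md v 0) ^ q := by
      rw [herm_two, ← ha0, ← A.md_M]
      have e0 : ini (A.ρ (A.M a) v) 0 = v 0 := A.M_out v a (Or.inl (by simp [idx]))
      rw [e0]
      rfl
    refine ⟨a, Or.inl ?_, Or.inl ?_⟩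
    · rw [e]
      exact fun h => hS.1 (eq_neg_of_add_eq_zero_right h)
    · intro h
      have h2 := hcut a
      rw [h, sub_zero, e] at h2
      exact hS.2 (eq_sub_iff_add_eq'.2 h2)
  · obtain ⟨u, hu0, hu, hui⟩ := exists_iso_gap (q := q) hF hm3 (⟨m - 1, by omega⟩ : Fin m)
    obtain ⟨a, hau⟩ := trans_iso hF hm3 hy0 hy1 hu0 hu
    exact ⟨a, key a (by rw [hmd, hau, hui])⟩

/-- Agreement on `A ∩ B`. -/
theorem agreeAB {v : Fin (m + 2) → F} (hv : A.X v) (ha : A.Aset v) (hb : A.Bset v) :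
    A.c1 v = A.c2 v := by
  obtain ⟨a, hx, hy⟩ := A.exists_good_move hv ha
  have h := A.agree_split (A.X_ρ _ hv) (A.Aset_M a ha) (A.Bset_M a hb) hx hy
  rw [A.c1_M hv ha, M_eq, A.c2_ρ2 (A.Stab_of_Bset hv hb)] at h
  exact MulAction.injective _ h

/-- A move out of the set of vectors with first coordinate of norm one. -/
theorem exists_out {v : Fin (m + 2) → F} (h1 : N q (v 0) = 1) :
    ∃ a : SU m F q, N q (A.ρ (A.K a) v 0) ≠ 1 := by
  have hF := A.hF
  have hm := A.hm
  have e : ∀ a : SU m F q, A.ρ (A.K a) v 0 = act a (ini v) ⟨0, by omega⟩ := fun a => by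
    rw [← A.ini_K]
    exact congrArg (A.ρ (A.K a) v) (Fin.ext (by simp [idx]))
  have hne : ini v ⟨0, by omega⟩ ≠ 0 := by
    intro h
    have h' : v 0 = 0 := (congrArg v (Fin.ext (by simp [idx]))).trans h
    rw [h', N, zero_mul] at h1
    exact zero_ne_one h1
  by_cases hx : hermForm m F q (ini v) (ini v) = 0
  · rcases Nat.lt_or_ge m 3 with hm3 | hm3
    · obtain rfl : m = 2 := by omega
      have hq : 4 ≤ q := A.hq.resolve_left (by omega)
      obtain ⟨c, hc, hS⟩ := exists_scale hF hne {1} (by simp; omega)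
      obtain ⟨a, ha0, -⟩ := iso_scale hF (fun h => hne (by rw [h]; rfl)) hx hc
      refine ⟨a, fun h => hS (Finset.mem_singleton.2 ?_)⟩
      rw [e] at h
      unfold N at h
      rw [show (⟨0, _⟩ : Fin 2) = 0 from rfl, ha0] at h
      exact h
    · obtain ⟨u, hu0, hu, hui⟩ := exists_iso_gap (q := q) hF hm3 (⟨0, by omega⟩ : Fin m)
      obtain ⟨a, hau⟩ := trans_iso hF hm3 (fun h => hne (by rw [h]; rfl)) hx hu0 hu
      exact ⟨a, by rw [e, hau, hui, N, zero_mul]; exact zero_ne_one⟩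
  · obtain ⟨a, ha⟩ := move_coord hF hm (⟨m - 1, by omega⟩ : Fin m) (Or.inl hx)
    refine ⟨a, ?_⟩
    rw [e, ha _ (fun h => by have := congrArg Fin.val h; simp at this; omega), N, zero_mul]
    exact zero_ne_one

/-- The first route commutes with the last pair where the first coordinate has norm one. -/
theorem c1_U {v : Fin (m + 2) → F} (hv : A.X v) (h1 : N q (v 0) = 1) (t : SU 2 F q)
    (ha : A.Aset v) (hta : A.Aset (A.ρ (A.U t) v)) : A.c1 (A.ρ (A.U t) v) = A.U t • A.c1 v := by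
  obtain ⟨a, hb⟩ := A.exists_out h1
  set p := A.ρ (A.K a) v with hp
  have hpA : A.Aset p := by rw [Aset, hp, A.K_out v a (by simp [Fin.val_last])]; exact ha
  have hpB : A.Bset p := hb
  have hp' : A.ρ (A.U t) p = A.ρ (A.K a) (A.ρ (A.U t) v) := by
    rw [hp, ← A.ρ_commute (A.commute_K_U a t)]
  have hp'A : A.Aset (A.ρ (A.U t) p) := by
    rw [Aset, hp', A.K_out _ a (by simp [Fin.val_last])]; exact hta
  have hp'B : A.Bset (A.ρ (A.U t) p) := by rw [Bset, U_first]; exact hpB
  have h2 := A.agreeAB (A.X_ρ _ (A.X_ρ _ hv)) hp'A hp'B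
  rw [show A.c2 (A.ρ (A.U t) p) = A.U t • A.c2 p from A.c2_ρ2 (A.Stab_of_Bset (A.X_ρ _ hv) hpB) _,
    ← A.agreeAB (A.X_ρ _ hv) hpA hpB, hp', A.c1_K (A.X_ρ _ hv) hta, A.c1_K hv ha, smul_smul,
    ← (A.commute_K_U a t).eq, ← smul_smul] at h2
  exact MulAction.injective _ h2

end Amal

end Cfsg.Agent.PhanCoset47
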