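import Cfsg.Agent.Lib.PhanWeak47

/-!
A homomorphism of `SU 4` extending two consecutive members of a chain is good.
-/

set_option autoImplicit false
set_option linter.unusedSectionVars false

namespace Cfsg.Agent.PhanAlign47

open Cfsg Cfsg.Agent.OrthUnitaryHerm Cfsg.Agent.OrthUnitaryTransvection Cfsg.Agent.PhanBlocks47
open Cfsg.Agent.PhanChain47

universe u v

variable {F : Type u} [Field F] [Fintype F] {q : ℕ} {G : Type v} [Group G]

theorem good_four {N : ℕ} (C : Chain F q N G) {a : ℕ} (ha : a + 4 ≤ N) (φ : SU 4 F q →* G)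
    (h0 : ∀ x, φ (emb 0 (by omega) x) = C.f a (by omega) x)
    (h1 : ∀ x, φ (emb 1 (by omega) x) = C.f (a + 1) (by omega) x) : Good C a φ where
  le := ha
  pair k hk x := by
    obtain rfl | rfl | rfl : k = 0 ∨ k = 1 ∨ k = 2 := by omega
    · have e : emb (n := 4) 0 hk x = emb 0 (by omega : 0 + 3 ≤ 4) (emb (n := 3) 0 (by omega) x) :=
        (Cfsg.Agent.PhanCoset47.emb_emb' (a := 0) (b := 0) _ _ _ rfl x).symm
      rw [e, h0, C.h0]; rfl
    · have e : emb (n := 4) 1 hk x = emb 0 (by omega : 0 + 3 ≤ 4) (emb (n := 3) 1 (by omega) x) :=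
        (Cfsg.Agent.PhanCoset47.emb_emb' (a := 1) (b := 0) _ _ _ rfl x).symm
      rw [e, h0, C.h1]
    · have e : emb (n := 4) 2 hk x = emb 1 (by omega : 1 + 3 ≤ 4) (emb (n := 3) 1 (by omega) x) :=
        (Cfsg.Agent.PhanCoset47.emb_emb' (a := 1) (b := 1) _ _ _ rfl x).symm
      rw [e, h1, C.h1]
  triple k hk x := by
    obtain rfl | rfl : k = 0 ∨ k = 1 := by omega
    · exact h0 x
    · exact h1 x

end Cfsg.Agent.PhanAlign47
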