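import Cfsg.Agent.Lib.PhanFourBase47

/-!
`SU 3` over the field with four elements: the monomial subgroup generated by the two pair blocks is normal,
with quotient of order four, and a homomorphism into `SU 4` is determined on the blocks.
-/

set_option autoImplicit false
set_option linter.unusedSectionVars false

namespace Cfsg.Agent.PhanFourTwo47

open Cfsg Cfsg.Agent.OrthUnitaryHerm Cfsg.Agent.OrthUnitaryTransvection Cfsg.Agent.PhanBlocks47
open Cfsg.Agent.PhanAut47 Cfsg.Agent.PhanAlign47 Cfsg.Agent.PhanFrame47 Cfsg.Agent.PhanFourStd47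
open Cfsg.Agent.PhanFourBase47
open scoped Matrix

universe u

variable {F : Type u} [Field F] [Fintype F]

theorem two_zero (hF : Fintype.card F = 2 ^ 2) : (2 : F) = 0 := by exact_mod_cast qF_zero hF

theorem cube (hF : Fintype.card F = 2 ^ 2) {x : F} (hx : x ≠ 0) : x ^ 3 = 1 := by
  have h := FiniteField.pow_card_sub_one_eq_one x hx
  rwa [hF] at h

open Classical in
theorem norm_two (hF : Fintype.card F = 2 ^ 2) (x : F) : x * x ^ 2 = if x = 0 then 0 else 1 := by
  split_ifs with h
  · simp [h]
  · linear_combination cube hF h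

/-- The product of the coordinates, constant on the members of an orthogonal frame. -/
def κ (v : Fin 3 → F) : F := v 0 * v 1 * v 2

theorem herm_three (u v : Fin 3 → F) :
    hermForm 3 F 2 u v = u 0 * v 0 ^ 2 + u 1 * v 1 ^ 2 + u 2 * v 2 ^ 2 := by
  simp [hermForm, Fin.sum_univ_three]

theorem unit_zero (hF : Fintype.card F = 2 ^ 2) {u : Fin 3 → F} (hu : hermForm 3 F 2 u u = 1) (hk : κ u = 0) :
    ∃ i, ∀ j, j ≠ i → u j = 0 := by
  rw [herm_three, norm_two hF, norm_two hF, norm_two hF] at hu
  have h2 := two_zero hF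
  by_cases h0 : u 0 = 0 <;> by_cases h1 : u 1 = 0 <;> by_cases h2' : u 2 = 0
  · exact ⟨0, fun j _ => by fin_cases j <;> assumption⟩
  · exact ⟨2, fun j hj => by fin_cases j <;> simp at hj ⊢ <;> assumption⟩
  · exact ⟨1, fun j hj => by fin_cases j <;> simp at hj ⊢ <;> assumption⟩
  · simp [h0, h1, h2'] at hu
  · exact ⟨0, fun j hj => by fin_cases j <;> simp at hj ⊢ <;> assumption⟩
  · simp [h0, h1, h2'] at hu
  · simp [h0, h1, h2'] at hu
  · simp [κ, h0, h1, h2'] at hk

theorem kappa_zero_of_single {u : Fin 3 → F} {i : Fin 3} (h : ∀ j, j ≠ i → u j = 0) : κ u = 0 := by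
  fin_cases i
  · simp [κ, h 1 (by decide)]
  · simp [κ, h 0 (by decide)]
  · simp [κ, h 0 (by decide)]

theorem eq_single {u : Fin 3 → F} {i : Fin 3} (h : ∀ j, j ≠ i → u j = 0) : u = u i • Pi.single i 1 := by
  funext j
  by_cases hj : j = i
  · subst hj; simp
  · simp [h j hj, hj]

/-- Vectors of norm one with the same product are proportional or orthogonal, and conversely. -/
theorem kappa_iff (hF : Fintype.card F = 2 ^ 2) {u v : Fin 3 → F} (hu : hermForm 3 F 2 u u = 1)
    (hv : hermForm 3 F 2 v v = 1) :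
    κ u = κ v ↔ hermForm 3 F 2 u v = 0 ∨ ∃ c : F, u = c • v := by
  constructor
  · intro hk
    by_cases h0 : κ v = 0
    · obtain ⟨i, hi⟩ := unit_zero hF hu (hk.trans h0)
      obtain ⟨j, hj⟩ := unit_zero hF hv h0
      have hvj : v j ≠ 0 := by
        intro h
        rw [show v = 0 by rw [eq_single hj, h, zero_smul], herm_zero_left] at hv
        exact zero_ne_one hv
      by_cases hij : i = j
      · subst hij
        refine Or.inr ⟨u i / v i, ?_⟩
        rw [eq_single hi]
        nth_rewrite 2 [eq_single hj]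
        rw [smul_smul, div_mul_cancel₀ _ hvj]
        simp
      · refine Or.inl ?_
        rw [eq_single hi, eq_single hj, herm_smul_left, herm_smul_right, herm_single_right hF,
          Pi.single_eq_of_ne (Ne.symm hij), mul_zero, mul_zero]
    · have v0 : v 0 ≠ 0 ∧ v 1 ≠ 0 ∧ v 2 ≠ 0 := by
        simp only [κ, mul_eq_zero, not_or] at h0; tauto
      have u0 : u 0 ≠ 0 ∧ u 1 ≠ 0 ∧ u 2 ≠ 0 := by
        rw [← hk] at h0
        simp only [κ, mul_eq_zero, not_or] at h0; tauto
      have hr : ∀ i, v i ≠ 0 → u i = u i * v i ^ 2 * v i := fun i h => by linear_combination -u i * cube hF h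
      set r0 := u 0 * v 0 ^ 2 with e0
      set r1 := u 1 * v 1 ^ 2 with e1
      set r2 := u 2 * v 2 ^ 2 with e2
      have r0c : r0 ^ 3 = 1 := cube hF (mul_ne_zero u0.1 (pow_ne_zero _ v0.1))
      have r1c : r1 ^ 3 = 1 := cube hF (mul_ne_zero u0.2.1 (pow_ne_zero _ v0.2.1))
      have hp : r0 * r1 * r2 = 1 := by
        rw [κ, κ] at hk
        rw [e0, e1, e2]
        have h3 := cube hF h0
        rw [κ] at h3
        linear_combination (v 0 ^ 2 * v 1 ^ 2 * v 2 ^ 2) * hk + h3
      by_cases h01 : r0 = r1
      · have h02 : r2 = r0 := by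
          rw [← h01] at hp
          linear_combination r0 * hp - r2 * r0c
        refine Or.inr ⟨r0, funext fun i => ?_⟩
        rw [Pi.smul_apply, smul_eq_mul]
        fin_cases i
        · exact hr 0 v0.1
        · show u 1 = r0 * v 1
          rw [h01]; exact hr 1 v0.2.1
        · show u 2 = r0 * v 2
          rw [← h02]; exact hr 2 v0.2.2
      · refine Or.inl ?_
        have h3 : r0 ^ 2 + r0 * r1 + r1 ^ 2 = 0 := by
          have : (r0 - r1) * (r0 ^ 2 + r0 * r1 + r1 ^ 2) = 0 := by linear_combination r0c - r1c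
          exact (mul_eq_zero.1 this).resolve_left (sub_ne_zero.2 h01)
        have hne : r0 * r1 ≠ 0 :=
          mul_ne_zero (mul_ne_zero u0.1 (pow_ne_zero _ v0.1)) (mul_ne_zero u0.2.1 (pow_ne_zero _ v0.2.1))
        rw [herm_three, ← e0, ← e1, ← e2]
        refine (mul_eq_zero.1 (show r0 * r1 * (r0 + r1 + r2) = 0 from ?_)).resolve_left hne
        linear_combination hp + r0 * h3 - r0c
  · rintro (h | ⟨c, rfl⟩)
    · by_cases hu0 : κ u = 0
      · by_cases hv0 : κ v = 0
        · rw [hu0, hv0]
        · exfalso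
          obtain ⟨i, hi⟩ := unit_zero hF hu hu0
          have hui : u i ≠ 0 := fun h' => by
            rw [show u = 0 by rw [eq_single hi, h', zero_smul], herm_zero_left] at hu
            exact zero_ne_one hu
          rw [eq_single hi, herm_smul_left, herm_single_left, mul_eq_zero, or_iff_right hui,
            pow_eq_zero_iff two_ne_zero] at h
          simp only [κ, mul_eq_zero, not_or] at hv0
          fin_cases i <;> simp_all
      · by_cases hv0 : κ v = 0
        · exfalso
          obtain ⟨i, hi⟩ := unit_zero hF hv hv0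
          have hvi : v i ≠ 0 := fun h' => by
            rw [show v = 0 by rw [eq_single hi, h', zero_smul], herm_zero_left] at hv
            exact zero_ne_one hv
          rw [eq_single hi, herm_smul_right, herm_single_right hF, mul_eq_zero,
            or_iff_right (pow_ne_zero _ hvi)] at h
          simp only [κ, mul_eq_zero, not_or] at hu0
          fin_cases i <;> simp_all
        · have u0 := hu0
          have v0 := hv0
          simp only [κ, mul_eq_zero, not_or] at u0 v0
          set r0 := u 0 * v 0 ^ 2 with e0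
          set r1 := u 1 * v 1 ^ 2 with e1
          have r0c : r0 ^ 3 = 1 := cube hF (mul_ne_zero u0.1.1 (pow_ne_zero _ v0.1.1))
          have r1c : r1 ^ 3 = 1 := cube hF (mul_ne_zero u0.1.2 (pow_ne_zero _ v0.1.2))
          have h2ne : u 2 * v 2 ^ 2 ≠ 0 := mul_ne_zero u0.2 (pow_ne_zero _ v0.2)
          rw [herm_three, ← e0, ← e1] at h
          have h2 := two_zero hF
          have h01 : r0 ≠ r1 := fun e => h2ne (by rw [← e] at h; linear_combination h - r0 * h2)
          have h3 : r0 ^ 2 + r0 * r1 + r1 ^ 2 = 0 := by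
            have : (r0 - r1) * (r0 ^ 2 + r0 * r1 + r1 ^ 2) = 0 := by linear_combination r0c - r1c
            exact (mul_eq_zero.1 this).resolve_left (sub_ne_zero.2 h01)
          have hp : r0 * r1 * (u 2 * v 2 ^ 2) = 1 := by linear_combination r0 * r1 * h - r0 * h3 + r0c
          have hpp : κ u * κ v ^ 2 = 1 := by
            rw [κ, κ]
            linear_combination hp
          calc κ u = κ u * κ v ^ 3 := by rw [cube hF hv0, mul_one]
            _ = κ v := by linear_combination κ v * hpp
    · have hc : c ^ 3 = 1 := cube hF fun h => by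
        rw [h, zero_smul, herm_zero_left] at hu; exact zero_ne_one hu
      simp only [κ, Pi.smul_apply, smul_eq_mul]
      linear_combination (v 0 * v 1 * v 2) * hc

/-- The subgroup generated by the pair blocks. -/
def H (F : Type u) [Field F] [Fintype F] : Subgroup (SU 3 F 2) :=
  (B0 : SU 2 F 2 →* SU 3 F 2).range ⊔ (B1 : SU 2 F 2 →* SU 3 F 2).range

theorem B0_mem (x : SU 2 F 2) : B0 x ∈ H F := Subgroup.mem_sup_left ⟨x, rfl⟩

theorem B1_mem (x : SU 2 F 2) : B1 x ∈ H F := Subgroup.mem_sup_right ⟨x, rfl⟩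

theorem kappa_block (hF : Fintype.card F = 2 ^ 2) (x : SU 2 F 2) (w : Fin 2 → F) :
    act x w 0 * act x w 1 = w 0 * w 1 := by
  obtain ⟨-, -, h3⟩ := shape hF x
  rw [eq_mk2 hF x, act_mk2]
  simp only [Matrix.cons_val_zero, Matrix.cons_val_one]
  have h2 := two_zero hF
  rw [norm_two hF, norm_two hF] at h3
  by_cases ha : mat x 0 0 = 0 <;> by_cases hb : mat x 0 1 = 0
  · simp [ha, hb] at h3
  · simp [ha]
    linear_combination -(w 0 * w 1) * cube hF hb - (w 0 * w 1) * h2
  · simp [hb]
    linear_combination (w 0 * w 1) * cube hF ha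
  · simp [ha, hb] at h3

theorem kappa_mem (hF : Fintype.card F = 2 ^ 2) {h : SU 3 F 2} (hh : h ∈ H F) (v : Fin 3 → F) :
    κ (act h v) = κ v := by
  have : H F ≤ { carrier := {h | ∀ v, κ (act h v) = κ v}
                 one_mem' := fun v => by rw [act_one]
                 mul_mem' := fun {a b} ha hb v => by rw [act_mul, ha, hb]
                 inv_mem' := fun {a} ha v => by rw [← ha (act a⁻¹ v), act_act_inv] : Subgroup (SU 3 F 2) } := by
    refine sup_le ?_ ?_
    · rintro _ ⟨x, rfl⟩ v
      have h02 : (0 : ℕ) + 2 ≤ 3 := by omega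
      have a0 : act (B0 x) v 0 = act x (slice 0 h02 v) 0 := emb_idx 0 h02 x v 0
      have a1 : act (B0 x) v 1 = act x (slice 0 h02 v) 1 := emb_idx 0 h02 x v 1
      have a2 : act (B0 x) v 2 = v 2 := emb_out 0 h02 x v (by simp [InR])
      rw [κ, a0, a1, a2, kappa_block hF]
      rfl
    · rintro _ ⟨x, rfl⟩ v
      have h12 : (1 : ℕ) + 2 ≤ 3 := by omega
      have a1 : act (B1 x) v 1 = act x (slice 1 h12 v) 0 := emb_idx 1 h12 x v 0
      have a2 : act (B1 x) v 2 = act x (slice 1 h12 v) 1 := emb_idx 1 h12 x v 1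
      have a0 : act (B1 x) v 0 = v 0 := emb_out 1 h12 x v (by simp [InR])
      rw [κ, a0, a1, a2, mul_assoc, kappa_block hF, κ, mul_assoc]
      rfl
  exact this hh v

theorem mem_of_kappa (hF : Fintype.card F = 2 ^ 2) {x : SU 3 F 2} (hx : κ (act x (Pi.single 0 1)) = 0) :
    x ∈ H F := by
  set v := act x (Pi.single 0 1) with hv
  obtain ⟨i, hi⟩ := unit_zero hF (by rw [hv, herm_act, herm_single_self hF]) hx
  obtain ⟨k, hk, hki⟩ : ∃ k ∈ H F, act k v = v i • Pi.single 0 1 := by
    have hs0 : act (B0 (sw hF)) (Pi.single 1 1) = Pi.single (0 : Fin 3) (1 : F) := by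
      funext j
      rw [← mat_apply, mat_B0, mat_mk2]
      fin_cases j <;> simp
    have hs1 : act (B1 (sw hF)) (Pi.single 2 1) = Pi.single (1 : Fin 3) (1 : F) := by
      funext j
      rw [← mat_apply, mat_B1, mat_mk2]
      fin_cases j <;> simp
    fin_cases i
    · exact ⟨1, one_mem _, by rw [act_one]; exact eq_single hi⟩
    · exact ⟨B0 (sw hF), B0_mem _, by
        nth_rewrite 1 [eq_single hi]; exact (act_smul _ _ _).trans (congrArg _ hs0)⟩
    · exact ⟨B0 (sw hF) * B1 (sw hF), mul_mem (B0_mem _) (B1_mem _), by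
        nth_rewrite 1 [eq_single hi]
        exact (act_smul _ _ _).trans (congrArg _ ((act_mul _ _ _).trans ((congrArg _ hs1).trans hs0)))⟩
  have hn : v i * v i ^ 2 = 1 := by
    have h : hermForm 3 F 2 (act k v) (act k v) = 1 := by rw [herm_act, hv, herm_act, herm_single_self hF]
    rw [hki, herm_smul_self, herm_single_self hF, mul_one] at h
    exact h
  set t : SU 2 F 2 := mk2 hF (v i ^ 2) 0 (by rw [zero_mul, add_zero, pow_q_q hF, mul_comm]; exact hn)
  obtain ⟨y, hy⟩ := exists_emb hF 1 (by omega : 1 + 2 ≤ 3) (B0 t * k * x) (fun j hj => by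
    have : j = 0 := by fin_cases j <;> simp [InR] at hj ⊢
    subst this
    rw [act_mul, act_mul, ← hv, hki, act_smul]
    funext r
    rw [Pi.smul_apply, ← mat_apply, mat_B0, mat_mk2]
    fin_cases r <;> simp
    linear_combination hn)
  have e : x = k⁻¹ * (B0 t)⁻¹ * B1 y := by rw [show B1 y = _ from hy]; group
  rw [e]
  exact mul_mem (mul_mem (inv_mem hk) (inv_mem (B0_mem _))) (B1_mem _)

theorem H_normal (hF : Fintype.card F = 2 ^ 2) : (H F).Normal := by
  refine ⟨fun h hh x => mem_of_kappa hF ?_⟩
  set e : Fin 3 → Fin 3 → F := fun i => Pi.single i 1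
  set u := act x⁻¹ (e 0) with hu
  have hun : hermForm 3 F 2 u u = 1 := by rw [hu, herm_act, herm_single_self hF]
  have hun' : hermForm 3 F 2 (act h u) (act h u) = 1 := by rw [herm_act, hun]
  rw [show act (x * h * x⁻¹) (Pi.single 0 1) = act x (act h u) by rw [hu, act_mul, act_mul]]
  set w := act x (act h u) with hw
  have hrel : ∀ j, w j = 0 ∨ ∀ k, k ≠ j → w k = 0 := by
    intro j
    have hj : hermForm 3 F 2 (act x⁻¹ (e j)) (act x⁻¹ (e j)) = 1 := by rw [herm_act, herm_single_self hF]
    have hk : κ (act h u) = κ (act x⁻¹ (e j)) := by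
      rw [kappa_mem hF hh, kappa_iff hF hun hj, hu, herm_act]
      by_cases h0 : j = 0
      · exact Or.inr ⟨1, by rw [h0, one_smul]⟩
      · exact Or.inl (by rw [herm_single_right hF]; simp [e, h0])
    rcases (kappa_iff hF hun' hj).1 hk with h1 | ⟨c, h1⟩
    · left
      rw [← herm_act x, act_act_inv, ← hw, herm_single_right hF] at h1
      exact h1
    · right
      intro k hkj
      rw [hw, h1, act_smul, act_act_inv]
      simp [e, hkj]
  obtain ⟨j, hj⟩ : ∃ j, w j ≠ 0 := by
    refine Function.ne_iff.1 (fun h0 => ?_ : w ≠ 0)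
    have : hermForm 3 F 2 w w = 1 := by rw [hw, herm_act, hun']
    rw [h0, herm_zero_left] at this
    exact zero_ne_one this
  exact kappa_zero_of_single ((hrel j).resolve_left hj)

theorem index_four (hF : Fintype.card F = 2 ^ 2) : (H F).index = 4 := by
  let c : SU 3 F 2 ⧸ H F → F := fun z => Quotient.liftOn' z (fun x => κ (act x⁻¹ (Pi.single 0 1)))
    (fun a b hab => by
      rw [QuotientGroup.leftRel_apply] at hab
      have := kappa_mem hF (inv_mem hab) (act a⁻¹ (Pi.single 0 1))
      show κ _ = κ _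
      rw [← this, ← act_mul]
      congr 2
      group)
  have hb : Function.Bijective c := by
    constructor
    · intro z w
      induction z using QuotientGroup.induction_on with | _ a => ?_
      induction w using QuotientGroup.induction_on with | _ b => ?_
      intro h
      have h' : κ (act a⁻¹ (Pi.single 0 1)) = κ (act b⁻¹ (Pi.single 0 1)) := h
      rw [QuotientGroup.eq]
      have hN := H_normal hF
      have hab : a * b⁻¹ ∈ H F := by
        refine mem_of_kappa hF ?_
        rw [act_mul]
        set u := act a⁻¹ (Pi.single 0 1)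
        set w := act b⁻¹ (Pi.single 0 1)
        rcases (kappa_iff hF (u := w) (v := u) (by rw [herm_act, herm_single_self hF])
          (by rw [herm_act, herm_single_self hF])).1 h'.symm with h1 | ⟨k, h1⟩
        · have hn : hermForm 3 F 2 (act a w) (act a w) = 1 := by rw [herm_act, herm_act, herm_single_self hF]
          rw [← herm_act a, act_act_inv, herm_single_right hF] at h1
          simp [κ, h1]
        · rw [h1, act_smul, act_act_inv]
          simp [κ]
      have := hN.mem_comm hab
      have := inv_mem this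
      simpa using hN.mem_comm (by simpa using hab : a * b⁻¹ ∈ H F) |> inv_mem
    · intro p
      obtain ⟨v, hv, hk⟩ : ∃ v : Fin 3 → F, hermForm 3 F 2 v v = 1 ∧ κ v = p := by
        by_cases hp : p = 0
        · exact ⟨Pi.single 0 1, herm_single_self hF _, by rw [hp]; simp [κ]⟩
        · refine ⟨![1, 1, p], ?_, by simp [κ]⟩
          rw [herm_three]
          simp
          linear_combination cube hF hp + two_zero hF
      obtain ⟨g, hg⟩ := trans_norm hF (by omega : 2 ≤ 3) (u := Pi.single 0 (1 : F)) (v := v)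
        (by rw [herm_single_self hF, hv]) (by rw [herm_single_self hF]; exact one_ne_zero)
      exact ⟨((g⁻¹ : SU 3 F 2) : SU 3 F 2 ⧸ H F), by
        show κ (act g⁻¹⁻¹ _) = p
        rw [inv_inv, hg, hk]⟩
  rw [Subgroup.index, Nat.card_congr (Equiv.ofBijective c hb), Nat.card_eq_fintype_card, hF]
  norm_num

/-- An element of `SU 4` centralising both pair blocks of a triple is central in that triple. -/
theorem centralizer_blocks (hF : Fintype.card F = 2 ^ 2) (k : ℕ) (hk : k + 3 ≤ 4) {u : SU 4 F 2}
    (h0 : ∀ x, Commute (emb k hk (B0 x)) u) (h1 : ∀ x, Commute (emb k hk (B1 x)) u) :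
    ∃ z : SU 3 F 2, emb k hk z = u ∧ z ∈ Subgroup.center (SU 3 F 2) ∧ z ∈ H F ∧ z ^ 3 = 1 := by
  obtain ⟨w, hw⟩ := exists_root hF
  have hwq : w * w ^ 2 = 1 := by rw [← pow_succ', hw.pow_eq_one]
  have hw1 : w ≠ 1 := hw.ne_one (by omega)
  have hw0 : w ≠ 0 := hw.ne_zero (by omega)
  have hw2 : w ^ 2 ≠ 1 := fun h => hw1 (by rw [h, mul_one] at hwq; exact hwq)
  have hw12 : w ≠ w ^ 2 := fun h => hw1 (mul_left_cancel₀ hw0 (by rw [mul_one, ← pow_two]; exact h.symm))
  set d : SU 2 F 2 := mk2 hF w 0 (by rw [zero_mul, add_zero, hwq]) with hd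
  obtain ⟨o, ho, hout⟩ : ∃ o : Fin 4, ¬ InR k 3 o ∧ ∀ j : Fin 4, ¬ InR k 3 j → j = o := by
    rcases Nat.eq_zero_or_pos k with rfl | hk0
    · exact ⟨3, by simp [InR], fun j => by fin_cases j <;> simp [InR]⟩
    · obtain rfl : k = 1 := by omega
      exact ⟨0, by simp [InR], fun j => by fin_cases j <;> simp [InR]⟩
  -- the two diagonal elements
  have hdiag : ∀ (z : SU 3 F 2) (a : Fin 3 → F), mat z = Matrix.diagonal a → ∀ i : Fin 3,
      act (emb k hk z) (Pi.single (idx k hk i) 1) = a i • Pi.single (idx k hk i) 1 := by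
    intro z a hz i
    refine vec_ext k hk (fun j => ?_) fun j hj => ?_
    · rw [act_emb_single, hz]
      simp [Matrix.diagonal_apply, Pi.single_apply, (idx_inj k hk).eq_iff]
      split_ifs with h <;> simp [h]
    · have : idx k hk i ≠ j := fun e => hj (e ▸ inR_idx k hk i)
      rw [emb_out k hk z _ hj]
      simp [this.symm]
  have e0 : mat (B0 d) = Matrix.diagonal ![w, w ^ 2, 1] := by
    rw [mat_B0, hd, mat_mk2]
    refine Matrix.ext fun i j => ?_
    fin_cases i <;> fin_cases j <;> simp
  have e1 : mat (B1 d) = Matrix.diagonal ![1, w, w ^ 2] := by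
    rw [mat_B1, hd, mat_mk2]
    refine Matrix.ext fun i j => ?_
    fin_cases i <;> fin_cases j <;> simp
  have full : ∀ (z : SU 3 F 2) (a : Fin 3 → F), mat z = Matrix.diagonal a → ∀ j : Fin 4,
      act (emb k hk z) (Pi.single j 1) =
        (if h : InR k 3 j then a ⟨j - k, by obtain ⟨a', b'⟩ := h; omega⟩ else 1) • Pi.single j 1 := by
    intro z a hz j
    by_cases h : InR k 3 j
    · rw [dif_pos h]
      obtain ⟨h', h''⟩ := h
      have := hdiag z a hz ⟨j - k, by omega⟩
      rwa [show idx k hk ⟨(j : ℕ) - k, by omega⟩ = j from Fin.ext (by simp [idx]; omega)] at this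
    · rw [dif_neg h, one_smul, emb_fix k hk z h]
  have offdiag : ∀ i j : Fin 4, i ≠ j → act u (Pi.single j 1) i = 0 := by
    intro i j hij
    have a0 := full _ _ e0
    have a1 := full _ _ e1
    by_contra hne
    have b0 : _ = _ := not_imp_comm.1 (act_apply_eq_zero (i := i) (j := j) a0 (h0 d)) hne
    have b1 : _ = _ := not_imp_comm.1 (act_apply_eq_zero (i := i) (j := j) a1 (h1 d)) hne
    rcases Nat.eq_zero_or_pos k with rfl | hk0
    · fin_cases i <;> fin_cases j <;>
        simp [InR, hw1, hw2, hw12, Ne.symm hw1, Ne.symm hw2, Ne.symm hw12] at b0 b1 hij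
    · obtain rfl : k = 1 := by omega
      fin_cases i <;> fin_cases j <;>
        simp [InR, hw1, hw2, hw12, Ne.symm hw1, Ne.symm hw2, Ne.symm hw12] at b0 b1 hij
  set χ : Fin 4 → F := fun j => act u (Pi.single j 1) j with hχ
  have hcol : ∀ j, act u (Pi.single j 1) = χ j • Pi.single j 1 := fun j => by
    funext i
    by_cases hij : i = j
    · subst hij; simp [hχ]
    · simp [hij, offdiag i j hij]
  have hs : ∀ (z : SU 3 F 2) (i j : Fin 3), act z (Pi.single j 1) = Pi.single i 1 →
      Commute (emb k hk z) u → χ (idx k hk i) = χ (idx k hk j) := by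
    intro z i j hz hc
    have hz' : act (emb k hk z) (Pi.single (idx k hk j) 1) = Pi.single (idx k hk i) 1 := by
      refine vec_ext k hk (fun l => ?_) fun l hl => ?_
      · rw [act_emb_single, mat_apply, hz]
        simp [Pi.single_apply, (idx_inj k hk).eq_iff]
      · have n1 : idx k hk j ≠ l := fun e => hl (e ▸ inR_idx k hk j)
        have n2 : idx k hk i ≠ l := fun e => hl (e ▸ inR_idx k hk i)
        rw [emb_out k hk z _ hl]
        simp [n1.symm, n2.symm]
    have h := congrArg (fun g : SU 4 F 2 => act g (Pi.single (idx k hk j) 1) (idx k hk i)) hc.eq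
    simp only [act_mul, hcol, hz', act_smul] at h
    simpa using h.symm
  have hs01 : act (B0 (sw hF)) (Pi.single 1 1) = Pi.single (0 : Fin 3) (1 : F) := by
    funext j
    rw [← mat_apply, mat_B0, mat_mk2]
    fin_cases j <;> simp
  have hs12 : act (B1 (sw hF)) (Pi.single 2 1) = Pi.single (1 : Fin 3) (1 : F) := by
    funext j
    rw [← mat_apply, mat_B1, mat_mk2]
    fin_cases j <;> simp
  have c01 := hs _ _ _ hs01 (h0 _)
  have c12 := hs _ _ _ hs12 (h1 _)
  set l := χ (idx k hk 0) with hl
  have hln : l ^ 3 = 1 := by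
    have h := herm_act u (Pi.single (idx k hk 0) 1) (Pi.single (idx k hk 0) 1)
    rw [hcol, ← hl, herm_smul_self, herm_single_self hF, mul_one] at h
    linear_combination h
  have hmat : mat u = Matrix.diagonal χ := Matrix.ext fun i j => by
    rw [mat_apply, hcol, Matrix.diagonal_apply]
    by_cases hij : i = j
    · subst hij; simp
    · simp [hij]
  have hdet : ∏ j, χ j = 1 := by
    have h : (mat u).det = 1 := u.1.2
    rwa [hmat, Matrix.det_diagonal] at h
  have hchio : χ o = 1 := by
    rw [Fin.prod_univ_four] at hdet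
    rcases Nat.eq_zero_or_pos k with rfl | hk0
    · obtain rfl : o = 3 := (hout 3 (by simp [InR])).symm
      have a1 : χ 1 = l := c01.symm
      have a2 : χ 2 = l := c12.symm.trans a1
      have a0 : χ 0 = l := rfl
      rw [a0, a1, a2] at hdet
      linear_combination hdet - χ 3 * hln
    · obtain rfl : k = 1 := by omega
      obtain rfl : o = 0 := (hout 0 (by simp [InR])).symm
      have a1 : χ 1 = l := rfl
      have a2 : χ 2 = l := c01.symm
      have a3 : χ 3 = l := c12.symm.trans a2
      rw [a1, a2, a3] at hdet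
      linear_combination hdet - χ 0 * hln
  obtain ⟨z, hz⟩ := exists_emb hF k hk u (fun j hj => by rw [hout j hj, hcol, hchio, one_smul])
  have hall : ∀ i, χ (idx k hk i) = l := fun i => by
    fin_cases i
    · rfl
    · exact c01.symm
    · exact c12.symm.trans c01.symm
  have hzl : ∀ v, act z v = l • v := fun v => by
    conv_lhs => rw [vec_sum v, act_sum]
    conv_rhs => rw [vec_sum v, Finset.smul_sum]
    refine Finset.sum_congr rfl fun i _ => ?_
    rw [act_smul, smul_comm]
    congr 1
    funext r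
    rw [← mat_apply, ← act_emb_single k hk z r i, hz, hcol, hall]
    simp [Pi.single_apply, (idx_inj k hk).eq_iff]
  refine ⟨z, hz, Subgroup.mem_center_iff.2 fun g => su_ext fun v => by
    rw [act_mul, act_mul, hzl, hzl, act_smul], mem_of_kappa hF ?_, su_ext fun v => ?_⟩
  · rw [hzl]; simp [κ]
  · rw [pow_eigen (hzl v), hln, one_smul, act_one]

/-- A homomorphism agreeing with the standard one on both blocks is the standard one. -/
theorem eq_emb (hF : Fintype.card F = 2 ^ 2) (k : ℕ) (hk : k + 3 ≤ 4) (h : SU 3 F 2 →* SU 4 F 2)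
    (h0 : ∀ x, h (B0 x) = emb k hk (B0 x)) (h1 : ∀ x, h (B1 x) = emb k hk (B1 x)) : h = emb k hk := by
  have hH : ∀ y ∈ H F, h y = emb k hk y := by
    intro y hy
    have : H F ≤ h.eqLocus (emb k hk) := sup_le (by rintro _ ⟨x, rfl⟩; exact h0 x) (by rintro _ ⟨x, rfl⟩; exact h1 x)
    exact this hy
  have hN := H_normal hF
  have hcomm : ∀ x, ∀ y ∈ H F, Commute (emb k hk y) ((h x)⁻¹ * emb k hk x) := by
    intro x y hy
    have e := hH _ (hN.conj_mem y hy x)
    rw [map_mul, map_mul, map_mul, map_mul, map_inv, map_inv, hH y hy] at e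
    show _ * _ = _ * _
    calc emb k hk y * ((h x)⁻¹ * emb k hk x)
        = (h x)⁻¹ * (h x * emb k hk y * (h x)⁻¹) * emb k hk x := by group
      _ = (h x)⁻¹ * (emb k hk x * emb k hk y * (emb k hk x)⁻¹) * emb k hk x := by rw [e]
      _ = _ := by group
  choose z hz hzc hzH hz3 using fun x =>
    centralizer_blocks hF k hk (fun a => hcomm x _ (B0_mem a)) (fun a => hcomm x _ (B1_mem a))
  let c : SU 3 F 2 →* SU 3 F 2 :=
    { toFun := z
      map_one' := emb_injective k hk (by rw [hz, map_one]; simp)
      map_mul' := fun a b => emb_injective k hk (by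
        rw [hz, map_mul (emb k hk) (z a) (z b), hz b, map_mul, map_mul, mul_inv_rev]
        have e1 : Commute (emb k hk (z a)) (h b)⁻¹ := by
          rw [← hH _ (hzH a), ← map_inv]
          exact Commute.map (show Commute (z a) b⁻¹ from (Subgroup.mem_center_iff.1 (hzc a) b⁻¹).symm) h
        calc (h b)⁻¹ * (h a)⁻¹ * (emb k hk a * emb k hk b)
            = (h b)⁻¹ * ((h a)⁻¹ * emb k hk a) * emb k hk b := by group
          _ = (h b)⁻¹ * emb k hk (z a) * emb k hk b := by rw [hz]
          _ = emb k hk (z a) * (h b)⁻¹ * emb k hk b := by rw [e1.eq]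
          _ = emb k hk (z a) * ((h b)⁻¹ * emb k hk b) := by group) }
  refine MonoidHom.ext fun x => ?_
  have hker : H F ≤ c.ker := fun y hy => emb_injective k hk (by
    show emb k hk (z y) = emb k hk 1
    rw [hz, hH y hy, map_one, inv_mul_cancel])
  have h4 : x ^ 4 ∈ H F := by
    have := hN
    rw [← index_four hF]
    exact Subgroup.pow_index_mem _ x
  have hc4 : z x ^ 4 = 1 := by
    have := hker h4
    rw [MonoidHom.mem_ker, map_pow] at this
    exact this
  have hz1 : z x = 1 := by
    have e : z x ^ 4 = z x ^ 3 * z x := pow_succ _ _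
    rw [hz3, one_mul, hc4] at e
    exact e.symm
  have := hz x
  rw [hz1, map_one] at this
  exact (inv_mul_eq_one.1 this.symm)

end Cfsg.Agent.PhanFourTwo47
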