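import Cfsg.Agent.Lib.PhanAlign47

/-!
A weak Phan system gives a surjection from the special unitary group, given the case of four coordinates
and the commutation of far apart blocks.
-/

set_option autoImplicit false
set_option linter.unusedSectionVars false

namespace Cfsg.Agent.PhanAlign47

open Cfsg Cfsg.Agent.OrthUnitaryHerm Cfsg.Agent.OrthUnitaryTransvection Cfsg.Agent.PhanBlocks47
open Cfsg.Agent.PhanChain47

universe u v

variable {F : Type u} [Field F] [Fintype F] {q : ℕ} {G : Type v} [Group G]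

/-- Every element of `SU 3` commutes into the centraliser once the two blocks do, `q ≥ 3`. -/
theorem commute_of_blocks (hF : Fintype.card F = q ^ 2) (hq : 3 ≤ q) (f : SU 3 F q →* G) (z : G)
    (h0 : ∀ x, Commute z (f (B0 x))) (h1 : ∀ x, Commute z (f (B1 x))) (y : SU 3 F q) : Commute z (f y) := by
  have h : (⊤ : Subgroup (SU 3 F q)) ≤ (Subgroup.centralizer {z}).comap f := by
    rw [← gen_first (q := q) hF (k := 2) (le_refl 2) (Or.inr hq)]
    refine sup_le ?_ ?_ <;> rintro _ ⟨x, rfl⟩ <;> show f _ ∈ Subgroup.centralizer {z} <;>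
      rw [Subgroup.mem_centralizer_singleton_iff]
    · exact (h0 x).eq.symm
    · exact (h1 x).eq.symm
  exact (Subgroup.mem_centralizer_singleton_iff.1 (h (Subgroup.mem_top y))).symm

/-- The chain of a coherent family of standard homomorphisms. -/
theorem exists_chain (hF : Fintype.card F = q ^ 2) {n : ℕ} (hn : 2 ≤ n) (U : Fin n → Subgroup G)
    (V : Fin n → Fin n → Subgroup G)
    (h1 : ∀ i j : Fin n, (i : ℕ) + 2 ≤ j → ∀ x ∈ U i, ∀ y ∈ U j, x * y = y * x)
    (h2 : ∀ i j : Fin n, (i : ℕ) + 1 = j → IsStandardUnitaryPair (V i j) (U i) (U j) F q)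
    (hfar : 3 ≤ q ∨
      ((∀ i j k : Fin n, (j : ℕ) + 1 = k → ((i : ℕ) + 2 ≤ j ∨ (k : ℕ) + 2 ≤ i) →
          ∀ x ∈ U i, ∀ y ∈ V j k, x * y = y * x) ∧
        ∀ i j k l : Fin n, (i : ℕ) + 1 = j → (k : ℕ) + 1 = l → (j : ℕ) + 2 ≤ k →
          ∀ x ∈ V i j, ∀ y ∈ V k l, x * y = y * x)) :
    ∃ C : Chain F q (n + 1) G, (∀ i : Fin n, (C.ψ i (by omega)).range = U i) ∧
      (∀ (i j : Fin n) (hij : (i : ℕ) + 1 = j), (C.f i (by omega)).range = V i j) ∧
      ∀ (k : ℕ) (hk : k + 3 ≤ n + 1), Std (C.f k hk) := by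
  classical
  obtain ⟨f, hf, hco⟩ := exists_family hF U V h1 h2
  let ψ : ∀ k : ℕ, k + 2 ≤ n + 1 → (SU 2 F q →* G) := fun k h =>
    if h' : k + 1 < n then (f k h').comp B0 else (f (k - 1) (by omega)).comp B1
  have hψ1 : ∀ (k : ℕ) (h : k + 1 < n) (h' : k + 1 + 2 ≤ n + 1), (f k h).comp B1 = ψ (k + 1) h' := by
    intro k h h'
    by_cases hk : k + 1 + 1 < n
    · simp only [ψ, dif_pos hk]
      exact MonoidHom.ext (hco k hk)
    · simp only [ψ, dif_neg hk, Nat.add_sub_cancel]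
  have hψU : ∀ (k : ℕ) (h : k + 2 ≤ n + 1), (ψ k h).range = U ⟨k, by omega⟩ := by
    intro k h
    by_cases hk : k + 1 < n
    · simp only [ψ, dif_pos hk]
      exact (hf k hk).2.2.1
    · simp only [ψ, dif_neg hk]
      rw [(hf (k - 1) (by omega)).2.2.2]
      exact congrArg U (Fin.ext (by simp; omega))
  have hc22 : ∀ (i j : ℕ) (hi : i + 2 ≤ n + 1) (hj : j + 2 ≤ n + 1), i + 2 ≤ j →
      ∀ a b, Commute (ψ i hi a) (ψ j hj b) := fun i j hi hj hij a b =>
    h1 ⟨i, by omega⟩ ⟨j, by omega⟩ hij _ ((hψU i hi).le ⟨a, rfl⟩) _ ((hψU j hj).le ⟨b, rfl⟩)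
  have hψ0 : ∀ (k : ℕ) (h : k + 1 < n) (h' : k + 2 ≤ n + 1), (f k h).comp B0 = ψ k h' := fun k h h' => by
    simp only [ψ, dif_pos h]
  have hc23 : ∀ (i j : ℕ) (hi : i + 2 ≤ n + 1) (hj : j + 3 ≤ n + 1), (i + 2 ≤ j ∨ j + 3 ≤ i) →
      ∀ a b, Commute (ψ i hi a) (f j (by omega) b) := by
    intro i j hi hj hij a b
    rcases hfar with hq | ⟨h5, -⟩
    · refine commute_of_blocks hF hq (f j (by omega)) _ (fun x => ?_) (fun x => ?_) b
      · rw [show f j (by omega) (B0 x) = ψ j (by omega) x from DFunLike.congr_fun (hψ0 j (by omega) (by omega)) x]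
        rcases hij with h | h
        · exact hc22 i j hi (by omega) h a x
        · exact (hc22 j i (by omega) hi (by omega) x a).symm
      · rw [show f j (by omega) (B1 x) = ψ (j + 1) (by omega) x from
          DFunLike.congr_fun (hψ1 j (by omega) (by omega)) x]
        rcases hij with h | h
        · exact hc22 i (j + 1) hi (by omega) (by omega) a x
        · exact (hc22 (j + 1) i (by omega) hi (by omega) x a).symm
    · exact h5 ⟨i, by omega⟩ ⟨j, by omega⟩ ⟨j + 1, by omega⟩ rfl (by simp; omega) _ ((hψU i hi).le ⟨a, rfl⟩)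
        _ ((hf j (by omega)).2.1.le ⟨b, rfl⟩)
  refine ⟨⟨hF, ψ, fun k h => f k (by omega), fun k h a => DFunLike.congr_fun (hψ0 k (by omega) (by omega)) a,
    fun k h a => DFunLike.congr_fun (hψ1 k (by omega) (by omega)) a, hc22, hc23, ?_⟩, fun i => hψU i (by omega),
    fun i j hij => ?_, fun k hk => (hf k (by omega)).1⟩
  · intro i j hi hj hij a b
    rcases hfar with hq | ⟨-, h6⟩
    · refine commute_of_blocks hF hq (f j (by omega)) _ (fun x => ?_) (fun x => ?_) b
      · rw [show f j (by omega) (B0 x) = ψ j (by omega) x from DFunLike.congr_fun (hψ0 j (by omega) (by omega)) x]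
        exact (hc23 j i (by omega) hi (Or.inr hij) x a).symm
      · rw [show f j (by omega) (B1 x) = ψ (j + 1) (by omega) x from
          DFunLike.congr_fun (hψ1 j (by omega) (by omega)) x]
        exact (hc23 (j + 1) i (by omega) hi (Or.inr (by omega)) x a).symm
    · exact h6 ⟨i, by omega⟩ ⟨i + 1, by omega⟩ ⟨j, by omega⟩ ⟨j + 1, by omega⟩ rfl rfl (by simp; omega)
        _ ((hf i (by omega)).2.1.le ⟨a, rfl⟩) _ ((hf j (by omega)).2.1.le ⟨b, rfl⟩)
  · obtain ⟨j, hj⟩ := j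
    simp only at hij
    subst hij
    exact (hf i (by omega)).2.1

/-- The homomorphism onto the generated group. -/
theorem exists_surjection {n : ℕ} (hn : 2 ≤ n) (U : Fin n → Subgroup G) (V : Fin n → Fin n → Subgroup G)
    (hgen : (⨆ i, U i) ⊔ (⨆ (i : Fin n) (j : Fin n) (_ : (i : ℕ) + 1 = j), V i j) = ⊤)
    (C : Chain F q (n + 1) G) (hψ : ∀ i : Fin n, (C.ψ i (by omega)).range = U i)
    (hf : ∀ (i j : Fin n) (hij : (i : ℕ) + 1 = j), (C.f i (by omega)).range = V i j)
    (hbase : 4 ≤ q ∨ ∀ a, a + 4 ≤ n + 1 → ∃ φ : SU 4 F q →* G, Good C a φ) :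
    ∃ φ : SU (n + 1) F q →* G, Function.Surjective φ := by
  obtain ⟨φ, hp, ht⟩ := exists_hom C (by omega) hbase
  refine ⟨φ, MonoidHom.range_eq_top.1 (top_le_iff.1 (hgen ▸ sup_le (iSup_le fun i => ?_)
    (iSup_le fun i => iSup_le fun j => iSup_le fun hij => ?_)))⟩
  · rw [← hψ i]; exact hp _ _
  · rw [← hf i j hij]; exact ht _ _

end Cfsg.Agent.PhanAlign47
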