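import Mathlib
import Cfsg.Agent.S4106

/-!
Classes of elements whose order involves only primes from a finite set (helper53):
basic counting lemmas for the many-classes criterion for nilpotent Hall subgroups.
-/

set_option autoImplicit false

namespace Cfsg.Agent.PiClassHall53

/-- All prime divisors of the order of `g` lie in `σ`. -/
def IsS {X : Type*} [Monoid X] (σ : Finset ℕ) (g : X) : Prop :=
  ∀ q : ℕ, q.Prime → q ∣ orderOf g → q ∈ σ

/-- The number of classes of `σ`-elements. -/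
noncomputable def kcl (σ : Finset ℕ) (X : Type*) [Group X] : ℕ :=
  Nat.card {C : ConjClasses X // ∃ g, ConjClasses.mk g = C ∧ IsS σ g}

/-- The `σ`-part of a number. -/
def mpi (σ : Finset ℕ) (n : ℕ) : ℕ := ∏ q ∈ σ, q ^ n.factorization q

section basic

variable {X : Type*} [Group X]

theorem IsS.mono {σ τ : Finset ℕ} {g : X} (h : IsS σ g) (hst : σ ⊆ τ) : IsS τ g :=
  fun q hq hd => hst (h q hq hd)

theorem IsS.conj {σ : Finset ℕ} {g : X} (h : IsS σ g) (a : X) : IsS σ (a * g * a⁻¹) := by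
  have : orderOf (a * g * a⁻¹) = orderOf g := MulEquiv.orderOf_eq (MulAut.conj a) g
  intro q hq hd
  exact h q hq (this ▸ hd)

theorem IsS.of_mk_eq {σ : Finset ℕ} {g h : X} (hg : IsS σ g)
    (e : ConjClasses.mk g = ConjClasses.mk h) : IsS σ h := by
  obtain ⟨a, rfl⟩ := isConj_iff.1 (ConjClasses.mk_eq_mk_iff_isConj.1 e)
  exact hg.conj a

theorem isS_coe {H : Subgroup X} {σ : Finset ℕ} {g : H} : IsS σ (g : X) ↔ IsS σ g := by
  simp only [IsS, Subgroup.orderOf_coe]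

theorem mk_conj (g a : X) : ConjClasses.mk (a * g * a⁻¹) = ConjClasses.mk g :=
  (ConjClasses.mk_eq_mk_iff_isConj.2 (isConj_iff.2 ⟨a, rfl⟩)).symm

theorem kcl_le_of_cover [Finite X] {α : Type*} [Finite α] (σ : Finset ℕ)
    (f : α → ConjClasses X)
    (h : ∀ g : X, IsS σ g → ∃ a, f a = ConjClasses.mk g) :
    kcl σ X ≤ Nat.card (Set.range f) := by
  refine Nat.card_le_card_of_injective
    (fun C => ⟨C.1, by obtain ⟨g, hg, hs⟩ := C.2; exact hg ▸ h g hs⟩) ?_
  intro a b e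
  exact Subtype.ext (congrArg Subtype.val e : _)

theorem kcl_le_card [Finite X] {α : Type*} [Finite α] (σ : Finset ℕ)
    (f : α → ConjClasses X)
    (h : ∀ g : X, IsS σ g → ∃ a, f a = ConjClasses.mk g) :
    kcl σ X ≤ Nat.card α :=
  (kcl_le_of_cover σ f h).trans (Finite.card_range_le f)

theorem kcl_le_mpi [Finite X] (σ : Finset ℕ) (hσ : ∀ q ∈ σ, q.Prime) :
    kcl σ X ≤ mpi σ (Nat.card X) := by
  refine le_trans ?_ (S4106.bound σ X hσ)
  refine Nat.card_le_card_of_injective (fun C => ⟨C.1, ?_⟩) ?_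
  · intro q hq ⟨g, hg, hd⟩
    obtain ⟨g', hg', hs⟩ := C.2
    exact hs.of_mk_eq (hg'.trans hg.symm) q hq hd
  · intro a b e
    exact Subtype.ext (congrArg Subtype.val e : _)

theorem kcl_congr {Y : Type*} [Group Y] [Finite X] [Finite Y] (e : X ≃* Y) (σ : Finset ℕ) :
    kcl σ Y ≤ kcl σ X := by
  refine kcl_le_card σ
    (fun C : {C : ConjClasses X // ∃ g, ConjClasses.mk g = C ∧ IsS σ g} =>
      ConjClasses.map e.toMonoidHom C.1) fun g hg => ?_
  refine ⟨⟨ConjClasses.mk (e.symm g), e.symm g, rfl, ?_⟩, ?_⟩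
  · intro q hq hd
    exact hg q hq (MulEquiv.orderOf_eq e.symm g ▸ hd)
  · show ConjClasses.mk (e (e.symm g)) = _
    rw [e.apply_symm_apply]

/-- Conjugate elements have centralisers with the same class numbers. -/
theorem kcl_centralizer_conj [Finite X] (σ : Finset ℕ) (x a : X) :
    kcl σ (Subgroup.centralizer ({a * x * a⁻¹} : Set X)) ≤
      kcl σ (Subgroup.centralizer ({x} : Set X)) := by
  have key : (Subgroup.centralizer ({x} : Set X)).map (MulAut.conj a).toMonoidHom =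
      Subgroup.centralizer ({a * x * a⁻¹} : Set X) := by
    ext y
    simp only [Subgroup.mem_map, Subgroup.mem_centralizer_singleton_iff, MulEquiv.coe_toMonoidHom,
      MulAut.conj_apply]
    constructor
    · rintro ⟨z, hz, rfl⟩
      calc a * z * a⁻¹ * (a * x * a⁻¹) = a * (z * x) * a⁻¹ := by group
        _ = a * (x * z) * a⁻¹ := by rw [hz]
        _ = _ := by group
    · intro h
      refine ⟨a⁻¹ * y * a, ?_, by group⟩
      calc a⁻¹ * y * a * x = a⁻¹ * (y * (a * x * a⁻¹)) * a := by group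
        _ = a⁻¹ * ((a * x * a⁻¹) * y) * a := by rw [h]
        _ = _ := by group
  exact kcl_congr ((Subgroup.equivMapOfInjective _ (MulAut.conj a).toMonoidHom
    (MulAut.conj a).injective).trans (MulEquiv.subgroupCongr key)) σ

end basic

section arith

variable {σ τ : Finset ℕ} {n : ℕ}

theorem mpi_pos (hσ : ∀ q ∈ σ, q.Prime) : 0 < mpi σ n :=
  Finset.prod_pos fun q hq => pow_pos (hσ q hq).pos _

theorem mpi_union (h : Disjoint σ τ) : mpi (σ ∪ τ) n = mpi σ n * mpi τ n :=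
  Finset.prod_union h

theorem mpi_singleton (q : ℕ) : mpi {q} n = q ^ n.factorization q := Finset.prod_singleton _ _

theorem prime_dvd_mpi (hσ : ∀ q ∈ σ, q.Prime) {r : ℕ} (hr : r.Prime) (h : r ∣ mpi σ n) :
    r ∈ σ := by
  obtain ⟨q, hq, hd⟩ := (hr.prime.dvd_finsetProd_iff _).1 h
  exact (Nat.prime_dvd_prime_iff_eq hr (hσ q hq)).1 (hr.dvd_of_dvd_pow hd) ▸ hq

theorem mpi_dvd (hσ : ∀ q ∈ σ, q.Prime) : mpi σ n ∣ n := by
  induction σ using Finset.induction with
  | empty => simp [mpi]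
  | insert q s hqs ih =>
    have hs : ∀ x ∈ s, x.Prime := fun x hx => hσ x (Finset.mem_insert_of_mem hx)
    have hq := hσ q (Finset.mem_insert_self q s)
    rw [mpi, Finset.prod_insert hqs]
    exact Nat.Coprime.mul_dvd_of_dvd_of_dvd
      (((Nat.Prime.coprime_iff_not_dvd hq).2 fun hd => hqs (prime_dvd_mpi hs hq hd)).pow_left _)
      (Nat.ordProj_dvd n q) (ih hs)

theorem mpi_coprime_of_notMem (hσ : ∀ q ∈ σ, q.Prime) {r : ℕ} (hr : r.Prime) (h : r ∉ σ) (k : ℕ) :
    (r ^ k).Coprime (mpi σ n) :=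
  ((Nat.Prime.coprime_iff_not_dvd hr).2 fun hd => h (prime_dvd_mpi hσ hr hd)).pow_left _

theorem mpi_dvd_mpi {d : ℕ} (h : d ∣ n) (hn : n ≠ 0) : mpi σ d ∣ mpi σ n :=
  Finset.prod_dvd_prod_of_dvd _ _ fun q _ =>
    pow_dvd_pow q ((Nat.factorization_le_iff_dvd (ne_zero_of_dvd_ne_zero hn h) hn).2 h q)

theorem mpi_factorization (hσ : ∀ q ∈ σ, q.Prime) {q : ℕ} (hq : q ∈ σ) :
    (mpi σ n).factorization q = n.factorization q := by
  rw [mpi, ← Finset.insert_erase hq, Finset.prod_insert (Finset.notMem_erase q σ)]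
  have hpos : 0 < ∏ x ∈ σ.erase q, x ^ n.factorization x :=
    mpi_pos fun x hx => hσ x (Finset.mem_of_mem_erase hx)
  rw [Nat.factorization_mul (pow_ne_zero _ (hσ q hq).ne_zero) hpos.ne', Finsupp.add_apply,
    (hσ q hq).factorization_pow, Finsupp.single_eq_same,
    Nat.factorization_eq_zero_of_not_dvd (n := ∏ x ∈ σ.erase q, x ^ n.factorization x) (p := q)
      fun hd => Finset.notMem_erase q σ
        (prime_dvd_mpi (fun x hx => hσ x (Finset.mem_of_mem_erase hx)) (hσ q hq) hd),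
    add_zero]

/-- A `σ`-number dividing `n` divides the `σ`-part of `n`. -/
theorem dvd_mpi (hσ : ∀ q ∈ σ, q.Prime) {d : ℕ} (hd : d ∣ n) (hn : n ≠ 0)
    (h : ∀ q, q.Prime → q ∣ d → q ∈ σ) : d ∣ mpi σ n := by
  have hd0 := ne_zero_of_dvd_ne_zero hn hd
  rw [← Nat.factorization_le_iff_dvd hd0 (mpi_pos hσ).ne']
  intro q
  by_cases hq : q.Prime ∧ q ∣ d
  · rw [mpi_factorization hσ (h q hq.1 hq.2)]
    exact (Nat.factorization_le_iff_dvd hd0 hn).2 hd q
  · rcases not_and_or.1 hq with h' | h'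
    · simp [Nat.factorization_eq_zero_of_not_prime d h']
    · simp [Nat.factorization_eq_zero_of_not_dvd h']

theorem mpi_self (hσ : ∀ q ∈ σ, q.Prime) {d : ℕ} (hd0 : d ≠ 0)
    (h : ∀ q, q.Prime → q ∣ d → q ∈ σ) : mpi σ d = d :=
  Nat.dvd_antisymm (mpi_dvd hσ) (dvd_mpi hσ dvd_rfl hd0 h)

/-- A proper divisor of the `σ`-part is smaller by a factor at least the least prime. -/
theorem mul_le_mpi (hσ : ∀ q ∈ σ, q.Prime) {p : ℕ} (hp : ∀ q ∈ σ, p ≤ q) {d : ℕ}
    (hd : d ∣ mpi σ n) (hne : d ≠ mpi σ n) : p * d ≤ mpi σ n := by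
  obtain ⟨c, hc⟩ := hd
  have hc1 : c ≠ 1 := fun h => hne (by rw [hc, h, mul_one])
  obtain ⟨q, hq, hqd⟩ := Nat.exists_prime_and_dvd hc1
  have hqσ : q ∈ σ := prime_dvd_mpi hσ hq (hqd.trans ⟨d, by rw [hc, mul_comm]⟩ : q ∣ mpi σ n)
  have hc0 : 0 < c := Nat.pos_of_mul_pos_left (a := d) (hc ▸ mpi_pos hσ)
  calc p * d ≤ c * d := Nat.mul_le_mul_right _ ((hp q hqσ).trans (Nat.le_of_dvd hc0 hqd))
    _ = mpi σ n := by rw [hc, mul_comm]

end arith

section decomposition

variable {X : Type*} [Group X]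

theorem exists_decomp [Finite X] {σ τ : Finset ℕ} (hσ : ∀ q ∈ σ, q.Prime) {g : X}
    (hg : IsS (σ ∪ τ) g) :
    ∃ x y : X, x * y = g ∧ Commute x y ∧ IsS σ x ∧ IsS τ y := by
  set n := orderOf g with hn
  have hn0 : n ≠ 0 := (orderOf_pos g).ne'
  set a := mpi σ n
  obtain ⟨b, hb⟩ : a ∣ n := mpi_dvd hσ
  have ha0 : a ≠ 0 := (mpi_pos hσ).ne'
  have hb0 : b ≠ 0 := by rintro rfl; exact hn0 (by rw [hb, mul_zero])
  have hbσ : ∀ q ∈ σ, ¬ q ∣ b := by
    intro q hq hd
    have h1 := mpi_factorization (n := n) hσ hq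
    have h2 := congrArg (fun k : ℕ => k.factorization q) hb
    simp only [Nat.factorization_mul ha0 hb0, Finsupp.add_apply] at h2
    have h3 := (hσ q hq).factorization_pos_of_dvd hb0 hd
    change n.factorization q = a.factorization q + b.factorization q at h2
    rw [h1] at h2
    omega
  have hcop : a.Coprime b := Nat.coprime_of_dvd fun q hq h1 h2 =>
    hbσ q (prime_dvd_mpi hσ hq h1) h2
  have hbez : (1 : ℤ) = a * a.gcdA b + b * a.gcdB b := by
    rw [← Nat.gcd_eq_gcd_ab, hcop.gcd_eq_one]; rfl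
  set x := g ^ ((b : ℤ) * a.gcdB b) with hx
  set y := g ^ ((a : ℤ) * a.gcdA b) with hy
  refine ⟨x, y, ?_, (Commute.refl g).zpow_zpow _ _, ?_, ?_⟩
  · rw [hx, hy, ← zpow_add, add_comm, ← hbez, zpow_one]
  · intro q hq hd
    refine prime_dvd_mpi (n := n) hσ hq (hd.trans (orderOf_dvd_of_pow_eq_one ?_))
    show x ^ a = 1
    rw [hx, ← zpow_natCast, ← zpow_mul, ← orderOf_dvd_iff_zpow_eq_one, ← hn, hb, Nat.cast_mul]
    exact ⟨a.gcdB b, by ring⟩
  · intro q hq hd
    have hqb : q ∣ b := hd.trans (orderOf_dvd_of_pow_eq_one (by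
      rw [hy, ← zpow_natCast, ← zpow_mul, ← orderOf_dvd_iff_zpow_eq_one, ← hn, hb, Nat.cast_mul]
      exact ⟨a.gcdA b, by ring⟩))
    rcases Finset.mem_union.1 (hg q hq (hqb.trans ⟨a, by rw [← hn, hb, mul_comm]⟩)) with h | h
    · exact absurd hqb (hbσ q h)
    · exact h

/-- A chosen element of a class. -/
noncomputable def crep (C : ConjClasses X) : X := C.exists_rep.choose

theorem mk_crep (C : ConjClasses X) : ConjClasses.mk (crep C) = C := C.exists_rep.choose_spec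

theorem gen [Finite X] {σ τ : Finset ℕ} (hσ : ∀ q ∈ σ, q.Prime)
    [Fintype {C : ConjClasses X // ∃ g, ConjClasses.mk g = C ∧ IsS σ g}] :
    kcl (σ ∪ τ) X ≤ ∑ C : {C : ConjClasses X // ∃ g, ConjClasses.mk g = C ∧ IsS σ g},
      kcl τ (Subgroup.centralizer ({crep C.1} : Set X)) := by
  unfold kcl
  rw [← Nat.card_sigma]
  refine kcl_le_card (σ ∪ τ)
    (fun z : Σ C : {C : ConjClasses X // ∃ g, ConjClasses.mk g = C ∧ IsS σ g},
      {D : ConjClasses (Subgroup.centralizer ({crep C.1} : Set X)) //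
        ∃ g, ConjClasses.mk g = D ∧ IsS τ g} =>
      ConjClasses.mk (crep z.1.1 * ((crep z.2.1 : Subgroup.centralizer _) : X))) ?_
  intro g hg
  obtain ⟨x, y, rfl, hxy, hx, hy⟩ := exists_decomp hσ hg
  obtain ⟨a, ha⟩ := isConj_iff.1
    (ConjClasses.mk_eq_mk_iff_isConj.1 (mk_crep (ConjClasses.mk x)).symm)
  have hmem : a * y * a⁻¹ ∈
      Subgroup.centralizer ({crep (ConjClasses.mk x)} : Set X) := by
    rw [Subgroup.mem_centralizer_singleton_iff, ← ha]
    calc a * y * a⁻¹ * (a * x * a⁻¹) = a * (y * x) * a⁻¹ := by group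
      _ = a * (x * y) * a⁻¹ := by rw [hxy.eq]
      _ = _ := by group
  obtain ⟨w, hw⟩ := isConj_iff.1
    (ConjClasses.mk_eq_mk_iff_isConj.1 (mk_crep (ConjClasses.mk (⟨_, hmem⟩ :
      Subgroup.centralizer ({crep (ConjClasses.mk x)} : Set X)))))
  refine ⟨⟨⟨ConjClasses.mk x, x, rfl, hx⟩, ⟨ConjClasses.mk ⟨_, hmem⟩, _, rfl,
    isS_coe.1 (hy.conj a)⟩⟩, ?_⟩
  dsimp only
  generalize hd : crep (ConjClasses.mk (⟨_, hmem⟩ :
    Subgroup.centralizer ({crep (ConjClasses.mk x)} : Set X))) = d at hw ⊢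
  have hw1 : (w : X) * (d : X) * (w : X)⁻¹ = a * y * a⁻¹ := congrArg Subtype.val hw
  have hw2 := Subgroup.mem_centralizer_singleton_iff.1 w.2
  rw [← mk_conj _ (w : X)]
  rw [show (w : X) * (crep (ConjClasses.mk x) * (d : X)) * (w : X)⁻¹
      = crep (ConjClasses.mk x) * ((w : X) * (d : X) * (w : X)⁻¹) by
    rw [← mul_assoc, hw2]; simp only [mul_assoc]]
  rw [hw1, ← ha, show a * x * a⁻¹ * (a * y * a⁻¹) = a * (x * y) * a⁻¹ by group, mk_conj]

end decomposition

end Cfsg.Agent.PiClassHall53
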