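import Cfsg.Agent.Lib.PiClassHall53Basic
import Cfsg.Agent.Lib.CharKernel

/-!
Sylow bounds, orbit counting and the class number of a finite `p`-group (helper53).
-/

set_option autoImplicit false

namespace Cfsg.Agent.PiClassHall53

open Cfsg.Agent.CharBasic Cfsg.Agent.CharBasicOrth Cfsg.Agent.CharBasicDecomp
open Cfsg.Agent.CharBasicLinear Cfsg.Agent.CharAverage Cfsg.Agent.CharKernel

section sylow

variable {X : Type*} [Group X] [Finite X] {r : ℕ} [Fact r.Prime]

/-- Every `r`-element is conjugate into any given Sylow `r`-subgroup. -/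
theorem exists_conj_mem_sylow (P : Sylow r X) {g : X} (hg : IsS {r} g) :
    ∃ a : X, a * g * a⁻¹ ∈ (P : Subgroup X) := by
  have hpg : IsPGroup r (Subgroup.zpowers g) := by
    refine IsPGroup.of_card (n := (orderOf g).factorization r) ?_
    rw [Nat.card_zpowers]
    have h := mpi_self (σ := {r}) (by simpa using (Fact.out : r.Prime)) (orderOf_pos g).ne' hg
    rw [mpi_singleton] at h
    exact h.symm
  obtain ⟨R, hR⟩ := hpg.exists_le_sylow
  obtain ⟨c, rfl⟩ := MulAction.exists_smul_eq X P R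
  have hxR := hR (Subgroup.mem_zpowers g)
  rw [Sylow.coe_subgroup_smul, Subgroup.mem_pointwise_smul_iff_inv_smul_mem] at hxR
  simp only [MulAut.smul_def, ← map_inv, MulAut.conj_apply] at hxR
  exact ⟨c⁻¹, hxR⟩

omit [Finite X] in
theorem isS_of_mem_isPGroup {P : Subgroup X} (hP : IsPGroup r P) {g : X} (hg : g ∈ P) :
    IsS {r} g := by
  intro q hq hd
  obtain ⟨k, hk⟩ := IsPGroup.iff_orderOf.1 hP ⟨g, hg⟩
  rw [Subgroup.orderOf_mk] at hk
  rw [hk] at hd
  exact Finset.mem_singleton.2 ((Nat.prime_dvd_prime_iff_eq hq Fact.out).1 (hq.dvd_of_dvd_pow hd))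

theorem kcl_singleton_le_range (P : Sylow r X) :
    kcl {r} X ≤ Nat.card (Set.range fun x : (P : Subgroup X) => ConjClasses.mk (x : X)) := by
  refine kcl_le_of_cover _ _ fun g hg => ?_
  obtain ⟨a, ha⟩ := exists_conj_mem_sylow P hg
  exact ⟨⟨_, ha⟩, mk_conj g a⟩

theorem kcl_singleton_le_card (P : Sylow r X) : kcl {r} X ≤ Nat.card (P : Subgroup X) :=
  (kcl_singleton_le_range P).trans (Finite.card_range_le _)

theorem kcl_singleton_le_classes (P : Sylow r X) :
    kcl {r} X ≤ Nat.card (ConjClasses (P : Subgroup X)) := by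
  refine kcl_le_card _ (ConjClasses.map (P : Subgroup X).subtype) fun g hg => ?_
  obtain ⟨a, ha⟩ := exists_conj_mem_sylow P hg
  exact ⟨ConjClasses.mk ⟨_, ha⟩, mk_conj g a⟩

/-- Splitting off one prime. -/
theorem kcl_le_mul {σ τ : Finset ℕ} (hσ : ∀ q ∈ σ, q.Prime) (hτ : ∀ q ∈ τ, q.Prime) :
    kcl (σ ∪ τ) X ≤ kcl σ X * mpi τ (Nat.card X) := by
  classical
  have := Fintype.ofFinite {C : ConjClasses X // ∃ g, ConjClasses.mk g = C ∧ IsS σ g}
  refine (gen hσ).trans ?_
  refine (Finset.sum_le_card_nsmul _ _ (mpi τ (Nat.card X)) fun C _ => ?_).trans ?_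
  · refine (kcl_le_mpi τ hτ).trans (Nat.le_of_dvd (mpi_pos hτ) ?_)
    exact mpi_dvd_mpi (Subgroup.card_subgroup_dvd_card _) Nat.card_pos.ne'
  · rw [smul_eq_mul, Finset.card_univ, ← Nat.card_eq_fintype_card]
    rfl

end sylow

section orbit

/-- A permutation of `r`-power order has as many fixed points as points, modulo `r`. -/
theorem card_fixed_modEq {α : Type*} [Finite α] {r : ℕ} [Fact r.Prime] (σ : Equiv.Perm α) {k : ℕ}
    (h : σ ^ (r ^ k) = 1) : Nat.card α ≡ Nat.card {x : α // σ x = x} [MOD r] := by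
  obtain ⟨i, -, hi⟩ := (Nat.dvd_prime_pow Fact.out).1 (orderOf_dvd_of_pow_eq_one h)
  have hp : IsPGroup r (Subgroup.zpowers σ) := IsPGroup.of_card (n := i) (by
    rw [Nat.card_zpowers, hi])
  refine (hp.card_modEq_card_fixedPoints α).trans (congrArg (· % r) ?_ : _)
  refine Nat.card_congr (Equiv.subtypeEquivRight fun x => ?_)
  rw [MulAction.mem_fixedPoints]
  refine ⟨fun hx => hx ⟨σ, Subgroup.mem_zpowers σ⟩, fun hx g => ?_⟩
  obtain ⟨g, j, rfl⟩ := g
  exact Equiv.Perm.zpow_apply_eq_self_of_apply_eq_self hx j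

/-- Orbit counting for a permutation of prime order. -/
theorem orbit_bound {α β : Type*} [Finite α] (σ : Equiv.Perm α) {ℓ : ℕ} [Fact ℓ.Prime]
    (hσ : σ ^ ℓ = 1) (f : α → β) (hf : ∀ x, f (σ x) = f x) :
    ℓ * Nat.card (Set.range f) ≤ Nat.card α + (ℓ - 1) * Nat.card {x : α // σ x = x} := by
  classical
  have := Fintype.ofFinite α
  have hfi : ∀ (i : ℕ) (x : α), f ((σ ^ i) x) = f x := by
    intro i
    induction i with
    | zero => simp
    | succ i ih => intro x; rw [pow_succ', Equiv.Perm.mul_apply, hf, ih]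
  have hℓ : 0 < ℓ := (Fact.out : ℓ.Prime).pos
  set S : Finset β := Finset.univ.image f
  set F : Finset α := Finset.univ.filter fun x => σ x = x
  have hS : Nat.card (Set.range f) = S.card := by
    rw [show Set.range f = (S : Set β) by simp [S], Nat.card_coe_set_eq, Set.ncard_coe_finset]
  have hF : Nat.card {x : α // σ x = x} = F.card := by
    rw [Nat.card_eq_fintype_card, Fintype.card_subtype]
  rw [hS, hF, Nat.card_eq_fintype_card, ← Finset.card_univ,
    Finset.card_eq_sum_card_fiberwise (f := f) (s := Finset.univ) (t := S)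
      (fun x hx => Finset.mem_image_of_mem _ hx),
    Finset.card_eq_sum_card_fiberwise (f := f) (s := F) (t := S)
      (fun x _ => Finset.mem_image_of_mem _ (Finset.mem_univ x)),
    Finset.mul_sum, ← Finset.sum_add_distrib, mul_comm, ← smul_eq_mul, ← Finset.sum_const]
  refine Finset.sum_le_sum fun b hb => ?_
  obtain ⟨x, -, rfl⟩ := Finset.mem_image.1 hb
  by_cases hfix : σ x = x
  · have h1 : 1 ≤ (Finset.univ.filter fun y => f y = f x).card :=
      Finset.card_pos.2 ⟨x, by simp⟩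
    have h2 : 1 ≤ (F.filter fun y => f y = f x).card :=
      Finset.card_pos.2 ⟨x, by simp [F, hfix]⟩
    have h3 : (ℓ - 1) * 1 ≤ (ℓ - 1) * (F.filter fun y => f y = f x).card :=
      Nat.mul_le_mul_left _ h2
    omega
  · refine le_trans ?_ (Nat.le_add_right _ _)
    have hper : Function.minimalPeriod σ x = ℓ := Function.minimalPeriod_eq_prime_iff.2
      ⟨by
        show (⇑σ)^[ℓ] x = x
        rw [← Equiv.Perm.coe_pow, hσ, Equiv.Perm.one_apply], hfix⟩
    rw [← Finset.card_range ℓ]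
    refine Finset.card_le_card_of_injOn (fun i => (σ ^ i) x) (fun i _ => by simp [hfi]) ?_
    intro i hi j hj e
    simp only [Equiv.Perm.coe_pow] at e
    exact (Function.iterate_eq_iterate_iff_of_lt_minimalPeriod
      (by rw [hper]; simpa using hi) (by rw [hper]; simpa using hj)).1 e

variable {X : Type*} [Group X]

/-- A proper subgroup of an `r`-group has index at least `r`. -/
theorem mul_card_le_of_lt [Finite X] {r : ℕ} [Fact r.Prime] {A B : Subgroup X} (hB : IsPGroup r B)
    (h : A < B) : r * Nat.card A ≤ Nat.card B := by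
  obtain ⟨b, hb⟩ := IsPGroup.iff_card.1 hB
  obtain ⟨a, hab, ha⟩ := (Nat.dvd_prime_pow Fact.out).1 (hb ▸ Subgroup.card_dvd_of_le h.le)
  have : a ≠ b := fun e => h.ne (Subgroup.eq_of_le_of_card_ge h.le (by rw [hb, ha, e]))
  rw [ha, hb, ← pow_succ']
  exact Nat.pow_le_pow_right (Fact.out : r.Prime).pos (by omega)

/-- Conjugation by an element of the normaliser, as a permutation of the subgroup. -/
def conjPerm (V : Subgroup X) (g : X) (hg : g ∈ Subgroup.normalizer (V : Set X)) :
    Equiv.Perm V where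
  toFun v := ⟨g * v * g⁻¹, (Subgroup.mem_normalizer_iff.1 hg v).1 v.2⟩
  invFun v := ⟨g⁻¹ * v * g, by
    refine (Subgroup.mem_normalizer_iff.1 hg _).2 ?_
    rw [show g * (g⁻¹ * (v : X) * g) * g⁻¹ = v by group]
    exact v.2⟩
  left_inv v := Subtype.ext (by simp [mul_assoc])
  right_inv v := Subtype.ext (by simp [mul_assoc])

theorem conjPerm_pow (V : Subgroup X) (g : X) (hg : g ∈ Subgroup.normalizer (V : Set X)) (n : ℕ)
    (v : V) : (((conjPerm V g hg ^ n) v : V) : X) = g ^ n * v * (g ^ n)⁻¹ := by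
  induction n with
  | zero => simp
  | succ n ih =>
    rw [pow_succ', Equiv.Perm.mul_apply]
    show g * _ * g⁻¹ = _
    rw [ih, pow_succ']
    group

theorem conjPerm_pow_eq_one (V : Subgroup X) (g : X) (hg : g ∈ Subgroup.normalizer (V : Set X))
    {n : ℕ} (h : g ^ n ∈ Subgroup.centralizer (V : Set X)) : conjPerm V g hg ^ n = 1 := by
  refine Equiv.ext fun v => Subtype.ext ?_
  rw [conjPerm_pow, Equiv.Perm.one_apply, ← (Subgroup.mem_centralizer_iff.1 h) v v.2]
  group

/-- The fixed points of conjugation by `g`. -/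
theorem card_fixed_conjPerm (V : Subgroup X) (g : X) (hg : g ∈ Subgroup.normalizer (V : Set X)) :
    Nat.card {v : V // conjPerm V g hg v = v} =
      Nat.card (V ⊓ Subgroup.centralizer ({g} : Set X) : Subgroup X) := by
  refine Nat.card_congr
    { toFun := fun v => ⟨v.1, v.1.2, ?_⟩
      invFun := fun v => ⟨⟨v, v.2.1⟩, ?_⟩
      left_inv := fun v => rfl
      right_inv := fun v => rfl }
  · have h := congrArg Subtype.val v.2
    change g * (v.1 : X) * g⁻¹ = v.1 at h
    refine Subgroup.mem_centralizer_singleton_iff.2 ?_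
    rw [eq_comm, ← mul_inv_eq_iff_eq_mul]
    exact h
  · refine Subtype.ext ?_
    show g * (v : X) * g⁻¹ = v
    rw [← Subgroup.mem_centralizer_singleton_iff.1 v.2.2, mul_inv_cancel_right]

/-- An element of the normaliser outside the centraliser has a power acting with prime order. -/
theorem exists_prime_pow [Finite X] {V : Subgroup X} {g : X}
    (hg : g ∈ Subgroup.normalizer (V : Set X)) (hgc : g ∉ Subgroup.centralizer (V : Set X)) :
    ∃ (b : X) (ℓ : ℕ), b ∈ Subgroup.zpowers g ∧ ℓ.Prime ∧ ℓ ∣ orderOf g ∧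
      b ∈ Subgroup.normalizer (V : Set X) ∧
      b ∉ Subgroup.centralizer (V : Set X) ∧ b ^ ℓ ∈ Subgroup.centralizer (V : Set X) := by
  classical
  set C := Subgroup.centralizer (V : Set X)
  have hex : ∃ n, 0 < n ∧ g ^ n ∈ C := ⟨orderOf g, orderOf_pos g, by rw [pow_orderOf_eq_one]; exact one_mem _⟩
  obtain ⟨n, ⟨hn0, hn⟩, hmin⟩ : ∃ n, (0 < n ∧ g ^ n ∈ C) ∧ ∀ k < n, ¬(0 < k ∧ g ^ k ∈ C) :=
    ⟨Nat.find hex, Nat.find_spec hex, fun k hk => Nat.find_min hex hk⟩
  have hn1 : n ≠ 1 := fun h => hgc (by simpa [h] using hn)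
  obtain ⟨ℓ, hℓ, c, rfl⟩ := Nat.exists_prime_and_dvd hn1
  have hc0 : 0 < c := Nat.pos_of_mul_pos_left hn0
  refine ⟨g ^ c, ℓ, pow_mem (Subgroup.mem_zpowers g) c, hℓ, ?_, pow_mem hg c, fun h => hmin c ?_ ⟨hc0, h⟩, by
    rwa [← pow_mul, mul_comm]⟩
  · refine (dvd_mul_right ℓ c).trans (Nat.dvd_of_mod_eq_zero ?_)
    by_contra h
    refine hmin _ (Nat.mod_lt _ hn0) ⟨Nat.pos_of_ne_zero h, ?_⟩
    have h1 : g ^ (ℓ * c * (orderOf g / (ℓ * c))) * g ^ (orderOf g % (ℓ * c)) = 1 := by
      rw [← pow_add, Nat.div_add_mod, pow_orderOf_eq_one]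
    rw [mul_eq_one_iff_eq_inv'] at h1
    rw [h1, pow_mul]
    exact inv_mem (pow_mem hn _)
  · exact lt_mul_of_one_lt_left hc0 hℓ.one_lt

/-- The orbit bound for classes of `r`-elements. -/
theorem kcl_singleton_orbit [Finite X] {r : ℕ} [Fact r.Prime] (P : Sylow r X) {b : X} {ℓ : ℕ}
    (hℓ : ℓ.Prime) (hb : b ∈ Subgroup.normalizer ((P : Subgroup X) : Set X))
    (hbc : b ∉ Subgroup.centralizer ((P : Subgroup X) : Set X))
    (hbl : b ^ ℓ ∈ Subgroup.centralizer ((P : Subgroup X) : Set X)) :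
    ℓ * (kcl {r} X * r) ≤ Nat.card (P : Subgroup X) * (r + (ℓ - 1)) := by
  have := Fact.mk hℓ
  set F := (P : Subgroup X) ⊓ Subgroup.centralizer ({b} : Set X) with hF
  have h1 := orbit_bound (conjPerm _ b hb) (conjPerm_pow_eq_one _ b hb hbl)
    (fun v => ConjClasses.mk (v : X)) fun v => mk_conj _ _
  rw [card_fixed_conjPerm] at h1
  have h2 : r * Nat.card F ≤ Nat.card (P : Subgroup X) := by
    refine mul_card_le_of_lt P.2 (lt_of_le_of_ne inf_le_left fun e => hbc ?_)
    rw [Subgroup.mem_centralizer_iff]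
    intro h hh
    have h3 : h ∈ F := by rw [hF]; exact e.ge hh
    exact Subgroup.mem_centralizer_singleton_iff.1 h3.2
  calc ℓ * (kcl {r} X * r)
      ≤ (ℓ * Nat.card (Set.range fun v : (P : Subgroup X) => ConjClasses.mk (v : X))) * r := by
        rw [← mul_assoc]
        exact Nat.mul_le_mul_right _ (Nat.mul_le_mul_left _ (kcl_singleton_le_range P))
    _ ≤ (Nat.card (P : Subgroup X) + (ℓ - 1) * Nat.card F) * r := Nat.mul_le_mul_right _ h1
    _ = Nat.card (P : Subgroup X) * r + (ℓ - 1) * (r * Nat.card F) := by ring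
    _ ≤ Nat.card (P : Subgroup X) * r + (ℓ - 1) * Nat.card (P : Subgroup X) :=
        Nat.add_le_add_left (Nat.mul_le_mul_left _ h2) _
    _ = _ := by ring

end orbit

section pgroup

/-- The class number of a `p`-group via the degrees of its characters. -/
theorem sq_mul_classes_le {G : Type*} [Group G] [Finite G] {p : ℕ} [hp : Fact p.Prime]
    (hG : IsPGroup p G) :
    p ^ 2 * Nat.card (ConjClasses G) ≤ Nat.card G + (p ^ 2 - 1) * (commutator G).index := by
  classical
  have hp1 : 1 < p ^ 2 := Nat.one_lt_pow two_ne_zero hp.out.one_lt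
  rw [← card_irrCharacter, ← card_linear, ← sum_sq_charDegree (G := G), Nat.card_eq_fintype_card,
    Nat.card_eq_fintype_card]
  have hl : Fintype.card {χ : Cfsg.IrrCharacter G // (χ : G → ℂ) 1 = 1} =
      ∑ χ : Cfsg.IrrCharacter G, if (χ : G → ℂ) 1 = 1 then 1 else 0 := by
    rw [← Finset.card_filter, ← Fintype.card_subtype]
  rw [hl, Finset.mul_sum, ← Finset.sum_add_distrib, mul_comm, ← smul_eq_mul, ← Finset.card_univ,
    ← Finset.sum_const]
  refine Finset.sum_le_sum fun χ _ => ?_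
  have hd : Cfsg.charDegree (χ : G → ℂ) ∣ Nat.card G :=
    (charDegree_dvd_index χ).trans (Subgroup.index_dvd_card _)
  obtain ⟨n, hn⟩ := IsPGroup.iff_card.1 hG
  rw [hn, Nat.dvd_prime_pow hp.out] at hd
  obtain ⟨i, -, hi⟩ := hd
  rcases Nat.eq_zero_or_pos i with rfl | h0
  · have h1 : (χ : G → ℂ) 1 = 1 := by rw [irr_apply_one χ, hi]; simp
    rw [if_pos h1, hi, pow_zero, one_pow]
    omega
  · refine le_trans ?_ (Nat.le_add_right _ _)
    rw [hi]
    exact Nat.pow_le_pow_left (Nat.le_self_pow h0.ne' p) 2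

/-- The class number of a nonabelian `p`-group. -/
theorem classes_le_of_nonabelian {G : Type*} [Group G] [Finite G] {p : ℕ} [hp : Fact p.Prime]
    (hG : IsPGroup p G) (h : commutator G ≠ ⊥) :
    p ^ 3 * Nat.card (ConjClasses G) ≤ Nat.card G * (p ^ 2 + p - 1) := by
  have h1 := sq_mul_classes_le hG
  obtain ⟨k, hk⟩ := IsPGroup.iff_card.1 (hG.to_subgroup (commutator G))
  have hk0 : k ≠ 0 := fun e => h (Subgroup.card_eq_one.1 (by rw [hk, e, pow_zero]))
  have hi : p * (commutator G).index ≤ Nat.card G := by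
    rw [← (commutator G).card_mul_index, hk]
    exact Nat.mul_le_mul_right _ (Nat.le_self_pow hk0 p)
  have e : p ^ 2 + p - 1 = p + (p ^ 2 - 1) := by
    have := Nat.one_le_pow 2 p hp.out.pos
    omega
  rw [e]
  calc p ^ 3 * Nat.card (ConjClasses G) = p * (p ^ 2 * Nat.card (ConjClasses G)) := by ring
    _ ≤ p * (Nat.card G + (p ^ 2 - 1) * (commutator G).index) := Nat.mul_le_mul_left _ h1
    _ = p * Nat.card G + (p ^ 2 - 1) * (p * (commutator G).index) := by ring
    _ ≤ p * Nat.card G + (p ^ 2 - 1) * Nat.card G :=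
        Nat.add_le_add_left (Nat.mul_le_mul_left _ hi) _
    _ = _ := by ring

/-- A derived group of order at least `p ^ 2` forces at most `|G| / p` classes. -/
theorem classes_le_of_sq_dvd {G : Type*} [Group G] [Finite G] {p : ℕ} [hp : Fact p.Prime]
    (hG : IsPGroup p G) (h : p < Nat.card (commutator G)) :
    p * Nat.card (ConjClasses G) ≤ Nat.card G := by
  have h1 := sq_mul_classes_le hG
  obtain ⟨k, hk⟩ := IsPGroup.iff_card.1 (hG.to_subgroup (commutator G))
  have hk2 : 2 ≤ k := by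
    by_contra hc
    have : p ^ k ≤ p ^ 1 := Nat.pow_le_pow_right hp.out.pos (by omega)
    rw [pow_one] at this
    omega
  have hi : p ^ 2 * (commutator G).index ≤ Nat.card G := by
    rw [← (commutator G).card_mul_index, hk]
    exact Nat.mul_le_mul_right _ (Nat.pow_le_pow_right hp.out.pos hk2)
  have h2 : p ^ 4 * Nat.card (ConjClasses G) ≤ (p ^ 2 + (p ^ 2 - 1)) * Nat.card G := by
    calc p ^ 4 * Nat.card (ConjClasses G) = p ^ 2 * (p ^ 2 * Nat.card (ConjClasses G)) := by ring
      _ ≤ p ^ 2 * (Nat.card G + (p ^ 2 - 1) * (commutator G).index) := Nat.mul_le_mul_left _ h1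
      _ = p ^ 2 * Nat.card G + (p ^ 2 - 1) * (p ^ 2 * (commutator G).index) := by ring
      _ ≤ p ^ 2 * Nat.card G + (p ^ 2 - 1) * Nat.card G :=
          Nat.add_le_add_left (Nat.mul_le_mul_left _ hi) _
      _ = _ := by ring
  have h3 : p ^ 2 + (p ^ 2 - 1) ≤ p ^ 3 := by
    have h4 : 2 * p ^ 2 ≤ p * p ^ 2 := Nat.mul_le_mul_right _ hp.out.two_le
    have h5 : p ^ 3 = p * p ^ 2 := by ring
    omega
  refine Nat.le_of_mul_le_mul_left (?_ : p ^ 3 * _ ≤ p ^ 3 * _) (pow_pos hp.out.pos 3)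
  rw [← mul_assoc, ← pow_succ]
  exact h2.trans (Nat.mul_le_mul_right _ h3)

end pgroup

end Cfsg.Agent.PiClassHall53
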