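import Cfsg.Agent.Lib.PiClassHall53Main

/-!
Assembly of the many-classes criterion in the form used by the statements (helper53).
-/

set_option autoImplicit false

namespace Cfsg.Agent.PiClassHall53

open scoped commutatorElement

universe u

variable {G : Type u} [Group G] [Finite G]

/-- Passing from a set of primes to the prime factors of the part `m`. -/
theorem count_eq {π : Set ℕ} {m : ℕ} (hm : m ∣ Nat.card G)
    (hmπ : ∀ q : ℕ, q.Prime → q ∣ m → q ∈ π) (hm' : ∀ q ∈ π, ¬ q ∣ Nat.card G / m) :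
    mpi m.primeFactors (Nat.card G) = m ∧
      Nat.card {C : ConjClasses G // ∀ q : ℕ, q.Prime →
        (∃ g : G, ConjClasses.mk g = C ∧ q ∣ orderOf g) → q ∈ π} ≤ kcl m.primeFactors G := by
  have hG0 : Nat.card G ≠ 0 := Nat.card_pos.ne'
  have hm0 : m ≠ 0 := ne_zero_of_dvd_ne_zero hG0 hm
  have hd0 : Nat.card G / m ≠ 0 := (Nat.div_pos (Nat.le_of_dvd Nat.card_pos hm)
    (Nat.pos_of_ne_zero hm0)).ne'
  have hpr : ∀ q ∈ m.primeFactors, q.Prime := fun q hq => Nat.prime_of_mem_primeFactors hq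
  refine ⟨?_, ?_⟩
  · refine (Nat.dvd_antisymm ?_ (dvd_mpi hpr hm hG0 fun q hq hd =>
      Nat.mem_primeFactors.2 ⟨hq, hd, hm0⟩))
    have h : mpi m.primeFactors (Nat.card G) ∣ m * (Nat.card G / m) := by
      rw [Nat.mul_div_cancel' hm]; exact mpi_dvd hpr
    refine Nat.Coprime.dvd_of_dvd_mul_right (Nat.coprime_of_dvd fun q hq h1 h2 => ?_) h
    exact hm' q (hmπ q hq (Nat.dvd_of_mem_primeFactors (prime_dvd_mpi hpr hq h1))) h2
  · refine Nat.card_le_card_of_injective (fun C => ⟨C.1, ?_⟩)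
      (fun a b e => Subtype.ext (congrArg Subtype.val e : _))
    obtain ⟨g, hg⟩ := C.1.exists_rep
    refine ⟨g, hg, fun q hq hd => Nat.mem_primeFactors.2 ⟨hq, ?_, hm0⟩⟩
    have hqπ := C.2 q hq ⟨g, hg, hd⟩
    have hqG : q ∣ m * (Nat.card G / m) := by
      rw [Nat.mul_div_cancel' hm]; exact hd.trans (orderOf_dvd_natCard g)
    exact (hq.dvd_mul.1 hqG).resolve_right (hm' q hqπ)

/-- The class bound at a single Sylow subgroup. -/
theorem kcl_le_sylow {σ : Finset ℕ} (hσ : ∀ q ∈ σ, q.Prime) {q : ℕ} [Fact q.Prime] (hq : q ∈ σ)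
    (Q : Sylow q G) :
    Nat.card (Q : Subgroup G) * kcl σ G ≤
      Nat.card (ConjClasses (Q : Subgroup G)) * mpi σ (Nat.card G) := by
  have h := kcl_le_mul (X := G) (σ := {q}) (τ := σ.erase q) (by simpa using hσ q hq)
    fun x hx => hσ x (Finset.mem_of_mem_erase hx)
  rw [← Finset.insert_eq, Finset.insert_erase hq] at h
  have hm : mpi σ (Nat.card G) = Nat.card (Q : Subgroup G) * mpi (σ.erase q) (Nat.card G) := by
    rw [Q.card_eq_multiplicity, ← mpi_singleton,
      ← mpi_union (Finset.disjoint_singleton_left.2 (Finset.notMem_erase q σ)),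
      ← Finset.insert_eq, Finset.insert_erase hq]
  calc Nat.card (Q : Subgroup G) * kcl σ G
      ≤ Nat.card (Q : Subgroup G) * (kcl {q} G * mpi (σ.erase q) (Nat.card G)) :=
        Nat.mul_le_mul_left _ h
    _ = kcl {q} G * mpi σ (Nat.card G) := by rw [hm]; ring
    _ ≤ _ := Nat.mul_le_mul_right _ (kcl_singleton_le_classes Q)

/-- A Sylow subgroup of a nilpotent Hall subgroup, seen in the whole group. -/
theorem exists_sylow_equiv {σ : Finset ℕ} (hσ : ∀ q ∈ σ, q.Prime) {H : Subgroup G}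
    (hcard : Nat.card H = mpi σ (Nat.card G)) {q : ℕ} [Fact q.Prime] (hq : q ∈ σ) (S : Sylow q H) :
    ∃ Q : Sylow q G, Nonempty ((S : Subgroup H) ≃* (Q : Subgroup G)) :=
  ⟨Sylow.ofCard ((S : Subgroup H).map H.subtype) (by
    rw [Subgroup.card_map_of_injective H.subtype_injective, S.card_eq_multiplicity, hcard,
      mpi_factorization hσ hq]),
    ⟨(S : Subgroup H).equivMapOfInjective H.subtype H.subtype_injective⟩⟩

theorem commutator_eq_bot_of_equiv {A B : Type*} [Group A] [Group B] (e : A ≃* B)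
    (h : commutator B = ⊥) : commutator A = ⊥ := by
  rw [← Subgroup.map_eq_bot_iff_of_injective _ (f := e.toMonoidHom) e.injective]
  rw [eq_bot_iff, ← h, commutator_def, commutator_def, Subgroup.map_commutator]
  exact Subgroup.commutator_mono le_top le_top

end Cfsg.Agent.PiClassHall53
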