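import Cfsg.Agent.Lib.PiClassHall53Pair

/-!
Without a nilpotent Hall `σ`-subgroup there are at most `m / p` classes of `σ`-elements, `m` the
`σ`-part of the order and `p` a lower bound for the primes in `σ` (helper53).
-/

set_option autoImplicit false

namespace Cfsg.Agent.PiClassHall53

open scoped commutatorElement Pointwise

universe u

/-- A normal complement with abelian quotient gives an abelian subgroup of the same order as
the quotient normalising a given Sylow subgroup of the complement. -/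
theorem exists_normalizing_complement {Y : Type*} [Group Y] [Finite Y] {r : ℕ} [hr : Fact r.Prime]
    (K : Subgroup Y) [hKn : K.Normal] (hcop : (Nat.card K).Coprime K.index)
    (hrK : ¬ r ∣ K.index) (hcomm : ∀ a b : Y, a * b * a⁻¹ * b⁻¹ ∈ K) (R : Subgroup Y)
    (hR : IsPGroup r R) (hRi : ¬ r ∣ R.index) :
    ∃ L : Subgroup Y, L ≤ Subgroup.normalizer (R : Set Y) ∧ Nat.card L = K.index ∧
      IsMulCommutative L := by
  have hRK : R ≤ K := fun g hg => mem_of_coprime_index K (Nat.coprime_of_dvd fun s hs h1 h2 => by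
    have := isS_of_mem_isPGroup hR hg s hs h1
    rw [Finset.mem_singleton] at this
    exact hrK (this ▸ h2))
  let P : Sylow r K := (hR.of_equiv (Subgroup.subgroupOfEquivOfLe hRK).symm).toSylow
    fun hd => hRi (hd.trans ⟨K.index, (Subgroup.relIndex_mul_index hRK).symm⟩)
  have hfr := Sylow.normalizer_sup_eq_top P
  have hP : ((P : Subgroup K).map K.subtype) = R := Subgroup.map_subgroupOf_eq_of_le hRK
  rw [hP] at hfr
  set N := Subgroup.normalizer (R : Set Y)
  set K₀ := K.subgroupOf N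
  have hidx : K₀.index = K.index := by
    show K.relIndex N = K.index
    rw [← Subgroup.relIndex_sup_right N K, hfr, Subgroup.relIndex_top_right]
  have hcop₀ : (Nat.card K₀).Coprime K₀.index := by
    rw [hidx]
    refine hcop.coprime_dvd_left ?_
    have h : Nat.card K₀ = Nat.card (K₀.map N.subtype) :=
      (Subgroup.card_map_of_injective N.subtype_injective).symm
    rw [h, Subgroup.subgroupOf_map_subtype]
    exact Subgroup.card_dvd_of_le inf_le_left
  obtain ⟨L, hL⟩ := Subgroup.exists_right_complement'_of_coprime hcop₀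
  refine ⟨L.map N.subtype, Subgroup.map_subtype_le L, ?_, ⟨⟨?_⟩⟩⟩
  · rw [Subgroup.card_map_of_injective N.subtype_injective, ← hidx, hL.symm.index_eq_card]
  · rintro ⟨_, a, ha, rfl⟩ ⟨_, b, hb, rfl⟩
    have h1 : a * b * a⁻¹ * b⁻¹ ∈ K₀ ⊓ L :=
      ⟨hcomm (a : Y) (b : Y), L.mul_mem (L.mul_mem (L.mul_mem ha hb) (L.inv_mem ha)) (L.inv_mem hb)⟩
    rw [hL.disjoint.eq_bot, Subgroup.mem_bot, mul_inv_eq_one, mul_inv_eq_iff_eq_mul] at h1
    exact Subtype.ext (congrArg Subtype.val h1 : _)

variable {X : Type*} [Group X] [Finite X]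

/-- An element normalising a nilpotent Hall subgroup normalises its Sylow subgroups. -/
theorem exists_sylow_not_centralized {σ : Finset ℕ} (hσ : ∀ q ∈ σ, q.Prime) {H : Subgroup X}
    (hH : Group.IsNilpotent H) (hcard : Nat.card H = mpi σ (Nat.card X)) {g : X}
    (hgc : g ∉ Subgroup.centralizer (H : Set X)) :
    ∃ q ∈ σ, ∃ (_ : Fact q.Prime), ∃ Q : Sylow q X, (Q : Subgroup X) ≤ H ∧
      g ∉ Subgroup.centralizer ((Q : Subgroup X) : Set X) ∧
      Subgroup.normalizer (H : Set X) ≤ Subgroup.normalizer ((Q : Subgroup X) : Set X) := by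
  set F := (Subgroup.centralizer ({g} : Set X)).subgroupOf H
  have hF : F ≠ ⊤ := by
    intro e
    refine hgc (Subgroup.mem_centralizer_iff.2 fun h hh => ?_)
    exact Subgroup.mem_centralizer_singleton_iff.1 (Subgroup.subgroupOf_eq_top.1 e hh)
  have hi : F.index ≠ 1 := fun e => hF (Subgroup.index_eq_one.1 e)
  obtain ⟨q, hq, hqd⟩ := Nat.exists_prime_and_dvd hi
  have hfq := Fact.mk hq
  have hqσ : q ∈ σ := prime_dvd_mpi hσ hq (hcard ▸ hqd.trans F.index_dvd_card)
  obtain ⟨S⟩ : Nonempty (Sylow q H) := inferInstance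
  have hSn : (S : Subgroup H).Normal := inferInstance
  set Q₀ := (S : Subgroup H).map H.subtype
  have hQ₀ : Nat.card Q₀ = q ^ (Nat.card X).factorization q := by
    rw [Subgroup.card_map_of_injective H.subtype_injective, S.card_eq_multiplicity, hcard,
      mpi_factorization hσ hqσ]
  refine ⟨q, hqσ, hfq, Sylow.ofCard Q₀ hQ₀, Subgroup.map_subtype_le _, fun hc => ?_, ?_⟩
  · refine S.not_dvd_index (hqd.trans (Subgroup.index_dvd_of_le fun s hs => ?_))
    refine Subgroup.mem_subgroupOf.2 (Subgroup.mem_centralizer_singleton_iff.2 ?_)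
    exact Subgroup.mem_centralizer_iff.1 hc (s : X) ⟨s, hs, rfl⟩
  · intro a ha
    refine CoprimeAction.mem_normalizer_of_conj_smul_eq ?_
    show MulAut.conj a • Q₀ = Q₀
    refine Subgroup.eq_of_le_of_card_ge ?_ (le_of_eq ?_)
    · rintro _ ⟨_, ⟨s, hs, rfl⟩, rfl⟩
      have hmem : a * (s : X) * a⁻¹ ∈ H := (Subgroup.mem_normalizer_iff.1 ha s).1 s.2
      refine ⟨⟨_, hmem⟩, ?_, rfl⟩
      have hz : IsS {q} (⟨_, hmem⟩ : H) :=
        isS_coe.1 (((isS_coe (H := H)).2 (isS_of_mem_isPGroup S.2 hs)).conj a)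
      obtain ⟨b, hb⟩ := exists_conj_mem_sylow S hz
      have := hSn.conj_mem _ hb b⁻¹
      rw [show b⁻¹ * (b * (⟨_, hmem⟩ : H) * b⁻¹) * b⁻¹⁻¹ = ⟨_, hmem⟩ by group] at this
      exact this
    · exact (Subgroup.card_map_of_injective (MulAut.conj a).injective).symm

/-- Sylow subgroups are commutative together. -/
theorem sylow_comm {r : ℕ} [Fact r.Prime] (R R' : Sylow r X)
    (h : IsMulCommutative (R : Subgroup X)) : IsMulCommutative (R' : Subgroup X) := by
  refine ⟨⟨fun a b => ?_⟩⟩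
  apply (Sylow.equiv R' R).injective
  rw [map_mul, map_mul]
  exact mul_comm' _ _

/-- The case where the Sylow subgroup at the largest prime has a nontrivial automizer. -/
theorem automizer_case {p r : ℕ} [hr : Fact r.Prime] {σ : Finset ℕ} (hσ : ∀ q ∈ σ, q.Prime)
    (hp2 : 2 ≤ p) (hpr : p < r) (hrσ : r ∉ σ) (hpσ : ∀ q ∈ σ, p ≤ q)
    (hno : ¬ ∃ J : Subgroup X, Nat.card J = mpi (insert r σ) (Nat.card X) ∧ Group.IsNilpotent J)
    (R : Sylow r X) (hRc : IsMulCommutative (R : Subgroup X)) {Y : ℕ} (hY : r * Y ≤ mpi {r} (Nat.card X))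
    (hsum : ∀ c e : ℕ, (∀ x ∈ (R : Subgroup X), (∃ H₁ : Subgroup X,
        H₁ ≤ Subgroup.centralizer ({x} : Set X) ∧ Nat.card H₁ = mpi σ (Nat.card X) ∧
          Group.IsNilpotent H₁) →
        c * p * kcl σ (Subgroup.centralizer ({x} : Set X)) ≤ (c + e) * mpi σ (Nat.card X)) →
      c * p * kcl (insert r σ) X ≤ (c * kcl {r} X + e * Y) * mpi σ (Nat.card X))
    (hN : ¬ Subgroup.normalizer ((R : Subgroup X) : Set X) ≤
      Subgroup.centralizer ((R : Subgroup X) : Set X)) :
    p * kcl (insert r σ) X ≤ mpi (insert r σ) (Nat.card X) := by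
  have hM : mpi (insert r σ) (Nat.card X) = Nat.card (R : Subgroup X) * mpi σ (Nat.card X) := by
    rw [Finset.insert_eq, mpi_union (Finset.disjoint_singleton_left.2 hrσ), mpi_singleton,
      R.card_eq_multiplicity]
  rw [mpi_singleton, ← R.card_eq_multiplicity] at hY
  by_cases hB : ∃ (b : X) (ℓ : ℕ), p ≤ ℓ ∧ ℓ.Prime ∧
      b ∈ Subgroup.normalizer ((R : Subgroup X) : Set X) ∧
      b ∉ Subgroup.centralizer ((R : Subgroup X) : Set X) ∧
      b ^ ℓ ∈ Subgroup.centralizer ((R : Subgroup X) : Set X)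
  · obtain ⟨b, ℓ, hpl, hℓ, hb, hbc, hbl⟩ := hB
    have h1 := kcl_singleton_orbit R hℓ hb hbc hbl
    have h0 := hsum 1 (p - 1) fun x _ _ => by
      rw [one_mul, show 1 + (p - 1) = p by omega]
      refine Nat.mul_le_mul_left _ ((kcl_le_mpi σ hσ).trans ?_)
      exact Nat.le_of_dvd (mpi_pos hσ)
        (mpi_dvd_mpi (Subgroup.card_subgroup_dvd_card _) Nat.card_pos.ne')
    rw [one_mul, one_mul] at h0
    refine h0.trans ?_
    rw [hM]
    refine Nat.mul_le_mul_right _ (Nat.le_of_mul_le_mul_left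
      (?_ : ℓ * r * _ ≤ ℓ * r * _) (Nat.mul_pos hℓ.pos hr.out.pos))
    have h2 : r + (ℓ - 1) + ℓ * (p - 1) ≤ ℓ * r := by
      obtain ⟨s, rfl⟩ : ∃ s, r = p + 1 + s := ⟨r - (p + 1), by omega⟩
      obtain ⟨P, rfl⟩ : ∃ P, p = P + 1 := ⟨p - 1, by omega⟩
      obtain ⟨l, rfl⟩ : ∃ l, ℓ = P + 1 + l := ⟨ℓ - (P + 1), by omega⟩
      simp only [show P + 1 + l - 1 = P + l by omega, show P + 1 - 1 = P by omega]
      nlinarith
    calc ℓ * r * (kcl {r} X + (p - 1) * Y) = ℓ * (kcl {r} X * r) + ℓ * (p - 1) * (r * Y) := by ring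
      _ ≤ Nat.card (R : Subgroup X) * (r + (ℓ - 1)) + ℓ * (p - 1) * Nat.card (R : Subgroup X) :=
          Nat.add_le_add h1 (Nat.mul_le_mul_left _ hY)
      _ = Nat.card (R : Subgroup X) * (r + (ℓ - 1) + ℓ * (p - 1)) := by ring
      _ ≤ Nat.card (R : Subgroup X) * (ℓ * r) := Nat.mul_le_mul_left _ h2
      _ = _ := by ring
  · push Not at hB
    obtain ⟨g, hg, hgc⟩ := SetLike.not_le_iff_exists.1 hN
    obtain ⟨b, ℓ, -, hℓ, -, hb, hbc, hbl⟩ := exists_prime_pow hg hgc
    have hp3 : 3 ≤ p := by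
      by_contra h
      exact hB b ℓ (by have := hℓ.two_le; omega) hℓ hb hbc hbl
    have h1 := kcl_singleton_orbit R hℓ hb hbc hbl
    have h0 := hsum 2 (p - 1) fun x hx ⟨H₁, hle, hc1, hn1⟩ => by
      rw [show 2 + (p - 1) = p + 1 by omega]
      have hm : mpi σ (Nat.card (Subgroup.centralizer ({x} : Set X))) = mpi σ (Nat.card X) :=
        Nat.dvd_antisymm (mpi_dvd_mpi (Subgroup.card_subgroup_dvd_card _) Nat.card_pos.ne')
          (dvd_mpi hσ (hc1 ▸ Subgroup.card_dvd_of_le hle) Nat.card_pos.ne'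
            fun q hq hd => prime_dvd_mpi hσ hq hd)
      rcases dichotomy (X := Subgroup.centralizer ({x} : Set X)) hσ hpσ hp3 with h | h
      · rwa [hm] at h
      exfalso
      set C := Subgroup.centralizer ({x} : Set X)
      obtain ⟨K, hKn, hKi, hKc, hKab⟩ := h
      have hRC : (R : Subgroup X) ≤ C := fun v hv => Subgroup.mem_centralizer_singleton_iff.2
        (congrArg Subtype.val (mul_comm' (⟨v, hv⟩ : (R : Subgroup X)) ⟨x, hx⟩))
      obtain ⟨L, hLn, hLc, hLab⟩ := exists_normalizing_complement (r := r) K hKc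
        (fun hd => hrσ (prime_dvd_mpi hσ hr.out (hKi ▸ hd))) hKab
        ((R : Subgroup X).subgroupOf C)
        (R.2.of_equiv (Subgroup.subgroupOfEquivOfLe hRC).symm)
        (fun hd => R.not_dvd_index (hd.trans ⟨C.index, (Subgroup.relIndex_mul_index hRC).symm⟩))
      rw [hKi, hm] at hLc
      set L' := L.map C.subtype
      have hLc' : Nat.card L' = mpi σ (Nat.card X) :=
        (Subgroup.card_map_of_injective C.subtype_injective).trans hLc
      have hcent : ∀ l ∈ L', l ∈ Subgroup.centralizer ((R : Subgroup X) : Set X) := by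
        intro l hl
        have hln : l ∈ Subgroup.normalizer ((R : Subgroup X) : Set X) := by
          obtain ⟨v, hv, rfl⟩ := hl
          have := Subgroup.le_normalizer_map C.subtype ⟨v, hLn hv, rfl⟩
          rwa [Subgroup.map_subgroupOf_eq_of_le hRC] at this
        by_contra hlc
        obtain ⟨b', ℓ', -, hℓ', hd, hb', hbc', hbl'⟩ := exists_prime_pow hln hlc
        have hmem : ℓ' ∈ σ :=
          prime_dvd_mpi hσ hℓ' (hd.trans (hLc' ▸ Subgroup.orderOf_dvd_natCard L' hl))
        exact hB b' ℓ' (hpσ ℓ' hmem) hℓ' hb' hbc' hbl'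
      have hLnil : Group.IsNilpotent L := ⟨⟨1, by
        rw [Subgroup.upperCentralSeries_one, eq_top_iff]
        exact fun a _ => Subgroup.mem_center_iff.2 fun b => hLab.is_comm.comm b a⟩⟩
      obtain ⟨J, hJ, hJn⟩ := exists_nilpotent_join (A := L') (B := (R : Subgroup X))
        (fun a ha v hv => (Subgroup.mem_centralizer_iff.1 (hcent a ha) v hv).symm)
        (by rw [hLc', R.card_eq_multiplicity]; exact (mpi_coprime_of_notMem hσ hr.out hrσ _).symm)
        (Group.nilpotent_of_mulEquiv (L.equivMapOfInjective C.subtype C.subtype_injective))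
        R.2.isNilpotent
      exact hno ⟨J, by rw [hJ, hLc', hM, mul_comm], hJn⟩
    refine Nat.le_of_mul_le_mul_left (?_ : 2 * _ ≤ 2 * _) two_pos
    rw [← mul_assoc]
    refine h0.trans ?_
    rw [hM, ← mul_assoc]
    refine Nat.mul_le_mul_right _ (Nat.le_of_mul_le_mul_left
      (?_ : ℓ * r * _ ≤ ℓ * r * _) (Nat.mul_pos hℓ.pos hr.out.pos))
    have h2 : 2 * (r + (ℓ - 1)) + ℓ * (p - 1) ≤ 2 * (ℓ * r) := by
      obtain ⟨s, rfl⟩ : ∃ s, r = p + 1 + s := ⟨r - (p + 1), by omega⟩
      obtain ⟨l, rfl⟩ : ∃ l, ℓ = l + 2 := ⟨ℓ - 2, by have := hℓ.two_le; omega⟩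
      obtain ⟨P, rfl⟩ : ∃ P, p = P + 1 := ⟨p - 1, by omega⟩
      simp only [show l + 2 - 1 = l + 1 by omega, show P + 1 - 1 = P by omega]
      nlinarith
    calc ℓ * r * (2 * kcl {r} X + (p - 1) * Y)
        = 2 * (ℓ * (kcl {r} X * r)) + ℓ * (p - 1) * (r * Y) := by ring
      _ ≤ 2 * (Nat.card (R : Subgroup X) * (r + (ℓ - 1))) +
          ℓ * (p - 1) * Nat.card (R : Subgroup X) :=
          Nat.add_le_add (Nat.mul_le_mul_left _ h1) (Nat.mul_le_mul_left _ hY)
      _ = Nat.card (R : Subgroup X) * (2 * (r + (ℓ - 1)) + ℓ * (p - 1)) := by ring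
      _ ≤ Nat.card (R : Subgroup X) * (2 * (ℓ * r)) := Nat.mul_le_mul_left _ h2
      _ = _ := by ring

/-- The case where the Sylow subgroup at the largest prime is central in its normaliser. -/
theorem complement_case {p r : ℕ} [hr : Fact r.Prime] {σ : Finset ℕ} (hσ : ∀ q ∈ σ, q.Prime)
    (hrσ : r ∉ σ) (hpσ : ∀ q ∈ σ, p ≤ q) (hσr : ∀ q ∈ σ, q < r)
    (hno : ¬ ∃ J : Subgroup X, Nat.card J = mpi (insert r σ) (Nat.card X) ∧ Group.IsNilpotent J)
    (R : Sylow r X) (hRc : IsMulCommutative (R : Subgroup X)) {H : Subgroup X}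
    (hH : Group.IsNilpotent H) (hcard : Nat.card H = mpi σ (Nat.card X))
    (hN : Subgroup.normalizer ((R : Subgroup X) : Set X) ≤
      Subgroup.centralizer ((R : Subgroup X) : Set X)) :
    p * kcl (insert r σ) X ≤ mpi (insert r σ) (Nat.card X) := by
  set K := (MonoidHom.transferSylow R hN).ker
  have hrK : ¬ r ∣ Nat.card K := MonoidHom.not_dvd_card_ker_transferSylow R hN
  have hKi : K.index = r ^ (Nat.card X).factorization r :=
    (MonoidHom.ker_transferSylow_isComplement' R hN).symm.index_eq_card.trans R.card_eq_multiplicity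
  have hcopK : ∀ {d : ℕ}, d ∣ mpi σ (Nat.card X) → d.Coprime K.index := fun hd => by
    rw [hKi]
    exact ((mpi_coprime_of_notMem hσ hr.out hrσ _).symm).coprime_dvd_left hd
  have hHK : H ≤ K := fun h hh =>
    mem_of_coprime_index K (hcopK (hcard ▸ Subgroup.orderOf_dvd_natCard H hh))
  -- Frattini
  set N := Subgroup.normalizer (H : Set X)
  have htop : N ⊔ K = ⊤ := by
    refine eq_top_iff.2 fun g _ => ?_
    have hgK : H.map (MulAut.conj g).toMonoidHom ≤ K := by
      rintro _ ⟨h, hh, rfl⟩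
      simpa using (inferInstance : K.Normal).conj_mem h (hHK hh) g
    obtain ⟨c, hc, hce⟩ := HallNilpotentConj.wielandt_aux _ K (H.map (MulAut.conj g).toMonoidHom) H
      rfl hgK hHK
      (Group.nilpotent_of_mulEquiv (H.equivMapOfInjective _ (MulAut.conj g).injective)) hH
      (Subgroup.card_map_of_injective (MulAut.conj g).injective).symm
      ((coprime_index_of_card hσ ((Subgroup.card_map_of_injective
        (MulAut.conj g).injective).trans hcard)).coprime_dvd_right
          ⟨K.index, (Subgroup.relIndex_mul_index hgK).symm⟩)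
    have hcg : c * g ∈ N := CoprimeAction.mem_normalizer_of_conj_smul_eq (by
      rw [map_mul, mul_smul]
      exact hce)
    have := (N ⊔ K).mul_mem (Subgroup.mem_sup_right (K.inv_mem hc))
      (Subgroup.mem_sup_left hcg)
    simpa using this
  have hNd : r ^ (Nat.card X).factorization r ∣ Nat.card N := by
    have : K.relIndex N = K.index := by
      rw [← Subgroup.relIndex_sup_right N K, htop, Subgroup.relIndex_top_right]
    rw [← hKi, ← this]
    exact Subgroup.index_dvd_card _
  obtain ⟨S, hS⟩ := Sylow.exists_subgroup_card_pow_prime r hNd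
  set R₁ : Sylow r X := Sylow.ofCard (S.map N.subtype)
    (by rw [Subgroup.card_map_of_injective N.subtype_injective, hS])
  have hR₁N : (R₁ : Subgroup X) ≤ N := Subgroup.map_subtype_le S
  have hnc : ¬ (R₁ : Subgroup X) ≤ Subgroup.centralizer (H : Set X) := by
    intro hle
    obtain ⟨J, hJ, hJn⟩ := exists_nilpotent_join (A := H) (B := (R₁ : Subgroup X))
      (fun a ha v hv => Subgroup.mem_centralizer_iff.1 (hle hv) a ha)
      (by rw [hcard, R₁.card_eq_multiplicity]; exact (mpi_coprime_of_notMem hσ hr.out hrσ _).symm)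
      hH R₁.2.isNilpotent
    exact hno ⟨J, by rw [hJ, hcard, R₁.card_eq_multiplicity, Finset.insert_eq,
      mpi_union (Finset.disjoint_singleton_left.2 hrσ), mpi_singleton, mul_comm], hJn⟩
  obtain ⟨g, hg, hgc⟩ := SetLike.not_le_iff_exists.1 hnc
  obtain ⟨q, hq, hfq, Q, hQH, hgQ, hNQ⟩ := exists_sylow_not_centralized hσ hH hcard hgc
  have h1 := kcl_pair_le (hσr q hq) R₁ (sylow_comm R R₁ hRc) K ⟨_, hKi⟩ hrK Q (hQH.trans hHK)
    (hR₁N.trans hNQ) fun h => hgQ (h hg)
  have hpr : ∀ x ∈ ({r, q} : Finset ℕ), x.Prime := by simp [hr.out, hfq.out]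
  have he : ∀ x ∈ σ.erase q, x.Prime := fun x hx => hσ x (Finset.mem_of_mem_erase hx)
  have hu : insert r σ = {r, q} ∪ σ.erase q := by
    rw [Finset.insert_union, ← Finset.insert_eq, Finset.insert_erase hq]
  have hdis : Disjoint ({r, q} : Finset ℕ) (σ.erase q) := by
    simp [Finset.disjoint_insert_left, hrσ]
  have hrq : r ∉ ({q} : Finset ℕ) := by simp [(hσr q hq).ne']
  rw [hu, mpi_union hdis, show mpi {r, q} (Nat.card X) =
      Nat.card (R₁ : Subgroup X) * Nat.card (Q : Subgroup X) by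
    rw [mpi, Finset.prod_insert hrq, Finset.prod_singleton, R₁.card_eq_multiplicity,
      Q.card_eq_multiplicity]]
  calc p * kcl ({r, q} ∪ σ.erase q) X
      ≤ q * (kcl {r, q} X * mpi (σ.erase q) (Nat.card X)) :=
        Nat.mul_le_mul (hpσ q hq) (kcl_le_mul hpr he)
    _ = q * kcl {r, q} X * mpi (σ.erase q) (Nat.card X) := (mul_assoc _ _ _).symm
    _ ≤ _ := Nat.mul_le_mul_right _ h1

/-- **Main bound**: no nilpotent Hall `σ`-subgroup gives at most `m / p` classes. -/
theorem main (σ : Finset ℕ) : ∀ (X : Type u) [Group X] [Finite X], (∀ q ∈ σ, q.Prime) →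
    ∀ p : ℕ, 2 ≤ p → (∀ q ∈ σ, p ≤ q) →
      (¬ ∃ H : Subgroup X, Nat.card H = mpi σ (Nat.card X) ∧ Group.IsNilpotent H) →
        p * kcl σ X ≤ mpi σ (Nat.card X) := by
  classical
  induction σ using Finset.strongInduction with
  | _ σ ih =>
  intro X _ _ hσ p hp2 hpσ hno
  rcases σ.eq_empty_or_nonempty with rfl | hne
  · exact absurd ⟨⊥, by simp [mpi], inferInstance⟩ hno
  set r := σ.max' hne with hrdef
  have hrmem : r ∈ σ := σ.max'_mem hne
  have hmax : ∀ x ∈ σ, x ≤ r := fun x hx => σ.le_max' x hx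
  clear_value r
  obtain ⟨σ', hrσ, rfl⟩ : ∃ σ' : Finset ℕ, r ∉ σ' ∧ σ = insert r σ' :=
    ⟨σ.erase r, Finset.notMem_erase r σ, (Finset.insert_erase hrmem).symm⟩
  have hσ' : ∀ q ∈ σ', q.Prime := fun q hq => hσ q (Finset.mem_insert_of_mem hq)
  have hp' : ∀ q ∈ σ', p ≤ q := fun q hq => hpσ q (Finset.mem_insert_of_mem hq)
  have hσr : ∀ q ∈ σ', q < r := fun q hq =>
    lt_of_le_of_ne (hmax q (Finset.mem_insert_of_mem hq)) fun e => hrσ (e ▸ hq)
  have hr : r.Prime := hσ r hrmem
  have hfr := Fact.mk hr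
  have hr1 : ∀ q ∈ ({r} : Finset ℕ), q.Prime := by simpa using hr
  obtain ⟨R⟩ : Nonempty (Sylow r X) := inferInstance
  have hRcard : Nat.card (R : Subgroup X) = mpi {r} (Nat.card X) := by
    rw [mpi_singleton, R.card_eq_multiplicity]
  rcases σ'.eq_empty_or_nonempty with rfl | ⟨q₀, hq₀⟩
  · refine absurd ⟨(R : Subgroup X), ?_, R.2.isNilpotent⟩ hno
    rw [hRcard]
    simp
  have hpr : p < r := lt_of_le_of_lt (hp' q₀ hq₀) (hσr q₀ hq₀)
  have hss : σ' ⊂ insert r σ' := Finset.ssubset_insert hrσ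
  have hdis : Disjoint ({r} : Finset ℕ) σ' := Finset.disjoint_singleton_left.2 hrσ
  have hM : mpi (insert r σ') (Nat.card X) = mpi {r} (Nat.card X) * mpi σ' (Nat.card X) := by
    rw [Finset.insert_eq, mpi_union hdis]
  have hle : ∀ {τ : Finset ℕ} (C : Subgroup X), (∀ q ∈ τ, q.Prime) →
      kcl τ C ≤ mpi τ (Nat.card X) := fun C hτ => (kcl_le_mpi _ hτ).trans
    (Nat.le_of_dvd (mpi_pos hτ) (mpi_dvd_mpi (Subgroup.card_subgroup_dvd_card C) Nat.card_pos.ne'))
  -- a nilpotent Hall `σ'`-subgroup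
  by_cases hH : ∃ H : Subgroup X, Nat.card H = mpi σ' (Nat.card X) ∧ Group.IsNilpotent H
  swap
  · have h1 : kcl (insert r σ') X ≤ kcl σ' X * mpi {r} (Nat.card X) := by
      rw [Finset.insert_eq, Finset.union_comm]
      exact kcl_le_mul hσ' hr1
    calc p * kcl (insert r σ') X ≤ p * (kcl σ' X * mpi {r} (Nat.card X)) :=
          Nat.mul_le_mul_left _ h1
      _ = (p * kcl σ' X) * mpi {r} (Nat.card X) := (mul_assoc _ _ _).symm
      _ ≤ mpi σ' (Nat.card X) * mpi {r} (Nat.card X) :=
          Nat.mul_le_mul_right _ (ih σ' hss X hσ' p hp2 hp' hH)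
      _ = _ := by rw [hM, mul_comm]
  obtain ⟨H, hHc, hHn⟩ := hH
  by_cases hab : commutator (R : Subgroup X) = ⊥
  swap
  · have h1 : kcl (insert r σ') X ≤ kcl {r} X * mpi σ' (Nat.card X) := by
      rw [Finset.insert_eq]; exact kcl_le_mul hr1 hσ'
    have h2 := classes_le_of_nonabelian R.2 hab
    have h3 : p * (r ^ 2 + r - 1) ≤ r ^ 3 := by
      obtain ⟨s, rfl⟩ : ∃ s, r = p + 1 + s := ⟨r - (p + 1), by omega⟩
      refine le_trans (Nat.mul_le_mul_left _ (Nat.sub_le _ _)) ?_
      nlinarith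
    rw [hM]
    calc p * kcl (insert r σ') X ≤ p * (kcl {r} X * mpi σ' (Nat.card X)) :=
          Nat.mul_le_mul_left _ h1
      _ = p * kcl {r} X * mpi σ' (Nat.card X) := (mul_assoc _ _ _).symm
      _ ≤ _ := by
        refine Nat.mul_le_mul_right _ (Nat.le_of_mul_le_mul_left
          (?_ : r ^ 3 * _ ≤ r ^ 3 * _) (pow_pos hr.pos 3))
        calc r ^ 3 * (p * kcl {r} X) ≤ r ^ 3 * (p * Nat.card (ConjClasses (R : Subgroup X))) :=
              Nat.mul_le_mul_left _ (Nat.mul_le_mul_left _ (kcl_singleton_le_classes R))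
          _ = p * (r ^ 3 * Nat.card (ConjClasses (R : Subgroup X))) := by ring
          _ ≤ p * (Nat.card (R : Subgroup X) * (r ^ 2 + r - 1)) := Nat.mul_le_mul_left _ h2
          _ = Nat.card (R : Subgroup X) * (p * (r ^ 2 + r - 1)) := by ring
          _ ≤ Nat.card (R : Subgroup X) * r ^ 3 := Nat.mul_le_mul_left _ h3
          _ = _ := by rw [hRcard, mul_comm]
  have hRc : IsMulCommutative (R : Subgroup X) := ⟨⟨fun a b => by
    have : ⁅a, b⁆ ∈ commutator (R : Subgroup X) :=
      Subgroup.commutator_mem_commutator (Subgroup.mem_top a) (Subgroup.mem_top b)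
    rw [hab, Subgroup.mem_bot] at this
    exact commutatorElement_eq_one_iff_mul_comm.1 this⟩⟩
  by_cases hN : Subgroup.normalizer ((R : Subgroup X) : Set X) ≤
      Subgroup.centralizer ((R : Subgroup X) : Set X)
  · exact complement_case hσ' hrσ hp' hσr hno R hRc hHn hHc hN
  -- the classes of `r`-elements with large centraliser
  obtain ⟨U⟩ : Nonempty (Sylow r (Subgroup.centralizer (H : Set X))) := inferInstance
  let good : ConjClasses X → Prop := fun C => ∃ H₁ : Subgroup X,
    H₁ ≤ Subgroup.centralizer ({crep C} : Set X) ∧ Nat.card H₁ = mpi σ' (Nat.card X) ∧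
      Group.IsNilpotent H₁
  have hY : r * Nat.card {C : {C : ConjClasses X // ∃ g, ConjClasses.mk g = C ∧ IsS {r} g} //
      good C.1} ≤ mpi {r} (Nat.card X) := by
    refine le_trans (Nat.mul_le_mul_left _ (le_trans (le_of_eq ?_) (card_good_le hσ' hHn hHc U)))
      (mul_card_centralizer_sylow_le hσ' hrσ hHn hHc hno U)
    exact Nat.card_congr (Equiv.subtypeSubtypeEquivSubtypeInter _ good)
  refine automizer_case hσ' hp2 hpr hrσ hp' hno R hRc hY ?_ hN
  intro c e hgood
  have := Fintype.ofFinite {C : ConjClasses X // ∃ g, ConjClasses.mk g = C ∧ IsS {r} g}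
  calc c * p * kcl (insert r σ') X
      ≤ c * p * ∑ C : {C : ConjClasses X // ∃ g, ConjClasses.mk g = C ∧ IsS {r} g},
          kcl σ' (Subgroup.centralizer ({crep C.1} : Set X)) := by
        rw [Finset.insert_eq]
        exact Nat.mul_le_mul_left _ (gen hr1)
    _ ≤ ∑ C : {C : ConjClasses X // ∃ g, ConjClasses.mk g = C ∧ IsS {r} g},
          (c * mpi σ' (Nat.card X) + if good C.1 then e * mpi σ' (Nat.card X) else 0) := by
        rw [Finset.mul_sum]
        refine Finset.sum_le_sum fun C _ => ?_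
        split_ifs with hg
        · obtain ⟨g, hgC, hgr⟩ := C.2
          obtain ⟨a, ha⟩ := exists_conj_mem_sylow R (hgr.of_mk_eq (hgC.trans (mk_crep C.1).symm))
          obtain ⟨H₁, hle1, hc1, hn1⟩ := hg
          have hk := hgood _ ha ⟨H₁.map (MulAut.conj a).toMonoidHom, ?_, ?_, ?_⟩
          · rw [← Nat.add_mul]
            refine le_trans (Nat.mul_le_mul_left _ ?_) hk
            have h := kcl_centralizer_conj σ' (a * crep C.1 * a⁻¹) a⁻¹
            rwa [show a⁻¹ * (a * crep C.1 * a⁻¹) * a⁻¹⁻¹ = crep C.1 by group] at h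
          · rintro _ ⟨h, hh, rfl⟩
            rw [Subgroup.mem_centralizer_singleton_iff]
            have h5 := Subgroup.mem_centralizer_singleton_iff.1 (hle1 hh)
            simp only [MulEquiv.coe_toMonoidHom, MulAut.conj_apply]
            calc a * h * a⁻¹ * (a * crep C.1 * a⁻¹) = a * (h * crep C.1) * a⁻¹ := by group
              _ = a * (crep C.1 * h) * a⁻¹ := by rw [h5]
              _ = _ := by group
          · rw [Subgroup.card_map_of_injective (MulAut.conj a).injective, hc1]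
          · exact Group.nilpotent_of_mulEquiv (H₁.equivMapOfInjective _ (MulAut.conj a).injective)
        · rw [Nat.add_zero, mul_assoc]
          refine Nat.mul_le_mul_left _ ?_
          set Z := Subgroup.centralizer ({crep C.1} : Set X)
          by_cases hz : mpi σ' (Nat.card Z) = mpi σ' (Nat.card X)
          · rw [← hz]
            refine ih σ' hss Z hσ' p hp2 hp' fun ⟨J, hJ, hJn⟩ => hg ⟨J.map Z.subtype,
              Subgroup.map_subtype_le J, ?_, Group.nilpotent_of_mulEquiv
                (J.equivMapOfInjective Z.subtype Z.subtype_injective)⟩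
            rw [Subgroup.card_map_of_injective Z.subtype_injective, hJ, hz]
          · refine le_trans (Nat.mul_le_mul_left _ (kcl_le_mpi σ' hσ')) ?_
            exact mul_le_mpi hσ' hp' (mpi_dvd_mpi (Subgroup.card_subgroup_dvd_card Z)
              Nat.card_pos.ne') hz
    _ = _ := by
        rw [Finset.sum_add_distrib, Finset.sum_const, ← Finset.sum_filter, Finset.sum_const,
          Finset.card_univ, ← Nat.card_eq_fintype_card, Nat.card_eq_fintype_card (α :=
            {C : {C : ConjClasses X // ∃ g, ConjClasses.mk g = C ∧ IsS {r} g} // good C.1}),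
          Fintype.card_subtype]
        simp only [smul_eq_mul, kcl]
        ring

end Cfsg.Agent.PiClassHall53
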