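import Cfsg.Agent.Lib.PiClassHall53Struct

/-!
Classes of `{q, r}`-elements when an abelian Sylow `r`-subgroup `R` normalises, and does not
centralise, a Sylow `q`-subgroup `Q` inside a normal `r`-complement, `q < r` (helper53).
-/

set_option autoImplicit false

namespace Cfsg.Agent.PiClassHall53

variable {X : Type*} [Group X] [Finite X]

/-- An `r`-element acting nontrivially on a `q`-group, `q < r`, has fixed points of index at
least `q ^ 2`. -/
theorem sq_mul_fixed_le {q r : ℕ} [hq : Fact q.Prime] [hr : Fact r.Prime] (hqr : q < r)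
    {Q : Subgroup X} (hQ : IsPGroup q Q) {x : X} (hx : x ∈ Subgroup.normalizer (Q : Set X))
    (hxr : IsS {r} x) (hxc : x ∉ Subgroup.centralizer (Q : Set X)) :
    q ^ 2 * Nat.card (Q ⊓ Subgroup.centralizer ({x} : Set X) : Subgroup X) ≤ Nat.card Q := by
  set F : Subgroup X := Q ⊓ Subgroup.centralizer ({x} : Set X) with hF
  have hmod : Nat.card Q ≡ Nat.card F [MOD r] := by
    have h := card_fixed_modEq (r := r) (conjPerm Q x hx) (k := (orderOf x).factorization r) (by
      refine conjPerm_pow_eq_one Q x hx ?_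
      have h := mpi_self (σ := {r}) (by simpa using hr.out) (orderOf_pos x).ne' hxr
      rw [mpi_singleton] at h
      rw [h, pow_orderOf_eq_one]
      exact one_mem _)
    rwa [card_fixed_conjPerm] at h
  obtain ⟨i, hi⟩ := IsPGroup.iff_card.1 hQ
  obtain ⟨j, hji, hj⟩ := (Nat.dvd_prime_pow hq.out).1
    (hi ▸ Subgroup.card_dvd_of_le (inf_le_left : F ≤ Q))
  have hne : j ≠ i := by
    intro e
    have hFQ : F = Q := Subgroup.eq_of_le_of_card_ge inf_le_left (by rw [hj, hi, e])
    refine hxc (Subgroup.mem_centralizer_iff.2 fun h hh => ?_)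
    exact Subgroup.mem_centralizer_singleton_iff.1 ((hF ▸ hFQ.ge hh : _) : h ∈ F).2
  have hne1 : j + 1 ≠ i := by
    rintro rfl
    rw [hi, hj] at hmod
    have hd : r ∣ q ^ (j + 1) - q ^ j :=
      (Nat.modEq_iff_dvd' (Nat.pow_le_pow_right hq.out.pos (Nat.le_succ j))).1 hmod.symm
    rw [show q ^ (j + 1) - q ^ j = q ^ j * (q - 1) by rw [pow_succ, Nat.mul_sub, mul_one]] at hd
    rcases hr.out.dvd_mul.1 hd with h | h
    · exact hqr.ne' ((Nat.prime_dvd_prime_iff_eq hr.out hq.out).1 (hr.out.dvd_of_dvd_pow h))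
    · have := Nat.le_of_dvd (Nat.sub_pos_of_lt hq.out.one_lt) h
      omega
  rw [hi, hj, ← pow_add]
  exact Nat.pow_le_pow_right hq.out.pos (by omega)

/-- The pair bound. -/
theorem kcl_pair_le {q r : ℕ} [hq : Fact q.Prime] [hr : Fact r.Prime] (hqr : q < r) (R : Sylow r X)
    (hRc : IsMulCommutative (R : Subgroup X)) (K : Subgroup X) [hKn : K.Normal]
    (hKi : ∃ k, K.index = r ^ k) (hrK : ¬ r ∣ Nat.card K) (Q : Sylow q X)
    (hQK : (Q : Subgroup X) ≤ K)
    (hRQ : (R : Subgroup X) ≤ Subgroup.normalizer ((Q : Subgroup X) : Set X))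
    (hRnc : ¬ (R : Subgroup X) ≤ Subgroup.centralizer ((Q : Subgroup X) : Set X)) :
    q * kcl {r, q} X ≤ Nat.card (R : Subgroup X) * Nat.card (Q : Subgroup X) := by
  classical
  have := Fintype.ofFinite (R : Subgroup X)
  let f : (x : (R : Subgroup X)) →
      ((Q : Subgroup X) ⊓ Subgroup.centralizer ({(x : X)} : Set X) : Subgroup X) → ConjClasses X :=
    fun x v => ConjClasses.mk ((x : X) * (v : X))
  -- the covering
  have hcover : kcl {r, q} X ≤ ∑ x, Nat.card (Set.range (f x)) := by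
    rw [← Nat.card_sigma]
    refine kcl_le_card _ (fun z => z.2.1) fun g hg => ?_
    obtain ⟨y, z, rfl, hyz, hy, hz⟩ := exists_decomp (σ := {r}) (τ := {q}) (by simpa using hr.out)
      (by rwa [Finset.insert_eq] at hg)
    obtain ⟨a, ha⟩ := exists_conj_mem_sylow R hy
    set x := a * y * a⁻¹
    set z' := a * z * a⁻¹
    have hxz : Commute x z' := by
      show a * y * a⁻¹ * (a * z * a⁻¹) = a * z * a⁻¹ * (a * y * a⁻¹)
      calc a * y * a⁻¹ * (a * z * a⁻¹) = a * (y * z) * a⁻¹ := by group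
        _ = a * (z * y) * a⁻¹ := by rw [hyz.eq]
        _ = _ := by group
    obtain ⟨k, hk⟩ := hKi
    have hzK : z' ∈ K := by
      refine mem_of_coprime_index K (Nat.coprime_of_dvd fun s hs h1 h2 => ?_)
      have e1 := Finset.mem_singleton.1 (hz.conj a s hs h1)
      rw [hk] at h2
      have e2 := (Nat.prime_dvd_prime_iff_eq hs hr.out).1 (hs.dvd_of_dvd_pow h2)
      exact hqr.ne (e1.symm.trans e2)
    set A := Subgroup.zpowers x
    have hAK : A ≤ Subgroup.normalizer (K : Set X) := by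
      rw [Subgroup.normalizer_eq_top_iff.2 hKn]; exact le_top
    have hcop : (Nat.card A).Coprime (Nat.card K) := by
      obtain ⟨i, hi⟩ := IsPGroup.iff_card.1 R.2
      refine Nat.Coprime.coprime_dvd_left (Subgroup.card_dvd_of_le (Subgroup.zpowers_le.2 ha)) ?_
      rw [hi]
      exact ((Nat.Prime.coprime_iff_not_dvd hr.out).2 hrK).pow_left _
    have hU : IsPGroup q (Subgroup.zpowers z') := by
      refine IsPGroup.of_card (n := (orderOf z').factorization q) ?_
      rw [Nat.card_zpowers]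
      have h := mpi_self (σ := {q}) (by simpa using hq.out) (orderOf_pos z').ne' (hz.conj a)
      rw [mpi_singleton] at h
      exact h.symm
    have hUA : A ≤ Subgroup.normalizer ((Subgroup.zpowers z') : Set X) := by
      rw [Subgroup.zpowers_le, Subgroup.mem_normalizer_iff]
      intro h
      constructor
      · rintro ⟨i, rfl⟩
        exact ⟨i, by
          show z' ^ i = x * z' ^ i * x⁻¹
          rw [(hxz.zpow_right i).eq, mul_inv_cancel_right]⟩
      · rintro ⟨i, hi⟩
        refine ⟨i, ?_⟩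
        change z' ^ i = x * h * x⁻¹ at hi
        show z' ^ i = h
        have e : h = x⁻¹ * z' ^ i * x := by rw [hi]; group
        rw [e, mul_assoc x⁻¹, ← (hxz.zpow_right i).eq, inv_mul_cancel_left]
    obtain ⟨P₀, hP₀, hP₀A⟩ := CoprimeAction.exists_invariant_sylow_ge (p := q) hAK hcop
      (Or.inl (CoprimeAction.isSolvable_zpowers x)) (Subgroup.zpowers_le.2 hzK) hU hUA
    obtain ⟨Q', hQ'⟩ := CoprimeAction.exists_sylow_map_eq (p := q) hQK (by
      rw [Q.card_eq_multiplicity]
      congr 1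
      have e := congrArg (fun n : ℕ => n.factorization q) K.card_mul_index
      simp only [hk, Nat.factorization_mul Nat.card_pos.ne' (pow_ne_zero k hr.out.ne_zero),
        Finsupp.add_apply, hr.out.factorization_pow, Finsupp.single_eq_of_ne hqr.ne] at e
      omega)
    obtain ⟨c, hc, hcP⟩ := CoprimeAction.invariant_sylow_conj hAK hcop
      (Or.inl (CoprimeAction.isSolvable_zpowers x)) P₀ Q' hP₀A (by
        rw [hQ']; exact (Subgroup.zpowers_le.2 ha).trans hRQ)
    have hcx : (c : X) * x = x * c :=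
      (Subgroup.mem_centralizer_iff.1 hc x (Subgroup.mem_zpowers x)).symm
    have hmem : (c : X) * z' * (c : X)⁻¹ ∈ (Q : Subgroup X) := by
      obtain ⟨w, hw, hwz⟩ := hP₀ (Subgroup.mem_zpowers z')
      rw [← hQ', ← hcP]
      refine ⟨c * w * c⁻¹, ?_, ?_⟩
      · show c * w * c⁻¹ ∈ ((MulAut.conj c • P₀ : Sylow q K) : Subgroup K)
        rw [Sylow.pointwise_smul_def]
        exact ⟨w, hw, by simp [MulAut.smul_def]⟩
      · change (w : X) = z' at hwz
        show (c : X) * w * (c : X)⁻¹ = _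
        rw [hwz]
    have hcen : (c : X) * z' * (c : X)⁻¹ ∈ Subgroup.centralizer ({x} : Set X) := by
      rw [Subgroup.mem_centralizer_singleton_iff]
      have e : x = (c : X) * x * (c : X)⁻¹ := by rw [hcx, mul_inv_cancel_right]
      calc (c : X) * z' * (c : X)⁻¹ * x = (c : X) * z' * (c : X)⁻¹ * ((c : X) * x * (c : X)⁻¹) := by
            rw [← e]
        _ = (c : X) * (z' * x) * (c : X)⁻¹ := by group
        _ = (c : X) * (x * z') * (c : X)⁻¹ := by rw [hxz.eq]
        _ = ((c : X) * x * (c : X)⁻¹) * ((c : X) * z' * (c : X)⁻¹) := by group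
        _ = _ := by rw [← e]
    refine ⟨⟨⟨x, ha⟩, ⟨_, ⟨⟨_, hmem, hcen⟩, rfl⟩⟩⟩, ?_⟩
    show ConjClasses.mk (x * ((c : X) * z' * (c : X)⁻¹)) = _
    rw [show x * ((c : X) * z' * (c : X)⁻¹) = (c : X) * (x * z') * (c : X)⁻¹ by
      calc x * ((c : X) * z' * (c : X)⁻¹) = (x * c) * z' * (c : X)⁻¹ := by group
        _ = ((c : X) * x) * z' * (c : X)⁻¹ := by rw [hcx]
        _ = _ := by group, mk_conj,
      show x * z' = a * (y * z) * a⁻¹ by simp only [x, z']; group, mk_conj]
  -- an element of order `r` on `Q`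
  obtain ⟨g, hgR, hgc⟩ := SetLike.not_le_iff_exists.1 hRnc
  obtain ⟨b, ℓ, hbg, hℓ, hℓd, hb, hbc, hbl⟩ := exists_prime_pow (hRQ hgR) hgc
  obtain rfl : ℓ = r := Finset.mem_singleton.1 (isS_of_mem_isPGroup R.2 hgR ℓ hℓ hℓd)
  have hbR : b ∈ (R : Subgroup X) := Subgroup.zpowers_le.2 hgR hbg
  have hbF := sq_mul_fixed_le hqr Q.2 hb (isS_of_mem_isPGroup R.2 hbR) hbc
  -- the bound for each element
  let M := Nat.card (Q : Subgroup X)
  have hper : ∀ x : (R : Subgroup X), ℓ * q ^ 2 * Nat.card (Set.range (f x)) ≤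
      ℓ * M + if (x : X) ∈ Subgroup.centralizer ((Q : Subgroup X) : Set X) then (q ^ 2 - 1) * M
        else 0 := by
    intro x
    split_ifs with hxc
    · have hQx : ((Q : Subgroup X) ⊓ Subgroup.centralizer ({(x : X)} : Set X) : Subgroup X) =
          (Q : Subgroup X) := inf_eq_left.2 fun h hh =>
        Subgroup.mem_centralizer_singleton_iff.2 (Subgroup.mem_centralizer_iff.1 hxc h hh)
      have hxb : (x : X) * b = b * x := congrArg Subtype.val (mul_comm' x ⟨b, hbR⟩)
      have hr1 : Nat.card (Set.range (f x)) ≤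
          Nat.card (Set.range fun v : (Q : Subgroup X) => ConjClasses.mk ((x : X) * v)) := by
        refine Nat.card_le_card_of_injective (fun C => ⟨C.1, ?_⟩)
          (fun a b e => Subtype.ext (congrArg Subtype.val e : _))
        obtain ⟨v, hv⟩ := C.2
        exact ⟨⟨v, v.2.1⟩, hv⟩
      have h1 := orbit_bound (conjPerm _ b hb) (conjPerm_pow_eq_one _ b hb hbl)
        (fun v : (Q : Subgroup X) => ConjClasses.mk ((x : X) * v)) (fun v => by
          show ConjClasses.mk ((x : X) * (b * v * b⁻¹)) = _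
          rw [show (x : X) * (b * v * b⁻¹) = b * ((x : X) * v) * b⁻¹ by
            rw [← mul_assoc, ← mul_assoc, hxb, mul_assoc b], mk_conj])
      rw [card_fixed_conjPerm] at h1
      calc ℓ * q ^ 2 * Nat.card (Set.range (f x))
          ≤ q ^ 2 * (ℓ * Nat.card (Set.range fun v : (Q : Subgroup X) =>
            ConjClasses.mk ((x : X) * v))) := by
            rw [mul_comm ℓ, mul_assoc]
            exact Nat.mul_le_mul_left _ (Nat.mul_le_mul_left _ hr1)
        _ ≤ q ^ 2 * (M + (ℓ - 1) * _) := Nat.mul_le_mul_left _ h1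
        _ = q ^ 2 * M + (ℓ - 1) * (q ^ 2 * _) := by ring
        _ ≤ q ^ 2 * M + (ℓ - 1) * M := Nat.add_le_add_left (Nat.mul_le_mul_left _ hbF) _
        _ = ℓ * M + (q ^ 2 - 1) * M := by
          rw [← Nat.add_mul, ← Nat.add_mul]
          congr 1
          have := Nat.one_le_pow 2 q hq.out.pos
          have := hℓ.one_lt
          omega
    · calc ℓ * q ^ 2 * Nat.card (Set.range (f x)) ≤ ℓ * q ^ 2 * _ :=
            Nat.mul_le_mul_left _ (Finite.card_range_le (f x))
        _ = ℓ * (q ^ 2 * _) := mul_assoc _ _ _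
        _ ≤ ℓ * M := Nat.mul_le_mul_left _
            (sq_mul_fixed_le hqr Q.2 (hRQ x.2) (isS_of_mem_isPGroup R.2 x.2) hxc)
  -- how many elements centralise `Q`
  have hU : ℓ * Nat.card {x : (R : Subgroup X) //
      (x : X) ∈ Subgroup.centralizer ((Q : Subgroup X) : Set X)} ≤
        Nat.card (R : Subgroup X) := by
    have h := mul_card_le_of_lt R.2 (A := (R : Subgroup X) ⊓
      Subgroup.centralizer ((Q : Subgroup X) : Set X))
      (lt_of_le_of_ne inf_le_left fun e => hRnc (inf_eq_left.1 e))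
    refine le_trans (le_of_eq ?_) h
    congr 1
    exact Nat.card_congr (Equiv.subtypeSubtypeEquivSubtypeInter _ _)
  have hsum : ℓ * q ^ 2 * ∑ x, Nat.card (Set.range (f x)) ≤
      Nat.card (R : Subgroup X) * (ℓ * M) + Nat.card {x : (R : Subgroup X) //
        (x : X) ∈ Subgroup.centralizer ((Q : Subgroup X) : Set X)} * ((q ^ 2 - 1) * M) := by
    rw [Finset.mul_sum, Nat.card_eq_fintype_card, Nat.card_eq_fintype_card,
      Fintype.card_subtype (fun x : (R : Subgroup X) =>
        (x : X) ∈ Subgroup.centralizer ((Q : Subgroup X) : Set X))]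
    refine (Finset.sum_le_sum fun x _ => hper x).trans (le_of_eq ?_)
    rw [Finset.sum_add_distrib, Finset.sum_const, ← Finset.sum_filter, Finset.sum_const,
      Finset.card_univ]
    simp only [smul_eq_mul]
  refine Nat.le_of_mul_le_mul_left (?_ : ℓ ^ 2 * q ^ 2 * _ ≤ ℓ ^ 2 * q ^ 2 * _)
    (Nat.mul_pos (pow_pos hℓ.pos 2) (pow_pos hq.out.pos 2))
  have h2 : q * (ℓ ^ 2 + (q ^ 2 - 1)) ≤ ℓ ^ 2 * q ^ 2 := by
    have h3 : q ^ 2 ≤ ℓ ^ 2 := Nat.pow_le_pow_left hqr.le 2
    calc q * (ℓ ^ 2 + (q ^ 2 - 1)) ≤ q * (q * ℓ ^ 2) := by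
          refine Nat.mul_le_mul_left _ (le_trans ?_ (Nat.mul_le_mul_right _ hq.out.two_le))
          omega
      _ = _ := by ring
  calc ℓ ^ 2 * q ^ 2 * (q * kcl {ℓ, q} X)
      ≤ ℓ ^ 2 * q ^ 2 * (q * ∑ x, Nat.card (Set.range (f x))) :=
        Nat.mul_le_mul_left _ (Nat.mul_le_mul_left _ hcover)
    _ = q * (ℓ * (ℓ * q ^ 2 * ∑ x, Nat.card (Set.range (f x)))) := by ring
    _ ≤ q * (ℓ * (Nat.card (R : Subgroup X) * (ℓ * M) + Nat.card {x : (R : Subgroup X) //
        (x : X) ∈ Subgroup.centralizer ((Q : Subgroup X) : Set X)} * ((q ^ 2 - 1) * M))) :=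
        Nat.mul_le_mul_left _ (Nat.mul_le_mul_left _ hsum)
    _ = q * (Nat.card (R : Subgroup X) * (ℓ ^ 2 * M) + (ℓ * Nat.card {x : (R : Subgroup X) //
        (x : X) ∈ Subgroup.centralizer ((Q : Subgroup X) : Set X)}) * ((q ^ 2 - 1) * M)) := by ring
    _ ≤ q * (Nat.card (R : Subgroup X) * (ℓ ^ 2 * M) +
        Nat.card (R : Subgroup X) * ((q ^ 2 - 1) * M)) :=
        Nat.mul_le_mul_left _ (Nat.add_le_add_left (Nat.mul_le_mul_right _ hU) _)
    _ = q * (ℓ ^ 2 + (q ^ 2 - 1)) * (Nat.card (R : Subgroup X) * M) := by ring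
    _ ≤ ℓ ^ 2 * q ^ 2 * (Nat.card (R : Subgroup X) * M) := Nat.mul_le_mul_right _ h2

end Cfsg.Agent.PiClassHall53
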