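import Cfsg.Agent.Lib.PiClassHall53Count
import Cfsg.Agent.Lib.HallNilpotentConj
import Cfsg.Agent.Lib.CoprimeAction

/-!
The structural steps of the many-classes criterion: joins with the centraliser, the abelian
Sylow dichotomy, and classes of `{q, r}`-elements when `R` normalises `Q` (helper53).
-/

set_option autoImplicit false

namespace Cfsg.Agent.PiClassHall53

open scoped commutatorElement

variable {X : Type*} [Group X] [Finite X]

theorem coprime_index_of_card {σ : Finset ℕ} (hσ : ∀ q ∈ σ, q.Prime) {H : Subgroup X}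
    (hH : Nat.card H = mpi σ (Nat.card X)) : (Nat.card H).Coprime H.index := by
  refine Nat.coprime_of_dvd fun q hq h1 h2 => ?_
  rw [hH] at h1
  have hqσ := prime_dvd_mpi hσ hq h1
  have h3 := congrArg (fun k : ℕ => k.factorization q) H.card_mul_index
  simp only [hH, Nat.factorization_mul (mpi_pos hσ).ne' Subgroup.index_ne_zero_of_finite,
    Finsupp.add_apply, mpi_factorization hσ hqσ] at h3
  have h4 := hq.factorization_pos_of_dvd Subgroup.index_ne_zero_of_finite h2
  omega

omit [Finite X] in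
theorem mem_of_coprime_index (K : Subgroup X) [K.Normal] {g : X}
    (h : (orderOf g).Coprime K.index) : g ∈ K := by
  rw [← QuotientGroup.eq_one_iff, ← orderOf_eq_one_iff]
  refine Nat.eq_one_of_dvd_coprimes h (orderOf_map_dvd (QuotientGroup.mk' K) g) ?_
  rw [Subgroup.index_eq_card]
  exact orderOf_dvd_natCard _

omit [Finite X] in
/-- Commuting nilpotent subgroups of coprime orders generate a nilpotent subgroup. -/
theorem exists_nilpotent_join {A B : Subgroup X} (hc : ∀ a ∈ A, ∀ b ∈ B, Commute a b)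
    (hcop : (Nat.card A).Coprime (Nat.card B)) (hA : Group.IsNilpotent A)
    (hB : Group.IsNilpotent B) :
    ∃ J : Subgroup X, Nat.card J = Nat.card A * Nat.card B ∧ Group.IsNilpotent J := by
  let f : A × B →* X := A.subtype.noncommCoprod B.subtype fun a b => hc a a.2 b b.2
  have hinj : Function.Injective f := by
    rw [← MonoidHom.ker_eq_bot_iff, Subgroup.eq_bot_iff_forall]
    rintro ⟨a, b⟩ hab
    have h1 : (a : X) * b = 1 := hab
    have h2 : (a : X) ∈ A ⊓ B :=
      ⟨a.2, by rw [eq_inv_of_mul_eq_one_left h1]; exact B.inv_mem b.2⟩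
    rw [(Subgroup.disjoint_of_coprime_natCard hcop).eq_bot, Subgroup.mem_bot] at h2
    rw [h2, one_mul] at h1
    exact Prod.ext (Subtype.ext h2) (Subtype.ext h1)
  refine ⟨f.range, ?_, Group.nilpotent_of_surjective _ f.rangeRestrict_surjective⟩
  rw [← Nat.card_congr (MonoidHom.ofInjective hinj).toEquiv, Nat.card_prod]

/-- The part of the centraliser of a nilpotent Hall subgroup at a new prime. -/
theorem mul_card_centralizer_sylow_le {σ : Finset ℕ} (hσ : ∀ q ∈ σ, q.Prime) {r : ℕ}
    [hr : Fact r.Prime] (hrσ : r ∉ σ) {H : Subgroup X} (hH : Group.IsNilpotent H)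
    (hcard : Nat.card H = mpi σ (Nat.card X))
    (hno : ¬ ∃ J : Subgroup X, Nat.card J = mpi (insert r σ) (Nat.card X) ∧ Group.IsNilpotent J)
    (U : Sylow r (Subgroup.centralizer (H : Set X))) :
    r * Nat.card (U : Subgroup (Subgroup.centralizer (H : Set X))) ≤ mpi {r} (Nat.card X) := by
  set U' := (U : Subgroup _).map (Subgroup.centralizer (H : Set X)).subtype
  have hU : Nat.card U' = Nat.card (U : Subgroup (Subgroup.centralizer (H : Set X))) :=
    Subgroup.card_map_of_injective (Subgroup.subtype_injective _)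
  rw [← hU]
  have hr1 : ∀ q ∈ ({r} : Finset ℕ), q.Prime := by simpa using hr.out
  have hpU : IsPGroup r U' := U.2.map _
  have hdvd : Nat.card U' ∣ mpi {r} (Nat.card X) := by
    refine dvd_mpi hr1 (Subgroup.card_subgroup_dvd_card _) Nat.card_pos.ne' fun q hq hd => ?_
    obtain ⟨k, hk⟩ := IsPGroup.iff_card.1 hpU
    rw [hk] at hd
    exact Finset.mem_singleton.2 ((Nat.prime_dvd_prime_iff_eq hq hr.out).1 (hq.dvd_of_dvd_pow hd))
  refine mul_le_mpi hr1 (p := r) (fun q hq => (Finset.mem_singleton.1 hq).ge) hdvd fun he => hno ?_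
  have hc : ∀ a ∈ H, ∀ b ∈ U', Commute a b := fun a ha b hb =>
    Subgroup.mem_centralizer_iff.1 (Subgroup.map_subtype_le _ hb) a ha
  have hcop : (Nat.card H).Coprime (Nat.card U') := by
    rw [hcard, he, mpi_singleton]
    exact (mpi_coprime_of_notMem hσ hr.out hrσ _).symm
  obtain ⟨J, hJ, hJn⟩ := exists_nilpotent_join hc hcop hH hpU.isNilpotent
  refine ⟨J, ?_, hJn⟩
  rw [hJ, hcard, he, mul_comm, Finset.insert_eq, mpi_union (Finset.disjoint_singleton_left.2 hrσ)]

/-- Classes of `r`-elements whose centraliser contains a nilpotent Hall `σ`-subgroup. -/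
theorem card_good_le {σ : Finset ℕ} (hσ : ∀ q ∈ σ, q.Prime) {r : ℕ} [Fact r.Prime]
    {H : Subgroup X} (hH : Group.IsNilpotent H) (hcard : Nat.card H = mpi σ (Nat.card X))
    (U : Sylow r (Subgroup.centralizer (H : Set X))) :
    Nat.card {C : ConjClasses X // (∃ g, ConjClasses.mk g = C ∧ IsS {r} g) ∧
        ∃ H₁ : Subgroup X, H₁ ≤ Subgroup.centralizer ({crep C} : Set X) ∧
          Nat.card H₁ = mpi σ (Nat.card X) ∧ Group.IsNilpotent H₁} ≤
      Nat.card (U : Subgroup (Subgroup.centralizer (H : Set X))) := by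
  refine le_trans ?_ (Finite.card_range_le fun u :
    (U : Subgroup (Subgroup.centralizer (H : Set X))) =>
      ConjClasses.mk ((u : Subgroup.centralizer (H : Set X)) : X))
  refine Nat.card_le_card_of_injective (fun C => ⟨C.1, ?_⟩)
    (fun a b e => Subtype.ext (congrArg Subtype.val e : _))
  obtain ⟨⟨g₀, hg₀, hr⟩, H₁, hle, hc1, hn1⟩ := C.2
  have hx : IsS {r} (crep C.1) := hr.of_mk_eq (hg₀.trans (mk_crep C.1).symm)
  obtain ⟨g, hg⟩ := HallNilpotentConj.wielandt hn1 hH (hcard.trans hc1.symm)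
    (coprime_index_of_card hσ hc1)
  have hmem : g * crep C.1 * g⁻¹ ∈ Subgroup.centralizer (H : Set X) := by
    rw [← hg, Subgroup.mem_centralizer_iff]
    rintro _ ⟨h, hh, rfl⟩
    simp only [MulEquiv.coe_toMonoidHom, MulAut.conj_apply]
    have := Subgroup.mem_centralizer_singleton_iff.1 (hle hh)
    calc g * h * g⁻¹ * (g * crep C.1 * g⁻¹) = g * (h * crep C.1) * g⁻¹ := by group
      _ = g * (crep C.1 * h) * g⁻¹ := by rw [this]
      _ = _ := by group
  obtain ⟨a, ha⟩ := exists_conj_mem_sylow U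
    (g := (⟨_, hmem⟩ : Subgroup.centralizer (H : Set X))) (isS_coe.1 (hx.conj g))
  refine ⟨⟨_, ha⟩, ?_⟩
  show ConjClasses.mk ((a : X) * (g * crep C.1 * g⁻¹) * (a : X)⁻¹) = C.1
  rw [mk_conj, mk_conj, mk_crep]

omit [Finite X] in
theorem normal_ker_le {A : Type*} [Group A] [IsMulCommutative A] (f : X →* A) (a b : X) :
    a * b * a⁻¹ * b⁻¹ ∈ f.ker := by
  rw [MonoidHom.mem_ker, map_mul, map_mul, map_mul, map_inv, map_inv,
    mul_comm' (f a) (f b)]
  group

/-- Either few classes, or a normal complement with abelian quotient. -/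
theorem dichotomy {σ : Finset ℕ} (hσ : ∀ q ∈ σ, q.Prime) {p : ℕ} (hp : ∀ q ∈ σ, p ≤ q)
    (hp3 : 3 ≤ p) :
    2 * p * kcl σ X ≤ (p + 1) * mpi σ (Nat.card X) ∨
      ∃ K : Subgroup X, K.Normal ∧ K.index = mpi σ (Nat.card X) ∧
        (Nat.card K).Coprime K.index ∧ ∀ a b : X, a * b * a⁻¹ * b⁻¹ ∈ K := by
  classical
  by_cases hbad : ∀ q ∈ σ, ∃ K : Subgroup X, K.Normal ∧ ¬ q ∣ Nat.card K ∧
      (∀ a b : X, a * b * a⁻¹ * b⁻¹ ∈ K) ∧ ∃ k, K.index = q ^ k
  · right
    choose K hKn hKq hKc hKi using hbad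
    let N : Subgroup X := ⨅ q : {q // q ∈ σ}, K q.1 q.2
    have hN : N.Normal := Subgroup.normal_iInf_normal fun q => hKn q.1 q.2
    have hq : ∀ q ∈ σ, ¬ q ∣ Nat.card N := fun q hq hd =>
      hKq q hq (hd.trans (Subgroup.card_dvd_of_le (iInf_le (fun q : {q // q ∈ σ} => K q.1 q.2) ⟨q, hq⟩)))
    have hidx : ∀ s : ℕ, s.Prime → s ∣ N.index → s ∈ σ := by
      intro s hs hd
      have := Fact.mk hs
      by_contra hsσ
      rw [Subgroup.index_eq_card] at hd
      obtain ⟨z, hz⟩ := exists_prime_orderOf_dvd_card' (G := X ⧸ N) s hd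
      obtain ⟨x, rfl⟩ := QuotientGroup.mk'_surjective N z
      obtain ⟨k, l, hl, hkl⟩ := Nat.exists_eq_pow_mul_and_not_dvd (orderOf_pos x).ne' s hs.ne_one
      have hxl : x ^ l ∈ N := by
        refine Subgroup.mem_iInf.2 fun q => ?_
        have := hKn q.1 q.2
        refine mem_of_coprime_index (K q.1 q.2) ?_
        obtain ⟨j, hj⟩ := hKi q.1 q.2
        rw [hj]
        refine Nat.Coprime.coprime_dvd_left (orderOf_dvd_of_pow_eq_one (n := s ^ k) ?_)
          ((Nat.coprime_primes hs (hσ q.1 q.2)).2 (fun e => hsσ (e ▸ q.2)) |>.pow _ _)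
        rw [← pow_mul, mul_comm, ← hkl, pow_orderOf_eq_one]
      have h1 : ((QuotientGroup.mk' N) x) ^ l = 1 := by
        rw [← map_pow, ← MonoidHom.mem_ker, QuotientGroup.ker_mk']
        exact hxl
      have h2 := orderOf_dvd_of_pow_eq_one h1
      rw [hz] at h2
      exact hl h2
    have hcop : (Nat.card N).Coprime N.index :=
      Nat.coprime_of_dvd fun s hs h1 h2 => hq s (hidx s hs h2) h1
    refine ⟨N, hN, Nat.dvd_antisymm (dvd_mpi hσ N.index_dvd_card Nat.card_pos.ne' hidx) ?_, hcop,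
      fun a b => Subgroup.mem_iInf.2 fun q => hKc q.1 q.2 a b⟩
    have hd : mpi σ (Nat.card X) ∣ Nat.card N * N.index := by
      rw [N.card_mul_index]; exact mpi_dvd hσ
    exact (Nat.coprime_of_dvd fun s hs h1 h2 => hq s (prime_dvd_mpi hσ hs h1) h2).dvd_of_dvd_mul_left
      hd
  · left
    push Not at hbad
    obtain ⟨q, hq, hbad⟩ := hbad
    have hqp := hσ q hq
    have := Fact.mk hqp
    have hpq := hp q hq
    obtain ⟨Q⟩ : Nonempty (Sylow q X) := inferInstance
    have hQc : Nat.card (Q : Subgroup X) = mpi {q} (Nat.card X) := by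
      rw [mpi_singleton, Q.card_eq_multiplicity]
    have hmul : kcl σ X ≤ kcl {q} X * mpi (σ.erase q) (Nat.card X) := by
      have h := kcl_le_mul (X := X) (σ := {q}) (τ := σ.erase q) (by simpa using hqp)
        fun x hx => hσ x (Finset.mem_of_mem_erase hx)
      rwa [← Finset.insert_eq, Finset.insert_erase hq] at h
    have hm : mpi σ (Nat.card X) = mpi {q} (Nat.card X) * mpi (σ.erase q) (Nat.card X) := by
      rw [← mpi_union (Finset.disjoint_singleton_left.2 (Finset.notMem_erase q σ)),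
        ← Finset.insert_eq, Finset.insert_erase hq]
    suffices h : 2 * p * kcl {q} X ≤ (p + 1) * Nat.card (Q : Subgroup X) by
      rw [hm, ← hQc]
      calc 2 * p * kcl σ X ≤ 2 * p * (kcl {q} X * mpi (σ.erase q) (Nat.card X)) :=
            Nat.mul_le_mul_left _ hmul
        _ = 2 * p * kcl {q} X * mpi (σ.erase q) (Nat.card X) := by ring
        _ ≤ (p + 1) * Nat.card (Q : Subgroup X) * mpi (σ.erase q) (Nat.card X) :=
            Nat.mul_le_mul_right _ h
        _ = _ := by ring
    by_cases hab : commutator (Q : Subgroup X) = ⊥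
    · have hcomm : IsMulCommutative (Q : Subgroup X) := ⟨⟨fun a b => by
        have : ⁅a, b⁆ ∈ commutator (Q : Subgroup X) :=
          Subgroup.commutator_mem_commutator (Subgroup.mem_top a) (Subgroup.mem_top b)
        rw [hab, Subgroup.mem_bot] at this
        exact commutatorElement_eq_one_iff_mul_comm.1 this⟩⟩
      have hN : ¬ Subgroup.normalizer ((Q : Subgroup X) : Set X) ≤
          Subgroup.centralizer ((Q : Subgroup X) : Set X) := by
        intro hle
        exact hbad _ inferInstance (MonoidHom.not_dvd_card_ker_transferSylow Q hle)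
          (fun a b => normal_ker_le _ a b) ((Nat.card X).factorization q)
          ((MonoidHom.ker_transferSylow_isComplement' Q hle).symm.index_eq_card.trans
            Q.card_eq_multiplicity)
      obtain ⟨g, hg, hgc⟩ := SetLike.not_le_iff_exists.1 hN
      obtain ⟨b, ℓ, -, hℓ, -, hb, hbc, hbl⟩ := exists_prime_pow hg hgc
      have h1 := kcl_singleton_orbit Q hℓ hb hbc hbl
      refine Nat.le_of_mul_le_mul_left (?_ : ℓ * q * _ ≤ ℓ * q * _) (Nat.mul_pos hℓ.pos hqp.pos)
      have h2 : 2 * p * (q + (ℓ - 1)) ≤ (p + 1) * (ℓ * q) := by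
        obtain ⟨l, rfl⟩ : ∃ l, ℓ = l + 2 := ⟨ℓ - 2, by have := hℓ.two_le; omega⟩
        rw [show l + 2 - 1 = l + 1 by omega]
        have h3 : p * l + p ≤ q * l + q := by
          have := Nat.mul_le_mul_right l hpq
          omega
        have h4 : 2 * (p * l) ≤ p * q * l := by
          calc 2 * (p * l) ≤ q * (p * l) := Nat.mul_le_mul_right _ hqp.two_le
            _ = _ := by ring
        nlinarith [h3, h4, hpq]
      calc ℓ * q * (2 * p * kcl {q} X) = 2 * p * (ℓ * (kcl {q} X * q)) := by ring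
        _ ≤ 2 * p * (Nat.card (Q : Subgroup X) * (q + (ℓ - 1))) := Nat.mul_le_mul_left _ h1
        _ = Nat.card (Q : Subgroup X) * (2 * p * (q + (ℓ - 1))) := by ring
        _ ≤ Nat.card (Q : Subgroup X) * ((p + 1) * (ℓ * q)) := Nat.mul_le_mul_left _ h2
        _ = _ := by ring
    · have h1 := classes_le_of_nonabelian Q.2 hab
      have hq3 : 3 ≤ q := hp3.trans hpq
      have h2 : 2 * (q ^ 2 + q - 1) ≤ q ^ 3 := by
        obtain ⟨t, rfl⟩ : ∃ t, q = t + 3 := ⟨q - 3, by omega⟩
        have e : 2 * ((t + 3) ^ 2 + (t + 3)) ≤ (t + 3) ^ 3 + 2 := by ring_nf; omega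
        omega
      refine le_trans ?_ (Nat.mul_le_mul_right _ (Nat.le_succ p))
      rw [mul_comm 2 p, mul_assoc]
      refine Nat.mul_le_mul_left _ (Nat.le_of_mul_le_mul_left
        (?_ : q ^ 3 * _ ≤ q ^ 3 * _) (pow_pos hqp.pos 3))
      calc q ^ 3 * (2 * kcl {q} X) ≤ q ^ 3 * (2 * Nat.card (ConjClasses (Q : Subgroup X))) :=
            Nat.mul_le_mul_left _ (Nat.mul_le_mul_left _ (kcl_singleton_le_classes Q))
        _ = 2 * (q ^ 3 * Nat.card (ConjClasses (Q : Subgroup X))) := by ring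
        _ ≤ 2 * (Nat.card (Q : Subgroup X) * (q ^ 2 + q - 1)) := Nat.mul_le_mul_left _ h1
        _ = Nat.card (Q : Subgroup X) * (2 * (q ^ 2 + q - 1)) := by ring
        _ ≤ Nat.card (Q : Subgroup X) * q ^ 3 := Nat.mul_le_mul_left _ h2
        _ = _ := by ring

end Cfsg.Agent.PiClassHall53
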