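import Mathlib
import Cfsg.Agent.Lib.CoprimeAction
import Cfsg.Agent.Lib.CoprimeSZ
import Cfsg.Agent.Lib.HallCore

/-! `π`-closed groups and `π'`-homogeneity. -/

set_option autoImplicit false

namespace Cfsg.Agent.PiClosedHom

open scoped Pointwise

variable {G : Type*} [Group G] [Finite G] (π : Set ℕ)

/-- `x` is a π-element. -/
def IsPiElt {H : Type*} [Monoid H] (x : H) : Prop := ∀ p : ℕ, p.Prime → p ∣ orderOf x → p ∈ π

/-- The π-elements form a subgroup. -/
def Closed (H : Type*) [Group H] : Prop :=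
  ∃ K : Subgroup H, ∀ x : H, x ∈ K ↔ ∀ p : ℕ, p.Prime → p ∣ orderOf x → p ∈ π

/-- Element form of "`N(H)/C(H)` is a π'-group for every non-trivial π'-subgroup `H`". -/
def Hom (G : Type*) [Group G] : Prop :=
  ∀ H : Subgroup G, H ≠ ⊥ → (∀ p : ℕ, p.Prime → p ∣ Nat.card H → p ∉ π) →
    ∀ x ∈ Subgroup.normalizer (H : Set G), ∀ r : ℕ, r.Prime → r ∈ π →
      x ^ r ∈ Subgroup.centralizer (H : Set G) → x ∈ Subgroup.centralizer (H : Set G)

theorem centralizer_normal (H : Subgroup G) :
    ((Subgroup.centralizer (H : Set G)).subgroupOf (Subgroup.normalizer (H : Set G))).Normal := by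
  refine ⟨fun c hc g => ?_⟩
  rw [Subgroup.mem_subgroupOf] at hc ⊢
  simp only [Subgroup.coe_mul, Subgroup.coe_inv]
  rw [Subgroup.mem_centralizer_iff] at hc ⊢
  intro z hz
  have hz' : (g : G)⁻¹ * z * g ∈ H := by
    simpa using (Subgroup.mem_normalizer_iff.mp (inv_mem g.2) z).mp hz
  calc z * ((g : G) * c * (g : G)⁻¹) = g * (((g : G)⁻¹ * z * g) * c) * (g : G)⁻¹ := by group
    _ = g * ((c : G) * ((g : G)⁻¹ * z * g)) * (g : G)⁻¹ := by rw [hc _ hz']
    _ = _ := by group

theorem hom_of_relIndex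
    (h : ∀ H : Subgroup G, H ≠ ⊥ → (∀ p : ℕ, p.Prime → p ∣ Nat.card ↥H → p ∉ π) →
        ∀ p : ℕ, p.Prime → p ∣ (Subgroup.centralizer (H : Set G)).relIndex
          (Subgroup.normalizer (H : Set G)) → p ∉ π) : Hom π G := by
  intro H hH hHπ x hx r hr hrπ hxr
  by_contra hxC
  haveI := centralizer_normal H
  set C := (Subgroup.centralizer (H : Set G)).subgroupOf (Subgroup.normalizer (H : Set G)) with hC
  haveI : Fact r.Prime := ⟨hr⟩
  have h1 : ((⟨x, hx⟩ : Subgroup.normalizer (H : Set G)) : Subgroup.normalizer (H : Set G) ⧸ C) ^ r = 1 := by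
    rw [← QuotientGroup.mk_pow, QuotientGroup.eq_one_iff]
    exact hxr
  have h2 : orderOf ((⟨x, hx⟩ : Subgroup.normalizer (H : Set G)) : Subgroup.normalizer (H : Set G) ⧸ C) = r :=
    orderOf_eq_prime h1 (fun h => hxC ((QuotientGroup.eq_one_iff (N := C) _).mp h))
  exact h H hH hHπ r hr (h2 ▸ orderOf_dvd_natCard _) hrπ

theorem relIndex_of_hom (h : Hom π G) :
    ∀ H : Subgroup G, H ≠ ⊥ → (∀ p : ℕ, p.Prime → p ∣ Nat.card ↥H → p ∉ π) →
        ∀ p : ℕ, p.Prime → p ∣ (Subgroup.centralizer (H : Set G)).relIndex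
          (Subgroup.normalizer (H : Set G)) → p ∉ π := by
  intro H hH hHπ p hp hd hpπ
  haveI := centralizer_normal H
  haveI : Fact p.Prime := ⟨hp⟩
  obtain ⟨y, hy⟩ := exists_prime_orderOf_dvd_card' (G := Subgroup.normalizer (H : Set G) ⧸
    (Subgroup.centralizer (H : Set G)).subgroupOf (Subgroup.normalizer (H : Set G))) p hd
  obtain ⟨x, rfl⟩ := QuotientGroup.mk_surjective y
  have h1 := pow_orderOf_eq_one
    (x : Subgroup.normalizer (H : Set G) ⧸ (Subgroup.centralizer (H : Set G)).subgroupOf (Subgroup.normalizer (H : Set G)))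
  rw [hy, ← QuotientGroup.mk_pow, QuotientGroup.eq_one_iff, Subgroup.mem_subgroupOf] at h1
  have h2 := h H hH hHπ x x.2 p hp hpπ (by simpa using h1)
  have h3 : ((x : Subgroup.normalizer (H : Set G) ⧸ (Subgroup.centralizer (H : Set G)).subgroupOf (Subgroup.normalizer (H : Set G)))) = 1 :=
    (QuotientGroup.eq_one_iff x).mpr h2
  rw [h3, orderOf_one] at hy
  exact hp.one_lt.ne hy

/-- Powers: the π-part of an element of `N(H)` centralizes `H`. -/
theorem mem_centralizer_of_isPiElt (h : Hom π G) {H : Subgroup G} (hH : H ≠ ⊥)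
    (hHπ : ∀ p : ℕ, p.Prime → p ∣ Nat.card H → p ∉ π) :
    ∀ (n : ℕ) (x : G), orderOf x ≤ n → x ∈ Subgroup.normalizer (H : Set G) → IsPiElt π x →
      x ∈ Subgroup.centralizer (H : Set G) := by
  intro n
  induction n using Nat.strong_induction_on with
  | _ n ih =>
    intro x hn hx hxπ
    by_cases h1 : x = 1
    · exact h1 ▸ one_mem _
    obtain ⟨r, hr, hrd⟩ := Nat.exists_prime_and_dvd (mt orderOf_eq_one_iff.mp h1)
    refine h H hH hHπ x hx r hr (hxπ r hr hrd) ?_
    have hord : orderOf (x ^ r) = orderOf x / r := orderOf_pow_of_dvd hr.ne_zero hrd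
    refine ih (orderOf (x ^ r)) ?_ _ le_rfl (pow_mem hx r) ?_
    · rw [hord]
      exact lt_of_lt_of_le (Nat.div_lt_self (orderOf_pos x) hr.one_lt) hn
    · intro q hq hqd
      exact hxπ q hq (hqd.trans (orderOf_pow_dvd r))

theorem Hom.to_subgroup (h : Hom π G) (K : Subgroup G) : Hom π K := by
  intro H hH hHπ x hx r hr hrπ hxr
  have e : ∀ y : K, (y : G) ∈ H.map K.subtype ↔ y ∈ H := fun y => Subgroup.mem_map_iff_mem K.subtype_injective
  have hc : Nat.card (H.map K.subtype) = Nat.card H :=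
    Nat.card_congr (H.equivMapOfInjective _ K.subtype_injective).toEquiv.symm
  have hcent : ∀ y : K, (y : G) ∈ Subgroup.centralizer ((H.map K.subtype : Subgroup G) : Set G) ↔
      y ∈ Subgroup.centralizer (H : Set K) := by
    intro y
    simp only [Subgroup.mem_centralizer_iff]
    constructor
    · intro h' z hz
      exact Subtype.ext (h' z (Subgroup.mem_map_of_mem _ hz))
    · rintro h' _ ⟨z, hz, rfl⟩
      exact congrArg Subtype.val (h' z hz)
  have h2 := h (H.map K.subtype) (by simpa [Subgroup.map_eq_bot_iff] using hH) (hc ▸ hHπ) x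
    (Subgroup.le_normalizer_map K.subtype ⟨x, hx, rfl⟩) r hr hrπ
    (by rw [← Subgroup.coe_pow]; exact (hcent _).mpr hxr)
  exact (hcent x).mp h2

/-- A π-element of `G` normalizing a π-closed subgroup with π-subgroup `L` centralizes it modulo `L`. -/
theorem centralizes_mod (h : Hom π G) (L K : Subgroup G) [L.Normal] [K.Normal] (hLK : L ≤ K)
    (hL : ∀ x ∈ L, IsPiElt π x) (hKL : ∀ x ∈ K, IsPiElt π x → x ∈ L)
    (g : G) (hg : IsPiElt π g) (k : G) (hk : k ∈ K) :
    (g : G ⧸ L) * (k : G ⧸ L) = (k : G ⧸ L) * g := by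
  haveI : (K.map (QuotientGroup.mk' L)).Normal :=
    Subgroup.Normal.map inferInstance _ (QuotientGroup.mk'_surjective L)
  set Kb := K.map (QuotientGroup.mk' L) with hKb
  have hLπ : ∀ r : ℕ, r.Prime → r ∣ Nat.card L → r ∈ π := by
    intro r hr hd
    haveI : Fact r.Prime := ⟨hr⟩
    obtain ⟨x, hx⟩ := exists_prime_orderOf_dvd_card' (G := L) r hd
    exact hL x x.2 r hr (by rw [Subgroup.orderOf_coe, hx])
  have hKbπ : ∀ r : ℕ, r.Prime → r ∣ Nat.card Kb → r ∉ π := by
    intro r hr hd hrπ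
    haveI : Fact r.Prime := ⟨hr⟩
    obtain ⟨⟨y, hy⟩, hyo⟩ := exists_prime_orderOf_dvd_card' (G := Kb) r hd
    rw [Subgroup.orderOf_mk] at hyo
    obtain ⟨x, hx, rfl⟩ := hy
    have hxπ : IsPiElt π x := by
      intro q hq hqd
      by_contra hqn
      have h1 : x ^ r ∈ L := by
        rw [← QuotientGroup.eq_one_iff, QuotientGroup.mk_pow]
        rw [← hyo]
        exact pow_orderOf_eq_one _
      have h2 : q ∣ r * orderOf (x ^ r) := hqd.trans (by
        rw [orderOf_dvd_iff_pow_eq_one, pow_mul, pow_orderOf_eq_one])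
      rcases hq.dvd_mul.mp h2 with h3 | h3
      · exact hqn ((Nat.prime_dvd_prime_iff_eq hq hr).mp h3 ▸ hrπ)
      · exact hqn (hL _ h1 q hq h3)
    have := hKL x hx hxπ
    rw [QuotientGroup.mk'_apply, (QuotientGroup.eq_one_iff x).mpr this, orderOf_one] at hyo
    exact hr.one_lt.ne hyo
  have hgK : Subgroup.zpowers (g : G ⧸ L) ≤ Subgroup.normalizer (Kb : Set (G ⧸ L)) := by
    rw [Subgroup.normalizer_eq_top]; exact le_top
  have hcop : (Nat.card (Subgroup.zpowers (g : G ⧸ L))).Coprime (Nat.card Kb) := by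
    refine Nat.coprime_of_dvd fun q hq h1 h2 => hKbπ q hq h2 ?_
    rw [Nat.card_zpowers] at h1
    exact hg q hq (h1.trans (orderOf_map_dvd (QuotientGroup.mk' L) g))
  set D := Subgroup.centralizer ({(g : G ⧸ L)} : Set (G ⧸ L)) ⊓ Kb with hD
  have hdvd : Nat.card Kb ∣ Nat.card D := by
    rw [← Nat.factorization_prime_le_iff_dvd Nat.card_pos.ne' Nat.card_pos.ne']
    intro q hq
    rw [← Nat.Prime.pow_dvd_iff_le_factorization hq Nat.card_pos.ne']
    haveI : Fact q.Prime := ⟨hq⟩
    by_cases hqd : q ∣ Nat.card Kb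
    swap
    · rw [Nat.factorization_eq_zero_of_not_dvd hqd, pow_zero]; exact one_dvd _
    obtain ⟨P, -, hPn⟩ := CoprimeAction.exists_invariant_sylow_ge hgK hcop
      (Or.inl inferInstance) (U := ⊥) bot_le IsPGroup.of_bot (by
        rw [Subgroup.normalizer_eq_top]; exact le_top) (p := q)
    set Pm := (P : Subgroup Kb).map Kb.subtype with hPm
    have hPm_le : Pm ≤ Kb := Subgroup.map_subtype_le _
    have hPcard : Nat.card Pm = q ^ (Nat.card Kb).factorization q := by
      rw [hPm, ← Nat.card_congr ((P : Subgroup Kb).equivMapOfInjective _ Kb.subtype_injective).toEquiv,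
        P.card_eq_multiplicity]
    -- lift `P` to a Sylow subgroup `Q`
    set PL := Pm.comap (QuotientGroup.mk' L) with hPL
    let Q₀ : Sylow q PL := default
    set Q := (Q₀ : Subgroup PL).map PL.subtype with hQ
    have hQp : IsPGroup q Q := Q₀.isPGroup'.map _
    have hQcard : Nat.card Q = q ^ (Nat.card Kb).factorization q := by
      have hqL : ¬ q ∣ Nat.card L := fun hd => hKbπ q hq hqd (hLπ q hq hd)
      rw [hQ, ← Nat.card_congr ((Q₀ : Subgroup PL).equivMapOfInjective _ PL.subtype_injective).toEquiv,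
        Q₀.card_eq_multiplicity]
      have hPLc : Nat.card PL = Nat.card L * Nat.card Pm := by rw [mul_comm]; exact (HallCore.card_comap_mk' L Pm).symm
      rw [hPLc, Nat.factorization_mul Nat.card_pos.ne' Nat.card_pos.ne', Finsupp.add_apply,
        Nat.factorization_eq_zero_of_not_dvd hqL, hPcard, hq.factorization_pow, Finsupp.single_eq_same, zero_add]
    have hmap : Q.map (QuotientGroup.mk' L) = Pm := by
      refine Subgroup.eq_of_le_of_card_ge ?_ ?_
      · rintro _ ⟨x, ⟨x', -, rfl⟩, rfl⟩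
        exact x'.2
      · rw [hPcard, ← hQcard]
        have hinj : Function.Injective ((QuotientGroup.mk' L).domRestrict Q) := by
          rw [← MonoidHom.ker_eq_bot_iff, Subgroup.eq_bot_iff_forall]
          rintro ⟨x, hx⟩ hx1
          have hxL : x ∈ L := (QuotientGroup.eq_one_iff x).mp hx1
          have hd1 := Subgroup.orderOf_dvd_natCard Q hx
          have hd2 := Subgroup.orderOf_dvd_natCard L hxL
          have hco : (Nat.card Q).Coprime (Nat.card L) := by
            rw [hQcard]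
            exact Nat.Coprime.pow_left _ ((Nat.Prime.coprime_iff_not_dvd hq).mpr
              (fun hd => hKbπ q hq hqd (hLπ q hq hd)))
          exact Subtype.ext (orderOf_eq_one_iff.mp (Nat.eq_one_of_dvd_coprimes hco hd1 hd2))
        refine Nat.card_le_card_of_injective (fun x : Q => (⟨QuotientGroup.mk' L x, Subgroup.mem_map_of_mem _ x.2⟩ : Q.map (QuotientGroup.mk' L))) ?_
        intro a b hab
        exact hinj (congrArg Subtype.val hab)
    have hPsup : PL ≤ L ⊔ Q := by
      intro x hx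
      have : (QuotientGroup.mk' L x) ∈ Q.map (QuotientGroup.mk' L) := hmap ▸ hx
      have h2 : x ∈ (Q.map (QuotientGroup.mk' L)).comap (QuotientGroup.mk' L) := this
      rw [Subgroup.comap_map_eq, QuotientGroup.ker_mk', sup_comm] at h2
      exact h2
    have hconj : MulAut.conj g • Q ≤ L ⊔ Q := by
      refine le_trans ?_ hPsup
      intro x hx
      rw [CoprimeSZ.mem_conj_smul] at hx
      have h1 : (g : G ⧸ L)⁻¹ * (x : G ⧸ L) * g ∈ Pm := by
        rw [← hmap]
        refine ⟨g⁻¹ * x * g, hx, ?_⟩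
        simp
      have hgn := hPn (Subgroup.mem_zpowers (g : G ⧸ L))
      have h2 := (Subgroup.mem_normalizer_iff.mp hgn _).mp h1
      show (x : G ⧸ L) ∈ Pm
      simpa [mul_assoc] using h2
    obtain ⟨n, hn, hnQ⟩ := CoprimeSZ.exists_conj_of_card_eq (N := L) (A := Q) (B := MulAut.conj g • Q)
      (by rw [Subgroup.normalizer_eq_top]; exact le_top)
      (by rw [hQcard]; exact Nat.Coprime.pow_left _ ((Nat.Prime.coprime_iff_not_dvd hq).mpr
        (fun hd => hKbπ q hq hqd (hLπ q hq hd))))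
      (Or.inl (CoprimeAction.isSolvable_of_isPGroup hQp)) hconj (CoprimeSZ.card_conj_smul g Q)
    have hgn' : n⁻¹ * g ∈ Subgroup.normalizer (Q : Set G) := by
      refine CoprimeAction.mem_normalizer_of_conj_smul_eq ?_
      rw [map_mul, mul_smul, ← hnQ, ← mul_smul, ← map_mul, inv_mul_cancel, map_one, one_smul]
    have himg : ((n⁻¹ * g : G) : G ⧸ L) = g := by
      rw [QuotientGroup.mk_mul, (QuotientGroup.eq_one_iff _).mpr (inv_mem hn), one_mul]
    have hπ' : IsPiElt π (n⁻¹ * g) := by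
      intro r hr hrd
      have h1 : (n⁻¹ * g) ^ orderOf g ∈ L := by
        rw [← QuotientGroup.eq_one_iff, QuotientGroup.mk_pow, himg, ← QuotientGroup.mk_pow,
          pow_orderOf_eq_one, QuotientGroup.mk_one]
      have h2 : r ∣ orderOf g * orderOf ((n⁻¹ * g) ^ orderOf g) := hrd.trans (by
        rw [orderOf_dvd_iff_pow_eq_one, pow_mul, pow_orderOf_eq_one])
      rcases hr.dvd_mul.mp h2 with h3 | h3
      · exact hg r hr h3
      · exact hL _ h1 r hr h3
    have hQbot : Q ≠ ⊥ := by
      intro h0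
      rw [h0, Subgroup.card_bot] at hQcard
      have := (hq.dvd_iff_one_le_factorization Nat.card_pos.ne').mp hqd
      exact absurd hQcard.symm (Nat.one_lt_pow (by omega) hq.one_lt).ne'
    have hQπ : ∀ r : ℕ, r.Prime → r ∣ Nat.card Q → r ∉ π := by
      intro r hr hd
      rw [hQcard] at hd
      exact (Nat.prime_dvd_prime_iff_eq hr hq).mp (hr.dvd_of_dvd_pow hd) ▸ hKbπ q hq hqd
    have hcen := mem_centralizer_of_isPiElt π h hQbot hQπ _ _ le_rfl hgn' hπ'
    have hle : Pm ≤ D := by
      refine le_inf ?_ hPm_le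
      rw [← hmap]
      rintro _ ⟨x, hx, rfl⟩
      refine Subgroup.mem_centralizer_singleton_iff.mpr ?_
      rw [QuotientGroup.mk'_apply, ← himg, ← QuotientGroup.mk_mul, ← QuotientGroup.mk_mul]
      exact congrArg _ (Subgroup.mem_centralizer_iff.mp hcen x hx)
    rw [← hPcard]
    exact Subgroup.card_dvd_of_le hle
  have heq : D = Kb := Subgroup.eq_of_le_of_card_ge inf_le_right (Nat.le_of_dvd Nat.card_pos hdvd)
  have hmem : (k : G ⧸ L) ∈ D := heq ▸ Subgroup.mem_map_of_mem _ hk
  exact (Subgroup.mem_centralizer_singleton_iff.mp hmem.1).symm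

end Cfsg.Agent.PiClosedHom
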