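import Mathlib
import Cfsg.Prelude.Def_HallClasses
import Cfsg.Agent.Lib.TransferAlperin
import Cfsg.Agent.Lib.CentralSylow
import Cfsg.Agent.Lib.BrauerPiSection

/-!
# π-homogeneous groups with a dominating Hall π-subgroup

If every π-subgroup of `G` is conjugate into a π-subgroup `H` and `N(Q)/C(Q)` is a π-group for
every non-trivial π-subgroup `Q`, then `H` controls the fusion of its own elements, so that `G`
has a normal π-complement by the theorem of Brauer and Suzuki.
-/

set_option autoImplicit false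

namespace Cfsg.Agent.PiHomogeneous30

open Subgroup Cfsg.Agent.TransferAlperin

universe u

/-- `N(Q)/C(Q)` is a π-group for every non-trivial π-subgroup. -/
def Hom (π : Set ℕ) (G : Type u) [Group G] : Prop :=
  ∀ H : Subgroup G, H ≠ ⊥ → (∀ p : ℕ, p.Prime → p ∣ Nat.card ↥H → p ∈ π) →
    ∀ p : ℕ, p.Prime →
      p ∣ (Subgroup.centralizer (H : Set G)).relIndex (Subgroup.normalizer (H : Set G)) → p ∈ π

/-- Every π-subgroup is conjugate into `H`. -/
def Dominates (π : Set ℕ) {G : Type u} [Group G] (H : Subgroup G) : Prop :=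
  ∀ L : Subgroup G, Cfsg.IsPiSubgroup π L → ∃ a : G, cj a L ≤ H

/-- A supplement to a normal subgroup with π-quotient which is a π-group. -/
lemma exists_pi_supplement {N : Type u} [Group N] [Finite N] (π : Set ℕ) (K : Subgroup N)
    [hKn : K.Normal] (hidx : ∀ r : ℕ, r.Prime → r ∣ K.index → r ∈ π) :
    ∃ U : Subgroup N, Cfsg.IsPiSubgroup π U ∧ U ⊔ K = ⊤ ∧ U.index ∣ Nat.card K := by
  obtain ⟨U, hU, hmin⟩ := (Set.toFinite {U : Subgroup N | U ⊔ K = ⊤}).exists_minimal
    ⟨⊤, top_sup_eq K⟩
  have hUK : U ⊔ K = ⊤ := hU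
  have hsmall : ∀ M : Subgroup U, M ⊔ K.subgroupOf U = ⊤ → M = ⊤ := by
    intro M hM
    have h1 : M.map U.subtype ⊔ K = ⊤ := by
      rw [eq_top_iff, ← hUK]
      refine sup_le (fun x hx => ?_) le_sup_right
      have h2 : (⟨x, hx⟩ : U) ∈ M ⊔ K.subgroupOf U := hM.symm ▸ mem_top _
      have h3 : x ∈ (M ⊔ K.subgroupOf U).map U.subtype := ⟨_, h2, rfl⟩
      rw [Subgroup.map_sup] at h3
      have h4 : (K.subgroupOf U).map U.subtype ≤ K := by
        rintro _ ⟨y, hy, rfl⟩
        exact mem_subgroupOf.1 hy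
      exact SetLike.le_def.1 (sup_le_sup_left h4 _) h3
    have h2 : U ≤ M.map U.subtype := hmin h1 (map_subtype_le M)
    rw [eq_top_iff]
    intro x _
    obtain ⟨y, hy, hxy⟩ := h2 x.2
    rwa [← Subtype.ext hxy]
  have hrel : K.relIndex U = K.index := by
    have h := relIndex_sup_right (H := U) (K := K)
    rw [hUK, relIndex_top_right] at h
    exact h.symm
  refine ⟨U, ?_, hUK, ?_⟩
  · intro r hr hrU
    by_contra hrπ
    haveI := Fact.mk hr
    set KU := K.subgroupOf U
    have hKU : ¬ r ∣ KU.index := by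
      rw [show KU.index = K.relIndex U from rfl, hrel]
      exact fun h => hrπ (hidx r hr h)
    obtain ⟨W⟩ : Nonempty (Sylow r KU) := inferInstance
    have hfr := Sylow.normalizer_sup_eq_top W
    set W' := (W : Subgroup KU).map KU.subtype
    have hW' : W'.Normal := normalizer_eq_top_iff.1 (hsmall _ hfr)
    have hWcard : Nat.card W' = Nat.card (W : Subgroup KU) :=
      card_map_of_injective KU.subtype_injective
    have hWi : ¬ r ∣ W'.index := by
      intro h
      rw [← relIndex_mul_index (map_subtype_le _ : W' ≤ KU)] at h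
      rcases hr.dvd_mul.1 h with h | h
      · refine W.not_dvd_index ?_
        have : W'.relIndex KU = (W : Subgroup KU).index := by
          rw [relIndex, subgroupOf, comap_map_eq_self_of_injective KU.subtype_injective]
        rwa [this] at h
      · exact hKU h
    have hWp : IsPGroup r W' := W.isPGroup'.map _
    have hcop : Nat.Coprime (Nat.card W') W'.index := by
      obtain ⟨k, hk⟩ := IsPGroup.iff_card.1 hWp
      rw [hk]
      exact (hr.coprime_iff_not_dvd.2 hWi).pow_left k
    obtain ⟨M, hM⟩ := Subgroup.exists_right_complement'_of_coprime hcop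
    have hMtop : M = ⊤ := by
      refine hsmall M ?_
      rw [eq_top_iff, ← hM.symm.sup_eq_top]
      exact sup_le_sup_left (map_subtype_le _) _
    have h1 := hM.card_mul
    rw [hMtop, card_top] at h1
    have hW1 : Nat.card W' = 1 := by
      have hpos : 0 < Nat.card U := Nat.card_pos
      nlinarith [Nat.card_pos (α := W')]
    apply hWi
    rw [← index_mul_card W', hW1, mul_one] at hrU
    exact hrU
  · have h1 : Nat.card N ∣ Nat.card K * Nat.card U := by
      rw [← K.card_mul_index, ← hrel]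
      exact Nat.mul_dvd_mul_left _ (relIndex_dvd_card K U)
    rw [← U.index_mul_card] at h1
    exact Nat.dvd_of_mul_dvd_mul_right Nat.card_pos h1

variable {π : Set ℕ} {G : Type u} [Group G] [Finite G]

lemma isPi_of_isPGroup {p : ℕ} [Fact p.Prime] (hpπ : p ∈ π) {L : Subgroup G} (hL : IsPGroup p L) :
    Cfsg.IsPiSubgroup π L := by
  intro r hr hrL
  obtain ⟨k, hk⟩ := IsPGroup.iff_card.1 hL
  rw [hk] at hrL
  rwa [(Nat.prime_dvd_prime_iff_eq hr Fact.out).1 (hr.dvd_of_dvd_pow hrL)]

/-- Two p-subgroups of `H`, one of them Sylow in `G`: conjugate in `H`. -/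
lemma exists_mem_cj_le {p : ℕ} [Fact p.Prime] {H : Subgroup G} (P : Sylow p G)
    (hPH : (P : Subgroup G) ≤ H) {B : Subgroup G} (hB : IsPGroup p B) (hBH : B ≤ H) :
    ∃ h ∈ H, cj h B ≤ (P : Subgroup G) := by
  refine exists_cj_le_of_max P.isPGroup' hB hPH hBH fun S _ hS => ?_
  obtain ⟨Q, hQ⟩ := hS.exists_le_sylow
  exact (Subgroup.card_le_of_le hQ).trans_eq
    ((Sylow.card_eq_multiplicity Q).trans (Sylow.card_eq_multiplicity P).symm)

/-- A π-supplement to the centralizer containing `P ∩ N(T)`. -/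
lemma exists_local_supplement {p : ℕ} [Fact p.Prime] (hpπ : p ∈ π) (hhom : Hom π G)
    (P : Sylow p G) {T : Subgroup G} (hT : T ≤ (P : Subgroup G)) (hT1 : T ≠ ⊥)
    (hfn : IsFullyNormalized p (P : Subgroup G) T)
    (hcen : (P : Subgroup G) ⊓ centralizer (T : Set G) ≤ T) :
    ∃ U : Subgroup G, Cfsg.IsPiSubgroup π U ∧ U ≤ normalizer (T : Set G) ∧
      (P : Subgroup G) ⊓ normalizer (T : Set G) ≤ U ∧
      ∀ c ∈ normalizer (T : Set G), (∃ u ∈ U, ∃ k ∈ centralizer (T : Set G), c = u * k) ∧
        ∃ u ∈ U, ∃ k ∈ centralizer (T : Set G), c = k * u := by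
  set N := normalizer (T : Set G) with hN
  have hCN : centralizer (T : Set G) ≤ N := centralizer_le_normalizer _
  set C' := (centralizer (T : Set G)).subgroupOf N with hC'
  haveI hC'n : C'.Normal := by
    refine ⟨fun x hx g => ?_⟩
    rw [hC', mem_subgroupOf, mem_centralizer_iff] at hx ⊢
    intro t ht
    have h1 : (g : G)⁻¹ * t * g ∈ T := (mem_normalizer_iff''.1 g.2 t).1 ht
    have h2 := hx _ h1
    simp only [Subgroup.coe_mul, InvMemClass.coe_inv]
    calc t * (g * x * (g : G)⁻¹) = g * ((g : G)⁻¹ * t * g * x) * (g : G)⁻¹ := by group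
      _ = g * ((x : G) * ((g : G)⁻¹ * t * g)) * (g : G)⁻¹ := by rw [h2]
      _ = g * x * (g : G)⁻¹ * t := by group
  have hRp : IsPGroup p (((P : Subgroup G) ⊓ N).subgroupOf N) :=
    (P.isPGroup'.to_le inf_le_left).comap_subtype
  have hRi : ¬ p ∣ (((P : Subgroup G) ⊓ N).subgroupOf N).index :=
    not_dvd_relIndex_of_isFullyNormalized P hfn
  let R : Sylow p N := hRp.toSylow hRi
  have hR : (R : Subgroup N) = ((P : Subgroup G) ⊓ N).subgroupOf N := rfl
  set Z := ((R : Subgroup N) ⊓ C').subgroupOf C'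
  have hZc : Z ≤ center C' := by
    intro z hz
    have hzR : (z : N) ∈ (R : Subgroup N) := (mem_subgroupOf.1 hz).1
    rw [hR, mem_subgroupOf] at hzR
    have hzT : ((z : N) : G) ∈ T := hcen ⟨hzR.1, mem_subgroupOf.1 z.2⟩
    rw [mem_center_iff]
    intro w
    apply Subtype.ext
    apply Subtype.ext
    exact (mem_centralizer_iff.1 (mem_subgroupOf.1 w.2) _ hzT).symm
  have hZp : IsPGroup p Z := (R.isPGroup'.to_le inf_le_left).comap_subtype
  have hZi : ¬ p ∣ Z.index := CentralSylow.not_dvd_relIndex_normal R C'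
  obtain ⟨O, -, -, hOcop, hOc, hOmem⟩ := CentralSylow.central_sylow Z hZc hZp hZi
  set K := O.map C'.subtype with hK
  have hKmem : ∀ x : N, x ∈ K ↔ x ∈ C' ∧ (orderOf x).Coprime p := by
    intro x
    constructor
    · rintro ⟨y, hy, rfl⟩
      refine ⟨y.2, ?_⟩
      rw [coe_subtype, orderOf_coe]
      exact Nat.Coprime.coprime_dvd_left (Subgroup.orderOf_dvd_natCard O hy) hOcop
    · rintro ⟨hx, hxc⟩
      exact ⟨⟨x, hx⟩, hOmem _ (by rwa [orderOf_mk]), rfl⟩
  haveI hKn : K.Normal := by
    refine ⟨fun x hx g => ?_⟩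
    rw [hKmem] at hx ⊢
    refine ⟨hC'n.conj_mem x hx.1 g, ?_⟩
    rw [show g * x * g⁻¹ = MulAut.conj g x from rfl, MulEquiv.orderOf_eq]
    exact hx.2
  have hTπ : ∀ r : ℕ, r.Prime → r ∣ Nat.card T → r ∈ π :=
    isPi_of_isPGroup hpπ (P.isPGroup'.to_le hT)
  have hidx : ∀ r : ℕ, r.Prime → r ∣ K.index → r ∈ π := by
    intro r hr hrd
    rw [← relIndex_mul_index (map_subtype_le O : K ≤ C')] at hrd
    rcases hr.dvd_mul.1 hrd with h | h
    · have h1 : K.relIndex C' = O.index := by
        rw [relIndex, subgroupOf, hK, comap_map_eq_self_of_injective C'.subtype_injective]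
      rw [h1, hOc.symm.index_eq_card] at h
      obtain ⟨k, hk⟩ := IsPGroup.iff_card.1 hZp
      rw [hk] at h
      rwa [(Nat.prime_dvd_prime_iff_eq hr Fact.out).1 (hr.dvd_of_dvd_pow h)]
    · exact hhom T hT1 hTπ r hr h
  obtain ⟨U, hUπ, hUK, hUi⟩ := exists_pi_supplement π K hidx
  have hUp : ¬ p ∣ U.index := by
    intro h
    have h1 : p ∣ Nat.card O := by
      have := h.trans hUi
      rwa [hK, card_map_of_injective C'.subtype_injective] at this
    exact (Fact.out : p.Prime).coprime_iff_not_dvd.1 hOcop.symm h1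
  obtain ⟨S⟩ : Nonempty (Sylow p U) := inferInstance
  have hSi : ¬ p ∣ ((S : Subgroup U).map U.subtype).index := by
    intro h
    rw [← relIndex_mul_index (map_subtype_le _ : (S : Subgroup U).map U.subtype ≤ U)] at h
    rcases (Fact.out : p.Prime).dvd_mul.1 h with h | h
    · refine S.not_dvd_index ?_
      rwa [relIndex, subgroupOf, comap_map_eq_self_of_injective U.subtype_injective] at h
    · exact hUp h
  let S' : Sylow p N := (S.isPGroup'.map U.subtype).toSylow hSi
  obtain ⟨n, hn⟩ := MulAction.exists_smul_eq N S' R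
  have hnle : (R : Subgroup N) ≤ cj n U := by
    rw [← hn, smul_coe_eq_cj]
    exact cj_mono n (map_subtype_le _)
  have hK' : cj n K = K := by
    refine cj_eq_self ?_
    rw [normalizer_eq_top_iff.2 hKn]
    exact mem_top _
  have hsup : cj n U ⊔ K = ⊤ := by
    calc cj n U ⊔ K = cj n U ⊔ cj n K := by rw [hK']
      _ = cj n (U ⊔ K) := (Subgroup.map_sup _ _ _).symm
      _ = ⊤ := by rw [hUK, cj, Subgroup.map_top_of_surjective _ (MulAut.conj n).surjective]
  refine ⟨(cj n U).map N.subtype, ?_, map_subtype_le _, ?_, fun c hc => ?_⟩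
  · intro r hr hrd
    rw [card_map_of_injective N.subtype_injective, card_cj] at hrd
    exact hUπ r hr hrd
  · intro x hx
    exact ⟨⟨x, hx.2⟩, hnle (by rw [hR, mem_subgroupOf]; exact hx), rfl⟩
  · have hcm : (⟨c, hc⟩ : N) ∈ cj n U ⊔ K := hsup.symm ▸ mem_top _
    constructor
    · obtain ⟨u, hu, k, hk, e⟩ := mem_sup_of_normal_right.1 hcm
      exact ⟨u, ⟨u, hu, rfl⟩, k, mem_subgroupOf.1 ((hKmem k).1 hk).1,
        (congrArg Subtype.val e).symm⟩
    · rw [sup_comm] at hcm
      obtain ⟨k, hk, u, hu, e⟩ := mem_sup_of_normal_left.1 hcm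
      exact ⟨u, ⟨u, hu, rfl⟩, k, mem_subgroupOf.1 ((hKmem k).1 hk).1,
        (congrArg Subtype.val e).symm⟩

/-- `H` controls the fusion in a Sylow `p`-subgroup. -/
theorem pControl {p : ℕ} [Fact p.Prime] (hpπ : p ∈ π) (hhom : Hom π G) {H : Subgroup G}
    (hdom : Dominates π H) (P : Sylow p G) (hPH : (P : Subgroup G) ≤ H) :
    ∀ T g, T ≤ (P : Subgroup G) → cj g T ≤ (P : Subgroup G) →
      ∃ z ∈ H, ∀ t ∈ T, z * t * z⁻¹ = g * t * g⁻¹ := by
  refine alperin_induction_centric P
    (fun T g => ∃ z ∈ H, ∀ t ∈ T, z * t * z⁻¹ = g * t * g⁻¹) ?_ ?_ ?_ ?_ ?_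
  · intro T g k _ _ _ ⟨z, hz, hzt⟩ ⟨w, hw, hwt⟩
    refine ⟨w * z, mul_mem hw hz, fun t ht => ?_⟩
    calc w * z * t * (w * z)⁻¹ = w * (z * t * z⁻¹) * w⁻¹ := by group
      _ = w * (g * t * g⁻¹) * w⁻¹ := by rw [hzt t ht]
      _ = k * (g * t * g⁻¹) * k⁻¹ := hwt _ (conj_mem_cj ht)
      _ = k * g * t * (k * g)⁻¹ := by group
  · intro T g _ _ ⟨z, hz, hzt⟩
    refine ⟨z⁻¹, inv_mem hz, fun t ht => ?_⟩
    obtain ⟨s, hs, rfl⟩ := ht
    simp only [MulEquiv.toMonoidHom_eq_coe, MonoidHom.coe_coe, MulAut.conj_apply]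
    calc z⁻¹ * (g * s * g⁻¹) * z⁻¹⁻¹ = z⁻¹ * (z * s * z⁻¹) * z⁻¹⁻¹ := by rw [hzt s hs]
      _ = g⁻¹ * (g * s * g⁻¹) * g⁻¹⁻¹ := by group
  · exact fun S T g hST _ _ ⟨z, hz, hzt⟩ => ⟨z, hz, fun t ht => hzt t (hST ht)⟩
  · intro T _ c hc
    refine ⟨1, one_mem _, fun t ht => ?_⟩
    rw [one_mul, inv_one, mul_one]
    exact (eq_mul_inv_of_mul_eq (mem_centralizer_iff.mp hc t ht)).trans (by group)
  · intro T hT hfn hcen _ hbig c hc _
    rcases eq_or_ne T ⊥ with rfl | hT1
    · refine ⟨1, one_mem _, fun t ht => ?_⟩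
      rw [mem_bot.1 ht]
      group
    set N := normalizer (T : Set G) with hN
    obtain ⟨U, hUπ, hUN, hRU, hdec⟩ := exists_local_supplement hpπ hhom P hT hT1 hfn hcen
    set R := (P : Subgroup G) ⊓ N with hR
    obtain ⟨a, ha⟩ := hdom U hUπ
    obtain ⟨h, hh, hhle⟩ := exists_mem_cj_le P hPH
      (isPGroup_cj (P.isPGroup'.to_le (inf_le_left : R ≤ _)) : IsPGroup p (cj a R))
      ((cj_mono a hRU).trans ha)
    rw [← cj_mul] at hhle
    have ha' : cj (h * a) U ≤ H := by
      rw [cj_mul]
      intro x hx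
      obtain ⟨y, hy, rfl⟩ := hx
      simpa using H.mul_mem (H.mul_mem hh (ha hy)) (H.inv_mem hh)
    have hTR : T ≤ R := le_inf hT le_normalizer
    -- an element of the centralizer moving `U` into `H`
    obtain ⟨k, hk, hkU⟩ : ∃ k ∈ centralizer (T : Set G), cj k U ≤ H := by
      rcases lt_or_eq_of_le hTR with hlt | heq
      · obtain ⟨z, hz, hzt⟩ := hbig R (h * a) inf_le_left hhle
          (Set.Finite.card_lt_card (Set.toFinite _) hlt)
        refine ⟨z⁻¹ * (h * a), ?_, ?_⟩
        · rw [mem_centralizer_iff]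
          intro t ht
          have h1 := hzt t (hTR ht)
          calc t * (z⁻¹ * (h * a)) = z⁻¹ * (z * t * z⁻¹) * (h * a) := by group
            _ = z⁻¹ * (h * a * t * (h * a)⁻¹) * (h * a) := by rw [h1]
            _ = z⁻¹ * (h * a) * t := by group
        · rw [cj_mul]
          intro x hx
          obtain ⟨y, hy, rfl⟩ := hx
          simpa using H.mul_mem (H.mul_mem (H.inv_mem hz) (ha' hy)) hz
      · -- then `T` is the whole of `P`
        have hTP : T = (P : Subgroup G) := by
          by_contra hne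
          have hlt : T.subgroupOf (P : Subgroup G) < ⊤ := by
            rw [lt_top_iff_ne_top, Ne, subgroupOf_eq_top]
            exact fun h => hne (le_antisymm hT h)
          haveI := P.isPGroup'.isNilpotent
          obtain ⟨x, hx, hxT⟩ := SetLike.exists_of_lt
            (Group.normalizerCondition_of_isNilpotent _ hlt)
          refine hxT (mem_subgroupOf.2 ?_)
          rw [heq, hR]
          refine ⟨x.2, (mem_normalizer_iff.2 fun y => ?_ : (x : G) ∈ normalizer (T : Set G))⟩
          constructor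
          · intro hy
            exact ((mem_normalizer_iff.1 hx) ⟨y, hT hy⟩).1 hy
          · intro hy
            have hyP : y ∈ (P : Subgroup G) := by
              have h1 := mul_mem (mul_mem (inv_mem x.2) (hT hy)) x.2
              rwa [show (x : G)⁻¹ * ((x : G) * y * (x : G)⁻¹) * x = y by group] at h1
            exact ((mem_normalizer_iff.1 hx) ⟨y, hyP⟩).2 hy
        have haN : h * a ∈ N := by
          refine mem_normalizer_of_cj_eq (eq_of_le_of_card_ge ?_ ?_)
          · rw [← heq] at hhle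
            exact hTP ▸ hhle
          · rw [card_cj]
        obtain ⟨u, hu, k, hk, e⟩ := (hdec _ haN).2
        refine ⟨k, hk, ?_⟩
        rw [e, cj_mul, cj_eq_self (le_normalizer hu)] at ha'
        exact ha'
    obtain ⟨u, hu, k', hk', rfl⟩ := (hdec c hc).1
    refine ⟨k * u * k⁻¹, hkU (conj_mem_cj hu), fun t ht => ?_⟩
    have hk1 : k⁻¹ * t * k = t := by
      rw [mul_assoc, mem_centralizer_iff.1 hk t ht, inv_mul_cancel_left]
    have hk2 : k' * t * k'⁻¹ = t := by
      rw [← mem_centralizer_iff.1 hk' t ht, mul_inv_cancel_right]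
    have hut : u * t * u⁻¹ ∈ T := (mem_normalizer_iff.1 (hUN hu) t).1 ht
    calc k * u * k⁻¹ * t * (k * u * k⁻¹)⁻¹ = k * (u * (k⁻¹ * t * k) * u⁻¹) * k⁻¹ := by group
      _ = u * t * u⁻¹ := by
          rw [hk1, ← mem_centralizer_iff.1 hk _ hut, mul_inv_cancel_right]
      _ = u * (k' * t * k'⁻¹) * u⁻¹ := by rw [hk2]
      _ = u * k' * t * (u * k')⁻¹ := by group

/-- `Hom` passes to subgroups. -/
lemma Hom.subgroup (hhom : Hom π G) (C : Subgroup G) : Hom π C := by
  intro Q hQ1 hQπ r hr hrd
  set Q' := Q.map C.subtype with hQ'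
  have hcard : Nat.card Q' = Nat.card Q := card_map_of_injective C.subtype_injective
  have hQ'1 : Q' ≠ ⊥ := fun h => hQ1 ((map_eq_bot_iff_of_injective _ C.subtype_injective).1 h)
  refine hhom Q' hQ'1 (fun s hs hd => hQπ s hs (hcard ▸ hd)) r hr (hrd.trans ?_)
  have hnorm : normalizer (Q : Set C) = (normalizer (Q' : Set G)).subgroupOf C := by
    ext x
    rw [mem_subgroupOf, mem_normalizer_iff, mem_normalizer_iff]
    constructor
    · intro hx y
      constructor
      · rintro ⟨q, hq, rfl⟩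
        exact ⟨x * q * x⁻¹, (hx q).1 hq, by simp⟩
      · rintro ⟨q, hq, he⟩
        refine ⟨x⁻¹ * q * x, ?_, ?_⟩
        · refine (hx _).2 ?_
          simpa [mul_assoc] using hq
        · simp only [coe_subtype] at he
          simp only [coe_subtype, Subgroup.coe_mul, InvMemClass.coe_inv, he]
          group
    · intro hx q
      have h1 := hx (q : G)
      constructor
      · intro hq
        obtain ⟨w, hw, he⟩ := h1.1 ⟨q, hq, rfl⟩
        rwa [show x * q * x⁻¹ = w from Subtype.ext (by simpa using he.symm)]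
      · intro hq
        obtain ⟨w, hw, he⟩ := h1.2 ⟨_, hq, by simp⟩
        rwa [show q = w from Subtype.ext (by simpa using he.symm)]
  have hcent : centralizer (Q : Set C) = (centralizer (Q' : Set G)).subgroupOf C := by
    ext x
    rw [mem_subgroupOf, mem_centralizer_iff, mem_centralizer_iff]
    constructor
    · rintro hx _ ⟨q, hq, rfl⟩
      exact congrArg Subtype.val (hx q hq)
    · exact fun hx q hq => Subtype.ext (hx _ ⟨q, hq, rfl⟩)
  rw [hnorm, hcent, subgroupOf, subgroupOf, relIndex_comap, map_comap_eq, range_subtype,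
    ← relIndex_subgroupOf (inf_le_right : C ⊓ normalizer (Q' : Set G) ≤ normalizer (Q' : Set G))]
  haveI : ((centralizer (Q' : Set G)).subgroupOf (normalizer (Q' : Set G))).Normal := inferInstance
  exact relIndex_dvd_index_of_normal _ _

/-- `H` controls the fusion of its elements. -/
theorem control (m : ℕ) : ∀ (G : Type u) [Group G] [Finite G], Nat.card G ≤ m →
    ∀ (H : Subgroup G), Cfsg.IsPiSubgroup π H → Hom π G → Dominates π H →
    ∀ x ∈ H, ∀ y ∈ H, IsConj x y → ∃ h ∈ H, h * x * h⁻¹ = y := by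
  induction m with
  | zero =>
    intro G _ _ hm
    have := Nat.card_pos (α := G)
    omega
  | succ m ih =>
    intro G _ _ hm H hHπ hhom hdom
    suffices ∀ j : ℕ, ∀ x ∈ H, ∀ y ∈ H, orderOf x ≤ j → IsConj x y →
        ∃ h ∈ H, h * x * h⁻¹ = y from fun x hx y hy hxy => this _ x hx y hy le_rfl hxy
    intro j
    induction j with
    | zero =>
      intro x hx y hy hxj
      exact absurd (orderOf_pos x) (by omega)
    | succ j ihj =>
      intro x hx y hy hxj hxy
      rcases eq_or_ne x 1 with rfl | hx1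
      · exact ⟨1, one_mem _, by rw [isConj_one_right.1 hxy]; group⟩
      obtain ⟨p, hp, hpx⟩ := Nat.exists_prime_and_dvd (orderOf_eq_one_iff.not.2 hx1)
      haveI := Fact.mk hp
      have hpπ : p ∈ π := hHπ p hp (hpx.trans (Subgroup.orderOf_dvd_natCard H hx))
      obtain ⟨e, m₂, hm₂, hmn⟩ :=
        Nat.exists_eq_pow_mul_and_not_dvd (Nat.card_pos (α := G)).ne' p hp.ne_one
      have hcop : Nat.Coprime (p ^ e) m₂ := (hp.coprime_iff_not_dvd.2 hm₂).pow_left e
      let pt : G → G := BrauerPiSection.part hcop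
      have hptH : ∀ w ∈ H, pt w ∈ H := fun w hw => pow_mem hw _
      have hptp : ∀ w, IsPGroup p (zpowers (pt w)) := by
        intro w
        obtain ⟨i, -, hi⟩ := (Nat.dvd_prime_pow hp).1 (BrauerPiSection.orderOf_part hmn hcop w)
        exact IsPGroup.of_card (by rw [Nat.card_zpowers, hi])
      -- a Sylow `p`-subgroup inside `H`
      obtain ⟨P, hPH⟩ : ∃ P : Sylow p G, (P : Subgroup G) ≤ H := by
        obtain ⟨P⟩ : Nonempty (Sylow p G) := inferInstance
        obtain ⟨a, ha⟩ := hdom P (isPi_of_isPGroup hpπ P.isPGroup')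
        exact ⟨a • P, by rw [smul_coe_eq_cj]; exact ha⟩
      -- conjugate p-elements of `H` are conjugate in `H`
      have hpconj : ∀ u ∈ H, ∀ v ∈ H, IsPGroup p (zpowers u) → IsConj u v →
          ∃ h ∈ H, h * u * h⁻¹ = v := by
        intro u hu v hv hup huv
        obtain ⟨g, rfl⟩ := isConj_iff.1 huv
        have hvp : IsPGroup p (zpowers (g * u * g⁻¹)) := by
          have := hup.map (MulAut.conj g).toMonoidHom
          rwa [MonoidHom.map_zpowers] at this
        obtain ⟨h₁, hh₁, hle₁⟩ := exists_mem_cj_le P hPH hup (zpowers_le.2 hu)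
        obtain ⟨h₂, hh₂, hle₂⟩ := exists_mem_cj_le P hPH hvp (zpowers_le.2 hv)
        obtain ⟨z, hz, hzt⟩ := pControl hpπ hhom hdom P hPH (cj h₁ (zpowers u))
          (h₂ * g * h₁⁻¹) hle₁ (by
            rw [cj_mul, cj_inv_cj, cj_mul]
            rintro _ ⟨_, ⟨w, ⟨i, rfl⟩, rfl⟩, rfl⟩
            exact hle₂ ⟨(g * u * g⁻¹) ^ i, ⟨i, rfl⟩, by simp [conj_zpow]⟩)
        refine ⟨h₂⁻¹ * z * h₁, mul_mem (mul_mem (inv_mem hh₂) hz) hh₁, ?_⟩
        have h3 := hzt (h₁ * u * h₁⁻¹) (conj_mem_cj (mem_zpowers u))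
        calc h₂⁻¹ * z * h₁ * u * (h₂⁻¹ * z * h₁)⁻¹
            = h₂⁻¹ * (z * (h₁ * u * h₁⁻¹) * z⁻¹) * h₂ := by group
          _ = h₂⁻¹ * (h₂ * g * h₁⁻¹ * (h₁ * u * h₁⁻¹) * (h₂ * g * h₁⁻¹)⁻¹) * h₂ := by rw [h3]
          _ = g * u * g⁻¹ := by group
      have hptc : IsConj (pt x) (pt y) := by
        obtain ⟨g, rfl⟩ := isConj_iff.1 hxy
        exact isConj_iff.2 ⟨g, (BrauerPiSection.part_conj hcop g x).symm⟩
      obtain ⟨h₀, hh₀, he₀⟩ := hpconj (pt x) (hptH x hx) (pt y) (hptH y hy) (hptp x) hptc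
      suffices hgoal : ∃ h ∈ H, h * (h₀ * x * h₀⁻¹) * h⁻¹ = y by
        obtain ⟨h, hh, he⟩ := hgoal
        exact ⟨h * h₀, mul_mem hh hh₀, by rw [← he]; group⟩
      set x₁ := h₀ * x * h₀⁻¹ with hx₁def
      have hx₁ : x₁ ∈ H := mul_mem (mul_mem hh₀ hx) (inv_mem hh₀)
      have hpt1 : pt x₁ = pt y := (BrauerPiSection.part_conj hcop h₀ x).trans he₀
      have hconj₁ : IsConj x₁ y :=
        ((isConj_iff.2 ⟨h₀, rfl⟩ : IsConj x x₁).symm).trans hxy
      have hord : orderOf x₁ = orderOf x := by
        rw [hx₁def, show h₀ * x * h₀⁻¹ = MulAut.conj h₀ x from rfl, MulEquiv.orderOf_eq]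
      obtain ⟨g, hg⟩ := isConj_iff.1 hconj₁
      have hgz : g * pt x₁ * g⁻¹ = pt x₁ := by
        rw [← BrauerPiSection.part_conj hcop g x₁, hg]
        exact hpt1.symm
      have hgC : g ∈ centralizer ({pt x₁} : Set G) := by
        rw [mem_centralizer_singleton_iff]
        exact mul_inv_eq_iff_eq_mul.1 hgz
      set z := pt x₁ with hz
      set C := centralizer ({z} : Set G) with hC
      by_cases hCtop : C = ⊤
      · -- a central part is removed
        have hxz : x₁ = z * BrauerPiSection.part hcop.symm x₁ :=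
          (BrauerPiSection.part_mul_part hmn hcop x₁).symm
        have hyz : y = z * BrauerPiSection.part hcop.symm y := by
          rw [hpt1]
          exact (BrauerPiSection.part_mul_part hmn hcop y).symm
        set x₂ := BrauerPiSection.part hcop.symm x₁ with hx₂def
        have hlt : orderOf x₂ ≤ j := by
          have hm2 : Nat.card G = m₂ * p ^ e := by rw [hmn, mul_comm]
          have h1 : orderOf x₁ = orderOf z * orderOf x₂ := by
            conv_lhs => rw [hxz]
            exact (Commute.pow_pow_self x₁ _ _).orderOf_mul_eq_mul_orderOf_of_coprime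
              ((hcop.coprime_dvd_left (BrauerPiSection.orderOf_part hmn hcop x₁)).coprime_dvd_right
                (BrauerPiSection.orderOf_part hm2 hcop.symm x₁))
          have h2 : 2 ≤ orderOf z := by
            by_contra hlt
            have h3 : orderOf z = 1 := by have := orderOf_pos z; omega
            rw [h3, one_mul] at h1
            have h4 : p ∣ m₂ := by
              refine dvd_trans ?_ (BrauerPiSection.orderOf_part hm2 hcop.symm x₁)
              rw [← h1, hord]; exact hpx
            exact hm₂ h4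
          have h3 := orderOf_pos x₂
          have h4 : 2 * orderOf x₂ ≤ orderOf x₁ := by rw [h1]; exact Nat.mul_le_mul_right _ h2
          omega
        obtain ⟨h, hh, he⟩ := ihj x₂ (pow_mem hx₁ _) (BrauerPiSection.part hcop.symm y)
          (pow_mem hy _) hlt
          (isConj_iff.2 ⟨g, by rw [hx₂def, ← BrauerPiSection.part_conj, hg]⟩)
        refine ⟨h, hh, ?_⟩
        have hzc : h * z * h⁻¹ = z := by
          have h5 : h ∈ C := hCtop.symm ▸ mem_top _
          rw [hC, mem_centralizer_singleton_iff] at h5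
          rw [h5]; group
        calc h * x₁ * h⁻¹ = (h * z * h⁻¹) * (h * x₂ * h⁻¹) := by
              conv_lhs => rw [hxz]
              group
          _ = y := by rw [hzc, he, ← hyz]
      · -- induction in the centralizer
        have hcard : Nat.card C ≤ m := by
          have : Nat.card C < Nat.card (⊤ : Subgroup G) :=
            Set.Finite.card_lt_card (Set.toFinite _) (SetLike.coe_ssubset_coe.2 (lt_top_iff_ne_top.2 hCtop))
          rw [card_top] at this
          omega
        have hdomC : Dominates π (H.subgroupOf C) := by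
          intro L hL
          set L' := L.map C.subtype with hL'
          have hLcomm : ∀ l ∈ L', Commute z l := by
            rintro _ ⟨l, hl, rfl⟩
            exact (mem_centralizer_singleton_iff.1 l.2).symm
          let φ : zpowers z × L' →* G := MonoidHom.noncommCoprod (zpowers z).subtype L'.subtype
            fun a b => by
              obtain ⟨i, hi⟩ := mem_zpowers_iff.1 a.2
              show Commute (a : G) (b : G)
              rw [← hi]
              exact (hLcomm b b.2).zpow_left i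
          have hφπ : Cfsg.IsPiSubgroup π φ.range := by
            intro r hr hrd
            have h1 := hrd.trans (Subgroup.card_range_dvd φ)
            rw [Nat.card_prod] at h1
            rcases hr.dvd_mul.1 h1 with h | h
            · exact isPi_of_isPGroup hpπ (hptp x₁) r hr h
            · rw [hL', card_map_of_injective C.subtype_injective] at h
              exact hL r hr h
          obtain ⟨a, ha⟩ := hdom _ hφπ
          have haz : a * z * a⁻¹ ∈ H :=
            ha (conj_mem_cj ⟨(⟨z, mem_zpowers z⟩, 1), by simp [φ]⟩)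
          obtain ⟨h, hh, he⟩ := hpconj z (hptH x₁ hx₁) _ haz (hptp x₁) (isConj_iff.2 ⟨a, rfl⟩)
          have hcC : h⁻¹ * a ∈ C := by
            rw [hC, mem_centralizer_singleton_iff]
            calc h⁻¹ * a * z = h⁻¹ * (a * z * a⁻¹) * a := by group
              _ = h⁻¹ * (h * z * h⁻¹) * a := by rw [he]
              _ = z * (h⁻¹ * a) := by group
          refine ⟨⟨h⁻¹ * a, hcC⟩, ?_⟩
          rintro _ ⟨l, hl, rfl⟩
          rw [mem_subgroupOf]
          have h1 : a * (l : G) * a⁻¹ ∈ H := by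
            refine ha (conj_mem_cj ⟨(1, ⟨(l : G), ⟨l, hl, rfl⟩⟩), by simp [φ]⟩)
          have h2 := mul_mem (mul_mem (inv_mem hh) h1) hh
          simpa [mul_assoc] using h2
        have hHCπ : Cfsg.IsPiSubgroup π (H.subgroupOf C) := by
          intro r hr hrd
          refine hHπ r hr (hrd.trans ?_)
          exact Subgroup.card_comap_dvd_of_injective H C.subtype C.subtype_injective
        have hxC : x₁ ∈ C := by
          rw [hC, mem_centralizer_singleton_iff]
          exact (Commute.self_pow x₁ _).eq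
        have hyC : y ∈ C := by
          rw [hC, mem_centralizer_singleton_iff, hpt1]
          exact (Commute.self_pow y _).eq
        obtain ⟨h, hh, he⟩ := ih C hcard (H.subgroupOf C) hHCπ (hhom.subgroup C) hdomC
          ⟨x₁, hxC⟩ (mem_subgroupOf.2 hx₁) ⟨y, hyC⟩ (mem_subgroupOf.2 hy)
          (isConj_iff.2 ⟨⟨g, hgC⟩, Subtype.ext hg⟩)
        exact ⟨h, mem_subgroupOf.1 hh, congrArg Subtype.val he⟩

/-- A normal π-complement. -/
theorem exists_piComplement (hhom : Hom π G) {H : Subgroup G} (hHπ : Cfsg.IsPiSubgroup π H)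
    (hdom : Dominates π H) :
    ∃ K : Subgroup G, ∀ x : G, x ∈ K ↔ ∀ p : ℕ, p.Prime → p ∣ orderOf x → p ∉ π := by
  have hidx : ∀ r : ℕ, r.Prime → r ∈ π → ¬ r ∣ H.index := by
    intro r hr hrπ hd
    haveI := Fact.mk hr
    obtain ⟨P⟩ : Nonempty (Sylow r G) := inferInstance
    obtain ⟨a, ha⟩ := hdom P (isPi_of_isPGroup hrπ P.isPGroup')
    exact (a • P).not_dvd_index (hd.trans (index_dvd_of_le (by rw [smul_coe_eq_cj]; exact ha)))
  have hHall : Nat.Coprime (Nat.card H) H.index :=
    Nat.coprime_of_dvd fun r hr h1 h2 => hidx r hr (hHπ r hr h1) h2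
  haveI : Fintype G := Fintype.ofFinite G
  obtain ⟨K, hKn, hsup, hinf⟩ := BrauerPiSection.brauer_suzuki_complement hHall
    (control (Nat.card G) G le_rfl H hHπ hhom hdom)
    fun E p _ _ hd => hdom E fun r hr hrd => hHπ r hr (hrd.trans hd)
  have hc : IsComplement' K H :=
    isComplement'_of_disjoint_and_mul_eq_univ (disjoint_iff.2 hinf) (by
      haveI := hKn
      rw [← normal_mul K H, hsup, coe_top])
  refine ⟨K, fun x => ⟨fun hx r hr hrd hrπ => hidx r hr hrπ ?_, fun hx => ?_⟩⟩
  · rw [hc.index_eq_card]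
    exact hrd.trans (Subgroup.orderOf_dvd_natCard K hx)
  · haveI := hKn
    rw [← QuotientGroup.eq_one_iff, ← orderOf_eq_one_iff]
    by_contra hne
    obtain ⟨r, hr, hrd⟩ := Nat.exists_prime_and_dvd hne
    refine hx r hr (hrd.trans (orderOf_map_dvd (QuotientGroup.mk' K) x)) (hHπ r hr ?_)
    rw [← hc.symm.index_eq_card]
    exact hrd.trans (orderOf_dvd_natCard _)

end Cfsg.Agent.PiHomogeneous30
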