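import Mathlib
import Cfsg.Prelude.Def_Sporadic_a

/-!
A projective plane of order 4 (a Steiner system `S(2, 5, 21)`): counts of arcs, hyperovals, and
coordinatisation by the synthemes on a hyperoval.
-/

set_option autoImplicit false

namespace Cfsg.Agent.PlaneFour

open Finset

variable {α : Type*} [Fintype α] [DecidableEq α] {L : Set (Finset α)}

/-- A plane of order four. -/
structure Plane (L : Set (Finset α)) : Prop where
  card : Fintype.card α = 21
  sys : Cfsg.IsSteinerSystem 2 5 L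

open Classical in
/-- The line through two points. -/
noncomputable def ln (L : Set (Finset α)) (x y : α) : Finset α :=
  if h : ∃ l, l ∈ L ∧ x ∈ l ∧ y ∈ l then h.choose else ∅

/-- No three points of `A` lie on a line. -/
def Arc (L : Set (Finset α)) (A : Finset α) : Prop := ∀ l ∈ L, (l ∩ A).card ≤ 2

theorem Plane.line_eq (h : Plane L) {x y : α} (hxy : x ≠ y) {l m : Finset α} (hl : l ∈ L)
    (hxl : x ∈ l) (hyl : y ∈ l) (hm : m ∈ L) (hxm : x ∈ m) (hym : y ∈ m) : l = m :=
  (h.sys.2 {x, y} (card_pair hxy)).unique ⟨hl, by simp [insert_subset_iff, hxl, hyl]⟩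
    ⟨hm, by simp [insert_subset_iff, hxm, hym]⟩

theorem Plane.ln_spec (h : Plane L) {x y : α} (hxy : x ≠ y) :
    ln L x y ∈ L ∧ x ∈ ln L x y ∧ y ∈ ln L x y := by
  have he : ∃ l, l ∈ L ∧ x ∈ l ∧ y ∈ l := by
    obtain ⟨l, ⟨hl, hs⟩, -⟩ := h.sys.2 {x, y} (card_pair hxy)
    exact ⟨l, hl, hs (by simp), hs (by simp)⟩
  rw [ln, dif_pos he]
  exact he.choose_spec

theorem Plane.eq_ln (h : Plane L) {x y : α} (hxy : x ≠ y) {l : Finset α} (hl : l ∈ L)
    (hxl : x ∈ l) (hyl : y ∈ l) : l = ln L x y :=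
  h.line_eq hxy hl hxl hyl (h.ln_spec hxy).1 (h.ln_spec hxy).2.1 (h.ln_spec hxy).2.2

theorem Plane.point_eq (h : Plane L) {l m : Finset α} (hl : l ∈ L) (hm : m ∈ L) (hlm : l ≠ m)
    {x y : α} (hxl : x ∈ l) (hxm : x ∈ m) (hyl : y ∈ l) (hym : y ∈ m) : x = y :=
  by_contra fun hxy => hlm (h.line_eq hxy hl hxl hyl hm hxm hym)

open Classical in
/-- There are five lines through a point. -/
theorem Plane.pencil (h : Plane L) (x : α) :
    (univ.filter fun l : Finset α => l ∈ L ∧ x ∈ l).card = 5 := by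
  set N := univ.filter fun l : Finset α => l ∈ L ∧ x ∈ l with hN
  have hd : (N : Set (Finset α)).PairwiseDisjoint fun l => l.erase x := by
    intro l hl m hm hlm
    simp only [hN, coe_filter, mem_univ, true_and, Set.mem_setOf_eq] at hl hm
    refine disjoint_left.mpr fun y hyl hym => ?_
    rw [mem_erase] at hyl hym
    exact hyl.1 (h.point_eq hl.1 hm.1 hlm hyl.2 hym.2 hl.2 hm.2)
  have hu : N.biUnion (fun l => l.erase x) = univ.erase x := by
    ext y
    simp only [hN, mem_biUnion, mem_filter, mem_univ, true_and, mem_erase, and_true]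
    refine ⟨fun ⟨_, _, hy, _⟩ => hy, fun hy => ?_⟩
    obtain ⟨a, b, c⟩ := h.ln_spec (Ne.symm hy)
    exact ⟨_, ⟨a, b⟩, hy, c⟩
  have := card_biUnion hd
  rw [hu, card_erase_of_mem (mem_univ x), card_univ, h.card,
    sum_congr rfl (fun l hl => by
      simp only [hN, mem_filter, mem_univ, true_and] at hl
      rw [card_erase_of_mem hl.2, h.sys.1 l hl.1]), sum_const, smul_eq_mul] at this
  omega

/-- Two lines meet. -/
theorem Plane.meet (h : Plane L) {l m : Finset α} (hl : l ∈ L) (hm : m ∈ L) :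
    ∃ x, x ∈ l ∧ x ∈ m := by
  classical
  obtain ⟨x, hx⟩ : l.Nonempty := card_pos.mp (by rw [h.sys.1 l hl]; norm_num)
  by_cases hxm : x ∈ m
  · exact ⟨x, hx, hxm⟩
  have hne : ∀ y ∈ m, x ≠ y := fun y hy e => hxm (e ▸ hy)
  have hinj : Set.InjOn (fun y => ln L x y) m := by
    intro y hy z hz e
    simp only at e
    by_contra hyz
    have e' := h.line_eq hyz hm hy hz (h.ln_spec (hne y hy)).1 (h.ln_spec (hne y hy)).2.2
      (e ▸ (h.ln_spec (hne z hz)).2.2)
    exact hxm (e' ▸ (h.ln_spec (hne y hy)).2.1)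
  have hsub : m.image (fun y => ln L x y) = univ.filter fun l : Finset α => l ∈ L ∧ x ∈ l := by
    refine eq_of_subset_of_card_le ?_ ?_
    · intro k hk
      obtain ⟨y, hy, rfl⟩ := mem_image.mp hk
      simp [(h.ln_spec (hne y hy)).1, (h.ln_spec (hne y hy)).2.1]
    · rw [h.pencil, card_image_of_injOn hinj, h.sys.1 m hm]
  obtain ⟨y, hy, hyl⟩ := mem_image.mp (hsub.ge (by simp [hl, hx] : l ∈ _))
  exact ⟨y, hyl ▸ (h.ln_spec (hne y hy)).2.2, hy⟩

theorem Plane.meet_eq (h : Plane L) {l m : Finset α} (hl : l ∈ L) (hm : m ∈ L) (hlm : l ≠ m) :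
    ∃ x, l ∩ m = {x} := by
  obtain ⟨x, hxl, hxm⟩ := h.meet hl hm
  refine ⟨x, Finset.ext fun y => ?_⟩
  simp only [mem_inter, mem_singleton]
  exact ⟨fun hy => h.point_eq hl hm hlm hy.1 hy.2 hxl hxm, fun e => e ▸ ⟨hxl, hxm⟩⟩

theorem Arc.not_collinear {A : Finset α} (hA : Arc L A) {x y z : α} (hx : x ∈ A) (hy : y ∈ A)
    (hz : z ∈ A) (hxy : x ≠ y) (hxz : x ≠ z) (hyz : y ≠ z) {l : Finset α} (hl : l ∈ L)
    (hxl : x ∈ l) (hyl : y ∈ l) : z ∉ l := fun hzl => by
  have : ({x, y, z} : Finset α) ⊆ l ∩ A := by simp [insert_subset_iff, *]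
  have := card_le_card this
  rw [card_insert_of_notMem (by simp [hxy, hxz]), card_pair hyz] at this
  have := hA l hl
  omega

theorem Arc.mono {A B : Finset α} (hA : Arc L A) (h : B ⊆ A) : Arc L B := fun l hl =>
  (card_le_card (inter_subset_inter_left h)).trans (hA l hl)

open Classical in
/-- The points extending an arc. -/
noncomputable def ext (L : Set (Finset α)) (A : Finset α) : Finset α :=
  univ.filter fun x => x ∉ A ∧ Arc L (insert x A)

theorem Plane.arc_insert (h : Plane L) {A : Finset α} {x : α} (hA : Arc L A) (hx : x ∉ A) :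
    Arc L (insert x A) ↔ ∀ a ∈ A, ∀ b ∈ A, a ≠ b → x ∉ ln L a b := by
  refine ⟨fun hi a ha b hb hab hxl => ?_, fun hi l hl => ?_⟩
  · exact hi.not_collinear (mem_insert_of_mem ha) (mem_insert_of_mem hb) (mem_insert_self x A) hab
      (fun e : a = x => hx (e ▸ ha)) (fun e : b = x => hx (e ▸ hb)) (h.ln_spec hab).1
      (h.ln_spec hab).2.1 (h.ln_spec hab).2.2 hxl
  · by_contra hc
    by_cases hxl : x ∈ l
    · rw [inter_insert_of_mem hxl, card_insert_of_notMem (by simp [hx])] at hc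
      obtain ⟨a, ha, b, hb, hab⟩ := one_lt_card.mp (show 1 < (l ∩ A).card by omega)
      rw [mem_inter] at ha hb
      exact hi a ha.2 b hb.2 hab (h.eq_ln hab hl ha.1 hb.1 ▸ hxl)
    · rw [inter_insert_of_notMem hxl] at hc
      exact hc (hA l hl)

theorem Plane.mem_ext (h : Plane L) {A : Finset α} (hA : Arc L A) {x : α} :
    x ∈ ext L A ↔ x ∉ A ∧ ∀ a ∈ A, ∀ b ∈ A, a ≠ b → x ∉ ln L a b := by
  classical
  simp only [ext, mem_filter, mem_univ, true_and]
  exact and_congr_right fun hx => h.arc_insert hA hx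

/-- Three lines without common point cover twelve points. -/
theorem Plane.tri_card (h : Plane L) {a b c : α} (hab : a ≠ b) (hac : a ≠ c) (hbc : b ≠ c)
    (hno : c ∉ ln L a b) : (ln L a b ∪ ln L a c ∪ ln L b c).card = 12 := by
  obtain ⟨lab, aab, bab⟩ := h.ln_spec hab
  obtain ⟨lac, aac, cac⟩ := h.ln_spec hac
  obtain ⟨lbc, bbc, cbc⟩ := h.ln_spec hbc
  have n1 : ln L a b ≠ ln L a c := fun e => hno (e ▸ cac)
  have n2 : ln L a b ≠ ln L b c := fun e => hno (e ▸ cbc)
  have n3 : ln L a c ≠ ln L b c := fun e => n1 (h.eq_ln hab lac aac (e ▸ bbc)).symm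
  have i1 : ln L a b ∩ ln L a c = {a} := Finset.ext fun y => by
    simp only [mem_inter, mem_singleton]
    exact ⟨fun hy => h.point_eq lab lac n1 hy.1 hy.2 aab aac, fun e => by rw [e]; exact ⟨aab, aac⟩⟩
  have i2 : (ln L a b ∪ ln L a c) ∩ ln L b c = {b, c} := Finset.ext fun y => by
    simp only [mem_inter, mem_union, mem_insert, mem_singleton]
    refine ⟨fun hy => hy.1.imp (fun e => h.point_eq lab lbc n2 e hy.2 bab bbc)
      (fun e => h.point_eq lac lbc n3 e hy.2 cac cbc), ?_⟩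
    rintro (rfl | rfl)
    · exact ⟨Or.inl bab, bbc⟩
    · exact ⟨Or.inr cac, cbc⟩
  have e1 := card_union_add_card_inter (ln L a b) (ln L a c)
  have e2 := card_union_add_card_inter (ln L a b ∪ ln L a c) (ln L b c)
  rw [i1, h.sys.1 _ lab, h.sys.1 _ lac, card_singleton] at e1
  rw [i2, h.sys.1 _ lbc, card_pair hbc] at e2
  omega

theorem Plane.ext_zero (h : Plane L) : (ext L (∅ : Finset α)).card = 21 := by
  have : ext L (∅ : Finset α) = univ := Finset.ext fun x => by
    rw [h.mem_ext (fun l _ => by simp)]; simp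
  rw [this, card_univ, h.card]

theorem Plane.ext_one (h : Plane L) {A : Finset α} (hA : A.card = 1) : (ext L A).card = 20 := by
  obtain ⟨a, rfl⟩ := card_eq_one.mp hA
  have : ext L {a} = univ.erase a := Finset.ext fun x => by
    rw [h.mem_ext (fun l _ => (card_le_card inter_subset_right).trans (by simp))]
    simp
  rw [this, card_erase_of_mem (mem_univ a), card_univ, h.card]

theorem Plane.ext_two (h : Plane L) {A : Finset α} (hA : A.card = 2) : (ext L A).card = 16 := by
  obtain ⟨a, b, hab, rfl⟩ := card_eq_two.mp hA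
  obtain ⟨l, la, lb⟩ := h.ln_spec hab
  have hba : ln L b a = ln L a b := (h.eq_ln hab.symm l lb la).symm
  have : ext L {a, b} = (ln L a b)ᶜ := Finset.ext fun x => by
    rw [h.mem_ext (fun m _ => (card_le_card inter_subset_right).trans (by rw [card_pair hab]))]
    simp only [mem_insert, mem_singleton, mem_compl]
    constructor
    · exact fun hx => hx.2 a (Or.inl rfl) b (Or.inr rfl) hab
    · refine fun hx => ⟨?_, ?_⟩
      · rintro (rfl | rfl) <;> contradiction
      · rintro p (rfl | rfl) q (rfl | rfl) hpq <;> first | exact absurd rfl hpq | simpa [hba]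
  rw [this, card_compl, h.card, h.sys.1 _ l]

theorem Plane.ext_three_eq (h : Plane L) {a b c : α} (hab : a ≠ b) (hac : a ≠ c) (hbc : b ≠ c)
    (hA : Arc L {a, b, c}) : ext L {a, b, c} = (ln L a b ∪ ln L a c ∪ ln L b c)ᶜ := by
  have sym : ∀ {p q : α}, p ≠ q → ln L q p = ln L p q := fun hpq =>
    (h.eq_ln hpq.symm (h.ln_spec hpq).1 (h.ln_spec hpq).2.2 (h.ln_spec hpq).2.1).symm
  ext x
  rw [h.mem_ext hA]
  simp only [mem_insert, mem_singleton, mem_compl, mem_union, not_or]
  constructor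
  · exact fun hx => ⟨⟨hx.2 a (by simp) b (by simp) hab, hx.2 a (by simp) c (by simp) hac⟩,
      hx.2 b (by simp) c (by simp) hbc⟩
  · rintro ⟨⟨h1, h2⟩, h3⟩
    refine ⟨⟨fun e => h1 (e ▸ (h.ln_spec hab).2.1), fun e => h1 (e ▸ (h.ln_spec hab).2.2),
      fun e => h2 (e ▸ (h.ln_spec hac).2.2)⟩, ?_⟩
    have h1' := sym hab ▸ h1
    have h2' := sym hac ▸ h2
    have h3' := sym hbc ▸ h3
    rintro p (rfl | rfl | rfl) q (rfl | rfl | rfl) hpq
    exacts [absurd rfl hpq, h1, h2, h1', absurd rfl hpq, h3, h2', h3', absurd rfl hpq]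

theorem Plane.ext_three (h : Plane L) {A : Finset α} (hA : A.card = 3) (hArc : Arc L A) :
    (ext L A).card = 9 := by
  obtain ⟨a, b, c, hab, hac, hbc, rfl⟩ := card_eq_three.mp hA
  rw [h.ext_three_eq hab hac hbc hArc, card_compl, h.card, h.tri_card hab hac hbc
    (hArc.not_collinear (by simp) (by simp) (by simp) hab hac hbc (h.ln_spec hab).1
      (h.ln_spec hab).2.1 (h.ln_spec hab).2.2)]

/-- A line through the vertex `a` of a triangle, other than its sides, has three points off them. -/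
theorem Plane.cevian (h : Plane L) {a b c : α} (hab : a ≠ b) (hac : a ≠ c) (hbc : b ≠ c)
    (hno : a ∉ ln L b c) {l : Finset α} (hl : l ∈ L) (hal : a ∈ l) (hb : b ∉ l) (hc : c ∉ l) :
    (l \ (ln L a b ∪ ln L a c ∪ ln L b c)).card = 3 := by
  obtain ⟨lab, aab, bab⟩ := h.ln_spec hab
  obtain ⟨lac, aac, cac⟩ := h.ln_spec hac
  obtain ⟨lbc, bbc, cbc⟩ := h.ln_spec hbc
  have n1 : l ≠ ln L a b := fun e => hb (e ▸ bab)
  have n2 : l ≠ ln L a c := fun e => hc (e ▸ cac)
  have n3 : l ≠ ln L b c := fun e => hno (e ▸ hal)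
  obtain ⟨x, hxl, hxm⟩ := h.meet hl lbc
  have hxa : a ≠ x := fun e => hno (e ▸ hxm)
  have : (ln L a b ∪ ln L a c ∪ ln L b c) ∩ l = {a, x} := Finset.ext fun y => by
    simp only [mem_inter, mem_union, mem_insert, mem_singleton]
    refine ⟨fun ⟨hy, hyl⟩ => ?_, ?_⟩
    · rcases hy with (hy | hy) | hy
      · exact Or.inl (h.point_eq hl lab n1 hyl hy hal aab)
      · exact Or.inl (h.point_eq hl lac n2 hyl hy hal aac)
      · exact Or.inr (h.point_eq hl lbc n3 hyl hy hxl hxm)
    · rintro (rfl | rfl)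
      · exact ⟨Or.inl (Or.inl aab), hal⟩
      · exact ⟨Or.inr hxm, hxl⟩
  rw [card_sdiff, this, card_pair hxa, h.sys.1 _ hl]

omit [Fintype α] in
theorem quad_pairs {P : α → α → Prop} {a b c d : α} (sym : ∀ p q, p ≠ q → P p q → P q p)
    (hab : a ≠ b) (hac : a ≠ c) (hbc : b ≠ c) (hda : d ≠ a) (hdb : d ≠ b) (hdc : d ≠ c)
    (h1 : P a b) (h2 : P a c) (h3 : P b c) (h4 : P d a) (h5 : P d b) (h6 : P d c) :
    ∀ p ∈ insert d ({a, b, c} : Finset α), ∀ q ∈ insert d ({a, b, c} : Finset α), p ≠ q → P p q := by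
  intro p hp q hq hpq
  simp only [mem_insert, mem_singleton] at hp hq
  rcases hp with hp | hp | hp | hp <;> rcases hq with hq | hq | hq | hq <;> rw [hp, hq] at hpq ⊢ <;>
    first | exact absurd rfl hpq | assumption | (exact sym _ _ (Ne.symm hpq) ‹_›)

/-- A quadrangle has exactly two points extending it. -/
theorem Plane.ext_four (h : Plane L) {A : Finset α} (hA : A.card = 4) (hArc : Arc L A) :
    (ext L A).card = 2 := by
  obtain ⟨d, B, hdB, rfl, hB⟩ := card_eq_succ.mp hA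
  obtain ⟨a, b, c, hab, hac, hbc, rfl⟩ := card_eq_three.mp hB
  simp only [mem_insert, mem_singleton, not_or] at hdB
  obtain ⟨hda, hdb, hdc⟩ := hdB
  have hB' : Arc L {a, b, c} := hArc.mono (subset_insert _ _)
  obtain ⟨lda, dda, ada⟩ := h.ln_spec hda
  obtain ⟨ldb, ddb, bdb⟩ := h.ln_spec hdb
  obtain ⟨ldc, ddc, cdc⟩ := h.ln_spec hdc
  have nc : ∀ {x y z : α}, x ∈ insert d ({a, b, c} : Finset α) → y ∈ insert d ({a, b, c} : Finset α) →
      z ∈ insert d ({a, b, c} : Finset α) → x ≠ y → x ≠ z → y ≠ z → z ∉ ln L x y :=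
    fun hx hy hz hxy hxz hyz => hArc.not_collinear hx hy hz hxy hxz hyz (h.ln_spec hxy).1
      (h.ln_spec hxy).2.1 (h.ln_spec hxy).2.2
  set E := (ln L a b ∪ ln L a c ∪ ln L b c)ᶜ with hE
  have hdE : d ∈ E := by
    simp only [hE, mem_compl, mem_union, not_or]
    exact ⟨⟨nc (by simp) (by simp) (by simp) hab (Ne.symm hda) (Ne.symm hdb),
      nc (by simp) (by simp) (by simp) hac (Ne.symm hda) (Ne.symm hdc)⟩,
      nc (by simp) (by simp) (by simp) hbc (Ne.symm hdb) (Ne.symm hdc)⟩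
  have hEcard : E.card = 9 := by
    rw [hE, ← h.ext_three_eq hab hac hbc hB', h.ext_three (by rw [hB]) hB']
  have symU : ∀ {p q : α}, p ≠ q → ln L q p = ln L p q := fun hpq =>
    (h.eq_ln hpq.symm (h.ln_spec hpq).1 (h.ln_spec hpq).2.2 (h.ln_spec hpq).2.1).symm
  have ca : (ln L d a \ (ln L a b ∪ ln L a c ∪ ln L b c)).card = 3 :=
    h.cevian hab hac hbc (nc (by simp) (by simp) (by simp) hbc hab.symm hac.symm) lda ada
      (nc (by simp) (by simp) (by simp) hda hdb hab) (nc (by simp) (by simp) (by simp) hda hdc hac)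
  have cb : (ln L d b \ (ln L a b ∪ ln L a c ∪ ln L b c)).card = 3 := by
    have := h.cevian hab.symm hbc hac (nc (by simp) (by simp) (by simp) hac hab hbc.symm) ldb bdb
      (nc (by simp) (by simp) (by simp) hdb hda hab.symm) (nc (by simp) (by simp) (by simp) hdb hdc hbc)
    rwa [symU hab, union_right_comm] at this
  have cc : (ln L d c \ (ln L a b ∪ ln L a c ∪ ln L b c)).card = 3 := by
    have := h.cevian hac.symm hbc.symm hab (nc (by simp) (by simp) (by simp) hab hac hbc) ldc cdc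
      (nc (by simp) (by simp) (by simp) hdc hda hac.symm) (nc (by simp) (by simp) (by simp) hdc hdb hbc.symm)
    rwa [symU hac, symU hbc, union_comm (ln L a c ∪ ln L b c), ← union_assoc] at this
  have nab : ln L d a ≠ ln L d b := fun e => nc (by simp) (by simp) (by simp) hda hdb hab (e ▸ bdb)
  have nac : ln L d a ≠ ln L d c := fun e => nc (by simp) (by simp) (by simp) hda hdc hac (e ▸ cdc)
  have nbc : ln L d b ≠ ln L d c := fun e => nc (by simp) (by simp) (by simp) hdb hdc hbc (e ▸ cdc)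
  have hext : ext L (insert d {a, b, c}) =
      (E.erase d) \ ((ln L d a ∪ ln L d b ∪ ln L d c)) := by
    ext x
    rw [h.mem_ext hArc]
    simp only [mem_sdiff, mem_erase, hE, mem_compl, mem_union, not_or]
    constructor
    · intro ⟨hx, hx'⟩
      exact ⟨⟨fun e => hx (by simp [e]), ⟨hx' a (by simp) b (by simp) hab, hx' a (by simp) c (by simp) hac⟩,
        hx' b (by simp) c (by simp) hbc⟩,
        ⟨hx' d (by simp) a (by simp) hda, hx' d (by simp) b (by simp) hdb⟩, hx' d (by simp) c (by simp) hdc⟩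
    · rintro ⟨⟨hxd, ⟨h1, h2⟩, h3⟩, ⟨h4, h5⟩, h6⟩
      refine ⟨?_, ?_⟩
      · simp only [mem_insert, mem_singleton, not_or]
        exact ⟨hxd, fun e => h1 (e ▸ (h.ln_spec hab).2.1), fun e => h1 (e ▸ (h.ln_spec hab).2.2),
          fun e => h2 (e ▸ (h.ln_spec hac).2.2)⟩
      · exact quad_pairs (P := fun p q => x ∉ ln L p q) (fun p q hpq hx => by rwa [symU hpq])
          hab hac hbc hda hdb hdc h1 h2 h3 h4 h5 h6
  rw [hext]
  have hin : ∀ m : Finset α, (E.erase d) ∩ m = (m \ (ln L a b ∪ ln L a c ∪ ln L b c)).erase d := fun m => by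
    ext x; simp only [hE, mem_inter, mem_erase, mem_sdiff, mem_compl]
    exact ⟨fun hx => ⟨hx.1.1, hx.2, hx.1.2⟩, fun hx => ⟨⟨hx.1, hx.2.2⟩, hx.2.1⟩⟩
  have key : ∀ m n : Finset α, m ∈ L → n ∈ L → m ≠ n → d ∈ m → d ∈ n →
      Disjoint ((E.erase d) ∩ m) ((E.erase d) ∩ n) := fun m n hm hn hmn hdm hdn =>
    disjoint_left.mpr fun x h1 h2 => by
      simp only [mem_inter, mem_erase] at h1 h2
      exact h1.1.1 (h.point_eq hm hn hmn h1.2 h2.2 hdm hdn)
  have hc3 : ∀ m : Finset α, d ∈ m → (m \ (ln L a b ∪ ln L a c ∪ ln L b c)).card = 3 →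
      ((E.erase d) ∩ m).card = 2 := fun m hdm hm => by
    rw [hin, card_erase_of_mem, hm]
    simp only [mem_sdiff]
    exact ⟨hdm, by simpa only [hE, mem_compl] using hdE⟩
  have d1 := key (ln L d a) (ln L d c) lda ldc nac dda ddc
  have d2 := key (ln L d b) (ln L d c) ldb ldc nbc ddb ddc
  have d3 := key (ln L d a) (ln L d b) lda ldb nab dda ddb
  have e1 : (E.erase d ∩ (ln L d a ∪ ln L d b ∪ ln L d c)).card = 6 := by
    rw [inter_union_distrib_left, inter_union_distrib_left,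
      card_union_of_disjoint (disjoint_union_left.mpr ⟨d1, d2⟩), card_union_of_disjoint d3,
      hc3 _ dda ca, hc3 _ ddb cb, hc3 _ ddc cc]
  have e2 := card_sdiff_add_card_inter (E.erase d) (ln L d a ∪ ln L d b ∪ ln L d c)
  have e3 : (E.erase d).card = 8 := by rw [card_erase_of_mem hdE, hEcard]
  omega

/-- The two points extending a quadrangle complete it to a hyperoval. -/
theorem Plane.extend (h : Plane L) {A : Finset α} (hA : A.card = 4) (hArc : Arc L A) :
    ∃! H : Finset α, (H.card = 6 ∧ Arc L H) ∧ A ⊆ H := by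
  classical
  have hE := h.ext_four hA hArc
  have hdis : Disjoint A (ext L A) := disjoint_left.mpr fun x hx hx' => ((h.mem_ext hArc).mp hx').1 hx
  obtain ⟨u, v, huv, huvE⟩ := card_eq_two.mp hE
  have hu : u ∈ ext L A := by rw [huvE]; simp
  have hv : v ∈ ext L A := by rw [huvE]; simp
  have hu' := (h.mem_ext hArc).mp hu
  have hv' := (h.mem_ext hArc).mp hv
  have hAu : Arc L (insert u A) := (h.arc_insert hArc hu'.1).mpr hu'.2
  -- no point of `A` is collinear with the two new points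
  have side : ∀ a ∈ A, v ∉ ln L u a := by
    intro a ha hvl
    obtain ⟨b, c, d, hbc, hbd, hcd, hrest⟩ := card_eq_three.mp
      (show (A.erase a).card = 3 by rw [card_erase_of_mem ha, hA])
    have mem : ∀ x ∈ ({b, c, d} : Finset α), x ≠ a ∧ x ∈ A := fun x hx => mem_erase.mp (hrest ▸ hx)
    obtain ⟨hba, hbA⟩ := mem b (by simp)
    obtain ⟨hca, hcA⟩ := mem c (by simp)
    obtain ⟨hda, hdA⟩ := mem d (by simp)
    have hua : u ≠ a := fun e => hu'.1 (e ▸ ha)
    obtain ⟨l, lu, la⟩ := h.ln_spec hua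
    obtain ⟨x, hxl, hx⟩ := h.meet l (h.ln_spec hbc).1
    obtain ⟨y, hyl, hy⟩ := h.meet l (h.ln_spec hbd).1
    obtain ⟨z, hzl, hz⟩ := h.meet l (h.ln_spec hcd).1
    have offb : ∀ {p q : α}, p ∈ A → q ∈ A → p ≠ q → p ≠ a → q ≠ a → ∀ w, w ∈ ln L p q →
        w ≠ u ∧ w ≠ v ∧ w ≠ a := fun hp hq hpq hpa hqa w hw =>
      ⟨fun e => hu'.2 _ hp _ hq hpq (e ▸ hw), fun e => hv'.2 _ hp _ hq hpq (e ▸ hw), fun e =>
        hArc.not_collinear hp hq ha hpq hpa hqa (h.ln_spec hpq).1 (h.ln_spec hpq).2.1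
          (h.ln_spec hpq).2.2 (e ▸ hw)⟩
    have notl : ∀ {p : α}, p ∈ A → p ≠ a → p ∉ ln L u a := fun hp hpa hpl =>
      hAu.not_collinear (mem_insert_self _ _) (mem_insert_of_mem ha) (mem_insert_of_mem hp) hua
        (fun e : u = _ => hu'.1 (e ▸ hp)) (Ne.symm hpa) l lu la hpl
    have pne : ∀ {p q r w : α}, p ∈ A → q ∈ A → r ∈ A → p ≠ q → p ≠ r → q ≠ r → p ≠ a →
        w ∈ ln L u a → w ∈ ln L p q → w ∉ ln L p r := fun hp hq hr hpq hpr hqr hpa hwl hw1 hw2 => by
      have e := h.point_eq (h.ln_spec hpq).1 (h.ln_spec hpr).1 (fun e =>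
        hArc.not_collinear hp hq hr hpq hpr hqr (h.ln_spec hpq).1 (h.ln_spec hpq).2.1
          (h.ln_spec hpq).2.2 (e ▸ (h.ln_spec hpr).2.2)) hw1 hw2 (h.ln_spec hpq).2.1 (h.ln_spec hpr).2.1
      exact notl hp hpa (e ▸ hwl)
    have sym : ∀ {p q : α}, p ≠ q → ln L q p = ln L p q := fun hpq =>
      (h.eq_ln hpq.symm (h.ln_spec hpq).1 (h.ln_spec hpq).2.2 (h.ln_spec hpq).2.1).symm
    have xy : x ≠ y := fun e => pne hbA hcA hdA hbc hbd hcd hba hxl hx (e ▸ hy)
    have xz : x ≠ z := fun e =>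
      pne hcA hbA hdA hbc.symm hcd hbd hca hxl (sym hbc ▸ hx) (e ▸ hz)
    have yz : y ≠ z := fun e =>
      pne hdA hbA hcA hbd.symm hcd.symm hbc hda hyl (sym hbd ▸ hy) (sym hcd ▸ (e ▸ hz))
    obtain ⟨x1, x2, x3⟩ := offb hbA hcA hbc hba hca x hx
    obtain ⟨y1, y2, y3⟩ := offb hbA hdA hbd hba hda y hy
    obtain ⟨z1, z2, z3⟩ := offb hcA hdA hcd hca hda z hz
    have hva : v ≠ a := fun e => hv'.1 (e ▸ ha)
    have hsub : ({u, v, a, x, y, z} : Finset α) ⊆ ln L u a := by
      simp [insert_subset_iff, lu, hvl, la, hxl, hyl, hzl]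
    have := card_le_card hsub
    rw [h.sys.1 _ l, card_insert_of_notMem (by simp [huv, hua, x1.symm, y1.symm, z1.symm]),
      card_insert_of_notMem (by simp [hva, x2.symm, y2.symm, z2.symm]),
      card_insert_of_notMem (by simp [x3.symm, y3.symm, z3.symm]),
      card_insert_of_notMem (by simp [xy, xz]), card_pair yz] at this
    omega
  have hH : Arc L (insert v (insert u A)) := by
    refine (h.arc_insert hAu (by simp [huv.symm, hv'.1])).mpr fun p hp q hq hpq => ?_
    rcases mem_insert.mp hp with hpu | hpA <;> rcases mem_insert.mp hq with hqu | hqA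
    · exact absurd (hpu.trans hqu.symm) hpq
    · subst hpu; exact side q hqA
    · subst hqu
      rw [(h.eq_ln (Ne.symm hpq) (h.ln_spec hpq).1 (h.ln_spec hpq).2.2 (h.ln_spec hpq).2.1)]
      exact side p hpA
    · exact hv'.2 p hpA q hqA hpq
  have hcard : (insert v (insert u A)).card = 6 := by
    rw [card_insert_of_notMem (by simp [huv.symm, hv'.1]), card_insert_of_notMem hu'.1, hA]
  refine ⟨_, ⟨⟨hcard, hH⟩, (subset_insert _ _).trans (subset_insert _ _)⟩, ?_⟩
  rintro H ⟨⟨hH6, hHarc⟩, hAH⟩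
  refine eq_of_subset_of_card_le (fun x hx => ?_) (by rw [hcard, hH6])
  by_cases hxA : x ∈ A
  · simp [hxA]
  have : x ∈ ext L A := by
    simp only [ext, mem_filter, mem_univ, true_and]
    exact ⟨hxA, hHarc.mono (insert_subset hx hAH)⟩
  rw [huvE, mem_insert, mem_singleton] at this
  rcases this with e | e <;> simp [e]

open Classical in
/-- The arcs of size `k`. -/
noncomputable def arcs (L : Set (Finset α)) (k : ℕ) : Finset (Finset α) :=
  univ.filter fun A => A.card = k ∧ Arc L A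

theorem arcs_step {k e : ℕ} (he : ∀ A : Finset α, A.card = k → Arc L A → (ext L A).card = e) :
    (arcs L k).card * e = (arcs L (k + 1)).card * (k + 1) := by
  classical
  refine card_mul_eq_card_mul (fun A B => A ⊆ B) (fun A hA => ?_) (fun B hB => ?_)
  · simp only [arcs, mem_filter, mem_univ, true_and] at hA
    rw [← he A hA.1 hA.2]
    refine (card_bij (fun x _ => insert x A) (fun x hx => ?_) (fun x hx y hy e => ?_) (fun B hB => ?_)).symm
    · simp only [ext, mem_filter, mem_univ, true_and] at hx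
      simp [bipartiteAbove, arcs, card_insert_of_notMem hx.1, hA.1, hx.2, subset_insert]
    · simp only [ext, mem_filter, mem_univ, true_and] at hx
      exact ((mem_insert.mp (e ▸ mem_insert_self x A)).resolve_right hx.1)
    · simp only [bipartiteAbove, arcs, mem_filter, mem_univ, true_and] at hB
      obtain ⟨x, hx⟩ := card_eq_one.mp (show (B \ A).card = 1 by
        rw [card_sdiff_of_subset hB.2, hB.1.1, hA.1]; omega)
      have hxm : x ∈ B \ A := hx ▸ mem_singleton_self x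
      have e' : insert x A = B := by
        rw [← union_sdiff_of_subset hB.2, hx, union_comm]; rfl
      refine ⟨x, ?_, e'⟩
      simp only [ext, mem_filter, mem_univ, true_and]
      exact ⟨(mem_sdiff.mp hxm).2, e' ▸ hB.1.2⟩
  · simp only [arcs, mem_filter, mem_univ, true_and] at hB
    have : bipartiteBelow (fun A B => A ⊆ B) (arcs L k) B = B.powersetCard k := by
      ext A
      simp only [bipartiteBelow, arcs, mem_filter, mem_univ, true_and, mem_powersetCard]
      exact ⟨fun hA => ⟨hA.2, hA.1.1⟩, fun hA => ⟨⟨hA.2, hB.2.mono hA.1⟩, hA.1⟩⟩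
    rw [this, card_powersetCard, hB.1, Nat.choose_succ_self_right]

theorem Plane.arcs_four (h : Plane L) : (arcs L 4).card = 2520 := by
  have h0 : (arcs L 0).card = 1 := by
    rw [card_eq_one]
    refine ⟨∅, Finset.ext fun A => ?_⟩
    simp only [arcs, mem_filter, mem_univ, true_and, card_eq_zero, mem_singleton]
    exact ⟨fun hA => hA.1, fun e => ⟨e, fun l _ => by simp [e]⟩⟩
  have s0 := arcs_step (L := L) (k := 0) (e := 21) fun A hA _ => by rw [card_eq_zero.mp hA, h.ext_zero]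
  have s1 := arcs_step (L := L) (k := 1) (e := 20) fun A hA _ => h.ext_one hA
  have s2 := arcs_step (L := L) (k := 2) (e := 16) fun A hA _ => h.ext_two hA
  have s3 := arcs_step (L := L) (k := 3) (e := 9) fun A hA hArc => h.ext_three hA hArc
  simp only [Nat.reduceAdd] at s0 s1 s2 s3
  omega

theorem Plane.arcs_six (h : Plane L) : (arcs L 6).card = 168 := by
  classical
  have hs : (arcs L 4).card * 1 = (arcs L 6).card * 15 := by
    refine card_mul_eq_card_mul (fun A B => A ⊆ B) (fun A hA => ?_) (fun B hB => ?_)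
    · simp only [arcs, mem_filter, mem_univ, true_and] at hA
      obtain ⟨H, hH, huniq⟩ := h.extend hA.1 hA.2
      refine card_eq_one.mpr ⟨H, Finset.ext fun B => ?_⟩
      simp only [bipartiteAbove, arcs, mem_filter, mem_univ, true_and, mem_singleton]
      exact ⟨huniq B, fun e => e ▸ hH⟩
    · simp only [arcs, mem_filter, mem_univ, true_and] at hB
      have : bipartiteBelow (fun A B => A ⊆ B) (arcs L 4) B = B.powersetCard 4 := by
        ext A
        simp only [bipartiteBelow, arcs, mem_filter, mem_univ, true_and, mem_powersetCard]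
        exact ⟨fun hA => ⟨hA.2, hA.1.1⟩, fun hA => ⟨⟨hA.2, hB.2.mono hA.1⟩, hA.1⟩⟩
      rw [this, card_powersetCard, hB.1]
      decide
  rw [h.arcs_four] at hs
  omega

/-! ### Coordinates from a hyperoval -/

/-- A syntheme: a fixed-point-free involution of six letters. -/
abbrev Syn : Type := {s : Fin 6 → Fin 6 // ∀ i, s i ≠ i ∧ s (s i) = i}

theorem Syn.eq_of {s t : Syn} {i j : Fin 6} (hji : j ≠ i) (hjs : j ≠ s.1 i) (hi : s.1 i = t.1 i)
    (hj : s.1 j = t.1 j) : s = t := by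
  refine Subtype.ext (funext fun x => ?_)
  have hsj : s.1 j ≠ i ∧ s.1 j ≠ s.1 i :=
    ⟨fun e => hjs (by rw [← e, (s.2 j).2]), fun e => hji (by
      have := congrArg s.1 e; rwa [(s.2 j).2, (s.2 i).2] at this)⟩
  let four : Finset (Fin 6) := {i, s.1 i, j, s.1 j}
  have hfour : four.card = 4 := by
    rw [card_insert_of_notMem (by simp [(s.2 i).1.symm, hji.symm, hsj.1.symm]),
      card_insert_of_notMem (by simp [Ne.symm hjs, Ne.symm hsj.2]), card_pair (s.2 j).1.symm]
  have agree : ∀ y ∈ four, s.1 y = t.1 y := by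
    intro y hy
    simp only [four, mem_insert, mem_singleton] at hy
    rcases hy with rfl | rfl | rfl | rfl
    · exact hi
    · rw [(s.2 i).2, hi, (t.2 i).2]
    · exact hj
    · rw [(s.2 j).2, hj, (t.2 j).2]
  by_cases hx : x ∈ four
  · exact agree x hx
  have out : ∀ u : Syn, (∀ y ∈ four, s.1 y = u.1 y) → u.1 x ∈ (fourᶜ).erase x := by
    intro u hu
    refine mem_erase.mpr ⟨(u.2 x).1, mem_compl.mpr fun hux => hx ?_⟩
    have e := hu _ hux
    rw [(u.2 x).2] at e
    rw [← e]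
    simp only [four, mem_insert, mem_singleton] at hux ⊢
    rcases hux with h | h | h | h <;> rw [h] <;> simp [(s.2 i).2, (s.2 j).2]
  have hone : ((fourᶜ).erase x).card ≤ 1 := by
    rw [card_erase_of_mem (mem_compl.mpr hx), card_compl, hfour, Fintype.card_fin]
  exact card_le_one.mp hone _ (out s fun _ _ => rfl) _ (out t agree)

/-- The points of the model. -/
abbrev Pt : Type := Fin 6 ⊕ Syn

/-- A secant in the model. -/
def secant (i j : Fin 6) : Finset Pt :=
  univ.filter fun p => Sum.elim (fun k => decide (k = i ∨ k = j)) (fun s => decide (s.1 i = j)) p = true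

/-- The lines of the model. -/
def model : Set (Finset Pt) :=
  {b | (∃ i j, i ≠ j ∧ b = secant i j) ∨
    ∃ T : Finset Syn, T.card = 5 ∧ (∀ s ∈ T, ∀ t ∈ T, s ≠ t → ∀ i, s.1 i ≠ t.1 i) ∧
      b = T.map Function.Embedding.inr}

/-- A hyperoval, numbered. -/
structure Oval (L : Set (Finset α)) where
  f : Fin 6 → α
  inj : Function.Injective f
  arc : Arc L (univ.image f)

variable (O : Oval L)

theorem Oval.not_collinear {i j k : Fin 6} (hij : i ≠ j) (hik : i ≠ k) (hjk : j ≠ k) {l : Finset α}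
    (hl : l ∈ L) (hi : O.f i ∈ l) (hj : O.f j ∈ l) : O.f k ∉ l :=
  O.arc.not_collinear (by simp) (by simp) (by simp) (O.inj.ne hij) (O.inj.ne hik) (O.inj.ne hjk)
    hl hi hj

/-- There is no tangent line. -/
theorem Oval.partner (h : Plane L) {i : Fin 6} {l : Finset α} (hl : l ∈ L) (hi : O.f i ∈ l) :
    ∃ j, j ≠ i ∧ O.f j ∈ l := by
  classical
  have hinj : Set.InjOn (fun j => ln L (O.f i) (O.f j)) (univ.erase i : Finset (Fin 6)) := by
    intro j hj k hk e
    simp only [coe_erase, Set.mem_diff, Set.mem_singleton_iff, coe_univ, Set.mem_univ, true_and] at hj hk e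
    by_contra hjk
    obtain ⟨a, b, c⟩ := h.ln_spec (O.inj.ne (Ne.symm hj))
    exact O.not_collinear (Ne.symm hj) (Ne.symm hk) hjk a b c
      (e ▸ (h.ln_spec (O.inj.ne (Ne.symm hk))).2.2)
  have hsub : (univ.erase i).image (fun j => ln L (O.f i) (O.f j)) =
      univ.filter fun l : Finset α => l ∈ L ∧ O.f i ∈ l := by
    refine eq_of_subset_of_card_le ?_ ?_
    · intro k hk
      obtain ⟨j, hj, rfl⟩ := mem_image.mp hk
      obtain ⟨a, b, -⟩ := h.ln_spec (O.inj.ne (Ne.symm (mem_erase.mp hj).1))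
      simp [a, b]
    · rw [h.pencil, card_image_of_injOn hinj]; simp
  obtain ⟨j, hj, e⟩ := mem_image.mp (hsub.ge (by simp [hl, hi] : l ∈ _))
  exact ⟨j, (mem_erase.mp hj).1, e ▸ (h.ln_spec (O.inj.ne (Ne.symm (mem_erase.mp hj).1))).2.2⟩

/-- A point off the hyperoval induces a syntheme. -/
theorem Oval.exists_syn (h : Plane L) {P : α} (hP : ∀ i, P ≠ O.f i) :
    ∃ s : Syn, ∀ i j, i ≠ j → (P ∈ ln L (O.f i) (O.f j) ↔ s.1 i = j) := by
  choose s hs hs' using fun i => O.partner h (h.ln_spec (hP i)).1 (h.ln_spec (hP i)).2.2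
  have key : ∀ i j, i ≠ j → (P ∈ ln L (O.f i) (O.f j) ↔ s i = j) := by
    intro i j hij
    obtain ⟨a, b, c⟩ := h.ln_spec (O.inj.ne hij)
    constructor
    · intro hPl
      by_contra hne
      have e := h.eq_ln (hP i) a hPl b
      exact O.not_collinear hij (Ne.symm (hs i)) (Ne.symm hne) a b c (e ▸ hs' i)
    · rintro rfl
      rw [← h.eq_ln (O.inj.ne hij) (h.ln_spec (hP i)).1 (h.ln_spec (hP i)).2.2 (hs' i)]
      exact (h.ln_spec (hP i)).2.1
  refine ⟨⟨s, fun i => ⟨hs i, ?_⟩⟩, key⟩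
  refine (key _ _ (hs i)).mp ?_
  obtain ⟨a, b, c⟩ := h.ln_spec (O.inj.ne (hs i))
  rw [← h.eq_ln (O.inj.ne (hs i)) (h.ln_spec (hP i)).1 (hs' i) (h.ln_spec (hP i)).2.2]
  exact (h.ln_spec (hP i)).2.1

/-- Every syntheme is induced. -/
theorem Oval.exists_point (h : Plane L) (s : Syn) :
    ∃ P, (∀ i, P ≠ O.f i) ∧ ∀ i j, i ≠ j → (P ∈ ln L (O.f i) (O.f j) ↔ s.1 i = j) := by
  obtain ⟨j, hj0, hjs⟩ : ∃ j : Fin 6, j ≠ 0 ∧ j ≠ s.1 0 := by
    have key : ∀ y : Fin 6, ∃ j : Fin 6, j ≠ 0 ∧ j ≠ y := by decide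
    exact key _
  have hs0 := (s.2 0).1.symm
  have hsj := (s.2 j).1.symm
  obtain ⟨l, l0, l1⟩ := h.ln_spec (O.inj.ne hs0)
  obtain ⟨m, m0, m1⟩ := h.ln_spec (O.inj.ne hsj)
  have hsj0 : s.1 j ≠ 0 ∧ s.1 j ≠ s.1 0 :=
    ⟨fun e => hjs (by rw [← e, (s.2 j).2]), fun e => hj0 (by
      have := congrArg s.1 e; rwa [(s.2 j).2, (s.2 0).2] at this)⟩
  obtain ⟨P, hPl, hPm⟩ := h.meet l m
  have hP : ∀ i, P ≠ O.f i := by
    rintro i rfl
    have h1 : i = 0 ∨ i = s.1 0 := by
      by_contra hc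
      rw [not_or] at hc
      exact O.not_collinear hs0 (Ne.symm hc.1) (Ne.symm hc.2) l l0 l1 hPl
    have h2 : i = j ∨ i = s.1 j := by
      by_contra hc
      rw [not_or] at hc
      exact O.not_collinear hsj (Ne.symm hc.1) (Ne.symm hc.2) m m0 m1 hPm
    rcases h1 with rfl | rfl <;> rcases h2 with e | e
    · exact hj0 e.symm
    · exact hsj0.1 e.symm
    · exact hjs e.symm
    · exact hsj0.2 e.symm
  obtain ⟨t, ht⟩ := O.exists_syn h hP
  obtain rfl : t = s := (Syn.eq_of hj0 hjs ((ht 0 _ hs0).mp hPl).symm ((ht j _ hsj).mp hPm).symm).symm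
  exact ⟨P, hP, ht⟩

/-- The point of a syntheme. -/
noncomputable def Oval.pt (h : Plane L) (s : Syn) : α := (O.exists_point h s).choose

theorem Oval.pt_spec (h : Plane L) (s : Syn) : (∀ i, O.pt h s ≠ O.f i) ∧
    ∀ i j, i ≠ j → (O.pt h s ∈ ln L (O.f i) (O.f j) ↔ s.1 i = j) :=
  (O.exists_point h s).choose_spec

/-- The coordinatisation. -/
noncomputable def Oval.map (h : Plane L) : Pt → α := Sum.elim O.f (O.pt h)

theorem Oval.syn_point (h : Plane L) {P : α} {s : Syn}
    (hs : ∀ i j, i ≠ j → (P ∈ ln L (O.f i) (O.f j) ↔ s.1 i = j)) : O.pt h s = P := by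
  obtain ⟨j, hj0, hjs⟩ : ∃ j : Fin 6, j ≠ 0 ∧ j ≠ s.1 0 := by
    have key : ∀ y : Fin 6, ∃ j : Fin 6, j ≠ 0 ∧ j ≠ y := by decide
    exact key _
  have hs0 := (s.2 0).1.symm
  have hsj := (s.2 j).1.symm
  obtain ⟨l, l0, l1⟩ := h.ln_spec (O.inj.ne hs0)
  obtain ⟨m, m0, m1⟩ := h.ln_spec (O.inj.ne hsj)
  refine h.point_eq l m (fun e => O.not_collinear hs0 (Ne.symm hj0) (Ne.symm hjs) l l0 l1 (e ▸ m0))
    (((O.pt_spec h s).2 _ _ hs0).mpr rfl) (((O.pt_spec h s).2 _ _ hsj).mpr rfl)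
    ((hs _ _ hs0).mpr rfl) ((hs _ _ hsj).mpr rfl)

theorem Oval.bijective (h : Plane L) : Function.Bijective (O.map h) := by
  constructor
  · rintro (i | s) (j | t) e <;> simp only [Oval.map, Sum.elim_inl, Sum.elim_inr] at e
    · rw [O.inj e]
    · exact absurd e.symm ((O.pt_spec h t).1 i)
    · exact absurd e ((O.pt_spec h s).1 j)
    · refine congrArg Sum.inr (Subtype.ext (funext fun i => ?_))
      refine (((O.pt_spec h t).2 _ _ (s.2 i).1.symm).mp ?_).symm
      rw [← e]
      exact ((O.pt_spec h s).2 _ _ (s.2 i).1.symm).mpr rfl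
  · intro P
    by_cases hP : ∃ i, P = O.f i
    · obtain ⟨i, rfl⟩ := hP
      exact ⟨Sum.inl i, rfl⟩
    · push Not at hP
      obtain ⟨s, hs⟩ := O.exists_syn h hP
      exact ⟨Sum.inr s, O.syn_point h hs⟩

/-- The coordinatisation as an equivalence. -/
noncomputable def Oval.equiv (h : Plane L) : Pt ≃ α := Equiv.ofBijective _ (O.bijective h)

theorem Oval.secant_image (h : Plane L) {i j : Fin 6} (hij : i ≠ j) :
    (secant i j).image (O.equiv h) = ln L (O.f i) (O.f j) := by
  obtain ⟨l, li, lj⟩ := h.ln_spec (O.inj.ne hij)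
  ext P
  obtain ⟨p, rfl⟩ := (O.equiv h).surjective P
  rw [(O.equiv h).injective.mem_finset_image]
  simp only [secant, mem_filter, mem_univ, true_and]
  rcases p with k | s <;> simp only [Oval.equiv, Equiv.ofBijective_apply, Oval.map, Sum.elim_inl, Sum.elim_inr, decide_eq_true_eq]
  · refine ⟨?_, fun hk => ?_⟩
    · rintro (rfl | rfl) <;> assumption
    · by_contra hc
      rw [not_or] at hc
      exact O.not_collinear hij (Ne.symm hc.1) (Ne.symm hc.2) l li lj hk
  · exact ((O.pt_spec h s).2 i j hij).symm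

/-- At most two external lines pass through a point. -/
theorem Oval.externals (h : Plane L) {P : α} (hP : ∀ i, P ≠ O.f i) {a b c : Finset α}
    (ha : a ∈ L) (hb : b ∈ L) (hc : c ∈ L) (hPa : P ∈ a) (hPb : P ∈ b) (hPc : P ∈ c)
    (ea : ∀ i, O.f i ∉ a) (eb : ∀ i, O.f i ∉ b) (ec : ∀ i, O.f i ∉ c)
    (hab : a ≠ b) (hac : a ≠ c) : b = c := by
  classical
  by_contra hbc
  obtain ⟨s, hs⟩ := O.exists_syn h hP
  obtain ⟨j, hj0, hjs⟩ : ∃ j : Fin 6, j ≠ 0 ∧ j ≠ s.1 0 := by
    have key : ∀ y : Fin 6, ∃ j : Fin 6, j ≠ 0 ∧ j ≠ y := by decide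
    exact key _
  obtain ⟨k, hk0, hks, hkj, hksj⟩ : ∃ k : Fin 6, k ≠ 0 ∧ k ≠ s.1 0 ∧ k ≠ j ∧ k ≠ s.1 j := by
    have key : ∀ x y z : Fin 6, ∃ k : Fin 6, k ≠ 0 ∧ k ≠ x ∧ k ≠ y ∧ k ≠ z := by decide
    exact key _ _ _
  let e : Fin 6 → Finset α := fun i => ln L (O.f i) (O.f (s.1 i))
  have sp : ∀ i, e i ∈ L ∧ P ∈ e i ∧ O.f i ∈ e i := fun i =>
    ⟨(h.ln_spec (O.inj.ne (s.2 i).1.symm)).1, (hs _ _ (s.2 i).1.symm).mpr rfl,
      (h.ln_spec (O.inj.ne (s.2 i).1.symm)).2.1⟩
  have ne : ∀ i i', i' ≠ i → i' ≠ s.1 i → e i ≠ e i' := fun i i' h1 h2 he =>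
    O.not_collinear (s.2 i).1.symm (Ne.symm h1) (Ne.symm h2) (sp i).1 (sp i).2.2
      (h.ln_spec (O.inj.ne (s.2 i).1.symm)).2.2 (he ▸ (sp i').2.2)
  have ext' : ∀ {m : Finset α}, (∀ i, O.f i ∉ m) → ∀ i, m ≠ e i := fun hm i he =>
    hm i (he ▸ (sp i).2.2)
  have hsub : ({a, b, c, e 0, e j, e k} : Finset (Finset α)) ⊆
      univ.filter fun l : Finset α => l ∈ L ∧ P ∈ l := by
    simp [insert_subset_iff, ha, hb, hc, hPa, hPb, hPc, (sp _).1, (sp _).2.1]
  have := card_le_card hsub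
  rw [h.pencil, card_insert_of_notMem (by simp [hab, hac, ext' ea]),
    card_insert_of_notMem (by simp [hbc, ext' eb]), card_insert_of_notMem (by simp [ext' ec]),
    card_insert_of_notMem (by simp [ne 0 j hj0 hjs, ne 0 k hk0 hks]),
    card_pair (ne j k hkj hksj)] at this
  omega

/-- The coordinatisation carries the model onto the plane. -/
theorem Oval.lines (h : Plane L) : (fun b => b.image (O.equiv h)) '' model = L := by
  classical
  have sym : ∀ {i : Fin 6} {l : Finset α}, l ∈ L → O.f i ∈ l →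
      ∃ j, i ≠ j ∧ l = ln L (O.f i) (O.f j) := fun hl hi => by
    obtain ⟨j, hji, hj⟩ := O.partner h hl hi
    exact ⟨j, hji.symm, h.eq_ln (O.inj.ne hji.symm) hl hi hj⟩
  ext l
  constructor
  · rintro ⟨b, ⟨i, j, hij, rfl⟩ | ⟨T, hT, hdis, rfl⟩, rfl⟩
    · simp only [O.secant_image h hij]
      exact (h.ln_spec (O.inj.ne hij)).1
    · set P : Syn → α := fun s => O.pt h s with hPdef
      have hPinj : Function.Injective P := fun s t e =>
        Sum.inr_injective ((O.bijective h).1 (show O.map h (Sum.inr s) = O.map h (Sum.inr t) from e))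
      have hjoin : ∀ s ∈ T, ∀ t ∈ T, s ≠ t →
          ∃ m ∈ L, P s ∈ m ∧ P t ∈ m ∧ ∀ i, O.f i ∉ m := by
        intro s hs t ht hst
        obtain ⟨a, b, c⟩ := h.ln_spec (hPinj.ne hst)
        refine ⟨_, a, b, c, fun i hi => ?_⟩
        obtain ⟨j, hij, e⟩ := sym a hi
        exact hdis s hs t ht hst i ((((O.pt_spec h s).2 i j hij).mp (e ▸ b)).trans
          (((O.pt_spec h t).2 i j hij).mp (e ▸ c)).symm)
      obtain ⟨p, hp⟩ : T.Nonempty := card_pos.mp (by omega)
      let E := univ.filter fun m : Finset α => m ∈ L ∧ P p ∈ m ∧ ∀ i, O.f i ∉ m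
      have hE : E.card ≤ 2 := by
        by_contra hgt
        obtain ⟨a, b, c, ha, hb, hc, hab, hac, hbc⟩ := two_lt_card_iff.mp (show 2 < E.card by omega)
        simp only [E, mem_filter, mem_univ, true_and] at ha hb hc
        exact hbc (O.externals h (O.pt_spec h p).1 ha.1 hb.1 hc.1 ha.2.1 hb.2.1 hc.2.1 ha.2.2 hb.2.2
          hc.2.2 hab hac)
      choose! g hgL hgp hgs hge using fun s (hs : s ∈ T.erase p) =>
        hjoin p hp s (mem_of_mem_erase hs) (ne_of_mem_erase hs).symm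
      obtain ⟨q, hq, r, hr, hqr, hgqr⟩ := exists_ne_map_eq_of_card_lt_of_maps_to
        (show E.card < (T.erase p).card by rw [card_erase_of_mem hp, hT]; omega)
        (f := g) (fun s hs => by simp [E, hgL s hs, hgp s hs, hge s hs])
      have hall : ∀ t ∈ T, P t ∈ g q := by
        intro t ht
        by_contra htm
        have htp : t ≠ p := fun e => htm (e ▸ hgp q hq)
        have htq : t ≠ q := fun e => htm (e ▸ hgs q hq)
        have htr : t ≠ r := fun e => htm (by rw [e, hgqr]; exact hgs r hr)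
        obtain ⟨m1, a1, b1, c1, e1⟩ := hjoin t ht p hp htp
        obtain ⟨m2, a2, b2, c2, e2⟩ := hjoin t ht q (mem_of_mem_erase hq) htq
        obtain ⟨m3, a3, b3, c3, e3⟩ := hjoin t ht r (mem_of_mem_erase hr) htr
        have d12 : m1 ≠ m2 := fun e => htm ((h.line_eq (hPinj.ne (ne_of_mem_erase hq).symm) (hgL q hq)
          (hgp q hq) (hgs q hq) a1 c1 (e ▸ c2)) ▸ b1)
        have d13 : m1 ≠ m3 := fun e => htm ((h.line_eq (hPinj.ne (ne_of_mem_erase hr).symm) (hgL q hq)
          (hgp q hq) (hgqr ▸ hgs r hr) a1 c1 (e ▸ c3)) ▸ b1)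
        have d23 : m2 ≠ m3 := fun e => htm ((h.line_eq (hPinj.ne hqr) (hgL q hq)
          (hgs q hq) (hgqr ▸ hgs r hr) a2 c2 (e ▸ c3)) ▸ b2)
        exact d23 (O.externals h (O.pt_spec h t).1 a1 a2 a3 b1 b2 b3 e1 e2 e3 d12 d13)
      have himg : (T.map Function.Embedding.inr).image (O.equiv h) = g q := by
        refine eq_of_subset_of_card_le ?_ ?_
        · intro x hx
          simp only [mem_image, mem_map, Function.Embedding.inr_apply] at hx
          obtain ⟨_, ⟨t, ht, rfl⟩, rfl⟩ := hx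
          exact hall t ht
        · rw [card_image_of_injective _ (O.equiv h).injective, card_map, hT, h.sys.1 _ (hgL q hq)]
      simp only [himg]
      exact hgL q hq
  · intro hl
    by_cases hext : ∃ i, O.f i ∈ l
    · obtain ⟨i, hi⟩ := hext
      obtain ⟨j, hij, e⟩ := sym hl hi
      exact ⟨secant i j, Or.inl ⟨i, j, hij, rfl⟩, by rw [e]; exact O.secant_image h hij⟩
    push Not at hext
    let T : Finset Syn := univ.filter fun s => O.pt h s ∈ l
    have himg : (T.map Function.Embedding.inr).image (O.equiv h) = l := by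
      ext P
      obtain ⟨p, rfl⟩ := (O.equiv h).surjective P
      rw [(O.equiv h).injective.mem_finset_image]
      simp only [mem_map, T, mem_filter, mem_univ, true_and, Function.Embedding.inr_apply]
      rcases p with k | s <;>
        simp only [Oval.equiv, Equiv.ofBijective_apply, Oval.map, Sum.elim_inl, Sum.elim_inr]
      · simp [hext k]
      · simp
    refine ⟨T.map Function.Embedding.inr, Or.inr ⟨T, ?_, ?_, rfl⟩, himg⟩
    · have := congrArg card himg
      rwa [card_image_of_injective _ (O.equiv h).injective, card_map, h.sys.1 _ hl] at this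
    · intro s hs t ht hst i e
      simp only [T, mem_filter, mem_univ, true_and] at hs ht
      have hne := (s.2 i).1.symm
      obtain ⟨a, b, c⟩ := h.ln_spec (O.inj.ne hne)
      refine hst (Sum.inr_injective ((O.bijective h).1 (h.point_eq hl a (fun el => hext i (el ▸ b)) hs
        (((O.pt_spec h s).2 _ _ hne).mpr rfl) ht (((O.pt_spec h t).2 _ _ hne).mpr e.symm))))

theorem Plane.exists_oval (h : Plane L) : Nonempty (Oval L) := by
  have := h.arcs_six
  obtain ⟨H, hH⟩ := card_pos.mp (show 0 < (arcs L 6).card by omega)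
  simp only [arcs, mem_filter, mem_univ, true_and] at hH
  let e := (H.equivFinOfCardEq hH.1).symm
  have hr : univ.image (fun i => (e i : α)) = H := by
    ext x
    simp only [mem_image, mem_univ, true_and]
    exact ⟨fun ⟨i, hi⟩ => hi ▸ (e i).2, fun hx => ⟨e.symm ⟨x, hx⟩, by simp⟩⟩
  exact ⟨⟨fun i => (e i : α), fun i j hij => e.injective (Subtype.ext hij), hr.symm ▸ hH.2⟩⟩

end Cfsg.Agent.PlaneFour
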