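import Mathlib

/-!
A group acting on a plane over the field with `p` elements with non-normal Sylow `p`-subgroup and a
`p`-group as kernel contains a full split torus of determinant one normalizing a Sylow subgroup.
-/

set_option autoImplicit false

namespace Cfsg.Agent.PlaneTorus89

universe u v

variable {A : Type u} [Group A] {V : Type v} [Group V] {p : ℕ}

theorem apply_pow_of {φ : MulAut V} {v w : V} (hc : Commute w v) (hv : φ v = v) (hw : φ w = w * v)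
    (m : ℕ) : (φ ^ m) v = v ∧ (φ ^ m) w = w * v ^ m := by
  induction m with
  | zero => simp
  | succ m ih =>
    refine ⟨?_, ?_⟩
    · rw [pow_succ', MulAut.mul_apply, ih.1, hv]
    · rw [pow_succ', MulAut.mul_apply, ih.2, map_mul, map_pow, hv, hw, mul_assoc, pow_succ']

theorem apply_zpow_of {φ : MulAut V} {v w : V} (hc : Commute w v) (hv : φ v = v) (hw : φ w = w * v)
    (i : ℤ) : (φ ^ i) v = v ∧ (φ ^ i) w = w * v ^ i := by
  cases i with
  | ofNat m => simpa using apply_pow_of hc hv hw m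
  | negSucc m =>
    obtain ⟨h1, h2⟩ := apply_pow_of hc hv hw (m + 1)
    rw [zpow_negSucc, zpow_negSucc]
    have hiv : ((φ ^ (m + 1))⁻¹) v = v := by
      conv_lhs => rw [← h1]
      exact (φ ^ (m + 1)).symm_apply_apply v
    refine ⟨hiv, ?_⟩
    have : ((φ ^ (m + 1))⁻¹) (w * v ^ (m + 1)) = w := by
      rw [← h2]
      exact (φ ^ (m + 1)).symm_apply_apply w
    rw [map_mul, map_pow, hiv] at this
    exact eq_mul_inv_of_mul_eq this

/-- What is obtained. -/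
structure Data (ρ : A →* MulAut V) (p : ℕ) (T : Subgroup A) where
  v : V
  w : V
  a : A
  η : A
  c : ℤ
  μ : ℤ
  v_ne : v ≠ 1
  w_not : w ∉ Subgroup.zpowers v
  span : ∀ x : V, ∃ i j : ℤ, x = v ^ i * w ^ j
  aT : a ∈ T
  av : ρ a v = v
  aw : ρ a w = w * v
  ηv : ρ η v = v ^ c
  ηw : ρ η w = w ^ μ
  cμ : ((c * μ : ℤ) : ZMod p) = 1
  ord : orderOf ((c : ℤ) : ZMod p) = p - 1
  ηT : ∀ x ∈ T, η * x * η⁻¹ ∈ T
  memT : ∀ x : A, x ∈ T ↔ ρ x v = v ∧ ρ x w * w⁻¹ ∈ Subgroup.zpowers v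
  imgT : ∀ x ∈ T, ∃ i : ℤ, ρ x = ρ a ^ i
  normal_le : ∀ x ∈ T, (∀ α : A, α * x * α⁻¹ ∈ T) → ρ x = 1
  irred : ∀ W : Subgroup V, W ≠ ⊥ → (∀ α : A, ∀ u ∈ W, ρ α u ∈ W) → W = ⊤

theorem exists_data [Finite A] [hp : Fact p.Prime] (hp2 : p ≠ 2) (ρ : A →* MulAut V)
    (hV : Nat.card V = p ^ 2) (hexp : ∀ x : V, x ^ p = 1) (hcomm : ∀ x y : V, x * y = y * x)
    (hK : IsPGroup p ρ.ker) (T : Sylow p A) (hns : ¬ (T : Subgroup A).Normal) :
    Nonempty (Data ρ p (T : Subgroup A)) := by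
  classical
  haveI : Finite V := Nat.finite_of_card_ne_zero (by rw [hV]; exact pow_ne_zero _ hp.out.ne_zero)
  have hpZ : Prime (p : ℤ) := Nat.prime_iff_prime_int.mp hp.out
  have hexpZ : ∀ (x : V) (i j : ℤ), ((i : ℤ) : ZMod p) = (j : ZMod p) → x ^ i = x ^ j := by
    intro x i j h
    obtain ⟨k, hk⟩ := (ZMod.intCast_eq_intCast_iff_dvd_sub i j p).mp h
    rw [show j = i + (p : ℤ) * k by omega, zpow_add, zpow_mul, zpow_natCast, hexp, one_zpow,
      mul_one]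
  -- the Sylow subgroup moves something
  letI : MulAction (T : Subgroup A) V :=
    { smul := fun x u => ρ (x : A) u
      one_smul := fun u => by show ρ ((1 : (T : Subgroup A)) : A) u = u; simp
      mul_smul := fun x y u => by
        show ρ ((x * y : (T : Subgroup A)) : A) u = ρ (x : A) (ρ (y : A) u)
        simp }
  obtain ⟨v₀, hv₀, hne⟩ := T.2.exists_fixed_point_of_prime_dvd_card_of_fixed_point V
    (by rw [hV]; exact dvd_pow_self p two_ne_zero) (a := (1 : V))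
    (fun x => map_one (ρ (x : A)))
  have hfix : ∀ x ∈ (T : Subgroup A), ρ x v₀ = v₀ := fun x hx => hv₀ ⟨x, hx⟩
  have hv0 : v₀ ≠ 1 := fun h => hne h.symm
  have hordv : orderOf v₀ = p := orderOf_eq_prime (hexp v₀) hv0
  set L := Subgroup.zpowers v₀ with hLdef
  have hLcard : Nat.card L = p := by rw [hLdef, Nat.card_zpowers, hordv]
  haveI hLn : L.Normal := ⟨fun x hx y => by rwa [hcomm y x, mul_inv_cancel_right]⟩
  have hLi : L.index = p := by
    have := L.card_mul_index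
    rw [hLcard, hV, sq] at this
    exact Nat.eq_of_mul_eq_mul_left hp.out.pos this
  have hspan : ∀ w : V, w ∉ L → ∀ x : V, ∃ i j : ℤ, x = v₀ ^ i * w ^ j := by
    intro w hw x
    have hcy : IsCyclic (V ⧸ L) := isCyclic_of_prime_card (p := p) hLi
    have hwq : ((w : V) : V ⧸ L) ≠ 1 := fun h => hw ((QuotientGroup.eq_one_iff w).mp h)
    have htop := zpowers_eq_top_of_prime_card (G := V ⧸ L) (p := p) hLi hwq
    obtain ⟨j, hj⟩ := Subgroup.mem_zpowers_iff.mp (htop ▸ Subgroup.mem_top ((x : V) : V ⧸ L))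
    rw [← QuotientGroup.mk_zpow, QuotientGroup.eq] at hj
    obtain ⟨i, hi⟩ := Subgroup.mem_zpowers_iff.mp hj
    exact ⟨i, j, by rw [hcomm (v₀ ^ i), hi, mul_inv_cancel_left]⟩
  -- the stabilizer of the series
  let B : Subgroup A :=
    { carrier := {x | ρ x v₀ = v₀ ∧ ∀ u : V, ρ x u * u⁻¹ ∈ L}
      one_mem' := ⟨by simp, fun u => by simp⟩
      mul_mem' := fun {x y} hx hy => ⟨by rw [map_mul, MulAut.mul_apply, hy.1, hx.1], fun u => by
        have := L.mul_mem (hx.2 (ρ y u)) (hy.2 u)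
        rwa [mul_assoc, inv_mul_cancel_left, ← MulAut.mul_apply, ← map_mul] at this⟩
      inv_mem' := fun {x} hx => by
        have e : ∀ u, ρ x (ρ x⁻¹ u) = u := fun u => by
          rw [← MulAut.mul_apply, ← map_mul, mul_inv_cancel, map_one, MulAut.one_apply]
        have e' : ρ x⁻¹ v₀ = v₀ := by
          apply (ρ x).injective
          rw [e, hx.1]
        refine ⟨e', fun u => ?_⟩
        have h1 := L.inv_mem (hx.2 (ρ x⁻¹ u))
        rw [e, mul_inv_rev, inv_inv] at h1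
        exact h1 }
  have hTB : (T : Subgroup A) ≤ B := by
    intro x hx
    refine ⟨hfix x hx, fun u => ?_⟩
    -- a p-element fixes the quotient of order p
    by_cases hu : u ∈ L
    · obtain ⟨i, rfl⟩ := Subgroup.mem_zpowers_iff.mp hu
      rw [map_zpow, hfix x hx, mul_inv_cancel]
      exact L.one_mem
    obtain ⟨i, j, hij⟩ := hspan u hu (ρ x u)
    have hpow : ∀ n : ℕ, ∃ k : ℤ, ρ (x ^ n) u = v₀ ^ k * u ^ (j ^ n) := by
      intro n
      induction n with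
      | zero => exact ⟨0, by simp⟩
      | succ n ih =>
        obtain ⟨k, hk⟩ := ih
        refine ⟨k + i * j ^ n, ?_⟩
        rw [pow_succ', map_mul, MulAut.mul_apply, hk, map_mul, map_zpow, map_zpow, hfix x hx, hij,
          Commute.mul_zpow (hcomm _ _), ← zpow_mul, ← zpow_mul, ← mul_assoc, ← zpow_add, pow_succ']
    obtain ⟨k, hk⟩ := T.2 ⟨x, hx⟩
    have hk' : x ^ p ^ k = 1 := congrArg Subtype.val hk
    obtain ⟨m, hm⟩ := hpow (p ^ k)
    rw [hk', map_one, MulAut.one_apply] at hm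
    have hj : ((j : ℤ) : ZMod p) = 1 := by
      have h1 : u ^ (1 - j ^ p ^ k) ∈ L := by
        rw [zpow_sub, zpow_one]
        have e : u * (u ^ (j ^ p ^ k))⁻¹ = v₀ ^ m := by
          rw [mul_inv_eq_iff_eq_mul]; exact hm
        rw [e]
        exact L.zpow_mem (Subgroup.mem_zpowers v₀) m
      have h2 : (p : ℤ) ∣ 1 - j ^ p ^ k := by
        by_contra hd
        obtain ⟨a, b, hab⟩ := hpZ.coprime_iff_not_dvd.mpr hd
        apply hu
        rw [← zpow_one u, ← hab, zpow_add, mul_comm a, mul_comm b, zpow_mul, zpow_mul, zpow_natCast,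
          hexp, one_zpow, one_mul]
        exact L.zpow_mem h1 b
      have h3 := (ZMod.intCast_zmod_eq_zero_iff_dvd _ p).mpr h2
      push_cast at h3
      rw [ZMod.pow_card_pow, sub_eq_zero] at h3
      exact h3.symm
    rw [hij, hexpZ u j 1 (by simpa using hj), zpow_one, mul_inv_cancel_right]
    exact L.zpow_mem (Subgroup.mem_zpowers v₀) i
  have hBp : IsPGroup p B := by
    intro x
    have hpe : ρ ((x : A) ^ p) = 1 := by
      refine MulEquiv.ext fun u => ?_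
      obtain ⟨k, hk⟩ := Subgroup.mem_zpowers_iff.mp (x.2.2 u)
      have hu' : ρ (x : A) u = u * v₀ ^ k := by
        rw [hk, hcomm u, inv_mul_cancel_right]
      have : ∀ n : ℕ, ρ ((x : A) ^ n) u = u * (v₀ ^ k) ^ n := by
        intro n
        induction n with
        | zero => simp
        | succ n ih =>
          rw [pow_succ', map_mul, MulAut.mul_apply, ih, map_mul, map_pow, map_zpow, x.2.1, hu',
            mul_assoc, ← pow_succ']
      rw [this, hexp, mul_one, MulAut.one_apply]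
    obtain ⟨k, hk⟩ := hK ⟨(x : A) ^ p, hpe⟩
    refine ⟨k + 1, Subtype.ext ?_⟩
    have := congrArg Subtype.val hk
    simp only [SubmonoidClass.coe_pow, OneMemClass.coe_one] at this ⊢
    rw [pow_succ', pow_mul]
    exact this
  have hBT : B = (T : Subgroup A) := T.3 hBp hTB
  -- a conjugate outside
  obtain ⟨x₀, hx₀, g, hg⟩ : ∃ x ∈ (T : Subgroup A), ∃ g : A, g * x * g⁻¹ ∉ (T : Subgroup A) := by
    by_contra h
    push Not at h
    exact hns ⟨fun x hx g => h x hx g⟩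
  obtain ⟨w, hwdef⟩ : ∃ w, w = ρ g v₀ := ⟨_, rfl⟩
  have hwL : w ∉ L := by
    intro hw
    subst hwdef
    apply hg
    rw [← hBT]
    obtain ⟨i, hi⟩ := Subgroup.mem_zpowers_iff.mp hw
    have hinv : ∀ u ∈ L, ρ g u ∈ L := by
      intro u hu
      obtain ⟨j, rfl⟩ := Subgroup.mem_zpowers_iff.mp hu
      rw [map_zpow]
      exact L.zpow_mem hw j
    have e : ∀ u, ρ g (ρ g⁻¹ u) = u := fun u => by
      rw [← MulAut.mul_apply, ← map_mul, mul_inv_cancel, map_one, MulAut.one_apply]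
    have hinv' : ∀ u ∈ L, ρ g⁻¹ u ∈ L := by
      intro u hu
      haveI := Fintype.ofFinite L
      obtain ⟨⟨u', hu'⟩, he⟩ := Finite.surjective_of_injective
        (f := fun u : L => (⟨ρ g u, hinv u u.2⟩ : L))
        (fun a b h => Subtype.ext ((ρ g).injective (congrArg Subtype.val h))) ⟨u, hu⟩
      have : ρ g u' = u := congrArg Subtype.val he
      rw [← this, ← MulAut.mul_apply, ← map_mul, inv_mul_cancel, map_one, MulAut.one_apply]
      exact hu'
    refine ⟨?_, fun u => ?_⟩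
    · obtain ⟨j, hj⟩ := Subgroup.mem_zpowers_iff.mp (hinv' v₀ (Subgroup.mem_zpowers v₀))
      simp only [map_mul, MulAut.mul_apply]
      rw [← hj, map_zpow, hfix x₀ hx₀, hj, e]
    · have h1 := hinv _ ((hTB hx₀).2 (ρ g⁻¹ u))
      rw [map_mul (ρ g), map_inv (ρ g), e] at h1
      simpa only [map_mul, MulAut.mul_apply] using h1
  -- the two transvections
  obtain ⟨a₁, ha₁, ha₁w⟩ : ∃ a ∈ (T : Subgroup A), ρ a w ≠ w := by
    by_contra h
    push Not at h
    apply hg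
    have hker : ρ x₀ = 1 := MulEquiv.ext fun u => by
      obtain ⟨i, j, rfl⟩ := hspan w hwL u
      rw [map_mul, map_zpow, map_zpow, hfix x₀ hx₀, h x₀ hx₀, MulAut.one_apply]
    rw [← hBT]
    refine ⟨?_, fun u => ?_⟩ <;> simp [map_mul, hker]
  obtain ⟨r, hr⟩ := Subgroup.mem_zpowers_iff.mp ((hTB ha₁).2 w)
  have hrp : ¬ (p : ℤ) ∣ r := by
    rintro ⟨k, rfl⟩
    apply ha₁w
    rw [zpow_mul, zpow_natCast, hexp, one_zpow, eq_comm, mul_inv_eq_one] at hr
    exact hr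
  obtain ⟨v, hvdef⟩ : ∃ v, v = v₀ ^ r := ⟨_, rfl⟩
  have hvL : Subgroup.zpowers v = L := by
    refine le_antisymm (Subgroup.zpowers_le.mpr (hvdef ▸ L.zpow_mem (Subgroup.mem_zpowers v₀) r)) ?_
    obtain ⟨a, b, hab⟩ := hpZ.coprime_iff_not_dvd.mpr hrp
    refine Subgroup.zpowers_le.mpr (Subgroup.mem_zpowers_iff.mpr ⟨b, ?_⟩)
    rw [hvdef, ← zpow_mul]
    conv_rhs => rw [← zpow_one v₀, ← hab, zpow_add, mul_comm a, zpow_mul, zpow_natCast, hexp,
      one_zpow, one_mul]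
    rw [mul_comm]
  have hfixv : ∀ x ∈ (T : Subgroup A), ρ x v = v := fun x hx => by
    rw [hvdef, map_zpow, hfix x hx]
  have hcw : Commute w v := hcomm w v
  have ha1v : ρ a₁ v = v := hfixv a₁ ha₁
  have ha1w : ρ a₁ w = w * v := by rw [hcomm w, hvdef, hr, inv_mul_cancel_right]
  have hspan' : ∀ x : V, ∃ i j : ℤ, x = v ^ i * w ^ j := by
    intro x
    obtain ⟨i, j, rfl⟩ := hspan w hwL x
    obtain ⟨k, hk⟩ := Subgroup.mem_zpowers_iff.mp
      (hvL.ge (L.zpow_mem (Subgroup.mem_zpowers v₀) i))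
    exact ⟨k, j, by rw [hk]⟩
  have hspanw : ∀ x : V, ∃ i j : ℤ, x = v ^ i * w ^ j := hspan'
  -- the transvection fixing `w`
  set b₁ := g * a₁ * g⁻¹ with hb₁
  have einv : ρ g⁻¹ w = v₀ := by
    rw [hwdef, ← MulAut.mul_apply, ← map_mul, inv_mul_cancel, map_one, MulAut.one_apply]
  have hb1w : ρ b₁ w = w := by
    simp only [hb₁, map_mul, MulAut.mul_apply, einv, hfix a₁ ha₁]
    exact hwdef.symm
  obtain ⟨s, hs⟩ : ∃ s : ℤ, ρ b₁ v = v * w ^ s := by
    obtain ⟨k, hk⟩ := Subgroup.mem_zpowers_iff.mp ((hTB ha₁).2 (ρ g⁻¹ v))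
    refine ⟨k, ?_⟩
    have h0 : ρ a₁ (ρ g⁻¹ v) = v₀ ^ k * ρ g⁻¹ v := by rw [hk, inv_mul_cancel_right]
    have e : ρ g (ρ g⁻¹ v) = v := by
      rw [← MulAut.mul_apply, ← map_mul, mul_inv_cancel, map_one, MulAut.one_apply]
    calc ρ b₁ v = ρ g (ρ a₁ (ρ g⁻¹ v)) := by simp only [hb₁, map_mul, MulAut.mul_apply]
      _ = v * w ^ k := by rw [h0, map_mul (ρ g), map_zpow (ρ g), ← hwdef, e, hcomm]
  have hsp : ¬ (p : ℤ) ∣ s := by
    rintro ⟨k, rfl⟩
    rw [zpow_mul, zpow_natCast, hexp, one_zpow, mul_one] at hs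
    -- then `b₁` is trivial, so is `a₁`
    have hb : ρ b₁ = 1 := MulEquiv.ext fun u => by
      obtain ⟨i, j, rfl⟩ := hspan' u
      rw [map_mul, map_zpow, map_zpow, hs, hb1w, MulAut.one_apply]
    apply ha₁w
    have : ρ a₁ = 1 := by
      simp only [hb₁, map_mul, map_inv] at hb
      exact mul_left_cancel (a := ρ g) ((mul_inv_eq_one.mp hb).trans (mul_one _).symm)
    rw [this, MulAut.one_apply]
  obtain ⟨s', hs'⟩ : ∃ s' : ℤ, ((s * s' : ℤ) : ZMod p) = 1 := by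
    obtain ⟨a, b, hab⟩ := hpZ.coprime_iff_not_dvd.mpr hsp
    refine ⟨b, ?_⟩
    have := congrArg (fun z : ℤ => (z : ZMod p)) hab
    push_cast at this ⊢
    rw [ZMod.natCast_self, mul_zero, zero_add, mul_comm] at this
    exact this
  obtain ⟨b, hbdef⟩ : ∃ b, b = b₁ ^ s' := ⟨_, rfl⟩
  have hbv : ρ b v = v * w ∧ ρ b w = w := by
    have hs1 : ρ (b₁ ^ s') w = w ∧ ρ (b₁ ^ s') v = v * (w ^ s) ^ s' := by
      rw [map_zpow]
      have hwfix : ∀ i : ℤ, (ρ b₁ ^ i) w = w := fun i => by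
        refine (?_ : (ρ b₁ ^ i) • w = w)
        exact MulAction.mem_stabilizer_iff.mp
          (zpow_mem (show ρ b₁ ∈ MulAction.stabilizer (MulAut V) w from hb1w) i)
      refine ⟨hwfix s', ?_⟩
      exact (apply_zpow_of (φ := ρ b₁) (v := w ^ s) (w := v) (hcomm _ _)
        (by rw [map_zpow, hb1w]) hs s').2
    rw [hbdef]
    refine ⟨?_, hs1.1⟩
    rw [hs1.2, ← zpow_mul, hexpZ w (s * s') 1 (by simpa using hs'), zpow_one]
  have hai : ∀ i : ℤ, ρ (a₁ ^ i) v = v ∧ ρ (a₁ ^ i) w = w * v ^ i := fun i => by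
    rw [map_zpow]; exact apply_zpow_of hcw ha1v ha1w i
  have hbi : ∀ i : ℤ, ρ (b ^ i) w = w ∧ ρ (b ^ i) v = v * w ^ i := fun i => by
    rw [map_zpow]; exact apply_zpow_of hcw.symm hbv.2 hbv.1 i
  have hwd : ∀ c d : ℤ, ((c * d : ℤ) : ZMod p) = -1 →
      ρ (a₁ ^ c * b ^ d * a₁ ^ c) v = w ^ d ∧ ρ (a₁ ^ c * b ^ d * a₁ ^ c) w = v ^ c := by
    intro c d hcd
    have e1 : v ^ (c * d + 1) = 1 := by
      rw [hexpZ v (c * d + 1) 0 (by push_cast at hcd ⊢; rw [hcd, neg_add_cancel]), zpow_zero]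
    have e2 : w ^ (1 + d * c) = 1 := by
      rw [hexpZ w (1 + d * c) 0 (by push_cast at hcd ⊢; rw [mul_comm, hcd, add_neg_cancel]),
        zpow_zero]
    constructor
    · rw [map_mul, map_mul, MulAut.mul_apply, MulAut.mul_apply, (hai c).1, (hbi d).2,
        map_mul (ρ (a₁ ^ c)), map_zpow (ρ (a₁ ^ c)), (hai c).1, (hai c).2, Commute.mul_zpow (hcomm w (v ^ c)),
        ← zpow_mul, hcomm (w ^ d), ← mul_assoc, ← zpow_one_add, add_comm, e1, one_mul]
    · rw [map_mul, map_mul, MulAut.mul_apply, MulAut.mul_apply, (hai c).2,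
        map_mul (ρ (b ^ d)), map_zpow (ρ (b ^ d)), (hbi d).1, (hbi d).2, Commute.mul_zpow (hcomm v (w ^ d)),
        ← zpow_mul, hcomm (v ^ c), ← mul_assoc, ← zpow_one_add, e2, one_mul,
        map_zpow (ρ (a₁ ^ c)), (hai c).1]
  obtain ⟨u, hu⟩ := IsCyclic.exists_ofOrder_eq_natCard (α := (ZMod p)ˣ)
  obtain ⟨c, hc⟩ := ZMod.intCast_surjective (u : ZMod p)
  obtain ⟨d, hd⟩ := ZMod.intCast_surjective (-((u⁻¹ : (ZMod p)ˣ) : ZMod p))
  set η := a₁ ^ c * b ^ d * a₁ ^ c * (a₁ ^ (-1 : ℤ) * b ^ (1 : ℤ) * a₁ ^ (-1 : ℤ))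
  obtain ⟨h1, h2⟩ := hwd c d (by push_cast; rw [hc, hd, mul_neg, Units.mul_inv])
  obtain ⟨h3, h4⟩ := hwd (-1) 1 (by simp)
  have hηv : ρ η v = v ^ c := by rw [map_mul, MulAut.mul_apply, h3, map_zpow, h2, zpow_one]
  have hηw : ρ η w = w ^ (-d) := by
    rw [map_mul, MulAut.mul_apply, h4, map_zpow, h1, ← zpow_mul, mul_neg_one]
  have hmem : ∀ x : A, x ∈ (T : Subgroup A) ↔ ρ x v = v ∧ ρ x w * w⁻¹ ∈ Subgroup.zpowers v := by
    intro x
    refine ⟨fun hx => ⟨hfixv x hx, hvL.ge ((hTB hx).2 w)⟩, fun ⟨hxv, hxw⟩ => hBT ▸ ?_⟩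
    have hfixL : ∀ u ∈ L, ρ x u = u := by
      intro u hu
      obtain ⟨i, rfl⟩ := Subgroup.mem_zpowers_iff.mp (hvL.ge hu)
      rw [map_zpow, hxv]
    refine ⟨hfixL v₀ (Subgroup.mem_zpowers v₀), fun u => ?_⟩
    obtain ⟨i, j, rfl⟩ := hspan' u
    obtain ⟨k, hk⟩ := Subgroup.mem_zpowers_iff.mp hxw
    have hw' : ρ x w = v ^ k * w := by rw [hk, inv_mul_cancel_right]
    rw [map_mul, map_zpow, map_zpow, hxv, hw', Commute.mul_zpow (hcomm _ _), ← hvL]
    show v ^ i * ((v ^ k) ^ j * w ^ j) * (v ^ i * w ^ j)⁻¹ ∈ Subgroup.zpowers v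
    rw [show v ^ i * ((v ^ k) ^ j * w ^ j) * (v ^ i * w ^ j)⁻¹ = v ^ i * (v ^ k) ^ j * (v ^ i)⁻¹ by
      group]
    exact Subgroup.mul_mem _ (Subgroup.mul_mem _ (Subgroup.zpow_mem _ (Subgroup.mem_zpowers v) i)
      (Subgroup.zpow_mem _ (Subgroup.zpow_mem _ (Subgroup.mem_zpowers v) k) j))
      (Subgroup.inv_mem _ (Subgroup.zpow_mem _ (Subgroup.mem_zpowers v) i))
  refine ⟨⟨v, w, a₁, η, c, -d, ?_, fun h => hwL (hvL.le h), hspan', ha₁, ha1v, ha1w, hηv, hηw, ?_,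
    ?_, fun x hx => ?_, hmem, fun x hx => ?_, fun x hx hall => ?_, fun W hW hWinv => ?_⟩⟩
  · intro h
    rw [h, Subgroup.zpowers_one_eq_bot] at hvL
    exact hv0 ((Subgroup.mem_bot).mp (hvL ▸ Subgroup.mem_zpowers v₀))
  · push_cast
    rw [hc, hd, neg_neg, Units.mul_inv]
  · rw [hc, orderOf_units, hu, Nat.card_units, Nat.card_zmod]
  · obtain ⟨hxv, hxw⟩ := (hmem x).mp hx
    obtain ⟨k, hk⟩ := Subgroup.mem_zpowers_iff.mp hxw
    have hw' : ρ x w = v ^ k * w := by rw [hk, inv_mul_cancel_right]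
    have e : ∀ y, ρ η (ρ η⁻¹ y) = y := fun y => by
      rw [← MulAut.mul_apply, ← map_mul, mul_inv_cancel, map_one, MulAut.one_apply]
    obtain ⟨i, j, hij⟩ := hspan' (ρ η⁻¹ v)
    have hiv : ρ η⁻¹ v ∈ Subgroup.zpowers v := by
      have hμ : ((c * -d : ℤ) : ZMod p) = 1 := by
        push_cast; rw [hc, hd, neg_neg, Units.mul_inv]
      refine Subgroup.mem_zpowers_iff.mpr ⟨-d, (ρ η).injective ?_⟩
      rw [e, map_zpow, hηv, ← zpow_mul, hexpZ v _ 1 (by simpa using hμ), zpow_one]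
    refine (hmem _).mpr ⟨?_, ?_⟩
    · simp only [map_mul, MulAut.mul_apply]
      obtain ⟨i, hi⟩ := Subgroup.mem_zpowers_iff.mp hiv
      rw [← hi, map_zpow, hxv, hi, e]
    · simp only [map_mul, MulAut.mul_apply]
      obtain ⟨i, j, hij⟩ := hspan' (ρ η⁻¹ w)
      have hwe : v ^ i ≠ 1 → True := fun _ => trivial
      have hstep : ρ x (ρ η⁻¹ w) = (v ^ k) ^ j * ρ η⁻¹ w := by
        rw [hij, map_mul, map_zpow, map_zpow, hxv, hw', Commute.mul_zpow (hcomm _ _), ← mul_assoc,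
          hcomm (v ^ i), mul_assoc]
      rw [hstep, map_mul, e, mul_inv_cancel_right, map_zpow, map_zpow, hηv]
      exact Subgroup.zpow_mem _ (Subgroup.zpow_mem _
        (Subgroup.zpow_mem _ (Subgroup.mem_zpowers v) c) k) j
  · obtain ⟨hxv, hxw⟩ := (hmem x).mp hx
    obtain ⟨k, hk⟩ := Subgroup.mem_zpowers_iff.mp hxw
    refine ⟨k, MulEquiv.ext fun u => ?_⟩
    obtain ⟨i, j, rfl⟩ := hspan' u
    obtain ⟨q1, q2⟩ := apply_zpow_of hcw ha1v ha1w k
    rw [map_mul, map_mul, map_zpow, map_zpow, map_zpow, map_zpow, hxv, q1, q2, hcomm w, hk,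
      inv_mul_cancel_right]
  · obtain ⟨hxv, hxw⟩ := (hmem x).mp hx
    have h5 := hall b
    have hxw' : ρ x w = w := by
      obtain ⟨k, hk⟩ := Subgroup.mem_zpowers_iff.mp hxw
      obtain ⟨k', hk'⟩ := Subgroup.mem_zpowers_iff.mp
        ((hmem (g⁻¹ * x * g⁻¹⁻¹)).mp (hall g⁻¹)).2
      have h6 : ρ x (ρ g v) = ρ g v := by
        have h7 := ((hmem (g⁻¹ * x * g⁻¹⁻¹)).mp (hall g⁻¹)).1
        simp only [map_mul, inv_inv, MulAut.mul_apply] at h7
        have := congrArg (ρ g) h7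
        rwa [← MulAut.mul_apply, ← map_mul, mul_inv_cancel, map_one,
          MulAut.one_apply] at this
      obtain ⟨i, hi⟩ := Subgroup.mem_zpowers_iff.mp (hvL.ge (Subgroup.mem_zpowers v₀))
      rw [hwdef, ← hi, map_zpow, map_zpow, h6]
    refine MulEquiv.ext fun u => ?_
    obtain ⟨i, j, rfl⟩ := hspan' u
    rw [map_mul, map_zpow, map_zpow, hxv, hxw', MulAut.one_apply]
  · obtain ⟨x, hx, hx1⟩ := (Subgroup.ne_bot_iff_exists_ne_one).mp hW |>.elim
      fun x hx => (⟨x.1, x.2, fun h => hx (Subtype.ext h)⟩ : ∃ y ∈ W, y ≠ 1)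
    have hvW : v ∈ W := by
      obtain ⟨i, j, rfl⟩ := hspan' x
      by_cases hj : (p : ℤ) ∣ j
      · obtain ⟨k, rfl⟩ := hj
        rw [zpow_mul w, zpow_natCast, hexp, one_zpow, mul_one] at hx hx1
        have hi : ¬ (p : ℤ) ∣ i := by
          rintro ⟨l, rfl⟩
          rw [zpow_mul, zpow_natCast, hexp, one_zpow] at hx1
          exact hx1 rfl
        obtain ⟨m, n, hmn⟩ := hpZ.coprime_iff_not_dvd.mpr hi
        rw [← zpow_one v, ← hmn, zpow_add, mul_comm m, mul_comm n, zpow_mul, zpow_mul, zpow_natCast,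
          hexp, one_zpow, one_mul]
        exact W.zpow_mem hx n
      · obtain ⟨m, n, hmn⟩ := hpZ.coprime_iff_not_dvd.mpr hj
        have h6 := W.mul_mem (hWinv a₁ _ hx) (W.inv_mem hx)
        rw [map_mul, map_zpow, map_zpow, ha1v, ha1w, Commute.mul_zpow hcw] at h6
        rw [show v ^ i * (w ^ j * v ^ j) * (v ^ i * w ^ j)⁻¹ = v ^ j by
          rw [hcomm (w ^ j) (v ^ j)]
          rw [mul_inv_rev, ← mul_assoc (v ^ i), mul_assoc (v ^ i * v ^ j), mul_inv_cancel_left,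
            mul_assoc, hcomm (v ^ j), mul_inv_cancel_left]] at h6
        rw [← zpow_one v, ← hmn, zpow_add, mul_comm m, mul_comm n, zpow_mul, zpow_mul, zpow_natCast,
          hexp, one_zpow, one_mul]
        exact W.zpow_mem h6 n
    have hwW : w ∈ W := by
      have h6 := W.mul_mem (W.inv_mem hvW) (hWinv b _ hvW)
      rwa [hbv.1, inv_mul_cancel_left] at h6
    rw [eq_top_iff]
    intro y _
    obtain ⟨i, j, rfl⟩ := hspan' y
    exact W.mul_mem (W.zpow_mem hvW i) (W.zpow_mem hwW j)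

end Cfsg.Agent.PlaneTorus89
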