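import Cfsg.Agent.Lib.SteinerTwoPointAut70

/-!
The graph on a point, the points and the blocks of an S(3,6,22): transport and automorphisms.
-/

set_option autoImplicit false

namespace Cfsg.Agent.PointBlockGraph70

open Cfsg Finset
open scoped Pointwise

variable {α β : Type*} {B : Set (Finset α)}

theorem adj_none_inl (a : α) : (pointBlockGraph B).Adj none (some (Sum.inl a)) := by
  simp [pointBlockGraph, pointBlockRel]

theorem not_adj_none_inr (b : B) : ¬ (pointBlockGraph B).Adj none (some (Sum.inr b)) := by
  simp [pointBlockGraph, pointBlockRel]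

theorem not_adj_inl_inl (a c : α) :
    ¬ (pointBlockGraph B).Adj (some (Sum.inl a)) (some (Sum.inl c)) := by
  simp [pointBlockGraph, pointBlockRel]

theorem adj_inl_inr {a : α} {b : B} :
    (pointBlockGraph B).Adj (some (Sum.inl a)) (some (Sum.inr b)) ↔ a ∈ (b : Finset α) := by
  simp [pointBlockGraph, pointBlockRel]

theorem adj_inr_inr {b c : B} :
    (pointBlockGraph B).Adj (some (Sum.inr b)) (some (Sum.inr c)) ↔
      b ≠ c ∧ Disjoint (b : Finset α) (c : Finset α) := by
  simp [pointBlockGraph, pointBlockRel, disjoint_comm]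

theorem adj_none_iff {v : Option (α ⊕ B)} :
    (pointBlockGraph B).Adj none v ↔ ∃ a, v = some (Sum.inl a) := by
  rcases v with _ | (a | b)
  · simp [pointBlockGraph]
  · simp [adj_none_inl]
  · simp [not_adj_none_inr]

/-- The bijection of the vertices induced by a map of systems. -/
noncomputable def liftEquiv [DecidableEq β] {B' : Set (Finset β)} (e : α ≃ β) (h : (fun b => b.image e) '' B = B') :
    Option (α ⊕ B) ≃ Option (β ⊕ B') :=
  Equiv.optionCongr (Equiv.sumCongr e
    ((Equiv.Set.image (fun b => b.image e) B (Finset.image_injective e.injective)).trans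
      (Equiv.setCongr h)))

theorem liftEquiv_inl [DecidableEq β] {B' : Set (Finset β)} (e : α ≃ β)
    (h : (fun b => b.image e) '' B = B') (a : α) :
    liftEquiv e h (some (Sum.inl a)) = some (Sum.inl (e a)) := rfl

/-- An isomorphism of systems gives one of graphs. -/
noncomputable def liftIso [DecidableEq β] {B' : Set (Finset β)} (e : α ≃ β)
    (h : (fun b => b.image e) '' B = B') : pointBlockGraph B ≃g pointBlockGraph B' where
  toEquiv := liftEquiv e h
  map_rel_iff' := by
    intro u v
    have hd : ∀ b c : Finset α, Disjoint (b.image e) (c.image e) ↔ Disjoint b c := fun b c =>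
      Finset.disjoint_image e.injective
    have key : ∀ b : B, liftEquiv e h (some (Sum.inr b)) =
        some (Sum.inr ⟨(b : Finset α).image e, h ▸ Set.mem_image_of_mem _ b.2⟩) := fun b => rfl
    have kn : liftEquiv e h none = none := rfl
    rcases u with _ | (a | b) <;> rcases v with _ | (c | d) <;>
      simp [pointBlockGraph, pointBlockRel, key, kn, liftEquiv_inl, hd, Subtype.ext_iff,
        (Finset.image_injective e.injective).eq_iff]

theorem liftIso_none [DecidableEq β] {B' : Set (Finset β)} (e : α ≃ β)
    (h : (fun b => b.image e) '' B = B') : liftIso e h none = none := rfl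

theorem liftIso_inl [DecidableEq β] {B' : Set (Finset β)} (e : α ≃ β)
    (h : (fun b => b.image e) '' B = B') (a : α) :
    liftIso e h (some (Sum.inl a)) = some (Sum.inl (e a)) := rfl

variable [Fintype α] [DecidableEq α]

theorem card_blocks (hv : Fintype.card α = 22) (hB : IsSteinerSystem 3 6 B) : Nat.card B = 77 := by
  classical
  have := (SteinerTwoPoint70.meet22 (B := (Set.toFinite B).toFinset) (by simpa using hB) hv ∅).2
  rwa [Nat.card_coe_set_eq, Set.ncard_eq_toFinset_card B (Set.toFinite B)]

theorem card_vertices (hv : Fintype.card α = 22) (hB : IsSteinerSystem 3 6 B) :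
    Nat.card (Option (α ⊕ B)) = 100 := by
  rw [Finite.card_option, Nat.card_sum, Nat.card_eq_fintype_card, hv, card_blocks hv hB]

/-- The graph automorphisms fixing the extra vertex. -/
def stabNone (B : Set (Finset α)) : Subgroup (pointBlockGraph B ≃g pointBlockGraph B) where
  carrier := {f | f none = none}
  one_mem' := rfl
  mul_mem' := fun {f g} hf hg => by
    show f (g none) = none
    rw [show g none = none from hg]
    exact hf
  inv_mem' := fun {f} hf => by
    show f.symm none = none
    conv_lhs => rw [← show f none = none from hf]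
    exact f.symm_apply_apply none

/-- A symmetry of the system as a graph automorphism. -/
noncomputable def ofAut {g : Equiv.Perm α} (hg : g ∈ setSystemAut B) :
    pointBlockGraph B ≃g pointBlockGraph B :=
  liftIso g (MulAction.mem_stabilizer_iff.1 hg)

theorem card_stabNone (hv : Fintype.card α = 22) (hB : IsSteinerSystem 3 6 B) :
    Nat.card (stabNone B) = 887040 := by
  rw [← (SteinerTwoPointAut70.aut22 hv hB).1]
  refine (Nat.card_congr (Equiv.ofBijective
    (fun g : setSystemAut B => (⟨ofAut g.2, liftIso_none _ _⟩ : stabNone B)) ⟨?_, ?_⟩)).symm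
  · intro g h he
    refine Subtype.ext (Equiv.ext fun a => ?_)
    have h1 := congrArg (fun f : stabNone B => f.1 (some (Sum.inl a))) he
    simpa [ofAut, liftIso_inl] using h1
  · rintro ⟨f, hf⟩
    have hf0 : f none = none := hf
    have hpt : ∀ a, ∃ c, f (some (Sum.inl a)) = some (Sum.inl c) := fun a => by
      have := f.map_rel_iff.2 (adj_none_inl (B := B) a)
      rw [hf0] at this
      exact adj_none_iff.1 this
    choose g hg using hpt
    have hinj : Function.Injective g := fun a b h => by
      simpa using f.injective ((hg a).trans ((congrArg (fun c => some (Sum.inl c)) h).trans (hg b).symm))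
    let γ : Equiv.Perm α := Equiv.ofBijective g (Finite.injective_iff_bijective.1 hinj)
    have hblk : ∀ b : B, ∃ c : B, f (some (Sum.inr b)) = some (Sum.inr c) ∧
        (b : Finset α).image g = (c : Finset α) := by
      intro b
      rcases h : f (some (Sum.inr b)) with _ | (c | c)
      · rw [← hf0] at h; simpa using f.injective h
      · obtain ⟨a, rfl⟩ := (Finite.injective_iff_bijective.1 hinj).2 c
        rw [← hg a] at h; simpa using f.injective h
      · refine ⟨c, rfl, ext fun x => ?_⟩
        obtain ⟨a, rfl⟩ := (Finite.injective_iff_bijective.1 hinj).2 x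
        rw [hinj.mem_finset_image, ← adj_inl_inr, ← adj_inl_inr, ← hg a, ← h]
        exact f.map_rel_iff.symm
    have hγ : γ ∈ setSystemAut B := by
      refine MulAction.mem_stabilizer_iff.2 (Set.eq_of_subset_of_ncard_le ?_
        (by rw [Set.ncard_smul_set]) (Set.toFinite _))
      rintro _ ⟨b, hb, rfl⟩
      obtain ⟨c, -, hc⟩ := hblk ⟨b, hb⟩
      show b.image g ∈ B
      rw [show b.image g = c from hc]
      exact c.2
    refine ⟨⟨γ, hγ⟩, Subtype.ext (RelIso.ext fun v => ?_)⟩
    rcases v with _ | (a | b)
    · exact hf0.symm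
    · exact (hg a).symm
    · obtain ⟨c, hc1, hc2⟩ := hblk b
      rw [hc1]
      exact congrArg (fun x => some (Sum.inr x)) (Subtype.ext hc2)

theorem point_moves (hv : Fintype.card α = 22) (hB : IsSteinerSystem 3 6 B) (a c : α) :
    ∃ f ∈ stabNone B, f (some (Sum.inl a)) = some (Sum.inl c) := by
  have h := (SteinerTwoPointAut70.aut22 hv hB).2.1
  have : MulAction.IsPretransitive (setSystemAut B) α :=
    MulAction.is_one_pretransitive_iff.1
      (MulAction.isMultiplyPretransitive_of_le (n := 3) (by norm_num) (by simp [hv]))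
  obtain ⟨g, hg⟩ := MulAction.exists_smul_eq (setSystemAut B) a c
  refine ⟨ofAut g.2, liftIso_none _ _, ?_⟩
  rw [ofAut, liftIso_inl, ← hg]
  rfl

theorem block_moves (hv : Fintype.card α = 22) (hB : IsSteinerSystem 3 6 B) (b c : B) :
    ∃ f ∈ stabNone B, f (some (Sum.inr b)) = some (Sum.inr c) := by
  have h := (SteinerTwoPointAut70.aut22 hv hB).2.1
  rw [MulAction.isMultiplyPretransitive_iff] at h
  have emb : ∀ d : B, ∃ x : Fin 3 ↪ α, ∀ i, x i ∈ (d : Finset α) := fun d => by
    obtain ⟨x⟩ : Nonempty (Fin 3 ↪ (d : Finset α)) := Function.Embedding.nonempty_of_card_le (by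
      rw [Fintype.card_fin, Fintype.card_coe, hB.1 _ d.2]; norm_num)
    exact ⟨x.trans (Function.Embedding.subtype _), fun i => (x i).2⟩
  obtain ⟨x, hx⟩ := emb b
  obtain ⟨y, hy⟩ := emb c
  obtain ⟨g, hg⟩ := h (x := x) (y := y)
  refine ⟨ofAut g.2, liftIso_none _ _, ?_⟩
  refine congrArg (fun d => some (Sum.inr d)) (Subtype.ext ?_)
  show (b : Finset α).image g.1 = c
  obtain ⟨d, hd, hu⟩ := hB.2 (univ.map y) (by rw [card_map, card_univ, Fintype.card_fin])
  rw [hu c ⟨c.2, fun z hz => by obtain ⟨i, -, rfl⟩ := mem_map.1 hz; exact hy i⟩]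
  refine hu _ ⟨(MulAction.mem_stabilizer_iff.1 g.2).subset (Set.smul_mem_smul_set b.2), fun z hz => ?_⟩
  obtain ⟨i, -, rfl⟩ := mem_map.1 hz
  rw [← hg]
  exact mem_image.2 ⟨x i, hx i, rfl⟩

theorem transitive (hv : Fintype.card α = 22) (hB : IsSteinerSystem 3 6 B)
    {f0 : pointBlockGraph B ≃g pointBlockGraph B} (hf0 : f0 none ≠ none) (v : Option (α ⊕ B)) :
    ∃ f : pointBlockGraph B ≃g pointBlockGraph B, f none = v := by
  classical
  let O : Option (α ⊕ B) → Prop := fun v => ∃ f : pointBlockGraph B ≃g pointBlockGraph B, f none = v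
  have hO : ∀ {v} (f : pointBlockGraph B ≃g pointBlockGraph B), O v → O (f v) := by
    rintro _ f ⟨g, rfl⟩
    exact ⟨f * g, rfl⟩
  have hpt : ∀ a, O (some (Sum.inl a)) → ∀ c, O (some (Sum.inl c)) := fun a h c => by
    obtain ⟨f, -, hf⟩ := point_moves hv hB a c
    exact hf ▸ hO f h
  have hbl : ∀ b, O (some (Sum.inr b)) → ∀ c, O (some (Sum.inr c)) := fun b h c => by
    obtain ⟨f, -, hf⟩ := block_moves hv hB b c
    exact hf ▸ hO f h
  have hP : ∃ a, O (some (Sum.inl a)) := by
    by_contra hno
    obtain ⟨b, hb⟩ : ∃ b, f0 none = some (Sum.inr b) := by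
      rcases h : f0 none with _ | (a | b)
      · exact absurd h hf0
      · exact absurd ⟨f0, h⟩ (fun h' => hno ⟨a, h'⟩)
      · exact ⟨b, rfl⟩
    have hinv : ∀ a, ∃ c, f0 (some (Sum.inl a)) = some (Sum.inl c) := fun a => by
      rcases h : f0 (some (Sum.inl a)) with _ | (c | c)
      · have h2 := hO f0.symm (v := f0 (some (Sum.inl a))) (h ▸ ⟨1, rfl⟩)
        rw [f0.symm_apply_apply] at h2
        exact absurd ⟨a, h2⟩ hno
      · exact ⟨c, rfl⟩
      · have h2 := hO f0.symm (v := f0 (some (Sum.inl a))) (h ▸ hbl b ⟨f0, hb⟩ c)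
        rw [f0.symm_apply_apply] at h2
        exact absurd ⟨a, h2⟩ hno
    choose g hg using hinv
    have hinj : Function.Injective g := fun a c h => by
      simpa using f0.injective ((hg a).trans ((congrArg (fun x => some (Sum.inl x)) h).trans (hg c).symm))
    have hall : (univ : Finset α) ⊆ (b : Finset α) := fun x _ => by
      obtain ⟨a, rfl⟩ := (Finite.injective_iff_bijective.1 hinj).2 x
      have := f0.map_rel_iff.2 (adj_none_inl (B := B) a)
      rw [hb, hg a] at this
      exact adj_inl_inr.1 this.symm
    have := card_le_card hall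
    rw [card_univ, hv, hB.1 _ b.2] at this
    omega
  obtain ⟨a, ha⟩ := hP
  have hb : ∃ b, O (some (Sum.inr b)) := by
    by_contra hno
    obtain ⟨f, hf⟩ := ha
    obtain ⟨a1, a2, h12⟩ := Fintype.exists_pair_of_one_lt_card (show 1 < Fintype.card α by omega)
    have himg : ∀ c, f (some (Sum.inl c)) = none := fun c => by
      have hadj := f.map_rel_iff.2 (adj_none_inl (B := B) c)
      rw [hf] at hadj
      have hOc := hO f (hpt a ⟨f, hf⟩ c)
      rcases h : f (some (Sum.inl c)) with _ | (d | d)
      · rfl
      · rw [h] at hadj; exact absurd hadj (not_adj_inl_inl a d)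
      · rw [h] at hOc; exact absurd ⟨d, hOc⟩ hno
    exact h12 (by simpa using f.injective ((himg a1).trans (himg a2).symm))
  obtain ⟨b, hb⟩ := hb
  rcases v with _ | (c | c)
  · exact ⟨1, rfl⟩
  · exact hpt a ha c
  · exact hbl b hb c

theorem card_aut (hv : Fintype.card α = 22) (hB : IsSteinerSystem 3 6 B)
    {f0 : pointBlockGraph B ≃g pointBlockGraph B} (hf0 : f0 none ≠ none) :
    Nat.card (pointBlockGraph B ≃g pointBlockGraph B) = 88704000 := by
  choose t ht using transitive hv hB hf0
  have e : (pointBlockGraph B ≃g pointBlockGraph B) ≃ Option (α ⊕ B) × stabNone B :=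
    { toFun := fun f => (f none, ⟨(t (f none))⁻¹ * f, by
        show (t (f none)).symm (f none) = none
        conv_lhs => arg 2; rw [← ht (f none)]
        exact (t (f none)).symm_apply_apply none⟩)
      invFun := fun p => t p.1 * p.2.1
      left_inv := fun f => mul_inv_cancel_left _ _
      right_inv := fun p => by
        have h1 : (t p.1 * p.2.1) none = p.1 := by
          show t p.1 (p.2.1 none) = p.1
          rw [show p.2.1 none = none from p.2.2, ht]
        refine Prod.ext h1 (Subtype.ext ?_)
        show (t ((t p.1 * p.2.1) none))⁻¹ * (t p.1 * p.2.1) = p.2.1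
        rw [h1, inv_mul_cancel_left] }
  rw [Nat.card_congr e, Nat.card_prod, card_vertices hv hB, card_stabNone hv hB]

end Cfsg.Agent.PointBlockGraph70
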