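import Mathlib
import Cfsg.Agent.Lib.SymplecticIsotropic

/-!
The number of ordered pairs of complementary totally isotropic `d`-subspaces of a symplectic
`2d`-space is `∏ (q ^ j + 1)` times a power of `q`.
-/

set_option autoImplicit false

open Matrix

namespace Cfsg.Agent.PolarPairs

open Cfsg.Agent.SymplecticBasic Cfsg.Agent.SymplecticIsotropic

variable {F : Type*} [Field F] {d : ℕ}

local notation "V" => (Fin d ⊕ Fin d → F)

/-- totally isotropic -/
def Iso (U : Submodule F (Fin d ⊕ Fin d → F)) : Prop :=
  ∀ u ∈ U, ∀ v ∈ U, sympForm d F u v = 0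

theorem finrank_le {U : Submodule F V} (h : Iso U) : Module.finrank F U ≤ d := by
  have h1 : U ≤ (bil (F := F) (m := d)).orthogonal U := fun u hu v hv => h v hv u hu
  have h2 := LinearMap.BilinForm.finrank_orthogonal (B := bil (F := F) (m := d)) bil_nondeg U
  rw [finrank_space] at h2
  have h3 := Submodule.finrank_mono h1
  omega

theorem finrank_eq {U W : Submodule F V} (hc : IsCompl U W) (hU : Iso U) (hW : Iso W) :
    Module.finrank F U = d ∧ Module.finrank F W = d := by
  have h := Submodule.finrank_add_eq_of_isCompl hc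
  rw [finrank_space] at h
  have := finrank_le hU
  have := finrank_le hW
  omega

/-- The span of the first half of the standard basis. -/
def std (F : Type*) [Field F] (d : ℕ) : Submodule F (Fin d ⊕ Fin d → F) :=
  LinearMap.ker (LinearMap.funLeft F F (Sum.inr : Fin d → Fin d ⊕ Fin d))

theorem mem_std {v : V} : v ∈ std F d ↔ ∀ i, v (Sum.inr i) = 0 := by
  rw [std, LinearMap.mem_ker, funext_iff]; rfl

theorem std_iso : Iso (std F d) := fun u hu v hv => by
  rw [form_eq_sum]
  exact Finset.sum_eq_zero fun i _ => by rw [mem_std.1 hu, mem_std.1 hv]; ring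

theorem form_elim (a b a' b' : Fin d → F) :
    sympForm d F (Sum.elim a b) (Sum.elim a' b') = b ⬝ᵥ a' - a ⬝ᵥ b' := by
  rw [form_eq_sum, dotProduct, dotProduct, ← Finset.sum_sub_distrib]
  rfl

/-- Symmetric matrices. -/
def symMat (F : Type*) [Field F] (d : ℕ) : Submodule F (Matrix (Fin d) (Fin d) F) where
  carrier := {S | Sᵀ = S}
  add_mem' {a b} ha hb := by simp only [Set.mem_ofPred_eq] at *; rw [transpose_add, ha, hb]
  zero_mem' := transpose_zero
  smul_mem' c a ha := by simp only [Set.mem_ofPred_eq] at *; rw [transpose_smul, ha]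

/-- The graph of a matrix. -/
def graph (S : Matrix (Fin d) (Fin d) F) : Submodule F (Fin d ⊕ Fin d → F) where
  carrier := {v | (fun i => v (Sum.inl i)) = S *ᵥ fun i => v (Sum.inr i)}
  add_mem' {a b} ha hb := by
    simp only [Set.mem_ofPred_eq] at *
    calc (fun i => (a + b) (Sum.inl i))
        = (fun i => a (Sum.inl i)) + fun i => b (Sum.inl i) := rfl
      _ = S *ᵥ ((fun i => a (Sum.inr i)) + fun i => b (Sum.inr i)) := by rw [ha, hb, mulVec_add]
      _ = _ := rfl
  zero_mem' := by
    show (0 : Fin d → F) = S *ᵥ (0 : Fin d → F)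
    rw [mulVec_zero]
  smul_mem' c a ha := by
    simp only [Set.mem_ofPred_eq] at *
    calc (fun i => (c • a) (Sum.inl i))
        = c • (fun i => a (Sum.inl i)) := rfl
      _ = S *ᵥ (c • fun i => a (Sum.inr i)) := by rw [ha, mulVec_smul]
      _ = _ := rfl

theorem mem_graph {S : Matrix (Fin d) (Fin d) F} {v : V} :
    v ∈ graph S ↔ v = Sum.elim (S *ᵥ fun i => v (Sum.inr i)) (fun i => v (Sum.inr i)) := by
  constructor
  · intro h
    funext i
    rcases i with i | i
    · exact congrFun h i
    · rfl
  · intro h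
    exact funext fun i => congrFun h (Sum.inl i)

theorem elim_mem_graph (S : Matrix (Fin d) (Fin d) F) (y : Fin d → F) :
    Sum.elim (S *ᵥ y) y ∈ graph S := mem_graph.2 rfl

/-- The isotropic complements of a subspace. -/
abbrev Comp (U : Submodule F (Fin d ⊕ Fin d → F)) : Type _ :=
  {W : Submodule F (Fin d ⊕ Fin d → F) // IsCompl U W ∧ Iso W}

theorem card_comp_std [Fintype F] :
    ∃ N, Nat.card (Comp (std F d)) = Fintype.card F ^ N := by
  classical
  let Φ : symMat F d → Comp (std F d) := fun S => ⟨graph S.1, ⟨by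
    rw [Submodule.disjoint_def]
    intro v h0 hv
    rw [mem_graph.1 hv]
    have : (fun i => v (Sum.inr i)) = 0 := funext (mem_std.1 h0)
    rw [this, mulVec_zero]
    exact funext fun i => by rcases i with i | i <;> rfl, by
    rw [Submodule.codisjoint_iff_exists_add_eq]
    intro v
    refine ⟨v - Sum.elim (S.1 *ᵥ fun i => v (Sum.inr i)) (fun i => v (Sum.inr i)),
      Sum.elim (S.1 *ᵥ fun i => v (Sum.inr i)) (fun i => v (Sum.inr i)),
      mem_std.2 fun i => by simp, elim_mem_graph _ _, sub_add_cancel _ _⟩⟩, by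
    intro u hu v hv
    rw [mem_graph.1 hu, mem_graph.1 hv, form_elim, dotProduct_mulVec, ← mulVec_transpose, S.2]
    exact sub_self _⟩
  have hΦ : Function.Bijective Φ := by
    constructor
    · intro S T h
      refine Subtype.ext (Matrix.ext_of_mulVec_single fun i => ?_)
      have h1 : Sum.elim (S.1 *ᵥ Pi.single i 1) (Pi.single i 1) ∈ graph T.1 :=
        by
        rw [← show graph S.1 = graph T.1 from congrArg Subtype.val h]; exact elim_mem_graph _ _
      exact funext fun j => congrFun (mem_graph.1 h1) (Sum.inl j)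
    · rintro ⟨W, hc, hiso⟩
      let pr : W →ₗ[F] (Fin d → F) :=
        (LinearMap.funLeft F F (Sum.inr : Fin d → Fin d ⊕ Fin d)).comp W.subtype
      have hpr : Function.Bijective pr := by
        refine ⟨(injective_iff_map_eq_zero _).2 fun w hw => Subtype.ext ?_, fun y => ?_⟩
        · exact Submodule.disjoint_def.1 hc.disjoint _ (LinearMap.mem_ker.2 hw) w.2
        · obtain ⟨u, w, hu, hw, huw⟩ :=
            Submodule.codisjoint_iff_exists_add_eq.1 hc.codisjoint (Sum.elim 0 y)
          refine ⟨⟨w, hw⟩, funext fun i => ?_⟩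
          have := congrFun huw (Sum.inr i)
          simp only [Pi.add_apply, mem_std.1 hu, zero_add, Sum.elim_inr] at this
          exact this
      let L := (LinearEquiv.ofBijective pr hpr).symm
      let S : Matrix (Fin d) (Fin d) F := LinearMap.toMatrix'
        (((LinearMap.funLeft F F (Sum.inl : Fin d → Fin d ⊕ Fin d)).comp W.subtype).comp L.toLinearMap)
      have hL : ∀ y, (L y : V) = Sum.elim (S *ᵥ y) y := fun y => by
        funext i
        rcases i with i | i
        · rw [← Matrix.toLin'_apply, Matrix.toLin'_toMatrix']; rfl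
        · exact congrFun ((LinearEquiv.ofBijective pr hpr).apply_symm_apply y) i
      have hS : Sᵀ = S := by
        ext i j
        have := hiso _ (L (Pi.single i 1)).2 _ (L (Pi.single j 1)).2
        rw [hL, hL, form_elim, sub_eq_zero, single_one_dotProduct, dotProduct_single_one,
          mulVec_single_one, mulVec_single_one] at this
        exact this.symm
      refine ⟨⟨S, hS⟩, Subtype.ext (le_antisymm (fun v hv => ?_) fun w hw => ?_)⟩
      · rw [mem_graph.1 hv, ← hL]; exact (L _).2
      · obtain ⟨y, hy⟩ := L.surjective ⟨w, hw⟩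
        have : w = (L y : V) := by rw [hy]
        rw [this, hL]
        exact elim_mem_graph _ _
  exact ⟨Module.finrank F (symMat F d), by
    rw [← Nat.card_eq_of_bijective Φ hΦ, Module.natCard_eq_pow_finrank (K := F),
      Nat.card_eq_fintype_card]⟩

theorem card_comp [Fintype F] {U : Submodule F V} (hU : Module.finrank F U = d) (hUi : Iso U) :
    Nat.card (Comp U) = Nat.card (Comp (std F d)) := by
  let φ : Fin d → V := fun i => Pi.single (Sum.inl i) 1
  have hφ : φ ∈ frames F d d := by
    refine ⟨(Pi.linearIndependent_single_one _ F).comp _ Sum.inl_injective, fun i j => ?_⟩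
    exact std_iso _ (mem_std.2 fun k => by simp [φ]) _ (mem_std.2 fun k => by simp [φ])
  let b := Module.finBasisOfFinrankEq F U hU
  have hψ : (fun i => (b i : V)) ∈ frames F d d :=
    ⟨b.linearIndependent.map' U.subtype U.ker_subtype, fun i j => hUi _ (b i).2 _ (b j).2⟩
  obtain ⟨g, hg⟩ := exists_map_frame hφ hψ
  let e : V ≃ₗ[F] V := LinearEquiv.ofBijective (Matrix.toLin' g.1)
    ⟨fun x y h => MulAction.injective g h, fun y => ⟨g⁻¹ • y, smul_inv_smul g y⟩⟩
  have he : ∀ v, e v = g • v := fun v => rfl
  have hform : ∀ u v, sympForm d F (e u) (e v) = sympForm d F u v := fun u v => form_map g u v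
  have hmap : (std F d).map e.toLinearMap = U := by
    refine (Submodule.eq_of_le_of_finrank_le ?_ ?_).symm
    · intro u hu
      rw [← Submodule.coe_mk u hu, ← b.sum_repr ⟨u, hu⟩, AddSubmonoidClass.coe_finsetSum]
      refine Submodule.sum_mem _ fun i _ => ?_
      rw [SetLike.val_smul]
      exact Submodule.smul_mem _ _ ⟨φ i, mem_std.2 fun k => by simp [φ], hg i⟩
    · rw [LinearEquiv.finrank_map_eq, hU]
      exact finrank_le std_iso
  let o := Submodule.orderIsoMapComap e
  have hiso : ∀ W : Submodule F V, Iso (o W) ↔ Iso W := fun W => by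
    constructor
    · intro h u hu v hv
      rw [← hform]
      exact h _ ⟨u, hu, rfl⟩ _ ⟨v, hv, rfl⟩
    · rintro h _ ⟨u, hu, rfl⟩ _ ⟨v, hv, rfl⟩
      exact (hform u v).trans (h u hu v hv)
  refine (Nat.card_congr (o.toEquiv.subtypeEquiv fun W => ?_)).symm
  have : o (std F d) = U := hmap
  conv_rhs => rw [← this]
  exact and_congr (o.isCompl_iff) (hiso W).symm

theorem card_lagrangians [Fintype F] :
    Nat.card {U : Submodule F V // Module.finrank F U = d ∧ Iso U} =
      ∏ i ∈ Finset.range d, (Fintype.card F ^ (d - i) + 1) := by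
  have h1 := card_subspaces_mul (F := F) d d
  rw [card_frames, Finset.prod_congr rfl (g := fun i =>
    (Fintype.card F ^ (d - i) + 1) * (Fintype.card F ^ d - Fintype.card F ^ i)), Finset.prod_mul_distrib,
    Finset.prod_fin_eq_prod_range] at h1
  · rw [Finset.prod_congr rfl (g := fun i => Fintype.card F ^ d - Fintype.card F ^ i)
      fun i hi => dif_pos (Finset.mem_range.1 hi)] at h1
    refine Nat.eq_of_mul_eq_mul_right (Finset.prod_pos fun i hi => ?_) h1
    exact Nat.sub_pos_of_lt (Nat.pow_lt_pow_right Fintype.one_lt_card (Finset.mem_range.1 hi))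
  · intro i hi
    have hi' := Finset.mem_range.1 hi
    rw [Nat.card_eq_fintype_card, Nat.add_mul, one_mul, Nat.mul_sub, ← pow_add, ← pow_add,
      show d - i + i = d by omega, show d - i + d = 2 * d - i by omega]
    have h2 : Fintype.card F ^ i ≤ Fintype.card F ^ d := Nat.pow_le_pow_right Fintype.card_pos hi'.le
    have h3 : Fintype.card F ^ d ≤ Fintype.card F ^ (2 * d - i) :=
      Nat.pow_le_pow_right Fintype.card_pos (by omega)
    omega

theorem card_pairs [Fintype F] :
    ∃ N, Nat.card {P : Submodule F V × Submodule F V // IsCompl P.1 P.2 ∧ Iso P.1 ∧ Iso P.2} =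
      (∏ i ∈ Finset.range d, (Fintype.card F ^ (d - i) + 1)) * Fintype.card F ^ N := by
  classical
  obtain ⟨N, hN⟩ := card_comp_std (F := F) (d := d)
  refine ⟨N, ?_⟩
  let L := {U : Submodule F V // Module.finrank F U = d ∧ Iso U}
  let e : {P : Submodule F V × Submodule F V // IsCompl P.1 P.2 ∧ Iso P.1 ∧ Iso P.2} ≃
      (U : L) × Comp U.1 :=
    { toFun := fun P => ⟨⟨P.1.1, (finrank_eq P.2.1 P.2.2.1 P.2.2.2).1, P.2.2.1⟩,
        ⟨P.1.2, P.2.1, P.2.2.2⟩⟩
      invFun := fun s => ⟨(s.1.1, s.2.1), s.2.2.1, s.1.2.2, s.2.2.2⟩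
      left_inv := fun P => rfl
      right_inv := fun s => rfl }
  let _ : Fintype L := Fintype.ofFinite L
  rw [Nat.card_congr e, Nat.card_sigma, Finset.sum_congr rfl fun U _ => (card_comp U.2.1 U.2.2).trans hN,
    Finset.sum_const, smul_eq_mul, Finset.card_univ, ← Nat.card_eq_fintype_card, card_lagrangians]

end Cfsg.Agent.PolarPairs
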