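import Mathlib
import Cfsg.Prelude.Def_Solvable
import Cfsg.Prelude.Def_Local
import Cfsg.Agent.Lib.HallSolvable
import Cfsg.Agent.Lib.HallTheorem

/-!
The alternating residual series `K ≥ O^{p'}(K) ≥ O^p O^{p'}(K) ≥ …` of a finite group, and the fact that
in a `p`-soluble group each nontrivial term is already seen in a two-generated subgroup.
-/

set_option autoImplicit false

open Subgroup
open scoped Pointwise IsMulCommutative

namespace Cfsg.Agent.PowellResidual59

/-! ### Orders of the two alternating kinds -/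

/-- `p`-powers for even `j`, numbers prime to `p` for odd `j`. -/
def Typ (p j m : ℕ) : Prop := if Even j then (∃ e, m = p ^ e) else ¬ p ∣ m

variable {p : ℕ} [hp : Fact p.Prime]

omit hp in
theorem typ_add_two {j m : ℕ} : Typ p (j + 2) m ↔ Typ p j m := by
  simp [Typ, parity_simps]

theorem typ_dvd {j m a : ℕ} (hm : Typ p j m) (h : a ∣ m) : Typ p j a := by
  unfold Typ at *
  split_ifs at hm ⊢
  · obtain ⟨e, rfl⟩ := hm
    obtain ⟨i, -, hi⟩ := (Nat.dvd_prime_pow hp.out).mp h
    exact ⟨i, hi⟩
  · exact fun ha => hm (ha.trans h)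

theorem typ_one (j : ℕ) : Typ p j 1 := by
  unfold Typ
  split_ifs
  · exact ⟨0, (pow_zero p).symm⟩
  · exact hp.out.not_dvd_one

theorem typ_coprime {j m n : ℕ} (hm : Typ p j m) (hn : Typ p (j + 1) n) : m.Coprime n := by
  unfold Typ at *
  simp only [Nat.even_add_one] at hn
  split_ifs at hm with hj
  · rw [if_neg (not_not_intro hj)] at hn
    obtain ⟨e, rfl⟩ := hm
    exact Nat.Coprime.pow_left e (hp.out.coprime_iff_not_dvd.mpr hn)
  · rw [if_pos hj] at hn
    obtain ⟨e, rfl⟩ := hn
    exact Nat.Coprime.pow_right e (hp.out.coprime_iff_not_dvd.mpr hm).symm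

theorem exists_parts (j : ℕ) {m : ℕ} (hm : m ≠ 0) :
    ∃ a b, m = a * b ∧ a.Coprime b ∧ Typ p j a ∧ Typ p (j + 1) b := by
  have h1 : ordProj[p] m * ordCompl[p] m = m := Nat.ordProj_mul_ordCompl_eq_self m p
  have h2 : (ordProj[p] m).Coprime (ordCompl[p] m) :=
    Nat.Coprime.pow_left _ (Nat.coprime_ordCompl hp.out hm)
  have h3 : ¬ p ∣ ordCompl[p] m := Nat.not_dvd_ordCompl hp.out hm
  by_cases hj : Even j
  · refine ⟨ordProj[p] m, ordCompl[p] m, h1.symm, h2, ?_, ?_⟩
    · rw [Typ, if_pos hj]; exact ⟨_, rfl⟩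
    · rw [Typ, if_neg (by rwa [Nat.even_add_one, not_not])]; exact h3
  · refine ⟨ordCompl[p] m, ordProj[p] m, by rw [mul_comm]; exact h1.symm, h2.symm, ?_, ?_⟩
    · rw [Typ, if_neg hj]; exact h3
    · rw [Typ, if_pos (by rwa [Nat.even_add_one])]; exact ⟨_, rfl⟩

universe u v

variable {G : Type u} [Group G] [Finite G]

/-- An element with image of the given kind has a power of that kind with the same image. -/
theorem exists_lift {H : Type v} [Group H] (f : G →* H) {x : G} {j : ℕ}
    (hy : Typ p j (orderOf (f x))) :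
    ∃ i : ℕ, Typ p j (orderOf (x ^ i)) ∧ f (x ^ i) = f x := by
  obtain ⟨a, b, hab, hco, ha, hb⟩ := exists_parts (p := p) j (orderOf_pos x).ne'
  obtain ⟨i, hia, hib⟩ := Nat.chineseRemainder hco 1 0
  refine ⟨i, typ_dvd ha (orderOf_dvd_of_pow_eq_one ?_), ?_⟩
  · rw [← pow_mul]
    obtain ⟨c, rfl⟩ := Nat.modEq_zero_iff_dvd.mp hib
    rw [show b * c * a = a * b * c by ring, ← hab, pow_mul, pow_orderOf_eq_one, one_pow]
  · have hdvd : orderOf (f x) ∣ a :=
      (typ_coprime hy hb).dvd_of_dvd_mul_right (hab ▸ orderOf_map_dvd f x)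
    rw [map_pow]
    conv_rhs => rw [← pow_one (f x)]
    exact pow_eq_pow_iff_modEq.mpr (hia.of_dvd hdvd)

/-! ### Subgroups of one kind -/

/-- All elements of `K` have order of kind `j`. -/
def IsT (p j : ℕ) (K : Subgroup G) : Prop := ∀ x ∈ K, Typ p j (orderOf x)

omit hp [Finite G] in
theorem isT_add_two {j : ℕ} {K : Subgroup G} : IsT p (j + 2) K ↔ IsT p j K :=
  forall₂_congr fun _ _ => typ_add_two

omit hp [Finite G] in
theorem IsT.mono {j : ℕ} {A B : Subgroup G} (h : IsT p j B) (hAB : A ≤ B) : IsT p j A :=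
  fun x hx => h x (hAB hx)

theorem coprime_card {H : Type v} [Group H] [Finite H] {j : ℕ} {A : Subgroup G} {B : Subgroup H}
    (hA : IsT p j A) (hB : IsT p (j + 1) B) : (Nat.card A).Coprime (Nat.card B) := by
  refine Nat.coprime_of_dvd fun q hq h1 h2 => ?_
  haveI := Fact.mk hq
  obtain ⟨a, ha⟩ := exists_prime_orderOf_dvd_card' q h1
  obtain ⟨b, hb⟩ := exists_prime_orderOf_dvd_card' q h2
  have := typ_coprime (hA a a.2) (hB b b.2)
  rw [orderOf_coe, orderOf_coe, ha, hb, Nat.coprime_self] at this
  exact hq.ne_one this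

theorem inf_eq_bot_of_isT {j : ℕ} {A B : Subgroup G} (hA : IsT p j A) (hB : IsT p (j + 1) B) :
    A ⊓ B = ⊥ :=
  Subgroup.inf_eq_bot_of_coprime (coprime_card hA hB)

theorem isT_map {H : Type v} [Group H] (f : G →* H) {j : ℕ} {A : Subgroup G} (hA : IsT p j A) :
    IsT p j (A.map f) := by
  rintro _ ⟨x, hx, rfl⟩
  exact typ_dvd (hA x hx) (orderOf_map_dvd f x)

theorem isPGroup_of_isT {j : ℕ} (hj : Even j) {A : Subgroup G} (hA : IsT p j A) : IsPGroup p A := by
  intro x
  have h := hA x x.2
  rw [Typ, if_pos hj, orderOf_coe] at h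
  obtain ⟨e, he⟩ := h
  exact ⟨e, he ▸ pow_orderOf_eq_one x⟩

theorem not_dvd_card_of_isT {j : ℕ} (hj : ¬ Even j) {A : Subgroup G} (hA : IsT p j A) :
    ¬ p ∣ Nat.card A := by
  intro h
  obtain ⟨x, hx⟩ := exists_prime_orderOf_dvd_card' p h
  have := hA x x.2
  rw [Typ, if_neg hj, orderOf_coe, hx] at this
  exact this dvd_rfl

/-! ### The series -/

/-- `D p 0 K = K`; `D p (j + 1) K` is generated by the elements of kind `j` of `D p j K`. -/
def D (p : ℕ) : ℕ → Subgroup G → Subgroup G
  | 0, K => K
  | j + 1, K => closure {x | x ∈ D p j K ∧ Typ p j (orderOf x)}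

omit hp [Finite G] in
theorem D_zero (K : Subgroup G) : D p 0 K = K := rfl

omit hp [Finite G] in
theorem D_succ (j : ℕ) (K : Subgroup G) :
    D p (j + 1) K = closure {x | x ∈ D p j K ∧ Typ p j (orderOf x)} := rfl

omit hp [Finite G] in
theorem D_succ_le (j : ℕ) (K : Subgroup G) : D p (j + 1) K ≤ D p j K :=
  (closure_le _).mpr fun _ hx => hx.1

omit hp [Finite G] in
theorem D_antitone {i j : ℕ} (h : i ≤ j) (K : Subgroup G) : D p j K ≤ D p i K := by
  induction h with
  | refl => exact le_rfl
  | step _ ih => exact (D_succ_le _ K).trans ih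

omit hp [Finite G] in
theorem D_le (j : ℕ) (K : Subgroup G) : D p j K ≤ K := D_antitone (Nat.zero_le j) K

omit hp [Finite G] in
theorem D_mono (j : ℕ) {A B : Subgroup G} (h : A ≤ B) : D p j A ≤ D p j B := by
  induction j with
  | zero => exact h
  | succ j ih => exact closure_mono fun x hx => ⟨ih hx.1, hx.2⟩

theorem D_map {H : Type v} [Group H] (f : G →* H) (j : ℕ) (K : Subgroup G) :
    (D p j K).map f = D p j (K.map f) := by
  induction j with
  | zero => rfl
  | succ j ih =>
    rw [D_succ, D_succ, MonoidHom.map_closure]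
    congr 1
    ext y
    constructor
    · rintro ⟨x, ⟨hx, hT⟩, rfl⟩
      exact ⟨ih ▸ mem_map_of_mem f hx, typ_dvd hT (orderOf_map_dvd f x)⟩
    · rintro ⟨hy, hT⟩
      rw [← ih] at hy
      obtain ⟨x, hx, rfl⟩ := hy
      obtain ⟨i, hi, he⟩ := exists_lift f hT
      exact ⟨x ^ i, ⟨pow_mem hx i, hi⟩, he⟩

theorem le_normalizer_D (j : ℕ) (K : Subgroup G) : K ≤ normalizer (D p j K : Set G) := by
  intro g hg
  have hK : K.map (MulAut.conj g).toMonoidHom = K := by
    refine eq_of_le_of_card_ge ?_ (le_of_eq ?_)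
    · rintro _ ⟨x, hx, rfl⟩
      exact mul_mem (mul_mem hg hx) (inv_mem hg)
    · rw [card_map_of_injective (MulAut.conj g).injective]
  rw [mem_normalizer_iff]
  intro x
  have h := D_map (p := p) (MulAut.conj g).toMonoidHom j K
  rw [hK] at h
  constructor
  · intro hx
    exact h ▸ mem_map_of_mem (MulAut.conj g).toMonoidHom hx
  · intro hx
    rw [← h] at hx
    obtain ⟨y, hy, e⟩ := hx
    have : y = x := (MulAut.conj g).injective e
    exact this ▸ hy

theorem D_top_normal (j : ℕ) : (D p j (⊤ : Subgroup G)).Normal :=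
  normalizer_eq_top_iff.mp (top_le_iff.mp (le_normalizer_D j ⊤))

theorem isT_of_D_succ_eq_bot {j : ℕ} {K : Subgroup G} (h : D p (j + 1) K = ⊥) :
    IsT p (j + 1) (D p j K) := by
  intro x hx
  obtain ⟨a, b, hab, -, ha, hb⟩ := exists_parts (p := p) j (orderOf_pos x).ne'
  refine typ_dvd hb (orderOf_dvd_of_pow_eq_one ?_)
  have hT : Typ p j (orderOf (x ^ b)) := typ_dvd ha (orderOf_dvd_of_pow_eq_one (by
    rw [← pow_mul, show b * a = orderOf x by rw [hab, mul_comm], pow_orderOf_eq_one]))
  exact mem_bot.mp (h ▸ subset_closure ⟨pow_mem hx b, hT⟩)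

/-- The series of a `p`-soluble group reaches the trivial subgroup. -/
theorem exists_D_eq_bot (h : Cfsg.IsPSolvable p G) : ∃ j, D p j (⊤ : Subgroup G) = ⊥ := by
  obtain ⟨n, C, h0, hn, -, hnor, hstep⟩ := h
  suffices key : ∀ d, ∀ i : Fin (n + 1), n ≤ (i : ℕ) + d → D p (2 * d) (⊤ : Subgroup G) ≤ C i from
    ⟨2 * n, le_bot_iff.mp (h0 ▸ key n 0 (by simp))⟩
  intro d
  induction d with
  | zero =>
    intro i hi
    have : i = Fin.last n := Fin.ext (by simp; omega)
    rw [this, hn]
    exact le_top
  | succ d ih =>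
    intro i hi
    by_cases hid : n ≤ (i : ℕ) + d
    · exact (D_antitone (by omega) _).trans (ih i hid)
    obtain ⟨i', rfl⟩ : ∃ i' : Fin n, i = i'.castSucc := ⟨⟨i, by omega⟩, rfl⟩
    simp only [Fin.val_castSucc] at hi hid
    have hle := ih i'.succ (by simp; omega)
    haveI := hnor i'.castSucc
    let f := QuotientGroup.mk' (C i'.castSucc)
    have hcard : Nat.card ((C i'.succ).map f) = (C i'.castSucc).relIndex (C i'.succ) := by
      rw [← relIndex_ker, QuotientGroup.ker_mk']
    have key2 : ∀ t, 2 * d ≤ t → IsT p (t + 1) ((C i'.succ).map f) →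
        D p (t + 1) (⊤ : Subgroup G) ≤ C i'.castSucc := by
      intro t ht hT
      refine (closure_le _).mpr fun x hx => ?_
      have h1 : f x ∈ (C i'.succ).map f := mem_map_of_mem f (hle (D_antitone ht _ hx.1))
      have h2 := typ_coprime (typ_dvd hx.2 (orderOf_map_dvd f x)) (hT _ h1)
      rw [Nat.coprime_self, orderOf_eq_one_iff] at h2
      exact (QuotientGroup.eq_one_iff x).mp h2
    rcases hstep i' with ⟨m, hm⟩ | hco
    · refine (key2 (2 * d + 1) (by omega) ?_).trans le_rfl
      intro y hy
      rw [show 2 * d + 1 + 1 = 2 * (d + 1) by ring, Typ, if_pos (even_two_mul _)]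
      obtain ⟨k, -, hk⟩ := (Nat.dvd_prime_pow hp.out).mp (hm ▸ hcard ▸
        (orderOf_mk y hy ▸ orderOf_dvd_natCard (⟨y, hy⟩ : (C i'.succ).map f)))
      exact ⟨k, hk⟩
    · refine (D_antitone (show 2 * d + 1 ≤ 2 * (d + 1) by omega) _).trans (key2 (2 * d) le_rfl ?_)
      intro y hy
      rw [Typ, if_neg (by simp [parity_simps])]
      intro hdvd
      have h1 := hdvd.trans (orderOf_mk y hy ▸ orderOf_dvd_natCard (⟨y, hy⟩ : (C i'.succ).map f))
      rw [hcard] at h1
      exact hp.out.coprime_iff_not_dvd.mp hco.symm h1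

/-! ### Two-generated witnesses -/

/-- Coprime complements of an abelian normal subgroup are conjugate. -/
theorem complements_conj {A B₁ B₂ : Subgroup G} [A.Normal] (hA : IsMulCommutative A)
    (h1 : (Nat.card A).Coprime (Nat.card B₁)) (h2 : (Nat.card A).Coprime (Nat.card B₂))
    (h : B₁ ⊔ A = B₂ ⊔ A) : ∃ a ∈ A, B₁.map (MulAut.conj a).toMonoidHom = B₂ := by
  have hA1 : A ≤ B₁ ⊔ A := le_sup_right
  have hB1 : B₁ ≤ B₁ ⊔ A := le_sup_left
  have hB2 : B₂ ≤ B₁ ⊔ A := h ▸ le_sup_left
  have hc1 := HallTheorem.card_sup_of_coprime (N := A) h1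
  have hc2 := HallTheorem.card_sup_of_coprime (N := A) h2
  set M := B₁ ⊔ A with hM
  rw [← h] at hc2
  have cA := Nat.card_congr (subgroupOfEquivOfLe hA1).toEquiv
  have cB1 := Nat.card_congr (subgroupOfEquivOfLe hB1).toEquiv
  have cB2 := Nat.card_congr (subgroupOfEquivOfLe hB2).toEquiv
  haveI : IsMulCommutative (A.subgroupOf M) := ⟨⟨fun x y => by
    have := hA.is_comm.comm (⟨_, x.2⟩ : A) ⟨_, y.2⟩
    exact Subtype.ext (Subtype.ext (congrArg (fun z : A => (z : G)) this))⟩⟩
  have comp : ∀ B : Subgroup G, Nat.card (B.subgroupOf M) = Nat.card B →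
      (Nat.card A).Coprime (Nat.card B) → Nat.card M = Nat.card B * Nat.card A →
      IsComplement' (A.subgroupOf M) (B.subgroupOf M) := fun B cB hco hc =>
    isComplement'_of_coprime (by rw [cA, cB, hc, mul_comm]) (by rw [cA, cB]; exact hco)
  have hidx : (Nat.card (A.subgroupOf M)).Coprime (A.subgroupOf M).index := by
    rw [(comp B₁ cB1 h1 hc1).symm.index_eq_card, cA, cB1]; exact h1
  obtain ⟨a, ha, e⟩ :=
    HallTheorem.complements_conj_of_abelian hidx (comp B₁ cB1 h1 hc1) (comp B₂ cB2 h2 hc2)
  refine ⟨a, ha, ?_⟩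
  have e' := congrArg (Subgroup.map M.subtype) e
  rw [HallTheorem.map_conj_smul, map_subgroupOf_eq_of_le hB1, map_subgroupOf_eq_of_le hB2,
    HallTheorem.conj_smul_eq_map] at e'
  exact e'

/-- A minimal normal subgroup of a `p`-soluble group is a `p`-group or a `p'`-group. -/
theorem minimal_normal_cases (h : Cfsg.IsPSolvable p G) (W : Subgroup G) [W.Normal] (hW : W ≠ ⊥)
    (hmin : ∀ N : Subgroup G, N.Normal → N ≤ W → N = ⊥ ∨ N = W) :
    IsT p 0 W ∨ IsT p 1 W := by
  obtain ⟨n, C, h0, hn, -, hnor, hstep⟩ := h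
  have key : ∀ i : Fin (n + 1), W ≤ C i → IsT p 0 W ∨ IsT p 1 W := by
    intro i
    induction i using Fin.induction with
    | zero => exact fun hle => absurd (le_bot_iff.mp (h0 ▸ hle)) hW
    | succ i ih =>
      intro hle
      haveI := hnor i.castSucc
      rcases hmin (W ⊓ C i.castSucc) inferInstance inf_le_left with hb | ht
      · let f := QuotientGroup.mk' (C i.castSucc)
        have hord : ∀ x ∈ W, orderOf x ∣ (C i.castSucc).relIndex (C i.succ) := by
          intro x hx
          have hxx : orderOf (f x) = orderOf x := by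
            refine Nat.dvd_antisymm (orderOf_map_dvd f x) (orderOf_dvd_of_pow_eq_one ?_)
            have : x ^ orderOf (f x) ∈ W ⊓ C i.castSucc := ⟨pow_mem hx _,
              (QuotientGroup.eq_one_iff _).mp ((map_pow f x _).trans (pow_orderOf_eq_one _))⟩
            rwa [hb, mem_bot] at this
          have hrel : (C i.castSucc).relIndex (C i.succ) = Nat.card ((C i.succ).map f) := by
            have h' := relIndex_ker (K := C i.succ) f
            rwa [QuotientGroup.ker_mk'] at h'
          rw [← hxx, hrel]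
          exact orderOf_mk (f x) (mem_map_of_mem f (hle hx)) ▸ orderOf_dvd_natCard _
        rcases hstep i with ⟨m, hm⟩ | hco
        · left
          intro x hx
          rw [Typ, if_pos (by simp)]
          obtain ⟨k, -, hk⟩ := (Nat.dvd_prime_pow hp.out).mp (hm ▸ hord x hx)
          exact ⟨k, hk⟩
        · right
          intro x hx
          rw [Typ, if_neg (by simp)]
          exact fun hd => hp.out.coprime_iff_not_dvd.mp hco.symm (hd.trans (hord x hx))
      · exact ih (inf_eq_left.mp ht)
  exact key (Fin.last n) (hn ▸ le_top)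

/-- A `p`-subgroup that is minimal normal is abelian. -/
theorem comm_of_minimal {q : ℕ} [Fact q.Prime] (W : Subgroup G) [W.Normal] (hW : W ≠ ⊥)
    (hq : IsPGroup q W) (hmin : ∀ N : Subgroup G, N.Normal → N ≤ W → N = ⊥ ∨ N = W) :
    IsMulCommutative W := by
  haveI : Nontrivial W := (Subgroup.nontrivial_iff_ne_bot W).mpr hW
  have hZ : ((center W).map W.subtype).Normal := inferInstance
  rcases hmin _ hZ (map_subtype_le _) with hb | ht
  · exact absurd ((map_eq_bot_iff_of_injective _ W.subtype_injective).mp hb)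
      ((Subgroup.nontrivial_iff_ne_bot _).mp hq.center_nontrivial)
  · have htop : center W = ⊤ := map_injective W.subtype_injective
      (ht.trans (by rw [← MonoidHom.range_eq_map, range_subtype]))
    exact ⟨⟨fun a b => (mem_center_iff.mp (htop ▸ mem_top b) a)⟩⟩

omit [Finite G] in
theorem closure_pair_map {H : Type v} [Group H] (f : G →* H) (a b : G) :
    (closure {a, b}).map f = closure {f a, f b} := by
  rw [MonoidHom.map_closure, Set.image_pair]

omit [Finite G] in
theorem comm_mem {A : Subgroup G} (hA : IsMulCommutative A) {x y : G} (hx : x ∈ A) (hy : y ∈ A) :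
    x * y = y * x :=
  congrArg Subtype.val (hA.is_comm.comm ⟨x, hx⟩ ⟨y, hy⟩)

section Step

variable {i : ℕ} (W : Subgroup G) [hWn : W.Normal] (hW : W ≠ ⊥)
  (hmin : ∀ N : Subgroup G, N.Normal → N ≤ W → N = ⊥ ∨ N = W)
  (hWD : W ≤ D p (i + 2) (⊤ : Subgroup G))
  (hQ : (D p (i + 2) (⊤ : Subgroup G)).map (QuotientGroup.mk' W) = ⊥)
  (hWT : IsT p (i + 1) W)

include hW hmin hWD hQ hWT

omit hW hmin hWD hWT in
theorem quot_isT : IsT p i ((D p (i + 1) (⊤ : Subgroup G)).map (QuotientGroup.mk' W)) := by
  rw [D_map] at hQ ⊢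
  exact isT_add_two.mp (isT_of_D_succ_eq_bot hQ)

omit hW hmin hQ hWT in
theorem le_C : W ≤ D p (i + 1) (⊤ : Subgroup G) := hWD.trans (D_succ_le _ _)

omit hmin in
/-- The elements of kind `i` do not all centralise `W` (abelian case). -/
theorem exists_moving (hWc : IsMulCommutative W) :
    ∃ x ∈ D p (i + 1) (⊤ : Subgroup G), Typ p i (orderOf x) ∧ ∃ w ∈ W, x * w ≠ w * x := by
  by_contra hcon
  push Not at hcon
  -- `W` is central in `D (i+1)`, so elements of kind `i` form a subgroup avoiding `W`
  have hcen : ∀ c ∈ D p (i + 1) (⊤ : Subgroup G), ∀ w ∈ W, c * w = w * c := by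
    intro c hc w hw
    have : D p (i + 1) (⊤ : Subgroup G) ≤ centralizer {w} := (closure_le _).mpr fun x hx =>
      mem_centralizer_singleton_iff.mpr (hcon x (subset_closure hx) hx.2 w hw)
    exact mem_centralizer_singleton_iff.mp (this hc)
  have hco : (Nat.card W).Coprime (W.relIndex (D p (i + 1) (⊤ : Subgroup G))) := by
    rw [← QuotientGroup.ker_mk' W, relIndex_ker, QuotientGroup.ker_mk']
    exact (coprime_card (quot_isT W hQ) hWT).symm
  set C := D p (i + 1) (⊤ : Subgroup G) with hC
  obtain ⟨B, hB⟩ := exists_right_complement'_of_coprime (N := W.subgroupOf C) (by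
    rw [Nat.card_congr (subgroupOfEquivOfLe (le_C W hWD)).toEquiv]; exact hco)
  have hBn : B.Normal := by
    refine ⟨fun b hb c => ?_⟩
    obtain ⟨⟨⟨w, hw⟩, ⟨b', hb'⟩⟩, rfl⟩ := hB.2 c
    have hcomm : ∀ z : C, z * w = w * z := fun z =>
      Subtype.ext (hcen z z.2 w hw)
    have : (w * b') * b * (w * b')⁻¹ = b' * b * b'⁻¹ := by
      rw [show (w * b') * b * (w * b')⁻¹ = w * (b' * b * b'⁻¹) * w⁻¹ by group, ← hcomm]
      group
    rw [this]
    exact mul_mem (mul_mem hb' hb) (inv_mem hb')
  -- every element of kind `i` lies in `B`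
  have hle : C ≤ B.map C.subtype := by
    conv_lhs => rw [hC]
    refine (closure_le _).mpr fun x hx => ?_
    have hxC : x ∈ C := subset_closure hx
    refine ⟨⟨x, hxC⟩, ?_, rfl⟩
    rw [SetLike.mem_coe, ← QuotientGroup.eq_one_iff]
    refine orderOf_eq_one_iff.mp ?_
    have h1 : orderOf ((⟨x, hxC⟩ : C) : C ⧸ B) ∣ orderOf x :=
      orderOf_mk x hxC ▸ orderOf_map_dvd (QuotientGroup.mk' B) _
    have h2 : orderOf ((⟨x, hxC⟩ : C) : C ⧸ B) ∣ Nat.card W := by
      refine (_root_.orderOf_dvd_natCard _).trans (dvd_of_eq ?_)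
      rw [← index_eq_card, hB.index_eq_card, Nat.card_congr (subgroupOfEquivOfLe (le_C W hWD)).toEquiv]
    refine Nat.eq_one_of_dvd_coprimes ?_ h1 h2
    refine Nat.coprime_of_dvd fun q hq hq1 hq2 => ?_
    haveI := Fact.mk hq
    obtain ⟨w, hw⟩ := exists_prime_orderOf_dvd_card' q hq2
    have h3 := typ_coprime (typ_dvd hx.2 hq1) (hWT w w.2)
    rw [orderOf_coe, hw, Nat.coprime_self] at h3
    exact hq.ne_one h3
  obtain ⟨w, hw, hw1⟩ : ∃ w ∈ W, w ≠ 1 := by
    by_contra h
    push Not at h
    exact hW ((eq_bot_iff_forall W).mpr h)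
  obtain ⟨b, hb, e⟩ := hle (le_C W hWD hw)
  refine hw1 ?_
  have : b ∈ W.subgroupOf C ⊓ B := ⟨show (b : G) ∈ W from (show (b : G) = w from e) ▸ hw, hb⟩
  rw [hB.disjoint.eq_bot, mem_bot] at this
  rw [← e, this]; rfl

omit hmin in
/-- For non-abelian `W` some element of kind `i` fails to normalise-and-centralise a Sylow subgroup. -/
theorem exists_sylow_moved (hnc : ¬ IsMulCommutative W) (hi : Even i) :
    ∃ (q : ℕ) (_ : Fact q.Prime) (Q : Sylow q W),
      ¬ D p (i + 1) (normalizer (((Q : Subgroup W).map W.subtype : Subgroup G) : Set G)) ≤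
        centralizer (((Q : Subgroup W).map W.subtype : Subgroup G) : Set G) := by
  by_contra hcon
  push Not at hcon
  refine hnc ?_
  set C := D p (i + 1) (⊤ : Subgroup G) with hC
  haveI : C.Normal := D_top_normal _
  have hcent : ∀ c ∈ C, Typ p i (orderOf c) → ∀ w ∈ W, c * w = w * c := by
    intro c hc hT
    suffices hle : W ≤ centralizer {c} from fun w hw =>
      (mem_centralizer_singleton_iff.mp (hle hw)).symm
    refine inf_eq_left.mp (eq_of_le_of_card_ge (inf_le_left : W ⊓ centralizer {c} ≤ W)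
      (Nat.le_of_dvd Nat.card_pos ((Nat.factorization_le_iff_dvd Nat.card_pos.ne'
        Nat.card_pos.ne').mp fun q => ?_)))
    by_cases hq : q.Prime
    swap
    · simp [Nat.factorization_eq_zero_of_not_prime _ hq]
    haveI := Fact.mk hq
    obtain ⟨Q⟩ : Nonempty (Sylow q W) := inferInstance
    set Q' : Subgroup G := (Q : Subgroup W).map W.subtype with hQ'
    set E := D p (i + 1) (normalizer (Q' : Set G)) with hE
    have hEC : E ≤ C := D_mono _ le_top
    have hEW : E.map (QuotientGroup.mk' W) = C.map (QuotientGroup.mk' W) := by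
      rw [hE, hC, D_map, D_map]
      congr 1
      have htop := Sylow.normalizer_sup_eq_top Q
      have := congrArg (Subgroup.map (QuotientGroup.mk' W)) htop
      rwa [Subgroup.map_sup, QuotientGroup.map_mk'_self, sup_bot_eq] at this
    -- a Sylow `p`-subgroup of `C` inside `E`
    have hdvd : Nat.card C ∣ Nat.card E * Nat.card W := by
      rw [← HallCore.card_mul_relIndex (le_C W hWD), mul_comm]
      refine mul_dvd_mul_right ?_ _
      rw [← QuotientGroup.ker_mk' W, relIndex_ker, ← hEW, ← relIndex_ker, QuotientGroup.ker_mk']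
      exact Subgroup.relIndex_dvd_card W E
    have hpW : ¬ p ∣ Nat.card W := not_dvd_card_of_isT (by simp [parity_simps, hi]) hWT
    have hv : p ^ (Nat.card C).factorization p ∣ Nat.card E :=
      (Nat.Coprime.pow_left _ (hp.out.coprime_iff_not_dvd.mpr hpW)).dvd_of_dvd_mul_right
        ((Nat.ordProj_dvd _ _).trans hdvd)
    obtain ⟨P, hP⟩ := Sylow.exists_subgroup_card_pow_prime p hv
    let P' : Subgroup C := (P.map E.subtype).subgroupOf C
    have hPE : P.map E.subtype ≤ E := map_subtype_le _
    have hP' : Nat.card P' = p ^ (Nat.card C).factorization p := by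
      rw [Nat.card_congr (subgroupOfEquivOfLe (hPE.trans hEC)).toEquiv,
        card_map_of_injective E.subtype_injective, hP]
    let PS : Sylow p C := Sylow.ofCard P' hP'
    have hcz : IsPGroup p (zpowers (⟨c, hc⟩ : C)) := by
      rw [Typ, if_pos hi] at hT
      obtain ⟨e, he⟩ := hT
      exact IsPGroup.of_card (n := e) (by rw [Nat.card_zpowers, orderOf_mk, he])
    obtain ⟨R, hR⟩ := hcz.exists_le_sylow
    obtain ⟨g, hg⟩ := MulAction.exists_smul_eq C PS R
    have hcR : (⟨c, hc⟩ : C) ∈ (MulAut.conj g • P' : Subgroup C) := by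
      have h1 : (⟨c, hc⟩ : C) ∈ (R : Subgroup C) := hR (mem_zpowers _)
      rw [← hg] at h1
      exact h1
    rw [HallTheorem.conj_smul_eq_map] at hcR
    obtain ⟨d, hd, hdc⟩ := hcR
    have hdE : (d : G) ∈ E := hPE hd
    have hdQ := hcon q inferInstance Q hdE
    have hce : c = (g : G) * d * (g : G)⁻¹ := (congrArg Subtype.val hdc).symm
    have hsub : Q'.map (MulAut.conj (g : G)).toMonoidHom ≤ W ⊓ centralizer {c} := by
      rintro _ ⟨w, hw, rfl⟩
      refine ⟨hWn.conj_mem w (map_subtype_le _ hw) g, mem_centralizer_singleton_iff.mpr ?_⟩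
      have h1 : w * d = d * w := mem_centralizer_iff.mp hdQ w hw
      show (g : G) * w * (g : G)⁻¹ * c = c * ((g : G) * w * (g : G)⁻¹)
      rw [hce]
      calc (g : G) * w * (g : G)⁻¹ * ((g : G) * d * (g : G)⁻¹) = g * (w * d) * (g : G)⁻¹ := by group
        _ = g * (d * w) * (g : G)⁻¹ := by rw [h1]
        _ = _ := by group
    have h2 := card_dvd_of_le hsub
    rw [card_map_of_injective (MulAut.conj (g : G)).injective,
      card_map_of_injective W.subtype_injective, Sylow.card_eq_multiplicity] at h2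
    exact (hq.pow_dvd_iff_le_factorization Nat.card_pos.ne').mp h2
  refine ⟨⟨fun a b => Subtype.ext ?_⟩⟩
  have : C ≤ centralizer {(b : G)} := (closure_le _).mpr fun x hx =>
    mem_centralizer_singleton_iff.mpr (hcent x (subset_closure hx) hx.2 b b.2)
  exact mem_centralizer_singleton_iff.mp (this (le_C W hWD a.2))

end Step

/-- In a `p`-soluble group a nontrivial term of the series is seen in a two-generated subgroup. -/
theorem exists_two_generated : ∀ (n : ℕ) (G : Type u) [Group G] [Finite G], Nat.card G ≤ n →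
    Cfsg.IsPSolvable p G → ∀ j, D p j (⊤ : Subgroup G) ≠ ⊥ →
    ∃ a b : G, D p j (closure {a, b}) ≠ ⊥ := by
  intro n
  induction n with
  | zero =>
    intro G _ _ h
    exact absurd (Nat.card_pos (α := G)) (by omega)
  | succ n ih =>
    intro G _ _ hn hs j hj
    rcases j with _ | _ | i
    · obtain ⟨a, -, ha⟩ := (bot_or_exists_ne_one _).resolve_left hj
      refine ⟨a, a, fun h => ha ?_⟩
      rw [D_zero] at h
      exact mem_bot.mp (h ▸ subset_closure (Set.mem_insert _ _))
    · obtain ⟨a, ha, ha1⟩ : ∃ a : G, Typ p 0 (orderOf a) ∧ a ≠ 1 := by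
        by_contra hcon
        push Not at hcon
        refine hj ((eq_bot_iff).mpr ((closure_le _).mpr fun x hx => ?_))
        exact mem_bot.mpr (hcon x hx.2)
      refine ⟨a, a, fun h => ha1 ?_⟩
      exact mem_bot.mp (h ▸ (subset_closure ⟨show a ∈ D p 0 (closure {a, a}) from
        subset_closure (Set.mem_insert _ _), ha⟩ : a ∈ D p 1 (closure {a, a})))
    haveI := D_top_normal (p := p) (G := G) (i + 2)
    obtain ⟨W, ⟨hWn, hW, hWD⟩, hWmin⟩ := (Set.toFinite
      {N : Subgroup G | N.Normal ∧ N ≠ ⊥ ∧ N ≤ D p (i + 2) ⊤}).exists_minimal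
      ⟨_, inferInstance, hj, le_rfl⟩
    have hmin : ∀ N : Subgroup G, N.Normal → N ≤ W → N = ⊥ ∨ N = W := fun N hN hle => by
      by_cases hb : N = ⊥
      · exact Or.inl hb
      · exact Or.inr (le_antisymm hle (hWmin ⟨hN, hb, hle.trans hWD⟩ hle))
    haveI := hWn
    by_cases hQ : (D p (i + 2) (⊤ : Subgroup G)).map (QuotientGroup.mk' W) = ⊥
    swap
    · rw [D_map, ← MonoidHom.range_eq_map,
        MonoidHom.range_eq_top.mpr (QuotientGroup.mk'_surjective W)] at hQ
      have hlt : Nat.card (G ⧸ W) ≤ n := by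
        have h1 := card_mul_index W
        rw [index_eq_card] at h1
        have h2 : 1 < Nat.card W := (one_lt_card_iff_ne_bot W).mpr hW
        have h3 : 0 < Nat.card (G ⧸ W) := Nat.card_pos
        nlinarith
      obtain ⟨a, b, hab⟩ := ih (G ⧸ W) hlt (HallSolvable.isPSolvable_quotient hs W) _ hQ
      obtain ⟨a, rfl⟩ := QuotientGroup.mk'_surjective W a
      obtain ⟨b, rfl⟩ := QuotientGroup.mk'_surjective W b
      refine ⟨a, b, fun h => hab ?_⟩
      rw [← closure_pair_map, ← D_map, h, Subgroup.map_bot]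
    have hWT : IsT p (i + 1) W := by
      have aux : IsT p i W ∨ IsT p (i + 1) W := by
        rcases Nat.even_or_odd i with ⟨k, rfl⟩ | ⟨k, rfl⟩
        · rcases minimal_normal_cases hs W hW hmin with h | h
          · exact Or.inl fun x hx => by
              have := h x hx; simpa [Typ, parity_simps] using this
          · exact Or.inr fun x hx => by
              have := h x hx; simpa [Typ, parity_simps] using this
        · rcases minimal_normal_cases hs W hW hmin with h | h
          · exact Or.inr fun x hx => by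
              have := h x hx; simpa [Typ, parity_simps] using this
          · exact Or.inl fun x hx => by
              have := h x hx; simpa [Typ, parity_simps] using this
      refine aux.resolve_left fun h => hW ?_
      -- otherwise `D (i+1)` has no element of kind `i + 1`
      refine le_bot_iff.mp (hWD.trans ((closure_le _).mpr fun x hx => ?_))
      have h1 : QuotientGroup.mk' W x = 1 := by
        have := typ_coprime (quot_isT W hQ _ (mem_map_of_mem _ hx.1))
          (typ_dvd hx.2 (orderOf_map_dvd (QuotientGroup.mk' W) x))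
        rwa [Nat.coprime_self, orderOf_eq_one_iff] at this
      have h2 := typ_coprime (h x ((QuotientGroup.eq_one_iff x).mp h1)) hx.2
      rw [Nat.coprime_self, orderOf_eq_one_iff] at h2
      exact mem_bot.mpr h2
    by_cases hWc : IsMulCommutative W
    · -- abelian `W`
      set C := D p (i + 1) (⊤ : Subgroup G) with hC
      haveI : C.Normal := D_top_normal _
      have hWC : W ≤ C := le_C W hWD
      obtain ⟨x, hxC, hxT, w, hw, hxw⟩ := exists_moving W hW hWD hQ hWT hWc
      have hqT := quot_isT W hQ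
      have hcoW : (Nat.card (W.subgroupOf C)).Coprime (W.subgroupOf C).index := by
        rw [Nat.card_congr (subgroupOfEquivOfLe hWC).toEquiv]
        show (Nat.card W).Coprime (W.relIndex C)
        rw [← QuotientGroup.ker_mk' W, relIndex_ker, QuotientGroup.ker_mk']
        exact (coprime_card hqT hWT).symm
      obtain ⟨B', hB'⟩ := exists_right_complement'_of_coprime hcoW
      set B : Subgroup G := B'.map C.subtype with hB
      have hBC : B ≤ C := map_subtype_le _
      have hBW : B ⊓ W = ⊥ := by
        refine (eq_bot_iff_forall _).mpr fun z ⟨⟨b, hb, e⟩, hz⟩ => ?_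
        have : b ∈ W.subgroupOf C ⊓ B' := ⟨show (b : G) ∈ W from (show (b : G) = z from e) ▸ hz, hb⟩
        rw [hB'.disjoint.eq_bot, mem_bot] at this
        rw [← e, this]; rfl
      have hBWC : B ⊔ W = C := by
        refine le_antisymm (sup_le hBC hWC) fun c hc => ?_
        obtain ⟨⟨⟨w', hw'⟩, ⟨b, hb⟩⟩, e⟩ := hB'.2 ⟨c, hc⟩
        have : c = (w' : G) * b := (congrArg Subtype.val e).symm
        rw [this]
        exact mul_mem (le_sup_right (a := B) hw') (le_sup_left (b := W) ⟨b, hb, rfl⟩)
      have hBT : IsT p i B := by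
        intro b hb
        obtain ⟨a, c, hac, -, ha, hc'⟩ := exists_parts (p := p) i (orderOf_pos b).ne'
        refine typ_dvd ha (orderOf_dvd_of_pow_eq_one ?_)
        have h1 : QuotientGroup.mk' W (b ^ a) = 1 := by
          have hT1 := hqT _ (mem_map_of_mem (QuotientGroup.mk' W) (hBC (pow_mem hb a)))
          have hT2 : Typ p (i + 1) (orderOf (b ^ a)) := typ_dvd hc' (orderOf_dvd_of_pow_eq_one (by
            rw [← pow_mul, ← hac, pow_orderOf_eq_one]))
          have := typ_coprime hT1 (typ_dvd hT2 (orderOf_map_dvd (QuotientGroup.mk' W) _))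
          rwa [Nat.coprime_self, orderOf_eq_one_iff] at this
        exact mem_bot.mp (hBW ▸ ⟨pow_mem hb a, (QuotientGroup.eq_one_iff _).mp h1⟩)
      set K := normalizer (B : Set G) with hK
      have hsup : K ⊔ W = ⊤ := by
        refine eq_top_iff.mpr fun g _ => ?_
        have hgB : (B.map (MulAut.conj g).toMonoidHom) ⊔ W = B ⊔ W := by
          have hWg : W.map (MulAut.conj g).toMonoidHom = W := Normal.map_conj_eq W g
          conv_lhs => rw [← hWg, ← Subgroup.map_sup, hBWC]
          rw [hBWC]
          exact Normal.map_conj_eq C g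
        obtain ⟨a, ha, e⟩ := complements_conj hWc
          (coprime_card hBT hWT).symm
          ((coprime_card (isT_map (MulAut.conj g).toMonoidHom hBT) hWT).symm) hgB.symm
        have : a⁻¹ * g ∈ K := by
          rw [hK, mem_normalizer_iff_map_conj_eq]
          rw [← MulEquiv.toMonoidHom_eq_coe] at *
          rw [map_mul, show (MulAut.conj a⁻¹ * MulAut.conj g : MulAut G).toMonoidHom =
            (MulAut.conj a⁻¹).toMonoidHom.comp (MulAut.conj g).toMonoidHom from rfl,
            ← Subgroup.map_map, ← e, Subgroup.map_map]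
          convert Subgroup.map_id B
          ext y
          simp [MulAut.conj_apply, mul_assoc]
        rw [show g = a * (a⁻¹ * g) by group]
        exact mul_mem (le_sup_right (a := K) ha) (le_sup_left (b := W) this)
      have hWK : ∀ z ∈ W, z ∈ K → z ∈ centralizer (B : Set G) := by
        intro z hz hzK
        refine mem_centralizer_iff.mpr fun b hb => ?_
        replace hb : b ∈ B := hb
        have h1 : z * b * z⁻¹ * b⁻¹ ∈ B ⊓ W := by
          refine ⟨B.mul_mem ((mem_normalizer_iff.mp hzK b).mp hb) (B.inv_mem hb), ?_⟩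
          rw [show z * b * z⁻¹ * b⁻¹ = z * (b * z⁻¹ * b⁻¹) by group]
          exact mul_mem hz (hWn.conj_mem _ (inv_mem hz) b)
        rw [hBW, mem_bot, ← commutatorElement_def, commutatorElement_eq_one_iff_mul_comm] at h1
        exact h1.symm
      have hWKbot : W ⊓ K = ⊥ := by
        have hn' : (W ⊓ K).Normal := by
          refine normalizer_eq_top_iff.mp (top_le_iff.mp (hsup ▸ sup_le ?_ ?_))
          · intro k hk
            rw [mem_normalizer_iff]
            intro z
            simp only [mem_inf]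
            exact and_congr ⟨fun h => hWn.conj_mem z h k, fun h => by
              simpa [mul_assoc] using hWn.conj_mem _ h k⁻¹⟩
              ⟨fun h => mul_mem (mul_mem hk h) (inv_mem hk), fun h => by
              simpa [mul_assoc] using mul_mem (mul_mem (inv_mem hk) h) hk⟩
          · intro v hv
            rw [mem_normalizer_iff]
            intro z
            constructor
            · rintro ⟨hz, hz'⟩
              rw [show v * z * v⁻¹ = z by
                rw [comm_mem hWc hv hz, mul_inv_cancel_right]]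
              exact ⟨hz, hz'⟩
            · intro hz
              have hz1 : v * z * v⁻¹ ∈ W := hz.1
              have : v⁻¹ * (v * z * v⁻¹) * v = v * z * v⁻¹ := by
                rw [comm_mem hWc (inv_mem hv) hz1, inv_mul_cancel_right]
              rw [show v⁻¹ * (v * z * v⁻¹) * v = z by group] at this
              rw [this]
              exact hz
        rcases hmin _ hn' inf_le_left with h | h
        · exact h
        refine absurd ?_ hxw
        have hcen : C ≤ centralizer {w} := by
          rw [← hBWC]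
          refine sup_le (fun b hb => mem_centralizer_singleton_iff.mpr ?_)
            fun v hv => mem_centralizer_singleton_iff.mpr (comm_mem hWc hv hw)
          exact mem_centralizer_iff.mp (hWK w hw (inf_eq_left.mp h hw)) b hb
        exact mem_centralizer_singleton_iff.mp (hcen hxC)
      set φ : K →* MulAut W := (MulAut.conjNormal (H := W)).comp K.subtype with hφ
      have hcardK : Nat.card φ.range ≤ n := by
        have h1 : Nat.card φ.range ≤ Nat.card K :=
          Nat.le_of_dvd Nat.card_pos (card_range_dvd φ)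
        have h2 : K ≠ ⊤ := fun h => hW (by rw [← hWKbot, h, inf_top_eq])
        have h3 : Nat.card K < Nat.card G := by
          refine lt_of_le_of_ne (Subgroup.card_le_card_group K) fun e => h2 ?_
          exact eq_top_of_card_eq K e
        omega
      have hmapK : ((⊤ : Subgroup K).map K.subtype) = K := by
        rw [← MonoidHom.range_eq_map, range_subtype]
      have hDK : D p (i + 1) K ≤ B := by
        intro d hd
        have hdC : d ∈ B ⊔ W := hBWC ▸ D_mono _ le_top hd
        rw [← SetLike.mem_coe, Subgroup.mul_normal] at hdC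
        obtain ⟨b, hb, v, hv, rfl⟩ := hdC
        have hbK : b ∈ K := le_normalizer hb
        have hvK : v ∈ W ⊓ K := ⟨hv, by
          simpa using mul_mem (inv_mem hbK) (D_le _ _ hd)⟩
        rw [hWKbot, mem_bot] at hvK
        simpa [hvK] using hb
      have hcovK : (D p (i + 1) K).map (QuotientGroup.mk' W) = C.map (QuotientGroup.mk' W) := by
        rw [hC, D_map, D_map]
        congr 1
        have := congrArg (Subgroup.map (QuotientGroup.mk' W)) hsup
        rwa [Subgroup.map_sup, QuotientGroup.map_mk'_self, sup_bot_eq] at this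
      have hDne : D p (i + 1) (⊤ : Subgroup φ.range) ≠ ⊥ := by
        intro h
        refine hxw ?_
        obtain ⟨d, hd, hdx⟩ : QuotientGroup.mk' W x ∈ (D p (i + 1) K).map (QuotientGroup.mk' W) :=
          hcovK ▸ mem_map_of_mem _ hxC
        have hdx' : d⁻¹ * x ∈ W := QuotientGroup.eq.mp hdx
        obtain ⟨d', hd', rfl⟩ : d ∈ (D p (i + 1) (⊤ : Subgroup K)).map K.subtype := by
          rw [D_map, hmapK]; exact hd
        have h1 : φ.rangeRestrict d' ∈ (D p (i + 1) (⊤ : Subgroup K)).map φ.rangeRestrict :=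
          mem_map_of_mem _ hd'
        rw [D_map, ← MonoidHom.range_eq_map, MonoidHom.range_eq_top.mpr φ.rangeRestrict_surjective,
          h, mem_bot] at h1
        have h2 : φ d' = 1 := congrArg Subtype.val h1
        have h3 := congrArg (fun e : MulAut W => ((e ⟨w, hw⟩ : W) : G)) h2
        simp only [hφ, MonoidHom.coe_comp, Function.comp_apply, MulAut.conjNormal_apply,
          MulAut.one_apply, Subgroup.coe_subtype] at h3
        replace hdx' : (d' : G)⁻¹ * x ∈ W := hdx'
        calc x * w = (d' : G) * ((d' : G)⁻¹ * x * w) := by group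
          _ = (d' : G) * (w * ((d' : G)⁻¹ * x)) := by rw [comm_mem hWc hdx' hw]
          _ = ((d' : G) * w * (d' : G)⁻¹) * x := by group
          _ = w * x := by rw [h3]
      obtain ⟨a', b', hab⟩ := ih φ.range hcardK (HallSolvable.isPSolvable_of_surjective
        (HallSolvable.isPSolvable_subgroup hs K) φ.rangeRestrict_surjective) _ hDne
      obtain ⟨a₀, rfl⟩ := φ.rangeRestrict_surjective a'
      obtain ⟨b₀, rfl⟩ := φ.rangeRestrict_surjective b'
      set C₀ := D p (i + 1) (closure {(a₀ : G), (b₀ : G)}) with hC₀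
      have hC₀B : C₀ ≤ B := (D_mono _ ((closure_le _).mpr (by
        rintro y (rfl | rfl)
        · exact a₀.2
        · exact b₀.2))).trans hDK
      set Z : Subgroup G := W ⊓ centralizer (C₀ : Set G) with hZ
      have hZW : ¬ W ≤ centralizer (C₀ : Set G) := by
        intro hle
        refine hab ((eq_bot_iff_forall _).mpr ?_)
        rw [← closure_pair_map, ← D_map]
        rintro _ ⟨d, hd, rfl⟩
        refine Subtype.ext (MulEquiv.ext fun v => Subtype.ext ?_)
        have hdC : (d : G) ∈ C₀ := by
          rw [hC₀, show ({(a₀ : G), (b₀ : G)} : Set G) = {K.subtype a₀, K.subtype b₀} from rfl,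
            ← closure_pair_map, ← D_map]
          exact mem_map_of_mem K.subtype hd
        show (d : G) * v * (d : G)⁻¹ = v
        rw [mem_centralizer_iff.mp (hle v.2) _ hdC, mul_inv_cancel_right]
      by_contra hcon
      push Not at hcon
      have key : ∀ v₁ ∈ W, ∀ v₂ ∈ W, ∃ u ∈ W,
          (v₁ * (u * ((a₀ : G) * u⁻¹ * (a₀ : G)⁻¹))⁻¹ ∈ Z) ∧
          (v₂ * (u * ((b₀ : G) * u⁻¹ * (b₀ : G)⁻¹))⁻¹ ∈ Z) := by
        intro v₁ hv₁ v₂ hv₂
        set Y := closure {v₁ * (a₀ : G), v₂ * (b₀ : G)} with hY
        set E := D p (i + 1) Y with hE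
        have hET : IsT p (i + 2) E := isT_of_D_succ_eq_bot (hcon _ _)
        have hmk : ∀ v ∈ W, ∀ k : G, QuotientGroup.mk' W (v * k) = QuotientGroup.mk' W k :=
          fun v hv k => by
            rw [map_mul, (QuotientGroup.eq_one_iff v).mpr hv |> fun h => (show QuotientGroup.mk' W v = 1 from h), one_mul]
        have hsame : C₀ ⊔ W = E ⊔ W := by
          have h1 : E.map (QuotientGroup.mk' W) = C₀.map (QuotientGroup.mk' W) := by
            rw [hE, hC₀, D_map, D_map, hY, closure_pair_map, closure_pair_map, hmk v₁ hv₁, hmk v₂ hv₂]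
          have h2 := congrArg (Subgroup.comap (QuotientGroup.mk' W)) h1
          rw [comap_map_eq, comap_map_eq, QuotientGroup.ker_mk'] at h2
          exact h2.symm
        obtain ⟨u, hu, e⟩ := complements_conj hWc (coprime_card (hBT.mono hC₀B) hWT).symm
          (coprime_card (isT_add_two.mp hET) hWT).symm hsame
        refine ⟨u, hu, ?_⟩
        have one : ∀ v ∈ W, ∀ k : G, k ∈ normalizer (C₀ : Set G) → v * k ∈ Y →
            v * (u * (k * u⁻¹ * k⁻¹))⁻¹ ∈ Z := by
          intro v hv k hk hvk
          set z := u⁻¹ * v * (k * u * k⁻¹) with hz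
          have hzW : z ∈ W := mul_mem (mul_mem (inv_mem hu) hv) (hWn.conj_mem u hu k)
          have hzN : z ∈ normalizer (C₀ : Set G) := by
            have h1 : v * k ∈ normalizer (E : Set G) := le_normalizer_D _ _ hvk
            have h2 : u⁻¹ * (v * k) * u ∈ normalizer (C₀ : Set G) := by
              rw [mem_normalizer_iff]
              intro c
              have hmem : ∀ y, y ∈ C₀ ↔ u * y * u⁻¹ ∈ E := fun y => by
                rw [← e]
                exact (mem_map_iff_mem (MulAut.conj u).injective).symm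
              rw [hmem, mem_normalizer_iff.mp h1 (u * c * u⁻¹), hmem]
              congr! 1
              group
            have : z = u⁻¹ * (v * k) * u * k⁻¹ := by rw [hz]; group
            rw [this]
            exact mul_mem h2 (inv_mem hk)
          have hzc : z ∈ centralizer (C₀ : Set G) := by
            refine mem_centralizer_iff.mpr fun c hc => ?_
            have h1 : z * c * z⁻¹ * c⁻¹ ∈ B ⊓ W := by
              refine ⟨hC₀B (mul_mem ((mem_normalizer_iff.mp hzN c).mp hc) (inv_mem hc)), ?_⟩
              rw [show z * c * z⁻¹ * c⁻¹ = z * (c * z⁻¹ * c⁻¹) by group]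
              exact mul_mem hzW (hWn.conj_mem _ (inv_mem hzW) c)
            rw [hBW, mem_bot, ← commutatorElement_def, commutatorElement_eq_one_iff_mul_comm] at h1
            exact h1.symm
          have hk2 : k * u⁻¹ * k⁻¹ ∈ W := hWn.conj_mem _ (inv_mem hu) k
          rw [show v * (u * (k * u⁻¹ * k⁻¹))⁻¹ = z by
            rw [hz, mul_inv_rev, show (k * u⁻¹ * k⁻¹)⁻¹ = k * u * k⁻¹ by group,
              comm_mem hWc (hWn.conj_mem u hu k) (inv_mem hu), ← mul_assoc,
              comm_mem hWc hv (inv_mem hu)]]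
          exact ⟨hzW, hzc⟩
        exact ⟨one v₁ hv₁ _ (le_normalizer_D _ _ (subset_closure (Set.mem_insert _ _)))
            (subset_closure (Set.mem_insert _ _)),
          one v₂ hv₂ _ (le_normalizer_D _ _ (subset_closure (Set.mem_insert_of_mem _ rfl)))
            (subset_closure (Set.mem_insert_of_mem _ rfl))⟩
      -- counting
      haveI : IsMulCommutative W := hWc
      have hnZ : ∀ k ∈ ({(a₀ : G), (b₀ : G)} : Set G), ∀ z ∈ Z, k * z * k⁻¹ ∈ Z := by
        intro k hk z hz
        refine ⟨hWn.conj_mem z hz.1 k, mem_centralizer_iff.mpr fun c hc => ?_⟩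
        have hkN : k⁻¹ ∈ normalizer (C₀ : Set G) :=
          inv_mem (le_normalizer_D _ _ (subset_closure hk))
        have h1 := mem_centralizer_iff.mp hz.2 _ ((mem_normalizer_iff.mp hkN c).mp hc)
        rw [inv_inv] at h1
        calc c * (k * z * k⁻¹) = k * (k⁻¹ * c * k * z) * k⁻¹ := by group
          _ = k * (z * (k⁻¹ * c * k)) * k⁻¹ := by rw [h1]
          _ = k * z * k⁻¹ * c := by group
      set ZW : Subgroup W := Z.subgroupOf W with hZWdef
      let Q := W ⧸ ZW
      let δ : G → W → W := fun k u =>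
        ⟨(u : G) * (k * (u : G)⁻¹ * k⁻¹), mul_mem u.2 (hWn.conj_mem _ (inv_mem u.2) k)⟩
      let f : Q → Q × Q := fun q => (QuotientGroup.mk (δ a₀ q.out), QuotientGroup.mk (δ b₀ q.out))
      have hsurj : Function.Surjective f := by
        rintro ⟨q₁, q₂⟩
        obtain ⟨v₁, rfl⟩ := QuotientGroup.mk_surjective q₁
        obtain ⟨v₂, rfl⟩ := QuotientGroup.mk_surjective q₂
        obtain ⟨u, hu, h1, h2⟩ := key v₁ v₁.2 v₂ v₂.2
        refine ⟨QuotientGroup.mk ⟨u, hu⟩, ?_⟩
        obtain ⟨z₀, hz₀⟩ := QuotientGroup.mk_out_eq_mul ZW (⟨u, hu⟩ : W)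
        have hk : ∀ k ∈ ({(a₀ : G), (b₀ : G)} : Set G), ∀ v : W,
            (v : G) * (u * (k * u⁻¹ * k⁻¹))⁻¹ ∈ Z →
            (QuotientGroup.mk (δ k (QuotientGroup.mk (⟨u, hu⟩ : W) : Q).out) : Q) =
              QuotientGroup.mk v := by
          intro k hk v hv
          have hz : ((z₀ : W) : G) ∈ Z := z₀.2
          have hzk : k * ((z₀ : W) : G)⁻¹ * k⁻¹ ∈ Z := hnZ k hk _ (inv_mem hz)
          have hq : δ k ((⟨u, hu⟩ : W) * z₀) =
              δ k ⟨u, hu⟩ * ((z₀ : W) * ⟨k * ((z₀ : W) : G)⁻¹ * k⁻¹, hzk.1⟩) := by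
            refine Subtype.ext ?_
            simp only [δ, Subgroup.coe_mul, mul_inv_rev]
            have hcm := comm_mem hWc (z₀ : W).2 (hWn.conj_mem _ (inv_mem hu) k)
            calc u * ((z₀ : W) : G) * (k * (((z₀ : W) : G)⁻¹ * u⁻¹) * k⁻¹)
                = u * (((z₀ : W) : G) * ((k * ((z₀ : W) : G)⁻¹ * k⁻¹) * (k * u⁻¹ * k⁻¹))) := by group
              _ = u * (((z₀ : W) : G) * ((k * u⁻¹ * k⁻¹) * (k * ((z₀ : W) : G)⁻¹ * k⁻¹))) := by
                rw [comm_mem hWc hzk.1 (hWn.conj_mem _ (inv_mem hu) k)]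
              _ = u * ((((z₀ : W) : G) * (k * u⁻¹ * k⁻¹)) * (k * ((z₀ : W) : G)⁻¹ * k⁻¹)) := by group
              _ = u * (((k * u⁻¹ * k⁻¹) * ((z₀ : W) : G)) * (k * ((z₀ : W) : G)⁻¹ * k⁻¹)) := by
                rw [hcm]
              _ = _ := by group
          show (QuotientGroup.mk (δ k (Quotient.out _)) : Q) = _
          rw [hz₀, hq, QuotientGroup.eq]
          have h3 : ((z₀ : W) : W) * ⟨k * ((z₀ : W) : G)⁻¹ * k⁻¹, hzk.1⟩ ∈ ZW :=
            mul_mem (mul_mem hz hzk : _ ∈ Z) (one_mem Z) |> fun h => by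
              rw [mul_one] at h; exact h
          have h4 : (δ k ⟨u, hu⟩)⁻¹ * v ∈ ZW := by
            have : (δ k ⟨u, hu⟩)⁻¹ * v = v * (δ k ⟨u, hu⟩)⁻¹ := mul_comm' _ _
            rw [this]
            exact hv
          rw [mul_inv_rev, mul_assoc]
          exact mul_mem (inv_mem h3) h4
        exact Prod.ext (hk _ (Set.mem_insert _ _) v₁ h1) (hk _ (Set.mem_insert_of_mem _ rfl) v₂ h2)
      have h1 := Nat.card_le_card_of_surjective f hsurj
      rw [Nat.card_prod] at h1
      have h2 : 1 < Nat.card Q := by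
        show 1 < Nat.card (W ⧸ ZW)
        rw [← index_eq_card]
        refine one_lt_index_of_ne_top fun h => hZW fun v hv => ?_
        exact ((h ▸ mem_top (⟨v, hv⟩ : W)) : (⟨v, hv⟩ : W) ∈ ZW).2
      nlinarith
    · -- non-abelian `W`
      have hi : Even i := by
        by_contra hi
        exact hWc (comm_of_minimal W hW (isPGroup_of_isT (by simp [parity_simps, hi]) hWT) hmin)
      obtain ⟨q, hqf, Q, hQmove⟩ := exists_sylow_moved W hW hWD hQ hWT hWc hi
      set Q' : Subgroup G := (Q : Subgroup W).map W.subtype with hQ'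
      set N := normalizer (Q' : Set G) with hN
      have hNtop : N ≠ ⊤ := by
        intro h
        haveI : Q'.Normal := normalizer_eq_top_iff.mp h
        rcases hmin Q' inferInstance (map_subtype_le _) with hb | ht
        · refine hQmove fun d _ => ?_
          rw [hb, coe_bot, mem_centralizer_iff]
          rintro _ rfl
          simp
        · exact hWc (comm_of_minimal (q := q) W hW (ht ▸ Q.2.map W.subtype) hmin)
      have hcardN : Nat.card N ≤ n := by
        have : Nat.card N < Nat.card G := lt_of_le_of_ne (Subgroup.card_le_card_group N)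
          fun e => hNtop (eq_top_of_card_eq N e)
        omega
      have hmapN : ((⊤ : Subgroup N).map N.subtype) = N := by
        rw [← MonoidHom.range_eq_map, range_subtype]
      have hne : D p (i + 2) (⊤ : Subgroup N) ≠ ⊥ := by
        intro h
        refine hQmove ?_
        have h' : D p (i + 2) N = ⊥ := by
          rw [← hmapN, ← D_map, h, Subgroup.map_bot]
        have hT : IsT p i (D p (i + 1) N) := isT_add_two.mp (isT_of_D_succ_eq_bot h')
        have hQT : IsT p (i + 1) Q' := hWT.mono (map_subtype_le _)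
        have hbot := inf_eq_bot_of_isT hT hQT
        intro d hd
        refine mem_centralizer_iff.mpr fun y hy => ?_
        replace hy : y ∈ Q' := hy
        have h1 : d * y * d⁻¹ * y⁻¹ ∈ D p (i + 1) N ⊓ Q' := by
          refine ⟨?_, Q'.mul_mem ((mem_normalizer_iff.mp (D_le _ _ hd) y).mp hy) (Q'.inv_mem hy)⟩
          rw [show d * y * d⁻¹ * y⁻¹ = d * (y * d⁻¹ * y⁻¹) by group]
          exact mul_mem hd ((mem_normalizer_iff.mp
            (le_normalizer_D _ _ (show y ∈ N from le_normalizer hy)) _).mp (inv_mem hd))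
        rw [hbot, mem_bot, ← commutatorElement_def, commutatorElement_eq_one_iff_mul_comm] at h1
        exact h1.symm
      obtain ⟨a, b, hab⟩ := ih N hcardN (HallSolvable.isPSolvable_subgroup hs N) _ hne
      refine ⟨a, b, fun h => hab ?_⟩
      rw [← map_eq_bot_iff_of_injective _ N.subtype_injective, D_map, closure_pair_map]
      exact h

end Cfsg.Agent.PowellResidual59
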