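import Mathlib

/-!
Regular normal subgroups of multiply primitive groups.
-/

set_option autoImplicit false

namespace Cfsg.Agent.PrimRegularNormal28

open MulAction Pointwise

variable {G X : Type*} [Group G] [MulAction G X] (N : Subgroup G) [N.Normal]

theorem smul_conj {x : X} {g : G} (hg : g • x = x) (n : G) : g • (n • x) = (g * n * g⁻¹) • x := by
  rw [mul_smul, mul_smul, inv_smul_eq_iff.2 hg.symm]

theorem eq_of_smul {x : X} (hreg : stabilizer N x = ⊥) {a b : G} (ha : a ∈ N) (hb : b ∈ N)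
    (h : a • x = b • x) : a = b := by
  have h1 : (⟨b, hb⟩ : N)⁻¹ * ⟨a, ha⟩ ∈ stabilizer N x := by
    rw [mem_stabilizer_iff, Subgroup.smul_def]
    show (b⁻¹ * a) • x = x
    rw [mul_smul, h, inv_smul_smul]
  rw [hreg, Subgroup.mem_bot, inv_mul_eq_one] at h1
  exact (congrArg Subtype.val h1).symm

theorem exists_of_transitive (htrans : IsPretransitive N X) (x y : X) : ∃ n ∈ N, n • x = y := by
  obtain ⟨⟨n, hn⟩, h⟩ := htrans.exists_smul_eq x y
  exact ⟨n, hn, h⟩

/-- A two-element block in the action of a point stabiliser. -/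
theorem block_eq_univ {s : Set X} {x : X} (hx : x ∈ s) (hreg : stabilizer N x = ⊥)
    (hprim : IsPreprimitive (fixingSubgroup G s) (SubMulAction.ofFixingSubgroup G s))
    {a b : G} (ha : a ∈ N) (hb : b ∈ N) (has : a • x ∉ s) (hbs : b • x ∉ s) (hab : a ≠ b)
    (hpair : ∀ g ∈ fixingSubgroup G s, (g * a * g⁻¹ = a ∨ g * a * g⁻¹ = b ∨ g * b * g⁻¹ = a ∨ g * b * g⁻¹ = b) →
      (g * a * g⁻¹ = a ∧ g * b * g⁻¹ = b) ∨ (g * a * g⁻¹ = b ∧ g * b * g⁻¹ = a)) :
    ∀ y : X, y ∈ s ∨ y = a • x ∨ y = b • x := by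
  classical
  set T := SubMulAction.ofFixingSubgroup G s with hT
  let A : T := ⟨a • x, has⟩
  let B : T := ⟨b • x, hbs⟩
  have hne : A ≠ B := fun e => hab (eq_of_smul N hreg ha hb (congrArg Subtype.val e))
  have hfix : ∀ g : fixingSubgroup G s, (g : G) • x = x := fun g => (mem_fixingSubgroup_iff G).1 g.2 x hx
  have hval : ∀ (g : fixingSubgroup G s) (u : T), ((g • u : T) : X) = (g : G) • (u : X) := fun g u => rfl
  have hblock : IsBlock (fixingSubgroup G s) ({A, B} : Set T) := by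
    rw [isBlock_iff_smul_eq_or_disjoint]
    intro g
    have hgA : ((g • A : T) : X) = ((g : G) * a * (g : G)⁻¹) • x := by rw [hval]; exact smul_conj (hfix g) a
    have hgB : ((g • B : T) : X) = ((g : G) * b * (g : G)⁻¹) • x := by rw [hval]; exact smul_conj (hfix g) b
    have hca := Subgroup.Normal.conj_mem ‹N.Normal› a ha (g : G)
    have hcb := Subgroup.Normal.conj_mem ‹N.Normal› b hb (g : G)
    rw [Set.smul_set_insert, Set.smul_set_singleton]
    by_cases h : (g : G) * a * (g : G)⁻¹ = a ∨ (g : G) * a * (g : G)⁻¹ = b ∨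
        (g : G) * b * (g : G)⁻¹ = a ∨ (g : G) * b * (g : G)⁻¹ = b
    · left
      rcases hpair g g.2 h with ⟨e1, e2⟩ | ⟨e1, e2⟩
      · rw [show g • A = A from Subtype.ext (by rw [hgA, e1]), show g • B = B from Subtype.ext (by rw [hgB, e2])]
      · rw [show g • A = B from Subtype.ext (by rw [hgA, e1]), show g • B = A from Subtype.ext (by rw [hgB, e2]),
          Set.pair_comm]
    · right
      rw [Set.disjoint_left]
      rintro u (rfl | rfl) (hu | hu)
      · exact h (.inl (eq_of_smul N hreg hca ha (hgA ▸ congrArg Subtype.val hu)))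
      · exact h (.inr (.inl (eq_of_smul N hreg hca hb (hgA ▸ congrArg Subtype.val hu))))
      · exact h (.inr (.inr (.inl (eq_of_smul N hreg hcb ha (hgB ▸ congrArg Subtype.val hu)))))
      · exact h (.inr (.inr (.inr (eq_of_smul N hreg hcb hb (hgB ▸ congrArg Subtype.val hu)))))
  intro y
  by_cases hy : y ∈ s
  · exact .inl hy
  right
  rcases hprim.isTrivialBlock_of_isBlock hblock with h | h
  · exact absurd (h (Set.mem_insert A {B}) (Set.mem_insert_of_mem A rfl)) hne
  · have : (⟨y, hy⟩ : T) ∈ ({A, B} : Set T) := h ▸ Set.mem_univ _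
    rcases this with e | e
    · exact .inl (congrArg Subtype.val e)
    · exact .inr (congrArg Subtype.val e)

theorem elementary (x : X) [Finite X] (htrans : IsPretransitive N X) (hreg : stabilizer N x = ⊥)
    (hnt : Nontrivial X) (h2 : IsMultiplyPretransitive G X 2) :
    ∃ p : ℕ, p.Prime ∧ IsMulCommutative N ∧ (∀ n ∈ N, n ^ p = 1) ∧ ∃ m : ℕ, Nat.card X = p ^ m := by
  classical
  have hcard : Nat.card N = Nat.card X := by
    refine Nat.card_eq_of_bijective (fun n : N => n • x) ⟨fun a b e => ?_, fun y => ?_⟩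
    · exact Subtype.ext (eq_of_smul N hreg a.2 b.2 e)
    · obtain ⟨n, hn, e⟩ := exists_of_transitive N htrans x y
      exact ⟨⟨n, hn⟩, e⟩
  haveI : Finite N := Nat.finite_of_card_ne_zero (hcard ▸ Nat.card_pos.ne')
  have hN1 : Nat.card N ≠ 1 := fun e => absurd (hcard ▸ e) Finite.one_lt_card.ne'
  obtain ⟨p, hp, hpd⟩ := Nat.exists_prime_and_dvd hN1
  haveI := Fact.mk hp
  obtain ⟨e₀, he₀⟩ := exists_prime_orderOf_dvd_card' (G := N) p hpd
  have hconj : ∀ a b : N, a ≠ 1 → b ≠ 1 → ∃ g : G, g * (a : G) * g⁻¹ = b := by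
    intro a b ha hb
    have hx1 : ∀ c : N, c ≠ 1 → x ≠ (c : G) • x := fun c hc e => hc (Subtype.ext
      (eq_of_smul N hreg c.2 N.one_mem (by rw [one_smul]; exact e.symm) :))
    obtain ⟨g, hgx, hga⟩ := is_two_pretransitive_iff.1 h2 (hx1 a ha) (hx1 b hb)
    rw [smul_conj hgx] at hga
    exact ⟨g, eq_of_smul N hreg (Subgroup.Normal.conj_mem ‹N.Normal› _ a.2 g) b.2 hga⟩
  have he1 : e₀ ≠ 1 := fun e => hp.ne_one (by rw [← he₀, e, orderOf_one])
  have hord : ∀ a : N, a ≠ 1 → orderOf a = p := by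
    intro a ha
    obtain ⟨g, hg⟩ := hconj e₀ a he1 ha
    rw [← Subgroup.orderOf_coe, ← hg, ← MulAut.conj_apply, MulEquiv.orderOf_eq, Subgroup.orderOf_coe, he₀]
  have hpg : IsPGroup p N := fun a => by
    by_cases ha : a = 1
    · exact ⟨0, by simp [ha]⟩
    · exact ⟨1, by rw [pow_one, ← hord a ha, pow_orderOf_eq_one]⟩
  haveI : Nontrivial N := ⟨⟨e₀, 1, he1⟩⟩
  haveI := hpg.center_nontrivial
  obtain ⟨z, hz⟩ := exists_ne (1 : Subgroup.center N)
  have hall : ∀ a b : N, a * b = b * a := by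
    intro a b
    by_cases ha : a = 1
    · simp [ha]
    obtain ⟨g, hg⟩ := hconj z a (fun e => hz (Subtype.ext e)) ha
    have hb' : g⁻¹ * (b : G) * g ∈ N := by
      simpa using Subgroup.Normal.conj_mem ‹N.Normal› _ b.2 g⁻¹
    have hc : g⁻¹ * (b : G) * g * ((z : N) : G) = ((z : N) : G) * (g⁻¹ * (b : G) * g) :=
      congrArg Subtype.val (Subgroup.mem_center_iff.1 z.2 ⟨_, hb'⟩)
    refine Subtype.ext ?_
    show (a : G) * b = b * a
    rw [← hg]
    calc g * ((z : N) : G) * g⁻¹ * b = g * (((z : N) : G) * (g⁻¹ * b * g)) * g⁻¹ := by group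
      _ = g * (g⁻¹ * b * g * ((z : N) : G)) * g⁻¹ := by rw [hc]
      _ = b * (g * ((z : N) : G) * g⁻¹) := by group
  refine ⟨p, hp, ⟨⟨hall⟩⟩, fun n hn => ?_, ?_⟩
  · by_cases h1 : (⟨n, hn⟩ : N) = 1
    · rw [show n = 1 from congrArg Subtype.val h1, one_pow]
    · have := pow_orderOf_eq_one (⟨n, hn⟩ : N)
      rw [hord _ h1] at this
      exact congrArg Subtype.val this
  · obtain ⟨m, hm⟩ := hpg.exists_card_eq
    exact ⟨m, by rw [← hcard, hm]⟩

/-- Doubly primitive groups. -/
theorem two_primitive [Fintype X] (hX : 2 ≤ Fintype.card X) (h2 : IsMultiplyPreprimitive G X 2)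
    (htrans : IsPretransitive N X) (hreg : ∀ x : X, stabilizer N x = ⊥) :
    Fintype.card X = 3 ∨ (IsMulCommutative N ∧ (∀ n ∈ N, n ^ 2 = 1) ∧ ∃ m : ℕ, Fintype.card X = 2 ^ m) := by
  classical
  haveI hnt : Nontrivial X := Fintype.one_lt_card_iff_nontrivial.1 (by omega)
  obtain ⟨x⟩ : Nonempty X := inferInstance
  obtain ⟨p, hp, hc, hexp, m, hm⟩ := elementary N x htrans (hreg x) hnt
    (IsMultiplyPreprimitive.isMultiplyPretransitive G X 2)
  rw [Nat.card_eq_fintype_card] at hm
  by_cases h22 : ∀ n ∈ N, n ^ 2 = 1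
  · refine .inr ⟨hc, h22, ?_⟩
    obtain ⟨y, hy⟩ := exists_ne x
    obtain ⟨n, hn, hny⟩ := exists_of_transitive N htrans x y
    have hn1 : n ≠ 1 := fun e => hy (by rw [← hny, e, one_smul])
    have hd : orderOf n ∣ Nat.gcd p 2 := Nat.dvd_gcd (orderOf_dvd_of_pow_eq_one (hexp n hn))
      (orderOf_dvd_of_pow_eq_one (h22 n hn))
    have hp2 : p = 2 := by
      by_contra hne
      rw [(Nat.coprime_primes hp Nat.prime_two).2 hne, Nat.dvd_one, orderOf_eq_one_iff] at hd
      exact hn1 hd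
    exact ⟨m, hp2 ▸ hm⟩
  left
  push Not at h22
  obtain ⟨a, ha, ha2⟩ := h22
  have hinv : a ≠ a⁻¹ := fun e => ha2 (by rw [pow_two]; nth_rewrite 2 [e]; exact mul_inv_cancel a)
  have hout : ∀ c ∈ N, c ≠ 1 → c • x ∉ ({x} : Set X) := fun c hc' h1 e =>
    h1 (eq_of_smul N (hreg x) hc' N.one_mem (by rw [one_smul]; exact e))
  have ha1 : a ≠ 1 := fun e => ha2 (by rw [e, one_pow])
  have hax := hout a ha ha1
  have hbx := hout a⁻¹ (N.inv_mem ha) (inv_ne_one.2 ha1)
  have hall := block_eq_univ N (s := {x}) rfl (hreg x)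
    (IsMultiplyPreprimitive.isPreprimitive_ofFixingSubgroup G 2 (by rw [Set.encard_singleton]; rfl)) ha (N.inv_mem ha) hax hbx hinv (fun g _ h => by
      have hi : g * a⁻¹ * g⁻¹ = (g * a * g⁻¹)⁻¹ := by group
      rw [hi] at h ⊢
      rcases h with h | h | h | h
      · exact .inl ⟨h, by rw [h]⟩
      · exact .inr ⟨h, by rw [h, inv_inv]⟩
      · rw [inv_eq_iff_eq_inv] at h; exact .inr ⟨h, by rw [h, inv_inv]⟩
      · exact .inl ⟨inv_inj.1 h, h⟩)
  have huniv : (Finset.univ : Finset X) = {x, a • x, a⁻¹ • x} := by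
    refine (Finset.eq_univ_iff_forall.2 fun y => ?_).symm
    rcases hall y with e | e | e
    · simp [Set.mem_singleton_iff.1 e]
    · simp [e]
    · simp [e]
  rw [← Finset.card_univ, huniv]
  exact Finset.card_eq_three.2 ⟨_, _, _, fun e => hax (e.symm : a • x = x), fun e => hbx (e.symm : a⁻¹ • x = x),
    fun e => hinv (eq_of_smul N (hreg x) ha (N.inv_mem ha) e), rfl⟩

/-- Triply primitive groups. -/
theorem three_primitive [Fintype X] (hX : 3 ≤ Fintype.card X) (h3 : IsMultiplyPreprimitive G X 3)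
    (htrans : IsPretransitive N X) (hreg : ∀ x : X, stabilizer N x = ⊥) :
    Fintype.card X = 3 ∨ Fintype.card X = 4 := by
  classical
  haveI hnt : Nontrivial X := Fintype.one_lt_card_iff_nontrivial.1 (by omega)
  have h2 : IsMultiplyPreprimitive G X 2 := isMultiplyPreprimitive_of_le G X h3 (by norm_num)
    (by rw [ENat.card_eq_coe_fintype_card]; exact_mod_cast hX)
  rcases two_primitive N (by omega) h2 htrans hreg with h | ⟨hc, hexp, -⟩
  · exact .inl h
  right
  obtain ⟨x⟩ : Nonempty X := inferInstance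
  obtain ⟨y, hy⟩ := exists_ne x
  obtain ⟨z, hz⟩ : ∃ z, z ∉ ({x, y} : Finset X) := by
    by_contra hcon
    push Not at hcon
    have := Finset.card_le_card (show (Finset.univ : Finset X) ⊆ {x, y} from fun w _ => hcon w)
    rw [Finset.card_univ, Finset.card_pair hy.symm] at this
    omega
  simp only [Finset.mem_insert, Finset.mem_singleton, not_or] at hz
  obtain ⟨a, ha, hay⟩ := exists_of_transitive N htrans x y
  obtain ⟨b, hb, hbz⟩ := exists_of_transitive N htrans x z
  have hbs : b • x ∉ ({x, y} : Set X) := by rw [hbz]; simp [hz.1, hz.2]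
  have haa : a * a = 1 := by rw [← pow_two]; exact hexp a ha
  have hab : a * b ∈ N := N.mul_mem ha hb
  have hb1 : b ≠ 1 := fun e => hz.1 (by rw [← hbz, e, one_smul])
  have hba : b ≠ a := fun e => hz.2 (by rw [← hbz, e, hay])
  have habs : (a * b) • x ∉ ({x, y} : Set X) := by
    rintro (e | e)
    · have h1 := eq_of_smul N (hreg x) hab N.one_mem (by rw [one_smul]; exact e)
      exact hba (inv_eq_of_mul_eq_one_right h1 ▸ (inv_eq_of_mul_eq_one_right haa))
    · have h1 := eq_of_smul N (hreg x) hab ha (e.trans hay.symm)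
      exact hb1 (mul_eq_left.1 h1)
  have hne : b ≠ a * b := fun e => by
    have : a = 1 := right_eq_mul.1 e
    exact hy (by rw [← hay, this, one_smul])
  have hall := block_eq_univ N (s := {x, y}) (Or.inl rfl) (hreg x)
    (IsMultiplyPreprimitive.isPreprimitive_ofFixingSubgroup G 3 (by rw [Set.encard_pair hy.symm]; rfl)) hb hab hbs habs hne
    (fun g hg h => by
      rw [mem_fixingSubgroup_iff] at hg
      have hgx := hg x (Or.inl rfl)
      have hga : g * a * g⁻¹ = a := eq_of_smul N (hreg x) (Subgroup.Normal.conj_mem ‹N.Normal› a ha g) ha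
        (by rw [← smul_conj hgx, hay]; exact hg y (Or.inr rfl))
      have hmul : g * (a * b) * g⁻¹ = a * (g * b * g⁻¹) := by
        rw [show g * (a * b) * g⁻¹ = g * a * g⁻¹ * (g * b * g⁻¹) by group, hga]
      rw [hmul] at h ⊢
      rcases h with h | h | h | h
      · exact .inl ⟨h, by rw [h]⟩
      · exact .inr ⟨h, by rw [h, ← mul_assoc, haa, one_mul]⟩
      · refine .inr ⟨?_, h⟩
        calc g * b * g⁻¹ = a * (a * (g * b * g⁻¹)) := by rw [← mul_assoc, haa, one_mul]
          _ = a * b := by rw [h]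
      · exact .inl ⟨mul_left_cancel h, h⟩)
  have huniv : (Finset.univ : Finset X) = {x, y, b • x, (a * b) • x} := by
    refine (Finset.eq_univ_iff_forall.2 fun w => ?_).symm
    rcases hall w with e | e | e
    · rcases e with rfl | rfl <;> simp
    · simp [e]
    · simp [e]
  rw [← Finset.card_univ, huniv]
  simp only [Set.mem_insert_iff, Set.mem_singleton_iff, not_or] at hbs habs
  have hne' : b • x ≠ (a * b) • x := fun e => hne (eq_of_smul N (hreg x) hb hab e)
  simp [Finset.card_insert_of_notMem, hy.symm, Ne.symm hbs.1, Ne.symm hbs.2, Ne.symm habs.1,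
    Ne.symm habs.2, hne']

end Cfsg.Agent.PrimRegularNormal28
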