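import Mathlib
import Cfsg.Agent.Lib.PrimRegularNormal28
import Cfsg.Agent.Lib.SharplyTwoTransitive
import Cfsg.Agent.Lib.PermBasic

/-!
Normal subgroups of multiply primitive and multiply transitive groups.
-/

set_option autoImplicit false
set_option linter.style.haveILetI false

namespace Cfsg.Agent.PrimNormalMultiple28

open MulAction

universe u v

section

variable {G : Type u} [Group G] {X : Type v} [MulAction G X]

theorem faithful_stabilizer [FaithfulSMul G X] (a : X) :
    FaithfulSMul (stabilizer G a) (SubMulAction.ofStabilizer G a) := by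
  refine ⟨fun {g h} e => Subtype.ext (eq_of_smul_eq_smul (α := X) fun x => ?_)⟩
  by_cases hx : x = a
  · subst hx; rw [g.2, h.2]
  · exact congrArg Subtype.val (e ⟨x, hx⟩)

theorem finite_of_faithful [FaithfulSMul G X] [Finite X] : Finite G :=
  Finite.of_injective (fun g : G => (fun x : X => g • x)) fun _ _ e => eq_of_smul_eq_smul (congrFun e)

/-- The point stabiliser of a normal subgroup, inside the point stabiliser. -/
theorem stabilizer_step (N : Subgroup G) [IsPretransitive N X] (a : X) {k : ℕ}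
    (h : IsMultiplyPretransitive (N.subgroupOf (stabilizer G a)) (SubMulAction.ofStabilizer G a) k) :
    IsMultiplyPretransitive N X (k + 1) := by
  rw [SubMulAction.ofStabilizer.isMultiplyPretransitive (a := a)]
  let φ : N.subgroupOf (stabilizer G a) → stabilizer N a := fun g => ⟨⟨((g : stabilizer G a) : G), g.2⟩, (g : stabilizer G a).2⟩
  let f : SubMulAction.ofStabilizer G a →ₑ[φ] SubMulAction.ofStabilizer N a :=
    { toFun := fun x => ⟨(x : X), x.2⟩
      map_smul' := fun g x => rfl }
  exact IsPretransitive.of_embedding (f := f) fun x => ⟨⟨(x : X), x.2⟩, rfl⟩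

theorem card_ofStabilizer [Finite X] (a : X) :
    Nat.card (SubMulAction.ofStabilizer G a) = Nat.card X - 1 :=
  SubMulAction.nat_card_ofStabilizer_eq G a

/-- A primitive group: normal subgroups are transitive. -/
theorem one_step [FaithfulSMul G X] (h : IsMultiplyPreprimitive G X 1) (N : Subgroup G) [N.Normal]
    (hN : N ≠ ⊥) : IsPretransitive N X := by
  haveI := (is_one_preprimitive_iff G X).1 h
  exact PermBasic.isPretransitive_of_normal N hN

theorem primitive_one_of [Finite X] {k : ℕ} (hk : 1 ≤ k) (hkn : k ≤ Nat.card X)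
    (h : IsMultiplyPreprimitive G X k) : IsMultiplyPreprimitive G X 1 :=
  isMultiplyPreprimitive_of_le G X h hk (by
    rw [ENat.card_eq_coe_natCard]; exact_mod_cast hkn)

theorem stabilizer_ne_bot_iff (N : Subgroup G) [N.Normal] [IsPretransitive G X] (a b : X)
    (h : stabilizer N a = ⊥) : stabilizer N b = ⊥ := by
  obtain ⟨g, rfl⟩ := exists_smul_eq G a b
  rw [Subgroup.eq_bot_iff_forall]
  intro n hn
  have hc : g⁻¹ * (n : G) * g ∈ N := by simpa using Subgroup.Normal.conj_mem ‹N.Normal› _ n.2 g⁻¹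
  have : (⟨_, hc⟩ : N) ∈ stabilizer N a := by
    rw [mem_stabilizer_iff, Subgroup.smul_def]
    show (g⁻¹ * (n : G) * g) • a = a
    rw [mul_smul, mul_smul, inv_smul_eq_iff]
    exact hn
  rw [h, Subgroup.mem_bot] at this
  refine Subtype.ext ?_
  calc (n : G) = g * (g⁻¹ * (n : G) * g) * g⁻¹ := by group
    _ = 1 := by rw [show g⁻¹ * (n : G) * g = 1 from congrArg Subtype.val this]; group

end

/-- A non-regular normal subgroup of a multiply primitive group is equally transitive. -/
theorem normal_multiply : ∀ (k : ℕ) {G : Type u} {X : Type v} [Group G] [Finite X] [MulAction G X]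
    [FaithfulSMul G X], 1 ≤ k → k + 2 ≤ Nat.card X → IsMultiplyPreprimitive G X k →
    ∀ (N : Subgroup G) [N.Normal], N ≠ ⊥ → (k = 1 ∨ ∃ a : X, stabilizer N a ≠ ⊥) →
    IsMultiplyPretransitive N X k := by
  intro k
  induction k with
  | zero => intros; omega
  | succ k ih =>
    intro G X _ _ _ _ _ hn hG N _ hN hnr
    classical
    have := finite_of_faithful (G := G) (X := X)
    have h1 := primitive_one_of (by omega) (by omega) hG
    haveI := (is_one_preprimitive_iff G X).1 h1
    haveI htr : IsPretransitive N X := one_step h1 N hN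
    rcases Nat.eq_zero_or_pos k with rfl | hk
    · exact is_one_pretransitive_iff.2 htr
    obtain ⟨a₀, ha₀⟩ := hnr.resolve_left (by omega)
    refine stabilizer_step N a₀ ?_
    haveI := faithful_stabilizer (G := G) a₀
    haveI : IsMultiplyPreprimitive G X k.succ := hG
    have hP : IsMultiplyPreprimitive (stabilizer G a₀) (SubMulAction.ofStabilizer G a₀) k :=
      isMultiplyPreprimitive_ofStabilizer G X
    set M := N.subgroupOf (stabilizer G a₀) with hM
    have hMne : M ≠ ⊥ := by
      intro e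
      apply ha₀
      rw [Subgroup.eq_bot_iff_forall]
      intro n hn'
      have : (⟨(n : G), hn'⟩ : stabilizer G a₀) ∈ M := n.2
      rw [e, Subgroup.mem_bot] at this
      exact Subtype.ext (congrArg Subtype.val this :)
    have hcard := card_ofStabilizer (G := G) a₀
    refine ih hk (by omega) hP M hMne ?_
    by_cases hk1 : k = 1
    · exact .inl hk1
    right
    by_contra hcon
    push Not at hcon
    haveI := Fintype.ofFinite X
    haveI := Fintype.ofFinite (SubMulAction.ofStabilizer G a₀)
    haveI hMtr : IsPretransitive M (SubMulAction.ofStabilizer G a₀) :=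
      one_step (primitive_one_of (by omega) (by omega) hP) M hMne
    by_cases hk3 : 3 ≤ k
    · have := PrimRegularNormal28.three_primitive M (by rw [← Nat.card_eq_fintype_card]; omega)
        (isMultiplyPreprimitive_of_le _ _ hP hk3 (by rw [ENat.card_eq_coe_natCard]; exact_mod_cast (by omega)))
        hMtr hcon
      rw [← Nat.card_eq_fintype_card] at this
      omega
    have hk2 : k = 2 := by omega
    subst hk2
    rcases PrimRegularNormal28.two_primitive M (by rw [← Nat.card_eq_fintype_card]; omega) hP hMtr hcon with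
      h3 | ⟨-, -, m, hm⟩
    · rw [← Nat.card_eq_fintype_card] at h3; omega
    rw [← Nat.card_eq_fintype_card] at hm
    have hm0 : m ≠ 0 := fun e => by rw [e, pow_zero] at hm; omega
    -- `N` is sharply doubly transitive
    have hN2 : IsMultiplyPretransitive N X 2 :=
      stabilizer_step N a₀ (is_one_pretransitive_iff.2 hMtr)
    have hsharp : ∀ (g : N) (a b : X), a ≠ b → g • a = a → g • b = b → g = 1 := by
      intro g a b hab ha hb
      obtain ⟨c, hca⟩ := exists_smul_eq G a a₀
      have hcb : c • b ≠ a₀ := fun e => hab (MulAction.injective c (hca.trans e.symm))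
      have hconj : c * (g : G) * c⁻¹ ∈ N := Subgroup.Normal.conj_mem ‹N.Normal› _ g.2 c
      have hfa : c * (g : G) * c⁻¹ ∈ stabilizer G a₀ := by
        rw [mem_stabilizer_iff, ← hca, mul_smul, mul_smul, inv_smul_smul, show (g : G) • a = a from ha]
      have hmem : (⟨⟨_, hfa⟩, hconj⟩ : M) ∈ stabilizer M (⟨c • b, hcb⟩ : SubMulAction.ofStabilizer G a₀) := by
        rw [mem_stabilizer_iff]
        apply Subtype.ext
        show (c * (g : G) * c⁻¹) • (c • b) = c • b
        rw [mul_smul, mul_smul, inv_smul_smul, show (g : G) • b = b from hb]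
      rw [hcon, Subgroup.mem_bot] at hmem
      have hm1 : c * (g : G) * c⁻¹ = 1 := congrArg (fun u : M => ((u : stabilizer G a₀) : G)) hmem
      exact Subtype.ext (conj_eq_one_iff.1 hm1)
    obtain ⟨K, p, j, hp, hj, hXp, -, -, hKn, hKc, hKp, hKmem, hKtr⟩ :=
      SharplyTwoTransitive.kernel_exists hN2 hsharp (by omega)
    set K' := K.map N.subtype with hK'
    haveI : K'.Normal := by
      refine ⟨?_⟩
      rintro _ ⟨n, hn', rfl⟩ g
      refine ⟨⟨g * (n : G) * g⁻¹, Subgroup.Normal.conj_mem ‹N.Normal› _ n.2 g⟩, ?_, rfl⟩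
      rw [SetLike.mem_coe, hKmem] at hn' ⊢
      rcases hn' with rfl | hfix
      · exact .inl (Subtype.ext (by simp))
      · refine .inr fun x e => hfix (g⁻¹ • x) ?_
        have e' : (g * (n : G) * g⁻¹) • x = x := e
        rw [mul_smul, mul_smul, ← eq_inv_smul_iff] at e'
        exact e'
    haveI hK'tr : IsPretransitive K' X := ⟨fun x y => by
      obtain ⟨⟨n, hn'⟩, e⟩ := hKtr.exists_smul_eq x y
      exact ⟨⟨(n : G), n, hn', rfl⟩, e⟩⟩
    have hK'reg : ∀ x : X, stabilizer K' x = ⊥ := by
      intro x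
      rw [Subgroup.eq_bot_iff_forall]
      rintro ⟨_, n, hn', rfl⟩ hx
      rw [SetLike.mem_coe, hKmem] at hn'
      rcases hn' with rfl | hfix
      · rfl
      · exact absurd hx (hfix x)
    have hG2 : IsMultiplyPreprimitive G X 2 :=
      isMultiplyPreprimitive_of_le G X hG (by norm_num) (by rw [ENat.card_eq_coe_natCard]; exact_mod_cast (by omega))
    rcases PrimRegularNormal28.two_primitive K' (by rw [← Nat.card_eq_fintype_card]; omega) hG2 hK'tr hK'reg with
      h3 | ⟨-, -, m', hm'⟩
    · rw [← Nat.card_eq_fintype_card] at h3; omega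
    rw [← Nat.card_eq_fintype_card] at hm'
    have hm'0 : m' ≠ 0 := fun e => by rw [e, pow_zero] at hm'; omega
    obtain ⟨r, hr⟩ := (dvd_pow_self 2 hm0 : 2 ∣ 2 ^ m)
    obtain ⟨r', hr'⟩ := (dvd_pow_self 2 hm'0 : 2 ∣ 2 ^ m')
    omega

/-- Jordan: normal subgroups of multiply transitive groups. -/
theorem jordan {G : Type u} {X : Type v} [Group G] [Finite X] [MulAction G X] [FaithfulSMul G X]
    {k : ℕ} (hk : 1 < k) (hdeg : k < Nat.card X) (hG : IsMultiplyPretransitive G X k) (N : Subgroup G)
    [N.Normal] (hN : N ≠ ⊥) :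
    IsMultiplyPretransitive N X (k - 1) ∨
      (k = 3 ∧ IsMulCommutative N ∧ ∀ n ∈ N, n ^ 2 = 1) := by
  classical
  haveI := Fintype.ofFinite X
  have hP : IsMultiplyPreprimitive G X (k - 1) := by
    haveI : IsMultiplyPretransitive G X (k - 1).succ := by
      rwa [Nat.succ_eq_add_one, Nat.sub_add_cancel (by omega)]
    exact isMultiplyPreprimitive_of_isMultiplyPretransitive_succ G X
      (by rw [ENat.card_eq_coe_natCard]; exact_mod_cast (by omega))
  by_cases hk2 : k - 1 = 1
  · exact .inl (normal_multiply (k - 1) (by omega) (by omega) hP N hN (.inl hk2))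
  by_cases hnr : ∃ a : X, stabilizer N a ≠ ⊥
  · exact .inl (normal_multiply (k - 1) (by omega) (by omega) hP N hN (.inr hnr))
  push Not at hnr
  have h1 := primitive_one_of (by omega) (by omega) hP
  haveI htr : IsPretransitive N X := one_step h1 N hN
  have h2 : IsMultiplyPreprimitive G X 2 :=
    isMultiplyPreprimitive_of_le G X hP (by omega) (by rw [ENat.card_eq_coe_natCard]; exact_mod_cast (by omega))
  by_cases hk4 : 4 ≤ k
  · have := PrimRegularNormal28.three_primitive N (by rw [← Nat.card_eq_fintype_card]; omega)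
      (isMultiplyPreprimitive_of_le G X hP (by omega) (by rw [ENat.card_eq_coe_natCard]; exact_mod_cast (by omega)))
      htr hnr
    rw [← Nat.card_eq_fintype_card] at this
    omega
  rcases PrimRegularNormal28.two_primitive N (by rw [← Nat.card_eq_fintype_card]; omega) h2 htr hnr with
    h3 | ⟨hc, he, -⟩
  · rw [← Nat.card_eq_fintype_card] at h3; omega
  exact .inr ⟨by omega, hc, he⟩

/-- Normal subgroups of triply transitive groups of odd degree. -/
theorem odd_triple {G : Type u} {X : Type v} [Group G] [Finite X] [MulAction G X] [FaithfulSMul G X]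
    (hodd : Odd (Nat.card X)) (h5 : 5 ≤ Nat.card X) (hG : IsMultiplyPretransitive G X 3) (N : Subgroup G)
    [N.Normal] (hN : N ≠ ⊥) : IsMultiplyPretransitive N X 3 := by
  classical
  have := finite_of_faithful (G := G) (X := X)
  haveI := Fintype.ofFinite X
  have h2 : IsMultiplyPretransitive N X 2 := by
    rcases jordan (by norm_num) (by omega) hG N hN with h | ⟨-, hc, he⟩
    · exact h
    exfalso
    have hP : IsMultiplyPreprimitive G X 2 :=
      isMultiplyPreprimitive_of_isMultiplyPretransitive_succ G X (n := 2) (by rw [ENat.card_eq_coe_natCard]; exact_mod_cast (by omega))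
    haveI htr : IsPretransitive N X := one_step (primitive_one_of (by omega) (by omega) hP) N hN
    have hreg : ∀ x : X, stabilizer N x = ⊥ := by
      intro x
      rw [Subgroup.eq_bot_iff_forall]
      intro n hn
      refine Subtype.ext (eq_of_smul_eq_smul (α := X) fun y => ?_)
      obtain ⟨m, rfl⟩ := exists_smul_eq N x y
      rw [Subgroup.coe_one, one_smul]
      show (n : G) • (m : G) • x = (m : G) • x
      rw [← mul_smul, show (n : G) * (m : G) = (m : G) * n from congrArg Subtype.val (hc.is_comm.comm n m),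
        mul_smul, show (n : G) • x = x from hn]
    rcases PrimRegularNormal28.two_primitive N (by rw [← Nat.card_eq_fintype_card]; omega) hP htr hreg with
      h3 | ⟨-, -, m, hm⟩
    · rw [← Nat.card_eq_fintype_card] at h3; omega
    rw [← Nat.card_eq_fintype_card] at hm
    obtain ⟨r, hr⟩ := hodd
    have hm0 : m ≠ 0 := fun e => by rw [e, pow_zero] at hm; omega
    obtain ⟨r', hr'⟩ := (dvd_pow_self 2 hm0 : 2 ∣ 2 ^ m)
    omega
  haveI := h2
  obtain ⟨a, b, hab⟩ : ∃ a b : X, a ≠ b := by
    haveI : Nontrivial X := Finite.one_lt_card_iff_nontrivial.1 (by omega)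
    exact exists_pair_ne X
  set P2 : Set X := {a, b} with hP2
  have h3G : ∀ {u v w : X}, u ≠ v → u ≠ w → v ≠ w → ∀ {u' v' w' : X}, u' ≠ v' → u' ≠ w' → v' ≠ w' →
      ∃ g : G, g • u = u' ∧ g • v = v' ∧ g • w = w' := by
    intro u v w huv huw hvw u' v' w' huv' huw' hvw'
    let e : Fin 3 ↪ X := ⟨![u, v, w], by
      intro i j h; fin_cases i <;> fin_cases j <;> simp_all [eq_comm]⟩
    let e' : Fin 3 ↪ X := ⟨![u', v', w'], by
      intro i j h; fin_cases i <;> fin_cases j <;> simp_all [eq_comm]⟩
    obtain ⟨g, hg⟩ := (isMultiplyPretransitive_iff.1 hG) e e'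
    exact ⟨g, DFunLike.congr_fun hg 0, DFunLike.congr_fun hg 1, DFunLike.congr_fun hg 2⟩
  -- the pointwise and setwise stabilisers of the pair
  set L : Subgroup N := stabilizer N a ⊓ stabilizer N b with hL
  obtain ⟨t, hta, htb⟩ := is_two_pretransitive_iff.1 h2 hab hab.symm
  set M : Subgroup N :=
    { carrier := {n | (n • a = a ∧ n • b = b) ∨ (n • a = b ∧ n • b = a)}
      one_mem' := .inl ⟨one_smul _ _, one_smul _ _⟩
      mul_mem' := by
        rintro x y (⟨xa, xb⟩ | ⟨xa, xb⟩) (⟨ya, yb⟩ | ⟨ya, yb⟩) <;>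
          simp [mul_smul, xa, xb, ya, yb]
      inv_mem' := by
        rintro x (⟨xa, xb⟩ | ⟨xa, xb⟩)
        · exact .inl ⟨inv_smul_eq_iff.2 xa.symm, inv_smul_eq_iff.2 xb.symm⟩
        · exact .inr ⟨inv_smul_eq_iff.2 xb.symm, inv_smul_eq_iff.2 xa.symm⟩ } with hM
  have hmemM : ∀ n : N, n ∈ M ↔ (n • a = a ∧ n • b = b) ∨ (n • a = b ∧ n • b = a) := fun n => Iff.rfl
  have hLM : L ≤ M := fun n hn => .inl hn
  have hLM2 : Nat.card M = 2 * Nat.card L := by
    have hi : (L.subgroupOf M).index = 2 := by
      rw [Subgroup.index_eq_two_iff]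
      have htM : t ∈ M := (hmemM t).2 (.inr ⟨hta, htb⟩)
      refine ⟨⟨t, htM⟩, fun n => ?_⟩
      rcases (hmemM _).1 n.2 with ⟨na, nb⟩ | ⟨na, nb⟩
      · refine .inr ⟨⟨na, nb⟩, fun h => hab ?_⟩
        have : ((n : N) * t) • a = a := h.1
        rw [mul_smul, hta, nb] at this
        exact this.symm
      · refine .inl ⟨⟨?_, ?_⟩, fun h => hab ?_⟩
        · show ((n : N) * t) • a = a
          rw [mul_smul, hta, nb]
        · show ((n : N) * t) • b = b
          rw [mul_smul, htb, na]
        · exact (show (n : N) • a = a from h.1).symm.trans na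
    rw [← (L.subgroupOf M).card_mul_index, hi, Nat.card_congr (Subgroup.subgroupOfEquivOfLe hLM).toEquiv,
      mul_comm]
  haveI := Fact.mk Nat.prime_two
  obtain ⟨P⟩ : Nonempty (Sylow 2 M) := inferInstance
  -- the Sylow subgroup fixes at most one point
  have hfix1 : ∀ c d : X, c ∉ P2 → d ∉ P2 → (∀ g : (P : Subgroup M), ((g : M) : N) • c = c) →
      (∀ g : (P : Subgroup M), ((g : M) : N) • d = d) → c = d := by
    intro c d hc hd hfc hfd
    by_contra hcd
    obtain ⟨n, hna, hnb⟩ := is_two_pretransitive_iff.1 h2 hcd hab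
    let F : (P : Subgroup M) →* L :=
      { toFun := fun g => ⟨n * ((g : M) : N) * n⁻¹, by
          constructor
          · show (n * ((g : M) : N) * n⁻¹) • a = a
            rw [mul_smul, mul_smul, inv_smul_eq_iff.2 hna.symm, hfc, hna]
          · show (n * ((g : M) : N) * n⁻¹) • b = b
            rw [mul_smul, mul_smul, inv_smul_eq_iff.2 hnb.symm, hfd, hnb]⟩
        map_one' := Subtype.ext (by simp)
        map_mul' := fun g h => Subtype.ext (by
          show n * (((g : M) : N) * ((h : M) : N)) * n⁻¹ = n * ((g : M) : N) * n⁻¹ * (n * ((h : M) : N) * n⁻¹)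
          group) }
    have hF : Function.Injective F := fun g h e => by
      have e1 : n * ((g : M) : N) * n⁻¹ = n * ((h : M) : N) * n⁻¹ := congrArg Subtype.val e
      exact Subtype.ext (Subtype.ext (mul_left_cancel (mul_right_cancel e1)))
    have hdvd := Subgroup.card_dvd_of_injective F hF
    rw [P.card_eq_multiplicity] at hdvd
    have h' := (Nat.prime_two.pow_dvd_iff_le_factorization (Nat.card_pos).ne').1 hdvd
    rw [hLM2, Nat.factorization_mul (by norm_num) (Nat.card_pos).ne', Finsupp.add_apply,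
      Nat.prime_two.factorization_self] at h'
    omega
  -- the points off the pair
  let S : SubMulAction M X :=
    { carrier := {x | x ∉ P2}
      smul_mem' := fun g x hx h => by
        simp only [hP2, Set.mem_insert_iff, Set.mem_singleton_iff] at hx h ⊢
        rcases (hmemM _).1 g.2 with ⟨ga, gb⟩ | ⟨ga, gb⟩ <;> rcases h with h | h
        · exact hx (.inl (MulAction.injective (g : N) (h.trans ga.symm)))
        · exact hx (.inr (MulAction.injective (g : N) (h.trans gb.symm)))
        · exact hx (.inr (MulAction.injective (g : N) (h.trans gb.symm)))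
        · exact hx (.inl (MulAction.injective (g : N) (h.trans ga.symm))) }
  have hScard : Odd (Nat.card S) := by
    have e : Nat.card S = Nat.card X - 2 := by
      rw [show Nat.card S = ({x : X | x ∉ P2} : Set X).ncard from (Nat.card_coe_set_eq _)]
      rw [show ({x : X | x ∉ P2} : Set X) = P2ᶜ from rfl, Set.ncard_compl, Set.ncard_pair hab]
    obtain ⟨r, hr⟩ := hodd
    exact ⟨r - 1, by omega⟩
  have horb : ∀ u v : S, ∃ g : G, (∀ m : M, ∃ m' : M, g * ((m : N) : G) = ((m' : N) : G) * g) ∧
      g • (u : X) = v := by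
    intro u v
    have hu : (u : X) ∉ P2 := u.2
    have hv : (v : X) ∉ P2 := v.2
    simp only [hP2, Set.mem_insert_iff, Set.mem_singleton_iff, not_or] at hu hv
    obtain ⟨g, ga, gb, gu⟩ := h3G hab (Ne.symm hu.1) (Ne.symm hu.2) hab (Ne.symm hv.1) (Ne.symm hv.2)
    refine ⟨g, fun m => ?_, gu⟩
    have hc : g * ((m : N) : G) * g⁻¹ ∈ N := Subgroup.Normal.conj_mem ‹N.Normal› _ (m : N).2 g
    refine ⟨⟨⟨_, hc⟩, ?_⟩, by simp⟩
    have ga' : g⁻¹ • a = a := inv_smul_eq_iff.2 ga.symm
    have gb' : g⁻¹ • b = b := inv_smul_eq_iff.2 gb.symm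
    rw [hmemM]
    rcases (hmemM _).1 m.2 with ⟨ma, mb⟩ | ⟨ma, mb⟩
    · left
      constructor
      · show (g * ((m : N) : G) * g⁻¹) • a = a
        rw [mul_smul, mul_smul, ga', show ((m : N) : G) • a = a from ma, ga]
      · show (g * ((m : N) : G) * g⁻¹) • b = b
        rw [mul_smul, mul_smul, gb', show ((m : N) : G) • b = b from mb, gb]
    · right
      constructor
      · show (g * ((m : N) : G) * g⁻¹) • a = b
        rw [mul_smul, mul_smul, ga', show ((m : N) : G) • a = b from ma, gb]
      · show (g * ((m : N) : G) * g⁻¹) • b = a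
        rw [mul_smul, mul_smul, gb', show ((m : N) : G) • b = a from mb, ga]
  have heq : ∀ u v : S, Nat.card (orbit M u) = Nat.card (orbit M v) := by
    have key : ∀ u v : S, Nat.card (orbit M u) ≤ Nat.card (orbit M v) := by
      intro u v
      obtain ⟨g, hg, hgu⟩ := horb u v
      refine Nat.card_le_card_of_injective (fun w : orbit M u => (⟨⟨g • ((w : S) : X), ?_⟩, ?_⟩ : orbit M v)) ?_
      · obtain ⟨⟨w, hw⟩, m, hm⟩ := w
        obtain ⟨m', hm'⟩ := hg m
        have e : g • ((⟨w, hw⟩ : S) : X) = ((m' • v : S) : X) := by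
          rw [← hm]
          show g • (((m : N) : G) • (u : X)) = ((m' : N) : G) • (v : X)
          rw [← mul_smul, hm', mul_smul, hgu]
        rw [e]; exact (m' • v).2
      · obtain ⟨⟨w, hw⟩, m, hm⟩ := w
        obtain ⟨m', hm'⟩ := hg m
        refine ⟨m', Subtype.ext ?_⟩
        show ((m' : N) : G) • (v : X) = g • ((⟨w, hw⟩ : S) : X)
        rw [← hm]
        show ((m' : N) : G) • (v : X) = g • (((m : N) : G) • (u : X))
        rw [← mul_smul g, hm', mul_smul, hgu]
      · intro w w' e
        exact Subtype.ext (Subtype.ext (MulAction.injective g (congrArg (fun z : orbit M v => ((z : S) : X)) e)))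
    exact fun u v => le_antisymm (key u v) (key v u)
  obtain ⟨u₀⟩ : Nonempty S := (Nat.card_pos_iff.1 hScard.pos).1
  have horbcard : Nat.card (orbit M u₀) ∣ Nat.card S := by
    haveI := Fintype.ofFinite (orbitRel.Quotient M S)
    rw [Nat.card_congr (selfEquivSigmaOrbits M S), Nat.card_sigma]
    exact Finset.dvd_sum fun ω _ => (heq u₀ ω.out).dvd
  have hodd' : ∀ u : S, Odd (Nat.card (orbit M u)) := fun u =>
    (heq u u₀) ▸ hScard.of_dvd_nat horbcard
  have hMtr : ∀ u v : S, v ∈ orbit M u := by
    intro u v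
    have hfixed : ∀ w : S, ∃ z ∈ orbit M w, ∀ g : (P : Subgroup M), ((g : M) : N) • (z : X) = (z : X) := by
      intro w
      obtain ⟨z, hz⟩ := P.2.nonempty_fixed_point_of_prime_not_dvd_card (orbit M w)
        (fun hd => (Nat.not_even_iff_odd.2 (hodd' w)) (even_iff_two_dvd.2 hd))
      exact ⟨(z : S), z.2, fun g => congrArg (fun q : orbit M w => ((q : S) : X)) (hz g)⟩
    obtain ⟨z, hz, hzf⟩ := hfixed u
    obtain ⟨z', hz', hzf'⟩ := hfixed v
    have hzz : z = z' := Subtype.ext (hfix1 _ _ z.2 z'.2 hzf hzf')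
    rw [← orbit_eq_iff]
    rw [← orbit_eq_iff] at hz hz'
    rw [← hz', ← hzz, hz]
  -- the pointwise stabiliser is transitive on the rest
  have hLtr : ∀ u v : X, u ∉ P2 → v ∉ P2 → ∃ n ∈ L, n • u = v := by
    have hcl : ∀ (x : X) (n : N), n ∈ L → x ∉ P2 → n • x ∉ P2 := fun x n hn hx =>
      S.smul_mem' (⟨n, hLM hn⟩ : M) hx
    by_contra hcon
    push Not at hcon
    obtain ⟨u, v, hu, hv, hne⟩ := hcon
    -- then the swap exchanges two orbits of equal size
    set A : Set S := {w | ∃ n ∈ L, n • u = (w : X)} with hA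
    set B : Set S := {w | ∃ n ∈ L, n • u = (w : X)}ᶜ with hB
    have htM : t ∈ M := (hmemM t).2 (.inr ⟨hta, htb⟩)
    have hLnorm : ∀ n ∈ L, ∀ m ∈ M, m * n * m⁻¹ ∈ L := by
      intro n hn m hm
      have hm' := M.inv_mem hm
      rcases (hmemM _).1 hm with ⟨ma, mb⟩ | ⟨ma, mb⟩
      · constructor
        · show (m * n * m⁻¹) • a = a
          rw [mul_smul, mul_smul, inv_smul_eq_iff.2 ma.symm, show n • a = a from hn.1, ma]
        · show (m * n * m⁻¹) • b = b
          rw [mul_smul, mul_smul, inv_smul_eq_iff.2 mb.symm, show n • b = b from hn.2, mb]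
      · constructor
        · show (m * n * m⁻¹) • a = a
          rw [mul_smul, mul_smul, inv_smul_eq_iff.2 mb.symm, show n • b = b from hn.2, mb]
        · show (m * n * m⁻¹) • b = b
          rw [mul_smul, mul_smul, inv_smul_eq_iff.2 ma.symm, show n • a = a from hn.1, ma]
    -- elements outside `L` map the first orbit onto its complement
    have hsplit : ∀ m ∈ M, m ∈ L ∨ m * t⁻¹ ∈ L := by
      intro m hm
      rcases (hmemM _).1 hm with ⟨ma, mb⟩ | ⟨ma, mb⟩
      · exact .inl ⟨ma, mb⟩
      · refine .inr ⟨?_, ?_⟩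
        · show (m * t⁻¹) • a = a
          rw [mul_smul, inv_smul_eq_iff.2 htb.symm, mb]
        · show (m * t⁻¹) • b = b
          rw [mul_smul, inv_smul_eq_iff.2 hta.symm, ma]
    have hBA : ∀ w : S, w ∈ B → ∃ n ∈ L, n • (t • u) = (w : X) := by
      intro w hw
      obtain ⟨⟨m, hm⟩, hmw⟩ := hMtr ⟨u, hu⟩ w
      have hmw' : m • u = (w : X) := congrArg Subtype.val hmw
      rcases hsplit m hm with h | h
      · exact absurd ⟨m, h, hmw'⟩ hw
      · exact ⟨_, h, by rw [← hmw', ← mul_smul, inv_mul_cancel_right]⟩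
    have htu : ∀ n ∈ L, n • (t • u) ∉ {x : X | ∃ n' ∈ L, n' • u = x} := by
      rintro n hn ⟨n', hn', e⟩
      -- `u` and `v` would lie in one orbit
      have hall : ∀ w : S, ∃ k ∈ L, k • u = (w : X) := by
        intro w
        by_contra hw
        obtain ⟨k, hk, hkw⟩ := hBA w hw
        refine hw ⟨k * n⁻¹ * n', L.mul_mem (L.mul_mem hk (L.inv_mem hn)) hn', ?_⟩
        rw [mul_smul, e, mul_smul, inv_smul_smul, hkw]
      obtain ⟨k, hk, hkv⟩ := hall ⟨v, hv⟩
      exact hne k hk hkv
    have hcardAB : Nat.card A = Nat.card B := by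
      refine Nat.card_eq_of_bijective (fun w : A => (⟨(⟨t, htM⟩ : M) • (w : S), ?_⟩ : B)) ⟨?_, ?_⟩
      · rintro ⟨n', hn', e⟩
        obtain ⟨n, hn, hw⟩ := w.2
        refine htu (t * n * t⁻¹) (hLnorm n hn t htM) ⟨n', hn', e.trans ?_⟩
        show t • ((w : S) : X) = (t * n * t⁻¹) • t • u
        rw [← hw, mul_smul, mul_smul, inv_smul_smul]
      · intro w w' e
        exact Subtype.ext (MulAction.injective _ (congrArg Subtype.val e))
      · intro w
        obtain ⟨n, hn, hw⟩ := hBA w w.2
        have hmem : t⁻¹ * n * t ∈ L := by simpa using hLnorm n hn t⁻¹ (M.inv_mem htM)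
        refine ⟨⟨⟨(t⁻¹ * n * t) • u, hcl u _ hmem hu⟩, _, hmem, rfl⟩, Subtype.ext (Subtype.ext ?_)⟩
        show t • ((t⁻¹ * n * t) • u) = _
        rw [mul_smul, mul_smul, smul_inv_smul, hw]
    have hsum := Set.ncard_add_ncard_compl A
    rw [← Nat.card_coe_set_eq, ← Nat.card_coe_set_eq] at hsum
    rw [show Nat.card (Aᶜ : Set S) = Nat.card B from rfl, ← hcardAB] at hsum
    exact (Nat.not_even_iff_odd.2 hScard) ⟨Nat.card A, hsum.symm⟩
  rw [isMultiplyPretransitive_iff]
  intro x y
  have hx : ∀ i j : Fin 3, i ≠ j → x i ≠ x j := fun i j h e => h (x.injective e)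
  have hy : ∀ i j : Fin 3, i ≠ j → y i ≠ y j := fun i j h e => h (y.injective e)
  obtain ⟨g₁, g₁a, g₁b⟩ := is_two_pretransitive_iff.1 h2 (hx 0 1 (by decide)) hab
  obtain ⟨g₂, g₂a, g₂b⟩ := is_two_pretransitive_iff.1 h2 (hy 0 1 (by decide)) hab
  have hout : ∀ (g : N) (w : Fin 3 ↪ X), g • w 0 = a → g • w 1 = b → g • w 2 ∉ P2 := by
    intro g w ha hb h
    have hw : ∀ i j : Fin 3, i ≠ j → w i ≠ w j := fun i j h e => h (w.injective e)
    rcases h with h | h
    · exact hw 2 0 (by decide) (MulAction.injective g (h.trans ha.symm))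
    · exact hw 2 1 (by decide) (MulAction.injective g (h.trans hb.symm))
  obtain ⟨n, hn, hnn⟩ := hLtr _ _ (hout g₁ x g₁a g₁b) (hout g₂ y g₂a g₂b)
  refine ⟨g₂⁻¹ * n * g₁, ?_⟩
  ext i
  fin_cases i
  · show (g₂⁻¹ * n * g₁) • x 0 = y 0
    rw [mul_smul, mul_smul, g₁a, show n • a = a from hn.1, inv_smul_eq_iff.2 g₂a.symm]
  · show (g₂⁻¹ * n * g₁) • x 1 = y 1
    rw [mul_smul, mul_smul, g₁b, show n • b = b from hn.2, inv_smul_eq_iff.2 g₂b.symm]
  · show (g₂⁻¹ * n * g₁) • x 2 = y 2
    rw [mul_smul, mul_smul, hnn, inv_smul_smul]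

end Cfsg.Agent.PrimNormalMultiple28
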