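import Mathlib

/-! Automorphisms of the Cayley graph of `ZMod p` on a proper multiplicative subgroup are affine. -/

set_option autoImplicit false

namespace Cfsg.Agent.PrimeCayleyRigid

open Polynomial

variable {p : ℕ} [hp : Fact p.Prime]

theorem exists_affine (A : Subgroup (ZMod p)ˣ) (hA : A ≠ ⊤) (σ : Equiv.Perm (ZMod p))
    (h : ∀ x : ZMod p, ∀ u ∈ A, ∃ v ∈ A, σ (x + (u : (ZMod p)ˣ)) - σ x = (v : (ZMod p)ˣ)) :
    ∃ a b : ZMod p, ∀ x, σ x = a * x + b := by
  classical
  set k := Nat.card A with hk
  have hk0 : 0 < k := Nat.card_pos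
  have hkdvd : k ∣ p - 1 := by
    rw [hk, ← ZMod.card_units p, ← Nat.card_eq_fintype_card]
    exact Subgroup.card_subgroup_dvd_card A
  have hkne : k ≠ p - 1 := fun e => hA ((Subgroup.card_eq_iff_eq_top A).mp (by
    rw [← hk, e, Nat.card_eq_fintype_card, ZMod.card_units p]))
  have hp2 := hp.out.two_le
  obtain ⟨e, he⟩ := hkdvd
  have he2 : 2 ≤ e := by
    by_contra hlt
    interval_cases e <;> omega
  have hk2 : 2 * k ≤ p - 1 := by rw [he, mul_comm]; exact Nat.mul_le_mul_left k he2
  -- power sums over `A`
  have hsumk : ∑ u : A, ((u : (ZMod p)ˣ) : ZMod p) ^ k = (k : ZMod p) := by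
    have h1 : ∀ u : A, ((u : (ZMod p)ˣ) : ZMod p) ^ k = 1 := fun u => by
      have h2 : u ^ k = 1 := by rw [hk]; exact pow_card_eq_one'
      simpa using congrArg (fun w : A => ((w : (ZMod p)ˣ) : ZMod p)) h2
    rw [Finset.sum_congr rfl fun u _ => h1 u, Finset.sum_const, Finset.card_univ, nsmul_one, hk,
      Nat.card_eq_fintype_card]
  have hsum0 : ∀ l : ℕ, 0 < l → l < k → ∑ u : A, ((u : (ZMod p)ˣ) : ZMod p) ^ l = 0 := by
    intro l hl0 hlk
    obtain ⟨g, hg⟩ := IsCyclic.exists_ofOrder_eq_natCard (α := A)
    have hgl : g ^ l ≠ 1 := fun e => by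
      have := Nat.le_of_dvd hl0 (orderOf_dvd_of_pow_eq_one e)
      omega
    have hne : ((g : (ZMod p)ˣ) : ZMod p) ^ l ≠ 1 := fun e => hgl (Subtype.ext (Units.ext (by simpa using e)))
    set S := ∑ u : A, ((u : (ZMod p)ˣ) : ZMod p) ^ l
    have h1 : ((g : (ZMod p)ˣ) : ZMod p) ^ l * S = S := by
      rw [Finset.mul_sum]
      refine Fintype.sum_equiv (Equiv.mulLeft g) _ _ fun u => ?_
      simp [mul_pow]
    have h2 : (((g : (ZMod p)ˣ) : ZMod p) ^ l - 1) * S = 0 := by rw [sub_mul, h1, one_mul, sub_self]
    exact (mul_eq_zero.mp h2).resolve_left (sub_ne_zero.mpr hne)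
  -- the Laplacian of the Cayley graph on polynomials
  let Q : (ZMod p)[X] → (ZMod p)[X] := fun P => ∑ u : A, (taylor ((u : (ZMod p)ˣ) : ZMod p) P - P)
  have hQeval : ∀ (P : (ZMod p)[X]) (x : ZMod p),
      (Q P).eval x = ∑ u : A, (P.eval (x + ((u : (ZMod p)ˣ) : ZMod p)) - P.eval x) := by
    intro P x
    simp only [Q, eval_finsetSum, eval_sub, taylor_apply, eval_comp, eval_add, eval_X, eval_C]
  have hQdeg : ∀ P : (ZMod p)[X], (Q P).natDegree ≤ P.natDegree := fun P =>
    natDegree_sum_le_of_forall_le _ _ fun u _ =>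
      (natDegree_sub_le _ _).trans (max_le (natDegree_taylor P _).le le_rfl)
  have hQcoeff : ∀ (P : (ZMod p)[X]) (i : ℕ), P.natDegree < i + k →
      (Q P).coeff i = 0 := by
    intro P i hi
    simp only [Q, finsetSum_coeff, coeff_sub, taylor_coeff]
    have hd : (hasseDeriv i P).natDegree < k := by
      have := natDegree_hasseDeriv_le P i
      omega
    rw [Finset.sum_sub_distrib]
    simp only [eval_eq_sum_range' hd, hasseDeriv_coeff]
    rw [Finset.sum_comm, Finset.sum_eq_single 0]
    · simp
    · intro l hl hl0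
      rw [← Finset.mul_sum, hsum0 l (Nat.pos_of_ne_zero hl0) (Finset.mem_range.mp hl), mul_zero]
    · simp [hk0]
  have hQlow : ∀ P : (ZMod p)[X], P.natDegree < k → ∀ x, (Q P).eval x = 0 := by
    intro P hP x
    have : Q P = 0 := by
      ext i
      rw [coeff_zero, hQcoeff P i (by omega)]
    rw [this, eval_zero]
  have hQhigh : ∀ P : (ZMod p)[X], k ≤ P.natDegree → P.natDegree < p → ∃ x, (Q P).eval x ≠ 0 := by
    intro P hkn hnp
    set n := P.natDegree with hn
    have hP0 : P ≠ 0 := fun e => by rw [e, natDegree_zero] at hn; omega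
    have hc : (Q P).coeff (n - k) = (k : ZMod p) * ((n.choose (n - k) : ℕ) : ZMod p) * P.coeff n := by
      simp only [Q, finsetSum_coeff, coeff_sub, taylor_coeff]
      have hd : (hasseDeriv (n - k) P).natDegree < k + 1 := by
        have := natDegree_hasseDeriv_le P (n - k)
        omega
      rw [Finset.sum_sub_distrib]
      simp only [eval_eq_sum_range' hd, hasseDeriv_coeff]
      rw [Finset.sum_comm, Finset.sum_range_succ, Finset.sum_eq_single 0]
      · rw [← Finset.mul_sum, ← Finset.mul_sum, hsumk]
        simp only [pow_zero, mul_one, Finset.sum_const, Finset.card_univ, zero_add, Nat.choose_self,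
          Nat.cast_one, one_mul, nsmul_eq_mul]
        rw [show k + (n - k) = n by omega]
        rw [hk, Nat.card_eq_fintype_card]
        ring
      · intro l hl hl0
        rw [← Finset.mul_sum, hsum0 l (Nat.pos_of_ne_zero hl0) (Finset.mem_range.mp hl), mul_zero]
      · simp [hk0]
    have hne : (Q P).coeff (n - k) ≠ 0 := by
      rw [hc]
      refine mul_ne_zero (mul_ne_zero ?_ ?_) ?_
      · rw [Ne, ZMod.natCast_eq_zero_iff]
        exact fun hd => by have := Nat.le_of_dvd hk0 hd; omega
      · rw [Ne, ZMod.natCast_eq_zero_iff]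
        intro hd
        have h1 : p ∣ n.factorial := by
          rw [← Nat.choose_mul_factorial_mul_factorial (show n - k ≤ n by omega)]
          exact Dvd.dvd.mul_right (Dvd.dvd.mul_right hd _) _
        exact absurd ((Nat.Prime.dvd_factorial hp.out).mp h1) (by omega)
      · exact leadingCoeff_ne_zero.mpr hP0
    by_contra hcon
    push Not at hcon
    have : Q P = 0 := Polynomial.eq_zero_of_natDegree_lt_card_of_eval_eq_zero _
      Function.injective_id (fun x => hcon x) (by rw [ZMod.card]; exact (hQdeg P).trans_lt hnp)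
    rw [this, coeff_zero] at hne
    exact hne rfl
  -- the operator commutes with `σ`
  have hcomm : ∀ (g : ZMod p → ZMod p) (x : ZMod p),
      ∑ u : A, g (σ (x + ((u : (ZMod p)ˣ) : ZMod p))) = ∑ u : A, g (σ x + ((u : (ZMod p)ˣ) : ZMod p)) := by
    intro g x
    choose v hv hve using h x
    have hinj : Function.Injective (fun u : A => (⟨v u u.2, hv u u.2⟩ : A)) := by
      intro a b hab
      have h1 := hve a a.2
      rw [show v a a.2 = v b b.2 from congrArg Subtype.val hab, ← hve b b.2, sub_left_inj] at h1
      exact Subtype.ext (Units.ext (add_left_cancel (σ.injective h1)))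
    refine Fintype.sum_bijective _ ⟨hinj, Finite.surjective_of_injective hinj⟩ _ _ fun u => ?_
    show g _ = g (σ x + (v u u.2 : (ZMod p)ˣ))
    rw [← hve u u.2, add_sub_cancel]
  set f : (ZMod p)[X] := Lagrange.interpolate Finset.univ id (fun x => σ x) with hf
  have hfeval : ∀ x, f.eval x = σ x := fun x =>
    Lagrange.eval_interpolate_at_node (fun y => σ y) (Function.injective_id.injOn) (Finset.mem_univ x)
  have hfdeg : f.natDegree < p := by
    by_cases hf0 : f = 0
    · rw [hf0, natDegree_zero]; omega
    rw [natDegree_lt_iff_degree_lt hf0]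
    have := Lagrange.degree_interpolate_lt (fun x : ZMod p => σ x) (s := Finset.univ) (v := id) Function.injective_id.injOn
    rwa [Finset.card_univ, ZMod.card] at this
  -- small powers of `f` are harmonic
  have hpow : ∀ m : ℕ, m < k → ∀ x, (Q (f ^ m)).eval x = 0 := by
    intro m hm x
    rw [hQeval]
    simp only [eval_pow, hfeval]
    rw [Finset.sum_sub_distrib, hcomm (fun y => y ^ m) x, ← Finset.sum_sub_distrib]
    have h1 := hQlow (X ^ m) (by rw [natDegree_X_pow]; exact hm) (σ x)
    rw [hQeval] at h1
    simpa [eval_pow, eval_X] using h1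
  by_cases hk1 : k = 1
  · -- translations only
    have hA1 : ∀ u ∈ A, u = 1 := by
      intro u hu
      have : Subsingleton A := (Nat.card_eq_one_iff_unique.mp hk1).1
      exact congrArg Subtype.val (Subsingleton.elim (⟨u, hu⟩ : A) 1)
    refine ⟨1, σ 0, fun x => ?_⟩
    have hstep : ∀ n : ℕ, σ (n : ZMod p) = (n : ZMod p) + σ 0 := by
      intro n
      induction n with
      | zero => simp
      | succ n ih =>
        obtain ⟨v, hv, hve⟩ := h (n : ZMod p) 1 A.one_mem
        rw [hA1 v hv, Units.val_one, sub_eq_iff_eq_add] at hve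
        rw [Nat.cast_succ, hve, ih]; ring
    have := hstep x.val
    rw [ZMod.natCast_zmod_val] at this
    rw [this, one_mul]
  · have hf1 : f.natDegree ≤ 1 := by
      by_contra hgt
      set n := f.natDegree with hn
      set m := (k + n - 1) / n with hm
      have hn0 : 0 < n := by omega
      have hmul1 : k ≤ m * n := by
        have h1 := Nat.div_add_mod (k + n - 1) n
        have h2 := Nat.mod_lt (k + n - 1) hn0
        rw [← hm] at h1
        rw [mul_comm]
        omega
      have hmul2 : m * n < k + n := by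
        have h3 := Nat.div_mul_le_self (k + n - 1) n
        rw [← hm] at h3
        omega
      have hdk : n < p := hfdeg
      have hmk : m < k := by
        by_contra hge
        have : k * n ≤ m * n := Nat.mul_le_mul_right n (not_lt.mp hge)
        have h4 : 2 * n ≤ k * n := Nat.mul_le_mul_right n (by omega)
        have h5 : k * 2 ≤ k * n := Nat.mul_le_mul_left k (by omega)
        omega
      have hfm : (f ^ m).natDegree = m * n := natDegree_pow _ _
      have hnk : n < k ∨ k ≤ n := lt_or_ge n k
      rcases hnk with hnk | hnk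
      · obtain ⟨x, hx⟩ := hQhigh (f ^ m) (by rw [hfm]; exact hmul1) (by rw [hfm]; omega)
        exact hx (hpow m hmk x)
      · obtain ⟨x, hx⟩ := hQhigh f hnk hfdeg
        have := hpow 1 (by omega) x
        rw [pow_one] at this
        exact hx this
    refine ⟨f.coeff 1, f.coeff 0, fun x => ?_⟩
    rw [← hfeval, eval_eq_sum_range' (show f.natDegree < 2 by omega), Finset.sum_range_succ, Finset.sum_range_one]
    ring

end Cfsg.Agent.PrimeCayleyRigid
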