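import Cfsg.Agent.Lib.PrimeDegreeHalfBound28

/-!
The two-orbit bound for actions of prime degree with Sylow normaliser of order at least `p (p - 1) / 2`.
-/

set_option autoImplicit false

namespace Cfsg.Agent.PrimeDegreeHalfAction28

open Cfsg.Agent.PrimeDegreeHalfBound28

variable {p : ℕ} [hp : Fact p.Prime] {G : Type*} [Group G] [Finite G] {Ω : Type*} [MulAction G Ω]
  [FaithfulSMul G Ω]

theorem affine_two : ∀ σ : Equiv.Perm (ZMod 2), ∃ a b : ZMod 2, a ≠ 0 ∧ ∀ x, σ x = a * x + b := by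
  decide

theorem affine_three : ∀ σ : Equiv.Perm (ZMod 3), ∃ a b : ZMod 3, a ≠ 0 ∧ ∀ x, σ x = a * x + b := by
  decide

theorem five_le (hΩ : Nat.card Ω = p) (hins : ¬ Group.IsSolvable G) : 5 ≤ p := by
  by_contra hc
  apply hins
  haveI : Finite Ω := Nat.finite_of_card_ne_zero (by rw [hΩ]; exact hp.out.ne_zero)
  let φ : G →* Equiv.Perm (ZMod p) :=
    (((Finite.equivFinOfCardEq hΩ).trans (ZMod.finEquiv p).toEquiv).permCongrHom).toMonoidHom.comp
      (MulAction.toPermHom G Ω)
  have hφ : Function.Injective φ :=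
    (((Finite.equivFinOfCardEq hΩ).trans (ZMod.finEquiv p).toEquiv).permCongrHom).injective.comp
      MulAction.toPerm_injective
  have hs : Group.IsSolvable φ.range := by
    refine Cfsg.Agent.PermPrimeDegree.isSolvable_of_affine _ (Equiv.refl _) fun σ _ => ?_
    have h2 := hp.out.two_le
    rcases (show p = 2 ∨ p = 3 ∨ p = 4 by omega) with rfl | rfl | rfl
    · exact affine_two σ
    · exact affine_three σ
    · exact absurd hp.out (by norm_num)
  exact Group.isSolvable_of_isSolvable_injective (f := φ.rangeRestrict)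
    (fun g k hgk => hφ (congrArg Subtype.val hgk))

variable (hΩ : Nat.card Ω = p) (htrans : MulAction.IsPretransitive G Ω)
  (hins : ¬ Group.IsSolvable G) (P : Sylow p G)
  (hN : p * (p - 1) ∣ 2 * Nat.card ↥(Subgroup.normalizer ((P : Subgroup G) : Set G)))

include hΩ htrans hins hN in
theorem two_trans {a b c d : Ω} (hab : a ≠ b) (hcd : c ≠ d) : ∃ g : G, g • a = c ∧ g • b = d := by
  obtain ⟨e, φ, -, hact, hS⟩ := exists_setting (five_le hΩ hins) hΩ htrans hins P hN
  obtain ⟨x, rfl⟩ := e.surjective a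
  obtain ⟨y, rfl⟩ := e.surjective b
  obtain ⟨z, rfl⟩ := e.surjective c
  obtain ⟨w, rfl⟩ := e.surjective d
  obtain ⟨_, ⟨g, rfl⟩, h1, h2⟩ :=
    hS.twoTrans (fun h => hab (congrArg e h)) (fun h => hcd (congrArg e h))
  exact ⟨g, by rw [← hact, h1], by rw [← hact, h2]⟩

include hΩ htrans hins hN in
theorem two_orbits_action {a b : Ω} (hab : a ≠ b) (w : Fin 3 → Ω) (hwa : ∀ i, w i ≠ a)
    (hwb : ∀ i, w i ≠ b) :
    ∃ i j, i ≠ j ∧ ∃ g : G, g • a = a ∧ g • b = b ∧ g • w i = w j := by
  obtain ⟨e, φ, -, hact, hS⟩ := exists_setting (five_le hΩ hins) hΩ htrans hins P hN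
  obtain ⟨i, j, hij, _, ⟨g, rfl⟩, h1, h2, h3⟩ := two_orbits hS
    (x := e.symm a) (y := e.symm b) (fun h => hab (e.symm.injective h)) (fun k => e.symm (w k))
    (fun k h => hwa k (e.symm.injective h)) (fun k h => hwb k (e.symm.injective h))
  refine ⟨i, j, hij, g, ?_, ?_, ?_⟩
  · have := congrArg e h1; rwa [hact, Equiv.apply_symm_apply] at this
  · have := congrArg e h2; rwa [hact, Equiv.apply_symm_apply] at this
  · have := congrArg e h3; rwa [hact, Equiv.apply_symm_apply, Equiv.apply_symm_apply] at this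

include hΩ htrans hins hN in
theorem threeTrans_or_four :
    MulAction.IsMultiplyPretransitive G Ω 3 ∨
    ∀ α β : Ω, α ≠ β → Nat.card (MulAction.orbitRel.Quotient
      ↥(MulAction.stabilizer G α ⊓ MulAction.stabilizer G β) Ω) = 4 := by
  classical
  by_cases hA : ∀ a b u v : Ω, a ≠ b → u ≠ a → u ≠ b → v ≠ a → v ≠ b →
      ∃ g : G, g • a = a ∧ g • b = b ∧ g • u = v
  · refine Or.inl ⟨fun x y => ?_⟩
    obtain ⟨g, h1, h2⟩ := two_trans hΩ htrans hins P hN
      (x.injective.ne (show (0 : Fin 3) ≠ 1 by decide)) (y.injective.ne (show (0 : Fin 3) ≠ 1 by decide))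
    obtain ⟨k, k1, k2, k3⟩ := hA (y 0) (y 1) (g • x 2) (y 2) (y.injective.ne (by decide))
      (h1 ▸ (MulAction.injective g).ne (x.injective.ne (by decide)))
      (h2 ▸ (MulAction.injective g).ne (x.injective.ne (by decide)))
      (y.injective.ne (by decide)) (y.injective.ne (by decide))
    refine ⟨k * g, DFunLike.ext _ _ fun i => ?_⟩
    change (k * g) • x i = y i
    fin_cases i <;> simp only [mul_smul]
    · change k • g • x 0 = y 0; rw [h1, k1]
    · change k • g • x 1 = y 1; rw [h2, k2]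
    · exact k3
  refine Or.inr fun α β hαβ => ?_
  push Not at hA
  obtain ⟨a, b, u₀, v₀, hab, hua, hub, hva, hvb, hnr⟩ := hA
  obtain ⟨g, hga, hgb⟩ := two_trans hΩ htrans hins P hN hab hαβ
  set K := MulAction.stabilizer G α ⊓ MulAction.stabilizer G β
  let u := g • u₀
  let v := g • v₀
  have hr : ∀ k : G, k • α = α → k • β = β → k • u ≠ v := fun k k1 k2 k3 =>
    hnr (g⁻¹ * k * g) (by rw [mul_smul, mul_smul, hga, k1, ← hga, inv_smul_smul])
      (by rw [mul_smul, mul_smul, hgb, k2, ← hgb, inv_smul_smul])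
      (by rw [mul_smul, mul_smul, k3, inv_smul_smul])
  have huα : u ≠ α := hga ▸ (MulAction.injective g).ne hua
  have huβ : u ≠ β := hgb ▸ (MulAction.injective g).ne hub
  have hvα : v ≠ α := hga ▸ (MulAction.injective g).ne hva
  have hvβ : v ≠ β := hgb ▸ (MulAction.injective g).ne hvb
  let f : Fin 4 → MulAction.orbitRel.Quotient K Ω := fun i => Quotient.mk'' (![α, β, u, v] i)
  have hbij : Function.Bijective f := by
    constructor
    · intro i j hij
      obtain ⟨⟨k, k1, k2⟩, hk⟩ := (Quotient.exact' hij : (MulAction.orbitRel K Ω) _ _)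
      have k1' : k • α = α := k1
      have k2' : k • β = β := k2
      change k • ![α, β, u, v] j = ![α, β, u, v] i at hk
      have hα : ∀ z, k • z = α → z = α := fun z h => MulAction.injective k (h.trans k1'.symm)
      have hβ : ∀ z, k • z = β → z = β := fun z h => MulAction.injective k (h.trans k2'.symm)
      have hr' : k • v ≠ u := fun h => hr k⁻¹ (inv_smul_eq_iff.mpr k1'.symm)
        (inv_smul_eq_iff.mpr k2'.symm) (inv_smul_eq_iff.mpr h.symm)
      fin_cases i <;> fin_cases j <;> first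
        | rfl
        | (exfalso; simp at hk; first
            | exact hαβ (k1'.symm.trans hk)
            | exact hαβ (hk.symm.trans k2')
            | exact huα (hα _ hk) | exact huβ (hβ _ hk) | exact hvα (hα _ hk) | exact hvβ (hβ _ hk)
            | exact huα (hk.symm.trans k1') | exact huβ (hk.symm.trans k2')
            | exact hvα (hk.symm.trans k1') | exact hvβ (hk.symm.trans k2')
            | exact hr k k1' k2' hk | exact hr' hk)
    · rintro ⟨w⟩
      by_cases hwα : w = α
      · exact ⟨0, by rw [hwα]; rfl⟩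
      by_cases hwβ : w = β
      · exact ⟨1, by rw [hwβ]; rfl⟩
      obtain ⟨i, j, hij, k, k1, k2, k3⟩ := two_orbits_action hΩ htrans hins P hN hαβ ![u, v, w]
        (fun i => by fin_cases i <;> assumption) (fun i => by fin_cases i <;> assumption)
      have k1i : k⁻¹ • α = α := inv_smul_eq_iff.mpr k1.symm
      have k2i : k⁻¹ • β = β := inv_smul_eq_iff.mpr k2.symm
      have k3i : k⁻¹ • ![u, v, w] j = ![u, v, w] i := inv_smul_eq_iff.mpr k3.symm
      have key : (∃ m : G, m • α = α ∧ m • β = β ∧ m • w = u) ∨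
          ∃ m : G, m • α = α ∧ m • β = β ∧ m • w = v := by
        fin_cases i <;> fin_cases j <;> simp at k3 k3i hij
        · exact absurd k3 (hr k k1 k2)
        · exact Or.inl ⟨k⁻¹, k1i, k2i, k3i⟩
        · exact absurd k3i (hr k⁻¹ k1i k2i)
        · exact Or.inr ⟨k⁻¹, k1i, k2i, k3i⟩
        · exact Or.inl ⟨k, k1, k2, k3⟩
        · exact Or.inr ⟨k, k1, k2, k3⟩
      rcases key with ⟨m, m1, m2, m3⟩ | ⟨m, m1, m2, m3⟩
      · exact ⟨2, Quotient.sound' ⟨⟨m, m1, m2⟩, m3⟩⟩
      · exact ⟨3, Quotient.sound' ⟨⟨m, m1, m2⟩, m3⟩⟩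
  rw [← Nat.card_eq_of_bijective f hbij, Nat.card_fin]

end Cfsg.Agent.PrimeDegreeHalfAction28
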