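import Mathlib
import Cfsg.Prelude.Def_Perm
import Cfsg.Agent.Lib.PrimeDegreeCoord
import Cfsg.Agent.Lib.TranslationModules

/-!
A non-solvable group of permutations of the prime field containing all translations and all
multiplications by squares: the stabiliser of two points has at most two orbits on the other
points, and a linear functional detects column-constant invariant matrices.
-/

set_option autoImplicit false

namespace Cfsg.Agent.PrimeDegreeHalfBound28

open Cfsg

variable {p : ℕ} [hp : Fact p.Prime]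

/-- A group of permutations of the prime field containing the translations and the squares. -/
structure Setting (p : ℕ) [Fact p.Prime] (G : Subgroup (Equiv.Perm (ZMod p))) : Prop where
  five : 5 ≤ p
  trans : Equiv.addRight (1 : ZMod p) ∈ G
  sq : ∀ (a : ZMod p), a ≠ 0 → ∃ g ∈ G, ∀ x, g x = a ^ 2 * x
  insoluble : ¬ Group.IsSolvable G

variable {G : Subgroup (Equiv.Perm (ZMod p))}

theorem addRight_pow (n : ℕ) (x : ZMod p) : ((Equiv.addRight (1 : ZMod p)) ^ n) x = x + n := by
  induction n with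
  | zero => simp
  | succ n ih => rw [pow_succ', Equiv.Perm.mul_apply, ih]; simp [add_assoc]

theorem Setting.addRight_mem (h : Setting p G) (b : ZMod p) :
    ∃ g ∈ G, ∀ x, g x = x + b :=
  ⟨_, G.pow_mem h.trans b.val, fun x => by rw [addRight_pow, ZMod.natCast_zmod_val]⟩

theorem Setting.affine_mem (h : Setting p G) {a : ZMod p} (ha : a ≠ 0) (b : ZMod p) :
    ∃ g ∈ G, ∀ x, g x = a ^ 2 * x + b := by
  obtain ⟨g, hg, hg'⟩ := h.sq a ha
  obtain ⟨t, ht, ht'⟩ := h.addRight_mem b
  exact ⟨t * g, G.mul_mem ht hg, fun x => by rw [Equiv.Perm.mul_apply, hg', ht']⟩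

theorem Setting.pretransitive (h : Setting p G) : MulAction.IsPretransitive G (ZMod p) :=
  ⟨fun x y => by
    obtain ⟨g, hg, hg'⟩ := h.addRight_mem (y - x)
    exact ⟨⟨g, hg⟩, by change g x = y; rw [hg']; ring⟩⟩

theorem Setting.twoTrans (h : Setting p G) {x y x' y' : ZMod p} (hxy : x ≠ y) (hxy' : x' ≠ y') :
    ∃ g ∈ G, g x = x' ∧ g y = y' := by
  haveI := h.pretransitive
  have h2 : MulAction.IsMultiplyPretransitive G (ZMod p) 2 :=
    (PermPrimeDegree.solvable_or_twoTransitive (by simpa using hp.out) G).resolve_left h.insoluble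
  obtain ⟨⟨g, hg⟩, h1, h2⟩ := MulAction.is_two_pretransitive_iff.mp h2 hxy hxy'
  exact ⟨g, hg, h1, h2⟩

/-- Invariance of a three-variable matrix. -/
def Inv (G : Subgroup (Equiv.Perm (ZMod p))) (M : ZMod p → ZMod p → ZMod p → ZMod p) : Prop :=
  ∀ g ∈ G, ∀ z x y, M (g z) (g x) (g y) = M z x y

/-- The moment of a matrix. -/
def moment (M : ZMod p → ZMod p → ZMod p → ZMod p) (x y : ZMod p) : ZMod p := ∑ z, z * M z x y

theorem moment_affine (h : Setting p G) {M : ZMod p → ZMod p → ZMod p → ZMod p} (hM : Inv G M)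
    (hsum : ∀ x y, ∑ z, M z x y = 0) {a : ZMod p} (ha : a ≠ 0) (b x y : ZMod p) :
    moment M (a ^ 2 * x + b) (a ^ 2 * y + b) = a ^ 2 * moment M x y := by
  obtain ⟨g, hg, hg'⟩ := h.affine_mem ha b
  have e : ∑ z, g z * M (g z) (g x) (g y) = ∑ z, z * M z (g x) (g y) :=
    Equiv.sum_comp g fun z => z * M z (g x) (g y)
  unfold moment
  rw [← hg' x, ← hg' y, ← e]
  calc ∑ z, g z * M (g z) (g x) (g y) = ∑ z, (a ^ 2 * (z * M z x y) + b * M z x y) :=
        Finset.sum_congr rfl fun z _ => by rw [hM g hg, hg']; ring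
    _ = a ^ 2 * ∑ z, z * M z x y := by
        rw [Finset.sum_add_distrib, ← Finset.mul_sum, ← Finset.mul_sum, hsum, mul_zero, add_zero]

/-- An invariant matrix with vanishing column sums and vanishing moments has constant columns. -/
theorem const_of_moment (h : Setting p G) {M : ZMod p → ZMod p → ZMod p → ZMod p} (hM : Inv G M)
    (hsum : ∀ x y, ∑ z, M z x y = 0) (hF : ∀ x y, moment M x y = 0) (z z' x y : ZMod p) :
    M z x y = M z' x y := by
  classical
  haveI := h.pretransitive
  let Φ : (ZMod p → ZMod p) →ₗ[ZMod p] (ZMod p × ZMod p → ZMod p) :=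
    { toFun := fun v q => ∑ w, v w * M w q.1 q.2
      map_add' := fun u v => funext fun q => by simp [add_mul, Finset.sum_add_distrib]
      map_smul' := fun c u => funext fun q => by simp [Finset.mul_sum, mul_assoc] }
  let W : Subrepresentation (Cfsg.permRep (ZMod p) G (ZMod p)) :=
    ⟨(Cfsg.permSumZero (ZMod p) G (ZMod p)).toSubmodule ⊓ LinearMap.ker Φ, fun g v hv => by
      refine ⟨(Cfsg.permSumZero (ZMod p) G (ZMod p)).apply_mem_toSubmodule g hv.1,
        LinearMap.mem_ker.mpr (funext fun q => ?_)⟩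
      have h0 : Φ v (((g⁻¹ : G) : Equiv.Perm (ZMod p)) q.1, ((g⁻¹ : G) : Equiv.Perm (ZMod p)) q.2) = 0 :=
        congrFun (LinearMap.mem_ker.mp hv.2) _
      change ∑ w, v (((g⁻¹ : G) : Equiv.Perm (ZMod p)) w) * M w q.1 q.2 = 0
      refine Eq.trans (Fintype.sum_equiv ((g⁻¹ : G) : Equiv.Perm (ZMod p)) _ _ fun w => ?_) h0
      rw [hM _ (g⁻¹ : G).2]⟩
  have h1 : (Cfsg.permConstants (ZMod p) G (ZMod p)).toSubmodule ≤ W.toSubmodule := by
    refine Submodule.span_le.mpr (Set.singleton_subset_iff.mpr ⟨?_, LinearMap.mem_ker.mpr ?_⟩)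
    · change ∑ w : ZMod p, (1 : ZMod p) = 0
      simp
    · funext q
      change ∑ w, 1 * M w q.1 q.2 = 0
      simpa using hsum q.1 q.2
  have hid : (id : ZMod p → ZMod p) ∈ W.toSubmodule := by
    refine ⟨?_, LinearMap.mem_ker.mpr (funext fun q => hF q.1 q.2)⟩
    change ∑ w : ZMod p, w = 0
    have := FiniteField.sum_pow_lt_card_sub_one (K := ZMod p) 1 (by
      rw [ZMod.card]; have := h.five; omega)
    simpa using this
  rcases TranslationModules.heart_irreducible (Nat.card_zmod p) G h.insoluble W h1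
    (fun v hv => hv.1) with hW | hW
  · exfalso
    rw [hW] at hid
    obtain ⟨c, hc⟩ := Submodule.mem_span_singleton.mp hid
    have h0 := congrFun hc 0
    have h1' := congrFun hc 1
    simp at h0 h1'
    exact zero_ne_one (h0.symm.trans h1')
  · have hd : (Pi.single z 1 - Pi.single z' 1 : ZMod p → ZMod p) ∈
        (Cfsg.permSumZero (ZMod p) G (ZMod p)).toSubmodule := by
      change ∑ w, (Pi.single z 1 - Pi.single z' 1 : ZMod p → ZMod p) w = 0
      simp [Finset.sum_sub_distrib]
    rw [← hW] at hd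
    have := congrFun (LinearMap.mem_ker.mp hd.2) (x, y)
    simpa [Φ, sub_mul, Finset.sum_sub_distrib, Pi.single_apply, ite_mul, sub_eq_zero] using this

theorem exists_sq_mul {ν : ZMod p} (hν : ¬ IsSquare ν) {d : ZMod p} (hd : d ≠ 0) :
    ∃ a : ZMod p, a ≠ 0 ∧ (d = a ^ 2 ∨ d = a ^ 2 * ν) := by
  have hν0 : ν ≠ 0 := fun e => hν (e ▸ IsSquare.zero)
  rcases em (IsSquare d) with ⟨a, ha⟩ | hns
  · exact ⟨a, fun e => hd (by simp [ha, e]), Or.inl (by rw [ha, sq])⟩
  · have hc : ringChar (ZMod p) ≠ 2 := by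
      rw [ringChar.eq (ZMod p) p]; rintro rfl
      exact hν (FiniteField.isSquare_of_char_two (ringChar.eq (ZMod 2) 2) ν)
    have h1 : quadraticChar (ZMod p) (d / ν) = 1 := by
      have h2 := quadraticChar_neg_one_iff_not_isSquare.mpr hns
      rw [show d = d / ν * ν by field_simp, map_mul,
        quadraticChar_neg_one_iff_not_isSquare.mpr hν] at h2
      omega
    obtain ⟨a, ha⟩ := (quadraticChar_one_iff_isSquare (div_ne_zero hd hν0)).mp h1
    refine ⟨a, ?_, Or.inr ?_⟩
    · rintro rfl; simp [hd, hν0] at ha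
    · rw [sq, ← ha]; field_simp

/-- The moment is determined by its values at `(0, 1)` and `(0, ν)`. -/
theorem moment_zero (h : Setting p G) {M : ZMod p → ZMod p → ZMod p → ZMod p} (hM : Inv G M)
    (hsum : ∀ x y, ∑ z, M z x y = 0) {ν : ZMod p} (hν : ¬ IsSquare ν)
    (h1 : moment M 0 1 = 0) (h2 : moment M 0 ν = 0) (h0 : ∀ z x, M z x x = 0) (x y : ZMod p) :
    moment M x y = 0 := by
  rcases eq_or_ne x y with rfl | hxy
  · simp [moment, h0]
  obtain ⟨a, ha, hd⟩ := exists_sq_mul hν (sub_ne_zero.mpr hxy.symm)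
  rcases hd with hd | hd
  · have := moment_affine h hM hsum ha x 0 1
    rwa [h1, mul_zero, zero_add, mul_one, ← hd, sub_add_cancel] at this
  · have := moment_affine h hM hsum ha x 0 ν
    rwa [h2, mul_zero, zero_add, ← hd, sub_add_cancel] at this

theorem exists_nonsquare (h : Setting p G) : ∃ ν : ZMod p, ¬ IsSquare ν :=
  FiniteField.exists_nonsquare (by rw [ringChar.eq (ZMod p) p]; have := h.five; omega)

/-- Related third points over an ordered pair. -/
def Rel (G : Subgroup (Equiv.Perm (ZMod p))) (x y u v : ZMod p) : Prop :=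
  ∃ g ∈ G, g x = x ∧ g y = y ∧ g u = v

theorem Rel.refl (x y u : ZMod p) : Rel G x y u u := ⟨1, G.one_mem, rfl, rfl, rfl⟩

theorem Rel.symm {x y u v : ZMod p} : Rel G x y u v → Rel G x y v u := by
  rintro ⟨g, hg, h1, h2, h3⟩
  refine ⟨g⁻¹, G.inv_mem hg, ?_, ?_, ?_⟩ <;>
    rw [Equiv.Perm.inv_def, Equiv.symm_apply_eq]
  exacts [h1.symm, h2.symm, h3.symm]

theorem Rel.trans {x y u v w : ZMod p} : Rel G x y u v → Rel G x y v w → Rel G x y u w := by
  rintro ⟨g, hg, h1, h2, h3⟩ ⟨k, hk, k1, k2, k3⟩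
  exact ⟨k * g, G.mul_mem hk hg, by rw [Equiv.Perm.mul_apply, h1, k1],
    by rw [Equiv.Perm.mul_apply, h2, k2], by rw [Equiv.Perm.mul_apply, h3, k3]⟩

open scoped Classical in
/-- The indicator of the triples lying over the orbit of `(w, 0, 1)`. -/
noncomputable def orbitInd (G : Subgroup (Equiv.Perm (ZMod p))) (w z x y : ZMod p) : ZMod p :=
  if ∃ g ∈ G, g w = z ∧ g 0 = x ∧ g 1 = y then 1 else 0

theorem orbitInd_inv (w : ZMod p) : Inv G (orbitInd G w) := by
  intro g hg z x y
  simp only [orbitInd]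
  congr 1
  refine propext ⟨?_, ?_⟩
  · rintro ⟨k, hk, h1, h2, h3⟩
    exact ⟨g⁻¹ * k, G.mul_mem (G.inv_mem hg) hk, by simp [h1], by simp [h2], by simp [h3]⟩
  · rintro ⟨k, hk, h1, h2, h3⟩
    exact ⟨g * k, G.mul_mem hg hk, by simp [h1], by simp [h2], by simp [h3]⟩

theorem orbitInd_diag (w z x : ZMod p) : orbitInd G w z x x = 0 :=
  if_neg fun ⟨g, _, _, h2, h3⟩ => zero_ne_one (g.injective (h2.trans h3.symm))

open scoped Classical in
theorem orbitInd_base (w z : ZMod p) :
    orbitInd G w z 0 1 = if Rel G 0 1 w z then 1 else 0 :=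
  if_congr ⟨fun ⟨g, a, b, c, d⟩ => ⟨g, a, c, d, b⟩, fun ⟨g, a, b, c, d⟩ => ⟨g, a, d, b, c⟩⟩ rfl rfl

theorem orbitInd_sum (h : Setting p G) (w x y : ZMod p) (hxy : x ≠ y) :
    ∑ z, orbitInd G w z x y = ∑ z, orbitInd G w z 0 1 := by
  obtain ⟨g, hg, rfl, rfl⟩ := h.twoTrans (zero_ne_one : (0 : ZMod p) ≠ 1) hxy
  exact (Fintype.sum_equiv g _ _ fun z => (orbitInd_inv w g hg z 0 1).symm).symm

/-- Over an ordered pair of points there are at most two orbits on the remaining points. -/
theorem two_orbits_base (h : Setting p G) (w : Fin 3 → ZMod p) (hw0 : ∀ i, w i ≠ 0)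
    (hw1 : ∀ i, w i ≠ 1) : ∃ i j, i ≠ j ∧ Rel G 0 1 (w i) (w j) := by
  classical
  by_contra hcon
  push Not at hcon
  obtain ⟨ν, hν⟩ := exists_nonsquare h
  let w' : Fin 4 → ZMod p := Fin.cons 1 w
  have hw' : ∀ i j, i ≠ j → ¬ Rel G 0 1 (w' i) (w' j) := by
    intro i j hij
    cases i using Fin.cases with
    | zero =>
      cases j using Fin.cases with
      | zero => exact absurd rfl hij
      | succ j =>
        rintro ⟨g, -, -, h2, h3⟩
        exact hw1 j (h3.symm.trans h2)
    | succ i =>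
      cases j using Fin.cases with
      | zero =>
        rintro ⟨g, -, -, h2, h3⟩
        exact hw1 i (g.injective (h3.trans h2.symm))
      | succ j => exact hcon i j fun e => hij (congrArg Fin.succ e)
  have hw'0 : ∀ i, ¬ Rel G 0 1 (w' i) 0 := by
    intro i
    rintro ⟨g, -, h1, -, h3⟩
    have := g.injective (h3.trans h1.symm)
    cases i using Fin.cases with
    | zero => exact one_ne_zero (this : (1 : ZMod p) = 0)
    | succ i => exact hw0 i this
  let L : (Fin 4 → ZMod p) →ₗ[ZMod p] (Fin 3 → ZMod p) :=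
    { toFun := fun a => ![∑ i, a i * ∑ z, orbitInd G (w' i) z 0 1,
        ∑ i, a i * moment (orbitInd G (w' i)) 0 1, ∑ i, a i * moment (orbitInd G (w' i)) 0 ν]
      map_add' := fun a b => funext fun k => by
        fin_cases k <;> simp [add_mul, Finset.sum_add_distrib]
      map_smul' := fun c b => funext fun k => by
        fin_cases k <;> simp [Finset.mul_sum, mul_assoc] }
  have hker : LinearMap.ker L ≠ ⊥ := LinearMap.ker_ne_bot_of_finrank_lt (by simp)
  obtain ⟨a, haL, ha0⟩ := (Submodule.ne_bot_iff _).mp hker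
  have haL' := LinearMap.mem_ker.mp haL
  have e0 : ∑ i, a i * ∑ z, orbitInd G (w' i) z 0 1 = 0 := congrFun haL' 0
  have e1 : ∑ i, a i * moment (orbitInd G (w' i)) 0 1 = 0 := congrFun haL' 1
  have e2 : ∑ i, a i * moment (orbitInd G (w' i)) 0 ν = 0 := congrFun haL' 2
  let M : ZMod p → ZMod p → ZMod p → ZMod p := fun z x y => ∑ i, a i * orbitInd G (w' i) z x y
  have hMinv : Inv G M := fun g hg z x y => by
    simp only [M, orbitInd_inv _ g hg z x y]
  have hMdiag : ∀ z x, M z x x = 0 := fun z x => by simp [M, orbitInd_diag]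
  have hMsum : ∀ x y, ∑ z, M z x y = 0 := by
    intro x y
    rcases eq_or_ne x y with rfl | hxy
    · simp [hMdiag]
    simp only [M]
    rw [Finset.sum_comm]
    simp only [← Finset.mul_sum, orbitInd_sum h _ x y hxy]
    exact e0
  have hmom : ∀ x y, moment M x y = ∑ i, a i * moment (orbitInd G (w' i)) x y := by
    intro x y
    simp only [moment, M, Finset.mul_sum]
    rw [Finset.sum_comm]
    simp only [mul_left_comm]
  have hc := const_of_moment h hMinv hMsum fun x y =>
    moment_zero h hMinv hMsum hν (by rw [hmom, e1]) (by rw [hmom, e2]) hMdiag x y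
  refine ha0 (funext fun i => ?_)
  have h1 := hc (w' i) 0 0 1
  simp only [M, orbitInd_base] at h1
  rw [Finset.sum_eq_single i (fun j _ hj => by rw [if_neg (hw' j i hj), mul_zero])
    (by simp), if_pos (Rel.refl _ _ _), Finset.sum_eq_zero
    (fun j _ => by rw [if_neg (hw'0 j), mul_zero]), mul_one] at h1
  exact h1

/-- Over an ordered pair of points there are at most two orbits on the remaining points. -/
theorem two_orbits (h : Setting p G) {x y : ZMod p} (hxy : x ≠ y) (w : Fin 3 → ZMod p)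
    (hwx : ∀ i, w i ≠ x) (hwy : ∀ i, w i ≠ y) : ∃ i j, i ≠ j ∧ Rel G x y (w i) (w j) := by
  obtain ⟨g, hg, h1, h2⟩ := h.twoTrans hxy (zero_ne_one : (0 : ZMod p) ≠ 1)
  obtain ⟨i, j, hij, k, hk, k1, k2, k3⟩ := two_orbits_base h (fun i => g (w i))
    (fun i e => hwx i (g.injective (e.trans h1.symm)))
    (fun i e => hwy i (g.injective (e.trans h2.symm)))
  refine ⟨i, j, hij, g⁻¹ * k * g, G.mul_mem (G.mul_mem (G.inv_mem hg) hk) hg, ?_, ?_, ?_⟩ <;>
    simp only [Equiv.Perm.mul_apply, Equiv.Perm.inv_def]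
  · rw [h1, k1, ← h1, Equiv.symm_apply_apply]
  · rw [h2, k2, ← h2, Equiv.symm_apply_apply]
  · rw [k3, Equiv.symm_apply_apply]

/-- Coordinates for a transitive group of prime degree with a large Sylow normaliser. -/
theorem exists_setting {G : Type*} [Group G] [Finite G] {Ω : Type*} [MulAction G Ω]
    [FaithfulSMul G Ω] (hp5 : 5 ≤ p) (hΩ : Nat.card Ω = p)
    (htrans : MulAction.IsPretransitive G Ω) (hins : ¬ Group.IsSolvable G) (P : Sylow p G)
    (hN : p * (p - 1) ∣ 2 * Nat.card ↥(Subgroup.normalizer ((P : Subgroup G) : Set G))) :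
    ∃ (e : ZMod p ≃ Ω) (φ : G →* Equiv.Perm (ZMod p)),
      Function.Injective φ ∧ (∀ g x, e (φ g x) = g • e x) ∧ Setting p φ.range := by
  classical
  haveI : Finite Ω := Nat.finite_of_card_ne_zero (by rw [hΩ]; exact hp.out.ne_zero)
  let ι : G →* Equiv.Perm Ω := MulAction.toPermHom G Ω
  have hι : Function.Injective ι := MulAction.toPerm_injective
  let G' : Subgroup (Equiv.Perm Ω) := ι.range
  haveI : MulAction.IsPretransitive G' Ω := ⟨fun x y => by
    obtain ⟨g, hg⟩ := htrans.exists_smul_eq x y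
    exact ⟨⟨ι g, g, rfl⟩, hg⟩⟩
  obtain ⟨t, htG, ht, e, he⟩ := PermPrimeDegree.exists_translation hΩ G'
  obtain ⟨t₀, ht₀⟩ := htG
  let φ : G →* Equiv.Perm (ZMod p) := (e.symm.permCongrHom).toMonoidHom.comp ι
  have hφ : Function.Injective φ := (e.symm.permCongrHom).injective.comp hι
  have hact : ∀ g x, e (φ g x) = g • e x := fun g x => by simp [φ, ι, Equiv.permCongr_apply]
  have hT : φ t₀ = Equiv.addRight 1 := Equiv.ext fun x => e.injective (by
    rw [hact]; change ι t₀ (e x) = _; rw [ht₀, ← he]; rfl)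
  refine ⟨e, φ, hφ, hact, hp5, ⟨t₀, hT⟩, fun a ha => ?_, fun hs => hins ?_⟩
  swap
  · exact Group.isSolvable_of_isSolvable_injective (f := φ.rangeRestrict)
      (fun g k hgk => hφ (congrArg Subtype.val hgk))
  let A := Cfsg.affineGroup (ZMod p)
  have hot : orderOf t₀ = p := by rw [← orderOf_injective ι hι, ht₀, ht]
  have hcardP : Nat.card P = p := by
    have h1 : Nat.card G = Nat.card G' := Nat.card_congr (MonoidHom.ofInjective hι).toEquiv
    obtain ⟨Q⟩ : Nonempty (Sylow p G') := inferInstance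
    rw [P.card_eq_multiplicity, h1, ← Q.card_eq_multiplicity,
      PrimeDegreeCoord.card_sylow hΩ G' Q]
  let T : Sylow p G := Sylow.ofCard (Subgroup.zpowers t₀) (by
    rw [Nat.card_zpowers, hot, ← P.card_eq_multiplicity, hcardP])
  have hcard : Nat.card (Subgroup.normalizer ((T : Subgroup G) : Set G)) =
      Nat.card (Subgroup.normalizer ((P : Subgroup G) : Set G)) := by
    have h2 := Subgroup.card_mul_index (Subgroup.normalizer ((P : Subgroup G) : Set G))
    have h3 := Subgroup.card_mul_index (Subgroup.normalizer ((T : Subgroup G) : Set G))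
    have e1 : (Subgroup.normalizer ((P : Subgroup G) : Set G)).index =
        (Subgroup.normalizer ((T : Subgroup G) : Set G)).index :=
      P.card_eq_index_normalizer.symm.trans T.card_eq_index_normalizer
    rw [e1] at h2
    exact Nat.eq_of_mul_eq_mul_right Nat.card_pos (h3.trans h2.symm)
  let N := (Subgroup.normalizer ((T : Subgroup G) : Set G)).map φ
  have hNA : N ≤ A := by
    rintro _ ⟨g, hg, rfl⟩
    obtain ⟨k, hk⟩ := (Subgroup.mem_normalizer_iff.mp hg t₀).mp (Subgroup.mem_zpowers t₀)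
    obtain ⟨c, b, hc, hcb⟩ := PrimeDegreeCoord.affine_of_normalizes (Equiv.refl (ZMod p))
      (t := Equiv.addRight 1) (fun x => rfl) (g := φ g) (by
        rw [← hT, ← map_inv, ← map_mul, ← map_mul]
        exact ⟨k, (map_zpow φ t₀ k).symm.trans (congrArg φ hk)⟩)
    exact ⟨Units.mk0 c hc, b, hcb⟩
  have hidx : (N.subgroupOf A).index ∣ 2 := by
    have h1 := Subgroup.card_mul_index (N.subgroupOf A)
    rw [Nat.card_congr (Subgroup.subgroupOfEquivOfLe hNA).toEquiv,
      Subgroup.card_map_of_injective hφ, hcard, PrimeDegreeCoord.card_affineGroup] at h1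
    refine Nat.dvd_of_mul_dvd_mul_left
      (Nat.card_pos (α := Subgroup.normalizer ((P : Subgroup G) : Set G))) ?_
    rw [h1, mul_comm _ 2]
    exact hN
  let m : A := ⟨Equiv.mulLeft₀ a ha, Units.mk0 a ha, 0, fun x => by simp⟩
  have hm : m ^ 2 ∈ N.subgroupOf A := by
    rcases (Nat.dvd_prime Nat.prime_two).mp hidx with h1 | h1
    · rw [Subgroup.index_eq_one.mp h1]; trivial
    · rw [sq]; exact Subgroup.mul_self_mem_of_index_two h1 m
  obtain ⟨g, -, hg⟩ := Subgroup.mem_subgroupOf.mp hm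
  refine ⟨φ g, ⟨g, rfl⟩, fun x => ?_⟩
  rw [hg, Subgroup.coe_pow, sq, Equiv.Perm.mul_apply, sq, mul_assoc]
  rfl

end Cfsg.Agent.PrimeDegreeHalfBound28
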