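import Cfsg.Agent.Lib.PrimeDegreeHalfBound28

/-!
In a non-solvable group of prime degree `p > 7` containing the translations and the square
multiplications, the stabiliser of a point is primitive on the other points: otherwise the blocks
are pairs, giving a triple system homogeneous on triangles, which is impossible.
-/

set_option autoImplicit false

namespace Cfsg.Agent.PrimeDegreeHalfNetto28

open Cfsg.Agent.PrimeDegreeHalfBound28

variable {p : ℕ} [hp : Fact p.Prime] {G : Subgroup (Equiv.Perm (ZMod p))}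

theorem natCast_ne_zero (hp7 : 7 < p) {n : ℕ} (hn0 : 0 < n) (hn : n ≤ 7) : (n : ZMod p) ≠ 0 := by
  intro h
  rw [ZMod.natCast_eq_zero_iff] at h
  have := Nat.le_of_dvd hn0 h
  omega

theorem nonsquare_mul {a b : ZMod p} (hp2 : p ≠ 2) (ha : ¬ IsSquare a) (hb : ¬ IsSquare b) :
    IsSquare (a * b) := by
  have hc : ringChar (ZMod p) ≠ 2 := by rwa [ringChar.eq (ZMod p) p]
  have h1 := quadraticChar_neg_one_iff_not_isSquare.mpr ha
  have h2 := quadraticChar_neg_one_iff_not_isSquare.mpr hb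
  have h0 : a * b ≠ 0 := mul_ne_zero (fun e => ha (e ▸ IsSquare.zero)) (fun e => hb (e ▸ IsSquare.zero))
  refine (quadraticChar_one_iff_isSquare h0).mp ?_
  rw [map_mul, h1, h2]; norm_num

/-- The data of an invariant choice of a third point on every pair. -/
structure Third (G : Subgroup (Equiv.Perm (ZMod p))) (c : ZMod p) (σ : ZMod p → ZMod p → ZMod p) :
    Prop where
  base : σ 0 1 = c
  map : ∀ g ∈ G, ∀ x y, g (σ x y) = σ (g x) (g y)
  symm : ∀ x y, σ x y = σ y x
  invol : ∀ x y, x ≠ y → σ x (σ x y) = y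
  ne : ∀ x y, x ≠ y → σ x y ≠ x ∧ σ x y ≠ y
  homog : ∀ u v, u ≠ 0 → u ≠ 1 → u ≠ c → v ≠ 0 → v ≠ 1 → v ≠ c → Rel G 0 1 u v

variable {c : ZMod p} {σ : ZMod p → ZMod p → ZMod p}

/-- Closed sets. -/
def Closed (σ : ZMod p → ZMod p → ZMod p) (S : Set (ZMod p)) : Prop :=
  ∀ x ∈ S, ∀ y ∈ S, x ≠ y → σ x y ∈ S

/-- The subsystem generated by `0`, `1` and `w`. -/
def plane (σ : ZMod p → ZMod p → ZMod p) (w : ZMod p) : Set (ZMod p) :=
  {z | ∀ S, Closed σ S → 0 ∈ S → 1 ∈ S → w ∈ S → z ∈ S}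

theorem plane_closed (w : ZMod p) : Closed σ (plane σ w) :=
  fun x hx y hy hxy S hS h0 h1 hw => hS x (hx S hS h0 h1 hw) y (hy S hS h0 h1 hw) hxy

theorem zero_mem (w : ZMod p) : (0 : ZMod p) ∈ plane σ w := fun _ _ h _ _ => h
theorem one_mem (w : ZMod p) : (1 : ZMod p) ∈ plane σ w := fun _ _ _ h _ => h
theorem self_mem (w : ZMod p) : w ∈ plane σ w := fun _ _ _ _ h => h

theorem c_mem (hT : Third G c σ) (w : ZMod p) : c ∈ plane σ w :=
  hT.base ▸ plane_closed w 0 (zero_mem w) 1 (one_mem w) zero_ne_one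

theorem map_plane_subset (hT : Third G c σ) {g : Equiv.Perm (ZMod p)} (hg : g ∈ G) (h0 : g 0 = 0)
    (h1 : g 1 = 1) {w z : ZMod p} (hz : z ∈ plane σ w) : g z ∈ plane σ (g w) := by
  refine hz {x | g x ∈ plane σ (g w)} (fun x hx y hy hxy => ?_) ?_ ?_ ?_
  · change g (σ x y) ∈ plane σ (g w)
    rw [hT.map g hg]
    exact plane_closed _ _ hx _ hy (g.injective.ne hxy)
  · change g 0 ∈ plane σ (g w); rw [h0]; exact zero_mem _
  · change g 1 ∈ plane σ (g w); rw [h1]; exact one_mem _
  · exact self_mem _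

theorem card_plane_eq (hT : Third G c σ) {u v : ZMod p} (hu : u ≠ 0 ∧ u ≠ 1 ∧ u ≠ c)
    (hv : v ≠ 0 ∧ v ≠ 1 ∧ v ≠ c) : (plane σ v).ncard = (plane σ u).ncard := by
  have key : ∀ u v, Rel G 0 1 u v → (plane σ u).ncard ≤ (plane σ v).ncard := by
    rintro u v ⟨g, hg, h0, h1, rfl⟩
    exact Set.ncard_le_ncard_of_injOn g (fun z hz => map_plane_subset hT hg h0 h1 hz) g.injective.injOn
  exact le_antisymm (key _ _ (hT.homog v u hv.1 hv.2.1 hv.2.2 hu.1 hu.2.1 hu.2.2))
    (key _ _ (hT.homog u v hu.1 hu.2.1 hu.2.2 hv.1 hv.2.1 hv.2.2))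

theorem plane_eq (hT : Third G c σ) {w v : ZMod p} (hw : w ≠ 0 ∧ w ≠ 1 ∧ w ≠ c)
    (hv : v ≠ 0 ∧ v ≠ 1 ∧ v ≠ c) (hvw : v ∈ plane σ w) : plane σ v = plane σ w := by
  refine Set.eq_of_subset_of_ncard_le ?_ (card_plane_eq hT hw hv).ge
  exact fun z hz => hz _ (plane_closed w) (zero_mem w) (one_mem w) hvw

theorem fix_plane (hT : Third G c σ) {g : Equiv.Perm (ZMod p)} (hg : g ∈ G) (h0 : g 0 = 0)
    (h1 : g 1 = 1) {v z : ZMod p} (hv : g v = v) (hz : z ∈ plane σ v) : g z = z :=
  hz {x | g x = x} (fun x hx y hy _ => by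
    change g (σ x y) = σ x y; rw [hT.map g hg, hx, hy]) h0 h1 hv

/-- An element of the pair stabiliser inverting a point of a plane moves it along a base point. -/
theorem swap_point (hT : Third G c σ) {w : ZMod p} (hw : w ≠ 0 ∧ w ≠ 1 ∧ w ≠ c)
    {g : Equiv.Perm (ZMod p)} (hg : g ∈ G) (h0 : g 0 = 0) (h1 : g 1 = 1)
    (hgP : g w ∈ plane σ w) (hgg : g (g w) = w) (hne : g w ≠ w) :
    g w = σ 0 w ∨ g w = σ 1 w ∨ g w = σ c w := by
  have huP : σ w (g w) ∈ plane σ w := plane_closed w _ (self_mem w) _ hgP hne.symm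
  have hufix : g (σ w (g w)) = σ w (g w) := by rw [hT.map g hg, hgg, hT.symm]
  have hback : g w = σ (σ w (g w)) w := by rw [hT.symm (σ w (g w)), hT.invol _ _ hne.symm]
  by_contra hcon
  push Not at hcon
  have hu : σ w (g w) ≠ 0 ∧ σ w (g w) ≠ 1 ∧ σ w (g w) ≠ c :=
    ⟨fun e => hcon.1 (e ▸ hback), fun e => hcon.2.1 (e ▸ hback), fun e => hcon.2.2 (e ▸ hback)⟩
  exact hne (fix_plane hT hg h0 h1 hufix (by rw [plane_eq hT hw hu huP]; exact self_mem w))

/-- In every plane the three base involutions commute or conjugate each other. -/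
theorem dichotomy (hT : Third G c σ) (hc0 : c ≠ 0) (hc1 : c ≠ 1) {w : ZMod p}
    (hw : w ≠ 0 ∧ w ≠ 1 ∧ w ≠ c) :
    σ c w = σ 0 (σ 1 w) ∨ σ c w = σ 1 (σ 0 (σ 1 w)) := by
  obtain ⟨hw0, hw1, hwc⟩ := hw
  have hw' : w ≠ 0 ∧ w ≠ 1 ∧ w ≠ c := ⟨hw0, hw1, hwc⟩
  have out0 : σ 0 w ≠ 0 ∧ σ 0 w ≠ 1 ∧ σ 0 w ≠ c := by
    refine ⟨(hT.ne _ _ hw0.symm).1, fun e => hwc ?_, fun e => hw1 ?_⟩
    · rw [← hT.invol 0 w hw0.symm, e, hT.base]
    · rw [← hT.invol 0 w hw0.symm, e, ← hT.base, hT.invol 0 1 zero_ne_one]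
  have out1 : σ 1 w ≠ 0 ∧ σ 1 w ≠ 1 ∧ σ 1 w ≠ c := by
    refine ⟨fun e => hwc ?_, (hT.ne _ _ hw1.symm).1, fun e => hw0 ?_⟩
    · rw [← hT.invol 1 w hw1.symm, e, hT.symm, hT.base]
    · rw [← hT.invol 1 w hw1.symm, e, ← hT.base, hT.symm 0 1, hT.invol 1 0 one_ne_zero]
  have hne01 : σ 0 w ≠ σ 1 w := fun e => by
    have h1 : σ w (σ 0 w) = 0 := by rw [hT.symm 0 w, hT.invol _ _ hw0]
    have h2 : σ w (σ 1 w) = 1 := by rw [hT.symm 1 w, hT.invol _ _ hw1]
    rw [e] at h1
    exact zero_ne_one (h1.symm.trans h2)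
  obtain ⟨A, hA, A0, A1, Aw⟩ := hT.homog w (σ 0 w) hw0 hw1 hwc out0.1 out0.2.1 out0.2.2
  obtain ⟨B, hB, B0, B1, Bw⟩ := hT.homog w (σ 1 w) hw0 hw1 hwc out1.1 out1.2.1 out1.2.2
  have P0 : σ 0 w ∈ plane σ w := plane_closed w _ (zero_mem w) _ (self_mem w) hw0.symm
  have P1 : σ 1 w ∈ plane σ w := plane_closed w _ (one_mem w) _ (self_mem w) hw1.symm
  have AP : ∀ z ∈ plane σ w, A z ∈ plane σ w := fun z hz => by
    rw [← plane_eq hT hw' out0 P0, ← Aw]; exact map_plane_subset hT hA A0 A1 hz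
  have BP : ∀ z ∈ plane σ w, B z ∈ plane σ w := fun z hz => by
    rw [← plane_eq hT hw' out1 P1, ← Bw]; exact map_plane_subset hT hB B0 B1 hz
  have B2w : B (B w) = w := by rw [Bw, hT.map B hB, B1, Bw, hT.invol _ _ hw1.symm]
  have BAB : B (A (B w)) = σ 1 (σ 0 (σ 1 w)) := by
    rw [Bw, hT.map A hA, A1, Aw, hT.map B hB, B1, hT.map B hB, B0, Bw]
  have hA2 : ∀ z ∈ plane σ w, A (A z) = z := fun z hz => by
    have hw2 : A (A w) = w := by rw [Aw, hT.map A hA, A0, Aw, hT.invol _ _ hw0.symm]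
    have := fix_plane hT (G.mul_mem hA hA) (by simp [A0]) (by simp [A1]) (v := w)
      (by simpa using hw2) hz
    simpa using this
  have hB2 : ∀ z ∈ plane σ w, B (B z) = z := fun z hz => by
    have := fix_plane hT (G.mul_mem hB hB) (by simp [B0]) (by simp [B1]) (v := w)
      (by simpa using B2w) hz
    simpa using this
  have hi : B * A * B ∈ G := G.mul_mem (G.mul_mem hB hA) hB
  have hid : ∀ z, (B * A * B) z = B (A (B z)) := fun z => rfl
  have hne_i : σ 1 (σ 0 (σ 1 w)) ≠ w := fun e => by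
    have h2 : σ 0 (σ 1 w) ≠ 1 := fun e2 => out1.2.2 (by
      rw [← hT.invol 0 (σ 1 w) out1.1.symm, e2, hT.base])
    have h1 : σ 0 (σ 1 w) = σ 1 w := by
      conv_rhs => rw [← e]
      rw [hT.invol 1 _ (fun e3 => h2 e3.symm)]
    exact (hT.ne _ _ out1.1.symm).2 h1
  rcases swap_point hT hw' hi (by simp [A0, B0]) (by simp [A1, B1]) (g := B * A * B)
      (by rw [hid]; exact BP _ (AP _ (BP _ (self_mem w))))
      (by rw [hid, hid, hB2 _ (AP _ (BP _ (self_mem w))), hA2 _ (BP _ (self_mem w)), B2w])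
      (by rw [hid, BAB]; exact hne_i) with h | h | h
  · left
    rw [hid, BAB] at h
    have hcomm : σ 0 (σ 1 w) = σ 1 (σ 0 w) := by
      have h2 : σ 0 (σ 1 w) ≠ 1 := fun e2 => out1.2.2 (by
        rw [← hT.invol 0 (σ 1 w) out1.1.symm, e2, hT.base])
      rw [← hT.invol 1 (σ 0 (σ 1 w)) h2.symm, h]
    have hj : A * B ∈ G := G.mul_mem hA hB
    have hjd : ∀ z, (A * B) z = A (B z) := fun z => rfl
    have jw : A (B w) = σ 1 (σ 0 w) := by rw [Bw, hT.map A hA, A1, Aw]
    rcases swap_point hT hw' hj (by simp [A0, B0]) (by simp [A1, B1]) (g := A * B)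
        (by rw [hjd]; exact AP _ (BP _ (self_mem w)))
        (by
          rw [hjd, hjd, jw, hT.map B hB, B1, hT.map B hB, B0, Bw, h, hT.map A hA, A0, Aw,
            hT.invol _ _ hw0.symm])
        (by
          rw [hjd, jw]
          intro e
          have := hT.invol 1 (σ 0 w) out0.2.1.symm
          rw [e] at this
          exact hne01 this.symm) with h' | h' | h'
    · rw [hjd, jw] at h'; exact absurd h' (hT.ne _ _ out0.2.1.symm).2
    · rw [hjd, jw] at h'
      have := congrArg (σ 1) h'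
      rw [hT.invol _ _ out0.2.1.symm, hT.invol _ _ hw1.symm] at this
      exact absurd this (hT.ne _ _ hw0.symm).2
    · rw [hjd, jw] at h'; rw [← h', hcomm]
  · rw [hid, BAB] at h
    have h2 : σ 0 (σ 1 w) ≠ 1 := fun e2 => out1.2.2 (by
      rw [← hT.invol 0 (σ 1 w) out1.1.symm, e2, hT.base])
    have := congrArg (σ 1) h
    rw [hT.invol _ _ h2.symm, hT.invol _ _ hw1.symm] at this
    have := congrArg (σ 0) this
    rw [hT.invol _ _ out1.1.symm] at this
    exact absurd this.symm hne01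
  · right; rw [hid, BAB] at h; exact h.symm

/-- There is no such choice of third points when `p > 7`. -/
theorem no_third (h : Setting p G) (hp7 : 7 < p) (hT : Third G c σ) : False := by
  have hp2 : p ≠ 2 := by omega
  have n2 : (2 : ZMod p) ≠ 0 := by exact_mod_cast natCast_ne_zero hp7 (n := 2) (by norm_num) (by norm_num)
  have n3 : (3 : ZMod p) ≠ 0 := by exact_mod_cast natCast_ne_zero hp7 (n := 3) (by norm_num) (by norm_num)
  have n7 : (7 : ZMod p) ≠ 0 := by exact_mod_cast natCast_ne_zero hp7 (n := 7) (by norm_num) (by norm_num)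
  obtain ⟨hc0, hc1⟩ : c ≠ 0 ∧ c ≠ 1 := hT.base ▸ hT.ne 0 1 zero_ne_one
  have h0c : σ 0 c = 1 := by rw [← hT.base, hT.invol 0 1 zero_ne_one]
  have aff : ∀ (a b x y : ZMod p), a ≠ 0 → σ (a ^ 2 * x + b) (a ^ 2 * y + b) = a ^ 2 * σ x y + b := by
    intro a b x y ha
    obtain ⟨g, hg, hg'⟩ := h.affine_mem ha b
    rw [← hg' x, ← hg' y, ← hT.map g hg, hg']
  have shift : ∀ x y b, σ (x + b) (y + b) = σ x y + b := fun x y b => by
    simpa using aff 1 b x y one_ne_zero
  have scale : ∀ a y, a ≠ 0 → σ 0 (a ^ 2 * y) = a ^ 2 * σ 0 y := fun a y ha => by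
    simpa using aff a 0 0 y ha
  have hm1 : σ 0 (-1) = c - 1 := by
    have h1 := shift 0 1 (-1)
    rw [hT.base, zero_add, add_neg_cancel, hT.symm] at h1
    rw [h1]; ring
  have hcns : ¬ IsSquare c := by
    rintro ⟨a, ha⟩
    have ha0 : a ≠ 0 := fun e => hc0 (by rw [ha, e, mul_zero])
    have h1 := scale a 1 ha0
    rw [mul_one, sq, ← ha, h0c, hT.base] at h1
    rcases mul_self_eq_one_iff.mp h1.symm with e | e
    · exact hc1 e
    · rw [e] at h0c hm1
      exact n3 (by linear_combination h0c.symm.trans hm1)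
  have hm1ns : ¬ IsSquare (-1 : ZMod p) := by
    rintro ⟨a, ha⟩
    have ha0 : a ≠ 0 := fun e => by simp [e] at ha
    have h1 := scale a 1 ha0
    rw [mul_one, sq, ← ha, hm1, hT.base] at h1
    have h2 := scale a c ha0
    rw [sq, ← ha, h0c] at h2
    have h3 := shift c 0 (-c)
    rw [add_neg_cancel, zero_add, hT.symm c 0, h0c] at h3
    simp only [neg_one_mul] at h2
    have hc2 : c = 2 := by linear_combination h2.symm.trans h3
    exact n3 (by linear_combination h1 + (-2 : ZMod p) * hc2)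
  have hsqn : ∀ n, n ≠ 0 → IsSquare n → σ 0 n = c * n := by
    rintro n hn ⟨a, rfl⟩
    have := scale a 1 (fun e => hn (by rw [e, mul_zero]))
    rw [mul_one, hT.base, sq] at this
    rw [this, mul_comm]
  have hnsn : ∀ n, ¬ IsSquare n → σ 0 n = n / c := by
    intro n hn
    obtain ⟨a, ha, hd⟩ := exists_sq_mul hcns (d := n) (fun e => hn (e ▸ IsSquare.zero))
    rcases hd with hd | hd
    · exact absurd ⟨a, by rw [hd, sq]⟩ hn
    · rw [hd, scale a c ha, h0c]; field_simp
  have hquad : c ^ 2 - c + 1 = 0 := by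
    have h1 := hnsn (-1) hm1ns
    rw [hm1, eq_div_iff hc0] at h1
    linear_combination h1
  have hω : IsSquare (c - 1) := by
    have h2 : IsSquare (-1 * c) := nonsquare_mul hp2 hm1ns hcns
    obtain ⟨a, ha⟩ := h2
    have ha0 : a ≠ 0 := fun e => hc0 (by simpa [e] using ha)
    refine ⟨a⁻¹, ?_⟩
    field_simp
    linear_combination (c - 1) * (-ha) - hquad
  obtain ⟨r, hr⟩ := hω
  have hr0 : r ≠ 0 := fun e => hc1 (by simpa [e, sub_eq_zero] using hr)
  let μ : ZMod p → ZMod p := fun x => (c - 1) * x + 1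
  have μσ : ∀ x y, σ (μ x) (μ y) = μ (σ x y) := fun x y => by
    have := aff r 1 x y hr0
    rw [sq, ← hr] at this
    exact this
  have hc2 : 2 - c ≠ 0 := fun e => n3 (by linear_combination hquad + (c + 1) * e)
  let q : ZMod p := (2 - c)⁻¹
  have hq : (2 - c) * q = 1 := mul_inv_cancel₀ hc2
  have hμq : μ q = q := by simp only [μ]; linear_combination -hq
  have hμ0 : μ 0 = 1 := by simp [μ]
  have hμ1 : μ 1 = c := by simp [μ]
  have hμc : μ c = 0 := by simp only [μ]; linear_combination hquad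
  have hμinj : Function.Injective μ := fun x y e => by
    have hne : c - 1 ≠ 0 := sub_ne_zero.mpr hc1
    exact mul_left_cancel₀ hne (add_right_cancel e)
  have hq0 : q ≠ 0 := inv_ne_zero hc2
  have hq1 : q ≠ 1 := fun e => hc1 (by rw [e, mul_one] at hq; linear_combination -hq)
  have hqc : q ≠ c := fun e => hc0 (by rw [e] at hq; linear_combination hquad + hq)
  set a := σ 0 q with ha
  have ha0 : a ≠ 0 := (hT.ne _ _ hq0.symm).1
  have ha1 : a ≠ 1 := fun e => hqc (by rw [← hT.invol 0 q hq0.symm, ← ha, e, hT.base])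
  have haq : a ≠ q := (hT.ne _ _ hq0.symm).2
  have hac : a ≠ c := fun e => hq1 (by rw [← hT.invol 0 q hq0.symm, ← ha, e, h0c])
  have hμa : σ 1 q = μ a := by rw [ha, ← μσ, hμ0, hμq]
  have hw : μ a ≠ 0 ∧ μ a ≠ 1 ∧ μ a ≠ c :=
    ⟨hμc ▸ hμinj.ne hac, hμ0 ▸ hμinj.ne ha0, hμ1 ▸ hμinj.ne ha1⟩
  have h1μa : σ 1 (μ a) = q := by rw [← hμa, hT.invol _ _ hq1.symm]
  rcases dichotomy hT hc0 hc1 hw with hI | hII
  · rw [h1μa, ← ha] at hI
    have h1 : σ a (μ a) = c := by
      calc σ a (μ a) = σ (μ a) (σ (μ a) c) := by rw [hT.symm (μ a) c, hI, hT.symm]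
        _ = c := hT.invol _ _ hw.2.2
    have h2 := shift 0 (μ a - a) a
    rw [zero_add, sub_add_cancel, h1] at h2
    rcases em (IsSquare q) with hqs | hqn
    · have hacq : a = c * q := hsqn q hq0 hqs
      have hD : μ a - a = 1 - c := by
        simp only [μ]; rw [hacq]; linear_combination (-c) * hq
      have hDn : ¬ IsSquare (1 - c) := by
        rintro ⟨s, hs⟩
        refine hm1ns ⟨s / r, ?_⟩
        field_simp
        linear_combination hr + hs
      rw [hD, hnsn _ hDn, hacq] at h2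
      field_simp at h2
      have hq2 : q = 2 := by
        refine mul_left_cancel₀ (sub_ne_zero.mpr hc1) ?_
        linear_combination -h2 + (1 - q) * hquad
      rw [hq2] at hq
      exact n7 (by linear_combination 4 * hquad + (2 * c + 1) * hq)
    · have hacq : a = q / c := hnsn q hqn
      have hD : μ a - a = c := by
        simp only [μ]; rw [hacq]; field_simp; linear_combination -hquad - hq
      rw [hD, h0c, hacq] at h2
      field_simp at h2
      have hq2 : q = -1 := by linear_combination -h2 + hquad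
      rw [hq2] at hq
      exact n7 (by linear_combination hquad - (c + 2) * hq)
  · rw [h1μa, ← ha] at hII
    have h1 : μ (σ 1 a) = σ 1 a := by rw [← μσ, hμ1, hII]
    have hu : σ 1 a = q := by
      refine mul_left_cancel₀ hc2 ?_
      simp only [μ] at h1
      rw [hq]; linear_combination -h1
    have h3 : a = μ a := by rw [← hμa, ← hu, hT.invol _ _ ha1.symm]
    refine haq (mul_left_cancel₀ hc2 ?_)
    simp only [μ] at h3
    rw [hq]; linear_combination h3

open scoped Classical in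
/-- The stabiliser of `0` has no proper block containing two points. -/
theorem no_block (h : Setting p G) (hp7 : 7 < p) (B : Finset (ZMod p)) (hB0 : (0 : ZMod p) ∉ B)
    (hB1 : (1 : ZMod p) ∈ B) {c d : ZMod p} (hcB : c ∈ B) (hc1 : c ≠ 1) (hd0 : d ≠ 0) (hdB : d ∉ B)
    (hblock : ∀ g ∈ G, g 0 = 0 → ∀ x ∈ B, g x ∈ B → ∀ y ∈ B, g y ∈ B) : False := by
  have hc0 : c ≠ 0 := fun e => hB0 (e ▸ hcB)
  have hd1 : d ≠ 1 := fun e => hdB (e ▸ hB1)
  have h01 : (0 : ZMod p) ≠ 1 := zero_ne_one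
  have pres : ∀ g ∈ G, g 0 = 0 → g 1 = 1 → ∀ y ∈ B, g y ∈ B := fun g hg h0 h1 =>
    hblock g hg h0 1 hB1 (by rwa [h1])
  have presR : ∀ u v, Rel G 0 1 u v → (u ∈ B ↔ v ∈ B) := by
    intro u v huv
    obtain ⟨g, hg, a, b, e⟩ := huv
    obtain ⟨g', hg', a', b', e'⟩ := Rel.symm ⟨g, hg, a, b, e⟩
    exact ⟨fun hu => e ▸ pres g hg a b u hu, fun hv => e' ▸ pres g' hg' a' b' v hv⟩
  -- the orbit of `c` is the block without `1`
  have horb : ∀ z, Rel G 0 1 c z ↔ (z ∈ B ∧ z ≠ 1) := by
    intro z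
    refine ⟨fun hz => ⟨(presR c z hz).mp hcB, ?_⟩, fun ⟨hzB, hz1⟩ => ?_⟩
    · obtain ⟨g, -, -, b, e⟩ := hz
      exact fun e' => hc1 (g.injective (by rw [e, e', b]))
    · have hz0 : z ≠ 0 := fun e => hB0 (e ▸ hzB)
      obtain ⟨i, j, hij, hr⟩ := two_orbits h h01 ![c, d, z]
        (fun i => by fin_cases i <;> assumption) (fun i => by fin_cases i <;> assumption)
      fin_cases i <;> fin_cases j <;> simp at hr hij
      · exact absurd ((presR _ _ hr).mp hcB) hdB
      · exact hr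
      · exact absurd ((presR _ _ hr).mpr hcB) hdB
      · exact absurd ((presR _ _ hr).mpr hzB) hdB
      · exact hr.symm
      · exact absurd ((presR _ _ hr).mp hzB) hdB
  -- some translate of the block has non-zero sum, so the blocks are pairs
  have hcard : B.card = 2 := by
    by_contra hne
    have hBsub : {1, c} ⊆ B := by
      intro x hx
      rcases Finset.mem_insert.mp hx with rfl | hx
      · exact hB1
      · rw [Finset.mem_singleton.mp hx]; exact hcB
    have hge := Finset.card_le_card hBsub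
    rw [Finset.card_pair hc1.symm] at hge
    have key : ∀ t, t ≠ 0 → ∀ k ∈ G, k 0 = 0 → k 1 = t → ∑ z ∈ B, k z = 0 := by
      intro t _ k hk k0 _
      by_contra hs
      have hsq : ∀ x ∈ B, ∀ y ∈ B, x ≠ y → ¬ IsSquare (k y / k x) := by
        rintro x hx y hy hxy ⟨a, ha⟩
        have hkx : k x ≠ 0 := fun e => hB0 (k.injective (e.trans k0.symm) ▸ hx)
        have hky : k y ≠ 0 := fun e => hB0 (k.injective (e.trans k0.symm) ▸ hy)
        have ha0 : a ≠ 0 := fun e => div_ne_zero hky hkx (by rw [ha, e, mul_zero])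
        obtain ⟨g, hg, hg'⟩ := h.sq a ha0
        have hm : k⁻¹ * g * k ∈ G := G.mul_mem (G.mul_mem (G.inv_mem hk) hg) hk
        have hmd : ∀ z, (k⁻¹ * g * k) z = k.symm (a ^ 2 * k z) := fun z => by
          simp [hg', Equiv.Perm.inv_def]
        have hkk : a ^ 2 * k x = k y := by rw [sq, ← ha]; field_simp
        have hall := hblock _ hm (by rw [hmd, k0, mul_zero, ← k0, Equiv.symm_apply_apply, k0])
          x hx (by rw [hmd, hkk, Equiv.symm_apply_apply]; exact hy)
        have hsum : ∑ z ∈ B, a ^ 2 * k z = ∑ z ∈ B, k z := by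
          have him : B.image (k⁻¹ * g * k) = B := Finset.eq_of_subset_of_card_le
            (fun z hz => by obtain ⟨w, hw, rfl⟩ := Finset.mem_image.mp hz; exact hall w hw)
            (by rw [Finset.card_image_of_injective _ (k⁻¹ * g * k).injective])
          conv_rhs => rw [← him]
          rw [Finset.sum_image (fun u _ v _ e => (k⁻¹ * g * k).injective e)]
          refine Finset.sum_congr rfl fun z _ => ?_
          rw [hmd, Equiv.apply_symm_apply]
        rw [← Finset.mul_sum] at hsum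
        have h1 : a ^ 2 = 1 := by
          by_contra h2
          exact hs ((mul_eq_zero.mp (show (a ^ 2 - 1) * ∑ z ∈ B, k z = 0 by
            linear_combination hsum)).resolve_left (sub_ne_zero.mpr h2))
        rw [h1, one_mul] at hkk
        exact hxy (k.injective hkk)
      obtain ⟨x, y, z, hx, hy, hz, hxy, hxz, hyz⟩ :=
        Finset.two_lt_card_iff.mp (show 2 < B.card by omega)
      refine hsq x hx z hz hxz ?_
      have hky : k y ≠ 0 := fun e => hB0 (k.injective (e.trans k0.symm) ▸ hy)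
      rw [show k z / k x = (k z / k y) * (k y / k x) by field_simp]
      exact nonsquare_mul (by omega) (hsq y hy z hz hyz) (hsq x hx y hy hxy)
    let M : ZMod p → ZMod p → ZMod p → ZMod p := fun z x y =>
      if x = y then 0 else
        orbitInd G c z x y + (if z = y then 1 else 0) - (B.card : ZMod p) * (if z = x then 1 else 0)
    have hMinv : Inv G M := fun g hg z x y => by
      simp only [M, orbitInd_inv c g hg z x y, g.injective.eq_iff]
    have hMdiag : ∀ z x, M z x x = 0 := fun z x => if_pos rfl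
    have hc01 : ∑ z, orbitInd G c z 0 1 = (B.card : ZMod p) - 1 := by
      simp only [orbitInd_base, horb, Finset.sum_boole]
      rw [show (Finset.univ.filter fun z => z ∈ B ∧ z ≠ 1) = B.erase 1 by ext; simp [and_comm],
        Finset.card_erase_of_mem hB1, Nat.cast_sub (by omega), Nat.cast_one]
    have hMsum : ∀ x y, ∑ z, M z x y = 0 := by
      intro x y
      rcases eq_or_ne x y with rfl | hxy
      · simp [hMdiag]
      simp only [M, if_neg hxy, Finset.sum_sub_distrib, Finset.sum_add_distrib,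
        orbitInd_sum h c x y hxy, hc01, ← Finset.mul_sum, Finset.sum_ite_eq', Finset.mem_univ,
        if_true]
      ring
    have hmom : ∀ t, t ≠ 0 → moment M 0 t = 0 := by
      intro t ht
      obtain ⟨k, hk, k0, k1⟩ := h.twoTrans h01 ht.symm
      have e1 : ∑ z, z * orbitInd G c z 0 t = ∑ z ∈ B.erase 1, k z := by
        calc ∑ z, z * orbitInd G c z 0 t = ∑ z, k z * orbitInd G c (k z) (k 0) (k 1) := by
              rw [k0, k1]; exact (Equiv.sum_comp k fun z => z * orbitInd G c z 0 t).symm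
          _ = ∑ z, if z ∈ B.erase 1 then k z else 0 := Finset.sum_congr rfl fun z _ => by
              rw [orbitInd_inv c k hk z 0 1, orbitInd_base]
              simp [horb, and_comm]
          _ = _ := by
              rw [← Finset.sum_filter]
              refine Finset.sum_congr ?_ fun z _ => rfl
              ext z
              simp
      have e2 := key t ht k hk k0 k1
      rw [← Finset.add_sum_erase _ _ hB1, k1] at e2
      simp only [moment, M, if_neg ht.symm, mul_sub, mul_add, Finset.sum_sub_distrib,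
        Finset.sum_add_distrib, e1, mul_ite, mul_one, mul_zero, Finset.sum_ite_eq', Finset.mem_univ,
        if_true]
      linear_combination e2
    obtain ⟨ν, hν⟩ := exists_nonsquare h
    have hν0 : ν ≠ 0 := fun e => hν (e ▸ IsSquare.zero)
    have hF : ∀ x y, moment M x y = 0 := fun x y =>
      moment_zero h hMinv hMsum hν (hmom 1 one_ne_zero) (hmom ν hν0) hMdiag x y
    have hconst := const_of_moment h hMinv hMsum hF c d 0 1
    simp only [M, if_neg h01, orbitInd_base, horb, hcB, hdB, hc1, hd1, hc0, hd0, ne_eq,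
      not_false_eq_true, and_true, if_true, if_false] at hconst
    simp at hconst
  have hBeq : B = {1, c} := (Finset.eq_of_subset_of_card_le (by
    intro x hx
    rcases Finset.mem_insert.mp hx with rfl | hx
    · exact hB1
    · rw [Finset.mem_singleton.mp hx]; exact hcB) (by rw [Finset.card_pair hc1.symm, hcard])).symm
  have cfix : ∀ g ∈ G, g 0 = 0 → g 1 = 1 → g c = c := by
    intro g hg a b
    have := ((horb (g c)).mp ⟨g, hg, a, b, rfl⟩)
    rw [hBeq] at this
    simpa [this.2] using this.1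
  have homog : ∀ u v, u ≠ 0 → u ≠ 1 → u ≠ c → v ≠ 0 → v ≠ 1 → v ≠ c → Rel G 0 1 u v := by
    intro u v u0 u1 uc v0 v1 vc
    have hnc : ∀ z, z ≠ c → ¬ Rel G 0 1 c z := by
      rintro z hz ⟨g, hg, a, b, e⟩
      exact hz (e.symm.trans (cfix g hg a b))
    obtain ⟨i, j, hij, hr⟩ := two_orbits h h01 ![c, u, v]
      (fun i => by fin_cases i <;> assumption) (fun i => by fin_cases i <;> assumption)
    fin_cases i <;> fin_cases j <;> simp at hr hij
    · exact absurd hr (hnc u uc)
    · exact absurd hr (hnc v vc)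
    · exact absurd hr.symm (hnc u uc)
    · exact hr
    · exact absurd hr.symm (hnc v vc)
    · exact hr.symm
  let σ : ZMod p → ZMod p → ZMod p := fun x y =>
    if hxy : x = y then x else (h.twoTrans h01 hxy).choose c
  have σeq : ∀ g ∈ G, ∀ x y, g 0 = x → g 1 = y → σ x y = g c := by
    intro g hg x y gx gy
    have hxy : x ≠ y := gx ▸ gy ▸ g.injective.ne h01
    simp only [σ, dif_neg hxy]
    obtain ⟨hk, k0, k1⟩ := (h.twoTrans h01 hxy).choose_spec
    set k := (h.twoTrans h01 hxy).choose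
    have := cfix (g⁻¹ * k) (G.mul_mem (G.inv_mem hg) hk)
      (by rw [Equiv.Perm.mul_apply, k0, ← gx, Equiv.Perm.inv_def, Equiv.symm_apply_apply])
      (by rw [Equiv.Perm.mul_apply, k1, ← gy, Equiv.Perm.inv_def, Equiv.symm_apply_apply])
    rwa [Equiv.Perm.mul_apply, Equiv.Perm.inv_def, Equiv.symm_apply_eq] at this
  have hswap : ∃ g ∈ G, g 0 = 1 ∧ g 1 = 0 ∧ g c = c := by
    obtain ⟨g, hg, a, b⟩ := h.twoTrans h01 h01.symm
    refine ⟨g, hg, a, b, ?_⟩
    by_contra hne
    have g0 : g c ≠ 0 := fun e => hc1 (g.injective (e.trans b.symm))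
    have g1 : g c ≠ 1 := fun e => hc0 (g.injective (e.trans a.symm))
    obtain ⟨u, -, hu⟩ : ∃ u ∈ (Finset.univ : Finset (ZMod p)), u ∉ ({0, 1, c, g c} : Finset (ZMod p)) :=
      Finset.exists_mem_notMem_of_card_lt_card (by
        rw [Finset.card_univ, ZMod.card]
        exact lt_of_le_of_lt Finset.card_le_four (by omega))
    simp only [Finset.mem_insert, Finset.mem_singleton, not_or] at hu
    obtain ⟨m, hm, m0, m1, me⟩ := homog (g c) u g0 g1 hne hu.1 hu.2.1 hu.2.2.1
    have := cfix (g⁻¹ * m * g) (G.mul_mem (G.mul_mem (G.inv_mem hg) hm) hg)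
      (by rw [Equiv.Perm.mul_apply, Equiv.Perm.mul_apply, a, m1, ← a, Equiv.Perm.inv_def,
        Equiv.symm_apply_apply])
      (by rw [Equiv.Perm.mul_apply, Equiv.Perm.mul_apply, b, m0, ← b, Equiv.Perm.inv_def,
        Equiv.symm_apply_apply])
    rw [Equiv.Perm.mul_apply, Equiv.Perm.mul_apply, me, Equiv.Perm.inv_def, Equiv.symm_apply_eq] at this
    exact hu.2.2.2 this
  refine no_third h hp7 (c := c) (σ := σ) ⟨σeq 1 G.one_mem 0 1 rfl rfl, ?_, ?_, ?_, ?_, homog⟩
  · intro g hg x y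
    rcases eq_or_ne x y with rfl | hxy
    · simp [σ]
    obtain ⟨k, hk, rfl, rfl⟩ := h.twoTrans h01 hxy
    rw [σeq k hk _ _ rfl rfl, σeq (g * k) (G.mul_mem hg hk) (g (k 0)) (g (k 1)) rfl rfl]
    rfl
  · intro x y
    rcases eq_or_ne x y with rfl | hxy
    · rfl
    obtain ⟨k, hk, rfl, rfl⟩ := h.twoTrans h01 hxy
    obtain ⟨g, hg, a, b, e⟩ := hswap
    rw [σeq k hk _ _ rfl rfl, σeq (k * g) (G.mul_mem hk hg) _ _ (by rw [Equiv.Perm.mul_apply, a])
      (by rw [Equiv.Perm.mul_apply, b]), Equiv.Perm.mul_apply, e]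
  · intro x y hxy
    obtain ⟨k, hk, rfl, rfl⟩ := h.twoTrans h01 hxy
    obtain ⟨m, hm, m0, m1⟩ := h.twoTrans h01 hc0.symm
    have hmc : m c = 1 := by
      have := hblock m hm m0 1 hB1 (by rw [m1]; exact hcB) c hcB
      rw [hBeq] at this
      rcases Finset.mem_insert.mp this with e | e
      · exact e
      · exact absurd (m.injective ((Finset.mem_singleton.mp e).trans m1.symm)) hc1
    rw [σeq k hk _ _ rfl rfl, σeq (k * m) (G.mul_mem hk hm) _ _ (by rw [Equiv.Perm.mul_apply, m0])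
      (by rw [Equiv.Perm.mul_apply, m1]), Equiv.Perm.mul_apply, hmc]
  · intro x y hxy
    obtain ⟨k, hk, rfl, rfl⟩ := h.twoTrans h01 hxy
    rw [σeq k hk _ _ rfl rfl]
    exact ⟨k.injective.ne hc0, k.injective.ne hc1⟩

end Cfsg.Agent.PrimeDegreeHalfNetto28
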