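import Cfsg.Agent.Lib.PrimeDegreeHalfBound28
import Cfsg.Agent.Lib.PrimeDegreeHalfNetto28
import Cfsg.Agent.Lib.DihedralSrgMain28

/-!
If the stabiliser of a point in a non-solvable group of prime degree `p > 7` with the translations
and square multiplications is normalised by `x ↦ -1/x`, the group is triply transitive.
-/

set_option autoImplicit false

namespace Cfsg.Agent.PrimeDegreeHalfDihedral28

open Cfsg.Agent.PrimeDegreeHalfBound28 Cfsg.Agent.DihedralSrgAlgebra28

variable {p : ℕ} [hp : Fact p.Prime] {K : Subgroup (Equiv.Perm (ZMod p))}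

/-- A graph on the non-zero points coming from one class of triples. -/
structure Graph (K : Subgroup (Equiv.Perm (ZMod p))) (N : ZMod p → Finset (ZMod p)) (u v : ZMod p) :
    Prop where
  map : ∀ g ∈ K, g 0 = 0 → ∀ x y, x ≠ 0 → (g y ∈ N (g x) ↔ y ∈ N x)
  ne : ∀ x y, x ≠ 0 → y ∈ N x → y ≠ 0 ∧ y ≠ x
  symm : ∀ x y, x ≠ 0 → y ∈ N x → x ∈ N y
  u_mem : u ∈ N 1
  v_not : v ∉ N 1 ∧ v ≠ 0 ∧ v ≠ 1
  classes : ∀ w, w ≠ 0 → w ≠ 1 →
    (w ∈ N 1 ∧ Rel K 0 1 u w) ∨ (w ∉ N 1 ∧ Rel K 0 1 v w)
  iota : ∀ x y, x ≠ 0 → y ∈ N x → -y⁻¹ ∈ N (-x⁻¹)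

variable {N : ZMod p → Finset (ZMod p)} {u v : ZMod p}

theorem Graph.transport (hN : Graph K N u v) {g : Equiv.Perm (ZMod p)} (hg : g ∈ K) (g0 : g 0 = 0)
    {x : ZMod p} (hx : x ≠ 0) : N (g x) = (N x).image g := by
  ext y
  obtain ⟨z, rfl⟩ := g.surjective y
  rw [hN.map g hg g0 x z hx]
  simp

theorem Graph.card_eq (h : Setting p K) (hN : Graph K N u v) {x : ZMod p} (hx : x ≠ 0) :
    (N x).card = (N 1).card := by
  obtain ⟨g, hg, g0, g1⟩ := h.twoTrans zero_ne_one hx.symm
  rw [← g1, hN.transport hg g0 one_ne_zero, Finset.card_image_of_injective _ g.injective]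

theorem Graph.common_one (hN : Graph K N u v) {y : ZMod p} (hy0 : y ≠ 0) (hy1 : y ≠ 1) :
    (N 1 ∩ N y).card = if y ∈ N 1 then (N 1 ∩ N u).card else (N 1 ∩ N v).card := by
  have key : ∀ w, w ≠ 0 → Rel K 0 1 w y → (N 1 ∩ N y).card = (N 1 ∩ N w).card := by
    rintro w hw ⟨g, hg, g0, g1, rfl⟩
    have e : N 1 = (N 1).image g := by
      have := hN.transport hg g0 (one_ne_zero (α := ZMod p)); rwa [g1] at this
    conv_lhs => rw [e, hN.transport hg g0 hw, ← Finset.image_inter _ _ g.injective,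
      Finset.card_image_of_injective _ g.injective]
  rcases hN.classes y hy0 hy1 with ⟨hm, hr⟩ | ⟨hm, hr⟩
  · rw [if_pos hm]; exact key u (hN.ne 1 u one_ne_zero hN.u_mem).1 hr
  · rw [if_neg hm]; exact key v hN.v_not.2.1 hr

theorem Graph.common (h : Setting p K) (hN : Graph K N u v) {x y : ZMod p} (hx : x ≠ 0) (hy : y ≠ 0)
    (hxy : x ≠ y) :
    (N x ∩ N y).card = if y ∈ N x then (N 1 ∩ N u).card else (N 1 ∩ N v).card := by
  obtain ⟨g, hg, g0, g1⟩ := h.twoTrans zero_ne_one hx.symm
  obtain ⟨z, rfl⟩ := g.surjective y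
  have hz0 : z ≠ 0 := fun e => hy (by rw [e, g0])
  have hz1 : z ≠ 1 := fun e => hxy (by rw [e, g1])
  subst g1
  rw [hN.transport hg g0 one_ne_zero, hN.transport hg g0 hz0, ← Finset.image_inter _ _ g.injective,
    Finset.card_image_of_injective _ g.injective, hN.common_one hz0 hz1]
  simp

theorem Graph.scale (h : Setting p K) (hN : Graph K N u v) {a x y : ZMod p} (ha : a ≠ 0)
    (hs : IsSquare a) (hx : x ≠ 0) : a * y ∈ N (a * x) ↔ y ∈ N x := by
  obtain ⟨r, rfl⟩ := hs
  have hr : r ≠ 0 := fun e => ha (by rw [e, mul_zero])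
  obtain ⟨g, hg, hg'⟩ := h.sq r hr
  have := hN.map g hg (by rw [hg', mul_zero]) x y hx
  rwa [hg', hg', sq] at this

/-- An invariant equivalence relation on the non-zero points is trivial or universal. -/
theorem no_equiv (h : Setting p K) (hp7 : 7 < p) (R : ZMod p → ZMod p → Prop)
    (hR : ∀ g ∈ K, g 0 = 0 → ∀ x y, x ≠ 0 → y ≠ 0 → (R (g x) (g y) ↔ R x y))
    (hrefl : ∀ x, x ≠ 0 → R x x) (hsymm : ∀ x y, x ≠ 0 → y ≠ 0 → R x y → R y x)
    (htr : ∀ x y z, x ≠ 0 → y ≠ 0 → z ≠ 0 → R x y → R y z → R x z)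
    {c d : ZMod p} (hc0 : c ≠ 0) (hc1 : c ≠ 1) (hc : R 1 c) (hd0 : d ≠ 0) (hd : ¬ R 1 d) : False := by
  classical
  refine PrimeDegreeHalfNetto28.no_block h hp7 (Finset.univ.filter fun x => x ≠ 0 ∧ R 1 x)
    (c := c) (d := d) (by simp) (by simp [hrefl 1 one_ne_zero]) (by simp [hc0, hc]) hc1 hd0
    (by simp [hd]) ?_
  intro g hg g0 x hx hgx y hy
  simp only [Finset.mem_filter, Finset.mem_univ, true_and] at hx hgx hy ⊢
  have hgy : g y ≠ 0 := fun e => hy.1 (g.injective (e.trans g0.symm))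
  refine ⟨hgy, htr 1 (g x) (g y) one_ne_zero hgx.1 hgy hgx.2 ?_⟩
  rw [hR g hg g0 x y hx.1 hy.1]
  exact htr x 1 y hx.1 one_ne_zero hy.1 (hsymm 1 x one_ne_zero hx.1 hx.2) hy.2

theorem coeff_mul_el {C : Type*} [CommGroup C] [DecidableEq C] (A B : Finset C) (h : C) :
    (el ℤ A * el ℤ B).coeff h = ((A.filter fun a => a⁻¹ * h ∈ B).card : ℤ) := by
  rw [el, Finset.sum_mul, MonoidAlgebra.coeff_sum, Finsupp.finsetSum_apply]
  simp [MonoidAlgebra.coeff_single_mul_apply, coeff_el]

/-- The graph cannot exist when `p ≡ 3 (mod 4)`. -/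
theorem no_graph (h : Setting p K) (hp7 : 7 < p) (hp4 : p % 4 = 3) (hN : Graph K N u v) : False := by
  classical
  have hns : ¬ IsSquare (-1 : ZMod p) := by
    rw [FiniteField.isSquare_neg_one_iff, ZMod.card]; simp [hp4]
  have hodd : p % 2 = 1 := by omega
  let C : Subgroup (ZMod p)ˣ := (powMonoidHom 2 : (ZMod p)ˣ →* (ZMod p)ˣ).range
  haveI : Fintype C := Fintype.ofFinite _
  have hsq : ∀ a : C, IsSquare (((a : (ZMod p)ˣ)) : ZMod p) := by
    rintro ⟨a, b, rfl⟩
    exact ⟨b, by simp [sq]⟩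
  have hne : ∀ a : C, (((a : (ZMod p)ˣ)) : ZMod p) ≠ 0 := fun a => Units.ne_zero _
  let ι : C → ZMod p := fun a => (((a : (ZMod p)ˣ)) : ZMod p)
  have hιinj : Function.Injective ι := fun a b e => Subtype.ext (Units.ext e)
  have ιmul : ∀ a b : C, ι (a * b) = ι a * ι b := fun a b => rfl
  have ιone : ι 1 = 1 := rfl
  have ιinv : ∀ a : C, ι a⁻¹ = (ι a)⁻¹ := fun a => by
    simp only [ι, Subgroup.coe_inv, Units.val_inv_eq_inv_val]
  have hcover : ∀ z : ZMod p, z ≠ 0 → ∃ a : C, z = ι a ∨ z = -ι a := by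
    intro z hz
    obtain ⟨r, hr, hd⟩ := exists_sq_mul hns hz
    refine ⟨⟨(Units.mk0 r hr) ^ 2, Units.mk0 r hr, rfl⟩, ?_⟩
    rcases hd with hd | hd
    · exact Or.inl (by simp [ι, hd])
    · exact Or.inr (by simp [ι, hd])
  have hdisj : ∀ a b : C, ι a ≠ -ι b := by
    intro a b e
    obtain ⟨r, hr⟩ := hsq (a * b⁻¹)
    refine hns ⟨r, ?_⟩
    rw [← hr]
    change -1 = ι (a * b⁻¹)
    rw [ιmul, ιinv, e, neg_mul, mul_inv_cancel₀ (hne b)]
  have e1_1 : ∀ a b : C, ι b ∈ N (ι a) ↔ ι (a⁻¹ * b) ∈ N 1 := fun a b => by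
    rw [← hN.scale h (a := ι a) (hne a) (hsq a) (x := 1) (y := ι (a⁻¹ * b)) one_ne_zero, mul_one,
      ← ιmul, mul_inv_cancel_left]
  have e1_2 : ∀ a b : C, -ι b ∈ N (ι a) ↔ -ι (a⁻¹ * b) ∈ N 1 := fun a b => by
    rw [← hN.scale h (a := ι a) (hne a) (hsq a) (x := 1) (y := -ι (a⁻¹ * b)) one_ne_zero, mul_one,
      mul_neg, ← ιmul, mul_inv_cancel_left]
  have hsymm' : ∀ x y : ZMod p, x ≠ 0 → y ≠ 0 → (y ∈ N x ↔ x ∈ N y) := fun x y hx hy =>
    ⟨hN.symm x y hx, hN.symm y x hy⟩
  have hiota : ∀ x y : ZMod p, x ≠ 0 → y ≠ 0 → (-y⁻¹ ∈ N (-x⁻¹) ↔ y ∈ N x) := by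
    intro x y hx hy
    refine ⟨fun hm => ?_, hN.iota x y hx⟩
    have := hN.iota _ _ (neg_ne_zero.mpr (inv_ne_zero hx)) hm
    simpa using this
  let X : Finset C := Finset.univ.filter fun a => ι a ∈ N 1
  let Y : Finset C := Finset.univ.filter fun a => -ι a ∈ N 1
  have memX : ∀ a, a ∈ X ↔ ι a ∈ N 1 := fun a => by simp [X]
  have memY : ∀ a, a ∈ Y ↔ -ι a ∈ N 1 := fun a => by simp [Y]
  have Xsymm : ∀ a, a ∈ X → a⁻¹ ∈ X := fun a ha => by
    have h1 : ι (1 : C) ∈ N (ι a) := hN.symm _ _ one_ne_zero ((memX a).mp ha)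
    rw [e1_1, mul_one] at h1
    exact (memX _).mpr h1
  have Xsymm' : ∀ a, a⁻¹ ∈ X ↔ a ∈ X := fun a => ⟨fun ha => by simpa using Xsymm _ ha, Xsymm a⟩
  -- adjacency in terms of `X` and `Y`
  have adjpp : ∀ a b : C, ι b ∈ N (ι a) ↔ a⁻¹ * b ∈ X := fun a b => by rw [e1_1, memX]
  have adjpn : ∀ a b : C, -ι b ∈ N (ι a) ↔ a⁻¹ * b ∈ Y := fun a b => by rw [e1_2, memY]
  have adjnn : ∀ a b : C, -ι b ∈ N (-ι a) ↔ a⁻¹ * b ∈ X := fun a b => by
    have := hiota (ι a⁻¹) (ι b⁻¹) (hne _) (hne _)
    simp only [ιinv, inv_inv] at this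
    rw [this, ← ιinv, ← ιinv, adjpp, inv_inv, ← Xsymm' (a * b⁻¹)]
    simp [mul_comm]
  have adjnp : ∀ a b : C, ι b ∈ N (-ι a) ↔ b⁻¹ * a ∈ Y := fun a b => by
    rw [hsymm' _ _ (neg_ne_zero.mpr (hne a)) (hne b), adjpn]
  -- sizes
  have split : ∀ S : Finset (ZMod p), (0 : ZMod p) ∉ S →
      S.card = (Finset.univ.filter fun a => ι a ∈ S).card + (Finset.univ.filter fun a => -ι a ∈ S).card := by
    intro S hS0
    have hSeq : S = (Finset.univ.filter fun a => ι a ∈ S).image ι ∪
        (Finset.univ.filter fun a => -ι a ∈ S).image (fun a => -ι a) := by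
      ext z
      simp only [Finset.mem_union, Finset.mem_image, Finset.mem_filter, Finset.mem_univ, true_and]
      constructor
      · intro hz
        obtain ⟨a, ha | ha⟩ := hcover z (fun e => hS0 (e ▸ hz))
        · exact Or.inl ⟨a, ha ▸ hz, ha.symm⟩
        · exact Or.inr ⟨a, ha ▸ hz, ha.symm⟩
      · rintro (⟨a, ha, rfl⟩ | ⟨a, ha, rfl⟩) <;> exact ha
    conv_lhs => rw [hSeq]
    rw [Finset.card_union_of_disjoint, Finset.card_image_of_injective _ hιinj,
      Finset.card_image_of_injective _ (f := fun a => -ι a) (fun a b e => hιinj (neg_injective e))]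
    rw [Finset.disjoint_left]
    intro z hz hz'
    obtain ⟨a, -, rfl⟩ := Finset.mem_image.1 hz
    obtain ⟨b, -, hb⟩ := Finset.mem_image.1 hz'
    exact hdisj a b hb.symm
  have hN0 : ∀ x, x ≠ 0 → (0 : ZMod p) ∉ N x := fun x hx h0 => (hN.ne x 0 hx h0).1 rfl
  have hNcard : (N 1).card = X.card + Y.card := split _ (hN0 1 one_ne_zero)
  have hn2 : p - 1 = 2 * Fintype.card C := by
    have h1 := split (Finset.univ.erase (0 : ZMod p)) (by simp)
    rw [Finset.card_erase_of_mem (Finset.mem_univ _), Finset.card_univ, ZMod.card] at h1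
    rw [h1]
    have : ∀ a : C, ι a ≠ 0 := hne
    simp [this, two_mul]
  set lam : ℤ := ((N 1 ∩ N u).card : ℤ) with hlam
  set mu : ℤ := ((N 1 ∩ N v).card : ℤ) with hmu
  have Ypos : ∀ b : C, b ∈ Y → -ι b ≠ (1 : ZMod p) := fun b _ e => hdisj 1 b (ιone.trans e.symm)
  have hsameSq : ∀ c : C, ((N 1 ∩ N (ι c)).card : ℤ) =
      (el ℤ X * el ℤ X).coeff c + (star ℤ C (el ℤ Y) * el ℤ Y).coeff c := by
    intro c
    rw [split _ (fun h0 => hN0 1 one_ne_zero (Finset.mem_inter.1 h0).1), coeff_mul_el, star_el,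
      coeff_mul_el, Finset.filter_image, Finset.card_image_of_injective _ inv_injective]
    push_cast
    congr 1
    · congr 2
      ext a
      simp only [Finset.mem_inter, Finset.mem_filter, Finset.mem_univ, true_and, ← memX, adjpp]
      constructor
      · rintro ⟨h1, h2⟩; refine ⟨h1, ?_⟩; rw [← Xsymm']; simpa [mul_comm] using h2
      · rintro ⟨h1, h2⟩; refine ⟨h1, ?_⟩; rw [← Xsymm'] at h2; simpa [mul_comm] using h2
    · -- the pairs of non-squares
      refine congrArg Nat.cast (Finset.card_bij' (fun a _ => c⁻¹ * a) (fun b _ => c * b) ?_ ?_ ?_ ?_)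
      · intro a ha
        simp only [Finset.mem_inter, Finset.mem_filter, Finset.mem_univ, true_and, ← memY, adjpn] at ha ⊢
        exact ⟨ha.2, by simpa [mul_comm] using ha.1⟩
      · intro b hb
        simp only [Finset.mem_inter, Finset.mem_filter, Finset.mem_univ, true_and, ← memY, adjpn] at hb ⊢
        exact ⟨by simpa [mul_comm] using hb.2, by simpa using hb.1⟩
      · intro a _; simp
      · intro b _; simp
  have hcross : ∀ c : C, ((N 1 ∩ N (-ι c)).card : ℤ) = 2 * (el ℤ X * el ℤ Y).coeff c := by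
    intro c
    rw [split _ (fun h0 => hN0 1 one_ne_zero (Finset.mem_inter.1 h0).1), coeff_mul_el, two_mul]
    push_cast
    congr 1
    · congr 2
      ext a
      simp [← memX, adjnp]
    · refine congrArg Nat.cast (Finset.card_bij' (fun b _ => c * b⁻¹) (fun a _ => a⁻¹ * c) ?_ ?_ ?_ ?_)
      · intro b hb
        simp only [Finset.mem_inter, Finset.mem_filter, Finset.mem_univ, true_and, ← memY, adjnn] at hb
        simp only [Finset.mem_filter]
        refine ⟨by rw [← Xsymm']; simpa [mul_comm] using hb.2, ?_⟩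
        simpa [mul_comm, mul_left_comm] using hb.1
      · intro a ha
        simp only [Finset.mem_filter] at ha
        simp only [Finset.mem_inter, Finset.mem_filter, Finset.mem_univ, true_and, ← memY, adjnn]
        refine ⟨ha.2, ?_⟩
        rw [mul_comm a⁻¹ c, inv_mul_cancel_left]
        exact Xsymm a ha.1
      · intro b _; simp
      · intro a _; simp
  -- the equations
  have e1 : el ℤ X ^ 2 + star ℤ C (el ℤ Y) * el ℤ Y =
      ((((X.card : ℤ) + Y.card - mu : ℤ)) : MonoidAlgebra ℤ C) +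
        ((lam - mu : ℤ) : MonoidAlgebra ℤ C) * el ℤ X + (mu : MonoidAlgebra ℤ C) * full ℤ C := by
    ext c
    rw [sq]
    simp only [MonoidAlgebra.coeff_add, Finsupp.add_apply, coeff_intCast, coeff_intCast_mul, coeff_el,
      coeff_full, mul_one, Int.cast_id]
    rw [← hsameSq]
    rcases eq_or_ne c 1 with rfl | hc
    · have hX1 : (1 : C) ∉ X := fun hh => (hN.ne 1 _ one_ne_zero ((memX 1).mp hh)).2 ιone
      rw [if_pos rfl, if_neg hX1, ιone, Finset.inter_self, hNcard]
      push_cast; ring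
    · have hc1 : ι c ≠ 1 := fun e => hc (hιinj (e.trans ιone.symm))
      rw [if_neg hc, hN.common h one_ne_zero (hne c) hc1.symm]
      by_cases hcX : c ∈ X
      · rw [if_pos ((memX c).mp hcX), if_pos hcX]; ring
      · rw [if_neg (fun hh => hcX ((memX c).mpr hh)), if_neg hcX]; ring
  have e2 : 2 * el ℤ X * el ℤ Y =
      ((lam - mu : ℤ) : MonoidAlgebra ℤ C) * el ℤ Y + (mu : MonoidAlgebra ℤ C) * full ℤ C := by
    ext c
    rw [mul_assoc, show (2 : MonoidAlgebra ℤ C) = ((2 : ℤ) : MonoidAlgebra ℤ C) by norm_num]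
    simp only [MonoidAlgebra.coeff_add, Finsupp.add_apply, coeff_intCast_mul, coeff_el,
      coeff_full, mul_one, Int.cast_id]
    rw [← hcross, hN.common h one_ne_zero (neg_ne_zero.mpr (hne c))
      (fun e => hdisj 1 c (ιone.trans e))]
    by_cases hcY : c ∈ Y
    · rw [if_pos ((memY c).mp hcY), if_pos hcY]; ring
    · rw [if_neg (fun hh => hcY ((memY c).mpr hh)), if_neg hcY]; ring
  -- non-degeneracy
  have hu := hN.ne 1 u one_ne_zero hN.u_mem
  have hv := hN.v_not
  have mu_pos : 0 < mu := by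
    by_contra hc
    have hmu0 : (N 1 ∩ N v).card = 0 := by rw [hmu] at hc; omega
    refine no_equiv h hp7 (fun x y => x = y ∨ y ∈ N x) ?_ (fun x _ => Or.inl rfl)
      (fun x y hx hy => Or.imp Eq.symm (hN.symm x y hx)) ?_ hu.1 hu.2 (Or.inr hN.u_mem) hv.2.1
      (fun hh => hh.elim (fun e => hv.2.2 e.symm) hv.1)
    · intro g hg g0 x y hx hy
      rw [g.injective.eq_iff, hN.map g hg g0 x y hx]
    · intro x y z hx hy hz h1 h2
      rcases h1 with rfl | h1
      · exact h2
      rcases h2 with rfl | h2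
      · exact Or.inr h1
      by_contra hcon
      push Not at hcon
      have hyz : y ∈ N x ∩ N z := Finset.mem_inter.2 ⟨h1, hN.symm y z hy h2⟩
      have := hN.common h hx hz hcon.1
      rw [if_neg hcon.2, hmu0] at this
      exact Finset.card_ne_zero_of_mem hyz this
  have mu'_pos : 0 < 2 * (Fintype.card C : ℤ) - 2 * ((X.card : ℤ) + Y.card) + lam := by
    by_contra hc
    -- the union of the neighbourhoods of two adjacent points is everything
    have hall : ∀ x y, x ≠ 0 → y ≠ 0 → y ∈ N x → ∀ z, z ≠ 0 → z ∈ N x ∪ N y := by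
      intro x y hx hy hxy z hz
      have h1 := Finset.card_union_add_card_inter (N x) (N y)
      rw [hN.common h hx hy (hN.ne x y hx hxy).2.symm, if_pos hxy, hN.card_eq h hx, hN.card_eq h hy,
        hNcard] at h1
      have hsub : N x ∪ N y ⊆ Finset.univ.erase 0 := fun w hw =>
        Finset.mem_erase.2 ⟨fun e => by
          subst e
          rcases Finset.mem_union.1 hw with hw | hw
          exacts [hN0 x hx hw, hN0 y hy hw], Finset.mem_univ _⟩
      have heq := Finset.eq_of_subset_of_card_le hsub (by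
        rw [Finset.card_erase_of_mem (Finset.mem_univ _), Finset.card_univ, ZMod.card, hn2]
        rw [hlam] at hc
        omega)
      rw [heq]; exact Finset.mem_erase.2 ⟨hz, Finset.mem_univ _⟩
    refine no_equiv h hp7 (fun x y => y ∉ N x) ?_ (fun x hx hh => (hN.ne x x hx hh).2 rfl)
      (fun x y hx hy hh hh' => hh (hN.symm y x hy hh')) ?_ hv.2.1 hv.2.2 hv.1 hu.1 (not_not.mpr hN.u_mem)
    · intro g hg g0 x y hx hy
      rw [hN.map g hg g0 x y hx]
    · intro x y z hx hy hz h1 h2 h3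
      rcases Finset.mem_union.1 (hall x z hx hz h3 y hy) with hh | hh
      · exact h1 hh
      · exact h2 (hN.symm z y hz hh)
  have hperiodic : ∀ c : C, (∀ a, a ∈ Y ↔ a * c ∈ Y) → ∀ z : ZMod p, z ≠ 0 →
      (∀ a : C, z = -ι a → (z ∈ N (ι c) ↔ z ∈ N 1)) := by
    rintro c hY z hz a rfl
    rw [adjpn, ← memY, hY (c⁻¹ * a), mul_comm c⁻¹ a, inv_mul_cancel_right]
  have twins : ∀ c : C, (∀ a, a ∈ X ↔ a * c ∈ X) → (∀ a, a ∈ Y ↔ a * c ∈ Y) → c = 1 := by
    intro c hX hY
    by_contra hc
    have hNeq : N (ι c) = N 1 := by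
      ext z
      by_cases hz : z = 0
      · subst hz; exact iff_of_false (hN0 _ (hne c)) (hN0 1 one_ne_zero)
      obtain ⟨a, rfl | ha⟩ := hcover z hz
      · rw [adjpp, ← memX, hX (c⁻¹ * a), mul_comm c⁻¹ a, inv_mul_cancel_right]
      · exact hperiodic c hY z hz a ha
    refine no_equiv h hp7 (fun x y => N x = N y) ?_ (fun x _ => rfl) (fun x y _ _ => Eq.symm)
      (fun x y z _ _ _ => Eq.trans) (hne c) (fun e => hc (hιinj (e.trans ιone.symm))) hNeq.symm hu.1 ?_
    · intro g hg g0 x y hx hy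
      rw [hN.transport hg g0 hx, hN.transport hg g0 hy]
      exact ⟨fun e => Finset.image_injective g.injective e, fun e => by rw [e]⟩
    · intro e
      exact (hN.ne u u hu.1 (e ▸ hN.u_mem)).2 rfl
  have twins' : ∀ c : C, (∀ a, a ∈ insert 1 X ↔ a * c ∈ insert 1 X) → (∀ a, a ∈ Y ↔ a * c ∈ Y) →
      c = 1 := by
    intro c hX hY
    by_contra hc
    have hNeq : insert (ι c) (N (ι c)) = insert 1 (N 1) := by
      ext z
      by_cases hz : z = 0
      · subst hz
        refine iff_of_false (fun hh => ?_) (by simp [hN0 1 one_ne_zero])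
        rcases Finset.mem_insert.1 hh with e | e
        exacts [hne c e.symm, hN0 _ (hne c) e]
      obtain ⟨a, rfl | ha⟩ := hcover z hz
      · simp only [Finset.mem_insert, adjpp, ← memX, hιinj.eq_iff]
        rw [show (ι a = 1) ↔ a = 1 from ⟨fun e => hιinj (e.trans ιone.symm), fun e => e ▸ ιone⟩]
        have := hX (c⁻¹ * a)
        rw [mul_comm c⁻¹ a, inv_mul_cancel_right, Finset.mem_insert, Finset.mem_insert,
          mul_inv_eq_one] at this
        rw [mul_comm c⁻¹ a]
        exact this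
      · simp only [Finset.mem_insert]
        rw [or_iff_right (fun e => hdisj c a (e.symm.trans ha)),
          or_iff_right (fun e => hdisj 1 a (ιone.trans (e.symm.trans ha)))]
        exact hperiodic c hY z hz a ha
    refine no_equiv h hp7 (fun x y => insert x (N x) = insert y (N y)) ?_ (fun x _ => rfl)
      (fun x y _ _ => Eq.symm) (fun x y z _ _ _ => Eq.trans) (hne c)
      (fun e => hc (hιinj (e.trans ιone.symm))) hNeq.symm hv.2.1 ?_
    · intro g hg g0 x y hx hy
      rw [hN.transport hg g0 hx, hN.transport hg g0 hy, ← Finset.image_insert, ← Finset.image_insert]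
      exact ⟨fun e => Finset.image_injective g.injective e, fun e => by rw [e]⟩
    · intro e
      have : v ∈ insert (1 : ZMod p) (N 1) := e ▸ Finset.mem_insert_self _ _
      rcases Finset.mem_insert.1 this with e | e
      exacts [hv.2.2 e, hv.1 e]
  have Yne : Y.Nonempty := by
    rw [Finset.nonempty_iff_ne_empty]
    intro hY0
    have h2 := congrArg (fun z => MonoidAlgebra.coeff z (1 : C)) e2
    simp [hY0, el, coeff_intCast_mul, coeff_full] at h2
    omega
  have Yu : Y ≠ Finset.univ := by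
    intro hY1
    have A1 := congrArg (aug ℤ C) e1
    have A2 := congrArg (aug ℤ C) e2
    simp only [map_add, map_mul, map_pow, map_intCast, map_ofNat, aug_el, aug_full, aug_star,
      Int.cast_id] at A1 A2
    rw [hY1, Finset.card_univ] at A1 A2 mu'_pos
    have hn0 : (0 : ℤ) < (Fintype.card C : ℤ) := Int.natCast_pos.mpr Fintype.card_pos
    have : lam = 2 * (X.card : ℤ) := by
      refine mul_right_cancel₀ hn0.ne' ?_
      linear_combination -A2
    omega
  haveI : IsCyclic C := Subgroup.isCyclic C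
  exact DihedralSrgMain28.no_data (C := C) (X := X) (Y := Y)
    ⟨by rw [Nat.odd_iff]; omega, by omega, fun hh => (hN.ne 1 _ one_ne_zero ((memX 1).mp hh)).2 ιone,
      Xsymm, e1, e2, mu_pos, mu'_pos, twins, twins', Yne, Yu⟩

/-- Two classes of different sizes give a graph on which `-1` is a non-square. -/
theorem three_trans (h : Setting p K) (hp7 : 7 < p) (s : Equiv.Perm (ZMod p))
    (hs : ∀ x, x ≠ 0 → s x = -x⁻¹) (hs0 : s 0 = 0)
    (hnorm : ∀ g ∈ K, g 0 = 0 → s * g * s ∈ K) :
    ∀ a b, a ≠ 0 → a ≠ 1 → b ≠ 0 → b ≠ 1 → Rel K 0 1 a b := by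
  classical
  intro a b ha0 ha1 hb0 hb1
  by_contra hab
  let cls : ZMod p → Finset (ZMod p) := fun w => Finset.univ.filter fun z => Rel K 0 1 w z
  -- the two classes
  have hcov : ∀ w, w ≠ 0 → w ≠ 1 → Rel K 0 1 a w ∨ Rel K 0 1 b w := by
    intro w hw0 hw1
    obtain ⟨i, j, hij, hr⟩ := two_orbits h (zero_ne_one : (0 : ZMod p) ≠ 1) ![a, b, w]
      (fun i => by fin_cases i <;> assumption) (fun i => by fin_cases i <;> assumption)
    fin_cases i <;> fin_cases j <;> simp at hr hij
    · exact absurd hr hab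
    · exact Or.inl hr
    · exact absurd hr.symm hab
    · exact Or.inr hr
    · exact Or.inl hr.symm
    · exact Or.inr hr.symm
  have hfix : ∀ {w z}, Rel K 0 1 w z → w ≠ 0 → w ≠ 1 → z ≠ 0 ∧ z ≠ 1 := by
    rintro w z ⟨g, -, g0, g1, rfl⟩ h0 h1
    exact ⟨fun e => h0 (g.injective (e.trans g0.symm)), fun e => h1 (g.injective (e.trans g1.symm))⟩
  have hsum : (cls a).card + (cls b).card = p - 2 := by
    rw [← Finset.card_union_of_disjoint]
    · rw [show cls a ∪ cls b = (Finset.univ.erase 0).erase 1 from Finset.ext fun z => by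
        simp only [cls, Finset.mem_union, Finset.mem_filter, Finset.mem_univ, true_and,
          Finset.mem_erase, and_true]
        exact ⟨fun hz => hz.elim (fun hz => (hfix hz ha0 ha1).symm) (fun hz => (hfix hz hb0 hb1).symm),
          fun hz => hcov z hz.2 hz.1⟩]
      simp [Finset.card_erase_of_mem]
      omega
    · rw [Finset.disjoint_left]
      intro z h1 h2
      simp only [cls, Finset.mem_filter, Finset.mem_univ, true_and] at h1 h2
      exact hab (h1.trans h2.symm)
  -- name the smaller class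
  obtain ⟨u, v, hu0, hu1, hv0, hv1, huv, hcov', hlt⟩ : ∃ u v, u ≠ 0 ∧ u ≠ 1 ∧ v ≠ 0 ∧ v ≠ 1 ∧
      ¬ Rel K 0 1 u v ∧ (∀ w, w ≠ 0 → w ≠ 1 → Rel K 0 1 u w ∨ Rel K 0 1 v w) ∧
      (cls u).card < (cls v).card := by
    have hodd : p % 2 = 1 := hp.out.eq_two_or_odd.resolve_left (by omega)
    rcases lt_trichotomy (cls a).card (cls b).card with hl | hl | hl
    · exact ⟨a, b, ha0, ha1, hb0, hb1, hab, hcov, hl⟩
    · omega
    · exact ⟨b, a, hb0, hb1, ha0, ha1, fun e => hab e.symm, fun w h0 h1 => (hcov w h0 h1).symm, hl⟩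
  let N : ZMod p → Finset (ZMod p) := fun x =>
    Finset.univ.filter fun y => ∃ g ∈ K, g 0 = 0 ∧ g 1 = x ∧ g u = y
  have hmem : ∀ x y, y ∈ N x ↔ ∃ g ∈ K, g 0 = 0 ∧ g 1 = x ∧ g u = y := fun x y => by simp [N]
  have hN1 : N 1 = cls u := by ext z; simp only [N, cls, Finset.mem_filter, Finset.mem_univ, true_and]; rfl
  have hmap : ∀ g ∈ K, g 0 = 0 → ∀ x y, (g y ∈ N (g x) ↔ y ∈ N x) := by
    intro g hg g0 x y
    rw [hmem, hmem]
    constructor
    · rintro ⟨k, hk, k0, k1, ku⟩
      exact ⟨g⁻¹ * k, K.mul_mem (K.inv_mem hg) hk, by simp [k0, Equiv.symm_apply_eq, g0],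
        by simp [k1], by simp [ku]⟩
    · rintro ⟨k, hk, k0, k1, ku⟩
      exact ⟨g * k, K.mul_mem hg hk, by simp [k0, g0], by simp [k1], by simp [ku]⟩
  have htrN : ∀ g ∈ K, g 0 = 0 → ∀ x, N (g x) = (N x).image g := by
    intro g hg g0 x
    ext y
    obtain ⟨z, rfl⟩ := g.surjective y
    rw [hmap g hg g0]; simp
  -- invariant sets of the small size
  have small1 : ∀ S : Finset (ZMod p), (0 : ZMod p) ∉ S → (1 : ZMod p) ∉ S → S.card = (cls u).card →
      (∀ g ∈ K, g 0 = 0 → g 1 = 1 → ∀ z ∈ S, g z ∈ S) → S = cls u := by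
    intro S h0 h1 hcard hinv
    refine Finset.eq_of_subset_of_card_le (fun z hz => ?_) hcard.ge
    simp only [cls, Finset.mem_filter, Finset.mem_univ, true_and]
    rcases hcov' z (fun e => h0 (e ▸ hz)) (fun e => h1 (e ▸ hz)) with hr | hr
    · exact hr
    · exfalso
      have hsub : cls v ⊆ S := by
        intro w hw
        simp only [cls, Finset.mem_filter, Finset.mem_univ, true_and] at hw
        obtain ⟨g, hg, g0, g1, rfl⟩ := hr.symm.trans hw
        exact hinv g hg g0 g1 z hz
      have := Finset.card_le_card hsub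
      omega
  have hcardN : ∀ x, x ≠ 0 → (N x).card = (cls u).card := by
    intro x hx
    obtain ⟨g, hg, g0, rfl⟩ := h.twoTrans zero_ne_one hx.symm
    rw [htrN g hg g0, Finset.card_image_of_injective _ g.injective, hN1]
  have small : ∀ x, x ≠ 0 → ∀ S : Finset (ZMod p), (0 : ZMod p) ∉ S → x ∉ S →
      S.card = (cls u).card → (∀ g ∈ K, g 0 = 0 → g x = x → ∀ z ∈ S, g z ∈ S) → S = N x := by
    intro x hx S h0 hxS hcard hinv
    obtain ⟨k, hk, k0, rfl⟩ := h.twoTrans zero_ne_one hx.symm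
    have hS' : S.image (k⁻¹ : Equiv.Perm (ZMod p)) = cls u := by
      refine small1 _ ?_ ?_ (by rw [Finset.card_image_of_injective _ (k⁻¹).injective, hcard]) ?_
      · intro hh; obtain ⟨z, hz, e⟩ := Finset.mem_image.1 hh
        rw [Equiv.Perm.inv_def, Equiv.symm_apply_eq, k0] at e; exact h0 (e ▸ hz)
      · intro hh; obtain ⟨z, hz, e⟩ := Finset.mem_image.1 hh
        rw [Equiv.Perm.inv_def, Equiv.symm_apply_eq] at e; exact hxS (e ▸ hz)
      · intro g hg g0 g1 z hz
        obtain ⟨w, hw, rfl⟩ := Finset.mem_image.1 hz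
        refine Finset.mem_image.2 ⟨(k * g * k⁻¹) w, hinv _ (K.mul_mem (K.mul_mem hk hg) (K.inv_mem hk))
          ?_ ?_ w hw, by simp⟩
        · simp [show k.symm 0 = 0 by rw [Equiv.symm_apply_eq, k0], g0, k0]
        · simp [g1]
    rw [htrN k hk k0, hN1, ← hS', Finset.image_image]
    exact (Finset.image_id' (s := S)).symm.trans (Finset.image_congr fun z _ => by simp)
  have hne : ∀ x y, x ≠ 0 → y ∈ N x → y ≠ 0 ∧ y ≠ x := by
    intro x y hx hy
    obtain ⟨g, -, g0, rfl, rfl⟩ := (hmem x y).mp hy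
    exact ⟨fun e => hu0 (g.injective (e.trans g0.symm)), fun e => hu1 (g.injective e)⟩
  -- symmetry
  let M : ZMod p → Finset (ZMod p) := fun x => (Finset.univ.erase 0).filter fun y => x ∈ N y
  have hMmap : ∀ g ∈ K, g 0 = 0 → ∀ x, M (g x) = (M x).image g := by
    intro g hg g0 x
    ext y
    obtain ⟨z, rfl⟩ := g.surjective y
    simp only [M, Finset.mem_filter, Finset.mem_erase, Finset.mem_univ, and_true, hmap g hg g0,
      Finset.mem_image, g.injective.eq_iff, exists_eq_right, ne_eq]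
    rw [show (g z = 0) ↔ z = 0 from ⟨fun e => g.injective (e.trans g0.symm), fun e => e ▸ g0⟩]
  have hMcard : ∀ x, x ≠ 0 → (M x).card = (cls u).card := by
    have hconst : ∀ x, x ≠ 0 → (M x).card = (M 1).card := fun x hx => by
      obtain ⟨g, hg, g0, rfl⟩ := h.twoTrans zero_ne_one hx.symm
      rw [hMmap g hg g0, Finset.card_image_of_injective _ g.injective]
    have key : ∑ x ∈ Finset.univ.erase (0 : ZMod p), (M x).card =
        ∑ y ∈ Finset.univ.erase (0 : ZMod p), (N y).card := by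
      simp only [M, Finset.card_filter]
      rw [Finset.sum_comm]
      refine Finset.sum_congr rfl fun y hy => ?_
      rw [← Finset.card_filter]
      congr 1
      ext z
      simp only [Finset.mem_filter, Finset.mem_erase, Finset.mem_univ, and_true]
      exact ⟨fun hh => hh.2, fun hh => ⟨(hne y z (Finset.ne_of_mem_erase hy) hh).1, hh⟩⟩
    rw [Finset.sum_congr rfl fun x hx => hconst x (Finset.ne_of_mem_erase hx),
      Finset.sum_congr rfl fun y hy => hcardN y (Finset.ne_of_mem_erase hy),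
      Finset.sum_const, Finset.sum_const, smul_eq_mul, smul_eq_mul] at key
    intro x hx
    rw [hconst x hx]
    exact Nat.eq_of_mul_eq_mul_left (Finset.card_pos.2 ⟨1, by simp⟩) key
  have hsymm : ∀ x y, x ≠ 0 → y ∈ N x → x ∈ N y := by
    intro x y hx hy
    have e : M x = N x := small x hx _ (by simp [M])
      (fun hh => (hne x x hx (Finset.mem_filter.1 hh).2).2 rfl) (hMcard x hx)
      (fun g hg g0 gx z hz => by
        rw [← gx, hMmap g hg g0]; exact Finset.mem_image_of_mem g hz)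
    rw [← e] at hy
    exact (Finset.mem_filter.1 hy).2
  rcases em (IsSquare (-1 : ZMod p)) with hm1 | hm1
  · -- `-1` is a square: every class is symmetric, contradicting the moment bound
    obtain ⟨r, hr⟩ := hm1
    have hr0 : r ≠ 0 := fun e => by simp [e] at hr
    have hF : ∀ t, t ≠ 0 → 2 * ∑ z ∈ N t, z = ((cls u).card : ZMod p) * t := by
      intro t ht
      obtain ⟨g, hg, hg'⟩ := h.affine_mem hr0 t
      rw [sq, ← hr] at hg'
      have hgg : ∀ z, g (g z) = z := fun z => by rw [hg', hg']; ring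
      have e : (N t).image g = N t := by
        refine small t ht _ ?_ ?_ ?_ ?_
        · intro hh; obtain ⟨z, hz, e⟩ := Finset.mem_image.1 hh
          have : z = t := by rw [← hgg z, e, hg']; ring
          exact (hne t z ht hz).2 this
        · intro hh; obtain ⟨z, hz, e⟩ := Finset.mem_image.1 hh
          have : z = 0 := by rw [← hgg z, e, hg']; ring
          exact (hne t z ht hz).1 this
        · rw [Finset.card_image_of_injective _ g.injective, hcardN t ht]
        · intro k hk k0 kt z hz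
          obtain ⟨w, hw, rfl⟩ := Finset.mem_image.1 hz
          have hm : g * k * g ∈ K := K.mul_mem (K.mul_mem hg hk) hg
          have g0 : g 0 = t := by rw [hg']; ring
          have gt : g t = 0 := by rw [hg']; ring
          refine Finset.mem_image.2 ⟨(g * k * g) w, ?_, by simp [hgg]⟩
          have h0 : (g * k * g) 0 = 0 := by simp [g0, kt, gt]
          have hfix_t : (g * k * g) t = t := by simp [gt, k0, g0]
          rw [← hfix_t, htrN _ hm h0]
          exact Finset.mem_image_of_mem _ hw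
      have h1 : ∑ z ∈ N t, z = ∑ z ∈ N t, (-1 * z + t) := by
        conv_lhs => rw [← e, Finset.sum_image g.injective.injOn]
        simp [hg']
      rw [Finset.sum_add_distrib, ← Finset.mul_sum, Finset.sum_const, nsmul_eq_mul, hcardN t ht] at h1
      linear_combination h1
    let Mm : ZMod p → ZMod p → ZMod p → ZMod p := fun z x y => if x = y then 0 else
      2 * orbitInd K u z x y -
        ((cls u).card : ZMod p) * ((if z = x then 1 else 0) + (if z = y then 1 else 0))
    have hinv : Inv K Mm := fun g hg z x y => by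
      simp only [Mm, orbitInd_inv u g hg z x y, g.injective.eq_iff]
    have hsum1 : ∑ z, orbitInd K u z 0 1 = ((cls u).card : ZMod p) := by
      simp only [orbitInd_base, Finset.sum_boole]
      rfl
    have hMsum : ∀ x y, ∑ z, Mm z x y = 0 := by
      intro x y
      rcases eq_or_ne x y with rfl | hxy
      · simp [Mm]
      simp only [Mm, if_neg hxy, Finset.sum_sub_distrib, ← Finset.mul_sum, orbitInd_sum h u x y hxy,
        hsum1, Finset.sum_add_distrib, Finset.sum_ite_eq', Finset.mem_univ, if_true]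
      ring
    have hmom : ∀ t, t ≠ 0 → moment Mm 0 t = 0 := by
      intro t ht
      obtain ⟨k, hk, k0, k1⟩ := h.twoTrans zero_ne_one ht.symm
      have e1 : ∑ z, z * orbitInd K u z 0 t = ∑ z ∈ N t, z := by
        calc ∑ z, z * orbitInd K u z 0 t = ∑ z, k z * orbitInd K u (k z) (k 0) (k 1) := by
              rw [k0, k1]; exact (Equiv.sum_comp k fun z => z * orbitInd K u z 0 t).symm
          _ = ∑ z ∈ cls u, k z := by
              simp only [orbitInd_inv u k hk _ 0 1, orbitInd_base, mul_ite, mul_one, mul_zero, cls,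
                Finset.sum_filter]
          _ = _ := by rw [← k1, htrN k hk k0, hN1, Finset.sum_image k.injective.injOn]
      simp only [moment, Mm, if_neg ht.symm, mul_sub, Finset.sum_sub_distrib, mul_add,
        mul_left_comm _ (2 : ZMod p), mul_left_comm _ ((cls u).card : ZMod p), ← Finset.mul_sum, e1,
        Finset.sum_add_distrib, mul_ite, mul_one, mul_zero, Finset.sum_ite_eq', Finset.mem_univ,
        if_true]
      linear_combination hF t ht
    obtain ⟨ν, hν⟩ := exists_nonsquare h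
    have hconst := const_of_moment h hinv hMsum (fun x y =>
      moment_zero h hinv hMsum hν (hmom 1 one_ne_zero) (hmom ν fun e => hν (e ▸ IsSquare.zero))
        (fun z x => if_pos rfl) x y) u v 0 1
    simp [Mm, orbitInd_base, Rel.refl, huv, hu0, hu1, hv0, hv1] at hconst
    exact PrimeDegreeHalfNetto28.natCast_ne_zero hp7 (n := 2) (by norm_num) (by norm_num)
      (by exact_mod_cast hconst)
  · have hp4 : p % 4 = 3 := by
      rw [FiniteField.isSquare_neg_one_iff, ZMod.card] at hm1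
      simpa using hm1
    refine no_graph h hp7 hp4 (N := N) (u := u) (v := v) ⟨fun g hg g0 x y _ => hmap g hg g0 x y, hne,
      hsymm, ?_, ⟨?_, hv0, hv1⟩, ?_, ?_⟩
    · rw [hN1]; simp [cls, Rel.refl]
    · rw [hN1]; simp [cls, huv]
    · intro w hw0 hw1
      rcases hcov' w hw0 hw1 with hr | hr
      · exact Or.inl ⟨by rw [hN1]; simp [cls, hr], hr⟩
      · exact Or.inr ⟨by rw [hN1]; simpa [cls] using fun e : PrimeDegreeHalfBound28.Rel K 0 1 u w => huv (e.trans hr.symm), hr⟩
    · intro x y hx hy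
      have hss : ∀ z, s (s z) = z := fun z => by
        rcases eq_or_ne z 0 with rfl | hz
        · rw [hs0, hs0]
        · rw [hs z hz, hs _ (neg_ne_zero.mpr (inv_ne_zero hz))]; simp
      have hx' : -x⁻¹ ≠ 0 := neg_ne_zero.mpr (inv_ne_zero hx)
      have hsS : (N x).image s = N (-x⁻¹) := by
        refine small _ hx' _ ?_ ?_ ?_ ?_
        · intro hh; obtain ⟨z, hz, e⟩ := Finset.mem_image.1 hh
          exact (hne x z hx hz).1 (s.injective (e.trans hs0.symm))
        · intro hh; obtain ⟨z, hz, e⟩ := Finset.mem_image.1 hh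
          exact (hne x z hx hz).2 (s.injective (e.trans (hs x hx).symm))
        · rw [Finset.card_image_of_injective _ s.injective, hcardN x hx]
        · intro g hg g0 gx z hz
          obtain ⟨w, hw, rfl⟩ := Finset.mem_image.1 hz
          have hm := hnorm g hg g0
          have h0 : (s * g * s) 0 = 0 := by simp [hs0, g0]
          have hfix_x : (s * g * s) x = x := by
            simp only [Equiv.Perm.mul_apply]
            rw [hs x hx, gx, ← hs x hx, hss]
          refine Finset.mem_image.2 ⟨(s * g * s) w, ?_, by simp [hss]⟩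
          rw [← hfix_x, htrN _ hm h0]
          exact Finset.mem_image_of_mem _ hw
      rw [← hsS, ← hs y (hne x y hx hy).1]
      exact Finset.mem_image_of_mem s hy

end Cfsg.Agent.PrimeDegreeHalfDihedral28
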