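import Mathlib

set_option autoImplicit false

namespace Cfsg.Agent.TwoPrimes

open Nat Finset

lemma sq_le_two_pow (t : ℕ) (ht : 12 ≤ t) : (4 * t + 4) ^ 2 ≤ 2 ^ t := by
  induction t, ht using Nat.le_induction with
  | base => norm_num
  | succ t ht ih =>
    have h2 : (4 * (t + 1) + 4) ^ 2 ≤ 2 * (4 * t + 4) ^ 2 := by nlinarith
    calc (4 * (t + 1) + 4) ^ 2 ≤ 2 * (4 * t + 4) ^ 2 := h2
      _ ≤ 2 * 2 ^ t := by omega
      _ = 2 ^ (t + 1) := by rw [pow_succ]; ring

lemma main_ineq (n : ℕ) (hn : 1193 ≤ n) :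
    n * (2 * n * ((2 * n) ^ Nat.sqrt (2 * n) * 4 ^ (2 * n / 3))) ≤ 4 ^ n := by
  set s := Nat.sqrt (2 * n) with hs
  have h1 : s * s ≤ 2 * n := Nat.sqrt_le (2 * n)
  have h2 : 2 * n < (s + 1) * (s + 1) := Nat.lt_succ_sqrt (2 * n)
  have hs48 : 48 ≤ s := by
    rw [hs, Nat.le_sqrt]; omega
  set t := s / 4 with htdef
  have ht : 12 ≤ t := by omega
  have hst : s + 1 ≤ 4 * t + 4 := by omega
  have hb : 2 * n ≤ 2 ^ t := by
    have := Nat.mul_le_mul hst hst
    have := sq_le_two_pow t ht
    nlinarith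
  have hexp : t * (s + 2) + 2 * (2 * n / 3) ≤ 2 * n := by
    have h4 : 4 * t ≤ s := by omega
    have h5 : 12 * (t * (s + 2)) ≤ 4 * (s * s) := by nlinarith
    have h6 : 3 * (2 * n / 3) ≤ 2 * n := by omega
    omega
  calc n * (2 * n * ((2 * n) ^ s * 4 ^ (2 * n / 3)))
      ≤ (2 * n) * (2 * n * ((2 * n) ^ s * 4 ^ (2 * n / 3))) := by gcongr; omega
    _ = (2 * n) ^ (s + 2) * 4 ^ (2 * n / 3) := by ring
    _ ≤ (2 ^ t) ^ (s + 2) * 4 ^ (2 * n / 3) := by gcongr
    _ = 2 ^ (t * (s + 2) + 2 * (2 * n / 3)) := by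
      rw [show (4 : ℕ) = 2 ^ 2 from rfl, ← pow_mul, ← pow_mul, ← pow_add]
    _ ≤ 2 ^ (2 * n) := Nat.pow_le_pow_right (by norm_num) hexp
    _ = 4 ^ n := by rw [pow_mul]; norm_num

/-- For large `n` there are two different primes in `(n, 2n]`. -/
lemma two_primes_eventually (n : ℕ) (hn : 1193 ≤ n) :
    ∃ p q : ℕ, p.Prime ∧ q.Prime ∧ p ≠ q ∧ n < p ∧ p ≤ 2 * n ∧ n < q ∧ q ≤ 2 * n := by
  obtain ⟨p₀, hp₀, hp₀n, hp₀2⟩ := Nat.exists_prime_lt_and_le_two_mul n (by omega)
  by_contra hne
  push Not at hne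
  have honly : ∀ p : ℕ, p.Prime → n < p → p ≤ 2 * n → p = p₀ := by
    intro p hp h1 h2
    by_contra hne'
    have := hne p p₀ hp hp₀ hne' h1 h2 hp₀n
    omega
  let f x := x ^ (centralBinom n).factorization x
  have hsub : Finset.range (2 * n / 3 + 1) ∪ {p₀} ⊆ Finset.range (2 * n + 1) := by
    intro x hx
    simp only [Finset.mem_union, Finset.mem_range, Finset.mem_singleton] at hx ⊢
    omega
  have hprod : centralBinom n = (∏ p ∈ Finset.range (2 * n / 3 + 1), f p) * f p₀ := by
    have hd : Disjoint (Finset.range (2 * n / 3 + 1)) {p₀} := by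
      rw [Finset.disjoint_singleton_right, Finset.mem_range]; omega
    rw [← Finset.prod_singleton f p₀, ← Finset.prod_union hd]
    refine (Eq.trans ?_ n.prod_pow_factorization_centralBinom).symm
    symm
    refine (Finset.prod_subset hsub ?_).symm
    intro x hx h2x
    simp only [Finset.mem_union, Finset.mem_range, Finset.mem_singleton] at hx h2x
    push Not at h2x
    by_cases hpx : x.Prime
    · by_cases hxn : x ≤ n
      · show x ^ _ = 1
        rw [factorization_centralBinom_of_two_mul_self_lt_three_mul (by omega) hxn (by omega),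
          Nat.pow_zero]
      · exact absurd (honly x hpx (by omega) (by omega)) h2x.2
    · show x ^ _ = 1
      rw [factorization_eq_zero_of_not_prime _ hpx, Nat.pow_zero]
  have hle1 : f p₀ ≤ 2 * n := pow_factorization_choose_le (by omega)
  have hle2 : (∏ p ∈ Finset.range (2 * n / 3 + 1), f p) ≤
      (2 * n) ^ Nat.sqrt (2 * n) * 4 ^ (2 * n / 3) := by
    let S := {p ∈ Finset.range (2 * n / 3 + 1) | Nat.Prime p}
    have : ∏ x ∈ S, f x = ∏ x ∈ Finset.range (2 * n / 3 + 1), f x := by
      refine Finset.prod_filter_of_ne fun p _ h => ?_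
      contrapose! h
      show p ^ _ = 1
      rw [factorization_eq_zero_of_not_prime n.centralBinom h, Nat.pow_zero]
    rw [← this, ← Finset.prod_filter_mul_prod_filter_not S (· ≤ Nat.sqrt (2 * n))]
    apply mul_le_mul'
    · refine (Finset.prod_le_prod' fun p _ => (?_ : f p ≤ 2 * n)).trans ?_
      · exact pow_factorization_choose_le (by omega)
      have hc : (Finset.Icc 1 (Nat.sqrt (2 * n))).card = Nat.sqrt (2 * n) := by
        rw [Nat.card_Icc, Nat.add_sub_cancel]
      rw [Finset.prod_const]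
      refine pow_right_mono₀ (by omega) ((Finset.card_le_card fun x hx => ?_).trans hc.le)
      obtain ⟨h1, h2⟩ := Finset.mem_filter.1 hx
      exact Finset.mem_Icc.mpr ⟨(Finset.mem_filter.1 h1).2.one_lt.le, h2⟩
    · refine le_trans ?_ (primorial_le_four_pow (2 * n / 3))
      refine (Finset.prod_le_prod' fun p hp => (?_ : f p ≤ p)).trans ?_
      · obtain ⟨h1, h2⟩ := Finset.mem_filter.1 hp
        refine (pow_right_mono₀ (Finset.mem_filter.1 h1).2.one_lt.le ?_).trans (pow_one p).le
        exact Nat.factorization_choose_le_one (Nat.sqrt_lt'.mp <| not_le.1 h2)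
      refine Finset.prod_le_prod_of_subset_of_one_le' (Finset.filter_subset _ _) ?_
      exact fun p hp _ => (Finset.mem_filter.1 hp).2.one_lt.le
  have hlow : 4 ^ n < n * centralBinom n := Nat.four_pow_lt_mul_centralBinom n (by omega)
  have hmain := main_ineq n hn
  have : centralBinom n ≤ 2 * n * ((2 * n) ^ Nat.sqrt (2 * n) * 4 ^ (2 * n / 3)) := by
    rw [hprod, mul_comm]
    exact Nat.mul_le_mul hle1 hle2
  have := Nat.mul_le_mul_left n this
  omega

lemma cover {N : ℕ} (p q : ℕ) (hp : p.Prime) (hq : q.Prime) (hpq : p < q) (h1 : q ≤ N) (h2 : N < 2 * p) :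
    ∃ p q : ℕ, p.Prime ∧ q.Prime ∧ p < q ∧ N < 2 * p ∧ q ≤ N :=
  ⟨p, q, hp, hq, hpq, h2, h1⟩

/-- For `N ≥ 11` there are two different primes in `(N/2, N]`. -/
theorem exists_two_primes (N : ℕ) (hN : 11 ≤ N) :
    ∃ p q : ℕ, p.Prime ∧ q.Prime ∧ p < q ∧ N < 2 * p ∧ q ≤ N := by
  by_cases h0 : N < 14
  · exact cover 7 11 (by norm_num) (by norm_num) (by norm_num) (by omega) (by omega)
  by_cases h1 : N < 22
  · exact cover 11 13 (by norm_num) (by norm_num) (by norm_num) (by omega) (by omega)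
  by_cases h2 : N < 34
  · exact cover 17 19 (by norm_num) (by norm_num) (by norm_num) (by omega) (by omega)
  by_cases h3 : N < 58
  · exact cover 29 31 (by norm_num) (by norm_num) (by norm_num) (by omega) (by omega)
  by_cases h4 : N < 94
  · exact cover 47 53 (by norm_num) (by norm_num) (by norm_num) (by omega) (by omega)
  by_cases h5 : N < 166
  · exact cover 83 89 (by norm_num) (by norm_num) (by norm_num) (by omega) (by omega)
  by_cases h6 : N < 314
  · exact cover 157 163 (by norm_num) (by norm_num) (by norm_num) (by omega) (by omega)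
  by_cases h7 : N < 614
  · exact cover 307 311 (by norm_num) (by norm_num) (by norm_num) (by omega) (by omega)
  by_cases h8 : N < 1202
  · exact cover 601 607 (by norm_num) (by norm_num) (by norm_num) (by omega) (by omega)
  by_cases h9 : N < 2386
  · exact cover 1193 1201 (by norm_num) (by norm_num) (by norm_num) (by omega) (by omega)
  obtain ⟨p, q, hp, hq, hne, h10, h11, h12, h13⟩ := two_primes_eventually (N / 2) (by omega)
  rcases lt_or_gt_of_ne hne with h | h
  · exact ⟨p, q, hp, hq, h, by omega, by omega⟩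
  · exact ⟨q, p, hq, hp, h, by omega, by omega⟩

end Cfsg.Agent.TwoPrimes
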