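import Mathlib

set_option autoImplicit false

/-!
Split extensions `W^n : S` with `W` of exponent 2 having the same prime graph as `S`.
-/

namespace Cfsg.Agent.PrimeGraphExt

variable {S : Type*} [Group S]

/-- The diagonal action on `Fin n → W`. -/
def diag {W : Type*} [CommGroup W] (ψ : S →* MulAut W) (n : ℕ) :
    S →* MulAut (Fin n → W) where
  toFun g := MulEquiv.piCongrRight fun _ => ψ g
  map_one' := by ext w i; simp
  map_mul' a b := by ext w i; simp

lemma diag_apply {W : Type*} [CommGroup W] (ψ : S →* MulAut W) (n : ℕ) (g : S)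
    (w : Fin n → W) (i : Fin n) : diag ψ n g w i = ψ g (w i) := rfl

lemma orderOf_eq_of_proper {A : Type*} [Group A] {g : A} {r s : ℕ} (hr : r.Prime) (hs : s.Prime)
    (hdvd : orderOf g ∣ r * s) (hne : orderOf g ≠ r * s) : g ^ r = 1 ∨ g ^ s = 1 := by
  obtain ⟨a, b, ha, hb, hab⟩ := Nat.dvd_mul.mp hdvd
  rcases (Nat.dvd_prime hr).mp ha with rfl | rfl
  · right
    exact orderOf_dvd_iff_pow_eq_one.mp (by rw [← hab, one_mul]; exact hb)
  · rcases (Nat.dvd_prime hs).mp hb with rfl | rfl
    · left
      exact orderOf_dvd_iff_pow_eq_one.mp (by rw [← hab, mul_one])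
    · exact absurd hab.symm hne

/-- `W^n : S` has the same edges as `S`. -/
lemma edge_iff {W : Type*} [CommGroup W] (hexp : ∀ w : W, w ^ 2 = 1) (ψ : S →* MulAut W)
    (hfix : ∀ (g : S) (w : W), w ≠ 1 → ψ g w = w → ∃ k : ℕ, g ^ (2 ^ k) = 1)
    (n r s : ℕ) (hr : r.Prime) (hs : s.Prime) (hrs : r ≠ s) :
    (∃ x : S, orderOf x = r * s) ↔
      (∃ y : (Fin n → W) ⋊[diag ψ n] S, orderOf y = r * s) := by
  constructor
  · rintro ⟨x, hx⟩
    exact ⟨SemidirectProduct.inr x, by rw [orderOf_injective _ SemidirectProduct.inr_injective, hx]⟩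
  · rintro ⟨y, hy⟩
    by_cases hg : orderOf y.right = r * s
    · exact ⟨y.right, hg⟩
    exfalso
    have hdvd : orderOf y.right ∣ r * s := by
      rw [← hy]; exact orderOf_map_dvd SemidirectProduct.rightHom y
    have key : ∀ r s : ℕ, r.Prime → s.Prime → r ≠ s → orderOf y = r * s → y.right ^ r = 1 →
        False := by
      intro r s hr hs hrs hy hgr
      have hright : (y ^ r).right = 1 := by
        have := map_pow SemidirectProduct.rightHom y r
        simpa [hgr] using this
      set w := (y ^ r).left with hw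
      have hyw : y ^ r = SemidirectProduct.inl w := by
        ext
        · simp [hw]
        · simpa using hright
      have hord : orderOf (y ^ r) = s := by
        rw [orderOf_pow_of_dvd hr.ne_zero (by rw [hy]; exact dvd_mul_right r s), hy,
          Nat.mul_div_cancel_left _ hr.pos]
      have hw2 : w ^ 2 = 1 := funext fun i => hexp (w i)
      have hs2 : s = 2 := by
        have : orderOf (y ^ r) ∣ 2 := by
          rw [hyw, orderOf_injective _ SemidirectProduct.inl_injective]
          exact orderOf_dvd_of_pow_eq_one hw2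
        rw [hord] at this
        exact (Nat.prime_dvd_prime_iff_eq hs Nat.prime_two).mp this
      have hw1 : w ≠ 1 := by
        intro h
        rw [h, map_one] at hyw
        rw [hyw, orderOf_one] at hord
        exact hs.ne_one hord.symm
      have hcomm : Commute y (SemidirectProduct.inl w) := by
        rw [← hyw]; exact Commute.self_pow y r
      have hfixw : diag ψ n y.right w = w := by
        have h := congrArg SemidirectProduct.left hcomm.eq
        simp only [SemidirectProduct.mul_left, SemidirectProduct.left_inl,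
          SemidirectProduct.right_inl, map_one, MulAut.one_apply] at h
        rw [mul_comm w] at h
        exact mul_left_cancel h
      obtain ⟨i, hi⟩ := Function.ne_iff.mp hw1
      obtain ⟨k, hk⟩ := hfix y.right (w i) hi (congrFun hfixw i)
      by_cases h1 : y.right = 1
      · have hy1 : y = SemidirectProduct.inl y.left := by
          ext <;> simp [h1]
        have h2 : orderOf y ∣ 2 := by
          rw [hy1, orderOf_injective _ SemidirectProduct.inl_injective]
          exact orderOf_dvd_of_pow_eq_one (funext fun i => hexp _)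
        rw [hy, hs2] at h2
        exact hrs (((Nat.prime_dvd_prime_iff_eq hr Nat.prime_two).mp
          ((dvd_mul_right r 2).trans h2)).trans hs2.symm)
      · have hor : orderOf y.right = r := by
          rcases (Nat.dvd_prime hr).mp (orderOf_dvd_of_pow_eq_one hgr) with h | h
          · exact absurd (orderOf_eq_one_iff.mp h) h1
          · exact h
        have : r ∣ 2 ^ k := hor ▸ orderOf_dvd_of_pow_eq_one hk
        exact hrs (((Nat.prime_dvd_prime_iff_eq hr Nat.prime_two).mp
          (hr.dvd_of_dvd_pow this)).trans hs2.symm)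
    rcases orderOf_eq_of_proper hr hs hdvd hg with h | h
    · exact key r s hr hs hrs hy h
    · exact key s r hs hr hrs.symm (by rw [hy, mul_comm]) h

/-- Main construction. -/
theorem exists_large_same_prime_graph [Finite S] (h2S : 2 ∣ Nat.card S)
    {W : Type*} [CommGroup W] [Finite W] [Nontrivial W] (hexp : ∀ w : W, w ^ 2 = 1)
    (ψ : S →* MulAut W)
    (hfix : ∀ (g : S) (w : W), w ≠ 1 → ψ g w = w → ∃ k : ℕ, g ^ (2 ^ k) = 1) (N : ℕ) :
    ∃ (H : Type) (_ : Group H) (_ : Fintype H), N < Nat.card H ∧
      (∀ r : ℕ, r.Prime → (r ∣ Nat.card S ↔ r ∣ Nat.card H)) ∧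
      (∀ r s : ℕ, r.Prime → s.Prime → r ≠ s →
        ((∃ x : S, orderOf x = r * s) ↔ (∃ y : H, orderOf y = r * s))) := by
  have : Finite ((Fin N → W) ⋊[diag ψ N] S) :=
    Finite.of_equiv _ SemidirectProduct.equivProd.symm
  let K := (Fin N → W) ⋊[diag ψ N] S
  have : Small.{0} K := inferInstance
  let e : K ≃* Shrink.{0} K := Shrink.mulEquiv.symm
  have hc : Nat.card K = Nat.card W ^ N * Nat.card S := by
    rw [show Nat.card K = Nat.card (Fin N → W) * Nat.card S from SemidirectProduct.card]
    simp [Nat.card_fun]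
  have hN : N < Nat.card K := by
    rw [hc]
    refine lt_of_lt_of_le (Nat.lt_pow_self (Finite.one_lt_card (α := W))) ?_
    exact Nat.le_mul_of_pos_right _ Nat.card_pos
  have hcard : Nat.card (Shrink.{0} K) = Nat.card K := (Nat.card_congr e.toEquiv).symm
  refine ⟨Shrink.{0} K, inferInstance, Fintype.ofFinite _, ?_, ?_, ?_⟩
  · rwa [hcard]
  · intro r hr
    rw [hcard, hc]
    constructor
    · exact fun h => h.mul_left _
    · intro h
      rcases (Nat.Prime.dvd_mul hr).mp h with h | h
      · have hrW : r ∣ Nat.card W := hr.dvd_of_dvd_pow h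
        have : Fact r.Prime := ⟨hr⟩
        obtain ⟨w, hw⟩ := exists_prime_orderOf_dvd_card' r hrW
        have hd : r ∣ 2 := by rw [← hw]; exact orderOf_dvd_of_pow_eq_one (hexp w)
        rw [(Nat.prime_dvd_prime_iff_eq hr Nat.prime_two).mp hd]
        exact h2S
      · exact h
  · intro r s hr hs hrs
    rw [edge_iff hexp ψ hfix N r s hr hs hrs]
    constructor
    · rintro ⟨y, hy⟩
      exact ⟨e y, by rw [MulEquiv.orderOf_eq, hy]⟩
    · rintro ⟨y, hy⟩
      exact ⟨e.symm y, by rw [MulEquiv.orderOf_eq, hy]⟩

/-- The action on `Multiplicative V` coming from a linear representation. -/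
def ofLinear {R V : Type*} [Semiring R] [AddCommGroup V] [Module R V]
    (ρ : S →* (V ≃ₗ[R] V)) : S →* MulAut (Multiplicative V) where
  toFun g := AddEquiv.toMultiplicative (ρ g).toAddEquiv
  map_one' := by ext v; simp
  map_mul' a b := by
    ext v
    simp only [map_mul]
    rfl

lemma ofLinear_apply {R V : Type*} [Semiring R] [AddCommGroup V] [Module R V]
    (ρ : S →* (V ≃ₗ[R] V)) (g : S) (v : Multiplicative V) :
    ofLinear ρ g v = Multiplicative.ofAdd (ρ g (Multiplicative.toAdd v)) := rfl

lemma multiplicative_sq {R V : Type*} [Semiring R] [CharP R 2] [AddCommGroup V] [Module R V]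
    (v : Multiplicative V) : v ^ 2 = 1 := by
  apply Multiplicative.toAdd.injective
  rw [toAdd_pow, toAdd_one, two_nsmul, ← two_smul R, CharTwo.two_eq_zero, zero_smul]

/-- Linear version. -/
theorem exists_large_of_linear [Finite S] (h2S : 2 ∣ Nat.card S)
    {R V : Type*} [Semiring R] [CharP R 2] [AddCommGroup V] [Module R V] [Finite V] [Nontrivial V]
    (ρ : S →* (V ≃ₗ[R] V))
    (hfix : ∀ (g : S) (v : V), v ≠ 0 → ρ g v = v → ∃ k : ℕ, g ^ (2 ^ k) = 1) (N : ℕ) :
    ∃ (H : Type) (_ : Group H) (_ : Fintype H), N < Nat.card H ∧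
      (∀ r : ℕ, r.Prime → (r ∣ Nat.card S ↔ r ∣ Nat.card H)) ∧
      (∀ r s : ℕ, r.Prime → s.Prime → r ≠ s →
        ((∃ x : S, orderOf x = r * s) ↔ (∃ y : H, orderOf y = r * s))) :=
  exists_large_same_prime_graph h2S (multiplicative_sq (R := R)) (ofLinear ρ)
    (fun g w hw hgw => hfix g (Multiplicative.toAdd w) hw
      (Multiplicative.ofAdd.injective hgw)) N

end Cfsg.Agent.PrimeGraphExt
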