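import Cfsg.Agent.Lib.SuzukiGroupTori

/-!
The partition of the Suzuki group into Sylow 2-subgroups and tori.
-/

set_option autoImplicit false

namespace Cfsg.Agent.SuzukiGroupPartition

open scoped Matrix Pointwise LinearAlgebra.Projectivization
open MulAction Cfsg.Agent.SuzukiGroupBasic Cfsg.Agent.SuzukiGroupStructure
open Cfsg.Agent.SuzukiGroupCentralizer Cfsg.Agent.SuzukiGroupTori

variable {F : Type*} [Field F] {m : ℕ} [hP : Param F m]

set_option quotPrecheck false
local notation "G" => ↥(Cfsg.Sz F m)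
local notation "qq" => (2 ^ (2 * m + 1) : ℕ)
local notation "rr" => (2 ^ (m + 1) : ℕ)
local notation "∞" => Cfsg.suzukiPointInfinity F

include hP in
theorem r_facts : rr * rr = 2 * qq ∧ rr < qq ∧ 2 ∣ rr ∧ 2 ∣ qq := by
  have h1 := one_le (F := F) (m := m)
  refine ⟨by rw [← pow_succ', ← pow_add]; congr 1; omega, Nat.pow_lt_pow_right one_lt_two (by omega),
    dvd_pow_self 2 (by omega), dvd_pow_self 2 (by omega)⟩

omit hP in
theorem exists_pow_of_dvd_four {n : ℕ} (h : n ∣ 4) : ∃ i : ℕ, n = 2 ^ i := by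
  obtain ⟨i, -, hi⟩ := (Nat.dvd_prime_pow Nat.prime_two).mp (h.trans (by norm_num : 4 ∣ 2 ^ 2))
  exact ⟨i, hi⟩

include hP in
/-- `q + r + 1` and `q - r + 1` are coprime. -/
theorem coprime_tori : Nat.Coprime (qq + rr + 1) (qq - rr + 1) := by
  obtain ⟨h1, h2, h3, h4⟩ := r_facts (F := F) (m := m)
  refine Nat.coprime_of_dvd fun p hp ha hb => ?_
  have hd : p ∣ 2 * rr := by
    have := Nat.dvd_sub ha hb
    rwa [show qq + rr + 1 - (qq - rr + 1) = 2 * rr by omega] at this
  have hp2 : p = 2 := by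
    rw [← pow_succ'] at hd
    exact (Nat.prime_dvd_prime_iff_eq hp Nat.prime_two).mp (hp.dvd_of_dvd_pow hd)
  subst hp2
  omega

/-- Every element of order dividing 4 other than 1 is conjugate into the unipotent group. -/
theorem exists_conj_Ts_of_even {g : G} (hg : g ≠ 1) (h : orderOf g ∣ 4) :
    ∃ c : G, ∃ a b : F, c * g * c⁻¹ = Ts a b := by
  have h2 : 2 ∣ orderOf g := by
    obtain ⟨i, hi⟩ := exists_pow_of_dvd_four h
    rcases i with - | i
    · exact absurd (orderOf_eq_one_iff.mp hi) hg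
    · rw [hi]; exact dvd_pow_self 2 (by omega)
  rcases exists_conj_Ts_or_Hs hg with hf | h' | ⟨c, k, -, hck⟩
  · have := h2.trans hf.orderOf_dvd
    obtain ⟨-, -, -, h4⟩ := r_facts (F := F) (m := m)
    have : 2 ∣ qq ^ 2 := dvd_pow h4 two_ne_zero
    omega
  · exact h'
  · have h3 : orderOf g ∣ qq - 1 := by
      rw [← MulEquiv.orderOf_eq (MulAut.conj c), MulAut.conj_apply, hck]; exact orderOf_Hs_dvd k
    have := h2.trans h3
    obtain ⟨-, -, -, h4⟩ := r_facts (F := F) (m := m)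
    have := Nat.one_le_two_pow (n := 2 * m + 1)
    omega

/-- A non-identity element lies in only one conjugate of the unipotent group. -/
theorem map_unipotent_eq {u : G} (hu : u ∈ (unipotent : Subgroup G)) (hu1 : u ≠ 1) {d : G}
    (hd : u ∈ (unipotent : Subgroup G).map (MulAut.conj d).toMonoidHom) :
    (unipotent : Subgroup G).map (MulAut.conj d).toMonoidHom = unipotent := by
  have := finiteF (F := F) (m := m)
  obtain ⟨a, b, rfl⟩ := hu
  obtain ⟨v, hv, hvd⟩ := Subgroup.mem_map.mp hd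
  have hdv : d • ∞ = ∞ := by
    refine Ts_fix hu1 (smul_mem_ovoid d inf_mem) ?_
    rw [← hvd]
    change (d * v * d⁻¹) • d • ∞ = _
    rw [conj_smul_eq, mem_stabilizer_iff.mp (unipotent_le_borel hv)]
  refine Subgroup.eq_of_le_of_card_ge ?_ (le_of_eq ?_)
  · rintro x ⟨w, hw, rfl⟩
    exact conj_mem_unipotent hdv hw
  · rw [Subgroup.card_map_of_injective (MulAut.conj d).injective]

theorem sylow_unique {g : G} (hg : g ≠ 1) {P Q : Sylow 2 G} (hP : g ∈ (P : Subgroup G))
    (hQ : g ∈ (Q : Subgroup G)) : P = Q := by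
  obtain ⟨c, hc⟩ := exists_conj_sylow P
  obtain ⟨d, hd⟩ := exists_conj_sylow Q
  apply Sylow.ext
  rw [hc, hd]
  rw [hc] at hP
  rw [hd] at hQ
  obtain ⟨u, hu, rfl⟩ := Subgroup.mem_map.mp hP
  obtain ⟨v, hv, hvd⟩ := Subgroup.mem_map.mp hQ
  have hu1 : u ≠ 1 := fun e => hg (by subst e; simp)
  have hm : u ∈ (unipotent : Subgroup G).map (MulAut.conj (c⁻¹ * d)).toMonoidHom := by
    refine ⟨v, hv, ?_⟩
    change d * v * d⁻¹ = c * u * c⁻¹ at hvd
    change (c⁻¹ * d) * v * (c⁻¹ * d)⁻¹ = u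
    rw [mul_inv_rev, inv_inv, show c⁻¹ * d * v * (d⁻¹ * c) = c⁻¹ * (d * v * d⁻¹) * c by group, hvd]
    group
  conv_lhs => rw [← map_unipotent_eq hu hu1 hm]
  rw [Subgroup.map_map]
  congr 1
  ext x
  simp [mul_assoc]

theorem exists_sylow_mem {g : G} (h : orderOf g ∣ 4) : ∃ P : Sylow 2 G, g ∈ (P : Subgroup G) := by
  have : Fact (Nat.Prime 2) := ⟨Nat.prime_two⟩
  have h2 : IsPGroup 2 (Subgroup.zpowers g) := by
    obtain ⟨i, hi⟩ := exists_pow_of_dvd_four h
    exact IsPGroup.of_card (by rw [Nat.card_zpowers, hi])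
  obtain ⟨P, hP⟩ := h2.exists_le_sylow
  exact ⟨P, hP (Subgroup.mem_zpowers g)⟩

theorem orderOf_mem_sylow {g : G} {P : Sylow 2 G} (hg : g ∈ (P : Subgroup G)) : orderOf g ∣ 4 := by
  obtain ⟨c, hc⟩ := exists_conj_sylow P
  rw [hc] at hg
  obtain ⟨_, ⟨a, b, rfl⟩, rfl⟩ := Subgroup.mem_map.mp hg
  change orderOf (MulAut.conj c _) ∣ 4
  rw [MulEquiv.orderOf_eq]
  exact orderOf_Ts_dvd a b

theorem centralizer_conj' (c g : G) :
    Subgroup.centralizer {g} =
      (Subgroup.centralizer {c * g * c⁻¹}).map (MulAut.conj c⁻¹).toMonoidHom := by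
  rw [← centralizer_conj c⁻¹]
  simp [mul_assoc]

/-- The centralisers of the non-2-elements: cyclic of order `q - 1` or `q ± r + 1`. -/
theorem cyclic_centralizer {g : G} (hg : g ≠ 1) (h : ¬ orderOf g ∣ 4) :
    IsCyclic (Subgroup.centralizer {g}) ∧
      Nat.card (Subgroup.centralizer {g}) ∈ ({qq - 1, qq + rr + 1, qq - rr + 1} : Set ℕ) := by
  rcases exists_conj_Ts_or_Hs hg with hf | ⟨c, a, b, hab⟩ | ⟨c, k, hk, hck⟩
  · obtain ⟨A₁, A₂, -, -, c1, c2, -, -, hall⟩ := exists_tori (F := F) (m := m)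
    have hT : IsTorus (Subgroup.centralizer {g}) := ⟨g, hf, rfl⟩
    refine ⟨hT.cyclic, ?_⟩
    obtain ⟨x, hx | hx⟩ := hall _ hT <;>
      rw [hx, Subgroup.card_map_of_injective (MulAut.conj x).injective]
    · rw [c1]; simp
    · rw [c2]; simp
  · exact absurd (by rw [← MulEquiv.orderOf_eq (MulAut.conj c), MulAut.conj_apply, hab];
                     exact orderOf_Ts_dvd a b) h
  · rw [centralizer_conj' c g, hck, centralizer_Hs hk]
    constructor
    · have := isCyclic_torus (F := F) (m := m)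
      exact (Subgroup.equivMapOfInjective _ _ (MulAut.conj c⁻¹).injective).isCyclic.mp this
    · rw [Subgroup.card_map_of_injective (MulAut.conj c⁻¹).injective, natCard_torus]
      simp

/-- A cyclic subgroup of order `q - 1` or `q ± r + 1` is the centraliser of each of its
non-identity elements. -/
theorem eq_centralizer_of_card {U : Subgroup G} (hU : IsCyclic U)
    (hc : Nat.card U ∈ ({qq - 1, qq + rr + 1, qq - rr + 1} : Set ℕ)) {g : G} (hg : g ∈ U)
    (hg1 : g ≠ 1) : U = Subgroup.centralizer {g} ∧ ¬ orderOf g ∣ 4 := by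
  have := finiteF (F := F) (m := m)
  obtain ⟨h1, h2, h3, h4⟩ := r_facts (F := F) (m := m)
  have hd : orderOf g ∣ Nat.card U := U.orderOf_dvd_natCard hg
  have hodd : ¬ 2 ∣ Nat.card U := by
    generalize rr = R at h1 h2 h3 hc ⊢
    generalize qq = Q at h1 h2 h4 hc ⊢
    rcases hc with h | h | h <;> rw [h] <;> omega
  have hno4 : ¬ orderOf g ∣ 4 := fun h => by
    obtain ⟨i, hi⟩ := exists_pow_of_dvd_four h
    rcases i with - | i
    · exact hg1 (orderOf_eq_one_iff.mp hi)
    · rw [hi] at hd; exact hodd ((dvd_pow_self 2 (by omega)).trans hd)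
  refine ⟨?_, hno4⟩
  obtain ⟨hcyc, hcard⟩ := cyclic_centralizer hg1 hno4
  have hle : U ≤ Subgroup.centralizer {g} := fun x hx => by
    rw [Subgroup.mem_centralizer_singleton_iff]
    obtain ⟨w, hw⟩ := hU.exists_generator
    obtain ⟨i, hi⟩ := hw ⟨x, hx⟩
    obtain ⟨j, hj⟩ := hw ⟨g, hg⟩
    have := congrArg Subtype.val (((Commute.refl w).zpow_zpow i j).eq)
    simp only at hi hj
    rw [hi, hj] at this
    exact this
  have hdvd := Subgroup.card_dvd_of_le hle
  refine Subgroup.eq_of_le_of_card_ge hle (le_of_eq ?_)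
  -- the possible orders are pairwise coprime
  have hbig : 1 < Nat.card U := by
    have := Nat.le_of_dvd Nat.card_pos hd
    have := orderOf_pos g
    have : orderOf g ≠ 1 := fun e => hg1 (orderOf_eq_one_iff.mp e)
    omega
  have key : ∀ a b : ℕ, a ∣ qq ^ 2 + 1 → b = qq - 1 → Nat.Coprime a b := by
    intro a b ha hb
    refine Nat.coprime_of_dvd fun p hp hpa hpb => ?_
    exact (coprime_sub_one hp (hpa.trans ha)).2.2 (hb ▸ hpb)
  have hprod : (qq + rr + 1) * (qq - rr + 1) = qq ^ 2 + 1 := by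
    obtain ⟨k, hk⟩ := Nat.exists_eq_add_of_le h2.le
    rw [hk] at h1 ⊢
    rw [show rr + k - rr = k by omega]
    linear_combination -h1
  have d1 : qq + rr + 1 ∣ qq ^ 2 + 1 := hprod ▸ dvd_mul_right _ _
  have d2 : qq - rr + 1 ∣ qq ^ 2 + 1 := hprod ▸ dvd_mul_left _ _
  have hcop := coprime_tori (F := F) (m := m)
  by_contra hne
  have hcp : Nat.Coprime (Nat.card U) (Nat.card (Subgroup.centralizer {g})) := by
    rcases hc with hU' | hU' | hU' <;> rcases hcard with hC | hC | hC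
    all_goals first
      | exact absurd (hC.trans hU'.symm) hne
      | (rw [hU', hC]; first
          | exact key _ _ d1 rfl | exact (key _ _ d1 rfl).symm
          | exact key _ _ d2 rfl | exact (key _ _ d2 rfl).symm
          | exact hcop | exact hcop.symm)
  have := Nat.eq_one_of_dvd_coprimes hcp dvd_rfl hdvd
  omega

/-- The partition of the Suzuki group. -/
theorem existsUnique_part {g : G} (hg : g ≠ 1) :
    ∃! U : Subgroup G, ((∃ P : Sylow 2 G, U = (P : Subgroup G)) ∨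
      (IsCyclic U ∧ Nat.card U ∈ ({qq - 1, qq + rr + 1, qq - rr + 1} : Set ℕ))) ∧ g ∈ U := by
  by_cases h : orderOf g ∣ 4
  · obtain ⟨P, hP⟩ := exists_sylow_mem h
    refine ⟨(P : Subgroup G), ⟨Or.inl ⟨P, rfl⟩, hP⟩, ?_⟩
    rintro U ⟨⟨Q, rfl⟩ | ⟨hc, hcard⟩, hgU⟩
    · rw [sylow_unique hg hgU hP]
    · exact absurd h (eq_centralizer_of_card hc hcard hgU hg).2
  · refine ⟨Subgroup.centralizer {g}, ⟨Or.inr (cyclic_centralizer hg h),
      Subgroup.mem_centralizer_singleton_iff.mpr rfl⟩, ?_⟩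
    rintro U ⟨⟨Q, rfl⟩ | ⟨hc, hcard⟩, hgU⟩
    · exact absurd (orderOf_mem_sylow hgU) h
    · exact (eq_centralizer_of_card hc hcard hgU hg).1

end Cfsg.Agent.SuzukiGroupPartition
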