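import Cfsg.Prelude.Def_KGroupFacts
import Cfsg.Agent.Lib.SuzukiGroupPartition
import Cfsg.Agent.Lib.SuzukiGroupTori

/-!
The prime graph of `Sz(q)` and the primes of its order; almost simple groups with socle `Sz(q)`
in which the centralisers of involutions are `2`-groups.
-/

set_option autoImplicit false

namespace Cfsg.Agent.PrimeGraphSz46

open Cfsg.Agent.SuzukiGroupBasic Cfsg.Agent.SuzukiGroupStructure

/-- The primes dividing `2^(4n)-1` for `n = 2m+1` determine `m`. -/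
theorem dvd_of_primes {n n' : ℕ} (hn : Odd n) (hn' : 0 < n')
    (h : ∀ r : ℕ, r.Prime → r ∣ 4 ^ n + 1 → r ∣ 4 ^ (2 * n') - 1) : n ∣ n' := by
  set g := Nat.gcd n n' with hg
  obtain ⟨k, hk⟩ : g ∣ n := Nat.gcd_dvd_left n n'
  have hko : Odd k := Nat.Odd.of_mul_right (hk ▸ hn)
  by_contra hne
  have hk1 : k ≠ 1 := by
    rintro rfl
    exact hne (by rw [hk, mul_one]; exact Nat.gcd_dvd_right n n')
  have hk3 : 3 ≤ k := by
    obtain ⟨j, hj⟩ := hko; omega
  have hg0 : 0 < g := Nat.gcd_pos_of_pos_right _ hn'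
  set a := 4 ^ g with ha
  have ha4 : 4 ≤ a := Nat.le_self_pow hg0.ne' 4
  have hdvd : a + 1 ∣ a ^ k + 1 := by
    simpa using hko.nat_add_dvd_pow_add_pow a 1
  obtain ⟨R, hR⟩ := hdvd
  have hnk : 4 ^ n + 1 = a ^ k + 1 := by rw [hk, ha, pow_mul]
  -- the primes of the quotient divide `a + 1`
  have hprime : ∀ r : ℕ, r.Prime → r ∣ R → r ∣ a + 1 := by
    intro r hr hrR
    have h1 : r ∣ 4 ^ n + 1 := by rw [hnk, hR]; exact hrR.mul_left _
    have hr2 : r ≠ 2 := by
      rintro rfl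
      obtain ⟨c, hc⟩ := h1
      have : 2 ∣ 4 ^ n := dvd_pow (by norm_num) (by rw [hk]; exact (Nat.mul_pos hg0 (by omega)).ne')
      omega
    have h2 : r ∣ 4 ^ (2 * n) - 1 := by
      refine h1.trans ⟨4 ^ n - 1, ?_⟩
      rw [mul_comm 2 n, pow_mul]
      simpa using Nat.sq_sub_sq (4 ^ n) 1
    have h3 : r ∣ 4 ^ (2 * g) - 1 := by
      have := Nat.dvd_gcd h2 (h r hr h1)
      rwa [Nat.pow_sub_one_gcd_pow_sub_one, Nat.gcd_mul_left] at this
    rw [show 4 ^ (2 * g) - 1 = (a + 1) * (a - 1) by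
      rw [mul_comm 2 g, pow_mul, ← ha]; exact (by simpa using Nat.sq_sub_sq a 1)] at h3
    rcases hr.dvd_mul.1 h3 with h4 | h4
    · exact h4
    exfalso
    obtain ⟨c, hc⟩ := h4
    have h5 : r ∣ a ^ k - 1 := by
      have := Nat.sub_one_dvd_pow_sub_one a k
      exact Nat.dvd_trans ⟨c, hc⟩ this
    have h6 := Nat.dvd_sub (hnk ▸ h1) h5
    have hpos : 1 ≤ a ^ k := Nat.one_le_pow _ _ (by omega)
    rw [show a ^ k + 1 - (a ^ k - 1) = 2 by omega] at h6
    exact hr2 ((Nat.prime_dvd_prime_iff_eq hr Nat.prime_two).1 h6)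
  have hR0 : R ≠ 0 := by rintro rfl; simp at hR
  have hRk : R ∣ k := by
    rw [← Nat.factorization_le_iff_dvd hR0 (by omega)]
    intro r
    by_cases hr : r.Prime
    · rw [Nat.factorization_def _ hr, Nat.factorization_def _ hr]
      haveI : Fact r.Prime := ⟨hr⟩
      by_cases hrR : r ∣ R
      · have hra := hprime r hr hrR
        have hr2 : Odd r := hr.odd_of_ne_two (by
          rintro rfl
          obtain ⟨c, hc⟩ := hra
          have : 2 ∣ a := dvd_pow (by norm_num) hg0.ne'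
          omega)
        have hna : ¬ r ∣ a := fun h => by
          have := Nat.dvd_sub hra h
          simp at this
          exact hr.one_lt.ne' this
        have h7 := padicValNat.pow_add_pow (p := r) hr2 hra hna (y := 1) hko
        rw [one_pow, hR, padicValNat.mul (by omega) hR0] at h7
        omega
      · rw [padicValNat.eq_zero_of_not_dvd hrR]
        exact Nat.zero_le _
    · simp [Nat.factorization_eq_zero_of_not_prime _ hr]
  have hRle := Nat.le_of_dvd (by omega) hRk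
  have h8 : 2 * k ≤ a ^ (k - 1) := by
    refine le_trans ?_ (Nat.pow_le_pow_left ha4 _)
    have : ∀ j, 2 ≤ j → 2 * (j + 1) ≤ 4 ^ j := by
      intro j hj
      induction j, hj using Nat.le_induction with
      | base => norm_num
      | succ j _ ih => rw [pow_succ]; omega
    have := this (k - 1) (by omega)
    rwa [show k - 1 + 1 = k by omega] at this
  have h9 : a ^ k = a * a ^ (k - 1) := by
    rw [← pow_succ', show k - 1 + 1 = k by omega]
  have h10 : a ^ k + 1 ≤ (a + 1) * k := hR ▸ Nat.mul_le_mul_left _ hRle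
  have h11 : a * (2 * k) ≤ a * a ^ (k - 1) := Nat.mul_le_mul_left _ h8
  nlinarith

variable {F : Type*} [Field F] {m : ℕ} [hP : Param F m]

set_option quotPrecheck false
local notation "G" => ↥(Cfsg.Sz F m)
local notation "qq" => (2 ^ (2 * m + 1) : ℕ)
local notation "rr" => (2 ^ (m + 1) : ℕ)

/-- An element whose order is a product of two primes lies in a torus. -/
theorem edge {r s : ℕ} (hr : r.Prime) (hs : s.Prime) (hrs : r ≠ s) {x : G}
    (hx : orderOf x = r * s) :
    ∃ A ∈ ({qq - 1, qq + rr + 1, qq - rr + 1} : Set ℕ), r ∣ A ∧ s ∣ A := by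
  have hx1 : x ≠ 1 := by
    rintro rfl
    rw [orderOf_one] at hx
    exact hr.ne_one (mul_eq_one.1 hx.symm).1
  obtain ⟨U, ⟨hU, hxU⟩, -⟩ := SuzukiGroupPartition.existsUnique_part hx1
  rcases hU with ⟨P, rfl⟩ | ⟨-, hcard⟩
  · exfalso
    haveI : Fact (Nat.Prime 2) := ⟨Nat.prime_two⟩
    obtain ⟨k, hk⟩ := IsPGroup.iff_orderOf.1 P.isPGroup' ⟨x, hxU⟩
    rw [← Subgroup.orderOf_coe] at hk
    rw [hx] at hk
    have h1 := (Nat.prime_dvd_prime_iff_eq hr Nat.prime_two).1
      (hr.dvd_of_dvd_pow (hk ▸ dvd_mul_right r s))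
    have h2 := (Nat.prime_dvd_prime_iff_eq hs Nat.prime_two).1
      (hs.dvd_of_dvd_pow (hk ▸ dvd_mul_left s r))
    exact hrs (h1.trans h2.symm)
  · have h := orderOf_dvd_natCard (⟨x, hxU⟩ : U)
    rw [← Subgroup.orderOf_coe] at h
    rw [hx] at h
    exact ⟨_, hcard, (dvd_mul_right r s).trans h, (dvd_mul_left s r).trans h⟩

omit hP in
theorem not_two_dvd_tori {A : ℕ} (hA : A ∈ ({qq - 1, qq + rr + 1, qq - rr + 1} : Set ℕ)) :
    ¬ 2 ∣ A := by
  have h1 : 2 ∣ qq := dvd_pow_self 2 (by omega)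
  have h2 : 2 ∣ rr := dvd_pow_self 2 (by omega)
  have h3 : rr ≤ qq ∨ m = 0 := by
    rcases Nat.eq_zero_or_pos m with h | h
    · exact Or.inr h
    · exact Or.inl (Nat.pow_le_pow_right (by norm_num) (by omega))
  have h4 : 0 < qq := Nat.two_pow_pos _
  rcases hA with rfl | rfl | rfl <;> omega

include hP in
theorem tori_mul : (qq + rr + 1) * (qq - rr + 1) = qq ^ 2 + 1 := by
  obtain ⟨h1, h2, -, -⟩ := SuzukiGroupPartition.r_facts (F := F) (m := m)
  zify [h2.le] at h1 ⊢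
  linear_combination (-1 : ℤ) * h1

include hP in
theorem tori_coprime {A B : ℕ} (hA : A ∈ ({qq - 1, qq + rr + 1, qq - rr + 1} : Set ℕ))
    (hB : B ∈ ({qq - 1, qq + rr + 1, qq - rr + 1} : Set ℕ)) (hne : A ≠ B) : A.Coprime B := by
  have hm := tori_mul (F := F) (m := m)
  have key : ∀ C, C ∣ qq ^ 2 + 1 → (qq - 1).Coprime C := fun C hC =>
    Nat.coprime_of_dvd fun p hp ha hb =>
      (SuzukiGroupTori.coprime_sub_one hp (hb.trans hC)).2.2 ha
  have d1 : qq + rr + 1 ∣ qq ^ 2 + 1 := hm ▸ dvd_mul_right _ _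
  have d2 : qq - rr + 1 ∣ qq ^ 2 + 1 := hm ▸ dvd_mul_left _ _
  have hc := SuzukiGroupPartition.coprime_tori (F := F) (m := m)
  rcases hA with rfl | rfl | rfl <;> rcases hB with rfl | rfl | rfl
  all_goals first
    | exact absurd rfl hne
    | exact key _ d1 | exact (key _ d1).symm | exact key _ d2 | exact (key _ d2).symm
    | exact hc | exact hc.symm

theorem no_two_edge {r : ℕ} (hr : r.Prime) (hr2 : r ≠ 2) (x : G) : orderOf x ≠ 2 * r := by
  intro h
  obtain ⟨A, hA, h2, -⟩ := edge Nat.prime_two hr hr2.symm h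
  exact not_two_dvd_tori hA h2

theorem card_eq : Nat.card G = qq ^ 2 * ((qq + rr + 1) * (qq - rr + 1)) * (qq - 1) := by
  rw [natCard_Sz, tori_mul (F := F) (m := m)]

/-- Three pairwise non-adjacent odd primes. -/
theorem exists_three : ∃ p : Fin 3 → ℕ, (∀ i, (p i).Prime ∧ p i ∣ Nat.card G ∧ p i ≠ 2) ∧
    ∀ i j, i ≠ j → p i ≠ p j ∧ (∀ x : G, orderOf x ≠ p i * p j) ∧
      ∀ B ∈ ({qq - 1, qq + rr + 1, qq - rr + 1} : Set ℕ), p i ∣ B → ¬ p j ∣ B := by
  obtain ⟨h1, h2, -, -⟩ := SuzukiGroupPartition.r_facts (F := F) (m := m)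
  have hq := SuzukiGroupTori.q_ge (F := F) (m := m)
  let A : Fin 3 → ℕ := ![qq - 1, qq + rr + 1, qq - rr + 1]
  have hmem : ∀ i, A i ∈ ({qq - 1, qq + rr + 1, qq - rr + 1} : Set ℕ) := fun i => by
    fin_cases i <;> simp [A]
  have hdvd : ∀ i, A i ∣ Nat.card G := fun i => by
    rw [card_eq (F := F) (m := m)]
    fin_cases i
    · exact dvd_mul_left _ _
    · exact Dvd.dvd.mul_right (Dvd.dvd.mul_left (dvd_mul_right _ _) _) _
    · exact Dvd.dvd.mul_right (Dvd.dvd.mul_left (dvd_mul_left _ _) _) _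
  have hne1 : ∀ i, A i ≠ 1 := by
    have key : ∀ Q R : ℕ, 8 ≤ Q → R < Q → ∀ i : Fin 3, ![Q - 1, Q + R + 1, Q - R + 1] i ≠ 1 := by
      intro Q R hQ hR i
      fin_cases i <;> simp <;> omega
    exact key qq rr hq h2
  have hinj : Function.Injective A := by
    have key : ∀ Q R : ℕ, 8 ≤ Q → R < Q → 2 ∣ R → 0 < R → 2 < R →
        Function.Injective ![Q - 1, Q + R + 1, Q - R + 1] := by
      intro Q R hQ hR hd hR0 hR2 i j hij
      fin_cases i <;> fin_cases j <;> simp at hij ⊢ <;> omega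
    refine key qq rr hq h2 (dvd_pow_self 2 (by omega)) (Nat.two_pow_pos _) ?_
    exact lt_of_lt_of_le (by norm_num : 2 < 2 ^ 2)
      (Nat.pow_le_pow_right (by norm_num) (by have := one_le (F := F) (m := m); omega))
  choose p hp hpd using fun i => Nat.exists_prime_and_dvd (hne1 i)
  have hsep : ∀ i j, i ≠ j → ∀ r : ℕ, r.Prime → r ∣ A i → ¬ r ∣ A j := fun i j hij r hr ha hb =>
    hr.one_lt.ne' (Nat.eq_one_of_dvd_coprimes
      (tori_coprime (F := F) (hmem i) (hmem j) (hinj.ne hij)) ha hb)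
  refine ⟨p, fun i => ⟨hp i, (hpd i).trans (hdvd i),
    fun h => not_two_dvd_tori (hmem i) (h ▸ hpd i)⟩, fun i j hij => ?_⟩
  have hpne : p i ≠ p j := fun h => hsep i j hij _ (hp i) (hpd i) (h ▸ hpd j)
  suffices hB' : ∀ B ∈ ({qq - 1, qq + rr + 1, qq - rr + 1} : Set ℕ), p i ∣ B → ¬ p j ∣ B from
    ⟨hpne, fun x hx => by
      obtain ⟨B, hB, hiB, hjB⟩ := edge (hp i) (hp j) hpne hx
      exact hB' B hB hiB hjB, hB'⟩
  intro B hB hiB hjB
  have e1 : A i = B := by
    by_contra h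
    exact (hp i).one_lt.ne' (Nat.eq_one_of_dvd_coprimes (tori_coprime (F := F) (hmem i) hB h) (hpd i) hiB)
  have e2 : A j = B := by
    by_contra h
    exact (hp j).one_lt.ne' (Nat.eq_one_of_dvd_coprimes (tori_coprime (F := F) (hmem j) hB h) (hpd j) hjB)
  exact hij (hinj (e1.trans e2.symm))

theorem not_three_dvd : ¬ 3 ∣ Nat.card G := SuzukiGroupTori.not_three_dvd

/-- A Sylow 2-subgroup has at most `q - 1` involutions. -/
theorem card_involutions_le (P : Sylow 2 G) :
    Nat.card {t : G // t ∈ (P : Subgroup G) ∧ orderOf t = 2} ≤ qq - 1 := by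
  haveI := finiteF (F := F) (m := m)
  obtain ⟨c, hc⟩ := exists_conj_sylow P
  rw [← natCard (F := F) (m := m), ← Nat.card_units F]
  have hshape : ∀ t : {t : G // t ∈ (P : Subgroup G) ∧ orderOf t = 2},
      ∃ b : Fˣ, (t : G) = c * Ts 0 (b : F) * c⁻¹ := by
    rintro ⟨t, htP, ht⟩
    rw [hc] at htP
    obtain ⟨_, ⟨a, b, rfl⟩, rfl⟩ := htP
    have ho : orderOf (Ts a b : G) = 2 := by
      rwa [MulEquiv.coe_toMonoidHom, MulEquiv.orderOf_eq] at ht
    have hsq := pow_orderOf_eq_one (Ts a b : G)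
    rw [ho, pow_two, Ts_mul] at hsq
    have h2 := (Ts_eq_one hsq).2
    haveI := charTwo (F := F) (m := m)
    rw [CharTwo.add_self_eq_zero, zero_add] at h2
    have ha : a = 0 := by
      rcases mul_eq_zero.1 h2 with h | h
      · exact sg_eq_zero.1 h
      · exact h
    subst ha
    have hb : b ≠ 0 := by
      rintro rfl
      rw [Ts_zero, orderOf_one] at ho; omega
    exact ⟨Units.mk0 b hb, rfl⟩
  choose f hf using hshape
  exact Nat.card_le_card_of_injective f fun t t' h => Subtype.ext (by rw [hf, hf, h])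

end Cfsg.Agent.PrimeGraphSz46
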