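import Cfsg.Agent.Lib.SuzukiGroupStructure

/-!
Subfield subgroups of the Suzuki group.
-/

set_option autoImplicit false

namespace Cfsg.Agent.SuzukiGroupSubfield

open scoped Matrix Pointwise LinearAlgebra.Projectivization
open MulAction Cfsg.Agent.SuzukiGroupBasic Cfsg.Agent.SuzukiGroupStructure

variable (F : Type*) [Field F] (m : ℕ) [hP : Param F m]

/-- The subfield subgroup of level `k`: generated by the translations, torus elements with
coordinates in the field with `2^(2k+1)` elements, and the Weyl element. -/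
def subSz (k : ℕ) : Subgroup ↥(Cfsg.Sz F m) :=
  Subgroup.closure
    ({g | ∃ a b : F, a ^ (2 ^ (2 * k + 1)) = a ∧ b ^ (2 ^ (2 * k + 1)) = b ∧ g = Ts a b} ∪
      {g | ∃ l : Fˣ, (l : F) ^ (2 ^ (2 * k + 1)) = l ∧ g = Hs l} ∪ {Ws})

variable {F m}
variable {K : Type*} [Field K] {k : ℕ} [hQ : Param K k]

include hP hQ in
theorem pow_map_eq (hdiv : 2 * k + 1 ∣ 2 * m + 1) (x : K) :
    x ^ (2 ^ m) = x ^ (2 ^ k) := by
  obtain ⟨d, hd⟩ := hdiv
  obtain ⟨j, rfl⟩ : ∃ j, d = 2 * j + 1 := by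
    have : ¬ 2 ∣ d := fun h => by
      have h2 : 2 ∣ 2 * m + 1 := hd ▸ h.mul_left _
      omega
    exact ⟨d / 2, by omega⟩
  have hm : m = k + (2 * k + 1) * j := by
    have : 2 * m + 1 = 2 * (k + (2 * k + 1) * j) + 1 := by rw [hd]; ring
    omega
  subst hm
  clear hd
  induction j with
  | zero => simp
  | succ j ih =>
    rw [show k + (2 * k + 1) * (j + 1) = (k + (2 * k + 1) * j) + (2 * k + 1) by ring, pow_add,
      pow_mul, pow_q (F := K) (m := k)]
    exact ih

variable (ι : K →+* F)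

include hP hQ in
theorem map_tg (hdiv : 2 * k + 1 ∣ 2 * m + 1) (x : K) : tg m (ι x) = ι (tg k x) := by
  rw [tg, tg, ← map_pow, pow_map_eq (F := F) (m := m) hdiv]

include hP hQ in
theorem map_sg (hdiv : 2 * k + 1 ∣ 2 * m + 1) (x : K) : sg m (ι x) = ι (sg k x) := by
  rw [← tg_mul_tg, ← tg_mul_tg, map_mul, map_tg ι hdiv]

include hP hQ in
theorem map_T (hdiv : 2 * k + 1 ∣ 2 * m + 1) (a b : K) :
    Matrix.SpecialLinearGroup.map ι (T k a b) = T m (ι a) (ι b) := by
  apply sl_ext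
  ext i j
  change ι ((Tm k a b) i j) = Tm m (ι a) (ι b) i j
  fin_cases i <;> fin_cases j <;> simp [Tm, ff, map_sg ι hdiv]

include hP hQ in
theorem map_H (hdiv : 2 * k + 1 ∣ 2 * m + 1) (l : Kˣ) :
    Matrix.SpecialLinearGroup.map ι (H k l) = H m (Units.map ι.toMonoidHom l) := by
  apply sl_ext
  ext i j
  change ι ((Hm k (l : K)) i j) = Hm m (ι l) i j
  fin_cases i <;> fin_cases j <;> simp [Hm, Matrix.diagonal, map_tg ι hdiv]

omit hP in
theorem map_W : Matrix.SpecialLinearGroup.map ι (W K) = W F := by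
  apply sl_ext
  ext i j
  change ι ((Cfsg.suzukiForm K) i j) = Cfsg.suzukiForm F i j
  fin_cases i <;> fin_cases j <;> simp [Cfsg.suzukiForm]

theorem generators (g : ↥(Cfsg.Sz K k)) :
    (∃ a b l, g = Ts a b * Hs l) ∨ ∃ a b c d l, g = Ts a b * Ws * (Ts c d * Hs l) := by
  rcases bruhat g with h | ⟨a, b, h, hh, rfl⟩
  · exact Or.inl (fix_inf_iff.mp h)
  · obtain ⟨c, d, l, rfl⟩ := fix_inf_iff.mp hh
    exact Or.inr ⟨a, b, c, d, l, rfl⟩

include hP hQ in
theorem map_mem (hdiv : 2 * k + 1 ∣ 2 * m + 1) (g : ↥(Cfsg.Sz K k)) :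
    Matrix.SpecialLinearGroup.map ι (g : Matrix.SpecialLinearGroup (Fin 4) K) ∈ Cfsg.Sz F m := by
  rcases generators g with ⟨a, b, l, rfl⟩ | ⟨a, b, c, d, l, rfl⟩ <;>
    simp only [Ts, Hs, Ws, Subgroup.coe_mul, map_mul, map_T ι hdiv, map_H ι hdiv, map_W]
  · exact mul_mem (T_mem _ _) (H_mem _)
  · exact mul_mem (mul_mem (T_mem _ _) W_mem) (mul_mem (T_mem _ _) (H_mem _))

/-- The embedding `Sz(K) → Sz(F)` given by a field embedding. -/
def szMap (hdiv : 2 * k + 1 ∣ 2 * m + 1) : ↥(Cfsg.Sz K k) →* ↥(Cfsg.Sz F m) where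
  toFun g := ⟨Matrix.SpecialLinearGroup.map ι (g : Matrix.SpecialLinearGroup (Fin 4) K), map_mem ι hdiv g⟩
  map_one' := Subtype.ext (map_one (Matrix.SpecialLinearGroup.map ι))
  map_mul' g h := Subtype.ext (map_mul (Matrix.SpecialLinearGroup.map ι) _ _)

theorem szMap_Ts (hdiv : 2 * k + 1 ∣ 2 * m + 1) (a b : K) :
    szMap (F := F) (m := m) ι hdiv (Ts a b) = Ts (ι a) (ι b) := Subtype.ext (map_T ι hdiv a b)

theorem szMap_Hs (hdiv : 2 * k + 1 ∣ 2 * m + 1) (l : Kˣ) :
    szMap (F := F) (m := m) ι hdiv (Hs l) = Hs (Units.map ι.toMonoidHom l) :=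
  Subtype.ext (map_H ι hdiv l)

theorem szMap_Ws (hdiv : 2 * k + 1 ∣ 2 * m + 1) :
    szMap (F := F) (m := m) ι hdiv Ws = Ws := Subtype.ext (map_W ι)

theorem szMap_injective (hdiv : 2 * k + 1 ∣ 2 * m + 1) :
    Function.Injective (szMap (F := F) (m := m) ι hdiv) := by
  intro g h e
  have e1 := congrArg Subtype.val e
  apply Subtype.ext
  apply sl_ext
  ext i j
  exact ι.injective (congrArg (fun z : Matrix.SpecialLinearGroup (Fin 4) F => z.1 i j) e1)

include hQ in
theorem mem_range_iff (x : F) :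
    x ∈ Set.range ι ↔ x ^ (2 ^ (2 * k + 1)) = x := by
  classical
  have := finiteF (F := K) (m := k)
  constructor
  · rintro ⟨y, rfl⟩; rw [← map_pow, pow_q]
  · intro hx
    by_contra hnot
    have hone : 1 < 2 ^ (2 * k + 1) := Nat.one_lt_two_pow (by omega)
    set P : Polynomial F := Polynomial.X ^ (2 ^ (2 * k + 1)) - Polynomial.X with hPdef
    have hP0 : P ≠ 0 := FiniteField.X_pow_card_sub_X_ne_zero F hone
    have hdeg : P.natDegree = 2 ^ (2 * k + 1) := FiniteField.X_pow_card_sub_X_natDegree_eq F hone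
    let : Fintype K := Fintype.ofFinite K
    have hsub : insert x (Finset.univ.image ι) ⊆ P.roots.toFinset := by
      intro y hy
      rw [Multiset.mem_toFinset, Polynomial.mem_roots hP0, Polynomial.IsRoot, hPdef,
        Polynomial.eval_sub, Polynomial.eval_pow, Polynomial.eval_X, sub_eq_zero]
      rcases Finset.mem_insert.mp hy with rfl | hy
      · exact hx
      · obtain ⟨z, -, rfl⟩ := Finset.mem_image.mp hy
        rw [← map_pow, pow_q]
    have h1 := (Finset.card_le_card hsub).trans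
      ((Multiset.toFinset_card_le _).trans ((Polynomial.card_roots' P).trans hdeg.le))
    rw [Finset.card_insert_of_notMem (by
        simpa only [Finset.mem_image, Finset.mem_univ, true_and, not_exists, Set.mem_range] using hnot),
      Finset.card_image_of_injective _ ι.injective, Finset.card_univ, ← Nat.card_eq_fintype_card,
      natCard (F := K) (m := k)] at h1
    omega

theorem range_szMap (hdiv : 2 * k + 1 ∣ 2 * m + 1) :
    (szMap (F := F) (m := m) ι hdiv).range = subSz F m k := by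
  refine le_antisymm ?_ ((Subgroup.closure_le _).mpr ?_)
  · rintro _ ⟨g, rfl⟩
    have hT : ∀ a b : K, (Ts (ι a) (ι b) : ↥(Cfsg.Sz F m)) ∈ subSz F m k := fun a b =>
      Subgroup.subset_closure (Or.inl (Or.inl ⟨_, _, (mem_range_iff ι _).mp ⟨a, rfl⟩,
        (mem_range_iff ι _).mp ⟨b, rfl⟩, rfl⟩))
    have hH : ∀ l : Kˣ, (Hs (Units.map ι.toMonoidHom l) : ↥(Cfsg.Sz F m)) ∈ subSz F m k := fun l =>
      Subgroup.subset_closure (Or.inl (Or.inr ⟨_, (mem_range_iff ι _).mp ⟨(l : K), rfl⟩, rfl⟩))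
    have hW : (Ws : ↥(Cfsg.Sz F m)) ∈ subSz F m k := Subgroup.subset_closure (Or.inr rfl)
    rcases generators g with ⟨a, b, l, rfl⟩ | ⟨a, b, c, d, l, rfl⟩ <;>
      simp only [map_mul, szMap_Ts, szMap_Hs, szMap_Ws]
    · exact mul_mem (hT a b) (hH l)
    · exact mul_mem (mul_mem (hT a b) hW) (mul_mem (hT c d) (hH l))
  · rintro g ((⟨a, b, ha, hb, rfl⟩ | ⟨l, hl, rfl⟩) | rfl)
    · obtain ⟨a', rfl⟩ := (mem_range_iff ι a).mpr ha
      obtain ⟨b', rfl⟩ := (mem_range_iff ι b).mpr hb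
      exact ⟨Ts a' b', szMap_Ts ι hdiv a' b'⟩
    · obtain ⟨l', hl'⟩ := (mem_range_iff ι (l : F)).mpr hl
      have h0 : l' ≠ 0 := by rintro rfl; rw [map_zero] at hl'; exact l.ne_zero hl'.symm
      refine ⟨Hs (Units.mk0 l' h0), ?_⟩
      rw [szMap_Hs]
      congr 1
      exact Units.ext hl'
    · exact ⟨Ws, szMap_Ws ι hdiv⟩

include hP hQ in
theorem exists_ringHom (hdiv : 2 * k + 1 ∣ 2 * m + 1) : Nonempty (K →+* F) := by
  have := charTwo (F := F) (m := m)
  have := charTwo (F := K) (m := k)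
  have := finiteF (F := F) (m := m)
  have := finiteF (F := K) (m := k)
  let : Algebra (ZMod 2) F := ZMod.algebra F 2
  let : Algebra (ZMod 2) K := ZMod.algebra K 2
  have hfr : ∀ (L : Type _) [Field L] [Finite L] [Algebra (ZMod 2) L] (j : ℕ), Nat.card L = 2 ^ j →
      Module.finrank (ZMod 2) L = j := by
    intro L _ _ _ j hj
    have h1 := Module.natCard_eq_pow_finrank (K := ZMod 2) (V := L)
    rw [hj, Nat.card_zmod] at h1
    exact (Nat.pow_right_injective le_rfl h1).symm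
  have h : Module.finrank (ZMod 2) K ∣ Module.finrank (ZMod 2) F := by
    have h1 := Module.natCard_eq_pow_finrank (K := ZMod 2) (V := K)
    rw [natCard (F := K) (m := k), Nat.card_zmod] at h1
    rw [hfr F _ (natCard (F := F) (m := m)), ← Nat.pow_right_injective le_rfl h1]
    exact hdiv
  obtain ⟨f⟩ := FiniteField.nonempty_algHom_of_finrank_dvd h
  exact ⟨f.toRingHom⟩

/-- `Sz(K)` is isomorphic to the subfield subgroup of the same level. -/
theorem exists_equiv_subSz (hdiv : 2 * k + 1 ∣ 2 * m + 1) :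
    Nonempty (↥(Cfsg.Sz K k) ≃* ↥(subSz F m k)) := by
  obtain ⟨ι⟩ := exists_ringHom (F := F) (m := m) (K := K) hdiv
  exact ⟨(MonoidHom.ofInjective (szMap_injective ι hdiv)).trans
    (MulEquiv.subgroupCongr (range_szMap ι hdiv))⟩

end Cfsg.Agent.SuzukiGroupSubfield
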