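import Cfsg.Agent.Lib.SuzukiGroupClassEquation
import Cfsg.Agent.Lib.SuzukiGroupSubfield
import Cfsg.Agent.Lib.SuzukiGroupTI

/-!
The subgroups of the Suzuki group: a subgroup that lies in no Borel subgroup and in no normaliser
of a cyclic part is conjugate to a subfield subgroup.
-/

set_option autoImplicit false

namespace Cfsg.Agent.SuzukiGroupClassification

open scoped Matrix Pointwise LinearAlgebra.Projectivization
open MulAction Cfsg.Agent.SuzukiGroupBasic Cfsg.Agent.SuzukiGroupStructure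
open Cfsg.Agent.SuzukiGroupCentralizer Cfsg.Agent.SuzukiGroupTori Cfsg.Agent.SuzukiGroupPartition
open Cfsg.Agent.SuzukiGroupNilpotent Cfsg.Agent.SuzukiGroupNormalizers
open Cfsg.Agent.SuzukiGroupSolubilizer Cfsg.Agent.SuzukiGroupClassEquation
open Cfsg.Agent.SuzukiGroupSubfield

variable {F : Type*} [Field F] {m : ℕ} [hP : Param F m]

set_option quotPrecheck false
local notation "G" => ↥(Cfsg.Sz F m)
local notation "qq" => (2 ^ (2 * m + 1) : ℕ)
local notation "∞" => Cfsg.suzukiPointInfinity F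
local notation "o" => Cfsg.suzukiPointZero F
local notation "Bor" => SuzukiGroupStructure.borel
local notation "N[" U "]" => Subgroup.normalizer ((U : Subgroup ↥(Cfsg.Sz F m)) : Set ↥(Cfsg.Sz F m))

/-- `M` fixes no point and normalises no cyclic part. -/
def NotLocal (M : Subgroup ↥(Cfsg.Sz F m)) : Prop :=
  (∀ p ∈ suzukiOvoid F m, ¬ M ≤ stabilizer ↥(Cfsg.Sz F m) p) ∧
    ∀ V, IsCycPart F m V → ¬ M ≤ Subgroup.normalizer (V : Set ↥(Cfsg.Sz F m))

/-- `M` is conjugate to a subfield subgroup. -/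
def Std (M : Subgroup ↥(Cfsg.Sz F m)) : Prop :=
  ∃ j : ℕ, 1 ≤ j ∧ 2 * j + 1 ∣ 2 * m + 1 ∧
    ∃ c : ↥(Cfsg.Sz F m), M = (subSz F m j).map (MulAut.conj c).toMonoidHom

theorem conj_map_one (M : Subgroup G) : M.map (MulAut.conj (1 : G)).toMonoidHom = M := by
  ext x; simp

theorem NotLocal.map {M : Subgroup G} (hM : NotLocal M) (c : G) :
    NotLocal (M.map (MulAut.conj c).toMonoidHom) := by
  refine ⟨fun p hp h => hM.1 (c⁻¹ • p) (smul_mem_ovoid _ hp) fun x hx => ?_,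
    fun V hV h => hM.2 (V.map (MulAut.conj c⁻¹).toMonoidHom) (hV.map _) fun x hx => ?_⟩
  · have h1 := mem_stabilizer_iff.mp (h (Subgroup.mem_map_of_mem _ hx))
    change (c * x * c⁻¹) • p = p at h1
    rw [mul_smul, mul_smul] at h1
    rw [mem_stabilizer_iff, eq_inv_smul_iff]
    exact h1
  · rw [normalizer_map]
    exact ⟨_, h (Subgroup.mem_map_of_mem _ hx), by simp [mul_assoc]⟩

theorem Std.of_map {M : Subgroup G} {c : G} (h : Std (M.map (MulAut.conj c).toMonoidHom)) : Std M := by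
  obtain ⟨j, hj, hdvd, d, hd⟩ := h
  refine ⟨j, hj, hdvd, c⁻¹ * d, ?_⟩
  rw [← map_conj_map, ← hd, map_conj_map, inv_mul_cancel, conj_map_one]

theorem not_single {M W : Subgroup G} (hM : NotLocal M) (hW : IsMPart M W) {c : ℕ}
    (hd : Data M W c) (hg : Nat.card M = c * Nat.card W) : False := by
  have := finiteF (F := F) (m := m)
  have h1 : M ⊓ N[W] = M :=
    Subgroup.eq_of_le_of_card_ge inf_le_left (by rw [hd.card_eq, hg])
  obtain ⟨hne, V, hV, rfl⟩ := hW
  exact hM.2 V hV fun x hx => (mem_normalizer_part hV hne hx).mp ((inf_eq_left.mp h1) hx)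

theorem wt_eq {c v : ℕ} (hc : c = 1 ∨ c = 2 ∨ c = 4) (hv : 3 ≤ v) :
    wt c v = (1 - 1 / (v : ℚ)) / c := by
  have h1 : (c : ℚ) ≠ 0 := by rcases hc with h | h | h <;> rw [h] <;> norm_num
  have h2 : (v : ℚ) ≠ 0 := Nat.cast_ne_zero.mpr (by omega)
  rw [wt]; field_simp

theorem wt_bounds {M W : Subgroup G} {c : ℕ} (hd : Data M W c) :
    (c = 1 ∧ 2 / 3 ≤ wt c (Nat.card W)) ∨
      (c = 2 ∧ 1 / 3 ≤ wt c (Nat.card W) ∧ wt c (Nat.card W) < 1 / 2) ∨
      (c = 4 ∧ 1 / 5 ≤ wt c (Nat.card W) ∧ wt c (Nat.card W) < 1 / 4) := by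
  rw [wt_eq hd.cases hd.three]
  have hv : (3 : ℚ) ≤ (Nat.card W : ℚ) := by exact_mod_cast hd.three
  have h0 : (0 : ℚ) < 1 / (Nat.card W : ℚ) := by positivity
  have h3 : (1 : ℚ) / (Nat.card W : ℚ) ≤ 1 / 3 := one_div_le_one_div_of_le (by norm_num) hv
  rcases hd.cases with h | h | h
  · left; refine ⟨h, ?_⟩; subst h; norm_num; norm_num at h3; linarith
  · right; left; refine ⟨h, ?_⟩; subst h; norm_num; rw [one_div] at h0; norm_num at h3
    constructor <;> linarith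
  · right; right
    have hv5 : (5 : ℚ) ≤ (Nat.card W : ℚ) := by exact_mod_cast (hd.five h).1
    have h5 : (1 : ℚ) / (Nat.card W : ℚ) ≤ 1 / 5 := one_div_le_one_div_of_le (by norm_num) hv5
    refine ⟨h, ?_⟩; subst h; norm_num; rw [one_div] at h0; norm_num at h5
    constructor <;> linarith

theorem wt_pos {M W : Subgroup G} {c : ℕ} (hd : Data M W c) : 1 / 5 ≤ wt c (Nat.card W) := by
  rcases wt_bounds hd with ⟨-, h⟩ | ⟨-, h, -⟩ | ⟨-, h, -⟩ <;> linarith

theorem exists_involution_of_even {M : Subgroup G} {u : G} (hu : u ∈ M) (h1 : u ≠ 1)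
    (h4 : orderOf u ∣ 4) : ∃ z ∈ M, orderOf z = 2 := by
  obtain ⟨i, hi⟩ := exists_pow_of_dvd_four h4
  rcases i with - | i
  · exact absurd (orderOf_eq_one_iff.mp hi) h1
  · refine ⟨u ^ (2 ^ i), pow_mem hu _, ?_⟩
    rw [orderOf_pow, hi, Nat.gcd_eq_right (pow_dvd_pow 2 i.le_succ), pow_succ,
      Nat.mul_div_cancel_left _ (Nat.two_pow_pos i)]

theorem exists_involution {M : Subgroup G} (hM : NotLocal M) : ∃ z ∈ M, orderOf z = 2 := by
  have := finiteF (F := F) (m := m)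
  by_contra hno
  obtain ⟨𝒦, c, hK, -, hE, -⟩ := exists_classes M
  have he : eCount M = 0 := by
    have : IsEmpty {u : G // u ∈ M ∧ u ≠ 1 ∧ orderOf u ∣ 4} :=
      ⟨fun ⟨u, hu, h1, h4⟩ => hno (exists_involution_of_even hu h1 h4)⟩
    exact Nat.card_of_isEmpty
  have hc1 : ∀ K ∈ 𝒦, c K = 1 := by
    intro K hKm
    obtain ⟨-, hd⟩ := hK K hKm
    by_contra hne
    have h3 := hd.invs
    rw [if_neg hne] at h3
    have := hd.three
    obtain ⟨⟨⟨u, hu, ho⟩⟩, -⟩ := Nat.card_pos_iff.mp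
      (show 0 < Nat.card {u : G // u ∈ M ⊓ N[K] ∧ orderOf u = 2} by omega)
    exact hno ⟨u, hu.1, ho⟩
  have hg : (0 : ℚ) < (Nat.card M : ℚ) := Nat.cast_pos.mpr Nat.card_pos
  rw [he, Nat.cast_zero, add_zero] at hE
  have hlow : (2 / 3 : ℚ) * 𝒦.card ≤ ∑ K ∈ 𝒦, wt (c K) (Nat.card K) := by
    rw [mul_comm, ← nsmul_eq_mul, ← Finset.sum_const]
    refine Finset.sum_le_sum fun K hKm => ?_
    rcases wt_bounds (hK K hKm).2 with ⟨-, h⟩ | ⟨h, -⟩ | ⟨h, -⟩
    · exact h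
    · rw [hc1 K hKm] at h; norm_num at h
    · rw [hc1 K hKm] at h; norm_num at h
  rcases Nat.lt_or_ge 𝒦.card 2 with hlt | hge
  · rcases Nat.eq_zero_or_pos 𝒦.card with h0 | hpos
    · rw [Finset.card_eq_zero.mp h0, Finset.sum_empty, mul_zero, add_zero] at hE
      have hbot : M = ⊥ := Subgroup.card_eq_one.mp (by exact_mod_cast hE)
      exact hM.1 ∞ inf_mem (hbot ▸ bot_le)
    · obtain ⟨K, hKeq⟩ := Finset.card_eq_one.mp (show 𝒦.card = 1 by omega)
      have hKm : K ∈ 𝒦 := hKeq ▸ Finset.mem_singleton_self K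
      obtain ⟨hKp, hd⟩ := hK K hKm
      rw [hKeq, Finset.sum_singleton, wt_eq hd.cases hd.three, hc1 K hKm] at hE
      refine not_single hM hKp hd ?_
      rw [hc1 K hKm, one_mul]
      have hv : (Nat.card K : ℚ) ≠ 0 := Nat.cast_ne_zero.mpr (by have := hd.three; omega)
      field_simp at hE
      norm_num at hE
      have : (Nat.card M : ℚ) = (Nat.card K : ℚ) := by linarith
      exact_mod_cast this
  · have : (2 : ℚ) ≤ 𝒦.card := by exact_mod_cast hge
    nlinarith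

/-! ### A subgroup containing the involution `Ts 0 1` -/

theorem fix_eq_of_commute {z u : G} (hz : z ≠ 1) (hz4 : orderOf z ∣ 4) {p p' : ℙ F (Fin 4 → F)}
    (hp : p ∈ suzukiOvoid F m) (hp' : p' ∈ suzukiOvoid F m) (hu1 : u ≠ 1) (hu4 : orderOf u ∣ 4)
    (hzp : z • p = p) (hup : u • p' = p') (hc : Commute z u) : p = p' := by
  obtain ⟨p₀, -, -, hz'⟩ := exists_unique_fix hz hz4
  obtain ⟨p₁, -, -, hu'⟩ := exists_unique_fix hu1 hu4
  have h : z • (u • p) = u • p := by rw [← mul_smul, hc.eq, mul_smul, hzp]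
  have h2 : u • p = p := (hz' _ (smul_mem_ovoid u hp) h).trans (hz' p hp hzp).symm
  exact (hu' p hp h2).trans (hu' p' hp' hup).symm

/-- The orbit of `∞`. -/
def orbInf (M : Subgroup ↥(Cfsg.Sz F m)) : Set (ℙ F (Fin 4 → F)) :=
  (fun x : ↥(Cfsg.Sz F m) => x • Cfsg.suzukiPointInfinity F) '' (M : Set ↥(Cfsg.Sz F m))

theorem orbInf_subset (M : Subgroup G) : orbInf M ⊆ suzukiOvoid F m := by
  rintro _ ⟨x, -, rfl⟩; exact smul_mem_ovoid x inf_mem

theorem natCard_eq_orb (M : Subgroup G) :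
    Nat.card M = Nat.card (orbInf M) * Nat.card ↥(Bor ⊓ M : Subgroup G) := by
  have := finiteF (F := F) (m := m)
  have hst : ((Bor : Subgroup G)).subgroupOf M = stabilizer M (∞ : ℙ F (Fin 4 → F)) := rfl
  have horb : orbit M (∞ : ℙ F (Fin 4 → F)) = orbInf M := by
    ext p
    constructor
    · rintro ⟨x, rfl⟩; exact ⟨x, x.2, rfl⟩
    · rintro ⟨x, hx, rfl⟩; exact ⟨⟨x, hx⟩, rfl⟩
  have h1 := Subgroup.card_mul_index ((Bor : Subgroup G).subgroupOf M)
  rw [hst, index_stabilizer M (∞ : ℙ F (Fin 4 → F)), horb] at h1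
  rw [← h1, mul_comm, ← Nat.card_coe_set_eq]
  congr 1
  rw [← hst]
  refine Nat.card_eq_of_bijective (fun z : ↥((Bor : Subgroup G).subgroupOf M) =>
    (⟨((z : M) : G), z.2, (z : M).2⟩ : ↥(Bor ⊓ M : Subgroup G))) ⟨?_, ?_⟩
  · intro a b h
    exact Subtype.ext (Subtype.ext (congrArg (fun z : ↥(Bor ⊓ M : Subgroup G) => (z : G)) h))
  · rintro ⟨z, hz1, hz2⟩; exact ⟨⟨⟨z, hz2⟩, hz1⟩, rfl⟩

theorem exists_orb_point {M : Subgroup G} (hz : (Ts 0 1 : G) ∈ M) {u : G} (hu : u ∈ M)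
    (h4 : orderOf u ∣ 4) : ∃ x ∈ M, u • (x • ∞) = x • ∞ := by
  have := finiteF (F := F) (m := m)
  have : Fact (Nat.Prime 2) := ⟨Nat.prime_two⟩
  have hne : (Ts 0 1 : G) ≠ 1 := fun e => one_ne_zero (Ts_eq_one e).2
  -- `M ∩ U` is a Sylow 2-subgroup of `M`
  let P : Sylow 2 M :=
    { toSubgroup := (unipotent : Subgroup G).subgroupOf M
      isPGroup' := fun g => by
        obtain ⟨k, hk⟩ := isPGroup_unipotent (F := F) (m := m) ⟨(g.1 : G), g.2⟩
        refine ⟨k, Subtype.ext (Subtype.ext ?_)⟩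
        exact congrArg (fun z : ↥(unipotent : Subgroup G) => (z : G)) hk
      is_maximal' := fun {Q} hQ hle => by
        refine le_antisymm (fun g hg => ?_) hle
        obtain ⟨d, hd⟩ := exists_conj_unipotent_of_isPGroup (Q.map M.subtype) (hQ.map _)
        have hfix : ∀ y ∈ Q.map M.subtype, y • (d⁻¹ • (∞ : ℙ F (Fin 4 → F))) = d⁻¹ • ∞ := fun y hy => by
          have := mem_stabilizer_iff.mp (unipotent_le_borel (hd y hy))
          rw [mul_smul, mul_smul] at this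
          rwa [eq_inv_smul_iff]
        have hzQ : (Ts 0 1 : G) ∈ Q.map M.subtype :=
          ⟨⟨Ts 0 1, hz⟩, hle (show (Ts 0 1 : G) ∈ (unipotent : Subgroup G) from Ts_mem _ _), rfl⟩
        obtain ⟨p₀, -, -, huniq⟩ := exists_unique_fix hne (orderOf_Ts_dvd 0 1)
        have hdi : d⁻¹ • (∞ : ℙ F (Fin 4 → F)) = ∞ :=
          (huniq _ (smul_mem_ovoid _ inf_mem) (hfix _ hzQ)).trans (huniq ∞ inf_mem (Ts_smul_inf 0 1)).symm
        have hgfix := hfix g ⟨g, hg, rfl⟩
        rw [hdi] at hgfix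
        rw [Subgroup.mem_subgroupOf]
        obtain ⟨k, hk⟩ := hQ.map M.subtype ⟨g, ⟨g, hg, rfl⟩⟩
        refine mem_unipotent_of_fix ?_ hgfix
        obtain ⟨a, b, hab⟩ := hd g ⟨g, hg, rfl⟩
        rw [← MulEquiv.orderOf_eq (MulAut.conj d), MulAut.conj_apply, hab]
        exact orderOf_Ts_dvd a b }
  have hpu : IsPGroup 2 (Subgroup.zpowers (⟨u, hu⟩ : M)) := by
    obtain ⟨i, hi⟩ := exists_pow_of_dvd_four h4
    exact IsPGroup.of_card (n := i) (by rw [Nat.card_zpowers, ← hi, ← Subgroup.orderOf_coe])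
  obtain ⟨Q, hQ⟩ := hpu.exists_le_sylow
  obtain ⟨x, hx⟩ := MulAction.exists_smul_eq M P Q
  refine ⟨(x : G), x.2, ?_⟩
  have := hQ (Subgroup.mem_zpowers (⟨u, hu⟩ : M))
  rw [← hx, Sylow.coe_subgroup_smul, Subgroup.mem_pointwise_smul_iff_inv_smul_mem] at this
  have h2 : (x : G)⁻¹ * u * x ∈ (unipotent : Subgroup G) := by
    have h3 : ((MulAut.conj x)⁻¹ • (⟨u, hu⟩ : M) : M) ∈ (unipotent : Subgroup G).subgroupOf M := this
    rw [Subgroup.mem_subgroupOf] at h3
    simpa [MulAut.smul_def, MulAut.conj, mul_assoc] using h3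
  have h4' := mem_stabilizer_iff.mp (unipotent_le_borel h2)
  rw [mul_smul, mul_smul, inv_smul_eq_iff] at h4'
  exact h4'

theorem two_le_orb {M : Subgroup G} (hM : NotLocal M) : ∃ x ∈ M, x • ∞ ≠ ∞ := by
  by_contra h
  push Not at h
  exact hM.1 ∞ inf_mem fun x hx => h x hx

theorem inv_conj {M : Subgroup G} (hM : NotLocal M) (hz : (Ts 0 1 : G) ∈ M) {z u : G} (hzM : z ∈ M)
    (oz : orderOf z = 2) (huM : u ∈ M) (ou : orderOf u = 2) : ∃ x ∈ M, x * z * x⁻¹ = u := by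
  have key : ∀ {z u : G}, z ∈ M → orderOf z = 2 → u ∈ M → orderOf u = 2 → ¬ Commute z u →
      ∃ x ∈ M, x * z * x⁻¹ = u := by
    intro z u hzM oz huM ou hnc
    have h4 := not_dvd_four_mul oz ou hnc
    have hz2 : z * z = 1 := by rw [← pow_two, ← oz, pow_orderOf_eq_one]
    have hu2 : u * u = 1 := by rw [← pow_two, ← ou, pow_orderOf_eq_one]
    set d := z * u with hd
    have hd1 : d ≠ 1 := fun e => h4 (by rw [e, orderOf_one]; norm_num)
    have hV : IsCycPart F m (Subgroup.centralizer {d}) := cyclic_centralizer hd1 h4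
    have hodd : ¬ 2 ∣ orderOf d := fun h => hV.odd
      (h.trans ((Subgroup.centralizer {d}).orderOf_dvd_natCard
        (Subgroup.mem_centralizer_singleton_iff.mpr rfl)))
    obtain ⟨i, hi⟩ : ∃ i, orderOf d = 2 * i + 1 := ⟨orderOf d / 2, by omega⟩
    have hdi : z * d * z⁻¹ = d⁻¹ := by
      rw [hd, inv_eq_of_mul_eq_one_right hz2, mul_inv_rev, inv_eq_of_mul_eq_one_right hu2,
        inv_eq_of_mul_eq_one_right hz2, ← mul_assoc, hz2, one_mul]
    refine ⟨d ^ i, pow_mem (mul_mem hzM huM) _, ?_⟩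
    have h1 : z * d ^ i * z⁻¹ = (d ^ i)⁻¹ := by rw [← conj_pow, hdi, inv_pow]
    have h2 : d ^ i * z = z * (d ^ i)⁻¹ := by
      rw [← h1, inv_eq_of_mul_eq_one_right hz2, ← mul_assoc, ← mul_assoc, hz2, one_mul]
    have h3 : (d ^ i)⁻¹ * (d ^ i)⁻¹ = d := by
      rw [← mul_inv_rev, ← pow_add, inv_eq_of_mul_eq_one_left]
      rw [← pow_succ', show i + i + 1 = orderOf d by omega, pow_orderOf_eq_one]
    calc d ^ i * z * (d ^ i)⁻¹ = z * ((d ^ i)⁻¹ * (d ^ i)⁻¹) := by rw [h2, mul_assoc]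
      _ = u := by rw [h3, hd, ← mul_assoc, hz2, one_mul]
  by_cases hc : Commute z u
  · have hz1 : z ≠ 1 := fun e => by rw [e, orderOf_one] at oz; norm_num at oz
    have hu1 : u ≠ 1 := fun e => by rw [e, orderOf_one] at ou; norm_num at ou
    obtain ⟨p, hp, hzp, -⟩ := exists_unique_fix hz1 (by rw [oz]; norm_num)
    obtain ⟨p', hp', hup, -⟩ := exists_unique_fix hu1 (by rw [ou]; norm_num)
    have hpp := fix_eq_of_commute hz1 (by rw [oz]; norm_num) hp hp' hu1 (by rw [ou]; norm_num) hzp hup hc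
    obtain ⟨y, hy, hyne⟩ : ∃ y ∈ M, y • ∞ ≠ p := by
      obtain ⟨x, hx, hxne⟩ := two_le_orb hM
      by_cases h : p = ∞
      · exact ⟨x, hx, h ▸ hxne⟩
      · exact ⟨1, one_mem M, by rw [one_smul]; exact Ne.symm h⟩
    set w := y * Ts 0 1 * y⁻¹ with hw
    have hwM : w ∈ M := mul_mem (mul_mem hy hz) (inv_mem hy)
    have ow : orderOf w = 2 := by
      rw [hw, ← MulAut.conj_apply, MulEquiv.orderOf_eq]; exact orderOf_Ts_zero one_ne_zero
    have hw1 : w ≠ 1 := fun e => by rw [e, orderOf_one] at ow; norm_num at ow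
    have hwy : w • (y • ∞) = y • ∞ := by rw [hw, conj_smul_eq, Ts_smul_inf]
    obtain ⟨x₁, hx₁, e₁⟩ := key hzM oz hwM ow fun h => hyne
      (fix_eq_of_commute hz1 (by rw [oz]; norm_num) hp (smul_mem_ovoid y inf_mem) hw1
        (by rw [ow]; norm_num) hzp hwy h).symm
    obtain ⟨x₂, hx₂, e₂⟩ := key hwM ow huM ou fun h => hyne
      ((fix_eq_of_commute hw1 (by rw [ow]; norm_num) (smul_mem_ovoid y inf_mem) hp' hu1
        (by rw [ou]; norm_num) hwy hup h).trans hpp.symm)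
    refine ⟨x₂ * x₁, mul_mem hx₂ hx₁, ?_⟩
    rw [← e₂, ← e₁]; group
  · exact key hzM oz huM ou hc

theorem fix_inf_of_conj {b c : F} (hb : b ≠ 0) {x : G} (h : x * Ts 0 c * x⁻¹ = Ts 0 b) :
    x • ∞ = ∞ := by
  refine Ts_fix (a := 0) (b := b) (fun e => hb (Ts_eq_one e).2) (smul_mem_ovoid x inf_mem) ?_
  rw [← h, conj_smul_eq, Ts_smul_inf]

theorem lam_injective : Function.Injective fun k : F => k * sg m k := by
  have := finiteF (F := F) (m := m)
  exact Finite.injective_iff_surjective.mpr fun c => exists_mul_sg (m := m) c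

theorem lam_pow_eq {x : F} {s : ℕ} (h : (x * sg m x) ^ s = x * sg m x) : x ^ s = x :=
  lam_injective (m := m) (show x ^ s * sg m (x ^ s) = x * sg m x by rw [sg_pow, ← mul_pow, h])

variable (F m) in
/-- The data of the subfield attached to `M`. -/
structure Field2 (M : Subgroup ↥(Cfsg.Sz F m)) (n₀ : ℕ) : Prop where
  pos : 1 ≤ n₀
  dvd : n₀ ∣ 2 * m + 1
  memZ : ∀ b : F, (Ts 0 b : ↥(Cfsg.Sz F m)) ∈ M ↔ b ^ (2 ^ n₀) = b
  memH : ∀ l : Fˣ, (∃ a b : F, (Ts a b * Hs l : ↥(Cfsg.Sz F m)) ∈ M) ↔ (l : F) ^ (2 ^ n₀) = l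
  cardK : Nat.card {l : Fˣ // (l : F) ^ (2 ^ n₀) = (l : F)} = 2 ^ n₀ - 1

theorem exists_field {M : Subgroup G} (hM : NotLocal M) (hz : (Ts 0 1 : G) ∈ M) :
    ∃ n₀, Field2 F m M n₀ := by
  classical
  have := finiteF (F := F) (m := m)
  have := charTwo (F := F) (m := m)
  have hZmul : ∀ b c : F, (Ts 0 (b + c) : G) = Ts 0 b * Ts 0 c := fun b c => by
    rw [Ts_mul]; simp [sg_zero]
  let R : AddSubgroup F :=
    { carrier := {b | (Ts 0 b : G) ∈ M}
      add_mem' := fun {a b} ha hb => by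
        change (Ts 0 (a + b) : G) ∈ M
        rw [hZmul]; exact mul_mem ha hb
      zero_mem' := by change (Ts 0 0 : G) ∈ M; rw [Ts_zero]; exact one_mem M
      neg_mem' := fun {a} ha => by rwa [CharTwo.neg_eq] }
  have hscale : ∀ b : F, b ∈ R → b ≠ 0 → ∃ x ∈ M, x * Ts 0 1 * x⁻¹ = (Ts 0 b : G) := fun b hb hb0 =>
    inv_conj hM hz hz (orderOf_Ts_zero one_ne_zero) hb (orderOf_Ts_zero hb0)
  have hmul : ∀ b c : F, b ∈ R → b ≠ 0 → c ∈ R → b * c ∈ R := by
    intro b c hb hb0 hc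
    obtain ⟨x, hx, he⟩ := hscale b hb hb0
    obtain ⟨l, hl, hall⟩ := SuzukiGroupTI.scalar_of_conj one_ne_zero he
    rw [mul_one] at hl
    subst hl
    change (Ts 0 (b * c) : G) ∈ M
    rw [← hall]; exact mul_mem (mul_mem hx hc) (inv_mem hx)
  let K : Subgroup Fˣ :=
    { carrier := {u | (u : F) ∈ R}
      one_mem' := hz
      mul_mem' := fun {u v} hu hv => hmul _ _ hu u.ne_zero hv
      inv_mem' := fun {u} hu => by
        have hp : ∀ i : ℕ, ((u ^ i : Fˣ) : F) ∈ R := fun i => by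
          induction i with
          | zero => rw [pow_zero, Units.val_one]; exact hz
          | succ i ih =>
            rw [pow_succ', Units.val_mul]
            exact hmul _ _ hu u.ne_zero ih
        have h1 : u⁻¹ = u ^ (orderOf u - 1) := by
          rw [inv_eq_iff_mul_eq_one, ← pow_succ', Nat.sub_add_cancel (orderOf_pos u),
            pow_orderOf_eq_one]
        change ((u⁻¹ : Fˣ) : F) ∈ R
        rw [h1]; exact hp _ }
  have hRF : Nat.card R ∣ qq := natCard (F := F) (m := m) ▸ AddSubgroup.card_addSubgroup_dvd_card R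
  obtain ⟨n₀, -, hn₀⟩ := (Nat.dvd_prime_pow Nat.prime_two).mp hRF
  have h1R : (⟨1, hz⟩ : R) ≠ 0 := fun e => one_ne_zero (congrArg Subtype.val e)
  have hn0 : 1 ≤ n₀ := by
    by_contra h
    rw [show n₀ = 0 by omega, pow_zero] at hn₀
    have := (Nat.card_eq_one_iff_unique.mp hn₀).1
    exact h1R (Subsingleton.elim _ _)
  have hK : Nat.card K = 2 ^ n₀ - 1 := by
    rw [← hn₀, ← SuzukiGroupTI.natCard_ne (0 : R)]
    refine Nat.card_eq_of_bijective (fun u : K => (⟨⟨((u : Fˣ) : F), u.2⟩, fun e =>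
      (u : Fˣ).ne_zero (congrArg Subtype.val e)⟩ : {b : R // b ≠ 0})) ⟨?_, ?_⟩
    · intro u v h
      exact Subtype.ext (Units.ext (congrArg (fun z : {b : R // b ≠ 0} => (z.1 : F)) h))
    · rintro ⟨⟨b, hb⟩, hb0⟩
      exact ⟨⟨Units.mk0 b (fun e => hb0 (Subtype.ext e)), hb⟩, rfl⟩
  have hFu : Nat.card Fˣ = qq - 1 := by rw [Nat.card_units, natCard (F := F) (m := m)]
  have hKd : 2 ^ n₀ - 1 ∣ qq - 1 := hK ▸ hFu ▸ Subgroup.card_subgroup_dvd_card K
  have hdvd : n₀ ∣ 2 * m + 1 := by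
    have h1 := Nat.pow_sub_one_gcd_pow_sub_one 2 n₀ (2 * m + 1)
    rw [Nat.gcd_eq_left hKd] at h1
    have h2 : 2 ^ n₀ = 2 ^ n₀.gcd (2 * m + 1) := by
      have := Nat.one_le_two_pow (n := n₀)
      have := Nat.one_le_two_pow (n := n₀.gcd (2 * m + 1))
      omega
    exact (Nat.pow_right_injective le_rfl h2) ▸ Nat.gcd_dvd_right n₀ (2 * m + 1)
  obtain ⟨e, he⟩ : ∃ e, 2 ^ n₀ = e + 1 := ⟨2 ^ n₀ - 1, (Nat.sub_add_cancel Nat.one_le_two_pow).symm⟩
  have hKeq : K = (powMonoidHom e : Fˣ →* Fˣ).ker := by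
    refine Subgroup.eq_of_le_of_card_ge (fun u hu => ?_) ?_
    · rw [MonoidHom.mem_ker, powMonoidHom_apply]
      have := K.orderOf_dvd_natCard hu
      rw [hK, he, Nat.add_sub_cancel] at this
      exact orderOf_dvd_iff_pow_eq_one.mp this
    · rw [he, Nat.add_sub_cancel] at hK hKd
      rw [IsCyclic.card_powMonoidHom_ker, hK, hFu, Nat.gcd_eq_right hKd]
  have hmemZ : ∀ b : F, (Ts 0 b : G) ∈ M ↔ b ^ (2 ^ n₀) = b := by
    intro b
    rcases eq_or_ne b 0 with rfl | hb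
    · rw [Ts_zero, zero_pow (Nat.two_pow_pos n₀).ne']
      simp [one_mem]
    · have h1 : (Ts 0 b : G) ∈ M ↔ Units.mk0 b hb ∈ K := Iff.rfl
      rw [h1, hKeq, MonoidHom.mem_ker, powMonoidHom_apply, Units.ext_iff, Units.val_pow_eq_pow_val,
        Units.val_mk0, Units.val_one, he, pow_succ]
      exact ⟨fun h => by rw [h, one_mul], fun h => (mul_left_eq_self₀.mp h).resolve_right hb⟩
  refine ⟨n₀, hn0, hdvd, hmemZ, fun l => ⟨?_, fun hl => ?_⟩, ?_⟩
  · rintro ⟨a, b, hab⟩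
    have h1 := mul_mem (mul_mem hab hz) (inv_mem hab)
    rw [SuzukiGroupTI.conj_Ts_zero, mul_one, hmemZ] at h1
    exact lam_pow_eq h1
  · set b := (l : F) * sg m (l : F) with hb
    have hb0 : b ≠ 0 := mul_ne_zero l.ne_zero (sg_ne_zero l.ne_zero)
    have hbR : (Ts 0 b : G) ∈ M := by
      rw [hmemZ, hb, mul_pow, ← sg_pow, hl]
    obtain ⟨x, hx, he⟩ := hscale b hbR hb0
    obtain ⟨a', b', l', rfl⟩ := fix_inf_iff.mp (fix_inf_of_conj hb0 he)
    rw [SuzukiGroupTI.conj_Ts_zero, mul_one] at he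
    have : l' = l := Units.ext (lam_injective (m := m) (Ts_injective he).2)
    exact ⟨a', b', this ▸ hx⟩
  · rw [← hK]
    refine Nat.card_congr (Equiv.subtypeEquivRight fun l => ?_)
    exact (hmemZ (l : F)).symm

theorem Hs_mul_Ts (l : Fˣ) (a b : F) :
    (Hs l : G) * Ts a b = Ts ((l : F) * a) ((l : F) * sg m (l : F) * b) * Hs l := by
  rw [← Hs_Ts, inv_mul_cancel_right]

/-- The orders. -/
theorem counts {M : Subgroup G} (hM : NotLocal M) (hz : (Ts 0 1 : G) ∈ M) {n₀ : ℕ}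
    (hf : Field2 F m M n₀) :
    ∃ n t : ℕ, n = Nat.card (orbInf M) ∧ t = Nat.card ↥(unipotent ⊓ M : Subgroup G) ∧ 2 ≤ n ∧
      2 ^ n₀ ≤ t ∧ Nat.card M = n * ((2 ^ n₀ - 1) * t) ∧ eCount M = n * (t - 1) ∧
      pCount M = n * (2 ^ n₀ - 1) * (n * (2 ^ n₀ - 1) - (2 ^ n₀ - 1)) ∧ t ∣ n - 1 := by
  classical
  have := finiteF (F := F) (m := m)
  let : Fintype G := Fintype.ofFinite _
  set Δ := orbInf M with hΔ
  set T : Subgroup G := unipotent ⊓ M with hT
  set k := 2 ^ n₀ - 1 with hk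
  refine ⟨_, _, rfl, rfl, ?_, ?_, ?_, ?_, ?_, ?_⟩
  · obtain ⟨x, hx, hne⟩ := two_le_orb hM
    rw [Nat.succ_le_iff, Finite.one_lt_card_iff_nontrivial]
    exact ⟨⟨⟨_, 1, one_mem M, rfl⟩, ⟨_, x, hx, rfl⟩,
      fun e => hne (by simpa using (congrArg Subtype.val e).symm)⟩⟩
  · have hle : Nat.card {b : F // (Ts 0 b : G) ∈ M} ≤ Nat.card T := Nat.card_le_card_of_injective
      (fun b => (⟨Ts 0 b.1, Ts_mem _ _, b.2⟩ : T))
      fun a b h => Subtype.ext (Ts_injective (congrArg (fun z : T => (z : G)) h)).2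
    refine le_trans (le_of_eq ?_) hle
    have h2 := hf.cardK
    rw [Nat.card_congr (Equiv.subtypeEquivRight hf.memZ)]
    have h3 : Nat.card {b : F // b ^ (2 ^ n₀) = b} =
        Nat.card {l : Fˣ // (l : F) ^ (2 ^ n₀) = (l : F)} + 1 := by
      have hpos := Nat.two_pow_pos n₀
      let : Fintype F := Fintype.ofFinite F
      rw [Nat.card_eq_fintype_card, Nat.card_eq_fintype_card, Fintype.card_subtype, Fintype.card_subtype]
      have e1 : (Finset.univ.filter fun b : F => b ^ (2 ^ n₀) = b) =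
          insert 0 ((Finset.univ.filter fun l : Fˣ => (l : F) ^ (2 ^ n₀) = l).image fun l : Fˣ => (l : F)) := by
        ext b
        simp only [Finset.mem_filter, Finset.mem_univ, true_and, Finset.mem_insert, Finset.mem_image]
        constructor
        · intro h
          rcases eq_or_ne b 0 with h0 | h0
          · exact Or.inl h0
          · exact Or.inr ⟨Units.mk0 b h0, h, rfl⟩
        · rintro (rfl | ⟨l, hl, rfl⟩)
          · exact zero_pow hpos.ne'
          · exact hl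
      rw [e1, Finset.card_insert_of_notMem (by simp), Finset.card_image_of_injective _ Units.val_injective]
    have := Nat.one_le_two_pow (n := n₀)
    rw [h3, h2]; omega
  · rw [natCard_eq_orb]
    congr 1
    rw [hk, ← hf.cardK, ← Nat.card_prod]
    choose xa xb hxM using fun l : {l : Fˣ // (l : F) ^ (2 ^ n₀) = (l : F)} => (hf.memH l.1).mpr l.2
    refine (Nat.card_eq_of_bijective (fun p : _ × T => (⟨(p.2 : G) * (Ts (xa p.1) (xb p.1) * Hs p.1.1),
      mul_mem (unipotent_le_borel p.2.2.1) (mem_stabilizer_iff.mpr (by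
        rw [mul_smul, Hs_smul_inf, Ts_smul_inf])), mul_mem p.2.2.2 (hxM p.1)⟩ :
      ↥(Bor ⊓ M : Subgroup G))) ⟨?_, ?_⟩).symm
    · rintro ⟨l, u, ⟨a, b, hu⟩, huM⟩ ⟨l', u', ⟨a', b', hu'⟩, hu'M⟩ h
      have h1 : u * (Ts (xa l) (xb l) * Hs l.1) = u' * (Ts (xa l') (xb l') * Hs l'.1) :=
        congrArg (fun z : ↥(Bor ⊓ M : Subgroup G) => (z : G)) h
      subst hu hu'
      rw [← mul_assoc, ← mul_assoc, Ts_mul, Ts_mul] at h1
      obtain ⟨e1, e2, e3⟩ := Ts_Hs_injective h1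
      obtain rfl : l = l' := Subtype.ext e3
      refine Prod.ext rfl (Subtype.ext ?_)
      have h2 : (Ts a b : G) * Ts (xa l) (xb l) = Ts a' b' * Ts (xa l) (xb l) := by
        rw [Ts_mul, Ts_mul, e1, e2]
      exact mul_right_cancel h2
    · rintro ⟨g, hgB, hgM⟩
      obtain ⟨a, b, l, rfl⟩ := fix_inf_iff.mp (mem_stabilizer_iff.mp hgB)
      set l' : {l : Fˣ // (l : F) ^ (2 ^ n₀) = (l : F)} := ⟨l, (hf.memH l).mp ⟨a, b, hgM⟩⟩
      refine ⟨⟨l', ⟨Ts a b * (Ts (xa l') (xb l'))⁻¹, Subgroup.mem_inf.mpr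
        ⟨mul_mem (Ts_mem _ _) (inv_mem (Ts_mem _ _)), ?_⟩⟩⟩,
        Subtype.ext ?_⟩
      · have := mul_mem (show Ts a b * Hs l ∈ M from hgM) (inv_mem (hxM l'))
        rwa [mul_inv_rev, ← mul_assoc, mul_inv_cancel_right] at this
      · change Ts a b * (Ts (xa l') (xb l'))⁻¹ * (Ts (xa l') (xb l') * Hs l) = Ts a b * Hs l
        group
  · -- the 2-elements
    have hc : ∀ p : Δ, ∃ x ∈ M, x • ∞ = (p : ℙ F (Fin 4 → F)) := fun p => p.2
    choose c hcM hc using hc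
    rw [← SuzukiGroupTI.natCard_ne (1 : T), ← Nat.card_prod]
    refine (Nat.card_eq_of_bijective (fun p : Δ × {u : T // u ≠ 1} =>
      (⟨c p.1 * ((p.2.1 : T) : G) * (c p.1)⁻¹,
        mul_mem (mul_mem (hcM _) p.2.1.2.2) (inv_mem (hcM _)),
        fun e => p.2.2 (Subtype.ext (conj_eq_one_iff.mp e)), by
          obtain ⟨a, b, hab⟩ := p.2.1.2.1
          rw [← MulAut.conj_apply, MulEquiv.orderOf_eq, hab]; exact orderOf_Ts_dvd a b⟩ :
        {u : G // u ∈ M ∧ u ≠ 1 ∧ orderOf u ∣ 4})) ⟨?_, ?_⟩).symm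
    · rintro ⟨p, ⟨u, huT, huM⟩, hu1⟩ ⟨p', ⟨u', hu'T, hu'M⟩, hu'1⟩ h
      have he : c p * u * (c p)⁻¹ = c p' * u' * (c p')⁻¹ := congrArg Subtype.val h
      have h1 : c p * u * (c p)⁻¹ ≠ 1 := fun e => hu1 (Subtype.ext (conj_eq_one_iff.mp e))
      have h4 : orderOf (c p * u * (c p)⁻¹) ∣ 4 := by
        obtain ⟨a, b, hab⟩ := huT
        rw [← MulAut.conj_apply, MulEquiv.orderOf_eq, hab]; exact orderOf_Ts_dvd a b
      obtain ⟨p₀, -, -, hu⟩ := exists_unique_fix h1 h4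
      have e1 : (p : ℙ F (Fin 4 → F)) = p₀ := hu p (orbInf_subset M p.2) (by
        rw [← hc p, conj_smul_eq, mem_stabilizer_iff.mp (unipotent_le_borel huT)])
      have e2 : (p' : ℙ F (Fin 4 → F)) = p₀ := hu p' (orbInf_subset M p'.2) (by
        rw [he, ← hc p', conj_smul_eq, mem_stabilizer_iff.mp (unipotent_le_borel hu'T)])
      obtain rfl : p = p' := Subtype.ext (e1.trans e2.symm)
      rw [mul_left_inj, mul_right_inj] at he
      subst he
      rfl
    · rintro ⟨u, huM, hu1, hu4⟩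
      obtain ⟨x, hx, hfix⟩ := exists_orb_point hz huM hu4
      set p : Δ := ⟨x • ∞, x, hx, rfl⟩
      have hd : (c p)⁻¹ * u * c p ∈ (unipotent : Subgroup G) := by
        refine mem_unipotent_of_fix ?_ ?_
        · rw [show (c p)⁻¹ * u * c p = MulAut.conj (c p)⁻¹ u by simp, MulEquiv.orderOf_eq]; exact hu4
        · rw [mul_smul, mul_smul, hc p]
          change (c p)⁻¹ • u • x • ∞ = ∞
          rw [hfix, inv_smul_eq_iff]
          exact (hc p).symm
      refine ⟨⟨p, ⟨⟨_, Subgroup.mem_inf.mpr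
        ⟨hd, mul_mem (mul_mem (inv_mem (hcM p)) huM) (hcM p)⟩⟩, fun e => hu1 ?_⟩⟩,
        Subtype.ext ?_⟩
      · have e' : (c p)⁻¹ * u * c p = 1 := congrArg Subtype.val e
        calc u = c p * ((c p)⁻¹ * u * c p) * (c p)⁻¹ := by group
          _ = 1 := by rw [e']; group
      · change c p * ((c p)⁻¹ * u * c p) * (c p)⁻¹ = u
        group
  · -- pairs of involutions
    let I := (Finset.univ : Finset G).filter fun u => u ∈ M ∧ orderOf u = 2
    have hc : ∀ p : Δ, ∃ x ∈ M, x • ∞ = (p : ℙ F (Fin 4 → F)) := fun p => p.2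
    choose c hcM hc using hc
    have hkK : k = Nat.card {b : F // (Ts 0 b : G) ∈ M ∧ b ≠ 0} := by
      rw [hk, ← hf.cardK]
      refine Nat.card_eq_of_bijective (fun l => ⟨(l.1 : F), (hf.memZ _).mpr l.2, l.1.ne_zero⟩) ⟨?_, ?_⟩
      · intro a b h
        exact Subtype.ext (Units.ext (congrArg (fun z : {b : F // (Ts 0 b : G) ∈ M ∧ b ≠ 0} => z.1) h))
      · rintro ⟨b, hb, hb0⟩; exact ⟨⟨Units.mk0 b hb0, (hf.memZ b).mp hb⟩, rfl⟩
    have hinT : ∀ u ∈ M, orderOf u = 2 → u • ∞ = ∞ → ∃ b, u = Ts 0 b ∧ b ≠ 0 := by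
      intro u hu ou hfix
      obtain ⟨a, b, rfl⟩ := mem_unipotent_of_fix (by rw [ou]; norm_num) hfix
      obtain rfl : a = 0 := by by_contra ha; rw [orderOf_Ts_of_ne ha] at ou; norm_num at ou
      exact ⟨b, rfl, fun hb => by rw [hb, Ts_zero, orderOf_one] at ou; norm_num at ou⟩
    have hI : I.card = Nat.card Δ * k := by
      rw [hkK, ← Nat.card_prod]
      symm
      rw [show I.card = Nat.card {u : G // u ∈ M ∧ orderOf u = 2} by
        rw [Nat.card_eq_fintype_card, Fintype.card_subtype]]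
      refine Nat.card_eq_of_bijective (fun p : Δ × {b : F // (Ts 0 b : G) ∈ M ∧ b ≠ 0} =>
        (⟨c p.1 * Ts 0 p.2.1 * (c p.1)⁻¹, mul_mem (mul_mem (hcM _) p.2.2.1) (inv_mem (hcM _)), by
          rw [← MulAut.conj_apply, MulEquiv.orderOf_eq]; exact orderOf_Ts_zero p.2.2.2⟩ :
          {u : G // u ∈ M ∧ orderOf u = 2})) ⟨?_, ?_⟩
      · rintro ⟨p, b, hb, hb0⟩ ⟨p', b', hb', hb0'⟩ h
        have he : c p * Ts 0 b * (c p)⁻¹ = c p' * Ts 0 b' * (c p')⁻¹ := congrArg Subtype.val h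
        have h1 : c p * Ts 0 b * (c p)⁻¹ ≠ 1 := fun e => hb0 (Ts_eq_one (conj_eq_one_iff.mp e)).2
        obtain ⟨p₀, -, -, hu⟩ := exists_unique_fix h1 (by
          rw [← MulAut.conj_apply, MulEquiv.orderOf_eq]; exact orderOf_Ts_dvd 0 b)
        have e1 : (p : ℙ F (Fin 4 → F)) = p₀ := hu p (orbInf_subset M p.2) (by
          rw [← hc p, conj_smul_eq, Ts_smul_inf])
        have e2 : (p' : ℙ F (Fin 4 → F)) = p₀ := hu p' (orbInf_subset M p'.2) (by
          rw [he, ← hc p', conj_smul_eq, Ts_smul_inf])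
        obtain rfl : p = p' := Subtype.ext (e1.trans e2.symm)
        rw [mul_left_inj, mul_right_inj] at he
        exact Prod.ext rfl (Subtype.ext (Ts_injective he).2)
      · rintro ⟨u, huM, ou⟩
        obtain ⟨x, hx, hfix⟩ := exists_orb_point hz huM (by rw [ou]; norm_num)
        set p : Δ := ⟨x • ∞, x, hx, rfl⟩
        obtain ⟨b, hb, hb0⟩ := hinT ((c p)⁻¹ * u * c p)
          (mul_mem (mul_mem (inv_mem (hcM p)) huM) (hcM p))
          (by rw [show (c p)⁻¹ * u * c p = MulAut.conj (c p)⁻¹ u by simp, MulEquiv.orderOf_eq, ou])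
          (by
            rw [mul_smul, mul_smul, hc p]
            change (c p)⁻¹ • u • x • ∞ = ∞
            rw [hfix, inv_smul_eq_iff]
            exact (hc p).symm)
        refine ⟨⟨p, b, hb ▸ mul_mem (mul_mem (inv_mem (hcM p)) huM) (hcM p), hb0⟩, Subtype.ext ?_⟩
        change c p * Ts 0 b * (c p)⁻¹ = u
        rw [← hb]; group
    have hC : ∀ z ∈ I, (I.filter fun u => Commute z u).card = k := by
      intro z hz'
      simp only [I, Finset.mem_filter, Finset.mem_univ, true_and] at hz'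
      obtain ⟨hzM, oz⟩ := hz'
      obtain ⟨x, hx, hfix⟩ := exists_orb_point hz hzM (by rw [oz]; norm_num)
      obtain ⟨b₀, hb₀, hb₀0⟩ := hinT (x⁻¹ * z * x) (mul_mem (mul_mem (inv_mem hx) hzM) hx)
        (by rw [show x⁻¹ * z * x = MulAut.conj x⁻¹ z by simp, MulEquiv.orderOf_eq, oz])
        (by rw [mul_smul, mul_smul, hfix, inv_smul_smul])
      rw [hkK, show (I.filter fun u => Commute z u).card =
          Nat.card {u : G // (u ∈ M ∧ orderOf u = 2) ∧ Commute z u} by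
        rw [Nat.card_eq_fintype_card, Fintype.card_subtype, Finset.filter_filter]]
      symm
      have hz' : z = x * Ts 0 b₀ * x⁻¹ := by rw [← hb₀]; group
      refine Nat.card_eq_of_bijective (fun b : {b : F // (Ts 0 b : G) ∈ M ∧ b ≠ 0} =>
        ⟨x * Ts 0 b.1 * x⁻¹, ⟨mul_mem (mul_mem hx b.2.1) (inv_mem hx), by
          rw [← MulAut.conj_apply, MulEquiv.orderOf_eq]; exact orderOf_Ts_zero b.2.2⟩, by
          rw [hz']
          exact Commute.conj (show Commute (Ts 0 b₀ : G) (Ts 0 b.1) from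
            ((commute_Ts_iff (m := m) 0 b₀).mpr rfl _ (Ts_mem _ _)).symm) x⟩) ⟨?_, ?_⟩
      · intro a b h
        have he : x * Ts 0 a.1 * x⁻¹ = x * Ts 0 b.1 * x⁻¹ := congrArg Subtype.val h
        rw [mul_left_inj, mul_right_inj] at he
        exact Subtype.ext (Ts_injective he).2
      · rintro ⟨u, ⟨huM, ou⟩, hcu⟩
        have hz1 : z ≠ 1 := fun e => by rw [e, orderOf_one] at oz; norm_num at oz
        have hu1 : u ≠ 1 := fun e => by rw [e, orderOf_one] at ou; norm_num at ou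
        obtain ⟨x', hx', hfix'⟩ := exists_orb_point hz huM (by rw [ou]; norm_num)
        have hpp := fix_eq_of_commute hz1 (by rw [oz]; norm_num) (smul_mem_ovoid x inf_mem)
          (smul_mem_ovoid x' inf_mem) hu1 (by rw [ou]; norm_num) hfix hfix' hcu
        obtain ⟨b, hb, hb0⟩ := hinT (x⁻¹ * u * x) (mul_mem (mul_mem (inv_mem hx) huM) hx)
          (by rw [show x⁻¹ * u * x = MulAut.conj x⁻¹ u by simp, MulEquiv.orderOf_eq, ou])
          (by rw [mul_smul, mul_smul, hpp, hfix', inv_smul_eq_iff, hpp])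
        refine ⟨⟨b, hb ▸ mul_mem (mul_mem (inv_mem hx) huM) hx, hb0⟩, Subtype.ext ?_⟩
        change x * Ts 0 b * x⁻¹ = u
        rw [← hb]; group
    rw [pCount, Nat.card_eq_fintype_card, Fintype.card_subtype, ← hI,
      show (Finset.univ.filter fun p : G × G => (p.1 ∈ M ∧ orderOf p.1 = 2) ∧
          (p.2 ∈ M ∧ orderOf p.2 = 2) ∧ ¬ Commute p.1 p.2) =
        (I ×ˢ I).filter (fun p => ¬ Commute p.1 p.2) by
      ext p; simp [I, Finset.mem_product, and_assoc]]
    rw [Finset.card_filter, Finset.sum_product]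
    refine Finset.sum_const_nat fun z hz' => ?_
    rw [← Finset.card_filter]
    have := Finset.card_filter_add_card_filter_not (s := I) (p := fun u => Commute z u)
    rw [hC z hz'] at this
    simp only at this ⊢
    omega
  · -- `T` acts semiregularly on the other points of the orbit
    let Δ' : Finset (ℙ F (Fin 4 → F)) := ((Set.toFinite Δ).toFinset).erase ∞
    let Tf : Finset G := Finset.univ.filter fun u => u ∈ T
    let orb : ℙ F (Fin 4 → F) → Finset (ℙ F (Fin 4 → F)) := fun p => Tf.image fun u => u • p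
    have hcardΔ : Δ'.card = Nat.card Δ - 1 := by
      rw [Finset.card_erase_of_mem ((Set.Finite.mem_toFinset _).mpr
        (show ∞ ∈ Δ from ⟨1, one_mem M, one_smul _ _⟩)),
        ← Set.ncard_eq_toFinset_card _ (Set.toFinite Δ), Nat.card_coe_set_eq]
    have hTf : Tf.card = Nat.card T := by rw [Nat.card_eq_fintype_card, Fintype.card_subtype]
    rw [← hcardΔ, ← hTf, Finset.card_eq_sum_card_image orb Δ']
    refine Finset.dvd_sum fun C hC => ?_
    obtain ⟨p, hp, rfl⟩ := Finset.mem_image.mp hC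
    have hfib : Δ'.filter (fun p' => orb p' = orb p) = orb p := by
      ext p'
      simp only [Finset.mem_filter]
      constructor
      · rintro ⟨-, h⟩
        rw [← h]
        exact Finset.mem_image.mpr ⟨1, by simp [Tf], one_smul _ _⟩
      · intro h
        obtain ⟨u, hu, rfl⟩ := Finset.mem_image.mp h
        simp only [Tf, Finset.mem_filter, Finset.mem_univ, true_and] at hu
        simp only [Δ', Finset.mem_erase, Set.Finite.mem_toFinset] at hp ⊢
        obtain ⟨hpne, x, hx, hxp⟩ := hp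
        refine ⟨⟨fun e => hpne ?_, u * x, mul_mem hu.2 hx, by rw [← hxp]; exact mul_smul u x ∞⟩, ?_⟩
        · rw [← inv_smul_eq_iff.mpr e.symm, inv_smul_eq_iff]
          exact (mem_stabilizer_iff.mp (unipotent_le_borel hu.1)).symm
        · ext r
          simp only [orb, Tf, Finset.mem_image, Finset.mem_filter, Finset.mem_univ, true_and]
          constructor
          · rintro ⟨v, hv, rfl⟩; exact ⟨v * u, mul_mem hv hu, mul_smul v u p⟩
          · rintro ⟨v, hv, rfl⟩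
            exact ⟨v * u⁻¹, mul_mem hv (inv_mem hu), by rw [mul_smul, inv_smul_smul]⟩
    rw [hfib, Finset.card_image_of_injOn]
    intro u hu v hv h
    simp only [Tf, Finset.coe_filter, Finset.mem_univ, true_and, Set.mem_setOf_eq] at hu hv
    simp only [Δ', Finset.mem_erase, Set.Finite.mem_toFinset] at hp
    obtain ⟨hpne, x, -, hxp⟩ := hp
    by_contra hne
    obtain ⟨a, b, hab⟩ := mul_mem (inv_mem (show v ∈ (unipotent : Subgroup G) from hv.1))
      (show u ∈ (unipotent : Subgroup G) from hu.1)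
    refine hpne (Ts_fix (a := a) (b := b) ?_ (?_ : p ∈ suzukiOvoid F m) ?_)
    rotate_left
    · exact hxp ▸ smul_mem_ovoid x inf_mem
    rotate_left
    · rw [← hab]; exact fun e => hne (inv_mul_eq_one.mp e).symm
    · rw [← hab, mul_smul, inv_smul_eq_iff]; exact h

theorem no_two {M : Subgroup G} (hM : NotLocal M) (hz : (Ts 0 1 : G) ∈ M)
    (hf : Field2 F m M 1) : False := by
  classical
  have := finiteF (F := F) (m := m)
  have := charTwo (F := F) (m := m)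
  obtain ⟨n, t, -, htT, hn, ht, hg, he, -, -⟩ := counts hM hz hf
  obtain ⟨𝒦, c, hK, -, hE, -⟩ := exists_classes M
  norm_num at hg ht
  -- `T` has at most 4 elements
  have hT01 : ∀ a b : F, (Ts a b : G) ∈ M → a = 0 ∨ a = 1 := by
    intro a b h
    have h2 := pow_mem h 2
    rw [Ts_sq, hf.memZ, mul_comm, pow_one] at h2
    have h3 := lam_pow_eq h2
    rcases eq_or_ne a 0 with h0 | h0
    · exact Or.inl h0
    · exact Or.inr ((mul_left_eq_self₀.mp ((pow_two a).symm.trans h3)).resolve_right h0)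
  have ht4 : t ≤ 4 := by
    have hex : ∀ u : ↥(unipotent ⊓ M : Subgroup G), ∃ a b : F, (u : G) = Ts a b := fun u => u.2.1
    choose fa fb hab using hex
    have h01 : ∀ u, fa u = 0 ∨ fa u = 1 := fun u => hT01 _ (fb u) (hab u ▸ u.2.2)
    have hbb : ∀ u v, fa u = fa v → fb u + fb v = 0 ∨ fb u + fb v = 1 := by
      intro u v h
      have h1 := mul_mem (inv_mem (show (u : G) ∈ M from u.2.2)) (show (v : G) ∈ M from v.2.2)
      rw [hab u, hab v, h, Ts_inv, Ts_mul, CharTwo.add_self_eq_zero,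
        show fb u + sg m (fa v) * fa v + fb v + sg m (fa v) * fa v = fb u + fb v by grind,
        hf.memZ, pow_one] at h1
      rcases eq_or_ne (fb u + fb v) 0 with h0 | h0
      · exact Or.inl h0
      · exact Or.inr ((mul_left_eq_self₀.mp ((pow_two _).symm.trans h1)).resolve_right h0)
    rw [htT]
    let : Fintype ↥(unipotent ⊓ M : Subgroup G) := Fintype.ofFinite _
    rw [Nat.card_eq_fintype_card, ← Finset.card_univ]
    refine le_trans (Finset.card_le_mul_card_image_of_maps_to (f := fa) (t := {0, 1})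
      (fun u _ => by simpa using h01 u) 2 fun a _ => ?_) ?_
    · by_contra hlt
      obtain ⟨u, v, w, hu, hv, hw, huv, huw, hvw⟩ := Finset.two_lt_card_iff.mp (not_le.mp hlt)
      simp only [Finset.mem_filter, Finset.mem_univ, true_and] at hu hv hw
      have hinj : ∀ x y, fa x = fa y → fb x = fb y → x = y := fun x y e1 e2 =>
        Subtype.ext (by rw [hab x, hab y, e1, e2])
      have n1 : fb u + fb v = 1 := (hbb u v (hu.trans hv.symm)).resolve_left fun e =>
        huv (hinj u v (hu.trans hv.symm) (CharTwo.add_eq_zero.mp e))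
      have n2 : fb u + fb w = 1 := (hbb u w (hu.trans hw.symm)).resolve_left fun e =>
        huw (hinj u w (hu.trans hw.symm) (CharTwo.add_eq_zero.mp e))
      exact hvw (hinj v w (hv.trans hw.symm) (add_left_cancel (n1.trans n2.symm)))
    · have : ({0, 1} : Finset F).card ≤ 2 := Finset.card_le_two
      omega
  have ht24 : t = 2 ∨ t = 4 := by
    have hdvd : t ∣ qq ^ 2 := htT ▸ natCard_unipotent (F := F) (m := m) ▸
      Subgroup.card_dvd_of_le inf_le_left
    rw [← pow_mul] at hdvd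
    obtain ⟨i, -, hi⟩ := (Nat.dvd_prime_pow Nat.prime_two).mp hdvd
    have : i < 3 := by
      by_contra h
      have : 2 ^ 3 ≤ 2 ^ i := Nat.pow_le_pow_right two_pos (by omega)
      omega
    interval_cases i <;> omega
  -- the class equation
  have hgq : (Nat.card M : ℚ) = (n : ℚ) * (t : ℚ) := by rw [hg]; push_cast; ring
  rw [he, Nat.cast_mul, Nat.cast_sub (by omega), Nat.cast_one, hgq] at hE
  set S := ∑ K ∈ 𝒦, wt (c K) (Nat.card K) with hS
  have hn' : (2 : ℚ) ≤ n := by exact_mod_cast hn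
  have hS1 : (n : ℚ) * t * S = (n : ℚ) - 1 := by linarith
  have hord4 : ∀ K ∈ 𝒦, c K = 4 → t = 4 := by
    intro K hKm h4
    obtain ⟨w, hw, ow⟩ := ((hK K hKm).2.five h4).2
    obtain ⟨x, hx, hfix⟩ := exists_orb_point hz hw (by rw [ow])
    obtain ⟨a, b, hab⟩ := mem_unipotent_of_fix (g := x⁻¹ * w * x)
      (by rw [show x⁻¹ * w * x = MulAut.conj x⁻¹ w by simp, MulEquiv.orderOf_eq, ow])
      (by rw [mul_smul, mul_smul, hfix, inv_smul_smul])
    by_contra ht'
    have ht2 : t = 2 := by omega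
    -- then `T` has no element of order 4
    have h2 : orderOf (Ts a b : G) ∣ 2 := by
      have hmem : (Ts a b : G) ∈ (unipotent ⊓ M : Subgroup G) := Subgroup.mem_inf.mpr
        ⟨Ts_mem a b, hab ▸ mul_mem (mul_mem (inv_mem hx) hw) hx⟩
      exact ht2 ▸ htT ▸ Subgroup.orderOf_dvd_natCard _ hmem
    rw [← hab, show x⁻¹ * w * x = MulAut.conj x⁻¹ w by simp, MulEquiv.orderOf_eq, ow] at h2
    norm_num at h2
  have hlow : ∀ K ∈ 𝒦, (c K = t ∧ (1 : ℚ) / 5 ≤ wt (c K) (Nat.card K)) ∨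
      (1 : ℚ) / t ≤ wt (c K) (Nat.card K) := by
    intro K hKm
    rcases wt_bounds (hK K hKm).2 with ⟨h, hw⟩ | ⟨h, hw, -⟩ | ⟨h, hw, -⟩
    · right
      rcases ht24 with rfl | rfl <;> norm_num <;> linarith
    · rcases ht24 with rfl | rfl
      · left; exact ⟨h, by linarith⟩
      · right; norm_num; linarith
    · exact Or.inl ⟨h.trans (hord4 K hKm h).symm, hw⟩
  have hSlt : S < 1 / t := by
    rcases ht24 with rfl | rfl <;> norm_num <;> norm_num at hS1 <;> nlinarith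
  have hct : ∀ K ∈ 𝒦, c K = t := by
    intro K hKm
    rcases hlow K hKm with ⟨h, -⟩ | h
    · exact h
    · exfalso
      have := Finset.single_le_sum (f := fun K => wt (c K) (Nat.card K))
        (fun L hL => le_trans (by norm_num) (wt_pos (hK L hL).2)) hKm
      linarith
  have hne : 𝒦.Nonempty := by
    rw [Finset.nonempty_iff_ne_empty]
    intro h
    rw [hS, h, Finset.sum_empty, mul_zero] at hS1
    linarith
  have hcard : 𝒦.card ≤ 1 := by
    by_contra hlt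
    obtain ⟨K₁, h₁, K₂, h₂, hne⟩ := Finset.one_lt_card.mp (not_le.mp hlt)
    have hle := Finset.sum_le_sum_of_subset_of_nonneg (f := fun K => wt (c K) (Nat.card K))
      (show {K₁, K₂} ⊆ 𝒦 by
        intro x hx; rcases Finset.mem_insert.mp hx with rfl | hx
        · exact h₁
        · rw [Finset.mem_singleton.mp hx]; exact h₂)
      (fun L hL _ => le_trans (by norm_num) (wt_pos (hK L hL).2))
    rw [Finset.sum_pair hne] at hle
    rcases ht24 with rfl | rfl
    · rcases wt_bounds (hK K₁ h₁).2 with ⟨h, -⟩ | ⟨-, w1, -⟩ | ⟨h, -⟩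
      · rw [hct K₁ h₁] at h; omega
      · rcases wt_bounds (hK K₂ h₂).2 with ⟨h, -⟩ | ⟨-, w2, -⟩ | ⟨h, -⟩
        · rw [hct K₂ h₂] at h; omega
        · norm_num at hSlt; linarith
        · rw [hct K₂ h₂] at h; omega
      · rw [hct K₁ h₁] at h; omega
    · have := wt_pos (hK K₁ h₁).2
      have := wt_pos (hK K₂ h₂).2
      norm_num at hSlt; linarith
  obtain ⟨K, hKeq⟩ := Finset.card_eq_one.mp (le_antisymm hcard hne.card_pos)
  have hKm : K ∈ 𝒦 := hKeq ▸ Finset.mem_singleton_self K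
  obtain ⟨hKp, hd⟩ := hK K hKm
  refine not_single hM hKp hd ?_
  rw [hS, hKeq, Finset.sum_singleton, wt_eq hd.cases hd.three, hct K hKm] at hS1
  rw [hct K hKm]
  have hv : (Nat.card K : ℚ) ≠ 0 := Nat.cast_ne_zero.mpr (by have := hd.three; omega)
  have ht0 : (t : ℚ) ≠ 0 := Nat.cast_ne_zero.mpr (by omega)
  have : (Nat.card M : ℚ) = ((t * Nat.card K : ℕ) : ℚ) := by
    rw [hgq]; push_cast
    field_simp at hS1
    linear_combination (t : ℚ) * (-hS1)
  exact_mod_cast this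

theorem exists_torus_form {M : Subgroup G} (hz : (Ts 0 1 : G) ∈ M) {n₀ : ℕ} (h3 : 3 ≤ n₀)
    (hf : Field2 F m M n₀) :
    ∃ u : G, (Ts 0 1 : G) ∈ M.map (MulAut.conj u).toMonoidHom ∧
      Field2 F m (M.map (MulAut.conj u).toMonoidHom) n₀ ∧
      ∀ l : Fˣ, (l : F) ^ (2 ^ n₀) = l → (Hs l : G) ∈ M.map (MulAut.conj u).toMonoidHom := by
  classical
  have := finiteF (F := F) (m := m)
  let K : Subgroup Fˣ :=
    { carrier := {l | (l : F) ^ (2 ^ n₀) = l}
      one_mem' := by simp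
      mul_mem' := fun {a b} ha hb => by
        change ((a * b : Fˣ) : F) ^ _ = _
        rw [Units.val_mul, mul_pow, show (a : F) ^ _ = a from ha, show (b : F) ^ _ = b from hb]
      inv_mem' := fun {a} ha => by
        change ((a⁻¹ : Fˣ) : F) ^ _ = _
        rw [Units.val_inv_eq_inv_val, inv_pow, show (a : F) ^ _ = a from ha] }
  have hk : Nat.card K = 2 ^ n₀ - 1 := hf.cardK
  have h8 : 8 ≤ 2 ^ n₀ := Nat.le_trans (by norm_num) (Nat.pow_le_pow_right two_pos h3)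
  obtain ⟨g₀, hg₀⟩ := IsCyclic.exists_generator (α := K)
  have hog : orderOf g₀ = 2 ^ n₀ - 1 := by rw [orderOf_eq_card_of_forall_mem_zpowers hg₀, hk]
  obtain ⟨a, b, hx⟩ := (hf.memH (g₀ : Fˣ)).mpr g₀.2
  have hpow : ∀ i : ℕ, ∃ a' b', (Ts a b * Hs (g₀ : Fˣ) : G) ^ i = Ts a' b' * Hs ((g₀ : Fˣ) ^ i) := by
    intro i
    induction i with
    | zero => exact ⟨0, 0, by rw [pow_zero, pow_zero, Ts_zero, Hs_one, one_mul]⟩
    | succ i ih =>
      obtain ⟨a', b', hi⟩ := ih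
      refine ⟨a' + (((g₀ : Fˣ) ^ i : Fˣ) : F) * a,
        b' + (((g₀ : Fˣ) ^ i : Fˣ) : F) * sg m (((g₀ : Fˣ) ^ i : Fˣ) : F) * b +
          sg m a' * ((((g₀ : Fˣ) ^ i : Fˣ) : F) * a), ?_⟩
      rw [pow_succ, hi, mul_assoc, ← mul_assoc (Hs _ : G), Hs_mul_Ts, mul_assoc _ (Hs _ : G),
        Hs_mul, ← mul_assoc, Ts_mul, ← pow_succ]
  set y := (Ts a b * Hs (g₀ : Fˣ) : G) ^ 4 with hy
  obtain ⟨e, f, hef⟩ := hpow 4
  rw [← hy] at hef
  have hodd : ¬ 2 ∣ 2 ^ n₀ - 1 := by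
    have : 2 ∣ 2 ^ n₀ := dvd_pow_self 2 (by omega)
    omega
  have hcop : Nat.Coprime (2 ^ n₀ - 1) 4 := by
    rw [show 4 = 2 ^ 2 from rfl]
    exact Nat.Coprime.pow_right 2 ((Nat.prime_two.coprime_iff_not_dvd.mpr hodd).symm)
  have hog4 : orderOf (g₀ ^ 4) = 2 ^ n₀ - 1 := by
    rw [Nat.Coprime.orderOf_pow (by rw [hog]; exact hcop), hog]
  have hg4 : ((g₀ : Fˣ) ^ 4) ≠ 1 := fun h => by
    have : g₀ ^ 4 = 1 := Subtype.ext (by simpa using h)
    rw [this, orderOf_one] at hog4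
    omega
  have hy1 : y ≠ 1 := fun h => by
    rw [h] at hef
    exact hg4 ((Ts_Hs_injective ((show (Ts 0 0 : G) * Hs 1 = 1 by rw [Ts_zero, Hs_one, one_mul]).trans hef)).2.2).symm
  have hyq : orderOf y ∣ qq - 1 := by
    refine (orderOf_dvd_of_pow_eq_one (n := 2 ^ n₀ - 1) ?_).trans ?_
    · obtain ⟨a', b', hk'⟩ := hpow (2 ^ n₀ - 1)
      have h1 : (g₀ : Fˣ) ^ (2 ^ n₀ - 1) = 1 := by
        rw [← SubmonoidClass.coe_pow, ← hog, pow_orderOf_eq_one, OneMemClass.coe_one]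
      rw [h1, Hs_one, mul_one] at hk'
      rw [hy, ← pow_mul, mul_comm, pow_mul, hk', Ts_pow_four]
    · have h1 := Nat.pow_sub_one_dvd_pow_sub_one 2 hf.dvd
      exact h1
  obtain ⟨hC, hCc⟩ := centralizer_of_dvd hy1 (Or.inl rfl) hyq
  rcases hC.cases with ⟨-, d, hd⟩ | ⟨hT, -⟩
  swap
  · exfalso
    have hyC : y ∈ Subgroup.centralizer {y} := Subgroup.mem_centralizer_singleton_iff.mpr rfl
    exact (hT.fixFree hyC hy1) ∞ inf_mem (by rw [hef, mul_smul, Hs_smul_inf, Ts_smul_inf])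
  have hyC : y ∈ Subgroup.centralizer {y} := Subgroup.mem_centralizer_singleton_iff.mpr rfl
  rw [hd] at hyC
  obtain ⟨w, ⟨l, rfl⟩, hw⟩ := Subgroup.mem_map.mp hyC
  change d * Hs l * d⁻¹ = y at hw
  have hl : l ≠ 1 := fun h => hy1 (by rw [← hw, h, Hs_one, mul_one, mul_inv_cancel])
  have hfix : y • (∞ : ℙ F (Fin 4 → F)) = ∞ := by rw [hef, mul_smul, Hs_smul_inf, Ts_smul_inf]
  obtain ⟨p, hp, hpne, hyp⟩ : ∃ p ∈ suzukiOvoid F m, p ≠ ∞ ∧ y • p = p := by
    have h1 : ∀ q : ℙ F (Fin 4 → F), (Hs l : G) • q = q → y • (d • q) = d • q := fun q hq => by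
      rw [← hw, conj_smul_eq, hq]
    by_cases hdi : d • (∞ : ℙ F (Fin 4 → F)) = ∞
    · exact ⟨d • o, smul_mem_ovoid d zero_mem,
        fun h => inf_ne_zero (MulAction.injective d (hdi.trans h.symm)), h1 o (Hs_smul_zero l)⟩
    · exact ⟨d • ∞, smul_mem_ovoid d inf_mem, hdi, h1 ∞ (Hs_smul_inf l)⟩
  obtain ⟨a₁, b₁, hab⟩ := exists_Ts_zero hp hpne
  set u : G := (Ts a₁ b₁)⁻¹ with hu
  refine ⟨u, ?_⟩
  have hcent : ∀ c : F, u * Ts 0 c * u⁻¹ = Ts 0 c := fun c => by
    have hm : u ∈ (unipotent : Subgroup G) := inv_mem (Ts_mem _ _)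
    rw [(commute_Ts_iff (m := m) 0 c).mpr rfl u hm, mul_inv_cancel_right]
  have hUconj : ∀ a' b' (l' : Fˣ) (v : G), v ∈ (unipotent : Subgroup G) →
      ∃ a'' b'', v * (Ts a' b' * Hs l') * v⁻¹ = Ts a'' b'' * Hs l' := by
    intro a' b' l' v hv
    obtain ⟨a'', b'', h⟩ := mul_mem (mul_mem hv (Ts_mem a' b'))
      (conj_mem_unipotent (Hs_smul_inf l') (inv_mem hv))
    exact ⟨a'', b'', by rw [← h]; group⟩
  set M' := M.map (MulAut.conj u).toMonoidHom with hM'
  have hmemM' : ∀ x, x ∈ M → u * x * u⁻¹ ∈ M' := fun x hx => ⟨x, hx, rfl⟩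
  have hf' : Field2 F m M' n₀ := by
    refine ⟨hf.pos, hf.dvd, fun c => ?_, fun l' => ⟨?_, fun hl' => ?_⟩, hf.cardK⟩
    · rw [← hf.memZ c]
      refine ⟨?_, fun h => hcent c ▸ hmemM' _ h⟩
      rintro ⟨x, hx, he⟩
      change u * x * u⁻¹ = Ts 0 c at he
      rw [← hcent c, mul_left_inj, mul_right_inj] at he
      exact he ▸ hx
    · rintro ⟨a', b', x, hxM, he⟩
      change u * x * u⁻¹ = _ at he
      obtain ⟨a'', b'', h2⟩ := hUconj a' b' l' (Ts a₁ b₁) (Ts_mem _ _)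
      rw [← hf.memH l']
      refine ⟨a'', b'', ?_⟩
      rw [← h2, ← he, hu]
      rw [show ∀ w : G, w * (w⁻¹ * x * w⁻¹⁻¹) * w⁻¹ = x from fun w => by group]
      exact hxM
    · obtain ⟨a', b', h'⟩ := (hf.memH l').mpr hl'
      obtain ⟨a'', b'', h2⟩ := hUconj a' b' l' u (inv_mem (Ts_mem _ _))
      exact ⟨a'', b'', h2 ▸ hmemM' _ h'⟩
  have hyH : u * y * u⁻¹ = Hs ((g₀ : Fˣ) ^ 4) := by
    obtain ⟨l', hl'⟩ := fix_inf_zero (g := u * y * u⁻¹)
      (by rw [hu, inv_inv, mul_smul, mul_smul, Ts_smul_inf, hfix, inv_smul_eq_iff, Ts_smul_inf])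
      (by rw [hu, inv_inv, mul_smul, mul_smul, hab, hyp, inv_smul_eq_iff, hab])
    obtain ⟨a'', b'', h2⟩ := hUconj e f ((g₀ : Fˣ) ^ 4) u (inv_mem (Ts_mem _ _))
    rw [← hef, hl'] at h2
    have h3 := Ts_Hs_injective ((show (Ts 0 0 : G) * Hs l' = Hs l' by rw [Ts_zero, one_mul]).trans h2)
    rw [hl', h3.2.2]
  refine ⟨hcent 1 ▸ hmemM' _ hz, hf', fun l' hl' => ?_⟩
  have hyM : (Hs ((g₀ : Fˣ) ^ 4) : G) ∈ M' := hyH ▸ hmemM' _ (pow_mem hx 4)
  have htop : Subgroup.zpowers (g₀ ^ 4) = ⊤ :=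
    Subgroup.eq_top_of_card_eq _ (by rw [Nat.card_zpowers, hog4, hk])
  obtain ⟨i, hi⟩ := (htop ▸ Subgroup.mem_top (⟨l', hl'⟩ : K) : (⟨l', hl'⟩ : K) ∈ Subgroup.zpowers (g₀ ^ 4))
  have e1 : ((g₀ : Fˣ) ^ 4) ^ i = l' := by simpa using congrArg Subtype.val hi
  rw [← e1]
  have := zpow_mem hyM i
  rwa [show (Hs ((g₀ : Fˣ) ^ 4) : G) ^ i = Hs (((g₀ : Fˣ) ^ 4) ^ i) from
    (map_zpow torusHom _ i).symm] at this

set_option maxHeartbeats 1000000 in
theorem main_case {M : Subgroup G} (hM : NotLocal M) (hz : (Ts 0 1 : G) ∈ M) {j : ℕ} (hj : 1 ≤ j)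
    (hf : Field2 F m M (2 * j + 1))
    (hH : ∀ l : Fˣ, (l : F) ^ (2 ^ (2 * j + 1)) = l → (Hs l : G) ∈ M) :
    M = subSz F m j := by
  classical
  have := finiteF (F := F) (m := m)
  have := charTwo (F := F) (m := m)
  set s := 2 ^ (2 * j + 1) with hs
  obtain ⟨n, t, hnΔ, htT, hn, ht, hg, he, hp, htn⟩ := counts hM hz hf
  rw [← hs] at ht hg hp
  obtain ⟨𝒦, c, hK, hrep, hE, hP2⟩ := exists_classes M
  have h8 : 8 ≤ s := Nat.le_trans (by norm_num) (Nat.pow_le_pow_right two_pos (by omega : 3 ≤ 2 * j + 1))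
  obtain ⟨k, hk⟩ : ∃ k, s = k + 1 := ⟨s - 1, by omega⟩
  rw [hk, Nat.add_sub_cancel] at hg hp
  -- the torus of `M`
  set W₀ : Subgroup G := (torusHom : Fˣ →* G).range ⊓ M with hW₀
  have hW₀mem : ∀ g, g ∈ W₀ ↔ ∃ l : Fˣ, (l : F) ^ s = l ∧ g = Hs l := by
    intro g
    constructor
    · rintro ⟨⟨l, rfl⟩, hlM⟩
      refine ⟨l, (hf.memH l).mp ⟨0, 0, ?_⟩, rfl⟩
      rw [Ts_zero, one_mul]; exact hlM
    · rintro ⟨l, hl, rfl⟩; exact ⟨⟨l, rfl⟩, hH l hl⟩
  have hW₀card : Nat.card W₀ = k := by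
    have hck : Nat.card {l : Fˣ // (l : F) ^ (2 ^ (2 * j + 1)) = (l : F)} = k := by
      rw [hf.cardK]; omega
    refine (Nat.card_eq_of_bijective (fun l : {l : Fˣ // (l : F) ^ (2 ^ (2 * j + 1)) = (l : F)} =>
      (⟨Hs l.1, (hW₀mem _).mpr ⟨l.1, l.2, rfl⟩⟩ : W₀)) ⟨?_, ?_⟩).symm.trans hck
    · intro a b h; exact Subtype.ext (Hs_injective (congrArg (fun z : W₀ => (z : G)) h))
    · rintro ⟨g, hg⟩
      obtain ⟨l, hl, rfl⟩ := (hW₀mem g).mp hg
      exact ⟨⟨l, hl⟩, rfl⟩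
  have hW₀p : IsMPart M W₀ := by
    refine ⟨fun h => ?_, _, isCycPart_H₀, rfl⟩
    rw [h, Subgroup.card_bot] at hW₀card
    omega
  obtain ⟨K₀, hK₀, x₀, hx₀, hW₀eq⟩ := hrep W₀ hW₀p
  obtain ⟨hK₀p, hd₀⟩ := hK K₀ hK₀
  have hK₀card : Nat.card K₀ = k := by
    rw [← hW₀card, hW₀eq, Subgroup.card_map_of_injective (MulAut.conj x₀).injective]
  set rest := ∑ K ∈ 𝒦.erase K₀, wt (c K) (Nat.card K) with hrest
  have hsplit : ∑ K ∈ 𝒦, wt (c K) (Nat.card K) = wt (c K₀) (Nat.card K₀) + rest :=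
    (Finset.add_sum_erase _ _ hK₀).symm
  have hrest0 : ∀ K ∈ 𝒦.erase K₀, (0 : ℚ) ≤ wt (c K) (Nat.card K) := fun K hKm =>
    le_trans (by norm_num) (wt_pos (hK K (Finset.mem_of_mem_erase hKm)).2)
  have hnq : (2 : ℚ) ≤ n := by exact_mod_cast hn
  have htq : (8 : ℚ) ≤ t := by exact_mod_cast (h8.trans ht)
  have hkq : (7 : ℚ) ≤ k := by exact_mod_cast (show 7 ≤ k by omega)
  rw [hg, he, Nat.cast_mul n (t - 1), Nat.cast_sub (by omega : 1 ≤ t), hsplit] at hE
  push_cast at hE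
  -- `[N(W₀) : W₀] = 2`
  have hc₀ : c K₀ = 2 := by
    rcases wt_bounds hd₀ with ⟨h, -⟩ | ⟨h, -⟩ | ⟨h, -⟩
    · exfalso
      rw [wt_eq hd₀.cases hd₀.three, h, hK₀card, Nat.cast_one, div_one] at hE
      have hlt : rest < 1 / 5 := by
        have h1 : (n : ℚ) * (k * t) * rest = n - 1 := by
          field_simp at hE ⊢
          linear_combination -hE
        by_contra hge
        have hn0 : (0 : ℚ) ≤ n := by linarith
        have h56 : (56 : ℚ) ≤ k * t := by
          nlinarith only [mul_le_mul hkq htq (by norm_num : (0 : ℚ) ≤ 8) (by linarith : (0 : ℚ) ≤ k)]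
        have h3 := mul_le_mul (mul_le_mul_of_nonneg_left h56 hn0) (not_lt.mp hge) (by norm_num)
          (by positivity)
        linarith
      rcases (𝒦.erase K₀).eq_empty_or_nonempty with hempty | ⟨K, hKm⟩
      · rw [hrest, hempty, Finset.sum_empty] at hE
        field_simp at hE
        nlinarith
      · have h1 := Finset.single_le_sum hrest0 hKm
        have h2 := wt_pos (hK K (Finset.mem_of_mem_erase hKm)).2
        linarith
    · exact h
    · exfalso
      -- the quotient embeds in a group of order 2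
      have h2 : Nat.card ↥(M ⊓ N[K₀]) ≤ 2 * k := by
        have e1 : Nat.card ↥(M ⊓ N[W₀]) = Nat.card ↥(M ⊓ N[K₀]) := by
          rw [hW₀eq, normalizer_map]
          have hMm : M = M.map (MulAut.conj x₀).toMonoidHom :=
            ((Subgroup.mem_normalizer_iff_map_conj_eq).mp (Subgroup.le_normalizer hx₀)).symm
          conv_lhs => rw [hMm, ← Subgroup.map_inf _ _ (MulAut.conj x₀).toMonoidHom (MulAut.conj x₀).injective]
          exact Subgroup.card_map_of_injective (MulAut.conj x₀).injective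
        rw [← e1]
        set X := M ⊓ N[W₀]
        have hXN : ∀ g ∈ X, g ∈ N[(torusHom : Fˣ →* G).range] := fun g hg =>
          (mem_normalizer_part isCycPart_H₀ hW₀p.1 hg.1).mp hg.2
        set H₀ := (torusHom : Fˣ →* G).range
        let f : X →* (↥(N[H₀]) ⧸ H₀.subgroupOf N[H₀]) :=
          (QuotientGroup.mk' _).comp
            { toFun := fun z => ⟨(z : G), hXN z z.2⟩
              map_one' := rfl
              map_mul' := fun _ _ => rfl }
        rw [← Subgroup.card_mul_index f.ker, Subgroup.index_ker, mul_comm]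
        refine Nat.mul_le_mul ?_ ?_
        · refine (Nat.le_of_dvd Nat.card_pos (Subgroup.card_subgroup_dvd_card _)).trans (le_of_eq ?_)
          have h1 := Subgroup.card_mul_index (H₀.subgroupOf N[H₀])
          rw [Nat.card_congr (Subgroup.subgroupOfEquivOfLe Subgroup.le_normalizer).toEquiv,
            natCard_normalizer_H₀, natCard_torus, Subgroup.index_eq_card] at h1
          exact Nat.eq_of_mul_eq_mul_left (by have := q_ge (F := F) (m := m); omega)
            (h1.trans (mul_comm _ _))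
        · rw [← hW₀card]
          refine Nat.card_le_card_of_injective (fun z : f.ker => (⟨((z : X) : G), ?_, (z : X).2.1⟩ : W₀))
            fun a b h => Subtype.ext (Subtype.ext (congrArg (fun z : W₀ => (z : G)) h))
          have h := z.2
          rw [MonoidHom.mem_ker, MonoidHom.comp_apply, QuotientGroup.mk'_apply,
            QuotientGroup.eq_one_iff] at h
          exact h
      rw [hd₀.card_eq, h, hK₀card] at h2
      omega
  rw [wt_eq hd₀.cases hd₀.three, hc₀, hK₀card] at hE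
  push_cast at hE
  have hR : (n : ℚ) * (k * t) * rest = (n * (k * t)) / 2 - (n * t) / 2 + n - 1 := by
    field_simp at hE ⊢
    linear_combination -1 * hE
  have hRlt : rest < 1 / 2 := by
    by_contra hge
    have hnkt : (0 : ℚ) ≤ n * (k * t) := by positivity
    linarith [mul_le_mul_of_nonneg_left (not_lt.mp hge) hnkt,
      mul_le_mul_of_nonneg_left htq (by linarith : (0 : ℚ) ≤ (n : ℚ))]
  have hRgt : 2 / 5 < rest := by
    by_contra hle
    have hnkt : (0 : ℚ) ≤ n * (k * t) := by positivity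
    have hnt : (0 : ℚ) ≤ n * t := by positivity
    linarith [mul_le_mul_of_nonneg_left (not_lt.mp hle) hnkt,
      mul_le_mul_of_nonneg_left hkq (by positivity : (0:ℚ) ≤ (n:ℚ) * t)]
  -- the involution count
  obtain ⟨N, hN⟩ := htn
  have hnN : n = t * N + 1 := by omega
  have hNpos : 1 ≤ N := by
    rcases Nat.eq_zero_or_pos N with h | h
    · rw [h, mul_zero] at hnN; omega
    · exact h
  set D := ∑ K ∈ 𝒦.erase K₀, (if c K = 1 then 0 else ((Nat.card K : ℚ) - 1) / (c K : ℚ)) with hD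
  have hP3 : (N : ℚ) * k = ((k : ℚ) - 1) / 2 + D := by
    rw [hp, hg, ← Finset.add_sum_erase _ _ hK₀, if_neg (by rw [hc₀]; norm_num), hc₀, hK₀card,
      ← hD] at hP2
    rw [show n * k - k = t * N * k by rw [hnN, add_mul, one_mul, Nat.add_sub_cancel]] at hP2
    push_cast at hP2
    have hnk : (n : ℚ) * k * t ≠ 0 := by positivity
    apply mul_left_cancel₀ hnk
    linear_combination hP2
  have hcop : Nat.Coprime n (2 * N) := by
    have ht2 : 2 ∣ t := by
      have hdvd : t ∣ qq ^ 2 := htT ▸ natCard_unipotent (F := F) (m := m) ▸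
        Subgroup.card_dvd_of_le inf_le_left
      rw [← pow_mul] at hdvd
      obtain ⟨i, -, hi⟩ := (Nat.dvd_prime_pow Nat.prime_two).mp hdvd
      rcases i with - | i
      · omega
      · rw [hi]; exact dvd_pow_self 2 (by omega)
    obtain ⟨t', rfl⟩ := ht2
    rw [hnN, show 2 * t' * N + 1 = 1 + t' * (2 * N) by ring]
    exact (Nat.coprime_add_mul_right_left 1 (2 * N) t').mpr (Nat.coprime_one_left _)
  obtain ⟨τ, hτ⟩ : ∃ τ, t = τ + 2 := ⟨t - 2, by omega⟩
  have hdiff : n = (N * τ + 1) + 2 * N := by rw [hnN, hτ]; ring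
  have hcopD : Nat.Coprime (N * τ + 1) n := by
    rw [hdiff]
    refine Nat.coprime_self_add_right.mpr ?_
    rw [hdiff, Nat.coprime_add_self_left] at hcop
    exact hcop
  have hcardR : (𝒦.erase K₀).card ≤ 2 := by
    by_contra hlt
    have h1 : (1 / 5 : ℚ) * (𝒦.erase K₀).card ≤ rest := by
      rw [mul_comm, ← nsmul_eq_mul, ← Finset.sum_const]
      exact Finset.sum_le_sum fun K hKm => wt_pos (hK K (Finset.mem_of_mem_erase hKm)).2
    have h3 : (3 : ℚ) ≤ (𝒦.erase K₀).card := by exact_mod_cast not_le.mp hlt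
    linarith
  have hnq' : (n : ℚ) = (t : ℚ) * N + 1 := by exact_mod_cast hnN
  have hτq : (t : ℚ) = (τ : ℚ) + 2 := by exact_mod_cast hτ
  rcases Nat.lt_or_ge (𝒦.erase K₀).card 2 with hlt | hge
  · exfalso
    rcases Nat.eq_zero_or_pos (𝒦.erase K₀).card with h0 | hpos
    · rw [hrest, Finset.card_eq_zero.mp h0, Finset.sum_empty] at hRgt; linarith
    obtain ⟨K₁, hK₁eq⟩ := Finset.card_eq_one.mp (show (𝒦.erase K₀).card = 1 by omega)
    have hK₁m : K₁ ∈ 𝒦 := Finset.mem_of_mem_erase (hK₁eq ▸ Finset.mem_singleton_self K₁)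
    obtain ⟨hK₁p, hd₁⟩ := hK K₁ hK₁m
    rw [hrest, hK₁eq, Finset.sum_singleton] at hR hRlt hRgt
    rw [hD, hK₁eq, Finset.sum_singleton] at hP3
    have hc₁ : c K₁ = 2 := by
      rcases wt_bounds hd₁ with ⟨-, h⟩ | ⟨h, -⟩ | ⟨-, -, h⟩
      · linarith
      · exact h
      · linarith
    set v := Nat.card K₁ with hv
    have hv3 := hd₁.three
    have hv0 : (v : ℚ) ≠ 0 := Nat.cast_ne_zero.mpr (by omega)
    rw [wt_eq hd₁.cases hd₁.three, hc₁] at hR
    rw [hc₁, if_neg (by norm_num)] at hP3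
    push_cast at hR hP3
    have heq1 : v + k = 2 * N * k + 2 := by
      have : (v : ℚ) + k = 2 * N * k + 2 := by linarith
      exact_mod_cast this
    have heq2 : v * (N * τ + 1) = n * k := by
      have : (v : ℚ) * (N * τ + 1) = n * k := by
        field_simp at hR
        apply mul_left_cancel₀ (show (t : ℚ) ≠ 0 by linarith)
        linear_combination hR + (2 * (v : ℚ) - t * v) * hnq' - ((t : ℚ) * v * N) * hτq
      exact_mod_cast this
    have hdk : N * τ + 1 ∣ k := hcopD.dvd_of_dvd_mul_left (Dvd.intro_left v heq2)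
    have hle := Nat.le_of_dvd (by omega) hdk
    have hN1 : N = 1 := by
      by_contra hne
      have : 2 * τ ≤ N * τ := Nat.mul_le_mul_right τ (by omega)
      omega
    subst hN1
    have hvk : v = k + 2 := by omega
    have hτk : τ + 1 = k := by
      rw [hvk, hnN, hτ, one_mul, mul_one] at heq2
      nlinarith
    have h3 : 3 ∣ v := by
      rw [hvk, show k + 2 = s + 1 by omega, hs]
      have : 2 ^ (2 * j + 1) % 3 = 2 := by
        rw [pow_succ, pow_mul, Nat.mul_mod, Nat.pow_mod]; norm_num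
      omega
    exact not_three_dvd (F := F) (m := m) (h3.trans (Subgroup.card_subgroup_dvd_card K₁))
  -- two classes of tori
  obtain ⟨K₁, K₂, hne, hK12⟩ := Finset.card_eq_two.mp (le_antisymm hcardR hge)
  have hK₁m : K₁ ∈ 𝒦 := Finset.mem_of_mem_erase (s := 𝒦) (a := K₀) (by rw [hK12]; simp)
  have hK₂m : K₂ ∈ 𝒦 := Finset.mem_of_mem_erase (s := 𝒦) (a := K₀) (by rw [hK12]; simp)
  obtain ⟨-, hd₁⟩ := hK K₁ hK₁m
  obtain ⟨-, hd₂⟩ := hK K₂ hK₂m
  rw [hrest, hK12, Finset.sum_pair hne] at hR hRlt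
  rw [hD, hK12, Finset.sum_pair hne] at hP3
  have hc12 : c K₁ = 4 ∧ c K₂ = 4 := by
    have w1 := wt_pos hd₁
    have w2 := wt_pos hd₂
    constructor
    · rcases wt_bounds hd₁ with ⟨-, h⟩ | ⟨-, h, -⟩ | ⟨h, -⟩ <;> first | exact h | linarith
    · rcases wt_bounds hd₂ with ⟨-, h⟩ | ⟨-, h, -⟩ | ⟨h, -⟩ <;> first | exact h | linarith
  obtain ⟨w, hwM, ow⟩ := (hd₁.five hc12.1).2
  -- `T` is the full translation group over the subfield
  have hA : ∀ a b : F, (Ts a b : G) ∈ M → a ^ s = a := by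
    intro a b h
    have h2 := pow_mem h 2
    rw [Ts_sq, hf.memZ, mul_comm] at h2
    exact lam_pow_eq h2
  obtain ⟨a₀, b₀, ha₀, hab₀⟩ : ∃ a₀ b₀ : F, a₀ ≠ 0 ∧ (Ts a₀ b₀ : G) ∈ M := by
    obtain ⟨x, hx, hfix⟩ := exists_orb_point hz hwM (by rw [ow])
    obtain ⟨a, b, hab⟩ := mem_unipotent_of_fix (g := x⁻¹ * w * x)
      (by rw [show x⁻¹ * w * x = MulAut.conj x⁻¹ w by simp, MulEquiv.orderOf_eq, ow])
      (by rw [mul_smul, mul_smul, hfix, inv_smul_smul])
    refine ⟨a, b, fun h => ?_, hab ▸ mul_mem (mul_mem (inv_mem hx) hwM) hx⟩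
    have h4 : orderOf (x⁻¹ * w * x) = 4 := by
      rw [show x⁻¹ * w * x = MulAut.conj x⁻¹ w by simp, MulEquiv.orderOf_eq, ow]
    rw [hab, h] at h4
    have h5 := orderOf_dvd_of_pow_eq_one (x := (Ts 0 b : G)) (n := 2) (Ts_sq_eq_one.mpr rfl)
    rw [h4] at h5
    norm_num at h5
  have hscal : ∀ (l : Fˣ) (a b : F), (l : F) ^ s = l → (Ts a b : G) ∈ M →
      (Ts ((l : F) * a) ((l : F) * sg m (l : F) * b) : G) ∈ M := fun l a b hl h => by
    rw [← Hs_Ts]; exact mul_mem (mul_mem (hH l hl) h) (inv_mem (hH l hl))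
  obtain ⟨d₁, hd1⟩ : ∃ d₁, (Ts 1 d₁ : G) ∈ M := by
    have hl : ((Units.mk0 a₀ ha₀)⁻¹ : Fˣ).val ^ s = ((Units.mk0 a₀ ha₀)⁻¹ : Fˣ).val := by
      simp [inv_pow, hA a₀ b₀ hab₀]
    have h := hscal _ a₀ b₀ hl hab₀
    refine ⟨((Units.mk0 a₀ ha₀)⁻¹ : Fˣ).val * sg m ((Units.mk0 a₀ ha₀)⁻¹ : Fˣ).val * b₀, ?_⟩
    convert h using 2
    simp [ha₀]
  obtain ⟨x, hxs, hx0, hx1⟩ : ∃ x : F, x ^ s = x ∧ x ≠ 0 ∧ x ≠ 1 := by
    by_contra hno
    push Not at hno
    have : Subsingleton {l : Fˣ // (l : F) ^ (2 ^ (2 * j + 1)) = (l : F)} := ⟨fun a b =>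
      Subtype.ext (Units.ext ((hno _ a.2 a.1.ne_zero).trans (hno _ b.2 b.1.ne_zero).symm))⟩
    have h1 := Finite.card_le_one_iff_subsingleton.mpr this
    rw [hf.cardK, ← hs] at h1
    omega
  have hd1s : d₁ ^ s = d₁ := by
    have hx1' : 1 + x ≠ 0 := fun e => hx1 (CharTwo.add_eq_zero.mp e).symm
    have hl' : (1 + x) ^ s = 1 + x := by rw [hs, add_pow_char_pow, one_pow, ← hs, hxs]
    have h1 := hscal (Units.mk0 x hx0) 1 d₁ hxs hd1
    have h2 := hscal (Units.mk0 (1 + x) hx1') 1 d₁ hl' hd1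
    have h3 := mul_mem (inv_mem h2) (mul_mem hd1 h1)
    simp only [Units.val_mk0, mul_one, Ts_inv, Ts_mul] at h3
    rw [show (1 + x + (1 + x) : F) = 0 by grind, hf.memZ] at h3
    have hone : sg m (1 : F) = 1 := one_pow _
    have hμ : (x + sg m x) ^ s = x + sg m x := by rw [hs, add_pow_char_pow, ← sg_pow, ← hs, hxs]
    have hμ0 : x + sg m x ≠ 0 := fun e => by
      rcases eq_zero_or_one_of_sg_self (CharTwo.add_eq_zero.mp e).symm with h | h
      exacts [hx0 h, hx1 h]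
    have e : (1 + x) * sg m (1 + x) * d₁ + sg m (1 + x) * (1 + x) + (d₁ + x * sg m x * d₁ + sg m 1 * x) +
        sg m (1 + x) * (1 + x) = (x + sg m x) * d₁ + x := by
      simp only [sg_add, hone]; grind
    rw [e, add_pow_char_pow, ← hs, mul_pow, hμ, hxs] at h3
    exact mul_left_cancel₀ hμ0 (add_right_cancel h3)
  have hTs : ∀ a b : F, (Ts a b : G) ∈ M ↔ a ^ s = a ∧ b ^ s = b := by
    have ha0 : ∀ a, a ^ s = a → (Ts a 0 : G) ∈ M := by
      intro a ha
      rcases eq_or_ne a 0 with rfl | h0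
      · rw [Ts_zero]; exact one_mem M
      have h1 := hscal (Units.mk0 a h0) 1 d₁ ha hd1
      rw [Units.val_mk0, mul_one] at h1
      have h2 : (Ts 0 (a * sg m a * d₁) : G) ∈ M := by
        rw [hf.memZ, ← hs, mul_pow, mul_pow, ← sg_pow, ha, hd1s]
      have h3 := mul_mem h1 h2
      rwa [Ts_mul, add_zero, mul_zero, add_zero, CharTwo.add_self_eq_zero] at h3
    intro a b
    constructor
    · intro h
      refine ⟨hA a b h, ?_⟩
      have h2 := mul_mem (inv_mem (ha0 a (hA a b h))) h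
      rw [Ts_inv, Ts_mul, CharTwo.add_self_eq_zero, hf.memZ,
        show 0 + sg m a * a + b + sg m a * a = b by grind] at h2
      exact h2
    · rintro ⟨ha, hb⟩
      have h1 := mul_mem (ha0 a ha) ((hf.memZ b).mpr hb)
      rwa [Ts_mul, add_zero, mul_zero, add_zero, zero_add] at h1
  have ht2 : t = (k + 1) * (k + 1) := by
    have hR' : Nat.card {b : F // b ^ s = b} = k + 1 := by
      have h := hf.cardK
      rw [← hs, hk, Nat.add_sub_cancel] at h
      let : Fintype F := Fintype.ofFinite F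
      rw [← h, Nat.card_eq_fintype_card, Nat.card_eq_fintype_card, Fintype.card_subtype,
        Fintype.card_subtype, ← hk,
        ← Finset.card_image_of_injective _ (Units.val_injective (α := F)),
        ← Finset.card_insert_of_notMem (a := (0 : F)) (by simp)]
      congr 1
      ext b
      simp only [Finset.mem_filter, Finset.mem_univ, true_and, Finset.mem_insert, Finset.mem_image]
      constructor
      · intro hb
        rcases eq_or_ne b 0 with h0 | h0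
        · exact Or.inl h0
        · exact Or.inr ⟨Units.mk0 b h0, by rw [Units.val_mk0]; exact hb, rfl⟩
      · rintro (rfl | ⟨l, hl, rfl⟩)
        · exact zero_pow (by omega)
        · exact hl
    rw [← hR', ← Nat.card_prod, htT]
    symm
    refine Nat.card_eq_of_bijective (fun p : {b : F // b ^ s = b} × {b : F // b ^ s = b} =>
      (⟨Ts p.1.1 p.2.1, Ts_mem _ _, (hTs _ _).mpr ⟨p.1.2, p.2.2⟩⟩ : ↥(unipotent ⊓ M : Subgroup G))) ⟨?_, ?_⟩
    · intro p p' h
      obtain ⟨e1, e2⟩ := Ts_injective (congrArg (fun z : ↥(unipotent ⊓ M : Subgroup G) => (z : G)) h)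
      exact Prod.ext (Subtype.ext e1) (Subtype.ext e2)
    · rintro ⟨u, ⟨a, b, rfl⟩, huM⟩
      exact ⟨(⟨a, ((hTs a b).mp huM).1⟩, ⟨b, ((hTs a b).mp huM).2⟩), rfl⟩
  -- the key equation
  set v₁ := Nat.card K₁ with hv₁
  set v₂ := Nat.card K₂ with hv₂
  have hv₁3 := hd₁.three
  have hv₂3 := hd₂.three
  have hv₁0 : (v₁ : ℚ) ≠ 0 := Nat.cast_ne_zero.mpr (by omega)
  have hv₂0 : (v₂ : ℚ) ≠ 0 := Nat.cast_ne_zero.mpr (by omega)
  rw [wt_eq hd₁.cases hd₁.three, wt_eq hd₂.cases hd₂.three, hc12.1, hc12.2] at hR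
  rw [hc12.1, hc12.2, if_neg (by norm_num), if_neg (by norm_num)] at hP3
  push_cast at hR hP3
  have hS : (v₁ : ℚ) + v₂ = 4 * N * k - 2 * k + 4 := by linarith
  have hprod : (v₁ : ℚ) * v₂ * (N * τ + 1) = n * (k * (2 * N * k - k + 2)) := by
    have h1 : ((v₁ : ℚ) + v₂) * (n * k * t) = (v₁ * v₂) * (2 * n * t - 4 * t * N) := by
      field_simp at hR
      linear_combination (-1 / 2 : ℚ) * hR + (-4 * (v₁ : ℚ) * v₂) * hnq'
    apply mul_left_cancel₀ (show (2 : ℚ) * t ≠ 0 by linarith)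
    rw [hS] at h1
    linear_combination -h1 + (-2 * (v₁ : ℚ) * v₂ * t) * hnq' + (-2 * (v₁ : ℚ) * v₂ * t * N) * hτq
  obtain ⟨M', hM'⟩ : ∃ M', N = M' + 1 := ⟨N - 1, by omega⟩
  have hprod' : v₁ * v₂ * (N * τ + 1) = n * (k * ((2 * M' + 1) * k + 2)) := by
    have : (v₁ : ℚ) * v₂ * (N * τ + 1) = (n : ℚ) * (k * ((2 * (M' : ℚ) + 1) * k + 2)) := by
      rw [hprod, hM']; push_cast; ring
    exact_mod_cast this
  obtain ⟨i, hi⟩ := hcopD.dvd_of_dvd_mul_left (Dvd.intro_left _ hprod')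
  have hτ2 : τ + 2 = (k + 1) * (k + 1) := by omega
  have hk7 : 7 ≤ k := by omega
  have hi1 : i = 1 := by
    have hipos : 0 < i := by
      rcases Nat.eq_zero_or_pos i with h | h
      · rw [h, mul_zero] at hi
        have : 0 < k * ((2 * M' + 1) * k + 2) := Nat.mul_pos (by omega) (by omega)
        omega
      · exact h
    have hlt : k * ((2 * M' + 1) * k + 2) < (N * τ + 1) * 2 := by subst hM'; nlinarith
    by_contra hne
    have : (N * τ + 1) * 2 ≤ (N * τ + 1) * i := Nat.mul_le_mul_left _ (by omega)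
    omega
  rw [hi1, mul_one] at hi
  have hM0 : M' = 0 := by
    have hτZ : (τ : ℤ) + 2 = ((k : ℤ) + 1) * ((k : ℤ) + 1) := by exact_mod_cast hτ2
    have hiZ : (k : ℤ) * ((2 * (M' : ℤ) + 1) * k + 2) = ((M' : ℤ) + 1) * τ + 1 := by
      subst hM'; exact_mod_cast hi
    have h1 : (M' : ℤ) * (((k : ℤ) - 1) * ((k : ℤ) - 1)) = 0 := by
      linear_combination hiZ + ((M' : ℤ) + 1) * hτZ
    rcases mul_eq_zero.mp h1 with h | h
    · exact_mod_cast h
    · rcases mul_eq_zero.mp h with h | h <;> omega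
  subst hM'
  subst hM0
  rw [zero_add, mul_one] at hnN
  -- `w ∈ M` swapping `∞` and `o`
  obtain ⟨⟨u, ⟨huM, huN⟩, hou⟩⟩ : Nonempty {u : G // u ∈ M ⊓ N[W₀] ∧ orderOf u = 2} := by
    refine (Nat.card_pos_iff.mp ?_).1
    rw [hW₀eq, (hd₀.map hx₀).2, hc₀, if_neg (by norm_num)]
    omega
  have huH : u ∈ N[(torusHom : Fˣ →* G).range] :=
    (mem_normalizer_part isCycPart_H₀ hW₀p.1 huM).mp huN
  obtain ⟨l₀, hl₀s, hl₀1⟩ : ∃ l₀ : Fˣ, (l₀ : F) ^ s = l₀ ∧ l₀ ≠ 1 :=
    ⟨Units.mk0 x hx0, hxs, fun e => hx1 (congrArg Units.val e)⟩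
  have hinv := isCycPart_H₀.invert huH hou (h := (Hs l₀ : G)) ⟨l₀, rfl⟩
  have hinv' : u * Hs l₀ * u⁻¹ = (Hs l₀⁻¹ : G) :=
    hinv.trans (inv_eq_of_mul_eq_one_right (by rw [Hs_mul, mul_inv_cancel, Hs_one]))
  have hperm : ∀ q ∈ suzukiOvoid F m, (Hs l₀ : G) • q = q → u • q = ∞ ∨ u • q = o := fun q hq h =>
    Hs_fix (inv_ne_one.mpr hl₀1) (smul_mem_ovoid u hq) (by rw [← hinv', conj_smul_eq, h])
  have hu_inf : u • (∞ : ℙ F (Fin 4 → F)) = o := by
    refine (hperm ∞ inf_mem (Hs_smul_inf l₀)).resolve_left fun h => ?_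
    obtain ⟨a, b, rfl⟩ := mem_unipotent_of_fix (by rw [hou]; norm_num) h
    rw [mul_inv_eq_iff_eq_mul, Hs_mul_Ts] at hinv'
    have e1 := (Ts_Hs_injective hinv').2.2
    have e2 : l₀ * l₀ = 1 := by nth_rewrite 2 [e1]; exact mul_inv_cancel l₀
    have e3 := congrArg Units.val e2
    rw [Units.val_mul, Units.val_one] at e3
    rcases mul_self_eq_one_iff.mp e3 with e4 | e4
    · exact hl₀1 (Units.ext e4)
    · rw [CharTwo.neg_eq] at e4; exact hl₀1 (Units.ext e4)
  have hu2 : u * u = 1 := by rw [← pow_two, ← hou, pow_orderOf_eq_one]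
  have hu_o : u • o = (∞ : ℙ F (Fin 4 → F)) := by rw [← hu_inf, ← mul_smul, hu2, one_smul]
  obtain ⟨l, hl⟩ := fix_inf_zero (g := (Ws : G)⁻¹ * u)
    (by rw [mul_smul, hu_inf, inv_smul_eq_iff, Ws_smul_inf])
    (by rw [mul_smul, hu_o, inv_smul_eq_iff, Ws_smul_zero])
  have hu' : u = Ws * Hs l := by rw [← hl, mul_inv_cancel_left]
  -- the orbit of `∞` has coordinates in the subfield
  have hΔ : ∀ p ∈ orbInf M, p ≠ ∞ → ∃ a b : F, (Ts a b : G) ∈ M ∧ p = pt m a b := by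
    intro p hp hpne
    let f : ↥(unipotent ⊓ M : Subgroup G) → {r : ℙ F (Fin 4 → F) // r ∈ orbInf M ∧ r ≠ ∞} :=
      fun v => ⟨(v : G) • o, ⟨(v : G) * u, mul_mem v.2.2 huM,
        show ((v : G) * u) • ∞ = (v : G) • o by rw [mul_smul, hu_inf]⟩, fun e =>
          inf_ne_zero (MulAction.injective (v : G)
            ((mem_stabilizer_iff.mp (unipotent_le_borel v.2.1)).trans e.symm))⟩
    have hfinj : Function.Injective f := by
      rintro ⟨v, ⟨a, b, hv⟩, hvM⟩ ⟨v', ⟨a', b', hv'⟩, hvM'⟩ h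
      have h1 : v • o = v' • o := congrArg Subtype.val h
      rw [hv, hv', Ts_smul_zero, Ts_smul_zero] at h1
      obtain ⟨rfl, rfl⟩ := pt_injective h1
      exact Subtype.ext (hv.trans hv'.symm)
    have hcard : Nat.card {r : ℙ F (Fin 4 → F) // r ∈ orbInf M ∧ r ≠ ∞} = n - 1 := by
      rw [hnΔ, Nat.card_coe_set_eq]
      have e : {r : ℙ F (Fin 4 → F) | r ∈ orbInf M ∧ r ≠ ∞} = orbInf M \ {∞} := by
        ext r; simp
      rw [← Nat.card_coe_set_eq]
      change Nat.card ↥{r : ℙ F (Fin 4 → F) | r ∈ orbInf M ∧ r ≠ ∞} = _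
      rw [e, Nat.card_coe_set_eq, Set.ncard_diff_singleton_of_mem (show (∞ : ℙ F (Fin 4 → F)) ∈ orbInf M from ⟨1, one_mem M, one_smul _ _⟩),
        Nat.card_coe_set_eq]
    have hfs := (Nat.bijective_iff_injective_and_card f).mpr ⟨hfinj, by rw [hcard, ← htT]; omega⟩
    obtain ⟨⟨v, ⟨a, b, rfl⟩, hvM⟩, hv⟩ := hfs.2 ⟨p, hp, hpne⟩
    exact ⟨a, b, hvM, (congrArg Subtype.val hv).symm.trans (Ts_smul_zero a b)⟩
  -- hence `Ws ∈ M`
  set μ := (l : F) * sg m (l : F) with hμ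
  have hμ0 : μ ≠ 0 := mul_ne_zero l.ne_zero (sg_ne_zero l.ne_zero)
  have hff : ff m (0 : F) μ = sg m μ := by
    simp [ff, sg_zero]
  have hpimg : (u * Ts 0 1 * u) • (∞ : ℙ F (Fin 4 → F)) = pt m (μ / sg m μ) 0 := by
    rw [mul_smul, mul_smul, hu_inf, Ts_smul_zero, hu', mul_smul]
    change (Ws : G) • (Hs l : G) • pt m (0 : F) 1 = _
    rw [Hs_smul_pt, mul_zero, mul_one, ← hμ]
    change W F • pt m (0 : F) μ = _
    rw [W_smul_pt (by rw [hff]; exact sg_ne_zero hμ0), hff, zero_div]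
  obtain ⟨a, b, hab, hpab⟩ := hΔ _ ⟨_, mul_mem (mul_mem huM hz) huM, rfl⟩
    (by beta_reduce; rw [hpimg]; exact pt_ne_inf _ _)
  beta_reduce at hpab
  rw [hpimg] at hpab
  have hx' : (μ / sg m μ) ^ s = μ / sg m μ := (pt_injective hpab).1 ▸ ((hTs a b).mp hab).1
  have hμs : μ ^ s = μ := by
    set ν := μ ^ s / μ with hν
    have hν0 : ν ≠ 0 := div_ne_zero (pow_ne_zero _ hμ0) hμ0
    have h1 : sg m ν = ν := by
      rw [hν, sg_div, sg_pow]
      rw [div_pow, div_eq_div_iff (pow_ne_zero _ (sg_ne_zero hμ0)) (sg_ne_zero hμ0)] at hx'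
      rw [div_eq_div_iff (sg_ne_zero hμ0) hμ0]
      linear_combination -hx'
    rcases eq_zero_or_one_of_sg_self h1 with h | h
    · exact absurd h hν0
    · exact (div_eq_one_iff_eq hμ0).mp h
  have hls : (l : F) ^ s = l := lam_pow_eq hμs
  have hW : (Ws : G) ∈ M := by
    have := mul_mem (show u ∈ M from huM) (inv_mem (hH l hls))
    rwa [hu', mul_inv_cancel_right] at this
  refine le_antisymm (fun g hg => ?_) ((Subgroup.closure_le _).mpr ?_)
  · have hB : ∀ h ∈ M, h • (∞ : ℙ F (Fin 4 → F)) = ∞ → h ∈ subSz F m j := by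
      intro h hh hfix
      obtain ⟨a, b, l', rfl⟩ := fix_inf_iff.mp hfix
      have hl' := (hf.memH l').mp ⟨a, b, hh⟩
      have hTm : (Ts a b : G) ∈ M := by
        have := mul_mem hh (inv_mem (hH l' hl'))
        rwa [mul_inv_cancel_right] at this
      exact mul_mem (Subgroup.subset_closure (Or.inl (Or.inl ⟨a, b, ((hTs a b).mp hTm).1,
        ((hTs a b).mp hTm).2, rfl⟩))) (Subgroup.subset_closure (Or.inl (Or.inr ⟨l', hl', rfl⟩)))
    by_cases hfix : g • (∞ : ℙ F (Fin 4 → F)) = ∞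
    · exact hB g hg hfix
    obtain ⟨a, b, hab, hpab⟩ := hΔ _ ⟨g, hg, rfl⟩ hfix
    beta_reduce at hpab
    have hTW : (Ts a b * Ws : G) ∈ subSz F m j :=
      mul_mem (Subgroup.subset_closure (Or.inl (Or.inl ⟨a, b, ((hTs a b).mp hab).1,
        ((hTs a b).mp hab).2, rfl⟩))) (Subgroup.subset_closure (Or.inr rfl))
    have h3 := hB ((Ts a b * Ws : G)⁻¹ * g) (mul_mem (inv_mem (mul_mem hab hW)) hg) (by
      rw [mul_smul, inv_smul_eq_iff, mul_smul, Ws_smul_inf, Ts_smul_zero, hpab])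
    have h4 := mul_mem hTW h3
    rwa [mul_inv_cancel_left] at h4
  · rintro g ((⟨a, b, ha, hb, rfl⟩ | ⟨l', hl', rfl⟩) | rfl)
    exacts [(hTs a b).mpr ⟨ha, hb⟩, hH l' hl', hW]

/-- Every subgroup fixes a point, normalises a cyclic part, or is a subfield subgroup. -/
theorem classification (M : Subgroup G) :
    (∃ p ∈ suzukiOvoid F m, M ≤ stabilizer G p) ∨ (∃ V, IsCycPart F m V ∧ M ≤ N[V]) ∨ Std M := by
  by_cases h1 : ∃ p ∈ suzukiOvoid F m, M ≤ stabilizer G p
  · exact Or.inl h1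
  by_cases h2 : ∃ V, IsCycPart F m V ∧ M ≤ N[V]
  · exact Or.inr (Or.inl h2)
  push Not at h1 h2
  refine Or.inr (Or.inr ?_)
  have hM : NotLocal M := ⟨h1, h2⟩
  obtain ⟨z, hzM, oz⟩ := exists_involution hM
  obtain ⟨c, hc⟩ : ∃ c : G, c * z * c⁻¹ = Ts 0 1 := by
    obtain ⟨c, h | h⟩ := conj_or_inv (Or.inl rfl) oz (orderOf_Ts_zero (m := m) (one_ne_zero (α := F)))
    · exact ⟨c, h⟩
    · exact ⟨c, by rw [h]; exact inv_eq_of_mul_eq_one_right (by rw [← pow_two]; exact Ts_sq_eq_one.mpr rfl)⟩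
  refine Std.of_map (c := c) ?_
  have hM' := hM.map c
  have hz' : (Ts 0 1 : G) ∈ M.map (MulAut.conj c).toMonoidHom := ⟨z, hzM, hc⟩
  obtain ⟨n₀, hf⟩ := exists_field hM' hz'
  obtain ⟨j, rfl⟩ : ∃ j, n₀ = 2 * j + 1 := by
    refine ⟨n₀ / 2, ?_⟩
    have h : ¬ 2 ∣ n₀ := fun h => by
      have := h.trans hf.dvd
      omega
    omega
  rcases Nat.eq_zero_or_pos j with rfl | hj
  · exact absurd (no_two hM' hz' hf) id
  obtain ⟨u, hzu, hfu, hHu⟩ := exists_torus_form hz' (by omega) hf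
  refine Std.of_map (c := u) ⟨j, hj, hf.dvd, 1, ?_⟩
  rw [conj_map_one]
  exact main_case (hM'.map u) hzu hj hfu hHu

/-- The stabiliser of an ovoid point normalises a Sylow 2-subgroup. -/
theorem exists_sylow_stabilizer_le {p : ℙ F (Fin 4 → F)} (hp : p ∈ suzukiOvoid F m) :
    ∃ P : Sylow 2 G, stabilizer G p ≤ N[(P : Subgroup G)] := by
  have : Fact (Nat.Prime 2) := ⟨Nat.prime_two⟩
  obtain ⟨c, rfl⟩ := exists_to_inf (m := m) hp
  refine ⟨c • sylowU, ?_⟩
  change _ ≤ N[((sylowU : Sylow 2 G) : Subgroup G).map (MulAut.conj c).toMonoidHom]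
  rw [coe_sylowU, normalizer_map, normalizer_unipotent, stabilizer_smul_eq_stabilizer_map_conj]

variable (F m) in
theorem subSz_self : subSz F m m = ⊤ := by
  have := finiteF (F := F) (m := m)
  obtain ⟨e⟩ := exists_equiv_subSz (F := F) (m := m) (K := F) (k := m) dvd_rfl
  exact Subgroup.eq_top_of_card_eq _ (Nat.card_congr e.symm.toEquiv)

/-- The order of a subfield subgroup. -/
theorem natCard_subSz {j : ℕ} (hj : 1 ≤ j) (hdiv : 2 * j + 1 ∣ 2 * m + 1) :
    Nat.card (subSz F m j) =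
      (2 ^ (2 * j + 1)) ^ 2 * ((2 ^ (2 * j + 1)) ^ 2 + 1) * (2 ^ (2 * j + 1) - 1) := by
  let : Fintype (GaloisField 2 (2 * j + 1)) := Fintype.ofFinite _
  have : Param (GaloisField 2 (2 * j + 1)) j := Param.mk' hj (by
    rw [← Nat.card_eq_fintype_card, GaloisField.card 2 (2 * j + 1) (by omega)])
  obtain ⟨e⟩ := exists_equiv_subSz (F := F) (m := m) (K := GaloisField 2 (2 * j + 1)) (k := j) hdiv
  rw [← Nat.card_congr e.toEquiv, SuzukiGroupStructure.natCard_Sz]

theorem order_injective {a b : ℕ}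
    (h : (2 ^ (2 * a + 1)) ^ 2 * ((2 ^ (2 * a + 1)) ^ 2 + 1) * (2 ^ (2 * a + 1) - 1) =
      (2 ^ (2 * b + 1)) ^ 2 * ((2 ^ (2 * b + 1)) ^ 2 + 1) * (2 ^ (2 * b + 1) - 1)) : a = b := by
  have key : ∀ x y : ℕ, 2 ≤ x → x < y →
      x ^ 2 * (x ^ 2 + 1) * (x - 1) < y ^ 2 * (y ^ 2 + 1) * (y - 1) := by
    intro x y hx hxy
    have h2 : x ^ 2 < y ^ 2 := Nat.pow_lt_pow_left hxy two_ne_zero
    exact Nat.mul_lt_mul'' (Nat.mul_lt_mul'' h2 (by omega)) (by omega)
  have h2 : ∀ a : ℕ, 2 ≤ 2 ^ (2 * a + 1) := fun a =>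
    Nat.le_trans (by norm_num) (Nat.pow_le_pow_right two_pos (show 1 ≤ 2 * a + 1 by omega))
  rcases lt_trichotomy a b with hlt | heq | hlt
  · exact absurd h (key _ _ (h2 a) (Nat.pow_lt_pow_right (by norm_num) (by omega))).ne
  · exact heq
  · exact absurd h (key _ _ (h2 b) (Nat.pow_lt_pow_right (by norm_num) (by omega))).ne'

variable (F m) in
theorem not_isSolvable : ¬ Group.IsSolvable G := fun h => by
  obtain ⟨n, hn⟩ := h.solvable
  have htop : ∀ k, derivedSeries G k = ⊤ := fun k => by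
    induction k with
    | zero => exact derivedSeries_zero G
    | succ k ih => rw [derivedSeries_succ, ih, ← commutator_def, commutator_eq_top]
  rw [htop n] at hn
  have h1 : (Ts 1 0 : G) = 1 := Subgroup.mem_bot.mp (hn ▸ Subgroup.mem_top _)
  exact one_ne_zero (Ts_eq_one h1).1

end Cfsg.Agent.SuzukiGroupClassification
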