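import Cfsg.Prelude.Def_Sz
import Cfsg.Prelude.Def_KGroupFacts
import Cfsg.Agent.Lib.PrimeGraphSz46
import Cfsg.Agent.Lib.CITRecog39
import Cfsg.Agent.Lib.SuzukiGroupLie
import Cfsg.Agent.Lib.PSLCard
import Cfsg.Agent.Lib.GolayPlaneFour
import Cfsg.Agent.Lib.HallCore
import Cfsg.Agent.S2126
import Cfsg.Agent.S2239

/-!
Groups with the prime graph of `Sz(q)`, given the classification of simple groups with `2`-group
centralisers of involutions.
-/

set_option autoImplicit false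
set_option linter.style.haveILetI false

namespace Cfsg.Agent.PrimeGraphSzMain46

open PrimeGraphSolvable SuzukiGroupBasic

universe u

/-- The classification of simple groups with `2`-group centralisers of involutions. -/
def ClassifySz : Prop :=
  ∀ (H : Type u) [Group H] [Finite H] [IsSimpleGroup H], (∃ a b : H, a * b ≠ b * a) → CIT21.IsCIT H →
    (∃ (F : Type) (_ : Field F) (_ : Fintype F),
        Nonempty (H ≃* Matrix.ProjectiveSpecialLinearGroup (Fin 2) F)) ∨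
    (∃ (F : Type) (_ : Field F) (_ : Fintype F), Fintype.card F = 4 ∧
        Nonempty (H ≃* Matrix.ProjectiveSpecialLinearGroup (Fin 3) F)) ∨
    Cfsg.Lie.IsoSuzuki H

theorem three_dvd_psl2 {F : Type*} [Field F] [Finite F] :
    3 ∣ Nat.card (Matrix.ProjectiveSpecialLinearGroup (Fin 2) F) := by
  have h := PSLCard.card_PSL2_mul (F := F)
  have hq : 2 ≤ Nat.card F := Finite.one_lt_card
  set q := Nat.card F
  have h3 : 3 ∣ q * (q ^ 2 - 1) := by
    rcases (show q % 3 = 0 ∨ q % 3 = 1 ∨ q % 3 = 2 by omega) with e | e | e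
    · exact (Nat.dvd_of_mod_eq_zero e).mul_right _
    all_goals
      refine Dvd.dvd.mul_left ((Nat.modEq_iff_dvd' (Nat.one_le_pow _ _ (by omega))).1 ?_) _
      simp [Nat.ModEq, Nat.pow_mod, e]
  rw [← h] at h3
  rcases Nat.prime_three.dvd_mul.1 h3 with h4 | h4
  · exfalso
    have := Nat.le_of_dvd (by norm_num) (Nat.gcd_dvd_left 2 (q - 1))
    have := Nat.le_of_dvd (Nat.gcd_pos_of_pos_left _ two_pos) h4
    omega
  · exact h4

variable {G : Type u} [Group G] [Finite G]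

/-- An almost simple group with socle `Sz(q')` and `2`-group centralisers of involutions. -/
theorem top_of_suzuki (H : CIT21.IsCIT G) (N : Subgroup G) [hN : N.Normal]
    (hC : Subgroup.centralizer (N : Set G) = ⊥)
    {K : Type} [Field K] [Fintype K] {k : ℕ} (hk : 1 ≤ k) (hK : Fintype.card K = 2 ^ (2 * k + 1))
    (e : N ≃* ↥(Cfsg.Sz K k)) : N = ⊤ := by
  haveI := Param.mk' hk hK
  haveI : Fact (Nat.Prime 2) := ⟨Nat.prime_two⟩
  -- the index is odd
  let e' : N ≃* ↥(Cfsg.Lie.Sz K (2 ^ (k + 1))) := e.trans SuzukiGroupLie.lieEquiv.symm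
  have hout : Nat.card (Cfsg.Out N) = 2 * k + 1 := by
    have he : (Cfsg.Inn N).map (MulAut.congr e').toMonoidHom =
        Cfsg.Inn ↥(Cfsg.Lie.Sz K (2 ^ (k + 1))) := by
      ext φ
      constructor
      · rintro ⟨_, ⟨g, rfl⟩, rfl⟩
        exact ⟨e' g, MulEquiv.ext fun x => by simp⟩
      · rintro ⟨g, rfl⟩
        exact ⟨_, ⟨e'.symm g, rfl⟩, MulEquiv.ext fun x => by simp⟩
    rw [Nat.card_congr (QuotientGroup.congr _ _ (MulAut.congr e') he).toEquiv]
    exact S2126.result hk hK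
  let f : G →* Cfsg.Out N := (QuotientGroup.mk' (Cfsg.Inn N)).comp MulAut.conjNormal
  have hker : f.ker ≤ N := by
    intro g hg
    rw [MonoidHom.mem_ker, MonoidHom.comp_apply, QuotientGroup.mk'_apply, QuotientGroup.eq_one_iff] at hg
    obtain ⟨n, hn⟩ := hg
    have hmem : (n : G)⁻¹ * g ∈ Subgroup.centralizer (N : Set G) := by
      rw [Subgroup.mem_centralizer_iff]
      intro x hx
      have := congrArg Subtype.val (DFunLike.congr_fun hn ⟨x, hx⟩)
      simp only [MulAut.conj_apply, Subgroup.coe_mul, MulAut.conjNormal_apply,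
        InvMemClass.coe_inv] at this
      calc x * ((n : G)⁻¹ * g) = (n : G)⁻¹ * ((n : G) * x * (n : G)⁻¹) * g := by group
        _ = (n : G)⁻¹ * g * x := by rw [this]; group
    rw [hC, Subgroup.mem_bot, inv_mul_eq_one] at hmem
    exact hmem ▸ n.2
  have hodd : Odd N.index := by
    have h1 : N.index ∣ f.ker.index := Subgroup.index_dvd_of_le hker
    rw [Subgroup.index_ker] at h1
    have h2 := h1.trans (Subgroup.card_subgroup_dvd_card f.range)
    rw [hout] at h2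
    exact (odd_two_mul_add_one k).of_dvd_nat h2
  rw [← Subgroup.index_eq_one]
  by_contra hne
  obtain ⟨r, hr, hrd⟩ := Nat.exists_prime_and_dvd hne
  haveI : Fact r.Prime := ⟨hr⟩
  have hr2 : Odd r := hodd.of_dvd_nat hrd
  -- Frattini argument
  obtain ⟨P⟩ : Nonempty (Sylow 2 N) := inferInstance
  set T := (P : Subgroup N).map N.subtype with hT
  set M := Subgroup.normalizer (T : Set G) with hM
  have htop : M ⊔ N = ⊤ := Sylow.normalizer_sup_eq_top P
  -- the torus of `N` normalises `P`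
  let Q : Sylow 2 ↥(Cfsg.Sz K k) := SuzukiGroupStructure.sylowU
  obtain ⟨c, hc⟩ : ∃ c : N, (P : Subgroup N) =
      ((Q : Subgroup ↥(Cfsg.Sz K k)).map e.symm.toMonoidHom).map (MulAut.conj c).toMonoidHom := by
    obtain ⟨c, hc⟩ := MulAction.exists_smul_eq N
      (Q.mapSurjective (f := e.symm.toMonoidHom) e.symm.surjective) P
    exact ⟨c, by rw [← hc, Sylow.coe_subgroup_smul]; rfl⟩
  have hPn : Nat.card ↥(Subgroup.normalizer ((P : Subgroup N) : Set N)) =
      (2 ^ (2 * k + 1)) ^ 2 * (2 ^ (2 * k + 1) - 1) := by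
    rw [hc, ← Subgroup.map_equiv_normalizer_eq, ← Subgroup.map_equiv_normalizer_eq,
      Subgroup.card_map_of_injective (MulEquiv.injective _),
      Subgroup.card_map_of_injective (MulEquiv.injective _), SuzukiGroupStructure.coe_sylowU,
      SuzukiGroupStructure.normalizer_unipotent, SuzukiGroupStructure.natCard_borel]
  obtain ⟨z, hz⟩ : ∃ z : N, z ∈ (P : Subgroup N) ∧ orderOf z = 2 := by
    have h2 : 2 ∣ Nat.card (P : Subgroup N) := P.dvd_card_of_dvd_card (by
      rw [Nat.card_congr e.toEquiv, SuzukiGroupStructure.natCard_Sz]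
      exact ((dvd_pow (dvd_pow_self 2 (by omega)) two_ne_zero).mul_right _).mul_right _)
    obtain ⟨z, hz⟩ := exists_prime_orderOf_dvd_card' 2 h2
    exact ⟨z, z.2, by rw [Subgroup.orderOf_coe, hz]⟩
  have hMT : ∀ g : M, ∀ t : {t : N // t ∈ (P : Subgroup N) ∧ orderOf t = 2},
      MulAut.conjNormal (g : G) (t : N) ∈ (P : Subgroup N) := by
    rintro ⟨g, hg⟩ ⟨t, ht, -⟩
    have := (Subgroup.mem_normalizer_iff.1 hg (t : G)).1 ⟨t, ht, rfl⟩
    obtain ⟨u, hu, hue⟩ := this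
    have : u = MulAut.conjNormal g t := Subtype.ext (by rw [MulAut.conjNormal_apply]; exact hue)
    exact this ▸ hu
  let g₀ : M → {t : N // t ∈ (P : Subgroup N) ∧ orderOf t = 2} := fun g =>
    ⟨MulAut.conjNormal (g : G) z, hMT g ⟨z, hz⟩, by rw [MulEquiv.orderOf_eq, hz.2]⟩
  let S : Subgroup M := (Subgroup.centralizer ({(z : G)} : Set G)).subgroupOf M
  have hS : IsPGroup 2 S :=
    (H _ (by rw [Subgroup.orderOf_coe, hz.2])).comap_of_injective _ (Subgroup.subtype_injective M)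
  have hrel : ∀ a b : M, g₀ a = g₀ b → (a : M)⁻¹ * b ∈ S := by
    intro a b h
    have h' := congrArg (fun t : {t : N // t ∈ (P : Subgroup N) ∧ orderOf t = 2} => ((t : N) : G)) h
    simp only [g₀, MulAut.conjNormal_apply] at h'
    rw [Subgroup.mem_subgroupOf, Subgroup.mem_centralizer_singleton_iff]
    simp only [Subgroup.coe_mul, InvMemClass.coe_inv]
    symm
    calc (z : G) * ((a : G)⁻¹ * b) = (a : G)⁻¹ * ((a : G) * z * (a : G)⁻¹) * b := by group
      _ = (a : G)⁻¹ * b * z := by rw [h']; group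
  have hidx : S.index ≤ 2 ^ (2 * k + 1) - 1 := by
    have hle : Nat.card {t : N // t ∈ (P : Subgroup N) ∧ orderOf t = 2} ≤ 2 ^ (2 * k + 1) - 1 := by
      refine le_trans (Nat.card_le_card_of_injective
        (fun t => (⟨e (t : N), ⟨⟨t, t.2.1, rfl⟩, by rw [MulEquiv.orderOf_eq, t.2.2]⟩⟩ :
          {t : ↥(Cfsg.Sz K k) // t ∈ ((P.mapSurjective (f := e.toMonoidHom) e.surjective :
            Sylow 2 _) : Subgroup _) ∧ orderOf t = 2}))
        fun a b h => Subtype.ext (e.injective (congrArg Subtype.val h)))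
        (PrimeGraphSz46.card_involutions_le _)
    refine le_trans (Nat.card_le_card_of_injective (fun x : M ⧸ S => g₀ x.out) fun x y h => ?_) hle
    rw [← Quotient.out_eq x, ← Quotient.out_eq y]
    exact QuotientGroup.eq.2 (hrel _ _ h)
  -- `M` contains the torus of `N` and an element of order `r` outside
  have hd : Nat.card ↥(Subgroup.normalizer ((P : Subgroup N) : Set N)) * r ∣ Nat.card M := by
    have hmap : (Subgroup.normalizer ((P : Subgroup N) : Set N)).map N.subtype = M ⊓ N := by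
      ext g
      constructor
      · rintro ⟨n, hn, rfl⟩
        refine ⟨?_, n.2⟩
        show (n : G) ∈ M
        rw [Subgroup.mem_normalizer_iff]
        intro x
        constructor
        · rintro ⟨y, hy, rfl⟩
          exact ⟨n * y * n⁻¹, (Subgroup.mem_normalizer_iff.1 hn y).1 hy, by simp⟩
        · rintro ⟨y, hy, hye⟩
          refine ⟨n⁻¹ * y * n, (Subgroup.mem_normalizer_iff.1 hn _).2 (by rwa [show n * (n⁻¹ * y * n) * n⁻¹ = y by group]), ?_⟩
          simp only [Subgroup.coe_subtype, Subgroup.coe_mul, InvMemClass.coe_inv] at hye ⊢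
          rw [hye]; group
      · rintro ⟨hgM, hgN⟩
        refine ⟨⟨g, hgN⟩, ?_, rfl⟩
        rw [SetLike.mem_coe, Subgroup.mem_normalizer_iff]
        intro y
        constructor
        · intro hy
          obtain ⟨u, hu, hue⟩ := (Subgroup.mem_normalizer_iff.1 hgM (y : G)).1 ⟨y, hy, rfl⟩
          rwa [show (⟨g, hgN⟩ : N) * y * ⟨g, hgN⟩⁻¹ = u from Subtype.ext hue.symm]
        · intro hy
          obtain ⟨u, hu, hue⟩ := (Subgroup.mem_normalizer_iff.1 hgM (y : G)).2 ⟨_, hy, rfl⟩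
          rwa [show y = u from Subtype.ext hue.symm]
    rw [← Subgroup.card_map_of_injective N.subtype_injective, hmap,
      ← Subgroup.card_mul_index ((M ⊓ N).subgroupOf M),
      Nat.card_congr (Subgroup.subgroupOfEquivOfLe (inf_le_left : M ⊓ N ≤ M)).toEquiv]
    refine Nat.mul_dvd_mul_left _ ?_
    rw [show ((M ⊓ N).subgroupOf M).index = N.relIndex (M ⊔ N) by
      show (M ⊓ N).relIndex M = _
      rw [Subgroup.inf_relIndex_left, sup_comm, Subgroup.relIndex_sup_left], htop,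
      Subgroup.relIndex_top_right]
    exact hrd
  rw [hPn, ← Subgroup.card_mul_index S] at hd
  obtain ⟨j, hj⟩ := IsPGroup.iff_card.1 hS
  rw [hj] at hd
  have hq2 : ¬ 2 ∣ 2 ^ (2 * k + 1) - 1 := by
    have : 2 ∣ 2 ^ (2 * k + 1) := dvd_pow_self 2 (by omega)
    have := Nat.two_pow_pos (2 * k + 1)
    omega
  have hcop : ((2 ^ (2 * k + 1) - 1) * r).Coprime (2 ^ j) :=
    Nat.Coprime.pow_right _ ((Nat.coprime_two_right.2 ((Nat.odd_iff.2 (by omega)).mul hr2)))
  have h4 := hcop.dvd_of_dvd_mul_left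
    ((dvd_mul_left _ ((2 ^ (2 * k + 1)) ^ 2)).trans (by rwa [← mul_assoc]))
  have h5 := Nat.le_of_dvd (Nat.pos_of_ne_zero Subgroup.index_ne_zero_of_finite) h4
  have h6 : (2 ^ (2 * k + 1) - 1) * 2 ≤ (2 ^ (2 * k + 1) - 1) * r := Nat.mul_le_mul_left _ hr.two_le
  have h7 : 0 < 2 ^ (2 * k + 1) - 1 := by omega
  omega

theorem primes_iff {F : Type*} [Field F] {m : ℕ} [Param F m] {r : ℕ} (hr : r.Prime)
    (h : r ∣ Nat.card ↥(Cfsg.Sz F m)) : r = 2 ∨ r ∣ 4 ^ (2 * (2 * m + 1)) - 1 := by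
  rw [SuzukiGroupStructure.natCard_Sz] at h
  rcases hr.dvd_mul.1 h with h | h
  · rcases hr.dvd_mul.1 h with h | h
    · exact Or.inl ((Nat.prime_dvd_prime_iff_eq hr Nat.prime_two).1
        (hr.dvd_of_dvd_pow (hr.dvd_of_dvd_pow h)))
    · refine Or.inr (h.trans ⟨4 ^ (2 * m + 1) - 1, ?_⟩)
      rw [show (2 ^ (2 * m + 1)) ^ 2 = 4 ^ (2 * m + 1) by rw [← pow_mul, mul_comm, pow_mul]; norm_num]
      rw [mul_comm 2 (2 * m + 1), pow_mul]
      simpa using Nat.sq_sub_sq (4 ^ (2 * m + 1)) 1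
  · refine Or.inr (h.trans ?_)
    rw [show 4 ^ (2 * (2 * m + 1)) = 2 ^ ((2 * m + 1) * 4) by
      rw [show (4 : ℕ) = 2 ^ 2 by norm_num, ← pow_mul]; congr 1; ring]
    exact Nat.pow_sub_one_dvd_pow_sub_one 2 (dvd_mul_right _ _)

theorem four_pow_dvd {F : Type*} [Field F] {m : ℕ} [Param F m] {r : ℕ}
    (h : r ∣ 4 ^ (2 * m + 1) + 1) : r ∣ Nat.card ↥(Cfsg.Sz F m) := by
  rw [SuzukiGroupStructure.natCard_Sz]
  refine Dvd.dvd.mul_right (Dvd.dvd.mul_left ?_ _) _
  rwa [← pow_mul, mul_comm (2 * m + 1) 2, pow_mul]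

theorem dvd_of_same {A B : Type*} [Field A] [Field B] (a b : ℕ) [Param A a] [Param B b]
    (h : ∀ r : ℕ, r.Prime → r ≠ 2 → r ∣ Nat.card ↥(Cfsg.Sz A a) → r ∣ Nat.card ↥(Cfsg.Sz B b)) :
    2 * a + 1 ∣ 2 * b + 1 := by
  refine PrimeGraphSz46.dvd_of_primes (odd_two_mul_add_one a) (by omega) fun r hr hrd => ?_
  have hr2 : r ≠ 2 := by
    rintro rfl
    have : 2 ∣ 4 ^ (2 * a + 1) := dvd_pow (by norm_num) (by omega)
    omega
  exact (primes_iff hr (h r hr hr2 (four_pow_dvd hrd))).resolve_left hr2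

theorem recog (hC : ClassifySz.{u}) {F : Type*} [Field F] [Fintype F] (m : ℕ) (hm : 1 ≤ m)
    (hF : Fintype.card F = 2 ^ (2 * m + 1))
    (h1 : ∀ r : ℕ, r.Prime →
      (r ∣ Nat.card ↥(Cfsg.Lie.Sz F (2 ^ (m + 1))) ↔ r ∣ Nat.card G))
    (h2 : ∀ r s : ℕ, r.Prime → s.Prime → r ≠ s →
      ((∃ x : ↥(Cfsg.Lie.Sz F (2 ^ (m + 1))), orderOf x = r * s) ↔ (∃ y : G, orderOf y = r * s))) :
    Nonempty (G ⧸ Cfsg.pCore 2 G ≃* ↥(Cfsg.Lie.Sz F (2 ^ (m + 1)))) := by
  classical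
  haveI := Param.mk' hm hF
  haveI : Fact (Nat.Prime 2) := ⟨Nat.prime_two⟩
  let e := SuzukiGroupLie.lieEquiv (F := F) (m := m)
  have hπ : ∀ r : ℕ, r.Prime → (r ∣ Nat.card ↥(Cfsg.Sz F m) ↔ r ∣ Nat.card G) := fun r hr => by
    rw [← h1 r hr, Nat.card_congr e.toEquiv]
  have hne : ∀ r s : ℕ, r.Prime → s.Prime → r ≠ s →
      (∀ x : ↥(Cfsg.Sz F m), orderOf x ≠ r * s) → NoEdge G r s := by
    intro r s hr hs hrs h y hy
    obtain ⟨x, hx⟩ := (h2 r s hr hs hrs).2 ⟨y, hy⟩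
    exact h (e x) (by rw [MulEquiv.orderOf_eq, hx])
  have h2G : 2 ∣ Nat.card G := (hπ 2 Nat.prime_two).1 (by
    rw [SuzukiGroupStructure.natCard_Sz]
    exact ((dvd_pow (dvd_pow_self 2 (by omega)) two_ne_zero).mul_right _).mul_right _)
  have e2 : ∀ p : ℕ, p.Prime → p ≠ 2 → NoEdge G 2 p := fun p hp hp2 =>
    hne 2 p Nat.prime_two hp hp2.symm (PrimeGraphSz46.no_two_edge hp hp2)
  have HG : CIT21.IsCIT G := CITRecog39.cit_of_noEdge e2
  obtain ⟨p, hp, hpne⟩ := PrimeGraphSz46.exists_three (F := F) (m := m)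
  have hdis : ∀ i j, i ≠ j → NoEdge G (p i) (p j) := fun i j hij =>
    hne _ _ (hp i).1 (hp j).1 (hpne i j hij).1 (hpne i j hij).2.1
  haveI hOn : (Cfsg.pCore 2 G).Normal := inferInstance
  set O := Cfsg.pCore 2 G with hO
  have hOp : IsPGroup 2 O := HallCore.isPGroup_pCore 2 G
  let Gb := G ⧸ O
  have HB : CIT21.IsCIT Gb := CITGraph39.quot_cit HG hOp
  have hodd : ∀ r : ℕ, r.Prime → r ≠ 2 → (r ∣ Nat.card Gb ↔ r ∣ Nat.card G) := by
    intro r hr hr2
    obtain ⟨j, hj⟩ := IsPGroup.iff_card.1 hOp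
    rw [Subgroup.card_eq_card_quotient_mul_card_subgroup O, hj]
    refine ⟨fun h => h.mul_right _, fun h => (hr.dvd_mul.1 h).resolve_right fun h' => hr2 ?_⟩
    exact (Nat.prime_dvd_prime_iff_eq hr Nat.prime_two).1 (hr.dvd_of_dvd_pow h')
  have hpG : ∀ i, p i ∣ Nat.card G := fun i => (hπ _ (hp i).1).1 (hp i).2.1
  have h2B : 2 ∣ Nat.card Gb := CITRecog39.two_dvd_quot HG hOp h2G (hp 0).1 (hp 1).1 (hp 0).2.2
    (hp 1).2.2 (hpne 0 1 (by decide)).1 (hpG 0) (hpG 1) (e2 _ (hp 0).1 (hp 0).2.2)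
    (e2 _ (hp 1).1 (hp 1).2.2) (hdis 0 1 (by decide))
  have hsep : ∀ r : ℕ, r.Prime → r ≠ 2 → r ∣ Nat.card Gb →
      ∃ s : ℕ, s.Prime ∧ s ≠ 2 ∧ s ≠ r ∧ s ∣ Nat.card Gb ∧ NoEdge Gb r s := by
    intro r hr hr2 hrd
    by_contra hcon
    push Not at hcon
    have key : ∀ i, p i ≠ r → ∃ x : ↥(Cfsg.Sz F m), orderOf x = r * p i := by
      intro i hi
      by_contra h
      push Not at h
      exact hcon (p i) (hp i).1 (hp i).2.2 hi ((hodd _ (hp i).1 (hp i).2.2).2 (hpG i))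
        (CITRecog39.noEdge_quot (hne r (p i) hr (hp i).1 hi.symm h))
    obtain ⟨i, j, hij, hi, hj⟩ : ∃ i j, i ≠ j ∧ p i ≠ r ∧ p j ≠ r := by
      by_cases h0 : p 0 = r
      · exact ⟨1, 2, by decide, fun h => (hpne 0 1 (by decide)).1 (h0.trans h.symm),
          fun h => (hpne 0 2 (by decide)).1 (h0.trans h.symm)⟩
      · by_cases h1' : p 1 = r
        · exact ⟨0, 2, by decide, h0, fun h => (hpne 1 2 (by decide)).1 (h1'.trans h.symm)⟩
        · exact ⟨0, 1, by decide, h0, h1'⟩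
    obtain ⟨x, hx⟩ := key i hi
    obtain ⟨y, hy⟩ := key j hj
    obtain ⟨A, hA, hrA, hiA⟩ := PrimeGraphSz46.edge (F := F) hr (hp i).1 hi.symm hx
    obtain ⟨B, hB, hrB, hjB⟩ := PrimeGraphSz46.edge hr (hp j).1 hj.symm hy
    have hAB : A = B := by
      by_contra h
      exact hr.one_lt.ne' (Nat.eq_one_of_dvd_coprimes (PrimeGraphSz46.tori_coprime (F := F) hA hB h) hrA hrB)
    subst hAB
    exact (hpne i j hij).2.2 A hA hiA hjB
  obtain ⟨N, hN, hNs, h2N, hna⟩ :=
    CITGraph39.exists_simple_normal HB h2B (HallCore.pCore_quotient_self 2 G) hsep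
  haveI := hN
  haveI := hNs
  have hNcit : CIT21.IsCIT N := by
    intro t ht
    refine (HB (t : Gb) (by rw [Subgroup.orderOf_coe, ht])).of_injective
      (((N.subtype).comp (Subgroup.subtype _)).codRestrict _ fun c => ?_) fun a b h => ?_
    · rw [Subgroup.mem_centralizer_singleton_iff]
      simpa using congrArg Subtype.val (Subgroup.mem_centralizer_singleton_iff.1 c.2)
    · have h' := congrArg Subtype.val h
      exact Subtype.ext (Subtype.ext h')
  have hB3 : ¬ 3 ∣ Nat.card Gb := fun h =>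
    PrimeGraphSz46.not_three_dvd ((hπ 3 Nat.prime_three).2 ((hodd 3 Nat.prime_three (by norm_num)).1 h))
  have hN3 : ¬ 3 ∣ Nat.card N := fun h => hB3 (h.trans (Subgroup.card_subgroup_dvd_card N))
  rcases hC N hna hNcit with ⟨E, _, _, ⟨ψ⟩⟩ | ⟨E, _, _, hE, ⟨ψ⟩⟩ | ⟨K, _, _, k, hk, hK, ⟨ψ⟩⟩
  · exfalso
    refine hN3 ?_
    rw [Nat.card_congr ψ.toEquiv]
    exact three_dvd_psl2
  · exfalso
    refine hN3 ?_
    rw [Nat.card_congr ψ.toEquiv, GolayPlaneFour.card_PSL3 hE]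
    norm_num
  haveI := Param.mk' hk hK
  let φ : N ≃* ↥(Cfsg.Sz K k) := ψ.trans SuzukiGroupLie.lieEquiv
  have hcent : Subgroup.centralizer (N : Set Gb) = ⊥ := by
    rw [eq_bot_iff]
    intro c hc
    rw [Subgroup.mem_bot]
    obtain ⟨t, ht⟩ := exists_prime_orderOf_dvd_card' 2 h2N
    obtain ⟨q, hq, hq1⟩ := PrimeGraphSz46.exists_three (F := K) (m := k)
    have := Fact.mk (hq 0).1
    obtain ⟨x, hx⟩ := exists_prime_orderOf_dvd_card' (q 0)
      (show q 0 ∣ Nat.card N by rw [Nat.card_congr φ.toEquiv]; exact (hq 0).2.1)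
    have hct : Commute c (t : Gb) := (Subgroup.mem_centralizer_iff.1 hc _ t.2).symm
    have hc2 : ∀ r : ℕ, r.Prime → r ∣ orderOf c → r = 2 := by
      intro r hr hrd
      by_contra hr2
      exact CITGraph39.false_of_commute_two HB hr hr2 (orderOf_pow_orderOf_div (orderOf_pos c).ne' hrd)
        ⟨1, by rw [pow_one, ← Subgroup.coe_pow, ← ht, pow_orderOf_eq_one, Subgroup.coe_one]⟩
        (fun h => by rw [show t = 1 from Subtype.ext h, orderOf_one] at ht; omega) (hct.pow_left _)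
    by_contra hc1
    exact CITGraph39.false_of_commute_two HB (hq 0).1 (hq 0).2.2
      (by rw [Subgroup.orderOf_coe, hx])
      ⟨_, by
        rw [← Nat.eq_prime_pow_of_unique_prime_dvd (orderOf_pos c).ne' (fun {d} hd hdvd => hc2 d hd hdvd)]
        exact pow_orderOf_eq_one c⟩
      hc1 (Subgroup.mem_centralizer_iff.1 hc _ x.2)
  have htop : N = ⊤ := top_of_suzuki HB N hcent hk hK φ
  have hπK : ∀ r : ℕ, r.Prime → r ≠ 2 → (r ∣ Nat.card ↥(Cfsg.Sz K k) ↔ r ∣ Nat.card ↥(Cfsg.Sz F m)) := by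
    intro r hr hr2
    rw [hπ r hr, ← hodd r hr hr2, ← Nat.card_congr φ.toEquiv, htop, Subgroup.card_top]
  have hkm : k = m := by
    have d1 := dvd_of_same (A := K) (B := F) k m fun r hr hr2 h => (hπK r hr hr2).1 h
    have d2 := dvd_of_same (A := F) (B := K) m k fun r hr hr2 h => (hπK r hr hr2).2 h
    have := Nat.dvd_antisymm d1 d2
    omega
  subst hkm
  obtain ⟨⟨S, ⟨σ⟩⟩, -⟩ := S2239.result (F := F) hm hF (K := K) hk hK dvd_rfl
  have hStop : S = ⊤ := Subgroup.eq_top_of_card_eq S (by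
    rw [Nat.card_congr σ.toEquiv, SuzukiGroupStructure.natCard_Sz, SuzukiGroupStructure.natCard_Sz])
  exact ⟨((Subgroup.topEquiv.symm.trans (MulEquiv.subgroupCongr htop.symm)).trans φ).trans
    ((σ.symm.trans (MulEquiv.subgroupCongr hStop)).trans (Subgroup.topEquiv.trans e.symm))⟩

end Cfsg.Agent.PrimeGraphSzMain46
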