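import Mathlib
import Cfsg.Agent.Lib.PrimeOrderModule84

/-!
Reduction of statements about elements of prime order of `PSL_n(q)` to endomorphisms.
-/

set_option autoImplicit false

namespace Cfsg.Agent.PrimeOrderLinear84

open Cfsg.Agent.PrimeOrderModule84 Module

universe u

variable {F : Type u} [Field F] {n : ℕ}

theorem forall_SL_iff (r : ℕ) (Q : Module.End F (Fin n → F) → Prop) :
    (∀ x : Matrix.SpecialLinearGroup (Fin n) F,
      (∃ c : F, ((x ^ r : Matrix.SpecialLinearGroup (Fin n) F) : Matrix (Fin n) (Fin n) F) = c • (1 : Matrix (Fin n) (Fin n) F)) →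
      (∀ c : F, (x : Matrix (Fin n) (Fin n) F) ≠ c • (1 : Matrix (Fin n) (Fin n) F)) →
      Q (Matrix.toLin' (x : Matrix (Fin n) (Fin n) F))) ↔
    (∀ g : Module.End F (Fin n → F), LinearMap.det g = 1 → ∀ z : F, g ^ r = z • 1 →
      (∀ c : F, g ≠ c • 1) → Q g) := by
  constructor
  · intro h g hdet z hz hns
    have hd : (LinearMap.toMatrix' g).det = 1 := by rw [LinearMap.det_toMatrix', hdet]
    let x : Matrix.SpecialLinearGroup (Fin n) F := ⟨LinearMap.toMatrix' g, hd⟩
    have hx : (x : Matrix (Fin n) (Fin n) F) = LinearMap.toMatrix' g := rfl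
    have := h x ⟨z, ?_⟩ ?_
    · simpa [hx] using this
    · apply Matrix.toLin'.injective
      rw [Matrix.SpecialLinearGroup.coe_pow, hx, Matrix.toLin'_pow, map_smul, Matrix.toLin'_one]
      simp only [Matrix.toLin'_toMatrix']
      exact hz
    · intro c hc
      apply hns c
      have := congrArg Matrix.toLin' hc
      rw [hx, map_smul, Matrix.toLin'_one] at this
      simp only [Matrix.toLin'_toMatrix'] at this
      exact this
  · rintro h x ⟨z, hz⟩ hns
    refine h _ (by rw [LinearMap.det_toLin']; exact x.2) z ?_ ?_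
    · rw [← Matrix.toLin'_pow, ← Matrix.SpecialLinearGroup.coe_pow, hz, map_smul, Matrix.toLin'_one]
      rfl
    · intro c hc
      apply hns c
      apply Matrix.toLin'.injective
      rw [map_smul, Matrix.toLin'_one]
      exact hc

theorem map_smul_le_iff {V : Type*} [AddCommGroup V] [Module F V] {g : Module.End F V} {w : F}
    (hw : w ≠ 0) (W : Submodule F V) : W.map (w • g) ≤ W ↔ W.map g ≤ W := by
  rw [show W.map (w • g) = W.map g from Submodule.map_smul g W w hw]

theorem ne_zero_of_pow (hn : n ≠ 0) {r : ℕ} {g : Module.End F (Fin n → F)}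
    (hdet : LinearMap.det g = 1) {z : F} (hz : g ^ r = z • 1) : z ≠ 0 := by
  intro e
  have := congrArg LinearMap.det hz
  rw [map_pow, hdet, one_pow, e, LinearMap.det_smul, zero_pow (by simpa using hn), zero_mul] at this
  exact one_ne_zero this

theorem pow_normalize {r : ℕ} {g : Module.End F (Fin n → F)} {z w : F} (hw : w ^ r = z) (hw0 : w ≠ 0)
    (hz : g ^ r = z • 1) : (w⁻¹ • g) ^ r = 1 := by
  rw [smul_pow, hz, smul_smul, ← hw, inv_pow, inv_mul_cancel₀ (pow_ne_zero _ hw0), one_smul]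

variable [Fintype F] {r : ℕ} [Fact r.Prime]

/-- Case `q ≡ 1 [MOD r]`. -/
theorem iff_of_order_one (hn : 2 ≤ n) (hr : (r : F) ≠ 0)
    (hc : orderOf (Fintype.card F : ZMod r) = 1) (Q : Module.End F (Fin n → F) → Prop) (A : Prop)
    (hQ : ∀ (w : F) (g), w ≠ 0 → (Q (w • g) ↔ Q g))
    (hpow : ∀ y : Module.End F (Fin n → F), y ^ r = 1 → Q y)
    (hnp : ∀ g : Module.End F (Fin n → F), ∀ z : F, z ≠ 0 → g ^ r = z • 1 → (∀ b : F, b ^ r ≠ z) →
      r ∣ n → (Q g ↔ A)) :
    (∀ g : Module.End F (Fin n → F), LinearMap.det g = 1 → ∀ z : F, g ^ r = z • 1 →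
      (∀ c : F, g ≠ c • 1) → Q g) ↔
    (A ∨ (padicValNat r n ≤ padicValNat r (Fintype.card F - 1) ∧
      (r = 2 → Even n → Fintype.card F % 4 = 1))) := by
  have hrq : r ∣ Fintype.card F - 1 := by
    have := (card_pow_eq_one_iff (F := F) (r := r) 1).1 (by rw [← hc]; exact pow_orderOf_eq_one _)
    rwa [pow_one] at this
  have hdimV : finrank F (Fin n → F) = n := Module.finrank_fin_fun F
  constructor
  · intro h
    by_contra hcon
    rw [not_or] at hcon
    by_cases hrn : r ∣ n
    · obtain ⟨t, ht⟩ := hrn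
      have ht0 : t ≠ 0 := fun e => by rw [e, mul_zero] at ht; omega
      obtain ⟨z, hz, hznp, hzt⟩ := (exists_bad_iff hrq ht ht0).2 hcon.2
      obtain ⟨g, hg⟩ := exists_pow_smul (V := Fin n → F) (r := r) (z := z) (t := t) (by rw [hdimV, ht])
      obtain ⟨t', ht', hdet⟩ := det_eq_of_pow_smul Fact.out hz hg hznp
      have : t' = t := by
        rw [hdimV, ht] at ht'
        exact (Nat.eq_of_mul_eq_mul_left (Fact.out : r.Prime).pos ht').symm
      rw [this, hzt] at hdet
      refine hcon.1 ((hnp g z hz hg hznp ⟨t, ht⟩).1 (h g hdet z hg ?_))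
      intro c hcg
      apply hznp c
      rw [hcg, smul_pow, one_pow] at hg
      have : Nonempty (Fin n) := ⟨⟨0, by omega⟩⟩
      exact smul_left_injective F (one_ne_zero (α := Module.End F (Fin n → F))) hg
    · refine hcon.2 ⟨?_, fun h2 he => absurd (h2 ▸ even_iff_two_dvd.1 he) hrn⟩
      rw [padicValNat.eq_zero_of_not_dvd hrn]
      exact Nat.zero_le _
  · intro h g hdet z hz _
    have hz0 := ne_zero_of_pow (by omega) hdet hz
    by_cases hb : ∃ b : F, b ^ r = z
    · obtain ⟨w, hw⟩ := hb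
      have hw0 : w ≠ 0 := fun e => hz0 (by rw [← hw, e, zero_pow (Fact.out : r.Prime).ne_zero])
      exact (hQ w⁻¹ g (inv_ne_zero hw0)).1 (hpow _ (pow_normalize hw hw0 hz))
    · push Not at hb
      obtain ⟨t, ht, hdet'⟩ := det_eq_of_pow_smul Fact.out hz0 hz hb
      rw [hdimV] at ht
      rw [hdet] at hdet'
      have ht0 : t ≠ 0 := fun e => by rw [e, mul_zero] at ht; omega
      exact (hnp g z hz0 hz hb ⟨t, ht⟩).2
        (h.resolve_right ((exists_bad_iff hrq ht ht0).1 ⟨z, hz0, hb, hdet'.symm⟩))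

/-- Case `q` not congruent to one modulo `r`. -/
theorem iff_of_order_ge_two (hn : 2 ≤ n) (hr : (r : F) ≠ 0)
    (hc : 2 ≤ orderOf (Fintype.card F : ZMod r)) (Q : Module.End F (Fin n → F) → Prop)
    (hQ : ∀ (w : F) (g), w ≠ 0 → (Q (w • g) ↔ Q g)) :
    (∀ g : Module.End F (Fin n → F), LinearMap.det g = 1 → ∀ z : F, g ^ r = z • 1 →
      (∀ c : F, g ≠ c • 1) → Q g) ↔
    (∀ y : Module.End F (Fin n → F), y ^ r = 1 → LinearMap.det y = 1 → y ≠ 1 → Q y) := by
  have hrq : ¬ r ∣ Fintype.card F - 1 := fun hd => by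
    have h1 := (card_pow_eq_one_iff (F := F) (r := r) 1).2 (by rwa [pow_one])
    rw [pow_one] at h1
    rw [h1, orderOf_one] at hc
    omega
  have hroot : ∀ z : F, z ≠ 0 → ∃ w : F, w ^ r = z := fun z hz =>
    exists_pow_of_pow_eq Fact.out hz hrq
      ((FiniteField.pow_card_sub_one_eq_one z hz).trans (one_pow r).symm)
  have hone : ∀ d : F, d ^ r = 1 → d = 1 := by
    intro d hd
    have hd0 : d ≠ 0 := fun e => by
      rw [e, zero_pow (Fact.out : r.Prime).ne_zero] at hd; exact zero_ne_one hd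
    have := pow_gcd_eq_one.2 ⟨hd, FiniteField.pow_card_sub_one_eq_one d hd0⟩
    rwa [(Fact.out : r.Prime).coprime_iff_not_dvd.2 hrq, pow_one] at this
  constructor
  · intro h y hy hdet hy1
    refine h y hdet 1 (by rw [hy, one_smul]) ?_
    intro c hcy
    apply hy1
    rw [hcy] at hy ⊢
    rw [smul_pow, one_pow] at hy
    have : Nonempty (Fin n) := ⟨⟨0, by omega⟩⟩
    have hcr : c ^ r = 1 :=
      smul_left_injective F (one_ne_zero (α := Module.End F (Fin n → F))) (hy.trans (one_smul F _).symm)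
    rw [hone c hcr, one_smul]
  · intro h g hdet z hz hns
    have hz0 := ne_zero_of_pow (by omega) hdet hz
    obtain ⟨w, hw⟩ := hroot z hz0
    have hw0 : w ≠ 0 := fun e => hz0 (by rw [← hw, e, zero_pow (Fact.out : r.Prime).ne_zero])
    have hy := pow_normalize hw hw0 hz
    refine (hQ w⁻¹ g (inv_ne_zero hw0)).1 (h _ hy (hone _ (by rw [← map_pow, hy, map_one])) ?_)
    intro e
    apply hns w
    rw [← e, smul_smul, mul_inv_cancel₀ hw0, one_smul]

end Cfsg.Agent.PrimeOrderLinear84
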