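import Cfsg.Agent.Lib.PrimitiveDichotomy

/-! Non-affine, non-almost-simple primitive groups have three classes of derangements. -/

set_option autoImplicit false

namespace Cfsg.Agent.PrimitiveClasses

open MulAction PrimitiveDichotomy

variable {G Ω : Type*} [Group G] [Finite G] [MulAction G Ω]

theorem three_le_card (f : Fin 3 → G)
    (hf : ∀ i, ∀ ω : Ω, f i • ω ≠ ω) (hinj : ∀ i j, IsConj (f i) (f j) → i = j) :
    3 ≤ Nat.card {c : ConjClasses G // ∃ g : G, ConjClasses.mk g = c ∧ ∀ ω : Ω, g • ω ≠ ω} := by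
  have := Nat.card_le_card_of_injective
    (fun i : Fin 3 => (⟨ConjClasses.mk (f i), f i, rfl, hf i⟩ :
      {c : ConjClasses G // ∃ g : G, ConjClasses.mk g = c ∧ ∀ ω : Ω, g • ω ≠ ω}))
    (fun i j h => hinj i j (ConjClasses.mk_eq_mk_iff_isConj.mp (congrArg Subtype.val h)))
  simpa using this

variable [FaithfulSMul G Ω]

theorem semireg_distinct {T U : Subgroup G} (h : SemiregPair G Ω T U) :
    ∃ f : Fin 3 → G, (∀ i, ∀ ω : Ω, f i • ω ≠ ω) ∧ ∀ i j, IsConj (f i) (f j) → i = j := by
  obtain ⟨q, r, hq, hr, hqr, f, hf, h0, h1, h2⟩ := h.derangements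
  refine ⟨f, hf, fun i j hij => ?_⟩
  obtain ⟨g, hg⟩ := isConj_iff.mp hij
  have ho : orderOf (f i) = orderOf (f j) := by
    rw [← hg, ← MulAut.conj_apply]
    exact (orderOf_injective (MulAut.conj g).toMonoidHom (MulAut.conj g).injective _).symm
  have hq2 := hq.two_le
  have hr2 := hr.two_le
  have hq' : q < q * r := by nlinarith
  have hr' : r < q * r := by nlinarith
  fin_cases i <;> fin_cases j
  · rfl
  · exfalso; change orderOf (f 0) = orderOf (f 1) at ho; omega
  · exfalso; change orderOf (f 0) = orderOf (f 2) at ho; omega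
  · exfalso; change orderOf (f 1) = orderOf (f 0) at ho; omega
  · rfl
  · exfalso; change orderOf (f 1) = orderOf (f 2) at ho; omega
  · exfalso; change orderOf (f 2) = orderOf (f 0) at ho; omega
  · exfalso; change orderOf (f 2) = orderOf (f 1) at ho; omega
  · rfl

/-- If a primitive group is neither affine nor almost simple it has at least three classes of derangements. -/
theorem affine_or_three [Finite Ω] (hΩ : 2 ≤ Nat.card Ω) (hprim : IsPreprimitive G Ω) :
    HasAffine G Ω ∨ HasAlmostSimple G ∨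
      3 ≤ Nat.card {c : ConjClasses G // ∃ g : G, ConjClasses.mk g = c ∧ ∀ ω : Ω, g • ω ≠ ω} := by
  haveI : Nonempty Ω := (Nat.card_pos_iff.mp (by omega)).1
  rcases dichotomy (G := G) (Ω := Ω) hΩ hprim with h | h | ⟨T, U, h⟩ | ⟨N, T, U, x, h⟩
  · exact Or.inl h
  · exact Or.inr (Or.inl h)
  · obtain ⟨f, hf, hinj⟩ := semireg_distinct h
    exact Or.inr (Or.inr (three_le_card f hf hinj))
  · obtain ⟨f, hf, hinj⟩ := h.three_classes
    exact Or.inr (Or.inr (three_le_card f hf hinj))

end Cfsg.Agent.PrimitiveClasses
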