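import Mathlib
import Cfsg.Agent.Lib.CharBasicDecomp
import Cfsg.Agent.Lib.CharCliffordCorr
import Cfsg.Agent.Lib.CharInducedCorr
import Cfsg.Agent.Lib.CharInducedAbelianQuot
import Cfsg.Agent.Lib.CharBasicLinear
import Cfsg.Agent.Lib.CharProjDegree
import Cfsg.Agent.Lib.CharExtensionCrit
import Cfsg.Agent.Lib.CharKernel
import Cfsg.Agent.Lib.TwoDegreesPrime72
import Cfsg.Agent.Lib.PGroupsBasic
import Cfsg.Agent.Lib.CoprimeFixAverage87
import Cfsg.Prelude.Def_Blocks

/-!
Primitive irreducible characters of two-prime metanilpotent groups: the degree divides a class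
size.
-/

set_option autoImplicit false

open scoped commutatorElement
open Cfsg Cfsg.Agent.CharBasic Cfsg.Agent.CharBasicOrth Cfsg.Agent.CharBasicDecomp
  Cfsg.Agent.CharInduced

namespace Cfsg.Agent.PrimitiveMetanilp87

universe u

variable {G : Type u} [Group G] [Fintype G]

/-- The character is not induced from a proper subgroup. -/
def Prim (χ : G → ℂ) : Prop :=
  ¬ ∃ (H : Subgroup G), H ≠ ⊤ ∧ ∃ θ : ↥H → ℂ, IsCharacter ↥H θ ∧ indFun H θ = χ

section

variable {χ : G → ℂ}

theorem invariant_of_prim (hχ : IsIrrCharacter G χ) (hp : Prim χ) (N : Subgroup G) [N.Normal]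
    [Fintype N] {θ : N → ℂ} (hθ : IsIrrCharacter N θ)
    (hc : classInner (fun n : N => χ n) θ ≠ 0) (g : G) : conjFun N θ g = θ := by
  classical
  haveI : Fintype (inertia N θ) := Fintype.ofFinite _
  obtain ⟨ψ, hψ, hind, -⟩ := CharCliffordCorr.clifford_correspondence N hχ hθ hc
    (inertia N θ) rfl (le_inertia N (isClassFunction_irr hθ))
  have hT : inertia N θ = ⊤ := by
    by_contra h
    exact hp ⟨_, h, ψ, isCharacter_of_isIrrCharacter hψ, hind⟩
  exact (mem_inertia N).1 (hT ▸ Subgroup.mem_top g)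

theorem res_ne_zero (hχ : IsIrrCharacter G χ) (N : Subgroup G) :
    (fun n : N => χ n) ≠ 0 := by
  haveI : Fintype N := Fintype.ofFinite _
  obtain ⟨d, hd0, hd⟩ := isIrrCharacter_apply_one hχ
  exact isCharacter_ne_zero_of_apply_one hd0 (by simpa using hd)

/-- Normal abelian subgroups are central for a faithful primitive character. -/
theorem le_center_of_abelian (hχ : IsIrrCharacter G χ) (hp : Prim χ)
    (hf : ∀ g : G, χ g = χ 1 → g = 1) (A : Subgroup G) [A.Normal]
    (hA : ∀ a ∈ A, ∀ b ∈ A, a * b = b * a) : A ≤ Subgroup.center G := by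
  classical
  obtain ⟨θ, hθ, hc⟩ := exists_constituent (isCharacter_res A (isCharacter_of_isIrrCharacter hχ))
    (res_ne_zero hχ A)
  have hinv := invariant_of_prim hχ hp A hθ hc
  have hres := res_eq_smul_of_invariant A hθ hinv hχ hc
  obtain ⟨lam, hlam⟩ := CharBasicLinear.exists_hom_of_comm
    (fun a b : A => Subtype.ext (hA a a.2 b b.2)) hθ
  intro a ha
  refine Subgroup.mem_center_iff.2 fun g => ?_
  have hga : g * a * g⁻¹ ∈ A := ‹A.Normal›.conj_mem a ha g
  have h1 : θ ⟨g * a * g⁻¹, hga⟩ = θ ⟨a, ha⟩ := congrFun (hinv g) ⟨a, ha⟩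
  rw [hlam] at h1
  have h2 : lam ⟨g * a * g⁻¹, hga⟩ = lam ⟨a, ha⟩ := Units.ext h1
  set x : A := ⟨g * a * g⁻¹, hga⟩ * (⟨a, ha⟩ : A)⁻¹ with hx
  have h3 : θ x = θ 1 := by
    rw [hlam]
    simp only [hx, map_mul, map_inv, h2, mul_inv_cancel, map_one]
  have h4 : χ ((x : A) : G) = χ 1 := by
    have e1 := congrFun hres x
    have e2 := congrFun hres 1
    simp only [Pi.smul_apply, OneMemClass.coe_one] at e1 e2
    rw [e1, e2, h3]
  have h5 := hf _ h4
  simp only [hx, Subgroup.coe_mul, Subgroup.coe_inv] at h5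
  exact mul_inv_eq_iff_eq_mul.1 (mul_inv_eq_one.1 h5)

/-- Normal nilpotent subgroups have class at most two. -/
theorem lcs_two_eq_bot (hχ : IsIrrCharacter G χ) (hp : Prim χ)
    (hf : ∀ g : G, χ g = χ 1 → g = 1) (N : Subgroup G) [N.Normal] (hN : Group.IsNilpotent N) :
    ⁅⁅N, N⁆, N⁆ = ⊥ := by
  have hnorm : ∀ k, (N.lowerCentralSeries k).Normal := by
    intro k
    induction k with
    | zero => assumption
    | succ k ih => rw [Subgroup.lowerCentralSeries_succ]; infer_instance
  suffices h : ∀ k, N.lowerCentralSeries (k + 2) = ⊥ → N.lowerCentralSeries 2 = ⊥ by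
    obtain ⟨n, hn⟩ := (Subgroup.isNilpotent_iff_lowerCentralSeries N).1 hN
    exact h n (le_bot_iff.1 (hn ▸ N.lowerCentralSeries_antitone (by omega : n ≤ n + 2)))
  intro k
  induction k with
  | zero => exact id
  | succ k ih =>
    intro hk
    refine ih ?_
    haveI := hnorm (k + 1)
    haveI := hnorm 1
    -- `⁅L 1, L (k+1)⁆ = ⊥`
    have h1 : ⁅⁅N, N⁆, N.lowerCentralSeries (k + 1)⁆ = ⊥ := by
      refine Subgroup.commutator_commutator_eq_bot_of_rotate ?_ ?_
      · rw [Subgroup.commutator_comm N (N.lowerCentralSeries (k + 1))]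
        exact hk
      · exact hk
    have h2 : ⁅N.lowerCentralSeries (k + 1), N.lowerCentralSeries (k + 1)⁆ = ⊥ := by
      refine le_bot_iff.1 (le_trans (Subgroup.commutator_mono ?_ le_rfl) h1.le)
      exact N.lowerCentralSeries_antitone (by omega : 1 ≤ k + 1)
    have h3 := le_center_of_abelian hχ hp hf (N.lowerCentralSeries (k + 1)) (fun a ha b hb =>
      commutatorElement_eq_one_iff_mul_comm.1 (by
        have := Subgroup.commutator_mem_commutator ha hb
        rwa [h2, Subgroup.mem_bot] at this))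
    rw [Subgroup.lowerCentralSeries_succ, Subgroup.commutator_eq_bot_iff_le_centralizer]
    exact h3.trans (Subgroup.center_le_centralizer _)

/-- One prime step. -/
theorem res_irr_step (hχ : IsIrrCharacter G χ) (hp : Prim χ) {X M : Subgroup G} [X.Normal]
    [M.Normal] (hXM : X ≤ M) (hprime : (X.relIndex M).Prime)
    (hM : IsIrrCharacter M (fun m : M => χ m)) :
    IsIrrCharacter X (fun x : X => χ x) := by
  classical
  obtain ⟨φ0, hφ0, hc0⟩ := exists_constituent (isCharacter_res X (isCharacter_of_isIrrCharacter hχ))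
    (res_ne_zero hχ X)
  have hinv0 := invariant_of_prim hχ hp X hφ0 hc0
  let e : X.subgroupOf M ≃* X := Subgroup.subgroupOfEquivOfLe hXM
  set φ := φ0 ∘ e.toMonoidHom with hφdef
  have hφ : IsIrrCharacter (X.subgroupOf M) φ := isIrrCharacter_comap e.toMonoidHom e.surjective hφ0
  have hinv : ∀ m : M, conjFun (X.subgroupOf M) φ m = φ := fun m => funext fun x =>
    congrFun (hinv0 (m : G)) (e x)
  have hc : classInner (fun x : X.subgroupOf M => χ ((x : M) : G)) φ ≠ 0 := by
    intro h
    refine hc0 ?_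
    rw [← classInner_congr_equiv e]
    exact h
  -- cyclic quotient
  haveI : Fact (X.relIndex M).Prime := ⟨hprime⟩
  have hcard : Nat.card (M ⧸ X.subgroupOf M) = X.relIndex M := (Subgroup.index_eq_card _).symm
  haveI hcyc : IsCyclic (M ⧸ X.subgroupOf M) := isCyclic_of_prime_card hcard
  have hab : ∀ a b : M, a * b * a⁻¹ * b⁻¹ ∈ X.subgroupOf M := fun a b => by
    rw [← QuotientGroup.eq_one_iff]
    letI : CommGroup (M ⧸ X.subgroupOf M) := IsCyclic.commGroup
    simp only [QuotientGroup.mk_mul, QuotientGroup.mk_inv]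
    rw [mul_comm (a : M ⧸ X.subgroupOf M) b, mul_inv_cancel_right, mul_inv_cancel]
  obtain ⟨d, ρ, hd0, hd, hch, S, hi, hirr⟩ := CharExtension.exists_setup hφ
    (fun m x => congrFun (hinv m) x)
  obtain ⟨η, hη⟩ := CharExtension.exists_ext_cyclic S hi
    (fun k a hk => CharExtension.exists_root k a hk) hcyc
  obtain ⟨hη1, hη2⟩ := CharExtension.ext_to_char_top hirr η hη
  have hηres : (fun x : X.subgroupOf M => CharExtension.chr η x) = φ := by
    funext x; rw [hη2, hch]
  have heq := res_eq_of_abelian_quotient (X.subgroupOf M) hφ hinv hab hη1 hM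
    (by rw [hηres, classInner_irr_self hφ]; exact one_ne_zero) hc
  have h : (fun x : X => χ x) = φ0 := by
    funext x
    have h1 := congrFun (heq.trans hηres) (e.symm x)
    simp only [hφdef, Function.comp_apply, MulEquiv.coe_toMonoidHom,
      MulEquiv.apply_symm_apply] at h1
    exact h1
  rw [h]; exact hφ0

/-- Restriction to a normal subgroup with `p`-group quotient stays irreducible. -/
theorem res_irr_pgroup (hχ : IsIrrCharacter G χ) (hp : Prim χ) {p : ℕ} [hP : Fact p.Prime] :
    ∀ (n : ℕ) (X : Subgroup G), X.Normal → X.index = n → (∃ k, n = p ^ k) →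
      IsIrrCharacter X (fun x : X => χ x) := by
  classical
  intro n
  induction n using Nat.strong_induction_on with
  | _ n ih =>
    intro X hXn hn hk
    by_cases htop : X = ⊤
    · subst htop
      exact isIrrCharacter_comap (Subgroup.topEquiv (G := G)).toMonoidHom
        (MulEquiv.surjective _) hχ
    obtain ⟨k, hk⟩ := hk
    have hQ : IsPGroup p (G ⧸ X) := IsPGroup.of_card (n := k) (by
      rw [← Subgroup.index_eq_card, hn, hk])
    haveI : Nontrivial (G ⧸ X) := QuotientGroup.nontrivial_iff.2 htop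
    haveI := hQ.center_nontrivial
    have hd : p ∣ Nat.card (Subgroup.center (G ⧸ X)) := by
      obtain h | h := (hQ.to_subgroup (Subgroup.center (G ⧸ X))).card_eq_or_dvd
      · exact absurd h (Finite.one_lt_card).ne'
      · exact h
    obtain ⟨c, hc⟩ := exists_prime_orderOf_dvd_card' p hd
    set C : Subgroup (G ⧸ X) := Subgroup.zpowers (c : G ⧸ X) with hC
    haveI hCn : C.Normal := ⟨fun x hx g => by
      have hxc : x ∈ Subgroup.center (G ⧸ X) := (Subgroup.zpowers_le.2 c.2) hx
      rw [Subgroup.mem_center_iff.1 hxc g, mul_inv_cancel_right]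
      exact hx⟩
    have hCcard : Nat.card C = p := by
      rw [hC, Nat.card_zpowers, Subgroup.orderOf_coe, hc]
    set M : Subgroup G := C.comap (QuotientGroup.mk' X) with hM
    haveI : M.Normal := hCn.comap _
    have hXM : X ≤ M := fun x hx => by
      rw [hM, Subgroup.mem_comap, QuotientGroup.mk'_apply, (QuotientGroup.eq_one_iff x).2 hx]
      exact C.one_mem
    have hMi : M.index = C.index :=
      Subgroup.index_comap_of_surjective _ (QuotientGroup.mk'_surjective X)
    have hni : p * M.index = n := by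
      rw [hMi, ← hn, Subgroup.index_eq_card X, ← C.card_mul_index, hCcard]
    have hrel : X.relIndex M = p := by
      have h := Subgroup.relIndex_mul_index hXM
      rw [hn, ← hni] at h
      exact Nat.eq_of_mul_eq_mul_right (Nat.pos_of_ne_zero Subgroup.index_ne_zero_of_finite) h
    have hMpow : ∃ j, M.index = p ^ j := by
      obtain ⟨j, -, hj⟩ := (Nat.dvd_prime_pow hP.out).1
        (hk ▸ hni ▸ dvd_mul_left M.index p : M.index ∣ p ^ k)
      exact ⟨j, hj⟩
    refine res_irr_step hχ hp hXM (hrel.symm ▸ hP.out) (ih M.index ?_ M inferInstance rfl hMpow)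
    rw [← hni]
    exact lt_mul_of_one_lt_left (Nat.pos_of_ne_zero Subgroup.index_ne_zero_of_finite)
      hP.out.one_lt

end

theorem index_centralizer_mul_comm (a b : G) :
    (Subgroup.centralizer ({a * b} : Set G)).index =
      (Subgroup.centralizer ({b * a} : Set G)).index := by
  have h : Subgroup.centralizer ({b * a} : Set G) =
      (Subgroup.centralizer ({a * b} : Set G)).comap (MulAut.conj a).toMonoidHom := by
    ext x
    simp only [Subgroup.mem_comap, Subgroup.mem_centralizer_singleton_iff,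
      MulEquiv.coe_toMonoidHom, MulAut.conj_apply]
    constructor
    · intro h
      calc a * x * a⁻¹ * (a * b) = a * (x * (b * a)) * a⁻¹ := by group
        _ = a * ((b * a) * x) * a⁻¹ := by rw [h]
        _ = a * b * (a * x * a⁻¹) := by group
    · intro h
      calc x * (b * a) = a⁻¹ * (a * x * a⁻¹ * (a * b)) * a := by group
        _ = a⁻¹ * (a * b * (a * x * a⁻¹)) * a := by rw [h]
        _ = b * a * x := by group
  rw [h, Subgroup.index_comap_of_surjective _ (MulEquiv.surjective _)]

/-- For a normal `N`, `[N : N ∩ C]` divides `[G : C]`. -/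
theorem relIndex_dvd_index' (C N : Subgroup G) [N.Normal] : C.relIndex N ∣ C.index := by
  have e1 := Subgroup.relIndex_mul_index (inf_le_right : C ⊓ N ≤ N)
  have e2 := Subgroup.relIndex_mul_index (inf_le_left : C ⊓ N ≤ C)
  rw [Subgroup.inf_relIndex_right] at e1
  rw [Subgroup.inf_relIndex_left] at e2
  obtain ⟨m, hm⟩ := Subgroup.relIndex_dvd_index_of_normal N C
  refine ⟨m, ?_⟩
  have hne : N.relIndex C ≠ 0 := fun h0 => by
    rw [h0, zero_mul] at e2
    exact Subgroup.index_ne_zero_of_finite e2.symm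
  apply mul_left_cancel₀ hne
  rw [e2, ← e1, hm]
  ring

/-- The statement at one prime. -/
theorem prime_main {χ : G → ℂ} (hχ : IsIrrCharacter G χ) (hp : Prim χ)
    (hf : ∀ g : G, χ g = χ 1 → g = 1) {p q : ℕ} [hP : Fact p.Prime] [hQ : Fact q.Prime]
    (hpq : p ≠ q) (P : Sylow p G) (Q : Sylow q G) (hgen : (P : Subgroup G) ⊔ Q = ⊤)
    (hidx : ∃ k, (Q : Subgroup G).index = p ^ k) (N M : Subgroup G) [N.Normal] [M.Normal]
    (hN : IsPGroup p N) (hM : IsPGroup q M) (hQN : ((Q : Subgroup G) ⊔ N).Normal)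
    (hcomm : ∀ a ∈ (P : Subgroup G), ∀ b ∈ (Q : Subgroup G), ⁅a, b⁆ ∈ N ⊔ M) :
    ∃ b ∈ (Q : Subgroup G), ∀ (e : ℕ), p ^ e ∣ charDegree χ → ∀ a ∈ (P : Subgroup G),
      p ^ e ∣ (Subgroup.centralizer ({a * b} : Set G)).index := by
  classical
  -- the centre of `N`
  set Z : Subgroup G := N ⊓ Subgroup.centralizer (N : Set G) with hZ
  haveI hZn : Z.Normal := inferInstanceAs (N ⊓ Subgroup.centralizer (N : Set G)).Normal
  have hZc : Z ≤ Subgroup.center G := le_center_of_abelian hχ hp hf Z
    (fun a ha b hb => (Subgroup.mem_centralizer_iff.1 ha.2 b hb.1).symm)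
  let π : G →* G ⧸ Z := QuotientGroup.mk' Z
  have hπ1 : ∀ g, π g = 1 ↔ g ∈ Z := fun g => QuotientGroup.eq_one_iff g
  let V : Subgroup (G ⧸ Z) := N.map π
  haveI hVn : V.Normal := ‹N.Normal›.map π (QuotientGroup.mk'_surjective Z)
  have hVc : ∀ x y : V, x * y = y * x := by
    rintro ⟨_, x, hx, rfl⟩ ⟨_, y, hy, rfl⟩
    apply Subtype.ext
    show π x * π y = π y * π x
    rw [← commutatorElement_eq_one_iff_mul_comm, ← map_commutatorElement, hπ1]
    have h2 := lcs_two_eq_bot hχ hp hf N hN.isNilpotent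
    rw [Subgroup.commutator_eq_bot_iff_le_centralizer] at h2
    exact ⟨Subgroup.commutator_le_right N N (Subgroup.commutator_mem_commutator hx hy),
      h2 (Subgroup.commutator_mem_commutator hx hy)⟩
  letI : CommGroup V := { (inferInstance : Group V) with mul_comm := hVc }
  have hVp : IsPGroup p V := hN.map π
  have hcop : (Nat.card V).Coprime q := by
    obtain ⟨k, hk⟩ := hVp.exists_card_eq
    rw [hk]
    exact Nat.Coprime.pow_left _ ((Nat.coprime_primes hP.out hQ.out).2 hpq)
  -- the action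
  let ψ : G →* MulAut V := (MulAut.conjNormal : G ⧸ Z →* MulAut V).comp π
  have hψ : ∀ (g : G) (v : V), ((ψ g v : V) : G ⧸ Z) = π g * v * (π g)⁻¹ := fun g v =>
    MulAut.conjNormal_apply (π g) v
  have hψ1 : ∀ g, (∀ v : V, π g * v = v * π g) → ψ g = 1 := fun g h => MulEquiv.ext fun v =>
    Subtype.ext (by rw [hψ, h v, mul_inv_cancel_right]; rfl)
  have hNM : N ⊔ M ≤ ψ.ker := by
    have hdis : Disjoint N M := IsPGroup.disjoint_of_ne p q hpq N M hN hM
    refine sup_le (fun n hn => ?_) (fun m hm => ?_)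
    · rw [MonoidHom.mem_ker]
      refine hψ1 n fun v => ?_
      exact congrArg Subtype.val (hVc ⟨π n, n, hn, rfl⟩ v)
    · rw [MonoidHom.mem_ker]
      refine hψ1 m ?_
      rintro ⟨_, n, hn, rfl⟩
      show π m * π n = π n * π m
      rw [← map_mul, ← map_mul, (Subgroup.commute_of_normal_of_disjoint N M inferInstance
        inferInstance hdis n m hn hm).eq]
  have hψcomm : ∀ a ∈ (P : Subgroup G), ∀ b ∈ (Q : Subgroup G),
      ψ a * ψ b = ψ b * ψ a := fun a ha b hb => by
    rw [← commutatorElement_eq_one_iff_mul_comm, ← map_commutatorElement]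
    exact MonoidHom.mem_ker.1 (hNM (hcomm a ha b hb))
  have hNP : N ≤ P := by
    have h := P.is_maximal' (P.isPGroup'.to_sup_of_normal_right hN) le_sup_left
    exact sup_eq_left.1 h
  let ρ : (Q : Subgroup G) →* MulAut V := ψ.comp (Q : Subgroup G).subtype
  -- no common fixed points
  have hfree : ∀ v : V, (∀ b, ρ b v = v) → v = 1 := by
    intro v0 hv0
    by_contra hne
    set Pb : Subgroup (G ⧸ Z) := (P : Subgroup G).map π with hPb
    set Y : Subgroup (G ⧸ Z) :=
      V ⊓ Subgroup.centralizer ((Q : Subgroup G).map π : Set (G ⧸ Z)) with hY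
    have hYmem : ∀ v : V, (v : G ⧸ Z) ∈ Y ↔ ∀ b ∈ (Q : Subgroup G), ψ b v = v := by
      intro v
      simp only [hY, Subgroup.mem_inf, v.2, true_and, Subgroup.mem_centralizer_iff,
        SetLike.mem_coe, Subgroup.mem_map]
      constructor
      · intro h b hb
        apply Subtype.ext
        rw [hψ, h _ ⟨b, hb, rfl⟩, mul_inv_cancel_right]
      · rintro h _ ⟨b, hb, rfl⟩
        have h1 := congrArg Subtype.val (h b hb)
        rw [hψ] at h1
        exact mul_inv_eq_iff_eq_mul.1 h1
    have hYP : Y ≤ Pb := inf_le_left.trans (Subgroup.map_mono hNP)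
    haveI hYn : (Y.subgroupOf Pb).Normal := ⟨by
      rintro ⟨y, hy0⟩ hy ⟨_, a, ha, rfl⟩
      rw [Subgroup.mem_subgroupOf] at hy ⊢
      let y' : V := ⟨y, hy.1⟩
      have h2 : ((ψ a y' : V) : G ⧸ Z) ∈ Y := (hYmem _).2 fun b hb => by
        rw [← MulAut.mul_apply, ← hψcomm a ha b hb, MulAut.mul_apply, (hYmem y').1 hy b hb]
      rw [hψ] at h2
      exact h2⟩
    have hYne : Y.subgroupOf Pb ≠ ⊥ := fun h => by
      have h1 : (v0 : G ⧸ Z) ∈ Y := (hYmem v0).2 fun b hb => hv0 ⟨b, hb⟩
      have h2 : (⟨v0, hYP h1⟩ : Pb) ∈ Y.subgroupOf Pb := h1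
      rw [h, Subgroup.mem_bot] at h2
      exact hne (Subtype.ext (by simpa using congrArg Subtype.val h2))
    obtain ⟨v, hv, hv1⟩ := (Subgroup.bot_or_exists_ne_one _).resolve_left
      (PGroupsBasic.inf_center_ne_bot (P.isPGroup'.map π) hYne)
    obtain ⟨y, hy, hyv⟩ := (Subgroup.mem_subgroupOf.1 hv.1).1
    -- `v` is central in `G ⧸ Z`
    have hcent : ∀ g, π g * (v : G ⧸ Z) = v * π g := by
      have hle : (P : Subgroup G) ⊔ Q ≤ (Subgroup.centralizer {(v : G ⧸ Z)}).comap π := by
        refine sup_le (fun a ha => ?_) (fun b hb => ?_)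
        · rw [Subgroup.mem_comap, Subgroup.mem_centralizer_singleton_iff]
          exact congrArg Subtype.val (Subgroup.mem_center_iff.1 hv.2 ⟨π a, a, ha, rfl⟩)
        · rw [Subgroup.mem_comap, Subgroup.mem_centralizer_singleton_iff]
          exact (Subgroup.mem_centralizer_iff.1 (Subgroup.mem_subgroupOf.1 hv.1).2 (π b)
            ⟨b, hb, rfl⟩)
      intro g
      have h := hle (hgen.symm ▸ Subgroup.mem_top g)
      rwa [Subgroup.mem_comap, Subgroup.mem_centralizer_singleton_iff] at h
    set A : Subgroup G := (Subgroup.zpowers (v : G ⧸ Z)).comap π with hA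
    haveI : (Subgroup.zpowers (v : G ⧸ Z)).Normal := ⟨by
      intro x hx g
      obtain ⟨g, rfl⟩ := QuotientGroup.mk'_surjective Z g
      obtain ⟨i, rfl⟩ := Subgroup.mem_zpowers_iff.1 hx
      rw [(Commute.zpow_right (hcent g : Commute (π g) (v : G ⧸ Z)) i).eq, mul_inv_cancel_right]
      exact hx⟩
    haveI : A.Normal := Subgroup.Normal.comap inferInstance π
    have hAel : ∀ x ∈ A, ∃ (i : ℤ) (z : G), z ∈ Z ∧ x = y ^ i * z := by
      intro x hx
      obtain ⟨i, hi⟩ := Subgroup.mem_zpowers_iff.1 (Subgroup.mem_comap.1 hx)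
      refine ⟨i, (y ^ i)⁻¹ * x, (hπ1 _).1 ?_, by group⟩
      rw [map_mul, map_inv, map_zpow, hyv, hi, inv_mul_cancel]
    have hAab : ∀ a ∈ A, ∀ b ∈ A, a * b = b * a := by
      intro a ha b hb
      obtain ⟨i, z, hz, rfl⟩ := hAel a ha
      obtain ⟨j, w, hw, rfl⟩ := hAel b hb
      have hz' : ∀ g, Commute g z := Subgroup.mem_center_iff.1 (hZc hz)
      have hw' : ∀ g, Commute g w := Subgroup.mem_center_iff.1 (hZc hw)
      exact (((Commute.zpow_zpow_self y i j).mul_right (hw' _)).mul_left
        ((hz' _).symm.mul_right (hw' _))).eq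
    have hyZ : y ∈ Z := by
      have hyA : y ∈ A := by
        rw [hA, Subgroup.mem_comap, hyv]
        exact Subgroup.mem_zpowers _
      refine ⟨hy, Subgroup.center_le_centralizer _ (le_center_of_abelian hχ hp hf A hAab hyA)⟩
    refine hv1 (Subtype.ext ?_)
    rw [← hyv]
    exact (hπ1 y).2 hyZ
  -- the element `b`
  obtain ⟨b, hb⟩ := CoprimeFixAverage87.exists_sq_fix_le Q.isPGroup' hcop ρ hfree
  refine ⟨(b : G), b.2, fun e he a ha => ?_⟩
  -- degree bound
  have hdeg : p ^ (2 * e) ≤ Nat.card V := by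
    obtain ⟨k, hk⟩ := hidx
    set X : Subgroup G := (Q : Subgroup G) ⊔ N with hX
    haveI : X.Normal := hQN
    obtain ⟨j, -, hj⟩ := (Nat.dvd_prime_pow hP.out).1
      (hk ▸ Subgroup.index_dvd_of_le (le_sup_left : (Q : Subgroup G) ≤ X) : X.index ∣ p ^ k)
    have hθ : IsIrrCharacter X (fun x : X => χ x) :=
      res_irr_pgroup hχ hp X.index X hQN rfl ⟨j, hj⟩
    have hNX : N ≤ X := le_sup_right
    obtain ⟨φ, hφ, hc⟩ := exists_constituent
      (isCharacter_res (N.subgroupOf X) (isCharacter_of_isIrrCharacter hθ))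
      (res_ne_zero hθ (N.subgroupOf X))
    obtain ⟨m, d, hd, hdm, hm⟩ := CharProjDegree.degree_dvd (N.subgroupOf X) hθ hφ hc
    have hm' : Nat.Coprime (p ^ e) m := by
      have h1 : m ∣ Nat.card (Q : Subgroup G) := by
        refine hm.trans ?_
        rw [← Subgroup.relIndex, hX, Subgroup.relIndex_sup_right]
        exact Subgroup.relIndex_dvd_card _ _
      obtain ⟨i, hi⟩ := Q.isPGroup'.exists_card_eq
      rw [hi] at h1
      exact Nat.Coprime.coprime_dvd_right h1
        (Nat.Coprime.pow _ _ ((Nat.coprime_primes hP.out hQ.out).2 hpq))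
    have hcd : charDegree χ = d * m := by
      have h : χ 1 = ((d * m : ℕ) : ℂ) := by simpa using hdm
      rw [charDegree, h, Complex.natCast_re, Nat.floor_natCast]
    rw [hcd] at he
    have hed : p ^ e ∣ d := hm'.dvd_of_dvd_mul_right he
    let eN : N.subgroupOf X ≃* N := Subgroup.subgroupOfEquivOfLe hNX
    have hφ' : IsIrrCharacter N (φ ∘ eN.symm.toMonoidHom) :=
      isIrrCharacter_comap eN.symm.toMonoidHom eN.symm.surjective hφ
    have hsq := TwoDegreesPrime72.sq_le_index_center hφ' (d := d)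
      (by simpa using hd)
    have hidxV : (Subgroup.center N).index = Nat.card V := by
      have hker : (π.subgroupMap N).ker = Subgroup.center N := by
        ext x
        rw [MonoidHom.mem_ker, Subgroup.mem_center_iff, Subtype.ext_iff]
        show π x = 1 ↔ _
        rw [hπ1, hZ, Subgroup.mem_inf, Subgroup.mem_centralizer_iff]
        constructor
        · rintro ⟨-, h⟩ g; exact Subtype.ext (h g g.2)
        · intro h; exact ⟨x.2, fun g hg => congrArg Subtype.val (h ⟨g, hg⟩)⟩
      rw [← hker, Subgroup.index_ker, MonoidHom.range_eq_top.2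
        (π.subgroupMap_surjective N), Subgroup.card_top]
    have hd0 : 0 < d := by
      obtain ⟨d', hd', hd''⟩ := isIrrCharacter_apply_one hφ
      rw [hd] at hd''
      exact (Nat.cast_inj.1 hd'') ▸ hd'
    calc p ^ (2 * e) = (p ^ e) ^ 2 := by rw [← pow_mul, mul_comm]
      _ ≤ d ^ 2 := Nat.pow_le_pow_left (Nat.le_of_dvd hd0 hed) 2
      _ ≤ _ := hidxV ▸ hsq
  -- fixed points of `a * b` are fixed by `b`
  have hsub : (Subgroup.centralizer ({a * (b : G)} : Set G)).subgroupOf N ≤
      (CoprimeFixAverage87.fx (ρ b)).comap (π.subgroupMap N) := by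
    intro x hx
    rw [Subgroup.mem_subgroupOf, Subgroup.mem_centralizer_singleton_iff] at hx
    rw [Subgroup.mem_comap, CoprimeFixAverage87.mem_fx]
    set v : V := π.subgroupMap N x with hv
    have h1 : ψ (a * b) v = v := by
      apply Subtype.ext
      rw [hψ]
      show π (a * b) * π x * (π (a * b))⁻¹ = π x
      rw [← map_mul, ← hx, map_mul, mul_inv_cancel_right]
    show ψ (b : G) v = v
    obtain ⟨i, hi⟩ := P.isPGroup' ⟨a, ha⟩
    have hi' : a ^ p ^ i = 1 := congrArg Subtype.val hi
    obtain ⟨j, hj⟩ := Q.isPGroup' b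
    have hj' : (b : G) ^ q ^ j = 1 := congrArg Subtype.val hj
    have h2 : ψ ((b : G) ^ p ^ i) v = v := by
      have h3 : ψ ((a * b) ^ p ^ i) = ψ ((b : G) ^ p ^ i) := by
        rw [map_pow, map_mul, (show Commute (ψ a) (ψ b) from hψcomm a ha b b.2).mul_pow,
          ← map_pow, hi', map_one, one_mul, map_pow]
      rw [← h3]
      exact CoprimeFixAverage87.pow_fix ψ h1 _
    obtain ⟨m, hm⟩ := exists_pow_eq_self_of_coprime (x := (b : G)) (n := p ^ i)
      (Nat.Coprime.coprime_dvd_right (orderOf_dvd_of_pow_eq_one hj')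
        (Nat.Coprime.pow _ _ ((Nat.coprime_primes hP.out hQ.out).2 hpq)))
    rw [← hm]
    exact CoprimeFixAverage87.pow_fix ψ h2 m
  have hdvd : (CoprimeFixAverage87.fx (ρ b)).index ∣
      (Subgroup.centralizer ({a * (b : G)} : Set G)).index := by
    refine dvd_trans ?_ (relIndex_dvd_index' _ N)
    have h := Subgroup.index_dvd_of_le hsub
    rw [Subgroup.index_comap_of_surjective _ (π.subgroupMap_surjective N)] at h
    exact h
  refine dvd_trans ?_ hdvd
  set F := CoprimeFixAverage87.fx (ρ b) with hF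
  obtain ⟨j, hj⟩ := hVp.index F
  rw [hj]
  refine pow_dvd_pow p ?_
  have h1 : Nat.card V ≤ F.index ^ 2 := by
    have h2 : Nat.card F * F.index = Nat.card V := F.card_mul_index
    have h3 : Nat.card F ≤ F.index := by
      refine Nat.le_of_mul_le_mul_left (a := Nat.card F) ?_ (Nat.card_pos (α := F))
      rw [h2, ← sq]
      exact hb
    rw [← h2, sq]
    exact Nat.mul_le_mul_right _ h3
  rw [hj, ← pow_mul] at h1
  have := (Nat.pow_le_pow_iff_right hP.out.one_lt).1 (hdeg.trans h1)
  omega

/-- Two-prime groups: Sylow subgroups generate, indices are prime powers. -/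
theorem sylow_index_pow {H : Type*} [Group H] [Finite H] {p q : ℕ} [hQ : Fact q.Prime]
    (h : ∀ r, r.Prime → r ∣ Nat.card H → r = p ∨ r = q) (Q : Sylow q H) :
    ∃ k, (Q : Subgroup H).index = p ^ k := by
  refine ⟨_, Nat.eq_prime_pow_of_unique_prime_dvd Subgroup.index_ne_zero_of_finite
    fun {r} hr hrd => ?_⟩
  rcases h r hr (hrd.trans (Subgroup.index_dvd_card _)) with h1 | h1
  · exact h1
  · exact absurd (h1 ▸ hrd) Q.not_dvd_index

theorem sylow_sup {H : Type*} [Group H] [Finite H] {p q : ℕ} [hP : Fact p.Prime]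
    [hQ : Fact q.Prime] (hpq : p ≠ q) (h : ∀ r, r.Prime → r ∣ Nat.card H → r = p ∨ r = q)
    (P : Sylow p H) (Q : Sylow q H) : (P : Subgroup H) ⊔ Q = ⊤ := by
  obtain ⟨i, hi⟩ := sylow_index_pow h Q
  obtain ⟨j, hj⟩ := sylow_index_pow (p := q) (q := p) (fun r hr hd => (h r hr hd).symm) P
  rw [← Subgroup.index_eq_one]
  refine Nat.eq_one_of_dvd_coprimes (Nat.Coprime.pow i j ((Nat.coprime_primes hP.out hQ.out).2 hpq))
    ?_ ?_
  · rw [← hi]; exact Subgroup.index_dvd_of_le le_sup_right
  · rw [← hj]; exact Subgroup.index_dvd_of_le le_sup_left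

/-- The faithful case. -/
theorem faithful_main {χ : G → ℂ} (hχ : IsIrrCharacter G χ) (hp : Prim χ)
    (hf : ∀ g : G, χ g = χ 1 → g = 1) {p q : ℕ} [hP : Fact p.Prime] [hQ : Fact q.Prime]
    (hpq : p ≠ q) (hpr : ∀ r, r.Prime → r ∣ Nat.card G → r = p ∨ r = q)
    (F : Subgroup G) [hFn : F.Normal] (hFnil : Group.IsNilpotent F)
    (hmeta : Group.IsNilpotent (G ⧸ F)) (hd : charDegree χ ∣ Nat.card G) :
    ∃ g : G, charDegree χ ∣ (Subgroup.centralizer ({g} : Set G)).index := by
  classical
  obtain ⟨PF⟩ : Nonempty (Sylow p F) := inferInstance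
  obtain ⟨QF⟩ : Nonempty (Sylow q F) := inferInstance
  haveI := Sylow.characteristic_of_normal PF
    (Sylow.normal_of_normalizerCondition Group.normalizerCondition_of_isNilpotent PF)
  haveI := Sylow.characteristic_of_normal QF
    (Sylow.normal_of_normalizerCondition Group.normalizerCondition_of_isNilpotent QF)
  set N : Subgroup G := (PF : Subgroup F).map F.subtype with hN
  set M : Subgroup G := (QF : Subgroup F).map F.subtype with hM
  haveI : N.Normal := ConjAct.normal_of_characteristic_of_normal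
  haveI : M.Normal := ConjAct.normal_of_characteristic_of_normal
  have hNp : IsPGroup p N := PF.isPGroup'.map _
  have hMp : IsPGroup q M := QF.isPGroup'.map _
  have hNM : N ⊔ M = F := by
    rw [hN, hM, ← Subgroup.map_sup, sylow_sup hpq (fun r hr hdvd =>
      hpr r hr (hdvd.trans (Subgroup.card_subgroup_dvd_card F))) PF QF,
      ← MonoidHom.range_eq_map, Subgroup.range_subtype]
  obtain ⟨P⟩ : Nonempty (Sylow p G) := inferInstance
  obtain ⟨Q⟩ : Nonempty (Sylow q G) := inferInstance
  let π := QuotientGroup.mk' F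
  have hsurj : Function.Surjective π := QuotientGroup.mk'_surjective F
  have hPn : ((P : Subgroup G).map π).Normal :=
    Sylow.normal_of_normalizerCondition Group.normalizerCondition_of_isNilpotent
      (P.mapSurjective hsurj)
  have hQn : ((Q : Subgroup G).map π).Normal :=
    Sylow.normal_of_normalizerCondition Group.normalizerCondition_of_isNilpotent
      (Q.mapSurjective hsurj)
  have hMQ : M ≤ Q :=
    sup_eq_left.1 (Q.is_maximal' (Q.isPGroup'.to_sup_of_normal_right hMp) le_sup_left)
  have hNP : N ≤ P :=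
    sup_eq_left.1 (P.is_maximal' (P.isPGroup'.to_sup_of_normal_right hNp) le_sup_left)
  have hsupn : ∀ (R N' M' : Subgroup G), N' ⊔ M' = F → M' ≤ R → (R.map π).Normal →
      (R ⊔ N').Normal := by
    intro R N' M' h1 h2 h3
    have h4 : R ⊔ N' = (R.map π).comap π := by
      rw [Subgroup.comap_map_eq, QuotientGroup.ker_mk', ← h1]
      exact le_antisymm (sup_le le_sup_left (le_sup_left.trans le_sup_right))
        (sup_le le_sup_left (sup_le le_sup_right (h2.trans le_sup_left)))
    rw [h4]
    exact h3.comap π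
  have hcomm : ∀ a ∈ (P : Subgroup G), ∀ b ∈ (Q : Subgroup G), ⁅a, b⁆ ∈ N ⊔ M := by
    intro a ha b hb
    rw [hNM, ← QuotientGroup.eq_one_iff]
    show π ⁅a, b⁆ = 1
    rw [map_commutatorElement, commutatorElement_eq_one_iff_mul_comm]
    exact (Subgroup.commute_of_normal_of_disjoint _ _ hPn hQn
      (IsPGroup.disjoint_of_ne p q hpq _ _ (P.isPGroup'.map π) (Q.isPGroup'.map π))
      _ _ ⟨a, ha, rfl⟩ ⟨b, hb, rfl⟩).eq
  obtain ⟨b, hb, hbp⟩ := prime_main hχ hp hf hpq P Q (sylow_sup hpq hpr P Q)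
    (sylow_index_pow hpr Q) N M hNp hMp (hsupn Q N M hNM hMQ hQn) hcomm
  obtain ⟨a, ha, haq⟩ := prime_main (p := q) (q := p) hχ hp hf hpq.symm Q P
    ((sup_comm _ _).trans (sylow_sup hpq hpr P Q))
    (sylow_index_pow (fun r hr hdvd => (hpr r hr hdvd).symm) P) M N hMp hNp
    (hsupn P M N ((sup_comm _ _).trans hNM) hNP hPn)
    (fun x hx y hy => by
      rw [sup_comm, ← commutatorElement_inv]
      exact (N ⊔ M).inv_mem (hcomm y hy x hx))
  refine ⟨a * b, (Nat.dvd_iff_prime_pow_dvd_dvd _ _).2 fun r k hr hrk => ?_⟩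
  rcases Nat.eq_zero_or_pos k with rfl | hk
  · simp
  rcases hpr r hr ((dvd_pow_self r hk.ne').trans (hrk.trans hd)) with rfl | rfl
  · exact hbp k hrk a ha
  · rw [index_centralizer_mul_comm]
    exact haq k hrk b hb

/-- A deflation of a primitive character is primitive. -/
theorem prim_of_quot {χ : G → ℂ} (hp : Prim χ) (K : Subgroup G) [K.Normal] [Fintype (G ⧸ K)]
    {ψ : G ⧸ K → ℂ} (hψ : ∀ g, χ g = ψ (QuotientGroup.mk g)) : Prim ψ := by
  classical
  rintro ⟨H, hH, θ, hθ, hind⟩
  let π : G →* G ⧸ K := QuotientGroup.mk' K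
  have hπ : Function.Surjective π := QuotientGroup.mk'_surjective K
  refine hp ⟨H.comap π, fun h => hH ?_, θ ∘ (π.subgroupComap H), isCharacter_comap _ hθ, ?_⟩
  · rw [← Subgroup.map_comap_eq_self_of_surjective hπ H, h, Subgroup.map_top_of_surjective π hπ]
  funext g
  rw [hψ, ← hind]
  simp only [indFun]
  have hext : ∀ x : G, extendByZero (H.comap π) (θ ∘ π.subgroupComap H) x = extendByZero H θ (π x) := by
    intro x
    by_cases hx : π x ∈ H
    · rw [ext_zero_of_mem _ (x := π x) hx, ext_zero_of_mem _ (show x ∈ H.comap π from hx)]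
      rfl
    · rw [ext_zero_of_not_mem _ hx, ext_zero_of_not_mem _ (show x ∉ H.comap π from hx)]
  simp only [hext, map_mul, map_inv]
  have hfib : ∀ f : G ⧸ K → ℂ, ∑ x : G, f (π x) = (Nat.card K : ℂ) * ∑ y : G ⧸ K, f y := by
    intro f
    rw [← Finset.sum_fiberwise_of_maps_to (t := Finset.univ) (g := π) (fun _ _ => Finset.mem_univ _),
      Finset.mul_sum]
    refine Finset.sum_congr rfl fun y _ => ?_
    obtain ⟨y, rfl⟩ := hπ y
    rw [Finset.sum_congr rfl (g := fun _ => f (π y)) (fun x hx => by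
      rw [(Finset.mem_filter.1 hx).2]), Finset.sum_const, nsmul_eq_mul]
    congr 2
    rw [← Fintype.card_subtype, ← Nat.card_eq_fintype_card]
    refine Nat.card_congr
      { toFun := fun x => ⟨y⁻¹ * x.1, QuotientGroup.eq.1 x.2.symm⟩
        invFun := fun k => ⟨y * k.1, by
          show π (y * k.1) = π y
          rw [map_mul]
          simp [π]⟩
        left_inv := fun x => by simp
        right_inv := fun k => by simp }
  rw [hfib (fun y => extendByZero H θ (y⁻¹ * π g * y))]
  have hcard : Nat.card (H.comap π) = Nat.card K * Nat.card H := by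
    apply Nat.eq_of_mul_eq_mul_right (Nat.pos_of_ne_zero (H.comap π).index_ne_zero_of_finite)
    rw [Subgroup.card_mul_index, Subgroup.index_comap_of_surjective _ hπ, mul_assoc,
      Subgroup.card_mul_index, ← Subgroup.index_eq_card, Subgroup.card_mul_index]
  have hK : (Nat.card K : ℂ) ≠ 0 := Nat.cast_ne_zero.2 Nat.card_pos.ne'
  rw [hcard, Nat.cast_mul, mul_inv, ← mul_assoc]
  congr 1
  field_simp

theorem centralizer_index_quot (K : Subgroup G) [K.Normal] (g : G) :
    (Subgroup.centralizer ({(g : G ⧸ K)} : Set (G ⧸ K))).index ∣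
      (Subgroup.centralizer ({g} : Set G)).index := by
  refine dvd_trans (Subgroup.index_dvd_of_le ?_)
    (Subgroup.index_map_dvd _ (QuotientGroup.mk'_surjective K))
  rintro _ ⟨x, hx, rfl⟩
  rw [SetLike.mem_coe, Subgroup.mem_centralizer_singleton_iff] at hx
  rw [Subgroup.mem_centralizer_singleton_iff, QuotientGroup.mk'_apply, ← QuotientGroup.mk_mul, hx,
    QuotientGroup.mk_mul]

end Cfsg.Agent.PrimitiveMetanilp87
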