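import Mathlib
import Cfsg.Agent.Lib.CoprimeFixAverage87

/-!
Average fixed-point bound for solvable groups: if a solvable group acts irreducibly and
non-trivially on a finite abelian `p`-group `V`, then the product of the fixed-point counts has
square at most `|V| ^ |G|` (average fixed-space dimension at most one half).
-/

set_option autoImplicit false

namespace Cfsg.Agent.SolvableFixAverage87

open CoprimeFixAverage87

variable {V : Type*} [CommGroup V]

/-- The common fixed points of a group of automorphisms. -/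
def fix (K : Subgroup (MulAut V)) : Subgroup V where
  carrier := {v | ∀ k ∈ K, k v = v}
  mul_mem' := fun {a b} ha hb k hk => by rw [map_mul, ha k hk, hb k hk]
  one_mem' := fun k _ => map_one k
  inv_mem' := fun {a} ha k hk => by rw [map_inv, ha k hk]

theorem mem_fix {K : Subgroup (MulAut V)} {v : V} : v ∈ fix K ↔ ∀ k ∈ K, k v = v := Iff.rfl

/-- The norm map of a finite group of automorphisms. -/
noncomputable def norm (K : Subgroup (MulAut V)) [Fintype K] : V →* V :=
  MonoidHom.mk' (fun v => ∏ k : K, (k : MulAut V) v) (fun a b => by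
    simp only [map_mul, Finset.prod_mul_distrib])

theorem norm_apply (K : Subgroup (MulAut V)) [Fintype K] (v : V) :
    norm K v = ∏ k : K, (k : MulAut V) v := rfl

theorem norm_fix (K : Subgroup (MulAut V)) [Fintype K] {v : V} (hv : v ∈ fix K) :
    norm K v = v ^ Fintype.card K := by
  have h : ∀ k : K, (k : MulAut V) v = v := fun k => hv (k : MulAut V) k.2
  rw [norm_apply, Finset.prod_congr rfl fun k _ => h k, Finset.prod_const, Finset.card_univ]

theorem norm_mem_fix (K : Subgroup (MulAut V)) [Fintype K] (v : V) : norm K v ∈ fix K := by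
  intro l hl
  rw [norm_apply, map_prod]
  exact Fintype.prod_equiv (Equiv.mulLeft (⟨l, hl⟩ : K)) _ _ fun k => rfl

theorem norm_comm (K : Subgroup (MulAut V)) [Fintype K] {y : MulAut V}
    (h : ∀ k ∈ K, y * k = k * y) (v : V) : norm K (y v) = y (norm K v) := by
  rw [norm_apply, norm_apply, map_prod]
  refine Finset.prod_congr rfl fun k _ => ?_
  rw [← MulAut.mul_apply, ← h k k.2, MulAut.mul_apply]

/-- A norm map turns fixed points into fixed points, up to the kernel. -/
theorem card_fix_le [Finite V] (f : V →* V) (X Y Z : Subgroup V) (hY : ∀ v ∈ X, f v = 1 → v ∈ Y)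
    (hZ : ∀ v ∈ X, f v ∈ Z) : Nat.card X ≤ Nat.card Y * Nat.card Z := by
  let g : X →* Z := (f.comp X.subtype).codRestrict Z fun v => hZ v v.2
  rw [← g.ker.card_mul_index, Subgroup.index_ker]
  refine Nat.mul_le_mul (Nat.card_le_card_of_injective (fun v : g.ker => (⟨((v : X) : V),
    hY _ (v : X).2 (congrArg Subtype.val v.2)⟩ : Y)) ?_) (Subgroup.card_le_card_group _)
  intro a b h
  exact Subtype.ext (Subtype.ext (congrArg Subtype.val h :))

/-- One coset of a coprime abelian group of automorphisms without fixed points. -/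
theorem coset_bound [Finite V] (A : Subgroup (MulAut V)) [Fintype A]
    (hA : ∀ a ∈ A, ∀ b ∈ A, a * b = b * a) (hcop : (Nat.card V).Coprime (Nat.card A))
    (x : MulAut V) (hx : ∀ a ∈ A, x * a * x⁻¹ ∈ A) :
    ∀ (n : ℕ) (U : Subgroup V), Nat.card U = n → (∀ u ∈ U, x u ∈ U) →
      (∀ a ∈ A, ∀ u ∈ U, a u ∈ U) → (∀ u ∈ U, (∀ a ∈ A, a u = u) → u = 1) →
      (∏ a : A, Nat.card ↥(U ⊓ fx (x * (a : MulAut V)))) ^ 2 ≤ Nat.card U ^ Fintype.card A := by
  classical
  haveI : Finite (MulAut V) :=
    Finite.of_injective (fun e : MulAut V => (e : V → V)) DFunLike.coe_injective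
  intro n
  induction n using Nat.strong_induction_on with
  | _ n ih =>
    intro U hUn hUx hUA hfree
    by_cases hUb : U = ⊥
    · subst hUb; simp
    obtain ⟨u0, hu0, hu01⟩ := (Subgroup.bot_or_exists_ne_one U).resolve_left hUb
    -- a maximal subgroup with non-trivial fixed points
    have hex : ({K : Subgroup (MulAut V) | K ≤ A ∧ U ⊓ fix K ≠ ⊥}).Nonempty :=
      ⟨⊥, bot_le, fun h => hu01 (by
        have : u0 ∈ U ⊓ fix ⊥ := ⟨hu0, fun k hk => by rw [Subgroup.mem_bot.1 hk]; rfl⟩
        rwa [h, Subgroup.mem_bot] at this)⟩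
    obtain ⟨K, ⟨hKA, hKfix⟩, hKmax⟩ := (Set.toFinite _).exists_maximal hex
    have hbig : ∀ L : Subgroup (MulAut V), L ≤ A → K < L → ∀ u ∈ U, u ∈ fix L → u = 1 := by
      intro L hLA hKL u hu huL
      by_contra hne
      refine hKL.not_ge (hKmax ⟨hLA, fun h => hne ?_⟩ hKL.le)
      have : u ∈ U ⊓ fix L := ⟨hu, huL⟩
      rwa [h, Subgroup.mem_bot] at this
    haveI : Fintype K := Fintype.ofFinite _
    set P := norm K with hP
    have hKcop : (Nat.card V).Coprime (Fintype.card K) := by
      rw [← Nat.card_eq_fintype_card]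
      exact Nat.Coprime.coprime_dvd_right (Subgroup.card_dvd_of_le hKA) hcop
    set U1 := U ⊓ fix K with hU1
    have hPU : ∀ u ∈ U, P u ∈ U1 := fun u hu =>
      ⟨U.prod_mem fun k _ => hUA _ (hKA k.2) u hu, norm_mem_fix K u⟩
    have hPA : ∀ a ∈ A, ∀ v, P (a v) = a (P v) := fun a ha v =>
      norm_comm K (fun k hk => hA a ha k (hKA hk)) v
    set K' : Subgroup (MulAut V) := K.map (MulAut.conj x).toMonoidHom with hK'
    have hK'A : K' ≤ A := by
      rintro _ ⟨k, hk, rfl⟩
      exact hx k (hKA hk)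
    -- the sum over the coset, split along `N`
    have key : ∀ (N : Subgroup V), N ≤ U → N ≠ U → (∀ u ∈ N, x u ∈ N) →
        (∀ a ∈ A, ∀ u ∈ N, a u ∈ N) → ∀ (B : A → ℕ) (m : ℕ),
        (∀ a : A, Nat.card ↥(U ⊓ fx (x * (a : MulAut V))) ≤
          Nat.card ↥(N ⊓ fx (x * (a : MulAut V))) * B a) →
        (∏ a, B a) ^ 2 ≤ m ^ Fintype.card A → Nat.card N * m ≤ Nat.card U →
        (∏ a : A, Nat.card ↥(U ⊓ fx (x * (a : MulAut V)))) ^ 2 ≤
          Nat.card U ^ Fintype.card A := by
      intro N hNU hne hNx hNA B m h1 h2 h3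
      have hlt : Nat.card N < n := hUn ▸ lt_of_le_of_ne (Subgroup.card_le_of_le hNU)
        (fun h => hne (Subgroup.eq_of_le_of_card_ge hNU h.ge))
      have h4 := ih _ hlt N rfl hNx hNA fun u hu h => hfree u (hNU hu) h
      calc (∏ a : A, Nat.card ↥(U ⊓ fx (x * (a : MulAut V)))) ^ 2
          ≤ (∏ a : A, Nat.card ↥(N ⊓ fx (x * (a : MulAut V))) * B a) ^ 2 :=
            Nat.pow_le_pow_left (Finset.prod_le_prod (fun _ _ => Nat.zero_le _) fun a _ => h1 a) 2
        _ = (∏ a : A, Nat.card ↥(N ⊓ fx (x * (a : MulAut V)))) ^ 2 * (∏ a, B a) ^ 2 := by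
            rw [Finset.prod_mul_distrib, mul_pow]
        _ ≤ Nat.card N ^ Fintype.card A * m ^ Fintype.card A := Nat.mul_le_mul h4 h2
        _ ≤ _ := by rw [← mul_pow]; exact Nat.pow_le_pow_left h3 _
    obtain ⟨u1, hu1, hu11⟩ := (Subgroup.bot_or_exists_ne_one _).resolve_left hKfix
    have hP1 : ∀ u ∈ U1, P u = 1 → u = 1 := fun u hu h =>
      eq_one_of_pow hKcop ((norm_fix K hu.2).symm.trans h)
    by_cases hcase : K' = K
    · -- `x` normalises `K`
      have hPx : ∀ v, P (x v) = x (P v) := by
        intro v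
        rw [hP, norm_apply, norm_apply, map_prod]
        have hmem : ∀ k : K, x * (k : MulAut V) * x⁻¹ ∈ K := fun k => by
          have h : x * (k : MulAut V) * x⁻¹ ∈ K' := ⟨k, k.2, rfl⟩
          rwa [hcase] at h
        have hinj : Function.Injective (fun k : K => (⟨_, hmem k⟩ : K)) := fun a b h => by
          apply Subtype.ext
          simpa using congrArg Subtype.val h
        refine (Fintype.prod_equiv (Equiv.ofBijective _ ⟨hinj, Finite.surjective_of_injective hinj⟩)
          _ _ fun k => ?_).symm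
        show x ((k : MulAut V) v) = (x * (k : MulAut V) * x⁻¹) (x v)
        simp
      have hKA' : K < A := lt_of_le_of_ne hKA fun h => hu11
        (hfree u1 hu1.1 fun a ha => hu1.2 a (h ▸ ha))
      obtain ⟨c, hcA, hcK⟩ := SetLike.exists_of_lt hKA'
      set N := U ⊓ P.ker with hN
      refine key N inf_le_left (fun h => hu11 ?_) (fun u hu => ⟨hUx u hu.1, ?_⟩)
        (fun a ha u hu => ⟨hUA a ha u hu.1, ?_⟩)
        (fun a => Nat.card ↥(U1 ⊓ fx (x * (a : MulAut V)))) (Nat.card U1) (fun a => ?_) ?_ ?_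
      · have h1 : u1 ∈ N := h ▸ hu1.1
        exact hP1 u1 hu1 h1.2
      · exact MonoidHom.mem_ker.2 (by rw [hPx, MonoidHom.mem_ker.1 hu.2, map_one])
      · exact MonoidHom.mem_ker.2 (by rw [hPA a ha, MonoidHom.mem_ker.1 hu.2, map_one])
      · refine card_fix_le P _ _ _ (fun v hv h => ⟨⟨hv.1, h⟩, hv.2⟩) (fun v hv => ⟨hPU v hv.1, ?_⟩)
        refine mem_fx.2 ?_
        rw [MulAut.mul_apply, ← hPA _ a.2, ← hPx, ← MulAut.mul_apply, mem_fx.1 hv.2]
      · have hpair : ∀ a : A, Nat.card ↥(U1 ⊓ fx (x * (a : MulAut V))) *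
            Nat.card ↥(U1 ⊓ fx (x * ((a * ⟨c, hcA⟩ : A) : MulAut V))) ≤ Nat.card U1 := by
          intro a
          rw [← Nat.card_prod]
          refine Nat.card_le_card_of_injective
            (fun w => (⟨(w.1 : V) * w.2, U1.mul_mem w.1.2.1 w.2.2.1⟩ : U1)) ?_
          rintro ⟨s, t⟩ ⟨s', t'⟩ h
          have h1 : (s : V) * t = s' * t' := congrArg Subtype.val h
          set d : V := (s : V) / s' with hd
          have hd' : d = t' / t := by
            rw [hd, div_eq_div_iff_mul_eq_mul, h1, mul_comm]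
          have hdU : d ∈ U1 := U1.div_mem s.2.1 s'.2.1
          have hd1 : (x * (a : MulAut V)) d = d := Subgroup.div_mem (fx _) s.2.2 s'.2.2
          have hd2 : (x * ((a : MulAut V) * c)) d = d :=
            hd' ▸ (Subgroup.div_mem (fx _) t'.2.2 t.2.2 : _ ∈ fx _)
          have hcd : c d = d := by
            rw [← mul_assoc, MulAut.mul_apply] at hd2
            exact (x * (a : MulAut V)).injective (hd2.trans hd1.symm)
          have hdone : d = 1 := by
            refine hbig (K ⊔ Subgroup.zpowers c) (sup_le hKA (Subgroup.zpowers_le.2 hcA))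
              (lt_of_le_of_ne le_sup_left fun h => hcK
                (h ▸ Subgroup.mem_sup_right (Subgroup.mem_zpowers c))) d hdU.1 ?_
            have hle : K ⊔ Subgroup.zpowers c ≤ MulAction.stabilizer (MulAut V) d :=
              sup_le (fun k hk => MulAction.mem_stabilizer_iff.2 (hdU.2 k hk))
                (Subgroup.zpowers_le.2 (MulAction.mem_stabilizer_iff.2 hcd))
            exact fun k hk => MulAction.mem_stabilizer_iff.1 (hle hk)
          have h3 : (s : V) = s' := div_eq_one.1 hdone
          have h4 : (t : V) = t' := by rw [h3] at h1; exact mul_left_cancel h1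
          exact Prod.ext (Subtype.ext h3) (Subtype.ext h4)
        calc (∏ a : A, Nat.card ↥(U1 ⊓ fx (x * (a : MulAut V)))) ^ 2
            = ∏ a : A, (Nat.card ↥(U1 ⊓ fx (x * (a : MulAut V))) *
              Nat.card ↥(U1 ⊓ fx (x * ((a * ⟨c, hcA⟩ : A) : MulAut V)))) := by
              rw [Finset.prod_mul_distrib, sq]
              congr 1
              exact (Fintype.prod_equiv (Equiv.mulRight (⟨c, hcA⟩ : A)) _
                (fun a : A => Nat.card ↥(U1 ⊓ fx (x * (a : MulAut V)))) fun a => rfl).symm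
          _ ≤ ∏ _a : A, Nat.card U1 :=
              Finset.prod_le_prod (fun _ _ => Nat.zero_le _) fun a _ => hpair a
          _ = Nat.card U1 ^ Fintype.card A := by rw [Finset.prod_const, Finset.card_univ]
      · rw [← Nat.card_prod]
        refine Nat.card_le_card_of_injective
          (fun w : N × U1 => (⟨(w.1 : V) * w.2, U.mul_mem w.1.2.1 w.2.2.1⟩ : U)) ?_
        rintro ⟨s, t⟩ ⟨s', t'⟩ h
        have h1 : (s : V) * t = s' * t' := congrArg Subtype.val h
        have h2 := congrArg P h1
        rw [map_mul, map_mul, MonoidHom.mem_ker.1 s.2.2, MonoidHom.mem_ker.1 s'.2.2, one_mul,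
          one_mul] at h2
        have h3 : (t : V) = t' :=
          div_eq_one.1 (hP1 _ (U1.div_mem t.2 t'.2) (by rw [map_div, h2, div_self']))
        have h4 : (s : V) = s' := by rw [h3] at h1; exact mul_right_cancel h1
        exact Prod.ext (Subtype.ext h4) (Subtype.ext h3)
    · -- `x` moves `K`
      have hlt : K < K ⊔ K' := lt_of_le_of_ne le_sup_left fun h => hcase
        (Subgroup.eq_of_le_of_card_ge (h ▸ le_sup_right)
          (Subgroup.card_map_of_injective (MulAut.conj x).injective).ge)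
      set U2 := U ⊓ fix K' with hU2
      have hU12 : ∀ w ∈ U2, P w = 1 := by
        intro w hw
        refine hbig (K ⊔ K') (sup_le hKA hK'A) hlt _ (hPU w hw.1).1 fun k hk => ?_
        have hle : K ⊔ K' ≤ MulAction.stabilizer (MulAut V) (P w) :=
          sup_le (fun k hk => MulAction.mem_stabilizer_iff.2 (norm_mem_fix K w k hk))
            (fun k hk => MulAction.mem_stabilizer_iff.2 (by
              show k (P w) = P w
              rw [← hPA k (hK'A hk), hw.2 k hk]))
        exact MulAction.mem_stabilizer_iff.1 (hle hk)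
      have hxpow : ∀ (i : ℕ), ∀ a ∈ A, x ^ i * a * (x ^ i)⁻¹ ∈ A := by
        intro i
        induction i with
        | zero => simp
        | succ i ihi =>
          intro a ha
          have := hx _ (ihi a ha)
          simpa [pow_succ', mul_assoc] using this
      let N : Subgroup V := U ⊓ ⨅ i : ℕ, P.ker.comap (x ^ i).toMonoidHom
      have hNmem : ∀ v, v ∈ N ↔ v ∈ U ∧ ∀ i : ℕ, P ((x ^ i) v) = 1 := fun v => by
        simp [N, Subgroup.mem_iInf]
      have hU1x : ∀ u ∈ U1, x u ∈ U2 := by
        intro u hu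
        refine ⟨hUx u hu.1, ?_⟩
        rintro _ ⟨k, hk, rfl⟩
        show (x * k * x⁻¹) (x u) = x u
        simp [hu.2 k hk]
      have hxU : ∀ (i : ℕ), ∀ u ∈ U, (x ^ i) u ∈ U := by
        intro i
        induction i with
        | zero => simp
        | succ i ihi => intro u hu; rw [pow_succ', MulAut.mul_apply]; exact hUx _ (ihi u hu)
      have hcard : Nat.card U1 = Nat.card U2 := by
        refine Nat.card_eq_of_bijective (fun u : U1 => (⟨x u, hU1x u u.2⟩ : U2))
          ⟨fun a b h => Subtype.ext (x.injective (congrArg Subtype.val h :)), fun w => ?_⟩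
        have hinvU : x⁻¹ (w : V) ∈ U := by
          have hd : x⁻¹ = x ^ (orderOf x - 1) := by
            rw [inv_eq_iff_mul_eq_one, ← pow_succ', Nat.sub_add_cancel (orderOf_pos x),
              pow_orderOf_eq_one]
          rw [hd]
          exact hxU _ _ w.2.1
        refine ⟨⟨x⁻¹ (w : V), hinvU, fun k hk => ?_⟩, Subtype.ext (by simp)⟩
        have h := w.2.2 (x * k * x⁻¹) ⟨k, hk, rfl⟩
        simp only [MulAut.mul_apply] at h
        exact x.injective (h.trans (by simp))
      refine key N inf_le_left (fun h => hu11 ?_) (fun u hu => ?_) (fun a ha u hu => ?_)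
        (fun _ => Nat.card U1) (Nat.card U1 * Nat.card U2) (fun a => ?_) ?_ ?_
      · have h1 := ((hNmem u1).1 (h ▸ hu1.1)).2 0
        exact hP1 u1 hu1 (by simpa using h1)
      · rw [hNmem] at hu ⊢
        refine ⟨hUx u hu.1, fun i => ?_⟩
        rw [← MulAut.mul_apply, ← pow_succ]
        exact hu.2 (i + 1)
      · rw [hNmem] at hu ⊢
        refine ⟨hUA a ha u hu.1, fun i => ?_⟩
        have e : (x ^ i) (a u) = (x ^ i * a * (x ^ i)⁻¹) ((x ^ i) u) := by simp
        rw [e, hPA _ (hxpow i a ha), hu.2 i, map_one]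
      · refine card_fix_le P _ _ _ (fun v hv h => ⟨(hNmem v).2 ⟨hv.1, fun i => ?_⟩, hv.2⟩)
          (fun v hv => hPU v hv.1)
        have hxv : x v = (x * (a : MulAut V) * x⁻¹)⁻¹ v := by
          apply (x * (a : MulAut V) * x⁻¹).injective
          have h2 : (x * (a : MulAut V)) v = v := mem_fx.1 hv.2
          simp only [MulAut.mul_apply] at h2 ⊢
          simpa using h2
        have hb : ∀ i : ℕ, ∃ b ∈ A, (x ^ i) v = b v := by
          intro i
          induction i with
          | zero => exact ⟨1, A.one_mem, by simp⟩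
          | succ i ihi =>
            obtain ⟨b, hbA, hbv⟩ := ihi
            refine ⟨(x * b * x⁻¹) * (x * (a : MulAut V) * x⁻¹)⁻¹,
              A.mul_mem (hx b hbA) (A.inv_mem (hx a a.2)), ?_⟩
            rw [pow_succ', MulAut.mul_apply, hbv]
            simp only [MulAut.mul_apply]
            rw [← hxv]
            simp
        obtain ⟨b, hbA, hbv⟩ := hb i
        rw [hbv, hPA b hbA, h, map_one]
      · rw [Finset.prod_const, Finset.card_univ, ← pow_mul, mul_comm, pow_mul, sq, hcard]
      · rw [← Nat.card_prod, ← Nat.card_prod]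
        refine Nat.card_le_card_of_injective (fun w : N × U1 × U2 =>
          (⟨(w.1 : V) * w.2.1 * w.2.2, U.mul_mem (U.mul_mem ((hNmem _).1 w.1.2).1 w.2.1.2.1)
            w.2.2.2.1⟩ : U)) ?_
        rintro ⟨s, t, r⟩ ⟨s', t', r'⟩ h
        have h1 : (s : V) * t * r = s' * t' * r' := congrArg Subtype.val h
        have hs : ∀ v : N, P (v : V) = 1 := fun v => by simpa using ((hNmem _).1 v.2).2 0
        have h2 := congrArg P h1
        rw [map_mul, map_mul, map_mul, map_mul, hs s, hs s', hU12 _ r.2, hU12 _ r'.2, one_mul,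
          one_mul, mul_one, mul_one] at h2
        have h3 : (t : V) = t' :=
          div_eq_one.1 (hP1 _ (U1.div_mem t.2 t'.2) (by rw [map_div, h2, div_self']))
        -- the difference of the `U2` parts lies in `N`
        have h4 : (r : V) / r' ∈ N := by
          have e : (r : V) / r' = s' / s := by
            rw [div_eq_div_iff_mul_eq_mul]
            rw [h3] at h1
            have h5 : (s : V) * r * t' = s' * r' * t' := by
              rw [mul_right_comm, h1, mul_right_comm]
            calc (r : V) * s = s * r := mul_comm _ _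
              _ = s' * r' := mul_right_cancel h5
          rw [e]
          exact N.div_mem s'.2 s.2
        obtain ⟨w0, hw0⟩ : ∃ w0 : U1, x (w0 : V) = (r : V) / r' := by
          have hbij : Function.Surjective (fun u : U1 => (⟨x u, hU1x u u.2⟩ : U2)) := by
            refine ((Nat.bijective_iff_injective_and_card _).2 ⟨?_, hcard⟩).2
            exact fun a b hab => Subtype.ext (x.injective (congrArg Subtype.val hab :))
          obtain ⟨w0, hw0⟩ := hbij ⟨_, U2.div_mem r.2 r'.2⟩
          exact ⟨w0, congrArg Subtype.val hw0⟩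
        have h6 : (r : V) = r' := by
          have h7 := ((hNmem _).1 h4).2 (orderOf x - 1)
          rw [← hw0, ← MulAut.mul_apply, ← pow_succ, Nat.sub_add_cancel (orderOf_pos x),
            pow_orderOf_eq_one] at h7
          have h8 := hP1 _ w0.2 h7
          rw [h8, map_one] at hw0
          exact div_eq_one.1 hw0.symm
        have h9 : (s : V) = s' := by
          rw [h3, h6] at h1
          exact mul_right_cancel (mul_right_cancel h1)
        exact Prod.ext (Subtype.ext h9) (Prod.ext (Subtype.ext h3) (Subtype.ext h6))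

/-- Solvable irreducible non-trivial action: average fixed-space dimension at most one half. -/
theorem average_bound [Finite V] {p : ℕ} [hp : Fact p.Prime] {n : ℕ} (hV : Nat.card V = p ^ n)
    {G : Type*} [Group G] [Fintype G] [Group.IsSolvable G] (ρ : G →* MulAut V)
    (hirr : ∀ U : Subgroup V, (∀ g, ∀ u ∈ U, ρ g u ∈ U) → U = ⊥ ∨ U = ⊤)
    (hne : ρ.range ≠ ⊥) (d : G → ℕ) (hd : ∀ g, Nat.card (fx (ρ g)) = p ^ d g) :
    2 * ∑ g, d g ≤ n * Fintype.card G := by
  classical
  haveI : Finite (MulAut V) :=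
    Finite.of_injective (fun e : MulAut V => (e : V → V)) DFunLike.coe_injective
  -- a normal abelian subgroup of the image
  obtain ⟨k, hk⟩ := (Group.isSolvable_def (G := G)).1 inferInstance
  let S : ℕ → Subgroup (MulAut V) := fun i => (derivedSeries G i).map ρ
  have hSbot : ∃ i, S i = ⊥ := ⟨k, by simp only [S, hk, Subgroup.map_bot]⟩
  have hS0 : S 0 ≠ ⊥ := by
    simpa [S, derivedSeries_zero, ← MonoidHom.range_eq_map] using hne
  obtain ⟨m, hm⟩ := Nat.exists_eq_succ_of_ne_zero (fun h => hS0 (h ▸ Nat.find_spec hSbot) :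
    Nat.find hSbot ≠ 0)
  have hA1 : S m ≠ ⊥ := Nat.find_min hSbot (show m < Nat.find hSbot by omega)
  have hA2 : S (m + 1) = ⊥ := by
    have h := Nat.find_spec hSbot
    rwa [hm] at h
  set A : Subgroup (MulAut V) := S m with hA
  have hnorm : ∀ g : G, ∀ a ∈ A, ρ g * a * (ρ g)⁻¹ ∈ A := by
    rintro g _ ⟨a, ha, rfl⟩
    exact ⟨g * a * g⁻¹, (derivedSeries_normal G m).conj_mem a ha g, by simp⟩
  have hAab : ∀ a ∈ A, ∀ b ∈ A, a * b = b * a := by
    rintro _ ⟨a, ha, rfl⟩ _ ⟨b, hb, rfl⟩
    rw [← commutatorElement_eq_one_iff_mul_comm, ← map_commutatorElement, ← Subgroup.mem_bot,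
      ← hA2]
    exact ⟨_, Subgroup.commutator_mem_commutator ha hb, rfl⟩
  have hfixbot : ∀ B : Subgroup (MulAut V), B ≠ ⊥ → (∀ g : G, ∀ b ∈ B, (ρ g)⁻¹ * b * ρ g ∈ B) →
      fix B = ⊥ := by
    intro B hB hBn
    refine (hirr (fix B) fun g u hu b hb => ?_).resolve_right fun h => hB ?_
    · have h := hu _ (hBn g b hb)
      simp only [MulAut.mul_apply] at h
      exact (ρ g)⁻¹.injective (h.trans (by simp))
    · refine (Subgroup.eq_bot_iff_forall B).2 fun b hb => MulEquiv.ext fun v => ?_
      exact (h ▸ Subgroup.mem_top v : v ∈ fix B) b hb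
  have hnorm' : ∀ g : G, ∀ a ∈ A, (ρ g)⁻¹ * a * ρ g ∈ A := fun g a ha => by
    simpa using hnorm g⁻¹ a ha
  haveI : Fintype A := Fintype.ofFinite _
  have hcop : (Nat.card V).Coprime (Nat.card A) := by
    rw [hV]
    refine Nat.Coprime.pow_left _ ((Nat.Prime.coprime_iff_not_dvd hp.out).2 fun hdvd => ?_)
    obtain ⟨a, ha⟩ := exists_prime_orderOf_dvd_card' p hdvd
    let B : Subgroup (MulAut V) :=
      { carrier := {b | b ∈ A ∧ b ^ p = 1}
        mul_mem' := fun {b c} hb hc => ⟨A.mul_mem hb.1 hc.1, by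
          rw [Commute.mul_pow (hAab b hb.1 c hc.1), hb.2, hc.2, one_mul]⟩
        one_mem' := ⟨A.one_mem, one_pow p⟩
        inv_mem' := fun {b} hb => ⟨A.inv_mem hb.1, by rw [inv_pow, hb.2, inv_one]⟩ }
    have hap : a ^ p = 1 := by rw [← ha]; exact pow_orderOf_eq_one a
    have haB : (a : MulAut V) ∈ B := ⟨a.2, congrArg Subtype.val hap⟩
    have hB : B ≠ ⊥ := fun h => by
      rw [h, Subgroup.mem_bot] at haB
      rw [← Subgroup.orderOf_coe, haB, orderOf_one] at ha
      exact hp.out.one_lt.ne ha
    have hBp : IsPGroup p B := fun b => ⟨1, Subtype.ext (by simpa using b.2.2)⟩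
    have hfb := hfixbot B hB fun g b hb => ⟨hnorm' g b hb.1, by
      have e : (ρ g)⁻¹ * b * ρ g = MulAut.conj (ρ g)⁻¹ b := by simp [MulAut.conj_apply]
      rw [e, ← map_pow, hb.2, map_one]⟩
    have hn : p ∣ Nat.card V := by
      rw [hV]
      refine dvd_pow_self p fun h => hne ?_
      have : Subsingleton V := (Nat.card_eq_one_iff_unique.1 (by rw [hV, h, pow_zero])).1
      exact (Subgroup.eq_bot_iff_forall _).2 fun b _ => MulEquiv.ext fun v => Subsingleton.elim _ _
    obtain ⟨v, hv, hv1⟩ := hBp.exists_fixed_point_of_prime_dvd_card_of_fixed_point V hn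
      (a := (1 : V)) (fun b => map_one (b : MulAut V))
    have : v ∈ fix B := fun b hb => hv ⟨b, hb⟩
    rw [hfb, Subgroup.mem_bot] at this
    exact hv1 this.symm
  have hfree : ∀ v : V, (∀ a ∈ A, a v = v) → v = 1 := fun v hv => by
    have h : v ∈ fix A := hv
    rwa [hfixbot A hA1 hnorm', Subgroup.mem_bot] at h
  -- the bound on every coset
  choose t ht using fun a : A => (a.2 : (a : MulAut V) ∈ (derivedSeries G m).map ρ)
  have hcos : ∀ g : G, 2 * ∑ a : A, d (g * t a) ≤ n * Fintype.card A := by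
    intro g
    have h := coset_bound A hAab hcop (ρ g) (hnorm g) _ ⊤ rfl (fun _ _ => trivial)
      (fun _ _ _ _ => trivial) (fun u _ hu => hfree u hu)
    have e : ∀ a : A, Nat.card ↥((⊤ : Subgroup V) ⊓ fx (ρ g * (a : MulAut V))) =
        p ^ d (g * t a) := fun a => by
      rw [top_inf_eq, ← hd, map_mul, (ht a).2]
    simp only [e, Finset.prod_pow_eq_pow_sum, Subgroup.card_top, hV, ← pow_mul] at h
    rw [mul_comm 2]
    exact (Nat.pow_le_pow_iff_right hp.out.one_lt).1 h
  have h1 : ∑ g : G, ∑ a : A, d (g * t a) = Fintype.card A * ∑ g, d g := by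
    rw [Finset.sum_comm, Finset.sum_congr rfl (fun a _ => Fintype.sum_equiv (Equiv.mulRight (t a))
      (fun g => d (g * t a)) d fun g => rfl), Finset.sum_const, Finset.card_univ, smul_eq_mul]
  have h2 : ∑ g : G, 2 * ∑ a : A, d (g * t a) ≤ ∑ _g : G, n * Fintype.card A :=
    Finset.sum_le_sum fun g _ => hcos g
  rw [← Finset.mul_sum, h1, Finset.sum_const, Finset.card_univ, smul_eq_mul] at h2
  refine Nat.le_of_mul_le_mul_left ?_ (Fintype.card_pos (α := A))
  calc Fintype.card A * (2 * ∑ g, d g) = 2 * (Fintype.card A * ∑ g, d g) := by ring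
    _ ≤ Fintype.card G * (n * Fintype.card A) := h2
    _ = Fintype.card A * (n * Fintype.card G) := by ring

end Cfsg.Agent.SolvableFixAverage87
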