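import Mathlib
import Cfsg.Agent.Lib.PrimitiveMetanilp87
import Cfsg.Agent.Lib.SolvableFixAverage87

/-!
A primitive irreducible character of a solvable group: the `p`-part of its degree is at most the
`p`-part of some class size.
-/

set_option autoImplicit false

open scoped commutatorElement ComplexConjugate
open Cfsg Cfsg.Agent.CharBasic Cfsg.Agent.CharBasicOrth Cfsg.Agent.CharBasicDecomp
  Cfsg.Agent.CharInduced

namespace Cfsg.Agent.PrimitivePPart87

universe u

variable {G : Type u} [Group G] [Fintype G]

theorem fmul {p a b : ℕ} (ha : a ≠ 0) (hb : b ≠ 0) :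
    (a * b).factorization p = a.factorization p + b.factorization p := by
  rw [Nat.factorization_mul ha hb, Finsupp.add_apply]

theorem sum_norm_sq {K : Type u} [Group K] [Fintype K] {θ : K → ℂ} (hθ : IsIrrCharacter K θ) :
    ∑ g : K, θ g * conj (θ g) = (Nat.card K : ℂ) := by
  have h := classInner_irr_self hθ
  rw [classInner, inv_mul_eq_one₀ (Nat.cast_ne_zero.2 Nat.card_pos.ne')] at h
  exact h.symm

/-- The square of a multiplicity of an invariant constituent is at most the index. -/
theorem sq_le_index {K : Type u} [Group K] [Fintype K] (L : Subgroup K) [Fintype L] {θ : K → ℂ}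
    (hθ : IsIrrCharacter K θ) {φ : L → ℂ} (hφ : IsIrrCharacter L φ) {f : ℕ}
    (hres : (fun l : L => θ l) = (f : ℂ) • φ) : f ^ 2 ≤ L.index := by
  classical
  have hnn : ∀ g : K, θ g * conj (θ g) = ((Complex.normSq (θ g) : ℝ) : ℂ) := fun g =>
    Complex.mul_conj (θ g)
  have h1 : ∑ g : K, Complex.normSq (θ g) = (Nat.card K : ℝ) := by
    have h := congrArg Complex.re (sum_norm_sq hθ)
    simpa [hnn, Complex.re_sum] using h
  have h2 : ∑ l : L, Complex.normSq (θ l) = (f : ℝ) ^ 2 * (Nat.card L : ℝ) := by
    have h := congrArg Complex.re (sum_norm_sq hφ)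
    simp only [Complex.mul_conj, Complex.re_sum, Complex.ofReal_re, Complex.natCast_re] at h
    rw [← h, Finset.mul_sum]
    refine Finset.sum_congr rfl fun l _ => ?_
    have h3 := congrFun hres l
    simp only [Pi.smul_apply, smul_eq_mul] at h3
    rw [h3, map_mul, Complex.normSq_natCast, sq]
  have h3 : ∑ l : L, Complex.normSq (θ l) ≤ ∑ g : K, Complex.normSq (θ g) := by
    rw [← Finset.sum_image (f := fun g : K => Complex.normSq (θ g)) (g := fun l : L => (l : K))
      (fun a _ b _ h => Subtype.ext h)]
    exact Finset.sum_le_sum_of_subset_of_nonneg (Finset.subset_univ _)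
      (fun g _ _ => Complex.normSq_nonneg _)
  rw [h1, h2] at h3
  have h4 : f ^ 2 * Nat.card L ≤ L.index * Nat.card L := by
    rw [L.index_mul_card]
    exact_mod_cast h3
  exact Nat.le_of_mul_le_mul_right h4 Nat.card_pos

variable {χ : G → ℂ}

/-- The degree data for one chief factor. -/
theorem step_degree (hχ : IsIrrCharacter G χ) (hp : PrimitiveMetanilp87.Prim χ)
    {L K : Subgroup G} [L.Normal] [K.Normal] [Fintype K] [Fintype L] (hLK : L ≤ K) {θ : K → ℂ}
    (hθ : IsIrrCharacter K θ) (hc : classInner (fun k : K => χ k) θ ≠ 0) :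
    ∃ (φ : L → ℂ) (f : ℕ), IsIrrCharacter L φ ∧ classInner (fun l : L => χ l) φ ≠ 0 ∧
      0 < f ∧ θ 1 = (f : ℂ) * φ 1 ∧ f ^ 2 ≤ L.relIndex K ∧ f ∣ L.relIndex K := by
  classical
  have hK := res_eq_smul_of_invariant K hθ
    (PrimitiveMetanilp87.invariant_of_prim hχ hp K hθ hc) hχ hc
  let e : L.subgroupOf K ≃* L := Subgroup.subgroupOfEquivOfLe hLK
  obtain ⟨φ', hφ', hc'⟩ := exists_constituent
    (isCharacter_res (L.subgroupOf K) (isCharacter_of_isIrrCharacter hθ))
    (PrimitiveMetanilp87.res_ne_zero hθ (L.subgroupOf K))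
  set φ0 := φ' ∘ e.symm.toMonoidHom with hφ0def
  have hφ0 : IsIrrCharacter L φ0 := isIrrCharacter_comap e.symm.toMonoidHom e.symm.surjective hφ'
  have hc0 : classInner (fun l : L => χ l) φ0 ≠ 0 := by
    have h1 : classInner (fun l : L => χ l) φ0 =
        classInner (fun x : L.subgroupOf K => χ ((x : K) : G)) φ' := by
      rw [← classInner_congr_equiv e]
      congr 1
    rw [h1]
    have h2 : (fun x : L.subgroupOf K => χ ((x : K) : G)) =
        classInner (fun k : K => χ k) θ • fun x : L.subgroupOf K => θ x :=
      funext fun x => congrFun hK (x : K)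
    rw [h2, CharInduced.inner_smul_left]
    exact mul_ne_zero hc hc'
  have hinvL := PrimitiveMetanilp87.invariant_of_prim hχ hp L hφ0 hc0
  have hinv : ∀ k : K, conjFun (L.subgroupOf K) φ' k = φ' := by
    intro k
    funext x
    have h := congrFun (hinvL (k : G)) (e x)
    simp only [hφ0def, conjFun, Function.comp_apply, MulEquiv.coe_toMonoidHom] at h ⊢
    rw [e.symm_apply_apply] at h
    exact h
  obtain ⟨f, hf⟩ := coeff_nat (isCharacter_res (L.subgroupOf K)
    (isCharacter_of_isIrrCharacter hθ)) hφ'
  have hres := res_eq_smul_of_invariant (L.subgroupOf K) hφ' hinv hθ hc'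
  rw [hf] at hres
  have hf0 : 0 < f := Nat.pos_of_ne_zero fun h => hc' (by rw [hf, h, Nat.cast_zero])
  obtain ⟨d, hd0, hd⟩ := isIrrCharacter_apply_one hφ'
  have hθ1 : θ 1 = (f : ℂ) * φ' 1 := by
    have h := congrFun hres 1
    simpa using h
  refine ⟨φ0, f, hφ0, hc0, hf0, ?_, sq_le_index _ hθ hφ' hres, ?_⟩
  · rw [hθ1]
    simp [hφ0def]
  · obtain ⟨k, d', hd', hdk, hk⟩ := CharProjDegree.degree_dvd (L.subgroupOf K) hθ hφ' hc'
    have hdd : d' = d := Nat.cast_inj.1 (hd'.symm.trans hd)
    have hkf : k = f := by
      rw [hθ1, hd, hdd, ← Nat.cast_mul, Nat.cast_inj, mul_comm f] at hdk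
      exact (Nat.eq_of_mul_eq_mul_left hd0 hdk).symm
    exact hkf ▸ hk

/-- The weight inequality on all normal subgroups. -/
theorem weight_bound [Group.IsSolvable G] (hχ : IsIrrCharacter G χ)
    (hp : PrimitiveMetanilp87.Prim χ) (p : ℕ) [hP : Fact p.Prime] :
    ∀ (n : ℕ) (K : Subgroup G) [Fintype K], K.Normal → Nat.card K = n →
      ∀ θ : K → ℂ, IsIrrCharacter K θ → classInner (fun k : K => χ k) θ ≠ 0 →
      ∀ e : ℕ, θ 1 = (e : ℂ) →
      (∑ g : G, (Nat.card ↥(K ⊓ Subgroup.centralizer ({g} : Set G))).factorization p) +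
        e.factorization p * Fintype.card G ≤ (Nat.card K).factorization p * Fintype.card G := by
  classical
  intro n
  induction n using Nat.strong_induction_on with
  | _ n ih =>
    intro K _ hKn hn θ hθ hc e he
    by_cases hKb : K = ⊥
    · subst hKb
      have he1 : e = 1 := by
        obtain ⟨l, hl⟩ := CharBasicLinear.exists_hom_of_comm
          (fun a b : (⊥ : Subgroup G) => Subsingleton.elim _ _) hθ
        rw [hl] at he
        exact_mod_cast (by simpa using he.symm : (e : ℂ) = 1)
      subst he1
      simp
    -- the chief factor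
    have hex : ({L : Subgroup G | L.Normal ∧ L < K}).Nonempty :=
      ⟨⊥, Subgroup.normal_bot, bot_lt_iff_ne_bot.2 hKb⟩
    obtain ⟨L, ⟨hLn, hLK⟩, hmax⟩ := (Set.toFinite _).exists_maximal hex
    haveI : L.Normal := hLn
    haveI : K.Normal := hKn
    haveI : Fintype L := Fintype.ofFinite _
    haveI : Finite L := inferInstance
    obtain ⟨φ, f, hφ, hφc, hf0, hθ1, hsq, hdvd⟩ := step_degree hχ hp hLK.le hθ hc
    obtain ⟨d, hd0, hd⟩ := isIrrCharacter_apply_one hφ
    have he' : e = f * d := by
      rw [he, hd, ← Nat.cast_mul, Nat.cast_inj] at hθ1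
      exact hθ1
    let π : G →* G ⧸ L := QuotientGroup.mk' L
    have hπ : Function.Surjective π := QuotientGroup.mk'_surjective L
    set V : Subgroup (G ⧸ L) := K.map π with hV
    haveI hVn : V.Normal := hKn.map π hπ
    -- minimality
    have hmin : ∀ W : Subgroup (G ⧸ L), W.Normal → W ≤ V → W = ⊥ ∨ W = V := by
      intro W hWn hWV
      have hLW : L ≤ W.comap π := fun x hx => by
        rw [Subgroup.mem_comap, show π x = 1 from (QuotientGroup.eq_one_iff x).2 hx]
        exact W.one_mem
      have hWK : W.comap π ≤ K := by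
        refine (Subgroup.comap_mono hWV).trans ?_
        rw [hV, Subgroup.comap_map_eq, QuotientGroup.ker_mk']
        exact sup_le le_rfl hLK.le
      by_cases heq : W.comap π = K
      · right
        rw [← Subgroup.map_comap_eq_self_of_surjective hπ W, heq]
      · left
        have h1 : W.comap π ≤ L :=
          hmax ⟨hWn.comap π, lt_of_le_of_ne hWK heq⟩ hLW
        rw [← Subgroup.map_comap_eq_self_of_surjective hπ W, eq_bot_iff]
        rintro _ ⟨x, hx, rfl⟩
        exact Subgroup.mem_bot.2 ((QuotientGroup.eq_one_iff x).2 (h1 hx))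
    have hVne : V ≠ ⊥ := by
      intro h
      refine hLK.not_ge fun x hx => ?_
      have : π x ∈ V := ⟨x, hx, rfl⟩
      rw [h, Subgroup.mem_bot] at this
      exact (QuotientGroup.eq_one_iff x).1 this
    haveI : Group.IsSolvable V := inferInstance
    have hVab : ⁅V, V⁆ = ⊥ := by
      refine (hmin ⁅V, V⁆ inferInstance (Subgroup.commutator_le_left V V)).resolve_right fun h => ?_
      exact (Group.IsSolvable.commutator_lt_of_ne_bot hVne).ne h
    have hVc : ∀ x y : V, x * y = y * x := fun x y => Subtype.ext
      (commutatorElement_eq_one_iff_mul_comm.1 (by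
        rw [← Subgroup.mem_bot, ← hVab]; exact Subgroup.commutator_mem_commutator x.2 y.2))
    letI : CommGroup V := { (inferInstance : Group V) with mul_comm := hVc }
    have hcardK : Nat.card K = Nat.card L * Nat.card V := by
      have h := (π.subgroupMap K).ker.card_mul_index
      rw [Subgroup.index_ker, MonoidHom.range_eq_top.2 (π.subgroupMap_surjective K),
        Subgroup.card_top] at h
      rw [← h]
      congr 1
      refine (Nat.card_congr (Equiv.ofBijective (fun l : L =>
        (⟨⟨(l : G), hLK.le l.2⟩, Subtype.ext ((QuotientGroup.eq_one_iff (l : G)).2 l.2)⟩ :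
          (π.subgroupMap K).ker)) ⟨fun a b hab => ?_, fun x => ?_⟩)).symm
      · exact Subtype.ext (congrArg Subtype.val (congrArg Subtype.val hab) :)
      · exact ⟨⟨((x : K) : G), (QuotientGroup.eq_one_iff _).1 (congrArg Subtype.val x.2)⟩,
          Subtype.ext (Subtype.ext rfl)⟩
    have hrel : L.relIndex K = Nat.card V := by
      have h : Nat.card L * L.relIndex K = Nat.card K := by
        rw [Subgroup.relIndex, ← Nat.card_congr (Subgroup.subgroupOfEquivOfLe hLK.le).toEquiv]
        exact (L.subgroupOf K).card_mul_index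
      rw [hcardK] at h
      exact Nat.eq_of_mul_eq_mul_left Nat.card_pos h
    -- splitting of centralisers
    have hsplit : ∀ g : G,
        (Nat.card ↥(K ⊓ Subgroup.centralizer ({g} : Set G))).factorization p ≤
        (Nat.card ↥(L ⊓ Subgroup.centralizer ({g} : Set G))).factorization p +
        (Nat.card (CoprimeFixAverage87.fx ((MulAut.conjNormal (π g) : MulAut V)))).factorization p := by
      intro g
      set C := K ⊓ Subgroup.centralizer ({g} : Set G) with hC
      let ψ : C →* V := (π.subgroupMap K).comp (Subgroup.inclusion inf_le_left)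
      have h1 := ψ.ker.card_mul_index
      rw [Subgroup.index_ker] at h1
      have h2 : Nat.card ψ.range ∣ Nat.card (CoprimeFixAverage87.fx
          ((MulAut.conjNormal (π g) : MulAut V))) := by
        refine Subgroup.card_dvd_of_le ?_
        rintro _ ⟨c, rfl⟩
        rw [CoprimeFixAverage87.mem_fx]
        apply Subtype.ext
        rw [MulAut.conjNormal_apply]
        show π g * π (c : G) * (π g)⁻¹ = π (c : G)
        rw [← map_mul, ← Subgroup.mem_centralizer_singleton_iff.1 c.2.2, map_mul,
          mul_inv_cancel_right]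
      have h3 : Nat.card ψ.ker ∣ Nat.card ↥(L ⊓ Subgroup.centralizer ({g} : Set G)) := by
        let ι : ψ.ker →* ↥(L ⊓ Subgroup.centralizer ({g} : Set G)) :=
          (((C.subtype).comp ψ.ker.subtype)).codRestrict _ (fun c =>
            ⟨(QuotientGroup.eq_one_iff _).1 (congrArg Subtype.val c.2), (c : C).2.2⟩)
        exact Subgroup.card_dvd_of_injective ι fun a b hab =>
          Subtype.ext (Subtype.ext (congrArg Subtype.val hab :))
      rw [← fmul Nat.card_pos.ne' Nat.card_pos.ne']
      rw [← h1]
      exact (Nat.factorization_le_iff_dvd (mul_ne_zero Nat.card_pos.ne' Nat.card_pos.ne')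
        (mul_ne_zero Nat.card_pos.ne' Nat.card_pos.ne')).2 (Nat.mul_dvd_mul h3 h2) p
    have hihL := ih (Nat.card L) (hn ▸ lt_of_le_of_ne (Subgroup.card_le_of_le hLK.le)
      (fun h => hLK.ne (Subgroup.eq_of_le_of_card_ge hLK.le h.ge))) L hLn rfl φ hφ hφc d hd
    -- the new factor
    have hnew : (∑ g : G, (Nat.card (CoprimeFixAverage87.fx
        ((MulAut.conjNormal (π g) : MulAut V)))).factorization p) +
        f.factorization p * Fintype.card G ≤ (Nat.card V).factorization p * Fintype.card G := by
      by_cases hpV : p ∣ Nat.card V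
      swap
      · have h0 : ∀ m : ℕ, m ∣ Nat.card V → m.factorization p = 0 := fun m hm =>
          Nat.factorization_eq_zero_of_not_dvd fun h => hpV (h.trans hm)
        rw [Finset.sum_eq_zero fun g _ => h0 _ (Subgroup.card_subgroup_dvd_card _),
          h0 f (hrel ▸ hdvd), h0 _ dvd_rfl]
        simp
      -- `V` is a `p`-group
      have hVp : IsPGroup p V := by
        obtain ⟨v, hv⟩ := exists_prime_orderOf_dvd_card' p hpV
        let B : Subgroup (G ⧸ L) :=
          { carrier := {x | x ∈ V ∧ ∃ k : ℕ, x ^ p ^ k = 1}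
            mul_mem' := fun {a b} ha hb => by
              obtain ⟨ha, i, hi⟩ := ha
              obtain ⟨hb, j, hj⟩ := hb
              refine ⟨V.mul_mem ha hb, i + j, ?_⟩
              have hab : Commute a b := congrArg Subtype.val (hVc ⟨a, ha⟩ ⟨b, hb⟩)
              rw [hab.mul_pow, pow_add, pow_mul, hi, one_pow, one_mul, mul_comm (p ^ i),
                pow_mul, hj, one_pow]
            one_mem' := ⟨V.one_mem, 0, one_pow _⟩
            inv_mem' := fun {a} ha => by
              obtain ⟨ha, i, hi⟩ := ha
              exact ⟨V.inv_mem ha, i, by rw [inv_pow, hi, inv_one]⟩ }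
        haveI : B.Normal := ⟨fun x hx g => by
          obtain ⟨hx, i, hi⟩ := hx
          refine ⟨hVn.conj_mem x hx g, i, ?_⟩
          rw [conj_pow, hi, mul_one, mul_inv_cancel]⟩
        have hB : B = V := (hmin B inferInstance fun x hx => hx.1).resolve_left fun h => by
          have hvB : (v : G ⧸ L) ∈ B := ⟨v.2, 1, by
            rw [pow_one, ← hv, ← Subgroup.orderOf_coe]; exact pow_orderOf_eq_one _⟩
          rw [h, Subgroup.mem_bot] at hvB
          rw [← Subgroup.orderOf_coe, hvB, orderOf_one] at hv
          exact hP.out.one_lt.ne hv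
        intro x
        have hx : (x : G ⧸ L) ∈ B := hB.symm ▸ x.2
        obtain ⟨-, k, hk⟩ := hx
        exact ⟨k, Subtype.ext hk⟩
      obtain ⟨m, hm⟩ := hVp.exists_card_eq
      have hfac : ∀ a, (p ^ a).factorization p = a := fun a => by
        rw [hP.out.factorization_pow, Finsupp.single_eq_same]
      have hdex : ∀ g : G, ∃ a, Nat.card (CoprimeFixAverage87.fx
          ((MulAut.conjNormal (π g) : MulAut V))) = p ^ a := fun g =>
        (hVp.to_subgroup _).exists_card_eq
      choose dd hdd using hdex
      obtain ⟨j, -, hj⟩ := (Nat.dvd_prime_pow hP.out).1 (hm ▸ hrel ▸ hdvd : f ∣ p ^ m)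
      simp only [hdd, hfac, hm, hj]
      have h2j : 2 * j ≤ m := by
        rw [hrel, hm, hj, ← pow_mul, mul_comm j] at hsq
        exact (Nat.pow_le_pow_iff_right hP.out.one_lt).1 hsq
      let ρ : G →* MulAut V := (MulAut.conjNormal : G ⧸ L →* MulAut V).comp π
      have hirr : ∀ U : Subgroup V, (∀ g, ∀ u ∈ U, ρ g u ∈ U) → U = ⊥ ∨ U = ⊤ := by
        intro U hU
        haveI : (U.map V.subtype).Normal := ⟨by
          rintro _ ⟨u, hu, rfl⟩ h
          obtain ⟨g, rfl⟩ := hπ h
          exact ⟨ρ g u, hU g u hu, MulAut.conjNormal_apply (π g) u⟩⟩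
        rcases hmin (U.map V.subtype) inferInstance (Subgroup.map_subtype_le U) with h | h
        · exact Or.inl ((U.map_eq_bot_iff_of_injective V.subtype_injective).1 h)
        · right
          apply Subgroup.map_injective V.subtype_injective
          rw [h, ← MonoidHom.range_eq_map, Subgroup.range_subtype]
      by_cases hne : ρ.range = ⊥
      · -- trivial action: order `p`
        have hm1 : m ≤ 1 := by
          obtain ⟨v, hv⟩ := exists_prime_orderOf_dvd_card' p hpV
          have h : Subgroup.zpowers v = (⊤ : Subgroup V) := by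
            refine (hirr (Subgroup.zpowers v) fun g u hu => ?_).resolve_left fun h => ?_
            · rw [(MonoidHom.range_eq_bot_iff.1 hne : ρ = 1)]
              exact hu
            · rw [Subgroup.zpowers_eq_bot] at h
              rw [h, orderOf_one] at hv
              exact hP.out.one_lt.ne hv
          have h1 : Nat.card V = p := by
            rw [← Subgroup.card_top (G := V), ← h, Nat.card_zpowers, hv]
          rw [hm] at h1
          exact le_of_eq (Nat.pow_right_injective hP.out.two_le (h1.trans (pow_one p).symm))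
        have hj0 : j = 0 := by omega
        subst hj0
        rw [zero_mul, add_zero, ← Finset.card_univ, mul_comm, ← smul_eq_mul, ← Finset.sum_const]
        refine Finset.sum_le_sum fun g _ => ?_
        refine (Nat.pow_le_pow_iff_right hP.out.one_lt).1 ?_
        rw [← hdd g, ← hm]
        exact Subgroup.card_le_card_group _
      · have havg := SolvableFixAverage87.average_bound hm ρ hirr hne dd hdd
        have h5 : 2 * (j * Fintype.card G) ≤ m * Fintype.card G := by
          rw [← mul_assoc]; exact Nat.mul_le_mul_right _ h2j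
        omega
    have hsum := Finset.sum_le_sum (s := (Finset.univ : Finset G)) fun g _ => hsplit g
    rw [Finset.sum_add_distrib] at hsum
    rw [he', hcardK, fmul hf0.ne' hd0.ne',
      fmul Nat.card_pos.ne' Nat.card_pos.ne', add_mul, add_mul]
    omega

/-- Some class size has at least the `p`-part of the degree. -/
theorem exists_class [Group.IsSolvable G] (hχ : IsIrrCharacter G χ)
    (hp : PrimitiveMetanilp87.Prim χ) (p : ℕ) [hP : Fact p.Prime] :
    ∃ g : G, (charDegree χ).factorization p ≤
      ((Subgroup.centralizer ({g} : Set G)).index).factorization p := by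
  classical
  haveI : Fintype (⊤ : Subgroup G) := Fintype.ofFinite _
  obtain ⟨e, -, he⟩ := isIrrCharacter_apply_one hχ
  have hθ : IsIrrCharacter (⊤ : Subgroup G) (fun x : (⊤ : Subgroup G) => χ x) :=
    isIrrCharacter_comap (Subgroup.topEquiv (G := G)).toMonoidHom (MulEquiv.surjective _) hχ
  have hc : classInner (fun k : (⊤ : Subgroup G) => χ k) (fun x : (⊤ : Subgroup G) => χ x) ≠ 0 := by
    rw [classInner_irr_self hθ]; exact one_ne_zero
  have h := weight_bound hχ hp p _ ⊤ inferInstance rfl _ hθ hc e (by simpa using he)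
  have hdeg : charDegree χ = e := by rw [charDegree, he, Complex.natCast_re, Nat.floor_natCast]
  rw [hdeg]
  by_contra hno
  push Not at hno
  simp only [top_inf_eq, Subgroup.card_top] at h
  have h2 : ∑ _g : G, (Nat.card G).factorization p <
      (∑ g : G, (Nat.card (Subgroup.centralizer ({g} : Set G))).factorization p) +
        e.factorization p * Fintype.card G := by
    rw [mul_comm, ← smul_eq_mul, ← Finset.card_univ, ← Finset.sum_const, ← Finset.sum_add_distrib]
    refine Finset.sum_lt_sum_of_nonempty Finset.univ_nonempty fun g _ => ?_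
    rw [← (Subgroup.centralizer ({g} : Set G)).card_mul_index,
      fmul Nat.card_pos.ne' Subgroup.index_ne_zero_of_finite]
    have := hno g
    omega
  rw [Finset.sum_const, Finset.card_univ, smul_eq_mul, mul_comm] at h2
  omega

end Cfsg.Agent.PrimitivePPart87
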