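import Mathlib
import Cfsg.Prelude.Def_PLocal
import Cfsg.Prelude.Def_Amalgam
import Cfsg.Agent.Lib.GlaubermanZJ
import Cfsg.Agent.Lib.GlaubermanStable
import Cfsg.Agent.Lib.HallCore
import Cfsg.Agent.Lib.LocalBasics
import Cfsg.Agent.Lib.CentralSylow
import Cfsg.Agent.Lib.PGroupsBasic

/-! Primitive pairs of characteristic `p` do not exist for `p`-stable members. -/

set_option autoImplicit false
set_option linter.all false

namespace Cfsg.Agent.PrimitivePair69

open Subgroup Cfsg.Agent.GlaubermanZJ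
open scoped commutatorElement

/-- A group of characteristic `p` that is `p`-stable on all normal `p`-subgroups. -/
structure StableCharP (p : ℕ) (H : Type*) [Group H] : Prop where
  cen : centralizer (Cfsg.pCore p H : Set H) ≤ Cfsg.pCore p H
  stab : ∀ (P : Subgroup H) [P.Normal], IsPGroup p P → Cfsg.IsPStableOn p P

section One

variable {H : Type*} [Group H] [Finite H] {p : ℕ} [Fact p.Prime]

theorem le_pCore_of_abelian (hH : StableCharP p H) {A : Subgroup H}
    (hA : ∀ a ∈ A, ∀ b ∈ A, a * b = b * a)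
    (hn : Cfsg.pCore p H ≤ normalizer (A : Set H)) : A ≤ Cfsg.pCore p H := by
  haveI := HallCore.pCore_normal p H
  intro a ha
  have h1 : a ∈ actCore p (Cfsg.pCore p H) :=
    mem_actCore_of_quadratic (hH.stab _ (HallCore.isPGroup_pCore p H)) hA hn ha
  have h2 : IsPGroup p (actCore p (Cfsg.pCore p H)) := by
    intro g
    obtain ⟨i, hi⟩ := GlaubermanStable.exists_pow_mem_centralizer g.2
    obtain ⟨j, hj⟩ := HallCore.isPGroup_pCore p H ⟨_, hH.cen hi⟩
    refine ⟨i + j, Subtype.ext ?_⟩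
    have := congrArg Subtype.val hj
    simpa [pow_add, pow_mul] using this
  exact HallCore.le_pCore h2 h1

theorem actCore_le_centralizer_of_minimal {U : Subgroup H} [hUn : U.Normal] (hUp : IsPGroup p U)
    (hmin : ∀ K : Subgroup H, K.Normal → K ≤ U → K = ⊥ ∨ K = U) :
    actCore p U ≤ centralizer (U : Set H) := by
  rcases eq_or_ne U ⊥ with rfl | hne
  · intro g _
    exact mem_centralizer_iff.mpr fun x hx => by
      rw [SetLike.mem_coe, mem_bot] at hx
      rw [hx, one_mul, mul_one]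
  obtain ⟨P, hP⟩ := hUp.exists_le_sylow
  haveI : (U.subgroupOf (P : Subgroup H)).Normal := inferInstance
  have hne' : U.subgroupOf (P : Subgroup H) ≠ ⊥ := by
    intro h
    rw [subgroupOf_eq_bot] at h
    exact hne (eq_bot_iff.mpr ((le_inf le_rfl hP).trans h.le_bot))
  obtain ⟨z, hz⟩ := ne_bot_iff_exists_ne_one.mp (PGroupsBasic.inf_center_ne_bot P.isPGroup' hne')
  set K := actCore p U with hK
  set S := centralizer ({((z.1 : (P : Subgroup H)) : H)} : Set H) with hS
  have hPS : (P : Subgroup H) ≤ S := fun g hg => mem_centralizer_singleton_iff.mpr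
    (congrArg Subtype.val (mem_center_iff.mp z.2.2 ⟨g, hg⟩))
  have hCS : centralizer (U : Set H) ≤ S :=
    centralizer_le (Set.singleton_subset_iff.mpr z.2.1)
  have h1 : S.relIndex K ∣ (centralizer (U : Set H)).relIndex K :=
    relIndex_dvd_of_le_left K hCS
  have h2 : ∃ k : ℕ, (centralizer (U : Set H)).relIndex K = p ^ k := by
    obtain ⟨k, hk⟩ :=
      (HallCore.isPGroup_pCore p (H ⧸ centralizer (U : Set H))).exists_card_eq
    refine ⟨k, ?_⟩
    rw [← hk, hK, actCore]
    conv_lhs => arg 1; rw [← QuotientGroup.ker_mk' (centralizer (U : Set H)), ← MonoidHom.comap_bot]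
    rw [relIndex_comap, map_comap_eq_self_of_surjective (QuotientGroup.mk'_surjective _),
      relIndex_bot_left]
  have h3 : S.relIndex K ∣ ((P : Subgroup H) ⊓ K).relIndex K :=
    relIndex_dvd_of_le_left K (inf_le_left.trans hPS)
  have h4 := CentralSylow.not_dvd_relIndex_normal P K
  obtain ⟨k, hk⟩ := h2
  have h5 : S.relIndex K = 1 := by
    rw [hk] at h1
    obtain ⟨j, -, hj⟩ := (Nat.dvd_prime_pow Fact.out).mp h1
    rcases j with _ | j
    · rw [hj, pow_zero]
    · exfalso
      refine h4 ((Dvd.intro_left _ (pow_succ p j).symm).trans ?_)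
      rw [← hj]; exact h3
  have h6 : K ≤ S := relIndex_eq_one.mp h5
  have hF : U ⊓ centralizer (K : Set H) = U := by
    refine (hmin _ inferInstance inf_le_left).resolve_left fun h => hz ?_
    have : ((z.1 : (P : Subgroup H)) : H) ∈ U ⊓ centralizer (K : Set H) :=
      ⟨z.2.1, mem_centralizer_iff.mpr fun g hg => mem_centralizer_singleton_iff.mp (h6 hg)⟩
    rw [h, mem_bot] at this
    exact Subtype.ext (Subtype.ext this)
  exact le_centralizer_iff.mp (inf_eq_left.mp hF)

theorem le_centralizer_of_abelian (hH : StableCharP p H) {U A : Subgroup H} [U.Normal]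
    (hUp : IsPGroup p U) (hmin : ∀ K : Subgroup H, K.Normal → K ≤ U → K = ⊥ ∨ K = U)
    (hA : ∀ a ∈ A, ∀ b ∈ A, a * b = b * a) (hn : U ≤ normalizer (A : Set H)) :
    A ≤ centralizer (U : Set H) := fun a ha =>
  actCore_le_centralizer_of_minimal hUp hmin (mem_actCore_of_quadratic (hH.stab U hUp) hA hn ha)

/-- The key step: `R` is a `p`-subgroup normalized by `C(W)`; quadratic elements of `R` on `W`
lie in `O_p(H)`. -/
theorem le_pCore_of_quadratic (hH : StableCharP p H) {W R A : Subgroup H} [W.Normal]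
    (hWp : IsPGroup p W) (hR : IsPGroup p R)
    (hCR : centralizer (W : Set H) ≤ normalizer (R : Set H)) (hAR : A ≤ R)
    (hA : ∀ a ∈ A, ∀ b ∈ A, a * b = b * a) (hn : W ≤ normalizer (A : Set H)) :
    A ≤ Cfsg.pCore p H := by
  haveI := HallCore.pCore_normal p H
  intro x hx
  set C := centralizer (W : Set H) with hC
  set K := actCore p W with hK
  have hxK : x ∈ K := mem_actCore_of_quadratic (hH.stab W hWp) hA hn hx
  have hCn : C.Normal := inferInstance
  have hCRQ : C ⊓ R ≤ Cfsg.pCore p H := by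
    have h0 : C ⊓ R ≤ Cfsg.pCoreOf p C :=
      LocalBasics.le_pCoreOf inf_le_left
        (LocalBasics.le_normalizer_inf le_normalizer hCR) (hR.to_le inf_le_right)
    exact h0.trans (LocalBasics.pCoreOf_le_of_subnormal p hCn.isSubnormal)
  set π := QuotientGroup.mk' (Cfsg.pCore p H) with hπ
  have hπs : Function.Surjective π := QuotientGroup.mk'_surjective _
  haveI : (C.map π).Normal := hCn.map π hπs
  haveI : (K.map π).Normal := (inferInstance : K.Normal).map π hπs
  have hcomm : R.map π ≤ centralizer ((C.map π : Subgroup (H ⧸ Cfsg.pCore p H)) : Set (H ⧸ Cfsg.pCore p H)) := by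
    rintro _ ⟨r, hr, rfl⟩
    refine mem_centralizer_iff.mpr ?_
    rintro _ ⟨c, hc, rfl⟩
    rw [← commutatorElement_eq_one_iff_mul_comm, ← map_commutatorElement]
    refine (QuotientGroup.eq_one_iff _).mpr (hCRQ ⟨?_, ?_⟩)
    · rw [commutatorElement_def]
      have := hCn.conj_mem c⁻¹ (inv_mem hc) r
      simpa [mul_assoc] using mul_mem hc this
    · rw [commutatorElement_def]
      exact mul_mem (LocalBasics.conj_mem_of_le_normalizer hCR hc hr) (R.inv_mem hr)
  set L := normalClosure ((R.map π : Subgroup (H ⧸ Cfsg.pCore p H)) : Set (H ⧸ Cfsg.pCore p H)) with hL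
  have hLC : L ≤ centralizer ((C.map π : Subgroup (H ⧸ Cfsg.pCore p H)) : Set (H ⧸ Cfsg.pCore p H)) :=
    normalClosure_le_normal hcomm
  set J := K.map π ⊓ L with hJ
  have hJn : J.Normal := inferInstance
  have hxJ : π x ∈ J := ⟨mem_map_of_mem π hxK, subset_normalClosure (mem_map_of_mem π (hAR hx))⟩
  have hJnil : Group.IsNilpotent J := by
    have hp : IsPGroup p (J ⧸ Subgroup.center J) := by
      intro q
      obtain ⟨j, rfl⟩ := QuotientGroup.mk'_surjective _ q
      obtain ⟨k, hk, hkj⟩ := j.2.1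
      obtain ⟨i, hi⟩ := GlaubermanStable.exists_pow_mem_centralizer (show k ∈ actCore p W from hk)
      refine ⟨i, ?_⟩
      rw [← map_pow, QuotientGroup.mk'_apply, QuotientGroup.eq_one_iff, mem_center_iff]
      intro g
      apply Subtype.ext
      rw [Subgroup.coe_mul, Subgroup.coe_mul, SubgroupClass.coe_pow, ← hkj, ← map_pow]
      exact (mem_centralizer_iff.mp (hLC g.2.2) _ (mem_map_of_mem π hi)).symm
    exact Group.of_quotient_center_nilpotent hp.isNilpotent
  have hy : IsPGroup p (zpowers (⟨π x, hxJ⟩ : J)) := by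
    rintro ⟨g, hg⟩
    obtain ⟨n, rfl⟩ := mem_zpowers_iff.mp hg
    obtain ⟨k, hk⟩ := hR ⟨x, hAR hx⟩
    have hk' : x ^ p ^ k = 1 := congrArg Subtype.val hk
    refine ⟨k, Subtype.ext (Subtype.ext ?_)⟩
    simp only [SubgroupClass.coe_pow, SubgroupClass.coe_zpow, OneMemClass.coe_one]
    rw [← zpow_natCast (π x ^ n), ← zpow_mul, mul_comm, zpow_mul, zpow_natCast, ← map_pow, hk',
      map_one, one_zpow]
  obtain ⟨T, hT⟩ := hy.exists_le_sylow
  haveI hTn : (T : Subgroup J).Normal := by
    haveI := hJnil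
    exact Sylow.normal_of_normalizerCondition Group.normalizerCondition_of_isNilpotent T
  haveI : (T : Subgroup J).Characteristic := Sylow.characteristic_of_normal T hTn
  have h1 : (T : Subgroup J).map J.subtype ≤ Cfsg.pCore p (H ⧸ Cfsg.pCore p H) :=
    HallCore.le_pCore (T.isPGroup'.map J.subtype)
  rw [HallCore.pCore_quotient_self] at h1
  have h2 := h1 (mem_map_of_mem J.subtype (hT (mem_zpowers _)))
  exact (QuotientGroup.eq_one_iff x).mp (mem_bot.mp h2)

end One

section Transfer

variable {G : Type*} [Group G] [Finite G] {p : ℕ} [Fact p.Prime] {M : Subgroup G}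

theorem subgroupOf_comm {A : Subgroup G} (hA : ∀ a ∈ A, ∀ b ∈ A, a * b = b * a) :
    ∀ a ∈ A.subgroupOf M, ∀ b ∈ A.subgroupOf M, a * b = b * a :=
  fun a ha b hb => Subtype.ext (hA _ ha _ hb)

theorem subgroupOf_le_normalizer {X A : Subgroup G} (h : X ≤ normalizer (A : Set G)) :
    X.subgroupOf M ≤ normalizer ((A.subgroupOf M : Subgroup M) : Set M) :=
  LocalBasics.le_normalizer_of_conj fun x hx a ha =>
    LocalBasics.conj_mem_of_le_normalizer h hx ha

theorem le_pCoreOf_abelian (hH : StableCharP p M) {A : Subgroup G} (hAM : A ≤ M)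
    (hA : ∀ a ∈ A, ∀ b ∈ A, a * b = b * a)
    (hn : Cfsg.pCoreOf p M ≤ normalizer (A : Set G)) : A ≤ Cfsg.pCoreOf p M := by
  have h := le_pCore_of_abelian hH (subgroupOf_comm hA)
    ((LocalBasics.pCoreOf_subgroupOf p M).ge.trans (subgroupOf_le_normalizer hn))
  have h2 := map_mono (f := M.subtype) h
  rwa [map_subgroupOf_eq_of_le hAM] at h2

theorem le_centralizer_abelian (hH : StableCharP p M) {U A : Subgroup G} (hUM : U ≤ M)
    (hUp : IsPGroup p U) (hUn : M ≤ normalizer (U : Set G))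
    (hmin : ∀ K : Subgroup G, M ≤ normalizer (K : Set G) → K ≤ U → K = ⊥ ∨ K = U)
    (hAM : A ≤ M) (hA : ∀ a ∈ A, ∀ b ∈ A, a * b = b * a) (hn : U ≤ normalizer (A : Set G)) :
    A ≤ centralizer (U : Set G) := by
  haveI := LocalBasics.normal_subgroupOf_of_le hUn
  have hmin' : ∀ K : Subgroup M, K.Normal → K ≤ U.subgroupOf M → K = ⊥ ∨ K = U.subgroupOf M := by
    intro K hK hKU
    have h1 : K.map M.subtype ≤ U := by
      rintro _ ⟨k, hk, rfl⟩; exact hKU hk
    rcases hmin _ (LocalBasics.le_normalizer_map_normal M K) h1 with h | h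
    · exact Or.inl ((map_eq_bot_iff_of_injective K M.subtype_injective).mp h)
    · right
      rw [← h]
      exact (comap_map_eq_self_of_injective M.subtype_injective K).symm
  have h := le_centralizer_of_abelian (U := U.subgroupOf M) hH (hUp.comap_subtype (K := M)) hmin'
    (subgroupOf_comm hA) (subgroupOf_le_normalizer hn)
  intro a ha
  refine mem_centralizer_iff.mpr fun u hu => ?_
  exact congrArg Subtype.val (mem_centralizer_iff.mp (h (x := ⟨a, hAM ha⟩) ha) ⟨u, hUM hu⟩ hu)

theorem le_pCoreOf_quadratic (hH : StableCharP p M) {W R A : Subgroup G}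
    (hWM : W ≤ M) (hWn : M ≤ normalizer (W : Set G)) (hWp : IsPGroup p W) (hR : IsPGroup p R)
    (hCR : M ⊓ centralizer (W : Set G) ≤ normalizer (R : Set G)) (hAM : A ≤ M) (hAR : A ≤ R)
    (hA : ∀ a ∈ A, ∀ b ∈ A, a * b = b * a) (hn : W ≤ normalizer (A : Set G)) :
    A ≤ Cfsg.pCoreOf p M := by
  haveI := LocalBasics.normal_subgroupOf_of_le hWn
  have hC : centralizer ((W.subgroupOf M : Subgroup M) : Set M) ≤
      normalizer ((R.subgroupOf M : Subgroup M) : Set M) := by
    intro c hc
    have hc' : (c : G) ∈ M ⊓ centralizer (W : Set G) := ⟨c.2, mem_centralizer_iff.mpr fun w hw =>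
      congrArg Subtype.val (mem_centralizer_iff.mp hc ⟨w, hWM hw⟩ hw)⟩
    exact subgroupOf_le_normalizer (M := M) hCR (show c ∈ (M ⊓ centralizer (W : Set G)).subgroupOf M
      from hc')
  have h := le_pCore_of_quadratic (W := W.subgroupOf M) hH (hWp.comap_subtype (K := M)) (hR.comap_subtype (K := M)) hC
    (fun x hx => hAR hx) (subgroupOf_comm hA) (subgroupOf_le_normalizer hn)
  have h2 := map_mono (f := M.subtype) h
  rwa [map_subgroupOf_eq_of_le hAM] at h2

end Transfer

section Pair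

variable {G : Type*} [Group G] [Finite G] {p : ℕ} [Fact p.Prime]

/-- Conjugate of a subgroup. -/
abbrev cj (g : G) (X : Subgroup G) : Subgroup G := X.map (MulAut.conj g).toMonoidHom

theorem mem_cj {g x : G} {X : Subgroup G} : x ∈ cj g X ↔ g⁻¹ * x * g ∈ X := by
  constructor
  · rintro ⟨y, hy, rfl⟩
    simpa [mul_assoc] using hy
  · intro h
    exact ⟨_, h, by simp [mul_assoc]⟩

theorem cj_one (X : Subgroup G) : cj 1 X = X := by ext x; simp [mem_cj]

theorem cj_cj (g h : G) (X : Subgroup G) : cj g (cj h X) = cj (g * h) X := by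
  ext x; simp [mem_cj, mul_assoc]

theorem cj_eq_self {g : G} {X M : Subgroup G} (h : M ≤ normalizer (X : Set G)) (hg : g ∈ M) :
    cj g X = X := by
  ext x
  rw [mem_cj]
  have := (mem_normalizer_iff.mp (h (inv_mem hg)) x).symm
  simpa [mul_assoc] using this

theorem cj_le_cj {g : G} {X Y : Subgroup G} (h : X ≤ Y) : cj g X ≤ cj g Y := map_mono h

theorem le_cj_iff {g : G} {X Y : Subgroup G} : X ≤ cj g Y ↔ cj g⁻¹ X ≤ Y := by
  constructor <;> intro h x hx
  · rw [mem_cj, inv_inv] at hx
    have := mem_cj.mp (h hx)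
    simpa [mul_assoc] using this
  · rw [mem_cj]
    exact h (mem_cj.mpr (by simpa [mul_assoc] using hx))

theorem cj_comm {g : G} {X : Subgroup G} (h : ∀ a ∈ X, ∀ b ∈ X, a * b = b * a) :
    ∀ a ∈ cj g X, ∀ b ∈ cj g X, a * b = b * a := by
  rintro _ ⟨a, ha, rfl⟩ _ ⟨b, hb, rfl⟩
  rw [← map_mul, ← map_mul, h a ha b hb]

theorem cj_normalizer {g : G} {X Y : Subgroup G} (h : Y ≤ normalizer (X : Set G)) :
    cj g Y ≤ normalizer ((cj g X : Subgroup G) : Set G) :=
  (map_mono h).trans (le_normalizer_map _)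

/-- The data of a pair. -/
structure Pair (p : ℕ) (G : Type*) [Group G] where
  M : Bool → Subgroup G
  stable : ∀ i, StableCharP p (M i)
  core_le : ∀ i, Cfsg.pCoreOf p (M i) ≤ M (!i)
  prim : ∀ i (A : Subgroup G), A ≠ ⊥ → A ≤ M i → A ≤ M (!i) →
    M i ≤ normalizer (A : Set G) → M (!i) ⊓ normalizer (A : Set G) ≤ M i
  ne : M false ≠ M true

variable (P : Pair p G)

abbrev Q (i : Bool) : Subgroup G := Cfsg.pCoreOf p (P.M i)

theorem Q_ne_bot (i : Bool) : Q P i ≠ ⊥ := by
  intro h
  have hM : ∀ j, Q P j = ⊥ → P.M j = ⊥ := by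
    intro j hj
    have hbot : Cfsg.pCore p (P.M j) = ⊥ :=
      (map_eq_bot_iff_of_injective _ (P.M j).subtype_injective).mp hj
    have h1 := (P.stable j).cen
    rw [hbot] at h1
    rw [eq_bot_iff]
    intro x hx
    have h2 : (⟨x, hx⟩ : P.M j) ∈ (⊥ : Subgroup (P.M j)) := h1 (mem_centralizer_iff.mpr fun y hy => by
      rw [SetLike.mem_coe, mem_bot] at hy
      rw [hy, one_mul, mul_one])
    exact congrArg Subtype.val (mem_bot.mp h2)
  have h1 := hM i h
  have h2 : Q P (!i) = ⊥ := le_bot_iff.mp (by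
    have := P.core_le (!i)
    rwa [Bool.not_not, h1] at this)
  have h3 := hM (!i) h2
  exact P.ne (by cases i <;> simp_all)

theorem le_normalizer_Q (i : Bool) : P.M i ≤ normalizer (Q P i : Set G) :=
  LocalBasics.le_normalizer_pCoreOf p _

theorem Q_le (i : Bool) : Q P i ≤ P.M i := LocalBasics.pCoreOf_le p _

/-- A minimal normal subgroup of `M i` inside `Q i`. -/
structure MinU (i : Bool) (U : Subgroup G) : Prop where
  ne : U ≠ ⊥
  le : U ≤ Q P i
  norm : P.M i ≤ normalizer (U : Set G)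
  min : ∀ K : Subgroup G, P.M i ≤ normalizer (K : Set G) → K ≤ U → K = ⊥ ∨ K = U
  comm : ∀ a ∈ U, ∀ b ∈ U, a * b = b * a

theorem exists_minU (i : Bool) : ∃ U, MinU P i U := by
  set Z := Q P i ⊓ centralizer (Q P i : Set G) with hZ
  have hZne : Z ≠ ⊥ := by
    haveI : Nontrivial (Q P i) := (nontrivial_iff_ne_bot _).mpr (Q_ne_bot P i)
    haveI := (LocalBasics.isPGroup_pCoreOf p (P.M i)).center_nontrivial
    obtain ⟨z, hz⟩ := exists_ne (1 : Subgroup.center (Q P i))
    intro h
    have h1 : ((z : Q P i) : G) ∈ Z := ⟨(z : Q P i).2, mem_centralizer_iff.mpr fun y hy =>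
      congrArg Subtype.val (mem_center_iff.mp z.2 ⟨y, hy⟩)⟩
    rw [h, mem_bot] at h1
    exact hz (Subtype.ext (Subtype.ext h1))
  have hZn : P.M i ≤ normalizer (Z : Set G) := LocalBasics.le_normalizer_inf (le_normalizer_Q P i)
    (LocalBasics.le_normalizer_centralizer (le_normalizer_Q P i))
  obtain ⟨U, hU⟩ := (Set.toFinite {K : Subgroup G | P.M i ≤ normalizer (K : Set G) ∧ K ≠ ⊥ ∧
    K ≤ Z}).exists_minimal ⟨Z, hZn, hZne, le_rfl⟩
  refine ⟨U, ⟨hU.1.2.1, hU.1.2.2.trans inf_le_left, hU.1.1, fun K hK hle => ?_, fun a ha b hb => ?_⟩⟩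
  · by_cases hKb : K = ⊥
    · exact Or.inl hKb
    · exact Or.inr (le_antisymm hle (hU.2 ⟨hK, hKb, hle.trans hU.1.2.2⟩ hle))
  · exact (mem_centralizer_iff.mp (hU.1.2.2 hb).2 a (hU.1.2.2 ha).1)

/-- An abelian normal `p`-subgroup of `M i` whose centralizer lies in both members. -/
structure GoodW (i : Bool) (W : Subgroup G) : Prop where
  ne : W ≠ ⊥
  le : W ≤ Q P i
  le' : W ≤ Q P (!i)
  norm : P.M i ≤ normalizer (W : Set G)
  comm : ∀ a ∈ W, ∀ b ∈ W, a * b = b * a
  cen : P.M i ⊓ centralizer (W : Set G) ≤ P.M (!i)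

theorem exists_goodW (i : Bool) : ∃ W, GoodW P i W := by
  obtain ⟨U, hU⟩ := exists_minU P (!i)
  have hcore : Q P (!i) ≤ P.M i := by simpa using P.core_le (!i)
  have hUQi : U ≤ Q P i :=
    le_pCoreOf_abelian (P.stable i) (hU.le.trans hcore) hU.comm ((P.core_le i).trans hU.norm)
  -- conjugates of `U` commute
  have hkey : ∀ m ∈ P.M i, ∀ a ∈ U, ∀ b ∈ cj m U, a * b = b * a := by
    intro m hm a ha b hb
    have hle : cj m U ≤ Q P i := by
      have := cj_le_cj (g := m) hUQi
      rwa [cj_eq_self (le_normalizer_Q P i) hm] at this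
    have hn : U ≤ normalizer ((cj m U : Subgroup G) : Set G) := by
      have h2 := cj_le_cj (g := m) ((P.core_le i).trans hU.norm)
      rw [cj_eq_self (le_normalizer_Q P i) hm] at h2
      exact hUQi.trans (h2.trans (le_normalizer_map _))
    have h3 := le_centralizer_abelian (P.stable (!i)) (hU.le.trans (Q_le P _))
      ((LocalBasics.isPGroup_pCoreOf p _).to_le hU.le) hU.norm hU.min
      (hle.trans (P.core_le i)) (cj_comm hU.comm) hn hb
    exact mem_centralizer_iff.mp h3 a ha
  set S : Set G := {x | ∃ m ∈ P.M i, x ∈ cj m U} with hS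
  have hScomm : ∀ x ∈ S, ∀ y ∈ S, x * y = y * x := by
    rintro x ⟨m, hm, hx⟩ y ⟨m', hm', hy⟩
    have h := hkey (m⁻¹ * m') (mul_mem (inv_mem hm) hm') _ (mem_cj.mp hx) (m⁻¹ * y * m)
      (mem_cj.mpr (by simpa [mul_assoc] using mem_cj.mp hy))
    have := congrArg (fun z => m * z * m⁻¹) h
    simpa [mul_assoc] using this
  set W := Subgroup.closure S with hW
  have hUW : U ≤ W := fun x hx =>
    subset_closure ⟨1, one_mem _, by rw [cj_one]; exact hx⟩
  have hWQ : W ≤ Q P i := (closure_le _).mpr fun x hx => by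
    obtain ⟨m, hm, hxm⟩ := hx
    have := cj_le_cj (g := m) hUQi hxm
    rwa [cj_eq_self (le_normalizer_Q P i) hm] at this
  have hWn : P.M i ≤ normalizer (W : Set G) := by
    refine LocalBasics.le_normalizer_of_conj fun x hx w hw => ?_
    have h1 : cj x W ≤ W := by
      rw [cj, hW, MonoidHom.map_closure]
      refine closure_mono ?_
      rintro _ ⟨y, ⟨m, hm, hy⟩, rfl⟩
      exact ⟨x * m, mul_mem hx hm, by rw [← cj_cj]; exact mem_map_of_mem _ hy⟩
    exact h1 (mem_map_of_mem _ hw)
  have hWc : ∀ a ∈ W, ∀ b ∈ W, a * b = b * a := by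
    have := Subgroup.isMulCommutative_closure hScomm
    exact fun a ha b hb => congrArg Subtype.val (this.is_comm.comm (⟨a, ha⟩ : W) ⟨b, hb⟩)
  refine ⟨W, ⟨fun h => hU.ne (le_bot_iff.mp (h ▸ hUW)), hWQ, ?_, hWn, hWc, ?_⟩⟩
  · exact le_pCoreOf_abelian (P.stable (!i)) (hWQ.trans (P.core_le i)) hWc (hcore.trans hWn)
  · intro x hx
    refine P.prim (!i) U hU.ne (hU.le.trans (Q_le P _)) ?_ hU.norm ⟨?_, ?_⟩
    · simpa using hU.le.trans hcore
    · simpa using hx.1
    · exact LocalBasics.centralizer_le_normalizer U (centralizer_le hUW hx.2)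

theorem no_pair (P : Pair p G) : False := by
  choose W hW using exists_goodW P
  let V : Bool → G → Subgroup G × Subgroup G × Subgroup G :=
    fun i g => (cj g (P.M i), cj g (Q P i), cj g (W i))
  let Adj : (Subgroup G × Subgroup G × Subgroup G) → (Subgroup G × Subgroup G × Subgroup G) →
    Prop := fun a b => ∃ i g, a = V i g ∧ b = V (!i) g
  have hsymm : ∀ a b, Adj a b → Adj b a := by
    rintro a b ⟨i, g, rfl, rfl⟩
    exact ⟨!i, g, rfl, by rw [Bool.not_not]⟩
  let Walk : ℕ → (Subgroup G × Subgroup G × Subgroup G) → (Subgroup G × Subgroup G × Subgroup G) →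
    Prop := fun n => Nat.rec (motive := fun _ => _ → _ → Prop) (fun a c => a = c)
      (fun _ w a c => ∃ b, Adj a b ∧ w b c) n
  have wsucc : ∀ n a c, Walk (n + 1) a c ↔ ∃ b, Adj a b ∧ Walk n b c := fun _ _ _ => Iff.rfl
  have wsnoc : ∀ n a c, Walk (n + 1) a c ↔ ∃ b, Walk n a b ∧ Adj b c := by
    intro n
    induction n with
    | zero =>
      intro a c
      exact ⟨fun ⟨b, h1, h2⟩ => ⟨a, rfl, h2 ▸ h1⟩, fun ⟨b, h1, h2⟩ => ⟨c, h1 ▸ h2, rfl⟩⟩
    | succ n ih =>
      intro a c
      constructor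
      · rintro ⟨b, h1, h2⟩
        obtain ⟨d, h3, h4⟩ := (ih b c).mp h2
        exact ⟨d, ⟨b, h1, h3⟩, h4⟩
      · rintro ⟨d, ⟨b, h1, h3⟩, h4⟩
        exact ⟨b, h1, (ih b c).mpr ⟨d, h3, h4⟩⟩
  have wsymm : ∀ n a c, Walk n a c → Walk n c a := by
    intro n
    induction n with
    | zero => exact fun a c h => h.symm
    | succ n ih =>
      intro a c h
      obtain ⟨b, h1, h2⟩ := h
      exact (wsnoc n c a).mpr ⟨b, ih b c h2, hsymm a b h1⟩
  -- main induction
  have main : ∀ n a c, Walk n a c → ∀ i g, a = V i g → a.2.2 ≤ c.2.1 := by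
    intro n
    induction n using Nat.strong_induction_on with
    | _ n ih =>
    intro a c h i g hag
    match n, h, ih with
    | 0, h, _ =>
      have : a = c := h
      subst this; subst hag
      exact cj_le_cj (hW i).le
    | 1, h, _ =>
      obtain ⟨b, ⟨j, k, rfl, rfl⟩, hbc⟩ := h
      have : V (!j) k = c := hbc
      subst this
      exact cj_le_cj (hW j).le'
    | n + 2, h, ih =>
      obtain ⟨c', hac', hadj⟩ := (wsnoc (n + 1) a c).mp h
      obtain ⟨j, k, hc', hc⟩ := hadj
      obtain ⟨a', ha', ha'c⟩ := (wsucc (n + 1) a c).mp h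
      obtain ⟨l, m, ha, ha''⟩ := ha'
      -- the two ends
      have h1 : a.2.2 ≤ c'.2.1 := ih (n + 1) (by omega) a c' hac' i g hag
      have h2 : c.2.2 ≤ a'.2.1 :=
        ih (n + 1) (by omega) c a' (wsymm (n + 1) a' c ha'c) (!j) k hc
      subst hc' hc ha''
      have h3 : cj k (W (!j)) ≤ cj m (P.M l) := h2.trans
        (cj_le_cj (by have := P.core_le (!l); rwa [Bool.not_not] at this))
      have h4 : cj k (W (!j)) ≤ normalizer (a.2.2 : Set G) := by
        rw [ha]
        exact h3.trans (cj_normalizer (hW l).norm)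
      have hac : ∀ x ∈ a.2.2, ∀ y ∈ a.2.2, x * y = y * x := by
        rw [hag]; exact cj_comm (hW i).comm
      have hA1 : cj k⁻¹ a.2.2 ≤ Q P j := le_cj_iff.mp h1
      have hcoreJ : Q P j ≤ P.M (!j) := P.core_le j
      have hA2 : W (!j) ≤ normalizer ((cj k⁻¹ a.2.2 : Subgroup G) : Set G) := by
        have := cj_normalizer (g := k⁻¹) h4
        rwa [cj_cj, inv_mul_cancel, cj_one] at this
      have hC : P.M (!j) ⊓ centralizer (W (!j) : Set G) ≤ normalizer (Q P j : Set G) := by
        refine (hW (!j)).cen.trans ?_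
        rw [Bool.not_not]
        exact le_normalizer_Q P j
      have h5 := le_pCoreOf_quadratic (P.stable (!j)) ((hW (!j)).le.trans (Q_le P _))
        (hW (!j)).norm ((LocalBasics.isPGroup_pCoreOf p _).to_le (hW (!j)).le)
        (LocalBasics.isPGroup_pCoreOf p (P.M j)) hC (hA1.trans hcoreJ) hA1 (cj_comm hac) hA2
      exact le_cj_iff.mpr h5
  -- all conjugates in the generated subgroup are reached
  set H := P.M false ⊔ P.M true with hH
  have reach : ∀ g ∈ H, ∀ i, ∃ n, Walk n (V false 1) (V i g) := by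
    have hV : ∀ j g, ∀ m ∈ P.M j, V j (g * m) = V j g := by
      intro j g m hm
      simp only [V, ← cj_cj, cj_eq_self le_normalizer hm, cj_eq_self (le_normalizer_Q P j) hm,
        cj_eq_self (hW j).norm hm]
    have hstep : ∀ g, (∀ i, ∃ n, Walk n (V false 1) (V i g)) → ∀ j, ∀ m ∈ P.M j,
        ∀ i, ∃ n, Walk n (V false 1) (V i (g * m)) := by
      intro g hg j m hm i
      obtain ⟨n, hn⟩ := hg j
      rw [← hV j g m hm] at hn
      rcases eq_or_ne i j with rfl | hij
      · exact ⟨n, hn⟩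
      · refine ⟨n + 1, (wsnoc n _ _).mpr ⟨_, hn, j, g * m, rfl, ?_⟩⟩
        cases i <;> cases j <;> simp_all
    have h1 : ∀ i, ∃ n, Walk n (V false 1) (V i 1) := by
      intro i
      cases i
      · exact ⟨0, rfl⟩
      · exact ⟨1, V true 1, ⟨false, 1, rfl, rfl⟩, rfl⟩
    intro g hg
    rw [hH, sup_eq_closure] at hg
    induction hg using closure_induction_right with
    | one => exact h1
    | mul_right x _ y hy ih =>
      rcases hy with hy | hy
      · exact hstep x ih false y hy
      · exact hstep x ih true y hy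
    | mul_inv_cancel x _ y hy ih =>
      rcases hy with hy | hy
      · exact hstep x ih false _ (inv_mem hy)
      · exact hstep x ih true _ (inv_mem hy)
  set S : Set G := {x | ∃ g ∈ H, x ∈ cj g (W false)} with hS
  set N := Subgroup.closure S with hN
  have hNQ : ∀ i, N ≤ Q P i := by
    intro i
    refine (closure_le _).mpr ?_
    rintro x ⟨g, hg, hx⟩
    obtain ⟨n, hn⟩ := reach g⁻¹ (inv_mem hg) i
    have h1 : cj 1 (W false) ≤ cj g⁻¹ (Q P i) := main n _ _ hn false 1 rfl
    rw [cj_one, le_cj_iff, inv_inv] at h1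
    exact h1 hx
  have hNne : N ≠ ⊥ := fun h => (hW false).ne (le_bot_iff.mp (h ▸ fun x hx =>
    subset_closure ⟨1, one_mem _, by rw [cj_one]; exact hx⟩))
  have hHN : H ≤ normalizer (N : Set G) := by
    refine LocalBasics.le_normalizer_of_conj fun x hx w hw => ?_
    have h1 : cj x N ≤ N := by
      rw [cj, hN, MonoidHom.map_closure]
      refine closure_mono ?_
      rintro _ ⟨y, ⟨m, hm, hy⟩, rfl⟩
      exact ⟨x * m, mul_mem hx hm, by rw [← cj_cj]; exact mem_map_of_mem _ hy⟩
    exact h1 (mem_map_of_mem _ hw)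
  have hle : ∀ i, P.M (!i) ≤ P.M i := fun i => fun x hx =>
    P.prim i N hNne ((hNQ i).trans (Q_le P i)) ((hNQ i).trans (P.core_le i))
      ((by cases i; exacts [le_sup_left, le_sup_right] : P.M i ≤ H).trans hHN)
      ⟨hx, hHN ((by cases i; exacts [le_sup_right, le_sup_left] : P.M (!i) ≤ H) hx)⟩
  exact P.ne (le_antisymm (hle true) (hle false))

end Pair

end Cfsg.Agent.PrimitivePair69
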