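import Mathlib
import Cfsg.Prelude.Def_Local
import Cfsg.Agent.Lib.ComponentsBasic
import Cfsg.Agent.Lib.ComponentsCores
import Cfsg.Agent.Lib.ComponentsFitting

/-!
Primitive subgroups in the sense of Kurzweil–Stellmacher §6.6: a proper subgroup `M` with
`N_G(N) = M` for every nontrivial normal subgroup `N` of `M`.
-/

namespace Cfsg.Agent.PrimitiveSubgroup

open Cfsg.Agent.ComponentsBasic Cfsg.Agent.ComponentsCores Cfsg.Agent.ComponentsFitting

/-- The hypothesis. -/
def IsPrimitiveSub {G : Type*} [Group G] (M : Subgroup G) : Prop :=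
  M ≠ ⊤ ∧ ∀ N : Subgroup G, N ≤ M → M ≤ Subgroup.normalizer (N : Set G) → N ≠ ⊥ →
    Subgroup.normalizer (N : Set G) = M

variable {G : Type*} [Group G] {M : Subgroup G}

theorem normal_le_eq_bot (hM : IsPrimitiveSub M) {N : Subgroup G} [N.Normal] (h : N ≤ M) : N = ⊥ := by
  by_contra hne
  have := hM.2 N h (by rw [Subgroup.normalizer_eq_top_iff.2 inferInstance]; exact le_top) hne
  rw [Subgroup.normalizer_eq_top_iff.2 inferInstance] at this
  exact hM.1 this.symm

theorem le_normalizer_inf_normal (M N : Subgroup G) [N.Normal] :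
    M ≤ Subgroup.normalizer ((M ⊓ N : Subgroup G) : Set G) := by
  intro m hm
  rw [Subgroup.mem_normalizer_iff]
  intro x
  constructor
  · rintro ⟨hx, hx'⟩
    exact ⟨M.mul_mem (M.mul_mem hm hx) (M.inv_mem hm), ‹N.Normal›.conj_mem x hx' m⟩
  · rintro ⟨hx, hx'⟩
    refine ⟨?_, ?_⟩
    · have := M.mul_mem (M.mul_mem (M.inv_mem hm) hx) hm
      simpa [mul_assoc] using this
    · have := ‹N.Normal›.conj_mem _ hx' m⁻¹
      simpa [mul_assoc] using this

/-- A nontrivial intersection with a normal subgroup is self-normalizing in it. -/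
theorem normalizer_inf_eq (hM : IsPrimitiveSub M) (N : Subgroup G) [N.Normal] (h : M ⊓ N ≠ ⊥) :
    Subgroup.normalizer ((M ⊓ N : Subgroup G) : Set G) = M :=
  hM.2 _ inf_le_left (le_normalizer_inf_normal M N) h

theorem inf_normal_nilpotent_eq_bot (hM : IsPrimitiveSub M) (N : Subgroup G) [N.Normal]
    [Group.IsNilpotent N] : M ⊓ N = ⊥ := by
  by_contra h
  have hn := normalizer_inf_eq hM N h
  have hNM : ¬ N ≤ M := fun hle => h (by rw [normal_le_eq_bot hM hle, inf_bot_eq])
  have hlt : (M ⊓ N).subgroupOf N < ⊤ := by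
    rw [lt_top_iff_ne_top, Ne, Subgroup.subgroupOf_eq_top]
    exact fun hle => hNM (hle.trans inf_le_left)
  have hgt := Group.normalizerCondition_of_isNilpotent (G := N) _ hlt
  obtain ⟨x, hx, hx'⟩ := SetLike.exists_of_lt hgt
  apply hx'
  rw [Subgroup.mem_subgroupOf]
  refine ⟨?_, x.2⟩
  show (x : G) ∈ M
  rw [← hn, Subgroup.mem_normalizer_iff]
  intro y
  have hx2 := Subgroup.mem_normalizer_iff.1 hx
  constructor
  · intro hy
    exact (hx2 ⟨y, hy.2⟩).1 (Subgroup.mem_subgroupOf.2 hy)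
  · intro hy
    have hyN : y ∈ N := by
      have := mul_mem (mul_mem (inv_mem x.2) hy.2) x.2
      simpa [mul_assoc] using this
    exact (hx2 ⟨y, hyN⟩).2 hy

theorem inf_fitting_eq_bot [Finite G] (hM : IsPrimitiveSub M) : M ⊓ fittingSubgroup G = ⊥ :=
  inf_normal_nilpotent_eq_bot hM _

theorem no_component_le [Finite G] (hM : IsPrimitiveSub M) {K : Subgroup G} (hK : IsComponent K) :
    ¬ K ≤ M := by
  intro hKM
  let Y : Subgroup G := sSup {L : Subgroup G | IsComponent L ∧ L ≤ M}
  have hYM : Y ≤ M := sSup_le fun L hL => hL.2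
  have hY : Y ≠ ⊥ := fun h => Cfsg.Agent.ComponentsBasic.IsComponent.ne_bot hK (le_bot_iff.1 (h ▸ le_sSup (s := {L : Subgroup G | IsComponent L ∧ L ≤ M}) ⟨hK, hKM⟩))
  have hMY : M ≤ Subgroup.normalizer (Y : Set G) := by
    intro m hm
    have key : ∀ g ∈ M, Y.map (MulAut.conj g).toMonoidHom ≤ Y := by
      intro g hg
      rw [Subgroup.map_le_iff_le_comap]
      refine sSup_le fun L hL => Subgroup.map_le_iff_le_comap.1 (le_sSup (s := {L : Subgroup G | IsComponent L ∧ L ≤ M}) ⟨isComponent_conj hL.1 g, ?_⟩)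
      rintro _ ⟨l, hl, rfl⟩
      exact mul_mem (mul_mem hg (hL.2 hl)) (inv_mem hg)
    rw [Subgroup.mem_normalizer_iff]
    intro x
    constructor
    · exact fun hx => key m hm ⟨x, hx, rfl⟩
    · intro hx
      have h1 := key m⁻¹ (inv_mem hm) ⟨_, hx, rfl⟩
      have h2 : m⁻¹ * (m * x * m⁻¹) * m⁻¹⁻¹ ∈ Y := h1
      simpa [mul_assoc] using h2
  have hYn := hM.2 Y hYM hMY hY
  have hlay : layer G ≤ M := by
    refine sSup_le fun L hL => ?_
    rw [← hYn]
    intro l hl
    have key : ∀ g ∈ L, Y.map (MulAut.conj g).toMonoidHom ≤ Y := by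
      intro g hg
      rw [Subgroup.map_le_iff_le_comap]
      refine sSup_le fun L' hL' x hx => ?_
      have h2 := (Subgroup.mem_normalizer_iff.1 (component_le_normalizer hL hL'.1 hg) x).1 hx
      exact (le_sSup (s := {L : Subgroup G | IsComponent L ∧ L ≤ M}) hL') h2
    rw [Subgroup.mem_normalizer_iff]
    intro x
    constructor
    · exact fun hx => key l hl ⟨x, hx, rfl⟩
    · intro hx
      have h1 := key l⁻¹ (inv_mem hl) ⟨_, hx, rfl⟩
      have h2 : l⁻¹ * (l * x * l⁻¹) * l⁻¹⁻¹ ∈ Y := h1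
      simpa [mul_assoc] using h2
  have := normal_le_eq_bot hM hlay
  exact Cfsg.Agent.ComponentsBasic.IsComponent.ne_bot hK (le_bot_iff.1 (this ▸ component_le_layer hK))

theorem subnormal_le_eq_bot [Finite G] (hM : IsPrimitiveSub M) {L : Subgroup G}
    (hL : L.IsSubnormal) (hLM : L ≤ M) : L = ⊥ := by
  by_contra hne
  haveI : Nontrivial L := (Subgroup.nontrivial_iff_ne_bot L).2 hne
  by_cases hlay : layer L = ⊥
  · have hg := gen_ne_bot (G := L)
    rw [gen_eq_fitting_iff.2 hlay] at hg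
    have h1 : (fittingSubgroup L).map L.subtype ≤ M ⊓ fittingSubgroup G :=
      le_inf ((Subgroup.map_subtype_le _).trans hLM) (fitting_map_subtype_le hL)
    rw [inf_fitting_eq_bot hM, le_bot_iff, Subgroup.map_eq_bot_iff_of_injective _ L.subtype_injective] at h1
    exact hg h1
  · have : ∃ K : Subgroup L, IsComponent K := by
      by_contra h
      push Not at h
      exact hlay (sSup_eq_bot.2 fun K hK => absurd hK (h K))
    obtain ⟨K, hK⟩ := this
    exact no_component_le hM (isComponent_map_subtype hL hK) ((Subgroup.map_subtype_le K).trans hLM)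

end Cfsg.Agent.PrimitiveSubgroup
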