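import Cfsg.Agent.Lib.CharItoMichlerPSolvable
import Cfsg.Agent.Lib.CharExtension
import Cfsg.Agent.Lib.CharExtensionCrit
import Cfsg.Agent.Lib.CoprimeAction
import Cfsg.Agent.Lib.GlaubermanCount
import Cfsg.Agent.Lib.CharKernel
import Cfsg.Agent.Lib.PrincipalCover80
import Cfsg.Agent.Lib.PermBasic

/-!
Characters of degree prime to `p` over invariant characters, and the Sylow `q`-subgroup
centralised by a Sylow `p`-subgroup when all such characters have degree prime to `q`.
-/

set_option autoImplicit false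

namespace Cfsg.Agent.PrincipalPQ78

open Cfsg Cfsg.Agent.HallCore
open Cfsg.Agent.CharBasic Cfsg.Agent.CharBasicOrth Cfsg.Agent.CharBasicDecomp
open Cfsg.Agent.CharInduced
open scoped ComplexConjugate

attribute [local instance] Classical.propDecidable

set_option linter.unusedSectionVars false

universe u

variable {G : Type u} [Group G] [Finite G]

/-- The orbit length times the degree of a constituent divides the degree. -/
theorem orbit_mul_dvd [Fintype G] (N : Subgroup G) [N.Normal] [Fintype N] (θ : IrrCharacter N)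
    (χ : IrrCharacter G) (h : classInner (fun n : N => (χ : G → ℂ) n) (θ : N → ℂ) ≠ 0) :
    (orbitFin N (θ : N → ℂ)).card * charDegree (θ : N → ℂ) ∣ charDegree (χ : G → ℂ) := by
  obtain ⟨m, hm⟩ := classInner_isCharacter
    (isCharacter_comap N.subtype (isCharacter_of_isIrrCharacter χ.2))
    (isCharacter_of_isIrrCharacter θ.2)
  refine ⟨m, ?_⟩
  have h1 := congrFun (clifford N χ.2 θ.2 h) 1
  simp only [OneMemClass.coe_one, Pi.smul_apply, Finset.sum_apply, smul_eq_mul] at h1
  have hm' : Cfsg.classInner (fun n : N => (χ : G → ℂ) n) (θ : N → ℂ) = (m : ℂ) := hm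
  rw [hm', Finset.sum_congr rfl (g := fun _ => (charDegree (θ : N → ℂ) : ℂ)) (fun ψ hψ => by
    obtain ⟨g, rfl⟩ := (mem_orbitFin N).1 hψ
    rw [conjFun]
    simp only [OneMemClass.coe_one, mul_one, mul_inv_cancel, ← CharAverage.irr_apply_one θ]
    rfl), Finset.sum_const, nsmul_eq_mul, CharAverage.irr_apply_one χ] at h1
  have : (charDegree (χ : G → ℂ) : ℂ) =
      (((orbitFin N (θ : N → ℂ)).card * charDegree (θ : N → ℂ) * m : ℕ) : ℂ) := by
    rw [h1]; push_cast; ring
  exact_mod_cast this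

/-- If a character over `θ` has degree prime to `q`, so has `θ`, and its inertia group has index
prime to `q`. -/
theorem not_dvd_of_over [Fintype G] {q : ℕ} (N : Subgroup G) [N.Normal] [Fintype N]
    (θ : IrrCharacter N) (χ : IrrCharacter G)
    (h : classInner (fun n : N => (χ : G → ℂ) n) (θ : N → ℂ) ≠ 0)
    (hχ : ¬ q ∣ charDegree (χ : G → ℂ)) :
    ¬ q ∣ charDegree (θ : N → ℂ) ∧ ¬ q ∣ (inertia N (θ : N → ℂ)).index := by
  have hd := orbit_mul_dvd N θ χ h
  refine ⟨fun hq => hχ ((hq.trans (dvd_mul_left _ _)).trans hd), fun hq => hχ ?_⟩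
  have h1 := card_inertia_mul_card_orbit N (θ : N → ℂ)
  rw [← Subgroup.card_mul_index (inertia N (θ : N → ℂ))] at h1
  have h2 := Nat.eq_of_mul_eq_mul_left Nat.card_pos h1
  rw [← h2] at hq
  exact (hq.trans (dvd_mul_right _ _)).trans hd

/-- A character of degree prime to `p` over an extension to a subgroup of index prime to `p`. -/
theorem exists_over_ext [Fintype G] {p : ℕ} [Fact p.Prime] (N J : Subgroup G) [Fintype N]
    [Fintype J] (hNJ : N ≤ J) (hJ : ¬ p ∣ J.index) (θ : IrrCharacter N) (μ : IrrCharacter J)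
    (hμ : ∀ n : N, (μ : J → ℂ) ⟨n, hNJ n.2⟩ = (θ : N → ℂ) n)
    (hθ : ¬ p ∣ charDegree (θ : N → ℂ)) :
    ∃ χ : IrrCharacter G, ¬ p ∣ charDegree (χ : G → ℂ) ∧
      classInner (fun n : N => (χ : G → ℂ) n) (θ : N → ℂ) ≠ 0 := by
  have hp : p.Prime := Fact.out
  have hdeg : charDegree (μ : J → ℂ) = charDegree (θ : N → ℂ) := by
    have h1 := hμ 1
    rw [CharAverage.irr_apply_one θ] at h1
    have h2 := CharAverage.irr_apply_one μ
    rw [show (μ : J → ℂ) 1 = (charDegree (θ : N → ℂ) : ℂ) from h1] at h2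
    exact_mod_cast h2.symm
  have hex : ∀ χ : IrrCharacter G, ∃ m : ℕ,
      classInner (fun x : J => (χ : G → ℂ) x) (μ : J → ℂ) = m := fun χ =>
    classInner_isCharacter (isCharacter_comap J.subtype (isCharacter_of_isIrrCharacter χ.2))
      (isCharacter_of_isIrrCharacter μ.2)
  choose m hm using hex
  have hsum := PrincipalCover80.sum_degree_inner J (μ : J → ℂ)
  simp only [hm, CharAverage.irr_apply_one, map_natCast, hdeg] at hsum
  have hsum' : ∑ χ : IrrCharacter G, charDegree (χ : G → ℂ) * m χ =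
      J.index * charDegree (θ : N → ℂ) := by exact_mod_cast hsum
  obtain ⟨χ, -, hχ⟩ : ∃ χ ∈ (Finset.univ : Finset (IrrCharacter G)),
      ¬ p ∣ charDegree (χ : G → ℂ) * m χ := by
    by_contra hall
    push Not at hall
    exact (hp.not_dvd_mul hJ hθ) (hsum' ▸ Finset.dvd_sum hall)
  refine ⟨χ, fun h => hχ (h.mul_right _), fun h0 => hχ ?_⟩
  obtain ⟨M, hM, hMsum⟩ :=
    exists_mult (isCharacter_comap J.subtype (isCharacter_of_isIrrCharacter χ.2))
  have hres : (fun n : N => (χ : G → ℂ) n) =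
      ∑ ψ : IrrCharacter J, (M ψ : ℂ) • fun n : N => (ψ : J → ℂ) ⟨n, hNJ n.2⟩ := by
    funext n
    have := congrFun hMsum (⟨n, hNJ n.2⟩ : J)
    simp only [Finset.sum_apply, Pi.smul_apply] at this ⊢
    exact this
  have hex2 : ∀ ψ : IrrCharacter J, ∃ k : ℕ,
      classInner (fun n : N => (ψ : J → ℂ) ⟨n, hNJ n.2⟩) (θ : N → ℂ) = k := fun ψ =>
    classInner_isCharacter
      (isCharacter_comap (Subgroup.inclusion hNJ) (isCharacter_of_isIrrCharacter ψ.2))
      (isCharacter_of_isIrrCharacter θ.2)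
  choose k hk using hex2
  rw [hres] at h0
  have h1 : classInner (∑ ψ : IrrCharacter J, (M ψ : ℂ) •
      fun n : N => (ψ : J → ℂ) ⟨n, hNJ n.2⟩) (θ : N → ℂ) =
        ((∑ ψ : IrrCharacter J, M ψ * k ψ : ℕ) : ℂ) := by
    rw [Nat.cast_sum]
    simp only [Nat.cast_mul, ← hk, classInner, Finset.sum_apply, Pi.smul_apply, smul_eq_mul,
      Finset.sum_mul, Finset.mul_sum]
    rw [Finset.sum_comm]
    exact Finset.sum_congr rfl fun ψ _ => Finset.sum_congr rfl fun n _ => by ring
  rw [h1, Nat.cast_eq_zero, Finset.sum_eq_zero_iff] at h0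
  have hk1 : k μ = 1 := by
    have := hk μ
    rw [show (fun n : N => (μ : J → ℂ) ⟨n, hNJ n.2⟩) = (θ : N → ℂ) from funext hμ,
      classInner_irr_self θ.2] at this
    exact_mod_cast this.symm
  have hM0 := h0 μ (Finset.mem_univ μ)
  rw [hk1, mul_one] at hM0
  have : m χ = M μ := by
    have := (hM μ).symm.trans (hm χ)
    exact_mod_cast this.symm
  rw [this, hM0, mul_zero]
  exact dvd_zero p

/-- Coprime extension. -/
theorem exists_ext_coprime (N : Subgroup G) [N.Normal] (hcop : (Nat.card N).Coprime N.index)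
    (θ : IrrCharacter N) (hinv : ∀ g : G, ∀ n : N,
      (θ : N → ℂ) ⟨g * n * g⁻¹, (inferInstance : N.Normal).conj_mem (n : G) n.2 g⟩ =
        (θ : N → ℂ) n) :
    ∃ χ : IrrCharacter G, ∀ n : N, (χ : G → ℂ) n = (θ : N → ℂ) n := by
  haveI : Fintype G := Fintype.ofFinite G
  obtain ⟨d, ρ, hd0, hd1, hch, S, hi, hirr⟩ := CharExtension.exists_setup θ.2 hinv
  have hdd : Cfsg.charDegree (θ : N → ℂ) = d := by
    have := CharAverage.irr_apply_one θ
    rw [hd1] at this
    exact_mod_cast this.symm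
  set lam : N →* ℂˣ := (CharExtension.detU d).comp ρ with hlam
  have hlinv : ∀ (g : G) (n : N), lam (CharExtension.cn g n) = lam n := by
    intro g n
    obtain ⟨u, hu⟩ := hi g
    rw [hlam, MonoidHom.comp_apply, MonoidHom.comp_apply, ← hu n, map_mul, map_mul, map_inv,
      mul_comm, inv_mul_cancel_left]
  have hord : orderOf lam ∣ Nat.card N := by
    refine orderOf_dvd_of_pow_eq_one (MonoidHom.ext fun x => ?_)
    rw [MonoidHom.pow_apply, ← map_pow, pow_card_eq_one', map_one, MonoidHom.one_apply]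
  obtain ⟨μ, hμ, -, -⟩ := CharExtension.linear_ext_coprime lam hlinv
    (hcop.symm.coprime_dvd_right hord)
  have hdvd : d ∣ Nat.card N := hdd ▸ CharAverage.charDegree_dvd_card θ
  obtain ⟨η, hη, -⟩ := CharExtension.exists_ext_det S hi (CharExtension.detU d) d
    (CharExtension.detU_scal d) (fun a => CharExtension.exists_root d a hd0)
    (hcop.symm.coprime_dvd_right hdvd) μ (fun n => hμ n)
  obtain ⟨h1, h2⟩ := CharExtension.ext_to_char_top hirr η hη
  exact ⟨⟨_, h1⟩, fun n => (h2 n).trans (congrFun hch n)⟩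

variable {p : ℕ} [Fact p.Prime]

/-- An invariant character of a normal `p'`-subgroup lies under one of degree prime to `p`. -/
theorem exists_over_invariant [Fintype G] (N : Subgroup G) [N.Normal] [Fintype N]
    (hN : ¬ p ∣ Nat.card N) (P : Subgroup G) (hP : IsPGroup p P) (hPi : ¬ p ∣ P.index)
    (θ : IrrCharacter N) (hθ : P ≤ inertia N (θ : N → ℂ)) :
    ∃ χ : IrrCharacter G, ¬ p ∣ charDegree (χ : G → ℂ) ∧
      classInner (fun n : N => (χ : G → ℂ) n) (θ : N → ℂ) ≠ 0 := by
  have hp : p.Prime := Fact.out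
  set J := N ⊔ P with hJdef
  have hNJ : N ≤ J := le_sup_left
  haveI : Fintype J := Fintype.ofFinite J
  set N' := N.subgroupOf J with hN'
  haveI : N'.Normal := ‹N.Normal›.subgroupOf J
  have hcard : Nat.card N' = Nat.card N := Nat.card_congr (Subgroup.subgroupOfEquivOfLe hNJ).toEquiv
  have hidx : N'.index ∣ Nat.card P := by
    have h1 : N.relIndex (P ⊔ N) = N.relIndex P := Subgroup.relIndex_sup_right P N
    rw [sup_comm] at h1
    show N.relIndex J ∣ _
    rw [h1]
    exact Subgroup.relIndex_dvd_card N P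
  have hcop : (Nat.card N').Coprime N'.index := by
    refine Nat.Coprime.coprime_dvd_right hidx ?_
    obtain ⟨k, hk⟩ := IsPGroup.iff_card.1 hP
    rw [hcard, hk]
    exact ((hp.coprime_iff_not_dvd.2 hN).symm).pow_right k
  set e : N' ≃* N := Subgroup.subgroupOfEquivOfLe hNJ
  set θ' : IrrCharacter N' :=
    ⟨(θ : N → ℂ) ∘ e.toMonoidHom, isIrrCharacter_comap _ e.surjective θ.2⟩
  have hJI : J ≤ inertia N (θ : N → ℂ) := sup_le (le_inertia N (isClassFunction_irr θ.2)) hθ
  obtain ⟨μ, hμ⟩ := exists_ext_coprime N' hcop θ' fun g n => by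
    exact (mem_inertia_iff N).1 (hJI g.2) (e n)
  refine exists_over_ext N J hNJ (fun h => hPi (h.trans (Subgroup.index_dvd_of_le le_sup_right)))
    θ μ (fun n => ?_) fun h => hN (h.trans (CharAverage.charDegree_dvd_card θ))
  exact (hμ ⟨⟨n, hNJ n.2⟩, n.2⟩).trans rfl

/-- Elements with equal values at all irreducible characters are conjugate. -/
theorem isConj_of_values {K : Type u} [Group K] [Finite K] {a b : K}
    (h : ∀ χ : IrrCharacter K, (χ : K → ℂ) a = (χ : K → ℂ) b) : IsConj a b := by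
  by_contra hne
  haveI : Fintype K := Fintype.ofFinite K
  have h1 := sum_irr_mul_conj a b
  rw [if_neg hne] at h1
  simp only [← h] at h1
  rw [sum_irr_mul_conj a a, if_pos (IsConj.refl a)] at h1
  exact Nat.card_pos.ne' (Nat.cast_eq_zero.1 h1)

variable {q : ℕ} [Fact q.Prime]

/-- Elements centralised by `P` in `M` commute with a `q`-element fixing the invariant characters
of `M`. -/
theorem centralizes_fixed (M : Subgroup G) [M.Normal] [Fintype M] (hMp : ¬ p ∣ Nat.card M)
    (hMq : ¬ q ∣ Nat.card M) (P : Subgroup G) (hP : IsPGroup p P) {x : G}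
    (hxq : IsPGroup q (Subgroup.zpowers x)) (hxP : x ∈ Subgroup.centralizer (P : Set G))
    (hfix : ∀ θ : IrrCharacter M, P ≤ inertia M (θ : M → ℂ) → x ∈ inertia M (θ : M → ℂ))
    {c : G} (hc : c ∈ M ⊓ Subgroup.centralizer (P : Set G)) : x * c = c * x := by
  haveI : Fintype G := Fintype.ofFinite G
  set C0 := M ⊓ Subgroup.centralizer (P : Set G) with hC0
  haveI : Fintype C0 := Fintype.ofFinite C0
  have hN : ∀ y ∈ Subgroup.centralizer (P : Set G), y ∈ Subgroup.normalizer (C0 : Set G) := by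
    intro y hy
    refine Subgroup.mem_normalizer_iff.2 fun z => ?_
    simp only [hC0, Subgroup.mem_inf]
    refine and_congr ?_ (Subgroup.mem_normalizer_iff.1 (Subgroup.le_normalizer hy) z)
    exact ⟨fun h => ‹M.Normal›.conj_mem z h y, fun h => by
      simpa [mul_assoc] using ‹M.Normal›.conj_mem _ h y⁻¹⟩
  let ψ : Subgroup.centralizer (P : Set G) →* MulAut C0 :=
    C0.normalizerMonoidHom.comp (Subgroup.inclusion fun y hy => hN y hy)
  have hψ : ∀ (y : Subgroup.centralizer (P : Set G)) (z : C0),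
      ((ψ y z : C0) : G) = y * z * (y : G)⁻¹ := fun y z => rfl
  let φ : P →* MulAut M := (MulAut.conjNormal (H := M)).comp P.subtype
  let ι : C0 →* M := Subgroup.inclusion inf_le_left
  have hS : GlaubermanP.Setup p P M C0 := ⟨Fact.out, hP, hMp⟩
  have hι : GlaubermanP.IsFix φ ι := by
    refine ⟨Subgroup.inclusion_injective _, fun m => ⟨?_, fun h => ?_⟩⟩
    · rintro ⟨z, rfl⟩ a
      refine Subtype.ext ?_
      show (a : G) * (z : G) * (a : G)⁻¹ = z
      rw [Subgroup.mem_centralizer_iff.1 z.2.2 a a.2, mul_inv_cancel_right]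
    · refine ⟨⟨m, m.2, Subgroup.mem_centralizer_iff.2 fun a ha => ?_⟩, rfl⟩
      exact mul_inv_eq_iff_eq_mul.1 (congrArg Subtype.val (h ⟨a, ha⟩))
  set f : C0 ≃* C0 := ψ ⟨x, hxP⟩ with hf
  have hβ : ∀ (β : IrrCharacter C0) (z : C0), (β : C0 → ℂ) (f z) = (β : C0 → ℂ) z := by
    intro β z
    set θ := (GlaubermanP.corr hS hι).symm β with hθ
    have hI : P ≤ inertia M (θ.1 : M → ℂ) := fun a ha =>
      (mem_inertia_iff M).2 fun n => θ.2 ⟨a, ha⟩ n
    have hxI := (mem_inertia_iff M).1 (hfix θ.1 hI)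
    have h1 := GlaubermanP.corr_comp hS hι (MulAut.conjNormal (H := M) x) f
      (fun _ => Subtype.ext rfl) θ θ (fun g => (hxI g).symm) z
    rw [hθ, Equiv.apply_symm_apply] at h1
    exact h1.symm
  set S := (Subgroup.zpowers x).subgroupOf (Subgroup.centralizer (P : Set G)) with hSdef
  have hSq : IsPGroup q S := by
    refine hxq.of_equiv (Subgroup.subgroupOfEquivOfLe ?_).symm
    rwa [Subgroup.zpowers_le]
  let A : Subgroup C0 :=
    { carrier := {z | f z = z}
      one_mem' := map_one f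
      mul_mem' := fun {a b} ha hb => by
        show f (a * b) = a * b
        rw [map_mul, show f a = a from ha, show f b = b from hb]
      inv_mem' := fun {a} ha => by
        show f a⁻¹ = a⁻¹
        rw [map_inv, show f a = a from ha] }
  have hAtop : A = ⊤ := by
    refine CharItoMichler.eq_top_of_conj_meets A fun n => ?_
    have hmem : ∀ (s : S) (g : C0), IsConj n g → IsConj n (ψ s g) := by
      intro s
      have key : ∀ k : ℕ, ∀ g : C0, IsConj n g → IsConj n (ψ (⟨x, hxP⟩ ^ k) g) := by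
        intro k
        induction k with
        | zero => intro g hg; simpa using hg
        | succ k ih =>
          intro g hg
          rw [pow_succ, map_mul]
          refine ih _ ?_
          exact hg.trans (isConj_of_values fun β => (hβ β g).symm)
      intro g hg
      obtain ⟨k, hk⟩ := (Submonoid.mem_powers_iff _ _).1
        (mem_powers_iff_mem_zpowers.2 (Subgroup.mem_subgroupOf.1 s.2))
      rw [show (s : Subgroup.centralizer (P : Set G)) = ⟨x, hxP⟩ ^ k from
        Subtype.ext (by rw [SubgroupClass.coe_pow]; exact hk.symm)]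
      exact key k g hg
    letI : MulAction S {g : C0 // IsConj n g} :=
      { smul := fun s g => ⟨ψ s g, hmem s g g.2⟩
        one_smul := fun g => Subtype.ext (by
          show ψ ((1 : S) : Subgroup.centralizer (P : Set G)) g = _; simp)
        mul_smul := fun s t g => Subtype.ext (by
          show ψ ((s * t : S) : Subgroup.centralizer (P : Set G)) g = ψ s (ψ t g); simp) }
    have hq : ¬ q ∣ Nat.card {g : C0 // IsConj n g} := by
      intro h
      have e : Nat.card {g : C0 // IsConj n g} = Nat.card (MulAction.orbit (ConjAct C0) n) :=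
        Nat.card_congr (Equiv.subtypeEquivRight fun g =>
          isConj_comm.trans ConjAct.mem_orbit_conjAct.symm)
      rw [e] at h
      have h2 := h.trans (PermBasic.card_orbit_dvd (G := ConjAct C0) n)
      rw [Nat.card_congr (ConjAct.ofConjAct (G := C0)).toEquiv] at h2
      exact hMq (h2.trans (Subgroup.card_dvd_of_le inf_le_left))
    obtain ⟨g, hg⟩ := hSq.nonempty_fixed_point_of_prime_not_dvd_card {g : C0 // IsConj n g} hq
    obtain ⟨w, hw⟩ := isConj_iff.1 g.2
    refine ⟨w⁻¹, ?_⟩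
    show f _ = _
    rw [inv_inv, hw]
    exact congrArg Subtype.val (hg ⟨⟨x, hxP⟩, Subgroup.mem_subgroupOf.2 (Subgroup.mem_zpowers x)⟩)
  have h : f ⟨c, hc⟩ = ⟨c, hc⟩ := (hAtop ▸ Subgroup.mem_top _ : (⟨c, hc⟩ : C0) ∈ A)
  exact mul_inv_eq_iff_eq_mul.1 (congrArg Subtype.val h)

/-- With all characters of degree prime to `p` of degree prime to `q`, a unique invariant Sylow
`q`-subgroup. -/
theorem exists_unique_invariant [Fintype G] (hqs : IsPSolvable q G) (L M : Subgroup G) [L.Normal]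
    [M.Normal] (hML : M ≤ L) (hLp : ¬ p ∣ Nat.card L) (hMq : ¬ q ∣ Nat.card M)
    (hLq : ¬ q ∣ L.index) (P : Subgroup G) (hP : IsPGroup p P) (hPi : ¬ p ∣ P.index)
    (hcomm : ∀ u ∈ P, ∀ x ∈ L, u * x * u⁻¹ * x⁻¹ ∈ M)
    (hdeg : ∀ χ : IrrCharacter G, ¬ p ∣ charDegree (χ : G → ℂ) →
      ¬ q ∣ charDegree (χ : G → ℂ)) :
    ∃ Q : Sylow q G, ∀ Q' : Sylow q G, P ≤ Subgroup.normalizer ((Q' : Subgroup G) : Set G) →
      Q' = Q := by
  have hp : p.Prime := Fact.out
  haveI : Fintype L := Fintype.ofFinite L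
  haveI : Fintype M := Fintype.ofFinite M
  have hMp : ¬ p ∣ Nat.card M := fun h => hLp (h.trans (Subgroup.card_dvd_of_le hML))
  set M' := M.subgroupOf L with hM'
  haveI : M'.Normal := ‹M.Normal›.subgroupOf L
  haveI : Fintype (L ⧸ M') := Fintype.ofFinite _
  have hdegL : ∀ ψ : IrrCharacter (L ⧸ M'), ¬ q ∣ charDegree (ψ : L ⧸ M' → ℂ) := by
    intro ψ
    set θ : IrrCharacter L := ⟨(ψ : L ⧸ M' → ℂ) ∘ QuotientGroup.mk' M',
      isIrrCharacter_comap _ (QuotientGroup.mk'_surjective M') ψ.2⟩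
    have hinv : P ≤ inertia L (θ : L → ℂ) := fun u hu => (mem_inertia_iff L).2 fun n => by
      show (ψ : L ⧸ M' → ℂ) (QuotientGroup.mk _) = (ψ : L ⧸ M' → ℂ) (QuotientGroup.mk n)
      refine congrArg (ψ : L ⧸ M' → ℂ) ((QuotientGroup.eq (s := M')).2 ?_).symm
      rw [Subgroup.mem_subgroupOf]
      have := ‹M.Normal›.conj_mem _ (hcomm u hu n n.2) (n : G)⁻¹
      simpa [mul_assoc] using this
    obtain ⟨χ, hχ, hover⟩ := exists_over_invariant L hLp P hP hPi θ hinv
    have := (not_dvd_of_over L θ χ hover (hdeg χ hχ)).1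
    simpa [θ, Cfsg.charDegree] using this
  have hnormal := CharItoMichler.normal_of_degrees _ (L ⧸ M') rfl q
    (HallSolvable.isPSolvable_quotient (HallSolvable.isPSolvable_subgroup hqs L) M') hdegL
  have hsylL : ∀ Q : Sylow q G, (Q : Subgroup G) ≤ L := fun Q => by
    obtain ⟨Q₀⟩ : Nonempty (Sylow q L) := inferInstance
    have hi : ¬ q ∣ ((Q₀ : Subgroup L).map L.subtype).index := by
      rw [Subgroup.index_map_subtype, (Fact.out : q.Prime).dvd_mul]
      exact fun h => h.elim Q₀.not_dvd_index hLq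
    obtain ⟨g, hg⟩ := MulAction.exists_smul_eq G ((Q₀.2.map L.subtype).toSylow hi) Q
    rw [← hg]
    rintro z ⟨y, hy, rfl⟩
    obtain ⟨w, -, rfl⟩ := hy
    exact ‹L.Normal›.conj_mem w w.2 g
  have hsame : ∀ Q Q' : Sylow q G, (Q : Subgroup G) ≤ (Q' : Subgroup G) ⊔ M := by
    intro Q Q'
    set R := Q.subtype (hsylL Q)
    set R' := Q'.subtype (hsylL Q')
    haveI := hnormal (R'.mapSurjective (QuotientGroup.mk'_surjective M'))
    haveI := Sylow.unique_of_normal (R'.mapSurjective (QuotientGroup.mk'_surjective M')) inferInstance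
    have h1 : (R : Subgroup L).map (QuotientGroup.mk' M') =
        (R' : Subgroup L).map (QuotientGroup.mk' M') := by
      rw [← Sylow.coe_mapSurjective (QuotientGroup.mk'_surjective M') R,
        ← Sylow.coe_mapSurjective (QuotientGroup.mk'_surjective M') R',
        Subsingleton.elim (R.mapSurjective (QuotientGroup.mk'_surjective M'))
          (R'.mapSurjective (QuotientGroup.mk'_surjective M'))]
    intro y hy
    have h2 : (QuotientGroup.mk' M') ⟨y, hsylL Q hy⟩ ∈
        (R' : Subgroup L).map (QuotientGroup.mk' M') :=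
      h1 ▸ Subgroup.mem_map_of_mem _ (Subgroup.mem_subgroupOf.2 hy)
    obtain ⟨z, hz, hzy⟩ := h2
    have h3 := Subgroup.mem_subgroupOf.1 (QuotientGroup.eq.1 hzy)
    have h4 := Subgroup.mul_mem_sup (Subgroup.mem_subgroupOf.1 hz : (z : G) ∈ (Q' : Subgroup G)) h3
    simpa using h4
  have hfix : ∀ θ : IrrCharacter M, P ≤ inertia M (θ : M → ℂ) →
      ∀ Q : Sylow q G, (Q : Subgroup G) ≤ inertia M (θ : M → ℂ) := by
    intro θ hθ Q
    obtain ⟨χ, hχ, hover⟩ := exists_over_invariant M hMp P hP hPi θ hθ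
    have hI := (not_dvd_of_over M θ χ hover (hdeg χ hχ)).2
    obtain ⟨S⟩ : Nonempty (Sylow q (inertia M (θ : M → ℂ))) := inferInstance
    have hSi : ¬ q ∣ ((S : Subgroup _).map (inertia M (θ : M → ℂ)).subtype).index := by
      rw [Subgroup.index_map_subtype, (Fact.out : q.Prime).dvd_mul]
      exact fun h => h.elim S.not_dvd_index hI
    exact (hsame Q ((S.2.map _).toSylow hSi)).trans
      (sup_le (Subgroup.map_subtype_le _) (le_inertia M (isClassFunction_irr θ.2)))
  have hcent : ∀ Q : Sylow q G, P ≤ Subgroup.normalizer ((Q : Subgroup G) : Set G) →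
      (Q : Subgroup G) ≤ Subgroup.centralizer (P : Set G) := by
    intro Q hQ y hy
    refine Subgroup.mem_centralizer_iff.2 fun u hu => ?_
    have h1 : u * y * u⁻¹ * y⁻¹ ∈ (Q : Subgroup G) ⊓ M :=
      ⟨(Q : Subgroup G).mul_mem ((Subgroup.mem_normalizer_iff.1 (hQ hu) y).1 hy)
        ((Q : Subgroup G).inv_mem hy), hcomm u hu y (hsylL Q hy)⟩
    have hbot : (Q : Subgroup G) ⊓ M = ⊥ := by
      refine Subgroup.inf_eq_bot_of_coprime ?_
      obtain ⟨k, hk⟩ := IsPGroup.iff_card.1 Q.2
      rw [hk]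
      exact ((Fact.out : q.Prime).coprime_iff_not_dvd.2 hMq).pow_left k
    rw [hbot, Subgroup.mem_bot, mul_inv_eq_one, mul_inv_eq_iff_eq_mul] at h1
    exact h1
  have hLn : P ≤ Subgroup.normalizer (L : Set G) := by
    rw [Subgroup.normalizer_eq_top]; exact le_top
  have hcopL : (Nat.card P).Coprime (Nat.card L) := by
    obtain ⟨k, hk⟩ := IsPGroup.iff_card.1 hP
    rw [hk]
    exact (hp.coprime_iff_not_dvd.2 hLp).pow_left k
  haveI := hP.isNilpotent
  have hPsolv : Group.IsSolvable P := inferInstance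
  obtain ⟨Q₀, hQ₀⟩ := CoprimeAction.exists_invariant_sylow hLn hcopL (Or.inl hPsolv) q
  have hi : ¬ q ∣ ((Q₀ : Subgroup L).map L.subtype).index := by
    rw [Subgroup.index_map_subtype, (Fact.out : q.Prime).dvd_mul]
    exact fun h => h.elim Q₀.not_dvd_index hLq
  set Q : Sylow q G := (Q₀.2.map L.subtype).toSylow hi
  refine ⟨Q, fun Q' hQ' => ?_⟩
  have hQP := hcent Q hQ₀
  have hQ'P := hcent Q' hQ'
  set K := (Q : Subgroup G) ⊔ M with hK
  have hKc : ∀ u ∈ P, ∀ z ∈ K, u * z * u⁻¹ ∈ K := by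
    intro u hu z hz
    obtain ⟨a, ha, b, hb, rfl⟩ := Subgroup.mem_sup_of_normal_right.1 hz
    rw [show u * (a * b) * u⁻¹ = (u * a * u⁻¹) * (u * b * u⁻¹) by group]
    exact Subgroup.mul_mem_sup ((Subgroup.mem_normalizer_iff.1 (hQ₀ hu) a).1 ha)
      (‹M.Normal›.conj_mem b hb u)
  have hKn : P ≤ Subgroup.normalizer (K : Set G) := fun u hu =>
    Subgroup.mem_normalizer_iff.2 fun z => ⟨hKc u hu z, fun h => by
      simpa [mul_assoc] using hKc u⁻¹ (inv_mem hu) _ h⟩
  have hKL : K ≤ L := sup_le (hsylL Q) hML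
  have hcopK : (Nat.card P).Coprime (Nat.card K) :=
    hcopL.coprime_dvd_right (Subgroup.card_dvd_of_le hKL)
  set R := Q.subtype (show (Q : Subgroup G) ≤ K from le_sup_left)
  set R' := Q'.subtype (show (Q' : Subgroup G) ≤ K from hsame Q' Q)
  have hR : (R : Subgroup K).map K.subtype = Q := Subgroup.map_subgroupOf_eq_of_le le_sup_left
  have hR' : (R' : Subgroup K).map K.subtype = Q' :=
    Subgroup.map_subgroupOf_eq_of_le (hsame Q' Q)
  obtain ⟨d, hdP, hdR⟩ := CoprimeAction.invariant_sylow_conj hKn hcopK (Or.inl hPsolv) R R'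
    (by rw [hR]; exact hQ₀) (by rw [hR']; exact hQ')
  obtain ⟨y, hy, m, hm, hym⟩ := Subgroup.mem_sup_of_normal_right.1 d.2
  have hmP : m ∈ Subgroup.centralizer (P : Set G) := by
    rw [show m = y⁻¹ * (d : G) by rw [← hym, inv_mul_cancel_left]]
    exact Subgroup.mul_mem _ (Subgroup.inv_mem _ (hQP hy)) hdP
  have hmQ : ∀ z ∈ (Q : Subgroup G), m * z * m⁻¹ = z := fun z hz => by
    have hzq : IsPGroup q (Subgroup.zpowers z) := Q.2.to_le (Subgroup.zpowers_le.2 hz)
    rw [← centralizes_fixed M hMp hMq P hP hzq (hQP hz) (fun θ hθ => hfix θ hθ Q hz)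
      ⟨hm, hmP⟩, mul_inv_cancel_right]
  refine Sylow.ext (SetLike.ext' ?_)
  ext z
  have hd : (Q' : Subgroup G) = (Q : Subgroup G).map (MulAut.conj (d : G)).toMonoidHom := by
    rw [← hR', ← hdR, ← hR, Sylow.pointwise_smul_def, CoprimeSZ.map_conj_smul]
    rfl
  rw [hd]
  have hdQ : ∀ w ∈ (Q : Subgroup G), (d : G) * w * (d : G)⁻¹ = y * w * y⁻¹ := fun w hw => by
    rw [← hym, show y * m * w * (y * m)⁻¹ = y * (m * w * m⁻¹) * y⁻¹ by group, hmQ w hw]
  constructor
  · rintro ⟨w, hw, rfl⟩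
    show (d : G) * w * (d : G)⁻¹ ∈ (Q : Subgroup G)
    rw [hdQ w hw]
    exact (Q : Subgroup G).mul_mem ((Q : Subgroup G).mul_mem hy hw) ((Q : Subgroup G).inv_mem hy)
  · intro hz
    have hw : y⁻¹ * z * y ∈ (Q : Subgroup G) :=
      (Q : Subgroup G).mul_mem ((Q : Subgroup G).mul_mem ((Q : Subgroup G).inv_mem hy) hz) hy
    refine ⟨_, hw, ?_⟩
    show (d : G) * (y⁻¹ * z * y) * (d : G)⁻¹ = z
    rw [hdQ _ hw]
    group

end Cfsg.Agent.PrincipalPQ78
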