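import Cfsg.Agent.Lib.ProductFusion68Local
import Cfsg.Agent.Lib.CoprimeFixedGen56
import Cfsg.Agent.Lib.CoprimeGen
import Cfsg.Agent.Lib.CoprimeTools
import Cfsg.Agent.S0205
import Cfsg.Agent.S0217

/-!
# Product fusion: the signalizer functor of a frame
-/

set_option autoImplicit false

namespace Cfsg.Agent.ProductFusion68

open Subgroup
open scoped commutatorElement

variable {G : Type*} [Group G]

theorem mem_centralizer_zpowers {y f : G} :
    f ∈ centralizer ((zpowers y : Subgroup G) : Set G) ↔ Commute f y := by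
  rw [Subgroup.mem_centralizer_iff]
  refine ⟨fun h => (h y (mem_zpowers y)).symm, ?_⟩
  rintro h _ ⟨i, rfl⟩
  exact (h.zpow_right i).eq.symm

theorem solvable_of_odd [Finite G] {H : Subgroup G} (h : Odd (Nat.card H)) :
    Group.IsSolvable H := S0205.result h

theorem isSolvable_two [Finite G] {A : Subgroup G} (hA : IsPGroup 2 A) : Group.IsSolvable A := by
  haveI := Fact.mk Nat.prime_two
  exact CoprimeAction.isSolvable_of_isPGroup hA

theorem isPGroup_zpowers_of_sq [Finite G] {y : G} (hy : y * y = 1) : IsPGroup 2 (zpowers y) :=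
  isPGroup_of_forall_sq fun v hv => by
    obtain ⟨i, rfl⟩ := hv
    show y ^ i * y ^ i = 1
    rw [← (Commute.refl y).mul_zpow, hy, one_zpow]

/-- The fixed part of `side`. -/
def fixPart (U : Subgroup G) (x : G) : Subgroup G :=
  R x ⊓ centralizer (U : Set G) ⊓ ⨅ u : {u : G // u ∈ U ∧ u ≠ 1}, R (u : G)

/-- One side of the functor. -/
def side (U : Subgroup G) (x : G) : Subgroup G := ⁅R x, U⁆ ⊔ fixPart U x

theorem mem_fixPart {U : Subgroup G} {x f : G} :
    f ∈ fixPart U x ↔ f ∈ R x ∧ f ∈ centralizer (U : Set G) ∧ ∀ u ∈ U, u ≠ 1 → f ∈ R u := by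
  simp only [fixPart, Subgroup.mem_inf, Subgroup.mem_iInf, Subtype.forall, and_imp, and_assoc]

theorem commutator_R_le_side (U : Subgroup G) (x : G) : ⁅R x, U⁆ ≤ side U x := le_sup_left

theorem fixPart_le_side (U : Subgroup G) (x : G) : fixPart U x ≤ side U x := le_sup_right

theorem conj_mem_R_of_mem {x a : G} {U : Subgroup G} (hU : ∀ u ∈ U, Commute u x) (ha : a ∈ U)
    {k : G} (hk : k ∈ R x) : a * k * a⁻¹ ∈ R x :=
  conj_mem_R_of_commute (hU a ha) hk

theorem commutator_R_le [Finite G] {U : Subgroup G} {x : G} (hU : ∀ u ∈ U, Commute u x) :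
    ⁅R x, U⁆ ≤ R x := by
  rw [Subgroup.commutator_le]
  intro k hk u hu
  rw [show ⁅k, u⁆ = k * (u * k⁻¹ * u⁻¹) by simp [commutatorElement_def, mul_assoc]]
  exact mul_mem hk (conj_mem_R_of_mem hU hu (inv_mem hk))

theorem side_le [Finite G] {U : Subgroup G} {x : G} (hU : ∀ u ∈ U, Commute u x) :
    side U x ≤ R x :=
  sup_le (commutator_R_le hU) fun _ hf => (mem_fixPart.1 hf).1

theorem map_conj_side_le [Finite G] (g : G) (U : Subgroup G) (x : G) :
    (side U x).map (MulAut.conj g).toMonoidHom ≤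
      side (U.map (MulAut.conj g).toMonoidHom) (g * x * g⁻¹) := by
  rw [side, Subgroup.map_sup, Subgroup.map_commutator]
  refine sup_le_sup (Subgroup.commutator_mono ?_ le_rfl) ?_
  · rintro _ ⟨k, hk, rfl⟩
    exact conj_mem_R g hk
  · rintro _ ⟨f, hf, rfl⟩
    obtain ⟨h1, h2, h3⟩ := mem_fixPart.1 hf
    refine mem_fixPart.2 ⟨conj_mem_R g h1, Subgroup.mem_centralizer_iff.2 ?_, ?_⟩
    · rintro _ ⟨u, hu, rfl⟩
      rw [← map_mul, ← map_mul, Subgroup.mem_centralizer_iff.1 h2 u hu]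
    · rintro _ ⟨u, hu, rfl⟩ hu1
      exact conj_mem_R g (h3 u hu (by rintro rfl; exact hu1 (by simp)))

namespace Frame

variable {D : Data G} (F : Frame D)

theorem swap_A : F.swap.A = F.A := sup_comm _ _

theorem commute_V1 {x : G} (hx : x ∈ F.A) : ∀ u ∈ F.V1, Commute u x :=
  fun _ hu => F.A_comm (F.V1_le hu) hx

theorem commute_V2 {x : G} (hx : x ∈ F.A) : ∀ u ∈ F.V2, Commute u x :=
  fun _ hu => F.A_comm (F.V2_le hu) hx

theorem A_le_normalizer_side [Finite G] {x : G} (hx : x ∈ F.A) :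
    F.A ≤ normalizer (side F.V1 x : Set G) := by
  refine le_normalizer_of_conj_mem' fun a ha f hf => ?_
  have hfix : ∀ u ∈ F.A, a * u * a⁻¹ = u := fun u hu => by
    rw [(F.A_comm ha hu).eq, mul_inv_cancel_right]
  have h := map_conj_side_le a F.V1 x ⟨f, hf, rfl⟩
  have e : F.V1.map (MulAut.conj a).toMonoidHom = F.V1 := by
    ext v
    constructor
    · rintro ⟨w, hw, rfl⟩
      show a * w * a⁻¹ ∈ F.V1
      rw [hfix w (F.V1_le hw)]; exact hw
    · exact fun hv => ⟨v, hv, hfix v (F.V1_le hv)⟩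
  rwa [e, hfix x hx] at h

end Frame

namespace Ctx

variable (K : Ctx G)

theorem ctr_ne_top [Finite G] (F : Frame K.toData) {y : G} (hy : y ∈ F.A) (hy1 : y ≠ 1) :
    centralizer ({y} : Set G) ≠ ⊤ :=
  centralizer_ne_top (K.nc_of_mem_A F hy hy1)

theorem mem_closure_union [Finite G] (F : Frame K.toData) {X : Subgroup G} (hX : F.A ≤ X) {x : G}
    (hx : x ∈ F.A) : x ∈ closure ((K.C1 ∪ K.C2) ∩ X) := by
  obtain ⟨v, hv, w, hw, rfl⟩ := F.mem_A.1 hx
  exact mul_mem (subset_closure ⟨Or.inl (F.sub1 v hv), hX (F.V1_le hv)⟩)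
    (subset_closure ⟨Or.inr (F.sub2 w hw), hX (F.V2_le hw)⟩)

/-- `[k,u] ∈ O(C(v))` for `k ∈ O(C(x))` centralising `v`. -/
theorem commutator_mem_R [Finite G] (F : Frame K.toData) {x v u k : G} (hx : x ∈ F.A)
    (hv : v ∈ F.V1) (hv1 : v ≠ 1) (hu : u ∈ F.V1) (hk : k ∈ R x) (hkv : Commute k v) :
    ⁅k, u⁆ ∈ R v := by
  set X := centralizer ({v} : Set G) with hXdef
  have hX : X ≠ ⊤ := K.ctr_ne_top F (F.V1_le hv) hv1
  have hAX : F.A ≤ X := F.A_le_centralizer (F.V1_le hv)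
  obtain ⟨x1, hx1, x2, hx2, hxe⟩ := F.mem_A.1 hx
  have hux : Commute u x := F.commute_V1 hx u hu
  have hR : ⁅k, u⁆ ∈ R x := by
    rw [show ⁅k, u⁆ = k * (u * k⁻¹ * u⁻¹) by simp [commutatorElement_def, mul_assoc]]
    exact mul_mem hk (conj_mem_R_of_commute hux (inv_mem hk))
  have hkX : k ∈ X := mem_centralizer_singleton.2 hkv
  have hc1 : ∀ w ∈ F.V1, ⁅k, w⁆ ∈ closure (K.C1 ∩ X) := by
    intro w hw
    rw [commutatorElement_def]
    exact mul_mem (subset_closure ⟨K.conjInv1 k w (F.sub1 w hw),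
      mul_mem (mul_mem hkX (hAX (F.V1_le hw))) (inv_mem hkX)⟩)
      (inv_mem (subset_closure ⟨F.sub1 w hw, hAX (F.V1_le hw)⟩))
  by_cases hcase : x1 = 1 ∨ x1 = v
  · refine K.R_inf_closure1 (F.A_sq hx) (hAX hx) ?_ hR (hc1 u hu)
    have hv' : v ∈ cen X K.C1 := ⟨self_mem_centralizer v, fun y _ hyX => by
      rw [commutator_eq_one' (mem_centralizer_singleton.1 hyX).symm]; exact one_mem _⟩
    have h2 : x2 ∈ cen X K.C1 :=
      K.closure2_le_cen1 hX (subset_closure ⟨F.sub2 x2 hx2, hAX (F.V2_le hx2)⟩)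
    rw [← hxe]
    rcases hcase with h | h
    · rw [h, one_mul]; exact h2
    · rw [h]; exact mul_mem hv' h2
  · simp only [not_or] at hcase
    obtain ⟨hx11, hx1v⟩ := hcase
    have hkv' : ⁅k, v⁆ = 1 := commutator_eq_one' hkv
    -- `u` is congruent to `x1` modulo `⟨v⟩`, unless it lies in `⟨v⟩`
    have hu' : ⁅k, u⁆ = 1 ∨ ⁅k, u⁆ = ⁅k, x1⁆ := by
      rcases F.four_elements hv hx1 hv1 hx11 (Ne.symm hx1v) hu with h | h | h | h
      · left; subst h; simp [commutatorElement_def]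
      · left; rw [h]; exact hkv'
      · right; rw [h]
      · right
        rw [h, show ⁅k, v * x1⁆ = ⁅k, v⁆ * (v * ⁅k, x1⁆ * v⁻¹) by
          simp [commutatorElement_def, mul_assoc], hkv', one_mul]
        have h5 : Commute v ⁅k, x1⁆ := by
          rw [commutatorElement_def]
          exact (((hkv.symm.mul_right (F.comm_self1 hv hx1)).mul_right hkv.symm.inv_right).mul_right
            (F.comm_self1 hv hx1).inv_right)
        rw [h5.eq, mul_inv_cancel_right]
    rcases hu' with h | h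
    · rw [h]; exact one_mem _
    rw [h]
    refine K.both_le_coreIn hX (hc1 x1 hx1) ?_ (h ▸ odd_orderOf_of_mem (odd_coreIn _) hR)
    have hkx : Commute k x := commute_of_mem_R hk
    have e : ⁅k, x1⁆ = x * ⁅k, x2⁆ * x⁻¹ := by
      have e1 : x1 = x * x2 := by rw [← hxe, mul_assoc, F.sq2 x2 hx2, mul_one]
      have hc : Commute x x2 := (F.A_comm (F.V2_le hx2) hx).symm
      calc ⁅k, x1⁆ = k * (x * x2) * k⁻¹ * (x * x2)⁻¹ := by rw [commutatorElement_def, e1]
        _ = (k * x) * x2 * k⁻¹ * (x2⁻¹ * x⁻¹) := by rw [mul_inv_rev]; group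
        _ = (x * k) * x2 * k⁻¹ * (x2⁻¹ * x⁻¹) := by rw [hkx.eq]
        _ = x * ⁅k, x2⁆ * x⁻¹ := by rw [commutatorElement_def]; group
    rw [e]
    refine conj_mem_closure_inter K.conjInv2 (hAX hx) ?_
    rw [commutatorElement_def]
    exact mul_mem (subset_closure ⟨K.conjInv2 k x2 (F.sub2 x2 hx2),
      mul_mem (mul_mem hkX (hAX (F.V2_le hx2))) (inv_mem hkX)⟩)
      (inv_mem (subset_closure ⟨F.sub2 x2 hx2, hAX (F.V2_le hx2)⟩))

/-- Elements of one side of the functor commute with the other side modulo cores. -/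
theorem good2 [Finite G] (F : Frame K.toData) {x y f : G} (hx : x ∈ F.A) (hy : y ∈ F.A)
    (hy1 : y ≠ 1) (hf : f ∈ side F.V1 x) (hfy : Commute f y) :
    f ∈ cen (centralizer ({y} : Set G)) K.C2 := by
  set X := centralizer ({y} : Set G) with hXdef
  have hX : X ≠ ⊤ := K.ctr_ne_top F hy hy1
  have hAX : F.A ≤ X := F.A_le_centralizer hy
  have hy2 : y * y = 1 := F.A_sq hy
  set L := ⁅R x, F.V1⁆ with hLdef
  set Fx := fixPart F.V1 x with hFx
  have hLR : L ≤ R x := commutator_R_le (F.commute_V1 hx)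
  have hLodd : Odd (Nat.card L) := odd_card_of_le hLR (odd_coreIn _)
  have hVR : F.V1 ≤ normalizer (R x : Set G) :=
    le_normalizer_of_conj_mem' fun a ha k hk =>
      conj_mem_R_of_commute (F.commute_V1 hx a ha) hk
  have hAR : F.A ≤ normalizer (R x : Set G) :=
    le_normalizer_of_conj_mem' fun a ha k hk =>
      conj_mem_R_of_commute (F.A_comm ha hx) hk
  have hAV : F.A ≤ normalizer (F.V1 : Set G) :=
    le_normalizer_of_conj_mem' fun a ha v hv => by
      rw [(F.A_comm ha (F.V1_le hv)).eq, mul_inv_cancel_right]; exact hv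
  have hAL : F.A ≤ normalizer (L : Set G) :=
    CoprimeTools.le_normalizer_commutator_of_le hAR hAV
  have hAF : F.A ≤ normalizer (Fx : Set G) := by
    refine le_normalizer_of_conj_mem' fun a ha q hq => ?_
    obtain ⟨q1, q2, q3⟩ := mem_fixPart.1 hq
    refine mem_fixPart.2 ⟨conj_mem_of_mem (hAR ha) q1, ?_, fun u hu hu1 =>
      conj_mem_R_of_commute (F.A_comm ha (F.V1_le hu)) (q3 u hu hu1)⟩
    exact conj_mem_of_mem (CoprimeTools.le_normalizer_centralizer_of_le hAV ha) q2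
  have hFN : Fx ≤ normalizer (L : Set G) := by
    refine CoprimeTools.le_normalizer_commutator_of_le
      (fun q hq => Subgroup.le_normalizer (mem_fixPart.1 hq).1) ?_
    exact fun q hq => Subgroup.centralizer_le_normalizer _ (mem_fixPart.1 hq).2.1
  -- split `f` into `y`-fixed parts
  have hf' : f ∈ ((L ⊔ Fx : Subgroup G) : Set G) := hf
  rw [Subgroup.coe_mul_of_right_le_normalizer_left _ _ hFN] at hf'
  obtain ⟨l0, hl0, q0, hq0, hfe⟩ := Set.mem_mul.1 hf'
  obtain ⟨l, ⟨hl, hly⟩, q, ⟨hq, hqy⟩, he⟩ := CoprimeAction.exists_mul_fixed_of_product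
    (A := zpowers y) (zpowers_le.2 (hAL hy)) (zpowers_le.2 (hAF hy))
    (coprime_two_group (isPGroup_zpowers_of_sq hy2) hLodd)
    (Or.inl (CoprimeAction.isSolvable_zpowers y)) hl0 hq0
    (by rw [hfe]; exact mem_centralizer_zpowers.2 hfy)
  rw [hfe] at he
  rw [he]
  refine mul_mem ?_ ?_
  swap
  · obtain ⟨v, hv, hv1⟩ := F.exists_ne1
    exact K.lemmaB hX (F.sub1 v hv) (F.sq1 v hv) (hAX (F.V1_le hv))
      ((mem_fixPart.1 hq).2.2 v hv hv1) (mem_centralizer_singleton.2 (mem_centralizer_zpowers.1 hqy))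
  -- the part `l`
  have hlX : l ∈ L ⊓ X :=
    ⟨hl, mem_centralizer_singleton.2 (mem_centralizer_zpowers.1 hly)⟩
  have hVLX : F.V1 ≤ normalizer ((L ⊓ X : Subgroup G) : Set G) :=
    CoprimeAction.le_normalizer_inf (F.V1_le.trans hAL)
      (F.V1_le.trans (hAX.trans Subgroup.le_normalizer))
  have hsV : Group.IsSolvable F.V1 := isSolvable_two F.V1_isPGroup
  obtain ⟨l', hl', c, ⟨⟨hcL, hcX⟩, hcV⟩, hle⟩ := CoprimeAction.exists_mul_fixed hVLX
    (coprime_two_group F.V1_isPGroup (odd_card_of_le inf_le_left hLodd)) (Or.inl hsV) hlX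
  rw [hle]
  refine mul_mem ?_ ?_
  · refine K.closure1_le_cen2 hX ?_
    refine (Subgroup.commutator_le.2 fun k hk u hu => ?_ :
      ⁅L ⊓ X, F.V1⁆ ≤ closure (K.C1 ∩ X)) hl'
    rw [commutatorElement_def]
    exact mul_mem (subset_closure ⟨K.conjInv1 k u (F.sub1 u hu),
      mul_mem (mul_mem hk.2 (hAX (F.V1_le hu))) (inv_mem hk.2)⟩)
      (inv_mem (subset_closure ⟨F.sub1 u hu, hAX (F.V1_le hu)⟩))
  -- `c` lies in the subgroup generated by the pieces `P v`
  set P : G → Subgroup G := fun v => L ⊓ centralizer (F.V1 : Set G) ⊓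
    ⁅L ⊓ centralizer ({v} : Set G), F.V1⁆ with hP
  have hPR : ∀ v ∈ F.V1, v ≠ 1 → P v ≤ R v := fun v hv hv1 => inf_le_right.trans
    (Subgroup.commutator_le.2 fun k hk u hu =>
      K.commutator_mem_R F hx hv hv1 hu (hLR hk.1) (mem_centralizer_singleton.1 hk.2))
  have hVa : ∀ v ∈ F.V1, ∀ H : Subgroup G, (∀ h ∈ H, Commute h v) →
      H ≤ normalizer (centralizer ({v} : Set G) : Set G) := fun v _ H hH =>
    fun h hh => Subgroup.le_normalizer (mem_centralizer_singleton.2 (hH h hh))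
  have hPnA : ∀ v ∈ F.V1, F.A ≤ normalizer (P v : Set G) := fun v hv =>
    CoprimeAction.le_normalizer_inf
      (CoprimeAction.le_normalizer_inf hAL (CoprimeTools.le_normalizer_centralizer_of_le hAV))
      (CoprimeTools.le_normalizer_commutator_of_le (CoprimeAction.le_normalizer_inf hAL
        (hVa v hv F.A fun h hh => F.A_comm hh (F.V1_le hv))) hAV)
  have hPnP : ∀ v ∈ F.V1, L ⊓ centralizer (F.V1 : Set G) ≤ normalizer (P v : Set G) := fun v hv =>
    CoprimeAction.le_normalizer_inf Subgroup.le_normalizer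
      (CoprimeTools.le_normalizer_commutator_of_le (CoprimeAction.le_normalizer_inf
        (inf_le_left.trans Subgroup.le_normalizer)
        (hVa v hv _ fun h hh => (Subgroup.mem_centralizer_iff.1 hh.2 v hv).symm))
        (inf_le_right.trans (Subgroup.centralizer_le_normalizer _)))
  obtain ⟨a, ha, ha1⟩ := F.exists_ne1
  obtain ⟨b, hb, hb1, hab⟩ : ∃ b ∈ F.V1, b ≠ 1 ∧ a ≠ b := by
    by_contra hcon
    have h2 : F.V1 ≤ zpowers a := fun v hv => by
      by_cases h1 : v = 1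
      · rw [h1]; exact one_mem _
      by_cases h3 : a = v
      · rw [← h3]; exact mem_zpowers a
      exact absurd ⟨v, hv, h1, h3⟩ hcon
    have := Subgroup.card_le_of_le h2
    rw [F.card1, Nat.card_zpowers] at this
    have := Nat.le_of_dvd two_pos (orderOf_dvd_of_pow_eq_one
      (show a ^ 2 = 1 by rw [pow_two, F.sq1 a ha]))
    omega
  have hab1 : a * b ≠ 1 := fun h => hab (by
    rw [← inv_of_sq (F.sq1 a ha)]; exact inv_eq_of_mul_eq_one_right h)
  have hcgen : c ∈ (P a ⊔ P b) ⊔ P (a * b) := by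
    haveI := F.V1_isComm
    have hLL : ⁅L, F.V1⁆ = L := CoprimeAction.commutator_commutator_eq hVR
      (coprime_two_group F.V1_isPGroup (odd_coreIn _)) (Or.inl hsV)
    have h1 := CoprimeFixedGen56.inf_centralizer_le_fixedGen _ G F.V1 L rfl F.V1_isComm
      (solvable_of_odd hLodd) (F.V1_le.trans hAL) (coprime_two_group F.V1_isPGroup hLodd) hLL
      ⟨hcL, hcV⟩
    refine (iSup_le ?_ : CoprimeFixedGen56.fixedGen F.V1 L ≤ (P a ⊔ P b) ⊔ P (a * b)) h1
    rintro ⟨A0, hA0, g, hg, hgen⟩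
    obtain ⟨v, hv, hv1⟩ : ∃ v ∈ A0, v ≠ 1 := by
      by_contra hcon
      simp only [not_exists, not_and, not_not] at hcon
      have h2 : F.V1 ≤ zpowers g := by
        rwa [show A0 = ⊥ from le_bot_iff.1 fun z hz => Subgroup.mem_bot.2 (hcon z hz),
          bot_sup_eq] at hgen
      have := Subgroup.card_le_of_le h2
      rw [F.card1, Nat.card_zpowers] at this
      have := Nat.le_of_dvd two_pos (orderOf_dvd_of_pow_eq_one
        (show g ^ 2 = 1 by rw [pow_two, F.sq1 g hg]))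
      omega
    have hle' : L ⊓ centralizer (F.V1 : Set G) ⊓ CoprimeFixedGen56.part F.V1 A0 L ≤ P v :=
      inf_le_inf_left _ (Subgroup.commutator_mono
        (inf_le_inf_left _ (Subgroup.centralizer_le (by simpa using hv))) le_rfl)
    refine hle'.trans ?_
    rcases F.four_elements ha hb ha1 hb1 hab (hA0 hv) with h | h | h | h
    · exact absurd h hv1
    · rw [h]; exact le_sup_left.trans le_sup_left
    · rw [h]; exact le_sup_right.trans le_sup_left
    · rw [h]; exact le_sup_right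
  have hPLC : ∀ v, P v ≤ L ⊓ centralizer (F.V1 : Set G) := fun v => inf_le_left
  have hodd2 : Odd (Nat.card (P a ⊔ P b : Subgroup G)) :=
    odd_card_of_le (sup_le ((hPLC a).trans inf_le_left) ((hPLC b).trans inf_le_left)) hLodd
  have hyP : ∀ v ∈ F.V1, zpowers y ≤ normalizer (P v : Set G) := fun v hv =>
    zpowers_le.2 (hPnA v hv hy)
  have hyPP : zpowers y ≤ normalizer ((P a ⊔ P b : Subgroup G) : Set G) := by
    refine zpowers_le.2 (mem_normalizer_of_conj_mem fun z hz => ?_)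
    have h2 : P a ⊔ P b ≤ (P a ⊔ P b).comap (MulAut.conj y).toMonoidHom :=
      sup_le (fun w hw => Subgroup.mem_sup_left (conj_mem_of_mem (hPnA a ha hy) hw))
        (fun w hw => Subgroup.mem_sup_right (conj_mem_of_mem (hPnA b hb hy) hw))
    exact h2 hz
  have hpc : ∀ v ∈ F.V1, v ≠ 1 → ∀ p ∈ P v, Commute p y → p ∈ cen X K.C2 := fun v hv hv1 p hp hpy =>
    K.lemmaB hX (F.sub1 v hv) (F.sq1 v hv) (hAX (F.V1_le hv)) (hPR v hv hv1 hp)
      (mem_centralizer_singleton.2 hpy)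
  have habV : a * b ∈ F.V1 := mul_mem ha hb
  have hc2 : c ∈ (((P a ⊔ P b) ⊔ P (a * b) : Subgroup G) : Set G) := hcgen
  rw [Subgroup.coe_mul_of_left_le_normalizer_right _ _
    ((sup_le (hPLC a) (hPLC b)).trans (hPnP _ habV))] at hc2
  obtain ⟨p0, hp0, r0, hr0, hce⟩ := Set.mem_mul.1 hc2
  obtain ⟨p, ⟨hp, hpy⟩, r, ⟨hr, hry⟩, he2⟩ := CoprimeAction.exists_mul_fixed_of_product
    (A := zpowers y) hyPP (hyP _ habV)
    (coprime_two_group (isPGroup_zpowers_of_sq hy2) hodd2)
    (Or.inl (CoprimeAction.isSolvable_zpowers y)) hp0 hr0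
    (by rw [hce]; exact mem_centralizer_zpowers.2 (mem_centralizer_singleton.1 hcX))
  rw [hce] at he2
  rw [he2]
  refine mul_mem ?_ (hpc _ habV hab1 r hr (mem_centralizer_zpowers.1 hry))
  have hp' : p ∈ ((P a ⊔ P b : Subgroup G) : Set G) := hp
  rw [Subgroup.coe_mul_of_left_le_normalizer_right _ _ ((hPLC a).trans (hPnP _ hb))] at hp'
  obtain ⟨s0, hs0, t0, ht0, hpe⟩ := Set.mem_mul.1 hp'
  obtain ⟨s, ⟨hs, hsy⟩, t, ⟨ht, hty⟩, he3⟩ := CoprimeAction.exists_mul_fixed_of_product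
    (A := zpowers y) (hyP a ha) (hyP b hb)
    (coprime_two_group (isPGroup_zpowers_of_sq hy2)
      (odd_card_of_le ((hPLC a).trans inf_le_left) hLodd))
    (Or.inl (CoprimeAction.isSolvable_zpowers y)) hs0 ht0 (by rw [hpe]; exact hpy)
  rw [hpe] at he3
  rw [he3]
  exact mul_mem (hpc a ha ha1 s hs (mem_centralizer_zpowers.1 hsy))
    (hpc b hb hb1 t ht (mem_centralizer_zpowers.1 hty))

theorem good1 [Finite G] (F : Frame K.toData) {x y f : G} (hx : x ∈ F.A) (hy : y ∈ F.A)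
    (hy1 : y ≠ 1) (hf : f ∈ side F.V2 x) (hfy : Commute f y) :
    f ∈ cen (centralizer ({y} : Set G)) K.C1 :=
  K.swap.good2 F.swap (F.swap_A.symm ▸ hx) (F.swap_A.symm ▸ hy) hy1 hf hfy

end Ctx

end Cfsg.Agent.ProductFusion68
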