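import Mathlib
import Cfsg.Agent.Lib.ZStarTheorem

/-!
# A strongly closed 2-subgroup acting on a core-free subgroup it avoids
-/

set_option autoImplicit false

open scoped Pointwise

namespace Cfsg.Agent.ZStarStrongClosed

open Cfsg

universe u

theorem centralizes_aux : ∀ (n : ℕ) {K : Type u} [Group K] [Finite K] (T : Sylow 2 K)
    (A H : Subgroup K) [H.Normal], Nat.card A = n → A ≤ (T : Subgroup K) → A ⊔ H = ⊤ → A ⊓ H = ⊥ →
    (∀ x ∈ A, ∀ g : K, g * x * g⁻¹ ∈ T → g * x * g⁻¹ ∈ A) → pPrimeCore 2 H = ⊥ →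
    ∀ a ∈ A, ∀ h ∈ H, a * h = h * a := by
  intro n
  induction n using Nat.strong_induction_on with
  | _ n IH =>
    intro K _ _ T A H _ hn hAT htop hdisj hsc hOH a ha h hh
    have : Fact (Nat.Prime 2) := ⟨Nat.prime_two⟩
    rcases subsingleton_or_nontrivial A with hA | hA
    · have ha1 : a = 1 := congrArg Subtype.val (Subsingleton.elim (⟨a, ha⟩ : A) 1)
      rw [ha1, one_mul, mul_one]
    have hdec : ∀ g : K, ∃ b ∈ A, ∃ l ∈ H, b * l = g := fun g =>
      Subgroup.mem_sup_of_normal_right.1 (htop ▸ Subgroup.mem_top g)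
    have hAp : IsPGroup 2 A := T.isPGroup'.to_le hAT
    obtain ⟨m, hm⟩ : ∃ m, Nat.card (Subgroup.center A) = 2 ^ m :=
      IsPGroup.iff_card.1 (hAp.to_subgroup _)
    have hZ := hAp.center_nontrivial
    obtain ⟨z₀, hz₀⟩ := exists_prime_orderOf_dvd_card' (G := Subgroup.center A) 2 (by
      rcases m with - | m
      · rw [pow_zero, Nat.card_eq_one_iff_unique] at hm
        exact absurd hm.1 (not_subsingleton_iff_nontrivial.2 hZ)
      · rw [hm]; exact dvd_pow_self 2 (by omega))
    set z : K := ((z₀ : A) : K) with hz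
    have hzA : z ∈ A := (z₀ : A).2
    have hzo : orderOf z = 2 := by
      rw [hz, Subgroup.orderOf_coe, Subgroup.orderOf_coe]; exact hz₀
    have hzcA : ∀ b ∈ A, b * z = z * b := fun b hb =>
      congrArg Subtype.val (Subgroup.mem_center_iff.1 z₀.2 ⟨b, hb⟩)
    have hiso : IsIsolatedInvolution z := ZStarBasic.isolated_of_sylow T z hzo (hAT hzA) fun g hg => by
      have h1 := hsc z hzA g hg
      obtain ⟨b, hb, l, hl, rfl⟩ := hdec g
      have h2 : l * z * l⁻¹ ∈ A := by
        have := mul_mem (mul_mem (inv_mem hb) h1) hb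
        rwa [show b⁻¹ * (b * l * z * (b * l)⁻¹) * b = l * z * l⁻¹ by group] at this
      have h3 : l * z * l⁻¹ * z⁻¹ ∈ A ⊓ H := by
        refine Subgroup.mem_inf.2 ⟨mul_mem h2 (inv_mem hzA), ?_⟩
        have := mul_mem hl ((inferInstance : H.Normal).conj_mem _ (inv_mem hl) z)
        rwa [show l * (z * l⁻¹ * z⁻¹) = l * z * l⁻¹ * z⁻¹ by group] at this
      rw [hdisj, Subgroup.mem_bot, mul_inv_eq_one] at h3
      calc b * l * z * (b * l)⁻¹ = b * (l * z * l⁻¹) * b⁻¹ := by group
        _ = z := by rw [h3, hzcA b hb, mul_inv_cancel_right]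
    have hOK : pPrimeCore 2 K = ⊥ := by
      have := HallCore.pPrimeCore_normal 2 K
      have hle : pPrimeCore 2 K ≤ H := by
        intro x hx
        obtain ⟨b, hb, l, hl, rfl⟩ := hdec x
        have hbH : (b : K ⧸ H) = 1 := by
          obtain ⟨k, hk⟩ := (IsPGroup.iff_orderOf.1 hAp) ⟨b, hb⟩
          rw [Subgroup.orderOf_mk] at hk
          have e : (b : K ⧸ H) = ((b * l : K) : K ⧸ H) := by
            rw [QuotientGroup.mk_mul, (QuotientGroup.eq_one_iff l).2 hl, mul_one]
          rw [← orderOf_eq_one_iff]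
          refine Nat.eq_one_of_dvd_coprimes
            ((Nat.coprime_two_left.2 (ZStarTheorem.odd_card_pPrimeCore.of_dvd_nat
              (Subgroup.orderOf_dvd_natCard _ hx))).pow_left k) ?_ ?_
          · exact hk ▸ orderOf_map_dvd (QuotientGroup.mk' H) b
          · rw [e]; exact orderOf_map_dvd (QuotientGroup.mk' H) (b * l)
        exact mul_mem ((QuotientGroup.eq_one_iff b).1 hbH) hl
      have h2 := ZStarBasic.eq_bot_of_normal_odd hOH ((pPrimeCore 2 K).subgroupOf H) (by
        rw [Nat.card_congr (Subgroup.subgroupOfEquivOfLe hle).toEquiv]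
        exact ZStarTheorem.odd_card_pPrimeCore)
      rw [Subgroup.subgroupOf_eq_bot] at h2
      exact h2.eq_bot_of_le hle
    have hzc := ZStarTheorem.mem_center_of_isolated hiso hOK
    set Y := Subgroup.zpowers z with hY
    have : Y.Normal := ⟨fun x hx g => by
      rwa [Subgroup.mem_center_iff.1 ((Subgroup.zpowers_le.2 hzc) hx) g, mul_inv_cancel_right]⟩
    set π := QuotientGroup.mk' Y with hπ
    have hπs : Function.Surjective π := QuotientGroup.mk'_surjective Y
    have hYA : Y ≤ A := Subgroup.zpowers_le.2 hzA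
    have hπmem : ∀ {L : Subgroup K}, Y ≤ L → ∀ x, π x ∈ L.map π → x ∈ L := by
      intro L hYL x hx
      have h1 : x ∈ (L.map π).comap π := hx
      rwa [Subgroup.comap_map_eq, hπ, QuotientGroup.ker_mk', sup_eq_left.2 hYL] at h1
    have : (H.map π).Normal := HallCore.map_normal_of_surjective hπs
    have hcard : Nat.card (A.map π) < n := by
      have h1 := HallCore.card_map_mk'_mul Y A hYA
      have hcY : Nat.card Y = 2 := by rw [hY, Nat.card_zpowers, hzo]
      rw [hcY, hn] at h1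
      have : 0 < Nat.card (A.map π) := Nat.card_pos
      rw [hπ] at this ⊢
      omega
    have hinj : Function.Injective (π.comp H.subtype) := by
      rw [injective_iff_map_eq_one]
      intro x hx
      have h1 : (x : K) ∈ A ⊓ H := ⟨hYA ((QuotientGroup.eq_one_iff _).1 hx), x.2⟩
      rw [hdisj, Subgroup.mem_bot] at h1
      exact Subtype.ext h1
    have hO' : pPrimeCore 2 (H.map π) = ⊥ := by
      have e : H ≃* H.map π :=
        (MonoidHom.ofInjective hinj).trans (MulEquiv.subgroupCongr (by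
          rw [MonoidHom.range_comp, Subgroup.range_subtype]))
      rw [← HallCore.map_equiv_pPrimeCore (p := 2) e, hOH, Subgroup.map_bot]
    have h1 := IH _ hcard (T.mapSurjective hπs) (A.map π) (H.map π) rfl (Subgroup.map_mono hAT)
      (by rw [← Subgroup.map_sup, htop, Subgroup.map_top_of_surjective π hπs])
      (by
        rw [eq_bot_iff]
        rintro x ⟨⟨b, hb, rfl⟩, l, hl, e⟩
        have h2 : b⁻¹ * l ∈ Y := QuotientGroup.eq.1 e.symm
        have h3 : l ∈ A ⊓ H := ⟨by simpa using mul_mem hb (hYA h2), hl⟩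
        rw [hdisj, Subgroup.mem_bot] at h3
        rw [Subgroup.mem_bot, ← e, h3, map_one])
      (by
        rintro x ⟨b, hb, rfl⟩ g hg
        obtain ⟨g, rfl⟩ := hπs g
        rw [← map_mul, ← map_inv, ← map_mul] at hg ⊢
        exact Subgroup.mem_map_of_mem π (hsc b hb g (hπmem (hYA.trans hAT) _ hg)))
      hO' (π a) (Subgroup.mem_map_of_mem π ha) (π h) (Subgroup.mem_map_of_mem π hh)
    rw [← map_mul, ← map_mul] at h1
    have h2 : (h * a)⁻¹ * (a * h) ∈ Y := QuotientGroup.eq.1 h1.symm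
    have h3 : (h * a)⁻¹ * (a * h) ∈ A ⊓ H := by
      refine ⟨hYA h2, ?_⟩
      have := mul_mem ((inferInstance : H.Normal).conj_mem _ (inv_mem hh) a⁻¹) hh
      rwa [show a⁻¹ * h⁻¹ * a⁻¹⁻¹ * h = (h * a)⁻¹ * (a * h) by group] at this
    rw [hdisj, Subgroup.mem_bot, inv_mul_eq_one] at h3
    exact h3.symm

theorem le_centralizer {G : Type u} [Group G] [Finite G] (S : Sylow 2 G) (A : Subgroup G)
    (hA : IsStronglyClosed A (S : Subgroup G)) (H : Subgroup G)
    (hAH : A ≤ Subgroup.normalizer (H : Set G)) (hO : pPrimeCore 2 H = ⊥) (hdisj : A ⊓ H = ⊥) :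
    A ≤ Subgroup.centralizer (H : Set G) := by
  have : Fact (Nat.Prime 2) := ⟨Nat.prime_two⟩
  set K := A ⊔ H with hK
  have hAK : A ≤ K := le_sup_left
  have hHK : H ≤ K := le_sup_right
  have : (H.subgroupOf K).Normal :=
    (Subgroup.normal_subgroupOf_iff_le_normalizer hHK).2 (sup_le hAH Subgroup.le_normalizer)
  obtain ⟨T, hT⟩ :=
    (IsPGroup.comap_subtype (K := K) (S.isPGroup'.to_le hA.1)).exists_le_sylow
  obtain ⟨R, hR⟩ := (T.isPGroup'.map K.subtype).exists_le_sylow
  obtain ⟨g, hg⟩ := MulAction.exists_smul_eq G R S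
  have hcj : ∀ x : G, x ∈ (T : Subgroup K).map K.subtype → g * x * g⁻¹ ∈ (S : Subgroup G) := by
    intro x hx
    rw [← hg, Sylow.coe_subgroup_smul, Subgroup.mem_pointwise_smul_iff_inv_smul_mem, ← map_inv,
      MulAut.smul_def, MulAut.conj_apply]
    rw [show g⁻¹ * (g * x * g⁻¹) * g⁻¹⁻¹ = x by group]
    exact hR hx
  have hcjA : A.map (MulAut.conj g).toMonoidHom = A := by
    refine Subgroup.eq_of_le_of_card_ge ?_
      (Subgroup.card_map_of_injective (MulAut.conj g).injective).ge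
    rintro _ ⟨x, hx, rfl⟩
    exact hA.2 x hx g (hcj x ⟨⟨x, hAK hx⟩, hT hx, rfl⟩)
  have hO' : pPrimeCore 2 (H.subgroupOf K) = ⊥ := by
    rw [← HallCore.map_equiv_pPrimeCore (p := 2) (Subgroup.subgroupOfEquivOfLe hHK).symm, hO,
      Subgroup.map_bot]
  intro a ha
  refine Subgroup.mem_centralizer_iff.2 fun h hh => ?_
  have hsc : ∀ x ∈ A.subgroupOf K, ∀ k : K, k * x * k⁻¹ ∈ T → k * x * k⁻¹ ∈ A.subgroupOf K := by
    intro x hx k hk
    have h1 := hcj _ ⟨_, hk, rfl⟩
    simp only [Subgroup.coe_subtype, Subgroup.coe_mul, Subgroup.coe_inv] at h1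
    have e : g * ((k : G) * x * (k : G)⁻¹) * g⁻¹ = (g * k) * (x : G) * (g * k)⁻¹ := by group
    rw [e] at h1
    have h2 := hA.2 _ hx _ h1
    simp only [Subgroup.coe_subtype] at h2
    rw [← hcjA, ← e] at h2
    obtain ⟨y, hy, hye⟩ := h2
    have h3 : y = (k : G) * x * (k : G)⁻¹ := (MulAut.conj g).injective hye
    show ((k * x * k⁻¹ : K) : G) ∈ A
    simp only [Subgroup.coe_mul, Subgroup.coe_inv]
    rw [← h3]; exact hy
  have := centralizes_aux _ T (A.subgroupOf K) (H.subgroupOf K) rfl hT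
    (Subgroup.subgroupOf_sup hAK hHK ▸ Subgroup.subgroupOf_self K)
    (by rw [← Subgroup.comap_subtype, ← Subgroup.comap_subtype, ← Subgroup.comap_inf,
      Subgroup.comap_subtype, hdisj, Subgroup.bot_subgroupOf])
    hsc hO' ⟨a, hAK ha⟩ ha ⟨h, hHK hh⟩ hh
  exact (congrArg Subtype.val this).symm

end Cfsg.Agent.ZStarStrongClosed
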