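import Cfsg.Agent.Lib.ProductFusion68W
import Cfsg.Agent.Lib.ZStarStrongClosed
import Cfsg.Agent.Lib.IsolatedTwoElement67
import Cfsg.Agent.S1250

/-!
# Product fusion: commuting strongly closed subgroups have commuting conjugates
-/

set_option autoImplicit false

namespace Cfsg.Agent.ProductFusion68

open Subgroup
open scoped commutatorElement

universe u

variable {G : Type u} [Group G]

/-- The conclusion of the theorem for one group. -/
def Good (G : Type u) [Group G] : Prop :=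
  ∀ D : Data G, pPrimeCore 2 G = ⊥ → ∀ x ∈ D.C1, ∀ y ∈ D.C2, Commute x y

theorem closure_normal {s : Set G} (hs : ConjInv s) : (closure s).Normal := by
  refine ⟨fun n hn g => ?_⟩
  have h : closure s ≤ (closure s).comap (MulAut.conj g).toMonoidHom :=
    (closure_le _).2 fun x hx => subset_closure (hs g x hx)
  exact h hn

theorem conjInv_I2 (D : Data G) : ConjInv D.I2 := fun g x hx => by
  refine ⟨D.conjInv2 g x hx.1, ?_, fun h => hx.2.2 (by simpa [mul_inv_eq_one] using h)⟩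
  rw [show g * x * g⁻¹ * (g * x * g⁻¹) = g * (x * x) * g⁻¹ by group, hx.2.1, mul_one, mul_inv_cancel]

/-- A non-trivial element conjugate into the second subgroup yields an involution. -/
theorem exists_I2 [Finite G] (D : Data G) {y : G} (hy : y ∈ D.C2) (hy1 : y ≠ 1) :
    ∃ b, b ∈ D.I2 := by
  haveI := Fact.mk Nat.prime_two
  obtain ⟨g, hg⟩ := hy
  have hne : g * y * g⁻¹ ≠ 1 := fun h => hy1 (by simpa [mul_inv_eq_one] using h)
  have hp : IsPGroup 2 D.S2 := D.S.isPGroup'.to_le D.h2.1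
  obtain ⟨n, hn⟩ := IsPGroup.iff_card.1 hp
  haveI : Nontrivial D.S2 := ⟨⟨⟨_, hg⟩, 1, fun h => hne (congrArg Subtype.val h)⟩⟩
  have hn0 : n ≠ 0 := fun h => by
    rw [h, pow_zero] at hn
    exact absurd (Finite.one_lt_card (α := D.S2)) (by omega)
  obtain ⟨b, hb⟩ := exists_prime_orderOf_dvd_card' (G := D.S2) 2 (hn ▸ dvd_pow_self 2 hn0)
  refine ⟨b, ⟨1, by simp⟩, ?_, ?_⟩
  · rw [← Subgroup.coe_mul, ← pow_two, ← hb, pow_orderOf_eq_one]; rfl
  · intro h
    have : b = 1 := Subtype.ext h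
    rw [this, orderOf_one] at hb
    exact absurd hb (by norm_num)

/-- A central subgroup of order a power of two does not create an odd core. -/
theorem odd_quotient_eq_bot [Finite G] {X Z : Subgroup G} [Z.Normal] (hZX : Z ≤ X)
    (hZ : IsPGroup 2 Z) (hcent : ∀ z ∈ Z, ∀ x ∈ X, Commute z x) (hX : coreIn X = ⊥)
    {M : Subgroup (G ⧸ Z)} (hM : M ≤ X.map (QuotientGroup.mk' Z))
    (hn : X.map (QuotientGroup.mk' Z) ≤ normalizer (M : Set (G ⧸ Z)))
    (ho : Odd (Nat.card M)) : M = ⊥ := by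
  haveI := Fact.mk Nat.prime_two
  set π := QuotientGroup.mk' Z with hπ
  set P := M.comap π with hP
  have hPX : P ≤ X := by
    intro p hp
    obtain ⟨x, hx, hxe⟩ := hM hp
    have h1 : x⁻¹ * p ∈ Z := (QuotientGroup.eq).1 hxe
    simpa using mul_mem hx (hZX h1)
  have hZP : Z ≤ P := fun z hz => by
    show π z ∈ M
    rw [hπ, QuotientGroup.mk'_apply, (QuotientGroup.eq_one_iff z).2 hz]; exact one_mem _
  have hcard : Nat.card M * Nat.card Z = Nat.card P := HallCore.card_comap_mk' Z M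
  have hPn : X ≤ normalizer (P : Set G) := le_normalizer_of_conj_mem' fun x hx p hp => by
    show π (x * p * x⁻¹) ∈ M
    rw [map_mul, map_mul, map_inv]
    exact conj_mem_of_mem (hn ⟨x, hx, rfl⟩) hp
  have hPcore : coreIn P = ⊥ := by
    refine le_bot_iff.1 (le_trans (le_coreIn ((coreIn_le P).trans hPX)
      (le_normalizer_of_conj_mem' fun x hx k hk => ?_) (odd_coreIn P)) hX.le)
    refine conj_mem_coreIn_of_conj (fun y => ⟨fun hy => conj_mem_of_mem (hPn hx) hy, fun hy => ?_⟩) hk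
    simpa [mul_assoc] using conj_mem_of_mem (hPn (inv_mem hx)) hy
  have hcop : (Nat.card (Z.subgroupOf P)).Coprime (Z.subgroupOf P).index := by
    have hidx : (Z.subgroupOf P).index = Nat.card M := by
      have := (Z.subgroupOf P).card_mul_index
      rw [card_subgroupOf_of_le hZP, ← hcard, mul_comm (Nat.card M)] at this
      exact Nat.eq_of_mul_eq_mul_left Nat.card_pos this
    rw [hidx, card_subgroupOf_of_le hZP]
    obtain ⟨k, hk⟩ := IsPGroup.iff_card.1 hZ
    rw [hk]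
    exact (Nat.coprime_two_left.2 ho).pow_left k
  obtain ⟨C, hC⟩ := Subgroup.exists_right_complement'_of_coprime hcop
  haveI hCn : C.Normal := by
    refine ⟨fun c hc p => ?_⟩
    obtain ⟨⟨⟨z, hz⟩, ⟨d, hd⟩⟩, rfl⟩ := hC.2 p
    show z * d * c * (z * d)⁻¹ ∈ C
    have hzc : Commute z (d * c * d⁻¹) := Subtype.ext (hcent _ hz _ (hPX (d * c * d⁻¹).2)).eq
    rw [show z * d * c * (z * d)⁻¹ = z * (d * c * d⁻¹) * z⁻¹ by group, hzc.eq, mul_inv_cancel_right]
    exact mul_mem (mul_mem hd hc) (inv_mem hd)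
  have hCbot : C = ⊥ := by
    refine ZStarBasic.eq_bot_of_normal_odd ?_ C ?_
    · refine (Subgroup.map_eq_bot_iff_of_injective _ P.subtype_injective).1 ?_
      exact hPcore
    · rw [← hC.symm.index_eq_card]
      have := (Z.subgroupOf P).card_mul_index
      rw [card_subgroupOf_of_le hZP, ← hcard, mul_comm (Nat.card M)] at this
      rw [Nat.eq_of_mul_eq_mul_left Nat.card_pos this]
      exact ho
  have hPZ : P ≤ Z := by
    intro p hp
    obtain ⟨⟨⟨z, hz⟩, ⟨d, hd⟩⟩, he⟩ := hC.2 ⟨p, hp⟩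
    rw [hCbot, SetLike.mem_coe, Subgroup.mem_bot] at hd
    have e : z * d = ⟨p, hp⟩ := he
    rw [hd, mul_one] at e
    have h2 : (z : G) = p := congrArg Subtype.val e
    rw [← h2]
    exact hz
  refine le_bot_iff.1 fun m hm => ?_
  obtain ⟨p, rfl⟩ := QuotientGroup.mk'_surjective Z m
  exact Subgroup.mem_bot.2 ((QuotientGroup.eq_one_iff p).2 (hPZ hm))

/-- The data in a quotient. -/
def quotData [Finite G] (D : Data G) (N : Subgroup G) [N.Normal]
    (hd : ∀ a ∈ D.S1, ∀ b ∈ D.S2, a⁻¹ * b ∈ N → a ∈ N) : Data (G ⧸ N) where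
  S := haveI := Fact.mk Nat.prime_two
    D.S.mapSurjective (QuotientGroup.mk'_surjective N)
  S1 := D.S1.map (QuotientGroup.mk' N)
  S2 := D.S2.map (QuotientGroup.mk' N)
  h1 := haveI := Fact.mk Nat.prime_two
    S1250.result D.S D.S1 D.h1 N
  h2 := haveI := Fact.mk Nat.prime_two
    S1250.result D.S D.S2 D.h2 N
  hcomm := by
    rintro _ ⟨a, ha, rfl⟩ _ ⟨b, hb, rfl⟩
    rw [← map_mul, ← map_mul, D.hcomm a ha b hb]
  hdisj := le_bot_iff.1 (by
    rintro _ ⟨⟨a, ha, rfl⟩, b, hb, hba⟩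
    exact Subgroup.mem_bot.2 ((QuotientGroup.eq_one_iff a).2
      (hd a ha b hb ((QuotientGroup.eq).1 hba.symm))))

theorem mk_mem_quotC1 [Finite G] (D : Data G) (N : Subgroup G) [N.Normal]
    (hd : ∀ a ∈ D.S1, ∀ b ∈ D.S2, a⁻¹ * b ∈ N → a ∈ N) {x : G} (hx : x ∈ D.C1) :
    QuotientGroup.mk' N x ∈ (quotData D N hd).C1 := by
  obtain ⟨g, hg⟩ := hx
  exact ⟨QuotientGroup.mk' N g, g * x * g⁻¹, hg, by rw [map_mul, map_mul, map_inv]⟩

theorem mk_mem_quotC2 [Finite G] (D : Data G) (N : Subgroup G) [N.Normal]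
    (hd : ∀ a ∈ D.S1, ∀ b ∈ D.S2, a⁻¹ * b ∈ N → a ∈ N) {x : G} (hx : x ∈ D.C2) :
    QuotientGroup.mk' N x ∈ (quotData D N hd).C2 := by
  obtain ⟨g, hg⟩ := hx
  exact ⟨QuotientGroup.mk' N g, g * x * g⁻¹, hg, by rw [map_mul, map_mul, map_inv]⟩

theorem commutator_mem_of_commute_mk {N : Subgroup G} [N.Normal] {x y : G}
    (h : Commute (QuotientGroup.mk' N x) (QuotientGroup.mk' N y)) : ⁅x, y⁆ ∈ N := by
  rw [← QuotientGroup.eq_one_iff]
  show QuotientGroup.mk' N ⁅x, y⁆ = 1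
  rw [map_commutatorElement]
  exact commutator_eq_one' h

/-- The inductive hypothesis on proper subgroups. -/
theorem sub_of_ih [Finite G] (D : Data G)
    (ih : ∀ (H : Type u) [Group H] [Finite H], Nat.card H < Nat.card G → Good H)
    (X : Subgroup G) (hX : X ≠ ⊤) :
    ∀ x ∈ D.C1, ∀ y ∈ D.C2, x ∈ X → y ∈ X → ⁅x, y⁆ ∈ coreIn X := by
  haveI := Fact.mk Nat.prime_two
  intro x hx y hy hxX hyX
  obtain ⟨T⟩ : Nonempty (Sylow 2 X) := inferInstance
  obtain ⟨g, hg⟩ := exists_conj_le D.S (T.isPGroup'.map X.subtype)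
  let pull : Subgroup G → Subgroup X := fun Q =>
    (T : Subgroup X) ⊓ Q.comap ((MulAut.conj g).toMonoidHom.comp X.subtype)
  have hsc : ∀ Q : Subgroup G, IsStronglyClosed Q (D.S : Subgroup G) →
      IsStronglyClosed (pull Q) (T : Subgroup X) := by
    intro Q hQ
    refine ⟨inf_le_left, ?_⟩
    rintro t ⟨-, ht⟩ h hh
    refine ⟨hh, ?_⟩
    have h1 : g * ((h * t * h⁻¹ : X) : G) * g⁻¹ ∈ (D.S : Subgroup G) := hg _ ⟨_, hh, rfl⟩
    have e : g * ((h * t * h⁻¹ : X) : G) * g⁻¹ =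
        (g * h * g⁻¹) * (g * t * g⁻¹) * (g * h * g⁻¹)⁻¹ := by
      simp [mul_assoc]
    show g * ((h * t * h⁻¹ : X) : G) * g⁻¹ ∈ Q
    rw [e] at h1 ⊢
    exact hQ.2 _ ht _ h1
  let DX : Data X :=
    { S := T
      S1 := pull D.S1
      S2 := pull D.S2
      h1 := hsc D.S1 D.h1
      h2 := hsc D.S2 D.h2
      hcomm := fun a ha b hb => Subtype.ext ((Commute.conj_iff g).1 (D.hcomm _ ha.2 _ hb.2)).eq
      hdisj := le_bot_iff.1 (by
        rintro t ⟨⟨-, h1⟩, ⟨-, h2⟩⟩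
        have h3 : g * (t : G) * g⁻¹ ∈ D.S1 ⊓ D.S2 := ⟨h1, h2⟩
        rw [D.hdisj, Subgroup.mem_bot, mul_inv_eq_one, mul_eq_left] at h3
        exact Subgroup.mem_bot.2 (Subtype.ext h3)) }
  haveI := HallCore.pPrimeCore_normal 2 X
  have hd : ∀ a ∈ DX.S1, ∀ b ∈ DX.S2, a⁻¹ * b ∈ pPrimeCore 2 X → a ∈ pPrimeCore 2 X := by
    intro a ha b hb hab
    have hTab : a⁻¹ * b ∈ (T : Subgroup X) := mul_mem (inv_mem ha.1) hb.1
    have h1 : a⁻¹ * b = 1 := by
      have hbot : (T : Subgroup X) ⊓ pPrimeCore 2 X = ⊥ := Subgroup.inf_eq_bot_of_coprime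
        (coprime_two_group T.isPGroup'
          (Nat.coprime_two_right.1 (HallCore.coprime_card_pPrimeCore 2 X)))
      exact Subgroup.mem_bot.1 (hbot.le ⟨hTab, hab⟩)
    rw [inv_mul_eq_one] at h1
    have h2 : a ∈ DX.S1 ⊓ DX.S2 := ⟨ha, h1 ▸ hb⟩
    rw [DX.hdisj, Subgroup.mem_bot] at h2
    rw [h2]; exact one_mem _
  have hlt : Nat.card (X ⧸ pPrimeCore 2 X) < Nat.card G :=
    (Nat.card_le_card_of_surjective _ (QuotientGroup.mk'_surjective _)).trans_lt
      (lt_of_le_of_ne X.card_le_card_group fun h => hX (Subgroup.eq_top_of_card_eq X h))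
  have hto : ∀ (Q : Subgroup G), IsStronglyClosed Q (D.S : Subgroup G) → ∀ z : G, (hz : z ∈ X) →
      (∃ k, k * z * k⁻¹ ∈ Q) → IsPGroup 2 (zpowers z) →
      ∃ h : X, h * ⟨z, hz⟩ * h⁻¹ ∈ pull Q := by
    intro Q hQ z hzX hk hzp
    obtain ⟨R', hR'⟩ := (IsPGroup.comap_subtype (K := X) hzp).exists_le_sylow
    obtain ⟨h, hh⟩ := MulAction.exists_smul_eq X R' T
    have hmem : h * ⟨z, hzX⟩ * h⁻¹ ∈ (T : Subgroup X) := by
      rw [← hh, Sylow.coe_subgroup_smul, Subgroup.mem_pointwise_smul_iff_inv_smul_mem, ← map_inv,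
        MulAut.smul_def, MulAut.conj_apply]
      have e : ∀ w : X, h⁻¹ * (h * w * h⁻¹) * h⁻¹⁻¹ = w := fun w => by group
      rw [e]
      exact hR' (show (⟨z, hzX⟩ : X) ∈ (zpowers z).comap X.subtype from mem_zpowers z)
    refine ⟨h, hmem, ?_⟩
    have h1 : g * ((h * ⟨z, hzX⟩ * h⁻¹ : X) : G) * g⁻¹ ∈ (D.S : Subgroup G) := hg _ ⟨_, hmem, rfl⟩
    obtain ⟨k, hk'⟩ := hk
    show g * ((h * ⟨z, hzX⟩ * h⁻¹ : X) : G) * g⁻¹ ∈ Q
    have e : g * ((h * ⟨z, hzX⟩ * h⁻¹ : X) : G) * g⁻¹ =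
        (g * h * k⁻¹) * (k * z * k⁻¹) * (g * h * k⁻¹)⁻¹ := by
      simp [mul_assoc]
    rw [e] at h1 ⊢
    exact hQ.2 _ hk' _ h1
  have hxq := mk_mem_quotC1 DX (pPrimeCore 2 X) hd (x := ⟨x, hxX⟩)
    (hto D.S1 D.h1 x hxX hx (D.isPGroup_zpowers1 hx))
  have hyq := mk_mem_quotC2 DX (pPrimeCore 2 X) hd (x := ⟨y, hyX⟩)
    (hto D.S2 D.h2 y hyX hy (D.isPGroup_zpowers2 hy))
  have hc := commutator_mem_of_commute_mk
    (ih _ hlt _ (HallCore.pPrimeCore_quotient_self 2 X) _ hxq _ hyq)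
  exact ⟨_, hc, map_commutatorElement X.subtype _ _⟩

/-- A central involution on either side reduces the order. -/
theorem good_of_central [Finite G] (D : Data G) (hO : pPrimeCore 2 G = ⊥)
    (ih : ∀ (H : Type u) [Group H] [Finite H], Nat.card H < Nat.card G → Good H)
    {z : G} (hz : z ∈ D.I1) (hzc : z ∈ center G) : ∀ x ∈ D.C1, ∀ y ∈ D.C2, Commute x y := by
  haveI := Fact.mk Nat.prime_two
  intro x hx y hy
  haveI : (zpowers z).Normal := ⟨fun n hn g => by
    have h1 : n ∈ center G := zpowers_le.2 hzc hn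
    rw [Subgroup.mem_center_iff.1 h1 g, mul_inv_cancel_right]; exact hn⟩
  have hzS : z ∈ D.S1 := by
    obtain ⟨g, hg⟩ := hz.1
    rwa [Subgroup.mem_center_iff.1 hzc g, mul_inv_cancel_right] at hg
  have hd : ∀ a ∈ D.S1, ∀ b ∈ D.S2, a⁻¹ * b ∈ zpowers z → a ∈ zpowers z := by
    intro a ha b hb hab
    have hb1 : b ∈ D.S1 ⊓ D.S2 := ⟨by simpa using mul_mem ha (zpowers_le.2 hzS hab), hb⟩
    rw [D.hdisj, Subgroup.mem_bot] at hb1
    rw [hb1, mul_one] at hab
    simpa using inv_mem hab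
  have hord : orderOf z = 2 := orderOf_eq_prime (by rw [pow_two, hz.2.1]) hz.2.2
  have hlt : Nat.card (G ⧸ zpowers z) < Nat.card G := by
    rw [Subgroup.card_eq_card_quotient_mul_card_subgroup (zpowers z), Nat.card_zpowers, hord]
    have : 0 < Nat.card (G ⧸ zpowers z) := Nat.card_pos
    omega
  have hc := commutator_mem_of_commute_mk (ih _ hlt (quotData D (zpowers z) hd)
    (Cfsg.Agent.IsolatedTwoElement67.pPrimeCore_quotient_two hO hord) _
    (mk_mem_quotC1 D _ hd hx) _ (mk_mem_quotC2 D _ hd hy))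
  exact D.commute_of_commutator_mem (isPGroup_zpowers_of_sq hz.2.1) hx hy hc

/-- A proper normal subgroup generated by the second side is centralised by the first. -/
theorem commute_of_normal [Finite G] (D : Data G) (hO : pPrimeCore 2 G = ⊥)
    (hsub : ∀ X : Subgroup G, X ≠ ⊤ → ∀ x ∈ D.C1, ∀ y ∈ D.C2, x ∈ X → y ∈ X →
      ⁅x, y⁆ ∈ coreIn X)
    {T : Set G} (hT : T ⊆ D.C2) (hTn : ConjInv T) (hne : closure T ≠ ⊤) :
    ∀ x ∈ D.C1, ∀ y ∈ T, Commute x y := by
  haveI := Fact.mk Nat.prime_two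
  set X := closure T with hXdef
  haveI hXn : X.Normal := closure_normal hTn
  have hXcore : coreIn X = ⊥ := coreIn_eq_bot hO X
  set Z := (center X).map X.subtype with hZdef
  have hZX : Z ≤ X := Subgroup.map_subtype_le _
  have hcent : ∀ z ∈ Z, ∀ x ∈ X, Commute z x := by
    rintro _ ⟨z, hz, rfl⟩ x hx
    exact (congrArg Subtype.val (Subgroup.mem_center_iff.1 hz ⟨x, hx⟩)).symm
  have hZmem : ∀ z ∈ X, (∀ x ∈ X, Commute z x) → z ∈ Z := fun z hz h =>
    ⟨⟨z, hz⟩, Subgroup.mem_center_iff.2 fun x => Subtype.ext (h x x.2).symm.eq, rfl⟩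
  haveI hZn : Z.Normal := ⟨fun z hz g => hZmem _ (hXn.conj_mem z (hZX hz) g) fun x hx => by
    have h1 := hcent z hz (g⁻¹ * x * g⁻¹⁻¹) (hXn.conj_mem x hx g⁻¹)
    have h2 := (Commute.conj_iff g).2 h1
    rwa [show g * (g⁻¹ * x * g⁻¹⁻¹) * g⁻¹ = x by group] at h2⟩
  have hZp : IsPGroup 2 Z := by
    haveI : Nonempty Z := inferInstance
    obtain ⟨s, n, hn, hcard⟩ :=
      Nat.exists_eq_two_pow_mul_odd (n := Nat.card Z) Nat.card_pos.ne'
    let M : Subgroup G :=
      { carrier := {z | z ∈ Z ∧ z ^ n = 1}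
        one_mem' := ⟨one_mem _, one_pow _⟩
        mul_mem' := fun {a b} ha hb => ⟨mul_mem ha.1 hb.1, by
          rw [(hcent a ha.1 b (hZX hb.1)).mul_pow, ha.2, hb.2, mul_one]⟩
        inv_mem' := fun {a} ha => ⟨inv_mem ha.1, by rw [inv_pow, ha.2, inv_one]⟩ }
    have hMo : Odd (Nat.card M) := by
      rw [← Nat.not_even_iff_odd, even_iff_two_dvd]
      intro h2
      obtain ⟨z, hz⟩ := exists_prime_orderOf_dvd_card' (G := M) 2 h2
      have h3 : orderOf (z : G) ∣ n := orderOf_dvd_of_pow_eq_one z.2.2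
      rw [Subgroup.orderOf_coe, hz] at h3
      exact (Nat.not_even_iff_odd.2 hn) (even_iff_two_dvd.2 h3)
    have hM : M = ⊥ := eq_bot_of_normalized_odd hO (X := X) (fun z hz => hZX hz.1)
      (le_normalizer_of_conj_mem' fun x hx z hz => by
        rw [← (hcent z hz.1 x hx).eq, mul_inv_cancel_right]; exact hz) hMo
    intro z
    refine ⟨s, Subtype.ext ?_⟩
    have h4 : (z : G) ^ (2 ^ s) ∈ M := ⟨pow_mem z.2 _, by
      rw [← pow_mul, ← hcard, ← Subgroup.coe_pow, pow_card_eq_one', Subgroup.coe_one]⟩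
    rw [hM, Subgroup.mem_bot] at h4
    simpa using h4
  have hC1X : ∀ s ∈ D.C1, s ∈ X → s ∈ Z := by
    intro s hs hsX
    refine hZmem s hsX fun x hx => ?_
    have h : X ≤ centralizer ({s} : Set G) := by
      rw [hXdef, closure_le]
      intro t ht
      have h1 := hsub X hne s hs t (hT ht) hsX (subset_closure ht)
      rw [hXcore, Subgroup.mem_bot] at h1
      exact mem_centralizer_singleton.2 (commute_of_commutator h1).symm
    exact (mem_centralizer_singleton.1 (h hx)).symm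
  set π := QuotientGroup.mk' Z with hπ
  have hsc := S1250.result D.S D.S1 D.h1 Z
  have hle := ZStarStrongClosed.le_centralizer (D.S.mapSurjective (QuotientGroup.mk'_surjective Z))
    (D.S1.map π) hsc (X.map π)
    (le_normalizer_of_conj_mem' fun q _ w hw => by
      obtain ⟨x, hx, rfl⟩ := hw
      obtain ⟨g, rfl⟩ := QuotientGroup.mk'_surjective Z q
      exact ⟨g * x * g⁻¹, hXn.conj_mem x hx g, by rw [map_mul, map_mul, map_inv]⟩)
    (by
      have h : coreIn (X.map π) = ⊥ :=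
        odd_quotient_eq_bot hZX hZp hcent hXcore (coreIn_le _) (le_normalizer_coreIn _) (odd_coreIn _)
      exact (Subgroup.map_eq_bot_iff_of_injective _ (X.map π).subtype_injective).1 h)
    (le_bot_iff.1 (by
      rintro _ ⟨⟨s, hs, rfl⟩, x, hx, hxs⟩
      have hsX : s ∈ X := by
        have h1 : x⁻¹ * s ∈ Z := (QuotientGroup.eq).1 hxs
        simpa using mul_mem hx (hZX h1)
      exact Subgroup.mem_bot.2 ((QuotientGroup.eq_one_iff s).2
        (hC1X s ⟨1, by simpa using hs⟩ hsX))))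
  intro x hx y hy
  obtain ⟨g, hg⟩ := hx
  have h1 := Subgroup.mem_centralizer_iff.1 (hle ⟨g * x * g⁻¹, hg, rfl⟩) (π (g * y * g⁻¹))
    ⟨g * y * g⁻¹, hXn.conj_mem y (subset_closure hy) g, rfl⟩
  have h2 : ⁅g * x * g⁻¹, g * y * g⁻¹⁆ ∈ Z := commutator_mem_of_commute_mk h1.symm
  have h3 : ⁅x, y⁆ ∈ Z := by
    have h4 := hZn.conj_mem _ h2 g⁻¹
    rwa [show g⁻¹ * ⁅g * x * g⁻¹, g * y * g⁻¹⁆ * g⁻¹⁻¹ = ⁅x, y⁆ by
      simp [commutatorElement_def, mul_assoc]] at h4
  exact D.commute_of_commutator_mem hZp ⟨g, hg⟩ (hT hy) h3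

theorem good_aux : ∀ (n : ℕ) (G : Type u) [Group G] [Finite G], Nat.card G = n → Good G := by
  intro n
  induction n using Nat.strong_induction_on with
  | _ n IH =>
  intro G _ _ hn D hO x hx y hy
  have ih : ∀ (H : Type u) [Group H] [Finite H], Nat.card H < Nat.card G → Good H :=
    fun H _ _ h => IH _ (hn ▸ h) H rfl
  by_cases hy1 : y = 1
  · rw [hy1]; exact Commute.one_right x
  by_cases hx1 : x = 1
  · rw [hx1]; exact Commute.one_left y
  by_cases hc1 : ∃ z ∈ D.I1, z ∈ center G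
  · obtain ⟨z, hz, hzc⟩ := hc1
    exact good_of_central D hO ih hz hzc x hx y hy
  by_cases hc2 : ∃ z ∈ D.I2, z ∈ center G
  · obtain ⟨z, hz, hzc⟩ := hc2
    exact (good_of_central D.swap hO ih hz hzc y hy x hx).symm
  have hsub := sub_of_ih D ih
  let K : Ctx G :=
    { toData := D
      hO := hO
      hsub := hsub
      nc1 := fun z hz h => hc1 ⟨z, hz, h⟩
      nc2 := fun z hz h => hc2 ⟨z, hz, h⟩ }
  obtain ⟨b, hb⟩ := exists_I2 D hy hy1
  obtain ⟨a, ha⟩ := exists_I2 D.swap hx hx1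
  have hM2 : closure D.I2 ≠ ⊤ := by
    intro htop
    refine hc1 ⟨a, ha, Subgroup.mem_center_iff.2 fun g => ?_⟩
    have h : closure D.I2 ≤ centralizer ({a} : Set G) := (closure_le _).2 fun t ht =>
      mem_centralizer_singleton.2 (K.swap.commute_of_closure_eq_top htop ht ha)
    exact (mem_centralizer_singleton.1 (h (htop ▸ Subgroup.mem_top g))).eq
  have h12 : ∀ x ∈ D.C1, ∀ t ∈ D.I2, Commute x t :=
    commute_of_normal D hO hsub (fun t ht => ht.1) (conjInv_I2 D) hM2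
  have hN1 : closure D.C1 ≠ ⊤ := by
    intro htop
    refine hc2 ⟨b, hb, Subgroup.mem_center_iff.2 fun g => ?_⟩
    have h : closure D.C1 ≤ centralizer ({b} : Set G) :=
      (closure_le _).2 fun t ht => mem_centralizer_singleton.2 (h12 t ht b hb)
    exact (mem_centralizer_singleton.1 (h (htop ▸ Subgroup.mem_top g))).eq
  exact (commute_of_normal D.swap hO
    (fun X hX p hp q hq hpX hqX => commutator_symm_mem (hsub X hX q hq p hp hqX hpX))
    (Set.Subset.refl D.C1) D.conjInv1 hN1 y hy x hx).symm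

/-- **Product fusion.** With trivial odd core, conjugates of commuting, disjoint strongly closed
subgroups commute. -/
theorem commute_conjugates [Finite G] (D : Data G) (hO : pPrimeCore 2 G = ⊥) {x y : G}
    (hx : x ∈ D.C1) (hy : y ∈ D.C2) : Commute x y :=
  good_aux _ G rfl D hO x hx y hy

theorem commutator_normalClosure [Finite G] (D : Data G) (hO : pPrimeCore 2 G = ⊥) :
    ⁅normalClosure (D.S1 : Set G), normalClosure (D.S2 : Set G)⁆ = ⊥ := by
  have h1 : ∀ {Q : Subgroup G} {g : G}, g ∈ Group.conjugatesOfSet (Q : Set G) →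
      ∃ h : G, h * g * h⁻¹ ∈ Q := by
    intro Q g hg
    obtain ⟨x, hx, hxg⟩ := Group.mem_conjugatesOfSet_iff.1 hg
    obtain ⟨c, rfl⟩ := isConj_iff.1 hxg
    refine ⟨c⁻¹, ?_⟩
    rw [show c⁻¹ * (c * x * c⁻¹) * c⁻¹⁻¹ = x by group]; exact hx
  rw [Subgroup.commutator_eq_bot_iff_le_centralizer, normalClosure, closure_le]
  intro x hx
  rw [SetLike.mem_coe, Subgroup.mem_centralizer_iff]
  have h : normalClosure (D.S2 : Set G) ≤ centralizer ({x} : Set G) := by
    rw [normalClosure, closure_le]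
    intro y hy
    exact mem_centralizer_singleton.2 (commute_conjugates D hO (h1 hx) (h1 hy)).symm
  exact fun y hy => (mem_centralizer_singleton.1 (h hy)).eq

end Cfsg.Agent.ProductFusion68
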