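import Cfsg.Agent.Lib.ProductFusion68Functor
import Cfsg.Agent.Lib.CoprimeExtra

/-!
# Product fusion: the subgroup attached to a frame, and the commuting theorem when one side generates
-/

set_option autoImplicit false

namespace Cfsg.Agent.ProductFusion68

open Subgroup
open scoped commutatorElement

variable {G : Type*} [Group G]

theorem coprime_cyclic_cases [Finite G] {A B : Subgroup G} (hA : ∀ a ∈ A, a * a = 1)
    [IsMulCommutative A] (hcyc : IsCyclic (A ⧸ B.subgroupOf A)) {p q : G} (hp : p ∈ A)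
    (hq : q ∈ A) (hpB : p ∉ B) (hqB : q ∉ B) : p * q ∈ B := by
  obtain ⟨g, hg⟩ := hcyc.exists_generator
  have hsq : ∀ z : A ⧸ B.subgroupOf A, z * z = 1 := by
    intro z
    obtain ⟨z', rfl⟩ := QuotientGroup.mk_surjective z
    rw [← QuotientGroup.mk_mul]
    exact (QuotientGroup.eq_one_iff _).2 (by
      rw [Subgroup.mem_subgroupOf]; simp only [Subgroup.coe_mul]; rw [hA z' z'.2]; exact one_mem B)
  have hval : ∀ z : A ⧸ B.subgroupOf A, z = 1 ∨ z = g := by
    intro z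
    obtain ⟨i, rfl⟩ := hg z
    rcases Int.even_or_odd' i with ⟨j, rfl | rfl⟩
    · left
      show g ^ (2 * j) = 1
      rw [zpow_mul, zpow_two, hsq, one_zpow]
    · right
      show g ^ (2 * j + 1) = g
      rw [zpow_add_one, zpow_mul, zpow_two, hsq, one_zpow, one_mul]
  have hne : ∀ (r : G) (hr : r ∈ A), r ∉ B → (QuotientGroup.mk ⟨r, hr⟩ : A ⧸ B.subgroupOf A) = g :=
    fun r hr hrB => (hval _).resolve_left fun h => hrB
      (Subgroup.mem_subgroupOf.1 ((QuotientGroup.eq_one_iff _).1 h))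
  have h : (QuotientGroup.mk (⟨p, hp⟩ * ⟨q, hq⟩ : A) : A ⧸ B.subgroupOf A) = 1 := by
    rw [QuotientGroup.mk_mul, hne p hp hpB, hne q hq hqB, hsq]
  exact Subgroup.mem_subgroupOf.1 ((QuotientGroup.eq_one_iff _).1 h)

theorem map_conj_eq_self [Finite G] {H : Subgroup G} {g : G} (hg : g ∈ normalizer (H : Set G)) :
    H.map (MulAut.conj g).toMonoidHom = H := by
  refine Subgroup.eq_of_le_of_card_ge ?_
    (Subgroup.card_map_of_injective (MulAut.conj g).injective).ge
  rintro _ ⟨x, hx, rfl⟩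
  exact conj_mem_of_mem hg hx

theorem mem_normalizer_of_map_eq [Finite G] {H : Subgroup G} {g : G}
    (h : H.map (MulAut.conj g).toMonoidHom = H) : g ∈ normalizer (H : Set G) :=
  mem_normalizer_of_conj_mem fun x hx => h.le ⟨x, hx, rfl⟩

theorem map_conj_conj (H : Subgroup G) (g h : G) :
    (H.map (MulAut.conj h).toMonoidHom).map (MulAut.conj g).toMonoidHom =
      H.map (MulAut.conj (g * h)).toMonoidHom := by
  ext z
  simp [Subgroup.mem_map, mul_assoc]

theorem map_conj_one (H : Subgroup G) : H.map (MulAut.conj (1 : G)).toMonoidHom = H := by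
  ext z
  simp [Subgroup.mem_map]

namespace Frame

variable {D : Data G} (F : Frame D)

/-- The signalizer functor of the frame. -/
def theta (x : G) : Subgroup G := side F.V1 x ⊓ side F.V2 x

/-- The subgroup generated by the functor. -/
def W : Subgroup G := ⨆ a : {a : G // a ∈ F.A ∧ a ≠ 1}, F.theta (a : G)

theorem theta_swap (x : G) : F.swap.theta x = F.theta x := inf_comm _ _

theorem swap_W : F.swap.W = F.W := by
  refine le_antisymm (iSup_le ?_) (iSup_le ?_)
  · rintro ⟨a, ha, ha1⟩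
    rw [F.theta_swap]
    exact le_iSup (fun a : {a : G // a ∈ F.A ∧ a ≠ 1} => F.theta (a : G)) ⟨a, F.swap_A ▸ ha, ha1⟩
  · rintro ⟨a, ha, ha1⟩
    rw [← F.theta_swap]
    exact le_iSup (fun a : {a : G // a ∈ F.swap.A ∧ a ≠ 1} => F.swap.theta (a : G))
      ⟨a, F.swap_A.symm ▸ ha, ha1⟩

theorem theta_le_W {a : G} (ha : a ∈ F.A) (ha1 : a ≠ 1) : F.theta a ≤ F.W :=
  le_iSup (fun a : {a : G // a ∈ F.A ∧ a ≠ 1} => F.theta (a : G)) ⟨a, ha, ha1⟩

theorem theta_le_R [Finite G] {x : G} (hx : x ∈ F.A) : F.theta x ≤ R x :=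
  inf_le_left.trans (side_le (F.commute_V1 hx))

theorem A_le_normalizer_theta [Finite G] {x : G} (hx : x ∈ F.A) :
    F.A ≤ normalizer (F.theta x : Set G) :=
  CoprimeAction.le_normalizer_inf (F.A_le_normalizer_side hx)
    (F.swap_A ▸ F.swap.A_le_normalizer_side (F.swap_A.symm ▸ hx))

theorem A_le_normalizer_W [Finite G] : F.A ≤ normalizer (F.W : Set G) := by
  refine le_normalizer_of_conj_mem' fun g hg z hz => ?_
  have h : F.W ≤ F.W.comap (MulAut.conj g).toMonoidHom :=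
    iSup_le fun a => fun w hw =>
      F.theta_le_W a.2.1 a.2.2 (conj_mem_of_mem (F.A_le_normalizer_theta a.2.1 hg) hw)
  exact h hz

@[ext]
theorem ext' {F F' : Frame D} (h1 : F.V1 = F'.V1) (h2 : F.V2 = F'.V2) : F = F' := by
  cases F; cases F'; cases h1; cases h2; rfl

theorem conj_A (g : G) : (F.conj g).A = F.A.map (MulAut.conj g).toMonoidHom :=
  (Subgroup.map_sup _ _ _).symm

theorem map_theta_le [Finite G] (g x : G) :
    (F.theta x).map (MulAut.conj g).toMonoidHom ≤ (F.conj g).theta (g * x * g⁻¹) :=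
  (Subgroup.map_inf_le _ _ _).trans (inf_le_inf (map_conj_side_le g F.V1 x) (map_conj_side_le g F.V2 x))

theorem map_W_le [Finite G] (g : G) : F.W.map (MulAut.conj g).toMonoidHom ≤ (F.conj g).W := by
  rw [W, Subgroup.map_iSup]
  refine iSup_le ?_
  rintro ⟨a, ha, ha1⟩
  refine (F.map_theta_le g a).trans ((F.conj g).theta_le_W ?_ ?_)
  · rw [F.conj_A]; exact ⟨a, ha, rfl⟩
  · intro h
    exact ha1 (by simpa [mul_inv_eq_one] using h)

theorem conj_conj (g h : G) : (F.conj h).conj g = F.conj (g * h) :=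
  Frame.ext' (map_conj_conj _ g h) (map_conj_conj _ g h)

theorem conj_one : F.conj 1 = F := Frame.ext' (map_conj_one _) (map_conj_one _)

theorem W_conj [Finite G] (g : G) : (F.conj g).W = F.W.map (MulAut.conj g).toMonoidHom := by
  refine le_antisymm (fun z hz => ?_) (F.map_W_le g)
  have h := (F.conj g).map_W_le g⁻¹ ⟨z, hz, rfl⟩
  rw [F.conj_conj, inv_mul_cancel, F.conj_one] at h
  exact ⟨_, h, by simp [mul_assoc]⟩

theorem exists_other1 [Finite G] (a : G) : ∃ b ∈ F.V1, b ≠ 1 ∧ a ≠ b := by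
  by_contra hcon
  have h2 : ∀ v ∈ F.V1, v = 1 ∨ v = a := fun v hv => by
    by_cases h1 : v = 1
    · exact Or.inl h1
    by_cases h3 : a = v
    · exact Or.inr h3.symm
    exact absurd ⟨v, hv, h1, h3⟩ hcon
  have h3 : (F.V1 : Set G).ncard ≤ ({1, a} : Set G).ncard :=
    Set.ncard_le_ncard (fun v hv => by simpa using h2 v hv) (Set.toFinite _)
  have h4 : ({1, a} : Set G).ncard ≤ 2 :=
    (Set.ncard_insert_le _ _).trans (by rw [Set.ncard_singleton])
  have h5 : (F.V1 : Set G).ncard = 4 := by rw [← Nat.card_coe_set_eq]; exact F.card1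
  omega

theorem exists_other2 [Finite G] (b : G) : ∃ b' ∈ F.V2, b' ≠ 1 ∧ b ≠ b' := F.swap.exists_other1 b

instance instCommA : IsMulCommutative F.A := F.A_isComm

theorem exists_mem_inf1 [Finite G] {B : Subgroup G}
    (hmul : ∀ p ∈ F.A, ∀ q ∈ F.A, p ∉ B → q ∉ B → p * q ∈ B) :
    ∃ v ∈ F.V1, v ≠ 1 ∧ v ∈ B := by
  obtain ⟨a, ha, ha1⟩ := F.exists_ne1
  obtain ⟨b, hb, hb1, hab⟩ := F.exists_other1 a
  by_cases haB : a ∈ B
  · exact ⟨a, ha, ha1, haB⟩
  by_cases hbB : b ∈ B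
  · exact ⟨b, hb, hb1, hbB⟩
  exact ⟨a * b, mul_mem ha hb, fun h => hab (by
    rw [← inv_of_sq (F.sq1 a ha)]; exact inv_eq_of_mul_eq_one_right h),
    hmul a (F.V1_le ha) b (F.V1_le hb) haB hbB⟩

end Frame

namespace Ctx

variable (K : Ctx G)

theorem good [Finite G] (F : Frame K.toData) {x y f : G} (hx : x ∈ F.A) (hy : y ∈ F.A)
    (hy1 : y ≠ 1) (hf : f ∈ F.theta x) (hfy : Commute f y) : f ∈ R y :=
  K.lemmaA (F.A_sq hx) (K.mem_closure_union F (F.A_le_centralizer hy) hx)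
    (F.theta_le_R hx hf) (K.good1 F hx hy hy1 hf.2 hfy) (K.good2 F hx hy hy1 hf.1 hfy)

theorem balance_aux [Finite G] (F : Frame K.toData) {x y : G} (hx : x ∈ F.A) (hy : y ∈ F.A)
    (hy1 : y ≠ 1) : F.theta x ⊓ centralizer ({y} : Set G) ≤ side F.V1 y := by
  intro f hf
  set M := F.theta x ⊓ centralizer ({y} : Set G) with hM
  have hMR : M ≤ R y := fun k hk => K.good F hx hy hy1 hk.1 (mem_centralizer_singleton.1 hk.2)
  have hVn : F.V1 ≤ normalizer (M : Set G) := F.V1_le.trans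
    (CoprimeAction.le_normalizer_inf (F.A_le_normalizer_theta hx)
      ((F.A_le_centralizer hy).trans Subgroup.le_normalizer))
  obtain ⟨l, hl, c, ⟨hcM, hcV⟩, hfe⟩ := CoprimeAction.exists_mul_fixed hVn
    (coprime_two_group F.V1_isPGroup (odd_card_of_le hMR (odd_coreIn _)))
    (Or.inl (isSolvable_two F.V1_isPGroup)) hf
  rw [hfe]
  refine mul_mem (commutator_R_le_side _ _ (Subgroup.commutator_mono hMR le_rfl hl))
    (fixPart_le_side _ _ (mem_fixPart.2 ⟨hMR hcM, hcV, fun u hu hu1 => ?_⟩))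
  exact K.good F hx (F.V1_le hu) hu1 hcM.1 (Subgroup.mem_centralizer_iff.1 hcV u hu).symm

theorem balance [Finite G] (F : Frame K.toData) {x y : G} (hx : x ∈ F.A) (hy : y ∈ F.A)
    (hy1 : y ≠ 1) : F.theta x ⊓ centralizer ({y} : Set G) ≤ F.theta y := by
  refine le_inf (K.balance_aux F hx hy hy1) ?_
  rw [← F.theta_swap]
  exact K.swap.balance_aux F.swap (F.swap_A.symm ▸ hx) (F.swap_A.symm ▸ hy) hy1

theorem W_spec [Finite G] (F : Frame K.toData) :
    Odd (Nat.card F.W) ∧ ∀ a ∈ F.A, a ≠ 1 → F.W ⊓ centralizer ({a} : Set G) = F.theta a := by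
  haveI := Fact.mk Nat.prime_two
  obtain ⟨h1, h2⟩ := S0217.result (p := 2) F.A (fun a ha b hb => (F.A_comm ha hb).eq)
    (fun a ha => by rw [pow_two]; exact F.A_sq ha) (by have := F.card_A; omega) F.theta
    (fun a ha _ => (F.theta_le_R ha).trans (coreIn_le _))
    (fun a ha _ h => Nat.not_even_iff_odd.2 (odd_card_of_le (F.theta_le_R ha) (odd_coreIn _))
      (even_iff_two_dvd.2 h))
    (fun a ha _ b hb z hz => conj_mem_of_mem (F.A_le_normalizer_theta ha hb) hz)
    (fun a ha _ => solvable_of_odd (odd_card_of_le (F.theta_le_R ha) (odd_coreIn _)))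
    (fun a ha _ b hb hb1 => K.balance F ha hb hb1)
  exact ⟨Nat.not_even_iff_odd.1 fun h => h1 (even_iff_two_dvd.1 h), h2⟩

theorem W_le_of_V1 [Finite G] (F : Frame K.toData) {H : Subgroup G}
    (h : ∀ v ∈ F.V1, v ≠ 1 → F.theta v ≤ H) : F.W ≤ H := by
  haveI := F.V1_isComm
  refine CoprimeGen.le_of_centralizers F.V1_not_isCyclic (F.V1_le.trans F.A_le_normalizer_W)
    (coprime_two_group F.V1_isPGroup (K.W_spec F).1) fun v hv hv1 => ?_
  rw [(K.W_spec F).2 v (F.V1_le hv) hv1]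
  exact h v hv hv1

theorem side_le_theta [Finite G] (F : Frame K.toData) {v : G} (hv : v ∈ F.V1) (hv1 : v ≠ 1) :
    side F.V2 v ≤ F.theta v := by
  refine le_inf (fun f hf => ?_) le_rfl
  have hvA := F.V1_le hv
  have hMR : side F.V2 v ≤ R v := side_le (F.commute_V2 hvA)
  have hVn : F.V1 ≤ normalizer (side F.V2 v : Set G) := by
    have := F.swap.A_le_normalizer_side (x := v) (F.swap_A.symm ▸ hvA)
    rw [F.swap_A] at this
    exact F.V1_le.trans this
  obtain ⟨l, hl, c, ⟨hcM, hcV⟩, hfe⟩ := CoprimeAction.exists_mul_fixed hVn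
    (coprime_two_group F.V1_isPGroup (odd_card_of_le hMR (odd_coreIn _)))
    (Or.inl (isSolvable_two F.V1_isPGroup)) hf
  rw [hfe]
  refine mul_mem (commutator_R_le_side _ _ (Subgroup.commutator_mono hMR le_rfl hl))
    (fixPart_le_side _ _ (mem_fixPart.2 ⟨hMR hcM, hcV, fun u hu hu1 => ?_⟩))
  have hcu : Commute c u := (Subgroup.mem_centralizer_iff.1 hcV u hu).symm
  have huA := F.V1_le hu
  exact K.lemmaA (F.sq1 v hv) (K.mem_closure_union F (F.A_le_centralizer huA) hvA) (hMR hcM)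
    (K.good1 F hvA huA hu1 hcM hcu)
    (K.lemmaB (K.ctr_ne_top F huA hu1) (F.sub1 v hv) (F.sq1 v hv) (F.mem_centralizer_A huA hvA)
      (hMR hcM) (mem_centralizer_singleton.2 hcu))

theorem side_le_side [Finite G] (F F' : Frame K.toData) (h1 : F'.V1 = F.V1) {e : G}
    (he : e ∈ F.V2) (he' : e ∈ F'.V2) (he1 : e ≠ 1) {v : G} (hv : v ∈ F.V1) (hv1 : v ≠ 1) :
    side F'.V2 v ≤ side F.V2 v := by
  intro r hr
  have hvA := F.V1_le hv
  have hv' : v ∈ F'.V1 := h1.symm ▸ hv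
  have hvA' := F'.V1_le hv'
  have hMR : side F'.V2 v ≤ R v := side_le (F'.commute_V2 hvA')
  have he2 : e * e = 1 := F.sq2 e he
  have hen : zpowers e ≤ normalizer (side F'.V2 v : Set G) := by
    have := F'.swap.A_le_normalizer_side (x := v) (F'.swap_A.symm ▸ hvA')
    rw [F'.swap_A] at this
    exact zpowers_le.2 (this (F'.V2_le he'))
  obtain ⟨l, hl, j, ⟨hjM, hje⟩, hre⟩ := CoprimeAction.exists_mul_fixed hen
    (coprime_two_group (isPGroup_zpowers_of_sq he2) (odd_card_of_le hMR (odd_coreIn _)))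
    (Or.inl (CoprimeAction.isSolvable_zpowers e)) hr
  rw [hre]
  refine mul_mem (commutator_R_le_side _ _ (Subgroup.commutator_mono hMR (zpowers_le.2 he) hl)) ?_
  have hje' : Commute j e := mem_centralizer_zpowers.1 hje
  have hjR : j ∈ R e := K.lemmaA (F.sq1 v hv)
    (K.mem_closure_union F (F.A_le_centralizer (F.V2_le he)) hvA) (hMR hjM)
    (K.good1 F' hvA' (F'.V2_le he') he1 hjM hje')
    (K.lemmaB (K.ctr_ne_top F (F.V2_le he) he1) (F.sub1 v hv) (F.sq1 v hv)
      (F.mem_centralizer_A (F.V2_le he) hvA) (hMR hjM) (mem_centralizer_singleton.2 hje'))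
  have hVn : F.V2 ≤ normalizer ((R v ⊓ R e : Subgroup G) : Set G) :=
    le_normalizer_of_conj_mem' fun a ha k hk =>
      ⟨conj_mem_R_of_commute (F.A_comm (F.V2_le ha) hvA) hk.1,
        conj_mem_R_of_commute (F.comm_self2 ha he) hk.2⟩
  obtain ⟨l2, hl2, u, ⟨huM, huV⟩, hje2⟩ := CoprimeAction.exists_mul_fixed hVn
    (coprime_two_group F.swap.V1_isPGroup (odd_card_of_le inf_le_left (odd_coreIn _)))
    (Or.inl (isSolvable_two F.swap.V1_isPGroup)) (show j ∈ R v ⊓ R e from ⟨hMR hjM, hjR⟩)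
  rw [hje2]
  refine mul_mem (commutator_R_le_side _ _ (Subgroup.commutator_mono inf_le_left le_rfl hl2))
    (fixPart_le_side _ _ (mem_fixPart.2 ⟨huM.1, huV, fun e' he'' he'1 => ?_⟩))
  have hue : Commute u e' := (Subgroup.mem_centralizer_iff.1 huV e' he'').symm
  have heA := F.V2_le he''
  exact K.lemmaA (F.sq1 v hv) (K.mem_closure_union F (F.A_le_centralizer heA) hvA) huM.1
    (K.swap.lemmaB (K.ctr_ne_top F heA he'1) (F.sub2 e he) he2
      (F.mem_centralizer_A heA (F.V2_le he)) huM.2 (mem_centralizer_singleton.2 hue))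
    (K.lemmaB (K.ctr_ne_top F heA he'1) (F.sub1 v hv) (F.sq1 v hv)
      (F.mem_centralizer_A heA hvA) huM.1 (mem_centralizer_singleton.2 hue))

theorem W_eq_of_share1 [Finite G] (F F' : Frame K.toData) (h1 : F'.V1 = F.V1) {e : G}
    (he : e ∈ F.V2) (he' : e ∈ F'.V2) (he1 : e ≠ 1) : F'.W = F.W := by
  refine le_antisymm (K.W_le_of_V1 F' fun v hv hv1 => ?_) (K.W_le_of_V1 F fun v hv hv1 => ?_)
  · have hv0 : v ∈ F.V1 := h1 ▸ hv
    exact (inf_le_right.trans ((K.side_le_side F F' h1 he he' he1 hv0 hv1).trans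
      (K.side_le_theta F hv0 hv1))).trans (F.theta_le_W (F.V1_le hv0) hv1)
  · have hv0 : v ∈ F'.V1 := h1.symm ▸ hv
    exact (inf_le_right.trans ((K.side_le_side F' F h1.symm he' he he1 hv0 hv1).trans
      (K.side_le_theta F' hv0 hv1))).trans (F'.theta_le_W (F'.V1_le hv0) hv1)

theorem W_eq_of_share2 [Finite G] (F F' : Frame K.toData) (h2 : F'.V2 = F.V2) {e : G}
    (he : e ∈ F.V1) (he' : e ∈ F'.V1) (he1 : e ≠ 1) : F'.W = F.W := by
  rw [← F'.swap_W, ← F.swap_W]
  exact K.swap.W_eq_of_share1 F.swap F'.swap h2 he he' he1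

theorem mem_normalizer_share1 [Finite G] (F : Frame K.toData) {k e : G}
    (hk : ∀ v ∈ F.V1, Commute k v) (he : e ∈ F.V2) (he1 : e ≠ 1) (hke : Commute k e) :
    k ∈ normalizer (F.W : Set G) := by
  refine mem_normalizer_of_map_eq ?_
  rw [← F.W_conj]
  refine K.W_eq_of_share1 F (F.conj k) ?_ he ?_ he1
  · ext z
    constructor
    · rintro ⟨v, hv, rfl⟩
      show k * v * k⁻¹ ∈ F.V1
      rw [(hk v hv).eq, mul_inv_cancel_right]; exact hv
    · intro hz
      exact ⟨z, hz, show k * z * k⁻¹ = z by rw [(hk z hz).eq, mul_inv_cancel_right]⟩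
  · exact ⟨e, he, show k * e * k⁻¹ = e by rw [hke.eq, mul_inv_cancel_right]⟩

theorem mem_normalizer_share2 [Finite G] (F : Frame K.toData) {k e : G}
    (hk : ∀ v ∈ F.V2, Commute k v) (he : e ∈ F.V1) (he1 : e ≠ 1) (hke : Commute k e) :
    k ∈ normalizer (F.W : Set G) := by
  rw [← F.swap_W]
  exact K.swap.mem_normalizer_share1 F.swap hk he he1 hke

/-- The mixed case: the commutator lies in `W` and is inverted by `b`. -/
theorem mixed [Finite G] (F : Frame K.toData) {k v0 a b : G} (ho : Odd (orderOf ⁅k, a⁆))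
    (hv0 : v0 ∈ F.V1) (hv1 : v0 ≠ 1) (ha : a ∈ F.V1) (hb : b ∈ F.V2) (hkv : Commute k v0)
    (hkab : Commute k (a * b)) :
    ⁅k, a⁆ ∈ F.W ∧ b * ⁅k, a⁆ * b⁻¹ = ⁅k, a⁆⁻¹ := by
  have hab : Commute a b := F.comm a ha b hb
  set X := centralizer ({v0} : Set G) with hXdef
  have hAX : F.A ≤ X := F.A_le_centralizer (F.V1_le hv0)
  have hkX : k ∈ X := mem_centralizer_singleton.2 hkv
  have hb2 := F.sq2 b hb
  have hkb : ⁅k, a⁆ = ⁅k, b⁆ := by
    have e1 : a = (a * b) * b := by rw [mul_assoc, hb2, mul_one]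
    have hc : Commute (a * b) (k * b * k⁻¹ * b⁻¹) :=
      (((hkab.symm.mul_right (hab.mul_left (Commute.refl b))).mul_right hkab.symm.inv_right).mul_right
        (hab.mul_left (Commute.refl b)).inv_right)
    calc ⁅k, a⁆ = k * ((a * b) * b) * k⁻¹ * ((a * b) * b)⁻¹ := by
          rw [commutatorElement_def, ← e1]
      _ = (k * (a * b)) * b * k⁻¹ * (b⁻¹ * (a * b)⁻¹) := by rw [mul_inv_rev]; group
      _ = (a * b) * (k * b * k⁻¹ * b⁻¹) * (a * b)⁻¹ := by rw [hkab.eq]; group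
      _ = ⁅k, b⁆ := by rw [hc.eq, mul_inv_cancel_right, commutatorElement_def]
  have hinv : b * ⁅k, a⁆ * b⁻¹ = ⁅k, a⁆⁻¹ := by
    rw [hkb, commutatorElement_inv, commutatorElement_def, commutatorElement_def, inv_of_sq hb2]
    simp only [← mul_assoc]
    rw [mul_assoc (b * k * b * k⁻¹), hb2, mul_one]
  refine ⟨?_, hinv⟩
  have h1 : ⁅k, a⁆ ∈ closure (K.C1 ∩ X) := by
    rw [commutatorElement_def]
    exact mul_mem (subset_closure ⟨K.conjInv1 k a (F.sub1 a ha),
      mul_mem (mul_mem hkX (hAX (F.V1_le ha))) (inv_mem hkX)⟩)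
      (inv_mem (subset_closure ⟨F.sub1 a ha, hAX (F.V1_le ha)⟩))
  have h2 : ⁅k, a⁆ ∈ closure (K.C2 ∩ X) := by
    rw [hkb, commutatorElement_def]
    exact mul_mem (subset_closure ⟨K.conjInv2 k b (F.sub2 b hb),
      mul_mem (mul_mem hkX (hAX (F.V2_le hb))) (inv_mem hkX)⟩)
      (inv_mem (subset_closure ⟨F.sub2 b hb, hAX (F.V2_le hb)⟩))
  have hR : ⁅k, a⁆ ∈ R v0 := K.both_le_coreIn (K.ctr_ne_top F (F.V1_le hv0) hv1) h1 h2 ho
  have hsq : ⁅k, a⁆ * ⁅k, a⁆ ∈ ⁅R v0, F.V2⁆ := by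
    have h3 := Subgroup.commutator_mem_commutator hR hb
    have e : ⁅⁅k, a⁆, b⁆ = ⁅k, a⁆ * (b * ⁅k, a⁆⁻¹ * b⁻¹) := by
      rw [commutatorElement_def ⁅k, a⁆ b]; group
    have e2 : b * ⁅k, a⁆⁻¹ * b⁻¹ = ⁅k, a⁆ := by
      rw [show b * ⁅k, a⁆⁻¹ * b⁻¹ = (b * ⁅k, a⁆ * b⁻¹)⁻¹ by group, hinv, inv_inv]
    rwa [e, e2] at h3
  exact F.theta_le_W (F.V1_le hv0) hv1
    (K.side_le_theta F hv0 hv1 (commutator_R_le_side _ _ (mem_of_sq_mem ho hsq)))

/-- Every subgroup of odd order normalised by the frame normalises `W`. -/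
theorem odd_le_normalizer [Finite G] (F : Frame K.toData) {M : Subgroup G}
    (hM : Odd (Nat.card M)) (hn : F.A ≤ normalizer (M : Set G)) :
    M ≤ normalizer (F.W : Set G) := by
  haveI := F.A_isComm
  refine CoprimeExtra.le_of_cyclic_quotient_centralizers hn (coprime_two_group F.A_isPGroup hM)
    fun B hB hcyc => ?_
  have hmul : ∀ p ∈ F.A, ∀ q ∈ F.A, p ∉ B → q ∉ B → p * q ∈ B := fun p hp q hq =>
    coprime_cyclic_cases (fun _ h => F.A_sq h) hcyc hp hq
  obtain ⟨v0, hv0, hv01, hv0B⟩ := F.exists_mem_inf1 hmul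
  obtain ⟨e0, he0, he01, he0B⟩ := F.swap.exists_mem_inf1 (B := B) (by rw [F.swap_A]; exact hmul)
  have hcomm : ∀ {k : G}, k ∈ M ⊓ centralizer (B : Set G) → ∀ z ∈ B, Commute k z :=
    fun hk z hz => (Subgroup.mem_centralizer_iff.1 hk.2 z hz).symm
  by_cases hV1 : F.V1 ≤ B
  · exact fun k hk => K.mem_normalizer_share1 F (fun v hv => hcomm hk v (hV1 hv)) he0 he01
      (hcomm hk e0 he0B)
  by_cases hV2 : F.V2 ≤ B
  · exact fun k hk => K.mem_normalizer_share2 F (fun v hv => hcomm hk v (hV2 hv)) hv0 hv01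
      (hcomm hk v0 hv0B)
  obtain ⟨a, ha, haB⟩ := SetLike.not_le_iff_exists.1 hV1
  obtain ⟨b, hb, hbB⟩ := SetLike.not_le_iff_exists.1 hV2
  have hab : a * b ∈ B :=
    coprime_cyclic_cases (fun _ h => F.A_sq h) hcyc (F.V1_le ha) (F.V2_le hb) haB hbB
  intro k hk
  set M' := M ⊓ centralizer (B : Set G) with hM'
  have hnB : F.A ≤ normalizer (B : Set G) := fun y hy => mem_normalizer_of_conj_mem fun z hz => by
    rw [(F.A_comm hy (hB hz)).eq, mul_inv_cancel_right]; exact hz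
  have hn' : F.A ≤ normalizer (M' : Set G) := CoprimeAction.le_normalizer_inf hn
    (CoprimeTools.le_normalizer_centralizer_of_le hnB)
  obtain ⟨l, hl, c, ⟨hcM, hcA⟩, hke⟩ := CoprimeAction.exists_mul_fixed hn'
    (coprime_two_group F.A_isPGroup (odd_card_of_le inf_le_left hM))
    (Or.inl (isSolvable_two F.A_isPGroup)) hk
  rw [hke]
  refine mul_mem ?_ ?_
  swap
  · have hcA' : ∀ z ∈ F.A, Commute c z := fun z hz => (Subgroup.mem_centralizer_iff.1 hcA z hz).symm
    exact K.mem_normalizer_share1 F (fun v hv => hcA' v (F.V1_le hv)) he0 he01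
      (hcA' e0 (hB he0B))
  refine (Subgroup.commutator_le.2 fun k' hk' t ht => ?_ : ⁅M', F.A⁆ ≤ normalizer (F.W : Set G)) hl
  have hk'B : ∀ z ∈ B, Commute k' z := hcomm hk'
  by_cases htB : t ∈ B
  · rw [commutator_eq_one' (hk'B t htB)]; exact one_mem _
  have hta : t * a ∈ B := coprime_cyclic_cases (fun _ h => F.A_sq h) hcyc ht (F.V1_le ha) htB haB
  have hodd : Odd (orderOf ⁅k', a⁆) := by
    refine odd_orderOf_of_mem hM ?_
    rw [show ⁅k', a⁆ = k' * (a * k'⁻¹ * a⁻¹) by simp [commutatorElement_def, mul_assoc]]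
    exact mul_mem hk'.1 (conj_mem_of_mem (hn (F.V1_le ha)) (inv_mem hk'.1))
  have hw := (K.mixed F hodd hv0 hv01 ha hb (hk'B v0 hv0B) (hk'B _ hab)).1
  have e : ⁅k', t⁆ = (t * a) * ⁅k', a⁆ * (t * a)⁻¹ := by
    have e1 : t = (t * a) * a := by rw [mul_assoc, F.sq1 a ha, mul_one]
    have hc := (hk'B _ hta).eq
    calc ⁅k', t⁆ = k' * ((t * a) * a) * k'⁻¹ * ((t * a) * a)⁻¹ := by
          rw [commutatorElement_def, ← e1]
      _ = (k' * (t * a)) * a * k'⁻¹ * a⁻¹ * (t * a)⁻¹ := by group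
      _ = (t * a) * ⁅k', a⁆ * (t * a)⁻¹ := by rw [hc, commutatorElement_def]; group
  rw [e]
  exact Subgroup.le_normalizer
    (conj_mem_of_mem (F.A_le_normalizer_W (hB hta)) hw)

theorem R_le_normalizer_W [Finite G] (F : Frame K.toData) {z : G} (hz : F.A ≤ centralizer ({z} : Set G)) :
    R z ≤ normalizer (F.W : Set G) :=
  K.odd_le_normalizer F (odd_coreIn _) (hz.trans (le_normalizer_coreIn _))

/-- `W` depends only on a commuting pair in the frame. -/
theorem W_eq_of_pair [Finite G] (F F' : Frame K.toData) {a b : G} (ha : a ∈ F.V1)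
    (ha' : a ∈ F'.V1) (ha1 : a ≠ 1) (hb : b ∈ F.V2) (hb' : b ∈ F'.V2) (hb1 : b ≠ 1) :
    F'.W = F.W := by
  obtain ⟨a2, ha2, ha21, hne⟩ := F'.exists_other1 a
  obtain ⟨b2, hb2, hb21, hne2⟩ := F.exists_other2 b
  set X := centralizer ({a} : Set G) ⊓ centralizer ({b} : Set G) with hXdef
  have hX : X ≠ ⊤ := fun h => K.ctr_ne_top F (F.V1_le ha) ha1 (top_unique (h ▸ inf_le_left))
  have hAX : F.A ≤ X := le_inf (F.A_le_centralizer (F.V1_le ha)) (F.A_le_centralizer (F.V2_le hb))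
  have hAX' : F'.A ≤ X :=
    le_inf (F'.A_le_centralizer (F'.V1_le ha')) (F'.A_le_centralizer (F'.V2_le hb'))
  have hcom : ⁅b2, a2⁆ ∈ coreIn X := commutator_symm_mem
    (K.hsub X hX a2 (F'.sub1 a2 ha2) b2 (F.sub2 b2 hb2) (hAX' (F'.V1_le ha2)) (hAX (F.V2_le hb2)))
  obtain ⟨r, hr, hrc⟩ := exists_move (F.sq2 b2 hb2) (F'.sq1 a2 ha2) (odd_coreIn X) hcom
  have hra : Commute r a := mem_centralizer_singleton.1 (coreIn_le X hr).1
  have hrb : Commute r b := mem_centralizer_singleton.1 (coreIn_le X hr).2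
  have hWr : (F.conj r).W = F.W := by
    rw [F.W_conj]
    exact map_conj_eq_self (K.odd_le_normalizer F (odd_coreIn X)
      (hAX.trans (le_normalizer_coreIn X)) hr)
  have hfixb : r * b * r⁻¹ = b := by rw [hrb.eq, mul_inv_cancel_right]
  have hfixa : r * a * r⁻¹ = a := by rw [hra.eq, mul_inv_cancel_right]
  have hcomm : ∀ v ∈ F'.V1, ∀ w ∈ (F.conj r).V2, Commute v w := by
    rintro v hv _ ⟨u, hu, rfl⟩
    show Commute v (r * u * r⁻¹)
    have hva : Commute v b := F'.comm v hv b hb'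
    have hv2 : Commute v (r * b2 * r⁻¹) := by
      have h0 : Commute a (r * b2 * r⁻¹) := by
        rw [← hfixa]; exact (Commute.conj_iff r).2 (F.comm a ha b2 hb2)
      rcases F'.four_elements ha' ha2 ha1 ha21 hne hv with h | h | h | h
      · rw [h]; exact Commute.one_left _
      · rw [h]; exact h0
      · rw [h]; exact hrc.symm
      · rw [h]; exact h0.mul_left hrc.symm
    rcases F.swap.four_elements hb hb2 hb1 hb21 hne2 hu with h | h | h | h
    · rw [h, mul_one, mul_inv_cancel]; exact Commute.one_right _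
    · rw [h, hfixb]; exact hva
    · rw [h]; exact hv2
    · rw [h, show r * (b * b2) * r⁻¹ = (r * b * r⁻¹) * (r * b2 * r⁻¹) by group, hfixb]
      exact hva.mul_right hv2
  let F2 : Frame K.toData :=
    { F' with
      V2 := (F.conj r).V2
      card2 := (F.conj r).card2
      sq2 := (F.conj r).sq2
      sub2 := (F.conj r).sub2
      comm := hcomm }
  have hb2' : b ∈ (F.conj r).V2 := ⟨b, hb, hfixb⟩
  have h1 : F'.W = F2.W := K.W_eq_of_share1 F2 F' rfl (e := b) hb2' hb' hb1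
  have h2 : F2.W = (F.conj r).W :=
    K.W_eq_of_share2 (F.conj r) F2 rfl (e := a) ⟨a, ha, hfixa⟩ ha' ha1
  rw [h1, h2, hWr]

/-! ### The sets of subgroups attached to an involution of the second side -/

/-- The subgroups attached to frames through `b`. -/
def L (b : G) : Set (Subgroup G) := {H | ∃ F : Frame K.toData, b ∈ F.V2 ∧ F.W = H}

theorem map_mem_L [Finite G] (g : G) {b : G} {H : Subgroup G} (hH : H ∈ K.L b) :
    H.map (MulAut.conj g).toMonoidHom ∈ K.L (g * b * g⁻¹) := by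
  obtain ⟨F, hb, rfl⟩ := hH
  exact ⟨F.conj g, ⟨b, hb, rfl⟩, F.W_conj g⟩

theorem L_subset [Finite G] {b b' : G} (hb : b ∈ K.I2) (hb' : b' ∈ K.I2) (hbb : Commute b b') :
    K.L b ⊆ K.L b' := by
  rintro _ ⟨F, hbF, rfl⟩
  by_cases hne : b = b'
  · exact ⟨F, hne ▸ hbF, rfl⟩
  obtain ⟨a, ha, ha1⟩ := F.exists_ne1
  have haX : a ∈ centralizer ({b} : Set G) := F.mem_centralizer_A (F.V2_le hbF) (F.V1_le ha)
  obtain ⟨r, hr, hrc⟩ := exists_move (F.sq1 a ha) hb'.2.1 (odd_coreIn _)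
    (K.hsub _ (centralizer_ne_top (K.nc2 b hb)) a (F.sub1 a ha) b' hb'.1 haX
      (mem_centralizer_singleton.2 hbb.symm))
  have hfixb : r * b * r⁻¹ = b := by rw [(commute_of_mem_R hr).eq, mul_inv_cancel_right]
  have hWr : (F.conj r).W = F.W := by
    rw [F.W_conj]
    exact map_conj_eq_self (K.R_le_normalizer_W F (F.A_le_centralizer (F.V2_le hbF)) hr)
  have ha' : r * a * r⁻¹ ∈ K.I1 :=
    ⟨K.conjInv1 r a (F.sub1 a ha), (F.conj r).sq1 _ ⟨a, ha, rfl⟩,
      fun h => ha1 (by simpa [mul_inv_eq_one] using h)⟩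
  have hab : Commute (r * a * r⁻¹) b := by
    rw [← hfixb]; exact (Commute.conj_iff r).2 (F.comm a ha b hbF)
  obtain ⟨F', h1, h2, h3⟩ := K.exists_frame_second ha' hb hb' hne hbb hab hrc
  exact ⟨F', h3, (K.W_eq_of_pair (F.conj r) F' ⟨a, ha, rfl⟩ h1 ha'.2.2 ⟨b, hbF, hfixb⟩ h2 hb.2.2).trans hWr⟩

theorem L_eq [Finite G] {b b' : G} (hb : b ∈ K.I2) (hb' : b' ∈ K.I2) (hbb : Commute b b') :
    K.L b = K.L b' :=
  (K.L_subset hb hb' hbb).antisymm (K.L_subset hb' hb hbb.symm)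

/-- The stabiliser of `L b` under conjugation. -/
def stab (b : G) : Subgroup G where
  carrier := {g | ∀ H, H ∈ K.L b ↔ H.map (MulAut.conj g).toMonoidHom ∈ K.L b}
  one_mem' := fun H => by rw [map_conj_one]
  mul_mem' := fun {g h} hg hh H => by
    rw [← map_conj_conj H g h]
    exact (hh H).trans (hg _)
  inv_mem' := fun {g} hg H => by
    have e := hg (H.map (MulAut.conj g⁻¹).toMonoidHom)
    rw [map_conj_conj, mul_inv_cancel, map_conj_one] at e
    exact e.symm

theorem mem_stab_of_L_eq [Finite G] {b g : G} (h : K.L (g * b * g⁻¹) = K.L b) : g ∈ K.stab b := by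
  intro H
  constructor
  · intro hH
    rw [← h]; exact K.map_mem_L g hH
  · intro hH
    rw [← h] at hH
    have := K.map_mem_L g⁻¹ hH
    rw [map_conj_conj, inv_mul_cancel, map_conj_one,
      show g⁻¹ * (g * b * g⁻¹) * g⁻¹⁻¹ = b by group] at this
    exact this

theorem L_conj_of_mem_stab [Finite G] {b g : G} (h : g ∈ K.stab b) :
    K.L (g * b * g⁻¹) = K.L b := by
  ext H
  have e : (H.map (MulAut.conj g⁻¹).toMonoidHom).map (MulAut.conj g).toMonoidHom = H := by
    rw [map_conj_conj, mul_inv_cancel, map_conj_one]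
  constructor
  · intro hH
    have h1 := K.map_mem_L g⁻¹ hH
    rw [show g⁻¹ * (g * b * g⁻¹) * g⁻¹⁻¹ = b by group] at h1
    have h2 := (h _).1 h1
    rwa [e] at h2
  · intro hH
    have h1 := (h _).2 (e.symm ▸ hH)
    have h2 := K.map_mem_L g h1
    rwa [e] at h2

/-- The two involutions attached to a product of involutions from the two sides. -/
theorem exists_pair [Finite G] {a b : G} (ha : a ∈ K.I1) (hb : b ∈ K.I2) :
    ∃ c a0 b0, a0 ∈ K.I1 ∧ b0 ∈ K.I2 ∧ Commute a0 b ∧ Commute a b0 ∧ c = a0 * b ∧ c = a * b0 ∧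
      (∃ g, g * b * g⁻¹ = b0) := by
  set d := a * b with hd
  have ha2 := ha.2.1
  have hb2 := hb.2.1
  have hconjb : ∀ q : ℕ, a * d ^ (2 * q + 1) = (d ^ q)⁻¹ * b * d ^ q := by
    intro q
    have h1 : a * d ^ q = (d ^ q)⁻¹ * a := by
      have := IsolatedInv.conj_mul_pow ha2 hb2 q
      rwa [mul_inv_eq_iff_eq_mul] at this
    have h2 : b * d ^ q = (d ^ q)⁻¹ * b := by
      have e : b = a * d := by rw [hd, ← mul_assoc, ha2, one_mul]
      rw [e, mul_assoc, (Commute.self_pow d q).eq, ← mul_assoc, h1, mul_assoc]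
    calc a * d ^ (2 * q + 1) = a * d * (d ^ q * d ^ q) := by
          rw [two_mul, pow_succ', pow_add, mul_assoc a d]
      _ = b * (d ^ q * d ^ q) := by rw [hd, ← mul_assoc a a b, ha2, one_mul]
      _ = (d ^ q)⁻¹ * b * d ^ q := by rw [← mul_assoc, h2]
  obtain ⟨s, q, hq, hn⟩ := Nat.exists_eq_two_pow_mul_odd (n := orderOf d) (orderOf_pos d).ne'
  obtain ⟨i, hi⟩ := hq
  set b0 := a * d ^ q with hb0
  have hb0' : b0 = (d ^ i)⁻¹ * b * d ^ i := by rw [hb0, hi, hconjb]
  have hb0C : b0 ∈ K.C2 := by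
    rw [hb0']
    simpa using K.conjInv2 (d ^ i)⁻¹ b hb.1
  have hb0sq : b0 * b0 = 1 := by
    rw [hb0', show (d ^ i)⁻¹ * b * d ^ i * ((d ^ i)⁻¹ * b * d ^ i) = (d ^ i)⁻¹ * (b * b) * d ^ i by
      group, hb2, mul_one, inv_mul_cancel]
  have hs0 : s ≠ 0 := by
    rintro rfl
    obtain ⟨c, -, hc⟩ := IsolatedInv.exists_conj_of_odd ha2 hb2
      (by rw [← hd, hn, pow_zero, one_mul]; exact ⟨i, hi⟩)
    exact hb.2.2 (K.eq_one_of_both (hc ▸ K.conjInv1 c a ha.1) hb.1)
  have hs1 : s = 1 := by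
    by_contra hne
    have hab0 : a * b0 = d ^ q := by rw [hb0, ← mul_assoc, ha2, one_mul]
    have hT : IsPGroup 2 (zpowers (d ^ q) ⊔ zpowers a : Subgroup G) := by
      refine IsPGroup.to_sup_of_normal_left' ?_ (K.isPGroup_zpowers1 ha.1) (zpowers_le.2 ?_)
      · intro z
        refine ⟨s, ?_⟩
        obtain ⟨j, hj⟩ := z.2
        refine Subtype.ext ?_
        simp only [Subgroup.coe_pow, Subgroup.coe_one]
        rw [← hj]
        show ((d ^ q) ^ j) ^ (2 ^ s) = 1
        rw [← zpow_natCast, ← zpow_mul, mul_comm j, zpow_mul, zpow_natCast, ← pow_mul, mul_comm q,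
          ← hn, pow_orderOf_eq_one, one_zpow]
      · refine mem_normalizer_of_conj_mem ?_
        rintro _ ⟨j, rfl⟩
        have h1 := IsolatedInv.conj_mul_pow ha2 hb2 q
        rw [← hd] at h1
        show a * (d ^ q) ^ j * a⁻¹ ∈ zpowers (d ^ q)
        rw [← conj_zpow, h1]
        exact zpow_mem (inv_mem (mem_zpowers _)) j
    have hc := K.commute_of_mem hT ha.1 hb0C (Subgroup.mem_sup_right (mem_zpowers a))
      (by rw [show b0 = a * (a * b0) by rw [← mul_assoc, ha2, one_mul], hab0]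
          exact mul_mem (Subgroup.mem_sup_right (mem_zpowers a))
            (Subgroup.mem_sup_left (mem_zpowers _)))
    have h2 : d ^ (q * 2) = 1 := by
      rw [pow_mul, pow_two, ← hab0, hc.symm.mul_mul_mul_comm, ha2, hb0sq, one_mul]
    have h3 := orderOf_dvd_of_pow_eq_one h2
    rw [hn, show q * 2 = 2 ^ 1 * q by ring] at h3
    have h4 := Nat.le_of_dvd (by positivity) (Nat.dvd_of_mul_dvd_mul_right (by omega) h3)
    have h5 : 2 ^ 2 ≤ 2 ^ s := Nat.pow_le_pow_right two_pos (by omega)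
    omega
  have hc2 : d ^ q * d ^ q = 1 := by
    rw [← pow_add, show q + q = 2 ^ s * q by rw [hs1]; ring, ← hn, pow_orderOf_eq_one]
  set c := d ^ q with hc
  have hcinv := inv_of_sq hc2
  have hca : Commute a c := by
    have h1 := IsolatedInv.conj_mul_pow ha2 hb2 q
    rw [← hd, ← hc, hcinv, mul_inv_eq_iff_eq_mul] at h1
    exact h1
  have hcb : Commute c b := by
    have e : b = a * d := by rw [hd, ← mul_assoc, ha2, one_mul]
    rw [e]
    exact hca.symm.mul_right ((Commute.refl d).pow_left q)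
  have ha0 : c * b = d ^ i * a * (d ^ i)⁻¹ := by
    have h1 := IsolatedInv.conj_mul_pow ha2 hb2 i
    rw [← hd, mul_inv_eq_iff_eq_mul] at h1
    rw [hc, hi, pow_succ, two_mul, pow_add, hd]
    rw [show (a * b) ^ i * (a * b) ^ i * (a * b) * b = (a * b) ^ i * ((a * b) ^ i * (a * (b * b))) by
      group, hb2, mul_one, ← hd]
    rw [mul_assoc (d ^ i) a]
    congr 1
    calc d ^ i * a = d ^ i * a * (d ^ i) * (d ^ i)⁻¹ := by group
      _ = d ^ i * ((d ^ i)⁻¹ * a) * (d ^ i)⁻¹ := by rw [mul_assoc (d ^ i) a, h1]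
      _ = a * (d ^ i)⁻¹ := by group
  refine ⟨c, c * b, b0, ⟨?_, ?_, ?_⟩, ⟨hb0C, hb0sq, ?_⟩, ?_, ?_, ?_, ?_, (d ^ i)⁻¹, ?_⟩
  · rw [ha0]; exact K.conjInv1 _ a ha.1
  · rw [hcb.symm.mul_mul_mul_comm, hc2, hb2, one_mul]
  · intro h
    refine ha.2.2 ?_
    rw [ha0, mul_inv_eq_one, mul_eq_left] at h
    exact h
  · intro h
    refine hb.2.2 ?_
    have h' := h
    rw [hb0', mul_assoc, inv_mul_eq_one] at h'
    exact mul_eq_right.1 h'.symm
  · exact hcb.mul_left (Commute.refl b)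
  · exact (Commute.refl a).mul_right hca
  · rw [mul_assoc, hb2, mul_one]
  · rw [hb0, ← mul_assoc, ha2, one_mul]
  · rw [inv_inv, hb0']

/-- If one side generates, the two sides commute. -/
theorem commute_of_closure_eq_top [Finite G] (htop : closure K.I1 = ⊤) {a b : G} (ha : a ∈ K.I1)
    (hb : b ∈ K.I2) : Commute a b := by
  -- every element stabilises every `L b`
  have hstab : ∀ b ∈ K.I2, K.stab b = ⊤ := by
    intro b hb
    refine top_unique (htop ▸ (closure_le _).2 fun a ha => ?_)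
    obtain ⟨c, a0, b0, ha0, hb0, h0, h0', hc, hc', -⟩ := K.exists_pair ha hb
    obtain ⟨F, hFa, hFb⟩ := K.exists_frame ha0 hb h0
    have hcA : c ∈ F.A := hc ▸ mul_mem (F.V1_le hFa) (F.V2_le hFb)
    have hc1 : c ≠ 1 := fun h => hb.2.2 (K.eq_one_of_both (by
      have e : b = a0 := by
        rw [hc] at h
        rw [← inv_of_sq ha0.2.1]; exact (inv_eq_of_mul_eq_one_right h).symm
      rw [e]; exact ha0.1) hb.1)
    set X := centralizer ({c} : Set G) with hXdef
    have hX : X ≠ ⊤ := K.ctr_ne_top F hcA hc1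
    have haX : a ∈ X := mem_centralizer_singleton.2 (hc' ▸ (Commute.refl a).mul_right h0')
    have hbX : b ∈ X := mem_centralizer_singleton.2 (hc ▸ (h0.symm.mul_right (Commute.refl b)))
    set b' := a * b * a⁻¹ with hb'
    have hb'I : b' ∈ K.I2 := ⟨K.conjInv2 a b hb.1, by
      rw [hb', show a * b * a⁻¹ * (a * b * a⁻¹) = a * (b * b) * a⁻¹ by group, hb.2.1, mul_one,
        mul_inv_cancel], fun h => hb.2.2 (by simpa [hb', mul_inv_eq_one] using h)⟩
    have hcom : ⁅b, b'⁆ ∈ coreIn X := by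
      have hab := K.hsub X hX a ha.1 b hb.1 haX hbX
      rw [show ⁅b, b'⁆ = (b * ⁅a, b⁆ * b⁻¹) * ⁅a, b⁆⁻¹ by
        rw [hb', show a * b * a⁻¹ = ⁅a, b⁆ * b by simp [commutatorElement_def]]
        simp [commutatorElement_def, mul_assoc]]
      exact mul_mem (conj_mem_coreIn hbX hab) (inv_mem hab)
    obtain ⟨r, hr, hrc⟩ := exists_move hb.2.1 hb'I.2.1 (odd_coreIn X) hcom
    have hstabR : coreIn X ≤ K.stab b := by
      haveI := F.swap.V1_isComm
      have hAX : F.A ≤ X := F.A_le_centralizer hcA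
      refine CoprimeGen.le_of_centralizers F.swap.V1_not_isCyclic
        ((F.V2_le.trans hAX).trans (le_normalizer_coreIn X))
        (coprime_two_group F.swap.V1_isPGroup (odd_coreIn X)) fun e he he1 => ?_
      intro g hg
      refine K.mem_stab_of_L_eq ?_
      have heI : e ∈ K.I2 := ⟨F.sub2 e he, F.sq2 e he, he1⟩
      have hge : Commute g e := mem_centralizer_singleton.1 hg.2
      have hgbI : g * b * g⁻¹ ∈ K.I2 := ⟨K.conjInv2 g b hb.1, by
        rw [show g * b * g⁻¹ * (g * b * g⁻¹) = g * (b * b) * g⁻¹ by group, hb.2.1, mul_one,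
          mul_inv_cancel], fun h => hb.2.2 (by simpa [mul_inv_eq_one] using h)⟩
      have hcomm : Commute (g * b * g⁻¹) e := by
        have h1 : g * e * g⁻¹ = e := by rw [hge.eq, mul_inv_cancel_right]
        rw [← h1]
        exact (Commute.conj_iff g).2 (F.comm_self2 hFb he)
      rw [K.L_eq hgbI heI hcomm, K.L_eq hb heI (F.comm_self2 hFb he)]
    have hrb : r * b * r⁻¹ ∈ K.I2 := ⟨K.conjInv2 r b hb.1, by
      rw [show r * b * r⁻¹ * (r * b * r⁻¹) = r * (b * b) * r⁻¹ by group, hb.2.1, mul_one,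
        mul_inv_cancel], fun h => hb.2.2 (by simpa [mul_inv_eq_one] using h)⟩
    refine K.mem_stab_of_L_eq ?_
    rw [← hb', ← K.L_eq hrb hb'I hrc]
    exact K.L_conj_of_mem_stab (hstabR hr)
  -- hence `V2` centralises `W`
  have hcent : ∀ (F : Frame K.toData), ∀ b ∈ F.V2, ∀ w ∈ F.W, Commute w b := by
    intro F b hb w hw
    by_cases hb1 : b = 1
    · rw [hb1]; exact Commute.one_right _
    have hbI : b ∈ K.I2 := ⟨F.sub2 b hb, F.sq2 b hb, hb1⟩
    have hN : normalClosure ({b} : Set G) ≤ normalizer (F.W : Set G) := by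
      rw [normalClosure, closure_le]
      intro z hz
      obtain ⟨x, hx, hxz⟩ := Group.mem_conjugatesOfSet_iff.1 hz
      rw [Set.mem_singleton_iff.1 hx] at hxz
      obtain ⟨g, rfl⟩ := isConj_iff.1 hxz
      have h1 : g⁻¹ ∈ K.stab b := by rw [hstab b hbI]; trivial
      obtain ⟨F', hF', hW'⟩ := (h1 F.W).1 ⟨F, hb, rfl⟩
      have h2 : b ∈ normalizer (F'.W : Set G) := F'.A_le_normalizer_W (F'.V2_le hF')
      rw [hW'] at h2
      refine mem_normalizer_of_conj_mem fun y hy => ?_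
      obtain ⟨y', hy', hyy⟩ := conj_mem_of_mem h2 ⟨y, hy, rfl⟩
      simp only [MulEquiv.coe_toMonoidHom, MulAut.conj_apply, inv_inv] at hyy
      have e : g * b * g⁻¹ * y * (g * b * g⁻¹)⁻¹ = y' := by
        calc g * b * g⁻¹ * y * (g * b * g⁻¹)⁻¹ = g * (b * (g⁻¹ * y * g) * b⁻¹) * g⁻¹ := by group
          _ = g * (g⁻¹ * y' * g) * g⁻¹ := by rw [hyy]
          _ = y' := by group
      rw [e]; exact hy'
    have hbot : F.W ⊓ normalClosure ({b} : Set G) = ⊥ :=
      eq_bot_of_normalized_odd K.hO inf_le_right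
        (CoprimeAction.le_normalizer_inf hN Subgroup.le_normalizer)
        (odd_card_of_le inf_le_left (K.W_spec F).1)
    have hbN : b ∈ normalClosure ({b} : Set G) := Subgroup.subset_normalClosure rfl
    refine commute_of_commutator (Subgroup.mem_bot.1 (hbot.le (Subgroup.mem_inf.2 ⟨?_, ?_⟩)))
    · rw [show ⁅w, b⁆ = w * (b * w⁻¹ * b⁻¹) by simp [commutatorElement_def, mul_assoc]]
      exact mul_mem hw (conj_mem_of_mem (hN hbN) (inv_mem hw))
    · rw [commutatorElement_def]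
      exact mul_mem (Subgroup.normalClosure_normal.conj_mem b hbN w) (inv_mem hbN)
  obtain ⟨c, a0, b0, ha0, hb0, h0, h0', hc, hc', -⟩ := K.exists_pair ha hb
  obtain ⟨F, hFa, hFb⟩ := K.exists_frame ha hb0 h0'
  have hcA : c ∈ F.A := hc' ▸ mul_mem (F.V1_le hFa) (F.V2_le hFb)
  have hc1 : c ≠ 1 := fun h => ha.2.2 (K.eq_one_of_both ha.1 (by
    have e : a = b0 := by
      rw [hc'] at h
      rw [← inv_of_sq hb0.2.1]; exact eq_inv_of_mul_eq_one_left h
    rw [e]; exact hb0.1))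
  set X := centralizer ({c} : Set G) with hXdef
  have hX : X ≠ ⊤ := K.ctr_ne_top F hcA hc1
  have haX : a ∈ X := mem_centralizer_singleton.2 (hc' ▸ (Commute.refl a).mul_right h0')
  have hbX : b ∈ X := mem_centralizer_singleton.2 (hc ▸ (h0.symm.mul_right (Commute.refl b)))
  have hr0 := K.hsub X hX a ha.1 b hb.1 haX hbX
  have hAn : F.A ≤ normalizer (coreIn X : Set G) :=
    (F.A_le_centralizer hcA).trans (le_normalizer_coreIn X)
  haveI := F.A_isComm
  have hcen : coreIn X ≤ centralizer ({a} : Set G) := by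
    refine CoprimeExtra.le_of_cyclic_quotient_centralizers hAn
      (coprime_two_group F.A_isPGroup (odd_coreIn X)) fun B hB hcyc k hk => ?_
    have hkB : ∀ z ∈ B, Commute k z := fun z hz => (Subgroup.mem_centralizer_iff.1 hk.2 z hz).symm
    refine mem_centralizer_singleton.2 ?_
    by_cases haB : a ∈ B
    · exact hkB a haB
    have hkc : Commute k c := commute_of_mem_R hk.1
    by_cases hbB : b0 ∈ B
    · have e : a = c * b0 := by rw [hc', mul_assoc, hb0.2.1, mul_one]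
      rw [e]; exact hkc.mul_right (hkB b0 hbB)
    obtain ⟨v0, hv0, hv01, hv0B⟩ := F.exists_mem_inf1
      (fun p hp q hq => coprime_cyclic_cases (fun _ h => F.A_sq h) hcyc hp hq)
    have hab : a * b0 ∈ B :=
      coprime_cyclic_cases (fun _ h => F.A_sq h) hcyc (F.V1_le hFa) (F.V2_le hFb) haB hbB
    have hodd : Odd (orderOf ⁅k, a⁆) := by
      refine odd_orderOf_of_mem (odd_coreIn X) ?_
      rw [show ⁅k, a⁆ = k * (a * k⁻¹ * a⁻¹) by simp [commutatorElement_def, mul_assoc]]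
      exact mul_mem hk.1 (conj_mem_of_mem (hAn (F.V1_le hFa)) (inv_mem hk.1))
    obtain ⟨hw, hinv⟩ := K.mixed F hodd hv0 hv01 hFa hFb (hkB v0 hv0B) (hkB _ hab)
    have h1 := hcent F b0 hFb _ hw
    rw [← h1.eq, mul_inv_cancel_right] at hinv
    exact commute_of_commutator (eq_one_of_sq_of_odd hodd (by
      nth_rewrite 1 [hinv]; exact inv_mul_cancel _))
  have h2 : Commute ⁅a, b⁆ a := mem_centralizer_singleton.1 (hcen hr0)
  have h3 : a * ⁅a, b⁆ * a⁻¹ = ⁅a, b⁆⁻¹ := by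
    rw [commutatorElement_inv, commutatorElement_def, commutatorElement_def, inv_of_sq ha.2.1,
      inv_of_sq hb.2.1]
    simp only [← mul_assoc, ha.2.1, one_mul]
  rw [← h2.eq, mul_inv_cancel_right] at h3
  exact commute_of_commutator (eq_one_of_sq_of_odd (odd_orderOf_of_mem (odd_coreIn X) hr0) (by
    nth_rewrite 1 [h3]; exact inv_mul_cancel _))

end Ctx

end Cfsg.Agent.ProductFusion68
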