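import Cfsg.Agent.Lib.BlockLatticeBound31

/-!
Principal minors of an integral scaled projection: the identity with the minors of an integral
basis of the kernel, the coordinates at a base, and a lower bound for the number of bases.
-/

set_option autoImplicit false

namespace Cfsg.Agent.ProjMinors42

open Matrix Finset

attribute [local instance] Classical.propDecidable

variable {ι : Type*} [Fintype ι]

/-- An integral symmetric matrix `C` with `C * C = q • C` and trace `q * l`. -/
structure Scaled (C : ι → ι → ℤ) (q l : ℕ) : Prop where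
  qpos : 0 < q
  symm : ∀ i j, C i j = C j i
  sq : ∀ i j, ∑ k, C i k * C k j = (q : ℤ) * C i j
  trace : ∑ i, C i i = (q : ℤ) * l

/-- The projection. -/
noncomputable def Pm (C : ι → ι → ℤ) (q : ℕ) : Matrix ι ι ℝ :=
  Matrix.of fun i j => (C i j : ℝ) / q

/-- The principal minor of `C`. -/
noncomputable def minor (C : ι → ι → ℤ) (s : Finset ι) : ℤ :=
  (Matrix.of fun a b : s => C a b).det

/-- The principal submatrix of the projection. -/
noncomputable def Ps (C : ι → ι → ℤ) (q : ℕ) (s : Finset ι) : Matrix s s ℝ :=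
  Matrix.of fun a b : s => (C a b : ℝ) / q

variable {C : ι → ι → ℤ} {q l : ℕ}

theorem Scaled.qR (h : Scaled C q l) : (q : ℝ) ≠ 0 := Nat.cast_ne_zero.2 h.qpos.ne'

theorem Scaled.idem (h : Scaled C q l) : Pm C q * Pm C q = Pm C q := by
  ext i j
  rw [Matrix.mul_apply]
  simp only [Pm, Matrix.of_apply]
  have h1 : ∑ k, (C i k : ℝ) * C k j = (q : ℝ) * C i j := by exact_mod_cast h.sq i j
  calc ∑ k, (C i k : ℝ) / q * ((C k j : ℝ) / q) = (∑ k, (C i k : ℝ) * C k j) / q / q := by
        rw [Finset.sum_div, Finset.sum_div]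
        exact Finset.sum_congr rfl fun k _ => by ring
    _ = _ := by
        rw [h1]
        have := h.qR
        field_simp

theorem Scaled.transpose (h : Scaled C q l) : (Pm C q)ᵀ = Pm C q := by
  ext i j
  simp only [Matrix.transpose_apply, Pm, Matrix.of_apply, h.symm i j]

theorem Scaled.traceP (h : Scaled C q l) : (Pm C q).trace = (l : ℝ) := by
  have h1 : ∑ i, (C i i : ℝ) = (q : ℝ) * l := by exact_mod_cast h.trace
  simp only [Matrix.trace, Matrix.diag, Pm, Matrix.of_apply]
  rw [← Finset.sum_div, h1]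
  have := h.qR
  field_simp

/-- A symmetric projection below another of the same trace is equal to it. -/
theorem proj_eq {P R : Matrix ι ι ℝ} (hP : P * P = P) (hPt : Pᵀ = P) (hR : R * R = R) (hRt : Rᵀ = R)
    (hPR : P * R = R) (htr : P.trace = R.trace) : R = P := by
  have hRP : R * P = R := by
    have := congrArg Matrix.transpose hPR
    rwa [Matrix.transpose_mul, hPt, hRt] at this
  have hD : (P - R)ᵀ * (P - R) = P - R := by
    rw [Matrix.transpose_sub, hPt, hRt, Matrix.sub_mul, Matrix.mul_sub, Matrix.mul_sub, hP, hR, hPR, hRP]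
    abel
  have h0 : ((P - R)ᴴ * (P - R)).trace = 0 := by
    rw [Matrix.conjTranspose_eq_transpose_of_trivial, hD, Matrix.trace_sub, htr, sub_self]
  exact (sub_eq_zero.1 (Matrix.trace_conjTranspose_mul_self_eq_zero_iff.1 h0)).symm

theorem det_Ps (h : Scaled C q l) (s : Finset ι) :
    (minor C s : ℝ) = (q : ℝ) ^ s.card * (Ps C q s).det := by
  rw [← Fintype.card_coe s, ← Matrix.det_smul, minor]
  rw [show ((Matrix.det (Matrix.of fun a b : s => C a b) : ℤ) : ℝ) =
    ((Matrix.of fun a b : s => C a b).map (Int.cast : ℤ → ℝ)).det from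
      (Int.castRingHom ℝ).map_det _]
  congr 1
  ext a b
  have := h.qR
  simp only [Matrix.map_apply, Matrix.of_apply, Ps, Matrix.smul_apply, smul_eq_mul]
  field_simp

/-! ### Kernel bases -/

/-- A principal minor against the Gram determinant of an integral basis of the kernel. -/
theorem minor_mul_gram (h : Scaled C q l) {κ : Type*} [Fintype κ] [DecidableEq κ]
    (V : Matrix ι κ ℤ) (hV : ∀ i t, ∑ j, C i j * V j t = 0) (hG : (Vᵀ * V).det ≠ 0)
    (hcard : Fintype.card κ + l = Fintype.card ι) (s : Finset ι) (hs : s.card = l) :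
    ∃ z : ℤ, minor C s * (Vᵀ * V).det = (q : ℤ) ^ l * z ^ 2 := by
  set W : Matrix ι κ ℝ := V.map (Int.cast : ℤ → ℝ) with hW
  set K := Wᵀ * W with hK
  have hKd : K.det = ((Vᵀ * V).det : ℝ) := by
    rw [hK, hW, ← Matrix.transpose_map]
    rw [show ((Vᵀ * V).det : ℝ) = ((Vᵀ * V).map (Int.cast : ℤ → ℝ)).det from
      (Int.castRingHom ℝ).map_det _]
    congr 1
    exact (Matrix.map_mul (f := Int.castRingHom ℝ)).symm
  have hK0 : K.det ≠ 0 := by rw [hKd]; exact_mod_cast hG
  have hKu : IsUnit K.det := isUnit_iff_ne_zero.2 hK0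
  set R := W * K⁻¹ * Wᵀ with hR
  have hKt : Kᵀ = K := by rw [hK, Matrix.transpose_mul, Matrix.transpose_transpose]
  have hWR : Wᵀ * R = Wᵀ := by
    rw [hR, ← Matrix.mul_assoc, ← Matrix.mul_assoc, ← hK, Matrix.mul_nonsing_inv _ hKu, Matrix.one_mul]
  have hR2 : R * R = R := by
    calc R * R = W * K⁻¹ * (Wᵀ * R) := by rw [hR]; simp only [Matrix.mul_assoc]
      _ = R := by rw [hWR, hR]
  have hRt : Rᵀ = R := by
    rw [hR, Matrix.transpose_mul, Matrix.transpose_mul, Matrix.transpose_transpose,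
      Matrix.transpose_nonsing_inv, hKt, Matrix.mul_assoc]
  have hPW : Pm C q * W = 0 := by
    ext i t
    rw [Matrix.mul_apply, Matrix.zero_apply]
    have h1 : ∑ j, (C i j : ℝ) * (V j t : ℝ) = 0 := by exact_mod_cast hV i t
    calc ∑ j, Pm C q i j * W j t = (∑ j, (C i j : ℝ) * (V j t : ℝ)) / q := by
          rw [Finset.sum_div]
          exact Finset.sum_congr rfl fun j _ => by
            simp only [Pm, hW, Matrix.of_apply, Matrix.map_apply]; ring
      _ = 0 := by rw [h1, zero_div]
  have htr : R.trace = (Fintype.card κ : ℝ) := by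
    rw [hR, Matrix.trace_mul_comm, ← Matrix.mul_assoc, ← hK, Matrix.mul_nonsing_inv _ hKu,
      Matrix.trace_one]
  have hRP : R = 1 - Pm C q := by
    refine proj_eq ?_ ?_ hR2 hRt ?_ ?_
    · rw [Matrix.sub_mul, Matrix.mul_sub, Matrix.mul_sub, Matrix.one_mul, Matrix.one_mul, Matrix.mul_one,
        h.idem, sub_self, sub_zero]
    · rw [Matrix.transpose_sub, Matrix.transpose_one, h.transpose]
    · rw [Matrix.sub_mul, Matrix.one_mul, hR, ← Matrix.mul_assoc, ← Matrix.mul_assoc, hPW,
        Matrix.zero_mul, Matrix.zero_mul, sub_zero]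
    · rw [Matrix.trace_sub, Matrix.trace_one, h.traceP, htr, ← hcard]
      push_cast
      ring
  set Ws : Matrix s κ ℝ := Matrix.of fun a t => W a t
  set Wc : Matrix ↥sᶜ κ ℝ := Matrix.of fun a t => W a t
  have hsplit : K = Wsᵀ * Ws + Wcᵀ * Wc := by
    ext t t'
    simp only [hK, Matrix.add_apply, Matrix.mul_apply, Matrix.transpose_apply, Ws, Wc,
      Matrix.of_apply]
    rw [Finset.sum_coe_sort s (fun i => W i t * W i t'),
      Finset.sum_coe_sort sᶜ (fun i => W i t * W i t'), Finset.sum_add_sum_compl]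
  have hsub : Ps C q s = 1 - Ws * (K⁻¹ * Wsᵀ) := by
    ext a b
    have hab := congrFun (congrFun hRP (a : ι)) (b : ι)
    rw [hR, Matrix.mul_assoc, Matrix.mul_apply, Matrix.sub_apply, Matrix.one_apply] at hab
    simp only [Pm, Matrix.of_apply] at hab
    have e : (Ws * (K⁻¹ * Wsᵀ)) a b = ∑ t, W (a : ι) t * (K⁻¹ * Wᵀ) t (b : ι) := by
      rw [Matrix.mul_apply]
      refine Finset.sum_congr rfl fun t _ => ?_
      simp only [Ws, Matrix.of_apply, Matrix.mul_apply, Matrix.transpose_apply]
    rw [Matrix.sub_apply, Matrix.one_apply, e, hab, if_congr (Subtype.ext_iff (a1 := a) (a2 := b)) rfl rfl]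
    simp only [Ps, Matrix.of_apply]
    split_ifs <;> ring
  have hdet : (Ps C q s).det * K.det = (Wcᵀ * Wc).det := by
    rw [hsub, Matrix.det_one_sub_mul_comm, mul_comm, ← Matrix.det_mul, Matrix.mul_sub, Matrix.mul_one,
      ← Matrix.mul_assoc, ← Matrix.mul_assoc, Matrix.mul_nonsing_inv _ hKu, Matrix.one_mul, hsplit]
    congr 1
    abel
  have hcc : Fintype.card κ = Fintype.card ↥sᶜ := by
    rw [Fintype.card_coe, Finset.card_compl, hs]
    omega
  set e := Fintype.equivOfCardEq hcc
  refine ⟨(Matrix.of fun a b : κ => V (e a : ι) b).det, ?_⟩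
  apply Int.cast_injective (α := ℝ)
  rw [Int.cast_mul, Int.cast_mul, Int.cast_pow, Int.cast_pow, Int.cast_natCast]
  rw [det_Ps h, hs, mul_assoc, ← hKd, hdet, pow_two,
    show (((Matrix.of fun a b : κ => V (e a : ι) b).det : ℤ) : ℝ) =
      ((Matrix.of fun a b : κ => V (e a : ι) b).map (Int.cast : ℤ → ℝ)).det from
      (Int.castRingHom ℝ).map_det _]
  congr 1
  set X : Matrix κ κ ℝ := (Matrix.of fun a b : κ => V (e a : ι) b).map (Int.cast : ℤ → ℝ)
  rw [show Wcᵀ * Wc = Xᵀ * X from ?_, Matrix.det_mul, Matrix.det_transpose]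
  ext t t'
  rw [Matrix.mul_apply, Matrix.mul_apply]
  exact (Equiv.sum_comp e (fun a => Wcᵀ t a * Wc a t')).symm

theorem dvd_of_squarefree_dvd_sq {a x : ℕ} (ha : Squarefree a) (h : a ∣ x ^ 2) : a ∣ x :=
  (ha.dvd_pow_iff_dvd two_ne_zero).1 h

/-- The scaled principal minors: they add up to `q` and are perfect squares. -/
theorem exists_squares (h : Scaled C q l) (hl : 1 ≤ l) {p d : ℕ} (hp : p.Prime) (hq : q = p ^ d)
    {κ : Type*} [Fintype κ] [DecidableEq κ]
    (V : Matrix ι κ ℤ) (hV : ∀ i t, ∑ j, C i j * V j t = 0) (w : ℤ)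
    (hG : (Vᵀ * V).det = (q : ℤ) * w) (hw : ¬ (p : ℤ) ∣ w)
    (hcard : Fintype.card κ + l = Fintype.card ι) :
    ∃ N : Finset ι → ℕ, (∀ s ∈ univ.powersetCard l, minor C s = (q : ℤ) ^ (l - 1) * (N s : ℤ) ^ 2) ∧
      ∑ s ∈ univ.powersetCard l, N s ^ 2 = q := by
  have hqz : (q : ℤ) ≠ 0 := by exact_mod_cast h.qpos.ne'
  have hw0 : w ≠ 0 := fun e => hw (e ▸ dvd_zero _)
  have hG0 : (Vᵀ * V).det ≠ 0 := by rw [hG]; exact mul_ne_zero hqz hw0
  have key : ∀ s ∈ univ.powersetCard l, ∃ N : ℤ,
      minor C s = (q : ℤ) ^ (l - 1) * N ∧ ∃ z : ℤ, N * w = z ^ 2 := by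
    intro s hs
    obtain ⟨z, hz⟩ := minor_mul_gram h V hV hG0 hcard s (Finset.mem_powersetCard.1 hs).2
    rw [hG, show (q : ℤ) ^ l = (q : ℤ) ^ (l - 1) * q by rw [← pow_succ, Nat.sub_add_cancel hl]] at hz
    have h2 : minor C s * w = (q : ℤ) ^ (l - 1) * z ^ 2 := mul_right_cancel₀ hqz (by linear_combination hz)
    have hcop : IsCoprime ((q : ℤ) ^ (l - 1)) w := by
      refine IsCoprime.pow_left ?_
      rw [hq, Nat.cast_pow]
      exact IsCoprime.pow_left ((Nat.prime_iff_prime_int.1 hp).coprime_iff_not_dvd.2 hw)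
    obtain ⟨N, hN⟩ := hcop.dvd_of_dvd_mul_right (y := minor C s) ⟨z ^ 2, h2⟩
    refine ⟨N, hN, z, mul_left_cancel₀ (pow_ne_zero (l - 1) hqz) ?_⟩
    rw [← h2, hN]; ring
  choose! N hN z hz using key
  obtain ⟨r, hr, hsum⟩ := BlockLatticeBound31.exists_rank_sum_minors (Pm C q) h.idem
  have hrl : r = l := by exact_mod_cast hr.trans h.traceP
  subst hrl
  have hsumN : ∑ s ∈ univ.powersetCard r, N s = (q : ℤ) := by
    refine mul_left_cancel₀ (pow_ne_zero (r - 1) hqz) ?_
    rw [Finset.mul_sum, Finset.sum_congr rfl fun s hs => (hN s hs).symm, ← pow_succ,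
      Nat.sub_add_cancel hl]
    apply Int.cast_injective (α := ℝ)
    push_cast
    rw [Finset.sum_congr rfl fun s hs => det_Ps h s]
    calc _ = ∑ s ∈ univ.powersetCard r, (q : ℝ) ^ r *
          ((Pm C q).submatrix (Subtype.val : s → ι) (Subtype.val : s → ι)).det :=
          Finset.sum_congr rfl fun s hs => by rw [(Finset.mem_powersetCard.1 hs).2]; rfl
      _ = _ := by rw [← Finset.mul_sum, hsum, mul_one]
  have hwpos : 0 < w := by
    by_contra hneg
    have : ∑ s ∈ univ.powersetCard r, N s ≤ 0 := Finset.sum_nonpos fun s hs => by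
      by_contra hN0
      have := hz s hs
      nlinarith [sq_nonneg (z s), not_le.1 hN0, lt_of_le_of_ne (not_lt.1 hneg) hw0]
    have := h.qpos
    omega
  obtain ⟨a, b, hab, ha⟩ := Nat.sq_mul_squarefree w.toNat
  have hwab : w = (b : ℤ) ^ 2 * a := by
    have h1 := Int.toNat_of_nonneg hwpos.le
    rw [← hab] at h1
    push_cast at h1
    exact h1.symm
  have hb0 : (b : ℤ) ≠ 0 := fun e => hw0 (by rw [hwab, e]; ring)
  have key2 : ∀ s ∈ univ.powersetCard r, ∃ y : ℕ, N s = (a : ℤ) * (y : ℤ) ^ 2 := by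
    intro s hs
    have h1 := hz s hs
    rw [hwab] at h1
    have hbz : (b : ℤ) ∣ z s := (Int.pow_dvd_pow_iff two_ne_zero).1 ⟨a * N s, by rw [← h1]; ring⟩
    obtain ⟨x, hx⟩ := hbz
    have h2 : N s * a = x ^ 2 := mul_left_cancel₀ (pow_ne_zero 2 hb0) (by rw [hx] at h1; linear_combination h1)
    have h3 : a ∣ x.natAbs := dvd_of_squarefree_dvd_sq ha (by
      have h3' : (a : ℤ) ∣ x ^ 2 := ⟨N s, by rw [← h2]; ring⟩
      rw [← Int.natAbs_pow]
      exact Int.natCast_dvd.1 h3')
    obtain ⟨y, hy⟩ := h3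
    have ha0 : (a : ℤ) ≠ 0 := by exact_mod_cast ha.ne_zero
    refine ⟨y, mul_right_cancel₀ ha0 ?_⟩
    rw [h2, ← Int.natAbs_sq, hy]
    push_cast
    ring
  choose! y hy using key2
  have haq : a ∣ q := by
    have : (a : ℤ) ∣ (q : ℤ) := hsumN ▸ Finset.dvd_sum fun s hs => ⟨_, hy s hs⟩
    exact_mod_cast this
  have ha1 : a = 1 := by
    obtain ⟨i, -, hi⟩ := (Nat.dvd_prime_pow hp).1 (hq ▸ haq)
    rcases Nat.eq_zero_or_pos i with h0 | h0
    · rw [hi, h0, pow_zero]
    · refine absurd (show (p : ℤ) ∣ w from ?_) hw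
      rw [hwab, hi, Nat.cast_pow]
      exact Dvd.dvd.mul_left (dvd_pow_self _ h0.ne') _
  refine ⟨y, fun s hs => ?_, ?_⟩
  · rw [hN s hs, hy s hs, ha1, Nat.cast_one, one_mul]
  · apply Int.natCast_inj.1
    push_cast
    rw [← hsumN]
    exact Finset.sum_congr rfl fun s hs => by rw [hy s hs, ha1, Nat.cast_one, one_mul]

/-! ### Coordinates at a base -/

/-- The coordinates of the rows at a base `s₀`. -/
noncomputable def coord (C : ι → ι → ℤ) (q : ℕ) (s₀ : Finset ι) : Matrix ι s₀ ℝ :=
  (Matrix.of fun i (a : s₀) => (C i a : ℝ) / q) * (Ps C q s₀)⁻¹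

variable {s₀ : Finset ι}

theorem isUnit_Ps (h : Scaled C q l) (h₀ : minor C s₀ ≠ 0) : IsUnit (Ps C q s₀).det := by
  refine isUnit_iff_ne_zero.2 fun e => h₀ ?_
  have h1 := det_Ps h s₀
  rw [e, mul_zero] at h1
  exact_mod_cast h1

theorem coord_self (h : Scaled C q l) (h₀ : minor C s₀ ≠ 0) (a b : s₀) :
    coord C q s₀ a b = if a = b then 1 else 0 := by
  have h1 := congrFun (congrFun (Matrix.mul_nonsing_inv _ (isUnit_Ps h h₀)) a) b
  rwa [Matrix.one_apply] at h1

theorem Ps_transpose (h : Scaled C q l) : (Ps C q s₀)ᵀ = Ps C q s₀ := by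
  ext a b
  simp only [Matrix.transpose_apply, Ps, Matrix.of_apply, h.symm (a : ι) b]

/-- The matrix factors through the coordinates. -/
theorem Pm_eq (h : Scaled C q l) (h₀ : minor C s₀ ≠ 0) (hs : s₀.card = l) :
    Pm C q = coord C q s₀ * Ps C q s₀ * (coord C q s₀)ᵀ := by
  set Pc : Matrix ι s₀ ℝ := Matrix.of fun i (a : s₀) => (C i a : ℝ) / q
  set U := Ps C q s₀
  have hU := isUnit_Ps h h₀
  have hTU : coord C q s₀ * U = Pc := by
    show Pc * U⁻¹ * U = Pc
    rw [Matrix.mul_assoc, Matrix.nonsing_inv_mul _ hU, Matrix.mul_one]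
  set R := Pc * U⁻¹ * Pcᵀ with hR
  have hPP : Pcᵀ * Pc = U := by
    ext a b
    have h1 := congrFun (congrFun h.idem (a : ι)) (b : ι)
    rw [Matrix.mul_apply] at h1
    simp only [Pm, Matrix.of_apply] at h1
    rw [Matrix.mul_apply]
    simp only [U, Ps, Pc, Matrix.transpose_apply, Matrix.of_apply]
    rw [← h1]
    exact Finset.sum_congr rfl fun k _ => by rw [h.symm (a : ι) k]
  have hP : Pm C q * Pc = Pc := by
    ext i a
    exact congrFun (congrFun h.idem i) (a : ι)
  have hR2 : R * R = R := by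
    calc R * R = Pc * U⁻¹ * (Pcᵀ * Pc) * (U⁻¹ * Pcᵀ) := by rw [hR]; simp only [Matrix.mul_assoc]
      _ = R := by
        rw [hPP, hR, Matrix.mul_assoc Pc, Matrix.nonsing_inv_mul _ hU, Matrix.mul_one, Matrix.mul_assoc]
  have hRt : Rᵀ = R := by
    rw [hR, Matrix.transpose_mul, Matrix.transpose_mul, Matrix.transpose_transpose,
      Matrix.transpose_nonsing_inv, Ps_transpose h, Matrix.mul_assoc]
  have htr : R.trace = (l : ℝ) := by
    rw [hR, Matrix.trace_mul_comm, ← Matrix.mul_assoc, hPP, Matrix.mul_nonsing_inv _ hU, Matrix.trace_one,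
      Fintype.card_coe, hs]
  have heq : R = Pm C q := proj_eq h.idem h.transpose hR2 hRt
    (by rw [hR, ← Matrix.mul_assoc, ← Matrix.mul_assoc, hP]) (by rw [h.traceP, htr])
  rw [hTU, ← heq, hR]
  show _ = Pc * (Pc * U⁻¹)ᵀ
  rw [Matrix.transpose_mul, Matrix.transpose_nonsing_inv, Ps_transpose h, Matrix.mul_assoc]

/-- The minor at another set. -/
theorem minor_eq (h : Scaled C q l) (h₀ : minor C s₀ ≠ 0) (hs₀ : s₀.card = l) {s : Finset ι}
    (e : s₀ ≃ s) : (minor C s : ℝ) =
      (Matrix.of fun a b : s₀ => coord C q s₀ (e a) b).det ^ 2 * minor C s₀ := by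
  have hs : s.card = l := by rw [← hs₀, ← Fintype.card_coe s, ← Fintype.card_congr e, Fintype.card_coe]
  set X : Matrix s₀ s₀ ℝ := Matrix.of fun a b : s₀ => coord C q s₀ (e a) b
  rw [det_Ps h, det_Ps h, hs, hs₀, ← Matrix.det_submatrix_equiv_self e,
    show (Ps C q s).submatrix e e = X * Ps C q s₀ * Xᵀ from ?_, Matrix.det_mul, Matrix.det_mul,
    Matrix.det_transpose]
  · ring
  · ext a b
    exact congrFun (congrFun (Pm_eq h h₀ hs₀) (e a : ι)) (e b : ι)

/-- Some row meets both sides of each division of the base. -/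
theorem exists_mixed (h : Scaled C q l) (h₀ : minor C s₀ ≠ 0) (hs₀ : s₀.card = l)
    (hdiag : ∀ i, C i i ≠ 0) {φ : ι} (hφ : ∀ j, C φ j ≠ 0) (J : Set s₀) (hJ : J.Nonempty)
    (hJc : Jᶜ.Nonempty) :
    ∃ i, ∃ a ∈ J, ∃ b ∉ J, coord C q s₀ i a ≠ 0 ∧ coord C q s₀ i b ≠ 0 := by
  by_contra hno
  push Not at hno
  have hP := Pm_eq h h₀ hs₀
  have hU := isUnit_Ps h h₀
  set K := (coord C q s₀)ᵀ * coord C q s₀ with hK
  have hUKU : (Ps C q s₀) * K * (Ps C q s₀) = (Ps C q s₀) := by
    have hid := h.idem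
    rw [hP] at hid
    ext a b
    have h1 := congrFun (congrFun hid (a : ι)) (b : ι)
    have hrow : ∀ (X : Matrix s₀ s₀ ℝ) (a b : s₀), ((coord C q s₀) * X * (coord C q s₀)ᵀ) (a : ι) (b : ι) = X a b := by
      intro X a b
      rw [Matrix.mul_apply, Finset.sum_eq_single b]
      · rw [Matrix.transpose_apply, show (coord C q s₀) (b : ι) b = _ from coord_self h h₀ b b, if_pos rfl, mul_one,
          Matrix.mul_apply, Finset.sum_eq_single a]
        · rw [show (coord C q s₀) (a : ι) a = _ from coord_self h h₀ a a, if_pos rfl, one_mul]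
        · intro c _ hc
          rw [show (coord C q s₀) (a : ι) c = _ from coord_self h h₀ a c, if_neg (Ne.symm hc), zero_mul]
        · simp
      · intro c _ hc
        rw [Matrix.transpose_apply, show (coord C q s₀) (b : ι) c = _ from coord_self h h₀ b c, if_neg (Ne.symm hc),
          mul_zero]
      · simp
    rw [show (coord C q s₀) * (Ps C q s₀) * (coord C q s₀)ᵀ * ((coord C q s₀) * (Ps C q s₀) * (coord C q s₀)ᵀ) = (coord C q s₀) * ((Ps C q s₀) * K * (Ps C q s₀)) * (coord C q s₀)ᵀ by simp only [hK, Matrix.mul_assoc],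
      hrow, hrow] at h1
    exact h1
  have hKU : K * (Ps C q s₀) = 1 := by
    calc K * (Ps C q s₀) = (Ps C q s₀)⁻¹ * (Ps C q s₀) * (K * (Ps C q s₀)) := by rw [Matrix.nonsing_inv_mul _ hU, Matrix.one_mul]
      _ = (Ps C q s₀)⁻¹ * ((Ps C q s₀) * K * (Ps C q s₀)) := by simp only [Matrix.mul_assoc]
      _ = 1 := by rw [hUKU, Matrix.nonsing_inv_mul _ hU]
  have hUK : (Ps C q s₀) * K = 1 := mul_eq_one_comm.1 hKU
  set Pr : Matrix s₀ s₀ ℝ := Matrix.diagonal fun a => if a ∈ J then 1 else 0
  have hKP : K * Pr = Pr * K := by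
    ext a b
    rw [Matrix.mul_diagonal, Matrix.diagonal_mul]
    by_cases hK0 : K a b = 0
    · rw [hK0, zero_mul, mul_zero]
    have hab : (a ∈ J ↔ b ∈ J) := by
      rw [hK, Matrix.mul_apply] at hK0
      obtain ⟨i, -, hi⟩ := Finset.exists_ne_zero_of_sum_ne_zero hK0
      rw [Matrix.transpose_apply] at hi
      obtain ⟨h1, h2⟩ := mul_ne_zero_iff.1 hi
      exact ⟨fun ha => by_contra fun hb => h2 (hno i a ha b hb h1),
        fun hb => by_contra fun ha => h1 (hno i b hb a ha h2)⟩
    rw [if_congr hab rfl rfl, mul_comm]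
  have hUP : (Ps C q s₀) * Pr = Pr * (Ps C q s₀) := by
    calc (Ps C q s₀) * Pr = (Ps C q s₀) * Pr * (K * (Ps C q s₀)) := by rw [hKU, Matrix.mul_one]
      _ = (Ps C q s₀) * (K * Pr) * (Ps C q s₀) := by rw [hKP]; simp only [Matrix.mul_assoc]
      _ = _ := by rw [← Matrix.mul_assoc, hUK, Matrix.one_mul]
  have hU0 : ∀ a ∈ J, ∀ b ∉ J, (Ps C q s₀) a b = 0 := by
    intro a ha b hb
    have h1 := congrFun (congrFun hUP a) b
    rw [Matrix.mul_diagonal, Matrix.diagonal_mul, if_pos ha, if_neg hb, one_mul, mul_zero] at h1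
    exact h1.symm
  -- the sides
  have hside : ∀ i, ∃ a, (coord C q s₀) i a ≠ 0 := by
    intro i
    by_contra hi
    push Not at hi
    refine hdiag i ?_
    have h1 := congrFun (congrFun hP i) i
    rw [Matrix.mul_apply, Finset.sum_eq_zero fun a _ => by rw [Matrix.transpose_apply, hi a, mul_zero]] at h1
    simp only [Pm, Matrix.of_apply, div_eq_zero_iff, Int.cast_eq_zero, h.qR, or_false] at h1
    exact h1
  have hcross : ∀ i j, (∃ a ∈ J, (coord C q s₀) i a ≠ 0) → (∃ b ∉ J, (coord C q s₀) j b ≠ 0) → C i j = 0 := by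
    rintro i j ⟨a₀, ha₀, hia₀⟩ ⟨b₀, hb₀, hjb₀⟩
    have hi : ∀ a ∉ J, (coord C q s₀) i a = 0 := fun a ha => hno i a₀ ha₀ a ha hia₀
    have hj : ∀ b ∈ J, (coord C q s₀) j b = 0 := fun b hb => by_contra fun hne => hjb₀ (hno j b hb b₀ hb₀ hne)
    have h1 := congrFun (congrFun hP i) j
    rw [Matrix.mul_apply, Finset.sum_eq_zero fun b _ => ?_] at h1
    · simp only [Pm, Matrix.of_apply, div_eq_zero_iff, Int.cast_eq_zero, h.qR, or_false] at h1
      exact h1
    · rw [Matrix.transpose_apply]
      by_cases hb : b ∈ J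
      · rw [hj b hb, mul_zero]
      · rw [Matrix.mul_apply, Finset.sum_eq_zero fun a _ => ?_, zero_mul]
        by_cases ha : a ∈ J
        · rw [hU0 a ha b hb, mul_zero]
        · rw [hi a ha, zero_mul]
  obtain ⟨a, ha⟩ := hJ
  obtain ⟨b, hb⟩ := hJc
  have hTa : ∀ a : s₀, (coord C q s₀) (a : ι) a ≠ 0 := fun a => by rw [coord_self h h₀, if_pos rfl]; exact one_ne_zero
  obtain ⟨c, hc⟩ := hside φ
  by_cases hcJ : c ∈ J
  · exact hφ b (hcross φ b ⟨c, hcJ, hc⟩ ⟨b, hb, hTa b⟩)
  · exact hφ a (by rw [h.symm]; exact hcross a φ ⟨a, ha, hTa a⟩ ⟨c, hcJ, hc⟩)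

/-! ### Counting bases -/

/-- Chains of length `r` from the row `i` to the column `a`. -/
def Chain {α β : Type*} (T : α → β → ℝ) (i : α) (a : β) (r : ℕ) : Prop :=
  ∃ (f : ℕ → α) (g : ℕ → β), f 0 = i ∧ g r = a ∧ (∀ x ≤ r, T (f x) (g x) ≠ 0) ∧
    ∀ x < r, T (f (x + 1)) (g x) ≠ 0

/-- A shortest chain spans a triangular minor which determines its ends. -/
theorem exists_chain_set {α β : Type*} (T : α → β → ℝ) (i : α) (a : β) (hex : ∃ r, Chain T i a r) :
    ∃ (r : ℕ) (f : ℕ → α) (g : ℕ → β), f 0 = i ∧ g r = a ∧ (∀ x ≤ r, T (f x) (g x) ≠ 0) ∧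
      (∀ x < r, T (f (x + 1)) (g x) ≠ 0) ∧
      ∀ x ≤ r, ∀ y ≤ r, T (f x) (g y) ≠ 0 → y = x ∨ y + 1 = x := by
  obtain ⟨f, g, hf, hg, h1, h2⟩ := Nat.find_spec hex
  set r := Nat.find hex
  refine ⟨r, f, g, hf, hg, h1, h2, fun x hx y hy hxy => ?_⟩
  by_contra hne
  push Not at hne
  rcases lt_or_gt_of_ne hne.1 with hlt | hlt
  · -- a jump backwards
    have hd : y + 2 ≤ x := by omega
    refine Nat.find_min hex (show r - (x - y - 1) < r by omega)
      ⟨fun z => if z ≤ y then f z else f (z + (x - y - 1)),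
        fun z => if z ≤ y then g z else g (z + (x - y - 1)), ?_, ?_, ?_, ?_⟩
    · simp [hf]
    · show (if r - (x - y - 1) ≤ y then _ else _) = a
      rw [if_neg (by omega), Nat.sub_add_cancel (by omega), hg]
    · intro z hz
      dsimp only
      split_ifs with hzy
      · exact h1 z (by omega)
      · exact h1 _ (by omega)
    · intro z hz
      dsimp only
      by_cases hzy : z + 1 ≤ y
      · rw [if_pos hzy, if_pos (by omega)]
        exact h2 z (by omega)
      · rw [if_neg hzy]
        by_cases hzy' : z ≤ y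
        · obtain rfl : z = y := by omega
          rw [if_pos le_rfl, show z + 1 + (x - z - 1) = x by omega]
          exact hxy
        · rw [if_neg hzy', show z + 1 + (x - y - 1) = z + (x - y - 1) + 1 by omega]
          exact h2 _ (by omega)
  · -- a jump forwards
    refine Nat.find_min hex (show r - (y - x) < r by omega)
      ⟨fun z => if z ≤ x then f z else f (z + (y - x)),
        fun z => if z < x then g z else g (z + (y - x)), ?_, ?_, ?_, ?_⟩
    · simp [hf]
    · show (if r - (y - x) < x then _ else _) = a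
      rw [if_neg (by omega), Nat.sub_add_cancel (by omega), hg]
    · intro z hz
      dsimp only
      rcases lt_trichotomy z x with hzx | hzx | hzx
      · rw [if_pos hzx.le, if_pos hzx]
        exact h1 z (by omega)
      · subst hzx
        rw [if_pos le_rfl, if_neg (lt_irrefl _), show z + (y - z) = y by omega]
        exact hxy
      · rw [if_neg (by omega), if_neg (by omega)]
        exact h1 _ (by omega)
    · intro z hz
      dsimp only
      by_cases hzx : z < x
      · rw [if_pos (by omega), if_pos hzx]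
        exact h2 z (by omega)
      · rw [if_neg (by omega), if_neg hzx, show z + 1 + (y - x) = z + (y - x) + 1 by omega]
        exact h2 _ (by omega)

/-- There are at least `l (k - l) + 1` bases. -/
theorem card_bases (h : Scaled C q l) (h₀ : minor C s₀ ≠ 0) (hs₀ : s₀.card = l)
    (hdiag : ∀ i, C i i ≠ 0) {φ : ι} (hφ : ∀ j, C φ j ≠ 0) :
    (Fintype.card ι - l) * l + 1 ≤
      ((univ.powersetCard l).filter fun s => minor C s ≠ 0).card := by
  set T := coord C q s₀
  set T' : ↥s₀ᶜ → ↥s₀ → ℝ := fun i a => T i a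
  -- every column is reached from every row
  have hreach : ∀ i a, ∃ r, Chain T' i a r := by
    intro i
    set J : Set s₀ := {a | ∃ r, Chain T' i a r}
    by_contra hne
    push Not at hne
    obtain ⟨b₀, hb₀⟩ := hne
    have hi : ∃ a, T (i : ι) a ≠ 0 := by
      by_contra hi
      push Not at hi
      refine hdiag i ?_
      have h1 := congrFun (congrFun (Pm_eq h h₀ hs₀) (i : ι)) (i : ι)
      rw [Matrix.mul_apply, Finset.sum_eq_zero fun a _ => by
        rw [Matrix.transpose_apply, show coord C q s₀ (i : ι) a = 0 from hi a, mul_zero]] at h1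
      simp only [Pm, Matrix.of_apply, div_eq_zero_iff, Int.cast_eq_zero, h.qR, or_false] at h1
      exact h1
    obtain ⟨a, ha⟩ := hi
    obtain ⟨j, x, hx, b, hb, hjx, hjb⟩ := exists_mixed h h₀ hs₀ hdiag hφ J
      ⟨a, 0, fun _ => i, fun _ => a, rfl, rfl, fun _ _ => ha, fun x hx => absurd hx (Nat.not_lt_zero x)⟩
      ⟨b₀, fun ⟨r, hr⟩ => hb₀ r hr⟩
    have hj : j ∈ s₀ᶜ := by
      refine Finset.mem_compl.2 fun hj => hb ?_
      have h1 : coord C q s₀ j x ≠ 0 := hjx
      have h2 : coord C q s₀ j b ≠ 0 := hjb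
      rw [show j = ((⟨j, hj⟩ : s₀) : ι) from rfl, coord_self h h₀, ne_eq, ite_eq_right_iff] at h1 h2
      rw [show b = x from (not_not.1 fun e => h2 fun e' => absurd e' e).symm.trans
        (not_not.1 fun e => h1 fun e' => absurd e' e)]
      exact hx
    obtain ⟨r, f, g, hf, hg, h1, h2⟩ := hx
    refine hb ⟨r + 1, fun z => if z ≤ r then f z else ⟨j, hj⟩, fun z => if z ≤ r then g z else b,
      by simp [hf], by simp, fun z hz => ?_, fun z hz => ?_⟩
    · dsimp only
      split_ifs with hzr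
      · exact h1 z hzr
      · exact hjb
    · dsimp only
      rw [if_pos (show z ≤ r by omega)]
      split_ifs with hzr
      · exact h2 z hzr
      · obtain rfl : z = r := by omega
        rw [hg]
        exact hjx
  choose r f g hf hg h1 h2 hsh using fun w : ↥s₀ᶜ × ↥s₀ => exists_chain_set T' w.1 w.2 (hreach w.1 w.2)
  -- injectivity of chains
  have hfinj : ∀ w, ∀ x ≤ r w, ∀ y ≤ r w, f w x = f w y → x = y := by
    intro w x hx y hy hxy
    have e1 := hsh w x hx y hy (by rw [hxy]; exact h1 w y hy)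
    have e2 := hsh w y hy x hx (by rw [← hxy]; exact h1 w x hx)
    omega
  have hginj : ∀ w, ∀ x ≤ r w, ∀ y ≤ r w, g w x = g w y → x = y := by
    intro w x hx y hy hxy
    have e1 := hsh w x hx y hy (by rw [← hxy]; exact h1 w x hx)
    have e2 := hsh w y hy x hx (by rw [hxy]; exact h1 w y hy)
    omega
  set A : ↥s₀ᶜ × ↥s₀ → Finset ι := fun w => (Finset.range (r w + 1)).image fun x => (f w x : ι)
  set D : ↥s₀ᶜ × ↥s₀ → Finset ι := fun w => (Finset.range (r w + 1)).image fun x => (g w x : ι)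
  set S : ↥s₀ᶜ × ↥s₀ → Finset ι := fun w => (s₀ \ D w) ∪ A w
  have hAc : ∀ w, A w ⊆ s₀ᶜ := fun w i hi => by
    obtain ⟨x, -, rfl⟩ := Finset.mem_image.1 hi
    exact (f w x).2
  have hDs : ∀ w, D w ⊆ s₀ := fun w i hi => by
    obtain ⟨x, -, rfl⟩ := Finset.mem_image.1 hi
    exact (g w x).2
  have hAS : ∀ w, S w \ s₀ = A w := fun w => by
    ext i
    have : i ∈ A w → i ∉ s₀ := fun hi => Finset.mem_compl.1 (hAc w hi)
    simp only [S, Finset.mem_sdiff, Finset.mem_union]
    tauto
  have hDS : ∀ w, s₀ \ S w = D w := fun w => by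
    ext i
    have : i ∈ A w → i ∉ s₀ := fun hi => Finset.mem_compl.1 (hAc w hi)
    have : i ∈ D w → i ∈ s₀ := fun hi => hDs w hi
    simp only [S, Finset.mem_sdiff, Finset.mem_union]
    tauto
  have hA : ∀ w, (A w).card = r w + 1 := fun w => by
    rw [Finset.card_image_of_injOn, Finset.card_range]
    intro x hx y hy hxy
    exact hfinj w x (by simpa [Nat.lt_succ_iff] using hx) y (by simpa [Nat.lt_succ_iff] using hy)
      (Subtype.ext hxy)
  have hD : ∀ w, (D w).card = r w + 1 := fun w => by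
    rw [Finset.card_image_of_injOn, Finset.card_range]
    intro x hx y hy hxy
    exact hginj w x (by simpa [Nat.lt_succ_iff] using hx) y (by simpa [Nat.lt_succ_iff] using hy)
      (Subtype.ext hxy)
  have hScard : ∀ w, (S w).card = l := fun w => by
    have h3 := Finset.card_le_card (hDs w)
    rw [Finset.card_union_of_disjoint (Finset.disjoint_left.2 fun i hi hi' =>
      Finset.mem_compl.1 (hAc w hi') (Finset.mem_sdiff.1 hi).1),
      Finset.card_sdiff_of_subset (hDs w), hA, hD, hs₀]
    rw [hD, hs₀] at h3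
    omega
  have hSne : ∀ w, minor C (S w) ≠ 0 := by
    intro w
    set e := Fintype.equivOfCardEq (show Fintype.card ↥s₀ = Fintype.card ↥(S w) by
      rw [Fintype.card_coe, Fintype.card_coe, hs₀, hScard])
    intro h0
    have h3 := minor_eq h h₀ hs₀ e
    rw [h0, Int.cast_zero, eq_comm, mul_eq_zero] at h3
    rcases h3 with h3 | h3
    · rw [pow_eq_zero_iff two_ne_zero] at h3
      obtain ⟨v, hv0, hv⟩ := Matrix.exists_mulVec_eq_zero_iff.2 h3
      refine hv0 (funext fun b => ?_)
      have hrow : ∀ i ∈ S w, ∑ c, coord C q s₀ i c * v c = 0 := by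
        intro i hi
        have h4 := congrFun hv (e.symm ⟨i, hi⟩)
        simpa [Matrix.mulVec, dotProduct] using h4
      have houter : ∀ b : s₀, (b : ι) ∉ D w → v b = 0 := by
        intro b hb
        have h4 := hrow b (Finset.mem_union.2 (Or.inl (Finset.mem_sdiff.2 ⟨b.2, hb⟩)))
        rw [Finset.sum_eq_single b] at h4
        · rwa [coord_self h h₀, if_pos rfl, one_mul] at h4
        · intro c _ hc; rw [coord_self h h₀, if_neg (Ne.symm hc), zero_mul]
        · simp
      have hchain : ∀ x ≤ r w, v (g w x) = 0 := by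
        intro x
        induction x using Nat.strong_induction_on with
        | _ x ih =>
          intro hx
          have h4 := hrow (f w x) (Finset.mem_union.2 (Or.inr
            (Finset.mem_image.2 ⟨x, Finset.mem_range.2 (by omega), rfl⟩)))
          rw [Finset.sum_eq_single (g w x)] at h4
          · exact (mul_eq_zero.1 h4).resolve_left (h1 w x hx)
          · intro c _ hc
            by_cases hcD : (c : ι) ∈ D w
            · obtain ⟨y, hy, hyc⟩ := Finset.mem_image.1 hcD
              obtain rfl : g w y = c := Subtype.ext hyc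
              by_cases hT0 : coord C q s₀ (f w x) (g w y) = 0
              · rw [hT0, zero_mul]
              · rcases hsh w x hx y (by simpa [Nat.lt_succ_iff] using hy) hT0 with e1 | e1
                · exact absurd (by rw [e1]) hc
                · rw [ih y (by omega) (by omega), mul_zero]
            · rw [houter c hcD, mul_zero]
          · simp
      by_cases hbD : (b : ι) ∈ D w
      · obtain ⟨y, hy, hyc⟩ := Finset.mem_image.1 hbD
        obtain rfl : g w y = b := Subtype.ext hyc
        exact hchain y (by simpa [Nat.lt_succ_iff] using hy)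
      · exact houter b hbD
    · exact h₀ (by exact_mod_cast h3)
  have hinj : ∀ w w', S w = S w' → w = w' := by
    intro w w' hww
    have eA : A w = A w' := by rw [← hAS w, ← hAS w', hww]
    have eD : D w = D w' := by rw [← hDS w, ← hDS w', hww]
    have er : r w = r w' := by
      have := congrArg Finset.card eA
      rw [hA, hA] at this
      omega
    have e0 : f w 0 = f w' 0 := by
      obtain ⟨y, hy, hyf⟩ := Finset.mem_image.1 (show (f w 0 : ι) ∈ A w' from
        eA ▸ Finset.mem_image.2 ⟨0, Finset.mem_range.2 (Nat.succ_pos _), rfl⟩)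
      have hy' : y ≤ r w' := by simpa [Nat.lt_succ_iff] using hy
      obtain rfl | hy0 := Nat.eq_zero_or_pos y
      · exact (Subtype.ext hyf).symm
      · exfalso
        have hyf' : f w' y = f w 0 := Subtype.ext hyf
        have key : ∀ z ≤ r w', T' (f w' y) (g w' z) ≠ 0 → g w' z = g w 0 := by
          intro z hz hT0
          obtain ⟨u, hu, hug⟩ := Finset.mem_image.1 (show (g w' z : ι) ∈ D w from
            eD ▸ Finset.mem_image.2 ⟨z, Finset.mem_range.2 (by omega), rfl⟩)
          have hug' : g w u = g w' z := Subtype.ext hug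
          rw [hyf', ← hug'] at hT0
          rcases hsh w 0 (Nat.zero_le _) u (by simpa [Nat.lt_succ_iff] using hu) hT0 with e1 | e1
          · rw [← hug', e1]
          · omega
        have k1 := key y hy' (h1 w' y hy')
        have k2 := key (y - 1) (by omega) (by
          have := h2 w' (y - 1) (by omega)
          rwa [Nat.sub_add_cancel hy0] at this)
        have := hginj w' y hy' (y - 1) (by omega) (k1.trans k2.symm)
        omega
    have e1 : g w (r w) = g w' (r w') := by
      obtain ⟨y, hy, hyg⟩ := Finset.mem_image.1 (show (g w (r w) : ι) ∈ D w' from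
        eD ▸ Finset.mem_image.2 ⟨r w, Finset.mem_range.2 (Nat.lt_succ_self _), rfl⟩)
      have hy' : y ≤ r w' := by simpa [Nat.lt_succ_iff] using hy
      obtain hy0 | hy0 := lt_or_eq_of_le hy'
      · exfalso
        have hyg' : g w' y = g w (r w) := Subtype.ext hyg
        have key : ∀ z ≤ r w', T' (f w' z) (g w' y) ≠ 0 → f w' z = f w (r w) := by
          intro z hz hT0
          obtain ⟨u, hu, huf⟩ := Finset.mem_image.1 (show (f w' z : ι) ∈ A w from
            eA ▸ Finset.mem_image.2 ⟨z, Finset.mem_range.2 (by omega), rfl⟩)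
          have huf' : f w u = f w' z := Subtype.ext huf
          have hu' : u ≤ r w := by simpa [Nat.lt_succ_iff] using hu
          rw [hyg', ← huf'] at hT0
          rcases hsh w u hu' (r w) le_rfl hT0 with e1 | e1
          · rw [← huf', e1]
          · omega
        have k1 := key y hy' (h1 w' y hy')
        have k2 := key (y + 1) hy0 (h2 w' y hy0)
        have := hfinj w' y hy' (y + 1) hy0 (k1.trans k2.symm)
        omega
      · rw [← hy0]
        exact (Subtype.ext hyg).symm
    rw [hf, hf] at e0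
    rw [hg, hg] at e1
    exact Prod.ext e0 e1
  have hnot : ∀ w, S w ≠ s₀ := fun w e => by
    have := hA w
    rw [← hAS w, e, Finset.sdiff_self, Finset.card_empty] at this
    omega
  calc (Fintype.card ι - l) * l + 1
      = (insert s₀ ((Finset.univ : Finset (↥s₀ᶜ × ↥s₀)).image S)).card := by
        rw [Finset.card_insert_of_notMem (by simp [hnot]),
          Finset.card_image_of_injective _ fun w w' => hinj w w', Finset.card_univ, Fintype.card_prod,
          Fintype.card_coe, Fintype.card_coe, Finset.card_compl, hs₀]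
    _ ≤ _ := Finset.card_le_card fun s hs => by
        rcases Finset.mem_insert.1 hs with rfl | hs
        · exact Finset.mem_filter.2 ⟨Finset.mem_powersetCard.2 ⟨Finset.subset_univ _, hs₀⟩, h₀⟩
        · obtain ⟨w, -, rfl⟩ := Finset.mem_image.1 hs
          exact Finset.mem_filter.2 ⟨Finset.mem_powersetCard.2 ⟨Finset.subset_univ _, hScard w⟩, hSne w⟩

end Cfsg.Agent.ProjMinors42
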