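import Mathlib
import Cfsg.Prelude.Def_HallClasses
import Cfsg.Agent.Lib.PSLUnipotent

set_option autoImplicit false

/-!
Pronormality of subgroups of odd index: reduction to the normaliser of a Sylow 2-subgroup, and the case of
overgroups of the unitriangular group in `SL(n, F)`, which are normalised by every diagonal matrix.
-/

namespace Cfsg.Agent.PronormalOddIndex

open Matrix
open scoped MatrixGroups

section Abstract

variable {G : Type*} [Group G] [Finite G]

lemma conj_map_map (a b : G) (H : Subgroup G) :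
    (H.map (MulAut.conj b).toMonoidHom).map (MulAut.conj a).toMonoidHom =
      H.map (MulAut.conj (a * b)).toMonoidHom := by
  rw [Subgroup.map_map]
  congr 1
  ext y
  simp [mul_assoc]

lemma conj_map_of_mem {H : Subgroup G} {h : G} (hh : h ∈ H) : H.map (MulAut.conj h).toMonoidHom = H := by
  ext y
  constructor
  · rintro ⟨z, hz, rfl⟩
    exact mul_mem (mul_mem hh hz) (inv_mem hh)
  · intro hy
    exact ⟨h⁻¹ * y * h, mul_mem (mul_mem (inv_mem hh) hy) hh, by simp [mul_assoc]⟩

/-- It suffices to treat conjugation by normalising elements of one Sylow subgroup inside. -/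
theorem pronormal_of_base (S : Sylow 2 G)
    (h : ∀ H : Subgroup G, Odd H.index → (S : Subgroup G) ≤ H →
      ∀ n ∈ Subgroup.normalizer ((S : Subgroup G) : Set G),
        ∃ y ∈ H ⊔ H.map (MulAut.conj n).toMonoidHom,
          H.map (MulAut.conj n).toMonoidHom = H.map (MulAut.conj y).toMonoidHom)
    (H : Subgroup G) (hH : Odd H.index) : Cfsg.IsPronormal H := by
  -- a conjugate of `S` lies in `H`
  obtain ⟨T⟩ := (inferInstance : Nonempty (Sylow 2 H))
  have hTG : ¬ 2 ∣ ((T : Subgroup H).map H.subtype).index := by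
    rw [Subgroup.index_map_subtype]
    intro h'
    rcases Nat.prime_two.dvd_mul.1 h' with h' | h'
    · exact T.not_dvd_index h'
    · exact Nat.not_even_iff_odd.2 hH (even_iff_two_dvd.2 h')
  let R : Sylow 2 G := (T.isPGroup'.map H.subtype).toSylow hTG
  have hR : (R : Subgroup G) ≤ H := Subgroup.map_subtype_le _
  obtain ⟨a, ha⟩ := MulAction.exists_smul_eq G S R
  set H' := H.map (MulAut.conj a⁻¹).toMonoidHom with hH'
  have hSH' : (S : Subgroup G) ≤ H' := by
    intro s hs
    refine ⟨a * s * a⁻¹, hR ?_, by simp [mul_assoc]⟩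
    rw [← ha, Sylow.coe_subgroup_smul]
    exact ⟨s, hs, rfl⟩
  have hH'i : Odd H'.index := by
    rw [hH']
    exact (Subgroup.index_map_equiv H (MulAut.conj a⁻¹)).symm ▸ hH
  intro g
  set g' := a⁻¹ * g * a with hg'
  set K := H' ⊔ H'.map (MulAut.conj g').toMonoidHom with hK
  have h1 : (S : Subgroup G) ≤ K := hSH'.trans le_sup_left
  have h2 : ((g' • S : Sylow 2 G) : Subgroup G) ≤ K := by
    rw [Sylow.coe_subgroup_smul]
    exact (Subgroup.map_mono hSH').trans le_sup_right
  obtain ⟨x, hx⟩ := MulAction.exists_smul_eq K (S.subtype h1) ((g' • S).subtype h2)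
  rw [Sylow.smul_subtype] at hx
  have hxg : (x : G) • S = g' • S := Sylow.subtype_injective hx
  have hn : (x : G)⁻¹ * g' ∈ Subgroup.normalizer ((S : Subgroup G) : Set G) := by
    change _ ∈ Subgroup.normalizer (S : Set G)
    rw [← Sylow.smul_eq_iff_mem_normalizer, mul_smul, ← hxg, inv_smul_smul]
  obtain ⟨y, hy, hye⟩ := h H' hH'i hSH' _ hn
  have hyK : y ∈ K := by
    refine (sup_le le_sup_left ?_ : H' ⊔ H'.map (MulAut.conj ((x : G)⁻¹ * g')).toMonoidHom ≤ K) hy
    rw [← conj_map_map]
    refine (Subgroup.map_mono (le_sup_right : H'.map (MulAut.conj g').toMonoidHom ≤ K)).trans ?_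
    rw [conj_map_of_mem (inv_mem x.2)]
  refine ⟨a * ((x : G) * y) * a⁻¹, ?_, ?_⟩
  · have hmem : a * ((x : G) * y) * a⁻¹ ∈ K.map (MulAut.conj a).toMonoidHom := ⟨_, mul_mem x.2 hyK, rfl⟩
    replace hmem : a * ((x : G) * y) * a⁻¹ ∈
        (H' ⊔ H'.map (MulAut.conj g').toMonoidHom).map (MulAut.conj a).toMonoidHom := hmem
    rw [Subgroup.map_sup, conj_map_map, hH', conj_map_map, conj_map_map] at hmem
    simp only [hg'] at hmem
    simpa [mul_assoc, Subgroup.map_id, show ((1 : MulAut G) : G →* G) = MonoidHom.id G from rfl] using hmem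
  · have hHa : H = H'.map (MulAut.conj a).toMonoidHom := by
      rw [hH', conj_map_map]; simp; exact (Subgroup.map_id H).symm
    have e : H'.map (MulAut.conj g').toMonoidHom = H'.map (MulAut.conj ((x : G) * y)).toMonoidHom := by
      rw [← conj_map_map (x : G) y H', ← hye, conj_map_map _ _ H', mul_inv_cancel_left]
    conv_lhs => rw [hHa, conj_map_map, show g * a = a * g' by simp [hg', mul_assoc], ← conj_map_map, e]
    rw [conj_map_map]
    conv_rhs => rw [hHa, conj_map_map]
    congr 3
    group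

/-- Pronormality passes to quotients. -/
theorem pronormal_of_quotient (N : Subgroup G) [N.Normal] (H : Subgroup (G ⧸ N))
    (h : Cfsg.IsPronormal (H.comap (QuotientGroup.mk' N))) : Cfsg.IsPronormal H := by
  intro g
  obtain ⟨g, rfl⟩ := QuotientGroup.mk'_surjective N g
  obtain ⟨x, hx, he⟩ := h g
  have hmap : (H.comap (QuotientGroup.mk' N)).map (QuotientGroup.mk' N) = H :=
    Subgroup.map_comap_eq_self_of_surjective (QuotientGroup.mk'_surjective N) H
  have hc : ∀ b : G, ((H.comap (QuotientGroup.mk' N)).map (MulAut.conj b).toMonoidHom).map (QuotientGroup.mk' N) =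
      H.map (MulAut.conj (QuotientGroup.mk' N b)).toMonoidHom := by
    intro b
    conv_rhs => rw [← hmap]
    rw [Subgroup.map_map, Subgroup.map_map]
    congr 1
  refine ⟨QuotientGroup.mk' N x, ?_, ?_⟩
  · have := Subgroup.mem_map_of_mem (QuotientGroup.mk' N) hx
    rwa [Subgroup.map_sup, hmap, hc] at this
  · rw [← hc, ← hc, he]

end Abstract

/-! ### Bruhat decomposition and overgroups of the unitriangular group -/

variable {F : Type*} [Field F] [Finite F] {n : ℕ}

open PSLUnipotent

local notation "SLn" => SpecialLinearGroup (Fin n) F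

/-- The first `k` columns have been reduced to single entries, alone in their rows. -/
def Reduced (k : ℕ) (g : Matrix (Fin n) (Fin n) F) : Prop :=
  ∀ j : Fin n, (j : ℕ) < k → ∃ r : Fin n, g r j ≠ 0 ∧ (∀ i, i ≠ r → g i j = 0) ∧ ∀ l, l ≠ j → g r l = 0

lemma reduce (k : ℕ) (hk : k ≤ n) (g : SLn) :
    ∃ u ∈ U F n, ∃ u' ∈ U F n, Reduced k (u * g * u').1 := by
  induction k with
  | zero => exact ⟨1, one_mem _, 1, one_mem _, fun j hj => absurd hj (Nat.not_lt_zero _)⟩
  | succ k ih =>
    obtain ⟨u, hu, u', hu', hred⟩ := ih (Nat.le_of_succ_le hk)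
    obtain ⟨m, hm⟩ : ∃ m, m = u * g * u' := ⟨_, rfl⟩
    rw [← hm] at hred
    let c : Fin n := ⟨k, hk⟩
    classical
    have hne : (Finset.univ.filter fun i => m.1 i c ≠ 0).Nonempty := by
      by_contra he
      rw [Finset.not_nonempty_iff_eq_empty] at he
      have := m.2
      rw [Matrix.det_eq_zero_of_column_eq_zero c fun i => ?_] at this
      · exact zero_ne_one this
      · by_contra h'
        have : i ∈ (Finset.univ.filter fun i => m.1 i c ≠ 0) := by simp [h']
        rw [he] at this
        simp at this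
    set r := (Finset.univ.filter fun i => m.1 i c ≠ 0).max' hne with hr
    have hrc : m.1 r c ≠ 0 := by
      have := Finset.max'_mem _ hne
      rw [← hr] at this
      simpa using this
    have hbelow : ∀ i, r < i → m.1 i c = 0 := by
      intro i hi
      by_contra h'
      exact absurd (Finset.le_max' _ i (by simp [h'])) (not_le.2 hi)
    let a : Fin n → F := fun i => if i < r then -(m.1 i c / m.1 r c) else 0
    let b : Fin n → F := fun l => if c < l then -(m.1 r l / m.1 r c) else 0
    let A : Matrix (Fin n) (Fin n) F := fun i l => (1 : Matrix (Fin n) (Fin n) F) i l + if l = r then a i else 0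
    let B : Matrix (Fin n) (Fin n) F := fun i l => (1 : Matrix (Fin n) (Fin n) F) i l + if i = c then b l else 0
    have hA : IsUnitri A := ⟨fun i => by simp only [A, a]; split_ifs with h1 h2 <;> simp_all,
      fun i l hil => by
        simp only [A, a, Matrix.one_apply_ne hil.ne']
        split_ifs with h1 h2
        · subst h1; exact absurd h2 hil.not_gt
        all_goals simp⟩
    have hB : IsUnitri B := ⟨fun i => by simp only [B, b]; split_ifs with h1 h2 <;> simp_all,
      fun i l hil => by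
        simp only [B, b, Matrix.one_apply_ne hil.ne']
        split_ifs with h1 h2
        · subst h1; exact absurd h2 hil.not_gt
        all_goals simp⟩
    let vA : SLn := ⟨A, isUnitri_det hA⟩
    let vB : SLn := ⟨B, isUnitri_det hB⟩
    refine ⟨vA * u, mul_mem (mem_U.2 hA) hu, u' * vB, mul_mem hu' (mem_U.2 hB), ?_⟩
    have hval : ∀ i l, (vA * u * g * (u' * vB)).1 i l =
        (m.1 i l + a i * m.1 r l) + (m.1 i c + a i * m.1 r c) * b l := by
      intro i l
      rw [show vA * u * g * (u' * vB) = (vA * m) * vB by rw [hm]; simp only [mul_assoc], cmul, Matrix.mul_apply]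
      have hAm : ∀ j, (vA * m).1 i j = m.1 i j + a i * m.1 r j := by
        intro j
        rw [cmul, Matrix.mul_apply]
        simp [vA, A, add_mul, Finset.sum_add_distrib, Matrix.one_apply]
      simp only [hAm, vB, B, mul_add, Finset.sum_add_distrib, Matrix.one_apply, mul_ite, mul_one, mul_zero,
        Finset.sum_ite_eq', Finset.mem_univ, if_true]
    have hclear : ∀ i, i ≠ r → m.1 i c + a i * m.1 r c = 0 := by
      intro i hi
      rcases lt_or_gt_of_ne hi with h | h
      · simp only [a, if_pos h]; field_simp; ring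
      · simp [a, if_neg h.not_gt, hbelow i h]
    have har : a r = 0 := by simp [a]
    intro j hj
    rcases Nat.lt_succ_iff_lt_or_eq.1 hj with hj | hj
    · obtain ⟨s, hs, hcol, hrow⟩ := hred j hj
      have hjc : j ≠ c := fun e => by simp [e, c] at hj
      have hsr : s ≠ r := fun e => hrc (e ▸ hrow c hjc.symm)
      have hbj : b j = 0 := by
        simp [b, show ¬ c < j from fun e => by simp [c, Fin.lt_def] at e; omega]
      have hrj : m.1 r j = 0 := hcol r hsr.symm
      have has : a s = 0 := by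
        simp only [a]; split_ifs
        · rw [hrow c hjc.symm, zero_div, neg_zero]
        · rfl
      refine ⟨s, ?_, fun i hi => ?_, fun l hl => ?_⟩
      · rw [hval, hbj, hrj]; simpa using hs
      · rw [hval, hbj, hrj, hcol i hi]; simp
      · rw [hval, has, hrow l hl, hrow c hjc.symm]; simp
    · obtain rfl : j = c := Fin.ext hj
      have hbc : b c = 0 := by simp [b]
      refine ⟨r, ?_, fun i hi => ?_, fun l hl => ?_⟩
      · rw [hval, hbc, har]; simpa using hrc
      · rw [hval, hbc, hclear i hi]; simp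
      · rw [hval, har]
        rcases lt_or_gt_of_ne hl with h | h
        · obtain ⟨s, hs, hcol, hrow⟩ := hred l (by simp [c, Fin.lt_def] at h; omega)
          have hsr : s ≠ r := fun e => hrc (e ▸ hrow c h.ne')
          rw [hcol r hsr.symm]
          simp [b, h.not_gt]
        · simp only [b, if_pos h]; field_simp; ring

/-- Bruhat decomposition, with a monomial middle factor which normalises the diagonal group. -/
theorem bruhat (g : SLn) :
    ∃ u ∈ U F n, ∃ u' ∈ U F n, ∃ m : SLn, g = u * m * u' ∧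
      ∀ t : SLn, (∀ i j, i ≠ j → t.1 i j = 0) → ∀ i j, i ≠ j → (m⁻¹ * t * m).1 i j = 0 := by
  obtain ⟨u, hu, u', hu', hred⟩ := reduce n le_rfl g
  obtain ⟨m, hm⟩ : ∃ m, m = u * g * u' := ⟨_, rfl⟩
  rw [← hm] at hred
  refine ⟨u⁻¹, inv_mem hu, u'⁻¹, inv_mem hu', m, by rw [hm]; group, fun t ht => ?_⟩
  choose r hr hcol hrow using fun j : Fin n => hred j j.2
  have e : t.1 * m.1 = m.1 * Matrix.diagonal fun j => t.1 (r j) (r j) := by
    ext i j
    rw [Matrix.mul_diagonal, Matrix.mul_apply, Finset.sum_eq_single (r j)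
      (fun b _ hb => by rw [hcol j b hb, mul_zero]) (by simp)]
    by_cases hi : i = r j
    · subst hi; rw [mul_comm]
    · rw [ht i (r j) hi, hcol j i hi, zero_mul, zero_mul]
  have e2 : (m⁻¹ * t * m).1 = Matrix.diagonal fun j => t.1 (r j) (r j) := by
    rw [cmul, cmul, mul_assoc, e, ← mul_assoc, ← cmul, inv_mul_cancel, cone, one_mul]
  intro i j hij
  rw [e2, Matrix.diagonal_apply_ne _ hij]

lemma conj_diag_U {t : SLn} (ht : ∀ i j, i ≠ j → t.1 i j = 0) {u : SLn} (hu : u ∈ U F n) :
    t * u * t⁻¹ ∈ U F n := by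
  have e : t.1 = Matrix.diagonal fun i => t.1 i i := by
    ext i j; by_cases h : i = j
    · subst h; simp
    · rw [Matrix.diagonal_apply_ne _ h, ht i j h]
  have hd0 : ∀ i, t.1 i i ≠ 0 := fun i h => by
    have := t.2
    rw [e, Matrix.det_diagonal] at this
    exact zero_ne_one ((Finset.prod_eq_zero (f := fun i => t.1 i i) (Finset.mem_univ i) h).symm.trans this)
  have e' : (t⁻¹).1 = Matrix.diagonal fun i => (t.1 i i)⁻¹ := by
    have h1 : t.1 * (Matrix.diagonal fun i => (t.1 i i)⁻¹) = 1 := by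
      conv_lhs => arg 1; rw [e]
      rw [Matrix.diagonal_mul_diagonal, ← Matrix.diagonal_one]
      congr 1; funext i; exact mul_inv_cancel₀ (hd0 i)
    calc (t⁻¹).1 = (t⁻¹).1 * (t.1 * Matrix.diagonal fun i => (t.1 i i)⁻¹) := by rw [h1, mul_one]
      _ = _ := by rw [← mul_assoc, ← cmul, inv_mul_cancel, cone, one_mul]
  rw [mem_U] at hu ⊢
  have hval : ∀ i j, (t * u * t⁻¹).1 i j = t.1 i i * u.1 i j * (t.1 j j)⁻¹ := by
    intro i j
    rw [cmul, cmul, e', Matrix.mul_diagonal]
    conv_lhs => arg 1; rw [e, Matrix.diagonal_mul]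
  exact ⟨fun i => by rw [hval, hu.1, mul_one, mul_inv_cancel₀ (hd0 i)],
    fun i j h => by rw [hval, hu.2 i j h, mul_zero, zero_mul]⟩

/-- An upper triangular element is a diagonal times a unitriangular one. -/
lemma diag_mul_U {g : SLn} (hg : ∀ i j, j < i → g.1 i j = 0) :
    ∃ t u : SLn, (∀ i j, i ≠ j → t.1 i j = 0) ∧ u ∈ U F n ∧ g = t * u := by
  have hd : ∏ i, g.1 i i = 1 := by
    rw [← Matrix.det_of_isUpperTriangular (fun i j h => hg i j h)]; exact g.2
  have hd0 : ∀ i, g.1 i i ≠ 0 := fun i h => by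
    exact zero_ne_one ((Finset.prod_eq_zero (f := fun i => g.1 i i) (Finset.mem_univ i) h).symm.trans hd)
  let t : SLn := ⟨Matrix.diagonal fun i => g.1 i i, by rw [Matrix.det_diagonal]; exact hd⟩
  let u : Matrix (Fin n) (Fin n) F := fun i j => (g.1 i i)⁻¹ * g.1 i j
  have hu : IsUnitri u := ⟨fun i => inv_mul_cancel₀ (hd0 i), fun i j h => by simp [u, hg i j h]⟩
  refine ⟨t, ⟨u, isUnitri_det hu⟩, fun i j h => Matrix.diagonal_apply_ne _ h, hu, Subtype.ext ?_⟩
  ext i j
  show g.1 i j = (Matrix.diagonal (fun i => g.1 i i) * u) i j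
  rw [Matrix.diagonal_mul]
  simp [u, hd0 i]

variable (p : ℕ) [hp : Fact p.Prime] [CharP F p]

include p hp in
/-- An overgroup of `U` is normalised by the normaliser of `U`. -/
theorem normalised [NeZero n] (H : Subgroup SLn) (hUH : U F n ≤ H) {g : SLn}
    (hg : g ∈ Subgroup.normalizer ((U F n : Subgroup SLn) : Set SLn)) :
    ∀ h ∈ H, g * h * g⁻¹ ∈ H := by
  have hupper : ∀ x : SLn, x ∈ Subgroup.normalizer ((U F n : Subgroup SLn) : Set SLn) →
      ∀ i j, j < i → x.1 i j = 0 := fun x hx => upper_of_conj fun u hu =>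
    ⟨x⁻¹ * u * x, (Subgroup.mem_normalizer_iff.1 hx _).2 (by simpa [mul_assoc] using hu), by group⟩
  suffices key : ∀ t : SLn, (∀ i j, i ≠ j → t.1 i j = 0) → ∀ h ∈ H, t * h * t⁻¹ ∈ H by
    obtain ⟨t, u, ht, hu, rfl⟩ := diag_mul_U (hupper g hg)
    intro h hh
    rw [show t * u * h * (t * u)⁻¹ = t * (u * h * u⁻¹) * t⁻¹ by group]
    exact key t ht _ (mul_mem (mul_mem (hUH hu) hh) (inv_mem (hUH hu)))
  intro t ht
  have conjU : ∀ h ∈ H, ∀ v ∈ U F n, t * (h * v * h⁻¹) * t⁻¹ ∈ H := by
    intro h hh v hv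
    obtain ⟨u, hu, u', hu', m, rfl, hm⟩ := bruhat h
    have hmH : m ∈ H := by
      have := mul_mem (mul_mem (inv_mem (hUH hu)) hh) (inv_mem (hUH hu'))
      simpa [mul_assoc] using this
    have hv' : u' * v * u'⁻¹ ∈ U F n := mul_mem (mul_mem hu' hv) (inv_mem hu')
    have e : t * (u * m * u' * v * (u * m * u')⁻¹) * t⁻¹ =
        (t * u * t⁻¹) * (m * ((m⁻¹ * t * m) * (u' * v * u'⁻¹) * (m⁻¹ * t * m)⁻¹) * m⁻¹) * (t * u * t⁻¹)⁻¹ := by
      group
    rw [e]
    exact mul_mem (mul_mem (hUH (conj_diag_U ht hu))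
      (mul_mem (mul_mem hmH (hUH (conj_diag_U (hm t ht) hv'))) (inv_mem hmH)))
      (inv_mem (hUH (conj_diag_U ht hu)))
  set H0 : Subgroup SLn := Subgroup.closure {x | ∃ h ∈ H, ∃ v ∈ U F n, x = h * v * h⁻¹} with hH0
  have hH0t : ∀ x ∈ H0, t * x * t⁻¹ ∈ H := by
    intro x hx
    have : x ∈ H.comap (MulAut.conj t).toMonoidHom := by
      refine (Subgroup.closure_le (H.comap (MulAut.conj t).toMonoidHom)).2 ?_ hx
      rintro _ ⟨h, hh, v, hv, rfl⟩
      exact conjU h hh v hv
    exact this
  intro h hh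
  obtain ⟨b, hb, hcard⟩ := card_SL_factor (F := F) (n := n) p
  have hUi : ¬ p ∣ (U F n : Subgroup SLn).index := by
    have := (U F n : Subgroup SLn).card_mul_index
    rw [hcard] at this
    rwa [Nat.eq_of_mul_eq_mul_left Nat.card_pos this]
  let S : Sylow p SLn := (isPGroup_U (F := F) (n := n) p).toSylow hUi
  have h1 : (S : Subgroup SLn) ≤ H0 := fun v hv =>
    Subgroup.subset_closure ⟨1, one_mem _, v, hv, by group⟩
  have h2 : ((h • S : Sylow p SLn) : Subgroup SLn) ≤ H0 := by
    rw [Sylow.coe_subgroup_smul]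
    rintro _ ⟨v, hv, rfl⟩
    exact Subgroup.subset_closure ⟨h, hh, v, hv, rfl⟩
  obtain ⟨a, ha⟩ := MulAction.exists_smul_eq H0 (S.subtype h1) ((h • S).subtype h2)
  rw [Sylow.smul_subtype] at ha
  have hah : (a : SLn)⁻¹ * h ∈ Subgroup.normalizer ((U F n : Subgroup SLn) : Set SLn) := by
    change _ ∈ Subgroup.normalizer (S : Set SLn)
    have : (a : SLn) • S = h • S := Sylow.subtype_injective ha
    rw [← Sylow.smul_eq_iff_mem_normalizer, mul_smul, ← this, inv_smul_smul]
  obtain ⟨t', u', ht', hu', he⟩ := diag_mul_U (hupper _ hah)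
  have haH : (a : SLn) ∈ H := by
    refine (Subgroup.closure_le H).2 ?_ a.2
    rintro _ ⟨k, hk, v, hv, rfl⟩
    exact mul_mem (mul_mem hk (hUH hv)) (inv_mem hk)
  have ht'H : t' ∈ H := by
    have := mul_mem (mul_mem (inv_mem haH) hh) (inv_mem (hUH hu'))
    rwa [he, mul_inv_cancel_right] at this
  have hcomm : t * t' * t⁻¹ = t' := by
    rw [mul_inv_eq_iff_eq_mul]
    refine Subtype.ext ?_
    ext i j
    rw [cmul, cmul, Matrix.mul_apply, Matrix.mul_apply,
      Finset.sum_eq_single i (fun b _ hb => by rw [ht i b hb.symm, zero_mul]) (by simp),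
      Finset.sum_eq_single i (fun b _ hb => by rw [ht' i b hb.symm, zero_mul]) (by simp)]
    by_cases hij : i = j
    · subst hij; ring
    · rw [ht i j hij, ht' i j hij, mul_zero, mul_zero]
  have e : t * h * t⁻¹ = (t * (a : SLn) * t⁻¹) * (t * t' * t⁻¹) * (t * u' * t⁻¹) := by
    rw [show h = (a : SLn) * t' * u' by rw [mul_assoc, ← he, mul_inv_cancel_left]]
    group
  rw [e, hcomm]
  exact mul_mem (mul_mem (hH0t _ a.2) ht'H) (hUH (conj_diag_U ht hu'))

/-- In characteristic two every subgroup of odd index of `SL(n, F)` is pronormal. -/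
theorem pronormal_char_two [NeZero n] [CharP F 2] (H : Subgroup SLn) (hH : Odd H.index) :
    Cfsg.IsPronormal H := by
  obtain ⟨b, hb, hcard⟩ := card_SL_factor (F := F) (n := n) 2
  have hUi : ¬ 2 ∣ (U F n : Subgroup SLn).index := by
    have := (U F n : Subgroup SLn).card_mul_index
    rw [hcard] at this
    rwa [Nat.eq_of_mul_eq_mul_left Nat.card_pos this]
  refine pronormal_of_base ((isPGroup_U (F := F) (n := n) 2).toSylow hUi) (fun K _ hK g hg => ?_) H hH
  refine ⟨1, one_mem _, ?_⟩
  have hK' : U F n ≤ K := hK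
  have hg' : g ∈ Subgroup.normalizer ((U F n : Subgroup SLn) : Set SLn) := hg
  rw [map_one]
  refine (Subgroup.eq_of_le_of_card_ge ?_ ?_).trans (Subgroup.map_id K).symm
  · rintro _ ⟨h, hh, rfl⟩
    exact normalised 2 K hK' hg' h hh
  · rw [Nat.card_congr (K.equivMapOfInjective (MulAut.conj g).toMonoidHom (MulAut.conj g).injective).toEquiv]

end Cfsg.Agent.PronormalOddIndex
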