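import Mathlib
import Cfsg.Agent.Lib.PronormalOddIndex

set_option autoImplicit false

/-!
In characteristic two, subgroups of odd index of the fixed group of an involutory automorphism of `SL(n, F)`
preserving upper and lower unitriangular and monomial matrices are pronormal.
-/

namespace Cfsg.Agent.PronormalFixedBorel

open Matrix
open scoped MatrixGroups
open PSLUnipotent

variable {F : Type*} [Field F] [Finite F] {n : ℕ}

local notation "SLn" => SpecialLinearGroup (Fin n) F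

omit [Finite F] in
/-- Monomial with a given permutation. -/
def IsMono (m : SLn) (r : Equiv.Perm (Fin n)) : Prop := ∀ i j, i ≠ r j → m.1 i j = 0

omit [Finite F] in
lemma mono_ne_zero {m : SLn} {r : Equiv.Perm (Fin n)} (hm : IsMono m r) (j : Fin n) : m.1 (r j) j ≠ 0 := fun h => by
  have := m.2
  rw [Matrix.det_eq_zero_of_column_eq_zero j fun i => if hi : i = r j then hi ▸ h else hm i j hi] at this
  exact zero_ne_one this

omit [Finite F] in
lemma mul_mono {m : SLn} {r : Equiv.Perm (Fin n)} (hm : IsMono m r) (A : SLn) (i l : Fin n) :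
    (A * m).1 i l = A.1 i (r l) * m.1 (r l) l := by
  rw [cmul, Matrix.mul_apply, Finset.sum_eq_single (r l) (fun b _ hb => by rw [hm b l hb, mul_zero]) (by simp)]

omit [Finite F] in
lemma mono_mul {m : SLn} {r : Equiv.Perm (Fin n)} (hm : IsMono m r) (A : SLn) (j l : Fin n) :
    (m * A).1 (r j) l = m.1 (r j) j * A.1 j l := by
  rw [cmul, Matrix.mul_apply, Finset.sum_eq_single j (fun b _ hb => by
    rw [hm (r j) b (fun e => hb (r.injective e).symm), zero_mul]) (by simp)]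

omit [Finite F] in
lemma conj_mono {m : SLn} {r : Equiv.Perm (Fin n)} (hm : IsMono m r) (u : SLn) (j l : Fin n) :
    (m⁻¹ * u * m).1 j l = u.1 (r j) (r l) * m.1 (r l) l / m.1 (r j) j := by
  rw [eq_div_iff (mono_ne_zero hm j), mul_comm _ (m.1 (r j) j), ← mono_mul hm, ← mul_mono hm,
    show m * (m⁻¹ * u * m) = u * m by group]

lemma exists_bruhat (g : SLn) :
    ∃ u ∈ U F n, ∃ v ∈ U F n, ∃ m : SLn, ∃ r : Equiv.Perm (Fin n), IsMono m r ∧ g = u * m * v := by
  obtain ⟨u, hu, v, hv, hred⟩ := PronormalOddIndex.reduce n le_rfl g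
  choose r hr hcol hrow using fun j : Fin n => hred j j.2
  have hinj : Function.Injective r := fun j l e => by
    by_contra h
    exact hr l (e ▸ hrow j l (Ne.symm h))
  exact ⟨u⁻¹, inv_mem hu, v⁻¹, inv_mem hv, u * g * v,
    Equiv.ofBijective r (Finite.injective_iff_bijective.1 hinj), fun i j h => hcol j i h, by group⟩

variable (F n) in
/-- The lower unitriangular subgroup. -/
def L : Subgroup SLn :=
  ofSubmonoid
    { carrier := {A | IsUnitri A.1ᵀ}
      one_mem' := by simp [cone, isUnitri_one]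
      mul_mem' := fun ha hb => by
        show IsUnitri (_ * _ : SLn).1ᵀ
        rw [cmul, Matrix.transpose_mul]
        exact isUnitri_mul hb ha }

lemma mem_L {A : SLn} : A ∈ L F n ↔ IsUnitri A.1ᵀ := Iff.rfl

lemma eq_one_of_mem_L {A : SLn} (hU : A ∈ U F n) (hL : A ∈ L F n) : A = 1 := by
  rw [mem_U] at hU; rw [mem_L] at hL
  apply Subtype.ext
  ext i j
  rcases lt_trichotomy i j with h | rfl | h
  · rw [cone, Matrix.one_apply_ne h.ne, show A.1 i j = A.1ᵀ j i from rfl, hL.2 j i h]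
  · rw [hU.1, cone, Matrix.one_apply_eq]
  · rw [cone, Matrix.one_apply_ne h.ne', hU.2 i j h]

/-- The part of `U` made lower triangular by `m`. -/
def A (m : SLn) : Subgroup SLn := U F n ⊓ (L F n).comap (MulAut.conj m⁻¹).toMonoidHom

/-- The part of `U` kept upper triangular by `m`. -/
def B (m : SLn) : Subgroup SLn := U F n ⊓ (U F n).comap (MulAut.conj m⁻¹).toMonoidHom

lemma mem_A {m u : SLn} : u ∈ A m ↔ u ∈ U F n ∧ m⁻¹ * u * m ∈ L F n := by
  simp [A, mul_assoc]

lemma mem_B {m u : SLn} : u ∈ B m ↔ u ∈ U F n ∧ m⁻¹ * u * m ∈ U F n := by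
  simp [B, mul_assoc]

/-- A unitriangular matrix as an element of `SL`. -/
def mkU (f : Fin n → Fin n → F) (h : IsUnitri (Matrix.of f)) : SLn := ⟨Matrix.of f, isUnitri_det h⟩

omit [Finite F] in
lemma mkU_val (f : Fin n → Fin n → F) (h : IsUnitri (Matrix.of f)) (i k : Fin n) :
    (mkU f h).1 i k = f i k := rfl

lemma mem_A_of {m u : SLn} {r : Equiv.Perm (Fin n)} (hm : IsMono m r) (hu : u ∈ U F n)
    (h : ∀ i k, i < k → r⁻¹ i < r⁻¹ k → u.1 i k = 0) : u ∈ A m := by
  refine mem_A.2 ⟨hu, mem_L.2 ⟨fun j => ?_, fun j l hl => ?_⟩⟩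
  · rw [Matrix.transpose_apply, conj_mono hm, (mem_U.1 hu).1, one_mul, div_self (mono_ne_zero hm j)]
  · rw [Matrix.transpose_apply, conj_mono hm]
    rcases lt_trichotomy (r l) (r j) with h' | h' | h'
    · rw [h _ _ h' (by simpa using hl), zero_mul, zero_div]
    · exact absurd (r.injective h') hl.ne
    · rw [(mem_U.1 hu).2 _ _ h', zero_mul, zero_div]

lemma mem_B_of {m u : SLn} {r : Equiv.Perm (Fin n)} (hm : IsMono m r) (hu : u ∈ U F n)
    (h : ∀ i k, i < k → r⁻¹ k < r⁻¹ i → u.1 i k = 0) : u ∈ B m := by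
  refine mem_B.2 ⟨hu, mem_U.2 ⟨fun j => ?_, fun j l hl => ?_⟩⟩
  · rw [conj_mono hm, (mem_U.1 hu).1, one_mul, div_self (mono_ne_zero hm j)]
  · rw [conj_mono hm]
    rcases lt_trichotomy (r j) (r l) with h' | h' | h'
    · rw [h _ _ h' (by simpa using hl), zero_mul, zero_div]
    · exact absurd (r.injective h') hl.ne'
    · rw [(mem_U.1 hu).2 _ _ h', zero_mul, zero_div]

lemma factor {m : SLn} {r : Equiv.Perm (Fin n)} (hm : IsMono m r) (u : SLn) (hu : u ∈ U F n) :
    ∃ a ∈ A m, ∃ b ∈ B m, u = a * b := by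
  classical
  let fa : U F n → Fin n → Fin n → F := fun w i k => if r⁻¹ i < r⁻¹ k ∧ i < k then 0 else w.1.1 i k
  let fb : U F n → Fin n → Fin n → F := fun w i k => if r⁻¹ k < r⁻¹ i ∧ i < k then 0 else w.1.1 i k
  have hfa : ∀ w, IsUnitri (Matrix.of (fa w)) := fun w =>
    ⟨fun i => by simp [fa, (mem_U.1 w.2).1], fun i k h => by simp [fa, h.not_gt, (mem_U.1 w.2).2 i k h]⟩
  have hfb : ∀ w, IsUnitri (Matrix.of (fb w)) := fun w =>
    ⟨fun i => by simp [fb, (mem_U.1 w.2).1], fun i k h => by simp [fb, h.not_gt, (mem_U.1 w.2).2 i k h]⟩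
  let pa : U F n → A m := fun w => ⟨mkU (fa w) (hfa w),
    mem_A_of hm (mem_U.2 (hfa w)) fun i k h h' => if_pos ⟨h', h⟩⟩
  let pb : U F n → B m := fun w => ⟨mkU (fb w) (hfb w),
    mem_B_of hm (mem_U.2 (hfb w)) fun i k h h' => if_pos ⟨h', h⟩⟩
  let Φ : U F n → U F n := fun w => ⟨(pa w).1 * (pb w).1, mul_mem (mem_A.1 (pa w).2).1 (mem_B.1 (pb w).2).1⟩
  have hΦ : Function.Injective Φ := by
    intro w w' e
    have e' : (pa w).1 * (pb w).1 = (pa w').1 * (pb w').1 := congrArg Subtype.val e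
    have e2 : (pa w').1⁻¹ * (pa w).1 = (pb w').1 * (pb w).1⁻¹ := by
      rw [eq_mul_inv_iff_mul_eq, mul_assoc, e', inv_mul_cancel_left]
    have hA' := mul_mem (inv_mem (pa w').2) (pa w).2
    have hB' := e2 ▸ mul_mem (pb w').2 (inv_mem (pb w).2)
    have h1 : m⁻¹ * ((pa w').1⁻¹ * (pa w).1) * m = 1 := eq_one_of_mem_L (mem_B.1 hB').2 (mem_A.1 hA').2
    have h2 : (pa w').1⁻¹ * (pa w).1 = 1 := by
      calc _ = m * (m⁻¹ * ((pa w').1⁻¹ * (pa w).1) * m) * m⁻¹ := by group
        _ = 1 := by rw [h1]; group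
    have ha : (pa w).1 = (pa w').1 := (inv_mul_eq_one.1 h2).symm
    have hb : (pb w).1 = (pb w').1 := by rw [ha] at e'; exact mul_left_cancel e'
    apply Subtype.ext
    apply Subtype.ext
    ext i k
    by_cases h : r⁻¹ i < r⁻¹ k ∧ i < k
    · have := congrFun (congrFun (congrArg Subtype.val hb) i) k
      have e3 : fb w i k = fb w' i k := this
      simp only [fb, if_neg (fun hh : r⁻¹ k < r⁻¹ i ∧ i < k => h.1.not_gt hh.1)] at e3
      exact e3
    · have := congrFun (congrFun (congrArg Subtype.val ha) i) k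
      have e3 : fa w i k = fa w' i k := this
      simp only [fa, if_neg h] at e3
      exact e3
  obtain ⟨w, hw⟩ := Finite.surjective_of_injective hΦ ⟨u, hu⟩
  exact ⟨_, (pa w).2, _, (pb w).2, (congrArg Subtype.val hw).symm⟩

/-- The Bruhat decomposition in normal form. -/
lemma bruhat_normal (g : SLn) :
    ∃ m : SLn, ∃ r : Equiv.Perm (Fin n), ∃ a ∈ A m, ∃ v ∈ U F n, IsMono m r ∧ g = a * m * v := by
  obtain ⟨u, hu, v, hv, m, r, hm, rfl⟩ := exists_bruhat g
  obtain ⟨a, ha, b, hb, rfl⟩ := factor hm u hu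
  exact ⟨m, r, a, ha, _, mul_mem (mem_B.1 hb).2 hv, hm, by group⟩

lemma mono_unique {m m' a b : SLn} {r r' : Equiv.Perm (Fin n)} (hm : IsMono m r) (hm' : IsMono m' r')
    (ha : a ∈ U F n) (hb : b ∈ U F n) (e : a * m' = m * b) : m' = m ∧ r' = r := by
  rw [mem_U] at ha hb
  have key : ∀ j, m'.1 (r' j) j = m.1 (r' j) (r⁻¹ (r' j)) * b.1 (r⁻¹ (r' j)) j := by
    intro j
    have h : (a * m').1 (r' j) j = (m * b).1 (r' j) j := by rw [e]
    rw [mul_mono hm', ha.1, one_mul] at h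
    rw [h]
    conv_lhs => arg 2; rw [show r' j = r (r⁻¹ (r' j)) by simp]
    rw [mono_mul hm]
    simp
  have hle : ∀ j, r⁻¹ (r' j) ≤ j := fun j => by
    by_contra h
    have := key j
    rw [hb.2 _ _ (not_le.1 h), mul_zero] at this
    exact mono_ne_zero hm' j this
  have hid : ∀ (k : ℕ) (j : Fin n), (j : ℕ) = k → r⁻¹ (r' j) = j := by
    intro k
    induction k using Nat.strong_induction_on with
    | _ k ih =>
      intro j hj
      rcases (hle j).lt_or_eq with h | h
      · have := ih _ (hj ▸ (Fin.lt_def.1 h)) _ rfl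
        exact absurd (r'.injective (r⁻¹.injective this)) h.ne
      · exact h
  have hrr : r' = r := Equiv.ext fun j => by
    have := congrArg r (hid _ j rfl)
    simpa using this
  refine ⟨?_, hrr⟩
  subst hrr
  apply Subtype.ext
  ext i j
  by_cases h : i = r' j
  · subst h
    rw [key j, hid _ j rfl, hb.1, mul_one]
  · rw [hm' i j h, hm i j h]

section Fixed

variable (θ : SpecialLinearGroup (Fin n) F ≃* SpecialLinearGroup (Fin n) F)

/-- The fixed subgroup. -/
def fix : Subgroup SLn where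
  carrier := {g | θ g = g}
  one_mem' := map_one θ
  mul_mem' := fun {a b} (ha : θ a = a) (hb : θ b = b) => show θ (a * b) = a * b by rw [map_mul, ha, hb]
  inv_mem' := fun {a} (ha : θ a = a) => show θ a⁻¹ = a⁻¹ by rw [map_inv, ha]

lemma mem_fix {g : SLn} : g ∈ fix θ ↔ θ g = g := Iff.rfl

variable (hθ : ∀ g : SpecialLinearGroup (Fin n) F, θ (θ g) = g) (hU : ∀ u ∈ U F n, θ u ∈ U F n) (hL : ∀ u ∈ L F n, θ u ∈ L F n)
  (hmono : ∀ (m : SpecialLinearGroup (Fin n) F) (r : Equiv.Perm (Fin n)), IsMono m r → ∃ r', IsMono (θ m) r')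

include hU hL hmono

lemma bruhat_fixed {g : SLn} (hg : g ∈ fix θ) :
    ∃ m : SLn, ∃ r : Equiv.Perm (Fin n), ∃ a ∈ A m, ∃ v ∈ U F n,
      IsMono m r ∧ g = a * m * v ∧ θ a = a ∧ θ m = m ∧ θ v = v := by
  obtain ⟨m, r, a, ha, v, hv, hm, rfl⟩ := bruhat_normal g
  obtain ⟨r', hm'⟩ := hmono m r hm
  rw [mem_fix, map_mul, map_mul] at hg
  have haU := (mem_A.1 ha).1
  have hθm : θ m = m := (mono_unique hm hm' (mul_mem (inv_mem haU) (hU a haU)) (mul_mem hv (inv_mem (hU v hv)))
    (by rw [show a⁻¹ * θ a * θ m = a⁻¹ * (θ a * θ m * θ v) * (θ v)⁻¹ by group, hg]; group)).1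
  rw [hθm] at hg
  have hA : θ a ∈ A m := by
    refine mem_A.2 ⟨hU a haU, ?_⟩
    have := hL _ (mem_A.1 ha).2
    rwa [map_mul, map_mul, map_inv, hθm] at this
  have h1 : m⁻¹ * (a⁻¹ * θ a) * m ∈ L F n := (mem_A.1 (mul_mem (inv_mem ha) hA)).2
  have h2 : m⁻¹ * (a⁻¹ * θ a) * m = v * (θ v)⁻¹ := by
    rw [show m⁻¹ * (a⁻¹ * θ a) * m = m⁻¹ * a⁻¹ * (θ a * m * θ v) * (θ v)⁻¹ by group, hg]
    group
  have h3 : v * (θ v)⁻¹ = 1 := eq_one_of_mem_L (mul_mem hv (inv_mem (hU v hv))) (h2 ▸ h1)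
  rw [h3] at h2
  have hv' : θ v = v := (mul_inv_eq_one.1 h3).symm
  refine ⟨m, r, a, ha, v, hv, hm, rfl, ?_, hθm, hv'⟩
  rw [hv'] at hg
  exact mul_right_cancel (mul_right_cancel hg)

include hθ

/-- Normalisers of the fixed unitriangular group consist of upper triangular matrices. -/
lemma upper_of_normalize [CharP F 2] {g : SLn} (hg : g ∈ fix θ)
    (hgU : ∀ u ∈ U F n, θ u = u → g⁻¹ * u * g ∈ U F n) : ∀ i j, j < i → g.1 i j = 0 := by
  classical
  obtain ⟨m, r, a, ha, v, hv, hm, rfl, haθ, hmθ, hvθ⟩ := bruhat_fixed θ hU hL hmono hg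
  have hr : r = 1 := by
    by_contra hr
    obtain ⟨i, k, hik, hik'⟩ : ∃ i k, i < k ∧ r⁻¹ k < r⁻¹ i := by
      by_contra h
      push Not at h
      have hmon : StrictMono (r⁻¹ : Equiv.Perm (Fin n)) := fun i k hik =>
        lt_of_le_of_ne (h i k hik) fun e => hik.ne (r⁻¹.injective e)
      have : (r⁻¹ : Equiv.Perm (Fin n)) = 1 := Equiv.ext fun x => by
        have := (Subsingleton.elim (hmon.orderIsoOfSurjective _ (r⁻¹).surjective) (OrderIso.refl (Fin n)))
        exact DFunLike.congr_fun this x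
      exact hr (inv_eq_one.1 this)
    let fw : Fin n → Fin n → F := fun x y => if x = y ∨ (x = i ∧ y = k) then 1 else 0
    have hfw : IsUnitri (Matrix.of fw) := ⟨fun x => by simp [fw], fun x y h => by
      have : ¬ (x = y ∨ (x = i ∧ y = k)) := by
        rintro (rfl | ⟨rfl, rfl⟩)
        · exact lt_irrefl _ h
        · exact h.not_gt hik
      simp [fw, this]⟩
    let w : SLn := mkU fw hfw
    have hw : w ∈ A m := mem_A_of hm (mem_U.2 hfw) fun x y h h' => if_neg (by
      rintro (rfl | ⟨rfl, rfl⟩)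
      · exact lt_irrefl _ h
      · exact h'.not_gt hik')
    have hA2 : 2 ∣ Nat.card (A m) := by
      haveI : Fact (Nat.Prime 2) := ⟨Nat.prime_two⟩
      obtain ⟨e, he⟩ :=
        ((isPGroup_U (F := F) (n := n) 2).to_le (fun x hx => (mem_A.1 hx).1 : A m ≤ _)).exists_card_eq
      rw [he]
      refine dvd_pow_self 2 fun h0 => ?_
      rw [h0, pow_zero, Subgroup.card_eq_one] at he
      have : w = 1 := Subgroup.mem_bot.1 (he ▸ hw)
      have h1 : w.1 i k = (1 : SLn).1 i k := by rw [this]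
      rw [show w.1 i k = 1 from if_pos (Or.inr ⟨rfl, rfl⟩), cone, Matrix.one_apply_ne hik.ne] at h1
      exact one_ne_zero h1
    let f : A m → A m := fun x => ⟨θ x, mem_A.2 ⟨hU _ (mem_A.1 x.2).1, by
      have := hL _ (mem_A.1 x.2).2
      rwa [map_mul, map_mul, map_inv, hmθ] at this⟩⟩
    let σ : Equiv.Perm (A m) := ⟨f, f, fun x => Subtype.ext (hθ x), fun x => Subtype.ext (hθ x)⟩
    haveI : Fact (Nat.Prime 2) := ⟨Nat.prime_two⟩
    haveI : Fintype (A m) := Fintype.ofFinite _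
    obtain ⟨u, hu, hu1⟩ := Equiv.Perm.exists_fixed_point_of_prime' (p := 2) (n := 1)
      (by rwa [← Nat.card_eq_fintype_card]) (σ := σ) (Equiv.ext fun x => Subtype.ext (hθ x))
      (a := 1) (Subtype.ext (map_one θ))
    have huθ : θ u.1 = u.1 := congrArg Subtype.val hu
    apply hu1
    -- conjugates stay upper triangular
    have hu2 : a * u.1 * a⁻¹ ∈ U F n := mul_mem (mul_mem (mem_A.1 ha).1 (mem_A.1 u.2).1) (inv_mem (mem_A.1 ha).1)
    have h3 := hgU _ hu2 (by rw [map_mul, map_mul, map_inv, haθ, huθ])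
    have h4 : m⁻¹ * u.1 * m ∈ U F n := by
      have := mul_mem (mul_mem hv h3) (inv_mem hv)
      rwa [show v * ((a * m * v)⁻¹ * (a * u.1 * a⁻¹) * (a * m * v)) * v⁻¹ = m⁻¹ * u.1 * m by group] at this
    have h5 := eq_one_of_mem_L h4 (mem_A.1 u.2).2
    apply Subtype.ext
    calc u.1 = m * (m⁻¹ * u.1 * m) * m⁻¹ := by group
      _ = 1 := by rw [h5]; group
  subst hr
  intro i j hij
  have ha' := mem_U.1 (mem_A.1 ha).1
  rw [cmul, Matrix.mul_apply]
  refine Finset.sum_eq_zero fun k _ => ?_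
  rcases lt_or_ge j k with h | h
  · rw [(mem_U.1 hv).2 k j h, mul_zero]
  · rw [mul_mono hm, Equiv.Perm.one_apply, ha'.2 i k (lt_of_le_of_lt h hij), zero_mul, zero_mul]

/-- The diagonal part of a fixed upper triangular element is fixed. -/
lemma diag_fixed {g : SpecialLinearGroup (Fin n) F} (hg : g ∈ fix θ) (hup : ∀ i j, j < i → g.1 i j = 0) :
    ∃ t u : SpecialLinearGroup (Fin n) F,
      (∀ i j, i ≠ j → t.1 i j = 0) ∧ u ∈ U F n ∧ g = t * u ∧ θ t = t ∧ θ u = u := by
  obtain ⟨t, u, ht, hu, rfl⟩ := PronormalOddIndex.diag_mul_U hup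
  have hm : IsMono t 1 := fun i j h => ht i j h
  obtain ⟨r', hm'⟩ := hmono t 1 hm
  rw [mem_fix, map_mul] at hg
  have h := mono_unique hm hm' (one_mem _) (mul_mem hu (inv_mem (hU u hu)))
    (show 1 * θ t = t * (u * (θ u)⁻¹) by rw [one_mul, ← mul_assoc, eq_mul_inv_iff_mul_eq]; exact hg)
  refine ⟨t, u, ht, hu, rfl, h.1, ?_⟩
  rw [h.1] at hg
  exact mul_left_cancel hg

/-- In characteristic two every subgroup of odd index of the fixed group is pronormal. -/
theorem pronormal_fixed [CharP F 2] (H : Subgroup (fix θ)) (hH : Odd H.index) : Cfsg.IsPronormal H := by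
  classical
  haveI : Fact (Nat.Prime 2) := ⟨Nat.prime_two⟩
  let U' : Subgroup (fix θ) := (U F n).comap (fix θ).subtype
  have hp : IsPGroup 2 U' := (isPGroup_U (F := F) (n := n) 2).comap_of_injective _ Subtype.val_injective
  have hupper : ∀ x : fix θ, (∀ u ∈ U', x⁻¹ * u * x ∈ U') → ∀ i j, j < i → x.1.1 i j = 0 := fun x hx =>
    upper_of_normalize θ hθ hU hL hmono x.2 fun u hu huθ => hx ⟨u, huθ⟩ hu
  have hnorm : ∀ x : fix θ, x ∈ Subgroup.normalizer (U' : Set (fix θ)) → ∀ u ∈ U', x⁻¹ * u * x ∈ U' :=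
    fun x hx u hu => (Subgroup.mem_normalizer_iff.1 hx _).2 (by simpa [mul_assoc] using hu)
  obtain ⟨S, hS⟩ := hp.exists_le_sylow
  have hSU : (S : Subgroup (fix θ)) = U' := by
    refine le_antisymm ?_ hS
    by_contra hnle
    haveI : Group.IsNilpotent (S : Subgroup (fix θ)) := S.isPGroup'.isNilpotent
    have hlt : U'.subgroupOf (S : Subgroup (fix θ)) < ⊤ := lt_top_iff_ne_top.2 fun e =>
      hnle (Subgroup.subgroupOf_eq_top.1 e)
    obtain ⟨x, hx, hxU⟩ := SetLike.exists_of_lt (normalizerCondition_of_isNilpotent _ hlt)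
    have hxN : ∀ u ∈ U', (x : fix θ)⁻¹ * u * x ∈ U' := fun u hu => by
      have := (Subgroup.mem_normalizer_iff.1 (inv_mem hx) ⟨u, hS hu⟩).1 hu
      simpa [Subgroup.mem_subgroupOf] using this
    have hup := hupper x hxN
    obtain ⟨t, u, ht, hu, e⟩ := PronormalOddIndex.diag_mul_U hup
    obtain ⟨k, hk⟩ := S.isPGroup' x
    have hk' : ((x : fix θ) : SLn) ^ 2 ^ k = 1 := by
      have := congrArg (fun z : (S : Subgroup (fix θ)) => ((z : fix θ) : SLn)) hk
      simpa using this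
    have hdiag : ∀ m : ℕ, (∀ i j, j < i → (((x : fix θ) : SLn) ^ m).1 i j = 0) ∧
        ∀ i, (((x : fix θ) : SLn) ^ m).1 i i = (x : fix θ).1.1 i i ^ m := by
      intro m
      induction m with
      | zero => exact ⟨fun i j h => Matrix.one_apply_ne h.ne', fun i => by simp⟩
      | succ m ih =>
        refine ⟨fun i j h => ?_, fun i => ?_⟩
        · rw [pow_succ, cmul, Matrix.mul_apply]
          refine Finset.sum_eq_zero fun l _ => ?_
          rcases lt_or_ge j l with h' | h'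
          · rw [hup l j h', mul_zero]
          · rw [ih.1 i l (lt_of_le_of_lt h' h), zero_mul]
        · rw [pow_succ, cmul, Matrix.mul_apply, Finset.sum_eq_single i (fun l _ hl => ?_) (by simp), ih.2, pow_succ]
          rcases lt_or_gt_of_ne hl with h' | h'
          · rw [ih.1 i l h', zero_mul]
          · rw [hup l i h', mul_zero]
    apply hxU
    rw [Subgroup.mem_subgroupOf, Subgroup.mem_comap]
    refine mem_U.2 ⟨fun i => ?_, hup⟩
    have h1 := (hdiag (2 ^ k)).2 i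
    rw [hk', cone, Matrix.one_apply_eq] at h1
    have h2 : ((x : fix θ).1.1 i i - 1) ^ 2 ^ k = 0 := by rw [sub_pow_char_pow, one_pow, ← h1, sub_self]
    exact sub_eq_zero.1 ((pow_eq_zero_iff (pow_ne_zero k two_ne_zero)).1 h2)
  refine PronormalOddIndex.pronormal_of_base S (fun K _ hK g hg => ?_) H hH
  rw [hSU] at hK hg
  refine ⟨1, one_mem _, ?_⟩
  -- diagonal elements
  have key : ∀ t : fix θ, (∀ i j, i ≠ j → t.1.1 i j = 0) → ∀ h ∈ K, t * h * t⁻¹ ∈ K := by
    intro t ht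
    have hdU : ∀ u ∈ U', t * u * t⁻¹ ∈ U' := fun u hu => PronormalOddIndex.conj_diag_U ht hu
    have conjU : ∀ h ∈ K, ∀ v ∈ U', t * (h * v * h⁻¹) * t⁻¹ ∈ K := by
      intro h hh v hv
      obtain ⟨m, r, a, ha, v', hv', hm, he, haθ, hmθ, hvθ⟩ := bruhat_fixed θ hU hL hmono h.2
      let a' : fix θ := ⟨a, haθ⟩
      let m' : fix θ := ⟨m, hmθ⟩
      let w' : fix θ := ⟨v', hvθ⟩
      have haU : a' ∈ U' := (mem_A.1 ha).1
      have hwU : w' ∈ U' := hv'
      obtain rfl : h = a' * m' * w' := Subtype.ext he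
      have hmK : m' ∈ K := by
        have := mul_mem (mul_mem (inv_mem (hK haU)) hh) (inv_mem (hK hwU))
        simpa [mul_assoc] using this
      have hdm : ∀ i j, i ≠ j → (m'⁻¹ * t * m').1.1 i j = 0 := fun i j hij => by
        show (m⁻¹ * t.1 * m).1 i j = 0
        rw [conj_mono hm, ht _ _ (fun e => hij (r.injective e)), zero_mul, zero_div]
      have e : t * (a' * m' * w' * v * (a' * m' * w')⁻¹) * t⁻¹ = (t * a' * t⁻¹) *
          (m' * ((m'⁻¹ * t * m') * (w' * v * w'⁻¹) * (m'⁻¹ * t * m')⁻¹) * m'⁻¹) * (t * a' * t⁻¹)⁻¹ := by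
        group
      rw [e]
      exact mul_mem (mul_mem (hK (hdU _ haU)) (mul_mem (mul_mem hmK (hK
        (PronormalOddIndex.conj_diag_U hdm (mul_mem (mul_mem hwU hv) (inv_mem hwU))))) (inv_mem hmK)))
        (inv_mem (hK (hdU _ haU)))
    set K0 : Subgroup (fix θ) := Subgroup.closure {x | ∃ h ∈ K, ∃ v ∈ U', x = h * v * h⁻¹} with hK0
    have hK0t : ∀ x ∈ K0, t * x * t⁻¹ ∈ K := by
      intro x hx
      have : x ∈ K.comap (MulAut.conj t).toMonoidHom := by
        refine (Subgroup.closure_le (K.comap (MulAut.conj t).toMonoidHom)).2 ?_ hx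
        rintro _ ⟨h, hh, v, hv, rfl⟩
        exact conjU h hh v hv
      exact this
    intro h hh
    have h1 : (S : Subgroup (fix θ)) ≤ K0 := fun v hv =>
      Subgroup.subset_closure ⟨1, one_mem _, v, hSU ▸ hv, by group⟩
    have h2 : ((h • S : Sylow 2 (fix θ)) : Subgroup (fix θ)) ≤ K0 := by
      rw [Sylow.coe_subgroup_smul]
      rintro _ ⟨v, hv, rfl⟩
      exact Subgroup.subset_closure ⟨h, hh, v, hSU ▸ hv, rfl⟩
    obtain ⟨b, hb⟩ := MulAction.exists_smul_eq K0 (S.subtype h1) ((h • S).subtype h2)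
    rw [Sylow.smul_subtype] at hb
    have hbh : (b : fix θ)⁻¹ * h ∈ Subgroup.normalizer (U' : Set (fix θ)) := by
      rw [← hSU]
      change _ ∈ Subgroup.normalizer (S : Set (fix θ))
      have : (b : fix θ) • S = h • S := Sylow.subtype_injective hb
      rw [← Sylow.smul_eq_iff_mem_normalizer, mul_smul, ← this, inv_smul_smul]
    obtain ⟨t', u', ht', hu', he, htθ, huθ⟩ :=
      diag_fixed θ hθ hU hL hmono ((b : fix θ)⁻¹ * h).2 (hupper _ (hnorm _ hbh))
    have hbK : (b : fix θ) ∈ K := by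
      refine (Subgroup.closure_le K).2 ?_ b.2
      rintro _ ⟨k, hk, v, hv, rfl⟩
      exact mul_mem (mul_mem hk (hK hv)) (inv_mem hk)
    let T' : fix θ := ⟨t', htθ⟩
    let W' : fix θ := ⟨u', huθ⟩
    have he' : (b : fix θ)⁻¹ * h = T' * W' := Subtype.ext he
    have hWU : W' ∈ U' := hu'
    have hTK : T' ∈ K := by
      have := mul_mem (mul_mem (inv_mem hbK) hh) (inv_mem (hK hWU))
      rwa [he', mul_inv_cancel_right] at this
    have hcomm : t * T' * t⁻¹ = T' := by
      rw [mul_inv_eq_iff_eq_mul]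
      refine Subtype.ext (Subtype.ext ?_)
      show t.1.1 * t'.1 = t'.1 * t.1.1
      ext i j
      rw [Matrix.mul_apply, Matrix.mul_apply,
        Finset.sum_eq_single i (fun l _ hl => by rw [ht i l hl.symm, zero_mul]) (by simp),
        Finset.sum_eq_single i (fun l _ hl => by rw [ht' i l hl.symm, zero_mul]) (by simp)]
      by_cases hij : i = j
      · subst hij; ring
      · rw [ht i j hij, ht' i j hij, mul_zero, mul_zero]
    have e : t * h * t⁻¹ = (t * (b : fix θ) * t⁻¹) * (t * T' * t⁻¹) * (t * W' * t⁻¹) := by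
      rw [show h = (b : fix θ) * T' * W' by rw [mul_assoc, ← he', mul_inv_cancel_left]]
      group
    rw [e, hcomm]
    exact mul_mem (mul_mem (hK0t _ b.2) hTK) (hK (hdU _ hWU))
  obtain ⟨t, u, ht, hu, he, htθ, huθ⟩ := diag_fixed θ hθ hU hL hmono g.2 (hupper _ (hnorm _ hg))
  obtain rfl : g = (⟨t, htθ⟩ : fix θ) * ⟨u, huθ⟩ := Subtype.ext he
  rw [map_one]
  refine (Subgroup.eq_of_le_of_card_ge ?_ ?_).trans (Subgroup.map_id K).symm
  · rintro _ ⟨h, hh, rfl⟩
    have hwK : (⟨u, huθ⟩ : fix θ) ∈ K := hK hu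
    have := key ⟨t, htθ⟩ ht _ (mul_mem (mul_mem hwK hh) (inv_mem hwK))
    simpa [mul_assoc] using this
  · rw [Nat.card_congr (K.equivMapOfInjective (MulAut.conj _).toMonoidHom (MulAut.conj _).injective).toEquiv]

end Fixed

end Cfsg.Agent.PronormalFixedBorel
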