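import Mathlib
import Cfsg.Agent.Lib.SL2SylowNormalizer

set_option autoImplicit false

/-!
Sylow 2-subgroups of `GL(2^k, q)`, `q` odd, as iterated wreath products, and self-normalising Sylow
2-subgroups of `SL(2^k, q)` for `k ≥ 2`.
-/

namespace Cfsg.Agent.SylowTwoWreathSL

open Matrix
open scoped MatrixGroups

variable {F : Type*} [Field F] [Finite F]

/-- The properties carried by the induction. -/
structure Good {ι : Type} [Fintype ι] [DecidableEq ι] (S : Subgroup (GL ι F)) : Prop where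
  card : Nat.card S = 2 ^ (Nat.card (GL ι F)).factorization 2
  negOne : ∃ z ∈ S, (z : Matrix ι ι F) = -1
  irred : ∀ M : Matrix ι ι F, (∀ x ∈ S, (x : Matrix ι ι F).det = 1 → M * x = x * M) →
    ∃ a : F, M = a • (1 : Matrix ι ι F)
  odd : ∀ g : GL ι F, Odd (orderOf g) → (∀ x ∈ S, g * x * g⁻¹ ∈ S) →
    ∃ a : F, (g : Matrix ι ι F) = a • (1 : Matrix ι ι F)

lemma pos_exists {ι : Type} [Fintype ι] [DecidableEq ι] {S : Subgroup (GL ι F)} (hS : Good S) : IsPGroup 2 S :=
  IsPGroup.of_card hS.card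

/-- The properties carried by the induction, apart from the order. -/
structure Core {ι : Type} [Fintype ι] [DecidableEq ι] (S : Subgroup (GL ι F)) : Prop where
  pgroup : IsPGroup 2 S
  negOne : ∃ z ∈ S, (z : Matrix ι ι F) = -1
  irred : ∀ M : Matrix ι ι F, (∀ x ∈ S, (x : Matrix ι ι F).det = 1 → M * x = x * M) →
    ∃ a : F, M = a • (1 : Matrix ι ι F)
  odd : ∀ g : GL ι F, Odd (orderOf g) → (∀ x ∈ S, g * x * g⁻¹ ∈ S) →
    ∃ a : F, (g : Matrix ι ι F) = a • (1 : Matrix ι ι F)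

lemma Good.core {ι : Type} [Fintype ι] [DecidableEq ι] {S : Subgroup (GL ι F)} (hS : Good S) : Core S :=
  ⟨pos_exists hS, hS.negOne, hS.irred, hS.odd⟩

/-! ### Dimension two -/

omit [Finite F] in
lemma anticomm_trace {A B : Matrix (Fin 2) (Fin 2) F} (hA : A.trace = 0) (hB : B.trace = 0) :
    A * B + B * A = (A * B).trace • (1 : Matrix (Fin 2) (Fin 2) F) := by
  rw [Matrix.trace_fin_two] at hA hB
  have ha : A 1 1 = -A 0 0 := by linear_combination hA
  have hb : B 1 1 = -B 0 0 := by linear_combination hB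
  ext i j
  fin_cases i <;> fin_cases j <;>
    simp [Matrix.trace_fin_two, Matrix.mul_apply, Fin.sum_univ_two, ha, hb] <;> ring

omit [Finite F] in
lemma scalar_of_commute_quaternion (h2 : (2 : F) ≠ 0) {M I J : Matrix (Fin 2) (Fin 2) F} (hI : I * I = -1)
    (hJ : J * J = -1) (hJI : J * I = -(I * J)) (h1 : M * I = I * M) (h3 : M * J = J * M) :
    ∃ a : F, M = a • (1 : Matrix (Fin 2) (Fin 2) F) := by
  have trace0 : ∀ I J : Matrix (Fin 2) (Fin 2) F, J * J = -1 → J * I = -(I * J) → I.trace = 0 := by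
    intro I J hJ hJI
    have e : (J * I * -J).trace = I.trace := by
      rw [Matrix.trace_mul_comm, ← mul_assoc, neg_mul, hJ, neg_neg, one_mul]
    rw [hJI, neg_mul, mul_neg, neg_neg, mul_assoc, hJ, mul_neg, mul_one, Matrix.trace_neg] at e
    exact (mul_eq_zero.1 (show (2 : F) * I.trace = 0 by linear_combination -e)).resolve_left h2
  have hI0 := trace0 I J hJ hJI
  have hJ0 := trace0 J I hI (by rw [hJI, neg_neg])
  refine ⟨M.trace / 2, ?_⟩
  obtain ⟨N, hN⟩ : ∃ N, N = M - (M.trace / 2) • (1 : Matrix (Fin 2) (Fin 2) F) := ⟨_, rfl⟩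
  have hN0 : N.trace = 0 := by
    rw [hN, Matrix.trace_sub, Matrix.trace_smul, Matrix.trace_one, Fintype.card_fin, smul_eq_mul]
    push_cast; field_simp; ring
  have comm : ∀ X : Matrix (Fin 2) (Fin 2) F, M * X = X * M → N * X = X * N := fun X h => by
    rw [hN, sub_mul, mul_sub, h, smul_mul_assoc, mul_smul_comm, one_mul, mul_one]
  have span : ∀ X : Matrix (Fin 2) (Fin 2) F, X.trace = 0 → X * X = -1 → M * X = X * M →
      ∃ a : F, N = a • X := by
    intro X hX hXX h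
    have e := anticomm_trace hN0 hX
    rw [← comm X h] at e
    refine ⟨-(N * X).trace / 2, ?_⟩
    have e2 := congrArg (fun Y => Y * -X) e
    simp only [add_mul, mul_assoc, mul_neg, hXX, neg_neg, mul_one, one_mul, smul_mul_assoc] at e2
    have e3 : (2 : F) • N = (-(N * X).trace) • X := by linear_combination (norm := module) e2
    have := congrArg (fun Y => (2 : F)⁻¹ • Y) e3
    simp only [smul_smul, inv_mul_cancel₀ h2, one_smul] at this
    exact this.trans (by rw [div_eq_inv_mul])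
  obtain ⟨a, ha⟩ := span I hI0 hI h1
  have h4 := comm J h3
  rw [ha, smul_mul_assoc, mul_smul_comm, hJI, smul_neg, eq_neg_iff_add_eq_zero, ← two_smul F, smul_smul] at h4
  have hne : I * J ≠ 0 := by
    intro e
    have := congrArg (fun Y => I * Y * J) e
    simp only [← mul_assoc, hI, mul_zero, zero_mul] at this
    rw [mul_assoc, hJ] at this
    simp at this
  have ha0 : a = 0 := by
    rcases smul_eq_zero.1 h4 with e | e
    · exact (mul_eq_zero.1 e).resolve_left h2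
    · exact absurd e hne
  rw [ha0, zero_smul] at ha
  exact sub_eq_zero.1 (hN.symm.trans ha)

omit [Finite F] in
/-- A matrix normalising both generators of a quaternion group up to sign has square determinant. -/
lemma det_sq_of_sign (h2 : (2 : F) ≠ 0) {M I J : Matrix (Fin 2) (Fin 2) F} (hI : I * I = -1) (hJ : J * J = -1)
    (hJI : J * I = -(I * J)) (dI : I.det = 1) (dJ : J.det = 1) {e f : F} (he : e = 1 ∨ e = -1)
    (hf : f = 1 ∨ f = -1) (h1 : M * I = e • (I * M)) (h3 : M * J = f • (J * M)) : ∃ a : F, M.det = a * a := by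
  have hIJ : I * J = -(J * I) := by rw [hJI, neg_neg]
  obtain ⟨Q, hQ, hQI, hQJ⟩ : ∃ Q : Matrix (Fin 2) (Fin 2) F, Q.det = 1 ∧ Q * I = e • (I * Q) ∧
      Q * J = f • (J * Q) := by
    rcases he with rfl | rfl <;> rcases hf with rfl | rfl
    · exact ⟨1, Matrix.det_one, by simp, by simp⟩
    · exact ⟨I, dI, by simp, by rw [neg_one_smul, hIJ]⟩
    · exact ⟨J, dJ, by rw [neg_one_smul, hJI], by simp⟩
    · refine ⟨J * I, by rw [Matrix.det_mul, dI, dJ, one_mul], ?_, ?_⟩
      · rw [neg_one_smul, ← mul_assoc I, hIJ, neg_mul, neg_neg]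
      · rw [neg_one_smul, mul_assoc, hIJ, mul_neg]
  have hcomm : ∀ X : Matrix (Fin 2) (Fin 2) F, ∀ d : F, d = 1 ∨ d = -1 → M * X = d • (X * M) →
      Q * X = d • (X * Q) → M * Q * X = X * (M * Q) := by
    intro X d hd hM hX
    rw [mul_assoc, hX, mul_smul_comm, ← mul_assoc, hM, smul_mul_assoc, smul_smul, mul_assoc]
    rcases hd with rfl | rfl <;> simp
  obtain ⟨a, ha⟩ := scalar_of_commute_quaternion h2 hI hJ hJI (hcomm I e he h1 hQI) (hcomm J f hf h3 hQJ)
  refine ⟨a, ?_⟩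
  have := congrArg Matrix.det ha
  rwa [Matrix.det_mul, hQ, mul_one, Matrix.det_smul, Matrix.det_one, mul_one, Fintype.card_fin, sq] at this

open PSL2Elements SL2Torus in
theorem exists_good_two (hq : Odd (Nat.card F)) : ∃ S : Subgroup (GL (Fin 2) F), Good S := by
  classical
  have h2 := PSL2SylowTwo.two_ne_zero_of_odd hq
  haveI : Fact (Nat.Prime 2) := ⟨Nat.prime_two⟩
  obtain ⟨S⟩ := (inferInstance : Nonempty (Sylow 2 (GL (Fin 2) F)))
  let ι : SL(2, F) →* GL (Fin 2) F := Matrix.SpecialLinearGroup.toGL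
  have hι : Function.Injective ι := fun A B h => Subtype.ext (congrArg Units.val h)
  have hιv : ∀ A : SL(2, F), (ι A : Matrix (Fin 2) (Fin 2) F) = A.1 := fun A => rfl
  obtain ⟨R, hR⟩ := ((S.isPGroup'.comap_of_injective ι hι)).exists_le_sylow
  -- the intersection with `SL` is a Sylow subgroup
  have hQ : (S : Subgroup (GL (Fin 2) F)).comap ι = (R : Subgroup SL(2, F)) := by
    obtain ⟨S', hS'⟩ := (R.isPGroup'.map ι).exists_le_sylow
    obtain ⟨a, rfl⟩ := MulAction.exists_smul_eq (GL (Fin 2) F) S S'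
    refine Subgroup.eq_of_le_of_card_ge hR ?_
    have hmem : ∀ x ∈ (R : Subgroup SL(2, F)), a⁻¹ * ι x * a ∈ (S : Subgroup (GL (Fin 2) F)) := by
      intro x hx
      have := hS' (Subgroup.mem_map_of_mem ι hx)
      rw [Sylow.coe_subgroup_smul, Subgroup.mem_pointwise_smul_iff_inv_smul_mem] at this
      simpa [MulAut.smul_def, mul_assoc] using this
    have hdet : ∀ x : SL(2, F), (a⁻¹ * ι x * a : GL (Fin 2) F).val.det = 1 := by
      intro x
      rw [Units.val_mul, Units.val_mul, Matrix.det_mul, Matrix.det_mul, hιv, x.2, mul_one, ← Matrix.det_mul,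
        ← Units.val_mul, inv_mul_cancel, Units.val_one, Matrix.det_one]
    refine Nat.card_le_card_of_injective (fun x : (R : Subgroup SL(2, F)) =>
      (⟨⟨_, hdet x⟩, ?_⟩ : (S : Subgroup (GL (Fin 2) F)).comap ι)) fun x y h => ?_
    · show ι ⟨_, hdet x⟩ ∈ (S : Subgroup (GL (Fin 2) F))
      have e : ι ⟨_, hdet x⟩ = a⁻¹ * ι x * a := Units.ext rfl
      rw [e]; exact hmem x x.2
    · have h' : (a⁻¹ * ι x * a : GL (Fin 2) F) = a⁻¹ * ι y * a :=
        Units.ext (congrArg (fun z => z.1.1) h)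
      exact Subtype.ext (hι (mul_left_cancel (mul_right_cancel h')))
  obtain ⟨k, c, y, hk, hc, hy, hz, hoc, hyc, hyT, hoy, hcardR, hlistR⟩ := SL2SylowNormalizer.sylow_two_gens hq R
  have hmemR : ∀ x ∈ (R : Subgroup SL(2, F)), ι x ∈ (S : Subgroup (GL (Fin 2) F)) := fun x hx => by
    rw [← hQ] at hx; exact hx
  have sqn : ∀ g : SL(2, F), orderOf g = 4 → g * g = -1 := by
    intro g hg
    refine (eq_one_or_neg_one_of_sq_eq_one h2 ?_).resolve_left fun h => ?_
    · rw [← sq, ← pow_mul, show 2 * 2 = orderOf g by rw [hg], pow_orderOf_eq_one]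
    · have := Nat.le_of_dvd two_pos (orderOf_dvd_of_pow_eq_one (show g ^ 2 = 1 by rwa [sq]))
      omega
  obtain ⟨j, rfl⟩ : ∃ j, k = j + 1 := ⟨k - 1, by omega⟩
  set i := c ^ (2 ^ j) with hi
  have hi4 : orderOf i = 4 := by
    rw [hi, orderOf_pow' _ (pow_ne_zero _ two_ne_zero), hoc, pow_succ, Nat.gcd_eq_right ⟨4, by ring⟩,
      show 2 * (2 ^ j * 2) = 2 ^ j * 4 by ring, Nat.mul_div_cancel_left _ (by positivity)]
  have hii := sqn i hi4
  have hyy := sqn y hoy
  have hyi : y.1 * i.1 = -(i.1 * y.1) := by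
    have h1 : y * i * y⁻¹ = i⁻¹ := by rw [hi, ← conj_pow, hyc, inv_pow]
    have h2' : i⁻¹ = -i := inv_eq_of_mul_eq_one_right (by rw [mul_neg, hii, neg_neg])
    rw [h2', mul_inv_eq_iff_eq_mul] at h1
    rw [← coe_mul', h1, coe_mul', coe_neg', neg_mul]
  have irr : ∀ M : Matrix (Fin 2) (Fin 2) F,
      (∀ x ∈ (S : Subgroup (GL (Fin 2) F)), (x : Matrix (Fin 2) (Fin 2) F).det = 1 → M * x = x * M) →
        ∃ a : F, M = a • (1 : Matrix (Fin 2) (Fin 2) F) := fun M hM =>
    scalar_of_commute_quaternion h2 (congrArg Subtype.val hii) (congrArg Subtype.val hyy) hyi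
      (hM (ι i) (hmemR _ (pow_mem hc _)) i.2) (hM (ι y) (hmemR _ hy) y.2)
  refine ⟨S, S.card_eq_multiplicity, ⟨ι (i * i), hmemR _ (mul_mem (pow_mem hc _) (pow_mem hc _)), by
    rw [hii]; exact coe_neg' 1⟩, irr, fun g hg hgS => ?_⟩
  -- an odd element normalising `S`
  set δ := Matrix.GeneralLinearGroup.det g with hδ
  obtain ⟨r, hr⟩ := id hg
  have hδr : δ ^ (2 * r + 1) = 1 := by
    rw [hδ, ← map_pow, ← hr, pow_orderOf_eq_one, map_one]
  set u : Fˣ := (δ⁻¹) ^ (r + 1) with hu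
  let L : GL (Fin 2) F := Units.map (algebraMap F (Matrix (Fin 2) (Fin 2) F)).toMonoidHom u
  have hL : (L : Matrix (Fin 2) (Fin 2) F) = (u : F) • 1 := Algebra.algebraMap_eq_smul_one _
  have hLc : ∀ x : GL (Fin 2) F, Commute L x := fun x => Units.ext (by
    rw [Units.val_mul, Units.val_mul, hL, smul_mul_assoc, one_mul, mul_smul_comm, mul_one])
  have hdet1 : (L * g : GL (Fin 2) F).val.det = 1 := by
    rw [Units.val_mul, Matrix.det_mul, hL, Matrix.det_smul, Matrix.det_one, mul_one, Fintype.card_fin]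
    have : u ^ 2 * δ = 1 := by
      rw [hu, ← pow_mul, show (r + 1) * 2 = (2 * r + 1) + 1 by ring, pow_succ, inv_pow, hδr]
      simp
    have h' := congrArg Units.val this
    rw [Units.val_mul, Units.val_pow_eq_pow_val, Units.val_one] at h'
    exact h'
  let g' : SL(2, F) := ⟨_, hdet1⟩
  have hg'ι : ι g' = L * g := Units.ext rfl
  have hg'r : g' ^ (2 * r + 1) = 1 := by
    apply hι
    rw [map_pow, hg'ι, (hLc g).mul_pow, ← hr, pow_orderOf_eq_one, mul_one, map_one, hr]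
    show Units.map _ u ^ (2 * r + 1) = 1
    rw [← map_pow, hu, ← pow_mul, mul_comm (r + 1), pow_mul, inv_pow, hδr]
    simp
  have hg'S : ∀ x ∈ (S : Subgroup (GL (Fin 2) F)), ι g' * x * (ι g')⁻¹ ∈ (S : Subgroup (GL (Fin 2) F)) := by
    intro x hx
    rw [hg'ι, show L * g * x * (L * g)⁻¹ = L * (g * x * g⁻¹) * L⁻¹ by group, (hLc _).eq, mul_inv_cancel_right]
    exact hgS x hx
  suffices hone : g' = 1 by
    have hgL : g = L⁻¹ := by
      rw [eq_inv_iff_mul_eq_one, ← (hLc g).eq, ← hg'ι, hone, map_one]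
    refine ⟨(u⁻¹ : Fˣ), ?_⟩
    rw [hgL]
    exact Algebra.algebraMap_eq_smul_one _
  have hg'N : g' ∈ Subgroup.normalizer ((R : Subgroup SL(2, F)) : Set SL(2, F)) := by
    have hle : ∀ x ∈ (R : Subgroup SL(2, F)), g' * x * g'⁻¹ ∈ (R : Subgroup SL(2, F)) := by
      intro x hx
      rw [← hQ, Subgroup.mem_comap, map_mul, map_mul, map_inv]
      exact hg'S _ (hmemR x hx)
    exact Subgroup.mem_normalizer_fintype hle
  by_contra hne
  have hodd2 : ∀ n, g' ^ (2 ^ n) = 1 → False := fun n hn => hne (by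
    have hcop : Nat.Coprime (2 ^ n) (2 * r + 1) := Nat.Coprime.pow_left n (Nat.coprime_two_left.2 ⟨r, rfl⟩)
    simpa [hcop.gcd_eq_one] using pow_gcd_eq_one.2 ⟨hn, hg'r⟩)
  have hnotR : g' ∉ (R : Subgroup SL(2, F)) := fun hin => by
    obtain ⟨n, hn⟩ := R.isPGroup' ⟨g', hin⟩
    exact hodd2 n (congrArg Subtype.val hn)
  have h8 : Nat.card F % 8 = 3 ∨ Nat.card F % 8 = 5 := by
    by_contra h
    have h' : Nat.card F % 8 = 1 ∨ Nat.card F % 8 = 7 := by
      obtain ⟨m, hm⟩ := hq; omega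
    rw [SL2SylowNormalizer.normalizer_sylow_two_self hq h' R] at hg'N
    exact hnotR hg'N
  obtain ⟨hR8, hN24, -⟩ := SL2SylowNormalizer.sylow_two_three hq h8 R
  rw [hR8] at hcardR hN24
  obtain rfl : j = 0 := by
    rcases Nat.eq_zero_or_pos j with h | h
    · exact h
    · exfalso
      have : 2 ^ 2 ≤ 2 ^ (j + 1) := Nat.pow_le_pow_right two_pos (by omega)
      omega
  simp only [hi, pow_zero, pow_one] at hii hyi irr
  clear hi hi4 i
  -- the three lines of the quaternion group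
  have hclass : ∀ r ∈ (R : Subgroup SL(2, F)), (r = 1 ∨ r = -1) ∨ (r = c ∨ r = -c) ∨ (r = y ∨ r = -y) ∨
      (r = y * c ∨ r = -(y * c)) := by
    intro r hr
    have hpow : ∀ i : ℕ, c ^ i = 1 ∨ c ^ i = -1 ∨ c ^ i = c ∨ c ^ i = -c := by
      intro i
      induction i with
      | zero => simp
      | succ i ih =>
        rw [pow_succ]
        rcases ih with e | e | e | e <;> rw [e] <;> simp [hii]
    rcases hlistR r hr with ⟨i, rfl⟩ | ⟨-, i, rfl⟩ <;> rcases hpow i with e | e | e | e <;> rw [e] <;> simp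
  have hg3 : g' ^ 3 = 1 := by
    have h1 : g' ^ 24 = 1 := by
      have := pow_card_eq_one' (x := (⟨g', hg'N⟩ : Subgroup.normalizer ((R : Subgroup SL(2, F)) : Set SL(2, F))))
      rw [hN24] at this
      exact congrArg Subtype.val this
    have hcop : Nat.Coprime 8 (2 * r + 1) := Nat.Coprime.pow_left 3 (Nat.coprime_two_left.2 ⟨r, rfl⟩)
    have h2' : g' ^ Nat.gcd 24 (2 * r + 1) = 1 := pow_gcd_eq_one.2 ⟨h1, hg'r⟩
    rw [show 24 = 8 * 3 from rfl, hcop.gcd_mul_left_cancel 3] at h2'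
    obtain ⟨l, hl⟩ := Nat.gcd_dvd_left 3 (2 * r + 1)
    rw [hl, pow_mul, h2', one_pow]
  have hconjR : ∀ n, ∀ x ∈ (R : Subgroup SL(2, F)), g' ^ n * x * (g' ^ n)⁻¹ ∈ (R : Subgroup SL(2, F)) :=
    fun n x hx => (Subgroup.mem_normalizer_iff.1 (pow_mem hg'N n) x).1 hx
  have hmove : ∀ n, g' ^ n * c * (g' ^ n)⁻¹ ∈ tor c → g' ^ n ∈ (R : Subgroup SL(2, F)) := fun n h =>
    SL2SylowNormalizer.mem_of_conj_mem_tor h2 R hz hy hyc hyT (pow_mem hg'N n) h
  have hnot1 : ∀ n, n = 1 ∨ n = 2 → g' ^ n * c * (g' ^ n)⁻¹ ∉ tor c := by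
    intro n hn h
    rcases hn with rfl | rfl
    · exact hnotR (pow_one g' ▸ hmove 1 h)
    · apply hnotR
      have := mul_mem (hmove 2 h) (hmove 2 h)
      rwa [← pow_add, show 2 + 2 = 3 + 1 from rfl, pow_succ, hg3, one_mul] at this
  have htor : ∀ x : SL(2, F), (x = 1 ∨ x = -1) ∨ (x = c ∨ x = -c) → x ∈ tor c := by
    intro x hx
    rcases hx with (rfl | rfl) | (rfl | rfl) <;> refine Subgroup.mem_centralizer_singleton_iff.2 ?_ <;> simp
  have hA : ∀ n, n = 1 ∨ n = 2 → (g' ^ n * c * (g' ^ n)⁻¹ = y ∨ g' ^ n * c * (g' ^ n)⁻¹ = -y) ∨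
      (g' ^ n * c * (g' ^ n)⁻¹ = y * c ∨ g' ^ n * c * (g' ^ n)⁻¹ = -(y * c)) := by
    intro n hn
    rcases hclass _ (hconjR n c hc) with h | h | h | h
    · exact absurd (htor _ (Or.inl h)) (hnot1 n hn)
    · exact absurd (htor _ (Or.inr h)) (hnot1 n hn)
    · exact Or.inl h
    · exact Or.inr h
  have hsame : ∀ x : SL(2, F), (g' ^ 1 * c * (g' ^ 1)⁻¹ = x ∨ g' ^ 1 * c * (g' ^ 1)⁻¹ = -x) →
      (g' ^ 2 * c * (g' ^ 2)⁻¹ = x ∨ g' ^ 2 * c * (g' ^ 2)⁻¹ = -x) → False := by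
    intro x hx hx'
    apply hnot1 1 (Or.inl rfl)
    have e : g' ^ 2 * c * (g' ^ 2)⁻¹ = g' ^ 1 * (g' ^ 1 * c * (g' ^ 1)⁻¹) * (g' ^ 1)⁻¹ := by group
    have e' : g' ^ 2 * c * (g' ^ 2)⁻¹ = g' ^ 1 * c * (g' ^ 1)⁻¹ ∨
        g' ^ 2 * c * (g' ^ 2)⁻¹ = -(g' ^ 1 * c * (g' ^ 1)⁻¹) := by
      rcases hx with h | h <;> rcases hx' with h' | h' <;> rw [h, h'] <;> simp
    refine htor _ (Or.inr ?_)
    rw [e] at e'
    rcases e' with h | h
    · left; exact mul_left_cancel (mul_right_cancel h)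
    · right
      rw [show -(g' ^ 1 * c * (g' ^ 1)⁻¹) = g' ^ 1 * (-c) * (g' ^ 1)⁻¹ by simp] at h
      exact mul_left_cancel (mul_right_cancel h)
  have hline : ∀ x : SL(2, F), x = y ∨ x = y * c →
      ∃ n, x = g' ^ n * c * (g' ^ n)⁻¹ ∨ x = -(g' ^ n * c * (g' ^ n)⁻¹) := by
    intro x hx
    have hn : ∀ n, (g' ^ n * c * (g' ^ n)⁻¹ = x ∨ g' ^ n * c * (g' ^ n)⁻¹ = -x) →
        ∃ n, x = g' ^ n * c * (g' ^ n)⁻¹ ∨ x = -(g' ^ n * c * (g' ^ n)⁻¹) := fun n h =>
      ⟨n, h.imp Eq.symm fun e => by rw [e, neg_neg]⟩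
    rcases hA 1 (Or.inl rfl) with h1 | h1 <;> rcases hA 2 (Or.inr rfl) with h2' | h2'
    · exact (hsame _ h1 h2').elim
    · rcases hx with rfl | rfl
      exacts [hn 1 h1, hn 2 h2']
    · rcases hx with rfl | rfl
      exacts [hn 2 h2', hn 1 h1]
    · exact (hsame _ h1 h2').elim
  -- an element of non-square determinant commuting with `g'`
  obtain ⟨s0, hs0, hsq⟩ : ∃ s ∈ (S : Subgroup (GL (Fin 2) F)), ∀ a : F, s.val.det ≠ a * a := by
    by_contra h
    push Not at h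
    let sq2 : Fˣ →* Fˣ := powMonoidHom 2
    have hle : (S : Subgroup (GL (Fin 2) F)).map Matrix.GeneralLinearGroup.det ≤ sq2.range := by
      rintro _ ⟨x, hx, rfl⟩
      obtain ⟨a, ha⟩ := h x hx
      have hd : Matrix.GeneralLinearGroup.det x = Matrix.GeneralLinearGroup.det x := rfl
      have ha0 : a ≠ 0 := fun e => (Matrix.GeneralLinearGroup.det x).ne_zero (by
        rw [Matrix.GeneralLinearGroup.val_det_apply, ha, e, mul_zero])
      exact ⟨Units.mk0 a ha0, Units.ext (by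
        rw [Matrix.GeneralLinearGroup.val_det_apply, ha]; simp [sq2, sq])⟩
    have hsurj : Function.Surjective (Matrix.GeneralLinearGroup.det : GL (Fin 2) F → Fˣ) := by
      intro u
      refine ⟨⟨Matrix.diagonal ![(u : F), 1], Matrix.diagonal ![((u⁻¹ : Fˣ) : F), 1], ?_, ?_⟩, Units.ext ?_⟩
      · ext a b; fin_cases a <;> fin_cases b <;> simp
      · ext a b; fin_cases a <;> fin_cases b <;> simp
      · simp
    have hodd : ¬ 2 ∣ sq2.range.index := fun hdvd => S.not_dvd_index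
      ((hdvd.trans (Subgroup.index_dvd_of_le hle)).trans (Subgroup.index_map_dvd _ hsurj))
    apply hodd
    have hker : 2 ∣ Nat.card sq2.ker := by
      have hm : (-1 : Fˣ) ∈ sq2.ker := by simp [sq2]
      have := orderOf_dvd_natCard (⟨-1, hm⟩ : sq2.ker)
      rwa [orderOf_eq_prime (p := 2) (Subtype.ext (by simp))
        (fun e => h2 (by
          have h' := congrArg (fun z : sq2.ker => ((z : Fˣ) : F)) e
          simp at h'
          linear_combination -h'))] at this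
    have e1 := sq2.ker.card_mul_index
    rw [Subgroup.index_ker, ← sq2.range.card_mul_index, mul_comm] at e1
    rw [← Nat.eq_of_mul_eq_mul_left Nat.card_pos e1]
    exact hker
  let X := {x : GL (Fin 2) F // x ∈ (S : Subgroup (GL (Fin 2) F)) ∧ x.val.det = s0.val.det}
  have hdetι : ∀ A : SL(2, F), (ι A).val.det = 1 := fun A => A.2
  have hXmap : ∀ x : X, ι g' * x.1 * (ι g')⁻¹ ∈ (S : Subgroup (GL (Fin 2) F)) ∧
      (ι g' * x.1 * (ι g')⁻¹).val.det = s0.val.det := fun x => ⟨hg'S _ x.2.1, by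
    rw [← map_inv, Units.val_mul, Units.val_mul, Matrix.det_mul, Matrix.det_mul, hdetι, hdetι, x.2.2, one_mul,
      mul_one]⟩
  let f : X → X := fun x => ⟨_, hXmap x⟩
  have hf : ∀ x, f (f (f x)) = x := fun x => Subtype.ext (by
    show ι g' * (ι g' * (ι g' * x.1 * (ι g')⁻¹) * (ι g')⁻¹) * (ι g')⁻¹ = x.1
    rw [show ι g' * (ι g' * (ι g' * x.1 * (ι g')⁻¹) * (ι g')⁻¹) * (ι g')⁻¹ =
      (ι g') ^ 3 * x.1 * ((ι g') ^ 3)⁻¹ by simp only [pow_succ, pow_zero, one_mul, _root_.mul_inv_rev, mul_assoc], ← map_pow, hg3, map_one, one_mul, inv_one, mul_one])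
  let σ : Equiv.Perm X := ⟨f, fun x => f (f x), hf, hf⟩
  have hσ : σ ^ 3 ^ 1 = 1 := Equiv.ext fun x => hf x
  have hXcard : Nat.card X = 8 := by
    rw [← hR8]
    refine Nat.card_congr (Equiv.symm (Equiv.ofBijective (fun x : (R : Subgroup SL(2, F)) =>
      (⟨ι x * s0, mul_mem (hmemR _ x.2) hs0, by
        rw [Units.val_mul, Matrix.det_mul, hdetι, one_mul]⟩ : X)) ⟨fun a b e =>
        Subtype.ext (hι (mul_right_cancel (congrArg Subtype.val e))), fun x => ?_⟩))
    have hd : (x.1 * s0⁻¹ : GL (Fin 2) F).val.det = 1 := by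
      rw [Units.val_mul, Matrix.det_mul, x.2.2, ← Matrix.det_mul, ← Units.val_mul, mul_inv_cancel, Units.val_one,
        Matrix.det_one]
    let A : SL(2, F) := ⟨_, hd⟩
    have hιA : ι A = x.1 * s0⁻¹ := Units.ext rfl
    refine ⟨⟨A, ?_⟩, Subtype.ext ?_⟩
    · rw [← hQ, Subgroup.mem_comap, hιA]
      exact mul_mem x.2.1 (inv_mem hs0)
    · show ι A * s0 = x.1
      rw [hιA, inv_mul_cancel_right]
  haveI : Fact (Nat.Prime 3) := ⟨Nat.prime_three⟩
  haveI : Fintype X := Fintype.ofFinite X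
  obtain ⟨⟨s, hsS, hsd⟩, hfix⟩ := Equiv.Perm.exists_fixed_point_of_prime (p := 3) (n := 1)
    (by rw [← Nat.card_eq_fintype_card, hXcard]; norm_num) hσ
  have hsg : Commute s (ι g') := by
    have := congrArg Subtype.val hfix
    exact (mul_inv_eq_iff_eq_mul.1 this).symm
  have hfixline : ∀ n, ∃ e : F, (e = 1 ∨ e = -1) ∧
      (s ^ 3).val * (g' ^ n * c * (g' ^ n)⁻¹).1 = e • ((g' ^ n * c * (g' ^ n)⁻¹).1 * (s ^ 3).val) := by
    obtain ⟨i, e, he, hc1⟩ : ∃ i : ℕ, ∃ e : F, (e = 1 ∨ e = -1) ∧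
        (s * ι c * s⁻¹).val = e • (g' ^ i * c * (g' ^ i)⁻¹).1 := by
      have hd : (s * ι c * s⁻¹).val.det = 1 := by
        rw [Units.val_mul, Units.val_mul, Matrix.det_mul, Matrix.det_mul, hdetι, mul_one, ← Matrix.det_mul,
          ← Units.val_mul, mul_inv_cancel, Units.val_one, Matrix.det_one]
      let A : SL(2, F) := ⟨_, hd⟩
      have hιA : ι A = s * ι c * s⁻¹ := Units.ext rfl
      have hA' : A ∈ (R : Subgroup SL(2, F)) := by
        rw [← hQ, Subgroup.mem_comap, hιA]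
        exact mul_mem (mul_mem hsS (hmemR _ hc)) (inv_mem hsS)
      have hAcc : A * A = -1 := hι (by
        rw [map_mul, hιA, show s * ι c * s⁻¹ * (s * ι c * s⁻¹) = s * (ι c * ι c) * s⁻¹ by group, ← map_mul, hii]
        apply Units.ext
        rw [Units.val_mul, Units.val_mul, hιv, coe_neg', coe_one', mul_neg, mul_one, neg_mul, ← Units.val_mul,
          mul_inv_cancel, Units.val_one])
      have hA1 : ∃ n, A = g' ^ n * c * (g' ^ n)⁻¹ ∨ A = -(g' ^ n * c * (g' ^ n)⁻¹) := by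
        rcases hclass A hA' with (h | h) | h | h | h
        · exact absurd (by rw [h] at hAcc; simpa using hAcc.symm) (SL2Torus.neg_one_ne h2)
        · exact absurd (by rw [h] at hAcc; simpa using hAcc.symm) (SL2Torus.neg_one_ne h2)
        · exact ⟨0, by simpa using h⟩
        · obtain ⟨n, hn⟩ := hline y (Or.inl rfl)
          refine ⟨n, ?_⟩
          rcases h with h | h <;> rcases hn with hn | hn <;> rw [h] <;> simp [← hn, neg_eq_iff_eq_neg]
        · obtain ⟨n, hn⟩ := hline _ (Or.inr rfl)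
          refine ⟨n, ?_⟩
          rcases h with h | h <;> rcases hn with hn | hn <;> rw [h] <;> simp [← hn, neg_eq_iff_eq_neg]
      obtain ⟨n, h | h⟩ := hA1
      · exact ⟨n, 1, Or.inl rfl, by rw [one_smul, ← hιA, hιv, h]⟩
      · exact ⟨n, -1, Or.inr rfl, by rw [← hιA, hιv, h, coe_neg', neg_one_smul]⟩
    have hcomp : ∀ (a b : GL (Fin 2) F) (M : Matrix (Fin 2) (Fin 2) F),
        (a * b).val * M * ((a * b)⁻¹).val = a.val * (b.val * M * (b⁻¹).val) * (a⁻¹).val := fun a b M => by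
      simp only [_root_.mul_inv_rev, Units.val_mul, mul_assoc]
    have hsn : ∀ m, (s ^ m).val * c.1 * ((s ^ m)⁻¹).val = e ^ m • (g' ^ (i * m) * c * (g' ^ (i * m))⁻¹).1 := by
      intro m
      induction m with
      | zero => simp
      | succ m ih =>
        rw [pow_succ', hcomp, ih, mul_smul_comm, smul_mul_assoc]
        have e1 : s.val * (g' ^ (i * m) * c * (g' ^ (i * m))⁻¹).1 * (s⁻¹).val =
            (ι (g' ^ (i * m)) * (s * ι c * s⁻¹) * (ι (g' ^ (i * m)))⁻¹ : GL (Fin 2) F).val := by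
          rw [← hιv, map_mul, map_mul, map_inv, ← Units.val_mul, ← Units.val_mul]
          have hcm : Commute s (ι (g' ^ (i * m))) := by rw [map_pow]; exact hsg.pow_right _
          congr 1
          calc s * (ι (g' ^ (i * m)) * ι c * (ι (g' ^ (i * m)))⁻¹) * s⁻¹
              = (s * ι (g' ^ (i * m))) * ι c * (s * ι (g' ^ (i * m)))⁻¹ := by group
            _ = _ := by rw [hcm.eq]; group
        rw [e1, Units.val_mul, Units.val_mul, hc1, mul_smul_comm, smul_mul_assoc, smul_smul, ← pow_succ,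
          ← map_inv, hιv, hιv, ← coe_mul', ← coe_mul', show i * (m + 1) = i * m + i by ring, pow_add]
        congr 2
        simp only [pow_add, _root_.mul_inv_rev, mul_assoc]
        rfl
    have h3 : (s ^ 3).val * c.1 * ((s ^ 3)⁻¹).val = e ^ 3 • c.1 := by
      rw [hsn, mul_comm i 3, pow_mul, hg3, one_pow]
      simp
    intro n
    refine ⟨e ^ 3, ?_, ?_⟩
    · rcases he with rfl | rfl <;> simp [pow_succ]
    have hcm : Commute (s ^ 3) (ι (g' ^ n)) := by rw [map_pow]; exact (hsg.pow_left 3).pow_right n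
    have h3' : (s ^ 3).val * c.1 = e ^ 3 • (c.1 * (s ^ 3).val) := by
      have := congrArg (fun M => M * (s ^ 3).val) h3
      simp only [mul_assoc, ← Units.val_mul, inv_mul_cancel, Units.val_one, mul_one, smul_mul_assoc] at this
      exact this
    have hcm' : ∀ A : SL(2, F), Commute (s ^ 3) (ι A) → (s ^ 3).val * A.1 = A.1 * (s ^ 3).val :=
      fun A h => congrArg Units.val h.eq
    have hcm2 : Commute (s ^ 3) (ι (g' ^ n)⁻¹) := by rw [map_inv]; exact hcm.inv_right
    rw [coe_mul', coe_mul', mul_assoc _ c.1, ← mul_assoc, hcm' _ hcm, mul_assoc, ← mul_assoc (s ^ 3).val, h3',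
      smul_mul_assoc, mul_smul_comm, mul_assoc c.1, hcm' _ hcm2]
    simp only [mul_assoc]
  obtain ⟨e1, he1, hMc⟩ := hfixline 0
  simp only [pow_zero, one_mul, inv_one, mul_one] at hMc
  obtain ⟨n, hn⟩ := hline y (Or.inl rfl)
  obtain ⟨e2, he2, hMy⟩ := hfixline n
  have hMy' : (s ^ 3).val * y.1 = e2 • (y.1 * (s ^ 3).val) := by
    rcases hn with hn | hn <;> rw [hn]
    · exact hMy
    · rw [coe_neg', mul_neg, neg_mul, smul_neg, hMy]
  obtain ⟨a, ha⟩ := det_sq_of_sign h2 (congrArg Subtype.val hii) (congrArg Subtype.val hyy) hyi c.2 y.2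
    he1 he2 hMc hMy'
  rw [Units.val_pow_eq_pow_val, Matrix.det_pow] at ha
  have hd0 : s.val.det ≠ 0 := (Matrix.GeneralLinearGroup.det s).ne_zero
  exact hsq (a / s.val.det) (by rw [← hsd]; field_simp; linear_combination ha)

/-! ### The doubling step -/

section Step

variable {ι : Type} [Fintype ι] [DecidableEq ι] (S : Subgroup (GL ι F))

/-- The wreath product by two. -/
def T : Subgroup (GL (ι ⊕ ι) F) where
  carrier := {M | ∃ a ∈ S, ∃ b ∈ S, (M : Matrix (ι ⊕ ι) (ι ⊕ ι) F) = fromBlocks a.val 0 0 b.val ∨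
    (M : Matrix (ι ⊕ ι) (ι ⊕ ι) F) = fromBlocks 0 a.val b.val 0}
  one_mem' := ⟨1, one_mem _, 1, one_mem _, Or.inl (by simp [fromBlocks_one])⟩
  mul_mem' := by
    rintro M N ⟨a, ha, b, hb, hM⟩ ⟨a', ha', b', hb', hN⟩
    rcases hM with hM | hM <;> rcases hN with hN | hN
    · exact ⟨a * a', mul_mem ha ha', b * b', mul_mem hb hb', Or.inl (by
        rw [Units.val_mul, hM, hN, fromBlocks_multiply]; simp)⟩
    · exact ⟨a * a', mul_mem ha ha', b * b', mul_mem hb hb', Or.inr (by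
        rw [Units.val_mul, hM, hN, fromBlocks_multiply]; simp)⟩
    · exact ⟨a * b', mul_mem ha hb', b * a', mul_mem hb ha', Or.inr (by
        rw [Units.val_mul, hM, hN, fromBlocks_multiply]; simp)⟩
    · exact ⟨a * b', mul_mem ha hb', b * a', mul_mem hb ha', Or.inl (by
        rw [Units.val_mul, hM, hN, fromBlocks_multiply]; simp)⟩
  inv_mem' := by
    rintro M ⟨a, ha, b, hb, hM | hM⟩
    · exact ⟨a⁻¹, inv_mem ha, b⁻¹, inv_mem hb, Or.inl (Units.inv_eq_of_mul_eq_one_right (by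
        rw [hM, fromBlocks_multiply]; simp [← Units.val_mul, fromBlocks_one]))⟩
    · exact ⟨b⁻¹, inv_mem hb, a⁻¹, inv_mem ha, Or.inr (Units.inv_eq_of_mul_eq_one_right (by
        rw [hM, fromBlocks_multiply]; simp [← Units.val_mul, fromBlocks_one]))⟩

/-- The unit of a block diagonal pair. -/
def diagU (a b : GL ι F) : GL (ι ⊕ ι) F :=
  ⟨fromBlocks a.val 0 0 b.val, fromBlocks (a⁻¹).val 0 0 (b⁻¹).val,
    by rw [fromBlocks_multiply]; simp [← Units.val_mul, fromBlocks_one],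
    by rw [fromBlocks_multiply]; simp [← Units.val_mul, fromBlocks_one]⟩

/-- The unit of an antidiagonal pair. -/
def antiU (a b : GL ι F) : GL (ι ⊕ ι) F :=
  ⟨fromBlocks 0 a.val b.val 0, fromBlocks 0 (b⁻¹).val (a⁻¹).val 0,
    by rw [fromBlocks_multiply]; simp [← Units.val_mul, fromBlocks_one],
    by rw [fromBlocks_multiply]; simp [← Units.val_mul, fromBlocks_one]⟩

variable {S}

lemma diagU_det (a b : GL ι F) : (diagU a b).val.det = a.val.det * b.val.det :=
  det_fromBlocks_zero₂₁ _ _ _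

lemma card_T [Nonempty ι] : Nat.card (T S) = 2 * Nat.card S ^ 2 := by
  classical
  have hne : ∀ a : GL ι F, (a : Matrix ι ι F) ≠ 0 := fun a => a.isUnit.ne_zero
  have e : (S × S) × Bool ≃ T S := Equiv.ofBijective
    (fun x => if x.2 then ⟨antiU x.1.1 x.1.2, x.1.1, x.1.1.2, x.1.2, x.1.2.2, Or.inr rfl⟩
      else ⟨diagU x.1.1 x.1.2, x.1.1, x.1.1.2, x.1.2, x.1.2.2, Or.inl rfl⟩) ⟨?_, ?_⟩
  · rw [← Nat.card_congr e, Nat.card_prod, Nat.card_prod, Nat.card_eq_fintype_card (α := Bool),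
      Fintype.card_bool]
    ring
  · rintro ⟨⟨a, b⟩, s⟩ ⟨⟨a', b'⟩, s'⟩ h
    cases s <;> cases s' <;> simp only [Bool.false_eq_true, if_false, if_true] at h <;>
      have h' := congrArg (fun z : T S => ((z : GL (ι ⊕ ι) F) : Matrix (ι ⊕ ι) (ι ⊕ ι) F)) h <;>
      simp only [diagU, antiU, fromBlocks_inj] at h'
    · rw [Subtype.ext (Units.ext h'.1), Subtype.ext (Units.ext h'.2.2.2)]
    · exact absurd h'.1 (hne _)
    · exact absurd h'.1.symm (hne _)
    · rw [Subtype.ext (Units.ext h'.2.1), Subtype.ext (Units.ext h'.2.2.1)]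
  · rintro ⟨M, a, ha, b, hb, hM | hM⟩
    · exact ⟨((⟨a, ha⟩, ⟨b, hb⟩), false), Subtype.ext (Units.ext hM.symm)⟩
    · exact ⟨((⟨a, ha⟩, ⟨b, hb⟩), true), Subtype.ext (Units.ext hM.symm)⟩

lemma two_ne_zero_mat (h2 : (2 : F) ≠ 0) {X : Matrix ι ι F} (h : -X = X) : X = 0 := by
  ext i j
  have := congrFun (congrFun h i) j
  rw [Matrix.neg_apply] at this
  exact (mul_eq_zero.1 (show (2 : F) * X i j = 0 by linear_combination -this)).resolve_left h2

lemma exists_nonscalar (hS : Core S) (hn : 2 ≤ Fintype.card ι) :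
    ∃ x ∈ S, (x : Matrix ι ι F).det = 1 ∧ ∀ a : F, (x : Matrix ι ι F) ≠ a • 1 := by
  by_contra h
  push Not at h
  obtain ⟨i, j, hij⟩ := Fintype.exists_pair_of_one_lt_card hn
  obtain ⟨a, ha⟩ := hS.irred (Matrix.single i j 1) fun x hx hd => by
    obtain ⟨b, hb⟩ := h x hx hd
    rw [hb, mul_smul_comm, smul_mul_assoc, mul_one, one_mul]
  have := congrFun (congrFun ha i) j
  simp [hij] at this

/-- An odd element normalising an intermediate group is scalar. -/
lemma odd_scalar (hS : Core S) (h2 : (2 : F) ≠ 0) (hn : 2 ≤ Fintype.card ι) (he : Even (Fintype.card ι))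
    (T0 : Subgroup (GL (ι ⊕ ι) F)) (hle : T0 ≤ T S)
    (hge : ∀ M ∈ T S, (M : Matrix (ι ⊕ ι) (ι ⊕ ι) F).det = 1 → M ∈ T0)
    (g : GL (ι ⊕ ι) F) (hg : Odd (orderOf g)) (hgT : ∀ x ∈ T0, g * x * g⁻¹ ∈ T0) :
    ∃ a : F, (g : Matrix (ι ⊕ ι) (ι ⊕ ι) F) = a • (1 : Matrix (ι ⊕ ι) (ι ⊕ ι) F) := by
  classical
  haveI : Nonempty ι := Fintype.card_pos_iff.1 (by omega)
  obtain ⟨r, hr⟩ := id hg
  have hgr : g ^ (2 * r + 1) = 1 := by rw [← hr, pow_orderOf_eq_one]
  have hpow : ∀ (n : ℕ), ∀ x ∈ T0, g ^ n * x * (g ^ n)⁻¹ ∈ T0 := by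
    intro n
    induction n with
    | zero => intro x hx; simpa using hx
    | succ n ih =>
      intro x hx
      rw [pow_succ', show g * g ^ n * x * (g * g ^ n)⁻¹ = g * (g ^ n * x * (g ^ n)⁻¹) * g⁻¹ by group]
      exact hgT _ (ih x hx)
  have hginv : ∀ x ∈ T0, g⁻¹ * x * g ∈ T0 := by
    intro x hx
    have e : g ^ (2 * r) = g⁻¹ := by rw [eq_inv_iff_mul_eq_one, ← pow_succ, hgr]
    simpa [e] using hpow (2 * r) x hx
  obtain ⟨z1, hz1, hz1v⟩ := hS.negOne
  have hdneg : (z1 : Matrix ι ι F).det = 1 := by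
    rw [hz1v, Matrix.det_neg, Matrix.det_one, mul_one, he.neg_one_pow]
  set t := diagU (1 : GL ι F) z1 with ht
  have htv : (t : Matrix (ι ⊕ ι) (ι ⊕ ι) F) = fromBlocks 1 0 0 (-1) := by
    show fromBlocks (1 : GL ι F).val 0 0 z1.val = _
    rw [hz1v, Units.val_one]
  have htT : t ∈ T0 := hge _ ⟨1, one_mem _, z1, hz1, Or.inl rfl⟩ (by
    rw [ht, diagU_det, hdneg, Units.val_one, Matrix.det_one, one_mul])
  have htsq : t * t = 1 := Units.ext (by rw [Units.val_mul, htv, fromBlocks_multiply]; simp [fromBlocks_one])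
  have hsign : ∀ X ∈ T0, (t * X : GL (ι ⊕ ι) F).val = (X * t).val ∨
      (t * X : GL (ι ⊕ ι) F).val = -(X * t).val := by
    intro X hX
    obtain ⟨a, -, b, -, hM | hM⟩ := hle hX
    · left; rw [Units.val_mul, Units.val_mul, htv, hM, fromBlocks_multiply, fromBlocks_multiply]; simp
    · right
      rw [Units.val_mul, Units.val_mul, htv, hM, fromBlocks_multiply, fromBlocks_multiply, fromBlocks_neg]; simp
  obtain ⟨z, hz⟩ : ∃ z, z = g * t * g⁻¹ := ⟨_, rfl⟩
  have hzsign : ∀ X ∈ T0, (z * X : GL (ι ⊕ ι) F).val = (X * z).val ∨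
      (z * X : GL (ι ⊕ ι) F).val = -(X * z).val := by
    intro X hX
    have e1 : z * X = g * (t * (g⁻¹ * X * g)) * g⁻¹ := by rw [hz]; group
    have e2 : X * z = g * ((g⁻¹ * X * g) * t) * g⁻¹ := by rw [hz]; group
    rw [e1, e2]
    simp only [Units.val_mul g, Units.val_mul (g * _)]
    rcases hsign _ (hginv X hX) with e | e
    · left; rw [e]
    · right; rw [e]; simp
  obtain ⟨x, hx, hxd, hxns⟩ := exists_nonscalar hS hn
  have hX : ∀ x ∈ S, (x : Matrix ι ι F).det = 1 → diagU x 1 ∈ T0 ∧ diagU 1 x ∈ T0 := fun x hx hd =>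
    ⟨hge _ ⟨x, hx, 1, one_mem _, Or.inl rfl⟩ (by rw [diagU_det, hd, Units.val_one, Matrix.det_one, one_mul]),
      hge _ ⟨1, one_mem _, x, hx, Or.inl rfl⟩ (by rw [diagU_det, hd, Units.val_one, Matrix.det_one, one_mul])⟩
  obtain ⟨a, ha, b, hb, hzv | hzv⟩ := hle (hz ▸ hgT t htT : z ∈ T0)
  swap
  · exfalso
    have hane : (a : Matrix ι ι F) ≠ 0 := a.isUnit.ne_zero
    rcases hzsign _ (hX x hx hxd).1 with e | e <;>
      simp only [Units.val_mul, hzv, diagU, fromBlocks_multiply, fromBlocks_neg, fromBlocks_inj, mul_zero,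
        zero_mul, zero_add, add_zero, Units.val_one, mul_one, one_mul] at e
    · apply hxns 1
      have := congrArg (fun Y => Y * (a⁻¹).val) e.2.1
      simp only [mul_assoc, ← Units.val_mul, mul_inv_cancel, Units.val_one, mul_one] at this
      rw [one_smul]; exact this.symm
    · apply hxns (-1)
      have := congrArg (fun Y => Y * (a⁻¹).val) e.2.1
      simp only [neg_mul, mul_assoc, ← Units.val_mul, mul_inv_cancel, Units.val_one, mul_one] at this
      rw [neg_smul, one_smul, this, neg_neg]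
  have hscal : ∀ w : GL ι F, (∀ x ∈ S, (x : Matrix ι ι F).det = 1 → (w : Matrix ι ι F) * x.val = x.val * w.val) →
      ∃ α : F, (w : Matrix ι ι F) = α • 1 := fun w hw => hS.irred _ hw
  obtain ⟨α, hα⟩ := hscal a fun x hx hd => by
    rcases hzsign _ (hX x hx hd).1 with e | e <;>
      simp only [Units.val_mul, hzv, diagU, fromBlocks_multiply, fromBlocks_neg, fromBlocks_inj, mul_zero,
        zero_mul, zero_add, add_zero, Units.val_one, mul_one, one_mul] at e
    · exact e.1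
    · exact absurd (two_ne_zero_mat h2 e.2.2.2.symm) b.isUnit.ne_zero
  obtain ⟨β, hβ⟩ := hscal b fun x hx hd => by
    rcases hzsign _ (hX x hx hd).2 with e | e <;>
      simp only [Units.val_mul, hzv, diagU, fromBlocks_multiply, fromBlocks_neg, fromBlocks_inj, mul_zero,
        zero_mul, zero_add, add_zero, Units.val_one, mul_one, one_mul] at e
    · exact e.2.2.2
    · exact absurd (two_ne_zero_mat h2 e.1.symm) a.isUnit.ne_zero
  have hzz : (z * z : GL (ι ⊕ ι) F).val = 1 := by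
    rw [hz, show g * t * g⁻¹ * (g * t * g⁻¹) = g * (t * t) * g⁻¹ by group, htsq, mul_one, mul_inv_cancel]
    rfl
  obtain ⟨i⟩ := ‹Nonempty ι›
  have hα2 : α = 1 ∨ α = -1 := by
    have := congrFun (congrFun hzz (Sum.inl i)) (Sum.inl i)
    rw [Units.val_mul, hzv, fromBlocks_multiply, hα, hβ] at this
    simp at this
    rcases mul_self_eq_one_iff.1 this with e | e <;> simp [e]
  have hβ2 : β = 1 ∨ β = -1 := by
    have := congrFun (congrFun hzz (Sum.inr i)) (Sum.inr i)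
    rw [Units.val_mul, hzv, fromBlocks_multiply, hα, hβ] at this
    simp at this
    rcases mul_self_eq_one_iff.1 this with e | e <;> simp [e]
  have hαβ : α ≠ β := by
    rintro rfl
    have e : z = (g * t * g⁻¹ : GL (ι ⊕ ι) F) := hz
    have hzs : (z : Matrix (ι ⊕ ι) (ι ⊕ ι) F) = α • 1 := by
      rw [hzv, hα, hβ, ← fromBlocks_one, fromBlocks_smul, smul_zero]
    have htz : t = g⁻¹ * z * g := by rw [e]; group
    have := congrArg Units.val htz
    rw [Units.val_mul, Units.val_mul, hzs, htv, mul_smul_comm, mul_one, smul_mul_assoc, ← Units.val_mul,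
      inv_mul_cancel, Units.val_one, ← fromBlocks_one, fromBlocks_smul, fromBlocks_inj] at this
    have h1 := congrFun (congrFun this.1 i) i
    have h4 := congrFun (congrFun this.2.2.2 i) i
    simp at h1 h4
    exact h2 (by linear_combination h1 - h4)
  have hzt : (z : Matrix (ι ⊕ ι) (ι ⊕ ι) F) = t.val ∨ (z : Matrix (ι ⊕ ι) (ι ⊕ ι) F) = -t.val := by
    rw [hzv, hα, hβ, htv, fromBlocks_neg]
    rcases hα2 with rfl | rfl <;> rcases hβ2 with rfl | rfl
    · exact absurd rfl hαβ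
    · left; simp
    · right; simp
    · exact absurd rfl hαβ
  have hgt : g * t = z * g := by rw [hz]; group
  have hcomm : g.val * t.val = t.val * g.val := by
    rcases hzt with e | e
    · rw [← Units.val_mul, hgt, Units.val_mul, e]
    · exfalso
      have hgt' : g.val * t.val = -(t.val * g.val) := by rw [← Units.val_mul, hgt, Units.val_mul, e, neg_mul]
      have : ∀ n, g.val ^ n * t.val = (-1 : F) ^ n • (t.val * g.val ^ n) := by
        intro n
        induction n with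
        | zero => simp
        | succ n ih =>
          rw [pow_succ, mul_assoc, hgt', mul_neg, ← mul_assoc, ih, pow_succ, mul_neg_one, neg_smul,
            smul_mul_assoc, mul_assoc]
      have h' := this (2 * r + 1)
      rw [← Units.val_pow_eq_pow_val, hgr, Units.val_one, one_mul, mul_one, Odd.neg_one_pow ⟨r, rfl⟩,
        neg_smul, one_smul] at h'
      exact t.isUnit.ne_zero (two_ne_zero_mat h2 h'.symm)
  obtain ⟨g11, g12, g21, g22, hgv⟩ : ∃ A B C D, g.val = fromBlocks A B C D :=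
    ⟨_, _, _, _, (fromBlocks_toBlocks g.val).symm⟩
  rw [hgv, htv, fromBlocks_multiply, fromBlocks_multiply, fromBlocks_inj] at hcomm
  simp at hcomm
  have hB : g12 = 0 := two_ne_zero_mat h2 hcomm.1
  have hC : g21 = 0 := two_ne_zero_mat h2 hcomm.2.symm
  subst hB hC
  have hpowg : ∀ n, g.val ^ n = fromBlocks (g11 ^ n) 0 0 (g22 ^ n) := by
    intro n
    induction n with
    | zero => simp [fromBlocks_one]
    | succ n ih => rw [pow_succ, ih, hgv, fromBlocks_multiply]; simp [pow_succ]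
  have hr1 : g11 ^ (2 * r + 1) = 1 ∧ g22 ^ (2 * r + 1) = 1 := by
    have := hpowg (2 * r + 1)
    rw [← Units.val_pow_eq_pow_val, hgr, Units.val_one, ← fromBlocks_one, fromBlocks_inj] at this
    exact ⟨this.1.symm, this.2.2.2.symm⟩
  let G1 : GL ι F := (IsUnit.of_pow_eq_one hr1.1 (by omega)).unit
  let G2 : GL ι F := (IsUnit.of_pow_eq_one hr1.2 (by omega)).unit
  have hG : g = diagU G1 G2 := Units.ext hgv
  have hodd : ∀ G : GL ι F, G.val ^ (2 * r + 1) = 1 → Odd (orderOf G) := fun G hG =>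
    Odd.of_dvd_nat ⟨r, rfl⟩ (orderOf_dvd_of_pow_eq_one (Units.ext (by simpa using hG)))
  have hnorm : ∀ x ∈ S, G1 * x * G1⁻¹ ∈ S ∧ G2 * x * G2⁻¹ ∈ S := by
    intro x hx
    have hd : x.val.det * (x⁻¹).val.det = 1 := by
      rw [← Matrix.det_mul, ← Units.val_mul, mul_inv_cancel, Units.val_one, Matrix.det_one]
    constructor
    · have := hle (hgT _ (hge _ ⟨x, hx, x⁻¹, inv_mem hx, Or.inl rfl⟩ (by rw [diagU_det, hd] : (diagU x x⁻¹).val.det = 1)))
      obtain ⟨a, ha, b, -, e | e⟩ := this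
      · rw [hG, show diagU G1 G2 * diagU x x⁻¹ * (diagU G1 G2)⁻¹ = diagU (G1 * x * G1⁻¹) (G2 * x⁻¹ * G2⁻¹) from
          Units.ext (by simp [diagU, fromBlocks_multiply])] at e
        simp only [diagU, fromBlocks_inj] at e
        rwa [show G1 * x * G1⁻¹ = a from Units.ext e.1]
      · rw [hG, show diagU G1 G2 * diagU x x⁻¹ * (diagU G1 G2)⁻¹ = diagU (G1 * x * G1⁻¹) (G2 * x⁻¹ * G2⁻¹) from
          Units.ext (by simp [diagU, fromBlocks_multiply])] at e
        simp only [diagU, fromBlocks_inj] at e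
        exact absurd e.1 (G1 * x * G1⁻¹).isUnit.ne_zero
    · have := hle (hgT _ (hge _ ⟨x⁻¹, inv_mem hx, x, hx, Or.inl rfl⟩
        (by rw [diagU_det, mul_comm, hd] : (diagU x⁻¹ x).val.det = 1)))
      obtain ⟨a, -, b, hb, e | e⟩ := this
      · rw [hG, show diagU G1 G2 * diagU x⁻¹ x * (diagU G1 G2)⁻¹ = diagU (G1 * x⁻¹ * G1⁻¹) (G2 * x * G2⁻¹) from
          Units.ext (by simp [diagU, fromBlocks_multiply])] at e
        simp only [diagU, fromBlocks_inj] at e
        rwa [show G2 * x * G2⁻¹ = b from Units.ext e.2.2.2]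
      · rw [hG, show diagU G1 G2 * diagU x⁻¹ x * (diagU G1 G2)⁻¹ = diagU (G1 * x⁻¹ * G1⁻¹) (G2 * x * G2⁻¹) from
          Units.ext (by simp [diagU, fromBlocks_multiply])] at e
        simp only [diagU, fromBlocks_inj] at e
        exact absurd e.1 (G1 * x⁻¹ * G1⁻¹).isUnit.ne_zero
  obtain ⟨lam, hlam⟩ := hS.odd G1 (hodd _ hr1.1) fun x hx => (hnorm x hx).1
  obtain ⟨mu, hmu⟩ := hS.odd G2 (hodd _ hr1.2) fun x hx => (hnorm x hx).2
  -- the swap
  set σ := antiU (1 : GL ι F) z1 with hσ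
  have hσv : σ.val = fromBlocks 0 1 (-1) 0 := by
    show fromBlocks 0 (1 : GL ι F).val z1.val 0 = _
    rw [hz1v, Units.val_one]
  have hσd : σ.val.det = 1 := by
    have e : fromBlocks (0 : Matrix ι ι F) (1 : Matrix ι ι F) (-1 : Matrix ι ι F) (0 : Matrix ι ι F) =
        fromBlocks (1 : Matrix ι ι F) (1 : Matrix ι ι F) (0 : Matrix ι ι F) (1 : Matrix ι ι F) * fromBlocks (1 : Matrix ι ι F) (0 : Matrix ι ι F) (-1 : Matrix ι ι F) (1 : Matrix ι ι F) *
          fromBlocks (1 : Matrix ι ι F) (1 : Matrix ι ι F) (0 : Matrix ι ι F) (1 : Matrix ι ι F) := by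
      simp [fromBlocks_multiply]
    rw [hσv, e, det_mul, det_mul, det_fromBlocks_zero₂₁, det_fromBlocks_zero₁₂]
    simp
  have := hle (hgT _ (hge σ ⟨1, one_mem _, z1, hz1, Or.inr rfl⟩ hσd))
  have hgσ : (g * σ * g⁻¹).val = fromBlocks 0 (G1 * G2⁻¹).val (-(G2 * G1⁻¹).val) 0 := by
    rw [hG, Units.val_mul, Units.val_mul, hσv]
    show fromBlocks G1.val 0 0 G2.val * fromBlocks (0 : Matrix ι ι F) 1 (-1) 0 * fromBlocks (G1⁻¹).val 0 0 (G2⁻¹).val = _
    simp [fromBlocks_multiply]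
  obtain ⟨c, hc, d, -, e | e⟩ := this
  · rw [hgσ, fromBlocks_inj] at e
    exact absurd e.2.1 (G1 * G2⁻¹).isUnit.ne_zero
  rw [hgσ, fromBlocks_inj] at e
  have hcmem : G1 * G2⁻¹ ∈ S := by rwa [show G1 * G2⁻¹ = c from Units.ext e.2.1]
  obtain ⟨n, hn'⟩ := hS.pgroup ⟨_, hcmem⟩
  have hn2 : (G1 * G2⁻¹) ^ 2 ^ n = 1 := congrArg Subtype.val hn'
  have hc12' : Commute G1 G2 := Units.ext (by
    rw [Units.val_mul, Units.val_mul, hlam, smul_mul_assoc, one_mul, mul_smul_comm, mul_one])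
  have hc12 : Commute G1 G2⁻¹ := hc12'.inv_right
  have hr2 : (G1 * G2⁻¹) ^ (2 * r + 1) = 1 := by
    rw [hc12.mul_pow, inv_pow,
      show G1 ^ (2 * r + 1) = 1 from Units.ext hr1.1,
      show G2 ^ (2 * r + 1) = 1 from Units.ext hr1.2]
    simp
  have hcop : Nat.Coprime (2 ^ n) (2 * r + 1) := Nat.Coprime.pow_left n (Nat.coprime_two_left.2 ⟨r, rfl⟩)
  have h12 : G1 = G2 := mul_inv_eq_one.1 (by simpa [hcop.gcd_eq_one] using pow_gcd_eq_one.2 ⟨hn2, hr2⟩)
  refine ⟨lam, ?_⟩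
  rw [hG]
  show fromBlocks G1.val 0 0 G2.val = _
  rw [← h12, hlam, ← fromBlocks_one, fromBlocks_smul, smul_zero]

end Step

/-! ### Orders -/

variable (F) in
/-- The exponent of two in `|GL(n, F)|`. -/
noncomputable def v2 (n : ℕ) : ℕ := (Nat.card (GL (Fin n) F)).factorization 2

lemma card_GL_congr {ι : Type} [Fintype ι] [DecidableEq ι] {n : ℕ} (h : Fintype.card ι = n) :
    Nat.card (GL ι F) = Nat.card (GL (Fin n) F) :=
  Nat.card_congr (Units.mapEquiv (Matrix.reindexAlgEquiv F F (Fintype.equivFinOfCardEq h)).toMulEquiv).toEquiv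

lemma v2_formula (hq : Odd (Nat.card F)) (m : ℕ) :
    v2 F (2 * m) = m * (2 * padicValNat 2 (Nat.card F - 1) + padicValNat 2 (Nat.card F + 1)) +
      padicValNat 2 m.factorial := by
  haveI : Fact (Nat.Prime 2) := ⟨Nat.prime_two⟩
  set q := Nat.card F with hqdef
  have hq1 : 1 < q := PSLCard.one_lt_card F
  have hq2 : ¬ 2 ∣ q := by rw [Nat.two_dvd_ne_zero]; exact Nat.odd_iff.1 hq
  let f : ℕ → ℕ := fun i => padicValNat 2 (q ^ (i + 1) - 1)
  have hv : v2 F (2 * m) = ∑ i ∈ Finset.range (2 * m), f i := by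
    have hterm : ∀ i ∈ (Finset.univ : Finset (Fin (2 * m))),
        (q ^ (2 * m) - q ^ (i : ℕ)).factorization 2 = f (2 * m - 1 - i) := by
      intro i _
      rw [Nat.factorization_def _ Nat.prime_two,
        show q ^ (2 * m) - q ^ (i : ℕ) = q ^ (i : ℕ) * (q ^ (2 * m - i) - 1) by
          rw [Nat.mul_sub, mul_one, ← pow_add, Nat.add_sub_cancel' i.2.le],
        padicValNat.mul (by positivity) (by have := Nat.one_lt_pow (show 2 * m - (i : ℕ) ≠ 0 by omega) hq1; omega),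
        padicValNat.eq_zero_of_not_dvd (fun h => hq2 (Nat.prime_two.dvd_of_dvd_pow h)), zero_add]
      simp only [f]
      congr 3
      omega
    rw [v2, PSLCard.card_GL, Nat.factorization_prod_apply
      (fun i _ => Nat.sub_ne_zero_of_lt (Nat.pow_lt_pow_right hq1 i.2)), Finset.sum_congr rfl hterm,
      Fin.sum_univ_eq_sum_range (fun i => f (2 * m - 1 - i)), Finset.sum_range_reflect]
  rw [hv]
  clear hv
  induction m with
  | zero => simp
  | succ m ih =>
    have e1 : f (2 * m) = padicValNat 2 (q - 1) := by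
      simp only [f]
      have hgs : q ^ (2 * m + 1) - 1 = (∑ i ∈ Finset.range (2 * m + 1), q ^ i) * (q - 1) := by
        exact (geom_sum_mul_of_one_le (by omega : 1 ≤ q) (2 * m + 1)).symm
      have hodd : ¬ 2 ∣ ∑ i ∈ Finset.range (2 * m + 1), q ^ i := by
        rw [Nat.dvd_iff_mod_eq_zero, Finset.sum_nat_mod]
        simp [Nat.pow_mod, Nat.odd_iff.1 hq]
      rw [hgs, padicValNat.mul (fun h => hodd (by rw [h]; exact dvd_zero 2)) (by omega),
        padicValNat.eq_zero_of_not_dvd hodd, zero_add]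
    have e2 : f (2 * m + 1) = padicValNat 2 (q - 1) + padicValNat 2 (q + 1) + padicValNat 2 (m + 1) := by
      simp only [f]
      have := padicValNat.pow_two_sub_one hq1 hq2 (show 2 * m + 1 + 1 ≠ 0 by omega) ⟨m + 1, by ring⟩
      rw [show 2 * m + 1 + 1 = 2 * (m + 1) by ring, padicValNat.mul two_ne_zero (by omega)] at this
      rw [show 2 * m + 1 + 1 = 2 * (m + 1) by ring]
      simp at this
      omega
    rw [show 2 * (m + 1) = 2 * m + 1 + 1 by ring, Finset.sum_range_succ, Finset.sum_range_succ, ih, e1, e2,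
      Nat.factorial_succ, padicValNat.mul (by omega) (Nat.factorial_ne_zero m)]
    ring

/-- Doubling preserves the core properties. -/
theorem core_step {ι : Type} [Fintype ι] [DecidableEq ι] {S : Subgroup (GL ι F)} (h2 : (2 : F) ≠ 0)
    (hS : Core S) (hn : 2 ≤ Fintype.card ι) (he : Even (Fintype.card ι)) : Core (T S) := by
  haveI : Fact (Nat.Prime 2) := ⟨Nat.prime_two⟩
  haveI : Nonempty ι := Fintype.card_pos_iff.1 (by omega)
  refine ⟨?_, ?_, fun M hM => ?_, fun g hg hgT => odd_scalar hS h2 hn he _ le_rfl (fun M hM _ => hM) g hg hgT⟩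
  · obtain ⟨e, hcard⟩ := hS.pgroup.exists_card_eq
    exact IsPGroup.of_card (n := 2 * e + 1) (by rw [card_T, hcard, ← pow_mul, pow_succ]; ring)
  · obtain ⟨z, hz, hzv⟩ := hS.negOne
    refine ⟨diagU z z, ⟨z, hz, z, hz, Or.inl rfl⟩, ?_⟩
    show fromBlocks z.val 0 0 z.val = -1
    rw [hzv, ← fromBlocks_one, fromBlocks_neg, neg_zero]
  · obtain ⟨z, hz, hzv⟩ := hS.negOne
    obtain ⟨A, B, C, D, rfl⟩ : ∃ A B C D, M = fromBlocks A B C D := ⟨_, _, _, _, (fromBlocks_toBlocks M).symm⟩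
    have hzd : z.val.det = 1 := by rw [hzv, Matrix.det_neg, Matrix.det_one, mul_one, he.neg_one_pow]
    have hM1 : ∀ x ∈ S, x.val.det = 1 → A * x.val = x.val * A ∧ x.val * B = B ∧ C * x.val = C := by
      intro x hx hd
      have e := hM (diagU x 1) ⟨x, hx, 1, one_mem _, Or.inl rfl⟩
        (by rw [diagU_det, hd, Units.val_one, Matrix.det_one, one_mul])
      simp [diagU, fromBlocks_multiply] at e
      exact ⟨e.1, e.2.1.symm, e.2.2⟩
    obtain ⟨-, hB, hC⟩ := hM1 z hz hzd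
    rw [hzv, neg_one_mul] at hB
    rw [hzv, mul_neg_one] at hC
    have hB0 : B = 0 := two_ne_zero_mat h2 hB
    have hC0 : C = 0 := two_ne_zero_mat h2 hC
    obtain ⟨α, hα⟩ := hS.irred A fun x hx hd => (hM1 x hx hd).1
    have e := hM (antiU 1 z) ⟨1, one_mem _, z, hz, Or.inr rfl⟩ (by
      show (fromBlocks 0 (1 : GL ι F).val z.val 0).det = 1
      have e : fromBlocks (0 : Matrix ι ι F) (1 : Matrix ι ι F) (-1 : Matrix ι ι F) (0 : Matrix ι ι F) =
          fromBlocks (1 : Matrix ι ι F) (1 : Matrix ι ι F) (0 : Matrix ι ι F) (1 : Matrix ι ι F) * fromBlocks (1 : Matrix ι ι F) (0 : Matrix ι ι F) (-1 : Matrix ι ι F) (1 : Matrix ι ι F) *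
          fromBlocks (1 : Matrix ι ι F) (1 : Matrix ι ι F) (0 : Matrix ι ι F) (1 : Matrix ι ι F) := by
        simp [fromBlocks_multiply]
      rw [hzv, Units.val_one, e, det_mul, det_mul, det_fromBlocks_zero₂₁, det_fromBlocks_zero₁₂]
      simp)
    simp [antiU, fromBlocks_multiply, hzv, hB0, hC0] at e
    refine ⟨α, ?_⟩
    rw [hB0, hC0, ← e.1, hα, ← fromBlocks_one, fromBlocks_smul, smul_zero]

/-- Doubling. -/
theorem good_step {ι : Type} [Fintype ι] [DecidableEq ι] {S : Subgroup (GL ι F)} (hq : Odd (Nat.card F))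
    (hS : Good S) (k : ℕ) (hι : Fintype.card ι = 2 ^ (k + 1)) : Good (T S) := by
  haveI : Fact (Nat.Prime 2) := ⟨Nat.prime_two⟩
  have h2 := PSL2SylowTwo.two_ne_zero_of_odd hq
  have hn : 2 ≤ Fintype.card ι := by rw [hι]; exact Nat.le_self_pow (by omega) 2
  have he : Even (Fintype.card ι) := ⟨2 ^ k, by rw [hι]; ring⟩
  haveI : Nonempty ι := Fintype.card_pos_iff.1 (by omega)
  obtain ⟨-, hneg, hirr, hodd⟩ := core_step h2 hS.core hn he
  refine ⟨?_, hneg, hirr, hodd⟩
  have e1 := card_GL_congr (F := F) (show Fintype.card ι = 2 * 2 ^ k by rw [hι]; ring)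
  have e2 := card_GL_congr (F := F) (show Fintype.card (ι ⊕ ι) = 2 * 2 ^ (k + 1) by
    rw [Fintype.card_sum, hι]; ring)
  have key : v2 F (2 * 2 ^ (k + 1)) = 2 * v2 F (2 * 2 ^ k) + 1 := by
    rw [v2_formula hq, v2_formula hq, pow_succ', padicValNat_factorial_mul]
    have hfac : ∀ j : ℕ, padicValNat 2 (2 ^ j).factorial + 1 = 2 ^ j := by
      intro j
      induction j with
      | zero => simp
      | succ j ih => rw [pow_succ', padicValNat_factorial_mul]; omega
    have := hfac k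
    generalize padicValNat 2 (2 ^ k).factorial = w at *
    rw [← this]
    ring
  rw [card_T, hS.card, e1, e2]
  show 2 * (2 ^ v2 F (2 * 2 ^ k)) ^ 2 = 2 ^ v2 F (2 * 2 ^ (k + 1))
  rw [key, ← pow_mul, pow_succ]
  ring

theorem exists_good (hq : Odd (Nat.card F)) (k : ℕ) :
    ∃ (ι : Type) (_ : Fintype ι) (_ : DecidableEq ι), Fintype.card ι = 2 ^ (k + 1) ∧
      ∃ S : Subgroup (GL ι F), Good S := by
  induction k with
  | zero => exact ⟨Fin 2, inferInstance, inferInstance, rfl, exists_good_two hq⟩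
  | succ k ih =>
    obtain ⟨ι, _, _, hι, S, hS⟩ := ih
    exact ⟨ι ⊕ ι, inferInstance, inferInstance, by rw [Fintype.card_sum, hι]; ring, T S, good_step hq hS k hι⟩

/-- Sylow 2-subgroups of `SL(2^w, F)` are self-normalising for `w ≥ 2`. -/
theorem normalizer_le (hq : Odd (Nat.card F)) (w : ℕ) (hw : 2 ≤ w) (P : Sylow 2 SL(2 ^ w, F)) :
    Subgroup.normalizer ((P : Subgroup SL(2 ^ w, F)) : Set SL(2 ^ w, F)) ≤ P := by
  classical
  haveI : Fact (Nat.Prime 2) := ⟨Nat.prime_two⟩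
  have h2 := PSL2SylowTwo.two_ne_zero_of_odd hq
  obtain ⟨k, rfl⟩ : ∃ k, w = k + 2 := ⟨w - 2, by omega⟩
  obtain ⟨ι, _, _, hι, S, hS⟩ := exists_good hq k
  have hn : 2 ≤ Fintype.card ι := by rw [hι]; exact Nat.le_self_pow (by omega) 2
  have he : Even (Fintype.card ι) := ⟨2 ^ k, by rw [hι]; ring⟩
  have hT := good_step hq hS k hι
  have hcard : Fintype.card (Fin (2 ^ (k + 2))) = Fintype.card (ι ⊕ ι) := by
    rw [Fintype.card_fin, Fintype.card_sum, hι]; ring
  let e : Fin (2 ^ (k + 2)) ≃ ι ⊕ ι := Fintype.equivOfCardEq hcard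
  let ψ : SL(2 ^ (k + 2), F) →* GL (ι ⊕ ι) F :=
    (Units.map (Matrix.reindexAlgEquiv F F e).toMulEquiv.toMonoidHom).comp Matrix.SpecialLinearGroup.toGL
  have hψv : ∀ A, (ψ A).val = Matrix.reindex e e A.1 := fun A => rfl
  have hψ : Function.Injective ψ := fun A B h =>
    Subtype.ext ((Matrix.reindex e e).injective (congrArg Units.val h))
  have hψd : ∀ A, (ψ A).val.det = 1 := fun A => by rw [hψv, Matrix.det_reindex_self, A.2]
  let Tsyl : Sylow 2 (GL (ι ⊕ ι) F) := Sylow.ofCard (T S) hT.card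
  obtain ⟨R, hR⟩ := (P.isPGroup'.map ψ).exists_le_sylow
  obtain ⟨a, rfl⟩ := MulAction.exists_smul_eq (GL (ι ⊕ ι) F) Tsyl R
  have hPT : ∀ x ∈ (P : Subgroup SL(2 ^ (k + 2), F)), a⁻¹ * ψ x * a ∈ T S := by
    intro x hx
    have := hR (Subgroup.mem_map_of_mem ψ hx)
    rw [Sylow.coe_subgroup_smul, Subgroup.mem_pointwise_smul_iff_inv_smul_mem] at this
    have h' : a⁻¹ * ψ x * a ∈ (Tsyl : Subgroup (GL (ι ⊕ ι) F)) := by
      simpa [MulAut.smul_def, mul_assoc] using this
    exact h'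
  let D : Subgroup (GL (ι ⊕ ι) F) := T S ⊓ Matrix.GeneralLinearGroup.det.ker
  let ρ : SL(2 ^ (k + 2), F) →* GL (ι ⊕ ι) F := (MulAut.conj a⁻¹).toMonoidHom.comp ψ
  have hρ : ∀ x, ρ x = a⁻¹ * ψ x * a := fun x => by simp [ρ]
  have hρd : ∀ x, ρ x ∈ Matrix.GeneralLinearGroup.det.ker := fun x => by
    rw [MonoidHom.mem_ker, hρ, map_mul, map_mul, map_inv,
      show Matrix.GeneralLinearGroup.det (ψ x) = 1 from Units.ext (hψd x)]
    simp
  have hρi : Function.Injective ρ := (MulAut.conj a⁻¹).injective.comp hψ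
  have hPD : (P : Subgroup SL(2 ^ (k + 2), F)).map ρ = D := by
    have hsurj : ∀ M ∈ D, ∃ A, ρ A = M := by
      rintro M ⟨-, hM⟩
      have hd : (Matrix.reindex e.symm e.symm (a * M * a⁻¹ : GL (ι ⊕ ι) F).val).det = 1 := by
        rw [Matrix.det_reindex_self, ← Matrix.GeneralLinearGroup.val_det_apply, map_mul, map_mul, map_inv,
          (MonoidHom.mem_ker).1 hM]
        simp
      let A : SL(2 ^ (k + 2), F) := ⟨_, hd⟩
      refine ⟨A, ?_⟩
      have : ψ A = a * M * a⁻¹ := Units.ext (by rw [hψv]; simp [A])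
      rw [hρ, this]
      group
    refine le_antisymm ?_ fun M hM => ?_
    · rintro _ ⟨x, hx, rfl⟩
      exact ⟨hρ x ▸ hPT x hx, hρd x⟩
    · obtain ⟨A, rfl⟩ := hsurj M hM
      have hle : (P : Subgroup SL(2 ^ (k + 2), F)) ≤ D.comap ρ := fun x hx => ⟨hρ x ▸ hPT x hx, hρd x⟩
      have hpg : IsPGroup 2 (D.comap ρ) :=
        ((pos_exists hT).to_le inf_le_left).comap_of_injective ρ hρi
      exact ⟨A, P.is_maximal' hpg hle ▸ hM, rfl⟩
  intro g hg
  have hgD : ∀ x ∈ D, ρ g * x * (ρ g)⁻¹ ∈ D := by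
    intro x hx
    rw [← hPD] at hx ⊢
    obtain ⟨y, hy, rfl⟩ := hx
    exact ⟨g * y * g⁻¹, (Subgroup.mem_normalizer_iff.1 hg y).1 hy, by simp⟩
  have key : ∀ h : SL(2 ^ (k + 2), F), h ∈ Subgroup.zpowers g → Odd (orderOf h) → h = 1 := by
    intro h hh hodd
    have hhN : h ∈ Subgroup.normalizer ((P : Subgroup SL(2 ^ (k + 2), F)) : Set SL(2 ^ (k + 2), F)) :=
      Subgroup.zpowers_le.2 hg hh
    obtain ⟨α, hα⟩ := odd_scalar hS.core h2 hn he D inf_le_left
      (fun M hM hd => ⟨hM, MonoidHom.mem_ker.2 (Units.ext hd)⟩) (ρ h)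
      (by rwa [orderOf_injective ρ hρi]) fun x hx => by
        rw [← hPD] at hx ⊢
        obtain ⟨y, hy, rfl⟩ := hx
        exact ⟨h * y * h⁻¹, (Subgroup.mem_normalizer_iff.1 hhN y).1 hy, by simp⟩
    haveI : Nonempty ι := Fintype.card_pos_iff.1 (by omega)
    have hd : α ^ (2 ^ (k + 2)) = 1 := by
      have := congrArg Units.val (MonoidHom.mem_ker.1 (hρd h))
      rw [Matrix.GeneralLinearGroup.val_det_apply, hα, Matrix.det_smul, Matrix.det_one, mul_one,
        ← hcard, Fintype.card_fin] at this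
      exact this
    apply hρi
    rw [map_one]
    have hr : α ^ orderOf h = 1 := by
      have := congrArg Units.val (show ρ h ^ orderOf h = 1 by rw [← map_pow, pow_orderOf_eq_one, map_one])
      rw [Units.val_pow_eq_pow_val, hα, smul_pow, one_pow, Units.val_one] at this
      obtain ⟨i⟩ := (inferInstance : Nonempty (ι ⊕ ι))
      simpa using congrFun (congrFun this i) i
    have hcop : Nat.Coprime (2 ^ (k + 2)) (orderOf h) := Nat.Coprime.pow_left _ (Nat.coprime_two_left.2 hodd)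
    have hα1 : α = 1 := by simpa [hcop.gcd_eq_one] using pow_gcd_eq_one.2 ⟨hd, hr⟩
    exact Units.ext (by rw [hα, hα1, one_smul, Units.val_one])
  obtain ⟨n, m, hm, hnm⟩ := Nat.exists_eq_pow_mul_and_not_dvd (orderOf_pos g).ne' 2 (by norm_num)
  have hg2 : g ^ 2 ^ n = 1 := by
    refine key _ (pow_mem (Subgroup.mem_zpowers g) _) ?_
    rw [orderOf_pow' _ (pow_ne_zero _ two_ne_zero), hnm, Nat.gcd_eq_right (dvd_mul_right _ _),
      Nat.mul_div_cancel_left _ (by positivity)]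
    exact Nat.not_even_iff_odd.1 fun h => hm (even_iff_two_dvd.1 h)
  have hp : IsPGroup 2 (Subgroup.zpowers g) := by
    obtain ⟨j, -, hj⟩ := (Nat.dvd_prime_pow Nat.prime_two).1 (orderOf_dvd_of_pow_eq_one hg2)
    exact IsPGroup.of_card (by rw [Nat.card_zpowers, hj])
  have : g ∈ Subgroup.zpowers g ⊓ Subgroup.normalizer ((P : Subgroup SL(2 ^ (k + 2), F)) : Set SL(2 ^ (k + 2), F)) :=
    ⟨Subgroup.mem_zpowers g, hg⟩
  exact ((hp.inf_normalizer_sylow P).le this).2

end Cfsg.Agent.SylowTwoWreathSL
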