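import Mathlib
import Cfsg.Agent.Lib.SL2SylowNormalizer
import Cfsg.Agent.Lib.SylowTwoWreathSL
import Cfsg.Agent.Lib.PronormalOddIndex

set_option autoImplicit false

/-!
Subgroups of odd index of `SL(2, q)`, `q` odd, are pronormal.
-/

namespace Cfsg.Agent.PronormalSL2

open Matrix
open scoped MatrixGroups

section Abstract

variable {K : Type*} [Group K] [Finite K]

lemma card_map_mul (Z : Subgroup K) [Z.Normal] {A : Subgroup K} (hZA : Z ≤ A) :
    Nat.card (A.map (QuotientGroup.mk' Z)) * Nat.card Z = Nat.card A := by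
  have hker : ((QuotientGroup.mk' Z).comp A.subtype).ker = Z.subgroupOf A := by
    rw [← MonoidHom.comap_ker, QuotientGroup.ker_mk']; rfl
  have hr : ((QuotientGroup.mk' Z).comp A.subtype).range = A.map (QuotientGroup.mk' Z) := by
    rw [MonoidHom.range_comp, Subgroup.range_subtype]
  have := ((QuotientGroup.mk' Z).comp A.subtype).ker.card_mul_index
  rw [Subgroup.index_ker, hr, hker, Nat.card_congr (Subgroup.subgroupOfEquivOfLe hZA).toEquiv] at this
  rw [mul_comm]; exact this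

/-- A complement of a self-normalising Sylow subgroup of order eight modulo a subgroup of order two. -/
theorem exists_complement (S : Sylow 2 K) (hS : Nat.card S = 8) (Z : Subgroup K) [Z.Normal]
    (hZ : Nat.card Z = 2) (hZS : Z ≤ (S : Subgroup K))
    (hN : Subgroup.normalizer ((S : Subgroup K) : Set K) ≤ S) :
    ∃ L : Subgroup K, L.Normal ∧ Z ≤ L ∧ ¬ 4 ∣ Nat.card L ∧
      ∀ k : K, ∃ l ∈ L, ∃ s ∈ (S : Subgroup K), k = l * s := by
  haveI : Fact (Nat.Prime 2) := ⟨Nat.prime_two⟩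
  have hf := QuotientGroup.mk'_surjective Z
  let P : Sylow 2 (K ⧸ Z) := S.mapSurjective hf
  have hPdef : (P : Subgroup (K ⧸ Z)) = (S : Subgroup K).map (QuotientGroup.mk' Z) := Sylow.coe_mapSurjective hf S
  have hPcard : Nat.card (P : Subgroup (K ⧸ Z)) = 2 ^ 2 := by
    have := card_map_mul Z hZS
    rw [← hPdef, hZ, hS] at this
    omega
  have hPN : Subgroup.normalizer ((P : Subgroup (K ⧸ Z)) : Set (K ⧸ Z)) ≤ P := by
    intro x hx
    obtain ⟨k, rfl⟩ := hf x
    rw [hPdef] at hx ⊢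
    refine Subgroup.mem_map_of_mem _ (hN (Subgroup.mem_normalizer_fintype fun s hs => ?_))
    obtain ⟨s', hs', e⟩ := (Subgroup.mem_normalizer_iff.1 hx _).1 (Subgroup.mem_map_of_mem _ hs)
    rw [← map_inv, ← map_mul, ← map_mul] at e
    obtain ⟨z, hz, e⟩ := (QuotientGroup.mk'_eq_mk' Z).1 e
    exact e ▸ mul_mem hs' (hZS hz)
  have hP : Subgroup.normalizer ((P : Subgroup (K ⧸ Z)) : Set (K ⧸ Z)) ≤
      Subgroup.centralizer ((P : Subgroup (K ⧸ Z)) : Set (K ⧸ Z)) := fun x hx =>
    Subgroup.mem_centralizer_iff.2 fun b hb => congrArg Subtype.val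
      (IsPGroup.commutative_of_card_eq_prime_sq (p := 2) hPcard ⟨b, hb⟩ ⟨x, hPN hx⟩)
  have hcomp := MonoidHom.ker_transferSylow_isComplement' P hP
  have hodd := MonoidHom.not_dvd_card_ker_transferSylow P hP
  refine ⟨(MonoidHom.transferSylow P hP).ker.comap (QuotientGroup.mk' Z), inferInstance, fun z hz => ?_, ?_,
    fun k => ?_⟩
  · rw [Subgroup.mem_comap, show QuotientGroup.mk' Z z = 1 from (QuotientGroup.eq_one_iff z).2 hz]
    exact one_mem _
  · intro h4
    have := card_map_mul Z (A := (MonoidHom.transferSylow P hP).ker.comap (QuotientGroup.mk' Z)) fun z hz => by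
      rw [Subgroup.mem_comap, show QuotientGroup.mk' Z z = 1 from (QuotientGroup.eq_one_iff z).2 hz]
      exact one_mem _
    rw [Subgroup.map_comap_eq_self_of_surjective hf, hZ] at this
    rw [← this] at h4
    exact hodd (Nat.dvd_of_mul_dvd_mul_right two_pos (by simpa using h4))
  · obtain ⟨⟨⟨o, ho⟩, ⟨b, hb⟩⟩, e⟩ := hcomp.2 (QuotientGroup.mk' Z k)
    have hb' : b ∈ (S : Subgroup K).map (QuotientGroup.mk' Z) := hPdef ▸ hb
    obtain ⟨s, hs, rfl⟩ := hb'
    refine ⟨k * s⁻¹, ?_, s, hs, (inv_mul_cancel_right k s).symm⟩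
    rw [Subgroup.mem_comap, map_mul, map_inv, ← show o * QuotientGroup.mk' Z s = QuotientGroup.mk' Z k from e,
      mul_inv_cancel_right]
    exact ho

/-- An invariant Sylow subgroup of a normal subgroup. -/
theorem exists_invariant (S : Sylow 2 K) (L : Subgroup K) [L.Normal] (Z : Subgroup K) (hZc : Z ≤ Subgroup.center K)
    (hZ : Nat.card Z = 2) (hZL : Z ≤ L) (h4 : ¬ 4 ∣ Nat.card L) (r : ℕ) [Fact r.Prime] :
    ∃ P : Sylow r L, ∀ s ∈ (S : Subgroup K), ∀ x : L, x ∈ (P : Subgroup L) →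
      ∃ x' : L, x' ∈ (P : Subgroup L) ∧ (x' : K) = s * x * s⁻¹ := by
  haveI : Fact (Nat.Prime 2) := ⟨Nat.prime_two⟩
  obtain ⟨P⟩ := (inferInstance : Nonempty (Sylow r L))
  obtain ⟨N, hN⟩ : ∃ N, N = Subgroup.normalizer (((P : Subgroup L).map L.subtype : Subgroup K) : Set K) := ⟨_, rfl⟩
  have hsup : N ⊔ L = ⊤ := hN ▸ Sylow.normalizer_sup_eq_top P
  have hidx : ¬ 2 ∣ N.index := by
    intro h2
    have e1 : L.relIndex N = L.index := by
      rw [← Subgroup.relIndex_sup_right, hsup, Subgroup.relIndex_top_right]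
    have hZN : Z ≤ N := hN ▸ hZc.trans (Subgroup.center_le_normalizer _)
    have e2 := (L.subgroupOf N).card_mul_index
    have e3 := N.card_mul_index
    rw [← L.card_mul_index, ← e2, show (L.subgroupOf N).index = L.index from e1, mul_right_comm] at e3
    have e4 := Nat.eq_of_mul_eq_mul_right (Nat.pos_of_ne_zero Subgroup.index_ne_zero_of_finite) e3
    have hd : 2 ∣ Nat.card (L.subgroupOf N) := by
      rw [← hZ, ← Nat.card_congr (Subgroup.subgroupOfEquivOfLe hZN).toEquiv]
      exact Subgroup.card_dvd_of_le fun z hz => hZL hz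
    exact h4 (e4 ▸ Nat.mul_dvd_mul hd h2)
  obtain ⟨T⟩ := (inferInstance : Nonempty (Sylow 2 N))
  have hTK : ¬ 2 ∣ ((T : Subgroup N).map N.subtype).index := by
    rw [Subgroup.index_map_subtype]
    intro h'
    rcases Nat.prime_two.dvd_mul.1 h' with h' | h'
    · exact T.not_dvd_index h'
    · exact hidx h'
  obtain ⟨k, hk⟩ := MulAction.exists_smul_eq K ((T.isPGroup'.map N.subtype).toSylow hTK) S
  have hsurj : Function.Surjective ((MulAut.conjNormal k : MulAut L).toMonoidHom) :=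
    (MulAut.conjNormal k : MulAut L).surjective
  refine ⟨P.mapSurjective hsurj, fun s hs x hx => ?_⟩
  rw [Sylow.coe_mapSurjective] at hx ⊢
  obtain ⟨y, hy, rfl⟩ := hx
  rw [← hk, Sylow.coe_subgroup_smul] at hs
  obtain ⟨t, ht, rfl⟩ := hs
  have htN : t ∈ N := Subgroup.map_subtype_le _ ht
  rw [hN] at htN
  obtain ⟨y', hy', e⟩ := (Subgroup.mem_normalizer_iff.1 htN _).1 (Subgroup.mem_map_of_mem L.subtype hy)
  refine ⟨_, Subgroup.mem_map_of_mem _ hy', ?_⟩
  simp only [Subgroup.coe_subtype] at e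
  simp [MulAut.conjNormal_apply, e, mul_assoc]

/-- Transfer for every odd prime forces commutators of order at most two. -/
theorem commutator_sq {G : Type*} [Group G] [Finite G] (h4 : ¬ 4 ∣ Nat.card G)
    (hR : ∀ r : ℕ, r.Prime → r ≠ 2 → ∃ P : Sylow r G,
      Subgroup.normalizer ((P : Subgroup G) : Set G) ≤ Subgroup.centralizer ((P : Subgroup G) : Set G))
    (x y : G) : (x * y * x⁻¹ * y⁻¹) ^ 2 = 1 := by
  set c := x * y * x⁻¹ * y⁻¹ with hc
  have hodd : ∀ r : ℕ, r.Prime → r ≠ 2 → ¬ r ∣ orderOf c := by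
    intro r hr hr2
    haveI := Fact.mk hr
    obtain ⟨P, hP⟩ := hR r hr hr2
    have hcomm : ∀ a b : (P : Subgroup G), a * b = b * a := fun a b => Subtype.ext
      (Subgroup.mem_centralizer_iff.1 (hP (Subgroup.le_normalizer a.2)) b.1 b.2).symm
    have hck : c ∈ (MonoidHom.transferSylow P hP).ker := by
      rw [MonoidHom.mem_ker, hc, map_mul, map_mul, map_mul, map_inv, map_inv,
        hcomm (MonoidHom.transferSylow P hP x) (MonoidHom.transferSylow P hP y), mul_inv_cancel_right,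
        mul_inv_cancel]
    exact fun h => MonoidHom.not_dvd_card_ker_transferSylow P hP
      (h.trans (Subgroup.orderOf_dvd_natCard _ hck))
  obtain ⟨k, hk⟩ : ∃ k, orderOf c = 2 ^ k := ⟨_, Nat.eq_prime_pow_of_unique_prime_dvd (orderOf_pos c).ne'
    fun {d} hd hdvd => by
      by_contra h
      exact hodd d hd h hdvd⟩
  apply orderOf_dvd_iff_pow_eq_one.1
  rw [hk]
  have hk1 : k ≤ 1 := by
    by_contra h
    apply h4
    refine dvd_trans ?_ (orderOf_dvd_natCard c)
    rw [hk, show 4 = 2 ^ 2 from rfl]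
    exact pow_dvd_pow 2 (by omega)
  calc 2 ^ k ∣ 2 ^ 1 := pow_dvd_pow 2 hk1
    _ = 2 := pow_one 2

end Abstract

open PSL2Elements SL2Torus

variable {F : Type*} [Field F] [Finite F]

omit [Finite F] in
lemma tr_sq_ne_of_sq (h2 : (2 : F) ≠ 0) {c : SL(2, F)} (hc : c * c = -1) : tr c ^ 2 ≠ 4 := by
  have h := sq_eq c
  rw [← coe_mul', hc, coe_neg', coe_one'] at h
  have h0 : tr c • c.1 = 0 := by linear_combination (norm := module) -h
  rcases smul_eq_zero.1 h0 with e | e
  · rw [e]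
    intro h4
    have h4' : (2 : F) * 2 = 0 := by linear_combination -h4
    exact h2 (mul_self_eq_zero.1 h4')
  · have := c.2
    rw [e, Matrix.det_zero] at this
    exact absurd this zero_ne_one

omit [Finite F] in
/-- An element of order four sending `u` into its centraliser fixes or inverts it. -/
lemma fix_or_inv (h2 : (2 : F) ≠ 0) {c u : SL(2, F)} (hc : c * c = -1) (hu : u ∉ Subgroup.center SL(2, F))
    (h : Commute (c * u * c⁻¹) u) : c * u * c⁻¹ = u ∨ c * u * c⁻¹ = u⁻¹ := by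
  obtain ⟨x, y, hxy⟩ := exists_eq_of_commute hu (congrArg Subtype.val h.eq)
  have ht : tr (c * u * c⁻¹) = 2 * x + y * tr u := by
    rw [tr, hxy]; simp [tr]; ring
  rw [tr_conj] at ht
  have hcu : c.1 * (c * u * c⁻¹).1 = u.1 * c.1 := by
    rw [← coe_mul', ← coe_mul']
    congr 1
    rw [show c * (c * u * c⁻¹) = (c * c) * u * c⁻¹ by group, hc,
      show c⁻¹ = -c from inv_eq_of_mul_eq_one_right (by rw [mul_neg, hc, neg_neg])]
    simp
    rfl
  rw [hxy, mul_add, mul_smul_comm, mul_smul_comm, mul_one] at hcu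
  have hcu' : c.1 * u.1 = (x • (1 : Matrix (Fin 2) (Fin 2) F) + y • u.1) * c.1 := by
    rw [← hxy, ← coe_mul', ← coe_mul', inv_mul_cancel_right]
  rw [hcu', add_mul, smul_mul_assoc, smul_mul_assoc, one_mul, smul_add, smul_smul, smul_smul] at hcu
  have he : ((x + y * x) • (1 : Matrix (Fin 2) (Fin 2) F) + (y * y - 1) • u.1) * c.1 = 0 := by
    rw [add_mul, smul_mul_assoc, smul_mul_assoc, one_mul]
    linear_combination (norm := module) hcu
  have he' : (x + y * x) • (1 : Matrix (Fin 2) (Fin 2) F) + (y * y - 1) • u.1 = 0 := by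
    have := congrArg (fun M => M * (c⁻¹).1) he
    simp only [mul_assoc, ← coe_mul', mul_inv_cancel, coe_one', mul_one, zero_mul] at this
    exact this
  have hy : y * y - 1 = 0 := by
    by_contra hy
    refine hu ((mem_center_iff_entries u).2 ⟨?_, ?_, ?_⟩)
    · have := congrFun (congrFun he' 0) 1
      simp at this
      exact this.resolve_left hy
    · have := congrFun (congrFun he' 1) 0
      simp at this
      exact this.resolve_left hy
    · have h00 := congrFun (congrFun he' 0) 0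
      have h11 := congrFun (congrFun he' 1) 1
      simp at h00 h11
      exact mul_left_cancel₀ hy (by linear_combination h00 - h11)
  rcases mul_self_eq_one_iff.1 (sub_eq_zero.1 hy) with rfl | rfl
  · left
    have hx : x = 0 := (mul_eq_zero.1 (show 2 * x = 0 by linear_combination -ht)).resolve_left h2
    exact Subtype.ext (by rw [hxy, hx]; simp)
  · right
    have hx : x = tr u := mul_left_cancel₀ h2 (show 2 * x = 2 * tr u by linear_combination -ht)
    refine Subtype.ext ?_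
    rw [hxy, hx]
    ext i j
    fin_cases i <;> fin_cases j <;> simp [SpecialLinearGroup.coe_inv, Matrix.adjugate_fin_two, tr]

omit [Finite F] in
/-- A noncentral element whose centraliser is invariant under a quaternion group lies in one of its three
tori. -/
lemma line_of_invariant (h2 : (2 : F) ≠ 0) {c y u : SL(2, F)} (hc : c * c = -1) (hy : y * y = -1)
    (hyc : y * c * y⁻¹ = c⁻¹) (hu : u ∉ Subgroup.center SL(2, F)) (h1 : Commute (c * u * c⁻¹) u)
    (h3 : Commute (y * u * y⁻¹) u) : u ∈ tor c ∨ u ∈ tor y ∨ u ∈ tor (y * c) := by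
  have hmem : ∀ g : SL(2, F), g * u * g⁻¹ = u → u ∈ tor g := fun g hg =>
    Subgroup.mem_centralizer_singleton_iff.2 (mul_inv_eq_iff_eq_mul.1 hg).symm
  rcases fix_or_inv h2 hc hu h1 with e | e
  · exact Or.inl (hmem c e)
  rcases fix_or_inv h2 hy hu h3 with e' | e'
  · exact Or.inr (Or.inl (hmem y e'))
  refine Or.inr (Or.inr (hmem _ ?_))
  calc y * c * u * (y * c)⁻¹ = y * (c * u * c⁻¹) * y⁻¹ := by group
    _ = (y * u * y⁻¹)⁻¹ := by rw [e]; group
    _ = u := by rw [e', inv_inv]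

/-- Odd index subgroups of `SL(2, F)` are pronormal. -/
theorem pronormal (hq : Odd (Nat.card F)) (H : Subgroup SL(2, F)) (hH : Odd H.index) : Cfsg.IsPronormal H := by
  classical
  haveI : Fact (Nat.Prime 2) := ⟨Nat.prime_two⟩
  have h2 := PSL2SylowTwo.two_ne_zero_of_odd hq
  obtain ⟨S⟩ := (inferInstance : Nonempty (Sylow 2 SL(2, F)))
  refine PronormalOddIndex.pronormal_of_base S (fun H _ hSH n hn => ?_) H hH
  have hone : n ∈ H → ∃ y ∈ H ⊔ H.map (MulAut.conj n).toMonoidHom,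
      H.map (MulAut.conj n).toMonoidHom = H.map (MulAut.conj y).toMonoidHom := fun hnH =>
    ⟨1, one_mem _, by
      rw [PronormalOddIndex.conj_map_of_mem hnH, PronormalOddIndex.conj_map_of_mem (one_mem H)]⟩
  by_cases h8' : Nat.card F % 8 = 1 ∨ Nat.card F % 8 = 7
  · exact hone (hSH (SL2SylowNormalizer.normalizer_sylow_two_self hq h8' S ▸ hn))
  have h8 : Nat.card F % 8 = 3 ∨ Nat.card F % 8 = 5 := by
    obtain ⟨m, hm⟩ := hq; omega
  obtain ⟨hS8, hN24, -⟩ := SL2SylowNormalizer.sylow_two_three hq h8 S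
  rw [hS8] at hN24
  obtain ⟨k, c, y, hk, hc, hy, hz, hoc, hyc, hyT, hoy, hcard, -⟩ := SL2SylowNormalizer.sylow_two_gens hq S
  obtain rfl : k = 1 := by
    have h2k : 2 ^ k = 2 ^ 1 := by omega
    exact Nat.pow_right_injective le_rfl h2k
  have sqn : ∀ g : SL(2, F), orderOf g = 4 → g * g = -1 := by
    intro g hg
    refine (eq_one_or_neg_one_of_sq_eq_one h2 ?_).resolve_left fun h => ?_
    · rw [← sq, ← pow_mul, show 2 * 2 = orderOf g by rw [hg], pow_orderOf_eq_one]
    · have := Nat.le_of_dvd two_pos (orderOf_dvd_of_pow_eq_one (show g ^ 2 = 1 by rwa [sq]))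
      omega
  have hcc : c * c = -1 := sqn c (by rw [hoc]; rfl)
  have hyy : y * y = -1 := sqn y hoy
  have hcenS : Subgroup.center SL(2, F) ≤ (S : Subgroup SL(2, F)) := fun z hz' => by
    rcases (mem_center_iff z).1 hz' with rfl | rfl
    exacts [one_mem _, hcc ▸ mul_mem hc hc]
  set K := H ⊔ H.map (MulAut.conj n).toMonoidHom with hK
  have hHK : H ≤ K := le_sup_left
  have hnK : ∀ h ∈ H, n * h * n⁻¹ ∈ K := fun h hh =>
    Subgroup.mem_sup_right ⟨h, hh, rfl⟩
  by_cases hNK : Subgroup.normalizer ((S : Subgroup SL(2, F)) : Set SL(2, F)) ⊓ K ≤ (S : Subgroup SL(2, F))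
  swap
  · refine ⟨n, ?_, rfl⟩
    set A := Subgroup.normalizer ((S : Subgroup SL(2, F)) : Set SL(2, F)) ⊓ K with hA
    have h1 : (S : Subgroup SL(2, F)) ≤ A := le_inf Subgroup.le_normalizer (hSH.trans hHK)
    have h2' : 8 ∣ Nat.card A := hS8 ▸ Subgroup.card_dvd_of_le h1
    have h3 : Nat.card A ∣ 24 := by
      show _ ∣ 3 * 8
      rw [← hN24]; exact Subgroup.card_dvd_of_le inf_le_left
    have h4 : Nat.card A ≠ 8 := fun e =>
      hNK (Subgroup.eq_of_le_of_card_ge h1 (le_of_eq (e.trans hS8.symm))).ge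
    have h5 : Nat.card A = 24 := by
      obtain ⟨a, ha⟩ := h2'
      rw [ha] at h3 h4
      have h6 : a ∣ 3 := Nat.dvd_of_mul_dvd_mul_left (by norm_num : 0 < 8) h3
      rcases (Nat.dvd_prime Nat.prime_three).1 h6 with rfl | rfl <;> omega
    have e := Subgroup.eq_of_le_of_card_ge (inf_le_left : A ≤ _) (le_of_eq (hN24.trans h5.symm))
    exact (e.ge hn).2
  -- the self-normalising case
  have hSK := hSH.trans hHK
  let S' : Sylow 2 K := S.subtype hSK
  have hmemS' : ∀ x : K, x ∈ (S' : Subgroup K) ↔ (x : SL(2, F)) ∈ (S : Subgroup SL(2, F)) := fun x => by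
    simp [S', Sylow.coe_subtype, Subgroup.mem_subgroupOf]
  obtain ⟨Z, hZdef⟩ : ∃ Z, Z = (Subgroup.center SL(2, F)).subgroupOf K := ⟨_, rfl⟩
  haveI : Z.Normal := hZdef ▸ inferInstance
  have hmemZ : ∀ x : K, x ∈ Z ↔ (x : SL(2, F)) ∈ Subgroup.center SL(2, F) := fun x => by
    rw [hZdef, Subgroup.mem_subgroupOf]
  have hZcard : Nat.card Z = 2 := by
    rw [hZdef, Nat.card_congr (Subgroup.subgroupOfEquivOfLe (hcenS.trans hSK)).toEquiv, card_center h2]
  have hS'8 : Nat.card S' = 8 := by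
    rw [← hS8]
    exact Nat.card_congr (Subgroup.subgroupOfEquivOfLe hSK).toEquiv
  obtain ⟨L, hLn, hZL, hL4, hKL⟩ := exists_complement S' hS'8 Z hZcard
    (fun x hx => (hmemS' x).2 (hcenS ((hmemZ x).1 hx))) fun x hx => (hmemS' x).2 (hNK ⟨
      Subgroup.mem_normalizer_fintype fun s hs => by
        have := (Subgroup.mem_normalizer_iff.1 hx ⟨s, hSK hs⟩).1 ((hmemS' _).2 hs)
        exact (hmemS' _).1 this, x.2⟩)
  have hvy : ∀ v : SL(2, F), (v = c ∨ v = y ∨ v = y * c) →
      v * v = -1 ∧ ∃ w ∈ (S : Subgroup SL(2, F)), w * v * w⁻¹ = v⁻¹ := by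
    have hinv : ∀ g : SL(2, F), g * g = -1 → g⁻¹ = -g := fun g hg =>
      inv_eq_of_mul_eq_one_right (by rw [mul_neg, hg, neg_neg])
    have hycm : y * c = -(c * y) := by
      have h := mul_inv_eq_iff_eq_mul.1 hyc
      rwa [hinv c hcc, neg_mul] at h
    rintro v (rfl | rfl | rfl)
    · exact ⟨hcc, y, hy, hyc⟩
    · refine ⟨hyy, c, hc, ?_⟩
      rw [mul_inv_eq_iff_eq_mul, hinv _ hyy, neg_mul, hycm, neg_neg]
    · refine ⟨?_, c, hc, ?_⟩
      · rw [show y * c * (y * c) = y * (c * y) * c by group, ← neg_eq_iff_eq_neg.2 hycm]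
        simp only [mul_neg, neg_mul]
        rw [show y * (y * c) * c = (y * y) * (c * c) by group, hyy, hcc]
        simp
      · rw [_root_.mul_inv_rev, hinv y hyy, hinv c hcc, hycm]
        simp [← mul_assoc, hcc]
        rw [hycm, neg_neg]
  have hline : ∀ u : SL(2, F), u ∉ Subgroup.center SL(2, F) → Commute (c * u * c⁻¹) u →
      Commute (y * u * y⁻¹) u → ∃ v, (v = c ∨ v = y ∨ v = y * c) ∧ tor u = tor v := by
    intro u hu h1 h3
    have key : ∀ v, (v = c ∨ v = y ∨ v = y * c) → u ∈ tor v → tor u = tor v := fun v hv huv =>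
      tor_eq_of_mem (tr_sq_ne_of_sq h2 (hvy v hv).1) huv hu
    rcases line_of_invariant h2 hcc hyy hyc hu h1 h3 with e | e | e
    · exact ⟨c, Or.inl rfl, key c (Or.inl rfl) e⟩
    · exact ⟨y, Or.inr (Or.inl rfl), key y (Or.inr (Or.inl rfl)) e⟩
    · exact ⟨_, Or.inr (Or.inr rfl), key _ (Or.inr (Or.inr rfl)) e⟩
  have hord2 : ∀ l : L, l ^ 2 = 1 → ((l : K) : SL(2, F)) ∈ Subgroup.center SL(2, F) := by
    intro l hl
    have := congrArg (fun x : L => ((x : K) : SL(2, F))) hl
    simp only [SubmonoidClass.coe_pow, OneMemClass.coe_one, sq] at this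
    exact (mem_center_iff _).2 (eq_one_or_neg_one_of_sq_eq_one h2 (by rwa [sq]))
  -- normalisers of invariant Sylow subgroups of `L`
  have hR : ∀ r : ℕ, r.Prime → r ≠ 2 → ∃ P : Sylow r L,
      Subgroup.normalizer ((P : Subgroup L) : Set L) ≤ Subgroup.centralizer ((P : Subgroup L) : Set L) := by
    intro r hr hr2
    haveI := Fact.mk hr
    obtain ⟨P, hP⟩ := exists_invariant S' L Z (fun z hz' => Subgroup.mem_center_iff.2 fun g => Subtype.ext
      (Subgroup.mem_center_iff.1 ((hmemZ z).1 hz') g)) hZcard hZL hL4 r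
    refine ⟨P, fun g hg => Subgroup.mem_centralizer_iff.2 fun b hb => ?_⟩
    let κ : L →* SL(2, F) := K.subtype.comp L.subtype
    have hκ : Function.Injective κ := Subtype.val_injective.comp Subtype.val_injective
    by_cases hPb : (P : Subgroup L) = ⊥
    · obtain rfl : b = 1 := Subgroup.mem_bot.1 (hPb ▸ hb)
      simp
    haveI : Nontrivial (P : Subgroup L) := (Subgroup.nontrivial_iff_ne_bot _).2 hPb
    haveI := P.isPGroup'.center_nontrivial
    obtain ⟨⟨⟨z, hzP⟩, hzc⟩, hz1⟩ := exists_ne (1 : Subgroup.center (P : Subgroup L))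
    have hzcomm : ∀ p ∈ (P : Subgroup L), p * z = z * p := fun p hp =>
      congrArg Subtype.val (Subgroup.mem_center_iff.1 hzc ⟨p, hp⟩)
    have hanc : κ z ∉ Subgroup.center SL(2, F) := by
      intro hcen
      refine hz1 (Subtype.ext (Subtype.ext ?_))
      show z = 1
      have hsq : z ^ 2 = 1 := hκ (by
        rw [map_pow, map_one, sq]
        rcases (mem_center_iff _).1 hcen with e | e <;> rw [e] <;> simp)
      obtain ⟨i, hi⟩ := P.isPGroup' ⟨z, hzP⟩
      have hi' : z ^ (r ^ i) = 1 := congrArg Subtype.val hi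
      have hcop : Nat.Coprime 2 (r ^ i) := (Nat.coprime_primes Nat.prime_two hr).2 (Ne.symm hr2) |>.pow_right i
      simpa [hcop.gcd_eq_one] using pow_gcd_eq_one.2 ⟨hsq, hi'⟩
    have hconj : ∀ s (hs : s ∈ (S : Subgroup SL(2, F))), Commute (s * κ z * s⁻¹) (κ z) := by
      intro s hs
      obtain ⟨z', hz', e⟩ := hP ⟨s, hSK hs⟩ ((hmemS' _).2 hs) z hzP
      have e' : κ z' = s * κ z * s⁻¹ := congrArg Subtype.val e
      rw [← e']
      exact Commute.map (hzcomm z' hz') κ
    obtain ⟨v, hv, hvt⟩ := hline _ hanc (hconj c hc) (hconj y hy)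
    have hv4 := tr_sq_ne_of_sq h2 (hvy v hv).1
    have hPv : ∀ p ∈ (P : Subgroup L), κ p ∈ tor v := fun p hp => hvt ▸
      Subgroup.mem_centralizer_singleton_iff.2 (Commute.map (hzcomm p hp) κ).eq
    have hgz : κ g * κ z * (κ g)⁻¹ ∈ tor v := by
      have := hPv _ ((Subgroup.mem_normalizer_iff.1 hg z).1 hzP)
      rwa [map_mul, map_mul, map_inv] at this
    have hgv : κ g * v * (κ g)⁻¹ ∈ tor v := by
      rw [← tor_eq_of_mem hv4 hgz fun hh => hanc (by
        have := (inferInstance : (Subgroup.center SL(2, F)).Normal).conj_mem _ hh (κ g)⁻¹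
        simpa [mul_assoc] using this)]
      have hvz : v ∈ tor (κ z) := hvt ▸ self_mem v
      refine Subgroup.mem_centralizer_singleton_iff.2 ?_
      rw [show κ g * v * (κ g)⁻¹ * (κ g * κ z * (κ g)⁻¹) = κ g * (v * κ z) * (κ g)⁻¹ by group,
        Subgroup.mem_centralizer_singleton_iff.1 hvz]
      group
    have hgT : κ g ∈ tor v := by
      by_contra hgT
      obtain ⟨n', hn'⟩ := exists_inverter hv4
      have hgg := sq_eq_neg_one h2 hv4
        ((mem_normalizer_iff_or h2 hv4 hn').2 (mem_or_mem h2 hv4 hn' hgv)) hgT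
      apply hL4
      have h4 : orderOf (κ g) = 4 := orderOf_eq_prime_pow (p := 2) (n := 1)
        (by rw [pow_one, sq, hgg]; exact neg_one_ne h2)
        (by rw [show 2 ^ (1 + 1) = 2 * 2 from rfl, pow_mul, sq (κ g), hgg, sq]; simp)
      rw [orderOf_injective κ hκ] at h4
      exact h4 ▸ orderOf_dvd_natCard g
    exact hκ (by rw [map_mul, map_mul, tor_comm hv4 (hPv b hb) hgT])
  -- `L` is abelian
  obtain ⟨m, hm⟩ : 2 ∣ Nat.card L := by
    have h := Subgroup.card_dvd_of_le hZL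
    rwa [hZcard] at h
  obtain ⟨j, hj⟩ : Odd m := by
    rw [← Nat.not_even_iff_odd, even_iff_two_dvd]
    exact fun h => hL4 (hm ▸ Nat.mul_dvd_mul_left 2 h)
  have hcomm : ∀ x z : L, Commute ((x : K) : SL(2, F)) ((z : K) : SL(2, F)) := by
    intro x z
    obtain ⟨d, hd⟩ : ∃ d, d = x * z * x⁻¹ * z⁻¹ := ⟨_, rfl⟩
    have hd2 : d ^ 2 = 1 := hd ▸ commutator_sq hL4 hR x z
    have hdc : ∀ w : L, d * w = w * d := fun w => Subtype.ext (Subtype.ext
      (Subgroup.mem_center_iff.1 (hord2 d hd2) _).symm)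
    have hxz : x * z = d * (z * x) := by rw [hd]; group
    have hsq : Commute (x ^ 2) z := by
      show x ^ 2 * z = z * x ^ 2
      rw [sq, mul_assoc x x z, hxz, ← mul_assoc x d, ← hdc x, mul_assoc d x, ← mul_assoc x z x, hxz,
        ← mul_assoc d (d * (z * x)), ← mul_assoc d d, ← sq d, hd2, one_mul, mul_assoc]
    have hxm : Commute (x ^ (2 * j + 1)) z := by
      have h := hord2 (x ^ (2 * j + 1)) (by rw [← pow_mul, mul_comm, ← hj, ← hm, pow_card_eq_one'])
      exact Subtype.ext (Subtype.ext (Subgroup.mem_center_iff.1 h _).symm)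
    have e : x = ((x ^ 2) ^ j)⁻¹ * x ^ (2 * j + 1) := by rw [← pow_mul, pow_succ, inv_mul_cancel_left]
    have : Commute x z := by rw [e]; exact ((hsq.pow_left j).inv_left).mul_left hxm
    exact congrArg (fun w : L => ((w : K) : SL(2, F))) this.eq
  by_cases hHL : ∀ l : L, ((l : K) : SL(2, F)) ∈ H → ((l : K) : SL(2, F)) ∈ Subgroup.center SL(2, F)
  · have hHS : H = (S : Subgroup SL(2, F)) := by
      refine le_antisymm (fun h hh => ?_) hSH
      obtain ⟨l, hl, s, hs, e⟩ := hKL ⟨h, hHK hh⟩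
      have e' : h = (l : SL(2, F)) * (s : SL(2, F)) := congrArg Subtype.val e
      have hs' := (hmemS' s).1 hs
      have hlH : (l : SL(2, F)) ∈ H := by
        rw [show (l : SL(2, F)) = h * (s : SL(2, F))⁻¹ by rw [e']; group]
        exact mul_mem hh (inv_mem (hSH hs'))
      rw [e']
      exact mul_mem (hcenS (hHL ⟨l, hl⟩ hlH)) hs'
    refine ⟨1, one_mem _, ?_⟩
    rw [PronormalOddIndex.conj_map_of_mem (one_mem H), hHS]
    ext x
    constructor
    · rintro ⟨z, hz', rfl⟩
      exact (Subgroup.mem_normalizer_iff.1 hn z).1 hz'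
    · intro hx
      exact ⟨n⁻¹ * x * n, (Subgroup.mem_normalizer_iff.1 hn _).2 (by simpa [mul_assoc] using hx),
        by simp [mul_assoc]⟩
  push Not at hHL
  obtain ⟨l, hlH, hlc⟩ := hHL
  have hu : ((l ^ 2 : L) : K).1 ∉ Subgroup.center SL(2, F) := by
    intro hcen
    apply hlc
    apply hord2
    have h4 : l ^ 4 = 1 := Subtype.ext (Subtype.ext (by
      rw [show l ^ 4 = l ^ 2 * l ^ 2 by rw [← pow_add]]
      show ((l ^ 2 : L) : K).1 * ((l ^ 2 : L) : K).1 = 1
      rcases (mem_center_iff _).1 hcen with e | e <;> rw [e] <;> simp))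
    have hg : Nat.gcd 4 (Nat.card L) = 2 := by
      rw [hm, show 4 = 2 * 2 from rfl, Nat.gcd_mul_left]
      have : Nat.Coprime 2 m := Nat.coprime_two_left.2 ⟨j, hj⟩
      rw [this.gcd_eq_one]
    have h5 : l ^ Nat.gcd 4 (Nat.card L) = 1 := pow_gcd_eq_one.2 ⟨h4, pow_card_eq_one'⟩
    rwa [hg] at h5
  obtain ⟨u, hu_def⟩ : ∃ u : L, u = l ^ 2 := ⟨_, rfl⟩
  rw [← hu_def] at hu
  have hum : u ^ m = 1 := by rw [hu_def, ← pow_mul, ← hm, pow_card_eq_one']
  have huH : ((u : K) : SL(2, F)) ∈ H := by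
    rw [hu_def]; simp only [SubmonoidClass.coe_pow]; exact pow_mem hlH 2
  have hconj : ∀ s (hs : s ∈ (S : Subgroup SL(2, F))), Commute (s * (u : K).1 * s⁻¹) (u : K).1 := fun s hs => by
    obtain ⟨sK, hsK⟩ : ∃ sK : K, (sK : SL(2, F)) = s := ⟨⟨s, hSK hs⟩, rfl⟩
    have hmem : sK * (u : K) * sK⁻¹ ∈ L := hLn.conj_mem (u : K) u.2 sK
    have h := hcomm ⟨sK * (u : K) * sK⁻¹, hmem⟩ u
    simp only [Subgroup.coe_mul, Subgroup.coe_inv, hsK] at h
    exact h
  obtain ⟨v, hv, hvt⟩ := hline _ hu (hconj c hc) (hconj y hy)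
  obtain ⟨hvv, w, hw, hwv⟩ := hvy v hv
  have hv4 := tr_sq_ne_of_sq h2 hvv
  -- the conjugate of `u` stays in `L`
  obtain ⟨a, ha⟩ : ∃ a : K, a = ⟨n * (u : K).1 * n⁻¹, hnK _ huH⟩ := ⟨_, rfl⟩
  have haL : a ∈ L := by
    obtain ⟨l', hl', s, hs, e⟩ := hKL a
    have h1 : (QuotientGroup.mk' L a) ^ m = 1 := by
      rw [← map_pow, show a ^ m = 1 from Subtype.ext (by
        rw [ha, SubmonoidClass.coe_pow, conj_pow, ← SubmonoidClass.coe_pow, ← SubmonoidClass.coe_pow, hum]
        simp), map_one]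
    have h8' : (QuotientGroup.mk' L a) ^ 8 = 1 := by
      rw [e, map_mul, show QuotientGroup.mk' L l' = 1 from (QuotientGroup.eq_one_iff l').2 hl', one_mul, ← map_pow,
        show s ^ 8 = 1 by
          have := pow_card_eq_one' (x := (⟨s, hs⟩ : (S' : Subgroup K)))
          rw [hS'8] at this
          exact congrArg Subtype.val this, map_one]
    have hcop : Nat.Coprime 8 m := Nat.Coprime.pow_left 3 (Nat.coprime_two_left.2 ⟨j, hj⟩)
    have e2 : (QuotientGroup.mk' L a) ^ Nat.gcd 8 m = 1 := pow_gcd_eq_one.2 ⟨h8', h1⟩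
    rw [hcop.gcd_eq_one, pow_one] at e2
    exact (QuotientGroup.eq_one_iff a).1 e2
  have hav : n * (u : K).1 * n⁻¹ ∈ tor v := by
    rw [← hvt]
    exact Subgroup.mem_centralizer_singleton_iff.2 (by simpa [ha] using (hcomm ⟨a, haL⟩ u).eq)
  have hnv : n * v * n⁻¹ ∈ tor v := by
    rw [← tor_eq_of_mem hv4 hav fun hh => hu (by
      have := (inferInstance : (Subgroup.center SL(2, F)).Normal).conj_mem _ hh n⁻¹
      simpa [mul_assoc] using this)]
    have hvz : v ∈ tor (u : K).1 := hvt ▸ self_mem v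
    refine Subgroup.mem_centralizer_singleton_iff.2 ?_
    rw [show n * v * n⁻¹ * (n * (u : K).1 * n⁻¹) = n * (v * (u : K).1) * n⁻¹ by group,
      Subgroup.mem_centralizer_singleton_iff.1 hvz]
    group
  refine hone (hSH (SL2SylowNormalizer.mem_of_conj_mem_tor h2 S hv4 hw hwv (fun hwT => ?_) hn hnv))
  have h1 : w * v * w⁻¹ = v := mul_inv_eq_iff_eq_mul.2 (Subgroup.mem_centralizer_singleton_iff.1 hwT)
  have h2' : v * v = 1 := by rw [← mul_inv_cancel v, ← hwv, h1]
  exact neg_one_ne h2 (hvv ▸ h2')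

end Cfsg.Agent.PronormalSL2
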