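import Mathlib

/-!
Coordinates for a doubly transitive action of `PSL(2, p)` on `p + 1` points.
-/

set_option autoImplicit false

namespace Cfsg.Agent.PslActionCoord28

open Matrix MulAction
open scoped MatrixGroups

variable {p : ℕ} [hp : Fact p.Prime]

/-- Upper unitriangular matrices. -/
def U (x : ZMod p) : SL(2, ZMod p) := ⟨!![1, x; 0, 1], by simp [Matrix.det_fin_two]⟩

/-- Lower unitriangular matrices. -/
def Lo (x : ZMod p) : SL(2, ZMod p) := ⟨!![1, 0; x, 1], by simp [Matrix.det_fin_two]⟩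

/-- The standard involution. -/
def S0 : SL(2, ZMod p) := ⟨!![0, -1; 1, 0], by simp [Matrix.det_fin_two]⟩

/-- Diagonal matrices. -/
def D (a : (ZMod p)ˣ) : SL(2, ZMod p) :=
  ⟨!![(a : ZMod p), 0; 0, (a : ZMod p)⁻¹], by
    rw [Matrix.det_fin_two_of, mul_inv_cancel₀ a.ne_zero]; ring⟩

theorem U_coe (x : ZMod p) : (U x : Matrix (Fin 2) (Fin 2) (ZMod p)) = !![1, x; 0, 1] := rfl
theorem Lo_coe (x : ZMod p) : (Lo x : Matrix (Fin 2) (Fin 2) (ZMod p)) = !![1, 0; x, 1] := rfl
theorem S0_coe : ((S0 : SL(2, ZMod p)) : Matrix (Fin 2) (Fin 2) (ZMod p)) = !![0, -1; 1, 0] := rfl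
theorem D_coe (a : (ZMod p)ˣ) :
    (D a : Matrix (Fin 2) (Fin 2) (ZMod p)) = !![(a : ZMod p), 0; 0, (a : ZMod p)⁻¹] := rfl

theorem U_add (x y : ZMod p) : U (x + y) = U x * U y := by
  apply Subtype.ext; simp [U_coe, Matrix.mul_fin_two, add_comm]

theorem U_zero : U (0 : ZMod p) = 1 := by
  apply Subtype.ext; simp [U, Matrix.one_fin_two]

theorem U_pow (n : ℕ) : U (1 : ZMod p) ^ n = U (n : ZMod p) := by
  induction n with
  | zero => simp [U_zero]
  | succ n ih => rw [pow_succ, ih, Nat.cast_succ, U_add]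

theorem S0_sq_comm (M : SL(2, ZMod p)) : M * (S0 * S0) = (S0 * S0) * M := by
  apply Subtype.ext
  simp only [Matrix.SpecialLinearGroup.coe_mul, S0_coe]
  ext i j; fin_cases i <;> fin_cases j <;> simp [Matrix.mul_apply, Fin.sum_univ_two]

theorem D_mul_U (a : (ZMod p)ˣ) (x : ZMod p) : D a * U x = U ((a : ZMod p) ^ 2 * x) * D a := by
  apply Subtype.ext
  simp [U_coe, D_coe, Matrix.mul_fin_two, -ZMod.inv_coe_unit]
  field_simp

theorem D_mul_S0 (a : (ZMod p)ˣ) : D a * S0 = S0 * D a⁻¹ := by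
  apply Subtype.ext; simp [S0_coe, D_coe, Matrix.mul_fin_two, -ZMod.inv_coe_unit]

theorem U_conj_S0 (x : ZMod p) : S0 * U x * S0⁻¹ = Lo (-x) := by
  rw [mul_inv_eq_iff_eq_mul]
  apply Subtype.ext; simp [U_coe, S0_coe, Lo_coe, Matrix.mul_fin_two]

theorem key_identity {x : ZMod p} (hx : x ≠ 0) :
    S0 * U x * S0 = U (-x⁻¹) * S0 * (D (Units.mk0 x hx) * U (-x⁻¹)) := by
  apply Subtype.ext
  simp [U_coe, S0_coe, D_coe, Matrix.mul_fin_two, hx]

/-- Upper and lower unitriangular matrices generate. -/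
theorem generated (K : Subgroup SL(2, ZMod p)) (hU : ∀ x, U x ∈ K) (hL : ∀ x, Lo x ∈ K)
    (M : SL(2, ZMod p)) : M ∈ K := by
  have key : ∀ M : SL(2, ZMod p), M.1 1 0 ≠ 0 → M ∈ K := by
    intro M hc
    have e : M = U ((M.1 0 0 - 1) / M.1 1 0) * Lo (M.1 1 0) * U ((M.1 1 1 - 1) / M.1 1 0) := by
      have hd := M.2
      rw [Matrix.det_fin_two] at hd
      apply Subtype.ext
      simp only [Matrix.SpecialLinearGroup.coe_mul, U_coe, Lo_coe, Matrix.mul_fin_two]
      ext i j; fin_cases i <;> fin_cases j <;> simp <;> field_simp <;> grind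
    rw [e]
    exact K.mul_mem (K.mul_mem (hU _) (hL _)) (hU _)
  by_cases hc : M.1 1 0 = 0
  · have ha : M.1 0 0 ≠ 0 := by
      intro h0
      have hd := M.2
      rw [Matrix.det_fin_two, h0, hc] at hd
      simp at hd
    have h1 : (Lo 1 * M).1 1 0 ≠ 0 := by
      simp [Lo_coe, Matrix.SpecialLinearGroup.coe_mul, Matrix.mul_apply, Fin.sum_univ_two, hc, ha]
    have := K.mul_mem (K.inv_mem (hL 1)) (key _ h1)
    rwa [inv_mul_cancel_left] at this
  · exact key M hc

variable {X Ω : Type*} [Group X] [MulAction X Ω] [FaithfulSMul X Ω] [Finite Ω]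

/-- Coordinates of the projective line. -/
theorem exists_coord (hΩ : Nat.card Ω = p + 1) (L : Subgroup X)
    (ψ : ↥L ≃* Matrix.ProjectiveSpecialLinearGroup (Fin 2) (ZMod p))
    (htr : MulAction.IsPretransitive L Ω) :
    ∃ (o : Ω) (f : ZMod p → Ω), Function.Injective f ∧ (∀ x, f x ≠ o) ∧ (∀ y, y ≠ o → ∃ x, f x = y) ∧
      (∀ b : ZMod p, ∃ g ∈ L, g • o = o ∧ ∀ x, g • f x = f (x + b)) ∧
      (∀ a : ZMod p, a ≠ 0 → ∃ g ∈ L, g • o = o ∧ ∀ x, g • f x = f (a ^ 2 * x)) ∧
      ∃ s ∈ L, s • o = f 0 ∧ s • f 0 = o ∧ ∀ x : ZMod p, x ≠ 0 → s • f x = f (-x⁻¹) := by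
  classical
  let mk : SL(2, ZMod p) →* Matrix.ProjectiveSpecialLinearGroup (Fin 2) (ZMod p) :=
    QuotientGroup.mk' (Subgroup.center SL(2, ZMod p))
  let ρ : SL(2, ZMod p) →* X := L.subtype.comp (ψ.symm.toMonoidHom.comp mk)
  have hρL : ∀ M, ρ M ∈ L := fun M => (ψ.symm (mk M)).2
  have hρsurj : ∀ g ∈ L, ∃ M, ρ M = g := fun g hg => by
    obtain ⟨M, hM⟩ := QuotientGroup.mk'_surjective _ (ψ ⟨g, hg⟩)
    exact ⟨M, by change ((ψ.symm (mk M) : L) : X) = g; rw [show mk M = ψ ⟨g, hg⟩ from hM,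
      MulEquiv.symm_apply_apply]⟩
  have hker : ∀ M, ρ M = 1 → M ∈ Subgroup.center SL(2, ZMod p) := fun M h => by
    have h1 : ψ.symm (mk M) = 1 := Subtype.ext h
    exact (QuotientGroup.eq_one_iff M).mp (ψ.symm.map_eq_one_iff.mp h1)
  have hcent : ∀ M, M ∈ Subgroup.center SL(2, ZMod p) → ρ M = 1 := fun M h => by
    change ((ψ.symm (mk M) : L) : X) = 1
    rw [show mk M = 1 from (QuotientGroup.eq_one_iff M).mpr h, map_one, Subgroup.coe_one]
  have hu1 : ρ (U 1) ≠ 1 := fun h => by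
    have h1 := congrArg (fun M : SL(2, ZMod p) => M.1 0 0)
      (Subgroup.mem_center_iff.mp (hker _ h) S0)
    simp [U_coe, S0_coe, Matrix.SpecialLinearGroup.coe_mul, Matrix.mul_apply, Fin.sum_univ_two] at h1
  have hS2 : ρ S0 * ρ S0 = 1 := by
    rw [← map_mul]; exact hcent _ (Subgroup.mem_center_iff.mpr S0_sq_comm)
  have hord : orderOf (ρ (U 1)) = p := orderOf_eq_prime (by
    rw [← map_pow, U_pow, ZMod.natCast_self, U_zero, map_one]) hu1
  let P := Subgroup.zpowers (ρ (U 1))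
  have hP : IsPGroup p P := IsPGroup.of_card (n := 1) (by rw [Nat.card_zpowers, hord, pow_one])
  have hmod := hP.card_modEq_card_fixedPoints (α := Ω)
  have hlt : Nat.card (MulAction.fixedPoints P Ω) < p + 1 := by
    rw [← hΩ]
    refine Finite.card_subtype_lt (p := fun x => x ∈ MulAction.fixedPoints P Ω) (x := ?_) ?_
    · exact Classical.choose (show ∃ x : Ω, ρ (U 1) • x ≠ x by
        by_contra hc; push Not at hc
        exact hu1 (FaithfulSMul.eq_of_smul_eq_smul fun x : Ω => by rw [hc x, one_smul]))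
    · intro h
      exact Classical.choose_spec (show ∃ x : Ω, ρ (U 1) • x ≠ x by
        by_contra hc; push Not at hc
        exact hu1 (FaithfulSMul.eq_of_smul_eq_smul fun x : Ω => by rw [hc x, one_smul]))
        (h ⟨_, Subgroup.mem_zpowers _⟩)
  have hone : Nat.card (MulAction.fixedPoints P Ω) = 1 := by
    rw [hΩ, Nat.ModEq, Nat.add_mod_left, Nat.mod_eq_of_lt hp.out.one_lt] at hmod
    rcases lt_or_ge (Nat.card (MulAction.fixedPoints P Ω)) p with h | h
    · rw [Nat.mod_eq_of_lt h] at hmod; omega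
    · rw [show Nat.card (MulAction.fixedPoints P Ω) = p by omega, Nat.mod_self] at hmod
      exact absurd hmod one_ne_zero
  obtain ⟨hsub, ⟨⟨o, ho⟩⟩⟩ := Nat.card_eq_one_iff_unique.mp hone
  have hfix : ρ (U 1) • o = o := ho ⟨_, Subgroup.mem_zpowers _⟩
  have hfixU : ∀ x, ρ (U x) • o = o := fun x => by
    rw [← ZMod.natCast_zmod_val x, ← U_pow, map_pow]
    exact ho ⟨_, Subgroup.pow_mem _ (Subgroup.mem_zpowers _) _⟩
  have huniq : ∀ y : Ω, ρ (U 1) • y = y → y = o := fun y hy => by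
    have hy' : y ∈ MulAction.fixedPoints P Ω := fun m => MulAction.mem_stabilizer_iff.mp
      ((Subgroup.zpowers_le.mpr (MulAction.mem_stabilizer_iff.mpr hy) :
        P ≤ MulAction.stabilizer X y) m.2)
    exact congrArg Subtype.val (hsub.elim ⟨y, hy'⟩ ⟨o, ho⟩)
  have huniq' : ∀ (y : Ω) (x : ZMod p), x ≠ 0 → ρ (U x) • y = y → y = o := by
    intro y x hx hy
    refine huniq y ?_
    have e : U (1 : ZMod p) = U x ^ (x⁻¹).val := by
      rw [← ZMod.natCast_zmod_val x, ← U_pow, ← pow_mul, U_pow, Nat.cast_mul,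
        ZMod.natCast_zmod_val, ZMod.natCast_zmod_val, mul_inv_cancel₀ hx]
    rw [e, map_pow]
    exact MulAction.mem_stabilizer_iff.mp (Subgroup.pow_mem _ (MulAction.mem_stabilizer_iff.mpr hy) _)
  have hso : ρ S0 • o ≠ o := by
    intro h
    let K : Subgroup SL(2, ZMod p) := (MulAction.stabilizer X o).comap ρ
    have hall : ∀ M, M ∈ K := generated K hfixU fun x => by
      rw [← neg_neg x, ← U_conj_S0]
      have hs : S0 ∈ K := h
      exact K.mul_mem (K.mul_mem hs (hfixU (-x))) (K.inv_mem hs)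
    obtain ⟨y, hy⟩ : ∃ y : Ω, y ≠ o := by
      by_contra hc; push Not at hc
      haveI : Subsingleton Ω := ⟨fun a b => (hc a).trans (hc b).symm⟩
      have := Finite.card_le_one_iff_subsingleton.mpr (inferInstance : Subsingleton Ω)
      have := hp.out.one_lt
      omega
    obtain ⟨⟨g, hg⟩, hgy⟩ := htr.exists_smul_eq o y
    obtain ⟨M, rfl⟩ := hρsurj g hg
    exact hy (hgy.symm.trans (hall M))
  let f : ZMod p → Ω := fun x => ρ (U x) • ρ S0 • o
  have hf0 : f 0 = ρ S0 • o := by simp [f, U_zero]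
  have hfne : ∀ x, f x ≠ o := fun x h => hso (MulAction.injective (ρ (U x)) (h.trans (hfixU x).symm))
  have hinj : Function.Injective f := by
    intro x y hxy
    by_contra hne
    refine hso (huniq' _ (x - y) (sub_ne_zero.mpr hne) ?_)
    refine MulAction.injective (ρ (U y)) ?_
    change ρ (U y) • ρ (U (x - y)) • ρ S0 • o = ρ (U y) • ρ S0 • o
    rw [← mul_smul, ← map_mul, ← U_add, add_sub_cancel]
    exact hxy
  refine ⟨o, f, hinj, hfne, ?_, ?_, ?_, ρ S0, hρL _, hf0.symm, ?_, ?_⟩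
  · intro y hy
    haveI : Fintype Ω := Fintype.ofFinite _
    by_contra hc
    push Not at hc
    have h1 : (Finset.univ.image f) ⊆ (Finset.univ : Finset Ω) \ {o, y} := by
      intro z hz
      obtain ⟨x, -, rfl⟩ := Finset.mem_image.1 hz
      simp [hfne x, hc x]
    have h2 := Finset.card_le_card h1
    rw [Finset.card_image_of_injective _ hinj, Finset.card_univ, ZMod.card,
      Finset.card_sdiff_of_subset (Finset.subset_univ _), Finset.card_univ,
      ← Nat.card_eq_fintype_card (α := Ω), hΩ, Finset.card_pair hy.symm] at h2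
    omega
  · intro b
    refine ⟨ρ (U b), hρL _, hfixU b, fun x => ?_⟩
    simp only [f]
    rw [← mul_smul, ← map_mul, ← U_add, add_comm]
  · intro a ha
    have hDfix : ∀ c : (ZMod p)ˣ, ρ (D c) • o = o := by
      intro c
      refine huniq _ ?_
      have e : U (1 : ZMod p) * D c = D c * U ((c⁻¹ : (ZMod p)ˣ) ^ 2 : ZMod p) := by
        rw [D_mul_U]; congr 2; simp [-ZMod.inv_coe_unit]
      rw [← mul_smul, ← map_mul, e, map_mul, mul_smul, hfixU]
    refine ⟨ρ (D (Units.mk0 a ha)), hρL _, hDfix _, fun x => ?_⟩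
    simp only [f]
    rw [← mul_smul, ← map_mul, D_mul_U, map_mul, mul_smul]
    congr 1
    rw [← mul_smul, ← map_mul, D_mul_S0, map_mul, mul_smul, hDfix]
  · rw [hf0, ← mul_smul, hS2, one_smul]
  · intro x hx
    have hDfix : ρ (D (Units.mk0 x hx)) • o = o := by
      refine huniq _ ?_
      have e : U (1 : ZMod p) * D (Units.mk0 x hx) = D (Units.mk0 x hx) * U ((x⁻¹) ^ 2) := by
        rw [D_mul_U]; congr 2; simp; field_simp
      rw [← mul_smul, ← map_mul, e, map_mul, mul_smul, hfixU]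
    simp only [f]
    rw [← mul_smul, ← mul_smul, ← map_mul, ← map_mul, key_identity hx, map_mul, map_mul, map_mul,
      mul_smul, mul_smul, mul_smul, hfixU, hDfix]

end Cfsg.Agent.PslActionCoord28
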