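import Mathlib
import Cfsg.Prelude.Def_OddOrderLocal
import Cfsg.Agent.Lib.PGroupsBasic

/-!
Elementary properties of the Puig series.
-/

set_option autoImplicit false

namespace Cfsg.Agent.PuigBasic

variable {G : Type*} [Group G]

theorem puigStep_anti {X Y : Subgroup G} (h : X ≤ Y) : Cfsg.puigStep Y ≤ Cfsg.puigStep X :=
  sSup_le_sSup fun _ hA => ⟨hA.1, h.trans hA.2⟩

theorem le_puigStep {A X : Subgroup G} (hA : IsMulCommutative A)
    (hX : X ≤ Subgroup.normalizer (A : Set G)) : A ≤ Cfsg.puigStep X :=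
  le_sSup ⟨hA, hX⟩

theorem puigSeq_one : Cfsg.puigSeq G 1 = ⊤ := by
  rw [Subgroup.eq_top_iff']
  intro x
  exact le_puigStep (X := (⊥ : Subgroup G)) (A := Subgroup.zpowers x) inferInstance bot_le
    (Subgroup.mem_zpowers x)

theorem puigSeq_mono_two (n : ℕ) :
    Cfsg.puigSeq G (2 * n) ≤ Cfsg.puigSeq G (2 * n + 2) ∧
      Cfsg.puigSeq G (2 * n + 3) ≤ Cfsg.puigSeq G (2 * n + 1) := by
  induction n with
  | zero => exact ⟨bot_le, puigStep_anti (bot_le : (⊥ : Subgroup G) ≤ Cfsg.puigSeq G 2)⟩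
  | succ n ih =>
    exact ⟨puigStep_anti ih.2, puigStep_anti (puigStep_anti ih.2)⟩

theorem puigSeq_even_le_odd : ∀ s n m : ℕ, n + m = s →
    Cfsg.puigSeq G (2 * n) ≤ Cfsg.puigSeq G (2 * m + 1) := by
  intro s
  induction s using Nat.strong_induction_on with
  | _ s ih =>
  intro n m hs
  match n, m with
  | 0, m => exact bot_le
  | n + 1, 0 => exact le_top.trans (puigSeq_one (G := G)).ge
  | n + 1, m + 1 =>

    have h2 := puigStep_anti (ih (m + 1 + n) (by omega) (m + 1) n rfl)
    exact h2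

theorem exists_stable [Finite G] : ∃ k : ℕ, ∀ n : ℕ, k ≤ n →
    Cfsg.puigSeq G (2 * n) = Cfsg.puigLower G ∧ Cfsg.puigSeq G (2 * n + 1) = Cfsg.puigSubgroup G := by
  have hmono : Monotone fun n => Cfsg.puigSeq G (2 * n) :=
    monotone_nat_of_le_succ fun n => (puigSeq_mono_two n).1
  have hanti : Antitone fun n => Cfsg.puigSeq G (2 * n + 1) :=
    antitone_nat_of_succ_le fun n => (puigSeq_mono_two n).2
  obtain ⟨k, hk⟩ := monotone_chain_condition_of_finite ⟨_, hmono⟩
  refine ⟨k, fun n hn => ⟨?_, ?_⟩⟩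
  · refine le_antisymm (le_iSup (fun n => Cfsg.puigSeq G (2 * n)) n) (iSup_le fun m => ?_)
    rcases le_total m n with h | h
    · exact hmono h
    · exact ((hk n hn).symm.trans (hk m (hn.trans h))).ge
  · refine le_antisymm (le_iInf fun m => ?_) (iInf_le (fun n => Cfsg.puigSeq G (2 * n + 1)) n)
    rcases le_total m n with h | h
    · exact hanti h
    · refine le_of_eq ?_
      show Cfsg.puigStep _ = Cfsg.puigStep _
      exact congrArg Cfsg.puigStep ((hk n hn).symm.trans (hk m (hn.trans h)))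
where
  monotone_chain_condition_of_finite (f : ℕ →o Subgroup G) : ∃ n, ∀ m, n ≤ m → f n = f m :=
    WellFoundedGT.monotone_chain_condition f

theorem puigStep_lower [Finite G] : Cfsg.puigStep (Cfsg.puigLower G) = Cfsg.puigSubgroup G := by
  obtain ⟨k, hk⟩ := exists_stable (G := G)
  rw [← (hk k le_rfl).1, ← (hk k le_rfl).2]
  rfl

theorem puigStep_subgroup [Finite G] : Cfsg.puigStep (Cfsg.puigSubgroup G) = Cfsg.puigLower G := by
  obtain ⟨k, hk⟩ := exists_stable (G := G)
  rw [← (hk k le_rfl).2, ← (hk (k + 1) k.le_succ).1]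
  rfl

/-- A finite `p`-group has a normal abelian self-centralizing subgroup. -/
theorem exists_scn [Finite G] (p : ℕ) [Fact p.Prime] (hG : IsPGroup p G) :
    ∃ A : Subgroup G, A.Normal ∧ IsMulCommutative A ∧ Subgroup.centralizer (A : Set G) = A := by
  obtain ⟨A, -, hA⟩ := Finite.exists_le_maximal
    (p := fun A : Subgroup G => A.Normal ∧ IsMulCommutative A) (a := ⊥)
    ⟨inferInstance, inferInstance⟩
  obtain ⟨hAn, hAc⟩ := hA.1
  refine ⟨A, hAn, hAc, ?_⟩
  have hle : A ≤ Subgroup.centralizer (A : Set G) :=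
    PGroupsBasic.le_centralizer_of_isMulCommutative hAc
  by_contra hne
  obtain ⟨M, hMn, hAM, hMC, hMcard⟩ :=
    PGroupsBasic.exists_normal_succ hG (lt_of_le_of_ne hle (Ne.symm hne))
  have hAM' : A ≠ M := fun h => by
    rw [← h] at hMcard
    have := (Fact.out : p.Prime).two_le
    have := Nat.card_pos (α := A)
    nlinarith
  obtain ⟨y, hyM, hyA⟩ := SetLike.exists_of_lt (lt_of_le_of_ne hAM hAM')
  have hgen : A ⊔ Subgroup.zpowers y = M := by
    refine le_antisymm (sup_le hAM (Subgroup.zpowers_le.2 hyM)) (le_of_eq ?_)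
    refine (Subgroup.eq_of_le_of_card_ge (sup_le hAM (Subgroup.zpowers_le.2 hyM)) ?_).symm
    obtain ⟨c, hc⟩ := Subgroup.card_dvd_of_le (le_sup_left : A ≤ A ⊔ Subgroup.zpowers y)
    obtain ⟨d, hd⟩ := Subgroup.card_dvd_of_le (sup_le hAM (Subgroup.zpowers_le.2 hyM))
    have hcd : c * d = p := by
      have h1 : Nat.card A * (c * d) = Nat.card A * p := by rw [← mul_assoc, ← hc, ← hd, hMcard]
      exact Nat.eq_of_mul_eq_mul_left Nat.card_pos h1
    rcases (Nat.dvd_prime Fact.out).1 ⟨d, hcd.symm⟩ with h | h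
    · exfalso
      rw [h, mul_one] at hc
      have := Subgroup.eq_of_le_of_card_ge (le_sup_left : A ≤ A ⊔ Subgroup.zpowers y) hc.le
      exact hyA (this.symm ▸ Subgroup.mem_sup_right (Subgroup.mem_zpowers y))
    · rw [hMcard, hc, h]
  have hMc : IsMulCommutative M := by
    rw [← hgen]
    refine PGroupsBasic.isMulCommutative_of_le_centralizer (sup_le ?_ (Subgroup.zpowers_le.2 ?_))
    · intro a ha
      have h2 : A ⊔ Subgroup.zpowers y ≤ Subgroup.centralizer ({a} : Set G) :=
        sup_le (fun b hb => Subgroup.mem_centralizer_singleton_iff.2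
            (PGroupsBasic.comm_of_isMulCommutative hAc hb ha))
          (Subgroup.zpowers_le.2 (Subgroup.mem_centralizer_singleton_iff.2
            (hMC hyM a ha).symm))
      exact fun b hb => Subgroup.mem_centralizer_singleton_iff.1 (h2 hb)
    · have h2 : A ⊔ Subgroup.zpowers y ≤ Subgroup.centralizer ({y} : Set G) :=
        sup_le (fun b hb => Subgroup.mem_centralizer_singleton_iff.2 (hMC hyM b hb))
          (Subgroup.zpowers_le.2 (Subgroup.mem_centralizer_singleton_iff.2 rfl))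
      exact fun b hb => Subgroup.mem_centralizer_singleton_iff.1 (h2 hb)
  exact hAM' (le_antisymm hAM (hA.2 ⟨hMn, hMc⟩ hAM))

theorem scn_le_puigSeq [Finite G] {A : Subgroup G} (hAn : A.Normal) (hAc : IsMulCommutative A)
    {i : ℕ} (hi : 0 < i) : A ≤ Cfsg.puigSeq G i := by
  obtain ⟨j, rfl⟩ := Nat.exists_eq_succ_of_ne_zero hi.ne'
  exact le_puigStep hAc (by rw [Subgroup.normalizer_eq_top]; exact le_top)

end Cfsg.Agent.PuigBasic
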