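import Mathlib
import Cfsg.Prelude.Def_OddOrderLocal
import Cfsg.Agent.Lib.PuigBasic

/-!
The Puig series of a subgroup, viewed inside the ambient group.
-/

set_option autoImplicit false

namespace Cfsg.Agent.PuigRel

variable {G : Type*} [Group G]

/-- `L_n(R)` as a subgroup of the ambient group. -/
def rel (R : Subgroup G) (n : ℕ) : Subgroup G := (Cfsg.puigSeq R n).map R.subtype

/-- `L(R)` as a subgroup of the ambient group. -/
def relL (R : Subgroup G) : Subgroup G := (Cfsg.puigSubgroup R).map R.subtype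

/-- `L_*(R)` as a subgroup of the ambient group. -/
def relLower (R : Subgroup G) : Subgroup G := (Cfsg.puigLower R).map R.subtype

theorem rel_zero (R : Subgroup G) : rel R 0 = ⊥ := Subgroup.map_bot _

theorem rel_le (R : Subgroup G) (n : ℕ) : rel R n ≤ R := Subgroup.map_subtype_le _

theorem relL_le (R : Subgroup G) : relL R ≤ R := Subgroup.map_subtype_le _

theorem rel_one (R : Subgroup G) : rel R 1 = R := by
  rw [rel, PuigBasic.puigSeq_one, ← MonoidHom.range_eq_map, Subgroup.range_subtype]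

theorem le_rel {R A : Subgroup G} {n : ℕ} (hA : A ≤ R) (hAc : IsMulCommutative A)
    (hn : rel R n ≤ Subgroup.normalizer (A : Set G)) : A ≤ rel R (n + 1) := by
  have h1 : A.subgroupOf R ≤ Cfsg.puigStep (Cfsg.puigSeq R n) := by
    refine PuigBasic.le_puigStep ?_ ?_
    · exact ⟨⟨fun a b => Subtype.ext (Subtype.ext (PGroupsBasic.comm_of_isMulCommutative hAc a.2 b.2))⟩⟩
    · rw [← Subgroup.subgroupOf_normalizer_eq hA]
      exact fun x hx => hn ⟨x, hx, rfl⟩
  calc A = (A.subgroupOf R).map R.subtype := by rw [Subgroup.subgroupOf_map_subtype, inf_eq_left.2 hA]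
    _ ≤ _ := Subgroup.map_mono h1

theorem rel_succ_le {R X : Subgroup G} {n : ℕ}
    (h : ∀ A : Subgroup G, A ≤ R → IsMulCommutative A → rel R n ≤ Subgroup.normalizer (A : Set G) →
      A ≤ X) : rel R (n + 1) ≤ X := by
  rw [rel, Subgroup.map_le_iff_le_comap]
  refine sSup_le fun B hB => ?_
  obtain ⟨hBc, hBn⟩ := hB
  rw [← Subgroup.map_le_iff_le_comap]
  refine h _ (Subgroup.map_subtype_le _) ?_ ((Subgroup.map_mono hBn).trans
    (Subgroup.le_normalizer_map _))
  have := hBc
  infer_instance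

theorem rel_mono_two (R : Subgroup G) (n : ℕ) :
    rel R (2 * n) ≤ rel R (2 * n + 2) ∧ rel R (2 * n + 3) ≤ rel R (2 * n + 1) :=
  ⟨Subgroup.map_mono (PuigBasic.puigSeq_mono_two n).1,
    Subgroup.map_mono (PuigBasic.puigSeq_mono_two n).2⟩

theorem rel_even_le_relLower (R : Subgroup G) (n : ℕ) : rel R (2 * n) ≤ relLower R :=
  Subgroup.map_mono (le_iSup (fun n => Cfsg.puigSeq R (2 * n)) n)

theorem relL_le_rel_odd (R : Subgroup G) (n : ℕ) : relL R ≤ rel R (2 * n + 1) :=
  Subgroup.map_mono (iInf_le (fun n => Cfsg.puigSeq R (2 * n + 1)) n)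

theorem relLower_le_relL [Finite G] (R : Subgroup G) : relLower R ≤ relL R := by
  refine Subgroup.map_mono (iSup_le fun m => le_iInf fun n => ?_)
  exact PuigBasic.puigSeq_even_le_odd (m + n) m n rfl

theorem exists_stable [Finite G] (R : Subgroup G) : ∃ k, ∀ n, k ≤ n →
    rel R (2 * n) = relLower R ∧ rel R (2 * n + 1) = relL R := by
  obtain ⟨k, hk⟩ := PuigBasic.exists_stable (G := R)
  exact ⟨k, fun n hn => ⟨congrArg (Subgroup.map R.subtype) (hk n hn).1,
    congrArg (Subgroup.map R.subtype) (hk n hn).2⟩⟩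

theorem le_relL [Finite G] {R A : Subgroup G} (hA : A ≤ R) (hAc : IsMulCommutative A)
    (h : relLower R ≤ Subgroup.normalizer (A : Set G)) : A ≤ relL R := by
  obtain ⟨k, hk⟩ := exists_stable R
  rw [← (hk k le_rfl).2]
  exact le_rel hA hAc ((hk k le_rfl).1.symm ▸ h)

theorem le_relLower [Finite G] {R A : Subgroup G} (hA : A ≤ R) (hAc : IsMulCommutative A)
    (h : relL R ≤ Subgroup.normalizer (A : Set G)) : A ≤ relLower R := by
  obtain ⟨k, hk⟩ := exists_stable R
  rw [← (hk (k + 1) k.le_succ).1]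
  exact le_rel hA hAc ((hk k le_rfl).2.symm ▸ h)

theorem relL_le_of [Finite G] {R X : Subgroup G}
    (h : ∀ A : Subgroup G, A ≤ R → IsMulCommutative A →
      relLower R ≤ Subgroup.normalizer (A : Set G) → A ≤ X) : relL R ≤ X := by
  obtain ⟨k, hk⟩ := exists_stable R
  rw [← (hk k le_rfl).2]
  exact rel_succ_le fun A h1 h2 h3 => h A h1 h2 ((hk k le_rfl).1.symm ▸ h3)

/-- A normal abelian subgroup of `R` lies in every `L_n(R)`, `n ≥ 1`. -/
theorem abelian_normal_le_rel {R A : Subgroup G} (hA : A ≤ R) (hAc : IsMulCommutative A)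
    (hR : R ≤ Subgroup.normalizer (A : Set G)) (n : ℕ) : A ≤ rel R (n + 1) :=
  le_rel hA hAc ((rel_le R n).trans hR)

/-- `L(R) = L(S)` when `L(S) ≤ R ≤ S`. -/
theorem relL_eq_of_le [Finite G] {R S : Subgroup G} (hSR : relL S ≤ R) (hRS : R ≤ S) :
    relL R = relL S := by
  have h1 : ∀ n, rel R (2 * n) ≤ relLower S ∧ relL S ≤ rel R (2 * n + 1) := by
    intro n
    induction n with
    | zero => exact ⟨by rw [Nat.mul_zero, rel_zero]; exact bot_le, by rw [rel_one]; exact hSR⟩
    | succ n ih =>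
      have ha : rel R (2 * (n + 1)) ≤ relLower S :=
        rel_succ_le (n := 2 * n + 1) fun A hA hAc hAn => le_relLower (hA.trans hRS) hAc (ih.2.trans hAn)
      refine ⟨ha, relL_le_of fun A hA hAc hAn => ?_⟩
      exact le_rel ((le_relL hA hAc hAn).trans hSR) hAc (ha.trans hAn)
  have h2 : ∀ n, rel S (2 * n) ≤ rel R (2 * n) ∧ rel R (2 * n + 1) ≤ rel S (2 * n + 1) := by
    intro n
    induction n with
    | zero =>
      exact ⟨by rw [Nat.mul_zero, rel_zero]; exact bot_le,
        by rw [rel_one, rel_one]; exact hRS⟩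
    | succ n ih =>
      have ha : rel S (2 * (n + 1)) ≤ rel R (2 * (n + 1)) := by
        refine rel_succ_le (n := 2 * n + 1) fun A hA hAc hAn => le_rel ?_ hAc (ih.2.trans hAn)
        exact ((le_rel hA hAc hAn).trans (rel_even_le_relLower S (n + 1))).trans
          ((relLower_le_relL S).trans hSR)
      exact ⟨ha, rel_succ_le fun A hA hAc hAn => le_rel (hA.trans hRS) hAc (ha.trans hAn)⟩
  obtain ⟨k, hk⟩ := exists_stable R
  obtain ⟨l, hl⟩ := exists_stable S
  apply le_antisymm
  · rw [← (hk (max k l) (le_max_left _ _)).2, ← (hl (max k l) (le_max_right _ _)).2]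
    exact (h2 _).2
  · rw [← (hk k le_rfl).2]
    exact (h1 k).2

theorem map_rel {H : Type*} [Group H] (f : G →* H) {R : Subgroup G}
    (hf : Set.InjOn f (R : Set G)) (n : ℕ) : (rel R n).map f = rel (R.map f) n := by
  induction n with
  | zero => rw [rel_zero, rel_zero, Subgroup.map_bot]
  | succ n ih =>
    apply le_antisymm
    · rw [Subgroup.map_le_iff_le_comap]
      refine rel_succ_le fun A hA hAc hAn => ?_
      rw [← Subgroup.map_le_iff_le_comap]
      refine le_rel (Subgroup.map_mono hA) ?_ ?_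
      · have := hAc
        infer_instance
      · rw [← ih]
        exact (Subgroup.map_mono hAn).trans (Subgroup.le_normalizer_map f)
    · refine rel_succ_le fun A hA hAc hAn => ?_
      have hAeq : A = (R ⊓ A.comap f).map f := by
        refine le_antisymm (fun a ha => ?_) ?_
        · obtain ⟨r, hr, rfl⟩ := hA ha
          exact ⟨r, ⟨hr, ha⟩, rfl⟩
        · rintro _ ⟨r, hr, rfl⟩
          exact hr.2
      rw [hAeq]
      refine Subgroup.map_mono (le_rel inf_le_left ?_ ?_)
      · exact ⟨⟨fun a b => Subtype.ext (hf (R.mul_mem a.2.1 b.2.1) (R.mul_mem b.2.1 a.2.1) (by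
          simp only [Subgroup.coe_mul, map_mul]
          exact PGroupsBasic.comm_of_isMulCommutative hAc a.2.2 b.2.2))⟩⟩
      · intro x hx
        have hfx : f x ∈ Subgroup.normalizer (A : Set H) := hAn (ih ▸ ⟨x, hx, rfl⟩)
        have hxR : x ∈ R := rel_le R n hx
        rw [Subgroup.mem_normalizer_iff]
        intro a
        simp only [Subgroup.mem_inf, Subgroup.mem_comap, map_mul, map_inv]
        rw [← Subgroup.mem_normalizer_iff.1 hfx]
        exact and_congr_left fun _ =>
          ⟨fun ha => R.mul_mem (R.mul_mem hxR ha) (R.inv_mem hxR), fun ha => by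
            simpa [mul_assoc] using R.mul_mem (R.mul_mem (R.inv_mem hxR) ha) hxR⟩

theorem map_relL [Finite G] {H : Type*} [Group H] [Finite H] (f : G →* H) {R : Subgroup G}
    (hf : Set.InjOn f (R : Set G)) : (relL R).map f = relL (R.map f) := by
  obtain ⟨k, hk⟩ := exists_stable R
  obtain ⟨l, hl⟩ := exists_stable (R.map f)
  rw [← (hk (max k l) (le_max_left _ _)).2, ← (hl (max k l) (le_max_right _ _)).2, map_rel f hf]

/-- If `R` is normal then so is every `L_n(R)`. -/
theorem rel_normal {R : Subgroup G} [hR : R.Normal] (n : ℕ) : (rel R n).Normal := by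
  refine ⟨fun x hx g => ?_⟩
  have h := map_rel (MulAut.conj g).toMonoidHom (R := R) (MulAut.conj g).injective.injOn n
  have hRg : R.map (MulAut.conj g).toMonoidHom = R := Subgroup.Normal.map_conj_eq R g
  rw [hRg] at h
  rw [← h]
  exact ⟨x, hx, rfl⟩

/-- The centre of `L(R)` as a subgroup of the ambient group. -/
def relZ (R : Subgroup G) : Subgroup G := relL R ⊓ Subgroup.centralizer (relL R : Set G)

theorem relZ_comm (R : Subgroup G) : IsMulCommutative (relZ R) :=
  ⟨⟨fun a b => Subtype.ext (b.2.2 a a.2.1)⟩⟩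

theorem relZ_eq (R : Subgroup G) :
    ((Subgroup.center (Cfsg.puigSubgroup R)).map (Cfsg.puigSubgroup R).subtype).map R.subtype
      = relZ R := by
  apply le_antisymm
  · rintro _ ⟨r, ⟨c, hc, rfl⟩, rfl⟩
    refine ⟨⟨c.1, c.2, rfl⟩, Subgroup.mem_centralizer_iff.2 ?_⟩
    rintro _ ⟨d, hd, rfl⟩
    exact congrArg (fun z : Cfsg.puigSubgroup R => ((z : R) : G)) (Subgroup.mem_center_iff.1 hc ⟨d, hd⟩)
  · rintro x ⟨⟨r, hr, rfl⟩, hx⟩
    refine ⟨r, ⟨⟨r, hr⟩, Subgroup.mem_center_iff.2 fun d => Subtype.ext (Subtype.ext ?_), rfl⟩, rfl⟩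
    exact Subgroup.mem_centralizer_iff.1 hx _ ⟨d, d.2, rfl⟩

theorem map_relZ [Finite G] {H : Type*} [Group H] [Finite H] (f : G →* H) {R : Subgroup G}
    (hf : Set.InjOn f (R : Set G)) : (relZ R).map f = relZ (R.map f) := by
  rw [relZ, relZ, ← map_relL f hf]
  apply le_antisymm
  · rintro _ ⟨x, hx, rfl⟩
    refine ⟨⟨x, hx.1, rfl⟩, Subgroup.mem_centralizer_iff.2 ?_⟩
    rintro _ ⟨y, hy, rfl⟩
    rw [← map_mul, ← map_mul, Subgroup.mem_centralizer_iff.1 hx.2 y hy]
  · rintro _ ⟨⟨x, hx, rfl⟩, hc⟩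
    refine ⟨x, ⟨hx, Subgroup.mem_centralizer_iff.2 fun y hy => ?_⟩, rfl⟩
    refine hf (R.mul_mem (relL_le R hy) (relL_le R hx)) (R.mul_mem (relL_le R hx) (relL_le R hy)) ?_
    rw [map_mul, map_mul]
    exact Subgroup.mem_centralizer_iff.1 hc _ ⟨y, hy, rfl⟩

end Cfsg.Agent.PuigRel
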