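import Mathlib
import Cfsg.Agent.Lib.PSL2Sylow
import Cfsg.Agent.Lib.ChevalleySL2

/-!
In `PSL₂(F)` a nontrivial element of one Sylow subgroup of the defining characteristic generates
the group together with a suitable other one.
-/

set_option autoImplicit false

namespace Cfsg.Agent.PushingUpCLPSL

open Matrix Cfsg.Agent.PSL2Elements Cfsg.Agent.PSL2Sylow
open scoped MatrixGroups

variable {F : Type*} [Field F]

theorem closure_upper_lower {x : F} (hx : x ≠ 0) :
    Subgroup.closure ({ChevalleySL2.upper x} ∪ Set.range (ChevalleySL2.lower : F → SL(2, F))) = ⊤ := by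
  set C := Subgroup.closure ({ChevalleySL2.upper x} ∪ Set.range (ChevalleySL2.lower : F → SL(2, F)))
  have hl : ∀ t, ChevalleySL2.lower t ∈ C := fun t => Subgroup.subset_closure (Or.inr ⟨t, rfl⟩)
  have hx' : ChevalleySL2.upper x ∈ C := Subgroup.subset_closure (Or.inl rfl)
  set n := ChevalleySL2.upper x * ChevalleySL2.lower (-x⁻¹) * ChevalleySL2.upper x with hn
  have hnC : n ∈ C := mul_mem (mul_mem hx' (hl _)) hx'
  have hu : ∀ s, ChevalleySL2.upper s ∈ C := by
    intro s
    have e : n * ChevalleySL2.lower (-(s / (x * x))) = ChevalleySL2.upper s * n := by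
      apply ext2 <;>
        simp only [hn, mul_apply2] <;>
        simp [ChevalleySL2.upper, ChevalleySL2.lower] <;>
        field_simp <;> first | ring1 | simp
    have := mul_mem (mul_mem hnC (hl (-(s / (x * x))))) (inv_mem hnC)
    rwa [e, mul_inv_cancel_right] at this
  have hw : ChevalleySL2.wel ∈ C := by
    have e : (ChevalleySL2.wel : SL(2, F)) =
        ChevalleySL2.upper 1 * ChevalleySL2.lower (-1) * ChevalleySL2.upper 1 := by
      apply ext2 <;> simp only [mul_apply2] <;>
        simp [ChevalleySL2.wel, ChevalleySL2.upper, ChevalleySL2.lower]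
    rw [e]; exact mul_mem (mul_mem (hu 1) (hl _)) (hu 1)
  rw [eq_top_iff]
  intro g _
  have h : Submonoid.closure (Set.range (ChevalleySL2.upper : F → SL(2, F)) ∪ {ChevalleySL2.wel}) ≤
      C.toSubmonoid := Submonoid.closure_le.2 (by
    rintro z (⟨t, rfl⟩ | rfl)
    · exact hu t
    · exact hw)
  rw [ChevalleySL2.gen_top] at h
  exact h (Submonoid.mem_top g)

variable [Fintype F] (p : ℕ) [Fact p.Prime]

/-- A Sylow subgroup `U`, a conjugate `V`, generation from any `u ∈ U`, `u ≠ 1`, and `V`; the group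
is not a `p`-group. -/
theorem exists_generating {n : ℕ} (hF : Fintype.card F = p ^ n) :
    ∃ (U : Sylow p (Matrix.ProjectiveSpecialLinearGroup (Fin 2) F))
      (w : Matrix.ProjectiveSpecialLinearGroup (Fin 2) F),
      (∀ u ∈ U.toSubgroup, u ≠ 1 → Subgroup.closure ({u} ∪
        ((U.toSubgroup.map (MulAut.conj w).toMonoidHom :
          Subgroup (Matrix.ProjectiveSpecialLinearGroup (Fin 2) F)) :
            Set (Matrix.ProjectiveSpecialLinearGroup (Fin 2) F))) = ⊤) ∧
      U.toSubgroup ≠ ⊤ := by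
  have : CharP F p := by
    obtain ⟨q, hq⟩ := CharP.exists F
    obtain ⟨m, hqp, hm⟩ := FiniteField.card F q
    have : p = q := by
      rw [hF] at hm
      have h1 : q ∣ p ^ n := hm ▸ dvd_pow_self q m.ne_zero
      exact ((Nat.prime_dvd_prime_iff_eq hqp Fact.out).1 (hqp.dvd_of_dvd_pow h1)).symm
    exact this ▸ hq
  obtain ⟨P, hP⟩ := exists_sylow_eq_uSub (F := F) p
  let π := QuotientGroup.mk' (Subgroup.center SL(2, F))
  have hπ : Function.Surjective π := QuotientGroup.mk'_surjective _
  refine ⟨P.mapSurjective hπ, π ChevalleySL2.wel, ?_, ?_⟩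
  · intro u hu hu1
    rw [Sylow.coe_mapSurjective, hP] at hu ⊢
    obtain ⟨g, hg, rfl⟩ := hu
    obtain ⟨x, rfl⟩ := mem_uSub.1 hg
    have hx : x ≠ 0 := by
      rintro rfl
      apply hu1
      rw [show (PSL2Elements.u (0 : F)) = 1 from ext2 (by simp [PSL2Elements.u]) (by simp [PSL2Elements.u])
        (by simp [PSL2Elements.u]) (by simp [PSL2Elements.u])]
      exact map_one π
    have hu' : ∀ t : F, PSL2Elements.u t = ChevalleySL2.upper t := fun t => ext2
      (by simp [PSL2Elements.u, ChevalleySL2.upper]) (by simp [PSL2Elements.u, ChevalleySL2.upper])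
      (by simp [PSL2Elements.u, ChevalleySL2.upper]) (by simp [PSL2Elements.u, ChevalleySL2.upper])
    rw [eq_top_iff, ← Subgroup.map_top_of_surjective π hπ, ← closure_upper_lower hx, MonoidHom.map_closure]
    refine Subgroup.closure_mono ?_
    rintro _ ⟨z, (rfl | ⟨t, rfl⟩), rfl⟩
    · exact Or.inl (by rw [hu']; rfl)
    · refine Or.inr ⟨π (PSL2Elements.u (-t)), ⟨_, mem_uSub.2 ⟨_, rfl⟩, rfl⟩, ?_⟩
      simp only [MulEquiv.coe_toMonoidHom, MulAut.conj_apply]
      rw [← map_inv, ← map_mul, ← map_mul, hu']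
      congr 1
      rw [ChevalleySL2.lower_eq,
        inv_eq_of_mul_eq_one_right (ChevalleySL2.wel_pow_four (F := F))]
  · intro htop
    rw [Sylow.coe_mapSurjective, hP] at htop
    have h1 : π (ChevalleySL2.lower (1 : F)) ∈ (uSub F).map π := by rw [htop]; trivial
    obtain ⟨g, hg, he⟩ := h1
    obtain ⟨x, rfl⟩ := mem_uSub.1 hg
    have hz : (PSL2Elements.u x)⁻¹ * ChevalleySL2.lower 1 ∈ Subgroup.center SL(2, F) :=
      QuotientGroup.eq.1 he
    have hcomm := Subgroup.mem_center_iff.1 hz (ChevalleySL2.upper 1)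
    rw [show (PSL2Elements.u x)⁻¹ = PSL2Elements.u (-x) from
      inv_eq_of_mul_eq_one_right (by rw [u_mul, add_neg_cancel, u_zero])] at hcomm
    have h00 := congrArg (fun A : SL(2, F) => A.1 0 0) hcomm
    simp only [mul_apply2] at h00
    simp [PSL2Elements.u, ChevalleySL2.upper, ChevalleySL2.lower] at h00

end Cfsg.Agent.PushingUpCLPSL
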