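import Mathlib
import Cfsg.Prelude.Def_BaumannBlocks
import Cfsg.Agent.Lib.CentrallyLarge
import Cfsg.Agent.Lib.HallCore
import Cfsg.Agent.Lib.PGroupsBasic
import Cfsg.Agent.Lib.PushingUpCLPSL

/-!
The basic pushing up situation and centrally large subgroups: if `Z(S)` is not central, every
centrally large subgroup of `S` can be replaced by one inside `O_p(G)`.
-/

set_option autoImplicit false

namespace Cfsg.Agent.PushingUpCL

open Subgroup Cfsg Cfsg.Agent.ChermakDelgado Cfsg.Agent.CentrallyLarge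
open scoped Pointwise commutatorElement

/-! ### Maps -/

section Maps

variable {A B : Type*} [Group A] [Group B] (f : A →* B) (hf : Function.Injective f)
include hf

theorem map_center_inf (R : Subgroup A) :
    (R ⊓ centralizer (R : Set A)).map f = R.map f ⊓ centralizer ((R.map f : Subgroup B) : Set B) := by
  ext y
  constructor
  · rintro ⟨x, ⟨hx, hc⟩, rfl⟩
    refine ⟨mem_map_of_mem f hx, ?_⟩
    rintro _ ⟨z, hz, rfl⟩
    rw [← map_mul, ← map_mul, hc z hz]
  · rintro ⟨⟨x, hx, rfl⟩, hc⟩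
    exact ⟨x, ⟨hx, fun z hz => hf (by rw [map_mul, map_mul]; exact hc _ (mem_map_of_mem f hz))⟩, rfl⟩

theorem omegaOneCenter_map (p : ℕ) (R : Subgroup A) :
    (omegaOneCenter p R).map f = omegaOneCenter p (R.map f) := by
  rw [omegaOneCenter, omegaOneCenter, omegaOne, omegaOne, MonoidHom.map_closure, ← map_center_inf f hf]
  congr 1
  ext y
  constructor
  · rintro ⟨x, ⟨hx, hxp⟩, rfl⟩
    exact ⟨mem_map_of_mem f hx, by rw [← map_pow, hxp, map_one]⟩
  · rintro ⟨⟨x, hx, rfl⟩, hxp⟩
    exact ⟨x, ⟨hx, hf (by rw [map_pow, hxp, map_one])⟩, rfl⟩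

end Maps

/-! ### The Frattini subgroup of a subgroup of a `p`-group -/

/-- `[R, R] R^p`. -/
def phi {A : Type*} [Group A] (p : ℕ) (R : Subgroup A) : Subgroup A :=
  ⁅R, R⁆ ⊔ closure ((fun x : A => x ^ p) '' (R : Set A))

theorem phi_map {A B : Type*} [Group A] [Group B] (f : A →* B) (p : ℕ) (R : Subgroup A) :
    (phi p R).map f = phi p (R.map f) := by
  rw [phi, phi, Subgroup.map_sup, map_commutator, MonoidHom.map_closure, ← Set.image_comp,
    coe_map, ← Set.image_comp]
  congr 3
  funext x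
  exact map_pow f x p

theorem frattini_map_subtype {A : Type*} [Group A] [Finite A] {p : ℕ} [Fact p.Prime] {R : Subgroup A}
    (hR : IsPGroup p R) : (frattini ↥R).map R.subtype = phi p R := by
  have htop : (⊤ : Subgroup ↥R).map R.subtype = R := by rw [← MonoidHom.range_eq_map, range_subtype]
  have h : frattini ↥R = phi p (⊤ : Subgroup ↥R) := by
    refine le_antisymm ?_ (sup_le ?_ ((closure_le _).2 ?_))
    · have hcomm : commutator ↥R ≤ phi p (⊤ : Subgroup ↥R) := le_sup_left
      have := PGroupsBasic.normal_of_commutator_le hcomm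
      exact PGroupsBasic.frattini_le_of_elementary_quotient hcomm fun x =>
        mem_sup_right (subset_closure ⟨x, trivial, rfl⟩)
    · exact PGroupsBasic.commutator_le_frattini hR
    · rintro _ ⟨x, -, rfl⟩
      exact PGroupsBasic.pow_mem_frattini hR x
  rw [h, phi_map, htop]

/-! ### Replacement inside a `p`-group -/

/-- `Q` acts trivially on `W ≤ Q`, and no subgroup acts too much on `W`. -/
structure Bound {P : Type*} [Group P] (p : ℕ) (Q W : Subgroup P) : Prop where
  le : W ≤ Q
  comm : ∀ q ∈ Q, ∀ w ∈ W, q * w = w * q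
  expo : ∀ w ∈ W, w ^ p = 1
  bound : ∀ B : Subgroup P, Nat.card ↥B * Nat.card ↥(W ⊓ centralizer (B : Set P)) ≤
    Nat.card ↥(B ⊓ Q) * Nat.card ↥W

namespace Bound

variable {P : Type*} [Group P] [Finite P] {p : ℕ} {Q W : Subgroup P}

theorem exists_centrallyLarge_le (hb : Bound p Q W) {R : Subgroup P} (hR : IsCentrallyLarge R) :
    let X := R ⊓ Q ⊔ W
    X ≤ Q ∧ IsCentrallyLarge X ∧
      (IsMinimalCentrallyLarge R → IsMinimalCentrallyLarge X ∧
        Nat.card ↥(centralizer (R : Set P)) * Nat.card ↥(centralizer (R : Set P) ⊓ W) =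
          Nat.card ↥(centralizer (R : Set P) ⊓ Q) * Nat.card ↥W) := by
  intro X
  have hXQ : X ≤ Q := sup_le inf_le_right hb.le
  obtain ⟨hRl, hRc⟩ := centrallyLarge_iff.1 hR
  set C := centralizer (R : Set P) with hC
  set R0 := R ⊓ Q with hR0
  set C0 := C ⊓ Q with hC0
  have hmax : Nat.card ↥R * Nat.card ↥C = maxCentralizerProduct P := hRl
  have hxy := cem_le_cdm X |>.trans (cdm_le_max X)
  unfold cem at hxy
  set Y := X ⊓ centralizer (X : Set P) with hY
  have hC0Y : C0 ⊔ W ≤ Y := by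
    refine le_inf (sup_le ((inf_le_inf_right Q hRc).trans le_sup_left) le_sup_right) ?_
    rw [show centralizer (X : Set P) = centralizer (R0 : Set P) ⊓ centralizer (W : Set P) from
      centralizer_sup_eq R0 W]
    refine le_inf (sup_le ?_ ?_) (sup_le ?_ ?_)
    · exact fun c hc r hr => hc.1 r hr.1
    · exact fun w hw r hr => hb.comm r hr.2 w hw
    · exact fun c hc w hw => (hb.comm c hc.2 w hw).symm
    · exact fun w hw v hv => hb.comm v (hb.le hv) w hw
  have hb1 := hb.bound R
  have hb2 := hb.bound C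
  -- the intersections
  have hRW : R0 ⊓ W = R ⊓ W := by rw [hR0, inf_assoc, inf_eq_right.2 hb.le]
  have hCW : C0 ⊓ W = C ⊓ W := by rw [hC0, inf_assoc, inf_eq_right.2 hb.le]
  have hj : Nat.card ↥(C ⊓ W) ≤ Nat.card ↥(W ⊓ centralizer (R : Set P)) := by rw [inf_comm]
  have hi : Nat.card ↥(R ⊓ W) ≤ Nat.card ↥(W ⊓ centralizer (C : Set P)) := card_le_of_le
    (le_inf inf_le_right fun x hx c hc => (hc x hx.1).symm)
  have h1 : Nat.card ↥R0 * Nat.card ↥W ≤ Nat.card ↥X * Nat.card ↥(R ⊓ W) := by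
    rw [card_mul_card_eq R0 W, hRW, mul_comm (Nat.card ↥X)]
    exact Nat.mul_le_mul_left _ (card_mul_le_card_sup R0 W)
  have h2 : Nat.card ↥C0 * Nat.card ↥W ≤ Nat.card ↥Y * Nat.card ↥(C ⊓ W) := by
    rw [card_mul_card_eq C0 W, hCW, mul_comm (Nat.card ↥Y)]
    exact Nat.mul_le_mul_left _ ((card_mul_le_card_sup C0 W).trans (card_le_of_le hC0Y))
  have hipos : 0 < Nat.card ↥(R ⊓ W) := Nat.card_pos
  have hjpos : 0 < Nat.card ↥(C ⊓ W) := Nat.card_pos
  have hrpos : 0 < Nat.card ↥R := Nat.card_pos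
  have hcpos : 0 < Nat.card ↥C := Nat.card_pos
  have hIJ : Nat.card ↥(C ⊓ W) ≤ Nat.card ↥(R ⊓ W) := card_le_of_le (inf_le_inf_right W hRc)
  generalize hdR : Nat.card ↥(W ⊓ centralizer (R : Set P)) = dR at hb1 hj
  generalize hdC : Nat.card ↥(W ⊓ centralizer (C : Set P)) = dC at hb2 hi
  generalize hr : Nat.card ↥R = r at hmax hb1 hrpos
  generalize hc : Nat.card ↥C = c at hmax hb2 hcpos
  generalize hr0 : Nat.card ↥R0 = r0 at h1 hb1
  generalize hc0 : Nat.card ↥C0 = c0 at h2 hb2
  generalize hw : Nat.card ↥W = w at h1 h2 hb1 hb2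
  generalize hx : Nat.card ↥X = x at h1 hxy
  generalize hy : Nat.card ↥Y = y at h2 hxy
  generalize hi' : Nat.card ↥(R ⊓ W) = i at h1 hi hipos hIJ
  generalize hj' : Nat.card ↥(C ⊓ W) = j at h2 hj hjpos hIJ
  have a1 : r * j ≤ x * i := (Nat.mul_le_mul_left r hj).trans (hb1.trans h1)
  have a2 : c * i ≤ y * j := (Nat.mul_le_mul_left c hi).trans (hb2.trans h2)
  have hge : r * c ≤ x * y := by
    refine le_of_mul_le_mul_right ?_ (Nat.mul_pos hipos hjpos)
    calc r * c * (i * j) = (r * j) * (c * i) := by ring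
      _ ≤ (x * i) * (y * j) := Nat.mul_le_mul a1 a2
      _ = _ := by ring
  have hXl : IsCentrallyLarge X := centrallyLarge_of_le (by
    unfold cem
    rw [hx, hy, ← hmax]
    exact hge)
  refine ⟨hXQ, hXl, fun hmin => ?_⟩
  obtain ⟨R1, hR1X, hR1⟩ := exists_minimalCentrallyLarge_le hXl
  obtain ⟨hcard, hcardC⟩ := minimal_card_eq hmin hR1
  obtain ⟨-, hXc⟩ := centrallyLarge_iff.1 hXl
  have hxr : r ≤ x := by
    rw [← hr, ← hx, hcard]; exact card_le_of_le hR1X
  have hyc : y ≤ c := by
    rw [← hy, ← hc, hcardC]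
    exact card_le_of_le (inf_le_right.trans (centralizer_le (SetLike.coe_subset_coe.2 hR1X)))
  have hxy' : x * y = r * c := le_antisymm (hxy.trans hmax.ge) hge
  have hxpos : 0 < x := hrpos.trans_le hxr
  have hij : i ≤ j := by
    exact le_of_mul_le_mul_left (a2.trans (Nat.mul_le_mul_right j hyc)) hcpos
  have hij' : i = j := le_antisymm hij hIJ
  have hyc' : y = c := by
    refine le_antisymm hyc (Nat.le_of_mul_le_mul_right ?_ hjpos)
    rwa [hij'] at a2
  have hxr' : x = r := Nat.eq_of_mul_eq_mul_right hcpos (by rwa [hyc'] at hxy')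
  refine ⟨⟨hXl, fun X' hle hX' => ?_⟩, ?_⟩
  · obtain ⟨R2, hR2X, hR2⟩ := exists_minimalCentrallyLarge_le hX'
    refine eq_of_le_of_card_ge hle ?_
    rw [hx, hxr', ← hr, (minimal_card_eq hmin hR2).1]
    exact card_le_of_le hR2X
  · refine le_antisymm ?_ ?_
    · calc c * j = c * i := by rw [hij']
        _ ≤ c * dC := Nat.mul_le_mul_left _ hi
        _ ≤ _ := hb2
    · rwa [hyc'] at h2

/-- `Φ(R)` is `Φ(X)` when `Ω₁(Z(R))` is as large as possible. -/
theorem phi_eq (hb : Bound p Q W) {R : Subgroup P} (hR : IsMinimalCentrallyLarge R)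
    (hsel : Nat.card ↥(omegaOneCenter p (R ⊓ Q ⊔ W)) ≤ Nat.card ↥(omegaOneCenter p R)) :
    phi p R = phi p (R ⊓ Q ⊔ W) ∧
      Nat.card ↥(omegaOneCenter p R) = Nat.card ↥(omegaOneCenter p (R ⊓ Q ⊔ W)) := by
  obtain ⟨hXQ, hXl, hmin⟩ := hb.exists_centrallyLarge_le hR.1
  obtain ⟨hX, heq⟩ := hmin hR
  obtain ⟨hRl, hRc⟩ := centrallyLarge_iff.1 hR.1
  set C := centralizer (R : Set P) with hC
  set X := R ⊓ Q ⊔ W with hXdef
  have hCab : ∀ u ∈ C, ∀ v ∈ C, u * v = v * u := fun u hu v hv => hv u (hRc hu)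
  have hE : ∀ u, u ∈ omegaOneCenter p R ↔ u ∈ C ∧ u ^ p = 1 := by
    intro u
    constructor
    · intro hu
      rw [omegaOneCenter, omegaOne] at hu
      induction hu using closure_induction with
      | mem z hz => exact ⟨hz.1.2, hz.2⟩
      | one => exact ⟨one_mem C, one_pow p⟩
      | mul a b _ _ ha hb' =>
        exact ⟨mul_mem ha.1 hb'.1, by rw [(show Commute a b from hCab a ha.1 b hb'.1).mul_pow, ha.2,
          hb'.2, one_mul]⟩
      | inv a _ ha => exact ⟨inv_mem ha.1, by rw [inv_pow, ha.2, inv_one]⟩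
    · exact fun h => subset_closure ⟨⟨hRc h.1, h.1⟩, h.2⟩
  set E := omegaOneCenter p R with hEdef
  have hEC : E ≤ C := fun u hu => ((hE u).1 hu).1
  have hEX : E ⊓ Q ⊔ W ≤ omegaOneCenter p X := by
    have hmemW : ∀ v ∈ X, ∀ w ∈ W, v * w = w * v := fun v hv w hw => hb.comm v (hXQ hv) w hw
    refine sup_le ?_ ?_
    · rintro u ⟨hu, huQ⟩
      obtain ⟨huC, hup⟩ := (hE u).1 hu
      refine subset_closure ⟨⟨mem_sup_left ⟨hRc huC, huQ⟩, ?_⟩, hup⟩
      rw [show centralizer (X : Set P) = centralizer ((R ⊓ Q : Subgroup P) : Set P) ⊓ centralizer (W : Set P)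
        from centralizer_sup_eq (R ⊓ Q) W]
      exact ⟨fun r hr => huC r hr.1, fun w hw => (hb.comm u huQ w hw).symm⟩
    · exact fun w hw => subset_closure ⟨⟨mem_sup_right hw, fun v hv => hmemW v hv w hw⟩, hb.expo w hw⟩
  have hEW : E ⊓ Q ⊓ W = C ⊓ W := by
    ext u
    refine ⟨fun h => ⟨hEC h.1.1, h.2⟩, fun h => ⟨⟨(hE u).2 ⟨h.1, hb.expo u h.2⟩, hb.le h.2⟩, h.2⟩⟩
  have hEC0 : E ⊓ (C ⊓ Q) = E ⊓ Q := by rw [← inf_assoc, inf_eq_left.2 hEC]
  have h1 : Nat.card ↥(E ⊓ Q) * Nat.card ↥W ≤
      Nat.card ↥(omegaOneCenter p X) * Nat.card ↥(C ⊓ W) := by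
    rw [card_mul_card_eq (E ⊓ Q) W, hEW, mul_comm (Nat.card ↥(omegaOneCenter p X))]
    exact Nat.mul_le_mul_left _ ((card_mul_le_card_sup _ _).trans (card_le_of_le hEX))
  have h2 := card_mul_card_eq E (C ⊓ Q)
  rw [hEC0] at h2
  have h3 : Nat.card ↥((E : Set P) * ((C ⊓ Q : Subgroup P) : Set P)) ≤ Nat.card ↥C :=
    Nat.card_mono (Set.toFinite _) (by
      rintro _ ⟨a, ha, b, hb', rfl⟩
      exact mul_mem (hEC ha) hb'.1)
  -- all the inequalities are equalities
  have hepos : 0 < Nat.card ↥(E ⊓ Q) := Nat.card_pos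
  have hcpos : 0 < Nat.card ↥C := Nat.card_pos
  have hjpos : 0 < Nat.card ↥(C ⊓ W) := Nat.card_pos
  generalize he : Nat.card ↥E = e at h2 hsel
  generalize he0 : Nat.card ↥(E ⊓ Q) = e0 at h1 h2 hepos
  generalize hc0 : Nat.card ↥(C ⊓ Q) = c0 at h2 heq
  generalize hw : Nat.card ↥W = w at h1 heq
  generalize hj : Nat.card ↥(C ⊓ W) = j at h1 heq hjpos
  generalize hox : Nat.card ↥(omegaOneCenter p X) = ox at h1 hsel
  generalize hs : Nat.card ↥((E : Set P) * ((C ⊓ Q : Subgroup P) : Set P)) = sc at h2 h3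
  generalize hc : Nat.card ↥C = c at heq h3 hcpos
  have h4 : e0 * c ≤ e * c0 := by
    refine Nat.le_of_mul_le_mul_right ?_ hjpos
    calc e0 * c * j = e0 * w * c0 := by rw [mul_assoc e0 c j, heq]; ring
      _ ≤ ox * j * c0 := Nat.mul_le_mul_right _ h1
      _ ≤ e * j * c0 := Nat.mul_le_mul_right _ (Nat.mul_le_mul_right _ hsel)
      _ = _ := by ring
  rw [h2] at h4
  have hsc : sc = c := le_antisymm h3 (Nat.le_of_mul_le_mul_left h4 hepos)
  have hsel' : e ≤ ox := by
    refine le_of_mul_le_mul_right ?_ hjpos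
    refine le_of_mul_le_mul_right ?_ (hc0 ▸ Nat.card_pos : 0 < c0)
    calc e * j * c0 = e0 * c * j := by rw [← hsc, ← h2]; ring
      _ = e0 * w * c0 := by rw [mul_assoc e0 c j, heq]; ring
      _ ≤ _ := Nat.mul_le_mul_right _ h1
  refine ⟨?_, le_antisymm hsel' hsel⟩
  have hCset : (C : Set P) = (E : Set P) * ((C ⊓ Q : Subgroup P) : Set P) := by
    refine (Set.eq_of_subset_of_ncard_le ?_ ?_).symm
    · rintro _ ⟨a, ha, b, hb', rfl⟩
      exact mul_mem (hEC ha) hb'.1
    · rw [← Nat.card_coe_set_eq, ← Nat.card_coe_set_eq, hs, hsc, ← hc]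
      exact le_rfl
  obtain ⟨-, hRset⟩ := minimal_eq_mul hR hX
  have key : closure ((fun x : P => x ^ p) '' (R : Set P)) =
      closure ((fun x : P => x ^ p) '' ((R ⊓ Q : Subgroup P) : Set P)) ∧
      closure ((fun x : P => x ^ p) '' (X : Set P)) =
      closure ((fun x : P => x ^ p) '' ((R ⊓ Q : Subgroup P) : Set P)) := by
    refine ⟨le_antisymm ((closure_le _).2 ?_) (closure_mono (Set.image_mono fun x hx => hx.1)),
      le_antisymm ((closure_le _).2 ?_) (closure_mono (Set.image_mono fun x hx => mem_sup_left hx))⟩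
    · rintro _ ⟨x, hx, rfl⟩
      rw [hRset] at hx
      obtain ⟨u, hu, v, hv, rfl⟩ := Set.mem_mul.1 hx
      rw [← hC, hCset] at hv
      obtain ⟨a, ha, b, hb', rfl⟩ := Set.mem_mul.1 hv
      refine subset_closure ⟨u * b, mul_mem ⟨hu.1, hXQ hu.2⟩ ⟨hRc hb'.1, hb'.2⟩, ?_⟩
      obtain ⟨haC, hap⟩ := (hE a).1 ha
      have hab : Commute a (u * b) := (haC (u * b) (mul_mem hu.1 (hRc hb'.1))).symm
      show (u * b) ^ p = (u * (a * b)) ^ p
      rw [show u * (a * b) = a * (u * b) by
          rw [← mul_assoc, haC u hu.1, mul_assoc], hab.mul_pow, hap, one_mul]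
    · rintro _ ⟨x, hx, rfl⟩
      have hset : (X : Set P) = ((R ⊓ Q : Subgroup P) : Set P) * (W : Set P) := by
        refine Set.Subset.antisymm (fun y hy => ?_) (mul_subset_sup _ _)
        have hn : W ≤ normalizer ((R ⊓ Q : Subgroup P) : Set P) := by
          intro w hw
          rw [mem_normalizer_iff]
          intro r
          constructor
          · intro hr
            rwa [← hb.comm r hr.2 w hw, mul_inv_cancel_right]
          · intro hr
            have h1 := hb.comm _ hr.2 w hw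
            have h2 : w⁻¹ * (w * r * w⁻¹) * w = r := by group
            rwa [← h2, mul_assoc, h1, inv_mul_cancel_left]
        rwa [hXdef, coe_mul_of_right_le_normalizer_left _ _ hn] at hy
      rw [hset] at hx
      obtain ⟨u, hu, v, hv, rfl⟩ := Set.mem_mul.1 hx
      show (u * v) ^ p ∈ _
      rw [(show Commute u v from hb.comm u hu.2 v hv).mul_pow, hb.expo v hv, mul_one]
      exact subset_closure ⟨u, hu, rfl⟩
  rw [phi, phi, key.1, key.2, minimal_commutator_eq hR hX, minimal_commutator_eq hX hR, inf_comm]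

end Bound

/-! ### The pushing up situation -/

variable {G : Type*} [Group G] [Finite G] {p : ℕ} [Fact p.Prime] {S : Subgroup G}

theorem isPGroup (hE : IsPushingUpSituation p S) : IsPGroup p S := by
  obtain ⟨P, hP⟩ := hE.2.1
  exact hP ▸ P.2

theorem pCore_le (hE : IsPushingUpSituation p S) : pCore p G ≤ S := by
  obtain ⟨P, hP⟩ := hE.2.1
  exact hP ▸ HallCore.pCore_le_sylow P

/-- A normal subgroup meeting `S` outside `O_p(G)` covers `G / S`. -/
theorem normal_sup (hE : IsPushingUpSituation p S) (N : Subgroup G) [hN : N.Normal]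
    (h : ¬ S ⊓ N ≤ pCore p G) : N ⊔ S = ⊤ := by
  by_contra hne
  obtain ⟨P, hP⟩ := hE.2.1
  obtain ⟨M, ⟨hM, hSM⟩, huniq⟩ := hE.2.2.2.1
  obtain ⟨M', hM', hle⟩ := (eq_top_or_exists_le_coatom (N ⊔ S)).resolve_left hne
  have hMM : M' = M := huniq M' ⟨hM', le_sup_right.trans hle⟩
  have hNM : N ≤ M := hMM ▸ le_sup_left.trans hle
  apply h
  have hidx : ¬ p ∣ (S.subgroupOf N).index := by
    intro hdvd
    refine P.not_dvd_index (hdvd.trans ?_)
    rw [hP]
    have h1 := card_mul_index (S.subgroupOf N)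
    rw [← inf_subgroupOf_right S N, Nat.card_congr (subgroupOfEquivOfLe inf_le_right).toEquiv,
      inf_subgroupOf_right S N] at h1
    have h2 := card_mul_card_eq N S
    have h3 : ((N ⊔ S : Subgroup G) : Set G) = (N : Set G) * (S : Set G) := normal_mul N S
    rw [← h3, inf_comm] at h2
    simp only [SetLike.coe_sort_coe] at h2
    have h4 : (S.subgroupOf N).index * Nat.card ↥S = Nat.card ↥(N ⊔ S) := by
      refine Nat.eq_of_mul_eq_mul_left (Nat.card_pos : 0 < Nat.card ↥(S ⊓ N)) ?_
      rw [← mul_assoc, h1, h2]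
    have h5 := Subgroup.card_subgroup_dvd_card (N ⊔ S)
    rw [← h4, ← card_mul_index S, mul_comm _ (Nat.card ↥S)] at h5
    exact Nat.dvd_of_mul_dvd_mul_left Nat.card_pos h5
  have hTp : IsPGroup p (S.subgroupOf N) := (isPGroup hE).comap_of_injective _ N.subtype_injective
  let T : Sylow p ↥N := hTp.toSylow hidx
  have hT : (T : Subgroup ↥N).map N.subtype = S ⊓ N := by
    show (S.subgroupOf N).map N.subtype = S ⊓ N
    rw [subgroupOf_map_subtype]
  have hfr := Sylow.normalizer_sup_eq_top T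
  rw [hT] at hfr
  have hSN : S ≤ normalizer ((S ⊓ N : Subgroup G) : Set G) := by
    intro s hs
    refine mem_normalizer_fintype fun x hx => ?_
    exact ⟨S.mul_mem (S.mul_mem hs hx.1) (S.inv_mem hs), hN.conj_mem x hx.2 s⟩
  by_cases htop : normalizer ((S ⊓ N : Subgroup G) : Set G) = ⊤
  · have : (S ⊓ N).Normal := normalizer_eq_top_iff.1 htop
    exact HallCore.le_pCore ((isPGroup hE).to_le inf_le_left)
  · obtain ⟨M'', hM'', hle''⟩ := (eq_top_or_exists_le_coatom _).resolve_left htop
    have := huniq M'' ⟨hM'', hSN.trans hle''⟩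
    exact absurd (top_le_iff.1 (hfr ▸ sup_le (this ▸ hle'') hNM)) hM.1

/-- A conjugate of `S` generating `G` with each element of `S` outside `O_p(G)`. -/
theorem exists_opposite (hE : IsPushingUpSituation p S) :
    ∃ g : G, ∀ c ∈ S, c ∉ pCore p G →
      closure ({c} ∪ ((S.map (MulAut.conj g).toMonoidHom : Subgroup G) : Set G)) = ⊤ := by
  obtain ⟨K, hK, F, _, _, n, hF, ⟨e⟩⟩ := hE.2.2.2.2
  obtain ⟨P, hP⟩ := hE.2.1
  obtain ⟨U, w, hgen, hUtop⟩ := PushingUpCLPSL.exists_generating p hF
  set π := e.toMonoidHom.comp (QuotientGroup.mk' K) with hπ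
  have hsurj : Function.Surjective π := e.surjective.comp (QuotientGroup.mk'_surjective _)
  have hker : π.ker = K := by ext k; simp [hπ, MonoidHom.mem_ker]
  have hKS : K ⊔ S ≠ ⊤ := by
    intro htop
    apply hUtop
    have h1 : S.map π = ⊤ := by
      rw [eq_top_iff, ← map_top_of_surjective π hsurj, ← htop, Subgroup.map_sup]
      refine sup_le ?_ le_rfl
      rw [← hker, (Subgroup.map_eq_bot_iff _).2 le_rfl]
      exact bot_le
    have htopp : IsPGroup p (⊤ : Subgroup (Matrix.ProjectiveSpecialLinearGroup (Fin 2) F)) :=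
      h1 ▸ (isPGroup hE).map π
    exact (U.3 htopp le_top).symm
  have hSK : S ⊓ K ≤ pCore p G := by
    by_contra h
    exact hKS (normal_sup hE K h)
  obtain ⟨M, ⟨hM, hSM⟩, huniq⟩ := hE.2.2.2.1
  have hKM : K ≤ M := by
    obtain ⟨M', hM', hle⟩ := (eq_top_or_exists_le_coatom _).resolve_left hKS
    exact huniq M' ⟨hM', le_sup_right.trans hle⟩ ▸ le_sup_left.trans hle
  obtain ⟨v, hv⟩ := MulAction.exists_smul_eq (Matrix.ProjectiveSpecialLinearGroup (Fin 2) F) (P.mapSurjective hsurj) U
  obtain ⟨g, hg⟩ := hsurj (v⁻¹ * w * v)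
  refine ⟨g, fun c hc hcQ => ?_⟩
  have hUeq : U.toSubgroup = (S.map π).map (MulAut.conj v).toMonoidHom := by
    rw [← hv]
    show _ = (S.map π).map _
    rw [← hP]
    rfl
  set C := closure ({c} ∪ ((S.map (MulAut.conj g).toMonoidHom : Subgroup G) : Set G)) with hC
  have hπc : π c ≠ 1 := fun h => hcQ (hSK ⟨hc, hker ▸ MonoidHom.mem_ker.2 h⟩)
  have hCtop : (C.map π).map (MulAut.conj v).toMonoidHom = ⊤ := by
    rw [eq_top_iff, ← hgen (v * π c * v⁻¹) (by rw [hUeq]; exact ⟨_, mem_map_of_mem π hc, rfl⟩)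
      (by simpa using hπc), closure_le]
    rintro z (rfl | hz)
    · exact ⟨π c, mem_map_of_mem π (subset_closure (Or.inl rfl)), rfl⟩
    · rw [hUeq] at hz
      obtain ⟨_, ⟨_, ⟨s, hs, rfl⟩, rfl⟩, rfl⟩ := hz
      refine ⟨π (g * s * g⁻¹), mem_map_of_mem π (subset_closure (Or.inr ⟨s, hs, rfl⟩)), ?_⟩
      simp only [MulEquiv.coe_toMonoidHom, MulAut.conj_apply, map_mul, map_inv, hg]
      group
  have hCπ : C.map π = ⊤ := map_injective (MulAut.conj v).injective
    (hCtop.trans (map_top_of_surjective _ (MulAut.conj v).surjective).symm)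
  by_contra hne
  obtain ⟨X, hX, hCX⟩ := (eq_top_or_exists_le_coatom _).resolve_left hne
  have hX' : IsCoatom (X.comap (MulAut.conj g).toMonoidHom) :=
    (OrderIso.isCoatom_iff (MulEquiv.comapSubgroup (MulAut.conj g)) X).2 hX
  have hXM := huniq _ ⟨hX', fun s hs => hCX (subset_closure (Or.inr ⟨s, hs, rfl⟩))⟩
  have hKX : K ≤ X := fun k hk => by
    have h1 : g⁻¹ * k * g ∈ M := hKM (by simpa using hK.conj_mem k hk g⁻¹)
    rw [← hXM, mem_comap] at h1
    simpa [mul_assoc] using h1
  apply hX.1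
  rw [eq_top_iff]
  intro z _
  obtain ⟨y, hy, hyz⟩ : π z ∈ C.map π := by rw [hCπ]; trivial
  have h2 : y⁻¹ * z ∈ K := by
    rw [← hker, MonoidHom.mem_ker, map_mul, map_inv, hyz, inv_mul_cancel]
  simpa using mul_mem (hCX hy) (hKX h2)

/-- The elements of order dividing `p` of the centre of `S`. -/
def centerOmega (p : ℕ) (S : Subgroup G) : Set G := {z | z ∈ S ∧ (∀ s ∈ S, s * z = z * s) ∧ z ^ p = 1}

/-- If these are central, so is the centre of `S`. -/
theorem center_central (hE : IsPushingUpSituation p S) (h : centerOmega p S ⊆ center G) :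
    S ⊓ centralizer (S : Set G) ≤ center G := by
  classical
  have hQS := pCore_le hE
  set A := pCore p G ⊓ centralizer (pCore p G : Set G) with hA
  have hQn : (pCore p G).Normal := HallCore.pCore_normal p G
  have hAn : A.Normal := inferInstance
  let : CommGroup ↥A :=
    { (inferInstance : Group ↥A) with
      mul_comm := fun a b => Subtype.ext (b.2.2 (a : G) a.2.1) }
  obtain ⟨P, hP⟩ := hE.2.1
  have hidx : ¬ p ∣ S.index := hP ▸ P.not_dvd_index
  have hZA : ∀ z ∈ S ⊓ centralizer (S : Set G), z ∈ A := by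
    intro z hz
    have h1 : z ∈ centralizer (pCore p G : Set G) := fun q hq => hz.2 q (hQS hq)
    exact ⟨hE.2.2.1 h1, h1⟩
  suffices ∀ k, ∀ z ∈ S ⊓ centralizer (S : Set G), z ^ p ^ k = 1 → z ∈ center G by
    intro z hz
    obtain ⟨k, hk⟩ := isPGroup hE ⟨z, hz.1⟩
    exact this k z hz (by simpa using congrArg Subtype.val hk)
  intro k
  induction k with
  | zero => intro z _ hz; rw [pow_zero, pow_one] at hz; rw [hz]; exact one_mem _
  | succ k ih =>
    intro z hz hzk
    have hzp : z ^ p ∈ center G := ih _ (pow_mem hz p) (by rw [← pow_mul, ← pow_succ']; exact hzk)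
    let za : ↥A := ⟨z, hZA z hz⟩
    have : Fintype (G ⧸ S) := Fintype.ofFinite _
    let f : G ⧸ S → ↥A := Quotient.lift (fun g => MulAut.conjNormal g za) fun g g' hgg => by
      have hs : g⁻¹ * g' ∈ S := QuotientGroup.leftRel_apply.1 hgg
      refine Subtype.ext ?_
      simp only [MulAut.conjNormal_apply]
      have h1 := hz.2 _ hs
      calc g * z * g⁻¹ = g * (z * (g⁻¹ * g')) * g'⁻¹ := by group
        _ = g * (g⁻¹ * g' * z) * g'⁻¹ := by rw [h1]
        _ = g' * z * g'⁻¹ := by group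
    have hf : ∀ (m : G) (q : G ⧸ S), MulAut.conjNormal m (f q) = f (m • q) := by
      intro m q
      induction q using QuotientGroup.induction_on with
      | H g =>
        show MulAut.conjNormal m (MulAut.conjNormal g za) = MulAut.conjNormal (m * g) za
        rw [map_mul]; rfl
    set π := ∏ q, f q with hπ
    have hπc : (π : G) ∈ center G := by
      rw [mem_center_iff]
      intro m
      have h1 : MulAut.conjNormal m π = π := by
        rw [hπ, map_prod]
        simp only [hf]
        exact Equiv.prod_comp (MulAction.toPerm m) f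
      have h2 := congrArg (Subtype.val) h1
      rw [MulAut.conjNormal_apply] at h2
      exact mul_inv_eq_iff_eq_mul.1 h2
    set n := Fintype.card (G ⧸ S) with hn
    set v := π * (za ^ n)⁻¹ with hv
    have hv' : v = ∏ q, f q * za⁻¹ := by
      rw [Finset.prod_mul_distrib, Finset.prod_const, Finset.card_univ, inv_pow, hv]
    have hvp : v ^ p = 1 := by
      rw [hv', ← Finset.prod_pow]
      refine Finset.prod_eq_one fun q _ => ?_
      rw [mul_pow, inv_pow, mul_inv_eq_one]
      induction q using QuotientGroup.induction_on with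
      | H g =>
        refine Subtype.ext ?_
        show ((MulAut.conjNormal g za ^ p : ↥A) : G) = _
        rw [SubmonoidClass.coe_pow, MulAut.conjNormal_apply, conj_pow, SubmonoidClass.coe_pow]
        exact mul_inv_eq_iff_eq_mul.2 (mem_center_iff.1 hzp g)
    have hvS : (v : G) ∈ centerOmega p S := by
      refine ⟨hQS v.2.1, fun s hs => ?_, by simpa using congrArg Subtype.val hvp⟩
      rw [hv, Subgroup.coe_mul, Subgroup.coe_inv, SubmonoidClass.coe_pow]
      exact ((show Commute s (π : G) from (mem_center_iff.1 hπc s)).mul_right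
        ((show Commute s z from hz.2 s hs).pow_right n).inv_right).eq
    have hzn : z ^ n ∈ center G := by
      have h1 := mul_mem (inv_mem (h hvS)) hπc
      rw [hv, Subgroup.coe_mul, Subgroup.coe_inv, SubmonoidClass.coe_pow, mul_inv_rev, inv_inv,
        inv_mul_cancel_right] at h1
      exact h1
    have hco : Nat.Coprime p n := by
      rw [hn, ← Nat.card_eq_fintype_card, ← Subgroup.index_eq_card]
      exact (Fact.out : p.Prime).coprime_iff_not_dvd.2 hidx
    have hg : ((Nat.gcd p n : ℕ) : ℤ) = (p : ℤ) * Nat.gcdA p n + (n : ℤ) * Nat.gcdB p n :=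
      Nat.gcd_eq_gcd_ab p n
    rw [hco.gcd_eq_one, Nat.cast_one] at hg
    rw [← zpow_one z, hg, zpow_add, zpow_mul, zpow_mul, zpow_natCast, zpow_natCast]
    exact mul_mem (zpow_mem hzp _) (zpow_mem hzn _)

theorem eq_bot_of_le_commutator (hS : IsPGroup p S) {V : Subgroup G} (hVS : V ≤ S) (h : V ≤ ⁅V, S⁆) :
    V = ⊥ := by
  have : Group.IsNilpotent ↥S := hS.isNilpotent
  obtain ⟨m, hm⟩ := (Subgroup.nilpotent_iff_lowerCentralSeries (G := ↥S)).1 inferInstance
  have key : ∀ i, V ≤ ((⊤ : Subgroup ↥S).lowerCentralSeries i).map S.subtype := by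
    intro i
    induction i with
    | zero =>
      rw [Subgroup.lowerCentralSeries_zero, ← MonoidHom.range_eq_map, range_subtype]
      exact hVS
    | succ i ih =>
      rw [Subgroup.lowerCentralSeries_succ, map_commutator, ← MonoidHom.range_eq_map, range_subtype]
      exact h.trans (commutator_mono ih le_rfl)
  have := key m
  rwa [hm, Subgroup.map_bot, le_bot_iff] at this

/-- The normal closure of `Ω₁(Z(S))`. -/
def wSub (p : ℕ) (S : Subgroup G) : Subgroup G := normalClosure (centerOmega p S)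

theorem wSub_le (hE : IsPushingUpSituation p S) :
    wSub p S ≤ pCore p G ⊓ centralizer (pCore p G : Set G) := by
  have : (pCore p G).Normal := HallCore.pCore_normal p G
  refine normalClosure_le_normal fun z hz => ?_
  have h1 : z ∈ centralizer (pCore p G : Set G) := fun q hq => hz.2.1 q (pCore_le hE hq)
  exact ⟨hE.2.2.1 h1, h1⟩

theorem wSub_comm (hE : IsPushingUpSituation p S) {u v : G} (hu : u ∈ wSub p S) (hv : v ∈ wSub p S) :
    u * v = v * u :=
  (wSub_le hE hv).2 u (wSub_le hE hu).1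

theorem wSub_pow (hE : IsPushingUpSituation p S) {w : G} (hw : w ∈ wSub p S) : w ^ p = 1 := by
  have hw' := hw
  rw [wSub, normalClosure] at hw'
  induction hw' using closure_induction with
  | mem z hz =>
    obtain ⟨u, hu, hc⟩ := Group.mem_conjugatesOfSet_iff.1 hz
    obtain ⟨g, rfl⟩ := isConj_iff.1 hc
    rw [conj_pow, hu.2.2, mul_one, mul_inv_cancel]
  | one => exact one_pow p
  | mul a b ha hb iha ihb =>
    rw [(show Commute a b from wSub_comm hE ha hb).mul_pow, iha ha, ihb hb, one_mul]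
  | inv a ha iha => rw [inv_pow, iha ha, inv_one]

section Central

variable (hE : IsPushingUpSituation p S) (hZ : ¬ S ⊓ centralizer (S : Set G) ≤ center G)
include hE hZ

theorem exists_omega_not_central : ∃ z ∈ centerOmega p S, z ∉ center G := by
  by_contra h
  push Not at h
  exact hZ (center_central hE h)

theorem card_bound {B : Subgroup G} (hBS : B ≤ S) :
    Nat.card ↥B * Nat.card ↥(wSub p S ⊓ centralizer (B : Set G)) ≤
      Nat.card ↥(B ⊓ pCore p G) * Nat.card ↥(wSub p S) := by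
  classical
  obtain ⟨g, hg⟩ := exists_opposite hE
  set T := S.map (MulAut.conj g).toMonoidHom with hT
  set W := wSub p S with hW
  have hWn : W.Normal := normalClosure_normal
  have hWS : W ≤ S := (wSub_le hE).trans (inf_le_left.trans (pCore_le hE))
  set V := ⁅W, (⊤ : Subgroup G)⁆ with hV
  obtain ⟨v, hvV, hvY⟩ : ∃ v ∈ V, v ∉ ⁅W, T⁆ := by
    by_contra h
    push Not at h
    have hVn : V.Normal := commutator_normal W ⊤
    have h1 : V ≤ ⁅W, S⁆ := fun x hx => by
      have h2 : g * x * g⁻¹ ∈ ⁅W, T⁆ := h _ (hVn.conj_mem x hx g)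
      have h3 : W.map (MulAut.conj g).toMonoidHom = W := by
        refine eq_of_le_of_card_ge ?_ (card_map_of_injective (MulAut.conj g).injective).ge
        rintro _ ⟨w, hw, rfl⟩
        exact hWn.conj_mem w hw g
      rw [hT, ← h3, ← map_commutator] at h2
      obtain ⟨y, hy, he⟩ := h2
      have : y = x := by simpa using he
      exact this ▸ hy
    set Z0 := closure (centerOmega p S) with hZ0
    have hWVZ : W ≤ V ⊔ Z0 := by
      have : (V ⊔ Z0).Normal := ⟨fun x hx m => by
        have hxW : x ∈ W := (sup_le (commutator_le_left W ⊤) ((closure_le _).2 subset_normalClosure)) hx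
        have h2 : m * x * m⁻¹ * x⁻¹ ∈ V := by
          rw [hV, commutator_comm]
          exact commutator_mem_commutator (mem_top m) hxW
        have h3 := mul_mem (mem_sup_left (T := Z0) h2) hx
        rwa [inv_mul_cancel_right] at h3⟩
      exact normalClosure_le_normal fun z hz => mem_sup_right (subset_closure hz)
    have hZ0c : ∀ z ∈ Z0, ∀ s ∈ S, s * z = z * s := by
      intro z hz s hs
      have : Z0 ≤ centralizer {s} := (closure_le _).2 fun u hu =>
        mem_centralizer_singleton_iff.2 (hu.2.1 s hs).symm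
      exact (mem_centralizer_singleton_iff.1 (this hz)).symm
    have h2 : ⁅W, S⁆ ≤ ⁅V, S⁆ := by
      rw [commutator_le]
      intro w hw s hs
      have hw' : w ∈ ((V ⊔ Z0 : Subgroup G) : Set G) := hWVZ hw
      rw [normal_mul] at hw'
      obtain ⟨a, ha, z, hz, rfl⟩ := Set.mem_mul.1 hw'
      have e : ⁅a * z, s⁆ = ⁅a, s⁆ := by
        rw [commutatorElement_def, commutatorElement_def, mul_inv_rev,
          show a * z * s * (z⁻¹ * a⁻¹) = a * (z * s) * z⁻¹ * a⁻¹ by group, ← hZ0c z hz s hs]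
        group
      rw [e]
      exact commutator_mem_commutator ha hs
    have hVbot := eq_bot_of_le_commutator (isPGroup hE) ((commutator_le_left W ⊤).trans hWS) (h1.trans h2)
    obtain ⟨z, hz, hzc⟩ := exists_omega_not_central hE hZ
    apply hzc
    rw [mem_center_iff]
    intro m
    have h3 := (commutator_eq_bot_iff_le_centralizer.1 hVbot) (subset_normalClosure hz)
    exact h3 m (mem_top m)
  let : CommGroup ↥W :=
    { (inferInstance : Group ↥W) with
      mul_comm := fun a b => Subtype.ext (wSub_comm hE a.2 b.2) }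
  set Y' := (⁅W, T⁆).subgroupOf W with hY'
  have hvW : v ∈ W := commutator_le_left W ⊤ hvV
  have hvne : (QuotientGroup.mk ⟨v, hvW⟩ : ↥W ⧸ Y') ≠ 1 := fun h =>
    hvY (mem_subgroupOf.1 ((QuotientGroup.eq_one_iff _).1 h))
  obtain ⟨χ, hχ⟩ := CommGroup.exists_apply_ne_one_of_hasEnoughRootsOfUnity (↥W ⧸ Y') ℂ hvne
  let f : ↥W →* ℂˣ := χ.comp (QuotientGroup.mk' Y')
  let L : Subgroup G :=
    { carrier := {m | ∀ w : ↥W, f (MulAut.conjNormal m w) = f w}
      one_mem' := fun w => by simp
      mul_mem' := fun {a b} ha hb w => by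
        show f (MulAut.conjNormal (a * b) w) = f w
        rw [map_mul, MulAut.mul_apply, ha, hb]
      inv_mem' := fun {a} ha w => by
        show f (MulAut.conjNormal a⁻¹ w) = f w
        rw [← ha (MulAut.conjNormal a⁻¹ w), ← MulAut.mul_apply, ← map_mul, mul_inv_cancel, map_one,
          MulAut.one_apply] }
  have hTL : T ≤ L := by
    intro t ht w
    show f (MulAut.conjNormal t w) = f w
    rw [← mul_inv_eq_one, ← map_inv, ← map_mul]
    have hmem : MulAut.conjNormal t w * w⁻¹ ∈ Y' := by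
      rw [hY', mem_subgroupOf, Subgroup.coe_mul, Subgroup.coe_inv, MulAut.conjNormal_apply, commutator_comm]
      exact commutator_mem_commutator ht w.2
    show χ (QuotientGroup.mk' Y' _) = 1
    rw [QuotientGroup.mk'_apply, (QuotientGroup.eq_one_iff _).2 hmem, map_one]
  have hLne : L ≠ ⊤ := by
    intro htop
    apply hχ
    have hle : V ≤ f.ker.map W.subtype := by
      rw [hV, commutator_le]
      intro w hw m _
      refine ⟨⟨w, hw⟩ * (MulAut.conjNormal m ⟨w, hw⟩)⁻¹, ?_, ?_⟩
      · rw [SetLike.mem_coe, MonoidHom.mem_ker, map_mul, map_inv,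
          (htop ▸ mem_top m : m ∈ L) ⟨w, hw⟩, mul_inv_cancel]
      · simp only [coe_subtype, Subgroup.coe_mul, Subgroup.coe_inv, MulAut.conjNormal_apply,
          commutatorElement_def]
        group
    obtain ⟨y, hy, hyv⟩ := hle hvV
    have : y = ⟨v, hvW⟩ := Subtype.ext hyv
    rw [this] at hy
    exact hy
  set D := (W ⊓ centralizer (B : Set G)).subgroupOf W with hD
  let φ0 : ↥B → (↥W →* ℂˣ) := fun b =>
    { toFun := fun w => f (MulAut.conjNormal (b : G) w) * (f w)⁻¹
      map_one' := by simp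
      map_mul' := fun w w' => by
        rw [map_mul, map_mul, map_mul, mul_inv]
        exact mul_mul_mul_comm _ _ _ _ }
  have hφD : ∀ b, D ≤ (φ0 b).ker := by
    intro b d hd
    have e : MulAut.conjNormal (b : G) d = d := by
      refine Subtype.ext ?_
      rw [MulAut.conjNormal_apply, (mem_subgroupOf.1 hd).2 (b : G) b.2, mul_inv_cancel_right]
    show f (MulAut.conjNormal (b : G) d) * (f d)⁻¹ = 1
    rw [e, mul_inv_cancel]
  let φ : ↥B ⧸ (pCore p G).subgroupOf B → ((↥W ⧸ D) →* ℂˣ) := fun q =>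
    QuotientGroup.lift D (φ0 q.out) (hφD _)
  have hQn : (pCore p G).Normal := HallCore.pCore_normal p G
  have hφ : Function.Injective φ := by
    intro q q' hqq
    have hb : ∀ w : ↥W, f (MulAut.conjNormal (q.out : G) w) = f (MulAut.conjNormal (q'.out : G) w) := by
      intro w
      have := DFunLike.congr_fun hqq (QuotientGroup.mk w)
      exact mul_right_cancel this
    rw [← q.out_eq', ← q'.out_eq', QuotientGroup.eq, mem_subgroupOf, Subgroup.coe_mul, Subgroup.coe_inv]
    set b : G := (q.out : G)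
    set b' : G := (q'.out : G)
    have hc : b' * b⁻¹ ∈ L := fun u => by
      show f (MulAut.conjNormal (b' * b⁻¹) u) = f u
      rw [map_mul, MulAut.mul_apply, ← hb (MulAut.conjNormal b⁻¹ u), ← MulAut.mul_apply, ← map_mul,
        mul_inv_cancel, map_one, MulAut.one_apply]
    by_contra hne
    apply hLne
    rw [eq_top_iff, ← hg (b' * b⁻¹) (hBS (mul_mem q'.out.2 (inv_mem q.out.2))) ?_, closure_le]
    · exact Set.union_subset (Set.singleton_subset_iff.2 hc) hTL
    · intro h
      exact hne (hQn.mem_comm h)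
  have hcard := Nat.card_le_card_of_injective φ hφ
  rw [CommGroup.card_monoidHom_of_hasEnoughRootsOfUnity, ← Subgroup.index_eq_card,
    ← Subgroup.index_eq_card] at hcard
  have h1 := card_mul_index ((pCore p G).subgroupOf B)
  rw [← inf_subgroupOf_right (pCore p G) B, Nat.card_congr (subgroupOfEquivOfLe inf_le_right).toEquiv,
    inf_subgroupOf_right (pCore p G) B, inf_comm] at h1
  have h2 := card_mul_index D
  rw [hD, Nat.card_congr (subgroupOfEquivOfLe inf_le_left).toEquiv] at h2
  rw [← h1, ← h2]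
  calc _ = Nat.card ↥(B ⊓ pCore p G) * (Nat.card ↥(W ⊓ centralizer (B : Set G)) *
        ((pCore p G).subgroupOf B).index) := by ring
    _ ≤ _ := Nat.mul_le_mul_left _ (Nat.mul_le_mul_left _ hcard)

omit hZ in
theorem map_inf_centralizer (B : Subgroup ↥S) :
    ((wSub p S).subgroupOf S ⊓ centralizer (B : Set ↥S)).map S.subtype =
      wSub p S ⊓ centralizer ((B.map S.subtype : Subgroup G) : Set G) := by
  ext y
  constructor
  · rintro ⟨x, ⟨hx, hc⟩, rfl⟩
    refine ⟨hx, ?_⟩
    rintro _ ⟨b, hb, rfl⟩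
    exact congrArg Subtype.val (hc b hb)
  · rintro ⟨hy, hc⟩
    have hyS : y ∈ S := pCore_le hE ((wSub_le hE) hy).1
    exact ⟨⟨y, hyS⟩, ⟨hy, fun b hb => Subtype.ext (hc _ ⟨b, hb, rfl⟩)⟩, rfl⟩

theorem bound : Bound p ((pCore p G).subgroupOf S) ((wSub p S).subgroupOf S) where
  le := fun w hw => (wSub_le hE hw).1
  comm := fun q hq w hw => Subtype.ext ((wSub_le hE hw).2 _ hq)
  expo := fun w hw => Subtype.ext (by simpa using wSub_pow hE hw)
  bound := fun B => by
    have hc : ∀ X : Subgroup ↥S, Nat.card ↥X = Nat.card ↥(X.map S.subtype) := fun X =>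
      (card_map_of_injective S.subtype_injective).symm
    have h := card_bound hE hZ (B := B.map S.subtype) (map_subtype_le B)
    rw [← map_inf_centralizer hE B, ← hc, ← hc] at h
    rw [hc (B ⊓ _), Subgroup.map_inf _ _ _ S.subtype_injective, subgroupOf_map_subtype,
      inf_eq_left.2 (pCore_le hE), hc ((wSub p S).subgroupOf S), subgroupOf_map_subtype,
      inf_eq_left.2 ((wSub_le hE).trans (inf_le_left.trans (pCore_le hE)))]
    exact h

end Central

/-! ### Conjugation inside `O_p(G)` -/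

theorem transport (hE : IsPushingUpSituation p S) {R : Subgroup ↥S} (hR : IsMinimalCentrallyLarge R)
    (hRQ : R ≤ (pCore p G).subgroupOf S) (g : G) :
    ∃ R' : Subgroup ↥S, IsMinimalCentrallyLarge R' ∧ R' ≤ (pCore p G).subgroupOf S ∧
      R'.map S.subtype = (R.map S.subtype).map (MulAut.conj g).toMonoidHom ∧
      Nat.card ↥(omegaOneCenter p R') = Nat.card ↥(omegaOneCenter p R) := by
  have hQn : (pCore p G).Normal := HallCore.pCore_normal p G
  set X := (R.map S.subtype).map (MulAut.conj g).toMonoidHom with hX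
  have hXQ : X ≤ pCore p G := by
    rintro _ ⟨_, ⟨r, hr, rfl⟩, rfl⟩
    exact hQn.conj_mem _ (hRQ hr) g
  have hXS : (X.subgroupOf S).map S.subtype = X := map_subgroupOf_eq_of_le (hXQ.trans (pCore_le hE))
  have hi := S.subtype_injective
  have hj : Function.Injective (MulAut.conj g).toMonoidHom := (MulAut.conj g).injective
  have hcard : Nat.card ↥(X.subgroupOf S) = Nat.card ↥R := by
    rw [← card_map_of_injective hi, hXS, hX, card_map_of_injective hj, card_map_of_injective hi]
  have hom : Nat.card ↥(omegaOneCenter p (X.subgroupOf S)) = Nat.card ↥(omegaOneCenter p R) := by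
    rw [← card_map_of_injective hi (K := omegaOneCenter p (X.subgroupOf S)), omegaOneCenter_map _ hi, hXS,
      hX, ← omegaOneCenter_map _ hj, card_map_of_injective hj, ← omegaOneCenter_map _ hi,
      card_map_of_injective hi]
  have hcem : cem (X.subgroupOf S) = cem R := by
    unfold cem
    rw [hcard, ← card_map_of_injective hi (K := (X.subgroupOf S) ⊓ _), map_center_inf _ hi, hXS, hX,
      ← map_center_inf _ hj, card_map_of_injective hj, ← map_center_inf _ hi, card_map_of_injective hi]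
  have hRl := hR.1
  have hXl : IsCentrallyLarge (X.subgroupOf S) := by
    refine centrallyLarge_of_le ?_
    rw [hcem, ← maxCentralProduct_eq]
    unfold IsCentrallyLarge at hRl
    rw [card_center_eq] at hRl
    exact hRl.ge
  refine ⟨X.subgroupOf S, ⟨hXl, fun Y hY hYl => ?_⟩, fun x hx => hXQ hx, hXS, hom⟩
  obtain ⟨R1, hR1Y, hR1⟩ := exists_minimalCentrallyLarge_le hYl
  refine eq_of_le_of_card_ge hY ?_
  rw [hcard, (minimal_card_eq hR hR1).1]
  exact card_le_of_le hR1Y

theorem normal_of_conj_le {N : Subgroup G} (h : ∀ g, N.map (MulAut.conj g).toMonoidHom ≤ N) : N.Normal :=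
  ⟨fun x hx g => h g ⟨x, hx, rfl⟩⟩

theorem commutator_eq {P : Type*} [Group P] [Finite P] {Q R : Subgroup P}
    (hQ : IsMinimalCentrallyLarge Q) (hR : IsMinimalCentrallyLarge R) : ⁅Q, Q⁆ = ⁅R, R⁆ := by
  rw [minimal_commutator_eq hQ hR, minimal_commutator_eq hR hQ, inf_comm]

/-- Conjugation permutes the minimal centrally large subgroups inside `O_p(G)`. -/
theorem iSup_normal (hE : IsPushingUpSituation p S) (𝒮 : Subgroup ↥S → Prop)
    (F : Subgroup ↥S → Subgroup ↥S) (F' : Subgroup G → Subgroup G)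
    (hF : ∀ R, 𝒮 R → (F R).map S.subtype = F' (R.map S.subtype))
    (hF' : ∀ (X : Subgroup G) (g : G),
      (F' X).map (MulAut.conj g).toMonoidHom = F' (X.map (MulAut.conj g).toMonoidHom))
    (h : ∀ R, 𝒮 R → ∃ R₁, 𝒮 R₁ ∧ F R = F R₁ ∧
      ∀ g : G, ∃ R₂, 𝒮 R₂ ∧ R₂.map S.subtype = (R₁.map S.subtype).map (MulAut.conj g).toMonoidHom) :
    ((⨆ R : {R // 𝒮 R}, F R.1).map S.subtype).Normal := by
  refine normal_of_conj_le fun g => ?_
  rw [Subgroup.map_iSup, Subgroup.map_iSup]
  refine iSup_le fun R => ?_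
  obtain ⟨R₁, hR₁, he, htr⟩ := h R.1 R.2
  obtain ⟨R₂, hR₂, he₂⟩ := htr g
  refine le_trans (le_of_eq ?_) (le_iSup (fun R : {R // 𝒮 R} => (F R.1).map S.subtype) ⟨R₂, hR₂⟩)
  show ((F R.1).map S.subtype).map _ = (F R₂).map S.subtype
  rw [he, hF _ hR₁, hF', ← he₂, hF _ hR₂]

theorem minimal_dichotomy (hE : IsPushingUpSituation p S) {Q : Subgroup ↥S}
    (hQ : IsMinimalCentrallyLarge Q) :
    ((S ⊓ centralizer (S : Set G)) ⊓ (⁅Q, Q⁆).map S.subtype).Normal ∨
      ((minimalCentrallyLargeJoin ↥S).map S.subtype).Normal := by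
  by_cases hZ : S ⊓ centralizer (S : Set G) ≤ center G
  · exact Or.inl (PGroupsBasic.normal_of_le_center (inf_le_left.trans hZ))
  set Q' := (pCore p G).subgroupOf S with hQ'
  by_cases hall : ∀ R : Subgroup ↥S, IsMinimalCentrallyLarge R → R ≤ Q'
  · right
    have h := iSup_normal hE (fun R => IsMinimalCentrallyLarge R) id id (fun R _ => rfl) (fun X g => rfl)
      fun R hR => ⟨R, hR, rfl, fun g => by
        obtain ⟨R', h1, -, h3, -⟩ := transport hE hR (hall R hR) g
        exact ⟨R', h1, h3⟩⟩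
    have e : (⨆ R : {R : Subgroup ↥S // IsMinimalCentrallyLarge R}, id R.1) =
        minimalCentrallyLargeJoin ↥S := by
      rw [minimalCentrallyLargeJoin, sSup_eq_iSup']
      rfl
    rwa [e] at h
  left
  push Not at hall
  obtain ⟨R, hR, hRQ⟩ := hall
  have hb := bound hE hZ
  obtain ⟨hXQ, -, hmin⟩ := hb.exists_centrallyLarge_le hR.1
  obtain ⟨hX, -⟩ := hmin hR
  set X := R ⊓ Q' ⊔ (wSub p S).subgroupOf S
  set D := (⁅Q, Q⁆).map S.subtype with hD
  have hDn : D.Normal := by
    refine normal_of_conj_le fun g => le_of_eq ?_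
    obtain ⟨X', hX', -, he, -⟩ := transport hE hX hXQ g
    rw [hD, commutator_eq hQ hX, map_commutator, map_commutator, ← he, ← map_commutator,
      commutator_eq hX' hX, ← map_commutator]
  obtain ⟨hRW, -⟩ := minimal_eq_mul hR hX
  have hnle : ¬ centralizer (R : Set ↥S) ≤ Q' := fun h =>
    hRQ (hRW ▸ sup_le (inf_le_right.trans hXQ) h)
  obtain ⟨z, hzC, hzQ⟩ := SetLike.not_le_iff_exists.1 hnle
  have hzD : (z : G) ∈ centralizer (D : Set G) := by
    rintro _ ⟨d, hd, rfl⟩
    rw [SetLike.mem_coe, commutator_eq hQ hR] at hd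
    exact congrArg Subtype.val (hzC d (Subgroup.commutator_le_self R hd))
  have : (centralizer (D : Set G)).Normal := inferInstance
  have htop := normal_sup hE (centralizer (D : Set G)) fun h => hzQ (h ⟨z.2, hzD⟩)
  refine PGroupsBasic.normal_of_le_center fun y hy => mem_center_iff.2 fun m => ?_
  have h2 : centralizer (D : Set G) ⊔ S ≤ centralizer {y} :=
    sup_le (fun c hc => mem_centralizer_singleton_iff.2 (hc y hy.2).symm)
      fun s hs => mem_centralizer_singleton_iff.2 (hy.1.2 s hs)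
  rw [htop] at h2
  exact mem_centralizer_singleton_iff.1 (h2 (mem_top m))

theorem frattini_dichotomy (hE : IsPushingUpSituation p S) :
    (S ⊓ centralizer (S : Set G)).Normal ∨ ((frattiniOfMinimalCLJoin p ↥S).map S.subtype).Normal := by
  by_cases hZ : S ⊓ centralizer (S : Set G) ≤ center G
  · exact Or.inl (PGroupsBasic.normal_of_le_center hZ)
  right
  have hb := bound hE hZ
  set Q' := (pCore p G).subgroupOf S with hQ'
  let Sel : Subgroup ↥S → Prop := fun R =>
    IsMinimalCentrallyLarge R ∧ Nat.card ↥(omegaOneCenter p R) = maxOmegaCenterOfMinimalCL p ↥S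
  have hmaxom : ∀ R : Subgroup ↥S, IsMinimalCentrallyLarge R →
      Nat.card ↥(omegaOneCenter p R) ≤ maxOmegaCenterOfMinimalCL p ↥S := fun R hR =>
    le_csSup ⟨Nat.card ↥S, by
      rintro _ ⟨R', -, rfl⟩
      exact (card_le_of_le le_top).trans (le_of_eq Subgroup.card_top)⟩ ⟨R, hR, rfl⟩
  have hpR : ∀ R : Subgroup ↥S, IsPGroup p R := fun R => (isPGroup hE).to_subgroup R
  refine iSup_normal hE Sel (fun R => (frattini ↥R).map R.subtype) (phi p)
    (fun R _ => ?_) (fun X g => phi_map _ p X) fun R hR => ?_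
  · show ((frattini ↥R).map R.subtype).map S.subtype = _
    rw [frattini_map_subtype (hpR R), phi_map]
  · obtain ⟨hXQ, -, hmin⟩ := hb.exists_centrallyLarge_le hR.1.1
    obtain ⟨hX, -⟩ := hmin hR.1
    obtain ⟨hphi, hom⟩ := hb.phi_eq hR.1 ((hmaxom _ hX).trans hR.2.ge)
    refine ⟨_, ⟨hX, hom.symm.trans hR.2⟩, ?_, fun g => ?_⟩
    · show (frattini ↥R).map R.subtype = _
      rw [frattini_map_subtype (hpR R), hphi, ← frattini_map_subtype (hpR _)]
    · obtain ⟨R', h1, -, h3, h4⟩ := transport hE hX hXQ g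
      exact ⟨R', ⟨h1, h4.trans (hom.symm.trans hR.2)⟩, h3⟩

theorem commutator_characteristic {P : Type*} [Group P] [Finite P] {Q : Subgroup P}
    (hQ : IsMinimalCentrallyLarge Q) : (⁅Q, Q⁆).Characteristic := by
  refine characteristic_iff_map_le.2 fun e => le_of_eq ?_
  have hi : Function.Injective e.toMonoidHom := e.injective
  have hcem : ∀ R : Subgroup P, cem (R.map e.toMonoidHom) = cem R := fun R => by
    unfold cem
    rw [card_map_of_injective hi, ← map_center_inf _ hi, card_map_of_injective hi]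
  have hQl := hQ.1
  have hl : IsCentrallyLarge (Q.map e.toMonoidHom) := by
    refine centrallyLarge_of_le ?_
    rw [hcem, ← maxCentralProduct_eq]
    unfold IsCentrallyLarge at hQl
    rw [card_center_eq] at hQl
    exact hQl.ge
  have hmin : IsMinimalCentrallyLarge (Q.map e.toMonoidHom) := by
    refine ⟨hl, fun Y hY hYl => ?_⟩
    obtain ⟨R1, hR1Y, hR1⟩ := exists_minimalCentrallyLarge_le hYl
    refine eq_of_le_of_card_ge hY ?_
    rw [card_map_of_injective hi, (minimal_card_eq hQ hR1).1]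
    exact card_le_of_le hR1Y
  rw [map_commutator, commutator_eq hmin hQ]

theorem frattini_bot (hE : IsPushingUpSituation p S) (h : frattiniOfMinimalCLJoin p ↥S = ⊥) :
    (∀ Q : Subgroup ↥S, IsMinimalCentrallyLarge Q ↔ Q ∈ maxAbelianSubgroups ↥S) ∧
      ∃ A ∈ maxAbelianSubgroups ↥S, IsElementaryAbelian p A := by
  obtain ⟨R0, hR0⟩ := exists_centrallyLarge ↥S
  obtain ⟨R1, -, hR1⟩ := exists_minimalCentrallyLarge_le hR0
  obtain ⟨Q, hQ, hQmax⟩ := Set.exists_max_image {R : Subgroup ↥S | IsMinimalCentrallyLarge R}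
    (fun R => Nat.card ↥(omegaOneCenter p R)) (Set.toFinite _) ⟨R1, hR1⟩
  have hsel : Nat.card ↥(omegaOneCenter p Q) = maxOmegaCenterOfMinimalCL p ↥S := by
    refine le_antisymm (le_csSup ⟨Nat.card ↥(omegaOneCenter p Q), ?_⟩ ⟨Q, hQ, rfl⟩)
      (csSup_le ⟨_, Q, hQ, rfl⟩ ?_) <;>
    · rintro _ ⟨R, hR, rfl⟩
      exact hQmax R hR
  have hpQ : IsPGroup p ↥Q := (isPGroup hE).to_subgroup Q
  have hphi : phi p Q = ⊥ := by
    rw [← frattini_map_subtype hpQ, ← le_bot_iff, ← h]
    exact le_iSup (fun R : {R : Subgroup ↥S // IsMinimalCentrallyLarge R ∧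
      Nat.card ↥(omegaOneCenter p R) = maxOmegaCenterOfMinimalCL p ↥S} =>
        (frattini ↥(R : Subgroup ↥S)).map (R : Subgroup ↥S).subtype) ⟨Q, hQ, hsel⟩
  rw [phi, sup_eq_bot_iff] at hphi
  have hab : IsMulCommutative ↥Q :=
    isMulCommutative_of_le_centralizer (commutator_eq_bot_iff_le_centralizer.1 hphi.1)
  refine ⟨fun X => minimal_iff_maxAbelian hQ hab X, Q, (minimal_iff_maxAbelian hQ hab Q).1 hQ, hab,
    fun x hx => ?_⟩
  have : x ^ p ∈ closure ((fun y : ↥S => y ^ p) '' (Q : Set ↥S)) := subset_closure ⟨x, hx, rfl⟩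
  rwa [hphi.2, mem_bot] at this

end Cfsg.Agent.PushingUpCL
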