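import Mathlib

/-!
# Bi-additive alternating forms on a finite field invariant under multiplication by squares

They vanish when the characteristic is at least five.
-/

set_option autoImplicit false

namespace Cfsg.Agent.PushAmalgamQdField

open Polynomial

variable {F : Type*} [Field F] [Fintype F]

/-- The parameters to avoid. -/
theorem exists_param (hF : 25 ≤ Fintype.card F) :
    ∃ s : F, s ≠ 0 ∧ s ^ 4 ≠ 1 ∧
      (1 - s ^ 2) ^ 4 + 4 * s ^ 2 * (1 - s ^ 2) ^ 2 + 16 * s ^ 4 ≠ 0 := by
  classical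
  by_contra hc
  push Not at hc
  set P : F[X] := X * (X ^ 4 - 1) *
    ((1 - X ^ 2) ^ 4 + C 4 * X ^ 2 * (1 - X ^ 2) ^ 2 + C 16 * X ^ 4) with hP
  have hQ : (((1 - X ^ 2) ^ 4 + C 4 * X ^ 2 * (1 - X ^ 2) ^ 2 + C 16 * X ^ 4 : F[X])).eval 0 = 1 := by
    simp
  have hX4 : ((X ^ 4 - 1 : F[X])).eval 0 = -1 := by simp
  have hne : P ≠ 0 := by
    refine mul_ne_zero (mul_ne_zero X_ne_zero fun h => ?_) fun h => ?_
    · rw [h, eval_zero] at hX4
      exact one_ne_zero (neg_eq_zero.1 hX4.symm)
    · rw [h, eval_zero] at hQ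
      exact zero_ne_one hQ
  have hdeg : P.natDegree ≤ 13 := by
    rw [hP]
    compute_degree
  have hall : (Finset.univ : Finset F) ⊆ P.roots.toFinset := fun s _ => by
    rw [Multiset.mem_toFinset, mem_roots hne, IsRoot.def, hP]
    simp only [eval_mul, eval_X, eval_sub, eval_pow, eval_one, eval_add, eval_C]
    by_cases hs : s = 0
    · simp [hs]
    by_cases hs4 : s ^ 4 = 1
    · simp [hs4]
    rw [hc s hs hs4, mul_zero]
  have := (Finset.card_le_card hall).trans ((Multiset.toFinset_card_le _).trans (card_roots' P))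
  rw [Finset.card_univ] at this
  omega

/-- An alternating bi-additive map invariant under squares is trivial. -/
theorem eq_zero_of_invariant {p n : ℕ} (hp : p.Prime) (h5 : 5 ≤ p) (hF : Fintype.card F = p ^ n)
    {A : Type*} [AddCommGroup A] (β : F →+ F →+ A) (halt : ∀ a, β a a = 0)
    (hinv : ∀ k : F, k ≠ 0 → ∀ a b, β (k ^ 2 * a) (k ^ 2 * b) = β a b) (a b : F) : β a b = 0 := by
  classical
  have hn0 : n ≠ 0 := by
    intro h
    rw [h, pow_zero] at hF
    exact absurd hF (Fintype.one_lt_card).ne'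
  haveI := Fact.mk hp
  haveI : CharP F p := charP_of_card_eq_prime_pow hF
  by_cases hn : n = 1
  · subst hn
    rw [pow_one] at hF
    by_cases ha : a = 0
    · simp [ha]
    have hbij : Function.Bijective (ZMod.castHom (dvd_refl p) F) := by
      refine (Fintype.bijective_iff_injective_and_card _).2
        ⟨(ZMod.castHom (dvd_refl p) F).injective, by rw [ZMod.card, hF]⟩
    obtain ⟨k, hk⟩ := hbij.2 (b * a⁻¹)
    have hb : b = k.val • a := by
      rw [nsmul_eq_mul, ← map_natCast (ZMod.castHom (dvd_refl p) F), ZMod.natCast_zmod_val, hk,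
        inv_mul_cancel_right₀ ha]
    rw [hb, map_nsmul, halt, nsmul_zero]
  · have h25 : 25 ≤ Fintype.card F := by
      rw [hF]
      calc 25 = 5 ^ 2 := rfl
        _ ≤ p ^ 2 := Nat.pow_le_pow_left h5 2
        _ ≤ p ^ n := Nat.pow_le_pow_right hp.pos (by omega)
    obtain ⟨s, hs0, hs4, hs3⟩ := exists_param h25
    have h2 : (2 : F) ≠ 0 := by
      intro h
      have := (CharP.cast_eq_zero_iff F p 2).1 (by simpa using h)
      have := Nat.le_of_dvd (by norm_num) this
      omega
    set k : F := (s⁻¹ - s) / 2 with hk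
    set l : F := (s⁻¹ + s) / 2 with hl
    have hkl : l ^ 2 = 1 + k ^ 2 := by
      rw [hk, hl]
      field_simp
      ring
    have hk0 : k ≠ 0 := by
      intro h
      apply hs4
      rw [hk, div_eq_zero_iff] at h
      have h' := h.resolve_right h2
      field_simp at h'
      linear_combination (-(s ^ 2) - 1) * h'
    have hl0 : l ≠ 0 := by
      intro h
      apply hs4
      rw [hl, div_eq_zero_iff] at h
      have h' := h.resolve_right h2
      field_simp at h'
      linear_combination (s ^ 2 - 1) * h'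
    have hinv' : ∀ c : F, c ≠ 0 → ∀ x y, β (c ^ 2 * x) y = β x ((c ^ 2)⁻¹ * y) := fun c hc x y => by
      conv_lhs => rw [← mul_inv_cancel_left₀ (pow_ne_zero 2 hc) y]
      rw [hinv c hc]
    set d : F := 1 + (k ^ 2)⁻¹ - (l ^ 2)⁻¹ with hd
    have hd0 : d ≠ 0 := by
      intro h
      rw [hd, hkl] at h
      have hk2 : k ^ 2 ≠ 0 := pow_ne_zero 2 hk0
      have hl2 : 1 + k ^ 2 ≠ 0 := hkl ▸ pow_ne_zero 2 hl0
      field_simp at h
      apply hs3
      have key : k ^ 2 * (4 * s ^ 2) = (1 - s ^ 2) ^ 2 := by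
        rw [hk]
        field_simp
        ring
      linear_combination (16 * s ^ 4) * h + (-(k ^ 2 * (4 * s ^ 2)) - (1 - s ^ 2) ^ 2 - 4 * s ^ 2) * key
    have hzero : ∀ x y, β x (d * y) = 0 := by
      intro x y
      have h1 : β (l ^ 2 * x) y = β x y + β x ((k ^ 2)⁻¹ * y) := by
        rw [hkl, add_mul, one_mul, map_add, AddMonoidHom.add_apply, hinv' k hk0]
      rw [hinv' l hl0] at h1
      rw [hd, sub_mul, add_mul, one_mul, map_sub, map_add, ← h1, sub_self]
    have := hzero a (d⁻¹ * b)
    rwa [mul_inv_cancel_left₀ hd0] at this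

end Cfsg.Agent.PushAmalgamQdField
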