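import Mathlib
import Cfsg.Agent.Lib.PushAmalgamDefs
import Cfsg.Agent.Lib.QdStructure56
import Cfsg.Agent.Lib.PSLSimple
import Cfsg.Agent.Lib.LocGroup56
import Cfsg.Agent.Lib.PushAmalgamQdField

/-!
# Pushing up with one noncentral factor for `p ≥ 5`: the group is `Qd(q) × R`
-/

set_option autoImplicit false

namespace Cfsg.Agent.PushAmalgamQdSplit

open Subgroup QdStructure56 PushAmalgam
open scoped commutatorElement MatrixGroups IsMulCommutative Matrix

set_option linter.unusedSectionVars false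
set_option linter.style.haveILetI false

variable {G : Type*} [Group G]

/-- A coprime element centralising the factors of a series centralises. -/
theorem eq_one_of_coprime {p m : ℕ} (hp : p.Prime) {g q a : G} (hga : g * a = a * g)
    (hconj : g * q * g⁻¹ = q * a) (hg : g ^ m = 1) (hm : ¬ p ∣ m) (ha : a ^ p = 1) : a = 1 := by
  have key : ∀ n : ℕ, g ^ n * q * (g ^ n)⁻¹ = q * a ^ n := by
    intro n
    induction n with
    | zero => simp
    | succ n ih =>
      have hc : g * a ^ n * g⁻¹ = a ^ n := by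
        rw [(Commute.pow_right (show Commute g a from hga) n).eq, mul_inv_cancel_right]
      calc g ^ (n + 1) * q * (g ^ (n + 1))⁻¹ = g * (g ^ n * q * (g ^ n)⁻¹) * g⁻¹ := by
            rw [pow_succ', mul_inv_rev]; group
        _ = (g * q * g⁻¹) * (g * a ^ n * g⁻¹) := by rw [ih]; group
        _ = _ := by rw [hconj, hc, pow_succ', mul_assoc]
  have h1 := key m
  rw [hg, one_mul, inv_one, mul_one, left_eq_mul] at h1
  have h2 := Nat.dvd_gcd (orderOf_dvd_of_pow_eq_one h1) (orderOf_dvd_of_pow_eq_one ha)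
  rw [Nat.Coprime.gcd_eq_one ((hp.coprime_iff_not_dvd.2 hm).symm), Nat.dvd_one] at h2
  exact orderOf_eq_one_iff.1 h2

/-- A coprime element centralises every hypercentral factor. -/
theorem comm_mem_of_hyper {p m : ℕ} (hp : p.Prime) {Q W : Subgroup G} [Q.Normal] [W.Normal]
    (hexp : ∀ q ∈ Q, q ^ p = 1) (hH : Hyper Q W) {g : G} (hg : g ^ m = 1) (hm : ¬ p ∣ m)
    {q : G} (hq : q ∈ Q) : q⁻¹ * (g * q * g⁻¹) ∈ W := by
  obtain ⟨k, hk⟩ := hH
  have hle : ∀ j, Cfsg.iterCommutator Q (⊤ : Subgroup G) j ≤ Q := by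
    intro j
    induction j with
    | zero => exact le_rfl
    | succ j ih => exact (commutator_mono ih le_rfl).trans (commutator_le_left Q ⊤)
  have main : ∀ i j : ℕ, j + i = k → ∀ x ∈ Cfsg.iterCommutator Q (⊤ : Subgroup G) j,
      x⁻¹ * (g * x * g⁻¹) ∈ W := by
    intro i
    induction i with
    | zero =>
      intro j hj x hx
      rw [Nat.add_zero] at hj
      subst hj
      exact mul_mem (inv_mem (hk hx)) (Normal.conj_mem inferInstance x (hk hx) g)
    | succ i ih =>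
      intro j hj x hx
      set a := x⁻¹ * (g * x * g⁻¹) with ha
      have hmem : a ∈ Cfsg.iterCommutator Q (⊤ : Subgroup G) (j + 1) := by
        have h1 : ⁅x⁻¹, g⁆ ∈ Cfsg.iterCommutator Q (⊤ : Subgroup G) (j + 1) :=
          commutator_mem_commutator (inv_mem hx) (mem_top g)
        rwa [commutatorElement_def, inv_inv, mul_assoc, mul_assoc, ← mul_assoc g] at h1
      have h2 := ih (j + 1) (by omega) a hmem
      have h2' : (QuotientGroup.mk' W) (a⁻¹ * (g * a * g⁻¹)) = 1 :=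
        (QuotientGroup.eq_one_iff _).2 h2
      rw [← QuotientGroup.eq_one_iff]
      refine eq_one_of_coprime hp (g := QuotientGroup.mk' W g) (q := QuotientGroup.mk' W x)
        (a := QuotientGroup.mk' W a) (m := m) ?_ ?_ ?_ hm ?_
      · simp only [map_mul, map_inv, inv_mul_eq_one] at h2'
        exact mul_inv_eq_iff_eq_mul.1 h2'.symm
      · simp only [← map_inv, ← map_mul, ha, mul_inv_cancel_left]
      · rw [← map_pow, hg, map_one]
      · rw [← map_pow, hexp a (hle _ hmem), map_one]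
  exact main k 0 (Nat.zero_add k) q hq

/-- A homomorphism onto `SL₂` with normalised Sylow subgroup. -/
theorem exists_normalized [Finite G] {p : ℕ} [Fact p.Prime] {F : Type} [Field F] [Finite F]
    [CharP F p] (S : Sylow p G) {X Y : Subgroup G} (h : NatSection F (Cfsg.pCore p G) X Y) :
    ∃ (ρ : G →* SL(2, F)) (ψ : ↥X →* Multiplicative (Fin 2 → F)),
      Function.Surjective ρ ∧ ρ.ker = Cfsg.pCore p G ∧ Function.Surjective ψ ∧
      (∀ x : ↥X, ψ x = 1 ↔ (x : G) ∈ Y) ∧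
      (∀ (g : G) (x y : ↥X), (y : G) = g * (x : G) * g⁻¹ →
        (ψ y).toAdd = (ρ g).1 *ᵥ (ψ x).toAdd) ∧
      (S : Subgroup G) = (PSL2Sylow.uSub F).comap ρ := by
  obtain ⟨-, -, -, ρ, ψ, hρ, hker, hψ, hψY, hconj⟩ := h
  obtain ⟨A, hA⟩ := PSL2Sylow.sylow_eq_conj p (S.mapSurjective hρ)
  rw [Sylow.coe_mapSurjective] at hA
  let ρ' : G →* SL(2, F) := (MulAut.conj A⁻¹).toMonoidHom.comp ρ
  let T : (Fin 2 → F) →+ (Fin 2 → F) :=
    AddMonoidHom.mk' (fun v => (A⁻¹).1 *ᵥ v) fun a b => Matrix.mulVec_add _ a b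
  let ψ' : ↥X →* Multiplicative (Fin 2 → F) := (AddMonoidHom.toMultiplicative T).comp ψ
  have hTinj : Function.Injective T := fun a b hab => by
    have h1 := congrArg (fun v => A.1 *ᵥ v) hab
    simp only [T, AddMonoidHom.mk'_apply, Matrix.mulVec_mulVec, ← QdStructure56.coeMul,
      mul_inv_cancel, QdStructure56.coeOne, Matrix.one_mulVec] at h1
    exact h1
  refine ⟨ρ', ψ', (MulAut.conj A⁻¹).surjective.comp hρ, ?_, ?_, fun x => ?_, ?_, ?_⟩
  · ext g
    rw [← hker, MonoidHom.mem_ker, MonoidHom.mem_ker]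
    exact (MulAut.conj A⁻¹).map_eq_one_iff
  · intro v
    obtain ⟨x, hx⟩ := hψ (Multiplicative.ofAdd (A.1 *ᵥ v.toAdd))
    refine ⟨x, Multiplicative.toAdd.injective ?_⟩
    change T (ψ x).toAdd = _
    rw [hx]
    simp only [T, AddMonoidHom.mk'_apply, toAdd_ofAdd, Matrix.mulVec_mulVec, ← QdStructure56.coeMul,
      inv_mul_cancel, QdStructure56.coeOne, Matrix.one_mulVec]
  · rw [← hψY x]
    constructor
    · intro hx
      have h1 : T (ψ x).toAdd = T 0 := by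
        rw [map_zero]
        exact congrArg Multiplicative.toAdd hx
      exact Multiplicative.toAdd.injective (hTinj h1)
    · intro hx
      change (AddMonoidHom.toMultiplicative T) (ψ x) = 1
      rw [hx, map_one]
  · intro g x y hy
    change T (ψ y).toAdd = (ρ' g).1 *ᵥ T (ψ x).toAdd
    rw [hconj g x y hy]
    simp only [T, ρ', AddMonoidHom.mk'_apply, MonoidHom.comp_apply, MulEquiv.coe_toMonoidHom,
      MulAut.conj_apply, inv_inv, Matrix.mulVec_mulVec, ← QdStructure56.coeMul]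
    group
  · have hle : Cfsg.pCore p G ≤ (S : Subgroup G) := LocGroup56.pCore_le_sylow S
    ext g
    rw [mem_comap]
    change g ∈ (S : Subgroup G) ↔ A⁻¹ * ρ g * A⁻¹⁻¹ ∈ PSL2Sylow.uSub F
    rw [inv_inv]
    have hmem : ρ g ∈ (S : Subgroup G).map ρ ↔ A⁻¹ * ρ g * A ∈ PSL2Sylow.uSub F := by
      rw [hA, Subgroup.mem_pointwise_smul_iff_inv_smul_mem, ← map_inv, MulAut.smul_def,
        MulAut.conj_apply, inv_inv]
    rw [← hmem]
    refine ⟨fun hg => mem_map_of_mem _ hg, fun hg => ?_⟩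
    obtain ⟨s, hs, hsg⟩ := mem_map.1 hg
    have hk : s⁻¹ * g ∈ ρ.ker := by
      rw [MonoidHom.mem_ker, map_mul, map_inv, hsg, inv_mul_cancel]
    rw [hker] at hk
    have := mul_mem hs (hle hk)
    rwa [mul_inv_cancel_left] at this

theorem mem_uSub_comm {F : Type*} [Field F] {x y : SL(2, F)} (hx : x ∈ PSL2Sylow.uSub F)
    (hy : y ∈ PSL2Sylow.uSub F) : x * y = y * x := by
  obtain ⟨a, rfl⟩ := PSL2Sylow.mem_uSub.1 hx
  obtain ⟨b, rfl⟩ := PSL2Sylow.mem_uSub.1 hy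
  rw [PSL2Elements.u_mul, PSL2Elements.u_mul, add_comm]

/-- The group is `Qd(q) × R`. -/
theorem exists_split [Finite G] {p : ℕ} [hpf : Fact p.Prime] (hp5 : 5 ≤ p) (S : Sylow p G)
    (F : Type) [Field F] [Fintype F] {n : ℕ} (hn : 1 ≤ n) (hF : Fintype.card F = p ^ n)
    (h : ShapeOne p F (S : Subgroup G)) :
    ∃ (R : Subgroup G) (e : Qd F × ↥R ≃* G), IsPGroup p ↥R ∧ (∀ r ∈ R, r ^ p = 1) ∧
      (∀ r : ↥R, e (1, r) = (r : G)) ∧
      (∀ x, x ∈ (S : Subgroup G) ↔ blk (e.symm x).1 ∈ PSL2Sylow.uSub F) := by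
  classical
  have hp := hpf.out
  haveI : CharP F p := charP_of_card_eq_prime_pow hF
  have hodd : Odd p := hp.odd_of_ne_two (by omega)
  set Q := Cfsg.pCore p G with hQdef
  haveI hQn : Q.Normal := Cfsg.pCore_normal p G
  obtain ⟨W, C, hWQ, hsec, hC1, hHyp, -⟩ := h.factors
  obtain ⟨hCW, hWn, -, -⟩ := id hsec
  obtain ⟨ρ, ψ, hρ, hker, hψ, hψC, hψconj, hS⟩ := exists_normalized S hsec
  have hexp : ∀ s ∈ (S : Subgroup G), s ^ p = 1 := fun s hs => by
    have h1 := Monoid.pow_exponent_eq_one (⟨s, hs⟩ : ↥(S : Subgroup G))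
    rw [h.exp_odd (by omega)] at h1
    exact congrArg Subtype.val h1
  have hcl : ∀ a ∈ (S : Subgroup G), ∀ b ∈ (S : Subgroup G), ∀ c ∈ (S : Subgroup G),
      ⁅a, b⁆ * c = c * ⁅a, b⁆ := fun a ha b hb c hc => by
    rw [← commutatorElement_eq_one_iff_mul_comm]
    have h1 : ⁅⁅a, b⁆, c⁆ ∈ (S : Subgroup G).lowerCentralSeries 2 :=
      commutator_mem_commutator (commutator_mem_commutator ha hb) hc
    rw [h.class_le, mem_bot] at h1
    exact h1
  have hQS : Q ≤ (S : Subgroup G) := fun q hq => by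
    rw [hS, mem_comap, MonoidHom.mem_ker.1 (hker.symm ▸ hq : q ∈ ρ.ker)]
    exact one_mem _
  have hρQ : ∀ {q}, q ∈ Q → ρ q = 1 := fun {q} hq => MonoidHom.mem_ker.1 (hker.symm ▸ hq : q ∈ ρ.ker)
  have hQρ : ∀ {q}, ρ q = 1 → q ∈ Q := fun {q} hq => (SetLike.ext_iff.1 hker q).1 (MonoidHom.mem_ker.2 hq)
  have hC : ∀ c ∈ C, ∀ g : G, c * g = g * c := fun c hc g => by
    rw [← commutatorElement_eq_one_iff_mul_comm]
    have h1 : ⁅c, g⁆ ∈ ⁅C, (⊤ : Subgroup G)⁆ := commutator_mem_commutator hc (mem_top g)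
    rwa [hC1, mem_bot] at h1
  -- coordinates on `W`
  let φ : G → Fin 2 → F := fun g => if hg : g ∈ W then (ψ ⟨g, hg⟩).toAdd else 0
  have hφ : ∀ {w} (hw : w ∈ W), φ w = (ψ ⟨w, hw⟩).toAdd := fun hw => dif_pos hw
  have φmul : ∀ {v w}, v ∈ W → w ∈ W → φ (v * w) = φ v + φ w := fun {v w} hv hw => by
    rw [hφ hv, hφ hw, hφ (mul_mem hv hw), ← toAdd_mul, ← map_mul]
    rfl
  have φzero : ∀ {w}, w ∈ W → (φ w = 0 ↔ w ∈ C) := fun {w} hw => by
    rw [hφ hw, ← hψC ⟨w, hw⟩, toAdd_eq_zero]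
  have φinv : ∀ {w}, w ∈ W → φ w⁻¹ = -φ w := fun {w} hw => by
    have h1 := φmul hw (inv_mem hw)
    rw [mul_inv_cancel, (φzero (one_mem W)).2 (one_mem C)] at h1
    exact eq_neg_of_add_eq_zero_right h1.symm
  have φconj : ∀ g {w}, w ∈ W → φ (g * w * g⁻¹) = (ρ g).1 *ᵥ φ w := fun g w hw => by
    rw [hφ hw, hφ (hWn.conj_mem w hw g)]
    exact hψconj g ⟨w, hw⟩ ⟨_, hWn.conj_mem w hw g⟩ rfl
  have φsurj : ∀ v, ∃ w ∈ W, φ w = v := fun v => by
    obtain ⟨x, hx⟩ := hψ (Multiplicative.ofAdd v)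
    refine ⟨x, x.2, ?_⟩
    rw [hφ x.2, hx, toAdd_ofAdd]
  -- the centre of `S` meets `W` outside `C`, so `Q` centralises `W`
  obtain ⟨z, hzW, hz10, hzS⟩ : ∃ z ∈ W, φ z = ![1, 0] ∧ ∀ s ∈ (S : Subgroup G), z * s = s * z := by
    obtain ⟨s₀, hs₀⟩ := hρ (PSL2Elements.u 1)
    obtain ⟨w, hw, hw01⟩ := φsurj ![0, 1]
    have hs₀S : s₀ ∈ (S : Subgroup G) := by
      rw [hS, mem_comap, hs₀]
      exact PSL2Sylow.mem_uSub.2 ⟨1, rfl⟩
    refine ⟨⁅s₀, w⁆, ?_, ?_, fun s hs => hcl s₀ hs₀S w (hQS (hWQ hw)) s hs⟩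
    · exact mul_mem (hWn.conj_mem w hw s₀) (inv_mem hw)
    · rw [commutatorElement_def, φmul (hWn.conj_mem w hw s₀) (inv_mem hw), φconj s₀ hw, φinv hw,
        hs₀, hw01]
      funext i
      fin_cases i <;> simp [PSL2Elements.u, PSL2Elements.mk2]
  have hQW : ∀ q ∈ Q, ∀ w ∈ W, q * w = w * q := by
    intro q hq w hw
    by_cases hw0 : φ w = 0
    · exact (hC w ((φzero hw).1 hw0) q).symm
    have hne : (![1, 0] : Fin 2 → F) ≠ 0 := fun h0 => one_ne_zero (congrFun h0 0)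
    obtain ⟨A, hA⟩ := exists_mulVec_eq hne hw0
    obtain ⟨g, hg⟩ := hρ A
    have hc : (g * z * g⁻¹)⁻¹ * w ∈ C := by
      rw [← φzero (mul_mem (inv_mem (hWn.conj_mem z hzW g)) hw),
        φmul (inv_mem (hWn.conj_mem z hzW g)) hw, φinv (hWn.conj_mem z hzW g), φconj g hzW, hg,
        hz10, hA, neg_add_cancel]
    have hcomm : Commute q (g * z * g⁻¹) := by
      have h1 := hzS _ (hQS (hQn.conj_mem' q hq g))
      calc q * (g * z * g⁻¹) = g * ((g⁻¹ * q * g) * z) * g⁻¹ := by group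
        _ = g * (z * (g⁻¹ * q * g)) * g⁻¹ := by rw [h1]
        _ = _ := by group
    have hcc : Commute q ((g * z * g⁻¹)⁻¹ * w) := (hC _ hc q).symm
    have := hcomm.mul_right hcc
    rwa [mul_inv_cancel_left] at this
  -- an involution inverting `W / C`
  obtain ⟨g₀, hg₀⟩ := hρ (-1)
  obtain ⟨t, ht⟩ : ∃ t, t = g₀ ^ p := ⟨_, rfl⟩
  have hρt : ρ t = -1 := by
    rw [ht, map_pow, hg₀, hodd.neg_one_pow]
  have htt : t * t = 1 := by
    have hsq : g₀ * g₀ ∈ Q := hQρ (by rw [map_mul, hg₀, neg_one_mul, neg_neg])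
    rw [ht, ← pow_add, ← two_mul, pow_mul, pow_two]
    exact hexp _ (hQS hsq)
  have htinv : t⁻¹ = t := inv_eq_of_mul_eq_one_right htt
  have φt : ∀ {w}, w ∈ W → φ (t * w * t⁻¹) = -φ w := fun {w} hw => by
    rw [φconj t hw, hρt, Matrix.SpecialLinearGroup.coe_neg, Matrix.SpecialLinearGroup.coe_one,
      Matrix.neg_mulVec, Matrix.one_mulVec]
  have hhalf : ∀ {a}, a ∈ Q → (a ^ ((p + 1) / 2)) * (a ^ ((p + 1) / 2)) = a := fun {a} ha => by
    rw [← pow_add, ← two_mul, Nat.two_mul_div_two_of_even hodd.add_one, pow_succ,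
      hexp a (hQS ha), one_mul]
  set L := centralizer ({t} : Set G) with hL
  have hLmem : ∀ {g}, g ∈ L ↔ g * t = t * g := fun {g} => mem_centralizer_singleton_iff
  have htL : ∀ {g}, g ∈ L → t * g * t⁻¹ = g := fun {g} hg => by
    rw [← hLmem.1 hg, mul_inv_cancel_right]
  have hGQL : ∀ g, ∃ q ∈ Q, q⁻¹ * g ∈ L := by
    intro g
    set q₁ := g * t * g⁻¹ * t with hq₁
    have hq₁Q : q₁ ∈ Q := hQρ (by
      rw [hq₁, map_mul, map_mul, map_mul, map_inv, hρt]
      simp only [mul_neg, mul_one, neg_mul, mul_inv_cancel, neg_neg])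
    have hinvq : t * q₁ * t⁻¹ = q₁⁻¹ := by
      have h2 : g * t * g⁻¹ * (g * t * g⁻¹) = 1 := by
        rw [show g * t * g⁻¹ * (g * t * g⁻¹) = g * (t * t) * g⁻¹ by group, htt, mul_one,
          mul_inv_cancel]
      apply eq_inv_of_mul_eq_one_left
      rw [hq₁, show t * (g * t * g⁻¹ * t) * t⁻¹ * (g * t * g⁻¹ * t) =
        t * ((g * t * g⁻¹) * (g * t * g⁻¹)) * t by group, h2, mul_one, htt]
    refine ⟨q₁ ^ ((p + 1) / 2), pow_mem hq₁Q _, hLmem.2 ?_⟩
    set q := q₁ ^ ((p + 1) / 2) with hq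
    have hqt : t * q * t⁻¹ = q⁻¹ := by
      rw [hq, ← conj_pow, hinvq, inv_pow]
    have h3 : q * t * q⁻¹ = g * t * g⁻¹ := by
      have h4 : t * q⁻¹ * t = q := by
        have := congrArg (fun x => x⁻¹) hqt
        simp only [mul_inv_rev, inv_inv] at this
        rwa [← mul_assoc, htinv] at this
      calc q * t * q⁻¹ = q * (t * q⁻¹ * t) * t⁻¹ := by group
        _ = q₁ * t⁻¹ := by rw [h4, hhalf hq₁Q]
        _ = _ := by rw [hq₁]; group
    calc q⁻¹ * g * t = q⁻¹ * (g * t * g⁻¹) * g := by group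
      _ = t * (q⁻¹ * g) := by rw [← h3]; group
  let V : Subgroup G :=
    { carrier := {w | w ∈ W ∧ t * w * t⁻¹ = w⁻¹}
      one_mem' := ⟨one_mem W, by simp⟩
      mul_mem' := fun {a b} ha hb => ⟨mul_mem ha.1 hb.1, by
        rw [show t * (a * b) * t⁻¹ = (t * a * t⁻¹) * (t * b * t⁻¹) by group, ha.2, hb.2,
          ← mul_inv_rev, ← hQW a (hWQ ha.1) b hb.1]⟩
      inv_mem' := fun {a} ha => ⟨inv_mem ha.1, by
        rw [show t * a⁻¹ * t⁻¹ = (t * a * t⁻¹)⁻¹ by group, ha.2]⟩ }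
  have hVmem : ∀ {w}, w ∈ V ↔ w ∈ W ∧ t * w * t⁻¹ = w⁻¹ := fun {w} => Iff.rfl
  have hVQ : ∀ {w}, w ∈ V → w ∈ Q := fun hw => hWQ hw.1
  have hinvol : ∀ {x}, x ∈ Q → x = x⁻¹ → x = 1 := fun {x} hx hxx => by
    have h2 : x ^ 2 = 1 := by
      rw [pow_two]
      nth_rw 2 [hxx]
      exact mul_inv_cancel x
    obtain ⟨c, hc⟩ := hodd
    have := hexp x (hQS hx)
    rwa [hc, pow_succ, pow_mul, h2, one_pow, one_mul] at this
  have hVC : ∀ {w}, w ∈ V → φ w = 0 → w = 1 := fun {w} hw h0 => by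
    have hc := (φzero hw.1).1 h0
    have h1 := hw.2
    rw [← hC w hc t, mul_inv_cancel_right] at h1
    exact hinvol (hVQ hw) h1
  have hVinj : ∀ {a b}, a ∈ V → b ∈ V → φ a = φ b → a = b := fun {a b} ha hb hab => by
    refine mul_inv_eq_one.1 (hVC (mul_mem ha (inv_mem hb)) ?_)
    rw [φmul ha.1 (inv_mem hb.1), φinv hb.1, hab, add_neg_cancel]
  have hVmk : ∀ {w}, w ∈ W → w * (t * w⁻¹ * t⁻¹) ∈ V := fun {w} hw => by
    have hm := hWn.conj_mem _ (inv_mem hw) t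
    refine ⟨mul_mem hw hm, ?_⟩
    rw [show t * (w * (t * w⁻¹ * t⁻¹)) * t⁻¹ = t * w * t⁻¹ * ((t * t) * w⁻¹ * (t * t)⁻¹) by group,
      htt, one_mul, inv_one, mul_one, mul_inv_rev]
    group
  have hVsurj : ∀ v, ∃ a ∈ V, φ a = v := fun v => by
    obtain ⟨w, hw, hwv⟩ := φsurj ((2 : F)⁻¹ • v)
    refine ⟨_, hVmk hw, ?_⟩
    have h2 : (2 : F) ≠ 0 := by
      intro h0
      have h3 := (CharP.cast_eq_zero_iff F p 2).1 (by simpa using h0)
      have := Nat.le_of_dvd (by norm_num) h3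
      omega
    rw [φmul hw (hWn.conj_mem _ (inv_mem hw) t), φt (inv_mem hw), φinv hw, neg_neg, hwv,
      ← two_smul F ((2 : F)⁻¹ • v), smul_smul, mul_inv_cancel₀ h2, one_smul]
  have hVn : ∀ g {a}, a ∈ V → g * a * g⁻¹ ∈ V := fun g a ha => by
    obtain ⟨q, hq, hl⟩ := hGQL g
    set l := q⁻¹ * g with hldef
    have hg : g = q * l := by rw [hldef, mul_inv_cancel_left]
    have hlaW := hWn.conj_mem a ha.1 l
    have he : g * a * g⁻¹ = l * a * l⁻¹ := by
      rw [hg, show q * l * a * (q * l)⁻¹ = q * (l * a * l⁻¹) * q⁻¹ by group, hQW q hq _ hlaW,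
        mul_inv_cancel_right]
    rw [he]
    refine ⟨hlaW, ?_⟩
    rw [show t * (l * a * l⁻¹) * t⁻¹ = (t * l * t⁻¹) * (t * a * t⁻¹) * (t * l * t⁻¹)⁻¹ by group,
      htL hl, ha.2]
    group
  -- `R = C_Q(t)`
  set R := Q ⊓ L with hRdef
  have hVL : ∀ {a}, a ∈ V → a ∈ L → a = 1 := fun {a} ha hl =>
    hinvol (hVQ ha) (by rw [← ha.2, htL hl])
  have hnot2 : ¬ p ∣ 2 := fun hd => by
    have := Nat.le_of_dvd (by norm_num) hd
    omega
  have hQVR : ∀ q ∈ Q, ∃ b ∈ V, b⁻¹ * q ∈ R := by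
    intro q hq
    have hmem := comm_mem_of_hyper hp (m := 2) (fun x hx => hexp x (hQS hx)) hHyp
      (g := t) (by rw [pow_two]; exact htt) hnot2 (inv_mem hq)
    rw [inv_inv] at hmem
    set a := q * (t * q⁻¹ * t⁻¹) with ha
    have haV : a ∈ V := ⟨hmem, by
      rw [ha, show t * (q * (t * q⁻¹ * t⁻¹)) * t⁻¹ = t * q * t⁻¹ * ((t * t) * q⁻¹ * (t * t)⁻¹) by
        group, htt, one_mul, inv_one, mul_one, mul_inv_rev]
      group⟩
    refine ⟨a ^ ((p + 1) / 2), pow_mem haV _, ?_⟩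
    set b := a ^ ((p + 1) / 2) with hb
    have hbb : b * b = a := hhalf (hVQ haV)
    refine mem_inf.2 ⟨mul_mem (inv_mem (hVQ (pow_mem haV _))) hq, hLmem.2 ?_⟩
    have hbt : t * b⁻¹ * t⁻¹ = b := by
      have h5 : t * b * t⁻¹ = b⁻¹ := (pow_mem haV _ : b ∈ V).2
      rw [show t * b⁻¹ * t⁻¹ = (t * b * t⁻¹)⁻¹ by group, h5, inv_inv]
    have h6 : t * (b⁻¹ * q) * t⁻¹ = b⁻¹ * q := by
      rw [show t * (b⁻¹ * q) * t⁻¹ = (t * b⁻¹ * t⁻¹) * (t * q * t⁻¹) by group, hbt,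
        show t * q * t⁻¹ = a⁻¹ * q by rw [ha]; group, ← hbb]
      group
    exact (mul_inv_eq_iff_eq_mul.1 h6).symm
  have hρL : ∀ A, ∃ l ∈ L, ρ l = A := fun A => by
    obtain ⟨g, rfl⟩ := hρ A
    obtain ⟨q, hq, hl⟩ := hGQL g
    exact ⟨_, hl, by rw [map_mul, map_inv, hρQ hq, inv_one, one_mul]⟩
  have hRQ : ∀ {r}, r ∈ R → r ∈ Q := fun hr => hr.1
  have hRn : ∀ {g r}, g ∈ L → r ∈ R → g * r * g⁻¹ ∈ R := fun {g r} hg hr =>
    mem_inf.2 ⟨hQn.conj_mem r hr.1 g, mul_mem (mul_mem hg (mem_inf.1 hr).2) (inv_mem hg)⟩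
  have hcop : ∀ {g m}, g ∈ L → g ^ m = 1 → ¬ p ∣ m → ∀ r ∈ R, g * r = r * g := by
    intro g m hg hgm hm r hr
    set a := r⁻¹ * (g * r * g⁻¹) with ha
    have haW : a ∈ W := comm_mem_of_hyper hp (fun x hx => hexp x (hQS hx)) hHyp hgm hm hr.1
    have haL : a ∈ L := mul_mem (inv_mem (mem_inf.1 hr).2) (mul_mem (mul_mem hg (mem_inf.1 hr).2) (inv_mem hg))
    have haC : a ∈ C := by
      rw [← φzero haW]
      have h1 := φt haW
      rw [htL haL] at h1
      have h2 : (2 : F) ≠ 0 := by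
        intro h0
        exact hnot2 ((CharP.cast_eq_zero_iff F p 2).1 (by simpa using h0))
      funext i
      have h3 := congrFun h1 i
      simp only [Pi.neg_apply] at h3
      exact (mul_eq_zero.1 (show (2 : F) * φ a i = 0 by linear_combination h3)).resolve_left h2
    have ha1 : a = 1 := eq_one_of_coprime hp (hC a haC g).symm
      (show g * r * g⁻¹ = r * a by rw [ha, mul_inv_cancel_left]) hgm hm (hexp a (hQS (hWQ haW)))
    rw [ha, inv_mul_eq_one] at ha1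
    exact mul_inv_eq_iff_eq_mul.1 ha1.symm
  set Lc := L ⊓ centralizer (R : Set G) with hLc
  have hLcR : ∀ {g r}, g ∈ Lc → r ∈ R → g * r = r * g := fun {g r} hg hr =>
    (mem_centralizer_iff.1 hg.2 r hr).symm
  -- `Lc` covers `SL₂`
  have hq5 : 5 ≤ Nat.card F := by
    rw [Nat.card_eq_fintype_card, hF]
    calc 5 ≤ p ^ 1 := by simpa using hp5
      _ ≤ p ^ n := Nat.pow_le_pow_right hp.pos hn
  obtain ⟨k, hk0, hk2⟩ := Cfsg.Agent.PSLSimple.exists_sq_ne_one (F := F) (by omega)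
  have hperf : commutator SL(2, F) = ⊤ :=
    Cfsg.Agent.PSLSimple.commutator_SL_fin_eq_top le_rfl fun _ => ⟨k, hk0, hk2⟩
  have hcovN : Lc.map ρ = ⊤ := by
    set N := Lc.map ρ
    have hNn : ∀ A, ∀ B ∈ N, A * B * A⁻¹ ∈ N := by
      rintro A - ⟨l, hl, rfl⟩
      obtain ⟨g, hg, rfl⟩ := hρL A
      refine ⟨g * l * g⁻¹, mem_inf.2 ⟨mul_mem (mul_mem hg hl.1) (inv_mem hg),
        mem_centralizer_iff.2 fun r hr => ?_⟩, by rw [map_mul, map_mul, map_inv]⟩
      have hr' : g⁻¹ * r * g ∈ R := by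
        have := hRn (inv_mem hg) hr
        rwa [inv_inv] at this
      have e := hLcR hl hr'
      calc r * (g * l * g⁻¹) = g * ((g⁻¹ * r * g) * l) * g⁻¹ := by group
        _ = g * (l * (g⁻¹ * r * g)) * g⁻¹ := by rw [e]
        _ = _ := by group
    have hdN : PSL2Elements.d (Units.mk0 k hk0) ∈ N := by
      obtain ⟨l, hl, hlA⟩ := hρL (PSL2Elements.d (Units.mk0 k hk0))
      set A := PSL2Elements.d (Units.mk0 k hk0)
      have hAm : A ^ (Nat.card F - 1) = 1 := PSL2Elements.pow_card_sub_one_d _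
      have hcm : Nat.Coprime p (Nat.card F - 1) := by
        refine hp.coprime_iff_not_dvd.2 fun hd => ?_
        obtain ⟨n', hn', hn''⟩ := PSL2Sylow.card_field_eq (F := F) p
        rw [hn''] at hd
        exact PSL2Sylow.not_dvd_pow_sub_one (j := 1) hp one_pos hn' (by simpa using hd)
      have hlp : (l ^ (Nat.card F - 1)) ^ p = 1 :=
        hexp _ (hQS (hQρ (by rw [map_pow, hlA, hAm])))
      obtain ⟨i, hi⟩ := exists_pow_eq_self_of_coprime (x := A)
        (Nat.Coprime.coprime_dvd_right (orderOf_dvd_of_pow_eq_one hAm) hcm)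
      refine ⟨(l ^ p) ^ i, mem_inf.2 ⟨pow_mem (pow_mem hl _) _, mem_centralizer_iff.2 fun r hr => ?_⟩, ?_⟩
      · refine (hcop (m := Nat.card F - 1) (pow_mem (pow_mem hl _) _) ?_
          (hp.coprime_iff_not_dvd.1 hcm) r hr).symm
        rw [← pow_mul, ← pow_mul, show p * (i * (Nat.card F - 1)) = (Nat.card F - 1) * p * i by ring,
          pow_mul, pow_mul, hlp, one_pow]
      · rw [map_pow, map_pow, hlA]
        exact hi
    have huN : ∀ x : F, PSL2Elements.u x ∈ N := by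
      intro x
      set a := Units.mk0 k hk0
      have hk2' : ((a : F) ^ 2 - 1) ≠ 0 := sub_ne_zero.2 hk2
      set y := x / ((a : F) ^ 2 - 1) with hy
      have e : PSL2Elements.d a * (PSL2Elements.u y * (PSL2Elements.d a)⁻¹ * (PSL2Elements.u y)⁻¹) =
          PSL2Elements.u x := by
        rw [← mul_assoc, ← mul_assoc, PSL2Elements.d_conj_u]
        have hinv : (PSL2Elements.u y : SL(2, F))⁻¹ = PSL2Elements.u (-y) :=
          inv_eq_of_mul_eq_one_right (by rw [PSL2Elements.u_mul, add_neg_cancel, PSL2Elements.u_zero])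
        rw [hinv, PSL2Elements.u_mul]
        congr 1
        rw [hy]
        field_simp
        ring
      rw [← e]
      exact mul_mem hdN (hNn _ _ (inv_mem hdN))
    refine Cfsg.Agent.PSLSimple.eq_top_of_transvection_mem N fun i j hij c => ?_
    fin_cases i <;> fin_cases j
    · exact absurd rfl hij
    · convert huN c using 1
      apply PSL2Elements.ext2 <;>
        simp [Matrix.SpecialLinearGroup.transvection, Matrix.transvection, PSL2Elements.u,
          PSL2Elements.mk2]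
    · convert hNn PSL2Elements.w _ (huN (-c)) using 1
      refine eq_mul_inv_of_mul_eq ?_
      apply PSL2Elements.ext2 <;> simp only [PSL2Elements.mul_apply2] <;>
        simp [Matrix.SpecialLinearGroup.transvection, Matrix.transvection, PSL2Elements.u,
          PSL2Elements.w, PSL2Elements.mk2]
    · exact absurd rfl hij
  have hcov : ∀ A, ∃ l ∈ Lc, ρ l = A := fun A => mem_map.1 (hcovN.symm ▸ mem_top A)
  -- the Sylow subgroup of `Lc` is abelian
  set Z₀ := R ⊓ centralizer (R : Set G) with hZ₀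
  haveI hZcomm : IsMulCommutative ↥Z₀ :=
    ⟨⟨fun a b => Subtype.ext (mem_centralizer_iff.1 b.2.2 a a.2.1)⟩⟩
  have hLcQ : ∀ {l}, l ∈ Lc → ρ l = 1 → l ∈ Z₀ := fun {l} hl h1 =>
    ⟨⟨hQρ h1, hl.1⟩, hl.2⟩
  have hUab : ∀ x ∈ Lc, ∀ y ∈ Lc, ρ x ∈ PSL2Sylow.uSub F → ρ y ∈ PSL2Sylow.uSub F →
      x * y = y * x := by
    choose σ hσ hσρ using fun a : F => hcov (PSL2Elements.u a)
    have hval : ∀ {x y}, x ∈ Lc → y ∈ Lc → ρ x ∈ PSL2Sylow.uSub F → ρ y ∈ PSL2Sylow.uSub F →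
        ⁅x, y⁆ ∈ Z₀ := fun {x y} hx hy hxu hyu => by
      refine hLcQ (mul_mem (mul_mem (mul_mem hx hy) (inv_mem hx)) (inv_mem hy)) ?_
      rw [map_commutatorElement, commutatorElement_eq_one_iff_mul_comm]
      exact mem_uSub_comm hxu hyu
    have hZLc : ∀ {c l}, c ∈ Z₀ → l ∈ Lc → c * l = l * c := fun hc hl => (hLcR hl hc.1).symm
    have hu : ∀ a, ρ (σ a) ∈ PSL2Sylow.uSub F := fun a => by
      rw [hσρ]
      exact PSL2Sylow.mem_uSub.2 ⟨a, rfl⟩
    -- changing lifts does not change the commutator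
    have hmod : ∀ {x a y}, x ∈ Lc → ρ x = PSL2Elements.u a → y ∈ Lc →
        ⁅x, y⁆ = ⁅σ a, y⁆ := by
      intro x a y hx hxa hy
      set c := (σ a)⁻¹ * x
      have hc : c ∈ Z₀ := hLcQ (mul_mem (inv_mem (hσ a)) hx) (by
        rw [map_mul, map_inv, hxa, hσρ, inv_mul_cancel])
      have hx' : x = σ a * c := (mul_inv_cancel_left _ _).symm
      have hcy := hZLc hc hy
      rw [hx', commutatorElement_def, commutatorElement_def, mul_inv_rev]
      calc σ a * c * y * (c⁻¹ * (σ a)⁻¹) * y⁻¹ = σ a * (c * y) * c⁻¹ * (σ a)⁻¹ * y⁻¹ := by group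
        _ = _ := by rw [hcy]; group
    have hswap : ∀ x y : G, ⁅x, y⁆ = ⁅y, x⁆⁻¹ := fun x y => (commutatorElement_inv y x).symm
    have hleft : ∀ {x y w}, x ∈ Lc → y ∈ Lc → w ∈ Lc → ρ y ∈ PSL2Sylow.uSub F →
        ρ w ∈ PSL2Sylow.uSub F → ⁅x * y, w⁆ = ⁅y, w⁆ * ⁅x, w⁆ := by
      intro x y w hx hy hw hyu hwu
      have e : x * ⁅y, w⁆ = ⁅y, w⁆ * x := (hZLc (hval hy hw hyu hwu) hx).symm
      calc ⁅x * y, w⁆ = (x * ⁅y, w⁆) * x⁻¹ * ⁅x, w⁆ := by simp only [commutatorElement_def]; group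
        _ = _ := by rw [e, mul_inv_cancel_right]
    let b : F → F → Additive ↥Z₀ := fun a c =>
      Additive.ofMul ⟨⁅σ a, σ c⁆, hval (hσ a) (hσ c) (hu a) (hu c)⟩
    have hb : ∀ {a c a' c' a'' c''}, ⁅σ a, σ c⁆ = ⁅σ a', σ c'⁆ * ⁅σ a'', σ c''⁆ →
        b a c = b a' c' + b a'' c'' := fun {a c a' c' a'' c''} he =>
      congrArg Additive.ofMul (Subtype.ext he)
    have hadd₁ : ∀ a a' c, b (a + a') c = b a c + b a' c := fun a a' c => by
      refine (hb ?_).trans (add_comm _ _)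
      rw [← hmod (mul_mem (hσ a) (hσ a')) (by rw [map_mul, hσρ, hσρ, PSL2Elements.u_mul]) (hσ c),
        hleft (hσ a) (hσ a') (hσ c) (hu a') (hu c)]
    have hadd₂ : ∀ a c c', b a (c + c') = b a c + b a c' := fun a c c' => by
      refine hb ?_
      rw [hswap (σ a) (σ (c + c')), hswap (σ a) (σ c), hswap (σ a) (σ c'), ← mul_inv_rev]
      congr 1
      rw [← hmod (mul_mem (hσ c) (hσ c')) (by rw [map_mul, hσρ, hσρ, PSL2Elements.u_mul]) (hσ a),
        hleft (hσ c) (hσ c') (hσ a) (hu c') (hu a)]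
    let β : F →+ F →+ Additive ↥Z₀ :=
      AddMonoidHom.mk' (fun a => AddMonoidHom.mk' (b a) (hadd₂ a))
        fun a a' => AddMonoidHom.ext fun c => hadd₁ a a' c
    have hzero := PushAmalgamQdField.eq_zero_of_invariant hp hp5 hF β
      (fun a => congrArg Additive.ofMul (Subtype.ext (commutatorElement_self (σ a))))
      (fun k hk a c => by
        refine congrArg Additive.ofMul (Subtype.ext ?_)
        obtain ⟨h', hh', hh'ρ⟩ := hcov (PSL2Elements.d (Units.mk0 k hk))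
        have hlift : ∀ a, ρ (h' * σ a * h'⁻¹) = PSL2Elements.u (k ^ 2 * a) := fun a => by
          rw [map_mul, map_mul, map_inv, hh'ρ, hσρ, PSL2Elements.d_conj_u, Units.val_mk0]
        have hm : ∀ a, h' * σ a * h'⁻¹ ∈ Lc := fun a =>
          mul_mem (mul_mem hh' (hσ a)) (inv_mem hh')
        change ⁅σ (k ^ 2 * a), σ (k ^ 2 * c)⁆ = ⁅σ a, σ c⁆
        have e1 : ⁅h' * σ a * h'⁻¹, h' * σ c * h'⁻¹⁆ = h' * ⁅σ a, σ c⁆ * h'⁻¹ := by
          simp only [commutatorElement_def]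
          group
        rw [← (hZLc (hval (hσ a) (hσ c) (hu a) (hu c)) hh'), mul_inv_cancel_right] at e1
        rw [← e1, hmod (hm a) (hlift a) (hm c), hswap, hswap (σ (k ^ 2 * a)) (h' * σ c * h'⁻¹),
          hmod (hm c) (hlift c) (hσ _)])
    intro x hx y hy hxu hyu
    obtain ⟨a, ha⟩ := PSL2Sylow.mem_uSub.1 hxu
    obtain ⟨c, hc⟩ := PSL2Sylow.mem_uSub.1 hyu
    rw [← commutatorElement_eq_one_iff_mul_comm, hmod hx ha hy, hswap, hmod hy hc (hσ a), ← hswap]
    exact congrArg Subtype.val (congrArg Additive.toMul (hzero a c))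
  -- the complement
  have hinjL : ∀ {l}, l ∈ ⁅Lc, Lc⁆ → ρ l = 1 → l = 1 := by
    intro l hl h1
    have hlLc : l ∈ Lc := commutator_le_self Lc hl
    obtain ⟨P₀, hP₀⟩ := PSL2Sylow.exists_sylow_eq_uSub (F := F) p
    set U := (PSL2Sylow.uSub F).comap (ρ.comp Lc.subtype) with hU
    haveI : IsMulCommutative ↥U := ⟨⟨fun a c => Subtype.ext (Subtype.ext
      (hUab a.1.1 a.1.2 c.1.1 c.1.2 a.2 c.2))⟩⟩
    have hsurjc : Function.Surjective (ρ.comp Lc.subtype) := fun A => by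
      obtain ⟨l, hl, rfl⟩ := hcov A
      exact ⟨⟨l, hl⟩, rfl⟩
    have hindex : ¬ p ∣ U.index := by
      rw [hU, index_comap_of_surjective _ hsurjc, ← hP₀]
      exact P₀.not_dvd_index
    have hcomm : (⟨l, hlLc⟩ : ↥Lc) ∈ commutator ↥Lc := by
      rw [← mem_map_iff_mem Lc.subtype_injective, map_subtype_commutator]
      exact hl
    have hZ : ∀ g : ↥Lc, g * ⟨l, hlLc⟩ = ⟨l, hlLc⟩ * g := fun g => Subtype.ext
      (hLcR g.2 (⟨hQρ h1, hlLc.1⟩ : l ∈ R))
    have hker' := Abelianization.commutator_subset_ker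
      (MonoidHom.transfer (H := U) (MonoidHom.id ↥U)) hcomm
    rw [MonoidHom.mem_ker, MonoidHom.transfer_eq_pow _ _ fun k g₀ _ => by
      rw [mul_assoc, ← (Commute.pow_right (hZ g₀) k).eq, inv_mul_cancel_left]] at hker'
    have h2 : l ^ U.index = 1 := congrArg (fun z : ↥U => ((z : ↥Lc) : G)) hker'
    have h3 := Nat.dvd_gcd (orderOf_dvd_of_pow_eq_one h2)
      (orderOf_dvd_of_pow_eq_one (hexp l (hQS (hQρ h1))))
    rw [Nat.Coprime.gcd_eq_one (hp.coprime_iff_not_dvd.2 hindex).symm, Nat.dvd_one] at h3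
    exact orderOf_eq_one_iff.1 h3
  have hρ' : ⁅Lc, Lc⁆.map ρ = ⊤ := by
    rw [map_commutator, hcovN, ← _root_.commutator_def, hperf]
  let L₀ := ⁅Lc, Lc⁆
  have hbij : Function.Bijective (ρ.comp L₀.subtype) := by
    refine ⟨(injective_iff_map_eq_one _).2 fun l hl => Subtype.ext (hinjL l.2 hl), fun A => ?_⟩
    obtain ⟨l, hl, rfl⟩ := mem_map.1 (hρ'.symm ▸ mem_top A : A ∈ L₀.map ρ)
    exact ⟨⟨l, hl⟩, rfl⟩
  let sec : SL(2, F) →* G := L₀.subtype.comp (MulEquiv.ofBijective _ hbij).symm.toMonoidHom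
  have hsecρ : ∀ A, ρ (sec A) = A := fun A => (MulEquiv.ofBijective _ hbij).apply_symm_apply A
  have hsecLc : ∀ A, sec A ∈ Lc := fun A =>
    commutator_le_self Lc ((MulEquiv.ofBijective _ hbij).symm A).2
  choose vv hvV hvφ using hVsurj
  let f : Qd F × ↥R →* G :=
    { toFun := fun x => vv (vec x.1) * sec (blk x.1) * (x.2 : G)
      map_one' := by
        simp only [Prod.fst_one, Prod.snd_one, vec_one, map_one, mul_one, Subgroup.coe_one]
        exact hVC (hvV 0) (hvφ 0)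
      map_mul' := fun x y => by
        simp only [Prod.fst_mul, Prod.snd_mul, Subgroup.coe_mul, map_mul, vec_mul]
        set A := blk x.1
        set B := blk y.1
        have hm : sec A * vv (vec y.1) * (sec A)⁻¹ ∈ V := hVn _ (hvV _)
        have e1 : vv (A.1 *ᵥ vec y.1 + vec x.1) =
            vv (vec x.1) * (sec A * vv (vec y.1) * (sec A)⁻¹) := by
          refine hVinj (hvV _) (mul_mem (hvV _) hm) ?_
          rw [φmul (hvV _).1 hm.1, φconj _ (hvV _).1, hsecρ, hvφ, hvφ, hvφ, add_comm]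
        have e2 : (x.2 : G) * vv (vec y.1) = vv (vec y.1) * (x.2 : G) :=
          hQW _ (hRQ x.2.2) _ (hvV _).1
        have e3 : (x.2 : G) * sec B = sec B * (x.2 : G) := (hLcR (hsecLc B) x.2.2).symm
        rw [e1]
        calc vv (vec x.1) * (sec A * vv (vec y.1) * (sec A)⁻¹) * (sec A * sec B) *
              ((x.2 : G) * (y.2 : G))
            = vv (vec x.1) * sec A * vv (vec y.1) * (sec B * (x.2 : G)) * (y.2 : G) := by group
          _ = vv (vec x.1) * sec A * vv (vec y.1) * (x.2 : G) * sec B * (y.2 : G) := by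
              rw [← e3]; group
          _ = vv (vec x.1) * sec A * (vv (vec y.1) * (x.2 : G)) * sec B * (y.2 : G) := by group
          _ = _ := by rw [← e2]; group }
  have hfapply : ∀ M r, f (M, r) = vv (vec M) * sec (blk M) * (r : G) := fun M r => rfl
  have hfρ : ∀ x, ρ (f x) = blk x.1 := fun x => by
    rw [show f x = vv (vec x.1) * sec (blk x.1) * (x.2 : G) from rfl, map_mul, map_mul,
      hρQ (hVQ (hvV _)), hsecρ, hρQ (hRQ x.2.2), one_mul, mul_one]
  have hvv0 : vv 0 = 1 := hVC (hvV 0) (hvφ 0)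
  have hbijf : Function.Bijective f := by
    refine ⟨(injective_iff_map_eq_one f).2 fun ⟨M, r⟩ h1 => ?_, fun g => ?_⟩
    · have hM : blk M = 1 := by
        have := hfρ (M, r)
        rwa [h1, map_one, eq_comm] at this
      rw [hfapply, hM, map_one, mul_one] at h1
      have hv1 : vv (vec M) = 1 := hVL (hvV _) (by
        rw [eq_inv_of_mul_eq_one_left h1]
        exact inv_mem (mem_inf.1 r.2).2)
      have hvec : vec M = 0 := by
        rw [← hvφ (vec M), hv1, (φzero (one_mem W)).2 (one_mem C)]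
      refine Prod.ext (ext_blk_vec (hM.trans (map_one blk).symm) (hvec.trans vec_one.symm))
        (Subtype.ext ?_)
      rwa [hv1, one_mul] at h1
    · obtain ⟨q, hq, hl⟩ := hGQL g
      set l := q⁻¹ * g with hldef
      obtain ⟨b, hb, hr⟩ := hQVR q hq
      set A := ρ l
      have hs : (sec A)⁻¹ * l ∈ R := mem_inf.2 ⟨hQρ (by rw [map_mul, map_inv, hsecρ, inv_mul_cancel]),
        mul_mem (inv_mem (mem_inf.1 (hsecLc A)).1) hl⟩
      refine ⟨(mk A (φ b), ⟨(b⁻¹ * q) * ((sec A)⁻¹ * l), mul_mem hr hs⟩), ?_⟩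
      rw [hfapply, vec_mk, blk_mk, Subgroup.coe_mk, hVinj (hvV _) hb (hvφ _)]
      have e : sec A * (b⁻¹ * q) = (b⁻¹ * q) * sec A := hLcR (hsecLc A) hr
      calc b * sec A * (b⁻¹ * q * ((sec A)⁻¹ * l)) = b * (sec A * (b⁻¹ * q)) * (sec A)⁻¹ * l := by
            group
        _ = g := by rw [e, hldef]; group
  refine ⟨R, MulEquiv.ofBijective f hbijf, (S.2.to_le (fun r hr => hQS (hRQ hr))),
    fun r hr => hexp r (hQS (hRQ hr)), fun r => ?_, fun x => ?_⟩
  · change f (1, r) = _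
    rw [hfapply, vec_one, map_one, map_one, hvv0, one_mul, one_mul]
  · obtain ⟨y, rfl⟩ := (MulEquiv.ofBijective f hbijf).surjective x
    rw [MulEquiv.symm_apply_apply, hS, mem_comap]
    change ρ (f y) ∈ _ ↔ _
    rw [hfρ]

end Cfsg.Agent.PushAmalgamQdSplit
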