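import Mathlib
import Cfsg.Prelude.Def_Transfer
import Cfsg.Prelude.Def_TwoFusion
import Cfsg.Agent.Lib.PushAmalgamQdSplit

/-!
# Pushing up with one noncentral factor for `p ≥ 5`: `Qd(q)` times an elementary abelian group
-/

set_option autoImplicit false

namespace Cfsg.Agent.PushAmalgamQd

open Subgroup QdStructure56 PushAmalgam
open scoped commutatorElement MatrixGroups Matrix

set_option linter.unusedSectionVars false
set_option linter.style.haveILetI false

/-- The Sylow subgroup `{M | blk M ∈ uSub}` of `Qd`. -/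
def qdU (F : Type) [Field F] : Subgroup (Qd F) := (PSL2Sylow.uSub F).comap blk

section Qd

variable {F : Type} [Field F]

/-- The upper right entry of the block. -/
def ca (M : ↥(qdU F)) : F := (blk (M : Qd F)).1 0 1

/-- The second coordinate of the translation. -/
def cv (M : ↥(qdU F)) : F := vec (M : Qd F) 1

theorem blk_eq (M : ↥(qdU F)) : blk (M : Qd F) = PSL2Elements.u (ca M) := by
  obtain ⟨a, ha⟩ := PSL2Sylow.mem_uSub.1 (mem_comap.1 M.2)
  rw [ca, ha]
  congr 1

theorem u_mulVec (a : F) (v : Fin 2 → F) : (PSL2Elements.u a).1 *ᵥ v = ![v 0 + a * v 1, v 1] := by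
  funext i
  fin_cases i <;>
    simp [PSL2Elements.u, PSL2Elements.mk2, Matrix.mulVec, dotProduct, Fin.sum_univ_two]

theorem vec_mulU (M N : ↥(qdU F)) :
    vec ((M * N : ↥(qdU F)) : Qd F) =
      ![vec (N : Qd F) 0 + ca M * vec (N : Qd F) 1, vec (N : Qd F) 1] + vec (M : Qd F) := by
  rw [Subgroup.coe_mul, vec_mul, blk_eq M, u_mulVec]

theorem ca_mul (M N : ↥(qdU F)) : ca (M * N) = ca M + ca N := by
  rw [ca, Subgroup.coe_mul, map_mul, blk_eq M, blk_eq N, PSL2Elements.u_mul]
  simp [PSL2Elements.u, PSL2Elements.mk2]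

theorem cv_mul (M N : ↥(qdU F)) : cv (M * N) = cv M + cv N := by
  rw [cv, vec_mulU]
  simp [cv, add_comm]

theorem commute_iff (M N : ↥(qdU F)) : M * N = N * M ↔ ca M * cv N - cv M * ca N = 0 := by
  have hb : blk ((M * N : ↥(qdU F)) : Qd F) = blk ((N * M : ↥(qdU F)) : Qd F) := by
    rw [blk_eq, blk_eq, ca_mul, ca_mul, add_comm]
  constructor
  · intro h
    have h1 := congrArg (fun X : ↥(qdU F) => vec (X : Qd F) 0) h
    simp only [vec_mulU, Pi.add_apply, Matrix.cons_val_zero] at h1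
    simp only [cv]
    linear_combination h1
  · intro h
    refine Subtype.ext (ext_blk_vec hb ?_)
    rw [vec_mulU, vec_mulU]
    simp only [cv] at h
    funext i
    fin_cases i
    · simp only [Fin.zero_eta, Pi.add_apply, Matrix.cons_val_zero]
      linear_combination h
    · simp [add_comm]

/-- An element with given coordinates. -/
def elt (a y : F) : ↥(qdU F) :=
  ⟨mk (PSL2Elements.u a) ![0, y], mem_comap.2 (by rw [blk_mk]; exact PSL2Sylow.mem_uSub.2 ⟨a, rfl⟩)⟩

theorem ca_elt (a y : F) : ca (elt a y) = a := by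
  rw [ca, elt, blk_mk]
  simp [PSL2Elements.u, PSL2Elements.mk2]

theorem cv_elt (a y : F) : cv (elt a y) = y := by
  rw [cv, elt, vec_mk]
  simp

theorem center_iff (M : ↥(qdU F)) : M ∈ center ↥(qdU F) ↔ ca M = 0 ∧ cv M = 0 := by
  rw [mem_center_iff]
  constructor
  · intro h
    have h1 := (commute_iff M (elt 1 0)).1 (h _).symm
    have h2 := (commute_iff M (elt 0 1)).1 (h _).symm
    rw [ca_elt, cv_elt] at h1 h2
    exact ⟨by linear_combination h2, by linear_combination -h1⟩
  · rintro ⟨h1, h2⟩ N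
    refine ((commute_iff M N).2 ?_).symm
    rw [h1, h2]
    ring

theorem index_centralizer_eq [Finite F] (M : ↥(qdU F)) (hM : M ∉ center ↥(qdU F)) :
    (centralizer ({M} : Set ↥(qdU F))).index = Nat.card F := by
  let χ : ↥(qdU F) →* Multiplicative F :=
    MonoidHom.mk' (fun N => Multiplicative.ofAdd (ca M * cv N - cv M * ca N)) fun N N' => by
      rw [← ofAdd_add, ca_mul, cv_mul]
      congr 1
      ring
  have hker : centralizer ({M} : Set ↥(qdU F)) = χ.ker := by
    ext N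
    rw [mem_centralizer_singleton_iff, MonoidHom.mem_ker]
    change _ ↔ Multiplicative.ofAdd _ = 1
    rw [ofAdd_eq_one, ← commute_iff]
    exact eq_comm
  have hsurj : Function.Surjective χ := fun c => by
    rw [center_iff] at hM
    by_cases h1 : ca M = 0
    · have h2 : cv M ≠ 0 := fun h2 => hM ⟨h1, h2⟩
      refine ⟨elt (-(cv M)⁻¹ * c.toAdd) 0, ?_⟩
      change Multiplicative.ofAdd _ = c
      rw [ca_elt, cv_elt, h1]
      apply Multiplicative.toAdd.injective
      rw [toAdd_ofAdd]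
      field_simp
      ring
    · refine ⟨elt 0 ((ca M)⁻¹ * c.toAdd), ?_⟩
      change Multiplicative.ofAdd _ = c
      rw [ca_elt, cv_elt]
      apply Multiplicative.toAdd.injective
      rw [toAdd_ofAdd]
      field_simp
      ring
  rw [hker, index_ker, MonoidHom.range_eq_top.2 hsurj, card_top]
  exact Nat.card_congr Multiplicative.toAdd

theorem card_center_le [Finite F] : Nat.card ↥(center ↥(qdU F)) ≤ Nat.card F := by
  refine Nat.card_le_card_of_injective (fun z => vec ((z : ↥(qdU F)) : Qd F) 0) fun z z' h => ?_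
  obtain ⟨h1, h2⟩ := (center_iff z.1).1 z.2
  obtain ⟨h1', h2'⟩ := (center_iff z'.1).1 z'.2
  refine Subtype.ext (Subtype.ext (ext_blk_vec (by rw [blk_eq, blk_eq, h1, h1']) ?_))
  funext i
  fin_cases i
  · exact h
  · exact h2.trans h2'.symm

/-- The derived subgroup is central with trivial block. -/
theorem commutator_form {M : ↥(qdU F)} (hM : M ∈ commutator ↥(qdU F)) :
    blk (M : Qd F) = 1 ∧ vec (M : Qd F) 1 = 0 := by
  let χ₁ : ↥(qdU F) →* Multiplicative F :=
    MonoidHom.mk' (fun N => Multiplicative.ofAdd (ca N)) fun N N' => by rw [← ofAdd_add, ca_mul]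
  let χ₂ : ↥(qdU F) →* Multiplicative F :=
    MonoidHom.mk' (fun N => Multiplicative.ofAdd (cv N)) fun N N' => by rw [← ofAdd_add, cv_mul]
  have h1 : ca M = 0 := ofAdd_eq_one.1 (Abelianization.commutator_subset_ker χ₁ hM)
  have h2 : cv M = 0 := ofAdd_eq_one.1 (Abelianization.commutator_subset_ker χ₂ hM)
  exact ⟨by rw [blk_eq, h1, PSL2Elements.u_zero], h2⟩

theorem commutator_ne_top : ∃ M : ↥(qdU F), M ∉ center ↥(qdU F) :=
  ⟨elt 1 0, fun h => one_ne_zero ((ca_elt (1 : F) 0).symm.trans ((center_iff _).1 h).1)⟩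

end Qd

theorem index_centralizer_le {R : Type*} [Group R] [Finite R] (Z : Subgroup R)
    (hZ : ∀ a b : R, ⁅a, b⁆ ∈ Z) (r : R) :
    (centralizer ({r} : Set R)).index ≤ Nat.card ↥Z := by
  classical
  refine Nat.card_le_card_of_injective
    (fun c : R ⧸ centralizer ({r} : Set R) => (⟨⁅c.out, r⁆, hZ _ _⟩ : ↥Z)) fun c c' h => ?_
  have h1 := congrArg Subtype.val h
  simp only [commutatorElement_def, mul_right_cancel_iff] at h1
  rw [← c.out_eq, ← c'.out_eq]
  refine QuotientGroup.eq.2 (mem_centralizer_singleton_iff.2 ?_)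
  calc c.out⁻¹ * c'.out * r = c.out⁻¹ * (c'.out * r * c'.out⁻¹) * c'.out := by group
    _ = c.out⁻¹ * (c.out * r * c.out⁻¹) * c'.out := by rw [h1]
    _ = _ := by group

variable {H : Type*} [Group H]

/-- The conjugation automorphism of a normalised subgroup. -/
def conjOn (T : Subgroup H) (x : H) (hx : x ∈ normalizer (T : Set H)) : ↥T ≃* ↥T where
  toFun s := ⟨x * s * x⁻¹, (mem_normalizer_iff.1 hx _).1 s.2⟩
  invFun s := ⟨x⁻¹ * s * x, (mem_normalizer_iff''.1 hx _).1 s.2⟩
  left_inv s := Subtype.ext (by simp [mul_assoc])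
  right_inv s := Subtype.ext (by simp [mul_assoc])
  map_mul' a b := Subtype.ext (by simp [mul_assoc])

variable [Finite H] {p : ℕ} [hpf : Fact p.Prime]

/-- No nontrivial characteristic subgroup of `S` is normal in `G`. -/
theorem hd_of_maximal (G : Subgroup H)
    (hmax : ∀ R : Subgroup H, IsPGroup p ↥R → R ≠ ⊥ → G ≤ normalizer (R : Set H) →
      normalizer (R : Set H) = G)
    (S : Sylow p ↥G)
    (hN : ¬ normalizer (((S : Subgroup ↥G).map G.subtype : Subgroup H) : Set H) ≤ G) :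
    ∀ T : Subgroup ↥(S : Subgroup ↥G), T ≠ ⊥ → T.Characteristic →
      ¬ (T.map (S : Subgroup ↥G).subtype).Normal := by
  intro T hT hchar hnorm
  let ι : ↥(S : Subgroup ↥G) →* H := G.subtype.comp (S : Subgroup ↥G).subtype
  have hι : Function.Injective ι := G.subtype_injective.comp (S : Subgroup ↥G).subtype_injective
  have hR := hmax (T.map ι) ((S.2.to_subgroup T).map _)
    (fun h => hT ((map_eq_bot_iff_of_injective _ hι).1 h))
    (fun g hg => mem_normalizer_iff.2 fun y => by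
      rw [← map_map]
      constructor
      · rintro ⟨s, hs, rfl⟩
        exact ⟨⟨g, hg⟩ * s * ⟨g, hg⟩⁻¹, hnorm.conj_mem s hs ⟨g, hg⟩, by simp⟩
      · rintro ⟨s, hs, hsy⟩
        refine ⟨⟨g, hg⟩⁻¹ * s * ⟨g, hg⟩, ?_, ?_⟩
        · have := hnorm.conj_mem s hs ⟨g, hg⟩⁻¹
          rwa [inv_inv] at this
        · simp only [map_mul, map_inv, hsy]
          simp [mul_assoc])
  apply hN
  intro x hx
  rw [← hR]
  set S' := (S : Subgroup ↥G).map G.subtype
  have hmem : ∀ s : ↥(S : Subgroup ↥G), ι s ∈ S' := fun s => ⟨s.1, s.2, rfl⟩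
  let e : ↥(S : Subgroup ↥G) ≃* ↥S' :=
    (S : Subgroup ↥G).equivMapOfInjective G.subtype G.subtype_injective
  let φ : ↥(S : Subgroup ↥G) ≃* ↥(S : Subgroup ↥G) :=
    e.trans ((conjOn S' x hx).trans e.symm)
  have hφ : ∀ s, ι (φ s) = x * ι s * x⁻¹ := fun s => by
    have h1 : ((e (e.symm (conjOn S' x hx (e s))) : ↥S') : H) = x * ι s * x⁻¹ := by
      rw [e.apply_symm_apply]
      rfl
    exact h1
  have hfix : T.map φ.toMonoidHom = T := characteristic_iff_map_eq.1 hchar φ
  refine mem_normalizer_iff.2 fun y => ⟨?_, ?_⟩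
  · rintro ⟨s, hs, rfl⟩
    exact ⟨φ s, hfix ▸ mem_map_of_mem _ hs, hφ s⟩
  · rintro ⟨s, hs, hsy⟩
    have hs' : s ∈ T.map φ.toMonoidHom := hfix.symm ▸ hs
    obtain ⟨s', hs'', rfl⟩ := hs'
    refine ⟨s', hs'', ?_⟩
    change ι (φ s') = _ at hsy
    rw [hφ] at hsy
    exact mul_left_cancel (mul_right_cancel hsy)

/-- A subgroup inside a union of two subgroups lies in one of them. -/
theorem le_or_le {P : Type*} [Group P] {A X Y : Subgroup P} (h : ∀ a ∈ A, a ∈ X ∨ a ∈ Y) :
    A ≤ X ∨ A ≤ Y := by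
  by_contra hc
  rw [not_or, SetLike.not_le_iff_exists, SetLike.not_le_iff_exists] at hc
  obtain ⟨⟨a, ha, haX⟩, ⟨b, hb, hbY⟩⟩ := hc
  have haY := (h a ha).resolve_left haX
  have hbX := (h b hb).resolve_right hbY
  rcases h _ (mul_mem ha hb) with h1 | h1
  · exact haX (by simpa using mul_mem h1 (inv_mem hbX))
  · exact hbY (by simpa using mul_mem (inv_mem haY) h1)

section Exchange

variable {F : Type} [Field F] [Finite F] {R : Type*} [Group R] [Finite R]

/-- An automorphism of `U × R` either fixes the derived group of `R` or moves it into that of `U`. -/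
theorem exchange (hRc : ∀ a b : R, ⁅a, b⁆ ∈ center R) (hcard : Nat.card ↥(center R) ≤ Nat.card F)
    (hR : ∃ r : R, r ∉ center R) (α : ↥(qdU F) × R ≃* ↥(qdU F) × R) :
    ((⊥ : Subgroup ↥(qdU F)).prod (commutator R)).map α.toMonoidHom =
        (⊥ : Subgroup ↥(qdU F)).prod (commutator R) ∨
      ((⊥ : Subgroup ↥(qdU F)).prod (commutator R)).map α.toMonoidHom =
        (commutator ↥(qdU F)).prod ⊥ := by
  set A₁ := (center ↥(qdU F)).prod (⊤ : Subgroup R) with hA₁
  set A₂ := (⊤ : Subgroup ↥(qdU F)).prod (center R) with hA₂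
  let cls : ↥(qdU F) × R → ℕ := fun s => (centralizer ({s} : Set (↥(qdU F) × R))).index
  have hprod : ∀ s, cls s = (centralizer ({s.1} : Set ↥(qdU F))).index *
      (centralizer ({s.2} : Set R)).index := fun s => by
    rw [← index_prod]
    refine congrArg Subgroup.index (Subgroup.ext fun z => ?_)
    rw [mem_prod, mem_centralizer_singleton_iff, mem_centralizer_singleton_iff,
      mem_centralizer_singleton_iff, Prod.ext_iff, Prod.fst_mul, Prod.snd_mul, Prod.fst_mul,
      Prod.snd_mul]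
  have hq2 : 1 < Nat.card F := Finite.one_lt_card
  have hchar : ∀ s, cls s ≤ Nat.card F ↔ s ∈ A₁ ∨ s ∈ A₂ := by
    rintro ⟨M, r⟩
    rw [hprod, hA₁, hA₂, mem_prod, mem_prod]
    simp only [mem_top, and_true, true_and]
    by_cases hM : M ∈ center ↥(qdU F)
    · refine iff_of_true ?_ (Or.inl hM)
      have h1 : centralizer ({M} : Set ↥(qdU F)) = ⊤ :=
        (eq_top_iff' _).2 fun N => mem_centralizer_singleton_iff.2 (mem_center_iff.1 hM N)
      rw [h1, index_top, one_mul]
      exact (index_centralizer_le _ hRc r).trans hcard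
    · rw [index_centralizer_eq M hM]
      constructor
      · intro h
        right
        have h2 : (centralizer ({r} : Set R)).index = 1 := by
          have h3 : 0 < (centralizer ({r} : Set R)).index := Nat.pos_of_ne_zero index_ne_zero_of_finite
          by_contra hne
          have h4 : 2 ≤ (centralizer ({r} : Set R)).index := by omega
          nlinarith [Nat.mul_le_mul_left (Nat.card F) h4]
        exact mem_center_iff.2 fun g => mem_centralizer_singleton_iff.1
          (index_eq_one.1 h2 ▸ mem_top g)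
      · rintro (h | h)
        · exact absurd h hM
        · rw [show centralizer ({r} : Set R) = ⊤ from
            (eq_top_iff' _).2 fun g => mem_centralizer_singleton_iff.2 (mem_center_iff.1 h g),
            index_top, mul_one]
  have hcls : ∀ s, cls (α s) = cls s := fun s => by
    have he : centralizer ({α s} : Set (↥(qdU F) × R)) =
        (centralizer ({s} : Set (↥(qdU F) × R))).map α.toMonoidHom := by
      ext z
      rw [mem_map_equiv, mem_centralizer_singleton_iff, mem_centralizer_singleton_iff,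
        ← α.injective.eq_iff (a := α.symm z * s)]
      simp
    simp only [cls]
    rw [he]
    exact index_map_of_bijective α.bijective _
  have himg : ∀ A, A = A₁ ∨ A = A₂ → A.map α.toMonoidHom ≤ A₁ ∨ A.map α.toMonoidHom ≤ A₂ := by
    intro A hA
    refine le_or_le fun z hz => ?_
    obtain ⟨s, hs, rfl⟩ := hz
    rw [← hchar]
    change cls (α s) ≤ _
    rw [hcls, hchar]
    rcases hA with rfl | rfl
    · exact Or.inl hs
    · exact Or.inr hs
  have hcardmap : ∀ A : Subgroup (↥(qdU F) × R), Nat.card ↥(A.map α.toMonoidHom) = Nat.card ↥A :=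
    fun A => card_map_of_injective α.injective
  have hA12 : ¬ A₁ ≤ A₂ := by
    intro h
    obtain ⟨r, hr⟩ := hR
    exact hr (h (show ((1 : ↥(qdU F)), r) ∈ A₁ from ⟨one_mem _, mem_top r⟩)).2
  have hc1 : ⁅A₁, A₁⁆ = (⊥ : Subgroup ↥(qdU F)).prod (commutator R) := by
    rw [hA₁, commutator_prod_prod, _root_.commutator_def,
      commutator_eq_bot_iff_le_centralizer.2 fun a ha =>
        mem_centralizer_iff.2 fun b _ => mem_center_iff.1 ha b]
  have hc2 : ⁅A₂, A₂⁆ = (commutator ↥(qdU F)).prod ⊥ := by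
    rw [hA₂, commutator_prod_prod, _root_.commutator_def,
      commutator_eq_bot_iff_le_centralizer.2 fun a ha =>
        mem_centralizer_iff.2 fun b _ => mem_center_iff.1 ha b]
  rcases himg A₁ (Or.inl rfl) with h1 | h1
  · left
    have he : A₁.map α.toMonoidHom = A₁ := eq_of_le_of_card_ge h1 (hcardmap A₁).ge
    rw [← hc1, map_commutator, he]
  · right
    have h2 : A₂.map α.toMonoidHom ≤ A₁ := by
      refine (himg A₂ (Or.inr rfl)).resolve_right fun h2 => hA12 ?_
      have he : A₂.map α.toMonoidHom = A₂ := eq_of_le_of_card_ge h2 (hcardmap A₂).ge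
      rw [← map_le_map_iff_of_injective (f := α.toMonoidHom) α.injective, he]
      exact h1
    have hle : Nat.card ↥A₂ ≤ Nat.card ↥(A₁.map α.toMonoidHom) := by
      rw [hcardmap, ← hcardmap A₂]
      exact card_le_of_le h2
    rw [← hc1, ← hc2, map_commutator, eq_of_le_of_card_ge h1 hle]

end Exchange

section Main

variable {G : Subgroup H} {F : Type} [Field F] [Fintype F]

/-- The derived group of the complement is trivial. -/
theorem comm_of_split {n : ℕ} (hn : 1 ≤ n) (hp : 5 ≤ p) (hF : Fintype.card F = p ^ n)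
    (hmax : ∀ R : Subgroup H, IsPGroup p ↥R → R ≠ ⊥ → G ≤ normalizer (R : Set H) →
      normalizer (R : Set H) = G)
    (S : Sylow p ↥G)
    (hN : ¬ normalizer (((S : Subgroup ↥G).map G.subtype : Subgroup H) : Set H) ≤ G)
    (hcl : (S : Subgroup ↥G).lowerCentralSeries 2 = ⊥)
    (R : Subgroup ↥G) (e : Qd F × ↥R ≃* ↥G) (hRp : IsPGroup p ↥R)
    (he : ∀ r : ↥R, e (1, r) = (r : ↥G))
    (hS : ∀ x, x ∈ (S : Subgroup ↥G) ↔ blk (e.symm x).1 ∈ PSL2Sylow.uSub F) :
    ∀ a b : ↥R, a * b = b * a := by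
  classical
  haveI : CharP F p := charP_of_card_eq_prime_pow hF
  by_contra hnc
  let Φ : Qd F × ↥R →* H := G.subtype.comp e.toMonoidHom
  have hΦinj : Function.Injective Φ := G.subtype_injective.comp e.injective
  have hΦmem : ∀ s, Φ s ∈ G := fun s => (e s).2
  have hΦsurj : ∀ g ∈ G, ∃ s, Φ s = g := fun g hg =>
    ⟨e.symm ⟨g, hg⟩, congrArg Subtype.val (e.apply_symm_apply ⟨g, hg⟩)⟩
  let κ : ↥(qdU F) × ↥R →* Qd F × ↥R := MonoidHom.prodMap (qdU F).subtype (MonoidHom.id ↥R)
  let ΦS : ↥(qdU F) × ↥R →* H := Φ.comp κ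
  have hΦS : Function.Injective ΦS := hΦinj.comp fun a b hab =>
    Prod.ext (Subtype.ext (congrArg (fun z : Qd F × ↥R => z.1) hab))
      (congrArg (fun z : Qd F × ↥R => z.2) hab)
  set S' := (S : Subgroup ↥G).map G.subtype with hS'
  have hrange : ΦS.range = S' := by
    ext y
    constructor
    · rintro ⟨s, rfl⟩
      refine ⟨e (κ s), (hS _).2 ?_, rfl⟩
      rw [e.symm_apply_apply]
      exact s.1.2
    · rintro ⟨g, hg, rfl⟩
      refine ⟨(⟨(e.symm g).1, (hS g).1 hg⟩, (e.symm g).2), ?_⟩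
      exact congrArg Subtype.val (e.apply_symm_apply g)
  have hmemS : ∀ r : ↥R, (r : ↥G) ∈ (S : Subgroup ↥G) := fun r => by
    rw [hS, ← he r, e.symm_apply_apply]
    simp
  -- the derived group of `R` is central in `R`
  have hRc : ∀ a b : ↥R, ⁅a, b⁆ ∈ center ↥R := fun a b => mem_center_iff.2 fun c => by
    refine (commutatorElement_eq_one_iff_mul_comm.1 (Subtype.ext ?_)).symm
    have h1 : ⁅⁅(a : ↥G), (b : ↥G)⁆, (c : ↥G)⁆ ∈ (S : Subgroup ↥G).lowerCentralSeries 2 :=
      commutator_mem_commutator (commutator_mem_commutator (hmemS a) (hmemS b)) (hmemS c)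
    rw [hcl, mem_bot] at h1
    exact h1
  -- central subgroups are normalised by `G`
  have hcentral : ∀ X : Subgroup ↥R, X ≤ center ↥R → X ≠ ⊥ →
      normalizer ((((⊥ : Subgroup (Qd F)).prod X).map Φ : Subgroup H) : Set H) = G := by
    intro X hX hXne
    have hcomm : ∀ s, ∀ y ∈ (⊥ : Subgroup (Qd F)).prod X, s * y = y * s := fun s y hy => by
      refine Prod.ext ?_ ?_
      · simp [mem_bot.1 hy.1]
      · exact mem_center_iff.1 (hX hy.2) s.2
    refine hmax _ ((IsPGroup.map ?_ Φ)) ?_ fun g hg => ?_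
    · exact IsPGroup.of_equiv (G := ↥X) (hRp.to_subgroup X)
        { toFun := fun x => ⟨(1, x.1), ⟨one_mem _, x.2⟩⟩
          invFun := fun y => ⟨y.1.2, y.2.2⟩
          left_inv := fun x => rfl
          right_inv := fun y => Subtype.ext (Prod.ext (mem_bot.1 y.2.1).symm rfl)
          map_mul' := fun x y => Subtype.ext (Prod.ext (one_mul (1 : Qd F)).symm rfl) }
    · intro h
      obtain ⟨z, hz, hz1⟩ := (ne_bot_iff_exists_ne_one).1 hXne |>.elim
        fun z hz => (⟨z.1, z.2, fun h0 => hz (Subtype.ext h0)⟩ : ∃ z, z ∈ X ∧ z ≠ 1)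
      have hmem : Φ (1, z) ∈ ((⊥ : Subgroup (Qd F)).prod X).map Φ :=
        mem_map_of_mem _ ⟨one_mem _, hz⟩
      rw [h, mem_bot, ← map_one Φ] at hmem
      exact hz1 (congrArg Prod.snd (hΦinj hmem))
    · obtain ⟨s, rfl⟩ := hΦsurj g hg
      refine mem_normalizer_iff.2 fun y => ⟨?_, ?_⟩
      · rintro ⟨z, hz, rfl⟩
        exact ⟨z, hz, by rw [← map_inv, ← map_mul, ← map_mul, hcomm s z hz, mul_inv_cancel_right]⟩
      · rintro ⟨z, hz, hzy⟩
        refine ⟨z, hz, ?_⟩
        have h2 : y = (Φ s)⁻¹ * Φ z * Φ s := by rw [hzy]; group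
        rw [h2, ← map_inv, ← map_mul, ← map_mul, mul_assoc, ← hcomm s z hz, inv_mul_cancel_left]
  obtain ⟨x, hxN, hxG⟩ := SetLike.not_le_iff_exists.1 hN
  -- `x` moves the centre of `R` off itself
  set C₁ := ((⊥ : Subgroup (Qd F)).prod (center ↥R)).map Φ with hC₁
  have hxC : ∀ y ∈ C₁, x * y * x⁻¹ ∈ C₁ → y = 1 := by
    intro y hy hxy
    by_contra hy1
    obtain ⟨a, ha, rfl⟩ := hy
    obtain ⟨b, hb, hab⟩ := hxy
    have hXa : zpowers a.2 ≤ center ↥R := zpowers_le.2 ha.2
    have hXb : zpowers b.2 ≤ center ↥R := zpowers_le.2 hb.2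
    have ha1 : zpowers a.2 ≠ ⊥ := fun h0 => hy1 (by
      have : a = 1 := Prod.ext (mem_bot.1 ha.1) (zpowers_eq_bot.1 h0)
      rw [this, map_one])
    have hb1 : zpowers b.2 ≠ ⊥ := fun h0 => hy1 (by
      have : b = 1 := Prod.ext (mem_bot.1 hb.1) (zpowers_eq_bot.1 h0)
      rw [this, map_one, eq_comm, mul_inv_eq_one, mul_eq_left] at hab
      exact hab)
    have key : ∀ z : Qd F × ↥R, z.1 = 1 →
        ((⊥ : Subgroup (Qd F)).prod (zpowers z.2)).map Φ = zpowers (Φ z) := by
      rintro ⟨M, r⟩ (rfl : M = 1)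
      rw [← MonoidHom.map_zpowers]
      congr 1
      ext ⟨M', r'⟩
      rw [mem_prod, mem_bot, mem_zpowers_iff, mem_zpowers_iff]
      constructor
      · rintro ⟨rfl, k, rfl⟩
        exact ⟨k, by simp⟩
      · rintro ⟨k, hk⟩
        simp only [Prod.pow_mk, one_zpow, Prod.mk.injEq] at hk
        exact ⟨hk.1.symm, k, hk.2⟩
    have hNa := hcentral _ hXa ha1
    have hNb := hcentral _ hXb hb1
    rw [key a (mem_bot.1 ha.1)] at hNa
    rw [key b (mem_bot.1 hb.1), hab] at hNb
    have hxG' : x ∈ normalizer (G : Set H) := by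
      have hc : (zpowers (Φ a)).map (MulAut.conj x).toMonoidHom = zpowers (x * Φ a * x⁻¹) :=
        MonoidHom.map_zpowers _ _
      have h1 : G.map (MulAut.conj x).toMonoidHom = G := by
        conv_lhs => rw [← hNa]
        exact (map_equiv_normalizer_eq _ (MulAut.conj x)).trans
          ((congrArg (fun X : Subgroup H => normalizer (X : Set H)) hc).trans hNb)
      refine mem_normalizer_iff.2 fun g => ?_
      conv_rhs => rw [← h1]
      exact (mem_map_iff_mem (MulAut.conj x).injective).symm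
    let c : ↥G ≃* ↥G := conjOn G x hxG'
    set Q' := (Cfsg.pCore p ↥G).map G.subtype with hQ'
    have hQne : Q' ≠ ⊥ := by
      intro h0
      have hv : e (mk 1 ![1, 0], 1) ∈ Cfsg.pCore p ↥G := by
        refine LocGroup56.le_pCore (N := ((transl F).prod (⊥ : Subgroup ↥R)).map e.toMonoidHom)
          (Subgroup.Normal.map (prod_normal _ _) _ e.surjective)
          (IsPGroup.map (IsPGroup.of_equiv (G := ↥(transl F))
            (H := ↥((transl F).prod (⊥ : Subgroup ↥R))) transl_isPGroup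
            { toFun := fun z => ⟨(z.1, 1), ⟨z.2, one_mem _⟩⟩
              invFun := fun z => ⟨z.1.1, z.2.1⟩
              left_inv := fun z => rfl
              right_inv := fun z => Subtype.ext (Prod.ext rfl (mem_bot.1 z.2.2).symm)
              map_mul' := fun z w => Subtype.ext (Prod.ext rfl (one_mul (1 : ↥R)).symm) }) _) ?_
        exact ⟨_, ⟨mem_transl.2 (blk_mk _ _), one_mem _⟩, rfl⟩
      have h1 : (e (mk 1 ![1, 0], 1) : H) ∈ Q' := mem_map_of_mem _ hv
      rw [h0, mem_bot] at h1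
      have h2 : ((mk 1 ![1, 0] : Qd F), (1 : ↥R)) = 1 := e.injective (by
        rw [map_one]
        exact Subtype.ext h1)
      have h3 := congrArg (fun z : Qd F × ↥R => vec z.1 0) h2
      simp at h3
    have hQN : normalizer (Q' : Set H) = G := by
      refine hmax _ ((LocGroup56.pCore_isPGroup p ↥G).map _) hQne fun g hg => ?_
      refine mem_normalizer_iff.2 fun y => ⟨?_, ?_⟩
      · rintro ⟨z, hz, rfl⟩
        exact ⟨⟨g, hg⟩ * z * ⟨g, hg⟩⁻¹, (Cfsg.pCore_normal p ↥G).conj_mem z hz _, by simp⟩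
      · rintro ⟨z, hz, hzy⟩
        refine ⟨⟨g, hg⟩⁻¹ * z * ⟨g, hg⟩, (Cfsg.pCore_normal p ↥G).conj_mem' z hz _, ?_⟩
        simp only [map_mul, map_inv, hzy]
        simp [mul_assoc]
    apply hxG
    rw [← hQN]
    have hcQ : (Cfsg.pCore p ↥G).map c.toMonoidHom = Cfsg.pCore p ↥G :=
      LocGroup56.pCore_map_equiv p c
    refine mem_normalizer_iff.2 fun y => ⟨?_, ?_⟩
    · rintro ⟨z, hz, rfl⟩
      exact ⟨c z, hcQ ▸ mem_map_of_mem _ hz, rfl⟩
    · rintro ⟨z, hz, hzy⟩
      obtain ⟨z', hz', rfl⟩ := (hcQ.symm ▸ hz : z ∈ (Cfsg.pCore p ↥G).map c.toMonoidHom)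
      refine ⟨z', hz', mul_left_cancel (mul_right_cancel (hzy : x * (z' : H) * x⁻¹ = x * y * x⁻¹))⟩
  -- the automorphism of `U × R` induced by `x`
  let eS : ↥(qdU F) × ↥R ≃* ↥S' :=
    (MonoidHom.ofInjective hΦS).trans (MulEquiv.subgroupCongr hrange)
  let α : ↥(qdU F) × ↥R ≃* ↥(qdU F) × ↥R := eS.trans ((conjOn S' x hxN).trans eS.symm)
  have hα : ∀ s, ΦS (α s) = x * ΦS s * x⁻¹ := fun s => by
    have h1 : ((eS (eS.symm (conjOn S' x hxN (eS s))) : ↥S') : H) = x * ΦS s * x⁻¹ := by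
      rw [eS.apply_symm_apply]
      rfl
    exact h1
  -- `|Z(R)| ≤ q`
  have hcard : Nat.card ↥(center ↥R) ≤ Nat.card F := by
    refine le_trans ?_ (card_center_le (F := F))
    have hαc : ∀ r : ↥(center ↥R), α (1, r.1) ∈ center (↥(qdU F) × ↥R) := by
      intro r
      have hc : ((1 : ↥(qdU F)), r.1) ∈ center (↥(qdU F) × ↥R) :=
        mem_center_iff.2 fun g => Prod.ext (by simp) (mem_center_iff.1 r.2 g.2)
      refine mem_center_iff.2 fun g => ?_
      obtain ⟨g', rfl⟩ := α.surjective g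
      rw [← map_mul, ← map_mul, mem_center_iff.1 hc g']
    refine Nat.card_le_card_of_injective
      (fun r => (⟨(α (1, r.1)).1, mem_center_iff.2 fun M => congrArg Prod.fst
        (mem_center_iff.1 (hαc r) (M, 1))⟩ : ↥(center ↥(qdU F)))) fun r r' h => ?_
    have h1 := congrArg Subtype.val h
    simp only at h1
    set d : ↥(center ↥R) := r * r'⁻¹ with hd
    have hd1 : (α (1, d.1)).1 = 1 := by
      have e' : ((1 : ↥(qdU F)), d.1) = (1, r.1) * (1, r'.1)⁻¹ := by simp [hd]
      rw [e', map_mul, map_inv, Prod.fst_mul, Prod.fst_inv, h1, mul_inv_cancel]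
    have hd2 : (α (1, d.1)).2 ∈ center ↥R := mem_center_iff.2 fun g => congrArg Prod.snd
      (mem_center_iff.1 (hαc d) (1, g))
    have hy := hxC (ΦS (1, d.1)) ⟨(1, d.1), ⟨one_mem _, d.2⟩, rfl⟩ (by
      rw [← hα]
      exact ⟨κ (α (1, d.1)), ⟨by simp [κ, hd1], hd2⟩, rfl⟩)
    have hd0 : ((1 : ↥(qdU F)), d.1) = 1 := hΦS (by rw [map_one]; exact hy)
    exact mul_inv_eq_one.1 (Subtype.ext (congrArg Prod.snd hd0))
  have hR : ∃ r : ↥R, r ∉ center ↥R := by
    by_contra hc
    push Not at hc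
    exact hnc fun a b => mem_center_iff.1 (hc b) a
  have hcomle : commutator ↥R ≤ center ↥R := commutator_le.2 fun a _ b _ => hRc a b
  have hcom : commutator ↥R ≠ ⊥ := fun h0 => hnc fun a b =>
    commutatorElement_eq_one_iff_mul_comm.1
      (mem_bot.1 (h0 ▸ commutator_mem_commutator (mem_top a) (mem_top b)))
  set Y := ((⊥ : Subgroup (Qd F)).prod (commutator ↥R)).map Φ with hY
  have hYN : normalizer (Y : Set H) = G := hcentral _ hcomle hcom
  have hYS : Y = ((⊥ : Subgroup ↥(qdU F)).prod (commutator ↥R)).map ΦS := by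
    refine Eq.trans ?_ (Subgroup.map_map ((⊥ : Subgroup ↥(qdU F)).prod (commutator ↥R)) Φ κ)
    refine congrArg (Subgroup.map Φ) (Subgroup.ext fun ⟨M, r⟩ => ?_)
    constructor
    · rintro ⟨hM, hr⟩
      exact ⟨(1, r), ⟨one_mem _, hr⟩, Prod.ext (mem_bot.1 hM).symm rfl⟩
    · rintro ⟨⟨M', r'⟩, ⟨hM', hr'⟩, h⟩
      rw [← h]
      exact ⟨mem_bot.2 (congrArg Subtype.val (mem_bot.1 hM')), hr'⟩
  have hαmap : ∀ T : Subgroup (↥(qdU F) × ↥R),
      (T.map α.toMonoidHom).map ΦS = (T.map ΦS).map (MulAut.conj x).toMonoidHom := fun T => by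
    rw [map_map, map_map]
    congr 1
    ext s
    exact hα s
  rcases exchange hRc hcard hR α with hfix | hswap
  · apply hxG
    rw [← hYN]
    have h1 : Y.map (MulAut.conj x).toMonoidHom = Y := by
      rw [hYS, ← hαmap, hfix]
    refine mem_normalizer_iff.2 fun y => ?_
    conv_rhs => rw [← h1]
    exact (mem_map_iff_mem (MulAut.conj x).injective).symm
  · obtain ⟨k, hk0, hk2⟩ := PSLSimple.exists_sq_ne_one (F := F) (by
      rw [Nat.card_eq_fintype_card, hF]
      calc 4 ≤ p ^ 1 := by rw [pow_one]; omega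
        _ ≤ p ^ n := Nat.pow_le_pow_right hpf.out.pos hn)
    set dk := PSL2Elements.d (Units.mk0 k hk0) with hdk
    set hh : Qd F := lift dk with hhh
    set T := ((commutator ↥(qdU F)).prod (⊥ : Subgroup ↥R)).map ΦS with hT
    have hxY : Y.map (MulAut.conj x).toMonoidHom = T := by
      rw [hYS, ← hαmap, hswap]
    have hconjU : ∀ M : ↥(qdU F), hh * (M : Qd F) * hh⁻¹ ∈ qdU F := fun M => by
      change hh * (M : Qd F) * hh⁻¹ ∈ (PSL2Sylow.uSub F).comap blk
      rw [mem_comap, map_mul, map_mul, map_inv, hhh, blk_lift, blk_eq M, hdk,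
        PSL2Elements.d_conj_u]
      exact PSL2Sylow.mem_uSub.2 ⟨_, rfl⟩
    let θ : ↥(qdU F) →* ↥(qdU F) :=
      MonoidHom.mk' (fun M => ⟨hh * (M : Qd F) * hh⁻¹, hconjU M⟩)
        fun M N => Subtype.ext (by simp [mul_assoc])
    have hθ : ∀ M ∈ commutator ↥(qdU F), θ M ∈ commutator ↥(qdU F) := fun M hM => by
      have h1 := mem_map_of_mem θ hM
      rw [_root_.commutator_def, map_commutator] at h1
      exact commutator_mono le_top le_top h1
    set g := Φ (hh, 1) with hg
    have hgT : ∀ y ∈ T, g * y * g⁻¹ ∈ T := by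
      rintro y ⟨⟨M, r⟩, ⟨hM, hr⟩, rfl⟩
      refine ⟨(θ M, r), ⟨hθ M hM, hr⟩, ?_⟩
      change Φ _ = Φ _ * Φ _ * (Φ _)⁻¹
      rw [← map_inv, ← map_mul, ← map_mul]
      congr 1
      exact Prod.ext rfl (by simp [κ, mem_bot.1 hr])
    set g' := x⁻¹ * g * x with hg'
    have hg'Y : g' ∈ normalizer (Y : Set H) := by
      have h1 : Y.map (MulAut.conj g').toMonoidHom ≤ Y := by
        rintro - ⟨y, hy, rfl⟩
        have h2 : x * y * x⁻¹ ∈ T := hxY ▸ mem_map_of_mem (MulAut.conj x).toMonoidHom hy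
        have h3 := hgT _ h2
        rw [← hxY] at h3
        obtain ⟨y', hy', he'⟩ := h3
        change x * y' * x⁻¹ = _ at he'
        have h4 : (MulAut.conj g').toMonoidHom y = y' := by
          change g' * y * g'⁻¹ = y'
          calc g' * y * g'⁻¹ = x⁻¹ * (g * (x * y * x⁻¹) * g⁻¹) * x := by rw [hg']; group
            _ = y' := by rw [← he']; group
        rw [h4]
        exact hy'
      have h5 : Y.map (MulAut.conj g').toMonoidHom = Y :=
        eq_of_le_of_card_ge h1 (card_map_of_injective (MulAut.conj g').injective).ge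
      refine mem_normalizer_iff.2 fun y => ?_
      conv_rhs => rw [← h5]
      exact (mem_map_iff_mem (MulAut.conj g').injective).symm
    rw [hYN] at hg'Y
    obtain ⟨sg, hsg⟩ := hΦsurj g' hg'Y
    obtain ⟨z, hz, hz1⟩ : ∃ z ∈ commutator ↥R, z ≠ 1 := by
      obtain ⟨z, hz⟩ := ne_bot_iff_exists_ne_one.1 hcom
      exact ⟨z.1, z.2, fun h0 => hz (Subtype.ext h0)⟩
    have hcommz : g' * Φ (1, z) = Φ (1, z) * g' := by
      rw [← hsg, ← map_mul, ← map_mul]
      congr 1
      exact Prod.ext (by simp) (mem_center_iff.1 (hcomle hz) sg.2)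
    have hxz : x * Φ (1, z) * x⁻¹ ∈ T :=
      hxY ▸ mem_map_of_mem (MulAut.conj x).toMonoidHom (mem_map_of_mem Φ ⟨one_mem _, hz⟩)
    obtain ⟨⟨M, r⟩, ⟨hM, hr⟩, hMe⟩ := hxz
    have hgM : g * ΦS (M, r) = ΦS (M, r) * g := by
      rw [hMe]
      calc g * (x * Φ (1, z) * x⁻¹) = x * (g' * Φ (1, z)) * x⁻¹ := by rw [hg']; group
        _ = _ := by rw [hcommz, hg']; group
    have hMcomm : hh * (M : Qd F) = (M : Qd F) * hh := by
      rw [show ΦS (M, r) = Φ ((M : Qd F), r) from rfl, hg, ← map_mul, ← map_mul] at hgM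
      exact congrArg Prod.fst (hΦinj hgM)
    obtain ⟨hb1, hb2⟩ := commutator_form hM
    have hvec := congrArg (fun X => vec X 0) hMcomm
    simp only [vec_mul, hb1, hhh, blk_lift, vec_lift] at hvec
    simp [hdk, PSL2Elements.d, PSL2Elements.mk2, dotProduct, Fin.sum_univ_two, hb2]
      at hvec
    have hv0 : vec (M : Qd F) 0 = 0 := by
      by_contra hne
      apply hk2
      have : k = 1 := mul_right_cancel₀ hne (hvec.trans (one_mul _).symm)
      rw [this, one_pow]
    have hM1 : M = 1 := Subtype.ext (ext_blk_vec (hb1.trans (map_one blk).symm)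
      (funext fun i => by fin_cases i <;> simp [hv0, hb2]))
    have hMe1 : ΦS (M, r) = 1 := by
      rw [hM1, show r = 1 from mem_bot.1 hr]
      exact map_one ΦS
    rw [hMe1, eq_comm, mul_inv_eq_one, mul_eq_left, ← map_one Φ] at hMe
    exact hz1 (congrArg Prod.snd (hΦinj hMe))

/-- One noncentral factor for `p ≥ 5` gives `Qd(q) × E`. -/
theorem conclude2766 (hp : 5 ≤ p) (G : Subgroup H)
    (hmax : ∀ R : Subgroup H, IsPGroup p ↥R → R ≠ ⊥ → G ≤ normalizer (R : Set H) →
      normalizer (R : Set H) = G)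
    (S : Sylow p ↥G) (F : Type) [Field F] [Fintype F] (n : ℕ) (hn : 1 ≤ n)
    (hF : Fintype.card F = p ^ n)
    (hN : ¬ normalizer (((S : Subgroup ↥G).map G.subtype : Subgroup H) : Set H) ≤ G)
    (h : ShapeOne p F (S : Subgroup ↥G)) :
    ∃ G₀ E : Subgroup H, Cfsg.IsInternalDirectProduct G₀ E G ∧ Cfsg.IsElementaryAbelian p E ∧
      Nonempty (↥G₀ ≃* ↥(Cfsg.qdOver F)) := by
  obtain ⟨R, e, hRp, hRexp, he, hS⟩ := PushAmalgamQdSplit.exists_split hp S F hn hF h
  have hcomm := comm_of_split hn hp hF hmax S hN h.class_le R e hRp he hS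
  let f₀ : Qd F →* H := G.subtype.comp (e.toMonoidHom.comp (MonoidHom.inl (Qd F) ↥R))
  have hf₀ : Function.Injective f₀ := fun a b hab =>
    congrArg Prod.fst (e.injective (G.subtype_injective hab))
  refine ⟨f₀.range, R.map G.subtype, ⟨?_, map_subtype_le R, ?_, ?_, ?_⟩, ⟨⟨⟨?_⟩⟩, ?_⟩,
    ⟨(MonoidHom.ofInjective hf₀).symm⟩⟩
  · rintro - ⟨M, rfl⟩
    exact (e (M, 1)).2
  · rintro - ⟨M, rfl⟩ - ⟨r, hr, rfl⟩
    change (e (M, 1) : H) * ((⟨r, hr⟩ : ↥R) : ↥G) = ((⟨r, hr⟩ : ↥R) : ↥G) * (e (M, 1) : H)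
    rw [← he, ← Subgroup.coe_mul, ← Subgroup.coe_mul, ← map_mul, ← map_mul]
    simp
  · refine (eq_bot_iff_forall _).2 ?_
    rintro - ⟨⟨M, rfl⟩, r, hr, hre⟩
    have h1 : e (1, ⟨r, hr⟩) = e (M, 1) := by
      rw [he]
      exact Subtype.ext hre
    have h2 := congrArg Prod.fst (e.injective h1)
    simp only at h2
    rw [← h2, map_one]
  · refine le_antisymm (sup_le ?_ (map_subtype_le R)) fun g hg => ?_
    · rintro - ⟨M, rfl⟩
      exact (e (M, 1)).2
    · obtain ⟨⟨M, r⟩, hMr⟩ := e.surjective ⟨g, hg⟩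
      have h1 : g = f₀ M * ((r : ↥G) : H) := by
        rw [← he r]
        change g = (e (M, 1) : H) * (e (1, r) : H)
        rw [← Subgroup.coe_mul, ← map_mul, Prod.mk_mul_mk, mul_one, one_mul, hMr]
      rw [h1]
      exact mul_mem_sup ⟨M, rfl⟩ (mem_map_of_mem _ r.2)
  · rintro ⟨-, a, ha, rfl⟩ ⟨-, b, hb, rfl⟩
    have := congrArg Subtype.val (hcomm ⟨a, ha⟩ ⟨b, hb⟩)
    exact Subtype.ext (congrArg G.subtype this)
  · rintro - ⟨a, ha, rfl⟩
    rw [← map_pow, hRexp a ha, map_one]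

end Main

end Cfsg.Agent.PushAmalgamQd
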