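import Mathlib
import Cfsg.Agent.Lib.PushAmalgamDefs
import Cfsg.Agent.Lib.PushingUpCL
import Cfsg.Prelude.Def_PLocal

/-!
Pushing up, uniform version: a finite family of groups sharing a Sylow subgroup, inside one finite group.
-/

set_option autoImplicit false

namespace Cfsg.Agent.PushFamily

open Subgroup
open Cfsg.Agent.PushAmalgam (cj Facts)

universe u

/-- `T` lies in one of the four characteristic subgroups of `S`, for subgroups of an ambient group. -/
def InFun {Γ : Type*} [Group Γ] (p : ℕ) (S T : Subgroup Γ) : Prop :=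
  (p ≠ 3 ∧ T ≤ S.lowerCentralSeries 2) ∨
    (p = 3 ∧ T ≤ S.lowerCentralSeries 3) ∨
      T ≤ PushingUpCL.phi p (PushingUpCL.phi p S) ∨
        (3 < p ∧ S.lowerCentralSeries 2 = ⊥ ∧ T ≤ Cfsg.powerClosure p 1 S)

/-- Members of a family of pushing up situations on one group `S`, each with the facts about it, and a
selection of members which move the join of all `W`, one for each pair `W, Q`. -/
structure Fam (Γ : Type u) [Group Γ] (p : ℕ) where
  ι : Type
  G : ι → Subgroup Γ
  M : ι → Subgroup Γ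
  Q : ι → Subgroup Γ
  W : ι → Subgroup Γ
  C : ι → Subgroup Γ
  S : Subgroup Γ
  Z : Subgroup Γ
  facts : ∀ i, Facts p (G i) S (M i) (Q i) (W i) Z (C i)
  model : ∀ i, ∃ (H : Type u) (_ : Group H) (_ : Finite H) (f : H →* Γ)
    (S' M' Q' W' Z' C' : Subgroup H), Function.Injective f ∧ Facts p ⊤ S' M' Q' W' Z' C' ∧
      (⊤ : Subgroup H).map f = G i ∧ S'.map f = S ∧ M'.map f = M i ∧ Q'.map f = Q i ∧
      W'.map f = W i ∧ Z'.map f = Z ∧ C'.map f = C i
  WQ_edge : ∀ i j, W i ≤ Q j
  sel : ι → Prop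
  twin : ∀ i, ∃ j, sel j ∧ W j = W i ∧ Q j = Q i
  sel_moves : ∀ i, sel i → ¬ G i ≤ normalizer ((⨆ j, W j : Subgroup Γ) : Set Γ)

namespace Fam

variable {Γ : Type u} [Group Γ] {p : ℕ}

/-- A flag: an edge, and the kind of one of the vertices on it. -/
abbrev Flag (A : Fam Γ p) : Type u := Γ × A.ι

/-- `y` is at distance at most `j` from `x`. -/
inductive Near (A : Fam Γ p) : ℕ → A.Flag → A.Flag → Prop
  | zero {x : A.Flag} {g : Γ} : g ∈ A.G x.2 → Near A 0 x (x.1 * g, x.2)
  | succ {j : ℕ} {x y : A.Flag} {k : A.ι} {g : Γ} :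
      Near A j x y → g ∈ A.G k → Near A (j + 1) x (y.1 * g, k)

/-- Some `W` is not below the `O_p` at some vertex of the graph. -/
def Critical (A : Fam Γ p) : Prop :=
  ∃ j x y, A.Near j x y ∧ ¬ cj x.1 (A.W x.2) ≤ cj y.1 (A.Q y.2)

end Fam

end Cfsg.Agent.PushFamily
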