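import Mathlib

/-!
Pushing up, uniform version: finitely many finite groups containing a group `S` embed into one finite
group so that the copies of `S` coincide.
-/

set_option autoImplicit false

namespace Cfsg.Agent.PushFamily

open Subgroup

universe u v

theorem exists_common_embedding {ι : Type} [Finite ι] {S : Type u} [Group S] [Finite S]
    (G : ι → Type u) [∀ i, Group (G i)] [∀ i, Finite (G i)] (f : ∀ i, S →* G i)
    (hf : ∀ i, Function.Injective (f i)) :
    ∃ (Γ : Type u) (_ : Group Γ) (_ : Finite Γ) (φ : S →* Γ) (j : ∀ i, G i →* Γ),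
      Function.Injective φ ∧ ∀ i, Function.Injective (j i) ∧ (j i).comp (f i) = φ := by
  classical
  let Λ := ∀ i, G i ⧸ (f i).range
  have hmem : ∀ i (g : G i), g * (((g⁻¹ : G i) : G i ⧸ (f i).range).out) ∈ (f i).range := fun i g => by
    obtain ⟨r, hr⟩ := QuotientGroup.mk_out_eq_mul (f i).range g⁻¹
    rw [hr, ← mul_assoc, mul_inv_cancel, one_mul]
    exact r.2
  let E : ∀ i, G i ≃ S × (G i ⧸ (f i).range) := fun i =>
    { toFun := fun g => ((MonoidHom.ofInjective (hf i)).symm ⟨_, hmem i g⟩, ((g⁻¹ : G i) : G i ⧸ (f i).range))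
      invFun := fun x => f i x.1 * x.2.out⁻¹
      left_inv := fun g => by
        show f i ((MonoidHom.ofInjective (hf i)).symm ⟨_, hmem i g⟩) * _ = g
        rw [← MonoidHom.ofInjective_apply (hf i), MulEquiv.apply_symm_apply]
        exact mul_inv_cancel_right g _
      right_inv := fun x => by
        have hq : (((f i x.1 * x.2.out⁻¹)⁻¹ : G i) : G i ⧸ (f i).range) = x.2 := by
          rw [mul_inv_rev, inv_inv, QuotientGroup.mk_mul_of_mem _ (inv_mem (show f i x.1 ∈ (f i).range from ⟨x.1, rfl⟩)),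
            QuotientGroup.out_eq']
        refine Prod.ext ?_ hq
        show (MonoidHom.ofInjective (hf i)).symm ⟨_, hmem i _⟩ = x.1
        rw [MulEquiv.symm_apply_eq]
        refine Subtype.ext ?_
        show f i x.1 * x.2.out⁻¹ * _ = f i x.1
        rw [hq, inv_mul_cancel_right] }
  have hE : ∀ i (s : S) (g : G i), E i (f i s * g) = (s * (E i g).1, (E i g).2) := by
    intro i s g
    obtain ⟨⟨t, q⟩, rfl⟩ := (E i).symm.surjective g
    rw [Equiv.apply_symm_apply, ← Equiv.eq_symm_apply]
    show f i s * (f i t * q.out⁻¹) = f i (s * t) * q.out⁻¹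
    rw [map_mul, mul_assoc]
  let e : ∀ i, (G i × ∀ k : {k // k ≠ i}, G k ⧸ (f k).range) ≃ S × Λ := fun i =>
    ((Equiv.prodCongr (E i) (Equiv.refl _)).trans (Equiv.prodAssoc _ _ _)).trans
      (Equiv.prodCongr (Equiv.refl S) (Equiv.piSplitAt i fun k => G k ⧸ (f k).range).symm)
  let φ : S →* Equiv.Perm (S × Λ) :=
    { toFun := fun s => Equiv.prodCongr (Equiv.mulLeft s) (Equiv.refl Λ)
      map_one' := Equiv.ext fun x => Prod.ext (one_mul _) rfl
      map_mul' := fun a b => Equiv.ext fun x => Prod.ext (mul_assoc a b x.1) rfl }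
  let j : ∀ i, G i →* Equiv.Perm (S × Λ) := fun i =>
    { toFun := fun g => (e i).permCongr (Equiv.prodCongr (Equiv.mulLeft g) (Equiv.refl _))
      map_one' := by
        refine Equiv.ext fun x => ?_
        simp
      map_mul' := fun a b => by
        refine Equiv.ext fun x => ?_
        obtain ⟨⟨g, r⟩, rfl⟩ := (e i).surjective x
        simp [mul_assoc] }
  refine ⟨Equiv.Perm (S × Λ), inferInstance, inferInstance, φ, j, fun a b h => ?_, fun i => ⟨?_, ?_⟩⟩
  · have h1 := congrArg Prod.fst (Equiv.ext_iff.1 h (1, fun k => ((1 : G k) : G k ⧸ (f k).range)))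
    simpa [φ] using h1
  · intro a b h
    have h1 := Equiv.ext_iff.1 h (e i ((1 : G i), fun k => ((1 : G k) : G k ⧸ (f k).range)))
    simpa [j] using h1
  · refine MonoidHom.ext fun s => Equiv.ext fun x => ?_
    obtain ⟨⟨g, r⟩, rfl⟩ := (e i).surjective x
    simp [j, φ, e, hE]

end Cfsg.Agent.PushFamily
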