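import Mathlib
import Cfsg.Agent.Lib.PushFamAmal
import Cfsg.Agent.Lib.PushAmalgamPath

/-!
Pushing up, uniform version: the graph of a family, critical pairs, and the shift across a selected vertex.
-/

set_option autoImplicit false

namespace Cfsg.Agent.PushFamily

open Subgroup
open Cfsg.Agent.PushAmalgam
open scoped Pointwise commutatorElement

universe u v

variable {Γ : Type u} [Group Γ] {ι : Type v}

/-- Moving a flag round its vertex. -/
scoped instance flagMul : HMul (Γ × ι) Γ (Γ × ι) := ⟨fun x g => (x.1 * g, x.2)⟩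

/-- Translating a flag. -/
scoped instance flagSMul : HMul Γ (Γ × ι) (Γ × ι) := ⟨fun t x => (t * x.1, x.2)⟩

@[simp] theorem flag_mul_fst (x : Γ × ι) (g : Γ) : (x * g).1 = x.1 * g := rfl
@[simp] theorem flag_mul_snd (x : Γ × ι) (g : Γ) : (x * g).2 = x.2 := rfl
@[simp] theorem flag_smul_fst (t : Γ) (x : Γ × ι) : (t * x).1 = t * x.1 := rfl
@[simp] theorem flag_smul_snd (t : Γ) (x : Γ × ι) : (t * x).2 = x.2 := rfl

theorem flag_mul_one (x : Γ × ι) : x * (1 : Γ) = x := Prod.ext (mul_one _) rfl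

theorem flag_mul_assoc (x : Γ × ι) (g h : Γ) : x * g * h = x * (g * h) := Prod.ext (mul_assoc _ _ _) rfl

theorem flag_smul_mul (t : Γ) (x : Γ × ι) (g : Γ) : t * (x * g) = t * x * g :=
  Prod.ext (mul_assoc _ _ _).symm rfl

theorem flag_mul_inv_cancel (x : Γ × ι) (g : Γ) : x * g * g⁻¹ = x := by
  rw [flag_mul_assoc, mul_inv_cancel, flag_mul_one]

variable {p : ℕ}

namespace Fam

variable (A : Fam Γ p)

/-- The group at the vertex of a flag. -/
abbrev Gv (x : A.Flag) : Subgroup Γ := cj x.1 (A.G x.2)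
/-- The group at the edge of a flag. -/
abbrev Sv (x : A.Flag) : Subgroup Γ := cj x.1 A.S
/-- The maximal subgroup belonging to a flag. -/
abbrev Mv (x : A.Flag) : Subgroup Γ := cj x.1 (A.M x.2)
/-- `O_p` of the group at a vertex. -/
abbrev Qv (x : A.Flag) : Subgroup Γ := cj x.1 (A.Q x.2)
/-- `W` at a vertex. -/
abbrev Wv (x : A.Flag) : Subgroup Γ := cj x.1 (A.W x.2)
/-- `Z` at an edge. -/
abbrev Zv (x : A.Flag) : Subgroup Γ := cj x.1 A.Z
/-- `C` at a vertex. -/
abbrev Cv (x : A.Flag) : Subgroup Γ := cj x.1 (A.C x.2)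
/-- The join of all `W` at an edge. -/
abbrev Vv (x : A.Flag) : Subgroup Γ := cj x.1 (⨆ j, A.W j)

theorem facts_at (x : A.Flag) :
    Facts p (A.Gv x) (A.Sv x) (A.Mv x) (A.Qv x) (A.Wv x) (A.Zv x) (A.Cv x) :=
  (A.facts x.2).map (MulAut.conj x.1).toMonoidHom (MulAut.conj x.1).injective

theorem Gv_mul {g : Γ} {x : A.Flag} (hg : g ∈ A.G x.2) : A.Gv (x * g) = A.Gv x := by
  show cj (x.1 * g) (A.G x.2) = _
  rw [cj_mul, cj_of_mem_normalizer (le_normalizer hg)]

theorem Qv_mul {g : Γ} {x : A.Flag} (hg : g ∈ A.G x.2) : A.Qv (x * g) = A.Qv x := by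
  show cj (x.1 * g) (A.Q x.2) = _
  rw [cj_mul, cj_of_mem_normalizer ((A.facts x.2).G_norm_Q hg)]

theorem Wv_mul {g : Γ} {x : A.Flag} (hg : g ∈ A.G x.2) : A.Wv (x * g) = A.Wv x := by
  show cj (x.1 * g) (A.W x.2) = _
  rw [cj_mul, cj_of_mem_normalizer ((A.facts x.2).G_norm_W hg)]

theorem Cv_mul [Finite Γ] {g : Γ} {x : A.Flag} (hg : g ∈ A.G x.2) : A.Cv (x * g) = A.Cv x := by
  show cj (x.1 * g) (A.C x.2) = _
  rw [cj_mul]
  congr 1
  refine cj_of_mem_normalizer (le_normalizer_of_conj_mem (H := A.G x.2) (fun h hh c hc => ?_) hg)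
  rwa [(A.facts x.2).C_comm hc hh, mul_inv_cancel_right]

theorem gen_at {x : A.Flag} {g : Γ} (hg : g ∈ A.G x.2) (hgM : g ∉ A.M x.2) {c : Γ} (hc : c ∈ A.Sv x)
    (hcQ : c ∉ A.Qv x) : A.Sv (x * g) ⊔ zpowers c = A.Gv x := by
  have h := (A.facts_at x).gen (x.1 * g * x.1⁻¹) (conj_mem_cj hg)
    (fun hh => hgM (by simpa [mem_cj, mul_assoc] using hh)) c hc hcQ
  rwa [← cj_mul, inv_mul_cancel_right] at h

theorem dec_at {x : A.Flag} {g : Γ} (hg : g ∈ A.G x.2) (hgM : g ∉ A.M x.2) {w : Γ} (hw : w ∈ A.Wv x) :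
    ∃ u ∈ A.Zv x, ∃ v ∈ A.Zv (x * g), w = u * v := by
  have h := (A.facts_at x).dec (x.1 * g * x.1⁻¹) (conj_mem_cj hg)
    (fun hh => hgM (by simpa [mem_cj, mul_assoc] using hh)) w hw
  rwa [← cj_mul, inv_mul_cancel_right] at h

theorem inter_at {x : A.Flag} {g : Γ} (hg : g ∈ A.G x.2) (hgM : g ∉ A.M x.2) :
    A.Zv x ⊓ A.Zv (x * g) = A.Cv x := by
  have h := (A.facts_at x).inter (x.1 * g * x.1⁻¹) (conj_mem_cj hg)
    (fun hh => hgM (by simpa [mem_cj, mul_assoc] using hh))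
  rwa [← cj_mul, inv_mul_cancel_right] at h

variable {A}

namespace Near

variable {i j : ℕ} {x y z : A.Flag}

theorem refl (x : A.Flag) : A.Near 0 x x := by
  simpa using Near.zero (A := A) (x := x) ((A.G x.2).one_mem)

theorem mul_right (h : A.Near j x y) {g : Γ} (hg : g ∈ A.G y.2) : A.Near j x (y * g) := by
  cases h with
  | zero h' =>
    show A.Near 0 x (_ * g, _)
    rw [mul_assoc]; exact .zero (mul_mem h' hg)
  | succ h' hg' =>
    show A.Near _ x (_ * g, _)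
    rw [mul_assoc]; exact .succ h' (mul_mem hg' hg)

theorem to_edge (h : A.Near j x y) (k : A.ι) : A.Near (j + 1) x (y.1, k) := by
  simpa using Near.succ (k := k) h (A.G k).one_mem

theorem trans (h₁ : A.Near i x y) (h₂ : A.Near j y z) : A.Near (i + j) x z := by
  induction h₂ with
  | zero hg => exact h₁.mul_right hg
  | succ _ hg ih => exact .succ (ih h₁) hg

theorem mono (h : A.Near i x y) (hij : i ≤ j) : A.Near j x y := by
  induction hij with
  | refl => exact h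
  | step _ ih => exact ih.to_edge y.2

theorem symm (h : A.Near j x y) : A.Near j y x := by
  induction h with
  | @zero x g hg =>
    simpa [mul_assoc] using Near.zero (A := A) (x := (x.1 * g, x.2)) (inv_mem hg)
  | @succ j x y k g h' hg ih =>
    have h1 : A.Near 1 (y.1 * g, k) y := by
      have := ((Near.zero (A := A) (x := (y.1 * g, k)) (inv_mem hg))).to_edge y.2
      simpa [mul_assoc] using this
    simpa [add_comm] using h1.trans ih

theorem translate (h : A.Near j x y) (t : Γ) : A.Near j (t * x) (t * y) := by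
  induction h with
  | @zero x g hg =>
    show A.Near 0 (t * x) (t * (x.1 * g), x.2)
    rw [← mul_assoc]; exact Near.zero (x := t * x) hg
  | @succ j x y k g _ hg ih =>
    show A.Near _ (t * x) (t * (y.1 * g), k)
    rw [← mul_assoc]; exact Near.succ (y := t * y) ih hg

end Near

variable (A)

/-- Two left flags of consecutive vertices of a path. -/
def Step (x y : A.Flag) : Prop := ∃ g ∈ A.G x.2, y.1 = x.1 * g

theorem Step.near {x y : A.Flag} (h : A.Step x y) : A.Near 1 x y := by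
  obtain ⟨g, hg, he⟩ := h
  have := (Near.zero (A := A) (x := x) hg).to_edge y.2
  rwa [show ((x.1 * g, y.2) : A.Flag) = y from Prod.ext he.symm rfl] at this

/-- The least distance of a critical pair. -/
noncomputable def crit : ℕ := sInf {j | ∃ x y, A.Near j x y ∧ ¬ A.Wv x ≤ A.Qv y}

theorem crit_spec (h : A.Critical) : ∃ x y, A.Near A.crit x y ∧ ¬ A.Wv x ≤ A.Qv y := by
  obtain ⟨j, hj⟩ := h
  exact Nat.sInf_mem (s := {j | ∃ x y, A.Near j x y ∧ ¬ A.Wv x ≤ A.Qv y}) ⟨j, hj⟩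

theorem WQ {j : ℕ} {x y : A.Flag} (h : A.Near j x y) (hj : j < A.crit) : A.Wv x ≤ A.Qv y := by
  by_contra hh
  exact Nat.notMem_of_lt_sInf hj ⟨x, y, h, hh⟩

theorem two_le_crit (hA : A.Critical) : 2 ≤ A.crit := by
  by_contra hlt
  push Not at hlt
  obtain ⟨x, y, h, hh⟩ := A.crit_spec hA
  refine hh ?_
  rcases (by omega : A.crit = 0 ∨ A.crit = 1) with h0 | h0 <;> rw [h0] at h
  · cases h with
    | zero hg => exact (A.facts_at x).W_le.trans (A.Qv_mul hg).ge
  · cases h with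
    | @succ _ _ y k g h1 hg =>
      cases h1 with
      | @zero _ g₁ hg₁ =>
        refine le_trans (le_of_eq (A.Wv_mul hg₁).symm) ?_
        refine le_trans (cj_mono (A.WQ_edge x.2 k)) (le_of_eq ?_)
        exact (A.Qv_mul (x := ((x.1 * g₁, k) : A.Flag)) hg).symm

theorem W_comm_of_near {j : ℕ} {x y : A.Flag} (h : A.Near j x y) (hj : j < A.crit) {u v : Γ}
    (hu : u ∈ A.Wv x) (hv : v ∈ A.Wv y) : u * v = v * u :=
  (A.facts_at y).W_comm u (A.WQ h hj hu) v hv

theorem S_norm_V [Finite Γ] : A.S ≤ normalizer ((⨆ j, A.W j : Subgroup Γ) : Set Γ) := by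
  refine le_normalizer_of_conj_mem fun s hs x hx => ?_
  have hle : cj s (⨆ j, A.W j) ≤ ⨆ j, A.W j := by
    rw [cj, Subgroup.map_iSup]
    refine iSup_mono fun j => le_of_eq ?_
    exact cj_of_mem_normalizer ((A.facts j).G_norm_W ((A.facts j).S_le hs))
  exact hle (conj_mem_cj hx)

theorem W_le_V (x : A.Flag) : A.Wv x ≤ A.Vv x := cj_mono (le_iSup A.W x.2)

theorem moves_at {x : A.Flag} (hx : A.sel x.2) : ¬ A.Gv x ≤ normalizer (A.Vv x : Set Γ) := by
  intro h
  refine A.sel_moves x.2 hx ?_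
  have h2 := normalizer_cj (t := x.1⁻¹) h
  rwa [Vv, Gv, ← cj_mul, ← cj_mul, inv_mul_cancel, cj_one, cj_one] at h2

variable [Finite Γ]

/-- Without critical pairs all `W` generate a subgroup of `S` normalised by all members. -/
theorem exists_common (hno : ¬ A.Critical) :
    ∃ Y ≤ A.S, (∀ i, A.W i ≤ Y) ∧ ∀ i, A.G i ≤ normalizer (Y : Set Γ) := by
  rw [Critical] at hno
  push Not at hno
  set Y : Subgroup Γ := ⨆ x : {x : A.Flag // ∃ i j, A.Near j (1, i) x}, A.Wv (x : A.Flag) with hY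
  refine ⟨Y, iSup_le fun ⟨x, i, j, hj⟩ => ?_, fun i => ?_, fun k => ?_⟩
  · exact (hno j x (1, i) hj.symm).trans (A.facts_at (1, i)).Q_le |>.trans (cj_one A.S).le
  · exact le_trans (cj_one (A.W i)).ge
      (le_iSup (fun x : {x : A.Flag // ∃ i j, A.Near j (1, i) x} => A.Wv (x : A.Flag))
        ⟨(1, i), i, 0, Near.refl _⟩)
  · refine le_normalizer_of_conj_mem fun t ht x hx => ?_
    have hle : cj t Y ≤ Y := by
      rw [hY, cj, Subgroup.map_iSup]
      refine iSup_le ?_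
      rintro ⟨x, i, j, hj⟩
      have h1 : A.Near 1 ((1, i) : A.Flag) (1, k) := (Near.refl _).to_edge k
      have h2 := (h1.mul_right (g := t) ht).to_edge i
      have h3 : A.Near (1 + 1 + j) ((1, i) : A.Flag) (t * x) := by
        have hj' := hj.translate t
        refine h2.trans ?_
        convert hj' using 1
        exact Prod.ext (by simp) rfl
      refine le_trans (le_of_eq (cj_mul t x.1 (A.W x.2)).symm)
        (le_iSup (fun x : {x : A.Flag // ∃ i j, A.Near j (1, i) x} => A.Wv (x : A.Flag))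
          ⟨t * x, i, _, h3⟩)
    exact hle (conj_mem_cj hx)

/-- The two sides of a critical pair. -/
theorem pair {x y : A.Flag} (hx : A.Wv x ≤ A.Sv y) (hy : A.Wv y ≤ A.Sv x) (hn : ¬ A.Wv x ≤ A.Qv y) :
    ¬ A.Wv y ≤ A.Qv x ∧ (∀ w ∈ A.Wv x, w ∈ A.Qv y → w ∈ A.Zv x) ∧ A.Zv x ≤ A.Qv y ∧
      ∀ s ∈ A.Sv y, ∃ w ∈ A.Wv x, ∃ q ∈ A.Qv y, s = w * q := by
  have hn' : ¬ A.Wv y ≤ A.Qv x := by
    intro hh
    obtain ⟨w, hw, hwQ⟩ := SetLike.not_le_iff_exists.1 hn
    exact hwQ ((A.facts_at y).cent_S (hx hw) fun v hv => ((A.facts_at x).W_comm v (hh hv) w hw).symm)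
  have hinter : ∀ w ∈ A.Wv x, w ∈ A.Qv y → w ∈ A.Zv x := by
    intro w hw hwQ
    obtain ⟨b, hb, hbQ⟩ := SetLike.not_le_iff_exists.1 hn'
    exact (A.facts_at x).fix b (hy hb) hbQ w hw ((A.facts_at y).W_comm w hwQ b hb).symm
  have hZQ : A.Zv x ≤ A.Qv y := fun z hz => (A.facts_at y).cent_S (hx ((A.facts_at x).Z_le hz))
    fun v hv => ((((A.facts_at x).mem_Z z).1 hz).2 v (hy hv)).symm
  refine ⟨hn', hinter, hZQ, ?_⟩
  have hset : ((A.Wv x : Subgroup Γ) : Set Γ) * ((A.Qv y : Subgroup Γ) : Set Γ) =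
      ((A.Sv y : Subgroup Γ) : Set Γ) := by
    refine Set.eq_of_subset_of_ncard_le ?_ ?_
    · rintro _ ⟨a, ha, b, hb, rfl⟩
      exact mul_mem (hx ha) ((A.facts_at y).Q_le hb)
    · rw [← Nat.card_coe_set_eq, ← Nat.card_coe_set_eq]
      simp only [SetLike.coe_sort_coe]
      have e := ChermakDelgado.card_mul_card_eq (A.Wv x) (A.Qv y)
      have hle : Nat.card ↥(A.Wv x ⊓ A.Qv y) ≤ Nat.card ↥(A.Zv x) :=
        card_le_of_le fun w hw => hinter w hw.1 hw.2
      have hle2 : Nat.card ↥(A.Wv y ⊓ A.Qv x) ≤ Nat.card ↥(A.Zv y) :=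
        card_le_of_le fun w hw => by
          obtain ⟨b, hb, hbQ⟩ := SetLike.not_le_iff_exists.1 hn
          exact (A.facts_at y).fix b (hx hb) hbQ w hw.1 ((A.facts_at x).W_comm w hw.2 b hb).symm
      have e2 := ChermakDelgado.card_mul_card_eq (A.Wv y) (A.Qv x)
      have hsub2 : Nat.card ↥((A.Wv y : Set Γ) * (A.Qv x : Set Γ)) ≤ Nat.card ↥(A.Sv x) :=
        Nat.card_mono (Set.toFinite _) (by
          rintro _ ⟨a, ha, b, hb, rfl⟩
          exact mul_mem (hy ha) ((A.facts_at x).Q_le hb))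
      have hoff := (A.facts_at x).card_off
      have hoff2 := (A.facts_at y).card_off
      simp only [card_cj] at e e2 hoff hoff2 hle hle2 hsub2 ⊢
      refine Nat.le_of_mul_le_mul_left ?_ (Nat.card_pos : 0 < Nat.card A.Z)
      have hWQ1 : Nat.card (A.W y.2) * Nat.card (A.Q x.2) ≤ Nat.card A.S * Nat.card A.Z :=
        e2.le.trans ((Nat.mul_le_mul hle2 hsub2).trans (mul_comm _ _).le)
      have hWQ2 : Nat.card A.S * Nat.card A.Z ≤ Nat.card (A.W x.2) * Nat.card (A.Q y.2) := by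
        refine Nat.le_of_mul_le_mul_left ?_
          (Nat.mul_pos (Nat.card_pos : 0 < Nat.card A.S) (Nat.card_pos : 0 < Nat.card A.Z))
        calc Nat.card A.S * Nat.card A.Z * (Nat.card A.S * Nat.card A.Z)
            = Nat.card (A.W y.2) * Nat.card (A.Q x.2) * (Nat.card (A.W x.2) * Nat.card (A.Q y.2)) := by
              conv_lhs => arg 2; rw [hoff2]
              rw [hoff]; ring
          _ ≤ _ := Nat.mul_le_mul_right _ hWQ1
      calc Nat.card A.Z * Nat.card A.S ≤ Nat.card (A.W x.2) * Nat.card (A.Q y.2) := by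
            rw [mul_comm]; exact hWQ2
        _ = _ := e
        _ ≤ _ := Nat.mul_le_mul_right _ hle
  intro s hs
  rw [← SetLike.mem_coe, ← hset] at hs
  obtain ⟨w, hw, q, hq, rfl⟩ := Set.mem_mul.1 hs
  exact ⟨w, hw, q, hq, rfl⟩

omit [Finite Γ] in
theorem near_of_steps {f : ℕ → A.Flag} {m : ℕ} (h : ∀ i < m, A.Step (f i) (f (i + 1))) {i j : ℕ}
    (hij : i ≤ j) (hj : j ≤ m) : A.Near (j - i) (f i) (f j) := by
  induction hij with
  | refl => simpa using Near.refl (f i)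
  | @step k hk ih =>
    have hk' : k < m := hj
    have h1 := (ih hk'.le).trans (Step.near A (h k hk'))
    have hk2 : i ≤ k := hk
    rwa [show k - i + 1 = k.succ - i by omega] at h1

omit [Finite Γ] in
theorem exists_steps {j : ℕ} {x y : A.Flag} (h : A.Near j x y) : ∃ f : ℕ → A.Flag, ∃ g ∈ A.G x.2,
    ∃ g' ∈ A.G y.2, f 0 = x * g ∧ f j = y * g' ∧ ∀ i < j, A.Step (f i) (f (i + 1)) := by
  induction h with
  | @zero x g hg =>
    exact ⟨fun _ => x * g, g, hg, 1, one_mem _, rfl, (flag_mul_one _).symm, by omega⟩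
  | @succ j x y k g _ hg ih =>
    obtain ⟨f, g1, hg1, g2, hg2, h0, hj, hs⟩ := ih
    refine ⟨fun i => if i ≤ j then f i else (y.1, k), g1, hg1, g⁻¹, inv_mem hg, by simp [h0],
      by simp [Prod.ext_iff], ?_⟩
    intro i hi
    rcases eq_or_lt_of_le (Nat.lt_succ_iff.1 hi) with rfl | hlt
    · simp only [le_refl, if_true, Nat.not_succ_le_self, if_false, hj]
      exact ⟨g2⁻¹, inv_mem hg2, by simp⟩
    · simp only [hlt.le, if_true, Nat.succ_le_of_lt hlt]
      exact hs i hlt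

/-- Extending a critical path across an opposite edge at a selected end. -/
theorem shift {f : ℕ → A.Flag} (hA : A.Critical) (hsel : A.sel (f A.crit).2)
    (hs : ∀ i < A.crit, A.Step (f i) (f (i + 1))) (hc : ¬ A.Wv (f 0) ≤ A.Qv (f A.crit))
    {g₀ : Γ} (hg₀ : g₀ ∈ A.G (f A.crit).2) (hg₀M : g₀ ∉ A.M (f A.crit).2) :
    ∃ k, A.sel k ∧ ¬ A.Wv ((f A.crit).1 * g₀, k) ≤ A.Qv (f 1) := by
  have hpos : 0 < A.crit := by have := A.two_le_crit hA; omega
  obtain ⟨m, hm⟩ : ∃ m, A.crit = m + 1 := ⟨_, (Nat.succ_pred_eq_of_pos hpos).symm⟩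
  set b := f A.crit with hb
  set e := b * g₀ with he
  by_contra hno
  push Not at hno
  obtain ⟨g, hg, hz⟩ := hs 0 hpos
  rw [zero_add] at hz
  set y := f 0 * g with hy
  have hSz : A.Sv (f 1) = A.Sv y := by simp [Sv, hy, hz]
  have hWy : A.Wv y = A.Wv (f 0) := A.Wv_mul hg
  have hb1 : A.Wv b ≤ A.Sv y := by
    have hn : A.Near m (f 1) b := by
      have := A.near_of_steps hs (i := 1) (j := A.crit) (by omega) le_rfl
      rw [hb]
      rwa [show A.crit - 1 = m by omega] at this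
    exact hSz ▸ (A.WQ hn.symm (by omega)).trans (A.facts_at (f 1)).Q_le
  have hy1 : A.Wv y ≤ A.Sv b := by
    obtain ⟨g', hg', hbe⟩ := hs m (by omega)
    have hn : A.Near m (f 0) (f m * g') :=
      (by simpa using A.near_of_steps hs (i := 0) (j := m) (by omega) (by omega) : A.Near m (f 0) (f m)).mul_right hg'
    rw [hWy, show A.Sv b = A.Sv (f m * g') by simp [Sv, hb, hm, hbe]]
    exact (A.WQ hn (by omega)).trans (A.facts_at _).Q_le
  have hcy : ¬ A.Wv y ≤ A.Qv b := hWy ▸ hc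
  obtain ⟨hnb, -, -, -⟩ := A.pair hy1 hb1 hcy
  obtain ⟨-, -, -, hsup⟩ := A.pair hb1 hy1 hnb
  have hVz : A.Vv e ≤ A.Sv y := by
    rw [Vv, cj, Subgroup.map_iSup]
    refine iSup_le fun j => ?_
    obtain ⟨k, hk, hWk, -⟩ := A.twin j
    rw [← hWk]
    exact hSz ▸ (hno k hk).trans (A.facts_at (f 1)).Q_le
  have hWb : A.Wv b ≤ A.Vv e := (A.Wv_mul (x := b) hg₀).symm.le.trans (A.W_le_V e)
  refine A.moves_at (x := e) hsel ?_
  rw [he, A.Gv_mul hg₀]
  obtain ⟨c, hcW, hcQ⟩ := SetLike.not_le_iff_exists.1 hcy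
  rw [← A.gen_at hg₀ hg₀M (hy1 hcW) hcQ]
  refine sup_le (normalizer_cj A.S_norm_V) (zpowers_le.2 ?_)
  refine mem_normalizer_fintype fun v hv => ?_
  obtain ⟨w, hw, q, hq, rfl⟩ := hsup v (hVz hv)
  have h1 : q * c = c * q := (A.facts_at y).W_comm q hq c hcW
  have h2 : c * w * c⁻¹ ∈ A.Wv b :=
    (mem_normalizer_iff.1 ((A.facts_at b).G_norm_W ((A.facts_at b).S_le (hy1 hcW))) w).1 hw
  have h3 : c * q * c⁻¹ = q := by rw [← h1]; group
  have e' : c * (w * q) * c⁻¹ = c * w * c⁻¹ * w⁻¹ * (w * q) := by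
    calc c * (w * q) * c⁻¹ = c * w * c⁻¹ * (c * q * c⁻¹) := by group
      _ = c * w * c⁻¹ * q := by rw [h3]
      _ = _ := by group
  show c * (w * q) * c⁻¹ ∈ (A.Vv e : Set Γ)
  rw [e']
  exact mul_mem (mul_mem (hWb h2) (inv_mem (hWb hw))) hv

end Fam

end Cfsg.Agent.PushFamily
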