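import Mathlib
import Cfsg.Agent.Lib.PushFamPath

/-!
Pushing up, uniform version: windows on a critical path through selected vertices, all steps opposite.
-/

set_option autoImplicit false
set_option linter.unusedSectionVars false

namespace Cfsg.Agent.PushFamily

open Subgroup
open Cfsg.Agent.PushAmalgam
open scoped commutatorElement

universe u

variable {Γ : Type u} [Group Γ] [Finite Γ] {p : ℕ}

/-- Consecutive left flags `b 0, …, b L` of a path through selected vertices with opposite edges at each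
vertex and critical pairs at distance `crit`. -/
structure Win (A : Fam Γ p) where
  g : A.ι → Γ
  g_mem : ∀ k, g k ∈ A.G k
  g_out : ∀ k, g k ∉ A.M k
  L : ℕ
  b : ℕ → A.Flag
  hA : A.Critical
  sel : ∀ i ≤ L, A.sel (b i).2
  step : ∀ i < L, (b (i + 1)).1 = (b i).1 * g (b i).2
  critical : ∀ i, i + A.crit ≤ L → ¬ A.Wv (b i) ≤ A.Qv (b (i + A.crit))

theorem Fam.exists_win (A : Fam Γ p) (hA : A.Critical) (L : ℕ) : ∃ w : Win A, w.L = L := by
  classical
  have hpos : 0 < A.crit := by have := A.two_le_crit hA; omega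
  choose g₀ hg₀ hg₀M using fun k => (A.facts k).out
  let State := {f : ℕ → A.Flag // (∀ i < A.crit, A.Step (f i) (f (i + 1))) ∧
    ¬ A.Wv (f 0) ≤ A.Qv (f A.crit) ∧ A.sel (f A.crit).2}
  have h0 : Nonempty State := by
    obtain ⟨x, y, h, hh⟩ := A.crit_spec hA
    obtain ⟨f, g, hg, g', hg', hf0, hfn, hs⟩ := A.exists_steps h
    obtain ⟨j, hj, -, hQj⟩ := A.twin (f A.crit).2
    refine ⟨⟨fun i => if i < A.crit then f i else ((f A.crit).1, j), fun i hi => ?_, ?_, ?_⟩⟩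
    · simp only [if_pos hi]
      split_ifs with h1
      · exact hs i hi
      · obtain ⟨g1, hg1, he⟩ := hs i hi
        refine ⟨g1, hg1, ?_⟩
        rw [← he, show i + 1 = A.crit by omega]
    · simp only [if_pos hpos, lt_irrefl, if_false]
      show ¬ A.Wv (f 0) ≤ cj (f A.crit).1 (A.Q j)
      rw [hQj, hf0, A.Wv_mul hg]
      show ¬ A.Wv x ≤ A.Qv (f A.crit)
      rw [hfn, A.Qv_mul hg']; exact hh
    · simp only [lt_irrefl, if_false]; exact hj
  have hnext : ∀ s : State, ∃ t : State, (∀ i < A.crit, t.1 i = s.1 (i + 1)) ∧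
      (t.1 A.crit).1 = (s.1 A.crit).1 * g₀ (s.1 A.crit).2 := by
    intro s
    obtain ⟨k, hk, hc⟩ := A.shift hA s.2.2.2 s.2.1 s.2.2.1 (hg₀ _) (hg₀M _)
    set f' : ℕ → A.Flag := fun i =>
      if i < A.crit then s.1 (i + 1) else ((s.1 A.crit).1 * g₀ (s.1 A.crit).2, k) with hf'
    have hs' : ∀ i < A.crit, A.Step (f' i) (f' (i + 1)) := by
      intro i hi
      simp only [hf', if_pos hi]
      split_ifs with h1
      · exact s.2.1 (i + 1) h1
      · rw [show i + 1 = A.crit by omega]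
        exact ⟨g₀ _, hg₀ _, rfl⟩
    have hn : f' A.crit = ((s.1 A.crit).1 * g₀ (s.1 A.crit).2, k) := by simp [hf']
    have h0' : f' 0 = s.1 1 := by simp [hf', hpos]
    have hnear : A.Near A.crit (f' 0) (f' A.crit) := by
      simpa using A.near_of_steps hs' (Nat.zero_le A.crit) le_rfl
    have hcrit : ¬ A.Wv (f' 0) ≤ A.Qv (f' A.crit) := by
      intro hle
      -- the reversed pair is critical
      obtain ⟨m, hm⟩ : ∃ m, A.crit = m + 1 := ⟨_, (Nat.succ_pred_eq_of_pos hpos).symm⟩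
      obtain ⟨g, hg, he⟩ := hs' 0 hpos
      obtain ⟨w, hw, hwQ⟩ := SetLike.not_le_iff_exists.1 hc
      have h1 : A.Near m (f' A.crit) (f' 1) := by
        have := A.near_of_steps hs' (i := 1) (j := A.crit) (by omega) le_rfl
        rw [show A.crit - 1 = m by omega] at this
        exact this.symm
      have hwS : w ∈ A.Sv (f' 0 * g) := by
        have h2 := (A.facts_at (f' 1)).Q_le (A.WQ h1 (by omega) (hn.symm ▸ hw))
        rw [zero_add] at he
        simpa [Fam.Sv, he] using h2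
      refine hwQ ?_
      rw [← h0', ← A.Qv_mul hg]
      refine (A.facts_at (f' 0 * g)).cent_S hwS fun v hv => ?_
      rw [A.Wv_mul hg] at hv
      exact ((A.facts_at (f' A.crit)).W_comm v (hle hv) w (hn.symm ▸ hw)).symm
    exact ⟨⟨f', hs', hcrit, by rw [hn]; exact hk⟩, fun i hi => by simp [hf', hi], congrArg Prod.fst hn⟩
  choose next hn1 hn2 using hnext
  obtain ⟨s0⟩ := h0
  let seq : ℕ → State := fun k => Nat.rec s0 (fun _ s => next s) k
  have hseq : ∀ i ≤ A.crit, ∀ k, (seq k).1 i = (seq (k + i)).1 0 := by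
    intro i
    induction i with
    | zero => intro _ k; rfl
    | succ i ih =>
      intro hi k
      rw [← hn1 (seq k) i (by omega), show k + (i + 1) = k + 1 + i by omega]
      exact ih (by omega) (k + 1)
  refine ⟨{ g := g₀, g_mem := hg₀, g_out := hg₀M, L := L, hA := hA
            b := fun i => (seq (i + A.crit)).1 0
            sel := fun i _ => ?_, step := fun i _ => ?_, critical := fun i _ => ?_ }, rfl⟩
  · show A.sel ((seq (i + A.crit)).1 0).2
    rw [← hseq A.crit le_rfl i]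
    exact (seq i).2.2.2
  · show ((seq (i + 1 + A.crit)).1 0).1 = ((seq (i + A.crit)).1 0).1 * g₀ ((seq (i + A.crit)).1 0).2
    rw [← hseq A.crit le_rfl (i + 1), ← hseq A.crit le_rfl i]
    exact hn2 (seq i)
  · show ¬ A.Wv ((seq (i + A.crit)).1 0) ≤ A.Qv ((seq (i + A.crit + A.crit)).1 0)
    rw [← hseq A.crit le_rfl (i + A.crit)]
    exact (seq (i + A.crit)).2.2.1

namespace Win

variable {A : Fam Γ p} (w : Win A)

theorem two_le (v : Win A) : 2 ≤ A.crit := A.two_le_crit v.hA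

theorem pos (v : Win A) : 0 < A.crit := by have := v.two_le; omega

/-- The group at vertex `i`. -/
abbrev G (i : ℕ) : Subgroup Γ := A.Gv (w.b i)
/-- The edge between the vertices `i - 1` and `i`. -/
abbrev S (i : ℕ) : Subgroup Γ := A.Sv (w.b i)
/-- `Z` of that edge. -/
abbrev Z (i : ℕ) : Subgroup Γ := A.Zv (w.b i)
/-- `O_p` at vertex `i`. -/
abbrev Q (i : ℕ) : Subgroup Γ := A.Qv (w.b i)
/-- `W` at vertex `i`. -/
abbrev W (i : ℕ) : Subgroup Γ := A.Wv (w.b i)
/-- `C` at vertex `i`. -/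
abbrev C (i : ℕ) : Subgroup Γ := A.Cv (w.b i)
/-- The element carrying the left edge of vertex `i` to the right one. -/
abbrev opp (i : ℕ) : Γ := w.g (w.b i).2

theorem opp_mem (i : ℕ) : w.opp i ∈ A.G (w.b i).2 := w.g_mem _

theorem opp_out (i : ℕ) : w.opp i ∉ A.M (w.b i).2 := w.g_out _

theorem S_succ {i : ℕ} (hi : i < w.L) : w.S (i + 1) = A.Sv (w.b i * w.opp i) :=
  congrArg (fun t => cj t A.S) (w.step i hi)

theorem Z_succ {i : ℕ} (hi : i < w.L) : w.Z (i + 1) = A.Zv (w.b i * w.opp i) :=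
  congrArg (fun t => cj t A.Z) (w.step i hi)

theorem facts (i : ℕ) :
    Facts p (w.G i) (w.S i) (A.Mv (w.b i)) (w.Q i) (w.W i) (w.Z i) (w.C i) := A.facts_at (w.b i)

theorem facts_right {i : ℕ} (hi : i < w.L) :
    Facts p (w.G i) (w.S (i + 1)) (A.Mv (w.b i * w.opp i)) (w.Q i) (w.W i) (w.Z (i + 1)) (w.C i) := by
  have h := A.facts_at (w.b i * w.opp i)
  rwa [A.Gv_mul (w.opp_mem i), A.Qv_mul (w.opp_mem i), A.Wv_mul (w.opp_mem i), A.Cv_mul (w.opp_mem i),
    ← w.S_succ hi, ← w.Z_succ hi] at h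

theorem gen_left {i : ℕ} (hi : i < w.L) {c : Γ} (hc : c ∈ w.S i) (hcQ : c ∉ w.Q i) :
    w.S (i + 1) ⊔ zpowers c = w.G i := by
  rw [w.S_succ hi]; exact A.gen_at (w.opp_mem i) (w.opp_out i) hc hcQ

theorem ginv_out (k : A.ι) : (w.g k)⁻¹ ∉ A.M k := fun h =>
  w.g_out k (inv_inv (w.g k) ▸ (A.M k).inv_mem h)

theorem gen_right {i : ℕ} (hi : i < w.L) {c : Γ} (hc : c ∈ w.S (i + 1)) (hcQ : c ∉ w.Q i) :
    w.S i ⊔ zpowers c = w.G i := by
  rw [w.S_succ hi] at hc
  have h := A.gen_at (x := w.b i * w.opp i) (inv_mem (w.opp_mem i)) (w.ginv_out _) hc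
    (by rwa [A.Qv_mul (w.opp_mem i)])
  rwa [flag_mul_inv_cancel, A.Gv_mul (w.opp_mem i)] at h

theorem W_eq {i : ℕ} (hi : i < w.L) {x : Γ} (hx : x ∈ w.W i) :
    ∃ u ∈ w.Z i, ∃ v ∈ w.Z (i + 1), x = u * v := by
  rw [w.Z_succ hi]; exact A.dec_at (w.opp_mem i) (w.opp_out i) hx

theorem Z_inter {i : ℕ} (hi : i < w.L) : w.Z i ⊓ w.Z (i + 1) = w.C i := by
  rw [w.Z_succ hi]; exact A.inter_at (w.opp_mem i) (w.opp_out i)

theorem near {i j : ℕ} (hij : i ≤ j) (hj : j ≤ w.L) : A.Near (j - i) (w.b i) (w.b j) :=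
  A.near_of_steps (fun k hk => ⟨w.opp k, w.opp_mem k, w.step k hk⟩) hij hj

theorem WQ {i j : ℕ} (hi : i ≤ w.L) (hj : j ≤ w.L) (h₁ : i < j + A.crit) (h₂ : j < i + A.crit) :
    w.W i ≤ w.Q j := by
  rcases le_total i j with h | h
  · exact A.WQ (w.near h hj) (by omega)
  · exact A.WQ (w.near h hi).symm (by omega)

theorem W_comm {i j : ℕ} (hi : i ≤ w.L) (hj : j ≤ w.L) (h₁ : i < j + A.crit) (h₂ : j < i + A.crit)
    {u v : Γ} (hu : u ∈ w.W i) (hv : v ∈ w.W j) : u * v = v * u :=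
  (w.facts j).W_comm u (w.WQ hi hj h₁ h₂ hu) v hv

theorem Q_le_S {i : ℕ} (hi : i < w.L) : w.Q i ≤ w.S (i + 1) := (w.facts_right hi).Q_le

theorem W_le_far_left {i : ℕ} (h : i + A.crit ≤ w.L) : w.W (i + A.crit) ≤ w.S (i + 1) := by
  have hpos := w.pos
  exact (w.WQ h (j := i + 1) (by omega) (by omega) (by omega)).trans (w.facts (i + 1)).Q_le

theorem W_le_far_right {i : ℕ} (h : i + A.crit ≤ w.L) : w.W i ≤ w.S (i + A.crit) := by
  obtain ⟨m, hm⟩ : ∃ m, A.crit = m + 1 := ⟨_, (Nat.succ_pred_eq_of_pos w.pos).symm⟩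
  rw [show i + A.crit = i + m + 1 by omega]
  exact (w.WQ (j := i + m) (by omega) (by omega) (by omega) (by omega)).trans (w.Q_le_S (by omega))

theorem pairs {i : ℕ} (h : i + A.crit ≤ w.L) :
    (∀ x ∈ w.W i, x ∈ w.Q (i + A.crit) → x ∈ w.Z (i + 1)) ∧
    (∀ x ∈ w.W (i + A.crit), x ∈ w.Q i → x ∈ w.Z (i + A.crit)) ∧
    (∀ s ∈ w.S (i + A.crit), ∃ x ∈ w.W i, ∃ q ∈ w.Q (i + A.crit), s = x * q) ∧
    (∀ s ∈ w.S (i + 1), ∃ x ∈ w.W (i + A.crit), ∃ q ∈ w.Q i, s = x * q) ∧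
    ¬ w.W (i + A.crit) ≤ w.Q i ∧ w.Z (i + 1) ≤ w.Q (i + A.crit) ∧ w.Z (i + A.crit) ≤ w.Q i := by
  have hi : i < w.L := by have := w.pos; omega
  set x := w.b i * w.opp i with hx
  set y := w.b (i + A.crit) with hy
  have hWx : A.Wv x = w.W i := A.Wv_mul (w.opp_mem i)
  have hQx : A.Qv x = w.Q i := A.Qv_mul (w.opp_mem i)
  have hSx : A.Sv x = w.S (i + 1) := (w.S_succ hi).symm
  have hZx : A.Zv x = w.Z (i + 1) := (w.Z_succ hi).symm
  have h1 : A.Wv x ≤ A.Sv y := hWx ▸ w.W_le_far_right h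
  have h2 : A.Wv y ≤ A.Sv x := hSx ▸ w.W_le_far_left h
  have hc : ¬ A.Wv x ≤ A.Qv y := hWx ▸ w.critical i h
  obtain ⟨hn, a1, a2, a3⟩ := A.pair h1 h2 hc
  obtain ⟨-, b1, b2, b3⟩ := A.pair h2 h1 hn
  rw [hWx, hZx] at a1
  rw [hZx] at a2
  rw [hWx] at a3
  rw [hQx] at b1 b2 b3 hn
  rw [hSx] at b3
  exact ⟨a1, b1, a3, b3, hn, a2, b2⟩

/-- The window read backwards. -/
def rev : Win A where
  g k := (w.g k)⁻¹
  g_mem k := inv_mem (w.g_mem k)
  g_out k := w.ginv_out k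
  L := w.L
  b i := w.b (w.L - i) * w.opp (w.L - i)
  hA := w.hA
  sel i _ := w.sel (w.L - i) (by omega)
  step i hi := by
    have he := w.step (w.L - (i + 1)) (by omega)
    rw [show w.L - (i + 1) + 1 = w.L - i by omega] at he
    simp only [flag_mul_fst, flag_mul_snd]
    rw [mul_inv_cancel_right]
    exact he.symm
  critical i h := by
    rw [A.Wv_mul (w.opp_mem _), A.Qv_mul (w.opp_mem _)]
    have h' := (w.pairs (i := w.L - (i + A.crit)) (by omega)).2.2.2.2.1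
    rwa [show w.L - (i + A.crit) + A.crit = w.L - i by omega] at h'

theorem rev_G {i j : ℕ} (h : i + j = w.L) : w.rev.G i = w.G j := by
  show A.Gv (w.b (w.L - i) * w.opp (w.L - i)) = _
  rw [A.Gv_mul (w.opp_mem _), show w.L - i = j by omega]

theorem rev_Q {i j : ℕ} (h : i + j = w.L) : w.rev.Q i = w.Q j := by
  show A.Qv (w.b (w.L - i) * w.opp (w.L - i)) = _
  rw [A.Qv_mul (w.opp_mem _), show w.L - i = j by omega]

theorem rev_W {i j : ℕ} (h : i + j = w.L) : w.rev.W i = w.W j := by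
  show A.Wv (w.b (w.L - i) * w.opp (w.L - i)) = _
  rw [A.Wv_mul (w.opp_mem _), show w.L - i = j by omega]

theorem rev_C {i j : ℕ} (h : i + j = w.L) : w.rev.C i = w.C j := by
  show A.Cv (w.b (w.L - i) * w.opp (w.L - i)) = _
  rw [A.Cv_mul (w.opp_mem _), show w.L - i = j by omega]

theorem rev_S {i j : ℕ} (h : i + j = w.L) (hj : j < w.L) : w.rev.S i = w.S (j + 1) := by
  show A.Sv (w.b (w.L - i) * w.opp (w.L - i)) = _
  rw [show w.L - i = j by omega, ← w.S_succ hj]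

theorem rev_Z {i j : ℕ} (h : i + j = w.L) (hj : j < w.L) : w.rev.Z i = w.Z (j + 1) := by
  show A.Zv (w.b (w.L - i) * w.opp (w.L - i)) = _
  rw [show w.L - i = j by omega, ← w.Z_succ hj]

end Win

end Cfsg.Agent.PushFamily
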