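import Mathlib
import Cfsg.Agent.Lib.PushFamWindow
import Cfsg.Agent.Lib.PushAmalgamHigh

/-!
Pushing up, uniform version: the critical distance is two.
-/

set_option autoImplicit false
set_option linter.unusedSectionVars false

namespace Cfsg.Agent.PushFamily

open Subgroup
open Cfsg.Agent.PushAmalgam
open scoped commutatorElement

universe u

variable {Γ : Type u} [Group Γ] [Finite Γ] {p : ℕ}

namespace Fam

variable (A : Fam Γ p)

/-- The subgroup generated by the `W` of the vertices next to `x`. -/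
def U (x : A.Flag) : Subgroup Γ := ⨆ y : {y : A.Flag // A.Near 1 x y}, A.Wv (y : A.Flag)

omit [Finite Γ] in
theorem Wv_le_U {x y : A.Flag} (h : A.Near 1 x y) : A.Wv y ≤ A.U x :=
  le_iSup (fun y : {y : A.Flag // A.Near 1 x y} => A.Wv (y : A.Flag)) ⟨y, h⟩

theorem U_normal (x : A.Flag) : A.Gv x ≤ normalizer (A.U x : Set Γ) := by
  refine le_normalizer_of_conj_mem fun g hg u hu => ?_
  have hle : cj g (A.U x) ≤ A.U x := by
    rw [U, cj, Subgroup.map_iSup]
    refine iSup_le ?_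
    rintro ⟨y, hy⟩
    have h1 : A.Near 0 x (g * x) := by
      have e : g * x = ((x.1 * (x.1⁻¹ * g * x.1), x.2) : A.Flag) := Prod.ext (by simp [mul_assoc]) rfl
      rw [e]
      exact Near.zero (A := A) (x := x) (mem_cj.1 hg)
    exact le_trans (le_of_eq (cj_mul g y.1 (A.W y.2)).symm)
      (A.Wv_le_U (y := g * y) (by simpa using h1.trans (hy.translate g)))
  exact hle (conj_mem_cj hu)

theorem U_le_Q {j : ℕ} {x z : A.Flag} (h : A.Near j x z) (hj : j + 1 < A.crit) : A.U x ≤ A.Qv z :=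
  iSup_le fun ⟨_, hy⟩ => A.WQ (hy.symm.trans h) (by omega)

theorem U_le_S (h2 : 2 ≤ A.crit) (x : A.Flag) : A.U x ≤ A.Sv x :=
  (A.U_le_Q (Near.refl x) (by omega)).trans (A.facts_at x).Q_le

theorem U_comm {x : A.Flag} (h2 : 2 ≤ A.crit) {u : Γ} (hu : u ∈ A.U x) {q : Γ} (hq : q ∈ A.Qv x) :
    ⁅u, q⁆ ∈ A.Wv x := by
  have hle : A.U x ≤ comSub (A.Gv x) (A.Wv x) (A.Qv x : Set Γ) (A.facts_at x).G_norm_W := by
    refine iSup_le ?_
    rintro ⟨y, hy⟩ w hw
    refine ⟨(A.facts_at x).S_le (A.U_le_S h2 x (A.Wv_le_U hy hw)), fun q hq => ?_⟩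
    obtain ⟨f, g, hg, g', hg', h0, h1, hs⟩ := A.exists_steps hy
    obtain ⟨g₁, hg₁, he⟩ := hs 0 one_pos
    rw [zero_add, h1, h0] at he
    rw [← A.Wv_mul hg'] at hw
    have hgg : g * g₁ ∈ A.G x.2 := mul_mem hg (by simpa [h0] using hg₁)
    set e := x * (g * g₁) with hE
    have hey : (y * g').1 = e.1 := by simp [hE, he, mul_assoc]
    have hq' : q ∈ A.Sv e := (A.facts_at e).Q_le ((A.Qv_mul hgg).symm ▸ hq)
    have h3 := (A.facts_at (y * g')).quad q (by simpa [Fam.Sv, hey] using hq') w hw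
    have h4 : ⁅w, q⁆ ∈ A.Zv e := by simpa [Fam.Zv, hey] using h3
    exact (A.Wv_mul hgg) ▸ (A.facts_at e).Z_le h4
  exact (hle hu).2 q hq

end Fam

namespace Win

variable {A : Fam Γ p} (w : Win A)

/-- `[W_i, W_{i+n}]` is centralized by the group at the vertex `i + 1`. -/
theorem comm_mem_C_left {i : ℕ} (h2 : 2 ≤ A.crit) (h : i + A.crit + 1 ≤ w.L) {x y : Γ} (hx : x ∈ w.W i)
    (hy : y ∈ w.W (i + A.crit)) : ⁅x, y⁆ ∈ w.C (i + 1) ∧ ⁅x, y⁆ ∈ w.W i ∧ ⁅x, y⁆ ∈ w.W (i + A.crit) := by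
  have hz1 : ⁅x, y⁆ ∈ w.Z (i + 1) := (w.facts_right (by omega)).quad y (w.W_le_far_left (by omega) hy) x hx
  have hzn : ⁅x, y⁆ ∈ w.Z (i + A.crit) :=
    comm_symm_mem ((w.facts _).quad x (w.W_le_far_right (by omega) hx) y hy)
  have hWn := (w.facts _).Z_le hzn
  refine ⟨((w.facts (i + 1)).mem_C _).2 ⟨(w.facts (i + 1)).Z_le hz1, fun g hg => ?_⟩,
    (w.facts_right (by omega)).Z_le hz1, hWn⟩
  obtain ⟨-, -, -, -, hn, -, -⟩ := w.pairs (i := i + 1) (by omega)
  obtain ⟨c, hc, hcQ⟩ := SetLike.not_le_iff_exists.1 hn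
  have hc2 : c ∈ w.S (i + 1 + 1) := w.W_le_far_left (by omega) hc
  rw [← w.gen_right (i := i + 1) (by omega) hc2 hcQ] at hg
  have hle : w.S (i + 1) ⊔ zpowers c ≤ centralizer {⁅x, y⁆} := sup_le
    (fun s hs => mem_centralizer_singleton_iff.2 (((w.facts (i + 1)).mem_Z _).1 hz1 |>.2 s hs))
    (zpowers_le.2 (mem_centralizer_singleton_iff.2
      (w.W_comm (by omega) (by omega) (by omega) (by omega) hc hWn)))
  exact mem_centralizer_singleton_iff.1 (hle hg)

/-- The same on the other side. -/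
theorem comm_mem_C_right {i : ℕ} (h2 : 2 ≤ A.crit) (hi : 1 ≤ i) (h : i + A.crit ≤ w.L) {x y : Γ}
    (hx : x ∈ w.W i) (hy : y ∈ w.W (i + A.crit)) : ⁅x, y⁆ ∈ w.C (i + A.crit - 1) := by
  have e : w.rev.L = w.L := rfl
  have hlt : w.L - (i + A.crit) + A.crit + 1 ≤ w.rev.L := by rw [e]; omega
  have := (w.rev.comm_mem_C_left h2 (i := w.L - (i + A.crit)) hlt
    (x := y) (y := x) (by rw [w.rev_W (j := i + A.crit) (by omega)]; exact hy)
    (by rw [w.rev_W (j := i) (by omega)]; exact hx)).1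
  rw [w.rev_C (j := i + A.crit - 1) (by omega)] at this
  exact comm_symm_mem this

theorem comm_WQ {i : ℕ} (h2 : 2 ≤ A.crit) (h : i + A.crit + 1 ≤ w.L) {x q : Γ} (hx : x ∈ w.W i)
    (hq : q ∈ w.Q (i + 1)) : ⁅x, q⁆ ∈ w.C (i + 1) ∧ ⁅x, q⁆ ∈ w.W i ∧ ⁅x, q⁆ ∈ w.W (i + A.crit) := by
  obtain ⟨-, -, -, hsup, -, -, -⟩ := w.pairs (i := i) (by omega)
  obtain ⟨y, hy, c, hc, rfl⟩ := hsup q ((w.facts (i + 1)).Q_le hq)
  rw [comm_mul_right_of_commute (((w.facts i).W_comm c hc x hx).symm)]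
  exact w.comm_mem_C_left h2 h hx hy

theorem conj_edge {i : ℕ} (hi : i < w.L) : ∃ t ∈ w.G i, ∀ s ∈ w.S i, t * s * t⁻¹ ∈ w.S (i + 1) := by
  refine ⟨(w.b i).1 * w.opp i * (w.b i).1⁻¹, conj_mem_cj (w.opp_mem i), fun s hs => ?_⟩
  rw [w.S_succ hi, mem_cj, flag_mul_fst]
  have := mem_cj.1 hs
  convert this using 1
  group

/-- `G` centralizing `U` modulo `W` is impossible. -/
theorem not_central {i : ℕ} (h2 : 2 ≤ A.crit) (hi : i < w.L)
    (hc : ∀ u ∈ A.U (w.b i), ∀ g ∈ w.G i, ⁅g, u⁆ ∈ w.W i) : False := by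
  set x := w.b i with hx
  have hVU : A.Vv x ≤ A.U x := by
    rw [Fam.Vv, cj, Subgroup.map_iSup]
    exact iSup_le fun k => A.Wv_le_U ((Fam.Near.refl x).to_edge k)
  refine A.moves_at (w.sel i hi.le) (le_normalizer_of_conj_mem fun g hg v hv => ?_)
  have h1 := A.W_le_V x (hc v (hVU hv) g hg)
  have h3 := mul_mem h1 hv
  rw [commutatorElement_def, inv_mul_cancel_right] at h3
  exact h3

/-- `W_i` is not centralized modulo `W_{i+1}` by the far edge at the vertex `i + 1`. -/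
theorem exists_moved {i : ℕ} (h2 : 2 ≤ A.crit) (h : i + A.crit + 1 ≤ w.L) :
    ∃ x ∈ w.W i, ∃ s ∈ w.S (i + 2), ⁅x, s⁆ ∉ w.W (i + 1) := by
  by_contra hno
  push Not at hno
  set x₀ := w.b (i + 1) with hx₀
  have hUW : w.W i ≤ A.U x₀ := A.Wv_le_U (by
    have := (w.near (i := i) (j := i + 1) (by omega) (by omega)).symm
    simpa using this)
  have hUS : A.U x₀ ≤ w.S (i + A.crit) := by
    obtain ⟨m, hm⟩ : ∃ m, A.crit = m + 2 := ⟨A.crit - 2, by omega⟩
    have := w.near (i := i + 1) (j := i + 1 + m) (by omega) (by omega)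
    rw [Nat.add_sub_cancel_left] at this
    refine (A.U_le_Q this (by omega)).trans ?_
    rw [show i + A.crit = i + 1 + m + 1 by omega]
    exact w.Q_le_S (by omega)
  have hfar : ∀ u ∈ A.U x₀, ∀ s ∈ w.S (i + 2), ⁅u, s⁆ ∈ w.W (i + 1) := by
    intro u hu s hs
    obtain ⟨-, -, hsup, -⟩ := w.pairs (i := i) (by omega)
    obtain ⟨x, hx, y, hy, rfl⟩ := hsup u (hUS hu)
    have hyU : y ∈ A.U x₀ := by simpa using mul_mem (inv_mem (hUW hx)) hu
    obtain ⟨-, -, hsup1, hsup2, -⟩ := w.pairs (i := i + 1) (by omega)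
    have hy' : ⁅y, s⁆ ∈ w.W (i + 1) := by
      obtain ⟨c, hc, q, hq, rfl⟩ := hsup2 s hs
      obtain ⟨x1, hx1, y', hy', rfl⟩ := hsup1 y (by
        rw [show i + 1 + A.crit = i + A.crit + 1 by omega]; exact w.Q_le_S (by omega) hy)
      have hcG : c ∈ w.G (i + 1) := by
        have := (w.facts_right (i := i + 1) (by omega)).S_le
        exact this (w.W_le_far_left (by omega) hc)
      rw [show ⁅x1 * y', c * q⁆ = ⁅x1 * y', c⁆ * (c * ⁅x1 * y', q⁆ * c⁻¹) by
        simp only [commutatorElement_def]; group]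
      refine mul_mem ?_ ((mem_normalizer_iff.1 ((w.facts _).G_norm_W hcG) _).1 (A.U_comm h2 hyU hq))
      rw [comm_mul_left_of_commute ((w.facts _).W_comm y' hy' c hc)]
      exact mul_mem hx1 ((mem_normalizer_iff.1 ((w.facts _).G_norm_W hcG) _).1 (inv_mem hx1)) |>
        fun h => by simpa [commutatorElement_def, mul_assoc] using h
    rw [show ⁅x * y, s⁆ = x * ⁅y, s⁆ * x⁻¹ * ⁅x, s⁆ by simp only [commutatorElement_def]; group]
    refine mul_mem ((mem_normalizer_iff.1 ((w.facts (i + 1)).G_norm_W ?_) _).1 hy') (hno x hx s hs)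
    exact (w.facts (i + 1)).S_le (A.U_le_S h2 x₀ (hUW hx))
  refine w.not_central (i := i + 1) h2 (by omega) fun u hu g hg => ?_
  obtain ⟨c, hc, hcQ⟩ : ∃ c ∈ w.S (i + 1 + 1), c ∉ w.Q (i + 1) := by
    obtain ⟨-, -, -, -, hn, -, -⟩ := w.pairs (i := i + 1) (by omega)
    obtain ⟨c, hc, hcQ⟩ := SetLike.not_le_iff_exists.1 hn
    exact ⟨c, w.W_le_far_left (by omega) hc, hcQ⟩
  rw [← w.gen_right (i := i + 1) (by omega) hc hcQ] at hg
  have hle : w.S (i + 1) ⊔ zpowers c ≤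
      comSub (w.G (i + 1)) (w.W (i + 1)) (A.U x₀ : Set Γ) (w.facts _).G_norm_W := by
    refine sup_le (fun s hs => ⟨(w.facts _).S_le hs, fun v hv => ?_⟩)
      (zpowers_le.2 ⟨(w.facts_right (by omega)).S_le hc, fun v hv => comm_symm_mem (hfar v hv c hc)⟩)
    obtain ⟨t, ht, hts⟩ := w.conj_edge (i := i + 1) (by omega)
    have h1 := comm_symm_mem (hfar _ ((mem_normalizer_iff.1 (A.U_normal x₀ ht) v).1 hv) _ (hts s hs))
    rw [← conj_comm] at h1
    exact (mem_normalizer_iff.1 ((w.facts _).G_norm_W ht) _).2 h1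
  exact (hle hg).2 u hu

end Win

/-- The critical distance is at most two. -/
theorem Fam.crit_le_two (A : Fam Γ p) (hA : A.Critical) : A.crit ≤ 2 := by
  by_contra hlt
  push Not at hlt
  obtain ⟨n, hn⟩ : ∃ n, n = A.crit := ⟨_, rfl⟩
  obtain ⟨w, hw⟩ := A.exists_win hA (2 * n + 1)
  set E : Subgroup Γ := closure {x | ∃ g ∈ w.G n, ∃ v ∈ w.W (n - 1), g * v * g⁻¹ = x} with hE
  set X : Subgroup Γ := w.C n ⊓ w.W (n - 1) ⊓ w.W (2 * n - 1) with hX
  have hXn : w.G n ≤ normalizer (X : Set Γ) := le_normalizer_of_conj_mem fun g hg x hx => by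
    rwa [(w.facts n).C_comm hx.1.1 hg, mul_inv_cancel_right]
  have hE1 : E ≤ comSub (w.G n) X (w.Q n : Set Γ) hXn := by
    rw [hE, closure_le]
    rintro _ ⟨g, hg, v, hv, rfl⟩
    have hvn : v ∈ w.G n := by
      have := (w.WQ (i := n - 1) (j := n) (by omega) (by omega) (by omega) (by omega)) hv
      exact (w.facts n).Q_le_G this
    refine ⟨mul_mem (mul_mem hg hvn) (inv_mem hg), fun q hq => ?_⟩
    have hq' : g⁻¹ * q * g ∈ w.Q n := by
      simpa using (mem_normalizer_iff.1 ((w.facts n).G_norm_Q (inv_mem hg)) q).1 hq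
    obtain ⟨a1, a2, a3⟩ := w.comm_WQ (i := n - 1) (by omega) (by omega) hv
      (show g⁻¹ * q * g ∈ w.Q (n - 1 + 1) by rw [show n - 1 + 1 = n by omega]; exact hq')
    rw [show n - 1 + 1 = n by omega] at a1
    rw [show n - 1 + A.crit = 2 * n - 1 by omega] at a3
    have e : ⁅g * v * g⁻¹, q⁆ = g * ⁅v, g⁻¹ * q * g⁆ * g⁻¹ := by
      simp only [commutatorElement_def]; group
    rw [e, (w.facts n).C_comm a1 hg, mul_inv_cancel_right]
    exact ⟨⟨a1, a2⟩, a3⟩
  have hEU : E ≤ A.U (w.b n) := by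
    rw [hE, closure_le]
    rintro _ ⟨g, hg, v, hv, rfl⟩
    refine (mem_normalizer_iff.1 (A.U_normal _ hg) v).1 (A.Wv_le_U ?_ hv)
    have := (w.near (i := n - 1) (j := n) (by omega) (by omega)).symm
    rwa [show n - (n - 1) = 1 by omega] at this
  have hE2 : E ≤ w.Q 2 := hEU.trans (by
    have := (w.near (i := 2) (j := n) (by omega) (by omega)).symm
    exact A.U_le_Q this (by omega))
  have hEn : w.G n ≤ normalizer (E : Set Γ) := le_normalizer_of_conj_mem fun g hg x hx => by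
    have hle : cj g E ≤ E := by
      rw [hE, cj, MonoidHom.map_closure, closure_le]
      rintro _ ⟨_, ⟨k, hk, v, hv, rfl⟩, rfl⟩
      exact subset_closure ⟨g * k, mul_mem hg hk, v, hv, by simp [mul_assoc]⟩
    exact hle (conj_mem_cj hx)
  by_cases hcase : E ≤ w.Q 1
  · obtain ⟨x, hx, s, hs, hxs⟩ := w.exists_moved (i := n - 1) (by omega) (by omega)
    rw [show n - 1 + 2 = n + 1 by omega] at hs
    rw [show n - 1 + 1 = n by omega] at hxs
    apply hxs
    have hfar : ∀ u ∈ E, ∀ c ∈ w.S n, ⁅u, c⁆ ∈ w.W n := by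
      intro u hu c hc
      obtain ⟨-, -, hsup, hsup', -⟩ := w.pairs (i := 0) (by omega)
      rw [zero_add, ← hn] at hsup
      obtain ⟨c0, hc0, q, hq, rfl⟩ := hsup c hc
      have hc0G : c0 ∈ w.G n := (w.facts n).S_le (by simpa [hn] using w.W_le_far_right (i := 0) (by omega) hc0)
      rw [show ⁅u, c0 * q⁆ = ⁅u, c0⁆ * (c0 * ⁅u, q⁆ * c0⁻¹) by simp only [commutatorElement_def]; group]
      refine mul_mem ?_ ((mem_normalizer_iff.1 ((w.facts n).G_norm_W hc0G) _).1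
        (A.U_comm (by omega) (hEU hu) hq))
      obtain ⟨x1, hx1, y, hy, rfl⟩ := hsup' u ((w.facts 1).Q_le (hcase hu))
      rw [zero_add, ← hn] at hx1
      rw [comm_mul_left_of_commute ((w.facts 0).W_comm y hy c0 hc0)]
      exact mul_mem hx1 ((mem_normalizer_iff.1 ((w.facts n).G_norm_W hc0G) _).1 (inv_mem hx1)) |>
        fun h => by simpa [commutatorElement_def, mul_assoc] using h
    obtain ⟨t, ht, hts⟩ := w.conj_edge (i := n) (by omega)
    -- `t` carries `S_n` to `S_{n+1}`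
    obtain ⟨s0, hs0, rfl⟩ : ∃ s0 ∈ w.S n, t * s0 * t⁻¹ = s := by
      have hle : cj t (w.S n) ≤ w.S (n + 1) := by
        rintro _ ⟨s0, hs0, rfl⟩; exact hts s0 hs0
      have heq := eq_of_le_of_card_ge hle (by simp only [card_cj]; exact le_rfl)
      rw [← heq] at hs
      obtain ⟨s0, hs0, rfl⟩ := hs
      exact ⟨s0, hs0, rfl⟩
    have hxE : x ∈ E := subset_closure ⟨1, one_mem _, x, hx, by simp⟩
    have hx' : t⁻¹ * x * t ∈ E := by
      simpa using (mem_normalizer_iff.1 (hEn (inv_mem ht)) x).1 hxE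
    have h1 := (mem_normalizer_iff.1 ((w.facts n).G_norm_W ht) _).1 (hfar _ hx' s0 hs0)
    rw [conj_comm] at h1
    simpa [mul_assoc] using h1
  · obtain ⟨u, hu, huQ⟩ := SetLike.not_le_iff_exists.1 hcase
    obtain ⟨-, -, -, hsup, -⟩ := w.pairs (i := 1) (by omega)
    have hu2 : u ∈ w.S (1 + 1) := (w.facts 2).Q_le (hE2 hu)
    obtain ⟨x2, hx2, q, hq, rfl⟩ := hsup u hu2
    obtain ⟨y, hy, hne⟩ : ∃ y ∈ w.W 1, x2 * q * y ≠ y * (x2 * q) := by
      by_contra hh
      push Not at hh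
      exact huQ ((w.facts_right (i := 1) (by omega)).cent_S hu2 hh)
    have hy1 : y ∈ w.Q n := w.WQ (i := 1) (by omega) (by omega) (by omega) (by omega) hy
    obtain ⟨-, hr⟩ := hE1 hu
    obtain ⟨⟨-, -⟩, hr2⟩ := hr y hy1
    have e : ⁅x2 * q, y⁆ = ⁅x2, y⁆ := comm_mul_left_of_commute ((w.facts 1).W_comm q hq y hy)
    rw [e] at hr2
    rw [← hn, show 1 + n = n + 1 by omega] at hx2
    have hx2S : x2 ∈ w.S (1 + 1) :=
      w.W_le_far_left (i := 1) (by omega) (by rwa [← hn, show 1 + n = n + 1 by omega])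
    have hyS : y ∈ w.S (n + 1) := by
      have := w.W_le_far_right (i := 1) (by omega) hy
      rwa [← hn, show 1 + n = n + 1 by omega] at this
    have hr1 : ⁅x2, y⁆ ∈ w.W 1 :=
      (w.facts 1).Z_le |> fun _ => by
        have h := (mem_normalizer_iff.1 ((w.facts 1).G_norm_W ((w.facts_right (i := 1) (by omega)).S_le hx2S)) y).1 hy
        rw [commutatorElement_def]
        exact mul_mem h (inv_mem hy)
    have hrZ : ⁅x2, y⁆ ∈ w.Z (n + 1) := (w.facts (n + 1)).quad y hyS x2 hx2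
    have hrC : ⁅x2, y⁆ ∈ w.C (n + 1) := by
      refine ((w.facts (n + 1)).mem_C _).2 ⟨(w.facts (n + 1)).Z_le hrZ, fun g hg => ?_⟩
      obtain ⟨-, -, -, -, hn', -, -⟩ := w.pairs (i := n + 1) (by omega)
      obtain ⟨c, hc, hcQ⟩ := SetLike.not_le_iff_exists.1 hn'
      rw [← w.gen_right (i := n + 1) (by omega) (w.W_le_far_left (by omega) hc) hcQ] at hg
      have hle : w.S (n + 1) ⊔ zpowers c ≤ centralizer {⁅x2, y⁆} := sup_le
        (fun s hs => mem_centralizer_singleton_iff.2 (((w.facts (n + 1)).mem_Z _).1 hrZ |>.2 s hs))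
        (zpowers_le.2 (mem_centralizer_singleton_iff.2 (w.W_comm (i := n + 1 + A.crit) (j := 2 * n - 1)
          (by omega) (by omega) (by omega) (by omega) hc hr2)))
      exact mem_centralizer_singleton_iff.1 (hle hg)
    have h1 := (w.facts (n + 1)).comm_C y hyS x2 hx2 hrC
    rw [← e, commutatorElement_eq_one_iff_mul_comm] at h1
    exact hne h1

/-- The critical distance is exactly two. -/
theorem Fam.crit_eq_two (A : Fam Γ p) (hA : A.Critical) : A.crit = 2 :=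
  le_antisymm (A.crit_le_two hA) (A.two_le_crit hA)

/-- A critical pair at distance two, moved to the middle edge. -/
theorem Fam.exists_pair (A : Fam Γ p) (hA : A.Critical) :
    ∃ i j k, ∃ g ∈ A.G j, ¬ A.W i ≤ cj g (A.Q k) := by
  obtain ⟨x, y, h, hh⟩ := A.crit_spec hA
  rw [A.crit_eq_two hA] at h
  obtain ⟨f, g, hg, g', hg', hf0, hf2, hs⟩ := A.exists_steps h
  obtain ⟨a, ha, hea⟩ := hs 0 two_pos
  obtain ⟨c, hc, hec⟩ := hs 1 one_lt_two
  have hW : A.Wv (f 0 * a) = A.Wv x := by rw [A.Wv_mul ha, hf0, A.Wv_mul hg]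
  have hQ : A.Qv (f 2) = A.Qv y := by rw [hf2, A.Qv_mul hg']
  refine ⟨(f 0).2, (f 1).2, (f 2).2, c, hc, fun hle => hh ?_⟩
  rw [← hW, ← hQ]
  show cj ((f 0).1 * a) _ ≤ cj (f 2).1 _
  rw [← hea, hec, cj_mul]
  exact cj_mono hle

end Cfsg.Agent.PushFamily
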