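import Mathlib
import Cfsg.Prelude.Def_PLocal
import Cfsg.Prelude.Def_BaumannBlocks

/-!
Pushing up, uniform version: the embeddings of a fixed `p`-group for which a given central subgroup
is not normal, and the largest subgroup normal in all of them.
-/

set_option autoImplicit false

namespace Cfsg.Agent.PushFamily

universe u

variable (p : ℕ) {S : Type u} [Group S]

/-- `f` puts `S` into the pushing up situation in `G`, with the image of `T` not normal. -/
def Bad (T : Subgroup S) (G : Type u) [Group G] (f : S →* G) : Prop :=
  Finite G ∧ Function.Injective f ∧ Cfsg.IsPushingUpSituation p f.range ∧ ¬ (T.map f).Normal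

/-- The subgroups normal in every bad embedding. -/
def BadNormal (T Y : Subgroup S) : Prop :=
  ∀ (G : Type u) [Group G] (f : S →* G), Bad p T G f → (Y.map f).Normal

/-- The join of the subgroups normal in every bad embedding. -/
def badCore (T : Subgroup S) : Subgroup S :=
  sSup {Y | BadNormal p T Y}

/-- The four characteristic subgroups whose central parts are used. -/
def InFunctor (T : Subgroup S) : Prop :=
  (p ≠ 3 ∧ T ≤ (⊤ : Subgroup S).lowerCentralSeries 2) ∨
    (p = 3 ∧ T ≤ (⊤ : Subgroup S).lowerCentralSeries 3) ∨
      T ≤ (frattini ↥(frattini S)).map (frattini S).subtype ∨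
        (3 < p ∧ (⊤ : Subgroup S).lowerCentralSeries 2 = ⊥ ∧ T ≤ Cfsg.powerClosure p 1 (⊤ : Subgroup S))

end Cfsg.Agent.PushFamily
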