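import Mathlib
import Cfsg.Agent.Lib.PushFamDefs
import Cfsg.Agent.Lib.PushAmalgamFacts
import Cfsg.Agent.Lib.PushingUpJTSetup
import Cfsg.Agent.Lib.PGroupsBasic

/-!
Pushing up, uniform version: the reductions to the situation `J(S) = S` with elementary centre, and
the pair obtained from the core of the bad embeddings.
-/

set_option autoImplicit false

namespace Cfsg.Agent.PushFamily

open Subgroup Cfsg
open Cfsg.Agent.ChermakDelgado
open scoped commutatorElement Pointwise

universe u

section Transport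

variable {A : Type*} {B : Type*} [Group A] [Group B]

theorem map_centralizer_equiv (e : A ≃* B) (R : Subgroup A) :
    (centralizer (R : Set A)).map e.toMonoidHom =
      centralizer ((R.map e.toMonoidHom : Subgroup B) : Set B) := by
  ext b
  constructor
  · rintro ⟨c, hc, rfl⟩ _ ⟨r, hr, rfl⟩
    show e r * e c = e c * e r
    rw [← map_mul, ← map_mul, hc r hr]
  · intro h
    refine ⟨e.symm b, fun r hr => e.injective ?_, e.apply_symm_apply b⟩
    rw [map_mul, map_mul, e.apply_symm_apply]
    exact h (e r) ⟨r, hr, rfl⟩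

theorem map_symm_map (e : A ≃* B) (R : Subgroup A) :
    (R.map e.toMonoidHom).map e.symm.toMonoidHom = R := by
  ext x
  simp [Subgroup.mem_map]

theorem map_centralizer_inj {f : A →* B} (hf : Function.Injective f) (R : Subgroup A) :
    (centralizer (R : Set A)).map f = f.range ⊓ centralizer ((R.map f : Subgroup B) : Set B) := by
  ext b
  constructor
  · rintro ⟨c, hc, rfl⟩
    refine ⟨⟨c, rfl⟩, ?_⟩
    rintro _ ⟨r, hr, rfl⟩
    show f r * f c = f c * f r
    rw [← map_mul, ← map_mul, hc r hr]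
  · rintro ⟨⟨c, rfl⟩, h⟩
    refine ⟨c, fun r hr => hf ?_, rfl⟩
    rw [map_mul, map_mul]
    exact h (f r) ⟨r, hr, rfl⟩

theorem characteristic_map (e : A ≃* B) {X : Subgroup A} (hX : X.Characteristic) :
    (X.map e.toMonoidHom).Characteristic := by
  refine characteristic_iff_map_le.2 fun φ => ?_
  rintro _ ⟨_, ⟨x, hx, rfl⟩, rfl⟩
  have h := characteristic_iff_map_le.1 hX ((e.trans φ).trans e.symm) ⟨x, hx, rfl⟩
  exact ⟨_, h, by simp⟩

variable [Finite A] [Finite B]

theorem cdm_map (e : A ≃* B) (R : Subgroup A) : cdm (R.map e.toMonoidHom) = cdm R := by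
  unfold cdm
  rw [← map_centralizer_equiv, card_map_of_injective e.injective, card_map_of_injective e.injective]

theorem maxCentralizerProduct_congr (e : A ≃* B) :
    maxCentralizerProduct B = maxCentralizerProduct A := by
  refine le_antisymm ?_ ?_
  · obtain ⟨R, hR⟩ := exists_large B
    rw [← show cdm R = _ from hR, ← cdm_map e.symm R]
    exact cdm_le_max _
  · obtain ⟨R, hR⟩ := exists_large A
    rw [← show cdm R = _ from hR, ← cdm_map e R]
    exact cdm_le_max _

theorem maxCentralProduct_congr (e : A ≃* B) : maxCentralProduct B = maxCentralProduct A := by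
  rw [maxCentralProduct_eq, maxCentralProduct_eq, maxCentralizerProduct_congr e]

theorem isCentrallyLarge_map (e : A ≃* B) {R : Subgroup A} (h : IsCentrallyLarge R) :
    IsCentrallyLarge (R.map e.toMonoidHom) := by
  obtain ⟨hl, hc⟩ := centrallyLarge_iff.1 h
  refine centrallyLarge_iff.2 ⟨?_, ?_⟩
  · show cdm _ = _
    rw [cdm_map, maxCentralizerProduct_congr e]
    exact hl
  · rw [← map_centralizer_equiv]
    exact map_mono hc

theorem isMinimal_map (e : A ≃* B) {R : Subgroup A} (h : IsMinimalCentrallyLarge R) :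
    IsMinimalCentrallyLarge (R.map e.toMonoidHom) := by
  refine ⟨isCentrallyLarge_map e h.1, fun Y hY hYl => ?_⟩
  have h1 : Y.map e.symm.toMonoidHom ≤ R := by
    rw [← map_symm_map e R]; exact map_mono hY
  have h2 := h.2 _ h1 (isCentrallyLarge_map e.symm hYl)
  rw [← h2]
  exact (map_symm_map e.symm Y).symm

theorem minimalJoin_map (e : A ≃* B) :
    (minimalCentrallyLargeJoin A).map e.toMonoidHom = minimalCentrallyLargeJoin B := by
  refine le_antisymm (map_le_iff_le_comap.2 (sSup_le fun R hR =>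
    map_le_iff_le_comap.1 (le_sSup (isMinimal_map e hR)))) (sSup_le fun R hR => ?_)
  rw [← map_symm_map e.symm R]
  exact map_mono (le_sSup (isMinimal_map e.symm hR))

theorem card_omega_map (e : A ≃* B) (p : ℕ) (R : Subgroup A) :
    Nat.card ↥(omegaOneCenter p (R.map e.toMonoidHom)) = Nat.card ↥(omegaOneCenter p R) := by
  rw [← PushingUpCL.omegaOneCenter_map e.toMonoidHom e.injective p R,
    card_map_of_injective e.injective]

theorem maxOmega_congr (e : A ≃* B) (p : ℕ) :
    maxOmegaCenterOfMinimalCL p B = maxOmegaCenterOfMinimalCL p A := by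
  unfold maxOmegaCenterOfMinimalCL
  congr 1
  ext k
  constructor
  · rintro ⟨R, hR, rfl⟩
    exact ⟨_, isMinimal_map e.symm hR, card_omega_map e.symm p R⟩
  · rintro ⟨R, hR, rfl⟩
    exact ⟨_, isMinimal_map e hR, card_omega_map e p R⟩

theorem frattiniJoin_map_le {p : ℕ} [Fact p.Prime] (hA : IsPGroup p A) (e : A ≃* B) :
    (frattiniOfMinimalCLJoin p A).map e.toMonoidHom ≤ frattiniOfMinimalCLJoin p B := by
  unfold frattiniOfMinimalCLJoin
  rw [Subgroup.map_iSup]
  refine iSup_le fun R => ?_
  refine le_trans (le_of_eq ?_) (le_iSup _ ⟨(R : Subgroup A).map e.toMonoidHom,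
    isMinimal_map e R.2.1, by rw [card_omega_map, maxOmega_congr e]; exact R.2.2⟩)
  show ((frattini ↥(R : Subgroup A)).map (R : Subgroup A).subtype).map e.toMonoidHom = _
  rw [PushingUpCL.frattini_map_subtype (hA.to_subgroup _), PushingUpCL.phi_map]
  exact (PushingUpCL.frattini_map_subtype ((hA.of_equiv e).to_subgroup _)).symm

theorem frattiniJoin_map {p : ℕ} [Fact p.Prime] (hA : IsPGroup p A) (e : A ≃* B) :
    (frattiniOfMinimalCLJoin p A).map e.toMonoidHom = frattiniOfMinimalCLJoin p B := by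
  refine le_antisymm (frattiniJoin_map_le hA e) ?_
  rw [← map_symm_map e.symm (frattiniOfMinimalCLJoin p B)]
  exact map_mono (frattiniJoin_map_le (hA.of_equiv e) e.symm)

end Transport

section

variable {S : Type u} [Group S] {p : ℕ}

/-- `Z(J(S))`. -/
abbrev zJ (S : Type u) [Group S] : Subgroup S :=
  thompsonSubgroupA S ⊓ centralizer (thompsonSubgroupA S : Set S)

/-- `C_S(Z(J(S)))`. -/
abbrev jTilde (S : Type u) [Group S] : Subgroup S := centralizer (zJ S : Set S)

/-- In every pushing up situation one of the two subgroups is normal. -/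
def Works (p : ℕ) (S₁ S₂ : Subgroup S) : Prop :=
  ∀ (G : Type u) [Group G] [Finite G] (f : S →* G), Function.Injective f →
    IsPushingUpSituation p f.range → (S₁.map f).Normal ∨ (S₂.map f).Normal

/-- The conclusion about a pair. -/
structure GoodPair (p : ℕ) (S₁ S₂ : Subgroup S) : Prop where
  ne₁ : S₁ ≠ ⊥
  ne₂ : S₂ ≠ ⊥
  char₁ : S₁.Characteristic
  char₂ : S₂.Characteristic
  le₁ : S₁ ≤ center S
  le₂ : S₂ ≤ jTilde S
  sub₂ : (S₂.subgroupOf (jTilde S)).Characteristic
  works : Works p S₁ S₂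

/-! ### Images -/

section Image

variable {G : Type u} [Group G] {f : S →* G} (hf : Function.Injective f)
include hf

theorem map_via (X : Subgroup S) :
    (X.map (MonoidHom.ofInjective hf).toMonoidHom).map f.range.subtype = X.map f := by
  rw [Subgroup.map_map]; rfl

theorem map_center_eq_range :
    (center S).map f = f.range ⊓ centralizer (f.range : Set G) := by
  rw [← centralizer_univ, ← coe_top, map_centralizer_inj hf, ← MonoidHom.range_eq_map]

theorem map_thompson :
    (thompsonSubgroupA S).map f = thompsonSubgroupAOf f.range := by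
  rw [← map_via hf, ThompsonAQuad.map_thompsonA]
  rfl

theorem map_zJ : (zJ S).map f = centerThompsonAOf f.range := by
  rw [PushingUpCL.map_center_inf f hf, map_thompson hf]
  rfl

/-- A characteristic subgroup of a normal image has normal image. -/
theorem map_normal_of_range {X : Subgroup S} (hX : X.Characteristic) (hn : f.range.Normal) :
    (X.map f).Normal := by
  have := characteristic_map (MonoidHom.ofInjective hf) hX
  rw [← map_via hf]
  infer_instance

end Image

theorem zJ_characteristic [Finite S] : (zJ S).Characteristic :=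
  characteristic_iff_map_eq.2 fun φ => by
    rw [PushingUpCL.map_center_inf _ φ.injective, ThompsonAQuad.map_thompsonA]

theorem jTilde_characteristic [Finite S] : (jTilde S).Characteristic :=
  characteristic_iff_map_eq.2 fun φ => by
    rw [map_centralizer_equiv, (characteristic_iff_map_eq.1 zJ_characteristic φ)]

theorem center_le_zJ [Finite S] : center S ≤ zJ S :=
  le_inf (ThompsonAQuad.center_le S) (Subgroup.center_le_centralizer _)

theorem subgroupOf_top_characteristic {X J : Subgroup S} (hX : X.Characteristic) (hJ : J = ⊤) :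
    (X.subgroupOf J).Characteristic := by
  subst hJ
  convert characteristic_map (Subgroup.topEquiv (G := S)).symm hX using 1
  ext x
  constructor
  · exact fun hx => ⟨x.1, hx, rfl⟩
  · rintro ⟨y, hy, rfl⟩
    exact hy

theorem subgroupOf_self_characteristic (J : Subgroup S) : (J.subgroupOf J).Characteristic := by
  rw [subgroupOf_self]
  infer_instance

theorem range_pGroup (hS : IsPGroup p S) {G : Type u} [Group G] (f : S →* G) : IsPGroup p f.range :=
  hS.of_surjective f.rangeRestrict f.rangeRestrict_surjective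

variable [Finite S] [Fact p.Prime]

/-- Pair for `[Z(J), S] ≠ 1`. -/
theorem pair_commutator (hS : IsPGroup p S) (h : ⁅zJ S, (⊤ : Subgroup S)⁆ ≠ ⊥) :
    GoodPair p (⁅zJ S, (⊤ : Subgroup S)⁆ ⊓ center S) (jTilde S) := by
  have hZc := zJ_characteristic (S := S)
  have hne : zJ S ≠ ⊥ := fun h0 => h (by rw [h0, commutator_bot_left])
  refine ⟨PGroupsBasic.inf_center_ne_bot hS h, fun h0 => hne (le_bot_iff.1 ?_), inferInstance,
    jTilde_characteristic, inf_le_right, le_rfl, subgroupOf_self_characteristic _, ?_⟩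
  · exact h0 ▸ (fun z hz x hx => (hx.2 z hz.1).symm)
  intro G _ _ f hf hE
  have h1 : (⁅zJ S, (⊤ : Subgroup S)⁆ ⊓ center S).map f =
      ⁅centerThompsonAOf f.range, f.range⁆ ⊓ (f.range ⊓ centralizer (f.range : Set G)) := by
    rw [Subgroup.map_inf _ _ _ hf, map_commutator, map_zJ hf, ← MonoidHom.range_eq_map,
      map_center_eq_range hf]
  have h2 : (jTilde S).map f = f.range ⊓ centralizer (centerThompsonAOf f.range : Set G) := by
    rw [map_centralizer_inj hf, map_zJ hf]
  rw [h1, h2]
  exact PushingUpJT.commutator_dichotomy hE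

theorem jTilde_eq_top (h : ⁅zJ S, (⊤ : Subgroup S)⁆ = ⊥) : jTilde S = ⊤ :=
  top_le_iff.1 (le_centralizer_iff.1 (commutator_eq_bot_iff_le_centralizer.1 h))

theorem goodPair_of (hT : jTilde S = ⊤) {S₁ S₂ : Subgroup S} (ne₁ : S₁ ≠ ⊥) (ne₂ : S₂ ≠ ⊥)
    (c₁ : S₁.Characteristic) (c₂ : S₂.Characteristic) (le₁ : S₁ ≤ center S) (hw : Works p S₁ S₂) :
    GoodPair p S₁ S₂ :=
  ⟨ne₁, ne₂, c₁, c₂, le₁, hT.symm ▸ le_top, subgroupOf_top_characteristic c₂ hT, hw⟩

/-- Pair for a nonabelian minimal centrally large subgroup. -/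
theorem pair_minimal (hS : IsPGroup p S) (hT : jTilde S = ⊤) {Q : Subgroup S}
    (hQ : IsMinimalCentrallyLarge Q) (hne : ⁅Q, Q⁆ ≠ ⊥) :
    GoodPair p (center S ⊓ ⁅Q, Q⁆) (minimalCentrallyLargeJoin S) := by
  have hc := PushingUpCL.commutator_characteristic hQ
  refine goodPair_of hT ?_ (fun h => hne ?_) inferInstance
    (characteristic_iff_map_eq.2 fun φ => minimalJoin_map φ) inf_le_left ?_
  · rw [inf_comm]; exact PGroupsBasic.inf_center_ne_bot hS hne
  · rw [eq_bot_iff.2 ((le_sSup hQ : Q ≤ minimalCentrallyLargeJoin S).trans h.le), commutator_bot_left]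
  intro G _ _ f hf hE
  have h := PushingUpCL.minimal_dichotomy hE (isMinimal_map (MonoidHom.ofInjective hf) hQ)
  rw [← map_commutator, map_via hf, ← map_center_eq_range hf, ← Subgroup.map_inf _ _ _ hf,
    ← minimalJoin_map (MonoidHom.ofInjective hf), map_via hf] at h
  exact h

/-- Pair for `S_Φ ≠ 1`. -/
theorem pair_frattini [Nontrivial S] (hS : IsPGroup p S) (hT : jTilde S = ⊤)
    (hne : frattiniOfMinimalCLJoin p S ≠ ⊥) :
    GoodPair p (center S) (frattiniOfMinimalCLJoin p S) := by
  have := hS.center_nontrivial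
  refine goodPair_of hT ((Subgroup.nontrivial_iff_ne_bot _).1 this) hne inferInstance
    (characteristic_iff_map_eq.2 fun φ => frattiniJoin_map hS φ) le_rfl ?_
  intro G _ _ f hf hE
  have h := PushingUpCL.frattini_dichotomy hE
  rw [← map_center_eq_range hf, ← frattiniJoin_map hS (MonoidHom.ofInjective hf), map_via hf] at h
  exact h

/-- Without an elementary abelian subgroup of largest order, `S_Φ ≠ 1`. -/
theorem frattiniJoin_ne_bot (hS : IsPGroup p S)
    (h : ¬ ∃ A ∈ maxAbelianSubgroups S, IsElementaryAbelian p A) :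
    frattiniOfMinimalCLJoin p S ≠ ⊥ := by
  intro h0
  obtain ⟨R0, hR0⟩ := exists_centrallyLarge S
  obtain ⟨R1, -, hR1⟩ := exists_minimalCentrallyLarge_le hR0
  obtain ⟨Q, hQ, hQmax⟩ := Set.exists_max_image {R : Subgroup S | IsMinimalCentrallyLarge R}
    (fun R => Nat.card ↥(omegaOneCenter p R)) (Set.toFinite _) ⟨R1, hR1⟩
  have hsel : Nat.card ↥(omegaOneCenter p Q) = maxOmegaCenterOfMinimalCL p S := by
    refine le_antisymm (le_csSup ⟨Nat.card ↥(omegaOneCenter p Q), ?_⟩ ⟨Q, hQ, rfl⟩)
      (csSup_le ⟨_, Q, hQ, rfl⟩ ?_) <;>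
    · rintro _ ⟨R, hR, rfl⟩
      exact hQmax R hR
  have hle : (frattini ↥Q).map Q.subtype ≤ ⊥ := h0 ▸ le_iSup
    (fun R : {R : Subgroup S // IsMinimalCentrallyLarge R ∧
      Nat.card ↥(omegaOneCenter p R) = maxOmegaCenterOfMinimalCL p S} =>
        (frattini ↥(R : Subgroup S)).map (R : Subgroup S).subtype) ⟨Q, hQ, hsel⟩
  have hfr : frattini ↥Q = ⊥ :=
    (map_eq_bot_iff_of_injective _ Q.subtype_injective).1 (le_bot_iff.1 hle)
  have hab : IsMulCommutative ↥Q :=
    ⟨⟨fun a b => PGroupsBasic.commute_of_frattini_eq_bot (hS.to_subgroup Q) hfr a b⟩⟩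
  exact h ⟨Q, (CentrallyLarge.minimal_iff_maxAbelian hQ hab Q).1 hQ, hab, fun a ha =>
    congrArg Subtype.val (PGroupsBasic.pow_eq_one_of_frattini_eq_bot (hS.to_subgroup Q) hfr ⟨a, ha⟩)⟩

omit [Finite S] in
/-- A pair which is trivially good for abelian `S`. -/
theorem works_of_abelian (hS : IsPGroup p S) (hab : ∀ a b : S, a * b = b * a) :
    Works p (⊤ : Subgroup S) ⊤ := by
  intro G _ _ f hf hE
  left
  have hQ := PushingUpCL.pCore_le hE
  have hle : f.range ≤ pCore p G := by
    rintro _ ⟨a, rfl⟩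
    refine hE.2.2.1 fun q hq => ?_
    obtain ⟨b, rfl⟩ := hQ hq
    rw [← map_mul, ← map_mul, hab]
  rw [← MonoidHom.range_eq_map, le_antisymm hle hQ]
  exact HallCore.pCore_normal p G

/-! ### The structure when the minimal centrally large subgroups are abelian -/

structure Reduced (S : Type u) [Group S] : Prop where
  J : thompsonSubgroupA S = ⊤
  max : maxCentralizerProduct S = Nat.card S * Nat.card ↥(center S)
  top_cl : IsCentrallyLarge (⊤ : Subgroup S)
  lattice : ∀ A ∈ maxAbelianSubgroups S, ∀ B ∈ maxAbelianSubgroups S, ∀ Q : Subgroup S,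
    Nat.card ↥A ^ 2 = Nat.card S * Nat.card ↥(center S) ∧
      Nat.card ↥Q * Nat.card ↥(center ↥Q) ≤ Nat.card S * Nat.card ↥(center S) ∧
      ((A ⊔ B : Subgroup S) : Set S) = (A : Set S) * (B : Set S) ∧
      A ⊔ B = centralizer ((A ⊓ B : Subgroup S) : Set S)

theorem reduced_of (hT : jTilde S = ⊤)
    (hmin : ∀ Q : Subgroup S, IsMinimalCentrallyLarge Q → ⁅Q, Q⁆ = ⊥) : Reduced S := by
  obtain ⟨R0, hR0⟩ := exists_centrallyLarge S
  obtain ⟨Q0, -, hQ0⟩ := exists_minimalCentrallyLarge_le hR0
  have hiff := CentrallyLarge.minimal_iff_maxAbelian hQ0 (CentrallyLarge.isMulCommutative_of_le_centralizer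
    (commutator_eq_bot_iff_le_centralizer.1 (hmin Q0 hQ0)))
  have hJeq : thompsonSubgroupA S = minimalCentrallyLargeJoin S := by
    unfold thompsonSubgroupA minimalCentrallyLargeJoin
    congr 1
    ext X
    exact (hiff X).symm
  have hJcl : IsCentrallyLarge (thompsonSubgroupA S) := hJeq ▸ minimalCentrallyLargeJoin_cl S
  obtain ⟨hJl, hJc⟩ := centrallyLarge_iff.1 hJcl
  have hZJ : zJ S ≤ center S := by
    intro z hz
    refine mem_center_iff.2 fun s => ?_
    have hs : s ∈ jTilde S := hT.symm ▸ mem_top s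
    exact (hs z hz).symm
  have hJ : thompsonSubgroupA S = ⊤ := by
    rw [eq_top_iff, ← centralizer_centralizer_eq hJl]
    intro s _ x hx
    exact ((mem_center_iff.1 (hZJ ⟨hJc hx, hx⟩) s)).symm
  have htop : IsCentrallyLarge (⊤ : Subgroup S) := hJ ▸ hJcl
  have hmax : maxCentralizerProduct S = Nat.card S * Nat.card ↥(center S) := by
    rw [← show cdm (⊤ : Subgroup S) = _ from (centrallyLarge_iff.1 htop).1]
    unfold cdm
    rw [card_top, coe_top, centralizer_univ]
  refine ⟨hJ, hmax, htop, fun A hA B hB Q => ?_⟩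
  obtain ⟨hAl, -⟩ := centrallyLarge_iff.1 ((hiff A).2 hA).1
  obtain ⟨hBl, -⟩ := centrallyLarge_iff.1 ((hiff B).2 hB).1
  obtain ⟨h1, h2, -⟩ := large_card_eqs hAl hBl
  refine ⟨?_, ?_, h1, ?_⟩
  · have h : cdm A = _ := hAl
    rw [hmax] at h
    rw [← h, pow_two]
    unfold cdm
    rw [CentrallyLarge.centralizer_maxAbelian hA]
  · rw [ChermakDelgado.card_center_eq, ← hmax]
    exact (cem_le_cdm Q).trans (cdm_le_max Q)
  · rw [h2, CentrallyLarge.centralizer_maxAbelian hA, CentrallyLarge.centralizer_maxAbelian hB]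

/-- The characteristic subgroup generated by the `p`-th powers of central elements works when it is
not trivial. -/
theorem works_center_pow (hS : IsPGroup p S) (hJ : thompsonSubgroupA S = ⊤) (S₂ : Subgroup S) :
    Works p (powerClosure p 1 (center S)) S₂ := by
  intro G _ _ f hf hE
  left
  have hTc : (powerClosure p 1 (center S)).Characteristic := by
    refine characteristic_iff_map_le.2 fun φ => ?_
    rw [powerClosure, MonoidHom.map_closure]
    refine closure_mono ?_
    rintro _ ⟨_, ⟨x, hx, rfl⟩, rfl⟩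
    exact ⟨φ x, (characteristic_iff_map_le.1 inferInstance φ : (center S).map _ ≤ _) ⟨x, hx, rfl⟩,
      map_pow φ _ _⟩
  by_cases hsQ : f.range ≤ pCore p G
  · refine map_normal_of_range hf hTc ?_
    rw [le_antisymm hsQ (PushingUpCL.pCore_le hE)]
    exact HallCore.pCore_normal p G
  have hTle : powerClosure p 1 (center S) ≤ center S := by
    rw [powerClosure, closure_le]
    rintro _ ⟨x, hx, rfl⟩
    exact pow_mem hx _
  have hTle' : (powerClosure p 1 (center S)).map f ≤ f.range ⊓ centralizer (f.range : Set G) :=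
    map_center_eq_range hf ▸ map_mono hTle
  by_cases hZ : f.range ⊓ centralizer (f.range : Set G) ≤ center G
  · exact PGroupsBasic.normal_of_le_center (hTle'.trans hZ)
  have hJ' : thompsonSubgroupAOf f.range = f.range := by
    rw [← map_thompson hf, hJ, ← MonoidHom.range_eq_map]
  have hzn := PushingUpJT.zQ_normal (p := p) hE
  set Z' := PushingUpJT.zQ p f.range with hZ'
  set P' := closure ((fun z : G => z ^ p) '' (Z' : Set G)) with hP'
  have hPn : P'.Normal := by
    refine PushingUpCL.normal_of_conj_le fun g => ?_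
    rw [hP', MonoidHom.map_closure]
    refine closure_mono ?_
    rintro _ ⟨_, ⟨z, hz, rfl⟩, rfl⟩
    exact ⟨g * z * g⁻¹, hzn.conj_mem z hz g, by simp⟩
  have hPc : P' ≤ centralizer (f.range : Set G) := by
    rw [hP', closure_le]
    rintro _ ⟨z, hz, rfl⟩ s hs
    have hle : thompsonSubgroupAOf f.range ≤ centralizer {z ^ p} := by
      refine PushingUpJT.thompson_le fun A hA a ha => ?_
      obtain ⟨w, hw, y, hy, rfl⟩ := PushingUpJT.zQ_decomp hE hZ hA hz
      have hwy : w * y = y * w := (PushingUpJT.q_w hE (q := y) (w := w)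
        ((PushingUpJT.zQ_le hE hZ (PushingUpJT.maxAb_facts hE hZ hA).1).trans
          ((PushingUpJT.maxAb_facts hE hZ hA).1).le hy.1) hw).symm
      rw [(show Commute w y from hwy).mul_pow, PushingUpCL.wSub_pow hE hw, one_mul]
      exact mem_centralizer_singleton_iff.2 (hA.comm (pow_mem hy.2 p) a ha)
    rw [hJ'] at hle
    exact mem_centralizer_singleton_iff.1 (hle hs)
  have hCn : (centralizer (P' : Set G)).Normal := inferInstance
  have htop := PushingUpCL.normal_sup hE (centralizer (P' : Set G)) fun h =>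
    hsQ fun s hs => h ⟨hs, fun x hx => (hPc hx s hs).symm⟩
  refine PGroupsBasic.normal_of_le_center ?_
  have hPZ : P' ≤ center G := by
    intro y hy
    refine mem_center_iff.2 fun m => ?_
    have h2 : centralizer (P' : Set G) ⊔ f.range ≤ centralizer {y} :=
      sup_le (fun c hc => mem_centralizer_singleton_iff.2 (hc y hy).symm)
        fun s hs => mem_centralizer_singleton_iff.2 (hPc hy s hs)
    rw [htop] at h2
    exact mem_centralizer_singleton_iff.1 (h2 (mem_top m))
  refine le_trans ?_ hPZ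
  rw [powerClosure, MonoidHom.map_closure]
  refine closure_mono ?_
  rintro _ ⟨_, ⟨x, hx, rfl⟩, rfl⟩
  refine ⟨f x, ?_, by rw [map_pow, pow_one]⟩
  refine PushingUpJT.center_le_zQ hE hZ ?_
  rw [← map_zJ hf]
  exact mem_map_of_mem f (center_le_zJ hx)

/-! ### The four characteristic subgroups -/

theorem squares_central {P : Type*} [Group P] {q : ℕ}
    (hcl : ∀ s t : P, ⁅s, t⁆ ∈ center P) {s : P} (hs : ∀ t : P, ⁅s, t⁆ ^ q = 1) :
    s ^ q ∈ center P := by
  refine mem_center_iff.2 fun t => ?_
  have h := PGroupsBasic.commutatorElement_pow_left (hcl s t) q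
  rw [hs t] at h
  exact (commutatorElement_eq_one_iff_mul_comm.1 h).symm

theorem commutatorElement_mem_frattini (hS : IsPGroup p S) (s t : S) : ⁅s, t⁆ ∈ frattini S :=
  PGroupsBasic.commutator_le_frattini hS (commutator_mem_commutator (mem_top s) (mem_top t))

/-- If the four subgroups are trivial, the conditions on `Φ(S)` hold. -/
theorem frattini_conditions [Nontrivial S] (hS : IsPGroup p S)
    (h2 : p ≠ 3 → (⊤ : Subgroup S).lowerCentralSeries 2 = ⊥)
    (h3 : p = 3 → (⊤ : Subgroup S).lowerCentralSeries 3 = ⊥)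
    (hF : (frattini ↥(frattini S)).map (frattini S).subtype = ⊥)
    (hU : 3 < p → powerClosure p 1 (⊤ : Subgroup S) = ⊥) :
    IsElementaryAbelian p (frattini S) ∧ (p = 2 → frattini S ≤ center S) ∧
      (p = 3 → frattini S ≤ Subgroup.upperCentralSeries S 2) ∧
      (3 < p → frattini S ≤ center S ∧ Monoid.exponent S = p) := by
  have hfr : frattini ↥(frattini S) = ⊥ :=
    (map_eq_bot_iff_of_injective _ (frattini S).subtype_injective).1 hF
  have hpow : ∀ x ∈ frattini S, x ^ p = 1 := fun x hx => congrArg Subtype.val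
    (PGroupsBasic.pow_eq_one_of_frattini_eq_bot (hS.to_subgroup _) hfr ⟨x, hx⟩)
  have hel : IsElementaryAbelian p (frattini S) :=
    ⟨⟨⟨fun a b => PGroupsBasic.commute_of_frattini_eq_bot (hS.to_subgroup _) hfr a b⟩⟩, hpow⟩
  have hclass : p ≠ 3 → commutator S ≤ center S := fun hp => by
    rw [← centralizer_univ, ← coe_top]
    exact commutator_eq_bot_iff_le_centralizer.1 (h2 hp)
  refine ⟨hel, fun hp => ?_, fun hp => ?_, fun hp => ?_⟩
  · refine PGroupsBasic.frattini_le_of_elementary_quotient (p := p) (hclass (by omega)) fun x =>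
      squares_central (fun s t => hclass (by omega) (commutator_mem_commutator (mem_top s) (mem_top t)))
        fun t => hpow _ (commutatorElement_mem_frattini hS x t)
  · have hcq : ∀ s t : S ⧸ center S, ⁅s, t⁆ ∈ center (S ⧸ center S) := by
      intro s t
      obtain ⟨s, rfl⟩ := QuotientGroup.mk'_surjective _ s
      obtain ⟨t, rfl⟩ := QuotientGroup.mk'_surjective _ t
      refine mem_center_iff.2 fun u => ?_
      obtain ⟨u, rfl⟩ := QuotientGroup.mk'_surjective _ u
      have hz : ⁅⁅s, t⁆, u⁆ ∈ center S := by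
        rw [← centralizer_univ, ← coe_top]
        exact commutator_eq_bot_iff_le_centralizer.1 (h3 hp)
          (commutator_mem_commutator (commutator_mem_commutator (mem_top s) (mem_top t)) (mem_top u))
      have h : ⁅QuotientGroup.mk' (center S) ⁅s, t⁆, QuotientGroup.mk' (center S) u⁆ = 1 := by
        rw [← map_commutatorElement]
        exact (QuotientGroup.eq_one_iff _).2 hz
      rw [← map_commutatorElement]
      exact (commutatorElement_eq_one_iff_mul_comm.1 h).symm
    have hup : Subgroup.upperCentralSeries S 2 = (center (S ⧸ center S)).comap (QuotientGroup.mk' (center S)) := by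
      ext x
      rw [show (2 : ℕ) = 1 + 1 from rfl, Subgroup.mem_upperCentralSeries_succ_iff, Subgroup.upperCentralSeries_one,
        mem_comap, mem_center_iff]
      constructor
      · intro h u
        obtain ⟨u, rfl⟩ := QuotientGroup.mk'_surjective _ u
        have h1 : ⁅QuotientGroup.mk' (center S) x, QuotientGroup.mk' (center S) u⁆ = 1 := by
          rw [← map_commutatorElement]
          exact (QuotientGroup.eq_one_iff _).2 (by simpa [commutatorElement_def] using h u)
        exact (commutatorElement_eq_one_iff_mul_comm.1 h1).symm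
      · intro h u
        have h1 : QuotientGroup.mk' (center S) ⁅x, u⁆ = 1 := by
          rw [map_commutatorElement, commutatorElement_eq_one_iff_mul_comm]
          exact (h _).symm
        simpa [commutatorElement_def] using (QuotientGroup.eq_one_iff _).1 h1
    rw [hup]
    refine PGroupsBasic.frattini_le_of_elementary_quotient (p := p) ?_ fun x => ?_
    · rw [_root_.commutator_def, commutator_le]
      intro s _ t _
      rw [mem_comap, map_commutatorElement]
      exact hcq _ _
    · rw [mem_comap, map_pow]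
      refine squares_central hcq fun t => ?_
      obtain ⟨t, rfl⟩ := QuotientGroup.mk'_surjective _ t
      rw [← map_commutatorElement, ← map_pow, hpow _ (commutatorElement_mem_frattini hS x t), map_one]
  · have hexp : ∀ x : S, x ^ p = 1 := fun x => by
      have h : x ^ p ^ 1 ∈ powerClosure p 1 (⊤ : Subgroup S) := subset_closure ⟨x, mem_top x, rfl⟩
      rwa [hU hp, mem_bot, pow_one] at h
    refine ⟨PGroupsBasic.frattini_le_of_elementary_quotient (p := p) (hclass (by omega))
      (fun x => by rw [hexp x]; exact one_mem _), ?_⟩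
    refine ((Nat.dvd_prime (Fact.out : p.Prime)).1
      (Monoid.exponent_dvd_of_forall_pow_eq_one hexp)).resolve_left fun h => ?_
    have := Monoid.exp_eq_one_iff.1 h
    exact not_subsingleton S this

theorem powerClosure_top_characteristic : (powerClosure p 1 (⊤ : Subgroup S)).Characteristic := by
  refine characteristic_iff_map_le.2 fun φ => ?_
  rw [powerClosure, MonoidHom.map_closure]
  refine closure_mono ?_
  rintro _ ⟨_, ⟨x, -, rfl⟩, rfl⟩
  exact ⟨φ x, mem_top _, map_pow φ _ _⟩

theorem frattiniFrattini_characteristic (hS : IsPGroup p S) :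
    ((frattini ↥(frattini S)).map (frattini S).subtype).Characteristic := by
  rw [PushingUpCL.frattini_map_subtype (hS.to_subgroup _)]
  refine characteristic_iff_map_eq.2 fun φ => ?_
  rw [PushingUpCL.phi_map, characteristic_iff_map_eq.1 frattini_characteristic φ]

/-! ### The core -/

theorem bad_comp {T : Subgroup S} (hTc : T.Characteristic) {G : Type u} [Group G] {f : S →* G}
    (h : Bad p T G f) (φ : S ≃* S) : Bad p T G (f.comp φ.toMonoidHom) := by
  obtain ⟨hG, hf, hE, hn⟩ := h
  refine ⟨hG, hf.comp φ.injective, ?_, ?_⟩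
  · rwa [MonoidHom.range_comp, MonoidHom.range_eq_top_of_surjective _ φ.surjective,
      ← MonoidHom.range_eq_map]
  · rwa [← Subgroup.map_map, characteristic_iff_map_eq.1 hTc φ]

theorem badNormal_badCore (T : Subgroup S) : BadNormal p T (badCore p T) := by
  intro G _ f hbad
  have := hbad.1
  refine PushingUpCL.normal_of_conj_le fun g => ?_
  rintro _ ⟨_, ⟨x, hx, rfl⟩, rfl⟩
  have h : badCore p T ≤ (((badCore p T).map f).comap (MulAut.conj g).toMonoidHom).comap f :=
    sSup_le fun Y hY y hy =>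
      map_mono (le_sSup hY) ((hY G f hbad).conj_mem (f y) (mem_map_of_mem f hy) g)
  exact h hx

theorem le_badCore {T Y : Subgroup S} (h : BadNormal p T Y) : Y ≤ badCore p T := le_sSup h

theorem badCore_characteristic {T : Subgroup S} (hTc : T.Characteristic) :
    (badCore p T).Characteristic := by
  refine characteristic_iff_map_le.2 fun φ => le_badCore fun G _ f hbad => ?_
  rw [Subgroup.map_map]
  exact badNormal_badCore T G _ (bad_comp hTc hbad φ)

/-- The local data of a bad embedding. -/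
theorem bad_lattice (hS : IsPGroup p S) (hR : Reduced S) (hZe : IsElementaryAbelian p (center S))
    {T : Subgroup S} (hTle : T ≤ center S) (hTc : T.Characteristic) {G : Type u} [Group G]
    {f : S →* G} (hbad : Bad p T G f) :
    PushingUpCL.wSub p f.range ≠ ⊥ ∧
    ∃ Q W : Subgroup S, IsCentralizerLarge Q ∧ centralizer (W : Set S) = Q ∧
      Q.map f = pCore p G ∧ W.map f = PushingUpCL.wSub p f.range ∧
      ∀ Y : Subgroup S, (Y.map f).Normal → Y ≤ Q := by
  obtain ⟨hG, hf, hE, hn⟩ := hbad
  have hQS := PushingUpCL.pCore_le hE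
  have hZ : ¬ f.range ⊓ centralizer (f.range : Set G) ≤ center G := fun h =>
    hn (PGroupsBasic.normal_of_le_center ((map_center_eq_range hf ▸ map_mono hTle :
      T.map f ≤ f.range ⊓ centralizer (f.range : Set G)).trans h))
  have hJ : ¬ thompsonSubgroupAOf f.range ≤ pCore p G := by
    rw [← map_thompson hf, hR.J, ← MonoidHom.range_eq_map]
    exact fun h => hn (map_normal_of_range hf hTc
      (le_antisymm h hQS ▸ HallCore.pCore_normal p G))
  obtain ⟨M, hF, -⟩ := PushAmalgam.exists_facts_of hE hZ hJ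
  set Z' := PushingUpCL.wSub p f.range ⊓ centralizer (f.range : Set G) with hZ'
  have hZeq : Z' = (center S).map f := by
    rw [map_center_eq_range hf]
    refine le_antisymm (le_inf ?_ inf_le_right) (le_inf ?_ inf_le_right)
    · exact inf_le_left.trans (hF.W_le.trans hF.Q_le)
    · rw [← map_center_eq_range hf]
      rintro _ ⟨z, hz, rfl⟩
      refine subset_normalClosure ⟨⟨z, rfl⟩, ?_, by rw [← map_pow, hZe.2 z hz, map_one]⟩
      rintro _ ⟨s, rfl⟩
      rw [← map_mul, ← map_mul, mem_center_iff.1 hz s]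
  have hW0 : PushingUpCL.wSub p f.range ≠ ⊥ := fun h => hF.moved fun z hz => by
    have : z = 1 := mem_bot.1 (h ▸ hF.Z_le hz)
    exact this ▸ one_mem _
  refine ⟨hW0, (pCore p G).comap f, (PushingUpCL.wSub p f.range).comap f, ?_⟩
  have hQm : ((pCore p G).comap f).map f = pCore p G := map_comap_eq_self hQS
  have hWm : ((PushingUpCL.wSub p f.range).comap f).map f = PushingUpCL.wSub p f.range :=
    map_comap_eq_self (hF.W_le.trans hF.Q_le)
  set Q := (pCore p G).comap f
  set W := (PushingUpCL.wSub p f.range).comap f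
  have hcard : Nat.card Q * Nat.card W = maxCentralizerProduct S := by
    rw [← card_map_of_injective hf (K := Q), ← card_map_of_injective hf (K := W), hQm, hWm,
      ← hF.card_off, hZeq, card_map_of_injective hf, hR.max, ← Nat.card_congr
        (MonoidHom.ofInjective hf).toEquiv]
  have hWC : W ≤ centralizer (Q : Set S) := fun w hw q hq => hf (by
    rw [map_mul, map_mul]; exact hF.W_comm (f q) hq (f w) hw)
  have hQl : IsCentralizerLarge Q := large_iff.2
    (hcard ▸ Nat.mul_le_mul_left _ (card_le_of_le hWC))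
  have hWeq : W = centralizer (Q : Set S) := eq_of_le_of_card_ge hWC (le_of_mul_le_mul_left
    (hcard.symm ▸ cdm_le_max Q) Nat.card_pos)
  refine ⟨hQl, by rw [hWeq, centralizer_centralizer_eq hQl], hQm, hWm, fun Y hY => ?_⟩
  exact fun y hy => HallCore.le_pCore (hN := hY) ((range_pGroup hS f).to_le (map_le_range f Y))
    (mem_map_of_mem f hy)

/-- With the amalgam theorem, the core is centrally large. -/
theorem badCore_facts [Nontrivial S] (hS : IsPGroup p S) (hR : Reduced S)
    (hZe : IsElementaryAbelian p (center S)) {T : Subgroup S} (hTle : T ≤ center S)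
    (hTc : T.Characteristic)
    (hcore : ∀ (G : Type u) [Group G] (f : S →* G), Bad p T G f →
      PushingUpCL.wSub p f.range ≤ (badCore p T).map f) :
    IsCentrallyLarge (badCore p T) ∧ badCore p T ≠ ⊥ := by
  set D := badCore p T with hDdef
  have hne : D ≠ ⊥ := by
    by_cases hex : ∃ (G : Type u) (_ : Group G) (f : S →* G), Bad p T G f
    · obtain ⟨G, _, f, hbad⟩ := hex
      intro h0
      have h := hcore G f hbad
      rw [h0, Subgroup.map_bot, le_bot_iff] at h
      exact (bad_lattice hS hR hZe hTle hTc hbad).1 h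
    · push Not at hex
      exact fun h0 => top_ne_bot (le_bot_iff.1 ((le_badCore (Y := (⊤ : Subgroup S))
        fun G _ f hbad => absurd hbad (hex G _ f)).trans h0.le))
  refine ⟨?_, hne⟩
  obtain ⟨P, hP⟩ := Set.Finite.exists_minimal
    (Set.toFinite {R : Subgroup S | IsCentralizerLarge R ∧ D ≤ R})
    ⟨⊤, (centrallyLarge_iff.1 hR.top_cl).1, le_top⟩
  have hleast : ∀ R : Subgroup S, IsCentralizerLarge R → D ≤ R → P ≤ R := fun R hRl hDR =>
    (hP.2 ⟨(large_sup_inf hP.1.1 hRl).2, le_inf hP.1.2 hDR⟩ inf_le_left).trans inf_le_right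
  have hboth : BadNormal p T P ∧ BadNormal p T (centralizer (P : Set S)) := by
    suffices h : ∀ (G : Type u) [Group G] (f : S →* G), Bad p T G f →
        (P.map f).Normal ∧ ((centralizer (P : Set S)).map f).Normal from
      ⟨fun G _ f hb => (h G f hb).1, fun G _ f hb => (h G f hb).2⟩
    intro G _ f hbad
    obtain ⟨-, Q, W, hQl, hCW, hQm, hWm, hnorm⟩ := bad_lattice hS hR hZe hTle hTc hbad
    have hDn : (D.map f).Normal := badNormal_badCore T G f hbad
    have hW' := hcore G f hbad
    obtain ⟨hG, hf, hE, -⟩ := hbad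
    have hPQ : P ≤ Q := hleast Q hQl (hnorm D hDn)
    have hWP : W ≤ P := by
      refine le_trans ?_ hP.1.2
      rw [← map_le_map_iff_of_injective hf, hWm]
      exact hW'
    have hCP : centralizer (P : Set S) ≤ Q :=
      hCW ▸ centralizer_le (SetLike.coe_subset_coe.2 hWP)
    have hQn : (pCore p G).Normal := HallCore.pCore_normal p G
    have hPn : (P.map f).Normal := by
      refine PushingUpCL.normal_of_conj_le fun g => ?_
      set c := (MulAut.conj g).toMonoidHom
      have hin : ∀ Y : Subgroup S, Y ≤ Q → (Y.map f).map c ≤ f.range := by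
        intro Y hY
        refine le_trans ?_ (PushingUpCL.pCore_le hE)
        rintro _ ⟨_, ⟨y, hy, rfl⟩, rfl⟩
        exact hQn.conj_mem _ (hQm ▸ mem_map_of_mem f (hY hy)) g
      set X := ((P.map f).map c).comap f
      have hXm : X.map f = (P.map f).map c := map_comap_eq_self (hin P hPQ)
      set Y := (((centralizer (P : Set S)).map f).map c).comap f
      have hYm : Y.map f = ((centralizer (P : Set S)).map f).map c := map_comap_eq_self (hin _ hCP)
      have hYX : Y ≤ centralizer (X : Set S) := by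
        intro y hy x hx
        obtain ⟨_, ⟨y', hy', rfl⟩, hye⟩ := (hy : f y ∈ ((centralizer (P : Set S)).map f).map c)
        obtain ⟨_, ⟨x', hx', rfl⟩, hxe⟩ := (hx : f x ∈ (P.map f).map c)
        apply hf
        rw [map_mul, map_mul, ← hye, ← hxe, ← map_mul, ← map_mul, ← map_mul, ← map_mul, hy' x' hx']
      have hc : Function.Injective c := (MulAut.conj g).injective
      have hXl : IsCentralizerLarge X := by
        refine large_iff.2 (le_trans (le_of_eq ?_)
          (Nat.mul_le_mul_left _ (card_le_of_le hYX)))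
        rw [← card_map_of_injective hf (K := X), hXm, ← card_map_of_injective hf (K := Y), hYm,
          card_map_of_injective hc, card_map_of_injective hc, card_map_of_injective hf,
          card_map_of_injective hf]
        exact hP.1.1.symm
      have hDX : D ≤ X := by
        intro d hd
        have h1 : g⁻¹ * f d * g⁻¹⁻¹ ∈ D.map f := hDn.conj_mem _ (mem_map_of_mem f hd) g⁻¹
        exact ⟨g⁻¹ * f d * g⁻¹⁻¹, map_mono hP.1.2 h1, by simp [c, mul_assoc]⟩
      have h1 : P.map f ≤ (P.map f).map c := hXm ▸ map_mono (hleast X hXl hDX)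
      exact (eq_of_le_of_card_ge h1 (card_map_of_injective hc).le).ge
    refine ⟨hPn, ?_⟩
    have : (centralizer ((P.map f : Subgroup G) : Set G)).Normal := inferInstance
    rw [show (centralizer (P : Set S)).map f = pCore p G ⊓ centralizer ((P.map f : Subgroup G) : Set G) from ?_]
    · infer_instance
    refine le_antisymm (le_inf ?_ ?_) ?_
    · exact hQm ▸ map_mono hCP
    · rw [map_centralizer_inj hf]; exact inf_le_right
    · rw [map_centralizer_inj hf]; exact inf_le_inf_right _ (PushingUpCL.pCore_le hE)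
  have hPD : P = D := le_antisymm (le_badCore hboth.1) hP.1.2
  have h2 : centralizer (P : Set S) ≤ D := le_badCore hboth.2
  rw [hPD] at h2
  exact centrallyLarge_iff.2 ⟨hPD ▸ hP.1.1, h2⟩

/-- The hypothesis supplied by the amalgam method: some subgroup of the centre has a large core. -/
def CoreHyp (p : ℕ) (S : Type u) [Group S] : Prop :=
  Reduced S → IsElementaryAbelian p (center S) →
    ∀ T₀ : Subgroup S, T₀ ≤ center S → T₀ ≠ ⊥ → T₀.Characteristic → InFunctor p T₀ →
      ∃ T : Subgroup S, T ≠ ⊥ ∧ T.Characteristic ∧ T ≤ center S ∧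
        ∀ (G : Type u) [Group G] (f : S →* G), Bad p T G f →
          PushingUpCL.wSub p f.range ≤ (badCore p T).map f

theorem pair_core [Nontrivial S] (hS : IsPGroup p S) (hT : jTilde S = ⊤) (hR : Reduced S)
    (hZe : IsElementaryAbelian p (center S)) (hcore : CoreHyp p S) {X : Subgroup S}
    (hX : X.Characteristic) (hne : X ≠ ⊥) (hXF : ∀ T : Subgroup S, T ≤ X → InFunctor p T) :
    ∃ S₁ S₂ : Subgroup S, GoodPair p S₁ S₂ ∧ IsCentrallyLarge S₂ := by
  have hTc : (center S ⊓ X).Characteristic := inferInstance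
  have hT0 : center S ⊓ X ≠ ⊥ := by rw [inf_comm]; exact PGroupsBasic.inf_center_ne_bot hS hne
  obtain ⟨T, hT1, hT2, hT3, hT4⟩ :=
    hcore hR hZe _ inf_le_left hT0 hTc (hXF _ inf_le_right)
  obtain ⟨hcl, hne2⟩ := badCore_facts hS hR hZe hT3 hT2 hT4
  refine ⟨_, _, goodPair_of hT hT1 hne2 hT2 (badCore_characteristic hT2) hT3 ?_, hcl⟩
  intro G _ hG f hf hE
  refine or_iff_not_imp_left.2 fun h => badNormal_badCore _ G f ⟨hG, hf, hE, h⟩

/-- The nine conditions of the exceptional case. -/
def Exceptional (p : ℕ) (S : Type u) [Group S] : Prop :=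
  ¬ IsMulCommutative S ∧ thompsonSubgroupA S = ⊤ ∧ IsElementaryAbelian p (center S) ∧
    IsElementaryAbelian p (frattini S) ∧ (p = 2 → frattini S ≤ center S) ∧
    (p = 3 → frattini S ≤ Subgroup.upperCentralSeries S 2) ∧
    (3 < p → frattini S ≤ center S ∧ Monoid.exponent S = p) ∧
    (∀ A ∈ maxAbelianSubgroups S, ∀ B ∈ maxAbelianSubgroups S, ∀ Q : Subgroup S,
      Nat.card ↥A ^ 2 = Nat.card S * Nat.card ↥(center S) ∧
        Nat.card ↥Q * Nat.card ↥(center ↥Q) ≤ Nat.card S * Nat.card ↥(center S) ∧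
        ((A ⊔ B : Subgroup S) : Set S) = (A : Set S) * (B : Set S) ∧
        A ⊔ B = centralizer ((A ⊓ B : Subgroup S) : Set S))

/-- The pair containing a centrally large subgroup, outside the exceptional case. -/
theorem exists_pair [Nontrivial S] (hS : IsPGroup p S) (hcore : CoreHyp p S)
    (hexc : ¬ Exceptional p S) :
    ∃ S₁ S₂ : Subgroup S, GoodPair p S₁ S₂ ∧
      maxCentralProduct ↥S₂ = maxCentralProduct ↥(jTilde S) := by
  by_cases hc : ⁅zJ S, (⊤ : Subgroup S)⁆ = ⊥
  swap
  · exact ⟨_, _, pair_commutator hS hc, rfl⟩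
  have hT := jTilde_eq_top hc
  suffices h : ∃ S₁ S₂ : Subgroup S, GoodPair p S₁ S₂ ∧ IsCentrallyLarge S₂ by
    obtain ⟨S₁, S₂, hg, hcl⟩ := h
    refine ⟨S₁, S₂, hg, ?_⟩
    obtain ⟨hl, hle⟩ := centrallyLarge_iff.1 hcl
    rw [hT, maxCentralProduct_congr (topEquiv (G := S)).symm]
    refine le_antisymm ?_ ?_
    · obtain ⟨R, hR⟩ := exists_large ↥S₂
      rw [maxCentralProduct_eq, maxCentralProduct_eq, ← show cdm R = _ from hR]
      refine le_trans ?_ (cdm_le_max (R.map S₂.subtype))
      unfold cdm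
      rw [card_map_of_injective S₂.subtype_injective]
      refine Nat.mul_le_mul_left _ ?_
      rw [← card_map_of_injective S₂.subtype_injective (K := centralizer (R : Set ↥S₂))]
      refine card_le_of_le ?_
      rw [map_centralizer_inj S₂.subtype_injective]
      exact inf_le_right
    · rw [maxCentralProduct_eq S, ← show cdm S₂ = _ from hl]
      unfold maxCentralProduct
      refine le_csSup (Set.finite_range (fun R : Subgroup ↥S₂ =>
        Nat.card ↥R * Nat.card ↥(center ↥R)) |>.subset ?_).bddAbove ⟨⊤, ?_⟩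
      · rintro _ ⟨R, rfl⟩; exact ⟨R, rfl⟩
      · unfold cdm
        rw [card_top, ← inf_eq_right.2 hle, ← card_center_eq]
        congr 1
        exact (Nat.card_congr (centerCongr (topEquiv (G := ↥S₂))).toEquiv)
  by_cases hmin : ∀ Q : Subgroup S, IsMinimalCentrallyLarge Q → ⁅Q, Q⁆ = ⊥
  swap
  · push Not at hmin
    obtain ⟨Q, hQ, hne⟩ := hmin
    exact ⟨_, _, pair_minimal hS hT hQ hne, minimalCentrallyLargeJoin_cl S⟩
  have hR := reduced_of hT hmin
  by_cases hab : IsMulCommutative S
  · exact ⟨⊤, ⊤, goodPair_of hT top_ne_bot top_ne_bot inferInstance inferInstance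
      (fun x _ => mem_center_iff.2 fun s => hab.is_comm.comm s x)
      (works_of_abelian hS fun a b => hab.is_comm.comm a b), hR.top_cl⟩
  by_cases hZe : IsElementaryAbelian p (center S)
  swap
  · refine ⟨powerClosure p 1 (center S), ⊤, goodPair_of hT (fun h => hZe ?_) top_ne_bot ?_
      inferInstance ?_ (works_center_pow hS hR.J _), hR.top_cl⟩
    · refine ⟨inferInstance, fun z hz => ?_⟩
      have h1 : z ^ p ^ 1 ∈ powerClosure p 1 (center S) := subset_closure ⟨z, hz, rfl⟩
      rwa [h, mem_bot, pow_one] at h1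
    · refine characteristic_iff_map_le.2 fun φ => ?_
      rw [powerClosure, MonoidHom.map_closure]
      refine closure_mono ?_
      rintro _ ⟨_, ⟨x, hx, rfl⟩, rfl⟩
      exact ⟨φ x, (characteristic_iff_map_le.1 inferInstance φ : (center S).map _ ≤ _) ⟨x, hx, rfl⟩,
        map_pow φ _ _⟩
    · rw [powerClosure, closure_le]
      rintro _ ⟨x, hx, rfl⟩
      exact pow_mem hx _
  by_cases h2 : p ≠ 3 → (⊤ : Subgroup S).lowerCentralSeries 2 = ⊥
  swap
  · push Not at h2
    exact pair_core hS hT hR hZe hcore inferInstance h2.2 fun T hle => Or.inl ⟨h2.1, hle⟩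
  by_cases h3 : p = 3 → (⊤ : Subgroup S).lowerCentralSeries 3 = ⊥
  swap
  · push Not at h3
    exact pair_core hS hT hR hZe hcore inferInstance h3.2 fun T hle => Or.inr (Or.inl ⟨h3.1, hle⟩)
  by_cases hF : (frattini ↥(frattini S)).map (frattini S).subtype = ⊥
  swap
  · exact pair_core hS hT hR hZe hcore (frattiniFrattini_characteristic hS) hF
      fun T hle => Or.inr (Or.inr (Or.inl hle))
  by_cases hU : 3 < p → powerClosure p 1 (⊤ : Subgroup S) = ⊥
  swap
  · push Not at hU
    exact pair_core hS hT hR hZe hcore powerClosure_top_characteristic hU.2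
      fun T hle => Or.inr (Or.inr (Or.inr ⟨hU.1, h2 (by omega), hle⟩))
  obtain ⟨he, c2, c3, c5⟩ := frattini_conditions hS h2 h3 hF hU
  exact absurd ⟨hab, hR.J, hZe, he, c2, c3, c5, hR.lattice⟩ hexc

/-- The pair outside the exceptional case with an elementary abelian subgroup of largest order. -/
theorem exists_pair' [Nontrivial S] (hS : IsPGroup p S) (hcore : CoreHyp p S)
    (hexc : ¬ (Exceptional p S ∧ ∃ A ∈ maxAbelianSubgroups S, IsElementaryAbelian p A)) :
    ∃ S₁ S₂ : Subgroup S, GoodPair p S₁ S₂ := by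
  by_cases he : Exceptional p S
  · refine ⟨_, _, pair_frattini hS ?_ (frattiniJoin_ne_bot hS fun h => hexc ⟨he, h⟩)⟩
    show centralizer (zJ S : Set S) = ⊤
    unfold zJ
    rw [he.2.1, top_inf_eq, coe_top, centralizer_univ]
    exact centralizer_eq_top_iff_subset.2 subset_rfl
  · obtain ⟨S₁, S₂, h, -⟩ := exists_pair hS hcore he
    exact ⟨S₁, S₂, h⟩

omit [Finite S] [Fact p.Prime] in
/-- The pair applies to `P ≤ G` with `e : S ≃* P`. -/
theorem Works.apply {S₁ S₂ : Subgroup S} (h : Works p S₁ S₂) {G : Type u} [Group G] [Finite G]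
    (P : Subgroup G) (e : S ≃* ↥P) (hE : IsPushingUpSituation p P) :
    (S₁.map (P.subtype.comp e.toMonoidHom)).Normal ∨ (S₂.map (P.subtype.comp e.toMonoidHom)).Normal := by
  refine h G _ (P.subtype_injective.comp e.injective) ?_
  rwa [MonoidHom.range_comp, MonoidHom.range_eq_top_of_surjective _ e.surjective,
    ← MonoidHom.range_eq_map, range_subtype]

end

section Statements

theorem result_S2991 {p : ℕ} [Fact p.Prime] (S : Type u) [Group S] [Finite S] [Nontrivial S] (hS : IsPGroup p S) (hexc : ¬ (¬ IsMulCommutative S ∧ thompsonSubgroupA S = ⊤ ∧ IsElementaryAbelian p (Subgroup.center S) ∧ IsElementaryAbelian p (frattini S) ∧ (p = 2 → frattini S ≤ Subgroup.center S) ∧ (p = 3 → frattini S ≤ Subgroup.upperCentralSeries S 2) ∧ (3 < p → frattini S ≤ Subgroup.center S ∧ Monoid.exponent S = p) ∧ (∀ A ∈ maxAbelianSubgroups S, ∀ B ∈ maxAbelianSubgroups S, ∀ Q : Subgroup S, Nat.card ↥A ^ 2 = Nat.card S * Nat.card ↥(Subgroup.center S) ∧ Nat.card ↥Q * Nat.card ↥(Subgroup.center ↥Q) ≤ Nat.card S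 * Nat.card ↥(Subgroup.center S) ∧ ((A ⊔ B : Subgroup S) : Set S) = (A : Set S) * (B : Set S) ∧ A ⊔ B = Subgroup.centralizer ((A ⊓ B : Subgroup S) : Set S)))) (hcore : CoreHyp p S) : ∃ S₁ S₂ : Subgroup S, S₁ ≠ ⊥ ∧ S₂ ≠ ⊥ ∧ S₁.Characteristic ∧ S₂.Characteristic ∧ S₁ ≤ Subgroup.center S ∧ S₂ ≤ Subgroup.centralizer ((thompsonSubgroupA S ⊓ Subgroup.centralizer (thompsonSubgroupA S : Set S) : Subgroup S) : Set S) ∧ (S₂.subgroupOf (Subgroup.centralizer ((thompsonSubgroupA S ⊓ Subgroup.centralizer (thompsonSubgroupA S : Set S) : Subgroup S) : Set S))).Characteristic ∧ maxCentralProduct ↥S₂ = maxCentralProduct ↥(Subgroup.centralizer ((thompsonSubgroupA S ⊓ Subgroup.centralizer (thompsonSubgroupA S : Set S) : Subgroup S) : Set S)) ∧ ∀ (G : Type u) [Group G] [Finite G] (P : Subgroup G) (e : S ≃* ↥P), IsPushingUpSituation p P → ((S₁).map ((P.subtype).comp (e : S ≃* ↥P).toMonoidHom)).Normal ∨ ((S₂).map ((P.subtype).comp (e : S ≃* ↥P).toMonoidHom)).Normal := by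
  obtain ⟨S₁, S₂, h, hcl⟩ := exists_pair hS hcore hexc
  exact ⟨S₁, S₂, h.ne₁, h.ne₂, h.char₁, h.char₂, h.le₁, h.le₂, h.sub₂, hcl,
    fun G _ _ P e hE => h.works.apply P e hE⟩

theorem result_S2988 {p : ℕ} [Fact p.Prime] (S : Type u) [Group S] [Finite S] [Nontrivial S] (hS : IsPGroup p S) (hexc : ¬ (¬ IsMulCommutative S ∧ thompsonSubgroupA S = ⊤ ∧ IsElementaryAbelian p (Subgroup.center S) ∧ IsElementaryAbelian p (frattini S) ∧ (p = 2 → frattini S ≤ Subgroup.center S) ∧ (p = 3 → frattini S ≤ Subgroup.upperCentralSeries S 2) ∧ (3 < p → frattini S ≤ Subgroup.center S ∧ Monoid.exponent S = p) ∧ (∃ A ∈ maxAbelianSubgroups S, IsElementaryAbelian p A) ∧ (∀ A ∈ maxAbelianSubgroups S, ∀ B ∈ maxAbelianSubgroups S, ∀ Q : Subgroup S, Nat.card ↥A ^ 2 = Nat.card S * Nat.card ↥(Subgroup.center S) ∧ Nat.card ↥Q * Nat.card ↥(Subgroup.center ↥Q) ≤ Nat.card S * Nat.card ↥(Subgroup.center S) ∧ ((A ⊔ B : Subgroup S) : Set S) = (A : Set S) * (B : Set S) ∧ A ⊔ B = Subgroup.centralizer ((A ⊓ B : Subgroup S) : Set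 S)))) (hcore : CoreHyp p S) : ∃ S₁ S₂ : Subgroup S, S₁ ≠ ⊥ ∧ S₂ ≠ ⊥ ∧ S₁.Characteristic ∧ S₂.Characteristic ∧ S₁ ≤ Subgroup.center S ∧ S₂ ≤ Subgroup.centralizer ((thompsonSubgroupA S ⊓ Subgroup.centralizer (thompsonSubgroupA S : Set S) : Subgroup S) : Set S) ∧ (S₂.subgroupOf (Subgroup.centralizer ((thompsonSubgroupA S ⊓ Subgroup.centralizer (thompsonSubgroupA S : Set S) : Subgroup S) : Set S))).Characteristic ∧ ∀ (G : Type u) [Group G] [Finite G] (P : Subgroup G) (e : S ≃* ↥P), IsPushingUpSituation p P → ((S₁).map ((P.subtype).comp (e : S ≃* ↥P).toMonoidHom)).Normal ∨ ((S₂).map ((P.subtype).comp (e : S ≃* ↥P).toMonoidHom)).Normal := by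
  obtain ⟨S₁, S₂, h⟩ := exists_pair' hS hcore fun ⟨he, hA⟩ => hexc
    ⟨he.1, he.2.1, he.2.2.1, he.2.2.2.1, he.2.2.2.2.1, he.2.2.2.2.2.1, he.2.2.2.2.2.2.1, hA,
      he.2.2.2.2.2.2.2⟩
  exact ⟨S₁, S₂, h.ne₁, h.ne₂, h.char₁, h.char₂, h.le₁, h.le₂, h.sub₂,
    fun G _ _ P e hE => h.works.apply P e hE⟩

theorem result_S2808 {S : Type u} [Group S] [Finite S] {p : ℕ} [Fact p.Prime] (hS : IsPGroup p S) (S₀ : Subgroup S) (hS₀ : S₀ = if p = 2 then ⁅frattini S, (⊤ : Subgroup S)⁆ ⊔ (frattini ↥(frattini S)).map (frattini S).subtype else if p = 3 then ⁅⁅frattini S, (⊤ : Subgroup S)⁆, (⊤ : Subgroup S)⁆ ⊔ (frattini ↥(frattini S)).map (frattini S).subtype else ⁅frattini S, (⊤ : Subgroup S)⁆ ⊔ powerClosure p 1 (⊤ : Subgroup S)) (h : ⁅thompsonSubgroupA S ⊓ Subgroup.centralizer (thompsonSubgroupA S : Set S), (⊤ : Subgroup S)⁆ ≠ ⊥ ∨ S₀ ≠ ⊥) (hcore : CoreHyp p S) : ∃ S₁ S₂ : Subgroup S, S₁ ≠ ⊥ ∧ S₂ ≠ ⊥ ∧ S₁.Characteristic ∧ S₂.Characteristic ∧ S₁ ≤ Subgroup.center S ∧ S₂ ≤ Subgroup.centralizer ((thompsonSubgroupA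 S ⊓ Subgroup.centralizer (thompsonSubgroupA S : Set S) : Subgroup S) : Set S) ∧ (S₂.subgroupOf (Subgroup.centralizer ((thompsonSubgroupA S ⊓ Subgroup.centralizer (thompsonSubgroupA S : Set S) : Subgroup S) : Set S))).Characteristic ∧ ∀ (G : Type u) [Group G] [Finite G] (τ : S →* G), Function.Injective τ → (∃ P : Sylow p G, (P : Subgroup G) = τ.range) → Subgroup.centralizer (pCore p G : Set G) ≤ pCore p G → (∃! M : Subgroup G, IsCoatom M ∧ τ.range ≤ M) → (∃ (K : Subgroup G) (_ : K.Normal) (F : Type) (_ : Field F) (_ : Fintype F) (n : ℕ), 1 ≤ n ∧ Fintype.card F = p ^ n ∧ Nonempty (G ⧸ K ≃* Matrix.ProjectiveSpecialLinearGroup (Fin 2) F)) → (S₁.map τ).Normal ∨ (S₂.map τ).Normal := by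
  have : Nontrivial S := by
    by_contra hn
    rw [not_nontrivial_iff_subsingleton] at hn
    exact h.elim (fun h => h (Subsingleton.elim _ _)) (fun h => h (Subsingleton.elim _ _))
  have hexc : ¬ (Exceptional p S ∧ ∃ A ∈ maxAbelianSubgroups S, IsElementaryAbelian p A) := by
    rintro ⟨⟨-, hJ, -, hel, c2, c3, c5, -⟩, -⟩
    refine h.elim (fun h1 => h1 ?_) fun h2 => h2 ?_
    · rw [commutator_eq_bot_iff_le_centralizer, hJ, top_inf_eq, coe_top, centralizer_univ]
    have hFF : (frattini ↥(frattini S)).map (frattini S).subtype = ⊥ := by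
      rw [PGroupsBasic.frattini_eq_bot_of_elementary (p := p) (fun a b => hel.1.is_comm.comm a b)
        (fun a => Subtype.ext (by simpa using hel.2 _ a.2)), Subgroup.map_bot]
    have hcen : frattini S ≤ center S → ⁅frattini S, (⊤ : Subgroup S)⁆ = ⊥ := fun hc => by
      rwa [commutator_eq_bot_iff_le_centralizer, coe_top, centralizer_univ]
    rw [hS₀]
    split_ifs with hp2 hp3
    · rw [hFF, hcen (c2 hp2), sup_bot_eq]
    · rw [hFF, sup_bot_eq, commutator_eq_bot_iff_le_centralizer, coe_top, centralizer_univ,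
        commutator_le]
      intro x hx y _
      have hxy := Subgroup.mem_upperCentralSeries_succ_iff.1 (c3 hp3 hx) y
      rw [Subgroup.upperCentralSeries_one] at hxy
      simpa [commutatorElement_def] using hxy
    · have hp5 : 3 < p := by
        have := (Fact.out : p.Prime).two_le
        omega
      rw [hcen (c5 hp5).1, bot_sup_eq, powerClosure, closure_eq_bot_iff]
      rintro _ ⟨x, -, rfl⟩
      rw [pow_one, ← (c5 hp5).2]
      exact Monoid.pow_exponent_eq_one x
  obtain ⟨S₁, S₂, hg⟩ := exists_pair' hS hcore hexc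
  refine ⟨S₁, S₂, hg.ne₁, hg.ne₂, hg.char₁, hg.char₂, hg.le₁, hg.le₂, hg.sub₂, ?_⟩
  rintro G _ _ f hf ⟨P, hP⟩ hc hM ⟨K, hK, F, _, _, n, -, hF, he⟩
  refine hg.works G f hf ?_
  rw [← hP] at hM ⊢
  exact PushingUpJT.situation P hc hM K F n hF he

end Statements

end Cfsg.Agent.PushFamily
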