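import Mathlib
import Cfsg.Agent.Lib.PushFamPair

/-!
Pushing up, uniform version: the choice of the central subgroup whose bad embeddings form a family in
which every critical path can be extended.

The embeddings are sorted by a predicate `Tm` ("tame"), about which only three properties are used.
-/

set_option autoImplicit false

namespace Cfsg.Agent.PushFamily

open Subgroup Cfsg
open Cfsg.Agent.ChermakDelgado
open scoped commutatorElement

universe u

variable {S : Type u} [Group S] {p : ℕ}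

/-- An embedding in the pushing up situation with `Z(S)` not central and `S ≠ O_p(G)`. -/
structure Member (p : ℕ) (G : Type u) [Group G] (f : S →* G) : Prop where
  fin : Finite G
  inj : Function.Injective f
  sit : IsPushingUpSituation p f.range
  not_central : ¬ (center S).map f ≤ center G
  not_core : ¬ f.range ≤ pCore p G

/-- `O_p(G)` pulled back. -/
def qS (p : ℕ) {G : Type u} [Group G] (f : S →* G) : Subgroup S := (pCore p G).comap f

/-- `W` pulled back. -/
def wS (p : ℕ) {G : Type u} [Group G] (f : S →* G) : Subgroup S :=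
  (PushingUpCL.wSub p f.range).comap f

/-- The elements of order prime to `p` centralise `O_p(G) / W`. -/
def NonWild (p : ℕ) {G : Type u} [Group G] (f : S →* G) : Prop :=
  ∀ x : G, p.Coprime (orderOf x) → ∀ q ∈ pCore p G, ⁅x, q⁆ ∈ PushingUpCL.wSub p f.range

/-- Central commutators inside `O_p(G)` are central in `G`. -/
def Even (p : ℕ) {G : Type u} [Group G] (f : S →* G) : Prop :=
  ∀ v ∈ qS p f, ∀ q ∈ qS p f, ⁅v, q⁆ ∈ center S → f ⁅v, q⁆ ∈ center G

/-- `G` centralises `X` modulo `W`. -/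
def Rho (p : ℕ) {G : Type u} [Group G] (f : S →* G) (X : Subgroup S) : Prop :=
  ∀ g : G, ∀ v ∈ X, ⁅g, f v⁆ ∈ PushingUpCL.wSub p f.range

theorem qS_comp {G : Type u} [Group G] (f : S →* G) (φ : S ≃* S) :
    qS p (f.comp φ.toMonoidHom) = (qS p f).comap φ.toMonoidHom := (Subgroup.comap_comap _ _ _).symm

theorem range_comp_equiv {G : Type u} [Group G] (f : S →* G) (φ : S ≃* S) :
    (f.comp φ.toMonoidHom).range = f.range := by
  rw [MonoidHom.range_comp, MonoidHom.range_eq_top_of_surjective _ φ.surjective,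
    ← MonoidHom.range_eq_map]

theorem wS_comp {G : Type u} [Group G] (f : S →* G) (φ : S ≃* S) :
    wS p (f.comp φ.toMonoidHom) = (wS p f).map φ.symm.toMonoidHom := by
  unfold wS
  rw [range_comp_equiv, ← Subgroup.comap_comap]
  exact (Subgroup.map_equiv_eq_comap_symm' φ.symm _).symm

theorem Member.comp {G : Type u} [Group G] {f : S →* G} (h : Member p G f) (φ : S ≃* S) :
    Member p G (f.comp φ.toMonoidHom) where
  fin := h.fin
  inj := h.inj.comp φ.injective
  sit := by rw [range_comp_equiv]; exact h.sit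
  not_central := by
    rw [← Subgroup.map_map, characteristic_iff_map_eq.1 inferInstance φ]
    exact h.not_central
  not_core := by rw [range_comp_equiv]; exact h.not_core

variable [Finite S] [Fact p.Prime]

/-- The bad embeddings are members. -/
theorem Bad.member {T : Subgroup S} (hTc : T.Characteristic) (hTle : T ≤ center S)
    {G : Type u} [Group G] {f : S →* G} (h : Bad p T G f) : Member p G f := by
  obtain ⟨hG, hf, hE, hn⟩ := h
  refine ⟨hG, hf, hE, fun hc => hn (PGroupsBasic.normal_of_le_center ((map_mono hTle).trans hc)),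
    fun hc => hn (map_normal_of_range hf hTc ?_)⟩
  rw [le_antisymm hc (PushingUpCL.pCore_le hE)]
  exact HallCore.pCore_normal p G

/-- What is used about one member. -/
structure MemData (p : ℕ) {G : Type u} [Group G] (f : S →* G) : Prop where
  large : IsCentralizerLarge (qS p f)
  centQ : centralizer (qS p f : Set S) = wS p f
  centW : centralizer (wS p f : Set S) = qS p f
  w_le : wS p f ≤ qS p f
  center_le : center S ≤ wS p f
  moved : ¬ wS p f ≤ center S
  fix : ∀ s, s ∉ qS p f → ∀ w ∈ wS p f, s * w = w * s → w ∈ center S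
  quad : ∀ w ∈ wS p f, ∀ s, ⁅w, s⁆ ∈ center S

variable (hR : Reduced S) (hZe : IsElementaryAbelian p (center S))
include hR hZe

theorem Member.data {G : Type u} [Group G] {f : S →* G} (h : Member p G f) : MemData p f := by
  have := h.fin
  have hf := h.inj
  have hE := h.sit
  have hQS := PushingUpCL.pCore_le hE
  have hZ : ¬ f.range ⊓ centralizer (f.range : Set G) ≤ center G := by
    rw [← map_center_eq_range hf]; exact h.not_central
  have hJ : ¬ thompsonSubgroupAOf f.range ≤ pCore p G := by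
    rw [← map_thompson hf, hR.J, ← MonoidHom.range_eq_map]; exact h.not_core
  obtain ⟨M, hF, -⟩ := PushAmalgam.exists_facts_of hE hZ hJ
  set Z' := PushingUpCL.wSub p f.range ⊓ centralizer (f.range : Set G) with hZ'
  have hcW : ∀ z ∈ center S, f z ∈ PushingUpCL.wSub p f.range := fun z hz => by
    refine subset_normalClosure ⟨⟨z, rfl⟩, ?_, by rw [← map_pow, hZe.2 z hz, map_one]⟩
    rintro _ ⟨s, rfl⟩
    rw [← map_mul, ← map_mul, mem_center_iff.1 hz s]
  have hback : ∀ z, f z ∈ Z' → z ∈ center S := fun z hz => mem_center_iff.2 fun s => hf (by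
    rw [map_mul, map_mul]; exact hz.2 (f s) ⟨s, rfl⟩)
  have hZeq : Z' = (center S).map f := by
    refine le_antisymm (fun y hy => ?_) ?_
    · obtain ⟨z, rfl⟩ := (hF.W_le.trans hF.Q_le) hy.1
      exact mem_map_of_mem f (hback z hy)
    · rintro _ ⟨z, hz, rfl⟩
      exact ⟨hcW z hz, ((map_center_eq_range hf).le (mem_map_of_mem f hz)).2⟩
  have hQm : (qS p f).map f = pCore p G := map_comap_eq_self hQS
  have hWm : (wS p f).map f = PushingUpCL.wSub p f.range :=
    map_comap_eq_self (hF.W_le.trans hF.Q_le)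
  have hcard : Nat.card (qS p f) * Nat.card (wS p f) = maxCentralizerProduct S := by
    rw [← card_map_of_injective hf (K := qS p f), ← card_map_of_injective hf (K := wS p f), hQm, hWm,
      ← hF.card_off, hZeq, card_map_of_injective hf, hR.max, ← Nat.card_congr
        (MonoidHom.ofInjective hf).toEquiv]
  have hWC : wS p f ≤ centralizer (qS p f : Set S) := fun w hw q hq => hf (by
    rw [map_mul, map_mul]; exact hF.W_comm (f q) hq (f w) hw)
  have hQl : IsCentralizerLarge (qS p f) :=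
    large_iff.2 (hcard ▸ Nat.mul_le_mul_left _ (card_le_of_le hWC))
  have hWeq : wS p f = centralizer (qS p f : Set S) :=
    eq_of_le_of_card_ge hWC (le_of_mul_le_mul_left (hcard.symm ▸ cdm_le_max (qS p f)) Nat.card_pos)
  refine ⟨hQl, hWeq.symm, by rw [hWeq, centralizer_centralizer_eq hQl], fun w hw => hF.W_le hw,
    fun z hz => hcW z hz, fun hle => hF.moved ?_, fun s hs w hw hc => hback w ?_, fun w hw s => ?_⟩
  · -- `W = Z` would make `Z` central
    intro z hz
    by_contra hzC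
    obtain ⟨g, hg, hgM⟩ := hF.out
    have hW : ∀ w ∈ PushingUpCL.wSub p f.range, w ∈ Z' := fun w hw => by
      rw [← hWm] at hw
      rw [hZeq]
      exact map_mono hle hw
    refine hzC ((hF.inter g hg hgM).le ⟨hz, ?_⟩)
    refine ⟨g⁻¹ * z * g, hW _ ?_, by simp [mul_assoc]⟩
    have := (normalClosure_normal : (PushingUpCL.wSub p f.range).Normal).conj_mem z (hF.Z_le hz) g⁻¹
    rwa [inv_inv] at this
  · exact hF.fix (f s) ⟨s, rfl⟩ hs (f w) hw (by rw [← map_mul, hc, map_mul])
  · exact hback _ (by rw [map_commutatorElement]; exact hF.quad (f s) ⟨s, rfl⟩ (f w) hw)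

omit [Finite S] hR hZe

/-- An element of order prime to `p` lies in every normal subgroup with `K ⊔ S = ⊤`. -/
theorem mem_of_coprime {G : Type u} [Group G] {R : Subgroup G} (hRp : IsPGroup p R)
    (K : Subgroup G) [K.Normal] (h : K ⊔ R = ⊤) {x : G} (hx : p.Coprime (orderOf x)) : x ∈ K := by
  have hsurj : Function.Surjective ((QuotientGroup.mk' K).comp R.subtype) := by
    rw [← MonoidHom.range_eq_top, MonoidHom.range_comp, range_subtype]
    have : (K ⊔ R).map (QuotientGroup.mk' K) = R.map (QuotientGroup.mk' K) := by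
      rw [Subgroup.map_sup, QuotientGroup.map_mk'_self, bot_sup_eq]
    rw [← this, h, map_top_of_surjective _ (QuotientGroup.mk'_surjective K)]
  obtain ⟨k, hk⟩ := (hRp.of_surjective _ hsurj) (QuotientGroup.mk' K x)
  have h1 : orderOf (QuotientGroup.mk' K x) ∣ Nat.gcd (p ^ k) (orderOf x) :=
    Nat.dvd_gcd (orderOf_dvd_of_pow_eq_one hk) (orderOf_map_dvd _ x)
  rw [(hx.pow_left k).gcd_eq_one, Nat.dvd_one, orderOf_eq_one_iff] at h1
  exact (QuotientGroup.eq_one_iff x).1 h1

omit [Fact p.Prime] in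
/-- A normal subgroup containing `S` is everything. -/
theorem eq_top_of_range_le {G : Type u} [Group G] [Finite G] [Fact p.Prime] {R : Subgroup G}
    (hE : IsPushingUpSituation p R) (hne : ¬ R ≤ pCore p G) (K : Subgroup G) [K.Normal]
    (h : R ≤ K) : K = ⊤ := by
  have := PushingUpCL.normal_sup hE K fun hle => hne ((le_inf le_rfl h).trans hle)
  rwa [sup_eq_left.2 h] at this

/-- The elements of `G` centralising a normal set modulo a normal subgroup. -/
def modCent {G : Type u} [Group G] (W : Subgroup G) [W.Normal] (X : Set G) : Subgroup G :=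
  PushAmalgam.comSub ⊤ W X (by rw [normalizer_eq_top_iff.2 inferInstance])

theorem mem_modCent {G : Type u} [Group G] {W : Subgroup G} [W.Normal] {X : Set G} {g : G} :
    g ∈ modCent W X ↔ ∀ v ∈ X, ⁅g, v⁆ ∈ W :=
  ⟨fun h => h.2, fun h => ⟨mem_top g, h⟩⟩

theorem modCent_normal {G : Type u} [Group G] (W : Subgroup G) [hW : W.Normal] {X : Set G}
    (hX : ∀ g : G, ∀ v ∈ X, g * v * g⁻¹ ∈ X) : (modCent W X).Normal := by
  refine ⟨fun a ha g => mem_modCent.2 fun v hv => ?_⟩
  have h := hW.conj_mem _ (mem_modCent.1 ha _ (hX g⁻¹ v hv)) g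
  convert h using 1
  simp only [commutatorElement_def]
  group

omit [Fact p.Prime]

variable [Fact p.Prime]

/-- One element outside `O_p(G)` centralising `O_p(G) / W` makes `G` non-wild. -/
theorem nonWild_of {G : Type u} [Group G] {f : S →* G} (h : Member p G f)
    {u : S} (hu : u ∉ qS p f) (hc : ∀ q ∈ qS p f, ⁅u, q⁆ ∈ wS p f) : NonWild p f := by
  have := h.fin
  have hW : (PushingUpCL.wSub p f.range).Normal := normalClosure_normal
  have hQ : (pCore p G).Normal := HallCore.pCore_normal p G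
  set K := modCent (PushingUpCL.wSub p f.range) (pCore p G : Set G)
  have hK : K.Normal := modCent_normal _ fun g v hv => hQ.conj_mem v hv g
  have huK : f u ∈ K := mem_modCent.2 fun y hy => by
    obtain ⟨q, rfl⟩ := PushingUpCL.pCore_le h.sit hy
    rw [← map_commutatorElement]
    exact hc q hy
  have htop := PushingUpCL.normal_sup h.sit K fun hle => hu (hle ⟨⟨u, rfl⟩, huK⟩)
  intro x hx q hq
  exact mem_modCent.1 (mem_of_coprime (PushingUpCL.isPGroup h.sit) K htop hx) q hq

/-- Non-wild members are even. -/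
theorem even_of_nonWild {G : Type u} [Group G] {f : S →* G} (h : Member p G f) (hn : NonWild p f) :
    Even p f := by
  intro v hv q hq hc
  have := h.fin
  have hW : (PushingUpCL.wSub p f.range).Normal := normalClosure_normal
  have hQ : (pCore p G).Normal := HallCore.pCore_normal p G
  set c := f ⁅v, q⁆ with hcdef
  have hS : f.range ≤ centralizer {c} := by
    rintro _ ⟨s, rfl⟩
    exact mem_centralizer_singleton_iff.2 (by rw [hcdef, ← map_mul, ← map_mul, mem_center_iff.1 hc s])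
  have hwq : ∀ w ∈ PushingUpCL.wSub p f.range, ∀ y ∈ pCore p G, y * w = w * y := fun w hw y hy =>
    PushingUpJT.q_w h.sit hy hw
  have hx : ∀ x : G, p.Coprime (orderOf x) → x ∈ centralizer {c} := fun x hx => by
    refine mem_centralizer_singleton_iff.2 ?_
    have e : x * ⁅f v, f q⁆ * x⁻¹ = ⁅⁅x, f v⁆ * f v, ⁅x, f q⁆ * f q⁆ := by
      simp only [commutatorElement_def]; group
    have h1 := hn x hx _ hv
    have h2 := hn x hx _ hq
    set a := ⁅x, f v⁆
    set b := ⁅x, f q⁆
    have ha : Commute (f q) a := hwq a h1 (f q) hq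
    have hb : Commute (f v) b := hwq b h2 (f v) hv
    have hab : Commute a b := hwq b h2 a (PushingUpJT.w_le_q h.sit h1)
    have hav : Commute (f v) a := hwq a h1 (f v) hv
    have hbq : Commute (f q) b := hwq b h2 (f q) hq
    have h3 : x * ⁅f v, f q⁆ * x⁻¹ = ⁅f v, f q⁆ := by
      rw [e]
      simp only [commutatorElement_def, mul_inv_rev]
      calc a * f v * (b * f q) * ((f v)⁻¹ * a⁻¹) * ((f q)⁻¹ * b⁻¹)
          = a * b * (f v * f q * (f v)⁻¹ * (f q)⁻¹) * a⁻¹ * b⁻¹ := by
            have c1 : f v * b = b * f v := hb.eq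
            have c2 : a⁻¹ * (f q)⁻¹ = (f q)⁻¹ * a⁻¹ := (ha.inv_inv).symm.eq
            calc a * f v * (b * f q) * ((f v)⁻¹ * a⁻¹) * ((f q)⁻¹ * b⁻¹)
                = a * (f v * b) * f q * (f v)⁻¹ * (a⁻¹ * (f q)⁻¹) * b⁻¹ := by group
              _ = a * (b * f v) * f q * (f v)⁻¹ * ((f q)⁻¹ * a⁻¹) * b⁻¹ := by rw [c1, c2]
              _ = _ := by group
        _ = f v * f q * (f v)⁻¹ * (f q)⁻¹ := by
            have c3 : Commute (a * b) (f v * f q * (f v)⁻¹ * (f q)⁻¹) :=
              ((((hav.symm.mul_left hb.symm).mul_right (ha.symm.mul_left hbq.symm)).mul_right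
                (hav.symm.mul_left hb.symm).inv_right).mul_right (ha.symm.mul_left hbq.symm).inv_right)
            rw [c3.eq, show ∀ z : G, z * (a * b) * a⁻¹ * b⁻¹ = z * (a * b * a⁻¹ * b⁻¹) from
              fun z => by group, hab.eq]
            group
    rw [← map_commutatorElement, ← hcdef] at h3
    exact mul_inv_eq_iff_eq_mul.1 h3
  set H := closure {x : G | p.Coprime (orderOf x)}
  have hH : H.Normal := by
    refine PushingUpCL.normal_of_conj_le fun g => ?_
    rw [MonoidHom.map_closure]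
    refine closure_mono ?_
    rintro _ ⟨y, hy, rfl⟩
    show p.Coprime (orderOf (MulAut.conj g y))
    rwa [MulEquiv.orderOf_eq]
  have hHS : H ⊔ f.range = ⊤ := by
    obtain ⟨P, hP⟩ := h.sit.2.1
    have hpq : IsPGroup p (G ⧸ H) := fun y => by
      obtain ⟨g, rfl⟩ := QuotientGroup.mk'_surjective H y
      refine ⟨(orderOf g).factorization p, ?_⟩
      rw [← map_pow, QuotientGroup.mk'_apply, QuotientGroup.eq_one_iff]
      refine subset_closure ?_
      show p.Coprime _
      rw [orderOf_pow_of_dvd (pow_ne_zero _ (Fact.out : p.Prime).ne_zero) (Nat.ordProj_dvd _ _)]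
      exact Nat.coprime_ordCompl (Fact.out : p.Prime) (orderOf_pos g).ne'
    obtain ⟨n, hn⟩ := IsPGroup.iff_card.1 hpq
    have hdvd : (H ⊔ f.range).index ∣ p ^ n := by
      rw [← hn, ← index_eq_card]; exact index_dvd_of_le le_sup_left
    obtain ⟨i, -, hi⟩ := (Nat.dvd_prime_pow (Fact.out : p.Prime)).1 hdvd
    rw [← index_eq_one, hi]
    rcases i with _ | i
    · simp
    · have h1 : p ∣ (P : Subgroup G).index :=
        (Dvd.intro_left _ (pow_succ p i).symm).trans
          (hi ▸ index_dvd_of_le (hP ▸ le_sup_right))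
      exact absurd h1 (P.not_dvd_index)
  have hle : H ⊔ f.range ≤ centralizer {c} := sup_le ((closure_le _).2 fun x hx' => hx x hx') hS
  rw [hHS] at hle
  exact mem_center_iff.2 fun m => mem_centralizer_singleton_iff.1 (hle (mem_top m))

/-- The subgroup of elements whose commutators are central. -/
def quadSub (S : Type u) [Group S] : Subgroup S where
  carrier := {v | ∀ s, ⁅v, s⁆ ∈ center S}
  one_mem' s := by rw [commutatorElement_one_left]; exact one_mem _
  mul_mem' {a b} ha hb s := by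
    rw [show ⁅a * b, s⁆ = a * ⁅b, s⁆ * a⁻¹ * ⁅a, s⁆ by simp only [commutatorElement_def]; group,
      mem_center_iff.1 (hb s) a, mul_inv_cancel_right]
    exact mul_mem (hb s) (ha s)
  inv_mem' {a} ha s := by
    have h := ha s
    rw [show ⁅a⁻¹, s⁆ = a⁻¹ * ⁅a, s⁆⁻¹ * a by simp only [commutatorElement_def]; group,
      mem_center_iff.1 (inv_mem h) a⁻¹, inv_mul_cancel_right]
    exact inv_mem h

variable [Finite S]
include hR hZe

/-- If one `W` is not below the other `O_p`, neither is the other. -/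
theorem not_le_symm {G : Type u} [Group G] {f : S →* G} (hi : Member p G f)
    {H : Type u} [Group H] {g : S →* H} (hl : Member p H g) (hle : ¬ wS p g ≤ qS p f) :
    ¬ wS p f ≤ qS p g := by
  have di := hi.data hR hZe
  have dl := hl.data hR hZe
  exact fun h1 => hle fun w' hw' => di.centW.le fun y hy => (dl.centW.ge (h1 hy) w' hw').symm

/-- If `W_g` is not below `O_p` of `f`, then `S = W_f O_p(g)`. -/
theorem exists_mul_W {G : Type u} [Group G] {f : S →* G} (hi : Member p G f)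
    {H : Type u} [Group H] {g : S →* H} (hl : Member p H g) (hle : ¬ wS p g ≤ qS p f) (s : S) :
    ∃ w ∈ wS p f, ∃ r ∈ qS p g, s = w * r := by
  have di := hi.data hR hZe
  have dl := hl.data hR hZe
  have hWl : IsCentralizerLarge (wS p f) := di.centQ ▸ large_centralizer di.large
  obtain ⟨hset, -⟩ := large_card_eqs hWl dl.large
  have hsup : wS p f ⊔ qS p g = ⊤ := by
    have h' : cdm (wS p f ⊔ qS p g) = _ := (large_sup_inf hWl dl.large).1
    unfold cdm at h'
    rw [centralizer_sup_eq, di.centW, dl.centQ, hR.max] at h'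
    have hc2 : qS p f ⊓ wS p g ≤ center S := by
      intro w hw
      obtain ⟨u', hu', hu''⟩ := SetLike.not_le_iff_exists.1 (not_le_symm hR hZe hi hl hle)
      exact dl.fix u' hu'' w hw.2 (di.centW.ge hw.1 u' hu')
    refine eq_top_of_le_card _ ?_
    refine le_of_mul_le_mul_right ?_ (Nat.card_pos : 0 < Nat.card ↥(center S))
    rw [← h']
    exact Nat.mul_le_mul_left _ (card_le_of_le hc2)
  have hs : s ∈ ((wS p f ⊔ qS p g : Subgroup S) : Set S) := hsup.symm ▸ mem_top s
  rw [hset] at hs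
  obtain ⟨w, hw, r, hr, rfl⟩ := Set.mem_mul.1 hs
  exact ⟨w, hw, r, hr, rfl⟩

omit hR hZe in
/-- `W` is elementary abelian. -/
theorem wS_elementary {G : Type u} [Group G] {f : S →* G} (h : Member p G f) :
    IsElementaryAbelian p (wS p f) := by
  have := h.fin
  refine ⟨⟨⟨fun a b => Subtype.ext (h.inj ?_)⟩⟩, fun a ha => h.inj ?_⟩
  · show f ((a : S) * b) = f ((b : S) * a)
    rw [map_mul, map_mul]
    exact PushingUpCL.wSub_comm h.sit a.2 b.2
  · rw [map_pow, map_one]
    exact PushingUpCL.wSub_pow h.sit ha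

/-- A member with some `W` outside `O_p` is non-wild, with an elementary abelian supplement. -/
theorem nonWild_of_not_le {G : Type u} [Group G] {f : S →* G} (hi : Member p G f)
    {H : Type u} [Group H] {g : S →* H} (hl : Member p H g) (hle : ¬ wS p g ≤ qS p f) :
    NonWild p f ∧ ∃ A : Subgroup S, IsElementaryAbelian p A ∧
      ∀ s : S, ∃ a ∈ A, ∃ q ∈ qS p f, s = a * q := by
  have di := hi.data hR hZe
  have dl := hl.data hR hZe
  obtain ⟨u, hul, hui⟩ := SetLike.not_le_iff_exists.1 hle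
  refine ⟨nonWild_of hi hui fun q hq => ?_, wS p g, wS_elementary hl, fun s =>
    exists_mul_W hR hZe hl hi (not_le_symm hR hZe hi hl hle) s⟩
  obtain ⟨w, hw, r, hr, rfl⟩ := exists_mul_W hR hZe hi hl hle q
  have hru : Commute r u := (dl.centW.ge hr u hul).symm
  rw [show ⁅u, w * r⁆ = ⁅u, w⁆ * (w * (u * r * u⁻¹ * r⁻¹) * w⁻¹) by
    simp only [commutatorElement_def]; group, hru.symm.eq, mul_inv_cancel_right, mul_inv_cancel,
    mul_one, mul_inv_cancel, mul_one, ← commutatorElement_inv]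
  exact inv_mem (di.center_le (di.quad w hw u))

/-- Two members with different `W`. -/
theorem exists_mul {G : Type u} [Group G] {f : S →* G} (hi : Member p G f)
    {H : Type u} [Group H] {g : S →* H} (hl : Member p H g) (hne : wS p f ≠ wS p g) (s : S) :
    ∃ a ∈ qS p f, ∃ b ∈ qS p g, s = a * b := by
  have di := hi.data hR hZe
  have dl := hl.data hR hZe
  have hcap : wS p f ⊓ wS p g ≤ center S := by
    intro w hw
    by_contra hwc
    have h1 : qS p f ≤ qS p g := fun s hs => by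
      by_contra hs'
      exact hwc (dl.fix s hs' w hw.2 (di.centW.ge hs w hw.1).symm)
    have h2 : qS p g ≤ qS p f := fun s hs => by
      by_contra hs'
      exact hwc (di.fix s hs' w hw.1 (dl.centW.ge hs w hw.2).symm)
    exact hne (by rw [← di.centQ, ← dl.centQ, le_antisymm h1 h2])
  have h' : cdm (qS p f ⊔ qS p g) = _ := (large_sup_inf di.large dl.large).1
  unfold cdm at h'
  rw [centralizer_sup_eq, di.centQ, dl.centQ, hR.max] at h'
  have hsup : qS p f ⊔ qS p g = ⊤ := by
    refine eq_top_of_le_card _ (le_of_mul_le_mul_right ?_ (Nat.card_pos : 0 < Nat.card ↥(center S)))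
    rw [← h']
    exact Nat.mul_le_mul_left _ (card_le_of_le hcap)
  obtain ⟨hset, -⟩ := large_card_eqs di.large dl.large
  have hs : s ∈ ((qS p f ⊔ qS p g : Subgroup S) : Set S) := hsup.symm ▸ mem_top s
  rw [hset] at hs
  obtain ⟨a, ha, b, hb, rfl⟩ := Set.mem_mul.1 hs
  exact ⟨a, ha, b, hb, rfl⟩

/-- Normalising `X` gives `Rho`. -/
theorem rho_of_normal {G : Type u} [Group G] {f : S →* G} (h : Member p G f) {X : Subgroup S}
    (hX : ∀ v ∈ X, ∀ s, ⁅v, s⁆ ∈ center S) (hn : (X.map f).Normal) : Rho p f X := by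
  have := h.fin
  have hW : (PushingUpCL.wSub p f.range).Normal := normalClosure_normal
  set K := modCent (PushingUpCL.wSub p f.range) ((X.map f : Subgroup G) : Set G)
  have hK : K.Normal := modCent_normal _ fun g v hv => hn.conj_mem v hv g
  have hle : f.range ≤ K := by
    rintro _ ⟨s, rfl⟩
    refine mem_modCent.2 ?_
    rintro _ ⟨v, hv, rfl⟩
    rw [← map_commutatorElement, ← commutatorElement_inv, map_inv]
    exact inv_mem ((h.data hR hZe).center_le (hX v hv s))
  intro g v hv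
  have htop := eq_top_of_range_le h.sit h.not_core K hle
  exact mem_modCent.1 (htop.symm ▸ mem_top g : g ∈ K) _ (mem_map_of_mem f hv)

omit hR hZe

/-- The selection: a set of `W`s closed under automorphisms, with all the data for the critical paths. -/
structure Selection (p : ℕ) (Tm : ∀ (G : Type u) [Group G], (S →* G) → Prop)
    (𝕋 : Set (Subgroup S)) : Prop where
  nonempty : 𝕋.Nonempty
  closed : ∀ φ : S ≃* S, ∀ w ∈ 𝕋, w.map φ.toMonoidHom ∈ 𝕋
  wild : ∀ w ∈ 𝕋, ∃ (G : Type u) (_ : Group G) (f : S →* G), Member p G f ∧ ¬ Tm G f ∧ wS p f = w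
  outside : ∀ (G : Type u) [Group G] (f : S →* G), Member p G f → ¬ Tm G f → wS p f ∉ 𝕋 →
    Rho p f (sSup 𝕋)
  split : (∀ w ∈ 𝕋, ∃ (G : Type u) (_ : Group G) (f : S →* G), Member p G f ∧ ¬ Tm G f ∧
      wS p f = w ∧ ¬ ((sSup 𝕋).map f).Normal) ∨
    ((∀ v ∈ 𝕋, ∀ w ∈ 𝕋, ∃ φ : S ≃* S, v.map φ.toMonoidHom = w) ∧
      ∀ (G : Type u) [Group G] (f : S →* G), Member p G f → ¬ Tm G f → wS p f ∈ 𝕋 →
        ((sSup 𝕋).map f).Normal)

variable (Tm : ∀ (G : Type u) [Group G], (S →* G) → Prop)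
  (hcomp : ∀ (G : Type u) [Group G] (f : S →* G) (φ : S ≃* S), Member p G f →
    Tm G (f.comp φ.toMonoidHom) → Tm G f)
include hR hZe hcomp

theorem exists_selection
    (hex : ∃ (G : Type u) (_ : Group G) (f : S →* G), Member p G f ∧ ¬ Tm G f) :
    ∃ 𝕋 : Set (Subgroup S), Selection p Tm 𝕋 := by
  set WW := {w : Subgroup S | ∃ (G : Type u) (_ : Group G) (f : S →* G),
    Member p G f ∧ ¬ Tm G f ∧ wS p f = w}
  have hWWc : ∀ φ : S ≃* S, ∀ w ∈ WW, w.map φ.toMonoidHom ∈ WW := by
    rintro φ w ⟨G, _, f, hm, ht, rfl⟩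
    refine ⟨G, _, f.comp φ.symm.toMonoidHom, hm.comp _, fun h => ht (hcomp G f _ hm h), ?_⟩
    rw [wS_comp, MulEquiv.symm_symm]
  let P : Set (Subgroup S) → Prop := fun 𝕋 => 𝕋 ⊆ WW ∧ 𝕋.Nonempty ∧
    (∀ φ : S ≃* S, ∀ w ∈ 𝕋, w.map φ.toMonoidHom ∈ 𝕋) ∧
    ∀ (G : Type u) [Group G] (f : S →* G), Member p G f → ¬ Tm G f → wS p f ∉ 𝕋 →
      Rho p f (sSup 𝕋)
  obtain ⟨G₀, _, f₀, hm₀, ht₀⟩ := hex
  have hP : P WW := ⟨subset_rfl, ⟨_, G₀, _, f₀, hm₀, ht₀, rfl⟩, hWWc,
    fun G _ f hm ht hnot => absurd ⟨G, _, f, hm, ht, rfl⟩ hnot⟩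
  obtain ⟨𝕋, ⟨hsub, hne, hcl, hout⟩, hmin⟩ :=
    Set.Finite.exists_minimal (Set.toFinite {𝕋 | P 𝕋}) ⟨WW, hP⟩
  refine ⟨𝕋, hne, hcl, fun w hw => hsub hw, hout, or_iff_not_imp_left.2 fun hA => ?_⟩
  push Not at hA
  obtain ⟨w₀, hw₀, hall⟩ := hA
  set O := {w : Subgroup S | ∃ φ : S ≃* S, w₀.map φ.toMonoidHom = w}
  have hV : ∀ φ : S ≃* S, (sSup 𝕋).map φ.toMonoidHom = sSup 𝕋 := fun φ => by
    have hle : ∀ ψ : S ≃* S, (sSup 𝕋).map ψ.toMonoidHom ≤ sSup 𝕋 := fun ψ =>
      map_le_iff_le_comap.2 (sSup_le fun w hw => map_le_iff_le_comap.1 (le_sSup (hcl ψ w hw)))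
    refine le_antisymm (hle φ) ?_
    conv_lhs => rw [← map_symm_map φ.symm (sSup 𝕋)]
    exact map_mono (hle φ.symm)
  have hOnorm : ∀ (G : Type u) [Group G] (f : S →* G), Member p G f → ¬ Tm G f → wS p f ∈ O →
      ((sSup 𝕋).map f).Normal := by
    rintro G _ f hm ht ⟨φ, hφ⟩
    have h1 := hall G _ (f.comp φ.toMonoidHom) (hm.comp φ) (fun h => ht (hcomp G f φ hm h))
      (by rw [wS_comp, ← hφ, map_symm_map])
    rwa [← Subgroup.map_map, hV φ] at h1
  have hquad : ∀ v ∈ sSup 𝕋, ∀ s, ⁅v, s⁆ ∈ center S := by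
    refine fun v hv => (sSup_le (a := quadSub S) fun w hw => ?_) hv
    obtain ⟨G, _, f, hm, -, rfl⟩ := hsub hw
    exact fun v hv => (hm.data hR hZe).quad v hv
  have hOT : 𝕋 \ O = ∅ := by
    by_contra hne'
    have hP' : P (𝕋 \ O) := by
      refine ⟨Set.diff_subset.trans hsub, Set.nonempty_iff_ne_empty.2 hne', ?_, ?_⟩
      · rintro φ w ⟨hw, hwO⟩
        refine ⟨hcl φ w hw, fun ⟨ψ, hψ⟩ => hwO ⟨ψ.trans φ.symm, ?_⟩⟩
        rw [← map_symm_map φ w, ← hψ, Subgroup.map_map]
        rfl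
      · intro G _ f hm ht hnot g v hv
        have hv' : v ∈ sSup 𝕋 := SetLike.le_def.1 (sSup_le_sSup Set.diff_subset) hv
        by_cases hT : wS p f ∈ 𝕋
        · exact rho_of_normal hR hZe hm hquad
            (hOnorm G f hm ht (by by_contra h; exact hnot ⟨hT, h⟩)) g v hv'
        · exact hout G f hm ht hT g v hv'
    exact (hmin hP' Set.diff_subset hw₀).2 ⟨MulEquiv.refl S, Subgroup.map_id _⟩
  have hsubO : ∀ w ∈ 𝕋, w ∈ O := fun w hw => by
    by_contra h
    exact (Set.eq_empty_iff_forall_notMem.1 hOT w) ⟨hw, h⟩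
  refine ⟨fun v hv w hw => ?_, fun G _ f hm ht hw => hOnorm G f hm ht (hsubO _ hw)⟩
  obtain ⟨α, rfl⟩ := hsubO v hv
  obtain ⟨β, rfl⟩ := hsubO w hw
  exact ⟨α.symm.trans β, by rw [Subgroup.map_map]; congr 1; ext x; simp⟩

omit hcomp

/-- The subgroup of the centre belonging to a selection. -/
def selT (𝕋 : Set (Subgroup S)) : Subgroup S := ⨆ w : 𝕋, ⁅(w : Subgroup S), (⊤ : Subgroup S)⁆

omit hR hZe in
theorem selT_characteristic {𝕋 : Set (Subgroup S)} (h : Selection p Tm 𝕋) :
    (selT 𝕋).Characteristic := by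
  refine characteristic_iff_map_le.2 fun φ => ?_
  rw [selT, Subgroup.map_iSup]
  refine iSup_le fun w => ?_
  rw [map_commutator, map_top_of_surjective _ φ.surjective]
  exact le_iSup (fun w : 𝕋 => ⁅(w : Subgroup S), (⊤ : Subgroup S)⁆) ⟨_, h.closed φ w w.2⟩

theorem selT_le {𝕋 : Set (Subgroup S)} (h : Selection p Tm 𝕋) : selT 𝕋 ≤ center S := by
  refine iSup_le fun w => ?_
  obtain ⟨G, _, f, hm, -, hw⟩ := h.wild w w.2
  rw [← hw, commutator_le]
  exact fun v hv s _ => (hm.data hR hZe).quad v hv s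

theorem selT_ne_bot {𝕋 : Set (Subgroup S)} (h : Selection p Tm 𝕋) : selT 𝕋 ≠ ⊥ := by
  obtain ⟨w, hw⟩ := h.nonempty
  obtain ⟨G, _, f, hm, -, rfl⟩ := h.wild w hw
  intro h0
  have h1 : ⁅wS p f, (⊤ : Subgroup S)⁆ = ⊥ :=
    le_bot_iff.1 (h0 ▸ le_iSup (fun w : 𝕋 => ⁅(w : Subgroup S), (⊤ : Subgroup S)⁆) ⟨_, hw⟩)
  rw [commutator_eq_bot_iff_le_centralizer, coe_top, centralizer_univ] at h1
  exact (hm.data hR hZe).moved h1

variable (hnw : ∀ (G : Type u) [Group G] (f : S →* G), Member p G f → NonWild p f →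
      (∃ A : Subgroup S, IsElementaryAbelian p A ∧ ∀ s : S, ∃ a ∈ A, ∃ q ∈ qS p f, s = a * q) →
        Tm G f)
include hnw

/-- The `W`s of a selection lie in `O_p` of all members, and conversely. -/
theorem Selection.adjacent {𝕋 : Set (Subgroup S)} (h : Selection p Tm 𝕋) {w : Subgroup S}
    (hw : w ∈ 𝕋) {G : Type u} [Group G] {f : S →* G} (hm : Member p G f) :
    w ≤ qS p f ∧ wS p f ≤ centralizer (w : Set S) := by
  obtain ⟨H, _, g, hg, ht, rfl⟩ := h.wild w hw
  have h1 : wS p f ≤ qS p g := by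
    by_contra hle
    obtain ⟨hn, hA⟩ := nonWild_of_not_le hR hZe hg hm hle
    exact ht (hnw H g hg hn hA)
  have h2 : wS p g ≤ qS p f := by
    by_contra hle
    exact not_le_symm hR hZe hm hg hle h1
  exact ⟨h2, h1.trans (hg.data hR hZe).centW.ge⟩

variable (hev : ∀ (G : Type u) [Group G] (f : S →* G), Member p G f → Tm G f → Even p f)
include hev

/-- A bad embedding for the selected subgroup has its `W` in the selection. -/
theorem wS_mem_of_bad {𝕋 : Set (Subgroup S)} (h : Selection p Tm 𝕋) {G : Type u} [Group G]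
    {f : S →* G} (hbad : Bad p (selT 𝕋) G f) : Member p G f ∧ wS p f ∈ 𝕋 := by
  have hm := Bad.member (selT_characteristic Tm h) (selT_le hR hZe Tm h) hbad
  refine ⟨hm, ?_⟩
  by_contra hnot
  have := hm.fin
  refine hbad.2.2.2 (PGroupsBasic.normal_of_le_center ?_)
  rw [map_le_iff_le_comap]
  refine iSup_le fun w => ?_
  rw [commutator_le]
  intro v hv s _
  rw [mem_comap]
  obtain ⟨H, _, g, hg, ht, hgw⟩ := h.wild w w.2
  have hvQ : v ∈ qS p f := (h.adjacent hR hZe Tm hnw w.2 hm).1 hv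
  have hne : wS p g ≠ wS p f := fun e => hnot (e ▸ hgw ▸ w.2)
  obtain ⟨a, ha, b, hb, rfl⟩ := exists_mul hR hZe hg hm hne s
  have hq := (hg.data hR hZe).quad v (hgw ▸ hv)
  have hva : Commute v a := ((hg.data hR hZe).centW.ge ha v (hgw ▸ hv))
  have e : ⁅v, a * b⁆ = ⁅v, b⁆ := by
    rw [show ⁅v, a * b⁆ = ⁅v, a⁆ * (a * ⁅v, b⁆ * a⁻¹) by simp only [commutatorElement_def]; group,
      commutatorElement_eq_one_iff_mul_comm.2 hva.eq, one_mul, mem_center_iff.1 (hq b) a,
      mul_inv_cancel_right]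
  rw [e]
  by_cases htf : Tm G f
  · exact hev G f hm htf v hvQ b hb (hq b)
  have hrho := h.outside G f hm htf hnot
  have hvV : v ∈ sSup 𝕋 := le_sSup w.2 hv
  have hW : (PushingUpCL.wSub p f.range).Normal := normalClosure_normal
  have hQ : (pCore p G).Normal := HallCore.pCore_normal p G
  set A := closure ((fun q : G => ⁅f v, q⁆) '' (pCore p G : Set G))
  have hAc : A ≤ centralizer (f.range : Set G) := by
    rw [closure_le]
    rintro _ ⟨q, hq', rfl⟩ _ ⟨t, rfl⟩
    obtain ⟨q, rfl⟩ := PushingUpCL.pCore_le hm.sit hq'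
    show f t * ⁅f v, f q⁆ = ⁅f v, f q⁆ * f t
    rw [← map_commutatorElement, ← map_mul, ← map_mul, mem_center_iff.1 (hq q) t]
  have hAn : A.Normal := by
    refine PushingUpCL.normal_of_conj_le fun x => ?_
    rw [MonoidHom.map_closure]
    refine closure_mono ?_
    rintro _ ⟨_, ⟨q, hq', rfl⟩, rfl⟩
    refine ⟨x * q * x⁻¹, hQ.conj_mem q hq' x, ?_⟩
    have hc := hrho x v hvV
    set c := ⁅x, f v⁆ with hcdef
    have hy := hQ.conj_mem q hq' x
    set y := x * q * x⁻¹ with hydef
    have c1 : Commute y c := PushingUpJT.q_w hm.sit hy hc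
    have c2 : Commute (f v) c := PushingUpJT.q_w hm.sit hvQ hc
    show ⁅f v, y⁆ = x * ⁅f v, q⁆ * x⁻¹
    rw [show x * ⁅f v, q⁆ * x⁻¹ = ⁅c * f v, y⁆ by
      rw [hcdef, hydef]; simp only [commutatorElement_def]; group]
    rw [show ⁅c * f v, y⁆ = c * ⁅f v, y⁆ * c⁻¹ * ⁅c, y⁆ by simp only [commutatorElement_def]; group,
      commutatorElement_eq_one_iff_mul_comm.2 c1.symm.eq, mul_one]
    have c3 : Commute c ⁅f v, y⁆ := by
      rw [commutatorElement_def]
      exact ((c2.symm.mul_right c1.symm).mul_right c2.symm.inv_right).mul_right c1.symm.inv_right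
    rw [c3.eq, mul_inv_cancel_right]
  have htop := eq_top_of_range_le hm.sit hm.not_core (centralizer (A : Set G))
    fun y hy z hz => (hAc hz y hy).symm
  refine mem_center_iff.2 fun m => ?_
  have hm' : m ∈ centralizer (A : Set G) := htop.symm ▸ mem_top m
  exact (hm' _ (subset_closure ⟨f b, hb, (map_commutatorElement f v b).symm⟩)).symm

omit hnw hev hR hZe in
/-- The join of a selection is invariant under automorphisms. -/
theorem Selection.map_sSup {𝕋 : Set (Subgroup S)} (h : Selection p Tm 𝕋) (φ : S ≃* S) :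
    (sSup 𝕋).map φ.toMonoidHom = sSup 𝕋 := by
  have hle : ∀ ψ : S ≃* S, (sSup 𝕋).map ψ.toMonoidHom ≤ sSup 𝕋 := fun ψ =>
    map_le_iff_le_comap.2 (sSup_le fun w hw => map_le_iff_le_comap.1 (le_sSup (h.closed ψ w hw)))
  refine le_antisymm (hle φ) ?_
  conv_lhs => rw [← map_symm_map φ.symm (sSup 𝕋)]
  exact map_mono (hle φ.symm)

omit hnw hev hR hZe in
/-- A finite family to which the amalgam method applies: either every member has a twin (same `W`)
which is not tame and does not normalise the join `V`, or every member has both a twin not normalising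
`V` and a twin which is not tame and normalises `V`. -/
structure Family (p : ℕ) (Tm : ∀ (G : Type u) [Group G], (S →* G) → Prop) (𝕋 : Set (Subgroup S))
    {ι : Type u} (G : ι → Type u) [∀ i, Group (G i)] (f : ∀ i, S →* G i) : Prop where
  closed : ∀ φ : S ≃* S, ∀ w ∈ 𝕋, w.map φ.toMonoidHom ∈ 𝕋
  mem : ∀ i, Member p (G i) (f i)
  wmem : ∀ i, wS p (f i) ∈ 𝕋
  cover : ∀ w ∈ 𝕋, ∃ i, wS p (f i) = w
  adj : ∀ w ∈ 𝕋, ∀ i, w ≤ qS p (f i)
  twin : (∀ i, ∃ j, wS p (f j) = wS p (f i) ∧ ¬ ((sSup 𝕋).map (f j)).Normal ∧ ¬ Tm (G j) (f j)) ∨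
    ((∀ i, ∃ j, wS p (f j) = wS p (f i) ∧ ¬ ((sSup 𝕋).map (f j)).Normal) ∧
      ∀ i, ∃ k, wS p (f k) = wS p (f i) ∧ ¬ Tm (G k) (f k) ∧ ((sSup 𝕋).map (f k)).Normal)

omit hnw hev hR hZe in
/-- The conclusion of the amalgam method. -/
def FamilyClosed (p : ℕ) (Tm : ∀ (G : Type u) [Group G], (S →* G) → Prop) : Prop :=
  ∀ (𝕋 : Set (Subgroup S)) (ι : Type u) [Finite ι] (G : ι → Type u) [∀ i, Group (G i)]
    (f : ∀ i, S →* G i), Family p Tm 𝕋 G f →
      ∃ Y : Subgroup S, sSup 𝕋 ≤ Y ∧ ∀ i, (Y.map (f i)).Normal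

include hcomp in
/-- The core contains the `W`s of the selection. -/
theorem sSup_le_badCore (hfam : FamilyClosed p Tm) {𝕋 : Set (Subgroup S)} (h : Selection p Tm 𝕋) :
    sSup 𝕋 ≤ badCore p (selT 𝕋) := by
  set T := selT 𝕋
  set V := sSup 𝕋
  by_cases hall : ∀ (G : Type u) [Group G] (f : S →* G), Member p G f → wS p f ∈ 𝕋 → (V.map f).Normal
  · exact le_badCore fun G _ f hbad =>
      have hb := wS_mem_of_bad hR hZe Tm hnw hev h hbad
      hall G f hb.1 hb.2
  by_contra hcon
  push Not at hall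
  obtain ⟨G₁, _, f₁, hm₁, hw₁, hn₁⟩ := hall
  have wit : ∀ w : 𝕋, ∃ (J : Type u) (_ : Group J) (g : S →* J) (K : Type u) (_ : Group K) (k : S →* K),
      Member p J g ∧ wS p g = (w : Subgroup S) ∧ ¬ (V.map g).Normal ∧
      Member p K k ∧ wS p k = (w : Subgroup S) ∧ ¬ Tm K k ∧
      ((∀ v : 𝕋, ∃ (J : Type u) (_ : Group J) (g : S →* J), Member p J g ∧ ¬ Tm J g ∧
          wS p g = (v : Subgroup S) ∧ ¬ (V.map g).Normal) → ¬ Tm J g) ∧
      ((¬ ∀ v : 𝕋, ∃ (J : Type u) (_ : Group J) (g : S →* J), Member p J g ∧ ¬ Tm J g ∧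
          wS p g = (v : Subgroup S) ∧ ¬ (V.map g).Normal) → (V.map k).Normal) := by
    intro w
    by_cases hA : ∀ v : 𝕋, ∃ (J : Type u) (_ : Group J) (g : S →* J), Member p J g ∧ ¬ Tm J g ∧
      wS p g = (v : Subgroup S) ∧ ¬ (V.map g).Normal
    · obtain ⟨J, _, g, hg, ht, hgw, hn⟩ := hA w
      exact ⟨J, _, g, J, _, g, hg, hgw, hn, hg, hgw, ht, fun _ => ht, fun h' => absurd hA h'⟩
    · obtain ⟨htrans, hB⟩ := h.split.resolve_left fun h' => hA fun v => h' v v.2
      obtain ⟨K, _, k, hk, hkt, hkw⟩ := h.wild w w.2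
      obtain ⟨φ, hφ⟩ := htrans _ hw₁ w w.2
      refine ⟨G₁, _, f₁.comp φ.symm.toMonoidHom, K, _, k, hm₁.comp _, ?_, fun hn => hn₁ ?_, hk, hkw,
        hkt, fun h' => absurd h' hA, fun _ => hB K k hk hkt (hkw ▸ w.2)⟩
      · rw [wS_comp, MulEquiv.symm_symm]; exact hφ
      · rwa [← Subgroup.map_map, h.map_sSup] at hn
  choose J iJ g K iK k hg hgw hgn hk hkw hkt hA hB using wit
  have bw : ∀ Y : {Y : Subgroup S // ¬ BadNormal p T Y}, ∃ (G : Type u) (_ : Group G) (f : S →* G),
      Bad p T G f ∧ ¬ ((Y : Subgroup S).map f).Normal := by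
    rintro ⟨Y, hY⟩
    unfold BadNormal at hY
    push Not at hY
    obtain ⟨G, i, f, hb, hn⟩ := hY
    exact ⟨G, i, f, hb, hn⟩
  choose B iB b hb hbn using bw
  let ι := {Y : Subgroup S // ¬ BadNormal p T Y} ⊕ (↥𝕋 ⊕ ↥𝕋)
  let Gf : ι → Type u := Sum.elim B (Sum.elim J K)
  letI : ∀ i, Group (Gf i) := fun i => match i with
    | Sum.inl y => iB y
    | Sum.inr (Sum.inl w) => iJ w
    | Sum.inr (Sum.inr w) => iK w
  let ff : ∀ i, S →* Gf i := fun i => match i with
    | Sum.inl y => b y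
    | Sum.inr (Sum.inl w) => g w
    | Sum.inr (Sum.inr w) => k w
  have hmem : ∀ i, Member p (Gf i) (ff i) ∧ wS p (ff i) ∈ 𝕋 := by
    rintro (y | w | w)
    · exact wS_mem_of_bad hR hZe Tm hnw hev h (hb y)
    · exact ⟨hg w, (hgw w).symm ▸ w.2⟩
    · exact ⟨hk w, (hkw w).symm ▸ w.2⟩
  obtain ⟨Y, hVY, hY⟩ := hfam 𝕋 ι Gf ff
    { closed := h.closed
      mem := fun i => (hmem i).1
      wmem := fun i => (hmem i).2
      cover := fun w hw => ⟨Sum.inr (Sum.inl ⟨w, hw⟩), hgw ⟨w, hw⟩⟩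
      adj := fun w hw i => (h.adjacent hR hZe Tm hnw hw (hmem i).1).1
      twin := by
        by_cases hcase : ∀ v : 𝕋, ∃ (J : Type u) (_ : Group J) (g : S →* J), Member p J g ∧ ¬ Tm J g ∧
          wS p g = (v : Subgroup S) ∧ ¬ (V.map g).Normal
        · exact Or.inl fun i => ⟨Sum.inr (Sum.inl ⟨_, (hmem i).2⟩), hgw _, hgn _, hA _ hcase⟩
        · exact Or.inr ⟨fun i => ⟨Sum.inr (Sum.inl ⟨_, (hmem i).2⟩), hgw _, hgn _⟩,
            fun i => ⟨Sum.inr (Sum.inr ⟨_, (hmem i).2⟩), hkw _, hkt _, hB _ hcase⟩⟩ }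
  by_cases hYb : BadNormal p T Y
  · exact hcon (hVY.trans (le_badCore hYb))
  · exact hbn ⟨Y, hYb⟩ (hY (Sum.inl ⟨Y, hYb⟩))

include hcomp in
omit hR hZe hnw hev in
/-- The hypothesis of the reduction, from the amalgam method and the properties of tameness. -/
theorem coreHyp_of (hfam : FamilyClosed p Tm) (hgood : ∀ T₀ : Subgroup S, T₀ ≤ center S →
      InFunctor p T₀ → ∀ (G : Type u) [Group G] (f : S →* G), Member p G f → Tm G f →
        T₀.map f ≤ center G)
    (hnw : ∀ (G : Type u) [Group G] (f : S →* G), Member p G f → NonWild p f →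
      (∃ A : Subgroup S, IsElementaryAbelian p A ∧ ∀ s : S, ∃ a ∈ A, ∃ q ∈ qS p f, s = a * q) →
        Tm G f)
    (hev : ∀ (G : Type u) [Group G] (f : S →* G), Member p G f → Tm G f → Even p f) :
    CoreHyp p S := by
  intro hR hZe T₀ hle hne hchar hfun
  by_cases hex : ∃ (G : Type u) (_ : Group G) (f : S →* G), Member p G f ∧ ¬ Tm G f
  · obtain ⟨𝕋, h⟩ := exists_selection hR hZe Tm hcomp hex
    refine ⟨selT 𝕋, selT_ne_bot hR hZe Tm h, selT_characteristic Tm h, selT_le hR hZe Tm h, ?_⟩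
    intro G _ f hbad
    obtain ⟨hm, hw⟩ := wS_mem_of_bad hR hZe Tm hnw hev h hbad
    have := hm.fin
    rw [← show (wS p f).map f = PushingUpCL.wSub p f.range from map_comap_eq_self
      (((PushingUpJT.w_le_q hm.sit)).trans (PushingUpCL.pCore_le hm.sit))]
    exact map_mono ((le_sSup hw).trans (sSup_le_badCore hR hZe Tm hcomp hnw hev hfam h))
  · push Not at hex
    refine ⟨T₀, hne, hchar, hle, fun G _ f hbad => absurd ?_ hbad.2.2.2⟩
    have hm := Bad.member hchar hle hbad
    exact PGroupsBasic.normal_of_le_center (hgood T₀ hle hfun G f hm (hex G _ f hm))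

end Cfsg.Agent.PushFamily
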