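import Mathlib
import Cfsg.Agent.Lib.PushFamSelect
import Cfsg.Agent.Lib.PushAmalgamMain
import Cfsg.Agent.Lib.DicksonMaximal

/-!
Pushing up, uniform version: non-wild members with an abelian supplement of `O_p` are tame.
-/

set_option autoImplicit false

namespace Cfsg.Agent.PushFamily

open Subgroup Cfsg
open scoped commutatorElement

universe u

/-- The central parts of the four characteristic subgroups are central in `G`. -/
def Good {S : Type u} [Group S] (p : ℕ) {G : Type u} [Group G] (f : S →* G) : Prop :=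
  ∀ T : Subgroup S, T ≤ center S → InFunctor p T → T.map f ≤ center G

/-- The tameness predicate. -/
def Tame {S : Type u} [Group S] (p : ℕ) (G : Type u) [Group G] (f : S →* G) : Prop :=
  Even p f ∧ Good p f

section Elementwise

variable {G : Type*} [Group G]

theorem commutatorElement_mul_of_commute {c d v q : G} (cv : Commute c v) (cq : Commute c q)
    (cd : Commute c d) (dv : Commute d v) (dq : Commute d q) :
    ⁅c * v, d * q⁆ = ⁅v, q⁆ := by
  have h1 : Commute c ⁅v, d * q⁆ := by
    rw [commutatorElement_def]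
    exact ((cv.mul_right (cd.mul_right cq)).mul_right cv.inv_right).mul_right
      (cd.mul_right cq).inv_right
  have h2 : ⁅c, d * q⁆ = 1 := commutatorElement_eq_one_iff_mul_comm.2 (cd.mul_right cq).eq
  have h3 : Commute d ⁅v, q⁆ := by
    rw [commutatorElement_def]
    exact ((dv.mul_right dq).mul_right dv.inv_right).mul_right dq.inv_right
  rw [show ⁅c * v, d * q⁆ = c * ⁅v, d * q⁆ * c⁻¹ * ⁅c, d * q⁆ by
      simp only [commutatorElement_def]; group,
    h2, mul_one, h1.eq, mul_inv_cancel_right,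
    show ⁅v, d * q⁆ = ⁅v, d⁆ * (d * ⁅v, q⁆ * d⁻¹) by simp only [commutatorElement_def]; group,
    commutatorElement_eq_one_iff_mul_comm.2 dv.symm.eq, one_mul, h3.eq, mul_inv_cancel_right]

/-- If an element of order prime to `p` multiplies `q` by a commuting element of order dividing `p`,
it fixes `q`. -/
theorem eq_one_of_conj {p : ℕ} {x q c : G} (hx : p.Coprime (orderOf x)) (hc : c ^ p = 1)
    (hxc : x * c = c * x) (h : x * q * x⁻¹ = c * q) : c = 1 := by
  have key : ∀ n : ℕ, x ^ n * q * (x ^ n)⁻¹ = c ^ n * q := by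
    intro n
    induction n with
    | zero => simp
    | succ n ih =>
      rw [pow_succ', show x * x ^ n * q * (x * x ^ n)⁻¹ = x * (x ^ n * q * (x ^ n)⁻¹) * x⁻¹ by group, ih,
        show x * (c ^ n * q) * x⁻¹ = (x * c ^ n * x⁻¹) * (x * q * x⁻¹) by group, h,
        ((show Commute x c from hxc).pow_right n).eq, mul_inv_cancel_right, ← mul_assoc, ← pow_succ]
  have h1 := key (orderOf x)
  rw [pow_orderOf_eq_one, one_mul, inv_one, mul_one, eq_comm, mul_eq_right] at h1
  have := pow_gcd_eq_one.2 (⟨hc, h1⟩ : c ^ p = 1 ∧ c ^ orderOf x = 1)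
  rwa [hx.gcd_eq_one, pow_one] at this

/-- A power of every element has order prime to `p`. -/
theorem exists_pow_coprime [Finite G] (p : ℕ) [Fact p.Prime] (g : G) :
    ∃ k : ℕ, p.Coprime (orderOf (g ^ p ^ k)) := by
  refine ⟨(orderOf g).factorization p, ?_⟩
  rw [orderOf_pow_of_dvd (pow_ne_zero _ (Fact.out : p.Prime).ne_zero) (Nat.ordProj_dvd _ _)]
  exact Nat.coprime_ordCompl (Fact.out : p.Prime) (orderOf_pos g).ne'

/-- A quotient is abelian if two generating abelian pieces commute in it. -/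
theorem commutator_le_of_pieces (R : Subgroup G) [R.Normal] (A Q : Subgroup G)
    (hsup : ∀ s : G, ∃ a ∈ A, ∃ q ∈ Q, s = a * q) (hA : ∀ a ∈ A, ∀ b ∈ A, a * b = b * a)
    (hQ : ∀ a ∈ Q, ∀ b ∈ Q, ⁅a, b⁆ ∈ R) (hAQ : ∀ a ∈ A, ∀ q ∈ Q, ⁅a, q⁆ ∈ R) :
    commutator G ≤ R := by
  rw [_root_.commutator_def, commutator_le]
  intro s _ t _
  obtain ⟨a, ha, q, hq, rfl⟩ := hsup s
  obtain ⟨b, hb, r, hr, rfl⟩ := hsup t
  set π := QuotientGroup.mk' R
  have hcomm : ∀ x y : G, ⁅x, y⁆ ∈ R → Commute (π x) (π y) := fun x y h => by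
    refine commutatorElement_eq_one_iff_mul_comm.1 ?_
    rw [← map_commutatorElement]
    exact (QuotientGroup.eq_one_iff _).2 h
  have c1 : Commute (π a) (π b) := (show Commute a b from hA a ha b hb).map π
  have c2 := hcomm a r (hAQ a ha r hr)
  have c3 := (hcomm b q (hAQ b hb q hq)).symm
  have c4 := hcomm q r (hQ q hq r hr)
  refine (QuotientGroup.eq_one_iff _).1 ?_
  show π ⁅a * q, b * r⁆ = 1
  rw [map_commutatorElement, commutatorElement_eq_one_iff_mul_comm, map_mul, map_mul]
  exact ((c1.mul_right c2).mul_left (c3.mul_right c4)).eq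

end Elementwise

/-- The subgroup generated by the elements of order prime to `p`. -/
def pCl (p : ℕ) (G : Type*) [Group G] : Subgroup G := closure {x : G | p.Coprime (orderOf x)}

instance pCl_normal (p : ℕ) (G : Type*) [Group G] : (pCl p G).Normal := by
  refine ⟨fun n hn g => ?_⟩
  have h : (pCl p G).map (MulAut.conj g).toMonoidHom ≤ pCl p G := by
    rw [pCl, MonoidHom.map_closure]
    refine closure_mono ?_
    rintro _ ⟨y, hy, rfl⟩
    show p.Coprime (orderOf (MulAut.conj g y))
    rwa [MulEquiv.orderOf_eq]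
  exact h ⟨n, hn, rfl⟩

/-- The elements of `O_p(G)` centralised by all elements of order prime to `p`. -/
def dSub (p : ℕ) (G : Type*) [Group G] : Subgroup G :=
  pCore p G ⊓ centralizer (pCl p G : Set G)

instance dSub_normal (p : ℕ) (G : Type*) [Group G] : (dSub p G).Normal := by
  have : (pCore p G).Normal := HallCore.pCore_normal p G
  unfold dSub
  infer_instance

theorem mem_dSub {p : ℕ} {G : Type*} [Group G] {q : G} :
    q ∈ dSub p G ↔ q ∈ pCore p G ∧ ∀ x : G, p.Coprime (orderOf x) → x * q = q * x := by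
  refine ⟨fun h => ⟨h.1, fun x hx => h.2 x (subset_closure hx)⟩, fun h => ⟨h.1, ?_⟩⟩
  have hle : pCl p G ≤ centralizer {q} :=
    (closure_le _).2 fun x hx => mem_centralizer_singleton_iff.2 (h.2 x hx)
  exact fun y hy => mem_centralizer_singleton_iff.1 (hle hy)

theorem pCl_sup_eq_top {p : ℕ} [Fact p.Prime] {G : Type*} [Group G] [Finite G] (P : Sylow p G) :
    pCl p G ⊔ (P : Subgroup G) = ⊤ := by
  have hpq : IsPGroup p (G ⧸ pCl p G) := fun y => by
    obtain ⟨g, rfl⟩ := QuotientGroup.mk'_surjective (pCl p G) y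
    obtain ⟨k, hk⟩ := exists_pow_coprime p g
    exact ⟨k, by rw [← map_pow]; exact (QuotientGroup.eq_one_iff _).2 (subset_closure hk)⟩
  obtain ⟨n, hn⟩ := IsPGroup.iff_card.1 hpq
  have hdvd : (pCl p G ⊔ (P : Subgroup G)).index ∣ p ^ n := by
    rw [← hn, ← index_eq_card]; exact index_dvd_of_le le_sup_left
  obtain ⟨i, -, hi⟩ := (Nat.dvd_prime_pow (Fact.out : p.Prime)).1 hdvd
  rw [← index_eq_one, hi]
  rcases i with _ | i
  · simp
  · exact absurd ((Dvd.intro_left _ (pow_succ p i).symm).trans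
      (hi ▸ index_dvd_of_le le_sup_right)) P.not_dvd_index

variable {S : Type u} [Group S] [Finite S] {p : ℕ} [Fact p.Prime]

/-- What is known about a non-wild member, inside `G`. -/
structure Core (p : ℕ) {G : Type u} [Group G] (f : S →* G) : Prop where
  comm_fixed : ∀ v ∈ pCore p G, ∀ q ∈ pCore p G, ⁅v, q⁆ ∈ dSub p G
  pow_fixed : ∀ q ∈ pCore p G, q ^ p ∈ dSub p G
  centW : centralizer (PushingUpCL.wSub p f.range : Set G) = pCore p G
  fixed_central : ∀ z ∈ center S, f z ∈ dSub p G → f z ∈ center G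
  dW : ∀ w ∈ wS p f, f w ∈ dSub p G → f w ∈ center G

variable (hR : Reduced S) (hZe : IsElementaryAbelian p (center S))
include hR hZe

theorem core_of_nonWild {G : Type u} [Group G] {f : S →* G} (h : Member p G f) (hn : NonWild p f) :
    Core p f := by
  have := h.fin
  have hd := h.data hR hZe
  have hQS := PushingUpCL.pCore_le h.sit
  have hW : (PushingUpCL.wSub p f.range).Normal := normalClosure_normal
  have hQ : (pCore p G).Normal := HallCore.pCore_normal p G
  have hwq : ∀ w ∈ PushingUpCL.wSub p f.range, ∀ y ∈ pCore p G, Commute w y := fun w hw y hy =>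
    (show Commute y w from PushingUpJT.q_w h.sit hy hw).symm
  have hWQ := PushingUpJT.w_le_q h.sit
  obtain ⟨P, hP⟩ := h.sit.2.1
  have htop : pCl p G ⊔ f.range = ⊤ := hP ▸ pCl_sup_eq_top P
  have hcen : ∀ z ∈ center S, f z ∈ dSub p G → f z ∈ center G := by
    intro z hz hzd
    have hle : pCl p G ⊔ f.range ≤ centralizer {f z} := by
      refine sup_le ((closure_le _).2 fun x hx => mem_centralizer_singleton_iff.2
        ((mem_dSub.1 hzd).2 x hx)) ?_
      rintro _ ⟨s, rfl⟩
      exact mem_centralizer_singleton_iff.2 (by rw [← map_mul, ← map_mul, mem_center_iff.1 hz s])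
    rw [htop] at hle
    exact mem_center_iff.2 fun m => mem_centralizer_singleton_iff.1 (hle (mem_top m))
  refine ⟨fun v hv q hq => mem_dSub.2 ⟨?_, fun x hx => ?_⟩, fun q hq => mem_dSub.2 ⟨pow_mem hq p,
    fun x hx => ?_⟩, ?_, hcen, fun w hw hwd => ?_⟩
  · rw [commutatorElement_def]
    exact mul_mem (mul_mem (mul_mem hv hq) (inv_mem hv)) (inv_mem hq)
  · have h1 := hn x hx v hv
    have h2 := hn x hx q hq
    have e : x * ⁅v, q⁆ * x⁻¹ = ⁅⁅x, v⁆ * v, ⁅x, q⁆ * q⁆ := by
      simp only [commutatorElement_def]; group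
    rw [commutatorElement_mul_of_commute (hwq _ h1 v hv) (hwq _ h1 q hq) (hwq _ h1 _ (hWQ h2))
      (hwq _ h2 v hv) (hwq _ h2 q hq)] at e
    exact mul_inv_eq_iff_eq_mul.1 e
  · have h2 := hn x hx q hq
    have e : x * q ^ p * x⁻¹ = q ^ p := by
      rw [← conj_pow, show x * q * x⁻¹ = ⁅x, q⁆ * q by simp only [commutatorElement_def]; group,
        (hwq _ h2 q hq).mul_pow, PushingUpCL.wSub_pow h.sit h2, one_mul]
    exact mul_inv_eq_iff_eq_mul.1 e
  · refine le_antisymm ?_ (fun y hy w hw => (hwq w hw y hy).eq)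
    have : (centralizer (PushingUpCL.wSub p f.range : Set G)).Normal := inferInstance
    refine HallCore.le_pCore fun y => ?_
    obtain ⟨k, hk⟩ := exists_pow_coprime p (y : G)
    refine ⟨k, Subtype.ext ?_⟩
    set x := (y : G) ^ p ^ k with hxdef
    have hxW : x ∈ centralizer (PushingUpCL.wSub p f.range : Set G) := pow_mem y.2 _
    have hxQ : x ∈ centralizer (pCore p G : Set G) := fun q hq => by
      have hw := hn x hk q hq
      have h1 : ⁅x, q⁆ = 1 := eq_one_of_conj (q := q) hk (PushingUpCL.wSub_pow h.sit hw)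
        (hxW _ hw).symm (by simp only [commutatorElement_def]; group)
      exact (commutatorElement_eq_one_iff_mul_comm.1 h1).symm
    obtain ⟨i, hi⟩ := (HallCore.isPGroup_pCore p G) ⟨x, h.sit.2.2.1 hxQ⟩
    have hi' : x ^ p ^ i = 1 := congrArg Subtype.val hi
    have h1 : orderOf x ∣ Nat.gcd (p ^ i) (orderOf x) :=
      Nat.dvd_gcd (orderOf_dvd_of_pow_eq_one hi') dvd_rfl
    rw [(hk.pow_left i).gcd_eq_one, Nat.dvd_one, orderOf_eq_one_iff] at h1
    simpa [hxdef] using h1
  · obtain ⟨M, hF, -⟩ := PushAmalgam.exists_facts_of h.sit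
      (by rw [← map_center_eq_range h.inj]; exact h.not_central)
      (by rw [← map_thompson h.inj, hR.J, ← MonoidHom.range_eq_map]; exact h.not_core)
    refine hcen w (mem_center_iff.2 fun s => ?_) hwd
    have hz : ⁅w, s⁆ ∈ center S := hd.quad w hw s
    have hzd : f ⁅w, s⁆ ∈ dSub p G := by
      rw [map_commutatorElement, show ⁅f w, f s⁆ = f w * (f s * (f w)⁻¹ * (f s)⁻¹) by
        simp only [commutatorElement_def]; group]
      exact mul_mem hwd ((dSub_normal p G).conj_mem _ (inv_mem hwd) (f s))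
    have h1 := hF.comm_C (f s) ⟨s, rfl⟩ (f w) hw
      ⟨(map_commutatorElement f w s) ▸ hd.center_le hz, (map_commutatorElement f w s) ▸ hcen _ hz hzd⟩
    rw [← map_commutatorElement] at h1
    exact (commutatorElement_eq_one_iff_mul_comm.1 (h.inj (h1.trans f.map_one.symm))).symm

/-- For odd `p`, `O_p(G) = D W`. -/
theorem exists_mul_of_odd {G : Type u} [Group G] {f : S →* G} (h : Member p G f) (hn : NonWild p f)
    (hp : p ≠ 2) : ∀ q ∈ pCore p G, ∃ w ∈ PushingUpCL.wSub p f.range, w * q ∈ dSub p G := by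
  have := h.fin
  have hc := core_of_nonWild hR hZe h hn
  have hQS := PushingUpCL.pCore_le h.sit
  have hpP : p.Prime := Fact.out
  obtain ⟨K, hK, F, iF, iFt, n, hF, ⟨e⟩⟩ := h.sit.2.2.2.2
  obtain ⟨M, hFacts, -⟩ := PushAmalgam.exists_facts_of h.sit
    (by rw [← map_center_eq_range h.inj]; exact h.not_central)
    (by rw [← map_thompson h.inj, hR.J, ← MonoidHom.range_eq_map]; exact h.not_core)
  obtain ⟨-, -, -, ρ, ψ, hρ, hker, hψ, hψk, heq⟩ :=
    hFacts.natSection hc.centW F (PushAmalgam.card_sylow h.sit K F hF e)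
  obtain ⟨j₀, hj₀⟩ := hρ (-1)
  obtain ⟨k, hk⟩ := exists_pow_coprime p j₀
  set j := j₀ ^ p ^ k with hjdef
  have hpodd : Odd (p ^ k) := (hpP.odd_of_ne_two hp).pow
  have hρj : ρ j = -1 := by rw [hjdef, map_pow, hj₀, hpodd.neg_one_pow]
  have hW : (PushingUpCL.wSub p f.range).Normal := normalClosure_normal
  have hQ : (pCore p G).Normal := HallCore.pCore_normal p G
  have hwq : ∀ w ∈ PushingUpCL.wSub p f.range, ∀ y ∈ pCore p G, Commute w y := fun w hw y hy =>
    (show Commute y w from PushingUpJT.q_w h.sit hy hw).symm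
  have hWQ := PushingUpJT.w_le_q h.sit
  have hinv : ∀ w ∈ PushingUpCL.wSub p f.range,
      j * w * j⁻¹ * w ∈ PushingUpCL.wSub p f.range ⊓ center G := by
    intro w hw
    let x : ↥(PushingUpCL.wSub p f.range) := ⟨w, hw⟩
    let y : ↥(PushingUpCL.wSub p f.range) := ⟨j * w * j⁻¹, hW.conj_mem w hw j⟩
    have h1 := heq j x y rfl
    rw [hρj] at h1
    have h2 : ψ (y * x) = 1 := by
      rw [map_mul]
      apply Multiplicative.toAdd.injective
      rw [toAdd_mul, toAdd_one, h1]
      simp [Matrix.neg_mulVec, Matrix.one_mulVec]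
    exact (hψk _).1 h2
  have hsq : ∀ w ∈ PushingUpCL.wSub p f.range, (w ^ ((p + 1) / 2)) * w ^ ((p + 1) / 2) = w := by
    intro w hw
    obtain ⟨m, hm⟩ := hpP.odd_of_ne_two hp
    rw [← pow_add, show (p + 1) / 2 + (p + 1) / 2 = p + 1 by omega, pow_succ,
      PushingUpCL.wSub_pow h.sit hw, one_mul]
  intro q hq
  have hw1 := hn j hk q hq
  set w1 := ⁅j, q⁆ with hw1def
  set w0 := w1 ^ ((p + 1) / 2)
  have hw0 : w0 ∈ PushingUpCL.wSub p f.range := pow_mem hw1 _
  refine ⟨w0, hw0, ?_⟩
  set q0 := w0 * q with hq0def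
  have hq0 : q0 ∈ pCore p G := mul_mem (hWQ hw0) hq
  have hjq : j * q0 * j⁻¹ = q0 := by
    have hc1 := hinv w0 hw0
    set c := j * w0 * j⁻¹ * w0 with hcdef
    have hje : j * q0 * j⁻¹ = c * q0 := by
      rw [hq0def, show j * (w0 * q) * j⁻¹ = (j * w0 * j⁻¹) * w1 * q by
        rw [hw1def]; simp only [commutatorElement_def]; group, ← hsq w1 hw1, hcdef]
      simp only [mul_assoc]
      rfl
    have h1 : c = 1 := eq_one_of_conj (q := q0) hk (PushingUpCL.wSub_pow h.sit hc1.1)
      (mem_center_iff.1 hc1.2 j) hje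
    rw [hje, h1, one_mul]
  refine mem_dSub.2 ⟨hq0, fun x hx => ?_⟩
  have ha := hn x hx q0 hq0
  set a := ⁅x, q0⁆ with hadef
  set x' := j * x * j⁻¹ with hx'def
  have hx' : p.Coprime (orderOf x') := by
    show p.Coprime (orderOf (MulAut.conj j x))
    rwa [MulEquiv.orderOf_eq]
  have hy : x'⁻¹ * x ∈ pCore p G := by
    rw [← hker, MonoidHom.mem_ker, map_mul, map_inv, hx'def, map_mul, map_mul, map_inv, hρj,
      mul_assoc, neg_mul, one_mul]
    simp
  have hd := hc.comm_fixed _ hy q0 hq0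
  set d := ⁅x'⁻¹ * x, q0⁆ with hddef
  have hdx := (mem_dSub.1 hd).2 x' hx'
  have e1 : x' * q0 * x'⁻¹ = (j * a * j⁻¹) * q0 := by
    have h1 : j⁻¹ * q0 * j = q0 := by
      calc j⁻¹ * q0 * j = j⁻¹ * (j * q0 * j⁻¹) * j := by rw [hjq]
        _ = q0 := by group
    calc x' * q0 * x'⁻¹ = j * (x * (j⁻¹ * q0 * j) * x⁻¹) * j⁻¹ := by rw [hx'def]; group
      _ = j * (a * q0) * j⁻¹ := by rw [h1, hadef]; simp only [commutatorElement_def]; group
      _ = (j * a * j⁻¹) * (j * q0 * j⁻¹) := by group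
      _ = _ := by rw [hjq]
  have e2 : a * q0 = d * ((j * a * j⁻¹) * q0) := by
    calc a * q0 = x * q0 * x⁻¹ := by rw [hadef]; simp only [commutatorElement_def]; group
      _ = (x' * d * x'⁻¹) * (x' * q0 * x'⁻¹) := by
        rw [hddef]; simp only [commutatorElement_def]; group
      _ = d * ((j * a * j⁻¹) * q0) := by rw [hdx, mul_inv_cancel_right, e1]
  replace e2 : a = d * (j * a * j⁻¹) := mul_right_cancel (e2.trans (mul_assoc _ _ _).symm)
  have hja := hinv a ha
  have hdW : d ∈ PushingUpCL.wSub p f.range := by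
    rw [show d = a * (j * a * j⁻¹)⁻¹ from eq_mul_inv_of_mul_eq e2.symm]
    exact mul_mem ha (inv_mem (hW.conj_mem a ha j))
  have hdC : d ∈ center G := by
    obtain ⟨dd, hdd⟩ := (hWQ.trans hQS) hdW
    rw [← hdd] at hdW hd ⊢
    exact hc.dW dd hdW hd
  have ha2 : a * a ∈ center G := by
    have e3 : a * a = d * (j * a * j⁻¹ * a) := by
      conv_lhs => arg 1; rw [e2]
      group
    rw [e3]
    exact mul_mem hdC hja.2
  have haC : a ∈ center G := by
    rw [← hsq a ha, ← (Commute.refl a).mul_pow]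
    exact pow_mem ha2 _
  have h1 : a = 1 := eq_one_of_conj (q := q0) hx (PushingUpCL.wSub_pow h.sit ha)
    (mem_center_iff.1 haC x) (by rw [hadef]; simp only [commutatorElement_def]; group)
  exact commutatorElement_eq_one_iff_mul_comm.1 h1

/-- For `p = 2`: either `|S : O_p(G)| = 2` or `[O_p(G), S] ≤ D W`. -/
theorem two_cases {G : Type u} [Group G] {f : S →* G} (h : Member p G f) (hn : NonWild p f)
    (hp : p = 2) : Nat.card f.range = 2 * Nat.card (pCore p G) ∨
      ∀ s : S, ∀ q ∈ pCore p G, ⁅f s, q⁆ ∈ dSub p G ⊔ PushingUpCL.wSub p f.range := by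
  subst hp
  have := h.fin
  have hc := core_of_nonWild hR hZe h hn
  have hW : (PushingUpCL.wSub 2 f.range).Normal := normalClosure_normal
  have hQn : (pCore 2 G).Normal := HallCore.pCore_normal 2 G
  have hQS := PushingUpCL.pCore_le h.sit
  set K2 := modCent (dSub 2 G ⊔ PushingUpCL.wSub 2 f.range) (pCore 2 G : Set G)
  have hK2 : K2.Normal := modCent_normal _ fun g v hv => hQn.conj_mem v hv g
  have hclK : pCl 2 G ≤ K2 := (closure_le _).2 fun x hx =>
    mem_modCent.2 fun q hq => mem_sup_right (hn x hx q hq)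
  have hQK : pCore 2 G ≤ K2 := fun y hy =>
    mem_modCent.2 fun q hq => mem_sup_left (hc.comm_fixed y hy q hq)
  by_cases hX : f.range ⊓ K2 ≤ pCore 2 G
  · left
    obtain ⟨K, hK, F, iF, iFt, n, hF, ⟨e⟩⟩ := h.sit.2.2.2.2
    rw [PushAmalgam.card_sylow h.sit K F hF e]
    by_cases h4 : 4 ≤ Nat.card F
    swap
    · have h2 : 1 < Fintype.card F := Fintype.one_lt_card
      rw [Nat.card_eq_fintype_card, hF] at h4
      rw [hF] at h2 ⊢
      rcases n with _ | _ | n
      · simp at h2
      · simp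
      · exact absurd (le_trans (by norm_num) (Nat.pow_le_pow_right two_pos (show 2 ≤ n + 2 by omega))) h4
    exfalso
    have : CharP F 2 := PushingUpJT.charP_of_card hF
    have := DicksonMaximal.simple (F := F) 2 h4
    obtain ⟨h4d, h8⟩ := DicksonMaximal.four_dvd_card (F := F) h4
    set π := e.toMonoidHom.comp (QuotientGroup.mk' K) with hπ
    have hsurj : Function.Surjective π := e.surjective.comp (QuotientGroup.mk'_surjective _)
    have hnH : ((pCl 2 G).map π).Normal := (pCl_normal 2 G).map π hsurj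
    rcases hnH.eq_bot_or_eq_top with hb | ht
    · have hpP : IsPGroup 2 (Matrix.ProjectiveSpecialLinearGroup (Fin 2) F) := fun y => by
        obtain ⟨g, rfl⟩ := hsurj y
        obtain ⟨i, hi⟩ := exists_pow_coprime 2 g
        have h' : π (g ^ 2 ^ i) ∈ (⊥ : Subgroup _) := hb ▸ mem_map_of_mem π (subset_closure hi)
        exact ⟨i, by simpa [map_pow] using h'⟩
      obtain ⟨U, w, -, hUtop⟩ := PushingUpCLPSL.exists_generating 2 hF
      exact hUtop (U.3 (hpP.to_subgroup ⊤) le_top).symm
    obtain ⟨P, hP⟩ := h.sit.2.1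
    have hHS : pCl 2 G ⊓ (P : Subgroup G) ≤ π.ker := by
      intro y hy
      rw [hP] at hy
      have hyQ : y ∈ pCore 2 G := hX ⟨hy.2, hclK hy.1⟩
      have hN : ((pCore 2 G).map π).Normal := hQn.map π hsurj
      rcases hN.eq_bot_or_eq_top with hb | ht'
      · exact (Subgroup.map_eq_bot_iff _).1 hb hyQ
      · obtain ⟨U, w, -, hUtop⟩ := PushingUpCLPSL.exists_generating 2 hF
        have htp : IsPGroup 2 (⊤ : Subgroup (Matrix.ProjectiveSpecialLinearGroup (Fin 2) F)) :=
          ht' ▸ (HallCore.isPGroup_pCore 2 G).map π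
        exact absurd (U.3 htp le_top).symm hUtop
    have hidx : ¬ 2 ∣ ((pCl 2 G ⊓ (P : Subgroup G)).subgroupOf (pCl 2 G)).index := by
      intro hdv
      refine P.not_dvd_index (hdv.trans (dvd_of_eq ?_))
      have h1 := ThompsonAQuad.card_sup_mul_card_inf (pCl 2 G) (P : Subgroup G)
      rw [pCl_sup_eq_top P, Subgroup.card_top, ← card_mul_index (P : Subgroup G),
        ← card_mul_index ((pCl 2 G ⊓ (P : Subgroup G)).subgroupOf (pCl 2 G)),
        Nat.card_congr (subgroupOfEquivOfLe (inf_le_left : pCl 2 G ⊓ (P : Subgroup G) ≤ pCl 2 G)).toEquiv]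
        at h1
      have h2 := Nat.card_pos (α := ↥(P : Subgroup G))
      have h3 := Nat.card_pos (α := ↥(pCl 2 G ⊓ (P : Subgroup G) : Subgroup G))
      refine Nat.eq_of_mul_eq_mul_left (Nat.mul_pos h2 h3) ?_
      linarith [h1]
    have hsub : (pCl 2 G ⊓ (P : Subgroup G)).subgroupOf (pCl 2 G) ≤ π.ker.subgroupOf (pCl 2 G) :=
      comap_mono hHS
    have hcard : Nat.card (Matrix.ProjectiveSpecialLinearGroup (Fin 2) F) =
        (π.ker.subgroupOf (pCl 2 G)).index := by
      rw [← Subgroup.card_top, ← ht]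
      exact (Subgroup.relIndex_ker (K := pCl 2 G) π).symm
    exact hidx (((dvd_trans (by norm_num : 2 ∣ 4) h4d).trans (dvd_of_eq hcard)).trans
      (index_dvd_of_le hsub))
  · right
    intro s q hq
    have hXn := (PushingUpJT.abelian_irreducible h.sit).2 (f.range ⊓ K2) (le_inf hQS hQK) inf_le_left
      hX fun g hg => by
        rintro _ ⟨y, hy, rfl⟩
        exact ⟨((mem_normalizer_iff.1 hg y).1 hy.1), hK2.conj_mem y hy.2 g⟩
    have hs : f s ∈ f.range ⊓ K2 := hXn.symm ▸ ⟨s, rfl⟩
    exact mem_modCent.1 hs.2 q hq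

/-- A non-wild member with an abelian supplement of `O_p(G)` is good. -/
theorem good_of_nonWild (hS : IsPGroup p S) {G : Type u} [Group G] {f : S →* G} (h : Member p G f)
    (hn : NonWild p f) (A : Subgroup S) (hA : IsElementaryAbelian p A)
    (hsup : ∀ s : S, ∃ a ∈ A, ∃ q ∈ qS p f, s = a * q) : Good p f := by
  have := h.fin
  have hc := core_of_nonWild hR hZe h hn
  have hd := h.data hR hZe
  have hQn : (pCore p G).Normal := HallCore.pCore_normal p G
  have hqn : (qS p f).Normal := hQn.comap f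
  obtain ⟨M, hF, -⟩ := PushAmalgam.exists_facts_of h.sit
    (by rw [← map_center_eq_range h.inj]; exact h.not_central)
    (by rw [← map_thompson h.inj, hR.J, ← MonoidHom.range_eq_map]; exact h.not_core)
  have hAc : ∀ a ∈ A, ∀ b ∈ A, a * b = b * a := fun a ha b hb =>
    PGroupsBasic.comm_of_isMulCommutative hA.1 ha hb
  set Dp := (dSub p G).comap f with hDp
  have hDn : Dp.Normal := (dSub_normal p G).comap f
  set R0 := Dp ⊔ center S with hR0
  set R1 := (center (S ⧸ Dp)).comap (QuotientGroup.mk' Dp) with hR1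
  have hR01 : R0 ≤ R1 := by
    refine sup_le (fun d hd' => ?_) fun z hz => ?_
    · show QuotientGroup.mk' Dp d ∈ center _
      rw [QuotientGroup.mk'_apply, (QuotientGroup.eq_one_iff d).2 hd']
      exact one_mem _
    · refine mem_center_iff.2 fun y => ?_
      obtain ⟨y, rfl⟩ := QuotientGroup.mk'_surjective Dp y
      rw [← map_mul, ← map_mul, mem_center_iff.1 hz y]
  have hQQ : ∀ a ∈ qS p f, ∀ b ∈ qS p f, ⁅a, b⁆ ∈ Dp := fun a ha b hb => by
    show f ⁅a, b⁆ ∈ dSub p G
    rw [map_commutatorElement]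
    exact hc.comm_fixed _ ha _ hb
  have hQp : ∀ q ∈ qS p f, q ^ p ∈ Dp := fun q hq => by
    show f (q ^ p) ∈ dSub p G
    rw [map_pow]
    exact hc.pow_fixed _ hq
  have hfin : ∀ z ∈ center S, z ∈ Dp → f z ∈ center G := fun z hz hzd => hc.fixed_central z hz hzd
  -- for odd `p`
  have hodd : p ≠ 2 → ∀ a ∈ A, ∀ q ∈ qS p f, ⁅a, q⁆ ∈ R0 := by
    intro hp a _ q hq
    obtain ⟨w, hw, hwq⟩ := exists_mul_of_odd hR hZe h hn hp (f q) hq
    obtain ⟨w, rfl⟩ := ((PushingUpJT.w_le_q h.sit).trans (PushingUpCL.pCore_le h.sit)) hw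
    have hd0 : w * q ∈ Dp := by show f (w * q) ∈ dSub p G; rw [map_mul]; exact hwq
    have hRn : R0.Normal := Subgroup.sup_normal Dp (center S)
    rw [show ⁅a, q⁆ = ⁅a, w⁻¹⁆ * (w⁻¹ * ⁅a, w * q⁆ * w⁻¹⁻¹) by
      simp only [commutatorElement_def]; group]
    refine mul_mem (mem_sup_right ?_) (hRn.conj_mem _ (mem_sup_left ?_) _)
    · rw [← commutatorElement_inv]
      exact inv_mem (hd.quad _ (inv_mem hw) a)
    · rw [show ⁅a, w * q⁆ = a * (w * q) * a⁻¹ * (w * q)⁻¹ from commutatorElement_def _ _]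
      exact mul_mem (hDn.conj_mem _ hd0 a) (inv_mem hd0)
  have hAQ : ∀ a ∈ A, ∀ q ∈ qS p f, ⁅a, q⁆ ∈ R1 := by
    by_cases hp : p = 2
    swap
    · exact fun a ha q hq => hR01 (hodd hp a ha q hq)
    intro a ha q hq
    by_cases haQ : a ∈ qS p f
    · exact hR01 (mem_sup_left (hQQ a haQ q hq))
    have hyQ : ⁅a, q⁆ ∈ qS p f := by
      rw [commutatorElement_def]
      exact mul_mem (hqn.conj_mem q hq a) (inv_mem hq)
    set y := ⁅a, q⁆ with hydef
    have hya : ⁅a, y⁆ ∈ Dp := by
      have ha2 : a * a = 1 := by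
        have h2 := hA.2 a ha
        rw [hp, pow_two] at h2
        exact h2
      have hinv : a⁻¹ = a := inv_eq_of_mul_eq_one_right ha2
      have e : ⁅a, y⁆ = (y⁻¹) ^ 2 := by
        have e1 : a * y * a⁻¹ = y⁻¹ := by
          rw [hydef]
          simp only [commutatorElement_def, mul_inv_rev, inv_inv, hinv]
          calc a * (a * q * a * q⁻¹) * a = (a * a) * q * a * q⁻¹ * a := by group
            _ = _ := by rw [ha2, one_mul]; group
        rw [commutatorElement_def, e1, pow_two]
      rw [e, ← hp]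
      exact hQp _ (inv_mem hyQ)
    rcases two_cases hR hZe h hn hp with hcard | hDW
    · refine mem_center_iff.2 fun t => ?_
      obtain ⟨t, rfl⟩ := QuotientGroup.mk'_surjective Dp t
      set π := QuotientGroup.mk' Dp
      have hcm : ∀ x, ⁅x, y⁆ ∈ Dp → Commute (π x) (π y) := fun x hx => by
        refine commutatorElement_eq_one_iff_mul_comm.1 ?_
        rw [← map_commutatorElement]
        exact (QuotientGroup.eq_one_iff _).2 hx
      have hidx : (qS p f).index = 2 := by
        have h1 := card_mul_index (qS p f)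
        rw [← card_map_of_injective h.inj (K := qS p f),
          show (qS p f).map f = pCore p G from map_comap_eq_self (PushingUpCL.pCore_le h.sit),
          Nat.card_congr (MonoidHom.ofInjective h.inj).toEquiv, hcard, mul_comm 2] at h1
        exact Nat.eq_of_mul_eq_mul_left Nat.card_pos h1
      by_cases htQ : t ∈ qS p f
      · exact (hcm t (hQQ t htQ y hyQ)).eq
      · obtain ⟨r, hr, rfl⟩ : ∃ r ∈ qS p f, t = a * r := by
          refine ⟨a⁻¹ * t, ?_, by group⟩
          rw [Subgroup.mul_mem_iff_of_index_two hidx, inv_mem_iff]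
          exact iff_of_false haQ htQ
        rw [map_mul]
        exact ((hcm a hya).mul_left (hcm r (hQQ r hr y hyQ))).eq
    · refine hR01 ?_
      have h1 : f y ∈ dSub p G ⊔ PushingUpCL.wSub p f.range := by
        rw [hydef, map_commutatorElement]
        exact hDW a _ hq
      rw [← SetLike.mem_coe, mul_normal (dSub p G) (N := PushingUpCL.wSub p f.range)
        (hN := normalClosure_normal)] at h1
      obtain ⟨d', hd', w', hw', hy'⟩ := Set.mem_mul.1 h1
      obtain ⟨w, rfl⟩ := ((PushingUpJT.w_le_q h.sit).trans (PushingUpCL.pCore_le h.sit)) hw'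
      have hd0 : y * w⁻¹ ∈ Dp := by
        show f (y * w⁻¹) ∈ dSub p G
        rw [map_mul, map_inv, ← hy', mul_inv_cancel_right]
        exact hd'
      have haw : ⁅a, w⁆ ∈ Dp := by
        rw [show ⁅a, w⁆ = (a * (y * w⁻¹)⁻¹ * a⁻¹) * ⁅a, y⁆ * (y * w⁻¹) by
          simp only [commutatorElement_def]; group]
        exact mul_mem (mul_mem (hDn.conj_mem _ (inv_mem hd0) a) hya) hd0
      have hz : ⁅w, a⁆ ∈ center S := hd.quad w hw' a
      have hzd : ⁅w, a⁆ ∈ Dp := by rw [← commutatorElement_inv]; exact inv_mem haw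
      have h1 := hF.comm_C (f a) ⟨a, rfl⟩ (f w) hw'
        ⟨(map_commutatorElement f w a) ▸ hd.center_le hz,
          (map_commutatorElement f w a) ▸ hfin _ hz hzd⟩
      rw [← map_commutatorElement] at h1
      have hwc : w ∈ center S := hd.fix a haQ w hw'
        (commutatorElement_eq_one_iff_mul_comm.1 (h.inj (h1.trans f.map_one.symm))).symm
      rw [show y = (y * w⁻¹) * w by group]
      exact mul_mem (mem_sup_left hd0) (mem_sup_right hwc)
  have hcomm : commutator S ≤ R1 := by
    refine commutator_le_of_pieces R1 A (qS p f) hsup hAc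
      (fun a ha b hb => hR01 (mem_sup_left (hQQ a ha b hb))) hAQ
  have hL2 : (⊤ : Subgroup S).lowerCentralSeries 2 ≤ Dp := by
    show ⁅⁅(⊤ : Subgroup S), (⊤ : Subgroup S)⁆, (⊤ : Subgroup S)⁆ ≤ Dp
    rw [commutator_le]
    intro r hr s _
    have hr' : r ∈ R1 := hcomm (by rw [_root_.commutator_def]; exact hr)
    refine (QuotientGroup.eq_one_iff _).1 ?_
    show QuotientGroup.mk' Dp ⁅r, s⁆ = 1
    rw [map_commutatorElement, commutatorElement_eq_one_iff_mul_comm]
    exact (mem_center_iff.1 hr' _).symm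
  have hFF : (frattini ↥(frattini S)).map (frattini S).subtype ≤ Dp := by
    rw [PushingUpCL.frattini_map_subtype (hS.to_subgroup _)]
    have hle : frattini S ≤ qS p f := by
      refine PGroupsBasic.frattini_le_of_elementary_quotient (p := p) ?_ fun x => ?_
      · rw [_root_.commutator_def, commutator_le]
        intro s _ t _
        show f ⁅s, t⁆ ∈ pCore p G
        rw [map_commutatorElement]
        exact hF.comm_S _ ⟨s, rfl⟩ _ ⟨t, rfl⟩
      · show f (x ^ p) ∈ pCore p G
        rw [map_pow]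
        exact hF.pow_S _ ⟨x, rfl⟩
    unfold PushingUpCL.phi
    refine sup_le ((commutator_mono hle hle).trans ?_) ((closure_le _).2 ?_)
    · rw [commutator_le]; exact fun a ha b hb => hQQ a ha b hb
    · rintro _ ⟨x, hx, rfl⟩
      exact hQp x (hle hx)
  intro T hTc hT
  rintro _ ⟨z, hz, rfl⟩
  refine hfin z (hTc hz) ?_
  rcases hT with ⟨-, hle⟩ | ⟨-, hle⟩ | hle | ⟨hp3, hcl, hle⟩
  · exact hL2 (hle hz)
  · exact hL2 (Subgroup.lowerCentralSeries_antitone _ (by norm_num : 2 ≤ 3) (hle hz))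
  · exact hFF (hle hz)
  · refine (show powerClosure p 1 (⊤ : Subgroup S) ≤ Dp from ?_) (hle hz)
    rw [powerClosure, closure_le]
    rintro _ ⟨s, -, rfl⟩
    obtain ⟨a, ha, q, hq, rfl⟩ := hsup s
    have hcen : ∀ r t : S, ⁅r, t⁆ ∈ center S := fun r t => by
      have h1 : commutator S ≤ center S := by
        rw [← centralizer_univ, ← coe_top]
        exact commutator_eq_bot_iff_le_centralizer.1 hcl
      exact h1 (commutator_mem_commutator (mem_top r) (mem_top t))
    show (a * q) ^ p ^ 1 ∈ Dp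
    rw [pow_one, PGroupsBasic.mul_pow_of_central (hcen q a), hA.2 a ha, one_mul]
    refine mul_mem (hQp q hq) ?_
    have hpow : ⁅q, a⁆ ^ p ∈ Dp := by
      have h1 : ⁅q, a⁆ ∈ R0 := by
        rw [← commutatorElement_inv]; exact inv_mem (hodd (by omega) a ha q hq)
      rw [← SetLike.mem_coe, hR0, mul_normal Dp (N := center S)] at h1
      obtain ⟨d', hd', z', hz', he⟩ := Set.mem_mul.1 h1
      rw [← he, (show Commute d' z' from mem_center_iff.1 hz' d').mul_pow, hZe.2 z' hz', mul_one]
      exact pow_mem hd' p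
    obtain ⟨m, hm⟩ := (Fact.out : p.Prime).dvd_choose_self (k := 2) two_ne_zero (by omega)
    rw [hm, pow_mul]
    exact pow_mem hpow m

/-- A non-wild member with an elementary abelian supplement of `O_p(G)` is tame. -/
theorem tame_of_nonWild (hS : IsPGroup p S) {G : Type u} [Group G] {f : S →* G} (h : Member p G f)
    (hn : NonWild p f) (A : Subgroup S) (hA : IsElementaryAbelian p A)
    (hsup : ∀ s : S, ∃ a ∈ A, ∃ q ∈ qS p f, s = a * q) : Tame p G f :=
  ⟨even_of_nonWild h hn, good_of_nonWild hR hZe hS h hn A hA hsup⟩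

end Cfsg.Agent.PushFamily
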