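import Mathlib
import Cfsg.Agent.Lib.PushFamPath
import Cfsg.Agent.Lib.PushFamGood

/-!
Pushing up, uniform version: an endpoint of a pair of distance two with a twin normalising the join of
all `W` makes that twin non-wild.
-/

set_option autoImplicit false

namespace Cfsg.Agent.PushFamily

open Subgroup
open Cfsg.Agent.PushAmalgam
open scoped Pointwise commutatorElement

universe u

variable {Γ : Type u} [Group Γ] {p : ℕ}

/-- A subgroup normalised by `G₀` and containing a Sylow subgroup's two generating pieces is all of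
`G₀`. -/
theorem Facts.le_of_gen {G₀ S M Q W Z C : Subgroup Γ} (hF : Facts p G₀ S M Q W Z C)
    {K : Subgroup Γ} (hK : ∀ g ∈ G₀, ∀ k ∈ K, g * k * g⁻¹ ∈ K) (hS : S ≤ K) {c : Γ} (hc : c ∈ S)
    (hcQ : c ∉ Q) : G₀ ≤ K := by
  obtain ⟨g, hg, hgM⟩ := hF.out
  rw [← hF.gen g hg hgM c hc hcQ]
  refine sup_le ?_ (zpowers_le.2 (hS hc))
  rintro _ ⟨s, hs, rfl⟩
  exact hK g hg s (hS hs)

namespace Fam

variable [Finite Γ] [Fact p.Prime] (A : Fam Γ p)

/-- Case (B) at distance two. -/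
theorem nonWild_of_pair {i j k i' : A.ι} {g : Γ} (hg : g ∈ A.G j)
    (hn : ¬ A.W i ≤ cj g (A.Q k)) (hW : A.W i' = A.W i) (hQ : A.Q i' = A.Q i)
    (hV : A.G i' ≤ normalizer ((⨆ l, A.W l : Subgroup Γ) : Set Γ)) :
    (∀ x ∈ A.G i', p.Coprime (orderOf x) → ∀ q ∈ A.Q i, ⁅x, q⁆ ∈ A.W i) ∧
      cj g (A.W k) ≤ A.S ∧ ∀ s ∈ A.S, ∃ w ∈ cj g (A.W k), ∃ q ∈ A.Q i, s = w * q := by
  have hF := A.facts i
  have hF' := A.facts i'
  rw [hW, hQ] at hF'
  have hFj := A.facts j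
  have hQj : cj g (A.Q j) = A.Q j := cj_of_mem_normalizer (hFj.G_norm_Q hg)
  let x : A.Flag := (1, i)
  let y : A.Flag := (g, k)
  have hx : A.Wv x ≤ A.Sv y := by
    show cj 1 (A.W i) ≤ cj g A.S
    rw [cj_one]
    exact (A.WQ_edge i j).trans (hQj.ge.trans (cj_mono hFj.Q_le))
  have hy : A.Wv y ≤ A.Sv x := by
    show cj g (A.W k) ≤ cj 1 A.S
    rw [cj_one]
    exact (cj_mono (A.WQ_edge k j)).trans (hQj.le.trans hFj.Q_le)
  have hn0 : ¬ A.Wv x ≤ A.Qv y := by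
    show ¬ cj 1 (A.W i) ≤ cj g (A.Q k)
    rwa [cj_one]
  obtain ⟨hn', -, -, hdec⟩ := A.pair hx hy hn0
  obtain ⟨-, -, -, hdec'⟩ := A.pair hy hx hn'
  have hyS : cj g (A.W k) ≤ A.S := by
    have h : cj g (A.W k) ≤ cj 1 A.S := hy
    rwa [cj_one] at h
  have hsupp : ∀ s ∈ A.S, ∃ w ∈ cj g (A.W k), ∃ q ∈ A.Q i, s = w * q := by
    intro s hs
    obtain ⟨w, hw, q, hq, rfl⟩ := hdec' s (show s ∈ cj 1 A.S by rwa [cj_one])
    exact ⟨w, hw, q, (show q ∈ cj 1 (A.Q i) from hq) |> fun h => by rwa [cj_one] at h, rfl⟩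
  refine ⟨?_, hyS, hsupp⟩
  -- the twin centralises `V` modulo `W`
  have hVZ : ∀ v ∈ (⨆ l, A.W l : Subgroup Γ), ∀ s ∈ A.S, ⁅v, s⁆ ∈ A.W i := by
    intro v hv
    have hle : (⨆ l, A.W l : Subgroup Γ) ≤
        comSub A.S (A.W i) (A.S : Set Γ) (hF.S_le.trans hF.G_norm_W) :=
      iSup_le fun l w hw => ⟨(A.facts l).Q_le ((A.facts l).W_le hw),
        fun s hs => hF.Z_le ((A.facts l).quad s hs w hw)⟩
    exact (hle hv).2
  set K := comSub (A.G i') (A.W i) ((⨆ l, A.W l : Subgroup Γ) : Set Γ) hF'.G_norm_W with hK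
  have hKall : A.G i' ≤ K := by
    obtain ⟨c, hc, hcQ⟩ : ∃ c ∈ A.S, c ∉ A.Q i := by
      obtain ⟨w, hw, hwQ⟩ := SetLike.not_le_iff_exists.1 hn'
      exact ⟨w, hyS hw, fun h => hwQ (show w ∈ cj 1 (A.Q i) by rwa [cj_one])⟩
    refine Facts.le_of_gen hF' (fun a ha b hb => ?_)
      (fun s hs => ⟨hF'.S_le hs, fun v hv => comm_symm_mem (hVZ v hv s hs)⟩) hc hcQ
    refine ⟨mul_mem (mul_mem ha hb.1) (inv_mem ha), fun v hv => ?_⟩
    have hv' : a⁻¹ * v * a⁻¹⁻¹ ∈ (⨆ l, A.W l : Subgroup Γ) :=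
      (mem_normalizer_iff.1 (hV (inv_mem ha)) v).1 hv
    have h := (mem_normalizer_iff.1 (hF'.G_norm_W ha) _).1 (hb.2 _ hv')
    convert h using 1
    simp only [commutatorElement_def]
    group
  have hrho : ∀ h ∈ A.G i', ∀ w ∈ A.W j, ⁅h, w⁆ ∈ A.W i := fun h hh w hw =>
    (hKall hh).2 w (le_iSup A.W j hw)
  -- the twin moves `Q i` into `Q j`
  have hmove : ∀ h ∈ A.G i', ∀ q ∈ A.Q i, ⁅h, q⁆ ∈ A.Q i ⊓ A.Q j := by
    intro h hh q hq
    have hqh : h * q * h⁻¹ ∈ A.Q i := (mem_normalizer_iff.1 (hF'.G_norm_Q hh) q).1 hq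
    have hin : ⁅h, q⁆ ∈ A.Q i := by rw [commutatorElement_def]; exact mul_mem hqh (inv_mem hq)
    refine ⟨hin, hFj.cent_S (hF.Q_le hin) fun w hw => ?_⟩
    have hconj : ∀ a ∈ A.G i', ∀ r ∈ A.Q i, a * ⁅w, r⁆ * a⁻¹ = ⁅w, a * r * a⁻¹⁆ := by
      intro a ha r hr
      have hc := hrho a ha w hw
      have hr' : a * r * a⁻¹ ∈ A.Q i := (mem_normalizer_iff.1 (hF'.G_norm_Q ha) r).1 hr
      have c1 : Commute ⁅a, w⁆ (a * r * a⁻¹) := (hF.W_comm _ hr' _ hc).symm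
      have c2 : Commute ⁅a, w⁆ w := (hF.W_comm _ (A.WQ_edge j i hw) _ hc).symm
      rw [show a * ⁅w, r⁆ * a⁻¹ = ⁅⁅a, w⁆ * w, 1 * (a * r * a⁻¹)⁆ by
        simp only [commutatorElement_def]; group]
      exact commutatorElement_mul_of_commute c2 c1 (Commute.one_right _) (Commute.one_left _)
        (Commute.one_left _)
    have hwS : ∀ r ∈ A.Q i, ⁅w, r⁆ ∈ A.Z := fun r hr => hFj.quad r (hF.Q_le hr) w hw
    have hC : ∀ r ∈ A.Q i, ⁅w, r⁆ ∈ A.C i' := by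
      intro r hr
      obtain ⟨g₀, hg₀, hg₀M⟩ := hF'.out
      rw [← hF'.inter g₀ hg₀ hg₀M]
      refine ⟨hwS r hr, PushAmalgam.mem_cj.2 ?_⟩
      have h1 := hconj g₀⁻¹ (inv_mem hg₀) r hr
      rw [inv_inv] at h1
      rw [h1]
      have := hwS _ ((mem_normalizer_iff.1 (hF'.G_norm_Q (inv_mem hg₀)) r).1 hr)
      rwa [inv_inv] at this
    have e1 : ⁅w, h * q * h⁻¹⁆ = ⁅w, q⁆ := by
      rw [← hconj h hh q hq, ((hF'.mem_C _).1 (hC q hq)).2 h hh, mul_inv_cancel_right]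
    have hqS : Commute q ⁅w, q⁆ := ((hF.mem_Z _).1 (hwS q hq)).2 q (hF.Q_le hq)
    have e2 : ⁅w, ⁅h, q⁆⁆ = 1 := by
      have hz : ⁅w, h * q * h⁻¹⁆ = ⁅w, ⁅h, q⁆⁆ * (⁅h, q⁆ * ⁅w, q⁆ * ⁅h, q⁆⁻¹) := by
        simp only [commutatorElement_def]; group
      rw [((hF.mem_Z _).1 (hwS q hq)).2 _ (hF.Q_le hin), mul_inv_cancel_right, e1] at hz
      exact mul_eq_right.1 hz.symm
    exact (commutatorElement_eq_one_iff_mul_comm.1 e2).symm
  set R := A.Q i ⊓ A.Q j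
  have hRnorm : ∀ h ∈ A.G i', ∀ r ∈ R, h * r * h⁻¹ ∈ R := by
    intro h hh r hr
    rw [show h * r * h⁻¹ = ⁅h, r⁆ * r by simp only [commutatorElement_def]; group]
    exact mul_mem (hmove h hh r hr.1) hr
  -- an element outside `Q i` centralises `R` modulo `W i`
  obtain ⟨u, hu, huQ⟩ := SetLike.not_le_iff_exists.1 hn'
  have hu' : u ∈ cj g (A.W k) := hu
  have huQi : u ∉ A.Q i := fun h => huQ (show u ∈ cj 1 (A.Q i) by rwa [cj_one])
  have huR : ∀ r ∈ R, ⁅u, r⁆ ∈ A.W i := by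
    intro r hr
    obtain ⟨w, hw, q, hq, rfl⟩ := hdec r (show r ∈ cj g A.S from (hQj.ge.trans (cj_mono hFj.Q_le)) hr.2)
    have hw' : w ∈ A.W i := by
      have h : w ∈ cj 1 (A.W i) := hw
      rwa [cj_one] at h
    have hqu : Commute u q := ((A.facts_at y).W_comm q hq u hu).symm
    rw [show ⁅u, w * q⁆ = ⁅u, w⁆ * (w * ⁅u, q⁆ * w⁻¹) by simp only [commutatorElement_def]; group,
      commutatorElement_eq_one_iff_mul_comm.2 hqu.eq, mul_one, mul_inv_cancel, mul_one]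
    exact hF.Z_le (comm_symm_mem (hF.quad u (hyS hu') w hw'))
  set K1 := comSub (A.G i') (A.W i) (R : Set Γ) hF'.G_norm_W with hK1
  have hK1n : (K1.subgroupOf (A.G i')).Normal := by
    refine ⟨fun b hb a => ?_⟩
    show ((a : Γ) * b * (a : Γ)⁻¹) ∈ K1
    refine ⟨mul_mem (mul_mem a.2 b.2) (inv_mem a.2), fun r hr => ?_⟩
    have hr' : (a : Γ)⁻¹ * r * (a : Γ)⁻¹⁻¹ ∈ R := hRnorm _ (inv_mem a.2) r hr
    have h := (mem_normalizer_iff.1 (hF'.G_norm_W a.2) _).1 ((hb : (b : Γ) ∈ K1).2 _ hr')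
    convert h using 1
    simp only [commutatorElement_def, Subgroup.coe_subtype]
    group
  obtain ⟨g₀, hg₀, hg₀M⟩ := hF'.out
  have htop : K1.subgroupOf (A.G i') ⊔ (cj g₀ A.S).subgroupOf (A.G i') = ⊤ := by
    have hle : cj g₀ A.S ≤ A.G i' := by
      rintro _ ⟨s, hs, rfl⟩
      exact mul_mem (mul_mem hg₀ (hF'.S_le hs)) (inv_mem hg₀)
    have huK : u ∈ K1 := ⟨hF'.S_le (hyS hu'), huR⟩
    refine map_injective (A.G i').subtype_injective ?_
    rw [Subgroup.map_sup, subgroupOf_map_subtype, subgroupOf_map_subtype, ← MonoidHom.range_eq_map,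
      range_subtype, inf_eq_left.2 hle,
      inf_eq_left.2 (show K1 ≤ A.G i' from fun a ha => ha.1)]
    refine le_antisymm (sup_le (fun a ha => ha.1) hle) ?_
    rw [← hF'.gen g₀ hg₀ hg₀M u (hyS hu') huQi]
    exact sup_le le_sup_right (zpowers_le.2 (mem_sup_left huK))
  have hRp : IsPGroup p ((cj g₀ A.S).subgroupOf (A.G i')) := by
    refine IsPGroup.of_injective (hF'.S_pGroup.map (MulAut.conj g₀).toMonoidHom)
      { toFun := fun a => ⟨((a : A.G i') : Γ), a.2⟩, map_one' := rfl, map_mul' := fun _ _ => rfl }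
      fun a b hab => by
        have h1 := congrArg Subtype.val hab
        exact Subtype.ext (Subtype.ext h1)
  intro h hh hcop q hq
  have hhK : ∀ r ∈ R, ⁅h, r⁆ ∈ A.W i := by
    have h' : (⟨h, hh⟩ : A.G i') ∈ K1.subgroupOf (A.G i') := by
      refine mem_of_coprime hRp _ htop ?_
      rwa [← Subgroup.orderOf_coe]
    exact (h' : h ∈ K1).2
  set a := ⁅h, q⁆ with hadef
  have haR : a ∈ R := hmove h hh q hq
  have haK := hhK a haR
  let H := normalizer ((A.W i : Subgroup Γ) : Set Γ)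
  have hhH : h ∈ H := hF'.G_norm_W hh
  have hqH : q ∈ H := hF.G_norm_W (hF.S_le (hF.Q_le hq))
  have haH : a ∈ H := by
    rw [hadef, commutatorElement_def]
    exact mul_mem (mul_mem (mul_mem hhH hqH) (inv_mem hhH)) (inv_mem hqH)
  have hWn : ((A.W i).subgroupOf H).Normal := Subgroup.normal_subgroupOf_of_le_normalizer le_rfl
  set π := QuotientGroup.mk' ((A.W i).subgroupOf H)
  obtain ⟨t, ht⟩ := hF.S_pGroup ⟨a, hF.Q_le haR.1⟩
  have ht' : a ^ p ^ t = 1 := congrArg Subtype.val ht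
  have h1 : π ⟨a, haH⟩ = 1 := by
    refine eq_one_of_conj (p := p ^ t) (x := π ⟨h, hhH⟩) (q := π ⟨q, hqH⟩) ?_ ?_ ?_ ?_
    · refine Nat.Coprime.coprime_dvd_right (orderOf_map_dvd π _) ?_
      rw [← Subgroup.orderOf_coe]
      exact hcop.pow_left t
    · rw [← map_pow, show (⟨a, haH⟩ : H) ^ p ^ t = 1 from Subtype.ext (by simpa using ht'), map_one]
    · refine commutatorElement_eq_one_iff_mul_comm.1 ?_
      rw [← map_commutatorElement]
      exact (QuotientGroup.eq_one_iff _).2 haK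
    · rw [← map_inv, ← map_mul, ← map_mul, ← map_mul]
      refine congrArg π (Subtype.ext ?_)
      show h * q * h⁻¹ = a * q
      rw [hadef]; simp only [commutatorElement_def]; group
  have h2 : (⟨a, haH⟩ : H) ∈ (A.W i).subgroupOf H := (QuotientGroup.eq_one_iff _).1 h1
  exact h2

end Fam

end Cfsg.Agent.PushFamily
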