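import Mathlib
import Cfsg.Agent.Lib.PushFamHigh
import Cfsg.Agent.Lib.PushFamKillB
import Cfsg.Agent.Lib.PushFamEmbed

/-!
Pushing up, uniform version: the finite families of a selection close up.
-/

set_option autoImplicit false

namespace Cfsg.Agent.PushFamily

open Subgroup Cfsg
open scoped commutatorElement Pointwise

universe u

theorem map_le_normalizer_of_normal {H Γ : Type*} [Group H] [Group Γ] (f : H →* Γ) {X : Subgroup H}
    (hX : X.Normal) : (⊤ : Subgroup H).map f ≤ normalizer (X.map f : Set Γ) := by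
  rintro _ ⟨a, -, rfl⟩
  refine mem_normalizer_iff.2 fun y => ⟨?_, ?_⟩
  · rintro ⟨x, hx, rfl⟩
    exact ⟨a * x * a⁻¹, hX.conj_mem x hx a, by simp⟩
  · rintro ⟨x, hx, he⟩
    exact ⟨a⁻¹ * x * a⁻¹⁻¹, hX.conj_mem x hx a⁻¹, by rw [map_mul, map_mul, he]; simp [mul_assoc]⟩

theorem normal_of_map_le_normalizer {H Γ : Type*} [Group H] [Group Γ] {f : H →* Γ}
    (hf : Function.Injective f) {X : Subgroup H}
    (hX : (⊤ : Subgroup H).map f ≤ normalizer (X.map f : Set Γ)) : X.Normal := by
  refine ⟨fun x hx a => ?_⟩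
  have h := (mem_normalizer_iff.1 (hX (mem_map_of_mem f (mem_top a))) (f x)).1 (mem_map_of_mem f hx)
  rw [← map_inv, ← map_mul, ← map_mul] at h
  obtain ⟨y, hy, he⟩ := h
  exact hf he ▸ hy

theorem map_lowerCentralSeries_top {H Γ : Type*} [Group H] [Group Γ] (f : H →* Γ) :
    ∀ n, ((⊤ : Subgroup H).lowerCentralSeries n).map f = f.range.lowerCentralSeries n
  | 0 => (MonoidHom.range_eq_map f).symm
  | n + 1 => by
    rw [Subgroup.lowerCentralSeries_succ, Subgroup.lowerCentralSeries_succ, map_commutator, map_lowerCentralSeries_top f n,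
      ← MonoidHom.range_eq_map]

variable {S : Type u} [Group S] [Finite S] {p : ℕ} [Fact p.Prime]

theorem inFun_map (hS : IsPGroup p S) {Γ : Type u} [Group Γ] {φ : S →* Γ} {T : Subgroup S}
    (h : InFunctor p T) : InFun p φ.range (T.map φ) := by
  rcases h with ⟨h1, hle⟩ | ⟨h1, hle⟩ | hle | ⟨h1, h2, hle⟩
  · exact Or.inl ⟨h1, map_lowerCentralSeries_top φ 2 ▸ map_mono hle⟩
  · exact Or.inr (Or.inl ⟨h1, map_lowerCentralSeries_top φ 3 ▸ map_mono hle⟩)
  · refine Or.inr (Or.inr (Or.inl ?_))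
    rw [PushingUpCL.frattini_map_subtype (hS.to_subgroup _)] at hle
    refine (map_mono hle).trans ?_
    rw [MonoidHom.range_eq_map, ← PushingUpCL.phi_map, ← PushingUpCL.phi_map]
    refine map_mono ?_
    have hn : (PushingUpCL.phi p (⊤ : Subgroup S)).Normal := PGroupsBasic.normal_of_commutator_le le_sup_left
    have hF : frattini S ≤ PushingUpCL.phi p (⊤ : Subgroup S) :=
      PGroupsBasic.frattini_le_of_elementary_quotient (p := p) le_sup_left
        fun x => mem_sup_right (subset_closure ⟨x, mem_top x, rfl⟩)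
    exact sup_le_sup (commutator_mono hF hF) (closure_mono (Set.image_mono hF))
  · refine Or.inr (Or.inr (Or.inr ⟨h1, ?_, ?_⟩))
    · rw [← map_lowerCentralSeries_top, h2, Subgroup.map_bot]
    · refine (map_mono hle).trans ?_
      rw [powerClosure, MonoidHom.map_closure]
      refine closure_mono ?_
      rintro _ ⟨_, ⟨x, -, rfl⟩, rfl⟩
      exact ⟨φ x, ⟨x, rfl⟩, map_pow φ _ _⟩

/-- The statement about middle vertices supplied by the amalgam method. -/
def MidHyp (p : ℕ) : Prop :=
  ∀ (Γ : Type u) [Group Γ] [Finite Γ] (A : Fam Γ p), A.Critical →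
    ∃ i, A.sel i ∧ p = 3 ∧ ⁅A.Q i, A.Q i⁆ ⊓ A.Z ≤ A.C i ∧
      ∀ T ≤ A.Z, InFun p A.S T → T ≤ A.C i

/-- The families of a selection close up. -/
theorem familyClosed (hmid : MidHyp.{u} p) (hS : IsPGroup p S) (hR : Reduced S)
    (hZe : IsElementaryAbelian p (center S)) : FamilyClosed (S := S) p (Tame p) := by
  intro 𝕋 ι _ G _ f hfam
  obtain ⟨n, ⟨e0⟩⟩ := Finite.exists_equiv_fin ι
  let e : Fin n ≃ ι := e0.symm
  have hfin : ∀ k, Finite (G (e k)) := fun k => (hfam.mem (e k)).fin
  have hinj : ∀ k, Function.Injective (f (e k)) := fun k => (hfam.mem (e k)).inj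
  obtain ⟨Γ, iΓ, fΓ, φ, j, hφ, hj⟩ :=
    exists_common_embedding (fun k => G (e k)) (fun k => f (e k)) hinj
  have hji : ∀ k, Function.Injective (j k) := fun k => (hj k).1
  have hjf : ∀ k (X : Subgroup S), (X.map (f (e k))).map (j k) = X.map φ := fun k X => by
    rw [Subgroup.map_map, (hj k).2]
  have hjr : ∀ k, (f (e k)).range.map (j k) = φ.range := fun k => by
    rw [MonoidHom.range_eq_map, hjf, ← MonoidHom.range_eq_map]
  have hd : ∀ k, MemData p (f (e k)) := fun k => (hfam.mem (e k)).data hR hZe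
  have hW : ∀ k, (wS p (f (e k))).map (f (e k)) = PushingUpCL.wSub p (f (e k)).range := fun k =>
    map_comap_eq_self ((PushingUpJT.w_le_q (hfam.mem (e k)).sit).trans
      (PushingUpCL.pCore_le (hfam.mem (e k)).sit))
  have hQ : ∀ k, (qS p (f (e k))).map (f (e k)) = pCore p (G (e k)) := fun k =>
    map_comap_eq_self (PushingUpCL.pCore_le (hfam.mem (e k)).sit)
  have hZ : ∀ k, PushingUpCL.wSub p (f (e k)).range ⊓ centralizer ((f (e k)).range : Set (G (e k))) =
      (center S).map (f (e k)) := fun k => by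
    rw [map_center_eq_range (hinj k)]
    refine le_antisymm (le_inf ?_ inf_le_right) (le_inf ?_ inf_le_right)
    · exact inf_le_left.trans
        ((PushingUpJT.w_le_q (hfam.mem (e k)).sit).trans (PushingUpCL.pCore_le (hfam.mem (e k)).sit))
    · rw [← map_center_eq_range (hinj k), ← hW k]
      exact map_mono (hd k).center_le
  have hfacts : ∀ k, ∃ M : Subgroup (G (e k)), PushAmalgam.Facts p ⊤ (f (e k)).range M (pCore p (G (e k)))
      (PushingUpCL.wSub p (f (e k)).range) ((center S).map (f (e k)))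
      (PushingUpCL.wSub p (f (e k)).range ⊓ center (G (e k))) := fun k => by
    obtain ⟨M, hM, -⟩ := PushAmalgam.exists_facts_of (hfam.mem (e k)).sit
      (by rw [← map_center_eq_range (hinj k)]; exact (hfam.mem (e k)).not_central)
      (by rw [← map_thompson (hinj k), hR.J, ← MonoidHom.range_eq_map]; exact (hfam.mem (e k)).not_core)
    rw [hZ k] at hM
    exact ⟨M, hM⟩
  choose M hM using hfacts
  set V := sSup 𝕋 with hV
  let GΓ : Fin n → Subgroup Γ := fun k => (⊤ : Subgroup (G (e k))).map (j k)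
  have hnormV : ∀ k, (GΓ k ≤ normalizer (V.map φ : Set Γ)) ↔ (V.map (f (e k))).Normal := fun k => by
    rw [← hjf k V]
    exact ⟨normal_of_map_le_normalizer (hji k), map_le_normalizer_of_normal (j k)⟩
  have hVW : (⨆ k : Fin n, (wS p (f (e k))).map φ) = V.map φ := by
    refine le_antisymm (iSup_le fun k => map_mono (le_sSup (hfam.wmem (e k)))) ?_
    rw [map_le_iff_le_comap, hV]
    refine sSup_le fun w hw => ?_
    obtain ⟨i, rfl⟩ := hfam.cover w hw
    obtain ⟨k, rfl⟩ := e.surjective i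
    exact map_le_iff_le_comap.1 (le_iSup (fun k : Fin n => (wS p (f (e k))).map φ) k)
  have hqQ : ∀ k l, wS p (f (e k)) = wS p (f (e l)) → qS p (f (e k)) = qS p (f (e l)) := fun k l h => by
    rw [← (hd k).centW, h, (hd l).centW]
  -- the two kinds of selection
  suffices h : ∀ sel : Fin n → Prop, (∀ k, ∃ l, sel l ∧ wS p (f (e l)) = wS p (f (e k))) →
      (∀ k, sel k → ¬ (V.map (f (e k))).Normal) →
      ((∀ k, sel k → ¬ Tame p (G (e k)) (f (e k))) ∨
        ∀ k, ∃ l, wS p (f (e l)) = wS p (f (e k)) ∧ ¬ Tame p (G (e l)) (f (e l)) ∧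
          (V.map (f (e l))).Normal) →
      ∃ Y : Subgroup S, V ≤ Y ∧ ∀ i, (Y.map (f i)).Normal by
    rcases hfam.twin with hA | ⟨hB1, hB2⟩
    · refine h (fun k => ¬ (V.map (f (e k))).Normal ∧ ¬ Tame p (G (e k)) (f (e k))) (fun k => ?_)
        (fun k hk => hk.1) (Or.inl fun k hk => hk.2)
      obtain ⟨i, h1, h2, h3⟩ := hA (e k)
      obtain ⟨l, rfl⟩ := e.surjective i
      exact ⟨l, ⟨h2, h3⟩, h1⟩
    · refine h (fun k => ¬ (V.map (f (e k))).Normal) (fun k => ?_) (fun k hk => hk) (Or.inr fun k => ?_)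
      · obtain ⟨i, h1, h2⟩ := hB1 (e k)
        obtain ⟨l, rfl⟩ := e.surjective i
        exact ⟨l, h2, h1⟩
      · obtain ⟨i, h1, h2, h3⟩ := hB2 (e k)
        obtain ⟨l, rfl⟩ := e.surjective i
        exact ⟨l, h1, h2, h3⟩
  intro sel htw hsel hkind
  let A : Fam Γ p :=
    { ι := Fin n
      G := GΓ
      M := fun k => (M k).map (j k)
      Q := fun k => (qS p (f (e k))).map φ
      W := fun k => (wS p (f (e k))).map φ
      C := fun k => (PushingUpCL.wSub p (f (e k)).range ⊓ center (G (e k))).map (j k)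
      S := φ.range
      Z := (center S).map φ
      facts := fun k => by
        have h := (hM k).map (j k) (hji k)
        rw [hjr k, hjf k, ← hQ k, hjf k] at h
        nth_rewrite 1 [← hW k] at h
        rw [hjf k] at h
        exact h
      model := fun k => ⟨G (e k), inferInstance, hfin k, j k, _, _, _, _, _, _, hji k, hM k, rfl, hjr k, rfl,
        by rw [← hQ k, hjf k], by rw [← hW k, hjf k], hjf k _, rfl⟩
      WQ_edge := fun k l => map_mono (hfam.adj _ (hfam.wmem (e k)) (e l))
      sel := sel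
      twin := fun k => by
        obtain ⟨l, hl, hlw⟩ := htw k
        exact ⟨l, hl, congrArg (Subgroup.map φ) hlw, congrArg (Subgroup.map φ) (hqQ l k hlw)⟩
      sel_moves := fun k hk hle => hsel k hk ((hnormV k).1 (hVW ▸ hle)) }
  by_cases hcrit : A.Critical
  swap
  · obtain ⟨Y, hYS, hWY, hY⟩ := A.exists_common hcrit
    refine ⟨Y.comap φ, sSup_le fun w hw => ?_, fun i => ?_⟩
    · obtain ⟨i, rfl⟩ := hfam.cover w hw
      obtain ⟨k, rfl⟩ := e.surjective i
      exact map_le_iff_le_comap.1 (hWY k)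
    · obtain ⟨k, rfl⟩ := e.surjective i
      refine normal_of_map_le_normalizer (hji k) ?_
      rw [hjf k, map_comap_eq_self hYS]
      exact hY k
  exfalso
  rcases hkind with hA | hB
  · obtain ⟨k, hk, -, heven, hgood⟩ := hmid Γ A hcrit
    have hback : ∀ z : S, φ z ∈ A.C k → f (e k) z ∈ center (G (e k)) := by
      rintro z ⟨y, hy, he⟩
      have h1 : φ z = j k (f (e k) z) := (DFunLike.congr_fun (hj k).2 z).symm
      rw [h1] at he
      exact (hji k he) ▸ hy.2
    refine hA k hk ⟨fun v hv q hq hc => hback _ (heven ⟨?_, mem_map_of_mem φ hc⟩), fun T hT hfun => ?_⟩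
    · rw [map_commutatorElement]
      exact commutator_mem_commutator (mem_map_of_mem φ hv) (mem_map_of_mem φ hq)
    · rintro _ ⟨z, hz, rfl⟩
      exact hback z (hgood (T.map φ) (map_mono hT) (inFun_map hS hfun) (mem_map_of_mem φ hz))
  · obtain ⟨i, m, k, g, hg, hn⟩ := A.exists_pair hcrit
    obtain ⟨l, hlw, hlt, hln⟩ := hB i
    obtain ⟨hnw, hle, hsup⟩ := A.nonWild_of_pair hg hn (i' := l) (congrArg (Subgroup.map φ) hlw)
      (congrArg (Subgroup.map φ) (hqQ l i hlw)) (by
        show GΓ l ≤ normalizer ((⨆ k : Fin n, (wS p (f (e k))).map φ : Subgroup Γ) : Set Γ)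
        rw [hVW]
        exact (hnormV l).2 hln)
    refine hlt (tame_of_nonWild hR hZe hS (hfam.mem (e l)) (fun x hx q hq => ?_)
      ((PushAmalgam.cj g (A.W k)).comap φ) ⟨⟨⟨fun a b => Subtype.ext (hφ ?_)⟩⟩, fun a ha => hφ ?_⟩
      fun s => ?_)
    · have hq' : j l q ∈ A.Q i := by
        show j l q ∈ (qS p (f (e i))).map φ
        rw [← hqQ l i hlw, ← hjf l, hQ l]
        exact mem_map_of_mem (j l) hq
      have h := hnw (j l x) (mem_map_of_mem (j l) (mem_top x))
        (by rwa [orderOf_injective (j l) (hji l)]) (j l q) hq'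
      rw [← map_commutatorElement,
        show A.W i = ((wS p (f (e l))).map (f (e l))).map (j l) by rw [hjf l, hlw], hW l] at h
      obtain ⟨y, hy, he⟩ := h
      exact hji l he ▸ hy
    · obtain ⟨a', ha', hae⟩ := (a.2 : φ (a : S) ∈ PushAmalgam.cj g (A.W k))
      obtain ⟨b', hb', hbe⟩ := (b.2 : φ (b : S) ∈ PushAmalgam.cj g (A.W k))
      show φ ((a : S) * b) = φ ((b : S) * a)
      rw [map_mul, map_mul, ← hae, ← hbe, ← map_mul, ← map_mul,
        (A.facts k).W_comm a' ((A.facts k).W_le ha') b' hb']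
    · obtain ⟨a', ha', hae⟩ := (ha : φ a ∈ PushAmalgam.cj g (A.W k))
      rw [map_pow, map_one, ← hae, ← map_pow, (A.facts k).W_pow a' ha', map_one]
    · obtain ⟨w, hw, q, hq, he⟩ := hsup (φ s) ⟨s, rfl⟩
      obtain ⟨a, rfl⟩ := hle hw
      obtain ⟨q, hq', rfl⟩ := hq
      refine ⟨a, hw, q, (hqQ l i hlw).symm ▸ hq', hφ ?_⟩
      rw [map_mul]
      exact he

/-- The hypothesis of the reduction, from the statement about middle vertices. -/
theorem coreHyp (hmid : MidHyp.{u} p) (hS : IsPGroup p S) : CoreHyp p S := by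
  intro hR hZe
  refine coreHyp_of (Tame p) (fun G _ f φ _ ht => ?_) (familyClosed hmid hS hR hZe)
    (fun T hT hfun G _ f _ ht => ht.2 T hT hfun)
    (fun G _ f hm hn ⟨A, hA, hsup⟩ => tame_of_nonWild hR hZe hS hm hn A hA hsup)
    (fun G _ f _ ht => ht.1) hR hZe
  refine ⟨fun v hv q hq hc => ?_, fun T hT hfun => ?_⟩
  · have h := ht.1 (φ.symm v) ?_ (φ.symm q) ?_ ?_
    · simpa [map_commutatorElement] using h
    · rw [qS_comp]; show φ (φ.symm v) ∈ qS p f; rwa [φ.apply_symm_apply]
    · rw [qS_comp]; show φ (φ.symm q) ∈ qS p f; rwa [φ.apply_symm_apply]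
    · rw [← map_commutatorElement]
      exact (characteristic_iff_map_le.1 inferInstance φ.symm : (center S).map _ ≤ _) ⟨_, hc, rfl⟩
  · have hmap : (center S).map φ.symm.toMonoidHom = center S := characteristic_iff_map_eq.1 inferInstance φ.symm
    have hfun' : InFunctor p (T.map φ.symm.toMonoidHom) := by
      have hl : ∀ n, ((⊤ : Subgroup S).lowerCentralSeries n).map φ.symm.toMonoidHom =
          (⊤ : Subgroup S).lowerCentralSeries n := fun n =>
        characteristic_iff_map_eq.1 inferInstance φ.symm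
      rcases hfun with ⟨h1, h⟩ | ⟨h1, h⟩ | h | ⟨h1, h2, h⟩
      · exact Or.inl ⟨h1, hl 2 ▸ map_mono h⟩
      · exact Or.inr (Or.inl ⟨h1, hl 3 ▸ map_mono h⟩)
      · exact Or.inr (Or.inr (Or.inl
          (characteristic_iff_map_eq.1 (frattiniFrattini_characteristic hS) φ.symm ▸ map_mono h)))
      · exact Or.inr (Or.inr (Or.inr ⟨h1, h2,
          characteristic_iff_map_eq.1 (powerClosure_top_characteristic (p := p) (S := S)) φ.symm ▸ map_mono h⟩))
    have h := ht.2 (T.map φ.symm.toMonoidHom) (hmap ▸ map_mono hT) hfun'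
    rwa [← Subgroup.map_map,
      show (T.map φ.symm.toMonoidHom).map φ.toMonoidHom = T from map_symm_map φ.symm T] at h

end Cfsg.Agent.PushFamily
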