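import Mathlib
import Cfsg.Agent.Lib.PushAmalgamDefs

/-!
Pushing up, uniform version: a normal subgroup of `O_p` meeting `Z` outside `C` covers `W / C`.
-/

set_option autoImplicit false

namespace Cfsg.Agent.PushAmalgam

open Subgroup
open scoped commutatorElement

universe u

variable {Γ : Type u} [Group Γ] [Finite Γ] {p : ℕ} {G S M Q W Z C : Subgroup Γ}

/-- A subgroup normalised by `G` which meets `Z` outside `C` covers `W` modulo `C`. -/
theorem Facts.W_le_of_moved (hF : Facts p G S M Q W Z C) {X : Subgroup Γ} (hXQ : X ≤ Q)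
    (hXn : G ≤ normalizer (X : Set Γ)) (hne : ¬ X ⊓ Z ≤ C) : W ≤ X ⊔ C := by
  obtain ⟨z, hz, hzC⟩ := SetLike.not_le_iff_exists.1 hne
  obtain ⟨g, hg, hgM⟩ := hF.out
  set v := g * z * g⁻¹ with hv
  have hvX : v ∈ X := (mem_normalizer_iff.1 (hXn hg) z).1 hz.1
  have hvW : v ∈ W := (mem_normalizer_iff.1 (hF.G_norm_W hg) z).1 (hF.Z_le hz.2)
  have hvZ : v ∉ Z := fun h => by
    have hvC : v ∈ C := (hF.inter g hg hgM).le ⟨h, ⟨z, hz.2, rfl⟩⟩
    have e : g * v = v * g := ((hF.mem_C v).1 hvC).2 g hg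
    have e' : g⁻¹ * v * g = z := by rw [hv]; group
    exact hzC (e' ▸ by rwa [mul_assoc, ← e, inv_mul_cancel_left])
  have hquad : ∀ s : ↥S, ⁅v, (s : Γ)⁆ ∈ Z := fun s => hF.quad s s.2 v hvW
  let ψ : ↥S →* Γ :=
    { toFun := fun s => ⁅v, (s : Γ)⁆
      map_one' := by simp
      map_mul' := fun a b => by
        show ⁅v, (a : Γ) * b⁆ = ⁅v, (a : Γ)⁆ * ⁅v, (b : Γ)⁆
        have hc := ((hF.mem_Z _).1 (hquad b)).2 a a.2
        rw [show ⁅v, (a : Γ) * b⁆ = ⁅v, (a : Γ)⁆ * ((a : Γ) * ⁅v, (b : Γ)⁆ * (a : Γ)⁻¹) by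
          simp only [commutatorElement_def]; group, hc, mul_inv_cancel_right] }
  have hker : ψ.ker = Q.subgroupOf S := by
    ext s
    rw [MonoidHom.mem_ker, mem_subgroupOf]
    show ⁅v, (s : Γ)⁆ = 1 ↔ _
    rw [commutatorElement_eq_one_iff_mul_comm]
    exact ⟨fun h => by_contra fun hs => hvZ (hF.fix s s.2 hs v hvW h.symm),
      fun h => (hF.W_comm s h v hvW).symm⟩
  have hcard : Nat.card Q * Nat.card ψ.range = Nat.card S := by
    rw [← Nat.card_congr (subgroupOfEquivOfLe hF.Q_le).toEquiv, ← hker, ← index_ker, card_mul_index]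
  set R := X ⊓ Z ⊔ C with hR
  have hI : ψ.range ≤ X ⊓ Z := by
    rintro _ ⟨s, rfl⟩
    refine ⟨?_, hquad s⟩
    show v * s * v⁻¹ * (s : Γ)⁻¹ ∈ X
    rw [show v * s * v⁻¹ * (s : Γ)⁻¹ = v * ((s : Γ) * v⁻¹ * (s : Γ)⁻¹) by group]
    exact mul_mem hvX ((mem_normalizer_iff.1 (hXn (hF.S_le s.2)) _).1 (inv_mem hvX))
  have hIC : ∀ x ∈ ψ.range, x ∈ C → x = 1 := by
    rintro _ ⟨s, rfl⟩ h
    exact hF.comm_C s s.2 v hvW h
  let m : ↥ψ.range × ↥C → ↥R := fun a => ⟨a.1 * a.2, mul_mem_sup (hI a.1.2) a.2.2⟩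
  have hm : Function.Injective m := by
    rintro ⟨a, b⟩ ⟨a', b'⟩ h
    have h' : (a : Γ) * b = a' * b' := congrArg Subtype.val h
    have e : (a' : Γ)⁻¹ * a = b' * (b : Γ)⁻¹ := by
      calc (a' : Γ)⁻¹ * a = (a' : Γ)⁻¹ * (a * b) * (b : Γ)⁻¹ := by group
        _ = b' * (b : Γ)⁻¹ := by rw [h']; group
    have h1 := hIC _ (mul_mem (inv_mem a'.2) a.2) (e ▸ mul_mem b'.2 (inv_mem b.2))
    have ha : a = a' := Subtype.ext (inv_mul_eq_one.1 h1).symm
    subst ha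
    exact Prod.ext rfl (Subtype.ext (mul_left_cancel h'))
  have hRZ : R = Z := by
    refine eq_of_le_of_card_ge (sup_le inf_le_right hF.C_le) ?_
    refine le_trans (le_of_eq ?_) (Nat.card_le_card_of_injective m hm)
    rw [Nat.card_prod]
    have hQ : 0 < Nat.card Q := Nat.card_pos
    have hZ : 0 < Nat.card Z := Nat.card_pos
    have e1 : Nat.card ψ.range * Nat.card Z = Nat.card W := Nat.eq_of_mul_eq_mul_left hQ (by
      rw [← mul_assoc, hcard, hF.card_off])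
    exact Nat.eq_of_mul_eq_mul_right hZ (by rw [← hF.card_sq, ← e1]; ring)
  have hZX : Z ≤ X ⊔ C := hRZ.symm.le.trans (sup_le_sup_right inf_le_left C)
  intro w hw
  obtain ⟨u, hu, _, ⟨u', hu', rfl⟩, rfl⟩ := hF.dec g hg hgM w hw
  refine mul_mem (hZX hu) (?_ : g * u' * g⁻¹ ∈ X ⊔ C)
  have h : cj g (X ⊔ C) ≤ X ⊔ C := by
    rw [cj, Subgroup.map_sup]
    refine sup_le_sup ?_ ?_
    · rintro _ ⟨x, hx, rfl⟩; exact (mem_normalizer_iff.1 (hXn hg) x).1 hx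
    · rintro _ ⟨x, hx, rfl⟩
      show g * x * g⁻¹ ∈ C
      rwa [((hF.mem_C x).1 hx).2 g hg, mul_inv_cancel_right]
  exact h ⟨u', hZX hu', rfl⟩

end Cfsg.Agent.PushAmalgam
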