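import Mathlib
import Cfsg.Agent.Lib.PushFamHigh

/-!
Pushing up, uniform version: critical distance two; the middle vertex of five consecutive ones.
-/

set_option autoImplicit false
set_option linter.unusedSectionVars false

namespace Cfsg.Agent.PushFamily

open Subgroup
open Cfsg.Agent.PushAmalgam
open scoped commutatorElement

universe u

variable {Γ : Type u} [Group Γ] [Finite Γ] {p : ℕ} {A : Fam Γ p}

namespace Win

variable (w : Win A) (i : ℕ)

/-- `U` at the middle vertex. -/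
abbrev midU : Subgroup Γ := A.U (w.b (i + 2))
/-- The points fixed by the left edge. -/
abbrev midA : Subgroup Γ := w.midU i ⊓ w.Q (i + 1)
/-- The points fixed by the right edge. -/
abbrev midB : Subgroup Γ := w.midU i ⊓ w.Q (i + 3)
/-- The points fixed by both edges. -/
abbrev midF : Subgroup Γ := w.midA i ⊓ w.midB i

variable {w i} (h2 : A.crit = 2) (hL : i + 4 ≤ w.L)
include h2 hL

theorem W_le_midU {j : ℕ} (h₁ : i + 1 ≤ j) (h₃ : j ≤ i + 3) : w.W j ≤ w.midU i := by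
  refine A.Wv_le_U ?_
  rcases le_total j (i + 2) with h | h
  · exact (w.near h (by omega)).symm.mono (by omega)
  · exact (w.near h (by omega)).mono (by omega)

theorem midU_le_Q : w.midU i ≤ w.Q (i + 2) := A.U_le_Q (Fam.Near.refl _) (by omega)

theorem W_le_Q_adj {j k : ℕ} (hj : j ≤ w.L) (hk : k ≤ w.L) (h₁ : j ≤ k + 1) (h₂' : k ≤ j + 1) :
    w.W j ≤ w.Q k := w.WQ hj hk (by omega) (by omega)

theorem W_mid_le_F : w.W (i + 2) ≤ w.midF i :=
  le_inf (le_inf (W_le_midU h2 hL (by omega) (by omega)) (W_le_Q_adj h2 hL (by omega) (by omega) (by omega) (by omega)))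
    (le_inf (W_le_midU h2 hL (by omega) (by omega)) (W_le_Q_adj h2 hL (by omega) (by omega) (by omega) (by omega)))

theorem split_right {u : Γ} (hu : u ∈ w.midU i) :
    ∃ x ∈ w.W (i + 1), ∃ y ∈ w.midB i, u = x * y := by
  obtain ⟨-, -, hsup, -⟩ := w.pairs (i := i + 1) (by omega)
  rw [show i + 1 + A.crit = i + 3 by omega] at hsup
  obtain ⟨x, hx, y, hy, rfl⟩ := hsup u (w.Q_le_S (i := i + 2) (by omega) (midU_le_Q h2 hL hu))
  refine ⟨x, hx, y, mem_inf.2 ⟨?_, hy⟩, rfl⟩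
  simpa using mul_mem (inv_mem (W_le_midU h2 hL le_rfl (by omega) hx)) hu

theorem split_left {u : Γ} (hu : u ∈ w.midU i) :
    ∃ x ∈ w.W (i + 3), ∃ y ∈ w.midA i, u = x * y := by
  obtain ⟨-, -, -, hsup, -⟩ := w.pairs (i := i + 1) (by omega)
  rw [show i + 1 + A.crit = i + 3 by omega] at hsup
  obtain ⟨x, hx, y, hy, rfl⟩ := hsup u ((w.facts (i + 2)).Q_le (midU_le_Q h2 hL hu))
  refine ⟨x, hx, y, mem_inf.2 ⟨?_, hy⟩, rfl⟩
  simpa using mul_mem (inv_mem (W_le_midU h2 hL (by omega) le_rfl hx)) hu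

omit hL in
theorem W_left_le (h : i + 2 ≤ w.L) : w.W i ≤ w.S (i + 2) := by
  have := w.W_le_far_right (i := i) (by omega)
  rwa [h2] at this

theorem W_left_G : w.W i ≤ w.G (i + 2) := (W_left_le h2 (by omega)).trans (w.facts (i + 2)).S_le

theorem W_far_le : w.W (i + 4) ≤ w.S (i + 3) := by
  have := w.W_le_far_left (i := i + 2) (by omega)
  rwa [show i + 2 + A.crit = i + 4 by omega] at this

theorem W_far_G : w.W (i + 4) ≤ w.G (i + 2) :=
  (W_far_le h2 hL).trans (w.facts_right (i := i + 2) (by omega)).S_le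

theorem conj_mem_W_mid {g x : Γ} (hg : g ∈ w.G (i + 2)) (hx : x ∈ w.W (i + 2)) :
    g * x * g⁻¹ ∈ w.W (i + 2) :=
  (mem_normalizer_iff.1 ((w.facts (i + 2)).G_norm_W hg) x).1 hx

/-- The left edge centralizes `midA` modulo `W`. -/
theorem A_fixed {a s : Γ} (ha : a ∈ w.midA i) (hs : s ∈ w.S (i + 2)) : ⁅a, s⁆ ∈ w.W (i + 2) := by
  obtain ⟨-, -, hsup, hsup', -⟩ := w.pairs (i := i) (by omega)
  rw [h2] at hsup hsup'
  obtain ⟨c, hc, q, hq, rfl⟩ := hsup s hs
  obtain ⟨x, hx, y, hy, rfl⟩ := hsup' a ((w.facts (i + 1)).Q_le ha.2)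
  have hcG : c ∈ w.G (i + 2) := W_left_G h2 hL hc
  rw [show ⁅x * y, c * q⁆ = ⁅x * y, c⁆ * (c * ⁅x * y, q⁆ * c⁻¹) by
    simp only [commutatorElement_def]; group]
  refine mul_mem ?_ (conj_mem_W_mid h2 hL hcG (A.U_comm (by omega) ha.1 hq))
  rw [comm_mul_left_of_commute ((w.facts i).W_comm y hy c hc)]
  have := mul_mem hx (conj_mem_W_mid h2 hL hcG (inv_mem hx))
  simpa [commutatorElement_def, mul_assoc] using this

/-- The right edge centralizes `midB` modulo `W`. -/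
theorem B_fixed {a s : Γ} (ha : a ∈ w.midB i) (hs : s ∈ w.S (i + 3)) : ⁅a, s⁆ ∈ w.W (i + 2) := by
  obtain ⟨-, -, hsup, hsup', -⟩ := w.pairs (i := i + 2) (by omega)
  rw [show i + 2 + A.crit = i + 4 by omega] at hsup hsup'
  obtain ⟨c, hc, q, hq, rfl⟩ := hsup' s hs
  obtain ⟨x, hx, y, hy, rfl⟩ := hsup a (w.Q_le_S (i := i + 3) (by omega) ha.2)
  have hcG : c ∈ w.G (i + 2) := W_far_G h2 hL hc
  rw [show ⁅x * y, c * q⁆ = ⁅x * y, c⁆ * (c * ⁅x * y, q⁆ * c⁻¹) by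
    simp only [commutatorElement_def]; group]
  refine mul_mem ?_ (conj_mem_W_mid h2 hL hcG (A.U_comm (by omega) ha.1 hq))
  rw [comm_mul_left_of_commute ((w.facts (i + 4)).W_comm y hy c hc)]
  have := mul_mem hx (conj_mem_W_mid h2 hL hcG (inv_mem hx))
  simpa [commutatorElement_def, mul_assoc] using this

theorem F_fixed {f g : Γ} (hf : f ∈ w.midF i) (hg : g ∈ w.G (i + 2)) : ⁅f, g⁆ ∈ w.W (i + 2) := by
  obtain ⟨-, -, -, -, hn, -, -⟩ := w.pairs (i := i + 2) (by omega)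
  rw [show i + 2 + A.crit = i + 4 by omega] at hn
  obtain ⟨c, hc, hcQ⟩ := SetLike.not_le_iff_exists.1 hn
  rw [← w.gen_right (i := i + 2) (by omega) (W_far_le h2 hL hc) hcQ] at hg
  have hle : w.S (i + 2) ⊔ zpowers c ≤
      comSub (w.G (i + 2)) (w.W (i + 2)) (w.midF i : Set Γ) (w.facts _).G_norm_W := sup_le
    (fun s hs => ⟨(w.facts _).S_le hs, fun v hv => comm_symm_mem (A_fixed h2 hL hv.1 hs)⟩)
    (zpowers_le.2 ⟨W_far_G h2 hL hc, fun v hv => comm_symm_mem (B_fixed h2 hL hv.2 (W_far_le h2 hL hc))⟩)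
  exact comm_symm_mem ((hle hg).2 f hf)

theorem F_normal : w.G (i + 2) ≤ normalizer (w.midF i : Set Γ) :=
  le_normalizer_of_conj_mem fun g hg f hf => by
    have := mul_mem (W_mid_le_F h2 hL (comm_symm_mem (F_fixed h2 hL hf hg))) hf
    rwa [commutatorElement_def, inv_mul_cancel_right] at this

theorem comm_ab_mem {a b : Γ} (ha : a ∈ w.W (i + 3)) (hb : b ∈ w.W i) : ⁅a, b⁆ ∈ w.midA i := by
  refine ⟨?_, ?_⟩
  · have haU := W_le_midU h2 hL (by omega) le_rfl ha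
    rw [commutatorElement_def, show a * b * a⁻¹ * b⁻¹ = a * (b * a⁻¹ * b⁻¹) by group]
    exact mul_mem haU ((mem_normalizer_iff.1 (A.U_normal _ (W_left_G h2 hL hb)) _).1 (inv_mem haU))
  · have hbU : b ∈ A.U (w.b (i + 1)) := A.Wv_le_U
      (by simpa using (w.near (i := i) (j := i + 1) (by omega) (by omega)).symm) hb
    have haG : a ∈ w.G (i + 1) := by
      refine (w.facts_right (i := i + 1) (by omega)).S_le (w.W_le_far_left (i := i + 1) (by omega) ?_)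
      rwa [show i + 1 + A.crit = i + 3 by omega]
    refine A.U_le_Q (Fam.Near.refl _) (by omega) ?_
    rw [commutatorElement_def]
    exact mul_mem ((mem_normalizer_iff.1 (A.U_normal _ haG) _).1 hbU) (inv_mem hbU)

theorem comm_not_mem_F {a b : Γ} (ha : a ∈ w.W (i + 3)) (haZ : a ∉ w.Z (i + 3)) (hb : b ∈ w.W i)
    (hbQ : b ∉ w.Q (i + 2)) : ⁅a, b⁆ ∉ w.midF i := by
  intro hx
  have haB : a ∈ w.midB i :=
    ⟨W_le_midU h2 hL (by omega) le_rfl ha, W_le_Q_adj h2 hL (by omega) (by omega) (by omega) (by omega) ha⟩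
  have hall : ∀ g ∈ w.G (i + 2), ⁅g, a⁆ ∈ w.midF i := by
    intro g hg
    rw [← w.gen_left (i := i + 2) (by omega) (W_left_le h2 (by omega) hb) hbQ] at hg
    have hle : w.S (i + 3) ⊔ zpowers b ≤
        comSub (w.G (i + 2)) (w.midF i) {a} (F_normal h2 hL) := by
      refine sup_le (fun s hs => ⟨(w.facts_right (i := i + 2) (by omega)).S_le hs, ?_⟩)
        (zpowers_le.2 ⟨W_left_G h2 hL hb, ?_⟩)
      · rintro v (rfl : v = a); exact comm_symm_mem (W_mid_le_F h2 hL (B_fixed h2 hL haB hs))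
      · rintro v (rfl : v = a); exact comm_symm_mem hx
    exact (hle hg).2 a rfl
  have he := w.step (i + 2) (by omega)
  have he' := w.step (i + 1) (by omega)
  set t := (w.b (i + 2)).1 * (w.opp (i + 2))⁻¹ * (w.b (i + 2)).1⁻¹ with ht
  have htG : t ∈ w.G (i + 2) := conj_mem_cj (inv_mem (w.opp_mem (i + 2)))
  have hta : t * a * t⁻¹ ∈ A.Wv (t * w.b (i + 3)) := by
    show _ ∈ cj (t * (w.b (i + 3)).1) (A.W (w.b (i + 3)).2)
    rw [cj_mul]; exact conj_mem_cj ha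
  have hnear : A.Near 1 (w.b (i + 1)) (t * w.b (i + 3)) := by
    refine Fam.Step.near A ⟨w.opp (i + 1), w.opp_mem (i + 1), ?_⟩
    show t * (w.b (i + 3)).1 = _
    rw [ht, he, ← he']; group
  have hQ : t * a * t⁻¹ ∈ w.Q (i + 1) := A.WQ hnear.symm (by omega) hta
  have haQ : a ∈ w.Q (i + 1) := by
    have h1 : ⁅t, a⁆ ∈ w.Q (i + 1) := (hall t htG).1.2
    have := mul_mem (inv_mem h1) hQ
    simpa [commutatorElement_def, mul_assoc] using this
  obtain ⟨-, hZ, -⟩ := w.pairs (i := i + 1) (by omega)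
  rw [show i + 1 + A.crit = i + 3 by omega] at hZ
  exact haZ (hZ a ha haQ)

theorem comm_a {a b : Γ} (ha : a ∈ w.W (i + 3)) (haZ : a ∉ w.Z (i + 3)) (hb : b ∈ w.W i)
    (hbQ : b ∉ w.Q (i + 2)) : ⁅⁅a, b⁆, a⁆ ∈ w.C (i + 2) ∧ ⁅⁅a, b⁆, a⁆ ≠ 1 := by
  have hxA := comm_ab_mem h2 hL ha hb
  have hxF := comm_not_mem_F h2 hL ha haZ hb hbQ
  obtain ⟨x, hx, y, hy, he⟩ := split_right h2 hL hxA.1
  have hyA : y ∈ w.midA i := by
    have := mul_mem (inv_mem (mem_inf.2 ⟨W_le_midU h2 hL le_rfl (by omega) hx,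
      W_le_Q_adj h2 hL (by omega) (by omega) (by omega) (by omega) hx⟩ : x ∈ w.midA i)) hxA
    rwa [he, inv_mul_cancel_left] at this
  rw [he, comm_mul_left_of_commute ((w.facts (i + 3)).W_comm y hy.2 a ha)]
  refine ⟨(w.comm_mem_C_left (i := i + 1) (by omega) (by omega) hx
    (by rwa [show i + 1 + A.crit = i + 3 by omega])).1, fun h1 => hxF ?_⟩
  have haS : a ∈ w.S (i + 1 + 1) := w.W_le_far_left (i := i + 1) (by omega)
    (by rwa [show i + 1 + A.crit = i + 3 by omega])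
  have haQ : a ∉ w.Q (i + 1) := fun hh => by
    obtain ⟨-, hZ, -⟩ := w.pairs (i := i + 1) (by omega)
    rw [show i + 1 + A.crit = i + 3 by omega] at hZ
    exact haZ (hZ a ha hh)
  have hxZ := (w.facts_right (i := i + 1) (by omega)).fix a haS haQ x hx
    (commutatorElement_eq_one_iff_mul_comm.1 h1).symm
  rw [he]
  exact mul_mem (W_mid_le_F h2 hL ((w.facts (i + 2)).Z_le hxZ)) (mem_inf.2 ⟨hyA, hy⟩)

theorem comm_b (hi : 1 ≤ i) {a b : Γ} (ha : a ∈ w.W (i + 3)) (haZ : a ∉ w.Z (i + 3)) (hb : b ∈ w.W i)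
    (hbQ : b ∉ w.Q (i + 2)) :
    ⁅⁅a, b⁆, b⁆ ∈ w.C (i + 1) ∧ ⁅⁅a, b⁆, b⁆ ≠ 1 ∧ ⁅⁅a, b⁆, b⁆ ∉ w.C (i + 2) := by
  have hxA := comm_ab_mem h2 hL ha hb
  obtain ⟨-, -, -, hsup, -⟩ := w.pairs (i := i) (by omega)
  rw [h2] at hsup
  obtain ⟨x, hx, y, hy, he⟩ := hsup _ ((w.facts (i + 1)).Q_le hxA.2)
  have e : ⁅⁅a, b⁆, b⁆ = ⁅x, b⁆ := by rw [he, comm_mul_left_of_commute ((w.facts i).W_comm y hy b hb)]
  have hC : ⁅⁅a, b⁆, b⁆ ∈ w.C (i + 1) := by
    rw [e]
    exact comm_symm_mem (w.comm_mem_C_left (i := i) (by omega) (by omega) hb (by rwa [h2])).1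
  have hne : ⁅⁅a, b⁆, b⁆ ≠ 1 := by
    have haQ : a ∉ w.Q (i + 1) := fun hh => by
      obtain ⟨-, hZ, -⟩ := w.pairs (i := i + 1) (by omega)
      rw [show i + 1 + A.crit = i + 3 by omega] at hZ
      exact haZ (hZ a ha hh)
    have hbZ : b ∉ w.Z (i + 1) := fun hh => by
      obtain ⟨-, -, -, -, -, hZ, -⟩ := w.pairs (i := i) (by omega)
      rw [h2] at hZ
      exact hbQ (hZ hh)
    set j := w.L - (i + 3) with hj
    have hjL : j + 4 ≤ w.rev.L := by show j + 4 ≤ w.L; omega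
    have h := (Win.comm_a (w := w.rev) (i := j) h2 hjL (a := b) (b := a)
      (by rw [w.rev_W (j := i) (by omega)]; exact hb)
      (by rw [w.rev_Z (j := i) (by omega) (by omega)]; exact hbZ)
      (by rw [w.rev_W (j := i + 3) (by omega)]; exact ha)
      (by rw [w.rev_Q (j := i + 1) (by omega)]; exact haQ)).2
    intro h1
    apply h
    rw [commutatorElement_eq_one_iff_mul_comm] at h1 ⊢
    rw [← commutatorElement_inv a b]
    exact (show Commute ⁅a, b⁆ b from h1).inv_left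
  exact ⟨hC, hne, fun h => hne (e.trans ((w.facts (i + 2)).comm_C b (W_left_le h2 (by omega) hb) x hx (e ▸ h)))⟩

theorem exists_ab : ∃ a b, a ∈ w.W (i + 3) ∧ a ∉ w.Z (i + 3) ∧ b ∈ w.W i ∧ b ∉ w.Q (i + 2) := by
  have hc := w.critical i (by omega)
  rw [h2] at hc
  obtain ⟨b, hb, hbQ⟩ := SetLike.not_le_iff_exists.1 hc
  obtain ⟨a, ha, haZ⟩ := SetLike.not_le_iff_exists.1 (w.facts (i + 3)).W_ne_Z
  exact ⟨a, b, ha, haZ, hb, hbQ⟩

end Win

/-- `p = 2` is impossible at critical distance two. -/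
theorem Fam.not_two (A : Fam Γ p) (hA : A.Critical) (h2 : A.crit = 2) : p ≠ 2 := by
  intro hp
  obtain ⟨w, hw⟩ := A.exists_win hA 5
  have hL : 1 + 4 ≤ w.L := by omega
  obtain ⟨a, b, ha, haZ, hb, hbQ⟩ := Win.exists_ab (i := 1) h2 hL
  obtain ⟨h1, -⟩ := Win.comm_a (i := 1) h2 hL ha haZ hb hbQ
  obtain ⟨-, -, h3⟩ := Win.comm_b (i := 1) h2 hL le_rfl ha haZ hb hbQ
  have ha2 : a * a = 1 := by
    have := (w.facts (1 + 3)).W_pow a ha; rwa [hp, pow_two] at this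
  have hb2 : b * b = 1 := by
    have := (w.facts 1).W_pow b hb; rwa [hp, pow_two] at this
  have ea : a⁻¹ = a := inv_eq_of_mul_eq_one_right ha2
  have eb : b⁻¹ = b := inv_eq_of_mul_eq_one_right hb2
  have cancel : ∀ (u : Γ), u * u = 1 → ∀ z : Γ, u * (u * z) = z := fun u hu z => by
    rw [← mul_assoc, hu, one_mul]
  refine h3 ?_
  convert h1 using 1
  simp only [commutatorElement_def, mul_inv_rev, inv_inv, ea, eb, mul_assoc, cancel a ha2, cancel b hb2, ha2, hb2, mul_one]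

end Cfsg.Agent.PushFamily
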