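import Mathlib
import Cfsg.Agent.Lib.PushFamTwo
import Cfsg.Agent.Lib.PushAmalgamMid

/-!
Pushing up, uniform version: the data of the middle vertex at critical distance two.
-/

set_option autoImplicit false
set_option linter.unusedSectionVars false

namespace Cfsg.Agent.PushFamily

open Subgroup
open Cfsg.Agent.PushAmalgam
open scoped commutatorElement

universe u

variable {Γ : Type u} [Group Γ] [Finite Γ] {p : ℕ} {A : Fam Γ p}

omit [Finite Γ] in
theorem Fam.U_mul {g : Γ} {x : A.Flag} (hg : g ∈ A.G x.2) : A.U (x * g) = A.U x := by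
  have key : ∀ (x : A.Flag) (g : Γ), g ∈ A.G x.2 → A.U (x * g) ≤ A.U x := by
    intro x g hg
    refine iSup_le ?_
    rintro ⟨y, hy⟩
    exact A.Wv_le_U (by simpa using (Fam.Near.zero (A := A) (x := x) hg).trans hy)
  refine le_antisymm (key x g hg) ?_
  have := key (x * g) g⁻¹ (inv_mem hg)
  rwa [flag_mul_inv_cancel] at this

namespace Win

variable {w : Win A} {i : ℕ} (h2 : A.crit = 2) (hL : i + 4 ≤ w.L)
include h2 hL

theorem rev_midF {j : ℕ} (hj : j + (i + 4) = w.L) : w.rev.midF j = w.midF i := by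
  have e1 : w.rev.midU j = w.midU i := by
    show A.U (w.b (w.L - (j + 2)) * w.opp (w.L - (j + 2))) = _
    rw [A.U_mul (w.opp_mem _), show w.L - (j + 2) = i + 2 by omega]
  have e2 : w.rev.Q (j + 1) = w.Q (i + 3) := w.rev_Q (by omega)
  have e3 : w.rev.Q (j + 3) = w.Q (i + 1) := w.rev_Q (by omega)
  show (w.rev.midU j ⊓ w.rev.Q (j + 1)) ⊓ (w.rev.midU j ⊓ w.rev.Q (j + 3)) = _
  rw [e1, e2, e3, inf_comm]

theorem W_left_mem_A : w.W (i + 1) ≤ w.midA i :=
  le_inf (W_le_midU h2 hL le_rfl (by omega)) (W_le_Q_adj h2 hL (by omega) (by omega) (by omega) (by omega))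

theorem card_W_midA : Nat.card ↥(w.W (i + 1)) * Nat.card ↥(w.midF i) =
    Nat.card A.Z * Nat.card ↥(w.midA i) := by
  have e : w.W (i + 1) ⊓ w.midF i = w.Z (i + 2) := by
    refine le_antisymm (fun x hx => ?_) (le_inf (w.facts_right (i := i + 1) (by omega)).Z_le ?_)
    · obtain ⟨hZ, -⟩ := w.pairs (i := i + 1) (by omega)
      rw [show i + 1 + A.crit = i + 3 by omega] at hZ
      exact hZ x hx.1 hx.2.2.2
    · exact (w.facts (i + 2)).Z_le.trans (W_mid_le_F h2 hL)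
  have h := card_mul_of_eq (W_left_mem_A h2 hL) (inf_le_left : w.midF i ≤ w.midA i) fun u hu => by
    obtain ⟨x, hx, y, hy, rfl⟩ := split_right h2 hL hu.1
    refine ⟨x, hx, y, ⟨?_, hy⟩, rfl⟩
    simpa using mul_mem (inv_mem (W_left_mem_A h2 hL hx)) hu
  rw [e, card_cj (w.b (i + 2)).1 A.Z] at h
  exact h

/-- Commutation with a fixed element of the far side embeds `W_i` modulo `Z` into `midA` modulo `midF`. -/
theorem W_card_le : Nat.card ↥(w.W i) ≤ Nat.card ↥(w.W (i + 1)) := by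
  obtain ⟨a, ha, haZ⟩ := SetLike.not_le_iff_exists.1 (w.facts (i + 3)).W_ne_Z
  set N := (w.midF i).subgroupOf (w.midA i) with hN
  have hAG : w.midA i ≤ w.G (i + 2) :=
    (inf_le_left.trans (midU_le_Q h2 hL)).trans (w.facts (i + 2)).Q_le_G
  have : N.Normal := normal_subgroupOf_of_le_normalizer (hAG.trans (F_normal h2 hL))
  let φ : ↥(w.W i) →* ↥(w.midA i) ⧸ N := MonoidHom.mk'
    (fun b => QuotientGroup.mk ⟨⁅a, (b : Γ)⁆, comm_ab_mem h2 hL ha b.2⟩) (fun b c => by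
      rw [← QuotientGroup.mk_mul]
      refine (QuotientGroup.eq).2 ?_
      rw [hN, mem_subgroupOf]
      show (⁅a, (b : Γ) * c⁆)⁻¹ * (⁅a, (b : Γ)⁆ * ⁅a, (c : Γ)⁆) ∈ _
      rw [show (⁅a, (b : Γ) * c⁆)⁻¹ * (⁅a, (b : Γ)⁆ * ⁅a, (c : Γ)⁆)
          = (b : Γ) * ⁅⁅a, (c : Γ)⁆⁻¹, (b : Γ)⁻¹⁆ * (b : Γ)⁻¹ by
        simp only [commutatorElement_def]; group]
      have h1 := W_mid_le_F h2 hL (A_fixed h2 hL (inv_mem (comm_ab_mem h2 hL ha c.2))
        (inv_mem (W_left_le h2 (by omega) b.2)))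
      exact (mem_normalizer_iff.1 (F_normal h2 hL (W_left_G h2 hL b.2)) _).1 h1)
  have hker : φ.ker ≤ (w.Z (i + 1)).subgroupOf (w.W i) := by
    intro b hb
    rw [mem_subgroupOf]
    obtain ⟨hZ, -⟩ := w.pairs (i := i) (by omega)
    refine hZ b b.2 ?_
    rw [h2]
    by_contra hbQ
    refine comm_not_mem_F h2 hL ha haZ b.2 hbQ ?_
    have := (QuotientGroup.eq_one_iff _).1 (MonoidHom.mem_ker.1 hb)
    exact mem_subgroupOf.1 this
  have h1 : Nat.card ↥(w.W i) ≤ Nat.card A.Z * Nat.card (↥(w.midA i) ⧸ N) := by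
    rw [← card_mul_index φ.ker, index_ker]
    refine Nat.mul_le_mul ((card_le_of_le hker).trans ?_) (Finite.card_subtype_le _)
    exact ((Nat.card_congr (subgroupOfEquivOfLe ((w.facts_right (i := i) (by omega)).Z_le)).toEquiv).trans
      (card_cj _ A.Z)).le
  have h3 : Nat.card ↥(w.midA i) = Nat.card (↥(w.midA i) ⧸ N) * Nat.card ↥(w.midF i) := by
    rw [← Nat.card_congr (subgroupOfEquivOfLe (inf_le_left : w.midF i ≤ w.midA i)).toEquiv]
    exact Subgroup.card_eq_card_quotient_mul_card_subgroup N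
  refine Nat.le_of_mul_le_mul_right ?_ (Nat.card_pos : 0 < Nat.card ↥(w.midF i))
  rw [card_W_midA h2 hL, h3, ← mul_assoc]
  exact Nat.mul_le_mul_right _ h1

omit hL in
theorem W_card_two (h : i + 2 ≤ w.L) : Nat.card ↥(w.W i) = Nat.card ↥(w.W (i + 2)) := by
  obtain ⟨hZ, -, hsup, -⟩ := w.pairs (i := i) (by omega)
  rw [h2] at hZ hsup
  have hW : w.W i ≤ w.S (i + 2) := W_left_le h2 h
  have e : w.W i ⊓ w.Q (i + 2) = w.Z (i + 1) := by
    refine le_antisymm (fun x hx => hZ x hx.1 hx.2)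
      (le_inf (w.facts_right (i := i) (by omega)).Z_le ?_)
    obtain ⟨-, -, -, -, -, hQ, -⟩ := w.pairs (i := i) (by omega)
    rwa [h2] at hQ
  have h1 := card_mul_of_eq hW (w.facts (i + 2)).Q_le fun s hs => hsup s hs
  have h3 := (w.facts (i + 2)).card_off
  rw [e, card_cj _ A.Z] at h1
  rw [card_cj _ A.Z] at h3
  refine Nat.eq_of_mul_eq_mul_right (Nat.card_pos : 0 < Nat.card ↥(w.Q (i + 2))) ?_
  rw [h1, mul_comm, h3, mul_comm]

theorem W_card_eq (hL5 : i + 5 ≤ w.L) :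
    Nat.card ↥(w.W (i + 1)) = Nat.card ↥(w.W (i + 2)) ∧
      Nat.card ↥(w.W (i + 3)) = Nat.card ↥(w.W (i + 2)) := by
  have a1 := W_card_le h2 hL
  have a2 : Nat.card ↥(w.W (i + 1)) ≤ Nat.card ↥(w.W (i + 2)) := W_card_le (w := w) (i := i + 1) h2 (by omega)
  have b1 : Nat.card ↥(w.W i) = Nat.card ↥(w.W (i + 2)) := W_card_two (w := w) (i := i) h2 (by omega)
  have b2 : Nat.card ↥(w.W (i + 1)) = Nat.card ↥(w.W (i + 3)) := W_card_two (w := w) (i := i + 1) h2 (by omega)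
  exact ⟨by omega, by omega⟩

theorem card_edges {X Y : Subgroup Γ} {j : ℕ} (hj : Nat.card ↥(w.W j) = Nat.card ↥(w.W (i + 2)))
    (hcard : Nat.card ↥(w.W j) * Nat.card X = Nat.card ↥(w.Z j) * Nat.card Y) :
    Nat.card Y * Nat.card ↥(w.Q (i + 2)) = Nat.card X * Nat.card ↥(w.S (i + 2)) := by
  have hoff := (w.facts (i + 2)).card_off
  rw [hj, card_cj _ A.Z] at hcard
  rw [card_cj _ A.Z] at hoff
  refine Nat.eq_of_mul_eq_mul_left (Nat.card_pos : 0 < Nat.card ↥(w.W (i + 2))) ?_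
  calc Nat.card ↥(w.W (i + 2)) * (Nat.card Y * Nat.card ↥(w.Q (i + 2)))
      = Nat.card ↥(w.Q (i + 2)) * Nat.card ↥(w.W (i + 2)) * Nat.card Y := by ring
    _ = Nat.card ↥(w.S (i + 2)) * (Nat.card A.Z * Nat.card Y) := by rw [← hoff]; ring
    _ = _ := by rw [← hcard]; ring

theorem card_midU (hL5 : i + 5 ≤ w.L) : Nat.card ↥(w.midU i) * Nat.card ↥(w.Q (i + 2)) =
    Nat.card ↥(w.midA i) * Nat.card ↥(w.S (i + 2)) := by
  refine card_edges h2 hL (j := i + 3) (W_card_eq h2 hL hL5).2 ?_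
  have e : w.W (i + 3) ⊓ w.midA i = w.Z (i + 3) := by
    refine le_antisymm (fun x hx => ?_) (le_inf (w.facts (i + 3)).Z_le ?_)
    · obtain ⟨-, hZ, -⟩ := w.pairs (i := i + 1) (by omega)
      rw [show i + 1 + A.crit = i + 3 by omega] at hZ
      exact hZ x hx.1 hx.2.2
    · exact ((w.facts_right (i := i + 2) (by omega)).Z_le.trans (W_mid_le_F h2 hL)).trans inf_le_left
  rw [← e]
  exact card_mul_of_eq (W_le_midU h2 hL (by omega) le_rfl) inf_le_left fun u hu => split_left h2 hL hu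

theorem card_midU_right (hL5 : i + 5 ≤ w.L) : Nat.card ↥(w.midU i) * Nat.card ↥(w.Q (i + 2)) =
    Nat.card ↥(w.midB i) * Nat.card ↥(w.S (i + 2)) := by
  refine card_edges h2 hL (j := i + 1) (W_card_eq h2 hL hL5).1 ?_
  have e : w.W (i + 1) ⊓ w.midB i = w.Z (i + 2) := by
    refine le_antisymm (fun x hx => ?_) (le_inf (w.facts_right (i := i + 1) (by omega)).Z_le ?_)
    · obtain ⟨hZ, -⟩ := w.pairs (i := i + 1) (by omega)
      rw [show i + 1 + A.crit = i + 3 by omega] at hZ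
      exact hZ x hx.1 hx.2.2
    · exact ((w.facts (i + 2)).Z_le.trans (W_mid_le_F h2 hL)).trans inf_le_right
  have h := card_mul_of_eq (W_le_midU h2 hL le_rfl (by omega)) (inf_le_left : w.midB i ≤ w.midU i)
    fun u hu => split_right h2 hL hu
  rw [e] at h
  simpa only [card_cj] using h

theorem card_midA (hL5 : i + 5 ≤ w.L) : Nat.card ↥(w.midA i) * Nat.card ↥(w.Q (i + 2)) =
    Nat.card ↥(w.midF i) * Nat.card ↥(w.S (i + 2)) := by
  refine card_edges h2 hL (j := i + 1) (W_card_eq h2 hL hL5).1 ?_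
  have e : w.W (i + 1) ⊓ w.midF i = w.Z (i + 2) := by
    refine le_antisymm (fun x hx => ?_) (le_inf (w.facts_right (i := i + 1) (by omega)).Z_le ?_)
    · obtain ⟨hZ, -⟩ := w.pairs (i := i + 1) (by omega)
      rw [show i + 1 + A.crit = i + 3 by omega] at hZ
      exact hZ x hx.1 hx.2.2.2
    · exact (w.facts (i + 2)).Z_le.trans (W_mid_le_F h2 hL)
  have h := card_mul_of_eq (W_left_mem_A h2 hL) (inf_le_left : w.midF i ≤ w.midA i) fun u hu => by
    obtain ⟨x, hx, y, hy, rfl⟩ := split_right h2 hL hu.1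
    refine ⟨x, hx, y, ⟨?_, hy⟩, rfl⟩
    simpa using mul_mem (inv_mem (W_left_mem_A h2 hL hx)) hu
  rw [e] at h
  simpa only [card_cj] using h

theorem mid_comm_left {x s : Γ} (hx : x ∈ w.midU i) (hs : s ∈ w.S (i + 2)) :
    ∃ b ∈ w.W i, ∃ q ∈ w.Q (i + 2), s = b * q ∧ b * ⁅x, q⁆ * b⁻¹ ∈ w.W (i + 2) := by
  obtain ⟨-, -, hsup, -⟩ := w.pairs (i := i) (by omega)
  rw [h2] at hsup
  obtain ⟨b, hb, q, hq, rfl⟩ := hsup s hs
  exact ⟨b, hb, q, hq, rfl, conj_mem_W_mid h2 hL (W_left_G h2 hL hb) (A.U_comm (by omega) hx hq)⟩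

theorem mid_quad {u s : Γ} (hu : u ∈ w.midU i) (hs : s ∈ w.S (i + 2)) : ⁅u, s⁆ ∈ w.midA i := by
  obtain ⟨x, hx, y, hy, rfl⟩ := split_left h2 hL hu
  have hxU := W_le_midU h2 hL (by omega) le_rfl hx
  obtain ⟨b, hb, q, hq, rfl, hbq⟩ := mid_comm_left h2 hL hxU hs
  have hWA : w.W (i + 2) ≤ w.midA i := (W_mid_le_F h2 hL).trans inf_le_left
  rw [show ⁅x * y, b * q⁆ = x * ⁅y, b * q⁆ * x⁻¹ * (⁅x, b⁆ * (b * ⁅x, q⁆ * b⁻¹)) by
    simp only [commutatorElement_def]; group]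
  refine mul_mem (hWA (conj_mem_W_mid h2 hL ?_ (A_fixed h2 hL hy hs))) (mul_mem (comm_ab_mem h2 hL hx hb) (hWA hbq))
  exact (w.facts (i + 2)).Q_le_G (midU_le_Q h2 hL hxU)

theorem mid_fix {u s : Γ} (hu : u ∈ w.midU i) (hs : s ∈ w.S (i + 2)) (hsQ : s ∉ w.Q (i + 2))
    (hus : ⁅u, s⁆ ∈ w.midF i) : u ∈ w.midA i := by
  obtain ⟨x, hx, y, hy, rfl⟩ := split_left h2 hL hu
  have hxU := W_le_midU h2 hL (by omega) le_rfl hx
  obtain ⟨b, hb, q, hq, rfl, hbq⟩ := mid_comm_left h2 hL hxU hs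
  rw [show ⁅x * y, b * q⁆ = x * ⁅y, b * q⁆ * x⁻¹ * (⁅x, b⁆ * (b * ⁅x, q⁆ * b⁻¹)) by
    simp only [commutatorElement_def]; group] at hus
  have h1 : x * ⁅y, b * q⁆ * x⁻¹ ∈ w.midF i := W_mid_le_F h2 hL
    (conj_mem_W_mid h2 hL ((w.facts (i + 2)).Q_le_G (midU_le_Q h2 hL hxU)) (A_fixed h2 hL hy hs))
  have h3 : ⁅x, b⁆ ∈ w.midF i :=
    ((w.midF i).mul_mem_cancel_right (W_mid_le_F h2 hL hbq)).1 (((w.midF i).mul_mem_cancel_left h1).1 hus)
  refine mul_mem ?_ hy
  by_contra hxA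
  refine comm_not_mem_F h2 hL hx (fun hZ => hxA ?_) hb (fun hbQ => hsQ (mul_mem hbQ hq)) h3
  exact ((W_mid_le_F h2 hL).trans inf_le_left) ((w.facts_right (i := i + 2) (by omega)).Z_le hZ)

theorem mid_conj (hL5 : i + 5 ≤ w.L) : cj ((w.b (i + 2)).1 * w.opp (i + 2) * (w.b (i + 2)).1⁻¹) (w.midA i) = w.midB i := by
  set t := (w.b (i + 2)).1 * w.opp (i + 2) * (w.b (i + 2)).1⁻¹ with ht
  have htG : t ∈ w.G (i + 2) := conj_mem_cj (w.opp_mem (i + 2))
  refine eq_of_le_of_card_ge ?_ ?_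
  · rintro _ ⟨a, ha, rfl⟩
    have hu : t * a * t⁻¹ ∈ w.midU i := (mem_normalizer_iff.1 (A.U_normal _ htG) a).1 ha.1
    obtain ⟨x, hx, y, hy, he⟩ := split_right h2 hL hu
    obtain ⟨-, -, -, -, hn, -, -⟩ := w.pairs (i := i + 2) (by omega)
    rw [show i + 2 + A.crit = i + 4 by omega] at hn
    obtain ⟨c, hc, hcQ⟩ := SetLike.not_le_iff_exists.1 hn
    have hcS : c ∈ w.S (i + 2 + 1) := W_far_le h2 hL hc
    have hc' : t⁻¹ * c * t ∈ w.S (i + 2) := by
      rw [w.S_succ (by omega), mem_cj, flag_mul_fst] at hcS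
      rw [mem_cj, ht]
      convert hcS using 1
      group
    have h1 : ⁅t * a * t⁻¹, c⁆ ∈ w.W (i + 2) := by
      have := conj_mem_W_mid h2 hL htG (A_fixed h2 hL ha hc')
      rw [conj_comm] at this
      simpa [mul_assoc] using this
    show t * a * t⁻¹ ∈ _
    rw [he]
    refine mul_mem ?_ hy
    by_contra hxB
    have hxU := W_le_midU h2 hL le_rfl (by omega) hx
    set j := w.L - (i + 4) with hj
    have hjL : j + 4 ≤ w.rev.L := by show j + 4 ≤ w.L; omega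
    refine (Win.comm_not_mem_F (w := w.rev) (i := j) h2 hjL (a := x) (b := c)
      (by rw [w.rev_W (j := i + 1) (by omega)]; exact hx) ?_
      (by rw [w.rev_W (j := i + 4) (by omega)]; exact hc)
      (by rw [w.rev_Q (j := i + 2) (by omega)]; exact hcQ)) ?_
    · rw [w.rev_Z (j := i + 1) (by omega) (by omega)]
      exact fun hZ => hxB (((W_mid_le_F h2 hL).trans inf_le_right) ((w.facts (i + 2)).Z_le hZ))
    · rw [rev_midF h2 hL (by omega)]
      rw [he, show ⁅x * y, c⁆ = x * ⁅y, c⁆ * x⁻¹ * ⁅x, c⁆ by simp only [commutatorElement_def]; group] at h1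
      have h4 := conj_mem_W_mid h2 hL ((w.facts (i + 2)).Q_le_G (midU_le_Q h2 hL hxU)) (B_fixed h2 hL hy hcS)
      exact W_mid_le_F h2 hL (((w.W (i + 2)).mul_mem_cancel_left h4).1 h1)
  · have e1 := card_midU_right h2 hL hL5
    have e2 := card_midU h2 hL hL5
    rw [e2] at e1
    rw [card_cj, Nat.eq_of_mul_eq_mul_right Nat.card_pos e1]

theorem T_of_F {f b : Γ} (hf : f ∈ w.midF i) (hb : b ∈ w.W i) :
    ⁅f, b⁆ ∈ w.C (i + 1) ∧ ⁅⁅f, b⁆, b⁆ = 1 := by
  obtain ⟨-, -, -, hsup, -⟩ := w.pairs (i := i) (by omega)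
  rw [h2] at hsup
  obtain ⟨x, hx, y, hy, rfl⟩ := hsup f ((w.facts (i + 1)).Q_le hf.1.2)
  have e : ⁅x * y, b⁆ = ⁅x, b⁆ := comm_mul_left_of_commute ((w.facts i).W_comm y hy b hb)
  have hC : ⁅x, b⁆ ∈ w.C (i + 1) :=
    comm_symm_mem (w.comm_mem_C_left (i := i) (by omega) (by omega) hb (by rwa [h2])).1
  refine ⟨e ▸ hC, ?_⟩
  rw [e, commutatorElement_eq_one_iff_mul_comm]
  refine ((w.facts (i + 1)).C_comm hC ?_).symm
  exact (w.facts (i + 1)).Q_le_G (W_le_Q_adj h2 hL (by omega) (by omega) (by omega) (by omega) hb)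

/-- The double commutator on `midB`. -/
theorem T_of_B (hi : 1 ≤ i) {a b : Γ} (ha : a ∈ w.midB i) (hb : b ∈ w.W i) :
    ⁅⁅a, b⁆, b⁆ ∈ w.Z (i + 2) ∧ (a ∉ w.midF i → b ∉ w.Q (i + 2) → ⁅⁅a, b⁆, b⁆ ∉ w.C (i + 2)) := by
  obtain ⟨x, hx, y, hy, rfl⟩ := split_left h2 hL ha.1
  have hxB : x ∈ w.midB i :=
    ⟨W_le_midU h2 hL (by omega) le_rfl hx, W_le_Q_adj h2 hL (by omega) (by omega) (by omega) (by omega) hx⟩
  have hyF : y ∈ w.midF i := ⟨hy, by simpa using mul_mem (inv_mem hxB) ha⟩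
  obtain ⟨hwC, -⟩ := T_of_F h2 hL hyF hb
  have hwW : ⁅y, b⁆ ∈ w.W (i + 2) := (w.facts (i + 2)).Z_le (by
    have h := hwC
    rw [← w.Z_inter (i := i + 1) (by omega)] at h
    exact h.2)
  have hbG : b ∈ w.G (i + 1) :=
    (w.facts (i + 1)).Q_le_G (W_le_Q_adj h2 hL (by omega) (by omega) (by omega) (by omega) hb)
  have e : ⁅⁅x * y, b⁆, b⁆ = ⁅⁅x, b⁆, b⁆ := by
    have e1 : ⁅x * y, b⁆ = ⁅y, b⁆ * ⁅x, b⁆ := by
      rw [show ⁅x * y, b⁆ = x * ⁅y, b⁆ * x⁻¹ * ⁅x, b⁆ by simp only [commutatorElement_def]; group,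
        (w.facts (i + 2)).W_comm x (midU_le_Q h2 hL hxB.1) _ hwW, mul_inv_cancel_right]
    have hxbG : ⁅x, b⁆ ∈ w.G (i + 1) := (w.facts (i + 1)).Q_le_G (comm_ab_mem h2 hL hx hb).2
    have e2 : ⁅y, b⁆ * ⁅x, b⁆ = ⁅x, b⁆ * ⁅y, b⁆ := ((w.facts (i + 1)).C_comm hwC hxbG).symm
    rw [e1, e2]
    exact comm_mul_left_of_commute ((w.facts (i + 1)).C_comm hwC hbG).symm
  rw [e]
  by_cases hxZ : x ∈ w.Z (i + 3)
  · have hxW := (w.facts_right (i := i + 2) (by omega)).Z_le hxZ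
    have hq := (w.facts (i + 2)).quad b (W_left_le h2 (by omega) hb) x hxW
    have h1 : ⁅⁅x, b⁆, b⁆ = 1 := commutatorElement_eq_one_iff_mul_comm.2
      (((w.facts (i + 2)).mem_Z _).1 hq |>.2 b (W_left_le h2 (by omega) hb)).symm
    exact ⟨h1 ▸ one_mem _, fun hn => absurd (mul_mem (W_mid_le_F h2 hL hxW) hyF) hn⟩
  by_cases hbQ : b ∈ w.Q (i + 2)
  · have hq := A.U_comm (x := w.b (i + 2)) (by omega) hxB.1 hbQ
    have h1 : ⁅⁅x, b⁆, b⁆ = 1 := commutatorElement_eq_one_iff_mul_comm.2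
      ((w.facts (i + 2)).W_comm b hbQ _ hq).symm
    exact ⟨h1 ▸ one_mem _, fun _ hn => absurd hbQ hn⟩
  obtain ⟨h1, -, h3⟩ := comm_b h2 hL hi hx hxZ hb hbQ
  rw [← w.Z_inter (i := i + 1) (by omega)] at h1
  exact ⟨h1.2, fun _ _ => h3⟩

/-- `P`: generated by the conjugates of `W_{i+1}` and by `W_{i+2}`. -/
def midP (w : Win A) (i : ℕ) : Subgroup Γ :=
  closure {x | ∃ t ∈ w.G (i + 2), ∃ v ∈ w.W (i + 1), t * v * t⁻¹ = x} ⊔ w.W (i + 2)

theorem midP_le : midP w i ≤ w.midU i := by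
  refine sup_le ((closure_le _).2 ?_) (W_le_midU h2 hL (by omega) (by omega))
  rintro _ ⟨t, ht, v, hv, rfl⟩
  exact (mem_normalizer_iff.1 (A.U_normal _ ht) v).1 (W_le_midU h2 hL le_rfl (by omega) hv)

theorem midP_normal : w.G (i + 2) ≤ normalizer (midP w i : Set Γ) := by
  refine le_normalizer_of_conj_mem fun g hg x hx => ?_
  have hle : cj g (midP w i) ≤ midP w i := by
    rw [midP, cj, Subgroup.map_sup]
    refine sup_le_sup ?_ ?_
    · rw [MonoidHom.map_closure, closure_le]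
      rintro _ ⟨_, ⟨k, hk, v, hv, rfl⟩, rfl⟩
      exact subset_closure ⟨g * k, mul_mem hg hk, v, hv, by simp [mul_assoc]⟩
    · exact le_of_eq (cj_of_mem_normalizer ((w.facts (i + 2)).G_norm_W hg))
  exact hle (conj_mem_cj hx)

theorem midP_comm {u q : Γ} (hu : u ∈ midP w i) (hq : q ∈ w.Q (i + 2)) : ⁅u, q⁆ ∈ w.C (i + 2) := by
  have hn : w.G (i + 2) ≤ normalizer (w.C (i + 2) : Set Γ) := le_normalizer_of_conj_mem fun g hg x hx => by
    rw [(w.facts (i + 2)).C_comm hx hg, mul_inv_cancel_right]; exact hx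
  have hle : midP w i ≤ comSub (w.G (i + 2)) (w.C (i + 2)) (w.Q (i + 2) : Set Γ) hn := by
    refine sup_le ((closure_le _).2 ?_) fun v hv => ⟨(w.facts (i + 2)).W_le_G hv, fun r hr => ?_⟩
    · rintro _ ⟨t, ht, v, hv, rfl⟩
      have hvG : v ∈ w.G (i + 2) := (w.facts (i + 2)).Q_le_G
        (W_le_Q_adj h2 hL (by omega) (by omega) (by omega) (by omega) hv)
      refine ⟨mul_mem (mul_mem ht hvG) (inv_mem ht), fun r hr => ?_⟩
      have hr' : t⁻¹ * r * t ∈ w.Q (i + 2) := by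
        simpa using (mem_normalizer_iff.1 ((w.facts (i + 2)).G_norm_Q (inv_mem ht)) r).1 hr
      have h := (w.comm_WQ (i := i + 1) (by omega) (by omega) hv (q := t⁻¹ * r * t) hr').1
      rw [show ⁅t * v * t⁻¹, r⁆ = t * ⁅v, t⁻¹ * r * t⁆ * t⁻¹ by simp only [commutatorElement_def]; group,
        (w.facts (i + 2)).C_comm h ht, mul_inv_cancel_right]
      exact h
    · rw [commutatorElement_eq_one_iff_mul_comm.2 ((w.facts (i + 2)).W_comm r hr v hv).symm]
      exact one_mem _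
  exact (hle hu).2 q hq

theorem comm_Q_left {x b : Γ} (hx : x ∈ w.Q (i + 2)) (hb : b ∈ w.W i) : ⁅x, b⁆ ∈ w.midU i := by
  obtain ⟨-, -, -, hsup1, -⟩ := w.pairs (i := i + 1) (by omega)
  obtain ⟨-, -, -, hsup0, -⟩ := w.pairs (i := i) (by omega)
  rw [show i + 1 + A.crit = i + 3 by omega] at hsup1
  rw [h2] at hsup0
  obtain ⟨x3, hx3, z, hz, rfl⟩ := hsup1 x ((w.facts (i + 2)).Q_le hx)
  obtain ⟨x2, hx2, d, hd, rfl⟩ := hsup0 z ((w.facts (i + 1)).Q_le hz)
  rw [← mul_assoc, comm_mul_left_of_commute ((w.facts i).W_comm d hd b hb)]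
  have hu : x3 * x2 ∈ w.midU i :=
    mul_mem (W_le_midU h2 hL (by omega) le_rfl hx3) (W_le_midU h2 hL (by omega) (by omega) hx2)
  rw [commutatorElement_def, show x3 * x2 * b * (x3 * x2)⁻¹ * b⁻¹ = x3 * x2 * (b * (x3 * x2)⁻¹ * b⁻¹) by group]
  exact mul_mem hu ((mem_normalizer_iff.1 (A.U_normal _ (W_left_G h2 hL hb)) _).1 (inv_mem hu))

theorem comm_Q_right {x b : Γ} (hx : x ∈ w.Q (i + 2)) (hb : b ∈ w.W (i + 4)) : ⁅x, b⁆ ∈ w.midU i := by
  obtain ⟨-, -, hsup1, -⟩ := w.pairs (i := i + 1) (by omega)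
  obtain ⟨-, -, hsup0, -⟩ := w.pairs (i := i + 2) (by omega)
  rw [show i + 1 + A.crit = i + 3 by omega] at hsup1
  rw [show i + 2 + A.crit = i + 4 by omega] at hsup0
  obtain ⟨x1, hx1, z, hz, rfl⟩ := hsup1 x (w.Q_le_S (i := i + 2) (by omega) hx)
  obtain ⟨x2, hx2, d, hd, rfl⟩ := hsup0 z (w.Q_le_S (i := i + 3) (by omega) hz)
  rw [← mul_assoc, comm_mul_left_of_commute ((w.facts (i + 4)).W_comm d hd b hb)]
  have hu : x1 * x2 ∈ w.midU i :=
    mul_mem (W_le_midU h2 hL le_rfl (by omega) hx1) (W_le_midU h2 hL (by omega) (by omega) hx2)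
  rw [commutatorElement_def, show x1 * x2 * b * (x1 * x2)⁻¹ * b⁻¹ = x1 * x2 * (b * (x1 * x2)⁻¹ * b⁻¹) by group]
  exact mul_mem hu ((mem_normalizer_iff.1 (A.U_normal _ (W_far_G h2 hL hb)) _).1 (inv_mem hu))

end Win

/-- The data of the middle vertex, pulled back along an injective map. -/
theorem Win.mid (w : Win A) {i : ℕ} [Fact p.Prime] (h2 : A.crit = 2) (hi : 1 ≤ i) (hL : i + 4 ≤ w.L)
    (hL5 : i + 5 ≤ w.L) {G : Type*} [Group G] [Finite G] {S M Q W Z C : Subgroup G} (hF : Facts p ⊤ S M Q W Z C)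
    (f : G →* Γ) (hf : Function.Injective f) (hG : (⊤ : Subgroup G).map f = w.G (i + 2))
    (hS : S.map f = w.S (i + 2)) (hM : M.map f = A.Mv (w.b (i + 2))) (hQ : Q.map f = w.Q (i + 2))
    (hW : W.map f = w.W (i + 2)) (hZ : Z.map f = w.Z (i + 2)) (hC : C.map f = w.C (i + 2)) :
    ∃ g : G, Mid p S M Q W Z C ((w.midU i).comap f) ((w.midA i).comap f) ((w.midF i).comap f)
      ((Win.midP w i).comap f) ((w.W i).comap f) g := by
  classical
  obtain ⟨g, -, hg⟩ : (w.b (i + 2)).1 * w.opp (i + 2) * (w.b (i + 2)).1⁻¹ ∈ (⊤ : Subgroup G).map f :=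
    hG.symm ▸ conj_mem_cj (w.opp_mem (i + 2))
  have iff_of : ∀ {X : Subgroup G} {X' : Subgroup Γ}, X.map f = X' → ∀ x, f x ∈ X' ↔ x ∈ X := by
    intro X X' hX x; rw [← hX]; exact mem_map_iff_mem hf
  have hfG : ∀ x, f x ∈ w.G (i + 2) := fun x => (iff_of hG x).2 (mem_top x)
  have rng : w.G (i + 2) ≤ f.range := by rw [← hG]; exact map_le_range f ⊤
  have hU_le : w.midU i ≤ w.G (i + 2) := (Win.midU_le_Q h2 hL).trans (w.facts (i + 2)).Q_le_G
  have map_comap : ∀ {X : Subgroup Γ}, X ≤ w.midU i → (X.comap f).map f = X :=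
    fun hX => map_comap_eq_self ((hX.trans hU_le).trans rng)
  have card_comap : ∀ {X : Subgroup Γ}, X ≤ w.midU i → Nat.card ↥(X.comap f) = Nat.card X := fun hX => by
    rw [← card_map_of_injective hf, map_comap hX]
  have card_map : ∀ {X : Subgroup G} {X' : Subgroup Γ}, X.map f = X' → Nat.card X = Nat.card X' := by
    intro X X' hX; rw [← hX, card_map_of_injective hf]
  have normal_comap : ∀ {X : Subgroup Γ}, w.G (i + 2) ≤ normalizer (X : Set Γ) → (X.comap f).Normal := by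
    intro X hX
    refine ⟨fun x hx y => ?_⟩
    rw [mem_comap, map_mul, map_mul, map_inv]
    exact (mem_normalizer_iff.1 (hX (hfG y)) _).1 hx
  have hcom : ∀ a b : G, f ⁅a, b⁆ = ⁅f a, f b⁆ := map_commutatorElement f
  have hcj : cj g ((w.midA i).comap f) = (w.midB i).comap f := by
    ext x
    rw [mem_cj, mem_comap, mem_comap, map_mul, map_mul, map_inv, hg, ← mem_cj, Win.mid_conj h2 hL hL5]
  have hUc : ∀ u ∈ (w.midU i).comap f, ∀ q ∈ Q, ⁅u, q⁆ ∈ W := fun u hu q hq => by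
    rw [← iff_of hW, hcom]; exact A.U_comm (by omega) hu ((iff_of hQ q).2 hq)
  have hUQ : (w.midU i).comap f ≤ Q := fun x hx => (iff_of hQ x).1 (Win.midU_le_Q h2 hL hx)
  have hWF : W ≤ (w.midF i).comap f := fun x hx => Win.W_mid_le_F h2 hL ((iff_of hW x).2 hx)
  have hFn : ((w.midF i).comap f).Normal := normal_comap (Win.F_normal h2 hL)
  refine ⟨g,
    { facts := hF
      g_out := fun hgM => w.opp_out (i + 2) (by
        have h := (iff_of hM g).2 hgM
        rw [hg, mem_cj] at h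
        simpa [mul_assoc] using h)
      U_normal := normal_comap (A.U_normal _)
      F_normal := hFn
      P_normal := normal_comap (Win.midP_normal h2 hL)
      U_le := hUQ
      A_le := comap_mono inf_le_left
      F_le := comap_mono inf_le_left
      W_le_F := hWF
      inter := by rw [hcj, ← comap_inf]
      U_comm := hUc
      U_pow := ?_
      F_fixed := fun x hx y => by rw [← iff_of hW, hcom]; exact Win.F_fixed h2 hL hx (hfG y)
      quad := fun u hu s hs => by rw [mem_comap, hcom]; exact Win.mid_quad h2 hL hu ((iff_of hS s).2 hs)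
      A_fixed := fun a ha s hs => by
        rw [← iff_of hW, hcom]; exact Win.A_fixed h2 hL ha ((iff_of hS s).2 hs)
      fix := fun u hu s hs hsQ hus => Win.mid_fix h2 hL hu ((iff_of hS s).2 hs)
        (fun h => hsQ ((iff_of hQ s).1 h)) (by rw [← hcom]; exact hus)
      card_U := by
        rw [card_comap le_rfl, card_comap inf_le_left, card_map hQ, card_map hS]
        exact Win.card_midU h2 hL hL5
      card_A := by
        rw [card_comap inf_le_left, card_comap (inf_le_left.trans inf_le_left), card_map hQ, card_map hS]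
        exact Win.card_midA h2 hL hL5
      hyper := ?_
      W_le_P := fun x hx => mem_comap.2 (mem_sup_right ((iff_of hW x).2 hx))
      P_le := comap_mono (Win.midP_le h2 hL)
      P_comm := fun u hu q hq => by
        rw [← iff_of hC, hcom]; exact Win.midP_comm h2 hL hu ((iff_of hQ q).2 hq)
      B_gen := ?_
      L_le := fun x hx => (iff_of hS x).1 (Win.W_left_le h2 (by omega) hx)
      L_moves := fun hle => by
        have hc := w.critical i (by omega)
        rw [h2] at hc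
        refine hc fun x hx => ?_
        obtain ⟨y, rfl⟩ := rng (Win.W_left_G h2 hL hx)
        exact (iff_of hQ y).2 (hle hx)
      T_F := fun x hx b hb => by
        rw [← iff_of hC, hcom, hcom, (Win.T_of_F h2 hL hx.1 hb).2]; exact one_mem _
      T_mem := fun a ha b hb => by
        have h := ha.2; rw [hcj] at h
        rw [← iff_of hZ, hcom, hcom]; exact (Win.T_of_B h2 hL hi h hb).1
      T_ne := fun a ha haF b hb hbQ => by
        have h := ha.2; rw [hcj] at h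
        rw [← iff_of hC, hcom, hcom]
        exact (Win.T_of_B h2 hL hi h hb).2 haF fun hh => hbQ ((iff_of hQ b).1 hh) }⟩
  · -- `u ^ p ∈ F`
    intro u hu
    set π := QuotientGroup.mk' ((w.midF i).comap f)
    have hcomm : ∀ a ∈ (w.midU i).comap f, ∀ b ∈ (w.midU i).comap f, Commute (π a) (π b) := fun a ha b hb => by
      refine commutatorElement_eq_one_iff_mul_comm.1 ?_
      rw [← map_commutatorElement, QuotientGroup.mk'_apply, QuotientGroup.eq_one_iff]
      exact hWF (hUc a ha b (hUQ hb))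
    have hpow : ∀ {j}, ∀ a ∈ w.W j, a ^ p = 1 := fun a ha => (w.facts _).W_pow a ha
    rw [← QuotientGroup.eq_one_iff, ← QuotientGroup.mk'_apply, map_pow]
    obtain ⟨x, hx, y, hy, he⟩ := Win.split_left h2 hL hu
    obtain ⟨x1, hx1, z, hz, hey⟩ := Win.split_right h2 hL hy.1
    have hzF : z ∈ w.midF i := by
      refine mem_inf.2 ⟨?_, hz⟩
      have := mul_mem (inv_mem (Win.W_left_mem_A h2 hL hx1)) hy
      rwa [hey, inv_mul_cancel_left] at this
    obtain ⟨a, rfl⟩ := (rng.trans' hU_le) (Win.W_le_midU h2 hL (by omega) le_rfl hx)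
    obtain ⟨a1, rfl⟩ := (rng.trans' hU_le) (Win.W_le_midU h2 hL le_rfl (by omega) hx1)
    obtain ⟨c, rfl⟩ := (rng.trans' hU_le) hzF.1.1
    have hu' : u = a * (a1 * c) := hf (by rw [he, hey, map_mul, map_mul])
    have haU : a ∈ (w.midU i).comap f := Win.W_le_midU h2 hL (by omega) le_rfl hx
    have ha1U : a1 ∈ (w.midU i).comap f := Win.W_le_midU h2 hL le_rfl (by omega) hx1
    have hc1 : π c = 1 := (QuotientGroup.eq_one_iff _).2 hzF
    have h1 : ∀ {j} {a : G}, f a ∈ w.W j → π a ^ p = 1 := fun ha => by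
      rw [← map_pow, show _ ^ p = (1 : G) from hf (by rw [map_pow, hpow _ ha, map_one]), map_one]
    rw [hu', map_mul, map_mul, hc1, mul_one, (hcomm a haU a1 ha1U).mul_pow, h1 hx, h1 hx1, one_mul]
  · -- hypercentrality
    have hQn : Q.Normal := ⟨fun x hx y => (mem_normalizer_iff.1 (hF.G_norm_Q (mem_top y)) x).1 hx⟩
    refine hyper_of_gen hQn (normal_comap (A.U_normal _)) (hF.S_pGroup.to_le hF.Q_le).isNilpotent
      (((w.W i).comap f : Set G) ∪ ((w.W (i + 4)).comap f : Set G)) ?_ ?_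
    · rw [eq_top_iff]
      intro x _
      obtain ⟨-, -, -, -, hn, -, -⟩ := w.pairs (i := i + 2) (by omega)
      rw [show i + 2 + A.crit = i + 4 by omega] at hn
      obtain ⟨c, hc, hcQ⟩ := SetLike.not_le_iff_exists.1 hn
      have hx := hfG x
      rw [← w.gen_right (i := i + 2) (by omega) (Win.W_far_le h2 hL hc) hcQ] at hx
      set H := closure ((Q : Set G) ∪ (((w.W i).comap f : Set G) ∪ ((w.W (i + 4)).comap f : Set G))) with hH
      have hle : w.S (i + 2) ⊔ zpowers c ≤ H.map f := by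
        refine sup_le (fun s hs => ?_) (zpowers_le.2 ?_)
        · obtain ⟨-, -, hsup, -⟩ := w.pairs (i := i) (by omega)
          rw [h2] at hsup
          obtain ⟨b, hb, q, hq, rfl⟩ := hsup s hs
          obtain ⟨b, rfl⟩ := rng (Win.W_left_G h2 hL hb)
          rw [← hQ] at hq
          obtain ⟨q, hq, rfl⟩ := hq
          rw [← map_mul]
          exact mem_map_of_mem f (mul_mem (subset_closure (Or.inr (Or.inl hb))) (subset_closure (Or.inl hq)))
        · obtain ⟨c', rfl⟩ := rng (Win.W_far_G h2 hL hc)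
          exact mem_map_of_mem f (subset_closure (Or.inr (Or.inr hc)))
      exact (mem_map_iff_mem hf).1 (hle hx)
    · rintro t (ht | ht) x hx <;> rw [mem_comap, hcom]
      · exact Win.comm_Q_left h2 hL ((iff_of hQ x).2 hx) ht
      · exact Win.comm_Q_right h2 hL ((iff_of hQ x).2 hx) ht
  · -- generation of `midB`
    intro x hx
    rw [hcj] at hx
    have hfx : f x ∈ cj ((w.b (i + 2)).1 * w.opp (i + 2) * (w.b (i + 2)).1⁻¹) (w.midA i) := by
      rw [Win.mid_conj h2 hL hL5]; exact hx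
    obtain ⟨a, ha, hae⟩ := hfx
    obtain ⟨x1, hx1, z, hz, rfl⟩ := Win.split_right h2 hL ha.1
    have hzF : z ∈ w.midF i := by
      refine mem_inf.2 ⟨?_, hz⟩
      have := mul_mem (inv_mem (Win.W_left_mem_A h2 hL hx1)) ha
      rwa [inv_mul_cancel_left] at this
    obtain ⟨a1, rfl⟩ := (rng.trans' hU_le) (Win.W_le_midU h2 hL le_rfl (by omega) hx1)
    obtain ⟨c, rfl⟩ := (rng.trans' hU_le) hzF.1.1
    have hxe : x = g * a1 * g⁻¹ * (g * c * g⁻¹) := hf (by
      rw [← hae]; simp [hg, mul_assoc])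
    rw [hxe]
    refine mul_mem (mem_sup_left (mem_inf.2 ⟨?_, ?_⟩)) (mem_sup_right (hFn.conj_mem c hzF g))
    · rw [mem_comap]
      rw [map_mul, map_mul, map_inv]
      exact mem_sup_left (subset_closure ⟨f g, hfG g, f a1, hx1, rfl⟩)
    · exact conj_mem_cj (show a1 ∈ (w.midA i).comap f from Win.W_left_mem_A h2 hL hx1)

end Cfsg.Agent.PushFamily
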