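import Mathlib
import Cfsg.Agent.Lib.PushFamMid
import Cfsg.Agent.Lib.PushAmalgamThree
import Cfsg.Agent.Lib.PushAmalgamMidFive
import Cfsg.Agent.Lib.PushAmalgamMidSL2
import Cfsg.Agent.Lib.PushFamKill

/-!
Pushing up, uniform version: the middle vertex at critical distance two.
-/

set_option autoImplicit false
set_option linter.unusedSectionVars false
set_option linter.unusedVariables false

namespace Cfsg.Agent.PushFamily

open Subgroup
open Cfsg.Agent.PushAmalgam
open scoped commutatorElement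

universe u

variable {Γ : Type u} [Group Γ] [Finite Γ] {p : ℕ}

omit [Finite Γ] in
theorem phi_mono {X Y : Subgroup Γ} (h : X ≤ Y) : PushingUpCL.phi p X ≤ PushingUpCL.phi p Y :=
  sup_le_sup (commutator_mono h h) (closure_mono (Set.image_mono h))

omit [Finite Γ] in
theorem phi_le (X : Subgroup Γ) : PushingUpCL.phi p X ≤ X :=
  sup_le (Subgroup.commutator_le_self X) ((closure_le _).2 (by
    rintro _ ⟨x, hx, rfl⟩; exact pow_mem hx p))

theorem normalizer_phi {H X : Subgroup Γ} (h : H ≤ normalizer (X : Set Γ)) :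
    H ≤ normalizer (PushingUpCL.phi p X : Set Γ) := by
  refine le_normalizer_of_conj_mem fun g hg y hy => ?_
  have e : cj g (PushingUpCL.phi p X) = PushingUpCL.phi p X := by
    rw [cj, PushingUpCL.phi_map]
    exact congrArg (PushingUpCL.phi p) (cj_of_mem_normalizer (h hg))
  rw [← e]
  exact conj_mem_cj hy

/-- The Frattini subgroup of a central product. -/
theorem phi_sup_le {H D : Subgroup Γ} (hc : ∀ h ∈ H, ∀ d ∈ D, h * d = d * h) :
    PushingUpCL.phi p (H ⊔ D) ≤ PushingUpCL.phi p H ⊔ PushingUpCL.phi p D := by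
  refine sup_le ((lcs_centralProd hc 1).trans (sup_le_sup le_sup_left le_sup_left)) ((closure_le _).2 ?_)
  rintro _ ⟨x, hx, rfl⟩
  have hn : H ≤ normalizer (D : Set Γ) := fun h hh =>
    centralizer_le_normalizer _ fun d hd => (hc h hh d hd).symm
  rw [SetLike.mem_coe, ← SetLike.mem_coe, coe_mul_of_left_le_normalizer_right H D hn] at hx
  obtain ⟨h, hh, d, hd, rfl⟩ := Set.mem_mul.1 hx
  show (h * d) ^ p ∈ _
  rw [(show Commute h d from hc h hh d hd).mul_pow]
  exact mul_mem (mem_sup_left (mem_sup_right (subset_closure ⟨h, hh, rfl⟩)))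
    (mem_sup_right (mem_sup_right (subset_closure ⟨d, hd, rfl⟩)))

namespace Win

variable {A : Fam Γ p} {w : Win A} {i : ℕ} (h2 : A.crit = 2) (hL : i + 4 ≤ w.L)
include h2 hL

/-- At the middle vertex the derived subgroup of `O_p` meets `Z` inside `C`, and so do the
characteristic subgroups of `S` in question. -/
theorem three_tame (hp : p = 3) (hi : 1 ≤ i) :
    ⁅w.Q (i + 2), w.Q (i + 2)⁆ ⊓ w.Z (i + 2) ≤ w.C (i + 2) ∧
      ∀ T ≤ w.Z (i + 2), InFun p (w.S (i + 2)) T → T ≤ w.C (i + 2) := by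
  set S := w.S (i + 2) with hSdef
  set D := w.Q i ⊓ w.Q (i + 1) ⊓ (w.Q (i + 2) ⊓ w.Q (i + 3)) with hD
  set Gen : Set Γ := (w.W i : Set Γ) ∪ (w.W (i + 1) : Set Γ) ∪ (w.W (i + 2) : Set Γ) ∪ (w.W (i + 3) : Set Γ)
  set H := closure Gen with hH
  have hW0 : w.W i ≤ S := W_left_le h2 (by omega)
  have hWQ : ∀ j, i + 1 ≤ j → j ≤ i + 3 → w.W j ≤ w.Q (i + 2) := fun j h1 h3 =>
    W_le_Q_adj h2 hL (by omega) (by omega) (by omega) (by omega)
  have hQS : w.Q (i + 2) ≤ S := (w.facts (i + 2)).Q_le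
  have hHS : H ≤ S := by
    rw [hH, closure_le]
    rintro x (((hx | hx) | hx) | hx)
    · exact hW0 hx
    all_goals exact hQS (hWQ _ (by omega) (by omega) hx)
  have hDS : D ≤ S := inf_le_right.trans (inf_le_left.trans hQS)
  -- `S = H D`
  set H3 := closure ((w.W (i + 1) : Set Γ) ∪ (w.W (i + 2) : Set Γ) ∪ (w.W (i + 3) : Set Γ)) with hH3
  have hH3H : H3 ≤ H := closure_mono (by
    rintro x ((hx | hx) | hx)
    · exact Or.inl (Or.inl (Or.inr hx))
    · exact Or.inl (Or.inr hx)
    · exact Or.inr hx)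
  have hsupQ : ∀ x ∈ w.Q (i + 2), ∃ h ∈ H3, ∃ d ∈ D, x = h * d := by
    intro x hx
    obtain ⟨-, -, hsupR, hsupL, -⟩ := w.pairs (i := i + 1) (by omega)
    obtain ⟨-, -, -, hsup0, -⟩ := w.pairs (i := i) (by omega)
    rw [show i + 1 + A.crit = i + 3 by omega] at hsupR hsupL
    rw [h2] at hsup0
    obtain ⟨x3, hx3, z, hz, rfl⟩ := hsupL x (hQS hx)
    have hzQ : z ∈ w.Q (i + 2) := by simpa using mul_mem (inv_mem (hWQ (i + 3) (by omega) le_rfl hx3)) hx
    obtain ⟨x1, hx1, y, hy, rfl⟩ := hsupR z (w.Q_le_S (i := i + 2) (by omega) hzQ)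
    have hx1Q : x1 ∈ w.Q (i + 1) := (w.facts (i + 1)).W_le hx1
    have hy1 : y ∈ w.Q (i + 1) := by simpa using mul_mem (inv_mem hx1Q) hz
    have hy2 : y ∈ w.Q (i + 2) := by simpa using mul_mem (inv_mem (hWQ (i + 1) le_rfl (by omega) hx1)) hzQ
    obtain ⟨x2, hx2, d, hd, rfl⟩ := hsup0 y ((w.facts (i + 1)).Q_le hy1)
    have h21 := W_le_Q_adj h2 hL (j := i + 2) (k := i + 1) (by omega) (by omega) (by omega) (by omega) hx2
    have h23 := W_le_Q_adj h2 hL (j := i + 2) (k := i + 3) (by omega) (by omega) (by omega) (by omega) hx2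
    have h22 := (w.facts (i + 2)).W_le hx2
    refine ⟨x3 * x1 * x2, ?_, d, ⟨⟨hd, ?_⟩, ?_, ?_⟩, by group⟩
    · exact mul_mem (mul_mem (subset_closure (Or.inr hx3)) (subset_closure (Or.inl (Or.inl hx1))))
        (subset_closure (Or.inl (Or.inr hx2)))
    · simpa using mul_mem (inv_mem h21) hy1
    · simpa using mul_mem (inv_mem h22) hy2
    · simpa using mul_mem (inv_mem h23) hy
  have hsup : ∀ s ∈ S, ∃ h ∈ H, ∃ d ∈ D, s = h * d := by
    intro s hs
    obtain ⟨-, -, hsup0, -⟩ := w.pairs (i := i) (by omega)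
    rw [h2] at hsup0
    obtain ⟨b, hb, q, hq, rfl⟩ := hsup0 s hs
    obtain ⟨h, hh, d, hd, rfl⟩ := hsupQ q hq
    exact ⟨b * h, mul_mem (subset_closure (Or.inl (Or.inl (Or.inl hb)))) (hH3H hh), d, hd, by group⟩
  have hHD : ∀ h ∈ H, ∀ d ∈ D, h * d = d * h := by
    intro h hh d hd
    have : H ≤ centralizer {d} := by
      rw [hH, closure_le]
      rintro x (((hx | hx) | hx) | hx) <;> refine mem_centralizer_singleton_iff.2 ?_
      · exact ((w.facts i).W_comm d hd.1.1 x hx).symm
      · exact ((w.facts (i + 1)).W_comm d hd.1.2 x hx).symm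
      · exact ((w.facts (i + 2)).W_comm d hd.2.1 x hx).symm
      · exact ((w.facts (i + 3)).W_comm d hd.2.2 x hx).symm
    exact mem_centralizer_singleton_iff.1 (this hh)
  -- the commutator structure of `H`
  set K := w.C (i + 1) ⊔ w.C (i + 2) with hK
  have hKS : K ≤ centralizer (S : Set Γ) := by
    refine sup_le (fun c hc s hs => ?_) (fun c hc s hs => (w.facts (i + 2)).C_comm hc ((w.facts (i + 2)).S_le hs))
    exact (w.facts (i + 1)).C_comm hc ((w.facts_right (i := i + 1) (by omega)).S_le hs)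
  set X : Set Γ := {x | ∃ a ∈ w.W (i + 3), ∃ b ∈ w.W i, ⁅a, b⁆ = x} with hX
  set Y := K ⊔ closure X with hY
  have hXA : X ⊆ (w.midA i : Set Γ) := by
    rintro _ ⟨a, ha, b, hb, rfl⟩; exact comm_ab_mem h2 hL ha hb
  have hXK : ∀ x ∈ X, ∀ g ∈ Gen, ⁅x, g⁆ ∈ K := by
    intro x hx g hg
    have hxA := hXA hx
    obtain ((hg | hg) | hg) | hg := hg
    · obtain ⟨-, -, -, hsup0, -⟩ := w.pairs (i := i) (by omega)
      rw [h2] at hsup0
      obtain ⟨x2, hx2, y, hy, rfl⟩ := hsup0 x ((w.facts (i + 1)).Q_le hxA.2)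
      rw [comm_mul_left_of_commute ((w.facts i).W_comm y hy g hg)]
      exact mem_sup_left (comm_symm_mem
        (w.comm_mem_C_left (i := i) (by omega) (by omega) hg (by rwa [h2])).1)
    · rw [commutatorElement_eq_one_iff_mul_comm.2 ((w.facts (i + 1)).W_comm x hxA.2 g hg)]
      exact one_mem K
    · rw [commutatorElement_eq_one_iff_mul_comm.2 ((w.facts (i + 2)).W_comm x (midU_le_Q h2 hL hxA.1) g hg)]
      exact one_mem K
    · obtain ⟨x1, hx1, y, hy, rfl⟩ := split_right h2 hL hxA.1
      rw [comm_mul_left_of_commute ((w.facts (i + 3)).W_comm y hy.2 g hg)]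
      exact mem_sup_right (w.comm_mem_C_left (i := i + 1) (by omega) (by omega) hx1
        (by rwa [show i + 1 + A.crit = i + 3 by omega])).1
  have hgg : ∀ g ∈ Gen, ∀ g' ∈ Gen, ⁅g, g'⁆ ∈ Y := by
    have hcomm : ∀ {j k}, j ≤ w.L → k ≤ w.L → j < k + 2 → k < j + 2 →
        ∀ g ∈ w.W j, ∀ g' ∈ w.W k, ⁅g, g'⁆ ∈ Y := fun hj hk h1 h1' g hg g' hg' => by
      rw [commutatorElement_eq_one_iff_mul_comm.2 (w.W_comm hj hk (by omega) (by omega) hg hg')]
      exact one_mem Y
    have h02 : ∀ g ∈ w.W i, ∀ g' ∈ w.W (i + 2), ⁅g, g'⁆ ∈ Y := fun g hg g' hg' =>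
      mem_sup_left (mem_sup_left (w.comm_mem_C_left (i := i) (by omega) (by omega) hg (by rwa [h2])).1)
    have h13 : ∀ g ∈ w.W (i + 1), ∀ g' ∈ w.W (i + 3), ⁅g, g'⁆ ∈ Y := fun g hg g' hg' =>
      mem_sup_left (mem_sup_right (w.comm_mem_C_left (i := i + 1) (by omega) (by omega) hg
        (by rwa [show i + 1 + A.crit = i + 3 by omega])).1)
    have h30 : ∀ g ∈ w.W (i + 3), ∀ g' ∈ w.W i, ⁅g, g'⁆ ∈ Y := fun g hg g' hg' =>
      mem_sup_right (subset_closure ⟨g, hg, g', hg', rfl⟩)
    rintro g (((hg | hg) | hg) | hg) g' (((hg' | hg') | hg') | hg')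
    · exact hcomm (by omega) (by omega) (by omega) (by omega) g hg g' hg'
    · exact hcomm (by omega) (by omega) (by omega) (by omega) g hg g' hg'
    · exact h02 g hg g' hg'
    · exact comm_symm_mem (h30 g' hg' g hg)
    · exact hcomm (by omega) (by omega) (by omega) (by omega) g hg g' hg'
    · exact hcomm (by omega) (by omega) (by omega) (by omega) g hg g' hg'
    · exact hcomm (by omega) (by omega) (by omega) (by omega) g hg g' hg'
    · exact h13 g hg g' hg'
    · exact comm_symm_mem (h02 g' hg' g hg)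
    · exact hcomm (by omega) (by omega) (by omega) (by omega) g hg g' hg'
    · exact hcomm (by omega) (by omega) (by omega) (by omega) g hg g' hg'
    · exact hcomm (by omega) (by omega) (by omega) (by omega) g hg g' hg'
    · exact h30 g hg g' hg'
    · exact comm_symm_mem (h13 g' hg' g hg)
    · exact hcomm (by omega) (by omega) (by omega) (by omega) g hg g' hg'
    · exact hcomm (by omega) (by omega) (by omega) (by omega) g hg g' hg'
  have hYS : Y ≤ S := sup_le (sup_le (((w.facts (i + 1)).C_le.trans (w.facts (i + 1)).Z_le).trans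
    ((W_le_Q_adj h2 hL (by omega) (by omega) (by omega) (by omega)).trans hQS))
    (((w.facts (i + 2)).C_le.trans (w.facts (i + 2)).Z_le).trans (w.facts (i + 2)).W_le_S))
    ((closure_le _).2 fun x hx => hQS (midU_le_Q h2 hL (hXA hx).1))
  have hKn : S ≤ normalizer (K : Set Γ) := le_normalizer_of_conj_mem fun g hg x hx => by
    rw [hKS hx g hg, mul_inv_cancel_right]; exact hx
  have hYK : ∀ y ∈ Y, ∀ h ∈ H, ⁅y, h⁆ ∈ K := by
    intro y hy h hh
    have h1 : H ≤ comSub S K (Y : Set Γ) hKn := by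
      rw [hH, closure_le]
      intro g hg
      refine ⟨hHS (subset_closure hg), fun z hz => ?_⟩
      have h2' : Y ≤ comSub S K {g} hKn := by
        refine sup_le (fun k hk => ⟨hYS (mem_sup_left hk), ?_⟩) ((closure_le _).2 fun x hx => ⟨hYS (mem_sup_right (subset_closure hx)), ?_⟩)
        all_goals rintro _ rfl
        · rw [commutatorElement_eq_one_iff_mul_comm.2 (hKS hk _ (hHS (subset_closure hg))).symm]
          exact one_mem K
        · exact hXK x hx _ hg
      exact comm_symm_mem ((h2' hz).2 g rfl)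
    exact comm_symm_mem ((h1 hh).2 y hy)
  have hYn : H ≤ normalizer (Y : Set Γ) := le_normalizer_of_conj_mem fun h hh y hy => by
    have := mul_mem (mem_sup_left (T := closure X) (comm_symm_mem (hYK y hy h hh))) hy
    rwa [commutatorElement_def, inv_mul_cancel_right] at this
  have hHY : ∀ g ∈ H, ∀ g' ∈ H, ⁅g, g'⁆ ∈ Y := by
    intro g hg g' hg'
    have h1 : H ≤ comSub H Y (H : Set Γ) hYn := by
      conv_lhs => rw [hH]
      rw [closure_le]
      intro x hx
      refine ⟨subset_closure hx, fun z hz => ?_⟩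
      have h2' : H ≤ comSub H Y {x} hYn := by
        conv_lhs => rw [hH]
        rw [closure_le]
        intro z hz
        refine ⟨subset_closure hz, ?_⟩
        rintro _ rfl
        exact hgg z hz _ hx
      exact comm_symm_mem ((h2' hz).2 x rfl)
    exact (h1 hg).2 g' hg'
  have hlcs3 : S.lowerCentralSeries 3 ≤ D.lowerCentralSeries 3 := by
    have hle : S ≤ H ⊔ D := fun s hs => by
      obtain ⟨h, hh, d, hd, rfl⟩ := hsup s hs
      exact Subgroup.mul_mem_sup hh hd
    refine (lcs_mono hle 3).trans ((lcs_centralProd hHD 3).trans (sup_le ?_ le_rfl))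
    have l1 : H.lowerCentralSeries 1 ≤ Y := commutator_le.2 hHY
    have l2 : H.lowerCentralSeries 2 ≤ K :=
      (commutator_mono l1 le_rfl).trans (commutator_le.2 hYK)
    refine (commutator_mono l2 le_rfl).trans (le_trans ?_ bot_le)
    exact (commutator_eq_bot_iff_le_centralizer.2 (hKS.trans (centralizer_le hHS))).le
  have hXX : ∀ x ∈ X, ∀ z ∈ Y, x * z = z * x := by
    rintro _ ⟨a, ha, b, hb, rfl⟩ z hz
    have hza := hKS (hYK z hz a (subset_closure (Or.inr ha)))
    have hzb := hKS (hYK z hz b (subset_closure (Or.inl (Or.inl (Or.inl hb)))))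
    have haS : a ∈ S := hHS (subset_closure (Or.inr ha))
    have hbS : b ∈ S := hW0 hb
    have ea : a * z * a⁻¹ = ⁅z, a⁆⁻¹ * z := by rw [commutatorElement_def]; group
    have eb : b * z * b⁻¹ = ⁅z, b⁆⁻¹ * z := by rw [commutatorElement_def]; group
    set r := ⁅z, a⁆
    set r' := ⁅z, b⁆
    have ea' : a⁻¹ * z * a = r * z := by
      have e : a * (r * z) * a⁻¹ = z := by
        rw [show a * (r * z) * a⁻¹ = (a * r * a⁻¹) * (a * z * a⁻¹) by group, ea,
          show a * r * a⁻¹ = r by rw [hza a haS, mul_inv_cancel_right]]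
        group
      conv_lhs => rw [← e]
      group
    have eb' : b⁻¹ * z * b = r' * z := by
      have e : b * (r' * z) * b⁻¹ = z := by
        rw [show b * (r' * z) * b⁻¹ = (b * r' * b⁻¹) * (b * z * b⁻¹) by group, eb,
          show b * r' * b⁻¹ = r' by rw [hzb b hbS, mul_inv_cancel_right]]
        group
      conv_lhs => rw [← e]
      group
    have key : ⁅a, b⁆ * z * ⁅a, b⁆⁻¹ = z := by
      calc ⁅a, b⁆ * z * ⁅a, b⁆⁻¹ = a * (b * (a⁻¹ * (b⁻¹ * z * b) * a) * b⁻¹) * a⁻¹ := by
            rw [commutatorElement_def]; group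
        _ = a * (b * (a⁻¹ * r' * a * (r * z)) * b⁻¹) * a⁻¹ := by rw [eb', ← ea']; group
        _ = a * (b * (r' * (r * z)) * b⁻¹) * a⁻¹ := by
            rw [show a⁻¹ * r' * a = r' by rw [mul_assoc, ← hzb a haS, inv_mul_cancel_left]]
        _ = a * (r' * r * (r'⁻¹ * z)) * a⁻¹ := by
            rw [← eb, show b * (r' * (r * z)) * b⁻¹ = (b * (r' * r) * b⁻¹) * (b * z * b⁻¹) by group,
              show b * (r' * r) * b⁻¹ = r' * r by
                rw [mul_mem (hzb) (hza) b hbS, mul_inv_cancel_right]]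
        _ = a * (r * z) * a⁻¹ := by
            rw [show r' * r = r * r' from hzb r (hYS (mem_sup_left (hYK z hz a (subset_closure (Or.inr ha))))) |>.symm]
            group
        _ = z := by rw [← ea']; group
    calc ⁅a, b⁆ * z = ⁅a, b⁆ * z * ⁅a, b⁆⁻¹ * ⁅a, b⁆ := by group
      _ = z * ⁅a, b⁆ := by rw [key]

  have hY3 : ∀ y ∈ Y, y ^ 3 = 1 := by
    have hX3 : ∀ x ∈ X, x ^ 3 = 1 := by
      rintro _ ⟨a, ha, b, hb, rfl⟩
      have hxY : ⁅a, b⁆ ∈ Y := mem_sup_right (subset_closure ⟨a, ha, b, hb, rfl⟩)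
      have haS : a ∈ S := hHS (subset_closure (Or.inr ha))
      have hr := comm_symm_mem (hYK _ hxY a (subset_closure (Or.inr ha)))
      set x := ⁅a, b⁆ with hxdef
      set r := ⁅a, x⁆ with hr'
      have hax : a * x * a⁻¹ = r * x := by rw [hr', commutatorElement_def]; group
      have har : a * r * a⁻¹ = r := by rw [hKS hr a haS, mul_inv_cancel_right]
      have hrx : x * r = r * x := hKS hr x (hYS hxY)
      have ha3 : a ^ 3 = 1 := hp ▸ (w.facts (i + 3)).W_pow a ha
      have h1 : ⁅a ^ 3, b⁆ = (r * r * x) * (r * x) * x := by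
        have e2 : ⁅a ^ 3, b⁆ = a * (a * x * a⁻¹) * a⁻¹ * (a * x * a⁻¹) * x := by
          rw [hxdef, pow_succ, pow_two, commutatorElement_def, commutatorElement_def]; group
        rw [e2, hax, show a * (r * x) * a⁻¹ = (a * r * a⁻¹) * (a * x * a⁻¹) by group, har, hax]
        group
      rw [ha3, show ⁅(1 : Γ), b⁆ = 1 by simp] at h1
      have hr3 : r ^ 3 = 1 := by
        have : K ≤ w.Q (i + 2) ⊓ centralizer (S : Set Γ) := le_inf (sup_le
          ((((w.facts (i + 1)).C_le.trans (w.facts (i + 1)).Z_le)).trans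
            (W_le_Q_adj h2 hL (by omega) (by omega) (by omega) (by omega)))
          ((((w.facts (i + 2)).C_le.trans (w.facts (i + 2)).Z_le)).trans (w.facts (i + 2)).W_le)) hKS
        have hK3 : ∀ k ∈ K, k ^ 3 = 1 := by
          intro k hk
          refine closure_induction (p := fun k _ => k ^ 3 = 1) ?_ (one_pow 3) ?_ ?_
            (show k ∈ closure ((w.C (i + 1) : Set Γ) ∪ (w.C (i + 2) : Set Γ)) by
              rwa [Subgroup.closure_union, closure_eq, closure_eq])
          · rintro c (hc | hc)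
            · exact hp ▸ (w.facts (i + 1)).W_pow c ((w.facts (i + 1)).Z_le ((w.facts (i + 1)).C_le hc))
            · exact hp ▸ (w.facts (i + 2)).W_pow c ((w.facts (i + 2)).Z_le ((w.facts (i + 2)).C_le hc))
          · intro u v hu hv iu iv
            rw [Subgroup.closure_union, closure_eq, closure_eq] at hu hv
            rw [(show Commute u v from (hKS hu v (hYS (mem_sup_left hv))).symm).mul_pow, iu, iv, one_mul]
          · intro u _ iu; rw [inv_pow, iu, inv_one]
        exact hK3 r hr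
      have e3 : r * r * x * (r * x) * x = r ^ 3 * x ^ 3 := by
        rw [show r * r * x * (r * x) * x = r * r * (x * r) * (x * x) by group, hrx]
        simp only [pow_succ, pow_zero, one_mul, mul_assoc]
      rw [e3, hr3, one_mul] at h1
      exact h1.symm
    intro y hy
    refine closure_induction (p := fun y _ => y ^ 3 = 1) ?_ (one_pow 3) ?_ ?_
      (show y ∈ closure ((w.C (i + 1) : Set Γ) ∪ (w.C (i + 2) : Set Γ) ∪ X) by
        rwa [Subgroup.closure_union, Subgroup.closure_union, closure_eq, closure_eq])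
    · rintro c ((hc | hc) | hc)
      · exact hp ▸ (w.facts (i + 1)).W_pow c ((w.facts (i + 1)).Z_le ((w.facts (i + 1)).C_le hc))
      · exact hp ▸ (w.facts (i + 2)).W_pow c ((w.facts (i + 2)).Z_le ((w.facts (i + 2)).C_le hc))
      · exact hX3 c hc
    · intro u v hu hv iu iv
      rw [Subgroup.closure_union, Subgroup.closure_union, closure_eq, closure_eq] at hu hv
      have hc : Y ≤ centralizer {v} := sup_le
        (fun k hk => mem_centralizer_singleton_iff.2 (hKS hk v (hYS hv)).symm)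
        ((closure_le _).2 fun x hx => mem_centralizer_singleton_iff.2 (hXX x hx v hv))
      rw [(show Commute u v from mem_centralizer_singleton_iff.1 (hc hu)).mul_pow, iu, iv, one_mul]
    · intro u _ iu; rw [inv_pow, iu, inv_one]
  have hYH : Y ≤ H := by
    refine sup_le (sup_le ?_ ?_) ((closure_le _).2 ?_)
    · exact fun c hc => subset_closure (Or.inl (Or.inl (Or.inr ((w.facts (i + 1)).Z_le ((w.facts (i + 1)).C_le hc)))))
    · exact fun c hc => subset_closure (Or.inl (Or.inr ((w.facts (i + 2)).Z_le ((w.facts (i + 2)).C_le hc))))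
    · rintro _ ⟨a, ha, b, hb, rfl⟩
      rw [commutatorElement_def]
      have ha' : a ∈ H := subset_closure (Or.inr ha)
      have hb' : b ∈ H := subset_closure (Or.inl (Or.inl (Or.inl hb)))
      exact mul_mem (mul_mem (mul_mem ha' hb') (inv_mem ha')) (inv_mem hb')
  have hDQ : D ≤ w.Q (i + 2) := inf_le_right.trans inf_le_left
  have hC0 : w.C (i + 2) ≤ w.Q i := by
    obtain ⟨-, -, -, -, -, -, hQ⟩ := w.pairs (i := i) (by omega)
    rw [h2] at hQ
    exact ((w.facts (i + 2)).C_le).trans hQ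
  -- a normal subgroup meeting `Z` outside `C` is not below `Q i`
  have hkill : ∀ X ≤ w.Q (i + 2), w.G (i + 2) ≤ normalizer (X : Set Γ) → X ≤ w.C (i + 2) ⊔ D →
      X ⊓ w.Z (i + 2) ≤ w.C (i + 2) := by
    intro X hXQ hXn hXD
    by_contra hne
    obtain ⟨-, -, -, -, hn, -, -⟩ := w.pairs (i := i) (by omega)
    rw [h2] at hn
    refine hn ?_
    refine ((w.facts (i + 2)).W_le_of_moved hXQ hXn hne).trans (sup_le (hXD.trans (sup_le hC0 ?_)) hC0)
    exact inf_le_left.trans inf_le_left
  refine ⟨hkill _ (Subgroup.commutator_le_self _) ?_ ?_, fun T hTZ hT => ?_⟩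
  · exact normalizer_lcs (w.facts (i + 2)).G_norm_Q 1
  · have hn : w.G (i + 2) ≤ normalizer (w.C (i + 2) : Set Γ) := le_normalizer_of_conj_mem fun g hg x hx => by
      rwa [(w.facts (i + 2)).C_comm hx hg, mul_inv_cancel_right]
    have hH3G : H3 ≤ w.G (i + 2) := by
      rw [hH3, closure_le]
      rintro x ((hx | hx) | hx) <;> exact (w.facts (i + 2)).Q_le_G (hWQ _ (by omega) (by omega) hx)
    have hgen : ∀ g ∈ (w.W (i + 1) : Set Γ) ∪ (w.W (i + 2) : Set Γ) ∪ (w.W (i + 3) : Set Γ),
        ∀ g' ∈ (w.W (i + 1) : Set Γ) ∪ (w.W (i + 2) : Set Γ) ∪ (w.W (i + 3) : Set Γ),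
        ⁅g, g'⁆ ∈ w.C (i + 2) := by
      have hcomm : ∀ {j k}, j ≤ w.L → k ≤ w.L → j < k + 2 → k < j + 2 →
          ∀ g ∈ w.W j, ∀ g' ∈ w.W k, ⁅g, g'⁆ ∈ w.C (i + 2) := fun hj hk h1 h1' g hg g' hg' => by
        rw [commutatorElement_eq_one_iff_mul_comm.2 (w.W_comm hj hk (by omega) (by omega) hg hg')]
        exact one_mem _
      have h13 : ∀ g ∈ w.W (i + 1), ∀ g' ∈ w.W (i + 3), ⁅g, g'⁆ ∈ w.C (i + 2) := fun g hg g' hg' =>
        (w.comm_mem_C_left (i := i + 1) (by omega) (by omega) hg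
          (by rwa [show i + 1 + A.crit = i + 3 by omega])).1
      rintro g ((hg | hg) | hg) g' ((hg' | hg') | hg')
      · exact hcomm (by omega) (by omega) (by omega) (by omega) g hg g' hg'
      · exact hcomm (by omega) (by omega) (by omega) (by omega) g hg g' hg'
      · exact h13 g hg g' hg'
      · exact hcomm (by omega) (by omega) (by omega) (by omega) g hg g' hg'
      · exact hcomm (by omega) (by omega) (by omega) (by omega) g hg g' hg'
      · exact hcomm (by omega) (by omega) (by omega) (by omega) g hg g' hg'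
      · exact comm_symm_mem (h13 g' hg' g hg)
      · exact hcomm (by omega) (by omega) (by omega) (by omega) g hg g' hg'
      · exact hcomm (by omega) (by omega) (by omega) (by omega) g hg g' hg'
    have hHH : ∀ h ∈ H3, ∀ h' ∈ H3, ⁅h, h'⁆ ∈ w.C (i + 2) := by
      intro h hh h' hh'
      have h1 : H3 ≤ comSub (w.G (i + 2)) (w.C (i + 2)) (H3 : Set Γ) hn := by
        conv_lhs => rw [hH3]
        rw [closure_le]
        intro x hx
        refine ⟨hH3G (subset_closure hx), fun z hz => ?_⟩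
        have h2' : H3 ≤ comSub (w.G (i + 2)) (w.C (i + 2)) {x} hn := by
          conv_lhs => rw [hH3]
          rw [closure_le]
          intro z hz
          refine ⟨hH3G (subset_closure hz), ?_⟩
          rintro _ rfl
          exact hgen z hz _ hx
        exact comm_symm_mem ((h2' hz).2 x rfl)
      exact (h1 hh).2 h' hh'
    refine commutator_le.2 fun a ha b hb => ?_
    obtain ⟨h, hh, d, hd, rfl⟩ := hsupQ a ha
    obtain ⟨h', hh', d', hd', rfl⟩ := hsupQ b hb
    have hdd : ⁅d, d'⁆ ∈ D := Subgroup.commutator_le_self D (commutator_mem_commutator hd hd')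
    have e : ⁅h * d, h' * d'⁆ = ⁅d, d'⁆ * ⁅h, h'⁆ := by
      have c1 : h' * ⁅d, d'⁆ * h'⁻¹ = ⁅d, d'⁆ := by rw [hHD h' (hH3H hh') _ hdd, mul_inv_cancel_right]
      have c2 : h * ⁅d, d'⁆ * h⁻¹ = ⁅d, d'⁆ := by rw [hHD h (hH3H hh) _ hdd, mul_inv_cancel_right]
      have e1 : ⁅d, h' * d'⁆ = ⁅d, d'⁆ := by
        rw [show ⁅d, h' * d'⁆ = ⁅d, h'⁆ * (h' * ⁅d, d'⁆ * h'⁻¹) by simp only [commutatorElement_def]; group,
          commutatorElement_eq_one_iff_mul_comm.2 (hHD h' (hH3H hh') d hd).symm, one_mul, c1]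
      rw [show ⁅h * d, h' * d'⁆ = h * ⁅d, h' * d'⁆ * h⁻¹ * ⁅h, h' * d'⁆ by
        simp only [commutatorElement_def]; group, e1, c2,
        comm_mul_right_of_commute (hHD h (hH3H hh) d' hd')]
    rw [e]
    exact mul_mem (mem_sup_right hdd) (mem_sup_left (hHH h hh h' hh'))
  · have hle : S ≤ H ⊔ D := fun s hs => by
      obtain ⟨h, hh, d, hd, rfl⟩ := hsup s hs
      exact Subgroup.mul_mem_sup hh hd
    rcases hT with ⟨h3, -⟩ | ⟨-, hT⟩ | hT | ⟨h3, -⟩
    · exact absurd hp h3
    · have hX : (w.Q (i + 2)).lowerCentralSeries 3 ≤ D :=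
        ((lcs_mono hQS 3).trans hlcs3).trans (D.lowerCentralSeries_antitone (Nat.zero_le 3))
      exact (le_inf (hT.trans (hlcs3.trans (lcs_mono hDQ 3))) hTZ).trans
        (hkill _ ((w.Q (i + 2)).lowerCentralSeries_antitone (Nat.zero_le 3))
          (normalizer_lcs (w.facts (i + 2)).G_norm_Q 3) (hX.trans le_sup_right))
    · have hYabel : ∀ u ∈ Y, ∀ v ∈ Y, u * v = v * u := by
        intro u hu v hv
        have hc : Y ≤ centralizer {v} := sup_le
          (fun k hk => mem_centralizer_singleton_iff.2 (hKS hk v (hYS hv)).symm)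
          ((closure_le _).2 fun x hx => mem_centralizer_singleton_iff.2 (hXX x hx v hv))
        exact mem_centralizer_singleton_iff.1 (hc hu)
      have hphiH : PushingUpCL.phi p H ≤ Y := by
        refine sup_le (commutator_le.2 hHY) ((closure_le _).2 ?_)
        rintro _ ⟨x, hx, rfl⟩
        have : (Y.subgroupOf H).Normal := normal_subgroupOf_of_le_normalizer hYn
        set π := QuotientGroup.mk' (Y.subgroupOf H) with hπ
        have hcom : ∀ a b : ↥H, Commute (π a) (π b) := fun a b => by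
          refine commutatorElement_eq_one_iff_mul_comm.1 ?_
          rw [← map_commutatorElement, QuotientGroup.mk'_apply, QuotientGroup.eq_one_iff, mem_subgroupOf,
            ← Subgroup.coe_subtype, map_commutatorElement]
          exact hHY _ a.2 _ b.2
        let K3 : Subgroup ↥H :=
          { carrier := {a | π a ^ p = 1}
            one_mem' := by simp
            mul_mem' := fun {a b} ha hb => by
              show π (a * b) ^ p = 1
              rw [map_mul, (hcom a b).mul_pow, ha, hb, one_mul]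
            inv_mem' := fun {a} ha => by show π a⁻¹ ^ p = 1; rw [map_inv, inv_pow, ha, inv_one] }
        have htop : closure ((↑) ⁻¹' Gen : Set ↥H) ≤ K3 := (closure_le _).2 fun g hg => by
          show π g ^ p = 1
          rw [← map_pow, show g ^ p = (1 : ↥H) from Subtype.ext (by
            obtain ((hg | hg) | hg) | hg := hg
            all_goals simpa using (w.facts _).W_pow _ hg), map_one]
        have h1 : π ⟨x, hx⟩ ^ p = 1 := htop ((closure_closure_coe_preimage (k := Gen)).ge (mem_top (⟨x, hx⟩ : ↥H)))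
        rw [← map_pow, QuotientGroup.mk'_apply, QuotientGroup.eq_one_iff, mem_subgroupOf] at h1
        simpa using h1
      have hphiY : PushingUpCL.phi p Y = ⊥ := by
        rw [eq_bot_iff]
        refine sup_le (commutator_le.2 fun u hu v hv => ?_) ((closure_le _).2 ?_)
        · exact mem_bot.2 (commutatorElement_eq_one_iff_mul_comm.2 (hYabel u hu v hv))
        · rintro _ ⟨y, hy, rfl⟩
          exact mem_bot.2 (by show y ^ p = 1; rw [hp]; exact hY3 y hy)
      have hkey : PushingUpCL.phi p (PushingUpCL.phi p S) ≤ PushingUpCL.phi p (PushingUpCL.phi p D) := by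
        refine (phi_mono ((phi_mono hle).trans (phi_sup_le hHD))).trans ?_
        refine (phi_sup_le fun a ha b hb => hHD a ((phi_le H) ha) b ((phi_le D) hb)).trans (sup_le ?_ le_rfl)
        exact ((phi_mono hphiH).trans hphiY.le).trans bot_le
      have hX : PushingUpCL.phi p (PushingUpCL.phi p (w.Q (i + 2))) ≤ D :=
        ((phi_mono (phi_mono hQS)).trans hkey).trans ((phi_le _).trans (phi_le _))
      exact (le_inf (hT.trans (hkey.trans (phi_mono (phi_mono hDQ)))) hTZ).trans
        (hkill _ ((phi_le _).trans (phi_le _))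
          (normalizer_phi (normalizer_phi (w.facts (i + 2)).G_norm_Q)) (hX.trans le_sup_right))
    · omega

end Win


/-- A selected member at the middle of a path: there `p = 3`, and the derived subgroup of `O_p` and the
characteristic subgroups in question meet `Z` inside `C`. -/
theorem Fam.exists_middle [Fact p.Prime] (A : Fam Γ p) (h : A.Critical) :
    ∃ i, A.sel i ∧ p = 3 ∧ ⁅A.Q i, A.Q i⁆ ⊓ A.Z ≤ A.C i ∧
      ∀ T ≤ A.Z, InFun p A.S T → T ≤ A.C i := by
  have h2 := A.crit_eq_two h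
  obtain ⟨w, hw⟩ := A.exists_win h 7
  have hL : 1 + 4 ≤ w.L := by omega
  obtain ⟨H, _, _, f, S', M', Q', W', Z', C', hf, hF, e0, eS, eM, eQ, eW, eZ, eC⟩ := A.model (w.b 3).2
  set c := (MulAut.conj (w.b 3).1).toMonoidHom with hc
  have hinj : Function.Injective c := (MulAut.conj (w.b 3).1).injective
  have tr : ∀ {X : Subgroup H} {Y : Subgroup Γ}, X.map f = Y → X.map (c.comp f) = cj (w.b 3).1 Y :=
    fun hX => by rw [← Subgroup.map_map, hX]
  obtain ⟨g, hg⟩ := w.mid (i := 1) h2 le_rfl hL (by omega) hF (c.comp f) (hinj.comp hf)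
    (tr e0) (tr eS) (tr eM) (tr eQ) (tr eW) (tr eZ) (tr eC)
  have h5 : p < 5 := hg.lt_five (PushAmalgam.MidSL2.centW hg)
  have hp2 : p ≠ 2 := A.not_two h h2
  have hp : p = 3 := by
    have := (Fact.out : p.Prime)
    have h4 : p ≠ 4 := fun e => (by norm_num : ¬ Nat.Prime 4) (e ▸ this)
    have := this.two_le
    omega
  obtain ⟨h1, hT⟩ := Win.three_tame (w := w) (i := 1) h2 hL hp le_rfl
  refine ⟨(w.b 3).2, w.sel 3 (by omega), hp, ?_, fun T hTZ hTf => ?_⟩
  · have h1' : ⁅(A.Q (w.b 3).2).map c, (A.Q (w.b 3).2).map c⁆ ⊓ A.Z.map c ≤ (A.C (w.b 3).2).map c := h1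
    rw [← map_commutator, ← Subgroup.map_inf _ _ c hinj] at h1'
    exact (map_le_map_iff_of_injective hinj).1 h1'
  · refine (map_le_map_iff_of_injective hinj).1 (hT (T.map c) (map_mono hTZ) ?_)
    rcases hTf with ⟨h3, -⟩ | ⟨-, hl⟩ | hl | ⟨h3, -⟩
    · exact absurd hp h3
    · exact Or.inr (Or.inl ⟨hp, (map_mono hl).trans_eq (map_lowerCentralSeries _ _ _)⟩)
    · exact Or.inr (Or.inr (Or.inl ((map_mono hl).trans_eq (by rw [PushingUpCL.phi_map, PushingUpCL.phi_map]))))
    · omega

end Cfsg.Agent.PushFamily
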