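import Mathlib
import Cfsg.Agent.Lib.QDFusion
import Cfsg.Agent.Lib.QDWreathQDSub

/-!
Normal subgroups of index two in a group with quasi-dihedral Sylow 2-subgroup.
-/

set_option autoImplicit false
set_option linter.unusedSectionVars false

namespace Cfsg.Agent.QDFusionSub

open Cfsg.Agent.QDWreathBase Cfsg.Agent.QDWreathQD Cfsg.Agent.QDWreathQDSub Cfsg.Agent.QDFusion
  Cfsg.Agent.TwoFusionTools

variable {G : Type*} [Group G] [Finite G] {l : ℕ} [NeZero l] (S : Sylow 2 G)
  (E : QD l ≃* (S : Subgroup G))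

theorem mem_MQ {a : QD l} : a ∈ MQ l ↔
    (a.e = false ∧ ∃ t, a.i = 2 * t) ∨ (a.e = true ∧ ∃ t, a.i = 2 * t + 1) := by
  rw [MQ, mem_maxSub, one_mul, one_mul]
  obtain ⟨i, e⟩ := a
  obtain ⟨t, rfl | rfl⟩ := even_or_odd i <;> cases e <;> simp [flag, par_even, par_odd]
  · exact fun x hx => by
      have := congrArg par hx
      rw [par_even, par_odd] at this
      exact zero_ne_one this
  · exact fun x hx => by
      have := congrArg par hx
      rw [par_even, par_odd] at this
      exact zero_ne_one this.symm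
  · decide

/-- Transfer when the involution outside the quaternion maximal subgroup is not fused to the centre. -/
theorem exists_index_two_t (h : ¬ IsConj (emb S E (C l)) (emb S E ⟨2 * 0, true⟩)) :
    ∃ M : Subgroup G, M.Normal ∧ M.index = 2 ∧ emb S E ⟨2 * 0, true⟩ ∉ M := by
  refine exists_index_two S ((MQ l).map E.toMonoidHom) ?_ (emb_mem S E _) ?_ ?_ ?_
  · rw [Subgroup.index_map_of_bijective (f := E.toMonoidHom) E.bijective]
    exact maxSub_index (Or.inl one_ne_zero)
  · rintro ⟨a, ha, h'⟩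
    obtain rfl : a = ⟨2 * 0, true⟩ := E.injective (Subtype.ext (congrArg Subtype.val h'))
    rcases mem_MQ.1 ha with ⟨h1, -⟩ | ⟨-, t, ht⟩
    · exact Bool.noConfusion h1
    · have := congrArg par ht
      rw [par_even, par_odd] at this
      exact zero_ne_one this
  · intro g k hk hmem
    obtain ⟨j, rfl⟩ := hk
    have h1 : (⟨g⁻¹ * emb S E ⟨2 * 0, true⟩ ^ (2 * j) * g, hmem⟩ : (S : Subgroup G)) = 1 := by
      apply Subtype.ext
      simp only [pow_mul, ← map_pow, sq_true_even, one_pow, map_one, mul_one, inv_mul_cancel,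
        OneMemClass.coe_one]
    rw [h1]; exact one_mem _
  · rintro g hmem ⟨a, ha, h'⟩
    have h1 : emb S E a = g⁻¹ * emb S E ⟨2 * 0, true⟩ * g := congrArg Subtype.val h'
    have hconj : IsConj (emb S E a) (emb S E ⟨2 * 0, true⟩) := isConj_iff.2 ⟨g, by rw [h1]; group⟩
    have ho : orderOf (emb S E a) = 2 := by
      rw [← order_even (l := l) 0, ← orderOf_injective _ (emb_injective S E) ⟨2 * 0, true⟩, h1,
        show g⁻¹ * emb S E ⟨2 * 0, true⟩ * g = MulAut.conj g⁻¹ (emb S E ⟨2 * 0, true⟩) by simp]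
      exact MulEquiv.orderOf_eq _ _
    rcases inv_cases S E (emb_mem S E a) ho with h2 | ⟨t, h2⟩
    · exact h (h2 ▸ hconj)
    · rw [emb_injective S E h2] at ha
      rcases mem_MQ.1 ha with ⟨h3, -⟩ | ⟨-, u, hu⟩
      · exact Bool.noConfusion h3
      · have := congrArg par hu
        rw [par_even, par_odd] at this
        exact zero_ne_one this

/-- Transfer when the element of order four outside the dihedral maximal subgroup is not fused. -/
theorem exists_index_two_b (h : ¬ IsConj (emb S E (I l)) (emb S E ⟨2 * 0 + 1, true⟩)) :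
    ∃ M : Subgroup G, M.Normal ∧ M.index = 2 ∧ emb S E ⟨2 * 0 + 1, true⟩ ∉ M := by
  refine exists_index_two S ((MD l).map E.toMonoidHom) ?_ (emb_mem S E _) ?_ ?_ ?_
  · rw [Subgroup.index_map_of_bijective (f := E.toMonoidHom) E.bijective]
    exact maxSub_index (Or.inl one_ne_zero)
  · rintro ⟨a, ha, h'⟩
    obtain rfl : a = ⟨2 * 0 + 1, true⟩ := E.injective (Subtype.ext (congrArg Subtype.val h'))
    obtain ⟨t, ht⟩ := mem_MD.1 ha
    have := congrArg par ht
    rw [par_even, par_odd] at this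
    exact one_ne_zero this
  · intro g k hk hmem
    obtain ⟨j, rfl⟩ := hk
    have h2 : emb S E ⟨2 * 0 + 1, true⟩ ^ (2 * j) = emb S E (C l ^ j) := by
      rw [← map_pow, pow_mul, sq_true_odd]
    obtain ⟨a, ha⟩ := exists_emb S E hmem
    refine ⟨a, ?_, Subtype.ext ha⟩
    have hsq : a ^ 2 = 1 := by
      apply emb_injective S E
      rw [map_pow, ha, map_one, show (g⁻¹ * emb S E ⟨2 * 0 + 1, true⟩ ^ (2 * j) * g) ^ 2 =
        g⁻¹ * (emb S E ⟨2 * 0 + 1, true⟩ ^ (2 * j)) ^ 2 * g by rw [sq, sq]; group, h2, ← map_pow,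
        ← pow_mul, mul_comm j 2, pow_mul, C_sq, one_pow, map_one, mul_one, inv_mul_cancel]
    rw [SetLike.mem_coe, mem_MD]
    rcases sq_one_iff.1 hsq with rfl | rfl | ⟨t, rfl⟩
    · exact ⟨0, by simp [one_def]⟩
    · exact ⟨2 * (l : ZMod (8 * l)), by simp only [C]; ring⟩
    · exact ⟨t, rfl⟩
  · rintro g hmem ⟨a, ha, h'⟩
    have h1 : emb S E a = g⁻¹ * emb S E ⟨2 * 0 + 1, true⟩ * g := congrArg Subtype.val h'
    have hconj : IsConj (emb S E a) (emb S E ⟨2 * 0 + 1, true⟩) := isConj_iff.2 ⟨g, by rw [h1]; group⟩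
    have ho : orderOf a = 4 := by
      rw [← orderOf_injective _ (emb_injective S E) a, h1,
        show g⁻¹ * emb S E ⟨2 * 0 + 1, true⟩ * g = MulAut.conj g⁻¹ (emb S E ⟨2 * 0 + 1, true⟩) by simp,
        MulEquiv.orderOf_eq, orderOf_injective _ (emb_injective S E), order_odd]
    rcases four_cases' ho with rfl | rfl | ⟨t, rfl⟩
    · exact h hconj
    · exact h ((isConj_inv_I S E).symm.trans hconj)
    · obtain ⟨u, hu⟩ := mem_MD.1 ha
      have := congrArg par hu
      rw [par_even, par_odd] at this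
      exact one_ne_zero this

/-- The preimage of a subgroup in the model. -/
abbrev pre (M : Subgroup G) : Subgroup (QD l) := M.comap (emb S E)

theorem pre_index {M : Subgroup G} [M.Normal] (hM : M.index = 2) {a : QD l} (ha : a ∉ pre S E M) :
    (pre S E M).index = 2 := by
  rw [Subgroup.index_comap]
  have hr : (emb S E).range = (S : Subgroup G) := by
    ext y
    exact ⟨fun ⟨b, hb⟩ => hb ▸ emb_mem S E b, fun hy => exists_emb S E hy⟩
  rw [hr]
  exact relIndex_of_index_two S hM (emb_mem S E a) ha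

theorem mem_of_isConj {M : Subgroup G} [M.Normal] {y z : G} (hy : y ∈ M) (h : IsConj y z) : z ∈ M := by
  obtain ⟨g, rfl⟩ := isConj_iff.1 h
  exact Subgroup.Normal.conj_mem inferInstance y hy g

theorem I_mem_of_index_two {M : Subgroup G} [M.Normal] (hM : M.index = 2) : I l ∈ pre S E M := by
  rw [Subgroup.mem_comap, show I l = (⟨(l : ZMod (8 * l)), false⟩ : QD l) * ⟨(l : ZMod (8 * l)), false⟩ by
    rw [mk_mul_false, I]; congr 1; ring, map_mul]
  exact Subgroup.mul_self_mem_of_index_two hM _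

theorem pre_eq_MQ {M : Subgroup G} [M.Normal] (hM : M.index = 2)
    (h1 : emb S E ⟨2 * 0, true⟩ ∉ M)
    (hfus : IsConj (emb S E (I l)) (emb S E ⟨2 * 0 + 1, true⟩)) : pre S E M = MQ l := by
  have hodd : ∀ t, (⟨2 * t + 1, true⟩ : QD l) ∈ pre S E M := fun t =>
    mem_of_isConj (M := M) (y := emb S E (I l)) (I_mem_of_index_two S E hM) (hfus.trans (conj_odd S E 0 t))
  have hle : MQ l ≤ pre S E M := by
    rintro ⟨i, e⟩ ha
    rcases mem_MQ.1 ha with ⟨rfl, u, hu⟩ | ⟨rfl, u, hu⟩ <;> simp only at hu <;> subst hu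
    · have := mul_mem (hodd (u - 2 * (l : ZMod (8 * l)))) (hodd 0)
      convert this using 1
      rw [mk_mul_true, Bool.not_true]
      congr 1; unfold k; ring
    · exact hodd u
  by_contra hne
  exact (isCoatom_of_index_two (pre_index S E hM h1)).1
    ((isCoatom_of_index_two (maxSub_index (Or.inl one_ne_zero))).2 _ (lt_of_le_of_ne hle (Ne.symm hne)))

theorem pre_eq_MD {M : Subgroup G} [M.Normal] (hM : M.index = 2)
    (h1 : emb S E ⟨2 * 0 + 1, true⟩ ∉ M)
    (hfus : IsConj (emb S E (C l)) (emb S E ⟨2 * 0, true⟩)) : pre S E M = MD l := by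
  have hC : C l ∈ pre S E M := by
    rw [C_eq]; exact mul_mem (I_mem_of_index_two S E hM) (I_mem_of_index_two S E hM)
  have heven : ∀ t, (⟨2 * t, true⟩ : QD l) ∈ pre S E M := fun t =>
    mem_of_isConj (M := M) (y := emb S E (C l)) hC (hfus.trans (conj_even' S E 0 t))
  have hle : MD l ≤ pre S E M := by
    rintro ⟨i, e⟩ ha
    obtain ⟨u, hu⟩ := mem_MD.1 ha
    simp only at hu; subst hu
    cases e
    · have := mul_mem (heven u) (heven 0)
      convert this using 1
      rw [mk_mul_true, Bool.not_true]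
      congr 1; ring
    · exact heven u
  by_contra hne
  exact (isCoatom_of_index_two (pre_index S E hM h1)).1
    ((isCoatom_of_index_two (maxSub_index (Or.inl one_ne_zero))).2 _ (lt_of_le_of_ne hle (Ne.symm hne)))

/-- The Sylow subgroups of a normal subgroup with given preimage. -/
theorem sylow_model (M : Subgroup G) [M.Normal] (P : Sylow 2 M) :
    Nonempty ((P : Subgroup M) ≃* pre S E M) := by
  obtain ⟨e⟩ := sylow_equiv S M P
  refine ⟨e.trans ?_⟩
  refine MulEquiv.symm ?_
  exact
    { toFun := fun a => ⟨⟨emb S E a, a.2⟩, emb_mem S E a⟩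
      invFun := fun y => ⟨E.symm ⟨_, y.2⟩, by
        show emb S E (E.symm ⟨_, y.2⟩) ∈ M
        simp [emb]⟩
      left_inv := fun a => by apply Subtype.ext; exact E.symm_apply_apply a.1
      right_inv := fun y => by apply Subtype.ext; apply Subtype.ext; simp [emb]
      map_mul' := fun a b => by apply Subtype.ext; apply Subtype.ext; simp }

/-- Homs to groups of order two. -/
theorem hom_sq {M : Subgroup G} (φ : M →* Multiplicative (ZMod 2)) (y : M) : φ (y * y) = 1 := by
  rw [map_mul]
  generalize φ y = v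
  revert v
  decide

end Cfsg.Agent.QDFusionSub
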