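import Mathlib
import Cfsg.Prelude.Def_CaseTheorems
import Cfsg.Agent.Lib.QDWreathBase

/-!
Concrete model `WM l` of the wreathed 2-group `Z_{4l} ≀ Z_2` (`l` a power of two) and the
isomorphism with any group satisfying `Cfsg.IsWreathed`.
-/

set_option autoImplicit false

namespace Cfsg.Agent.QDWreathWr

open Cfsg.Agent.QDWreathBase

/-- `⟨a, b, e⟩` stands for `x ^ a * y ^ b * z ^ e`. -/
@[ext] structure WM (l : ℕ) : Type where
  a : ZMod (4 * l)
  b : ZMod (4 * l)
  e : Bool

variable {l : ℕ}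

instance wmMul : Mul (WM l) :=
  ⟨fun p q => ⟨p.a + (if p.e then q.b else q.a), p.b + (if p.e then q.a else q.b), xor p.e q.e⟩⟩

instance wmOne : One (WM l) := ⟨⟨0, 0, false⟩⟩

instance wmInv : Inv (WM l) :=
  ⟨fun p => ⟨if p.e then -p.b else -p.a, if p.e then -p.a else -p.b, p.e⟩⟩

theorem mul_def (p q : WM l) :
    p * q = ⟨p.a + (if p.e then q.b else q.a), p.b + (if p.e then q.a else q.b), xor p.e q.e⟩ := rfl

theorem one_def : (1 : WM l) = ⟨0, 0, false⟩ := rfl

theorem inv_def (p : WM l) :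
    p⁻¹ = ⟨if p.e then -p.b else -p.a, if p.e then -p.a else -p.b, p.e⟩ := rfl

instance wmGroup : Group (WM l) where
  mul_assoc p q r := by
    obtain ⟨a, b, e⟩ := p; obtain ⟨c, d, f⟩ := q; obtain ⟨i, j, g⟩ := r
    cases e <;> cases f <;> cases g <;> simp [mul_def, add_assoc]
  one_mul p := by simp [mul_def, one_def]
  mul_one p := by obtain ⟨a, b, e⟩ := p; cases e <;> simp [mul_def, one_def]
  inv_mul_cancel p := by obtain ⟨a, b, e⟩ := p; cases e <;> simp [mul_def, one_def, inv_def]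

@[simp] theorem mk_mul_false (a b c d : ZMod (4 * l)) (f : Bool) :
    (⟨a, b, false⟩ : WM l) * ⟨c, d, f⟩ = ⟨a + c, b + d, f⟩ := by simp [mul_def]

@[simp] theorem mk_mul_true (a b c d : ZMod (4 * l)) (f : Bool) :
    (⟨a, b, true⟩ : WM l) * ⟨c, d, f⟩ = ⟨a + d, b + c, !f⟩ := by simp [mul_def]

@[simp] theorem mk_inv_false (a b : ZMod (4 * l)) : (⟨a, b, false⟩ : WM l)⁻¹ = ⟨-a, -b, false⟩ := by
  simp [inv_def]

@[simp] theorem mk_inv_true (a b : ZMod (4 * l)) : (⟨a, b, true⟩ : WM l)⁻¹ = ⟨-b, -a, true⟩ := by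
  simp [inv_def]

/-- The equivalence with a product. -/
def equivProd : WM l ≃ ZMod (4 * l) × ZMod (4 * l) × Bool where
  toFun p := (p.a, p.b, p.e)
  invFun p := ⟨p.1, p.2.1, p.2.2⟩

instance wmFinite [NeZero l] : Finite (WM l) := Finite.of_equiv _ equivProd.symm

theorem card_eq : Nat.card (WM l) = 32 * l ^ 2 := by
  rw [Nat.card_congr equivProd, Nat.card_prod, Nat.card_prod, Nat.card_zmod,
    Nat.card_eq_two_iff.2 ⟨true, false, by simp, by ext b; cases b <;> simp⟩]
  ring

theorem pow_false (a b : ZMod (4 * l)) (m : ℕ) :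
    (⟨a, b, false⟩ : WM l) ^ m = ⟨(m : ZMod (4 * l)) * a, (m : ZMod (4 * l)) * b, false⟩ := by
  induction m with
  | zero => simp [one_def]
  | succ m ih => rw [pow_succ, ih, mk_mul_false]; congr 1 <;> push_cast <;> ring

theorem sq_true (a b : ZMod (4 * l)) : (⟨a, b, true⟩ : WM l) ^ 2 = ⟨a + b, a + b, false⟩ := by
  rw [sq, mk_mul_true, Bool.not_true, add_comm b a]

theorem four_l : (4 : ZMod (4 * l)) * (l : ZMod (4 * l)) = 0 := by
  have h : ((4 * l : ℕ) : ZMod (4 * l)) = 0 := ZMod.natCast_self _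
  push_cast at h
  exact h

/-- The element of order two of `ZMod (4 l)`. -/
def hh (l : ℕ) : ZMod (4 * l) := 2 * (l : ZMod (4 * l))

theorem hh_add_hh : hh l + hh l = 0 := by
  unfold hh; linear_combination four_l (l := l)

theorem neg_hh : -hh l = hh l := neg_eq_of_add_eq_zero_left hh_add_hh

set_option linter.unusedSectionVars false

variable [NeZero l]

theorem hh_ne : hh l ≠ 0 := by
  intro h
  unfold hh at h
  have h1 : ((2 * l : ℕ) : ZMod (4 * l)) = 0 := by push_cast; exact h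
  rw [ZMod.natCast_eq_zero_iff] at h1
  have := Nat.le_of_dvd (by have := NeZero.pos l; omega) h1
  have := NeZero.pos l
  omega

theorem two_mul_zero {j : ZMod (4 * l)} (h : j + j = 0) : j = 0 ∨ j = hh l := by
  rcases two_mul_eq_zero (m := 2 * l) (by ring) (show 2 * j = 0 by linear_combination h) with h | h
  · exact Or.inl h
  · right; rw [h, hh]; push_cast; ring

theorem exists_half : ∃ q : ZMod (4 * l), q + q = hh l :=
  ⟨(l : ZMod (4 * l)), by rw [hh]; ring⟩

/-- Square roots of the identity. -/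
theorem sq_one_iff' {p : WM l} : p ^ 2 = 1 ↔
    ((p.a = 0 ∨ p.a = hh l) ∧ (p.b = 0 ∨ p.b = hh l) ∧ p.e = false) ∨ ∃ u, p = ⟨u, -u, true⟩ := by
  obtain ⟨a, b, _ | _⟩ := p
  · rw [sq, mk_mul_false, one_def, WM.ext_iff]
    constructor
    · rintro ⟨h1, h2, -⟩
      exact Or.inl ⟨two_mul_zero h1, two_mul_zero h2, rfl⟩
    · rintro (⟨h1, h2, -⟩ | ⟨u, hu⟩)
      · refine ⟨?_, ?_, rfl⟩
        · rcases h1 with h | h <;> simp only at h <;> simp [h, hh_add_hh]
        · rcases h2 with h | h <;> simp only at h <;> simp [h, hh_add_hh]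
      · exact absurd (congrArg WM.e hu) (by simp)
  · rw [sq_true, one_def, WM.ext_iff]
    constructor
    · rintro ⟨h1, -, -⟩
      exact Or.inr ⟨a, WM.ext rfl (eq_neg_of_add_eq_zero_right h1) rfl⟩
    · rintro (⟨-, -, h⟩ | ⟨u, hu⟩)
      · exact absurd h (by simp)
      · obtain ⟨rfl, rfl⟩ : a = u ∧ b = -u := ⟨congrArg WM.a hu, congrArg WM.b hu⟩
        simp

/-- Conjugation by a diagonal-free element moves along the anti-diagonal. -/
theorem conj_false (j a b : ZMod (4 * l)) (e : Bool) :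
    (⟨j, 0, false⟩ : WM l) * ⟨a, b, e⟩ * (⟨j, 0, false⟩ : WM l)⁻¹
      = if e then ⟨a + j, b - j, true⟩ else ⟨a, b, false⟩ := by
  cases e <;> simp [mk_inv_false, sub_eq_add_neg, add_comm, add_left_comm]

/-- Every wreathed group is isomorphic to a model. -/
theorem exists_equiv {S : Type*} [Group S] [Finite S] (hS : Cfsg.IsWreathed S) :
    ∃ n : ℕ, 2 ≤ n ∧ Nat.card S = 2 ^ (2 * n + 1) ∧
      ∃ (l : ℕ) (_ : NeZero l), l = 2 ^ (n - 2) ∧ Nonempty (WM l ≃* S) := by
  obtain ⟨n, hn, hcard, x, y, z, hx, hxy, hdisj, hz, hzxy⟩ := hS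
  refine ⟨n, hn, hcard, 2 ^ (n - 2), ⟨by positivity⟩, rfl, ?_⟩
  have : NeZero (2 ^ (n - 2)) := ⟨by positivity⟩
  set l := 2 ^ (n - 2) with hl
  obtain ⟨m, rfl⟩ : ∃ m, n = m + 2 := ⟨n - 2, by omega⟩
  have hl' : l = 2 ^ m := by simp [hl]
  have hM : 2 ^ (m + 2) = 4 * l := by rw [hl', pow_add]; ring
  rw [hM] at hx
  have hxM : x ^ (4 * l) = 1 := hx ▸ pow_orderOf_eq_one x
  have hy : orderOf y = 4 * l := by
    rw [← hx, ← hzxy]
    exact orderOf_injective (MulAut.conj z).toMonoidHom (MulAut.conj z).injective x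
  have hyM : y ^ (4 * l) = 1 := hy ▸ pow_orderOf_eq_one y
  have hz2 : z * z = 1 := by rw [← sq, ← hz, pow_orderOf_eq_one]
  have hzinv : z⁻¹ = z := inv_eq_of_mul_eq_one_left hz2
  have hzyx : z * y * z⁻¹ = x := by
    rw [← hzxy, hzinv]
    calc z * (z * x * z) * z = (z * z) * x * (z * z) := by group
      _ = x := by rw [hz2, one_mul, mul_one]
  have hcomm : ∀ i j : ℕ, x ^ i * y ^ j = y ^ j * x ^ i := fun i j =>
    ((Commute.pow_pow (show Commute x y from hxy) i j)).eq
  let u : ZMod (4 * l) → ZMod (4 * l) → S := fun a b => x ^ a.val * y ^ b.val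
  have hu : ∀ a b c d, u (a + c) (b + d) = u a b * u c d := by
    intro a b c d
    simp only [u, pow_val_add hxM, pow_val_add hyM]
    calc x ^ a.val * x ^ c.val * (y ^ b.val * y ^ d.val)
        = x ^ a.val * (x ^ c.val * y ^ b.val) * y ^ d.val := by group
      _ = x ^ a.val * y ^ b.val * (x ^ c.val * y ^ d.val) := by rw [hcomm]; group
  have hzu : ∀ a b, z * u a b = u b a * z := by
    intro a b
    have h1 : z * u a b * z⁻¹ = (z * x * z⁻¹) ^ a.val * (z * y * z⁻¹) ^ b.val := by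
      simp only [u, conj_pow]; group
    rw [hzxy, hzyx, ← hcomm] at h1
    rw [show u b a = z * u a b * z⁻¹ from h1.symm, inv_mul_cancel_right]
  let f : WM l → S := fun p => u p.a p.b * (if p.e then z else 1)
  have hf : ∀ p q, f (p * q) = f p * f q := by
    rintro ⟨a, b, _ | _⟩ ⟨c, d, g⟩
    · simp only [f, mk_mul_false, hu, Bool.false_eq_true, if_false, mul_one, mul_assoc]
    · simp only [f, mk_mul_true, hu, if_true]
      cases g
      · simp only [Bool.not_false, if_true, Bool.false_eq_true, if_false, mul_one, mul_assoc, hzu]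
      · simp only [Bool.not_true, Bool.false_eq_true, if_false, if_true, mul_one]
        rw [mul_assoc (u a b) z, ← mul_assoc z, hzu, mul_assoc _ z z, hz2, mul_one]
  let φ : WM l →* S := MonoidHom.mk' f hf
  have huinj : ∀ a b, u a b = 1 → a = 0 ∧ b = 0 := by
    intro a b h
    have h1 : x ^ a.val = (y ^ b.val)⁻¹ := eq_inv_of_mul_eq_one_left h
    have h2 : x ^ a.val ∈ Subgroup.zpowers x ⊓ Subgroup.zpowers y :=
      ⟨Subgroup.pow_mem _ (Subgroup.mem_zpowers x) _,
        h1 ▸ Subgroup.inv_mem _ (Subgroup.pow_mem _ (Subgroup.mem_zpowers y) _)⟩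
    rw [hdisj, Subgroup.mem_bot] at h2
    have h3 : y ^ b.val = 1 := by rw [← inv_eq_one, ← h1, h2]
    constructor
    · refine (ZMod.val_eq_zero a).1 (Nat.eq_zero_of_dvd_of_lt ?_ (ZMod.val_lt a))
      have := orderOf_dvd_of_pow_eq_one h2
      rwa [hx] at this
    · refine (ZMod.val_eq_zero b).1 (Nat.eq_zero_of_dvd_of_lt ?_ (ZMod.val_lt b))
      have := orderOf_dvd_of_pow_eq_one h3
      rwa [hy] at this
  have hinj : Function.Injective φ := by
    rw [injective_iff_map_eq_one]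
    rintro ⟨a, b, _ | _⟩ h
    · obtain ⟨rfl, rfl⟩ := huinj a b (by simpa [φ, f] using h)
      rfl
    · exfalso
      have h1 : z = (u a b)⁻¹ := eq_inv_of_mul_eq_one_right (by simpa [φ, f] using h)
      have hc : Commute z x := by
        rw [h1]
        refine Commute.inv_left ?_
        exact ((Commute.refl x).pow_left _).mul_left ((show Commute y x from hxy.symm).pow_left _)
      rw [hc.eq, mul_inv_cancel_right] at hzxy
      have h2 : x ∈ Subgroup.zpowers x ⊓ Subgroup.zpowers y :=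
        ⟨Subgroup.mem_zpowers x, hzxy ▸ Subgroup.mem_zpowers x⟩
      rw [hdisj, Subgroup.mem_bot] at h2
      rw [h2, orderOf_one] at hx
      omega
  refine ⟨MulEquiv.ofBijective φ ((Nat.bijective_iff_injective_and_card φ).2 ⟨hinj, ?_⟩)⟩
  rw [card_eq, hcard, hl', ← pow_mul]
  ring

end Cfsg.Agent.QDWreathWr
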