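import Mathlib
import Cfsg.Agent.Lib.QDWreathQD
import Cfsg.Agent.Lib.QDWreathWr

/-!
Maps out of the quasi-dihedral and wreathed models, and recognition of groups isomorphic to them.
-/

set_option autoImplicit false
set_option linter.unusedSectionVars false

namespace Cfsg.Agent.QDWreathLift

open Cfsg.Agent.QDWreathBase

section QD

open Cfsg.Agent.QDWreathQD

variable {l : ℕ} [NeZero l] {S : Type*} [Group S]

/-- The hom from the quasi-dihedral model given by two elements. -/
noncomputable def qdLift (x y : S) (hx : x ^ (8 * l) = 1) (hy : y * y = 1)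
    (hrel : y * x * y⁻¹ = x ^ (4 * l - 1)) : QD l →* S :=
  MonoidHom.mk' (fun a => x ^ a.i.val * (if a.e then y else 1)) (by
    have hl := NeZero.pos l
    have hkcast : ((4 * l - 1 : ℕ) : ZMod (8 * l)) = k l := by
      rw [k, Nat.cast_sub (by omega)]; push_cast; rfl
    have hrel' : ∀ a : ZMod (8 * l), y * x ^ a.val = x ^ (k l * a).val * y := by
      intro a
      have h1 : (y * x * y⁻¹) ^ a.val = x ^ ((4 * l - 1) * a.val) := by rw [hrel, ← pow_mul]
      rw [conj_pow, ← pow_natCast hx ((4 * l - 1) * a.val), Nat.cast_mul, hkcast,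
        ZMod.natCast_zmod_val] at h1
      rw [← h1, inv_mul_cancel_right]
    rintro ⟨i, _ | _⟩ ⟨j, g⟩
    · simp [pow_val_add hx, mul_assoc]
    · simp only [mk_mul_true, pow_val_add hx]
      cases g
      · simp only [Bool.not_false, if_true, Bool.false_eq_true, if_false, mul_one, mul_assoc]
        rw [← hrel' j]
      · simp only [Bool.not_true, Bool.false_eq_true, if_false, if_true, mul_one]
        rw [mul_assoc (x ^ i.val) y, ← mul_assoc y, hrel' j, mul_assoc _ y y, hy, mul_one])

theorem qdLift_injective (x y : S) (hx : orderOf x = 8 * l) (hy : y * y = 1)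
    (hrel : y * x * y⁻¹ = x ^ (4 * l - 1)) :
    Function.Injective (qdLift x y (hx ▸ pow_orderOf_eq_one x) hy hrel) := by
  have hl := NeZero.pos l
  rw [injective_iff_map_eq_one]
  rintro ⟨i, _ | _⟩ h
  · have h' : x ^ i.val = 1 := by simpa [qdLift] using h
    have h2 := orderOf_dvd_of_pow_eq_one h'
    rw [hx] at h2
    rw [one_def]; congr 1
    exact (ZMod.val_eq_zero i).1 (Nat.eq_zero_of_dvd_of_lt h2 (ZMod.val_lt i))
  · exfalso
    have h' : x ^ i.val * y = 1 := by simpa [qdLift] using h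
    have h1 : y = (x ^ i.val)⁻¹ := eq_inv_of_mul_eq_one_right h'
    have h2 : Commute x y := by rw [h1]; exact ((Commute.refl x).pow_right _).inv_right
    rw [← h2.eq, mul_inv_cancel_right] at hrel
    have h4 : x ^ (4 * l - 1) = x ^ 1 := by rw [pow_one]; exact hrel.symm
    rw [pow_eq_pow_iff_modEq, hx, Nat.ModEq, Nat.mod_eq_of_lt (by omega), Nat.mod_eq_of_lt (by omega)] at h4
    omega

theorem isQuasiDihedral_of_mulEquiv {m : ℕ} (hm : l = 2 ^ m) (e : QD l ≃* S) :
    Cfsg.IsQuasiDihedral S := by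
  have hl := NeZero.pos l
  refine ⟨m + 3, by omega, ?_, e (X l), e (Y l), ?_, ?_, ?_⟩
  · rw [← Nat.card_congr e.toEquiv, card_eq, hm]; ring
  · rw [MulEquiv.orderOf_eq, show 2 ^ (m + 3) = 8 * l by rw [hm]; ring]
    rw [orderOf_eq_iff (by omega)]
    refine ⟨?_, fun j hj hj0 => ?_⟩
    · simp [X, pow_false, one_def]
    · intro h
      rw [X, pow_false, one_def, mul_one, QD.ext_iff] at h
      have := congrArg ZMod.val h.1
      rw [ZMod.val_natCast, Nat.mod_eq_of_lt hj, ZMod.val_zero] at this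
      omega
  · rw [MulEquiv.orderOf_eq]
    refine orderOf_eq_prime ?_ (fun h => by simp [Y, one_def] at h)
    rw [Y, sq_true, mul_zero]; rfl
  · rw [← map_inv, ← map_mul, ← map_mul, ← map_pow, show 2 ^ (m + 3 - 1) - 1 = 4 * l - 1 by
      rw [hm, show m + 3 - 1 = m + 2 by omega]; ring_nf]
    congr 1
    rw [X, Y, pow_false, Nat.cast_sub (by omega)]
    simp only [mk_inv_true, mk_mul_true, mk_mul_false, Bool.not_false, Bool.not_true]
    simp [k]

end QD

section WM

open Cfsg.Agent.QDWreathWr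

variable {l : ℕ} [NeZero l] {S : Type*} [Group S]

/-- The hom from the wreathed model given by three elements. -/
noncomputable def wmLift (x y z : S) (hx : x ^ (4 * l) = 1) (hxy : x * y = y * x) (hz : z * z = 1)
    (hzxy : z * x * z⁻¹ = y) : WM l →* S :=
  MonoidHom.mk' (fun p => x ^ p.a.val * y ^ p.b.val * (if p.e then z else 1)) (by
    have hzi : z⁻¹ = z := inv_eq_of_mul_eq_one_left hz
    have hyM : y ^ (4 * l) = 1 := by rw [← hzxy, conj_pow, hx]; group
    have hzyx : z * y * z⁻¹ = x := by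
      rw [← hzxy, hzi]
      calc z * (z * x * z) * z = (z * z) * x * (z * z) := by group
        _ = x := by rw [hz, one_mul, mul_one]
    have hc : ∀ i j : ℕ, x ^ i * y ^ j = y ^ j * x ^ i := fun i j =>
      ((Commute.pow_pow (show Commute x y from hxy) i j)).eq
    have hu : ∀ a b c d : ZMod (4 * l), x ^ (a + c).val * y ^ (b + d).val =
        x ^ a.val * y ^ b.val * (x ^ c.val * y ^ d.val) := by
      intro a b c d
      rw [pow_val_add hx, pow_val_add hyM]
      calc x ^ a.val * x ^ c.val * (y ^ b.val * y ^ d.val)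
          = x ^ a.val * (x ^ c.val * y ^ b.val) * y ^ d.val := by group
        _ = x ^ a.val * y ^ b.val * (x ^ c.val * y ^ d.val) := by rw [hc]; group
    have hzu : ∀ a b : ZMod (4 * l), z * (x ^ a.val * y ^ b.val) = x ^ b.val * y ^ a.val * z := by
      intro a b
      have h1 : z * (x ^ a.val * y ^ b.val) * z⁻¹ = (z * x * z⁻¹) ^ a.val * (z * y * z⁻¹) ^ b.val := by
        simp only [conj_pow]; group
      rw [hzxy, hzyx, ← hc] at h1
      rw [show x ^ b.val * y ^ a.val = z * (x ^ a.val * y ^ b.val) * z⁻¹ from h1.symm, inv_mul_cancel_right]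
    rintro ⟨a, b, _ | _⟩ ⟨c, d, g⟩
    · simp only [mk_mul_false, hu, Bool.false_eq_true, if_false, mul_one, mul_assoc]
    · simp only [mk_mul_true, hu, if_true]
      cases g
      · simp only [Bool.not_false, if_true, Bool.false_eq_true, if_false, mul_one, mul_assoc]
        rw [hzu c d, mul_assoc]
      · simp only [Bool.not_true, Bool.false_eq_true, if_false, if_true, mul_one]
        rw [mul_assoc (x ^ a.val * y ^ b.val) z, ← mul_assoc z, hzu, mul_assoc _ z z, hz, mul_one])

theorem wmLift_apply (x y z : S) (hx : x ^ (4 * l) = 1) (hxy : x * y = y * x) (hz : z * z = 1)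
    (hzxy : z * x * z⁻¹ = y) (p : WM l) :
    wmLift x y z hx hxy hz hzxy p = x ^ p.a.val * y ^ p.b.val * (if p.e then z else 1) := rfl

theorem isWreathed_of_mulEquiv {m : ℕ} (hm : l = 2 ^ m) (e : WM l ≃* S) : Cfsg.IsWreathed S := by
  have hl := NeZero.pos l
  refine ⟨m + 2, by omega, ?_, e ⟨1, 0, false⟩, e ⟨0, 1, false⟩, e ⟨0, 0, true⟩, ?_, ?_, ?_, ?_, ?_⟩
  · rw [← Nat.card_congr e.toEquiv, card_eq, hm, ← pow_mul]; ring
  · rw [MulEquiv.orderOf_eq, show 2 ^ (m + 2) = 4 * l by rw [hm]; ring]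
    rw [orderOf_eq_iff (by omega)]
    refine ⟨?_, fun j hj hj0 => ?_⟩
    · simp [pow_false, one_def]
    · intro h
      rw [pow_false, one_def, mul_one, WM.ext_iff] at h
      have := congrArg ZMod.val h.1
      rw [ZMod.val_natCast, Nat.mod_eq_of_lt hj, ZMod.val_zero] at this
      omega
  · rw [← map_mul, ← map_mul]; simp
  · rw [Subgroup.eq_bot_iff_forall]
    rintro s ⟨⟨i, hi⟩, ⟨j, hj⟩⟩
    have zp : ∀ (a b : ZMod (4 * l)) (n : ℤ), (⟨a, b, false⟩ : WM l) ^ n = ⟨(n : ZMod (4 * l)) * a, (n : ZMod (4 * l)) * b, false⟩ := by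
      intro a b n
      rcases Int.eq_nat_or_neg n with ⟨k, rfl | rfl⟩
      · rw [zpow_natCast, pow_false, Int.cast_natCast]
      · rw [zpow_neg, zpow_natCast, pow_false, mk_inv_false]
        congr 1 <;> push_cast <;> ring
    simp only [← map_zpow, zp, mul_one, mul_zero] at hi hj
    rw [← hj, EmbeddingLike.apply_eq_iff_eq, WM.ext_iff] at hi
    rw [← hj, show (j : ZMod (4 * l)) = 0 from hi.2.1.symm]
    exact map_one e
  · rw [MulEquiv.orderOf_eq]
    refine orderOf_eq_prime ?_ (fun h => by simp [one_def] at h)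
    rw [sq_true]; simp [one_def]
  · rw [← map_inv, ← map_mul, ← map_mul]; simp

end WM

end Cfsg.Agent.QDWreathLift
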