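import Mathlib

/-!
Indices of `H C(H)` in `N(H)` for a `2`-subgroup `H` of a `2`-group `S`.
-/

set_option autoImplicit false

namespace Cfsg.Agent.QDWreathLocal

variable {G : Type*} [Group G]

theorem normalizerMonoidHom_coe (H : Subgroup G) (x : Subgroup.normalizer (H : Set G)) (h : H) :
    ((H.normalizerMonoidHom x h : H) : G) = (x : G) * h * (x : G)⁻¹ := rfl

theorem sup_centralizer_subgroupOf (H : Subgroup G) :
    (H ⊔ Subgroup.centralizer (H : Set G)).subgroupOf (Subgroup.normalizer (H : Set G)) =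
      ((MulAut.conj : H →* MulAut H).range).comap H.normalizerMonoidHom := by
  apply le_antisymm
  · intro x hx
    have hle : H ⊔ Subgroup.centralizer (H : Set G) ≤
        (((MulAut.conj : H →* MulAut H).range).comap H.normalizerMonoidHom).map
          (Subgroup.normalizer (H : Set G)).subtype := by
      refine sup_le (fun h hh => ?_) (fun c hc => ?_)
      · refine ⟨⟨h, Subgroup.le_normalizer hh⟩, ⟨⟨h, hh⟩, ?_⟩, rfl⟩
        ext y
        rfl
      · refine ⟨⟨c, Subgroup.centralizer_le_normalizer _ hc⟩, ⟨1, ?_⟩, rfl⟩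
        ext y
        rw [normalizerMonoidHom_coe, map_one]
        show (y : G) = c * y * c⁻¹
        rw [← Subgroup.mem_centralizer_iff.1 hc _ y.2, mul_inv_cancel_right]
    obtain ⟨y, hy, hyx⟩ := hle (Subgroup.mem_subgroupOf.1 hx)
    obtain rfl : y = x := Subtype.ext hyx
    exact hy
  · rintro x ⟨h, hx⟩
    rw [Subgroup.mem_subgroupOf]
    have hc : (h : G)⁻¹ * (x : G) ∈ Subgroup.centralizer (H : Set G) := by
      rw [Subgroup.mem_centralizer_iff]
      intro y hy
      have h1 := congrArg Subtype.val (DFunLike.congr_fun hx ⟨y, hy⟩)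
      rw [normalizerMonoidHom_coe] at h1
      have h2 : (h : G) * y * (h : G)⁻¹ = x * y * (x : G)⁻¹ := h1
      have h3 : (x : G) * y = h * y * (h : G)⁻¹ * x := by rw [h2, inv_mul_cancel_right]
      symm
      rw [mul_assoc, h3]
      simp [mul_assoc]
    have := mul_mem (Subgroup.mem_sup_left h.2)
      (Subgroup.mem_sup_right (S := H) hc)
    simpa using this

/-- `|N(H) : H C(H)|` divides the number of outer automorphisms. -/
theorem relIndex_sup_dvd (H : Subgroup G) :
    (H ⊔ Subgroup.centralizer (H : Set G)).relIndex (Subgroup.normalizer (H : Set G)) ∣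
      (MulAut.conj : H →* MulAut H).range.index := by
  have hn : ((MulAut.conj : H →* MulAut H).range).Normal := by
    refine ⟨?_⟩
    rintro _ ⟨h, rfl⟩ φ
    exact ⟨φ h, by ext y; simp⟩
  rw [Subgroup.relIndex, sup_centralizer_subgroupOf, Subgroup.index_comap]
  exact Subgroup.relIndex_dvd_index_of_normal _ _

/-- A self-centralizing proper subgroup of a `2`-group gives an outer automorphism of order two. -/
theorem two_dvd_relIndex [Finite G] {H S : Subgroup G} (hS : IsPGroup 2 S) (hlt : H < S)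
    (hC : ∀ c ∈ S, c ∈ Subgroup.centralizer (H : Set G) → c ∈ H) :
    2 ∣ (H ⊔ Subgroup.centralizer (H : Set G)).relIndex (Subgroup.normalizer (H : Set G)) := by
  have : Group.IsNilpotent S := hS.isNilpotent
  have hlt' : H.subgroupOf S < ⊤ := by
    rw [lt_top_iff_ne_top]
    intro h
    exact hlt.not_ge (Subgroup.subgroupOf_eq_top.1 h)
  obtain ⟨s, hsN, hsH⟩ := SetLike.exists_of_lt
    (normalizerCondition_of_isNilpotent (G := S) _ hlt')
  have hsN' : (s : G) ∈ Subgroup.normalizer (H : Set G) := by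
    rw [Subgroup.mem_normalizer_iff]
    intro h
    rw [Subgroup.mem_normalizer_iff] at hsN
    constructor
    · intro hh
      exact (hsN ⟨h, hlt.le hh⟩).1 hh
    · intro hh
      have hS' : h ∈ S := by
        have := mul_mem (mul_mem (inv_mem s.2) (hlt.le hh)) s.2
        simpa [mul_assoc] using this
      exact (hsN ⟨h, hS'⟩).2 hh
  let N := Subgroup.normalizer (H : Set G)
  let K : Subgroup N := (H ⊔ Subgroup.centralizer (H : Set G)).subgroupOf N
  have hKn : K.Normal := by
    show ((H ⊔ Subgroup.centralizer (H : Set G)).subgroupOf N).Normal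
    rw [sup_centralizer_subgroupOf]
    have hn : ((MulAut.conj : H →* MulAut H).range).Normal := by
      refine ⟨?_⟩
      rintro _ ⟨h, rfl⟩ φ
      exact ⟨φ h, by ext y; simp⟩
    exact hn.comap _
  have hsK : (⟨s, hsN'⟩ : N) ∉ K := by
    intro h
    replace h : (⟨s, hsN'⟩ : N) ∈ (H ⊔ Subgroup.centralizer (H : Set G)).subgroupOf
        (Subgroup.normalizer (H : Set G)) := h
    rw [sup_centralizer_subgroupOf] at h
    obtain ⟨q, hq⟩ := h
    have hc : (q : G)⁻¹ * (s : G) ∈ Subgroup.centralizer (H : Set G) := by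
      rw [Subgroup.mem_centralizer_iff]
      intro y hy
      have h1 : (q : G) * y * (q : G)⁻¹ = s * y * (s : G)⁻¹ :=
        congrArg Subtype.val (DFunLike.congr_fun hq (⟨y, hy⟩ : H))
      have h3 : (s : G) * y = q * y * (q : G)⁻¹ * s := by rw [h1, inv_mul_cancel_right]
      symm
      rw [mul_assoc, h3]
      simp [mul_assoc]
    have := mul_mem q.2 (hC _ (mul_mem (inv_mem (hlt.le q.2)) s.2) hc)
    simp only [mul_inv_cancel_left] at this
    exact hsH (Subgroup.mem_subgroupOf.2 this)
  show 2 ∣ K.index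
  obtain ⟨k, hk⟩ := hS s
  let q : N ⧸ K := QuotientGroup.mk ⟨s, hsN'⟩
  have hq : q ≠ 1 := fun h => hsK ((QuotientGroup.eq_one_iff _).1 h)
  have hqk : q ^ 2 ^ k = 1 := by
    have : (⟨s, hsN'⟩ : N) ^ 2 ^ k = 1 := by
      ext
      rw [Subgroup.coe_pow]
      exact congrArg Subtype.val hk
    rw [← QuotientGroup.mk_pow, this, QuotientGroup.mk_one]
  obtain ⟨j, _, hj⟩ := (Nat.dvd_prime_pow Nat.prime_two).1 (orderOf_dvd_of_pow_eq_one hqk)
  refine dvd_trans ?_ (orderOf_dvd_natCard q)
  rw [hj]
  rcases j with _ | j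
  · exact absurd (orderOf_eq_one_iff.1 (by simpa using hj)) hq
  · exact dvd_pow_self 2 (Nat.succ_ne_zero j)

theorem two_or_six {m : ℕ} (h2 : 2 ∣ m) (h6 : m ∣ 6) : m = 2 ∨ m = 6 := by
  have := Nat.le_of_dvd (by norm_num) h6
  interval_cases m <;> simp_all

end Cfsg.Agent.QDWreathLocal
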