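import Mathlib
import Cfsg.Agent.Lib.QDWreathWr

/-!
Distinguished subgroups of the wreathed model `WM l`.
-/

set_option autoImplicit false
set_option linter.unusedSectionVars false

namespace Cfsg.Agent.QDWreathWrSub

open Cfsg.Agent.QDWreathBase Cfsg.Agent.QDWreathWr
open scoped commutatorElement

variable {l : ℕ} [NeZero l]

/-- The abelian maximal subgroup. -/
def AS (l : ℕ) : Subgroup (WM l) where
  carrier := {p | p.e = false}
  one_mem' := rfl
  mul_mem' {p q} hp hq := by
    simp only [Set.mem_ofPred_eq] at *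
    simp [mul_def, hp, hq]
  inv_mem' {p} hp := by
    simp only [Set.mem_ofPred_eq] at *
    simp [inv_def, hp]

theorem mem_AS {p : WM l} : p ∈ AS l ↔ p.e = false := Iff.rfl

/-- `AS` is homocyclic. -/
def asEquiv (l : ℕ) : AS l ≃* Multiplicative (ZMod (4 * l) × ZMod (4 * l)) where
  toFun p := Multiplicative.ofAdd ((p : WM l).a, (p : WM l).b)
  invFun v := ⟨⟨(Multiplicative.toAdd v).1, (Multiplicative.toAdd v).2, false⟩, rfl⟩
  left_inv := by rintro ⟨⟨a, b, e⟩, (rfl : e = false)⟩; rfl
  right_inv v := rfl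
  map_mul' := by
    rintro ⟨⟨a, b, e⟩, (rfl : e = false)⟩ ⟨⟨c, d, f⟩, (rfl : f = false)⟩
    simp [Subgroup.coe_mul, ← ofAdd_add]

theorem AS_comm {p q : WM l} (hp : p ∈ AS l) (hq : q ∈ AS l) : p * q = q * p := by
  obtain ⟨a, b, e⟩ := p; obtain ⟨c, d, f⟩ := q
  obtain rfl : e = false := hp
  obtain rfl : f = false := hq
  simp [add_comm]

theorem AS_card : Nat.card (AS l) = 16 * l ^ 2 := by
  rw [Nat.card_congr (asEquiv l).toEquiv, Nat.card_congr Multiplicative.toAdd, Nat.card_prod,
    Nat.card_zmod]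
  ring

/-- The diagonal. -/
def diagHom (l : ℕ) : Multiplicative (ZMod (4 * l)) →* WM l :=
  MonoidHom.mk' (fun v => ⟨Multiplicative.toAdd v, Multiplicative.toAdd v, false⟩) (by intros; simp)

/-- The antidiagonal. -/
def antiHom (l : ℕ) : Multiplicative (ZMod (4 * l)) →* WM l :=
  MonoidHom.mk' (fun v => ⟨Multiplicative.toAdd v, -Multiplicative.toAdd v, false⟩)
    (by intros; simp [add_comm])

theorem diagHom_injective : Function.Injective (diagHom l) := fun _ _ h =>
  congrArg WM.a h

theorem antiHom_injective : Function.Injective (antiHom l) := fun _ _ h =>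
  congrArg WM.a h

theorem mem_diag {p : WM l} : p ∈ (diagHom l).range ↔ ∃ a, p = ⟨a, a, false⟩ :=
  ⟨fun ⟨v, hv⟩ => ⟨Multiplicative.toAdd v, hv.symm⟩, fun ⟨a, ha⟩ => ⟨Multiplicative.ofAdd a, ha.symm⟩⟩

theorem mem_anti {p : WM l} : p ∈ (antiHom l).range ↔ ∃ a, p = ⟨a, -a, false⟩ :=
  ⟨fun ⟨v, hv⟩ => ⟨Multiplicative.toAdd v, hv.symm⟩, fun ⟨a, ha⟩ => ⟨Multiplicative.ofAdd a, ha.symm⟩⟩

theorem commute_true {p : WM l} {a b : ZMod (4 * l)}
    (h : p * ⟨a, b, true⟩ = (⟨a, b, true⟩ : WM l) * p) :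
    ∃ c, p = ⟨c, c, false⟩ ∨ p = ⟨a + c, b + c, true⟩ := by
  obtain ⟨c, d, _ | _⟩ := p
  · simp only [mk_mul_false, mk_mul_true, Bool.not_false, WM.ext_iff] at h
    refine ⟨c, Or.inl ?_⟩
    congr 1
    linear_combination -h.1
  · simp only [mk_mul_true, Bool.not_true, WM.ext_iff] at h
    refine ⟨c - a, Or.inr ?_⟩
    congr 1
    · ring
    · linear_combination -h.1

theorem center_eq : Subgroup.center (WM l) = (diagHom l).range := by
  ext p
  rw [Subgroup.mem_center_iff, mem_diag]
  constructor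
  · intro h
    obtain ⟨c, hc | hc⟩ := commute_true (h ⟨0, 0, true⟩).symm
    · exact ⟨c, hc⟩
    · exfalso
      have h1 := h ⟨1, 0, false⟩
      simp only [hc, mk_mul_false, mk_mul_true, WM.ext_iff] at h1
      have h2 : (1 : ZMod (4 * l)) = 0 := by linear_combination h1.1
      apply hh_ne (l := l)
      rw [← mul_one (hh l), h2, mul_zero]
  · rintro ⟨a, rfl⟩ ⟨c, d, f⟩
    cases f <;> simp [add_comm]

theorem commutator_eq : commutator (WM l) = (antiHom l).range := by
  apply le_antisymm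
  · rw [commutator_def, Subgroup.commutator_le]
    intro p _ q _
    obtain ⟨a, b, e⟩ := p; obtain ⟨c, d, f⟩ := q
    rw [mem_anti, commutatorElement_def]
    cases e <;> cases f <;> simp <;> ring
  · rintro _ ⟨v, rfl⟩
    have h := Subgroup.commutator_mem_commutator (H₁ := (⊤ : Subgroup (WM l))) (H₂ := ⊤)
      (g₁ := ⟨Multiplicative.toAdd v, 0, false⟩) (g₂ := ⟨0, 0, true⟩) trivial trivial
    rw [commutatorElement_def] at h
    rw [commutator_def]
    simpa [antiHom] using h

/-- The map to the dihedral quotient. -/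
def dihedralQuot (l : ℕ) : WM l →* DihedralGroup (4 * l) :=
  MonoidHom.mk' (fun p => if p.e then DihedralGroup.sr (p.b - p.a) else DihedralGroup.r (p.a - p.b))
    (by
      rintro ⟨a, b, e⟩ ⟨c, d, f⟩
      cases e <;> cases f <;> simp <;> ring)

theorem dihedralQuot_surjective : Function.Surjective (dihedralQuot l) := by
  rintro (i | i)
  · exact ⟨⟨i, 0, false⟩, by simp [dihedralQuot]⟩
  · exact ⟨⟨0, i, true⟩, by simp [dihedralQuot]⟩

theorem dihedralQuot_ker : (dihedralQuot l).ker = Subgroup.center (WM l) := by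
  ext ⟨a, b, e⟩
  rw [MonoidHom.mem_ker, center_eq, mem_diag]
  rw [DihedralGroup.one_def]
  cases e
  · simp only [dihedralQuot, MonoidHom.mk'_apply, Bool.false_eq_true, if_false, DihedralGroup.r.injEq,
      sub_eq_zero, WM.ext_iff, and_true]
    exact ⟨fun h => ⟨a, rfl, h.symm⟩, fun ⟨c, h1, h2⟩ => h1.trans h2.symm⟩
  · simp [dihedralQuot, -DihedralGroup.r_zero]

/-- Sum of coordinates. -/
def sigHom (l : ℕ) : WM l →* Multiplicative (ZMod (4 * l)) :=
  MonoidHom.mk' (fun p => Multiplicative.ofAdd (p.a + p.b)) (by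
    rintro ⟨a, b, e⟩ ⟨c, d, f⟩
    cases e <;> simp [← ofAdd_add] <;> ring)

/-- The subgroup generated by the involutions. -/
def IS (l : ℕ) : Subgroup (WM l) :=
  (Subgroup.zpowers (Multiplicative.ofAdd (hh l))).comap (sigHom l)

theorem orderOf_hh : orderOf (Multiplicative.ofAdd (hh l)) = 2 := by
  rw [orderOf_eq_prime_iff]
  refine ⟨?_, fun h => hh_ne (l := l) (Multiplicative.ofAdd.injective h)⟩
  rw [sq, ← ofAdd_add, hh_add_hh, ofAdd_zero]

theorem mem_IS {p : WM l} : p ∈ IS l ↔ p.a + p.b = 0 ∨ p.a + p.b = hh l := by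
  simp only [IS, Subgroup.mem_comap, sigHom, MonoidHom.mk'_apply]
  constructor
  · intro h
    obtain ⟨k, hk⟩ := Subgroup.mem_zpowers_iff.1 h
    rcases Int.even_or_odd k with ⟨j, rfl⟩ | ⟨j, rfl⟩
    · left
      rw [← two_mul, zpow_mul, zpow_ofNat,
        (orderOf_eq_prime_iff.1 (orderOf_hh (l := l))).1, one_zpow] at hk
      exact (congrArg Multiplicative.toAdd hk).symm
    · right
      rw [zpow_add, zpow_mul, zpow_ofNat, (orderOf_eq_prime_iff.1 (orderOf_hh (l := l))).1,
        one_zpow, one_mul, zpow_one] at hk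
      exact (congrArg Multiplicative.toAdd hk).symm
  · rintro (h | h) <;> rw [h]
    · rw [ofAdd_zero]; exact one_mem _
    · exact Subgroup.mem_zpowers _

theorem sigHom_surjective : Function.Surjective (sigHom l) := fun v =>
  ⟨⟨Multiplicative.toAdd v, 0, false⟩, by simp [sigHom]⟩

theorem IS_card : Nat.card (IS l) = 16 * l := by
  have h1 := (IS l).card_mul_index
  rw [IS, Subgroup.index_comap_of_surjective _ sigHom_surjective, card_eq] at h1
  have h2 := (Subgroup.zpowers (Multiplicative.ofAdd (hh l))).card_mul_index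
  rw [Nat.card_zpowers, orderOf_hh, Nat.card_congr Multiplicative.toAdd, Nat.card_zmod] at h2
  have h3 : (Subgroup.zpowers (Multiplicative.ofAdd (hh l))).index = 2 * l := by omega
  rw [h3] at h1
  have h4 : 32 * l ^ 2 = 16 * l * (2 * l) := by ring
  rw [h4] at h1
  exact Nat.eq_of_mul_eq_mul_right (by have := NeZero.pos l; omega) h1

/-- The quaternion subgroup of order `8 l`. -/
def YS (l : ℕ) : Subgroup (WM l) where
  carrier := {p | p.a + p.b = if p.e then hh l else 0}
  one_mem' := by simp [one_def]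
  mul_mem' {p q} hp hq := by
    obtain ⟨a, b, e⟩ := p; obtain ⟨c, d, f⟩ := q
    simp only [Set.mem_ofPred_eq] at *
    cases e <;> cases f <;> simp at hp hq ⊢
    · linear_combination hp + hq
    · linear_combination hp + hq
    · linear_combination hp + hq
    · linear_combination hp + hq + hh_add_hh (l := l)
  inv_mem' {p} hp := by
    obtain ⟨a, b, e⟩ := p
    simp only [Set.mem_ofPred_eq] at *
    cases e <;> simp at hp ⊢
    · linear_combination -hp
    · linear_combination -hp - hh_add_hh (l := l)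

theorem mem_YS {p : WM l} : p ∈ YS l ↔ p.a + p.b = if p.e then hh l else 0 := Iff.rfl

theorem castEq : 2 * (2 * l) = 4 * l := by ring

/-- The quaternion group inside the model. -/
noncomputable def quatHom (l : ℕ) [NeZero l] : QuaternionGroup (2 * l) →* WM l :=
  MonoidHom.mk' (fun
    | QuaternionGroup.a i => ⟨ZMod.ringEquivCongr (castEq (l := l)) i, -ZMod.ringEquivCongr (castEq (l := l)) i, false⟩
    | QuaternionGroup.xa i => ⟨hh l - ZMod.ringEquivCongr (castEq (l := l)) i, ZMod.ringEquivCongr (castEq (l := l)) i, true⟩) (by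
    have hn : (ZMod.ringEquivCongr (castEq (l := l))) ((2 * l : ℕ) : ZMod (2 * (2 * l))) = hh l := by
      rw [map_natCast, hh]; push_cast; rfl
    rintro (i | i) (j | j)
    all_goals simp only [QuaternionGroup.a_mul_a, QuaternionGroup.a_mul_xa, QuaternionGroup.xa_mul_a,
      QuaternionGroup.xa_mul_xa, mk_mul_false, mk_mul_true, Bool.not_true, Bool.not_false,
      map_add, map_sub, hn]
    all_goals congr 1
    all_goals first
      | linear_combination -hh_add_hh (l := l)
      | ring)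

theorem quatHom_injective : Function.Injective (quatHom l) := by
  rintro (i | i) (j | j) h <;> simp only [quatHom, MonoidHom.mk'_apply, WM.ext_iff] at h
  · rw [(RingEquiv.injective _) h.1]
  · exact absurd h.2.2 (by simp)
  · exact absurd h.2.2 (by simp)
  · rw [(RingEquiv.injective _) h.2.1]

theorem quatHom_range : (quatHom l).range = YS l := by
  ext ⟨a, b, e⟩
  rw [mem_YS]
  constructor
  · rintro ⟨i | i, hi⟩ <;> simp only [quatHom, MonoidHom.mk'_apply, WM.ext_iff] at hi <;>
      obtain ⟨h1, h2, h3⟩ := hi <;> subst h1 h2 h3 <;> simp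
  · intro h
    cases e
    · obtain ⟨i, hi⟩ := (ZMod.ringEquivCongr (castEq (l := l))).surjective a
      refine ⟨QuaternionGroup.a i, ?_⟩
      simp only [Bool.false_eq_true, if_false] at h
      simp only [quatHom, MonoidHom.mk'_apply, hi]
      congr 1
      linear_combination -h
    · obtain ⟨i, hi⟩ := (ZMod.ringEquivCongr (castEq (l := l))).surjective b
      refine ⟨QuaternionGroup.xa i, ?_⟩
      simp only [if_true] at h
      simp only [quatHom, MonoidHom.mk'_apply, hi]
      congr 1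
      linear_combination -h

theorem YS_card : Nat.card (YS l) = 8 * l := by
  have e := MonoidHom.ofInjective (quatHom_injective (l := l))
  rw [quatHom_range] at e
  rw [← Nat.card_congr e.toEquiv, Nat.card_eq_fintype_card, QuaternionGroup.card]
  ring

theorem quat_generators {p q : WM l} (hp : p.e = false) (hq : q.e = true) (hrel : q * p * q⁻¹ = p⁻¹)
    (hsq : q ^ 2 = p ^ (2 * l)) (hne : p ^ (2 * l) ≠ 1) : p ∈ YS l ∧ q ∈ YS l := by
  obtain ⟨c, d, e⟩ := p; obtain ⟨a, b, f⟩ := q
  simp only at hp hq; subst hp hq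
  simp only [mk_inv_true, mk_inv_false, mk_mul_true, Bool.not_false, Bool.not_true, WM.ext_iff] at hrel
  have hd : c + d = 0 := by linear_combination hrel.1
  rw [sq_true, pow_false, WM.ext_iff] at hsq
  rw [pow_false, one_def] at hne
  obtain ⟨t, rfl | rfl⟩ := even_or_odd c
  · exfalso
    refine hne ?_
    congr 1
    · push_cast; linear_combination t * four_l (l := l)
    · push_cast
      linear_combination (2 * (l : ZMod (4 * l))) * hd - t * four_l (l := l)
  · refine ⟨by rw [mem_YS]; simpa using hd, ?_⟩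
    rw [mem_YS]
    simp only [if_true]
    have h1 := hsq.1
    simp only at h1
    push_cast at h1
    rw [h1, hh]
    linear_combination t * four_l (l := l)

theorem quat_le_YS (f : QuaternionGroup (2 * l) →* WM l) (hf : Function.Injective f) :
    f.range ≤ YS l := by
  have key : ∀ (P R : QuaternionGroup (2 * l)), (f P).e = false → (f R).e = true →
      R * P * R⁻¹ = P⁻¹ → R ^ 2 = P ^ (2 * l) → P ^ (2 * l) ≠ 1 → f P ∈ YS l ∧ f R ∈ YS l := by
    intro P R h1 h2 h3 h4 h5
    refine quat_generators h1 h2 (by rw [← map_inv, ← map_inv, ← map_mul, ← map_mul, h3])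
      (by rw [← map_pow, ← map_pow, h4]) ?_
    rw [← map_pow]
    exact fun h => h5 (hf (by rw [h, map_one]))
  have hlpos := NeZero.pos l
  have hne1 : (QuaternionGroup.a 1 : QuaternionGroup (2 * l)) ^ (2 * l) ≠ 1 := fun h => by
    have := orderOf_dvd_of_pow_eq_one h
    rw [QuaternionGroup.orderOf_a_one] at this
    have := Nat.le_of_dvd (by omega) this
    omega
  have hgen : ∀ j, f (QuaternionGroup.a 1) ∈ YS l → f (QuaternionGroup.xa j) ∈ YS l → f.range ≤ YS l := by
    rintro j h1 h2 _ ⟨g, rfl⟩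
    have ha : ∀ i, f (QuaternionGroup.a i) ∈ YS l := by
      intro i
      rw [show (QuaternionGroup.a i : QuaternionGroup (2 * l)) = QuaternionGroup.a 1 ^ i.val by
        rw [QuaternionGroup.a_one_pow, ZMod.natCast_zmod_val], map_pow]
      exact pow_mem h1 _
    rcases g with i | i
    · exact ha i
    · rw [show (QuaternionGroup.xa i : QuaternionGroup (2 * l)) =
        QuaternionGroup.xa j * QuaternionGroup.a (i - j) by simp, map_mul]
      exact mul_mem h2 (ha _)
  have hinva : ∀ i : ZMod (2 * (2 * l)),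
      (QuaternionGroup.a i : QuaternionGroup (2 * l))⁻¹ = QuaternionGroup.a (-i) := fun _ => rfl
  have hrelx : (QuaternionGroup.xa 0 : QuaternionGroup (2 * l)) * QuaternionGroup.a 1 *
      (QuaternionGroup.xa 0)⁻¹ = (QuaternionGroup.a 1)⁻¹ := by
    rw [mul_inv_eq_iff_eq_mul, hinva]
    simp
  by_cases hP : (f (QuaternionGroup.a 1)).e = false
  · have hQ : (f (QuaternionGroup.xa 0)).e = true := by
      by_contra hQ
      rw [Bool.not_eq_true] at hQ
      have h1 := hf (by rw [map_mul, map_mul]; exact AS_comm hP hQ :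
        f (QuaternionGroup.a 1 * QuaternionGroup.xa 0) = f (QuaternionGroup.xa 0 * QuaternionGroup.a 1))
      simp only [QuaternionGroup.a_mul_xa, QuaternionGroup.xa_mul_a, QuaternionGroup.xa.injEq] at h1
      have h2 : ((2 : ℕ) : ZMod (2 * (2 * l))) = 0 := by push_cast; linear_combination -h1
      rw [ZMod.natCast_eq_zero_iff] at h2
      have := Nat.le_of_dvd (by omega) h2
      omega
    obtain ⟨h1, h2⟩ := key _ _ hP hQ hrelx
      (by rw [QuaternionGroup.xa_sq, QuaternionGroup.a_one_pow]) hne1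
    exact hgen 0 h1 h2
  · rw [Bool.not_eq_false] at hP
    have hl1 : l = 1 := by
      have hc : f (QuaternionGroup.a 1) ^ 2 ∈ Subgroup.center (WM l) := by
        rcases hfa : f (QuaternionGroup.a 1) with ⟨a, b, e⟩
        rw [hfa] at hP
        simp only at hP; subst hP
        rw [sq_true, center_eq]
        exact mem_diag.2 ⟨_, rfl⟩
      have h1 : (QuaternionGroup.xa 0 : QuaternionGroup (2 * l)) * QuaternionGroup.a 1 ^ 2 =
          QuaternionGroup.a 1 ^ 2 * QuaternionGroup.xa 0 := by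
        apply hf
        rw [map_mul, map_mul, map_pow]
        exact Subgroup.mem_center_iff.1 hc _
      rw [QuaternionGroup.a_one_pow] at h1
      simp only [QuaternionGroup.a_mul_xa, QuaternionGroup.xa_mul_a, QuaternionGroup.xa.injEq] at h1
      have h2 : ((4 : ℕ) : ZMod (2 * (2 * l))) = 0 := by push_cast at h1 ⊢; linear_combination h1
      rw [ZMod.natCast_eq_zero_iff] at h2
      have := Nat.le_of_dvd (by omega) h2
      omega
    subst hl1
    obtain ⟨j, hj⟩ : ∃ j, (f (QuaternionGroup.xa j)).e = false := by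
      by_cases h0 : (f (QuaternionGroup.xa 0)).e = false
      · exact ⟨0, h0⟩
      · refine ⟨1, ?_⟩
        rw [Bool.not_eq_false] at h0
        rw [show (QuaternionGroup.xa 1 : QuaternionGroup (2 * 1)) =
          QuaternionGroup.xa 0 * QuaternionGroup.a 1 by simp, map_mul, mul_def]
        simp [h0, hP]
    have e8 : ∀ j : ZMod (2 * (2 * 1)), (QuaternionGroup.a 1 : QuaternionGroup (2 * 1)) *
        QuaternionGroup.xa j * (QuaternionGroup.a 1)⁻¹ = (QuaternionGroup.xa j)⁻¹ ∧
        (QuaternionGroup.a 1 : QuaternionGroup (2 * 1)) ^ 2 = QuaternionGroup.xa j ^ (2 * 1) ∧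
        QuaternionGroup.xa j ^ (2 * 1) ≠ 1 := by decide
    obtain ⟨h1, h2⟩ := key _ _ hj hP (e8 j).1 (e8 j).2.1 (e8 j).2.2
    exact hgen j h2 h1

/-- Elements of the four-group through `⟨u, -u, true⟩`. -/
def fourSetW (u : ZMod (4 * l)) : Set (WM l) :=
  {⟨0, 0, false⟩, ⟨hh l, hh l, false⟩, ⟨u, -u, true⟩, ⟨u + hh l, -u + hh l, true⟩}

/-- The normal four-subgroup. -/
def TS (l : ℕ) [NeZero l] : Subgroup (WM l) where
  carrier := {p | p.e = false ∧ p ^ 2 = 1}
  one_mem' := ⟨rfl, one_pow 2⟩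
  mul_mem' {p q} hp hq := by
    have h : p * q = q * p := AS_comm (mem_AS.2 hp.1) (mem_AS.2 hq.1)
    exact ⟨mem_AS.1 (mul_mem (mem_AS.2 hp.1) (mem_AS.2 hq.1)), by rw [(show Commute p q from h).mul_pow, hp.2, hq.2, one_mul]⟩
  inv_mem' {p} hp := ⟨mem_AS.1 (inv_mem (mem_AS.2 hp.1)), by rw [inv_pow, hp.2, inv_one]⟩

theorem mem_TS {p : WM l} : p ∈ TS l ↔ p.e = false ∧ p ^ 2 = 1 := Iff.rfl

theorem TS_card : Nat.card (TS l) = 4 := by
  have : (TS l : Set (WM l)) = ({(0 : ZMod (4 * l)), hh l} ×ˢ ({0, hh l} : Set (ZMod (4 * l)))).image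
      (fun v => (⟨v.1, v.2, false⟩ : WM l)) := by
    ext ⟨a, b, e⟩
    simp only [SetLike.mem_coe, Set.mem_image, Set.mem_prod, Set.mem_insert_iff, Set.mem_singleton_iff]
    constructor
    · intro h'
      obtain ⟨(rfl : e = false), h⟩ := mem_TS.1 h' 
      rcases sq_one_iff'.1 h with ⟨h1, h2, -⟩ | ⟨u, hu⟩
      · exact ⟨(a, b), ⟨h1, h2⟩, rfl⟩
      · exact absurd (congrArg WM.e hu) (by simp)
    · rintro ⟨v, ⟨h1, h2⟩, hv⟩
      rw [← hv]
      exact mem_TS.2 ⟨rfl, sq_one_iff'.2 (Or.inl ⟨h1, h2, rfl⟩)⟩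
  rw [← SetLike.coe_sort_coe, Nat.card_coe_set_eq, this,
    Set.ncard_image_of_injective _ (fun v w h => Prod.ext (congrArg WM.a h) (congrArg WM.b h)),
    Set.ncard_prod, Set.ncard_pair hh_ne.symm]

theorem klein_shape {V : Subgroup (WM l)} (h4 : Nat.card V = 4) (h2 : ∀ p ∈ V, p ^ 2 = 1)
    (hne : V ≠ TS l) : ∃ u, (⟨u, -u, true⟩ : WM l) ∈ V ∧ (V : Set (WM l)) = fourSetW u := by
  obtain ⟨u, hu⟩ : ∃ u, (⟨u, -u, true⟩ : WM l) ∈ V := by
    by_contra hh'
    push Not at hh'
    refine hne (Subgroup.eq_of_le_of_card_ge ?_ (by rw [h4, TS_card]))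
    intro p hp
    refine mem_TS.2 ⟨?_, h2 p hp⟩
    rcases sq_one_iff'.1 (h2 p hp) with ⟨-, -, h⟩ | ⟨v, rfl⟩
    · exact h
    · exact absurd hp (hh' v)
  refine ⟨u, hu, Set.eq_of_subset_of_ncard_le ?_ ?_⟩
  · intro p hp
    have hc : p * ⟨u, -u, true⟩ = (⟨u, -u, true⟩ : WM l) * p := by
      have i1 : ∀ r ∈ V, r⁻¹ = r := fun r hr => inv_eq_of_mul_eq_one_left (by rw [← sq]; exact h2 r hr)
      conv_lhs => rw [← i1 _ (mul_mem hp hu)]
      rw [mul_inv_rev, i1 _ hp, i1 _ hu]
    obtain ⟨c, rfl | rfl⟩ := commute_true hc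
    · have h := h2 _ hp
      rw [sq, mk_mul_false, one_def, WM.ext_iff] at h
      rcases two_mul_zero h.1 with rfl | rfl <;> simp [fourSetW]
    · have h := h2 _ hp
      rw [sq_true, one_def, WM.ext_iff] at h
      rcases two_mul_zero (l := l) (j := c) (by linear_combination h.1) with rfl | rfl <;> simp [fourSetW]
  · classical
    rw [← Nat.card_coe_set_eq (V : Set (WM l)), SetLike.coe_sort_coe, h4]
    have h : fourSetW u = ↑({⟨0, 0, false⟩, ⟨hh l, hh l, false⟩, ⟨u, -u, true⟩,
        ⟨u + hh l, -u + hh l, true⟩} : Finset (WM l)) := by simp [fourSetW]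
    rw [h, Set.ncard_coe_finset]
    exact Finset.card_le_four

theorem fourSetW_conj {u v : ZMod (4 * l)} {p : WM l} (hp : p ∈ fourSetW u) :
    (⟨v - u, 0, false⟩ : WM l) * p * (⟨v - u, 0, false⟩ : WM l)⁻¹ ∈ fourSetW v := by
  rcases hp with rfl | rfl | rfl | rfl <;> rw [conj_false]
  · exact Or.inl rfl
  · exact Or.inr (Or.inl rfl)
  · refine Or.inr (Or.inr (Or.inl ?_))
    simp only [if_true]; congr 1 <;> ring
  · refine Or.inr (Or.inr (Or.inr ?_))
    simp only [if_true]; congr 1 <;> ring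

end Cfsg.Agent.QDWreathWrSub
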