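import Mathlib
import Cfsg.Agent.Lib.QDWreathWrSub

/-!
Self-centralizing subgroups of a wreathed 2-group with automorphisms of odd order.
-/

set_option autoImplicit false
set_option linter.unusedSectionVars false

namespace Cfsg.Agent.QDWreathWrAut

open Cfsg.Agent.QDWreathBase Cfsg.Agent.QDWreathWr Cfsg.Agent.QDWreathWrSub

variable {l : ℕ} [NeZero l]

theorem isNilpotent_two {m : ℕ} (hl : l = 2 ^ m) : IsNilpotent (2 : ZMod (4 * l)) := by
  refine ⟨m + 2, ?_⟩
  have h : ((2 ^ (m + 2) : ℕ) : ZMod (4 * l)) = 0 := by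
    rw [show 2 ^ (m + 2) = 4 * l by rw [hl, pow_add]; ring, ZMod.natCast_self]
  push_cast at h
  exact h

theorem one_ne_two_mul (x : ZMod (4 * l)) : (1 : ZMod (4 * l)) ≠ 2 * x := by
  intro h
  apply hh_ne (l := l)
  unfold hh
  linear_combination (2 * (l : ZMod (4 * l))) * h + x * four_l (l := l)

theorem isUnit_odd {m : ℕ} (hl : l = 2 ^ m) (x : ZMod (4 * l)) : IsUnit (2 * x + 1) :=
  ((Commute.all _ x).isNilpotent_mul_right (isNilpotent_two hl)).isUnit_add_one

theorem odd_pow_cancel {m : ℕ} (hl : l = 2 ^ m) {j d : ZMod (4 * l)} {k : ℕ} (hk : Odd k)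
    (h : j ^ k * d = d) : j * d = d := by
  obtain ⟨i, rfl⟩ := hk
  obtain ⟨t, rfl | rfl⟩ := even_or_odd j
  · have h1 : IsUnit (2 * (-(2 ^ (2 * i) * t ^ (2 * i + 1))) + 1 : ZMod (4 * l)) := isUnit_odd hl _
    have h2 : (2 * (-(2 ^ (2 * i) * t ^ (2 * i + 1))) + 1 : ZMod (4 * l)) * d = 0 := by
      rw [mul_pow, pow_succ (2 : ZMod (4 * l))] at h
      linear_combination -h
    rw [h1.mul_right_eq_zero] at h2
    rw [h2, mul_zero]
  · have hs : ∀ i : ℕ, ∃ s, (2 * t + 1) ^ i = 2 * s + 1 := by
      intro i
      induction i with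
      | zero => exact ⟨0, by simp⟩
      | succ i ih =>
        obtain ⟨s, hs⟩ := ih
        exact ⟨s * (2 * t + 1) + t, by rw [pow_succ, hs]; ring⟩
    have hsum : ∀ K : ℕ, ∃ s, ∑ r ∈ Finset.range K, (2 * t + 1) ^ r = (K : ZMod (4 * l)) + 2 * s := by
      intro K
      induction K with
      | zero => exact ⟨0, by simp⟩
      | succ K ih =>
        obtain ⟨s, hs'⟩ := ih
        obtain ⟨r, hr⟩ := hs K
        exact ⟨s + r, by rw [Finset.sum_range_succ, hs', hr]; push_cast; ring⟩
    obtain ⟨s, hs'⟩ := hsum (2 * i + 1)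
    have hgeo := geom_sum_mul (2 * t + 1) (2 * i + 1)
    rw [hs'] at hgeo
    push_cast at hgeo
    have h2 : (2 * ((i : ZMod (4 * l)) + s) + 1) * ((2 * t + 1) * d - d) = 0 := by
      linear_combination d * hgeo + h
    rw [(isUnit_odd hl _).mul_right_eq_zero, sub_eq_zero] at h2
    exact h2

theorem isPGroup_WM {m : ℕ} (hl : l = 2 ^ m) : IsPGroup 2 (WM l) := by
  refine IsPGroup.of_card (n := 2 * m + 5) ?_
  rw [card_eq, hl, ← pow_mul, pow_add]
  ring

/-- An automorphism of odd order cannot move an element by a fixed element of a 2-group. -/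
theorem fixed_of_stab {X : Type*} [Group X] (hX : IsPGroup 2 X) {σ : MulAut X} {k : ℕ} (hk : Odd k)
    (hσ : σ ^ k = 1) {x w : X} (hx : σ x = x * w) (hw : σ w = w) : w = 1 := by
  have hi : ∀ i : ℕ, (σ ^ i) x = x * w ^ i := by
    intro i
    induction i with
    | zero => simp
    | succ i ih => rw [pow_succ', MulAut.mul_apply, ih, map_mul, map_pow, hx, hw, mul_assoc, ← pow_succ']
  have h1 : w ^ k = 1 := by
    have := hi k
    rw [hσ, MulAut.one_apply] at this
    exact mul_eq_left.1 this.symm
  obtain ⟨e, he⟩ := hX w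
  have := Nat.dvd_gcd (orderOf_dvd_of_pow_eq_one h1) (orderOf_dvd_of_pow_eq_one he)
  rw [(Nat.Coprime.pow_right e (Nat.coprime_two_right.2 hk)).gcd_eq_one] at this
  exact orderOf_eq_one_iff.1 (Nat.dvd_one.1 this)

/-- The central element `⟨c, c⟩`. -/
abbrev zc (c : ZMod (4 * l)) : WM l := ⟨c, c, false⟩

theorem zc_mul_comm (c : ZMod (4 * l)) (p : WM l) : p * zc c = zc c * p := by
  obtain ⟨a, b, _ | _⟩ := p <;> simp [add_comm]

theorem sq_e (p : WM l) : (p * p).e = false := by simp [mul_def]

/-- The standard subgroup `Q Z`. -/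
def QZ (l : ℕ) [NeZero l] : Subgroup (WM l) where
  carrier := {p | p.a - p.b = 0 ∨ p.a - p.b = hh l}
  one_mem' := Or.inl (by simp [one_def])
  mul_mem' {p q} hp hq := by
    obtain ⟨a, b, e⟩ := p
    obtain ⟨c, d, f⟩ := q
    simp only [Set.mem_ofPred_eq, mul_def] at hp hq ⊢
    have h := hh_add_hh (l := l)
    cases e <;> simp only [Bool.false_eq_true, if_false, if_true] <;>
      rcases hp with hp | hp <;> rcases hq with hq | hq <;>
      first
        | (left; linear_combination hp + hq) | (left; linear_combination hp - hq)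
        | (right; linear_combination hp + hq) | (right; linear_combination hp - hq)
        | (left; linear_combination hp + hq + h) | (left; linear_combination hp - hq + h)
        | (right; linear_combination hp + hq - h) | (right; linear_combination hp - hq - h)
        | (left; linear_combination hp - hq) | (right; linear_combination hp - hq + h)
  inv_mem' {p} hp := by
    obtain ⟨a, b, e⟩ := p
    simp only [Set.mem_ofPred_eq, inv_def] at hp ⊢
    cases e <;> simp only [Bool.false_eq_true, if_false, if_true] <;> rcases hp with hp | hp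
    · left; linear_combination -hp
    · right; linear_combination -hp - hh_add_hh (l := l)
    · left; linear_combination hp
    · right; linear_combination hp

theorem mem_QZ {p : WM l} : p ∈ QZ l ↔ p.a - p.b = 0 ∨ p.a - p.b = hh l := Iff.rfl

theorem conj_shift (v a b : ZMod (4 * l)) (e : Bool) :
    (⟨v, 0, false⟩ : WM l)⁻¹ * ⟨a, b, e⟩ * ⟨v, 0, false⟩ =
      if e then ⟨a - v, b + v, true⟩ else ⟨a, b, false⟩ := by
  cases e <;> simp [mk_inv_false, sub_eq_add_neg, add_comm, add_left_comm]

section

variable {X : Subgroup (WM l)} {m : ℕ}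

theorem zc_mem (hC : Subgroup.centralizer (X : Set (WM l)) ≤ X) (c : ZMod (4 * l)) : zc c ∈ X :=
  hC (Subgroup.mem_centralizer_iff.2 fun p _ => zc_mul_comm c p)

/-- Once the centre and a generator of `X ∩ A` are fixed, everything is fixed. -/
theorem fixed_all (hl : l = 2 ^ m) (hC : Subgroup.centralizer (X : Set (WM l)) ≤ X)
    {σ : MulAut X} {k : ℕ} (hk : Odd k) (hσ : σ ^ k = 1) {u d : ZMod (4 * l)}
    (hg : (⟨u, 0, true⟩ : WM l) ∈ X) (hd : (⟨d, 0, false⟩ : WM l) ∈ X)
    (hgen : ∀ x, (⟨x, 0, false⟩ : WM l) ∈ X → ∃ j, x = j * d) {a : ZMod (4 * l)}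
    (hz : ((σ ⟨zc 1, zc_mem hC 1⟩ : X) : WM l) = zc a)
    (hd0 : (∀ c, σ ⟨zc c, zc_mem hC c⟩ = ⟨zc c, zc_mem hC c⟩) → σ ⟨_, hd⟩ = ⟨_, hd⟩) : σ = 1 := by
  have hXp : IsPGroup 2 X := (isPGroup_WM hl).to_subgroup _
  have hzc : ∀ c, ((σ ⟨zc c, zc_mem hC c⟩ : X) : WM l) = zc (c * a) := by
    intro c
    have h1 : (⟨zc c, zc_mem hC c⟩ : X) = ⟨zc 1, zc_mem hC 1⟩ ^ c.val := by
      ext1
      rw [Subgroup.coe_pow]
      simp only [zc, pow_false, ZMod.natCast_zmod_val, mul_one]
    rw [h1, map_pow, Subgroup.coe_pow, hz, pow_false, ZMod.natCast_zmod_val]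
  have hzfix : ∀ c, σ ⟨zc c, zc_mem hC c⟩ = ⟨zc c, zc_mem hC c⟩ := by
    have hi : ∀ i : ℕ, (((σ ^ i) ⟨zc 1, zc_mem hC 1⟩ : X) : WM l) = zc (a ^ i) := by
      intro i
      induction i with
      | zero => simp
      | succ i ih =>
        rw [pow_succ', MulAut.mul_apply, show (σ ^ i) ⟨zc 1, zc_mem hC 1⟩ = ⟨zc (a ^ i), zc_mem hC _⟩
          from Subtype.ext ih, hzc, pow_succ]
    have h1 := hi k
    rw [hσ, MulAut.one_apply] at h1
    have ha : a * 1 = 1 := odd_pow_cancel hl hk (by rw [mul_one]; exact (congrArg WM.a h1).symm)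
    rw [mul_one] at ha
    intro c
    apply Subtype.ext
    rw [hzc, ha, mul_one]
  have hd' := hd0 hzfix
  have hA : ∀ p : X, (p : WM l).e = false → σ p = p := by
    rintro ⟨⟨x, y, e⟩, hp⟩ he
    simp only at he
    subst he
    obtain ⟨j, hj⟩ := hgen (x - y) (by simpa [sub_eq_add_neg] using mul_mem hp (zc_mem hC (-y)))
    have h1 : (⟨⟨x, y, false⟩, hp⟩ : X) = ⟨_, hd⟩ ^ j.val * ⟨zc y, zc_mem hC y⟩ := by
      ext1
      rw [Subgroup.coe_mul, Subgroup.coe_pow]
      simp only [zc, pow_false, ZMod.natCast_zmod_val, mul_zero, mk_mul_false, ← hj, sub_add_cancel,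
        zero_add]
    rw [h1, map_mul, map_pow, hd', hzfix]
  apply MulEquiv.ext
  intro p
  rw [MulAut.one_apply]
  have hge : ((σ ⟨_, hg⟩ : X) : WM l).e = true := by
    by_contra h
    rw [Bool.not_eq_true] at h
    have := congrArg (fun q : X => (q : WM l).e) (σ.injective (hA _ h))
    simp only at this
    rw [h] at this
    exact Bool.noConfusion this
  have hgfix : σ ⟨_, hg⟩ = ⟨_, hg⟩ := by
    set w : X := ⟨_, hg⟩⁻¹ * σ ⟨_, hg⟩ with hwdef
    have hwe : (w : WM l).e = false := by
      rw [hwdef, Subgroup.coe_mul, mul_def]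
      simp [hge]
    have hw1 := fixed_of_stab hXp hk hσ (x := ⟨_, hg⟩) (w := w) (by rw [hwdef, mul_inv_cancel_left]) (hA w hwe)
    rw [hwdef, inv_mul_eq_one] at hw1
    exact hw1.symm
  by_cases he : (p : WM l).e = false
  · exact hA p he
  · have h1 := hA (p * ⟨_, hg⟩) (by
      rw [Bool.not_eq_false] at he
      rw [Subgroup.coe_mul, mul_def]; simp [he])
    rw [map_mul, hgfix] at h1
    exact mul_right_cancel h1

/-- The classification. -/
theorem classify (hl : l = 2 ^ m) (hC : Subgroup.centralizer (X : Set (WM l)) ≤ X) {σ : MulAut X}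
    {k : ℕ} (hk : Odd k) (hσ : σ ^ k = 1) (hne : σ ≠ 1) :
    X = AS l ∨ ∃ v : ZMod (4 * l),
      X = (QZ l).map (MulAut.conj (⟨v, 0, false⟩ : WM l)).toMonoidHom := by
  by_cases hall : ∀ p ∈ X, p.e = false
  · left
    refine le_antisymm (fun p hp => mem_AS.2 (hall p hp)) (fun p hp => hC ?_)
    exact Subgroup.mem_centralizer_iff.2 fun q hq => AS_comm (mem_AS.2 (hall q hq)) hp
  right
  push Not at hall
  obtain ⟨⟨a₀, b₀, e₀⟩, hp₀, he₀⟩ := hall
  have he₀' : e₀ = true := by simpa using he₀
  subst he₀'
  set u := a₀ - b₀ with hu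
  have hg : (⟨u, 0, true⟩ : WM l) ∈ X := by
    simpa [hu, sub_eq_add_neg] using mul_mem hp₀ (zc_mem hC (-b₀))
  have hXp : IsPGroup 2 X := (isPGroup_WM hl).to_subgroup _
  let D : AddSubgroup (ZMod (4 * l)) :=
    { carrier := {x | (⟨x, 0, false⟩ : WM l) ∈ X}
      zero_mem' := one_mem X
      add_mem' := fun {x y} hx hy => by simpa using mul_mem (s := X) hx hy
      neg_mem' := fun {x} hx => by
        have h' := inv_mem (show (⟨x, 0, false⟩ : WM l) ∈ X from hx)
        simpa using h' }
  obtain ⟨⟨d, hd⟩, hgen'⟩ := IsAddCyclic.exists_generator (α := D)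
  replace hd : (⟨d, 0, false⟩ : WM l) ∈ X := hd
  have hgen : ∀ x, (⟨x, 0, false⟩ : WM l) ∈ X → ∃ j, x = j * d := by
    intro x hx
    obtain ⟨j, hj⟩ := AddSubgroup.mem_zmultiples_iff.1 (hgen' ⟨x, hx⟩)
    refine ⟨(j : ZMod (4 * l)), ?_⟩
    have := congrArg Subtype.val hj
    simp only [AddSubgroup.coe_zsmul, zsmul_eq_mul] at this
    exact this.symm
  have hfalse : ∀ {x y : ZMod (4 * l)}, (⟨x, y, false⟩ : WM l) ∈ X → ∃ j, x - y = j * d :=
    fun {x y} h => hgen _ (by simpa [sub_eq_add_neg] using mul_mem h (zc_mem hC (-y)))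
  have htrue : ∀ {x y : ZMod (4 * l)}, (⟨x, y, true⟩ : WM l) ∈ X → ∃ j, x - y - u = j * d :=
    fun {x y} h => by
      obtain ⟨j, hj⟩ := hfalse (x := x - u) (y := y)
        (by simpa [sub_eq_add_neg] using mul_mem h (inv_mem hg))
      exact ⟨j, by linear_combination hj⟩
  by_cases hd0 : d = 0
  · exfalso
    apply hne
    subst hd0
    obtain ⟨t, hu2 | hu2⟩ := even_or_odd u
    · -- an involution in the outer coset
      have hg0 : (⟨t, -t, true⟩ : WM l) ∈ X := by
        have := mul_mem (zc_mem hC (-t)) hg
        simpa [zc, hu2, two_mul] using this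
      set z1 : X := ⟨zc 1, zc_mem hC 1⟩ with hz1
      set g0 : X := ⟨_, hg0⟩ with hg0'
      set h0 : X := ⟨zc (hh l), zc_mem hC _⟩ with hh0
      have hh0ne : h0 ≠ 1 := fun h => hh_ne (congrArg (fun q : X => (q : WM l).a) h)
      have hh0pow : h0 = (z1 * z1) ^ l := by
        ext1
        rw [Subgroup.coe_pow, Subgroup.coe_mul]
        simp only [hh0, hz1, zc, mk_mul_false, pow_false]
        congr 1 <;> rw [hh] <;> ring
      have hinv : ∀ p : X, p * p = 1 → (p : WM l).e = false → p = 1 ∨ p = h0 := by
        rintro ⟨⟨x, y, e⟩, hp⟩ h2 he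
        simp only at he; subst he
        obtain ⟨j, hj⟩ := hfalse hp
        rw [mul_zero, sub_eq_zero] at hj
        subst hj
        have h3 := congrArg (fun q : X => (q : WM l).a) h2
        simp only [Subgroup.coe_mul, mk_mul_false, OneMemClass.coe_one, one_def] at h3
        rcases two_mul_zero h3 with rfl | rfl
        · exact Or.inl rfl
        · exact Or.inr rfl
      have hh0fix : σ h0 = h0 := by
        rcases hinv (σ h0) (by rw [← map_mul, show h0 * h0 = 1 from Subtype.ext
            (by simp [hh0, zc, hh_add_hh, one_def]), map_one]) (by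
          rw [hh0pow, map_pow, map_mul, Subgroup.coe_pow]
          have := sq_e ((σ z1 : X) : WM l)
          rw [← Subgroup.coe_mul] at this
          rcases hq : ((σ z1 * σ z1 : X) : WM l) with ⟨x, y, e⟩
          rw [hq] at this
          simp only at this; subst this
          rw [pow_false]) with h | h
        · exact absurd (σ.injective (h.trans (map_one σ).symm)) hh0ne
        · exact h
      have hg0sq : g0 * g0 = 1 := Subtype.ext (by simp [hg0', one_def])
      have hg0e : ((σ g0 : X) : WM l).e = true := by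
        by_contra h
        rw [Bool.not_eq_true] at h
        rcases hinv _ (by rw [← map_mul, hg0sq, map_one]) h with h' | h'
        · have := congrArg (fun q : X => (q : WM l).e) (σ.injective (h'.trans (map_one σ).symm))
          simp [hg0', one_def] at this
        · have := congrArg (fun q : X => (q : WM l).e) (σ.injective (h'.trans hh0fix.symm))
          simp [hg0', hh0] at this
      have hg0fix : σ g0 = g0 := by
        set w : X := g0⁻¹ * σ g0 with hwdef
        have hwe : (w : WM l).e = false := by
          have h' := hg0e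
          rw [hg0'] at h'
          rw [hwdef, Subgroup.coe_mul, mul_def]
          simp [h', hg0']
        have hcomm : Commute g0 (σ g0) := by
          have h1 : (σ g0 : WM l) = ⟨((σ g0 : X) : WM l).a, ((σ g0 : X) : WM l).b, true⟩ :=
            WM.ext rfl rfl hg0e
          apply Subtype.ext
          obtain ⟨j, hj⟩ := htrue (h1 ▸ (σ g0).2)
          rw [mul_zero] at hj
          rw [Subgroup.coe_mul, Subgroup.coe_mul, h1]
          simp only [hg0', mk_mul_true, Bool.not_true, WM.ext_iff]
          exact ⟨by linear_combination -hj - hu2, by linear_combination hj + hu2, trivial⟩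
        have hw2 : w * w = 1 := by
          have h1 : σ g0 * σ g0 = 1 := by rw [← map_mul, hg0sq, map_one]
          have h2 : g0⁻¹ = g0 := inv_eq_of_mul_eq_one_left hg0sq
          rw [hwdef, h2, mul_assoc, ← mul_assoc (σ g0), ← hcomm.eq, mul_assoc, h1, mul_one, hg0sq]
        have hwfix : σ w = w := by
          rcases hinv w hw2 hwe with h | h <;> rw [h]
          · exact map_one σ
          · exact hh0fix
        have := fixed_of_stab hXp hk hσ (x := g0) (w := w) (by rw [hwdef, mul_inv_cancel_left]) hwfix
        rw [hwdef, inv_mul_eq_one] at this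
        exact this.symm
      have hτ : σ * σ = 1 := by
        have hτk : (σ * σ) ^ k = 1 := by rw [← sq, ← pow_mul, mul_comm, pow_mul, hσ, one_pow]
        have he : (((σ * σ) z1 : X) : WM l).e = false := by
          rw [MulAut.mul_apply]
          rcases hq : σ z1 with ⟨⟨x, y, e⟩, hp⟩
          cases e
          · obtain ⟨j, hj⟩ := hfalse hp
            rw [mul_zero, sub_eq_zero] at hj
            subst hj
            have h1 : (⟨⟨x, x, false⟩, hp⟩ : X) = z1 ^ x.val := by
              ext1
              rw [Subgroup.coe_pow]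
              simp [hz1, zc, pow_false]
            rw [h1, map_pow, hq, Subgroup.coe_pow, pow_false]
          · obtain ⟨j, hj⟩ := htrue hp
            rw [mul_zero] at hj
            set c := x - t
            have h1 : (⟨⟨x, y, true⟩, hp⟩ : X) = ⟨zc c, zc_mem hC c⟩ * g0 := by
              ext1
              rw [Subgroup.coe_mul]
              simp only [hg0', zc, mk_mul_false, c, WM.ext_iff]
              exact ⟨by ring, by linear_combination -hj - hu2, trivial⟩
            obtain ⟨s, hs | hs⟩ := even_or_odd c
            · exfalso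
              apply hh0ne
              apply σ.injective
              rw [map_one, hh0pow, map_pow, map_mul, hq, h1]
              apply Subtype.ext
              simp only [Subgroup.coe_pow, Subgroup.coe_mul, hg0', zc, mk_mul_false, mk_mul_true,
                Bool.not_true, pow_false, hs, OneMemClass.coe_one, one_def, WM.ext_iff]
              exact ⟨by linear_combination s * four_l (l := l),
                by linear_combination s * four_l (l := l), trivial⟩
            · have h2 : (⟨zc c, zc_mem hC c⟩ : X) =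
                  z1 * (⟨zc s, zc_mem hC s⟩ * ⟨zc s, zc_mem hC s⟩) := by
                ext1
                simp only [Subgroup.coe_mul, hz1, zc, mk_mul_false, hs]
                congr 1 <;> ring
              rw [h1, map_mul, h2, map_mul, map_mul, hg0fix, hq]
              rcases hv : σ ⟨zc s, zc_mem hC s⟩ with ⟨⟨x', y', e'⟩, hp'⟩
              simp only [Subgroup.coe_mul, hg0', mul_def]
              cases e' <;> simp
        rcases hq : (σ * σ) z1 with ⟨⟨x, y, e⟩, hp⟩
        rw [hq] at he
        simp only at he; subst he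
        obtain ⟨j, hj⟩ := hfalse hp
        rw [mul_zero, sub_eq_zero] at hj
        subst hj
        exact fixed_all hl hC hk hτk hg hd hgen (a := x) (by rw [← hz1, hq])
          (fun _ => by
            rw [show (⟨_, hd⟩ : X) = 1 from rfl, map_one])
      obtain ⟨i, rfl⟩ := hk
      rwa [pow_succ, pow_mul, sq, hτ, one_pow, one_mul] at hσ
    · -- a cyclic group
      obtain ⟨v, hv⟩ := hu2 ▸ isUnit_odd hl t
      set z1 : X := ⟨zc 1, zc_mem hC 1⟩ with hz1
      have h1 : z1 = (⟨_, hg⟩ * ⟨_, hg⟩) ^ ((↑v⁻¹ : ZMod (4 * l))).val := by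
        ext1
        rw [Subgroup.coe_pow, Subgroup.coe_mul]
        simp only [hz1, zc, mk_mul_true, Bool.not_true, pow_false, ZMod.natCast_zmod_val]
        have hvv : (↑v⁻¹ : ZMod (4 * l)) * u = 1 := by rw [← hv, Units.inv_mul]
        congr 1 <;> linear_combination -hvv
      have h2 : ((σ z1 : X) : WM l).e = false := by
        rw [h1, map_pow, map_mul, Subgroup.coe_pow]
        rcases hv' : ((σ ⟨_, hg⟩ * σ ⟨_, hg⟩ : X) : WM l) with ⟨x, y, e⟩
        have := sq_e ((σ ⟨_, hg⟩ : X) : WM l)
        rw [← Subgroup.coe_mul, hv'] at this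
        simp only at this; subst this
        rw [pow_false]
      rcases hq : σ z1 with ⟨⟨x, y, e⟩, hp⟩
      rw [hq] at h2
      simp only at h2; subst h2
      obtain ⟨j, hj⟩ := hfalse hp
      rw [mul_zero, sub_eq_zero] at hj
      subst hj
      exact fixed_all hl hC hk hσ hg hd hgen (a := x) (by rw [← hz1, hq])
        (fun _ => by rw [show (⟨_, hd⟩ : X) = 1 from rfl, map_one])
  · -- the centre is preserved
    have hcent : ∀ p : X, (∀ q : X, q * p = p * q) → ∃ a, (p : WM l) = zc a := by
      rintro ⟨⟨x, y, e⟩, hp⟩ hc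
      cases e
      · have h1 := congrArg (fun q : X => (q : WM l).a) (hc ⟨_, hg⟩)
        simp only [Subgroup.coe_mul, mk_mul_true, mk_mul_false] at h1
        obtain rfl : y = x := by linear_combination h1
        exact ⟨y, rfl⟩
      · exfalso
        have h1 := congrArg (fun q : X => (q : WM l).a) (hc ⟨_, hd⟩)
        simp only [Subgroup.coe_mul, mk_mul_true, mk_mul_false] at h1
        exact hd0 (by linear_combination h1)
    obtain ⟨a, ha⟩ := hcent (σ ⟨zc 1, zc_mem hC 1⟩) (fun q => by
      apply σ.symm.injective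
      simp only [map_mul, MulEquiv.symm_apply_apply]
      exact Subtype.ext (zc_mul_comm _ _))
    by_cases h2d : d + d = 0
    · obtain rfl : d = hh l := (two_mul_zero h2d).resolve_left hd0
      have hhj : ∀ j : ZMod (4 * l), j * hh l = 0 ∨ j * hh l = hh l := fun j =>
        two_mul_zero (by linear_combination j * hh_add_hh (l := l))
      obtain ⟨t, hu2 | hu2⟩ := even_or_odd u
      · refine ⟨t, ?_⟩
        ext ⟨x, y, e⟩
        constructor
        · intro hp
          refine ⟨(⟨t, 0, false⟩ : WM l)⁻¹ * ⟨x, y, e⟩ * ⟨t, 0, false⟩, ?_, ?_⟩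
          · rw [SetLike.mem_coe, conj_shift]
            cases e
            · obtain ⟨j, hj⟩ := hfalse hp
              rcases hhj j with h | h
              · exact Or.inl (by simp only [Bool.false_eq_true, if_false]; rw [hj, h])
              · exact Or.inr (by simp only [Bool.false_eq_true, if_false]; rw [hj, h])
            · obtain ⟨j, hj⟩ := htrue hp
              rcases hhj j with h | h
              · exact Or.inl (by simp only [if_true]; linear_combination hj + hu2 + h)
              · exact Or.inr (by simp only [if_true]; linear_combination hj + hu2 + h)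
          · simp only [MulEquiv.coe_toMonoidHom, MulAut.conj_apply]
            group
        · rintro ⟨⟨x', y', e'⟩, hp', heq⟩
          rw [SetLike.mem_coe, mem_QZ] at hp'
          simp only [MulEquiv.coe_toMonoidHom, MulAut.conj_apply] at heq
          rw [conj_false] at heq
          rw [← heq]
          have hx : (⟨x' - y', 0, false⟩ : WM l) ∈ X := by
            rcases hp' with h | h <;> simp only at h <;> rw [h]
            · exact one_mem X
            · exact hd
          cases e'
          · simp only [Bool.false_eq_true, if_false]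
            simpa using mul_mem hx (zc_mem hC y')
          · simp only [if_true]
            have := mul_mem (mul_mem hx (zc_mem hC (y' - t))) hg
            simpa [hu2, two_mul, sub_eq_add_neg, add_comm, add_left_comm, add_assoc] using this
      · exfalso
        apply hne
        refine fixed_all hl hC hk hσ hg hd hgen ha (fun hzfix => ?_)
        rcases hq : σ ⟨_, hd⟩ with ⟨⟨x, y, e⟩, hp⟩
        have hsq : (⟨x, y, e⟩ : WM l) ^ 2 = 1 := by
          have h1 : σ ⟨_, hd⟩ ^ 2 = 1 := by
            rw [← map_pow, show (⟨_, hd⟩ : X) ^ 2 = 1 from Subtype.ext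
              (by rw [Subgroup.coe_pow, sq]; simp [hh_add_hh, one_def]), map_one]
          rw [hq] at h1
          exact congrArg Subtype.val h1
        have hne' : ∀ c, (⟨x, y, e⟩ : WM l) ≠ zc c := by
          intro c hc
          have := σ.injective (hq.trans ((Subtype.ext hc : (⟨_, hp⟩ : X) = ⟨zc c, zc_mem hC c⟩).trans
            (hzfix c).symm))
          have h1 := congrArg (fun q : X => (q : WM l).a - (q : WM l).b) this
          simp at h1
          exact hh_ne h1
        rcases sq_one_iff'.1 hsq with ⟨h1, h2, h3⟩ | ⟨w, hw⟩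
        · simp only at h1 h2 h3
          subst h3
          obtain ⟨c, rfl⟩ : ∃ c, c = y := ⟨y, rfl⟩
          have hxy : x = hh l + c := by
            rcases h1 with rfl | rfl <;> rcases h2 with h | h <;> rw [h] at hne' ⊢
            · exact absurd rfl (hne' 0)
            · exact hh_add_hh.symm
            · exact (add_zero _).symm
            · exact absurd rfl (hne' (hh l))
          have hw := fixed_of_stab hXp hk hσ (x := ⟨_, hd⟩) (w := ⟨zc c, zc_mem hC c⟩)
            (hq.trans (Subtype.ext (by simp [zc, hxy]))) (hzfix c)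
          have hc0 : c = 0 := congrArg (fun q : X => (q : WM l).a) hw
          apply Subtype.ext
          simp [hxy, hc0]
        · exfalso
          rw [hw] at hp
          obtain ⟨j, hj⟩ := htrue hp
          rcases hhj j with h | h
          · exact one_ne_two_mul (w - t) (by linear_combination -hj - h - hu2)
          · exact one_ne_two_mul (w - t - (l : ZMod (4 * l)))
              (by unfold hh at h hj; linear_combination -hj - h - hu2)
    · exfalso
      apply hne
      refine fixed_all hl hC hk hσ hg hd hgen ha (fun hzfix => ?_)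
      have he : ((σ ⟨_, hd⟩ : X) : WM l).e = false := by
        by_contra h
        rw [Bool.not_eq_false] at h
        apply h2d
        rcases hq : σ ⟨_, hd⟩ with ⟨⟨x, y, e⟩, hp⟩
        rw [hq] at h
        simp only at h; subst h
        have h1 : σ (⟨_, hd⟩ * ⟨_, hd⟩) = σ ⟨zc (x + y), zc_mem hC _⟩ := by
          rw [map_mul, hq, hzfix]
          ext1
          simp [zc, add_comm]
        have h2 := congrArg (fun q : X => (q : WM l).a - (q : WM l).b) (σ.injective h1)
        simpa using h2
      rcases hq : σ ⟨_, hd⟩ with ⟨⟨x, y, e⟩, hp⟩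
      rw [hq] at he
      simp only at he; subst he
      obtain ⟨j, hj⟩ := hfalse hp
      have hi : ∀ i : ℕ, ∃ c, (((σ ^ i) ⟨_, hd⟩ : X) : WM l) = ⟨j ^ i * d + c, c, false⟩ := by
        intro i
        induction i with
        | zero => exact ⟨0, by simp⟩
        | succ i ih =>
          obtain ⟨c, hc⟩ := ih
          have h1 : (σ ^ i) ⟨_, hd⟩ = ⟨_, hd⟩ ^ (j ^ i).val * ⟨zc c, zc_mem hC c⟩ := by
            ext1
            rw [hc, Subgroup.coe_mul, Subgroup.coe_pow]
            simp [zc, pow_false]
          refine ⟨j ^ i * y + c, ?_⟩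
          rw [pow_succ', MulAut.mul_apply, h1, map_mul, map_pow, hq, hzfix, Subgroup.coe_mul,
            Subgroup.coe_pow]
          simp only [pow_false, ZMod.natCast_zmod_val, zc, mk_mul_false, WM.ext_iff]
          exact ⟨by linear_combination (j ^ i) * hj, trivial, trivial⟩
      obtain ⟨c, hc⟩ := hi k
      rw [hσ, MulAut.one_apply] at hc
      have hc0 : c = 0 := (congrArg WM.b hc).symm
      have hjd : j * d = d := odd_pow_cancel hl hk (by
        have := congrArg WM.a hc
        simp only at this
        rw [hc0, add_zero] at this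
        exact this.symm)
      have hw := fixed_of_stab hXp hk hσ (x := ⟨_, hd⟩) (w := ⟨zc y, zc_mem hC y⟩)
        (hq.trans (Subtype.ext (by
          simp only [Subgroup.coe_mul, zc, mk_mul_false, WM.ext_iff]
          exact ⟨by linear_combination hj + hjd, (zero_add y).symm, trivial⟩))) (hzfix y)
      have hy : y = 0 := congrArg (fun q : X => (q : WM l).a) hw
      apply Subtype.ext
      simp only [WM.ext_iff]
      exact ⟨by linear_combination hj + hjd + hy, hy, trivial⟩

end

end Cfsg.Agent.QDWreathWrAut
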