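import Mathlib
import Cfsg.Agent.Lib.QDWreathWrAut

/-!
The subgroup `Q Z` of a wreathed 2-group.
-/

set_option autoImplicit false
set_option linter.unusedSectionVars false

namespace Cfsg.Agent.QDWreathWrQZ

open Cfsg.Agent.QDWreathBase Cfsg.Agent.QDWreathWr Cfsg.Agent.QDWreathWrSub Cfsg.Agent.QDWreathWrAut

variable {l : ℕ} [NeZero l]

/-- `i ↦ l i` on `ZMod 4`. -/
def mulL (l : ℕ) : ZMod (2 * 2) →+ ZMod (4 * l) :=
  ZMod.lift (2 * 2) ⟨zmultiplesHom (ZMod (4 * l)) (l : ZMod (4 * l)), by
    simp only [zmultiplesHom_apply, zsmul_eq_mul]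
    push_cast
    linear_combination four_l (l := l)⟩

theorem mulL_one : mulL l 1 = (l : ZMod (4 * l)) := by
  have h := ZMod.lift_coe (2 * 2) (A := ZMod (4 * l))
    ⟨zmultiplesHom (ZMod (4 * l)) (l : ZMod (4 * l)), by
    simp only [zmultiplesHom_apply, zsmul_eq_mul]
    push_cast
    linear_combination four_l (l := l)⟩ 1
  rw [Int.cast_one] at h
  rw [mulL, h]
  simp

theorem mulL_two : mulL l (2 : ZMod (2 * 2)) = hh l := by
  rw [show (2 : ZMod (2 * 2)) = 1 + 1 from rfl, map_add, mulL_one, hh]
  ring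

theorem mulL_cases (i : ZMod (2 * 2)) :
    mulL l i + mulL l i = 0 ∨ mulL l i + mulL l i = hh l := by
  rw [← map_add]
  have : ∀ i : ZMod (2 * 2), i + i = 0 ∨ i + i = 2 := by decide
  rcases this i with h | h <;> rw [h]
  · exact Or.inl (map_zero _)
  · exact Or.inr mulL_two

theorem mulL_injective : Function.Injective (mulL l) := by
  rw [injective_iff_map_eq_zero]
  intro i hi
  have : ∀ i : ZMod (2 * 2), i = 0 ∨ i = 2 ∨ i + i = 2 := by decide
  rcases this i with h | h | h
  · exact h
  · rw [h, mulL_two] at hi; exact absurd hi hh_ne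
  · have := congrArg (mulL l) h
    rw [map_add, hi, mulL_two, add_zero] at this
    exact absurd this.symm hh_ne

/-- The quaternion subgroup of order 8. -/
def q8Hom (l : ℕ) [NeZero l] : QuaternionGroup 2 →* WM l :=
  MonoidHom.mk' (fun g => match g with
    | .a i => ⟨mulL l i, -mulL l i, false⟩
    | .xa i => ⟨(l : ZMod (4 * l)) - mulL l i, (l : ZMod (4 * l)) + mulL l i, true⟩) (by
    rintro (i | i) (j | j) <;>
      simp only [QuaternionGroup.a_mul_a, QuaternionGroup.a_mul_xa, QuaternionGroup.xa_mul_a,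
        QuaternionGroup.xa_mul_xa, mk_mul_false, mk_mul_true, Bool.not_false, Bool.not_true,
        WM.ext_iff, map_add, map_sub, and_true]
    · exact ⟨trivial, by ring⟩
    · exact ⟨by ring, by ring⟩
    · exact ⟨by ring, by ring⟩
    · rw [show ((2 : ℕ) : ZMod (2 * 2)) = 2 from rfl, mulL_two, hh]
      exact ⟨by ring, by linear_combination -four_l (l := l)⟩)

theorem q8Hom_injective : Function.Injective (q8Hom l) := by
  rintro (i | i) (j | j) h <;>
    simp only [q8Hom, MonoidHom.mk'_apply, WM.ext_iff] at h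
  · rw [mulL_injective h.1]
  · exact Bool.noConfusion h.2.2
  · exact Bool.noConfusion h.2.2
  · rw [mulL_injective (sub_right_injective h.1)]

theorem q8_range_le : (q8Hom l).range ≤ QZ l := by
  rintro _ ⟨(i | i), rfl⟩ <;> rw [mem_QZ] <;> simp only [q8Hom, MonoidHom.mk'_apply]
  · rcases mulL_cases (l := l) i with h | h
    · exact Or.inl (by linear_combination h)
    · exact Or.inr (by linear_combination h)
  · rcases mulL_cases (l := l) i with h | h
    · exact Or.inl (by linear_combination -h)
    · exact Or.inr (by linear_combination -h - hh_add_hh (l := l))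

theorem center_le_QZ : Subgroup.center (WM l) ≤ QZ l := by
  rw [center_eq]
  intro p hp
  obtain ⟨a, rfl⟩ := mem_diag.1 hp
  exact Or.inl (sub_self a)

theorem QZ_eq : QZ l = (q8Hom l).range ⊔ Subgroup.center (WM l) := by
  refine le_antisymm ?_ (sup_le q8_range_le center_le_QZ)
  have hz : ∀ c : ZMod (4 * l), zc c ∈ (q8Hom l).range ⊔ Subgroup.center (WM l) := fun c =>
    Subgroup.mem_sup_right (by rw [center_eq]; exact mem_diag.2 ⟨c, rfl⟩)
  have hd : (⟨hh l, 0, false⟩ : WM l) ∈ (q8Hom l).range ⊔ Subgroup.center (WM l) := by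
    have h1 : (⟨(l : ZMod (4 * l)), -(l : ZMod (4 * l)), false⟩ : WM l) ∈ (q8Hom l).range :=
      ⟨QuaternionGroup.a 1, by simp [q8Hom]; exact mulL_one⟩
    have := mul_mem (Subgroup.mem_sup_left h1) (hz (l : ZMod (4 * l)))
    simpa [zc, hh, two_mul] using this
  have hw : (⟨0, 0, true⟩ : WM l) ∈ (q8Hom l).range ⊔ Subgroup.center (WM l) := by
    have h1 : (⟨(l : ZMod (4 * l)), (l : ZMod (4 * l)), true⟩ : WM l) ∈ (q8Hom l).range :=
      ⟨QuaternionGroup.xa 0, by simp [q8Hom]⟩
    have := mul_mem (hz (-(l : ZMod (4 * l)))) (Subgroup.mem_sup_left h1)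
    simpa [zc] using this
  have hf : ∀ a b : ZMod (4 * l), a - b = 0 ∨ a - b = hh l →
      (⟨a, b, false⟩ : WM l) ∈ (q8Hom l).range ⊔ Subgroup.center (WM l) := by
    rintro a b (h | h)
    · obtain rfl : a = b := sub_eq_zero.1 h
      exact hz a
    · have := mul_mem hd (hz b)
      rw [← h] at this
      simpa [zc] using this
  rintro ⟨a, b, _ | _⟩ hp
  · exact hf a b hp
  · have := mul_mem (hf a b hp) hw
    simpa using this

theorem QZ_noncomm : ¬ IsMulCommutative (QZ l) := by
  intro h
  have h1 := congrArg (fun q : QZ l => (q : WM l).a)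
    (h.1.comm ⟨⟨hh l, 0, false⟩, Or.inr (sub_zero _)⟩ ⟨⟨0, 0, true⟩, Or.inl (sub_zero _)⟩)
  simp at h1
  exact hh_ne h1

theorem QZ_relIndex : (QZ l).relIndex (Subgroup.normalizer (QZ l : Set (WM l))) = 2 := by
  have hmem : ∀ a b : ZMod (4 * l),
      (⟨a, b, false⟩ : WM l) ∈ Subgroup.normalizer (QZ l : Set (WM l)) →
      (2 * (a - b) = 0 ∨ 2 * (a - b) = hh l) := by
    intro a b h
    have h1 := (Subgroup.mem_normalizer_iff.1 h ⟨0, 0, true⟩).1 (Or.inl (sub_zero _))
    rw [mem_QZ] at h1
    simp only [mk_inv_false, mk_mul_false, mk_mul_true, Bool.not_false, add_zero] at h1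
    rcases h1 with h1 | h1
    · exact Or.inl (by linear_combination h1)
    · exact Or.inr (by linear_combination h1)
  have hw : (⟨(l : ZMod (4 * l)), 0, false⟩ : WM l) ∈ Subgroup.normalizer (QZ l : Set (WM l)) := by
    rw [Subgroup.mem_normalizer_iff]
    rintro ⟨a, b, _ | _⟩
    · rw [conj_false]; rfl
    · rw [conj_false, if_pos rfl, mem_QZ, mem_QZ]
      simp only
      have h4 := hh_add_hh (l := l)
      unfold hh at h4 ⊢
      constructor <;> rintro (h | h)
      · exact Or.inr (by linear_combination h)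
      · exact Or.inl (by linear_combination h + h4)
      · exact Or.inr (by linear_combination h - h4)
      · exact Or.inl (by linear_combination h)
  have hnot : (⟨(l : ZMod (4 * l)), 0, false⟩ : WM l) ∉ QZ l := by
    rintro (h | h) <;> simp only [sub_zero] at h
    · exact hh_ne (by rw [hh, h, mul_zero])
    · unfold hh at h
      have : (l : ZMod (4 * l)) = 0 := by linear_combination -h
      exact hh_ne (by rw [hh, this, mul_zero])
  refine Subgroup.relIndex_eq_two_iff.2 ⟨_, hw, fun b hb => ?_⟩
  obtain ⟨c, hc⟩ : ∃ c, c = b.a - b.b := ⟨_, rfl⟩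
  by_cases hbX : b ∈ QZ l
  · exact Or.inr ⟨hbX, fun h => hnot (((QZ l).mul_mem_cancel_left hbX).1 h)⟩
  · refine Or.inl ⟨?_, hbX⟩
    obtain ⟨x, y, e⟩ := b
    have hfalse : 2 * (x - y) = 0 ∨ 2 * (x - y) = hh l := by
      cases e
      · exact hmem x y hb
      · refine hmem x y ?_
        have := mul_mem hb (Subgroup.le_normalizer (show (⟨0, 0, true⟩ : WM l) ∈ QZ l from Or.inl (sub_zero _)))
        simpa using this
    have hnb : ¬(x - y = 0 ∨ x - y = hh l) := fun h => hbX (mem_QZ.2 h)
    have key : x - y = (l : ZMod (4 * l)) ∨ x - y = -(l : ZMod (4 * l)) := by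
      rcases hfalse with h | h
      · exact absurd (two_mul_zero (show (x - y) + (x - y) = 0 by linear_combination h)) hnb
      · rcases two_mul_zero (show (x - y - (l : ZMod (4 * l))) + (x - y - (l : ZMod (4 * l))) = 0 by
          unfold hh at h; linear_combination h) with h' | h'
        · exact Or.inl (by linear_combination h')
        · exact Or.inr (by unfold hh at h'; linear_combination h' + four_l (l := l))
    rw [mem_QZ]
    cases e
    · simp only [mk_mul_false]
      rcases key with h | h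
      · exact Or.inr (by rw [hh]; linear_combination h)
      · exact Or.inl (by linear_combination h)
    · simp only [mk_mul_true]
      rcases key with h | h
      · exact Or.inl (by linear_combination h)
      · exact Or.inr (by rw [hh]; linear_combination h - four_l (l := l))

theorem AS_relIndex : (AS l).relIndex (Subgroup.normalizer (AS l : Set (WM l))) = 2 := by
  refine Subgroup.relIndex_eq_two_iff.2 ⟨⟨0, 0, true⟩, Subgroup.mem_normalizer_iff.2 ?_, ?_⟩
  · rintro ⟨a, b, e⟩; simp only [mem_AS]; cases e <;> simp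
  · rintro ⟨a, b, e⟩ -
    cases e
    · exact Or.inr ⟨mem_AS.2 rfl, fun h => by simp [mem_AS] at h⟩
    · exact Or.inl ⟨by simp [mem_AS], fun h => by simp [mem_AS] at h⟩

end Cfsg.Agent.QDWreathWrQZ
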