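import Mathlib
import Cfsg.Agent.Lib.QDWreathWrQZ
import Cfsg.Agent.Lib.QDWreathLocal

/-!
Quaternion subgroups of a wreathed 2-group and orders of automorphism groups of `A` and `Q Z`.
-/

set_option autoImplicit false
set_option linter.unusedSectionVars false

namespace Cfsg.Agent.QDWreathWrLocal

open Cfsg.Agent.QDWreathBase Cfsg.Agent.QDWreathWr Cfsg.Agent.QDWreathWrSub Cfsg.Agent.QDWreathWrAut
  Cfsg.Agent.QDWreathWrQZ

variable {l : ℕ} [NeZero l]

/-- The standard quaternion subgroup. -/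
abbrev Q0 (l : ℕ) [NeZero l] : Subgroup (WM l) := (q8Hom l).range

theorem Q0_card : Nat.card (Q0 l) = 8 := by
  rw [← Nat.card_congr (MonoidHom.ofInjective (q8Hom_injective (l := l))).toEquiv,
    Nat.card_eq_fintype_card, QuaternionGroup.card]

theorem q8_pairs : ∀ P R : QuaternionGroup 2,
    ((P = QuaternionGroup.a 1 ∧ R = QuaternionGroup.xa 0) ∨
      (P = QuaternionGroup.xa 0 ∧ R = QuaternionGroup.a 1) ∨
      (P = QuaternionGroup.xa 1 ∧ R = QuaternionGroup.a 1)) →
    R * P * R⁻¹ = P⁻¹ ∧ R ^ 2 = P ^ 2 ∧ P ^ 2 ≠ 1 ∧ P ^ 4 = 1 ∧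
      ∀ g : QuaternionGroup 2, ∃ i j : Fin 4, g = P ^ (i : ℕ) * R ^ (j : ℕ) := by decide

/-- All quaternion subgroups of order 8 are conjugate. -/
theorem q8_conj (f : QuaternionGroup 2 →* WM l) (hf : Function.Injective f) :
    ∃ c : WM l, f.range = (Q0 l).map (MulAut.conj c).toMonoidHom := by
  obtain ⟨P, R, hP, hR, hpair⟩ : ∃ P R, (f P).e = false ∧ (f R).e = true ∧
      ((P = QuaternionGroup.a 1 ∧ R = QuaternionGroup.xa 0) ∨
        (P = QuaternionGroup.xa 0 ∧ R = QuaternionGroup.a 1) ∨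
        (P = QuaternionGroup.xa 1 ∧ R = QuaternionGroup.a 1)) := by
    cases h1 : (f (QuaternionGroup.a 1)).e
    · refine ⟨_, _, h1, ?_, Or.inl ⟨rfl, rfl⟩⟩
      by_contra h2
      rw [Bool.not_eq_true] at h2
      have := hf (show f (QuaternionGroup.a 1 * QuaternionGroup.xa 0) =
          f (QuaternionGroup.xa 0 * QuaternionGroup.a 1) by rw [map_mul, map_mul]; exact AS_comm h1 h2)
      revert this
      decide
    · cases h2 : (f (QuaternionGroup.xa 0)).e
      · exact ⟨_, _, h2, h1, Or.inr (Or.inl ⟨rfl, rfl⟩)⟩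
      · refine ⟨_, _, ?_, h1, Or.inr (Or.inr ⟨rfl, rfl⟩)⟩
        rw [show (QuaternionGroup.xa 1 : QuaternionGroup 2) =
          QuaternionGroup.xa 0 * QuaternionGroup.a 1 by decide, map_mul, mul_def]
        simp [h1, h2]
  obtain ⟨hrel, hsq, hne, h4, hgen⟩ := q8_pairs P R hpair
  have hrel' : f R * f P * (f R)⁻¹ = (f P)⁻¹ := by
    rw [← map_inv, ← map_inv, ← map_mul, ← map_mul, hrel]
  have hsq' : f R ^ 2 = f P ^ 2 := by rw [← map_pow, ← map_pow, hsq]
  have hne' : f P ^ 2 ≠ 1 := fun h => hne (hf (by rw [map_pow, h, map_one]))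
  have h4' : f P ^ 4 = 1 := by rw [← map_pow, h4, map_one]
  rcases hfP : f P with ⟨c, d, e⟩
  rcases hfR : f R with ⟨a, b, e'⟩
  rw [hfP] at hP hrel' hsq' hne' h4'
  rw [hfR] at hR hrel' hsq'
  simp only at hP hR
  subst hP hR
  simp only [mk_inv_true, mk_inv_false, mk_mul_true, Bool.not_false, Bool.not_true, WM.ext_iff] at hrel'
  have hd : d = -c := by linear_combination hrel'.1
  subst hd
  rw [sq_true, pow_false, WM.ext_iff] at hsq'
  rw [pow_false, one_def] at hne' h4'
  have h4c := congrArg WM.a h4'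
  simp only [Nat.cast_ofNat] at h4c hsq'
  have h2c : 2 * c = hh l := by
    rcases two_mul_zero (show 2 * c + 2 * c = 0 by linear_combination h4c) with h | h
    · exfalso
      apply hne'
      simp only [Nat.cast_ofNat]
      congr 1; linear_combination -h
    · exact h
  obtain ⟨r, hr⟩ : ∃ r : QuaternionGroup 2, q8Hom l r = ⟨c, -c, false⟩ := by
    rcases two_mul_zero (show (c - (l : ZMod (4 * l))) + (c - (l : ZMod (4 * l))) = 0 by
      unfold hh at h2c; linear_combination h2c) with h | h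
    · refine ⟨QuaternionGroup.a 1, ?_⟩
      simp only [q8Hom, MonoidHom.mk'_apply, mulL_one, WM.ext_iff]
      exact ⟨by linear_combination -h, by linear_combination h, trivial⟩
    · refine ⟨QuaternionGroup.a (1 + 2), ?_⟩
      simp only [q8Hom, MonoidHom.mk'_apply, map_add, mulL_one, mulL_two, WM.ext_iff]
      exact ⟨by linear_combination -h, by linear_combination h, trivial⟩
  refine ⟨⟨a - (l : ZMod (4 * l)), 0, false⟩, Subgroup.eq_of_le_of_card_ge ?_ ?_⟩
  · rintro _ ⟨g, rfl⟩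
    obtain ⟨i, j, rfl⟩ := hgen g
    rw [map_mul, map_pow, map_pow, hfP, hfR]
    refine mul_mem (pow_mem (Subgroup.mem_map.2 ⟨q8Hom l r, MonoidHom.mem_range.2 ⟨r, rfl⟩, ?_⟩) _)
      (pow_mem (Subgroup.mem_map.2 ⟨q8Hom l (QuaternionGroup.xa 0), MonoidHom.mem_range.2 ⟨_, rfl⟩, ?_⟩) _)
    · rw [MulEquiv.coe_toMonoidHom, MulAut.conj_apply, hr, conj_false]
      simp
    · rw [MulEquiv.coe_toMonoidHom, MulAut.conj_apply]
      simp only [q8Hom, MonoidHom.mk'_apply, map_zero, sub_zero, add_zero, conj_false, if_true,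
        WM.ext_iff]
      have := hsq'.1
      unfold hh at h2c
      exact ⟨by ring, by linear_combination -this - h2c, trivial⟩
  · rw [Subgroup.card_map_of_injective (f := (MulAut.conj _).toMonoidHom) (MulAut.conj _).injective,
      Q0_card, ← Nat.card_congr (MonoidHom.ofInjective hf).toEquiv, Nat.card_eq_fintype_card,
      QuaternionGroup.card]

/-- The centralizer of a quaternion subgroup is the centre. -/
theorem Q0_centralizer : Subgroup.centralizer (Q0 l : Set (WM l)) ≤ Subgroup.center (WM l) := by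
  intro p hp
  rw [Subgroup.mem_centralizer_iff] at hp
  have h1 := hp _ ⟨QuaternionGroup.a 1, rfl⟩
  have h2 := hp _ ⟨QuaternionGroup.xa 0, rfl⟩
  obtain ⟨a, b, e⟩ := p
  simp only [q8Hom, MonoidHom.mk'_apply, mulL_one, map_zero, sub_zero, add_zero] at h1 h2
  cases e
  · simp only [mk_mul_true, mk_mul_false, WM.ext_iff] at h2
    rw [center_eq]
    exact mem_diag.2 ⟨a, WM.ext rfl (by linear_combination h2.1) rfl⟩
  · simp only [mk_mul_true, mk_mul_false, WM.ext_iff] at h1
    exfalso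
    exact hh_ne (by rw [hh]; linear_combination h1.1)

/-- An abelian subgroup of index two is `AS`. -/
theorem comm_half {U : Subgroup (WM l)} (hU : IsMulCommutative U) (hcard : Nat.card U = 16 * l ^ 2) :
    U = AS l := by
  refine Subgroup.eq_of_le_of_card_ge (fun p hp => ?_) (by rw [hcard, AS_card])
  rw [mem_AS]
  by_contra h
  obtain ⟨a, b, e⟩ := p
  simp only [Bool.not_eq_false] at h
  subst h
  have hsub : (U : Set (WM l)) ⊆ Set.range (fun v : ZMod (4 * l) × Bool =>
      if v.2 then (⟨v.1, v.1, false⟩ : WM l) * ⟨a, b, true⟩ else ⟨v.1, v.1, false⟩) := by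
    intro q hq
    have hc : q * ⟨a, b, true⟩ = (⟨a, b, true⟩ : WM l) * q :=
      congrArg Subtype.val (hU.1.comm ⟨q, hq⟩ ⟨_, hp⟩)
    obtain ⟨c, rfl | rfl⟩ := commute_true hc
    · exact ⟨(c, false), by simp⟩
    · exact ⟨(c, true), by simp [add_comm]⟩
  have hle := Set.ncard_le_ncard hsub
  rw [← Nat.card_coe_set_eq, SetLike.coe_sort_coe, hcard, ← Nat.card_coe_set_eq] at hle
  have := hle.trans (Finite.card_range_le _)
  rw [Nat.card_prod, Nat.card_zmod,
    Nat.card_eq_two_iff.2 ⟨true, false, by simp, by ext v; cases v <;> simp⟩] at this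
  have := NeZero.pos l
  nlinarith

theorem isPGroup_ker {A : Type*} [Group A] [Finite A] {B : Type*} [Group B] (f : A →* B)
    (h : ∀ (σ : A) (k : ℕ), Odd k → σ ^ k = 1 → f σ = 1 → σ = 1) : IsPGroup 2 f.ker := by
  intro σ
  obtain ⟨a, k, hk, heq⟩ := Nat.exists_eq_two_pow_mul_odd (orderOf_pos (σ : A)).ne'
  refine ⟨a, Subtype.ext ?_⟩
  refine h _ k hk (by rw [Subgroup.coe_pow, ← pow_mul, ← heq, pow_orderOf_eq_one]) ?_
  exact (σ ^ 2 ^ a).2

theorem aut_card_dvd {X : Type*} [Group X] [Finite X] {B : Type*} [Group B]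
    (f : MulAut X →* B) (h : ∀ (σ : MulAut X) (k : ℕ), Odd k → σ ^ k = 1 → f σ = 1 → σ = 1)
    (hB : Nat.card B ∣ 6) : ∃ j, Nat.card (MulAut X) ∣ 2 ^ j * 3 := by
  have : Finite (MulAut X) := Finite.of_injective (fun e : MulAut X => (e : X → X)) DFunLike.coe_injective
  obtain ⟨j, hj⟩ := (isPGroup_ker f h).exists_card_eq
  refine ⟨j + 1, ?_⟩
  rw [f.ker.card_eq_card_quotient_mul_card_subgroup,
    Nat.card_congr (QuotientGroup.quotientKerEquivRange f).toEquiv, hj, pow_succ,
    mul_comm, mul_assoc]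
  exact mul_dvd_mul dvd_rfl (f.range.card_subgroup_dvd_card.trans hB)

/-- An automorphism of odd order of a 2-group fixing the involutions of an invariant abelian subgroup. -/
theorem fixed_comm {X : Type*} [Group X] (hX : IsPGroup 2 X) {σ : MulAut X} {k : ℕ} (hk : Odd k)
    (hσ : σ ^ k = 1) (H : Subgroup X) [IsMulCommutative H] (hinv : ∀ x ∈ H, σ x ∈ H)
    (hfix : ∀ x ∈ H, x * x = 1 → σ x = x) : ∀ x ∈ H, σ x = x := by
  suffices h : ∀ (j : ℕ) (x : X), x ∈ H → x ^ 2 ^ j = 1 → σ x = x from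
    fun x hx => by obtain ⟨j, hj⟩ := hX x; exact h j x hx hj
  intro j
  induction j with
  | zero => intro x _ h; rw [pow_zero, pow_one] at h; rw [h, map_one]
  | succ j ih =>
    intro x hx h
    have hc : Commute x⁻¹ (σ x) :=
      congrArg Subtype.val ((inferInstance : IsMulCommutative H).1.comm (⟨_, inv_mem hx⟩ : H) ⟨_, hinv x hx⟩)
    have h2 : σ (x ^ 2) = x ^ 2 := ih _ (pow_mem hx 2) (by rwa [← pow_mul, ← pow_succ'])
    rw [map_pow] at h2
    have hw : σ (x⁻¹ * σ x) = x⁻¹ * σ x := by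
      refine hfix _ (mul_mem (inv_mem hx) (hinv x hx)) ?_
      rw [← sq, hc.mul_pow, h2, inv_pow, inv_mul_cancel]
    have := fixed_of_stab hX hk hσ (x := x) (w := x⁻¹ * σ x) (by rw [mul_inv_cancel_left]) hw
    rw [inv_mul_eq_one] at this
    exact this.symm

theorem perm_card_dvd {α : Type*} [Finite α] (h : Nat.card α = 3) :
    Nat.card (Equiv.Perm α) ∣ 6 := by
  rw [Nat.card_perm, h]; rfl

theorem AS_aut {m : ℕ} (hl : l = 2 ^ m) : ∃ j, Nat.card (MulAut (AS l)) ∣ 2 ^ j * 3 := by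
  let f : MulAut (AS l) →* Equiv.Perm {x : AS l // x * x = 1 ∧ x ≠ 1} :=
    { toFun := fun φ => φ.toEquiv.subtypeEquiv (fun x => by
        simp only [MulEquiv.toEquiv_eq_coe, EquivLike.coe_coe]
        rw [← map_mul, MulEquiv.map_eq_one_iff, MulEquiv.map_ne_one_iff])
      map_one' := Equiv.ext fun x => rfl
      map_mul' := fun φ ψ => Equiv.ext fun x => rfl }
  refine aut_card_dvd f (fun σ k hk hσ hf => MulEquiv.ext fun x => ?_) (perm_card_dvd ?_)
  · have : IsMulCommutative (AS l) := ⟨⟨fun a b => Subtype.ext (AS_comm a.2 b.2)⟩⟩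
    have : IsMulCommutative (⊤ : Subgroup (AS l)) := ⟨⟨fun a b => Subtype.ext (Subtype.ext (AS_comm a.1.2 b.1.2))⟩⟩
    refine fixed_comm ((isPGroup_WM hl).to_subgroup _) hk hσ ⊤ (fun _ _ => Subgroup.mem_top _) ?_ x
      (Subgroup.mem_top _)
    intro y _ hy
    by_cases h1 : y = 1
    · rw [h1, map_one]
    · exact congrArg Subtype.val (Equiv.congr_fun hf ⟨y, hy, h1⟩)
  · have e : {x : AS l // x * x = 1 ∧ x ≠ 1} ≃ ↥((TS l : Set (WM l)) \ {1}) :=
      { toFun := fun x => ⟨x.1.1, mem_TS.2 ⟨mem_AS.1 x.1.2, by rw [sq]; exact congrArg Subtype.val x.2.1⟩,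
          fun h => x.2.2 (Subtype.ext h)⟩
        invFun := fun y => ⟨⟨y.1, mem_AS.2 (mem_TS.1 y.2.1).1⟩,
          Subtype.ext (by rw [Subgroup.coe_mul, ← sq]; exact (mem_TS.1 y.2.1).2),
          fun h => y.2.2 (congrArg Subtype.val h)⟩
        left_inv := fun x => rfl
        right_inv := fun y => rfl }
    rw [Nat.card_congr e, Nat.card_coe_set_eq,
      Set.ncard_sdiff_singleton_of_mem (show (1 : WM l) ∈ (TS l : Set (WM l)) from one_mem _),
      ← Nat.card_coe_set_eq, SetLike.coe_sort_coe, TS_card]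

theorem QZ_aut {m : ℕ} (hl : l = 2 ^ m) : ∃ j, Nat.card (MulAut (QZ l)) ∣ 2 ^ j * 3 := by
  let Z : Subgroup (QZ l) := Subgroup.center (QZ l)
  have hchar : ∀ φ : MulAut (QZ l), Z.map φ.toMonoidHom = Z := fun φ =>
    (Subgroup.characteristic_iff_map_eq.1 inferInstance φ)
  have hzc : ∀ p : QZ l, p ∈ Z ↔ ∃ c, (p : WM l) = zc c := by
    intro p
    constructor
    · intro hp
      have := Q0_centralizer (l := l) (Subgroup.mem_centralizer_iff.2 fun q hq =>
        congrArg Subtype.val (Subgroup.mem_center_iff.1 hp ⟨q, q8_range_le hq⟩) : (p : WM l) ∈ _)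
      rw [center_eq] at this
      exact mem_diag.1 this
    · rintro ⟨c, hc⟩
      exact Subgroup.mem_center_iff.2 fun q => Subtype.ext (by
        rw [Subgroup.coe_mul, Subgroup.coe_mul, hc, zc_mul_comm])
  let f : MulAut (QZ l) →* Equiv.Perm {x : QZ l ⧸ Z // x ≠ 1} :=
    { toFun := fun φ => (QuotientGroup.congr Z Z φ (hchar φ)).toEquiv.subtypeEquiv (fun x => by
        simp only [MulEquiv.toEquiv_eq_coe, EquivLike.coe_coe, ne_eq, MulEquiv.map_eq_one_iff])
      map_one' := by
        ext ⟨x, hx⟩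
        obtain ⟨y, rfl⟩ := QuotientGroup.mk_surjective x
        rfl
      map_mul' := fun φ ψ => by
        ext ⟨x, hx⟩
        obtain ⟨y, rfl⟩ := QuotientGroup.mk_surjective x
        rfl }
  refine aut_card_dvd f (fun σ k hk hσ hf => MulEquiv.ext fun x => ?_) (perm_card_dvd ?_)
  · have hXp : IsPGroup 2 (QZ l) := (isPGroup_WM hl).to_subgroup _
    have hinv : ∀ y ∈ Z, σ y ∈ Z := fun y hy => by
      rw [← hchar σ]; exact Subgroup.mem_map_of_mem _ hy
    have hZ := fixed_comm hXp hk hσ Z hinv fun y hy hy2 => by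
      have key : ∀ w ∈ Z, w * w = 1 → w = 1 ∨ ((w : WM l) = zc (hh l)) := by
        intro w hw hw2
        obtain ⟨c, hc⟩ := (hzc w).1 hw
        have h := congrArg Subtype.val hw2
        rw [Subgroup.coe_mul, hc] at h
        have h' := congrArg WM.a h
        simp only [mk_mul_false, OneMemClass.coe_one, one_def] at h'
        rcases two_mul_zero h' with rfl | rfl
        · exact Or.inl (Subtype.ext hc)
        · exact Or.inr hc
      rcases key y hy hy2 with rfl | h
      · exact map_one σ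
      · rcases key (σ y) (hinv y hy) (by rw [← map_mul, hy2, map_one]) with h' | h'
        · rw [MulEquiv.map_eq_one_iff] at h'
          rw [h', map_one]
        · exact Subtype.ext (h'.trans h.symm)
    have hmod : x⁻¹ * σ x ∈ Z := by
      rw [← QuotientGroup.eq_one_iff, QuotientGroup.mk_mul, QuotientGroup.mk_inv, inv_mul_eq_one]
      by_cases h1 : (x : QZ l ⧸ Z) = 1
      · have h2 := hinv x ((QuotientGroup.eq_one_iff _).1 h1)
        rw [h1, eq_comm, QuotientGroup.eq_one_iff]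
        exact h2
      · exact (congrArg Subtype.val (Equiv.congr_fun hf ⟨_, h1⟩)).symm
    have := fixed_of_stab hXp hk hσ (x := x) (w := x⁻¹ * σ x) (by rw [mul_inv_cancel_left])
      (hZ _ hmod)
    rw [inv_mul_eq_one] at this
    exact this.symm
  · classical
    have h1 : Nat.card Z = 4 * l := by
      rw [← Nat.card_zmod (4 * l)]
      refine (Nat.card_eq_of_bijective (fun c => (⟨⟨zc c, Or.inl (sub_self c)⟩, (hzc _).2 ⟨c, rfl⟩⟩ : Z)) ⟨?_, ?_⟩).symm
      · intro c d h
        exact congrArg (fun p : Z => ((p : QZ l) : WM l).a) h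
      · intro p
        obtain ⟨c, hc⟩ := (hzc p.1).1 p.2
        exact ⟨c, Subtype.ext (Subtype.ext hc.symm)⟩
    have h2 : Nat.card (QZ l) = 4 * (4 * l) := by
      have hB : Nat.card Bool = 2 :=
        Nat.card_eq_two_iff.2 ⟨true, false, by simp, by ext v; cases v <;> simp⟩
      rw [show 4 * (4 * l) = Nat.card (Bool × Bool × ZMod (4 * l)) by
        rw [Nat.card_prod, Nat.card_prod, Nat.card_zmod, hB]; ring]
      refine (Nat.card_eq_of_bijective (fun v : Bool × Bool × ZMod (4 * l) =>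
        (⟨⟨v.2.2 + (if v.1 then hh l else 0), v.2.2, v.2.1⟩, by
          rw [mem_QZ]; cases v.1 <;> simp⟩ : QZ l)) ⟨?_, ?_⟩).symm
      · rintro ⟨i, e, b⟩ ⟨i', e', b'⟩ h
        simp only [Subtype.mk.injEq, WM.ext_iff] at h
        obtain ⟨h1, rfl, rfl⟩ := h
        cases i <;> cases i' <;> simp [hh_ne, Ne.symm hh_ne] at h1 ⊢
      · rintro ⟨⟨a, b, e⟩, hp | hp⟩
        · exact ⟨(false, e, b), Subtype.ext (WM.ext (by
            simp only [Bool.false_eq_true, if_false]; linear_combination -hp) rfl rfl)⟩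
        · exact ⟨(true, e, b), Subtype.ext (WM.ext (by
            simp only [if_true]; linear_combination -hp) rfl rfl)⟩
    have h3 := Z.card_eq_card_quotient_mul_card_subgroup
    rw [h1, h2] at h3
    have h4 : Nat.card (QZ l ⧸ Z) = 4 := (Nat.eq_of_mul_eq_mul_right (by have := NeZero.pos l; omega) h3).symm
    have : Fintype (QZ l ⧸ Z) := Fintype.ofFinite _
    rw [Nat.card_eq_fintype_card, Fintype.card_subtype_compl, Fintype.card_subtype_eq,
      ← Nat.card_eq_fintype_card, h4]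

end Cfsg.Agent.QDWreathWrLocal
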