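import Mathlib

/-! Degeneration of a quadratic set `T` along a square-zero element `y`: the leading
coefficients of `(1+Xy) T[X] (1-Xy)`. -/

set_option autoImplicit false

namespace Cfsg.Agent.QuadDegen78

open Polynomial

variable {R : Type*} [Ring R]

/-- Division by two is available by an integer multiple. -/
def Half (R : Type*) [Ring R] : Prop := ∀ x : R, ∃ m : ℕ, m • (x + x) = x

theorem Half.mem (hh : Half R) {S : AddSubgroup R} {x : R} (h : x + x ∈ S) : x ∈ S := by
  obtain ⟨m, hm⟩ := hh x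
  rw [← hm]
  exact S.nsmul_mem h m

theorem Half.exists_half (hh : Half R) (x : R) : ∃ h : R, h + h = x := by
  obtain ⟨m, hm⟩ := hh x
  exact ⟨m • x, by rw [← nsmul_add]; exact hm⟩

theorem Half.eq_zero (hh : Half R) {x : R} (h : x + x = 0) : x = 0 :=
  AddSubgroup.mem_bot.1 (hh.mem (AddSubgroup.mem_bot.2 h))

/-- Polynomials with all coefficients in `T`. -/
def coeffsIn (T : AddSubgroup R) : AddSubgroup R[X] where
  carrier := {P | ∀ i, P.coeff i ∈ T}
  zero_mem' i := by rw [coeff_zero]; exact T.zero_mem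
  add_mem' hP hQ i := by rw [coeff_add]; exact T.add_mem (hP i) (hQ i)
  neg_mem' hP i := by rw [coeff_neg]; exact T.neg_mem (hP i)

theorem mem_coeffsIn {T : AddSubgroup R} {P : R[X]} : P ∈ coeffsIn T ↔ ∀ i, P.coeff i ∈ T :=
  Iff.rfl

theorem X_mul_mem {T : AddSubgroup R} {P : R[X]} (h : P ∈ coeffsIn T) : X * P ∈ coeffsIn T := by
  intro i
  cases i with
  | zero => rw [coeff_X_mul_zero]; exact T.zero_mem
  | succ i => rw [coeff_X_mul]; exact h i

theorem C_mem {T : AddSubgroup R} {a : R} (h : a ∈ T) : C a ∈ coeffsIn T := by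
  intro i
  rw [coeff_C]
  split
  · exact h
  · exact T.zero_mem

theorem mul_X_pow_mem {T : AddSubgroup R} {P : R[X]} (h : P ∈ coeffsIn T) (k : ℕ) :
    P * X ^ k ∈ coeffsIn T := by
  intro i
  rw [coeff_mul_X_pow']
  split
  · exact h _
  · exact T.zero_mem

theorem Half.mem_coeffsIn (hh : Half R) {T : AddSubgroup R} {P : R[X]}
    (h : P + P ∈ coeffsIn T) : P ∈ coeffsIn T := fun i => hh.mem (coeff_add P P i ▸ h i)

/-- Elements whose bracket maps `T` into itself. -/
def brkNorm (T : AddSubgroup R) : AddSubgroup R where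
  carrier := {c | ∀ t ∈ T, c * t - t * c ∈ T}
  zero_mem' t _ := by simp
  add_mem' {a b} ha hb t ht := by
    have e : (a + b) * t - t * (a + b) = (a * t - t * a) + (b * t - t * b) := by noncomm_ring
    rw [e]; exact T.add_mem (ha t ht) (hb t ht)
  neg_mem' {a} ha t ht := by
    have e : -a * t - t * -a = -(a * t - t * a) := by noncomm_ring
    rw [e]; exact T.neg_mem (ha t ht)

theorem mem_brkNorm (hh : Half R) {T : AddSubgroup R} {d : R}
    (h1 : ∀ t ∈ T, (1 + d) * t * (1 - d) ∈ T) (h2 : ∀ t ∈ T, (1 - d) * t * (1 + d) ∈ T) :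
    d ∈ brkNorm T := by
  intro t ht
  apply hh.mem
  have e : (d * t - t * d) + (d * t - t * d) =
      (1 + d) * t * (1 - d) - (1 - d) * t * (1 + d) := by noncomm_ring
  rw [e]; exact T.sub_mem (h1 t ht) (h2 t ht)

theorem bracket_mem {T D : AddSubgroup R} (hD : D ≤ brkNorm T) {P Q : R[X]}
    (hP : P ∈ coeffsIn D) (hQ : Q ∈ coeffsIn T) : P * Q - Q * P ∈ coeffsIn T := by
  intro n
  rw [coeff_sub, coeff_mul, coeff_mul,
    ← Finset.Nat.sum_antidiagonal_swap (f := fun x : ℕ × ℕ => Q.coeff x.1 * P.coeff x.2),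
    ← Finset.sum_sub_distrib]
  refine T.sum_mem fun x _ => ?_
  exact hD (hP x.1) _ (hQ x.2)

/-- The two coefficient changes of `(1+Xy) C a (1-Xy)`. -/
theorem coeff_conj_mem (hh : Half R) {S : AddSubgroup R} {y a : R} (h0 : a ∈ S)
    (hp : (1 + y) * a * (1 - y) ∈ S) (hm : (1 - y) * a * (1 + y) ∈ S) :
    (1 + X * C y) * C a * (1 - X * C y) ∈ coeffsIn S := by
  have h1 : y * a - a * y ∈ S := by
    apply hh.mem
    have e : (y * a - a * y) + (y * a - a * y) =
        (1 + y) * a * (1 - y) - (1 - y) * a * (1 + y) := by noncomm_ring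
    rw [e]; exact S.sub_mem hp hm
  have h2 : y * a * y ∈ S := by
    have e : y * a * y + y * a * y =
        (a + a) - ((1 + y) * a * (1 - y) + (1 - y) * a * (1 + y)) := by noncomm_ring
    apply hh.mem
    rw [e]; exact S.sub_mem (S.add_mem h0 h0) (S.add_mem hp hm)
  have e : (1 + X * C y) * C a * (1 - X * C y) =
      C a + X * C (y * a - a * y) - X * (X * C (y * a * y)) := by
    simp only [map_sub, map_mul]
    have hX : ∀ P : R[X], P * X = X * P := fun P => (X_mul (p := P)).symm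
    have e1 : (1 + X * C y) * C a * (1 - X * C y) =
        C a + X * C y * C a - C a * X * C y - X * (C y * C a * X * C y) := by noncomm_ring
    have e2 : C y * C a * X = X * (C y * C a) := hX _
    rw [e1, hX (C a), e2]
    noncomm_ring
  rw [e]
  exact AddSubgroup.sub_mem _ (AddSubgroup.add_mem _ (C_mem h0) (X_mul_mem (C_mem h1)))
    (X_mul_mem (X_mul_mem (C_mem h2)))

theorem conj_mem_coeffsIn {S : AddSubgroup R} {T : AddSubgroup R} {A B : R[X]}
    (h : ∀ t ∈ T, A * C t * B ∈ coeffsIn S) {P : R[X]} (hP : P ∈ coeffsIn T) :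
    A * P * B ∈ coeffsIn S := by
  have e : A * P * B = ∑ i ∈ P.support, A * C (P.coeff i) * B * X ^ i := by
    conv_lhs => rw [P.as_sum_support_C_mul_X_pow, Finset.mul_sum, Finset.sum_mul]
    refine Finset.sum_congr rfl fun i _ => ?_
    simp only [mul_assoc]
    rw [(commute_X_pow B i).eq]
  rw [e]
  exact AddSubgroup.sum_mem _ fun i _ => mul_X_pow_mem (h _ (hP i)) i

/-- Coefficients of degree `n` of elements of degree at most `n`. -/
def lead (M : AddSubgroup R[X]) (hX : ∀ P ∈ M, X * P ∈ M) : AddSubgroup R where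
  carrier := {r | ∃ (n : ℕ) (P : R[X]), P ∈ M ∧ P.natDegree ≤ n ∧ P.coeff n = r}
  zero_mem' := ⟨0, 0, M.zero_mem, by simp, by simp⟩
  add_mem' {a b} ha hb := by
    obtain ⟨n, P, hP, hPn, rfl⟩ := ha
    obtain ⟨m, Q, hQ, hQm, rfl⟩ := hb
    have shift : ∀ (k : ℕ) (P : R[X]), P ∈ M → X ^ k * P ∈ M := by
      intro k
      induction k with
      | zero => intro P hP; simpa using hP
      | succ k ih => intro P hP; rw [pow_succ', mul_assoc]; exact hX _ (ih P hP)
    refine ⟨n + m, X ^ m * P + X ^ n * Q, M.add_mem (shift m P hP) (shift n Q hQ), ?_, ?_⟩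
    · refine (natDegree_add_le _ _).trans (max_le ?_ ?_)
      · refine natDegree_mul_le.trans ?_
        have := natDegree_X_pow_le (R := R) m
        omega
      · refine natDegree_mul_le.trans ?_
        have := natDegree_X_pow_le (R := R) n
        omega
    · rw [coeff_add, coeff_X_pow_mul, Nat.add_comm n m, coeff_X_pow_mul]
  neg_mem' {a} ha := by
    obtain ⟨n, P, hP, hPn, rfl⟩ := ha
    exact ⟨n, -P, M.neg_mem hP, by simpa using hPn, by simp⟩

theorem lead_le {M : AddSubgroup R[X]} {hX : ∀ P ∈ M, X * P ∈ M} {S : AddSubgroup R}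
    (h : ∀ P ∈ M, P ∈ coeffsIn S) : lead M hX ≤ S := by
  rintro r ⟨n, P, hP, -, rfl⟩
  exact h P hP n

theorem lead_mul {M M' : AddSubgroup R[X]} {hX : ∀ P ∈ M, X * P ∈ M}
    {hX' : ∀ P ∈ M', X * P ∈ M'} (h : ∀ P ∈ M, ∀ Q ∈ M', P * Q = 0) {r s : R}
    (hr : r ∈ lead M hX) (hs : s ∈ lead M' hX') : r * s = 0 := by
  obtain ⟨n, P, hP, hPn, rfl⟩ := hr
  obtain ⟨m, Q, hQ, hQm, rfl⟩ := hs
  rw [← coeff_mul_add_eq_of_natDegree_le hPn hQm, h P hP Q hQ, coeff_zero]

/-- The part of degree `< n`. -/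
def below (M : AddSubgroup R[X]) (n : ℕ) : AddSubgroup R[X] where
  carrier := {P | P ∈ M ∧ ∀ i, n ≤ i → P.coeff i = 0}
  zero_mem' := ⟨M.zero_mem, fun i _ => coeff_zero i⟩
  add_mem' hP hQ := ⟨M.add_mem hP.1 hQ.1, fun i hi => by
    rw [coeff_add, hP.2 i hi, hQ.2 i hi, add_zero]⟩
  neg_mem' hP := ⟨M.neg_mem hP.1, fun i hi => by rw [coeff_neg, hP.2 i hi, neg_zero]⟩

theorem below_finite [Finite R] (M : AddSubgroup R[X]) (n : ℕ) : Finite ↥(below M n) := by
  refine Finite.of_injective (fun P : ↥(below M n) => fun i : Fin n => (P : R[X]).coeff i) ?_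
  intro P Q h
  apply Subtype.ext
  ext i
  by_cases hi : i < n
  · exact congrFun h ⟨i, hi⟩
  · rw [P.2.2 i (not_lt.1 hi), Q.2.2 i (not_lt.1 hi)]

theorem card_below_le [Finite R] (M : AddSubgroup R[X]) (hX : ∀ P ∈ M, X * P ∈ M) (n : ℕ) :
    Nat.card ↥(below M n) ≤ Nat.card ↥(lead M hX) ^ n := by
  induction n with
  | zero =>
    have : below M 0 = ⊥ := by
      rw [eq_bot_iff]
      intro P hP
      exact AddSubgroup.mem_bot.2 (Polynomial.ext fun i => by rw [hP.2 i (Nat.zero_le i), coeff_zero])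
    rw [this, pow_zero, AddSubgroup.card_bot]
  | succ n ih =>
    have := below_finite M (n + 1)
    have := below_finite M n
    have hl : ∀ P : ↥(below M (n + 1)), (P : R[X]).coeff n ∈ lead M hX := fun P =>
      ⟨n, P, P.2.1, natDegree_le_iff_coeff_eq_zero.2 fun i hi => P.2.2 i hi, rfl⟩
    let φ : ↥(below M (n + 1)) →+ ↥(lead M hX) :=
      { toFun := fun P => ⟨(P : R[X]).coeff n, hl P⟩
        map_zero' := Subtype.ext (coeff_zero n)
        map_add' := fun P Q => Subtype.ext (coeff_add _ _ n) }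
    have hker : Nat.card φ.ker ≤ Nat.card ↥(below M n) := by
      refine Nat.card_le_card_of_injective
        (fun P : φ.ker => (⟨(P : ↥(below M (n + 1))), (P : ↥(below M (n + 1))).2.1, fun i hi => ?_⟩ :
          ↥(below M n))) ?_
      · rcases Nat.lt_or_ge n i with hlt | hge
        · exact (P : ↥(below M (n + 1))).2.2 i hlt
        · have hin : i = n := le_antisymm hge hi
          subst hin
          exact congrArg Subtype.val (AddMonoidHom.mem_ker.1 P.2)
      · intro P Q h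
        exact Subtype.ext (Subtype.ext (congrArg (fun Z : ↥(below M n) => (Z : R[X])) h))
    rw [← φ.ker.card_mul_index, AddSubgroup.index_ker, pow_succ]
    exact Nat.mul_le_mul (hker.trans ih) (Nat.card_le_card_of_injective _ Subtype.val_injective)

theorem le_of_forall_pow_le {a b c : ℕ} (hb : 0 < b) (h : ∀ d, a ^ d ≤ b ^ (d + c)) : a ≤ b := by
  by_contra hab
  have h1 : (b + 1) ^ (b ^ (c + 1)) ≤ b ^ (b ^ (c + 1) + c) :=
    (Nat.pow_le_pow_left (not_le.1 hab) _).trans (h _)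
  have key : ∀ d, b ^ d + d * b ^ d ≤ b * (b + 1) ^ d := by
    intro d
    induction d with
    | zero => simpa using Nat.one_le_iff_ne_zero.2 hb.ne'
    | succ d ih =>
      have hd : b ^ d ≤ (b + 1) ^ d := Nat.pow_le_pow_left (Nat.le_succ b) d
      calc b ^ (d + 1) + (d + 1) * b ^ (d + 1)
          = (b ^ d + d * b ^ d) * b + b * b ^ d := by ring
        _ ≤ (b * (b + 1) ^ d) * b + b * (b + 1) ^ d :=
            Nat.add_le_add (Nat.mul_le_mul_right _ ih) (Nat.mul_le_mul_left _ hd)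
        _ = b * (b + 1) ^ (d + 1) := by ring
  set d := b ^ (c + 1) with hd
  have h2 : b * (b + 1) ^ d ≤ b * b ^ (d + c) := Nat.mul_le_mul_left _ h1
  have h3 : b * b ^ (d + c) = d * b ^ d := by
    rw [hd, ← pow_succ', ← pow_add]; congr 1; omega
  have h4 := key d
  have h5 : 0 < b ^ d := pow_pos hb d
  omega

theorem card_le_lead [Finite R] (T : AddSubgroup R) (M : AddSubgroup R[X])
    (hX : ∀ P ∈ M, X * P ∈ M) (f : R[X] →+ R[X]) (hf : Function.Injective f)
    (hM : ∀ P ∈ coeffsIn T, f P ∈ M) (c : ℕ)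
    (hdeg : ∀ P, (f P).natDegree ≤ P.natDegree + c) :
    Nat.card ↥T ≤ Nat.card ↥(lead M hX) := by
  refine le_of_forall_pow_le Nat.card_pos (c := c + 1) fun d => ?_
  refine le_trans ?_ (card_below_le M hX (d + (c + 1)))
  have := below_finite M (d + (c + 1))
  let g : (Fin d → ↥T) → R[X] := fun s => ∑ i : Fin d, C (s i : R) * X ^ (i : ℕ)
  have hg : ∀ s j, (g s).coeff j = if hj : j < d then (s ⟨j, hj⟩ : R) else 0 := by
    intro s j
    simp only [g, finsetSum_coeff, coeff_C_mul, coeff_X_pow]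
    split
    · next hj =>
      rw [Finset.sum_eq_single ⟨j, hj⟩]
      · simp
      · intro i _ hi
        rw [if_neg (fun h => hi (Fin.ext h.symm)), mul_zero]
      · simp
    · next hj =>
      refine Finset.sum_eq_zero fun i _ => ?_
      rw [if_neg (fun h : j = i => hj (h ▸ i.2)), mul_zero]
  have hgT : ∀ s, g s ∈ coeffsIn T := by
    intro s j
    rw [hg]
    split
    · exact SetLike.coe_mem _
    · exact T.zero_mem
  have hgd : ∀ s, (g s).natDegree ≤ d := fun s => natDegree_le_iff_coeff_eq_zero.2 fun i hi => by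
    rw [hg, dif_neg (by omega)]
  have hcard : Nat.card ↥T ^ d = Nat.card (Fin d → ↥T) := by
    rw [Nat.card_fun, Nat.card_fin]
  rw [hcard]
  refine Nat.card_le_card_of_injective
    (fun s => (⟨f (g s), hM _ (hgT s), fun i hi => ?_⟩ : ↥(below M (d + (c + 1))))) ?_
  · refine coeff_eq_zero_of_natDegree_lt ?_
    have := hdeg (g s)
    have := hgd s
    omega
  · intro s s' h
    have h' : g s = g s' := hf (congrArg Subtype.val h)
    funext i
    have h2 := congrArg (fun P : R[X] => P.coeff i) h'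
    simp only [hg, dif_pos i.2] at h2
    exact Subtype.ext h2

/-- `P(X) ↦ P(X+1)`. -/
noncomputable def trans1 (R : Type*) [Ring R] : R[X] →+* R[X] :=
  eval₂RingHom' C (X + 1) fun a => (commute_X (C a)).symm.add_right (Commute.one_right _)

theorem trans1_X : trans1 R X = X + 1 := eval₂_X _ _

theorem trans1_C (a : R) : trans1 R (C a) = C a := eval₂_C _ _

theorem coeff_trans1 {P : R[X]} {n : ℕ} (hP : P.natDegree ≤ n) (m : ℕ) :
    (trans1 R P).coeff m = ∑ i ∈ Finset.range (n + 1), P.coeff i * (i.choose m : R) := by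
  conv_lhs => rw [P.as_sum_range' (n + 1) (Nat.lt_succ_of_le hP)]
  rw [map_sum, finsetSum_coeff]
  refine Finset.sum_congr rfl fun i _ => ?_
  rw [← C_mul_X_pow_eq_monomial, map_mul, map_pow, trans1_C, trans1_X, coeff_C_mul,
    coeff_X_add_one_pow]

theorem trans1_mem {T : AddSubgroup R} {P : R[X]} (hP : P ∈ coeffsIn T) :
    trans1 R P ∈ coeffsIn T := by
  intro m
  rw [coeff_trans1 le_rfl]
  refine T.sum_mem fun i _ => ?_
  rw [← Nat.cast_comm, ← nsmul_eq_mul]
  exact T.nsmul_mem (hP i) _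

theorem natDegree_trans1 {P : R[X]} {n : ℕ} (hP : P.natDegree ≤ n) :
    (trans1 R P).natDegree ≤ n := by
  refine natDegree_le_iff_coeff_eq_zero.2 fun m hm => ?_
  rw [coeff_trans1 hP]
  refine Finset.sum_eq_zero fun i hi => ?_
  rw [Nat.choose_eq_zero_of_lt (by have := Finset.mem_range.1 hi; omega), Nat.cast_zero, mul_zero]

theorem lead_trans1 {P : R[X]} {n : ℕ} (hP : P.natDegree ≤ n) :
    (trans1 R P).coeff n = P.coeff n := by
  rw [coeff_trans1 hP, Finset.sum_eq_single n]
  · rw [Nat.choose_self, Nat.cast_one, mul_one]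
  · intro i hi hne
    rw [Nat.choose_eq_zero_of_lt (by have := Finset.mem_range.1 hi; omega), Nat.cast_zero, mul_zero]
  · simp

variable (y : R)

/-- `1 + X y`. -/
noncomputable def up : R[X] := 1 + X * C y

/-- `1 - X y`. -/
noncomputable def dn : R[X] := 1 - X * C y

theorem Xy_sq {y : R} (hy : y * y = 0) : (X * C y) * (X * C y) = 0 := by
  rw [mul_assoc, ← mul_assoc (C y), ← X_mul (p := C y), mul_assoc X (C y), ← map_mul, hy,
    map_zero, mul_zero, mul_zero]

theorem up_dn {y : R} (hy : y * y = 0) : up y * dn y = 1 := by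
  have h := Xy_sq hy
  have e : up y * dn y = 1 - (X * C y) * (X * C y) := by rw [up, dn]; noncomm_ring
  rw [e, h, sub_zero]

theorem dn_up {y : R} (hy : y * y = 0) : dn y * up y = 1 := by
  have h := Xy_sq hy
  have e : dn y * up y = 1 - (X * C y) * (X * C y) := by rw [up, dn]; noncomm_ring
  rw [e, h, sub_zero]

/-- `P ↦ (1+Xy) P (1-Xy)`. -/
noncomputable def cj : R[X] →+ R[X] :=
  (AddMonoidHom.mulRight (dn y)).comp (AddMonoidHom.mulLeft (up y))

theorem cj_apply (P : R[X]) : cj y P = up y * P * dn y := rfl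

/-- The degeneration of `T` along `y`. -/
noncomputable def sat (T : AddSubgroup R) : AddSubgroup R[X] := (coeffsIn T).map (cj y)

theorem sat_X (T : AddSubgroup R) : ∀ P ∈ sat y T, X * P ∈ sat y T := by
  rintro _ ⟨P, hP, rfl⟩
  refine ⟨X * P, X_mul_mem hP, ?_⟩
  rw [cj_apply, cj_apply, ← mul_assoc (up y) X P, ← X_mul (p := up y)]
  simp only [mul_assoc]

/-- The degenerate limit. -/
noncomputable def lim (T : AddSubgroup R) : AddSubgroup R := lead (sat y T) (sat_X y T)

/-- The degeneration of a set of vectors. -/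
noncomputable def satL (K : AddSubgroup R) : AddSubgroup R[X] :=
  (coeffsIn K).map (AddMonoidHom.mulLeft (up y))

theorem satL_X (K : AddSubgroup R) : ∀ P ∈ satL y K, X * P ∈ satL y K := by
  rintro _ ⟨P, hP, rfl⟩
  refine ⟨X * P, X_mul_mem hP, ?_⟩
  simp only [AddMonoidHom.coe_mulLeft]
  rw [← mul_assoc, ← X_mul (p := up y), mul_assoc]

/-- The degenerate limit of a set of vectors. -/
noncomputable def limL (K : AddSubgroup R) : AddSubgroup R := lead (satL y K) (satL_X y K)

variable {y}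

theorem mul_eq_zero_of_coeffs {T K : AddSubgroup R} (h : ∀ a ∈ T, ∀ b ∈ K, a * b = 0)
    {P Q : R[X]} (hP : P ∈ coeffsIn T) (hQ : Q ∈ coeffsIn K) : P * Q = 0 := by
  ext n
  rw [coeff_mul, coeff_zero]
  exact Finset.sum_eq_zero fun x _ => h _ (hP x.1) _ (hQ x.2)

theorem lim_mul (hy : y * y = 0) {T : AddSubgroup R} (h : ∀ a ∈ T, ∀ b ∈ T, a * b = 0)
    {r s : R} (hr : r ∈ lim y T) (hs : s ∈ lim y T) : r * s = 0 := by
  refine lead_mul ?_ hr hs
  rintro _ ⟨P, hP, rfl⟩ _ ⟨Q, hQ, rfl⟩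
  rw [cj_apply, cj_apply]
  have e : up y * P * dn y * (up y * Q * dn y) = up y * (P * (dn y * up y) * Q) * dn y := by
    noncomm_ring
  rw [e, dn_up hy, mul_one, mul_eq_zero_of_coeffs h hP hQ, mul_zero, zero_mul]

theorem lim_mul_limL (hy : y * y = 0) {T K : AddSubgroup R} (h : ∀ a ∈ T, ∀ b ∈ K, a * b = 0)
    {r s : R} (hr : r ∈ lim y T) (hs : s ∈ limL y K) : r * s = 0 := by
  refine lead_mul ?_ hr hs
  rintro _ ⟨P, hP, rfl⟩ _ ⟨Q, hQ, rfl⟩
  rw [cj_apply, AddMonoidHom.coe_mulLeft]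
  have e : up y * P * dn y * (up y * Q) = up y * (P * (dn y * up y) * Q) := by noncomm_ring
  rw [e, dn_up hy, mul_one, mul_eq_zero_of_coeffs h hP hQ, mul_zero]

theorem card_le_lim [Finite R] (hy : y * y = 0) (T : AddSubgroup R) :
    Nat.card ↥T ≤ Nat.card ↥(lim y T) := by
  refine card_le_lead T _ _ (cj y) ?_ (fun P hP => ⟨P, hP, rfl⟩) 2 fun P => ?_
  · intro P Q h
    have h2 := congrArg (fun Z => dn y * Z * up y) h
    simp only [cj_apply] at h2
    rw [← mul_assoc, ← mul_assoc, dn_up hy, one_mul, mul_assoc, dn_up hy, mul_one,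
      ← mul_assoc, ← mul_assoc, dn_up hy, one_mul, mul_assoc, dn_up hy, mul_one] at h2
    exact h2
  · have hu : (up y).natDegree ≤ 1 := by
      refine natDegree_le_iff_coeff_eq_zero.2 fun i hi => ?_
      obtain ⟨j, rfl⟩ : ∃ j, i = j + 1 := ⟨i - 1, by omega⟩
      rw [up, coeff_add, coeff_X_mul, coeff_one, coeff_C, if_neg (by omega), if_neg (by omega),
        add_zero]
    have hd : (dn y).natDegree ≤ 1 := by
      refine natDegree_le_iff_coeff_eq_zero.2 fun i hi => ?_
      obtain ⟨j, rfl⟩ : ∃ j, i = j + 1 := ⟨i - 1, by omega⟩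
      rw [dn, coeff_sub, coeff_X_mul, coeff_one, coeff_C, if_neg (by omega), if_neg (by omega),
        sub_zero]
    rw [cj_apply]
    have h1 := natDegree_mul_le (p := up y * P) (q := dn y)
    have h2 := natDegree_mul_le (p := up y) (q := P)
    omega

theorem card_le_limL [Finite R] (hy : y * y = 0) (K : AddSubgroup R) :
    Nat.card ↥K ≤ Nat.card ↥(limL y K) := by
  refine card_le_lead K _ _ (AddMonoidHom.mulLeft (up y)) ?_ (fun P hP => ⟨P, hP, rfl⟩) 1
    fun P => ?_
  · intro P Q h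
    have h2 := congrArg (fun Z => dn y * Z) h
    simp only [AddMonoidHom.coe_mulLeft, ← mul_assoc, dn_up hy, one_mul] at h2
    exact h2
  · have hu : (up y).natDegree ≤ 1 := by
      refine natDegree_le_iff_coeff_eq_zero.2 fun i hi => ?_
      obtain ⟨j, rfl⟩ : ∃ j, i = j + 1 := ⟨i - 1, by omega⟩
      rw [up, coeff_add, coeff_X_mul, coeff_one, coeff_C, if_neg (by omega), if_neg (by omega),
        add_zero]
    have h2 := natDegree_mul_le (p := up y) (q := P)
    rw [AddMonoidHom.coe_mulLeft]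
    omega

theorem lim_le (hh : Half R) {T S : AddSubgroup R} (h0 : ∀ a ∈ T, a ∈ S)
    (hp : ∀ a ∈ T, (1 + y) * a * (1 - y) ∈ S) (hm : ∀ a ∈ T, (1 - y) * a * (1 + y) ∈ S) :
    lim y T ≤ S := by
  refine lead_le ?_
  rintro _ ⟨P, hP, rfl⟩
  exact conj_mem_coeffsIn (fun a ha => coeff_conj_mem hh (h0 a ha) (hp a ha) (hm a ha)) hP

theorem limL_le {K N : AddSubgroup R} (h0 : K ≤ N) (hy : ∀ v ∈ N, y * v ∈ N) :
    limL y K ≤ N := by
  refine lead_le ?_
  rintro _ ⟨P, hP, rfl⟩
  rw [AddMonoidHom.coe_mulLeft, up, add_mul, one_mul, mul_assoc]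
  refine AddSubgroup.add_mem _ (fun i => h0 (hP i)) (X_mul_mem fun i => ?_)
  rw [coeff_C_mul]
  exact hy _ (h0 (hP i))

theorem lim_conj_self (hy : y * y = 0) {T : AddSubgroup R} {r : R} (hr : r ∈ lim y T) :
    (1 - y) * r * (1 + y) ∈ lim y T := by
  obtain ⟨n, F, hF, hn, rfl⟩ := hr
  obtain ⟨P, hP, rfl⟩ := hF
  refine ⟨n, cj y (trans1 R P), ⟨_, trans1_mem hP, rfl⟩, ?_⟩
  have h1 : trans1 R (up y) = C (1 + y) * up y := by
    rw [up, map_add, map_mul, map_one, trans1_X, trans1_C, map_add, map_one]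
    have e : (1 + C y) * (1 + X * C y) = 1 + (X + 1) * C y + C y * X * C y := by noncomm_ring
    have e2 : C y * X * C y = 0 := by
      rw [← X_mul (p := C y), mul_assoc, ← map_mul, hy, map_zero, mul_zero]
    rw [e, e2, add_zero]
  have h2 : trans1 R (dn y) = dn y * C (1 - y) := by
    rw [dn, map_sub, map_mul, map_one, trans1_X, trans1_C, map_sub, map_one]
    have e : (1 - X * C y) * (1 - C y) = 1 - (X + 1) * C y + X * (C y * C y) := by noncomm_ring
    rw [e, ← map_mul, hy, map_zero, mul_zero, add_zero]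
  have hsq1 : (1 - y) * (1 + y) = 1 := by
    have e : (1 - y) * (1 + y) = 1 - y * y := by noncomm_ring
    rw [e, hy, sub_zero]
  have key : cj y (trans1 R P) = C (1 - y) * trans1 R (cj y P) * C (1 + y) := by
    rw [cj_apply, cj_apply, map_mul, map_mul, h1, h2]
    have e : C (1 - y) * (C (1 + y) * up y * trans1 R P * (dn y * C (1 - y))) * C (1 + y) =
        (C (1 - y) * C (1 + y)) * up y * trans1 R P * dn y * (C (1 - y) * C (1 + y)) := by
      simp only [mul_assoc]
    rw [e, ← map_mul, hsq1, map_one, one_mul, mul_one]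
  rw [key]
  refine ⟨?_, ?_⟩
  · have := natDegree_trans1 hn
    exact ((natDegree_mul_C_le _ _).trans (natDegree_C_mul_le _ _)).trans this
  · rw [coeff_mul_C, coeff_C_mul, lead_trans1 hn]

theorem lim_conj_norm (hh : Half R) (hy : y * y = 0) {T : AddSubgroup R} {d : R}
    (hd : d * d = 0) (h0 : d ∈ brkNorm T) (hp : (1 + y) * d * (1 - y) ∈ brkNorm T)
    (hm : (1 - y) * d * (1 + y) ∈ brkNorm T) {r : R} (hr : r ∈ lim y T) :
    (1 + d) * r * (1 - d) ∈ lim y T := by
  obtain ⟨n, F, hF, hn, rfl⟩ := hr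
  obtain ⟨P, hP, rfl⟩ := hF
  set E := dn y * C d * up y with hE
  have hEm : E ∈ coeffsIn (brkNorm T) := by
    have h := coeff_conj_mem (y := -y) hh h0 (S := brkNorm T) (by simpa [← sub_eq_add_neg] using hm)
      (by simpa [← sub_eq_add_neg] using hp)
    rw [hE, dn, up]
    simpa [map_neg, mul_neg, ← sub_eq_add_neg] using h
  have hEE : E * E = 0 := by
    have e : E * E = dn y * (C d * (up y * dn y) * C d) * up y := by rw [hE]; noncomm_ring
    rw [e, up_dn hy, mul_one, ← map_mul, hd, map_zero, mul_zero, zero_mul]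
  have hb := bracket_mem le_rfl hEm hP
  have hbb := bracket_mem le_rfl hEm hb
  have hP' : (1 + E) * P * (1 - E) ∈ coeffsIn T := by
    apply hh.mem_coeffsIn
    have e : (1 + E) * P * (1 - E) + (1 + E) * P * (1 - E) = P + P + (E * P - P * E) +
        (E * P - P * E) + (E * (E * P - P * E) - (E * P - P * E) * E) - E * E * P - P * (E * E) := by
      noncomm_ring
    rw [e, hEE, zero_mul, mul_zero, sub_zero, sub_zero]
    exact AddSubgroup.add_mem _ (AddSubgroup.add_mem _ (AddSubgroup.add_mem _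
      (AddSubgroup.add_mem _ hP hP) hb) hb) hbb
  refine ⟨n, cj y ((1 + E) * P * (1 - E)), ⟨_, hP', rfl⟩, ?_⟩
  have hL : up y * (1 + E) = C (1 + d) * up y := by
    have e : up y * (1 + E) = up y + (up y * dn y) * C d * up y := by rw [hE]; noncomm_ring
    rw [e, up_dn hy, one_mul, map_add, map_one, add_mul, one_mul]
  have hR : (1 - E) * dn y = dn y * C (1 - d) := by
    have e : (1 - E) * dn y = dn y - dn y * C d * (up y * dn y) := by rw [hE]; noncomm_ring
    rw [e, up_dn hy, mul_one, map_sub, map_one, mul_sub, mul_one]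
  have key : cj y ((1 + E) * P * (1 - E)) = C (1 + d) * cj y P * C (1 - d) := by
    rw [cj_apply, cj_apply]
    calc up y * ((1 + E) * P * (1 - E)) * dn y
        = (up y * (1 + E)) * P * ((1 - E) * dn y) := by noncomm_ring
      _ = C (1 + d) * (up y * P * dn y) * C (1 - d) := by rw [hL, hR]; noncomm_ring
  rw [key]
  exact ⟨((natDegree_mul_C_le _ _).trans (natDegree_C_mul_le _ _)).trans hn,
    by rw [coeff_mul_C, coeff_C_mul]⟩

/-- `1 + x` factors when `x` is a square-zero sum from three pairwise normalising pieces. -/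
theorem factor (hh : Half R) {T0 T1 T2 : AddSubgroup R} {s0 s1 s2 : R}
    (h0 : s0 ∈ T0) (h2 : s2 ∈ T2)
    (q0 : ∀ a ∈ T0, ∀ b ∈ T0, a * b = 0) (q1 : ∀ a ∈ T1, ∀ b ∈ T1, a * b = 0)
    (q2 : ∀ a ∈ T2, ∀ b ∈ T2, a * b = 0)
    (h1 : s1 ∈ T1) (b01 : s0 * s1 - s1 * s0 ∈ T0) (b10 : s0 * s1 - s1 * s0 ∈ T1)
    (b20 : s0 ∈ brkNorm T2) (b21 : s1 ∈ brkNorm T2)
    (hx : (s0 + s1 + s2) * (s0 + s1 + s2) = 0) :
    ∃ u0 ∈ T0, ∃ u2 ∈ T2, (1 + u0) * (1 + s1) * (1 + u2) = 1 + (s0 + s1 + s2) := by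
  have e00 := q0 _ h0 _ h0
  have e11 := q1 _ h1 _ h1
  have e22 := q2 _ h2 _ h2
  have e010 : s0 * s1 * s0 = 0 := by
    have := q0 _ h0 _ b01
    rw [mul_sub, ← mul_assoc, e00, zero_mul, zero_sub, neg_eq_zero, ← mul_assoc] at this
    exact this
  have e101 : s1 * s0 * s1 = 0 := by
    have := q1 _ h1 _ b10
    rw [mul_sub, ← mul_assoc, ← mul_assoc, e11, zero_mul, sub_zero] at this
    exact this
  set z := s0 * s1 - s1 * s0 with hz
  have ez1 : z * s1 = 0 := q1 _ b10 _ h1
  obtain ⟨w, hw⟩ := hh.exists_half z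
  have hwT : w ∈ T0 := hh.mem (hw ▸ b01)
  have hw1 : w * s1 = 0 := hh.eq_zero (by rw [← add_mul, hw, ez1])
  set a := s0 + s1 with ha
  have ea2 : a * a = s0 * s1 + s1 * s0 := by
    have e : a * a = s0 * s0 + s1 * s1 + (s0 * s1 + s1 * s0) := by rw [ha]; noncomm_ring
    rw [e, e00, e11, zero_add, zero_add]
  have ea3 : a * (a * a) = 0 := by
    rw [ea2, ha]
    have e : (s0 + s1) * (s0 * s1 + s1 * s0) =
        s0 * s0 * s1 + s0 * s1 * s0 + s1 * s0 * s1 + s1 * s1 * s0 := by noncomm_ring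
    rw [e, e00, e11, e010, e101, zero_mul, zero_mul, add_zero, add_zero, add_zero]
  set h := s0 * s1 - w with hhdef
  have hh2 : h + h = a * a := by
    have e : h + h = s0 * s1 + s0 * s1 - (w + w) := by rw [hhdef]; abel
    rw [e, hw, ea2, hz]; abel
  have hah : a * h = 0 := hh.eq_zero (by rw [← mul_add, hh2, ea3])
  have hha : h * a = 0 := hh.eq_zero (by rw [← add_mul, hh2, mul_assoc, ea3])
  have hhh : h * h = 0 := hh.eq_zero (by rw [← mul_add, hh2, ← mul_assoc, hha, zero_mul])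
  have hu : (1 + (s0 - w)) * (1 + s1) = 1 + a + h := by
    have e : (1 + (s0 - w)) * (1 + s1) = 1 + (s0 + s1) + (s0 * s1 - w) - w * s1 := by noncomm_ring
    rw [e, hw1, sub_zero]
  have hca : s2 * a = -(a * a) - a * s2 := by
    have e : (a + s2) * (a + s2) = s2 * a + (a * a + a * s2) + s2 * s2 := by noncomm_ring
    rw [hx, e22, add_zero] at e
    rw [eq_neg_of_add_eq_zero_left e.symm]; abel
  have haca : a * s2 * a = -(a * a * s2) := by
    rw [mul_assoc, hca, mul_sub, mul_neg, ea3, neg_zero, zero_sub, ← mul_assoc]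
  have hcaa : s2 * a * a = a * a * s2 := by
    rw [hca, sub_mul, neg_mul, mul_assoc a a a, ea3, neg_zero, zero_sub, haca, neg_neg]
  have hbr : a * s2 - s2 * a ∈ T2 := by
    have e : a * s2 - s2 * a = (s0 * s2 - s2 * s0) + (s1 * s2 - s2 * s1) := by
      rw [ha]; noncomm_ring
    rw [e]; exact T2.add_mem (b20 _ h2) (b21 _ h2)
  have hbr2 : a * (a * s2 - s2 * a) - (a * s2 - s2 * a) * a ∈ T2 := by
    have e : a * (a * s2 - s2 * a) - (a * s2 - s2 * a) * a =
        (s0 * (a * s2 - s2 * a) - (a * s2 - s2 * a) * s0) +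
        (s1 * (a * s2 - s2 * a) - (a * s2 - s2 * a) * s1) := by rw [ha]; noncomm_ring
    rw [e]; exact T2.add_mem (b20 _ hbr) (b21 _ hbr)
  have hhc : h * s2 ∈ T2 := by
    apply hh.mem
    rw [← add_mul, hh2]
    apply hh.mem
    apply hh.mem
    have e : a * (a * s2 - s2 * a) - (a * s2 - s2 * a) * a =
        a * a * s2 - a * s2 * a - a * s2 * a + s2 * a * a := by noncomm_ring
    rw [e, haca, hcaa] at hbr2
    convert hbr2 using 1
    abel
  have hm : -h - a * s2 ∈ T2 := by
    apply hh.mem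
    have e : -h - a * s2 + (-h - a * s2) = -(h + h) - a * s2 - a * s2 := by abel
    have e2 : s2 * a - a * s2 = -(a * a) - a * s2 - a * s2 := by rw [hca]
    rw [e, hh2, ← e2, ← neg_sub]
    exact T2.neg_mem hbr
  refine ⟨s0 - w, T0.sub_mem h0 hwT, s2 + (-h - a * s2) + h * s2,
    T2.add_mem (T2.add_mem h2 hm) hhc, ?_⟩
  rw [hu]
  have e : (1 + a + h) * (1 + (s2 + (-h - a * s2) + h * s2)) =
      1 + (a + s2) + ((h + h) * s2 - a * a * s2) - a * h + (a * h) * s2 - h * h + (h * h) * s2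
        - (h * a) * s2 := by noncomm_ring
  rw [e, hh2, hah, hhh, hha, sub_self, zero_mul]
  abel

end Cfsg.Agent.QuadDegen78
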