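import Mathlib
import Cfsg.Agent.Lib.QuadDegen78

/-! A quadratic offender with maximal quadratic normaliser is two-subnormal. -/

set_option autoImplicit false

namespace Cfsg.Agent.QuadDegenMax78

open Cfsg.Agent.QuadDegen78

variable {R : Type*} [Ring R]

/-- `A` is quadratic. -/
def Quad (A : Subgroup Rˣ) : Prop := ∀ a ∈ A, ∀ b ∈ A, ((a : R) - 1) * ((b : R) - 1) = 0

/-- The additive group spanned by `a - 1`, `a ∈ A`. -/
def logT (A : Subgroup Rˣ) : AddSubgroup R :=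
  AddSubgroup.closure {x | ∃ a ∈ A, (a : R) - 1 = x}

theorem logT_mem_self {A : Subgroup Rˣ} {a : Rˣ} (ha : a ∈ A) : (a : R) - 1 ∈ logT A :=
  AddSubgroup.subset_closure ⟨a, ha, rfl⟩

theorem inv_eq {a : Rˣ} (h : ((a : R) - 1) * ((a : R) - 1) = 0) :
    ((a⁻¹ : Rˣ) : R) = 1 - ((a : R) - 1) := by
  refine Units.inv_eq_of_mul_eq_one_right ?_
  have e : (a : R) * (1 - ((a : R) - 1)) = 1 - ((a : R) - 1) * ((a : R) - 1) := by noncomm_ring
  rw [e, h, sub_zero]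

theorem mul_sub_one {a b : Rˣ} (h : ((a : R) - 1) * ((b : R) - 1) = 0) :
    ((a * b : Rˣ) : R) - 1 = ((a : R) - 1) + ((b : R) - 1) := by
  have e : ((a * b : Rˣ) : R) - 1 =
      ((a : R) - 1) + ((b : R) - 1) + ((a : R) - 1) * ((b : R) - 1) := by
    rw [Units.val_mul]; noncomm_ring
  rw [e, h, add_zero]

theorem mem_logT {A : Subgroup Rˣ} (hA : Quad A) {x : R} :
    x ∈ logT A ↔ ∃ a ∈ A, (a : R) - 1 = x := by
  refine ⟨fun hx => ?_, fun ⟨a, ha, e⟩ => e ▸ logT_mem_self ha⟩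
  induction hx using AddSubgroup.closure_induction with
  | mem x hx => exact hx
  | zero => exact ⟨1, A.one_mem, by simp⟩
  | add x y _ _ hx hy =>
    obtain ⟨a, ha, rfl⟩ := hx
    obtain ⟨b, hb, rfl⟩ := hy
    exact ⟨a * b, A.mul_mem ha hb, mul_sub_one (hA a ha b hb)⟩
  | neg x _ hx =>
    obtain ⟨a, ha, rfl⟩ := hx
    refine ⟨a⁻¹, A.inv_mem ha, ?_⟩
    rw [inv_eq (hA a ha a ha)]; abel

theorem logT_mul {A : Subgroup Rˣ} (hA : Quad A) :
    ∀ s ∈ logT A, ∀ t ∈ logT A, s * t = 0 := by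
  intro s hs t ht
  obtain ⟨a, ha, rfl⟩ := (mem_logT hA).1 hs
  obtain ⟨b, hb, rfl⟩ := (mem_logT hA).1 ht
  exact hA a ha b hb

theorem card_logT {A : Subgroup Rˣ} (hA : Quad A) : Nat.card ↥(logT A) = Nat.card ↥A := by
  symm
  refine Nat.card_eq_of_bijective (fun a : ↥A => (⟨_, logT_mem_self a.2⟩ : ↥(logT A))) ⟨?_, ?_⟩
  · intro a b h
    exact Subtype.ext (Units.ext (sub_left_injective (congrArg Subtype.val h)))
  · rintro ⟨x, hx⟩
    obtain ⟨a, ha, rfl⟩ := (mem_logT hA).1 hx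
    exact ⟨⟨a, ha⟩, rfl⟩

theorem mem_normalizer_of_conj [Finite R] {A : Subgroup Rˣ} {g : Rˣ}
    (h : ∀ a ∈ A, g * a * g⁻¹ ∈ A) : g ∈ Subgroup.normalizer (A : Set Rˣ) := by
  rw [Subgroup.mem_normalizer_iff]
  intro a
  refine ⟨h a, fun ha => ?_⟩
  obtain ⟨⟨b, hb⟩, hbb⟩ := (Finite.injective_iff_surjective
    (f := fun a : ↥A => (⟨g * a * g⁻¹, h a a.2⟩ : ↥A))).1
    (fun x y e => Subtype.ext (by simpa using congrArg Subtype.val e)) ⟨_, ha⟩
  have e := congrArg Subtype.val hbb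
  simp only [mul_left_inj, mul_right_inj] at e
  exact e ▸ hb

theorem conj_val {d a : Rˣ} (hd : ((d : R) - 1) * ((d : R) - 1) = 0) :
    ((d * a * d⁻¹ : Rˣ) : R) - 1 =
      (1 + ((d : R) - 1)) * ((a : R) - 1) * (1 - ((d : R) - 1)) := by
  rw [Units.val_mul, Units.val_mul, inv_eq hd]
  have e : (1 + ((d : R) - 1)) * ((a : R) - 1) * (1 - ((d : R) - 1)) =
      (d : R) * (a : R) * (1 - ((d : R) - 1)) - 1 + ((d : R) - 1) * ((d : R) - 1) := by
    noncomm_ring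
  rw [e, hd, add_zero]

theorem conj_val' {d a : Rˣ} (hd : ((d : R) - 1) * ((d : R) - 1) = 0) :
    ((d⁻¹ * a * d : Rˣ) : R) - 1 =
      (1 - ((d : R) - 1)) * ((a : R) - 1) * (1 + ((d : R) - 1)) := by
  rw [Units.val_mul, Units.val_mul, inv_eq hd]
  have e : (1 - ((d : R) - 1)) * ((a : R) - 1) * (1 + ((d : R) - 1)) =
      (1 - ((d : R) - 1)) * (a : R) * (d : R) - 1 + ((d : R) - 1) * ((d : R) - 1) := by
    noncomm_ring
  rw [e, hd, add_zero]

theorem conj_sq {g d : Rˣ} (hd : ((d : R) - 1) * ((d : R) - 1) = 0) :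
    (((g * d * g⁻¹ : Rˣ) : R) - 1) * (((g * d * g⁻¹ : Rˣ) : R) - 1) = 0 := by
  have e : ((g * d * g⁻¹ : Rˣ) : R) - 1 = (g : R) * ((d : R) - 1) * ((g⁻¹ : Rˣ) : R) := by
    rw [Units.val_mul, Units.val_mul, mul_sub, sub_mul, mul_one, Units.mul_inv]
  rw [e]
  calc (g : R) * ((d : R) - 1) * ((g⁻¹ : Rˣ) : R) * ((g : R) * ((d : R) - 1) * ((g⁻¹ : Rˣ) : R))
      = (g : R) * (((d : R) - 1) * (((g⁻¹ : Rˣ) : R) * (g : R)) * ((d : R) - 1)) *
          ((g⁻¹ : Rˣ) : R) := by noncomm_ring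
    _ = 0 := by rw [Units.inv_mul, mul_one, hd, mul_zero, zero_mul]

theorem brk_of_norm (hh : Half R) {A : Subgroup Rˣ} (hA : Quad A) {d : Rˣ}
    (hd : ((d : R) - 1) * ((d : R) - 1) = 0) (hn : d ∈ Subgroup.normalizer (A : Set Rˣ)) :
    (d : R) - 1 ∈ brkNorm (logT A) := by
  refine mem_brkNorm hh ?_ ?_ <;> intro t ht <;> obtain ⟨a, ha, rfl⟩ := (mem_logT hA).1 ht
  · rw [← conj_val hd]
    exact logT_mem_self ((Subgroup.mem_normalizer_iff.1 hn a).1 ha)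
  · rw [← conj_val' hd]
    exact logT_mem_self ((Subgroup.mem_normalizer_iff''.1 hn a).1 ha)

/-- Fixed points of `A` in `N`. -/
def fixN (N : AddSubgroup R) (A : Subgroup Rˣ) : AddSubgroup R where
  carrier := {n | n ∈ N ∧ ∀ a ∈ A, (a : R) * n = n}
  zero_mem' := ⟨N.zero_mem, fun a _ => mul_zero _⟩
  add_mem' hx hy := ⟨N.add_mem hx.1 hy.1, fun a ha => by rw [mul_add, hx.2 a ha, hy.2 a ha]⟩
  neg_mem' hx := ⟨N.neg_mem hx.1, fun a ha => by rw [mul_neg, hx.2 a ha]⟩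

/-- The subgroup generated by the quadratic elements of `H` normalising `A`. -/
def wCl (H A : Subgroup Rˣ) : Subgroup Rˣ :=
  Subgroup.closure {d | d ∈ H ∧ ((d : R) - 1) * ((d : R) - 1) = 0 ∧
    d ∈ Subgroup.normalizer (A : Set Rˣ)}

theorem wCl_le {H A : Subgroup Rˣ} : wCl H A ≤ Subgroup.normalizer (A : Set Rˣ) :=
  (Subgroup.closure_le _).2 fun _ hd => hd.2.2

theorem wCl_le_H {H A : Subgroup Rˣ} : wCl H A ≤ H :=
  (Subgroup.closure_le _).2 fun _ hd => hd.1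

theorem le_wCl {H A : Subgroup Rˣ} (hAH : A ≤ H) (hA : Quad A) : A ≤ wCl H A := fun a ha =>
  Subgroup.subset_closure ⟨hAH ha, hA a ha a ha, Subgroup.le_normalizer ha⟩

variable [Finite R]

/-- One degeneration step. -/
theorem step (hh : Half R) {H : Subgroup Rˣ} {N : AddSubgroup R}
    (hN : ∀ h ∈ H, ∀ v ∈ N, (h : R) * v ∈ N) {A : Subgroup Rˣ} (hAH : A ≤ H) (hA : Quad A)
    (hne : A ≠ ⊥) {b : Rˣ} (hbH : b ∈ H) (hb : ((b : R) - 1) * ((b : R) - 1) = 0)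
    (hbW : b ∈ Subgroup.normalizer (wCl H A : Set Rˣ)) :
    ∃ A' : Subgroup Rˣ, A' ≤ H ∧ A' ≠ ⊥ ∧ Quad A' ∧
      Nat.card ↥A * Nat.card ↥(fixN N A) ≤ Nat.card ↥A' * Nat.card ↥(fixN N A') ∧
      b ∈ Subgroup.normalizer (A' : Set Rˣ) ∧ wCl H A ≤ wCl H A' := by
  classical
  set W := wCl H A with hW
  set y := (b : R) - 1 with hy
  set T := logT A with hT
  have hTT : ∀ s ∈ T, ∀ t ∈ T, s * t = 0 := logT_mul hA
  set Ap : Subgroup Rˣ := A.map (MulAut.conj b).toMonoidHom with hAp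
  set Am : Subgroup Rˣ := A.map (MulAut.conj b⁻¹).toMonoidHom with hAm
  have quad_map : ∀ g : Rˣ, Quad (A.map (MulAut.conj g).toMonoidHom) := by
    rintro g _ ⟨a, ha, rfl⟩ _ ⟨c, hc, rfl⟩
    have e : ∀ a : Rˣ, ((MulAut.conj g a : Rˣ) : R) - 1 =
        (g : R) * ((a : R) - 1) * ((g⁻¹ : Rˣ) : R) := fun a => by
      rw [MulAut.conj_apply, Units.val_mul, Units.val_mul, mul_sub, sub_mul, mul_one, Units.mul_inv]
    simp only [MulEquiv.coe_toMonoidHom]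
    rw [e, e]
    calc (g : R) * ((a : R) - 1) * ((g⁻¹ : Rˣ) : R) * ((g : R) * ((c : R) - 1) * ((g⁻¹ : Rˣ) : R))
        = (g : R) * (((a : R) - 1) * (((g⁻¹ : Rˣ) : R) * (g : R)) * ((c : R) - 1)) *
            ((g⁻¹ : Rˣ) : R) := by noncomm_ring
      _ = 0 := by rw [Units.inv_mul, mul_one, hA a ha c hc, mul_zero, zero_mul]
  have map_le : ∀ g ∈ Subgroup.normalizer (W : Set Rˣ),
      A.map (MulAut.conj g).toMonoidHom ≤ W := by
    rintro g hg _ ⟨a, ha, rfl⟩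
    exact (Subgroup.mem_normalizer_iff.1 hg a).1 (le_wCl hAH hA ha)
  have map_norm : ∀ g ∈ Subgroup.normalizer (W : Set Rˣ),
      W ≤ Subgroup.normalizer ((A.map (MulAut.conj g).toMonoidHom : Subgroup Rˣ) : Set Rˣ) := by
    intro g hg w hw
    refine mem_normalizer_of_conj ?_
    rintro _ ⟨a, ha, rfl⟩
    have hw' : g⁻¹ * w * g ∈ Subgroup.normalizer (A : Set Rˣ) :=
      wCl_le ((Subgroup.mem_normalizer_iff''.1 hg w).1 hw)
    refine ⟨_, (Subgroup.mem_normalizer_iff.1 hw' a).1 ha, ?_⟩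
    simp only [MulEquiv.coe_toMonoidHom, MulAut.conj_apply]
    group
  have hbi : b⁻¹ ∈ Subgroup.normalizer (W : Set Rˣ) := inv_mem hbW
  have hApW : Ap ≤ W := map_le b hbW
  have hAmW : Am ≤ W := map_le _ hbi
  have hAW : A ≤ W := le_wCl hAH hA
  have hWA : W ≤ Subgroup.normalizer (A : Set Rˣ) := wCl_le
  have hWp : W ≤ Subgroup.normalizer (Ap : Set Rˣ) := map_norm b hbW
  have hWm : W ≤ Subgroup.normalizer (Am : Set Rˣ) := map_norm _ hbi
  set Tp := logT Ap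
  set Tm := logT Am
  have hS : lim y T ≤ T ⊔ Tp ⊔ Tm := by
    refine lim_le hh (fun a ha => AddSubgroup.mem_sup_left (AddSubgroup.mem_sup_left ha)) ?_ ?_ <;>
      intro t ht <;> obtain ⟨a, ha, rfl⟩ := (mem_logT hA).1 ht
    · refine AddSubgroup.mem_sup_left (AddSubgroup.mem_sup_right ?_)
      rw [hy, ← conj_val hb]
      exact logT_mem_self ⟨a, ha, rfl⟩
    · refine AddSubgroup.mem_sup_right ?_
      rw [hy, ← conj_val' hb]
      exact logT_mem_self ⟨a, ha, by simp [MulAut.conj_apply]⟩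
  have hLL : ∀ r ∈ lim y T, ∀ s ∈ lim y T, r * s = 0 := fun r hr s hs => lim_mul hb hTT hr hs
  have hunit : ∀ x ∈ lim y T, ∃ g ∈ H, (g : R) - 1 = x := by
    intro x hx
    obtain ⟨s, hs, s2, h2, rfl⟩ := AddSubgroup.mem_sup.1 (hS hx)
    obtain ⟨s0, h0, s1, h1, rfl⟩ := AddSubgroup.mem_sup.1 hs
    obtain ⟨a1, ha1, rfl⟩ := (mem_logT (quad_map b)).1 h1
    obtain ⟨a2, ha2, rfl⟩ := (mem_logT (quad_map b⁻¹)).1 h2
    obtain ⟨a0, ha0, rfl⟩ := (mem_logT hA).1 h0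
    have q0 := hA a0 ha0 a0 ha0
    have q1 := quad_map b a1 ha1 a1 ha1
    have b01 : ((a0 : R) - 1) * ((a1 : R) - 1) - ((a1 : R) - 1) * ((a0 : R) - 1) ∈ T := by
      rw [← neg_sub]
      exact T.neg_mem (brk_of_norm hh hA q1 (hWA (hApW ha1)) _ h0)
    obtain ⟨u0, hu0, u2, hu2, e⟩ := factor hh h0 h2 hTT (logT_mul (quad_map b))
      (logT_mul (quad_map b⁻¹)) h1 b01 (brk_of_norm hh (quad_map b) q0 (hWp (hAW ha0)) _ h1)
      (brk_of_norm hh (quad_map b⁻¹) q0 (hWm (hAW ha0)))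
      (brk_of_norm hh (quad_map b⁻¹) q1 (hWm (hApW ha1))) (hLL _ hx _ hx)
    obtain ⟨c0, hc0, rfl⟩ := (mem_logT hA).1 hu0
    obtain ⟨c2, hc2, rfl⟩ := (mem_logT (quad_map b⁻¹)).1 hu2
    refine ⟨c0 * a1 * c2, H.mul_mem (H.mul_mem (hAH hc0) (wCl_le_H (hApW ha1)))
      (wCl_le_H (hAmW hc2)), ?_⟩
    simp only [add_sub_cancel] at e
    rw [Units.val_mul, Units.val_mul, e]
    abel
  let A' : Subgroup Rˣ :=
    { carrier := {g | g ∈ H ∧ (g : R) - 1 ∈ lim y T}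
      one_mem' := ⟨H.one_mem, by simp⟩
      mul_mem' := fun {g h} hg hh' =>
        ⟨H.mul_mem hg.1 hh'.1, by
          rw [mul_sub_one (hLL _ hg.2 _ hh'.2)]; exact AddSubgroup.add_mem _ hg.2 hh'.2⟩
      inv_mem' := fun {g} hg => ⟨H.inv_mem hg.1, by
        rw [inv_eq (hLL _ hg.2 _ hg.2), sub_sub_cancel_left]
        exact AddSubgroup.neg_mem _ hg.2⟩ }
  have hA'q : Quad A' := fun a ha c hc => hLL _ ha.2 _ hc.2
  have hA'card : Nat.card ↥A' = Nat.card ↥(lim y T) := by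
    refine Nat.card_eq_of_bijective (fun g : ↥A' => (⟨_, g.2.2⟩ : ↥(lim y T))) ⟨?_, ?_⟩
    · intro g h e
      exact Subtype.ext (Units.ext (sub_left_injective (congrArg Subtype.val e)))
    · rintro ⟨x, hx⟩
      obtain ⟨g, hg, rfl⟩ := hunit x hx
      exact ⟨⟨g, hg, hx⟩, rfl⟩
  have hAle : Nat.card ↥A ≤ Nat.card ↥A' := by
    rw [hA'card, ← card_logT hA]; exact card_le_lim hb T
  have hyN : ∀ v ∈ N, y * v ∈ N := fun v hv => by
    rw [hy, sub_mul, one_mul]; exact N.sub_mem (hN b hbH v hv) hv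
  have hfix : limL y (fixN N A) ≤ fixN N A' := by
    intro v hv
    refine ⟨limL_le (K := fixN N A) (fun _ (h : _ ∈ fixN N A) => h.1) hyN hv, fun g hg => ?_⟩
    have hTK : ∀ t ∈ T, ∀ k ∈ fixN N A, t * k = 0 := by
      intro t ht k hk
      obtain ⟨a, ha, rfl⟩ := (mem_logT hA).1 ht
      rw [sub_mul, one_mul, hk.2 a ha, sub_self]
    have := lim_mul_limL hb hTK hg.2 hv
    rwa [sub_mul, one_mul, sub_eq_zero] at this
  have hfle : Nat.card ↥(fixN N A) ≤ Nat.card ↥(fixN N A') :=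
    (card_le_limL hb _).trans (AddSubgroup.card_le_of_le hfix)
  refine ⟨A', fun g hg => hg.1, fun h => ?_, hA'q, Nat.mul_le_mul hAle hfle, ?_, ?_⟩
  · apply hne
    rw [h, Subgroup.card_bot] at hAle
    exact Subgroup.card_eq_one.1 (le_antisymm hAle Nat.card_pos)
  · rw [← inv_inv b]
    refine inv_mem (mem_normalizer_of_conj fun g hg => ⟨H.mul_mem (H.mul_mem (H.inv_mem hbH) hg.1)
      (H.inv_mem (H.inv_mem hbH)), ?_⟩)
    rw [inv_inv, conj_val' hb]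
    exact lim_conj_self hb hg.2
  · refine (Subgroup.closure_le _).2 fun d hd => ?_
    have hdW : d ∈ W := Subgroup.subset_closure hd
    refine Subgroup.subset_closure ⟨hd.1, hd.2.1, mem_normalizer_of_conj fun g hg =>
      ⟨H.mul_mem (H.mul_mem hd.1 hg.1) (H.inv_mem hd.1), ?_⟩⟩
    rw [conj_val hd.2.1]
    refine lim_conj_norm hh hb hd.2.1 (brk_of_norm hh hA hd.2.1 hd.2.2) ?_ ?_ hg.2
    · rw [hy, ← conj_val hb]
      exact brk_of_norm hh hA (conj_sq hd.2.1) (hWA ((Subgroup.mem_normalizer_iff.1 hbW d).1 hdW))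
    · rw [hy, ← conj_val' hb]
      have := conj_sq (g := b⁻¹) hd.2.1
      rw [inv_inv] at this
      exact brk_of_norm hh hA this (hWA ((Subgroup.mem_normalizer_iff''.1 hbW d).1 hdW))

/-- A quadratic offender normalised by all its conjugates. -/
theorem exists_twoSubnormal {p : ℕ} [Fact p.Prime] (hh : Half R) {H : Subgroup Rˣ}
    (hH : IsPGroup p ↥H) {N : AddSubgroup R} (hN : ∀ h ∈ H, ∀ v ∈ N, (h : R) * v ∈ N) {m : ℕ}
    (hex : ∃ A : Subgroup Rˣ, A ≤ H ∧ A ≠ ⊥ ∧ Quad A ∧ m ≤ Nat.card ↥A * Nat.card ↥(fixN N A)) :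
    ∃ A : Subgroup Rˣ, A ≤ H ∧ A ≠ ⊥ ∧ Quad A ∧ m ≤ Nat.card ↥A * Nat.card ↥(fixN N A) ∧
      ∀ h ∈ H, ∀ a ∈ A, h * a * h⁻¹ ∈ Subgroup.normalizer (A : Set Rˣ) := by
  classical
  let P : Subgroup Rˣ → Prop := fun A =>
    A ≤ H ∧ A ≠ ⊥ ∧ Quad A ∧ m ≤ Nat.card ↥A * Nat.card ↥(fixN N A)
  obtain ⟨A0, hA0⟩ := hex
  have : Nonempty {A // P A} := ⟨⟨A0, hA0⟩⟩
  obtain ⟨⟨A, hAH, hne, hA, hm⟩, hmax⟩ :=
    Finite.exists_max fun A : {A // P A} => Nat.card ↥(wCl H (A : Subgroup Rˣ))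
  refine ⟨A, hAH, hne, hA, hm, ?_⟩
  by_cases hb : ∃ b ∈ H, ((b : R) - 1) * ((b : R) - 1) = 0 ∧
      b ∈ Subgroup.normalizer (wCl H A : Set Rˣ) ∧ b ∉ wCl H A
  · exfalso
    obtain ⟨b, hbH, hbq, hbW, hbn⟩ := hb
    obtain ⟨A', h1, h2, h3, h4, h5, h6⟩ := step hh hN hAH hA hne hbH hbq hbW
    have hlt : wCl H A < wCl H A' := lt_of_le_of_ne h6 fun e =>
      hbn (e ▸ Subgroup.subset_closure ⟨hbH, hbq, h5⟩)
    have h7 := hmax ⟨A', h1, h2, h3, hm.trans h4⟩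
    exact (not_lt.2 h7) (Set.Finite.card_lt_card (Set.toFinite _) hlt)
  · push Not at hb
    set W := wCl H A with hW
    set K := (Subgroup.normalizer (W : Set Rˣ)).subgroupOf H with hK
    have hKtop : K = ⊤ := by
      by_contra hne'
      have := hH.isNilpotent
      obtain ⟨h, hhN, hhK⟩ := SetLike.exists_of_lt
        (Group.normalizerCondition_of_isNilpotent (G := ↥H) K (lt_top_iff_ne_top.2 hne'))
      apply hhK
      rw [hK, Subgroup.mem_subgroupOf]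
      refine mem_normalizer_of_conj fun w hw => ?_
      have hcl : W ≤ Subgroup.comap (MulAut.conj (h : Rˣ)).toMonoidHom W := by
        refine (Subgroup.closure_le _).2 fun d hd => ?_
        have hdK : (⟨d, hd.1⟩ : ↥H) ∈ K := Subgroup.mem_subgroupOf.2
          (Subgroup.le_normalizer (Subgroup.subset_closure hd))
        have h' := Subgroup.mem_subgroupOf.1 ((Subgroup.mem_normalizer_iff.1 hhN _).1 hdK)
        exact hb _ (H.mul_mem (H.mul_mem h.2 hd.1) (H.inv_mem h.2)) (conj_sq hd.2.1) h'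
      exact hcl hw
    intro h hh' a ha
    have hn : h ∈ Subgroup.normalizer (W : Set Rˣ) := by
      have : (⟨h, hh'⟩ : ↥H) ∈ K := hKtop ▸ Subgroup.mem_top _
      exact Subgroup.mem_subgroupOf.1 this
    exact wCl_le ((Subgroup.mem_normalizer_iff.1 hn a).1 (le_wCl hAH hA ha))

end Cfsg.Agent.QuadDegenMax78
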