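import Mathlib
import Cfsg.Prelude.Def_Solvable
import Cfsg.Agent.Lib.BaerSuzuki
import Cfsg.Agent.Lib.HallCore
import Cfsg.Agent.Lib.QuadOffenderS4

/-! A faithful action in which the `2`-subgroups act quadratically: an offender avoiding `O₂`
yields two involutions acting as `S₃` on a natural module of order four, so `S₄` is involved. -/

set_option autoImplicit false

namespace Cfsg.Agent.QuadOffenderAbelian

open Subgroup Cfsg.Agent.QuadOffenderS4

universe u

variable {Γ : Type*} [Group Γ] [Finite Γ] {V : Type*} [AddCommGroup V]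

/-- The elements of a finite group with a multiplicatively closed property form a subgroup. -/
def ofClosed (H : Subgroup Γ) (P : Γ → Prop) (h1 : P 1)
    (hmul : ∀ x ∈ H, ∀ y ∈ H, P x → P y → P (x * y)) : Subgroup Γ where
  carrier := {x | x ∈ H ∧ P x}
  one_mem' := ⟨one_mem H, h1⟩
  mul_mem' := fun {x y} hx hy => ⟨mul_mem hx.1 hy.1, hmul x hx.1 y hy.1 hx.2 hy.2⟩
  inv_mem' := fun {x} hx => by
    have hpow : ∀ n : ℕ, x ^ n ∈ H ∧ P (x ^ n) := by
      intro n
      induction n with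
      | zero => exact ⟨by rw [pow_zero]; exact one_mem H, by rw [pow_zero]; exact h1⟩
      | succ n ih => exact ⟨by rw [pow_succ]; exact mul_mem ih.1 hx.1,
          by rw [pow_succ]; exact hmul _ ih.1 _ hx.1 ih.2 hx.2⟩
    have he : x⁻¹ = x ^ (orderOf x - 1) := by
      refine inv_eq_of_mul_eq_one_right ?_
      rw [← pow_succ', Nat.sub_add_cancel (orderOf_pos x), pow_orderOf_eq_one]
    exact he ▸ hpow _

omit [Finite Γ] in
theorem apply_mul (ρ : Γ →* AddMonoid.End V) (g h : Γ) (v : V) : ρ (g * h) v = ρ g (ρ h v) := by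
  rw [map_mul]; rfl

omit [Finite Γ] in
theorem apply_one (ρ : Γ →* AddMonoid.End V) (v : V) : ρ 1 v = v := by rw [map_one]; rfl

omit [Finite Γ] in
theorem apply_add (ρ : Γ →* AddMonoid.End V) (g : Γ) (v w : V) : ρ g (v + w) = ρ g v + ρ g w :=
  map_add (ρ g : V →+ V) v w

/-- The abelian property of the `2`-subgroups. -/
theorem commute_of_quad (ρ : Γ →* AddMonoid.End V) (hinj : Function.Injective ρ)
    (h2 : ∀ v : V, v + v = 0)
    (hquad : ∀ P : Subgroup Γ, IsPGroup 2 P → ∀ a ∈ P, ∀ b ∈ P, ∀ v : V,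
      ρ a (ρ b v + v) = ρ b v + v)
    {P : Subgroup Γ} (hP : IsPGroup 2 P) {a b : Γ} (ha : a ∈ P) (hb : b ∈ P) : a * b = b * a := by
  refine hinj (AddMonoidHom.ext fun v => ?_)
  show ρ (a * b) v = ρ (b * a) v
  have e1 : ρ (a * b) v = ρ b v + v + ρ a v := by
    have h := hquad P hP a ha b hb v
    rw [apply_add, ← apply_mul] at h
    rw [← h, add_assoc, h2, add_zero]
  have e2 : ρ (b * a) v = ρ a v + v + ρ b v := by
    have h := hquad P hP b hb a ha v
    rw [apply_add, ← apply_mul] at h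
    rw [← h, add_assoc, h2, add_zero]
  rw [e1, e2]; abel

/-- The main configuration. -/
theorem exists_pair [Finite V] (ρ : Γ →* AddMonoid.End V) (hinj : Function.Injective ρ)
    (h2 : ∀ v : V, v + v = 0)
    (hquad : ∀ P : Subgroup Γ, IsPGroup 2 P → ∀ a ∈ P, ∀ b ∈ P, ∀ v : V,
      ρ a (ρ b v + v) = ρ b v + v)
    (X : Subgroup Γ) (hXp : IsPGroup 2 X) (hXne : X ≠ ⊥)
    (hXO : ∀ x ∈ X, x ∈ Cfsg.pCore 2 Γ → x = 1)
    (hoff : Nat.card V ≤ Nat.card X * Nat.card (fixedPts ρ X)) :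
    ∃ a ∈ X, ∃ a' ∈ X, ∃ g : Γ, ∃ v w : V, v ≠ 0 ∧ w ≠ 0 ∧ v ≠ w ∧
      ρ a v = v ∧ ρ a w = v + w ∧ ρ (g * a' * g⁻¹) w = w ∧ ρ (g * a' * g⁻¹) v = v + w := by
  classical
  haveI : Fact (Nat.Prime 2) := ⟨Nat.prime_two⟩
  have hneg : ∀ v : V, -v = v := fun v => neg_eq_of_add_eq_zero_left (h2 v)
  have heq : ∀ {v w : V}, v + w = 0 → v = w := fun h => by rwa [add_eq_zero_iff_eq_neg, hneg] at h
  obtain ⟨X0, ⟨hX0le, hX0ne⟩, hX0max⟩ := Set.exists_max_image
    {Y : Subgroup Γ | Y ≤ X ∧ Y ≠ ⊥} (fun Y => Nat.card Y * Nat.card (fixedPts ρ Y))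
    (Set.toFinite _) ⟨X, le_rfl, hXne⟩
  have hf : ∀ Y ≤ X0, Nat.card Y * Nat.card (fixedPts ρ Y) ≤
      Nat.card X0 * Nat.card (fixedPts ρ X0) := by
    intro Y hY
    by_cases hYb : Y = ⊥
    · subst hYb
      rw [card_bot, one_mul]
      exact ((Nat.card_le_card_of_injective _ (AddSubgroup.subtype_injective _)).trans hoff).trans
        (hX0max X ⟨le_rfl, hXne⟩)
    · exact hX0max Y ⟨hY.trans hX0le, hYb⟩
  have hX0p : IsPGroup 2 X0 := hXp.to_le hX0le
  -- a minimal subgroup in which `X0` avoids the normal `2`-subgroups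
  let Bad : Set (Subgroup Γ) := {K | X0 ≤ K ∧
    ¬ ∃ N : Subgroup Γ, IsPGroup 2 N ∧ N ≤ K ∧ K ≤ normalizer (N : Set Γ) ∧ X0 ≤ N}
  have htop : (⊤ : Subgroup Γ) ∈ Bad := by
    refine ⟨le_top, ?_⟩
    rintro ⟨N, hNp, -, hN, hXN⟩
    haveI : N.Normal := normalizer_eq_top_iff.mp (top_le_iff.mp hN)
    refine hX0ne ((eq_bot_iff_forall X0).mpr fun x hx => ?_)
    exact hXO x (hX0le hx) (HallCore.le_pCore hNp (hXN hx))
  obtain ⟨H, ⟨hXH, hHbad⟩, hHmin⟩ := Set.exists_min_image Bad (fun K => Nat.card K)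
    (Set.toFinite _) ⟨⊤, htop⟩
  have hlt : ∀ K : Subgroup Γ, K < H → X0 ≤ K →
      ∃ N : Subgroup Γ, IsPGroup 2 N ∧ N ≤ K ∧ K ≤ normalizer (N : Set Γ) ∧ X0 ≤ N := by
    intro K hK hXK
    by_contra hb
    exact hK.ne (eq_of_le_of_card_ge hK.le (hHmin K ⟨hXK, hb⟩))
  obtain ⟨g, hg, hng⟩ : ∃ g ∈ H, ¬ IsPGroup 2 (X0 ⊔ X0.map (MulAut.conj g).toMonoidHom : Subgroup Γ) := by
    by_contra hcon
    push Not at hcon
    obtain ⟨N, hNn, hNp, hle⟩ := BaerSuzuki.exists_normal_pGroup_of_pairs (p := 2) (X0.subgroupOf H)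
      hX0p.comap_subtype fun g => by
        refine IsPGroup.of_injective ((hcon (g : Γ) g.2).to_le ?_) (H.subtype.subgroupMap _) ?_
        · rw [Subgroup.map_sup, Subgroup.map_map]
          have hc : H.subtype.comp (MulAut.conj g).toMonoidHom =
              (MulAut.conj (g : Γ)).toMonoidHom.comp H.subtype := by ext x; rfl
          rw [hc, ← Subgroup.map_map, subgroupOf_map_subtype, inf_eq_left.mpr hXH]
        · intro x y h
          have h' := congrArg (fun z : (map H.subtype _ : Subgroup Γ) => (z : Γ)) h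
          exact Subtype.ext (H.subtype_injective h')
    refine hHbad ⟨N.map H.subtype, hNp.map _, map_subtype_le _, ?_,
      fun x hx => ⟨⟨x, hXH hx⟩, hle hx, rfl⟩⟩
    intro h hh
    refine mem_normalizer_fintype ?_
    rintro _ ⟨n, hn, rfl⟩
    exact ⟨_, hNn.conj_mem n hn ⟨h, hh⟩, rfl⟩
  set X1 := X0.map (MulAut.conj g).toMonoidHom with hX1
  have hX1H : X1 ≤ H := by
    rintro _ ⟨x, hx, rfl⟩
    exact mul_mem (mul_mem hg (hXH hx)) (inv_mem hg)
  have hgen : H = X0 ⊔ X1 := by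
    refine ((sup_le hXH hX1H).eq_or_lt.resolve_right fun hK => ?_).symm
    obtain ⟨N, hNp, -, hN, hXN⟩ := hlt _ hK le_sup_left
    refine hng ((hNp.to_sup_of_normal_left' (hX0p.map (MulAut.conj g).toMonoidHom)
      (le_sup_right.trans hN)).to_le (sup_le_sup_right hXN _))
  set Z0 := X0 ⊓ centralizer (H : Set Γ) with hZ0
  have hcentral : ∀ a : Γ, (∀ x ∈ X0, a * x = x * a) → (∀ x ∈ X1, a * x = x * a) →
      a ∈ centralizer (H : Set Γ) := by
    intro a h0 h1
    have : H ≤ centralizer ({a} : Set Γ) := hgen ▸ sup_le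
      (fun x hx => mem_centralizer_singleton_iff.mpr (h0 x hx).symm)
      (fun x hx => mem_centralizer_singleton_iff.mpr (h1 x hx).symm)
    exact mem_centralizer_iff.mpr fun x hx => mem_centralizer_singleton_iff.mp (this hx)
  have hZ0conj : ∀ z ∈ Z0, g * z * g⁻¹ = z := fun z hz => by
    rw [mem_centralizer_iff.mp hz.2 g hg, mul_inv_cancel_right]
  have hZ0X1 : Z0 ≤ X1 := fun z hz => ⟨z, hz.1, hZ0conj z hz⟩
  -- regularity
  have hcomm0 : ∀ a ∈ X0, ∀ x ∈ X0, a * x = x * a := fun a ha x hx =>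
    commute_of_quad ρ hinj h2 hquad hX0p ha hx
  have hX1p : IsPGroup 2 X1 := hX0p.map _
  have hreg0 : ∀ a ∈ X0, ∀ K : Subgroup Γ, K < H → X1 ≤ K → a ∈ K → a ∈ Z0 := by
    intro a ha K hK hXK haK
    set c := (MulAut.conj g⁻¹).toMonoidHom
    set K' := K.map c with hK'
    have hK'H : K' ≤ H := by
      rintro _ ⟨x, hx, rfl⟩
      exact mul_mem (mul_mem (inv_mem hg) (hK.le hx)) (inv_mem (inv_mem hg))
    have hK'lt : K' < H := by
      refine lt_of_le_of_ne hK'H fun e => hK.ne (eq_of_le_of_card_ge hK.le ?_)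
      rw [← e, hK', card_map_of_injective (MulAut.conj g⁻¹).injective]
    have hXK' : X0 ≤ K' := fun x hx => ⟨g * x * g⁻¹, hXK ⟨x, hx, rfl⟩, by
      show g⁻¹ * (g * x * g⁻¹) * g⁻¹⁻¹ = x; group⟩
    obtain ⟨N, hNp, -, hN, hXN⟩ := hlt K' hK'lt hXK'
    set N1 := N.map (MulAut.conj g).toMonoidHom
    have hX1N : X1 ≤ N1 := map_mono hXN
    have haN : a ∈ normalizer (N1 : Set Γ) := by
      refine mem_normalizer_fintype ?_
      rintro _ ⟨n, hn, rfl⟩
      have h1 : g⁻¹ * a * g⁻¹⁻¹ ∈ normalizer (N : Set Γ) := hN ⟨a, haK, rfl⟩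
      exact ⟨_, (mem_normalizer_iff.mp h1 n).mp hn,
        show g * (g⁻¹ * a * g⁻¹⁻¹ * n * (g⁻¹ * a * g⁻¹⁻¹)⁻¹) * g⁻¹ = a * (g * n * g⁻¹) * a⁻¹ by group⟩
    have hP : IsPGroup 2 (N1 ⊔ zpowers a : Subgroup Γ) :=
      (hNp.map _).to_sup_of_normal_left' (hX0p.to_le (zpowers_le.mpr ha)) (zpowers_le.mpr haN)
    exact ⟨ha, hcentral a (hcomm0 a ha) fun x hx => commute_of_quad ρ hinj h2 hquad hP
      (mem_sup_right (mem_zpowers a)) (mem_sup_left (hX1N hx))⟩
  have hreg1 : ∀ b ∈ X1, ∀ K : Subgroup Γ, K < H → X0 ≤ K → b ∈ K → b ∈ Z0 := by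
    intro b hb K hK hXK hbK
    obtain ⟨N, hNp, -, hN, hXN⟩ := hlt K hK hXK
    have hP : IsPGroup 2 (N ⊔ zpowers b : Subgroup Γ) :=
      hNp.to_sup_of_normal_left' (hX1p.to_le (zpowers_le.mpr hb)) (zpowers_le.mpr (hN hbK))
    have hbc : b ∈ centralizer (H : Set Γ) := hcentral b
      (fun x hx => commute_of_quad ρ hinj h2 hquad hP
        (mem_sup_right (mem_zpowers b)) (mem_sup_left (hXN hx)))
      (fun x hx => commute_of_quad ρ hinj h2 hquad hX1p hb hx)
    obtain ⟨z, hz, rfl⟩ := hb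
    refine ⟨?_, hbc⟩
    have h1 := mem_centralizer_iff.mp hbc g hg
    change g * (g * z * g⁻¹) = g * z * g⁻¹ * g at h1
    rw [inv_mul_cancel_right] at h1
    show g * z * g⁻¹ ∈ X0
    rw [mul_left_cancel h1]
    exact hz
  -- fixed points
  set CX := fixedPts ρ X0
  set CY := fixedPts ρ X1
  set C0 := CX ⊓ CY
  set V1 := fixedPts ρ Z0
  have hC0 : ∀ c ∈ C0, ∀ h ∈ H, ρ h c = c := by
    intro c hc
    let S := ofClosed H (fun h => ρ h c = c) (apply_one ρ c)
      fun x _ y _ hx hy => by show ρ (x * y) c = c; rw [apply_mul, hy, hx]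
    have hle : H ≤ S := hgen.le.trans
      (sup_le (fun x hx => ⟨hXH hx, hc.1 x hx⟩) (fun x hx => ⟨hX1H hx, hc.2 x hx⟩))
    exact fun h hh => (hle hh).2
  have hcardXY : Nat.card CY = Nat.card CX := by
    refine (Nat.card_eq_of_bijective (fun u : CX => (⟨ρ g u, ?_⟩ : CY)) ⟨?_, ?_⟩).symm
    · rintro _ ⟨x, hx, rfl⟩
      show ρ (g * x * g⁻¹) (ρ g u) = ρ g u
      rw [← apply_mul, inv_mul_cancel_right, apply_mul, u.2 x hx]
    · intro u v h
      have h1 := congrArg (fun y : CY => ρ g⁻¹ (y : V)) h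
      simp only [← apply_mul, inv_mul_cancel, apply_one] at h1
      exact Subtype.ext h1
    · intro y
      refine ⟨⟨ρ g⁻¹ y, fun x hx => ?_⟩, Subtype.ext ?_⟩
      · have h1 := y.2 (g * x * g⁻¹) ⟨x, hx, rfl⟩
        conv_rhs => rw [← h1]
        rw [← apply_mul, ← apply_mul]
        congr 2; group
      · show ρ g (ρ g⁻¹ (y : V)) = y
        rw [← apply_mul, mul_inv_cancel, apply_one]
  have hq0 : ∀ x ∈ X0, ∀ u : V, ρ x u + u ∈ CX := fun x hx u y hy =>
    hquad X0 hX0p y hy x hx u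
  have hq1 : ∀ x ∈ X1, ∀ u : V, ρ x u + u ∈ CY := fun x hx u y hy =>
    hquad X1 hX1p y hy x hx u
  have hCXV : CX ≤ V1 := fun v hv z hz => hv z hz.1
  have hCYV : CY ≤ V1 := fun v hv z hz => hv z (hZ0X1 hz)
  -- `CX` is not fixed by `H`
  obtain ⟨u₀, hu₀, hu₀0⟩ : ∃ u ∈ CX, u ∉ C0 := by
    by_contra hcon
    push Not at hcon
    have hCXY : CX = CY := by
      have hle : CX ≤ CY := fun u hu => (hcon u hu).2
      exact SetLike.coe_injective (Set.eq_of_subset_of_ncard_le (fun u hu => hle hu)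
        (by rw [← Nat.card_coe_set_eq, ← Nat.card_coe_set_eq]; exact hcardXY.le) (Set.toFinite _))
    let S := ofClosed H (fun h => ∀ u : V, u ∈ V1 → ρ h u + u ∈ C0)
      (fun u _ => by rw [apply_one, h2]; exact zero_mem _)
      (fun x hx y hy hPx hPy u hu => by
        have e : ρ (x * y) u + u = ρ x (ρ y u + u) + (ρ x u + u) := by
          rw [apply_mul, apply_add, show ρ x (ρ y u) + ρ x u + (ρ x u + u)
            = ρ x (ρ y u) + u + (ρ x u + ρ x u) by abel, h2, add_zero]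
        rw [e, hC0 _ (hPy u hu) x hx]
        exact add_mem (hPy u hu) (hPx u hu))
    have hle : H ≤ S := hgen.le.trans (sup_le
      (fun x hx => ⟨hXH hx, fun u _ => hcon _ (hq0 x hx u)⟩)
      (fun x hx => ⟨hX1H hx, fun u _ => hcon _ (hCXY ▸ hq1 x hx u)⟩))
    apply hHbad
    refine ⟨H, ?_, le_rfl, le_normalizer, hXH⟩
    intro h
    refine ⟨2, ?_⟩
    apply Subtype.ext
    show (h : Γ) ^ 2 ^ 2 = 1
    set k := (h : Γ) * h
    have hk1 : ∀ u ∈ V1, ρ k u = u := by
      intro u hu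
      have hc := (hle h.2).2 u hu
      have e : ρ (h : Γ) u = (ρ (h : Γ) u + u) + u := by rw [add_assoc, h2, add_zero]
      rw [apply_mul]
      conv_lhs => rw [e]
      rw [apply_add, hC0 _ hc h h.2]
      rw [show ρ (h : Γ) u + u + ρ (h : Γ) u = u + (ρ (h : Γ) u + ρ (h : Γ) u) by abel, h2, add_zero]
    have hk2 : ∀ v : V, ρ (k * k) v = v := by
      intro v
      have hmem : ρ k v + v ∈ V1 := by
        intro z hz
        have hd : ρ z v + v ∈ V1 := fun y hy => hquad X0 hX0p y hy.1 z hz.1 v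
        have hcz : z * k = k * z := (mem_centralizer_iff.mp hz.2 k (mul_mem h.2 h.2)).symm
        have e1 : ρ z (ρ k v) = ρ k v + (ρ z v + v) := by
          rw [← apply_mul, hcz, apply_mul]
          conv_lhs => rw [show ρ z v = v + (ρ z v + v) by rw [add_comm, add_assoc, h2, add_zero]]
          rw [apply_add, hk1 _ hd]
        rw [apply_add, e1, show ρ k v + (ρ z v + v) + ρ z v = ρ k v + v + (ρ z v + ρ z v) by abel, h2,
          add_zero]
      have h3 := hk1 _ hmem
      rw [apply_add, ← apply_mul] at h3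
      have h4 := congrArg (· + ρ k v) h3
      rw [add_assoc, h2, add_zero, show ρ k v + v + ρ k v = v + (ρ k v + ρ k v) by abel, h2,
        add_zero] at h4
      exact h4
    refine hinj (AddMonoidHom.ext fun v => ?_)
    show ρ ((h : Γ) ^ 2 ^ 2) v = ρ 1 v
    rw [apply_one, show (h : Γ) ^ 2 ^ 2 = k * k by
      rw [show (2 : ℕ) ^ 2 = 2 + 2 by norm_num, pow_add, pow_two]]
    exact hk2 v
  -- the commutator maps are onto
  have hV1 : Nat.card CX * Nat.card CY ≤ Nat.card V1 * Nat.card C0 := by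
    let f : CX × CY →+ V :=
      AddMonoidHom.coprod CX.subtype CY.subtype
    rw [← Nat.card_prod, ← AddSubgroup.card_mul_index f.ker, AddSubgroup.index_ker, mul_comm]
    refine Nat.mul_le_mul ?_ ?_
    · refine Nat.card_le_card_of_injective _ (AddSubgroup.inclusion_injective ?_)
      rintro _ ⟨x, rfl⟩
      exact add_mem (hCXV x.1.2) (hCYV x.2.2)
    refine Nat.card_le_card_of_injective (fun x : f.ker => (⟨((x : CX × CY).2 : V), ?_⟩ : C0)) ?_
    · have h3 : ((x : CX × CY).1 : V) + ((x : CX × CY).2 : V) = 0 := AddMonoidHom.mem_ker.mp x.2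
      exact ⟨heq h3 ▸ (x : CX × CY).1.2, (x : CX × CY).2.2⟩
    · intro x y h
      have h4 : ((x : CX × CY).2 : V) = ((y : CX × CY).2 : V) := congrArg (fun v : C0 => (v : V)) h
      have hx : ((x : CX × CY).1 : V) + ((x : CX × CY).2 : V) = 0 := AddMonoidHom.mem_ker.mp x.2
      have hy : ((y : CX × CY).1 : V) + ((y : CX × CY).2 : V) = 0 := AddMonoidHom.mem_ker.mp y.2
      exact Subtype.ext (Prod.ext (Subtype.ext ((heq hx).trans (h4.trans (heq hy).symm))) (Subtype.ext h4))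
  have hbound : Nat.card Z0 * Nat.card CX ≤ Nat.card X0 * Nat.card C0 := by
    have h3 := hf Z0 inf_le_left
    refine Nat.le_of_mul_le_mul_right ?_ (Nat.card_pos (α := CX))
    calc Nat.card Z0 * Nat.card CX * Nat.card CX
        = Nat.card Z0 * (Nat.card CX * Nat.card CY) := by rw [hcardXY]; ring
      _ ≤ Nat.card Z0 * (Nat.card V1 * Nat.card C0) := Nat.mul_le_mul_left _ hV1
      _ = Nat.card Z0 * Nat.card V1 * Nat.card C0 := by ring
      _ ≤ Nat.card X0 * Nat.card CX * Nat.card C0 := Nat.mul_le_mul_right _ h3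
      _ = _ := by ring
  have hcardX1 : Nat.card X1 = Nat.card X0 := card_map_of_injective (MulAut.conj g).injective
  have key : ∀ (P P' : Subgroup Γ) (e : Γ), IsPGroup 2 P → P ≤ H → P' ≤ H → e ∈ H →
      (∀ x ∈ P, e⁻¹ * x * e ∈ P') → Z0 ≤ P → Z0 ≤ P' → C0 = fixedPts ρ P ⊓ fixedPts ρ P' →
      (∀ a ∈ P, ∀ K : Subgroup Γ, K < H → P' ≤ K → a ∈ K → a ∈ Z0) →
      Nat.card P = Nat.card X0 → Nat.card (fixedPts ρ P) = Nat.card CX →
      ∀ w ∈ fixedPts ρ P', w ∉ C0 → ∀ t ∈ fixedPts ρ P, ∃ a ∈ P, ρ a w + w + t ∈ C0 := by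
    intro P P' e hPp hPH hP'H he hconj hZP hZP' hC hreg hcP hcC w hw hw0 t ht
    set CP := fixedPts ρ P
    have hC0P : C0 ≤ CP := hC.le.trans inf_le_left
    set D := C0.addSubgroupOf CP
    have hmem : ∀ a ∈ P, ρ a w + w ∈ CP := fun a ha y hy => hquad P hPp y hy a ha w
    let ψ : P →* Multiplicative (CP ⧸ D) :=
      { toFun := fun a => Multiplicative.ofAdd (QuotientAddGroup.mk ⟨ρ a w + w, hmem a a.2⟩)
        map_one' := by
          refine congrArg Multiplicative.ofAdd ((QuotientAddGroup.eq_zero_iff _).mpr ?_)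
          show ρ ((1 : P) : Γ) w + w ∈ C0
          rw [OneMemClass.coe_one, apply_one, h2]; exact zero_mem _
        map_mul' := fun a b => by
          refine congrArg Multiplicative.ofAdd (congrArg QuotientAddGroup.mk (Subtype.ext ?_))
          show ρ ((a : Γ) * b) w + w = (ρ (a : Γ) w + w) + (ρ (b : Γ) w + w)
          have h3 := hmem b b.2 a a.2
          rw [apply_add, ← apply_mul] at h3
          rw [← h3, show (ρ (a : Γ) w + w) + (ρ ((a : Γ) * b) w + ρ (a : Γ) w)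
            = ρ ((a : Γ) * b) w + w + (ρ (a : Γ) w + ρ (a : Γ) w) by abel, h2, add_zero] }
    have hker : ψ.ker = Z0.subgroupOf P := by
      ext a
      have hk : a ∈ ψ.ker ↔ ρ (a : Γ) w + w ∈ C0 :=
        (QuotientAddGroup.eq_zero_iff (⟨ρ a w + w, hmem a a.2⟩ : CP) : _ ↔ _)
      rw [hk, mem_subgroupOf]
      constructor
      · intro hac
        let K := ofClosed H (fun h => ρ h w + w ∈ C0) (by rw [apply_one, h2]; exact zero_mem _)
          fun x hx y hy hPx hPy => by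
            have e : ρ (x * y) w + w = ρ x (ρ y w + w) + (ρ x w + w) := by
              rw [apply_mul, apply_add, show ρ x (ρ y w) + ρ x w + (ρ x w + w)
                = ρ x (ρ y w) + w + (ρ x w + ρ x w) by abel, h2, add_zero]
            rw [e, hC0 _ hPy x hx]
            exact add_mem hPy hPx
        have hKH : K ≤ H := fun x hx => hx.1
        have hP'K : P' ≤ K := fun x hx => ⟨hP'H hx, show ρ x w + w ∈ C0 by rw [hw x hx, h2]; exact zero_mem _⟩
        rcases hKH.eq_or_lt with hK | hK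
        · exfalso
          -- then `w` is fixed by `P`
          have hec : ρ e w + w ∈ C0 := ((hK.symm ▸ he : e ∈ K)).2
          refine hw0 (hC.symm ▸ ⟨fun x hx => ?_, hw⟩)
          set c := ρ e w + w with hc
          have hwe : w = ρ e w + c := by rw [hc, ← add_assoc, h2, zero_add]
          rw [hwe, apply_add, hC0 c hec x (hPH hx)]
          congr 1
          calc ρ x (ρ e w) = ρ (e * (e⁻¹ * x * e)) w := by rw [← apply_mul]; congr 2; group
            _ = ρ e w := by rw [apply_mul, hw _ (hconj x hx)]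
        · exact hreg a a.2 K hK hP'K ⟨hPH a.2, hac⟩
      · intro hz
        rw [hw _ (hZP' hz), h2]
        exact zero_mem _
    have hidx : Nat.card ψ.range * Nat.card Z0 = Nat.card X0 := by
      rw [← index_ker, hker, ← Nat.card_congr (subgroupOfEquivOfLe hZP).toEquiv, mul_comm,
        card_mul_index, hcP]
    have hD : Nat.card (CP ⧸ D) * Nat.card C0 = Nat.card CX := by
      rw [← hcC, AddSubgroup.card_eq_card_quotient_mul_card_addSubgroup D,
        Nat.card_congr (AddSubgroup.addSubgroupOfEquivOfLe hC0P).toEquiv]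
    have hsurj : ψ.range = ⊤ := by
      refine eq_top_of_le_card _ ?_
      rw [show Nat.card (Multiplicative (CP ⧸ D)) = Nat.card (CP ⧸ D) from
        Nat.card_congr Multiplicative.toAdd]
      refine Nat.le_of_mul_le_mul_right ?_ (Nat.mul_pos (Nat.card_pos (α := C0)) (Nat.card_pos (α := Z0)))
      calc Nat.card (CP ⧸ D) * (Nat.card C0 * Nat.card Z0) = Nat.card Z0 * Nat.card CX := by
            rw [← hD]; ring
        _ ≤ Nat.card X0 * Nat.card C0 := hbound
        _ = _ := by rw [← hidx]; ring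
    obtain ⟨a, ha⟩ := (MonoidHom.mem_range.mp (hsurj.symm ▸ mem_top
      (Multiplicative.ofAdd (QuotientAddGroup.mk (⟨t, ht⟩ : CP) : CP ⧸ D))))
    have h3 := QuotientAddGroup.eq.mp (congrArg Multiplicative.toAdd ha :)
    change -(ρ (a : Γ) w + w) + t ∈ C0 at h3
    rw [hneg] at h3
    exact ⟨a, a.2, h3⟩
  -- the vectors
  obtain ⟨w, hw, hw0⟩ : ∃ w ∈ CY, w ∉ C0 := by
    refine ⟨ρ g u₀, ?_, fun h => hu₀0 ?_⟩
    · rintro _ ⟨x, hx, rfl⟩
      show ρ (g * x * g⁻¹) (ρ g u₀) = ρ g u₀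
      rw [← apply_mul, inv_mul_cancel_right, apply_mul, hu₀ x hx]
    · have h1 := hC0 _ h g⁻¹ (inv_mem hg)
      rw [← apply_mul, inv_mul_cancel, apply_one] at h1
      rw [h1]; exact h
  obtain ⟨a, ha, hat⟩ := key X0 X1 g⁻¹ hX0p hXH hX1H (inv_mem hg)
    (fun x hx => ⟨x, hx, show g * x * g⁻¹ = g⁻¹⁻¹ * x * g⁻¹ by group⟩) inf_le_left hZ0X1 rfl hreg0
    rfl rfl w hw hw0 u₀ hu₀
  set v := ρ a w + w with hv
  have hvX : v ∈ CX := hq0 a ha w
  have hv0 : v ∉ C0 := fun h => hu₀0 (by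
    have := add_mem h hat
    rwa [← add_assoc, h2, zero_add] at this)
  obtain ⟨b, hb, hbt⟩ := key X1 X0 g hX1p hX1H hXH hg
    (by rintro _ ⟨x, hx, rfl⟩
        show g⁻¹ * (g * x * g⁻¹) * g ∈ X0
        rwa [show g⁻¹ * (g * x * g⁻¹) * g = x by group])
    hZ0X1 inf_le_left (inf_comm CX CY) hreg1 hcardX1 hcardXY v hvX hv0 w hw
  set w' := ρ b v + v with hw'
  have hw'Y : w' ∈ CY := hq1 b hb v
  have hw'0 : w' ∉ C0 := fun h => hw0 (by
    have := add_mem h hbt
    rwa [← add_assoc, h2, zero_add] at this)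
  have hne : v ≠ w' := fun h => hw'0 ⟨h ▸ hvX, hw'Y⟩
  have hC0a : ρ a (w' + w) = w' + w := hC0 _ hbt a (hXH ha)
  have haw : ρ a w' = v + w' := by
    have e : ρ a w = v + w := by rw [hv, add_assoc, h2, add_zero]
    rw [apply_add, e] at hC0a
    calc ρ a w' = ρ a w' + ((v + w) + (v + w)) := by rw [h2, add_zero]
      _ = ρ a w' + (v + w) + (v + w) := by abel
      _ = (w' + w) + (v + w) := by rw [hC0a]
      _ = v + w' + (w + w) := by abel
      _ = v + w' := by rw [h2, add_zero]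
  obtain ⟨b', hb', rfl⟩ := hb
  refine ⟨a, hX0le ha, b', hX0le hb', g, v, w', fun h => hv0 (h ▸ zero_mem _),
    fun h => hw'0 (h ▸ zero_mem _), hne, hvX a ha, haw, hw'Y _ ⟨b', hb', rfl⟩, ?_⟩
  show ρ (g * b' * g⁻¹) v = v + w'
  change w' = ρ (g * b' * g⁻¹) v + v at hw'
  rw [hw', ← add_assoc, add_comm v, add_assoc, h2, add_zero]

/-- Lifting: two involutions acting as `S₃` on a natural module inside an elementary normal subgroup. -/
theorem involves_s4_of_action {G : Type u} [Group G] [Finite G] (W : Subgroup G) [W.Normal]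
    (hW2 : ∀ x ∈ W, x * x = 1) (a b : G) (ha : a * a = 1) (hb : b * b = 1) {v w : G}
    (hv : v ∈ W) (hw : w ∈ W) (hv1 : v ≠ 1) (hw1 : w ≠ 1) (hne : v ≠ w)
    (hav : a * v * a⁻¹ = v) (haw : a * w * a⁻¹ = v * w) (hbw : b * w * b⁻¹ = w)
    (hbv : b * v * b⁻¹ = v * w) : Cfsg.Involves (Equiv.Perm (Fin 4)) G := by
  classical
  have hv2 := hW2 v hv
  have hw2 := hW2 w hw
  have hwv : w * v = v * w := by
    have h := hW2 _ (W.mul_mem hv hw)
    calc w * v = (v * v) * (w * v) * (w * w) := by rw [hv2, hw2, one_mul, mul_one]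
      _ = v * (v * w * (v * w)) * w := by group
      _ = v * w := by rw [h, mul_one]
  let U : Subgroup G :=
    { carrier := {z | z = 1 ∨ z = v ∨ z = w ∨ z = v * w}
      one_mem' := Or.inl rfl
      mul_mem' := by
        have a1 : ∀ z, v * (v * z) = z := fun z => by rw [← mul_assoc, hv2, one_mul]
        have a2 : ∀ z, w * (w * z) = z := fun z => by rw [← mul_assoc, hw2, one_mul]
        have a3 : ∀ z, w * (v * z) = v * (w * z) := fun z => by rw [← mul_assoc, hwv, mul_assoc]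
        rintro x y (rfl | rfl | rfl | rfl) (rfl | rfl | rfl | rfl) <;>
          simp [Set.mem_ofPred_eq, mul_assoc, a1, a2, a3, hv2, hw2, hwv]
      inv_mem' := by
        rintro x (rfl | rfl | rfl | rfl)
        · exact Or.inl inv_one
        · exact Or.inr (Or.inl (inv_eq_of_mul_eq_one_right hv2))
        · exact Or.inr (Or.inr (Or.inl (inv_eq_of_mul_eq_one_right hw2)))
        · exact Or.inr (Or.inr (Or.inr (inv_eq_of_mul_eq_one_right (hW2 _ (W.mul_mem hv hw))))) }
  have hUmem : ∀ z, z ∈ U ↔ z = 1 ∨ z = v ∨ z = w ∨ z = v * w := fun z => Iff.rfl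
  have hvw1 : v * w ≠ 1 := fun h => hne ((eq_inv_of_mul_eq_one_left h).trans (inv_eq_of_mul_eq_one_right hw2))
  have hvwv : v * w ≠ v := fun h => hw1 (mul_left_cancel (h.trans (mul_one v).symm))
  have hvww : v * w ≠ w := fun h => hv1 (mul_right_cancel (h.trans (one_mul w).symm))
  have hU4 : Nat.card U = 4 := by
    have hs : (U : Set G) = ↑({1, v, w, v * w} : Finset G) := by
      ext z; simp [hUmem z]
    rw [← SetLike.coe_sort_coe, Nat.card_coe_set_eq, hs, Set.ncard_coe_finset,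
      Finset.card_insert_of_notMem (by simp [hv1.symm, hw1.symm, hvw1.symm]),
      Finset.card_insert_of_notMem (by simp [hne, hvwv.symm]),
      Finset.card_insert_of_notMem (by simp [hvww.symm]), Finset.card_singleton]
  have hUW : U ≤ W := by
    rintro z (rfl | rfl | rfl | rfl)
    exacts [W.one_mem, hv, hw, W.mul_mem hv hw]
  have haU : a ∈ normalizer (U : Set G) := by
    refine mem_normalizer_fintype fun z hz => ?_
    rcases (hUmem z).mp hz with rfl | rfl | rfl | rfl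
    · exact Or.inl (by group)
    · exact Or.inr (Or.inl hav)
    · exact Or.inr (Or.inr (Or.inr haw))
    · refine Or.inr (Or.inr (Or.inl ?_))
      rw [← conj_mul, hav, haw, ← mul_assoc, hv2, one_mul]
  have hbU : b ∈ normalizer (U : Set G) := by
    refine mem_normalizer_fintype fun z hz => ?_
    rcases (hUmem z).mp hz with rfl | rfl | rfl | rfl
    · exact Or.inl (by group)
    · exact Or.inr (Or.inr (Or.inr hbv))
    · exact Or.inr (Or.inr (Or.inl hbw))
    · refine Or.inr (Or.inl ?_)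
      rw [← conj_mul, hbv, hbw, mul_assoc, hw2, mul_one]
  set s := b * a with hs
  have hainv : a⁻¹ = a := inv_eq_of_mul_eq_one_right ha
  have hbinv : b⁻¹ = b := inv_eq_of_mul_eq_one_right hb
  have hsv : s * v * s⁻¹ = v * w := by
    rw [hs, show b * a * v * (b * a)⁻¹ = b * (a * v * a⁻¹) * b⁻¹ by group, hav, hbv]
  have hsw : s * w * s⁻¹ = v := by
    rw [hs, show b * a * w * (b * a)⁻¹ = b * (a * w * a⁻¹) * b⁻¹ by group, haw, ← conj_mul, hbv, hbw,
      mul_assoc, hw2, mul_one]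
  have hs3 : ∀ z ∈ U, s ^ 3 * z * (s ^ 3)⁻¹ = z := by
    have hsvw : s * (v * w) * s⁻¹ = w := by
      rw [← conj_mul, hsv, hsw, mul_assoc, hwv, ← mul_assoc, hv2, one_mul]
    intro z hz
    rw [show s ^ 3 * z * (s ^ 3)⁻¹ = s * (s * (s * z * s⁻¹) * s⁻¹) * s⁻¹ by rw [pow_succ, pow_two]; group]
    rcases (hUmem z).mp hz with rfl | rfl | rfl | rfl
    · group
    · rw [hsv, hsvw, hsw]
    · rw [hsw, hsv, hsvw]
    · rw [hsvw, hsw, hsv]
  have hfix1 : ∀ z ∈ U, s * z * s⁻¹ = z → z = 1 := by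
    have hsvw : s * (v * w) * s⁻¹ = w := by
      rw [← conj_mul, hsv, hsw, mul_assoc, hwv, ← mul_assoc, hv2, one_mul]
    intro z hz he
    rcases (hUmem z).mp hz with rfl | rfl | rfl | rfl
    · rfl
    · exact absurd (hsv.symm.trans he) hvwv
    · exact absurd (hsw.symm.trans he) hne
    · exact absurd (hsvw.symm.trans he).symm hvww
  have has : a * s * a⁻¹ = s⁻¹ := by
    simp only [hs, mul_inv_rev, hbinv, hainv, mul_assoc, ha, mul_one]
  obtain ⟨k, m, hm, hkm⟩ := Nat.exists_eq_pow_mul_and_not_dvd (orderOf_pos s).ne' 2 (by norm_num)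
  set t := s ^ 2 ^ k with ht
  have hmodd : Odd m := Nat.not_even_iff_odd.mp fun h => hm (even_iff_two_dvd.mp h)
  have htodd : Odd (orderOf t) := by
    rw [ht, orderOf_pow' _ (by positivity), hkm, Nat.gcd_eq_right (Dvd.intro m rfl),
      Nat.mul_div_cancel_left _ (by positivity)]
    exact hmodd
  refine involves_s4 U hU4 (fun z hz => hW2 z (hUW hz)) t a ha ?_ htodd ?_ haU ?_ ⟨w, ?_, ?_⟩
  · conv_lhs => arg 2; rw [← hainv]
    rw [ht, ← conj_pow, has, inv_pow]
  · exact pow_mem (mul_mem hbU haU) _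
  · intro z hz hfx
    refine hfix1 z hz ?_
    have hc1 : s ^ 3 ∈ centralizer ({z} : Set G) :=
      mem_centralizer_singleton_iff.mpr (mul_inv_eq_iff_eq_mul.mp (hs3 z hz))
    have hc2 : t ∈ centralizer ({z} : Set G) :=
      mem_centralizer_singleton_iff.mpr (mul_inv_eq_iff_eq_mul.mp hfx)
    have hcop : IsCoprime ((3 : ℕ) : ℤ) ((2 ^ k : ℕ) : ℤ) :=
      Int.isCoprime_iff_nat_coprime.mpr (Nat.Coprime.pow_right k (by norm_num))
    obtain ⟨x, y, hxy⟩ := hcop
    have hc3 : s ∈ centralizer ({z} : Set G) := by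
      have := mul_mem (zpow_mem hc1 x) (zpow_mem hc2 y)
      rwa [ht, ← zpow_natCast, ← zpow_natCast s, ← zpow_mul, ← zpow_mul, ← zpow_add,
        mul_comm ((3 : ℕ) : ℤ), mul_comm ((2 ^ k : ℕ) : ℤ), hxy, zpow_one] at this
    rw [mem_centralizer_singleton_iff.mp hc3, mul_inv_cancel_right]
  · exact Or.inr (Or.inr (Or.inl rfl))
  · rw [haw]; exact hvww

end Cfsg.Agent.QuadOffenderAbelian
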