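import Mathlib
import Cfsg.Prelude.Def_RootSubgroups
import Cfsg.Agent.Lib.QuadPairTheory
import Cfsg.Agent.Lib.QuadPairUnipotent
import Cfsg.Agent.Lib.QuadPairCommute

/-!
The central involution of an opposite pair of quadratic root groups and the decomposition it gives.
-/

set_option autoImplicit false
set_option linter.unusedSectionVars false

namespace Cfsg.Agent.QuadPairInvolution

open Cfsg Cfsg.Agent.QuadPairTheory Cfsg.Agent.QuadPairSL2

variable {k : Type*} [Field k] {M : Type*} [AddCommGroup M] [Module k M] [FiniteDimensional k M]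
  {G : Subgroup (LinearMap.GeneralLinearGroup k M)} {a b : Module.End k M}

theorem z_mul (hd : Dual a b) :
    zz a b * a = a ∧ a * zz a b = a ∧ zz a b * b = b ∧ b * zz a b = b ∧ zz a b * zz a b = zz a b := by
  have za : zz a b * a = a := by rw [zz, add_mul, mul_assoc b, hd.sqa, hd.aba, mul_zero, add_zero]
  have zb : zz a b * b = b := by rw [zz, add_mul, mul_assoc a, hd.sqb, hd.bab, mul_zero, zero_add]
  have az : a * zz a b = a := by rw [zz, mul_add, ← mul_assoc, ← mul_assoc, hd.sqa, hd.aba, zero_mul, zero_add]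
  have bz : b * zz a b = b := by rw [zz, mul_add, ← mul_assoc, ← mul_assoc, hd.sqb, hd.bab, zero_mul, add_zero]
  refine ⟨za, az, zb, bz, ?_⟩
  conv_lhs => arg 2; rw [zz]
  rw [mul_add, ← mul_assoc, ← mul_assoc, za, zb, zz]

theorem weyl_sq (hd : Dual a b) :
    nl ((unitOf a hd.sqa * (unitOf b hd.sqb)⁻¹ * unitOf a hd.sqa) *
      (unitOf a hd.sqa * (unitOf b hd.sqb)⁻¹ * unitOf a hd.sqa)) = (-2 : k) • zz a b := by
  obtain ⟨za, az, zb, bz, zzz⟩ := z_mul hd
  obtain ⟨z, hz⟩ : ∃ z, z = zz a b := ⟨_, rfl⟩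
  rw [← hz] at za az zb bz zzz ⊢
  have hz' : a * b + b * a = z := hz.symm
  have we : ((unitOf a hd.sqa * (unitOf b hd.sqb)⁻¹ * unitOf a hd.sqa : LinearMap.GeneralLinearGroup k M) :
      Module.End k M) = 1 - z + a - b := by
    rw [Units.val_mul, Units.val_mul, unitOf_inv, unitOf_coe]
    have e1 : (1 + a) * (1 - b) * (1 + a) =
        1 - a * b - b * a + a - b + (a + a * a - a * b * a) := by noncomm_ring
    rw [e1, hd.aba, hd.sqa, ← hz']; abel
  rw [nl, Units.val_mul, we]
  have e : (1 - z + a - b) * (1 - z + a - b) - 1 = -(2 : k) • z + (z * z - z * a + z * b - a * z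
      + b * z + a * a + b * b - (a * b + b * a) + (2 : k) • a - (2 : k) • b) := by
    rw [two_smul, two_smul, neg_smul, two_smul]; noncomm_ring
  rw [e, zzz, za, zb, az, bz, hd.sqa, hd.sqb, hz', two_smul, two_smul]; abel

/-- The two root groups act trivially exactly on `ker a ⊓ ker b`. -/
theorem fixed_sup (ha : a ∈ Lie G) (hb : b ∈ Lie G) :
    fixedSubmodule (E G ha.1 ⊔ E G hb.1) = LinearMap.ker a ⊓ LinearMap.ker b := by
  refine le_antisymm ?_ ?_
  · intro m hm
    have h : ∀ g ∈ E G ha.1 ⊔ E G hb.1, nl g m = 0 := fun g hg =>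
      (Submodule.mem_iInf _).1 ((Submodule.mem_iInf _).1 hm g) hg
    refine ⟨?_, ?_⟩
    · have := h _ (Subgroup.mem_sup_left (unitOf_mem_E (self_mem_cls ha)))
      rwa [nl_unitOf] at this
    · have := h _ (Subgroup.mem_sup_right (unitOf_mem_E (self_mem_cls hb)))
      rwa [nl_unitOf] at this
  · intro m hm
    refine (Submodule.mem_iInf _).2 fun g => (Submodule.mem_iInf _).2 fun hg => ?_
    rw [Subgroup.sup_eq_closure] at hg
    show nl g m = 0
    induction hg using Subgroup.closure_induction with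
    | mem x hx =>
      rcases hx with hx | hx
      · exact LinearMap.mem_ker.1 ((mem_E.1 hx).2.2 hm.1)
      · exact LinearMap.mem_ker.1 ((mem_E.1 hx).2.2 hm.2)
    | one => simp [nl]
    | mul x y _ _ hx hy =>
      simp only [nl, Units.val_mul, LinearMap.sub_apply, Module.End.mul_apply, Module.End.one_apply,
        sub_eq_zero] at hx hy ⊢
      rw [hy, hx]
    | inv x _ hx =>
      simp only [nl, LinearMap.sub_apply, Module.End.one_apply, sub_eq_zero] at hx ⊢
      conv_lhs => rw [← hx]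
      rw [← Module.End.mul_apply, Units.inv_mul, Module.End.one_apply]

theorem commutator_sup (ha : a ∈ Lie G) (hb : b ∈ Lie G) :
    commutatorSubmodule (E G ha.1 ⊔ E G hb.1) = LinearMap.range a ⊔ LinearMap.range b := by
  refine le_antisymm (iSup₂_le fun g hg => ?_) (sup_le ?_ ?_)
  · rw [Subgroup.sup_eq_closure] at hg
    show LinearMap.range (nl g) ≤ _
    induction hg using Subgroup.closure_induction with
    | mem x hx =>
      rcases hx with hx | hx
      · exact (mem_E.1 hx).2.1.trans le_sup_left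
      · exact (mem_E.1 hx).2.1.trans le_sup_right
    | one => simp [nl]
    | mul x y _ _ hx hy =>
      rintro _ ⟨m, rfl⟩
      have e : nl (x * y) m = nl x ((y : Module.End k M) m) + nl y m := by simp [nl]
      rw [e]; exact add_mem (hx ⟨_, rfl⟩) (hy ⟨_, rfl⟩)
    | inv x _ hx =>
      rintro _ ⟨m, rfl⟩
      have e : nl x⁻¹ m = -(nl x (((x⁻¹ : LinearMap.GeneralLinearGroup k M) : Module.End k M) m)) := by
        simp only [nl, LinearMap.sub_apply, Module.End.one_apply]
        rw [← Module.End.mul_apply (x : Module.End k M), Units.mul_inv, Module.End.one_apply]; abel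
      rw [e]; exact neg_mem (hx ⟨_, rfl⟩)
  · refine le_iSup₂_of_le (unitOf a ha.1) (Subgroup.mem_sup_left (unitOf_mem_E (self_mem_cls ha))) ?_
    show LinearMap.range a ≤ LinearMap.range (nl (unitOf a ha.1))
    rw [nl_unitOf]
  · refine le_iSup₂_of_le (unitOf b hb.1) (Subgroup.mem_sup_right (unitOf_mem_E (self_mem_cls hb))) ?_
    show LinearMap.range b ≤ LinearMap.range (nl (unitOf b hb.1))
    rw [nl_unitOf]

theorem range_sup_fix (hd : Dual a b) {m : M} (hm : m ∈ LinearMap.range a ⊔ LinearMap.range b) :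
    zz a b m = m := by
  obtain ⟨za, -, zb, -, -⟩ := z_mul hd
  obtain ⟨_, ⟨x, rfl⟩, _, ⟨y, rfl⟩, rfl⟩ := Submodule.mem_sup.1 hm
  rw [map_add]
  exact congrArg₂ (· + ·) (LinearMap.congr_fun za x) (LinearMap.congr_fun zb y)

theorem ker_inf_zero (hd : Dual a b) {m : M} (hm : m ∈ LinearMap.ker a ⊓ LinearMap.ker b) :
    zz a b m = 0 := by
  rw [zz, LinearMap.add_apply, Module.End.mul_apply, Module.End.mul_apply, LinearMap.mem_ker.1 hm.1,
    LinearMap.mem_ker.1 hm.2, map_zero, map_zero, add_zero]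

theorem isCompl (hd : Dual a b) :
    IsCompl (LinearMap.ker a ⊓ LinearMap.ker b) (LinearMap.range a ⊔ LinearMap.range b) := by
  obtain ⟨-, az, -, bz, -⟩ := z_mul hd
  constructor
  · rw [disjoint_iff, eq_bot_iff]
    rintro m ⟨h1, h2⟩
    rw [Submodule.mem_bot, ← range_sup_fix hd h2, ker_inf_zero hd h1]
  · rw [codisjoint_iff, eq_top_iff]
    intro m _
    refine Submodule.mem_sup.2 ⟨m - zz a b m, ⟨?_, ?_⟩, zz a b m, ?_, sub_add_cancel _ _⟩
    · rw [SetLike.mem_coe, LinearMap.mem_ker, map_sub, sub_eq_zero]; exact (LinearMap.congr_fun az m).symm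
    · rw [SetLike.mem_coe, LinearMap.mem_ker, map_sub, sub_eq_zero]; exact (LinearMap.congr_fun bz m).symm
    · exact add_mem (Submodule.mem_sup_left ⟨_, rfl⟩) (Submodule.mem_sup_right ⟨_, rfl⟩)

/-- An opposite pair: the central involution and the decomposition. -/
theorem involution (hk2 : (2 : k) ≠ 0) (hk3 : Nat.card k ≠ 3) (ha : IsMin G a) (hb : IsMin G b)
    (ho : Opp a b) :
    (∃! i : LinearMap.GeneralLinearGroup k M, i ∈ E G ha.1.1 ⊔ E G hb.1.1 ∧ i ≠ 1 ∧ i * i = 1 ∧
      (∀ x ∈ E G ha.1.1 ⊔ E G hb.1.1, i * x = x * i) ∧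
      (∀ m ∈ commutatorSubmodule (E G ha.1.1 ⊔ E G hb.1.1), (i : M →ₗ[k] M) m = -m) ∧
      (∀ m ∈ fixedSubmodule (E G ha.1.1 ⊔ E G hb.1.1), (i : M →ₗ[k] M) m = m)) ∧
    IsCompl (fixedSubmodule (E G ha.1.1 ⊔ E G hb.1.1)) (commutatorSubmodule (E G ha.1.1 ⊔ E G hb.1.1)) := by
  obtain ⟨b', hb', hb0, hd⟩ := exists_dual hk2 hk3 ha hb ho
  obtain ⟨hbm, hbr, hbk⟩ := cls_spaces hb hb' hb0
  rw [← E_eq_of_mem hb hb' hb0, fixed_sup ha.1 hbm.1, commutator_sup ha.1 hbm.1]
  refine ⟨?_, isCompl hd⟩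
  obtain ⟨za, az, zb, bz, zzz⟩ := z_mul hd
  set u := unitOf a hd.sqa
  set v := unitOf b' hd.sqb
  set i := (u * v⁻¹ * u) * (u * v⁻¹ * u)
  have hi : nl i = (-2 : k) • zz a b' := weyl_sq hd
  have hie : (i : Module.End k M) = 1 + (-2 : k) • zz a b' := by rw [← hi, nl]; abel
  have hu : u ∈ E G ha.1.1 ⊔ E G hbm.1.1 := Subgroup.mem_sup_left (unitOf_mem_E (self_mem_cls ha.1))
  have hv : v ∈ E G ha.1.1 ⊔ E G hbm.1.1 := Subgroup.mem_sup_right (unitOf_mem_E (self_mem_cls hbm.1))
  have hmem : i ∈ E G ha.1.1 ⊔ E G hbm.1.1 :=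
    mul_mem (mul_mem (mul_mem hu (inv_mem hv)) hu) (mul_mem (mul_mem hu (inv_mem hv)) hu)
  have hz0 : zz a b' ≠ 0 := fun h => ha.2.1 (by rw [← za, h, zero_mul])
  have hne : i ≠ 1 := fun h =>
    smul_ne_zero (neg_ne_zero.2 hk2) hz0 (hi.symm.trans (nl_eq_zero.2 h))
  have hsq : i * i = 1 := by
    apply Units.ext
    rw [Units.val_mul, hie, Units.val_one, mul_add, mul_one, add_mul, one_mul, smul_mul_smul_comm, zzz,
      add_assoc, ← add_smul, ← add_smul]
    simp only [show (-2 : k) + (-2 + -2 * -2) = 0 by ring, zero_smul, add_zero]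
  have hcentral : E G ha.1.1 ⊔ E G hbm.1.1 ≤ Subgroup.centralizer {i} := by
    have side : ∀ {p : Module.End k M}, zz a b' * p = p → p * zz a b' = p →
        ∀ g : LinearMap.GeneralLinearGroup k M, nl g = p → g ∈ Subgroup.centralizer {i} := by
      intro p h1 h2 g hg
      rw [Subgroup.mem_centralizer_iff]
      intro x hx
      rw [Set.mem_singleton_iff.1 hx]
      exact QuadPairCommute.comm_of_nl (by rw [hi, hg, smul_mul_assoc, mul_smul_comm, h1, h2])
    refine sup_le (fun g hg => ?_) (fun g hg => ?_)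
    · obtain ⟨-, h1, h2⟩ := mem_E.1 hg
      refine side ?_ ?_ g rfl
      · exact LinearMap.ext fun m => range_sup_fix hd (Submodule.mem_sup_left (h1 ⟨m, rfl⟩))
      · refine LinearMap.ext fun m => ?_
        have : m - zz a b' m ∈ LinearMap.ker a := by
          rw [LinearMap.mem_ker, map_sub, sub_eq_zero]; exact (LinearMap.congr_fun az m).symm
        have := LinearMap.mem_ker.1 (h2 this)
        rw [map_sub, sub_eq_zero] at this
        exact this.symm
    · obtain ⟨-, h1, h2⟩ := mem_E.1 hg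
      refine side ?_ ?_ g rfl
      · exact LinearMap.ext fun m => range_sup_fix hd (Submodule.mem_sup_right (h1 ⟨m, rfl⟩))
      · refine LinearMap.ext fun m => ?_
        have : m - zz a b' m ∈ LinearMap.ker b' := by
          rw [LinearMap.mem_ker, map_sub, sub_eq_zero]; exact (LinearMap.congr_fun bz m).symm
        have := LinearMap.mem_ker.1 (h2 this)
        rw [map_sub, sub_eq_zero] at this
        exact this.symm
  have hneg : ∀ m ∈ LinearMap.range a ⊔ LinearMap.range b', (i : M →ₗ[k] M) m = -m := fun m hm => by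
    rw [hie, LinearMap.add_apply, LinearMap.smul_apply, Module.End.one_apply, range_sup_fix hd hm, neg_smul,
      two_smul]
    abel
  have hpos : ∀ m ∈ LinearMap.ker a ⊓ LinearMap.ker b', (i : M →ₗ[k] M) m = m := fun m hm => by
    rw [hie, LinearMap.add_apply, LinearMap.smul_apply, Module.End.one_apply, ker_inf_zero hd hm, smul_zero,
      add_zero]
  refine ⟨i, ⟨hmem, hne, hsq, fun x hx => Subgroup.mem_centralizer_iff.1 (hcentral hx) i rfl, hneg, hpos⟩, ?_⟩
  rintro j ⟨-, -, -, -, jneg, jpos⟩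
  apply Units.ext
  refine LinearMap.ext fun m => ?_
  obtain ⟨p, hp, q, hq, rfl⟩ := Submodule.mem_sup.1 ((isCompl hd).sup_eq_top ▸ Submodule.mem_top : m ∈ _)
  rw [map_add, map_add, jneg q hq, hneg q hq, jpos p hp, hpos p hp]

end Cfsg.Agent.QuadPairInvolution
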