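import Mathlib

/-!
Five-cocliques in a collinearity graph with three points on each line and three lines on each point.
-/

set_option autoImplicit false

namespace Cfsg.Agent.QuadrangleTwo70

open Finset

/-- Number of agreements of two triples. -/
def agree (p q : Bool × Bool × Bool) : ℕ :=
  (if p.1 = q.1 then 1 else 0) + (if p.2.1 = q.2.1 then 1 else 0) + (if p.2.2 = q.2.2 then 1 else 0)

theorem agree_odd : ∀ p q r, (agree p q + agree p r + agree q r) % 2 = 1 ∧ agree p p = 3 ∧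
    agree p q ≤ 3 := by decide +kernel

variable {P : Type*} [Fintype P] [DecidableEq P] (D : P → P → Prop) [DecidableRel D]

/-- The axioms. -/
structure IsQuad : Prop where
  symm : ∀ x y, D x y → D y x
  irrefl : ∀ x, ¬ D x x
  degree : ∀ x, (univ.filter (D x)).card = 6
  far : ∀ x, (univ.filter fun y => y ≠ x ∧ ¬ D x y).card = 8
  third : ∀ x y, D x y → ∃ c, D x c ∧ D y c ∧ ∀ c', D x c' → D y c' → c' = c
  one : ∀ a b c v, D a b → D a c → D b c → v ≠ a → v ≠ b → v ≠ c →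
    (D v a ∨ D v b ∨ D v c) ∧ ¬ (D v a ∧ D v b) ∧ ¬ (D v a ∧ D v c) ∧ ¬ (D v b ∧ D v c)

variable {D}

theorem exists_frame (h : IsQuad D) (x : P) :
    ∃ U1 U2 U3 : Finset P, univ.filter (D x) = (U1 ∪ U2) ∪ U3 ∧ Disjoint U1 U2 ∧
      Disjoint (U1 ∪ U2) U3 ∧ ∀ U ∈ [U1, U2, U3], ∃ c d, U = {c, d} ∧ c ≠ d ∧
        D x c ∧ D x d ∧ D c d := by
  have hpair : ∀ c, D x c → ∃ d, c ≠ d ∧ D x d ∧ D c d ∧ ∀ e, D x e → D c e → e = d := fun c hc => by
    obtain ⟨d, hd1, hd2, hu⟩ := h.third x c hc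
    exact ⟨d, fun e => h.irrefl c (e ▸ hd2), hd1, hd2, hu⟩
  set N := univ.filter (D x) with hN
  have hmem : ∀ c, c ∈ N ↔ D x c := fun c => by simp [hN]
  have step : ∀ S : Finset P, S ⊆ N → S.card < 6 → (∀ c ∈ S, ∀ d, D x d → D c d → d ∈ S) →
      ∃ c d, c ≠ d ∧ D x c ∧ D x d ∧ D c d ∧ c ∉ S ∧ d ∉ S ∧
        ∀ c' ∈ S ∪ {c, d}, ∀ d', D x d' → D c' d' → d' ∈ S ∪ {c, d} := by
    intro S hS hlt hclosed
    obtain ⟨c, hc, hcS⟩ := exists_mem_notMem_of_card_lt_card (s := S) (t := N)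
      (by rw [hN, h.degree]; exact hlt)
    obtain ⟨d, hcd, hd, hcd', hu⟩ := hpair c ((hmem c).1 hc)
    refine ⟨c, d, hcd, (hmem c).1 hc, hd, hcd', hcS,
      fun hdS => hcS (hclosed d hdS c ((hmem c).1 hc) (h.symm _ _ hcd')), ?_⟩
    intro c' hc' d' hd' hadj
    simp only [mem_union, mem_insert, mem_singleton] at hc' ⊢
    rcases hc' with hc' | rfl | rfl
    · exact Or.inl (hclosed c' hc' d' hd' hadj)
    · exact Or.inr (Or.inr (hu d' hd' hadj))
    · obtain ⟨e, -, -, hu'⟩ := h.third x c' hd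
      exact Or.inr (Or.inl ((hu' d' hd' hadj).trans (hu' c ((hmem c).1 hc) (h.symm _ _ hcd')).symm))
  obtain ⟨c1, d1, n1, a1, b1, e1, -, -, cl1⟩ := step ∅ (empty_subset _) (by simp) (by simp)
  rw [empty_union] at cl1
  have hs1 : ({c1, d1} : Finset P) ⊆ N := by simp [insert_subset_iff, hmem, a1, b1]
  obtain ⟨c2, d2, n2, a2, b2, e2, o2, p2, cl2⟩ := step {c1, d1} hs1 (by rw [card_pair n1]; norm_num) cl1
  have hd12 : Disjoint ({c1, d1} : Finset P) {c2, d2} := by
    simp only [disjoint_insert_right, disjoint_singleton_right]; exact ⟨o2, p2⟩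
  have hs2 : ({c1, d1} ∪ {c2, d2} : Finset P) ⊆ N := by
    simp [union_subset_iff, insert_subset_iff, hmem, a1, b1, a2, b2]
  have hc12 : ({c1, d1} ∪ {c2, d2} : Finset P).card = 4 := by
    rw [card_union_of_disjoint hd12, card_pair n1, card_pair n2]
  obtain ⟨c3, d3, n3, a3, b3, e3, o3, p3, -⟩ := step _ hs2 (by rw [hc12]; norm_num) cl2
  have hd3 : Disjoint ({c1, d1} ∪ {c2, d2} : Finset P) {c3, d3} := by
    simp only [disjoint_insert_right, disjoint_singleton_right]; exact ⟨o3, p3⟩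
  refine ⟨{c1, d1}, {c2, d2}, {c3, d3}, (eq_of_subset_of_card_le ?_ ?_).symm, hd12, hd3, ?_⟩
  · exact union_subset hs2 (by simp [insert_subset_iff, hmem, a3, b3])
  · rw [card_union_of_disjoint hd3, hc12, card_pair n3, hN, h.degree]
  · intro U hU
    simp only [List.mem_cons, List.not_mem_nil, or_false] at hU
    rcases hU with rfl | rfl | rfl
    · exact ⟨c1, d1, rfl, n1, a1, b1, e1⟩
    · exact ⟨c2, d2, rfl, n2, a2, b2, e2⟩
    · exact ⟨c3, d3, rfl, n3, a3, b3, e3⟩

theorem exists_select (h : IsQuad D) (x : P) :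
    ∃ sel : P → Bool × Bool × Bool, ∀ y z, y ≠ x → ¬ D x y → z ≠ x → ¬ D x z →
      (univ.filter fun c => D x c ∧ D y c ∧ D z c).card = agree (sel y) (sel z) := by
  obtain ⟨U1, U2, U3, hU, hd12, hd3, hUs⟩ := exists_frame h x
  obtain ⟨c1, d1, rfl, n1, a1, b1, e1⟩ := hUs U1 (by simp)
  obtain ⟨c2, d2, rfl, n2, a2, b2, e2⟩ := hUs U2 (by simp)
  obtain ⟨c3, d3, rfl, n3, a3, b3, e3⟩ := hUs U3 (by simp)
  refine ⟨fun y => (decide (D y c1), decide (D y c2), decide (D y c3)), fun y z hy hy' hz hz' => ?_⟩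
  have key : ∀ c d, c ≠ d → D x c → D x d → D c d →
      (({c, d} : Finset P).filter fun u => D y u ∧ D z u).card =
        if decide (D y c) = decide (D z c) then 1 else 0 := by
    intro c d hne hc hd hcd
    have hy1 := h.one x c d y hc hd hcd hy (fun e => hy' (e ▸ hc)) (fun e => hy' (e ▸ hd))
    have hz1 := h.one x c d z hc hd hcd hz (fun e => hz' (e ▸ hc)) (fun e => hz' (e ▸ hd))
    have hyd : D y d ↔ ¬ D y c := by
      refine ⟨fun hd' hc' => hy1.2.2.2 ⟨hc', hd'⟩, fun hc' => ?_⟩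
      rcases hy1.1 with hh | hh | hh
      · exact absurd (h.symm _ _ hh) hy'
      · exact absurd hh hc'
      · exact hh
    have hzd : D z d ↔ ¬ D z c := by
      refine ⟨fun hd' hc' => hz1.2.2.2 ⟨hc', hd'⟩, fun hc' => ?_⟩
      rcases hz1.1 with hh | hh | hh
      · exact absurd (h.symm _ _ hh) hz'
      · exact absurd hh hc'
      · exact hh
    rw [card_filter, sum_pair hne]
    by_cases p : D y c <;> by_cases q : D z c <;> simp [p, q, hyd, hzd]
  have : univ.filter (fun c => D x c ∧ D y c ∧ D z c) =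
      (univ.filter (D x)).filter fun c => D y c ∧ D z c := by rw [filter_filter]
  rw [this, hU, filter_union, filter_union,
    card_union_of_disjoint (by rw [← filter_union]; exact disjoint_filter_filter hd3),
    card_union_of_disjoint (disjoint_filter_filter hd12), key c1 d1 n1 a1 b1 e1,
    key c2 d2 n2 a2 b2 e2, key c3 d3 n3 a3 b3 e3]
  rfl

theorem common_three (h : IsQuad D) {x y : P} (hne : y ≠ x) (hxy : ¬ D x y) :
    (univ.filter fun c => D x c ∧ D y c).card = 3 := by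
  obtain ⟨sel, hsel⟩ := exists_select h x
  have := hsel y y hne hxy hne hxy
  rw [(agree_odd (sel y) (sel y) (sel y)).2.1] at this
  rw [← this]
  congr 1
  ext c
  simp

/-- The points away from a given one. -/
def away (D : P → P → Prop) [DecidableRel D] (x : P) : Finset P :=
  univ.filter fun y => y ≠ x ∧ ¬ D x y

theorem mem_away {x y : P} : y ∈ away D x ↔ y ≠ x ∧ ¬ D x y := by simp [away]

theorem away_degree (h : IsQuad D) {x y : P} (hy : y ∈ away D x) :
    ((away D x).filter (D y)).card = 3 := by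
  obtain ⟨hne, hxy⟩ := mem_away.1 hy
  have h2 := card_filter_add_card_filter_not (s := univ.filter (D y)) (p := fun c => D x c)
  rw [filter_filter, h.degree] at h2
  have h3 : univ.filter (fun c => D y c ∧ D x c) = univ.filter fun c => D x c ∧ D y c :=
    filter_congr fun c _ => and_comm
  rw [h3, common_three h hne hxy, filter_filter] at h2
  have : (away D x).filter (D y) = univ.filter fun c => D y c ∧ ¬ D x c := by
    ext c
    simp only [mem_filter, mem_away, mem_univ, true_and]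
    exact ⟨fun hh => ⟨hh.2, hh.1.2⟩,
      fun hh => ⟨⟨fun e => hxy (h.symm _ _ (e ▸ hh.1)), hh.2⟩, hh.1⟩⟩
  rw [this]; omega

theorem no_triangle_away (h : IsQuad D) {x y z c : P} (hy : y ∈ away D x) (hz : z ∈ away D x)
    (hyz : D y z) (hyc : D y c) (hzc : D z c) : c ∉ away D x := by
  intro hc
  obtain ⟨hy1, hy2⟩ := mem_away.1 hy
  obtain ⟨hz1, hz2⟩ := mem_away.1 hz
  obtain ⟨hc1, hc2⟩ := mem_away.1 hc
  rcases (h.one y z c x hyz hyc hzc hy1.symm hz1.symm hc1.symm).1 with hh | hh | hh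
  · exact hy2 hh
  · exact hz2 hh
  · exact hc2 hh

theorem two_paths (h : IsQuad D) {x y0 y1 y2 : P} (h0 : y0 ∈ away D x) (h1 : y1 ∈ away D x)
    (h2 : y2 ∈ away D x) (h01 : D y0 y1) (h02 : D y0 y2) (hne : y1 ≠ y2) :
    ((away D x).filter fun c => D y1 c ∧ D y2 c).card = 2 := by
  obtain ⟨sel, hsel⟩ := exists_select h x
  have hn12 : ¬ D y1 y2 := fun hh => no_triangle_away h h1 h2 hh (h.symm _ _ h01) (h.symm _ _ h02) h0
  have hedge : ∀ u v, u ∈ away D x → v ∈ away D x → D u v → agree (sel u) (sel v) = 1 := by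
    intro u v hu hv huv
    rw [← hsel u v (mem_away.1 hu).1 (mem_away.1 hu).2 (mem_away.1 hv).1 (mem_away.1 hv).2, card_eq_one]
    obtain ⟨c, hc1, hc2, hu'⟩ := h.third u v huv
    refine ⟨c, ext fun e => ?_⟩
    simp only [mem_filter, mem_univ, true_and, mem_singleton]
    refine ⟨fun hh => hu' e hh.2.1 hh.2.2, ?_⟩
    rintro rfl
    refine ⟨?_, hc1, hc2⟩
    by_contra hn
    refine no_triangle_away h hu hv huv hc1 hc2 (mem_away.2 ⟨fun hx => ?_, hn⟩)
    exact (mem_away.1 hu).2 (h.symm _ _ (hx ▸ hc1))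
  have key := agree_odd (sel y0) (sel y1) (sel y2)
  rw [hedge y0 y1 h0 h1 h01, hedge y0 y2 h0 h2 h02] at key
  have h3 := card_filter_add_card_filter_not
    (s := univ.filter fun c => D y1 c ∧ D y2 c) (p := fun c => D x c)
  rw [common_three h hne.symm hn12, filter_filter, filter_filter] at h3
  have e1 : univ.filter (fun c => (D y1 c ∧ D y2 c) ∧ D x c) =
      univ.filter fun c => D x c ∧ D y1 c ∧ D y2 c := filter_congr fun c _ => and_comm
  have e2 : (away D x).filter (fun c => D y1 c ∧ D y2 c) =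
      univ.filter fun c => (D y1 c ∧ D y2 c) ∧ ¬ D x c := by
    ext c
    simp only [mem_filter, mem_away, mem_univ, true_and]
    exact ⟨fun hh => ⟨hh.2, hh.1.2⟩,
      fun hh => ⟨⟨fun e => (mem_away.1 h1).2 (h.symm _ _ (e ▸ hh.1.1)), hh.2⟩, hh.1⟩⟩
  rw [e1, hsel y1 y2 (mem_away.1 h1).1 (mem_away.1 h1).2 (mem_away.1 h2).1 (mem_away.1 h2).2] at h3
  have h4 : y0 ∈ (away D x).filter fun c => D y1 c ∧ D y2 c :=
    mem_filter.2 ⟨h0, h.symm _ _ h01, h.symm _ _ h02⟩
  have h5 := card_pos.2 ⟨_, h4⟩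
  rw [e2] at h5 ⊢
  omega

/-- Sets of pairwise unrelated points. -/
def Free (D : P → P → Prop) (S : Finset P) : Prop := ∀ a ∈ S, ∀ b ∈ S, ¬ D a b

omit [Fintype P] [DecidableEq P] [DecidableRel D] in
theorem free_mono {S T : Finset P} (h : S ⊆ T) (hT : Free D T) : Free D S :=
  fun a ha b hb => hT a (h ha) b (h hb)

theorem two_free_away (h : IsQuad D) (x : P) :
    ∃ A B : Finset P, A ≠ B ∧ ∀ S : Finset P, S ⊆ away D x ∧ S.card = 4 ∧ Free D S ↔ S = A ∨ S = B := by
  set Y := away D x with hY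
  have hY8 : Y.card = 8 := h.far x
  obtain ⟨y0, hy0⟩ : Y.Nonempty := card_pos.1 (by omega)
  obtain ⟨y1, y2, y3, h12, h13, h23, hN⟩ := card_eq_three.1 (away_degree h hy0)
  have hy : ∀ y ∈ ({y1, y2, y3} : Finset P), y ∈ Y ∧ D y0 y := fun y hy => by
    rw [← hN] at hy; exact mem_filter.1 hy
  obtain ⟨m1, e1⟩ := hy y1 (by simp)
  obtain ⟨m2, e2⟩ := hy y2 (by simp)
  obtain ⟨m3, e3⟩ := hy y3 (by simp)
  have irr := h.irrefl
  have sy := h.symm
  have other : ∀ u v, u ∈ Y → v ∈ Y → D y0 u → D y0 v → u ≠ v →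
      ∃ z ∈ Y, z ≠ y0 ∧ D u z ∧ D v z ∧ ∀ z', z' ∈ Y → D u z' → D v z' → z' = y0 ∨ z' = z := by
    intro u v hu hv hu0 hv0 hne
    obtain ⟨p, q, hpq, he⟩ := card_eq_two.1 (two_paths h hy0 hu hv hu0 hv0 hne)
    have hm : ∀ z, (z ∈ Y ∧ D u z ∧ D v z) ↔ z = p ∨ z = q := fun z => by
      have := Finset.ext_iff.1 he z
      simpa using this
    rcases (hm y0).1 ⟨hy0, sy _ _ hu0, sy _ _ hv0⟩ with rfl | rfl
    · obtain ⟨k1, k2, k3⟩ := (hm q).2 (Or.inr rfl)
      exact ⟨q, k1, hpq.symm, k2, k3, fun z' l1 l2 l3 => (hm z').1 ⟨l1, l2, l3⟩⟩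
    · obtain ⟨k1, k2, k3⟩ := (hm p).2 (Or.inl rfl)
      exact ⟨p, k1, hpq, k2, k3, fun z' l1 l2 l3 => ((hm z').1 ⟨l1, l2, l3⟩).symm⟩
  obtain ⟨z3, m6, o3, f13, f23, u3⟩ := other y1 y2 m1 m2 e1 e2 h12
  obtain ⟨z2, m5, o2, f12, f32, u2⟩ := other y1 y3 m1 m3 e1 e3 h13
  obtain ⟨z1, m4, o1, f21, f31, u1⟩ := other y2 y3 m2 m3 e2 e3 h23
  have nz : ∀ z, z ∈ Y → z ≠ y0 → (D y1 z ∨ D y2 z ∨ D y3 z) →
      z ≠ y1 ∧ z ≠ y2 ∧ z ≠ y3 ∧ ¬ D y0 z := by
    intro z hz _ hd
    have hn : ¬ D y0 z := by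
      intro hh
      rcases hd with d | d | d
      · exact no_triangle_away h hy0 m1 e1 hh d hz
      · exact no_triangle_away h hy0 m2 e2 hh d hz
      · exact no_triangle_away h hy0 m3 e3 hh d hz
    exact ⟨fun e => hn (e ▸ e1), fun e => hn (e ▸ e2), fun e => hn (e ▸ e3), hn⟩
  obtain ⟨g11, g12, g13, g10⟩ := nz z1 m4 o1 (Or.inr (Or.inl f21))
  obtain ⟨g21, g22, g23, g20⟩ := nz z2 m5 o2 (Or.inl f12)
  obtain ⟨g31, g32, g33, g30⟩ := nz z3 m6 o3 (Or.inl f13)
  have noall : ∀ z, z ∈ Y → z ≠ y0 → ¬ D y0 z → ¬ (D y1 z ∧ D y2 z ∧ D y3 z) := by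
    rintro z hz hne hn ⟨d1, d2, d3⟩
    have h2 := two_paths h m1 hy0 hz (sy _ _ e1) d1 hne.symm
    have hsub : ({y1, y2, y3} : Finset P) ⊆ Y.filter fun c => D y0 c ∧ D z c := by
      simp [insert_subset_iff, m1, m2, m3, e1, e2, e3, sy _ _ d1, sy _ _ d2, sy _ _ d3]
    have := card_le_card hsub
    rw [h2, card_eq_three.2 ⟨y1, y2, y3, h12, h13, h23, rfl⟩] at this
    omega
  have z12 : z1 ≠ z2 := fun e => noall z1 m4 o1 g10 ⟨e ▸ f12, f21, f31⟩
  have z13 : z1 ≠ z3 := fun e => noall z1 m4 o1 g10 ⟨e ▸ f13, f21, f31⟩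
  have z23 : z2 ≠ z3 := fun e => noall z2 m5 o2 g20 ⟨f12, e ▸ f23, f32⟩
  set S7 : Finset P := {y0, y1, y2, y3, z1, z2, z3} with hS7
  have hS7c : S7.card = 7 := by
    have q1 : y0 ≠ y1 := fun e => irr y1 (e ▸ e1)
    have q2 : y0 ≠ y2 := fun e => irr y2 (e ▸ e2)
    have q3 : y0 ≠ y3 := fun e => irr y3 (e ▸ e3)
    simp [hS7, q1, q2, q3, o1.symm, o2.symm, o3.symm, h12, h13, h23, g11.symm, g12.symm, g13.symm,
      g21.symm, g22.symm, g23.symm, g31.symm, g32.symm, g33.symm, z12, z13, z23]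
  have hS7Y : S7 ⊆ Y := by simp [hS7, insert_subset_iff, hy0, m1, m2, m3, m4, m5, m6]
  obtain ⟨z0, hz0⟩ := card_eq_one.1 (show (Y \ S7).card = 1 by
    rw [card_sdiff_of_subset hS7Y, hY8, hS7c])
  obtain ⟨m0, o0⟩ := mem_sdiff.1 (hz0 ▸ mem_singleton_self z0)
  simp only [hS7, mem_insert, mem_singleton, not_or] at o0
  obtain ⟨o00, o01, o02, o03, o04, o05, o06⟩ := o0
  have hYeq : ∀ y ∈ Y, y = y0 ∨ y = y1 ∨ y = y2 ∨ y = y3 ∨ y = z1 ∨ y = z2 ∨ y = z3 ∨ y = z0 := by
    intro y hy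
    by_cases hs : y ∈ S7
    · simp [hS7] at hs; tauto
    · have : y = z0 := mem_singleton.1 (hz0 ▸ mem_sdiff.2 ⟨hy, hs⟩)
      tauto
  have nbrs : ∀ u a b c, u ∈ Y → a ∈ Y → b ∈ Y → c ∈ Y → D u a → D u b → D u c → a ≠ b → a ≠ c →
      b ≠ c → ∀ v ∈ Y, D u v → v = a ∨ v = b ∨ v = c := by
    intro u a b c hu ha hb hc da db dc ab ac bc v hv dv
    have he : ({a, b, c} : Finset P) = Y.filter (D u) :=
      eq_of_subset_of_card_le (by simp [insert_subset_iff, ha, hb, hc, da, db, dc])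
        (by rw [away_degree h hu, card_eq_three.2 ⟨a, b, c, ab, ac, bc, rfl⟩])
    have := he.symm ▸ mem_filter.2 ⟨hv, dv⟩
    simpa using this
  have n0 := nbrs y0 y1 y2 y3 hy0 m1 m2 m3 e1 e2 e3 h12 h13 h23
  have n1 := nbrs y1 y0 z2 z3 m1 hy0 m5 m6 (sy _ _ e1) f12 f13 o2.symm o3.symm z23
  have n2 := nbrs y2 y0 z1 z3 m2 hy0 m4 m6 (sy _ _ e2) f21 f23 o1.symm o3.symm z13
  have n3 := nbrs y3 y0 z1 z2 m3 hy0 m4 m5 (sy _ _ e3) f31 f32 o1.symm o2.symm z12
  -- the last point is joined to `z1`, `z2`, `z3`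
  have k0 : ¬ D z0 y0 ∧ ¬ D z0 y1 ∧ ¬ D z0 y2 ∧ ¬ D z0 y3 := by
    refine ⟨fun d => ?_, fun d => ?_, fun d => ?_, fun d => ?_⟩
    · rcases n0 z0 m0 (sy _ _ d) with e | e | e <;> [exact o01 e; exact o02 e; exact o03 e]
    · rcases n1 z0 m0 (sy _ _ d) with e | e | e <;> [exact o00 e; exact o05 e; exact o06 e]
    · rcases n2 z0 m0 (sy _ _ d) with e | e | e <;> [exact o00 e; exact o04 e; exact o06 e]
    · rcases n3 z0 m0 (sy _ _ d) with e | e | e <;> [exact o00 e; exact o04 e; exact o05 e]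
  have hz0n : ({z1, z2, z3} : Finset P) = Y.filter (D z0) := by
    refine (eq_of_subset_of_card_le ?_ ?_).symm
    · intro v hv
      obtain ⟨hv, d⟩ := mem_filter.1 hv
      rcases hYeq v hv with rfl | rfl | rfl | rfl | rfl | rfl | rfl | rfl
      · exact absurd d k0.1
      · exact absurd d k0.2.1
      · exact absurd d k0.2.2.1
      · exact absurd d k0.2.2.2
      · simp
      · simp
      · simp
      · exact absurd d (irr _)
    · rw [away_degree h m0]; exact card_le_three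
  have f0 : D z0 z1 ∧ D z0 z2 ∧ D z0 z3 := by
    refine ⟨?_, ?_, ?_⟩ <;> refine (mem_filter.1 (hz0n ▸ ?_ : _ ∈ Y.filter (D z0))).2 <;> simp
  have l1 := nbrs z1 y2 y3 z0 m4 m2 m3 m0 (sy _ _ f21) (sy _ _ f31) (sy _ _ f0.1) h23 (Ne.symm o02)
    (Ne.symm o03)
  have l2 := nbrs z2 y1 y3 z0 m5 m1 m3 m0 (sy _ _ f12) (sy _ _ f32) (sy _ _ f0.2.1) h13 (Ne.symm o01)
    (Ne.symm o03)
  have l3 := nbrs z3 y1 y2 z0 m6 m1 m2 m0 (sy _ _ f13) (sy _ _ f23) (sy _ _ f0.2.2) h12 (Ne.symm o01)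
    (Ne.symm o02)
  have nzz : ¬ D z1 z2 ∧ ¬ D z1 z3 ∧ ¬ D z2 z3 := by
    refine ⟨fun d => ?_, fun d => ?_, fun d => ?_⟩
    · rcases l1 z2 m5 d with e | e | e <;> [exact g22 e; exact g23 e; exact o05 e.symm]
    · rcases l1 z3 m6 d with e | e | e <;> [exact g32 e; exact g33 e; exact o06 e.symm]
    · rcases l2 z3 m6 d with e | e | e <;> [exact g31 e; exact g33 e; exact o06 e.symm]
  have nyy : ¬ D y1 y2 ∧ ¬ D y1 y3 ∧ ¬ D y2 y3 :=
    ⟨fun d => no_triangle_away h hy0 m1 e1 e2 d m2, fun d => no_triangle_away h hy0 m1 e1 e3 d m3,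
      fun d => no_triangle_away h hy0 m2 e2 e3 d m3⟩
  set A : Finset P := {y0, z1, z2, z3}
  set B : Finset P := {z0, y1, y2, y3}
  have hA : A ⊆ Y ∧ A.card = 4 ∧ Free D A := by
    refine ⟨by simp [A, insert_subset_iff, hy0, m4, m5, m6], by
      simp [A, o1.symm, o2.symm, o3.symm, z12, z13, z23], ?_⟩
    intro a ha b hb d
    simp only [A, mem_insert, mem_singleton] at ha hb
    rcases ha with rfl | rfl | rfl | rfl <;> rcases hb with rfl | rfl | rfl | rfl
    · exact irr _ d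
    · exact g10 d
    · exact g20 d
    · exact g30 d
    · exact g10 (sy _ _ d)
    · exact irr _ d
    · exact nzz.1 d
    · exact nzz.2.1 d
    · exact g20 (sy _ _ d)
    · exact nzz.1 (sy _ _ d)
    · exact irr _ d
    · exact nzz.2.2 d
    · exact g30 (sy _ _ d)
    · exact nzz.2.1 (sy _ _ d)
    · exact nzz.2.2 (sy _ _ d)
    · exact irr _ d
  have hB : B ⊆ Y ∧ B.card = 4 ∧ Free D B := by
    refine ⟨by simp [B, insert_subset_iff, m0, m1, m2, m3], by
      simp [B, o01, o02, o03, h12, h13, h23], ?_⟩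
    intro a ha b hb d
    simp only [B, mem_insert, mem_singleton] at ha hb
    rcases ha with rfl | rfl | rfl | rfl <;> rcases hb with rfl | rfl | rfl | rfl
    · exact irr _ d
    · exact k0.2.1 d
    · exact k0.2.2.1 d
    · exact k0.2.2.2 d
    · exact k0.2.1 (sy _ _ d)
    · exact irr _ d
    · exact nyy.1 d
    · exact nyy.2.1 d
    · exact k0.2.2.1 (sy _ _ d)
    · exact nyy.1 (sy _ _ d)
    · exact irr _ d
    · exact nyy.2.2 d
    · exact k0.2.2.2 (sy _ _ d)
    · exact nyy.2.1 (sy _ _ d)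
    · exact nyy.2.2 (sy _ _ d)
    · exact irr _ d
  refine ⟨A, B, fun e => ?_, fun S => ⟨?_, ?_⟩⟩
  · have : z0 ∈ A := e ▸ mem_insert_self z0 _
    simp [A, o00, o04, o05, o06] at this
  · rintro ⟨hSY, hS4, hfree⟩
    by_cases hy0S : y0 ∈ S
    · by_cases hz0S : z0 ∈ S
      · have hsub : S ⊆ {y0, z0} := fun v hv => by
          rcases hYeq v (hSY hv) with rfl | rfl | rfl | rfl | rfl | rfl | rfl | rfl
          · simp
          · exact absurd e1 (hfree _ hy0S _ hv)
          · exact absurd e2 (hfree _ hy0S _ hv)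
          · exact absurd e3 (hfree _ hy0S _ hv)
          · exact absurd f0.1 (hfree _ hz0S _ hv)
          · exact absurd f0.2.1 (hfree _ hz0S _ hv)
          · exact absurd f0.2.2 (hfree _ hz0S _ hv)
          · simp
        have := (card_le_card hsub).trans card_le_two
        omega
      · refine Or.inl (eq_of_subset_of_card_le (fun v hv => ?_) (by rw [hS4, hA.2.1]))
        rcases hYeq v (hSY hv) with rfl | rfl | rfl | rfl | rfl | rfl | rfl | rfl
        · simp [A]
        · exact absurd e1 (hfree _ hy0S _ hv)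
        · exact absurd e2 (hfree _ hy0S _ hv)
        · exact absurd e3 (hfree _ hy0S _ hv)
        · simp [A]
        · simp [A]
        · simp [A]
        · exact absurd hv hz0S
    · by_cases hz0S : z0 ∈ S
      · refine Or.inr (eq_of_subset_of_card_le (fun v hv => ?_) (by rw [hS4, hB.2.1]))
        rcases hYeq v (hSY hv) with rfl | rfl | rfl | rfl | rfl | rfl | rfl | rfl
        · exact absurd hv hy0S
        · simp [B]
        · simp [B]
        · simp [B]
        · exact absurd f0.1 (hfree _ hz0S _ hv)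
        · exact absurd f0.2.1 (hfree _ hz0S _ hv)
        · exact absurd f0.2.2 (hfree _ hz0S _ hv)
        · simp [B]
      · exfalso
        have hone : ∀ a b : P, D a b → (({a, b} : Finset P) ∩ S).card ≤ 1 := by
          intro a b d
          refine card_le_one.2 fun p hp q hq => ?_
          simp only [mem_inter, mem_insert, mem_singleton] at hp hq
          rcases hp.1 with rfl | rfl <;> rcases hq.1 with rfl | rfl
          · rfl
          · exact absurd d (hfree _ hp.2 _ hq.2)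
          · exact absurd d (hfree _ hq.2 _ hp.2)
          · rfl
        have hsub : S ⊆ ((({y1, z3} : Finset P) ∩ S) ∪ (({y2, z1} : Finset P) ∩ S)) ∪
            (({y3, z2} : Finset P) ∩ S) := fun v hv => by
          rcases hYeq v (hSY hv) with rfl | rfl | rfl | rfl | rfl | rfl | rfl | rfl <;>
            first | exact absurd hv hy0S | exact absurd hv hz0S | simp [hv]
        have h4 := card_le_card hsub
        have h5 := card_union_le ((({y1, z3} : Finset P) ∩ S) ∪ (({y2, z1} : Finset P) ∩ S))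
          (({y3, z2} : Finset P) ∩ S)
        have h6 := card_union_le (({y1, z3} : Finset P) ∩ S) (({y2, z1} : Finset P) ∩ S)
        have := hone y1 z3 f13
        have := hone y2 z1 f21
        have := hone y3 z2 f32
        omega
  · rintro (rfl | rfl)
    · exact hA
    · exact hB

/-- The sets of five pairwise unrelated points. -/
noncomputable def ovoids (D : P → P → Prop) : Finset (Finset P) := by
  classical exact univ.filter fun S : Finset P => S.card = 5 ∧ Free D S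

theorem mem_ovoids {S : Finset P} : S ∈ ovoids D ↔ S.card = 5 ∧ Free D S := by simp [ovoids]

theorem card_ovoids_through (h : IsQuad D) (x : P) :
    ((ovoids D).filter fun S => x ∈ S).card = 2 := by
  obtain ⟨A, B, hne, hAB⟩ := two_free_away h x
  have hA := (hAB A).2 (Or.inl rfl)
  have hB := (hAB B).2 (Or.inr rfl)
  have hnot : ∀ {S : Finset P}, S ⊆ away D x → x ∉ S := fun hS hx => (mem_away.1 (hS hx)).1 rfl
  rw [card_eq_two]
  refine ⟨insert x A, insert x B, fun e => hne ?_, ext fun S => ?_⟩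
  · rw [← erase_insert (hnot hA.1), e, erase_insert (hnot hB.1)]
  simp only [mem_filter, mem_ovoids, mem_insert, mem_singleton]
  constructor
  · rintro ⟨⟨h5, hf⟩, hx⟩
    have h2 : S.erase x ⊆ away D x ∧ (S.erase x).card = 4 ∧ Free D (S.erase x) :=
      ⟨fun y hy => mem_away.2 ⟨ne_of_mem_erase hy, hf x hx y (mem_of_mem_erase hy)⟩,
        by rw [card_erase_of_mem hx, h5], free_mono (erase_subset _ _) hf⟩
    rcases (hAB _).1 h2 with e | e <;> [left; right] <;> rw [← e, insert_erase hx]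
  · have mk : ∀ T : Finset P, T ⊆ away D x ∧ T.card = 4 ∧ Free D T →
        ((insert x T).card = 5 ∧ Free D (insert x T)) ∧ x ∈ insert x T := by
      rintro T ⟨h1, h4, hf⟩
      refine ⟨⟨by rw [card_insert_of_notMem (hnot h1), h4], fun a ha b hb d => ?_⟩, mem_insert_self _ _⟩
      rcases mem_insert.1 ha with ea | ha <;> rcases mem_insert.1 hb with eb | hb
      · exact h.irrefl x (by rwa [ea, eb] at d)
      · exact (mem_away.1 (h1 hb)).2 (ea ▸ d)
      · exact (mem_away.1 (h1 ha)).2 (h.symm _ _ (eb ▸ d))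
      · exact hf a ha b hb d
    rintro (rfl | rfl)
    · exact mk A hA
    · exact mk B hB

theorem card_ovoids (h : IsQuad D) (h15 : Fintype.card P = 15) : (ovoids D).card = 6 := by
  have h1 : ∑ S ∈ ovoids D, S.card = ∑ x, ((ovoids D).filter fun S => x ∈ S).card := by
    simp only [card_filter]
    rw [sum_comm]
    refine sum_congr rfl fun S _ => ?_
    rw [← card_filter]
    simp
  rw [sum_congr rfl (g := fun _ => 5) fun S hS => (mem_ovoids.1 hS).1,
    sum_congr rfl (g := fun _ => 2) fun x _ => card_ovoids_through h x, sum_const, sum_const, card_univ,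
    h15] at h1
  simp only [smul_eq_mul] at h1
  omega

end Cfsg.Agent.QuadrangleTwo70
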