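import Mathlib
import Cfsg.Agent.Lib.QuartetGroup

/-!
Orbits of a quartet stabiliser on the quartets of its dodecad.
-/

set_option autoImplicit false

namespace Cfsg.Agent.QuartetOrbits

open Cfsg Cfsg.Agent.GolayBasic Cfsg.Agent.GolayPerm Cfsg.Agent.GolayEnumComp Cfsg.Agent.GolayM24
open Cfsg.Agent.GolayQuartetData Cfsg.Agent.QuartetGroup Cfsg.Agent.DodecadConj
open scoped Pointwise

/-- insertion -/
def ins (a : ℕ) : List ℕ → List ℕ
  | [] => [a]
  | b :: l => if a ≤ b then a :: b :: l else b :: ins a l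

/-- sorting -/
def isort : List ℕ → List ℕ
  | [] => []
  | a :: l => ins a (isort l)

theorem mem_ins {a x : ℕ} : ∀ {l : List ℕ}, x ∈ ins a l ↔ x = a ∨ x ∈ l
  | [] => by simp [ins]
  | b :: l => by
    rw [ins]
    split
    · simp
    · rw [List.mem_cons, mem_ins (l := l), List.mem_cons]; tauto

theorem mem_isort {x : ℕ} : ∀ {l : List ℕ}, x ∈ isort l ↔ x ∈ l
  | [] => by simp [isort]
  | a :: l => by rw [isort, mem_ins, mem_isort, List.mem_cons]

theorem qset_isort (l : List ℕ) : qset (isort l) = qset l := by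
  ext t
  simp [qset, mem_isort]

/-- a number attached to a set of sets -/
noncomputable def key (S : Finset (Finset GolayPt)) : ℕ := ∑ t ∈ S, smask t ^ 2

/-- four increasing masks -/
def shapeCheck (l : List ℕ) : Bool := incrFrom 0 l && l.all (fun t => decide (t < 16777216))

theorem key_qset {l : List ℕ} (h : shapeCheck l = true) :
    key (qset l) = (l.map (· ^ 2)).sum := by
  simp only [shapeCheck, Bool.and_eq_true, List.all_eq_true, decide_eq_true_eq] at h
  have hlt : ∀ m ∈ l, m < 2 ^ 24 := fun m hm => lt_of_lt_of_eq (h.2 m hm) (by norm_num)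
  have hnd : (l.map mset).Nodup := (incrFrom_spec _ _ h.1).1.map_on fun x hx y hy hxy =>
    mset_inj (hlt x hx) (hlt y hy) hxy
  rw [key, qset, List.sum_toFinset _ hnd, List.map_map]
  refine congrArg List.sum (List.map_congr_left fun m hm => ?_)
  have : smask (mset m) = m := mset_inj (smask_lt _) (hlt m hm) (mset_smask _)
  simp [this]

/-- the sets of an orbit list -/
def orbSet (O : List (ℕ × List ℕ)) : Finset (Finset (Finset GolayPt)) :=
  (O.map fun e => qset e.2).toFinset

theorem ncard_orbSet {O : List (ℕ × List ℕ)}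
    (h : (O.all fun e => shapeCheck e.2) = true)
    (hnd : (O.map fun e => (e.2.map (· ^ 2)).sum).Nodup) : (orbSet O).card = O.length := by
  rw [orbSet, List.toFinset_card_of_nodup, List.length_map]
  refine List.Nodup.of_map key ?_
  rw [List.map_map]
  rw [List.all_eq_true] at h
  convert hnd using 1
  exact List.map_congr_left fun e he => key_qset (h e he)

/-- the orbit list is the set of images of `X` -/
def orbCheck (X : List ℕ) (O : List (ℕ × List ℕ)) : Bool :=
  (O.all fun e => match getC quartetList e.1 with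
    | none => false
    | some x => decide (e.1 < 432) && (isort (X.map (pmask x.1)) == e.2)) &&
  (elts quartetList 432).all fun x =>
    valid x.1 && (O.map Prod.snd).contains (isort (X.map (pmask x.1)))

theorem orbit_eq {X : List ℕ} {O : List (ℕ × List ℕ)} (h : orbCheck X O = true) :
    MulAction.orbit grp (qset X) = (orbSet O : Set (Finset (Finset GolayPt))) := by
  simp only [orbCheck, Bool.and_eq_true, List.all_eq_true, List.contains_iff_mem] at h
  obtain ⟨h1, h2⟩ := h
  obtain ⟨φ, hφ, hall⟩ := cert.spec gens_mem card_grp mat3 mat3_one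
    (fun g _ x _ => mat3_op3 g.2 x.2)
  ext S
  rw [MulAction.mem_orbit_iff, Finset.mem_coe, orbSet, List.mem_toFinset, List.mem_map]
  constructor
  · rintro ⟨g, rfl⟩
    obtain ⟨x, hx, hxg⟩ := hall g
    obtain ⟨hv, hm⟩ := h2 x hx
    obtain ⟨e, he, hee⟩ := List.mem_map.1 hm
    refine ⟨e, he, ?_⟩
    show qset e.2 = (g : Equiv.Perm GolayPt) • qset X
    rw [hee, qset_isort, ← hxg, smul_qset hv]
  · rintro ⟨e, he, rfl⟩
    have h := h1 e he
    cases hx : getC quartetList e.1 with
    | none => simp [hx] at h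
    | some x =>
      simp only [hx, Bool.and_eq_true, decide_eq_true_eq, beq_iff_eq] at h
      have hxe : x ∈ elts quartetList 432 := by
        simp only [elts, List.mem_filterMap, List.mem_range]
        exact ⟨e.1, h.1, hx⟩
      obtain ⟨hmem, -⟩ := hφ x hxe
      refine ⟨⟨_, hmem⟩, ?_⟩
      show permOf x.1 • qset X = qset e.2
      rw [← h.2, qset_isort, smul_qset (h2 x hxe).1]

theorem orbit_conj {d : Finset GolayPt} {Q : Finset (Finset GolayPt)} {a : Equiv.Perm GolayPt}
    (ha : a ∈ M24) (had : a • mset 340831 = d) (haQ : a • Q0 = Q) (X : Finset (Finset GolayPt)) :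
    MulAction.orbit ↥(MulAction.stabilizer M24 d ⊓ MulAction.stabilizer M24 Q) (a • X) =
      (a • ·) '' MulAction.orbit grp X := by
  let E := conjEquiv grp_le a ha (stab_iff ha had haQ)
  ext S
  simp only [MulAction.mem_orbit_iff, Set.mem_image]
  constructor
  · rintro ⟨g, rfl⟩
    refine ⟨_, ⟨E g, rfl⟩, ?_⟩
    show a • ((a⁻¹ * ((g : M24) : Equiv.Perm GolayPt) * a) • X) = ((g : M24) : Equiv.Perm GolayPt) • a • X
    simp only [mul_smul, smul_inv_smul]
  · rintro ⟨-, ⟨h, rfl⟩, rfl⟩
    refine ⟨E.symm h, ?_⟩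
    show (a * (h : Equiv.Perm GolayPt) * a⁻¹) • a • X = a • ((h : Equiv.Perm GolayPt) • X)
    simp only [mul_smul, inv_smul_smul]

theorem check1 : orbCheck orbRep1 orb1 = true := by decide +kernel
theorem check2 : orbCheck orbRep2 orb2 = true := by decide +kernel
theorem check3 : orbCheck orbRep3 orb3 = true := by decide +kernel
theorem check4 : orbCheck orbRep4 orb4 = true := by decide +kernel

theorem orbSet_cons_append (e : ℕ × List ℕ) (A B C D : List (ℕ × List ℕ)) :
    (orbSet (e :: (A ++ B ++ C ++ D)) : Set (Finset (Finset GolayPt))) =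
      {qset e.2} ∪ ↑(orbSet A) ∪ ↑(orbSet B) ∪ ↑(orbSet C) ∪ ↑(orbSet D) := by
  ext S
  simp [orbSet, or_assoc]

/-- all five orbit lists together -/
def allOrb : List (ℕ × List ℕ) := (0, quartet0) :: (orb1 ++ orb2 ++ orb3 ++ orb4)

theorem allOrb_shape : (allOrb.all fun e => shapeCheck e.2) = true := by decide +kernel

theorem allOrb_nodup : (allOrb.map fun e => (e.2.map (· ^ 2)).sum).Nodup := by decide +kernel

theorem rep_mem : qset orbRep1 ∈ Cfsg.quartets (mset 340831) ∧
    qset orbRep2 ∈ Cfsg.quartets (mset 340831) ∧ qset orbRep3 ∈ Cfsg.quartets (mset 340831) ∧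
    qset orbRep4 ∈ Cfsg.quartets (mset 340831) :=
  ⟨qset_mem_quartets (os := hexOct1) (by decide +kernel),
    qset_mem_quartets (os := hexOct2) (by decide +kernel),
    qset_mem_quartets (os := hexOct3) (by decide +kernel),
    qset_mem_quartets (os := hexOct4) (by decide +kernel)⟩

theorem orbit_subset {X : Finset (Finset GolayPt)} (hX : X ∈ Cfsg.quartets (mset 340831)) :
    MulAction.orbit grp X ⊆ Cfsg.quartets (mset 340831) := by
  rintro S ⟨g, rfl⟩
  have := DodecadQuartets.smul_quartet (grp_le g.2) hX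
  rwa [(mem_M12.1 g.2.1).2] at this

theorem standard : Cfsg.quartets (mset 340831) = {Q0} ∪ MulAction.orbit grp (qset orbRep1) ∪
    MulAction.orbit grp (qset orbRep2) ∪ MulAction.orbit grp (qset orbRep3) ∪
    MulAction.orbit grp (qset orbRep4) := by
  have hall : ({Q0} ∪ MulAction.orbit grp (qset orbRep1) ∪ MulAction.orbit grp (qset orbRep2) ∪
      MulAction.orbit grp (qset orbRep3) ∪ MulAction.orbit grp (qset orbRep4) :
        Set (Finset (Finset GolayPt))) = (orbSet allOrb : Set (Finset (Finset GolayPt))) := by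
    rw [orbit_eq check1, orbit_eq check2, orbit_eq check3, orbit_eq check4]
    exact (orbSet_cons_append (0, quartet0) orb1 orb2 orb3 orb4).symm
  refine (Set.eq_of_subset_of_ncard_le ?_ ?_).symm
  · obtain ⟨m1, m2, m3, m4⟩ := rep_mem
    simp only [Set.union_subset_iff, Set.singleton_subset_iff]
    exact ⟨⟨⟨⟨Q0_mem, orbit_subset m1⟩, orbit_subset m2⟩, orbit_subset m3⟩, orbit_subset m4⟩
  · rw [hall, Set.ncard_coe_finset, ncard_orbSet allOrb_shape allOrb_nodup,
      DodecadQuartets.ncard_quartets QuartetGroup.mset_mem_dodecads]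
    decide +kernel

theorem ncard_conj {d : Finset GolayPt} {Q : Finset (Finset GolayPt)} {a : Equiv.Perm GolayPt}
    (ha : a ∈ M24) (had : a • mset 340831 = d) (haQ : a • Q0 = Q) {X : List ℕ}
    {O : List (ℕ × List ℕ)} (h : orbCheck X O = true)
    (hs : (O.all fun e => shapeCheck e.2) = true)
    (hnd : (O.map fun e => (e.2.map (· ^ 2)).sum).Nodup) :
    (MulAction.orbit ↥(MulAction.stabilizer M24 d ⊓ MulAction.stabilizer M24 Q)
      (a • qset X)).ncard = O.length := by
  rw [orbit_conj ha had haQ, Set.ncard_image_of_injective _ (MulAction.injective a), orbit_eq h,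
    Set.ncard_coe_finset, ncard_orbSet hs hnd]

end Cfsg.Agent.QuartetOrbits
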