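import Mathlib
import Cfsg.Prelude.Def_Transfer
import Cfsg.Prelude.Def_CaseTheorems
import Cfsg.Agent.S0106
import Cfsg.Agent.S0205
import Cfsg.Agent.Lib.TransferAlperin
import Cfsg.Agent.Lib.DihedralSylow77
import Cfsg.Agent.Lib.QuaternionOddAut
import Cfsg.Agent.Lib.BrauerSuzukiApps
import Cfsg.Agent.Lib.HallCore

/-!
Quaternion Sylow 2-subgroups with cyclic intersections: the order is eight.
-/

set_option autoImplicit false
set_option linter.style.haveILetI false

namespace Cfsg.Agent.QuatKlein27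

universe u

open scoped Pointwise

variable {G : Type u} [Group G] [Finite G]

/-- A nonsolvable group has no normal 2-complement. -/
theorem no_complement (hns : ¬ Group.IsSolvable G) : ¬ Cfsg.HasNormalPComplement 2 G := by
  rintro ⟨P, N, hN, hc⟩
  haveI := hN
  haveI : Fact (Nat.Prime 2) := ⟨Nat.prime_two⟩
  have hodd : Odd (Nat.card N) := by
    rw [← hc.index_eq_card, Nat.odd_iff, ← Nat.two_dvd_ne_zero]
    exact P.not_dvd_index
  haveI : Group.IsSolvable N := Cfsg.Agent.S0205.result hodd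
  haveI : Group.IsSolvable (P : Subgroup G) := CoprimeAction.isSolvable_of_isPGroup P.isPGroup'
  haveI : Group.IsSolvable (G ⧸ N) :=
    Group.isSolvable_of_surjective (f := (QuotientGroup.mk' N).comp (P : Subgroup G).subtype) (by
      intro q
      obtain ⟨g, rfl⟩ := QuotientGroup.mk_surjective q
      have hg : g ∈ (N : Set G) * ((P : Subgroup G) : Set G) := by rw [hc.mul_eq]; trivial
      obtain ⟨n, hn, p, hp, rfl⟩ := hg
      exact ⟨⟨p, hp⟩, by
        show ((p : G) : G ⧸ N) = ((n * p : G) : G ⧸ N)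
        rw [QuotientGroup.mk_mul, (QuotientGroup.eq_one_iff n).2 hn, one_mul]⟩)
  exact hns (Group.isSolvable_of_ker_le_range (G' := N) N.subtype (QuotientGroup.mk' N) (by simp))

omit [Finite G] in
/-- The involution of a generalized quaternion Sylow subgroup is unique in it. -/
theorem unique_involution {T : Sylow 2 G} {n : ℕ} (e : (T : Subgroup G) ≃* QuaternionGroup (2 ^ (n + 1)))
    {a b : G} (ha : a ∈ (T : Subgroup G)) (hb : b ∈ (T : Subgroup G))
    (hoa : orderOf a = 2) (hob : orderOf b = 2) : a = b := by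
  have h1 := S0106.quat_involution (n + 1) (by omega) (e ⟨a, ha⟩)
    (by rw [MulEquiv.orderOf_eq, Subgroup.orderOf_mk, hoa])
  have h2 := S0106.quat_involution (n + 1) (by omega) (e ⟨b, hb⟩)
    (by rw [MulEquiv.orderOf_eq, Subgroup.orderOf_mk, hob])
  exact congrArg Subtype.val (e.injective (h1.trans h2.symm))

/-- Some element of odd order normalises a Sylow 2-subgroup without centralising it, and this
forces order eight. -/
theorem exists_odd_automorphism (hns : ¬ Group.IsSolvable G)
    (T : Sylow 2 G) (n : ℕ) (e : (T : Subgroup G) ≃* QuaternionGroup (2 ^ (n + 1)))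
    (hC : ∀ S U : Sylow 2 G, S ≠ U → IsCyclic ↥((S : Subgroup G) ⊓ (U : Subgroup G))) :
    n = 0 ∧ ∃ g : G, Odd (orderOf g) ∧ g ∈ Subgroup.normalizer ((T : Subgroup G) : Set G) ∧
      g ∉ Subgroup.centralizer ((T : Subgroup G) : Set G) := by
  classical
  haveI : Fact (Nat.Prime 2) := ⟨Nat.prime_two⟩
  have hc := no_complement hns
  rw [TransferAlperin.hasNormalPComplement_iff_centralizer T] at hc
  push Not at hc
  obtain ⟨Q, hQT, g, hgN, hcop, hgC⟩ := hc
  have hodd : Odd (orderOf g) := Nat.coprime_two_right.1 hcop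
  have hQ2 : IsPGroup 2 Q := T.isPGroup'.to_le hQT
  have hgQ : ∀ x ∈ Q, g * x * g⁻¹ ∈ Q := fun x hx => (Subgroup.mem_normalizer_iff.1 hgN x).1 hx
  have hgfix : ¬ ∀ x ∈ Q, g * x * g⁻¹ = x := fun h => hgC (by
    rw [Subgroup.mem_centralizer_iff]
    intro x hx
    calc x * g = g * x * g⁻¹ * g := by rw [h x hx]
      _ = g * x := by group)
  have hsqfix : ∀ x ∈ Q, x ^ 2 = 1 → g * x * g⁻¹ = x := by
    intro x hx hx2
    by_cases hx1 : x = 1
    · subst hx1; simp
    refine unique_involution e (hQT (hgQ x hx)) (hQT hx) (orderOf_eq_prime ?_ ?_)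
      (orderOf_eq_prime hx2 hx1)
    · rw [conj_pow, hx2]; simp
    · simpa using hx1
  -- the Sylow subgroup is fixed
  have hfix : g • T = T := by
    by_contra hne
    obtain ⟨c, hc⟩ := (hC _ _ hne).exists_generator
    have hle : Q ≤ ((g • T : Sylow 2 G) : Subgroup G) ⊓ (T : Subgroup G) := by
      refine le_inf (fun x hx => ?_) hQT
      rw [Sylow.coe_subgroup_smul, Subgroup.mem_pointwise_smul_iff_inv_smul_mem]
      have hx' : g⁻¹ * x * g ∈ Q := by
        have := (Subgroup.mem_normalizer_iff.1 (inv_mem hgN) x).1 hx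
        simpa using this
      have h2 : (MulAut.conj g)⁻¹ • x = g⁻¹ * x * g := by
        simp [MulAut.smul_def, MulAut.conj_inv_apply]
      rw [h2]
      exact hQT hx'
    apply hgfix
    refine DihedralSylow77.centralizes_of_fix_involutions Q hQ2 (fun x hx y hy => ?_) g hgQ hodd hsqfix
    obtain ⟨i, hi⟩ := Subgroup.mem_zpowers_iff.1 (hc ⟨x, hle hx⟩)
    obtain ⟨j, hj⟩ := Subgroup.mem_zpowers_iff.1 (hc ⟨y, hle hy⟩)
    have := (Commute.zpow_zpow (Commute.refl c) i j).eq
    rw [hi, hj] at this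
    exact congrArg Subtype.val this
  have hgNT : g ∈ Subgroup.normalizer ((T : Subgroup G) : Set G) :=
    Sylow.smul_eq_iff_mem_normalizer.1 hfix
  have hgCT : g ∉ Subgroup.centralizer ((T : Subgroup G) : Set G) :=
    fun h => hgC (Subgroup.centralizer_le (by exact hQT) h)
  refine ⟨?_, g, hodd, hgNT, hgCT⟩
  -- transport the automorphism
  let a : MulAut (T : Subgroup G) := Subgroup.normalizerMonoidHom (T : Subgroup G) ⟨g, hgNT⟩
  let φ : MulAut (QuaternionGroup (2 ^ (n + 1))) := MulAut.congr e a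
  by_contra hn
  have hφodd : Odd (orderOf φ) := by
    refine hodd.of_dvd_nat (dvd_trans (orderOf_map_dvd (MulAut.congr e).toMonoidHom a) ?_)
    refine dvd_trans (orderOf_map_dvd _ _) ?_
    rw [Subgroup.orderOf_mk]
  have hφ : φ = 1 := QuaternionOddAut.eq_one_of_ne_one rfl (by omega) hφodd
  have ha : a = 1 := (map_eq_one_iff (MulAut.congr e).toMonoidHom (MulAut.congr e).injective).1 hφ
  apply hgCT
  rw [Subgroup.mem_centralizer_iff]
  intro x hx
  have h1 : ((a ⟨x, hx⟩ : (T : Subgroup G)) : G) = x := by rw [ha]; rfl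
  have h2 : g * x * g⁻¹ = x := h1
  calc x * g = g * x * g⁻¹ * g := by rw [h2]
    _ = g * x := by group

/-- A Sylow 2-subgroup isomorphic to a quaternion group gives a solitary involution. -/
theorem exists_solitary (T : Sylow 2 G) (n : ℕ)
    (e : (T : Subgroup G) ≃* QuaternionGroup (2 ^ (n + 1))) :
    ∃ z : G, z ∈ (T : Subgroup G) ∧ ZStarBasic.Solitary z := by
  haveI : Fact (Nat.Prime 2) := ⟨Nat.prime_two⟩
  have h2 : 2 ∣ Nat.card (T : Subgroup G) := by
    rw [Nat.card_congr e.toEquiv, Nat.card_eq_fintype_card, QuaternionGroup.card]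
    exact dvd_mul_of_dvd_left (by norm_num) _
  obtain ⟨z, hz⟩ := exists_prime_orderOf_dvd_card' 2 h2
  refine ⟨z, z.2, by rw [Subgroup.orderOf_coe, hz], fun t ht htz => ?_⟩
  have ho : orderOf (z : G) = 2 := by rw [Subgroup.orderOf_coe, hz]
  have hK : IsPGroup 2 ↥(Subgroup.zpowers t ⊔ Subgroup.zpowers (z : G)) := by
    refine IsPGroup.to_sup_of_normal_right' (IsPGroup.of_card (n := 1) ?_) (IsPGroup.of_card (n := 1) ?_) ?_
    · rw [Nat.card_zpowers, ht, pow_one]
    · rw [Nat.card_zpowers, ho, pow_one]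
    · rw [Subgroup.zpowers_le, Subgroup.mem_normalizer_iff]
      intro h
      constructor
      · intro hh
        obtain ⟨i, rfl⟩ := Subgroup.mem_zpowers_iff.1 hh
        rw [(htz.zpow_right i).eq, mul_inv_cancel_right]
        exact Subgroup.zpow_mem_zpowers _ _
      · intro hh
        obtain ⟨i, hi⟩ := Subgroup.mem_zpowers_iff.1 hh
        have : h = t⁻¹ * (z : G) ^ i * t := by rw [hi]; group
        rw [this, (htz.inv_left.zpow_right i).eq, inv_mul_cancel_right]
        exact Subgroup.zpow_mem_zpowers _ _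
  obtain ⟨U, hU⟩ := hK.exists_le_sylow
  obtain ⟨g, rfl⟩ := MulAction.exists_smul_eq G T U
  have hmem : ∀ x ∈ ((g • T : Sylow 2 G) : Subgroup G), g⁻¹ * x * g ∈ (T : Subgroup G) := fun x hx => by
    rw [Sylow.coe_subgroup_smul, Subgroup.mem_pointwise_smul_iff_inv_smul_mem] at hx
    simpa [MulAut.smul_def, MulAut.conj_inv_apply] using hx
  have hord : ∀ x : G, orderOf (g⁻¹ * x * g) = orderOf x := fun x => by
    simpa using ZStarBasic.orderOf_conj_eq g⁻¹ x
  have h1 := unique_involution e (hmem t (hU (Subgroup.mem_sup_left (Subgroup.mem_zpowers t))))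
    (hmem z (hU (Subgroup.mem_sup_right (Subgroup.mem_zpowers (z : G)))))
    (by rw [hord, ht]) (by rw [hord, ho])
  exact mul_left_cancel (mul_right_cancel h1)

end Cfsg.Agent.QuatKlein27
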