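import Mathlib
import Cfsg.Agent.Lib.QuatKlein27A

/-!
Nonsolvable groups with Klein four Sylow 2-subgroups and trivial odd core: the socle is simple.
-/

set_option autoImplicit false
set_option linter.style.haveILetI false

namespace Cfsg.Agent.QuatKlein27

universe u

open scoped Pointwise

variable {X : Type u} [Group X] [Finite X]

/-- The elements of order two of a group. -/
abbrev invols (X : Type u) [Group X] : Set X := {t | orderOf t = 2}

/-- Every nontrivial normal subgroup contains all involutions. -/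
theorem involution_mem (hns : ¬ Group.IsSolvable X)
    (hO : ∀ M : Subgroup X, M.Normal → Odd (Nat.card M) → M = ⊥)
    (V : Sylow 2 X) (hV4 : Nat.card (V : Subgroup X) = 4) (hV2 : ∀ v ∈ (V : Subgroup X), v * v = 1)
    (M : Subgroup X) (hM : M.Normal) (hM1 : M ≠ ⊥) : invols X ⊆ M := by
  classical
  haveI : Fact (Nat.Prime 2) := ⟨Nat.prime_two⟩
  have hc := no_complement hns
  rw [TransferAlperin.hasNormalPComplement_iff_centralizer V] at hc
  push Not at hc
  obtain ⟨Q, hQV, g, hgN, hcop, hgC⟩ := hc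
  have hodd : Odd (orderOf g) := Nat.coprime_two_right.1 hcop
  have hgfix : ¬ ∀ x ∈ Q, g * x * g⁻¹ = x := fun h => hgC (by
    rw [Subgroup.mem_centralizer_iff]
    intro x hx
    calc x * g = g * x * g⁻¹ * g := by rw [h x hx]
      _ = g * x := by group)
  have hd : Nat.card Q ∣ 4 := hV4 ▸ Subgroup.card_dvd_of_le hQV
  have hQ : (V : Subgroup X) = Q := by
    rcases (Nat.divisors_prime_pow Nat.prime_two 2 ▸ Nat.mem_divisors.2 ⟨hd, by norm_num⟩ :
      Nat.card Q ∈ (Finset.range 3).map ⟨(2 ^ ·), Nat.pow_right_injective le_rfl⟩) |> Finset.mem_map.1 with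
      ⟨i, hi, e⟩
    simp only [Finset.mem_range, Function.Embedding.coeFn_mk] at hi e
    by_contra hne
    apply hgfix
    interval_cases i
    · intro x hx
      have : Q = ⊥ := Subgroup.card_eq_one.1 (by omega)
      rw [this, Subgroup.mem_bot] at hx
      subst hx; simp
    · intro x hx
      by_cases hx1 : x = 1
      · subst hx1; simp
      obtain ⟨b, hb, huniq⟩ := Nat.card_eq_two_iff' (1 : Q) |>.1 (by omega)
      have h1 := huniq ⟨x, hx⟩ (fun h => hx1 (congrArg Subtype.val h))
      have h2 := huniq ⟨g * x * g⁻¹, (Subgroup.mem_normalizer_iff.1 hgN x).1 hx⟩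
        (fun h => hx1 (conj_eq_one_iff.1 (congrArg Subtype.val h)))
      exact congrArg Subtype.val (h2.trans h1.symm)
    · exact absurd (Subgroup.eq_of_le_of_card_ge hQV (by omega)).symm hne
  subst hQ
  have hgV : ∀ x ∈ (V : Subgroup X), g * x * g⁻¹ ∈ (V : Subgroup X) :=
    fun x hx => (Subgroup.mem_normalizer_iff.1 hgN x).1 hx
  have hfive : ∀ S : Finset X, (∀ x ∈ S, x ∈ (V : Subgroup X)) → S.card ≤ 4 := by
    intro S hS
    rw [← hV4, ← Nat.card_eq_finsetCard]
    exact Nat.card_le_card_of_injective (fun x : S => (⟨x, hS x x.2⟩ : (V : Subgroup X)))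
      (fun a b h => Subtype.ext (Subtype.mk.inj h))
  -- no involution of `V` is fixed
  have hnofix : ∀ x ∈ (V : Subgroup X), g * x * g⁻¹ = x → x = 1 := by
    intro x hx hfx
    by_contra hx1
    apply hgfix
    intro y hy
    by_cases hy1 : y = 1
    · subst hy1; simp
    by_cases hyx : y = x
    · subst hyx; exact hfx
    set y' := g * y * g⁻¹ with hy'
    have hy'1 : y' ≠ 1 := fun h => hy1 (conj_eq_one_iff.1 h)
    have hy'x : y' ≠ x := fun h => hyx (mul_left_cancel (mul_right_cancel (h.trans hfx.symm)))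
    by_cases hyy : y' = y
    · exact hyy
    by_cases hxy : y' = x * y
    · have : Commute (g ^ 2) y := by
        rw [commute_iff_eq]
        calc g ^ 2 * y = g * y' * g⁻¹ * g ^ 2 := by rw [hy', pow_two]; group
          _ = (g * x * g⁻¹) * (g * y * g⁻¹) * g ^ 2 := by rw [hxy]; group
          _ = x * (x * y) * g ^ 2 := by rw [hfx, ← hy', hxy]
          _ = y * g ^ 2 := by rw [← mul_assoc x, hV2 x hx, one_mul]
      rw [hy', (DihedralSylow77.fix_of_sq_fix hodd this).eq]; group
    · exfalso
      have hcard : ({1, x, y, x * y, y'} : Finset X).card = 5 := by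
        have e1 : x * y ≠ 1 := fun h => hyx (by
          rw [← mul_right_inj x, h, hV2 x hx])
        have e2 : x * y ≠ x := fun h => hy1 (mul_eq_left.1 h)
        have e3 : x * y ≠ y := fun h => hx1 (mul_eq_right.1 h)
        simp [Ne.symm hx1, Ne.symm hy1, Ne.symm e1, Ne.symm hy'1, Ne.symm hyx, Ne.symm e2,
          Ne.symm e3, Ne.symm hy'x, Ne.symm hyy, Ne.symm hxy]
      have := hfive {1, x, y, x * y, y'} (by
        simp only [Finset.mem_insert, Finset.mem_singleton]
        rintro z (rfl | rfl | rfl | rfl | rfl)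
        · exact one_mem _
        · exact hx
        · exact hy
        · exact mul_mem hx hy
        · exact hgV y hy)
      omega
  -- a normal subgroup meeting `V` contains it
  have hcontains : ∀ x ∈ (V : Subgroup X), x ≠ 1 → x ∈ M → ∀ y ∈ (V : Subgroup X), y ∈ M := by
    intro x hx hx1 hxM y hy
    set x1 := g * x * g⁻¹ with hdef1
    set x2 := g * x1 * g⁻¹ with hdef2
    have h1M : x1 ∈ M := hM.conj_mem x hxM g
    have h2M : x2 ∈ M := hM.conj_mem x1 h1M g
    have h10 : x1 ≠ 1 := fun h => hx1 (conj_eq_one_iff.1 h)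
    have h20 : x2 ≠ 1 := fun h => h10 (conj_eq_one_iff.1 h)
    have h1x : x1 ≠ x := fun h => hx1 (hnofix x hx h)
    have h21 : x2 ≠ x1 := fun h => h10 (hnofix x1 (hgV x hx) h)
    have h2x : x2 ≠ x := fun h => by
      have : Commute (g ^ 2) x := by
        rw [commute_iff_eq]
        calc g ^ 2 * x = x2 * g ^ 2 := by rw [hdef2, hdef1, pow_two]; group
          _ = x * g ^ 2 := by rw [h]
      apply h1x
      rw [hdef1, (DihedralSylow77.fix_of_sq_fix hodd this).eq]; group
    by_cases hy1 : y = 1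
    · subst hy1; exact one_mem _
    by_contra hyM
    have hcard : ({1, x, x1, x2, y} : Finset X).card = 5 := by
      have e0 : y ≠ x := fun h => hyM (h ▸ hxM)
      have e1 : y ≠ x1 := fun h => hyM (h ▸ h1M)
      have e2 : y ≠ x2 := fun h => hyM (h ▸ h2M)
      simp [Ne.symm hx1, Ne.symm h10, Ne.symm h20, Ne.symm hy1, Ne.symm h1x, Ne.symm h2x,
        Ne.symm h21, Ne.symm e0, Ne.symm e1, Ne.symm e2]
    have := hfive {1, x, x1, x2, y} (by
      simp only [Finset.mem_insert, Finset.mem_singleton]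
      rintro z (rfl | rfl | rfl | rfl | rfl)
      · exact one_mem _
      · exact hx
      · exact hgV x hx
      · exact hgV x1 (hgV x hx)
      · exact hy)
    omega
  have hconj : ∀ t : X, orderOf t = 2 → ∃ a : X, a * t * a⁻¹ ∈ (V : Subgroup X) := by
    intro t ht
    obtain ⟨U, hU⟩ := (IsPGroup.of_card (n := 1) (G := Subgroup.zpowers t)
      (by rw [Nat.card_zpowers, ht, pow_one])).exists_le_sylow
    obtain ⟨a, rfl⟩ := MulAction.exists_smul_eq X V U
    refine ⟨a⁻¹, ?_⟩
    have h := hU (Subgroup.mem_zpowers t)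
    rw [Sylow.coe_subgroup_smul, Subgroup.mem_pointwise_smul_iff_inv_smul_mem] at h
    simpa [MulAut.smul_def] using h
  have hne : ∀ (t a : X), orderOf t = 2 → a * t * a⁻¹ ≠ 1 := fun t a ht h => by
    rw [conj_eq_one_iff] at h
    subst h; simp at ht
  obtain ⟨s, hs⟩ : ∃ s : M, orderOf s = 2 := by
    refine exists_prime_orderOf_dvd_card' 2 ?_
    rcases Nat.even_or_odd (Nat.card M) with h | h
    · exact even_iff_two_dvd.1 h
    · exact absurd (hO M hM h) hM1
  have hs' : orderOf (s : X) = 2 := by rw [Subgroup.orderOf_coe, hs]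
  obtain ⟨a, ha⟩ := hconj s hs'
  intro t ht
  obtain ⟨b, hb⟩ := hconj t ht
  have := hcontains _ ha (hne _ _ hs') (hM.conj_mem _ s.2 a) _ hb
  have h2 := hM.conj_mem _ this b⁻¹
  simpa [mul_assoc] using h2

/-- The socle is a nonabelian simple normal subgroup of odd index with Klein four Sylow subgroups. -/
theorem exists_socle (hns : ¬ Group.IsSolvable X)
    (hO : ∀ M : Subgroup X, M.Normal → Odd (Nat.card M) → M = ⊥)
    (V : Sylow 2 X) (hV4 : Nat.card (V : Subgroup X) = 4) (hV2 : ∀ v ∈ (V : Subgroup X), v * v = 1) :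
    ∃ N : Subgroup X, N.Normal ∧ Odd N.index ∧ (V : Subgroup X) ≤ N ∧ IsSimpleGroup N ∧
      ¬ Group.IsSolvable N ∧
      ∃ W : Sylow 2 N, Nat.card (W : Subgroup N) = 4 ∧ ∀ w ∈ (W : Subgroup N), w * w = 1 := by
  classical
  haveI : Fact (Nat.Prime 2) := ⟨Nat.prime_two⟩
  set I := Subgroup.closure (invols X)
  have hIn : I.Normal := by
    constructor
    intro x hx a
    have : a * x * a⁻¹ ∈ I.map (MulAut.conj a).toMonoidHom := ⟨x, hx, rfl⟩
    rw [MonoidHom.map_closure] at this
    refine Subgroup.closure_mono ?_ this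
    rintro _ ⟨t, ht, rfl⟩
    show orderOf (MulAut.conj a t) = 2
    rw [MulEquiv.orderOf_eq]; exact ht
  have hVI : (V : Subgroup X) ≤ I := fun v hv => by
    by_cases h : v = 1
    · subst h; exact one_mem _
    · exact Subgroup.subset_closure (orderOf_eq_prime (by rw [pow_two]; exact hV2 v hv) h)
  have hmin : ∀ M : Subgroup X, M.Normal → M ≠ ⊥ → I ≤ M :=
    fun M hM hM1 => (Subgroup.closure_le _).2 (involution_mem hns hO V hV4 hV2 M hM hM1)
  have hodd : Odd I.index := by
    rw [Nat.odd_iff, ← Nat.two_dvd_ne_zero]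
    exact fun h => V.not_dvd_index (h.trans (Subgroup.index_dvd_of_le hVI))
  haveI := hIn
  have hnsI : ¬ Group.IsSolvable I := fun h => by
    haveI : Group.IsSolvable (X ⧸ I) := Cfsg.Agent.S0205.result (by rwa [← Subgroup.index_eq_card])
    exact hns (Group.isSolvable_of_ker_le_range (G' := I) I.subtype (QuotientGroup.mk' I) (by simp))
  have hOI : ∀ M : Subgroup I, M.Normal → Odd (Nat.card M) → M = ⊥ := by
    intro M hM hMo
    haveI := HallCore.pPrimeCore_characteristic 2 I
    have h1 : M ≤ Cfsg.pPrimeCore 2 I := HallCore.le_pPrimeCore (Nat.coprime_two_right.2 hMo)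
    have h2 : (Cfsg.pPrimeCore 2 I).map I.subtype = ⊥ := by
      refine hO _ inferInstance ?_
      rw [Subgroup.card_map_of_injective I.subtype_injective]
      exact Nat.coprime_two_right.1 (HallCore.coprime_card_pPrimeCore 2 I)
    rw [Subgroup.map_eq_bot_iff_of_injective _ I.subtype_injective] at h2
    exact le_bot_iff.1 (h2 ▸ h1)
  let W : Sylow 2 I := V.subtype hVI
  have hW : Nat.card (W : Subgroup I) = 4 := by
    rw [Sylow.coe_subtype, ← hV4]
    exact Nat.card_congr (Subgroup.subgroupOfEquivOfLe hVI).toEquiv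
  have hW2 : ∀ w ∈ (W : Subgroup I), w * w = 1 := fun w hw => Subtype.ext (hV2 _ hw)
  haveI : Nontrivial I := by
    rw [Subgroup.nontrivial_iff_ne_bot]
    intro h
    exact hnsI (h ▸ inferInstance)
  refine ⟨I, hIn, hodd, hVI, ⟨fun M hM => ?_⟩, hnsI, W, hW, hW2⟩
  by_cases hM1 : M = ⊥
  · exact Or.inl hM1
  right
  have hall := involution_mem hnsI hOI W hW hW2 M hM hM1
  have hcl : I ≤ M.map I.subtype := (Subgroup.closure_le _).2 fun t ht =>
    ⟨⟨t, Subgroup.subset_closure ht⟩, hall (show orderOf (⟨t, _⟩ : I) = 2 by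
      rw [Subgroup.orderOf_mk]; exact ht), rfl⟩
  rw [eq_top_iff]
  intro x _
  obtain ⟨y, hy, e⟩ := hcl x.2
  exact Subtype.ext e ▸ hy

end Cfsg.Agent.QuatKlein27
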