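import Mathlib
import Cfsg.Agent.Lib.StemSL2
import Cfsg.Agent.Lib.PSLSimple
import Cfsg.Agent.Lib.PSLCard

/-!
A perfect double cover of `PSL₂(q)`, `q` odd and `q ≠ 9`, is `SL₂(q)`.
-/

set_option autoImplicit false

namespace Cfsg.Agent.SL2CoverUnique27

open scoped MatrixGroups commutatorElement

universe u v

/-- The derived subgroup of a surjective central extension of a perfect group is perfect and
covers it. -/
theorem derived_cover {P : Type u} {S : Type v} [Group P] [Group S] (f : P →* S)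
    (hf : Function.Surjective f) (hker : f.ker ≤ Subgroup.center P) (hS : commutator S = ⊤) :
    Subgroup.map f (commutator P) = ⊤ ∧ ⁅commutator P, commutator P⁆ = commutator P := by
  have hmap : Subgroup.map f (commutator P) = ⊤ := by
    rw [commutator_def, Subgroup.map_commutator, Subgroup.map_top_of_surjective f hf, ← commutator_def, hS]
  refine ⟨hmap, le_antisymm (Subgroup.commutator_mono le_top le_top) ?_⟩
  have key : ∀ x : P, ∃ d ∈ commutator P, ∃ c ∈ Subgroup.center P, x = d * c := by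
    intro x
    obtain ⟨d, hd, e⟩ : f x ∈ Subgroup.map f (commutator P) := hmap ▸ Subgroup.mem_top _
    refine ⟨d, hd, d⁻¹ * x, hker ?_, by group⟩
    rw [MonoidHom.mem_ker, map_mul, map_inv, e, inv_mul_cancel]
  conv_lhs => rw [commutator_def]
  rw [Subgroup.commutator_le]
  intro a _ b _
  obtain ⟨d, hd, c, hc, rfl⟩ := key a
  obtain ⟨d', hd', c', hc', rfl⟩ := key b
  have h1 : ⁅d * c, d' * c'⁆ = ⁅d, d'⁆ := by
    have e1 := Subgroup.mem_center_iff.1 hc
    have e2 := Subgroup.mem_center_iff.1 hc'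
    rw [commutatorElement_def, commutatorElement_def, mul_inv_rev, mul_inv_rev]
    calc d * c * (d' * c') * (c⁻¹ * d⁻¹) * (c'⁻¹ * d'⁻¹)
        = d * (c * (d' * c')) * (c⁻¹ * d⁻¹) * (c'⁻¹ * d'⁻¹) := by group
      _ = d * (d' * c' * c) * (c⁻¹ * d⁻¹) * (c'⁻¹ * d'⁻¹) := by rw [← e1 (d' * c')]
      _ = d * d' * (c' * d⁻¹) * c'⁻¹ * d'⁻¹ := by group
      _ = d * d' * (d⁻¹ * c') * c'⁻¹ * d'⁻¹ := by rw [e2 d⁻¹]
      _ = d * d' * d⁻¹ * d'⁻¹ := by group
  rw [h1]
  exact Subgroup.commutator_mem_commutator hd hd'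

/-- A perfect group with a central involution and quotient `PSL₂(q)` is `SL₂(q)`. -/
theorem equiv_SL2 {F : Type v} [Field F] [Fintype F] (hodd : Odd (Fintype.card F))
    (h3 : 3 < Fintype.card F) (h9 : Fintype.card F ≠ 9)
    {Γ : Type u} [Group Γ] [Finite Γ] (hperf : commutator Γ = ⊤)
    (f : Γ →* Matrix.ProjectiveSpecialLinearGroup (Fin 2) F) (hf : Function.Surjective f)
    (hker : f.ker ≤ Subgroup.center Γ) (h2 : Nat.card f.ker = 2) :
    Nonempty (Γ ≃* SL(2, F)) := by
  classical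
  obtain ⟨p, hp⟩ := CharP.exists F
  have : Fact p.Prime := ⟨CharP.char_is_prime F p⟩
  have hS : commutator SL(2, F) = ⊤ := by
    exact PSLSimple.commutator_SL_fin_eq_top le_rfl
      (fun _ => PSLSimple.exists_sq_ne_one (by rw [Nat.card_eq_fintype_card]; omega))
  let π : SL(2, F) →* Matrix.ProjectiveSpecialLinearGroup (Fin 2) F :=
    QuotientGroup.mk' (Subgroup.center SL(2, F))
  let P : Subgroup (Γ × SL(2, F)) :=
    MonoidHom.eqLocus (f.comp (MonoidHom.fst _ _)) (π.comp (MonoidHom.snd _ _))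
  let σ : P →* SL(2, F) := (MonoidHom.snd _ _).comp P.subtype
  have hσs : Function.Surjective σ := fun y => by
    obtain ⟨x, hx⟩ := hf (π y)
    exact ⟨⟨(x, y), hx⟩, rfl⟩
  have hσk : σ.ker ≤ Subgroup.center P := by
    intro x hx
    have hx2 : (x : Γ × SL(2, F)).2 = 1 := hx
    have hx1 : (x : Γ × SL(2, F)).1 ∈ f.ker := by
      have := x.2
      show f (x : Γ × SL(2, F)).1 = 1
      rw [show f (x : Γ × SL(2, F)).1 = π (x : Γ × SL(2, F)).2 from this, hx2, map_one]
    rw [Subgroup.mem_center_iff]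
    intro y
    refine Subtype.ext (Prod.ext ?_ ?_)
    · exact Subgroup.mem_center_iff.1 (hker hx1) _
    · show (y : Γ × SL(2, F)).2 * (x : Γ × SL(2, F)).2 = (x : Γ × SL(2, F)).2 * (y : Γ × SL(2, F)).2
      rw [hx2, mul_one, one_mul]
  obtain ⟨hmap, hPP⟩ := derived_cover σ hσs hσk hS
  let D := commutator P
  let τ : D →* SL(2, F) := σ.comp D.subtype
  have hτs : Function.Surjective τ := fun y => by
    obtain ⟨d, hd, e⟩ : y ∈ Subgroup.map σ D := hmap ▸ Subgroup.mem_top _
    exact ⟨⟨d, hd⟩, e⟩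
  have hDperf : commutator D = ⊤ := by
    apply Subgroup.map_injective D.subtype_injective
    rw [commutator_def, Subgroup.map_commutator, ← MonoidHom.range_eq_map, Subgroup.range_subtype]
    exact hPP
  have hτk : τ.ker ≤ Subgroup.center D := fun x hx => by
    rw [Subgroup.mem_center_iff]
    intro y
    exact Subtype.ext (Subgroup.mem_center_iff.1 (hσk hx) y)
  have hstem : Cfsg.IsStemExtension τ := ⟨hτs, hτk, by rw [hDperf]; exact le_top⟩
  have hbot := StemSL2.ker_eq_bot p hstem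
    (fun h => by rw [h] at hodd; exact absurd hodd (by decide)) h9
  let e : D ≃* SL(2, F) := MulEquiv.ofBijective τ ⟨(MonoidHom.ker_eq_bot_iff τ).1 hbot, hτs⟩
  let h : SL(2, F) →* Γ := ((MonoidHom.fst _ _).comp (P.subtype.comp D.subtype)).comp e.symm.toMonoidHom
  have hfh : ∀ y, f (h y) = π y := fun y => by
    have h1 : τ (e.symm y) = y := e.apply_symm_apply y
    have h2 := ((e.symm y : D) : P).2
    show f _ = π y
    conv_rhs => rw [← h1]
    exact h2
  have hsurj : Function.Surjective h := by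
    have htop : h.range ⊔ f.ker = ⊤ := by
      rw [eq_top_iff]
      intro x _
      obtain ⟨y, hy⟩ := QuotientGroup.mk'_surjective _ (f x)
      have hx : (h y)⁻¹ * x ∈ f.ker := by
        rw [MonoidHom.mem_ker, map_mul, map_inv, hfh, show π y = f x from hy, inv_mul_cancel]
      have : x = h y * ((h y)⁻¹ * x) := by group
      rw [this]
      exact mul_mem (Subgroup.mem_sup_left ⟨y, rfl⟩) (Subgroup.mem_sup_right hx)
    have hle : commutator Γ ≤ h.range := by
      rw [commutator_def, Subgroup.commutator_le]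
      intro a _ b _
      obtain ⟨ya, hya⟩ := QuotientGroup.mk'_surjective _ (f a)
      obtain ⟨yb, hyb⟩ := QuotientGroup.mk'_surjective _ (f b)
      have hc : ∀ {x : Γ} {y : SL(2, F)}, π y = f x → ∃ c ∈ Subgroup.center Γ, x = h y * c :=
        fun {x y} hxy => ⟨(h y)⁻¹ * x, hker (by
          rw [MonoidHom.mem_ker, map_mul, map_inv, hfh, hxy, inv_mul_cancel]), by group⟩
      obtain ⟨c, hcc, rfl⟩ := hc (x := a) hya
      obtain ⟨c', hcc', rfl⟩ := hc (x := b) hyb
      refine ⟨⁅ya, yb⁆, ?_⟩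
      rw [map_commutatorElement]
      have e1 := Subgroup.mem_center_iff.1 hcc
      have e2 := Subgroup.mem_center_iff.1 hcc'
      rw [commutatorElement_def, commutatorElement_def, mul_inv_rev, mul_inv_rev]
      calc h ya * h yb * (h ya)⁻¹ * (h yb)⁻¹
          = h ya * h yb * ((h ya)⁻¹ * c') * c'⁻¹ * (h yb)⁻¹ := by group
        _ = h ya * h yb * (c' * (h ya)⁻¹) * c'⁻¹ * (h yb)⁻¹ := by rw [e2 (h ya)⁻¹]
        _ = h ya * (h yb * c' * c) * (c⁻¹ * (h ya)⁻¹) * (c'⁻¹ * (h yb)⁻¹) := by group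
        _ = h ya * (c * (h yb * c')) * (c⁻¹ * (h ya)⁻¹) * (c'⁻¹ * (h yb)⁻¹) := by rw [e1 (h yb * c')]
        _ = _ := by group
    rw [hperf] at hle
    exact MonoidHom.range_eq_top.1 (eq_top_iff.2 hle)
  have hcard : Nat.card SL(2, F) = Nat.card Γ := by
    have h1 : Nat.card Γ = Nat.card f.ker * Nat.card (Matrix.ProjectiveSpecialLinearGroup (Fin 2) F) := by
      rw [← Subgroup.card_mul_index f.ker, Subgroup.index_ker, MonoidHom.range_eq_top.2 hf,
        Subgroup.card_top]
    have h4 := PSLCard.card_PSL2_mul (F := F)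
    rw [Nat.card_eq_fintype_card] at h4
    rw [show Nat.gcd 2 (Fintype.card F - 1) = 2 by
      obtain ⟨k, hk⟩ := hodd
      exact Nat.gcd_eq_left ⟨k, by omega⟩] at h4
    rw [h1, h2, h4, PSLCard.card_SL2, Nat.card_eq_fintype_card]
  exact ⟨(MulEquiv.ofBijective h ((Nat.bijective_iff_surjective_and_card h).2 ⟨hsurj, hcard⟩)).symm⟩

end Cfsg.Agent.SL2CoverUnique27
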