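import Mathlib
import Cfsg.Agent.Lib.QuatKlein27B
import Cfsg.Agent.Lib.SL2CoverUnique27

/-!
Nonsolvable groups with quaternion Sylow 2-subgroups and cyclic intersections, given the
classification of simple groups with Klein four Sylow 2-subgroups.
-/

set_option autoImplicit false
set_option linter.style.haveILetI false

namespace Cfsg.Agent.QuatKlein27

universe u

open scoped Pointwise

/-- The hypothesis: simple groups with Klein four Sylow 2-subgroups are `PSL(2,q)`. -/
def KleinSimple : Prop :=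
  ∀ (Y : Type u) [Group Y] [Finite Y], IsSimpleGroup Y → ¬ IsMulCommutative Y → ∀ W : Sylow 2 Y,
    Nat.card (W : Subgroup Y) = 4 → (∀ w ∈ (W : Subgroup Y), w * w = 1) →
    ∃ (F : Type) (_ : Field F) (_ : Fintype F), Odd (Fintype.card F) ∧ 3 < Fintype.card F ∧
      Nonempty (Y ≃* Matrix.ProjectiveSpecialLinearGroup (Fin 2) F)

theorem q8_sq : ∀ q : QuaternionGroup 2, q * q * (q * q) = 1 := by decide

/-- The congruence on `q`. -/
theorem mod_eight {q c : ℕ} (hq : Odd q) (hc : 2 * c = q * (q ^ 2 - 1)) (h8 : ¬ 8 ∣ c) :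
    q % 8 = 3 ∨ q % 8 = 5 := by
  obtain ⟨k, rfl⟩ := hq
  by_contra hne
  push Not at hne
  apply h8
  have h16 : 16 ∣ (2 * k + 1) ^ 2 - 1 := by
    have hk : k % 4 = 0 ∨ k % 4 = 3 := by omega
    have e : (2 * k + 1) ^ 2 - 1 = 4 * (k * (k + 1)) := by
      have : (2 * k + 1) ^ 2 = 4 * (k * (k + 1)) + 1 := by ring
      omega
    rw [e]
    rcases hk with h | h
    · exact (show 16 = 4 * 4 from rfl) ▸ Nat.mul_dvd_mul_left 4 (Dvd.dvd.mul_right (Nat.dvd_of_mod_eq_zero h) _)
    · exact (show 16 = 4 * 4 from rfl) ▸ Nat.mul_dvd_mul_left 4 (Dvd.dvd.mul_left (Nat.dvd_of_mod_eq_zero (by omega)) _)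
  obtain ⟨j, hj⟩ := h16
  rw [hj] at hc
  exact ⟨(2 * k + 1) * j, by linarith⟩

/-- Odd order normal subgroups of a quotient by a central subgroup of order two are trivial. -/
theorem odd_normal_eq_bot {Q : Type u} [Group Q] [Finite Q] (Z : Subgroup Q) [Z.Normal]
    (hZc : Z ≤ Subgroup.center Q) (hZ : Nat.card Z = 2) (hO : Cfsg.pPrimeCore 2 Q = ⊥)
    (M : Subgroup (Q ⧸ Z)) (hM : M.Normal) (hodd : Odd (Nat.card M)) : M = ⊥ := by
  classical
  set M' := M.comap (QuotientGroup.mk' Z) with hM'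
  haveI : M'.Normal := hM.comap _
  have hZM : Z ≤ M' := fun x hx => by
    rw [hM', Subgroup.mem_comap, QuotientGroup.mk'_apply, (QuotientGroup.eq_one_iff x).2 hx]
    exact one_mem _
  have hmap : M'.map (QuotientGroup.mk' Z) = M :=
    Subgroup.map_comap_eq_self_of_surjective (QuotientGroup.mk'_surjective Z) M
  have hcard : Nat.card M * 2 = Nat.card M' := by
    have := HallCore.card_map_mk'_mul Z M' hZM
    rwa [hmap, hZ] at this
  set N := Z.subgroupOf M'
  have hN : Nat.card N = 2 := by rw [← hZ]; exact Nat.card_congr (Subgroup.subgroupOfEquivOfLe hZM).toEquiv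
  have hidx : N.index = Nat.card M := by
    have h := Subgroup.card_mul_index N
    rw [hN, ← hcard] at h
    omega
  obtain ⟨K, hK⟩ := Subgroup.exists_right_complement'_of_coprime (N := N)
    (by rw [hN, hidx]; exact Nat.coprime_two_left.2 hodd)
  have hKcard : Nat.card K = Nat.card M := by
    have h := hK.card_mul
    rw [hN, ← hcard] at h
    omega
  have hchar : ∀ y : M', y ^ Nat.card M = 1 → y ∈ K := by
    intro y hy
    have hy' : y ∈ (N : Set M') * (K : Set M') := by rw [hK.mul_eq]; trivial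
    obtain ⟨c, hc, k, hk, rfl⟩ := hy'
    have hcc : Commute c k := Subtype.ext
      ((Subgroup.mem_center_iff.1 (hZc hc) (k : Q)).symm)
    have hk1 : k ^ Nat.card M = 1 := by
      rw [← hKcard]
      exact congrArg Subtype.val (pow_card_eq_one' (x := (⟨k, hk⟩ : K)))
    rw [hcc.mul_pow, hk1, mul_one] at hy
    have h2 : c ^ 2 = 1 := by
      rw [← hN]
      exact congrArg Subtype.val (pow_card_eq_one' (x := (⟨c, hc⟩ : N)))
    have hc1 : c = 1 := by
      rw [← orderOf_eq_one_iff]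
      exact Nat.eq_one_of_dvd_coprimes (Nat.coprime_two_right.2 hodd)
        (orderOf_dvd_of_pow_eq_one hy) (orderOf_dvd_of_pow_eq_one h2)
    simpa [hc1] using hk
  set K' := K.map M'.subtype
  have hK'n : K'.Normal := by
    constructor
    rintro _ ⟨k, hk, rfl⟩ a
    refine ⟨⟨a * k * a⁻¹, (inferInstance : M'.Normal).conj_mem _ k.2 a⟩, hchar _ ?_, rfl⟩
    refine Subtype.ext ?_
    rw [Subgroup.coe_pow, Subgroup.coe_one, conj_pow, conj_eq_one_iff, ← Subgroup.coe_pow, ← Subgroup.coe_one]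
    congr 1
    rw [← hKcard]
    exact congrArg Subtype.val (pow_card_eq_one' (x := (⟨k, hk⟩ : K)))
  have hK'c : Nat.card K' = Nat.card M := by
    rw [Subgroup.card_map_of_injective M'.subtype_injective, hKcard]
  have hbot : K' = ⊥ := by
    rw [← le_bot_iff, ← hO]
    exact HallCore.le_pPrimeCore (hN := hK'n) (by rw [hK'c]; exact Nat.coprime_two_right.2 hodd)
  rw [hbot, Subgroup.card_bot] at hK'c
  exact Subgroup.card_eq_one.1 hK'c.symm

theorem main (GW : KleinSimple.{u}) {G : Type u} [Group G] [Finite G] (hns : ¬ Group.IsSolvable G)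
    (hQ : ∀ S : Sylow 2 G, ∃ n : ℕ, Nonempty (↥(S : Subgroup G) ≃* QuaternionGroup (2 ^ (n + 1))))
    (hC : ∀ S T : Sylow 2 G, S ≠ T → IsCyclic ↥((S : Subgroup G) ⊓ (T : Subgroup G))) :
    (∀ S : Sylow 2 G, Nonempty (↥(S : Subgroup G) ≃* QuaternionGroup 2)) ∧
    ∃ (G₁ : Subgroup G) (_ : G₁.Normal) (_ : ((Cfsg.oddCore G).subgroupOf G₁).Normal),
      Odd G₁.index ∧ Cfsg.oddCore G ≤ G₁ ∧
      ∃ (F : Type) (_ : Field F) (_ : Fintype F), (Fintype.card F % 8 = 3 ∨ Fintype.card F % 8 = 5) ∧ 3 < Fintype.card F ∧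
        Nonempty (↥G₁ ⧸ (Cfsg.oddCore G).subgroupOf G₁ ≃* Matrix.SpecialLinearGroup (Fin 2) F) := by
  classical
  haveI : Fact (Nat.Prime 2) := ⟨Nat.prime_two⟩
  have h8 : ∀ S : Sylow 2 G, Nonempty (↥(S : Subgroup G) ≃* QuaternionGroup 2) := fun S => by
    obtain ⟨n, ⟨e⟩⟩ := hQ S
    obtain ⟨rfl, -⟩ := exists_odd_automorphism hns S n e hC
    exact ⟨e⟩
  refine ⟨h8, ?_⟩
  obtain ⟨T⟩ : Nonempty (Sylow 2 G) := inferInstance
  obtain ⟨e⟩ := h8 T
  obtain ⟨z, hzT, hz⟩ := exists_solitary T 0 e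
  -- the odd core
  set O := Cfsg.pPrimeCore 2 G
  have hOodd : Odd (Nat.card O) := ZStarTheorem.odd_card_pPrimeCore
  set π := QuotientGroup.mk' O
  have hπ : Function.Surjective π := QuotientGroup.mk'_surjective O
  have hOQ : Cfsg.pPrimeCore 2 (G ⧸ O) = ⊥ := HallCore.pPrimeCore_quotient_self 2 G
  have hzb : ZStarBasic.Solitary (π z) := BrauerSuzukiApps.solitary_quotient hz O hOodd
  have hzc : π z ∈ Subgroup.center (G ⧸ O) := BrauerSuzukiCore.mem_center_of_solitary hzb hOQ
  have hinv : ∀ t : G ⧸ O, orderOf t = 2 → t = π z :=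
    fun t ht => hzb.2 t ht (Subgroup.mem_center_iff.1 hzc t)
  set Z := Subgroup.zpowers (π z)
  have hZc : Z ≤ Subgroup.center (G ⧸ O) := Subgroup.zpowers_le.2 hzc
  haveI hZn : Z.Normal := ⟨fun x hx a => by
    rwa [Subgroup.mem_center_iff.1 (hZc hx) a, mul_inv_cancel_right]⟩
  have hZ2 : Nat.card Z = 2 := by rw [Nat.card_zpowers, hzb.1]
  set ρ := QuotientGroup.mk' Z
  have hρ : Function.Surjective ρ := QuotientGroup.mk'_surjective Z
  let T1 : Sylow 2 (G ⧸ O) := T.mapSurjective hπ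
  let V : Sylow 2 ((G ⧸ O) ⧸ Z) := T1.mapSurjective hρ
  have hT8 : Nat.card (T : Subgroup G) = 8 := by
    rw [Nat.card_congr e.toEquiv, Nat.card_eq_fintype_card, QuaternionGroup.card]
  have hT1 : Nat.card (T1 : Subgroup (G ⧸ O)) = 8 := by
    have h1 : (T1 : Subgroup (G ⧸ O)) = (π.comp (T : Subgroup G).subtype).range := by
      rw [MonoidHom.range_comp, Subgroup.range_subtype]; rfl
    have h2 : Function.Injective (π.comp (T : Subgroup G).subtype) := by
      rw [← MonoidHom.ker_eq_bot_iff, eq_bot_iff]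
      intro x hx
      have hxO : (x : G) ∈ O := (QuotientGroup.eq_one_iff _).1 hx
      have hd : orderOf (x : G) ∣ 8 := hT8 ▸ Subgroup.orderOf_dvd_natCard _ x.2
      have hd' : orderOf (x : G) ∣ Nat.card O := Subgroup.orderOf_dvd_natCard _ hxO
      have : orderOf (x : G) = 1 := Nat.eq_one_of_dvd_coprimes
        ((Nat.coprime_two_right.2 hOodd).pow_right 3) hd' hd
      exact Subgroup.mem_bot.2 (Subtype.ext (orderOf_eq_one_iff.1 this))
    rw [h1, ← Nat.card_congr (MonoidHom.ofInjective h2).toEquiv, hT8]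
  have hzT1 : π z ∈ (T1 : Subgroup (G ⧸ O)) := ⟨z, hzT, rfl⟩
  have hV4 : Nat.card (V : Subgroup ((G ⧸ O) ⧸ Z)) = 4 := by
    have := HallCore.card_map_mk'_mul Z (T1 : Subgroup (G ⧸ O)) (Subgroup.zpowers_le.2 hzT1)
    rw [hT1, hZ2] at this
    have h' : Nat.card ((T1 : Subgroup (G ⧸ O)).map ρ) = 4 := by
      show Nat.card ((T1 : Subgroup (G ⧸ O)).map (QuotientGroup.mk' Z)) = 4
      omega
    exact h'
  have hV2 : ∀ v ∈ (V : Subgroup ((G ⧸ O) ⧸ Z)), v * v = 1 := by
    rintro _ ⟨_, ⟨t, ht, rfl⟩, rfl⟩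
    by_cases htt : t * t = 1
    · rw [← map_mul, ← map_mul, htt, map_one, map_one]
    have h4 : t * t * (t * t) = 1 := by
      have := congrArg e.symm (q8_sq (e ⟨t, ht⟩))
      simp only [← map_mul, map_one, MulEquiv.symm_apply_apply] at this
      exact congrArg Subtype.val this
    have he : t * t = z := unique_involution (n := 0) e (mul_mem ht ht) hzT
      (orderOf_eq_prime (by rw [pow_two]; exact h4) htt) hz.1
    rw [← map_mul, ← map_mul, he]
    exact (QuotientGroup.eq_one_iff _).2 (Subgroup.mem_zpowers _)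
  have hnsX : ¬ Group.IsSolvable ((G ⧸ O) ⧸ Z) := fun h => by
    haveI : Group.IsSolvable Z := CoprimeAction.isSolvable_of_isPGroup
      (IsPGroup.of_card (p := 2) (n := 1) (by rw [hZ2, pow_one]))
    haveI : Group.IsSolvable (G ⧸ O) :=
      Group.isSolvable_of_ker_le_range (G' := Z) Z.subtype ρ (by simp [ρ])
    haveI : Group.IsSolvable O := Cfsg.Agent.S0205.result hOodd
    exact hns (Group.isSolvable_of_ker_le_range (G' := O) O.subtype π (by simp [π]))
  have hOX := fun M hM hodd => odd_normal_eq_bot Z hZc hZ2 hOQ M hM hodd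
  obtain ⟨N, hN, hNi, hVN, hNs, hNns, W, hW4, hW2⟩ := exists_socle hnsX hOX V hV4 hV2
  have hNna : ¬ IsMulCommutative N := fun h => hNns (Group.isSolvable_of_comm fun a b => h.is_comm.comm a b)
  obtain ⟨F, _, _, hFodd, hF3, ⟨iso⟩⟩ := GW N hNs hNna W hW4 hW2
  -- arithmetic
  have hN8 : ¬ 8 ∣ Nat.card N := by
    rw [← (W : Subgroup N).card_mul_index, hW4]
    intro h
    exact W.not_dvd_index (Nat.dvd_of_mul_dvd_mul_left (show 0 < 4 by norm_num) h)
  have hPSL := PSLCard.card_PSL2_mul (F := F)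
  rw [Nat.card_eq_fintype_card (α := F), show Nat.gcd 2 (Fintype.card F - 1) = 2 by
    obtain ⟨k, hk⟩ := hFodd
    exact Nat.gcd_eq_left ⟨k, by omega⟩] at hPSL
  have hmod := mod_eight hFodd hPSL (by rw [← Nat.card_congr iso.toEquiv]; exact hN8)
  -- the double cover
  set N1 := N.comap ρ
  haveI : N1.Normal := hN.comap _
  let f : N1 →* Matrix.ProjectiveSpecialLinearGroup (Fin 2) F :=
    iso.toMonoidHom.comp ((ρ.comp N1.subtype).codRestrict N (fun x => x.2))
  have hf : Function.Surjective f := fun y => by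
    obtain ⟨x, hx⟩ := hρ ((iso.symm y : N) : (G ⧸ O) ⧸ Z)
    refine ⟨⟨x, by show ρ x ∈ N; rw [hx]; exact (iso.symm y).2⟩, ?_⟩
    show iso _ = y
    exact (congrArg iso (Subtype.ext hx)).trans (iso.apply_symm_apply y)
  have hfk : ∀ x : N1, x ∈ f.ker ↔ (x : G ⧸ O) ∈ Z := fun x => by
    rw [MonoidHom.mem_ker]
    show iso _ = 1 ↔ _
    rw [MulEquiv.map_eq_one_iff, ← QuotientGroup.eq_one_iff]
    exact ⟨fun h => congrArg Subtype.val h, fun h => Subtype.ext h⟩
  have hfc : f.ker ≤ Subgroup.center N1 := fun x hx => by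
    rw [Subgroup.mem_center_iff]
    exact fun y => Subtype.ext (Subgroup.mem_center_iff.1 (hZc ((hfk x).1 hx)) (y : G ⧸ O))
  have hZN1 : Z ≤ N1 := fun x hx => by
    show ρ x ∈ N
    rw [show ρ x = 1 from (QuotientGroup.eq_one_iff x).2 hx]
    exact one_mem _
  have hf2 : Nat.card f.ker = 2 := by
    rw [show f.ker = Z.subgroupOf N1 by ext x; exact hfk x]
    exact (Nat.card_congr (Subgroup.subgroupOfEquivOfLe hZN1).toEquiv).trans hZ2
  have hperf : commutator N1 = ⊤ := by
    obtain ⟨hmap, -⟩ := SL2CoverUnique27.derived_cover f hf hfc (by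
      rw [PSLSimple.commutator_PSL_eq_top]
      exact PSLSimple.commutator_SL_fin_eq_top le_rfl
        (fun _ => PSLSimple.exists_sq_ne_one (by rw [Nat.card_eq_fintype_card]; omega)))
    have heven : 2 ∣ Nat.card (commutator N1) := by
      refine dvd_trans ?_ (Subgroup.card_map_dvd (commutator N1) f)
      rw [hmap, Subgroup.card_top]
      have h4 : 4 ∣ Nat.card N := hW4 ▸ Subgroup.card_subgroup_dvd_card _
      rw [← Nat.card_congr iso.toEquiv]
      exact dvd_trans (by norm_num) h4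
    obtain ⟨t, ht⟩ := exists_prime_orderOf_dvd_card' 2 heven
    have htz : ((t : N1) : G ⧸ O) = π z := hinv _ (by rw [Subgroup.orderOf_coe, Subgroup.orderOf_coe, ht])
    have hkle : f.ker ≤ commutator N1 := by
      intro x hx
      obtain ⟨i, hi⟩ := Subgroup.mem_zpowers_iff.1 ((hfk x).1 hx)
      have : x = (t : N1) ^ i := Subtype.ext (by rw [Subgroup.coe_zpow, htz, hi])
      rw [this]
      exact zpow_mem t.2 i
    rw [← sup_eq_left.2 hkle, ← Subgroup.comap_map_eq, hmap, Subgroup.comap_top]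
  obtain ⟨eSL⟩ := SL2CoverUnique27.equiv_SL2 hFodd hF3 (fun h => by omega) hperf f hf hfc hf2
  -- pull back to `G`
  set G₁ := N1.comap π
  haveI hG₁ : G₁.Normal := (inferInstance : N1.Normal).comap _
  let g : G₁ →* N1 := (π.comp G₁.subtype).codRestrict N1 (fun x => x.2)
  have hg : Function.Surjective g := fun y => by
    obtain ⟨x, hx⟩ := hπ (y : G ⧸ O)
    exact ⟨⟨x, by show π x ∈ N1; rw [hx]; exact y.2⟩, Subtype.ext hx⟩
  have hgk : g.ker = O.subgroupOf G₁ := by
    ext x
    rw [MonoidHom.mem_ker, Subgroup.mem_subgroupOf, ← QuotientGroup.eq_one_iff (N := O)]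
    exact ⟨fun h => congrArg Subtype.val h, fun h => Subtype.ext h⟩
  have hidx : Odd G₁.index := by
    rw [Subgroup.index_comap_of_surjective _ hπ, Subgroup.index_comap_of_surjective _ hρ]
    exact hNi
  have hle : O ≤ G₁ := fun x hx => by
    show π x ∈ N1
    rw [show π x = 1 from (QuotientGroup.eq_one_iff x).2 hx]
    exact one_mem _
  haveI hn : (O.subgroupOf G₁).Normal := Subgroup.normal_subgroupOf
  exact ⟨G₁, hG₁, hn, hidx, hle, F, inferInstance, inferInstance, hmod, hF3,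
    ⟨(QuotientGroup.quotientMulEquivOfEq hgk.symm).trans
      ((QuotientGroup.quotientKerEquivOfSurjective g hg).trans eSL)⟩⟩

end Cfsg.Agent.QuatKlein27
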