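import Cfsg.Agent.Lib.ReeInstance17
import Cfsg.Agent.Lib.TwistAutRigid

/-!
The group `U¹` of `²G₂(q)` in coordinates, and the weights of the torus on it.
-/

set_option autoImplicit false
set_option linter.unusedSectionVars false
set_option maxRecDepth 20000

namespace Cfsg.Agent.ReeBorel86

open Cfsg.Lie Cfsg.Agent.ChevalleyCert Cfsg.Agent.ChevalleyCore Cfsg.Agent.TwistedCore
open Cfsg.Agent.ReeSL2 Cfsg.Agent.ReeTwist17 Cfsg.Agent.ChevalleyTorus Cfsg.Agent.ChevBruhat
open Cfsg.Agent.ReeInstance17 Cfsg.Agent.ReeInstance17.Ctx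
open scoped commutatorElement MatrixGroups

section comm

variable {K : Type*} [Field K] [CharP K 3]

theorem pair_table : (∀ p ∈ ([(7, 8), (6, 10)] : List (ℕ × ℕ)), p.1 < chevG2.nroots ∧
      p.2 < chevG2.nroots ∧ p.2 ≠ p.1 ∧ p.2 ≠ chevG2.neg p.1) ∧
    chevG2.commTerms 7 8 = [(9, -2, 1, 1), (10, -3, 2, 1), (11, 3, 1, 2)] ∧
    chevG2.commTerms 6 10 = [(11, 1, 1, 1)] ∧
    (∀ p ∈ ([(7, 9), (7, 10), (7, 11), (6, 8), (6, 9), (6, 11)] : List (ℕ × ℕ)),
      p.1 < chevG2.nroots ∧ p.2 < chevG2.nroots ∧ p.2 ≠ p.1 ∧ p.2 ≠ chevG2.neg p.1 ∧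
      (chevG2.commTerms p.1 p.2).all (fun c => c.2.1 % 3 == 0) = true) := by
  decide +kernel

theorem comm_low {r r' : ℕ}
    (h : (r, r') ∈ ([(7, 9), (7, 10), (7, 11), (6, 8), (6, 9), (6, 11)] : List (ℕ × ℕ)))
    (t u : K) : Commute (X false r t) (X false r' u) := by
  obtain ⟨h1, h2, h3, h4, h5⟩ := pair_table.2.2.2 _ h
  have h6 : ∀ c ∈ chevG2.commTerms r r', (c.2.1 : K) = 0 := by
    intro c hc
    have := List.all_eq_true.1 h5 c hc
    exact (CharP.intCast_eq_zero_iff K 3 _).2 (Int.dvd_of_emod_eq_zero (by simpa using this))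
  simpa [X] using ChevRootCentralizer.comm_of_terms c2 h1 h2 h3 h4 h6 t u

theorem swap87 (a c : K) : X false 8 c * X false 7 a = X false 7 a * X false 8 c * X false 9 (2 * (a * c)) := by
  obtain ⟨hp, e78, -, -⟩ := pair_table
  obtain ⟨h1, h2, h3, h4⟩ := hp (7, 8) (by simp)
  simp only [X, Bool.false_eq_true, ↓reduceIte]
  rw [comm_formula c2 h1 h2 h3 h4 a c, ChevalleyDatum.commWord, e78]
  have h30 : ((-3 : ℤ) : K) = 0 ∧ ((3 : ℤ) : K) = 0 := by
    constructor <;> exact (CharP.intCast_eq_zero_iff K 3 _).2 (by norm_num)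
  simp only [List.map_cons, List.map_nil, TwistedTools.wg_cons, TwistedTools.wg_nil, mul_one,
    h30.1, h30.2, zero_mul, xg_zero, mul_assoc]
  congr 2
  push_cast
  ring_nf

theorem swap106 (b e : K) : X false 10 e * X false 6 b = X false 6 b * X false 10 e * X false 11 (-(b * e)) := by
  obtain ⟨hp, -, e610, -⟩ := pair_table
  obtain ⟨h1, h2, h3, h4⟩ := hp (6, 10) (by simp)
  simp only [X, Bool.false_eq_true, ↓reduceIte]
  rw [comm_formula c2 h1 h2 h3 h4 b e, ChevalleyDatum.commWord, e610]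
  simp only [List.map_cons, List.map_nil, TwistedTools.wg_cons, TwistedTools.wg_nil, mul_one,
    mul_assoc]
  congr 2
  push_cast
  ring_nf

theorem tail_seven (c d e g a : K) :
    tail false c d e g * X false 7 a = X false 7 a * tail false c (d + 2 * (a * c)) e g := by
  have c9 := comm_low (r := 7) (r' := 9) (by decide) a d
  have c10 := comm_low (r := 7) (r' := 10) (by decide) a e
  have c11 := comm_low (r := 7) (r' := 11) (by decide) a g
  unfold tail
  calc X false 8 c * X false 9 d * X false 10 e * X false 11 g * X false 7 a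
      = X false 8 c * ((X false 9 d * X false 10 e * X false 11 g) * X false 7 a) := by group
    _ = X false 8 c * (X false 7 a * (X false 9 d * X false 10 e * X false 11 g)) := by
        rw [((c9.mul_right c10).mul_right c11).eq]
    _ = (X false 8 c * X false 7 a) * (X false 9 d * X false 10 e * X false 11 g) := by group
    _ = X false 7 a * X false 8 c * (X false 9 (2 * (a * c)) * X false 9 d) *
          X false 10 e * X false 11 g := by rw [swap87]; group
    _ = _ := by rw [X_mul, add_comm (2 * (a * c)) d]; group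

theorem tail_six (c d e g b : K) :
    tail false c d e g * X false 6 b = X false 6 b * tail false c d e (g - b * e) := by
  have c8 := comm_low (r := 6) (r' := 8) (by decide) b c
  have c9 := comm_low (r := 6) (r' := 9) (by decide) b d
  have c11 := comm_low (r := 6) (r' := 11) (by decide) b g
  unfold tail
  calc X false 8 c * X false 9 d * X false 10 e * X false 11 g * X false 6 b
      = X false 8 c * X false 9 d * (X false 10 e * (X false 11 g * X false 6 b)) := by group
    _ = X false 8 c * X false 9 d * ((X false 10 e * X false 6 b) * X false 11 g) := by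
        rw [← c11.eq]; group
    _ = X false 8 c * X false 9 d * X false 6 b * X false 10 e *
          (X false 11 (-(b * e)) * X false 11 g) := by rw [swap106]; group
    _ = X false 6 b * (X false 8 c * X false 9 d) * X false 10 e *
          (X false 11 (-(b * e)) * X false 11 g) := by rw [(c8.mul_right c9).eq]
    _ = _ := by rw [X_mul, show -(b * e) + g = g - b * e by ring]; group

theorem Uf_mul (a b c d e g a' b' c' d' e' g' : K) :
    ∃ C D, Uf false a b c d e g * Uf false a' b' c' d' e' g' =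
      Uf false (a + a') (b + b') C D (e + e' - a' ^ 3 * b)
        (g + g' - b' * e - a' ^ 3 * b ^ 2 + a' ^ 3 * b * b') := by
  refine ⟨a' * b + c + c', a' ^ 2 * b + (d + 2 * (a' * c)) + d', ?_⟩
  unfold Uf
  calc X false 7 a * X false 6 b * tail false c d e g * (X false 7 a' * X false 6 b' * tail false c' d' e' g')
      = X false 7 a * X false 6 b * (tail false c d e g * X false 7 a') * X false 6 b' *
          tail false c' d' e' g' := by group
    _ = X false 7 a * (X false 6 b * X false 7 a') * tail false c (d + 2 * (a' * c)) e g *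
          X false 6 b' * tail false c' d' e' g' := by rw [tail_seven]; group
    _ = X false 7 a * X false 7 a' * X false 6 b *
          ((tail false (b * a') (a' ^ 2 * b) (-(a' ^ 3 * b)) (-(a' ^ 3 * b ^ 2)) *
            tail false c (d + 2 * (a' * c)) e g) * X false 6 b') * tail false c' d' e' g' := by
        rw [swap76]; group
    _ = X false 7 (a + a') * X false 6 b * X false 6 b' *
          (tail false (b * a' + c) (a' ^ 2 * b + (d + 2 * (a' * c))) (-(a' ^ 3 * b) + e)
            (-(a' ^ 3 * b ^ 2) + g - b' * (-(a' ^ 3 * b) + e)) * tail false c' d' e' g') := by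
        rw [tail_mul, tail_six, X_mul]; group
    _ = _ := by
        rw [tail_mul, mul_assoc (X false 7 (a + a')), X_mul]
        congr 2 <;> ring

end comm

/-! ### the group `U¹` -/

variable {K : Type*} [Field K] [Fintype K] [CharP K 3] (X : Ctx K)

/-- the map `σ = 3θ`, with `σ² = 3` -/
noncomputable def sgm : K →+* K := (frobenius K 3).comp X.θ

theorem sgm_apply (t : K) : sgm X t = X.θ t ^ 3 := rfl

theorem sgm_sgm (t : K) : sgm X (sgm X t) = t ^ 3 := by
  rw [sgm_apply, sgm_apply, map_pow, X.sq]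

theorem exists_sgm_ne (h3 : 3 < Fintype.card K) : ∃ s : K, sgm X s ≠ s := by
  by_contra hc
  push Not at hc
  have h : ∀ s : K, s ^ 3 = s := fun s => by rw [← sgm_sgm X s, hc, hc]
  classical
  have hP : (Polynomial.X ^ 3 - Polynomial.X : Polynomial K).natDegree = 3 := by
    compute_degree!
  have h0 : (Polynomial.X ^ 3 - Polynomial.X : Polynomial K) ≠ 0 := fun e => by
    rw [e, Polynomial.natDegree_zero] at hP; exact absurd hP (by norm_num)
  exact h0 (Polynomial.eq_zero_of_natDegree_lt_card_of_eval_eq_zero _ (f := fun a : K => a)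
    (fun a b e => e) (fun a => by simp [h a]) (by rw [hP]; exact h3))

/-- the element of `U¹` with coordinates `t`, `u`, `v` -/
noncomputable def gu (t u v : K) : ↥X.G1 := ⟨gen X.θ false t u v, X.gen_mem _ _ _ _⟩

theorem coe_gu (t u v : K) : (gu X t u v : GL chevG2.Idx K) = gen X.θ false t u v := rfl

theorem gu_inj {t u v t' u' v' : K} (h : gu X t u v = gu X t' u' v') : t = t' ∧ u = u' ∧ v = v' := by
  obtain ⟨-, h2, -, -, h5, h6⟩ := Uf_inj (congrArg Subtype.val h : gen X.θ false t u v = gen X.θ false t' u' v')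
  exact ⟨h2, h5, h6⟩

theorem gu_mem_U (t u v : K) : gu X t u v ∈ TwistAutRigid.U1 X.G1 :=
  Uf_mem_U _ _ _ _ _ _

theorem mem_U1_iff {y : ↥X.G1} : y ∈ TwistAutRigid.U1 X.G1 ↔ ∃ t u v, y = gu X t u v := by
  constructor
  · intro h
    obtain ⟨t, u, v, e⟩ := X.fixed_U_eq_gen h (X.le_fixed y.2)
    exact ⟨t, u, v, Subtype.ext e⟩
  · rintro ⟨t, u, v, rfl⟩
    exact gu_mem_U X t u v

theorem gu_eq_of {y : ↥X.G1} {a b c d e g : K} (hy : y ∈ TwistAutRigid.U1 X.G1)
    (h : (y : GL chevG2.Idx K) = Uf false a b c d e g) : y = gu X b e g := by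
  obtain ⟨t, u, v, rfl⟩ := (mem_U1_iff X).1 hy
  obtain ⟨-, h2, -, -, h5, h6⟩ := Uf_inj (show gen X.θ false t u v = _ from h)
  rw [h2, h5, h6]

theorem gu_zero : gu X (0 : K) 0 0 = 1 := by
  apply Subtype.ext
  rw [coe_gu, gen, Uf, tail]
  simp [ReeTwist17.X_zero]

theorem gu_mul (t u v t' u' v' : K) : gu X t u v * gu X t' u' v' =
    gu X (t + t') (u + u' - sgm X t' * t) (v + v' - t' * u - sgm X t' * t ^ 2 + sgm X t' * t * t') := by
  obtain ⟨C, D, h⟩ := Uf_mul (X.θ t) t (t * X.θ t + X.θ u) (t * X.θ t ^ 2 + X.θ v) u v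
    (X.θ t') t' (t' * X.θ t' + X.θ u') (t' * X.θ t' ^ 2 + X.θ v') u' v'
  exact gu_eq_of X (mul_mem (gu_mem_U X _ _ _) (gu_mem_U X _ _ _)) h

theorem gu_mul_zero (t u u' v v' : K) : gu X t u v * gu X 0 u' v' = gu X t (u + u') (v + v') := by
  rw [gu_mul]; simp

theorem gu_zero_mul (u v t' u' v' : K) :
    gu X 0 u v * gu X t' u' v' = gu X t' (u + u') (v + v' - t' * u) := by
  rw [gu_mul]; simp

/-- every element is a product of one of each kind -/
theorem gu_split (t u v : K) : gu X t u v = gu X t 0 0 * gu X 0 u 0 * gu X 0 0 v := by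
  simp [gu_mul_zero]

theorem comm_zu (t u : K) : ⁅gu X 0 u 0, gu X t 0 0⁆ = gu X 0 0 (-(t * u)) := by
  rw [commutatorElement_def, ← mul_right_inj ((1 : ↥X.G1))]
  have e1 : gu X 0 u 0 * gu X t 0 0 = gu X 0 0 (-(t * u)) * (gu X t 0 0 * gu X 0 u 0) := by
    rw [gu_zero_mul, gu_mul_zero, gu_zero_mul]
    simp
  rw [e1]; group

/-! ### the torus -/

/-- the parameter `λ²σ(λ)` -/
noncomputable def cpar : Kˣ →* Kˣ where
  toFun l := l ^ 2 * Units.map (sgm X).toMonoidHom l
  map_one' := by simp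
  map_mul' a b := by rw [map_mul, mul_pow]; exact mul_mul_mul_comm _ _ _ _

theorem cpar_val (l : Kˣ) : (cpar X l : K) = (l : K) ^ 2 * sgm X (l : K) := by
  simp [cpar]

theorem cpar_surj (c : Kˣ) : cpar X (c ^ 2 * (Units.map (sgm X).toMonoidHom c)⁻¹) = c := by
  apply Units.ext
  rw [cpar_val]
  simp only [Units.val_mul, Units.val_pow_eq_pow_val, map_mul, map_pow, Units.val_inv_eq_inv_val,
    Units.coe_map, RingHom.toMonoidHom_eq_coe, MonoidHom.coe_coe, map_inv₀, sgm_sgm]
  have hc : (c : K) ≠ 0 := c.ne_zero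
  have hs : sgm X (c : K) ≠ 0 := by simpa using hc
  field_simp

/-- the weight of the middle layer -/
noncomputable def wu (l : Kˣ) : K := (l : K) * sgm X (l : K)

theorem wu_ne (l : Kˣ) : wu X l ≠ 0 := by
  simp [wu, l.ne_zero]

theorem cartan_six : (List.map (fun r => (chevG2.cartan 0 r, chevG2.cartan 1 r)) [6, 10, 11]) =
    [(-3, 2), (3, -1), (0, 1)] := by decide +kernel

theorem tchar_par (l : Kˣ) :
    (tchar chevG2 (X.par (cpar X l)) 6 : K) = l ∧ (tchar chevG2 (X.par (cpar X l)) 10 : K) = wu X l ∧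
      (tchar chevG2 (X.par (cpar X l)) 11 : K) = cpar X l := by
  have huniv : (Finset.univ : Finset (Fin chevG2.rank)) = {⟨0, by decide⟩, ⟨1, by decide⟩} := by
    decide +kernel
  have h := cartan_six
  simp only [List.map_cons, List.map_nil, List.cons.injEq, Prod.mk.injEq, and_true] at h
  obtain ⟨⟨a6, b6⟩, ⟨a10, b10⟩, a11, b11⟩ := h
  have hl : (l : K) ≠ 0 := l.ne_zero
  have hs : sgm X (l : K) ≠ 0 := by simpa using hl
  have hθ : X.θ (cpar X l : K) ^ 3 = sgm X (l : K) ^ 2 * (l : K) ^ 3 := by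
    rw [← sgm_apply, cpar_val, map_mul, map_pow, sgm_sgm]
  have hp0 : ((X.par (cpar X l)) ⟨0, by decide⟩ : K) = X.θ (cpar X l : K) := rfl
  have hp1 : ((X.par (cpar X l)) ⟨1, by decide⟩ : K) = (cpar X l : K) := rfl
  have hc : (cpar X l : K) ≠ 0 := (cpar X l).ne_zero
  simp only [tchar, huniv]
  rw [Finset.prod_pair (by decide), Finset.prod_pair (by decide), Finset.prod_pair (by decide)]
  simp only [Units.val_mul, Units.val_zpow_eq_zpow_val, hp0, hp1, a6, b6, a10, b10, a11, b11]
  refine ⟨?_, ?_, by simp⟩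
  · rw [show (-3 : ℤ) = -((3 : ℕ) : ℤ) by norm_num, zpow_neg, zpow_natCast, hθ,
      show (2 : ℤ) = ((2 : ℕ) : ℤ) by norm_num, zpow_natCast, cpar_val]
    field_simp
  · rw [show (3 : ℤ) = ((3 : ℕ) : ℤ) by norm_num, zpow_natCast, hθ, zpow_neg_one, cpar_val, wu]
    field_simp

/-- every torus element lies in the group -/
def Full : Prop := ∀ c, X.tor c ∈ X.G1

variable {X} (hF : Full X)

/-- the torus of `²G₂(q)` -/
noncomputable def T : Kˣ →* ↥X.G1 := ((X.tor).comp (cpar X)).codRestrict _ fun l => hF _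

theorem coe_T (l : Kˣ) : (T hF l : GL chevG2.Idx K) = torus chevG2 (X.par (cpar X l)) := rfl

theorem T_mem_H (l : Kˣ) : (T hF l : GL chevG2.Idx K) ∈ chevG2.diagonalSubgroup K :=
  torus_mem_H c2 _

theorem exists_T {y : ↥X.G1} (hy : (y : GL chevG2.Idx K) ∈ chevG2.diagonalSubgroup K) :
    ∃ l, y = T hF l := by
  obtain ⟨c, hc⟩ := X.H1_le ⟨hy, y.2⟩
  exact ⟨_, Subtype.ext (by rw [coe_T, cpar_surj]; exact hc.symm)⟩

theorem T_conj (l : Kˣ) (t u v : K) :
    T hF l * gu X t u v * (T hF l)⁻¹ = gu X ((l : K) * t) (wu X l * u) ((cpar X l : K) * v) := by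
  obtain ⟨h6, h10, h11⟩ := tchar_par X l
  have hlt : ∀ r ∈ ([6, 7, 8, 9, 10, 11] : List ℕ), r < chevG2.nroots := by decide +kernel
  set h := torus chevG2 (X.par (cpar X l)) with hh
  have e : ∃ a c d, h * gen X.θ false t u v * h⁻¹ =
      Uf false a ((l : K) * t) c d (wu X l * u) ((cpar X l : K) * v) := by
    refine ⟨(tchar chevG2 (X.par (cpar X l)) 7 : K) * X.θ t,
      (tchar chevG2 (X.par (cpar X l)) 8 : K) * (t * X.θ t + X.θ u),
      (tchar chevG2 (X.par (cpar X l)) 9 : K) * (t * X.θ t ^ 2 + X.θ v), ?_⟩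
    rw [gen, Uf, tail]
    simp only [ReeTwist17.X, Bool.false_eq_true, ↓reduceIte]
    rw [← MulAut.conj_apply]
    simp only [map_mul, MulAut.conj_apply, hh]
    rw [torus_conj_xg c2 (hlt 6 (by simp)), torus_conj_xg c2 (hlt 7 (by simp)),
      torus_conj_xg c2 (hlt 8 (by simp)), torus_conj_xg c2 (hlt 9 (by simp)),
      torus_conj_xg c2 (hlt 10 (by simp)), torus_conj_xg c2 (hlt 11 (by simp)), h6, h10, h11]
    rfl
  obtain ⟨a, c, d, e⟩ := e
  refine gu_eq_of X ?_ e
  show h * gen X.θ false t u v * h⁻¹ ∈ chevG2.posUnipotent K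
  rw [e]
  exact Uf_mem_U _ _ _ _ _ _

theorem T_inj {l l' : Kˣ} (h : T hF l = T hF l') : l = l' := by
  have h1 := T_conj hF l 1 0 0
  rw [h, T_conj hF l' 1 0 0] at h1
  exact Units.ext (by simpa using (gu_inj X h1).1.symm)

/-- `U¹` and the torus generate `B¹` -/
theorem exists_B {y : ↥X.G1} (hy : y ∈ TwistAutRigid.B1 X.G1) :
    ∃ l t u v, y = T hF l * gu X t u v := by
  obtain ⟨h, hh, w, hw, e⟩ := X.classes.mem_B1 (b := (y : GL chevG2.Idx K)) ⟨hy, y.2⟩
  obtain ⟨l, hl⟩ := exists_T hF (y := ⟨h, hh.2⟩) hh.1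
  obtain ⟨t, u, v, hu⟩ := (mem_U1_iff X).1 (show (⟨w, hw.2⟩ : ↥X.G1) ∈ TwistAutRigid.U1 X.G1 from hw.1)
  exact ⟨l, t, u, v, by rw [← hl, ← hu]; exact Subtype.ext e⟩

/-- the representative of the non-trivial double coset -/
noncomputable def nn (X : Ctx K) : ↥X.G1 := ⟨cn, X.cn_G1⟩

theorem form1 (y : ↥X.G1) : y ∈ TwistAutRigid.B1 X.G1 ∨
    ∃ b ∈ TwistAutRigid.B1 X.G1, ∃ w ∈ TwistAutRigid.U1 X.G1, y = b * nn X * w := by
  rcases X.form y.2 with h | ⟨b, hb, w, hw, e⟩
  · exact Or.inl h.1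
  · exact Or.inr ⟨⟨b, hb.2⟩, hb.1, ⟨w, hw.2⟩, hw.1, Subtype.ext e⟩

/-- two homomorphisms agreeing on the coordinates, the torus and the representative are equal -/
theorem hom_ext {G : Type*} [Group G] {f g : ↥X.G1 →* G} (ht : ∀ t, f (gu X t 0 0) = g (gu X t 0 0))
    (hu : ∀ u, f (gu X 0 u 0) = g (gu X 0 u 0)) (hT : ∀ l, f (T hF l) = g (T hF l))
    (hn : f (nn X) = g (nn X)) : f = g := by
  have hv : ∀ v, f (gu X 0 0 v) = g (gu X 0 0 v) := fun v => by
    have e := comm_zu X (-1) v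
    rw [show -(-1 * v) = v by ring] at e
    rw [← e, map_commutatorElement, map_commutatorElement, ht, hu]
  have hU : ∀ w ∈ TwistAutRigid.U1 X.G1, f w = g w := fun w hw => by
    obtain ⟨t, u, v, rfl⟩ := (mem_U1_iff X).1 hw
    simp only [gu_split X t u v, map_mul, ht, hu, hv]
  have hB : ∀ b ∈ TwistAutRigid.B1 X.G1, f b = g b := fun b hb => by
    obtain ⟨l, t, u, v, rfl⟩ := exists_B hF hb
    simp only [map_mul, hT, hU _ (gu_mem_U X t u v)]
  refine MonoidHom.ext fun y => ?_
  rcases form1 y with h | ⟨b, hb, w, hw, rfl⟩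
  · exact hB y h
  · simp only [map_mul, hB b hb, hn, hU w hw]

end Cfsg.Agent.ReeBorel86
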