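import Cfsg.Prelude.Def_LieTwisted
import Cfsg.Agent.Lib.ChevalleyAll
import Cfsg.Agent.Lib.ChevalleyRankOne
import Cfsg.Agent.Lib.ChevBruhatInstance
import Cfsg.Agent.Lib.TwistedTools

/-!
`PSL₂(q)` inside `²G₂(q)`: the fixed elements of the pair of orthogonal root subgroups `a+b`, `3a+b`.
-/

set_option autoImplicit false
set_option maxRecDepth 10000

namespace Cfsg.Agent.ReeSL2

open Matrix Cfsg.Lie Cfsg.Agent.ChevalleyCert Cfsg.Agent.ChevalleyCore
open scoped MatrixGroups

/-- the certificate -/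
noncomputable def c2 : Cert chevG2 := ChevalleyAll.cert chevG2 (by simp)

variable {K : Type*} [Field K] (θ : K →+* K)

theorem root_facts : chevG2.neg 8 = 3 ∧ chevG2.neg 10 = 1 ∧ chevG2.nroots = 12 := by decide +kernel

theorem pairs_ok : ∀ p ∈ ([(8, 10), (8, 1), (3, 10), (3, 1)] : List (ℕ × ℕ)),
    p.1 < chevG2.nroots ∧ p.2 < chevG2.nroots ∧ p.2 ≠ p.1 ∧ p.2 ≠ chevG2.neg p.1 ∧
    chevG2.commTerms p.1 p.2 = [] := by decide +kernel

theorem comm {r s : ℕ} (h : (r, s) ∈ ([(8, 10), (8, 1), (3, 10), (3, 1)] : List (ℕ × ℕ)))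
    (t u : K) : Commute (xg c2 r t) (xg c2 s u) := by
  obtain ⟨h1, h2, h3, h4, h5⟩ := pairs_ok _ h
  exact TwistedTools.commute_xg c2 h1 h2 h3 h4 h5 t u

theorem rels8 : ChevalleySL2.Rels (fun t : K => xg c2 8 t) (fun t : K => xg c2 3 t) := by
  have h := ChevalleyRankOne.rels c2 (F := K) (r := 8) (by decide +kernel)
  rwa [root_facts.1] at h

theorem rels10 : ChevalleySL2.Rels (fun t : K => xg c2 10 t) (fun t : K => xg c2 1 t) := by
  have h := ChevalleyRankOne.rels c2 (F := K) (r := 10) (by decide +kernel)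
  rwa [root_facts.2.1] at h

/-- the two rank one homomorphisms, the first twisted by the field endomorphism -/
noncomputable def phi8 : SL(2, K) →* GL chevG2.Idx K :=
  (ChevalleySL2.phi rels8).comp (SpecialLinearGroup.map θ)

/-- the second rank one homomorphism -/
noncomputable def phi10 : SL(2, K) →* GL chevG2.Idx K := ChevalleySL2.phi rels10

theorem commute_phi (g h : SL(2, K)) : Commute (phi8 θ g) (phi10 h) := by
  have h8 : phi8 θ g ∈ Subgroup.closure
      (Set.range (fun t : K => xg c2 8 t) ∪ Set.range fun t : K => xg c2 3 t) := by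
    rw [← ChevalleySL2.range_phi rels8]; exact ⟨_, rfl⟩
  have h10 : phi10 h ∈ Subgroup.closure
      (Set.range (fun t : K => xg c2 10 t) ∪ Set.range fun t : K => xg c2 1 t) := by
    rw [← ChevalleySL2.range_phi rels10]; exact ⟨_, rfl⟩
  have hle : Subgroup.closure (Set.range (fun t : K => xg c2 8 t) ∪ Set.range fun t : K => xg c2 3 t) ≤
      Subgroup.centralizer (Subgroup.closure (Set.range (fun t : K => xg c2 10 t) ∪
        Set.range fun t : K => xg c2 1 t) : Set (GL chevG2.Idx K)) := by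
    rw [Subgroup.closure_le]
    intro a ha
    rw [SetLike.mem_coe, Subgroup.centralizer_closure, Subgroup.mem_centralizer_iff]
    rintro b (⟨u, rfl⟩ | ⟨u, rfl⟩) <;> rcases ha with ⟨t, rfl⟩ | ⟨t, rfl⟩ <;>
      exact (comm (by decide) t u).eq.symm
  exact ((Subgroup.mem_centralizer_iff.1 (hle h8)) _ h10).symm

/-- the map to `²G₂(q)` -/
noncomputable def psi : SL(2, K) →* GL chevG2.Idx K where
  toFun g := phi8 θ g * phi10 g
  map_one' := by simp
  map_mul' g h := by
    rw [map_mul, map_mul]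
    calc phi8 θ g * phi8 θ h * (phi10 g * phi10 h)
        = phi8 θ g * (phi8 θ h * phi10 g) * phi10 h := by group
      _ = phi8 θ g * (phi10 g * phi8 θ h) * phi10 h := by rw [(commute_phi θ h g).eq]
      _ = _ := by group

theorem upper_coe (t : K) :
    (ChevalleySL2.upper t : Matrix (Fin 2) (Fin 2) K) = !![1, t; 0, 1] := rfl

theorem lower_coe (t : K) :
    (ChevalleySL2.lower t : Matrix (Fin 2) (Fin 2) K) = !![1, 0; t, 1] := rfl

theorem upper_mul (s t : K) :
    ChevalleySL2.upper s * ChevalleySL2.upper t = ChevalleySL2.upper (s + t) := by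
  apply Subtype.ext
  rw [Matrix.SpecialLinearGroup.coe_mul, upper_coe, upper_coe, upper_coe, Matrix.mul_fin_two]
  congr 1
  simp [add_comm]

theorem upper_zero : ChevalleySL2.upper (0 : K) = 1 := by
  apply Subtype.ext
  rw [upper_coe, Matrix.SpecialLinearGroup.coe_one, Matrix.one_fin_two]

theorem upper_inv (t : K) : (ChevalleySL2.upper t)⁻¹ = ChevalleySL2.upper (-t) :=
  inv_eq_of_mul_eq_one_right (by rw [upper_mul, add_neg_cancel, upper_zero])

theorem map_upper (t : K) : SpecialLinearGroup.map θ (ChevalleySL2.upper t) =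
    ChevalleySL2.upper (θ t) := by
  apply Subtype.ext
  show (θ.mapMatrix (ChevalleySL2.upper t : Matrix (Fin 2) (Fin 2) K)) = _
  rw [upper_coe, upper_coe]
  ext i j
  fin_cases i <;> fin_cases j <;> simp

theorem map_lower (t : K) : SpecialLinearGroup.map θ (ChevalleySL2.lower t) =
    ChevalleySL2.lower (θ t) := by
  apply Subtype.ext
  show (θ.mapMatrix (ChevalleySL2.lower t : Matrix (Fin 2) (Fin 2) K)) = _
  rw [lower_coe, lower_coe]
  ext i j
  fin_cases i <;> fin_cases j <;> simp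

theorem psi_upper (t : K) :
    psi θ (ChevalleySL2.upper t) = xg c2 8 (θ t) * xg c2 10 t := by
  show phi8 θ _ * phi10 _ = _
  rw [phi8, MonoidHom.comp_apply, map_upper, phi10]
  exact congrArg₂ (· * ·) (ChevalleySL2.phi_upper rels8 (θ t)) (ChevalleySL2.phi_upper rels10 t)

theorem psi_lower (t : K) :
    psi θ (ChevalleySL2.lower t) = xg c2 3 (θ t) * xg c2 1 t := by
  show phi8 θ _ * phi10 _ = _
  rw [phi8, MonoidHom.comp_apply, map_lower, phi10]
  exact congrArg₂ (· * ·) (ChevalleySL2.phi_lower rels8 (θ t)) (ChevalleySL2.phi_lower rels10 t)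

theorem psi_upper_mem_U (t : K) : psi θ (ChevalleySL2.upper t) ∈ chevG2.posUnipotent K := by
  rw [psi_upper]
  exact mul_mem (ChevalleyUnipotent.xg_mem_U c2 (by decide +kernel) (by decide +kernel) _)
    (ChevalleyUnipotent.xg_mem_U c2 (by decide +kernel) (by decide +kernel) _)

theorem psi_lower_mem_V (t : K) : psi θ (ChevalleySL2.lower t) ∈ chevG2.negUnipotent K := by
  rw [psi_lower]
  exact mul_mem (ChevalleyUnipotent.xg_mem_V c2 (by decide +kernel) _)
    (ChevalleyUnipotent.xg_mem_V c2 (by decide +kernel) _)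

theorem psi_upper_eq_one {t : K} (h : psi θ (ChevalleySL2.upper t) = 1) : t = 0 := by
  by_contra ht
  rw [psi_upper, mul_eq_one_iff_eq_inv, xg_inv] at h
  have h2 := ChevBruhatInstance.xg_injective c2 (by decide +kernel) (by decide +kernel)
    ((map_ne_zero θ).2 ht) h
  exact absurd h2.1 (by norm_num)

theorem lower_zero_of_ker {g : SL(2, K)} (hg : psi θ g = 1) :
    (g : Matrix (Fin 2) (Fin 2) K) 1 0 = 0 := by
  by_contra hc
  set a := (g : Matrix (Fin 2) (Fin 2) K) 0 0 with ha
  set c := (g : Matrix (Fin 2) (Fin 2) K) 1 0 with hc'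
  obtain ⟨u, hu⟩ : ∃ u, u = ChevalleySL2.upper (-(a / c)) := ⟨_, rfl⟩
  obtain ⟨g', hg'⟩ : ∃ g', g' = u * g * u⁻¹ := ⟨_, rfl⟩
  have hg'1 : psi θ g' = 1 := by rw [hg', map_mul, map_mul, hg, mul_one, map_inv, mul_inv_cancel]
  have hmat : (g' : Matrix (Fin 2) (Fin 2) K) =
      !![1, -(a / c); 0, 1] * (g : Matrix (Fin 2) (Fin 2) K) * !![1, a / c; 0, 1] := by
    rw [hg', hu, upper_inv, neg_neg, Matrix.SpecialLinearGroup.coe_mul,
      Matrix.SpecialLinearGroup.coe_mul, upper_coe, upper_coe]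
  have h00 : (g' : Matrix (Fin 2) (Fin 2) K) 0 0 = 0 := by
    rw [hmat, Matrix.eta_fin_two (g : Matrix (Fin 2) (Fin 2) K), Matrix.mul_fin_two,
      Matrix.mul_fin_two]
    simp [← ha, ← hc']
    field_simp
    ring
  have h10 : (g' : Matrix (Fin 2) (Fin 2) K) 1 0 = c := by
    rw [hmat, Matrix.eta_fin_two (g : Matrix (Fin 2) (Fin 2) K), Matrix.mul_fin_two,
      Matrix.mul_fin_two]
    simp [← hc']
  have hkey : g' * ChevalleySL2.upper 1 = ChevalleySL2.lower (-c ^ 2) * g' := by
    have hd := g'.det_coe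
    rw [Matrix.det_fin_two, h00, h10] at hd
    apply Subtype.ext
    rw [Matrix.SpecialLinearGroup.coe_mul, Matrix.SpecialLinearGroup.coe_mul, upper_coe, lower_coe]
    ext i j
    fin_cases i <;> fin_cases j <;>
      simp [Matrix.mul_apply, Fin.sum_univ_two, h00, h10]
    linear_combination (-c) * hd
  have h := congrArg (psi θ) hkey
  rw [map_mul, map_mul, hg'1, one_mul, mul_one] at h
  have h1 : psi θ (ChevalleySL2.upper (1 : K)) ∈
      chevG2.borelSubgroup K ⊓ chevG2.negUnipotent K :=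
    ⟨Subgroup.mem_sup_left (psi_upper_mem_U θ 1), h ▸ psi_lower_mem_V θ _⟩
  rw [ChevalleyTorus.B_inf_V c2, Subgroup.mem_bot] at h1
  exact one_ne_zero (psi_upper_eq_one θ h1)

theorem ker_psi (h2 : (2 : K) ≠ 0) : (psi θ).ker ≤ Subgroup.center SL(2, K) := by
  intro g hg
  have hg1 : psi θ g = 1 := hg
  have hc := lower_zero_of_ker θ hg1
  have hd := g.det_coe
  rw [Matrix.det_fin_two, hc, mul_zero, sub_zero] at hd
  set a := (g : Matrix (Fin 2) (Fin 2) K) 0 0 with ha
  set b := (g : Matrix (Fin 2) (Fin 2) K) 0 1 with hb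
  set d := (g : Matrix (Fin 2) (Fin 2) K) 1 1 with hd'
  have hkey : g * ChevalleySL2.upper 1 = ChevalleySL2.upper (a ^ 2) * g := by
    apply Subtype.ext
    rw [Matrix.SpecialLinearGroup.coe_mul, Matrix.SpecialLinearGroup.coe_mul, upper_coe, upper_coe]
    ext i j
    fin_cases i <;> fin_cases j <;>
      simp [Matrix.mul_apply, Fin.sum_univ_two, hc, ← ha, ← hb, ← hd']
    linear_combination (-a) * hd
  have h := congrArg (psi θ) hkey
  rw [map_mul, map_mul, hg1, one_mul, mul_one] at h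
  have ha2 : a ^ 2 = 1 := by
    have h3 : psi θ (ChevalleySL2.upper (a ^ 2 + -1)) = 1 := by
      rw [← upper_mul, ← upper_inv, map_mul, map_inv, h, mul_inv_cancel]
    linear_combination psi_upper_eq_one θ h3
  have had : d = a := by linear_combination a * hd - d * ha2
  set s : SL(2, K) := ⟨!![a, 0; 0, a], by rw [Matrix.det_fin_two_of]; linear_combination ha2⟩
    with hs
  have hsc : (s : Matrix (Fin 2) (Fin 2) K) = !![a, 0; 0, a] := rfl
  have hscen : s ∈ Subgroup.center SL(2, K) := by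
    rw [Subgroup.mem_center_iff]
    intro x
    apply Subtype.ext
    rw [Matrix.SpecialLinearGroup.coe_mul, Matrix.SpecialLinearGroup.coe_mul, hsc]
    ext i j
    fin_cases i <;> fin_cases j <;>
      simp [Matrix.mul_apply, Fin.sum_univ_two, mul_comm]
  have hsplit : g = s * ChevalleySL2.upper (a * b) := by
    apply Subtype.ext
    rw [Matrix.SpecialLinearGroup.coe_mul, upper_coe, hsc]
    ext i j
    fin_cases i <;> fin_cases j <;>
      simp [Matrix.mul_apply, Fin.sum_univ_two, hc, ← ha, ← hb, ← hd', had]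
    linear_combination -b * ha2
  have hs2 : s * s = 1 := by
    apply Subtype.ext
    rw [Matrix.SpecialLinearGroup.coe_mul, hsc, Matrix.SpecialLinearGroup.coe_one,
      Matrix.mul_fin_two, Matrix.one_fin_two]
    ext i j
    fin_cases i <;> fin_cases j <;> simp [← pow_two, ha2]
  have hb0 : a * b = 0 := by
    have h4 : psi θ (ChevalleySL2.upper (a * b)) = (psi θ s)⁻¹ := by
      rw [hsplit, map_mul] at hg1
      exact eq_inv_of_mul_eq_one_right hg1
    have h5 : psi θ (ChevalleySL2.upper (2 * (a * b))) = 1 := by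
      rw [two_mul, ← upper_mul, map_mul, h4, ← _root_.mul_inv_rev, ← map_mul, hs2, map_one, inv_one]
    exact (mul_eq_zero.1 (psi_upper_eq_one θ h5)).resolve_left h2
  rw [hsplit, hb0, upper_zero, mul_one]
  exact hscen

theorem pair_even : ∀ s : Fin chevG2.nroots,
    Even (chevG2.pairing 8 s.val + chevG2.pairing 10 s.val) := by decide +kernel

theorem map_wel : SpecialLinearGroup.map θ (ChevalleySL2.wel : SL(2, K)) = ChevalleySL2.wel := by
  apply Subtype.ext
  show (θ.mapMatrix (!![0, 1; -1, 0] : Matrix (Fin 2) (Fin 2) K)) = !![0, 1; -1, 0]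
  ext i j
  fin_cases i <;> fin_cases j <;> simp

theorem psi_wel_sq : psi θ (ChevalleySL2.wel * ChevalleySL2.wel) = 1 := by
  have h8 : phi8 θ (ChevalleySL2.wel * ChevalleySL2.wel) = hg c2 8 (-1 : K) := by
    rw [phi8, MonoidHom.comp_apply, map_mul, map_wel, map_mul]
    have h := ChevalleySL2.nn_sq (rels8 (K := K))
    rw [show ChevalleySL2.phi (rels8 (K := K)) ChevalleySL2.wel = _ from
      ChevalleySL2.phi_wel (rels8 (K := K)), h]
    simp only [ChevalleySL2.hh, ChevalleySL2.nn, hg, ng, root_facts.1]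
  have h10 : phi10 (ChevalleySL2.wel * ChevalleySL2.wel) = hg c2 10 (-1 : K) := by
    rw [phi10, map_mul]
    have h := ChevalleySL2.nn_sq (rels10 (K := K))
    rw [show ChevalleySL2.phi (rels10 (K := K)) ChevalleySL2.wel = _ from
      ChevalleySL2.phi_wel (rels10 (K := K)), h]
    simp only [ChevalleySL2.hh, ChevalleySL2.nn, hg, ng, root_facts.2.1]
  show phi8 θ _ * phi10 _ = 1
  rw [h8, h10]
  apply Units.ext
  rw [Units.val_mul, coe_hg_eq c2 (by decide +kernel) (by norm_num : (-1 : K) ≠ 0),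
    coe_hg_eq c2 (by decide +kernel) (by norm_num : (-1 : K) ≠ 0), hDiag, hDiag,
    Matrix.diagonal_mul_diagonal, Units.val_one, ← Matrix.diagonal_one]
  refine congrArg Matrix.diagonal (funext fun x => ?_)
  rcases x with i | s
  · simp
  · simp only [Sum.elim_inr, ← zpow_add₀ (by norm_num : (-1 : K) ≠ 0)]
    exact (pair_even s).neg_one_zpow

theorem center_le_ker : Subgroup.center SL(2, K) ≤ (psi θ).ker := by
  intro g hg
  obtain ⟨r, hr, hgr⟩ := Matrix.SpecialLinearGroup.mem_center_iff.1 hg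
  simp only [Fintype.card_fin] at hr
  rcases sq_eq_one_iff.1 hr with rfl | rfl
  · have : g = 1 := Subtype.ext (by rw [← hgr]; simp)
    rw [this]
    exact one_mem _
  · have : g = ChevalleySL2.wel * ChevalleySL2.wel := Subtype.ext (by
      rw [← hgr, Matrix.SpecialLinearGroup.coe_mul]
      ext i j
      fin_cases i <;> fin_cases j <;> simp [ChevalleySL2.wel, Matrix.mul_apply, Fin.sum_univ_two])
    rw [this]
    exact psi_wel_sq θ

theorem upper_mem {e : ℕ} (hθ : ∀ t, θ t = t ^ e) (he : e ≠ 0) (t : K) :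
    psi θ (ChevalleySL2.upper t) ∈ twistedG2 K e ∧ psi θ (ChevalleySL2.lower t) ∈ twistedG2 K e := by
  have h0 : (0 : K) ^ (e + 1) = 0 ∧ (0 : K) ^ (2 * e + 1) = 0 ∧ (0 : K) ^ e = 0 :=
    ⟨zero_pow (by omega), zero_pow (by omega), zero_pow he⟩
  constructor
  · have h := TwistedTools.mem_gen c2 (A := g2Words K e)
      (w := reeWordU e 0 t 0) ⟨0, t, 0, Or.inl rfl⟩
    simp only [reeWordU, TwistedTools.wg_cons, TwistedTools.wg_nil, h0.1, h0.2.1, h0.2.2, zero_add,
      xg_zero, one_mul, mul_one, g2ab, g2aaab] at h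
    rw [psi_upper, hθ]
    exact h
  · have h := TwistedTools.mem_gen c2 (A := g2Words K e)
      (w := reeWordV e 0 (-t) 0) ⟨0, -t, 0, Or.inr rfl⟩
    have hn : chevG2.negIdx.getD g2ab 0 = 3 ∧ chevG2.negIdx.getD g2aaab 0 = 1 := by decide +kernel
    have hm : -((-t) ^ e) = t ^ e := by rw [← hθ, ← hθ, map_neg, neg_neg]
    simp only [reeWordV, ChevalleyDatum.negWord, List.map_cons, List.map_nil, reeWordU,
      TwistedTools.wg_cons, TwistedTools.wg_nil, h0.1, h0.2.1, h0.2.2, zero_add,
      xg_zero, one_mul, mul_one, hn.1, hn.2, neg_neg, neg_zero, hm] at h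
    rw [psi_lower, hθ]
    exact h

theorem range_le {e : ℕ} (hθ : ∀ t, θ t = t ^ e) (he : e ≠ 0) :
    (psi θ).range ≤ twistedG2 K e := by
  rintro _ ⟨g, rfl⟩
  have hg : g ∈ Submonoid.closure
      (Set.range (ChevalleySL2.upper : K → SL(2, K)) ∪ {ChevalleySL2.wel}) := by
    rw [ChevalleySL2.gen_top]; exact Submonoid.mem_top _
  induction hg using Submonoid.closure_induction with
  | mem a ha =>
    rcases ha with ⟨t, rfl⟩ | rfl
    · exact (upper_mem θ hθ he t).1
    · have : (ChevalleySL2.wel : SL(2, K)) =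
          ChevalleySL2.upper 1 * ChevalleySL2.lower (-1) * ChevalleySL2.upper 1 := by
        apply Subtype.ext
        simp only [Matrix.SpecialLinearGroup.coe_mul, upper_coe, lower_coe, Matrix.mul_fin_two]
        ext i j
        fin_cases i <;> fin_cases j <;> simp [ChevalleySL2.wel]
      rw [this, map_mul, map_mul]
      exact mul_mem (mul_mem (upper_mem θ hθ he 1).1 (upper_mem θ hθ he _).2)
        (upper_mem θ hθ he 1).1
  | one => rw [map_one]; exact one_mem _
  | mul a b _ _ ha hb => rw [map_mul]; exact mul_mem ha hb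

/-- `PSL₂(q)` embeds in `²G₂(q)` -/
theorem exists_psl_hom {e : ℕ} (hθ : ∀ t, θ t = t ^ e) (he : e ≠ 0) (h2 : (2 : K) ≠ 0) :
    ∃ φ : Matrix.ProjectiveSpecialLinearGroup (Fin 2) K →* ↥(twistedG2 K e),
      Function.Injective φ ∧
      ∀ g : SL(2, K), (φ (QuotientGroup.mk g) : GL chevG2.Idx K) = psi θ g := by
  refine ⟨QuotientGroup.lift _ ((psi θ).codRestrict _ fun g => range_le θ hθ he ⟨g, rfl⟩) ?_,
    ?_, fun g => rfl⟩
  · intro g hg
    exact Subtype.ext (center_le_ker θ hg)
  · rw [← MonoidHom.ker_eq_bot_iff, eq_bot_iff]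
    intro x hx
    obtain ⟨g, rfl⟩ := QuotientGroup.mk_surjective x
    rw [Subgroup.mem_bot, QuotientGroup.eq_one_iff]
    exact ker_psi θ h2 (congrArg Subtype.val (MonoidHom.mem_ker.1 hx))

end Cfsg.Agent.ReeSL2
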