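import Cfsg.Agent.Lib.SylowGLTorus
import Cfsg.Agent.Lib.ReeSL2

/-!
Cyclic Sylow subgroups from linear groups: one cyclotomic block in `GL_n(q)`, and elements of
`SL₂(q)` of order the `p`-part of `q ± 1`.
-/

set_option autoImplicit false

namespace Cfsg.Agent.ReeSylowAux

open scoped MatrixGroups

variable {F : Type*} [Field F] [Fintype F] {q : ℕ} {p : ℕ} [hp : Fact p.Prime]

/-- The `p`-part of a cyclotomic exponent. -/
theorem expA_eq (hq : 1 < q) (hpq : ¬ p ∣ q) :
    (q ^ orderOf (q : ZMod p) - 1).factorization p = SylowGLTorus.expA p q := rfl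

/-- A `p`-subgroup of `GL_n(q)` is cyclic when the order of `q` modulo `p` exceeds `n / 2`. -/
theorem isCyclic_of_hom {A : Type*} [Group A] [Finite A] (hA : IsPGroup p A) {n : ℕ}
    (f : A →* GL (Fin n) F) (hf : Function.Injective f) (hq : Fintype.card F = q) (hpq : ¬ p ∣ q)
    (hn : n / orderOf (q : ZMod p) = 1) (hn' : n < p * orderOf (q : ZMod p)) : IsCyclic A := by
  obtain ⟨P, hP⟩ := (hA.of_surjective f.rangeRestrict f.rangeRestrict_surjective).exists_le_sylow
  obtain ⟨t, ht⟩ := SylowGLTorus.exists_torus (r := p) hq hpq n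
  have hcard : Nat.card (Fin (n / orderOf (q : ZMod p)) →
      Multiplicative (ZMod (p ^ SylowGLTorus.expA p q))) =
        p ^ (Nat.card (GL (Fin n) F)).factorization p := by
    rw [Nat.card_fun, Nat.card_congr Multiplicative.toAdd, Nat.card_zmod, Nat.card_fin,
      SylowGLTorus.factorization_card_GL' hq hn' hpq, hn, pow_one, one_mul]
  obtain ⟨e⟩ := SylowGLTorus.nonempty_equiv_of_injective t ht hcard P
  have hcyc : IsCyclic (Fin (n / orderOf (q : ZMod p)) →
      Multiplicative (ZMod (p ^ SylowGLTorus.expA p q))) := by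
    let ev : (Fin (n / orderOf (q : ZMod p)) → Multiplicative (ZMod (p ^ SylowGLTorus.expA p q))) →*
        Multiplicative (ZMod (p ^ SylowGLTorus.expA p q)) := Pi.evalMonoidHom _ ⟨0, by omega⟩
    refine isCyclic_of_injective ev fun x y h => funext fun k => ?_
    have hk : k = ⟨0, by omega⟩ := Fin.ext (by have := k.isLt; omega)
    rw [hk]; exact h
  have hPc : IsCyclic ↥(P : Subgroup (GL (Fin n) F)) :=
    isCyclic_of_injective e.toMonoidHom e.injective
  let g : A →* ↥(P : Subgroup (GL (Fin n) F)) :=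
    f.codRestrict _ fun a => hP ⟨a, rfl⟩
  exact isCyclic_of_injective g fun x y h => hf (congrArg Subtype.val h)

/-- An element of `SL₂(q)` of order the `p`-part of `q ± 1`. -/
theorem exists_sl2_elt (hq : Fintype.card F = q) (hp2 : p ≠ 2) (hpq : ¬ p ∣ q)
    (hd : orderOf (q : ZMod p) ≤ 2) :
    ∃ g : SL(2, F), orderOf g = p ^ (q ^ orderOf (q : ZMod p) - 1).factorization p := by
  classical
  have hq1 : 1 < q := hq ▸ Fintype.one_lt_card
  rw [expA_eq hq1 hpq]
  set a := SylowGLTorus.expA p q with ha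
  have hd0 := SylowGLTorus.ord_pos (r := p) hpq
  set d := orderOf (q : ZMod p) with hdd
  obtain ⟨φ, hφ⟩ := SylowGLTorus.exists_cyclic_block (r := p) hq hpq
  rcases (show d = 1 ∨ d = 2 by omega) with h1 | h2
  · have e : Fintype.card Fˣ = q - 1 := by rw [Fintype.card_units, hq]
    have hdvd : p ^ a ∣ Nat.card Fˣ := by
      rw [Nat.card_eq_fintype_card, e]
      have hA : a = (q ^ d - 1).factorization p := rfl
      rw [h1, pow_one] at hA
      rw [hA]
      exact Nat.ordProj_dvd _ _
    obtain ⟨u, hu⟩ := IsCyclic.exists_ofOrder_eq_natCard (α := Fˣ)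
    have hω : orderOf (u ^ (Nat.card Fˣ / p ^ a)) = p ^ a := by
      have h0 : Nat.card Fˣ / p ^ a ≠ 0 :=
        Nat.div_ne_zero_iff.2 ⟨(pow_ne_zero _ hp.out.ne_zero),
          Nat.le_of_dvd Nat.card_pos hdvd⟩
      rw [orderOf_pow_of_dvd h0 (by rw [hu]; exact Nat.div_dvd_of_dvd hdvd), hu,
        Nat.div_div_self hdvd Nat.card_pos.ne']
    set w := u ^ (Nat.card Fˣ / p ^ a) with hw
    let D : Fˣ →* SL(2, F) :=
      { toFun := fun x => ⟨!![(x : F), 0; 0, ((x⁻¹ : Fˣ) : F)], by
          rw [Matrix.det_fin_two_of]; simp⟩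
        map_one' := Subtype.ext (by
          rw [Matrix.SpecialLinearGroup.coe_one, Matrix.one_fin_two]; simp)
        map_mul' := fun x y => Subtype.ext (by
          show _ = !![(x : F), 0; 0, ((x⁻¹ : Fˣ) : F)] * !![(y : F), 0; 0, ((y⁻¹ : Fˣ) : F)]
          rw [Matrix.mul_fin_two]; simp [mul_comm]) }
    refine ⟨D w, ?_⟩
    rw [orderOf_injective D (fun x y h => Units.ext ?_) w, hω]
    exact congrFun (congrFun (congrArg Subtype.val h) 0) 0
  · have hgen : orderOf (φ (Multiplicative.ofAdd 1)) = p ^ a := by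
      rw [orderOf_injective φ hφ, orderOf_ofAdd_eq_addOrderOf, ZMod.addOrderOf_one]
    let e : GL (Fin d) F ≃* GL (Fin 2) F :=
      Units.mapEquiv (Matrix.reindexAlgEquiv F F (finCongr h2)).toMulEquiv
    set M := e (φ (Multiplicative.ofAdd 1)) with hM
    have hMo : orderOf M = p ^ a := by rw [hM, MulEquiv.orderOf_eq, hgen]
    have hdet : Matrix.GeneralLinearGroup.det M = 1 := by
      have h3 : orderOf (Matrix.GeneralLinearGroup.det M) ∣ p ^ a :=
        hMo ▸ orderOf_map_dvd _ M
      have h4 : orderOf (Matrix.GeneralLinearGroup.det M) ∣ q - 1 := by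
        have := orderOf_dvd_card (x := Matrix.GeneralLinearGroup.det M)
        rwa [Fintype.card_units, hq] at this
      have hcop : Nat.Coprime p (q - 1) := by
        rw [hp.out.coprime_iff_not_dvd]
        intro hdiv
        have := (SylowGLTorus.dvd_pow_sub_one_iff (r := p) (by omega : 0 < q) 1).1 (by simpa using hdiv)
        have := Nat.le_of_dvd one_pos this
        omega
      rw [← orderOf_eq_one_iff]
      exact Nat.eq_one_of_dvd_coprimes (hcop.pow_left a) h3 h4
    let s : SL(2, F) := ⟨(M : Matrix (Fin 2) (Fin 2) F), congrArg Units.val hdet⟩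
    refine ⟨s, ?_⟩
    have hs : Matrix.SpecialLinearGroup.toGL s = M := Units.ext rfl
    rw [← orderOf_injective (Matrix.SpecialLinearGroup.toGL (n := Fin 2) (R := F))
      (fun x y h => Subtype.ext (congrArg Units.val h)) s, hs, hMo]

end Cfsg.Agent.ReeSylowAux
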