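import Cfsg.Agent.Lib.ReeInstance17
import Cfsg.Agent.Lib.ReeSylowAux

/-!
Sylow subgroups of `²G₂(q)`: the 3-subgroups form a TI family; those for `p > 3` are cyclic.
-/

set_option autoImplicit false
set_option maxRecDepth 20000

namespace Cfsg.Agent.ReeSylow17

open Cfsg.Lie Cfsg.Agent.ChevBruhat Cfsg.Agent.ReeSL2 Cfsg.Agent.ChevExcGraphData
open Cfsg.Agent.ReeInstance17 Cfsg.Agent.ReeInstance17.Ctx
open scoped MatrixGroups Pointwise

variable {K : Type*} [Field K] [Fintype K] [CharP K 3] (X : Ctx K)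

include X in
theorem conj_U {b x : GL chevG2.Idx K} (hb : b ∈ chevG2.borelSubgroup K)
    (hx : x ∈ chevG2.posUnipotent K) : b * x * b⁻¹ ∈ chevG2.posUnipotent K := by
  obtain ⟨h, hh, u, hu, rfl⟩ := X.tw.S.mem_B_iff.mp hb
  have := X.tw.S.H_conj_U hh (mul_mem (mul_mem hu hx) (inv_mem hu))
  have e : h * u * x * (h * u)⁻¹ = h * (u * x * u⁻¹) * h⁻¹ := by group
  rw [e]; exact this

/-- A non-trivial element of `U¹` lies in no other conjugate of `U¹`. -/
theorem mem_B_of_conj {g x y : GL chevG2.Idx K} (hg : g ∈ X.G1)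
    (hx : x ∈ chevG2.posUnipotent K ⊓ X.G1) (hx1 : x ≠ 1)
    (hy : y ∈ chevG2.posUnipotent K ⊓ X.G1) (he : g * y * g⁻¹ = x) :
    g ∈ chevG2.borelSubgroup K := by
  rcases X.form hg with h | ⟨b, hb, u, hu, rfl⟩
  · exact h.1
  exfalso
  have hz : u * y * u⁻¹ ∈ chevG2.posUnipotent K := mul_mem (mul_mem hu.1 hy.1) (inv_mem hu.1)
  obtain ⟨hN, hw⟩ := X.cn_toW
  have hV := X.tw.S.conj_Uw_mem_V ⟨_, hN⟩ (u := u * y * u⁻¹) (by rw [hw, X.Uw_cl]; exact hz)
  have hU : (cn : GL chevG2.Idx K) * (u * y * u⁻¹) * (cn : GL chevG2.Idx K)⁻¹ ∈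
      chevG2.posUnipotent K := by
    have h1 := conj_U X (inv_mem hb.1) hx.1
    rw [← he] at h1
    have e : b⁻¹ * (b * cn * u * y * (b * cn * u)⁻¹) * b⁻¹⁻¹ =
        (cn : GL chevG2.Idx K) * (u * y * u⁻¹) * (cn : GL chevG2.Idx K)⁻¹ := by group
    rwa [e] at h1
  have h2 := Subgroup.mem_inf.mpr ⟨Sys.U_le_B (D := chevG2) (F := K) hU, hV⟩
  rw [X.tw.S.B_inf_V, Subgroup.mem_bot, conj_eq_one_iff, conj_eq_one_iff] at h2
  exact hx1 (by rw [← he, h2]; group)

/-- `U¹` inside the group -/
abbrev U0 : Subgroup ↥X.G1 := (chevG2.posUnipotent K ⊓ X.G1).subgroupOf X.G1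

theorem card_U0 : Nat.card ↥(U0 X) = Fintype.card K ^ 3 := by
  rw [Nat.card_congr (Subgroup.subgroupOfEquivOfLe inf_le_right).toEquiv, X.card_U1]

theorem three_not_dvd {m : ℕ} (hK : Fintype.card K = 3 ^ (2 * m + 1)) :
    ¬ 3 ∣ Fintype.card K - 1 ∧ ¬ 3 ∣ 1 + Fintype.card K ^ 3 := by
  have h : 3 ∣ Fintype.card K := hK ▸ dvd_pow_self 3 (Nat.succ_ne_zero _)
  have h1 : 1 < Fintype.card K := Fintype.one_lt_card
  refine ⟨fun h2 => ?_, fun h2 => ?_⟩
  · omega
  · have h3 : 3 ∣ Fintype.card K ^ 3 := h.trans (dvd_pow_self _ (by norm_num))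
    omega

theorem factorization_G1 {p : ℕ} (hp : p.Prime) (n : ℕ)
    (h : ((Fintype.card K - 1) * Fintype.card K ^ 3 * (1 + Fintype.card K ^ 3)).factorization p
      = n) : (Nat.card ↥X.G1).factorization p ≤ n := by
  have h1 : 1 < Fintype.card K := Fintype.one_lt_card
  rw [← h]
  refine (Nat.factorization_le_iff_dvd Nat.card_pos.ne' ?_).2 X.card_G1_dvd p
  exact mul_ne_zero (mul_ne_zero (by omega) (pow_ne_zero _ (by omega))) (by omega)

theorem sylow3_inter {m : ℕ} (hK : Fintype.card K = 3 ^ (2 * m + 1))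
    (P Q : Sylow 3 ↥X.G1) (hPQ : P ≠ Q) : (P : Subgroup ↥X.G1) ⊓ (Q : Subgroup ↥X.G1) = ⊥ := by
  haveI : Fact (Nat.Prime 3) := ⟨Nat.prime_three⟩
  obtain ⟨h3a, h3b⟩ := three_not_dvd hK
  have hfac : (Nat.card ↥X.G1).factorization 3 = (2 * m + 1) * 3 := by
    have h1 : 1 < Fintype.card K := Fintype.one_lt_card
    rw [X.card_G1, Nat.factorization_mul (mul_ne_zero Nat.card_pos.ne' (pow_ne_zero _ (by omega)))
      (by omega), Nat.factorization_mul Nat.card_pos.ne' (pow_ne_zero _ (by omega))]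
    simp only [Finsupp.add_apply]
    rw [Nat.factorization_eq_zero_of_not_dvd fun h => h3a (h.trans X.card_H1_dvd),
      Nat.factorization_eq_zero_of_not_dvd h3b, hK, ← pow_mul]
    simp [Nat.prime_three.factorization_self]
  let S0 : Sylow 3 ↥X.G1 := Sylow.ofCard (U0 X) (by rw [card_U0, hfac, hK, ← pow_mul])
  obtain ⟨g, rfl⟩ := MulAction.exists_smul_eq ↥X.G1 S0 P
  obtain ⟨g', rfl⟩ := MulAction.exists_smul_eq ↥X.G1 S0 Q
  by_contra hne
  obtain ⟨⟨x, hxP, hxQ⟩, hx1⟩ := Subgroup.ne_bot_iff_exists_ne_one.1 hne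
  obtain ⟨y, hy, hyx⟩ : x ∈ ((U0 X).map (MulAut.conj g).toMonoidHom) := hxP
  obtain ⟨z, hz, hzx⟩ : x ∈ ((U0 X).map (MulAut.conj g').toMonoidHom) := hxQ
  simp only [MulEquiv.coe_toMonoidHom, MulAut.conj_apply] at hyx hzx
  have hy1 : (y : GL chevG2.Idx K) ≠ 1 := by
    intro h
    apply hx1
    have : y = 1 := Subtype.ext h
    rw [this] at hyx
    exact Subtype.ext (by simpa using hyx.symm)
  have hzy : (g⁻¹ * g') * z * (g⁻¹ * g')⁻¹ = y := by
    have : g' * z * g'⁻¹ = g * y * g⁻¹ := hzx.trans hyx.symm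
    calc (g⁻¹ * g') * z * (g⁻¹ * g')⁻¹ = g⁻¹ * (g' * z * g'⁻¹) * g := by group
      _ = y := by rw [this]; group
  have hB : ((g⁻¹ * g' : ↥X.G1) : GL chevG2.Idx K) ∈ chevG2.borelSubgroup K :=
    mem_B_of_conj X (g⁻¹ * g').2 hy hy1 hz (congrArg Subtype.val hzy)
  apply hPQ
  have hfix : (g⁻¹ * g') • S0 = S0 := by
    rw [Sylow.smul_eq_iff_mem_normalizer]
    refine Subgroup.mem_normalizer_iff.2 fun w => ?_
    have key : ∀ (c w : ↥X.G1), (c : GL chevG2.Idx K) ∈ chevG2.borelSubgroup K → w ∈ U0 X →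
        c * w * c⁻¹ ∈ U0 X := fun c w hc hw => ⟨conj_U X hc hw.1, (c * w * c⁻¹).2⟩
    refine ⟨key _ w hB, fun hw => ?_⟩
    have := key (g⁻¹ * g')⁻¹ _ (by rw [InvMemClass.coe_inv]; exact inv_mem hB) hw
    have e : (g⁻¹ * g')⁻¹ * (g⁻¹ * g' * w * (g⁻¹ * g')⁻¹) * (g⁻¹ * g')⁻¹⁻¹ = w := by group
    rw [e] at this
    exact this
  conv_lhs => rw [← hfix, smul_smul, mul_inv_cancel_left]

theorem card_idx : Fintype.card (ChevExcGraph.SubIdx excG2) = 7 := by decide +kernel

theorem cyclic_p {p : ℕ} [Fact p.Prime] (hp : 3 < p) {m : ℕ}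
    (hK : Fintype.card K = 3 ^ (2 * m + 1)) (P : Sylow p ↥X.G1) :
    IsCyclic (P : Subgroup ↥X.G1) := by
  classical
  have hpp : p.Prime := Fact.out
  set q := Fintype.card K with hq
  have hq1 : 1 < q := Fintype.one_lt_card
  have hpq : ¬ p ∣ q := by
    rw [hK]
    intro h
    have := (Nat.prime_dvd_prime_iff_eq hpp Nat.prime_three).1 (hpp.dvd_of_dvd_pow h)
    omega
  by_cases hdvd : p ∣ Nat.card ↥X.G1
  swap
  · have hPc : Nat.card (P : Subgroup ↥X.G1) = 1 := by
      rw [P.card_eq_multiplicity, Nat.factorization_eq_zero_of_not_dvd hdvd, pow_zero]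
    haveI := (Nat.card_eq_one_iff_unique.1 hPc).1
    infer_instance
  have hd : orderOf (q : ZMod p) ∣ 1 ∨ orderOf (q : ZMod p) ∣ 6 ∧ p ∣ 1 + q ^ 3 := by
    rcases hpp.dvd_mul.1 (hdvd.trans X.card_G1_dvd) with h | h
    · rcases hpp.dvd_mul.1 h with h | h
      · exact Or.inl ((SylowGLTorus.dvd_pow_sub_one_iff (r := p) (by omega) 1).1 (by simpa using h))
      · exact absurd (hpp.dvd_of_dvd_pow h) hpq
    · refine Or.inr ⟨(SylowGLTorus.dvd_pow_sub_one_iff (r := p) (by omega) 6).1 ?_, h⟩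
      obtain ⟨j, hj⟩ : ∃ j, q ^ 3 = j + 1 := ⟨q ^ 3 - 1, by
        have := Nat.one_le_pow 3 q (by omega); omega⟩
      have e : q ^ 6 - 1 = j * (1 + q ^ 3) := by
        rw [show q ^ 6 = q ^ 3 * q ^ 3 by ring, hj]
        have : (j + 1) * (j + 1) = j * (1 + (j + 1)) + 1 := by ring
        omega
      rw [e]
      exact dvd_mul_of_dvd_right h _
  have hd0 := SylowGLTorus.ord_pos (r := p) hpq
  have hord : orderOf (q : ZMod p) ≤ 2 ∨ orderOf (q : ZMod p) = 6 := by
    rcases hd with h | ⟨h, h3⟩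
    · exact Or.inl (le_trans (Nat.le_of_dvd one_pos h) (by norm_num))
    · have h3' : orderOf (q : ZMod p) ≠ 3 := by
        intro e
        have h4 := pow_orderOf_eq_one (q : ZMod p)
        rw [e] at h4
        have h5 : ((1 + q ^ 3 : ℕ) : ZMod p) = 0 := (ZMod.natCast_eq_zero_iff _ _).2 h3
        push_cast at h5
        rw [h4] at h5
        have h6 : ((2 : ℕ) : ZMod p) = 0 := by push_cast; linear_combination h5
        have := Nat.le_of_dvd (by norm_num) ((ZMod.natCast_eq_zero_iff _ _).1 h6)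
        omega
      have hle := Nat.le_of_dvd (by norm_num) h
      interval_cases hh : orderOf (q : ZMod p) <;> simp_all
  rcases hord with h2 | h6
  · obtain ⟨g, hg⟩ := ReeSylowAux.exists_sl2_elt (F := K) (p := p) rfl (by omega) hpq h2
    have h2ne : (2 : K) ≠ 0 := by
      intro h
      have : ((2 : ℕ) : K) = 0 := by exact_mod_cast h
      exact absurd ((CharP.cast_eq_zero_iff K 3 2).1 this) (by norm_num)
    set a := (q ^ orderOf (q : ZMod p) - 1).factorization p with ha
    let x : ↥X.G1 := ⟨psi X.θ g, ReeSL2.range_le X.θ X.spec X.e_ne ⟨g, rfl⟩⟩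
    have hx : orderOf x = p ^ a := by
      rw [← Subgroup.orderOf_coe]
      show orderOf (psi X.θ g) = p ^ a
      refine Nat.dvd_antisymm (hg ▸ orderOf_map_dvd _ g) ?_
      have hker : g ^ orderOf (psi X.θ g) ∈ Subgroup.center SL(2, K) :=
        ker_psi X.θ h2ne (by rw [MonoidHom.mem_ker, map_pow, pow_orderOf_eq_one])
      obtain ⟨r, hr, hgr⟩ := Matrix.SpecialLinearGroup.mem_center_iff.1 hker
      simp only [Fintype.card_fin] at hr
      have hsq : g ^ (orderOf (psi X.θ g) * 2) = 1 := by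
        rw [pow_mul]
        apply Subtype.ext
        rw [Matrix.SpecialLinearGroup.coe_pow, ← hgr, ← map_pow, hr, map_one,
          Matrix.SpecialLinearGroup.coe_one]
      rw [← hg]
      refine Nat.Coprime.dvd_of_dvd_mul_right ?_ (orderOf_dvd_of_pow_eq_one hsq)
      rw [hg]
      exact Nat.Coprime.pow_left _ ((Nat.coprime_primes hpp Nat.prime_two).2 (by omega))
    have hle : (Nat.card ↥X.G1).factorization p ≤ a := by
      have hn : ∀ i, i ≠ 0 → q ^ i - 1 ≠ 0 := fun i hi => SylowGLTorus.pow_sub_one_ne_zero hq1 hi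
      refine factorization_G1 X hpp a ?_
      rw [← hq, Nat.factorization_mul (mul_ne_zero (by omega) (pow_ne_zero _ (by omega))) (by omega),
        Nat.factorization_mul (by omega) (pow_ne_zero _ (by omega))]
      simp only [Finsupp.add_apply]
      rw [Nat.factorization_eq_zero_of_not_dvd fun h => hpq (hpp.dvd_of_dvd_pow h), add_zero, ha]
      have f1 : (q - 1).factorization p = if orderOf (q : ZMod p) ∣ 1 then SylowGLTorus.expA p q
          else 0 := by
        have := SylowGLTorus.factorization_pow_sub_one (r := p) hq1 one_ne_zero (by omega)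
        simpa using this
      rcases (show orderOf (q : ZMod p) = 1 ∨ orderOf (q : ZMod p) = 2 by omega) with e | e
      · rw [f1, if_pos (by rw [e])]
        have h4 := pow_orderOf_eq_one (q : ZMod p)
        rw [e, pow_one] at h4
        rw [Nat.factorization_eq_zero_of_not_dvd (n := 1 + q ^ 3), add_zero]
        · rfl
        intro h
        have h5 : ((1 + q ^ 3 : ℕ) : ZMod p) = 0 := (ZMod.natCast_eq_zero_iff _ _).2 h
        push_cast at h5
        rw [h4] at h5
        have h6 : ((2 : ℕ) : ZMod p) = 0 := by push_cast; linear_combination h5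
        have := Nat.le_of_dvd (by norm_num) ((ZMod.natCast_eq_zero_iff _ _).1 h6)
        omega
      · rw [f1, if_neg (by rw [e]; norm_num), zero_add, e]
        obtain ⟨j, hj⟩ : ∃ j, q = j + 1 := ⟨q - 1, by omega⟩
        have e3 : 1 + q ^ 3 = (q + 1) * (j * j + j + 1) := by rw [hj]; ring
        have e2 : q ^ 2 - 1 = (q + 1) * j := by
          rw [hj]
          have : (j + 1) ^ 2 = (j + 1 + 1) * j + 1 := by ring
          omega
        have hm1 : ((q : ℕ) : ZMod p) = -1 := by
          have h4 := pow_orderOf_eq_one (q : ZMod p)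
          rw [e, _root_.sq, mul_self_eq_one_iff] at h4
          refine h4.resolve_left fun h => ?_
          rw [h, orderOf_one] at e
          exact absurd e (by norm_num)
        have hjp : (j : ZMod p) = -2 := by
          rw [hj] at hm1; push_cast at hm1; linear_combination hm1
        have hsmall : ∀ n : ℕ, 0 < n → n < 4 → (n : ZMod p) ≠ 0 := by
          intro n h0 hn4 h
          have hdn := (ZMod.natCast_eq_zero_iff _ _).1 h
          have := Nat.le_of_dvd h0 hdn
          interval_cases n <;> omega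
        have hj1 : ¬ p ∣ j := fun h => hsmall 2 (by norm_num) (by norm_num) (by
          have := (ZMod.natCast_eq_zero_iff j p).2 h; push_cast; linear_combination hjp - this)
        have hj2 : ¬ p ∣ j * j + j + 1 := fun h => hsmall 3 (by norm_num) (by norm_num) (by
          have := (ZMod.natCast_eq_zero_iff _ p).2 h
          push_cast at this ⊢
          rw [hjp] at this
          linear_combination this)
        rw [e3, e2, Nat.factorization_mul (by omega) (by positivity),
          Nat.factorization_mul (by omega) (by rintro rfl; exact hj1 (dvd_zero p))]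
        simp [Nat.factorization_eq_zero_of_not_dvd hj1, Nat.factorization_eq_zero_of_not_dvd hj2]
    have hxp : IsPGroup p (Subgroup.zpowers x) :=
      IsPGroup.of_card (n := a) (by rw [Nat.card_zpowers, hx])
    obtain ⟨Q, hQ⟩ := hxp.exists_le_sylow
    have hcard : Nat.card (Q : Subgroup ↥X.G1) ≤ Nat.card (Subgroup.zpowers x) := by
      rw [Q.card_eq_multiplicity, Nat.card_zpowers, hx]
      exact Nat.pow_le_pow_right hpp.pos hle
    have hQc : IsCyclic (Q : Subgroup ↥X.G1) := by
      rw [← Subgroup.eq_of_le_of_card_ge hQ hcard]; infer_instance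
    exact isCyclic_of_injective (P.equiv Q).toMonoidHom (P.equiv Q).injective
  · haveI : CharP K excG2.p := (inferInstance : CharP K 3)
    let S : Sys chevG2 K := ChevBruhatInstance.sys chevG2 (by simp) K
    let inn := (ChevExcGraph.inner excG2 c2 (F := K)).toHomUnits
    have hinn : Function.Injective inn := ChevExcGraph.inner_injective excG2 c2 S
    let e7 := Fintype.equivFinOfCardEq card_idx
    have hle : X.G1 ≤ chevG2.group K := fun g hg => (X.le_fixed hg).1
    let f : ↥(P : Subgroup ↥X.G1) →* GL (Fin 7) K :=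
      ((Units.mapEquiv (Matrix.reindexAlgEquiv K K e7).toMulEquiv).toMonoidHom.comp inn).comp
        ((Subgroup.inclusion hle).comp (P : Subgroup ↥X.G1).subtype)
    have hf : Function.Injective f :=
      ((Units.mapEquiv (Matrix.reindexAlgEquiv K K e7).toMulEquiv).injective.comp hinn).comp
        ((Subgroup.inclusion_injective hle).comp Subtype.val_injective)
    have h7 : 7 ≤ p := by
      have hdvd6 : 6 ∣ p - 1 := by
        rw [← h6]
        exact orderOf_dvd_of_pow_eq_one
          (ZMod.pow_card_sub_one_eq_one (SylowGLTorus.cast_ne_zero (r := p) hpq))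
      have := Nat.le_of_dvd (by omega) hdvd6
      omega
    exact ReeSylowAux.isCyclic_of_hom (q := q) P.isPGroup' f hf rfl hpq (by rw [h6]) (by rw [h6]; omega)

end Cfsg.Agent.ReeSylow17
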