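import Cfsg.Agent.Lib.SmallExcPerm

/-!
Checks connecting root elements of `G₂` with their packed tables, and membership checks in the
group generated by two packed permutations.
-/

set_option autoImplicit false

namespace Cfsg.Agent.SmallExcPerm

open Matrix Cfsg.Lie
open scoped MatrixGroups

/-- Two packed matrices are mutually inverse on one side. -/
def chkInv (p : ℕ) (S T : List ℕ) : Bool :=
  okT p S && okT p T && (List.range 14).all fun j => mvP p S (T.getD j 0) == 256 ^ j

theorem ofC_mul_eq_one {R : Type*} [CommRing R] {p : ℕ} [CharP R p] (hp : 0 < p) (hp4 : p ≤ 4)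
    {S T : List ℕ} (h : chkInv p S T = true) : ofC (R := R) S * ofC T = 1 := by
  simp only [chkInv, Bool.and_eq_true, List.all_eq_true, List.mem_range, beq_iff_eq] at h
  obtain ⟨⟨hS, hT⟩, h⟩ := h
  refine Matrix.ext fun i j => ?_
  have h1 := congrFun (mulVec_ofC (R := R) hp hp4 hS
    (List.all_eq_true.1 hT (ix j) (List.mem_range.2 (ix_lt j)))) i
  rw [h (ix j) (ix_lt j)] at h1
  refine h1.trans ?_
  have hd : ∀ i j : Co, dig 256 (256 ^ ix j) (ix i) = if i = j then 1 else 0 := by decide +kernel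
  simp only [vec, hd, Matrix.one_apply]
  split_ifs <;> simp

variable {N m : ℕ} {c d : Equiv.Perm (Fin N)} {tw sw : List (List Bool)} {tc sc : List ℕ}

/-- The code of the entry `(j, k)`. -/
def ec (N : ℕ) (tc sc : List ℕ) (x : ℕ × ℕ) : ℕ := cmp N (tc.getD x.1 0) (sc.getD x.2 0)

theorem mem_of_code (hN : N ≤ 64) (ht : chkTable N m (code c) (code d) tw sw tc sc = true)
    {σ : Equiv.Perm (Fin N)} {x : ℕ × ℕ} (hj : x.1 < N) (hk : x.2 < m)
    (h : code σ = ec N tc sc x) :
    σ = elt c d tw sw x.1 x.2 ∧ σ ∈ Subgroup.closure {c, d} := by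
  have h1 : σ = elt c d tw sw x.1 x.2 :=
    code_injective hN (h.trans (code_elt hN ht hj hk).symm)
  exact ⟨h1, h1 ▸ elt_mem _ _⟩

/-- Conjugates of `c`, `d` by a generator and its coset modulo the group generated by `c`, `d`. -/
def chkGen (N m e : ℕ) (tc sc : List ℕ) (C D X : ℕ) (g : ℕ × ℕ) (nc nd : ℕ × ℕ)
    (i : ℕ × ℕ × ℕ) : Bool :=
  decide (nc.1 < N) && decide (nc.2 < m) && decide (nd.1 < N) && decide (nd.2 < m) &&
    decide (i.2.1 < N) && decide (i.2.2 < m) && decide (i.1 < e) &&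
    cmp N (cmp N g.1 C) g.2 == ec N tc sc nc && cmp N (cmp N g.1 D) g.2 == ec N tc sc nd &&
    g.1 == (List.range i.1).foldl (fun A _ => cmp N A X) (ec N tc sc i.2)

theorem chkGen_spec (hN : N ≤ 64) (ht : chkTable N m (code c) (code d) tw sw tc sc = true)
    {x s : Equiv.Perm (Fin N)} {e : ℕ} {g nc nd : ℕ × ℕ} {i : ℕ × ℕ × ℕ}
    (hs : code s = g.1) (hs' : code s⁻¹ = g.2)
    (h : chkGen N m e tc sc (code c) (code d) (code x) g nc nd i = true) :
    s * c * s⁻¹ ∈ Subgroup.closure {c, d} ∧ s * d * s⁻¹ ∈ Subgroup.closure {c, d} ∧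
      ∃ k : ℕ, s * (x ^ k)⁻¹ ∈ Subgroup.closure {c, d} := by
  simp only [chkGen, Bool.and_eq_true, decide_eq_true_eq, beq_iff_eq] at h
  obtain ⟨⟨⟨⟨⟨⟨⟨⟨⟨h1, h2⟩, h3⟩, h4⟩, h5⟩, h6⟩, -⟩, hc⟩, hd⟩, hx⟩ := h
  refine ⟨(mem_of_code hN ht h1 h2 ?_).2, (mem_of_code hN ht h3 h4 ?_).2, i.1, ?_⟩
  · rw [code_mul hN, code_mul hN, hs, hs']; exact hc
  · rw [code_mul hN, code_mul hN, hs, hs']; exact hd
  · have key : ∀ (k : ℕ) (A : Equiv.Perm (Fin N)),
        code (A * x ^ k) = (List.range k).foldl (fun B _ => cmp N B (code x)) (code A) := by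
      intro k A
      induction k with
      | zero => simp
      | succ k ih =>
        rw [pow_succ, ← mul_assoc, code_mul hN, ih, List.range_succ, List.foldl_append]
        rfl
    have : s = elt c d tw sw i.2.1 i.2.2 * x ^ i.1 := by
      refine code_injective hN ?_
      rw [key, code_elt hN ht h5 h6, hs, hx]
      rfl
    rw [this, mul_inv_cancel_right]
    exact elt_mem _ _

/-- The code of a product of a list. -/
theorem code_prod (hN : N ≤ 64) {ι κ : Type*} (f : ι → Equiv.Perm (Fin N)) (pos : ι → κ)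
    (e : κ → ℕ) (he : ∀ i, code (f i) = e (pos i)) (L : List ι) :
    code (L.map f).prod = (L.map pos).foldl (fun A y => cmp N A (e y)) (cone N) := by
  have key : ∀ (L : List ι) (A : Equiv.Perm (Fin N)), code (A * (L.map f).prod) =
      (L.map pos).foldl (fun B y => cmp N B (e y)) (code A) := by
    intro L
    induction L with
    | nil => intro A; simp
    | cons i L ih =>
      intro A
      rw [List.map_cons, List.prod_cons, ← mul_assoc, ih, List.map_cons, List.foldl_cons,
        code_mul hN, he]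
  simpa [code_one] using key L 1

/-- A group with class representatives each of whose classes generates is simple. -/
theorem isSimpleGroup_of_cert {Q ι κ : Type*} [Group Q] [Nontrivial Q] (F : ι → Q)
    (hF : Function.Surjective F) (rep : κ → Q) (cl : ι → κ) (cj : ι → Q)
    (hcls : ∀ i, F i ≠ 1 → F i = cj i * rep (cl i) * (cj i)⁻¹)
    (gens : Set Q) (hgen : Subgroup.closure gens = ⊤)
    (hprod : ∀ i, F i ≠ 1 → ∀ z ∈ gens,
      ∃ L : List ι, (∀ l ∈ L, F l ≠ 1 ∧ cl l = cl i) ∧ z = (L.map F).prod) :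
    IsSimpleGroup Q := by
  refine ⟨fun N hN => or_iff_not_imp_left.2 fun hne => ?_⟩
  obtain ⟨⟨x, hxN⟩, hx⟩ := Subgroup.ne_bot_iff_exists_ne_one.1 hne
  obtain ⟨i, rfl⟩ := hF x
  have hi : F i ≠ 1 := fun h => hx (Subtype.ext h)
  have hrep : rep (cl i) ∈ N := by
    have := hN.conj_mem _ hxN (cj i)⁻¹
    rw [hcls i hi] at this
    simpa [mul_assoc] using this
  rw [eq_top_iff, ← hgen, Subgroup.closure_le]
  intro z hz
  obtain ⟨L, hL, rfl⟩ := hprod i hi z hz
  refine list_prod_mem fun y hy => ?_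
  obtain ⟨l, hl, rfl⟩ := List.mem_map.1 hy
  rw [hcls l (hL l hl).1, (hL l hl).2]
  exact hN.conj_mem _ hrep _

end Cfsg.Agent.SmallExcPerm
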