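import Cfsg.Prelude.Def_LieTwisted
import Cfsg.Agent.Lib.SmallExcTable
import Cfsg.Agent.Lib.SmallExcReeData

/-!
Kernel checks for the tables of `²G₂(3)`.
-/

set_option autoImplicit false

namespace Cfsg.Agent.SmallExcRee

open Matrix Cfsg.Lie Cfsg.Agent.SmallExcPerm
open scoped MatrixGroups

/-- The table of a root element. -/
def tab (x : ℕ × ZMod 3) : List ℕ := rootTab.getD (3 * x.1 + x.2.val) []

theorem x_eq_tab : ∀ r : Fin 12, ∀ t : ZMod 3,
    chevG2.x (ZMod 3) r.val t = ofC (tab (r.val, t)) := by
  decide +kernel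

theorem inv_tab : ∀ r : Fin 12, ∀ t : ZMod 3,
    chkInv 3 (tab (r.val, t)) (tab (r.val, -t)) = true := by
  decide +kernel

/-- The generating word with given parameters and side. -/
def gword (t u v : ZMod 3) (s : Bool) : List (ℕ × ZMod 3) :=
  if s then reeWordV 1 t u v else reeWordU 1 t u v

/-- The position of a generator in the tables. -/
def gpos (t u v : ZMod 3) (s : Bool) : ℕ := 2 * (9 * t.val + 3 * u.val + v.val) + s.toNat

theorem orbit_ok : chkOrbit 3 56 orbit basisIdx basisInv = true := by decide +kernel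

theorem gen_ok : ∀ t u v : ZMod 3, ∀ s : Bool,
    (gword t u v s).all (fun a => decide (a.1 < 12)) = true ∧
    okP 56 (genCodes.getD (gpos t u v s) (0, 0)) = true ∧
    (List.range 56).all (fun k => mvW 3 ((gword t u v s).map tab) (orbit.getD k 0) ==
      orbit.getD (dig 64 (genCodes.getD (gpos t u v s) (0, 0)).1 k) 0) = true := by
  decide +kernel

theorem codes_ok : okP 56 cCode = true ∧ okP 56 dCode = true ∧
    chkTable 56 9 cCode.1 dCode.1 transWords stabWords transCodes stabCodes = true ∧
    outer < 54 ∧ cPair.1 < 54 ∧ cPair.2 < 54 ∧ dPair.1 < 54 ∧ dPair.2 < 54 ∧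
    (let g := fun i => genCodes.getD i (0, 0)
     cmp 56 (cmp 56 (cmp 56 (g cPair.1).1 (g cPair.2).1) (g cPair.1).2) (g cPair.2).2 = cCode.1 ∧
     cmp 56 (cmp 56 (cmp 56 (g dPair.1).1 (g dPair.2).1) (g dPair.1).2) (g dPair.2).2 = dCode.1) := by
  decide +kernel

theorem norm_ok : (List.range 54).all (fun i => chkGen 56 9 3 transCodes stabCodes cCode.1 dCode.1
    (genCodes.getD outer (0, 0)).1 (genCodes.getD i (0, 0)) (normData.getD (2 * i) (0, 0))
    (normData.getD (2 * i + 1) (0, 0)) (cosetData.getD i (0, 0, 0))) = true := by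
  decide +kernel

theorem gpos_surj : ∀ i : Fin 54, ∃ t u v : ZMod 3, ∃ s : Bool, gpos t u v s = i.val := by
  decide +kernel

theorem gpos_lt : ∀ t u v : ZMod 3, ∀ s : Bool, gpos t u v s < 54 := by decide +kernel

theorem step_ok :
    cmp 56 (transCodes.getD 0 0) (stabCodes.getD 0 0) = cone 56 ∧
    ((List.range 56).all fun j =>
      let a := stepData.getD j (99, 99)
      let b := stepData.getD (56 + j) (99, 99)
      decide (a.1 < 56) && decide (a.2 < 9) && decide (b.1 < 56) && decide (b.2 < 9) &&
        cmp 56 cCode.1 (transCodes.getD j 0) == ec 56 transCodes stabCodes a &&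
        cmp 56 dCode.1 (transCodes.getD j 0) == ec 56 transCodes stabCodes b) = true ∧
    ((List.range 9).all fun k => (List.range 9).all fun l =>
      stabCodes.contains (cmp 56 (stabCodes.getD k 0) (stabCodes.getD l 0))) = true := by
  decide +kernel

/-- The element in position `(j, k)`. -/
def ecr (x : ℕ × ℕ) : ℕ := ec 56 transCodes stabCodes x

/-- The class datum of a position. -/
def cls (x : ℕ × ℕ) : ℕ × ℕ × ℕ := classData.getD (x.1 * 9 + x.2) (9, 99, 99)

theorem class_ok : ((List.range 56).all fun j => (List.range 9).all fun k =>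
    (decide (j = 0) && decide (k = 0)) ||
      (let a := cls (j, k)
       decide (a.1 < 8) && decide (a.2.1 < 56) && decide (a.2.2 < 9) &&
         cmp 56 (ecr a.2) (ecr (classReps.getD a.1 (0, 0))) == cmp 56 (ecr (j, k)) (ecr a.2))) =
    true := by
  decide +kernel

theorem gen_data_ok :
    (classReps.all fun x => decide (x.1 < 56) && decide (x.2 < 9)) = true ∧ classReps.length = 8 ∧
    ((List.range 8).all fun i =>
      (((genData.getD (2 * i) []) ++ (genData.getD (2 * i + 1) [])).all fun y =>
        decide (y.1 < 56) && decide (y.2 < 9) && !(decide (y.1 = 0) && decide (y.2 = 0)) &&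
          decide ((cls y).1 = i)) &&
      (genData.getD (2 * i) []).foldl (fun A y => cmp 56 A (ecr y)) (cone 56) == cCode.1 &&
      (genData.getD (2 * i + 1) []).foldl (fun A y => cmp 56 A (ecr y)) (cone 56) == dCode.1) =
    true := by
  decide +kernel

end Cfsg.Agent.SmallExcRee
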