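import Cfsg.Agent.Lib.ReeCentralizer17
import Cfsg.Agent.Lib.SmallExcReeCheck

/-!
The torus of `²G₂(q)` has order `q - 1`.
-/

set_option autoImplicit false
set_option maxRecDepth 20000

namespace Cfsg.Agent.ReeTorus17

open Cfsg.Lie Cfsg.Agent.ChevalleyTorus Cfsg.Agent.ChevalleyCore Cfsg.Agent.ReeSL2
open Cfsg.Agent.ReeTwist17 Cfsg.Agent.ReeInstance17 Cfsg.Agent.SmallExcPerm
open scoped MatrixGroups

/-- the word of `gen` over the prime field -/
def gl (s : Bool) (t u v : ZMod 3) : List (ℕ × ZMod 3) :=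
  if s then [(4, -t), (5, -t), (3, -(t * t + u)), (2, -(t * t ^ 2 + v)), (1, -u), (0, -v)]
  else [(7, t), (6, t), (8, t * t + u), (9, t * t ^ 2 + v), (10, u), (11, v)]

theorem gen_id (s : Bool) (t u v : ZMod 3) :
    gen (RingHom.id (ZMod 3)) s t u v = wg c2 (gl s t u v) := by
  obtain ⟨n6, n7, n8, n9, n10, n11⟩ := neg_val
  cases s
  · simp [gen, Uf, tail, X, gl, wg, mul_assoc]
  · simp [gen, Uf, tail, X, gl, wg, mul_assoc, n6, n7, n8, n9, n10, n11]

/-- the word giving the involution of the torus -/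
def aw : List (ℕ × ZMod 3) :=
  gl false 0 0 1 ++ gl true 0 0 1 ++ gl false 1 1 1 ++ gl true 2 1 2

/-- the sign in column `j` -/
def dg (j : Co) : ℕ :=
  (tmat chevG2 (fun _ => (-1 : (ZMod 3)ˣ)) j j).val

theorem aw_ok : ∀ p ∈ aw, p.1 < 12 ∧
    okT 3 (SmallExcRee.tab p) = true := by decide +kernel

theorem col_ok : ∀ j : Co,
    mvW 3 (aw.map SmallExcRee.tab) (256 ^ ix j) = dg j * 256 ^ ix j ∧
    okV 3 (256 ^ ix j) = true := by decide +kernel

theorem entry_ok : ∀ i j : Co, dig 256 (dg j * 256 ^ ix j) (ix i) =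
    (tmat chevG2 (fun _ => (-1 : (ZMod 3)ˣ)) i j).val := by decide +kernel

theorem unit_ok : ∀ i j : Co,
    dig 256 (256 ^ ix j) (ix i) = if i = j then 1 else 0 := by decide +kernel

theorem aw_eq : wg c2 aw = torus chevG2 (fun _ => (-1 : (ZMod 3)ˣ)) := by
  refine Units.ext ?_
  rw [coe_wg, coe_torus]
  have e : chevG2.wordMat (ZMod 3) aw =
      ((aw.map SmallExcRee.tab).map (ofC (R := ZMod 3))).prod := by
    rw [List.map_map]
    refine congrArg List.prod (List.map_congr_left fun p hp => ?_)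
    exact SmallExcRee.x_eq_tab ⟨p.1, (aw_ok p hp).1⟩ p.2
  rw [e]
  refine Matrix.ext fun i j => ?_
  have h := (mulVec_prod (R := ZMod 3) (p := 3) (by norm_num) (by norm_num)
    (aw.map SmallExcRee.tab)
    (fun T hT => by obtain ⟨p, hp, rfl⟩ := List.mem_map.1 hT; exact (aw_ok p hp).2)
    (col_ok j).2).2
  rw [(col_ok j).1] at h
  have h' := congrFun h i
  simp only [Matrix.mulVec, dotProduct, vec] at h'
  rw [entry_ok i j, ZMod.natCast_zmod_val] at h'
  simp only [unit_ok _ j, Nat.cast_ite, Nat.cast_one, Nat.cast_zero, mul_ite, mul_one, mul_zero, Finset.sum_ite_eq',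
    Finset.mem_univ, ↓reduceIte] at h'
  exact h'

variable {K : Type*} [Field K] [Fintype K] [CharP K 3] (X : ReeInstance17.Ctx K)

theorem map_gen (f : ZMod 3 →+* K) (s : Bool) (t u v : ZMod 3) :
    Matrix.GeneralLinearGroup.map f (gen (RingHom.id (ZMod 3)) s t u v) =
      gen X.θ s (f t) (f u) (f v) := by
  have h : ∀ a, X.θ (f a) = f a := fun a =>
    RingHom.congr_fun (RingHom.ext_zmod (X.θ.comp f) f) a
  cases s <;>
    simp [gen, Uf, tail, ReeTwist17.X, TwistedTools.xg_map, h]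

theorem map_torus {L : Type*} [Field L] (f : ZMod 3 →+* L) (c : Fin chevG2.rank → (ZMod 3)ˣ) :
    Matrix.GeneralLinearGroup.map f (torus chevG2 c) =
      torus chevG2 (fun i => Units.map f.toMonoidHom (c i)) := by
  refine Units.ext ?_
  show (tmat chevG2 c).map f = tmat chevG2 (fun i => Units.map f.toMonoidHom (c i))
  rw [tmat, tmat, Matrix.diagonal_map (map_zero f)]
  congr 1
  funext q
  rcases q with a | s
  · simp
  · simp only [Sum.elim_inr, tchar]
    rw [show f ((∏ i, c i ^ chevG2.cartan i.val s.val : (ZMod 3)ˣ) : ZMod 3) =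
      (Units.map f.toMonoidHom (∏ i, c i ^ chevG2.cartan i.val s.val) : L) from rfl,
      map_prod]
    simp [map_zpow]

theorem av_mem : ReeCentralizer17.av X ∈ X.G1 := by
  let f : ZMod 3 →+* K := ZMod.castHom (dvd_refl 3) K
  have hm : ∀ s t u v, Matrix.GeneralLinearGroup.map f (wg c2 (gl s t u v)) ∈ X.G1 := by
    intro s t u v
    rw [← gen_id, map_gen]
    exact X.gen_mem _ _ _ _
  have h1 : wg c2 aw = wg c2 (gl false 0 0 1) * wg c2 (gl true 0 0 1) * wg c2 (gl false 1 1 1) *
      wg c2 (gl true 2 1 2) := by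
    simp only [wg, aw, List.map_append, List.prod_append]
  have h2 : Matrix.GeneralLinearGroup.map f (wg c2 aw) ∈ X.G1 := by
    rw [h1, map_mul, map_mul, map_mul]
    exact mul_mem (mul_mem (mul_mem (hm _ _ _ _) (hm _ _ _ _)) (hm _ _ _ _)) (hm _ _ _ _)
  rw [aw_eq, map_torus] at h2
  have e : (fun _ : Fin chevG2.rank => Units.map f.toMonoidHom (-1 : (ZMod 3)ˣ)) =
      X.par (-1) := by
    funext i
    refine Units.ext ?_
    simp [Ctx.par, f]
  rw [e] at h2
  exact h2

/-- the element of `SL₂` mapped to the torus -/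
def dd {F : Type*} [Field F] (s : F) : SL(2, F) :=
  ChevalleySL2.upper s * ChevalleySL2.lower (-s⁻¹) * ChevalleySL2.upper s *
    (ChevalleySL2.upper (-1) * ChevalleySL2.lower (-(-1)⁻¹) * ChevalleySL2.upper (-1))

theorem coroot_table : ∀ x < chevG2.nroots,
    chevG2.pairing 8 x = chevG2.cartan 0 x + 3 * chevG2.cartan 1 x ∧
    chevG2.pairing 10 x = chevG2.cartan 0 x + chevG2.cartan 1 x := by decide +kernel

/-- `s ↦ θ(s)^3 s` -/
def nsq : Kˣ →* Kˣ where
  toFun s := Units.map X.θ.toMonoidHom s ^ 3 * s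
  map_one' := by simp
  map_mul' a b := by rw [map_mul, mul_pow, mul_mul_mul_comm]

theorem psi_dd (s : Kˣ) : psi X.θ (dd (s : K)) = X.tor (nsq X s) := by
  have hs : (s : K) ≠ 0 := s.ne_zero
  have hθs : X.θ (s : K) ≠ 0 := (map_ne_zero X.θ).2 hs
  have h8 : phi8 X.θ (dd (s : K)) = hg c2 8 (X.θ (s : K)) := by
    simp only [dd, phi8, MonoidHom.comp_apply, map_mul, map_upper, map_lower,
      ChevalleySL2.phi_lower, map_neg, map_inv₀, map_one]
    rw [show ∀ t : K, ChevalleySL2.phi (rels8 (K := K)) (ChevalleySL2.upper t) = xg c2 8 t from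
      fun t => ChevalleySL2.phi_upper rels8 t,
      show ∀ t : K, ChevalleySL2.phi (rels8 (K := K)) (ChevalleySL2.upper t) = xg c2 8 t from
      fun t => ChevalleySL2.phi_upper rels8 t]
    simp only [hg, ng, root_facts.1]
  have h10 : phi10 (dd (s : K)) = hg c2 10 (s : K) := by
    simp only [dd, phi10, map_mul, ChevalleySL2.phi_lower]
    rw [show ∀ t : K, ChevalleySL2.phi (rels10 (K := K)) (ChevalleySL2.upper t) = xg c2 10 t from
      fun t => ChevalleySL2.phi_upper rels10 t,
      show ∀ t : K, ChevalleySL2.phi (rels10 (K := K)) (ChevalleySL2.upper t) = xg c2 10 t from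
      fun t => ChevalleySL2.phi_upper rels10 t]
    simp only [hg, ng, root_facts.2.1]
  show phi8 X.θ _ * phi10 _ = _
  rw [h8, h10]
  refine Units.ext ?_
  rw [Units.val_mul, coe_hg_eq c2 (by decide +kernel) hθs, coe_hg_eq c2 (by decide +kernel) hs,
    Ctx.tor, MonoidHom.comp_apply, coe_torus, hDiag, hDiag, tmat, Matrix.diagonal_mul_diagonal]
  refine congrArg Matrix.diagonal (funext fun x => ?_)
  rcases x with i | r
  · simp
  · obtain ⟨e8, e10⟩ := coroot_table r.val r.2
    have huniv : (Finset.univ : Finset (Fin chevG2.rank)) = {⟨0, by decide⟩, ⟨1, by decide⟩} := by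
      decide +kernel
    simp only [Sum.elim_inr, e8, e10, tchar, huniv]
    rw [Finset.prod_pair (by decide)]
    set u : Kˣ := Units.map X.θ.toMonoidHom s with hu
    have hA : X.par (nsq X s) ⟨0, by decide⟩ = s * u := by
      refine Units.ext ?_
      simp [Ctx.par, nsq, hu, X.sq, map_pow]
    have hB : X.par (nsq X s) ⟨1, by decide⟩ = u ^ (3 : ℤ) * s := by
      simp [Ctx.par, nsq, hu]

    rw [hA, hB, show X.θ (s : K) = (u : K) from rfl, ← Units.val_zpow_eq_zpow_val,
      ← Units.val_zpow_eq_zpow_val, ← Units.val_mul]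
    refine congrArg Units.val ?_
    simp only [mul_zpow, zpow_add, ← zpow_mul]
    rw [mul_comm 3]
    ac_rfl

theorem nsq_ker {s : Kˣ} (h : nsq X s = 1 ∨ nsq X s = -1) :
    (s = 1 ∨ s = -1) ∧ nsq X s = 1 := by
  have hs : (s : K) ≠ 0 := s.ne_zero
  obtain ⟨ε, hε, hεθ, hn⟩ : ∃ ε : K, ε * ε = 1 ∧ X.θ ε = ε ∧ X.θ (s : K) ^ 3 * s = ε := by
    rcases h with h | h
    · exact ⟨1, one_mul 1, map_one _, congrArg Units.val h⟩
    · exact ⟨-1, by simp, by simp, congrArg Units.val h⟩
  have h2 : (s : K) * X.θ (s : K) = ε := by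
    have h1 := congrArg X.θ hn
    rwa [map_mul, map_pow, X.sq, hεθ] at h1
  have h3 : (s : K) * s = 1 := by
    have h4 : X.θ (s : K) ^ 3 * (s : K) * ((s : K) * s) = ε := by
      calc X.θ (s : K) ^ 3 * (s : K) * ((s : K) * s)
          = ((s : K) * X.θ (s : K)) ^ 3 := by ring
        _ = ε := by rw [h2]; linear_combination ε * hε
    rw [hn] at h4
    exact mul_left_cancel₀ (left_ne_zero_of_mul_eq_one hε) (by rw [h4, mul_one])
  have hcase : s = 1 ∨ s = -1 := (mul_self_eq_one_iff.1 h3).imp Units.val_eq_one.1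
    (fun h => Units.ext (by rw [h]; rfl))
  refine ⟨hcase, ?_⟩
  rcases hcase with rfl | rfl
  · exact map_one _
  · exact Units.ext (by simp [nsq]; ring)

theorem neg_one_ne : (-1 : Kˣ) ≠ 1 := by
  intro h
  have h1 : (-1 : K) = 1 := by simpa using congrArg Units.val h
  exact ReeCentralizer17.two_ne (K := K) (by linear_combination -h1)

theorem tor_mem (c : Kˣ) : X.tor c ∈ X.G1 := by
  let S : Subgroup Kˣ := X.G1.comap X.tor
  suffices h : S = ⊤ by
    have : c ∈ S := h ▸ Subgroup.mem_top c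
    exact this
  have hle : (nsq X).range ≤ S := by
    rintro _ ⟨s, rfl⟩
    show X.tor (nsq X s) ∈ X.G1
    rw [← psi_dd]
    exact ReeSL2.range_le X.θ X.spec X.e_ne ⟨_, rfl⟩
  have hne : (nsq X).range ≠ S := by
    intro h
    have h1 : (-1 : Kˣ) ∈ S := av_mem X
    rw [← h] at h1
    obtain ⟨s, hs⟩ := h1
    exact neg_one_ne ((hs.symm.trans (nsq_ker X (Or.inr hs)).2))
  have hker : Nat.card ↥(nsq X).ker ≤ 2 := by
    classical
    let g : ↥(nsq X).ker → Bool := fun s => decide (s.1 = 1)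
    refine (Nat.card_le_card_of_injective g fun a b h => ?_).trans (by simp)
    have ha := (nsq_ker X (Or.inl a.2)).1
    have hb := (nsq_ker X (Or.inl b.2)).1
    simp only [g, decide_eq_decide] at h
    apply Subtype.ext
    rcases ha with ha | ha <;> rcases hb with hb | hb <;> rw [ha, hb] at h ⊢
    · exact absurd (h.1 rfl) neg_one_ne
    · exact absurd (h.2 rfl) neg_one_ne
  have hmul : Nat.card ↥(nsq X).ker * Nat.card ↥(nsq X).range = Nat.card Kˣ := by
    rw [← Subgroup.index_ker]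
    exact Subgroup.card_mul_index _
  have hlt : Nat.card ↥(nsq X).range < Nat.card ↥S := by
    refine lt_of_le_of_ne (Subgroup.card_le_of_le hle) fun h => hne ?_
    exact Subgroup.eq_of_le_of_card_ge hle h.ge
  obtain ⟨k, hk⟩ := Subgroup.card_dvd_of_le hle
  refine Subgroup.eq_top_of_le_card _ ?_
  have hk2 : 2 ≤ k := by
    by_contra hh
    interval_cases k <;> omega
  calc Nat.card Kˣ = Nat.card ↥(nsq X).ker * Nat.card ↥(nsq X).range := hmul.symm
    _ ≤ k * Nat.card ↥(nsq X).range := Nat.mul_le_mul_right _ (hker.trans hk2)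
    _ = Nat.card ↥S := by rw [hk, mul_comm]

theorem H1_eq : chevG2.diagonalSubgroup K ⊓ X.G1 = X.tor.range := by
  refine le_antisymm X.H1_le ?_
  rintro _ ⟨c, rfl⟩
  exact ⟨torus_mem_H c2 _, tor_mem X c⟩

/-- the torus as a group -/
noncomputable def H1equiv : Kˣ ≃* ↥(chevG2.diagonalSubgroup K ⊓ X.G1) :=
  (MonoidHom.ofInjective (ReeCentralizer17.tor_inj X)).trans (MulEquiv.subgroupCongr (H1_eq X).symm)

theorem card_H1 :
    Nat.card ↥(chevG2.diagonalSubgroup K ⊓ X.G1) = Fintype.card K - 1 := by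
  classical
  rw [← Nat.card_congr (H1equiv X).toEquiv, Nat.card_eq_fintype_card, Fintype.card_units]

theorem card_G1_eq : Nat.card ↥X.G1 =
    (Fintype.card K - 1) * Fintype.card K ^ 3 * (1 + Fintype.card K ^ 3) := by
  rw [X.card_G1, card_H1]

end Cfsg.Agent.ReeTorus17
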