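import Cfsg.Agent.Lib.TwistedTools
import Cfsg.Agent.Lib.ChevalleyTorusCard
import Cfsg.Agent.Lib.ChevWeylData
import Cfsg.Prelude.Def_LieTwisted

/-!
`³D₄(q)` as fixed points of a triality: classes, torus, Weyl group.
-/

set_option autoImplicit false
set_option linter.unusedSectionVars false
set_option maxRecDepth 20000

namespace Cfsg.Agent.TwistedD4

open Cfsg.Lie Cfsg.Agent.ChevalleyCert Cfsg.Agent.ChevalleyCore Cfsg.Agent.ChevalleyRoots Cfsg.Agent.ChevalleyTorus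
  Cfsg.Agent.TwistedCore Cfsg.Agent.TwistedTools Cfsg.Agent.ChevWeyl Cfsg.Agent.ChevBruhat

/-- the certificate -/
noncomputable def c4 : Cert chevD4 := ChevalleyAll.cert chevD4 (by simp)

variable {K : Type*} [Field K]

/-- the triality twist -/
noncomputable def tw (f : K →+* K) : Twist c4 K :=
  graphTwist c4 ChevWeylData.d4 (by decide +kernel) ChevalleyGraph.symD4a f (by decide +kernel) (by decide +kernel)

theorem simples : chevD4.simple 0 = d4p1 ∧ chevD4.simple 1 = d4p2 ∧ chevD4.simple 2 = d4p3 ∧ chevD4.simple 3 = d4p4 ∧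
    chevD4.neg d4p1 = d4m1 ∧ chevD4.neg d4p2 = d4m2 ∧ chevD4.neg d4p3 = d4m3 ∧ chevD4.neg d4p4 = d4m4 := by
  decide +kernel

/-- the relevant pairs of roots -/
def orth : List (ℕ × ℕ) :=
  [(18, 13), (18, 12), (13, 12), (18, 10), (18, 11), (13, 5), (13, 11), (12, 5), (12, 10), (5, 10), (5, 11), (10, 11)]

theorem orth_ok : ∀ p ∈ orth, p.1 < chevD4.nroots ∧ p.2 < chevD4.nroots ∧ p.2 ≠ p.1 ∧ p.2 ≠ chevD4.neg p.1 ∧
    chevD4.commTerms p.1 p.2 = [] := by decide +kernel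

theorem comm {r s : ℕ} (h : (r, s) ∈ orth ∨ (s, r) ∈ orth) (t u : K) :
    Commute (xg c4 r t) (xg c4 s u) := by
  rcases h with h | h
  · obtain ⟨h1, h2, h3, h4, h5⟩ := orth_ok _ h
    exact commute_xg c4 h1 h2 h3 h4 h5 t u
  · obtain ⟨h1, h2, h3, h4, h5⟩ := orth_ok _ h
    exact (commute_xg c4 h1 h2 h3 h4 h5 u t).symm

/-- the product of the root elements of the outer roots -/
noncomputable def tri (a b c : K) : GL chevD4.Idx K := xg c4 d4p1 a * xg c4 d4p3 b * xg c4 d4p4 c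

/-- the product of the root elements of the negatives of the outer roots -/
noncomputable def trin (a b c : K) : GL chevD4.Idx K := xg c4 d4m1 a * xg c4 d4m3 b * xg c4 d4m4 c

theorem tri_mul (a b c a' b' c' : K) : tri a b c * tri a' b' c' = tri (a + a') (b + b') (c + c') := by
  have h1 : Commute (xg c4 d4p1 a') (xg c4 d4p4 c) := comm (by decide) _ _
  have h2 : Commute (xg c4 d4p3 b') (xg c4 d4p4 c) := comm (by decide) _ _
  have h3 : Commute (xg c4 d4p1 a') (xg c4 d4p3 b) := comm (by decide) _ _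
  unfold tri
  rw [← xg_mul c4, ← xg_mul c4, ← xg_mul c4]
  calc xg c4 d4p1 a * xg c4 d4p3 b * xg c4 d4p4 c * (xg c4 d4p1 a' * xg c4 d4p3 b' * xg c4 d4p4 c')
      = xg c4 d4p1 a * xg c4 d4p3 b * (xg c4 d4p4 c * xg c4 d4p1 a') * xg c4 d4p3 b' * xg c4 d4p4 c' := by group
    _ = xg c4 d4p1 a * (xg c4 d4p3 b * xg c4 d4p1 a') * (xg c4 d4p4 c * xg c4 d4p3 b') * xg c4 d4p4 c' := by
        rw [← h1.eq]; group
    _ = _ := by rw [← h2.eq, ← h3.eq]; group

/-- the product of the three outer `n_p(t)` -/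
noncomputable def tn (a b c : K) : GL chevD4.Idx K := ng c4 d4p1 a * ng c4 d4p3 b * ng c4 d4p4 c

theorem tn_eq (a b c : K) : tn a b c = tri a b c * trin (-a⁻¹) (-b⁻¹) (-c⁻¹) * tri a b c := by
  have e1 : chevD4.neg d4p1 = d4m1 := simples.2.2.2.2.1
  have e3 : chevD4.neg d4p3 = d4m3 := simples.2.2.2.2.2.2.1
  have e4 : chevD4.neg d4p4 = d4m4 := simples.2.2.2.2.2.2.2
  unfold tn tri trin ng
  rw [e1, e3, e4]
  rw [triple_mul (a := xg c4 d4p1 a * xg c4 d4p3 b) (a' := xg c4 d4m1 (-a⁻¹) * xg c4 d4m3 (-b⁻¹))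
    ((comm (by decide) _ _).mul_right (comm (by decide) _ _))
    ((comm (by decide) _ _).mul_right (comm (by decide) _ _))
    ((comm (by decide) _ _).mul_right (comm (by decide) _ _))]
  rw [triple_mul (comm (by decide) _ _) (comm (by decide) _ _) (comm (by decide) _ _)]

variable (q : ℕ)

theorem xg_mem_p2 {t : K} (ht : t ^ q = t) :
    xg c4 d4p2 t ∈ twistedD4 K q ∧ xg c4 d4m2 t ∈ twistedD4 K q := by
  constructor
  · have := mem_gen c4 (A := d4Words K q) (Or.inl ⟨t, ht, d4p2, List.mem_cons_self, rfl⟩)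
    simpa [wg, twistedD4] using this
  · have := mem_gen c4 (A := d4Words K q) (Or.inl ⟨t, ht, d4m2, by simp, rfl⟩)
    simpa [wg, twistedD4] using this

theorem tri_mem (t : K) :
    tri t (t ^ q) (t ^ q ^ 2) ∈ twistedD4 K q ∧ trin t (t ^ q) (t ^ q ^ 2) ∈ twistedD4 K q := by
  constructor
  · have := mem_gen c4 (A := d4Words K q) (Or.inr ⟨t, (d4p1, d4p3, d4p4), List.mem_cons_self, rfl⟩)
    simpa [wg, tri, twistedD4, mul_assoc] using this
  · have := mem_gen c4 (A := d4Words K q) (Or.inr ⟨t, (d4m1, d4m3, d4m4), by simp, rfl⟩)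
    simpa [wg, trin, twistedD4, mul_assoc] using this

variable {q} (f : K →+* K) (hf : ∀ t, f t = t ^ q)

include hf in
theorem f_f (t : K) : f (f t) = t ^ q ^ 2 := by rw [hf, hf, ← pow_mul, pow_two]

include hf in
theorem f_neg_inv (t : K) : (-t⁻¹) ^ q = -(t ^ q)⁻¹ := by rw [← hf, map_neg, map_inv₀, hf]

include hf in
theorem tn_mem (t : K) : tn t (t ^ q) (t ^ q ^ 2) ∈ twistedD4 K q := by
  rw [tn_eq]
  refine mul_mem (mul_mem (tri_mem q t).1 ?_) (tri_mem q t).1
  have := (tri_mem q (-t⁻¹)).2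
  rwa [f_neg_inv f hf, ← f_f f hf, map_neg, map_inv₀, map_neg, map_inv₀, f_f f hf] at this

include hf in
theorem ng2_mem {t : K} (ht : t ^ q = t) : ng c4 d4p2 t ∈ twistedD4 K q := by
  unfold ng
  rw [show chevD4.neg d4p2 = d4m2 from simples.2.2.2.2.2.1]
  refine mul_mem (mul_mem (xg_mem_p2 q ht).1 (xg_mem_p2 q ?_).2) (xg_mem_p2 q ht).1
  rw [f_neg_inv f hf, ht]

variable [Fintype K] (hK : Fintype.card K = q ^ 3)

include hK in
theorem pow_q3 (t : K) : t ^ q ^ 3 = t := by rw [← hK, FiniteField.pow_card]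

include hf hK in
theorem f3 (t : K) : f (f (f t)) = t := by rw [f_f f hf, hf, ← pow_mul, ← pow_succ' q 2, pow_q3 hK]

include hf in
theorem sg_gen (i : ℕ) (hi : i < chevD4.rank) (t : K) :
    (tw f).sg (xg c4 (chevD4.simple i) t) =
      xg c4 (chevD4.simple (([2, 1, 3, 0] : List ℕ).getD i 0)) (t ^ q) ∧
    (tw f).sg (xg c4 (chevD4.neg (chevD4.simple i)) t) =
      xg c4 (chevD4.neg (chevD4.simple (([2, 1, 3, 0] : List ℕ).getD i 0))) (t ^ q) := by
  rw [← hf]
  exact ⟨(tw f).sg_simple hi t, (tw f).sg_negSimple hi t⟩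

include hf hK in
theorem sg_tri (a b c : K) :
    (tw f).sg (tri a b c) = tri (c ^ q) (a ^ q) (b ^ q) ∧ (tw f).sg (trin a b c) = trin (c ^ q) (a ^ q) (b ^ q) := by
  obtain ⟨e1, -, e3, e4, g1, -, g3, g4⟩ := simples
  have hm : ∀ r t, xg c4 r t ∈ chevD4.group K := fun r t => xg_mem_group c4 r t
  constructor
  · unfold tri
    rw [(tw f).sg_mul (mul_mem (hm _ _) (hm _ _)) (hm _ _), (tw f).sg_mul (hm _ _) (hm _ _), ← e1, ← e3, ← e4,
      (sg_gen f hf 0 (by decide) a).1, (sg_gen f hf 2 (by decide) b).1, (sg_gen f hf 3 (by decide) c).1]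
    have h1 : Commute (xg c4 d4p1 (c ^ q)) (xg c4 d4p3 (a ^ q)) := comm (by decide) _ _
    have h2 : Commute (xg c4 d4p1 (c ^ q)) (xg c4 d4p4 (b ^ q)) := comm (by decide) _ _
    simp only [List.getD_cons_succ, List.getD_cons_zero]
    rw [e1, e3, e4]
    exact ((h1.mul_right h2).eq.symm.trans (mul_assoc _ _ _).symm)
  · unfold trin
    rw [(tw f).sg_mul (mul_mem (hm _ _) (hm _ _)) (hm _ _), (tw f).sg_mul (hm _ _) (hm _ _), ← g1, ← g3, ← g4,
      ← e1, ← e3, ← e4, (sg_gen f hf 0 (by decide) a).2, (sg_gen f hf 2 (by decide) b).2, (sg_gen f hf 3 (by decide) c).2]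
    have h1 : Commute (xg c4 d4m1 (c ^ q)) (xg c4 d4m3 (a ^ q)) := comm (by decide) _ _
    have h2 : Commute (xg c4 d4m1 (c ^ q)) (xg c4 d4m4 (b ^ q)) := comm (by decide) _ _
    simp only [List.getD_cons_succ, List.getD_cons_zero]
    rw [e1, e3, e4, g1, g3, g4]
    exact ((h1.mul_right h2).eq.symm.trans (mul_assoc _ _ _).symm)

include hf in
theorem sg_p2 (t : K) :
    (tw f).sg (xg c4 d4p2 t) = xg c4 d4p2 (t ^ q) ∧ (tw f).sg (xg c4 d4m2 t) = xg c4 d4m2 (t ^ q) := by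
  obtain ⟨-, e2, -, -, -, g2, -, -⟩ := simples
  have := sg_gen f hf 1 (by decide) t
  simp only [List.getD_cons_succ, List.getD_cons_zero, e2, g2] at this
  exact this

include hf hK in
theorem le_fixed : twistedD4 K q ≤ (tw f).Fixed := by
  refine gen_le c4 ?_
  have h2 : ∀ t : K, t ^ q ^ 2 = (t ^ q) ^ q := fun t => by rw [← pow_mul, pow_two]
  have h3 : ∀ t : K, (t ^ q ^ 2) ^ q = t := fun t => by rw [← pow_mul, ← pow_succ, pow_q3 hK]
  rintro w (⟨t, ht, r, hr, rfl⟩ | ⟨t, rs, hrs, rfl⟩)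
  · refine ⟨by simpa [wg] using xg_mem_group c4 r t, ?_⟩
    simp only [List.mem_cons, List.not_mem_nil, or_false] at hr
    rcases hr with rfl | rfl
    · simp [wg, (sg_p2 f hf t).1, ht]
    · simp [wg, (sg_p2 f hf t).2, ht]
  · simp only [List.mem_cons, List.not_mem_nil, or_false] at hrs
    rcases hrs with rfl | rfl
    · have e : wg c4 [(d4p1, t), (d4p3, t ^ q), (d4p4, t ^ q ^ 2)] = tri t (t ^ q) (t ^ q ^ 2) := by
        simp [wg, tri, mul_assoc]
      rw [e]
      refine ⟨mul_mem (mul_mem (xg_mem_group c4 _ _) (xg_mem_group c4 _ _)) (xg_mem_group c4 _ _), ?_⟩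
      rw [(sg_tri f hf hK _ _ _).1, h3, ← h2]
    · have e : wg c4 [(d4m1, t), (d4m3, t ^ q), (d4m4, t ^ q ^ 2)] = trin t (t ^ q) (t ^ q ^ 2) := by
        simp [wg, trin, mul_assoc]
      rw [e]
      refine ⟨mul_mem (mul_mem (xg_mem_group c4 _ _) (xg_mem_group c4 _ _)) (xg_mem_group c4 _ _), ?_⟩
      rw [(sg_tri f hf hK _ _ _).2, h3, ← h2]

/-! ### the classes -/

/-- the word of a class -/
def cl4 : Bool → List (Fin chevD4.rank)
  | true => [⟨1, by decide⟩]
  | false => [⟨0, by decide⟩, ⟨2, by decide⟩, ⟨3, by decide⟩]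

/-- the representative of a class -/
noncomputable def cn4 : Bool → GL chevD4.Idx K
  | true => ng c4 d4p2 1
  | false => tn 1 1 1

theorem cn4_toW (J : Bool) : ∃ h : cn4 (K := K) J ∈ chevD4.monomialSubgroup K,
    (tw f).S.toW ⟨_, h⟩ = (tw f).wd (cl4 J) := by
  cases J
  · have := (tw f).toW_prod_ng [((⟨0, by decide⟩ : Fin chevD4.rank), (1 : Kˣ)), (⟨2, by decide⟩, 1), (⟨3, by decide⟩, 1)]
    have e : (([((⟨0, by decide⟩ : Fin chevD4.rank), (1 : Kˣ)), (⟨2, by decide⟩, 1), (⟨3, by decide⟩, 1)]).map fun p =>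
        ng c4 (chevD4.simple p.1.val) (p.2 : K)).prod = cn4 (K := K) false := by
      obtain ⟨e1, e2, e3, e4, -⟩ := simples
      simp only [List.map_cons, List.map_nil, List.prod_cons, List.prod_nil, Units.val_one, mul_one]
      show ng c4 (chevD4.simple 0) 1 * (ng c4 (chevD4.simple 2) 1 * ng c4 (chevD4.simple 3) 1) = tn 1 1 1
      rw [e1, e3, e4, tn, mul_assoc]
    obtain ⟨h, hw⟩ := this
    exact ⟨e ▸ h, by simp only [← e]; exact hw⟩
  · have := (tw f).toW_prod_ng [((⟨1, by decide⟩ : Fin chevD4.rank), (1 : Kˣ))]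
    have e : (([((⟨1, by decide⟩ : Fin chevD4.rank), (1 : Kˣ))]).map fun p => ng c4 (chevD4.simple p.1.val) (p.2 : K)).prod =
        cn4 (K := K) true := by
      simp only [List.map_cons, List.map_nil, List.prod_cons, List.prod_nil, Units.val_one, mul_one]
      show ng c4 (chevD4.simple 1) 1 = ng c4 d4p2 1
      rw [simples.2.1]
    obtain ⟨h, hw⟩ := this
    exact ⟨e ▸ h, by simp only [← e]; exact hw⟩

theorem cl4_inv : ∀ J : Bool, ∀ r < chevD4.nroots,
    ((chevD4.IsPosRoot r ∧ chevD4.IsNegRoot (Twist.wact' chevD4 (cl4 J) r)) →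
      r ∈ (if J then [d4p2] else [d4p1, d4p3, d4p4])) := by decide +kernel

theorem mem_invSet_cl4 (J : Bool) {r : ℕ} (hr : r ∈ (tw f).X.invSet ((tw f).wd (cl4 J))) :
    r ∈ (if J then [d4p2] else [d4p1, d4p3, d4p4]) := by
  have h := ((tw f).mem_invSet_wd (cl4 J) r).mp hr
  exact cl4_inv J r h.1.1 h

theorem winv_cl4 : winv chevD4 ChevWeylData.d4.P (cl4 true) = 1 ∧ winv chevD4 ChevWeylData.d4.P (cl4 false) = 3 := by
  decide +kernel

/-- the product map on the outer root subgroups -/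
noncomputable def triHom : Multiplicative (K × K × K) →* GL chevD4.Idx K where
  toFun p := tri p.toAdd.1 p.toAdd.2.1 p.toAdd.2.2
  map_one' := by simp [tri]
  map_mul' p p' := by simp [tri_mul]

theorem Uw_true_le : (tw f).S.Uw ((tw f).wd (cl4 true)) ≤
    Subgroup.closure (Set.range fun t : K => xg c4 d4p2 t) := by
  refine Subgroup.closure_mono ?_
  rintro g ⟨r, t, hr, rfl⟩
  have := mem_invSet_cl4 f true hr
  simp at this
  subst this
  exact ⟨t, rfl⟩

theorem closure_p2 {g : GL chevD4.Idx K} (hg : g ∈ Subgroup.closure (Set.range fun t : K => xg c4 d4p2 t)) :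
    ∃ t, g = xg c4 d4p2 t := by
  induction hg using Subgroup.closure_induction with
  | mem x hx => obtain ⟨t, rfl⟩ := hx; exact ⟨t, rfl⟩
  | one => exact ⟨0, (xg_zero c4 _).symm⟩
  | mul a b _ _ ha hb => obtain ⟨s, rfl⟩ := ha; obtain ⟨t, rfl⟩ := hb; exact ⟨s + t, xg_mul c4 _ _ _⟩
  | inv a _ ha => obtain ⟨s, rfl⟩ := ha; exact ⟨-s, xg_inv c4 _ _⟩

theorem Uw_false_eq : (tw f).S.Uw ((tw f).wd (cl4 false)) = (triHom (K := K)).range ∧
    Function.Injective (triHom (K := K)) := by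
  have hle : (tw f).S.Uw ((tw f).wd (cl4 false)) ≤ (triHom (K := K)).range := by
    rw [Sys.Uw, Subgroup.closure_le]
    rintro g ⟨r, t, hr, rfl⟩
    have := mem_invSet_cl4 f false hr
    simp only [Bool.false_eq_true, if_false, List.mem_cons, List.not_mem_nil, or_false] at this
    show xg c4 r t ∈ _
    rcases this with rfl | rfl | rfl
    · exact ⟨Multiplicative.ofAdd (t, 0, 0), by simp [triHom, tri]⟩
    · exact ⟨Multiplicative.ofAdd (0, t, 0), by simp [triHom, tri]⟩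
    · exact ⟨Multiplicative.ofAdd (0, 0, t), by simp [triHom, tri]⟩
  have hc := (tw f).S.card_Uw ((tw f).wd (cl4 false))
  rw [show (tw f).S.X.inv ((tw f).wd (cl4 false)) = 3 from ((tw f).inv_wd _).trans winv_cl4.2] at hc
  have hdom : Nat.card (Multiplicative (K × K × K)) = Nat.card K ^ 3 := by
    rw [Nat.card_congr Multiplicative.toAdd, Nat.card_prod, Nat.card_prod]; ring
  have hle1 : Nat.card K ^ 3 ≤ Nat.card (triHom (K := K)).range := hc ▸ Subgroup.card_le_of_le hle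
  have hr : Function.Bijective (triHom (K := K)).rangeRestrict :=
    (MonoidHom.rangeRestrict_surjective _).bijective_of_nat_card_le (by rw [hdom]; exact hle1)
  refine ⟨Subgroup.eq_of_le_of_card_ge hle ?_, fun a b h => hr.1 (Subtype.ext h)⟩
  rw [← Nat.card_eq_of_bijective _ hr, hdom, ← hc]

theorem tri_inj {a b c a' b' c' : K} (h : tri a b c = tri a' b' c') : a = a' ∧ b = b' ∧ c = c' := by
  have := (Uw_false_eq (RingHom.id K)).2
    (show triHom (Multiplicative.ofAdd (a, b, c)) = triHom (Multiplicative.ofAdd (a', b', c')) from h)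
  simpa using this

theorem p2_inj {t t' : K} (h : xg c4 d4p2 t = xg c4 d4p2 t') : t = t' := by
  by_cases h0 : t = 0
  · by_contra hne
    have hne' : t' ≠ 0 := fun e => hne (h0.trans e.symm)
    exact hne ((ChevBruhatInstance.xg_injective c4 (by decide +kernel) (by decide +kernel) hne' h.symm).2).symm
  · exact (ChevBruhatInstance.xg_injective c4 (by decide +kernel) (by decide +kernel) h0 h).2

include hf hK in
theorem UF_true_le {u : GL chevD4.Idx K} (hu : u ∈ (tw f).UF ((tw f).wd (cl4 true))) :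
    ∃ t : K, t ^ q = t ∧ u = xg c4 d4p2 t := by
  obtain ⟨t, rfl⟩ := closure_p2 (Uw_true_le f hu.1)
  have := hu.2.2
  rw [(sg_p2 f hf t).1] at this
  exact ⟨t, p2_inj this, rfl⟩

include hf hK in
theorem UF_false_le {u : GL chevD4.Idx K} (hu : u ∈ (tw f).UF ((tw f).wd (cl4 false))) :
    ∃ t : K, u = tri t (t ^ q) (t ^ q ^ 2) := by
  obtain ⟨p, rfl⟩ : u ∈ (triHom (K := K)).range := (Uw_false_eq f).1 ▸ hu.1
  obtain ⟨a, b, c⟩ := p
  have h : (tw f).sg (tri a b c) = tri a b c := hu.2.2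
  rw [(sg_tri f hf hK a b c).1] at h
  obtain ⟨-, h2, h3⟩ := tri_inj h
  refine ⟨a, ?_⟩
  show tri a b c = _
  rw [← h3, ← h2, ← pow_mul, pow_two]

theorem invSet_cl4_mem : ∀ J : Bool, ∀ r ∈ (if J then [d4p2] else [d4p1, d4p3, d4p4]),
    chevD4.IsPosRoot r ∧ chevD4.IsNegRoot (Twist.wact' chevD4 (cl4 J) r) := by decide +kernel

theorem xg_mem_Uw (J : Bool) {r : ℕ} (hr : r ∈ (if J then [d4p2] else [d4p1, d4p3, d4p4])) (t : K) :
    xg c4 r t ∈ (tw f).S.Uw ((tw f).wd (cl4 J)) :=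
  Subgroup.subset_closure ⟨r, t, ((tw f).mem_invSet_wd _ _).mpr (invSet_cl4_mem J r hr), rfl⟩

theorem tri_mem_Uw (a b c : K) : tri a b c ∈ (tw f).S.Uw ((tw f).wd (cl4 false)) :=
  mul_mem (mul_mem (xg_mem_Uw f false (by simp) a) (xg_mem_Uw f false (by simp) b)) (xg_mem_Uw f false (by simp) c)

include hf hK in
theorem card_UF_true : Nat.card ↥((tw f).UF ((tw f).wd (cl4 true))) = q := by
  rw [← TwistedField.card_fix hK]
  refine (Nat.card_eq_of_bijective (fun t => (⟨xg c4 d4p2 t.1, xg_mem_Uw f true (by simp) _,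
    le_fixed f hf hK (xg_mem_p2 q t.2).1⟩ : ↥((tw f).UF ((tw f).wd (cl4 true))))) ⟨?_, ?_⟩).symm
  · rintro ⟨a, ha⟩ ⟨b, hb⟩ h
    exact Subtype.ext (p2_inj (congrArg Subtype.val h))
  · rintro ⟨u, hu⟩
    obtain ⟨t, ht, rfl⟩ := UF_true_le f hf hK hu
    exact ⟨⟨t, ht⟩, rfl⟩

include hf hK in
theorem card_UF_false : Nat.card ↥((tw f).UF ((tw f).wd (cl4 false))) = q ^ 3 := by
  rw [← hK, ← Nat.card_eq_fintype_card]
  refine (Nat.card_eq_of_bijective (fun t : K => (⟨tri t (t ^ q) (t ^ q ^ 2), tri_mem_Uw f _ _ _,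
    le_fixed f hf hK (tri_mem q t).1⟩ : ↥((tw f).UF ((tw f).wd (cl4 false))))) ⟨?_, ?_⟩).symm
  · intro a b h
    exact (tri_inj (congrArg Subtype.val h)).1
  · rintro ⟨u, hu⟩
    obtain ⟨t, rfl⟩ := UF_false_le f hf hK hu
    exact ⟨t, rfl⟩

/-- the classes -/
noncomputable def classes : Classes (tw f) (twistedD4 K q) where
  κ := Bool
  cls i := decide (i = 1)
  cls_surj := by decide +kernel
  orbit i hi k hk h := by
    have key : ∀ i < chevD4.rank, ∀ k < chevD4.rank, decide (k = 1) = decide (i = 1) →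
        ∃ n < 3, ChevalleyGraph.symD4a.pi^[n] i = k := by decide +kernel
    obtain ⟨n, -, hn⟩ := key i hi k hk h
    exact ⟨n, hn⟩
  cl := cl4
  cl_cls J := by cases J <;> simp [cl4]
  cl_sq J := (tw f).wd_mul_self fun r hr =>
    (by decide +kernel : ∀ J : Bool, ∀ r < chevD4.nroots,
      Twist.wact' chevD4 (cl4 J) (Twist.wact' chevD4 (cl4 J) r) = r) J r hr
  mem_cw J r := by
    rw [(tw f).mem_invSet_wd]
    refine and_congr_right fun hp => ?_
    exact (by decide +kernel : ∀ J : Bool, ∀ r < chevD4.nroots, chevD4.IsPosRoot r →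
      (chevD4.IsNegRoot (Twist.wact' chevD4 (cl4 J) r) ↔
        ∀ k < chevD4.rank, cor chevD4 r k ≠ 0 → decide (k = 1) = J)) J r hp.1 hp
  cn := cn4
  cn_G1 J := by
    cases J
    · have := tn_mem f hf (1 : K)
      simpa [cn4] using this
    · exact ng2_mem f hf (one_pow q)
  cn_N J := (cn4_toW f J).1
  cn_toW J := (cn4_toW f J).2
  G1_le := le_fixed f hf hK
  UJ_le J u hu := by
    cases J
    · obtain ⟨t, rfl⟩ := UF_false_le f hf hK hu
      exact (tri_mem q t).1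
    · obtain ⟨t, ht, rfl⟩ := UF_true_le f hf hK hu
      exact (xg_mem_p2 q ht).1
  Q := q
  e := 1
  one_lt_Q := TwistedField.one_lt_base hK
  UJ_card J := by
    rw [pow_one, (tw f).inv_wd]
    cases J
    · rw [card_UF_false f hf hK, show winv chevD4 (tw f).X.P (cl4 false) = 3 from winv_cl4.2]
    · rw [card_UF_true f hf hK, show winv chevD4 (tw f).X.P (cl4 true) = 1 from winv_cl4.1, pow_one]

include hf hK in
theorem coef : ∀ i < chevD4.rank, ∃ v ∈ upSub chevD4 K i, ∃ a : K, a ≠ 0 ∧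
    v * xg c4 (chevD4.simple i) a ∈ (tw f).UF ((tw f).wd (cl4 (decide (i = 1)))) := by
  intro i hi
  have hfx := le_fixed f hf hK
  have hup : ∀ s t, s ∈ [d4p1, d4p3, d4p4] → s ≠ chevD4.simple i → xg c4 s t ∈ upSub chevD4 K i := by
    intro s t hs hne
    refine (tw f).S.xg_mem_upSub ?_ hne t
    exact (invSet_cl4_mem false s hs).1
  have h13 : Commute (xg c4 d4p1 (1 : K)) (xg c4 d4p3 1) := comm (by decide) _ _
  have h14 : Commute (xg c4 d4p1 (1 : K)) (xg c4 d4p4 1) := comm (by decide) _ _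
  have h34 : Commute (xg c4 d4p3 (1 : K)) (xg c4 d4p4 1) := comm (by decide) _ _
  obtain ⟨e1, e2, e3, e4, -⟩ := simples
  have ht : tri (1 : K) 1 1 ∈ (tw f).UF ((tw f).wd (cl4 false)) := by
    refine ⟨tri_mem_Uw f _ _ _, hfx ?_⟩
    simpa using (tri_mem q (1 : K)).1
  have hi' : i = 0 ∨ i = 1 ∨ i = 2 ∨ i = 3 := by
    rw [show chevD4.rank = 4 from rfl] at hi
    omega
  rcases hi' with rfl | rfl | rfl | rfl
  · refine ⟨xg c4 d4p3 1 * xg c4 d4p4 1,
      mul_mem (hup _ _ (by simp) (by decide +kernel)) (hup _ _ (by simp) (by decide +kernel)), 1, one_ne_zero, ?_⟩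
    rw [e1, ← (h13.mul_right h14).eq, ← mul_assoc]
    exact ht
  · refine ⟨1, one_mem _, 1, one_ne_zero, ?_⟩
    rw [one_mul, e2]
    exact ⟨xg_mem_Uw f true (by simp) _, hfx (xg_mem_p2 q (one_pow q)).1⟩
  · refine ⟨xg c4 d4p1 1 * xg c4 d4p4 1,
      mul_mem (hup _ _ (by simp) (by decide +kernel)) (hup _ _ (by simp) (by decide +kernel)), 1, one_ne_zero, ?_⟩
    rw [e3, mul_assoc, ← h34.eq, ← mul_assoc]
    exact ht
  · refine ⟨xg c4 d4p1 1 * xg c4 d4p3 1,
      mul_mem (hup _ _ (by simp) (by decide +kernel)) (hup _ _ (by simp) (by decide +kernel)), 1, one_ne_zero, ?_⟩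
    rw [e4]
    exact ht

end Cfsg.Agent.TwistedD4
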