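import Mathlib.Data.List.Range

/-!
The one home of the equation lemmas of `List.range.loop`: every file that unfolds it imports
this file, so that only one copy of each lemma exists across the library.
-/

namespace Cfsg.Agent.RangeLoopEqn

theorem range_three : List.range 3 = [0, 1, 2] := by
  simp [List.range, List.range.loop]

theorem range_loop_zero (ns : List ℕ) : List.range.loop 0 ns = ns := by
  rw [List.range.loop.eq_def]

end Cfsg.Agent.RangeLoopEqn
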