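import Cfsg.Agent.Lib.TwistedF4Classes
import Cfsg.Agent.Lib.TwistedOrders
import Cfsg.Agent.Lib.RangeLoopEqn

/-!
The torus, the Weyl group and the order of `²F₄(q)`.
-/

set_option autoImplicit false
set_option linter.unusedSectionVars false
set_option maxRecDepth 20000

namespace Cfsg.Agent.TwistedF4Classes

open Cfsg.Lie Cfsg.Agent.ChevalleyCert Cfsg.Agent.ChevalleyCore Cfsg.Agent.ChevalleyRoots Cfsg.Agent.ChevalleyTorus
  Cfsg.Agent.TwistedCore Cfsg.Agent.TwistedTools Cfsg.Agent.ChevWeyl Cfsg.Agent.ChevBruhat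

variable {K : Type*} [Field K] [Fintype K] [CharP K 2] (m : ℕ)

local notation "ε" => (2 ^ m : ℕ)

theorem tchar_aux (z : Fin chevF4.rank → Kˣ) (s : ℕ) :
    tchar chevF4 z s = z (nd 0) ^ chevF4.cartan 0 s * z (nd 1) ^ chevF4.cartan 1 s * z (nd 2) ^ chevF4.cartan 2 s *
      z (nd 3) ^ chevF4.cartan 3 s := by
  show (∏ i : Fin 4, z i ^ chevF4.cartan i.val s) = _
  rw [Fin.prod_univ_four]
  rfl

theorem tchar_simples (z : Fin chevF4.rank → Kˣ) :
    tchar chevF4 z (chevF4.simple 0) = z (nd 0) ^ 2 * (z (nd 1))⁻¹ ∧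
    tchar chevF4 z (chevF4.simple 1) = z (nd 1) ^ 2 * (z (nd 0) * z (nd 2))⁻¹ ∧
    tchar chevF4 z (chevF4.simple 2) = z (nd 2) ^ 2 * (z (nd 1) ^ 2 * z (nd 3))⁻¹ ∧
    tchar chevF4 z (chevF4.simple 3) = z (nd 3) ^ 2 * (z (nd 2))⁻¹ := by
  have hA : (List.range 4).map (fun j => (List.range 4).map fun i => chevF4.cartan i (chevF4.simple j)) =
      [[2, -1, 0, 0], [-1, 2, -1, 0], [0, -2, 2, -1], [0, 0, -1, 2]] := by decide +kernel
  simp only [List.range, List.range.loop, List.map_cons, List.map_nil, List.cons.injEq, and_true] at hA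
  obtain ⟨⟨a0, a1, a2, a3⟩, ⟨b0, b1, b2, b3⟩, ⟨c0, c1, c2, c3⟩, d0, d1, d2, d3⟩ := hA
  refine ⟨?_, ?_, ?_, ?_⟩ <;> rw [tchar_aux] <;>
    simp only [a0, a1, a2, a3, b0, b1, b2, b3, c0, c1, c2, c3, d0, d1, d2, d3, zpow_zero, mul_one, one_mul,
      zpow_two, zpow_neg, zpow_one, pow_two, mul_inv] <;>
    try ac_rfl

theorem torus_inj {z : Fin chevF4.rank → Kˣ} (h : torus chevF4 z = 1) : z = 1 := by
  have h' := (torus_eq_one_iff cf z).mp h
  obtain ⟨t0, t1, t2, t3⟩ := tchar_simples z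
  have a := h' (nd 0); have b := h' (nd 1); have c := h' (nd 2); have d := h' (nd 3)
  simp only [t0, t1, t2, t3, mul_inv_eq_one] at a b c d
  have e1 : z (nd 2) = z (nd 0) ^ 3 := by
    apply mul_left_cancel (a := z (nd 0))
    rw [← b, ← a, ← pow_mul, ← pow_succ']
  have e2 : z (nd 3) = z (nd 0) ^ 2 := by
    apply mul_left_cancel (a := z (nd 1) ^ 2)
    rw [← c, e1, ← a, ← pow_mul, ← pow_mul, ← pow_add]
  have h0 : z (nd 0) = 1 := by
    apply mul_left_cancel (a := z (nd 0) ^ 3)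
    rw [mul_one]
    have := d
    rw [e1, e2, ← pow_mul] at this
    rw [← pow_succ]
    exact this
  funext i
  have hi : i = nd 0 ∨ i = nd 1 ∨ i = nd 2 ∨ i = nd 3 := by revert i; decide
  rcases hi with rfl | rfl | rfl | rfl <;>
    simp [← a, e1, e2, h0]

/-- parameters of the fixed torus -/
def tp (s u : Kˣ) : Fin chevF4.rank → Kˣ := fun i => ([s ^ ε, u ^ ε, u, s] : List Kˣ).getD i.val 1

theorem tp_mul (s u s' u' : Kˣ) : tp m (s * s') (u * u') = tp m s u * tp m s' u' := by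
  funext i
  have hi : i = nd 0 ∨ i = nd 1 ∨ i = nd 2 ∨ i = nd 3 := by revert i; decide
  rcases hi with rfl | rfl | rfl | rfl <;> simp [tp, mul_pow]

theorem eta_one (i r : ℕ) : ((cf.eta i r : ℤ) : K) = 1 := by
  apply CharTwo.sq_inj.mp
  rw [one_pow, pow_two, eta_cast_sq cf]

theorem hg_conj_node {i r : ℕ} (hi : i < chevF4.rank) (hr : r < chevF4.nroots) (t : K) :
    ng cf (chevF4.simple i) 1 * hg cf r t * (ng cf (chevF4.simple i) 1)⁻¹ =
      hg cf (chevF4.reflectRoot i r) t := by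
  unfold hg
  calc ng cf (chevF4.simple i) 1 * (ng cf r t * ng cf r (-1)) * (ng cf (chevF4.simple i) 1)⁻¹
      = (ng cf (chevF4.simple i) 1 * ng cf r t * (ng cf (chevF4.simple i) 1)⁻¹) *
          (ng cf (chevF4.simple i) 1 * ng cf r (-1) * (ng cf (chevF4.simple i) 1)⁻¹) := by group
    _ = _ := by rw [ng_simple_conj_ng cf hi hr, ng_simple_conj_ng cf hi hr, eta_one, one_mul, one_mul]

theorem cc_vals : ∀ p ∈ [(33, 37, [(1 : ℤ), 2, 2, 0]), (24, 32, [0, 1, 2, 1])],
    p.1 < chevF4.nroots ∧ chevF4.reflectRoot 2 p.1 < chevF4.nroots ∧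
    chevF4.reflectRoot 1 (chevF4.reflectRoot 2 p.1) < chevF4.nroots ∧
    chevF4.reflectRoot 2 (chevF4.reflectRoot 1 (chevF4.reflectRoot 2 p.1)) < chevF4.nroots ∧
    p.2.1 < chevF4.nroots ∧
    chevF4.reflectRoot 1 (chevF4.reflectRoot 2 (chevF4.reflectRoot 1 (chevF4.reflectRoot 2 p.1))) = p.2.1 ∧
    ∀ i < 4, ChevalleyEngine.cc chevF4 p.2.1 i = p.2.2.getD i 0 := by
  decide +kernel

theorem torus_s_mem (s : Kˣ) : torus chevF4 (tp m s 1) ∈ twistedF4 K ε := by
  obtain ⟨e0, e1, e2, e3, g1, g4, -⟩ := roots_eq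
  have hsplit : tp m s 1 = Pi.mulSingle (nd 0) (s ^ ε) * Pi.mulSingle (nd 3) s := by
    funext i
    have hi : i = nd 0 ∨ i = nd 1 ∨ i = nd 2 ∨ i = nd 3 := by revert i; decide
    rcases hi with rfl | rfl | rfl | rfl <;> simp [tp]
  rw [hsplit, map_mul, ← hg_simple cf, ← hg_simple cf]
  show hg cf (chevF4.simple 0) ((s ^ ε : Kˣ) : K) * hg cf (chevF4.simple 3) (s : K) ∈ _
  rw [e0, e3, Units.val_pow_eq_pow_val]
  have hn : ∀ t : K, ng cf f4p1 (t ^ ε) * ng cf f4p4 t ∈ twistedF4 K ε := fun t => by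
    have e : ng cf f4p1 (t ^ ε) * ng cf f4p4 t =
        pr (t ^ ε) t * prn ((t⁻¹) ^ ε) (t⁻¹) * pr (t ^ ε) t := by
      unfold ng pr prn
      rw [g1, g4, CharTwo.neg_eq, CharTwo.neg_eq, inv_pow,
        triple_mul (comm_pair (by simp) (by simp) _ _).symm (comm_pair (by simp) (by simp) _ _).symm
          (comm_pair (by simp) (by simp) _ _).symm]
    rw [e]
    exact mul_mem (mul_mem (gens_mem m t t).1 (gens_mem m t⁻¹ t).2.1) (gens_mem m t t).1
  have hc : Commute (ng cf f4p1 (-1 : K)) (ng cf f4p4 (s : K)) := by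
    unfold ng
    rw [g1, g4]
    exact (((comm_pair (by simp) (by simp) _ _).mul_right (comm_pair (by simp) (by simp) _ _)).mul_right
      (comm_pair (by simp) (by simp) _ _) |>.mul_left
      (((comm_pair (by simp) (by simp) _ _).mul_right (comm_pair (by simp) (by simp) _ _)).mul_right
      (comm_pair (by simp) (by simp) _ _))).mul_left
      (((comm_pair (by simp) (by simp) _ _).mul_right (comm_pair (by simp) (by simp) _ _)).mul_right
      (comm_pair (by simp) (by simp) _ _))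
  unfold hg
  rw [show ng cf f4p1 ((s : K) ^ ε) * ng cf f4p1 (-1) * (ng cf f4p4 (s : K) * ng cf f4p4 (-1)) =
      ng cf f4p1 ((s : K) ^ ε) * (ng cf f4p1 (-1) * ng cf f4p4 (s : K)) * ng cf f4p4 (-1) by group, hc.eq,
    show ng cf f4p1 ((s : K) ^ ε) * (ng cf f4p4 (s : K) * ng cf f4p1 (-1)) * ng cf f4p4 (-1) =
      (ng cf f4p1 ((s : K) ^ ε) * ng cf f4p4 (s : K)) * (ng cf f4p1 (-1) * ng cf f4p4 (-1)) by group]
  refine mul_mem (hn _) ?_
  have := hn (-1 : K)
  rwa [show (-1 : K) ^ ε = -1 by rw [CharTwo.neg_eq, one_pow]] at this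

variable (hK : Fintype.card K = 2 ^ (2 * m + 1))

include hK in
theorem units_twist (t : Kˣ) : (t ^ ε) ^ (ε * 2) = t ∧ (t ^ (ε * 2)) ^ ε = t :=
  ⟨Units.ext (by simpa using (pow_twist m hK (t : K)).1), Units.ext (by simpa using (pow_twist m hK (t : K)).2)⟩

include hK in
theorem conj_torus (s : Kˣ) :
    (cnF true : GL chevF4.Idx K) * torus chevF4 (tp m s 1) * (cnF (K := K) true)⁻¹ =
      torus chevF4 (tp m s (s ^ (ε * 2 + 2))) := by
  obtain ⟨e0, e1, e2, e3, -⟩ := roots_eq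
  have hconj : ∀ p ∈ [(33, 37, [(1 : ℤ), 2, 2, 0]), (24, 32, [0, 1, 2, 1])], ∀ t : Kˣ,
      (cnF true : GL chevF4.Idx K) * hg cf p.1 (t : K) * (cnF (K := K) true)⁻¹ =
        torus chevF4 (fun i => t ^ p.2.2.getD i.val 0) := by
    intro p hp t
    obtain ⟨l0, l1, l2, l3, l4, hr, hc⟩ := cc_vals p hp
    show ng cf f4a 1 * ng cf f4b 1 * ng cf f4a 1 * ng cf f4b 1 * hg cf p.1 (t : K) *
      (ng cf f4a 1 * ng cf f4b 1 * ng cf f4a 1 * ng cf f4b 1)⁻¹ = _
    rw [← e1, ← e2]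
    calc _ = ng cf (chevF4.simple 1) 1 * (ng cf (chevF4.simple 2) 1 * (ng cf (chevF4.simple 1) 1 *
          (ng cf (chevF4.simple 2) 1 * hg cf p.1 (t : K) * (ng cf (chevF4.simple 2) (1 : K))⁻¹) *
          (ng cf (chevF4.simple 1) (1 : K))⁻¹) * (ng cf (chevF4.simple 2) (1 : K))⁻¹) *
          (ng cf (chevF4.simple 1) (1 : K))⁻¹ := by group
      _ = _ := by
        rw [hg_conj_node (by decide) l0, hg_conj_node (by decide) l1, hg_conj_node (by decide) l2,
          hg_conj_node (by decide) l3, hr, hg_eq_torus cf l4]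
        congr 1
        funext i
        rw [hc i.val i.isLt]
  have hsplit : tp m s 1 = Pi.mulSingle (nd 0) (s ^ ε) * Pi.mulSingle (nd 3) s := by
    funext i
    have hi : i = nd 0 ∨ i = nd 1 ∨ i = nd 2 ∨ i = nd 3 := by revert i; decide
    rcases hi with rfl | rfl | rfl | rfl <;> simp [tp]
  rw [hsplit, map_mul, ← hg_simple cf, ← hg_simple cf]
  show _ * (hg cf (chevF4.simple 0) ((s ^ ε : Kˣ) : K) * hg cf (chevF4.simple 3) (s : K)) * _ = _
  rw [e0, e3]
  calc _ = ((cnF true : GL chevF4.Idx K) * hg cf f4p1 ((s ^ ε : Kˣ) : K) * (cnF (K := K) true)⁻¹) *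
        ((cnF true : GL chevF4.Idx K) * hg cf f4p4 (s : K) * (cnF (K := K) true)⁻¹) := by group
    _ = _ := by
      rw [show f4p1 = ((33, 37, [(1 : ℤ), 2, 2, 0]) : ℕ × ℕ × List ℤ).1 from rfl, hconj _ (by simp),
        show f4p4 = ((24, 32, [(0 : ℤ), 1, 2, 1]) : ℕ × ℕ × List ℤ).1 from rfl, hconj _ (by simp), ← map_mul]
      congr 1
      funext i
      have hi : i = nd 0 ∨ i = nd 1 ∨ i = nd 2 ∨ i = nd 3 := by revert i; decide
      rcases hi with rfl | rfl | rfl | rfl <;>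
        simp only [tp, Pi.mul_apply, List.getD_cons_succ, List.getD_cons_zero, mul_one,
          one_mul, zpow_ofNat, pow_zero, pow_one, ← pow_mul]
      rw [add_mul, pow_add, pow_mul s (2 ^ m * 2) (2 ^ m), (units_twist m hK s).2,
        mul_comm, mul_comm 2 (2 ^ m)]
      rw [pow_add]

theorem coprime_exp : (2 ^ m * 2 + 2).Coprime (2 ^ (2 * m + 1) - 1) := by
  have h1 : 1 ≤ 2 ^ (2 * m + 1) := Nat.one_le_two_pow
  refine Nat.coprime_of_dvd fun k hk h2 h3 => ?_
  have hodd : k ≠ 2 := by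
    rintro rfl
    have : 2 ^ (2 * m + 1) % 2 = 0 := by rw [pow_succ]; omega
    omega
  have hd : k ∣ 2 ^ m + 1 := by
    have : k ∣ 2 * (2 ^ m + 1) := by rw [mul_add, mul_comm, mul_one]; exact h2
    rcases (Nat.Prime.dvd_mul hk).mp this with h | h
    · exact absurd ((Nat.prime_dvd_prime_iff_eq hk Nat.prime_two).mp h) hodd
    · exact h
  have hq : 2 ^ (2 * m + 1) = 2 * (2 ^ m * 2 ^ m) := by rw [pow_succ, two_mul, pow_add]; ring
  obtain ⟨c, hc⟩ := hd
  obtain ⟨d, hd⟩ := h3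
  have hk1 : k ∣ 1 := by
    have key : (1 : ℤ) = (k : ℤ) * (d - 2 * c * (2 ^ m : ℕ) + 2 * c) := by
      have a1 : ((2 ^ m : ℕ) : ℤ) + 1 = (k : ℤ) * c := by exact_mod_cast hc
      have a2 : 2 * (((2 ^ m : ℕ) : ℤ) * (2 ^ m : ℕ)) - 1 = (k : ℤ) * d := by
        have : 2 * (2 ^ m * 2 ^ m) = k * d + 1 := by omega
        have := congrArg (fun x : ℕ => (x : ℤ)) this
        push_cast at this ⊢
        linarith
      linear_combination a2 - (2 * ((2 ^ m : ℕ) : ℤ) - 2) * a1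
    exact Int.natCast_dvd_natCast.mp ⟨_, key⟩
  exact hk.one_lt.ne' (Nat.dvd_one.mp hk1)

include hK in
theorem torus_tp_mem (s u : Kˣ) : torus chevF4 (tp m s u) ∈ twistedF4 K ε := by
  have hcop : (Nat.card Kˣ).Coprime (ε * 2 + 2) := by
    rw [TwistedField.card_units_eq, hK]
    exact (coprime_exp m).symm
  obtain ⟨v, rfl⟩ := (powCoprime hcop).surjective u
  show torus chevF4 (tp m s (v ^ (ε * 2 + 2))) ∈ _
  have e : tp m s (v ^ (ε * 2 + 2)) = tp m (s * v⁻¹) 1 * tp m v (v ^ (ε * 2 + 2)) := by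
    rw [← tp_mul, one_mul, inv_mul_cancel_right]
  rw [e, map_mul, ← conj_torus m hK]
  exact mul_mem (torus_s_mem m _) (mul_mem (mul_mem (cnF_mem m true) (torus_s_mem m _)) (inv_mem (cnF_mem m true)))

theorem tσ_vals (c : Fin chevF4.rank → Kˣ) :
    (tw (K := K) m).tσ c (nd 0) = c (nd 3) ^ ε ∧ (tw (K := K) m).tσ c (nd 1) = c (nd 2) ^ ε ∧
      (tw (K := K) m).tσ c (nd 2) = c (nd 1) ^ (ε * 2) ∧ (tw (K := K) m).tσ c (nd 3) = c (nd 0) ^ (ε * 2) := by
  refine ⟨?_, ?_, ?_, ?_⟩ <;> apply Units.ext <;> rw [Twist.tσ_apply, Units.val_pow_eq_pow_val] <;>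
    simp [tw, ChevExcGraphData.piF4, iterateFrobenius_def, pow_succ]

include hK in
theorem H1_iff {x : GL chevF4.Idx K} :
    x ∈ chevF4.diagonalSubgroup K ⊓ twistedF4 K ε ↔ ∃ s u : Kˣ, torus chevF4 (tp m s u) = x := by
  constructor
  · rintro ⟨hxH, hxG⟩
    obtain ⟨c, rfl⟩ := (mem_H_iff cf).1 hxH
    have hfix := (le_fixed m hK hxG).2
    rw [(tw (K := K) m).sg_torus] at hfix
    have hz : (tw (K := K) m).tσ c * c⁻¹ = 1 := torus_inj (by rw [map_mul, map_inv, hfix, mul_inv_cancel])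
    obtain ⟨v0, v1, v2, v3⟩ := tσ_vals m c
    have h0 := congrFun hz (nd 0)
    have h1 := congrFun hz (nd 1)
    simp only [Pi.mul_apply, Pi.inv_apply, v0, v1, Pi.one_apply, mul_inv_eq_one] at h0 h1
    refine ⟨c (nd 3), c (nd 2), ?_⟩
    congr 1
    funext i
    have hi : i = nd 0 ∨ i = nd 1 ∨ i = nd 2 ∨ i = nd 3 := by revert i; decide
    rcases hi with rfl | rfl | rfl | rfl <;> simp [tp, h0, h1]
  · rintro ⟨s, u, rfl⟩
    exact ⟨torus_mem_H cf _, torus_tp_mem m hK s u⟩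

include hK in
theorem card_H1 : Nat.card ↥(chevF4.diagonalSubgroup K ⊓ twistedF4 K ε) = (2 ^ (2 * m + 1) - 1) ^ 2 := by
  let g : Kˣ × Kˣ → ↥(chevF4.diagonalSubgroup K ⊓ twistedF4 K ε) := fun p =>
    ⟨torus chevF4 (tp m p.1 p.2), torus_mem_H cf _, torus_tp_mem m hK p.1 p.2⟩
  have hg : Function.Bijective g := by
    constructor
    · rintro ⟨s, u⟩ ⟨s', u'⟩ h
      have h' : torus chevF4 (tp m s u * (tp m s' u')⁻¹) = 1 := by
        rw [map_mul, map_inv, mul_inv_eq_one]; exact congrArg Subtype.val h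
      have h2 := torus_inj h'
      have a := congrFun h2 (nd 3)
      have b := congrFun h2 (nd 2)
      simp only [tp, Pi.mul_apply, Pi.inv_apply, Pi.one_apply, List.getD_cons_succ, List.getD_cons_zero,
        mul_inv_eq_one] at a b
      rw [a, b]
    · rintro ⟨x, hx⟩
      obtain ⟨s, u, rfl⟩ := (H1_iff m hK).mp hx
      exact ⟨(s, u), rfl⟩
  rw [← Nat.card_eq_of_bijective g hg, Nat.card_prod, TwistedField.card_units_eq, hK, pow_two]

/-! ### the Weyl group -/

/-- the word of an element of the dihedral group -/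
def dword : DihedralGroup 8 → List (Fin chevF4.rank)
  | .r i => (List.replicate i.val (clF false ++ clF true)).flatten
  | .sr i => clF false ++ (List.replicate i.val (clF false ++ clF true)).flatten

theorem dword_mul : ∀ a b : DihedralGroup 8, ∀ r < chevF4.nroots,
    pact ChevWeylData.f4.P (dword a ++ dword b) r = pact ChevWeylData.f4.P (dword (a * b)) r := by
  decide +kernel

theorem dword_one : ∀ a : DihedralGroup 8,
    wcode chevF4 ChevWeylData.f4.P (dword a) = wcode chevF4 ChevWeylData.f4.P [] → a = 1 := by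
  decide +kernel

theorem dword_gens : ∀ J : Bool, ∃ a : DihedralGroup 8, ∀ r < chevF4.nroots,
    pact ChevWeylData.f4.P (dword a) r = pact ChevWeylData.f4.P (clF J) r := by
  decide +kernel

theorem dword_inv : ∀ a : DihedralGroup 8, winv chevF4 ChevWeylData.f4.P (dword a) =
    (match a with
      | .r i => ([0, 6, 12, 18, 24, 18, 12, 6] : List ℕ).getD i.val 0
      | .sr i => ([2, 4, 10, 16, 22, 20, 14, 8] : List ℕ).getD i.val 0) := by
  decide +kernel

theorem dword_even : ∀ a : DihedralGroup 8, 2 ∣ winv chevF4 ChevWeylData.f4.P (dword a) := by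
  decide +kernel

include hK in
/-- the isomorphism onto the fixed Weyl group -/
theorem exists_fixW : ∃ φ : DihedralGroup 8 ≃* ↥(tw (K := K) m).fixW,
    ∀ a, (tw (K := K) m).X.inv (φ a : (tw (K := K) m).X.W) = winv chevF4 ChevWeylData.f4.P (dword a) := by
  classical
  have hK' : ∀ w : List (Fin chevF4.rank), ∀ r < chevF4.nroots,
      (tw (K := K) m).X.img ((tw m).wd w) r = pact ChevWeylData.f4.P w r :=
    fun w r hr => (tw (K := K) m).img_pact w hr
  have hfix : ∀ a, (tw (K := K) m).wd (dword a) ∈ (tw (K := K) m).fixW := by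
    intro a
    have key : ∀ l : List Bool, (tw (K := K) m).wd (l.flatMap clF) ∈ (tw (K := K) m).fixW := by
      intro l
      induction l with
      | nil => exact one_mem _
      | cons J l ih =>
        rw [List.flatMap_cons, (tw m).wd_append]
        refine mul_mem ?_ ih
        intro r hr
        have hkey : ∀ J : Bool, ∀ r < chevF4.nroots, pact ChevWeylData.f4.P (clF J) (ChevExcGraphData.excF4.rho r) =
            ChevExcGraphData.excF4.rho (pact ChevWeylData.f4.P (clF J) r) := by decide +kernel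
        rw [hK' _ r hr]
        exact (hK' _ _ ((tw (K := K) m).ρ_lt r hr)).trans (hkey J r hr)
    have hw : ∀ a, ∃ l : List Bool, dword a = l.flatMap clF := by
      have hpow : ∀ k, (List.replicate k (clF false ++ clF true)).flatten =
          ((List.replicate k [false, true]).flatten).flatMap clF := fun k => by
        induction k with
        | zero => rfl
        | succ k ih => simp [List.replicate_succ, ih]
      rintro (i | i)
      · exact ⟨_, hpow _⟩
      · exact ⟨false :: (List.replicate i.val [false, true]).flatten, by simp [dword, hpow]⟩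
    obtain ⟨l, hl⟩ := hw a
    rw [hl]; exact key l
  let ψ : DihedralGroup 8 →* ↥(tw (K := K) m).fixW :=
    MonoidHom.mk' (fun a => ⟨(tw (K := K) m).wd (dword a), hfix a⟩) fun a b => Subtype.ext (by
      rw [Subgroup.coe_mul]
      show _ = (tw (K := K) m).wd (dword a) * (tw (K := K) m).wd (dword b)
      rw [← (tw (K := K) m).wd_append]
      refine (tw (K := K) m).eq_of_img fun r hr => ?_
      rw [hK' _ r hr, hK' _ r hr, dword_mul a b r hr])
  have hinj : Function.Injective ψ := by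
    rw [injective_iff_map_eq_one]
    intro a ha
    exact dword_one a ((tw (K := K) m).wcode_congr (l' := []) (congrArg Subtype.val ha :))
  have hsurj : Function.Surjective ψ := by
    rintro ⟨w, hw⟩
    have h1 : Subgroup.closure (Set.range (classes (K := K) m hK).cw) ≤ ψ.range.map (tw (K := K) m).fixW.subtype := by
      rw [Subgroup.closure_le]
      rintro _ ⟨J, rfl⟩
      obtain ⟨a, ha⟩ := dword_gens J
      exact ⟨ψ a, ⟨a, rfl⟩, (tw (K := K) m).eq_of_img fun r hr =>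
        (hK' _ r hr).trans ((ha r hr).trans (hK' (clF J) r hr).symm)⟩
    obtain ⟨x, ⟨a, ha⟩, hx⟩ := h1 ((classes (K := K) m hK).closure_cw hw)
    exact ⟨a, ha.trans (Subtype.ext hx)⟩
  exact ⟨MulEquiv.ofBijective ψ ⟨hinj, hsurj⟩, fun a => (tw (K := K) m).inv_wd _⟩

include hK in
theorem sum_fixW [Fintype ↥(tw (K := K) m).fixW] (g : ℕ → ℕ) :
    ∑ w : ↥(tw (K := K) m).fixW, g ((tw (K := K) m).X.inv (w : (tw (K := K) m).X.W)) =
      (([0, 6, 12, 18, 24, 18, 12, 6, 2, 4, 10, 16, 22, 20, 14, 8] : List ℕ).map g).sum := by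
  obtain ⟨φ, hφ⟩ := exists_fixW m hK
  rw [← Fintype.sum_bijective φ φ.bijective (fun a => g (winv chevF4 ChevWeylData.f4.P (dword a))) _
    (fun a => by rw [← hφ]),
    Fintype.sum_equiv (DihedralGroup.equivSum (n := 8)) _
      (Sum.elim (fun i => g (([0, 6, 12, 18, 24, 18, 12, 6] : List ℕ).getD i.val 0))
        (fun i => g (([2, 4, 10, 16, 22, 20, 14, 8] : List ℕ).getD i.val 0)))
      (fun a => by rw [dword_inv]; rcases a with i | i <;> rfl),
    Fintype.sum_sum_type]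
  show (∑ i : Fin 8, g (([0, 6, 12, 18, 24, 18, 12, 6] : List ℕ).getD i.val 0)) +
    (∑ i : Fin 8, g (([2, 4, 10, 16, 22, 20, 14, 8] : List ℕ).getD i.val 0)) = _
  rw [Fin.sum_univ_eight, Fin.sum_univ_eight]
  simp only [List.map_cons, List.map_nil, List.sum_cons, List.sum_nil]
  show g 0 + g 6 + g 12 + g 18 + g 24 + g 18 + g 12 + g 6 + (g 2 + g 4 + g 10 + g 16 + g 22 + g 20 + g 14 + g 8) = _
  ring

include hK in
theorem card_U1 :
    Nat.card ↥(chevF4.posUnipotent K ⊓ twistedF4 K ε) = (2 ^ (2 * m + 1)) ^ 12 := by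
  have h := (classes (K := K) m hK).card_U1
  refine Nat.pow_left_injective (two_ne_zero) ?_
  show _ ^ 2 = _ ^ 2
  rw [show (classes (K := K) m hK).e = 2 from rfl] at h
  rw [h, ← pow_mul]
  rfl

theorem order_arith (q : ℕ) (hq : 1 ≤ q) :
    (q - 1) ^ 2 * q ^ 12 *
        (([0, 6, 12, 18, 24, 18, 12, 6, 2, 4, 10, 16, 22, 20, 14, 8] : List ℕ).map fun i => q ^ (i / 2)).sum =
      q ^ 12 * (q - 1) * (q ^ 3 + 1) * (q ^ 4 - 1) * (q ^ 6 + 1) := by
  obtain ⟨k, rfl⟩ : ∃ k, q = k + 1 := ⟨q - 1, by omega⟩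
  have h4 : (k + 1) ^ 4 - 1 = k * (((k + 1) + 1) * ((k + 1) ^ 2 + 1)) := by
    have : (k + 1) ^ 4 = k * (((k + 1) + 1) * ((k + 1) ^ 2 + 1)) + 1 := by ring
    omega
  rw [h4, Nat.add_sub_cancel]
  norm_num
  ring

include hK in
theorem card_group : Nat.card ↥(twistedF4 K ε) =
    (2 ^ (2 * m + 1)) ^ 12 * (2 ^ (2 * m + 1) - 1) * ((2 ^ (2 * m + 1)) ^ 3 + 1) * ((2 ^ (2 * m + 1)) ^ 4 - 1) *
      ((2 ^ (2 * m + 1)) ^ 6 + 1) := by
  have : Fintype ↥(tw (K := K) m).fixW := Fintype.ofFinite _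
  have hsum := sum_fixW m hK fun i => (2 ^ (2 * m + 1)) ^ (i / 2)
  rw [(classes (K := K) m hK).card_G1, (classes (K := K) m hK).card_B1, card_H1 m hK, card_U1 m hK,
    ← order_arith _ Nat.one_le_two_pow, ← hsum]
  congr 1
  refine Finset.sum_congr rfl fun w _ => ?_
  have h := ((classes (K := K) m hK).main w.2).2.1
  rw [show (classes (K := K) m hK).e = 2 from rfl] at h
  obtain ⟨φ, hφ⟩ := exists_fixW m hK
  have heven : 2 ∣ (tw (K := K) m).X.inv (w : (tw (K := K) m).X.W) := by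
    obtain ⟨a, rfl⟩ := φ.surjective w
    rw [hφ]
    exact dword_even a
  obtain ⟨k, hk⟩ := heven
  rw [hk] at h ⊢
  rw [Nat.mul_div_cancel_left k two_pos]
  refine Nat.pow_left_injective two_ne_zero ?_
  show _ ^ 2 = _ ^ 2
  rw [h, show (classes (K := K) m hK).Q = 2 ^ (2 * m + 1) from rfl, ← pow_mul _ k 2, mul_comm k 2]

include hK in
theorem exists_N1 :
    ∃ φ : ↥(chevF4.monomialSubgroup K ⊓ twistedF4 K ε) →* DihedralGroup 8, Function.Surjective φ ∧
      φ.ker = (chevF4.diagonalSubgroup K ⊓ twistedF4 K ε).subgroupOf (chevF4.monomialSubgroup K ⊓ twistedF4 K ε) := by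
  obtain ⟨e, -⟩ := exists_fixW (K := K) m hK
  obtain ⟨φ, hs, hk⟩ := (classes (K := K) m hK).exists_N1_hom
  refine ⟨e.symm.toMonoidHom.comp φ, e.symm.surjective.comp hs, ?_⟩
  rw [← hk]
  ext x
  simp

theorem simple_list : ∀ J : Bool, ∀ i < chevF4.rank, ∀ s ∈ lstF J, s ≠ chevF4.simple i →
    chevF4.IsPosRoot s ∧ s ≠ chevF4.simple i := by
  decide +kernel

include hK in
theorem coef : ∀ i < chevF4.rank, ∃ v ∈ upSub chevF4 K i, ∃ a : K, a ≠ 0 ∧
    v * xg cf (chevF4.simple i) a ∈ (tw (K := K) m).UF ((tw m).wd (clF (clsF i))) := by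
  have hup : ∀ (J : Bool) (i : ℕ) (s : ℕ) (t : K), i < chevF4.rank → s ∈ lstF J → s ≠ chevF4.simple i →
      xg cf s t ∈ upSub chevF4 K i := fun J i s t hi hs hne =>
    (tw m).S.xg_mem_upSub (simple_list J i hi s hs hne).1 hne t
  have hne : f4p4 ≠ f4p1 ∧ f4b ≠ f4a ∧ f4ab ≠ f4a ∧ f4aab ≠ f4a ∧ f4a ≠ f4b ∧ f4ab ≠ f4b ∧ f4aab ≠ f4b := by
    decide +kernel
  obtain ⟨n1, n2, n3, n4, n5, n6, n7⟩ := hne
  obtain ⟨e0, e1, e2, e3, -⟩ := roots_eq
  have ht : pr (1 : K) 1 ∈ (tw (K := K) m).UF ((tw m).wd (clF false)) :=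
    ⟨pr_mem_Uw m _ _, le_fixed m hK (by simpa using (gens_mem (K := K) m 1 1).1)⟩
  have hb : bw (K := K) m bl 1 0 ∈ (tw (K := K) m).UF ((tw m).wd (clF true)) :=
    ⟨four_mem_Uw m _ _ _ _, le_fixed m hK (gens_mem (K := K) m 1 0).2.2.1⟩
  have hbv : bw (K := K) m bl 1 0 = four bl 1 1 1 0 := by simp [bw]
  rw [hbv] at hb
  intro i hi
  have hi' : i = 0 ∨ i = 1 ∨ i = 2 ∨ i = 3 := by
    rw [show chevF4.rank = 4 from rfl] at hi
    omega
  rcases hi' with rfl | rfl | rfl | rfl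
  · refine ⟨xg cf f4p4 1, hup false _ _ _ hi (by simp [lstF]) (e0 ▸ n1), 1, one_ne_zero, ?_⟩
    rw [e0, ← (comm_pair (by simp) (by simp) _ _).eq]
    exact ht
  · refine ⟨four bl 0 1 0 1, ?_, 1, one_ne_zero, ?_⟩
    · unfold four
      rw [xg_zero, one_mul]
      exact mul_mem (mul_mem (hup true _ _ _ hi (by simp [lstF, bl]) (e1 ▸ n2))
        (hup true _ _ _ hi (by simp [lstF, bl]) (e1 ▸ n3))) (hup true _ _ _ hi (by simp [lstF, bl]) (e1 ▸ n4))
    · rw [e1, show xg cf f4a (1 : K) = four bl 1 0 0 0 from (four_single bl 1).1.symm, four_mul (by simp)]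
      rw [show clsF 1 = true from rfl]
      simpa [CharTwo.add_self_eq_zero] using hb
  · refine ⟨four bl 1 0 1 0, ?_, 1, one_ne_zero, ?_⟩
    · unfold four
      rw [xg_zero, mul_one, xg_zero, mul_one]
      exact mul_mem (hup true _ _ _ hi (by simp [lstF, bl]) (e2 ▸ n5))
        (hup true _ _ _ hi (by simp [lstF, bl]) (e2 ▸ n6))
    · rw [e2, show xg cf f4b (1 : K) = four bl 0 1 0 0 from (four_single bl 1).2.1.symm, four_mul (by simp)]
      rw [show clsF 2 = true from rfl]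
      simpa using hb
  · refine ⟨xg cf f4p1 1, hup false _ _ _ hi (by simp [lstF]) (e3 ▸ n1.symm), 1, one_ne_zero, ?_⟩
    rw [e3]
    exact ht

omit [CharP K 2] in
theorem charP_two (hK : Fintype.card K = 2 ^ (2 * m + 1)) : CharP K 2 :=
  charP_of_card_eq_prime_pow (f := 2 * m + 1) hK

end Cfsg.Agent.TwistedF4Classes
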