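import Cfsg.Agent.Lib.Radical42Rigid
import Cfsg.Agent.Lib.Radical42TwistInst
import Cfsg.Agent.Lib.TwistAutRigid
import Cfsg.Agent.Lib.ChevDefiningBlocks

/-!
Connectedness for Chevalley groups and twisted groups with at least two classes of fundamental roots.
-/

set_option autoImplicit false
set_option linter.unusedSectionVars false

namespace Cfsg.Agent.Radical42BNTop

open Cfsg.Lie Cfsg.Agent.ChevalleyCert Cfsg.Agent.ChevBruhat Cfsg.Agent.TwistedCore
open Cfsg.Agent.ChevalleyCore Cfsg.Agent.ChevalleyRoots Cfsg.Agent.Radical42Rigid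

theorem closure_of_bnPair {G : Type*} [Group G] (P : Cfsg.BNPair G) :
    Subgroup.closure ((P.B : Set G) ∪ P.S) = ⊤ := by
  rw [eq_top_iff, ← P.sup_eq_top, ← P.closure_sup]
  refine sup_le (fun b hb => Subgroup.subset_closure (Or.inl hb)) (sup_le (Subgroup.closure_mono Set.subset_union_right)
    fun b hb => Subgroup.subset_closure (Or.inl hb.1))

section Chev

variable {D : ChevalleyDatum} (C : Cert D) {F : Type*} [Field F] (S : Sys D F) [Fintype F] (p : ℕ)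
  [Fact p.Prime] [CharP F p]

include C S in
theorem chevalley [IsSimpleGroup ↥(D.group F)] (h2 : 2 ≤ D.rank) : Connected ↥(D.group F) p := by
  have hrk : ∀ i : Fin D.rank, ∃ j : Fin D.rank, j ≠ i := fun i => by
    by_cases hi : (i : ℕ) = 0
    · exact ⟨⟨1, by omega⟩, fun h => by simp [← h] at hi⟩
    · exact ⟨⟨0, by omega⟩, fun h => hi (congrArg Fin.val h.symm)⟩
  have hU : IsPGroup p ↥((D.posUnipotent F).subgroupOf (D.group F)) :=
    ((ChevDefiningBlocks.isPGroup_U C S p)).of_equiv (Subgroup.subgroupOfEquivOfLe S.U_le_group).symm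
  have hx : ∀ j : Fin D.rank, ChevAutRigid.xG C (D.simple j) (1 : F) ≠ 1 := fun j h =>
    one_ne_zero (ChevAutRigid.xG_inj' C (S.X.simple_lt j.isLt) (h.trans (ChevAutRigid.xG_zero C _).symm))
  have hxU : ∀ j : Fin D.rank, ChevAutRigid.xG C (D.simple j) (1 : F) ∈ (D.posUnipotent F).subgroupOf (D.group F) :=
    fun j => by
      rw [Subgroup.mem_subgroupOf, ChevAutRigid.coe_xG, ← ChevAutRigid.sxg C S]
      exact S.xg_mem_U (S.X.simple_pos j.isLt) 1
  refine connected_of_gen _ hU (fun h => hx ⟨0, by omega⟩ (Subgroup.mem_bot.1 (h ▸ hxU _))) _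
    (closure_of_bnPair S.bnPair) ?_
  rintro s (hs | hs)
  · obtain ⟨h, hh, u, hu, e⟩ := S.mem_B_iff.mp (show (s : GL D.Idx F) ∈ D.borelSubgroup F from hs)
    refine ⟨_, hxU ⟨0, by omega⟩, hx _, ?_⟩
    show (s : GL D.Idx F) * _ * (s : GL D.Idx F)⁻¹ ∈ D.posUnipotent F
    have hv : ((ChevAutRigid.xG C (D.simple (0 : ℕ)) (1 : F) : ↥(D.group F)) : GL D.Idx F) ∈ D.posUnipotent F :=
      hxU ⟨0, by omega⟩
    have h1 := S.H_conj_U hh (mul_mem (mul_mem hu hv) (inv_mem hu))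
    rw [e]
    simpa [mul_assoc] using h1
  · obtain ⟨i, he⟩ := S.sSet_eq hs
    obtain ⟨j, hj⟩ := hrk i
    refine ⟨_, hxU j, hx j, ?_⟩
    show (s : GL D.Idx F) * _ * (s : GL D.Idx F)⁻¹ ∈ D.posUnipotent F
    rw [he, ChevAutRigid.coe_xG, ← ChevAutRigid.sxg C S]
    refine Sys.upSub_le_U _ (S.nn_conj_upSub i (S.xg_mem_upSub (S.X.simple_pos j.isLt) (fun h => hj ?_) 1))
    have hc := S.X.cor_simple (i := (j : ℕ)) (j := (i : ℕ)) j.isLt i.isLt
    rw [h, S.X.cor_simple i.isLt i.isLt, if_pos rfl] at hc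
    by_contra hne
    rw [if_neg (fun hh : (i : ℕ) = j => hne (Fin.ext hh.symm))] at hc
    exact one_ne_zero hc

end Chev

section Twisted

variable {D : ChevalleyDatum} {C : Cert D} {F : Type*} [Field F] [Fintype F]
  {T : Twist C F} {G1 : Subgroup (GL D.Idx F)} (K : Classes T G1) (p : ℕ) [Fact p.Prime] [CharP F p]

include K in
theorem twisted [IsSimpleGroup ↥G1] (h2 : ∀ J : K.κ, ∃ J', J' ≠ J) : Connected ↥G1 p := by
  obtain ⟨P, hP⟩ := TwistAutRigid.exists_sylow K p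
  have hU : IsPGroup p ↥(TwistAutRigid.U1 G1) := hP ▸ P.2
  have hne : ∀ J, ∃ x : ↥G1, x ∈ TwistAutRigid.U1 G1 ∧ x ≠ 1 ∧ (x : GL D.Idx F) ∈ T.S.Uw (K.cw J) := fun J => by
    obtain ⟨x, hx, hx1⟩ := TwistAutRigid.exists_ne_one K J
    exact ⟨⟨x, K.UF_le (K.cw_fix J) hx⟩, T.S.Uw_le_U _ hx.1, fun h => hx1 (congrArg Subtype.val h :), hx.1⟩
  obtain ⟨J₀, -⟩ : ∃ J : K.κ, True := ⟨K.cls 0, trivial⟩
  refine connected_of_gen _ hU (fun h => ?_) _ (closure_of_bnPair K.bnPair) ?_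
  · obtain ⟨x, hx, hx1, -⟩ := hne J₀
    exact hx1 (Subgroup.mem_bot.1 (h ▸ hx))
  rintro s (hs | hs)
  · obtain ⟨x, hx, hx1, -⟩ := hne J₀
    refine ⟨x, hx, hx1, ?_⟩
    rw [TwistAutRigid.bnPair_B, ← TwistAutRigid.normalizer_U1 K] at hs
    exact (Subgroup.mem_normalizer_iff.1 hs x).1 hx
  · obtain ⟨J, rfl⟩ := hs
    obtain ⟨J', hJ'⟩ := h2 J
    obtain ⟨x, hx, hx1, hxw⟩ := hne J'
    refine ⟨x, hx, hx1, ?_⟩
    show K.cn J * (x : GL D.Idx F) * (K.cn J)⁻¹ ∈ D.posUnipotent F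
    have hacts := T.S.acts_toW (K.cnN J)
    rw [K.cn_toW J] at hacts
    refine Sys.conj_closure_le (T := {g | ∃ r t, r ∈ T.X.invSet (K.cw J') ∧ g = T.S.xg r t}) _ ?_ hxw
    rintro y ⟨r, t, hr, rfl⟩
    have hr' := (K.mem_cw J' r).mp hr
    obtain ⟨c, -, h1, -⟩ := hacts r hr'.1.1
    rw [h1]
    refine T.S.xg_mem_U ((T.X.pos_or_neg (T.X.img_lt _ hr'.1.1)).resolve_right fun hneg => ?_) _
    have hrJ := (K.mem_cw J r).mp (T.X.mem_invSet.mpr ⟨hr'.1, hneg⟩)
    refine T.X.not_pos_and_neg hr'.1 ((T.X.neg_iff hr'.1.1).mpr fun k hk => ?_)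
    by_contra hk0
    have hne0 : ChevWeyl.cor D r k ≠ 0 := fun h => hk0 (by rw [h])
    exact hJ' ((hr'.2 k hk hne0).symm.trans (hrJ.2 k hk hne0))

end Twisted

theorem twistedE6 {K : Type} [Field K] [Fintype K] (p : ℕ) [Fact p.Prime] [CharP K p] {q : ℕ}
    (hK : Fintype.card K = q ^ 2) [IsSimpleGroup ↥(twistedE6 K q)] : Connected ↥(twistedE6 K q) p := by
  obtain ⟨f, hf⟩ := TwistedField.exists_frob hK two_ne_zero
  refine twisted (TwistedE6.classes f hf hK) p ?_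
  show ∀ J : Fin 2 ⊕ Fin 2, ∃ J', J' ≠ J
  decide

theorem twistedD4 {K : Type} [Field K] [Fintype K] (p : ℕ) [Fact p.Prime] [CharP K p] {q : ℕ}
    (hK : Fintype.card K = q ^ 3) [IsSimpleGroup ↥(twistedD4 K q)] : Connected ↥(twistedD4 K q) p := by
  obtain ⟨f, hf⟩ := TwistedField.exists_frob hK three_ne_zero
  refine twisted (TwistedD4.classes f hf hK) p ?_
  show ∀ J : Bool, ∃ J', J' ≠ J
  decide

theorem twistedF4 {K : Type} [Field K] [Fintype K] [CharP K 2] {m : ℕ} (hK : Fintype.card K = 2 ^ (2 * m + 1))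
    [IsSimpleGroup ↥(twistedF4 K (2 ^ m))] : Connected ↥(twistedF4 K (2 ^ m)) 2 := by
  haveI := Fact.mk Nat.prime_two
  refine twisted (TwistedF4Classes.classes m hK) 2 fun J => ?_
  by_contra hc
  push Not at hc
  have h : ∀ i k, (TwistedF4Classes.classes m hK).cls i = (TwistedF4Classes.classes m hK).cls k :=
    fun i k => (hc _).trans (hc _).symm
  obtain ⟨n, hn⟩ := (TwistedF4Classes.classes m hK).orbit 0 (by decide) 1 (by decide) (h 1 0)
  revert hn
  have key : ∀ k : ℕ, (TwistedF4Classes.tw (K := K) m).ρs^[k] 0 = 0 ∨ (TwistedF4Classes.tw (K := K) m).ρs^[k] 0 = 3 := by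
    intro k
    induction k with
    | zero => exact Or.inl rfl
    | succ k ih =>
      rw [Function.iterate_succ_apply']
      rcases ih with e | e <;> rw [e]
      · exact Or.inr rfl
      · exact Or.inl rfl
  rcases key n with e | e <;> rw [e] <;> omega

end Cfsg.Agent.Radical42BNTop
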