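import Cfsg.Agent.Lib.Radical42Basic

/-!
An automorphism of order prime to `p` fixing a Sylow `p`-subgroup: its fixed points contain the normalisers of their
non-trivial `p`-subgroups, hence are everything when the `p`-local structure is connected.
-/

set_option autoImplicit false
set_option linter.unusedSectionVars false

namespace Cfsg.Agent.Radical42Rigid

open Cfsg.Agent.DefiningBlocksGeneric

/-- contains the normalisers of its non-trivial `p`-subgroups -/
def Closed {G : Type*} [Group G] (p : ℕ) (Y : Subgroup G) : Prop :=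
  ∀ Q : Subgroup G, IsPGroup p Q → Q ≠ ⊥ → Q ≤ Y → Subgroup.normalizer (Q : Set G) ≤ Y

/-- only the whole group is closed and contains a Sylow `p`-subgroup -/
def Connected (G : Type*) [Group G] (p : ℕ) : Prop :=
  ∀ Y : Subgroup G, (∃ U : Sylow p G, (U : Subgroup G) ≤ Y) → Closed p Y → Y = ⊤

/-- automorphisms of order prime to `p` fixing a Sylow `p`-subgroup are trivial -/
def Rigid (G : Type*) [Group G] (p : ℕ) : Prop :=
  ∀ α : MulAut G, ¬ p ∣ orderOf α → ∀ U : Sylow p G, (∀ x ∈ (U : Subgroup G), α x = x) → α = 1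

variable {G : Type*} [Group G] [Finite G] {p : ℕ} [hp : Fact p.Prime]

/-- the fixed points of an automorphism -/
def fixed (α : MulAut G) : Subgroup G where
  carrier := {x | α x = x}
  one_mem' := map_one α
  mul_mem' {a b} ha hb := by
    show α (a * b) = a * b
    rw [map_mul, show α a = a from ha, show α b = b from hb]
  inv_mem' {a} ha := by
    show α a⁻¹ = a⁻¹
    rw [map_inv, show α a = a from ha]

theorem mem_fixed {α : MulAut G} {x : G} : x ∈ fixed α ↔ α x = x := Iff.rfl

/-- in a `p`-group a proper subgroup grows in its normaliser -/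
theorem exists_grow {P A : Subgroup G} (hP : IsPGroup p P) (hA : A ≤ P) (hne : ¬ P ≤ A) :
    ∃ y ∈ P, y ∉ A ∧ y ∈ Subgroup.normalizer (A : Set G) := by
  haveI : Group.IsNilpotent P := hP.isNilpotent
  have hlt : A.subgroupOf P < ⊤ :=
    lt_top_iff_ne_top.2 fun h => hne (Subgroup.subgroupOf_eq_top.1 h)
  obtain ⟨y, hy, hyA⟩ := SetLike.exists_of_lt (Group.normalizerCondition_of_isNilpotent _ hlt)
  refine ⟨y, y.2, fun h => hyA (Subgroup.mem_subgroupOf.2 h), Subgroup.mem_normalizer_iff.2 fun h => ⟨fun hh => ?_, fun hh => ?_⟩⟩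
  · have := (Subgroup.mem_normalizer_iff.1 hy ⟨h, hA hh⟩).1 (Subgroup.mem_subgroupOf.2 hh)
    simpa [Subgroup.mem_subgroupOf] using this
  · have hhP : h ∈ P := by
      have := mul_mem (mul_mem (inv_mem y.2) (hA hh)) y.2
      simpa [mul_assoc] using this
    have := (Subgroup.mem_normalizer_iff.1 hy ⟨h, hhP⟩).2 (by simpa [Subgroup.mem_subgroupOf] using hh)
    simpa [Subgroup.mem_subgroupOf] using this

/-- a `p`-subgroup meeting a closed subgroup non-trivially lies in it -/
theorem Closed.le_of_meet {Y : Subgroup G} (hY : Closed p Y) {P : Subgroup G} (hP : IsPGroup p P)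
    (hne : P ⊓ Y ≠ ⊥) : P ≤ Y := by
  by_contra hle
  obtain ⟨y, hyP, hy, hyN⟩ := exists_grow hP (A := P ⊓ Y) inf_le_left fun h => hle (h.trans inf_le_right)
  exact hy ⟨hyP, hY _ (hP.to_le inf_le_left) hne inf_le_right hyN⟩

omit [Finite G] in
/-- normalising pairs of subgroups -/
theorem normalizer_le_normalizer_of_conj {Q R : Subgroup G}
    (h : ∀ x ∈ Subgroup.normalizer (Q : Set G), ∀ a ∈ R, x * a * x⁻¹ ∈ R) :
    Subgroup.normalizer (Q : Set G) ≤ Subgroup.normalizer (R : Set G) := fun x hx => by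
  refine Subgroup.mem_normalizer_iff.2 fun a => ⟨h x hx a, fun ha => ?_⟩
  have := h x⁻¹ (inv_mem hx) _ ha
  simpa [mul_assoc] using this

include hp in
/-- self-centralising radicals -/
theorem exists_selfCentralizing (hG : HasRadicals G p) {Q : Subgroup G} (hQ : IsPGroup p Q) (hne : Q ≠ ⊥) :
    ∃ R : Subgroup G, Q ≤ R ∧ IsPGroup p R ∧
      Subgroup.normalizer (Q : Set G) ≤ Subgroup.normalizer (R : Set G) ∧
      Subgroup.centralizer (R : Set G) ≤ R := by
  obtain ⟨R, hQR, hR, hconj, hcent⟩ := hG Q hQ hne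
  have hNR := normalizer_le_normalizer_of_conj hconj
  set C := Subgroup.centralizer (R : Set G) with hC
  have hCp : IsPGroup p C := by
    refine IsPGroup.of_card (n := (Nat.card C).primeFactorsList.length)
      (Nat.eq_prime_pow_of_unique_prime_dvd Nat.card_pos.ne' fun {q} hq hdvd => ?_)
    haveI := Fact.mk hq
    obtain ⟨y, hy⟩ := exists_prime_orderOf_dvd_card' q hdvd
    by_contra hqp
    have h1 := hcent (y : G) (fun a ha => (Subgroup.mem_centralizer_iff.1 y.2 a ha).symm) (by
      rw [Subgroup.orderOf_coe, hy]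
      exact fun h => hqp ((Nat.prime_dvd_prime_iff_eq hp.out hq).1 h).symm)
    rw [← Subgroup.orderOf_coe, h1, orderOf_one] at hy
    exact hq.one_lt.ne hy
  have hNC : Subgroup.normalizer (R : Set G) ≤ Subgroup.normalizer (C : Set G) := by
    refine fun x hx => Subgroup.mem_normalizer_iff.2 fun c => ?_
    have key : ∀ y ∈ Subgroup.normalizer (R : Set G), ∀ d ∈ C, y * d * y⁻¹ ∈ C := fun y hy d hd => by
      refine Subgroup.mem_centralizer_iff.2 fun a ha => ?_
      have h1 := Subgroup.mem_centralizer_iff.1 hd _ ((Subgroup.mem_normalizer_iff.1 (inv_mem hy) a).1 ha)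
      calc a * (y * d * y⁻¹) = y * (y⁻¹ * a * y⁻¹⁻¹ * d) * y⁻¹ := by group
        _ = y * (d * (y⁻¹ * a * y⁻¹⁻¹)) * y⁻¹ := by rw [h1]
        _ = y * d * y⁻¹ * a := by group
    refine ⟨key x hx c, fun h => ?_⟩
    have := key x⁻¹ (inv_mem hx) _ h
    simpa [mul_assoc] using this
  refine ⟨R ⊔ C, hQR.trans le_sup_left,
    IsPGroup.to_sup_of_normal_right' hR hCp (Subgroup.le_normalizer.trans hNC), fun x hx => ?_, ?_⟩
  · rw [Subgroup.mem_normalizer_iff_map_conj_eq, Subgroup.map_sup,
      Subgroup.mem_normalizer_iff_map_conj_eq.1 (hNR hx), Subgroup.mem_normalizer_iff_map_conj_eq.1 (hNC (hNR hx))]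
  · exact (Subgroup.centralizer_le (show (R : Set G) ⊆ ↑(R ⊔ C) from fun a ha => Subgroup.mem_sup_left ha)).trans
      le_sup_right

include hp in
/-- the fixed points contain the normalisers of their non-trivial `p`-subgroups -/
theorem fixed_closed (hG : HasRadicals G p) {α : MulAut G} (hα : ¬ p ∣ orderOf α) (U : Sylow p G)
    (hfix : ∀ x ∈ (U : Subgroup G), α x = x) : Closed p (fixed α) := by
  suffices h : ∀ n : ℕ, ∀ Q : Subgroup G, Nat.card G - Nat.card Q = n → IsPGroup p Q → Q ≠ ⊥ → Q ≤ fixed α →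
      Subgroup.normalizer (Q : Set G) ≤ fixed α from fun Q => h _ Q rfl
  intro n
  induction n using Nat.strong_induction_on with
  | _ n ih =>
    intro Q hn hQ hne hQY
    obtain ⟨R, hQR, hR, hNR, hC⟩ := exists_selfCentralizing hG hQ hne
    by_cases hRQ : R ≤ Q
    · intro x hx
      have hz : x⁻¹ * α x ∈ Q := by
        refine hRQ (hC (Subgroup.mem_centralizer_iff.2 fun r hr => ?_))
        have hr' : x * r * x⁻¹ ∈ fixed α := hQY ((Subgroup.mem_normalizer_iff.1 hx r).1 (hRQ hr))
        have h1 : α x * r * (α x)⁻¹ = x * r * x⁻¹ := by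
          have h2 := mem_fixed.1 hr'
          rwa [map_mul, map_mul, map_inv, mem_fixed.1 (hQY (hRQ hr))] at h2
        calc r * (x⁻¹ * α x) = x⁻¹ * (x * r * x⁻¹) * α x := by group
          _ = x⁻¹ * (α x * r * (α x)⁻¹) * α x := by rw [h1]
          _ = x⁻¹ * α x * r := by group
      set z := x⁻¹ * α x with hzdef
      have hpow : ∀ k : ℕ, (α ^ k) x = x * z ^ k := by
        intro k
        induction k with
        | zero => simp
        | succ k ihk =>
          rw [pow_succ', MulAut.mul_apply, ihk, map_mul, map_pow, mem_fixed.1 (hQY hz), hzdef, pow_succ',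
            ← mul_assoc x, mul_inv_cancel_left]
      have h0 : z ^ orderOf α = 1 := by
        have := hpow (orderOf α)
        rw [pow_orderOf_eq_one, MulAut.one_apply] at this
        exact mul_left_cancel (a := x) (by rw [← this, mul_one])
      obtain ⟨k, hk⟩ := hQ ⟨z, hz⟩
      have hk' : z ^ p ^ k = 1 := congrArg Subtype.val hk
      have hz1 : z = 1 := by
        have hd := Nat.dvd_gcd (orderOf_dvd_of_pow_eq_one hk') (orderOf_dvd_of_pow_eq_one h0)
        rw [((hp.out.coprime_iff_not_dvd.2 hα).pow_left k).gcd_eq_one, Nat.dvd_one, orderOf_eq_one_iff] at hd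
        exact hd
      show α x = x
      calc α x = x * z := by rw [hzdef]; group
        _ = x := by rw [hz1, mul_one]
    · -- `Q` is not a Sylow subgroup
      set N := Subgroup.normalizer (Q : Set G) with hN
      obtain ⟨T0, hQT⟩ : ∃ T : Sylow p ↥(fixed α ⊓ N), Q.subgroupOf (fixed α ⊓ N) ≤ T :=
        (hQ.of_equiv (Subgroup.subgroupOfEquivOfLe (le_inf hQY Subgroup.le_normalizer)).symm).exists_le_sylow
      set T := (T0 : Subgroup ↥(fixed α ⊓ N)).map (fixed α ⊓ N).subtype with hT
      have hTp : IsPGroup p T := T0.2.map _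
      have hTYN : T ≤ fixed α ⊓ N := Subgroup.map_subtype_le _
      have hQT' : Q ≤ T := fun q hq =>
        ⟨⟨q, hQY hq, Subgroup.le_normalizer hq⟩, hQT (Subgroup.mem_subgroupOf.2 hq), rfl⟩
      have hTmax : ∀ P : Subgroup G, IsPGroup p P → T ≤ P → P ≤ fixed α ⊓ N → P = T := by
        intro P hP hTP hPle
        have h2 : P.subgroupOf (fixed α ⊓ N) = (T0 : Subgroup ↥(fixed α ⊓ N)) := by
          refine T0.3 (hP.of_equiv (Subgroup.subgroupOfEquivOfLe hPle).symm) fun a ha => ?_
          exact Subgroup.mem_subgroupOf.2 (hTP ⟨a, ha, rfl⟩)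
        rw [hT, ← h2, Subgroup.map_subgroupOf_eq_of_le hPle]
      -- the Sylow subgroup grows
      have hQlt : Nat.card Q < Nat.card T := by
        refine lt_of_le_of_ne (Subgroup.card_le_of_le hQT') fun he => hRQ ?_
        have hTQ : T = Q := (Subgroup.eq_of_le_of_card_ge hQT' he.ge).symm
        obtain ⟨S, hS⟩ := (hQ.comap_subtype (K := fixed α)).exists_le_sylow
        have hUY : (U : Subgroup G) ≤ fixed α := hfix
        have hcard : Nat.card S = Nat.card (U : Subgroup G) :=
          (Nat.card_congr (Equiv.refl _)).trans ((Sylow.card_eq_multiplicity S).trans (by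
            rw [← Sylow.card_eq_multiplicity (U.subtype hUY), Sylow.coe_subtype]
            exact Nat.card_congr (Subgroup.subgroupOfEquivOfLe hUY).toEquiv))
        set S' := (S : Subgroup ↥(fixed α)).map (fixed α).subtype with hS'
        have hQS : Q ≤ S' := fun q hq => ⟨⟨q, hQY hq⟩, hS hq, rfl⟩
        have hS'p : IsPGroup p S' := S.2.map _
        have hSQ : S' ≤ Q := by
          by_contra hnle
          obtain ⟨y, hyS, hyQ, hyN⟩ := exists_grow hS'p hQS hnle
          refine hyQ ?_
          rw [← hTQ, ← hTmax (S' ⊓ N) (hS'p.to_le inf_le_left) (hTQ ▸ le_inf hQS Subgroup.le_normalizer)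
            (le_inf (inf_le_left.trans (Subgroup.map_subtype_le _)) inf_le_right)]
          exact ⟨hyS, hyN⟩
        obtain ⟨P, hP⟩ := hR.exists_le_sylow
        refine (Subgroup.eq_of_le_of_card_ge hQR ?_).ge
        refine (Subgroup.card_le_of_le hP).trans ?_
        rw [Sylow.card_eq_multiplicity P, ← Sylow.card_eq_multiplicity U, ← hcard]
        calc Nat.card S = Nat.card S' := Nat.card_congr (Subgroup.equivMapOfInjective _ _ (fixed α).subtype_injective).toEquiv
          _ ≤ Nat.card Q := Subgroup.card_le_of_le hSQ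
      have hsmall : ∀ Q' : Subgroup G, Nat.card Q < Nat.card Q' → Nat.card G - Nat.card Q' < n := fun Q' h => by
        have := Subgroup.card_le_card_group Q'
        omega
      have hTne : T ≠ ⊥ := fun e => hne (le_bot_iff.1 (e ▸ hQT'))
      have hNT := ih _ (hsmall T hQlt) T rfl hTp hTne (hTYN.trans inf_le_left)
      -- it is a Sylow subgroup of the normaliser
      have hTN : ∀ P : Subgroup G, IsPGroup p P → T ≤ P → P ≤ N → P = T := by
        intro P hP hTP hPN
        by_contra hPT
        obtain ⟨y, hyP, hyT, hyN⟩ := exists_grow hP hTP fun h => hPT (le_antisymm h hTP)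
        refine hyT ?_
        rw [← hTmax (P ⊓ Subgroup.normalizer (T : Set G)) (hP.to_le inf_le_left) (le_inf hTP Subgroup.le_normalizer)
          (le_inf (inf_le_right.trans hNT) (inf_le_left.trans hPN))]
        exact ⟨hyP, hyN⟩
      set Q1 := R ⊓ N with hQ1
      have hQ1n : N ≤ Subgroup.normalizer (Q1 : Set G) := fun x hx => by
        refine Subgroup.mem_normalizer_iff.2 fun a => ?_
        simp only [hQ1, Subgroup.mem_inf]
        refine and_congr (Subgroup.mem_normalizer_iff.1 (hNR hx) a) ⟨fun ha => mul_mem (mul_mem hx ha) (inv_mem hx),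
          fun ha => ?_⟩
        have := mul_mem (mul_mem (inv_mem hx) ha) hx
        simpa [mul_assoc] using this
      have hQ1T : Q1 ≤ T := by
        have h1 := hTN (T ⊔ Q1) (IsPGroup.to_sup_of_normal_right' hTp (hR.to_le inf_le_left)
          ((hTYN.trans inf_le_right).trans hQ1n)) le_sup_left (sup_le (hTYN.trans inf_le_right) inf_le_right)
        exact le_sup_right.trans h1.le
      have hQ1lt : Nat.card Q < Nat.card Q1 := by
        have hle : Q ≤ Q1 := le_inf hQR Subgroup.le_normalizer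
        refine lt_of_le_of_ne (Subgroup.card_le_of_le hle) fun he => ?_
        obtain ⟨y, hyR, hyQ, hyN⟩ := exists_grow hR hQR hRQ
        exact hyQ ((Subgroup.eq_of_le_of_card_ge hle he.ge).ge ⟨hyR, hyN⟩)
      exact hQ1n.trans (ih _ (hsmall Q1 hQ1lt) Q1 rfl (hR.to_le inf_le_left)
        (fun e => hne (le_bot_iff.1 (e ▸ le_inf hQR Subgroup.le_normalizer)))
        (hQ1T.trans (hTYN.trans inf_le_left)))

include hp in
/-- connected groups with radicals are rigid -/
theorem rigid_of_connected (hG : HasRadicals G p) (hc : Connected G p) : Rigid G p := by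
  intro α hα U hU
  have h := hc (fixed α) ⟨U, hU⟩ (fixed_closed hG hα U hU)
  ext x
  exact (h ▸ Subgroup.mem_top x : x ∈ fixed α)

/-- transport -/
theorem Rigid.of_equiv {H : Type*} [Group H] [Finite H] (e : G ≃* H) (h : Rigid H p) : Rigid G p := by
  intro α hα U hU
  have hs : Function.Surjective e.toMonoidHom := e.surjective
  have h1 := h (MulAut.congr e α) (by rwa [(MulAut.congr e).orderOf_eq]) (U.mapSurjective hs)
    (by
      rw [Sylow.coe_mapSurjective]
      rintro _ ⟨x, hx, rfl⟩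
      show e (α (e.symm (e x))) = e x
      rw [e.symm_apply_apply, hU x hx])
  exact (MulAut.congr e).injective (h1.trans (map_one _).symm)

omit hp in
/-- closedness is preserved by conjugation -/
theorem Closed.conj {Y : Subgroup G} (hY : Closed p Y) (g : G) :
    Closed p (Y.map (MulAut.conj g).toMonoidHom) := by
  intro Q hQ hne hQY x hx
  set Q' := Q.comap (MulAut.conj g).toMonoidHom with hQ'
  have hle : Q' ≤ Y := fun a ha => by
    obtain ⟨b, hb, e⟩ := hQY ha
    rwa [← (MulAut.conj g).injective e]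
  have hne' : Q' ≠ ⊥ := fun e => hne (by
    rw [← Subgroup.map_comap_eq_self_of_surjective (f := (MulAut.conj g).toMonoidHom) (MulAut.conj g).surjective Q]
    show Q'.map _ = ⊥
    rw [e, Subgroup.map_bot])
  refine ⟨(MulAut.conj g).symm x, hY Q' (hQ.comap_of_injective _ (MulAut.conj g).injective) hne' hle ?_,
    MulEquiv.apply_symm_apply _ x⟩
  refine Subgroup.mem_normalizer_iff.2 fun a => ?_
  show MulAut.conj g a ∈ Q ↔ MulAut.conj g ((MulAut.conj g).symm x * a * ((MulAut.conj g).symm x)⁻¹) ∈ Q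
  rw [map_mul, map_mul, map_inv, MulEquiv.apply_symm_apply]
  exact Subgroup.mem_normalizer_iff.1 hx _

/-- simple groups: a normal closure criterion -/
theorem eq_top_of_conj [IsSimpleGroup G] {Y P : Subgroup G} (hne : P ≠ ⊥)
    (h : ∀ g : G, P.map (MulAut.conj g).toMonoidHom ≤ Y) : Y = ⊤ := by
  have hn : (Subgroup.normalClosure (P : Set G)) = ⊤ :=
    (Subgroup.normalClosure_normal.eq_bot_or_eq_top).resolve_left fun e =>
      hne (le_bot_iff.1 (e ▸ Subgroup.le_normalClosure))
  rw [← top_le_iff, ← hn]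
  refine (Subgroup.closure_le _).2 fun x hx => ?_
  obtain ⟨a, ha, hc⟩ := Group.mem_conjugatesOfSet_iff.1 hx
  obtain ⟨c, rfl⟩ := isConj_iff.1 hc
  exact h c ⟨a, ha, rfl⟩

/-- a generating set moving a `p`-subgroup so little that it still meets itself gives connectedness -/
theorem connected_of_gen [IsSimpleGroup G] (U₀ : Subgroup G) (hU₀ : IsPGroup p U₀) (hne : U₀ ≠ ⊥) (S : Set G)
    (hgen : Subgroup.closure S = ⊤) (hS : ∀ s ∈ S, ∃ u ∈ U₀, u ≠ 1 ∧ s * u * s⁻¹ ∈ U₀) : Connected G p := by
  rintro Y ⟨U, hU⟩ hY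
  obtain ⟨P, hP⟩ := hU₀.exists_le_sylow
  obtain ⟨c, hc⟩ := MulAction.exists_smul_eq G P U
  set Y' := Y.map (MulAut.conj c⁻¹).toMonoidHom with hY'
  have hY'c : Closed p Y' := hY.conj _
  have hU₀Y : U₀ ≤ Y' := fun u hu => by
    refine ⟨c * u * c⁻¹, hU ?_, by simp [mul_assoc]⟩
    rw [← hc, Sylow.coe_subgroup_smul]
    exact Subgroup.smul_mem_pointwise_smul u (MulAut.conj c) _ (hP hu)
  have hall : ∀ g : G, U₀.map (MulAut.conj g).toMonoidHom ≤ Y' := by
    intro g
    have hg : g ∈ Subgroup.closure S := hgen ▸ Subgroup.mem_top g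
    induction hg using Subgroup.closure_induction_right with
    | one =>
      rintro _ ⟨u, hu, rfl⟩
      simpa using hU₀Y hu
    | mul_right a _ s hs ha =>
      refine hY'c.le_of_meet (hU₀.map _) ?_
      obtain ⟨u, hu, hu1, hsu⟩ := hS s hs
      refine fun e => hu1 ?_
      have hm : a * s * u * (a * s)⁻¹ ∈ U₀.map (MulAut.conj (a * s)).toMonoidHom ⊓ Y' :=
        ⟨⟨u, hu, rfl⟩, ha ⟨s * u * s⁻¹, hsu, by simp [mul_assoc]⟩⟩
      rw [e, Subgroup.mem_bot, conj_eq_one_iff] at hm
      exact hm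
    | mul_inv_cancel a _ s hs ha =>
      refine hY'c.le_of_meet (hU₀.map _) ?_
      obtain ⟨u, hu, hu1, hsu⟩ := hS s hs
      refine fun e => hu1 ?_
      have hm : a * s⁻¹ * (s * u * s⁻¹) * (a * s⁻¹)⁻¹ ∈ U₀.map (MulAut.conj (a * s⁻¹)).toMonoidHom ⊓ Y' :=
        ⟨⟨_, hsu, rfl⟩, ha ⟨u, hu, by simp [mul_assoc]⟩⟩
      rw [e, Subgroup.mem_bot, conj_eq_one_iff] at hm
      exact conj_eq_one_iff.1 hm
  refine Subgroup.map_injective (f := (MulAut.conj c⁻¹).toMonoidHom) (MulAut.conj c⁻¹).injective ?_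
  rw [Subgroup.map_top_of_surjective _ (MulAut.conj c⁻¹).surjective]
  exact eq_top_of_conj hne hall

include hp in
/-- the rank one situation: two double cosets and two fixed points of the intersection -/
theorem rigid_of_two_cosets [IsSimpleGroup G] (hG : HasRadicals G p) (B U₀ : Subgroup G)
    (hU₀ : IsPGroup p U₀) (hne : U₀ ≠ ⊥) (hB : B ≤ Subgroup.normalizer (U₀ : Set G)) (htop : B ≠ ⊤) (n : G)
    (hdec : ∀ g, g ∈ B ∨ ∃ b ∈ B, ∃ b' ∈ B, g = b * n * b')
    (htwo : ∀ g, (∀ h ∈ B, n⁻¹ * h * n ∈ B → g⁻¹ * h * g ∈ B) → g ∈ B ∨ n⁻¹ * g ∈ B) : Rigid G p := by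
  intro α hα U hU
  obtain ⟨P, hP⟩ := hU₀.exists_le_sylow
  obtain ⟨c, hc⟩ := MulAction.exists_smul_eq G P U
  set β := (MulAut.conj c)⁻¹ * α * MulAut.conj c with hβ
  have hβP : ∀ x ∈ (P : Subgroup G), β x = x := fun x hx => by
    show (MulAut.conj c).symm (α (MulAut.conj c x)) = x
    rw [hU _ (by rw [← hc, Sylow.coe_subgroup_smul]; exact Subgroup.smul_mem_pointwise_smul x _ _ hx)]
    exact MulEquiv.symm_apply_apply _ x
  have hβo : ¬ p ∣ orderOf β := by
    have e : β = MulAut.conj (MulAut.conj c)⁻¹ α := by rw [MulAut.conj_apply, inv_inv]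
    rwa [e, MulEquiv.orderOf_eq]
  have hBfix : ∀ b ∈ B, β b = b := fun b hb =>
    fixed_closed hG hβo P hβP U₀ hU₀ hne (fun u hu => hβP u (hP hu)) (hB hb)
  have hn : n ∉ B := fun hn => htop (eq_top_iff.2 fun g _ =>
    (hdec g).elim id fun ⟨b, hb, b', hb', e⟩ => e ▸ mul_mem (mul_mem hb hn) hb')
  have hz : n⁻¹ * β n ∈ B := by
    refine (htwo (β n) fun h hh hh' => ?_).resolve_left fun hmem => hn ?_
    · have h2 := hBfix _ hh'
      rw [map_mul, map_mul, map_inv, hBfix h hh] at h2
      rw [h2]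
      exact hh'
    · have := β.injective (hBfix _ hmem)
      rwa [this] at hmem
  have hall : ∀ g, g⁻¹ * β g ∈ B := fun g => by
    rcases hdec g with hg | ⟨b, hb, b', hb', rfl⟩
    · rw [hBfix g hg, inv_mul_cancel]; exact one_mem B
    · rw [map_mul, map_mul, hBfix b hb, hBfix b' hb',
        show (b * n * b')⁻¹ * (b * β n * b') = b'⁻¹ * (n⁻¹ * β n) * b' by group]
      exact mul_mem (mul_mem (inv_mem hb') hz) hb'
  have h1 : β = 1 := by
    refine MulEquiv.ext fun g => ?_
    have hcore : g⁻¹ * β g ∈ B.normalCore := by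
      refine fun x => ?_
      have h := mul_mem (hall (g * x⁻¹)) (inv_mem (hall x⁻¹))
      rw [map_mul] at h
      have e : x * (g⁻¹ * β g) * x⁻¹ = (g * x⁻¹)⁻¹ * (β g * β x⁻¹) * ((x⁻¹)⁻¹ * β x⁻¹)⁻¹ := by group
      rwa [e]
    rw [(B.normalCore_normal.eq_bot_or_eq_top).resolve_right fun e => htop (top_le_iff.1 (e ▸ B.normalCore_le)),
      Subgroup.mem_bot, inv_mul_eq_one] at hcore
    exact hcore.symm
  calc α = MulAut.conj c * β * (MulAut.conj c)⁻¹ := by rw [hβ]; group
    _ = 1 := by rw [h1]; group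

end Cfsg.Agent.Radical42Rigid
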