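import Cfsg.Agent.Lib.Radical42Polar
import Cfsg.Agent.Lib.Radical42Rigid

/-!
A polar space with singular lines makes the `p`-local structure of its group connected.
-/

set_option autoImplicit false
set_option linter.unusedSectionVars false

namespace Cfsg.Agent.Radical42PolarTop

open Module Cfsg.Agent.SteinbergPolar Cfsg.Agent.Radical42Polar Cfsg.Agent.Radical42Rigid

variable {F V : Type*} [Field F] [Finite F] [AddCommGroup V] [Module F V] [Finite V] (p : ℕ) [hp : Fact p.Prime]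
  [CharP F p] {X : Type*} [Group X] [Finite X] {Γ : Geo F V} {ρ : X →* (V ≃ₗ[F] V)} (hA : Acts Γ ρ)

include hA in
theorem exists_sing_nonorth {v : V} (hv : Γ.Φ v = 0) (hv0 : v ≠ 0) {t : V} (ht : t ≠ 0) :
    ∃ v', Γ.Φ v' = 0 ∧ Γ.B t v' ≠ 0 := by
  by_cases htv : Γ.B t v = 0
  swap
  · exact ⟨v, hv, htv⟩
  obtain ⟨x, hx1, hx2⟩ : ∃ x, Γ.B x v ≠ 0 ∧ Γ.B t x ≠ 0 := by
    obtain ⟨x1, h1⟩ : ∃ x, Γ.B x v ≠ 0 := by
      by_contra hc
      push Not at hc
      exact hv0 (hA.nd v fun u => Γ.refl _ _ (hc u))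
    obtain ⟨x2, h2⟩ : ∃ x, Γ.B t x ≠ 0 := by
      by_contra hc
      push Not at hc
      exact ht (hA.nd t hc)
    by_cases a : Γ.B t x1 = 0
    · by_cases b : Γ.B x2 v = 0
      · exact ⟨x1 + x2, by rw [Γ.add_left, b, add_zero]; exact h1, by rw [Γ.add_right, a, zero_add]; exact h2⟩
      · exact ⟨x2, b, h2⟩
    · exact ⟨x1, h1, a⟩
  obtain ⟨t0, ht0⟩ := Γ.trace x
  obtain ⟨c, hc⟩ := Γ.σ_surj (-t0 / Γ.B x v)
  refine ⟨x + c • v, ?_, ?_⟩
  · rw [Γ.Φ_add, Γ.Φ_smul c v hv, Γ.smul_right, hc, div_mul_cancel₀ _ hx1, map_neg, ht0, add_zero, add_neg_cancel]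
  · rw [Γ.add_right, Γ.smul_right, htv, mul_zero, add_zero]
    exact hx2

include hA in
theorem stable_big {ε : F} (hE : HasEichler Γ ρ ε) {v : V} (hv : Γ.Φ v = 0) (hv0 : v ≠ 0) {S : Submodule F V}
    (hS : S ≠ ⊥) (hst : ∀ g, ∀ x ∈ S, ρ g x ∈ S) : finrank F V ≤ finrank F S + 1 := by
  haveI : Module.Finite F V := Module.Finite.of_finite
  obtain ⟨a, ha, ha0⟩ := (Submodule.ne_bot_iff _).1 hS
  obtain ⟨w, hw, haw⟩ := exists_sing_nonorth hA hv hv0 ha0
  have hle : Γ.perp (F ∙ w) ≤ S ⊔ (F ∙ w) := by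
    intro u hu
    obtain ⟨g, d, hg⟩ := hE w u hw (hu w (Submodule.mem_span_singleton_self w))
    set k := ε * Γ.B a u + d * Γ.B a w
    have h : Γ.B a w • u + k • w ∈ S := by
      have := sub_mem (hst g a ha) ha
      rwa [hg, add_assoc, add_sub_cancel_left] at this
    have h2 : Γ.B a w • u ∈ S ⊔ (F ∙ w) := by
      have := sub_mem (Submodule.mem_sup_left (T := F ∙ w) h)
        (Submodule.mem_sup_right (S := S) (Submodule.smul_mem _ k (Submodule.mem_span_singleton_self w)))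
      rwa [add_sub_cancel_right] at this
    exact (Submodule.smul_mem_iff _ haw).1 h2
  have htop : finrank F (Γ.perp (F ∙ w)) < finrank F ↥(S ⊔ (F ∙ w)) := by
    refine Submodule.finrank_lt_finrank_of_lt (lt_of_le_of_ne hle fun e => haw ?_)
    exact (e ▸ Submodule.mem_sup_left ha : a ∈ Γ.perp (F ∙ w)) w (Submodule.mem_span_singleton_self w)
  have h1 := finrank_perp hA (F ∙ w)
  have h2 := Submodule.finrank_add_le_finrank_add_finrank S (F ∙ w)
  have hw0 : w ≠ 0 := fun h => haw (by rw [h, Γ.zero_right])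
  rw [finrank_span_singleton hw0] at h1 h2
  omega

include hA in
theorem stable_eq_top {ε : F} (hE : HasEichler Γ ρ ε) {v : V} (hv : Γ.Φ v = 0) (hv0 : v ≠ 0)
    (hn : 3 ≤ finrank F V) {S : Submodule F V} (hS : S ≠ ⊥) (hst : ∀ g, ∀ x ∈ S, ρ g x ∈ S) : S = ⊤ := by
  haveI : Module.Finite F V := Module.Finite.of_finite
  by_contra hne
  have h1 := stable_big hA hE hv hv0 hS hst
  have h3 := finrank_perp hA S
  have h2 := stable_big hA hE hv hv0 (S := Γ.perp S) (fun h => hne (Submodule.eq_top_of_finrank_eq (by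
    rw [h, finrank_bot] at h3; omega))) fun g x hx => stable_perp hA (fun w hw => hst g⁻¹ w hw) hx
  omega

include hA hp in
/-- the centre has no elements of order `p` -/
theorem center_eq_one {ε : F} (hE : HasEichler Γ ρ ε) {v : V} (hv : Γ.Φ v = 0) (hv0 : v ≠ 0)
    (hn : 3 ≤ finrank F V) {z : X} (hz : z ∈ Subgroup.center X) {k : ℕ} (hk : z ^ p ^ k = 1) : z = 1 := by
  haveI : Module.Finite F V := Module.Finite.of_finite
  haveI : Nontrivial V := ⟨v, 0, hv0⟩
  let φ : ↥(Subgroup.zpowers z) →* Module.End F V :=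
    { toFun := fun x => (ρ x).toLinearMap
      map_one' := LinearMap.ext fun v => by simp
      map_mul' := fun a b => LinearMap.ext fun v => mul_app ρ a b v }
  have hP : IsPGroup p ↥(Subgroup.zpowers z) := fun ⟨x, hx⟩ => by
    obtain ⟨i, rfl⟩ := hx
    refine ⟨k, Subtype.ext ?_⟩
    show (z ^ i) ^ p ^ k = 1
    rw [← zpow_natCast, ← zpow_mul, mul_comm, zpow_mul, zpow_natCast, hk, one_zpow]
  obtain ⟨x, -, hx0, hx⟩ := exists_fixed p hP φ (S := ⊤) top_ne_bot fun _ _ _ => Submodule.mem_top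
  let S : Submodule F V :=
    { carrier := {y | ρ z y = y}
      add_mem' := fun {a b} ha hb => by
        show ρ z (a + b) = a + b
        rw [map_add, show ρ z a = a from ha, show ρ z b = b from hb]
      zero_mem' := map_zero _
      smul_mem' := fun c a ha => by
        show ρ z (c • a) = c • a
        rw [map_smul, show ρ z a = a from ha] }
  have hS : S = ⊤ := stable_eq_top hA hE hv hv0 hn (fun h => hx0 ((Submodule.mem_bot F).1
      (h ▸ (show x ∈ S from hx ⟨z, Subgroup.mem_zpowers z⟩)))) fun g y hy => by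
    show ρ z (ρ g y) = ρ g y
    rw [← mul_app, ← Subgroup.mem_center_iff.1 hz g, mul_app, show ρ z y = y from hy]
  exact hA.inj (LinearEquiv.ext fun y => ((hS ▸ Submodule.mem_top : y ∈ S)).trans (by simp))

include hA hp in
/-- connectedness from the singular points -/
theorem connected {G : Type*} [Group G] [Finite G] [IsSimpleGroup G] (π : X →* G) (hπ : Function.Surjective π)
    (hker : π.ker ≤ Subgroup.center X) {ε : F} (hE : HasEichler Γ ρ ε)
    (hpres : ∀ g v, Γ.Φ v = 0 → Γ.Φ (ρ g v) = 0) (hn : 4 ≤ finrank F V)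
    (hW : ∀ Q : Subgroup X, IsPGroup p Q → Q ≠ ⊥ → ∃ W : Submodule F V, W ≠ ⊥ ∧ Γ.Sing W ∧
      ∀ x ∈ Subgroup.normalizer (Q : Set X), ∀ w ∈ W, ρ x w ∈ W)
    (hpl : ∃ a b, Γ.Φ a = 0 ∧ Γ.Φ b = 0 ∧ Γ.B a b = 0 ∧ a ≠ 0 ∧ b ∉ F ∙ a) : Connected G p := by
  haveI : Module.Finite F V := Module.Finite.of_finite
  rintro Y ⟨U, hU⟩ hY
  obtain ⟨a, b, ha, hb, hab, ha0, hba⟩ := hpl
  -- `p`-subgroups survive in the quotient
  have hmap : ∀ P : Subgroup X, IsPGroup p P → P ≠ ⊥ → P.map π ≠ ⊥ := by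
    intro P hP hne he
    obtain ⟨⟨x, hx⟩, hx1⟩ := Subgroup.ne_bot_iff_exists_ne_one.1 hne
    obtain ⟨k, hk⟩ := hP ⟨x, hx⟩
    refine hx1 (Subtype.ext (center_eq_one p hA hE ha ha0 (by omega) (k := k) (hker ?_) (congrArg Subtype.val hk)))
    exact Subgroup.mem_bot.1 (he ▸ ⟨x, hx, rfl⟩)
  have hmeet : ∀ P Q : Subgroup X, IsPGroup p P → Q ≤ P → Q ≠ ⊥ → Q.map π ≤ Y → P.map π ≤ Y := by
    intro P Q hP hQP hne hQY
    refine hY.le_of_meet (hP.map π) fun e => hmap Q (hP.to_le hQP) hne (le_bot_iff.1 ?_)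
    rw [← e]
    exact le_inf (Subgroup.map_mono hQP) hQY
  let R : V → Subgroup X := fun v => rad (Γ := Γ) (ρ := ρ) (F ∙ v)
  have hnorm : ∀ (x : X) (v : V), v ≠ 0 → ρ x v ∈ F ∙ v → x ∈ Subgroup.normalizer (R v : Set X) := by
    intro x v hv hx
    obtain ⟨c, hc⟩ := Submodule.mem_span_singleton.1 hx
    have hc0 : c ≠ 0 := fun h => hv ((ρ x).map_eq_zero_iff.1 (by rw [← hc, h, zero_smul]))
    have hx' : ρ x⁻¹ v ∈ F ∙ v := by
      refine Submodule.mem_span_singleton.2 ⟨c⁻¹, ?_⟩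
      have h := congrArg (ρ x⁻¹) hc
      rw [map_smul, inv_app] at h
      rw [eq_comm, ← inv_smul_smul₀ hc0 (ρ x⁻¹ v), h]
    have st : ∀ {y : X}, ρ y v ∈ F ∙ v → ∀ w ∈ F ∙ v, ρ y w ∈ F ∙ v := fun {y} hy w hw => by
      obtain ⟨e, rfl⟩ := Submodule.mem_span_singleton.1 hw
      rw [map_smul]
      exact Submodule.smul_mem _ _ hy
    refine Subgroup.mem_normalizer_iff.2 fun r => ⟨fun hr => rad_conj hA (st hx) (st hx') hr, fun hr => ?_⟩
    have := rad_conj hA (x := x⁻¹) (st hx') (fun w hw => by rw [inv_inv]; exact st hx w hw) hr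
    simpa [R, mul_assoc] using this
  have hplane : ∀ v u, v ≠ 0 → Γ.Φ v = 0 → Γ.Φ u = 0 → Γ.B u v = 0 → u ∉ F ∙ v →
      ∃ t : X, t ≠ 1 ∧ t ∈ R v ∧ ρ t u = u ∧ ρ t v = v ∧
        t ∈ rad (Γ := Γ) (ρ := ρ) ((F ∙ v) ⊔ (F ∙ u)) := by
    intro v u hv0 hv hu huv hind
    set W := (F ∙ v) ⊔ (F ∙ u)
    have hvW : v ∈ W := Submodule.mem_sup_left (Submodule.mem_span_singleton_self v)
    have huW : u ∈ W := Submodule.mem_sup_right (Submodule.mem_span_singleton_self u)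
    have hsing : Γ.Sing W := (Γ.sing_span hv).sup (Γ.sing_span hu) fun w hw => by
      obtain ⟨c, rfl⟩ := Submodule.mem_span_singleton.1 hw
      exact Γ.mem_perp_span (by rw [Γ.smul_left, Γ.refl _ _ huv, mul_zero])
    obtain ⟨t, d, ht⟩ := hE v u hv huv
    have hfix : ∀ w ∈ Γ.perp W, ρ t w = w := fun w hw => by
      rw [ht, hw v hvW, hw u huW]; simp
    have hdiff : ∀ w, ρ t w - w ∈ W := fun w => by
      rw [ht, add_assoc, add_sub_cancel_left]
      exact add_mem (W.smul_mem _ huW) (W.smul_mem _ hvW)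
    refine ⟨t, fun h => ?_, ⟨fun w hw => hfix w (hsing.2 ((le_sup_left : F ∙ v ≤ W) hw)), fun w hw => ?_,
      fun w => ?_⟩, hfix u (hsing.2 huW), hfix v (hsing.2 hvW),
      ⟨fun w hw => hfix w (hsing.2 hw), fun w hw => by rw [hfix w hw, sub_self]; exact zero_mem _,
        fun w => hsing.2 (hdiff w)⟩⟩
    · obtain ⟨x, hx⟩ : ∃ x, Γ.B x v ≠ 0 := by
        by_contra hc
        push Not at hc
        exact hv0 (hA.nd v fun y => Γ.refl _ _ (hc y))
      have h2 := ht x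
      rw [h, map_one, add_assoc] at h2
      have h3 : Γ.B x v • u + (ε * Γ.B x u + d * Γ.B x v) • v = 0 := add_eq_left.1 h2.symm
      refine hind ((Submodule.smul_mem_iff _ hx).1 ?_)
      rw [eq_neg_of_add_eq_zero_left h3]
      exact neg_mem (Submodule.smul_mem _ _ (Submodule.mem_span_singleton_self v))
    · rw [ht, add_assoc, add_sub_cancel_left, hw v (Submodule.mem_span_singleton_self v), zero_smul, zero_add]
      exact Submodule.smul_mem _ _ (Submodule.mem_span_singleton_self v)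
    · exact Γ.mem_perp_span (hsing.2 (hdiff w) v hvW)
  let good : V → Prop := fun v => (R v).map π ≤ Y
  have hother : ∀ v, Γ.Φ v = 0 → v ≠ 0 → ∃ u, Γ.Φ u = 0 ∧ Γ.B u v = 0 ∧ u ∉ F ∙ v := by
    intro v hv hv0
    by_contra hc
    push Not at hc
    have hsing : Γ.Sing ((F ∙ a) ⊔ (F ∙ b)) := (Γ.sing_span ha).sup (Γ.sing_span hb) fun w hw => by
      obtain ⟨c, rfl⟩ := Submodule.mem_span_singleton.1 hw
      exact Γ.mem_perp_span (by rw [Γ.smul_left, hab, mul_zero])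
    have h1 := Γ.finrank_le_inf_perp ((F ∙ a) ⊔ (F ∙ b)) (F ∙ v)
    have hle : ((F ∙ a) ⊔ (F ∙ b)) ⊓ Γ.perp (F ∙ v) ≤ F ∙ v := fun u hu =>
      hc u (hsing.1 u hu.1) (hu.2 v (Submodule.mem_span_singleton_self v))
    have h2 := Submodule.finrank_mono hle
    have h3 : 2 ≤ finrank F ↥((F ∙ a) ⊔ (F ∙ b)) := by
      have := Submodule.finrank_lt_finrank_of_lt (show F ∙ a < (F ∙ a) ⊔ (F ∙ b) from
        lt_of_le_of_ne le_sup_left fun e => hba (e ▸ Submodule.mem_sup_right (Submodule.mem_span_singleton_self b)))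
      rw [finrank_span_singleton ha0] at this
      omega
    rw [finrank_span_singleton hv0] at h1 h2
    by_cases hva : v ∈ (F ∙ a) ⊔ (F ∙ b)
    · have hab' : ∀ w ∈ (F ∙ a) ⊔ (F ∙ b), w ∈ F ∙ v := fun w hw => hle ⟨hw, Γ.mem_perp_span (hsing.2 hw v hva)⟩
      have h4 := Submodule.finrank_mono hab'
      rw [finrank_span_singleton hv0] at h4
      omega
    · have h5 : ((F ∙ a) ⊔ (F ∙ b)) ⊓ Γ.perp (F ∙ v) = ⊥ := eq_bot_iff.2 fun u hu => by
        obtain ⟨c, hc'⟩ := Submodule.mem_span_singleton.1 (hle hu)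
        by_cases hc0 : c = 0
        · rw [← hc', hc0, zero_smul]; exact zero_mem _
        · exact absurd ((Submodule.smul_mem_iff _ hc0).1 (hc' ▸ hu.1)) hva
      rw [h5, finrank_bot] at h1
      omega
  -- propagation along singular lines
  have hstep : ∀ v u, v ≠ 0 → u ≠ 0 → Γ.Φ v = 0 → Γ.Φ u = 0 → Γ.B u v = 0 → u ∉ F ∙ v → good v → good u := by
    intro v u hv0 hu0 hv hu huv hind hgood
    obtain ⟨t, ht1, htv, htu, -, htW⟩ := hplane v u hv0 hv hu huv hind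
    set P := rad (Γ := Γ) (ρ := ρ) ((F ∙ v) ⊔ (F ∙ u))
    have hPu : P ≤ Subgroup.normalizer (R u : Set X) := fun x hx => hnorm x u hu0 (by
      rw [hx.1 u (Submodule.mem_sup_right (Submodule.mem_span_singleton_self u))]
      exact Submodule.mem_span_singleton_self u)
    refine le_trans (Subgroup.map_mono le_sup_left) (hmeet (R u ⊔ P) (Subgroup.zpowers t)
      (IsPGroup.to_sup_of_normal_left' (isPGroup_rad p hA _) (isPGroup_rad p hA _) hPu) ?_ ?_ ?_)
    · exact Subgroup.zpowers_le.2 (Subgroup.mem_sup_right htW)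
    · exact fun h => ht1 (Subgroup.mem_bot.1 (h ▸ Subgroup.mem_zpowers t))
    · exact (Subgroup.map_mono (Subgroup.zpowers_le.2 htv)).trans hgood
  -- a first good point
  obtain ⟨u₁, hu₁, hu₁a, hu₁i⟩ := hother a ha ha0
  obtain ⟨t₁, ht₁, ht₁R, -⟩ := hplane a u₁ ha0 ha hu₁ hu₁a hu₁i
  have hRa : R a ≠ ⊥ := fun h => ht₁ (Subgroup.mem_bot.1 (h ▸ ht₁R))
  obtain ⟨S, hS⟩ := Sylow.mapSurjective_surjective hπ p U
  obtain ⟨P₁, hP₁⟩ := (isPGroup_rad p hA (F ∙ a)).exists_le_sylow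
  have hSne : (S : Subgroup X) ≠ ⊥ := fun h => by
    obtain ⟨g, hg⟩ := MulAction.exists_smul_eq X S P₁
    refine hRa (le_bot_iff.1 (hP₁.trans ?_))
    rw [← hg, Sylow.coe_subgroup_smul, h, Subgroup.smul_bot]
  obtain ⟨W, hW0, hWs, hWst⟩ := hW S S.2 hSne
  let φ : ↥(S : Subgroup X) →* Module.End F V :=
    { toFun := fun x => (ρ x).toLinearMap
      map_one' := LinearMap.ext fun v => by simp
      map_mul' := fun a b => LinearMap.ext fun v => mul_app ρ a b v }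
  obtain ⟨v₀, hv₀W, hv₀0, hv₀fix⟩ := exists_fixed p S.2 φ hW0 fun x w hw => hWst x (Subgroup.le_normalizer x.2) w hw
  have hgood0 : good v₀ := by
    have hSn : (S : Subgroup X) ≤ Subgroup.normalizer (R v₀ : Set X) := fun x hx => hnorm x v₀ hv₀0 (by
      rw [show ρ x v₀ = v₀ from hv₀fix ⟨x, hx⟩]
      exact Submodule.mem_span_singleton_self v₀)
    have h1 : R v₀ ≤ S := (le_sup_right : R v₀ ≤ (S : Subgroup X) ⊔ R v₀).trans
      (S.3 (IsPGroup.to_sup_of_normal_right' S.2 (isPGroup_rad p hA _) hSn) le_sup_left).le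
    refine le_trans (Subgroup.map_mono h1) ?_
    rw [← Sylow.coe_mapSurjective hπ S, hS]
    exact hU
  have hall : ∀ v, Γ.Φ v = 0 → v ≠ 0 → good v := by
    intro v hv hv0
    have hsing0 : Γ.Φ v₀ = 0 := hWs.1 _ hv₀W
    by_cases hind : v ∈ F ∙ v₀
    · obtain ⟨c, rfl⟩ := Submodule.mem_span_singleton.1 hind
      have hc : c ≠ 0 := fun h => hv0 (by rw [h, zero_smul])
      show (R (c • v₀)).map π ≤ Y
      rw [show R (c • v₀) = R v₀ from congrArg (fun W => rad (Γ := Γ) (ρ := ρ) W)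
        (Submodule.span_singleton_smul_eq (IsUnit.mk0 c hc) v₀)]
      exact hgood0
    by_cases horth : Γ.B v v₀ = 0
    · exact hstep v₀ v hv₀0 hv0 hsing0 hv horth hind hgood0
    obtain ⟨u, hu, huv, hui⟩ := hother v₀ hsing0 hv₀0
    obtain ⟨c, hc⟩ : ∃ c : F, Γ.B (u + c • v₀) v = 0 := by
      refine ⟨-Γ.B u v / Γ.B v₀ v, ?_⟩
      rw [Γ.add_left, Γ.smul_left, div_mul_cancel₀ _ fun h => horth (Γ.refl _ _ h), add_neg_cancel]
    set z := u + c • v₀ with hz
    have hzs : Γ.Φ z = 0 := by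
      rw [hz, Γ.Φ_add, hu, Γ.Φ_smul c v₀ hsing0, Γ.smul_right, huv, mul_zero, map_zero, add_zero, add_zero]
    have hzv0 : Γ.B z v₀ = 0 := by
      rw [hz, Γ.add_left, Γ.smul_left, huv, Γ.iso _ hsing0, mul_zero, add_zero]
    have hzi : z ∉ F ∙ v₀ := fun h => hui (by
      have := sub_mem h (Submodule.smul_mem _ c (Submodule.mem_span_singleton_self v₀))
      rwa [hz, add_sub_cancel_right] at this)
    have hz0 : z ≠ 0 := fun h => hzi (h ▸ zero_mem _)
    refine hstep z v hz0 hv0 hzs hv (Γ.refl _ _ hc) (fun h => ?_) (hstep v₀ z hv₀0 hz0 hsing0 hzs hzv0 hzi hgood0)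
    obtain ⟨e, he⟩ := Submodule.mem_span_singleton.1 h
    refine horth ?_
    rw [← he, Γ.smul_left, hzv0, mul_zero]
  refine eq_top_of_conj (P := (R a).map π) (hmap _ (isPGroup_rad p hA _) hRa) fun g => ?_
  obtain ⟨x, rfl⟩ := hπ g
  rintro _ ⟨_, ⟨r, hr, rfl⟩, rfl⟩
  refine hall (ρ x a) (hpres x a ha) (fun h => ha0 ((ρ x).map_eq_zero_iff.1 h)) ⟨x * r * x⁻¹, ?_, by simp⟩
  refine ⟨fun w hw => ?_, fun w hw => ?_, fun w => ?_⟩
  · obtain ⟨e, rfl⟩ := Submodule.mem_span_singleton.1 hw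
    rw [map_smul, mul_app, mul_app, inv_app, hr.1 a (Submodule.mem_span_singleton_self a)]
  · have hw' : ρ x⁻¹ w ∈ Γ.perp (F ∙ a) := Γ.mem_perp_span (by
      rw [← inv_app ρ x a, hA.presB]
      exact hw _ (Submodule.mem_span_singleton_self _))
    obtain ⟨e, he⟩ := Submodule.mem_span_singleton.1 (hr.2.1 _ hw')
    refine Submodule.mem_span_singleton.2 ⟨e, ?_⟩
    rw [mul_app, mul_app, ← map_smul, he, map_sub, app_inv]
  · refine Γ.mem_perp_span ?_
    rw [mul_app, mul_app]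
    nth_rw 2 [← app_inv ρ x w]
    rw [← map_sub, hA.presB]
    exact hr.2.2 _ a (Submodule.mem_span_singleton_self a)

end Cfsg.Agent.Radical42PolarTop
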