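import Cfsg.Agent.Lib.Radical42Classical
import Cfsg.Agent.Lib.Radical42PolarTop

/-!
Connectedness of the `p`-local structure in classical groups of rank at least two.
-/

set_option autoImplicit false
set_option linter.unusedSectionVars false

namespace Cfsg.Agent.Radical42ClassicalTop

open Cfsg Module Cfsg.Agent.Radical42Rigid Cfsg.Agent.Radical42Classical Cfsg.Agent.Radical42Polar

section Symplectic

open Cfsg.Agent.SymplecticBasic Cfsg.Agent.SteinbergSymplectic

variable {F : Type} [Field F] [Finite F] {m : ℕ}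

theorem psp (hm : 2 ≤ m) (p : ℕ) [Fact p.Prime] [CharP F p] [IsSimpleGroup (PSp m F)] : Connected (PSp m F) p := by
  haveI : Finite (Matrix.symplecticGroup (Fin m) F) := inferInstance
  refine Radical42PolarTop.connected p (acts_sp (m := m)) (QuotientGroup.mk' _) (QuotientGroup.mk'_surjective _)
    (by rw [QuotientGroup.ker_mk']) eichler_sp (fun _ _ _ => rfl)
    (by rw [finrank_fintype_fun_eq_card, Fintype.card_sum, Fintype.card_fin]; omega) (fun Q hQ hne => ?_) ?_
  · obtain ⟨W, hW, hperp, -, hst, -⟩ := exists_isotropic p acts_sp hQ hne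
    exact ⟨W, hW, ⟨fun _ _ => rfl, hperp⟩, hst⟩
  refine ⟨Pi.single (Sum.inl (⟨0, by omega⟩ : Fin m)) 1, Pi.single (Sum.inl (⟨1, by omega⟩ : Fin m)) 1, rfl, rfl, ?_,
    by simp, fun h => ?_⟩
  · show sympForm m F _ _ = 0
    rw [form_eq_sum]
    exact Finset.sum_eq_zero fun i _ => by simp
  · obtain ⟨c, hc⟩ := Submodule.mem_span_singleton.1 h
    have := congrFun hc (Sum.inl (⟨1, by omega⟩ : Fin m))
    simp [Pi.single_apply] at this

end Symplectic

section Unitary

open Cfsg.Agent.OrthUnitaryHerm Cfsg.Agent.OrthUnitaryTransvection Cfsg.Agent.SteinbergUnitary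

variable {F : Type} [Field F] [Fintype F] {n q : ℕ}

theorem psu (hF : Fintype.card F = q ^ 2) (hn : 4 ≤ n) (p : ℕ) [Fact p.Prime] [CharP F p]
    [IsSimpleGroup (PSU n F q)] : Connected (PSU n F q) p := by
  haveI : Finite (SU n F q) := inferInstance
  refine Radical42PolarTop.connected p (acts_su (n := n) hF) (QuotientGroup.mk' _) (QuotientGroup.mk'_surjective _)
    (by rw [QuotientGroup.ker_mk']) (eichler_su hF) (fun g v h => (herm_act g v v).trans h)
    (by rw [finrank_fintype_fun_eq_card, Fintype.card_fin]; omega) (fun Q hQ hne => ?_) ?_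
  · obtain ⟨W, hW, hperp, -, hst, -⟩ := exists_isotropic p (acts_su hF) hQ hne
    exact ⟨W, hW, ⟨fun v hv => hperp hv v hv, hperp⟩, hst⟩
  obtain ⟨c, hc⟩ := exists_norm_eq hF (a := -1) (by rw [neg_pow_q hF, one_pow])
  let e : Fin n → Fin n → F := fun i j => if j = i then 1 else if (i : ℕ) + 1 = j then c else 0
  set i₀ : Fin n := ⟨0, by omega⟩
  set i₁ : Fin n := ⟨1, by omega⟩
  set i₂ : Fin n := ⟨2, by omega⟩
  set i₃ : Fin n := ⟨3, by omega⟩
  have hq := two_le_q hF
  have hs : ∀ (i j : Fin n) (x : Fin n → F), (i : ℕ) + 1 = j →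
      hermForm n F q (e i) x = x i ^ q + c * x j ^ q := by
    intro i j x hij
    have hne : i ≠ j := fun h => by rw [h] at hij; omega
    show ∑ k, e i k * x k ^ q = _
    rw [Finset.sum_eq_add (a := i) (b := j) hne
      (fun k _ hk => by
        have h : ¬ (i : ℕ) + 1 = k := fun h => hk.2 (Fin.ext (h.symm.trans hij))
        simp [e, hk.1, h])
      (fun h => absurd (Finset.mem_univ _) h) (fun h => absurd (Finset.mem_univ _) h)]
    simp [e, hne.symm, hij]
  have hz : (0 : F) ^ q = 0 := zero_pow (by omega)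
  refine ⟨e i₀, e i₂, ?_, ?_, ?_, fun h => ?_, fun h => ?_⟩
  · show hermForm n F q (e i₀) (e i₀) = 0
    rw [hs i₀ i₁ _ rfl]
    have h1 : c * c ^ q = -1 := by rw [← hc]; ring
    simp [e, i₀, i₁, h1]
  · show hermForm n F q (e i₂) (e i₂) = 0
    rw [hs i₂ i₃ _ rfl]
    have h1 : c * c ^ q = -1 := by rw [← hc]; ring
    simp [e, i₂, i₃, h1]
  · show hermForm n F q (e i₀) (e i₂) = 0
    rw [hs i₀ i₁ _ rfl]
    simp [e, i₀, i₁, i₂, hz]
  · have := congrFun h i₀
    simp [e] at this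
  · obtain ⟨d, hd⟩ := Submodule.mem_span_singleton.1 h
    have := congrFun hd i₂
    simp [e, i₀, i₂] at this

end Unitary

section Orth

open QuadraticMap Cfsg.Agent.OrthUnitaryQuad Cfsg.Agent.OrthUnitaryRefl Cfsg.Agent.OrthUnitaryOmega
  Cfsg.Agent.SteinbergOrth
open Cfsg.Agent.QuadClassify (qPlus qMinus qOdd qPlus_coe qMinus_coe qOdd_coe)

variable {F : Type} [Field F] [Fintype F]

theorem omega {ι : Type} [Fintype ι] [DecidableEq ι] {q : QuadraticForm F (ι → F)}
    (hnd : (polarBilin q).Nondegenerate) (hgen : reflGroup q = ⊤) (hn : 4 ≤ Fintype.card ι) (p : ℕ) [Fact p.Prime]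
    [CharP F p] (i j : ι) (hij : i ≠ j) (hi : q (Pi.single i 1) = 0) (hj : q (Pi.single j 1) = 0)
    (hij' : q (Pi.single i 1 + Pi.single j 1) = 0)
    [IsSimpleGroup (POmega F ⇑q)] : Connected (POmega F ⇑q) p := by
  haveI : Finite (Omega F ⇑q) := inferInstance
  refine Radical42PolarTop.connected p (acts_omega hnd) (QuotientGroup.mk' _) (QuotientGroup.mk'_surjective _)
    (by rw [QuotientGroup.ker_mk']) (eichler_omega hnd hgen) (fun _ v h => (map_orth _ v).trans h)
    (by rw [finrank_fintype_fun_eq_card]; exact hn) (fun Q hQ hne => exists_singular hnd hgen p hQ hne)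
    ⟨Pi.single i 1, Pi.single j 1, hi, hj, ?_, by simp, fun h => ?_⟩
  · show polar q _ _ = 0
    rw [polar, hij', hi, hj, sub_self, sub_self]
  · obtain ⟨c, hc⟩ := Submodule.mem_span_singleton.1 h
    have := congrFun hc j
    simp [Pi.single_apply, hij.symm] at this

theorem omega_odd {m : ℕ} (hodd : Odd (Fintype.card F)) (hm : 3 ≤ m) (p : ℕ) [Fact p.Prime] [CharP F p]
    [IsSimpleGroup (POmega F (quadFormOdd m F))] : Connected (POmega F (quadFormOdd m F)) p := by
  have h2 : (2 : F) ≠ 0 := OmegaStd.two_ne_zero rfl hodd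
  have hnd := OmegaMaxGlue.nondeg_odd (F := F) (m := m) h2
  revert ‹IsSimpleGroup (POmega F (quadFormOdd m F))›
  rw [← qOdd_coe]
  intro
  refine omega hnd (reflGroup_eq_top (isReg_of_nondegenerate hnd)
    (Or.inl (exists_ne_zero_one (OmegaStd.card_ne_two_of_odd rfl hodd)))) ?_ p
    (Sum.inr (Sum.inl ⟨0, by omega⟩)) (Sum.inr (Sum.inl ⟨1, by omega⟩)) (by simp) ?_ ?_ ?_
  · simp [Fintype.card_sum]; omega
  all_goals simp [qOdd_coe, quadFormOdd, Pi.single_apply]

theorem omega_plus {m : ℕ} (hm : 4 ≤ m) (p : ℕ) [Fact p.Prime] [CharP F p]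
    [IsSimpleGroup (POmega F (quadFormPlus m F))] : Connected (POmega F (quadFormPlus m F)) p := by
  have hnd := OmegaStd.nondeg_plus (F := F) (m := m)
  revert ‹IsSimpleGroup (POmega F (quadFormPlus m F))›
  rw [← qPlus_coe]
  intro
  refine omega hnd (reflGroup_eq_top (isReg_of_nondegenerate hnd)
    ((OmegaStd.exc_plus (Or.inr (by omega))).imp_left exists_ne_zero_one)) ?_ p
    (Sum.inl ⟨0, by omega⟩) (Sum.inl ⟨1, by omega⟩) (by simp) ?_ ?_ ?_
  · simp [Fintype.card_sum]; omega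
  all_goals simp [qPlus_coe, quadFormPlus, Pi.single_apply]

theorem omega_minus {m : ℕ} {a b : F} (hm : 4 ≤ m)
    (hab : ∀ z₁ z₂ : F, z₁ ^ 2 + a * z₁ * z₂ + b * z₂ ^ 2 = 0 → z₁ = 0 ∧ z₂ = 0) (p : ℕ) [Fact p.Prime] [CharP F p]
    [IsSimpleGroup (POmega F (quadFormMinus (m - 1) F a b))] :
    Connected (POmega F (quadFormMinus (m - 1) F a b)) p := by
  have hnd := SteinbergOrthStd.nondeg_minus (m := m - 1) hab
  revert ‹IsSimpleGroup (POmega F (quadFormMinus (m - 1) F a b))›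
  rw [← qMinus_coe]
  intro
  refine omega hnd (reflGroup_eq_top (isReg_of_nondegenerate hnd) (Or.inr ?_)) ?_ p
    (Sum.inl (Sum.inl ⟨0, by omega⟩)) (Sum.inl (Sum.inl ⟨1, by omega⟩)) (by simp) ?_ ?_ ?_
  · rw [Module.finrank_fintype_fun_eq_card, Fintype.card_sum, Fintype.card_sum, Fintype.card_fin, Fintype.card_fin]
    omega
  · simp [Fintype.card_sum]; omega
  all_goals simp [qMinus_coe, quadFormMinus, Pi.single_apply]

end Orth

section Linear

open Matrix Cfsg.Agent.PSLUnipotent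
open scoped MatrixGroups

variable {F : Type} [Field F] [Finite F] {n : ℕ}

local notation "SLn" => Matrix.SpecialLinearGroup (Fin n) F

/-- the transvections with a given centre -/
def E (v : Fin n → F) : Subgroup SLn where
  carrier := {g | g.1 *ᵥ v = v ∧ ∀ x, g.1 *ᵥ x - x ∈ F ∙ v}
  one_mem' := by
    constructor
    · simp
    · intro x; simp
  mul_mem' {g h} hg hh := by
    refine ⟨by rw [cmul, ← mulVec_mulVec, hh.1, hg.1], fun x => ?_⟩
    obtain ⟨c, hc⟩ := Submodule.mem_span_singleton.1 (hh.2 x)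
    rw [cmul, ← mulVec_mulVec, show h.1 *ᵥ x = x + c • v by rw [hc]; abel, mulVec_add, mulVec_smul, hg.1,
      add_sub_right_comm]
    exact add_mem (hg.2 x) (Submodule.smul_mem _ _ (Submodule.mem_span_singleton_self v))
  inv_mem' {g} hg := by
    have hv : (g⁻¹).1 *ᵥ v = v := by
      conv_lhs => rw [← hg.1]
      rw [mulVec_mulVec, ← cmul, inv_mul_cancel, cone, one_mulVec]
    refine ⟨hv, fun x => ?_⟩
    obtain ⟨c, hc⟩ := Submodule.mem_span_singleton.1 (hg.2 ((g⁻¹).1 *ᵥ x))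
    rw [mulVec_mulVec, ← cmul, mul_inv_cancel, cone, one_mulVec] at hc
    exact Submodule.mem_span_singleton.2 ⟨-c, by rw [neg_smul, hc]; abel⟩

theorem psl [NeZero n] (hn : 3 ≤ n) (p : ℕ) [Fact p.Prime] [CharP F p]
    [IsSimpleGroup (Matrix.ProjectiveSpecialLinearGroup (Fin n) F)] :
    Connected (Matrix.ProjectiveSpecialLinearGroup (Fin n) F) p := by
  set π := QuotientGroup.mk' (Subgroup.center SLn)
  have hπ : Function.Surjective π := QuotientGroup.mk'_surjective _
  rintro Y ⟨U, hU⟩ hY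
  have hEp : ∀ v, IsPGroup p ↥(E (F := F) (n := n) v) := by
    rintro v ⟨g, hg⟩
    refine ⟨1, Subtype.ext (Subtype.ext ?_)⟩
    show (g ^ p ^ 1).1 = (1 : SLn).1
    have h2 : (g.1 - 1) ^ 2 = 0 := by
      refine Matrix.ext_of_mulVec_single fun j => ?_
      obtain ⟨c, hc⟩ := Submodule.mem_span_singleton.1 (hg.2 (Pi.single j 1))
      rw [sq, ← mulVec_mulVec, sub_mulVec g.1 1 (Pi.single j 1), one_mulVec, ← hc, sub_mulVec, one_mulVec, mulVec_smul,
        hg.1, sub_self, zero_mulVec]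
    have h3 : (g.1 - 1) ^ p ^ 1 = 0 := pow_eq_zero_of_le (by rw [pow_one]; exact (Fact.out : p.Prime).two_le) h2
    rw [sub_pow_char_pow_of_commute _ _ (Commute.one_right g.1), one_pow, sub_eq_zero] at h3
    rw [cpow, h3, cone]
  -- a transvection fixing two given vectors
  have hexists : ∀ v w : Fin n → F, v ≠ 0 → ∃ t : SLn, t ∈ E v ∧ t.1 *ᵥ w = w ∧ π t ≠ 1 := by
    intro v w hv
    obtain ⟨x, hx⟩ : ∃ x, x ∉ (F ∙ v) ⊔ (F ∙ w) := by
      by_contra hc
      push Not at hc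
      have h1 := Submodule.finrank_add_le_finrank_add_finrank (F ∙ v) (F ∙ w)
      rw [show (F ∙ v) ⊔ (F ∙ w) = ⊤ from eq_top_iff.2 fun x _ => hc x, finrank_top, finrank_fintype_fun_eq_card,
        Fintype.card_fin] at h1
      have h2 : ∀ u : Fin n → F, finrank F (F ∙ u) ≤ 1 := fun u => by
        simpa using finrank_span_le_card (R := F) ({u} : Set (Fin n → F))
      have := h2 v
      have := h2 w
      omega
    obtain ⟨φ, hφx, hφ⟩ := SLDefiningFlag.exists_row hx
    have hφv := hφ v (Submodule.mem_sup_left (Submodule.mem_span_singleton_self v))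
    have hφw := hφ w (Submodule.mem_sup_right (Submodule.mem_span_singleton_self w))
    have hdet : (1 + Matrix.vecMulVec v φ).det = 1 := by
      rw [Matrix.vecMulVec_eq Unit, Matrix.det_one_add_replicateCol_mul_replicateRow, hφv, add_zero]
    have happ : ∀ y, ((⟨_, hdet⟩ : SLn)).1 *ᵥ y = y + (φ ⬝ᵥ y) • v := fun y => by
      show (1 + Matrix.vecMulVec v φ) *ᵥ y = _
      rw [Matrix.add_mulVec, Matrix.one_mulVec, Matrix.vecMulVec_mulVec, op_smul_eq_smul]
    refine ⟨⟨_, hdet⟩, ⟨by rw [happ, hφv, zero_smul, add_zero], fun y => ?_⟩, by rw [happ, hφw, zero_smul, add_zero],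
      fun h => ?_⟩
    · rw [happ, add_sub_cancel_left]
      exact Submodule.smul_mem _ _ (Submodule.mem_span_singleton_self v)
    · obtain ⟨r, -, hr⟩ := Matrix.SpecialLinearGroup.mem_center_iff.1 ((QuotientGroup.eq_one_iff _).1 h)
      have hsc : ∀ y, r • y = y + (φ ⬝ᵥ y) • v := fun y => by
        rw [← happ y, ← hr, Matrix.scalar_apply, ← Matrix.smul_one_eq_diagonal, Matrix.smul_mulVec, Matrix.one_mulVec]
      have h1 := hsc v
      rw [hφv, zero_smul, add_zero] at h1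
      have hr1 : r = 1 := smul_left_injective F hv (h1.trans (one_smul F v).symm)
      have h2 := hsc x
      rw [hr1, one_smul, hφx, one_smul, left_eq_add] at h2
      exact hv h2
  have hnorm : ∀ (x : SLn) (v : Fin n → F), x.1 *ᵥ v = v → x ∈ Subgroup.normalizer (E v : Set SLn) := by
    intro x v hx
    have hx' : (x⁻¹).1 *ᵥ v = v := by
      conv_lhs => rw [← hx]
      rw [mulVec_mulVec, ← cmul, inv_mul_cancel, cone, one_mulVec]
    have key : ∀ y : SLn, y.1 *ᵥ v = v → (y⁻¹).1 *ᵥ v = v → ∀ r ∈ E v, y * r * y⁻¹ ∈ E v := by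
      intro y hy hy' r hr
      refine ⟨by rw [cmul, ← mulVec_mulVec, hy', cmul, ← mulVec_mulVec, hr.1, hy], fun z => ?_⟩
      obtain ⟨c, hc⟩ := Submodule.mem_span_singleton.1 (hr.2 ((y⁻¹).1 *ᵥ z))
      refine Submodule.mem_span_singleton.2 ⟨c, ?_⟩
      have h := congrArg (y.1 *ᵥ ·) hc
      simp only [mulVec_sub, mulVec_smul, hy] at h
      rw [h, mulVec_mulVec, mulVec_mulVec, mulVec_mulVec, ← cmul, ← cmul, ← cmul, mul_inv_cancel, cone, one_mulVec]
    refine Subgroup.mem_normalizer_iff.2 fun r => ⟨key x hx hx' r, fun hr => ?_⟩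
    have := key x⁻¹ hx' (by rw [inv_inv]; exact hx) _ hr
    simpa [mul_assoc] using this
  obtain ⟨S, hS⟩ := Sylow.mapSurjective_surjective hπ p U
  let φ : ↥(S : Subgroup SLn) →* Module.End F (Fin n → F) :=
    { toFun := fun x => Matrix.mulVecLin (x : SLn).1
      map_one' := LinearMap.ext fun v => by simp
      map_mul' := fun a b => LinearMap.ext fun v => by simp [Matrix.mulVec_mulVec] }
  obtain ⟨v₀, -, hv₀, hfix⟩ := exists_fixed p S.2 φ (S := ⊤) top_ne_bot fun _ _ _ => Submodule.mem_top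
  have h0 : (E v₀).map π ≤ Y := by
    have hSn : (S : Subgroup SLn) ≤ Subgroup.normalizer (E v₀ : Set SLn) := fun x hx =>
      hnorm x v₀ (hfix ⟨x, hx⟩)
    have h1 : E v₀ ≤ S := (le_sup_right : E v₀ ≤ (S : Subgroup SLn) ⊔ E v₀).trans
      (S.3 (IsPGroup.to_sup_of_normal_right' S.2 (hEp _) hSn) le_sup_left).le
    refine le_trans (Subgroup.map_mono h1) ?_
    rw [← Sylow.coe_mapSurjective hπ S, hS]
    exact hU
  have hall : ∀ w, w ≠ 0 → (E w).map π ≤ Y := by
    intro w _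
    obtain ⟨t, htv, htw, ht⟩ := hexists v₀ w hv₀
    have hz : IsPGroup p ↥(Subgroup.zpowers t) := (hEp v₀).to_le (Subgroup.zpowers_le.2 htv)
    have hP : IsPGroup p ↥(Subgroup.zpowers t ⊔ E w) :=
      IsPGroup.to_sup_of_normal_right' hz (hEp w) (Subgroup.zpowers_le.2 (hnorm t w htw))
    refine le_trans (Subgroup.map_mono le_sup_right) (hY.le_of_meet (hP.map π) fun e => ht ?_)
    rw [← Subgroup.mem_bot, ← e]
    exact ⟨⟨t, Subgroup.mem_sup_left (Subgroup.mem_zpowers t), rfl⟩, h0 ⟨t, htv, rfl⟩⟩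
  obtain ⟨t, htv, -, ht⟩ := hexists v₀ v₀ hv₀
  refine eq_top_of_conj (P := (E v₀).map π)
    (fun h => ht (Subgroup.mem_bot.1 (h ▸ ⟨t, htv, rfl⟩))) fun g => ?_
  obtain ⟨x, rfl⟩ := hπ g
  rintro _ ⟨_, ⟨r, hr, rfl⟩, rfl⟩
  have hne : x.1 *ᵥ v₀ ≠ 0 := fun h => hv₀ (by
    have h2 : (x⁻¹).1 *ᵥ (x.1 *ᵥ v₀) = (x⁻¹).1 *ᵥ 0 := congrArg ((x⁻¹).1 *ᵥ ·) h
    rw [mulVec_mulVec, ← cmul, inv_mul_cancel, cone, one_mulVec, mulVec_zero] at h2
    exact h2)
  refine hall _ hne ⟨x * r * x⁻¹, ⟨?_, fun z => ?_⟩, by simp [π]⟩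
  · rw [cmul, cmul, mulVec_mulVec, mul_assoc, mul_assoc, ← cmul x⁻¹ x, inv_mul_cancel, cone, mul_one,
      ← mulVec_mulVec, hr.1]
  · obtain ⟨c, hc⟩ := Submodule.mem_span_singleton.1 (hr.2 ((x⁻¹).1 *ᵥ z))
    refine Submodule.mem_span_singleton.2 ⟨c, ?_⟩
    have h := congrArg (x.1 *ᵥ ·) hc
    simp only [mulVec_sub, mulVec_smul] at h
    rw [h, mulVec_mulVec, mulVec_mulVec, mulVec_mulVec, ← cmul, ← cmul, ← cmul, mul_inv_cancel, cone, one_mulVec]

end Linear

end Cfsg.Agent.Radical42ClassicalTop
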