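import Cfsg.Agent.Lib.SteinbergLattice

/-!
The fixed point Euler characteristic of the poset of singular subspaces of a polar space: it
vanishes on unipotent elements, its value at `1` is a `p`-part and it has norm one.
-/

set_option autoImplicit false

namespace Cfsg.Agent.SteinbergPolar

open Cfsg.Agent.H74Euler Cfsg.Agent.SteinbergEuler Cfsg.Agent.SteinbergLattice

open scoped Classical

/-- A reflexive form with a compatible notion of singular vector (`Φ v = 0`). -/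
structure Geo (F V : Type*) [Field F] [AddCommGroup V] [Module F V] where
  /-- The field automorphism. -/
  σ : F →+* F
  σ_surj : Function.Surjective σ
  /-- The form. -/
  B : V → V → F
  add_left : ∀ u u' v, B (u + u') v = B u v + B u' v
  smul_left : ∀ (c : F) u v, B (c • u) v = c * B u v
  add_right : ∀ u v v', B u (v + v') = B u v + B u v'
  smul_right : ∀ (c : F) u v, B u (c • v) = σ c * B u v
  refl : ∀ u v, B u v = 0 → B v u = 0
  /-- The value deciding singularity. -/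
  Φ : V → F
  /-- Polarisation. -/
  θ : F →+ F
  Φ_add : ∀ u v, Φ (u + v) = Φ u + Φ v + θ (B u v)
  Φ_smul : ∀ (c : F) v, Φ v = 0 → Φ (c • v) = 0
  trace : ∀ v, ∃ c, θ c = Φ v
  iso : ∀ v, Φ v = 0 → B v v = 0

variable {F V : Type*} [Field F] [AddCommGroup V] [Module F V] (Q : Geo F V)

theorem Geo.zero_left (v : V) : Q.B 0 v = 0 := by
  have := Q.smul_left 0 0 v
  rwa [zero_smul, zero_mul] at this

theorem Geo.zero_right (v : V) : Q.B v 0 = 0 := Q.refl _ _ (Q.zero_left v)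

theorem Geo.sub_left (u u' v : V) : Q.B (u - u') v = Q.B u v - Q.B u' v := by
  rw [sub_eq_add_neg, Q.add_left, ← neg_one_smul F u', Q.smul_left]; ring

theorem Geo.sub_right (u v v' : V) : Q.B u (v - v') = Q.B u v - Q.B u v' := by
  rw [eq_sub_iff_add_eq, ← Q.add_right, sub_add_cancel]

theorem Geo.Φ_zero : Q.Φ 0 = 0 := by
  have := Q.Φ_add 0 0
  rw [add_zero, Q.zero_left, map_zero, add_zero] at this
  linear_combination -this

/-- Left orthogonal space. -/
def Geo.perp (U : Submodule F V) : Submodule F V where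
  carrier := {v | ∀ u ∈ U, Q.B v u = 0}
  zero_mem' u _ := Q.zero_left u
  add_mem' {a b} ha hb u hu := by rw [Q.add_left, ha u hu, hb u hu, add_zero]
  smul_mem' c a ha u hu := by rw [Q.smul_left, ha u hu, mul_zero]

theorem Geo.mem_perp {U : Submodule F V} {v : V} : v ∈ Q.perp U ↔ ∀ u ∈ U, Q.B v u = 0 := Iff.rfl

theorem Geo.le_perp_comm {U T : Submodule F V} (h : U ≤ Q.perp T) : T ≤ Q.perp U :=
  fun _ ht _ hu => Q.refl _ _ (h hu _ ht)

theorem Geo.mem_perp_span {e v : V} (h : Q.B v e = 0) : v ∈ Q.perp (F ∙ e) := fun u hu => by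
  obtain ⟨c, rfl⟩ := Submodule.mem_span_singleton.1 hu
  rw [Q.smul_right, h, mul_zero]

/-- Totally singular subspaces. -/
def Geo.Sing (U : Submodule F V) : Prop :=
  (∀ v ∈ U, Q.Φ v = 0) ∧ U ≤ Q.perp U

theorem Geo.Sing.sup {Q : Geo F V} {U T : Submodule F V} (hU : Q.Sing U) (hT : Q.Sing T)
    (h : U ≤ Q.perp T) : Q.Sing (U ⊔ T) := by
  refine ⟨fun v hv => ?_, fun v hv w hw => ?_⟩
  · obtain ⟨a, ha, b, hb, rfl⟩ := Submodule.mem_sup.1 hv
    rw [Q.Φ_add, hU.1 a ha, hT.1 b hb, h ha b hb, map_zero]; ring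
  · obtain ⟨a, ha, b, hb, rfl⟩ := Submodule.mem_sup.1 hv
    obtain ⟨a', ha', b', hb', rfl⟩ := Submodule.mem_sup.1 hw
    rw [Q.add_left, Q.add_right, Q.add_right, hU.2 ha a' ha', h ha b' hb',
      Q.le_perp_comm h hb a' ha', hT.2 hb b' hb']
    ring

theorem Geo.Sing.mono {Q : Geo F V} {U T : Submodule F V} (hU : Q.Sing U) (h : T ≤ U) : Q.Sing T :=
  ⟨fun v hv => hU.1 v (h hv), fun _ hv w hw => hU.2 (h hv) w (h hw)⟩

theorem Geo.sing_bot : Q.Sing ⊥ :=
  ⟨fun v hv => by rw [(Submodule.mem_bot F).1 hv, Q.Φ_zero],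
    fun v hv w _ => by rw [(Submodule.mem_bot F).1 hv, Q.zero_left]⟩

theorem Geo.sing_span {e : V} (he : Q.Φ e = 0) : Q.Sing (F ∙ e) := by
  refine ⟨fun v hv => ?_, fun v hv => Q.mem_perp_span ?_⟩ <;>
    obtain ⟨c, rfl⟩ := Submodule.mem_span_singleton.1 hv
  · exact Q.Φ_smul c e he
  · rw [Q.smul_left, Q.iso e he, mul_zero]

variable [Finite V]

theorem Geo.finrank_le_inf_perp (U x : Submodule F V) :
    Module.finrank F U ≤ Module.finrank F ↥(U ⊓ Q.perp x) + Module.finrank F x := by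
  have : Module.Finite F V := Module.Finite.of_finite
  let b := Module.finBasis F x
  let f : U →ₗ[F] (Fin (Module.finrank F x) → F) :=
    { toFun := fun t i => Q.B (t : V) (b i : V)
      map_add' := fun s t => funext fun i => Q.add_left _ _ _
      map_smul' := fun c t => funext fun i => Q.smul_left _ _ _ }
  have h1 := LinearMap.finrank_range_add_finrank_ker f
  have h2 : Module.finrank F (LinearMap.range f) ≤ Module.finrank F x :=
    le_trans (Submodule.finrank_le _) (le_of_eq (Module.finrank_fin_fun F))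
  have h3 : Module.finrank F (LinearMap.ker f) ≤ Module.finrank F ↥(U ⊓ Q.perp x) := by
    let j : LinearMap.ker f →ₗ[F] ↥(U ⊓ Q.perp x) :=
      LinearMap.codRestrict _ (U.subtype.comp (LinearMap.ker f).subtype) fun t => ⟨(t : U).2, fun y hy => by
        have hy' := congrArg Subtype.val (b.sum_repr ⟨y, hy⟩)
        rw [Submodule.coe_sum] at hy'
        simp only [Submodule.coe_smul] at hy'
        rw [← hy']
        have hsum : ∀ (s : Finset (Fin (Module.finrank F x))) (g : Fin (Module.finrank F x) → V),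
            Q.B (t : U) (∑ i ∈ s, g i) = ∑ i ∈ s, Q.B (t : U) (g i) := fun s g => by
          induction s using Finset.induction with
          | empty => simp [Q.zero_right]
          | insert a s ha ih => rw [Finset.sum_insert ha, Finset.sum_insert ha, Q.add_right, ih]
        show Q.B ((t : U) : V) _ = 0
        rw [hsum]
        refine Finset.sum_eq_zero fun i _ => ?_
        rw [Q.smul_right, show Q.B ((t : U) : V) (b i) = 0 from congrFun (LinearMap.mem_ker.1 t.2) i,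
          mul_zero]⟩
    refine LinearMap.finrank_le_finrank_of_injective (f := j) fun a a' h => ?_
    exact Subtype.ext (Subtype.ext (congrArg (fun z : ↥(U ⊓ Q.perp x) => (z : V)) h :))
  omega

theorem Geo.finrank_le_of_disjoint {U x : Submodule F V} (h : U ⊓ Q.perp x = ⊥) :
    Module.finrank F U ≤ Module.finrank F x := by
  have := Q.finrank_le_inf_perp U x
  rwa [h, finrank_bot, zero_add] at this

/-- Opposite subspaces are opposite from both sides. -/
theorem Geo.inf_perp_symm {U x : Submodule F V} (h : U ⊓ Q.perp x = ⊥)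
    (hr : Module.finrank F U = Module.finrank F x) : x ⊓ Q.perp U = ⊥ := by
  have : Module.Finite F V := Module.Finite.of_finite
  set C := x ⊓ Q.perp U with hC
  obtain ⟨x', hx'⟩ := exists_isCompl (C.comap x.subtype)
  have hU : U ⊓ Q.perp (x'.map x.subtype) = ⊥ := by
    rw [eq_bot_iff, ← h]
    refine le_inf inf_le_left ?_
    rintro t ⟨htU, ht⟩ y hy
    have : (⟨y, hy⟩ : x) ∈ C.comap x.subtype ⊔ x' := by
      rw [hx'.sup_eq_top]; exact Submodule.mem_top
    obtain ⟨a, ha, b, hb, hab⟩ := Submodule.mem_sup.1 this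
    rw [show y = (a : V) + (b : V) from (congrArg Subtype.val hab).symm, Q.add_right,
      Q.refl _ t (show Q.B (a : V) t = 0 from (Submodule.mem_comap.1 ha).2 t htU),
      ht (b : V) (Submodule.mem_map_of_mem (f := x.subtype) hb), add_zero]
  have h1 := Q.finrank_le_of_disjoint hU
  have h2 := Submodule.finrank_add_eq_of_isCompl hx'
  rw [(Submodule.equivMapOfInjective x.subtype x.injective_subtype x').finrank_eq.symm] at h1
  have h3 : Module.finrank F (C.comap x.subtype) = 0 := by omega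
  rw [Submodule.finrank_eq_zero] at h3
  refine eq_bot_iff.2 fun z hz => ?_
  have : (⟨z, hz.1⟩ : x) ∈ C.comap x.subtype := hz
  rw [h3, Submodule.mem_bot] at this
  exact (Submodule.mem_bot F).2 (congrArg Subtype.val this)

/-- A superspace of an opposite space splits. -/
theorem Geo.sup_inf_perp {U T x : Submodule F V} (hTU : T ≤ U) (h : T ⊓ Q.perp x = ⊥)
    (hr : Module.finrank F T = Module.finrank F x) : T ⊔ U ⊓ Q.perp x = U := by
  have : Module.Finite F V := Module.Finite.of_finite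
  refine Submodule.eq_of_le_of_finrank_le (sup_le hTU inf_le_left) ?_
  have h1 := Submodule.finrank_sup_add_finrank_inf_eq T (U ⊓ Q.perp x)
  have h2 : T ⊓ (U ⊓ Q.perp x) = ⊥ := eq_bot_iff.2 (h ▸ inf_le_inf_left _ inf_le_right)
  rw [h2, finrank_bot] at h1
  have h3 := Q.finrank_le_inf_perp U x
  omega

variable {G : Type*} [Group G] (ρ : G →* (V ≃ₗ[F] V))

/-- The hypotheses on a group acting on a polar space `W`. -/
structure Ok (p : ℕ) (H : Subgroup G) (W : Submodule F V) : Prop where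
  nondeg : ∀ v ∈ W, (∀ u ∈ W, Q.B v u = 0) → v = 0
  stab : ∀ h ∈ H, img ρ h W = W
  pres : ∀ h ∈ H, (∀ u v, Q.B (ρ h u) (ρ h v) = Q.B u v) ∧ ∀ v, Q.Φ (ρ h v) = Q.Φ v
  eichler : ∀ e ∈ W, ∀ u ∈ W, ∀ v ∈ W, Q.Φ e = 0 → Q.Φ u = 0 → Q.Φ v = 0 → Q.B u e = 1 →
    Q.B v e = 1 → ∃ h ∈ H, ρ h e = e ∧ ρ h u = v ∧
      (∀ y, Q.B y e = 0 → ∃ c : F, ρ h y = y + c • e) ∧
      ∀ y, Q.B y e = 0 → Q.B y u = 0 → Q.B y v = 0 → ρ h y = y
  uni : ∀ h ∈ H, (∃ k : ℕ, h ^ p ^ k = 1) → h ≠ 1 →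
    ∃ v ∈ W, v ≠ 0 ∧ Q.Φ v = 0 ∧ ρ h v = v ∧ ∃ x ∈ W, ρ h x - x = v

/-- Nonzero singular subspaces of `W`. -/
noncomputable def Pts (W : Submodule F V) : Finset (Submodule F V) :=
  Finset.univ.filter fun U => U ≠ ⊥ ∧ Q.Sing U ∧ U ≤ W

theorem mem_Pts {W U : Submodule F V} : U ∈ Pts Q W ↔ U ≠ ⊥ ∧ Q.Sing U ∧ U ≤ W := by simp [Pts]

/-- The Euler characteristic function. -/
noncomputable def L (W : Submodule F V) (g : G) : ℤ := 1 - chi (fixd (img ρ) (Pts Q W) g)

/-- The same for the subspaces above `x`. -/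
noncomputable def Up (W x : Submodule F V) (g : G) : ℤ :=
  1 - chi ((fixd (img ρ) (Pts Q W) g).filter (x < ·))

variable {ρ} {Q} {p : ℕ} {H : Subgroup G} {W : Submodule F V}

theorem Ok.img_perp (hO : Ok Q ρ p H W) {h : G} (hh : h ∈ H) (U : Submodule F V) :
    img ρ h (Q.perp U) = Q.perp (img ρ h U) := by
  ext y
  constructor
  · intro hy
    obtain ⟨a, ha, rfl⟩ := (mem_img ρ).1 hy
    intro z hz
    obtain ⟨b, hb, rfl⟩ := (mem_img ρ).1 hz
    rw [(hO.pres h hh).1]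
    exact ha b hb
  · intro hy
    refine (mem_img ρ).2 ⟨(ρ h).symm y, fun b hb => ?_, (ρ h).apply_symm_apply y⟩
    rw [← (hO.pres h hh).1, LinearEquiv.apply_symm_apply]
    exact hy _ (apply_mem_img ρ hb)

theorem Ok.img_sing (hO : Ok Q ρ p H W) {h : G} (hh : h ∈ H) {U : Submodule F V} (hU : Q.Sing U) :
    Q.Sing (img ρ h U) := by
  refine ⟨fun v hv => ?_, ?_⟩
  · obtain ⟨a, ha, rfl⟩ := (mem_img ρ).1 hv
    rw [(hO.pres h hh).2]; exact hU.1 a ha
  · rw [← hO.img_perp hh]; exact (img ρ h).monotone hU.2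

theorem Ok.img_pts (hO : Ok Q ρ p H W) {h : G} (hh : h ∈ H) {U : Submodule F V}
    (hU : U ∈ Pts Q W) : img ρ h U ∈ Pts Q W := by
  obtain ⟨h1, h2, h3⟩ := (mem_Pts Q).1 hU
  refine (mem_Pts Q).2 ⟨fun e => h1 ?_, hO.img_sing hh h2, hO.stab h hh ▸ (img ρ h).monotone h3⟩
  rw [← (img ρ h).map_bot] at e
  exact (img ρ h).injective e

theorem Ok.img_inf_perp (hO : Ok Q ρ p H W) {g : G} (hg : g ∈ H) {U x : Submodule F V}
    (hU : img ρ g U = U) (hx : img ρ g x = x) : img ρ g (U ⊓ Q.perp x) = U ⊓ Q.perp x := by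
  rw [(img ρ g).map_inf, hO.img_perp hg, hU, hx]

/-- The part of the fixed subspaces meeting `perp x` above `T` is contractible. -/
theorem Ok.contract (hO : Ok Q ρ p H W) {g : G} (hg : g ∈ H) {T x : Submodule F V}
    (hT : Q.Sing T) (hTW : T ≤ W) (hgT : img ρ g T = T) (hx : Q.Sing x) (hxW : x ≤ W)
    (hgx : img ρ g x = x) (hTx : T ⊓ Q.perp x = ⊥) (hxT : x ⊓ Q.perp T ≠ ⊥) :
    chi ((fixd (img ρ) (Pts Q W) g).filter fun U => T < U ∧ U ⊓ Q.perp x ≠ ⊥) = 1 := by
  have key : ∀ A : Submodule F V, A ≤ Q.perp x → (T ⊔ A) ⊓ Q.perp x = A := fun A hA => by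
    rw [sup_comm, sup_inf_assoc_of_le _ hA, hTx, sup_bot_eq]
  have mk : ∀ A : Submodule F V, A ≤ Q.perp x → A ≠ ⊥ → Q.Sing (T ⊔ A) → A ≤ W →
      img ρ g A = A →
      T ⊔ A ∈ (fixd (img ρ) (Pts Q W) g).filter fun U => T < U ∧ U ⊓ Q.perp x ≠ ⊥ := by
    intro A hA hA0 hS hAW hgA
    refine Finset.mem_filter.2 ⟨Finset.mem_filter.2 ⟨(mem_Pts Q).2 ⟨fun e => hA0 ?_, hS,
      sup_le hTW hAW⟩, by rw [(img ρ g).map_sup, hgT, hgA]⟩, left_lt_sup.2 fun hle => hA0 ?_, ?_⟩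
    · exact eq_bot_iff.2 (le_sup_right.trans e.le)
    · exact eq_bot_iff.2 (hTx ▸ le_inf hle hA)
    · rwa [key A hA]
  have hC : T ⊔ x ⊓ Q.perp T ∈
      (fixd (img ρ) (Pts Q W) g).filter fun U => T < U ∧ U ⊓ Q.perp x ≠ ⊥ :=
    mk _ (inf_le_left.trans hx.2) hxT (hT.sup (hx.mono inf_le_left)
      (Q.le_perp_comm inf_le_right)) (inf_le_left.trans hxW) (hO.img_inf_perp hg hgx hgT)
  refine chi_conical _ (fun U => T ⊔ U ⊓ Q.perp x) (fun U => U ⊔ x ⊓ Q.perp T) (T ⊔ x ⊓ Q.perp T)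
    (fun U hU => ?_) (fun U hU => ?_) (fun U _ U' _ h => sup_le_sup_left (inf_le_inf_right _ h) _)
    (fun U _ => by rw [key _ inf_le_right]) hC (by rw [key _ (inf_le_left.trans hx.2)])
    (fun U hU hfix => ?_) (fun U _ U' _ _ _ h => sup_le_sup_right h _)
  · simp only [fixd, Finset.mem_filter, mem_Pts] at hU
    exact mk _ inf_le_right hU.2.2 (hU.1.1.2.1.mono (sup_le hU.2.1.le inf_le_left))
      (inf_le_left.trans hU.1.1.2.2) (hO.img_inf_perp hg hU.1.2 hgx)
  · exact sup_le (Finset.mem_filter.1 hU).2.1.le inf_le_left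
  · simp only [fixd, Finset.mem_filter, mem_Pts] at hU
    obtain ⟨⟨⟨-, hUs, hUW⟩, hgU⟩, hTU, hUx⟩ := hU
    set A := U ⊓ Q.perp x with hA
    have hj : U ⊔ x ⊓ Q.perp T = T ⊔ (A ⊔ x ⊓ Q.perp T) := by rw [← sup_assoc, hfix]
    have hAC : A ⊔ x ⊓ Q.perp T ≤ Q.perp x := sup_le inf_le_right (inf_le_left.trans hx.2)
    refine ⟨?_, ?_, le_sup_left, sup_le_sup_right hTU.le _⟩
    · rw [hj]
      refine mk _ hAC (fun e => hUx (eq_bot_iff.2 (le_sup_left.trans e.le))) ?_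
        (sup_le (inf_le_left.trans hUW) (inf_le_left.trans hxW))
        (by rw [(img ρ g).map_sup, hO.img_inf_perp hg hgU hgx, hO.img_inf_perp hg hgx hgT])
      rw [← hj]
      refine hUs.sup (hx.mono inf_le_left) (Q.le_perp_comm ?_)
      rw [← hfix]
      refine fun z hz w hw => ?_
      obtain ⟨t, ht, a, ha, rfl⟩ := Submodule.mem_sup.1 hw
      rw [Q.add_right, hz.2 t ht, Q.refl _ _ (ha.2 z hz.1), add_zero]
    · rw [hj, key _ hAC]

/-- The opposites of `x`. -/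
noncomputable def Opp (Q : Geo F V) (W x : Submodule F V) : Finset (Submodule F V) :=
  (Pts Q W).filter fun T => T ⊓ Q.perp x = ⊥ ∧ Module.finrank F T = Module.finrank F x

theorem mem_Opp {x T : Submodule F V} : T ∈ Opp Q W x ↔
    T ∈ Pts Q W ∧ T ⊓ Q.perp x = ⊥ ∧ Module.finrank F T = Module.finrank F x := by simp [Opp]

/-- Above opposite subspaces the fixed posets are isomorphic. -/
theorem Ok.up_eq (hO : Ok Q ρ p H W) {g : G} (hg : g ∈ H) {T x : Submodule F V}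
    (hTs : Q.Sing T) (hxs : Q.Sing x) (hTW : T ≤ W) (hxW : x ≤ W) (hgT : img ρ g T = T)
    (hgx : img ρ g x = x) (hTx : T ⊓ Q.perp x = ⊥)
    (hr : Module.finrank F T = Module.finrank F x) : Up Q ρ W T g = Up Q ρ W x g := by
  have hxT : x ⊓ Q.perp T = ⊥ := Q.inf_perp_symm hTx hr
  have step : ∀ {T x : Submodule F V}, Q.Sing T → Q.Sing x → x ≤ W →
      img ρ g T = T → img ρ g x = x → T ⊓ Q.perp x = ⊥ → x ⊓ Q.perp T = ⊥ →
      Module.finrank F T = Module.finrank F x →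
      ∀ U ∈ (fixd (img ρ) (Pts Q W) g).filter (T < ·),
        x ⊔ U ⊓ Q.perp x ∈ (fixd (img ρ) (Pts Q W) g).filter (x < ·) ∧
          T ⊔ (x ⊔ U ⊓ Q.perp x) ⊓ Q.perp T = U := by
    intro T x hTs hxs hxW hgT hgx hTx hxT hr U hU
    simp only [fixd, Finset.mem_filter, mem_Pts] at hU
    obtain ⟨⟨⟨-, hUs, hUW⟩, hgU⟩, hTU⟩ := hU
    have hUT : U ⊓ Q.perp x ≤ Q.perp T := fun z hz t ht => hUs.2 hz.1 t (hTU.le ht)
    have hsplit := Q.sup_inf_perp hTU.le hTx hr
    have hback : T ⊔ (x ⊔ U ⊓ Q.perp x) ⊓ Q.perp T = U := by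
      rw [sup_comm x, sup_inf_assoc_of_le _ hUT, hxT, sup_bot_eq, hsplit]
    refine ⟨Finset.mem_filter.2 ⟨Finset.mem_filter.2 ⟨(mem_Pts Q).2 ⟨fun e => ?_,
      hxs.sup (hUs.mono inf_le_left) (Q.le_perp_comm inf_le_right),
      sup_le hxW (inf_le_left.trans hUW)⟩,
      by rw [(img ρ g).map_sup, hgx, hO.img_inf_perp hg hgU hgx]⟩,
      lt_of_le_of_ne le_sup_left fun e => ?_⟩, hback⟩
    · rw [e, bot_inf_eq, sup_bot_eq] at hback
      exact hTU.ne hback
    · rw [← e, hxT, sup_bot_eq] at hback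
      exact hTU.ne hback
  rw [Up, Up, chi_congr _ ((fixd (img ρ) (Pts Q W) g).filter (x < ·))
    (fun U => x ⊔ U ⊓ Q.perp x)
    (fun U hU => (step hTs hxs hxW hgT hgx hTx hxT hr U hU).1) (fun Z hZ => ?_) (fun U hU U' hU' => ?_)]
  · obtain ⟨h1, h2⟩ := step hxs hTs hTW hgx hgT hxT hTx hr.symm Z hZ
    exact ⟨_, h1, h2⟩
  · refine ⟨fun h => ?_, fun h => sup_le_sup_left (inf_le_inf_right _ h) _⟩
    rw [← (step hTs hxs hxW hgT hgx hTx hxT hr U hU).2,
      ← (step hTs hxs hxW hgT hgx hTx hxT hr U' hU').2]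
    exact sup_le_sup_left (inf_le_inf_right _ h) _

/-- The fundamental identity at a fixed subspace. -/
theorem Ok.L_eq (hO : Ok Q ρ p H W) {g : G} (hg : g ∈ H) {x : Submodule F V} (hx : x ∈ Pts Q W)
    (hgx : img ρ g x = x) :
    L Q ρ W g = -(Up Q ρ W x g * ∑ T ∈ fixd (img ρ) (Opp Q W x) g, D ρ ⊥ T g) := by
  obtain ⟨hx0, hxs, hxW⟩ := (mem_Pts Q).1 hx
  set S := fixd (img ρ) (Pts Q W) g with hS
  set B := S.filter (fun U => U ⊓ Q.perp x = ⊥) with hB
  have hOS : fixd (img ρ) (Opp Q W x) g ⊆ B := fun T hT => by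
    simp only [fixd, Finset.mem_filter, mem_Opp] at hT
    simp only [hB, hS, fixd, Finset.mem_filter]
    exact ⟨⟨hT.1.1, hT.2⟩, hT.1.2.1⟩
  rw [L, chi_opposite S B (fixd (img ρ) (Opp Q W x) g) (Finset.filter_subset _ _) hOS
    (fun U hU T hT hUT => Finset.mem_filter.2
      ⟨hU, eq_bot_iff.2 ((Finset.mem_filter.1 hT).2 ▸ inf_le_inf_right _ hUT)⟩) ?_ ?_ ?_]
  · rw [sub_add_cancel_left, Finset.mul_sum]
    congr 1
    refine Finset.sum_congr rfl fun T hT => ?_
    have hT' := hT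
    simp only [fixd, Finset.mem_filter, mem_Opp, mem_Pts] at hT'
    obtain ⟨⟨⟨hT0, hTs, hTW⟩, hTx, hr⟩, hgT⟩ := hT'
    rw [show wt S T = Up Q ρ W T g from rfl, hO.up_eq hg hTs hxs hTW hxW hgT hgx hTx hr, D]
    congr 3
    ext U
    simp only [hB, hS, fixd, Finset.mem_filter, mem_Pts, mem_Ivl, bot_lt_iff_ne_bot]
    exact ⟨fun h => ⟨⟨h.1.1.1.1, h.2⟩, h.1.1.2⟩, fun h => ⟨⟨⟨⟨h.1.1, hTs.mono h.1.2.le,
      h.1.2.le.trans hTW⟩, h.2⟩, eq_bot_iff.2 (hTx ▸ inf_le_inf_right _ h.1.2.le)⟩, h.1.2⟩⟩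
  · have := hO.contract hg (T := ⊥) Q.sing_bot bot_le (img ρ g).map_bot hxs hxW hgx (bot_inf_eq _)
      (by
        rw [inf_eq_left.2 (fun v _ u hu => by rw [(Submodule.mem_bot F).1 hu, Q.zero_right])]
        exact hx0)
    rw [← this]
    congr 1
    ext U
    simp only [hB, hS, fixd, Finset.mem_filter, Finset.mem_sdiff, mem_Pts, bot_lt_iff_ne_bot]
    tauto
  · intro T hT U hU hlt
    simp only [fixd, Finset.mem_filter, mem_Opp] at hT
    have h1 := Q.finrank_le_of_disjoint (Finset.mem_filter.1 hU).2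
    have : Module.Finite F V := Module.Finite.of_finite
    have h2 := Submodule.finrank_lt_finrank_of_lt hlt
    omega
  · intro T hT hTO
    simp only [hB, hS, fixd, Finset.mem_filter] at hT
    obtain ⟨⟨hTP, hgT⟩, hTx⟩ := hT
    obtain ⟨-, hTs, hTW⟩ := (mem_Pts Q).1 hTP
    refine (congrArg chi ?_).trans (hO.contract hg hTs hTW hgT hxs hxW hgx hTx fun hxT => hTO ?_)
    · ext U; simp only [hB, hS, fixd, Finset.mem_filter, Finset.mem_sdiff]; tauto
    · exact Finset.mem_filter.2 ⟨mem_Opp.2 ⟨hTP, hTx,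
        le_antisymm (Q.finrank_le_of_disjoint hTx) (Q.finrank_le_of_disjoint hxT)⟩, hgT⟩

end Cfsg.Agent.SteinbergPolar
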