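import Cfsg.Agent.Lib.Radical42Rigid
import Cfsg.Agent.Lib.Radical42RankOne
import Cfsg.Agent.Lib.MinIndexPSU3Geo89
import Cfsg.Prelude.Def_Classical

/-!
The groups of Lie rank one are rigid in their defining characteristic.
-/

set_option autoImplicit false
set_option linter.unusedSectionVars false

namespace Cfsg.Agent.Radical42RankOneRigid

open Cfsg.Agent.DefiningBlocksGeneric Cfsg.Agent.Radical42Rigid

section Suzuki

open MulAction Cfsg.Agent.SuzukiGroupBasic Cfsg.Agent.SuzukiGroupStructure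

variable {F : Type*} [Field F] {m : ℕ} [hP : Param F m]

include hP in
theorem suzuki [IsSimpleGroup ↥(Cfsg.Sz F m)] (hR : HasRadicals ↥(Cfsg.Sz F m) 2) :
    Rigid ↥(Cfsg.Sz F m) 2 := by
  haveI := finiteF (F := F) (m := m)
  haveI : Fact (Nat.Prime 2) := ⟨Nat.prime_two⟩
  have hne : (unipotent : Subgroup ↥(Cfsg.Sz F m)) ≠ ⊥ := fun h =>
    one_ne_zero (Ts_eq_one (Subgroup.mem_bot.1 (h ▸ Ts_mem (1 : F) 0))).1
  refine rigid_of_two_cosets hR borel unipotent isPGroup_unipotent hne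
    normalizer_unipotent.ge (fun h => ?_) Ws (fun g => ?_) (fun g hg => ?_)
  · have h1 : (Ws : ↥(Cfsg.Sz F m)) • suzukiPointInfinity F = suzukiPointInfinity F :=
      mem_stabilizer_iff.1 (show Ws ∈ (borel : Subgroup ↥(Cfsg.Sz F m)) by rw [h]; trivial)
    rw [Ws_smul_inf] at h1
    exact inf_ne_zero (F := F) h1.symm
  · rcases bruhat g with h | ⟨a, b, c, hc, rfl⟩
    · exact Or.inl h
    · exact Or.inr ⟨_, Ts_smul_inf a b, c, hc, rfl⟩
  · obtain ⟨x, hx0, hx1⟩ := exists_ne_zero_one (F := F) (m := m)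
    set k : Fˣ := Units.mk0 x hx0 with hk
    have hfix : (Hs k : ↥(Cfsg.Sz F m)) • (g • suzukiPointInfinity F) = g • suzukiPointInfinity F := by
      have h1 : g⁻¹ * Hs k * g ∈ (borel : Subgroup ↥(Cfsg.Sz F m)) := by
        refine hg _ (Hs_smul_inf k) ?_
        have e : (Ws : ↥(Cfsg.Sz F m))⁻¹ * Hs k * Ws = Hs k⁻¹ := by
          have h := Ws_Hs (F := F) (m := m) k
          rw [Ws_inv] at h ⊢
          exact h
        rw [e]
        exact Hs_smul_inf k⁻¹
      rwa [mem_stabilizer_iff, mul_smul, mul_smul, inv_smul_eq_iff] at h1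
    by_cases h1 : g • suzukiPointInfinity F = suzukiPointInfinity F
    · exact Or.inl h1
    by_cases h2 : g • suzukiPointInfinity F = suzukiPointZero F
    · right
      rw [mem_stabilizer_iff, mul_smul, h2, inv_smul_eq_iff, Ws_smul_inf]
    exfalso
    have h := eq_one_of_fix_three (smul_mem_ovoid g inf_mem) inf_mem zero_mem h1 (inf_ne_zero (F := F)) h2 hfix
      (Hs_smul_inf k) (Hs_smul_zero k)
    rw [← Hs_one] at h
    exact hx1 (congrArg Units.val (Hs_injective h))

end Suzuki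

section Ree

open Cfsg.Lie Cfsg.Agent.ChevBruhat Cfsg.Agent.ReeInstance17 Cfsg.Agent.ReeInstance17.Ctx
open Cfsg.Agent.ReeBorel86

variable {K : Type*} [Field K] [Fintype K] [CharP K 3] (X : Ctx K)

include X in
theorem nn_conj_U {u : GL chevG2.Idx K} (hu : u ∈ chevG2.posUnipotent K) :
    (cn : GL chevG2.Idx K) * u * (cn : GL chevG2.Idx K)⁻¹ ∈ chevG2.borelSubgroup K → u = 1 := by
  intro hB
  obtain ⟨hN, hw⟩ := X.cn_toW
  have hV := X.tw.S.conj_Uw_mem_V ⟨_, hN⟩ (u := u) (by rw [hw, X.Uw_cl]; exact hu)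
  have h2 := Subgroup.mem_inf.mpr ⟨hB, hV⟩
  rw [X.tw.S.B_inf_V, Subgroup.mem_bot, conj_eq_one_iff] at h2
  exact h2

include X in
theorem nn_conj_T {h : GL chevG2.Idx K} (hh : h ∈ chevG2.diagonalSubgroup K) :
    (cn : GL chevG2.Idx K) * h * (cn : GL chevG2.Idx K)⁻¹ ∈ chevG2.diagonalSubgroup K :=
  (Subgroup.mem_normalizer_iff.1 (ChevalleyTorus.N_le_normalizer_H ReeSL2.c2 X.cn_toW.1) h).1 hh

include X in
theorem exists_good (h3 : 3 < Fintype.card K) :
    ∃ l : Kˣ, (l : K) ≠ 1 ∧ wu X l ≠ 1 ∧ (cpar X l : K) ≠ 1 := by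
  classical
  obtain ⟨x, -, hx⟩ := Finset.exists_mem_notMem_of_card_lt_card
    (s := ({0, 1, -1} : Finset K)) (t := Finset.univ)
    (lt_of_le_of_lt Finset.card_le_three (by rw [Finset.card_univ]; exact h3))
  simp only [Finset.mem_insert, Finset.mem_singleton, not_or] at hx
  obtain ⟨h0, h1, hm⟩ := hx
  refine ⟨Units.mk0 x h0, h1, fun e => ?_, fun e => ?_⟩
  · have e' : sgm X x = x⁻¹ := eq_inv_of_mul_eq_one_right e
    have h := sgm_sgm X x
    rw [e', map_inv₀, e', inv_inv] at h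
    rcases mul_self_eq_one_iff.1 (mul_left_cancel₀ h0 (by linear_combination -h : x * (x * x) = x * 1)) with
      h' | h'
    · exact h1 h'
    · exact hm h'
  · rw [cpar_val, Units.val_mk0] at e
    have e' : sgm X x = (x ^ 2)⁻¹ := eq_inv_of_mul_eq_one_right e
    have h := sgm_sgm X x
    rw [e', map_inv₀, map_pow, e', inv_pow, inv_inv] at h
    exact h1 (mul_left_cancel₀ (pow_ne_zero 3 h0) (by linear_combination h : x ^ 3 * x = x ^ 3 * 1))

theorem ree (h3 : 3 < Fintype.card K) [IsSimpleGroup ↥X.G1] [Fact (Nat.Prime 3)]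
    (hR : HasRadicals ↥X.G1 3) (hU : IsPGroup 3 (TwistAutRigid.U1 X.G1)) : Rigid ↥X.G1 3 := by
  have hF : Full X := fun c => ReeTorus17.tor_mem X c
  have hz1 : gu X (0 : K) 0 1 ≠ 1 := fun h => by
    exact one_ne_zero (gu_inj X (h.trans (gu_zero X).symm)).2.2
  have hUB : TwistAutRigid.U1 X.G1 ≤ TwistAutRigid.B1 X.G1 := TwistAutRigid.U1_le_B1
  have hne : TwistAutRigid.U1 X.G1 ≠ ⊥ := fun h => hz1 (Subgroup.mem_bot.1 (h ▸ gu_mem_U X 0 0 1))
  have hnorm : TwistAutRigid.B1 X.G1 ≤ Subgroup.normalizer (TwistAutRigid.U1 X.G1 : Set ↥X.G1) := fun b hb => by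
    refine Subgroup.mem_normalizer_iff.2 fun w => ⟨fun hw => ReeSylow17.conj_U X hb hw, fun hw => ?_⟩
    have h := ReeSylow17.conj_U X (inv_mem hb) hw
    have e : (b : GL chevG2.Idx K)⁻¹ * ((b * w * b⁻¹ : ↥X.G1) : GL chevG2.Idx K) *
        (b : GL chevG2.Idx K)⁻¹⁻¹ = (w : GL chevG2.Idx K) := by
      push_cast
      group
    show (w : GL chevG2.Idx K) ∈ chevG2.posUnipotent K
    rw [← e]
    exact h
  refine rigid_of_two_cosets hR (TwistAutRigid.B1 X.G1) (TwistAutRigid.U1 X.G1) hU hne hnorm (fun h => ?_)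
    (nn X)⁻¹ (fun g => ?_) (fun g hg => ?_)
  · refine hz1 (Subtype.ext (nn_conj_U X (gu_mem_U X 0 0 1) ?_))
    exact show nn X * gu X 0 0 1 * (nn X)⁻¹ ∈ TwistAutRigid.B1 X.G1 from h ▸ Subgroup.mem_top _
  · rcases form1 g⁻¹ with h | ⟨b, hb, w, hw, e⟩
    · exact Or.inl (by simpa using h)
    · refine Or.inr ⟨w⁻¹, inv_mem (hUB hw), b⁻¹, inv_mem hb, ?_⟩
      rw [← inv_inv g, e]
      group
  · obtain ⟨l, hl1, hl2, hl3⟩ := exists_good X h3
    have hTB : ∀ l, T hF l ∈ TwistAutRigid.B1 X.G1 := fun l => X.tw.S.mem_B_iff.2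
      ⟨_, T_mem_H hF l, 1, one_mem _, (mul_one _).symm⟩
    have hTn : ∀ l, nn X * T hF l * (nn X)⁻¹ ∈ TwistAutRigid.B1 X.G1 := fun l => X.tw.S.mem_B_iff.2
      ⟨_, nn_conj_T X (T_mem_H hF l), 1, one_mem _, (mul_one _).symm⟩
    have h := hg (T hF l) (hTB l) (by rw [inv_inv]; exact hTn l)
    rcases form1 g⁻¹ with hm | ⟨b, hb, w, hw, e⟩
    · exact Or.inl (by simpa using hm)
    right
    rw [inv_inv]
    have hge : g = w⁻¹ * (nn X)⁻¹ * b⁻¹ := by rw [← inv_inv g, e]; group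
    obtain ⟨t, u, v, rfl⟩ := (mem_U1_iff X).1 hw
    -- the unipotent part is fixed by the torus
    have h2 : nn X * (gu X t u v * T hF l * (gu X t u v)⁻¹) * (nn X)⁻¹ ∈ TwistAutRigid.B1 X.G1 := by
      have h' := mul_mem (mul_mem (inv_mem hb) h) hb
      rw [hge] at h'
      convert h' using 1
      group
    set z := (T hF l)⁻¹ * (gu X t u v * T hF l * (gu X t u v)⁻¹) with hz
    have hzU : z ∈ TwistAutRigid.U1 X.G1 := by
      have h' := (Subgroup.mem_normalizer_iff.1 (hnorm (inv_mem (hTB l))) _).1 (gu_mem_U X t u v)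
      rw [inv_inv] at h'
      rw [hz, ← mul_assoc, ← mul_assoc]
      exact mul_mem h' (inv_mem (gu_mem_U X t u v))
    have hzB : nn X * z * (nn X)⁻¹ ∈ TwistAutRigid.B1 X.G1 := by
      have h' := mul_mem (inv_mem (hTn l)) h2
      convert h' using 1
      rw [hz]
      group
    have hz0 : z = 1 := Subtype.ext (nn_conj_U X hzU hzB)
    have hcomm : T hF l * gu X t u v * (T hF l)⁻¹ = gu X t u v := by
      rw [hz, inv_mul_eq_one, eq_mul_inv_iff_mul_eq] at hz0
      rw [mul_inv_eq_iff_eq_mul]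
      exact hz0
    rw [T_conj] at hcomm
    obtain ⟨ht, hu, hv⟩ := gu_inj X hcomm
    have ht0 : t = 0 := (mul_left_eq_self₀.1 ht).resolve_left hl1
    have hu0 : u = 0 := (mul_left_eq_self₀.1 hu).resolve_left hl2
    have hv0 : v = 0 := (mul_left_eq_self₀.1 hv).resolve_left hl3
    rw [hge, ht0, hu0, hv0, gu_zero]
    simpa using inv_mem hb

end Ree

section PSL

open Matrix
open scoped MatrixGroups

variable {F : Type} [Field F] [Fintype F] (p : ℕ) [Fact p.Prime] [CharP F p]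

theorem psl_two (h4 : 4 ≤ Fintype.card F) [IsSimpleGroup (ProjectiveSpecialLinearGroup (Fin 2) F)]
    (hR : HasRadicals (ProjectiveSpecialLinearGroup (Fin 2) F) p) :
    Rigid (ProjectiveSpecialLinearGroup (Fin 2) F) p := by
  classical
  set π := QuotientGroup.mk' (Subgroup.center SL(2, F)) with hπ
  have hπs : Function.Surjective π := QuotientGroup.mk'_surjective _
  let B0 : Subgroup SL(2, F) :=
    { carrier := {g | g 1 0 = 0}
      one_mem' := by simp
      mul_mem' := fun {a b} ha hb => by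
        show (a * b) 1 0 = 0
        rw [Matrix.SpecialLinearGroup.coe_mul, Matrix.mul_apply, Fin.sum_univ_two,
          show a 1 0 = 0 from ha, show b 1 0 = 0 from hb]
        ring
      inv_mem' := fun {a} ha => by
        show a⁻¹ 1 0 = 0
        rw [Matrix.SpecialLinearGroup.coe_inv, Matrix.adjugate_fin_two]
        simp [show a 1 0 = 0 from ha] }
  let uf : F → SL(2, F) := fun x => ⟨!![1, x; 0, 1], by simp [Matrix.det_fin_two]⟩
  have huf : ∀ x, (uf x : Matrix (Fin 2) (Fin 2) F) = !![1, x; 0, 1] := fun _ => rfl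
  let u : Multiplicative F →* SL(2, F) :=
    { toFun := fun x => uf x.toAdd
      map_one' := Subtype.ext (by ext i j; fin_cases i <;> fin_cases j <;> simp [uf])
      map_mul' := fun a b => Subtype.ext (by
        rw [Matrix.SpecialLinearGroup.coe_mul, huf, huf, huf, Matrix.mul_fin_two, toAdd_mul]
        ext i j; fin_cases i <;> fin_cases j <;> simp [add_comm]) }
  let w : SL(2, F) := ⟨!![0, 1; -1, 0], by simp [Matrix.det_fin_two]⟩
  have hwc : (w : Matrix (Fin 2) (Fin 2) F) = !![0, 1; -1, 0] := rfl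
  have hker : ∀ {g : SL(2, F)}, π g ∈ B0.map π → g ∈ B0 := fun {g} ⟨b, hb, e⟩ => by
    have h : b⁻¹ * g ∈ Subgroup.center SL(2, F) :=
      (QuotientGroup.eq_one_iff _).1 (by
        show π (b⁻¹ * g) = 1
        rw [map_mul, map_inv, e, inv_mul_cancel])
    obtain ⟨r, -, hr⟩ := Matrix.SpecialLinearGroup.mem_center_iff.1 h
    have : b⁻¹ * g ∈ B0 := by
      show (b⁻¹ * g) 1 0 = 0
      rw [← hr]; simp
    simpa using mul_mem (show b ∈ B0 from hb) this
  refine rigid_of_two_cosets hR (B0.map π) (π.comp u).range ?_ ?_ ?_ (fun h => ?_) (π w) (fun g => ?_)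
    (fun g hg => ?_)
  · rintro ⟨_, x, rfl⟩
    refine ⟨1, Subtype.ext ?_⟩
    show π (u x) ^ p ^ 1 = 1
    rw [← map_pow, pow_one, ← map_pow, show x ^ p = 1 from by
      apply Multiplicative.toAdd.injective
      simp [toAdd_pow, CharP.cast_eq_zero], map_one, map_one]
  · intro h
    have h1 : π (uf 1) = 1 := Subgroup.mem_bot.1 (h ▸ ⟨Multiplicative.ofAdd 1, rfl⟩)
    obtain ⟨r, -, hr⟩ := Matrix.SpecialLinearGroup.mem_center_iff.1 ((QuotientGroup.eq_one_iff _).1 h1)
    have := congrFun (congrFun hr 0) 1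
    simp [uf] at this
  · rintro _ ⟨b, hb, rfl⟩
    refine Subgroup.mem_normalizer_iff.2 fun y => ?_
    have key : ∀ c ∈ B0, ∀ x, c * u x * c⁻¹ = u (Multiplicative.ofAdd (c 0 0 ^ 2 * x.toAdd)) := by
      intro c hc x
      have hd : c 0 0 * c 1 1 = 1 := by
        have := c.2
        rw [Matrix.det_fin_two, show c 1 0 = 0 from hc] at this
        linear_combination this
      show c * uf x.toAdd * c⁻¹ = uf (c 0 0 ^ 2 * x.toAdd)
      apply Subtype.ext
      rw [Matrix.SpecialLinearGroup.coe_mul, Matrix.SpecialLinearGroup.coe_mul,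
        Matrix.SpecialLinearGroup.coe_inv, Matrix.adjugate_fin_two, huf, huf]
      ext i j
      fin_cases i <;> fin_cases j <;>
        simp [Matrix.mul_apply, Fin.sum_univ_two, show c 1 0 = 0 from hc] <;>
        first | linear_combination hd | ring
    simp only [SetLike.mem_coe, MonoidHom.mem_range, MonoidHom.comp_apply]
    constructor
    · rintro ⟨x, hx⟩
      refine ⟨Multiplicative.ofAdd (b 0 0 ^ 2 * x.toAdd), ?_⟩
      rw [← key b hb, map_mul, map_mul, map_inv, hx]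
    · rintro ⟨x, hx⟩
      refine ⟨Multiplicative.ofAdd (b⁻¹ 0 0 ^ 2 * x.toAdd), ?_⟩
      rw [← key b⁻¹ (inv_mem hb), inv_inv, map_mul, map_mul, map_inv, hx]
      group
  · have h' : w 1 0 = 0 := hker (h ▸ Subgroup.mem_top (π w))
    rw [hwc] at h'
    simp at h'
  · obtain ⟨g, rfl⟩ := hπs g
    by_cases hc : g 1 0 = 0
    · exact Or.inl ⟨g, hc, rfl⟩
    refine Or.inr ⟨π (uf (g 0 0 / g 1 0)), ⟨_, show uf _ 1 0 = 0 by rw [huf]; simp, rfl⟩, π ((uf (g 0 0 / g 1 0) * w)⁻¹ * g),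
      ⟨_, ?_, rfl⟩, ?_⟩
    · show ((uf (g 0 0 / g 1 0) * w)⁻¹ * g) 1 0 = 0
      rw [Matrix.SpecialLinearGroup.coe_mul, Matrix.SpecialLinearGroup.coe_inv,
        Matrix.SpecialLinearGroup.coe_mul, huf, hwc, Matrix.mul_fin_two, Matrix.adjugate_fin_two,
        Matrix.mul_apply, Fin.sum_univ_two]
      simp
      field_simp
      ring
    · rw [← map_mul, ← map_mul, mul_inv_cancel_left]
  · obtain ⟨g, rfl⟩ := hπs g
    obtain ⟨a, -, ha⟩ := Finset.exists_mem_notMem_of_card_lt_card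
      (s := ({0, 1, -1} : Finset F)) (t := Finset.univ)
      (lt_of_le_of_lt Finset.card_le_three (by rw [Finset.card_univ]; omega))
    simp only [Finset.mem_insert, Finset.mem_singleton, not_or] at ha
    obtain ⟨a0, a1, am⟩ := ha
    let d : SL(2, F) := ⟨!![a, 0; 0, a⁻¹], by simp [Matrix.det_fin_two, a0]⟩
    have hdc : (d : Matrix (Fin 2) (Fin 2) F) = !![a, 0; 0, a⁻¹] := rfl
    have h := hg (π d) ⟨d, show d 1 0 = 0 by rw [hdc]; simp, rfl⟩ ⟨w⁻¹ * d * w, ?_, by simp [map_mul]⟩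
    · rw [← map_inv, ← map_mul, ← map_mul] at h
      have h' : (g⁻¹ * d * g) 1 0 = 0 := hker h
      rw [Matrix.SpecialLinearGroup.coe_mul, Matrix.SpecialLinearGroup.coe_mul,
        Matrix.SpecialLinearGroup.coe_inv, hdc, Matrix.adjugate_fin_two,
        Matrix.mul_apply, Fin.sum_univ_two] at h'
      simp [Matrix.mul_apply, Fin.sum_univ_two] at h'
      have h'' : g 0 0 * g 1 0 * (a⁻¹ - a) = 0 := by linear_combination h'
      have hne : a⁻¹ - a ≠ 0 := fun e => by
        rcases mul_self_eq_one_iff.1 (show a * a = 1 by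
          nth_rewrite 1 [← sub_eq_zero.1 e]
          exact inv_mul_cancel₀ a0) with h | h
        · exact a1 h
        · exact am h
      rcases mul_eq_zero.1 ((mul_eq_zero.1 h'').resolve_right hne) with h0 | h0
      · right
        rw [← map_inv, ← map_mul]
        refine ⟨_, ?_, rfl⟩
        show (w⁻¹ * g) 1 0 = 0
        rw [Matrix.SpecialLinearGroup.coe_mul, Matrix.SpecialLinearGroup.coe_inv, hwc,
          Matrix.adjugate_fin_two, Matrix.mul_apply, Fin.sum_univ_two]
        simp [h0]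
      · exact Or.inl ⟨g, h0, rfl⟩
    · show (w⁻¹ * d * w) 1 0 = 0
      rw [Matrix.SpecialLinearGroup.coe_mul, Matrix.SpecialLinearGroup.coe_mul,
        Matrix.SpecialLinearGroup.coe_inv, hdc, hwc, Matrix.adjugate_fin_two]
      simp [Matrix.mul_apply, Fin.sum_univ_two]

end PSL

section PSU

open MulAction Cfsg.Agent.OrthUnitaryHerm Cfsg.Agent.MinIndexPSU3Geo89
open Cfsg.Agent.OrthUnitaryTransvection

variable {F : Type} [Field F] [Fintype F] {q : ℕ}

theorem psu_three (hF : Fintype.card F = q ^ 2) (h3 : 3 ≤ q) (p : ℕ) [Fact p.Prime] [CharP F p]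
    [IsSimpleGroup (PSU 3 F q)] (hR : HasRadicals (PSU 3 F q) p) : Rigid (PSU 3 F q) p := by
  classical
  set π := QuotientGroup.mk' (Subgroup.center (SU 3 F q)) with hπ
  have hπs : Function.Surjective π := QuotientGroup.mk'_surjective _
  have := transitive (F := F) hF
  obtain ⟨e0, he0, hee⟩ : ∃ e : Fin 3 → F, e ≠ 0 ∧ hermForm 3 F q e e = 0 := by
    have hc : 0 < Nat.card (Line q F) := by rw [card_Line hF]; omega
    obtain ⟨L⟩ := (Nat.card_pos_iff.1 hc).1
    obtain ⟨v, hv0, hv, -⟩ := exists_rep L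
    exact ⟨v, hv0, hv⟩
  obtain ⟨Φ, -⟩ := exists_frame hF he0 hee
  have hf0 : Φ.f ≠ 0 := fun h => by have := Φ.fe; rw [h, herm_zero_left] at this; exact zero_ne_one this
  set L1 : Line q F := mkLine Φ.f hf0 Φ.ff with hL1
  have hne1 : L1 ≠ Φ.line := fun h => by
    obtain ⟨a, -, ha⟩ := mkLine_eq h
    have := Φ.fe
    rw [ha, herm_smul_left, Φ.ee, mul_zero] at this
    exact zero_ne_one this
  -- `P` is transitive off the line
  have htr : ∀ L : Line q F, L ≠ Φ.line → ∃ u ∈ Φ.P, u • L1 = L := by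
    have hstab : ∀ u ∈ Φ.P, u • L1 ≠ Φ.line := fun u hu h => hne1 (by
      rw [← inv_smul_smul u L1, h]
      exact mem_stabilizer_iff.1 (P_le_stab Φ (inv_mem hu)))
    let f : Φ.P → {M : Line q F // M ≠ Φ.line} := fun u => ⟨u.1 • L1, hstab u.1 u.2⟩
    have hinj : Function.Injective f := fun g k h => by
      have h' : g.1 • L1 = k.1 • L1 := congrArg Subtype.val h
      have := semiregular hF Φ (mul_mem (inv_mem k.2) g.2) hne1 (by rw [mul_smul, h', inv_smul_smul])
      exact Subtype.ext (inv_mul_eq_one.1 this).symm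
    have hb : Function.Bijective f := by
      haveI : Fintype (Line q F) := Fintype.ofFinite _
      refine (Nat.bijective_iff_injective_and_card f).2 ⟨hinj, ?_⟩
      rw [card_P hF, Nat.card_eq_fintype_card, Fintype.card_subtype_compl, Fintype.card_subtype_eq,
        ← Nat.card_eq_fintype_card, card_Line hF, Nat.add_sub_cancel]
    intro L hL
    obtain ⟨u, hu⟩ := hb.2 ⟨L, hL⟩
    exact ⟨u.1, u.2, congrArg Subtype.val hu⟩
  obtain ⟨n0, hn0⟩ := exists_smul_eq (SU 3 F q) Φ.line L1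
  set B0 := stabilizer (SU 3 F q) Φ.line with hB0
  have hker : ∀ {g : SU 3 F q}, π g ∈ B0.map π → g ∈ B0 := fun {g} ⟨b, hb, e⟩ => by
    have h : b⁻¹ * g ∈ Subgroup.center (SU 3 F q) :=
      (QuotientGroup.eq_one_iff _).1 (by
        show π (b⁻¹ * g) = 1
        rw [map_mul, map_inv, e, inv_mul_cancel])
    set z := b⁻¹ * g with hz
    have hz' : z ∈ B0 := by
      have hsc := center_SU_scalar hF (by norm_num) h
      set c := ((z : Matrix.SpecialLinearGroup (Fin 3) F) : Matrix (Fin 3) (Fin 3) F) ⟨0, by omega⟩ ⟨0, by omega⟩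
      have hact : act z Φ.e = c • Φ.e := by
        ext i
        show Matrix.mulVec _ _ i = _
        simp [Matrix.mulVec, dotProduct, hsc]
      have hc : c ≠ 0 := fun h0 => act_ne_zero z (e_ne_zero Φ) (by rw [hact, h0, zero_smul])
      refine mem_stabilizer_iff.2 (Subtype.ext ?_)
      show act z '' lineOf Φ.e = lineOf Φ.e
      rw [image_lineOf, hact, lineOf_smul hc]
    have hmem := mul_mem (show b ∈ B0 from hb) hz'
    rwa [hz, mul_inv_cancel_left] at hmem
  refine rigid_of_two_cosets hR (B0.map π) (Φ.P.map π) ?_ ?_ ?_ (fun h => ?_) (π n0) (fun g => ?_)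
    (fun g hg => ?_)
  · obtain ⟨n, hp, hn⟩ := FiniteField.card F p
    obtain ⟨k, -, hk⟩ := (Nat.dvd_prime_pow hp).1 (⟨q, by rw [← hn, hF, pow_two]⟩ : q ∣ p ^ (n : ℕ))
    exact (IsPGroup.of_card (n := k * 3) (by rw [card_P hF, hk, pow_mul])).map π
  · intro h
    obtain ⟨u, hu, hu1⟩ : ∃ u ∈ Φ.P, u ≠ (1 : SU 3 F q) := by
      refine (Subgroup.bot_or_exists_ne_one _).resolve_left fun hb => ?_
      have := card_P hF Φ
      rw [hb, Subgroup.card_bot] at this
      have : 1 < q ^ 3 := Nat.one_lt_pow (by norm_num) (by omega)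
      omega
    have h1 : π u = 1 := Subgroup.mem_bot.1 (h ▸ ⟨u, hu, rfl⟩)
    have hz : ∀ g : SU 3 F q, g * u = u * g := Subgroup.mem_center_iff.1 ((QuotientGroup.eq_one_iff _).1 h1)
    refine hu1 (semiregular hF Φ hu hne1 ?_)
    rw [← hn0, ← mul_smul, ← hz, mul_smul, mem_stabilizer_iff.1 (P_le_stab Φ hu)]
  · refine (Subgroup.map_mono ?_).trans (Subgroup.le_normalizer_map π)
    intro g hg
    refine Subgroup.mem_normalizer_iff.2 fun x => ?_
    have key : ∀ g ∈ B0, ∀ x ∈ Φ.P, g * x * g⁻¹ ∈ Φ.P := fun g hg x hx => by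
      let g' : ↥B0 := ⟨g, hg⟩
      let x' : ↥B0 := ⟨x, P_le_stab Φ hx⟩
      have hmem : g' * x' * g'⁻¹ ∈ (eigHom Φ).ker :=
        (MonoidHom.normal_ker _).conj_mem x' ((mem_eig_ker Φ).2 hx) g'
      exact (mem_eig_ker Φ).1 hmem
    refine ⟨key g hg x, fun h => ?_⟩
    have := key g⁻¹ (inv_mem hg) _ h
    simpa [mul_assoc] using this
  · have := hker (h ▸ Subgroup.mem_top (π n0))
    exact hne1 (hn0.symm.trans (mem_stabilizer_iff.1 this))
  · obtain ⟨g, rfl⟩ := hπs g
    by_cases hgL : g • Φ.line = Φ.line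
    · exact Or.inl ⟨g, mem_stabilizer_iff.2 hgL, rfl⟩
    obtain ⟨u, hu, hu'⟩ := htr _ hgL
    refine Or.inr ⟨π u, ⟨u, P_le_stab Φ hu, rfl⟩, π ((u * n0)⁻¹ * g), ⟨_, ?_, rfl⟩, ?_⟩
    · refine mem_stabilizer_iff.2 ?_
      rw [mul_smul, inv_smul_eq_iff, mul_smul, hn0, hu']
    · rw [← map_mul, ← map_mul, mul_inv_cancel_left]
  · obtain ⟨g, rfl⟩ := hπs g
    -- a torus element
    obtain ⟨a, ha⟩ : ∃ a : Fˣ, a ^ (q + 1) ≠ 1 := by
      obtain ⟨a, ha⟩ := IsCyclic.exists_generator (α := Fˣ)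
      refine ⟨a, fun h => ?_⟩
      have h1 := Nat.le_of_dvd (Nat.succ_pos q) (orderOf_dvd_of_pow_eq_one h)
      rw [orderOf_eq_card_of_forall_mem_zpowers ha, card_units' hF] at h1
      have : 3 * q ≤ q ^ 2 := by rw [pow_two]; exact Nat.mul_le_mul_right q h3
      omega
    obtain ⟨g0, hg0⟩ : a ∈ (eigHom Φ).range := by rw [(card_P_and_range hF Φ).2]; trivial
    obtain ⟨u, hu, hu'⟩ := htr (g0.1 • L1) fun h => hne1 (by
      rw [← inv_smul_smul g0.1 L1, h, inv_smul_eq_iff, mem_stabilizer_iff.1 g0.2])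
    set d := u⁻¹ * g0.1 with hd
    have hde : act d Φ.e = (a : F) • Φ.e := by
      rw [hd, act_mul, (eig_spec Φ g0).2, act_smul, (mem_P Φ).1 (inv_mem hu), ← hg0]
      rfl
    have hdL : d • L1 = L1 := by rw [hd, mul_smul, inv_smul_eq_iff, hu']
    obtain ⟨bf, hbf0, hdf⟩ := mkLine_eq ((smul_mkLine d Φ.f hf0 Φ.ff).symm.trans hdL)
    have hdB : d ∈ B0 := mul_mem (P_le_stab Φ (inv_mem hu)) g0.2
    have h := hg (π d) ⟨d, hdB, rfl⟩ ⟨n0⁻¹ * d * n0, mem_stabilizer_iff.2 (by
      rw [mul_smul, mul_smul, hn0, hdL, inv_smul_eq_iff, hn0]), by simp [map_mul]⟩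
    rw [← map_inv, ← map_mul, ← map_mul] at h
    have hfix : d • (g • Φ.line) = g • Φ.line := by
      have := mem_stabilizer_iff.1 (hker h)
      rwa [mul_smul, mul_smul, inv_smul_eq_iff] at this
    by_cases h1 : g • Φ.line = Φ.line
    · exact Or.inl ⟨g, mem_stabilizer_iff.2 h1, rfl⟩
    by_cases h2 : g • Φ.line = L1
    · right
      rw [← map_inv, ← map_mul]
      exact ⟨_, mem_stabilizer_iff.2 (by rw [mul_smul, h2, inv_smul_eq_iff, hn0]), rfl⟩
    exfalso
    obtain ⟨v, hv0, hv, hgv⟩ := exists_rep (g • Φ.line)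
    rw [hgv] at hfix h1 h2
    obtain ⟨b, -, hdv⟩ := mkLine_eq ((smul_mkLine d v hv0 hv).symm.trans hfix)
    set α := hermForm 3 F q v Φ.f with hα
    set β := hermForm 3 F q v Φ.e with hβ
    set γ := hermForm 3 F q v Φ.k with hγ
    have hx : v = α • Φ.e + β • Φ.f + γ • Φ.k := Φ.span v
    have hnorm : α * β ^ q + β * α ^ q + γ ^ (q + 1) = 0 := by
      have hv' := hv
      rw [hx] at hv'
      simp only [herm_add_left, herm_add_right hF, herm_smul_left, herm_smul_right, Φ.ee, Φ.ff, Φ.ef,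
        Φ.fe, Φ.ke, Φ.ek, Φ.kf, Φ.fk, Φ.kk] at hv'
      rw [pow_succ']
      linear_combination hv'
    have hz : (0 : F) ^ q = 0 := zero_pow (by omega)
    have hα0 : α ≠ 0 := fun h0 => by
      rw [h0, hz, zero_mul, mul_zero, zero_add, zero_add, pow_eq_zero_iff (by omega)] at hnorm
      refine h2 (Subtype.ext ?_)
      show lineOf v = lineOf Φ.f
      rw [h0, hnorm, zero_smul, zero_smul, add_zero, zero_add] at hx
      have hb0 : β ≠ 0 := fun e => hv0 (by rw [hx, e, zero_smul])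
      rw [hx, lineOf_smul hb0]
    have hβ0 : β ≠ 0 := fun h0 => by
      rw [h0, hz, zero_mul, mul_zero, zero_add, zero_add, pow_eq_zero_iff (by omega)] at hnorm
      refine h1 (Subtype.ext ?_)
      show lineOf v = lineOf Φ.e
      rw [h0, hnorm, zero_smul, zero_smul, add_zero, add_zero] at hx
      rw [hx, lineOf_smul hα0]
    have p1 : b * (a : F) ^ q = 1 := by
      have h := herm_act d v Φ.e
      rw [hdv, hde, herm_smul_left, herm_smul_right, ← mul_assoc] at h
      exact (mul_left_eq_self₀.1 h).resolve_right hβ0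
    have p2 : b * bf ^ q = 1 := by
      have h := herm_act d v Φ.f
      rw [hdv, hdf, herm_smul_left, herm_smul_right, ← mul_assoc] at h
      exact (mul_left_eq_self₀.1 h).resolve_right hα0
    have p3 : (a : F) * bf ^ q = 1 := by
      have h := herm_act d Φ.e Φ.f
      rw [hde, hdf, herm_smul_left, herm_smul_right, Φ.ef, mul_one] at h
      exact h
    refine ha (Units.ext ?_)
    rw [Units.val_pow_eq_pow_val, Units.val_one, pow_succ]
    have hb : b = a := by
      have hbq : bf ^ q ≠ 0 := pow_ne_zero _ hbf0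
      exact mul_right_cancel₀ hbq (p2.trans p3.symm)
    rw [hb] at p1
    linear_combination p1

end PSU

end Cfsg.Agent.Radical42RankOneRigid
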