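import Cfsg.Agent.Lib.ChevalleyTorus
import Cfsg.Agent.Lib.SLMinDegree32

/-!
Characters of abelian radicals occurring in a complex representation of a group with root elements:
moves by root elements, orbit counting, scalar action of stabilisers. Everything combinatorial is
checked on the tables of the datum.
-/

set_option autoImplicit false
set_option linter.unusedSectionVars false
set_option linter.unusedVariables false

namespace Cfsg.Agent.RadicalChar68

open Cfsg.Lie Cfsg.Agent.SUMinDegree32Eigen Cfsg.Agent.SLMinDegree32 Module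

/-- a pair of roots of the set `Φ`, neither equal nor opposite -/
def dist (D : ChevalleyDatum) (Φ : List ℕ) (r s : ℕ) : Bool :=
  decide (r ∈ Φ) && decide (s ∈ Φ) && decide (r < D.nroots) && decide (s < D.nroots) &&
    decide (s ≠ r) && decide (s ≠ D.neg r)

/-- root elements with the commutator relations -/
structure Sys (D : ChevalleyDatum) (Φ : List ℕ) (F : Type*) [Field F] (Γ : Type*) [Group Γ] where
  /-- the root elements -/
  x : ℕ → F → Γ
  add : ∀ r t u, x r t * x r u = x r (t + u)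
  comm0 : ∀ r s, dist D Φ r s = true → D.commTerms r s = [] → ∀ t u, Commute (x r t) (x s u)
  comm1 : ∀ r s k c, dist D Φ r s = true → D.commTerms r s = [(k, c, 1, 1)] → k ∈ Φ →
    ∀ t u, x s u * x r t = x r t * x s u * x k ((c : F) * (-t) * u)

/-- one term commutator with a unit coefficient -/
def one (D : ChevalleyDatum) (Φ : List ℕ) (r s k : ℕ) : Bool :=
  dist D Φ r s && decide (k ∈ Φ) &&
    (decide (D.commTerms r s = [(k, 1, 1, 1)]) || decide (D.commTerms r s = [(k, -1, 1, 1)]))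

/-- commuting pair -/
def zero (D : ChevalleyDatum) (Φ : List ℕ) (r s : ℕ) : Bool :=
  decide (r = s) || (dist D Φ r s && decide (D.commTerms r s = []))

section Table

variable (D : ChevalleyDatum) (Φ : List ℕ) {n : ℕ} (S : Fin n → ℕ)

/-- the coordinate feeding into the coordinate `k` -/
def tg (g : ℕ) (k : Fin n) : Option (Fin n × ℤ) :=
  match D.commTerms g (S k) with
  | [(r, e, _, _)] => ((List.finRange n).find? fun l => S l == r).map fun l => (l, e)
  | _ => none

/-- membership -/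
def free (g : ℕ) (k : Fin n) (Z : List (Fin n)) : Bool :=
  match tg D S g k with
  | none => true
  | some p => Z.contains p.1

/-- a root element acting on the characters -/
def okMv (g : ℕ) : Bool :=
  (List.finRange n).all fun k =>
    (zero D Φ g (S k) && (tg D S g k).isNone) ||
      (match tg D S g k with
        | none => false
        | some (l, _) => one D Φ g (S k) (S l) && (tg D S g l).isNone)

/-- the root `g` carries the coordinate `i` into `j` -/
def stepOK (g : ℕ) (i j : Fin n) (Z P : List (Fin n)) : Bool :=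
  okMv D Φ S g &&
    (match tg D S g j with
      | none => false
      | some p => p.1 == i) &&
    P.all fun k => free D S g k Z

/-- a list of coordinates to be processed from the coordinate `i` -/
def chainOK (i : Fin n) (Ex : List (Fin n)) : List (Fin n) → List (ℕ × Fin n) → Bool
  | _, [] => true
  | Z, p :: r => stepOK D Φ S p.1 i p.2 Z (Z ++ i :: Ex) && chainOK i Ex (p.2 :: Z) r

/-- everything but `a` -/
def co1 (a : Fin n) : List (Fin n) := (List.finRange n).filter fun u => decide (u ≠ a)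

/-- everything but `a`, `b` -/
def co2 (a b : Fin n) : List (Fin n) := (List.finRange n).filter fun u => decide (u ≠ a ∧ u ≠ b)

/-- transfer of root characters -/
def linkOK (g g' : ℕ) (a b : Fin n) : Bool :=
  stepOK D Φ S g a b (co1 a) (co1 b) && stepOK D Φ S g' b a (co2 a b) (co1 a)

/-- the earlier coordinates -/
def below (i : Fin n) : List (Fin n) := (List.finRange n).filter fun u => decide (u < i)

end Table

/-- the combinatorial certificate of a radical -/
structure Tab (n : ℕ) where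
  /-- the roots -/
  S : Fin (n + 1) → ℕ
  /-- a neighbour above and the two differences -/
  par : Fin (n + 1) → Fin (n + 1) × ℕ × ℕ
  /-- the neighbours below -/
  lead : Fin (n + 1) → List (ℕ × Fin (n + 1))
  /-- the first far coordinate -/
  f0 : Fin (n + 1)
  /-- the other far coordinates -/
  far : List (ℕ × Fin (n + 1))
  /-- moves to the first far coordinate -/
  fmv : List (ℕ × Fin (n + 1))

variable {D : ChevalleyDatum} {Φ : List ℕ} {n : ℕ}

/-- the check of a certificate -/
def Tab.ok (T : Tab n) (D : ChevalleyDatum) (Φ : List ℕ) : Bool :=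
  decide ((List.finRange (n + 1)).map T.S).Nodup &&
  ((List.finRange (n + 1)).all fun i => (List.finRange (n + 1)).all fun j => zero D Φ (T.S i) (T.S j)) &&
  ((List.finRange (n + 1)).all fun k => decide (k = 0) ||
    (decide ((T.par k).1 < k) && linkOK D Φ T.S (T.par k).2.2 (T.par k).2.1 k (T.par k).1 &&
      linkOK D Φ T.S (T.par k).2.1 (T.par k).2.2 (T.par k).1 k)) &&
  ((List.finRange (n + 1)).all fun i => chainOK D Φ T.S i [] (below i) (T.lead i)) &&
  ((List.finRange (n + 1)).all fun k => decide (k = 0) || ((T.lead 0).map Prod.snd).contains k ||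
    decide (k = T.f0) || (T.fmv.map Prod.snd).contains k) &&
  ((List.finRange (n + 1)).all fun k => decide (k = 0) || ((T.lead 0).map Prod.snd).contains k ||
    decide (k = T.f0) || (T.far.map Prod.snd).contains k) &&
  (T.fmv.all fun p => stepOK D Φ T.S p.1 p.2 T.f0 ((T.lead 0).map Prod.snd) (0 :: (T.lead 0).map Prod.snd)) &&
  chainOK D Φ T.S T.f0 [0] ((T.lead 0).map Prod.snd) T.far

variable {F : Type*} [Field F] {Γ : Type*} [Group Γ]

namespace Sys

variable (Y : Sys D Φ F Γ)

theorem x_zero (r : ℕ) : Y.x r 0 = 1 := by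
  have h := Y.add r 0 0
  rw [add_zero] at h
  exact mul_eq_left.1 h

theorem comm_zero {r s : ℕ} (h : RadicalChar68.zero D Φ r s = true) (t u : F) :
    Commute (Y.x r t) (Y.x s u) := by
  simp only [RadicalChar68.zero, Bool.or_eq_true, Bool.and_eq_true, decide_eq_true_eq] at h
  rcases h with rfl | ⟨h1, h2⟩
  · show _ = _
    rw [Y.add, Y.add, add_comm]
  · exact Y.comm0 r s h1 h2 t u

theorem comm_one {r s k : ℕ} (h : RadicalChar68.one D Φ r s k = true) :
    ∃ c : ℤ, (c = 1 ∨ c = -1) ∧ D.commTerms r s = [(k, c, 1, 1)] ∧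
      ∀ t u, Y.x s u * Y.x r t = Y.x r t * Y.x s u * Y.x k ((c : F) * (-t) * u) := by
  simp only [RadicalChar68.one, Bool.or_eq_true, Bool.and_eq_true, decide_eq_true_eq] at h
  obtain ⟨⟨h1, h2⟩, h3 | h3⟩ := h
  · exact ⟨1, Or.inl rfl, h3, Y.comm1 r s k 1 h1 h3 h2⟩
  · exact ⟨-1, Or.inr rfl, h3, Y.comm1 r s k (-1) h1 h3 h2⟩

end Sys

theorem cast_pm_ne {c : ℤ} (h : c = 1 ∨ c = -1) : (c : F) ≠ 0 := by
  rcases h with rfl | rfl <;> simp

theorem rho_inj {V : Type*} [AddCommGroup V] [Module ℂ V] (σ : Representation ℂ Γ V) (g : Γ) :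
    Function.Injective (σ g) := fun x y h => by
  have h' := congrArg (σ g⁻¹) h
  rwa [← Module.End.mul_apply, ← Module.End.mul_apply, ← map_mul, inv_mul_cancel, map_one] at h'

theorem phi_ne_zero (a : F) [Fintype F] : (phi0 : AddChar F ℂ) a ≠ 0 := (AddChar.val_isUnit _ _).ne_zero

variable [Fintype F] {V : Type} [AddCommGroup V] [Module ℂ V] {Y : Sys D Φ F Γ}

variable (Y) in
/-- the one-parameter homomorphism -/
def xh (r : ℕ) : Multiplicative F →* Γ where
  toFun t := Y.x r t.toAdd
  map_one' := Y.x_zero r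
  map_mul' a b := (Y.add r a.toAdd b.toAdd).symm

/-- the data: an abelian radical with commuting root elements -/
structure Rad (Y : Sys D Φ F Γ) (n : ℕ) where
  /-- the roots -/
  S : Fin n → ℕ
  comm : ∀ i j t u, Commute (Y.x (S i) t) (Y.x (S j) u)
  inj : Function.Injective S

variable (R : Rad Y n) (σ : Representation ℂ Γ V)

/-- the radical as a homomorphism -/
def Rad.U : (Fin n → Multiplicative F) →* Γ :=
  MonoidHom.noncommPiCoprod (fun i => xh Y (R.S i)) fun i j _ a b => R.comm i j _ _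

/-- the operators -/
noncomputable def Du (a : Fin n → F) : Module.End ℂ V := σ (R.U fun i => Multiplicative.ofAdd (a i))

theorem Du_add (a b : Fin n → F) : Du R σ (a + b) = Du R σ a * Du R σ b := by
  rw [Du, Du, Du, ← map_mul, ← map_mul]
  rfl

theorem Du_zero : Du R σ 0 = 1 := by
  rw [Du]
  have : (fun i : Fin n => Multiplicative.ofAdd ((0 : Fin n → F) i)) = 1 := rfl
  rw [this, map_one, map_one]

theorem Du_single (i : Fin n) (a : F) : Du R σ (Pi.single i a) = σ (Y.x (R.S i) a) := by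
  classical
  rw [Du]
  have : (fun j : Fin n => Multiplicative.ofAdd ((Pi.single i a : Fin n → F) j)) =
      Pi.mulSingle i (Multiplicative.ofAdd a) := by
    funext j
    by_cases h : j = i
    · subst h; simp
    · simp [h]
  rw [this]
  exact congrArg σ (MonoidHom.noncommPiCoprod_mulSingle _ _ _)

/-- the character space -/
noncomputable def Esp (c : Fin n → F) : Submodule ℂ V := eig (Du R σ) (chi c)

theorem mem_E {c : Fin n → F} {v : V} :
    v ∈ Esp R σ c ↔ ∀ i a, σ (Y.x (R.S i) a) v = phi0 (c i * a) • v := by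
  classical
  constructor
  · intro h i a
    have h1 := h (Pi.single i a)
    rwa [Du_single, chi_apply, dotProduct_single] at h1
  · intro h a
    rw [← Finset.univ_sum_single a]
    induction (Finset.univ : Finset (Fin n)) using Finset.induction_on with
    | empty => rw [Finset.sum_empty, Du_zero, AddChar.map_zero_eq_one, one_smul]; rfl
    | insert i s hi ih =>
      rw [Finset.sum_insert hi, Du_add, Module.End.mul_apply, ih, map_smul, Du_single, h,
        AddChar.map_add_eq_mul, smul_smul]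
      congr 1
      rw [chi_apply c (Pi.single i (a i)), dotProduct_single, mul_comm]

theorem mem_fix {v : V} : v ∈ Esp R σ 0 ↔ ∀ i a, σ (Y.x (R.S i) a) v = v := by
  simp [mem_E]

/-- the action on characters -/
def mv (g : ℕ) (t : F) (c : Fin n → F) : Fin n → F := fun k =>
  match tg D R.S g k with
  | none => c k
  | some (l, e) => c k - (e : F) * t * c l

variable {R σ}

theorem mv_some {g : ℕ} {t : F} {c : Fin n → F} {k l : Fin n} {e : ℤ} (h : tg D R.S g k = some (l, e)) :
    mv R g t c k = c k - (e : F) * t * c l := by simp [mv, h]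

theorem mv_none {g : ℕ} {t : F} {c : Fin n → F} {k : Fin n} (h : tg D R.S g k = none) :
    mv R g t c k = c k := by simp [mv, h]

theorem okMv_cases {g : ℕ} (h : okMv D Φ R.S g = true) (k : Fin n) :
    (zero D Φ g (R.S k) = true ∧ tg D R.S g k = none) ∨
      ∃ l e, tg D R.S g k = some (l, e) ∧ one D Φ g (R.S k) (R.S l) = true ∧ tg D R.S g l = none := by
  have h1 := List.all_eq_true.1 h k (List.mem_finRange k)
  rw [Bool.or_eq_true] at h1
  rcases h1 with h2 | h2
  · simp only [Bool.and_eq_true, Option.isNone_iff_eq_none] at h2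
    exact Or.inl h2
  · refine Or.inr ?_
    cases hk : tg D R.S g k with
    | none => simp [hk] at h2
    | some p =>
      obtain ⟨l, e⟩ := p
      simp only [hk, Bool.and_eq_true, Option.isNone_iff_eq_none] at h2
      exact ⟨l, e, rfl, h2⟩

theorem coef_pm {g : ℕ} (h : okMv D Φ R.S g = true) {k l : Fin n} {e : ℤ}
    (hk : tg D R.S g k = some (l, e)) : e = 1 ∨ e = -1 := by
  rcases okMv_cases h k with ⟨-, h2⟩ | ⟨l', e', h2, h3, -⟩
  · rw [h2] at hk; exact absurd hk (by simp)
  · rw [h2] at hk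
    obtain ⟨rfl, rfl⟩ := Prod.mk.inj (Option.some.inj hk)
    obtain ⟨c, hc, hterm, -⟩ := Y.comm_one h3
    simp only [tg, hterm, Option.map_eq_some_iff] at h2
    obtain ⟨_, -, he⟩ := h2
    obtain ⟨-, rfl⟩ := Prod.mk.inj he
    exact hc

theorem mv_mv {g : ℕ} (h : okMv D Φ R.S g = true) (t : F) (c : Fin n → F) :
    mv R g (-t) (mv R g t c) = c := by
  funext k
  rcases okMv_cases h k with ⟨-, h2⟩ | ⟨l, e, h2, -, h4⟩
  · rw [mv_none h2, mv_none h2]
  · rw [mv_some h2, mv_some h2, mv_none h4]; ring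

theorem mv_zero {g : ℕ} (t : F) : mv R g t (0 : Fin n → F) = 0 := by
  funext k
  simp only [mv]
  cases tg D R.S g k <;> simp

theorem mv_mem {g : ℕ} (h : okMv D Φ R.S g = true) (t : F) {c : Fin n → F} {v : V}
    (hv : v ∈ Esp R σ c) : σ (Y.x g t) v ∈ Esp R σ (mv R g t c) := by
  rw [mem_E] at hv ⊢
  intro k a
  rcases okMv_cases h k with ⟨h1, h2⟩ | ⟨l, e, h2, h3, -⟩
  · rw [mv_none h2, ← Module.End.mul_apply, ← map_mul, ← (Y.comm_zero h1 t a).eq, map_mul,
      Module.End.mul_apply, hv, map_smul]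
  · obtain ⟨e', -, hterm, hrel⟩ := Y.comm_one h3
    have he : e' = e := by
      simp only [tg, hterm, Option.map_eq_some_iff] at h2
      obtain ⟨_, -, he⟩ := h2
      exact congrArg Prod.snd he
    subst he
    rw [mv_some h2, ← Module.End.mul_apply, ← map_mul, hrel, map_mul, map_mul, Module.End.mul_apply,
      Module.End.mul_apply, hv, map_smul, map_smul, hv, map_smul, smul_smul, ← AddChar.map_add_eq_mul]
    congr 2
    ring

variable [FiniteDimensional ℂ V]

variable (R σ) in
/-- multiplicity at least `m` -/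
def Good (m : ℕ) (c : Fin n → F) : Prop := m ≤ finrank ℂ (Esp R σ c)

theorem good_mv {m g : ℕ} (h : okMv D Φ R.S g = true) (t : F) {c : Fin n → F} (hc : Good R σ m c) :
    Good R σ m (mv R g t c) :=
  hc.trans (LinearMap.finrank_le_finrank_of_injective
    (f := (σ (Y.x g t)).restrict fun v hv => mv_mem h t hv)
    fun a b e => Subtype.ext (rho_inj σ _ (congrArg Subtype.val e)))

theorem stepOK_iff {g : ℕ} {i j : Fin n} {Z P : List (Fin n)} (h : stepOK D Φ R.S g i j Z P = true) :
    okMv D Φ R.S g = true ∧ (∃ e : ℤ, tg D R.S g j = some (i, e) ∧ (e : F) ≠ 0) ∧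
      ∀ (t : F) (c : Fin n → F), (∀ l ∈ Z, c l = 0) → ∀ k ∈ P, mv R g t c k = c k := by
  simp only [stepOK, Bool.and_eq_true, List.all_eq_true] at h
  obtain ⟨⟨h1, h2⟩, h3⟩ := h
  refine ⟨h1, ?_, fun t c hc k hk => ?_⟩
  · cases hj : tg D R.S g j with
    | none => simp [hj] at h2
    | some p =>
      obtain ⟨l, e⟩ := p
      simp only [hj, beq_iff_eq] at h2
      subst h2
      exact ⟨e, rfl, cast_pm_ne (coef_pm h1 hj)⟩
  · have h4 := h3 k hk
    cases hk' : tg D R.S g k with
    | none => exact mv_none hk'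
    | some p =>
      obtain ⟨l, e⟩ := p
      simp only [free, hk', List.contains_iff_mem] at h4
      rw [mv_some hk', hc l h4]; ring

theorem step_set {m g : ℕ} {i j : Fin n} {Z P : List (Fin n)} (h : stepOK D Φ R.S g i j Z P = true)
    {c : Fin n → F} (hc : Good R σ m c) (hi : c i ≠ 0) (hZ : ∀ l ∈ Z, c l = 0) (a : F) :
    ∃ c', Good R σ m c' ∧ c' j = a ∧ ∀ k ∈ P, c' k = c k := by
  obtain ⟨h1, ⟨e, he, he0⟩, h3⟩ := stepOK_iff (R := R) h
  refine ⟨mv R g ((c j - a) / ((e : F) * c i)) c, good_mv h1 _ hc, ?_, h3 _ c hZ⟩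
  rw [mv_some he]
  field_simp
  ring

theorem kill {m : ℕ} {i : Fin n} {Ex : List (Fin n)} : ∀ (js : List (ℕ × Fin n)) (Z : List (Fin n)),
    chainOK D Φ R.S i Ex Z js = true → ∀ c : Fin n → F, Good R σ m c → c i ≠ 0 → (∀ l ∈ Z, c l = 0) →
    ∃ c', Good R σ m c' ∧ (∀ l ∈ Z, c' l = 0) ∧ (∀ p ∈ js, c' p.2 = 0) ∧ c' i = c i ∧
      ∀ k ∈ Ex, c' k = c k
  | [], Z, _, c, hc, _, hZ => ⟨c, hc, hZ, by simp, rfl, fun _ _ => rfl⟩
  | p :: r, Z, h, c, hc, hi, hZ => by
    simp only [chainOK, Bool.and_eq_true] at h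
    obtain ⟨c1, hc1, hj, hP⟩ := step_set h.1 hc hi hZ 0
    have hi1 : c1 i = c i := hP i (by simp)
    obtain ⟨c2, hc2, hZ2, hr, hi2, hE⟩ := kill r (p.2 :: Z) h.2 c1 hc1 (hi1 ▸ hi) fun l hl => by
      rcases List.mem_cons.1 hl with rfl | hl
      · exact hj
      · rw [hP l (by simp [hl]), hZ l hl]
    refine ⟨c2, hc2, fun l hl => hZ2 l (List.mem_cons_of_mem _ hl), fun q hq => ?_, hi2.trans hi1,
      fun k hk => (hE k hk).trans (hP k (by simp [hk]))⟩
    rcases List.mem_cons.1 hq with rfl | hq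
    · exact hZ2 _ (List.mem_cons_self ..)
    · exact hr q hq

theorem spread [DecidableEq F] {m : ℕ} {i : Fin n} {Ex : List (Fin n)} {t : F} (ht : t ≠ 0)
    (ex : Fin n → F) : ∀ (js : List (ℕ × Fin n)) (Z : List (Fin n)), chainOK D Φ R.S i Ex Z js = true →
    ∀ A : Finset (Fin n → F), (∀ c ∈ A, Good R σ m c ∧ (∀ l ∈ Z, c l = 0) ∧ (∀ p ∈ js, c p.2 = 0) ∧
      c i = t ∧ ∀ k ∈ Ex, c k = ex k) →
    ∃ B : Finset (Fin n → F), (∀ c ∈ B, Good R σ m c ∧ (∀ l ∈ Z, c l = 0) ∧ c i = t ∧
      ∀ k ∈ Ex, c k = ex k) ∧ Fintype.card F ^ js.length * A.card ≤ B.card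
  | [], Z, _, A, hA => ⟨A, fun c hc => ⟨(hA c hc).1, (hA c hc).2.1, (hA c hc).2.2.2⟩, by simp⟩
  | p :: r, Z, h, A, hA => by
    simp only [chainOK, Bool.and_eq_true] at h
    obtain ⟨B', hB', hcard⟩ := spread ht ex r (p.2 :: Z) h.2 A fun c hc => by
      obtain ⟨h1, h2, h3, h4⟩ := hA c hc
      refine ⟨h1, fun l hl => ?_, fun q hq => h3 q (List.mem_cons_of_mem _ hq), h4⟩
      rcases List.mem_cons.1 hl with rfl | hl
      · exact h3 p (List.mem_cons_self ..)
      · exact h2 l hl
    obtain ⟨hok, ⟨e, he, he0⟩, hP⟩ := stepOK_iff (R := R) h.1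
    refine ⟨(Finset.univ ×ˢ B').image fun xc : F × (Fin n → F) => mv R p.1 xc.1 xc.2, fun c hc => ?_, ?_⟩
    · obtain ⟨⟨x, c0⟩, hxc, rfl⟩ := Finset.mem_image.1 hc
      obtain ⟨h1, h2, h3, h4⟩ := hB' c0 (Finset.mem_product.1 hxc).2
      have hz : ∀ l ∈ Z, c0 l = 0 := fun l hl => h2 l (List.mem_cons_of_mem _ hl)
      refine ⟨good_mv hok x h1, fun l hl => ?_, ?_, fun k hk => ?_⟩
      · rw [hP x c0 hz l (by simp [hl]), hz l hl]
      · rw [hP x c0 hz i (by simp), h3]
      · rw [hP x c0 hz k (by simp [hk]), h4 k hk]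
    · rw [Finset.card_image_of_injOn, Finset.card_product, Finset.card_univ, List.length_cons,
        pow_succ', mul_assoc]
      · exact Nat.mul_le_mul_left _ hcard
      · rintro ⟨x, c⟩ hx ⟨x', c'⟩ hx' hxx
        simp only [Finset.coe_product, Set.mem_prod, Finset.mem_coe] at hx hx'
        simp only at hxx
        have hv := congrFun hxx p.2
        rw [mv_some he, mv_some he, (hB' c hx.2).2.1 p.2 (List.mem_cons_self ..), (hB' c hx.2).2.2.1,
          (hB' c' hx'.2).2.1 p.2 (List.mem_cons_self ..), (hB' c' hx'.2).2.2.1] at hv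
        have hxe : x = x' := by
          simpa [ht, he0] using hv
        subst hxe
        have := congrArg (mv R p.1 (-x)) hxx
        rw [mv_mv hok, mv_mv hok] at this
        rw [this]

/-- the dimension bound from a set of characters -/
theorem le_dim {m : ℕ} (B : Finset (Fin n → F)) (hB : ∀ c ∈ B, Good R σ m c) (h0 : (0 : Fin n → F) ∉ B) :
    finrank ℂ (Esp R σ 0) + m * B.card ≤ finrank ℂ V := by
  classical
  have h := SUMinDegree32Eigen.sum_finrank_le (Du R σ) ⊤ ((insert 0 B).image chi)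
  rw [Finset.sum_image (fun a _ b _ e => chi_bijective.1 e), finrank_top] at h
  have hd : ∀ c : Fin n → F, finrank ℂ ↥(⊤ ⊓ eig (Du R σ) (chi c)) = finrank ℂ (Esp R σ c) :=
    fun c => by rw [Esp, top_inf_eq]
  rw [Finset.sum_congr rfl fun c _ => hd c, Finset.sum_insert h0] at h
  refine le_trans (Nat.add_le_add_left ?_ _) h
  rw [mul_comm, ← smul_eq_mul]
  exact Finset.card_nsmul_le_sum _ _ _ hB

/-- some nontrivial character occurs -/
theorem exists_char {i : Fin n} {a : F} {v : V} (hv : σ (Y.x (R.S i) a) v ≠ v) :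
    ∃ c, c ≠ 0 ∧ Good R σ 1 c := by
  obtain ⟨ψ, hψ, w, -, hw0, hw⟩ := SUMinDegree32Eigen.exists_eigen_nontrivial (Du_add R σ) (Du_zero R σ) ⊤
    (fun _ _ _ => Submodule.mem_top) (Submodule.mem_top : v ∈ (⊤ : Submodule ℂ V))
    (a := Pi.single i a) (by rwa [Du_single])
  obtain ⟨c, rfl⟩ := chi_bijective.2 ψ
  refine ⟨c, fun e => hψ (by rw [e, chi_zero]), ?_⟩
  haveI : Nontrivial (Esp R σ c) := ⟨⟨⟨w, hw⟩, 0, fun e => hw0 (congrArg Subtype.val e)⟩⟩
  exact finrank_pos

/-- invariance of the fixed space -/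
theorem fix_inv {g : ℕ} (h : okMv D Φ R.S g = true) (t : F) {v : V} (hv : v ∈ Esp R σ 0) :
    σ (Y.x g t) v ∈ Esp R σ 0 := by
  have := mv_mem h t hv
  rwa [mv_zero] at this

/-- the stabiliser of a root character -/
def stabOK (D : ChevalleyDatum) (Φ : List ℕ) {n : ℕ} (S : Fin n → ℕ) (b : Fin n) (g : ℕ) : Bool :=
  okMv D Φ S g && (List.finRange n).all fun k => free D S g k (co1 b)

/-- roots fixing a root vector -/
def fixOK (D : ChevalleyDatum) (Φ : List ℕ) {n : ℕ} (S : Fin n → ℕ) (b : Fin n)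
    (dec : List (ℕ × ℕ × ℕ)) (g : ℕ) : Bool :=
  (co1 b).any (fun k => S k == g) ||
    dec.any fun d => d.1 == g && stabOK D Φ S b d.2.1 && stabOK D Φ S b d.2.2 && one D Φ d.2.1 d.2.2 g

theorem stab_scalar {b : Fin n} {g : ℕ} (h : stabOK D Φ R.S b g = true)
    (hd : finrank ℂ (Esp R σ (Pi.single b 1)) = 1) {w : V} (hw : w ∈ Esp R σ (Pi.single b 1))
    (hw0 : w ≠ 0) (t : F) : ∃ l : ℂ, l ≠ 0 ∧ σ (Y.x g t) w = l • w := by
  classical
  simp only [stabOK, Bool.and_eq_true, List.all_eq_true] at h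
  have hfix : mv R g t (Pi.single b 1) = Pi.single b (1 : F) := by
    funext k
    have h2 := h.2 k (List.mem_finRange k)
    cases hk : tg D R.S g k with
    | none => exact mv_none hk
    | some p =>
      obtain ⟨l, e⟩ := p
      simp only [free, hk, List.contains_iff_mem, co1, List.mem_filter, decide_eq_true_eq] at h2
      rw [mv_some hk, Pi.single_eq_of_ne h2.2]
      ring
  have hm := mv_mem (σ := σ) h.1 t hw
  rw [hfix] at hm
  obtain ⟨l, hl⟩ := (finrank_eq_one_iff_of_nonzero' (⟨w, hw⟩ : Esp R σ (Pi.single b 1))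
    (fun e => hw0 (congrArg Subtype.val e))).1 hd ⟨_, hm⟩
  have hl' : σ (Y.x g t) w = l • w := (congrArg Subtype.val hl).symm
  refine ⟨l, fun e => hw0 (rho_inj σ (Y.x g t) ?_), hl'⟩
  rw [hl', e, zero_smul, map_zero]

theorem fix_vec {b : Fin n} {dec : List (ℕ × ℕ × ℕ)} {g : ℕ} (h : fixOK D Φ R.S b dec g = true)
    (hd : finrank ℂ (Esp R σ (Pi.single b 1)) = 1) {w : V} (hw : w ∈ Esp R σ (Pi.single b 1))
    (hw0 : w ≠ 0) (t : F) : σ (Y.x g t) w = w := by
  classical
  simp only [fixOK, Bool.or_eq_true, List.any_eq_true, Bool.and_eq_true, beq_iff_eq] at h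
  rcases h with ⟨k, hk, rfl⟩ | ⟨⟨g', g1, g2⟩, -, ⟨⟨rfl, h1⟩, h2⟩, h3⟩
  · rw [(mem_E R σ).1 hw k t]
    simp only [co1, List.mem_filter, decide_eq_true_eq] at hk
    rw [Pi.single_eq_of_ne hk.2, zero_mul, AddChar.map_zero_eq_one, one_smul]
  · obtain ⟨c, hc, -, hrel⟩ := Y.comm_one h3
    have hc0 : (c : F) ≠ 0 := cast_pm_ne hc
    set a : F := -(t / (c : F)) with ha
    obtain ⟨l1, l10, e1⟩ := stab_scalar h1 hd hw hw0 a
    obtain ⟨l2, l20, e2⟩ := stab_scalar h2 hd hw hw0 1
    have := congrArg (fun x => σ x w) (hrel a 1)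
    simp only [map_mul, Module.End.mul_apply] at this
    rw [show (c : F) * -a * 1 = t by rw [ha]; field_simp, e1, map_smul, e2, smul_smul] at this
    have h' : σ (Y.x g1 a) (σ (Y.x g2 1) w) = σ (Y.x g1 a) (σ (Y.x g2 1) (σ (Y.x g' t) w)) := by
      rw [← this, e2, map_smul, e1, smul_smul, mul_comm]
    exact (rho_inj σ _ (rho_inj σ _ h')).symm

/-- derivations of all roots from those of the radical -/
def derivOK (D : ChevalleyDatum) (Φ : List ℕ) : List ℕ → List (ℕ × ℕ × ℕ) → Bool
  | K, [] => Φ.all fun r => K.contains r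
  | K, (r, s, g) :: rest => K.contains s && one D Φ s g r && derivOK D Φ (r :: K) rest

theorem deriv_trivial : ∀ (l : List (ℕ × ℕ × ℕ)) (K : List ℕ), derivOK D Φ K l = true →
    (∀ r ∈ K, ∀ t : F, σ (Y.x r t) = 1) → ∀ r ∈ Φ, ∀ t : F, σ (Y.x r t) = 1
  | [], K, h, hK, r, hr, t => by
    simp only [derivOK, List.all_eq_true, List.contains_iff_mem] at h
    exact hK r (h r hr) t
  | (r, s, g) :: rest, K, h, hK, r', hr', t => by
    simp only [derivOK, Bool.and_eq_true, List.contains_iff_mem] at h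
    refine deriv_trivial rest (r :: K) h.2 (fun k hk u => ?_) r' hr' t
    rcases List.mem_cons.1 hk with rfl | hk
    · obtain ⟨c, hc, -, hrel⟩ := Y.comm_one h.1.2
      have hc0 : (c : F) ≠ 0 := cast_pm_ne hc
      have := congrArg σ (hrel (-(u / (c : F))) 1)
      rw [show (c : F) * - -(u / (c : F)) * 1 = u by field_simp] at this
      simp only [map_mul, hK s h.1.1, mul_one, one_mul] at this
      have h2 : σ (Y.x g 1)⁻¹ * σ (Y.x g 1) = 1 := by rw [← map_mul, inv_mul_cancel, map_one]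
      have h3 := congrArg (fun T => σ (Y.x g 1)⁻¹ * T) this
      rw [← mul_assoc, h2, one_mul] at h3
      exact h3.symm
    · exact hK k hk u

section TabLemmas

variable {T : Tab n}

/-- the radical of a certificate -/
def Tab.rad (T : Tab n) (Y : Sys D Φ F Γ) (hT : T.ok D Φ = true) : Rad Y (n + 1) where
  S := T.S
  comm i j t u := by
    simp only [Tab.ok, Bool.and_eq_true, List.all_eq_true] at hT
    exact Y.comm_zero (hT.1.1.1.1.1.1.2 i (List.mem_finRange i) j (List.mem_finRange j)) t u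
  inj := by
    simp only [Tab.ok, Bool.and_eq_true, decide_eq_true_eq] at hT
    have h := hT.1.1.1.1.1.1.1
    intro i j e
    exact List.inj_on_of_nodup_map h (List.mem_finRange i) (List.mem_finRange j) e

variable (hT : T.ok D Φ = true)
include hT

theorem link {m g g' : ℕ} {a b : Fin (n + 1)} (h : linkOK D Φ T.S g g' a b = true) {t u : F}
    (ht : t ≠ 0) (hu : u ≠ 0) (hc : Good (T.rad Y hT) σ m (Pi.single a t)) :
    Good (T.rad Y hT) σ m (Pi.single b u) := by
  classical
  simp only [linkOK, Bool.and_eq_true] at h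
  obtain ⟨c1, hc1, hb, hP⟩ := step_set (R := (T.rad Y hT)) h.1 hc (by simpa using ht)
    (fun l hl => by
      simp only [co1, List.mem_filter, decide_eq_true_eq] at hl
      exact Pi.single_eq_of_ne hl.2 _) u
  have hc1' : ∀ k, k ≠ b → c1 k = (Pi.single a t : Fin (n + 1) → F) k := fun k hk =>
    hP k (by simp [co1, hk])
  obtain ⟨c2, hc2, ha, hP2⟩ := step_set (R := (T.rad Y hT)) h.2 hc1 (hb ▸ hu)
    (fun l hl => by
      simp only [co2, List.mem_filter, decide_eq_true_eq] at hl
      rw [hc1' l hl.2.2]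
      exact Pi.single_eq_of_ne hl.2.1 _) 0
  convert hc2 using 1
  funext k
  by_cases hka : k = a
  · subst hka
    rw [ha]
    by_cases hkb : k = b
    · subst hkb
      exfalso
      obtain ⟨hok, ⟨e, he, -⟩, -⟩ := stepOK_iff (R := (T.rad Y hT)) h.1
      rcases okMv_cases hok k with ⟨-, h2⟩ | ⟨l, e', h2, -, h4⟩
      · exact absurd (h2.symm.trans he) (by simp)
      · obtain ⟨rfl, -⟩ := Prod.mk.inj (Option.some.inj (h2.symm.trans he))
        exact absurd (h4.symm.trans he) (by simp)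
    · exact Pi.single_eq_of_ne hkb _
  · rw [hP2 k (by simp [co1, hka])]
    by_cases hkb : k = b
    · subst hkb; rw [hb, Pi.single_eq_same]
    · rw [hc1' k hkb, Pi.single_eq_of_ne hka, Pi.single_eq_of_ne hkb]

theorem links (k : Fin (n + 1)) (hk : k ≠ 0) :
    (T.par k).1 < k ∧ linkOK D Φ T.S (T.par k).2.2 (T.par k).2.1 k (T.par k).1 = true ∧
      linkOK D Φ T.S (T.par k).2.1 (T.par k).2.2 (T.par k).1 k = true := by
  simp only [Tab.ok, Bool.and_eq_true, List.all_eq_true, Bool.or_eq_true, decide_eq_true_eq] at hT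
  rcases hT.1.1.1.1.1.2 k (List.mem_finRange k) with h | h
  · exact absurd h hk
  · exact ⟨h.1.1, h.1.2, h.2⟩

theorem root_down {m : ℕ} : ∀ (k : Fin (n + 1)) (t : F), t ≠ 0 → Good (T.rad Y hT) σ m (Pi.single k t) →
    ∀ j : Fin (n + 1), (j : ℕ) = 0 → ∃ u : F, u ≠ 0 ∧ Good (T.rad Y hT) σ m (Pi.single j u) := by
  intro k
  induction k using WellFoundedLT.induction with
  | _ k ih =>
    intro t ht hg j hj
    by_cases hk : k = 0
    · subst hk
      obtain rfl : j = 0 := Fin.ext hj
      exact ⟨t, ht, hg⟩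
    · obtain ⟨h1, h2, -⟩ := links hT k hk
      exact ih _ h1 1 one_ne_zero (link hT h2 ht one_ne_zero hg) j hj

theorem root_up {m : ℕ} (hn : 1 ≤ n) {t : F} (ht : t ≠ 0) (hg : Good (T.rad Y hT) σ m (Pi.single 0 t)) :
    ∀ (k : Fin (n + 1)) (u : F), u ≠ 0 → Good (T.rad Y hT) σ m (Pi.single k u) := by
  have main : ∀ k : Fin (n + 1), k ≠ 0 → ∀ u : F, u ≠ 0 → Good (T.rad Y hT) σ m (Pi.single k u) := by
    intro k
    induction k using WellFoundedLT.induction with
    | _ k ih =>
      intro hk u hu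
      obtain ⟨h1, -, h3⟩ := links hT k hk
      by_cases hp : (T.par k).1 = 0
      · rw [hp] at h3
        exact link hT h3 ht hu hg
      · exact link hT h3 one_ne_zero hu (ih _ h1 hp 1 one_ne_zero)
  intro k u hu
  by_cases hk : k = 0
  · subst hk
    let one : Fin (n + 1) := ⟨1, by omega⟩
    have h10 : one ≠ 0 := fun e => one_ne_zero (congrArg Fin.val e)
    obtain ⟨h1, h2, -⟩ := links hT one h10
    have hp : (T.par one).1 = 0 := Fin.ext (Nat.lt_one_iff.1 h1)
    rw [hp] at h2
    exact link hT h2 one_ne_zero hu (main one h10 1 one_ne_zero)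
  · exact main k hk u hu

theorem to_top : ∀ (k : Fin (n + 1)) {m : ℕ} (c : Fin (n + 1) → F), Good (T.rad Y hT) σ m c → c k ≠ 0 →
    ∃ c', Good (T.rad Y hT) σ m c' ∧ c' 0 ≠ 0 := by
  intro k
  induction k using WellFoundedLT.induction with
  | _ k ih =>
    intro m c hc hk
    by_cases h0 : k = 0
    · exact ⟨c, hc, h0 ▸ hk⟩
    · obtain ⟨h1, h2, -⟩ := links hT k h0
      simp only [linkOK, Bool.and_eq_true] at h2
      obtain ⟨-, ⟨e, he, he0⟩, -⟩ := stepOK_iff (R := (T.rad Y hT)) h2.1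
      have hok := (stepOK_iff (R := (T.rad Y hT)) h2.1).1
      refine ih _ h1 (mv (T.rad Y hT) (T.par k).2.2 ((c (T.par k).1 - 1) / ((e : F) * c k)) c) (good_mv hok _ hc) ?_
      rw [mv_some he]
      field_simp
      simp

theorem dichotomy (hn : 1 ≤ n) {i : Fin (n + 1)} {a : F} {v : V} (hv : σ (Y.x (T.S i) a) v ≠ v) :
    finrank ℂ (Esp (T.rad Y hT) σ 0) + Fintype.card F ^ ((T.lead 0).length + T.far.length) ≤ finrank ℂ V ∨
      ∀ (k : Fin (n + 1)) (u : F), u ≠ 0 → Good (T.rad Y hT) σ 1 (Pi.single k u) := by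
  classical
  have hT' := hT
  simp only [Tab.ok, Bool.and_eq_true, List.all_eq_true, Bool.or_eq_true, decide_eq_true_eq,
    List.contains_iff_mem] at hT'
  obtain ⟨⟨⟨⟨⟨⟨⟨-, -⟩, -⟩, hlead⟩, hcov⟩, hcov'⟩, hfmv⟩, hfar⟩ := hT'
  obtain ⟨c, hc0, hc⟩ := exists_char (R := (T.rad Y hT)) hv
  obtain ⟨k, hk⟩ := Function.ne_iff.1 hc0
  obtain ⟨c1, hc1, h10⟩ := to_top hT k c hc hk
  have hl0 := hlead 0 (List.mem_finRange 0)
  have hb0 : below (0 : Fin (n + 1)) = [] := by simp [below]
  rw [hb0] at hl0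
  obtain ⟨c2, hc2, -, hN, h20, -⟩ := kill (R := (T.rad Y hT)) (T.lead 0) [] hl0 c1 hc1 h10 (by simp)
  set t := c2 0 with ht
  have ht0 : t ≠ 0 := h20 ▸ h10
  by_cases hF : ∀ k, k ≠ 0 → c2 k = 0
  · right
    refine root_up hT hn ht0 ?_
    convert hc2 using 1
    funext k
    by_cases hk0 : k = 0
    · subst hk0; simp [ht]
    · rw [Pi.single_eq_of_ne hk0, hF k hk0]
  · left
    push Not at hF
    obtain ⟨f, hf0, hf⟩ := hF
    have hNl : ∀ l ∈ (T.lead 0).map Prod.snd, c2 l = 0 := fun l hl => by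
      obtain ⟨p, hp, rfl⟩ := List.mem_map.1 hl
      exact hN p hp
    obtain ⟨c3, hc3, h3f, h30, h3N⟩ : ∃ c3, Good (T.rad Y hT) σ 1 c3 ∧ c3 T.f0 ≠ 0 ∧ c3 0 = t ∧
        ∀ l ∈ (T.lead 0).map Prod.snd, c3 l = 0 := by
      rcases hcov f (List.mem_finRange f) with ((h | h) | h) | h
      · exact absurd h hf0
      · exact absurd (hNl f h) hf
      · exact ⟨c2, hc2, h ▸ hf, rfl, hNl⟩
      · obtain ⟨p, hp, rfl⟩ := List.mem_map.1 h
        obtain ⟨c3, hc3, h3, hP⟩ := step_set (R := (T.rad Y hT)) (hfmv p hp) hc2 hf hNl 1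
        exact ⟨c3, hc3, by rw [h3]; exact one_ne_zero, hP 0 (by simp),
          fun l hl => (hP l (List.mem_cons_of_mem _ hl)).trans (hNl l hl)⟩
    obtain ⟨b, hb, hbN, hbfar, hbf, hbE⟩ := kill (R := (T.rad Y hT)) T.far _ hfar c3 hc3 h3f h3N
    obtain ⟨A, hA, hAcard⟩ := spread (R := (T.rad Y hT)) (σ := σ) (t := c3 T.f0) h3f (fun _ => t) T.far _ hfar {b}
      (fun c hc => by
        obtain rfl := Finset.mem_singleton.1 hc
        exact ⟨hb, hbN, hbfar, hbf, fun k hk => by
          rw [hbE k hk]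
          obtain rfl := List.mem_singleton.1 hk
          exact h30⟩)
    obtain ⟨B, hB, hBcard⟩ := spread (R := (T.rad Y hT)) (σ := σ) ht0 (fun _ => t) (T.lead 0) [] hl0 A (fun c hc => by
      obtain ⟨h1, h2, -, h4⟩ := hA c hc
      exact ⟨h1, by simp, fun p hp => h2 _ (List.mem_map.2 ⟨p, hp, rfl⟩), h4 0 (by simp), by simp⟩)
    have h0 : (0 : Fin (n + 1) → F) ∉ B := fun h => ht0 (hB 0 h).2.2.1.symm
    have := le_dim B (fun c hc => (hB c hc).1) h0
    rw [Finset.card_singleton, mul_one] at hAcard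
    rw [pow_add]
    refine le_trans (Nat.add_le_add_left ?_ _) (by simpa using this)
    exact le_trans (Nat.mul_le_mul_left _ hAcard) hBcard

theorem count {m : ℕ} (h : ∀ (k : Fin (n + 1)) (u : F), u ≠ 0 → Good (T.rad Y hT) σ m (Pi.single k u)) :
    finrank ℂ (Esp (T.rad Y hT) σ 0) + m * ((Fintype.card F - 1) *
      ∑ i : Fin (n + 1), Fintype.card F ^ (T.lead i).length) ≤ finrank ℂ V := by
  classical
  have hT' := hT
  simp only [Tab.ok, Bool.and_eq_true, List.all_eq_true, Bool.or_eq_true, decide_eq_true_eq,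
    List.contains_iff_mem] at hT'
  obtain ⟨⟨⟨⟨⟨⟨⟨-, -⟩, hpar⟩, hlead⟩, -⟩, -⟩, -⟩, -⟩ := hT'
  have hex : ∀ p : Fin (n + 1) × {t : F // t ≠ 0}, ∃ B : Finset (Fin (n + 1) → F),
      (∀ c ∈ B, Good (T.rad Y hT) σ m c ∧ (∀ l, l < p.1 → c l = 0) ∧ c p.1 = p.2) ∧
      Fintype.card F ^ (T.lead p.1).length ≤ B.card := by
    rintro ⟨i, t, ht⟩
    have hch := hlead i (List.mem_finRange i)
    obtain ⟨B, hB, hcard⟩ := spread (R := (T.rad Y hT)) (σ := σ) ht (fun _ => 0) (T.lead i) (below i) hch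
      {Pi.single i t} (fun c hc => by
        obtain rfl := Finset.mem_singleton.1 hc
        refine ⟨h i t ht, fun l hl => ?_, fun p hp => ?_, by simp, by simp⟩
        · simp only [below, List.mem_filter, decide_eq_true_eq] at hl
          exact Pi.single_eq_of_ne hl.2.ne _
        · refine Pi.single_eq_of_ne (fun e => ?_) _
          have key : ∀ (js : List (ℕ × Fin (n + 1))) Z, chainOK D Φ T.S i [] Z js = true →
              ∀ q ∈ js, q.2 ≠ i := by
            intro js
            induction js with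
            | nil => simp
            | cons q r ih =>
              intro Z hZ q' hq'
              simp only [chainOK, Bool.and_eq_true] at hZ
              rcases List.mem_cons.1 hq' with rfl | hq'
              · intro e
                obtain ⟨hok, ⟨c, hc, -⟩, -⟩ := stepOK_iff (R := (T.rad Y hT)) hZ.1
                rw [e] at hc
                rcases okMv_cases hok i with ⟨-, h2⟩ | ⟨l, e', h2, -, h4⟩
                · exact absurd (h2.symm.trans hc) (by simp)
                · obtain ⟨rfl, -⟩ := Prod.mk.inj (Option.some.inj (h2.symm.trans hc))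
                  exact absurd (h4.symm.trans hc) (by simp)
              · exact ih _ hZ.2 q' hq'
          exact key _ _ hch p hp e)
    refine ⟨B, fun c hc => ⟨(hB c hc).1, fun l hl => (hB c hc).2.1 l (by simp [below, hl]), (hB c hc).2.2.1⟩, ?_⟩
    simpa using hcard
  choose B hB hcard using hex
  have hdisj : (↑(Finset.univ : Finset (Fin (n + 1) × {t : F // t ≠ 0})) :
      Set _).PairwiseDisjoint B := by
    intro p _ p' _ hne
    refine Finset.disjoint_left.2 fun c hc hc' => hne ?_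
    obtain ⟨-, hz, hv⟩ := hB p c hc
    obtain ⟨-, hz', hv'⟩ := hB p' c hc'
    have hi : p.1 = p'.1 := by
      rcases lt_trichotomy p.1 p'.1 with hlt | he | hlt
      · exact absurd ((hv.symm.trans (hz' _ hlt))) p.2.2
      · exact he
      · exact absurd ((hv'.symm.trans (hz _ hlt))) p'.2.2
    exact Prod.ext hi (Subtype.ext (by rw [← hv, ← hv', hi]))
  have hle := le_dim (R := (T.rad Y hT)) (σ := σ) (Finset.univ.biUnion B) (m := m) (fun c hc => by
      obtain ⟨p, -, hp⟩ := Finset.mem_biUnion.1 hc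
      exact (hB p c hp).1) (fun hc => by
      obtain ⟨p, -, hp⟩ := Finset.mem_biUnion.1 hc
      exact p.2.2 ((hB p 0 hp).2.2.symm))
  refine le_trans (Nat.add_le_add_left (Nat.mul_le_mul_left _ ?_) _) hle
  rw [Finset.card_biUnion hdisj, Finset.mul_sum, Fintype.sum_prod_type]
  refine Finset.sum_le_sum fun i _ => ?_
  refine le_trans ?_ (Finset.sum_le_sum fun t _ => hcard (i, t))
  simp [Fintype.card_subtype_compl]

/-- either the root characters are simple, or the dimension is large -/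
theorem simple_or (hn : 1 ≤ n) (h : ∀ (k : Fin (n + 1)) (u : F), u ≠ 0 → Good (T.rad Y hT) σ 1 (Pi.single k u)) :
    finrank ℂ (Esp (T.rad Y hT) σ 0) + 2 * ((Fintype.card F - 1) *
        ∑ i : Fin (n + 1), Fintype.card F ^ (T.lead i).length) ≤ finrank ℂ V ∨
      ∀ (k : Fin (n + 1)) (u : F), u ≠ 0 → finrank ℂ (Esp (T.rad Y hT) σ (Pi.single k u)) = 1 := by
  by_cases h2 : ∀ (k : Fin (n + 1)) (u : F), u ≠ 0 → finrank ℂ (Esp (T.rad Y hT) σ (Pi.single k u)) = 1
  · exact Or.inr h2
  · push Not at h2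
    obtain ⟨k, u, hu, hne⟩ := h2
    have hg : Good (T.rad Y hT) σ 2 (Pi.single k u) := by
      have := h k u hu
      simp only [Good] at this ⊢
      omega
    obtain ⟨u0, hu0, hg0⟩ := root_down hT k u hu hg 0 rfl
    exact Or.inl (count hT (root_up hT hn hu0 hg0))

end TabLemmas

end Cfsg.Agent.RadicalChar68
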