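import Cfsg.Agent.Lib.Rank3CaseA34Struct
import Cfsg.Agent.Lib.Rank3PairNeg34

/-!
Case A of the rank three engine with `E₂` abelian of order `p ^ 3`: the subgroup `C` is invariant
in the whole system.
-/

set_option autoImplicit false
set_option linter.unusedSectionVars false

namespace Cfsg.Agent.Rank3

open scoped commutatorElement Pointwise
open Cfsg.FusionSystem Cfsg.Agent.FusionSysBasic Cfsg.Agent.FusionSysSaturated
  Cfsg.Agent.FusionSysNormal Cfsg.Agent.FusionSysAlperin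

universe u

variable {Ω : Type u} [Group Ω] {S : Subgroup Ω} {F : FusionSystem S} {p : ℕ}
  [Finite S] [Fact p.Prime]

/-- The automorphisms of `S` of `p`-power order fix the centre. -/
theorem autS_pow_fix (hS : IsPGroup p S) (hF : F.IsSaturated p) {g : MulAut S}
    (hg : g ∈ F.autGroup S) :
    ∃ m : ℕ, ¬ p ∣ m ∧ ∀ z ∈ S, (∀ s ∈ S, z * s = s * z) → afun (g ^ m) z = z := by
  haveI : Finite (F.autGroup S) := finite_autGroup S
  let γ : F.autGroup S := ⟨g, hg⟩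
  have hord : 0 < orderOf γ := orderOf_pos γ
  refine ⟨orderOf γ / p ^ (orderOf γ).factorization p,
    Nat.not_dvd_ordCompl (Fact.out : p.Prime) hord.ne', fun z hz hzc => ?_⟩
  set m := orderOf γ / p ^ (orderOf γ).factorization p with hm
  have hpm : (γ ^ m) ^ p ^ (orderOf γ).factorization p = 1 := by
    rw [← pow_mul, hm, Nat.div_mul_cancel (Nat.ordProj_dvd _ _), pow_orderOf_eq_one]
  have hgp : IsPGroup p (Subgroup.zpowers (g ^ m)) := by
    intro x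
    obtain ⟨n, hn⟩ := Subgroup.mem_zpowers_iff.mp x.2
    have h1 : (g ^ m) ^ p ^ (orderOf γ).factorization p = 1 := congrArg Subtype.val hpm
    refine ⟨(orderOf γ).factorization p, Subtype.ext ?_⟩
    rw [Subgroup.coe_pow, Subgroup.coe_one, ← hn, ← zpow_natCast, ← zpow_mul, mul_comm, zpow_mul,
      zpow_natCast, h1, one_zpow]
  obtain ⟨-, P₀, hP₀⟩ := fullyAutomized_of_fullyNormalized hS hF
    (fullyNormalized_self : F.IsFullyNormalized S)
  set X := Subgroup.zpowers (g ^ m) ⊔ Inn S with hXdef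
  have hnorm : Subgroup.zpowers (g ^ m) ≤ Subgroup.normalizer (Inn S : Set (MulAut S)) :=
    le_top.trans (Subgroup.normalizer_eq_top_iff.mpr inferInstance).ge
  have hX : IsPGroup p X := IsPGroup.to_sup_of_normal_right' hgp
    ((isPGroup_autInducedBy hS S).to_le (inn_le_autInducedBy le_rfl)) hnorm
  have hXA : X ≤ F.autGroup S :=
    sup_le (Subgroup.zpowers_le.mpr (pow_mem hg m)) (inn_le_autGroup le_rfl)
  have hmax := P₀.3 (hX.of_equiv (Subgroup.subgroupOfEquivOfLe hXA).symm)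
    (by rw [hP₀, autInducedBy_self]; exact Subgroup.comap_mono le_sup_right)
  have h1 : (⟨g ^ m, pow_mem hg m⟩ : F.autGroup S) ∈ X.subgroupOf (F.autGroup S) :=
    Subgroup.mem_sup_left (Subgroup.mem_zpowers _)
  rw [hmax, hP₀, Subgroup.mem_subgroupOf, mem_autInducedBy] at h1
  obtain ⟨s, hs, -, he⟩ := h1
  rw [he z hz, cj_apply, ← hzc s hs, mul_inv_cancel_right]

namespace CS

variable {E₁ E₂ : Subgroup Ω} {v : Ω} {α j : MulAut E₂} {y y' : Ω}

theorem card₂ (h : CS F p E₁ E₂ v α j y y') (hS4 : Nat.card S = p ^ 4) : Nat.card E₂ = p ^ 3 := by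
  refine Nat.eq_of_mul_eq_mul_left (Fact.out : p.Prime).pos ?_
  rw [← h.m₂.card_eq, hS4]; ring

theorem card₁ (h : CS F p E₁ E₂ v α j y y') (hS4 : Nat.card S = p ^ 4) : Nat.card E₁ = p ^ 3 := by
  refine Nat.eq_of_mul_eq_mul_left (Fact.out : p.Prime).pos ?_
  rw [← h.m₁.card_eq, hS4]; ring

theorem card_inf (h : CS F p E₁ E₂ v α j y y') (hS4 : Nat.card S = p ^ 4) :
    Nat.card ↥(E₁ ⊓ E₂) = p ^ 2 := by
  refine Nat.eq_of_mul_eq_mul_left (Fact.out : p.Prime).pos ?_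
  rw [h.ca.card_Q, h.card₂ hS4]; ring

theorem card_C (h : CS F p E₁ E₂ v α j y y') (hS4 : Nat.card S = p ^ 4) :
    Nat.card h.ca.C = p := by
  have hp := (Fact.out : p.Prime)
  have hle : Nat.card h.ca.C ≤ p := by
    have h1 : p ^ 3 * Nat.card h.ca.C ≤ p ^ 3 * p :=
      h.card_S.trans (le_of_eq (by rw [hS4]; ring))
    exact Nat.le_of_mul_le_mul_left h1 (pow_pos hp.pos 3)
  obtain ⟨k, hk⟩ := dvd_card_p h.ca.hS (h.ca.C_le.trans h.m₂.le)
  rw [hk] at hle ⊢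
  have hk1 : k ≤ 1 := (Nat.pow_le_pow_iff_right hp.one_lt).mp (by rwa [pow_one])
  interval_cases k
  · exfalso
    have hb : (E₁ ⊓ E₂) ⊓ img α (E₁ ⊓ E₂) = ⊥ := Subgroup.card_eq_one.mp (by simpa [CA.C] using hk)
    have h1 := card_mul_le_of_disjoint (inf_le_right.trans h.m₂.le)
      ((img_le α (E₁ ⊓ E₂)).trans h.m₂.le) hb
    have hsup : (E₁ ⊓ E₂) ⊔ img α (E₁ ⊓ E₂) ≤ E₂ := sup_le inf_le_right (img_le _ _)
    haveI := h.m₂.finite
    have h2 := h1.trans (Subgroup.card_le_of_le hsup)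
    rw [card_img α inf_le_right, h.card_inf hS4, h.card₂ hS4, ← pow_add] at h2
    exact absurd ((Nat.pow_le_pow_iff_right hp.one_lt).mp h2) (by norm_num)
  · exact pow_one p

theorem C_pow (h : CS F p E₁ E₂ v α j y y') (hS4 : Nat.card S = p ^ 4) {c : Ω}
    (hc : c ∈ h.ca.C) : c ^ p = 1 := by
  have h1 := pow_card_eq_one' (G := h.ca.C) (x := ⟨c, hc⟩)
  rw [h.card_C hS4] at h1
  exact congrArg Subtype.val h1

theorem gens_comm (h : CS F p E₁ E₂ v α j y y') (hc₀ : h.c₀ = 1) :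
    ∀ a ∈ (h.ca.C : Set Ω) ∪ {y, y'}, ∀ b ∈ (h.ca.C : Set Ω) ∪ {y, y'}, a * b = b * a := by
  have hyy : y * y' = y' * y := by
    have := hc₀
    rw [c₀, mul_inv_eq_one, mul_inv_eq_iff_eq_mul] at this
    exact this
  rintro a (ha | ha) b (hb | hb)
  · exact h.C_central ha (h.m₂.le (h.ca.C_le hb))
  · rcases hb with rfl | rfl
    exacts [h.cy a ha, h.cy' a ha]
  · rcases ha with rfl | rfl
    exacts [(h.cy b hb).symm, (h.cy' b hb).symm]
  · rcases ha with rfl | rfl <;> rcases hb with rfl | rfl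
    exacts [rfl, hyy, hyy.symm, rfl]

theorem le_closure₂ (h : CS F p E₁ E₂ v α j y y') :
    E₂ ≤ Subgroup.closure ((h.ca.C : Set Ω) ∪ {y, y'}) := by
  intro e he
  obtain ⟨c, hc, k, l, rfl⟩ := h.decomp.2 e he
  exact mul_mem (mul_mem (Subgroup.subset_closure (Or.inl hc))
    (zpow_mem (Subgroup.subset_closure
      (show y ∈ (h.ca.C : Set Ω) ∪ {y, y'} from Or.inr (Or.inl rfl))) k))
    (zpow_mem (Subgroup.subset_closure
      (show y' ∈ (h.ca.C : Set Ω) ∪ {y, y'} from Or.inr (Or.inr rfl))) l)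

theorem comm₂ (h : CS F p E₁ E₂ v α j y y') (hc₀ : h.c₀ = 1) {a b : Ω} (ha : a ∈ E₂)
    (hb : b ∈ E₂) : a * b = b * a :=
  commute_closure (h.gens_comm hc₀) a (h.le_closure₂ ha) b (h.le_closure₂ hb)

theorem elem₂ (h : CS F p E₁ E₂ v α j y y') (hS4 : Nat.card S = p ^ 4) (hc₀ : h.c₀ = 1) {a : Ω}
    (ha : a ∈ E₂) : a ^ p = 1 := by
  refine elem_closure (h.gens_comm hc₀) ?_ a (h.le_closure₂ ha)
  rintro b (hb | rfl | rfl)
  exacts [h.C_pow hS4 hb, h.yp, h.y'p]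

theorem Q_central (h : CS F p E₁ E₂ v α j y y') (hc₀ : h.c₀ = 1) {q s : Ω}
    (hq : q ∈ E₁ ⊓ E₂) (hs : s ∈ S) : q * s = s * q := by
  have hle : S ≤ Subgroup.centralizer ({q} : Set Ω) := by
    rw [← h.closure_eq, Subgroup.closure_le]
    rintro z (hz | rfl | rfl | rfl) <;>
      rw [SetLike.mem_coe, Subgroup.mem_centralizer_singleton_iff]
    exacts [h.comm₂ hc₀ (h.ca.C_le hz) hq.2, h.comm₂ hc₀ h.hy.2 hq.2, h.comm₂ hc₀ h.hy'E hq.2,
      h.v_comm hq]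
  exact (Subgroup.mem_centralizer_singleton_iff.mp (hle hs)).symm

theorem cj_v_y' (h : CS F p E₁ E₂ v α j y y') : cj v y' = y' * h.t := by
  rw [t, mul_inv_cancel_left]

theorem t_spec (h : CS F p E₁ E₂ v α j y y') (hS4 : Nat.card S = p ^ 4) (hc₀ : h.c₀ = 1) :
    ∃ i : ℤ, ¬ (p : ℤ) ∣ i ∧ h.t = y ^ i := by
  obtain ⟨c, hc, i, hip, hti, hcp, htp⟩ := h.t_eq
  suffices hc1 : c = 1 from ⟨i, hip, by rw [hti, hc1, one_mul]⟩
  haveI := h.m₂.finite
  have hjQ : ∀ q ∈ E₁ ⊓ E₂, afun j q ∈ E₁ ⊓ E₂ := by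
    intro q hq
    obtain ⟨d, hd, k, rfl⟩ := h.decomp.1 q hq
    rw [afun_map_mul j (h.ca.C_le hd) (E₂.zpow_mem h.hy.2 k), h.hjC d hd, afun_zpow j h.hy.2, h.jy]
    exact (E₁ ⊓ E₂).mul_mem hd.1 ((E₁ ⊓ E₂).zpow_mem ((E₁ ⊓ E₂).inv_mem h.hy) k)
  have hjj : ∀ x ∈ E₂, afun j (afun j x) = x := fun x hx => by
    rw [← afun_mul j j hx, h.hjj, afun_one hx]
  have hst : ∀ m ∈ ({j * h.ca.a * j, h.ca.a} : Set (MulAut E₂)),
      m ∈ FusionAbelianIndexP89.stab E₂ (E₁ ⊓ E₂) inf_le_right := by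
    rintro m (rfl | rfl)
    · refine ⟨fun x hx => ?_, fun e he => ?_⟩
      · rw [afun_mul _ _ hx.2, afun_mul _ _ (afun_mem j hx.2), h.ca.a_fix (hjQ x hx), hjj x hx.2]
      · have he' := afun_mem j he
        rw [afun_mul _ _ he, afun_mul _ _ he']
        have h1 := h.ca.a_step he'
        have h2 := hjQ _ h1
        rw [afun_map_mul j (E₂.inv_mem he') (afun_mem _ he'), afun_map_inv' j he', hjj e he] at h2
        exact h2
    · exact ⟨fun x hx => h.ca.a_fix hx, fun e he => h.ca.a_step he⟩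
  have hle : Subgroup.closure {j * h.ca.a * j, h.ca.a} ≤ F.autGroup E₂ :=
    (Subgroup.closure_le _).mpr (by
      rintro m (rfl | rfl)
      exacts [mul_mem (mul_mem h.hjF h.ca.a_mem) h.hjF, h.ca.a_mem])
  have hind := h.m₂.le_autInducedBy h.ca.hS h.ca.hF hle
    ((FusionAbelianIndexP89.isPGroup_stab (h.ca.hS.to_le h.m₂.le)
      (inf_le_right : E₁ ⊓ E₂ ≤ E₂)).to_le ((Subgroup.closure_le _).mpr hst))
    h.ca.hvS h.ca.hv₂ (Subgroup.subset_closure (Or.inr rfl))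
    (Subgroup.subset_closure (Or.inl rfl))
  obtain ⟨g, hg, -, he⟩ := mem_autInducedBy.mp hind
  obtain ⟨e, heE, n, rfl⟩ := h.m₂.exists_eq_mul h.ca.hvS h.ca.hv₂ hg
  have hvy : cj (v ^ n) y' = y' * h.t ^ n := by
    have hvt : Commute v h.t := h.v_comm h.t_mem
    have e1 : y'⁻¹ * v * y' = h.t * v := by
      rw [t, cj_apply]; group
    have e2 : y'⁻¹ * v ^ n * y' = h.t ^ n * v ^ n := by
      rw [← hvt.symm.mul_zpow, ← e1]
      have e3 := (conj_zpow (a := y'⁻¹) (b := v) (i := n)).symm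
      rwa [inv_inv] at e3
    calc cj (v ^ n) y' = y' * (y'⁻¹ * v ^ n * y') * (v ^ n)⁻¹ := by rw [cj_apply]; group
      _ = y' * h.t ^ n := by rw [e2, mul_assoc, mul_inv_cancel_right]
  have h3 := he y' h.hy'E
  have hy'' := E₂.inv_mem h.hy'E
  rw [afun_mul _ _ h.hy'E, afun_mul _ _ (afun_mem j h.hy'E), h.jy', CA.a,
    h.m₂.afun_conjAut h.ca.hvS hy'', ← cj_cj, hvy] at h3
  have e4 : cj v y'⁻¹ = h.t⁻¹ * y'⁻¹ := by
    rw [← mul_inv_rev, ← h.cj_v_y']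
    simp only [cj_apply]; group
  have htE : h.t ∈ E₂ := h.t_mem.2
  have hjt : afun j h.t = c * y ^ (-i) := by
    rw [hti, afun_map_mul j (h.ca.C_le hc) (E₂.zpow_mem h.hy.2 i), h.hjC c hc, afun_zpow j h.hy.2,
      h.jy, inv_zpow', zpow_neg]
  have e5 : cj e (y' * h.t ^ n) = y' * h.t ^ n := by
    have hmem : y' * h.t ^ n ∈ E₂ := E₂.mul_mem h.hy'E (E₂.zpow_mem htE n)
    rw [cj_apply, h.comm₂ hc₀ heE hmem, mul_inv_cancel_right]
  rw [e4, e5, afun_map_mul j (E₂.inv_mem htE) hy'', afun_map_inv' j htE, hjt,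
    afun_map_inv' j h.hy'E, h.jy', inv_inv, h.comm₂ hc₀
      (E₂.inv_mem (E₂.mul_mem (h.ca.C_le hc) (E₂.zpow_mem h.hy.2 _))) h.hy'E, mul_right_inj] at h3
  -- `h3 : (c * y ^ (-i))⁻¹ = t ^ n`
  have hcy : Commute c y := h.cy c hc
  rw [hti, (hcy.zpow_right i).mul_zpow, mul_inv_rev, ← zpow_neg, neg_neg, ← zpow_mul] at h3
  -- `y ^ (i * n - i) ∈ C`, hence `n ≡ 1`
  have hyC : y ^ (i * n - i) = (c ^ n)⁻¹ * c⁻¹ := by
    rw [sub_eq_add_neg, zpow_add, zpow_neg]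
    calc y ^ (i * n) * (y ^ i)⁻¹ = (c ^ n)⁻¹ * (c ^ n * y ^ (i * n)) * (y ^ i)⁻¹ := by group
      _ = (c ^ n)⁻¹ * (y ^ i * c⁻¹) * (y ^ i)⁻¹ := by rw [← h3]
      _ = (c ^ n)⁻¹ * c⁻¹ := by
        rw [((hcy.zpow_right i).inv_left).symm.eq, mul_assoc (c ^ n)⁻¹, mul_inv_cancel_right]
  have hdiv : (p : ℤ) ∣ i * n - i := by
    by_contra hnd
    refine h.hy2 ?_
    obtain ⟨r, s, hrs⟩ :=
      ((Nat.prime_iff_prime_int.mp (Fact.out : p.Prime)).coprime_iff_not_dvd.mpr hnd).symm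
    have e6 : y ^ (1 : ℤ) = ((c ^ n)⁻¹ * c⁻¹) ^ r := by
      rw [← hrs, zpow_add, mul_comm r, mul_comm s, zpow_mul, zpow_mul, hyC,
        zpow_natCast, h.yp, one_zpow, mul_one]
    have : y ^ (1 : ℤ) ∈ h.ca.C := e6 ▸ h.ca.C.zpow_mem
      (h.ca.C.mul_mem (h.ca.C.inv_mem (h.ca.C.zpow_mem hc n)) (h.ca.C.inv_mem hc)) r
    rw [zpow_one] at this
    exact this.2
  obtain ⟨r, hr⟩ := hdiv
  rw [hr, zpow_mul, zpow_natCast, h.yp, one_zpow] at hyC
  have hn1 : (p : ℤ) ∣ n - 1 :=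
    ((Nat.prime_iff_prime_int.mp (Fact.out : p.Prime)).dvd_or_dvd
      (show (p : ℤ) ∣ i * (n - 1) from ⟨r, by rw [← hr]; ring⟩)).resolve_left hip
  obtain ⟨r', hr'⟩ := hn1
  have hcn : c ^ n = c := by
    rw [show n = 1 + (p : ℤ) * r' by linarith, zpow_add, zpow_one, zpow_mul, zpow_natCast, hcp,
      one_zpow, mul_one]
  rw [hcn, ← mul_inv_rev, eq_comm, inv_eq_one, ← sq] at hyC
  exact eq_one_of_sq h.ca.hp hyC (k := 1) (by rw [pow_one]; exact hcp)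

theorem j_t (h : CS F p E₁ E₂ v α j y y') (hS4 : Nat.card S = p ^ 4) (hc₀ : h.c₀ = 1) :
    afun j h.t = h.t⁻¹ := by
  obtain ⟨i, -, hi⟩ := h.t_spec hS4 hc₀
  rw [hi, afun_zpow j h.hy.2, h.jy, inv_zpow]

theorem decompQ (h : CS F p E₁ E₂ v α j y y') (hS4 : Nat.card S = p ^ 4) (hc₀ : h.c₀ = 1) {q : Ω}
    (hq : q ∈ E₁ ⊓ E₂) : ∃ c ∈ h.ca.C, ∃ a : ℤ, q = c * h.t ^ a := by
  obtain ⟨i, hip, hi⟩ := h.t_spec hS4 hc₀
  obtain ⟨c, hc, k, rfl⟩ := h.decomp.1 q hq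
  obtain ⟨r, s, hrs⟩ :=
    ((Nat.prime_iff_prime_int.mp (Fact.out : p.Prime)).coprime_iff_not_dvd.mpr hip).symm
  refine ⟨c, hc, r * k, ?_⟩
  congr 1
  rw [hi, ← zpow_mul]
  calc y ^ k = y ^ ((r * i + s * p) * k) := by rw [hrs, one_mul]
    _ = y ^ (i * (r * k)) * (y ^ (p : ℤ)) ^ (s * k) := by
      rw [← zpow_mul, ← zpow_add]; congr 1; ring
    _ = y ^ (i * (r * k)) := by rw [zpow_natCast, h.yp, one_zpow, mul_one]

theorem t_ne (h : CS F p E₁ E₂ v α j y y') (hS4 : Nat.card S = p ^ 4) (hc₀ : h.c₀ = 1) :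
    h.t ≠ 1 := by
  intro ht
  obtain ⟨c, hc, a, hy⟩ := h.decompQ hS4 hc₀ h.hy
  rw [ht, one_zpow, mul_one] at hy
  exact h.hy2 (hy ▸ hc.2)

theorem t_pow (h : CS F p E₁ E₂ v α j y y') : h.t ^ p = 1 := by
  obtain ⟨_, -, _, -, -, -, h1⟩ := h.t_eq
  exact h1

theorem dvd_of_t_zpow (h : CS F p E₁ E₂ v α j y y') (hS4 : Nat.card S = p ^ 4) (hc₀ : h.c₀ = 1)
    {m : ℤ} (hm : h.t ^ m = 1) : (p : ℤ) ∣ m := by
  rw [← orderOf_eq_prime h.t_pow (h.t_ne hS4 hc₀)]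
  exact orderOf_dvd_iff_zpow_eq_one.mpr hm

theorem omZ_eq (h : CS F p E₁ E₂ v α j y y') (hS4 : Nat.card S = p ^ 4) (hc₀ : h.c₀ = 1) :
    OmZ p S = E₁ ⊓ E₂ := by
  refine le_antisymm (fun z hz => ?_) fun q hq =>
    ⟨h.m₂.le hq.2, h.elem₂ hS4 hc₀ hq.2, fun s hs => h.Q_central hc₀ hq hs⟩
  have hzE : z ∈ E₂ := by
    by_contra hzE
    refine h.ca.hv₂ ?_
    obtain ⟨e, he, n, hve⟩ := h.m₂.exists_eq_mul hz.1 hzE h.ca.hvS
    refine h.m₂.mem_of_centralizes h.ca.hvS fun x hx => ?_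
    have h1 : Commute (z ^ n) x := (show Commute z x from hz.2.2 x (h.m₂.le hx)).zpow_left n
    rw [hve]
    exact ((show Commute e x from h.comm₂ hc₀ he hx).mul_left h1).eq
  obtain ⟨c, hc, k, l, rfl⟩ := h.decomp.2 z hzE
  have hck : c * y ^ k ∈ E₁ ⊓ E₂ := (E₁ ⊓ E₂).mul_mem hc.1 ((E₁ ⊓ E₂).zpow_mem h.hy k)
  have hfix : cj v (c * y ^ k * y' ^ l) = c * y ^ k * y' ^ l := by
    rw [cj_apply, ← hz.2.2 v h.ca.hvS, mul_inv_cancel_right]
  have e1 : cj v (c * y ^ k * y' ^ l) = cj v (c * y ^ k) * cj v (y' ^ l) := by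
    simp only [cj_apply]; group
  have e2 : cj v (y' ^ l) = y' ^ l * h.t ^ l := by
    rw [cj_apply, ← conj_zpow, ← cj_apply, h.cj_v_y',
      (show Commute y' h.t from h.comm₂ hc₀ h.hy'E h.t_mem.2).mul_zpow]
  rw [e1, h.cj_v hck, e2, ← mul_assoc, mul_eq_left] at hfix
  obtain ⟨r, rfl⟩ := h.dvd_of_t_zpow hS4 hc₀ hfix
  rw [zpow_mul, zpow_natCast, h.y'p, one_zpow, mul_one]
  exact hck

theorem exists_delta (h : CS F p E₁ E₂ v α j y y') (hS4 : Nat.card S = p ^ 4) (hc₀ : h.c₀ = 1) :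
    ∃ δ ∈ F.autGroup S, (∀ c ∈ h.ca.C, afun δ c = c) ∧ afun δ h.t = h.t⁻¹ := by
  obtain ⟨i, -, hi⟩ := h.t_spec hS4 hc₀
  have hcjv : ∀ x ∈ E₂, afun j (cj v x) = cj v (afun j x) := by
    intro x hx
    obtain ⟨c, hc, k, l, rfl⟩ := h.decomp.2 x hx
    have hck : c * y ^ k ∈ E₁ ⊓ E₂ := (E₁ ⊓ E₂).mul_mem hc.1 ((E₁ ⊓ E₂).zpow_mem h.hy k)
    have hjck : afun j (c * y ^ k) ∈ E₁ ⊓ E₂ := by
      rw [afun_map_mul j (h.ca.C_le hc) (E₂.zpow_mem h.hy.2 k), h.hjC c hc, afun_zpow j h.hy.2, h.jy]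
      exact (E₁ ⊓ E₂).mul_mem hc.1 ((E₁ ⊓ E₂).zpow_mem ((E₁ ⊓ E₂).inv_mem h.hy) k)
    have hm : ∀ a b : Ω, cj v (a * b) = cj v a * cj v b := fun a b => by
      simp only [cj_apply]; group
    have hyl : cj v (y' ^ l) ∈ E₂ := h.m₂.normal v h.ca.hvS _ (E₂.zpow_mem h.hy'E l)
    rw [hm, h.cj_v hck, afun_map_mul j hck.2 hyl, afun_map_mul j hck.2 (E₂.zpow_mem h.hy'E l), hm,
      h.cj_v hjck]
    congr 1
    have e1 : cj v (y' ^ l) = (y' * h.t) ^ l := by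
      rw [cj_apply, ← conj_zpow, ← cj_apply, h.cj_v_y']
    rw [e1, afun_zpow j (E₂.mul_mem h.hy'E h.t_mem.2), afun_zpow j h.hy'E, h.jy',
      afun_map_mul j h.hy'E h.t_mem.2, h.jy', h.j_t hS4 hc₀]
    conv_rhs => rw [inv_zpow, cj_apply, ← inv_zpow, ← conj_zpow, ← cj_apply]
    congr 1
    rw [show cj v y'⁻¹ = (cj v y')⁻¹ by simp only [cj_apply]; group, h.cj_v_y', mul_inv_rev,
      h.comm₂ hc₀ (E₂.inv_mem h.hy'E) (E₂.inv_mem h.t_mem.2)]
  have key : ∀ g ∈ S, ∀ x ∈ E₂, afun j (cj g x) = cj g (afun j x) := by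
    intro g hg
    obtain ⟨e, he, n, rfl⟩ := h.m₂.exists_eq_mul h.ca.hvS h.ca.hv₂ hg
    have hn : ∀ n : ℤ, ∀ x ∈ E₂, afun j (cj (v ^ n) x) = cj (v ^ n) (afun j x) := by
      intro n
      induction n using Int.induction_on with
      | zero => intro x hx; simp only [zpow_zero, cj_one]
      | succ n ih =>
        intro x hx
        rw [zpow_add_one, ← cj_cj, ← cj_cj, ih _ (h.m₂.normal v h.ca.hvS x hx), hcjv x hx]
      | pred n ih =>
        intro x hx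
        have hx' : cj v⁻¹ x ∈ E₂ := h.m₂.normal _ (S.inv_mem h.ca.hvS) x hx
        have e1 := hcjv _ hx'
        rw [cj_cj_inv] at e1
        rw [zpow_sub_one, ← cj_cj, ← cj_cj, ih _ hx', e1, cj_inv_cj]
    intro x hx
    have hx' : cj (v ^ n) x ∈ E₂ := h.m₂.normal _ (S.zpow_mem h.ca.hvS n) x hx
    have hfix : ∀ z ∈ E₂, cj e z = z := fun z hz => by
      rw [cj_apply, h.comm₂ hc₀ he hz, mul_inv_cancel_right]
    rw [← cj_cj, ← cj_cj, hfix _ hx', hn n x hx,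
      hfix _ (h.m₂.normal _ (S.zpow_mem h.ca.hvS n) _ (afun_mem j hx))]
  obtain ⟨δ, hδ, hδj, -⟩ := h.m₂.exists_ext h.ca.hS h.ca.hF h.hjF fun g hg => by
    have e : j * h.m₂.conjAut hg = h.m₂.conjAut hg * j := afun_ext fun x hx => by
      rw [afun_mul _ _ hx, afun_mul _ _ hx, h.m₂.afun_conjAut hg hx,
        h.m₂.afun_conjAut hg (afun_mem j hx), key g hg x hx]
    rw [e, mul_inv_cancel_right, mul_inv_cancel]
    exact one_mem _
  exact ⟨δ, hδ, fun c hc => by rw [hδj c (h.ca.C_le hc), h.hjC c hc],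
    by rw [hδj _ h.t_mem.2, h.j_t hS4 hc₀]⟩

/-- The derived subgroup is `⟨t⟩`. -/
theorem comm_mem_t (h : CS F p E₁ E₂ v α j y y') (hc₀ : h.c₀ = 1) {a b : Ω} (ha : a ∈ S)
    (hb : b ∈ S) : a * b * a⁻¹ * b⁻¹ ∈ Subgroup.zpowers h.t := by
  have hgen : ∀ a ∈ (h.ca.C : Set Ω) ∪ {y, y', v}, ∀ b ∈ (h.ca.C : Set Ω) ∪ {y, y', v},
      a * b * a⁻¹ * b⁻¹ ∈ Subgroup.zpowers h.t := by
    have one : ∀ a b : Ω, a * b = b * a → a * b * a⁻¹ * b⁻¹ ∈ Subgroup.zpowers h.t := fun a b e => by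
      rw [e, mul_inv_cancel_right, mul_inv_cancel]; exact one_mem _
    have inv1 : ∀ a b : Ω, a * b * a⁻¹ * b⁻¹ ∈ Subgroup.zpowers h.t →
        b * a * b⁻¹ * a⁻¹ ∈ Subgroup.zpowers h.t := fun a b hab => by
      have := inv_mem hab
      rwa [show (a * b * a⁻¹ * b⁻¹)⁻¹ = b * a * b⁻¹ * a⁻¹ by group] at this
    have hvy' : v * y' * v⁻¹ * y'⁻¹ ∈ Subgroup.zpowers h.t := by
      rw [← cj_apply, h.cj_v_y', h.comm₂ hc₀ h.hy'E h.t_mem.2, mul_inv_cancel_right]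
      exact Subgroup.mem_zpowers _
    have hCS : ∀ c ∈ h.ca.C, ∀ b ∈ (h.ca.C : Set Ω) ∪ {y, y', v}, c * b = b * c := by
      intro c hc b hb
      refine h.C_central hc ?_
      rw [← h.closure_eq]; exact Subgroup.subset_closure hb
    have hbS : ∀ b ∈ ({y, y', v} : Set Ω), b ∈ S := by
      rintro b (rfl | rfl | rfl)
      exacts [h.m₂.le h.hy.2, h.m₂.le h.hy'E, h.ca.hvS]
    rintro a (ha | ha) b hb
    · exact one _ _ (hCS a ha b hb)
    rcases hb with hb | hb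
    · exact one _ _ (hCS b hb a (Or.inr ha)).symm
    rcases ha with rfl | rfl | rfl
    · exact one _ _ (h.Q_central hc₀ h.hy (hbS b hb))
    · rcases hb with rfl | rfl | rfl
      exacts [one _ _ (h.comm₂ hc₀ h.hy'E h.hy.2), one _ _ rfl, inv1 _ _ hvy']
    · rcases hb with rfl | rfl | rfl
      exacts [one _ _ (h.v_comm h.hy), hvy', one _ _ rfl]
  have hn : ∀ k ∈ Subgroup.closure ((h.ca.C : Set Ω) ∪ {y, y', v}),
      ∀ z ∈ Subgroup.zpowers h.t, cj k z ∈ Subgroup.zpowers h.t := by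
    intro k hk z hz
    rw [h.closure_eq] at hk
    have hzQ : z ∈ E₁ ⊓ E₂ := Subgroup.zpowers_le.mpr h.t_mem hz
    rwa [cj_apply, ← h.Q_central hc₀ hzQ hk, mul_inv_cancel_right]
  rw [← h.closure_eq] at ha hb
  exact gen_comm hn hgen a ha b hb

theorem afun_t_mem (h : CS F p E₁ E₂ v α j y y') (hc₀ : h.c₀ = 1) {γ : MulAut S}
    (hγ : γ ∈ F.autGroup S) : afun γ h.t ∈ Subgroup.zpowers h.t := by
  have hm : Mor F S (afun γ) := (mem_autGroup le_rfl).mp hγ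
  have ha : y'⁻¹ ∈ S := S.inv_mem (h.m₂.le h.hy'E)
  have hb := h.ca.hvS
  have e : h.t = y'⁻¹ * v * y'⁻¹⁻¹ * v⁻¹ := by rw [t, cj_apply]; group
  rw [e, hm.map_mul (S.mul_mem (S.mul_mem ha hb) (S.inv_mem ha)) (S.inv_mem hb),
    hm.map_mul (S.mul_mem ha hb) (S.inv_mem ha), hm.map_mul ha hb, hm.map_inv ha, hm.map_inv hb,
    ← e]
  exact h.comm_mem_t hc₀ (hm.apply_mem ha) (hm.apply_mem hb)

/-- A central element fixed by an automorphism of `S` inverting `t` lies in `C`. -/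
theorem mem_C_of_fix (h : CS F p E₁ E₂ v α j y y') (hS4 : Nat.card S = p ^ 4) (hc₀ : h.c₀ = 1)
    {x : Ω} (hx : x ∈ E₁ ⊓ E₂) {δ' : MulAut S} (hδ' : δ' ∈ F.autGroup S)
    (hfix : afun δ' x = x) (hinv : afun δ' h.t = h.t⁻¹) : x ∈ h.ca.C := by
  obtain ⟨δ, hδ, hδC, hδt⟩ := h.exists_delta hS4 hc₀
  obtain ⟨c, hc, a, rfl⟩ := h.decompQ hS4 hc₀ hx
  have htS : h.t ∈ S := h.m₂.le h.t_mem.2
  have hxS : c * h.t ^ a ∈ S := h.m₂.le hx.2
  have hcS : c ∈ S := h.m₂.le (h.ca.C_le hc)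
  have hgt : afun (δ * δ') h.t = h.t := by
    rw [afun_mul _ _ htS, hinv, afun_map_inv' δ htS, hδt, inv_inv]
  have hgx : afun (δ * δ') (c * h.t ^ a) = c * h.t ^ a * h.t ^ (-2 * a) := by
    rw [afun_mul _ _ hxS, hfix, afun_map_mul δ hcS (S.zpow_mem htS a), hδC c hc, afun_zpow δ htS,
      hδt, mul_assoc, ← zpow_add, inv_zpow']
    congr 2; ring
  have hpow : ∀ n : ℕ, afun ((δ * δ') ^ n) h.t = h.t ∧
      afun ((δ * δ') ^ n) (c * h.t ^ a) = c * h.t ^ a * h.t ^ ((n : ℤ) * (-2 * a)) := by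
    intro n
    induction n with
    | zero => exact ⟨by rw [pow_zero, afun_one htS], by simp [afun_one hxS]⟩
    | succ n ih =>
      refine ⟨by rw [pow_succ, afun_mul _ _ htS, hgt, ih.1], ?_⟩
      rw [pow_succ, afun_mul _ _ hxS, hgx, afun_map_mul _ hxS (S.zpow_mem htS _), afun_zpow _ htS,
        ih.2, ih.1, mul_assoc (c * h.t ^ a), ← zpow_add]
      congr 2; push_cast; ring
  obtain ⟨m, hm, hfx⟩ := autS_pow_fix h.ca.hS h.ca.hF (mul_mem hδ hδ')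
  have h1 := hfx _ hxS fun s hs => h.Q_central hc₀ hx hs
  rw [(hpow m).2, mul_eq_left] at h1
  have hd := h.dvd_of_t_zpow hS4 hc₀ h1
  have hp : Prime (p : ℤ) := Nat.prime_iff_prime_int.mp (Fact.out : p.Prime)
  have ha : (p : ℤ) ∣ a := by
    rcases hp.dvd_or_dvd hd with hd1 | hd1
    · exact absurd (Int.natCast_dvd_natCast.mp hd1) hm
    rcases hp.dvd_or_dvd hd1 with hd2 | hd2
    · exfalso
      rw [dvd_neg] at hd2
      obtain ⟨r, hr⟩ := h.ca.hp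
      have h2 : p ∣ 2 := Int.natCast_dvd_natCast.mp (by simpa using hd2)
      have := Nat.le_of_dvd (by norm_num) h2
      have := (Fact.out : p.Prime).two_le
      omega
    · exact hd2
  obtain ⟨r, rfl⟩ := ha
  rw [zpow_mul, zpow_natCast, h.t_pow, one_zpow, mul_one]
  exact hc

theorem inv_C (h : CS F p E₁ E₂ v α j y y') (hS4 : Nat.card S = p ^ 4) (hc₀ : h.c₀ = 1) :
    Inv F S h.ca.C := by
  intro γ hγ c hc
  obtain ⟨δ, hδ, hδC, hδt⟩ := h.exists_delta hS4 hc₀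
  have htS : h.t ∈ S := h.m₂.le h.t_mem.2
  have hcS : c ∈ S := h.m₂.le (h.ca.C_le hc)
  have hcZ : c ∈ OmZ p S := by rw [h.omZ_eq hS4 hc₀]; exact hc.1
  have hxQ : afun γ c ∈ E₁ ⊓ E₂ := by
    rw [← h.omZ_eq hS4 hc₀]; exact invBy_omZ (F.autGroup S) γ hγ c hcZ
  refine h.mem_C_of_fix hS4 hc₀ hxQ (mul_mem (mul_mem hγ hδ) (inv_mem hγ)) ?_ ?_
  · rw [afun_mul _ _ (afun_mem γ hcS), afun_inv_apply γ hcS, afun_mul _ _ hcS, hδC c hc]
  · obtain ⟨k, hk⟩ := Subgroup.mem_zpowers_iff.mp (h.afun_t_mem hc₀ (inv_mem hγ))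
    rw [afun_mul _ _ htS, afun_mul _ _ (afun_mem _ htS), ← hk, afun_zpow δ htS, hδt, inv_zpow,
      afun_map_inv' γ (S.zpow_mem htS k), hk, afun_apply_inv γ htS]

/-- A second configuration has the same subgroup `C`. -/
theorem C_eq (h : CS F p E₁ E₂ v α j y y') (hS4 : Nat.card S = p ^ 4) (hc₀ : h.c₀ = 1)
    {E₁' E₂' : Subgroup Ω} {v' : Ω} {α' j' : MulAut E₂'} {z z' : Ω}
    (h' : CS F p E₁' E₂' v' α' j' z z') (hc₀' : h'.c₀ = 1) : h'.ca.C = h.ca.C := by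
  obtain ⟨δ', hδ', hfix, hinv⟩ := h'.exists_delta hS4 hc₀'
  have hQ : E₁' ⊓ E₂' = E₁ ⊓ E₂ := (h'.omZ_eq hS4 hc₀').symm.trans (h.omZ_eq hS4 hc₀)
  obtain ⟨k, hk⟩ : h.t ∈ Subgroup.zpowers h'.t := by
    have := h'.comm_mem_t hc₀' (S.inv_mem (h.m₂.le h.hy'E)) h.ca.hvS
    rwa [show y'⁻¹ * v * y'⁻¹⁻¹ * v⁻¹ = h.t by rw [t, cj_apply]; group] at this
  have hinv' : afun δ' h.t = h.t⁻¹ := by
    rw [← hk]
    show afun δ' (h'.t ^ k) = (h'.t ^ k)⁻¹
    rw [afun_zpow δ' (h'.m₂.le h'.t_mem.2), hinv, inv_zpow]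
  refine eq_of_le_of_card_ge (h.ca.C_le.trans h.m₂.le) (fun x hx => ?_)
    (le_of_eq ((h.card_C hS4).trans (h'.card_C hS4).symm))
  exact h.mem_C_of_fix hS4 hc₀ (hQ ▸ hx.1) hδ' (hfix x hx) hinv'

end CS

variable {𝔈 : Set (Subgroup Ω)}

/-- Case A with `E₂` abelian is impossible. -/
theorem false_of_abelian (hc : Ctx F p 𝔈) {E₁ E₂ : Subgroup Ω} (h₁ : E₁ ∈ 𝔈) (h₂ : E₂ ∈ 𝔈)
    {v : Ω} {α j : MulAut E₂} {y y' : Ω} (h : CS F p E₁ E₂ v α j y y')
    (hS4 : Nat.card S = p ^ 4) (hC : Nat.card h.ca.C = p) (hc₀ : h.c₀ = 1) : False := by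
  have hp := (Fact.out : p.Prime)
  set Q := E₁ ⊓ E₂ with hQdef
  have hQS : Q ≤ S := inf_le_right.trans h.m₂.le
  -- every member of the family is abelian and contains `Q`
  have habE : ∀ E ∈ 𝔈, Q ≤ E ∧ ∀ a ∈ E, ∀ b ∈ E, a * b = b * a := by
    intro E hE
    have hM := hc.max E hE
    have hQE : Q ≤ E := by
      rw [hQdef, ← h.omZ_eq hS4 hc₀]; exact hM.omZ_le_omZ.trans omZ_le
    have hcardE : Nat.card E = p ^ 3 := by
      refine Nat.eq_of_mul_eq_mul_left hp.pos ?_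
      rw [← hM.card_eq, hS4]; ring
    have hcQ : Nat.card Q = p ^ 2 := h.card_inf hS4
    obtain ⟨e, he, heQ⟩ : ∃ e ∈ E, e ∉ Q := by
      refine SetLike.not_le_iff_exists.mp fun hle => ?_
      haveI := finite_of_le hQS
      have h1 := Subgroup.card_le_of_le hle
      rw [hcardE, hcQ] at h1
      exact absurd ((Nat.pow_le_pow_iff_right hp.one_lt).mp h1) (by norm_num)
    have hEeq : Q ⊔ Subgroup.zpowers e = E := by
      have hle : Q ⊔ Subgroup.zpowers e ≤ E := sup_le hQE (Subgroup.zpowers_le.mpr he)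
      refine eq_of_le_of_card_ge hM.le hle ?_
      have h1 := mul_card_le_of_lt hc.hS (hle.trans hM.le) (lt_of_le_not_ge le_sup_left fun e' =>
        heQ (e' (Subgroup.mem_sup_right (Subgroup.mem_zpowers e))))
      rw [hcQ] at h1
      rw [hcardE, pow_succ']
      exact h1
    refine ⟨hQE, ?_⟩
    rw [← hEeq, Subgroup.sup_eq_closure]
    refine commute_closure ?_
    have hcent : ∀ q ∈ Q, ∀ s ∈ S, q * s = s * q := fun q hq s hs => h.Q_central hc₀ hq hs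
    rintro a (ha | ⟨m, rfl⟩) b (hb | ⟨m', rfl⟩)
    · exact hcent a ha b (hQS hb)
    · exact hcent a ha _ (S.zpow_mem (hM.le he) m')
    · exact (hcent b hb _ (S.zpow_mem (hM.le he) m)).symm
    · exact (Commute.refl e).zpow_zpow m m'
  -- `E₁` and `E₂` are elementary abelian
  have hE₁ : ∀ x ∈ E₁, x ∈ OmZ p E₁ := by
    have hle : Q ⊔ Subgroup.zpowers v ≤ E₁ :=
      sup_le inf_le_left (Subgroup.zpowers_le.mpr h.ca.hv.1)
    have heq : Q ⊔ Subgroup.zpowers v = E₁ := by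
      refine eq_of_le_of_card_ge h.m₁.le hle ?_
      have h1 := mul_card_le_of_lt hc.hS (hle.trans h.m₁.le) (lt_of_le_not_ge le_sup_left fun e' =>
        h.ca.hv₂ (e' (Subgroup.mem_sup_right (Subgroup.mem_zpowers v))).2)
      rw [hQdef, h.card_inf hS4] at h1
      rw [h.card₁ hS4, pow_succ']
      exact h1
    intro x hx
    refine ⟨hx, ?_, fun z hz => (habE E₁ h₁).2 x hx z hz⟩
    rw [← heq, Subgroup.sup_eq_closure] at hx
    refine elem_closure ?_ ?_ x hx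
    · exact fun a ha b hb => (habE E₁ h₁).2 a (ha.elim (fun h => h.1) (Subgroup.zpowers_le.mpr
        h.ca.hv.1 ·)) b (hb.elim (fun h => h.1) (Subgroup.zpowers_le.mpr h.ca.hv.1 ·))
    · rintro a (ha | ⟨m, rfl⟩)
      · exact h.elem₂ hS4 hc₀ ha.2
      · show (v ^ m) ^ p = 1
        rw [← zpow_natCast, ← zpow_mul, mul_comm, zpow_mul, zpow_natCast, h.ca.hv.2.1, one_zpow]
  have hE₂ : ∀ x ∈ E₂, x ∈ OmZ p E₂ := fun x hx =>
    ⟨hx, h.elem₂ hS4 hc₀ hx, fun z hz => h.comm₂ hc₀ hx hz⟩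
  have hinv : ∀ E ∈ 𝔈, Inv F E h.ca.C := by
    intro E hE
    have hM := hc.max E hE
    have hCE : h.ca.C ≤ E := inf_le_left.trans (habE E hE).1
    obtain ⟨E', hE', v', hv', hv'E⟩ : ∃ E' ∈ 𝔈, ∃ v' ∈ OmZ p E', v' ∉ E := by
      by_cases h1 : E₁ ≤ E
      · obtain ⟨w, hw, hwE⟩ : ∃ w ∈ E₂, w ∉ E := by
          refine SetLike.not_le_iff_exists.mp fun h2 => ?_
          have e1 : E₁ = E := eq_of_le_of_card_ge hM.le h1 (Nat.eq_of_mul_eq_mul_left hp.pos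
            (hM.card_eq.symm.trans h.m₁.card_eq)).le
          have e2 : E₂ = E := eq_of_le_of_card_ge hM.le h2 (Nat.eq_of_mul_eq_mul_left hp.pos
            (hM.card_eq.symm.trans h.m₂.card_eq)).le
          exact h.ca.hv₂ (e2.symm ▸ e1 ▸ h.ca.hv.1)
        exact ⟨E₂, h₂, w, hE₂ w hw, hwE⟩
      · obtain ⟨w, hw, hwE⟩ := SetLike.not_le_iff_exists.mp h1
        exact ⟨E₁, h₁, w, hE₁ w hw, hwE⟩
    have hM' := hc.max E' hE'
    have hv'S : v' ∈ S := hM'.le hv'.1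
    let T : Subgroup (MulAut E) := Subgroup.closure
      {m | ∃ β ∈ F.autGroup E, ∃ g, ∃ hg : g ∈ S, β * hM.conjAut hg * β⁻¹ = m}
    have hTn : ∀ a ∈ F.autGroup E, ∀ m ∈ T, a * m * a⁻¹ ∈ T := by
      intro a ha m hm
      have hle : T.map (MulAut.conj a).toMonoidHom ≤ T := by
        rw [MonoidHom.map_closure]
        refine Subgroup.closure_mono ?_
        rintro _ ⟨_, ⟨β, hβ, g, hg, rfl⟩, rfl⟩
        exact ⟨a * β, mul_mem ha hβ, g, hg, by simp [mul_assoc]⟩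
      exact hle ⟨m, hm, rfl⟩
    have hTS : ∀ g (hg : g ∈ S), hM.conjAut hg ∈ T := fun g hg =>
      Subgroup.subset_closure ⟨1, one_mem _, g, hg, by simp⟩
    -- a conjugate of the conjugation by `v'` fixes `C`
    have hb : ∀ β ∈ F.autGroup E, ∀ c ∈ h.ca.C,
        afun (β * hM.conjAut hv'S * β⁻¹) c = c := by
      intro β hβ c hcC
      by_cases hin : β * hM.conjAut hv'S * β⁻¹ ∈ autInducedBy S E
      · obtain ⟨g, hg, -, he⟩ := mem_autInducedBy.mp hin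
        rw [he c (hCE hcC), cj_apply, ← h.C_central hcC hg, mul_inv_cancel_right]
      · have hca : CA F p E' E v' β := ⟨hc.hp, hc.hS, hc.hF, hM', hM, hv', hv'E, hβ, fun a ha => by
          rwa [show a = hM.conjAut hv'S from
            afun_ext fun x hx => (ha x hx).trans (hM.afun_conjAut hv'S hx).symm]⟩
        obtain ⟨j', z, z', h'⟩ := exists_cs hca hc.rk
        have hc₀' : h'.c₀ = 1 := by
          rw [CS.c₀, (habE E hE).2 z h'.hy.2 z' h'.hy'E, mul_inv_cancel_right, mul_inv_cancel]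
        have hC' : c ∈ h'.ca.C := by rw [h.C_eq hS4 hc₀ h' hc₀']; exact hcC
        exact h'.ca.b_fix hC'.2
    have hTfix : ∀ m ∈ T, ∀ c ∈ h.ca.C, afun m c = c := by
      intro m hm
      induction hm using Subgroup.closure_induction with
      | mem m hm =>
        obtain ⟨β, hβ, g, hg, rfl⟩ := hm
        obtain ⟨e, he, n, rfl⟩ := hM.exists_eq_mul hv'S hv'E hg
        let φ : S →* MulAut E := MonoidHom.mk' (fun g => hM.conjAut g.2) fun a b =>
          afun_ext fun x hx => by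
            rw [afun_mul _ _ hx, hM.afun_conjAut _ hx, hM.afun_conjAut _ hx,
              hM.afun_conjAut _ (hM.normal b b.2 x hx), cj_cj]
            rfl
        have hgn : hM.conjAut hg = hM.conjAut hv'S ^ n := by
          have h1 : hM.conjAut (S.zpow_mem hv'S n) = hM.conjAut hv'S ^ n := by
            have h2 : φ ((⟨v', hv'S⟩ : S) ^ n) = φ ⟨v', hv'S⟩ ^ n := map_zpow φ _ n
            exact (afun_ext fun x hx => by
              show afun (hM.conjAut (S.zpow_mem hv'S n)) x =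
                afun (hM.conjAut ((⟨v', hv'S⟩ : S) ^ n).2) x
              rfl :
                hM.conjAut (S.zpow_mem hv'S n) = φ ((⟨v', hv'S⟩ : S) ^ n)).trans h2
          rw [← h1]
          refine afun_ext fun x hx => ?_
          rw [hM.afun_conjAut _ hx, hM.afun_conjAut _ hx, ← cj_cj, cj_apply e,
            (habE E hE).2 e he _ (hM.normal _ (S.zpow_mem hv'S n) x hx), mul_inv_cancel_right]
        intro c hcC
        have e2 : β * hM.conjAut hg * β⁻¹ = (β * hM.conjAut hv'S * β⁻¹) ^ n := by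
          rw [hgn, conj_zpow]
        rw [e2]
        set m := β * hM.conjAut hv'S * β⁻¹ with hmdef
        have hm1 := hb β hβ c hcC
        rw [← hmdef] at hm1
        let Fc : Subgroup (MulAut E) :=
          { carrier := {m | afun m c = c}
            one_mem' := afun_one (hCE hcC)
            mul_mem' := fun {a b} ha hb => by
              show afun (a * b) c = c
              rw [afun_mul _ _ (hCE hcC), show afun b c = c from hb, show afun a c = c from ha]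
            inv_mem' := fun {a} ha => by
              show afun a⁻¹ c = c
              nth_rewrite 1 [← (show afun a c = c from ha)]
              exact afun_inv_apply a (hCE hcC) }
        exact Fc.zpow_mem hm1 n
      | one => exact fun c hcC => afun_one (hCE hcC)
      | mul m m' _ _ ih ih' =>
        exact fun c hcC => by rw [afun_mul _ _ (hCE hcC), ih' c hcC, ih c hcC]
      | inv m _ ih =>
        intro c hcC
        nth_rewrite 1 [← ih c hcC]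
        exact afun_inv_apply m (hCE hcC)
    refine hM.inv_of_opp hc.hS hc.hF hCE (h.inv_C hS4 hc₀) fun m hm c hcC => ?_
    rw [hTfix m (hM.opp_le hc.hS hc.hF T hTn hTS hm) c hcC]
    exact hcC
  have hbot := hc.free h.ca.C (h.ca.C_le.trans h.m₂.le) (h.inv_C hS4 hc₀) fun E hE =>
    ⟨inf_le_left.trans (habE E hE).1, hinv E hE⟩
  rw [hbot, Subgroup.card_bot] at hC
  exact hp.one_lt.ne hC

end Cfsg.Agent.Rank3
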