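import Cfsg.Agent.Lib.Rank3CaseA34Core
import Cfsg.Agent.Lib.Rank3CaseA34Abel

/-!
Case A of the rank three engine: some `Ω₁(Z(E₁))` is not contained in another member `E₂`.
-/

set_option autoImplicit false

namespace Cfsg.Agent.Rank3

open Cfsg.FusionSystem Cfsg.Agent.FusionSysBasic Cfsg.Agent.FusionSysSaturated

universe u

variable {Ω : Type u} [Group Ω] {S : Subgroup Ω} {F : FusionSystem S} {p : ℕ}
  [Finite S] [Fact p.Prime] {𝔈 : Set (Subgroup Ω)}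

theorem caseA (hc : Ctx F p 𝔈) {E₁ E₂ : Subgroup Ω} (h₁ : E₁ ∈ 𝔈) (h₂ : E₂ ∈ 𝔈) {v : Ω}
    (hv : v ∈ OmZ p E₁) (hv₂ : v ∉ E₂) : Concl S p 𝔈 ∨ Nat.card S = p ^ 3 := by
  obtain ⟨α, hca⟩ := exists_ca hc.hp hc.hS hc.hF (hc.max _ h₁) (hc.max _ h₂) hv hv₂
  obtain ⟨j, y, y', h⟩ := exists_cs hca hc.rk
  have hexp := h.C_exp hc
  by_cases hc₀ : h.c₀ = 1
  swap
  · exact Or.inl (h.concl_of_ne h₁ h₂ hexp hc₀)
  right
  by_cases hbot : h.ca.C = ⊥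
  · rw [h.card_S_eq, hbot, Subgroup.card_bot, mul_one]
  exfalso
  obtain ⟨⟨z, hz⟩, hz1⟩ := Subgroup.ne_bot_iff_exists_ne_one.mp hbot
  have hz1' : z ≠ 1 := fun e => hz1 (Subtype.ext e)
  have hzp := hexp z hz
  have hC : h.ca.C = Subgroup.zpowers z := le_antisymm
    (fun x hx => h.om1 hz hzp hz1' hx (hexp x hx)) (Subgroup.zpowers_le.mpr hz)
  have hCcard : Nat.card h.ca.C = p := by
    rw [hC, Nat.card_zpowers, orderOf_eq_prime hzp hz1']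
  exact false_of_abelian hc h₁ h₂ h (by rw [h.card_S_eq, hCcard]; ring) hCcard hc₀

end Cfsg.Agent.Rank3
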