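import Mathlib
import Cfsg.Agent.Lib.FusionPSpBorel
import Cfsg.Agent.Lib.SymplecticOrder

/-!
A group of order `p ^ 4` with an elementary abelian subgroup of order `p ^ 3` on which an element
of order `p` acts as a single Jordan block is a Sylow `p`-subgroup of `Sp₄(p)` (`p` odd).
-/

set_option autoImplicit false

universe u

namespace Cfsg.Agent.Rank3Sp4Iso34

open Matrix Cfsg.Agent.FusionPSpBorel Cfsg.Agent.SymplecticBasic Cfsg.Agent.AutPSpBasic
open scoped commutatorElement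

variable {p : ℕ} [Fact p.Prime]

/-- The Jordan block of size three on coordinates. -/
def jord (v : Fin 3 → ZMod p) : Fin 3 → ZMod p := ![v 0, v 1 + v 0, v 2 + v 1]

theorem pow_val_add {K : Type*} [Monoid K] {x : K} (hx : x ^ p = 1) (s t : ZMod p) :
    x ^ (s + t).val = x ^ s.val * x ^ t.val := by
  rw [← pow_add, ZMod.val_add]
  exact (pow_eq_pow_mod _ hx).symm

theorem pow_val_eq_one {K : Type*} [Group K] {x : K} (hx : x ^ p = 1) (hx1 : x ≠ 1) {s : ZMod p}
    (h : x ^ s.val = 1) : s = 0 := by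
  have ho : orderOf x = p := orderOf_eq_prime hx hx1
  have hd := orderOf_dvd_of_pow_eq_one h
  rw [ho] at hd
  exact (ZMod.val_eq_zero s).1 (Nat.eq_zero_of_dvd_of_lt hd s.val_lt)

/-- The product rule for the normal form `ψ v * e ^ i`. -/
theorem coord_mul {K : Type*} [Group K] (ψ : (Fin 3 → ZMod p) → K)
    (hadd : ∀ v w, ψ (v + w) = ψ v * ψ w) {e : K} (he : e ^ p = 1)
    (hcj : ∀ v, e * ψ v = ψ (jord v) * e) (v w : Fin 3 → ZMod p) (i j : Fin p) :
    ψ v * e ^ (i : ℕ) * (ψ w * e ^ (j : ℕ)) =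
      ψ (v + jord^[(i : ℕ)] w) * e ^ ((i + j : Fin p) : ℕ) := by
  have hi : ∀ (n : ℕ) (w : Fin 3 → ZMod p), e ^ n * ψ w = ψ (jord^[n] w) * e ^ n := by
    intro n
    induction n with
    | zero => simp
    | succ n ih =>
      intro w
      rw [pow_succ, mul_assoc, hcj, ← mul_assoc, ih, mul_assoc, Function.iterate_succ_apply]
  rw [mul_assoc, ← mul_assoc (e ^ (i : ℕ)) (ψ w), hi, hadd, Fin.val_add,
    ← pow_eq_pow_mod ((i : ℕ) + j) he, pow_add]
  group

theorem rearr₁ {M : Type*} [CommMonoid M] (a b c d e f : M) :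
    (a * d) * (b * e) * (c * f) = (a * b * c) * (d * e * f) := by ac_rfl

theorem rearr₂ {M : Type*} [CommMonoid M] (a b c y z : M) :
    a * (b * y) * (c * z) = (y * z) * (a * b * c) := by ac_rfl

/-- Coordinates of the abelian subgroup adapted to the action of `e`. -/
theorem exists_coords {G : Type u} [Group G] [Finite G] (hG : Group.IsNilpotent G) (A : Subgroup G)
    (e : G) (hA : Nat.card A = p ^ 3) (hn : A.Normal)
    (hc : ∀ a ∈ A, ∀ b ∈ A, a * b = b * a) (hAp : ∀ a ∈ A, a ^ p = 1)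
    (hJ : ∃ a ∈ A, ⁅e, ⁅e, a⁆⁆ ≠ 1) :
    ∃ ψ : (Fin 3 → ZMod p) → G, (∀ v w, ψ (v + w) = ψ v * ψ w) ∧ Function.Injective ψ ∧
      (∀ v, ψ v ∈ A) ∧ ∀ v, e * ψ v = ψ (jord v) * e := by
  classical
  letI : CommGroup A :=
    { (inferInstance : Group A) with mul_comm := fun x y => Subtype.ext (hc _ x.2 _ y.2) }
  have hmem : ∀ x ∈ A, ⁅e, x⁆ ∈ A := fun x hx => by
    rw [commutatorElement_def]
    exact mul_mem (hn.conj_mem x hx e) (inv_mem hx)
  let N : A →* A := MonoidHom.mk' (fun x => ⟨⁅e, (x : G)⁆, hmem _ x.2⟩) fun x y => by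
    refine Subtype.ext ?_
    show ⁅e, (x : G) * y⁆ = ⁅e, (x : G)⁆ * ⁅e, (y : G)⁆
    have h1 : (x : G) * ⁅e, (y : G)⁆ = ⁅e, (y : G)⁆ * x := hc _ x.2 _ (hmem _ y.2)
    calc ⁅e, (x : G) * y⁆ = ⁅e, (x : G)⁆ * ((x : G) * ⁅e, (y : G)⁆ * (x : G)⁻¹) := by
          simp only [commutatorElement_def]; group
      _ = ⁅e, (x : G)⁆ * ⁅e, (y : G)⁆ := by rw [h1, mul_inv_cancel_right]
  have hN : ∀ x : A, ((N x : A) : G) = ⁅e, (x : G)⁆ := fun x => rfl
  obtain ⟨a₀, ha₀, hJ⟩ := hJ
  have hex : ∃ k, N^[k] ⟨a₀, ha₀⟩ = 1 := by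
    obtain ⟨k, hk⟩ := Subgroup.nilpotent_iff_lowerCentralSeries.1 hG
    refine ⟨k, Subtype.ext (Subgroup.mem_bot.1 (hk ▸ ?_))⟩
    clear hk
    induction k with
    | zero => exact Subgroup.mem_top _
    | succ k ih =>
      rw [Function.iterate_succ_apply', hN, ← commutatorElement_inv]
      exact inv_mem (Subgroup.commutator_mem_commutator ih (Subgroup.mem_top e))
  have h2 : N^[2] ⟨a₀, ha₀⟩ ≠ 1 := fun h => hJ (congrArg Subtype.val h)
  obtain ⟨k, hk, hk'⟩ : ∃ k, N^[k] ⟨a₀, ha₀⟩ = 1 ∧ ∀ m < k, ¬ N^[m] ⟨a₀, ha₀⟩ = 1 :=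
    ⟨Nat.find hex, Nat.find_spec hex, fun m => Nat.find_min hex (m := m)⟩
  have hk3 : 3 ≤ k := by
    by_contra hlt
    refine h2 ?_
    rw [show 2 = (2 - k) + k by omega, Function.iterate_add_apply, hk, iterate_map_one]
  obtain ⟨l, rfl⟩ : ∃ l, k = l + 3 := ⟨k - 3, by omega⟩
  obtain ⟨x, hx⟩ : ∃ x, x = N^[l] (⟨a₀, ha₀⟩ : A) := ⟨_, rfl⟩
  have hNx3 : N (N (N x)) = 1 := by
    rw [hx, ← Function.iterate_succ_apply' N, ← Function.iterate_succ_apply' N,
      ← Function.iterate_succ_apply' N]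
    exact hk
  have hNx2 : N (N x) ≠ 1 := by
    rw [hx, ← Function.iterate_succ_apply' N, ← Function.iterate_succ_apply' N]
    exact hk' (l + 2) (by omega)
  have hp1 : ∀ y : A, y ^ p = 1 := fun y => Subtype.ext (by simpa using hAp _ y.2)
  obtain ⟨ψ, hψ⟩ : ∃ ψ : (Fin 3 → ZMod p) → A,
      ∀ v, ψ v = x ^ (v 0).val * N x ^ (v 1).val * N (N x) ^ (v 2).val := ⟨_, fun v => rfl⟩
  have hadd : ∀ v w, ψ (v + w) = ψ v * ψ w := fun v w => by
    simp only [hψ, Pi.add_apply, pow_val_add (hp1 _)]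
    exact rearr₁ _ _ _ _ _ _
  have hN1 : ∀ v, N (ψ v) = N x ^ (v 0).val * N (N x) ^ (v 1).val := fun v => by
    simp only [hψ, map_mul, map_pow, hNx3, one_pow, mul_one]
  have hN2 : ∀ v, N (N (ψ v)) = N (N x) ^ (v 0).val := fun v => by
    simp only [hN1, map_mul, map_pow, hNx3, one_pow, mul_one]
  have hker : ∀ v, ψ v = 1 → v = 0 := fun v h => by
    have h0 : v 0 = 0 := pow_val_eq_one (hp1 _) hNx2 (by rw [← hN2, h, map_one, map_one])
    have h1 : v 1 = 0 := by
      refine pow_val_eq_one (hp1 _) hNx2 ?_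
      have := hN1 v
      rwa [h, map_one, h0, ZMod.val_zero, pow_zero, one_mul, eq_comm] at this
    have h2 : v 2 = 0 := by
      refine pow_val_eq_one (hp1 _) hNx2 ?_
      rwa [hψ, h0, h1, ZMod.val_zero, pow_zero, pow_zero, one_mul, one_mul] at h
    ext i
    fin_cases i <;> assumption
  have hinj : Function.Injective ψ := fun v w h => by
    refine sub_eq_zero.1 (hker _ ?_)
    have := hadd (v - w) w
    rw [sub_add_cancel, h] at this
    exact mul_eq_right.1 this.symm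
  refine ⟨fun v => (ψ v : G), fun v w => congrArg Subtype.val (hadd v w),
    Subtype.val_injective.comp hinj, fun v => (ψ v).2, fun v => ?_⟩
  have hj : ψ (jord v) = N (ψ v) * ψ v := by
    rw [hN1, hψ, hψ, show jord v 0 = v 0 from rfl, show jord v 1 = v 1 + v 0 from rfl,
      show jord v 2 = v 2 + v 1 from rfl, pow_val_add (hp1 _), pow_val_add (hp1 _)]
    exact rearr₂ _ _ _ _ _
  show e * (ψ v : G) = (ψ (jord v) : G) * e
  rw [hj, Subgroup.coe_mul, hN, commutatorElement_def]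
  group

/-- The normal form is a bijection. -/
theorem coords_bij {G : Type u} [Group G] [Finite G] (hcard : Nat.card G = p ^ 4) (A : Subgroup G)
    (hn : A.Normal) (e : G) (heA : e ∉ A) (he : e ^ p = 1) (ψ : (Fin 3 → ZMod p) → G)
    (hinj : Function.Injective ψ) (hmem : ∀ v, ψ v ∈ A) :
    Function.Bijective fun z : (Fin 3 → ZMod p) × Fin p => ψ z.1 * e ^ (z.2 : ℕ) := by
  refine Function.Injective.bijective_of_nat_card_le ?_ ?_
  · rintro ⟨v, i⟩ ⟨w, j⟩ h
    simp only at h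
    have hq1 : (QuotientGroup.mk' A e) ≠ 1 := fun h => heA ((QuotientGroup.eq_one_iff e).1 h)
    have ho : orderOf (QuotientGroup.mk' A e) = p :=
      orderOf_eq_prime (by rw [← map_pow, he, map_one]) hq1
    have hij : i = j := by
      have h' := congrArg (QuotientGroup.mk' A) h
      simp only [map_mul, map_pow, QuotientGroup.mk'_apply,
        (QuotientGroup.eq_one_iff _).2 (hmem v), (QuotientGroup.eq_one_iff _).2 (hmem w),
        one_mul] at h'
      exact Fin.ext (pow_injOn_Iio_orderOf (x := QuotientGroup.mk' A e)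
        (by rw [Set.mem_Iio, ho]; exact i.isLt) (by rw [Set.mem_Iio, ho]; exact j.isLt) h')
    subst hij
    rw [hinj (mul_right_cancel h)]
  · rw [hcard, Nat.card_prod, Nat.card_fun, Nat.card_zmod, Nat.card_fin, Nat.card_fin]
    exact (pow_succ p 3).le

/-- A symmetric matrix from coordinates adapted to the Levi transvection. -/
def symMat (v : Fin 3 → ZMod p) : Matrix (Fin 2) (Fin 2) (ZMod p) :=
  !![v 1 + 2 * v 2, v 1; v 1, v 0]

theorem symMat_isSymm (v : Fin 3 → ZMod p) : (symMat v).IsSymm := by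
  refine Matrix.IsSymm.ext fun i j => ?_
  fin_cases i <;> fin_cases j <;> simp [symMat]

/-- The Levi transvection. -/
def gT (p : ℕ) : GL (Fin 2) (ZMod p) where
  val := !![1, 1; 0, 1]
  inv := !![1, -1; 0, 1]
  val_inv := by ext i j; fin_cases i <;> fin_cases j <;> simp
  inv_val := by ext i j; fin_cases i <;> fin_cases j <;> simp

theorem coe_gT_pow (n : ℕ) : ((gT p) ^ n).1 = !![1, (n : ZMod p); 0, 1] := by
  induction n with
  | zero => ext i j; fin_cases i <;> fin_cases j <;> simp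
  | succ n ih =>
    rw [pow_succ, Units.val_mul, ih]
    ext i j; fin_cases i <;> fin_cases j <;> simp [gT, add_comm]

theorem two_dvd_free {q : ℕ} (hq : q.Prime) : ¬ q ∣ (q ^ 2 - 1) * (q ^ 4 - 1) := by
  have key : ∀ n, n ≠ 0 → ¬ q ∣ q ^ n - 1 := fun n hn h => by
    have h1 : 1 ≤ q ^ n := Nat.one_le_pow _ _ hq.pos
    have := Nat.dvd_sub (dvd_pow_self q hn) h
    rw [Nat.sub_sub_self h1] at this
    exact hq.not_dvd_one this
  exact hq.not_dvd_mul (key 2 two_ne_zero) (key 4 (by norm_num))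

theorem factorization_card_sp4 :
    (Nat.card ↥(Matrix.symplecticGroup (Fin 2) (ZMod p))).factorization p = 4 := by
  have hp' : p.Prime := Fact.out
  have hne : (p ^ 2 - 1) * (p ^ 4 - 1) ≠ 0 := fun h => two_dvd_free hp' (h ▸ dvd_zero p)
  have h := Cfsg.Agent.SymplecticOrder.card_symplectic (F := ZMod p) (ZMod.card p) 2
  simp only [Finset.prod_range_succ, Finset.prod_range_zero, one_mul] at h
  norm_num at h
  rw [h, Nat.factorization_mul (pow_ne_zero _ hp'.ne_zero) hne, Finsupp.add_apply,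
    hp'.factorization_pow, Finsupp.single_eq_same,
    Nat.factorization_eq_zero_of_not_dvd (two_dvd_free hp'), add_zero]

theorem sp4_sylow_of_jordan {G : Type u} [Group G] [Finite G] {p : ℕ} [Fact p.Prime] (hp : Odd p)
    (hcard : Nat.card G = p ^ 4) (A : Subgroup G) (e : G) (hA : Nat.card A = p ^ 3)
    (hn : A.Normal) (hc : ∀ a ∈ A, ∀ b ∈ A, a * b = b * a) (hAp : ∀ a ∈ A, a ^ p = 1)
    (heA : e ∉ A) (he : e ^ p = 1) (hJ : ∃ a ∈ A, ⁅e, ⁅e, a⁆⁆ ≠ 1) :
    ∃ P : Sylow p ↥(Matrix.symplecticGroup (Fin 2) (ZMod p)),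
      Nonempty (G ≃* ↥(P : Subgroup ↥(Matrix.symplecticGroup (Fin 2) (ZMod p)))) := by
  classical
  have h2 : (2 : ZMod p) ≠ 0 := by
    intro h
    have h' : p ∣ 2 := (ZMod.natCast_eq_zero_iff 2 p).1 (by simpa using h)
    obtain rfl := (Nat.prime_dvd_prime_iff_eq Fact.out Nat.prime_two).1 h'
    exact absurd hp (by decide)
  obtain ⟨ψ, hadd, hinj, hmem, hcj⟩ :=
    exists_coords ((IsPGroup.of_card hcard).isNilpotent) A e hA hn hc hAp hJ
  let f := Equiv.ofBijective _ (coords_bij hcard A hn e heA he ψ hinj hmem)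
  let τ : (Fin 3 → ZMod p) → Sp 2 (ZMod p) := fun v => sieg (symMat v) (symMat_isSymm v)
  let e' : Sp 2 (ZMod p) := lev (gT p)
  have hτadd : ∀ v w, τ (v + w) = τ v * τ w := fun v w => by
    simp only [τ, sieg_mul]
    refine sieg_congr _ _ ?_
    ext i j
    fin_cases i <;> fin_cases j <;> simp [symMat]
    ring
  have he' : e' ^ p = 1 := by
    rw [← map_pow, show gT p ^ p = 1 from Units.ext (by
      rw [coe_gT_pow, Units.val_one, Matrix.one_fin_two, ZMod.natCast_self]), map_one]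
  have hτcj : ∀ v, e' * τ v = τ (jord v) * e' := fun v => by
    have hM : (gT p).1 * symMat v * (gT p).1ᵀ = symMat (jord v) := by
      ext i j
      fin_cases i <;> fin_cases j <;>
        simp [gT, symMat, jord, Matrix.mul_apply, Fin.sum_univ_two] <;> ring
    exact (mul_inv_eq_iff_eq_mul.1 (lev_conj (gT p) (symMat_isSymm v))).trans
      (by rw [sieg_congr _ (symMat_isSymm (jord v)) hM])
  let g : (Fin 3 → ZMod p) × Fin p → Sp 2 (ZMod p) := fun z => τ z.1 * e' ^ (z.2 : ℕ)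
  let χ : G →* Sp 2 (ZMod p) := MonoidHom.mk' (fun x => g (f.symm x)) fun x y => by
    obtain ⟨⟨v, i⟩, rfl⟩ := f.surjective x
    obtain ⟨⟨w, j⟩, rfl⟩ := f.surjective y
    have : f (v, i) * f (w, j) = f (v + jord^[(i : ℕ)] w, i + j) :=
      coord_mul ψ hadd he hcj v w i j
    simp only [this, Equiv.symm_apply_apply]
    exact (coord_mul τ hτadd he' hτcj v w i j).symm
  have hg : Function.Injective g := by
    rintro ⟨v, i⟩ ⟨w, j⟩ h
    simp only [g, e', ← map_pow] at h
    have hm := congrArg Subtype.val h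
    change (sieg _ _ : Sp 2 (ZMod p)).1 * (lev _ : Sp 2 (ZMod p)).1 =
      (sieg _ _ : Sp 2 (ZMod p)).1 * (lev _ : Sp 2 (ZMod p)).1 at hm
    rw [coe_sieg, coe_lev, coe_sieg, coe_lev, Matrix.fromBlocks_multiply,
      Matrix.fromBlocks_multiply, Matrix.fromBlocks_inj] at hm
    have h00 := hm.1
    simp only [one_mul, Matrix.mul_zero, add_zero, coe_gT_pow] at h00
    have hij : i = j := by
      have h01 := congrFun (congrFun h00 0) 1
      simp at h01
      rw [ZMod.natCast_eq_natCast_iff', Nat.mod_eq_of_lt i.isLt, Nat.mod_eq_of_lt j.isLt] at h01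
      exact Fin.ext h01
    subst hij
    have hvw := congrArg Subtype.val (mul_right_cancel h)
    change (sieg _ _ : Sp 2 (ZMod p)).1 = (sieg _ _ : Sp 2 (ZMod p)).1 at hvw
    rw [coe_sieg, coe_sieg, Matrix.fromBlocks_inj] at hvw
    have hS := hvw.2.1
    have a11 := congrFun (congrFun hS 1) 1
    have a01 := congrFun (congrFun hS 0) 1
    have a00 := congrFun (congrFun hS 0) 0
    simp [symMat] at a11 a01 a00
    rw [a01, add_right_inj] at a00
    have a22 : v 2 = w 2 := mul_left_cancel₀ h2 a00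
    refine Prod.ext (funext fun k => ?_) rfl
    fin_cases k <;> assumption
  have hχ : Function.Injective χ := hg.comp f.symm.injective
  have hcardR : Nat.card χ.range =
      p ^ (Nat.card ↥(Matrix.symplecticGroup (Fin 2) (ZMod p))).factorization p := by
    rw [factorization_card_sp4, ← hcard]
    exact (Nat.card_congr (MonoidHom.ofInjective hχ).toEquiv).symm
  exact ⟨Sylow.ofCard χ.range hcardR, ⟨MonoidHom.ofInjective hχ⟩⟩

end Cfsg.Agent.Rank3Sp4Iso34
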