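import Cfsg.Agent.Lib.Rank3CaseA34Struct
import Cfsg.Agent.Lib.Rank3Sp4Iso34

/-!
Case A of the rank three engine: `C` has order at most `p`, and the configuration of `Sp₄(p)`
when `y` and `y'` do not commute.
-/

set_option autoImplicit false
set_option linter.unusedSectionVars false

namespace Cfsg.Agent.Rank3

open scoped commutatorElement Pointwise
open Cfsg.FusionSystem Cfsg.Agent.FusionSysBasic Cfsg.Agent.FusionSysSaturated
  Cfsg.Agent.FusionSysNormal Cfsg.Agent.FusionSysAlperin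

universe u

theorem class_two_pow {G : Type*} [Group G] {p : ℕ} [Fact p.Prime] (hp : Odd p) {x y : G}
    (h1 : Commute ⁅y, x⁆ x) (h2 : Commute ⁅y, x⁆ y) (hy : y ^ p = 1) (hx : x ^ p = 1) :
    (x * y) ^ p = 1 := by
  have hc : ⁅y, x⁆ ^ p = 1 := by
    have hconj : ∀ n : ℕ, y ^ n * x * (y ^ n)⁻¹ = ⁅y, x⁆ ^ n * x := by
      intro n
      induction n with
      | zero => simp
      | succ n ih =>
        have e1 : y * x * y⁻¹ = ⁅y, x⁆ * x := by rw [commutatorElement_def, inv_mul_cancel_right]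
        calc y ^ (n + 1) * x * (y ^ (n + 1))⁻¹ = y * (y ^ n * x * (y ^ n)⁻¹) * y⁻¹ := by
              rw [pow_succ']; group
          _ = ⁅y, x⁆ ^ n * (y * x * y⁻¹) := by
              rw [ih, ← mul_assoc y, (h2.pow_left n).symm.eq]; group
          _ = ⁅y, x⁆ ^ (n + 1) * x := by rw [e1, ← mul_assoc, ← pow_succ]
    have h3 := hconj p
    rw [hy, one_mul, inv_one, mul_one] at h3
    exact mul_eq_right.mp h3.symm
  obtain ⟨m, hm⟩ := (Fact.out : p.Prime).dvd_choose_self (k := 2) (by norm_num) (by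
    rcases (Fact.out : p.Prime).two_le.lt_or_eq with h | h
    · exact h
    · exact absurd (h ▸ hp : Odd 2) (by decide))
  rw [OddLocalBase.mul_pow_of_central x y h1 h2 p, hx, hy, hm, pow_mul, hc, one_pow, mul_one,
    mul_one]

variable {Ω : Type u} [Group Ω] {S : Subgroup Ω} {F : FusionSystem S} {p : ℕ}
  [Finite S] [Fact p.Prime]

theorem mem_of_zpow_mem {K : Subgroup Ω} {x : Ω} (hx : x ^ p = 1) {a : ℤ} (h : x ^ a ∈ K)
    (ha : ¬ (p : ℤ) ∣ a) : x ∈ K := by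
  obtain ⟨r, s, hrs⟩ :=
    ((Nat.prime_iff_prime_int.mp (Fact.out : p.Prime)).coprime_iff_not_dvd.mpr ha).symm
  rw [← zpow_one x, ← hrs, zpow_add, mul_comm r, mul_comm s, zpow_mul, zpow_mul, zpow_natCast, hx,
    one_zpow, mul_one]
  exact K.zpow_mem h r

namespace CS

variable {E₁ E₂ : Subgroup Ω} {v : Ω} {α j : MulAut E₂} {y y' : Ω}

theorem om1 (h : CS F p E₁ E₂ v α j y y') {z x : Ω} (hz : z ∈ h.ca.C) (hzp : z ^ p = 1)
    (hz1 : z ≠ 1) (hx : x ∈ h.ca.C) (hxp : x ^ p = 1) : x ∈ Subgroup.zpowers z := by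
  have hS := h.ca.hS
  have hvS := h.ca.hvS
  have hyS : y ∈ S := h.m₂.le h.hy.2
  have hzS : z ∈ S := h.m₂.le (h.ca.C_le hz)
  have hzy : Commute z y := h.cy z hz
  have hzv : Commute z v := (h.v_comm hz.1).symm
  have hyv : Commute y v := (h.v_comm h.hy).symm
  set A₁ := Subgroup.zpowers z ⊔ Subgroup.zpowers y with hA₁
  set A₀ := A₁ ⊔ Subgroup.zpowers v with hA₀
  have hA₁S : A₁ ≤ S := sup_le (Subgroup.zpowers_le.mpr hzS) (Subgroup.zpowers_le.mpr hyS)
  have hA₀S : A₀ ≤ S := sup_le hA₁S (Subgroup.zpowers_le.mpr hvS)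
  have hdec : ∀ w ∈ A₁, ∃ a b : ℤ, w = z ^ a * y ^ b := by
    intro w hw
    rw [hA₁, ← SetLike.mem_coe, Subgroup.coe_mul_of_right_le_normalizer_left _ _
      (Subgroup.zpowers_le.mpr (mem_normalizer_of_cj_le (Subgroup.zpowers_le.mpr hzS)
        (g := y) (by
          rintro _ ⟨a, rfl⟩
          show cj y (z ^ a) ∈ _
          rw [cj_apply, ← (hzy.zpow_left a).eq, mul_inv_cancel_right]
          exact Subgroup.zpow_mem_zpowers z a)))] at hw
    obtain ⟨_, ⟨a, rfl⟩, _, ⟨b, rfl⟩, rfl⟩ := Set.mem_mul.mp hw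
    exact ⟨a, b, rfl⟩
  have hdec₀ : ∀ w ∈ A₀, ∃ a b c : ℤ, w = z ^ a * y ^ b * v ^ c := by
    intro w hw
    rw [hA₀, ← SetLike.mem_coe, Subgroup.coe_mul_of_right_le_normalizer_left _ _
      (Subgroup.zpowers_le.mpr (mem_normalizer_of_cj_le hA₁S (g := v) (by
        intro u hu
        obtain ⟨a, b, rfl⟩ := hdec u hu
        rw [cj_apply, ← ((hzv.zpow_left a).mul_left (hyv.zpow_left b)).eq, mul_inv_cancel_right]
        exact hu)))] at hw
    obtain ⟨u, hu, _, ⟨c, rfl⟩, rfl⟩ := Set.mem_mul.mp hw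
    obtain ⟨a, b, rfl⟩ := hdec u hu
    exact ⟨a, b, c, rfl⟩
  have hT : ∀ a ∈ ({z, y, v} : Set Ω), ∀ b ∈ ({z, y, v} : Set Ω), a * b = b * a := by
    rintro a (rfl | rfl | rfl) b (rfl | rfl | rfl)
    exacts [rfl, hzy.eq, hzv.eq, hzy.symm.eq, rfl, hyv.eq, hzv.symm.eq, hyv.symm.eq, rfl]
  have hTp : ∀ a ∈ ({z, y, v} : Set Ω), a ^ p = 1 := by
    rintro a (rfl | rfl | rfl)
    exacts [hzp, h.yp, h.ca.hv.2.1]
  have hA₀le : A₀ ≤ Subgroup.closure ({z, y, v} : Set Ω) :=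
    sup_le (sup_le (Subgroup.zpowers_le.mpr (Subgroup.subset_closure (Or.inl rfl)))
      (Subgroup.zpowers_le.mpr (Subgroup.subset_closure (Or.inr (Or.inl rfl)))))
      (Subgroup.zpowers_le.mpr (Subgroup.subset_closure (Or.inr (Or.inr rfl))))
  have hc : ∀ a ∈ A₀, ∀ b ∈ A₀, a * b = b * a := fun a ha b hb =>
    commute_closure hT a (hA₀le ha) b (hA₀le hb)
  have he : ∀ a ∈ A₀, a ^ p = 1 := fun a ha => elem_closure hT hTp a (hA₀le ha)
  have h1 : Subgroup.zpowers z < A₁ := lt_of_le_not_ge le_sup_left fun e => by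
    obtain ⟨a, ha⟩ := e (Subgroup.mem_sup_right (Subgroup.mem_zpowers y))
    have h3 := (h.ca.C.zpow_mem hz a).2
    exact h.hy2 ((show z ^ a = y from ha) ▸ h3)
  have h2 : A₁ < A₀ := lt_of_le_not_ge le_sup_left fun e => by
    obtain ⟨a, b, hab⟩ := hdec v (e (Subgroup.mem_sup_right (Subgroup.mem_zpowers v)))
    exact h.ca.hv₂ (hab ▸ E₂.mul_mem (E₂.zpow_mem (h.ca.C_le hz) a) (E₂.zpow_mem h.hy.2 b))
  have hcard : Nat.card A₀ = p ^ 3 := by
    refine le_antisymm (elem_card_le h.rk hA₀S hc he) ?_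
    calc p ^ 3 = p * (p * Nat.card (Subgroup.zpowers z)) := by
          rw [Nat.card_zpowers, orderOf_eq_prime hzp hz1]; ring
      _ ≤ p * Nat.card A₁ := Nat.mul_le_mul_left p (mul_card_le_of_lt hS hA₁S h1)
      _ ≤ Nat.card A₀ := mul_card_le_of_lt hS hA₀S h2
  have hxS : x ∈ S := h.m₂.le (h.ca.C_le hx)
  have hxA : x ∈ A₀ := mem_of_commute hS h.rk hA₀S hcard hc he hxS hxp
    fun a ha => h.C_central hx (hA₀S ha)
  obtain ⟨a, b, c, rfl⟩ := hdec₀ x hxA
  have hc2 : v ^ c ∈ E₂ := by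
    have := E₂.mul_mem (E₂.inv_mem (E₂.mul_mem (E₂.zpow_mem (h.ca.C_le hz) a)
      (E₂.zpow_mem h.hy.2 b))) (h.ca.C_le hx)
    rwa [inv_mul_cancel_left] at this
  have hvc : v ^ c = 1 := by
    by_cases hd : (p : ℤ) ∣ c
    · obtain ⟨r, rfl⟩ := hd
      rw [zpow_mul, zpow_natCast, h.ca.hv.2.1, one_zpow]
    · exact absurd (mem_of_zpow_mem h.ca.hv.2.1 hc2 hd) h.ca.hv₂
  rw [hvc, mul_one] at hx ⊢
  have hyb : y ^ b = 1 := by
    by_cases hd : (p : ℤ) ∣ b
    · obtain ⟨r, rfl⟩ := hd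
      rw [zpow_mul, zpow_natCast, h.yp, one_zpow]
    · have h4 := h.ca.C.mul_mem (h.ca.C.inv_mem (h.ca.C.zpow_mem hz a)) hx
      rw [inv_mul_cancel_left] at h4
      exact absurd (mem_of_zpow_mem h.yp h4 hd).2 h.hy2
  rw [hyb, mul_one]
  exact Subgroup.zpow_mem_zpowers z a

/-- The `p`th powers of `C`. -/
def Cp (h : CS F p E₁ E₂ v α j y y') : Subgroup Ω where
  carrier := {x | ∃ c ∈ h.ca.C, c ^ p = x}
  one_mem' := ⟨1, one_mem _, one_pow p⟩
  mul_mem' := by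
    rintro _ _ ⟨a, ha, rfl⟩ ⟨b, hb, rfl⟩
    exact ⟨a * b, mul_mem ha hb,
      (show Commute a b from h.C_central ha (h.m₂.le (h.ca.C_le hb))).mul_pow p⟩
  inv_mem' := by
    rintro _ ⟨a, ha, rfl⟩
    exact ⟨a⁻¹, inv_mem ha, inv_pow a p⟩

theorem Cp_le (h : CS F p E₁ E₂ v α j y y') : h.Cp ≤ h.ca.C := by
  rintro _ ⟨c, hc, rfl⟩; exact h.ca.C.pow_mem hc p

/-- If `Cp` is nontrivial, all `p`th powers in `S` lie in it. -/
theorem pow_mem_Cp (h : CS F p E₁ E₂ v α j y y') (hne : ∃ c ∈ h.ca.C, c ^ p ≠ 1) :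
    ∀ s ∈ S, s ^ p ∈ h.Cp := by
  have hS := h.ca.hS
  obtain ⟨c, hc, hcp⟩ := hne
  have hcS : c ∈ S := h.m₂.le (h.ca.C_le hc)
  obtain ⟨z, hz, hzp, hz1⟩ : ∃ z ∈ h.Cp, z ^ p = 1 ∧ z ≠ 1 := by
    classical
    obtain ⟨k, hk⟩ := hS ⟨c, hcS⟩
    have hk' : (c ^ p) ^ p ^ k = 1 := by
      rw [← pow_mul, mul_comm, pow_mul, show c ^ p ^ k = 1 from congrArg Subtype.val hk, one_pow]
    obtain ⟨n, hn1, hn2⟩ : ∃ n, (c ^ p) ^ p ^ n ≠ 1 ∧ (c ^ p) ^ p ^ (n + 1) = 1 := by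
      have hex : ∃ n, (c ^ p) ^ p ^ n = 1 := ⟨k, hk'⟩
      refine ⟨Nat.find hex - 1, ?_, ?_⟩
      · refine Nat.find_min hex (Nat.sub_lt ?_ Nat.one_pos)
        rcases Nat.eq_zero_or_pos (Nat.find hex) with h0 | h0
        · have := Nat.find_spec hex
          rw [h0, pow_zero, pow_one] at this
          exact absurd this hcp
        · exact h0
      · have h0 : Nat.find hex - 1 + 1 = Nat.find hex := by
          rcases Nat.eq_zero_or_pos (Nat.find hex) with h0 | h0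
          · have := Nat.find_spec hex
            rw [h0, pow_zero, pow_one] at this
            exact absurd this hcp
          · omega
        rw [h0]; exact Nat.find_spec hex
    exact ⟨_, h.Cp.pow_mem ⟨c, hc, rfl⟩ _, by rw [← pow_mul, ← pow_succ]; exact hn2, hn1⟩
  have hom : ∀ w ∈ h.ca.C, w ^ p = 1 → w ∈ h.Cp := fun w hw hwp =>
    Subgroup.zpowers_le.mpr hz (h.om1 (h.Cp_le hz) hzp hz1 hw hwp)
  obtain ⟨c', hc', i, hip, hti, hc'p, htp⟩ := h.t_eq
  let N' : Subgroup S := h.Cp.subgroupOf S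
  haveI : N'.Normal := ⟨fun a ha g => by
    rw [Subgroup.mem_subgroupOf] at ha ⊢
    show (g : Ω) * a * (g : Ω)⁻¹ ∈ h.Cp
    rw [← h.C_central (h.Cp_le ha) g.2, mul_inv_cancel_right]
    exact ha⟩
  let π := QuotientGroup.mk' N'
  have hπ1 : ∀ {a : Ω} (ha : a ∈ S), a ∈ h.Cp → π ⟨a, ha⟩ = 1 := fun ha haC =>
    (QuotientGroup.eq_one_iff _).mpr (Subgroup.mem_subgroupOf.mpr haC)
  have hyS : y ∈ S := h.m₂.le h.hy.2
  have hy'S : y' ∈ S := h.m₂.le h.hy'E
  have hvS := h.ca.hvS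
  have hCS : ∀ d ∈ h.ca.C, d ∈ S := fun d hd => h.m₂.le (h.ca.C_le hd)
  set Y := π ⟨y, hyS⟩ with hYdef
  set Y' := π ⟨y', hy'S⟩ with hY'def
  set V := π ⟨v, hvS⟩ with hVdef
  have hπcomm : ∀ (a : Ω) (ha : a ∈ S) (b : Ω) (hb : b ∈ S), a * b = b * a →
      Commute (π ⟨a, ha⟩) (π ⟨b, hb⟩) := fun a ha b hb e => by
    rw [commute_iff_eq, ← map_mul, ← map_mul]
    exact congrArg π (Subtype.ext e)
  have hYY' : Commute Y Y' := by
    rw [commute_iff_eq, ← map_mul, ← map_mul]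
    refine QuotientGroup.eq.mpr (Subgroup.mem_subgroupOf.mpr ?_)
    have h1 := h.Cp.inv_mem (hom h.c₀ h.c₀_mem h.c₀_pow)
    have e : (((⟨y, hyS⟩ * ⟨y', hy'S⟩ : S)⁻¹ * (⟨y', hy'S⟩ * ⟨y, hyS⟩) : S) : Ω) =
        cj (y'⁻¹ * y⁻¹) h.c₀⁻¹ := by
      simp only [c₀, cj_apply, Subgroup.coe_mul, Subgroup.coe_inv, mul_inv_rev, inv_inv,
        mul_assoc, inv_mul_cancel_left, mul_inv_cancel_left, inv_mul_cancel, mul_one]
    rw [e, cj_apply, ← h.C_central (h.Cp_le h1) (S.mul_mem (S.inv_mem hy'S) (S.inv_mem hyS)),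
      mul_inv_cancel_right]
    exact h1
  have hYcen : ∀ X : S ⧸ N', Commute Y X := by
    intro X
    obtain ⟨⟨s, hs⟩, rfl⟩ := QuotientGroup.mk'_surjective N' X
    have hs2 : s ∈ Subgroup.closure ((h.ca.C : Set Ω) ∪ {y, y', v}) := h.closure_eq.ge hs
    have key : ∀ t (ht : t ∈ Subgroup.closure ((h.ca.C : Set Ω) ∪ {y, y', v})),
        Commute Y (π ⟨t, h.closure_eq.le ht⟩) := by
      intro t ht
      induction ht using Subgroup.closure_induction with
      | mem g hg =>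
        rcases hg with hg | rfl | rfl | rfl
        · exact hπcomm y hyS g (hCS g hg) (h.cy g hg).symm
        · exact Commute.refl _
        · exact hYY'
        · exact hπcomm y hyS g hvS (h.v_comm h.hy).symm
      | one => exact (congrArg π (rfl : (⟨1, _⟩ : S) = 1)).trans (map_one π) ▸ Commute.one_right _
      | mul a b ha hb iha ihb =>
        have e : π ⟨a * b, h.closure_eq.le (mul_mem ha hb)⟩ =
            π ⟨a, h.closure_eq.le ha⟩ * π ⟨b, h.closure_eq.le hb⟩ := by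
          rw [← map_mul]; rfl
        rw [e]; exact iha.mul_right ihb
      | inv a ha iha =>
        have e : π ⟨a⁻¹, h.closure_eq.le (inv_mem ha)⟩ = (π ⟨a, h.closure_eq.le ha⟩)⁻¹ := by
          rw [← map_inv]; rfl
        rw [e]; exact iha.inv_right
    exact key s hs2
  have hCcen : ∀ (d : Ω) (hd : d ∈ h.ca.C) (X : S ⧸ N'), Commute (π ⟨d, hCS d hd⟩) X := by
    intro d hd X
    obtain ⟨⟨s, hs⟩, rfl⟩ := QuotientGroup.mk'_surjective N' X
    exact hπcomm d (hCS d hd) s hs (h.C_central hd hs)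
  have hYp : Y ^ p = 1 := by rw [hYdef, ← map_pow]; exact hπ1 (S.pow_mem hyS p) (h.yp ▸ one_mem _)
  have hY'p : Y' ^ p = 1 := by
    rw [hY'def, ← map_pow]; exact hπ1 (S.pow_mem hy'S p) (h.y'p ▸ one_mem _)
  have hVp : V ^ p = 1 := by
    rw [hVdef, ← map_pow]; exact hπ1 (S.pow_mem hvS p) (h.ca.hv.2.1 ▸ one_mem _)
  -- every commutator is central
  have hcen : ∀ a b : S, ∀ X : S ⧸ N', Commute ⁅π a, π b⁆ X := by
    intro a b X
    have hmem : ((⁅a, b⁆ : S) : Ω) ∈ h.ca.C ⊔ Subgroup.zpowers y := by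
      have hn : ∀ k ∈ Subgroup.closure ((h.ca.C : Set Ω) ∪ {y, y', v}),
          ∀ w ∈ h.ca.C ⊔ Subgroup.zpowers y, cj k w ∈ h.ca.C ⊔ Subgroup.zpowers y := by
        intro k hk
        have hkS := h.closure_eq.le hk
        suffices hsf : h.ca.C ⊔ Subgroup.zpowers y ≤
            (h.ca.C ⊔ Subgroup.zpowers y).comap (MulAut.conj k).toMonoidHom from fun w hw => hsf hw
        refine sup_le (fun d hd => ?_) (Subgroup.zpowers_le.mpr ?_)
        · rw [Subgroup.mem_comap]; show cj k d ∈ h.ca.C ⊔ Subgroup.zpowers y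
          rw [cj_apply, ← h.C_central hd hkS, mul_inv_cancel_right]
          exact Subgroup.mem_sup_left hd
        · rw [Subgroup.mem_comap]; show cj k y ∈ h.ca.C ⊔ Subgroup.zpowers y
          have h1 : ((⟨k, hkS⟩ * ⟨y, hyS⟩ * ⟨k, hkS⟩⁻¹ * ⟨y, hyS⟩⁻¹ : S) : Ω) ∈ h.Cp :=
            Subgroup.mem_subgroupOf.mp ((QuotientGroup.eq_one_iff _).mp (show
              π (⟨k, hkS⟩ * ⟨y, hyS⟩ * ⟨k, hkS⟩⁻¹ * ⟨y, hyS⟩⁻¹) = 1 by
              rw [map_mul, map_mul, map_mul, map_inv, map_inv, ← hYdef, ← (hYcen _).eq,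
                mul_inv_cancel_right, mul_inv_cancel]))
          have h2 : cj k y * y⁻¹ ∈ h.Cp := h1
          have h3 := mul_mem (Subgroup.mem_sup_left (T := Subgroup.zpowers y) (h.Cp_le h2))
            (Subgroup.mem_sup_right (S := h.ca.C) (Subgroup.mem_zpowers y))
          rwa [inv_mul_cancel_right] at h3
      have one : ∀ a b : Ω, a * b = b * a → a * b * a⁻¹ * b⁻¹ ∈ h.ca.C ⊔ Subgroup.zpowers y :=
        fun a b e => by rw [e, mul_inv_cancel_right, mul_inv_cancel]; exact one_mem _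
      have inv1 : ∀ a b : Ω, a * b * a⁻¹ * b⁻¹ ∈ h.ca.C ⊔ Subgroup.zpowers y →
          b * a * b⁻¹ * a⁻¹ ∈ h.ca.C ⊔ Subgroup.zpowers y := fun a b hab => by
        have := inv_mem hab
        rwa [show (a * b * a⁻¹ * b⁻¹)⁻¹ = b * a * b⁻¹ * a⁻¹ by group] at this
      have h1 : y * y' * y⁻¹ * y'⁻¹ ∈ h.ca.C ⊔ Subgroup.zpowers y :=
        Subgroup.mem_sup_left h.c₀_mem
      have h2 : v * y' * v⁻¹ * y'⁻¹ ∈ h.ca.C ⊔ Subgroup.zpowers y := by
        have hy'cl : y' ∈ Subgroup.closure ((h.ca.C : Set Ω) ∪ {y, y', v}) :=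
          h.closure_eq.ge hy'S
        have htm : h.t ∈ h.ca.C ⊔ Subgroup.zpowers y := by
          rw [hti]; exact mul_mem (Subgroup.mem_sup_left hc')
            (Subgroup.mem_sup_right (Subgroup.zpow_mem_zpowers y i))
        have := hn y' hy'cl h.t htm
        simpa [CS.t, cj_apply, mul_assoc] using this
      have hg : ∀ a ∈ (h.ca.C : Set Ω) ∪ {y, y', v}, ∀ b ∈ (h.ca.C : Set Ω) ∪ {y, y', v},
          a * b * a⁻¹ * b⁻¹ ∈ h.ca.C ⊔ Subgroup.zpowers y := by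
        intro a ha b hb
        have haS : a ∈ S := h.closure_eq.le (Subgroup.subset_closure ha)
        have hbS : b ∈ S := h.closure_eq.le (Subgroup.subset_closure hb)
        rcases ha with ha | ha
        · exact one _ _ (h.C_central ha hbS)
        rcases hb with hb | hb
        · exact one _ _ (h.C_central hb haS).symm
        have hyv : v * y = y * v := h.v_comm h.hy
        rcases ha with ha | ha | ha <;> rcases hb with hb | hb | hb <;> rw [ha, hb]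
        exacts [one _ _ rfl, h1, one _ _ hyv.symm, inv1 _ _ h1, one _ _ rfl, inv1 _ _ h2,
          one _ _ hyv, h2, one _ _ rfl]
      simpa [commutatorElement_def] using gen_comm hn hg (a : Ω) (h.closure_eq.ge a.2)
        (b : Ω) (h.closure_eq.ge b.2)
    rw [← SetLike.mem_coe, Subgroup.coe_mul_of_right_le_normalizer_left _ _
      (Subgroup.zpowers_le.mpr (mem_normalizer_of_cj_le (fun d hd => hCS d hd) (g := y)
        fun d hd => by rw [cj_apply, ← h.cy d hd, mul_inv_cancel_right]; exact hd))] at hmem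
    obtain ⟨d, hd, _, ⟨n, rfl⟩, e⟩ := Set.mem_mul.mp hmem
    have e2 : ⁅π a, π b⁆ = π ⟨d, hCS d hd⟩ * Y ^ n := by
      rw [← map_commutatorElement, hYdef, ← map_zpow, ← map_mul]
      exact congrArg π (Subtype.ext e.symm)
    rw [e2]
    exact (hCcen d hd X).mul_left ((hYcen X).zpow_left n)
  intro s hs
  have key : ∀ t (ht : t ∈ Subgroup.closure ((h.ca.C : Set Ω) ∪ {y, y', v})),
      π ⟨t, h.closure_eq.le ht⟩ ^ p = 1 := by
    intro t ht
    induction ht using Subgroup.closure_induction with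
    | mem g hg =>
      rcases hg with hg | rfl | rfl | rfl
      · rw [← map_pow]; exact hπ1 (S.pow_mem (hCS g hg) p) ⟨g, hg, rfl⟩
      · exact hYp
      · exact hY'p
      · exact hVp
    | one => rw [← map_pow]; exact hπ1 (S.pow_mem S.one_mem p) (by rw [one_pow]; exact one_mem _)
    | mul a b ha hb iha ihb =>
      have e : π ⟨a * b, h.closure_eq.le (mul_mem ha hb)⟩ =
          π ⟨a, h.closure_eq.le ha⟩ * π ⟨b, h.closure_eq.le hb⟩ := by
        rw [← map_mul]; rfl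
      rw [e]
      exact class_two_pow h.ca.hp (hcen _ _ _) (hcen _ _ _) ihb iha
    | inv a ha iha =>
      have e : π ⟨a⁻¹, h.closure_eq.le (inv_mem ha)⟩ = (π ⟨a, h.closure_eq.le ha⟩)⁻¹ := by
        rw [← map_inv]; rfl
      rw [e, inv_pow, iha, inv_one]
  have h1 := key s (h.closure_eq.ge hs)
  rw [← map_pow] at h1
  exact Subgroup.mem_subgroupOf.mp ((QuotientGroup.eq_one_iff _).mp h1)

/-- `C` has exponent `p`. -/
theorem C_exp (h : CS F p E₁ E₂ v α j y y') {𝔈 : Set (Subgroup Ω)} (hc : Ctx F p 𝔈) :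
    ∀ c ∈ h.ca.C, c ^ p = 1 := by
  intro c hcC
  by_contra hne
  have hpow := h.pow_mem_Cp ⟨c, hcC, hne⟩
  have hCp : h.Cp ≤ S := h.Cp_le.trans (h.ca.C_le.trans h.m₂.le)
  have himg : ∀ (E : Subgroup Ω), E ≤ S → h.ca.C ≤ E → Inv F E h.Cp := by
    intro E hES hCE β hβ x hx
    obtain ⟨d, hd, rfl⟩ := hx
    rw [afun_npow β (hCE hd)]
    exact hpow _ (hES (afun_mem β (hCE hd)))
  have hbot := hc.free h.Cp hCp (himg S le_rfl (h.ca.C_le.trans h.m₂.le)) fun E hE => by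
    have hM := hc.max E hE
    have hCE : h.ca.C ≤ E := fun d hd =>
      hM.mem_of_centralizes (h.m₂.le (h.ca.C_le hd)) fun x hx => h.C_central hd (hM.le hx)
    exact ⟨h.Cp_le.trans hCE, himg E hM.le hCE⟩
  have hmem : c ^ p ∈ h.Cp := ⟨c, hcC, rfl⟩
  rw [hbot, Subgroup.mem_bot] at hmem
  exact hne hmem

theorem card_S_eq (h : CS F p E₁ E₂ v α j y y') : Nat.card S = p ^ 3 * Nat.card h.ca.C := by
  refine le_antisymm ?_ h.card_S
  have hCS : h.ca.C ≤ S := h.ca.C_le.trans h.m₂.le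
  have hyS : y ∈ S := h.m₂.le h.hy.2
  haveI : Finite ↥(h.ca.C ⊔ Subgroup.zpowers y) :=
    finite_of_le (sup_le hCS (Subgroup.zpowers_le.mpr hyS))
  have hQ : E₁ ⊓ E₂ ≤ h.ca.C ⊔ Subgroup.zpowers y := fun e he => by
    obtain ⟨c, hc, k, rfl⟩ := h.decomp.1 e he
    exact mul_mem (Subgroup.mem_sup_left hc)
      (Subgroup.mem_sup_right (Subgroup.zpow_mem_zpowers y k))
  have h1 := (Subgroup.card_le_of_le hQ).trans (card_sup_zpowers_le hCS hyS
    (fun a ha => by rw [cj_apply, ← h.C_central ha hyS, mul_inv_cancel_right]; exact ha)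
    (by rw [h.yp]; exact one_mem _))
  calc Nat.card S = p * (p * Nat.card ↥(E₁ ⊓ E₂)) := by rw [h.m₂.card_eq, h.ca.card_Q]
    _ ≤ p * (p * (p * Nat.card h.ca.C)) := Nat.mul_le_mul_left p (Nat.mul_le_mul_left p h1)
    _ = p ^ 3 * Nat.card h.ca.C := by ring

/-- When `c₀ ≠ 1`, the configuration of `Sp₄(p)`. -/
theorem concl_of_ne (h : CS F p E₁ E₂ v α j y y') {𝔈 : Set (Subgroup Ω)} (h₁ : E₁ ∈ 𝔈)
    (h₂ : E₂ ∈ 𝔈) (hexp : ∀ c ∈ h.ca.C, c ^ p = 1) (hc₀ : h.c₀ ≠ 1) : Concl S p 𝔈 := by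
  have hS := h.ca.hS
  haveI := h.m₂.finite
  haveI := h.m₁.finite
  have hC : h.ca.C = Subgroup.zpowers h.c₀ := le_antisymm
    (fun x hx => h.om1 h.c₀_mem h.c₀_pow hc₀ hx (hexp x hx)) (Subgroup.zpowers_le.mpr h.c₀_mem)
  have hCcard : Nat.card h.ca.C = p := by
    rw [hC, Nat.card_zpowers, orderOf_eq_prime h.c₀_pow hc₀]
  have hS4 : Nat.card S = p ^ 4 := by rw [h.card_S_eq, hCcard]; ring
  have hE2 : Nat.card E₂ = p ^ 3 :=
    Nat.eq_of_mul_eq_mul_left (Fact.out : p.Prime).pos (by rw [← h.m₂.card_eq, hS4]; ring)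
  have hE1 : Nat.card E₁ = p ^ 3 :=
    Nat.eq_of_mul_eq_mul_left (Fact.out : p.Prime).pos (by rw [← h.m₁.card_eq, hS4]; ring)
  have hyS : y ∈ S := h.m₂.le h.hy.2
  have hy'S : y' ∈ S := h.m₂.le h.hy'E
  have hE1dec : ∀ e ∈ E₁, ∃ c ∈ h.ca.C, ∃ k n : ℤ, e = c * y ^ k * v ^ n := by
    intro e he
    obtain ⟨e', he', n, rfl⟩ := h.m₂.exists_eq_mul h.ca.hvS h.ca.hv₂ (h.m₁.le he)
    have he1 : e' ∈ E₁ := by
      have := E₁.mul_mem he (E₁.inv_mem (E₁.zpow_mem h.ca.hv.1 n))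
      rwa [mul_inv_cancel_right] at this
    obtain ⟨c, hc, k, rfl⟩ := h.decomp.1 e' ⟨he1, he'⟩
    exact ⟨c, hc, k, n, rfl⟩
  have hT1 : ∀ a ∈ ({h.c₀, y, v} : Set Ω), ∀ b ∈ ({h.c₀, y, v} : Set Ω), a * b = b * a := by
    have e1 := h.C_central h.c₀_mem hyS
    have e2 := h.C_central h.c₀_mem h.ca.hvS
    have e3 : v * y = y * v := h.v_comm h.hy
    rintro a (rfl | rfl | rfl) b (rfl | rfl | rfl)
    exacts [rfl, e1, e2, e1.symm, rfl, e3.symm, e2.symm, e3, rfl]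
  have hle1 : E₁ ≤ Subgroup.closure ({h.c₀, y, v} : Set Ω) := by
    intro e he
    obtain ⟨c, hc, k, n, rfl⟩ := hE1dec e he
    rw [hC] at hc
    exact mul_mem (mul_mem (Subgroup.zpowers_le.mpr (Subgroup.subset_closure
      (show h.c₀ ∈ ({h.c₀, y, v} : Set Ω) from Or.inl rfl)) hc)
      (zpow_mem (Subgroup.subset_closure (show y ∈ ({h.c₀, y, v} : Set Ω) from Or.inr (Or.inl rfl))) k))
      (zpow_mem (Subgroup.subset_closure
        (show v ∈ ({h.c₀, y, v} : Set Ω) from Or.inr (Or.inr rfl))) n)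
  have hE1c : ∀ a ∈ E₁, ∀ b ∈ E₁, a * b = b * a := fun a ha b hb =>
    commute_closure hT1 a (hle1 ha) b (hle1 hb)
  have hE1p : ∀ a ∈ E₁, a ^ p = 1 := fun a ha => elem_closure hT1 (by
    rintro x (rfl | rfl | rfl)
    exacts [h.c₀_pow, h.yp, h.ca.hv.2.1]) a (hle1 ha)
  have hconj : ∀ k : ℤ, cj y' (y ^ k) = h.c₀⁻¹ ^ k * y ^ k := by
    intro k
    have e1 : cj y' y = h.c₀⁻¹ * y := by simp only [c₀, cj_apply]; group
    rw [cj_apply, ← conj_zpow, ← cj_apply, e1,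
      (show Commute h.c₀⁻¹ y from (show Commute h.c₀ y from h.C_central h.c₀_mem hyS).inv_left).mul_zpow]
  have hc₀z : ∀ k : ℤ, h.c₀⁻¹ ^ k = 1 → (p : ℤ) ∣ k := fun k hk => by
    rw [inv_zpow, inv_eq_one, ← orderOf_dvd_iff_zpow_eq_one, orderOf_eq_prime h.c₀_pow hc₀] at hk
    exact hk
  have hcen2 : ∀ e ∈ E₂, (∀ x ∈ E₂, e * x = x * e) → e ∈ h.ca.C := by
    intro e he hce
    obtain ⟨c, hc, k, l, rfl⟩ := h.decomp.2 e he
    have hk : (p : ℤ) ∣ k := by
      refine hc₀z k ?_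
      have hy'l : Commute y' (y' ^ l) := (Commute.refl y').zpow_right l
      have e1 : cj y' (c * y ^ k * y' ^ l) = c * y ^ k * y' ^ l := by
        rw [cj_apply, ← hce y' h.hy'E, mul_inv_cancel_right]
      have e2 : cj y' (c * y ^ k * y' ^ l) = cj y' c * cj y' (y ^ k) * cj y' (y' ^ l) := by
        simp only [cj_apply]; group
      rw [e2, hconj, cj_apply y' c, ← h.C_central hc hy'S, mul_inv_cancel_right,
        cj_apply y' (y' ^ l), hy'l.eq, mul_inv_cancel_right] at e1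
      exact mul_eq_right.mp (mul_left_cancel (mul_right_cancel e1))
    have hl : (p : ℤ) ∣ l := by
      have e0 : cj y y' = h.c₀ * y' := by simp only [c₀, cj_apply, inv_mul_cancel_right]
      have e3 : cj y (y' ^ l) = h.c₀ ^ l * y' ^ l := by
        rw [cj_apply, ← conj_zpow, ← cj_apply, e0,
          (show Commute h.c₀ y' from h.C_central h.c₀_mem hy'S).mul_zpow]
      have e1 : cj y (c * y ^ k * y' ^ l) = c * y ^ k * y' ^ l := by
        rw [cj_apply, ← hce y h.hy.2, mul_inv_cancel_right]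
      have e2 : cj y (c * y ^ k * y' ^ l) = cj y (c * y ^ k) * cj y (y' ^ l) := by
        simp only [cj_apply]; group
      have hyck : Commute y (c * y ^ k) :=
        (show Commute y c from (h.C_central hc hyS).symm).mul_right
          ((Commute.refl y).zpow_right k)
      rw [e2, e3, cj_apply, hyck.eq, mul_inv_cancel_right] at e1
      refine hc₀z l ?_
      rw [inv_zpow, mul_eq_right.mp (mul_left_cancel e1), inv_one]
    obtain ⟨k', rfl⟩ := hk
    obtain ⟨l', rfl⟩ := hl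
    rw [zpow_mul, zpow_mul, zpow_natCast, zpow_natCast, h.yp, h.y'p, one_zpow, one_zpow, mul_one,
      mul_one]
    exact hc
  have hE2p : ∀ e ∈ E₂, e ^ p = 1 := by
    intro e he
    obtain ⟨c, hc, k, l, rfl⟩ := h.decomp.2 e he
    have hyk : (y ^ k) ^ p = 1 := by
      rw [← zpow_natCast, ← zpow_mul, mul_comm, zpow_mul, zpow_natCast, h.yp, one_zpow]
    have hy'l : (y' ^ l) ^ p = 1 := by
      rw [← zpow_natCast, ← zpow_mul, mul_comm, zpow_mul, zpow_natCast, h.y'p, one_zpow]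
    have hmem : ⁅y' ^ l, y ^ k⁆ ∈ h.ca.C := by
      rw [commutatorElement_def]
      exact h.ca.comm_mem_C (E₂.zpow_mem h.hy'E l) (E₂.zpow_mem h.hy.2 k)
    have h1 : (y ^ k * y' ^ l) ^ p = 1 := class_two_pow h.ca.hp
      (h.C_central hmem (S.zpow_mem hyS k)) (h.C_central hmem (S.zpow_mem hy'S l)) hy'l hyk
    rw [mul_assoc, (show Commute c (y ^ k * y' ^ l) from
      h.C_central hc (S.mul_mem (S.zpow_mem hyS k) (S.zpow_mem hy'S l))).mul_pow, h1, hexp c hc,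
      one_mul]
  have hcenter : Subgroup.center E₂ = h.ca.C.subgroupOf E₂ := by
    ext e
    rw [Subgroup.mem_center_iff, Subgroup.mem_subgroupOf]
    constructor
    · intro hce
      exact hcen2 e e.2 fun x hx => (congrArg Subtype.val (hce ⟨x, hx⟩)).symm
    · intro hce g
      exact Subtype.ext (h.C_central hce (h.m₂.le g.2)).symm
  have hE2pg : IsPGroup p E₂ := hS.to_le h.m₂.le
  haveI := h.ca.C_normal'
  have hcommle : commutator E₂ ≤ h.ca.C.subgroupOf E₂ := by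
    rw [commutator_def, Subgroup.commutator_le]
    intro a _ b _
    rw [Subgroup.mem_subgroupOf]
    simpa [commutatorElement_def] using h.ca.comm_mem_C a.2 b.2
  have hCle : h.ca.C.subgroupOf E₂ ≤ commutator E₂ := by
    intro x hx
    rw [Subgroup.mem_subgroupOf, hC] at hx
    obtain ⟨n, hn⟩ := hx
    have e : x = ⁅(⟨y, h.hy.2⟩ : E₂), ⟨y', h.hy'E⟩⁆ ^ n := Subtype.ext (by
      rw [← hn]; simp [c₀, commutatorElement_def])
    rw [e]
    exact Subgroup.zpow_mem _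
      (Subgroup.commutator_mem_commutator (Subgroup.mem_top _) (Subgroup.mem_top _)) n
  refine ⟨?_, E₁, h₁, E₂, h₂, ⟨⟨hE2pg, ?_, ?_⟩, ?_⟩, hE2, hE2p,
    ⟨⟨⟨fun a b => Subtype.ext (hE1c a a.2 b b.2)⟩⟩, hE1p⟩, hE1⟩
  · obtain ⟨c', hc', i, hip, hti, -, -⟩ := h.t_eq
    have hnorm : (E₁.subgroupOf S).Normal := ⟨fun a ha g => by
      rw [Subgroup.mem_subgroupOf] at ha ⊢
      exact h.m₁.normal g g.2 a ha⟩
    refine Cfsg.Agent.Rank3Sp4Iso34.sp4_sylow_of_jordan h.ca.hp hS4 (E₁.subgroupOf S) ⟨y', hy'S⟩ ?_ hnorm ?_ ?_ ?_ ?_ ?_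
    · rw [Nat.card_congr (Subgroup.subgroupOfEquivOfLe h.m₁.le).toEquiv, hE1]
    · exact fun a ha b hb => Subtype.ext (hE1c a ha b hb)
    · exact fun a ha => Subtype.ext (hE1p a ha)
    · exact fun hmem => h.hy'2 ⟨hmem, h.hy'E⟩
    · exact Subtype.ext h.y'p
    · refine ⟨⟨v, h.ca.hvS⟩, h.ca.hv.1, fun e => hip (hc₀z i ?_)⟩
      have e1 : y' * (y' * v * y'⁻¹ * v⁻¹) * y'⁻¹ * (y' * v * y'⁻¹ * v⁻¹)⁻¹ = 1 := by
        simpa [commutatorElement_def] using congrArg Subtype.val e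
      have e2 : y' * v * y'⁻¹ * v⁻¹ = (cj y' h.t)⁻¹ := by
        simp only [CS.t, cj_apply]; group
      have e3 : cj y' h.t = c' * (h.c₀⁻¹ ^ i * y ^ i) := by
        have e4 : cj y' h.t = cj y' c' * cj y' (y ^ i) := by rw [hti]; simp only [cj_apply]; group
        rw [e4, hconj, cj_apply y' c', ← h.C_central hc' hy'S, mul_inv_cancel_right]
      rw [e2, e3, inv_inv] at e1
      have hA : c' * h.c₀⁻¹ ^ i ∈ h.ca.C :=
        mul_mem hc' (zpow_mem (inv_mem h.c₀_mem) i)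
      have e5 : y' * (c' * (h.c₀⁻¹ ^ i * y ^ i))⁻¹ * y'⁻¹ =
          (c' * (h.c₀⁻¹ ^ i) * (h.c₀⁻¹ ^ i * y ^ i))⁻¹ := by
        rw [← conj_inv, ← mul_assoc c']
        congr 1
        rw [← cj_apply, show cj y' (c' * h.c₀⁻¹ ^ i * y ^ i) =
          cj y' (c' * h.c₀⁻¹ ^ i) * cj y' (y ^ i) by simp only [cj_apply]; group, hconj,
          cj_apply y' (c' * _), ← h.C_central hA hy'S, mul_inv_cancel_right]
      rw [e5, inv_mul_eq_one, mul_assoc c', mul_right_inj, mul_eq_right] at e1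
      exact e1
  · rw [hcenter]
    refine le_antisymm (PGroupsBasic.frattini_le_of_elementary_quotient (p := p) hcommle fun a => ?_)
      (hCle.trans (PGroupsBasic.commutator_le_frattini hE2pg))
    rw [Subgroup.mem_subgroupOf, Subgroup.coe_pow]
    exact h.ca.pow_mem_C a.2
  · rw [hcenter]
    exact le_antisymm hcommle hCle
  · rw [hcenter, Nat.card_congr (Subgroup.subgroupOfEquivOfLe h.ca.C_le).toEquiv, hCcard]

end CS

end Cfsg.Agent.Rank3
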