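import Cfsg.Agent.Lib.Rank3Found34

/-!
`O^{p'}(Aut_F(E))` acts trivially on invariant sections of order at most `p`.
-/

set_option autoImplicit false
set_option linter.unusedSectionVars false

namespace Cfsg.Agent.Rank3

open Cfsg.FusionSystem Cfsg.Agent.FusionSysBasic Cfsg.Agent.FusionSysSaturated
  Cfsg.Agent.FusionSysNormal Cfsg.Agent.FusionSysAlperin

universe u

variable {Ω : Type u} [Group Ω] {S : Subgroup Ω} {F : FusionSystem S} {p : ℕ}
  [Finite S] [Fact p.Prime] {E : Subgroup Ω}

theorem afun_zpow {P : Subgroup Ω} (α : MulAut P) {x : Ω} (hx : x ∈ P) (n : ℤ) :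
    afun α (x ^ n) = afun α x ^ n := by
  rw [afun_apply α (P.zpow_mem hx n), afun_apply α hx, ← Subgroup.coe_zpow, ← map_zpow]
  congr 2

theorem Max.opp_trivial_step (h : Max F p E) (hS : IsPGroup p S) {A B : Subgroup Ω}
    (hAB : A ≤ B) (hBE : B ≤ E) (hn : ∀ b ∈ B, ∀ a ∈ A, cj b a ∈ A)
    (hA : InvBy (opp F p E) A) (hB : InvBy (opp F p E) B)
    (hcard : Nat.card B ≤ p * Nat.card A) :
    ∀ α ∈ opp F p E, ∀ y ∈ B, y⁻¹ * afun α y ∈ A := by
  haveI := h.finite
  haveI := finite_of_le (hBE.trans h.le)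
  have hBp : IsPGroup p B := hS.to_le (hBE.trans h.le)
  let A' : Subgroup B := A.subgroupOf B
  haveI : A'.Normal := ⟨fun a ha b => by
    have := hn (b : Ω) b.2 (a : Ω) ha
    simpa [A', Subgroup.mem_subgroupOf, cj_apply] using this⟩
  have hA' : Nat.card A' = Nat.card A := Nat.card_congr (Subgroup.subgroupOfEquivOfLe hAB).toEquiv
  have hidx : A'.index = 1 ∨ A'.index = p := by
    obtain ⟨k, hk⟩ := hBp.index A'
    have h1 := Subgroup.card_mul_index A'
    rw [hA'] at h1
    have hA0 : 0 < Nat.card A := hA' ▸ Nat.card_pos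
    have hle : A'.index ≤ p := Nat.le_of_mul_le_mul_left (by rw [h1, mul_comm]; exact hcard) hA0
    rcases k with _ | _ | k
    · exact Or.inl (by rw [hk, pow_zero])
    · exact Or.inr (by rw [hk, zero_add, pow_one])
    · exfalso
      have h2 : p ^ 2 ≤ A'.index := hk ▸ Nat.pow_le_pow_right (Fact.out : p.Prime).pos (by omega)
      have h3 := (Fact.out : p.Prime).two_le
      nlinarith
  intro α hα
  rcases hidx with h1 | hp'
  · intro y hy
    have hmem : (⟨y⁻¹ * afun α y, B.mul_mem (B.inv_mem hy) (hB α hα y hy)⟩ : B) ∈ A' := by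
      rw [Subgroup.index_eq_one.mp h1]; trivial
    exact hmem
  · have hq : Nat.card (B ⧸ A') = p := hp'
    induction hα using Subgroup.closure_induction with
    | mem β hβ =>
      obtain ⟨hβF, k, hk⟩ := hβ
      have hβo : β ∈ opp F p E := Subgroup.subset_closure ⟨hβF, k, hk⟩
      intro y hy
      by_cases hyA : y ∈ A
      · exact A.mul_mem (A.inv_mem hyA) (hA β hβo y hyA)
      have hy1 : (QuotientGroup.mk' A' ⟨y, hy⟩) ≠ 1 := fun e => hyA (Subgroup.mem_subgroupOf.mp ((QuotientGroup.eq_one_iff (N := A') (⟨y, hy⟩ : B)).mp e))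
      obtain ⟨r, hr⟩ := Subgroup.mem_zpowers_iff.mp (mem_zpowers_of_prime_card hq hy1
        (g' := (QuotientGroup.mk' A' ⟨afun β y, hB β hβo y hy⟩)))
      have hr' : y ^ (-r) * afun β y ∈ A := by
        rw [← map_zpow, QuotientGroup.mk'_apply, QuotientGroup.mk'_apply, QuotientGroup.eq] at hr
        simpa [A', Subgroup.mem_subgroupOf, zpow_neg] using hr
      have hpow : ∀ n : ℕ, y ^ (-(r ^ n)) * afun (β ^ n) y ∈ A := by
        intro n
        induction n with
        | zero => simp [afun_one (hBE hy)]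
        | succ n ih =>
          have hyn : y ^ (-(r ^ n)) ∈ B := B.zpow_mem hy _
          have e1 : afun β (y ^ (-(r ^ n)) * afun (β ^ n) y) ∈ A := hA β hβo _ ih
          rw [afun_map_mul β (hBE hyn) (afun_mem _ (hBE hy)), afun_zpow β (hBE hy),
            ← afun_mul β (β ^ n) (hBE hy), ← pow_succ'] at e1
          -- `β y = y ^ r * a`, so `(β y) ^ (r ^ n)` is `y ^ (r ^ (n + 1))` modulo `A`
          have hy' : afun β y ∈ B := hB β hβo y hy
          have e2 : y ^ (-(r ^ (n + 1))) * afun β y ^ (r ^ n) ∈ A := by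
            have : (QuotientGroup.mk' A' ⟨y, hy⟩) ^ (r ^ (n + 1)) =
                (QuotientGroup.mk' A' ⟨afun β y, hy'⟩) ^ (r ^ n) := by
              have hr2 : (QuotientGroup.mk' A' ⟨y, hy⟩) ^ r = (QuotientGroup.mk' A' ⟨afun β y, hy'⟩) := by
                rw [← map_zpow, QuotientGroup.mk'_apply, QuotientGroup.mk'_apply, QuotientGroup.eq]
                simpa [A', Subgroup.mem_subgroupOf, zpow_neg] using hr'
              rw [← hr2, ← zpow_mul, pow_succ']
            rw [← map_zpow, ← map_zpow, QuotientGroup.mk'_apply, QuotientGroup.mk'_apply, QuotientGroup.eq] at this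
            simpa [A', Subgroup.mem_subgroupOf, zpow_neg] using this
          have := A.mul_mem e2 e1
          simpa [mul_assoc, zpow_neg] using this
      have hlast := hpow (p ^ k)
      rw [← hk, pow_orderOf_eq_one, afun_one (hBE hy), hk] at hlast
      have hdvd : (p : ℤ) ∣ 1 - r ^ (p ^ k) := by
        have h1 : (QuotientGroup.mk' A' ⟨y, hy⟩) ^ (1 - r ^ (p ^ k)) = 1 := by
          rw [← map_zpow, QuotientGroup.mk'_apply, QuotientGroup.eq_one_iff]
          have : y ^ (1 - r ^ (p ^ k)) ∈ A := by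
            rw [sub_eq_neg_add, zpow_add, zpow_one]; exact hlast
          simpa [A', Subgroup.mem_subgroupOf] using this
        have h2 := orderOf_dvd_iff_zpow_eq_one.mpr h1
        rwa [orderOf_eq_prime (hq ▸ pow_card_eq_one' : (QuotientGroup.mk' A' ⟨y, hy⟩) ^ p = 1) hy1]
          at h2
      have hr1 : (p : ℤ) ∣ r - 1 := by
        rw [← ZMod.intCast_zmod_eq_zero_iff_dvd] at hdvd ⊢
        push_cast at hdvd ⊢
        rw [ZMod.pow_card_pow] at hdvd
        linear_combination -hdvd
      obtain ⟨m, hm⟩ := hr1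
      have hyp : (QuotientGroup.mk' A' ⟨y, hy⟩) ^ r = (QuotientGroup.mk' A' ⟨y, hy⟩) := by
        rw [show r = 1 + (p : ℤ) * m by rw [← hm]; ring, zpow_add, zpow_one, zpow_mul,
          zpow_natCast, (hq ▸ pow_card_eq_one' : (QuotientGroup.mk' A' ⟨y, hy⟩) ^ p = 1), one_zpow,
          mul_one]
      rw [hr, eq_comm, QuotientGroup.mk'_apply, QuotientGroup.mk'_apply, QuotientGroup.eq] at hyp
      simpa [A', Subgroup.mem_subgroupOf] using hyp
    | one => intro y hy; simp [afun_one (hBE hy)]
    | mul a b ha hb iha ihb =>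
      intro y hy
      have hb' : afun b y ∈ B := hB b hb y hy
      have := A.mul_mem (ihb y hy) (iha _ hb')
      rw [afun_mul a b (hBE hy)]
      simpa [mul_assoc] using this
    | inv a ha iha =>
      intro y hy
      have hy' : afun a⁻¹ y ∈ B := hB a⁻¹ (inv_mem ha) y hy
      have := A.inv_mem (iha _ hy')
      rw [afun_apply_inv a (hBE hy)] at this
      simpa using this

end Cfsg.Agent.Rank3
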