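import Cfsg.Agent.Lib.Rank3Found34
import Cfsg.Agent.Lib.Rank3Step34
import Cfsg.Agent.Lib.PGroupsBasic

/-!
Case B of the rank three engine, basic facts about natural planes, and the cubic case.
-/

set_option autoImplicit false
set_option linter.unusedSectionVars false

namespace Cfsg.Agent.Rank3

open Cfsg.FusionSystem Cfsg.Agent.FusionSysBasic Cfsg.Agent.FusionSysSaturated
  Cfsg.Agent.FusionSysNormal Cfsg.Agent.FusionSysAlperin

universe u

variable {Ω : Type u} [Group Ω] {S : Subgroup Ω} {F : FusionSystem S} {p : ℕ}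
  [Finite S] [Fact p.Prime]

theorem dvd_card_p (hS : IsPGroup p S) {K : Subgroup Ω} (hK : K ≤ S) :
    ∃ k, Nat.card K = p ^ k := by
  haveI := finite_of_le hK
  exact IsPGroup.iff_card.mp (hS.to_le hK)

/-- A nontrivial normal subgroup of `S` meets `Ω₁(Z(S))`. -/
theorem exists_central_mem (hS : IsPGroup p S) {K : Subgroup Ω} (hKS : K ≤ S)
    (hn : ∀ g ∈ S, ∀ x ∈ K, cj g x ∈ K) (hne : K ≠ ⊥) :
    ∃ z ∈ K, z ≠ 1 ∧ z ∈ OmZ p S := by
  let K' : Subgroup S := K.subgroupOf S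
  haveI : K'.Normal := ⟨fun a ha g => by
    have := hn (g : Ω) g.2 (a : Ω) ha
    simpa [K', Subgroup.mem_subgroupOf, cj_apply] using this⟩
  have hne' : K' ≠ ⊥ := fun e => hne (by
    rw [Subgroup.eq_bot_iff_forall]
    intro x hx
    have h2 : (⟨x, hKS hx⟩ : S) ∈ K' := hx
    rw [e, Subgroup.mem_bot] at h2
    exact congrArg Subtype.val h2)
  have h := PGroupsBasic.inf_center_ne_bot hS (N := K') hne'
  obtain ⟨z, hz⟩ := Subgroup.ne_bot_iff_exists_ne_one.mp h
  haveI : Nontrivial ↥(K' ⊓ Subgroup.center S) := ⟨⟨z, 1, hz⟩⟩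
  obtain ⟨w, hw⟩ := exists_prime_orderOf_dvd_card' (G := ↥(K' ⊓ Subgroup.center S)) p (by
    obtain ⟨k, hk⟩ := IsPGroup.iff_card.mp (hS.to_subgroup (K' ⊓ Subgroup.center S))
    have h1 : 1 < Nat.card ↥(K' ⊓ Subgroup.center S) := Finite.one_lt_card
    rw [hk]
    refine dvd_pow_self p fun h0 => ?_
    rw [hk, h0] at h1
    simp at h1)
  have hw1 : ((w : S) : Ω) ≠ 1 := fun e => by
    have : w = 1 := Subtype.ext (Subtype.ext e)
    rw [this, orderOf_one] at hw
    exact (Fact.out : p.Prime).one_lt.ne hw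
  have hwp : ((w : S) : Ω) ^ p = 1 := by
    have := pow_orderOf_eq_one w
    rw [hw] at this
    simpa using congrArg (fun t : ↥(K' ⊓ Subgroup.center S) => ((t : S) : Ω)) this
  refine ⟨_, w.2.1, hw1, (w : S).2, hwp, fun y hy => ?_⟩
  exact (congrArg Subtype.val (Subgroup.mem_center_iff.mp w.2.2 ⟨y, hy⟩)).symm

/-- A subgroup of order `p` normalised by `S` is central in `S`. -/
theorem le_omZ_of_card_p (hS : IsPGroup p S) {L : Subgroup Ω} (hLS : L ≤ S)
    (hn : ∀ g ∈ S, ∀ x ∈ L, cj g x ∈ L) (hc : Nat.card L ≤ p) : L ≤ OmZ p S := by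
  rcases eq_or_ne L ⊥ with rfl | hne
  · exact bot_le
  obtain ⟨z, hz, hz1, hzZ⟩ := exists_central_mem hS hLS hn hne
  have hle : Subgroup.zpowers z ≤ L := Subgroup.zpowers_le.mpr hz
  have hzc : Nat.card (Subgroup.zpowers z) = p := by
    rw [Nat.card_zpowers]; exact orderOf_eq_prime hzZ.2.1 hz1
  rw [← eq_of_le_of_card_ge hLS hle (hc.trans hzc.ge)]
  exact Subgroup.zpowers_le.mpr hzZ

variable {E U : Subgroup Ω}

namespace Plane

theorem le_E (hU : Plane F p E U) : U ≤ E := hU.le.trans omZ_le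

theorem commute (hU : Plane F p E U) {u e : Ω} (hu : u ∈ U) (he : e ∈ E) : u * e = e * u :=
  (hU.le hu).2.2 e he

theorem cj_fix (hU : Plane F p E U) {u e : Ω} (hu : u ∈ U) (he : e ∈ E) : cj e u = u := by
  rw [cj_apply, ← hU.commute hu he, mul_inv_cancel_right]

theorem pow_p (hU : Plane F p E U) {u : Ω} (hu : u ∈ U) : u ^ p = 1 := (hU.le hu).2.1

theorem cj_mem (hU : Plane F p E U) (hM : Max F p E) {g u : Ω} (hg : g ∈ S) (hu : u ∈ U) :
    cj g u ∈ U :=
  hM.cj_mem_of_inv hU.le_E hU.inv hg hu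

theorem ne_bot (hU : Plane F p E U) : U ≠ ⊥ := fun e => by
  have := hU.card
  rw [e, Subgroup.card_bot] at this
  exact absurd this.symm (Nat.one_lt_pow (by norm_num) (Fact.out : p.Prime).one_lt).ne'

theorem mem_zu (hU : Plane F p E U) (hM : Max F p E) {x u : Ω} (hx : x ∈ S) (hxE : x ∉ E)
    (hu : u ∈ U) (hfix : cj x u = u) : u ∈ U ⊓ OmZ p S := by
  refine ⟨hu, hM.le (hU.le_E hu), hU.pow_p hu, fun y hy => ?_⟩
  have hle : S ≤ Subgroup.centralizer ({u} : Set Ω) := by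
    rw [← hM.sup_zpowers hx hxE]
    refine sup_le (fun e he => ?_) (Subgroup.zpowers_le.mpr ?_) <;>
      rw [Subgroup.mem_centralizer_singleton_iff]
    · exact (hU.commute hu he).symm
    · rwa [cj_apply, mul_inv_eq_iff_eq_mul] at hfix
  exact (Subgroup.mem_centralizer_singleton_iff.mp (hle hy)).symm

theorem card_zu (hU : Plane F p E U) (hM : Max F p E) (hS : IsPGroup p S) :
    Nat.card ↥(U ⊓ OmZ p S) = p := by
  have hUS : U ≤ S := hU.le_E.trans hM.le
  haveI := finite_of_le hUS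
  haveI : Finite ↥(U ⊓ OmZ p S) := finite_of_le (inf_le_left.trans hUS)
  obtain ⟨k, hk⟩ := dvd_card_p hS (inf_le_left.trans hUS : U ⊓ OmZ p S ≤ S)
  have hdvd : Nat.card ↥(U ⊓ OmZ p S) ∣ p ^ 2 := hU.card ▸ Subgroup.card_dvd_of_le inf_le_left
  have hk2 : k ≤ 2 := (Nat.pow_dvd_pow_iff_le_right (Fact.out : p.Prime).one_lt).mp (hk ▸ hdvd)
  interval_cases k
  · exfalso
    obtain ⟨z, hz, hz1, hzZ⟩ :=
      exists_central_mem hS hUS (fun g hg x hx => hU.cj_mem hM hg hx) hU.ne_bot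
    have hb : U ⊓ OmZ p S = ⊥ := Subgroup.card_eq_one.mp (by simpa using hk)
    exact hz1 (by simpa [hb] using (show z ∈ U ⊓ OmZ p S from ⟨hz, hzZ⟩))
  · simpa using hk
  · exfalso
    have heq : U ⊓ OmZ p S = U := eq_of_le_of_card_ge hUS inf_le_left (by rw [hk, hU.card])
    obtain ⟨x, hx, hxE⟩ := SetLike.exists_of_lt (essential_lt_aux hM)
    obtain ⟨u, hu, hne⟩ := hU.moved x hx hxE
    rw [← heq] at hu
    exact hne (by rw [cj_apply, ← hu.2.2.2 x hx, mul_inv_cancel_right])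
where
  essential_lt_aux (hM : Max F p E) : E < S := by
    refine lt_of_le_of_ne hM.le fun e => ?_
    have h := hM.card_eq
    haveI := hM.finite
    rw [← e] at h
    exact absurd h (by
      have h0 : 0 < Nat.card E := Nat.card_pos
      have := (Fact.out : p.Prime).one_lt
      nlinarith)

theorem comm_mem_zu (hU : Plane F p E U) (hM : Max F p E) (hS : IsPGroup p S) {g u : Ω}
    (hg : g ∈ S) (hu : u ∈ U) : cj g u * u⁻¹ ∈ U ⊓ OmZ p S := by
  have hUS : U ≤ S := hU.le_E.trans hM.le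
  by_cases hgE : g ∈ E
  · rw [hU.cj_fix hu hgE, mul_inv_cancel]; exact one_mem _
  haveI := finite_of_le hUS
  let δ : U →* U :=
    { toFun := fun v => ⟨cj g v * (v : Ω)⁻¹,
        U.mul_mem (hU.cj_mem hM hg v.2) (U.inv_mem v.2)⟩
      map_one' := Subtype.ext (by simp [cj_apply])
      map_mul' := fun a b => Subtype.ext (by
        have h1 : cj g (a * b : Ω) = cj g a * cj g b := by simp only [cj_apply]; group
        show cj g (a * b : Ω) * ((a : Ω) * b)⁻¹ = cj g a * (a : Ω)⁻¹ * (cj g b * (b : Ω)⁻¹)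
        have hc := hU.commute (U.inv_mem a.2) (hU.le_E (U.mul_mem (hU.cj_mem hM hg b.2) (U.inv_mem b.2)))
        rw [h1, mul_inv_rev, mul_assoc (cj g a) ((a : Ω)⁻¹), hc]
        group) }
  have hker : Nat.card δ.ker = Nat.card ↥(U ⊓ OmZ p S) := Nat.card_congr
    { toFun := fun v => ⟨((v : U) : Ω), hU.mem_zu hM hg hgE (v : U).2 (mul_inv_eq_one.mp
        (congrArg Subtype.val (MonoidHom.mem_ker.mp v.2)))⟩
      invFun := fun v => ⟨⟨v, v.2.1⟩, MonoidHom.mem_ker.mpr (Subtype.ext (by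
        show cj g (v : Ω) * (v : Ω)⁻¹ = 1
        rw [cj_apply, ← v.2.2.2.2 g hg, mul_inv_cancel_right, mul_inv_cancel]))⟩
      left_inv := fun v => rfl
      right_inv := fun v => rfl }
  have hcard : Nat.card δ.range ≤ p := by
    have h1 := δ.ker.card_eq_card_quotient_mul_card_subgroup
    rw [Nat.card_congr (QuotientGroup.quotientKerEquivRange δ).toEquiv, hker, hU.card_zu hM hS,
      hU.card, sq] at h1
    exact (Nat.eq_of_mul_eq_mul_right (Fact.out : p.Prime).pos h1).ge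
  have hL : (δ.range.map U.subtype) ≤ OmZ p S := by
    refine le_omZ_of_card_p hS ((Subgroup.map_subtype_le _).trans hUS) ?_
      (by rwa [Subgroup.card_map_of_injective U.subtype_injective])
    rintro y hy _ ⟨_, ⟨v, rfl⟩, rfl⟩
    obtain ⟨e, he, k, rfl⟩ := hM.exists_eq_mul hg hgE hy
    refine ⟨_, ⟨⟨cj (g ^ k) v, hU.cj_mem hM (S.zpow_mem hg k) v.2⟩, rfl⟩, ?_⟩
    show cj g (cj (g ^ k) (v : Ω)) * (cj (g ^ k) (v : Ω))⁻¹ = cj (e * g ^ k) (cj g v * (v : Ω)⁻¹)
    rw [← cj_cj e, hU.cj_fix (u := cj (g ^ k) (cj g (v : Ω) * (v : Ω)⁻¹))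
      (hU.cj_mem hM (S.zpow_mem hg k) (U.mul_mem (hU.cj_mem hM hg v.2) (U.inv_mem v.2))) he]
    simp only [cj_apply]; group
  exact ⟨U.mul_mem (hU.cj_mem hM hg hu) (U.inv_mem hu), hL ⟨_, ⟨⟨u, hu⟩, rfl⟩, rfl⟩⟩

end Plane

end Cfsg.Agent.Rank3
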