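import Cfsg.Agent.Lib.Rank3CaseB34OneData
import Cfsg.Agent.Lib.Rank3Step34

/-!
Case B1 of the rank three engine is impossible.
-/

set_option autoImplicit false
set_option linter.unusedSectionVars false

namespace Cfsg.Agent.Rank3

open scoped commutatorElement Pointwise
open Cfsg.FusionSystem Cfsg.Agent.FusionSysBasic Cfsg.Agent.FusionSysSaturated
  Cfsg.Agent.FusionSysNormal Cfsg.Agent.FusionSysAlperin

universe u

variable {Ω : Type u} [Group Ω] {S : Subgroup Ω} {F : FusionSystem S} {p : ℕ}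
  [Finite S] [Fact p.Prime]

theorem card_sup_zpowers_le {A : Subgroup Ω} {e : Ω} (hAS : A ≤ S) (heS : e ∈ S)
    (hn : ∀ a ∈ A, cj e a ∈ A) (hp : e ^ p ∈ A) :
    Nat.card ↥(A ⊔ Subgroup.zpowers e) ≤ p * Nat.card A := by
  haveI := finite_of_le hAS
  have hnorm : Subgroup.zpowers e ≤ Subgroup.normalizer (A : Set Ω) :=
    Subgroup.zpowers_le.mpr (mem_normalizer_of_cj_le hAS hn)
  have hp0 : (0 : ℤ) < p := by exact_mod_cast (Fact.out : p.Prime).pos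
  let f : A × Fin p → ↥(A ⊔ Subgroup.zpowers e) := fun a => ⟨(a.1 : Ω) * e ^ (a.2 : ℕ),
    mul_mem (Subgroup.mem_sup_left a.1.2)
      (Subgroup.mem_sup_right (Subgroup.npow_mem_zpowers e _))⟩
  have hf : Function.Surjective f := by
    rintro ⟨y, hy⟩
    rw [← SetLike.mem_coe, Subgroup.coe_mul_of_right_le_normalizer_left _ _ hnorm] at hy
    obtain ⟨a, ha, b, ⟨n, rfl⟩, rfl⟩ := Set.mem_mul.mp hy
    obtain ⟨r, hr⟩ := Int.eq_ofNat_of_zero_le (Int.emod_nonneg n hp0.ne')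
    have hrlt : r < p := by
      have h' := Int.emod_lt_of_pos n hp0
      rw [hr] at h'
      exact_mod_cast h'
    refine ⟨(⟨a * (e ^ p) ^ (n / (p : ℤ)), A.mul_mem ha (A.zpow_mem hp _)⟩, ⟨r, hrlt⟩),
      Subtype.ext ?_⟩
    show a * (e ^ p) ^ (n / (p : ℤ)) * e ^ r = a * e ^ n
    rw [mul_assoc, ← zpow_natCast e p, ← zpow_mul, ← zpow_natCast e r, ← hr, ← zpow_add,
      Int.mul_ediv_add_emod]
  have := Nat.card_le_card_of_surjective f hf
  rwa [Nat.card_prod, Nat.card_fin, mul_comm] at this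

theorem zpow_chain_inv {E A : Subgroup Ω} (hA : A ≤ E) {d : Ω} (hd : d ∈ E)
    (hc : ∀ a ∈ A, a * d = d * a) {α : MulAut E} (hαA : ∀ a ∈ A, afun α a ∈ A)
    (hαd : afun α d ∈ A ⊔ Subgroup.zpowers d) (n : ℕ) :
    ∀ y ∈ A ⊔ Subgroup.zpowers (d ^ n), afun α y ∈ A ⊔ Subgroup.zpowers (d ^ n) := by
  have hle : A ⊔ Subgroup.zpowers d ≤ E := sup_le hA (Subgroup.zpowers_le.mpr hd)
  have hAd : Subgroup.zpowers d ≤ Subgroup.normalizer (A : Set Ω) := by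
    refine Subgroup.zpowers_le.mpr (Subgroup.mem_normalizer_iff.mpr fun a => ⟨fun ha => ?_, fun ha => ?_⟩)
    · rw [← hc a ha, mul_inv_cancel_right]; exact ha
    · have e := hc _ ha
      have e' : d * a * d⁻¹ = a := by
        apply mul_left_cancel (a := d)
        rw [← e, inv_mul_cancel_right]
      exact e' ▸ ha
  obtain ⟨a₀, ha₀, b₀, ⟨r, rfl⟩, e₀⟩ := Set.mem_mul.mp
    (show afun α d ∈ (A : Set Ω) * (Subgroup.zpowers d : Set Ω) by
      rw [← Subgroup.coe_mul_of_right_le_normalizer_left _ _ hAd]; exact hαd)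
  have hcm : Commute a₀ (d ^ r) := (show Commute a₀ d from hc a₀ ha₀).zpow_right r
  have hdn : afun α (d ^ n) ∈ A ⊔ Subgroup.zpowers (d ^ n) := by
    rw [afun_npow α hd, ← e₀]
    show (a₀ * d ^ r) ^ n ∈ _
    rw [hcm.mul_pow, ← zpow_natCast (d ^ r) n, ← zpow_mul, mul_comm r, zpow_mul, zpow_natCast]
    exact mul_mem (Subgroup.mem_sup_left (A.pow_mem ha₀ n))
      (Subgroup.mem_sup_right (Subgroup.zpow_mem_zpowers _ _))
  intro y hy
  rw [Subgroup.sup_eq_closure] at hy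
  have hin : ∀ z ∈ (A : Set Ω) ∪ (Subgroup.zpowers (d ^ n) : Set Ω), z ∈ E := by
    rintro z (hz | ⟨m, rfl⟩)
    · exact hA hz
    · exact E.zpow_mem (E.pow_mem hd n) m
  induction hy using Subgroup.closure_induction with
  | mem z hz =>
    rcases hz with hz | ⟨m, rfl⟩
    · exact Subgroup.mem_sup_left (hαA z hz)
    · show afun α ((d ^ n) ^ m) ∈ _
      rw [afun_zpow α (E.pow_mem hd n)]
      exact Subgroup.zpow_mem _ hdn m
  | one =>
    rw [afun_apply α E.one_mem, show (⟨1, E.one_mem⟩ : E) = 1 from rfl, map_one]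
    exact one_mem _
  | mul a b ha hb iha ihb =>
    rw [afun_map_mul α ((Subgroup.closure_le _).mpr hin ha) ((Subgroup.closure_le _).mpr hin hb)]
    exact mul_mem iha ihb
  | inv a ha iha =>
    rw [afun_map_inv' α ((Subgroup.closure_le _).mpr hin ha)]
    exact inv_mem iha

namespace B1

variable {𝔈 : Set (Subgroup Ω)} {E₁ U E₂ : Subgroup Ω} {x u₀ z₀ : Ω}

theorem card_eq (h : B1 F p 𝔈 E₁ U E₂ x u₀ z₀) : Nat.card E₁ = Nat.card E₂ :=
  Nat.eq_of_mul_eq_mul_left (Fact.out : p.Prime).pos (h.m₁.card_eq.symm.trans h.m₂.card_eq)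

theorem exists_s (h : B1 F p 𝔈 E₁ U E₂ x u₀ z₀) : ∃ s ∈ E₁, s ∉ E₂ := by
  by_contra hcon
  push Not at hcon
  have heq : E₁ = E₂ := eq_of_le_of_card_ge h.m₂.le (fun y hy => hcon y hy) h.card_eq.ge
  exact h.hx₁ (heq ▸ h.hx₂)

theorem cj_u (h : B1 F p 𝔈 E₁ U E₂ x u₀ z₀) {s : Ω} (hs : s ∈ E₁) : cj s u₀ = u₀ :=
  h.plane.cj_fix h.hu hs

theorem c_mem (h : B1 F p 𝔈 E₁ U E₂ x u₀ z₀) {s : Ω} (hs : s ∈ E₁) :
    cj s x * x⁻¹ ∈ E₁ ⊓ E₂ := by
  refine ⟨?_, E₂.mul_mem (h.m₂.normal s (h.m₁.le hs) x h.hx₂) (E₂.inv_mem h.hx₂)⟩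
  have e : cj s x * x⁻¹ = s * cj x s⁻¹ := by simp only [cj_apply]; group
  rw [e]
  exact E₁.mul_mem hs (h.m₁.normal x h.hxS _ (E₁.inv_mem hs))

/-- The conjugation by `s ∈ E₁ \ E₂` does not centralise `E₂ / D`. -/
theorem c_not_D (h : B1 F p 𝔈 E₁ U E₂ x u₀ z₀) {s : Ω} (hs : s ∈ E₁) (hs₂ : s ∉ E₂) :
    cj s x * x⁻¹ ∉ h.D := by
  intro hcD
  have hS := h.ctx.hS
  have hsS : s ∈ S := h.m₁.le hs
  obtain ⟨d₀, hd₀, hgen⟩ := h.exists_gen
  have hd₀₂ : d₀ ∈ E₂ := (h.mem_D.mp hd₀).1.2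
  have hd₀S : d₀ ∈ S := h.m₂.le hd₀₂
  obtain ⟨M, hM⟩ := hS ⟨d₀, hd₀S⟩
  have hM' : d₀ ^ p ^ M = 1 := congrArg Subtype.val hM
  let A := U ⊓ OmZ p S
  have hA₂ : A ≤ E₂ := fun y hy => h.le₂ hy.1
  have hDE : h.D ≤ E₂ := fun d hd => (h.mem_D.mp hd).1.2
  have hAc : ∀ a ∈ A, ∀ y ∈ S, a * y = y * a := fun a ha => ha.2.2.2
  let L : ℕ → Subgroup Ω := fun n => A ⊔ Subgroup.zpowers (d₀ ^ p ^ n)
  have hLle : ∀ n, L n ≤ h.D := fun n => sup_le h.zu_le_D
    (Subgroup.zpowers_le.mpr (h.D.pow_mem hd₀ _))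
  have hLinv : ∀ n, InvBy (F.autGroup E₂) (L n) := fun n α hα =>
    zpow_chain_inv hA₂ hd₀₂ (fun a ha => hAc a ha d₀ hd₀S)
      (h.inv_zu α hα) (hgen ▸ h.inv_D α hα d₀ hd₀) (p ^ n)
  let Y : ℕ → Subgroup Ω := fun i =>
    if i = 0 then ⊥ else if i ≤ M + 1 then L (M + 1 - i) else E₂
  have hYE : ∀ i ≤ M + 2, Y i ≤ E₂ := fun i _ => by
    simp only [Y]; split_ifs
    exacts [bot_le, (hLle _).trans hDE, le_rfl]
  have hYinv : ∀ α ∈ F.autGroup E₂, ∀ i ≤ M + 2, ∀ y ∈ Y i, afun α y ∈ Y i := by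
    intro α hα i _ y hy
    simp only [Y] at hy ⊢
    split_ifs at hy ⊢
    · rw [Subgroup.mem_bot] at hy ⊢
      rw [hy, afun_apply α E₂.one_mem]
      exact congrArg Subtype.val (map_one α)
    · exact hLinv _ α hα y hy
    · exact afun_mem α hy
  have hLmono : ∀ n, L (n + 1) ≤ L n := fun n => by
    refine sup_le_sup_left (Subgroup.zpowers_le.mpr ?_) A
    rw [pow_succ, pow_mul]
    exact Subgroup.npow_mem_zpowers _ p
  have hmono : ∀ i < M + 2, Y i ≤ Y (i + 1) := by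
    intro i hi
    simp only [Y, Nat.add_eq_zero_iff, one_ne_zero, and_false, if_false]
    by_cases h0 : i = 0
    · simp [h0]
    by_cases h1 : i + 1 ≤ M + 1
    · rw [if_neg h0, if_pos (by omega : i ≤ M + 1), if_pos h1,
        show M + 1 - i = M + 1 - (i + 1) + 1 by omega]
      exact hLmono _
    · rw [if_neg h0, if_pos (by omega : i ≤ M + 1), if_neg h1]
      exact (hLle _).trans hDE
  have hL0 : L 0 = h.D := by simp only [L, pow_zero, pow_one, hgen]; rfl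
  let a := h.m₂.conjAut hsS
  have htop : ∀ e ∈ E₂, e⁻¹ * afun a e ∈ h.D := by
    intro e he
    rw [h.m₂.afun_conjAut hsS he]
    rw [← h.closure_eq] at he
    induction he using Subgroup.closure_induction with
    | mem g hg =>
      rcases hg with hg | rfl | rfl
      · exact h.D.mul_mem (h.D.inv_mem hg) (h.D_normal hsS hg)
      · rw [h.cj_u hs, inv_mul_cancel]; exact one_mem _
      · have e1 : g⁻¹ * cj s g = g⁻¹ * ((cj s g * g⁻¹) * g) := by rw [inv_mul_cancel_right]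
        rw [e1, h.D_central hcD h.hx₂, inv_mul_cancel_left]
        exact hcD
    | one => simp [cj_one, cj_apply]
    | mul g g' hg hg' ih ih' =>
      have hg'2 : g' ∈ E₂ := h.closure_eq.le hg'
      have e1 : (g * g')⁻¹ * cj s (g * g') =
          cj g'⁻¹ (g⁻¹ * cj s g) * (g'⁻¹ * cj s g') := by simp only [cj_apply]; group
      rw [e1]
      exact h.D.mul_mem (h.D_normal (S.inv_mem (h.m₂.le hg'2)) ih) ih'
    | inv g hg ih =>
      have hg2 : g ∈ E₂ := h.closure_eq.le hg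
      have e1 : g⁻¹⁻¹ * cj s g⁻¹ = cj g (g⁻¹ * cj s g)⁻¹ := by simp only [cj_apply]; group
      rw [e1]
      exact h.D_normal (h.m₂.le hg2) (h.D.inv_mem ih)
  refine hs₂ (h.m₂.mem_of_conjAut_inn hsS (h.m₂.stabilizer_le_inn hS
    (A := FusionSysChain.stabGroup (F.autGroup E₂) Y (M + 2) hYE hYinv) (fun m hm => hm.1)
    (FusionSysChain.isPGroup_stabGroup hS h.m₂.le (by simp [Y]) (by simp [Y]) hmono)
    (fun α hα m hm => FusionSysChain.stabGroup_normal hα hm) ⟨h.m₂.conjAut_mem hsS, ?_⟩))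
  intro i hi y hy
  simp only [Y, Nat.add_eq_zero_iff, one_ne_zero, and_false, if_false] at hy ⊢
  by_cases h0 : i = 0
  · subst h0
    rw [if_pos (by omega : 0 + 1 ≤ M + 1), show M + 1 - (0 + 1) = M by omega] at hy
    have hy' : y ∈ A := by
      simp only [L, hM', Subgroup.zpowers_one_eq_bot, sup_bot_eq] at hy
      exact hy
    rw [if_pos rfl, Subgroup.mem_bot, h.m₂.afun_conjAut hsS (hA₂ hy'), cj_apply,
      ← hAc y hy' s hsS, mul_inv_cancel_right, inv_mul_cancel]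
  rw [if_neg h0, if_pos (by omega : i ≤ M + 1)]
  by_cases h1 : i + 1 ≤ M + 1
  · rw [if_pos h1] at hy
    have e : M + 1 - i = M + 1 - (i + 1) + 1 := by omega
    rw [e]
    refine h.m₂.opp_trivial_step hS (hLmono _) ((hLle _).trans hDE) ?_
      ((hLinv _).mono (opp_le F p E₂)) ((hLinv _).mono (opp_le F p E₂)) ?_ _
      (h.m₂.conjAut_mem_opp hS hsS) y hy
    · intro b hb a ha
      rw [cj_apply, h.D_comm (hLle _ hb) (hLle _ ha), mul_inv_cancel_right]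
      exact ha
    · have hd : d₀ ^ p ^ (M + 1 - (i + 1)) ∈ h.D := h.D.pow_mem hd₀ _
      have hsub : L (M + 1 - (i + 1)) ≤
          L (M + 1 - (i + 1) + 1) ⊔ Subgroup.zpowers (d₀ ^ p ^ (M + 1 - (i + 1))) :=
        sup_le_sup_right le_sup_left _
      haveI : Finite ↥(L (M + 1 - (i + 1) + 1) ⊔ Subgroup.zpowers (d₀ ^ p ^ (M + 1 - (i + 1)))) :=
        finite_of_le (sup_le (((hLle _).trans hDE).trans h.m₂.le)
          (Subgroup.zpowers_le.mpr (h.m₂.le (hDE hd))))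
      refine (Subgroup.card_le_of_le hsub).trans (card_sup_zpowers_le
        (((hLle _).trans hDE).trans h.m₂.le) (h.m₂.le (hDE hd)) (fun a ha => ?_) ?_)
      · rw [cj_apply, h.D_comm hd (hLle _ ha), mul_inv_cancel_right]
        exact ha
      · rw [← pow_mul, ← pow_succ]
        exact Subgroup.mem_sup_right (Subgroup.mem_zpowers _)
  · rw [if_neg h1] at hy
    rw [show M + 1 - i = 0 by omega, hL0]
    exact htop y hy

theorem cj_x_s (s : Ω) (y : Ω) : cj y s = (cj s y * y⁻¹)⁻¹ * s := by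
  simp only [cj_apply]; group

/-- The commutator of `s` and `x` has order `p`. -/
theorem c_pow (h : B1 F p 𝔈 E₁ U E₂ x u₀ z₀) {s d : Ω} {k : ℤ} (hs : s ∈ E₁) (hd : d ∈ h.D)
    (hc : cj s x * x⁻¹ = d * u₀ ^ k) : (d * u₀ ^ k) ^ p = 1 ∧ d ^ p = 1 := by
  set c := d * u₀ ^ k with hcdef
  have hcS : c ∈ S := by rw [← hc]; exact h.m₁.le (h.c_mem hs).1
  have hz : ∀ y ∈ S, Commute (z₀ ^ k) y := fun y hy =>
    (show Commute z₀ y from h.z_comm hy).zpow_left k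
  have hxc : cj x c = z₀ ^ k * c := by
    have e : cj x c = cj x d * cj x (u₀ ^ k) := by rw [hcdef]; simp only [cj_apply]; group
    rw [e, h.cj_u_zpow, cj_apply x d, ← (h.mem_D.mp hd).2, mul_inv_cancel_right, ← mul_assoc,
      ← (hz d (h.m₂.le (h.mem_D.mp hd).1.2)).eq, mul_assoc, hcdef]
  have hn : ∀ n : ℕ, cj (x ^ n) s = ((z₀ ^ k) ^ n.choose 2)⁻¹ * (c ^ n)⁻¹ * s := by
    intro n
    induction n with
    | zero => simp [cj_one]
    | succ n ih =>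
      have e1 : cj (x ^ (n + 1)) s = cj x (cj (x ^ n) s) := by rw [cj_cj, pow_succ']
      have hzx : cj x ((z₀ ^ k) ^ n.choose 2)⁻¹ = ((z₀ ^ k) ^ n.choose 2)⁻¹ := by
        rw [cj_apply, (((hz x h.hxS).pow_left _).inv_left).symm.eq, mul_inv_cancel_right]
      have hmulcj : ∀ a b : Ω, cj x (a * b) = cj x a * cj x b := fun a b => by
        simp only [cj_apply]; group
      have hcn : cj x (c ^ n)⁻¹ = ((z₀ ^ k) ^ n)⁻¹ * (c ^ n)⁻¹ := by
        have h1 : cj x (c ^ n) = (z₀ ^ k) ^ n * c ^ n := by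
          rw [cj_apply, ← conj_pow, ← cj_apply, hxc, (hz c hcS).mul_pow]
        have h2 : cj x (c ^ n)⁻¹ = (cj x (c ^ n))⁻¹ := by simp only [cj_apply]; group
        rw [h2, h1, mul_inv_rev]
        exact (((hz c hcS).pow_pow n n).inv_inv).symm.eq
      rw [e1, ih, hmulcj, hmulcj, hzx, hcn, cj_x_s s x, hc, Nat.choose_succ_succ', Nat.choose_one_right,
        pow_add, pow_succ' c n]
      simp only [mul_inv_rev, mul_assoc]
  have hp := hn p
  rw [h.hxp, cj_one] at hp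
  have hzp : (z₀ ^ k) ^ p = 1 := by
    rw [← zpow_natCast (z₀ ^ k) p, ← zpow_mul, mul_comm, zpow_mul, zpow_natCast,
      h.plane.pow_p h.hzZ.1, one_zpow]
  have hdvd : p ∣ p.choose 2 := by
    refine (Fact.out : p.Prime).dvd_choose_self (by norm_num) ?_
    rcases (Fact.out : p.Prime).two_le.lt_or_eq with h2 | h2
    · exact h2
    · exact absurd (h2 ▸ h.ctx.hp : Odd 2) (by decide)
  obtain ⟨m, hm⟩ := hdvd
  rw [hm, pow_mul, hzp, one_pow, inv_one, one_mul, eq_comm, mul_eq_right] at hp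
  have hcp : c ^ p = 1 := inv_eq_one.mp hp
  refine ⟨hcp, ?_⟩
  have hcomm : Commute d (u₀ ^ k) := (show Commute u₀ d from h.comm_u hd).symm.zpow_right k
  rw [hcdef, hcomm.mul_pow, ← zpow_natCast (u₀ ^ k) p, ← zpow_mul, mul_comm k, zpow_mul,
    zpow_natCast, h.plane.pow_p h.hu, one_zpow, mul_one] at hcp
  exact hcp

theorem z_pow_ne (h : B1 F p 𝔈 E₁ U E₂ x u₀ z₀) {s d : Ω} {k : ℤ} (hs : s ∈ E₁) (hs₂ : s ∉ E₂)
    (hd : d ∈ h.D) (hc : cj s x * x⁻¹ = d * u₀ ^ k) : z₀ ^ k ≠ 1 := by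
  intro e
  refine h.c_not_D hs hs₂ ?_
  rw [hc]
  refine h.D.mul_mem hd (h.zu_le_D ?_)
  have hdvd : (orderOf z₀ : ℤ) ∣ k := orderOf_dvd_iff_zpow_eq_one.mpr e
  rw [orderOf_eq_prime (h.plane.pow_p h.hzZ.1) h.hz1] at hdvd
  obtain ⟨m, rfl⟩ := hdvd
  rw [zpow_mul, zpow_natCast, h.plane.pow_p h.hu, one_zpow]
  exact one_mem _

theorem closure_eq₁ (h : B1 F p 𝔈 E₁ U E₂ x u₀ z₀) {s : Ω} (hs : s ∈ E₁) (hs₂ : s ∉ E₂) :
    Subgroup.closure (((E₁ ⊓ E₂ : Subgroup Ω) : Set Ω) ∪ {s}) = E₁ := by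
  refine le_antisymm ((Subgroup.closure_le _).mpr ?_) fun e he => ?_
  · rintro y (hy | rfl)
    exacts [hy.1, hs]
  · obtain ⟨e', he', l, rfl⟩ := h.m₂.exists_eq_mul (h.m₁.le hs) hs₂ (h.m₁.le he)
    have he1 : e' ∈ E₁ := by
      have := E₁.mul_mem he (E₁.inv_mem (E₁.zpow_mem hs l))
      rwa [mul_inv_cancel_right] at this
    exact mul_mem (Subgroup.subset_closure (Or.inl ⟨he1, he'⟩))
      (zpow_mem (Subgroup.subset_closure (show s ∈ ((E₁ ⊓ E₂ : Subgroup Ω) : Set Ω) ∪ {s} from Or.inr rfl)) l)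

theorem inf_normal (h : B1 F p 𝔈 E₁ U E₂ x u₀ z₀) {g y : Ω} (hg : g ∈ S) (hy : y ∈ E₁ ⊓ E₂) :
    cj g y ∈ E₁ ⊓ E₂ :=
  ⟨h.m₁.normal g hg y hy.1, h.m₂.normal g hg y hy.2⟩

theorem card_le_inf (h : B1 F p 𝔈 E₁ U E₂ x u₀ z₀) :
    Nat.card E₁ ≤ p * Nat.card ↥(E₁ ⊓ E₂) := by
  rw [h.card_eq]
  have hle : E₂ ≤ (E₁ ⊓ E₂) ⊔ Subgroup.zpowers x := fun e he => by
    obtain ⟨d, hd, k, l, rfl⟩ := h.exists_decomp₂ he
    exact mul_mem (Subgroup.mem_sup_left (mul_mem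
      (⟨(h.mem_D.mp hd).1.1, (h.mem_D.mp hd).1.2⟩ : d ∈ E₁ ⊓ E₂)
      (⟨E₁.zpow_mem (h.plane.le_E h.hu) k, E₂.zpow_mem (h.le₂ h.hu) k⟩ : u₀ ^ k ∈ E₁ ⊓ E₂)))
      (Subgroup.mem_sup_right (Subgroup.zpow_mem_zpowers x l))
  haveI : Finite ↥((E₁ ⊓ E₂) ⊔ Subgroup.zpowers x) :=
    finite_of_le (sup_le (inf_le_left.trans h.m₁.le) (Subgroup.zpowers_le.mpr h.hxS))
  exact (Subgroup.card_le_of_le hle).trans (card_sup_zpowers_le (inf_le_left.trans h.m₁.le) h.hxS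
    (fun a ha => h.inf_normal h.hxS ha) (by rw [h.hxp]; exact one_mem _))

theorem inf_eq (h : B1 F p 𝔈 E₁ U E₂ x u₀ z₀) : E₁ ⊓ E₂ = U ⊔ h.D := by
  refine le_antisymm (fun e he => ?_) (sup_le (le_inf h.plane.le_E h.le₂)
    fun d hd => (h.mem_D.mp hd).1)
  obtain ⟨d, hd, k, rfl⟩ := h.exists_decomp he
  exact mul_mem (Subgroup.mem_sup_right hd) (Subgroup.mem_sup_left (U.zpow_mem h.hu k))

/-- The part inside `U` of the derived group of `E₁` is trivial. -/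
theorem comm_eq_one (h : B1 F p 𝔈 E₁ U E₂ x u₀ z₀) {a b : Ω} (ha : a ∈ E₁) (hb : b ∈ E₁)
    (hU : a * b * a⁻¹ * b⁻¹ ∈ U) : a * b * a⁻¹ * b⁻¹ = 1 := by
  obtain ⟨s, hs, hs₂⟩ := h.exists_s
  let T : Set Ω := {t | ∃ a ∈ E₁, ∃ b ∈ E₁, a * b * a⁻¹ * b⁻¹ = t}
  have hcomm : ∀ a ∈ E₁, ∀ b ∈ E₁, a * b * a⁻¹ * b⁻¹ ∈ h.D := by
    have hn : ∀ k ∈ Subgroup.closure (((E₁ ⊓ E₂ : Subgroup Ω) : Set Ω) ∪ {s}), ∀ y ∈ h.D,
        cj k y ∈ h.D := fun k hk y hy =>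
      h.D_normal (h.m₁.le ((h.closure_eq₁ hs hs₂).le hk)) hy
    have one : ∀ a b : Ω, a * b = b * a → a * b * a⁻¹ * b⁻¹ ∈ h.D := fun a b e => by
      rw [e, mul_inv_cancel_right, mul_inv_cancel]; exact one_mem _
    have hms : ∀ m ∈ E₁ ⊓ E₂, m * s * m⁻¹ * s⁻¹ ∈ h.D := by
      intro m hm
      obtain ⟨d, hd, k, rfl⟩ := h.exists_decomp hm
      have hu : u₀ ^ k * s = s * u₀ ^ k := h.plane.commute (U.zpow_mem h.hu k) hs
      have e : d * u₀ ^ k * s * (d * u₀ ^ k)⁻¹ * s⁻¹ = d * (cj s d)⁻¹ := by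
        rw [mul_assoc d, hu, cj_apply]; group
      rw [e]
      exact h.D.mul_mem hd (h.D.inv_mem (h.D_normal (h.m₁.le hs) hd))
    have hgen : ∀ a ∈ ((E₁ ⊓ E₂ : Subgroup Ω) : Set Ω) ∪ {s},
        ∀ b ∈ ((E₁ ⊓ E₂ : Subgroup Ω) : Set Ω) ∪ {s}, a * b * a⁻¹ * b⁻¹ ∈ h.D := by
      rintro a (ha | ha) b (hb | hb)
      · obtain ⟨d, hd, k, rfl⟩ := h.exists_decomp ha
        obtain ⟨d', hd', k', rfl⟩ := h.exists_decomp hb
        refine one _ _ (Commute.mul_left (Commute.mul_right (h.D_comm hd hd') ?_)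
          (Commute.mul_right ?_ ((Commute.refl u₀).zpow_zpow k k'))).eq
        · exact (show Commute u₀ d from h.comm_u hd).symm.zpow_right k'
        · exact (show Commute u₀ d' from h.comm_u hd').zpow_left k
      · rw [hb]; exact hms a ha
      · rw [ha]
        have := h.D.inv_mem (hms b hb)
        rwa [show (b * s * b⁻¹ * s⁻¹)⁻¹ = s * b * s⁻¹ * b⁻¹ by group] at this
      · rw [ha, hb]; exact one _ _ rfl
    intro a ha b hb
    exact gen_comm hn hgen a ((h.closure_eq₁ hs hs₂).ge ha) b ((h.closure_eq₁ hs hs₂).ge hb)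
  have hTD : Subgroup.closure T ≤ h.D := (Subgroup.closure_le _).mpr
    fun t ⟨a, ha, b, hb, e⟩ => e ▸ hcomm a ha b hb
  have hTE : Subgroup.closure T ≤ E₁ := fun y hy => (h.mem_D.mp (hTD hy)).1.1
  haveI := h.m₁.finite
  have hinv : InvBy (opp F p E₁) (U ⊓ Subgroup.closure T) := by
    refine (h.plane.inv.mono (opp_le F p E₁)).inf ?_
    refine invBy_of_img_le hTE fun α _ => ?_
    rintro y hy
    obtain ⟨t, ht, rfl⟩ := (mem_img hTE).mp hy
    clear hy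
    induction ht using Subgroup.closure_induction with
    | mem t ht =>
      obtain ⟨a, ha, b, hb, rfl⟩ := ht
      refine Subgroup.subset_closure ⟨_, afun_mem α ha, _, afun_mem α hb, ?_⟩
      rw [afun_map_mul α (E₁.mul_mem (E₁.mul_mem ha hb) (E₁.inv_mem ha)) (E₁.inv_mem hb),
        afun_map_mul α (E₁.mul_mem ha hb) (E₁.inv_mem ha), afun_map_mul α ha hb,
        afun_map_inv' α ha, afun_map_inv' α hb]
    | one =>
      rw [afun_apply α E₁.one_mem, show (⟨1, E₁.one_mem⟩ : E₁) = 1 from rfl, map_one]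
      exact one_mem _
    | mul a b ha hb iha ihb => rw [afun_map_mul α (hTE ha) (hTE hb)]; exact mul_mem iha ihb
    | inv a ha iha => rw [afun_map_inv' α (hTE ha)]; exact inv_mem iha
  rcases h.plane.irred _ inf_le_left hinv with e | e
  · have : a * b * a⁻¹ * b⁻¹ ∈ U ⊓ Subgroup.closure T :=
      ⟨hU, Subgroup.subset_closure ⟨a, ha, b, hb, rfl⟩⟩
    rwa [e, Subgroup.mem_bot] at this
  · exact absurd (hTD (inf_le_right (a := U) (e.ge h.hu))) h.u_not_D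

/-- `E₁ ⊓ E₂` is not invariant under `O^{p'}(Aut_F(E₁))`. -/
theorem not_inv_inf (h : B1 F p 𝔈 E₁ U E₂ x u₀ z₀) : ¬ InvBy (opp F p E₁) (E₁ ⊓ E₂) := by
  intro hM
  haveI := h.m₁.finite
  have hS := h.ctx.hS
  obtain ⟨j, hjO, ⟨e2, hje⟩, hjU⟩ := h.plane.neg
  obtain ⟨d₀, hd₀, hgen⟩ := h.exists_gen
  have hd₀₁ : d₀ ∈ E₁ := (h.mem_D.mp hd₀).1.1
  have hd₀S : d₀ ∈ S := h.m₁.le hd₀₁
  have hinf : E₁ ⊓ E₂ = U ⊔ Subgroup.zpowers d₀ := by
    rw [h.inf_eq, hgen, ← sup_assoc, sup_eq_left.mpr (inf_le_left : U ⊓ OmZ p S ≤ U)]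
  let L : ℕ → Subgroup Ω := fun n => U ⊔ Subgroup.zpowers (d₀ ^ p ^ n)
  have hLE : ∀ n, L n ≤ E₁ := fun n =>
    sup_le h.plane.le_E (Subgroup.zpowers_le.mpr (E₁.pow_mem hd₀₁ _))
  have hUc : ∀ a ∈ U, a * d₀ = d₀ * a := fun a ha => h.plane.commute ha hd₀₁
  have hLinv : ∀ n, InvBy (opp F p E₁) (L n) := fun n α hα =>
    zpow_chain_inv h.plane.le_E hd₀₁ hUc (h.plane.inv α (opp_le F p E₁ hα))
      (hinf ▸ hM α hα d₀ ⟨hd₀₁, (h.mem_D.mp hd₀).1.2⟩) (p ^ n)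
  have hLc : ∀ n, ∀ a ∈ L n, ∀ b ∈ L n, a * b = b * a := by
    intro n
    have hb : L n = Subgroup.closure ((U : Set Ω) ∪ (Subgroup.zpowers (d₀ ^ p ^ n) : Set Ω)) :=
      Subgroup.sup_eq_closure _ _
    rw [hb]
    refine commute_closure ?_
    rintro a (ha | ⟨m, rfl⟩) b (hb | ⟨m', rfl⟩)
    · exact h.plane.commute ha (h.plane.le_E hb)
    · exact h.plane.commute ha (E₁.zpow_mem (E₁.pow_mem hd₀₁ _) m')
    · exact (h.plane.commute hb (E₁.zpow_mem (E₁.pow_mem hd₀₁ _) m)).symm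
    · exact (Commute.refl (d₀ ^ p ^ n)).zpow_zpow m m'
  have hjp : (orderOf j).Coprime p := hje ▸ coprime_two_pow h.ctx.hp
  have hlast : ∀ y ∈ E₁, y⁻¹ * afun j y ∈ U := by
    intro y hy
    have hdown : ∀ n, y⁻¹ * afun j y ∈ L n := by
      intro n
      induction n with
      | zero =>
        have hmem := h.m₁.opp_trivial_step hS (inf_le_left : E₁ ⊓ E₂ ≤ E₁) le_rfl
          (fun b hb a ha => h.inf_normal (h.m₁.le hb) ha) hM (fun α _ z hz => afun_mem α hz)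
          h.card_le_inf j hjO y hy
        simp only [L, pow_zero, pow_one]
        exact hinf ▸ hmem
      | succ n ih =>
        have hdn : d₀ ^ p ^ n ∈ E₁ := E₁.pow_mem hd₀₁ _
        have hle : L (n + 1) ≤ L n := sup_le_sup_left (Subgroup.zpowers_le.mpr
          (by rw [pow_succ, pow_mul]; exact Subgroup.npow_mem_zpowers _ p)) U
        have hn : ∀ b ∈ L n, ∀ a ∈ L (n + 1), cj b a ∈ L (n + 1) := fun b hb a ha => by
          rw [cj_apply, hLc n b hb a (hle ha), mul_inv_cancel_right]; exact ha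
        refine coprime_step h.m₁.le hS (hLE n) hn hjp (hLinv n j hjO) (hLinv (n + 1) j hjO) hle
          ?_ hy ih
        refine h.m₁.opp_trivial_step hS hle (hLE n) hn (hLinv (n + 1)) (hLinv n) ?_ j hjO
        have hsub : L n ≤ L (n + 1) ⊔ Subgroup.zpowers (d₀ ^ p ^ n) :=
          sup_le_sup_right le_sup_left _
        haveI : Finite ↥(L (n + 1) ⊔ Subgroup.zpowers (d₀ ^ p ^ n)) :=
          finite_of_le (sup_le ((hLE _).trans h.m₁.le) (Subgroup.zpowers_le.mpr (h.m₁.le hdn)))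
        refine (Subgroup.card_le_of_le hsub).trans (card_sup_zpowers_le
          ((hLE _).trans h.m₁.le) (h.m₁.le hdn)
          (fun a ha => hn _ (Subgroup.mem_sup_right (Subgroup.mem_zpowers _)) a ha) ?_)
        rw [← pow_mul, ← pow_succ]
        exact Subgroup.mem_sup_right (Subgroup.mem_zpowers _)
    obtain ⟨N, hN⟩ := hS ⟨d₀, hd₀S⟩
    have hN' : d₀ ^ p ^ N = 1 := congrArg Subtype.val hN
    have := hdown N
    simp only [L, hN', Subgroup.zpowers_one_eq_bot, sup_bot_eq] at this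
    exact this
  have hjinv : ∀ u ∈ U, afun j⁻¹ u = u⁻¹ := fun u hu => by
    conv_lhs => rw [show u = afun j u⁻¹ by rw [hjU _ (U.inv_mem hu), inv_inv]]
    rw [afun_inv_apply j (E₁.inv_mem (h.plane.le_E hu))]
  have hlast' : ∀ y ∈ E₁, y⁻¹ * afun j⁻¹ y ∈ U := fun y hy => by
    have h1 := U.inv_mem (hlast _ (afun_mem j⁻¹ hy))
    rwa [afun_apply_inv j hy, mul_inv_rev, inv_inv] at h1
  let a := h.m₁.conjAut h.hxS
  have haF : a ∈ F.autGroup E₁ := h.m₁.conjAut_mem h.hxS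
  have haU : ∀ u ∈ U, afun a u ∈ U := h.plane.inv a haF
  have haU' : ∀ u ∈ U, afun a⁻¹ u ∈ U := h.plane.inv a⁻¹ (inv_mem haF)
  have hg1 : ∀ u ∈ U, afun (a * j * a⁻¹ * j⁻¹) u = u := fun u hu => by
    have hu₁ := h.plane.le_E hu
    rw [afun_mul _ _ hu₁, hjinv u hu, afun_mul _ _ (E₁.inv_mem hu₁),
      afun_map_inv' a⁻¹ hu₁, afun_mul _ _ (E₁.inv_mem (afun_mem _ hu₁)),
      hjU _ (U.inv_mem (haU' u hu)), inv_inv, afun_apply_inv a hu₁]
  have hg2 : ∀ y ∈ E₁, y⁻¹ * afun (a * j * a⁻¹ * j⁻¹) y ∈ U := fun y hy => by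
    have h1 := afun_mem j⁻¹ hy
    have h2 := afun_mem a⁻¹ h1
    rw [afun_mul _ _ hy, afun_mul _ _ h1, afun_mul _ _ h2]
    have h3 : afun a (afun j (afun a⁻¹ (afun j⁻¹ y))) = afun j⁻¹ y *
        afun a ((afun a⁻¹ (afun j⁻¹ y))⁻¹ * afun j (afun a⁻¹ (afun j⁻¹ y))) := by
      rw [afun_map_mul a (E₁.inv_mem h2) (afun_mem j h2), afun_map_inv' a h2,
        afun_apply_inv a h1, mul_inv_cancel_left]
    rw [h3, ← mul_assoc]
    exact U.mul_mem (hlast' y hy) (haU _ (hlast _ h2))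
  obtain ⟨e, he⟩ := h.m₁.inn_of_stab hS h.plane.le_E h.plane.inv
    (mul_mem (mul_mem (mul_mem haF (opp_le F p E₁ hjO)) (inv_mem haF))
      (inv_mem (opp_le F p E₁ hjO))) hg1 hg2
  have hγ : a * j * a⁻¹ * j⁻¹ = 1 := afun_ext fun y hy => by
    rw [afun_one hy]
    have hval : afun (a * j * a⁻¹ * j⁻¹) y = (e : Ω) * y * (e : Ω)⁻¹ := by
      rw [← he, afun_apply _ hy]; rfl
    have h2 := hg2 y hy
    rw [hval] at h2
    have h3 : (e : Ω) * y * (e : Ω)⁻¹ * y⁻¹ ∈ U := by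
      have h4 := h.plane.cj_mem h.m₁ (h.m₁.le hy) h2
      simpa [cj_apply, mul_assoc] using h4
    rw [hval]
    exact mul_inv_eq_one.mp (h.comm_eq_one e.2 hy h3)
  have hcomm : a * j = j * a := mul_inv_eq_iff_eq_mul.mp (mul_inv_eq_one.mp hγ)
  -- the fixed element over `s`
  obtain ⟨s, hs, hs₂⟩ := h.exists_s
  obtain ⟨d, hd, k, hc⟩ := h.exists_decomp (h.c_mem hs)
  obtain ⟨w, hw, hjw⟩ : ∃ w ∈ U, afun j (s * w) = s * w := by
    let w := s⁻¹ * afun j s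
    have hw : w ∈ U := hlast s hs
    obtain ⟨t, ht⟩ := h.ctx.hp
    have hwt : w ^ (t + 1) ∈ U := U.pow_mem hw _
    refine ⟨w ^ (t + 1), hwt, ?_⟩
    have hjs : afun j s = s * w := by simp only [w, mul_inv_cancel_left]
    rw [afun_map_mul j hs (h.plane.le_E hwt), hjs, hjU _ hwt, mul_assoc]
    have e1 : w ^ (t + 1) * w ^ (t + 1) = w := by
      rw [← pow_add, show t + 1 + (t + 1) = p + 1 by omega, pow_succ, h.plane.pow_p hw, one_mul]
    congr 1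
    conv_lhs => arg 1; rw [← e1]
    rw [mul_inv_cancel_right]
  have hsw : s * w ∈ E₁ := E₁.mul_mem hs (h.plane.le_E hw)
  have hfix : ∀ y ∈ E₁, afun j y = y → afun j (cj x y * y⁻¹) = cj x y * y⁻¹ := by
    intro y hy hjy
    have hay : cj x y = afun a y := (h.m₁.afun_conjAut h.hxS hy).symm
    have hxy : cj x y ∈ E₁ := h.m₁.normal x h.hxS y hy
    rw [afun_map_mul j hxy (E₁.inv_mem hy), afun_map_inv' j hy, hjy]
    congr 1
    rw [hay, ← afun_mul j a hy, ← hcomm, afun_mul a j hy, hjy]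
  set t := cj x (s * w) * (s * w)⁻¹ with htdef
  set z' := cj x w * w⁻¹ with hz'def
  have hz' : z' ∈ U ⊓ OmZ p S := h.plane.comm_mem_zu h.m₁ h.ctx.hS h.hxS hw
  have ht : t = (d * u₀ ^ k)⁻¹ * z' := by
    have e1 : cj x (s * w) = cj x s * (z' * w) := by
      rw [hz'def, inv_mul_cancel_right]; simp only [cj_apply]; group
    rw [htdef, e1, cj_x_s s x, hc]
    have e2 : z' * s⁻¹ = s⁻¹ * z' := hz'.2.2.2 _ (S.inv_mem (h.m₁.le hs))
    calc (d * u₀ ^ k)⁻¹ * s * (z' * w) * (s * w)⁻¹ = (d * u₀ ^ k)⁻¹ * s * (z' * s⁻¹) := by group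
      _ = (d * u₀ ^ k)⁻¹ * z' := by rw [e2, mul_assoc, mul_inv_cancel_left]
  have htE : t ∈ E₁ := E₁.mul_mem (h.m₁.normal x h.hxS _ hsw) (E₁.inv_mem hsw)
  have hq := hfix t htE (hfix _ hsw hjw)
  have hqval : cj x t * t⁻¹ = (z₀ ^ k)⁻¹ := by
    have hz : ∀ y ∈ S, Commute (z₀ ^ k) y := fun y hy =>
      (show Commute z₀ y from h.z_comm hy).zpow_left k
    have hdS : d ∈ S := h.m₂.le (h.mem_D.mp hd).1.2
    have hcS : d * u₀ ^ k ∈ S := S.mul_mem hdS (S.zpow_mem (h.m₁.le (h.plane.le_E h.hu)) k)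
    have e1 : cj x (d * u₀ ^ k) = z₀ ^ k * (d * u₀ ^ k) := by
      have : cj x (d * u₀ ^ k) = cj x d * cj x (u₀ ^ k) := by simp only [cj_apply]; group
      rw [this, h.cj_u_zpow, cj_apply x d, ← (h.mem_D.mp hd).2, mul_inv_cancel_right, ← mul_assoc,
        ← (hz d hdS).eq, mul_assoc]
    have e2 : cj x z' = z' := by rw [cj_apply, ← hz'.2.2.2 x h.hxS, mul_inv_cancel_right]
    have e3 : cj x t = (z₀ ^ k * (d * u₀ ^ k))⁻¹ * z' := by
      rw [ht, ← e1]; conv_rhs => rw [← e2]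
      simp only [cj_apply]; group
    rw [e3, ht, (hz _ hcS).eq]
    group
  rw [hqval] at hq
  have hzU : (z₀ ^ k)⁻¹ ∈ U := U.inv_mem (U.zpow_mem h.hzZ.1 k)
  rw [hjU _ hzU, inv_inv] at hq
  have hsq : (z₀ ^ k) ^ 2 = 1 := by
    rw [sq]; nth_rewrite 2 [hq]; exact mul_inv_cancel _
  refine h.z_pow_ne hs hs₂ hd hc ?_
  obtain ⟨r, hr⟩ := h.ctx.hp
  have hzp : (z₀ ^ k) ^ p = 1 := h.plane.pow_p (U.zpow_mem h.hzZ.1 k)
  rw [hr, pow_succ, pow_mul, hsq, one_pow, one_mul] at hzp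
  exact hzp

end B1

variable {𝔈 : Set (Subgroup Ω)}

theorem false_of_B1 (hc : Ctx F p 𝔈) (hB : ∀ E ∈ 𝔈, ∀ E' ∈ 𝔈, OmZ p E ≤ E')
    {E₁ U E₂ : Subgroup Ω} (h₁ : E₁ ∈ 𝔈) (hU : Plane F p E₁ U) (h₂ : E₂ ∈ 𝔈) {β : MulAut E₂}
    (hout : ¬ img β U ≤ E₁) : False := by
  obtain ⟨x, u₀, z₀, h⟩ := exists_b1 hc hB h₁ hU h₂ hout
  haveI := h.m₁.finite
  obtain ⟨s, hs, hs₂⟩ := h.exists_s
  obtain ⟨d, hd, k, hcd⟩ := h.exists_decomp (h.c_mem hs)
  obtain ⟨d₀, hd₀, hgen⟩ := h.exists_gen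
  have hS := hc.hS
  have hE₁p : IsPGroup p E₁ := hS.to_le h.m₁.le
  let Φ : Subgroup Ω := (frattini E₁).map E₁.subtype
  have hΦinv : InvBy (F.autGroup E₁) Φ := by
    rintro α - _ ⟨y, hy, rfl⟩
    refine ⟨α y, ?_, (afun_coe α y).symm⟩
    exact (Subgroup.characteristic_iff_le_comap.mp (inferInstance : (frattini E₁).Characteristic) α) hy
  let P₁ : Subgroup Ω := U ⊔ Φ
  have hPE : P₁ ≤ E₁ := sup_le hU.le_E (Subgroup.map_subtype_le _)
  have hPinv : Inv F E₁ P₁ := invBy_sup hU.le_E (Subgroup.map_subtype_le _) hU.inv hΦinv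
  have hPn : ∀ g ∈ S, ∀ y ∈ P₁, cj g y ∈ P₁ := fun g hg y hy =>
    h.m₁.cj_mem_of_inv hPE hPinv hg hy
  have hcommP : ∀ a ∈ E₁, ∀ b ∈ E₁, a * b * a⁻¹ * b⁻¹ ∈ P₁ := fun a ha b hb =>
    Subgroup.mem_sup_right ⟨⁅(⟨a, ha⟩ : E₁), ⟨b, hb⟩⁆, PGroupsBasic.commutator_le_frattini hE₁p
      (Subgroup.commutator_mem_commutator (Subgroup.mem_top _) (Subgroup.mem_top _)),
      by simp [commutatorElement_def]⟩
  have hpowP : ∀ a ∈ E₁, a ^ p ∈ P₁ := fun a ha =>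
    Subgroup.mem_sup_right ⟨(⟨a, ha⟩ : E₁) ^ p, PGroupsBasic.pow_mem_frattini hE₁p _, rfl⟩
  -- `E₁ ⊓ E₂` has index `p`, so contains the Frattini subgroup
  have hMlt : E₁ ⊓ E₂ < E₁ := lt_of_le_not_ge inf_le_left fun e => hs₂ (e hs).2
  have hidx : ((E₁ ⊓ E₂).subgroupOf E₁).index = p := by
    have h1 := Subgroup.card_mul_index ((E₁ ⊓ E₂).subgroupOf E₁)
    rw [Nat.card_congr (Subgroup.subgroupOfEquivOfLe hMlt.le).toEquiv] at h1
    haveI := finite_of_le (inf_le_left.trans h.m₁.le : E₁ ⊓ E₂ ≤ S)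
    have h2 := le_antisymm h.card_le_inf (mul_card_le_of_lt hS h.m₁.le hMlt)
    rw [h2, mul_comm p] at h1
    exact Nat.eq_of_mul_eq_mul_left Nat.card_pos h1
  haveI hMn : ((E₁ ⊓ E₂).subgroupOf E₁).Normal := ⟨fun y hy g => by
    rw [Subgroup.mem_subgroupOf]
    exact h.inf_normal (h.m₁.le g.2) (hy : (y : Ω) ∈ E₁ ⊓ E₂)⟩
  have hMpow : ∀ a ∈ E₁, a ^ p ∈ E₁ ⊓ E₂ := fun a ha => by
    have h3 := Subgroup.pow_index_mem ((E₁ ⊓ E₂).subgroupOf E₁) (⟨a, ha⟩ : E₁)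
    rw [hidx, Subgroup.mem_subgroupOf] at h3
    exact h3
  have hPM : P₁ ≤ E₁ ⊓ E₂ := by
    refine sup_le (le_inf hU.le_E h.le₂) ?_
    rintro _ ⟨y, hy, rfl⟩
    refine Subgroup.mem_subgroupOf.mp ((PGroupsBasic.frattini_le_of_elementary_quotient
      (N := (E₁ ⊓ E₂).subgroupOf E₁) ?_ (fun a => Subgroup.mem_subgroupOf.mpr (hMpow _ a.2))) hy)
    have hq : Nat.card (E₁ ⧸ (E₁ ⊓ E₂).subgroupOf E₁) = p := hidx
    haveI : IsCyclic (E₁ ⧸ (E₁ ⊓ E₂).subgroupOf E₁) := isCyclic_of_prime_card hq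
    exact (Subgroup.Normal.quotient_commutative_iff_commutator_le).mp IsCyclic.isMulCommutative
  have hnot := h.not_inv_inf
  have hcP : cj s x * x⁻¹ ∉ P₁ := by
    intro hcm
    apply hnot
    let Y : ℕ → Subgroup Ω := fun i => if i = 0 then P₁ else E₁
    have hYE : ∀ i ≤ 1, Y i ≤ E₁ := fun i _ => by
      simp only [Y]; split_ifs
      exacts [hPE, le_rfl]
    have hYinv : ∀ α ∈ F.autGroup E₁, ∀ i ≤ 1, ∀ y ∈ Y i, afun α y ∈ Y i := by
      intro α hα i _ y hy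
      simp only [Y] at hy ⊢
      split_ifs at hy ⊢
      exacts [hPinv α hα y hy, afun_mem α hy]
    let T := FusionSysChain.stabGroup (F.autGroup E₁) Y 1 hYE hYinv
    have mkT : ∀ g (hg : g ∈ S), (∀ y ∈ E₁, y⁻¹ * cj g y ∈ P₁) → h.m₁.conjAut hg ∈ T := by
      refine fun g hg hy => ⟨h.m₁.conjAut_mem hg, fun i hi y hyi => ?_⟩
      obtain rfl : i = 0 := by omega
      simp only [Y, zero_add, one_ne_zero, if_false] at hyi
      simp only [Y, if_true]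
      rw [h.m₁.afun_conjAut hg hyi]
      exact hy y hyi
    have hxT : ∀ y ∈ E₁, y⁻¹ * cj x y ∈ P₁ := by
      intro y hy
      rw [← h.closure_eq₁ hs hs₂] at hy
      induction hy using Subgroup.closure_induction with
      | mem g hg =>
        rcases hg with hg | hg
        · obtain ⟨d', hd', k', rfl⟩ := h.exists_decomp hg
          have e : cj x (d' * u₀ ^ k') = d' * cj x (u₀ ^ k') := by
            conv_rhs => rw [show d' = cj x d' by rw [cj_apply, ← (h.mem_D.mp hd').2, mul_inv_cancel_right]]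
            simp only [cj_apply]; group
          rw [e, mul_inv_rev, mul_assoc, inv_mul_cancel_left]
          exact Subgroup.mem_sup_left (U.mul_mem (U.inv_mem (U.zpow_mem h.hu k'))
            (hU.cj_mem h.m₁ h.hxS (U.zpow_mem h.hu k')))
        · rw [Set.mem_singleton_iff] at hg
          rw [hg]
          have h1 := hPn s⁻¹ (S.inv_mem (h.m₁.le hs)) _ (P₁.inv_mem hcm)
          rwa [cj_apply, inv_inv, mul_assoc, ← B1.cj_x_s s x] at h1
      | one => simp [cj_apply]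
      | mul g g' hg hg' ih ih' =>
        have hg'1 : g' ∈ E₁ := (h.closure_eq₁ hs hs₂).le hg'
        have e1 : (g * g')⁻¹ * cj x (g * g') =
            cj g'⁻¹ (g⁻¹ * cj x g) * (g'⁻¹ * cj x g') := by simp only [cj_apply]; group
        rw [e1]
        exact P₁.mul_mem (hPn _ (S.inv_mem (h.m₁.le hg'1)) _ ih) ih'
      | inv g hg ih =>
        have hg1 : g ∈ E₁ := (h.closure_eq₁ hs hs₂).le hg
        have e1 : g⁻¹⁻¹ * cj x g⁻¹ = cj g (g⁻¹ * cj x g)⁻¹ := by simp only [cj_apply]; group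
        rw [e1]
        exact hPn _ (h.m₁.le hg1) _ (P₁.inv_mem ih)
    let φ : S →* MulAut E₁ := MonoidHom.mk' (fun g => h.m₁.conjAut g.2) fun a b =>
      afun_ext fun y hy => by
        rw [afun_mul _ _ hy, h.m₁.afun_conjAut _ hy, h.m₁.afun_conjAut _ hy,
          h.m₁.afun_conjAut _ (h.m₁.normal b b.2 y hy), cj_cj]
        rfl
    have hS_le : S ≤ (T.comap φ).map S.subtype := by
      conv_lhs => rw [← h.m₁.sup_zpowers h.hxS h.hx₁]
      refine sup_le (fun e he => ⟨⟨e, h.m₁.le he⟩, mkT e (h.m₁.le he) fun y hy => ?_, rfl⟩)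
        (Subgroup.zpowers_le.mpr ⟨⟨x, h.hxS⟩, mkT x h.hxS hxT, rfl⟩)
      have := hcommP y⁻¹ (E₁.inv_mem hy) e he
      simpa [cj_apply, mul_assoc] using this
    have hopp : opp F p E₁ ≤ T := h.m₁.opp_le hS hc.hF T
      (fun α hα m hm => FusionSysChain.stabGroup_normal hα hm) fun g hg => by
        obtain ⟨g', hg', e⟩ := hS_le hg
        obtain rfl : g' = ⟨g, hg⟩ := Subtype.ext e
        exact hg'
    intro α hα y hy
    have h1 := (hopp hα).2 0 Nat.one_pos y (by simpa [Y] using hy.1)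
    simp only [Y, if_true] at h1
    have := (E₁ ⊓ E₂).mul_mem hy (hPM h1)
    rwa [mul_inv_cancel_left] at this
  -- so `d ∉ P₁` and `D` has exponent `p`
  obtain ⟨-, hdp⟩ := h.c_pow hs hd hcd
  have hdP : d ∉ P₁ := fun e => hcP (by
    rw [hcd]; exact P₁.mul_mem e (Subgroup.mem_sup_left (U.zpow_mem h.hu k)))
  have hd₀₁ : d₀ ∈ E₁ := (h.mem_D.mp hd₀).1.1
  have hd₀S : d₀ ∈ S := h.m₁.le hd₀₁
  obtain ⟨a₁, ha₁, b₁, hb₁, e₁⟩ : ∃ a ∈ U ⊓ OmZ p S, ∃ r : ℤ, True ∧ d = a * d₀ ^ r := by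
    have hdd : d ∈ (U ⊓ OmZ p S) ⊔ Subgroup.zpowers d₀ := hgen ▸ hd
    have hnorm : Subgroup.zpowers d₀ ≤ Subgroup.normalizer ((U ⊓ OmZ p S : Subgroup Ω) : Set Ω) := by
      refine Subgroup.zpowers_le.mpr (mem_normalizer_of_cj_le
        (inf_le_left.trans (hU.le_E.trans h.m₁.le)) fun a ha => ?_)
      rw [cj_apply, ← ha.2.2.2 d₀ hd₀S, mul_inv_cancel_right]; exact ha
    rw [← SetLike.mem_coe, Subgroup.coe_mul_of_right_le_normalizer_left _ _ hnorm] at hdd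
    obtain ⟨a, ha, b, ⟨r, rfl⟩, e⟩ := Set.mem_mul.mp hdd
    exact ⟨a, ha, r, trivial, e.symm⟩
  have hd₀p : d₀ ^ p = 1 := by
    have hr : ¬ (p : ℤ) ∣ b₁ := by
      rintro ⟨m, rfl⟩
      refine hdP ?_
      rw [e₁, zpow_mul, zpow_natCast]
      exact P₁.mul_mem (Subgroup.mem_sup_left ha₁.1) (P₁.zpow_mem (hpowP d₀ hd₀₁) m)
    have h1 : (d₀ ^ p) ^ b₁ = 1 := by
      rw [e₁, (show Commute a₁ (d₀ ^ b₁) from ha₁.2.2.2 _ (S.zpow_mem hd₀S _)).mul_pow,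
        hU.pow_p ha₁.1, one_mul] at hdp
      rw [← zpow_natCast, ← zpow_mul, mul_comm, zpow_mul, zpow_natCast]
      exact hdp
    obtain ⟨N, hN⟩ := hS ⟨d₀, hd₀S⟩
    have hN' : d₀ ^ p ^ N = 1 := congrArg Subtype.val hN
    have h2 : (d₀ ^ p) ^ ((p ^ N : ℕ) : ℤ) = 1 := by
      rw [zpow_natCast, ← pow_mul, mul_comm, pow_mul, hN', one_pow]
    have hcop : IsCoprime b₁ ((p ^ N : ℕ) : ℤ) := by
      push_cast
      exact ((Nat.prime_iff_prime_int.mp Fact.out).coprime_iff_not_dvd.mpr hr).symm.pow_right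
    obtain ⟨r, t, hrt⟩ := hcop
    rw [← zpow_one (d₀ ^ p), ← hrt, zpow_add, mul_comm r, mul_comm t, zpow_mul, zpow_mul, h1, h2,
      one_zpow, one_zpow, one_mul]
  have hDp : ∀ y ∈ h.D, y ^ p = 1 := by
    rw [hgen, Subgroup.sup_eq_closure]
    refine elem_closure ?_ ?_
    · rintro a (ha | ⟨m, rfl⟩) b (hb | ⟨m', rfl⟩)
      · exact ha.2.2.2 b hb.2.1
      · exact ha.2.2.2 _ (S.zpow_mem hd₀S m')
      · exact (hb.2.2.2 _ (S.zpow_mem hd₀S m)).symm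
      · exact (Commute.refl d₀).zpow_zpow m m'
    · rintro a (ha | ⟨m, rfl⟩)
      · exact hU.pow_p ha.1
      · show (d₀ ^ m) ^ p = 1
        rw [← zpow_natCast, ← zpow_mul, mul_comm, zpow_mul, zpow_natCast, hd₀p, one_zpow]
  have hDE₂ : h.D ≤ E₂ := fun y hy => (h.mem_D.mp hy).1.2
  have hDcard : Nat.card h.D ≤ p * Nat.card ↥(U ⊓ OmZ p S) := by
    rw [hgen]
    exact card_sup_zpowers_le (inf_le_left.trans (hU.le_E.trans h.m₁.le)) hd₀S
      (fun a ha => by rw [cj_apply, ← ha.2.2.2 d₀ hd₀S, mul_inv_cancel_right]; exact ha)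
      (by rw [hd₀p]; exact one_mem _)
  have hsD : ∀ y ∈ h.D, y⁻¹ * cj s y ∈ U ⊓ OmZ p S := fun y hy => by
    have := h.m₂.opp_trivial_step hS h.zu_le_D hDE₂
      (fun b hb a ha => by rw [cj_apply, ← ha.2.2.2 b (h.m₂.le (hDE₂ hb)), mul_inv_cancel_right]; exact ha)
      (h.inv_zu.mono (opp_le F p E₂)) (h.inv_D.mono (opp_le F p E₂)) hDcard _
      (h.m₂.conjAut_mem_opp hS (h.m₁.le hs)) y hy
    rwa [h.m₂.afun_conjAut _ (hDE₂ hy)] at this
  have hab : ∀ a ∈ E₁, ∀ b ∈ E₁, a * b = b * a := by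
    have hn : ∀ g ∈ Subgroup.closure (((E₁ ⊓ E₂ : Subgroup Ω) : Set Ω) ∪ {s}),
        ∀ y ∈ U ⊓ OmZ p S, cj g y ∈ U ⊓ OmZ p S := fun g hg y hy => by
      rw [cj_apply, ← hy.2.2.2 g (h.m₁.le ((h.closure_eq₁ hs hs₂).le hg)), mul_inv_cancel_right]
      exact hy
    have one : ∀ a b : Ω, a * b = b * a → a * b * a⁻¹ * b⁻¹ ∈ U ⊓ OmZ p S := fun a b e => by
      rw [e, mul_inv_cancel_right, mul_inv_cancel]; exact one_mem _
    have hms : ∀ m ∈ E₁ ⊓ E₂, s * m * s⁻¹ * m⁻¹ ∈ U ⊓ OmZ p S := by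
      intro m hm
      obtain ⟨d', hd', k', rfl⟩ := h.exists_decomp hm
      have hu : u₀ ^ k' * s⁻¹ = s⁻¹ * u₀ ^ k' := hU.commute (U.zpow_mem h.hu k') (E₁.inv_mem hs)
      have h1 := hsD d' hd'
      have h2 : d'⁻¹ * cj s d' = cj s d' * d'⁻¹ :=
        h.D_comm (h.D.inv_mem hd') (h.D_normal (h.m₁.le hs) hd')
      have e : s * (d' * u₀ ^ k') * s⁻¹ * (d' * u₀ ^ k')⁻¹ = cj s d' * d'⁻¹ := by
        rw [show s * (d' * u₀ ^ k') * s⁻¹ = s * d' * (u₀ ^ k' * s⁻¹) by group, hu, cj_apply]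
        group
      rw [e, ← h2]; exact h1
    have hgens : ∀ a ∈ ((E₁ ⊓ E₂ : Subgroup Ω) : Set Ω) ∪ {s},
        ∀ b ∈ ((E₁ ⊓ E₂ : Subgroup Ω) : Set Ω) ∪ {s}, a * b * a⁻¹ * b⁻¹ ∈ U ⊓ OmZ p S := by
      rintro a (ha | ha) b (hb | hb)
      · refine one _ _ ?_
        obtain ⟨d', hd', k', rfl⟩ := h.exists_decomp ha
        obtain ⟨d'', hd'', k'', rfl⟩ := h.exists_decomp hb
        exact (Commute.mul_left (Commute.mul_right (h.D_comm hd' hd'')
            ((show Commute u₀ d' from h.comm_u hd').symm.zpow_right k''))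
          (Commute.mul_right ((show Commute u₀ d'' from h.comm_u hd'').zpow_left k')
            ((Commute.refl u₀).zpow_zpow k' k''))).eq
      · rw [hb]
        have := inv_mem (hms a ha)
        rwa [show (s * a * s⁻¹ * a⁻¹)⁻¹ = a * s * a⁻¹ * s⁻¹ by group] at this
      · rw [ha]; exact hms b hb
      · rw [ha, hb]; exact one _ _ rfl
    intro a ha b hb
    have h1 := h.comm_eq_one ha hb (gen_comm hn hgens a ((h.closure_eq₁ hs hs₂).ge ha) b
      ((h.closure_eq₁ hs hs₂).ge hb)).1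
    rw [mul_inv_eq_one, mul_inv_eq_iff_eq_mul] at h1
    exact h1
  have hMp : ∀ y ∈ E₁ ⊓ E₂, y ^ p = 1 := fun y hy => by
    obtain ⟨d', hd', k', rfl⟩ := h.exists_decomp hy
    rw [((show Commute u₀ d' from h.comm_u hd').symm.zpow_right k').mul_pow, hDp d' hd',
      hU.pow_p (U.zpow_mem h.hu k'), one_mul]
  have hspD : s ^ p ∈ h.D := by
    refine h.mem_D.mpr ⟨hMpow s hs, ?_⟩
    have h1 : cj x (s ^ p) = s ^ p := by
      rw [cj_apply, ← conj_pow, ← cj_apply, B1.cj_x_s s x, hcd,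
        (show Commute (d * u₀ ^ k)⁻¹ s from hab _ (E₁.inv_mem (hcd ▸ (h.c_mem hs).1)) s hs).mul_pow,
        inv_pow, (h.c_pow hs hd hcd).1, inv_one, one_mul]
    rw [cj_apply, mul_inv_eq_iff_eq_mul] at h1
    exact h1.symm
  have hagemo : InvBy (F.autGroup E₁) (Subgroup.zpowers (s ^ p)) := by
    intro α _ y hy
    obtain ⟨m, rfl⟩ := Subgroup.mem_zpowers_iff.mp hy
    rw [afun_zpow α (E₁.pow_mem hs p), afun_npow α hs]
    refine Subgroup.zpow_mem _ ?_ m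
    obtain ⟨e', he', l, hl⟩ := h.m₂.exists_eq_mul (h.m₁.le hs) hs₂ (h.m₁.le (afun_mem α hs))
    have he1 : e' ∈ E₁ := by
      have := E₁.mul_mem (afun_mem α hs) (E₁.inv_mem (E₁.zpow_mem hs l))
      rwa [hl, mul_inv_cancel_right] at this
    rw [hl, (show Commute e' (s ^ l) from hab e' he1 _ (E₁.zpow_mem hs l)).mul_pow,
      hMp e' ⟨he1, he'⟩, one_mul, ← zpow_natCast (s ^ l) p, ← zpow_mul, mul_comm, zpow_mul,
      zpow_natCast]
    exact Subgroup.zpow_mem_zpowers _ l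
  by_cases hsz : s ^ p ∈ U ⊓ OmZ p S
  · have hle : Subgroup.zpowers (s ^ p) ≤ U := Subgroup.zpowers_le.mpr hsz.1
    rcases hU.irred _ hle (hagemo.mono (opp_le F p E₁)) with e | e
    · have hsp : s ^ p = 1 := Subgroup.zpowers_eq_bot.mp e
      have helem : ∀ y ∈ E₁, y ^ p = 1 := by
        have hcl := h.closure_eq₁ hs hs₂
        intro y hy
        refine elem_closure ?_ ?_ y (hcl.ge hy)
        · intro a ha b hb
          exact hab a (hcl.le (Subgroup.subset_closure ha)) b (hcl.le (Subgroup.subset_closure hb))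
        · rintro a (ha | ha)
          · exact hMp a ha
          · rw [ha]; exact hsp
      have h1 := elem_card_le hc.rk h.m₁.le hab helem
      have hDlt : U ⊓ OmZ p S < h.D := lt_of_le_not_ge h.zu_le_D fun e' =>
        hdP (Subgroup.mem_sup_left (e' hd).1)
      have hDM : h.D < E₁ ⊓ E₂ := lt_of_le_not_ge (fun y hy => (h.mem_D.mp hy).1)
        fun e' => h.u_not_D (e' ⟨hU.le_E h.hu, h.le₂ h.hu⟩)
      have h2 := (Nat.mul_le_mul_left p ((Nat.mul_le_mul_left p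
        (mul_card_le_of_lt hS (hDM.le.trans (inf_le_left.trans h.m₁.le)) hDlt)).trans
        (mul_card_le_of_lt hS (inf_le_left.trans h.m₁.le) hDM))).trans
        ((mul_card_le_of_lt hS h.m₁.le hMlt).trans h1)
      rw [hU.card_zu h.m₁ hS] at h2
      have hp2 := (Fact.out : p.Prime).two_le
      nlinarith [pow_pos (Fact.out : p.Prime).pos 3]
    · have hc1 : Nat.card ↥(Subgroup.zpowers (s ^ p)) ≤ p := by
        haveI := finite_of_le (inf_le_left.trans (hU.le_E.trans h.m₁.le) : U ⊓ OmZ p S ≤ S)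
        exact (Subgroup.card_le_of_le (Subgroup.zpowers_le.mpr hsz)).trans
          (hU.card_zu h.m₁ hS).le
      rw [e, hU.card, sq] at hc1
      nlinarith [(Fact.out : p.Prime).two_le]
  · apply hnot
    have hD : h.D = (U ⊓ OmZ p S) ⊔ Subgroup.zpowers (s ^ p) := by
      refine (eq_of_le_of_card_ge (hDE₂.trans h.m₂.le)
        (sup_le h.zu_le_D (Subgroup.zpowers_le.mpr hspD)) ?_).symm
      refine hDcard.trans (mul_card_le_of_lt hS
        (sup_le (inf_le_left.trans (hU.le_E.trans h.m₁.le))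
          (Subgroup.zpowers_le.mpr (h.m₁.le (E₁.pow_mem hs p)))) (lt_of_le_not_ge le_sup_left
            fun e => hsz (e (Subgroup.mem_sup_right (Subgroup.mem_zpowers _)))))
    have hMeq : E₁ ⊓ E₂ = U ⊔ Subgroup.zpowers (s ^ p) := by
      rw [h.inf_eq, hD, ← sup_assoc, sup_eq_left.mpr (inf_le_left : U ⊓ OmZ p S ≤ U)]
    rw [hMeq]
    exact invBy_sup hU.le_E (Subgroup.zpowers_le.mpr (E₁.pow_mem hs p))
      (hU.inv.mono (opp_le F p E₁)) (hagemo.mono (opp_le F p E₁))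

end Cfsg.Agent.Rank3
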