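import Cfsg.Agent.Lib.Rank3CaseB34Split
import Cfsg.Agent.Lib.Rank3Found34b

/-!
Case B1 of the rank three engine: an image of the natural plane leaves `E₁`. The structure of
`E₁` and `E₂`.
-/

set_option autoImplicit false
set_option linter.unusedSectionVars false

namespace Cfsg.Agent.Rank3

open scoped commutatorElement
open Cfsg.FusionSystem Cfsg.Agent.FusionSysBasic Cfsg.Agent.FusionSysSaturated
  Cfsg.Agent.FusionSysNormal Cfsg.Agent.FusionSysAlperin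

universe u

variable {Ω : Type u} [Group Ω] {S : Subgroup Ω} {F : FusionSystem S} {p : ℕ}
  [Finite S] [Fact p.Prime]

theorem afun_map_inv' {P : Subgroup Ω} (α : MulAut P) {x : Ω} (hx : x ∈ P) :
    afun α x⁻¹ = (afun α x)⁻¹ := by
  rw [← zpow_neg_one, afun_zpow α hx, zpow_neg_one]

theorem afun_npow {P : Subgroup Ω} (α : MulAut P) {x : Ω} (hx : x ∈ P) (n : ℕ) :
    afun α (x ^ n) = afun α x ^ n := by
  rw [← zpow_natCast, afun_zpow α hx, zpow_natCast]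

theorem img_cj_mem {E : Subgroup Ω} (α : MulAut E) {K : Subgroup Ω} (hK : K ≤ E)
    (hn : ∀ e ∈ E, ∀ x ∈ K, cj e x ∈ K) {e : Ω} (he : e ∈ E) {y : Ω} (hy : y ∈ img α K) :
    cj e y ∈ img α K := by
  obtain ⟨x, hx, rfl⟩ := (mem_img hK).mp hy
  have he' : afun α⁻¹ e ∈ E := afun_mem _ he
  refine (mem_img hK).mpr ⟨cj (afun α⁻¹ e) x, hn _ he' x hx, ?_⟩
  simp only [cj_apply]
  rw [afun_map_mul α (E.mul_mem he' (hK hx)) (E.inv_mem he'), afun_map_mul α he' (hK hx),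
    afun_map_inv' α he', afun_apply_inv α he]

theorem commute_img {E : Subgroup Ω} (α : MulAut E) {K : Subgroup Ω} (hK : K ≤ E)
    (hc : ∀ a ∈ K, ∀ b ∈ K, a * b = b * a) {a b : Ω} (ha : a ∈ img α K) (hb : b ∈ img α K) :
    a * b = b * a := by
  obtain ⟨a', ha', rfl⟩ := (mem_img hK).mp ha
  obtain ⟨b', hb', rfl⟩ := (mem_img hK).mp hb
  rw [← afun_map_mul α (hK ha') (hK hb'), hc a' ha' b' hb', afun_map_mul α (hK hb') (hK ha')]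

theorem pow_img {E : Subgroup Ω} (α : MulAut E) {K : Subgroup Ω} (hK : K ≤ E) {n : ℕ}
    (hp : ∀ a ∈ K, a ^ n = 1) {a : Ω} (ha : a ∈ img α K) : a ^ n = 1 := by
  obtain ⟨a', ha', rfl⟩ := (mem_img hK).mp ha
  rw [← afun_npow α (hK ha'), hp a' ha', afun_apply α E.one_mem]
  exact congrArg Subtype.val (map_one α)

variable {𝔈 : Set (Subgroup Ω)}

/-- The data of case B1. -/
structure B1 (F : FusionSystem S) (p : ℕ) (𝔈 : Set (Subgroup Ω)) (E₁ U E₂ : Subgroup Ω)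
    (x u₀ z₀ : Ω) : Prop where
  ctx : Ctx F p 𝔈
  mem₁ : E₁ ∈ 𝔈
  mem₂ : E₂ ∈ 𝔈
  plane : Plane F p E₁ U
  le₂ : U ≤ E₂
  hx₂ : x ∈ E₂
  hx₁ : x ∉ E₁
  hxp : x ^ p = 1
  hu : u₀ ∈ U
  hz : z₀ = cj x u₀ * u₀⁻¹
  hz1 : z₀ ≠ 1
  hcomm : ∀ e ∈ E₁ ⊓ E₂, cj x e * e⁻¹ ∈ U ⊓ OmZ p S

theorem exists_b1 (hc : Ctx F p 𝔈) (hB : ∀ E ∈ 𝔈, ∀ E' ∈ 𝔈, OmZ p E ≤ E')
    {E₁ U E₂ : Subgroup Ω} (h₁ : E₁ ∈ 𝔈) (hU : Plane F p E₁ U) (h₂ : E₂ ∈ 𝔈)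
    {β : MulAut E₂} (hout : ¬ img β U ≤ E₁) : ∃ x u₀ z₀, B1 F p 𝔈 E₁ U E₂ x u₀ z₀ := by
  have hM₁ := hc.max _ h₁
  have hM₂ := hc.max _ h₂
  have hUE₂ : U ≤ E₂ := fun y hy => hB _ h₁ _ h₂ (hU.le hy)
  have hUn : ∀ e ∈ E₂, ∀ y ∈ U, cj e y ∈ U := fun e he y hy => hU.cj_mem hM₁ (hM₂.le he) hy
  have hUc : ∀ a ∈ U, ∀ b ∈ U, a * b = b * a := fun a ha b hb => hU.commute ha (hU.le_E hb)
  obtain ⟨x, hxW, hxE⟩ := SetLike.not_le_iff_exists.mp hout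
  have hx₂ : x ∈ E₂ := img_le β U hxW
  have hxS : x ∈ S := hM₂.le hx₂
  obtain ⟨u₀, hu₀, hne⟩ := hU.moved x hxS hxE
  have hWS : img β U ≤ S := (img_le β U).trans hM₂.le
  have hcW : ∀ e ∈ E₂, cj x e * e⁻¹ ∈ img β U := by
    intro e he
    have h1 := (img β U).mul_mem hxW (img_cj_mem β hUE₂ hUn he ((img β U).inv_mem hxW))
    simpa [cj_apply, mul_assoc] using h1
  have hz1 : cj x u₀ * u₀⁻¹ ≠ 1 := fun e => hne (mul_inv_eq_one.mp e)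
  have hzZ := hU.comm_mem_zu hM₁ hc.hS hxS hu₀
  -- the part of the image inside `E₁`
  have hWE : img β U ⊓ E₁ ≤ Subgroup.zpowers (cj x u₀ * u₀⁻¹) := by
    have hle : Subgroup.zpowers (cj x u₀ * u₀⁻¹) ≤ img β U ⊓ E₁ :=
      Subgroup.zpowers_le.mpr ⟨hcW u₀ (hUE₂ hu₀), hU.le_E hzZ.1⟩
    have hzc : Nat.card (Subgroup.zpowers (cj x u₀ * u₀⁻¹)) = p := by
      rw [Nat.card_zpowers]; exact orderOf_eq_prime (hU.pow_p hzZ.1) hz1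
    refine (eq_of_le_of_card_ge (inf_le_left.trans hWS) hle ?_).ge
    rw [hzc]
    have hlt : img β U ⊓ E₁ < img β U :=
      lt_of_le_not_ge inf_le_left fun h => hxE (h hxW).2
    have h := mul_card_le_of_lt hc.hS hWS hlt
    rw [card_img β hUE₂, hU.card, sq] at h
    exact Nat.le_of_mul_le_mul_left h (Fact.out : p.Prime).pos
  refine ⟨x, u₀, _, hc, h₁, h₂, hU, hUE₂, hx₂, hxE, pow_img β hUE₂ (fun a ha => hU.pow_p ha) hxW,
    hu₀, rfl, hz1, ?_⟩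
  intro e he
  refine ⟨?_, ?_⟩ <;>
    [refine (Subgroup.zpowers_le.mpr hzZ.1) (hWE ⟨hcW e he.2, ?_⟩);
     refine (Subgroup.zpowers_le.mpr hzZ.2) (hWE ⟨hcW e he.2, ?_⟩)] <;>
    exact E₁.mul_mem (hM₁.normal x hxS e he.1) (E₁.inv_mem he.1)

namespace B1

variable {E₁ U E₂ : Subgroup Ω} {x u₀ z₀ : Ω}

theorem m₁ (h : B1 F p 𝔈 E₁ U E₂ x u₀ z₀) : Max F p E₁ := h.ctx.max _ h.mem₁

theorem m₂ (h : B1 F p 𝔈 E₁ U E₂ x u₀ z₀) : Max F p E₂ := h.ctx.max _ h.mem₂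

theorem hxS (h : B1 F p 𝔈 E₁ U E₂ x u₀ z₀) : x ∈ S := h.m₂.le h.hx₂

theorem hzZ (h : B1 F p 𝔈 E₁ U E₂ x u₀ z₀) : z₀ ∈ U ⊓ OmZ p S := by
  rw [h.hz]; exact h.plane.comm_mem_zu h.m₁ h.ctx.hS h.hxS h.hu

theorem zu_eq (h : B1 F p 𝔈 E₁ U E₂ x u₀ z₀) : Subgroup.zpowers z₀ = U ⊓ OmZ p S := by
  refine eq_of_le_of_card_ge (inf_le_left.trans (h.plane.le_E.trans h.m₁.le))
    (Subgroup.zpowers_le.mpr h.hzZ) ?_
  rw [h.plane.card_zu h.m₁ h.ctx.hS, Nat.card_zpowers,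
    orderOf_eq_prime (h.plane.pow_p h.hzZ.1) h.hz1]

theorem z_comm (h : B1 F p 𝔈 E₁ U E₂ x u₀ z₀) {y : Ω} (hy : y ∈ S) : z₀ * y = y * z₀ :=
  h.hzZ.2.2.2 y hy

theorem u_not_zu (h : B1 F p 𝔈 E₁ U E₂ x u₀ z₀) : u₀ ∉ U ⊓ OmZ p S := fun hu => h.hz1 (by
  rw [h.hz, cj_apply, ← hu.2.2.2 x h.hxS, mul_inv_cancel_right, mul_inv_cancel])

/-- The centraliser of `x` in `E₁ ⊓ E₂`. -/
def D (_ : B1 F p 𝔈 E₁ U E₂ x u₀ z₀) : Subgroup Ω :=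
  E₁ ⊓ E₂ ⊓ Subgroup.centralizer ({x} : Set Ω)

theorem mem_D (h : B1 F p 𝔈 E₁ U E₂ x u₀ z₀) {d : Ω} :
    d ∈ h.D ↔ (d ∈ E₁ ∧ d ∈ E₂) ∧ d * x = x * d := by
  simp only [D, Subgroup.mem_inf, Subgroup.mem_centralizer_singleton_iff]

theorem zu_le_D (h : B1 F p 𝔈 E₁ U E₂ x u₀ z₀) : U ⊓ OmZ p S ≤ h.D := fun y hy =>
  h.mem_D.mpr ⟨⟨h.plane.le_E hy.1, h.le₂ hy.1⟩, hy.2.2.2 x h.hxS⟩

theorem u_not_D (h : B1 F p 𝔈 E₁ U E₂ x u₀ z₀) : u₀ ∉ h.D := fun hd => h.hz1 (by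
  rw [h.hz, cj_apply, ← (h.mem_D.mp hd).2, mul_inv_cancel_right, mul_inv_cancel])

theorem cj_u_zpow (h : B1 F p 𝔈 E₁ U E₂ x u₀ z₀) (k : ℤ) :
    cj x (u₀ ^ k) = z₀ ^ k * u₀ ^ k := by
  have e : cj x u₀ = z₀ * u₀ := by rw [h.hz, inv_mul_cancel_right]
  have hc : Commute z₀ u₀ := h.z_comm (h.m₁.le (h.plane.le_E h.hu))
  rw [cj_apply, ← conj_zpow, ← cj_apply, e, hc.mul_zpow]

/-- `E₁ ⊓ E₂ = D · ⟨u₀⟩`. -/
theorem exists_decomp (h : B1 F p 𝔈 E₁ U E₂ x u₀ z₀) {e : Ω} (he : e ∈ E₁ ⊓ E₂) :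
    ∃ d ∈ h.D, ∃ k : ℤ, e = d * u₀ ^ k := by
  obtain ⟨k, hk : z₀ ^ k = cj x e * e⁻¹⟩ := h.zu_eq.ge (h.hcomm e he)
  refine ⟨e * (u₀ ^ k)⁻¹, h.mem_D.mpr ⟨⟨E₁.mul_mem he.1 (E₁.inv_mem (E₁.zpow_mem (h.plane.le_E h.hu) k)),
    E₂.mul_mem he.2 (E₂.inv_mem (E₂.zpow_mem (h.le₂ h.hu) k))⟩, ?_⟩, k,
    (inv_mul_cancel_right _ _).symm⟩
  have h1 : cj x (e * (u₀ ^ k)⁻¹) = e * (u₀ ^ k)⁻¹ := by
    have e1 : cj x (e * (u₀ ^ k)⁻¹) = cj x e * (cj x (u₀ ^ k))⁻¹ := by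
      simp only [cj_apply]; group
    have e2 : cj x e = z₀ ^ k * e := by rw [hk, inv_mul_cancel_right]
    have e3 : z₀ ^ k * e = e * z₀ ^ k :=
      (show Commute z₀ e from h.z_comm (h.m₁.le he.1)).zpow_left k
    rw [e1, e2, h.cj_u_zpow, mul_inv_rev, e3]
    have e4 : (u₀ ^ k)⁻¹ * (z₀ ^ k)⁻¹ = (z₀ ^ k)⁻¹ * (u₀ ^ k)⁻¹ :=
      ((show Commute z₀ u₀ from h.z_comm (h.m₁.le (h.plane.le_E h.hu))).zpow_zpow k k).symm.inv_inv
    rw [e4]; group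
  rw [cj_apply, mul_inv_eq_iff_eq_mul] at h1
  exact h1.symm

theorem exists_decomp₂ (h : B1 F p 𝔈 E₁ U E₂ x u₀ z₀) {e : Ω} (he : e ∈ E₂) :
    ∃ d ∈ h.D, ∃ k l : ℤ, e = d * u₀ ^ k * x ^ l := by
  obtain ⟨e', he', l, rfl⟩ := h.m₁.exists_eq_mul h.hxS h.hx₁ (h.m₂.le he)
  have he2 : e' ∈ E₂ := by
    have := E₂.mul_mem he (E₂.inv_mem (E₂.zpow_mem h.hx₂ l))
    rwa [mul_inv_cancel_right] at this
  obtain ⟨d, hd, k, rfl⟩ := h.exists_decomp ⟨he', he2⟩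
  exact ⟨d, hd, k, l, rfl⟩

theorem closure_eq (h : B1 F p 𝔈 E₁ U E₂ x u₀ z₀) :
    Subgroup.closure ((h.D : Set Ω) ∪ {u₀, x}) = E₂ := by
  refine le_antisymm ((Subgroup.closure_le _).mpr ?_) fun e he => ?_
  · rintro y (hy | rfl | rfl)
    · exact (h.mem_D.mp hy).1.2
    · exact h.le₂ h.hu
    · exact h.hx₂
  · obtain ⟨d, hd, k, l, rfl⟩ := h.exists_decomp₂ he
    refine mul_mem (mul_mem (Subgroup.subset_closure (Or.inl hd))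
      (zpow_mem (Subgroup.subset_closure (show u₀ ∈ (h.D : Set Ω) ∪ {u₀, x} from Or.inr (Or.inl rfl))) k))
      (zpow_mem (Subgroup.subset_closure (show x ∈ (h.D : Set Ω) ∪ {u₀, x} from Or.inr (Or.inr rfl))) l)

theorem cj_D (h : B1 F p 𝔈 E₁ U E₂ x u₀ z₀) {d d' : Ω} (hd : d ∈ h.D) (hd' : d' ∈ h.D) :
    cj d d' ∈ h.D := h.D.mul_mem (h.D.mul_mem hd hd') (h.D.inv_mem hd)

theorem comm_u (h : B1 F p 𝔈 E₁ U E₂ x u₀ z₀) {d : Ω} (hd : d ∈ h.D) : u₀ * d = d * u₀ :=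
  h.plane.commute h.hu (h.mem_D.mp hd).1.1

/-- `D` is generated by `z₀` and one further element, and is abelian. -/
theorem exists_gen (h : B1 F p 𝔈 E₁ U E₂ x u₀ z₀) :
    ∃ d₀ ∈ h.D, h.D = (U ⊓ OmZ p S) ⊔ Subgroup.zpowers d₀ := by
  have hS := h.ctx.hS
  have hDE₂ : h.D ≤ E₂ := fun d hd => (h.mem_D.mp hd).1.2
  have hDS : h.D ≤ S := hDE₂.trans h.m₂.le
  haveI := finite_of_le hDS
  have hDp : IsPGroup p h.D := hS.to_le hDS
  let Φ : Subgroup Ω := (frattini h.D).map h.D.subtype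
  let N : Subgroup Ω := (U ⊓ OmZ p S) ⊔ Φ
  have hND : N ≤ h.D := sup_le h.zu_le_D (Subgroup.map_subtype_le _)
  have hΦc : ∀ d ∈ h.D, ∀ y ∈ Φ, cj d y ∈ Φ := by
    rintro d hd _ ⟨y, hy, rfl⟩
    exact ⟨_, (inferInstance : (frattini h.D).Normal).conj_mem y hy ⟨d, hd⟩, rfl⟩
  have hzfix : ∀ g ∈ S, ∀ y ∈ U ⊓ OmZ p S, cj g y = y := fun g hg y hy => by
    rw [cj_apply, ← hy.2.2.2 g hg, mul_inv_cancel_right]
  have hn : ∀ k ∈ E₂, ∀ y ∈ N, cj k y ∈ N := by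
    intro k hk y hy
    have key : ∀ g ∈ (h.D : Set Ω) ∪ {u₀, x}, ∀ y ∈ N, cj g y ∈ N := by
      intro g hg y hy
      rcases hg with hg | rfl | rfl
      · have hle : N ≤ N.comap (MulAut.conj g).toMonoidHom := sup_le
          (fun z hz => Subgroup.mem_sup_left (by
            show cj g z ∈ _; rw [hzfix g (hDS hg) z hz]; exact hz))
          (fun z hz => Subgroup.mem_sup_right (hΦc g hg z hz))
        exact hle hy
      · rw [cj_apply, h.comm_u (hND hy), mul_inv_cancel_right]; exact hy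
      · rw [cj_apply, ← (h.mem_D.mp (hND hy)).2, mul_inv_cancel_right]; exact hy
    rw [← h.closure_eq] at hk
    haveI := finite_of_le (hND.trans hDS)
    induction hk using Subgroup.closure_induction generalizing y with
    | mem g hg => exact key g hg y hy
    | one => rwa [cj_one]
    | mul a b _ _ iha ihb => rw [← cj_cj]; exact iha _ (ihb y hy)
    | inv a ha iha =>
      have haS : a ∈ S := h.m₂.le (h.closure_eq.le ha)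
      have hmap : N.map (MulAut.conj a).toMonoidHom = N := by
        refine Subgroup.eq_of_le_of_card_ge ?_ (Subgroup.card_map_of_injective
          (MulAut.conj a).injective).ge
        rintro _ ⟨z, hz, rfl⟩
        exact iha z hz
      obtain ⟨z, hz, e⟩ := hmap.ge hy
      rw [← e]
      show cj a⁻¹ (cj a z) ∈ N
      rwa [cj_inv_cj]
  have hzN : z₀ ∈ N := Subgroup.mem_sup_left h.hzZ
  have hcu : cj x u₀ * u₀⁻¹ ∈ N := by rw [← h.hz]; exact hzN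
  have hcomm : ∀ a ∈ (h.D : Set Ω) ∪ {u₀, x}, ∀ b ∈ (h.D : Set Ω) ∪ {u₀, x},
      a * b * a⁻¹ * b⁻¹ ∈ N := by
    have one : ∀ a b : Ω, a * b = b * a → a * b * a⁻¹ * b⁻¹ ∈ N := fun a b e => by
      rw [e, mul_inv_cancel_right, mul_inv_cancel]; exact N.one_mem
    have hux : u₀ * x * u₀⁻¹ * x⁻¹ ∈ N := by
      have h2 := N.inv_mem hcu
      rwa [cj_apply, show (x * u₀ * x⁻¹ * u₀⁻¹)⁻¹ = u₀ * x * u₀⁻¹ * x⁻¹ by group] at h2
    rintro a (ha | ha | ha) b (hb | hb | hb)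
    · refine Subgroup.mem_sup_right
        ⟨⁅(⟨a, ha⟩ : h.D), ⟨b, hb⟩⁆, PGroupsBasic.commutator_le_frattini hDp
          (Subgroup.commutator_mem_commutator (Subgroup.mem_top _) (Subgroup.mem_top _)), ?_⟩
      simp [commutatorElement_def]
    · subst hb; exact one _ _ (h.comm_u ha).symm
    · subst hb; exact one _ _ (h.mem_D.mp ha).2
    · subst ha; exact one _ _ (h.comm_u hb)
    · subst ha; subst hb; exact one _ _ rfl
    · subst ha; subst hb; exact hux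
    · subst ha; exact one _ _ (h.mem_D.mp hb).2.symm
    · subst ha; subst hb; rw [← cj_apply]; exact hcu
    · subst ha; subst hb; exact one _ _ rfl
  have hpow : ∀ a ∈ (h.D : Set Ω) ∪ {u₀, x}, a ^ p ∈ N := by
    rintro a (ha | ha | ha)
    · exact Subgroup.mem_sup_right
        ⟨(⟨a, ha⟩ : h.D) ^ p, PGroupsBasic.pow_mem_frattini hDp _, rfl⟩
    · subst ha; rw [h.plane.pow_p h.hu]; exact N.one_mem
    · subst ha; rw [h.hxp]; exact N.one_mem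
  have hn' : ∀ k ∈ Subgroup.closure ((h.D : Set Ω) ∪ {u₀, x}), ∀ y ∈ N, cj k y ∈ N := by
    rw [h.closure_eq]; exact hn
  have hc1 := gen_comm hn' hcomm
  have hp1 := gen_pow hn' hcomm hpow
  rw [h.closure_eq] at hc1 hp1
  have hcard := section_card h.ctx.rk h.m₂.le (hND.trans hDE₂) hn hc1 hp1
  -- `E₂` is at least `p ^ 2` times as large as `D`
  have hlow : p * (p * Nat.card h.D) ≤ Nat.card E₂ := by
    have h1 : h.D < E₁ ⊓ E₂ := lt_of_le_not_ge (fun d hd => (h.mem_D.mp hd).1)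
      fun e => h.u_not_D (e ⟨h.plane.le_E h.hu, h.le₂ h.hu⟩)
    have h2 : E₁ ⊓ E₂ < E₂ := lt_of_le_not_ge inf_le_right fun e => h.hx₁ (e h.hx₂).1
    exact (Nat.mul_le_mul_left p (mul_card_le_of_lt hS (inf_le_right.trans h.m₂.le) h1)).trans
      (mul_card_le_of_lt hS h.m₂.le h2)
  have hND' : Nat.card h.D ≤ p * Nat.card N := by
    refine Nat.le_of_mul_le_mul_left ?_ (Nat.mul_pos (Fact.out : p.Prime).pos
      (Fact.out : p.Prime).pos)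
    calc p * p * Nat.card h.D = p * (p * Nat.card h.D) := mul_assoc _ _ _
      _ ≤ p ^ 3 * Nat.card N := hlow.trans hcard
      _ = p * p * (p * Nat.card N) := by ring
  have top_of : ∀ K : Subgroup Ω, N ≤ K → ∀ d ∈ h.D, d ∉ N → d ∈ K → K ≤ h.D → K = h.D := by
    intro K hNK d hd hdN hdK hKD
    refine eq_of_le_of_card_ge hDS hKD (hND'.trans (mul_card_le_of_lt hS (hKD.trans hDS) ?_))
    exact lt_of_le_not_ge hNK fun e => hdN (e hdK)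
  obtain ⟨d₀, hd₀, hgen⟩ : ∃ d₀ ∈ h.D, N ⊔ Subgroup.zpowers d₀ = h.D := by
    by_cases hall : h.D ≤ N
    · exact ⟨1, one_mem _, by rw [Subgroup.zpowers_one_eq_bot, sup_bot_eq]; exact le_antisymm hND hall⟩
    · obtain ⟨d, hd, hdN⟩ := SetLike.not_le_iff_exists.mp hall
      exact ⟨d, hd, top_of _ le_sup_left d hd hdN (Subgroup.mem_sup_right (Subgroup.mem_zpowers d))
        (sup_le hND (Subgroup.zpowers_le.mpr hd))⟩
  refine ⟨d₀, hd₀, ?_⟩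
  have hR : (U ⊓ OmZ p S) ⊔ Subgroup.zpowers d₀ ≤ h.D :=
    sup_le h.zu_le_D (Subgroup.zpowers_le.mpr hd₀)
  have htop : ((U ⊓ OmZ p S) ⊔ Subgroup.zpowers d₀).subgroupOf h.D = ⊤ := by
    refine frattini_nongenerating ?_
    refine eq_top_iff.mpr fun d _ => ?_
    have hd : (d : Ω) ∈ ((U ⊓ OmZ p S) ⊔ Subgroup.zpowers d₀) ⊔ Φ := by
      rw [sup_right_comm]; exact hgen.ge d.2
    have hmap : (((U ⊓ OmZ p S) ⊔ Subgroup.zpowers d₀).subgroupOf h.D ⊔ frattini h.D).map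
        h.D.subtype = ((U ⊓ OmZ p S) ⊔ Subgroup.zpowers d₀) ⊔ Φ := by
      rw [Subgroup.map_sup, Subgroup.subgroupOf_map_subtype, inf_eq_left.mpr hR]
    rw [← hmap] at hd
    obtain ⟨d', hd', e⟩ := hd
    rwa [Subtype.ext e] at hd'
  exact le_antisymm (Subgroup.subgroupOf_eq_top.mp htop) hR

theorem D_comm (h : B1 F p 𝔈 E₁ U E₂ x u₀ z₀) {a b : Ω} (ha : a ∈ h.D) (hb : b ∈ h.D) :
    a * b = b * a := by
  obtain ⟨d₀, hd₀, hgen⟩ := h.exists_gen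
  have hd₀S : d₀ ∈ S := h.m₂.le (h.mem_D.mp hd₀).1.2
  rw [hgen, Subgroup.sup_eq_closure] at ha hb
  refine commute_closure ?_ a ha b hb
  rintro a (ha | ⟨m, rfl⟩) b (hb | ⟨n, rfl⟩)
  · exact ha.2.2.2 b hb.2.1
  · exact ha.2.2.2 _ (S.zpow_mem hd₀S n)
  · exact (hb.2.2.2 _ (S.zpow_mem hd₀S m)).symm
  · exact (Commute.refl d₀).zpow_zpow m n

/-- `D` is central in `E₂`. -/
theorem D_central (h : B1 F p 𝔈 E₁ U E₂ x u₀ z₀) {d e : Ω} (hd : d ∈ h.D) (he : e ∈ E₂) :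
    d * e = e * d := by
  have hle : E₂ ≤ Subgroup.centralizer ({d} : Set Ω) := by
    rw [← h.closure_eq, Subgroup.closure_le]
    rintro y (hy | rfl | rfl) <;> rw [SetLike.mem_coe, Subgroup.mem_centralizer_singleton_iff]
    · exact h.D_comm hy hd
    · exact h.comm_u hd
    · exact (h.mem_D.mp hd).2.symm
  exact (Subgroup.mem_centralizer_singleton_iff.mp (hle he)).symm

theorem comm_mem₂ (h : B1 F p 𝔈 E₁ U E₂ x u₀ z₀) {a b : Ω} (ha : a ∈ E₂) (hb : b ∈ E₂) :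
    a * b * a⁻¹ * b⁻¹ ∈ U ⊓ OmZ p S := by
  have hfix : ∀ k ∈ Subgroup.closure ((h.D : Set Ω) ∪ {u₀, x}), ∀ y ∈ U ⊓ OmZ p S,
      cj k y ∈ U ⊓ OmZ p S := fun k hk y hy => by
    rw [cj_apply, ← hy.2.2.2 k (h.m₂.le (h.closure_eq.le hk)), mul_inv_cancel_right]; exact hy
  refine gen_comm hfix ?_ a (h.closure_eq.ge ha) b (h.closure_eq.ge hb)
  have one : ∀ a b : Ω, a * b = b * a → a * b * a⁻¹ * b⁻¹ ∈ U ⊓ OmZ p S := fun a b e => by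
    rw [e, mul_inv_cancel_right, mul_inv_cancel]; exact one_mem _
  have hmem : ∀ y ∈ ({u₀, x} : Set Ω), y ∈ E₂ := by
    rintro y (rfl | rfl)
    exacts [h.le₂ h.hu, h.hx₂]
  have hxu : x * u₀ * x⁻¹ * u₀⁻¹ ∈ U ⊓ OmZ p S := by rw [← cj_apply, ← h.hz]; exact h.hzZ
  rintro a (ha | ha) b (hb | hb)
  · exact one _ _ (h.D_comm ha hb)
  · exact one _ _ (h.D_central ha (hmem _ hb))
  · exact one _ _ (h.D_central hb (hmem _ ha)).symm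
  · rcases ha with ha | ha <;> rcases hb with hb | hb <;> rw [ha, hb]
    · exact one _ _ rfl
    · have h2 := inv_mem hxu
      rwa [show (x * u₀ * x⁻¹ * u₀⁻¹)⁻¹ = u₀ * x * u₀⁻¹ * x⁻¹ by group] at h2
    · exact hxu
    · exact one _ _ rfl

theorem inv_zu (h : B1 F p 𝔈 E₁ U E₂ x u₀ z₀) : Inv F E₂ (U ⊓ OmZ p S) := by
  intro α _ y hy
  rw [← h.zu_eq] at hy
  obtain ⟨k, rfl⟩ := Subgroup.mem_zpowers_iff.mp hy
  have hu₂ := h.le₂ h.hu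
  have hzE : z₀ ∈ E₂ := h.le₂ h.hzZ.1
  rw [afun_zpow α hzE]
  refine Subgroup.zpow_mem _ ?_ k
  rw [h.hz, cj_apply, afun_map_mul α (E₂.mul_mem (E₂.mul_mem h.hx₂ hu₂) (E₂.inv_mem h.hx₂))
    (E₂.inv_mem hu₂), afun_map_mul α (E₂.mul_mem h.hx₂ hu₂) (E₂.inv_mem h.hx₂),
    afun_map_mul α h.hx₂ hu₂, afun_map_inv' α h.hx₂, afun_map_inv' α hu₂]
  exact h.comm_mem₂ (afun_mem α h.hx₂) (afun_mem α hu₂)

theorem inv_D (h : B1 F p 𝔈 E₁ U E₂ x u₀ z₀) : Inv F E₂ h.D := by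
  intro α _ d hd
  have hd₂ := (h.mem_D.mp hd).1.2
  have hy := afun_mem α hd₂
  have hcomm : ∀ e ∈ E₂, afun α d * e = e * afun α d := fun e he => by
    conv_lhs => rw [← afun_apply_inv α he]
    conv_rhs => rw [← afun_apply_inv α he]
    rw [← afun_map_mul α hd₂ (afun_mem _ he), ← afun_map_mul α (afun_mem _ he) hd₂,
      h.D_central hd (afun_mem _ he)]
  refine h.mem_D.mpr ⟨⟨?_, hy⟩, hcomm x h.hx₂⟩
  by_contra hn
  refine h.u_not_zu (h.plane.mem_zu h.m₁ (h.m₂.le hy) hn h.hu ?_)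
  rw [cj_apply, hcomm u₀ (h.le₂ h.hu), mul_inv_cancel_right]

theorem D_normal (h : B1 F p 𝔈 E₁ U E₂ x u₀ z₀) {g d : Ω} (hg : g ∈ S) (hd : d ∈ h.D) :
    cj g d ∈ h.D :=
  h.m₂.cj_mem_of_inv (fun d hd => (h.mem_D.mp hd).1.2) h.inv_D hg hd

end B1

end Cfsg.Agent.Rank3
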