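import Cfsg.Agent.Lib.Rank3Found34b
import Cfsg.Agent.Lib.Rank3CaseB34Base
import Cfsg.Agent.Lib.Rank3CaseB34OneData
import Cfsg.Agent.Lib.Rank3CaseB34One
import Cfsg.Agent.Lib.FusionAbelianIndexP89

/-!
Case A of the rank three engine: a central element of order `p` of `E₁` lies outside `E₂`. The
subgroup `C = Q ⊓ αQ` of `E₂`, and an involution inverting `E₂ / C`.
-/

set_option autoImplicit false
set_option linter.unusedSectionVars false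

namespace Cfsg.Agent.Rank3

open scoped commutatorElement Pointwise
open Cfsg.FusionSystem Cfsg.Agent.FusionSysBasic Cfsg.Agent.FusionSysSaturated
  Cfsg.Agent.FusionSysNormal Cfsg.Agent.FusionSysAlperin

universe u

variable {Ω : Type u} [Group Ω] {S : Subgroup Ω} {F : FusionSystem S} {p : ℕ}
  [Finite S] [Fact p.Prime] {E : Subgroup Ω}

/-- A `p`-subgroup of `Aut_F(E)` containing the conjugation by an element outside `E` consists of
automorphisms induced by `S`. -/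
theorem Max.le_autInducedBy (h : Max F p E) (hS : IsPGroup p S) (hF : F.IsSaturated p)
    {P : Subgroup (MulAut E)} (hP : P ≤ F.autGroup E) (hPp : IsPGroup p P) {v : Ω} (hv : v ∈ S)
    (hvE : v ∉ E) (hvP : h.conjAut hv ∈ P) : P ≤ autInducedBy S E := by
  haveI := h.finite
  haveI hfin : Finite (F.autGroup E) := finite_autGroup E
  have hIp : IsPGroup p (Inn E) := (isPGroup_autInducedBy hS E).to_le (inn_le_autInducedBy h.le)
  have hnorm : P ≤ Subgroup.normalizer (Inn E : Set (MulAut E)) :=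
    le_top.trans (Subgroup.normalizer_eq_top_iff.mpr inferInstance).ge
  have hX : IsPGroup p ↥(P ⊔ Inn E) := IsPGroup.to_sup_of_normal_right' hPp hIp hnorm
  have hTX : autInducedBy S E ≤ P ⊔ Inn E := by
    intro α hα
    obtain ⟨g, hg, -, he⟩ := mem_autInducedBy.mp hα
    let φ : S →* MulAut E := MonoidHom.mk' (fun g => h.conjAut g.2) fun a b =>
      afun_ext fun y hy => by
        rw [afun_mul _ _ hy, h.afun_conjAut _ hy, h.afun_conjAut _ hy,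
          h.afun_conjAut _ (h.normal b b.2 y hy), cj_cj]
        rfl
    have hle : S ≤ ((P ⊔ Inn E).comap φ).map S.subtype := by
      conv_lhs => rw [← h.sup_zpowers hv hvE]
      refine sup_le (fun e he => ⟨⟨e, h.le he⟩, Subgroup.mem_sup_right ?_, rfl⟩)
        (Subgroup.zpowers_le.mpr ⟨⟨v, hv⟩, Subgroup.mem_sup_left hvP, rfl⟩)
      refine ⟨⟨e, he⟩, afun_ext fun y hy => ?_⟩
      show afun (MulAut.conj (⟨e, he⟩ : E)) y = afun (h.conjAut (h.le he)) y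
      rw [h.afun_conjAut _ hy, afun_apply _ hy]
      rfl
    obtain ⟨g', hg', e⟩ := hle hg
    obtain rfl : g' = ⟨g, hg⟩ := Subtype.ext e
    have e2 : α = φ ⟨g, hg⟩ :=
      afun_ext fun y hy => (he y hy).trans (h.afun_conjAut hg hy).symm
    exact e2 ▸ hg'
  obtain ⟨-, P₀, hP₀⟩ := fullyAutomized_of_fullyNormalized hS hF h.fullyNormalized
  have hXA : P ⊔ Inn E ≤ F.autGroup E := sup_le hP (inn_le_autGroup h.le)
  have hX' : IsPGroup p ((P ⊔ Inn E).subgroupOf (F.autGroup E)) :=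
    hX.of_equiv (Subgroup.subgroupOfEquivOfLe hXA).symm
  have hmax := P₀.3 hX' (by rw [hP₀]; exact Subgroup.comap_mono hTX)
  intro m hm
  have h1 : (⟨m, hP hm⟩ : F.autGroup E) ∈ (P ⊔ Inn E).subgroupOf (F.autGroup E) :=
    Subgroup.mem_sup_left hm
  rw [hmax, hP₀] at h1
  exact h1

/-- The data of case A. -/
structure CA (F : FusionSystem S) (p : ℕ) (E₁ E₂ : Subgroup Ω) (v : Ω) (α : MulAut E₂) :
    Prop where
  hp : Odd p
  hS : IsPGroup p S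
  hF : F.IsSaturated p
  m₁ : Max F p E₁
  m₂ : Max F p E₂
  hv : v ∈ OmZ p E₁
  hv₂ : v ∉ E₂
  hα : α ∈ F.autGroup E₂
  hb : ∀ a : MulAut E₂, (∀ x ∈ E₂, afun a x = cj v x) → α * a * α⁻¹ ∉ autInducedBy S E₂

theorem exists_ca (hp : Odd p) (hS : IsPGroup p S) (hF : F.IsSaturated p) {E₁ E₂ : Subgroup Ω}
    (m₁ : Max F p E₁) (m₂ : Max F p E₂) {v : Ω} (hv : v ∈ OmZ p E₁) (hv₂ : v ∉ E₂) :
    ∃ α, CA F p E₁ E₂ v α := by
  by_contra hcon
  have hvS : v ∈ S := m₁.le hv.1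
  have hall : ∀ α ∈ F.autGroup E₂, α * m₂.conjAut hvS * α⁻¹ ∈ autInducedBy S E₂ := fun α hα =>
    by_contra fun hb => hcon ⟨α, hp, hS, hF, m₁, m₂, hv, hv₂, hα, fun a ha => by
      rwa [show a = m₂.conjAut hvS from afun_ext fun x hx => (ha x hx).trans (m₂.afun_conjAut hvS hx).symm]⟩
  let A : Subgroup (MulAut E₂) :=
    Subgroup.closure {m | ∃ α ∈ F.autGroup E₂, α * m₂.conjAut hvS * α⁻¹ = m}
  have hAT : A ≤ autInducedBy S E₂ :=
    (Subgroup.closure_le _).mpr (by rintro m ⟨α, hα, rfl⟩; exact hall α hα)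
  have hA : A ≤ Inn E₂ := m₂.stabilizer_le_inn hS (hAT.trans (autInducedBy_le m₂.le))
    ((isPGroup_autInducedBy hS E₂).to_le hAT) fun α hα m hm => by
      have hle : A.map (MulAut.conj α).toMonoidHom ≤ A := by
        rw [MonoidHom.map_closure]
        refine Subgroup.closure_mono ?_
        rintro _ ⟨_, ⟨β, hβ, rfl⟩, rfl⟩
        exact ⟨α * β, mul_mem hα hβ, by simp [mul_assoc]⟩
      exact hle ⟨m, hm, rfl⟩
  exact hv₂ (m₂.mem_of_conjAut_inn hvS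
    (hA (Subgroup.subset_closure ⟨1, one_mem _, by simp⟩)))

namespace CA

variable {E₁ E₂ : Subgroup Ω} {v : Ω} {α : MulAut E₂}

theorem hvS (h : CA F p E₁ E₂ v α) : v ∈ S := h.m₁.le h.hv.1

/-- The conjugation by `v`. -/
def a (h : CA F p E₁ E₂ v α) : MulAut E₂ := h.m₂.conjAut h.hvS

/-- A conjugate of it. -/
def b (h : CA F p E₁ E₂ v α) : MulAut E₂ := α * h.a * α⁻¹

/-- The common part of `E₁ ⊓ E₂` and its image. -/
def C (_ : CA F p E₁ E₂ v α) : Subgroup Ω := (E₁ ⊓ E₂) ⊓ img α (E₁ ⊓ E₂)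

theorem a_mem (h : CA F p E₁ E₂ v α) : h.a ∈ F.autGroup E₂ := h.m₂.conjAut_mem h.hvS

theorem b_mem (h : CA F p E₁ E₂ v α) : h.b ∈ F.autGroup E₂ :=
  mul_mem (mul_mem h.hα h.a_mem) (inv_mem h.hα)

theorem a_mem_opp (h : CA F p E₁ E₂ v α) : h.a ∈ opp F p E₂ :=
  h.m₂.conjAut_mem_opp h.hS h.hvS

theorem b_mem_opp (h : CA F p E₁ E₂ v α) : h.b ∈ opp F p E₂ := h.m₂.opp_conj h.hα h.a_mem_opp

theorem a_fix (h : CA F p E₁ E₂ v α) {y : Ω} (hy : y ∈ E₁ ⊓ E₂) : afun h.a y = y := by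
  rw [a, h.m₂.afun_conjAut h.hvS hy.2, cj_apply, h.hv.2.2 y hy.1, mul_inv_cancel_right]

theorem a_step (h : CA F p E₁ E₂ v α) {y : Ω} (hy : y ∈ E₂) :
    y⁻¹ * afun h.a y ∈ E₁ ⊓ E₂ := by
  rw [a, h.m₂.afun_conjAut h.hvS hy]
  refine ⟨?_, E₂.mul_mem (E₂.inv_mem hy) (h.m₂.normal v h.hvS y hy)⟩
  have e : y⁻¹ * cj v y = cj y⁻¹ v * v⁻¹ := by simp only [cj_apply]; group
  rw [e]
  exact E₁.mul_mem (h.m₁.normal _ (S.inv_mem (h.m₂.le hy)) v h.hv.1) (E₁.inv_mem h.hv.1)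

theorem b_fix (h : CA F p E₁ E₂ v α) {y : Ω} (hy : y ∈ img α (E₁ ⊓ E₂)) : afun h.b y = y := by
  obtain ⟨x, hx, rfl⟩ := (mem_img inf_le_right).mp hy
  rw [b, afun_mul _ _ (afun_mem α hx.2), afun_inv_apply α hx.2, afun_mul _ _ hx.2, h.a_fix hx]

theorem b_step (h : CA F p E₁ E₂ v α) {y : Ω} (hy : y ∈ E₂) :
    y⁻¹ * afun h.b y ∈ img α (E₁ ⊓ E₂) := by
  have hx := afun_mem α⁻¹ hy
  have := afun_mem_img α inf_le_right (h.a_step hx)
  rwa [afun_map_mul α (E₂.inv_mem hx) (afun_mem _ hx), afun_map_inv' α hx, afun_apply_inv α hy,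
    ← afun_mul α h.a hx, ← afun_mul (α * h.a) α⁻¹ hy] at this

/-- The group generated by the two conjugations. -/
def K (h : CA F p E₁ E₂ v α) : Subgroup (MulAut E₂) := Subgroup.closure {h.a, h.b}

theorem K_le (h : CA F p E₁ E₂ v α) : h.K ≤ F.autGroup E₂ :=
  (Subgroup.closure_le _).mpr (by rintro m (rfl | rfl); exacts [h.a_mem, h.b_mem])

theorem K_le_opp (h : CA F p E₁ E₂ v α) : h.K ≤ opp F p E₂ :=
  (Subgroup.closure_le _).mpr (by rintro m (rfl | rfl); exacts [h.a_mem_opp, h.b_mem_opp])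

theorem not_isPGroup (h : CA F p E₁ E₂ v α) : ¬ IsPGroup p h.K := fun hK =>
  h.hb h.a (fun x hx => h.m₂.afun_conjAut h.hvS hx) (h.m₂.le_autInducedBy h.hS h.hF h.K_le hK h.hvS h.hv₂
    (Subgroup.subset_closure (Or.inl rfl)) (Subgroup.subset_closure (Or.inr rfl)))

theorem C_le (h : CA F p E₁ E₂ v α) : h.C ≤ E₂ := inf_le_left.trans inf_le_right

theorem C_le₁ (h : CA F p E₁ E₂ v α) : h.C ≤ E₁ := inf_le_left.trans inf_le_left

theorem K_fix (h : CA F p E₁ E₂ v α) {m : MulAut E₂} (hm : m ∈ h.K) {c : Ω} (hc : c ∈ h.C) :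
    afun m c = c := by
  induction hm using Subgroup.closure_induction with
  | mem g hg =>
    rcases hg with rfl | rfl
    exacts [h.a_fix hc.1, h.b_fix hc.2]
  | one => exact afun_one (h.C_le hc)
  | mul g g' _ _ ih ih' => rw [afun_mul _ _ (h.C_le hc), ih', ih]
  | inv g _ ih => nth_rewrite 1 [← ih]; exact afun_inv_apply g (h.C_le hc)

theorem Q_normal (h : CA F p E₁ E₂ v α) : ∀ e ∈ E₂, ∀ x ∈ E₁ ⊓ E₂, cj e x ∈ E₁ ⊓ E₂ :=
  fun e he x hx => ⟨h.m₁.normal e (h.m₂.le he) x hx.1, h.m₂.normal e (h.m₂.le he) x hx.2⟩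

theorem C_normal (h : CA F p E₁ E₂ v α) {e : Ω} (he : e ∈ E₂) {x : Ω} (hx : x ∈ h.C) :
    cj e x ∈ h.C :=
  ⟨h.Q_normal e he x hx.1, img_cj_mem α inf_le_right h.Q_normal he hx.2⟩

theorem card_Q (h : CA F p E₁ E₂ v α) : p * Nat.card ↥(E₁ ⊓ E₂) = Nat.card E₂ := by
  have hQS : E₁ ⊓ E₂ ≤ S := inf_le_right.trans h.m₂.le
  have he : Nat.card E₁ = Nat.card E₂ :=
    Nat.eq_of_mul_eq_mul_left (Fact.out : p.Prime).pos (h.m₁.card_eq.symm.trans h.m₂.card_eq)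
  rw [← he]
  refine le_antisymm (mul_card_le_of_lt h.hS h.m₁.le
    (lt_of_le_not_ge inf_le_left fun e => h.hv₂ (e h.hv.1).2)) ?_
  haveI : Finite ↥((E₁ ⊓ E₂) ⊔ Subgroup.zpowers v) :=
    finite_of_le (sup_le hQS (Subgroup.zpowers_le.mpr h.hvS))
  have hle : E₁ ≤ (E₁ ⊓ E₂) ⊔ Subgroup.zpowers v := by
    intro e he
    obtain ⟨e', he', k, rfl⟩ := h.m₂.exists_eq_mul h.hvS h.hv₂ (h.m₁.le he)
    have h1 : e' ∈ E₁ := by
      have := E₁.mul_mem he (E₁.inv_mem (E₁.zpow_mem h.hv.1 k))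
      rwa [mul_inv_cancel_right] at this
    exact mul_mem (Subgroup.mem_sup_left ⟨h1, he'⟩)
      (Subgroup.mem_sup_right (Subgroup.zpow_mem_zpowers v k))
  exact (Subgroup.card_le_of_le hle).trans (card_sup_zpowers_le hQS h.hvS
    (fun x hx => by rw [cj_apply, h.hv.2.2 x hx.1, mul_inv_cancel_right]; exact hx)
    (by rw [h.hv.2.1]; exact one_mem _))

theorem img_ne (h : CA F p E₁ E₂ v α) : img α (E₁ ⊓ E₂) ≠ E₁ ⊓ E₂ := by
  intro e
  haveI := h.m₂.finite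
  refine h.not_isPGroup ((FusionAbelianIndexP89.isPGroup_stab (h.hS.to_le h.m₂.le)
    (inf_le_right : E₁ ⊓ E₂ ≤ E₂)).to_le ((Subgroup.closure_le _).mpr ?_))
  rintro m (rfl | rfl)
  · exact ⟨fun x hx => h.a_fix hx, fun y hy => h.a_step hy⟩
  · exact ⟨fun x hx => h.b_fix (e.ge hx), fun y hy => e.le (h.b_step hy)⟩

theorem exists_y (h : CA F p E₁ E₂ v α) : ∃ y ∈ E₁ ⊓ E₂, y ∉ img α (E₁ ⊓ E₂) := by
  refine SetLike.not_le_iff_exists.mp fun hle => h.img_ne ?_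
  exact (eq_of_le_of_card_ge ((img_le _ _).trans h.m₂.le) hle (card_img α inf_le_right).le).symm

theorem exists_y' (h : CA F p E₁ E₂ v α) : ∃ y ∈ img α (E₁ ⊓ E₂), y ∉ E₁ ⊓ E₂ := by
  refine SetLike.not_le_iff_exists.mp fun hle => h.img_ne ?_
  exact eq_of_le_of_card_ge (inf_le_right.trans h.m₂.le) hle (card_img α inf_le_right).ge

theorem img_Q_normal (h : CA F p E₁ E₂ v α) {e x : Ω} (he : e ∈ E₂)
    (hx : x ∈ img α (E₁ ⊓ E₂)) : cj e x ∈ img α (E₁ ⊓ E₂) :=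
  img_cj_mem α inf_le_right h.Q_normal he hx

theorem pow_mem_Q (h : CA F p E₁ E₂ v α) {e : Ω} (he : e ∈ E₂) : e ^ p ∈ E₁ ⊓ E₂ := by
  haveI := h.m₂.finite
  haveI : ((E₁ ⊓ E₂).subgroupOf E₂).Normal := ⟨fun y hy g => by
    rw [Subgroup.mem_subgroupOf]; exact h.Q_normal g g.2 y hy⟩
  have hidx : ((E₁ ⊓ E₂).subgroupOf E₂).index = p := by
    have h1 := Subgroup.card_mul_index ((E₁ ⊓ E₂).subgroupOf E₂)
    rw [Nat.card_congr (Subgroup.subgroupOfEquivOfLe inf_le_right).toEquiv, ← h.card_Q,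
      mul_comm p] at h1
    haveI := finite_of_le (inf_le_right.trans h.m₂.le : E₁ ⊓ E₂ ≤ S)
    exact Nat.eq_of_mul_eq_mul_left Nat.card_pos h1
  have h3 := Subgroup.pow_index_mem ((E₁ ⊓ E₂).subgroupOf E₂) (⟨e, he⟩ : E₂)
  rw [hidx, Subgroup.mem_subgroupOf] at h3
  exact h3

theorem pow_mem_C (h : CA F p E₁ E₂ v α) {e : Ω} (he : e ∈ E₂) : e ^ p ∈ h.C := by
  refine ⟨h.pow_mem_Q he, ?_⟩
  have h1 := afun_mem_img α inf_le_right (h.pow_mem_Q (afun_mem α⁻¹ he))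
  rwa [afun_npow α (afun_mem _ he), afun_apply_inv α he] at h1

/-- Every element of `E₂` is `c * y ^ k * y' ^ l`. -/
theorem exists_decomp (h : CA F p E₁ E₂ v α) {y y' : Ω} (hy : y ∈ E₁ ⊓ E₂)
    (hy2 : y ∉ img α (E₁ ⊓ E₂)) (hy' : y' ∈ img α (E₁ ⊓ E₂)) (hy'2 : y' ∉ E₁ ⊓ E₂) :
    (∀ e ∈ E₁ ⊓ E₂, ∃ c ∈ h.C, ∃ k : ℤ, e = c * y ^ k) ∧
      (∀ e ∈ E₂, ∃ c ∈ h.C, ∃ k l : ℤ, e = c * y ^ k * y' ^ l) := by
  have hQS : E₁ ⊓ E₂ ≤ S := inf_le_right.trans h.m₂.le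
  have hWE : img α (E₁ ⊓ E₂) ≤ E₂ := img_le _ _
  have hsupW : img α (E₁ ⊓ E₂) ⊔ Subgroup.zpowers y = E₂ := by
    refine eq_of_le_of_card_ge h.m₂.le (sup_le hWE (Subgroup.zpowers_le.mpr hy.2)) ?_
    rw [← h.card_Q, ← card_img α (inf_le_right : E₁ ⊓ E₂ ≤ E₂)]
    exact mul_card_le_of_lt h.hS (sup_le (hWE.trans h.m₂.le) (Subgroup.zpowers_le.mpr (hQS hy)))
      (lt_of_le_not_ge le_sup_left fun e =>
        hy2 (e (Subgroup.mem_sup_right (Subgroup.mem_zpowers y))))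
  have hsupQ : (E₁ ⊓ E₂) ⊔ Subgroup.zpowers y' = E₂ := by
    refine eq_of_le_of_card_ge h.m₂.le (sup_le inf_le_right (Subgroup.zpowers_le.mpr (hWE hy'))) ?_
    rw [← h.card_Q]
    exact mul_card_le_of_lt h.hS (sup_le hQS (Subgroup.zpowers_le.mpr (h.m₂.le (hWE hy'))))
      (lt_of_le_not_ge le_sup_left fun e =>
        hy'2 (e (Subgroup.mem_sup_right (Subgroup.mem_zpowers y'))))
  have h1 : ∀ e ∈ E₁ ⊓ E₂, ∃ c ∈ h.C, ∃ k : ℤ, e = c * y ^ k := by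
    intro e he
    have he2 : e ∈ img α (E₁ ⊓ E₂) ⊔ Subgroup.zpowers y := hsupW.ge he.2
    rw [← SetLike.mem_coe, Subgroup.coe_mul_of_right_le_normalizer_left _ _
      (Subgroup.zpowers_le.mpr (mem_normalizer_of_cj_le (hWE.trans h.m₂.le)
        fun x hx => h.img_Q_normal hy.2 hx))] at he2
    obtain ⟨w, hw, z, ⟨k, rfl⟩, rfl⟩ := Set.mem_mul.mp he2
    have hwQ : w ∈ E₁ ⊓ E₂ := by
      have := (E₁ ⊓ E₂).mul_mem he ((E₁ ⊓ E₂).inv_mem ((E₁ ⊓ E₂).zpow_mem hy k))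
      rwa [mul_inv_cancel_right] at this
    exact ⟨w, ⟨hwQ, hw⟩, k, rfl⟩
  refine ⟨h1, fun e he => ?_⟩
  have he2 : e ∈ (E₁ ⊓ E₂) ⊔ Subgroup.zpowers y' := hsupQ.ge he
  rw [← SetLike.mem_coe, Subgroup.coe_mul_of_right_le_normalizer_left _ _
    (Subgroup.zpowers_le.mpr (mem_normalizer_of_cj_le hQS
      fun x hx => h.Q_normal y' (hWE hy') x hx))] at he2
  obtain ⟨q, hq, z, ⟨l, rfl⟩, rfl⟩ := Set.mem_mul.mp he2
  obtain ⟨c, hc, k, rfl⟩ := h1 q hq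
  exact ⟨c, hc, k, l, rfl⟩

end CA

end Cfsg.Agent.Rank3
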