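import Cfsg.Agent.Lib.Rank3CaseA34Data

/-!
Case A of the rank three engine: the involution inverting `E₂ / C` and centralising `C`.
-/

set_option autoImplicit false
set_option linter.unusedSectionVars false

namespace Cfsg.Agent.Rank3

open scoped commutatorElement Pointwise
open Cfsg.FusionSystem Cfsg.Agent.FusionSysBasic Cfsg.Agent.FusionSysSaturated
  Cfsg.Agent.FusionSysNormal Cfsg.Agent.FusionSysAlperin

universe u

variable {Ω : Type u} [Group Ω] {S : Subgroup Ω} {F : FusionSystem S} {p : ℕ}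
  [Finite S] [Fact p.Prime]

namespace CA

variable {E₁ E₂ : Subgroup Ω} {v : Ω} {α : MulAut E₂}

theorem comm_mem_C (h : CA F p E₁ E₂ v α) {e e' : Ω} (he : e ∈ E₂) (he' : e' ∈ E₂) :
    e * e' * e⁻¹ * e'⁻¹ ∈ h.C := by
  obtain ⟨y, hy, hy2⟩ := h.exists_y
  obtain ⟨y', hy', hy'2⟩ := h.exists_y'
  obtain ⟨-, hdec⟩ := h.exists_decomp hy hy2 hy' hy'2
  have hy'E : y' ∈ E₂ := img_le _ _ hy'
  have hT : ∀ t ∈ (h.C : Set Ω) ∪ {y, y'}, t ∈ E₂ := by
    rintro t (ht | rfl | rfl)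
    exacts [h.C_le ht, hy.2, hy'E]
  have hcl : ∀ e ∈ E₂, e ∈ Subgroup.closure ((h.C : Set Ω) ∪ {y, y'}) := fun e he => by
    obtain ⟨c, hc, k, l, rfl⟩ := hdec e he
    exact mul_mem (mul_mem (Subgroup.subset_closure (Or.inl hc))
      (zpow_mem (Subgroup.subset_closure
        (show y ∈ (h.C : Set Ω) ∪ {y, y'} from Or.inr (Or.inl rfl))) k))
      (zpow_mem (Subgroup.subset_closure
        (show y' ∈ (h.C : Set Ω) ∪ {y, y'} from Or.inr (Or.inr rfl))) l)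
  have hn : ∀ k ∈ Subgroup.closure ((h.C : Set Ω) ∪ {y, y'}), ∀ c ∈ h.C, cj k c ∈ h.C :=
    fun k hk c hc => h.C_normal ((Subgroup.closure_le _).mpr hT hk) hc
  have hyy : y * y' * y⁻¹ * y'⁻¹ ∈ h.C := by
    refine ⟨?_, ?_⟩
    · have := (E₁ ⊓ E₂).mul_mem hy (h.Q_normal y' hy'E _ ((E₁ ⊓ E₂).inv_mem hy))
      simpa [cj_apply, mul_assoc] using this
    · have := (img α (E₁ ⊓ E₂)).mul_mem (h.img_Q_normal hy.2 hy') ((img α (E₁ ⊓ E₂)).inv_mem hy')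
      simpa [cj_apply, mul_assoc] using this
  refine gen_comm hn ?_ e (hcl e he) e' (hcl e' he')
  have hC2 : ∀ c ∈ h.C, ∀ t ∈ E₂, c * t * c⁻¹ * t⁻¹ ∈ h.C := fun c hc t ht => by
    have := h.C.mul_mem hc (h.C_normal ht (h.C.inv_mem hc))
    simpa [cj_apply, mul_assoc] using this
  have hC3 : ∀ c ∈ h.C, ∀ t ∈ E₂, t * c * t⁻¹ * c⁻¹ ∈ h.C := fun c hc t ht =>
    h.C.mul_mem (h.C_normal ht hc) (h.C.inv_mem hc)
  have inv1 : ∀ a b : Ω, a * b * a⁻¹ * b⁻¹ ∈ h.C → b * a * b⁻¹ * a⁻¹ ∈ h.C := fun a b hab => by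
    have := h.C.inv_mem hab
    rwa [show (a * b * a⁻¹ * b⁻¹)⁻¹ = b * a * b⁻¹ * a⁻¹ by group] at this
  rintro a ha b hb
  rcases ha with ha | ha
  · exact hC2 a ha b (hT b hb)
  rcases hb with hb | hb
  · exact hC3 b hb a (hT a (Or.inr ha))
  have one : ∀ a : Ω, a * a * a⁻¹ * a⁻¹ ∈ h.C := fun a => by
    rw [mul_inv_cancel_right, mul_inv_cancel]; exact one_mem _
  rcases ha with ha | ha <;> rcases hb with hb | hb <;> rw [ha, hb]
  exacts [one _, hyy, inv1 _ _ hyy, one _]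

theorem C_normal' (h : CA F p E₁ E₂ v α) : (h.C.subgroupOf E₂).Normal :=
  ⟨fun c hc g => by rw [Subgroup.mem_subgroupOf]; exact h.C_normal g.2 hc⟩

theorem exists_inv_involution (h : CA F p E₁ E₂ v α) :
    (∃ j ∈ h.K, j * j = 1 ∧ ∀ e ∈ E₂, e * afun j e ∈ h.C) ∧
      ∃ e ∈ E₂, e⁻¹ * afun h.a e ∉ h.C := by
  haveI := h.m₂.finite
  haveI := h.C_normal'
  haveI : Finite (MulAut E₂) :=
    Finite.of_injective (fun f : MulAut E₂ => (f : E₂ → E₂)) DFunLike.coe_injective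
  let π := QuotientGroup.mk' (h.C.subgroupOf E₂)
  have hπ : ∀ {a b : Ω} (ha : a ∈ E₂) (hb : b ∈ E₂), a⁻¹ * b ∈ h.C → π ⟨a, ha⟩ = π ⟨b, hb⟩ :=
    fun ha hb hab => (QuotientGroup.eq).mpr (Subgroup.mem_subgroupOf.mpr hab)
  have hcomm : ∀ x x' : E₂, Commute (π x) (π x') := fun x x' => by
    rw [commute_iff_eq, ← map_mul, ← map_mul]
    refine QuotientGroup.eq.mpr (Subgroup.mem_subgroupOf.mpr ?_)
    have := h.comm_mem_C (E₂.inv_mem x'.2) (E₂.inv_mem x.2)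
    simpa [mul_inv_rev, mul_assoc] using this
  obtain ⟨y, hy, hy2⟩ := h.exists_y
  obtain ⟨y', hy', hy'2⟩ := h.exists_y'
  obtain ⟨hQdec, hdec⟩ := h.exists_decomp hy hy2 hy' hy'2
  have hy'E : y' ∈ E₂ := img_le _ _ hy'
  -- the two shears
  obtain ⟨c₁, hc₁, i, hi⟩ := hQdec _ (h.a_step hy'E)
  obtain ⟨c₂, hc₂, k, l, hk0⟩ := hdec _ (afun_mem h.b hy.2)
  set Y := π ⟨y, hy.2⟩ with hY
  set Y' := π ⟨y', hy'E⟩ with hY'
  have hπC : ∀ {c : Ω} (hc : c ∈ h.C), π ⟨c, h.C_le hc⟩ = 1 := fun hc =>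
    (QuotientGroup.eq_one_iff _).mpr (Subgroup.mem_subgroupOf.mpr hc)
  have mmem : ∀ m ∈ h.K, ∀ c ∈ h.C, afun m c ∈ h.C := fun m hm c hc => by
    rw [h.K_fix hm hc]; exact hc
  have hex : ∀ m : h.K, ∀ x x' : E₂, π x = π x' → π ((m : MulAut E₂) x) = π ((m : MulAut E₂) x') := by
    intro m x x' e
    have h1 : ((x⁻¹ * x' : E₂) : Ω) ∈ h.C := Subgroup.mem_subgroupOf.mp (QuotientGroup.eq.mp e)
    refine QuotientGroup.eq.mpr (Subgroup.mem_subgroupOf.mpr ?_)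
    rw [← map_inv, ← map_mul, ← afun_coe, h.K_fix m.2 h1]
    exact h1
  -- images of the two generators
  have haY : π (h.a ⟨y, hy.2⟩) = Y := congrArg π (Subtype.ext (by rw [← afun_coe]; exact h.a_fix hy))
  have haY' : π (h.a ⟨y', hy'E⟩) = Y' * Y ^ i := by
    have e : h.a ⟨y', hy'E⟩ = ⟨y', hy'E⟩ * ⟨c₁, h.C_le hc₁⟩ * ⟨y, hy.2⟩ ^ i := Subtype.ext (by
      rw [← afun_coe]
      show afun h.a y' = y' * c₁ * y ^ i
      rw [mul_assoc, ← hi, mul_inv_cancel_left])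
    rw [e, map_mul, map_mul, map_zpow, hπC hc₁, mul_one]
  have hbY' : π (h.b ⟨y', hy'E⟩) = Y' := congrArg π (Subtype.ext (by
    rw [← afun_coe]; exact h.b_fix hy'))
  obtain ⟨k, hbY⟩ : ∃ k : ℤ, π (h.b ⟨y, hy.2⟩) = Y * Y' ^ k := by
    obtain ⟨c₃, hc₃, k', l', hstep⟩ := hdec _ (img_le _ _ (h.b_step hy.2))
    have hk' : y ^ k' ∈ img α (E₁ ⊓ E₂) := by
      have h1 := h.b_step hy.2
      rw [hstep] at h1
      have h2 := (img α (E₁ ⊓ E₂)).mul_mem ((img α (E₁ ⊓ E₂)).inv_mem hc₃.2)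
        ((img α (E₁ ⊓ E₂)).mul_mem h1 ((img α (E₁ ⊓ E₂)).inv_mem
          ((img α (E₁ ⊓ E₂)).zpow_mem hy' l')))
      rwa [mul_inv_cancel_right, inv_mul_cancel_left] at h2
    have hk'C : π (⟨y, hy.2⟩ ^ k') = 1 :=
      (QuotientGroup.eq_one_iff _).mpr (Subgroup.mem_subgroupOf.mpr
        ⟨(E₁ ⊓ E₂).zpow_mem hy k', hk'⟩)
    refine ⟨l', ?_⟩
    have e : h.b ⟨y, hy.2⟩ =
        ⟨y, hy.2⟩ * ⟨c₃, h.C_le hc₃⟩ * ⟨y, hy.2⟩ ^ k' * ⟨y', hy'E⟩ ^ l' := Subtype.ext (by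
      rw [← afun_coe]
      show afun h.b y = y * c₃ * y ^ k' * y' ^ l'
      rw [mul_assoc, mul_assoc, ← mul_assoc c₃, ← hstep, mul_inv_cancel_left])
    rw [e, map_mul, map_mul, map_mul, map_zpow _ (⟨y', hy'E⟩ : E₂), hπC hc₃, hk'C, mul_one, mul_one]
  have hYp : Y ^ (p : ℤ) = 1 := by
    rw [zpow_natCast, hY, ← map_pow]
    exact (QuotientGroup.eq_one_iff _).mpr (Subgroup.mem_subgroupOf.mpr (h.pow_mem_C hy.2))
  have hY'p : Y' ^ (p : ℤ) = 1 := by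
    rw [zpow_natCast, hY', ← map_pow]
    exact (QuotientGroup.eq_one_iff _).mpr (Subgroup.mem_subgroupOf.mpr (h.pow_mem_C hy'E))
  -- determined by the images of `y` and `y'`
  have hdet : ∀ (m : h.K) (e : Ω) (he : e ∈ E₂), ∃ r s : ℤ, π ⟨e, he⟩ = Y ^ r * Y' ^ s ∧
      π ((m : MulAut E₂) ⟨e, he⟩) =
        π ((m : MulAut E₂) ⟨y, hy.2⟩) ^ r * π ((m : MulAut E₂) ⟨y', hy'E⟩) ^ s := by
    intro m e he
    obtain ⟨c, hc, r, s, hce⟩ := hdec e he
    refine ⟨r, s, ?_, ?_⟩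
    · rw [show (⟨e, he⟩ : E₂) = ⟨c, h.C_le hc⟩ * ⟨y, hy.2⟩ ^ r * ⟨y', hy'E⟩ ^ s from Subtype.ext hce,
        map_mul, map_mul, map_zpow, map_zpow, hπC hc, one_mul]
    · have e1 : π ⟨e, he⟩ = π (⟨y, hy.2⟩ ^ r * ⟨y', hy'E⟩ ^ s) := by
        rw [show (⟨e, he⟩ : E₂) = ⟨c, h.C_le hc⟩ * (⟨y, hy.2⟩ ^ r * ⟨y', hy'E⟩ ^ s) from
          Subtype.ext (by show e = c * (y ^ r * y' ^ s); rw [hce, mul_assoc]), map_mul, hπC hc, one_mul]
      rw [hex m _ _ e1, map_mul, map_zpow, map_zpow, map_mul, map_zpow, map_zpow]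
  have shear : ∀ (g : MulAut E₂) (hg : g ∈ h.K) (z z' : Ω) (hz : z ∈ E₂) (hz' : z' ∈ E₂) (t : ℤ),
      π (g ⟨z, hz⟩) = π ⟨z, hz⟩ → π (g ⟨z', hz'⟩) = π ⟨z', hz'⟩ * π ⟨z, hz⟩ ^ t →
      ∀ n : ℕ, π ((g ^ n) ⟨z, hz⟩) = π ⟨z, hz⟩ ∧
        π ((g ^ n) ⟨z', hz'⟩) = π ⟨z', hz'⟩ * π ⟨z, hz⟩ ^ ((n : ℤ) * t) := by
    intro g hg z z' hz hz' t h1 h2 n
    induction n with
    | zero => simp
    | succ n ih =>
      have hgn : g ^ n ∈ h.K := pow_mem hg n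
      refine ⟨?_, ?_⟩
      · rw [pow_succ, MulAut.mul_apply, hex ⟨_, hgn⟩ _ _ h1, ih.1]
      · have e2 : π (g ⟨z', hz'⟩) = π (⟨z', hz'⟩ * ⟨z, hz⟩ ^ t) := by
          rw [map_mul, map_zpow]; exact h2
        rw [pow_succ, MulAut.mul_apply, hex ⟨_, hgn⟩ _ _ e2, map_mul, map_zpow, map_mul, map_zpow,
          ih.1, ih.2, mul_assoc, ← zpow_add]
        push_cast; ring_nf
  -- neither shear is trivial
  have hab : ∀ g ∈ ({h.a, h.b} : Set (MulAut E₂)),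
      π (g ⟨y, hy.2⟩) = Y → π (g ⟨y', hy'E⟩) = Y' → False := by
    intro g hg h1 h2
    have hgK : g ∈ h.K := Subgroup.subset_closure hg
    have hgst : g ∈ FusionAbelianIndexP89.stab E₂ h.C h.C_le := by
      refine ⟨fun c hc => h.K_fix hgK hc, fun e he => ?_⟩
      obtain ⟨r, s, e1, e2⟩ := hdet ⟨g, hgK⟩ e he
      rw [h1, h2] at e2
      have := QuotientGroup.eq.mp (e1.trans e2.symm)
      rw [Subgroup.mem_subgroupOf] at this
      rw [afun_apply g he]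
      simpa using this
    let M := FusionAbelianIndexP89.stab E₂ h.C h.C_le ⊓ h.K
    have hMp : IsPGroup p M :=
      (FusionAbelianIndexP89.isPGroup_stab (h.hS.to_le h.m₂.le) h.C_le).to_le inf_le_left
    have hMn : h.K ≤ Subgroup.normalizer (M : Set (MulAut E₂)) := by
      intro m hm
      have hle : ∀ m ∈ h.K, ∀ x ∈ M, m * x * m⁻¹ ∈ M := fun m hm x hx =>
        ⟨FusionAbelianIndexP89.stab_conj h.C_le hx.1 (mmem m hm) (mmem m⁻¹ (h.K.inv_mem hm)),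
          h.K.mul_mem (h.K.mul_mem hm hx.2) (h.K.inv_mem hm)⟩
      exact Subgroup.mem_normalizer_iff.mpr fun x => ⟨hle m hm x, fun hx => by
        have := hle m⁻¹ (h.K.inv_mem hm) _ hx
        simpa [mul_assoc] using this⟩
    have hpow : ∀ g' ∈ ({h.a, h.b} : Set (MulAut E₂)), IsPGroup p (Subgroup.zpowers g') := by
      have hap : IsPGroup p (Subgroup.zpowers h.a) := (isPGroup_autInducedBy h.hS E₂).to_le
        (Subgroup.zpowers_le.mpr (h.m₂.conjAut_mem_autInducedBy h.hvS))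
      rintro g' (rfl | rfl)
      · exact hap
      · have := hap.map (MulAut.conj α).toMonoidHom
        rwa [MonoidHom.map_zpowers] at this
    have hother : ∀ g' ∈ ({h.a, h.b} : Set (MulAut E₂)), Subgroup.zpowers g' ≤ h.K := fun g' hg' =>
      Subgroup.zpowers_le.mpr (Subgroup.subset_closure hg')
    have main : ∀ g' ∈ ({h.a, h.b} : Set (MulAut E₂)),
        ({h.a, h.b} : Set (MulAut E₂)) ⊆ {g, g'} → False := by
      intro g' hg' hsub
      refine h.not_isPGroup ((IsPGroup.to_sup_of_normal_right' (hpow g' hg') hMp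
        ((hother g' hg').trans hMn)).to_le ((Subgroup.closure_le _).mpr fun x hx => ?_))
      rcases hsub hx with rfl | rfl
      · exact Subgroup.mem_sup_right ⟨hgst, hgK⟩
      · exact Subgroup.mem_sup_left (Subgroup.mem_zpowers _)
    rcases hg with rfl | rfl
    · exact main h.b (Or.inr rfl) (fun x hx => hx)
    · exact main h.a (Or.inl rfl) (fun x hx => hx.symm)
  have hip : ¬ (p : ℤ) ∣ i := by
    rintro ⟨r, rfl⟩
    exact hab h.a (Or.inl rfl) haY (by rw [haY', zpow_mul, hYp, one_zpow, mul_one])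
  have hkp : ¬ (p : ℤ) ∣ k := by
    rintro ⟨r, rfl⟩
    exact hab h.b (Or.inr rfl) (by rw [hbY, zpow_mul, hY'p, one_zpow, mul_one]) hbY'
  have hinv : ∀ (t : ℤ), ¬ (p : ℤ) ∣ t → ∀ target : ℤ, ∃ n : ℕ, ∀ z : E₂ ⧸ h.C.subgroupOf E₂,
      z ^ (p : ℤ) = 1 → z ^ ((n : ℤ) * t) = z ^ target := by
    intro t ht target
    obtain ⟨r, s, hrs⟩ := ((Nat.prime_iff_prime_int.mp (Fact.out : p.Prime)).coprime_iff_not_dvd.mpr ht).symm
    refine ⟨((r * target) % p).toNat, fun z hz => ?_⟩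
    have hp0 : (0 : ℤ) < p := by exact_mod_cast (Fact.out : p.Prime).pos
    rw [Int.toNat_of_nonneg (Int.emod_nonneg _ hp0.ne'), Int.emod_def,
      show (r * target - (p : ℤ) * (r * target / p)) * t =
        target + (p : ℤ) * (-(s * target) - r * target / p * t) by linear_combination target * hrs,
      zpow_add, zpow_mul, hz, one_zpow, mul_one]
  refine ⟨?_, y', hy'E, fun hC' => ?_⟩
  rotate_left
  · refine hab h.a (Or.inl rfl) haY ?_
    exact (congrArg π (Subtype.ext (afun_apply h.a hy'E).symm)).trans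
      (hπ hy'E (afun_mem h.a hy'E) hC').symm
  obtain ⟨m, hm⟩ := hinv i hip 1
  obtain ⟨n, hn⟩ := hinv k hkp (-1)
  obtain ⟨hAY, hAY'⟩ := shear h.a (Subgroup.subset_closure (Or.inl rfl)) y y' hy.2 hy'E i
    haY haY' m
  obtain ⟨hBY', hBY⟩ := shear h.b (Subgroup.subset_closure (Or.inr rfl)) y' y hy'E hy.2 k
    hbY' hbY n
  rw [hm _ hYp, zpow_one] at hAY'
  rw [hn _ hY'p, zpow_neg_one] at hBY
  let A : h.K := ⟨h.a ^ m, pow_mem (show h.a ∈ h.K from Subgroup.subset_closure (Or.inl rfl)) m⟩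
  let B : h.K := ⟨h.b ^ n, pow_mem (show h.b ∈ h.K from Subgroup.subset_closure (Or.inr rfl)) n⟩
  have act : ∀ (g g' : h.K) (x : E₂) (r s : ℤ),
      π ((g' : MulAut E₂) x) = Y ^ r * Y' ^ s →
      π (((g * g' : h.K) : MulAut E₂) x) =
        π ((g : MulAut E₂) ⟨y, hy.2⟩) ^ r * π ((g : MulAut E₂) ⟨y', hy'E⟩) ^ s := by
    intro g g' x r s e
    have e1 : π ((g' : MulAut E₂) x) = π (⟨y, hy.2⟩ ^ r * ⟨y', hy'E⟩ ^ s) := by
      rw [e, map_mul, map_zpow, map_zpow]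
    rw [Subgroup.coe_mul, MulAut.mul_apply, hex g _ _ e1, map_mul, map_zpow, map_zpow, map_mul,
      map_zpow, map_zpow]
  -- `W = A * B * A` sends `Y ↦ Y'⁻¹`, `Y' ↦ Y`
  have hBAY : π (((B * A : h.K) : MulAut E₂) ⟨y, hy.2⟩) = Y * Y'⁻¹ := by
    rw [act B A ⟨y, hy.2⟩ 1 0 (by rw [hAY]; simp [hY]), zpow_one, zpow_zero, mul_one, hBY]
  have hBAY' : π (((B * A : h.K) : MulAut E₂) ⟨y', hy'E⟩) = Y := by
    rw [act B A ⟨y', hy'E⟩ 1 1 (by rw [hAY', zpow_one, zpow_one]; exact (hcomm _ _).eq), zpow_one,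
      zpow_one, hBY', hBY, mul_assoc, inv_mul_cancel, mul_one]
  have hWY : π (((A * (B * A) : h.K) : MulAut E₂) ⟨y, hy.2⟩) = Y'⁻¹ := by
    rw [act A (B * A) ⟨y, hy.2⟩ 1 (-1) (by rw [hBAY, zpow_one, zpow_neg_one]), hAY, hAY', zpow_one,
      zpow_neg_one, mul_inv_rev, ← mul_assoc, mul_inv_cancel, one_mul]
  have hWY' : π (((A * (B * A) : h.K) : MulAut E₂) ⟨y', hy'E⟩) = Y := by
    rw [act A (B * A) ⟨y', hy'E⟩ 1 0 (by rw [hBAY']; simp), hAY, zpow_one, zpow_zero, mul_one]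
  set W : h.K := A * (B * A)
  have hJY : π (((W * W : h.K) : MulAut E₂) ⟨y, hy.2⟩) = Y⁻¹ := by
    rw [act W W ⟨y, hy.2⟩ 0 (-1) (by rw [hWY]; simp), hWY', zpow_zero, one_mul, zpow_neg_one]
  have hJY' : π (((W * W : h.K) : MulAut E₂) ⟨y', hy'E⟩) = Y'⁻¹ := by
    rw [act W W ⟨y', hy'E⟩ 1 0 (by rw [hWY']; simp), hWY, zpow_one, zpow_zero, mul_one]
  have hJ : ∀ x : E₂, π (((W * W : h.K) : MulAut E₂) x) = (π x)⁻¹ := by
    rintro ⟨e, he⟩
    obtain ⟨r, s, e1, e2⟩ := hdet (W * W) e he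
    rw [e2, e1, hJY, hJY', hY, hY', inv_zpow, inv_zpow, mul_inv_rev]
    exact ((hcomm _ _).zpow_zpow r s).inv_inv.eq
  -- the 2-part
  set J : MulAut E₂ := ((W * W : h.K) : MulAut E₂) with hJdef
  have hord : 0 < orderOf J := orderOf_pos J
  set q := orderOf J / 2 ^ (orderOf J).factorization 2 with hq
  have hqodd : Odd q :=
    Nat.not_even_iff_odd.mp fun he => Nat.not_dvd_ordCompl Nat.prime_two hord.ne' he.two_dvd
  refine ⟨J ^ q, pow_mem (W * W).2 q, ?_, fun e he => ?_⟩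
  rotate_left
  · have hpowJ : ∀ n : ℕ, π ((J ^ n) ⟨e, he⟩) = if Even n then π ⟨e, he⟩ else (π ⟨e, he⟩)⁻¹ := by
      intro n
      induction n with
      | zero => simp
      | succ n ih =>
        rw [pow_succ', MulAut.mul_apply, hJ, ih]
        by_cases hn : Even n <;> simp [hn, Nat.even_add_one]
    have h1 := hpowJ q
    rw [if_neg (Nat.not_even_iff_odd.mpr hqodd), eq_inv_iff_mul_eq_one, (hcomm _ _).eq, ← map_mul]
      at h1
    have h2 := Subgroup.mem_subgroupOf.mp ((QuotientGroup.eq_one_iff _).mp h1)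
    rwa [Subgroup.coe_mul, ← afun_coe] at h2
  set j := J ^ q with hj
  have hjK : j ∈ h.K := pow_mem (W * W).2 q
  have hjst : j * j ∈ FusionAbelianIndexP89.stab E₂ h.C h.C_le := by
    refine ⟨fun c hc => h.K_fix (mul_mem hjK hjK) hc, fun e he => ?_⟩
    have hpowJ : π ((J ^ (q + q)) ⟨e, he⟩) = π ⟨e, he⟩ := by
      have : ∀ n : ℕ, π ((J ^ (2 * n)) ⟨e, he⟩) = π ⟨e, he⟩ := by
        intro n
        induction n with
        | zero => simp
        | succ n ih =>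
          rw [show 2 * (n + 1) = 1 + (1 + 2 * n) by omega, pow_add, pow_add, pow_one,
            MulAut.mul_apply, MulAut.mul_apply, hJ, hJ, inv_inv, ih]
      rw [← two_mul]; exact this q
    have h2 := Subgroup.mem_subgroupOf.mp (QuotientGroup.eq.mp hpowJ.symm)
    rw [hj, ← pow_add, afun_apply _ he]
    simpa using h2
  obtain ⟨t, ht⟩ :=
    (FusionAbelianIndexP89.isPGroup_stab (h.hS.to_le h.m₂.le) h.C_le) ⟨_, hjst⟩
  have ht' : (j * j) ^ p ^ t = 1 := congrArg Subtype.val ht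
  have h2pow : j ^ 2 ^ (orderOf J).factorization 2 = 1 := by
    rw [hj, ← pow_mul, hq, Nat.div_mul_cancel (Nat.ordProj_dvd _ _), pow_orderOf_eq_one]
  have hd1 : orderOf (j * j) ∣ p ^ t := orderOf_dvd_of_pow_eq_one ht'
  have hd2 : orderOf (j * j) ∣ 2 ^ (orderOf J).factorization 2 := orderOf_dvd_of_pow_eq_one (by
    rw [(Commute.refl j).mul_pow, h2pow, one_mul])
  exact orderOf_eq_one_iff.mp
    (Nat.eq_one_of_dvd_coprimes ((coprime_two_pow h.hp).pow_right t) hd2 hd1)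

end CA

end Cfsg.Agent.Rank3
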