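import Cfsg.Agent.Lib.Rank3CaseA34Inv
import Cfsg.Agent.Lib.OddLocalBase

/-!
Case A of the rank three engine: `E₂ = C⟨y, y'⟩` and `S = E₂⟨v⟩` with `C` abelian and central
in `S`, of cyclic `Ω₁`.
-/

set_option autoImplicit false
set_option linter.unusedSectionVars false

namespace Cfsg.Agent.Rank3

open scoped commutatorElement Pointwise
open Cfsg.FusionSystem Cfsg.Agent.FusionSysBasic Cfsg.Agent.FusionSysSaturated
  Cfsg.Agent.FusionSysNormal Cfsg.Agent.FusionSysAlperin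

universe u

variable {Ω : Type u} [Group Ω] {S : Subgroup Ω} {F : FusionSystem S} {p : ℕ}
  [Finite S] [Fact p.Prime]

/-- The generators `y`, `y'` inverted by the involution `j` centralising `C`. -/
structure CS (F : FusionSystem S) (p : ℕ) (E₁ E₂ : Subgroup Ω) (v : Ω) (α : MulAut E₂)
    (j : MulAut E₂) (y y' : Ω) : Prop where
  ca : CA F p E₁ E₂ v α
  rk : Cfsg.SectionalPRankLE p 3 S
  hjF : j ∈ F.autGroup E₂
  hjC : ∀ c ∈ (E₁ ⊓ E₂) ⊓ img α (E₁ ⊓ E₂), afun j c = c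
  hjj : j * j = 1
  hy : y ∈ E₁ ⊓ E₂
  hy2 : y ∉ img α (E₁ ⊓ E₂)
  hy' : y' ∈ img α (E₁ ⊓ E₂)
  hy'2 : y' ∉ E₁ ⊓ E₂
  yp : y ^ p = 1
  y'p : y' ^ p = 1
  jy : afun j y = y⁻¹
  jy' : afun j y' = y'⁻¹
  cy : ∀ c ∈ (E₁ ⊓ E₂) ⊓ img α (E₁ ⊓ E₂), c * y = y * c
  cy' : ∀ c ∈ (E₁ ⊓ E₂) ⊓ img α (E₁ ⊓ E₂), c * y' = y' * c
  ns : ∃ e ∈ E₂, e⁻¹ * cj v e ∉ (E₁ ⊓ E₂) ⊓ img α (E₁ ⊓ E₂)

theorem eq_one_of_sq {p : ℕ} (hp : Odd p) {G : Type*} [Group G] {x : G} (h2 : x ^ 2 = 1)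
    {k : ℕ} (hk : x ^ p ^ k = 1) : x = 1 := by
  obtain ⟨r, hr⟩ := hp.pow (n := k)
  rw [hr, pow_succ, pow_mul, h2, one_pow, one_mul] at hk
  exact hk

theorem exists_cs {E₁ E₂ : Subgroup Ω} {v : Ω} {α : MulAut E₂} (h : CA F p E₁ E₂ v α)
    (rk : Cfsg.SectionalPRankLE p 3 S) : ∃ j y y', CS F p E₁ E₂ v α j y y' := by
  obtain ⟨⟨j, hjK, hjj, hinv⟩, e₀, he₀, hns⟩ := h.exists_inv_involution
  have hns' : e₀⁻¹ * cj v e₀ ∉ h.C := by
    rwa [CA.a, h.m₂.afun_conjAut h.hvS he₀] at hns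
  -- the element `j e * e⁻¹`
  have key : ∀ e ∈ E₂, afun j e * e⁻¹ ∈ E₂ ∧ afun j (afun j e * e⁻¹) = (afun j e * e⁻¹)⁻¹ ∧
      (∀ c ∈ h.C, c * (afun j e * e⁻¹) = (afun j e * e⁻¹) * c) ∧
      (afun j e * e⁻¹) ^ p = 1 := by
    intro e he
    have hje := afun_mem j he
    have hu : afun j e * e⁻¹ ∈ E₂ := E₂.mul_mem hje (E₂.inv_mem he)
    have hju : afun j (afun j e * e⁻¹) = (afun j e * e⁻¹)⁻¹ := by
      rw [afun_map_mul j hje (E₂.inv_mem he), afun_map_inv' j he, ← afun_mul j j he, hjj,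
        afun_one he, mul_inv_rev, inv_inv]
    have hcu : ∀ c ∈ h.C, c * (afun j e * e⁻¹) = (afun j e * e⁻¹) * c := by
      intro c hc
      have hc' : cj e⁻¹ c ∈ h.C := h.C_normal (E₂.inv_mem he) hc
      have h1 := h.K_fix hjK hc'
      have hcE := h.C_le hc
      rw [cj_apply, inv_inv, afun_map_mul j (E₂.mul_mem (E₂.inv_mem he) hcE) he,
        afun_map_mul j (E₂.inv_mem he) hcE, afun_map_inv' j he, h.K_fix hjK hc] at h1
      have h2 := congrArg (fun t => afun j e * t * e⁻¹) h1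
      simpa [mul_assoc] using h2
    refine ⟨hu, hju, hcu, ?_⟩
    have hpC := h.pow_mem_C hu
    have h1 := h.K_fix hjK hpC
    rw [afun_npow j hu, hju, inv_pow] at h1
    have h2 : ((afun j e * e⁻¹) ^ p) ^ 2 = 1 := by
      rw [sq]; nth_rewrite 1 [← h1]; exact inv_mul_cancel _
    obtain ⟨k, hk⟩ := h.hS ⟨_, h.m₂.le (h.C_le hpC)⟩
    exact eq_one_of_sq h.hp h2 (congrArg Subtype.val hk)
  have memC : ∀ e ∈ E₂, e ^ 2 ∈ h.C → e ∈ h.C := by
    intro e he h2
    obtain ⟨r, hr⟩ := h.hp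
    have h3 := h.pow_mem_C he
    have e3 : e ^ p = (e ^ 2) ^ r * e := by rw [← pow_mul, ← pow_succ, ← hr]
    rw [e3] at h3
    have := h.C.mul_mem (h.C.inv_mem (h.C.pow_mem h2 r)) h3
    rwa [inv_mul_cancel_left] at this
  have step : ∀ e ∈ E₂, ∀ W : Subgroup Ω, h.C ≤ W → e ∈ W → afun j e * e⁻¹ ∈ W := by
    intro e he W hW heW
    have h2 : afun j e ∈ W := by
      have := W.mul_mem (W.inv_mem heW) (hW (hinv e he))
      rwa [inv_mul_cancel_left] at this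
    exact W.mul_mem h2 (W.inv_mem heW)
  have notC : ∀ e ∈ E₂, e ∉ h.C → afun j e * e⁻¹ ∉ h.C := by
    intro e he hne hu
    apply hne
    refine memC e he ?_
    have h3 := h.C.inv_mem (h.C.mul_mem (h.C.inv_mem (hinv e he)) (h.C_normal he hu))
    have e4 : ((e * afun j e)⁻¹ * cj e (afun j e * e⁻¹))⁻¹ = e * e := by
      simp only [cj_apply, mul_inv_rev, inv_inv, mul_assoc, inv_mul_cancel_left, mul_inv_cancel_left,
        mul_inv_cancel, mul_one]
    rwa [e4, ← sq] at h3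
  obtain ⟨y₁, hy₁, hy₁2⟩ := h.exists_y
  obtain ⟨y₂, hy₂, hy₂2⟩ := h.exists_y'
  have hy₂E : y₂ ∈ E₂ := img_le _ _ hy₂
  obtain ⟨k1, k2, k3, k4⟩ := key y₁ hy₁.2
  obtain ⟨l1, l2, l3, l4⟩ := key y₂ hy₂E
  have hQ := step y₁ hy₁.2 _ inf_le_left hy₁
  have hW := step y₂ hy₂E _ inf_le_right hy₂
  refine ⟨j, _, _, h, rk, h.K_le hjK, fun c hc => h.K_fix hjK hc, hjj, hQ, ?_, hW, ?_, k4, l4,
    k2, l2, k3, l3, e₀, he₀, hns'⟩
  · exact fun hmem => notC y₁ hy₁.2 (fun hc => hy₁2 hc.2) ⟨hQ, hmem⟩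
  · exact fun hmem => notC y₂ hy₂E (fun hc => hy₂2 hc.1) ⟨hmem, hW⟩

namespace CS

variable {E₁ E₂ : Subgroup Ω} {v : Ω} {α j : MulAut E₂} {y y' : Ω}

theorem m₁ (h : CS F p E₁ E₂ v α j y y') : Max F p E₁ := h.ca.m₁

theorem m₂ (h : CS F p E₁ E₂ v α j y y') : Max F p E₂ := h.ca.m₂

theorem hy'E (h : CS F p E₁ E₂ v α j y y') : y' ∈ E₂ := img_le _ _ h.hy'

theorem decomp (h : CS F p E₁ E₂ v α j y y') :
    (∀ e ∈ E₁ ⊓ E₂, ∃ c ∈ h.ca.C, ∃ k : ℤ, e = c * y ^ k) ∧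
      (∀ e ∈ E₂, ∃ c ∈ h.ca.C, ∃ k l : ℤ, e = c * y ^ k * y' ^ l) :=
  h.ca.exists_decomp h.hy h.hy2 h.hy' h.hy'2

/-- The commutator of `y` and `y'`. -/
def c₀ (_ : CS F p E₁ E₂ v α j y y') : Ω := y * y' * y⁻¹ * y'⁻¹

/-- The commutator of `v` and `y'`. -/
def t (_ : CS F p E₁ E₂ v α j y y') : Ω := y'⁻¹ * cj v y'

theorem c₀_mem (h : CS F p E₁ E₂ v α j y y') : h.c₀ ∈ h.ca.C :=
  h.ca.comm_mem_C h.hy.2 h.hy'E

theorem c₀_pow (h : CS F p E₁ E₂ v α j y y') : h.c₀ ^ p = 1 := by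
  have hc : ∀ n : ℕ, cj (y ^ n) y' = h.c₀ ^ n * y' := by
    intro n
    induction n with
    | zero => simp [cj_one]
    | succ n ih =>
      have e1 : cj y y' = h.c₀ * y' := by simp only [c₀, cj_apply, inv_mul_cancel_right]
      have hcy : Commute (h.c₀ ^ n) y := (show Commute h.c₀ y from h.cy _ h.c₀_mem).pow_left n
      rw [pow_succ', ← cj_cj, ih]
      have e2 : cj y (h.c₀ ^ n * y') = cj y (h.c₀ ^ n) * cj y y' := by
        simp only [cj_apply]; group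
      rw [e2, e1, cj_apply, ← hcy.eq, mul_inv_cancel_right, ← mul_assoc, ← pow_succ]
  have h1 := hc p
  rw [h.yp, cj_one] at h1
  exact mul_eq_right.mp h1.symm

theorem v_comm (h : CS F p E₁ E₂ v α j y y') {e : Ω} (he : e ∈ E₁ ⊓ E₂) : v * e = e * v :=
  h.ca.hv.2.2 e he.1

theorem cj_v (h : CS F p E₁ E₂ v α j y y') {e : Ω} (he : e ∈ E₁ ⊓ E₂) : cj v e = e := by
  rw [cj_apply, h.v_comm he, mul_inv_cancel_right]

theorem t_mem (h : CS F p E₁ E₂ v α j y y') : h.t ∈ E₁ ⊓ E₂ := by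
  have := h.ca.a_step h.hy'E
  rwa [CA.a, h.m₂.afun_conjAut h.ca.hvS h.hy'E] at this

/-- The form `c * y ^ i` of `t`, with `i` prime to `p`. -/
theorem t_eq (h : CS F p E₁ E₂ v α j y y') :
    ∃ c ∈ h.ca.C, ∃ i : ℤ, ¬ (p : ℤ) ∣ i ∧ h.t = c * y ^ i ∧ c ^ p = 1 ∧ h.t ^ p = 1 := by
  obtain ⟨c, hc, i, hi⟩ := h.decomp.1 _ h.t_mem
  have hvy' : cj v y' = y' * (c * y ^ i) := by rw [← hi, t, mul_inv_cancel_left]
  have hip : ¬ (p : ℤ) ∣ i := by
    rintro ⟨r, rfl⟩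
    rw [zpow_mul, zpow_natCast, h.yp, one_zpow, mul_one] at hvy'
    obtain ⟨e, he, hne⟩ := h.ns
    refine hne ?_
    obtain ⟨d, hd, k, l, rfl⟩ := h.decomp.2 e he
    have hmul : ∀ a b : Ω, cj v (a * b) = cj v a * cj v b := fun a b => by
      simp only [cj_apply]; group
    have hcc : Commute y' c := (h.cy' c hc).symm
    rw [hmul, hmul, h.cj_v hd.1, h.cj_v ((E₁ ⊓ E₂).zpow_mem h.hy k)]
    have h5 : cj v (y' ^ l) = y' ^ l * c ^ l := by
      rw [cj_apply, ← conj_zpow, ← cj_apply, hvy', hcc.mul_zpow]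
    rw [h5, ← mul_assoc (d * y ^ k), inv_mul_cancel_left]
    exact h.ca.C.zpow_mem hc l
  have hcp : c ^ p = 1 ∧ (c * y ^ i) ^ p = 1 := by
    have h1 : (y' * (c * y ^ i)) ^ p = 1 := by
      rw [← hvy', cj_apply, conj_pow, h.y'p, mul_one, mul_inv_cancel]
    have hyi : (y ^ i) ^ p = 1 := by
      rw [← zpow_natCast, ← zpow_mul, mul_comm, zpow_mul, zpow_natCast, h.yp, one_zpow]
    have hcy : Commute c (y ^ i) := (show Commute c y from h.cy c hc).zpow_right i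
    have hcy' : Commute y' c := (h.cy' c hc).symm
    rw [← mul_assoc, hcy'.eq, mul_assoc] at h1
    have hc1 : Commute c (y' * y ^ i) := (show Commute c y' from h.cy' c hc).mul_right hcy
    rw [hc1.mul_pow] at h1
    have hq : (y' * y ^ i) ^ p = 1 := by
      have hmem : ⁅y ^ i, y'⁆ ∈ h.ca.C := by
        rw [commutatorElement_def]
        exact h.ca.comm_mem_C (E₂.zpow_mem h.hy.2 i) h.hy'E
      have hyiC : ∀ z ∈ h.ca.C, Commute z (y ^ i) := fun z hz =>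
        (show Commute z y from h.cy z hz).zpow_right i
      rw [OddLocalBase.mul_pow_of_central y' (y ^ i) (h.cy' _ hmem) (hyiC _ hmem) p, h.y'p, hyi]
      have hcp2 : ⁅y ^ i, y'⁆ ^ p = 1 := by
        have hconj : ∀ n : ℕ, cj ((y ^ i) ^ n) y' = ⁅y ^ i, y'⁆ ^ n * y' := by
          intro n
          induction n with
          | zero => simp [cj_one]
          | succ n ih =>
            have e1 : cj (y ^ i) y' = ⁅y ^ i, y'⁆ * y' := by
              rw [commutatorElement_def, cj_apply, inv_mul_cancel_right]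
            rw [pow_succ' (y ^ i), ← cj_cj, ih]
            have e2 : cj (y ^ i) (⁅y ^ i, y'⁆ ^ n * y') =
                cj (y ^ i) (⁅y ^ i, y'⁆ ^ n) * cj (y ^ i) y' := by simp only [cj_apply]; group
            rw [e2, e1, cj_apply, ← ((hyiC _ hmem).pow_left n).eq, mul_inv_cancel_right,
              ← mul_assoc, ← pow_succ]
        have h2 := hconj p
        rw [hyi, cj_one] at h2
        exact mul_eq_right.mp h2.symm
      obtain ⟨m, hm⟩ := (Fact.out : p.Prime).dvd_choose_self (k := 2) (by norm_num) (by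
        rcases (Fact.out : p.Prime).two_le.lt_or_eq with h2 | h2
        · exact h2
        · exact absurd (h2 ▸ h.ca.hp : Odd 2) (by decide))
      rw [hm, pow_mul, hcp2, one_pow, mul_one, mul_one]
    rw [hq, mul_one] at h1
    refine ⟨h1, ?_⟩
    rw [hcy.mul_pow, h1, hyi, one_mul]
  exact ⟨c, hc, i, hip, hi, hcp.1, hi ▸ hcp.2⟩

theorem closure_eq (h : CS F p E₁ E₂ v α j y y') :
    Subgroup.closure ((h.ca.C : Set Ω) ∪ {y, y', v}) = S := by
  refine le_antisymm ((Subgroup.closure_le _).mpr ?_) fun s hs => ?_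
  · rintro z (hz | rfl | rfl | rfl)
    exacts [h.m₂.le (h.ca.C_le hz), h.m₂.le h.hy.2, h.m₂.le h.hy'E, h.ca.hvS]
  · obtain ⟨e, he, n, rfl⟩ := h.m₂.exists_eq_mul h.ca.hvS h.ca.hv₂ hs
    obtain ⟨c, hc, k, l, rfl⟩ := h.decomp.2 e he
    exact mul_mem (mul_mem (mul_mem (Subgroup.subset_closure (Or.inl hc))
      (zpow_mem (Subgroup.subset_closure
        (show y ∈ (h.ca.C : Set Ω) ∪ {y, y', v} from Or.inr (Or.inl rfl))) k))
      (zpow_mem (Subgroup.subset_closure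
        (show y' ∈ (h.ca.C : Set Ω) ∪ {y, y', v} from Or.inr (Or.inr (Or.inl rfl)))) l))
      (zpow_mem (Subgroup.subset_closure
        (show v ∈ (h.ca.C : Set Ω) ∪ {y, y', v} from Or.inr (Or.inr (Or.inr rfl)))) n)

theorem card_S (h : CS F p E₁ E₂ v α j y y') : p ^ 3 * Nat.card h.ca.C ≤ Nat.card S := by
  have h1 : h.ca.C < E₁ ⊓ E₂ := lt_of_le_not_ge inf_le_left fun e => h.hy2 (e h.hy).2
  have h2 := mul_card_le_of_lt h.ca.hS (inf_le_right.trans h.m₂.le) h1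
  calc p ^ 3 * Nat.card h.ca.C = p * (p * (p * Nat.card h.ca.C)) := by ring
    _ ≤ p * (p * Nat.card ↥(E₁ ⊓ E₂)) := Nat.mul_le_mul_left p (Nat.mul_le_mul_left p h2)
    _ = p * Nat.card E₂ := by rw [h.ca.card_Q]
    _ = Nat.card S := h.m₂.card_eq.symm

/-- `C` is abelian, and central in `S`. -/
theorem C_central (h : CS F p E₁ E₂ v α j y y') {c s : Ω} (hc : c ∈ h.ca.C) (hs : s ∈ S) :
    c * s = s * c := by
  have hS := h.ca.hS
  obtain ⟨c', hc', i, hip, hti, hc'p, htp⟩ := h.t_eq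
  have hCS : h.ca.C ≤ S := h.ca.C_le.trans h.m₂.le
  haveI := finite_of_le hCS
  have hCp : IsPGroup p h.ca.C := hS.to_le hCS
  let Φ : Subgroup Ω := (frattini h.ca.C).map h.ca.C.subtype
  let Φ₀ : Subgroup Ω := Subgroup.zpowers h.c₀ ⊔ Φ
  have hΦ₀C : Φ₀ ≤ h.ca.C :=
    sup_le (Subgroup.zpowers_le.mpr h.c₀_mem) (Subgroup.map_subtype_le _)
  have htS : h.t ∈ S := h.m₂.le h.t_mem.2
  let N : Subgroup Ω := Φ₀ ⊔ Subgroup.zpowers h.t
  have hNS : N ≤ S := sup_le (hΦ₀C.trans hCS) (Subgroup.zpowers_le.mpr htS)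
  haveI := finite_of_le hNS
  have hcy : ∀ z ∈ h.ca.C, cj y z = z := fun z hz => by
    rw [cj_apply, ← h.cy z hz, mul_inv_cancel_right]
  have hcy' : ∀ z ∈ h.ca.C, cj y' z = z := fun z hz => by
    rw [cj_apply, ← h.cy' z hz, mul_inv_cancel_right]
  have hc₀ : ∀ d ∈ h.ca.C, ∃ f ∈ Φ, cj d h.c₀ = h.c₀ * f := fun d hd => by
    refine ⟨_, ⟨⁅(⟨h.c₀, h.c₀_mem⟩ : h.ca.C)⁻¹, ⟨d, hd⟩⁆, PGroupsBasic.commutator_le_frattini hCp
      (Subgroup.commutator_mem_commutator (Subgroup.mem_top _) (Subgroup.mem_top _)), rfl⟩, ?_⟩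
    simp only [commutatorElement_def, cj_apply, Subgroup.coe_subtype, Subgroup.coe_mul,
      Subgroup.coe_inv]
    group
  have hΦn : ∀ d ∈ h.ca.C, ∀ f ∈ Φ, cj d f ∈ Φ := by
    rintro d hd _ ⟨f, hf, rfl⟩
    exact ⟨_, (inferInstance : (frattini h.ca.C).Normal).conj_mem f hf ⟨d, hd⟩, rfl⟩
  have hgen : ∀ g ∈ (h.ca.C : Set Ω) ∪ {y, y', v}, ∀ z ∈ N, cj g z ∈ N := by
    intro g hg
    have hhom : ∀ (g : Ω) (W : Subgroup Ω), (∀ z ∈ W, cj g z ∈ N) →
        W ≤ N.comap (MulAut.conj g).toMonoidHom := fun g W hW z hz => hW z hz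
    suffices hs : N ≤ N.comap (MulAut.conj g).toMonoidHom from fun z hz => hs hz
    have hz0 : cj g h.c₀ ∈ N ∧ (∀ f ∈ Φ, cj g f ∈ N) ∧ cj g h.t ∈ N := by
      have hc₀N : h.c₀ ∈ N := Subgroup.mem_sup_left (Subgroup.mem_sup_left (Subgroup.mem_zpowers _))
      have htN : h.t ∈ N := Subgroup.mem_sup_right (Subgroup.mem_zpowers _)
      have hΦN : ∀ f ∈ Φ, f ∈ N := fun f hf => Subgroup.mem_sup_left (Subgroup.mem_sup_right hf)
      have hΦC : ∀ f ∈ Φ, f ∈ h.ca.C := fun f hf => Subgroup.map_subtype_le _ hf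
      rcases hg with hg | rfl | rfl | rfl
      · refine ⟨?_, fun f hf => hΦN _ (hΦn g hg f hf), ?_⟩
        · obtain ⟨f, hf, e⟩ := hc₀ g hg
          rw [e]; exact N.mul_mem hc₀N (hΦN f hf)
        · have hmem : ⁅(⟨g, hg⟩ : h.ca.C), ⟨c', hc'⟩⁆ ∈ frattini h.ca.C :=
            PGroupsBasic.commutator_le_frattini hCp
              (Subgroup.commutator_mem_commutator (Subgroup.mem_top _) (Subgroup.mem_top _))
          have e : cj g h.t = ((⁅(⟨g, hg⟩ : h.ca.C), ⟨c', hc'⟩⁆ : h.ca.C) : Ω) * h.t := by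
            have hgy : g * y ^ i = y ^ i * g := (show Commute g y from h.cy g hg).zpow_right i
            simp only [commutatorElement_def, Subgroup.coe_mul, Subgroup.coe_inv, cj_apply, hti]
            calc g * (c' * y ^ i) * g⁻¹ = g * c' * (y ^ i * g⁻¹) := by group
              _ = g * c' * (g⁻¹ * y ^ i) := by
                rw [((show Commute g (y ^ i) from hgy).inv_left).eq]
              _ = _ := by group
          rw [e]
          exact N.mul_mem (hΦN _ ⟨_, hmem, rfl⟩) htN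
      · refine ⟨by rw [hcy _ h.c₀_mem]; exact hc₀N, fun f hf => by
          rw [hcy _ (hΦC f hf)]; exact hΦN f hf, ?_⟩
        have e : cj g h.t = h.t := by
          have hc2 : Commute g (g ^ i) := (Commute.refl g).zpow_right i
          have hc1 : Commute g c' := (h.cy c' hc').symm
          rw [hti, cj_apply, ((hc1.mul_right hc2)).eq, mul_inv_cancel_right]
        rw [e]; exact htN
      · refine ⟨by rw [hcy' _ h.c₀_mem]; exact hc₀N, fun f hf => by
          rw [hcy' _ (hΦC f hf)]; exact hΦN f hf, ?_⟩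
        have e1 : cj g y = h.c₀⁻¹ * y := by simp only [c₀, cj_apply]; group
        have hc0y : Commute h.c₀⁻¹ y := (show Commute h.c₀ y from h.cy _ h.c₀_mem).inv_left
        have e : cj g h.t = (h.c₀⁻¹) ^ i * h.t := by
          have e2 : cj g h.t = cj g c' * cj g (y ^ i) := by rw [hti]; simp only [cj_apply]; group
          have e3 : cj g (y ^ i) = (h.c₀⁻¹) ^ i * y ^ i := by
            rw [cj_apply, ← conj_zpow, ← cj_apply, e1, hc0y.mul_zpow]
          rw [e2, e3, hcy' _ hc', hti, ← mul_assoc, ← mul_assoc]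
          congr 1
          obtain ⟨f, hf, ef⟩ := hc₀ c' hc'
          have hcc : cj c' h.c₀ = h.c₀ := by
            have h1 : Commute c' (y * g * y⁻¹ * g⁻¹) :=
              ((((show Commute c' y from h.cy c' hc').mul_right (h.cy' c' hc')).mul_right
                (show Commute c' y from h.cy c' hc').inv_right).mul_right
                (show Commute c' g from h.cy' c' hc').inv_right)
            show c' * h.c₀ * c'⁻¹ = h.c₀
            rw [show h.c₀ = y * g * y⁻¹ * g⁻¹ from rfl, h1.eq, mul_inv_cancel_right]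
          rw [cj_apply, mul_inv_eq_iff_eq_mul] at hcc
          exact (((show Commute c' h.c₀ from hcc).inv_right).zpow_right i).eq
        rw [e]
        exact N.mul_mem (Subgroup.zpow_mem _ (N.inv_mem hc₀N) i) htN
      · exact ⟨by rw [h.cj_v h.c₀_mem.1]; exact hc₀N, fun f hf => by
          rw [h.cj_v (hΦC f hf).1]; exact hΦN f hf, by rw [h.cj_v h.t_mem]; exact htN⟩
    exact sup_le (sup_le (Subgroup.zpowers_le.mpr hz0.1) (hhom g _ hz0.2.1))
      (Subgroup.zpowers_le.mpr hz0.2.2)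
  have hn : ∀ k ∈ S, ∀ z ∈ N, cj k z ∈ N := by
    intro k hk z hz
    rw [← h.closure_eq] at hk
    induction hk using Subgroup.closure_induction generalizing z with
    | mem g hg => exact hgen g hg z hz
    | one => rwa [cj_one]
    | mul a b _ _ iha ihb => rw [← cj_cj]; exact iha _ (ihb z hz)
    | inv a ha iha =>
      have hmap : N.map (MulAut.conj a).toMonoidHom = N := by
        refine Subgroup.eq_of_le_of_card_ge ?_
          (Subgroup.card_map_of_injective (MulAut.conj a).injective).ge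
        rintro _ ⟨w, hw, rfl⟩
        exact iha w hw
      obtain ⟨w, hw, e⟩ := hmap.ge hz
      rw [← e]
      show cj a⁻¹ (cj a w) ∈ N
      rwa [cj_inv_cj]
  have hn' : ∀ k ∈ Subgroup.closure ((h.ca.C : Set Ω) ∪ {y, y', v}), ∀ z ∈ N, cj k z ∈ N := by
    rw [h.closure_eq]; exact hn
  have hcomm : ∀ a ∈ (h.ca.C : Set Ω) ∪ {y, y', v}, ∀ b ∈ (h.ca.C : Set Ω) ∪ {y, y', v},
      a * b * a⁻¹ * b⁻¹ ∈ N := by
    have one : ∀ a b : Ω, a * b = b * a → a * b * a⁻¹ * b⁻¹ ∈ N := fun a b e => by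
      rw [e, mul_inv_cancel_right, mul_inv_cancel]; exact N.one_mem
    have inv1 : ∀ a b : Ω, a * b * a⁻¹ * b⁻¹ ∈ N → b * a * b⁻¹ * a⁻¹ ∈ N := fun a b hab => by
      have := N.inv_mem hab
      rwa [show (a * b * a⁻¹ * b⁻¹)⁻¹ = b * a * b⁻¹ * a⁻¹ by group] at this
    have hCg : ∀ d ∈ h.ca.C, ∀ g ∈ ({y, y', v} : Set Ω), d * g = g * d := by
      rintro d hd g (rfl | rfl | rfl)
      exacts [h.cy d hd, h.cy' d hd, (h.v_comm hd.1).symm]
    have h1 : y * y' * y⁻¹ * y'⁻¹ ∈ N :=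
      Subgroup.mem_sup_left (Subgroup.mem_sup_left (Subgroup.mem_zpowers _))
    have h2 : v * y' * v⁻¹ * y'⁻¹ ∈ N := by
      have := hn y' (h.m₂.le h.hy'E) h.t (Subgroup.mem_sup_right (Subgroup.mem_zpowers _))
      simpa [t, cj_apply, mul_assoc] using this
    rintro a (ha | ha) b (hb | hb)
    · refine Subgroup.mem_sup_left (Subgroup.mem_sup_right
        ⟨⁅(⟨a, ha⟩ : h.ca.C), ⟨b, hb⟩⁆, PGroupsBasic.commutator_le_frattini hCp
          (Subgroup.commutator_mem_commutator (Subgroup.mem_top _) (Subgroup.mem_top _)), ?_⟩)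
      simp [commutatorElement_def]
    · exact one _ _ (hCg a ha b hb)
    · exact one _ _ (hCg b hb a ha).symm
    · have hyv : v * y = y * v := h.v_comm h.hy
      rcases ha with ha | ha | ha <;> rcases hb with hb | hb | hb <;> rw [ha, hb]
      exacts [one _ _ rfl, h1, one _ _ hyv.symm, inv1 _ _ h1, one _ _ rfl, inv1 _ _ h2,
        one _ _ hyv, h2, one _ _ rfl]
  have hpow : ∀ a ∈ (h.ca.C : Set Ω) ∪ {y, y', v}, a ^ p ∈ N := by
    rintro a (ha | rfl | rfl | rfl)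
    · exact Subgroup.mem_sup_left (Subgroup.mem_sup_right
        ⟨(⟨a, ha⟩ : h.ca.C) ^ p, PGroupsBasic.pow_mem_frattini hCp _, rfl⟩)
    · rw [h.yp]; exact N.one_mem
    · rw [h.y'p]; exact N.one_mem
    · rw [h.ca.hv.2.1]; exact N.one_mem
  have hc1 := gen_comm hn' hcomm
  have hp1 := gen_pow hn' hcomm hpow
  rw [h.closure_eq] at hc1 hp1
  have hcard := (h.card_S).trans (section_card h.rk le_rfl hNS hn hc1 hp1)
  have hNle : Nat.card N ≤ p * Nat.card Φ₀ := by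
    refine card_sup_zpowers_le (hΦ₀C.trans hCS) htS (fun a ha => ?_) (by rw [htp]; exact one_mem _)
    have hat : cj h.t a ∈ N := hn _ htS a (Subgroup.mem_sup_left ha)
    -- conjugation by `t = c' * y ^ i` is conjugation by `c'` on `C`
    have haC := hΦ₀C ha
    have e : cj h.t a = cj c' a := by
      have hay : Commute a (y ^ i) := (show Commute a y from h.cy a haC).zpow_right i
      rw [hti, ← cj_cj, cj_apply (y ^ i), ← hay.eq, mul_inv_cancel_right]
    rw [e]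
    refine (sup_le (Subgroup.zpowers_le.mpr ?_) fun f hf => ?_ :
      Φ₀ ≤ Φ₀.comap (MulAut.conj c').toMonoidHom) ha
    · obtain ⟨f, hf, ef⟩ := hc₀ c' hc'
      show cj c' h.c₀ ∈ Φ₀
      rw [ef]
      exact Φ₀.mul_mem (Subgroup.mem_sup_left (Subgroup.mem_zpowers _)) (Subgroup.mem_sup_right hf)
    · exact Subgroup.mem_sup_right (hΦn c' hc' f hf)
  have hCle : Nat.card h.ca.C ≤ p * Nat.card Φ₀ := by
    refine Nat.le_of_mul_le_mul_left ?_ (pow_pos (Fact.out : p.Prime).pos 3)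
    exact hcard.trans (Nat.mul_le_mul_left _ hNle)
  obtain ⟨g, hg, hgen'⟩ : ∃ g ∈ h.ca.C, Φ₀ ⊔ Subgroup.zpowers g = h.ca.C := by
    by_cases hall : h.ca.C ≤ Φ₀
    · exact ⟨1, one_mem _, by
        rw [Subgroup.zpowers_one_eq_bot, sup_bot_eq]; exact le_antisymm hΦ₀C hall⟩
    · obtain ⟨g, hg, hgΦ⟩ := SetLike.not_le_iff_exists.mp hall
      refine ⟨g, hg, eq_of_le_of_card_ge hCS (sup_le hΦ₀C (Subgroup.zpowers_le.mpr hg))
        (hCle.trans (mul_card_le_of_lt hS (sup_le (hΦ₀C.trans hCS)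
          (Subgroup.zpowers_le.mpr (hCS hg))) (lt_of_le_not_ge le_sup_left
            fun e => hgΦ (e (Subgroup.mem_sup_right (Subgroup.mem_zpowers g))))))⟩
  have hCeq : Subgroup.zpowers h.c₀ ⊔ Subgroup.zpowers g = h.ca.C := by
    have hR : Subgroup.zpowers h.c₀ ⊔ Subgroup.zpowers g ≤ h.ca.C :=
      sup_le (Subgroup.zpowers_le.mpr h.c₀_mem) (Subgroup.zpowers_le.mpr hg)
    have htop : (Subgroup.zpowers h.c₀ ⊔ Subgroup.zpowers g).subgroupOf h.ca.C = ⊤ := by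
      refine frattini_nongenerating (eq_top_iff.mpr fun d _ => ?_)
      have hd : (d : Ω) ∈ (Subgroup.zpowers h.c₀ ⊔ Subgroup.zpowers g) ⊔ Φ := by
        rw [sup_right_comm]; exact hgen'.ge d.2
      have hmap : ((Subgroup.zpowers h.c₀ ⊔ Subgroup.zpowers g).subgroupOf h.ca.C ⊔
          frattini h.ca.C).map h.ca.C.subtype =
          (Subgroup.zpowers h.c₀ ⊔ Subgroup.zpowers g) ⊔ Φ := by
        rw [Subgroup.map_sup, Subgroup.subgroupOf_map_subtype, inf_eq_left.mpr hR]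
      rw [← hmap] at hd
      obtain ⟨d', hd', e⟩ := hd
      rwa [Subtype.ext e] at hd'
    exact le_antisymm hR (Subgroup.subgroupOf_eq_top.mp htop)
  have hcomm₀ : ∀ d ∈ h.ca.C, Commute d h.c₀ := fun d hd =>
    (((show Commute d y from h.cy d hd).mul_right (h.cy' d hd)).mul_right
      (show Commute d y from h.cy d hd).inv_right).mul_right
      (show Commute d y' from h.cy' d hd).inv_right
  have hab : ∀ a ∈ h.ca.C, ∀ b ∈ h.ca.C, a * b = b * a := by
    rw [← hCeq, Subgroup.sup_eq_closure]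
    refine commute_closure ?_
    rintro a (⟨m, rfl⟩ | ⟨m, rfl⟩) b (⟨m', rfl⟩ | ⟨m', rfl⟩)
    · exact (Commute.refl h.c₀).zpow_zpow m m'
    · exact ((hcomm₀ g hg).symm.zpow_zpow m m').eq
    · exact ((hcomm₀ g hg).zpow_zpow m m').eq
    · exact (Commute.refl g).zpow_zpow m m'
  have hle : S ≤ Subgroup.centralizer ({c} : Set Ω) := by
    rw [← h.closure_eq, Subgroup.closure_le]
    rintro z (hz | rfl | rfl | rfl) <;> rw [SetLike.mem_coe, Subgroup.mem_centralizer_singleton_iff]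
    exacts [hab z hz c hc, (h.cy c hc).symm, (h.cy' c hc).symm, h.v_comm hc.1]
  exact (Subgroup.mem_centralizer_singleton_iff.mp (hle hs)).symm

end CS

end Cfsg.Agent.Rank3
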