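import Cfsg.Agent.Lib.Rank3CaseB34Base

/-!
Case B of the rank three engine: cubic modules do not occur, and some `O^{p'}(Aut_F(E₂))` moves a
natural plane.
-/

set_option autoImplicit false
set_option linter.unusedSectionVars false

namespace Cfsg.Agent.Rank3

open Cfsg.FusionSystem Cfsg.Agent.FusionSysBasic Cfsg.Agent.FusionSysSaturated
  Cfsg.Agent.FusionSysNormal Cfsg.Agent.FusionSysAlperin

universe u

variable {Ω : Type u} [Group Ω] {S : Subgroup Ω} {F : FusionSystem S} {p : ℕ}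
  [Finite S] [Fact p.Prime]

theorem afun_omZ_im {E : Subgroup Ω} (hES : E ≤ S) (α : MulAut S) {x : Ω} (hx : x ∈ OmZ p E) :
    afun α x ∈ OmZ p (im E (afun α)) := by
  refine ⟨apply_mem_im hx.1, ?_, ?_⟩
  · have h : (⟨x, hES hx.1⟩ : S) ^ p = 1 := Subtype.ext hx.2.1
    rw [afun_apply α (hES hx.1), ← Subgroup.coe_pow, ← map_pow, h, map_one, Subgroup.coe_one]
  · intro y hy
    have hle : im E (afun α) ≤ Subgroup.centralizer ({afun α x} : Set Ω) := by
      rw [im_le_iff]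
      intro e he
      rw [Subgroup.mem_centralizer_singleton_iff, ← afun_map_mul α (hES he) (hES hx.1),
        ← afun_map_mul α (hES hx.1) (hES he), hx.2.2 e he]
    exact (Subgroup.mem_centralizer_singleton_iff.mp (hle hy)).symm

variable {𝔈 : Set (Subgroup Ω)}

theorem img_autS_le_of_caseB (hc : Ctx F p 𝔈) (hB : ∀ E ∈ 𝔈, ∀ E' ∈ 𝔈, OmZ p E ≤ E')
    {E₁ U : Subgroup Ω} (h₁ : E₁ ∈ 𝔈) (hU : U ≤ OmZ p E₁) {α : MulAut S}
    (hα : α ∈ F.autGroup S) {E : Subgroup Ω} (hE : E ∈ 𝔈) : img α U ≤ E := by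
  intro y hy
  obtain ⟨x, hx, rfl⟩ := (mem_img ((hU.trans omZ_le).trans (hc.max _ h₁).le)).mp hy
  exact hB _ (hc.aut _ h₁ α hα) _ hE (afun_omZ_im (hc.max _ h₁).le α (hU hx))

theorem false_of_cubic (hc : Ctx F p 𝔈) (hB : ∀ E ∈ 𝔈, ∀ E' ∈ 𝔈, OmZ p E ≤ E')
    {E₁ V : Subgroup Ω} (h₁ : E₁ ∈ 𝔈) (hV : Cubic F p E₁ V) : False := by
  have hM := hc.max _ h₁
  have hVE : V ≤ E₁ := hV.le.trans omZ_le
  have hVS : V ≤ S := hVE.trans hM.le
  have hcomm : ∀ a ∈ V, ∀ b ∈ V, a * b = b * a := fun a ha b hb => (hV.le ha).2.2 b (hVE hb)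
  have hpow : ∀ a ∈ V, a ^ p = 1 := fun a ha => (hV.le ha).2.1
  have hkey : ∀ y ∈ E₁, y ^ p = 1 → y ∈ V := fun y hy hyp =>
    mem_of_commute hc.hS hc.rk hVS hV.card hcomm hpow (hM.le hy) hyp
      (fun a ha => ((hV.le ha).2.2 y hy).symm)
  have hS' : Inv F S V := fun α hα x hx => by
    have h2 : afun α x ∈ E₁ :=
      img_autS_le_of_caseB hc hB h₁ hV.le hα h₁ (afun_mem_img α hVS hx)
    refine hkey _ h2 ?_
    have h : (⟨x, hVS hx⟩ : S) ^ p = 1 := Subtype.ext (hpow x hx)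
    rw [afun_apply α (hVS hx), ← Subgroup.coe_pow, ← map_pow, h, map_one, Subgroup.coe_one]
  have hall : ∀ E ∈ 𝔈, V ≤ E ∧ Inv F E V := by
    intro E hE
    have hVE' : V ≤ E := fun x hx => hB _ h₁ _ hE (hV.le hx)
    refine ⟨hVE', ?_⟩
    intro α hα v hv
    have hpow' : ∀ w ∈ V, afun α w ^ p = 1 := by
      intro w hw
      have h : (⟨w, hVE' hw⟩ : E) ^ p = 1 := Subtype.ext (hpow w hw)
      rw [afun_apply α (hVE' hw), ← Subgroup.coe_pow, ← map_pow, h, map_one, Subgroup.coe_one]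
    by_cases hle : img α V ≤ E₁
    · exact hkey _ (hle (afun_mem_img α hVE' hv)) (hpow' v hv)
    exfalso
    obtain ⟨x, hx, hxE⟩ := SetLike.not_le_iff_exists.mp hle
    have hxS : x ∈ S := (hc.max _ hE).le (img_le α V hx)
    obtain ⟨w, hw, hne⟩ := hV.notQuad x hxS hxE
    apply hne
    -- the commutator lies in the abelian group `img α V`
    have hcm : cj x w * w⁻¹ ∈ img α V := by
      have hxi := (img α V).inv_mem hx
      obtain ⟨a, ha, hax⟩ := (mem_img hVE').mp hxi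
      have hw' : w ∈ E := hVE' hw
      have hb : cj (afun α⁻¹ w) a ∈ V :=
        hM.cj_mem_of_inv hVE hV.inv ((hc.max _ hE).le (afun_mem _ hw')) ha
      have h3 : afun α (cj (afun α⁻¹ w) a) = cj w x⁻¹ := by
        have hw'' := afun_mem α⁻¹ hw'
        have := ((mem_autGroup (hc.max _ hE).le).mp hα).map_cj hw'' (hVE' ha)
        rw [this, afun_apply_inv α hw', hax]
      have := (img α V).mul_mem hx (h3 ▸ afun_mem_img α hVE' hb)
      simpa [cj_apply, mul_assoc] using this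
    obtain ⟨a, ha, hax⟩ := (mem_img hVE').mp hx
    obtain ⟨b, hb, hbc⟩ := (mem_img hVE').mp hcm
    rw [cj_apply x (cj x w * w⁻¹), ← hbc, ← hax, ← afun_map_mul α (hVE' ha) (hVE' hb), hcomm a ha b hb,
      afun_map_mul α (hVE' hb) (hVE' ha), mul_inv_cancel_right]
  have := hc.free V hVS hS' hall
  have hcard := hV.card
  rw [this, Subgroup.card_bot] at hcard
  exact absurd hcard.symm (Nat.one_lt_pow (by norm_num) (Fact.out : p.Prime).one_lt).ne'

theorem exists_mover (hc : Ctx F p 𝔈) (hB : ∀ E ∈ 𝔈, ∀ E' ∈ 𝔈, OmZ p E ≤ E')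
    {E₁ U : Subgroup Ω} (h₁ : E₁ ∈ 𝔈) (hU : Plane F p E₁ U) :
    ∃ E₂ ∈ 𝔈, ∃ α ∈ opp F p E₂, ∃ u ∈ U, afun α u ∉ U := by
  by_contra hcon
  push Not at hcon
  have hinv : ∀ E ∈ 𝔈, InvBy (opp F p E) U := fun E hE α hα u hu => hcon E hE α hα u hu
  have hM := hc.max _ h₁
  have hUS : U ≤ S := hU.le_E.trans hM.le
  have hS' : Inv F S U := by
    intro α hα u hu
    have hle : img α U ≤ E₁ := img_autS_le_of_caseB hc hB h₁ hU.le hα h₁
    have hI : InvBy (opp F p E₁) (img α U) := by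
      have hf : Mor F E₁ (afun α⁻¹) := ((mem_autGroup le_rfl).mp (inv_mem hα)).restrict_to hM.le
      have hopp : (opp F p E₁).map (hf.transport rfl).toMonoidHom ≤
          opp F p (im E₁ (afun α⁻¹)) := by
        rw [opp, MonoidHom.map_closure]
        refine Subgroup.closure_mono ?_
        rintro _ ⟨m, ⟨hm, k, hk⟩, rfl⟩
        exact ⟨hf.transport_mem rfl hm, k, (hf.transport rfl).orderOf_eq m ▸ hk⟩
      intro m hm y hy
      have hyE : y ∈ E₁ := hle hy
      obtain ⟨x, hx, rfl⟩ := (mem_img hUS).mp hy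
      have h1 := hf.afun_transport rfl m hyE
      rw [afun_inv_apply α (hUS hx)] at h1
      have h2 := hinv _ (hc.aut _ h₁ _ (inv_mem hα)) _ (hopp ⟨m, hm, rfl⟩) x hx
      rw [MulEquiv.coe_toMonoidHom, h1] at h2
      have := afun_mem_img α hUS h2
      rwa [afun_apply_inv α (hM.le (afun_mem m hyE))] at this
    have hne : U ⊓ img α U ≠ ⊥ := by
      intro hd
      have h4 := card_mul_le_of_disjoint hUS (hle.trans hM.le) hd
      rw [card_img α hUS, hU.card] at h4
      have hcT : ∀ a ∈ ((U : Set Ω) ∪ (img α U : Set Ω)), ∀ b ∈ ((U : Set Ω) ∪ (img α U : Set Ω)),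
          a * b = b * a := by
        rintro a (ha | ha) b (hb | hb)
        · exact hU.commute ha (hU.le_E hb)
        · exact hU.commute ha (hle hb)
        · exact (hU.commute hb (hle ha)).symm
        · obtain ⟨a', ha', rfl⟩ := (mem_img hUS).mp ha
          obtain ⟨b', hb', rfl⟩ := (mem_img hUS).mp hb
          rw [← afun_map_mul α (hUS ha') (hUS hb'), ← afun_map_mul α (hUS hb') (hUS ha'),
            hU.commute ha' (hU.le_E hb')]
      have hpT : ∀ a ∈ ((U : Set Ω) ∪ (img α U : Set Ω)), a ^ p = 1 := by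
        rintro a (ha | ha)
        · exact hU.pow_p ha
        · obtain ⟨a', ha', rfl⟩ := (mem_img hUS).mp ha
          exact (afun_omZ_im hM.le α (hU.le ha')).2.1
      have h3 : Nat.card ↥(U ⊔ img α U) ≤ p ^ 3 := by
        refine elem_card_le hc.rk (sup_le hUS (hle.trans hM.le)) ?_ ?_ <;>
          rw [Subgroup.sup_eq_closure]
        · exact commute_closure hcT
        · exact elem_closure hcT hpT
      have hp1 := (Fact.out : p.Prime).two_le
      have : p ^ 2 * p ^ 2 ≤ p ^ 3 := h4.trans h3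
      have h0 : 0 < p ^ 3 := by positivity
      have h5 : p * p ^ 3 ≤ 1 * p ^ 3 := by rw [one_mul]; linarith [this, show p * p ^ 3 = p ^ 2 * p ^ 2 by ring]
      have := Nat.le_of_mul_le_mul_right h5 h0
      omega
    rcases hU.irred _ inf_le_left ((hinv _ h₁).inf hI) with h | h
    · exact absurd h hne
    · have heq : img α U = U := (eq_of_le_of_card_ge (hle.trans hM.le)
        (h.symm.le.trans inf_le_right) (card_img α hUS).le).symm
      exact heq ▸ afun_mem_img α hUS hu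
  have hall : ∀ E ∈ 𝔈, U ≤ E ∧ Inv F E U := fun E hE => by
    have hUE : U ≤ E := fun x hx => hB _ h₁ _ hE (hU.le hx)
    exact ⟨hUE, (hc.max _ hE).inv_of_opp hc.hS hc.hF hUE hS' (hinv E hE)⟩
  exact hU.ne_bot (hc.free U hUS hS' hall)

end Cfsg.Agent.Rank3
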