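import Cfsg.Agent.Lib.Rank3CaseB34TwoLayer
import Cfsg.Agent.Lib.Rank3CaseB34Split

/-!
Case B2 of the rank three engine is impossible.
-/

set_option autoImplicit false
set_option linter.unusedSectionVars false

namespace Cfsg.Agent.Rank3

open Cfsg.FusionSystem Cfsg.Agent.FusionSysBasic Cfsg.Agent.FusionSysSaturated
  Cfsg.Agent.FusionSysNormal Cfsg.Agent.FusionSysAlperin

universe u

variable {Ω : Type u} [Group Ω] {S : Subgroup Ω} {F : FusionSystem S} {p : ℕ}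
  [Finite S] [Fact p.Prime]

namespace CaseB2

open Conf

variable {E₁ U E₂ H : Subgroup Ω}

/-- Commutators of `E₂` centralise `H`. -/
theorem Conf.br_mem_cH (c : Conf F p E₁ U E₂ H) {e e' : Ω} (he : e ∈ E₂) (he' : e' ∈ E₂) :
    br e e' ∈ cH S H := by
  have hS2 := c.m2.le
  have key : ∀ a ∈ E₂, ∀ b ∈ E₂, ∀ h ∈ H, cj (a * b) h = br b h * br a h * h := by
    intro a ha b hb h hh
    have h1 : cj (a * b) h = a * br b h * a⁻¹ * (br a h * h) := by
      simp only [br, cj_apply]; group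
    rw [h1, ← c.zu_central (c.comm2 b hb h hh) (hS2 ha), mul_inv_cancel_right, mul_assoc]
  have hswap : ∀ h ∈ H, cj (e * e') h = cj (e' * e) h := fun h hh => by
    rw [key e he e' he' h hh, key e' he' e he h hh,
      c.zu_central (c.comm2 e' he' h hh) (c.hHS (c.uH (c.comm2 e he h hh).1))]
  have hmemS : br e e' ∈ S :=
    hS2 (E₂.mul_mem (E₂.mul_mem (E₂.mul_mem he he') (E₂.inv_mem he)) (E₂.inv_mem he'))
  refine mem_cH.mpr ⟨hmemS, fun h hh => ?_⟩
  have h' := c.cj_mem (S.inv_mem (hS2 (E₂.mul_mem he' he))) hh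
  have h3 := hswap _ h'
  rw [cj_cj_inv, cj_cj,
    show e * e' * (e' * e)⁻¹ = br e e' by simp only [br]; group, cj_apply,
    mul_inv_eq_iff_eq_mul] at h3
  exact h3.symm

theorem false_of_conf (c : Conf F p E₁ U E₂ H) : False := by
  have hp := (Fact.out : p.Prime)
  obtain ⟨N, φ, ly⟩ := Layer.exists_top c
  have hS2 := c.m2.le
  have hS1 := c.m1.le
  have hC2 := c.cH_le2
  have hC1 := c.cH_le1
  have hCS : cH S H ≤ S := inf_le_left
  let Z : Subgroup Ω := U ⊓ OmZ p S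
  let N₀ : Subgroup Ω := ly.pre Z
  have hN0C : N₀ ≤ cH S H := ly.pre_le Z
  have hNN0 : N ≤ N₀ := ly.le_pre Z
  have hNE : N ≤ E₂ := (ly.nl).trans hC2
  have hn0 : ∀ g ∈ E₂, ∀ y ∈ N₀, cj g y ∈ N₀ := by
    intro g hg y hy
    refine ⟨ly.cj_L c g (hS2 hg) y hy.1, ?_⟩
    rw [ly.map_cj c (hS2 hg) hy.1, cj_apply, ← c.zu_central hy.2 (hS2 hg), mul_inv_cancel_right]
    exact hy.2
  have hcent : ∀ e ∈ E₂, ∀ y ∈ cH S H, br e y ∈ N₀ := by
    intro e he y hy
    have hbr : br e y ∈ cH S H :=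
      mul_mem (ly.cj_L c e (hS2 he) y hy) (inv_mem hy)
    refine ⟨hbr, ?_⟩
    rw [ly.map_br c (hS2 he) hy]
    exact c.comm2 e he _ (ly.mem y hy)
  obtain ⟨x, hx, hx1⟩ := c.exists_x
  obtain ⟨q, hq1, hq2, h₀, hh₀, hh₀U, hqh⟩ := c.exists_q
  -- generators of `E₂`
  let T : Set Ω := insert x (insert q (cH S H : Set Ω))
  have hTE : T ⊆ E₂ := Set.insert_subset hx (Set.insert_subset hq2 hC2)
  have hgen : E₂ ≤ Subgroup.closure T := by
    intro y hy
    obtain ⟨e, he, k, rfl⟩ := c.m1.exists_eq_mul (hS2 hx) hx1 (hS2 hy)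
    have he2 : e ∈ E₂ := by
      simpa [mul_assoc] using E₂.mul_mem hy (E₂.inv_mem (E₂.zpow_mem hx k))
    obtain ⟨i, hi⟩ := c.exists_zu_pow (c.comm2 q hq2 h₀ hh₀) hqh (c.comm2 e he2 h₀ hh₀)
    have hqi : br (q ^ i) h₀ = br e h₀ := by
      rw [br_pow_left (c.zu_central (c.comm2 q hq2 h₀ hh₀) (hS2 hq2)).symm, hi]
    have hqi2 : q ^ i ∈ E₂ := E₂.pow_mem hq2 i
    have hw1 : (q ^ i)⁻¹ * e ∈ E₁ := E₁.mul_mem (E₁.inv_mem (E₁.pow_mem hq1 i)) he
    have hwh : br ((q ^ i)⁻¹ * e) h₀ = 1 := by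
      rw [br_mul_left, br_inv_left, hqi, inv_inv]
      group
    have hwC : (q ^ i)⁻¹ * e ∈ cH S H := by
      refine mem_cH.mpr ⟨hS1 hw1, fun h hh => ?_⟩
      have hle : H ≤ Subgroup.centralizer ({(q ^ i)⁻¹ * e} : Set Ω) := c.le_of_gen
        (fun u hu => Subgroup.mem_centralizer_singleton_iff.mpr (c.hU.commute hu hw1))
        hh₀ hh₀U (Subgroup.mem_centralizer_singleton_iff.mpr (br_eq_one.mp hwh).symm)
      exact Subgroup.mem_centralizer_singleton_iff.mp (hle hh)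
    have hxT : x ∈ Subgroup.closure T := Subgroup.subset_closure (Set.mem_insert x _)
    have hqT : q ∈ Subgroup.closure T :=
      Subgroup.subset_closure (Set.mem_insert_of_mem x (Set.mem_insert q _))
    have hwT : (q ^ i)⁻¹ * e ∈ Subgroup.closure T :=
      Subgroup.subset_closure (Set.mem_insert_of_mem x (Set.mem_insert_of_mem q hwC))
    have := Subgroup.mul_mem _ (Subgroup.mul_mem _ (Subgroup.pow_mem _ hqT i) hwT)
      (Subgroup.zpow_mem _ hxT k)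
    rwa [mul_inv_cancel_left] at this
  -- the derived subgroup of `E₂` modulo `N₀` is cyclic
  let c₀ : Ω := br x q
  have hc₀ : c₀ ∈ cH S H := c.br_mem_cH hx hq2
  let D : Subgroup Ω := N₀ ⊔ Subgroup.zpowers c₀
  have hnD : ∀ k ∈ E₂, ∀ y ∈ D, cj k y ∈ D := by
    intro k hk y hy
    have hle : D ≤ D.comap (MulAut.conj k).toMonoidHom := by
      refine sup_le (fun a ha => Subgroup.mem_sup_left (hn0 k hk a ha))
        (Subgroup.zpowers_le.mpr ?_)
      show cj k c₀ ∈ D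
      rw [show cj k c₀ = br k c₀ * c₀ by simp only [br, cj_apply]; group]
      exact mul_mem (Subgroup.mem_sup_left (hcent k hk c₀ hc₀))
        (Subgroup.mem_sup_right (Subgroup.mem_zpowers c₀))
    exact hle hy
  have hD : ∀ a ∈ E₂, ∀ b ∈ E₂, br a b ∈ D := by
    intro a ha b hb
    have hTc : Subgroup.closure T ≤ E₂ := (Subgroup.closure_le _).mpr hTE
    refine gen_comm (T := T) (fun k hk y hy => hnD k (hTc hk) y hy) ?_ a (hgen ha) b (hgen hb)
    have h0 : ∀ g ∈ E₂, ∀ y ∈ cH S H, br g y ∈ D ∧ br y g ∈ D := fun g hg y hy =>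
      ⟨Subgroup.mem_sup_left (hcent g hg y hy), by
        rw [← br_symm]; exact Subgroup.mem_sup_left (N₀.inv_mem (hcent g hg y hy))⟩
    rintro a (rfl | rfl | ha) b (rfl | rfl | hb)
    · simp
    · exact Subgroup.mem_sup_right (Subgroup.mem_zpowers c₀)
    · exact (h0 _ hx b hb).1
    · show br a b ∈ D
      rw [← br_symm]
      exact D.inv_mem (Subgroup.mem_sup_right (Subgroup.mem_zpowers c₀))
    · simp
    · exact (h0 _ hq2 b hb).1
    · exact (h0 _ hx a ha).2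
    · exact (h0 _ hq2 a ha).2
    · exact (h0 _ (hC2 ha) b hb).1
  -- hence it lies in `N₀`
  let V : Set Ω := (N₀ : Set Ω) ∪ {y | ∃ a ∈ E₂, ∃ b ∈ E₂, br a b = y}
  let N₁ : Subgroup Ω := Subgroup.closure V
  have hVC : V ⊆ cH S H := by
    rintro y (hy | ⟨a, ha, b, hb, rfl⟩)
    · exact hN0C hy
    · exact c.br_mem_cH ha hb
  have hN1C : N₁ ≤ cH S H := (Subgroup.closure_le _).mpr hVC
  have hN1inv : InvBy (F.autGroup E₂) N₁ := by
    refine invBy_closure_set (hVC.trans hC2) ?_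
    rintro α hα y (hy | ⟨a, ha, b, hb, rfl⟩)
    · refine Subgroup.subset_closure (Or.inl ⟨c.inv_cH2 α hα y hy.1, ?_⟩)
      rw [ly.eq2 α hα y hy.1]
      exact c.invZ α hα _ hy.2
    · exact Subgroup.subset_closure (Or.inr ⟨_, afun_mem α ha, _, afun_mem α hb,
        (afun_br α ha hb).symm⟩)
  let P : Subgroup Ω :=
    { carrier := {h | ∃ y ∈ N₁, φ y = h}
      one_mem' := ⟨1, one_mem _, ly.map_one⟩
      mul_mem' := by
        rintro _ _ ⟨a, ha, rfl⟩ ⟨b, hb, rfl⟩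
        exact ⟨a * b, mul_mem ha hb, ly.map_mul a (hN1C ha) b (hN1C hb)⟩
      inv_mem' := by
        rintro _ ⟨a, ha, rfl⟩
        exact ⟨a⁻¹, inv_mem ha, ly.map_inv (hN1C ha)⟩ }
  have hPH : P ≤ H := by
    rintro _ ⟨y, hy, rfl⟩
    exact ly.mem y (hN1C hy)
  have hZP : Z ≤ P := fun z hz => by
    obtain ⟨y, hy, rfl⟩ := ly.surj z (c.uH hz.1)
    exact ⟨y, Subgroup.subset_closure (Or.inl ⟨hy, hz⟩), rfl⟩
  have hPinv : Inv F E₂ P := by
    rintro α hα _ ⟨y, hy, rfl⟩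
    exact ⟨_, hN1inv α hα y hy, ly.eq2 α hα y (hN1C hy)⟩
  have hPZ : P = Z := by
    rcases c.between hZP hPH hPinv with e | e
    · exact e
    exfalso
    let W : Subgroup Ω := Subgroup.zpowers (φ c₀)
    have hW : W ≤ H := Subgroup.zpowers_le.mpr (ly.mem c₀ hc₀)
    have hDle : D ≤ ly.pre (Z ⊔ W) := sup_le
      (fun a ha => ⟨ha.1, Subgroup.mem_sup_left ha.2⟩)
      (Subgroup.zpowers_le.mpr ⟨hc₀, Subgroup.mem_sup_right (Subgroup.mem_zpowers _)⟩)
    have hN1D : N₁ ≤ D := by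
      refine (Subgroup.closure_le _).mpr ?_
      rintro y (hy | ⟨a, ha, b, hb, rfl⟩)
      · exact Subgroup.mem_sup_left hy
      · exact hD a ha b hb
    have hPle : P ≤ Z ⊔ W := by
      rintro _ ⟨y, hy, rfl⟩
      exact (hDle (hN1D hy)).2
    haveI := finite_of_le (inf_le_left.trans c.hUS : Z ≤ S)
    haveI := finite_of_le (hW.trans c.hHS)
    haveI := finite_of_le (sup_le (inf_le_left.trans c.hUS) (hW.trans c.hHS) : Z ⊔ W ≤ S)
    have h1 := card_join_le (A := Z) (B := W)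
      fun a ha b hb => c.zu_central ha (c.hHS (hW hb))
    have h2 : Nat.card W ≤ p := by
      rw [Nat.card_zpowers]
      exact Nat.le_of_dvd hp.pos (orderOf_dvd_of_pow_eq_one (c.pow _ (ly.mem c₀ hc₀)))
    have h3 := Subgroup.card_le_of_le hPle
    rw [e, c.card] at h3
    have h4 : p ^ 3 ≤ p ^ 2 := by
      calc p ^ 3 ≤ Nat.card Z * Nat.card W := h3.trans h1
        _ ≤ p * p := Nat.mul_le_mul c.zu_card.le h2
        _ = p ^ 2 := (sq p).symm
    exact absurd ((Nat.pow_le_pow_iff_right hp.one_lt).mp h4) (by norm_num)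
  have hder : ∀ a ∈ E₂, ∀ b ∈ E₂, br a b ∈ N₀ := fun a ha b hb =>
    ⟨c.br_mem_cH ha hb,
      hPZ.le ⟨_, Subgroup.subset_closure (Or.inr ⟨a, ha, b, hb, rfl⟩), rfl⟩⟩
  -- `E₂ / N₀` has exponent `p`
  have hpC : ∀ a ∈ E₂, a ^ p ∈ cH S H := fun a ha =>
    mem_cH.mpr ⟨hS2 (E₂.pow_mem ha p), fun h hh => (br_eq_one.mp (by
      rw [br_pow_left (c.zu_central (c.comm2 a ha h hh) (hS2 ha)).symm]
      exact (c.comm2 a ha h hh).2.2.1)).symm⟩
  have hpN : ∀ a ∈ E₂, a ^ p ∈ N₀ := by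
    intro a ha
    refine ⟨hpC a ha, c.fixed_mem (ly.mem _ (hpC a ha)) fun b hb => ?_⟩
    obtain ⟨n, hn⟩ : ∃ n, n = br b a := ⟨_, rfl⟩
    have hnN : n ∈ N₀ := hn ▸ hder b hb a ha
    have hcN : br a n ∈ N := by
      have hm : br a n ∈ cH S H := mul_mem (ly.cj_L c a (hS2 ha) n hnN.1) (inv_mem hnN.1)
      refine (ly.ker _ hm).mp ?_
      rw [ly.map_br c (hS2 ha) hnN.1]
      exact br_eq_one.mpr (c.zu_central hnN.2 (hS2 ha)).symm
    have hfix : ∀ g ∈ E₂, br (br a n) g ∈ N := fun g hg => by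
      have h := N.mul_mem hcN (ly.cj_N c g (hS2 hg) _ (N.inv_mem hcN))
      rwa [show br a n * cj g (br a n)⁻¹ = br (br a n) g by
        simp only [br, cj_apply]; group] at h
    have h := pow_prime_mul_mod hp c.odd (K := E₂) (N := N)
      (fun k hk y hy => ly.cj_N c k (hS2 hk) y hy) (hC2 hnN.1) ha (hfix n (hC2 hnN.1))
      (hfix a ha) (N.pow_mem hcN p)
    have hna : n * a = cj b a := by rw [hn]; simp only [br, cj_apply]; group
    have hcjp : (n * a) ^ p = cj b (a ^ p) := by rw [hna, cj_apply, cj_apply, conj_pow]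
    have h2 := (ly.ker _ (ly.nl h)).mpr h
    have hnp : n ^ p ∈ cH S H := pow_mem hnN.1 p
    have hna' : (n * a) ^ p ∈ cH S H := by
      rw [hcjp]; exact ly.cj_L c b (hS2 hb) _ (hpC a ha)
    have hnap : n ^ p * a ^ p ∈ cH S H := mul_mem hnp (hpC a ha)
    have h1 : φ (n ^ p) = 1 := by rw [ly.map_pow hnN.1]; exact hnN.2.2.2.1
    rw [ly.map_mul _ hna' _ (inv_mem hnap), ly.map_inv hnap, mul_inv_eq_one,
      ly.map_mul _ hnp _ (hpC a ha), h1, one_mul, hcjp, ly.map_cj c (hS2 hb) (hpC a ha),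
      cj_apply, mul_inv_eq_iff_eq_mul] at h2
    exact h2
  -- counting
  have hsec := section_card c.rk hS2 (hN0C.trans hC2) hn0 hder hpN
  let E₀ : Subgroup Ω := Subgroup.closure (insert q (cH S H : Set Ω))
  have hE₀2 : E₀ ≤ E₂ := (Subgroup.closure_le _).mpr (Set.insert_subset hq2 hC2)
  have hE₀1 : E₀ ≤ E₁ := (Subgroup.closure_le _).mpr (Set.insert_subset hq1 hC1)
  have hCE₀ : cH S H < E₀ := lt_of_le_not_ge
    (fun y hy => Subgroup.subset_closure (Set.mem_insert_of_mem q hy)) fun hle => by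
      have hq := mem_cH.mp (hle (Subgroup.subset_closure (Set.mem_insert q _)))
      exact hqh (br_eq_one.mpr (hq.2 h₀ hh₀).symm)
  have hE₀E : E₀ < E₂ := lt_of_le_not_ge hE₀2 fun hle => hx1 (hE₀1 (hle hx))
  have hZU : Z < U := lt_of_le_of_ne inf_le_left fun e => by
    have h := c.zu_card
    rw [show U ⊓ OmZ p S = U from e, c.hU.card] at h
    exact absurd (Nat.pow_right_injective hp.two_le (a₁ := 2) (a₂ := 1) (by simpa using h))
      (by norm_num)
  have t1 := mul_card_le_of_lt c.hS ((ly.pre_le U).trans hCS) (ly.pre_lt hZU c.uH)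
  have t2 := mul_card_le_of_lt c.hS hCS
    ((ly.pre_lt (lt_of_le_of_ne c.uH c.u_ne_h) le_rfl).trans_le (ly.pre_le H))
  have t3 := mul_card_le_of_lt c.hS (hE₀2.trans hS2) hCE₀
  have t4 := mul_card_le_of_lt c.hS hS2 hE₀E
  haveI := finite_of_le (hN0C.trans hCS)
  have h0 : 0 < Nat.card N₀ := Nat.card_pos
  have h5 : p ^ 4 * Nat.card N₀ ≤ p ^ 3 * Nat.card N₀ := by
    calc p ^ 4 * Nat.card N₀ = p * (p * (p * (p * Nat.card N₀))) := by ring
      _ ≤ p * (p * (p * Nat.card ↥(ly.pre U))) :=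
          Nat.mul_le_mul_left p (Nat.mul_le_mul_left p (Nat.mul_le_mul_left p t1))
      _ ≤ p * (p * Nat.card ↥(cH S H)) := Nat.mul_le_mul_left p (Nat.mul_le_mul_left p t2)
      _ ≤ p * Nat.card E₀ := Nat.mul_le_mul_left p t3
      _ ≤ _ := t4.trans hsec
  exact absurd ((Nat.pow_le_pow_iff_right hp.one_lt).mp (Nat.le_of_mul_le_mul_right h5 h0))
    (by norm_num)

end CaseB2

/-- Case B2: no natural plane all of whose images under `Aut_F(E₂)` lie in `E₁` is moved by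
`O^{p'}(Aut_F(E₂))`. -/
theorem false_of_B2 {𝔈 : Set (Subgroup Ω)} (hc : Ctx F p 𝔈)
    (hB : ∀ E ∈ 𝔈, ∀ E' ∈ 𝔈, OmZ p E ≤ E') {E₁ U E₂ : Subgroup Ω} (h₁ : E₁ ∈ 𝔈)
    (hU : Plane F p E₁ U) (h₂ : E₂ ∈ 𝔈) (hin : ∀ β ∈ F.autGroup E₂, img β U ≤ E₁)
    (hmv : ∃ α ∈ opp F p E₂, ∃ u ∈ U, afun α u ∉ U) : False := by
  obtain ⟨H, c⟩ := CaseB2.exists_conf hc hB h₁ hU h₂ hin hmv
  exact CaseB2.false_of_conf c

end Cfsg.Agent.Rank3
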