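import Cfsg.Agent.Lib.Rank3CaseB34TwoConf

/-!
Case B2 of the rank three engine: `H` and its centralizer are invariant in `E₁` and in `E₂`.
-/

set_option autoImplicit false
set_option linter.unusedSectionVars false

namespace Cfsg.Agent.Rank3.CaseB2

open Cfsg.FusionSystem Cfsg.Agent.FusionSysBasic Cfsg.Agent.FusionSysSaturated
  Cfsg.Agent.FusionSysNormal Cfsg.Agent.FusionSysAlperin Cfsg.Agent.Rank3

universe u

variable {Ω : Type u} [Group Ω] {S : Subgroup Ω} {F : FusionSystem S} {p : ℕ}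
  [Finite S] [Fact p.Prime] {E₁ U E₂ H : Subgroup Ω}

namespace Conf

theorem inv1 (c : Conf F p E₁ U E₂ H) : Inv F E₁ H := by
  have hp := (Fact.out : p.Prime)
  let T : Set Ω := {y | ∃ α ∈ F.autGroup E₁, y ∈ img α H}
  have hTE : T ⊆ E₁ := fun y ⟨α, _, hy⟩ => img_le α H hy
  let M : Subgroup Ω := Subgroup.closure T
  have hME : M ≤ E₁ := (Subgroup.closure_le _).mpr hTE
  have hMS : M ≤ S := hME.trans c.m1.le
  have hinvM : InvBy (F.autGroup E₁) M := invBy_closure_set hTE fun α hα y ⟨β, hβ, hy⟩ => by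
    refine Subgroup.subset_closure ⟨α * β, mul_mem hα hβ, ?_⟩
    rw [← img_mul α β c.h1]
    exact afun_mem_img α (img_le β H) hy
  have hbr : ∀ y ∈ M, ∀ e ∈ E₁, br e y ∈ U := by
    intro y hy
    induction hy using Subgroup.closure_induction with
    | mem y hy =>
      intro e he
      obtain ⟨α, hα, hy⟩ := hy
      obtain ⟨h, hh, rfl⟩ := (mem_img c.h1).mp hy
      have he' := afun_mem α⁻¹ he
      have h1 := c.hU.inv α hα _ (c.br_mem_U (c.m1.le he') hh)
      rwa [afun_br α he' (c.h1 hh), afun_apply_inv α he] at h1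
    | one => intro e _; rw [br_one_right]; exact one_mem _
    | mul a b ha hb iha ihb =>
      intro e he
      rw [br_mul_right, ← c.hU.commute (ihb e he) (hME ha), mul_inv_cancel_right]
      exact U.mul_mem (iha e he) (ihb e he)
    | inv a ha iha =>
      intro e he
      rw [br_inv_right, mul_assoc, c.hU.commute (U.inv_mem (iha e he)) (hME ha),
        inv_mul_cancel_left]
      exact U.inv_mem (iha e he)
  have hpow : ∀ y ∈ M, y ^ p = 1 := by
    intro y hy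
    induction hy using Subgroup.closure_induction with
    | mem y hy =>
      obtain ⟨α, hα, hy⟩ := hy
      obtain ⟨h, hh, rfl⟩ := (mem_img c.h1).mp hy
      rw [← afun_pow α (c.h1 hh), c.pow h hh, afun_one_eq]
    | one => exact one_pow p
    | mul a b ha hb iha ihb =>
      have hc' := hbr a ha b (hME hb)
      rw [pow_prime_mul hp c.odd a b (c.hU.commute hc' (hME ha)) (c.hU.commute hc' (hME hb))
        (c.hU.pow_p hc'), iha, ihb, one_mul]
    | inv a ha iha => rw [inv_pow, iha, inv_one]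
  suffices hMH : M ≤ H from fun α hα h hh =>
    hMH (Subgroup.subset_closure ⟨α, hα, afun_mem_img α c.h1 hh⟩)
  obtain ⟨h₀, hh₀, hh₀U⟩ := c.exists_h0
  have hh₁ : h₀ ∈ E₁ := c.h1 hh₀
  have hHM : H ≤ M := fun h hh => Subgroup.subset_closure ⟨1, one_mem _, by
    rw [img_one c.h1]; exact hh⟩
  have hδU : ∀ y ∈ M, br y h₀ ∈ U := fun y hy => c.br_mem_U (hMS hy) hh₀
  have hδmul : ∀ a ∈ M, ∀ b ∈ M, br (a * b) h₀ = br a h₀ * br b h₀ := by
    intro a ha b hb
    rw [br_mul_left, ← c.hU.commute (hδU b hb) (hME ha), mul_inv_cancel_right,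
      c.hU.commute (hδU b hb) (c.hU.le_E (hδU a ha))]
  have hδH : ∀ h ∈ H, br h h₀ = 1 := fun h hh => br_eq_one.mpr (c.comm h hh h₀ hh₀)
  have hkey : ∀ y ∈ M, br y h₀ = 1 → y ∈ H := by
    intro y hy h1
    have hle : H ≤ Subgroup.centralizer ({y} : Set Ω) := c.le_of_gen
      (fun u hu => Subgroup.mem_centralizer_singleton_iff.mpr (c.hU.commute hu (hME hy)))
      hh₀ hh₀U (Subgroup.mem_centralizer_singleton_iff.mpr (br_eq_one.mp h1).symm)
    exact mem_of_commute c.hS c.rk c.hHS c.card c.comm c.pow (hMS hy) (hpow y hy)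
      fun a ha => (Subgroup.mem_centralizer_singleton_iff.mp (hle ha)).symm
  intro m₁ hm₁
  by_contra hm₁H
  obtain ⟨a₁, ha₁⟩ : ∃ a, a = br m₁ h₀ := ⟨_, rfl⟩
  have ha₁1 : a₁ ≠ 1 := fun e => hm₁H (hkey m₁ hm₁ (ha₁ ▸ e))
  have ha₁U : a₁ ∈ U := ha₁ ▸ hδU m₁ hm₁
  let L : Subgroup Ω := Subgroup.zpowers a₁
  have hLU : L ≤ U := Subgroup.zpowers_le.mpr ha₁U
  have hLc : Nat.card L = p := by
    rw [Nat.card_zpowers, orderOf_eq_prime (c.hU.pow_p ha₁U) ha₁1]
  have hm₁pow : ∀ n : ℕ, br (m₁ ^ n) h₀ = a₁ ^ n := fun n => by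
    rw [br_pow_left (c.hU.commute (hδU m₁ hm₁) (hME hm₁)).symm, ha₁]
  by_cases hall : ∀ y ∈ M, br y h₀ ∈ L
  · -- `M = H ⟨m₁⟩` has derived subgroup of order `p`
    have hgen : M ≤ Subgroup.closure (insert m₁ (H : Set Ω)) := by
      intro y hy
      obtain ⟨n, hn⟩ := exists_nat_pow_eq hp.pos (c.hU.pow_p ha₁U) (hall y hy)
      have hw : y * (m₁ ^ n)⁻¹ ∈ M := M.mul_mem hy (M.inv_mem (M.pow_mem hm₁ n))
      have h1 := hδmul _ hw _ (M.pow_mem hm₁ n)
      rw [inv_mul_cancel_right, hm₁pow, hn] at h1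
      have hwH := hkey _ hw (mul_eq_right.mp h1.symm)
      have := mul_mem (Subgroup.subset_closure (Set.mem_insert_of_mem m₁ hwH))
        (Subgroup.pow_mem _ (Subgroup.subset_closure (Set.mem_insert m₁ (H : Set Ω))) n)
      rwa [inv_mul_cancel_right] at this
    have hcl : Subgroup.closure (insert m₁ (H : Set Ω)) ≤ M :=
      (Subgroup.closure_le _).mpr (Set.insert_subset hm₁ hHM)
    let K : Subgroup Ω :=
      { carrier := {w | w ∈ H ∧ br m₁ w ∈ L}
        one_mem' := ⟨H.one_mem, by rw [br_one_right]; exact one_mem _⟩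
        mul_mem' := fun {a b} ha hb => ⟨H.mul_mem ha.1 hb.1, by
          rw [br_mul_right, ← c.hU.commute (hLU hb.2) (c.h1 ha.1), mul_inv_cancel_right]
          exact L.mul_mem ha.2 hb.2⟩
        inv_mem' := fun {a} ha => ⟨H.inv_mem ha.1, by
          rw [br_inv_right, mul_assoc, c.hU.commute (hLU (L.inv_mem ha.2)) (c.h1 ha.1),
            inv_mul_cancel_left]
          exact L.inv_mem ha.2⟩ }
    have hHK : H ≤ K := c.le_of_gen (fun u hu => ⟨c.uH hu, by
      rw [c.br_U (hME hm₁) hu]; exact one_mem _⟩) hh₀ hh₀U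
      ⟨hh₀, by rw [← ha₁]; exact Subgroup.mem_zpowers a₁⟩
    have hcom : ∀ a ∈ M, ∀ b ∈ M, br a b ∈ L := fun a ha b hb => by
      refine gen_comm (T := insert m₁ (H : Set Ω)) (N := L) (fun k hk y hy => ?_) ?_
        a (hgen ha) b (hgen hb)
      · rw [c.hU.cj_fix (hLU hy) (hME (hcl hk))]; exact hy
      · rintro a (rfl | ha) b (rfl | hb)
        · simp
        · exact (hHK hb).2
        · have := L.inv_mem (hHK ha).2
          rwa [br_symm] at this
        · rw [c.comm a ha b hb, show b * a * a⁻¹ * b⁻¹ = 1 by group]; exact one_mem _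
    have hLinv : InvBy (opp F p E₁) L := by
      intro α hα y hy
      obtain ⟨n, rfl⟩ := exists_nat_pow_eq hp.pos (c.hU.pow_p ha₁U) hy
      rw [afun_pow α (c.hU.le_E ha₁U)]
      refine L.pow_mem ?_ n
      rw [ha₁, afun_br α (hME hm₁) hh₁]
      exact hcom _ (hinvM α (opp_le F p E₁ hα) m₁ hm₁) _
        (hinvM α (opp_le F p E₁ hα) h₀ (hHM hh₀))
    rcases c.hU.irred L hLU hLinv with e | e
    · exact ha₁1 (Subgroup.mem_bot.mp (e ▸ Subgroup.mem_zpowers a₁))
    · have h := c.hU.card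
      rw [← e, hLc] at h
      exact absurd (Nat.pow_right_injective hp.two_le (a₁ := 1) (a₂ := 2) (by simpa using h))
        (by norm_num)
  · push Not at hall
    obtain ⟨m₂, hm₂, hm₂L⟩ := hall
    obtain ⟨a₂, ha₂⟩ : ∃ a, a = br m₂ h₀ := ⟨_, rfl⟩
    rw [← ha₂] at hm₂L
    have ha₂U : a₂ ∈ U := ha₂ ▸ hδU m₂ hm₂
    have hsup : L ⊔ Subgroup.zpowers a₂ = U := by
      have hle : L ⊔ Subgroup.zpowers a₂ ≤ U := sup_le hLU (Subgroup.zpowers_le.mpr ha₂U)
      refine eq_of_le_of_card_ge c.hUS hle ?_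
      have hlt : L < L ⊔ Subgroup.zpowers a₂ := lt_of_le_not_ge le_sup_left fun h =>
        hm₂L (h (Subgroup.mem_sup_right (Subgroup.mem_zpowers a₂)))
      have := mul_card_le_of_lt c.hS (hle.trans c.hUS) hlt
      rw [hLc] at this
      rw [c.hU.card, sq]
      exact this
    have hUc : ∀ u ∈ U, ∀ v ∈ U, u * v = v * u := fun u hu v hv =>
      c.hU.commute hu (c.hU.le_E hv)
    obtain ⟨u, hu, v, hv, huv⟩ := mem_join_of_commute
      (A := L) (B := Subgroup.zpowers a₂)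
      (fun a ha b hb => hUc a (hLU ha) b (Subgroup.zpowers_le.mpr ha₂U hb))
      (hsup.symm ▸ hbr m₂ hm₂ m₁ (hME hm₁) : br m₁ m₂ ∈ L ⊔ Subgroup.zpowers a₂)
    obtain ⟨k, rfl⟩ := exists_nat_pow_eq hp.pos (c.hU.pow_p ha₁U) hu
    obtain ⟨i, rfl⟩ := exists_nat_pow_eq hp.pos (c.hU.pow_p ha₂U) hv
    -- make the two elements commute
    have hHi : ∀ n : ℕ, h₀ ^ n ∈ H := fun n => H.pow_mem hh₀ n
    let j : ℕ := (p - 1) * k
    have hn₁ : m₁ * h₀ ^ i ∈ M := M.mul_mem hm₁ (hHM (hHi i))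
    have hn₂ : m₂ * h₀ ^ j ∈ M := M.mul_mem hm₂ (hHM (hHi j))
    have hδ₁ : br (m₁ * h₀ ^ i) h₀ = a₁ := by
      rw [hδmul _ hm₁ _ (hHM (hHi i)), hδH _ (hHi i), mul_one, ha₁]
    have hδ₂ : br (m₂ * h₀ ^ j) h₀ = a₂ := by
      rw [hδmul _ hm₂ _ (hHM (hHi j)), hδH _ (hHi j), mul_one, ha₂]
    have hpr : ∀ m ∈ M, ∀ n : ℕ, br m (h₀ ^ n) = br m h₀ ^ n := fun m hm n =>
      br_pow_right (c.hU.commute (hδU m hm) hh₁).symm n
    have hcomm : m₁ * h₀ ^ i * (m₂ * h₀ ^ j) = m₂ * h₀ ^ j * (m₁ * h₀ ^ i) := by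
      refine br_eq_one.mp ?_
      have e1 : br m₁ (m₂ * h₀ ^ j) = a₁ ^ k * a₂ ^ i * a₁ ^ j := by
        rw [br_mul_right, hpr m₁ hm₁ j, ← ha₁,
          ← c.hU.commute (U.pow_mem ha₁U j) (hME hm₂), mul_inv_cancel_right, huv]
      have e2 : br (h₀ ^ i) (m₂ * h₀ ^ j) = (a₂ ^ i)⁻¹ := by
        rw [br_mul_right, br_eq_one.mpr (c.comm _ (hHi i) _ (hHi j)), mul_one, mul_inv_cancel,
          mul_one, ← br_symm m₂, hpr m₂ hm₂ i, ← ha₂]
      rw [br_mul_left, e2, e1, ← c.hU.commute (U.inv_mem (U.pow_mem ha₂U i)) (hME hm₁),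
        mul_inv_cancel_right, ← mul_assoc, ← mul_assoc,
        hUc _ (U.inv_mem (U.pow_mem ha₂U i)) _ (U.pow_mem ha₁U k), inv_mul_cancel_right,
        ← pow_add]
      refine orderOf_dvd_iff_pow_eq_one.mp ?_
      rw [orderOf_eq_prime (c.hU.pow_p ha₁U) ha₁1]
      refine ⟨k, ?_⟩
      show k + (p - 1) * k = p * k
      obtain ⟨q, hq⟩ : ∃ q, p = q + 1 := ⟨p - 1, by have := hp.pos; omega⟩
      rw [hq]; simp only [Nat.add_sub_cancel]; ring
    let V : Set Ω := insert (m₂ * h₀ ^ j) (insert (m₁ * h₀ ^ i) (U : Set Ω))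
    have hVM : V ⊆ M := Set.insert_subset hn₂ (Set.insert_subset hn₁ (c.uH.trans hHM))
    have hVc : ∀ a ∈ V, ∀ b ∈ V, a * b = b * a := by
      rintro a (rfl | rfl | ha) b (rfl | rfl | hb)
      · rfl
      · exact hcomm.symm
      · exact (c.hU.commute hb (hME hn₂)).symm
      · exact hcomm
      · rfl
      · exact (c.hU.commute hb (hME hn₁)).symm
      · exact c.hU.commute ha (hME hn₂)
      · exact c.hU.commute ha (hME hn₁)
      · exact hUc a ha b hb
    let K : Subgroup Ω := Subgroup.closure V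
    have hKM : K ≤ M := (Subgroup.closure_le _).mpr hVM
    have h3 : Nat.card K ≤ p ^ 3 := elem_card_le c.rk (hKM.trans hMS) (commute_closure hVc)
      (elem_closure hVc fun a ha => hpow a (hVM ha))
    let K₁ : Subgroup Ω := Subgroup.closure (insert (m₁ * h₀ ^ i) (U : Set Ω))
    have hK₁K : K₁ ≤ K := Subgroup.closure_mono (Set.subset_insert _ _)
    let D : Subgroup Ω :=
      { carrier := {y | y ∈ M ∧ br y h₀ ∈ L}
        one_mem' := ⟨M.one_mem, by rw [br_one_left]; exact one_mem _⟩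
        mul_mem' := fun {a b} ha hb => ⟨M.mul_mem ha.1 hb.1, by
          rw [hδmul a ha.1 b hb.1]; exact L.mul_mem ha.2 hb.2⟩
        inv_mem' := fun {a} ha => ⟨M.inv_mem ha.1, by
          rw [br_inv_left, mul_assoc, c.hU.commute (hLU (L.inv_mem ha.2)) (hME ha.1),
            inv_mul_cancel_left]
          exact L.inv_mem ha.2⟩ }
    have hK₁D : K₁ ≤ D := (Subgroup.closure_le _).mpr (Set.insert_subset
      ⟨hn₁, by rw [hδ₁]; exact Subgroup.mem_zpowers a₁⟩
      fun u hu => ⟨hHM (c.uH hu), by rw [hδH u (c.uH hu)]; exact one_mem _⟩)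
    have hUK : U < K₁ := lt_of_le_not_ge
      (fun u hu => Subgroup.subset_closure (Set.mem_insert_of_mem _ hu)) fun h => by
        have := hδH _ (c.uH (h (Subgroup.subset_closure (Set.mem_insert _ _))))
        exact ha₁1 (hδ₁ ▸ this)
    have hK₁ : K₁ < K := lt_of_le_not_ge hK₁K fun h => by
      have := (hK₁D (h (Subgroup.subset_closure (Set.mem_insert _ _)))).2
      rw [hδ₂] at this
      exact hm₂L this
    have h4 := mul_card_le_of_lt c.hS (hKM.trans hMS) hK₁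
    have h5 := mul_card_le_of_lt c.hS (hK₁K.trans (hKM.trans hMS)) hUK
    rw [c.hU.card] at h5
    have h6 : p ^ 4 ≤ p ^ 3 := by
      calc p ^ 4 = p * (p * p ^ 2) := by ring
        _ ≤ p * Nat.card K₁ := Nat.mul_le_mul_left p h5
        _ ≤ _ := h4.trans h3
    exact absurd ((Nat.pow_le_pow_iff_right hp.one_lt).mp h6) (by norm_num)

/-- The centralizer of `H` in `S`. -/
def cH (S H : Subgroup Ω) : Subgroup Ω := S ⊓ Subgroup.centralizer (H : Set Ω)

theorem mem_cH {y : Ω} : y ∈ cH S H ↔ y ∈ S ∧ ∀ h ∈ H, h * y = y * h := by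
  rw [cH, Subgroup.mem_inf, Subgroup.mem_centralizer_iff]; rfl

theorem cH_le1 (c : Conf F p E₁ U E₂ H) : cH S H ≤ E₁ := by
  intro y hy
  by_contra hyE
  obtain ⟨u, hu, hne⟩ := c.hU.moved y (mem_cH.mp hy).1 hyE
  exact hne (by rw [cj_apply, ← (mem_cH.mp hy).2 u (c.uH hu), mul_inv_cancel_right])

theorem cH_le2 (c : Conf F p E₁ U E₂ H) : cH S H ≤ E₂ := by
  intro y hy
  by_contra hyE
  obtain ⟨h, hh, hhU⟩ := c.exists_h0
  refine c.br_not_zu (c.cH_le1 hy) hyE hh hhU ?_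
  rw [br_eq_one.mpr ((mem_cH.mp hy).2 h hh).symm]
  exact one_mem _

theorem inv_cH (c : Conf F p E₁ U E₂ H) {E : Subgroup Ω} (hE : Max F p E) (hCE : cH S H ≤ E)
    (hH : Inv F E H) : Inv F E (cH S H) := by
  intro α hα y hy
  have hHE : H ≤ E := fun h hh => hCE (mem_cH.mpr ⟨c.hHS hh, fun g hg => c.comm g hg h hh⟩)
  refine mem_cH.mpr ⟨hE.le (afun_mem α (hCE hy)), fun h hh => ?_⟩
  have h' := hH _ (inv_mem hα) h hh
  have h2 := congrArg (afun α) ((mem_cH.mp hy).2 _ h')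
  rwa [afun_map_mul α (hHE h') (hCE hy), afun_map_mul α (hCE hy) (hHE h'),
    afun_apply_inv α (hHE hh)] at h2

theorem inv_cH1 (c : Conf F p E₁ U E₂ H) : Inv F E₁ (cH S H) :=
  c.inv_cH c.m1 c.cH_le1 c.inv1

theorem inv_cH2 (c : Conf F p E₁ U E₂ H) : Inv F E₂ (cH S H) :=
  c.inv_cH c.m2 c.cH_le2 c.inv2

end Conf

end Cfsg.Agent.Rank3.CaseB2
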