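import Cfsg.Agent.Lib.Rank3CaseB34TwoTools

/-!
Case B2 of the rank three engine: the elementary abelian subgroup of order `p ^ 3` spanned by the
images of a natural plane.
-/

set_option autoImplicit false
set_option linter.unusedSectionVars false

namespace Cfsg.Agent.Rank3.CaseB2

open Cfsg.FusionSystem Cfsg.Agent.FusionSysBasic Cfsg.Agent.FusionSysSaturated
  Cfsg.Agent.FusionSysNormal Cfsg.Agent.FusionSysAlperin Cfsg.Agent.Rank3

universe u

variable {Ω : Type u} [Group Ω] {S : Subgroup Ω} {F : FusionSystem S} {p : ℕ}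
  [Finite S] [Fact p.Prime]

/-- The data of case B2. -/
structure Conf (F : FusionSystem S) (p : ℕ) (E₁ U E₂ H : Subgroup Ω) : Prop where
  odd : Odd p
  hS : IsPGroup p S
  hF : F.IsSaturated p
  rk : Cfsg.SectionalPRankLE p 3 S
  m1 : Max F p E₁
  m2 : Max F p E₂
  hU : Plane F p E₁ U
  uH : U ≤ H
  h1 : H ≤ E₁
  h2 : H ≤ E₂
  comm : ∀ a ∈ H, ∀ b ∈ H, a * b = b * a
  pow : ∀ a ∈ H, a ^ p = 1
  card : Nat.card H = p ^ 3
  inv2 : Inv F E₂ H
  invZ : Inv F E₂ (U ⊓ OmZ p S)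
  comm2 : ∀ e ∈ E₂, ∀ h ∈ H, br e h ∈ U ⊓ OmZ p S
  span : ∀ P : Subgroup Ω, Inv F E₂ P → U ≤ P → H ≤ P
  notInv : ¬ InvBy (opp F p E₂) U

theorem exists_conf {𝔈 : Set (Subgroup Ω)} (hc : Ctx F p 𝔈)
    (hB : ∀ E ∈ 𝔈, ∀ E' ∈ 𝔈, OmZ p E ≤ E') {E₁ U E₂ : Subgroup Ω} (h₁ : E₁ ∈ 𝔈)
    (hU : Plane F p E₁ U) (h₂ : E₂ ∈ 𝔈) (hin : ∀ β ∈ F.autGroup E₂, img β U ≤ E₁)
    (hmv : ∃ α ∈ opp F p E₂, ∃ u ∈ U, afun α u ∉ U) : ∃ H, Conf F p E₁ U E₂ H := by
  have m1 := hc.max _ h₁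
  have m2 := hc.max _ h₂
  have hU2 : U ≤ E₂ := hU.le.trans (hB _ h₁ _ h₂)
  have hUS : U ≤ S := hU.le_E.trans m1.le
  let T : Set Ω := {y | ∃ β ∈ F.autGroup E₂, y ∈ img β U}
  have hTE : T ⊆ E₂ := fun y ⟨β, _, hy⟩ => img_le β U hy
  have hT1 : T ⊆ E₁ := fun y ⟨β, hβ, hy⟩ => hin β hβ hy
  have hTc : ∀ a ∈ T, ∀ b ∈ T, a * b = b * a := by
    rintro a ⟨β, hβ, ha⟩ b ⟨γ, hγ, hb⟩
    obtain ⟨u, hu, rfl⟩ := (mem_img hU2).mp ha
    obtain ⟨v, hv, rfl⟩ := (mem_img hU2).mp hb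
    have hw : afun (γ⁻¹ * β) u ∈ E₁ :=
      hin _ (mul_mem (inv_mem hγ) hβ) (afun_mem_img _ hU2 hu)
    have hwE : afun (γ⁻¹ * β) u ∈ E₂ := afun_mem _ (hU2 hu)
    have e : afun β u = afun γ (afun (γ⁻¹ * β) u) := by
      rw [← afun_mul _ _ (hU2 hu), mul_inv_cancel_left]
    rw [e, ← afun_map_mul γ hwE (hU2 hv), ← afun_map_mul γ (hU2 hv) hwE, hU.commute hv hw]
  have hTp : ∀ a ∈ T, a ^ p = 1 := by
    rintro a ⟨β, hβ, ha⟩
    obtain ⟨u, hu, rfl⟩ := (mem_img hU2).mp ha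
    rw [← afun_pow β (hU2 hu), hU.pow_p hu, afun_one_eq]
  let H : Subgroup Ω := Subgroup.closure T
  have hH2 : H ≤ E₂ := (Subgroup.closure_le _).mpr hTE
  have hH1 : H ≤ E₁ := (Subgroup.closure_le _).mpr hT1
  have hHS : H ≤ S := hH2.trans m2.le
  have himg : ∀ β ∈ F.autGroup E₂, img β U ≤ H :=
    fun β hβ y hy => Subgroup.subset_closure ⟨β, hβ, hy⟩
  have hUH : U ≤ H := by
    have := himg 1 (one_mem _)
    rwa [img_one hU2] at this
  have hinv : Inv F E₂ H := invBy_closure_set hTE fun α hα x ⟨β, hβ, hx⟩ => by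
    obtain ⟨u, hu, rfl⟩ := (mem_img hU2).mp hx
    rw [← afun_mul α β (hU2 hu)]
    exact himg _ (mul_mem hα hβ) (afun_mem_img _ hU2 hu)
  obtain ⟨α, hα, u₀, hu₀, hmv₀⟩ := hmv
  have hαF : α ∈ F.autGroup E₂ := opp_le F p E₂ hα
  have hlt : U < H := lt_of_le_of_ne hUH fun e => hmv₀ (e ▸ himg α hαF (afun_mem_img α hU2 hu₀))
  have hcard : Nat.card H = p ^ 3 := by
    refine le_antisymm (elem_card_le hc.rk hHS (commute_closure hTc) (elem_closure hTc hTp)) ?_
    calc p ^ 3 = p * Nat.card U := by rw [hU.card]; ring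
      _ ≤ _ := mul_card_le_of_lt hc.hS hHS hlt
  -- the intersection of two images
  let Z : Subgroup Ω := U ⊓ OmZ p S
  have hZcard : Nat.card Z = p := hU.card_zu m1 hc.hS
  have hne : img α U ≠ U := fun e => hmv₀ (e ▸ afun_mem_img α hU2 hu₀)
  have hαU : img α U ≤ H := himg α hαF
  have hαS : img α U ≤ S := hαU.trans hHS
  have hUn2 : ∀ β : MulAut E₂, ∀ e ∈ E₂, ∀ y ∈ img β U, cj e y ∈ img β U := by
    intro β e he y hy
    obtain ⟨u, hu, rfl⟩ := (mem_img hU2).mp hy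
    have he' := afun_mem β⁻¹ he
    have h := hU.cj_mem m1 (m2.le he') hu
    have e2 : afun β (cj (afun β⁻¹ e) u) = cj e (afun β u) := by
      simp only [cj_apply]
      rw [afun_map_mul β (E₂.mul_mem he' (hU2 hu)) (E₂.inv_mem he'),
        afun_map_mul β he' (hU2 hu), afun_inv β he', afun_apply_inv β he]
    exact e2 ▸ afun_mem_img β hU2 h
  have hLle : U ⊓ img α U ≤ Z := by
    intro y hy
    refine ⟨hy.1, le_omZ_of_card_p hc.hS (inf_le_left.trans hUS) (L := U ⊓ img α U) ?_ ?_ hy⟩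
    · intro g hg l hl
      obtain ⟨x, hx, hxE⟩ : ∃ x ∈ E₂, x ∉ E₁ := by
        by_contra hcon
        push Not at hcon
        have e : E₂ = E₁ := eq_of_le_of_card_ge m1.le (fun x hx => hcon x hx) (le_of_eq
          (Nat.eq_of_mul_eq_mul_left (Fact.out : p.Prime).pos (m1.card_eq.symm.trans m2.card_eq)))
        subst e
        exact hmv₀ (hU.inv α hαF u₀ hu₀)
      obtain ⟨e, he, k, rfl⟩ := m1.exists_eq_mul (m2.le hx) hxE hg
      have h1 : cj (x ^ k) l ∈ U ⊓ img α U :=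
        ⟨hU.cj_mem m1 (S.zpow_mem (m2.le hx) k) hl.1, hUn2 α _ (E₂.zpow_mem hx k) _ hl.2⟩
      rwa [← cj_cj, hU.cj_fix h1.1 he]
    · by_contra hgt
      push Not at hgt
      obtain ⟨k, hk⟩ := dvd_card_p hc.hS (inf_le_left.trans hUS : U ⊓ img α U ≤ S)
      have hk2 : p ^ 1 < p ^ k := by rw [pow_one, ← hk]; exact hgt
      rw [Nat.pow_lt_pow_iff_right (Fact.out : p.Prime).one_lt] at hk2
      have hge : Nat.card U ≤ Nat.card ↥(U ⊓ img α U) := by
        rw [hU.card, hk]; exact Nat.pow_le_pow_right (Fact.out : p.Prime).pos hk2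
      have e := eq_of_le_of_card_ge hUS inf_le_left hge
      have hle : U ≤ img α U := e.symm.le.trans inf_le_right
      exact hne (eq_of_le_of_card_ge hαS hle (by rw [card_img α hU2])).symm
  have hmeet : Z ≤ img α U := by
    have hne1 : U ⊓ img α U ≠ ⊥ := by
      intro hd
      have h4 := card_mul_le_of_disjoint hUS hαS hd
      rw [card_img α hU2, hU.card] at h4
      have h5 : Nat.card ↥(U ⊔ img α U) ≤ p ^ 3 := by
        haveI := finite_of_le hHS
        exact (Subgroup.card_le_of_le (sup_le hUH hαU)).trans hcard.le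
      have h6 : p ^ 4 ≤ p ^ 3 := by
        calc p ^ 4 = p ^ 2 * p ^ 2 := by ring
          _ ≤ _ := h4.trans h5
      exact absurd ((Nat.pow_le_pow_iff_right (Fact.out : p.Prime).one_lt).mp h6) (by norm_num)
    have e : U ⊓ img α U = Z := by
      refine eq_of_le_of_card_ge (inf_le_left.trans hUS) hLle ?_
      rw [hZcard]
      obtain ⟨k, hk⟩ := dvd_card_p hc.hS (inf_le_left.trans hUS : U ⊓ img α U ≤ S)
      rw [hk]
      rcases k with _ | k
      · exfalso; exact hne1 (Subgroup.card_eq_one.mp (by simpa using hk))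
      · exact Nat.le_self_pow (by omega) p
    exact e.symm.le.trans inf_le_right
  have hZall : ∀ β ∈ F.autGroup E₂, Z ≤ img β U := by
    intro β hβ
    rcases eq_or_ne (img β U) U with e | e
    · exact inf_le_left.trans e.ge
    · -- the same argument with `β` in place of `α`
      have hβU : img β U ≤ H := himg β hβ
      have hβS : img β U ≤ S := hβU.trans hHS
      obtain ⟨k, hk⟩ := dvd_card_p hc.hS (inf_le_left.trans hUS : U ⊓ img β U ≤ S)
      have hne1 : U ⊓ img β U ≠ ⊥ := by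
        intro hd
        have h4 := card_mul_le_of_disjoint hUS hβS hd
        rw [card_img β hU2, hU.card] at h4
        haveI := finite_of_le hHS
        have h5 := h4.trans ((Subgroup.card_le_of_le (sup_le hUH hβU)).trans hcard.le)
        rw [← pow_add] at h5
        exact absurd ((Nat.pow_le_pow_iff_right (Fact.out : p.Prime).one_lt).mp h5) (by norm_num)
      have hn : ∀ g ∈ S, ∀ l ∈ U ⊓ img β U, cj g l ∈ U ⊓ img β U := by
        intro g hg l hl
        obtain ⟨x, hx, hxE⟩ : ∃ x ∈ E₂, x ∉ E₁ := by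
          by_contra hcon
          push Not at hcon
          have e' : E₂ = E₁ := eq_of_le_of_card_ge m1.le (fun x hx => hcon x hx) (le_of_eq
            (Nat.eq_of_mul_eq_mul_left (Fact.out : p.Prime).pos (m1.card_eq.symm.trans m2.card_eq)))
          subst e'
          exact hmv₀ (hU.inv α hαF u₀ hu₀)
        obtain ⟨e, he, k, rfl⟩ := m1.exists_eq_mul (m2.le hx) hxE hg
        have h1 : cj (x ^ k) l ∈ U ⊓ img β U :=
          ⟨hU.cj_mem m1 (S.zpow_mem (m2.le hx) k) hl.1, hUn2 β _ (E₂.zpow_mem hx k) _ hl.2⟩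
        rwa [← cj_cj, hU.cj_fix h1.1 he]
      obtain ⟨z, hz, hz1, hzZ⟩ := exists_central_mem hc.hS (inf_le_left.trans hUS) hn hne1
      have hzc : Nat.card (Subgroup.zpowers z) = p := by
        rw [Nat.card_zpowers]; exact orderOf_eq_prime hzZ.2.1 hz1
      have e2 : Subgroup.zpowers z = Z :=
        eq_of_le_of_card_ge (inf_le_left.trans hUS) (Subgroup.zpowers_le.mpr ⟨hz.1, hzZ⟩)
          (by rw [hZcard, hzc])
      rw [← e2]
      exact Subgroup.zpowers_le.mpr hz.2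
  have hinvZ : Inv F E₂ Z := by
    intro β hβ z hz
    have hmem : ∀ γ ∈ F.autGroup E₂, afun β z ∈ img γ U := by
      intro γ hγ
      obtain ⟨v, hv, e⟩ := (mem_img hU2).mp (hZall (β⁻¹ * γ) (mul_mem (inv_mem hβ) hγ) hz)
      rw [← e, ← afun_mul _ _ (hU2 hv), mul_inv_cancel_left]
      exact afun_mem_img γ hU2 hv
    have h1 := hmem 1 (one_mem _)
    rw [img_one hU2] at h1
    exact hLle ⟨h1, hmem α hαF⟩
  refine ⟨H, hc.hp, hc.hS, hc.hF, hc.rk, m1, m2, hU, hUH, hH1, hH2, commute_closure hTc,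
    elem_closure hTc hTp, hcard, hinv, hinvZ, ?_, ?_, fun h => hmv₀ (h α hα u₀ hu₀)⟩
  · intro e he h hh
    induction hh using Subgroup.closure_induction with
    | mem y hy =>
      obtain ⟨β, hβ, hy⟩ := hy
      obtain ⟨u, hu, rfl⟩ := (mem_img hU2).mp hy
      have he' := afun_mem β⁻¹ he
      have h := hinvZ β hβ _ (hU.comm_mem_zu m1 hc.hS (m2.le he') hu)
      rw [show cj (afun β⁻¹ e) u * u⁻¹ = br (afun β⁻¹ e) u from rfl, afun_br β he' (hU2 hu),
        afun_apply_inv β he] at h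
      exact h
    | one => rw [br_one_right]; exact one_mem _
    | mul a b ha hb iha ihb =>
      rw [br_mul_right, ← ihb.2.2.2 a (hHS ha), mul_inv_cancel_right]
      exact mul_mem iha ihb
    | inv a ha iha =>
      rw [br_inv_right, mul_assoc, (inv_mem iha).2.2.2 a (hHS ha), inv_mul_cancel_left]
      exact inv_mem iha
  · intro P hP hUP
    refine (Subgroup.closure_le _).mpr fun y ⟨β, hβ, hy⟩ => ?_
    obtain ⟨u, hu, rfl⟩ := (mem_img hU2).mp hy
    exact hP β hβ u (hUP hu)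

variable {E₁ U E₂ H : Subgroup Ω}

namespace Conf

theorem hHS (c : Conf F p E₁ U E₂ H) : H ≤ S := c.h1.trans c.m1.le

theorem hUS (c : Conf F p E₁ U E₂ H) : U ≤ S := c.uH.trans c.hHS

theorem zu_card (c : Conf F p E₁ U E₂ H) : Nat.card ↥(U ⊓ OmZ p S) = p :=
  c.hU.card_zu c.m1 c.hS

theorem zu_central (_c : Conf F p E₁ U E₂ H) {z g : Ω} (hz : z ∈ U ⊓ OmZ p S) (hg : g ∈ S) :
    z * g = g * z :=
  hz.2.2.2 g hg

theorem zu_eq_zpowers (c : Conf F p E₁ U E₂ H) {z : Ω} (hz : z ∈ U ⊓ OmZ p S) (hz1 : z ≠ 1) :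
    Subgroup.zpowers z = U ⊓ OmZ p S :=
  eq_of_le_of_card_ge (inf_le_left.trans c.hUS) (Subgroup.zpowers_le.mpr hz)
    (by rw [c.zu_card, Nat.card_zpowers, orderOf_eq_prime hz.2.2.1 hz1])

theorem exists_zu_pow (c : Conf F p E₁ U E₂ H) {z w : Ω} (hz : z ∈ U ⊓ OmZ p S) (hz1 : z ≠ 1)
    (hw : w ∈ U ⊓ OmZ p S) : ∃ n : ℕ, w = z ^ n := by
  rw [← c.zu_eq_zpowers hz hz1] at hw
  exact exists_nat_pow_eq (Fact.out : p.Prime).pos hz.2.2.1 hw

theorem u_ne_h (c : Conf F p E₁ U E₂ H) : U ≠ H := fun e => by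
  have := c.card
  rw [← e, c.hU.card] at this
  exact absurd (Nat.pow_right_injective (Fact.out : p.Prime).two_le this) (by norm_num)

theorem exists_h0 (c : Conf F p E₁ U E₂ H) : ∃ h ∈ H, h ∉ U :=
  SetLike.exists_of_lt (lt_of_le_of_ne c.uH c.u_ne_h)

/-- `H` is generated by `U` and one further element. -/
theorem le_of_gen (c : Conf F p E₁ U E₂ H) {K : Subgroup Ω} (hUK : U ≤ K) {h₀ : Ω}
    (hh : h₀ ∈ H) (hU₀ : h₀ ∉ U) (hK : h₀ ∈ K) : H ≤ K := by
  have hlt : U < K ⊓ H := lt_of_le_not_ge (le_inf hUK c.uH) fun h => hU₀ (h ⟨hK, hh⟩)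
  have h := mul_card_le_of_lt c.hS (inf_le_right.trans c.hHS) hlt
  have e := eq_of_le_of_card_ge c.hHS (inf_le_right : K ⊓ H ≤ H)
    (by rw [c.card]; refine le_trans (le_of_eq ?_) h; rw [c.hU.card]; ring)
  exact e.symm.le.trans inf_le_left

theorem cj_mem (c : Conf F p E₁ U E₂ H) {g x : Ω} (hg : g ∈ S) (hx : x ∈ H) : cj g x ∈ H :=
  c.m2.cj_mem_of_inv c.h2 c.inv2 hg hx

theorem br_mem_U (c : Conf F p E₁ U E₂ H) {g h : Ω} (hg : g ∈ S) (hh : h ∈ H) : br g h ∈ U :=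
  step_comm c.hS c.hHS c.uH (fun _ hg _ ha => c.hU.cj_mem c.m1 hg ha)
    (fun _ hg _ hb => c.cj_mem hg hb) (le_of_eq (by rw [c.card, c.hU.card]; ring)) g hg h hh

theorem br_U (c : Conf F p E₁ U E₂ H) {g u : Ω} (hg : g ∈ E₁) (hu : u ∈ U) : br g u = 1 :=
  br_eq_one.mpr (c.hU.commute hu hg).symm

theorem exists_x (c : Conf F p E₁ U E₂ H) : ∃ x ∈ E₂, x ∉ E₁ := by
  by_contra hcon
  push Not at hcon
  have e : E₂ = E₁ := eq_of_le_of_card_ge c.m1.le (fun x hx => hcon x hx) (le_of_eq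
    (Nat.eq_of_mul_eq_mul_left (Fact.out : p.Prime).pos (c.m1.card_eq.symm.trans c.m2.card_eq)))
  exact c.notInv fun α hα u hu => by
    subst e
    exact c.hU.inv α (opp_le F p _ hα) u hu

theorem exists_s (c : Conf F p E₁ U E₂ H) : ∃ s ∈ E₁, s ∉ E₂ := by
  by_contra hcon
  push Not at hcon
  obtain ⟨x, hx, hxE⟩ := c.exists_x
  have e : E₁ = E₂ := eq_of_le_of_card_ge c.m2.le (fun x hx => hcon x hx) (le_of_eq
    (Nat.eq_of_mul_eq_mul_left (Fact.out : p.Prime).pos (c.m2.card_eq.symm.trans c.m1.card_eq)))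
  exact hxE (e ▸ hx)

/-- `S` does not centralise `H / Zu`. -/
theorem not_all (c : Conf F p E₁ U E₂ H) :
    ¬ ∀ g ∈ S, ∀ h ∈ H, br g h ∈ U ⊓ OmZ p S := by
  intro hall
  let T : Set (MulAut E₂) := {m | ∃ a ∈ F.autGroup E₂, ∃ g, ∃ hg : g ∈ S,
    m = a * c.m2.conjAut hg * a⁻¹}
  have hle : opp F p E₂ ≤ Subgroup.closure T := by
    refine c.m2.opp_le c.hS c.hF _ ?_ fun g hg =>
      Subgroup.subset_closure ⟨1, one_mem _, g, hg, by group⟩
    intro a ha m hm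
    have h : (Subgroup.closure T).map (MulAut.conj a).toMonoidHom ≤ Subgroup.closure T := by
      rw [MonoidHom.map_closure]
      refine Subgroup.closure_mono ?_
      rintro _ ⟨_, ⟨b, hb, g, hg, rfl⟩, rfl⟩
      refine ⟨a * b, mul_mem ha hb, g, hg, ?_⟩
      simp only [MulEquiv.coe_toMonoidHom, MulAut.conj_apply]
      group
    exact h ⟨m, hm, rfl⟩
  haveI := c.m2.finite
  have hU2 : U ≤ E₂ := c.uH.trans c.h2
  refine c.notInv ((invBy_closure (T := T) hU2 ?_).mono hle)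
  rintro _ ⟨a, ha, g, hg, rfl⟩ u hu
  have h1 : afun a⁻¹ u ∈ H := c.inv2 _ (inv_mem ha) u (c.uH hu)
  have hz := hall g hg _ h1
  rw [afun_mul _ _ (hU2 hu), afun_mul _ _ (afun_mem _ (hU2 hu)),
    c.m2.afun_conjAut hg (c.h2 h1),
    show cj g (afun a⁻¹ u) = br g (afun a⁻¹ u) * afun a⁻¹ u by simp only [br, cj_apply]; group,
    afun_map_mul a (hU2 hz.1) (c.h2 h1), afun_apply_inv a (hU2 hu)]
  exact U.mul_mem (c.invZ a ha _ hz).1 hu

/-- An element of `E₁ \ E₂` moves every element of `H \ U` out of its coset of `Zu`. -/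
theorem br_not_zu (c : Conf F p E₁ U E₂ H) {g h : Ω} (hg : g ∈ E₁) (hg2 : g ∉ E₂) (hh : h ∈ H)
    (hhU : h ∉ U) : br g h ∉ U ⊓ OmZ p S := by
  intro hz
  have hgS := c.m1.le hg
  let G₀ : Subgroup Ω :=
    { carrier := {y | y ∈ S ∧ ∀ w ∈ H, br y w ∈ U ⊓ OmZ p S}
      one_mem' := ⟨S.one_mem, fun w _ => by rw [br_one_left]; exact one_mem _⟩
      mul_mem' := fun {a b} ha hb => ⟨S.mul_mem ha.1 hb.1, fun w hw => by
        rw [br_mul_left, ← c.zu_central (hb.2 w hw) ha.1, mul_inv_cancel_right]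
        exact mul_mem (hb.2 w hw) (ha.2 w hw)⟩
      inv_mem' := fun {a} ha => ⟨S.inv_mem ha.1, fun w hw => by
        rw [br_inv_left, mul_assoc, c.zu_central (inv_mem (ha.2 w hw)) ha.1, inv_mul_cancel_left]
        exact inv_mem (ha.2 w hw)⟩ }
  have hgG : g ∈ G₀ := by
    refine ⟨hgS, fun w hw => ?_⟩
    let K : Subgroup Ω :=
      { carrier := {y | y ∈ H ∧ br g y ∈ U ⊓ OmZ p S}
        one_mem' := ⟨H.one_mem, by rw [br_one_right]; exact one_mem _⟩
        mul_mem' := fun {a b} ha hb => ⟨H.mul_mem ha.1 hb.1, by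
          rw [br_mul_right, ← c.zu_central hb.2 (c.hHS ha.1), mul_inv_cancel_right]
          exact mul_mem ha.2 hb.2⟩
        inv_mem' := fun {a} ha => ⟨H.inv_mem ha.1, by
          rw [br_inv_right, mul_assoc, c.zu_central (inv_mem ha.2) (c.hHS ha.1),
            inv_mul_cancel_left]
          exact inv_mem ha.2⟩ }
    have hUK : U ≤ K := fun u hu => ⟨c.uH hu, by rw [c.br_U hg hu]; exact one_mem _⟩
    exact ((c.le_of_gen (K := K) hUK hh hhU ⟨hh, hz⟩) hw).2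
  refine c.not_all fun y hy w hw => ?_
  have hle : S ≤ G₀ := by
    rw [← c.m2.sup_zpowers hgS hg2]
    exact sup_le (fun e he => ⟨c.m2.le he, c.comm2 e he⟩) (Subgroup.zpowers_le.mpr hgG)
  exact (hle hy).2 w hw

/-- The only invariant subgroups between `Zu` and `H`. -/
theorem between (c : Conf F p E₁ U E₂ H) {P : Subgroup Ω} (hZP : U ⊓ OmZ p S ≤ P) (hPH : P ≤ H)
    (hP : Inv F E₂ P) : P = U ⊓ OmZ p S ∨ P = H := by
  by_cases hPU : P ≤ U
  · left
    obtain ⟨k, hk⟩ := dvd_card_p c.hS (hPU.trans c.hUS)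
    by_contra hne
    have hlt : U ⊓ OmZ p S < P := lt_of_le_of_ne hZP (Ne.symm hne)
    have h2 := mul_card_le_of_lt c.hS (hPU.trans c.hUS) hlt
    rw [c.zu_card] at h2
    have e : P = U := eq_of_le_of_card_ge c.hUS hPU (by rw [c.hU.card, sq]; exact h2)
    subst e
    exact c.notInv (InvBy.mono hP (opp_le F p E₂))
  · right
    obtain ⟨h, hhP, hhU⟩ := SetLike.not_le_iff_exists.mp hPU
    obtain ⟨s, hs, hs2⟩ := c.exists_s
    have hb : br s h ∈ P ⊓ U := ⟨by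
      have := c.m2.cj_mem_of_inv (hPH.trans c.h2) hP (c.m1.le hs) hhP
      exact P.mul_mem this (P.inv_mem hhP), c.br_mem_U (c.m1.le hs) (hPH hhP)⟩
    have hlt : U ⊓ OmZ p S < P ⊓ U := lt_of_le_not_ge (le_inf hZP inf_le_left)
      fun hge => c.br_not_zu hs hs2 (hPH hhP) hhU (hge hb)
    have h2 := mul_card_le_of_lt c.hS (inf_le_right.trans c.hUS) hlt
    rw [c.zu_card] at h2
    have e : P ⊓ U = U := eq_of_le_of_card_ge c.hUS inf_le_right (by rw [c.hU.card, sq]; exact h2)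
    exact le_antisymm hPH (c.span P hP (e.symm.le.trans inf_le_left))

/-- The elements of `H` centralised by `E₂` are those of `Zu`. -/
theorem fixed_mem (c : Conf F p E₁ U E₂ H) {h : Ω} (hh : h ∈ H)
    (hf : ∀ e ∈ E₂, e * h = h * e) : h ∈ U ⊓ OmZ p S := by
  let P : Subgroup Ω := H ⊓ Subgroup.centralizer (E₂ : Set Ω)
  have hP : Inv F E₂ P := by
    intro α hα y hy
    refine ⟨c.inv2 α hα y hy.1, Subgroup.mem_centralizer_iff.mpr fun e he => ?_⟩
    have hy2 := Subgroup.mem_centralizer_iff.mp hy.2 _ (afun_mem α⁻¹ he)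
    have h2 := congrArg (afun α) hy2
    rwa [afun_map_mul α (afun_mem _ he) (c.h2 hy.1), afun_map_mul α (c.h2 hy.1) (afun_mem _ he),
      afun_apply_inv α he] at h2
  have hZ : U ⊓ OmZ p S ≤ P := fun z hz => ⟨c.uH hz.1,
    Subgroup.mem_centralizer_iff.mpr fun e he => (c.zu_central hz (c.m2.le he)).symm⟩
  have hmem : h ∈ P := ⟨hh, Subgroup.mem_centralizer_iff.mpr hf⟩
  rcases c.between hZ inf_le_left hP with e | e
  · exact e ▸ hmem
  · exfalso
    obtain ⟨x, hx, hxE⟩ := c.exists_x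
    obtain ⟨u, hu, hne⟩ := c.hU.moved x (c.m2.le hx) hxE
    have : u ∈ P := e.symm ▸ c.uH hu
    apply hne
    rw [cj_apply, Subgroup.mem_centralizer_iff.mp this.2 x hx, mul_inv_cancel_right]

theorem exists_q (c : Conf F p E₁ U E₂ H) :
    ∃ q ∈ E₁, q ∈ E₂ ∧ ∃ h ∈ H, h ∉ U ∧ br q h ≠ 1 := by
  obtain ⟨h₀, hh, hhU⟩ := c.exists_h0
  by_contra hcon
  push Not at hcon
  obtain ⟨x, hx, hxE⟩ := c.exists_x
  obtain ⟨u, hu, hne⟩ := c.hU.moved x (c.m2.le hx) hxE
  have hz1 : br x u ≠ 1 := fun e => hne (by rwa [br, mul_inv_eq_one] at e)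
  obtain ⟨n, hn⟩ := c.exists_zu_pow (c.comm2 x hx u (c.uH hu)) hz1 (c.comm2 x hx h₀ hh)
  have hpow : ∀ i : ℕ, br x (u ^ i) = br x u ^ i := by
    intro i
    induction i with
    | zero => rw [pow_zero, pow_zero, br_one_right]
    | succ i ih =>
      rw [pow_succ, br_mul_right, ih, ← c.zu_central (c.comm2 x hx u (c.uH hu))
        (c.hUS (U.pow_mem hu i)), mul_inv_cancel_right, pow_succ]
  have hun := c.uH (U.pow_mem hu n)
  have hw : h₀ * (u ^ n)⁻¹ ∈ H := H.mul_mem hh (H.inv_mem hun)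
  have hwU : h₀ * (u ^ n)⁻¹ ∉ U := fun h => hhU (by
    simpa using U.mul_mem h (U.pow_mem hu n))
  have hxw : br x (h₀ * (u ^ n)⁻¹) = 1 := by
    have h := br_mul_right x (h₀ * (u ^ n)⁻¹) (u ^ n)
    rw [inv_mul_cancel_right, hn, hpow, ← c.zu_central (pow_mem (c.comm2 x hx u (c.uH hu)) n)
      (c.hHS hw), mul_inv_cancel_right] at h
    exact mul_eq_right.mp h.symm
  refine hwU (c.fixed_mem hw fun e he => ?_).1
  obtain ⟨e', he', k, rfl⟩ := c.m1.exists_eq_mul (c.m2.le hx) hxE (c.m2.le he)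
  have he2 : e' ∈ E₂ := by
    simpa [mul_assoc] using E₂.mul_mem he (E₂.inv_mem (E₂.zpow_mem hx k))
  have c1 : Commute e' (h₀ * (u ^ n)⁻¹) := br_eq_one.mp (hcon e' he' he2 _ hw hwU)
  have c2 : Commute x (h₀ * (u ^ n)⁻¹) := br_eq_one.mp hxw
  exact (c1.mul_left (c2.zpow_left k)).eq

end Conf

end Cfsg.Agent.Rank3.CaseB2
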