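import Cfsg.Agent.Lib.Rank3CaseB34TwoAut

/-!
Case B2 of the rank three engine: the layers of `C_S(H)`, each a copy of `H`.
-/

set_option autoImplicit false
set_option linter.unusedSectionVars false

namespace Cfsg.Agent.Rank3.CaseB2

open Cfsg.FusionSystem Cfsg.Agent.FusionSysBasic Cfsg.Agent.FusionSysSaturated
  Cfsg.Agent.FusionSysNormal Cfsg.Agent.FusionSysAlperin Cfsg.Agent.Rank3

universe u

variable {Ω : Type u} [Group Ω] {S : Subgroup Ω} {F : FusionSystem S} {p : ℕ}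
  [Finite S] [Fact p.Prime] {E₁ U E₂ H : Subgroup Ω}

open Conf in
/-- A section `L / N` of `C_S(H)`, central in it, which is equivariantly a copy of `H`. -/
structure Layer (F : FusionSystem S) (E₁ E₂ H N L : Subgroup Ω) (φ : Ω → Ω) : Prop where
  nl : N ≤ L
  lc : L ≤ cH S H
  iN1 : Inv F E₁ N
  iN2 : Inv F E₂ N
  iL1 : Inv F E₁ L
  iL2 : Inv F E₂ L
  comm : ∀ y ∈ L, ∀ g ∈ cH S H, br g y ∈ N
  map_mul : ∀ a ∈ L, ∀ b ∈ L, φ (a * b) = φ a * φ b
  mem : ∀ y ∈ L, φ y ∈ H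
  surj : ∀ h ∈ H, ∃ y ∈ L, φ y = h
  ker : ∀ y ∈ L, (φ y = 1 ↔ y ∈ N)
  eq1 : ∀ α ∈ F.autGroup E₁, ∀ y ∈ L, φ (afun α y) = afun α (φ y)
  eq2 : ∀ α ∈ F.autGroup E₂, ∀ y ∈ L, φ (afun α y) = afun α (φ y)

namespace Layer

open Conf

variable {N L : Subgroup Ω} {φ : Ω → Ω}

theorem L_le (ly : Layer F E₁ E₂ H N L φ) : L ≤ S := fun _ hy => (mem_cH.mp (ly.lc hy)).1

theorem map_one (ly : Layer F E₁ E₂ H N L φ) : φ 1 = 1 := by
  have h := ly.map_mul 1 L.one_mem 1 L.one_mem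
  rw [mul_one] at h
  exact mul_eq_left.mp h.symm

theorem map_inv (ly : Layer F E₁ E₂ H N L φ) {a : Ω} (ha : a ∈ L) : φ a⁻¹ = (φ a)⁻¹ := by
  have h := ly.map_mul a ha a⁻¹ (L.inv_mem ha)
  rw [mul_inv_cancel, ly.map_one] at h
  exact eq_inv_of_mul_eq_one_right h.symm

theorem map_pow (ly : Layer F E₁ E₂ H N L φ) {a : Ω} (ha : a ∈ L) :
    ∀ n : ℕ, φ (a ^ n) = φ a ^ n := by
  intro n
  induction n with
  | zero => rw [pow_zero, pow_zero, ly.map_one]
  | succ n ih => rw [pow_succ, ly.map_mul _ (L.pow_mem ha n) a ha, ih, pow_succ]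

theorem pow_mem (c : Conf F p E₁ U E₂ H) (ly : Layer F E₁ E₂ H N L φ) {a : Ω} (ha : a ∈ L) :
    a ^ p ∈ N :=
  (ly.ker _ (L.pow_mem ha p)).mp (by rw [ly.map_pow ha, c.pow _ (ly.mem a ha)])

theorem cj_L (c : Conf F p E₁ U E₂ H) (ly : Layer F E₁ E₂ H N L φ) :
    ∀ g ∈ S, ∀ y ∈ L, cj g y ∈ L :=
  fun _ hg _ hy => c.m2.cj_mem_of_inv (ly.lc.trans c.cH_le2) ly.iL2 hg hy

theorem cj_N (c : Conf F p E₁ U E₂ H) (ly : Layer F E₁ E₂ H N L φ) :
    ∀ g ∈ S, ∀ y ∈ N, cj g y ∈ N :=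
  fun _ hg _ hy => c.m2.cj_mem_of_inv ((ly.nl.trans ly.lc).trans c.cH_le2) ly.iN2 hg hy

theorem map_cj (c : Conf F p E₁ U E₂ H) (ly : Layer F E₁ E₂ H N L φ) {g y : Ω} (hg : g ∈ S)
    (hy : y ∈ L) : φ (cj g y) = cj g (φ y) := by
  rw [← c.m2.afun_conjAut hg (c.cH_le2 (ly.lc hy)), ly.eq2 _ (c.m2.conjAut_mem hg) y hy,
    c.m2.afun_conjAut hg (c.h2 (ly.mem y hy))]

theorem map_br (c : Conf F p E₁ U E₂ H) (ly : Layer F E₁ E₂ H N L φ) {g y : Ω} (hg : g ∈ S)
    (hy : y ∈ L) : φ (br g y) = br g (φ y) := by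
  rw [show br g y = cj g y * y⁻¹ from rfl, ly.map_mul _ (ly.cj_L c g hg y hy) _ (L.inv_mem hy),
    ly.map_cj c hg hy, ly.map_inv hy]
  rfl

/-- The preimage of a subgroup of `H`. -/
def pre (ly : Layer F E₁ E₂ H N L φ) (P : Subgroup Ω) : Subgroup Ω where
  carrier := {y | y ∈ L ∧ φ y ∈ P}
  one_mem' := ⟨L.one_mem, by rw [ly.map_one]; exact one_mem _⟩
  mul_mem' {a b} ha hb := ⟨L.mul_mem ha.1 hb.1, by
    rw [ly.map_mul a ha.1 b hb.1]; exact P.mul_mem ha.2 hb.2⟩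
  inv_mem' {a} ha := ⟨L.inv_mem ha.1, by rw [ly.map_inv ha.1]; exact P.inv_mem ha.2⟩

theorem mem_pre (ly : Layer F E₁ E₂ H N L φ) {P : Subgroup Ω} {y : Ω} :
    y ∈ ly.pre P ↔ y ∈ L ∧ φ y ∈ P := Iff.rfl

theorem pre_le (ly : Layer F E₁ E₂ H N L φ) (P : Subgroup Ω) : ly.pre P ≤ L := fun _ hy => hy.1

theorem le_pre (ly : Layer F E₁ E₂ H N L φ) (P : Subgroup Ω) : N ≤ ly.pre P :=
  fun y hy => ⟨ly.nl hy, by rw [(ly.ker y (ly.nl hy)).mpr hy]; exact one_mem _⟩

theorem pre_lt (ly : Layer F E₁ E₂ H N L φ) {P Q : Subgroup Ω} (hPQ : P < Q) (hQ : Q ≤ H) :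
    ly.pre P < ly.pre Q := by
  obtain ⟨h, hQh, hPh⟩ := SetLike.exists_of_lt hPQ
  obtain ⟨y, hy, rfl⟩ := ly.surj h (hQ hQh)
  exact lt_of_le_not_ge (fun a ha => ⟨ha.1, hPQ.le ha.2⟩) fun hle => hPh (hle ⟨hy, hQh⟩).2

theorem card_ge (c : Conf F p E₁ U E₂ H) (ly : Layer F E₁ E₂ H N L φ) :
    p ^ 3 * Nat.card N ≤ Nat.card L := by
  have hZne : U ⊓ OmZ p S ≠ ⊥ := fun e => by
    have h := c.zu_card
    rw [e, Subgroup.card_bot] at h
    exact (Fact.out : p.Prime).one_lt.ne h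
  have hZU : U ⊓ OmZ p S < U := lt_of_le_of_ne inf_le_left fun e => by
    have h := c.zu_card
    rw [e, c.hU.card] at h
    exact absurd (Nat.pow_right_injective (Fact.out : p.Prime).two_le
      (a₁ := 2) (a₂ := 1) (by simpa using h)) (by norm_num)
  have h1 : N < ly.pre (U ⊓ OmZ p S) := by
    refine lt_of_le_of_lt ?_ (ly.pre_lt (bot_lt_iff_ne_bot.mpr hZne) (inf_le_left.trans c.uH))
    exact ly.le_pre ⊥
  have h2 := ly.pre_lt hZU c.uH
  have h3 := ly.pre_lt (lt_of_le_of_ne c.uH c.u_ne_h) le_rfl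
  have e1 := mul_card_le_of_lt c.hS ((ly.pre_le _).trans ly.L_le) h1
  have e2 := mul_card_le_of_lt c.hS ((ly.pre_le _).trans ly.L_le) h2
  have e3 := mul_card_le_of_lt c.hS ((ly.pre_le _).trans ly.L_le) h3
  haveI := finite_of_le ly.L_le
  have e4 := Subgroup.card_le_of_le (ly.pre_le H)
  calc p ^ 3 * Nat.card N = p * (p * (p * Nat.card N)) := by ring
    _ ≤ p * (p * Nat.card ↥(ly.pre (U ⊓ OmZ p S))) :=
        Nat.mul_le_mul_left p (Nat.mul_le_mul_left p e1)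
    _ ≤ p * Nat.card ↥(ly.pre U) := Nat.mul_le_mul_left p e2
    _ ≤ _ := e3.trans e4

/-- The first layer is `H` itself. -/
theorem base (c : Conf F p E₁ U E₂ H) : Layer F E₁ E₂ H ⊥ H id where
  nl := bot_le
  lc h hh := mem_cH.mpr ⟨c.hHS hh, fun g hg => c.comm g hg h hh⟩
  iN1 α _ x hx := by rw [Subgroup.mem_bot.mp hx, afun_one_eq]; exact one_mem _
  iN2 α _ x hx := by rw [Subgroup.mem_bot.mp hx, afun_one_eq]; exact one_mem _
  iL1 := c.inv1
  iL2 := c.inv2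
  comm y hy g hg := Subgroup.mem_bot.mpr (br_eq_one.mpr ((mem_cH.mp hg).2 y hy).symm)
  map_mul _ _ _ _ := rfl
  mem _ hy := hy
  surj h hh := ⟨h, hh, rfl⟩
  ker _ _ := Subgroup.mem_bot.symm
  eq1 _ _ _ _ := rfl
  eq2 _ _ _ _ := rfl

/-- A proper layer has a successor. -/
theorem next (c : Conf F p E₁ U E₂ H) (ly : Layer F E₁ E₂ H N L φ) (hne : L ≠ cH S H) :
    ∃ L' φ', L < L' ∧ Layer F E₁ E₂ H L L' φ' := by
  have hp := (Fact.out : p.Prime)
  let C : Subgroup Ω := cH S H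
  have hCS : C ≤ S := inf_le_left
  let T : Subgroup Ω :=
    { carrier := {y | y ∈ C ∧ y ^ p ∈ L ∧ ∀ g ∈ C, br g y ∈ L}
      one_mem' := ⟨C.one_mem, by rw [one_pow]; exact one_mem _,
        fun g _ => by rw [br_one_right]; exact one_mem _⟩
      mul_mem' := fun {a b} ha hb => by
        refine ⟨C.mul_mem ha.1 hb.1, ?_, fun g hg => ?_⟩
        · have hsub : Subgroup.closure ({a, b} : Set Ω) ≤ C :=
            (Subgroup.closure_le _).mpr (Set.insert_subset ha.1 (Set.singleton_subset_iff.mpr hb.1))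
          refine gen_pow (T := {a, b}) (N := L)
            (fun k hk y hy => ly.cj_L c k (hCS (hsub hk)) y hy) ?_ ?_ _
            (mul_mem (Subgroup.subset_closure (Set.mem_insert a _))
              (Subgroup.subset_closure (Set.mem_insert_of_mem a rfl)))
          · rintro u (rfl | rfl) v (rfl | rfl)
            · simp
            · exact hb.2.2 _ ha.1
            · exact ha.2.2 _ hb.1
            · simp
          · rintro u (rfl | rfl)
            · exact ha.2.1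
            · exact hb.2.1
        · rw [br_mul_right]
          exact L.mul_mem (ha.2.2 g hg) (ly.cj_L c a (hCS ha.1) _ (hb.2.2 g hg))
      inv_mem' := fun {a} ha => by
        refine ⟨C.inv_mem ha.1, by rw [inv_pow]; exact L.inv_mem ha.2.1, fun g hg => ?_⟩
        rw [br_inv_right]
        have h := ly.cj_L c a⁻¹ (S.inv_mem (hCS ha.1)) _ (L.inv_mem (ha.2.2 g hg))
        rwa [cj_apply, inv_inv] at h }
  have hTC : T ≤ C := fun y hy => hy.1
  have hTS : T ≤ S := hTC.trans hCS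
  have hLT : L ≤ T := fun y hy => ⟨ly.lc hy, L.pow_mem hy p, fun g hg => ly.nl (ly.comm y hy g hg)⟩
  -- a central element of order `p` of `C / L`
  have hlt : L < T := by
    refine lt_of_le_not_ge hLT fun hge => hne ?_
    let L' : Subgroup C := L.subgroupOf C
    haveI : L'.Normal := ⟨fun y hy g => by
      have := ly.cj_L c (g : Ω) (hCS g.2) (y : Ω) hy
      simpa [L', Subgroup.mem_subgroupOf, cj_apply] using this⟩
    by_contra hLC
    haveI := finite_of_le hCS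
    haveI : Nontrivial (C ⧸ L') := by
      rw [QuotientGroup.nontrivial_iff, Ne, Subgroup.subgroupOf_eq_top]
      exact fun hle => hLC (le_antisymm ly.lc hle)
    have hQ : IsPGroup p (C ⧸ L') := (c.hS.to_le hCS).to_quotient L'
    haveI := hQ.center_nontrivial
    obtain ⟨k, hk⟩ := IsPGroup.iff_card.mp (hQ.to_subgroup (Subgroup.center (C ⧸ L')))
    obtain ⟨w, hw⟩ := exists_prime_orderOf_dvd_card' (G := Subgroup.center (C ⧸ L')) p (by
      have h1 : 1 < Nat.card (Subgroup.center (C ⧸ L')) := Finite.one_lt_card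
      rw [hk] at h1 ⊢
      exact dvd_pow_self p fun h0 => by simp [h0] at h1)
    obtain ⟨y, hy⟩ := QuotientGroup.mk'_surjective L' (w : C ⧸ L')
    have hyL : y ∉ L' := fun h => by
      have e : w = 1 := Subtype.ext (by
        rw [← hy, QuotientGroup.mk'_apply, (QuotientGroup.eq_one_iff (N := L') y).mpr h]
        rfl)
      rw [e, orderOf_one] at hw
      exact hp.one_lt.ne hw
    refine hyL (hge ⟨y.2, ?_, fun g hg => ?_⟩)
    · have h := congrArg (fun t : Subgroup.center (C ⧸ L') => (t : C ⧸ L'))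
        (pow_orderOf_eq_one w)
      simp only [hw, Subgroup.coe_pow, Subgroup.coe_one, ← hy, ← _root_.map_pow] at h
      have h2 := (QuotientGroup.eq_one_iff _).mp h
      simpa [L', Subgroup.mem_subgroupOf] using h2
    · have h2 := Subgroup.mem_center_iff.mp w.2 (QuotientGroup.mk' L' ⟨g, hg⟩)
      rw [← hy, ← _root_.map_mul, ← _root_.map_mul, ← mul_inv_eq_one, ← _root_.map_inv,
        ← _root_.map_mul] at h2
      have h3 := (QuotientGroup.eq_one_iff _).mp h2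
      simpa [L', Subgroup.mem_subgroupOf, br, mul_assoc] using h3
  let ψ : Ω → Ω := fun y => φ (y ^ p)
  have hmul : ∀ a ∈ T, ∀ b ∈ T, ψ (a * b) = ψ a * ψ b := by
    intro a ha b hb
    have hc' : br b a ∈ L := ha.2.2 b hb.1
    have hflip : ∀ g ∈ C, br (br b a) g ∈ N := fun g hg => by
      rw [← br_symm]; exact N.inv_mem (ly.comm _ hc' g hg)
    have h := pow_prime_mul_mod hp c.odd (K := C) (N := N)
      (fun k hk y hy => ly.cj_N c k (hCS hk) y hy) ha.1 hb.1 (hflip a ha.1) (hflip b hb.1)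
      (ly.pow_mem c hc')
    have h2 := (ly.ker _ (ly.nl h)).mpr h
    have hab : (a * b) ^ p ∈ L := (T.mul_mem ha hb).2.1
    have hapb : a ^ p * b ^ p ∈ L := L.mul_mem ha.2.1 hb.2.1
    rw [ly.map_mul _ hab _ (L.inv_mem hapb), ly.map_inv hapb, mul_inv_eq_one,
      ly.map_mul _ ha.2.1 _ hb.2.1] at h2
    exact h2
  have hker : ∀ y ∈ T, (ψ y = 1 ↔ y ∈ L) := by
    intro y hy
    refine ⟨fun h => ?_, fun h => (ly.ker _ (L.pow_mem h p)).mpr (ly.pow_mem c h)⟩
    have hyN : y ^ p ∈ N := (ly.ker _ hy.2.1).mp h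
    let V : Set Ω := insert y (L : Set Ω)
    have hVC : Subgroup.closure V ≤ C :=
      (Subgroup.closure_le _).mpr (Set.insert_subset hy.1 ly.lc)
    have hn : ∀ k ∈ Subgroup.closure V, ∀ x ∈ N, cj k x ∈ N :=
      fun k hk x hx => ly.cj_N c k (hCS (hVC hk)) x hx
    have hpair : ∀ a ∈ V, ∀ b ∈ V, a * b * a⁻¹ * b⁻¹ ∈ N := by
      rintro a (rfl | ha) b (rfl | hb)
      · simp
      · exact ly.comm b hb _ hy.1
      · have := N.inv_mem (ly.comm a ha _ hy.1)
        rwa [br_symm] at this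
      · exact ly.comm b hb a (ly.lc ha)
    have hle := section_card c.rk (hVC.trans hCS)
      (fun x hx => Subgroup.subset_closure (Set.mem_insert_of_mem y (ly.nl hx))) hn
      (gen_comm hn hpair) (gen_pow hn hpair (by
        rintro a (rfl | ha)
        · exact hyN
        · exact ly.pow_mem c ha))
    have e := eq_of_le_of_card_ge (hVC.trans hCS)
      (fun x hx => Subgroup.subset_closure (Set.mem_insert_of_mem y hx) :
        L ≤ Subgroup.closure V) (hle.trans (ly.card_ge c))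
    rw [e]
    exact Subgroup.subset_closure (Set.mem_insert y _)
  have hinvT : ∀ {E : Subgroup Ω}, C ≤ E → Inv F E C → Inv F E L → Inv F E T := by
    intro E hCE hIC hIL α hα y hy
    refine ⟨hIC α hα y hy.1, ?_, fun g hg => ?_⟩
    · rw [← afun_pow α (hCE hy.1)]; exact hIL α hα _ hy.2.1
    · have hg' := hIC _ (inv_mem hα) g hg
      have h := hIL α hα _ (hy.2.2 _ hg')
      rwa [afun_br α (hCE hg') (hCE hy.1), afun_apply_inv α (hCE hg)] at h
  have heq1 : ∀ α ∈ F.autGroup E₁, ∀ y ∈ T, ψ (afun α y) = afun α (ψ y) := fun α hα y hy => by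
    show φ (afun α y ^ p) = _
    rw [← afun_pow α (c.cH_le1 hy.1), ly.eq1 α hα _ hy.2.1]
  have heq2 : ∀ α ∈ F.autGroup E₂, ∀ y ∈ T, ψ (afun α y) = afun α (ψ y) := fun α hα y hy => by
    show φ (afun α y ^ p) = _
    rw [← afun_pow α (c.cH_le2 hy.1), ly.eq2 α hα _ hy.2.1]
  have hT1 := hinvT c.cH_le1 c.inv_cH1 ly.iL1
  have hT2 := hinvT c.cH_le2 c.inv_cH2 ly.iL2
  -- the image is all of `H`
  let I : Subgroup Ω :=
    { carrier := {h | ∃ y ∈ T, ψ y = h}
      one_mem' := ⟨1, T.one_mem, by show φ (1 ^ p) = 1; rw [one_pow, ly.map_one]⟩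
      mul_mem' := by
        rintro _ _ ⟨a, ha, rfl⟩ ⟨b, hb, rfl⟩
        exact ⟨a * b, T.mul_mem ha hb, hmul a ha b hb⟩
      inv_mem' := by
        rintro _ ⟨a, ha, rfl⟩
        exact ⟨a⁻¹, T.inv_mem ha, by
          show φ (a⁻¹ ^ p) = (φ (a ^ p))⁻¹
          rw [inv_pow, ly.map_inv ha.2.1]⟩ }
  have hIH : I ≤ H := by
    rintro _ ⟨y, hy, rfl⟩
    exact ly.mem _ hy.2.1
  have hI1 : Inv F E₁ I := by
    rintro α hα _ ⟨y, hy, rfl⟩
    exact ⟨_, hT1 α hα y hy, heq1 α hα y hy⟩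
  have hI2 : Inv F E₂ I := by
    rintro α hα _ ⟨y, hy, rfl⟩
    exact ⟨_, hT2 α hα y hy, heq2 α hα y hy⟩
  have hIne : I ≠ ⊥ := by
    intro e
    obtain ⟨y, hy, hyL⟩ := SetLike.exists_of_lt hlt
    have : ψ y ∈ I := ⟨y, hy, rfl⟩
    rw [e, Subgroup.mem_bot] at this
    exact hyL ((hker y hy).mp this)
  obtain ⟨z, hz, hz1, hzZ⟩ := exists_central_mem c.hS (hIH.trans c.hHS)
    (fun g hg x hx => c.m2.cj_mem_of_inv (hIH.trans c.h2) hI2 hg hx) hIne
  have hzU : z ∈ U := by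
    by_contra hzU
    obtain ⟨s, hs, hs2⟩ := c.exists_s
    refine c.br_not_zu hs hs2 (hIH hz) hzU ?_
    rw [br_eq_one.mpr (hzZ.2.2 s (c.m1.le hs)).symm]
    exact one_mem _
  have hUI : U ≤ I := by
    rcases c.hU.irred (I ⊓ U) inf_le_right
        ((InvBy.mono hI1 (opp_le F p E₁)).inf (InvBy.mono c.hU.inv (opp_le F p E₁))) with e | e
    · exact absurd (Subgroup.mem_bot.mp (e ▸ (⟨hz, hzU⟩ : z ∈ I ⊓ U))) hz1
    · exact e.symm.le.trans inf_le_left
  have hsurj := c.span I hI2 hUI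
  exact ⟨T, ψ, hlt,
    { nl := hLT
      lc := hTC
      iN1 := ly.iL1
      iN2 := ly.iL2
      iL1 := hT1
      iL2 := hT2
      comm := fun y hy g hg => hy.2.2 g hg
      map_mul := hmul
      mem := fun y hy => ly.mem _ hy.2.1
      surj := fun h hh => hsurj hh
      ker := hker
      eq1 := heq1
      eq2 := heq2 }⟩

/-- A layer reaches up to `C_S(H)`. -/
theorem exists_top (c : Conf F p E₁ U E₂ H) :
    ∃ N φ, Layer F E₁ E₂ H N (cH S H) φ := by
  have hCS : cH S H ≤ S := inf_le_left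
  suffices h : ∀ n, ∀ (N L : Subgroup Ω) (φ : Ω → Ω), Layer F E₁ E₂ H N L φ →
      Nat.card (cH S H) ≤ Nat.card L + n → ∃ N φ, Layer F E₁ E₂ H N (cH S H) φ from
    h _ _ _ _ (base c) (Nat.le_add_left _ _)
  intro n
  induction n with
  | zero =>
    intro N L φ ly hcard
    have e : L = cH S H := eq_of_le_of_card_ge hCS ly.lc (by omega)
    subst e
    exact ⟨N, φ, ly⟩
  | succ n ih =>
    intro N L φ ly hcard
    by_cases he : L = cH S H
    · subst he
      exact ⟨N, φ, ly⟩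
    · obtain ⟨L', φ', hlt, ly'⟩ := ly.next c he
      refine ih L L' φ' ly' ?_
      have h := mul_card_le_of_lt c.hS ly'.L_le hlt
      haveI := finite_of_le ly.L_le
      have h0 : 0 < Nat.card L := Nat.card_pos
      have h2 := Nat.mul_le_mul_right (Nat.card L) (Fact.out : p.Prime).two_le
      omega

end Layer

end Cfsg.Agent.Rank3.CaseB2
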