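import Cfsg.Agent.Lib.Rank3EngineHyp34
import Cfsg.Agent.Lib.Rank3CaseA34
import Cfsg.Agent.Lib.Rank3CaseB34Two

/-!
The rank three engine.
-/

set_option autoImplicit false

namespace Cfsg.Agent.Rank3

open Cfsg.FusionSystem Cfsg.Agent.FusionSysBasic Cfsg.Agent.FusionSysSaturated

universe u

variable {Ω : Type u} [Group Ω] {S : Subgroup Ω} {F : FusionSystem S} {p : ℕ}
  [Finite S] [Fact p.Prime] {𝔈 : Set (Subgroup Ω)}

theorem engine (hc : Ctx F p 𝔈) : Concl S p 𝔈 ∨ Nat.card S = p ^ 3 :=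
  engine_of hc (fun h₁ h₂ _ hv hv₂ => caseA hc h₁ h₂ hv hv₂)
    (fun hB _ _ _ h₁ hU h₂ hin hmv => false_of_B2 hc hB h₁ hU h₂ hin hmv)

theorem rank_le_two_or_elementary (hS : Nat.card S = p ^ 3) :
    Cfsg.SectionalPRankLE p 2 S ∨ ((∀ a b : S, a * b = b * a) ∧ ∀ a : S, a ^ p = 1) := by
  by_contra hcon
  push Not at hcon
  obtain ⟨h2, hne⟩ := hcon
  refine h2 ?_
  intro H N _ A hcomm hexp
  by_contra hgt
  have hp := (Fact.out : p.Prime)
  have hpos : 0 < p ^ 3 := pow_pos hp.pos 3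
  have hA : Nat.card A ∣ Nat.card (H ⧸ N) := Subgroup.card_subgroup_dvd_card A
  have hq : Nat.card (H ⧸ N) ∣ Nat.card H :=
    ⟨Nat.card N, Subgroup.card_eq_card_quotient_mul_card_subgroup N⟩
  have hH : Nat.card H ∣ p ^ 3 := hS ▸ Subgroup.card_subgroup_dvd_card H
  obtain ⟨i, hi, hAi⟩ := (Nat.dvd_prime_pow hp).mp ((hA.trans hq).trans hH)
  have hi3 : i = 3 := by
    by_contra hne3
    exact hgt (hAi ▸ Nat.pow_le_pow_right hp.pos (by omega))
  rw [hi3] at hAi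
  have hHc : Nat.card H = p ^ 3 := Nat.dvd_antisymm hH (hAi ▸ hA.trans hq)
  have hqc : Nat.card (H ⧸ N) = p ^ 3 :=
    Nat.dvd_antisymm (hq.trans hH) (hAi ▸ hA)
  haveI : Finite H := inferInstance
  have hHt : H = ⊤ := (Subgroup.card_eq_iff_eq_top H).mp (by rw [hHc, hS])
  have hAt : A = ⊤ := (Subgroup.card_eq_iff_eq_top A).mp (by rw [hAi, hqc])
  have hbij : Function.Bijective (QuotientGroup.mk' N) :=
    (Nat.bijective_iff_surjective_and_card _).mpr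
      ⟨QuotientGroup.mk'_surjective N, by rw [hHc, hqc]⟩
  have hmem : ∀ a : H, (QuotientGroup.mk' N a) ∈ A := fun a => hAt ▸ Subgroup.mem_top _
  have hab : ∀ a b : S, a * b = b * a := by
    intro a b
    have h := hbij.1 (a₁ := ⟨a, hHt ▸ Subgroup.mem_top a⟩ * ⟨b, hHt ▸ Subgroup.mem_top b⟩)
      (a₂ := ⟨b, hHt ▸ Subgroup.mem_top b⟩ * ⟨a, hHt ▸ Subgroup.mem_top a⟩) (by
        rw [map_mul, map_mul]
        haveI := hcomm
        exact congrArg Subtype.val (mul_comm' (⟨_, hmem ⟨a, _⟩⟩ : A) ⟨_, hmem ⟨b, _⟩⟩))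
    exact congrArg Subtype.val h
  obtain ⟨a, ha⟩ := hne hab
  refine ha ?_
  have h := hbij.1 (a₁ := (⟨a, hHt ▸ Subgroup.mem_top a⟩ : H) ^ p) (a₂ := 1) (by
    rw [map_pow, map_one]; exact hexp _ (hmem _))
  exact congrArg Subtype.val h

theorem engine_rank (hc : Ctx F p 𝔈) (h2 : ¬ Cfsg.SectionalPRankLE p 2 S) : Concl S p 𝔈 := by
  refine (engine hc).resolve_right fun hcard => ?_
  obtain ⟨hcomm, -⟩ := (rank_le_two_or_elementary hcard).resolve_left h2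
  obtain ⟨E, hE, -⟩ := hc.exists_moves
  have hM := hc.max E hE
  have hle : S ≤ E := fun s hs => hM.mem_of_centralizes hs fun x hx =>
    congrArg Subtype.val (hcomm ⟨s, hs⟩ ⟨x, hM.le hx⟩)
  have h1 := hM.card_eq
  rw [le_antisymm hM.le hle, hcard] at h1
  have hp := (Fact.out : p.Prime).two_le
  have h3 : 0 < p ^ 3 := by positivity
  nlinarith

end Cfsg.Agent.Rank3
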