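import Cfsg.Agent.Lib.Rank3Top34

/-!
The rank three engine, assembled from case A and case B2.
-/

set_option autoImplicit false
set_option linter.unusedSectionVars false

namespace Cfsg.Agent.Rank3

open Cfsg.FusionSystem Cfsg.Agent.FusionSysBasic Cfsg.Agent.FusionSysSaturated
  Cfsg.Agent.FusionSysNormal Cfsg.Agent.FusionSysAlperin

universe u

variable {Ω : Type u} [Group Ω] {S : Subgroup Ω} {F : FusionSystem S} {p : ℕ}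
  [Finite S] [Fact p.Prime] {𝔈 : Set (Subgroup Ω)}

theorem Ctx.exists_moves (hc : Ctx F p 𝔈) : ∃ E ∈ 𝔈, ¬ Inv F E (OmZ p S) := by
  by_contra hcon
  push Not at hcon
  have hbot := hc.free (OmZ p S) omZ_le (invBy_omZ _) fun E hE =>
    ⟨(hc.max E hE).omZ_le_omZ.trans omZ_le, hcon E hE⟩
  obtain ⟨z, -, hz1, hzZ⟩ := exists_central_mem hc.hS le_rfl
    (fun g hg x hx => cj_mem_S hg hx) hc.ne
  rw [hbot, Subgroup.mem_bot] at hzZ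
  exact hz1 hzZ

theorem engine_of (hc : Ctx F p 𝔈)
    (hA : ∀ {E₁ E₂ : Subgroup Ω}, E₁ ∈ 𝔈 → E₂ ∈ 𝔈 → ∀ {v : Ω}, v ∈ OmZ p E₁ → v ∉ E₂ →
      Concl S p 𝔈 ∨ Nat.card S = p ^ 3)
    (h2 : (∀ E ∈ 𝔈, ∀ E' ∈ 𝔈, OmZ p E ≤ E') → ∀ {E₁ U E₂ : Subgroup Ω}, E₁ ∈ 𝔈 →
      Plane F p E₁ U → E₂ ∈ 𝔈 → (∀ β ∈ F.autGroup E₂, img β U ≤ E₁) →
      (∃ α ∈ opp F p E₂, ∃ u ∈ U, afun α u ∉ U) → False) : Concl S p 𝔈 ∨ Nat.card S = p ^ 3 := by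
  by_cases hB : ∀ E ∈ 𝔈, ∀ E' ∈ 𝔈, OmZ p E ≤ E'
  · exfalso
    obtain ⟨E₁, h₁, hmove⟩ := hc.exists_moves
    rcases plane_or_cubic hc.hp hc.hS hc.hF hc.rk (hc.max _ h₁) hmove with ⟨U, hU⟩ | ⟨V, hV⟩
    · obtain ⟨E₂, h₂, hmv⟩ := exists_mover hc hB h₁ hU
      by_cases hin : ∀ β ∈ F.autGroup E₂, img β U ≤ E₁
      · exact h2 hB h₁ hU h₂ hin hmv
      · push Not at hin
        obtain ⟨β, -, hout⟩ := hin
        exact false_of_B1 hc hB h₁ hU h₂ hout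
    · exact false_of_cubic hc hB h₁ hV
  · push Not at hB
    obtain ⟨E, hE, E', hE', hle⟩ := hB
    obtain ⟨v, hv, hv'⟩ := SetLike.not_le_iff_exists.mp hle
    exact hA hE hE' hv hv'

end Cfsg.Agent.Rank3
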