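import Mathlib
import Cfsg.Agent.Lib.Rank3Found34

/-!
Vocabulary for two essential subgroups of index `p` invariant under `Aut_F(S)` (S5189).
-/

set_option autoImplicit false

namespace Cfsg.Agent.Rank3

open Cfsg Cfsg.FusionSystem Cfsg.Agent.FusionSysBasic

universe u

variable {Ω : Type u} [Group Ω] {S : Subgroup Ω}

/-- Two distinct maximal essential subgroups, invariant under `Aut_F(S)`. -/
structure Pair (F : FusionSystem S) (p : ℕ) (E E' : Subgroup Ω) : Prop where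
  hp : Odd p
  hS : IsPGroup p S
  hF : F.IsSaturated p
  rk : Cfsg.SectionalPRankLE p 3 S
  m₁ : Max F p E
  m₂ : Max F p E'
  ne : E ≠ E'
  c₁ : Inv F S E
  c₂ : Inv F S E'

theorem Pair.symm {F : FusionSystem S} {p : ℕ} {E E' : Subgroup Ω} (h : Pair F p E E') :
    Pair F p E' E :=
  ⟨h.hp, h.hS, h.hF, h.rk, h.m₂, h.m₁, h.ne.symm, h.c₂, h.c₁⟩

/-- `K` is invariant under the automisers of `S`, `E` and `E'`. -/
structure CommonInv (F : FusionSystem S) (E E' K : Subgroup Ω) : Prop where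
  le : K ≤ E ⊓ E'
  invS : Inv F S K
  inv₁ : Inv F E K
  inv₂ : Inv F E' K

/-- The possible shapes of `S / K` for a largest common invariant subgroup `K`. -/
def QuotShape (S : Subgroup Ω) (p : ℕ) (E E' K : Subgroup Ω) : Prop :=
  Nat.card S = p ^ 3 * Nat.card K ∨
    (Nat.card S = p ^ 4 * Nat.card K ∧ ∃ A B : Subgroup Ω, ((A = E ∧ B = E') ∨ (A = E' ∧ B = E)) ∧
      (∀ a ∈ A, ∀ b ∈ A, a * b * a⁻¹ * b⁻¹ ∈ K) ∧ (∀ a ∈ A, a ^ p ∈ K) ∧
      ∀ T : Subgroup Ω, T ≤ B → (∀ z ∈ T, ∀ b ∈ B, z * b * z⁻¹ * b⁻¹ ∈ K) →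
        Nat.card T ≤ p * Nat.card K)

end Cfsg.Agent.Rank3
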