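import Mathlib
import Cfsg.Agent.Lib.Rank3PairDef34
import Cfsg.Agent.Lib.Rank3Step34
import Cfsg.Agent.Lib.Rank3Found34b
import Cfsg.Agent.Lib.Rank3PairNeg34
import Cfsg.Agent.Lib.FusionEssential88

/-!
Frattini subgroups and sections inside maximal essential subgroups.
-/

set_option autoImplicit false
set_option linter.unusedSectionVars false
set_option linter.style.haveILetI false

namespace Cfsg.Agent.Rank3

open scoped commutatorElement
open Cfsg Cfsg.FusionSystem Cfsg.Agent.FusionSysBasic Cfsg.Agent.FusionSysSaturated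
  Cfsg.Agent.FusionSysAlperin Cfsg.Agent.FusionSysNormal

universe u

variable {Ω : Type u} [Group Ω] {S : Subgroup Ω} {p : ℕ} {F : FusionSystem S}

/-- The Frattini subgroup of `E`, inside the ambient group. -/
def frat (E : Subgroup Ω) : Subgroup Ω := (frattini E).map E.subtype

theorem frat_le (E : Subgroup Ω) : frat E ≤ E := Subgroup.map_subtype_le _

theorem mem_frat {E : Subgroup Ω} {a : Ω} (ha : a ∈ E) : a ∈ frat E ↔ (⟨a, ha⟩ : E) ∈ frattini E :=
  Subgroup.mem_map_iff_mem E.subtype_injective (x := (⟨a, ha⟩ : E))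

theorem frat_subgroupOf (E : Subgroup Ω) : (frat E).subgroupOf E = frattini E :=
  Subgroup.comap_map_eq_self_of_injective E.subtype_injective _

/-- The restriction of a group of automorphisms of `E` to an invariant subgroup. -/
noncomputable def resHom {E B : Subgroup Ω} (A : Subgroup (MulAut E)) (hB : B ≤ E)
    (hi : InvBy A B) : A →* MulAut B where
  toFun α :=
    { toFun := fun v => ⟨afun (α : MulAut E) v, hi α α.2 v v.2⟩
      invFun := fun v => ⟨afun (α : MulAut E)⁻¹ v, hi _ (inv_mem α.2) v v.2⟩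
      left_inv := fun v => Subtype.ext (afun_inv_apply _ (hB v.2))
      right_inv := fun v => Subtype.ext (afun_apply_inv _ (hB v.2))
      map_mul' := fun a b => Subtype.ext (afun_map_mul _ (hB a.2) (hB b.2)) }
  map_one' := MulEquiv.ext fun v => Subtype.ext (afun_one (hB v.2))
  map_mul' a b := MulEquiv.ext fun v => Subtype.ext (afun_mul _ _ (hB v.2))

theorem resHom_coe {E B : Subgroup Ω} (A : Subgroup (MulAut E)) (hB : B ≤ E) (hi : InvBy A B)
    (α : A) (v : B) : (resHom A hB hi α v : Ω) = afun (α : MulAut E) v := rfl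

theorem invBy_frat_self {E : Subgroup Ω} (A : Subgroup (MulAut E)) : InvBy A (frat E) := by
  rintro α - _ ⟨a, ha, rfl⟩
  exact ⟨α a, (Subgroup.characteristic_iff_map_le.1 inferInstance α) ⟨a, ha, rfl⟩,
    (afun_coe α a).symm⟩

theorem invBy_frat {E B : Subgroup Ω} {A : Subgroup (MulAut E)} (hB : B ≤ E) (hi : InvBy A B) :
    InvBy A (frat B) := by
  rintro α hα _ ⟨b, hb, rfl⟩
  exact ⟨resHom A hB hi ⟨α, hα⟩ b,
    (Subgroup.characteristic_iff_map_le.1 inferInstance _) ⟨b, hb, rfl⟩, rfl⟩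

theorem cj_mem_frat [Finite S] {B : Subgroup Ω} (hBS : B ≤ S)
    (hn : ∀ g ∈ S, ∀ b ∈ B, cj g b ∈ B) {g : Ω} (hg : g ∈ S) {a : Ω} (ha : a ∈ frat B) :
    cj g a ∈ frat B := by
  obtain ⟨b, hb, rfl⟩ := ha
  let g' : ↥(S ⊓ Subgroup.normalizer (B : Set Ω)) :=
    ⟨g, hg, mem_normalizer_of_cj_le hBS (hn g hg)⟩
  refine ⟨nHom S B g' b, (Subgroup.characteristic_iff_map_le.1 inferInstance _) ⟨b, hb, rfl⟩, ?_⟩
  show ((nHom S B g' b : B) : Ω) = cj g b
  rw [← afun_coe, afun_nHom g' b.2]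

theorem pow_mem_frat [Finite S] [Fact p.Prime] (hS : IsPGroup p S) {E : Subgroup Ω} (hE : E ≤ S)
    {a : Ω} (ha : a ∈ E) : a ^ p ∈ frat E := by
  haveI := finite_of_le hE
  exact ⟨⟨a, ha⟩ ^ p, PGroupsBasic.pow_mem_frattini (hS.to_le hE) _, rfl⟩

theorem comm_mem_frat [Finite S] [Fact p.Prime] (hS : IsPGroup p S) {E : Subgroup Ω} (hE : E ≤ S)
    {a b : Ω} (ha : a ∈ E) (hb : b ∈ E) : cj a b * b⁻¹ ∈ frat E := by
  haveI := finite_of_le hE
  refine ⟨⁅(⟨a, ha⟩ : E), ⟨b, hb⟩⁆, PGroupsBasic.commutator_le_frattini (hS.to_le hE)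
    (Subgroup.commutator_mem_commutator (Subgroup.mem_top _) (Subgroup.mem_top _)), ?_⟩
  show ⁅a, b⁆ = _
  rw [commutatorElement_def, cj_apply]

theorem frat_le_of [Finite S] [Fact p.Prime] (hS : IsPGroup p S) {E N : Subgroup Ω} (hE : E ≤ S)
    (hn : ∀ a ∈ E, ∀ b ∈ N, b ∈ E → cj a b ∈ N)
    (hc : ∀ a ∈ E, ∀ b ∈ E, cj a b * b⁻¹ ∈ N) (hp : ∀ a ∈ E, a ^ p ∈ N) : frat E ≤ N := by
  haveI := finite_of_le hE
  haveI : (N.subgroupOf E).Normal := ⟨fun b hb a => hn a a.2 b hb b.2⟩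
  have hle : frattini E ≤ N.subgroupOf E := by
    refine PGroupsBasic.frattini_le_of_elementary_quotient (p := p) ?_ fun a => hp a a.2
    rw [commutator_def, Subgroup.commutator_le]
    intro a _ b _
    show ⁅(a : Ω), (b : Ω)⁆ ∈ N
    rw [commutatorElement_def, ← cj_apply]
    exact hc a a.2 b b.2
  rintro _ ⟨a, ha, rfl⟩
  exact hle ha

theorem card_le_frat [Finite S] [Fact p.Prime] (hS : IsPGroup p S)
    (rk : Cfsg.SectionalPRankLE p 3 S) {E : Subgroup Ω} (hE : E ≤ S) :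
    Nat.card E ≤ p ^ 3 * Nat.card (frat E) := by
  refine section_card rk hE (frat_le E) (fun a ha b hb => ?_) (fun a ha b hb => ?_)
    fun a ha => pow_mem_frat hS hE ha
  · have := mul_mem (comm_mem_frat hS hE ha (frat_le E hb)) hb
    rwa [inv_mul_cancel_right] at this
  · have := comm_mem_frat hS hE ha hb
    rwa [cj_apply] at this

/-- Normal subgroups of index `p` contain the commutators and `p`-th powers of `S`. -/
theorem Max.comm_mem [Finite S] [Fact p.Prime] {E : Subgroup Ω} (h : Max F p E) {a b : Ω}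
    (ha : a ∈ S) (hb : b ∈ S) : cj a b * b⁻¹ ∈ E := by
  haveI : (E.subgroupOf S).Normal := ⟨fun n hn g => h.normal g g.2 n hn⟩
  have hidx : Nat.card (S ⧸ E.subgroupOf S) = p := by
    have h1 := Subgroup.card_eq_card_quotient_mul_card_subgroup (E.subgroupOf S)
    rw [Nat.card_congr (Subgroup.subgroupOfEquivOfLe h.le).toEquiv, h.card_eq] at h1
    haveI := h.finite
    exact (Nat.eq_of_mul_eq_mul_right Nat.card_pos h1).symm
  haveI := isCyclic_of_prime_card hidx
  letI := IsCyclic.commGroup (α := S ⧸ E.subgroupOf S)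
  have h2 : (QuotientGroup.mk' (E.subgroupOf S)) ⁅(⟨a, ha⟩ : S), ⟨b, hb⟩⁆ = 1 := by
    rw [map_commutatorElement, commutatorElement_eq_one_iff_mul_comm, mul_comm]
  have h3 : ⁅a, b⁆ ∈ E :=
    ((QuotientGroup.eq_one_iff (N := E.subgroupOf S) ⁅(⟨a, ha⟩ : S), ⟨b, hb⟩⁆).1 h2 :)
  rwa [commutatorElement_def, ← cj_apply] at h3

theorem Max.pow_mem [Finite S] [Fact p.Prime] {E : Subgroup Ω} (h : Max F p E) {a : Ω}
    (ha : a ∈ S) : a ^ p ∈ E := by
  haveI : (E.subgroupOf S).Normal := ⟨fun n hn g => h.normal g g.2 n hn⟩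
  have hidx : (E.subgroupOf S).index = p := by
    have h1 := (E.subgroupOf S).card_mul_index
    rw [Nat.card_congr (Subgroup.subgroupOfEquivOfLe h.le).toEquiv, h.card_eq, mul_comm p] at h1
    haveI := h.finite
    exact Nat.eq_of_mul_eq_mul_left Nat.card_pos h1
  have := (E.subgroupOf S).pow_index_mem ⟨a, ha⟩
  rwa [hidx] at this

/-- A group of automorphisms of `E` stabilising a series above the Frattini subgroup is a
`p`-group. -/
theorem Max.pGroup_chain [Finite S] [Fact p.Prime] {E : Subgroup Ω} (h : Max F p E)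
    (hS : IsPGroup p S) {n : ℕ} (Y : ℕ → Subgroup Ω) (h0 : Y 0 = frat E) (hn : Y n = E)
    {A : Subgroup (MulAut E)}
    (hstep : ∀ α ∈ A, ∀ i < n, ∀ y ∈ Y (i + 1), y⁻¹ * afun α y ∈ Y i) : IsPGroup p A := by
  haveI := h.finite
  refine FusionEssential88.isPGroup_of_stabilizes (hS.to_le h.le) (n := n)
    (fun i => (Y i).subgroupOf E) (by show (Y 0).subgroupOf E = _; rw [h0, frat_subgroupOf])
    (by show (Y n).subgroupOf E = _; rw [hn, Subgroup.subgroupOf_self])
    fun α hα i hi y hy => ?_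
  rw [Subgroup.mem_subgroupOf, Subgroup.coe_mul, ← afun_coe α]
  exact hstep α hα i hi y hy

/-- Automorphisms in `Aut_F(E)` centralising `Q / Φ(E)` and `E / Q` are inner. -/
theorem Max.inn_of_two_step [Finite S] [Fact p.Prime] {E Q : Subgroup Ω} (h : Max F p E)
    (hS : IsPGroup p S) (hQ : Q ≤ E) (hinv : Inv F E Q) {α : MulAut E} (hα : α ∈ F.autGroup E)
    (h1 : ∀ y ∈ Q, y⁻¹ * afun α y ∈ frat E) (h2 : ∀ y ∈ E, y⁻¹ * afun α y ∈ Q) : α ∈ Inn E := by
  let Y : ℕ → Subgroup Ω := fun i => if i = 0 then frat E else if i = 1 then Q else E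
  have hYP : ∀ i ≤ 2, Y i ≤ E := fun i _ => by
    simp only [Y]; split_ifs <;> first | exact frat_le E | exact hQ | exact le_rfl
  have hYinv : ∀ a ∈ F.autGroup E, ∀ i ≤ 2, ∀ y ∈ Y i, afun a y ∈ Y i := by
    intro a ha i hi y hy
    interval_cases i
    · exact invBy_frat_self (F.autGroup E) a ha y hy
    · exact hinv a ha y hy
    · exact afun_mem a hy
  have hp' : IsPGroup p (FusionSysChain.stabGroup (F.autGroup E) Y 2 hYP hYinv) :=
    h.pGroup_chain hS Y rfl rfl fun a ha => ha.2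
  refine h.stabilizer_le_inn hS (A := FusionSysChain.stabGroup (F.autGroup E) Y 2 hYP hYinv)
    (fun a ha => ha.1) hp' (fun a ha m hm => FusionSysChain.stabGroup_normal ha hm) ⟨hα, ?_⟩
  intro i hi y hy
  interval_cases i
  · exact h1 y hy
  · exact h2 y hy

/-- `O^{p'}(Aut_F(E))` stabilises no series above the Frattini subgroup. -/
theorem Max.false_of_opp_chain [Finite S] [Fact p.Prime] {E : Subgroup Ω} (h : Max F p E)
    (hS : IsPGroup p S) (hF : F.IsSaturated p) {n : ℕ} (Y : ℕ → Subgroup Ω) (h0 : Y 0 = frat E)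
    (hn : Y n = E)
    (hstep : ∀ α ∈ opp F p E, ∀ i < n, ∀ y ∈ Y (i + 1), y⁻¹ * afun α y ∈ Y i) : False := by
  obtain ⟨x, hxS, hxE⟩ := SetLike.exists_of_lt (essential_lt hS hF h.ess)
  exact hxE (h.mem_of_conjAut_inn hxS (h.stabilizer_le_inn hS (Rank3.opp_le F p E)
    (h.pGroup_chain hS Y h0 hn hstep) (fun a ha m hm => h.opp_conj ha hm)
    (h.conjAut_mem_opp hS hxS)))

/-- The action of a group of automorphisms of `E` on an invariant section. -/
noncomputable def secHom {E B N : Subgroup Ω} (A : Subgroup (MulAut E)) (hB : B ≤ E)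
    (hiB : InvBy A B) (hiN : InvBy A N) [(N.subgroupOf B).Normal] :
    A →* MulAut (B ⧸ N.subgroupOf B) where
  toFun α := QuotientGroup.congr (N.subgroupOf B) (N.subgroupOf B) (resHom A hB hiB α) (by
    refine le_antisymm ?_ fun v hv => ?_
    · rintro _ ⟨v, hv, rfl⟩
      exact hiN α α.2 _ hv
    · refine ⟨resHom A hB hiB α⁻¹ v, hiN _ (inv_mem α.2) _ hv, ?_⟩
      show resHom A hB hiB α (resHom A hB hiB α⁻¹ v) = v
      rw [← MulAut.mul_apply, ← map_mul, mul_inv_cancel, map_one, MulAut.one_apply])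
  map_one' := MulEquiv.ext fun v => by
    obtain ⟨v, rfl⟩ := QuotientGroup.mk_surjective v
    show ((resHom A hB hiB 1 v : B) : B ⧸ N.subgroupOf B) = _
    rw [map_one]; rfl
  map_mul' a b := MulEquiv.ext fun v => by
    obtain ⟨v, rfl⟩ := QuotientGroup.mk_surjective v
    show ((resHom A hB hiB (a * b) v : B) : B ⧸ N.subgroupOf B) = _
    rw [map_mul]; rfl

theorem secHom_mk {E B N : Subgroup Ω} (A : Subgroup (MulAut E)) (hB : B ≤ E) (hiB : InvBy A B)
    (hiN : InvBy A N) [(N.subgroupOf B).Normal] (α : A) (v : B) :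
    secHom A hB hiB hiN α (v : B ⧸ N.subgroupOf B) = (resHom A hB hiB α v : B) := rfl

theorem quot_eq {B N : Subgroup Ω} [(N.subgroupOf B).Normal] (v w : B) :
    (v : B ⧸ N.subgroupOf B) = (w : B ⧸ N.subgroupOf B) ↔ (v : Ω)⁻¹ * (w : Ω) ∈ N :=
  QuotientGroup.eq

/-- An elementary abelian section as a commutative group. -/
@[reducible] def secComm {B N : Subgroup Ω} [(N.subgroupOf B).Normal]
    (hc : ∀ a ∈ B, ∀ b ∈ B, cj a b * b⁻¹ ∈ N) : CommGroup (B ⧸ N.subgroupOf B) where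
  mul_comm x y := by
    obtain ⟨a, rfl⟩ := QuotientGroup.mk_surjective x
    obtain ⟨b, rfl⟩ := QuotientGroup.mk_surjective y
    rw [← QuotientGroup.mk_mul, ← QuotientGroup.mk_mul, quot_eq]
    have h := hc _ (B.inv_mem b.2) _ (B.inv_mem a.2)
    simp only [cj_apply] at h
    simpa [mul_assoc] using h

theorem sec_pow {B N : Subgroup Ω} [(N.subgroupOf B).Normal] {n : ℕ} (hp : ∀ a ∈ B, a ^ n ∈ N)
    (x : B ⧸ N.subgroupOf B) : x ^ n = 1 := by
  obtain ⟨a, rfl⟩ := QuotientGroup.mk_surjective x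
  rw [← QuotientGroup.mk_pow, QuotientGroup.eq_one_iff]
  exact hp a a.2

end Cfsg.Agent.Rank3
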