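import Mathlib
import Cfsg.Agent.Lib.Rank3PairSec34
import Cfsg.Agent.Lib.FusionFrattini88

/-!
The intersection of two maximal essential subgroups invariant under `Aut_F(S)` is never invariant
under `O^{p'}(Aut_F(E))`.
-/

set_option autoImplicit false
set_option linter.unusedSectionVars false
set_option linter.style.haveILetI false

namespace Cfsg.Agent.Rank3

open scoped commutatorElement
open Cfsg Cfsg.FusionSystem Cfsg.Agent.FusionSysBasic Cfsg.Agent.FusionSysSaturated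
  Cfsg.Agent.FusionSysAlperin Cfsg.Agent.FusionSysNormal

universe u

variable {Ω : Type u} [Group Ω] {S : Subgroup Ω} [Finite S] {p : ℕ} [Fact p.Prime]
  {F : FusionSystem S}

theorem afun_npow' {P : Subgroup Ω} (α : MulAut P) {x : Ω} (hx : x ∈ P) (n : ℕ) :
    afun α (x ^ n) = afun α x ^ n := by
  rw [← zpow_natCast, afun_zpow α hx, zpow_natCast]

/-- Conjugation by elements of `S` centralises a normal step of index `p`. -/
theorem step_comm (hS : IsPGroup p S) {A B : Subgroup Ω} (hAB : A ≤ B) (hBS : B ≤ S)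
    (hA : ∀ g ∈ S, ∀ a ∈ A, cj g a ∈ A) (hB : ∀ g ∈ S, ∀ b ∈ B, cj g b ∈ B)
    (hc : Nat.card B ≤ p * Nat.card A) {g b : Ω} (hg : g ∈ S) (hb : b ∈ B) :
    cj g b * b⁻¹ ∈ A := by
  rcases eq_or_lt_of_le hAB with heq | hlt
  · rw [← heq] at hb
    exact A.mul_mem (hA g hg b hb) (A.inv_mem hb)
  haveI : (A.subgroupOf S).Normal := ⟨fun a ha k => hA k k.2 a ha⟩
  haveI : (B.subgroupOf S).Normal := ⟨fun a ha k => hB k k.2 a ha⟩
  have h1 := mul_card_le_of_lt hS hBS hlt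
  have h2 : (⁅(⟨g, hg⟩ : S), ⟨b, hBS hb⟩⁆ : S) ∈ A.subgroupOf S := by
    refine PGroupsCritical.commutator_mem_of_succ hS (fun a ha => hAB ha) ?_
      (B := B.subgroupOf S) hb _
    rw [Nat.card_congr (Subgroup.subgroupOfEquivOfLe (hAB.trans hBS)).toEquiv,
      Nat.card_congr (Subgroup.subgroupOfEquivOfLe hBS).toEquiv, mul_comm]
    omega
  have h3 : ⁅g, b⁆ ∈ A := h2
  rwa [commutatorElement_def, ← cj_apply] at h3

/-- Between two normal subgroups of `S` there is one of order `p` times the smaller. -/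
theorem exists_between (hS : IsPGroup p S) {A B : Subgroup Ω} (hlt : A < B) (hBS : B ≤ S)
    (hA : ∀ g ∈ S, ∀ a ∈ A, cj g a ∈ A) (hB : ∀ g ∈ S, ∀ b ∈ B, cj g b ∈ B) :
    ∃ M : Subgroup Ω, A ≤ M ∧ M ≤ B ∧ (∀ g ∈ S, ∀ b ∈ M, cj g b ∈ M) ∧
      Nat.card M = p * Nat.card A := by
  have hAS : A ≤ S := hlt.le.trans hBS
  haveI : (A.subgroupOf S).Normal := ⟨fun a ha k => hA k k.2 a ha⟩
  haveI : (B.subgroupOf S).Normal := ⟨fun a ha k => hB k k.2 a ha⟩
  have hlt' : A.subgroupOf S < B.subgroupOf S := by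
    refine lt_of_le_of_ne (fun a ha => hlt.le ha) fun e => hlt.ne ?_
    rw [← Subgroup.map_subgroupOf_eq_of_le hAS, e, Subgroup.map_subgroupOf_eq_of_le hBS]
  obtain ⟨M, hMn, hAM, hMB, hMc⟩ := PGroupsBasic.exists_normal_succ (p := p) hS hlt'
  refine ⟨M.map S.subtype, fun a ha => ⟨⟨a, hAS ha⟩, hAM ha, rfl⟩, ?_, ?_, ?_⟩
  · rintro _ ⟨m, hm, rfl⟩; exact hMB hm
  · rintro g hg _ ⟨m, hm, rfl⟩
    exact ⟨⟨g, hg⟩ * m * ⟨g, hg⟩⁻¹, hMn.conj_mem m hm ⟨g, hg⟩, rfl⟩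
  · rw [Subgroup.card_map_of_injective S.subtype_injective, hMc,
      Nat.card_congr (Subgroup.subgroupOfEquivOfLe hAS).toEquiv, mul_comm]

theorem choose_two_dvd (hp : Odd p) : p ∣ p.choose 2 := by
  refine (Fact.out : p.Prime).dvd_choose_self (by norm_num) ?_
  obtain ⟨k, rfl⟩ := hp
  have := (Fact.out : (2 * k + 1).Prime).two_le
  omega

/-- `(a b) ^ p = a ^ p` when the commutator is central in `⟨a, b⟩` and `b` and it have exponent
`p`. -/
theorem mul_pow_p {K : Type*} [Group K] (hp : Odd p) {a b : K} (ha : Commute ⁅a, b⁆ a)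
    (hb : Commute ⁅a, b⁆ b) (hbp : b ^ p = 1) (hh : ⁅a, b⁆ ^ p = 1) : (a * b) ^ p = a ^ p := by
  set h := ⁅a, b⁆⁻¹ with hdef
  have ha' : Commute h a := ha.inv_left
  have hb' : Commute h b := hb.inv_left
  have e : b * a = h * a * b := by rw [hdef, commutatorElement_def]; group
  have e2 : ∀ n : ℕ, b ^ n * a = h ^ n * a * b ^ n := by
    intro n
    induction n with
    | zero => simp
    | succ n ih =>
      calc b ^ (n + 1) * a = b ^ n * (b * a) := by rw [pow_succ, mul_assoc]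
        _ = b ^ n * h * (a * b) := by rw [e]; simp only [mul_assoc]
        _ = h * (b ^ n * a) * b := by rw [((hb'.pow_right n).eq).symm]; simp only [mul_assoc]
        _ = h ^ (n + 1) * a * b ^ (n + 1) := by
          rw [ih, pow_succ' h, pow_succ b]; simp only [mul_assoc]
  have e3 : ∀ n : ℕ, (a * b) ^ n = h ^ n.choose 2 * a ^ n * b ^ n := by
    intro n
    induction n with
    | zero => simp
    | succ n ih =>
      calc (a * b) ^ (n + 1) = h ^ n.choose 2 * a ^ n * (b ^ n * a) * b := by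
            rw [pow_succ, ih]; simp only [mul_assoc]
        _ = h ^ n.choose 2 * (a ^ n * h ^ n) * a * b ^ n * b := by
            rw [e2]; simp only [mul_assoc]
        _ = h ^ (n + 1).choose 2 * a ^ (n + 1) * b ^ (n + 1) := by
            rw [((ha'.pow_pow n n).eq).symm, show (n + 1).choose 2 = n.choose 2 + n by
              rw [Nat.choose_succ_succ', Nat.choose_one_right, add_comm], pow_add, pow_succ a,
              pow_succ b]
            simp only [mul_assoc]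
  obtain ⟨c, hc⟩ := choose_two_dvd (p := p) hp
  rw [e3 p, hbp, mul_one, hc, pow_mul, hdef, inv_pow, hh, inv_one, one_pow, one_mul]

namespace Pair

variable {E E' : Subgroup Ω}

theorem inf_normal (h : Pair F p E E') {g : Ω} (hg : g ∈ S) {q : Ω} (hq : q ∈ E ⊓ E') :
    cj g q ∈ E ⊓ E' := ⟨h.m₁.normal g hg q hq.1, h.m₂.normal g hg q hq.2⟩

theorem exists_y (h : Pair F p E E') : ∃ y ∈ E, y ∉ E' := by
  by_contra hcon
  push Not at hcon
  refine h.ne (eq_of_le_of_card_ge h.m₂.le hcon (le_of_eq ?_))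
  exact Nat.eq_of_mul_eq_mul_left (Fact.out : p.Prime).pos
    (h.m₂.card_eq.symm.trans h.m₁.card_eq)

theorem card_inf (h : Pair F p E E') : Nat.card E ≤ p * Nat.card ↥(E ⊓ E') := by
  obtain ⟨y, hy, hy'⟩ := h.exists_y
  haveI := h.m₁.finite
  haveI : ((E ⊓ E').subgroupOf E).Normal :=
    ⟨fun q hq g => h.inf_normal (h.m₁.le g.2) hq⟩
  have hq : ∀ e : E, ∃ k : ℤ, (e : E ⧸ (E ⊓ E').subgroupOf E) =
      ((⟨y, hy⟩ : E) : E ⧸ (E ⊓ E').subgroupOf E) ^ k := by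
    intro e
    obtain ⟨a, ha, k, hk⟩ := h.m₂.exists_eq_mul (h.m₁.le hy) hy' (h.m₁.le e.2)
    refine ⟨k, ?_⟩
    have haE : a ∈ E := by
      have := E.mul_mem e.2 (E.inv_mem (E.zpow_mem hy k))
      rwa [hk, mul_inv_cancel_right] at this
    rw [show e = ⟨a, haE⟩ * ⟨y, hy⟩ ^ k from Subtype.ext hk, QuotientGroup.mk_mul,
      QuotientGroup.mk_zpow, (QuotientGroup.eq_one_iff (N := (E ⊓ E').subgroupOf E) _).2
        ⟨haE, ha⟩, one_mul]
  have hyp : ((⟨y, hy⟩ : E) : E ⧸ (E ⊓ E').subgroupOf E) ^ p = 1 := by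
    rw [← QuotientGroup.mk_pow, QuotientGroup.eq_one_iff]
    exact ⟨E.pow_mem hy p, h.m₂.pow_mem (h.m₁.le hy)⟩
  have htop : Nat.card (E ⧸ (E ⊓ E').subgroupOf E) ≤ p := by
    calc Nat.card (E ⧸ (E ⊓ E').subgroupOf E)
        ≤ Nat.card (Subgroup.zpowers ((⟨y, hy⟩ : E) : E ⧸ (E ⊓ E').subgroupOf E)) := by
          refine Nat.card_le_card_of_injective (fun q => ⟨q, ?_⟩)
            fun a b e => congrArg Subtype.val e
          obtain ⟨e, rfl⟩ := QuotientGroup.mk_surjective q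
          obtain ⟨k, hk⟩ := hq e
          exact ⟨k, hk.symm⟩
      _ ≤ p := by
          rw [Nat.card_zpowers]
          exact Nat.le_of_dvd (Fact.out : p.Prime).pos (orderOf_dvd_of_pow_eq_one hyp)
  rw [Subgroup.card_eq_card_quotient_mul_card_subgroup ((E ⊓ E').subgroupOf E),
    Nat.card_congr (Subgroup.subgroupOfEquivOfLe (inf_le_left : E ⊓ E' ≤ E)).toEquiv]
  exact Nat.mul_le_mul_right _ htop

theorem frat_le_inf (h : Pair F p E E') : frat E ≤ E ⊓ E' :=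
  frat_le_of h.hS h.m₁.le (fun a ha _ hb _ => h.inf_normal (h.m₁.le ha) hb)
    (fun _ ha _ hb => ⟨E.mul_mem (E.mul_mem (E.mul_mem ha hb) (E.inv_mem ha)) (E.inv_mem hb),
      h.m₂.comm_mem (h.m₁.le ha) (h.m₁.le hb)⟩)
    fun a ha => ⟨E.pow_mem ha p, h.m₂.pow_mem (h.m₁.le ha)⟩

theorem invS_inf (h : Pair F p E E') : Inv F S (E ⊓ E') :=
  fun α hα x hx => ⟨h.c₁ α hα x hx.1, h.c₂ α hα x hx.2⟩

/-- An automorphism stabilising `E / Q` and `Q / Φ(E)` is inner: the form used below. -/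
theorem not_trivial_on_inf (h : Pair F p E E') (hinv : Inv F E (E ⊓ E'))
    (hstep : ∀ α ∈ opp F p E, ∀ e ∈ E, e⁻¹ * afun α e ∈ E ⊓ E') {x : Ω} (hx : x ∈ S)
    (hxE : x ∉ E) : ∃ q ∈ E ⊓ E', q⁻¹ * cj x q ∉ frat E := by
  by_contra hcon
  push Not at hcon
  refine hxE (h.m₁.mem_of_conjAut_inn hx (h.m₁.inn_of_two_step h.hS inf_le_left hinv
    (h.m₁.conjAut_mem hx) (fun q hq => ?_)
    fun e he => hstep _ (h.m₁.conjAut_mem_opp h.hS hx) e he))
  rw [h.m₁.afun_conjAut hx hq.1]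
  exact hcon q hq

/-- **T-lemma.** -/
theorem not_inv (h : Pair F p E E') : ¬ InvBy (opp F p E) (E ⊓ E') := by
  classical
  intro hQ
  have hp := (Fact.out : p.Prime)
  have hS := h.hS
  set Q := E ⊓ E'
  have hQE : Q ≤ E := inf_le_left
  have hQS : Q ≤ S := hQE.trans h.m₁.le
  have hQn : ∀ g ∈ S, ∀ q ∈ Q, cj g q ∈ Q := fun g hg q hq => h.inf_normal hg hq
  have hQinv : Inv F E Q := h.m₁.inv_of_opp hS h.hF hQE h.invS_inf hQ
  set L := frat E
  have hLQ : L ≤ Q := h.frat_le_inf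
  have hLn : ∀ g ∈ S, ∀ a ∈ L, cj g a ∈ L := fun g hg a ha =>
    cj_mem_frat h.m₁.le (h.m₁.normal) hg ha
  have hLinv : InvBy (F.autGroup E) L := invBy_frat_self _
  haveI := finite_of_le hQS
  haveI := h.m₁.finite
  have hstep : ∀ α ∈ opp F p E, ∀ e ∈ E, e⁻¹ * afun α e ∈ Q :=
    h.m₁.opp_trivial_step hS hQE le_rfl (fun b hb a ha => hQn b (h.m₁.le hb) a ha) hQ
      (fun α _ x hx => afun_mem α hx) h.card_inf
  obtain ⟨x, hx', hxE⟩ := h.symm.exists_y
  have hxS : x ∈ S := h.m₂.le hx'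
  obtain ⟨q₀, hq₀, hq₀L⟩ := h.not_trivial_on_inf hQinv hstep hxS hxE
  -- the fixed points of `x` on `Q / L`
  have hQ3 : Nat.card Q ≤ p ^ 2 * Nat.card L := by
    have h1 := card_le_frat hS h.rk h.m₁.le
    have hyE : Nat.card E = p * Nat.card Q := by
      refine le_antisymm h.card_inf (mul_card_le_of_lt hS h.m₁.le (lt_of_le_of_ne hQE fun e => ?_))
      obtain ⟨y, hy, hy'⟩ := h.exists_y
      exact hy' (e.ge hy).2
    rw [hyE, pow_succ', mul_assoc] at h1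
    exact Nat.le_of_mul_le_mul_left h1 hp.pos
  have hQL : L < Q := lt_of_le_of_ne hLQ fun e => hq₀L (by
    have h1 : cj x q₀ ∈ L := hLn x hxS q₀ (e.ge hq₀)
    exact L.mul_mem (L.inv_mem (e.ge hq₀)) h1)
  obtain ⟨M, hLM, hMQ, hMn, hMc⟩ := exists_between hS hQL hQS hLn hQn
  have hMQc : Nat.card Q ≤ p * Nat.card M := by
    rw [hMc, ← mul_assoc, ← sq]; exact hQ3
  have hQM : ∀ g ∈ S, ∀ q ∈ Q, cj g q * q⁻¹ ∈ M := fun g hg q hq =>
    step_comm hS hMQ hQS hMn hQn hMQc hg hq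
  have hML : ∀ g ∈ S, ∀ m ∈ M, cj g m * m⁻¹ ∈ L := fun g hg m hm =>
    step_comm hS hLM (hMQ.trans hQS) hLn hMn hMc.le hg hm
  -- the section `Q / L`
  haveI : (L.subgroupOf Q).Normal := ⟨fun a ha q => hLn q (hQS q.2) a ha⟩
  letI : CommGroup (Q ⧸ L.subgroupOf Q) :=
    secComm fun a ha b hb => comm_mem_frat hS h.m₁.le (hQE ha) (hQE hb)
  let r : F.autGroup E →* MulAut (Q ⧸ L.subgroupOf Q) := secHom (F.autGroup E) hQE hQinv hLinv
  have hr : ∀ (α : F.autGroup E) (v w : Q),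
      r α v = w ↔ (afun (α : MulAut E) v)⁻¹ * (w : Ω) ∈ L := fun α v w =>
    quot_eq (resHom (F.autGroup E) hQE hQinv α v) w
  set c := h.m₁.cHom ⟨x, hxS⟩
  have hcv : ∀ v : Q, afun (c : MulAut E) v = cj x v := fun v => h.m₁.afun_cHom _ (hQE v.2)
  have hinn : ∀ α : F.autGroup E, (α : MulAut E) ∈ Inn E → r α = 1 := by
    rintro α ⟨e, he⟩
    refine MulEquiv.ext fun v => ?_
    obtain ⟨v, rfl⟩ := QuotientGroup.mk_surjective v
    rw [MulAut.one_apply, hr]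
    have h1 : afun (α : MulAut E) v = cj (e : Ω) v := by
      rw [← he, afun_apply _ (hQE v.2)]; rfl
    rw [h1]
    have h2 := L.inv_mem (comm_mem_frat hS h.m₁.le e.2 (hQE v.2))
    rw [mul_inv_rev, inv_inv] at h2
    have h3 := hLn _ (S.inv_mem (hQS v.2)) _ h2
    have e3 : cj (v : Ω)⁻¹ ((v : Ω) * (cj (e : Ω) v)⁻¹) = (cj (e : Ω) v)⁻¹ * v := by
      simp only [cj_apply]; group
    rwa [e3] at h3
  have hWcard : Nat.card (Q ⧸ L.subgroupOf Q) ≤ p ^ 2 := by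
    have h1 := Subgroup.card_eq_card_quotient_mul_card_subgroup (L.subgroupOf Q)
    rw [Nat.card_congr (Subgroup.subgroupOfEquivOfLe hLQ).toEquiv] at h1
    haveI := finite_of_le (hLQ.trans hQS)
    refine Nat.le_of_mul_le_mul_right ?_ (Nat.card_pos (α := L))
    rw [← h1]; exact hQ3
  have hWp : ∀ v : Q ⧸ L.subgroupOf Q, v ^ p = 1 :=
    sec_pow fun a ha => pow_mem_frat hS h.m₁.le (hQE ha)
  -- an element of `Q` moved off the fixed points
  have hmove : ∃ (α : F.autGroup E) (v : Q ⧸ L.subgroupOf Q),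
      r c v = v ∧ r c (r α v) ≠ r α v := by
    by_contra hcon
    push Not at hcon
    let R : Subgroup Ω :=
      { carrier := {q | q ∈ Q ∧ q⁻¹ * cj x q ∈ L}
        one_mem' := ⟨Q.one_mem, by simp [cj_apply]⟩
        mul_mem' := fun {a b} ha hb => ⟨Q.mul_mem ha.1 hb.1, by
          have e : (a * b)⁻¹ * cj x (a * b) = cj b⁻¹ (a⁻¹ * cj x a) * (b⁻¹ * cj x b) := by
            simp only [cj_apply]; group
          rw [e]
          exact L.mul_mem (hLn _ (S.inv_mem (hQS hb.1)) _ ha.2) hb.2⟩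
        inv_mem' := fun {a} ha => ⟨Q.inv_mem ha.1, by
          have e : a⁻¹⁻¹ * cj x a⁻¹ = cj a (a⁻¹ * cj x a)⁻¹ := by
            simp only [cj_apply]; group
          rw [e]
          exact hLn _ (hQS ha.1) _ (L.inv_mem ha.2)⟩ }
    have hRQ : R ≤ Q := fun q hq => hq.1
    have hMR : M ≤ R := fun m hm => ⟨hMQ hm, by
      have h1 := hML x hxS m hm
      have e : m⁻¹ * cj x m = cj m⁻¹ (cj x m * m⁻¹) := by simp only [cj_apply]; group
      rw [e]
      exact hLn _ (S.inv_mem (hQS (hMQ hm))) _ h1⟩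
    have hLR : L ≤ R := hLM.trans hMR
    have hRinv : Inv F E R := by
      intro α hα q hq
      refine ⟨hQinv α hα q hq.1, ?_⟩
      have hmem : ∀ v : Q, (v : Ω)⁻¹ * cj x v ∈ L ↔ r c v = v := fun v => by
        rw [hr, hcv]
        exact ⟨fun hh => by simpa using L.inv_mem hh, fun hh => by simpa using L.inv_mem hh⟩
      exact (hmem ⟨_, hQinv α hα q hq.1⟩).2
        (hcon ⟨α, hα⟩ ((⟨q, hq.1⟩ : Q) : Q ⧸ L.subgroupOf Q) ((hmem ⟨q, hq.1⟩).1 hq.2))
    have hRn : ∀ g ∈ S, ∀ q ∈ R, cj g q ∈ R := fun g hg q hq =>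
      h.m₁.cj_mem_of_inv (hRQ.trans hQE) hRinv hg hq
    have hRlt : R < Q := lt_of_le_of_ne hRQ fun e => hq₀L (e.ge hq₀).2
    have hRc := mul_card_le_of_lt hS hQS hRlt
    haveI := finite_of_le (hRQ.trans hQS)
    have hRcard : Nat.card R ≤ p * Nat.card L :=
      Nat.le_of_mul_le_mul_left (hRc.trans (hQ3.trans (by rw [sq, mul_assoc]))) hp.pos
    have hQR : Nat.card Q ≤ p * Nat.card R :=
      hMQc.trans (Nat.mul_le_mul_left _ (Subgroup.card_le_of_le hMR))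
    have hoR : InvBy (opp F p E) R := fun α hα => hRinv α (opp_le F p E hα)
    have s0 := h.m₁.opp_trivial_step hS hLR (hRQ.trans hQE)
      (fun b hb a ha => hLn b (hQS (hRQ hb)) a ha) (fun α hα => hLinv α (opp_le F p E hα)) hoR
      hRcard
    have s1 := h.m₁.opp_trivial_step hS hRQ hQE (fun b hb a ha => hRn b (hQS hb) a ha) hoR hQ hQR
    refine h.m₁.false_of_opp_chain hS h.hF
      (fun i => if i = 0 then L else if i = 1 then R else if i = 2 then Q else E)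
      (n := 3) rfl rfl fun α hα i hi y hy => ?_
    interval_cases i
    · exact s0 α hα y hy
    · exact s1 α hα y hy
    · exact hstep α hα y hy
  obtain ⟨j, hjO, -, -, hjneg, hjcomm⟩ := h.m₁.exists_neg_aut hS h.hF hWp
    (hWcard.trans (Nat.pow_le_pow_right hp.pos (by norm_num))) r hinn hxS hxE (fun v => by
      obtain ⟨v, rfl⟩ := QuotientGroup.mk_surjective v
      have h2 : r c (v : Q ⧸ L.subgroupOf Q) = ((⟨cj x v, hQn x hxS v v.2⟩ : Q) : Q ⧸ L.subgroupOf Q) := by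
        rw [hr, hcv]; simp
      rw [h2, div_eq_mul_inv, ← QuotientGroup.mk_inv, ← QuotientGroup.mk_mul, hr, hcv]
      have h3 := L.inv_mem (hML x hxS _ (hQM x hxS v v.2))
      rw [mul_inv_rev, inv_inv] at h3
      have h4 := hLn _ (S.inv_mem (hQS (hMQ (hQM x hxS v v.2)))) _ h3
      simp only [cj_apply] at h4 ⊢
      simpa [mul_assoc] using h4)
    ⟨((⟨q₀, hq₀⟩ : Q) : Q ⧸ L.subgroupOf Q), fun e => hq₀L (by
      rw [hr, hcv] at e
      simpa using L.inv_mem e)⟩ hmove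
  have hjQ : ∀ q (hq : q ∈ Q), q * afun (j : MulAut E) q ∈ L := by
    intro q hq
    have h1 := hjneg hWcard ((⟨q, hq⟩ : Q) : Q ⧸ L.subgroupOf Q)
    rw [← QuotientGroup.mk_inv, hr] at h1
    simpa using L.inv_mem h1
  -- work in `E / L`
  haveI : (L.subgroupOf E).Normal := ⟨fun a ha e => hLn e (h.m₁.le e.2) a ha⟩
  letI : CommGroup (E ⧸ L.subgroupOf E) :=
    secComm fun a ha b hb => comm_mem_frat hS h.m₁.le ha hb
  let J : MulAut (E ⧸ L.subgroupOf E) := secHom (F.autGroup E) le_rfl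
    (fun α _ y hy => afun_mem α hy) hLinv j
  have hJ : ∀ e : E, J (e : E ⧸ L.subgroupOf E) =
      ((⟨afun (j : MulAut E) e, afun_mem _ e.2⟩ : E) : E ⧸ L.subgroupOf E) := fun e => rfl
  obtain ⟨k, hk⟩ := h.hp
  obtain ⟨y₀, hy₀, hy₀'⟩ := h.exists_y
  set d := y₀⁻¹ * afun (j : MulAut E) y₀
  have hd : d ∈ Q := hstep _ hjO y₀ hy₀
  set y := y₀ * d ^ (k + 1)
  have hyE : y ∈ E := E.mul_mem hy₀ (E.pow_mem (hQE hd) _)
  have hy' : y ∉ E' := fun e => hy₀' (by
    have := E'.mul_mem e (E'.inv_mem (E'.pow_mem hd.2 (k + 1)))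
    rwa [mul_inv_cancel_right] at this)
  have hpW : ∀ v : E ⧸ L.subgroupOf E, v ^ (2 * k + 1) = 1 :=
    hk ▸ sec_pow fun a ha => pow_mem_frat hS h.m₁.le ha
  have hJy : J ((⟨y, hyE⟩ : E) : E ⧸ L.subgroupOf E) = ((⟨y, hyE⟩ : E) : E ⧸ L.subgroupOf E) := by
    set Y₀ : E ⧸ L.subgroupOf E := ((⟨y₀, hy₀⟩ : E) : E ⧸ L.subgroupOf E)
    set Dd : E ⧸ L.subgroupOf E := ((⟨d, hQE hd⟩ : E) : E ⧸ L.subgroupOf E)
    have e1 : J Y₀ = Y₀ * Dd := by
      rw [hJ, ← QuotientGroup.mk_mul]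
      congr 1
      exact Subtype.ext (mul_inv_cancel_left y₀ _).symm
    have e2 : J Dd = Dd⁻¹ := by
      rw [hJ, ← QuotientGroup.mk_inv, quot_eq]
      have := L.inv_mem (hjQ d hd)
      simpa using this
    have e3 : ((⟨y, hyE⟩ : E) : E ⧸ L.subgroupOf E) = Y₀ * Dd ^ (k + 1) := by
      rw [← QuotientGroup.mk_pow, ← QuotientGroup.mk_mul]; rfl
    rw [e3, map_mul, map_pow, e1, e2, inv_pow]
    have e4 : Dd * (Dd ^ (k + 1))⁻¹ = Dd ^ (k + 1) := by
      rw [mul_inv_eq_iff_eq_mul, ← pow_add, show k + 1 + (k + 1) = (2 * k + 1) + 1 by ring,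
        pow_succ, hpW, one_mul]
    rw [mul_assoc, e4]
  -- `x` fixes `y` modulo `L`
  have hxy : y⁻¹ * cj x y ∈ L := by
    have hinner : (j : MulAut E) * h.m₁.conjAut hxS * (j : MulAut E)⁻¹ * (h.m₁.conjAut hxS)⁻¹ ∈
        Inn E := by
      have hopp : (j : MulAut E) * h.m₁.conjAut hxS * (j : MulAut E)⁻¹ * (h.m₁.conjAut hxS)⁻¹ ∈
          opp F p E :=
        mul_mem (h.m₁.opp_conj j.2 (h.m₁.conjAut_mem_opp hS hxS))
          (inv_mem (h.m₁.conjAut_mem_opp hS hxS))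
      refine h.m₁.inn_of_two_step hS hQE hQinv (opp_le F p E hopp) (fun q hq => ?_)
        fun e he => hstep _ hopp e he
      have h1 : r (j * c * j⁻¹ * c⁻¹) ((⟨q, hq⟩ : Q) : Q ⧸ L.subgroupOf Q) =
          ((⟨q, hq⟩ : Q) : Q ⧸ L.subgroupOf Q) := by
        have h2 : r (j * c * j⁻¹ * c⁻¹) = 1 := by
          rw [map_mul, map_mul, map_mul, map_inv, map_inv, (hjcomm ⟨x, hxS⟩).eq,
            mul_inv_cancel_right, mul_inv_cancel]
        rw [h2, MulAut.one_apply]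
      rw [hr] at h1
      have h2 := L.inv_mem h1
      rwa [mul_inv_rev, inv_inv] at h2
    obtain ⟨e₀, he₀⟩ := hinner
    have hu : y⁻¹ * cj x y ∈ Q := by
      have := hstep _ (h.m₁.conjAut_mem_opp hS hxS) y hyE
      rwa [h.m₁.afun_conjAut hxS hyE] at this
    set X : E ⧸ L.subgroupOf E :=
      ((⟨cj x y, h.m₁.normal x hxS y hyE⟩ : E) : E ⧸ L.subgroupOf E)
    set Yy : E ⧸ L.subgroupOf E := ((⟨y, hyE⟩ : E) : E ⧸ L.subgroupOf E)
    have hJX : J X = X := by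
      rw [hJ, quot_eq]
      show (afun (j : MulAut E) (cj x y))⁻¹ * cj x y ∈ L
      have e1 : (j : MulAut E) * h.m₁.conjAut hxS = MulAut.conj e₀ * h.m₁.conjAut hxS * (j : MulAut E) := by
        rw [he₀]; group
      have e2 : afun (j : MulAut E) (cj x y) =
          cj (e₀ : Ω) (cj x (afun (j : MulAut E) y)) := by
        have e3 : afun ((j : MulAut E) * h.m₁.conjAut hxS) y =
            afun (MulAut.conj e₀ * h.m₁.conjAut hxS * (j : MulAut E)) y := by rw [e1]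
        rw [afun_mul _ _ hyE, afun_mul _ _ hyE, afun_mul _ _ (afun_mem _ hyE),
          h.m₁.afun_conjAut _ hyE, h.m₁.afun_conjAut _ (afun_mem _ hyE),
          afun_apply _ (h.m₁.normal x hxS _ (afun_mem _ hyE))] at e3
        exact e3
      rw [e2]
      have hm : (afun (j : MulAut E) y)⁻¹ * y ∈ L := by
        rw [hJ, quot_eq] at hJy; exact hJy
      have hm' := hLn x hxS _ hm
      have hm'' := comm_mem_frat hS h.m₁.le e₀.2 (h.m₁.normal x hxS _ (afun_mem (j : MulAut E) hyE))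
      have e4 : (cj (e₀ : Ω) (cj x (afun (j : MulAut E) y)))⁻¹ * cj x y =
          cj (cj x (afun (j : MulAut E) y))⁻¹
            ((cj (e₀ : Ω) (cj x (afun (j : MulAut E) y)) * (cj x (afun (j : MulAut E) y))⁻¹)⁻¹) *
          cj x ((afun (j : MulAut E) y)⁻¹ * y) := by
        simp only [cj_apply]; group
      rw [e4]
      exact L.mul_mem (hLn _ (S.inv_mem (cj_mem_S hxS (h.m₁.le (afun_mem _ hyE)))) _
        (L.inv_mem hm'')) hm'
    have h5 : (Yy⁻¹ * X) ^ 2 = 1 := by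
      have h6 : J (Yy⁻¹ * X) = Yy⁻¹ * X := by rw [map_mul, map_inv, hJy, hJX]
      have h7 : J (Yy⁻¹ * X) = (Yy⁻¹ * X)⁻¹ := by
        have e : Yy⁻¹ * X = ((⟨y⁻¹ * cj x y, hQE hu⟩ : E) : E ⧸ L.subgroupOf E) := by
          rw [← QuotientGroup.mk_inv, ← QuotientGroup.mk_mul]; rfl
        rw [e, hJ, ← QuotientGroup.mk_inv, quot_eq]
        have := L.inv_mem (hjQ _ hu)
        simpa [mul_assoc] using this
      rw [sq]
      conv_lhs => rw [← h6, h7]
      rw [h7] at h6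
      conv_lhs => arg 2; rw [h6.symm]
      exact mul_inv_cancel _
    have h8 : Yy⁻¹ * X = 1 := by
      have := hpW (Yy⁻¹ * X)
      rwa [pow_succ, pow_mul, h5, one_pow, one_mul] at this
    rw [inv_mul_eq_one, quot_eq] at h8
    exact h8
  -- the layer `L / Φ(Q)`
  set D := frat Q
  have hDQ : D ≤ Q := frat_le Q
  have hDn : ∀ g ∈ S, ∀ a ∈ D, cj g a ∈ D := fun g hg a ha => cj_mem_frat hQS hQn hg ha
  have hDL : D ≤ L := frat_le_of hS hQS (fun a ha b hb _ => hLn a (hQS ha) b hb)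
    (fun a ha b hb => comm_mem_frat hS h.m₁.le (hQE ha) (hQE hb))
    fun a ha => pow_mem_frat hS h.m₁.le (hQE ha)
  have hDinv : InvBy (F.autGroup E) D := invBy_frat hQE hQinv
  have hLD : Nat.card L ≤ p * Nat.card D := by
    have h1 := mul_card_le_of_lt hS hQS (lt_of_le_of_ne hMQ fun e => hq₀L (by
      have h2 := hML x hxS q₀ (e.ge hq₀)
      have e2 : q₀⁻¹ * cj x q₀ = cj q₀⁻¹ (cj x q₀ * q₀⁻¹) := by simp only [cj_apply]; group
      rw [e2]
      exact hLn _ (S.inv_mem (hQS hq₀)) _ h2))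
    rw [hMc, ← mul_assoc, ← sq] at h1
    have h2 := h1.trans (card_le_frat hS h.rk hQS)
    rw [pow_succ p 2, mul_assoc] at h2
    exact Nat.le_of_mul_le_mul_left h2 (pow_pos hp.pos 2)
  have hLD' : ∀ g ∈ S, ∀ l ∈ L, cj g l * l⁻¹ ∈ D := fun g hg l hl =>
    step_comm hS hDL (hLQ.trans hQS) hDn hLn hLD hg hl
  have hQD : ∀ a ∈ Q, ∀ b ∈ Q, cj a b * b⁻¹ ∈ D := fun a ha b hb =>
    comm_mem_frat hS hQS ha hb
  -- `[E, Q] ≤ D`
  have hEQ : ∀ e ∈ E, ∀ q ∈ Q, cj e q * q⁻¹ ∈ D := by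
    let R : Subgroup Ω :=
      { carrier := {q | q ∈ Q ∧ ∀ e ∈ E, cj e q * q⁻¹ ∈ D}
        one_mem' := ⟨Q.one_mem, fun e _ => by simp [cj_apply]⟩
        mul_mem' := fun {a b} ha hb => ⟨Q.mul_mem ha.1 hb.1, fun e he => by
          have e2 : cj e (a * b) * (a * b)⁻¹ = cj e a * a⁻¹ * cj a (cj e b * b⁻¹) := by
            simp only [cj_apply]; group
          rw [e2]
          exact D.mul_mem (ha.2 e he) (hDn _ (hQS ha.1) _ (hb.2 e he))⟩
        inv_mem' := fun {a} ha => ⟨Q.inv_mem ha.1, fun e he => by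
          have e2 : cj e a⁻¹ * a⁻¹⁻¹ = cj a⁻¹ (cj e a * a⁻¹)⁻¹ := by
            simp only [cj_apply]; group
          rw [e2]
          exact hDn _ (S.inv_mem (hQS ha.1)) _ (D.inv_mem (ha.2 e he))⟩ }
    have hRQ : R ≤ Q := fun q hq => hq.1
    have hLR : L ≤ R := fun l hl => ⟨hLQ hl, fun e he => hLD' e (h.m₁.le he) l hl⟩
    have hRinv : Inv F E R := by
      intro α hα q hq
      refine ⟨hQinv α hα q hq.1, fun e he => ?_⟩
      have he' := afun_mem α⁻¹ he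
      have h1 := hDinv α hα _ (hq.2 _ he')
      have hcjE : cj (afun α⁻¹ e) q ∈ E := h.m₁.normal _ (h.m₁.le he') _ (hQE hq.1)
      rw [afun_map_mul α hcjE (E.inv_mem (hQE hq.1)),
        ((mem_autGroup h.m₁.le).1 hα).map_cj he' (hQE hq.1), afun_apply_inv α he,
        ((mem_autGroup h.m₁.le).1 hα).map_inv (hQE hq.1)] at h1
      exact h1
    -- `R` has index at most `p`
    haveI : (D.subgroupOf L).Normal := ⟨fun a ha l => hDn l (hQS (hLQ l.2)) a ha⟩
    let ψ : Q →* L ⧸ D.subgroupOf L :=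
      { toFun := fun q => ((⟨cj y q * (q : Ω)⁻¹, comm_mem_frat hS h.m₁.le hyE (hQE q.2)⟩ : L) :
          L ⧸ D.subgroupOf L)
        map_one' := by
          rw [QuotientGroup.eq_one_iff]
          show cj y ((1 : Q) : Ω) * ((1 : Q) : Ω)⁻¹ ∈ D
          simp [cj_apply]
        map_mul' := fun a b => by
          rw [← QuotientGroup.mk_mul, quot_eq]
          show (cj y ((a : Ω) * b) * ((a : Ω) * b)⁻¹)⁻¹ *
            (cj y a * (a : Ω)⁻¹ * (cj y b * (b : Ω)⁻¹)) ∈ D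
          set w := cj y b * (b : Ω)⁻¹
          have hw : w ∈ L := comm_mem_frat hS h.m₁.le hyE (hQE b.2)
          have e2 : (cj y ((a : Ω) * b) * ((a : Ω) * b)⁻¹)⁻¹ * (cj y a * (a : Ω)⁻¹ * w) =
              (cj (a : Ω) w)⁻¹ * w := by
            simp only [w, cj_apply]; group
          rw [e2]
          have h1 := D.inv_mem (hLD' a (hQS a.2) w hw)
          rw [mul_inv_rev, inv_inv] at h1
          have h2 := hDn w⁻¹ (S.inv_mem (hQS (hLQ hw))) _ h1
          have e3 : cj w⁻¹ (w * (cj (a : Ω) w)⁻¹) = (cj (a : Ω) w)⁻¹ * w := by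
            simp only [cj_apply]; group
          rwa [e3] at h2 }
    have hker : ∀ q : Q, q ∈ ψ.ker → (q : Ω) ∈ R := by
      intro q hq
      refine ⟨q.2, fun e he => ?_⟩
      rw [MonoidHom.mem_ker] at hq
      have hyq : cj y (q : Ω) * (q : Ω)⁻¹ ∈ D :=
        ((QuotientGroup.eq_one_iff (N := D.subgroupOf L)
          (⟨cj y q * (q : Ω)⁻¹, comm_mem_frat hS h.m₁.le hyE (hQE q.2)⟩ : L)).1 hq :)
      let C : Subgroup Ω :=
        { carrier := {e | e ∈ S ∧ cj e (q : Ω) * (q : Ω)⁻¹ ∈ D}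
          one_mem' := ⟨S.one_mem, by simp [cj_apply]⟩
          mul_mem' := fun {a b} ha hb => ⟨S.mul_mem ha.1 hb.1, by
            have e2 : cj (a * b) (q : Ω) * (q : Ω)⁻¹ =
                cj a (cj b (q : Ω) * (q : Ω)⁻¹) * (cj a (q : Ω) * (q : Ω)⁻¹) := by
              simp only [cj_apply]; group
            rw [e2]
            exact D.mul_mem (hDn _ ha.1 _ hb.2) ha.2⟩
          inv_mem' := fun {a} ha => ⟨S.inv_mem ha.1, by
            have e2 : cj a⁻¹ (q : Ω) * (q : Ω)⁻¹ = (cj a⁻¹ (cj a (q : Ω) * (q : Ω)⁻¹))⁻¹ := by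
              simp only [cj_apply]; group
            rw [e2]
            exact D.inv_mem (hDn _ (S.inv_mem ha.1) _ ha.2)⟩ }
      obtain ⟨a, ha, i, rfl⟩ := h.m₂.exists_eq_mul (h.m₁.le hyE) hy' (h.m₁.le he)
      have haE : a ∈ E := by
        have := E.mul_mem he (E.inv_mem (E.zpow_mem hyE i))
        rwa [mul_inv_cancel_right] at this
      exact (C.mul_mem (show a ∈ C from ⟨h.m₂.le ha, hQD a ⟨haE, ha⟩ q q.2⟩)
        (C.zpow_mem (show y ∈ C from ⟨h.m₁.le hyE, hyq⟩) i)).2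
    have hRcard : Nat.card Q ≤ p * Nat.card R := by
      rw [← ψ.ker.card_mul_index, Subgroup.index_ker, mul_comm]
      haveI := finite_of_le (hLQ.trans hQS)
      haveI := finite_of_le (hRQ.trans hQS)
      refine Nat.mul_le_mul ((Nat.card_le_card_of_injective _ Subtype.val_injective).trans ?_)
        (Nat.card_le_card_of_injective (fun q : ψ.ker => (⟨((q : Q) : Ω), hker q q.2⟩ : R))
          fun a b e => Subtype.ext (Subtype.ext (congrArg (fun r : R => (r : Ω)) e)))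
      have h1 := Subgroup.card_eq_card_quotient_mul_card_subgroup (D.subgroupOf L)
      rw [Nat.card_congr (Subgroup.subgroupOfEquivOfLe hDL).toEquiv] at h1
      haveI := finite_of_le (hDQ.trans hQS)
      exact Nat.le_of_mul_le_mul_right (h1 ▸ hLD) (Nat.card_pos (α := D))
    by_cases hRQ' : Q ≤ R
    · exact fun e he q hq => (hRQ' hq).2 e he
    exfalso
    have hRlt : R < Q := lt_of_le_not_ge hRQ hRQ'
    have hRc := mul_card_le_of_lt hS hQS hRlt
    have hRcard' : Nat.card R ≤ p * Nat.card L :=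
      Nat.le_of_mul_le_mul_left (hRc.trans (hQ3.trans (by rw [sq, mul_assoc]))) hp.pos
    have hRn : ∀ g ∈ S, ∀ q ∈ R, cj g q ∈ R := fun g hg q hq =>
      h.m₁.cj_mem_of_inv (hRQ.trans hQE) hRinv hg hq
    have hoR : InvBy (opp F p E) R := fun α hα => hRinv α (opp_le F p E hα)
    have s0 := h.m₁.opp_trivial_step hS hLR (hRQ.trans hQE)
      (fun b hb a ha => hLn b (hQS (hRQ hb)) a ha) (fun α hα => hLinv α (opp_le F p E hα)) hoR
      hRcard'
    have s1 := h.m₁.opp_trivial_step hS hRQ hQE (fun b hb a ha => hRn b (hQS hb) a ha) hoR hQ hRcard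
    refine h.m₁.false_of_opp_chain hS h.hF
      (fun i => if i = 0 then L else if i = 1 then R else if i = 2 then Q else E)
      (n := 3) rfl rfl fun α hα i hi y hy => ?_
    interval_cases i
    · exact s0 α hα y hy
    · exact s1 α hα y hy
    · exact hstep α hα y hy
  -- `L = D ⟨y ^ p⟩`
  set dy := y ^ p
  have hdyQ : dy ∈ Q := hLQ (pow_mem_frat hS h.m₁.le hyE)
  set L₀ := D ⊔ Subgroup.zpowers dy
  have hnormD : Subgroup.zpowers dy ≤ Subgroup.normalizer (D : Set Ω) :=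
    Subgroup.zpowers_le.2 (mem_normalizer_of_cj_le (hDQ.trans hQS)
      fun a ha => hDn _ (hQS hdyQ) a ha)
  have hmemL₀ : ∀ z, z ∈ L₀ ↔ ∃ a ∈ D, ∃ i : ℤ, a * dy ^ i = z := fun z => by
    rw [← SetLike.mem_coe, Subgroup.coe_mul_of_right_le_normalizer_left _ _ hnormD]
    exact ⟨fun ⟨a, ha, b, ⟨i, hi⟩, hab⟩ => ⟨a, ha, i, by simp only at hi; rw [hi]; exact hab⟩,
      fun ⟨a, ha, i, hi⟩ => ⟨a, ha, _, ⟨i, rfl⟩, hi⟩⟩
  have hLL₀ : L ≤ L₀ := by
    refine frat_le_of hS h.m₁.le (fun a ha b hb hbE => ?_) ?_ ?_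
    · obtain ⟨d', hd', i, rfl⟩ := (hmemL₀ b).1 hb
      have e2 : cj a (d' * dy ^ i) =
          cj a d' * (cj a (dy ^ i) * (dy ^ i)⁻¹) * dy ^ i := by simp only [cj_apply]; group
      rw [e2]
      exact (hmemL₀ _).2 ⟨_, D.mul_mem (hDn _ (h.m₁.le ha) _ hd')
        (hEQ a ha _ (Q.zpow_mem hdyQ i)), i, rfl⟩
    all_goals
      have hgen : ∀ e ∈ E, ∃ a ∈ Q, ∃ i : ℤ, e = a * y ^ i := fun e he => by
        obtain ⟨a, ha, i, rfl⟩ := h.m₂.exists_eq_mul (h.m₁.le hyE) hy' (h.m₁.le he)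
        have haE : a ∈ E := by
          have := E.mul_mem he (E.inv_mem (E.zpow_mem hyE i))
          rwa [mul_inv_cancel_right] at this
        exact ⟨a, ⟨haE, ha⟩, i, rfl⟩
    · intro a ha b hb
      obtain ⟨q₁, hq₁, i, rfl⟩ := hgen a ha
      obtain ⟨q₂, hq₂, l, rfl⟩ := hgen b hb
      refine Subgroup.mem_sup_left ?_
      let yi := y ^ i
      let yl := y ^ l
      have hyi : yi ∈ E := E.zpow_mem hyE i
      have hyl : yl ∈ E := E.zpow_mem hyE l
      have e3 : cj (q₁ * yi) (q₂ * yl) * (q₂ * yl)⁻¹ =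
          cj (q₁ * yi) q₂ * q₂⁻¹ * cj q₂ (cj q₁ (yi * yl * yi⁻¹) * yl⁻¹) := by
        simp only [cj_apply]; group
      rw [e3]
      have e4 : yi * yl * yi⁻¹ = yl := by
        simp only [yi, yl, ← zpow_add, add_comm i l, ← zpow_neg, ← zpow_add]
        rw [show l + i + -i = l by ring]
      rw [e4]
      refine D.mul_mem (hEQ _ ha q₂ hq₂) (hDn _ (hQS hq₂) _ ?_)
      have h9 := D.inv_mem (hEQ yl hyl q₁ hq₁)
      have e5 : cj q₁ yl * yl⁻¹ = (cj yl q₁ * q₁⁻¹)⁻¹ := by simp only [cj_apply]; group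
      rw [e5]
      exact h9
    · intro a ha
      obtain ⟨q₁, hq₁, i, rfl⟩ := hgen a ha
      have hyi : y ^ i ∈ E := E.zpow_mem hyE i
      -- in `E / D`
      haveI : (D.subgroupOf E).Normal := ⟨fun b hb e => hDn e (h.m₁.le e.2) b hb⟩
      set A₁ : E ⧸ D.subgroupOf E := ((⟨q₁, hQE hq₁⟩ : E) : E ⧸ D.subgroupOf E)
      set B₁ : E ⧸ D.subgroupOf E := ((⟨y ^ i, hyi⟩ : E) : E ⧸ D.subgroupOf E)
      have hcomm : Commute A₁ B₁ := by
        show A₁ * B₁ = B₁ * A₁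
        rw [← QuotientGroup.mk_mul, ← QuotientGroup.mk_mul, quot_eq]
        have h9 := hDn q₁⁻¹ (S.inv_mem (hQS hq₁)) _ (hEQ _ hyi q₁ hq₁)
        have h10 := hDn (y ^ i)⁻¹ (S.inv_mem (h.m₁.le hyi)) _ h9
        simp only [cj_apply] at h10
        simpa [mul_assoc] using h10
      have hA₁ : A₁ ^ p = 1 := by
        rw [← QuotientGroup.mk_pow, QuotientGroup.eq_one_iff]
        exact pow_mem_frat hS hQS hq₁
      have h11 : (A₁ * B₁) ^ p = B₁ ^ p := by rw [hcomm.mul_pow, hA₁, one_mul]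
      rw [← QuotientGroup.mk_mul, ← QuotientGroup.mk_pow, ← QuotientGroup.mk_pow, quot_eq] at h11
      have h12 : ((q₁ * y ^ i) ^ p)⁻¹ * (y ^ i) ^ p ∈ D := h11
      have h13 : (y ^ i) ^ p ∈ Subgroup.zpowers dy :=
        ⟨i, show dy ^ i = (y ^ i) ^ p by
          rw [← zpow_natCast (y ^ i), ← zpow_mul, mul_comm, zpow_mul, zpow_natCast]⟩
      have := L₀.mul_mem (Subgroup.mem_sup_right h13) (L₀.inv_mem (Subgroup.mem_sup_left h12))
      rwa [mul_inv_rev, inv_inv, mul_inv_cancel_left] at this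
  obtain ⟨d', hd', i, hdi⟩ := (hmemL₀ _).1 (hLL₀ hxy)
  -- the section `E' / Φ(E')`
  set L' := frat E'
  have hL'n : ∀ g ∈ S, ∀ a ∈ L', cj g a ∈ L' := fun g hg a ha =>
    cj_mem_frat h.m₂.le (h.m₂.normal) hg ha
  have hQE' : Q ≤ E' := inf_le_right
  have hDL' : D ≤ L' := frat_le_of hS hQS (fun a ha b hb _ => hL'n a (hQS ha) b hb)
    (fun a ha b hb => comm_mem_frat hS h.m₂.le (hQE' ha) (hQE' hb))
    fun a ha => pow_mem_frat hS h.m₂.le (hQE' ha)
  haveI : (L'.subgroupOf E').Normal := ⟨fun a ha e => hL'n e (h.m₂.le e.2) a ha⟩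
  letI : CommGroup (E' ⧸ L'.subgroupOf E') :=
    secComm fun a ha b hb => comm_mem_frat hS h.m₂.le ha hb
  let r' : F.autGroup E' →* MulAut (E' ⧸ L'.subgroupOf E') := secHom (F.autGroup E') le_rfl
    (fun α _ z hz => afun_mem α hz) (invBy_frat_self _)
  have hr' : ∀ (α : F.autGroup E') (v w : E'),
      r' α v = w ↔ (afun (α : MulAut E') v)⁻¹ * (w : Ω) ∈ L' := fun α v w =>
    quot_eq (resHom (F.autGroup E') le_rfl (fun α _ z hz => afun_mem α hz) α v) w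
  set c' := h.m₂.cHom ⟨y, h.m₁.le hyE⟩
  have hc'v : ∀ v : E', afun (c' : MulAut E') v = cj y v := fun v => h.m₂.afun_cHom _ v.2
  have hfix' : ∀ v : E', r' c' v = v ↔ (v : Ω)⁻¹ * cj y v ∈ L' := fun v => by
    rw [hr', hc'v]
    exact ⟨fun hh => by simpa using L'.inv_mem hh, fun hh => by simpa using L'.inv_mem hh⟩
  have hQfix : ∀ q (hq : q ∈ Q), r' c' ((⟨q, hQE' hq⟩ : E') : E' ⧸ L'.subgroupOf E') =
      ((⟨q, hQE' hq⟩ : E') : E' ⧸ L'.subgroupOf E') := fun q hq => by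
    rw [hfix']
    have h1 := hL'n q⁻¹ (S.inv_mem (hQS hq)) _ (hDL' (hEQ y hyE q hq))
    simp only [cj_apply] at h1 ⊢
    simpa [mul_assoc] using h1
  have hxgen : ∀ v : (E' ⧸ L'.subgroupOf E'), ∃ q, ∃ hq : q ∈ Q, ∃ n : ℤ,
      v = ((⟨q, hQE' hq⟩ : E') : (E' ⧸ L'.subgroupOf E')) * ((⟨x, hx'⟩ : E') : (E' ⧸ L'.subgroupOf E')) ^ n := by
    intro v
    obtain ⟨v, rfl⟩ := QuotientGroup.mk_surjective v
    obtain ⟨a, ha, n, hn⟩ := h.m₁.exists_eq_mul hxS hxE (h.m₂.le v.2)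
    have ha' : a ∈ E' := by
      have := E'.mul_mem v.2 (E'.inv_mem (E'.zpow_mem hx' n))
      rwa [hn, mul_inv_cancel_right] at this
    refine ⟨a, ⟨ha, ha'⟩, n, ?_⟩
    rw [← QuotientGroup.mk_zpow, ← QuotientGroup.mk_mul]
    congr 1
    exact Subtype.ext hn
  set Dy : (E' ⧸ L'.subgroupOf E') := ((⟨dy ^ i, hQE' (Q.zpow_mem hdyQ i)⟩ : E') : (E' ⧸ L'.subgroupOf E'))
  have hcx : r' c' ((⟨x, hx'⟩ : E') : (E' ⧸ L'.subgroupOf E')) = Dy⁻¹ * ((⟨x, hx'⟩ : E') : (E' ⧸ L'.subgroupOf E')) := by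
    rw [← QuotientGroup.mk_inv, ← QuotientGroup.mk_mul, hr', hc'v]
    show (cj y x)⁻¹ * ((dy ^ i)⁻¹ * x) ∈ L'
    have e1 : cj y x = (y * (y⁻¹ * cj x y) * y⁻¹)⁻¹ * x := by simp only [cj_apply]; group
    have e2 : y * (d' * dy ^ i) * y⁻¹ = cj y d' * dy ^ i := by
      have : y⁻¹ * dy ^ i = dy ^ i * y⁻¹ :=
        (((Commute.refl y).pow_right p).zpow_right i).inv_left
      simp only [cj_apply, mul_assoc, this]
    rw [e1, ← hdi, e2, mul_inv_rev, inv_inv]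
    have h1 := hL'n x⁻¹ (S.inv_mem hxS) _ (hDL' (hDn y (h.m₁.le hyE) _ hd'))
    simp only [cj_apply] at h1 ⊢
    simpa [mul_assoc] using h1
  have hDyfix : r' c' Dy = Dy := hQfix _ (Q.zpow_mem hdyQ i)
  have hcne : Dy ≠ 1 := by
    intro hD1
    have htriv : ∀ v : (E' ⧸ L'.subgroupOf E'), r' c' v = v := fun v => by
      obtain ⟨q, hq, n, rfl⟩ := hxgen v
      rw [map_mul, map_zpow, hQfix q hq, hcx, hD1, inv_one, one_mul]
    refine hy' (h.m₂.mem_of_conjAut_inn (h.m₁.le hyE) ?_)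
    refine FusionEssential88.mem_inn_of_trivial hS h.m₂.ess (h.m₂.conjAut_mem _) fun z => ?_
    have := (hfix' z).1 (htriv z)
    rw [← h.m₂.afun_conjAut (h.m₁.le hyE) z.2, afun_coe] at this
    rw [← frat_subgroupOf E', Subgroup.mem_subgroupOf, Subgroup.coe_mul]
    exact this
  have hcdiv : ∀ v : (E' ⧸ L'.subgroupOf E'), ∃ n : ℤ, r' c' v / v = Dy ^ n := fun v => by
    obtain ⟨q, hq, n, rfl⟩ := hxgen v
    refine ⟨-n, ?_⟩
    rw [map_mul, map_zpow, hQfix q hq, hcx, mul_zpow, inv_zpow, zpow_neg, div_eq_iff_eq_mul]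
    ac_rfl
  have hV'card : Nat.card (E' ⧸ L'.subgroupOf E') ≤ p ^ 3 := by
    have h1 := Subgroup.card_eq_card_quotient_mul_card_subgroup (L'.subgroupOf E')
    rw [Nat.card_congr (Subgroup.subgroupOfEquivOfLe (frat_le E')).toEquiv] at h1
    haveI := finite_of_le ((frat_le E').trans h.m₂.le)
    exact Nat.le_of_mul_le_mul_right (h1 ▸ card_le_frat hS h.rk h.m₂.le) (Nat.card_pos (α := L'))
  haveI := h.m₂.finite
  have hinn' : ∀ α : F.autGroup E', (α : MulAut E') ∈ Inn E' → r' α = 1 := by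
    rintro α ⟨e, he⟩
    refine MulEquiv.ext fun v => ?_
    obtain ⟨v, rfl⟩ := QuotientGroup.mk_surjective v
    rw [MulAut.one_apply, hr']
    have h1 : afun (α : MulAut E') v = cj (e : Ω) v := by
      rw [← he, afun_apply _ v.2]; rfl
    rw [h1]
    have h2 := L'.inv_mem (comm_mem_frat hS h.m₂.le e.2 v.2)
    rw [mul_inv_rev, inv_inv] at h2
    have h3 := hL'n _ (S.inv_mem (h.m₂.le v.2)) _ h2
    have e3 : cj (v : Ω)⁻¹ ((v : Ω) * (cj (e : Ω) v)⁻¹) = (cj (e : Ω) v)⁻¹ * v := by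
      simp only [cj_apply]; group
    rwa [e3] at h3
  have hmove' : ∃ (α : F.autGroup E') (v : (E' ⧸ L'.subgroupOf E')), r' c' v = v ∧ r' c' (r' α v) ≠ r' α v := by
    by_contra hcon
    push Not at hcon
    have hQ' : InvBy (opp F p E') Q := by
      intro α hα q hq
      have hqα := afun_mem α (hQE' hq)
      by_contra hnQ
      have hnE : afun α q ∉ E := fun e => hnQ ⟨e, hqα⟩
      have hfα := hcon ⟨α, opp_le F p E' hα⟩ _ (hQfix q hq)
      have hzfix : (afun α q)⁻¹ * cj y (afun α q) ∈ L' :=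
        (hfix' ⟨afun α q, hqα⟩).1 hfα
      refine hcne ?_
      -- `x` is a product of an element of `Q` and a power of `afun α q`
      obtain ⟨a, ha, n, hn⟩ := h.m₁.exists_eq_mul (h.m₂.le hqα) hnE hxS
      have ha' : a ∈ E' := by
        have := E'.mul_mem hx' (E'.inv_mem (E'.zpow_mem hqα n))
        rwa [hn, mul_inv_cancel_right] at this
      have hx1 : r' c' ((⟨x, hx'⟩ : E') : (E' ⧸ L'.subgroupOf E')) = ((⟨x, hx'⟩ : E') : (E' ⧸ L'.subgroupOf E')) := by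
        rw [show (⟨x, hx'⟩ : E') = ⟨a, ha'⟩ * ⟨afun α q, hqα⟩ ^ n from Subtype.ext hn,
          QuotientGroup.mk_mul, QuotientGroup.mk_zpow, map_mul, map_zpow, hQfix a ⟨ha, ha'⟩,
          (hfix' ⟨afun α q, hqα⟩).2 hzfix]
      rw [hcx] at hx1
      exact inv_eq_one.1 (mul_eq_right.1 hx1)
    have hQinv' : Inv F E' Q := h.m₂.inv_of_opp hS h.hF hQE' h.invS_inf hQ'
    refine hy' (h.m₂.mem_of_conjAut_inn (h.m₁.le hyE) (h.m₂.inn_of_two_step hS hQE' hQinv'
      (h.m₂.conjAut_mem _) (fun q hq => ?_) fun e he => ?_))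
    · rw [h.m₂.afun_conjAut (h.m₁.le hyE) (hQE' hq)]
      exact (hfix' ⟨q, hQE' hq⟩).1 (hQfix q hq)
    · rw [h.m₂.afun_conjAut (h.m₁.le hyE) he]
      exact ⟨by
        have e1 : e⁻¹ * cj y e = cj e⁻¹ y * y⁻¹ := by simp only [cj_apply]; group
        rw [e1]
        exact E.mul_mem (h.m₁.normal _ (S.inv_mem (h.m₂.le he)) y hyE) (E.inv_mem hyE),
        E'.mul_mem (E'.inv_mem he) (h.m₂.normal y (h.m₁.le hyE) e he)⟩
  obtain ⟨j', -, -, hj'inv, -, hj'comm⟩ := h.m₂.exists_neg_aut hS h.hF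
    (sec_pow fun a ha => pow_mem_frat hS h.m₂.le ha) hV'card r' hinn' (h.m₁.le hyE) hy'
    (fun v => by
      obtain ⟨n, hn⟩ := hcdiv v
      rw [hn, map_zpow, hDyfix])
    ⟨((⟨x, hx'⟩ : E') : (E' ⧸ L'.subgroupOf E')), fun e => hcne (by
      rw [hcx] at e; exact inv_eq_one.1 (mul_eq_right.1 e))⟩ hmove'
  have hj'D : r' j' Dy = Dy⁻¹ := by
    have h1 := hj'inv ((⟨x, hx'⟩ : E') : (E' ⧸ L'.subgroupOf E'))
    rw [hcx, mul_div_cancel_right, map_inv, inv_inj] at h1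
    exact h1
  -- extend `j'` to `S`
  obtain ⟨δ, hδ, hδj, hδE'⟩ := h.m₂.exists_ext hS h.hF j'.2 (fun g hg => by
    have hcm : (j' : MulAut E') * h.m₂.conjAut hg * (j' : MulAut E')⁻¹ * (h.m₂.conjAut hg)⁻¹ ∈
        F.autGroup E' :=
      mul_mem (mul_mem (mul_mem j'.2 (h.m₂.conjAut_mem hg)) (inv_mem j'.2))
        (inv_mem (h.m₂.conjAut_mem hg))
    refine FusionEssential88.mem_inn_of_trivial hS h.m₂.ess hcm fun z => ?_
    have h1 : r' (j' * h.m₂.cHom ⟨g, hg⟩ * j'⁻¹ * (h.m₂.cHom ⟨g, hg⟩)⁻¹) = 1 := by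
      rw [map_mul, map_mul, map_mul, map_inv, map_inv, (hj'comm ⟨g, hg⟩).eq,
        mul_inv_cancel_right, mul_inv_cancel]
    have h2 : r' (j' * h.m₂.cHom ⟨g, hg⟩ * j'⁻¹ * (h.m₂.cHom ⟨g, hg⟩)⁻¹) (z : (E' ⧸ L'.subgroupOf E')) = (z : (E' ⧸ L'.subgroupOf E')) := by
      rw [h1, MulAut.one_apply]
    rw [hr'] at h2
    rw [← frat_subgroupOf E', Subgroup.mem_subgroupOf, Subgroup.coe_mul]
    have h3 := L'.inv_mem h2
    rw [mul_inv_rev, inv_inv] at h3
    rw [← afun_coe]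
    exact h3)
  -- `δ` fixes `y ^ p` modulo `L'`
  have hyS : y ∈ S := h.m₁.le hyE
  set e' := y⁻¹ * afun δ y
  have he' : e' ∈ E' := hδE' y hyS
  have hδy : afun δ dy = (y * e') ^ p := by
    rw [mul_inv_cancel_left]
    exact afun_npow' δ hyS p
  have hfixdy : afun δ (dy ^ i) * (dy ^ i)⁻¹ ∈ L' := by
    have hS'n : (L'.subgroupOf S).Normal := ⟨fun a ha g => hL'n g g.2 a ha⟩
    set f := QuotientGroup.mk' (L'.subgroupOf S)
    set A₁ := f ⟨y, hyS⟩
    set B₁ := f ⟨e', h.m₂.le he'⟩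
    have hfE : ∀ (a b : Ω) (ha : a ∈ S) (hb : b ∈ S), cj a b * b⁻¹ ∈ L' →
        Commute (f ⟨a, ha⟩) (f ⟨b, hb⟩) := fun a b ha hb hab => by
      show f ⟨a, ha⟩ * f ⟨b, hb⟩ = f ⟨b, hb⟩ * f ⟨a, ha⟩
      rw [← commutatorElement_eq_one_iff_mul_comm, ← map_commutatorElement]
      refine (QuotientGroup.eq_one_iff _).2 ?_
      show ⁅a, b⁆ ∈ L'
      rwa [commutatorElement_def, ← cj_apply]
    set u := cj y e' * e'⁻¹
    have hu1 : u ∈ Q := ⟨by
        have e1 : u = y * cj e' y⁻¹ := by simp only [u, cj_apply]; group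
        rw [e1]
        exact E.mul_mem hyE (h.m₁.normal e' (h.m₂.le he') _ (E.inv_mem hyE)),
      E'.mul_mem (h.m₂.normal y hyS e' he') (E'.inv_mem he')⟩
    have hcom : ⁅A₁, B₁⁆ = f ⟨u, hQS hu1⟩ := by
      rw [← map_commutatorElement]
      congr 1
    have hBp : B₁ ^ p = 1 := by
      rw [← map_pow]; exact (QuotientGroup.eq_one_iff _).2 (pow_mem_frat hS h.m₂.le he')
    have hHp : ⁅A₁, B₁⁆ ^ p = 1 := by
      rw [hcom, ← map_pow]
      exact (QuotientGroup.eq_one_iff _).2 (pow_mem_frat hS h.m₂.le (hQE' hu1))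
    have hpow := mul_pow_p (p := p) h.hp
      (hcom ▸ (hfE y u hyS (hQS hu1) (hDL' (hEQ y hyE u hu1))).symm)
      (hcom ▸ hfE u e' (hQS hu1) (h.m₂.le he') (comm_mem_frat hS h.m₂.le (hQE' hu1) he')) hBp hHp
    have hmem : f ⟨afun δ (dy ^ i), afun_mem δ (S.zpow_mem (hQS hdyQ) i)⟩ =
        f ⟨dy ^ i, S.zpow_mem (hQS hdyQ) i⟩ := by
      have e1 : (⟨afun δ (dy ^ i), afun_mem δ (S.zpow_mem (hQS hdyQ) i)⟩ : S) =
          ((⟨y, hyS⟩ * ⟨e', h.m₂.le he'⟩ : S) ^ p) ^ i := Subtype.ext (by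
        show afun δ (dy ^ i) = _
        rw [afun_zpow δ (hQS hdyQ), hδy]; rfl)
      have e2 : (⟨dy ^ i, S.zpow_mem (hQS hdyQ) i⟩ : S) = ((⟨y, hyS⟩ : S) ^ p) ^ i := Subtype.ext rfl
      rw [e1, e2, map_zpow, map_zpow, map_pow, map_pow, map_mul]
      exact congrArg (· ^ i) hpow
    rw [← div_eq_one, ← map_div] at hmem
    have := (QuotientGroup.eq_one_iff _).1 hmem
    rwa [Subgroup.mem_subgroupOf, div_eq_mul_inv] at this
  refine hcne ?_
  have h1 : r' j' Dy = Dy := by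
    rw [hr']
    show (afun (j' : MulAut E') (dy ^ i))⁻¹ * dy ^ i ∈ L'
    rw [← hδj _ (hQE' (Q.zpow_mem hdyQ i))]
    have hT : afun δ (dy ^ i) ∈ S := afun_mem δ (S.zpow_mem (hQS hdyQ) i)
    have := hL'n _ (S.inv_mem hT) _ (L'.inv_mem hfixdy)
    simp only [cj_apply] at this
    simpa [mul_assoc] using this
  rw [hj'D] at h1
  have hp' : Dy ^ p = 1 := sec_pow (fun a ha => pow_mem_frat hS h.m₂.le ha) Dy
  have h2 : Dy ^ 2 = 1 := by rw [sq, ← inv_eq_iff_mul_eq_one]; exact h1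
  rwa [hk, pow_succ, pow_mul, h2, one_pow, one_mul] at hp'

end Pair

end Cfsg.Agent.Rank3
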