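import Mathlib
import Cfsg.Agent.Lib.Rank3PairT34
import Cfsg.Agent.Lib.OddLocalBase

/-!
Centralisers of sections and counting lemmas for commutators with a fixed element (S5189).
-/

set_option autoImplicit false
set_option linter.unusedSectionVars false
set_option linter.style.haveILetI false

namespace Cfsg.Agent.Rank3

open scoped commutatorElement
open Cfsg Cfsg.FusionSystem Cfsg.Agent.FusionSysBasic Cfsg.Agent.FusionSysSaturated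
  Cfsg.Agent.FusionSysNormal

universe u

variable {Ω : Type u} [Group Ω] {S : Subgroup Ω}

local notation "⟪" a ", " b "⟫" => (cj a b * b⁻¹)

theorem pbr_inv (a b : Ω) : ⟪a, b⟫⁻¹ = ⟪b, a⟫ := by simp only [cj_apply]; group

theorem pbr_swap {N : Subgroup Ω} {a b : Ω} (h : ⟪a, b⟫ ∈ N) : ⟪b, a⟫ ∈ N :=
  pbr_inv a b ▸ N.inv_mem h

theorem pbr_self (a : Ω) : ⟪a, a⟫ = 1 := by simp only [cj_apply]; group

theorem pbr_mul_left (a b c : Ω) : ⟪a * b, c⟫ = cj a ⟪b, c⟫ * ⟪a, c⟫ := by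
  simp only [cj_apply]; group

theorem pbr_inv_left (a c : Ω) : ⟪a⁻¹, c⟫ = cj a⁻¹ ⟪a, c⟫⁻¹ := by simp only [cj_apply]; group

theorem pbr_mul_right (a b c : Ω) : ⟪a, b * c⟫ = ⟪a, b⟫ * cj b ⟪a, c⟫ := by
  simp only [cj_apply]; group

theorem cj_pbr (g a b : Ω) : cj g ⟪a, b⟫ = ⟪cj g a, cj g b⟫ := by simp only [cj_apply]; group

theorem cj_eq_pbr (g a : Ω) : cj g a = ⟪g, a⟫ * a := by rw [inv_mul_cancel_right]

theorem afun_pbr {E : Subgroup Ω} (α : MulAut E) {a b : Ω} (ha : a ∈ E) (hb : b ∈ E) :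
    afun α ⟪a, b⟫ = ⟪afun α a, afun α b⟫ := by
  have e : (⟨⟪a, b⟫, E.mul_mem (E.mul_mem (E.mul_mem ha hb) (E.inv_mem ha)) (E.inv_mem hb)⟩ : E) =
      (⟨a, ha⟩ : E) * ⟨b, hb⟩ * ⟨a, ha⟩⁻¹ * ⟨b, hb⟩⁻¹ := Subtype.ext rfl
  have hab : ⟪a, b⟫ ∈ E :=
    E.mul_mem (E.mul_mem (E.mul_mem ha hb) (E.inv_mem ha)) (E.inv_mem hb)
  rw [afun_apply α hab, show (⟨⟪a, b⟫, hab⟩ : E) = _ from e,
    map_mul, map_mul, map_mul, map_inv, map_inv, afun_apply α ha, afun_apply α hb]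
  rfl

/-- A subgroup of `S` normalised by `S`. -/
structure Nrm (S N : Subgroup Ω) : Prop where
  le : N ≤ S
  cj : ∀ g ∈ S, ∀ n ∈ N, cj g n ∈ N

theorem Nrm.bot : Nrm S (⊥ : Subgroup Ω) :=
  ⟨bot_le, fun g _ n hn => by
    rw [Subgroup.mem_bot] at hn ⊢; rw [hn, cj_apply, mul_one, mul_inv_cancel]⟩

theorem Nrm.top : Nrm S S := ⟨le_rfl, fun g hg n hn => S.mul_mem (S.mul_mem hg hn) (S.inv_mem hg)⟩

theorem Nrm.inf {A B : Subgroup Ω} (hA : Nrm S A) (hB : Nrm S B) : Nrm S (A ⊓ B) :=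
  ⟨inf_le_left.trans hA.le, fun g hg n hn => ⟨hA.cj g hg n hn.1, hB.cj g hg n hn.2⟩⟩

theorem Nrm.normal {N : Subgroup Ω} (hN : Nrm S N) : (N.subgroupOf S).Normal :=
  ⟨fun a ha g => hN.cj g g.2 a ha⟩

theorem Nrm.pbr_left {N : Subgroup Ω} (hN : Nrm S N) {a b : Ω} (ha : a ∈ N) (hb : b ∈ S) :
    ⟪b, a⟫ ∈ N := N.mul_mem (hN.cj b hb a ha) (N.inv_mem ha)

/-- The elements of `B` whose commutators with `T` lie in `N`. -/
def cMod (T : Set Ω) (B N : Subgroup Ω) : Subgroup Ω where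
  carrier := {b | b ∈ B ⊓ Subgroup.normalizer (N : Set Ω) ∧ ∀ t ∈ T, ⟪b, t⟫ ∈ N}
  one_mem' := ⟨one_mem _, fun t _ => by rw [cj_one, mul_inv_cancel]; exact N.one_mem⟩
  mul_mem' {a b} ha hb := ⟨mul_mem ha.1 hb.1, fun t ht => by
    rw [pbr_mul_left]
    exact N.mul_mem (cj_mem_of_normalizer ha.1.2 (hb.2 t ht)) (ha.2 t ht)⟩
  inv_mem' {a} ha := ⟨inv_mem ha.1, fun t ht => by
    rw [pbr_inv_left]
    exact cj_mem_of_normalizer (inv_mem ha.1.2) (N.inv_mem (ha.2 t ht))⟩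

theorem cMod_le (T : Set Ω) (B N : Subgroup Ω) : cMod T B N ≤ B := fun _ h => h.1.1

theorem cMod_pbr {T : Set Ω} {B N : Subgroup Ω} {b t : Ω} (hb : b ∈ cMod T B N) (ht : t ∈ T) :
    ⟪b, t⟫ ∈ N := hb.2 t ht

theorem mem_cMod [Finite S] {T : Set Ω} {B N : Subgroup Ω} (hN : Nrm S N) (hB : B ≤ S) {b : Ω}
    (hb : b ∈ B) (h : ∀ t ∈ T, ⟪b, t⟫ ∈ N) : b ∈ cMod T B N :=
  ⟨⟨hb, mem_normalizer_of_cj_le hN.le (hN.cj b (hB hb))⟩, h⟩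

theorem nrm_cMod [Finite S] {T : Set Ω} {B N : Subgroup Ω} (hN : Nrm S N) (hB : Nrm S B)
    (hT : ∀ g ∈ S, ∀ t ∈ T, cj g t ∈ T) : Nrm S (cMod T B N) := by
  refine ⟨(cMod_le T B N).trans hB.le, fun g hg b hb => ?_⟩
  refine mem_cMod hN hB.le (hB.cj g hg b hb.1.1) fun t ht => ?_
  have h1 := hN.cj g hg _ (hb.2 _ (hT g⁻¹ (S.inv_mem hg) t ht))
  rwa [cj_pbr g b (cj g⁻¹ t), cj_cj_inv] at h1

theorem invBy_cMod [Finite S] {E T B N : Subgroup Ω} {A : Subgroup (MulAut E)} (hN : Nrm S N)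
    (hB : B ≤ S) (hBE : B ≤ E) (hTE : T ≤ E) (hiT : InvBy A T) (hiB : InvBy A B)
    (hiN : InvBy A N) : InvBy A (cMod (T : Set Ω) B N) := by
  intro α hα b hb
  refine mem_cMod hN hB (hiB α hα b hb.1.1) fun t ht => ?_
  have h1 := hiN α hα _ (hb.2 _ (hiT α⁻¹ (inv_mem hα) t ht))
  rwa [afun_pbr α (hBE hb.1.1) (afun_mem _ (hTE ht)), afun_apply_inv α (hTE ht)] at h1

/-! ### Counting -/

/-- A subgroup between `Q` and `E`, of index at most `p`, is one of them. -/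
theorem eq_of_between [Finite S] {p : ℕ} [Fact p.Prime] (hS : IsPGroup p S)
    {Q W E : Subgroup Ω} (hE : E ≤ S) (h1 : Q ≤ W) (h2 : W ≤ E)
    (hc : Nat.card E ≤ p * Nat.card Q) : W = Q ∨ W = E := by
  rcases eq_or_lt_of_le h1 with e | hlt
  · exact Or.inl e.symm
  · exact Or.inr (eq_of_le_of_card_ge hE h2 (hc.trans (mul_card_le_of_lt hS (h2.trans hE) hlt)))

/-- A step of index at most `p` is generated by one element. -/
theorem exists_gen_mod [Finite S] {p : ℕ} [Fact p.Prime] (hS : IsPGroup p S) {P K : Subgroup Ω}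
    (hPK : P ≤ K) (hK : K ≤ S) (hc : Nat.card K ≤ p * Nat.card P) :
    ∃ k ∈ K, ∀ R : Subgroup Ω, P ≤ R → k ∈ R → K ≤ R := by
  by_cases hKP : K ≤ P
  · exact ⟨1, K.one_mem, fun R hR _ => hKP.trans hR⟩
  obtain ⟨k, hk, hkP⟩ := SetLike.not_le_iff_exists.1 hKP
  refine ⟨k, hk, fun R hR hkR => ?_⟩
  rcases eq_of_between hS hK (le_inf hR hPK : P ≤ R ⊓ K) inf_le_right hc with e | e
  · exact absurd (e ▸ ⟨hkR, hk⟩ : k ∈ P) hkP
  · exact inf_eq_right.1 e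

theorem card_le_of_cosets {B C M N : Subgroup Ω} [Finite B] [Finite M] (hCB : C ≤ B) (hNM : N ≤ M)
    {m : ℕ} (hm : Nat.card M ≤ m * Nat.card N) (f : Ω → Ω) (hf : ∀ b ∈ B, f b ∈ M)
    (hinj : ∀ a ∈ B, ∀ b ∈ B, (f a)⁻¹ * f b ∈ N → a⁻¹ * b ∈ C) :
    Nat.card B ≤ m * Nat.card C := by
  haveI : Finite (M ⧸ N.subgroupOf M) := inferInstance
  let g : B ⧸ C.subgroupOf B → M ⧸ N.subgroupOf M := fun q =>
    ((⟨f (q.out : B), hf _ (q.out : B).2⟩ : M) : M ⧸ N.subgroupOf M)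
  have hg : Function.Injective g := by
    intro q r e
    have e' : (f (q.out : B))⁻¹ * f (r.out : B) ∈ N := Subgroup.mem_subgroupOf.1 (QuotientGroup.eq.1 e)
    rw [← q.out_eq, ← r.out_eq]
    exact QuotientGroup.eq.2 (Subgroup.mem_subgroupOf.2 (hinj _ (q.out : B).2 _ (r.out : B).2 e'))
  have h1 := Nat.card_le_card_of_injective g hg
  have e1 := Subgroup.card_eq_card_quotient_mul_card_subgroup (C.subgroupOf B)
  have e2 := Subgroup.card_eq_card_quotient_mul_card_subgroup (N.subgroupOf M)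
  rw [Nat.card_congr (Subgroup.subgroupOfEquivOfLe hCB).toEquiv] at e1
  rw [Nat.card_congr (Subgroup.subgroupOfEquivOfLe hNM).toEquiv] at e2
  haveI : Finite N := Finite.of_injective _ (Subgroup.inclusion_injective hNM)
  have h2 : Nat.card (M ⧸ N.subgroupOf M) ≤ m :=
    Nat.le_of_mul_le_mul_right (e2 ▸ hm) (Nat.card_pos (α := N))
  rw [e1]
  exact Nat.mul_le_mul_right _ (h1.trans h2)

theorem card_le_mul_inf [Finite S] {p : ℕ} {H H' K : Subgroup Ω} (hK : K ≤ S) (hH : H ≤ K)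
    (hH' : H' ≤ K) (hc : Nat.card K ≤ p * Nat.card H') :
    Nat.card H ≤ p * Nat.card ↥(H ⊓ H') := by
  haveI := finite_of_le hK
  haveI := finite_of_le (hH.trans hK)
  exact card_le_of_cosets inf_le_left hH' hc id (fun b hb => hH hb)
    fun a ha b hb h => ⟨H.mul_mem (H.inv_mem ha) hb, h⟩

/-- Counting the commutators with a fixed element. -/
theorem card_le_count [Finite S] {B N M : Subgroup Ω} (hN : Nrm S N) (hB : B ≤ S) (hM : M ≤ S)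
    (hNM : N ≤ M) {k : Ω} (hk : k ∈ S) (hbr : ∀ b ∈ B, ⟪b, k⟫ ∈ M) {m : ℕ}
    (hm : Nat.card M ≤ m * Nat.card N) :
    Nat.card B ≤ m * Nat.card ↥(cMod {k} B N) := by
  haveI := finite_of_le hB
  haveI := finite_of_le hM
  refine card_le_of_cosets (cMod_le _ _ _) hNM hm (fun b => ⟪b, k⟫) hbr fun a ha b hb h => ?_
  refine mem_cMod hN hB (B.mul_mem (B.inv_mem ha) hb) ?_
  rintro t rfl
  have hxS : ⟪a, t⟫ ∈ S := hM (hbr a ha)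
  have h1 := hN.cj _ hxS _ h
  rw [show cj ⟪a, t⟫ (⟪a, t⟫⁻¹ * ⟪b, t⟫) = ⟪b, t⟫ * ⟪a, t⟫⁻¹ by simp only [cj_apply]; group] at h1
  have h2 := hN.cj a⁻¹ (S.inv_mem (hB ha)) _ h1
  rw [show cj a⁻¹ (⟪b, t⟫ * ⟪a, t⟫⁻¹) = cj a⁻¹ ⟪b, t⟫ * ⟪a⁻¹, t⟫ by
    simp only [cj_apply]; group] at h2
  rwa [pbr_mul_left]

/-- The centraliser in `B` of `K / N` when `B` centralises `P / N` and `|K : P| ≤ p`. -/
theorem step_bound [Finite S] {p : ℕ} [Fact p.Prime] (hS : IsPGroup p S)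
    {P K B M N : Subgroup Ω} (hN : Nrm S N) (hPK : P ≤ K) (hK : K ≤ S)
    (hKc : Nat.card K ≤ p * Nat.card P) (hB : B ≤ S) (hM : M ≤ S) (hNM : N ≤ M)
    (hBP : ∀ b ∈ B, ∀ k ∈ P, ⟪b, k⟫ ∈ N) (hBK : ∀ b ∈ B, ∀ k ∈ K, ⟪b, k⟫ ∈ M) {m : ℕ}
    (hm : Nat.card M ≤ m * Nat.card N) :
    Nat.card B ≤ m * Nat.card ↥(cMod (K : Set Ω) B N) := by
  obtain ⟨k, hk, hgen⟩ := exists_gen_mod hS hPK hK hKc
  refine (card_le_count hN hB hM hNM (hK hk) (fun b hb => hBK b hb k hk) hm).trans ?_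
  haveI := finite_of_le ((cMod_le (K : Set Ω) B N).trans hB)
  refine Nat.mul_le_mul_left _ (Subgroup.card_le_of_le fun b hb => ?_)
  refine mem_cMod hN hB hb.1.1 fun u hu => ?_
  refine pbr_swap (cMod_pbr (b := u) (t := b) (T := {b}) (B := S) ?_ rfl)
  exact hgen _ (fun v hv => mem_cMod hN le_rfl (hK (hPK hv))
      (by rintro t rfl; exact pbr_swap (hBP _ hb.1.1 v hv)))
    (mem_cMod hN le_rfl (hK hk) (by rintro t rfl; exact pbr_swap (cMod_pbr hb rfl))) hu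

theorem Nrm.step [Finite S] {p : ℕ} [Fact p.Prime] (hS : IsPGroup p S) {A B : Subgroup Ω}
    (hA : Nrm S A) (hB : Nrm S B) (hAB : A ≤ B) (hc : Nat.card B ≤ p * Nat.card A) {g b : Ω}
    (hg : g ∈ S) (hb : b ∈ B) : ⟪g, b⟫ ∈ A :=
  step_comm hS hAB hB.le hA.cj hB.cj hc hg hb

theorem exists_step [Finite S] {p : ℕ} [Fact p.Prime] (hS : IsPGroup p S) {A B : Subgroup Ω}
    (hA : Nrm S A) (hB : Nrm S B) (hAB : A ≤ B) {n : ℕ}
    (hc : Nat.card B ≤ p ^ (n + 1) * Nat.card A) :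
    ∃ M, Nrm S M ∧ A ≤ M ∧ M ≤ B ∧ Nat.card M ≤ p * Nat.card A ∧
      Nat.card B ≤ p ^ n * Nat.card M := by
  have hp := (Fact.out : p.Prime)
  rcases eq_or_lt_of_le hAB with e | hlt
  · refine ⟨A, hA, le_rfl, hAB, Nat.le_mul_of_pos_left _ hp.pos, ?_⟩
    rw [← e]
    exact Nat.le_mul_of_pos_left _ (pow_pos hp.pos n)
  obtain ⟨M, hAM, hMB, hMn, hMc⟩ := exists_between hS hlt hB.le hA.cj hB.cj
  refine ⟨M, ⟨hMB.trans hB.le, hMn⟩, hAM, hMB, hMc.le, ?_⟩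
  rwa [hMc, ← mul_assoc, ← pow_succ]

theorem nrm_card_sup_zpowers [Finite S] {p : ℕ} [Fact p.Prime] {N : Subgroup Ω} (hN : Nrm S N)
    {w : Ω} (hw : w ∈ S) (hwp : w ^ p ∈ N) :
    Nat.card ↥(N ⊔ Subgroup.zpowers w) ≤ p * Nat.card N := by
  haveI : NeZero p := ⟨(Fact.out : p.Prime).ne_zero⟩
  haveI := finite_of_le hN.le
  have hnorm : Subgroup.zpowers w ≤ Subgroup.normalizer (N : Set Ω) :=
    Subgroup.zpowers_le.2 (mem_normalizer_of_cj_le hN.le (hN.cj w hw))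
  rw [← Nat.card_fin p, ← Nat.card_prod]
  refine Nat.card_le_card_of_surjective (fun x : Fin p × N => (⟨(x.2 : Ω) * w ^ (x.1 : ℕ),
    mul_mem (Subgroup.mem_sup_left x.2.2)
      (Subgroup.mem_sup_right (Subgroup.pow_mem _ (Subgroup.mem_zpowers w) _))⟩ :
    ↥(N ⊔ Subgroup.zpowers w))) ?_
  rintro ⟨x, hx⟩
  rw [← SetLike.mem_coe, Subgroup.coe_mul_of_right_le_normalizer_left _ _ hnorm] at hx
  obtain ⟨n, hn, _, ⟨i, rfl⟩, rfl⟩ := Set.mem_mul.1 hx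
  have hp0 : (p : ℤ) ≠ 0 := by exact_mod_cast (Fact.out : p.Prime).ne_zero
  have hr0 := Int.emod_nonneg i hp0
  have hrp : i % (p : ℤ) < p := Int.emod_lt_of_pos i (by exact_mod_cast (Fact.out : p.Prime).pos)
  refine ⟨(⟨(i % (p : ℤ)).toNat, by omega⟩, ⟨n * (w ^ p) ^ (i / (p : ℤ)),
    N.mul_mem hn (N.zpow_mem hwp _)⟩), Subtype.ext ?_⟩
  show n * (w ^ p) ^ (i / (p : ℤ)) * w ^ (i % (p : ℤ)).toNat = n * w ^ i
  rw [← zpow_natCast w (i % (p : ℤ)).toNat, Int.toNat_of_nonneg hr0, mul_assoc, ← zpow_natCast w p,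
    ← zpow_mul, ← zpow_add, Int.mul_ediv_add_emod]

/-! ### Congruences modulo a normal subgroup -/

theorem qm_commute {N : Subgroup Ω} [(N.subgroupOf S).Normal] {a b : Ω} (ha : a ∈ S) (hb : b ∈ S)
    (h : ⟪a, b⟫ ∈ N) :
    Commute ((⟨a, ha⟩ : S) : S ⧸ N.subgroupOf S) ((⟨b, hb⟩ : S) : S ⧸ N.subgroupOf S) := by
  show ((⟨a, ha⟩ : S) : S ⧸ N.subgroupOf S) * _ = _ * _
  rw [← commutatorElement_eq_one_iff_mul_comm]
  refine ((map_commutatorElement (QuotientGroup.mk' (N.subgroupOf S)) _ _).symm.trans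
    ((QuotientGroup.eq_one_iff _).2 ?_))
  show ⁅a, b⁆ ∈ N
  rwa [commutatorElement_def, ← cj_apply]

theorem qm_comm {N : Subgroup Ω} [(N.subgroupOf S).Normal] {a b : Ω} (ha : a ∈ S) (hb : b ∈ S)
    (hab : ⟪a, b⟫ ∈ S) :
    ⁅((⟨a, ha⟩ : S) : S ⧸ N.subgroupOf S), ((⟨b, hb⟩ : S) : S ⧸ N.subgroupOf S)⁆ =
      ((⟨⟪a, b⟫, hab⟩ : S) : S ⧸ N.subgroupOf S) := by
  refine (map_commutatorElement (QuotientGroup.mk' (N.subgroupOf S)) _ _).symm.trans ?_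
  exact congrArg _ (Subtype.ext rfl)

/-- Powers are multiplicative modulo `N` on a class two section. -/
theorem mul_pow_mod [Finite S] {p : ℕ} [Fact p.Prime] (hp : Odd p) {N : Subgroup Ω}
    (hN : Nrm S N) {a b : Ω} (ha : a ∈ S) (hb : b ∈ S) (h1 : ⟪a, ⟪b, a⟫⟫ ∈ N)
    (h2 : ⟪b, ⟪b, a⟫⟫ ∈ N) (h3 : ⟪b, a⟫ ^ p ∈ N) :
    (a ^ p * b ^ p)⁻¹ * (a * b) ^ p ∈ N := by
  haveI := hN.normal
  have hw : ⟪b, a⟫ ∈ S := S.mul_mem (S.mul_mem (S.mul_mem hb ha) (S.inv_mem hb)) (S.inv_mem ha)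
  have hc := qm_comm (N := N) hb ha hw
  have hcp : ⁅((⟨b, hb⟩ : S) : S ⧸ N.subgroupOf S), ((⟨a, ha⟩ : S) : S ⧸ N.subgroupOf S)⁆ ^ p = 1 := by
    rw [hc, ← QuotientGroup.mk_pow, QuotientGroup.eq_one_iff]; exact h3
  have h := OddLocalBase.mul_pow_of_central ((⟨a, ha⟩ : S) : S ⧸ N.subgroupOf S)
    ((⟨b, hb⟩ : S) : S ⧸ N.subgroupOf S) (hc ▸ (qm_commute ha hw h1).symm)
    (hc ▸ (qm_commute hb hw h2).symm) p
  obtain ⟨m, hm⟩ := choose_two_dvd (p := p) hp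
  rw [hm, pow_mul, hcp, one_pow, mul_one, ← QuotientGroup.mk_mul, ← QuotientGroup.mk_pow,
    ← QuotientGroup.mk_pow, ← QuotientGroup.mk_pow, ← QuotientGroup.mk_mul] at h
  exact Subgroup.mem_subgroupOf.1 (QuotientGroup.eq.1 h.symm)

theorem pbr_pow_mod [Finite S] {N : Subgroup Ω} (hN : Nrm S N) {a b : Ω} (ha : a ∈ S)
    (hb : b ∈ S) (h1 : ⟪a, ⟪a, b⟫⟫ ∈ N) (n : ℕ) (h2 : ⟪a, b⟫ ^ n ∈ N) : ⟪a ^ n, b⟫ ∈ N := by
  suffices key : ∀ k : ℕ, (⟪a, b⟫ ^ k)⁻¹ * ⟪a ^ k, b⟫ ∈ N by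
    have := N.mul_mem h2 (key n)
    rwa [mul_inv_cancel_left] at this
  intro k
  induction k with
  | zero =>
    rw [pow_zero, pow_zero, cj_one, mul_inv_cancel, inv_one, one_mul]; exact N.one_mem
  | succ k ih =>
    have hw : ⟪a, b⟫ ∈ S := S.mul_mem (S.mul_mem (S.mul_mem ha hb) (S.inv_mem ha)) (S.inv_mem hb)
    have hfix : ∀ j : ℕ, (⟪a, b⟫ ^ j)⁻¹ * cj a (⟪a, b⟫ ^ j) ∈ N := by
      intro j
      have hm : a ∈ cMod {⟪a, b⟫} S N := mem_cMod hN le_rfl ha (by rintro t rfl; exact h1)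
      have hj : ⟪a, b⟫ ^ j ∈ cMod {a} S N := Subgroup.pow_mem _
        (mem_cMod hN le_rfl hw (by rintro t rfl; exact pbr_swap h1)) j
      have h3 := pbr_swap (cMod_pbr hj rfl)
      have h4 := hN.cj (⟪a, b⟫ ^ j)⁻¹ (S.inv_mem (S.pow_mem hw j)) _ h3
      rwa [show cj (⟪a, b⟫ ^ j)⁻¹ ⟪a, ⟪a, b⟫ ^ j⟫ = (⟪a, b⟫ ^ j)⁻¹ * cj a (⟪a, b⟫ ^ j) by
        generalize ⟪a, b⟫ ^ j = z
        simp only [cj_apply]; group] at h4
    have h4 := N.mul_mem (hfix k) (hN.cj a ha _ ih)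
    have h5 := hN.cj ⟪a, b⟫⁻¹ (S.inv_mem hw) _ h4
    rw [show ⟪a ^ (k + 1), b⟫ = cj a ⟪a ^ k, b⟫ * ⟪a, b⟫ by rw [pow_succ', pbr_mul_left]]
    rw [show (⟪a, b⟫ ^ (k + 1))⁻¹ * (cj a ⟪a ^ k, b⟫ * ⟪a, b⟫) =
      cj ⟪a, b⟫⁻¹ ((⟪a, b⟫ ^ k)⁻¹ * cj a (⟪a, b⟫ ^ k) * cj a ((⟪a, b⟫ ^ k)⁻¹ * ⟪a ^ k, b⟫)) by
      rw [pow_succ]
      generalize ⟪a ^ k, b⟫ = v
      generalize ⟪a, b⟫ ^ k = z
      generalize ⟪a, b⟫ = w
      simp only [cj_apply]; group]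
    exact h5

theorem mem_of_sq {p : ℕ} (hp : Odd p) [Fact p.Prime] (hS : IsPGroup p S) {N : Subgroup Ω} {w : Ω}
    (hw : w ∈ S) (h : w * w ∈ N) : w ∈ N := by
  obtain ⟨k, hk⟩ := hS ⟨w, hw⟩
  have hk' : w ^ p ^ k = 1 := congrArg Subtype.val hk
  obtain ⟨m, hm⟩ := hp.pow (n := k)
  have e : w = (w * w) ^ (m + 1) := by
    rw [← pow_two, ← pow_mul, show 2 * (m + 1) = p ^ k + 1 by omega, pow_succ, hk', one_mul]
  rw [e]
  exact N.pow_mem h _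

end Cfsg.Agent.Rank3
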