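import Mathlib
import Cfsg.Agent.Lib.Rank3PairBr34

/-!
A common invariant subgroup `K` of two maximal essential subgroups with `|S : K| = p ^ 4` (S5189):
`S` centralises `K / Φ(K)` and `K` is trivial.
-/

set_option autoImplicit false
set_option linter.unusedSectionVars false
set_option linter.style.haveILetI false

namespace Cfsg.Agent.Rank3

open Cfsg Cfsg.FusionSystem Cfsg.Agent.FusionSysBasic Cfsg.Agent.FusionSysSaturated
  Cfsg.Agent.FusionSysAlperin Cfsg.Agent.FusionSysNormal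

universe u

variable {Ω : Type u} [Group Ω] {S : Subgroup Ω} [Finite S] {p : ℕ} [Fact p.Prime]
  {F : FusionSystem S}

local notation "⟪" a ", " b "⟫" => (cj a b * b⁻¹)

theorem inv_mul_afun_mem {E M : Subgroup Ω} {α : MulAut E} {y : Ω} (h : y⁻¹ * afun α y ∈ M)
    (hy : y ∈ M) : afun α y ∈ M := by
  have := M.mul_mem hy h; rwa [mul_inv_cancel_left] at this

theorem pafun_inv {E : Subgroup Ω} (α : MulAut E) {x : Ω} (hx : x ∈ E) :
    afun α x⁻¹ = (afun α x)⁻¹ := by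
  simpa [zpow_neg_one] using afun_zpow α hx (-1)

theorem pafun_cj {E : Subgroup Ω} (α : MulAut E) {e w : Ω} (he : e ∈ E) (hw : w ∈ E) :
    afun α (cj e w) = cj (afun α e) (afun α w) := by
  rw [cj_apply, cj_apply, afun_map_mul _ (E.mul_mem he hw) (E.inv_mem he), afun_map_mul _ he hw,
    pafun_inv α he]

theorem Max.nrm {E : Subgroup Ω} (h : Max F p E) : Nrm S E := ⟨h.le, h.normal⟩

theorem Max.nrm_of_inv {E X : Subgroup Ω} (h : Max F p E) (hX : X ≤ E) (hi : Inv F E X) :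
    Nrm S X := ⟨hX.trans h.le, fun _ hg _ hx => h.cj_mem_of_inv hX hi hg hx⟩

/-- `O^{p'}(Aut_F(E))` centralises an invariant section centralised by `S`. -/
theorem Max.opp_fix {E K N : Subgroup Ω} (h : Max F p E) (hS : IsPGroup p S) (hF : F.IsSaturated p)
    (hKE : K ≤ E) (hNK : N ≤ K) (hK : Inv F E K) (hN : Inv F E N) (hNn : Nrm S N)
    (hfix : ∀ g ∈ S, ∀ k ∈ K, ⟪g, k⟫ ∈ N) :
    ∀ α ∈ opp F p E, ∀ k ∈ K, k⁻¹ * afun α k ∈ N := by
  let T : Subgroup (MulAut E) :=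
    { carrier := {α | α ∈ F.autGroup E ∧ ∀ k ∈ K, k⁻¹ * afun α k ∈ N}
      one_mem' := ⟨one_mem _, fun k hk => by rw [afun_one (hKE hk), inv_mul_cancel]; exact N.one_mem⟩
      mul_mem' := fun {a b} ha hb => ⟨mul_mem ha.1 hb.1, fun k hk => by
        have hbk : afun b k ∈ K := hK b hb.1 k hk
        have := N.mul_mem (hb.2 k hk) (ha.2 _ hbk)
        rw [afun_mul _ _ (hKE hk)]
        simpa [mul_assoc] using this⟩
      inv_mem' := fun {a} ha => ⟨inv_mem ha.1, fun k hk => by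
        have hk' : afun a⁻¹ k ∈ K := hK _ (inv_mem ha.1) k hk
        have := N.inv_mem (ha.2 _ hk')
        rw [afun_apply_inv a (hKE hk)] at this
        simpa using this⟩ }
  refine fun α hα => (h.opp_le hS hF T ?_ ?_ hα).2
  · intro a ha m hm
    refine ⟨mul_mem (mul_mem ha hm.1) (inv_mem ha), fun k hk => ?_⟩
    have hk' : afun a⁻¹ k ∈ K := hK _ (inv_mem ha) k hk
    have h1 := hN a ha _ (hm.2 _ hk')
    rw [afun_map_mul a (E.inv_mem (hKE hk')) (afun_mem m (hKE hk')), pafun_inv a (hKE hk'),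
      afun_apply_inv a (hKE hk)] at h1
    rwa [afun_mul _ _ (hKE hk), afun_mul _ _ (afun_mem _ (hKE hk))]
  · intro g hg
    refine ⟨h.conjAut_mem hg, fun k hk => ?_⟩
    rw [h.afun_conjAut hg (hKE hk)]
    have h1 := hNn.cj k⁻¹ (S.inv_mem (h.le (hKE hk))) _ (hfix g hg k hk)
    rwa [show cj k⁻¹ ⟪g, k⟫ = k⁻¹ * cj g k by simp only [cj_apply]; group] at h1

variable {E E' : Subgroup Ω}

theorem Pair.not_inv' (h : Pair F p E E') : ¬ InvBy (opp F p E') (E ⊓ E') := by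
  rw [inf_comm]; exact h.symm.not_inv

theorem Pair.card_inf_eq (h : Pair F p E E') : Nat.card E = p * Nat.card ↥(E ⊓ E') := by
  refine le_antisymm h.card_inf (mul_card_le_of_lt h.hS h.m₁.le (lt_of_le_of_ne inf_le_left
    fun e => ?_))
  obtain ⟨y, hy, hy'⟩ := h.exists_y
  exact hy' (e.ge hy).2

theorem Pair.not_le (h : Pair F p E E') : ¬ E ≤ E ⊓ E' := by
  obtain ⟨y, hy, hy'⟩ := h.exists_y
  exact fun hle => hy' (hle hy).2

theorem Pair.false_of_triv (h : Pair F p E E') {N : Subgroup Ω} (hN : N ≤ E ⊓ E')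
    (ht : ∀ α ∈ opp F p E, ∀ e ∈ E, e⁻¹ * afun α e ∈ N) : False :=
  h.not_inv fun α hα q hq => inv_mul_afun_mem (hN (ht α hα q hq.1)) hq

/-- An element outside `E` does not centralise `E / K`. -/
theorem Pair.not_central (h : Pair F p E E') {K : Subgroup Ω} (hKQ : K ≤ E ⊓ E')
    (hKi : Inv F E K) {x : Ω} (hx : x ∈ S) (hxE : x ∉ E) : ∃ e ∈ E, ⟪x, e⟫ ∉ K := by
  by_contra hcon
  push Not at hcon
  haveI := h.m₁.finite
  have hKE : K ≤ E := hKQ.trans inf_le_left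
  have hKn : Nrm S K := h.m₁.nrm_of_inv hKE hKi
  let T : Subgroup (MulAut E) :=
    { carrier := {α | α ∈ F.autGroup E ∧ ∀ Y : Subgroup Ω, K ≤ Y → Y ≤ E →
        (∀ e ∈ E, ∀ y ∈ Y, cj e y ∈ Y) → img α Y = Y}
      one_mem' := ⟨one_mem _, fun Y _ hY _ => img_one hY⟩
      mul_mem' := fun {a b} ha hb => ⟨mul_mem ha.1 hb.1, fun Y h1 h2 h3 => by
        rw [← img_mul a b h2, hb.2 Y h1 h2 h3, ha.2 Y h1 h2 h3]⟩
      inv_mem' := fun {a} ha => ⟨inv_mem ha.1, fun Y h1 h2 h3 => by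
        conv_lhs => rw [← ha.2 Y h1 h2 h3]
        rw [img_mul _ _ h2, inv_mul_cancel, img_one h2]⟩ }
  have hconj : ∀ g (hg : g ∈ S), h.m₁.conjAut hg ∈ T := by
    intro g hg
    let R : Subgroup S := T.comap ((F.autGroup E).subtype.comp h.m₁.cHom)
    have hRE : ∀ e (he : e ∈ E), (⟨e, h.m₁.le he⟩ : S) ∈ R := fun e he => by
      refine ⟨SetLike.coe_mem _, fun Y _ h2 h3 => ?_⟩
      refine eq_of_le_of_card_ge (h2.trans h.m₁.le) (fun z hz => ?_) (card_img _ h2).ge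
      obtain ⟨w, hw, rfl⟩ := (mem_img h2).1 hz
      show afun (h.m₁.cHom ⟨e, h.m₁.le he⟩ : MulAut E) w ∈ Y
      rw [h.m₁.afun_cHom _ (h2 hw)]
      exact h3 e he w hw
    have hRx : (⟨x, hx⟩ : S) ∈ R := by
      refine ⟨SetLike.coe_mem _, fun Y h1 h2 _ => ?_⟩
      refine eq_of_le_of_card_ge (h2.trans h.m₁.le) (fun z hz => ?_) (card_img _ h2).ge
      obtain ⟨w, hw, rfl⟩ := (mem_img h2).1 hz
      show afun (h.m₁.cHom ⟨x, hx⟩ : MulAut E) w ∈ Y
      rw [h.m₁.afun_cHom _ (h2 hw), cj_eq_pbr]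
      exact Y.mul_mem (h1 (hcon w (h2 hw))) hw
    obtain ⟨e, he, k, hk⟩ := h.m₁.exists_eq_mul hx hxE hg
    have hgR : (⟨g, hg⟩ : S) ∈ R := by
      rw [show (⟨g, hg⟩ : S) = ⟨e, h.m₁.le he⟩ * ⟨x, hx⟩ ^ k from Subtype.ext hk]
      exact R.mul_mem (hRE e he) (R.zpow_mem hRx k)
    exact hgR
  refine h.not_inv fun α hα q hq => ?_
  have h1 := (h.m₁.opp_le h.hS h.hF T ?_ hconj hα).2 (E ⊓ E') hKQ inf_le_left
    fun e he y hy => h.inf_normal (h.m₁.le he) hy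
  · rw [← h1]; exact afun_mem_img α inf_le_left hq
  intro a ha m hm
  refine ⟨mul_mem (mul_mem ha hm.1) (inv_mem ha), fun Y h1 h2 h3 => ?_⟩
  have hY' := hm.2 (img a⁻¹ Y) (by
      rw [← img_eq_of_invBy hKE hKi (inv_mem ha)]; exact img_mono _ h1) (img_le _ _) (by
      intro e he y hy
      obtain ⟨w, hw, rfl⟩ := (mem_img h2).1 hy
      refine (mem_img h2).2 ⟨cj (afun a e) w, h3 _ (afun_mem a he) w hw, ?_⟩
      rw [pafun_cj a⁻¹ (afun_mem a he) (h2 hw), afun_inv_apply a he])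
  rw [← img_mul (a * m) a⁻¹ h2, ← img_mul a m (img_le _ _), hY', img_mul _ _ h2, mul_inv_cancel,
    img_one h2]

/-- `K` is a largest common invariant subgroup. -/
structure Cfg (F : FusionSystem S) (p : ℕ) (E E' K : Subgroup Ω) : Prop where
  h : Pair F p E E'
  hK : CommonInv F E E' K
  hmax : ∀ K', CommonInv F E E' K' → K ≤ K' → K' = K

/-- `K` is the only proper invariant normal subgroup of `E` above `K`. -/
def Irr (F : FusionSystem S) (p : ℕ) (E K : Subgroup Ω) : Prop :=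
  ∀ X : Subgroup Ω, K ≤ X → X ≤ E → Nrm S X → InvBy (opp F p E) X → X = K ∨ X = E

theorem CommonInv.symm {K : Subgroup Ω} (h : CommonInv F E E' K) : CommonInv F E' E K :=
  ⟨inf_comm E E' ▸ h.le, h.invS, h.inv₂, h.inv₁⟩

namespace Cfg

variable {K : Subgroup Ω}

theorem symm (c : Cfg F p E E' K) : Cfg F p E' E K :=
  ⟨c.h.symm, c.hK.symm, fun K' h1 h2 => c.hmax K' h1.symm h2⟩

theorem leE (c : Cfg F p E E' K) : K ≤ E := c.hK.le.trans inf_le_left

theorem leS (c : Cfg F p E E' K) : K ≤ S := c.leE.trans c.h.m₁.le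

theorem nK (c : Cfg F p E E' K) : Nrm S K := c.h.m₁.nrm_of_inv c.leE c.hK.inv₁

theorem nQ (c : Cfg F p E E' K) : Nrm S (E ⊓ E') := c.h.m₁.nrm.inf c.h.m₂.nrm

theorem invΨ (c : Cfg F p E E' K) : Inv F E (frat K) := invBy_frat c.leE c.hK.inv₁

theorem nΨ (c : Cfg F p E E' K) : Nrm S (frat K) :=
  ⟨(frat_le K).trans c.leS, fun _ hg _ hk => cj_mem_frat c.leS c.nK.cj hg hk⟩

theorem kkΨ (c : Cfg F p E E' K) {a b : Ω} (ha : a ∈ K) (hb : b ∈ K) : ⟪a, b⟫ ∈ frat K :=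
  comm_mem_frat c.h.hS c.leS ha hb

theorem powΨ (c : Cfg F p E E' K) {a : Ω} (ha : a ∈ K) : a ^ p ∈ frat K :=
  pow_mem_frat c.h.hS c.leS ha

theorem frat_le_K (c : Cfg F p E E' K) (irr : Irr F p E K) : frat E ≤ K := by
  have hi : Inv F E (frat E ⊔ K) := invBy_sup (frat_le E) c.leE (invBy_frat_self _) c.hK.inv₁
  have hle : frat E ⊔ K ≤ E ⊓ E' := sup_le c.h.frat_le_inf c.hK.le
  rcases irr _ le_sup_right (hle.trans inf_le_left)
    (c.h.m₁.nrm_of_inv (hle.trans inf_le_left) hi) (hi.mono (Rank3.opp_le F p E)) with e | e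
  · exact le_sup_left.trans e.le
  · exact absurd (e.ge.trans hle) c.h.not_le

theorem comm_mem_K (c : Cfg F p E E' K) (irr : Irr F p E K) {a b : Ω} (ha : a ∈ E) (hb : b ∈ E) :
    ⟪a, b⟫ ∈ K := c.frat_le_K irr (comm_mem_frat c.h.hS c.h.m₁.le ha hb)

theorem pow_mem_K (c : Cfg F p E E' K) (irr : Irr F p E K) {a : Ω} (ha : a ∈ E) :
    a ^ p ∈ K := c.frat_le_K irr (pow_mem_frat c.h.hS c.h.m₁.le ha)

/-- `S` centralises `K / Φ(K)`, or only `K` does. -/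
theorem all_or_none (c : Cfg F p E E' K) (irr : Irr F p E K) :
    (∀ g ∈ S, ∀ k ∈ K, ⟪g, k⟫ ∈ frat K) ∨ cMod (K : Set Ω) S (frat K) ≤ K := by
  have h := c.h
  have hK := c.nK.cj
  have hCn : Nrm S (cMod (K : Set Ω) S (frat K)) := nrm_cMod c.nΨ Nrm.top hK
  have hKC : ∀ {B : Subgroup Ω}, K ≤ B → B ≤ S → K ≤ cMod (K : Set Ω) B (frat K) :=
    fun hKB hBS k hk => mem_cMod c.nΨ hBS (hKB hk) fun t ht => c.kkΨ hk ht
  rcases irr _ (hKC c.leE h.m₁.le) (cMod_le _ _ _) (nrm_cMod c.nΨ h.m₁.nrm hK)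
    ((invBy_cMod c.nΨ h.m₁.le le_rfl c.leE c.hK.inv₁ (fun α _ _ hx => afun_mem α hx)
      c.invΨ).mono (Rank3.opp_le F p E)) with e | e
  · right
    intro b hb
    by_contra hbK
    have hbE : b ∉ E := fun hbE => hbK (e ▸ mem_cMod c.nΨ h.m₁.le hbE fun t ht => cMod_pbr hb ht)
    obtain ⟨z, hz, hne⟩ := h.not_central c.hK.le c.hK.inv₁ hb.1.1 hbE
    have hC : ⟪b, z⟫ ∈ cMod (K : Set Ω) S (frat K) := pbr_swap (hCn.pbr_left hb (h.m₁.le hz))
    exact hne (e ▸ mem_cMod c.nΨ h.m₁.le (E.mul_mem (h.m₁.normal b hb.1.1 z hz) (E.inv_mem hz))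
      fun t ht => cMod_pbr hC ht)
  · left
    have hEC : ∀ g ∈ E, ∀ k ∈ K, ⟪g, k⟫ ∈ frat K := fun g hg k hk =>
      cMod_pbr (b := g) (B := E) (T := (K : Set Ω)) (e.ge hg) hk
    have hQ : E ⊓ E' ≤ cMod (K : Set Ω) E' (frat K) := fun q hq =>
      mem_cMod c.nΨ h.m₂.le hq.2 fun t ht => hEC q hq.1 t ht
    have hi : InvBy (opp F p E') (cMod (K : Set Ω) E' (frat K)) :=
      (invBy_cMod c.nΨ h.m₂.le le_rfl c.symm.leE c.hK.inv₂ (fun α _ _ hx => afun_mem α hx)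
        c.symm.invΨ).mono (Rank3.opp_le F p E')
    have hc' : Nat.card E' ≤ p * Nat.card ↥(E ⊓ E') := by rw [inf_comm]; exact h.symm.card_inf
    rcases eq_of_between h.hS h.m₂.le hQ (cMod_le _ _ _) hc' with e' | e'
    · exact absurd (e' ▸ hi) h.not_inv'
    intro g hg k hk
    obtain ⟨x, hx', hxE⟩ := h.symm.exists_y
    obtain ⟨a, ha, i, rfl⟩ := h.m₁.exists_eq_mul (h.m₂.le hx') hxE hg
    rw [pbr_mul_left]
    exact mul_mem (c.nΨ.cj a (h.m₁.le ha) _ (cMod_pbr (e'.ge (E'.zpow_mem hx' i)) hk))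
      (hEC a ha k hk)

/-- The centraliser of `K / Φ(K)` has index at most `p ^ 3`. -/
theorem bound3 (c : Cfg F p E E' K) :
    Nat.card S ≤ p ^ 3 * Nat.card ↥(cMod (K : Set Ω) S (frat K)) := by
  have hS := c.h.hS
  obtain ⟨Z, hZn, hΨZ, hZK, hZc, hKZ⟩ := exists_step hS c.nΨ c.nK (frat_le K) (n := 2)
    (card_le_frat hS c.h.rk c.leS)
  obtain ⟨P, hPn, hZP, hPK, hPc, hKP⟩ := exists_step hS hZn c.nK hZK (n := 1) hKZ
  rw [pow_one] at hKP
  have h1 := step_bound hS c.nΨ hZP hPn.le hPc le_rfl hZn.le hΨZ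
    (fun g hg k hk => c.nΨ.step hS hZn hΨZ hZc hg hk)
    (fun g hg k hk => hZn.step hS hPn hZP hPc hg hk) hZc
  have h2 := step_bound hS c.nΨ hPK c.leS hKP (cMod_le (P : Set Ω) S (frat K)) hPn.le
    (hΨZ.trans hZP) (fun g hg k hk => cMod_pbr hg hk)
    (fun g hg k hk => hPn.step hS c.nK hPK hKP hg.1.1 hk) (m := p * p) (by
      rw [mul_assoc]; exact hPc.trans (Nat.mul_le_mul_left _ hZc))
  haveI := finite_of_le (cMod_le (K : Set Ω) S (frat K))
  refine h1.trans ((Nat.mul_le_mul_left _ (h2.trans (Nat.mul_le_mul_left _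
    (Subgroup.card_le_of_le fun b hb => ?_)))).trans (le_of_eq (by ring)))
  exact mem_cMod c.nΨ le_rfl hb.1.1.1.1 fun t ht => cMod_pbr hb ht

/-- `p`-th powers of `E` lie in `N`, for `S`-central `K / N`. -/
theorem pow_mem (c : Cfg F p E E' K) (irr : Irr F p E K)
    (hSK : ∀ g ∈ S, ∀ k ∈ K, ⟪g, k⟫ ∈ frat K) {N : Subgroup Ω} (hN : Nrm S N)
    (hΨN : frat K ≤ N) (hNK : N ≤ K) : ∀ e ∈ E, e ^ p ∈ N := by
  have h := c.h
  have hS := h.hS
  have hfix := h.m₁.opp_fix hS h.hF c.leE (frat_le K) c.hK.inv₁ c.invΨ c.nΨ hSK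
  have hcongr : ∀ a ∈ E, ∀ b ∈ E, (a ^ p * b ^ p)⁻¹ * (a * b) ^ p ∈ N := fun a ha b hb =>
    mul_pow_mod h.hp hN (h.m₁.le ha) (h.m₁.le hb)
      (hΨN (hSK a (h.m₁.le ha) _ (c.comm_mem_K irr hb ha)))
      (hΨN (hSK b (h.m₁.le hb) _ (c.comm_mem_K irr hb ha)))
      (hΨN (c.powΨ (c.comm_mem_K irr hb ha)))
  let R : Subgroup Ω :=
    { carrier := {e | e ∈ E ∧ e ^ p ∈ N}
      one_mem' := ⟨E.one_mem, by rw [one_pow]; exact N.one_mem⟩
      mul_mem' := fun {a b} ha hb => ⟨E.mul_mem ha.1 hb.1, by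
        have := N.mul_mem (N.mul_mem ha.2 hb.2) (hcongr a ha.1 b hb.1)
        rwa [mul_inv_cancel_left] at this⟩
      inv_mem' := fun {a} ha => ⟨E.inv_mem ha.1, by rw [inv_pow]; exact N.inv_mem ha.2⟩ }
  have hRn : Nrm S R := ⟨fun e he => h.m₁.le he.1, fun g hg e he => ⟨h.m₁.normal g hg e he.1, by
    rw [show cj g e ^ p = cj g (e ^ p) from conj_pow]
    exact hN.cj g hg _ he.2⟩⟩
  have hKR : K ≤ R := fun k hk => ⟨c.leE hk, hΨN (c.powΨ hk)⟩
  have hRi : InvBy (opp F p E) R := fun α hα e he => ⟨afun_mem α he.1, by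
    rw [← afun_npow' α he.1]
    exact inv_mul_afun_mem (hΨN (hfix α hα _ (hNK he.2))) he.2⟩
  rcases irr R hKR (fun e he => he.1) hRn hRi with e | e
  · refine False.elim (h.false_of_triv c.hK.le fun α hα a ha => e ▸ ?_)
    have hq : a⁻¹ * afun α a ∈ E := E.mul_mem (E.inv_mem ha) (afun_mem α ha)
    refine ⟨hq, ?_⟩
    have h1 := hcongr a ha _ hq
    rw [mul_inv_cancel_left] at h1
    have h2 := hΨN (hfix α hα _ (c.pow_mem_K irr ha))
    rw [afun_npow' α ha] at h2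
    have := N.mul_mem h2 (N.inv_mem h1)
    rwa [mul_inv_rev, inv_inv, ← mul_assoc, mul_assoc (a ^ p)⁻¹, mul_inv_cancel, mul_one,
      inv_mul_cancel_left] at this
  · exact fun a ha => (e.ge ha).2

/-! ### `|S : K| = p ^ 4`: `E` is abelian modulo `K` and `Z(E' / K)` has order at most `p`. -/

section Four

variable (hA : ∀ a ∈ E, ∀ b ∈ E, ⟪a, b⟫ ∈ K)
  (hB : ∀ T : Subgroup Ω, T ≤ E' → (∀ z ∈ T, ∀ b ∈ E', ⟪z, b⟫ ∈ K) →
    Nat.card T ≤ p * Nat.card K)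
  (hS4 : Nat.card S = p ^ 4 * Nat.card K)

include hS4 in
theorem card_E4 (c : Cfg F p E E' K) : Nat.card E = p ^ 3 * Nat.card K :=
  Nat.eq_of_mul_eq_mul_left (Fact.out : p.Prime).pos (by rw [← c.h.m₁.card_eq, hS4]; ring)

include hA hB hS4 in
theorem irr4 (c : Cfg F p E E' K) : Irr F p E K := by
  intro X hKX hXE hXn hXi
  have h := c.h
  have hS := h.hS
  have hp := (Fact.out : p.Prime)
  have hE := c.card_E4 hS4
  rcases eq_or_ne X K with e | hXK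
  · exact Or.inl e
  refine Or.inr (by_contra fun hXE' => ?_)
  -- elements of `E` centralised by `x` lie in the centre of `E' / K`
  obtain ⟨x, hx', hxE⟩ := h.symm.exists_y
  have hxS : x ∈ S := h.m₂.le hx'
  have hcentral : ∀ r ∈ E, ⟪x, r⟫ ∈ K → ∀ s ∈ S, ⟪r, s⟫ ∈ K := by
    intro r hr hrx s hs
    have hrS := h.m₁.le hr
    obtain ⟨a, ha, i, rfl⟩ := h.m₁.exists_eq_mul hxS hxE hs
    exact pbr_swap (cMod_pbr (b := a * x ^ i) (T := {r}) (B := S) (Subgroup.mul_mem _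
      (mem_cMod c.nK le_rfl (h.m₁.le ha) (by rintro t rfl; exact hA a ha t hr))
      (Subgroup.zpow_mem _ (mem_cMod c.nK le_rfl hxS (by rintro t rfl; exact hrx)) i)) rfl)
  have hkey : ∀ r ∈ E, ⟪x, r⟫ ∈ K → r ∈ E' := fun r hr hrx => by
    by_contra hrE'
    obtain ⟨z, hz, hne⟩ := h.symm.not_central c.symm.hK.le c.hK.inv₂ (h.m₁.le hr) hrE'
    exact hne (hcentral r hr hrx z (h.m₂.le hz))
  obtain ⟨M, hKM, hMX, hMn, hMc⟩ :=
    exists_between hS (lt_of_le_of_ne hKX (Ne.symm hXK)) hXn.le c.nK.cj hXn.cj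
  rcases eq_or_lt_of_le hMX with hMX' | hMX'
  · -- a line
    subst hMX'
    let Z := cMod (E' : Set Ω) E' K
    have hMZ : M ≤ Z := fun m hm => by
      have h1 : ∀ s ∈ S, ⟪s, m⟫ ∈ K := fun s hs =>
        c.nK.step hS hXn hKM hMc.le hs hm
      have hm' : m ∈ E' := hkey m (hXE hm) (h1 x hxS)
      exact mem_cMod c.nK h.m₂.le hm' fun t ht => pbr_swap (h1 t (h.m₂.le ht))
    haveI := finite_of_le ((cMod_le (E' : Set Ω) E' K).trans h.m₂.le : Z ≤ S)
    have hMZ' : M = Z := Subgroup.eq_of_le_of_card_ge hMZ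
      (hMc ▸ hB Z (cMod_le _ _ _) fun z hz b hb => cMod_pbr hz hb)
    have hiS : Inv F S M := hMZ' ▸ invBy_cMod c.nK h.m₂.le h.m₂.le h.m₂.le h.c₂ h.c₂ c.hK.invS
    refine hXK (c.hmax M ⟨le_inf hXE (hMZ.trans (cMod_le _ _ _)), hiS,
      h.m₁.inv_of_opp hS h.hF hXE hiS hXi, hMZ' ▸ invBy_cMod c.nK h.m₂.le le_rfl le_rfl
        (fun α _ _ hy => afun_mem α hy) (fun α _ _ hy => afun_mem α hy) c.hK.inv₂⟩ hKM)
  -- a plane
  have hX2 : p ^ 2 * Nat.card K ≤ Nat.card X := by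
    have := mul_card_le_of_lt hS hXn.le hMX'
    rwa [hMc, ← mul_assoc, ← sq] at this
  have hX2' : Nat.card X ≤ p ^ 2 * Nat.card K := by
    have := mul_card_le_of_lt hS h.m₁.le (lt_of_le_of_ne hXE hXE')
    rw [hE, pow_succ', mul_assoc] at this
    exact Nat.le_of_mul_le_mul_left this hp.pos
  have hQc : Nat.card ↥(E ⊓ E') = p ^ 2 * Nat.card K :=
    Nat.eq_of_mul_eq_mul_left hp.pos (by rw [← h.card_inf_eq, hE]; ring)
  have hXQ : ¬ X ≤ E ⊓ E' := fun hle =>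
    h.not_inv (eq_of_le_of_card_ge (inf_le_left.trans h.m₁.le) hle (hQc ▸ hX2) ▸ hXi)
  let W₀ := X ⊓ (E ⊓ E')
  have hW₀n : Nrm S W₀ := hXn.inf c.nQ
  have hW₀X : Nat.card X ≤ p * Nat.card W₀ :=
    card_le_mul_inf h.m₁.le hXE inf_le_left (le_of_eq h.card_inf_eq)
  have hW₀K : Nat.card W₀ ≤ p * Nat.card K := by
    have h1 := mul_card_le_of_lt hS hXn.le
      (lt_of_le_of_ne (inf_le_left : W₀ ≤ X) fun e => hXQ (inf_eq_left.1 e))
    have h2 := h1.trans hX2'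
    rw [sq, mul_assoc] at h2
    exact Nat.le_of_mul_le_mul_left h2 hp.pos
  have hEW : ∀ e ∈ E, ⟪e, x⟫ ∈ W₀ := by
    intro e he
    have hW : E ⊓ E' ≤ cMod {x} E W₀ := fun q hq => mem_cMod hW₀n h.m₁.le hq.1 (by
      rintro t rfl
      exact pbr_swap (hW₀n.step hS c.nQ inf_le_right (by rw [hQc]; exact hX2.trans hW₀X) hxS hq))
    rcases eq_of_between hS h.m₁.le hW (cMod_le _ _ _) h.card_inf_eq.le with e' | e'
    · refine absurd (fun a ha => e' ▸ mem_cMod hW₀n h.m₁.le (hXE ha) ?_) hXQ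
      rintro t rfl
      exact pbr_swap (hW₀n.step hS hXn inf_le_left hW₀X hxS ha)
    · exact cMod_pbr (e'.ge he) rfl
  have h1 := card_le_count c.nK h.m₁.le hW₀n.le (le_inf hKX c.hK.le) hxS hEW hW₀K
  have h2 := hB (cMod {x} E K) (fun r hr => hkey r hr.1.1 (pbr_swap (cMod_pbr hr rfl)))
    fun r hr b hb => hcentral r hr.1.1 (pbr_swap (cMod_pbr hr rfl)) b (h.m₂.le hb)
  have h3 := h1.trans (Nat.mul_le_mul_left _ h2)
  rw [hE, ← mul_assoc, ← sq] at h3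
  haveI := finite_of_le c.leS
  exact absurd (Nat.le_of_mul_le_mul_right h3 Nat.card_pos)
    (not_le.2 (Nat.pow_lt_pow_right hp.one_lt (by norm_num)))

include hA hB hS4 in
theorem eq_bot4 (c : Cfg F p E E' K) : K = ⊥ := by
  by_contra hne
  have h := c.h
  have hS := h.hS
  have hp := (Fact.out : p.Prime)
  have hE := c.card_E4 hS4
  have irr := c.irr4 hA hB hS4
  haveI := finite_of_le c.leS
  have hK0 : 0 < Nat.card K := Nat.card_pos
  have hSK : ∀ g ∈ S, ∀ k ∈ K, ⟪g, k⟫ ∈ frat K := by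
    refine (c.all_or_none irr).resolve_right fun hle => ?_
    have := c.bound3.trans (Nat.mul_le_mul_left _ (Subgroup.card_le_of_le hle))
    rw [hS4] at this
    exact absurd (Nat.le_of_mul_le_mul_right this hK0)
      (not_le.2 (Nat.pow_lt_pow_right hp.one_lt (by norm_num)))
  -- a maximal subgroup `K₁` of `K` above `Φ(K)`
  haveI : Nontrivial K := (Subgroup.nontrivial_iff_ne_bot K).2 hne
  obtain ⟨M₀, hM₀⟩ : ∃ M : Subgroup K, IsCoatom M :=
    ((IsCoatomic.eq_top_or_exists_le_coatom (⊥ : Subgroup K)).resolve_left bot_ne_top).imp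
      fun M hM => hM.1
  let K₁ := M₀.map K.subtype
  have hK₁le : K₁ ≤ K := Subgroup.map_subtype_le _
  have hΨK₁ : frat K ≤ K₁ := Subgroup.map_mono (frattini_le_coatom hM₀)
  have hlt : K₁ < K := lt_of_le_of_ne hK₁le fun e => hM₀.1 (by
    rw [← Subgroup.comap_map_eq_self_of_injective K.subtype_injective M₀]
    show Subgroup.comap K.subtype K₁ = ⊤
    rw [e, Subgroup.comap_subtype, Subgroup.subgroupOf_self])
  have hK₁n : Nrm S K₁ := ⟨hlt.le.trans c.leS, fun g hg k hk => by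
    rw [cj_eq_pbr]; exact K₁.mul_mem (hΨK₁ (hSK g hg k (hK₁le hk))) hk⟩
  have hK₁c : Nat.card K = p * Nat.card K₁ := by
    obtain ⟨M, h1, h2, -, h4⟩ := exists_between hS hlt c.leS hK₁n.cj c.nK.cj
    refine h4 ▸ congrArg (fun X : Subgroup Ω => Nat.card X) ?_
    refine ((eq_or_lt_of_le h2).resolve_right fun hMK => ?_).symm
    have h5 : M₀ < M.subgroupOf K := by
      refine lt_of_le_of_ne (fun a ha => h1 ⟨a, ha, rfl⟩) fun e => ?_
      have h6 : Nat.card M = Nat.card K₁ := by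
        rw [show M = K₁ from (Subgroup.map_subgroupOf_eq_of_le h2).symm.trans (by rw [← e])]
      rw [h4] at h6
      haveI := finite_of_le (hlt.le.trans c.leS)
      have h0 : 0 < Nat.card K₁ := Nat.card_pos
      have := hp.two_le
      nlinarith
    exact hMK.ne (le_antisymm h2 (Subgroup.subgroupOf_eq_top.1 (hM₀.2 _ h5)))
  have hfix := h.m₁.opp_fix hS h.hF c.leE (frat_le K) c.hK.inv₁ c.invΨ c.nΨ hSK
  have hKbr : ∀ k ∈ K, ∀ e ∈ E, ⟪k, e⟫ ∈ K₁ := fun k hk e he =>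
    hΨK₁ (pbr_swap (hSK e (h.m₁.le he) k hk))
  -- the commutator form modulo `K₁`
  let R := cMod (E : Set Ω) E K₁
  have hKR : K ≤ R := fun k hk => mem_cMod hK₁n h.m₁.le (c.leE hk) (hKbr k hk)
  have hRi : InvBy (opp F p E) R := invBy_cMod hK₁n h.m₁.le le_rfl le_rfl
    (fun α _ _ hy => afun_mem α hy) (fun α _ _ hy => afun_mem α hy)
    fun α hα k hk => inv_mul_afun_mem (hΨK₁ (hfix α hα k (hK₁le hk))) hk
  have hab : ∀ a ∈ E, ∀ b ∈ E, ⟪a, b⟫ ∈ K₁ := by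
    rcases irr R hKR (cMod_le _ _ _) (nrm_cMod hK₁n h.m₁.nrm h.m₁.normal) hRi with e | e
    swap
    · exact fun a ha b hb => cMod_pbr (e.ge ha) hb
    exfalso
    have hEK : ¬ E ≤ K := fun hle => by
      haveI := h.m₁.finite
      have := Subgroup.card_le_of_le hle
      rw [hE] at this
      have : 1 < p ^ 3 := Nat.one_lt_pow (by norm_num) hp.one_lt
      nlinarith
    obtain ⟨a₀, ha₀, ha₀K⟩ := SetLike.not_le_iff_exists.1 hEK
    obtain ⟨b₀, hb₀, hab₀⟩ : ∃ b ∈ E, ⟪a₀, b⟫ ∉ K₁ := by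
      by_contra hcon
      push Not at hcon
      exact ha₀K (e ▸ mem_cMod hK₁n h.m₁.le ha₀ hcon)
    let R₀ := cMod {a₀} E K₁
    let R₁ := cMod {b₀} R₀ K₁
    have hR₀E : R₀ ≤ E := cMod_le _ _ _
    have hR₀S : R₀ ≤ S := hR₀E.trans h.m₁.le
    have h1 := card_le_count hK₁n h.m₁.le c.leS hK₁le (h.m₁.le ha₀)
      (fun b hb => hA b hb a₀ ha₀) hK₁c.le
    have h2 := card_le_count hK₁n hR₀S c.leS hK₁le (h.m₁.le hb₀)
      (fun b hb => hA b (hR₀E hb) b₀ hb₀) hK₁c.le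
    have hR₁c : p * Nat.card K ≤ Nat.card R₁ := by
      have := h1.trans (Nat.mul_le_mul_left _ h2)
      rw [hE, show p ^ 3 * Nat.card K = p * (p * (p * Nat.card K)) by ring] at this
      exact Nat.le_of_mul_le_mul_left (Nat.le_of_mul_le_mul_left this hp.pos) hp.pos
    obtain ⟨d, hd, hdK⟩ : ∃ d ∈ R₁, d ∉ K := SetLike.not_le_iff_exists.1 fun hle => by
      have := hR₁c.trans (Subgroup.card_le_of_le hle)
      have := hp.two_le
      nlinarith
    have hdE : d ∈ E := hR₀E hd.1.1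
    let W := cMod {d} E K₁
    have hKW : K ≤ W := fun k hk => mem_cMod hK₁n h.m₁.le (c.leE hk)
      (by rintro t rfl; exact hKbr k hk t hdE)
    have ha₀W : a₀ ∈ W := mem_cMod hK₁n h.m₁.le ha₀
      (by rintro t rfl; exact pbr_swap (cMod_pbr hd.1.1 rfl))
    have hb₀W : b₀ ∈ W := mem_cMod hK₁n h.m₁.le hb₀
      (by rintro t rfl; exact pbr_swap (cMod_pbr hd rfl))
    have hdW : d ∈ W := mem_cMod hK₁n h.m₁.le hdE
      (by rintro t rfl; rw [pbr_self]; exact K₁.one_mem)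
    have hKR₀ : K ≤ R₀ := fun k hk => mem_cMod hK₁n h.m₁.le (c.leE hk)
      (by rintro t rfl; exact hKbr k hk t ha₀)
    have hKR₁ : K ≤ R₁ := fun k hk => mem_cMod hK₁n hR₀S (hKR₀ hk)
      (by rintro t rfl; exact hKbr k hk t hb₀)
    have hWS : W ≤ S := (cMod_le _ _ _).trans h.m₁.le
    have s1 : K < W ⊓ R₁ := lt_of_le_of_ne (le_inf hKW hKR₁) fun e' => hdK (e'.ge ⟨hdW, hd⟩)
    have s2 : W ⊓ R₁ < W ⊓ R₀ := lt_of_le_of_ne (inf_le_inf_left _ (cMod_le _ _ _)) fun e' => by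
      have ha₁ : a₀ ∈ W ⊓ R₀ := ⟨ha₀W, mem_cMod hK₁n h.m₁.le ha₀
        (by rintro t rfl; rw [pbr_self]; exact K₁.one_mem)⟩
      exact hab₀ (cMod_pbr (e'.ge ha₁).2 rfl)
    have s3 : W ⊓ R₀ < W := lt_of_le_of_ne inf_le_left fun e' =>
      hab₀ (pbr_swap (cMod_pbr ((inf_eq_left.1 e') hb₀W) rfl))
    have c1 := mul_card_le_of_lt hS (inf_le_left.trans hWS) s1
    have c2 := mul_card_le_of_lt hS (inf_le_left.trans hWS) s2
    have c3 := mul_card_le_of_lt hS hWS s3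
    have hWE : W = E := eq_of_le_of_card_ge h.m₁.le (cMod_le _ _ _) (by
      rw [hE, show p ^ 3 * Nat.card K = p * (p * (p * Nat.card K)) by ring]
      exact (Nat.mul_le_mul_left _ ((Nat.mul_le_mul_left _ c1).trans c2)).trans c3)
    exact hdK (e ▸ mem_cMod hK₁n h.m₁.le hdE fun t ht => pbr_swap (cMod_pbr (hWE.ge ht) rfl))
  have hsec := section_card h.rk h.m₁.le (hK₁le.trans c.leE)
    (fun e he y hy => hK₁n.cj e (h.m₁.le he) y hy)
    (fun a ha b hb => by simpa [cj_apply] using hab a ha b hb)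
    (c.pow_mem irr hSK hK₁n hΨK₁ hK₁le)
  rw [hE, hK₁c, ← mul_assoc, ← pow_succ] at hsec
  haveI := finite_of_le (hlt.le.trans c.leS)
  exact absurd (Nat.le_of_mul_le_mul_right hsec Nat.card_pos)
    (not_le.2 (Nat.pow_lt_pow_right hp.one_lt (by norm_num)))

end Four

end Cfg

end Cfsg.Agent.Rank3
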