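import Mathlib
import Cfsg.Agent.Lib.Rank3PairFour34
import Cfsg.Agent.Lib.Rank3PairQuot34
import Cfsg.Agent.Lib.Rank3Engine34

/-!
Two maximal essential subgroups invariant under `Aut_F(S)` have no nontrivial common invariant
subgroup (S5189).
-/

set_option autoImplicit false
set_option linter.unusedSectionVars false
set_option linter.style.haveILetI false

namespace Cfsg.Agent.Rank3

open Cfsg Cfsg.FusionSystem Cfsg.Agent.FusionSysBasic Cfsg.Agent.FusionSysSaturated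
  Cfsg.Agent.FusionSysAlperin Cfsg.Agent.FusionSysNormal

universe u

variable {Ω : Type u} [Group Ω] {S : Subgroup Ω} [Finite S] {p : ℕ} [Fact p.Prime]
  {F : FusionSystem S}

local notation "⟪" a ", " b "⟫" => (cj a b * b⁻¹)

namespace Cfg

variable {E E' K : Subgroup Ω}

/-- The shape of `S / K`. -/
theorem shape (c : Cfg F p E E' K) : QuotShape S p E E' K :=
  quot_shape (fun _ _ h => h.not_inv) (fun _ _ hc => engine hc) c.h c.hK c.hmax

section Three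

variable (hS3 : Nat.card S = p ^ 3 * Nat.card K)

include hS3 in
theorem card_E3 (c : Cfg F p E E' K) : Nat.card E = p ^ 2 * Nat.card K :=
  Nat.eq_of_mul_eq_mul_left (Fact.out : p.Prime).pos (by rw [← c.h.m₁.card_eq, hS3]; ring)

include hS3 in
theorem card_Q3 (c : Cfg F p E E' K) : Nat.card ↥(E ⊓ E') = p * Nat.card K :=
  Nat.eq_of_mul_eq_mul_left (Fact.out : p.Prime).pos
    (by rw [← c.h.card_inf_eq, c.card_E3 hS3]; ring)

include hS3 in
theorem irr3 (c : Cfg F p E E' K) : Irr F p E K := by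
  intro X hKX hXE hXn hXi
  have h := c.h
  have hp := (Fact.out : p.Prime)
  rcases eq_or_ne X K with e | hXK
  · exact Or.inl e
  refine Or.inr (by_contra fun hXE' => ?_)
  have h1 := mul_card_le_of_lt h.hS hXn.le (lt_of_le_of_ne hKX (Ne.symm hXK))
  have h2 : Nat.card X ≤ p * Nat.card K := by
    have := mul_card_le_of_lt h.hS h.m₁.le (lt_of_le_of_ne hXE hXE')
    rw [c.card_E3 hS3, sq, mul_assoc] at this
    exact Nat.le_of_mul_le_mul_left this hp.pos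
  have hXQ : ¬ X ≤ E ⊓ E' := fun hle => h.not_inv
    (eq_of_le_of_card_ge c.nQ.le hle ((c.card_Q3 hS3).le.trans h1) ▸ hXi)
  obtain ⟨x, hx', hxE⟩ := h.symm.exists_y
  have hxS : x ∈ S := h.m₂.le hx'
  obtain ⟨z, hz, hne⟩ := h.not_central c.hK.le c.hK.inv₁ hxS hxE
  have hmem : ∀ {B : Subgroup Ω}, Nrm S B → K ≤ B → Nat.card B ≤ p * Nat.card K → B ≤ E →
      B ≤ cMod {x} E K := fun hB hKB hc hBE a ha => mem_cMod c.nK h.m₁.le (hBE ha)
        (by rintro t rfl; exact pbr_swap (c.nK.step h.hS hB hKB hc hxS ha))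
  rcases eq_of_between h.hS h.m₁.le (hmem c.nQ c.hK.le (c.card_Q3 hS3).le inf_le_left)
    (cMod_le _ _ _) h.card_inf_eq.le with e | e
  · exact hXQ ((hmem hXn hKX h2 hXE).trans e.le)
  · exact hne (pbr_swap (cMod_pbr (e.ge hz) rfl))

include hS3 in
/-- The centraliser of `E` in `K / Φ(K)` is no subgroup of order `p` of index above `p`. -/
theorem no_small (c : Cfg F p E E' K) {H : Subgroup Ω} (hH : H = cMod (E : Set Ω) K (frat K))
    (hc1 : Nat.card H ≤ p * Nat.card (frat K)) (hc2 : Nat.card K ≤ p ^ 2 * Nat.card H)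
    (hbig : ¬ Nat.card K ≤ p * Nat.card H) : False := by
  have h := c.h
  have hS := h.hS
  have hp := (Fact.out : p.Prime)
  have irr := c.irr3 hS3
  have hKn := c.nK
  have hHK : H ≤ K := hH ▸ cMod_le _ _ _
  have hHn : Nrm S H := hH ▸ nrm_cMod c.nΨ hKn h.m₁.normal
  have hHi : Inv F E H := hH ▸ invBy_cMod c.nΨ c.leS c.leE le_rfl
    (fun α _ _ hy => afun_mem α hy) c.hK.inv₁ c.invΨ
  have hΨH : frat K ≤ H := hH ▸ fun k hk => mem_cMod c.nΨ c.leS (frat_le K hk)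
    fun t ht => pbr_swap (c.nΨ.pbr_left hk (h.m₁.le ht))
  have hEH : ∀ e ∈ E, ∀ k ∈ H, ⟪e, k⟫ ∈ frat K := fun e he k hk =>
    pbr_swap (cMod_pbr (b := k) (T := (E : Set Ω)) (B := K) (hH ▸ hk) he)
  haveI := finite_of_le c.leS
  have hK0 : 0 < Nat.card K := Nat.card_pos
  have hE := c.card_E3 hS3
  have hne : ¬ Nat.card E ≤ p * Nat.card K := fun hle => by
    rw [hE] at hle
    exact absurd (Nat.le_of_mul_le_mul_right hle hK0) (not_le.2 (by nlinarith [hp.two_le]))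
  -- `[E, K] ≤ H`
  have hEKH : ∀ e ∈ E, ∀ k ∈ K, ⟪e, k⟫ ∈ H := by
    rcases irr (cMod (K : Set Ω) E H)
      (fun k hk => mem_cMod hHn h.m₁.le (c.leE hk) fun t ht => hΨH (c.kkΨ hk ht)) (cMod_le _ _ _)
      (nrm_cMod hHn h.m₁.nrm hKn.cj)
      ((invBy_cMod hHn h.m₁.le le_rfl c.leE c.hK.inv₁ (fun α _ _ hy => afun_mem α hy) hHi).mono
        (Rank3.opp_le F p E)) with e | e
    · exfalso
      obtain ⟨M, hMn, hHM, hMK, hMc, hKM⟩ := exists_step hS hHn hKn hHK (n := 1) hc2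
      rw [pow_one] at hKM
      have := step_bound hS hHn hMK c.leS hKM h.m₁.le hMn.le hHM
        (fun g hg k hk => hHn.step hS hMn hHM hMc (h.m₁.le hg) hk)
        (fun g hg k hk => hMn.step hS hKn hMK hKM (h.m₁.le hg) hk) hMc
      rw [e] at this
      exact hne this
    · exact fun a ha k hk => cMod_pbr (e.ge ha) hk
  -- commutators of `E` lie in `H`
  obtain ⟨y, hy, hy'⟩ := h.exists_y
  obtain ⟨z, hz, hgen⟩ := exists_gen_mod hS c.hK.le c.nQ.le (c.card_Q3 hS3).le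
  let w := ⟪y, z⟫
  have hwK : w ∈ K := c.comm_mem_K irr hy hz.1
  let P := H ⊔ Subgroup.zpowers w
  have hPK : P ≤ K := sup_le hHK (Subgroup.zpowers_le.2 hwK)
  have hTE : Subgroup.closure ({y, z} ∪ (K : Set Ω)) = E := by
    refine le_antisymm ((Subgroup.closure_le _).2 ?_) fun a ha => ?_
    · rintro t ((rfl | rfl) | ht)
      exacts [hy, hz.1, c.leE ht]
    have hQ : E ⊓ E' ≤ Subgroup.closure ({y, z} ∪ (K : Set Ω)) :=
      hgen _ (fun k hk => Subgroup.subset_closure (Or.inr hk))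
        (Subgroup.subset_closure (Or.inl (Or.inr rfl)))
    obtain ⟨b, hb, i, rfl⟩ := h.m₂.exists_eq_mul (h.m₁.le hy) hy' (h.m₁.le ha)
    have hbE : b ∈ E := by
      have := E.mul_mem ha (E.inv_mem (E.zpow_mem hy i)); rwa [mul_inv_cancel_right] at this
    have hyT : y ∈ Subgroup.closure ({y, z} ∪ (K : Set Ω)) :=
      Subgroup.subset_closure (Or.inl (Or.inl rfl))
    exact mul_mem (hQ ⟨hbE, hb⟩) (Subgroup.zpow_mem _ hyT i)
  have hPE : ∀ e ∈ E, ∀ u ∈ P, cj e u ∈ P := fun e he u hu => by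
    rw [cj_eq_pbr]; exact P.mul_mem (Subgroup.mem_sup_left (hEKH e he u (hPK hu))) hu
  have hcomm : ∀ a ∈ E, ∀ b ∈ E, ⟪a, b⟫ ∈ P := by
    intro a ha b hb
    rw [cj_apply]
    refine gen_comm (T := {y, z} ∪ (K : Set Ω)) (fun k hk u hu => hPE k (hTE.le hk) u hu) ?_ a
      (hTE.ge ha) b (hTE.ge hb)
    have key : ∀ a ∈ E, ∀ k ∈ K, ⟪a, k⟫ ∈ P := fun a ha k hk =>
      Subgroup.mem_sup_left (hEKH a ha k hk)
    intro a ha b hb
    have haE : a ∈ E := hTE.le (Subgroup.subset_closure ha)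
    have hbE : b ∈ E := hTE.le (Subgroup.subset_closure hb)
    rw [← cj_apply]
    have hw' : w ∈ P := Subgroup.mem_sup_right (Subgroup.mem_zpowers w)
    rcases ha with (rfl | rfl) | ha <;> rcases hb with (rfl | rfl) | hb <;>
      first
        | exact hw' | exact pbr_swap hw' | (rw [pbr_self]; exact one_mem _)
        | exact key _ haE _ hb | exact pbr_swap (key _ hbE _ ha)
  have hPi : Inv F E P := by
    refine invBy_of_img_le (hPK.trans c.leE) fun α hα => ?_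
    rw [img, Subgroup.subgroupOf_sup (hHK.trans c.leE) (Subgroup.zpowers_le.2 (c.leE hwK)),
      Subgroup.map_sup, Subgroup.map_sup]
    refine sup_le ((img_le_of_invBy (hHK.trans c.leE) hHi hα).trans le_sup_left) fun u hu => ?_
    obtain ⟨v, ⟨i, rfl⟩, rfl⟩ := (mem_img (Subgroup.zpowers_le.2 (c.leE hwK))).1 hu
    rw [afun_zpow α (c.leE hwK), afun_pbr α hy hz.1]
    exact P.zpow_mem (hcomm _ (afun_mem α hy) _ (afun_mem α hz.1)) i
  have hPn : Nrm S P := h.m₁.nrm_of_inv (hPK.trans c.leE) hPi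
  have hPc := nrm_card_sup_zpowers hHn (c.leS hwK) (hΨH (c.powΨ hwK))
  have hPH : P ≤ H := by
    rcases irr (cMod (P : Set Ω) E (frat K))
      (fun k hk => mem_cMod c.nΨ h.m₁.le (c.leE hk) fun t ht => c.kkΨ hk (hPK ht))
      (cMod_le _ _ _) (nrm_cMod c.nΨ h.m₁.nrm hPn.cj)
      ((invBy_cMod c.nΨ h.m₁.le le_rfl (hPK.trans c.leE) hPi (fun α _ _ hy => afun_mem α hy)
        c.invΨ).mono (Rank3.opp_le F p E)) with e | e
    · exfalso
      have := step_bound hS c.nΨ (le_sup_left : H ≤ P) hPn.le hPc h.m₁.le hHn.le hΨH hEH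
        (fun g hg k hk => hEKH g hg k (hPK hk)) hc1
      rw [e] at this
      exact hne this
    · exact fun u hu => hH ▸ mem_cMod c.nΨ c.leS (hPK hu)
        fun t ht => pbr_swap (cMod_pbr (e.ge ht) hu)
  have hpow : ∀ e ∈ E, e ^ p ∈ H := fun e he => hH ▸ mem_cMod c.nΨ c.leS (c.pow_mem_K irr he)
    fun t ht => pbr_pow_mod c.nΨ (h.m₁.le he) (h.m₁.le ht)
      (hEH e he _ (hPH (hcomm e he t ht))) p (c.powΨ (c.comm_mem_K irr he ht))
  have hsec := section_card h.rk h.m₁.le (hHK.trans c.leE)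
    (fun e he k hk => hHn.cj e (h.m₁.le he) k hk)
    (fun a ha b hb => by simpa [cj_apply] using hPH (hcomm a ha b hb)) hpow
  rw [hE] at hsec
  apply hbig
  refine Nat.le_of_mul_le_mul_left ?_ (pow_pos hp.pos 2)
  calc p ^ 2 * Nat.card K ≤ p ^ 3 * Nat.card H := hsec
    _ = p ^ 2 * (p * Nat.card H) := by ring

include hS3 in
theorem sk3 (c : Cfg F p E E' K) : ∀ g ∈ S, ∀ k ∈ K, ⟪g, k⟫ ∈ frat K := by
  have h := c.h
  have hS := h.hS
  have hp := (Fact.out : p.Prime)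
  have hS3' : Nat.card S = p ^ 3 * Nat.card K := hS3
  refine (c.all_or_none (c.irr3 hS3)).resolve_right fun hCK => ?_
  haveI := finite_of_le c.leS
  have hK0 : 0 < Nat.card K := Nat.card_pos
  have hno : ¬ Nat.card S ≤ p ^ 2 * Nat.card ↥(cMod (K : Set Ω) S (frat K)) := fun hle => by
    have := hle.trans (Nat.mul_le_mul_left _ (Subgroup.card_le_of_le hCK))
    rw [hS3] at this
    exact absurd (Nat.le_of_mul_le_mul_right this hK0)
      (not_le.2 (Nat.pow_lt_pow_right hp.one_lt (by norm_num)))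
  have hEK : ∀ {A A' : Subgroup Ω}, Cfg F p A A' K →
      ¬ A ≤ cMod (K : Set Ω) S (frat K) := fun {A A'} d hle => by
    haveI := d.h.m₁.finite
    have := Subgroup.card_le_of_le (hle.trans hCK)
    rw [d.card_E3 hS3'] at this
    exact absurd this (not_le.2 (lt_mul_of_one_lt_left hK0
      (Nat.one_lt_pow (by norm_num) hp.one_lt)))
  have hK3 := card_le_frat hS h.rk c.leS
  have hbig : ¬ Nat.card K ≤ p ^ 2 * Nat.card (frat K) := fun hle => by
    obtain ⟨M, hMn, hΨM, hMK, hMc, hKM⟩ := exists_step hS c.nΨ c.nK (frat_le K) (n := 1) hle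
    rw [pow_one] at hKM
    exact hno ((step_bound hS c.nΨ hMK c.leS hKM le_rfl hMn.le hΨM
      (fun g hg k hk => c.nΨ.step hS hMn hΨM hMc hg hk)
      (fun g hg k hk => hMn.step hS c.nK hMK hKM hg hk) hMc).trans
        (Nat.mul_le_mul_right _ (Nat.le_self_pow (by norm_num) p)))
  -- the centraliser of `A` in `K / Φ(K)` has index `p`
  have hidx : ∀ {A A' : Subgroup Ω}, Cfg F p A A' K →
      Nat.card K ≤ p * Nat.card ↥(cMod (A : Set Ω) K (frat K)) := by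
    intro A A' d
    by_contra hsm
    set H := cMod (A : Set Ω) K (frat K) with hHdef
    have hHn : Nrm S H := nrm_cMod c.nΨ c.nK d.h.m₁.normal
    have hΨH : frat K ≤ H := fun k hk => mem_cMod c.nΨ c.leS (frat_le K hk)
      fun t ht => pbr_swap (c.nΨ.pbr_left hk (d.h.m₁.le ht))
    have hlt : frat K < K := lt_of_le_of_ne (frat_le K) fun e => hbig (by
      rw [e]; exact Nat.le_mul_of_pos_left _ (pow_pos hp.pos 2))
    obtain ⟨M, hΨM, hMK, hMn, hMc⟩ := exists_between hS hlt c.leS c.nΨ.cj c.nK.cj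
    have hMH : M ≤ H := fun m hm => mem_cMod c.nΨ c.leS (hMK hm) fun t ht =>
      pbr_swap (c.nΨ.step hS ⟨hMK.trans c.leS, hMn⟩ hΨM hMc.le (d.h.m₁.le ht) hm)
    haveI := finite_of_le hHn.le
    have h1 : p * Nat.card (frat K) ≤ Nat.card H := hMc ▸ Subgroup.card_le_of_le hMH
    have hc2 : Nat.card K ≤ p ^ 2 * Nat.card H := hK3.trans (by
      rw [pow_succ p 2, mul_assoc]; exact Nat.mul_le_mul_left _ h1)
    have hc1 : Nat.card H ≤ p * Nat.card (frat K) := by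
      obtain ⟨i, hi⟩ := dvd_card_p hS c.leS
      obtain ⟨j, hj⟩ := dvd_card_p hS hHn.le
      obtain ⟨l, hl⟩ := dvd_card_p hS c.nΨ.le
      rw [hi, hj] at hsm
      rw [hi, hl, ← pow_add] at hK3
      rw [hj, hl, ← pow_succ']
      rw [← pow_succ', not_le] at hsm
      have a1 := (Nat.pow_lt_pow_iff_right hp.one_lt).1 hsm
      have a2 := (Nat.pow_le_pow_iff_right hp.one_lt).1 hK3
      exact Nat.pow_le_pow_right hp.pos (by omega)
    exact d.no_small hS3' hHdef hc1 hc2 hsm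
  set H := cMod (E : Set Ω) K (frat K)
  set H' := cMod (E' : Set Ω) K (frat K)
  have hH := hidx c
  have hH' := hidx c.symm
  have hn : Nrm S H := nrm_cMod c.nΨ c.nK h.m₁.normal
  have hn' : Nrm S H' := nrm_cMod c.nΨ c.nK h.m₂.normal
  have hHlt : H < K := lt_of_le_of_ne (cMod_le _ _ _) fun e => hEK c fun g hg =>
    mem_cMod c.nΨ le_rfl (h.m₁.le hg) fun t ht => pbr_swap (cMod_pbr (e.ge ht) hg)
  have hH2 : Nat.card H ≤ p ^ 2 * Nat.card (frat K) := by
    have := (mul_card_le_of_lt hS c.leS hHlt).trans hK3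
    rw [pow_succ', mul_assoc] at this
    exact Nat.le_of_mul_le_mul_left this hp.pos
  have hΨ : ∀ {A : Subgroup Ω}, A ≤ S → frat K ≤ cMod (A : Set Ω) K (frat K) := fun hA k hk =>
    mem_cMod c.nΨ c.leS (frat_le K hk) fun t ht => pbr_swap (c.nΨ.pbr_left hk (hA ht))
  by_cases hle : H ≤ H'
  · -- `S` centralises `H`
    refine hno (step_bound hS c.nΨ hHlt.le c.leS hH le_rfl hn.le (hΨ h.m₁.le) ?_
      (fun g hg k hk => hn.step hS c.nK hHlt.le hH hg hk) hH2)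
    intro g hg k hk
    obtain ⟨x, hx', hxE⟩ := h.symm.exists_y
    obtain ⟨a, ha, i, rfl⟩ := h.m₁.exists_eq_mul (h.m₂.le hx') hxE hg
    rw [pbr_mul_left]
    exact mul_mem (c.nΨ.cj a (h.m₁.le ha) _ (pbr_swap (cMod_pbr (hle hk) (E'.zpow_mem hx' i))))
      (pbr_swap (cMod_pbr hk ha))
  -- `S` centralises `K / (H ⊓ H')`
  set Z := H ⊓ H'
  have hZn : Nrm S Z := hn.inf hn'
  have hΨZ : frat K ≤ Z := le_inf (hΨ h.m₁.le) (hΨ h.m₂.le)
  have hZH : Nat.card H ≤ p * Nat.card Z := card_le_mul_inf c.leS hHlt.le (cMod_le _ _ _) hH'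
  have hZΨ : Nat.card Z ≤ p * Nat.card (frat K) := by
    have := (mul_card_le_of_lt hS hn.le
      (lt_of_le_of_ne (inf_le_left : Z ≤ H) fun e => hle (inf_eq_left.1 e))).trans hH2
    rw [sq, mul_assoc] at this
    exact Nat.le_of_mul_le_mul_left this hp.pos
  have hZ' : Nat.card H' ≤ p * Nat.card Z := by
    show _ ≤ p * Nat.card ↥(H ⊓ H')
    rw [inf_comm]; exact card_le_mul_inf c.leS (cMod_le _ _ _) hHlt.le hH
  have hSZ : ∀ g ∈ S, ∀ k ∈ K, ⟪g, k⟫ ∈ Z := by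
    intro g hg k hk
    have hW : ∀ {B : Subgroup Ω}, Nrm S B → Z ≤ B → B ≤ K → Nat.card B ≤ p * Nat.card Z →
        B ≤ cMod {g} K Z := fun hB hZB hBK hc b hb => mem_cMod hZn c.leS (hBK hb)
          (by rintro t rfl; exact pbr_swap (hZn.step hS hB hZB hc hg hb))
    rcases eq_of_between hS c.leS (hW hn' inf_le_right (cMod_le _ _ _) hZ') (cMod_le _ _ _) hH'
      with e | e
    · exact absurd ((hW hn inf_le_left hHlt.le hZH).trans e.le) hle
    · exact pbr_swap (cMod_pbr (e.ge hk) rfl)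
  have hC2 := step_bound hS c.nΨ (inf_le_left : Z ≤ H) hn.le hZH le_rfl hZn.le hΨZ
    (fun g hg u hu => c.nΨ.step hS hZn hΨZ hZΨ hg hu)
    (fun g hg u hu => hSZ g hg u (hHlt.le hu)) hZΨ
  have hC1 := step_bound hS c.nΨ hHlt.le c.leS hH (cMod_le (H : Set Ω) S (frat K)) hZn.le hΨZ
    (fun g hg u hu => cMod_pbr hg hu) (fun g hg u hu => hSZ g hg.1.1 u hu) hZΨ
  haveI := finite_of_le (cMod_le (K : Set Ω) S (frat K))
  refine hno (hC2.trans ((Nat.mul_le_mul_left _ (hC1.trans (Nat.mul_le_mul_left _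
    (Subgroup.card_le_of_le fun b hb => mem_cMod c.nΨ le_rfl hb.1.1.1.1
      fun t ht => cMod_pbr hb ht)))).trans (le_of_eq (by ring))))

include hS3 in
/-- `E` is abelian modulo any `N ≤ K` modulo which `S` centralises `K`. -/
theorem comm_le3 (c : Cfg F p E E' K) (hSK : ∀ g ∈ S, ∀ k ∈ K, ⟪g, k⟫ ∈ frat K)
    {N : Subgroup Ω} (hN : Nrm S N) (hNK : N ≤ K) (hNi : Inv F E' N)
    (hSN : ∀ g ∈ S, ∀ k ∈ K, ⟪g, k⟫ ∈ N) : ∀ a ∈ E, ∀ b ∈ E, ⟪a, b⟫ ∈ N := by
  classical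
  have h := c.h
  have hS := h.hS
  have hp := (Fact.out : p.Prime)
  have hS3' : Nat.card S = p ^ 3 * Nat.card K := hS3
  have irr := c.irr3 hS3
  have irr' := c.symm.irr3 hS3'
  have hKE' : K ≤ E' := c.symm.leE
  obtain ⟨y, hy, hy'⟩ := h.exists_y
  have hyS : y ∈ S := h.m₁.le hy
  -- negation on `E' / K`
  haveI := h.m₂.finite
  haveI : (K.subgroupOf E').Normal := ⟨fun k hk e => c.nK.cj e (h.m₂.le e.2) k hk⟩
  letI : CommGroup (E' ⧸ K.subgroupOf E') :=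
    secComm fun a ha b hb => c.symm.comm_mem_K irr' ha hb
  let r : F.autGroup E' →* MulAut (E' ⧸ K.subgroupOf E') := secHom (F.autGroup E') le_rfl
    (fun α _ _ hv => afun_mem α hv) c.hK.inv₂
  have hr : ∀ (α : F.autGroup E') (v w : E'),
      r α v = w ↔ (afun (α : MulAut E') v)⁻¹ * (w : Ω) ∈ K := fun α v w =>
    quot_eq (resHom (F.autGroup E') le_rfl (fun α _ _ hv => afun_mem α hv) α v) w
  set cy := h.m₂.cHom ⟨y, hyS⟩
  have hcv : ∀ v : E', afun (cy : MulAut E') v = cj y v := fun v => h.m₂.afun_cHom _ v.2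
  have hfix : ∀ v : E', r cy v = v ↔ ⟪y, (v : Ω)⟫ ∈ K := fun v => by
    rw [hr, hcv]
    constructor
    · intro hh
      have := c.nK.cj (v : Ω) (h.m₂.le v.2) _ (K.inv_mem hh)
      rwa [show cj (v : Ω) ((cj y v)⁻¹ * (v : Ω))⁻¹ = ⟪y, (v : Ω)⟫ by
        simp only [cj_apply]; group] at this
    · intro hh
      have := K.inv_mem (c.nK.cj (v : Ω)⁻¹ (S.inv_mem (h.m₂.le v.2)) _ hh)
      rwa [show (cj (v : Ω)⁻¹ ⟪y, (v : Ω)⟫)⁻¹ = (cj y v)⁻¹ * v by
        simp only [cj_apply]; group] at this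
  have hQK : ∀ q ∈ E ⊓ E', ⟪y, q⟫ ∈ K := fun q hq =>
    c.nK.step hS c.nQ c.hK.le (c.card_Q3 hS3).le hyS hq
  have hcard' : Nat.card (E' ⧸ K.subgroupOf E') ≤ p ^ 2 := by
    have h1 := Subgroup.card_eq_card_quotient_mul_card_subgroup (K.subgroupOf E')
    rw [Nat.card_congr (Subgroup.subgroupOfEquivOfLe hKE').toEquiv, c.symm.card_E3 hS3'] at h1
    haveI := finite_of_le c.leS
    exact (Nat.eq_of_mul_eq_mul_right Nat.card_pos h1).ge
  have hinn : ∀ α : F.autGroup E', (α : MulAut E') ∈ Inn E' → r α = 1 := by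
    rintro α ⟨e, he⟩
    refine MulEquiv.ext fun v => ?_
    obtain ⟨v, rfl⟩ := QuotientGroup.mk_surjective v
    rw [MulAut.one_apply, hr]
    have h1 : afun (α : MulAut E') v = cj (e : Ω) v := by rw [← he, afun_apply _ v.2]; rfl
    rw [h1]
    have h2 := c.nK.cj (v : Ω)⁻¹ (S.inv_mem (h.m₂.le v.2)) _
      (c.symm.comm_mem_K irr' e.2 v.2)
    have h3 := K.inv_mem h2
    rwa [show (cj (v : Ω)⁻¹ ⟪(e : Ω), (v : Ω)⟫)⁻¹ = (cj (e : Ω) v)⁻¹ * v by
      simp only [cj_apply]; group] at h3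
  obtain ⟨j, hjO, -, -, hjneg, hjcomm⟩ := h.m₂.exists_neg_aut hS h.hF
    (sec_pow fun a ha => c.symm.pow_mem_K irr' ha)
    (hcard'.trans (Nat.pow_le_pow_right hp.pos (by norm_num))) r hinn hyS hy'
    (fun v => by
      obtain ⟨v, rfl⟩ := QuotientGroup.mk_surjective v
      have hv' : cj y (v : Ω) ∈ E' := h.m₂.normal y hyS v v.2
      have h2 : r cy v = ((⟨cj y v, hv'⟩ : E') : E' ⧸ K.subgroupOf E') := by
        rw [hr, hcv]; simp
      rw [h2, div_eq_mul_inv, ← QuotientGroup.mk_inv, ← QuotientGroup.mk_mul, hfix]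
      refine hQK _ ⟨?_, E'.mul_mem hv' (E'.inv_mem v.2)⟩
      exact pbr_swap (h.m₁.nrm.pbr_left hy (h.m₂.le v.2)))
    (by
      obtain ⟨e, he, hne⟩ := h.symm.not_central c.symm.hK.le c.hK.inv₂ hyS hy'
      exact ⟨((⟨e, he⟩ : E') : E' ⧸ K.subgroupOf E'), fun e' => hne ((hfix _).1 e')⟩)
    (by
      by_contra hcon
      push Not at hcon
      let R := cMod {y} E' K
      have hQR : E ⊓ E' ≤ R := fun q hq =>
        mem_cMod c.nK h.m₂.le hq.2 (by rintro t rfl; exact pbr_swap (hQK q hq))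
      have hRi : InvBy (opp F p E') R := fun α hα v hv => mem_cMod c.nK h.m₂.le (afun_mem α hv.1.1)
        (by
          rintro t rfl
          refine pbr_swap ((hfix ⟨afun α v, afun_mem α hv.1.1⟩).1 ?_)
          exact hcon ⟨α, Rank3.opp_le F p E' hα⟩ ((⟨v, hv.1.1⟩ : E') : E' ⧸ K.subgroupOf E')
            ((hfix ⟨v, hv.1.1⟩).2 (pbr_swap (cMod_pbr hv rfl))))
      rcases eq_of_between hS h.m₂.le hQR (cMod_le _ _ _)
        (by rw [inf_comm]; exact h.symm.card_inf) with e | e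
      · exact h.not_inv' (e ▸ hRi)
      · obtain ⟨z, hz, hne⟩ := h.symm.not_central c.symm.hK.le c.hK.inv₂ hyS hy'
        exact hne (pbr_swap (cMod_pbr (e.ge hz) rfl)))
  have hjv : ∀ v ∈ E', v * afun (j : MulAut E') v ∈ K := by
    intro v hv
    have h1 := hjneg hcard' ((⟨v, hv⟩ : E') : E' ⧸ K.subgroupOf E')
    rw [← QuotientGroup.mk_inv, hr] at h1
    simpa using K.inv_mem h1
  have hfixΨ := h.m₂.opp_fix hS h.hF hKE' (frat_le K) c.hK.inv₂ c.symm.invΨ c.nΨ hSK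
  have hfixN := h.m₂.opp_fix hS h.hF hKE' hNK c.hK.inv₂ hNi hN hSN
  have hΨE' : frat K ≤ frat E' := frat_le_of hS c.leS
    (fun a ha b hb _ => cj_mem_frat h.m₂.le h.m₂.normal (c.leS ha) hb)
    (fun a ha b hb => comm_mem_frat hS h.m₂.le (hKE' ha) (hKE' hb))
    fun a ha => pow_mem_frat hS h.m₂.le (hKE' ha)
  obtain ⟨δ, hδ, hδj, hδE'⟩ := h.m₂.exists_ext hS h.hF j.2 (fun g hg => by
    have hop : (j : MulAut E') * h.m₂.conjAut hg * (j : MulAut E')⁻¹ * (h.m₂.conjAut hg)⁻¹ ∈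
        opp F p E' :=
      mul_mem (mul_mem (mul_mem hjO (h.m₂.conjAut_mem_opp hS hg)) (inv_mem hjO))
        (inv_mem (h.m₂.conjAut_mem_opp hS hg))
    refine h.m₂.inn_of_two_step hS hKE' c.hK.inv₂ (Rank3.opp_le F p E' hop)
      (fun k hk => hΨE' (hfixΨ _ hop k hk)) fun z hz => ?_
    have h1 : r (j * h.m₂.cHom ⟨g, hg⟩ * j⁻¹ * (h.m₂.cHom ⟨g, hg⟩)⁻¹) = 1 := by
      rw [map_mul, map_mul, map_mul, map_inv, map_inv, (hjcomm ⟨g, hg⟩).eq,
        mul_inv_cancel_right, mul_inv_cancel]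
    have h2 : r (j * h.m₂.cHom ⟨g, hg⟩ * j⁻¹ * (h.m₂.cHom ⟨g, hg⟩)⁻¹)
        ((⟨z, hz⟩ : E') : E' ⧸ K.subgroupOf E') = ((⟨z, hz⟩ : E') : E' ⧸ K.subgroupOf E') := by
      rw [h1, MulAut.one_apply]
    rw [hr] at h2
    have h3 := K.inv_mem h2
    rwa [mul_inv_rev, inv_inv] at h3)
  -- `Q` is abelian modulo `N`
  have hNS := hN.cj
  have hQS : E ⊓ E' ≤ S := c.nQ.le
  obtain ⟨z₀, hz₀, hgen⟩ := exists_gen_mod hS c.hK.le hQS (c.card_Q3 hS3).le
  have hQQ : ∀ a ∈ E ⊓ E', ∀ b ∈ E ⊓ E', ⟪a, b⟫ ∈ N := by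
    have hKmem : ∀ {a : Ω}, a ∈ S → K ≤ cMod {a} (E ⊓ E') N := fun ha k hk =>
      mem_cMod hN hQS (c.hK.le hk) (by rintro t rfl; exact pbr_swap (hSN _ ha k hk))
    have h0 : E ⊓ E' ≤ cMod {z₀} (E ⊓ E') N := hgen _ (hKmem (hQS hz₀))
      (mem_cMod hN hQS hz₀ (by rintro t rfl; rw [pbr_self]; exact N.one_mem))
    exact fun a ha b hb => cMod_pbr (hgen (cMod {b} (E ⊓ E') N) (hKmem (hQS hb))
      (mem_cMod hN hQS hz₀ (by rintro t rfl; exact pbr_swap (cMod_pbr (h0 hb) rfl))) ha) rfl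
  -- `[y, Q] ≤ N`
  have hyQ : ∀ z ∈ E ⊓ E', ⟪y, z⟫ ∈ N := by
    intro z hz
    set w := ⟪y, z⟫
    have hzS := hQS hz
    have hw : w ∈ K := hQK z hz
    have hwS : w ∈ S := c.leS hw
    have hδy : y⁻¹ * afun δ y ∈ E ⊓ E' :=
      ⟨E.mul_mem (E.inv_mem hy) (h.c₁ δ hδ y hy), hδE' y hyS⟩
    set q := y⁻¹ * afun δ y with hq
    set k := z * afun (j : MulAut E') z with hk
    have hkK : k ∈ K := hjv z hz.2
    set n₄ := w⁻¹ * afun (j : MulAut E') w with hn₄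
    have hn₄N : n₄ ∈ N := hfixN _ hjO w hw
    have e1 : afun δ w = ⟪y * q, z⁻¹ * k⟫ := by
      rw [afun_pbr δ hyS hzS, hδj z hz.2, hq, hk, mul_inv_cancel_left, inv_mul_cancel_left]
    have e2 : afun δ w = w * n₄ := by rw [hδj w (hKE' hw), hn₄, mul_inv_cancel_left]
    have m1 : cj y ⟪q, z⁻¹ * k⟫ ∈ N := hNS y hyS _
      (hQQ q hδy _ ((E ⊓ E').mul_mem ((E ⊓ E').inv_mem hz) (c.hK.le hkK)))
    have m2 : ⟪z⁻¹, w⁻¹⟫ ∈ N := hSN _ (S.inv_mem hzS) _ (K.inv_mem hw)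
    have m3 : cj z⁻¹ ⟪y, k⟫ ∈ N := hNS _ (S.inv_mem hzS) _ (hSN y hyS k hkK)
    have e3 : ⟪y * q, z⁻¹ * k⟫ = cj y ⟪q, z⁻¹ * k⟫ * (⟪z⁻¹, w⁻¹⟫ * w⁻¹ * cj z⁻¹ ⟪y, k⟫) := by
      rw [pbr_mul_left, pbr_mul_right y z⁻¹ k]
      congr 2
      simp only [w, cj_apply]; group
    rw [e3, e2] at e1
    set n1 := cj y ⟪q, z⁻¹ * k⟫
    set n2 := ⟪z⁻¹, w⁻¹⟫
    set n3 := cj z⁻¹ ⟪y, k⟫
    refine mem_of_sq h.hp hS hwS ?_
    have e4 : w = n1 * n2 * w⁻¹ * (n3 * n₄⁻¹) := by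
      have := congrArg (fun t => t * n₄⁻¹) e1
      simp only [mul_inv_cancel_right] at this
      exact this.trans (by group)
    have e5 : w * w = n1 * n2 * cj w⁻¹ (n3 * n₄⁻¹) := by
      nth_rewrite 1 [e4]
      simp only [cj_apply]; group
    rw [e5]
    exact N.mul_mem (N.mul_mem m1 m2) (hNS _ (S.inv_mem hwS) _ (N.mul_mem m3 (N.inv_mem hn₄N)))
  have hgenE : ∀ {B : Subgroup Ω}, E ⊓ E' ≤ B → B ≤ E → y ∈ B → E ≤ B := fun hQB hBE hyB => by
    rcases eq_of_between hS h.m₁.le hQB hBE h.card_inf_eq.le with e | e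
    · exact absurd (e ▸ hyB : y ∈ E ⊓ E').2 hy'
    · exact e.ge
  intro a ha b hb
  have hq : ∀ q ∈ E ⊓ E', E ≤ cMod {q} E N := fun q hq => hgenE
    (fun q' hq' => mem_cMod hN h.m₁.le hq'.1 (by rintro t rfl; exact hQQ q' hq' t hq))
    (cMod_le _ _ _) (mem_cMod hN h.m₁.le hy (by rintro t rfl; exact hyQ t hq))
  have hy1 : E ≤ cMod {y} E N := hgenE
    (fun q hq' => mem_cMod hN h.m₁.le hq'.1 (by rintro t rfl; exact pbr_swap (hyQ q hq')))
    (cMod_le _ _ _) (mem_cMod hN h.m₁.le hy (by rintro t rfl; rw [pbr_self]; exact N.one_mem))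
  exact cMod_pbr (hgenE (B := cMod {b} E N)
    (fun q hq' => mem_cMod hN h.m₁.le hq'.1
      (by rintro t rfl; exact pbr_swap (cMod_pbr (hq q hq' hb) rfl)))
    (cMod_le _ _ _)
    (mem_cMod hN h.m₁.le hy (by rintro t rfl; exact pbr_swap (cMod_pbr (hy1 hb) rfl))) ha) rfl

include hS3 in
theorem false3 (c : Cfg F p E E' K)
    (hsr : Cfsg.SectionalPRankLE p 3 S ∧ ¬ Cfsg.SectionalPRankLE p 2 S) (hO : F.core = ⊥) :
    False := by
  have h := c.h
  have hS := h.hS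
  have hp := (Fact.out : p.Prime)
  have hS3' : Nat.card S = p ^ 3 * Nat.card K := hS3
  have irr := c.irr3 hS3
  have hSK := c.sk3 hS3
  haveI := finite_of_le c.leS
  have hEΨ := c.comm_le3 hS3 hSK c.nΨ (frat_le K) c.symm.invΨ hSK
  -- `K` is cyclic
  have hK1 : Nat.card K ≤ p * Nat.card (frat K) := by
    have h1 := section_card h.rk h.m₁.le ((frat_le K).trans c.leE)
      (fun e he k hk => c.nΨ.cj e (h.m₁.le he) k hk)
      (fun a ha b hb => by simpa [cj_apply] using hEΨ a ha b hb)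
      (c.pow_mem irr hSK c.nΨ le_rfl (frat_le K))
    rw [c.card_E3 hS3, pow_succ p 2, mul_assoc] at h1
    exact Nat.le_of_mul_le_mul_left h1 (pow_pos hp.pos 2)
  obtain ⟨k, hk, hgen⟩ := exists_gen_mod hS (frat_le K) c.leS hK1
  have hKk : K = Subgroup.zpowers k := by
    have htop : Subgroup.zpowers (⟨k, hk⟩ : K) ⊔ frattini K = ⊤ := by
      refine Subgroup.map_injective K.subtype_injective ?_
      rw [Subgroup.map_sup, MonoidHom.map_zpowers, ← MonoidHom.range_eq_map, Subgroup.range_subtype]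
      exact le_antisymm (sup_le (Subgroup.zpowers_le.2 hk) (frat_le K))
        (hgen _ le_sup_right (Subgroup.mem_sup_left (Subgroup.mem_zpowers k)))
    have := congrArg (Subgroup.map K.subtype) (frattini_nongenerating htop)
    rw [MonoidHom.map_zpowers, ← MonoidHom.range_eq_map, Subgroup.range_subtype] at this
    exact this.symm
  have hKab : ∀ a ∈ K, ∀ b ∈ K, ⟪a, b⟫ ∈ (⊥ : Subgroup Ω) := by
    intro a ha b hb
    rw [hKk] at ha hb
    obtain ⟨i, rfl⟩ := ha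
    obtain ⟨l, rfl⟩ := hb
    rw [Subgroup.mem_bot, cj_apply]
    group
  -- `S` centralises `K`
  have hcent : ∀ {A A' : Subgroup Ω}, Cfg F p A A' K → ∀ a ∈ A, ∀ u ∈ K, cj a u = u := by
    intro A A' d
    have hbot : InvBy (F.autGroup A) (⊥ : Subgroup Ω) := fun α _ x hx => by
      rw [Subgroup.mem_bot] at hx ⊢
      rw [hx, afun_apply α A.one_mem]
      exact congrArg Subtype.val α.map_one
    rcases d.irr3 hS3' (cMod (K : Set Ω) A ⊥)
      (fun u hu => mem_cMod Nrm.bot d.h.m₁.le (d.leE hu) fun t ht => hKab u hu t ht)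
      (cMod_le _ _ _) (nrm_cMod Nrm.bot d.h.m₁.nrm d.nK.cj)
      ((invBy_cMod Nrm.bot d.h.m₁.le le_rfl d.leE d.hK.inv₁ (fun α _ _ hy => afun_mem α hy)
        hbot).mono (Rank3.opp_le F p A)) with e | e
    swap
    · intro a ha u hu
      exact mul_inv_eq_one.1 (Subgroup.mem_bot.1 (cMod_pbr (e.ge ha) hu))
    refine False.elim (d.h.false_of_triv d.hK.le fun α hα a ha => e.le (mem_cMod Nrm.bot d.h.m₁.le
      (A.mul_mem (A.inv_mem ha) (afun_mem α ha)) fun u hu => ?_))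
    have haS := d.h.m₁.le ha
    have hku : cj a k ∈ K := c.nK.cj a haS k hk
    obtain ⟨n, hn⟩ : ∃ n : ℤ, k ^ n = cj a k := Subgroup.mem_zpowers_iff.1 (hKk ▸ hku)
    have hpw : ∀ v ∈ K, cj a v = v ^ n := fun v hv => by
      obtain ⟨i, rfl⟩ := Subgroup.mem_zpowers_iff.1 (hKk ▸ hv)
      rw [show cj a (k ^ i) = cj a k ^ i from conj_zpow.symm, ← hn, ← zpow_mul, ← zpow_mul, mul_comm]
    have hu' : afun α⁻¹ u ∈ K :=
      d.hK.inv₁ _ (inv_mem (Rank3.opp_le F p A hα)) u hu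
    have e1 : cj (afun α a) u = cj a u := by
      have h1 := congrArg (afun α) (hpw _ hu')
      rwa [pafun_cj α ha (d.leE hu'), afun_zpow α (d.leE hu'), afun_apply_inv α (d.leE hu),
        ← hpw u hu] at h1
    rw [Subgroup.mem_bot, mul_inv_eq_one, ← cj_cj, e1, cj_inv_cj]
  have hSK0 : ∀ g ∈ S, ∀ u ∈ K, ⟪g, u⟫ ∈ (⊥ : Subgroup Ω) := by
    intro g hg u hu
    obtain ⟨x, hx', hxE⟩ := h.symm.exists_y
    obtain ⟨a, ha, i, rfl⟩ := h.m₁.exists_eq_mul (h.m₂.le hx') hxE hg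
    rw [Subgroup.mem_bot, mul_inv_eq_one, ← cj_cj, hcent c.symm _ (E'.zpow_mem hx' i) u hu,
      hcent c a ha u hu]
  have hbot : ∀ (A : Subgroup Ω), Inv F A (⊥ : Subgroup Ω) := fun A α _ x hx => by
    rw [Subgroup.mem_bot] at hx ⊢
    rw [hx, afun_apply α A.one_mem]
    exact congrArg Subtype.val α.map_one
  have hab := c.comm_le3 hS3 hSK Nrm.bot bot_le (hbot _) hSK0
  have hab' := c.symm.comm_le3 hS3' hSK Nrm.bot bot_le (hbot _) hSK0
  -- `Q` is central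
  have hQc : ∀ q ∈ E ⊓ E', ∀ g ∈ S, q * g = g * q := by
    intro q hq g hg
    obtain ⟨x, hx', hxE⟩ := h.symm.exists_y
    obtain ⟨a, ha, i, rfl⟩ := h.m₁.exists_eq_mul (h.m₂.le hx') hxE hg
    have hcm : ∀ {u v : Ω}, ⟪u, v⟫ ∈ (⊥ : Subgroup Ω) → Commute u v := fun {u v} huv => by
      rw [Subgroup.mem_bot, mul_inv_eq_one, cj_apply, mul_inv_eq_iff_eq_mul] at huv
      exact huv
    exact ((hcm (hab q hq.1 a ha)).mul_right (hcm (hab' q hq.2 _ (E'.zpow_mem hx' i)))).eq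
  have hall : ∀ R : Subgroup Ω, F.IsEssential p R → S ≤ Subgroup.normalizer (R : Set Ω) := by
    intro R hR g hg
    have hRS : R ≤ S := hR.1.1
    refine mem_normalizer_of_cj_le hRS fun r hr => ?_
    have hQR : E ⊓ E' ≤ R := fun q hq => centralizerIn_le_of_centric hR.1
      (mem_centralizerIn.mpr ⟨c.nQ.le hq, fun r' hr' => by
        rw [cj_apply, hQc q hq r' (hRS hr'), mul_inv_cancel_right]⟩)
    rw [cj_eq_pbr]
    exact R.mul_mem (hQR ⟨h.m₁.comm_mem hg (hRS hr), h.m₂.comm_mem hg (hRS hr)⟩) hr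
  have hctx := ctx_of_all_normal h.hp hS h.hF hsr hO hall
  obtain ⟨-, A, -, B, hB, hBx, hBc, -⟩ := engine_rank hctx hsr.2
  have hS4 : Nat.card S = p ^ 4 := by rw [(hctx.max B hB).card_eq, hBc]; ring
  have hKp : Nat.card K = p := Nat.eq_of_mul_eq_mul_left (pow_pos hp.pos 3)
    (by rw [← hS3, hS4]; ring)
  haveI := (hctx.max B hB).finite
  have hQB : E ⊓ E' ≤ B := fun q hq => centralizerIn_le_of_centric hB.1
    (mem_centralizerIn.mpr ⟨c.nQ.le hq, fun r hr => by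
      rw [cj_apply, hQc q hq r ((hctx.max B hB).le hr), mul_inv_cancel_right]⟩)
  have hle : Nat.card ↥(E ⊓ E') ≤ Nat.card (Subgroup.center B) :=
    Nat.card_le_card_of_injective (fun q => (⟨⟨(q : Ω), hQB q.2⟩, Subgroup.mem_center_iff.2 fun b =>
      Subtype.ext (hQc q q.2 b ((hctx.max B hB).le b.2)).symm⟩ : Subgroup.center B))
      fun a b e => Subtype.ext (congrArg (fun t : Subgroup.center B => ((t : B) : Ω)) e)
  rw [c.card_Q3 hS3, hKp, hBx.2] at hle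
  nlinarith [hp.two_le]

end Three

/-- There is no nontrivial common invariant subgroup. -/
theorem eq_bot (c : Cfg F p E E' K)
    (hsr : Cfsg.SectionalPRankLE p 3 S ∧ ¬ Cfsg.SectionalPRankLE p 2 S) (hO : F.core = ⊥) :
    K = ⊥ := by
  rcases c.shape with h3 | ⟨h4, A, B, hAB, hA, -, hB⟩
  · exact (c.false3 h3 hsr hO).elim
  · rcases hAB with ⟨rfl, rfl⟩ | ⟨rfl, rfl⟩
    · exact c.eq_bot4 (fun a ha b hb => by simpa [cj_apply] using hA a ha b hb)
        (fun T hT hc => hB T hT fun z hz b hb => by simpa [cj_apply] using hc z hz b hb) h4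
    · exact c.symm.eq_bot4 (fun a ha b hb => by simpa [cj_apply] using hA a ha b hb)
        (fun T hT hc => hB T hT fun z hz b hb => by simpa [cj_apply] using hc z hz b hb) h4

end Cfg

/-- The configuration of `Sp₄(p)` from two essential subgroups invariant under `Aut_F(S)`. -/
theorem Pair.concl {E E' : Subgroup Ω} (h : Pair F p E E')
    (hsr : Cfsg.SectionalPRankLE p 3 S ∧ ¬ Cfsg.SectionalPRankLE p 2 S) (hO : F.core = ⊥) :
    Concl S p {E, E'} := by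
  refine engine_rank ⟨h.hp, h.hS, h.hF, h.rk, ne_bot_of_not_rank hsr.2, ?_, ?_, ?_⟩ hsr.2
  · rintro P (rfl | rfl)
    exacts [h.m₁, h.m₂]
  · rintro P (rfl | rfl) α hα
    · exact Or.inl ((((mem_autGroup le_rfl).mp hα).restrict_to h.m₁.le).im_self fun x hx => h.c₁ α hα x hx)
    · exact Or.inr ((((mem_autGroup le_rfl).mp hα).restrict_to h.m₂.le).im_self fun x hx => h.c₂ α hα x hx)
  intro K _ hKS hall
  obtain ⟨hK₁, hK₁i⟩ := hall E (Or.inl rfl)
  obtain ⟨hK₂, hK₂i⟩ := hall E' (Or.inr rfl)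
  let 𝒦 : Set (Subgroup Ω) := {L | CommonInv F E E' L ∧ K ≤ L}
  have hfin : 𝒦.Finite := by
    haveI := h.m₁.finite
    refine Set.Finite.of_finite_image (f := fun L => L.subgroupOf E) (Set.toFinite _) ?_
    intro L₁ hL₁ L₂ hL₂ e
    have := congrArg (Subgroup.map E.subtype) e
    rwa [Subgroup.map_subgroupOf_eq_of_le (hL₁.1.le.trans inf_le_left),
      Subgroup.map_subgroupOf_eq_of_le (hL₂.1.le.trans inf_le_left)] at this
  obtain ⟨M, hM⟩ := hfin.exists_maximal ⟨K, ⟨le_inf hK₁ hK₂, hKS, hK₁i, hK₂i⟩, le_rfl⟩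
  have c : Cfg F p E E' M :=
    ⟨h, hM.1.1, fun K' h1 h2 => le_antisymm (hM.2 ⟨h1, hM.1.2.trans h2⟩ h2) h2⟩
  exact le_bot_iff.1 (c.eq_bot hsr hO ▸ hM.1.2)

end Cfsg.Agent.Rank3
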