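import Cfsg.Agent.Lib.Rank3Found34
import Cfsg.Agent.Lib.FusionFrattini88
import Cfsg.Agent.Lib.FusionSysAlperin

/-!
Alperin's theorem in the form: `F` is generated by `Aut_F(S)` and the groups `O^{p'}(Aut_F(E))` of
the essential subgroups `E`.
-/

set_option autoImplicit false
set_option linter.unusedSectionVars false

namespace Cfsg.Agent.Rank3

open Cfsg.FusionSystem Cfsg.Agent.FusionSysBasic Cfsg.Agent.FusionSysSaturated
  Cfsg.Agent.FusionSysAlperin

universe u

variable {Ω : Type u} [Group Ω] {S : Subgroup Ω} {F : FusionSystem S} {p : ℕ}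
  [Finite S] [Fact p.Prime]

theorem opp_conj_mem {R : Subgroup Ω} {a m : MulAut R} (ha : a ∈ F.autGroup R)
    (hm : m ∈ opp F p R) : a * m * a⁻¹ ∈ opp F p R := by
  have hle : (opp F p R).map (MulAut.conj a).toMonoidHom ≤ opp F p R := by
    rw [opp, MonoidHom.map_closure]
    refine Subgroup.closure_mono ?_
    rintro _ ⟨b, ⟨hb, k, hk⟩, rfl⟩
    exact ⟨mul_mem (mul_mem ha hb) (inv_mem ha), k, (MulAut.conj a).orderOf_eq b ▸ hk⟩
  exact hle ⟨m, hm, rfl⟩

theorem nHom_mem_opp (hS : IsPGroup p S) {R : Subgroup Ω} (hRS : R ≤ S)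
    (g : ↥(S ⊓ Subgroup.normalizer (R : Set Ω))) : nHom S R g ∈ opp F p R := by
  have h1 : nHom S R g ∈ autInducedBy S R := (autInducedBy_eq_range S R).ge ⟨g, rfl⟩
  refine Subgroup.subset_closure ⟨autInducedBy_le hRS h1, ?_⟩
  obtain ⟨k, hk⟩ := IsPGroup.iff_orderOf.mp (isPGroup_autInducedBy hS R) ⟨_, h1⟩
  exact ⟨k, by rwa [Subgroup.orderOf_mk] at hk⟩

theorem alperin_opp (hS : IsPGroup p S) (hF : F.IsSaturated p) {E : FusionSystem S}
    (hES : F.autGroup S ≤ E.autGroup S)
    (hE : ∀ R : Subgroup Ω, F.IsEssential p R → opp F p R ≤ E.autGroup R) : F ≤ E := by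
  refine le_of_mor ?_
  suffices ∀ (n : ℕ) (P : Subgroup Ω) (f : Ω → Ω), Mor F P f →
      Nat.card S - Nat.card P ≤ n → Mor E P f from fun P f hf => this _ P f hf le_rfl
  intro n
  induction n with
  | zero =>
    intro P f hf hn
    have : P = S := eq_of_le_of_card_ge le_rfl hf.le (by omega)
    subst this
    obtain ⟨α, hα, he⟩ := hf.exists_aut
      (hf.im_eq_of_le le_rfl hf.im_le le_rfl)
    exact ((mem_autGroup le_rfl).mp (hES hα)).congr he
  | succ n IH =>
    intro P f hf hn
    by_cases hPS : P = S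
    · subst hPS
      exact IH P f hf (by omega)
    have hlt : P < S := lt_of_le_of_ne hf.le hPS
    obtain ⟨R, hR, hRn⟩ := exists_fullyNormalized (F := F) hf.le
    have hcard : Nat.card R = Nat.card P := (isConj_card hR).symm
    have hQ : F.IsConj P (im P f) := FusionSysBasic.isConj_iff.mpr ⟨f, hf, rfl⟩
    have hQlt : im P f < S := lt_of_le_of_ne hf.im_le fun e => hPS
      (eq_of_le_of_card_ge le_rfl hf.le (by rw [← hf.card_im, e]))
    have hRlt : R < S := lt_of_le_of_ne hRn.1 fun e => hPS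
      (eq_of_le_of_card_ge le_rfl hf.le (by rw [← hcard, e]))
    have big : ∀ X : Subgroup Ω, X < S → Nat.card X = Nat.card P →
        ∀ (Y : Subgroup Ω) (g : Ω → Ω), Mor F Y g → Nat.card X < Nat.card Y → Mor E Y g := by
      intro X _ hXc Y g hg hY
      exact IH Y g hg (by
        have : Nat.card Y ≤ Nat.card S := Subgroup.card_le_of_le hg.le
        omega)
    obtain ⟨u, hu, -, huR⟩ := exists_map_to_fullyNormalized hS hF hRn hR
    obtain ⟨v, hv, -, hvR⟩ :=
      exists_map_to_fullyNormalized hS hF hRn (isConj_trans (isConj_symm hQ) hR)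
    have huE : Mor E P u := (big P hlt rfl _ u hu (normalizerIn_gt hS hlt)).restrict_to
      (le_normalizerIn hlt.le)
    have hvE : Mor E (im P f) v := (big _ hQlt hf.card_im _ v hv
      (normalizerIn_gt hS hQlt)).restrict_to (le_normalizerIn hQlt.le)
    have huF := hu.restrict_to (le_normalizerIn hlt.le)
    have hvF := hv.restrict_to (le_normalizerIn hQlt.le)
    obtain ⟨ui, hui, huiu, -, huiP⟩ := huF.exists_inv
    rw [huR] at hui huiP
    have hα₀ : Mor F R ((v ∘ f) ∘ ui) := hui.comp (hf.comp_im hvF) huiP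
    have him : im R ((v ∘ f) ∘ ui) = R := hα₀.im_self fun y hy =>
      hvR ▸ apply_mem_im (apply_mem_im (huiP y hy))
    obtain ⟨α, hα, hαe⟩ := hα₀.exists_aut him
    have hext : ∀ β : MulAut R, Extends F β → β ∈ E.autGroup R := by
      rintro β ⟨Y, hRY, g, hg, hge⟩
      have hcY : Nat.card R < Nat.card Y := by
        haveI := finite_of_le hg.le
        exact lt_of_le_of_ne (Subgroup.card_le_of_le hRY.le) fun e =>
          hRY.ne (eq_of_le_of_card_ge hg.le hRY.le e.ge)
      exact mem_autGroup_of_mor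
        (((big R hRlt hcard Y g hg hcY).restrict_to hRY.le).congr hge)
    have hαE : Mor E R (afun α) := by
      refine (mem_autGroup hRn.1).mp ?_
      by_contra hno
      have hne : F.autGroup R ⊓ E.autGroup R ≠ F.autGroup R := fun e =>
        hno (show α ∈ F.autGroup R ⊓ E.autGroup R by rw [e]; exact hα).2
      have hess := essential_of_ne hS hF hRlt hRn inf_le_left hne fun β hβ =>
        ⟨hβ.mem_autGroup, hext β hβ⟩
      obtain ⟨β, -, m, hm, -, rfl, g, hg, hge⟩ := FusionFrattini88.frattini_ext hS hF hRn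
        (opp F p R) (fun a ha m hm _ => opp_conj_mem ha hm) (N := normalizerIn S R) le_rfl
        (fun g hg => nHom_mem_opp hS hRn.1 _) hα
      refine hno (mul_mem (hext β ⟨_, ?_, g, hg, hge⟩) (hE R hess.1 hm))
      rw [sup_eq_right.mpr (le_normalizerIn hRn.1)]
      exact lt_of_le_of_ne (le_normalizerIn hRn.1) fun e =>
        (normalizerIn_gt hS hRlt).ne (congrArg (fun X : Subgroup Ω => Nat.card X) e)
    obtain ⟨vi, hvi, hviv, -, -⟩ := hvE.exists_inv
    rw [hvR] at hvi
    have h1 : Mor E P (afun α ∘ u) :=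
      huE.comp hαE fun x hx => huR ▸ apply_mem_im hx
    refine (h1.comp hvi fun x hx => afun_mem α (huR ▸ apply_mem_im hx)).congr fun x hx => ?_
    show vi (afun α (u x)) = f x
    rw [hαe _ (huR ▸ apply_mem_im hx)]
    show vi (v (f (ui (u x)))) = f x
    rw [huiu x hx, hviv _ (apply_mem_im hx)]

end Cfsg.Agent.Rank3
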