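import Cfsg.Agent.Lib.Rank3Engine34
import Cfsg.Agent.Lib.Rank3Pearl34Alperin

/-!
The top level of the existence of pearls in rank three: reduction to the statement that a normal
elementary abelian subgroup of `S` is contained in, and invariant in, every non-normal essential.
-/

set_option autoImplicit false
set_option linter.unusedSectionVars false

namespace Cfsg.Agent.Rank3

open Cfsg.FusionSystem Cfsg.Agent.FusionSysBasic Cfsg.Agent.FusionSysSaturated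
  Cfsg.Agent.FusionSysNormal Cfsg.Agent.FusionSysAlperin

universe u

variable {Ω : Type u} [Group Ω] {S : Subgroup Ω} {F : FusionSystem S} {p : ℕ}
  [Finite S] [Fact p.Prime]

theorem invBy_omZ_of {E K : Subgroup Ω} {A : Subgroup (MulAut E)} (hKE : K ≤ E) (hK : InvBy A K) :
    InvBy A (OmZ p K) := by
  intro α hα x hx
  obtain ⟨hxK, hxp, hxc⟩ := hx
  have hxE := hKE hxK
  refine ⟨hK α hα x hxK, ?_, fun y hy => ?_⟩
  · have h : (⟨x, hxE⟩ : E) ^ p = 1 := Subtype.ext hxp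
    rw [afun_apply α hxE, ← Subgroup.coe_pow, ← map_pow, h, map_one, Subgroup.coe_one]
  · have hyE := hKE hy
    have hy' : afun α⁻¹ y ∈ K := hK _ (inv_mem hα) y hy
    rw [afun_apply α⁻¹ hyE] at hy'
    have h : (⟨x, hxE⟩ : E) * α⁻¹ ⟨y, hyE⟩ = α⁻¹ ⟨y, hyE⟩ * ⟨x, hxE⟩ :=
      Subtype.ext (hxc _ hy')
    have h2 := congrArg (fun t => ((α t : E) : Ω)) h
    simpa [afun_apply α hxE, map_mul] using h2

theorem isNormal_of_opp (hS : IsPGroup p S) (hF : F.IsSaturated p) {A : Subgroup Ω} (hAS : A ≤ S)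
    (hAinv : Inv F S A)
    (hA : ∀ R : Subgroup Ω, F.IsEssential p R → A ≤ R ∧ InvBy (opp F p R) A) : F.IsNormal A := by
  have hcjA : ∀ g ∈ S, ∀ x ∈ A, cj g x ∈ A := fun g hg x hx => by
    have hS' : S ≤ Subgroup.normalizer (S : Set Ω) := Subgroup.le_normalizer
    have h1 := hAinv _ (autInducedBy_le le_rfl
      ((autInducedBy_eq_range S S).ge ⟨⟨g, hg, hS' hg⟩, rfl⟩)) x hx
    rwa [afun_nHom _ (hAS hx)] at h1
  let H := extSystem F S A (fun f => im A f = A) le_rfl hAS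
    (fun g hg => mem_normalizer_iff_im_cj.mp (mem_normalizer_of_cj_le hAS (hcjA g hg)))
    (fun _ _ h => h)
    (fun f g hf _ e e' => by rw [← hf.im_comp, e, e'])
    (fun f g hf _ e hgf => by
      conv_lhs => rw [← e]
      rw [hf.im_comp]
      exact (im_congr fun x hx => hgf x hx).trans (im_id A))
  have hmem : ∀ (P : Subgroup Ω), P ≤ S → A ≤ P → ∀ α ∈ F.autGroup P,
      (∀ x ∈ A, afun α x ∈ A) → α ∈ H.autGroup P := fun P hPS hAP α hα hinv => by
    refine mem_autGroup_of_mor (mor_extSystem.mpr ⟨(mem_autGroup hPS).mp hα, hPS,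
      fun x hx => hPS (afun_mem α hx), afun α, ?_, fun x _ => rfl, ?_⟩)
    · rw [sup_eq_left.mpr hAP]; exact (mem_autGroup hPS).mp hα
    · exact (((mem_autGroup hPS).mp hα).restrict_to hAP).im_self hinv
  have hle : F ≤ H := alperin_opp hS hF
    (fun α hα => hmem S le_rfl hAS α hα (hAinv α hα)) fun R hR α hα => by
      refine hmem R hR.1.1 (hA R hR).1 α ?_ ((hA R hR).2 α hα)
      exact ((Subgroup.closure_le _).mpr fun β hβ => hβ.1) hα
  refine isNormal_iff.mpr ⟨hAS, fun P f hf => ?_⟩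
  obtain ⟨-, -, -, f', hf', hag, him⟩ := mor_extSystem.mp (mor_mono hle hf)
  exact ⟨f', hf', hag, him⟩

theorem pearl_of_good (hp : 5 ≤ p) (hS : IsPGroup p S) (hF : F.IsSaturated p)
    (hsr : Cfsg.SectionalPRankLE p 3 S ∧ ¬ Cfsg.SectionalPRankLE p 2 S) (hO : F.core = ⊥)
    (hgood : (∀ E : Subgroup Ω, F.IsEssential p E →
        ¬ ((Cfsg.IsElementaryAbelian p E ∧ Nat.card E = p ^ 2) ∨
          (Cfsg.IsExtraspecial p ↥E ∧ Nat.card E = p ^ 3 ∧ ∀ x ∈ E, x ^ p = 1))) →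
      ∀ E : Subgroup Ω, F.IsEssential p E → ¬ S ≤ Subgroup.normalizer (E : Set Ω) →
        ∀ A : Subgroup Ω, A ≤ S → (∀ g ∈ S, ∀ x ∈ A, cj g x ∈ A) →
          (∀ a ∈ A, ∀ b ∈ A, a * b = b * a) → (∀ a ∈ A, a ^ p = 1) →
          A ≤ E ∧ InvBy (opp F p E) A) :
    ∃ E : Subgroup Ω, F.IsEssential p E ∧ ((Cfsg.IsElementaryAbelian p E ∧ Nat.card E = p ^ 2) ∨
      (Cfsg.IsExtraspecial p ↥E ∧ Nat.card E = p ^ 3 ∧ ∀ x ∈ E, x ^ p = 1)) := by
  by_contra hcon
  push Not at hcon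
  have hnp := hgood fun E hE hshape => by
    rcases hshape with ⟨h1, h2⟩ | ⟨h1, h2, h3⟩
    · exact (hcon E hE).1 h1 h2
    · obtain ⟨x, hx, hxp⟩ := (hcon E hE).2 h1 h2
      exact hxp (h3 x hx)
  have hodd : Odd p := (Fact.out : p.Prime).odd_of_ne_two (by omega)
  set 𝔈 : Set (Subgroup Ω) := {E | Max F p E}
  by_cases hfree : ∀ K : Subgroup Ω, K ≤ S → Inv F S K → (∀ E ∈ 𝔈, K ≤ E ∧ Inv F E K) → K = ⊥
  · have hc : Ctx F p 𝔈 := ⟨hodd, hS, hF, hsr.1, ne_bot_of_not_rank hsr.2, fun E hE => hE,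
      fun E (hE : Max F p E) α hα => ⟨hE.ess_im hS hF hα,
        by rw [card_im hE.le hα]; exact hE.card_eq, im_normal hE.le hE.normal α hα⟩, hfree⟩
    obtain ⟨-, A, -, B, hB, hB1, hB2, hB3, -⟩ := engine_rank hc hsr.2
    obtain ⟨x, hx, hxp⟩ := (hcon B hB.ess).2 hB1 hB2
    exact hxp (hB3 x hx)
  push Not at hfree
  obtain ⟨K, hKS, hKinv, hKall, hKne⟩ := hfree
  have hKn : ∀ g ∈ S, ∀ x ∈ K, cj g x ∈ K := fun g hg x hx => by
    have hS' : S ≤ Subgroup.normalizer (S : Set Ω) := Subgroup.le_normalizer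
    have h1 := hKinv _ (autInducedBy_le le_rfl
      ((autInducedBy_eq_range S S).ge ⟨⟨g, hg, hS' hg⟩, rfl⟩)) x hx
    rwa [afun_nHom _ (hKS hx)] at h1
  set A := OmZ p K with hAdef
  have hAK : A ≤ K := omZ_le
  have hAinv : Inv F S A := invBy_omZ_of hKS hKinv
  have hAn : ∀ g ∈ S, ∀ x ∈ A, cj g x ∈ A := fun g hg x hx => by
    have hS' : S ≤ Subgroup.normalizer (S : Set Ω) := Subgroup.le_normalizer
    have h1 := hAinv _ (autInducedBy_le le_rfl
      ((autInducedBy_eq_range S S).ge ⟨⟨g, hg, hS' hg⟩, rfl⟩)) x hx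
    rwa [afun_nHom _ (hKS (hAK hx))] at h1
  have hAne : A ≠ ⊥ := by
    obtain ⟨z, hzK, hz1, hzZ⟩ := exists_central_mem hS hKS hKn hKne
    exact fun e => hz1 (Subgroup.mem_bot.mp (e.le
      (show z ∈ A from ⟨hzK, hzZ.2.1, fun y hy => hzZ.2.2 y (hKS hy)⟩)))
  refine hAne (le_bot_iff.mp (hO ▸ le_core (isNormal_of_opp hS hF (hAK.trans hKS) hAinv
    fun R hR => ?_)))
  by_cases hn : S ≤ Subgroup.normalizer (R : Set Ω)
  · have hM : Max F p R := by
      refine ⟨hR, ?_, fun g hg x hx => cj_mem_of_normalizer (hn hg) hx⟩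
      rw [← card_normalizerIn hodd hS hF hsr.1 hR, FusionSystem.normalizerIn, inf_eq_left.mpr hn]
    obtain ⟨hKR, hKi⟩ := hKall R hM
    exact ⟨hAK.trans hKR, (invBy_omZ_of hKR hKi).mono
      ((Subgroup.closure_le _).mpr fun β hβ => hβ.1)⟩
  · exact hnp R hR hn A (hAK.trans hKS) hAn (fun a ha b hb => ha.2.2 b (hAK hb)) fun a ha => ha.2.1

end Cfsg.Agent.Rank3
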