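import Cfsg.Agent.Lib.Rank3Pearl80Quot

/-!
Classes modulo a normal subgroup, groups of automorphisms stabilising a chain, and the extension
of normalising automorphisms of `N_S(E)` to `N_S(E)⟨h⟩`.
-/

set_option autoImplicit false
set_option linter.unusedSectionVars false
set_option linter.style.haveILetI false

namespace Cfsg.Agent.Rank3Pearl80

open scoped commutatorElement
open Cfsg.FusionSystem Cfsg.Agent.FusionSysBasic Cfsg.Agent.FusionSysSaturated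
  Cfsg.Agent.FusionSysNormal Cfsg.Agent.FusionSysAlperin Cfsg.Agent.Rank3

universe u

variable {Ω : Type u} [Group Ω]

section Cls

variable (K Q : Subgroup Ω) [(K.subgroupOf Q).Normal]

open Classical in
/-- The class modulo `K` of an element of `Q`. -/
noncomputable def cls (y : Ω) : Q ⧸ K.subgroupOf Q :=
  if hy : y ∈ Q then QuotientGroup.mk (⟨y, hy⟩ : Q) else 1

variable {K Q}

theorem cls_mk {y : Ω} (hy : y ∈ Q) :
    cls K Q y = QuotientGroup.mk (⟨y, hy⟩ : Q) :=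
  dif_pos hy

theorem cls_mul {a b : Ω} (ha : a ∈ Q) (hb : b ∈ Q) :
    cls K Q (a * b) = cls K Q a * cls K Q b := by
  rw [cls_mk (Q.mul_mem ha hb), cls_mk ha, cls_mk hb]
  rfl

theorem cls_inv {a : Ω} (ha : a ∈ Q) : cls K Q a⁻¹ = (cls K Q a)⁻¹ := by
  rw [cls_mk (Q.inv_mem ha), cls_mk ha]
  rfl

theorem cls_pow {a : Ω} (ha : a ∈ Q) (n : ℕ) : cls K Q (a ^ n) = cls K Q a ^ n := by
  rw [cls_mk (Q.pow_mem ha n), cls_mk ha]
  rfl

theorem cls_zpow {a : Ω} (ha : a ∈ Q) (n : ℤ) : cls K Q (a ^ n) = cls K Q a ^ n := by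
  rw [cls_mk (Q.zpow_mem ha n), cls_mk ha]
  rfl

theorem cls_cj {a b : Ω} (ha : a ∈ Q) (hb : b ∈ Q) :
    cls K Q (cj a b) = cls K Q a * cls K Q b * (cls K Q a)⁻¹ := by
  rw [cj_apply, cls_mul (Q.mul_mem ha hb) (Q.inv_mem ha), cls_mul ha hb, cls_inv ha]

theorem cls_eq_one {a : Ω} (ha : a ∈ Q) : cls K Q a = 1 ↔ a ∈ K := by
  rw [cls_mk ha, QuotientGroup.eq_one_iff]
  exact Iff.rfl

theorem cls_eq {a b : Ω} (ha : a ∈ Q) (hb : b ∈ Q) :
    cls K Q a = cls K Q b ↔ a⁻¹ * b ∈ K := by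
  rw [cls_mk ha, cls_mk hb, QuotientGroup.eq]
  exact Iff.rfl

theorem cls_surj (g : Q ⧸ K.subgroupOf Q) : ∃ y ∈ Q, cls K Q y = g := by
  obtain ⟨⟨y, hy⟩, rfl⟩ := QuotientGroup.mk_surjective g
  exact ⟨y, hy, cls_mk hy⟩

theorem cls_commute {a b : Ω} (ha : a ∈ Q) (hb : b ∈ Q) (h : ⁅a, b⁆ ∈ K) :
    Commute (cls K Q a) (cls K Q b) := by
  rw [← commutatorElement_eq_one_iff_commute, cls_mk ha, cls_mk hb]
  exact (QuotientGroup.eq_one_iff (N := K.subgroupOf Q) (⁅(⟨a, ha⟩ : Q), ⟨b, hb⟩⁆)).2 h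

end Cls

variable {S : Subgroup Ω} {F : FusionSystem S} {p : ℕ} [Finite S] [Fact p.Prime]
  {E M : Subgroup Ω} {h : Ω}

theorem afun_inv_mem {N K : Subgroup Ω} [Finite N] (hK : K ≤ N) {φ : MulAut N}
    (h1 : ∀ y ∈ K, afun φ y ∈ K) {y : Ω} (hy : y ∈ K) : afun φ⁻¹ y ∈ K := by
  have h2 := img_eq_of_invBy hK (invBy_closure (T := {φ}) hK (by
    rintro _ rfl; exact h1)) (inv_mem (Subgroup.subset_closure rfl))
  rw [← h2]
  exact afun_mem_img _ hK hy

/-- The automorphisms in `F` of `N` preserving `M` and stabilising the chain `Z ≤ T ≤ L ≤ N`. -/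
def stabSub (F : FusionSystem S) (N M Z T L : Subgroup Ω) [Finite (MulAut N)] (hL : L ≤ N)
    (hT : T ≤ L) (hMN : M ≤ N) : Subgroup (MulAut N) where
  carrier := {φ | φ ∈ F.autGroup N ∧ (∀ y ∈ M, afun φ y ∈ M) ∧ (∀ y ∈ N, y⁻¹ * afun φ y ∈ L) ∧
    (∀ y ∈ L, y⁻¹ * afun φ y ∈ T) ∧ ∀ y ∈ T, y⁻¹ * afun φ y ∈ Z ⊓ T}
  one_mem' := ⟨one_mem _, fun y hy => by rwa [afun_one (hMN hy)],
    fun y hy => by rw [afun_one hy, inv_mul_cancel]; exact L.one_mem,
    fun y hy => by rw [afun_one (hL hy), inv_mul_cancel]; exact T.one_mem,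
    fun y hy => by rw [afun_one (hL (hT hy)), inv_mul_cancel]; exact one_mem _⟩
  mul_mem' := fun {a b} ha hb => by
    have key : ∀ {y : Ω}, y ∈ N →
        y⁻¹ * afun (a * b) y = y⁻¹ * afun b y * ((afun b y)⁻¹ * afun a (afun b y)) := by
      intro y hy
      rw [afun_mul a b hy, mul_assoc, mul_inv_cancel_left]
    refine ⟨mul_mem ha.1 hb.1, fun y hy => ?_, fun y hy => ?_, fun y hy => ?_, fun y hy => ?_⟩
    · rw [afun_mul a b (hMN hy)]; exact ha.2.1 _ (hb.2.1 y hy)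
    · rw [key hy]; exact L.mul_mem (hb.2.2.1 y hy) (ha.2.2.1 _ (afun_mem b hy))
    · have hby : afun b y ∈ L := by
        have := L.mul_mem hy (hT (hb.2.2.2.1 y hy))
        rwa [mul_inv_cancel_left] at this
      rw [key (hL hy)]; exact T.mul_mem (hb.2.2.2.1 y hy) (ha.2.2.2.1 _ hby)
    · have hby : afun b y ∈ T := by
        have := T.mul_mem hy (hb.2.2.2.2 y hy).2
        rwa [mul_inv_cancel_left] at this
      rw [key (hL (hT hy))]
      exact (Z ⊓ T).mul_mem (hb.2.2.2.2 y hy) (ha.2.2.2.2 _ hby)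
  inv_mem' := fun {φ} hφ => by
    have key : ∀ n : ℕ, φ ^ n ∈ {φ : MulAut N | φ ∈ F.autGroup N ∧ (∀ y ∈ M, afun φ y ∈ M) ∧
        (∀ y ∈ N, y⁻¹ * afun φ y ∈ L) ∧ (∀ y ∈ L, y⁻¹ * afun φ y ∈ T) ∧
        ∀ y ∈ T, y⁻¹ * afun φ y ∈ Z ⊓ T} := by
      intro n
      induction n with
      | zero =>
        rw [pow_zero]
        exact ⟨one_mem _, fun y hy => by rwa [afun_one (hMN hy)],
          fun y hy => by rw [afun_one hy, inv_mul_cancel]; exact L.one_mem,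
          fun y hy => by rw [afun_one (hL hy), inv_mul_cancel]; exact T.one_mem,
          fun y hy => by rw [afun_one (hL (hT hy)), inv_mul_cancel]; exact one_mem _⟩
      | succ n ih =>
        rw [pow_succ']
        obtain ⟨a1, a2, a3, a4, a5⟩ := hφ
        obtain ⟨b1, b2, b3, b4, b5⟩ := ih
        have k : ∀ {y : Ω}, y ∈ N → y⁻¹ * afun (φ * φ ^ n) y =
            y⁻¹ * afun (φ ^ n) y * ((afun (φ ^ n) y)⁻¹ * afun φ (afun (φ ^ n) y)) := by
          intro y hy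
          rw [afun_mul _ _ hy, mul_assoc, mul_inv_cancel_left]
        refine ⟨mul_mem a1 b1, fun y hy => ?_, fun y hy => ?_, fun y hy => ?_, fun y hy => ?_⟩
        · rw [afun_mul _ _ (hMN hy)]; exact a2 _ (b2 y hy)
        · rw [k hy]; exact L.mul_mem (b3 y hy) (a3 _ (afun_mem _ hy))
        · have hby : afun (φ ^ n) y ∈ L := by
            have := L.mul_mem hy (hT (b4 y hy))
            rwa [mul_inv_cancel_left] at this
          rw [k (hL hy)]; exact T.mul_mem (b4 y hy) (a4 _ hby)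
        · have hby : afun (φ ^ n) y ∈ T := by
            have := T.mul_mem hy (b5 y hy).2
            rwa [mul_inv_cancel_left] at this
          rw [k (hL (hT hy))]
          exact (Z ⊓ T).mul_mem (b5 y hy) (a5 _ hby)
    have e : φ⁻¹ = φ ^ (orderOf φ - 1) := by
      refine inv_eq_of_mul_eq_one_right ?_
      rw [← pow_succ', Nat.sub_add_cancel (orderOf_pos φ), pow_orderOf_eq_one]
    exact e ▸ key _

namespace NN

variable (hx : NN F p E h)

include hx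

/-- A map normalising a `p`-group of automorphisms of `N_S(E)` that contains those induced by `h`
extends to `N_S(E)⟨h⟩`. -/
theorem extend_big {P : Subgroup (MulAut (normalizerIn S E))}
    (hP : IsPGroup p P) (hPA : P ≤ F.autGroup (normalizerIn S E))
    (hPQ : autInducedBy (normalizerIn S E ⊔ Subgroup.zpowers h) (normalizerIn S E) ≤ P)
    {f : MulAut (normalizerIn S E)} (hf : f ∈ F.autGroup (normalizerIn S E))
    (hfP : ∀ α ∈ P, f * α * f⁻¹ ∈ P) {m : ℕ}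
    (hm : ∀ n ∈ normalizerIn S E, afun f n ∈ E →
      cj (h ^ m)⁻¹ (afun f (cj h n)) ∈ E) :
    ∃ Φ : Ω → Ω, Mor F (normalizerIn S E ⊔ Subgroup.zpowers h) Φ ∧
      (∀ y ∈ normalizerIn S E ⊔ Subgroup.zpowers h,
        Φ y ∈ normalizerIn S E ⊔ Subgroup.zpowers h) ∧
      (∀ n ∈ normalizerIn S E, Φ n = afun f n) ∧
      ∃ w ∈ normalizerIn S E, Φ h = h ^ m * w := by
  have hNS : normalizerIn S E ≤ S := inf_le_left
  have hQS : normalizerIn S E ⊔ Subgroup.zpowers h ≤ S :=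
    sup_le hNS (Subgroup.zpowers_le.2 hx.mem)
  have hQn : normalizerIn S E ⊔ Subgroup.zpowers h ≤
      Subgroup.normalizer (normalizerIn S E : Set Ω) :=
    sup_le Subgroup.le_normalizer (Subgroup.zpowers_le.2 hx.norm)
  obtain ⟨N₀, hN₀, hN₀n⟩ := exists_fullyNormalized (F := F) hNS
  obtain ⟨τ, hτ, -, hτN⟩ := exists_map_to_fullyNormalized hx.hS hx.hF hN₀n hN₀
  have hτ' : Mor F (normalizerIn S E) τ := hτ.restrict_to (le_normalizerIn hNS)
  haveI := finite_autGroup (F := F) N₀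
  obtain ⟨-, hA⟩ := fullyAutomized_of_fullyNormalized hx.hS hx.hF hN₀n
  set Θ := hτ'.transport hτN
  obtain ⟨a, ha, haR⟩ := sylIn_absorb (R := autInducedBy S N₀) hA
    (hP.map Θ.toMonoidHom) (by
      rintro _ ⟨α, hα, rfl⟩
      exact hτ'.transport_mem hτN (hPA hα))
  set τ₁ : Ω → Ω := afun a ∘ τ
  have hτ₁ : Mor F (normalizerIn S E) τ₁ :=
    hτ'.comp ((mem_autGroup hN₀n.1).1 ha) fun x hx' => hτN ▸ apply_mem_im hx'
  have hτ₁N : im (normalizerIn S E) τ₁ = N₀ := by rw [← hτ'.im_comp, hτN, im_afun]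
  have hrel : ∀ α ∈ P, ∃ g ∈ S, ∀ n ∈ normalizerIn S E, τ₁ (afun α n) = cj g (τ₁ n) := by
    intro α hα
    obtain ⟨g, hgS, -, hge⟩ := mem_autInducedBy.1 (haR _ ⟨α, hα, rfl⟩)
    refine ⟨g, hgS, fun n hn => ?_⟩
    have hn0 : τ n ∈ N₀ := hτN ▸ apply_mem_im hn
    show afun a (τ (afun α n)) = cj g (afun a (τ n))
    rw [← hge _ (afun_mem a hn0), afun_mul _ _ (afun_mem a hn0), afun_inv_apply a hn0,
      afun_mul _ _ hn0]
    exact congrArg (afun a) (hτ'.afun_transport hτN α hn).symm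
  have hcQ : ∀ g (hg : g ∈ normalizerIn S E ⊔ Subgroup.zpowers h),
      ∃ α ∈ P, ∀ n ∈ normalizerIn S E, afun α n = cj g n := fun g hg =>
    ⟨_, hPQ ((autInducedBy_eq_range _ _).ge ⟨⟨g, hg, hQn hg⟩, rfl⟩), fun n hn => afun_nHom _ hn⟩
  obtain ⟨-, hrec⟩ := receptive_iff.mp (receptive_of_fullyNormalized hx.hS hx.hF hN₀n)
  obtain ⟨T₁, hT₁, hT₁e⟩ := hrec _ τ₁ _ hτ₁ hτ₁N hQS hQn fun g hg => by
    obtain ⟨α, hα, he⟩ := hcQ g hg
    obtain ⟨g', hg', hge⟩ := hrel α hα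
    exact ⟨g', hg', fun n hn => by rw [← he n hn]; exact hge n hn⟩
  rw [sup_eq_right.2 le_sup_left] at hT₁
  have hfm : Mor F (normalizerIn S E) (afun f) := (mem_autGroup hNS).1 hf
  have hφ : Mor F (normalizerIn S E) (τ₁ ∘ afun f) :=
    hfm.comp hτ₁ fun n hn => afun_mem f hn
  have hφN : im (normalizerIn S E) (τ₁ ∘ afun f) = N₀ := by
    rw [← hfm.im_comp, im_afun, hτ₁N]
  obtain ⟨Ψ, hΨ, hΨe⟩ := hrec _ _ _ hφ hφN hQS hQn fun g hg => by
    obtain ⟨α, hα, he⟩ := hcQ g hg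
    obtain ⟨g', hg', hge⟩ := hrel _ (hfP α hα)
    refine ⟨g', hg', fun n hn => ?_⟩
    show τ₁ (afun f (cj g n)) = cj g' (τ₁ (afun f n))
    rw [← hge _ (afun_mem f hn), afun_mul _ _ (afun_mem f hn), afun_inv_apply f hn,
      afun_mul _ _ hn, he n hn]
  rw [sup_eq_right.2 le_sup_left] at hΨ
  have hNQ : normalizerIn S E ≤ normalizerIn S E ⊔ Subgroup.zpowers h := le_sup_left
  have hhQ : h ∈ normalizerIn S E ⊔ Subgroup.zpowers h :=
    Subgroup.mem_sup_right (Subgroup.mem_zpowers h)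
  have hhm := Subgroup.pow_mem _ hhQ m
  -- the correcting inner automorphism
  obtain ⟨α, hα, hαe⟩ := hcQ h hhQ
  obtain ⟨β, hβ, hβe⟩ := hcQ (h ^ m)⁻¹ (Subgroup.inv_mem _ hhm)
  set θ := β * (f * α * f⁻¹)
  have hθP : θ ∈ P := P.mul_mem hβ (hfP α hα)
  have hθf : ∀ n ∈ normalizerIn S E, afun θ (afun f n) = cj (h ^ m)⁻¹ (afun f (cj h n)) := by
    intro n hn
    rw [afun_mul _ _ (afun_mem f hn), afun_mul _ _ (afun_mem f hn), afun_inv_apply f hn,
      afun_mul _ _ hn, hαe n hn, hβe _ (afun_mem f (hx.cjh_memN hn))]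
  have hθE : ∀ e ∈ E, afun θ e ∈ E := by
    intro e he
    have h1 := afun_mem f⁻¹ (hx.leN he)
    have h2 := hm _ h1 (by rw [afun_apply_inv f (hx.leN he)]; exact he)
    rw [← hθf _ h1, afun_apply_inv f (hx.leN he)] at h2
    exact h2
  obtain ⟨k, hk⟩ := hP ⟨θ, hθP⟩
  obtain ⟨v, hv, hve⟩ := hx.pinn (hPA hθP) ⟨k, congrArg Subtype.val hk⟩ hθE
  have hmv : h ^ m * v ∈ normalizerIn S E ⊔ Subgroup.zpowers h :=
    Subgroup.mul_mem _ hhm (hNQ hv)
  obtain ⟨w, hw, hwe⟩ := hτ₁.mem_im.1 (hx.mem_im_of_centralizes hτ₁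
    (c := (T₁ (h ^ m * v))⁻¹ * Ψ h)
    (S.mul_mem (S.inv_mem (hT₁.apply_mem hmv)) (hΨ.apply_mem hhQ)) (by
      intro n' hn'
      obtain ⟨n, hn, rfl⟩ : ∃ n ∈ normalizerIn S E, afun f n = n' :=
        ⟨_, afun_mem f⁻¹ hn', afun_apply_inv f hn'⟩
      rw [← cj_cj]
      have e1 : cj (Ψ h) (τ₁ (afun f n)) = cj (T₁ (h ^ m * v)) (τ₁ (afun f n)) := by
        have e2 : cj (Ψ h) (τ₁ (afun f n)) = τ₁ (afun f (cj h n)) := by
          rw [show τ₁ (afun f n) = Ψ n from (hΨe n hn).symm, ← hΨ.map_cj hhQ (hNQ hn)]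
          exact hΨe _ (hx.cjh_memN hn)
        rw [e2, ← hT₁e _ (afun_mem f hn), ← hT₁.map_cj hmv (hNQ (afun_mem f hn)),
          ← hT₁e _ (afun_mem f (hx.cjh_memN hn)), ← cj_cj, ← hve _ (afun_mem f hn), hθf n hn,
          cj_cj_inv]
      rw [e1, cj_inv_cj]))
  have hΨh : Ψ h = T₁ (h ^ m * v * w) := by
    rw [hT₁.map_mul hmv (hNQ hw), hT₁e w hw, hwe, mul_inv_cancel_left]
  have hT₁im : ∀ y ∈ normalizerIn S E ⊔ Subgroup.zpowers h,
      Ψ y ∈ im (normalizerIn S E ⊔ Subgroup.zpowers h) T₁ := by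
    intro y hy
    refine mor_sup_induction hΨ (fun n hn => ?_) (fun b hb => ?_) hy
    · rw [hΨe n hn]
      show τ₁ (afun f n) ∈ _
      rw [← hT₁e _ (afun_mem f hn)]
      exact apply_mem_im (hNQ (afun_mem f hn))
    · obtain ⟨i, rfl⟩ := hb
      have hz : ∀ i : ℤ, Ψ (h ^ i) = Ψ h ^ i := by
        obtain ⟨ψ, -, hψe⟩ := hΨ
        intro i
        have := map_zpow ψ ⟨h, hhQ⟩ i
        rwa [hψe, hψe] at this
      rw [hz, hΨh]
      exact zpow_mem (apply_mem_im (Subgroup.mul_mem _ hmv (hNQ hw))) i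
  obtain ⟨ti, hti, htiT, -, htiQ⟩ := hT₁.exists_inv
  refine ⟨ti ∘ Ψ, hΨ.comp hti hT₁im, fun y hy => htiQ _ (hT₁im y hy), fun n hn => ?_, v * w,
    mul_mem hv hw, ?_⟩
  · show ti (Ψ n) = _
    rw [hΨe n hn]
    show ti (τ₁ (afun f n)) = _
    rw [← hT₁e _ (afun_mem f hn)]
    exact htiT _ (hNQ (afun_mem f hn))
  · show ti (Ψ h) = _
    rw [hΨh, htiT _ (Subgroup.mul_mem _ hmv (hNQ hw)), mul_assoc]

end NN

end Cfsg.Agent.Rank3Pearl80
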