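import Cfsg.Agent.Lib.Rank3Found34b
import Cfsg.Agent.Lib.Rank3Linear34
import Cfsg.Agent.Lib.PGroupsBasic
import Cfsg.Agent.Lib.PGroupsCritical

/-!
Essential subgroups that are not normal in `S`, for saturated fusion systems over groups of
sectional rank three and `p ≥ 5` (towards the existence of pearls): good subgroups of such an
essential subgroup and the sections on which `O^{p'}(Aut_F(E))` acts trivially.
-/

set_option autoImplicit false
set_option linter.unusedSectionVars false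

namespace Cfsg.Agent.Rank3Pearl80

open scoped commutatorElement
open Cfsg.FusionSystem Cfsg.Agent.FusionSysBasic Cfsg.Agent.FusionSysSaturated
  Cfsg.Agent.FusionSysNormal Cfsg.Agent.FusionSysAlperin Cfsg.Agent.Rank3

universe u

variable {Ω : Type u} [Group Ω] {S : Subgroup Ω} {F : FusionSystem S} {p : ℕ}

/-- An essential subgroup `E` together with an element moving it, normalising `N_S(E)` and with
`p`-th power in `N_S(E)`. -/
structure NN (F : FusionSystem S) (p : ℕ) (E : Subgroup Ω) (h : Ω) : Prop where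
  hp : 5 ≤ p
  hS : IsPGroup p S
  hF : F.IsSaturated p
  rk : Cfsg.SectionalPRankLE p 3 S
  ess : F.IsEssential p E
  mem : h ∈ S
  norm : h ∈ Subgroup.normalizer (normalizerIn S E : Set Ω)
  notMem : h ∉ normalizerIn S E
  pow : h ^ p ∈ normalizerIn S E

/-- A subgroup of `E` invariant under `O^{p'}(Aut_F(E))` and `h`, on which every member of
`O^{p'}(Aut_F(E))` has a `p`-power acting trivially. -/
structure Good (F : FusionSystem S) (p : ℕ) (E : Subgroup Ω) (h : Ω) (M : Subgroup Ω) : Prop where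
  le : M ≤ E
  inv : InvBy (opp F p E) M
  hinv : ∀ x ∈ M, cj h x ∈ M
  pfix : ∀ β ∈ opp F p E, ∃ k : ℕ, ∀ x ∈ M, afun (β ^ (p ^ k)) x = x

/-- The subgroup of the elements of `E` central of order dividing `p` modulo `M`. -/
def Wm (p : ℕ) (E M : Subgroup Ω) : Subgroup Ω :=
  Subgroup.closure {e | e ∈ E ∧ e ^ p ∈ M ∧ ∀ y ∈ E, ⁅e, y⁆ ∈ M}

theorem normal_subgroupOf {K M : Subgroup Ω} (hn : ∀ k ∈ K, ∀ x ∈ M, cj k x ∈ M) :
    (M.subgroupOf K).Normal :=
  ⟨fun x hx k => by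
    have := hn (k : Ω) k.2 (x : Ω) hx
    simpa [Subgroup.mem_subgroupOf, cj_apply] using this⟩

theorem mem_wm {p : ℕ} {E M : Subgroup Ω} (hn : ∀ k ∈ E, ∀ x ∈ M, cj k x ∈ M) {e : Ω} :
    e ∈ Wm p E M ↔ e ∈ E ∧ e ^ p ∈ M ∧ ∀ y ∈ E, ⁅e, y⁆ ∈ M := by
  haveI := normal_subgroupOf hn
  refine ⟨fun he => ?_, fun he => Subgroup.subset_closure he⟩
  induction he using Subgroup.closure_induction with
  | mem e he => exact he
  | one => exact ⟨E.one_mem, by rw [one_pow]; exact M.one_mem, fun y _ => by simp⟩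
  | mul a b _ _ iha ihb =>
    refine ⟨E.mul_mem iha.1 ihb.1, ?_, fun y hy => ?_⟩
    · have hc : Commute (QuotientGroup.mk' (M.subgroupOf E) ⟨a, iha.1⟩)
          (QuotientGroup.mk' (M.subgroupOf E) ⟨b, ihb.1⟩) := by
        rw [← commutatorElement_eq_one_iff_commute, ← map_commutatorElement,
          QuotientGroup.mk'_apply, QuotientGroup.eq_one_iff]
        exact iha.2.2 b ihb.1
      have e := hc.mul_pow p
      rw [← map_mul, ← map_pow, ← map_pow, ← map_pow, QuotientGroup.mk'_apply,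
        QuotientGroup.mk'_apply, QuotientGroup.mk'_apply,
        (QuotientGroup.eq_one_iff (N := M.subgroupOf E) ((⟨a, iha.1⟩ : E) ^ p)).2 iha.2.1,
        (QuotientGroup.eq_one_iff (N := M.subgroupOf E) ((⟨b, ihb.1⟩ : E) ^ p)).2 ihb.2.1,
        one_mul, QuotientGroup.eq_one_iff] at e
      exact e
    · have e : ⁅a * b, y⁆ = cj a ⁅b, y⁆ * ⁅a, y⁆ := by
        simp only [cj_apply, commutatorElement_def]; group
      rw [e]
      exact M.mul_mem (hn a iha.1 _ (ihb.2.2 y hy)) (iha.2.2 y hy)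
  | inv a _ iha =>
    refine ⟨E.inv_mem iha.1, by rw [inv_pow]; exact M.inv_mem iha.2.1, fun y hy => ?_⟩
    have e : ⁅a⁻¹, y⁆ = cj a⁻¹ ⁅a, y⁆⁻¹ := by simp only [cj_apply, commutatorElement_def]; group
    rw [e]
    exact hn _ (E.inv_mem iha.1) _ (M.inv_mem (iha.2.2 y hy))

theorem wm_le {p : ℕ} {E M : Subgroup Ω} : Wm p E M ≤ E :=
  (Subgroup.closure_le _).2 fun _ h => h.1

theorem inv_mul_cj (n w : Ω) : w⁻¹ * cj n w = ⁅w⁻¹, n⁆ := by
  simp only [cj_apply, commutatorElement_def]; group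

namespace NN

variable [Finite S] [Fact p.Prime] {E : Subgroup Ω} {h : Ω} (hx : NN F p E h)

include hx

theorem odd : Odd p := (Fact.out : p.Prime).odd_of_ne_two (by have := hx.hp; omega)

theorem le : E ≤ S := hx.ess.1.1

theorem finE : Finite E := finite_of_le hx.le

theorem finN : Finite (normalizerIn S E) := finite_normalizerIn E

theorem leN : E ≤ normalizerIn S E := le_normalizerIn hx.le

theorem cardN : Nat.card (normalizerIn S E) = p * Nat.card E :=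
  Rank3.card_normalizerIn hx.odd hx.hS hx.hF hx.rk hx.ess

theorem cj_mem {n x : Ω} (hn : n ∈ normalizerIn S E) (hx' : x ∈ E) : cj n x ∈ E :=
  cj_mem_of_normalizer hn.2 hx'

theorem cjh_memN {n : Ω} (hn : n ∈ normalizerIn S E) : cj h n ∈ normalizerIn S E :=
  cj_mem_of_normalizer hx.norm hn

theorem cjhinv_memN {n : Ω} (hn : n ∈ normalizerIn S E) : cj h⁻¹ n ∈ normalizerIn S E :=
  cj_mem_of_normalizer (Subgroup.inv_mem _ hx.norm) hn

theorem lt_normalizer {n : Ω} (hn : n ∈ normalizerIn S E) (hnE : n ∉ E) :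
    E < E ⊔ Subgroup.zpowers n :=
  lt_of_le_not_ge le_sup_left fun e => hnE (e (Subgroup.mem_sup_right (Subgroup.mem_zpowers n)))

theorem eq_sup {n : Ω} (hn : n ∈ normalizerIn S E) (hnE : n ∉ E) :
    E ⊔ Subgroup.zpowers n = normalizerIn S E := by
  have hle : E ⊔ Subgroup.zpowers n ≤ normalizerIn S E :=
    sup_le hx.leN (Subgroup.zpowers_le.2 hn)
  haveI := hx.finN
  refine Subgroup.eq_of_le_of_card_ge hle ?_
  rw [hx.cardN]
  exact mul_card_le_of_lt hx.hS (hle.trans inf_le_left) (hx.lt_normalizer hn hnE)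

theorem exists_eq {n : Ω} (hn : n ∈ normalizerIn S E) (hnE : n ∉ E) {y : Ω}
    (hy : y ∈ normalizerIn S E) : ∃ e ∈ E, ∃ k : ℤ, y = e * n ^ k := by
  rw [← hx.eq_sup hn hnE, ← SetLike.mem_coe, Subgroup.coe_mul_of_right_le_normalizer_left _ _
    (Subgroup.zpowers_le.mpr hn.2)] at hy
  obtain ⟨e, he, z, ⟨k, rfl⟩, rfl⟩ := Set.mem_mul.mp hy
  exact ⟨e, he, k, rfl⟩

/-- The conjugate of `E` under `h`. -/
theorem conj_le : im E (cj h) ≤ normalizerIn S E := fun y hy => by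
  have := hx.cjh_memN (hx.leN (mem_im_cj.1 hy))
  rwa [cj_cj_inv] at this

theorem conj_ne : im E (cj h) ≠ E := fun e =>
  hx.notMem ⟨hx.mem, mem_normalizer_iff_im_cj.2 e⟩

theorem card_conj : Nat.card (im E (cj h)) = Nat.card E := (mor_cj (F := F) hx.le hx.mem).card_im

theorem exists_conj_notMem : ∃ e ∈ E, cj h e ∉ E := by
  by_contra hcon
  push Not at hcon
  exact hx.notMem ⟨hx.mem, mem_normalizer_of_cj_le hx.le hcon⟩

theorem cAut_mem {n : Ω} (hn : n ∈ normalizerIn S E) :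
    nHom S E ⟨n, hn⟩ ∈ autInducedBy S E :=
  (autInducedBy_eq_range S E).ge ⟨_, rfl⟩

theorem autInduced_le_opp : autInducedBy S E ≤ opp F p E := fun α hα => by
  refine Subgroup.subset_closure ⟨autInducedBy_le hx.le hα, ?_⟩
  haveI := hx.finE
  obtain ⟨k, hk⟩ := IsPGroup.iff_orderOf.mp (isPGroup_autInducedBy hx.hS E) ⟨α, hα⟩
  exact ⟨k, by rwa [Subgroup.orderOf_mk] at hk⟩

theorem cAut_opp {n : Ω} (hn : n ∈ normalizerIn S E) : nHom S E ⟨n, hn⟩ ∈ opp F p E :=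
  hx.autInduced_le_opp (hx.cAut_mem hn)

theorem sylIn_opp : SylIn p (autInducedBy S E) (opp F p E) := by
  haveI := hx.finE
  obtain ⟨-, hA⟩ := fullyAutomized_of_fullyNormalized hx.hS hx.hF hx.ess.2.1
  haveI : Finite (F.autGroup E) := finite_autGroup E
  have hc := (sylIn_iff_card (autInducedBy_le (F := F) hx.le)).1 hA
  refine (sylIn_iff_card hx.autInduced_le_opp).2 ?_
  refine hc.trans (congrArg (p ^ ·) (le_antisymm ?_ ?_))
  · have h1 := Subgroup.card_dvd_of_le hx.autInduced_le_opp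
    rw [hc] at h1
    exact ((Fact.out : p.Prime).pow_dvd_iff_le_factorization Nat.card_pos.ne').1 h1
  · exact (Nat.factorization_le_iff_dvd Nat.card_pos.ne' Nat.card_pos.ne').2
      (Subgroup.card_dvd_of_le (Rank3.opp_le F p E)) p

/-- A subgroup normalised by `O^{p'}(Aut_F(E))` and containing `Aut_S(E)` contains it. -/
theorem opp_induction (K : Subgroup (MulAut E))
    (hn : ∀ a ∈ opp F p E, ∀ k ∈ K, a * k * a⁻¹ ∈ K) (hK : autInducedBy S E ≤ K) :
    opp F p E ≤ K := by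
  haveI := hx.finE
  refine (Subgroup.closure_le _).2 ?_
  rintro α ⟨hα, k, hk⟩
  have hαo : α ∈ opp F p E := Subgroup.subset_closure ⟨hα, k, hk⟩
  have hZ : IsPGroup p (Subgroup.zpowers α) :=
    IsPGroup.of_card (n := k) (by rw [Nat.card_zpowers, hk])
  obtain ⟨a, ha, haR⟩ := sylIn_absorb hx.sylIn_opp hZ (Subgroup.zpowers_le.2 hαo)
  have := hn a⁻¹ (inv_mem ha) _ (hK (haR α (Subgroup.mem_zpowers α)))
  rwa [show a⁻¹ * (a * α * a⁻¹) * a⁻¹⁻¹ = α by group] at this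

/-- If `N_S(E)` centralises an invariant section of `E`, so does `O^{p'}(Aut_F(E))`. -/
theorem trivial_of_unmoved {M W : Subgroup Ω} (hWE : W ≤ E) (hMW : M ≤ W)
    (hM : InvBy (opp F p E) M) (hW : InvBy (opp F p E) W)
    (hun : ∀ n ∈ normalizerIn S E, ∀ w ∈ W, w⁻¹ * cj n w ∈ M) :
    ∀ β ∈ opp F p E, ∀ w ∈ W, w⁻¹ * afun β w ∈ M := by
  let K : Subgroup (MulAut E) :=
    { carrier := {β | β ∈ opp F p E ∧ ∀ w ∈ W, w⁻¹ * afun β w ∈ M}
      one_mem' := ⟨one_mem _, fun w hw => by rw [afun_one (hWE hw), inv_mul_cancel]; exact M.one_mem⟩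
      mul_mem' := fun {a b} ha hb => ⟨mul_mem ha.1 hb.1, fun w hw => by
        have h1 := M.mul_mem (hb.2 w hw) (ha.2 _ (hW b hb.1 w hw))
        rwa [mul_assoc, mul_inv_cancel_left, ← afun_mul a b (hWE hw)] at h1⟩
      inv_mem' := fun {a} ha => ⟨inv_mem ha.1, fun w hw => by
        have h1 := M.inv_mem (ha.2 _ (hW _ (inv_mem ha.1) w hw))
        rwa [afun_apply_inv a (hWE hw), mul_inv_rev, inv_inv] at h1⟩ }
  refine fun β hβ => (hx.opp_induction K (fun a ha k hk => ?_) (fun α hα => ?_) hβ).2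
  · refine ⟨mul_mem (mul_mem ha hk.1) (inv_mem ha), fun w hw => ?_⟩
    have hw' := hW _ (inv_mem ha) w hw
    have h1 := hM a ha _ (hk.2 _ hw')
    rw [afun_map_mul a (E.inv_mem (hWE hw')) (afun_mem k (hWE hw')),
      ← afun_mul a k (hWE hw')] at h1
    rw [afun_mul _ _ (hWE hw)]
    have e : afun a (afun a⁻¹ w)⁻¹ = w⁻¹ := by
      rw [afun_apply a (E.inv_mem (hWE hw'))]
      have e1 : (⟨(afun a⁻¹ w)⁻¹, E.inv_mem (hWE hw')⟩ : E) = (⟨afun a⁻¹ w, hWE hw'⟩ : E)⁻¹ := rfl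
      rw [e1, map_inv, Subgroup.coe_inv, ← afun_apply a (hWE hw'), afun_apply_inv a (hWE hw)]
    rwa [e] at h1
  · obtain ⟨n, hn, hnn, he⟩ := mem_autInducedBy.1 hα
    exact ⟨hx.autInduced_le_opp hα, fun w hw => by rw [he w (hWE hw)]; exact hun n ⟨hn, hnn⟩ w hw⟩

end NN

namespace Good

variable [Finite S] [Fact p.Prime] {E M : Subgroup Ω} {h : Ω}

theorem bot : Good F p E h (⊥ : Subgroup Ω) where
  le := bot_le
  inv := fun α _ x hx => by
    rw [Subgroup.mem_bot] at hx ⊢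
    rw [hx, afun_apply α E.one_mem]
    exact congrArg Subtype.val α.map_one
  hinv := fun x hx => by rw [Subgroup.mem_bot] at hx ⊢; simp [hx, cj_apply]
  pfix := fun β _ => ⟨0, fun x hx => by
    rw [Subgroup.mem_bot.1 hx, afun_apply _ E.one_mem]
    exact congrArg Subtype.val (map_one _)⟩

variable (hx : NN F p E h) (hg : Good F p E h M)

include hx hg

theorem cj_mem {n x : Ω} (hn : n ∈ normalizerIn S E) (hx' : x ∈ M) : cj n x ∈ M := by
  have := hg.inv _ (hx.cAut_opp hn) x hx'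
  rwa [afun_nHom _ (hg.le hx')] at this

theorem normE : ∀ k ∈ E, ∀ x ∈ M, cj k x ∈ M := fun _ hk _ hx' =>
  hg.cj_mem hx (hx.leN hk) hx'

/-- The members of `O^{p'}(Aut_F(E))` trivial on `E / M` are inner. -/
theorem inn_of_trivial {β : MulAut E} (hβ : β ∈ opp F p E)
    (h1 : ∀ e ∈ E, e⁻¹ * afun β e ∈ M) : β ∈ Inn E := by
  classical
  haveI := hx.finE
  have hEp : IsPGroup p E := hx.hS.to_le hx.le
  let K : Subgroup (MulAut E) :=
    { carrier := {α | α ∈ opp F p E ∧ ∀ e ∈ E, e⁻¹ * afun α e ∈ M}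
      one_mem' := ⟨one_mem _, fun w hw => by rw [afun_one hw, inv_mul_cancel]; exact M.one_mem⟩
      mul_mem' := fun {a b} ha hb => ⟨mul_mem ha.1 hb.1, fun w hw => by
        have h1 := M.mul_mem (hb.2 w hw) (ha.2 _ (afun_mem b hw))
        rwa [mul_assoc, mul_inv_cancel_left, ← afun_mul a b hw] at h1⟩
      inv_mem' := fun {a} ha => ⟨inv_mem ha.1, fun w hw => by
        have h1 := M.inv_mem (ha.2 _ (afun_mem a⁻¹ hw))
        rwa [afun_apply_inv a hw, mul_inv_rev, inv_inv] at h1⟩ }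
  have hKn : ∀ a ∈ opp F p E, ∀ k ∈ K, a * k * a⁻¹ ∈ K := by
    intro a ha k hk
    refine ⟨mul_mem (mul_mem ha hk.1) (inv_mem ha), fun w hw => ?_⟩
    have hw' := afun_mem a⁻¹ hw
    have h1 := hg.inv a ha _ (hk.2 _ hw')
    rw [afun_map_mul a (E.inv_mem hw') (afun_mem k hw'), ← afun_mul a k hw'] at h1
    rw [afun_mul _ _ hw]
    have e : afun a (afun a⁻¹ w)⁻¹ = w⁻¹ := by
      rw [afun_apply a (E.inv_mem hw')]
      have e1 : (⟨(afun a⁻¹ w)⁻¹, E.inv_mem hw'⟩ : E) = (⟨afun a⁻¹ w, hw'⟩ : E)⁻¹ := rfl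
      rw [e1, map_inv, Subgroup.coe_inv, ← afun_apply a hw', afun_apply_inv a hw]
    rwa [e] at h1
  have hKp : IsPGroup p K := by
    rintro ⟨α, hα⟩
    obtain ⟨k, hk⟩ := hg.pfix α hα.1
    have hγ : α ^ (p ^ k) ∈ K := K.pow_mem hα _
    obtain ⟨l, hl⟩ := pow_eq_one_of_stabilizes hEp (n := 2)
      (fun i => if i = 0 then ⊥ else if i = 1 then M else E) rfl rfl
      (fun i => by split_ifs <;> first | exact bot_le | exact hg.le | exact le_rfl)
      (fun i hi => by interval_cases i <;> simp [hg.le]) (α := α ^ (p ^ k))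
      (fun i hi y hy => by
        interval_cases i
        · simp only [if_true, one_ne_zero, if_false, Nat.reduceAdd, Subgroup.mem_bot] at hy ⊢
          rw [hk y hy, inv_mul_cancel]
        · simp only [one_ne_zero, if_false, Nat.reduceAdd, OfNat.ofNat_ne_zero,
            show (2 : ℕ) ≠ 1 by decide, if_true] at hy ⊢
          exact hγ.2 y hy)
    refine ⟨k + l, Subtype.ext ?_⟩
    rw [SubgroupClass.coe_pow, pow_add, pow_mul, hl, Subgroup.coe_one]
  have hKR : ∀ (L : Subgroup (MulAut E)), L ≤ opp F p E → IsPGroup p L →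
      (∀ a ∈ opp F p E, ∀ k ∈ L, a * k * a⁻¹ ∈ L) → L ≤ autInducedBy S E := by
    intro L hL hLp hLn k hk
    obtain ⟨l, hl, hlR⟩ := sylIn_absorb hx.sylIn_opp hLp hL
    have := hlR _ (hLn l⁻¹ (inv_mem hl) k hk)
    rwa [show l * (l⁻¹ * k * l⁻¹⁻¹) * l⁻¹ = k by group] at this
  let P : Subgroup (MulAut E) := Subgroup.closure
    {m | ∃ a ∈ F.autGroup E, ∃ k ∈ K, m = a * k * a⁻¹}
  have hoppn : ∀ a ∈ F.autGroup E, ∀ m ∈ opp F p E, a * m * a⁻¹ ∈ opp F p E := by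
    intro a ha m hm
    have hle : (opp F p E).map (MulAut.conj a).toMonoidHom ≤ opp F p E := by
      rw [opp, MonoidHom.map_closure]
      refine Subgroup.closure_mono ?_
      rintro _ ⟨b, ⟨hb, k, hk⟩, rfl⟩
      exact ⟨mul_mem (mul_mem ha hb) (inv_mem ha), k, (MulAut.conj a).orderOf_eq b ▸ hk⟩
    exact hle ⟨m, hm, rfl⟩
  have hPR : P ≤ autInducedBy S E := by
    refine (Subgroup.closure_le _).2 ?_
    rintro _ ⟨a, ha, k, hk, rfl⟩
    refine hKR (K.map (MulAut.conj a).toMonoidHom) ?_ (hKp.map _) ?_ ⟨k, hk, rfl⟩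
    · rintro _ ⟨b, hb, rfl⟩
      exact hoppn a ha b hb.1
    · rintro c hc _ ⟨b, hb, rfl⟩
      refine ⟨a⁻¹ * c * a * b * (a⁻¹ * c * a)⁻¹, hKn _ ?_ _ hb, ?_⟩
      · have := hoppn a⁻¹ (inv_mem ha) c hc
        rwa [inv_inv] at this
      · show MulAut.conj a _ = c * MulAut.conj a b * c⁻¹
        simp only [MulAut.conj_apply]
        group
  rw [← (radical_of_essential hx.hS hx.ess).2]
  have hPA : P ≤ F.autGroup E := hPR.trans (autInducedBy_le hx.le)
  refine ⟨⟨β, Rank3.opp_le F p E hβ⟩, le_sSup (show P.subgroupOf (F.autGroup E) ∈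
    {N : Subgroup (F.autGroup E) | N.Normal ∧ IsPGroup p N} from ⟨?_, ?_⟩) ?_, rfl⟩
  · refine ⟨fun n hn a => ?_⟩
    have hle : P.map (MulAut.conj (a : MulAut E)).toMonoidHom ≤ P := by
      rw [MonoidHom.map_closure]
      refine Subgroup.closure_mono ?_
      rintro _ ⟨_, ⟨b, hb, k, hk, rfl⟩, rfl⟩
      refine ⟨(a : MulAut E) * b, mul_mem a.2 hb, k, hk, ?_⟩
      show MulAut.conj (a : MulAut E) _ = _
      simp only [MulAut.conj_apply]
      group
    exact hle ⟨n, hn, rfl⟩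
  · exact ((isPGroup_autInducedBy hx.hS E).to_le hPR).of_equiv
      (Subgroup.subgroupOfEquivOfLe hPA).symm
  · exact Subgroup.subset_closure ⟨1, one_mem _, β, ⟨hβ, h1⟩, by simp⟩

/-- The elements of `N_S(E)` trivial on `E / M` lie in `E`. -/
theorem mem_of_trivial {n : Ω} (hn : n ∈ normalizerIn S E)
    (h1 : ∀ e ∈ E, e⁻¹ * cj n e ∈ M) : n ∈ E :=
  mem_of_nHom_mem_inn hx.le (centralizerIn_le_of_centric hx.ess.1) ⟨n, hn⟩
    (hg.inn_of_trivial hx (hx.cAut_opp hn) fun e he => by rw [afun_nHom _ he]; exact h1 e he)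

/-- A section centralised by `O^{p'}(Aut_F(E))` above a good subgroup gives a good subgroup. -/
theorem extend {Z : Subgroup Ω} (hMZ : M ≤ Z) (hZE : Z ≤ E) (hZ : InvBy (opp F p E) Z)
    (hZh : ∀ z ∈ Z, cj h z ∈ Z) (htriv : ∀ β ∈ opp F p E, ∀ z ∈ Z, z⁻¹ * afun β z ∈ M) :
    Good F p E h Z := by
  refine ⟨hZE, hZ, hZh, fun β hβ => ?_⟩
  obtain ⟨k, hk⟩ := hg.pfix β hβ
  haveI := hx.finE
  haveI : Finite M := Finite.of_injective _ (Subgroup.inclusion_injective hg.le)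
  obtain ⟨c, hc⟩ := IsPGroup.iff_card.1 ((hx.hS.to_le hx.le).to_le hg.le)
  refine ⟨k + c, fun z hz => ?_⟩
  have hd := htriv _ (pow_mem hβ (p ^ k)) z hz
  rw [pow_add, pow_mul, pow_fix_step (X := M) (Y := Z) hZE hk
    (fun y hy => htriv _ (pow_mem hβ (p ^ k)) y hy) (p ^ c) z hz]
  have e : (⟨_, hd⟩ : M) ^ (p ^ c) = 1 := hc ▸ pow_card_eq_one'
  rw [show (z⁻¹ * afun (β ^ p ^ k) z) ^ p ^ c = 1 from congrArg Subtype.val e, mul_one]

theorem wm_mem {e : Ω} : e ∈ Wm p E M ↔ e ∈ E ∧ e ^ p ∈ M ∧ ∀ y ∈ E, ⁅e, y⁆ ∈ M :=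
  mem_wm (hg.normE hx)

theorem le_wm : M ≤ Wm p E M := fun m hm => (hg.wm_mem hx).2 ⟨hg.le hm, M.pow_mem hm p,
  fun y hy => by
    have e : ⁅m, y⁆ = m * cj y m⁻¹ := by simp only [cj_apply, commutatorElement_def]; group
    rw [e]
    exact M.mul_mem hm (hg.normE hx y hy _ (M.inv_mem hm))⟩

theorem inv_wm : InvBy (opp F p E) (Wm p E M) := by
  intro α hα e he
  obtain ⟨heE, hep, hec⟩ := (hg.wm_mem hx).1 he
  refine (hg.wm_mem hx).2 ⟨afun_mem α heE, ?_, fun y hy => ?_⟩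
  · have h1 := hg.inv α hα _ hep
    rw [show e ^ p = ((⟨e, heE⟩ ^ p : E) : Ω) from rfl, afun_coe, map_pow] at h1
    rw [afun_apply α heE]
    exact h1
  · have hy' := afun_mem α⁻¹ hy
    have h1 := hg.inv α hα _ (hec _ hy')
    rw [show ⁅e, afun α⁻¹ y⁆ = ((⁅(⟨e, heE⟩ : E), ⟨_, hy'⟩⁆ : E) : Ω) from rfl, afun_coe,
      map_commutatorElement] at h1
    have e1 : (α ⟨afun α⁻¹ y, hy'⟩ : Ω) = y := by rw [← afun_apply α hy', afun_apply_inv α hy]
    have e2 : ((⁅α ⟨e, heE⟩, α ⟨afun α⁻¹ y, hy'⟩⁆ : E) : Ω) =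
        ⁅(α ⟨e, heE⟩ : Ω), (α ⟨afun α⁻¹ y, hy'⟩ : Ω)⁆ := rfl
    rw [e2, e1, ← afun_apply α heE] at h1
    exact h1

theorem lt_wm (hlt : M < E) : M < Wm p E M := by
  haveI := hx.finE
  haveI := normal_subgroupOf (hg.normE hx)
  have hlt' : M.subgroupOf E < ⊤ :=
    lt_top_iff_ne_top.2 fun e => hlt.not_ge (Subgroup.subgroupOf_eq_top.1 e)
  haveI : ((⊤ : Subgroup E)).Normal := inferInstance
  have hEp : IsPGroup p E := hx.hS.to_le hx.le
  obtain ⟨L, hLn, hML, -, hLc⟩ := PGroupsBasic.exists_normal_succ (p := p) hEp hlt'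
  haveI := hLn
  have hlt2 : M.subgroupOf E < L := lt_of_le_of_ne hML fun e => by
    have h1 := congrArg (fun X : Subgroup E => Nat.card X) e
    simp only [hLc] at h1
    have h2 : 0 < Nat.card (M.subgroupOf E) := Nat.card_pos
    have := (Fact.out : p.Prime).one_lt
    nlinarith
  obtain ⟨l, hl, hlM⟩ := SetLike.exists_of_lt hlt2
  refine lt_of_le_not_ge (hg.le_wm hx) fun hle => hlM (hle ((hg.wm_mem hx).2 ⟨l.2, ?_, fun y hy => ?_⟩))
  · have hLp : Nat.card (L.map (QuotientGroup.mk' (M.subgroupOf E))) = p := by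
      rw [← Subgroup.relIndex_bot_left, ← Subgroup.relIndex_comap, MonoidHom.comap_bot,
        QuotientGroup.ker_mk', PGroupsCritical.relIndex_of_succ hML hLc]
    have := PGroupsBasic.pow_eq_one_of_card hLp (Subgroup.mem_map_of_mem _ hl)
    rw [← map_pow, QuotientGroup.mk'_apply, QuotientGroup.eq_one_iff] at this
    exact this
  · have h1 := PGroupsCritical.commutator_mem_of_succ (p := p) hEp hML
      hLc hl (⟨y, hy⟩ : E)
    have h2 := M.inv_mem (Subgroup.mem_subgroupOf.1 h1)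
    have e : (((⁅(⟨y, hy⟩ : E), l⁆ : E) : Ω))⁻¹ = ⁅(l : Ω), y⁆ := by
      show (⁅y, (l : Ω)⁆)⁻¹ = _
      rw [commutatorElement_inv]
    rwa [e] at h2

/-- If `N_S(E)` centralises `W / M`, then `W` is good. -/
theorem wm_good (hun : ∀ n ∈ normalizerIn S E, ∀ w ∈ Wm p E M, w⁻¹ * cj n w ∈ M) :
    Good F p E h (Wm p E M) := by
  refine hg.extend hx (hg.le_wm hx) wm_le (hg.inv_wm hx) (fun w hw => ?_)
    (hx.trivial_of_unmoved wm_le (hg.le_wm hx) hg.inv (hg.inv_wm hx) hun)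
  obtain ⟨hwE, hwp, -⟩ := (hg.wm_mem hx).1 hw
  have hMn : ∀ n ∈ normalizerIn S E, ∀ m ∈ M, cj n m ∈ M := fun n hn m hm => hg.cj_mem hx hn hm
  have hcom : ∀ n ∈ normalizerIn S E, ⁅w, n⁆ ∈ M := fun n hn => by
    have h1 := hun n hn w⁻¹ (inv_mem hw)
    rwa [inv_mul_cj, inv_inv] at h1
  have hw'N := hx.cjh_memN (hx.leN hwE)
  have hcom' : ∀ y ∈ normalizerIn S E, ⁅cj h w, y⁆ ∈ M := fun y hy => by
    have e : ⁅cj h w, y⁆ = cj h ⁅w, cj h⁻¹ y⁆ := by
      simp only [cj_apply, commutatorElement_def]; group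
    rw [e]
    exact hg.hinv _ (hcom _ (hx.cjhinv_memN hy))
  have hw'E : cj h w ∈ E := hg.mem_of_trivial hx hw'N fun e he => by
    rw [inv_mul_cj, ← commutatorElement_inv]
    exact M.inv_mem (hcom' _ (hx.leN (E.inv_mem he)))
  refine (hg.wm_mem hx).2 ⟨hw'E, ?_, fun y hy => hcom' y (hx.leN hy)⟩
  rw [cj_apply, conj_pow]
  exact hg.hinv _ hwp

end Good

end Cfsg.Agent.Rank3Pearl80
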