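import Cfsg.Agent.Lib.Rank3Pearl80Plane

/-!
Above a good subgroup `M` of an essential subgroup that is not normal in `S`, either
`O^{p'}(Aut_F(E))` centralises the elementary central section or `E / M` is a natural plane.
-/

set_option autoImplicit false
set_option linter.unusedSectionVars false
set_option linter.style.haveILetI false

namespace Cfsg.Agent.Rank3Pearl80

open scoped commutatorElement
open Cfsg.FusionSystem Cfsg.Agent.FusionSysBasic Cfsg.Agent.FusionSysSaturated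
  Cfsg.Agent.FusionSysNormal Cfsg.Agent.FusionSysAlperin Cfsg.Agent.Rank3

universe u

variable {Ω : Type u} [Group Ω] {S : Subgroup Ω} {F : FusionSystem S} {p : ℕ} [Finite S]
  [Fact p.Prime] {E M : Subgroup Ω} {h : Ω}

theorem cj_commutator (g a b : Ω) : cj g ⁅a, b⁆ = ⁅cj g a, cj g b⁆ := by
  simp only [cj_apply, commutatorElement_def]; group

theorem afun_commutator {P : Subgroup Ω} (α : MulAut P) {a b : Ω} (ha : a ∈ P) (hb : b ∈ P) :
    afun α ⁅a, b⁆ = ⁅afun α a, afun α b⁆ := by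
  rw [show ⁅a, b⁆ = ((⁅(⟨a, ha⟩ : P), ⟨b, hb⟩⁆ : P) : Ω) from rfl, afun_coe, map_commutatorElement,
    afun_apply α ha, afun_apply α hb]
  rfl

/-- The normal subgroup steps of index `p` are centralised by `N_S(E)`. -/
theorem succ_unmoved (hS : IsPGroup p S) {N A B : Subgroup Ω} (hNS : N ≤ S) (hAB : A ≤ B)
    (hBN : B ≤ N) (hA : ∀ k ∈ N, ∀ y ∈ A, cj k y ∈ A) (hB : ∀ k ∈ N, ∀ y ∈ B, cj k y ∈ B)
    (hc : Nat.card B = Nat.card A * p) {n b : Ω} (hn : n ∈ N) (hb : b ∈ B) : ⁅n, b⁆ ∈ A := by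
  haveI := normal_subgroupOf hA
  haveI := normal_subgroupOf hB
  haveI := finite_of_le hNS
  exact PGroupsCritical.commutator_mem_of_succ (p := p) (hS.to_le hNS) (A := A.subgroupOf N)
    (B := B.subgroupOf N) (fun y hy => hAB hy)
    (by rw [Nat.card_congr (Subgroup.subgroupOfEquivOfLe (hAB.trans hBN)).toEquiv,
      Nat.card_congr (Subgroup.subgroupOfEquivOfLe hBN).toEquiv, hc])
    (show (⟨b, hBN hb⟩ : N) ∈ B.subgroupOf N from hb) (⟨n, hn⟩ : N)

theorem conj_inn {E : Subgroup Ω} (a : MulAut E) {b : MulAut E} (hb : b ∈ Inn E) :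
    a * b * a⁻¹ ∈ Inn E := by
  obtain ⟨g, rfl⟩ := hb
  exact ⟨a g, MulEquiv.ext fun y => by simp [MulAut.conj_apply]⟩

namespace NN

variable (hx : NN F p E h)

include hx

theorem exists_split {v : Ω} (hv : v ∈ im E (cj h)) (hvE : v ∉ E) {n : Ω}
    (hn : n ∈ normalizerIn S E) : ∃ e ∈ E, ∃ y ∈ im E (cj h), n = e * y := by
  obtain ⟨e, he, k, rfl⟩ := hx.exists_eq (hx.conj_le hv) hvE hn
  exact ⟨e, he, v ^ k, zpow_mem hv k, rfl⟩

theorem bot_lt : (⊥ : Subgroup Ω) < E := by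
  refine bot_lt_iff_ne_bot.2 fun e => ?_
  obtain ⟨e₀, he₀, he₀'⟩ := hx.exists_conj_notMem
  rw [e, Subgroup.mem_bot] at he₀
  exact he₀' (by rw [he₀, cj_apply, mul_one, mul_inv_cancel]; exact E.one_mem)

theorem not_good_self : ¬ Good F p E h E := fun hg => by
  obtain ⟨e₀, he₀, he₀'⟩ := hx.exists_conj_notMem
  have hN := hx.cjh_memN (hx.leN he₀)
  exact he₀' (hg.mem_of_trivial hx hN fun e he => E.mul_mem (E.inv_mem he) (hx.cj_mem hN he))

theorem lt_of_good {Z : Subgroup Ω} (hg : Good F p E h Z) : Z < E :=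
  lt_of_le_of_ne hg.le fun e => hx.not_good_self (e ▸ hg)

end NN

namespace Good

variable (hx : NN F p E h) (hg : Good F p E h M)

include hx hg

theorem cj_mem_wm {n w : Ω} (hn : n ∈ normalizerIn S E) (hw : w ∈ Wm p E M) :
    cj n w ∈ Wm p E M := by
  have := hg.inv_wm hx _ (hx.cAut_opp hn) w hw
  rwa [afun_nHom _ (wm_le hw)] at this

theorem comm_wm {w y : Ω} (hw : w ∈ Wm p E M) (hy : y ∈ E) : ⁅w, y⁆ ∈ M :=
  ((hg.wm_mem hx).1 hw).2.2 y hy

theorem comm_wm_conj {w y : Ω} (hw : w ∈ im (Wm p E M) (cj h)) (hy : y ∈ im E (cj h)) :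
    ⁅w, y⁆ ∈ M := by
  have h1 := hg.hinv _ (hg.comm_wm hx (mem_im_cj.1 hw) (mem_im_cj.1 hy))
  rwa [cj_commutator, cj_cj_inv, cj_cj_inv] at h1

theorem pow_wm_conj {w : Ω} (hw : w ∈ im (Wm p E M) (cj h)) : w ^ p ∈ M := by
  have h1 := hg.hinv _ ((hg.wm_mem hx).1 (mem_im_cj.1 hw)).2.1
  rwa [cj_apply h, cj_apply h⁻¹, inv_inv, ← conj_pow, show h * (h⁻¹ * w * h) * h⁻¹ = w by group]
    at h1

theorem comm_symm {a b : Ω} (h1 : ⁅a, b⁆ ∈ M) : ⁅b, a⁆ ∈ M := by
  rw [← commutatorElement_inv]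
  exact M.inv_mem h1

/-- If some element outside `E` centralises `W / M`, then all of `N_S(E)` does. -/
theorem unmoved_of {v : Ω} (hv : v ∈ normalizerIn S E) (hvE : v ∉ E)
    (h1 : ∀ w ∈ Wm p E M, ⁅v, w⁆ ∈ M) :
    ∀ n ∈ normalizerIn S E, ∀ w ∈ Wm p E M, w⁻¹ * cj n w ∈ M := by
  have h2 : ∀ n ∈ normalizerIn S E, ∀ w ∈ Wm p E M, ⁅n, w⁆ ∈ M := by
    intro n hn w hw
    let K : Subgroup Ω :=
      { carrier := {y | y ∈ normalizerIn S E ∧ ∀ w ∈ Wm p E M, ⁅y, w⁆ ∈ M}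
        one_mem' := ⟨one_mem _, fun w _ => by simp⟩
        mul_mem' := fun {a b} ha hb => ⟨mul_mem ha.1 hb.1, fun w hw => by
          rw [show ⁅a * b, w⁆ = cj a ⁅b, w⁆ * ⁅a, w⁆ by
            simp only [cj_apply, commutatorElement_def]; group]
          exact M.mul_mem (hg.cj_mem hx ha.1 (hb.2 w hw)) (ha.2 w hw)⟩
        inv_mem' := fun {a} ha => ⟨inv_mem ha.1, fun w hw => by
          rw [show ⁅a⁻¹, w⁆ = cj a⁻¹ ⁅a, w⁆⁻¹ by
            simp only [cj_apply, commutatorElement_def]; group]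
          exact hg.cj_mem hx (inv_mem ha.1) (M.inv_mem (ha.2 w hw))⟩ }
    have hle : normalizerIn S E ≤ K := by
      rw [← hx.eq_sup hv hvE]
      exact sup_le (fun e he => ⟨hx.leN he, fun w hw => hg.comm_symm hx (hg.comm_wm hx hw he)⟩)
        (Subgroup.zpowers_le.2 ⟨hv, h1⟩)
    exact (hle hn).2 w hw
  intro n hn w hw
  rw [inv_mul_cj, ← commutatorElement_inv]
  exact M.inv_mem (h2 n hn _ (inv_mem hw))

/-- The first case: `E / M` is a natural plane. -/
theorem caseA (hmv : ¬ ∀ n ∈ normalizerIn S E, ∀ w ∈ Wm p E M, w⁻¹ * cj n w ∈ M) (hlt : M < E)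
    {u : Ω} (hu : u ∈ Wm p E M) (hu' : u ∉ im E (cj h)) :
    (∀ a ∈ E, ∀ b ∈ E, ⁅a, b⁆ ∈ M) ∧ (∀ a ∈ E, a ^ p ∈ M) ∧
      Nat.card E = p ^ 2 * Nat.card M := by
  classical
  haveI := hx.finE
  have huE := wm_le hu
  obtain ⟨x₀, hx₀, hx₀E⟩ : ∃ x₀ ∈ im (Wm p E M) (cj h), x₀ ∉ E := by
    by_contra hcon
    push Not at hcon
    have hv : cj h⁻¹ u ∈ normalizerIn S E := hx.cjhinv_memN (hx.leN huE)
    refine hmv (hg.unmoved_of hx hv (fun e => hu' (mem_im_cj.2 e)) fun w hw => ?_)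
    have h1 := hg.comm_wm hx hu (hcon _ (apply_mem_im (f := cj h) hw))
    have h2 := hg.hinv_inv hx h1
    rwa [cj_commutator, cj_inv_cj] at h2
  have hx₀E' : x₀ ∈ im E (cj h) := im_mono wm_le hx₀
  have hx₀N := hx.conj_le hx₀E'
  set M' := Subgroup.closure
    ((M : Set Ω) ∪ {y | ∃ a ∈ E, ∃ b ∈ E, ⁅a, b⁆ = y} ∪ {y | ∃ a ∈ E, a ^ p = y}) with hM'def
  have hMM' : M ≤ M' := fun m hm => Subgroup.subset_closure (Or.inl (Or.inl hm))
  have hM'E : M' ≤ E := by
    refine (Subgroup.closure_le _).2 ?_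
    rintro y ((hy | ⟨a, ha, b, hb, rfl⟩) | ⟨a, ha, rfl⟩)
    · exact hg.le hy
    · rw [commutatorElement_def]
      exact E.mul_mem (E.mul_mem (E.mul_mem ha hb) (E.inv_mem ha)) (E.inv_mem hb)
    · exact E.pow_mem ha p
  have hM'gen : ∀ a ∈ E, ∀ b ∈ E, ⁅a, b⁆ ∈ M' := fun a ha b hb =>
    Subgroup.subset_closure (Or.inl (Or.inr ⟨a, ha, b, hb, rfl⟩))
  have hM'pow : ∀ a ∈ E, a ^ p ∈ M' := fun a ha => Subgroup.subset_closure (Or.inr ⟨a, ha, rfl⟩)
  have hM'inv : InvBy (opp F p E) M' := by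
    intro α hα y hy
    induction hy using Subgroup.closure_induction with
    | mem y hy =>
      rcases hy with (hy | ⟨a, ha, b, hb, rfl⟩) | ⟨a, ha, rfl⟩
      · exact hMM' (hg.inv α hα y hy)
      · rw [afun_commutator α ha hb]; exact hM'gen _ (afun_mem α ha) _ (afun_mem α hb)
      · rw [← zpow_natCast, afun_zpow α ha, zpow_natCast]; exact hM'pow _ (afun_mem α ha)
    | one => rw [afun_apply α E.one_mem]; simp [show (⟨1, E.one_mem⟩ : E) = 1 from rfl]
    | mul a b ha hb iha ihb =>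
      rw [afun_map_mul α (hM'E ha) (hM'E hb)]
      exact M'.mul_mem iha ihb
    | inv a ha iha =>
      rw [← zpow_neg_one, afun_zpow α (hM'E ha), zpow_neg_one]
      exact M'.inv_mem iha
  haveI hMN := normal_subgroupOf (fun k hk y hy => hg.cj_mem hx hk hy :
    ∀ k ∈ normalizerIn S E, ∀ y ∈ M, cj k y ∈ M)
  -- `E = T ⟨u⟩` and `E' = T ⟨x₀⟩`
  have hTu : ∀ a ∈ E, ∃ t ∈ E ⊓ im E (cj h), ∃ i : ℤ, a = t * u ^ i := by
    intro a ha
    have hn : (im E (cj h)) ⊔ Subgroup.zpowers u = normalizerIn S E := by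
      haveI := hx.finN
      have hle : im E (cj h) ⊔ Subgroup.zpowers u ≤ normalizerIn S E :=
        sup_le hx.conj_le (Subgroup.zpowers_le.2 (hx.leN huE))
      refine Subgroup.eq_of_le_of_card_ge hle ?_
      rw [hx.cardN, ← hx.card_conj]
      exact mul_card_le_of_lt hx.hS (hle.trans inf_le_left)
        (lt_of_le_not_ge le_sup_left fun e =>
          hu' (e (Subgroup.mem_sup_right (Subgroup.mem_zpowers _))))
    have han := hx.leN ha
    rw [← hn, ← SetLike.mem_coe, Subgroup.coe_mul_of_right_le_normalizer_left _ _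
      (Subgroup.zpowers_le.mpr (mem_normalizer_of_cj_le (hx.conj_le.trans inf_le_left) fun y hy => by
        rw [mem_im_cj, show cj h⁻¹ (cj u y) = cj (cj h⁻¹ u) (cj h⁻¹ y) by
          simp only [cj_apply]; group]
        exact hx.cj_mem (hx.cjhinv_memN (hx.leN huE)) (mem_im_cj.1 hy)))] at han
    obtain ⟨t, ht, v, ⟨i, rfl⟩, rfl⟩ := Set.mem_mul.mp han
    refine ⟨t, ⟨?_, ht⟩, i, rfl⟩
    have := E.mul_mem ha (E.inv_mem (E.zpow_mem huE i))
    rwa [mul_inv_cancel_right] at this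
  have hTx : ∀ a ∈ im E (cj h), ∃ t ∈ E ⊓ im E (cj h), ∃ i : ℤ, a = t * x₀ ^ i := by
    intro a ha
    obtain ⟨e, he, i, rfl⟩ := hx.exists_eq hx₀N hx₀E (hx.conj_le ha)
    refine ⟨e, ⟨he, ?_⟩, i, rfl⟩
    have := (im E (cj h)).mul_mem ha ((im E (cj h)).inv_mem (zpow_mem hx₀E' i))
    rwa [mul_inv_cancel_right] at this
  -- congruences modulo `M`
  set q := QuotientGroup.mk' (M.subgroupOf (normalizerIn S E))
  have hq : ∀ {a b : normalizerIn S E}, q a = q b ↔ ((a : Ω))⁻¹ * b ∈ M := fun {a b} => by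
    rw [QuotientGroup.mk'_apply, QuotientGroup.mk'_apply, QuotientGroup.eq]
    exact Iff.rfl
  have hq1 : ∀ {a : normalizerIn S E}, q a = 1 ↔ (a : Ω) ∈ M := fun {a} => by
    rw [QuotientGroup.mk'_apply, QuotientGroup.eq_one_iff]
    exact Iff.rfl
  have hqc : ∀ {a b : normalizerIn S E}, ⁅(a : Ω), (b : Ω)⁆ ∈ M → Commute (q a) (q b) :=
    fun {a b} hab => by
      rw [← commutatorElement_eq_one_iff_commute, ← map_commutatorElement, hq1]
      exact hab
  have red : ∀ (w : Ω) (hw : w ∈ normalizerIn S E) (P : Subgroup Ω), w ^ p ∈ M →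
      (∀ y ∈ P, ⁅w, y⁆ ∈ M) → ∀ t ∈ P, ∀ t' ∈ P, ∀ (i j : ℤ), t ∈ normalizerIn S E →
      t' ∈ normalizerIn S E → (⁅t, t'⁆⁻¹ * ⁅t * w ^ i, t' * w ^ j⁆ ∈ M ∨ w ∉ P) ∧
      ((t ^ p)⁻¹ * (t * w ^ i) ^ p ∈ M) := by
    intro w hw P hwp hwc t ht t' ht' i j htN ht'N
    have hc : ∀ y (hy : y ∈ normalizerIn S E), y ∈ P → Commute (q ⟨w, hw⟩) (q ⟨y, hy⟩) :=
      fun y hy hyP => hqc (hwc y hyP)
    refine ⟨?_, ?_⟩
    · by_cases hwP : w ∈ P
      · refine Or.inl ((hq (a := ⁅(⟨t, htN⟩ : normalizerIn S E), ⟨t', ht'N⟩⁆)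
          (b := ⁅(⟨t, htN⟩ : normalizerIn S E) * ⟨w, hw⟩ ^ i, ⟨t', ht'N⟩ * ⟨w, hw⟩ ^ j⁆)).1 ?_)
        rw [map_commutatorElement, map_commutatorElement, map_mul, map_mul, map_zpow, map_zpow]
        have c1 := (hc t htN ht).zpow_left j
        have c2 := (hc t' ht'N ht').zpow_left i
        have c3 : Commute (q ⟨w, hw⟩ ^ i) (q ⟨w, hw⟩ ^ j) := (Commute.refl _).zpow_zpow i j
        simp only [commutatorElement_def, mul_inv_rev]
        set A := q ⟨t, htN⟩
        set B := q ⟨t', ht'N⟩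
        set W₁ := q ⟨w, hw⟩ ^ i
        set W₂ := q ⟨w, hw⟩ ^ j
        calc A * B * A⁻¹ * B⁻¹ = A * B * (A⁻¹ * W₂) * W₂⁻¹ * B⁻¹ := by group
          _ = A * B * (W₂ * A⁻¹) * W₂⁻¹ * B⁻¹ := by rw [(c1.inv_right).eq]
          _ = A * (W₁ * B) * W₁⁻¹ * W₂ * A⁻¹ * W₂⁻¹ * B⁻¹ := by rw [c2.eq]; group
          _ = A * W₁ * B * (W₂ * W₁⁻¹) * A⁻¹ * W₂⁻¹ * B⁻¹ := by
              rw [← (c3.inv_left).eq]; group
          _ = A * W₁ * (B * W₂) * (W₁⁻¹ * A⁻¹) * (W₂⁻¹ * B⁻¹) := by group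
      · exact Or.inr hwP
    · refine (hq (a := (⟨t, htN⟩ : normalizerIn S E) ^ p)
        (b := ((⟨t, htN⟩ : normalizerIn S E) * ⟨w, hw⟩ ^ i) ^ p)).1 ?_
      rw [map_pow, map_pow, map_mul, map_zpow, (((hc t htN ht).zpow_left i).symm).mul_pow,
        ← zpow_natCast (q ⟨w, hw⟩ ^ i), ← zpow_mul, mul_comm i, zpow_mul, zpow_natCast,
        ← map_pow q ⟨w, hw⟩, (hq1 (a := (⟨w, hw⟩ : normalizerIn S E) ^ p)).2 hwp, one_zpow, mul_one]
  have hu_p : u ^ p ∈ M := ((hg.wm_mem hx).1 hu).2.1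
  have hM'T : M' ≤ E ⊓ im E (cj h) := by
    have hTTN : E ⊓ im E (cj h) ≤ normalizerIn S E := inf_le_left.trans hx.leN
    have hMT : M ≤ E ⊓ im E (cj h) := fun m hm =>
      ⟨hg.le hm, mem_im_cj.2 (hg.le (hg.hinv_inv hx hm))⟩
    refine (Subgroup.closure_le _).2 ?_
    rintro y ((hy | ⟨a, ha, b, hb, rfl⟩) | ⟨a, ha, rfl⟩)
    · exact hMT hy
    · obtain ⟨t, ht, i, rfl⟩ := hTu a ha
      obtain ⟨t', ht', j, rfl⟩ := hTu b hb
      obtain ⟨h1, -⟩ := red u (hx.leN huE) E hu_p (fun y hy => hg.comm_wm hx hu hy)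
        t ht.1 t' ht'.1 i j (hTTN ht) (hTTN ht')
      have h3 : ⁅t, t'⁆ ∈ E ⊓ im E (cj h) := by
        rw [commutatorElement_def]
        exact mul_mem (mul_mem (mul_mem ht ht') (inv_mem ht)) (inv_mem ht')
      have h4 := mul_mem h3 (hMT (h1.resolve_right (not_not.2 huE)))
      rwa [mul_inv_cancel_left] at h4
    · obtain ⟨t, ht, i, rfl⟩ := hTu a ha
      obtain ⟨-, h1⟩ := red u (hx.leN huE) E hu_p (fun y hy => hg.comm_wm hx hu hy)
        t ht.1 t ht.1 i i (hTTN ht) (hTTN ht)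
      have h4 := mul_mem (pow_mem ht p) (hMT h1)
      rwa [mul_inv_cancel_left] at h4
  have hx₀p := hg.pow_wm_conj hx hx₀
  have hM'h : ∀ y ∈ M', cj h y ∈ M' := by
    intro y hy
    induction hy using Subgroup.closure_induction with
    | mem y hy =>
      rcases hy with (hy | ⟨a, ha, b, hb, rfl⟩) | ⟨a, ha, rfl⟩
      · exact hMM' (hg.hinv y hy)
      · rw [cj_commutator]
        obtain ⟨t, ht, i, hae⟩ := hTx _ (apply_mem_im (f := cj h) ha)
        obtain ⟨t', ht', j, hbe⟩ := hTx _ (apply_mem_im (f := cj h) hb)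
        rw [hae, hbe]
        obtain ⟨h1, -⟩ := red x₀ hx₀N (im E (cj h)) hx₀p (fun y hy => hg.comm_wm_conj hx hx₀ hy)
          t ht.2 t' ht'.2 i j (hx.leN ht.1) (hx.leN ht'.1)
        have := M'.mul_mem (hM'gen t ht.1 t' ht'.1) (hMM' (h1.resolve_right (not_not.2 hx₀E')))
        rwa [mul_inv_cancel_left] at this
      · rw [cj_apply, ← conj_pow, ← cj_apply]
        obtain ⟨t, ht, i, hae⟩ := hTx _ (apply_mem_im (f := cj h) ha)
        rw [hae]
        obtain ⟨-, h1⟩ := red x₀ hx₀N (im E (cj h)) hx₀p (fun y hy => hg.comm_wm_conj hx hx₀ hy)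
          t ht.2 t ht.2 i i (hx.leN ht.1) (hx.leN ht.1)
        have := M'.mul_mem (hM'pow t ht.1) (hMM' h1)
        rwa [mul_inv_cancel_left] at this
    | one => simp [cj_apply, M'.one_mem]
    | mul a b _ _ iha ihb =>
      rw [show cj h (a * b) = cj h a * cj h b by simp only [cj_apply]; group]
      exact M'.mul_mem iha ihb
    | inv a _ iha =>
      rw [show cj h a⁻¹ = (cj h a)⁻¹ by simp only [cj_apply]; group]
      exact M'.inv_mem iha
  -- powers of the members of `O^{p'}` centralise `M' / M`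
  let K : Subgroup (MulAut E) :=
    { carrier := {β | β ∈ opp F p E ∧ ∀ w ∈ M', w⁻¹ * afun β w ∈ M}
      one_mem' := ⟨one_mem _, fun w hw => by rw [afun_one (hM'E hw), inv_mul_cancel]; exact M.one_mem⟩
      mul_mem' := fun {a b} ha hb => ⟨mul_mem ha.1 hb.1, fun w hw => by
        have h1 := M.mul_mem (hb.2 w hw) (ha.2 _ (hM'inv b hb.1 w hw))
        rwa [mul_assoc, mul_inv_cancel_left, ← afun_mul a b (hM'E hw)] at h1⟩
      inv_mem' := fun {a} ha => ⟨inv_mem ha.1, fun w hw => by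
        have h1 := M.inv_mem (ha.2 _ (hM'inv _ (inv_mem ha.1) w hw))
        rwa [afun_apply_inv a (hM'E hw), mul_inv_rev, inv_inv] at h1⟩ }
  have hKn : ∀ a ∈ opp F p E, ∀ k ∈ K, a * k * a⁻¹ ∈ K := by
    intro a ha k hk
    refine ⟨mul_mem (mul_mem ha hk.1) (inv_mem ha), fun w hw => ?_⟩
    have hw' := hM'inv _ (inv_mem ha) w hw
    have h1 := hg.inv a ha _ (hk.2 _ hw')
    rw [afun_map_mul a (E.inv_mem (hM'E hw')) (afun_mem k (hM'E hw')), ← afun_mul a k (hM'E hw')]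
      at h1
    rw [afun_mul _ _ (hM'E hw)]
    have e : afun a (afun a⁻¹ w)⁻¹ = w⁻¹ := by
      rw [← zpow_neg_one, afun_zpow a (hM'E hw'), afun_apply_inv a (hM'E hw), zpow_neg_one]
    rwa [e] at h1
  haveI hInn : (Inn E).Normal := ⟨fun b hb a => conj_inn a hb⟩
  have hsup : opp F p E ≤ K ⊔ Inn E := by
    refine hx.opp_induction _ (fun a ha k hk => ?_) (fun α hα => ?_)
    · obtain ⟨k₁, hk₁, i₁, hi₁, rfl⟩ := Subgroup.mem_sup_of_normal_right.1 hk
      rw [show a * (k₁ * i₁) * a⁻¹ = (a * k₁ * a⁻¹) * (a * i₁ * a⁻¹) by group]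
      exact mul_mem (Subgroup.mem_sup_left (hKn a ha _ hk₁))
        (Subgroup.mem_sup_right (conj_inn a hi₁))
    · obtain ⟨n, hn, hnn, he⟩ := mem_autInducedBy.1 hα
      obtain ⟨e, he', i, rfl⟩ := hx.exists_eq hx₀N hx₀E ⟨hn, hnn⟩
      have e1 : α = nHom S E ⟨e, hx.leN he'⟩ * nHom S E ⟨x₀, hx₀N⟩ ^ i := by
        rw [← map_zpow, ← map_mul]
        exact afun_ext fun y hy => by rw [he y hy, afun_nHom _ hy]; rfl
      rw [e1]
      refine mul_mem (Subgroup.mem_sup_right ?_) (Subgroup.mem_sup_left (K.zpow_mem ?_ i))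
      · rw [← autInducedBy_self, mem_autInducedBy]
        exact ⟨e, he', Subgroup.le_normalizer he', fun y hy => afun_nHom _ hy⟩
      · refine ⟨hx.cAut_opp _, fun w hw => ?_⟩
        rw [afun_nHom _ (hM'E hw), inv_mul_cj]
        exact hg.comm_symm hx (hg.comm_wm_conj hx hx₀ ((im E (cj h)).inv_mem (hM'T hw).2))
  have hM'good : Good F p E h M' := by
    refine ⟨hM'E, hM'inv, hM'h, fun β hβ => ?_⟩
    obtain ⟨k₁, hk₁, i₁, hi₁, rfl⟩ := Subgroup.mem_sup_of_normal_right.1 (hsup hβ)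
    haveI : (K.subgroupOf (opp F p E)).Normal := ⟨fun m hm a => hKn a a.2 m hm⟩
    have hi₁o : i₁ ∈ opp F p E := hx.autInduced_le_opp (inn_le_autInducedBy hx.le hi₁)
    obtain ⟨j, hj⟩ : ∃ j : ℕ, i₁ ^ p ^ j = 1 := by
      obtain ⟨g, rfl⟩ := hi₁
      obtain ⟨j, hj⟩ := (hx.hS.to_le hx.le) g
      exact ⟨j, by rw [← map_pow, hj, map_one]⟩
    have hK1 : (k₁ * i₁) ^ p ^ j ∈ K := by
      have e : QuotientGroup.mk' (K.subgroupOf (opp F p E))
          ((⟨k₁, hk₁.1⟩ * ⟨i₁, hi₁o⟩ : opp F p E) ^ p ^ j) = 1 := by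
        rw [map_pow, map_mul, (show QuotientGroup.mk' (K.subgroupOf (opp F p E)) ⟨k₁, hk₁.1⟩ = 1
          from (QuotientGroup.eq_one_iff _).2 hk₁), one_mul, ← map_pow]
        refine (QuotientGroup.eq_one_iff _).2 ?_
        show i₁ ^ p ^ j ∈ K
        rw [hj]
        exact K.one_mem
      exact (QuotientGroup.eq_one_iff (N := K.subgroupOf (opp F p E)) _).1 e
    obtain ⟨k, hk⟩ := hg.pfix _ (pow_mem hβ (p ^ j))
    haveI : Finite M := Finite.of_injective _ (Subgroup.inclusion_injective hg.le)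
    obtain ⟨c, hc⟩ := IsPGroup.iff_card.1 ((hx.hS.to_le hx.le).to_le hg.le)
    refine ⟨j + (k + c), fun z hz => ?_⟩
    have hK2 := K.pow_mem hK1 (p ^ k)
    have hd := hK2.2 z hz
    rw [pow_add, pow_mul, pow_add, pow_mul,
      pow_fix_step (X := M) (Y := M') hM'E hk hK2.2 (p ^ c) z hz]
    have e : (⟨_, hd⟩ : M) ^ (p ^ c) = 1 := hc ▸ pow_card_eq_one'
    rw [show (z⁻¹ * afun (((k₁ * i₁) ^ p ^ j) ^ p ^ k) z) ^ p ^ c = 1 from congrArg Subtype.val e,
      mul_one]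
  have hM'lt := hx.lt_of_good hM'good
  have hcard' := hM'good.card_eq hx hM'gen hM'pow hM'lt
  -- the commutator of `x₀` and `u`
  set z := ⁅x₀, u⁆
  have hzW : z ∈ Wm p E M := by
    rw [show z = cj x₀ u * u⁻¹ from commutatorElement_def x₀ u]
    exact mul_mem (hg.cj_mem_wm hx hx₀N hu) (inv_mem hu)
  have hzE' : z ∈ im E (cj h) := by
    rw [show z = x₀ * cj u x₀⁻¹ by simp only [z, cj_apply, commutatorElement_def]; group]
    refine mul_mem hx₀E' ?_
    rw [mem_im_cj, show cj h⁻¹ (cj u x₀⁻¹) = cj (cj h⁻¹ u) (cj h⁻¹ x₀⁻¹) by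
      simp only [cj_apply]; group]
    exact hx.cj_mem (hx.cjhinv_memN (hx.leN huE)) (mem_im_cj.1 (inv_mem hx₀E'))
  have hzM' : z ∉ M' := fun hz => by
    refine hx₀E (hM'good.mem_of_trivial hx hx₀N fun e he => ?_)
    rw [inv_mul_cj]
    obtain ⟨t, ht, i, hte⟩ := hTu e⁻¹ (E.inv_mem he)
    rw [hte, ← commutatorElement_inv]
    refine M'.inv_mem ?_
    rw [show ⁅x₀, t * u ^ i⁆ = ⁅x₀, t⁆ * cj t ⁅x₀, u ^ i⁆ by
      simp only [cj_apply, commutatorElement_def]; group]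
    refine M'.mul_mem (hMM' (hg.comm_wm_conj hx hx₀ ht.2))
      (hM'good.cj_mem hx (hx.leN ht.1) ?_)
    haveI := normal_subgroupOf (fun k hk y hy => hM'good.cj_mem hx hk hy :
      ∀ k ∈ normalizerIn S E, ∀ y ∈ M', cj k y ∈ M')
    have hc : Commute (QuotientGroup.mk' (M'.subgroupOf (normalizerIn S E)) ⟨x₀, hx₀N⟩)
        (QuotientGroup.mk' (M'.subgroupOf (normalizerIn S E)) ⟨u, hx.leN huE⟩) := by
      rw [← commutatorElement_eq_one_iff_commute, ← map_commutatorElement,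
        QuotientGroup.mk'_apply, QuotientGroup.eq_one_iff]
      exact hz
    have hc' := hc.zpow_right i
    rw [← map_zpow, ← commutatorElement_eq_one_iff_commute, ← map_commutatorElement,
      QuotientGroup.mk'_apply, QuotientGroup.eq_one_iff] at hc'
    exact hc'
  -- `E = ⟨u, z⟩ M`
  set Y := Subgroup.closure ({u, z} : Set Ω) ⊔ M with hYdef
  have hzEmem : z ∈ E := wm_le hzW
  have hYE : Y ≤ E :=
    sup_le ((Subgroup.closure_le _).2 (Set.insert_subset huE (by simpa using hzEmem))) hg.le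
  have hYM' : Y ⊔ M' = E := by
    refine Subgroup.eq_of_le_of_card_ge (sup_le hYE hM'E) ?_
    rw [hcard']
    have hzY : z ∈ Y := Subgroup.mem_sup_left (Subgroup.subset_closure (by simp))
    have huY : u ∈ Y := Subgroup.mem_sup_left (Subgroup.subset_closure (by simp))
    set B := M' ⊔ Subgroup.zpowers z
    have hBT : B ≤ E ⊓ im E (cj h) := sup_le hM'T (Subgroup.zpowers_le.2 ⟨hzEmem, hzE'⟩)
    have h1 : M' < B := lt_of_le_not_ge le_sup_left fun e =>
      hzM' (e (Subgroup.mem_sup_right (Subgroup.mem_zpowers z)))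
    have h2 : B < Y ⊔ M' := lt_of_le_not_ge
      (sup_le le_sup_right (Subgroup.zpowers_le.2 (Subgroup.mem_sup_left hzY)))
      fun e => hu' (hBT (e (Subgroup.mem_sup_left huY))).2
    have h3 := mul_card_le_of_lt hx.hS ((hBT.trans inf_le_left).trans hx.le) h1
    have h4 := mul_card_le_of_lt hx.hS ((sup_le hYE hM'E).trans hx.le) h2
    calc p ^ 2 * Nat.card M' = p * (p * Nat.card M') := by ring
      _ ≤ p * Nat.card B := Nat.mul_le_mul_left p h3
      _ ≤ _ := h4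
  have hYE' : Y = E := by
    have hEp : IsPGroup p E := hx.hS.to_le hx.le
    refine le_antisymm hYE ?_
    have hle : M'.subgroupOf E ≤ M.subgroupOf E ⊔ frattini E := by
      rw [← Subgroup.map_subtype_le_map_subtype, Subgroup.subgroupOf_map_subtype,
        inf_eq_left.2 hM'E]
      refine (Subgroup.closure_le _).2 ?_
      rintro y ((hy | ⟨a, ha, b, hb, rfl⟩) | ⟨a, ha, rfl⟩)
      · exact ⟨⟨y, hg.le hy⟩, Subgroup.mem_sup_left hy, rfl⟩
      · exact ⟨⁅(⟨a, ha⟩ : E), ⟨b, hb⟩⁆, Subgroup.mem_sup_right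
          (PGroupsBasic.commutator_le_frattini hEp
            (Subgroup.commutator_mem_commutator (Subgroup.mem_top _) (Subgroup.mem_top _))), rfl⟩
      · exact ⟨(⟨a, ha⟩ : E) ^ p, Subgroup.mem_sup_right (PGroupsBasic.pow_mem_frattini hEp _), rfl⟩
    have htop : Y.subgroupOf E ⊔ frattini E = ⊤ := by
      have e1 : Y.subgroupOf E ⊔ M'.subgroupOf E = ⊤ := by
        rw [← Subgroup.subgroupOf_sup hYE hM'E, hYM', Subgroup.subgroupOf_self]
      refine top_le_iff.1 (e1 ▸ sup_le le_sup_left (hle.trans (sup_le ?_ le_sup_right)))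
      exact fun m hm => Subgroup.mem_sup_left (Subgroup.mem_sup_right hm)
    exact Subgroup.subgroupOf_eq_top.1 (frattini_nongenerating htop)
  have hgc : ∀ a ∈ ({u, z} ∪ (M : Set Ω) : Set Ω), ∀ b ∈ ({u, z} ∪ (M : Set Ω) : Set Ω),
      a * b * a⁻¹ * b⁻¹ ∈ M := by
    intro a ha b hb
    rw [← commutatorElement_def]
    have hmem : ∀ {y : Ω}, y ∈ ({u, z} ∪ (M : Set Ω) : Set Ω) → y ∈ Wm p E M := by
      rintro y ((rfl | rfl) | hy)
      exacts [hu, hzW, hg.le_wm hx hy]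
    exact hg.comm_wm hx (hmem ha) (wm_le (hmem hb))
  have hgp : ∀ a ∈ ({u, z} ∪ (M : Set Ω) : Set Ω), a ^ p ∈ M := by
    rintro a ((rfl | rfl) | ha)
    exacts [hu_p, ((hg.wm_mem hx).1 hzW).2.1, M.pow_mem ha p]
  have hcl : Subgroup.closure ({u, z} ∪ (M : Set Ω) : Set Ω) = E := by
    rw [Subgroup.closure_union, Subgroup.closure_eq]
    exact hYE'
  have hnE : ∀ k ∈ Subgroup.closure ({u, z} ∪ (M : Set Ω) : Set Ω), ∀ y ∈ M, cj k y ∈ M := by
    rw [hcl]; exact hg.normE hx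
  have hcomE : ∀ a ∈ E, ∀ b ∈ E, ⁅a, b⁆ ∈ M := fun a ha b hb => by
    rw [commutatorElement_def]
    exact gen_comm hnE hgc a (hcl.symm ▸ ha) b (hcl.symm ▸ hb)
  have hpowE : ∀ a ∈ E, a ^ p ∈ M := fun a ha => gen_pow hnE hgc hgp a (hcl.symm ▸ ha)
  exact ⟨hcomE, hpowE, hg.card_eq hx hcomE hpowE hlt⟩

/-- The second case: an invariant central step. -/
theorem caseB (hmv : ¬ ∀ n ∈ normalizerIn S E, ∀ w ∈ Wm p E M, w⁻¹ * cj n w ∈ M) (hlt : M < E)
    (hW : Wm p E M ≤ im E (cj h)) :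
    ∃ Z : Subgroup Ω, Good F p E h Z ∧ M < Z ∧ Z ≤ Wm p E M ∧
      (∀ β ∈ opp F p E, ∀ w ∈ Wm p E M, w⁻¹ * afun β w ∈ Z) ∧
      (∀ β ∈ opp F p E, ∀ z ∈ Z, z⁻¹ * afun β z ∈ M) := by
  classical
  haveI := hx.finE
  haveI := hx.finN
  set W := Wm p E M with hWdef
  set W' := im W (cj h) with hW'def
  have hMW := hg.le_wm hx
  have hWE : W ≤ E := wm_le
  have hWS : W ≤ S := hWE.trans hx.le
  haveI := finite_of_le hWS
  have hW'E : W' ≤ E := by
    intro y hy
    by_contra hyE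
    exact hmv (hg.unmoved_of hx (hx.conj_le (im_mono hWE hy)) hyE fun w hw =>
      hg.comm_wm_conj hx hy (hW hw))
  haveI := finite_of_le (hW'E.trans hx.le)
  have hcardW : Nat.card W' = Nat.card W := (mor_cj (F := F) hWS hx.mem).card_im
  have hWne : W' ≠ W := fun e => by
    obtain ⟨e₀, he₀, he₀'⟩ := hx.exists_conj_notMem
    refine hmv (hg.unmoved_of hx (hx.cjh_memN (hx.leN he₀)) he₀' fun w hw => ?_)
    exact hg.comm_symm hx (hg.comm_wm_conj hx (show w ∈ W' from e.symm ▸ hw) (apply_mem_im he₀))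
  have hWN : W ≤ normalizerIn S E := hWE.trans hx.leN
  have hMn : ∀ k ∈ normalizerIn S E, ∀ y ∈ M, cj k y ∈ M := fun k hk y hy => hg.cj_mem hx hk hy
  have hWn : ∀ k ∈ normalizerIn S E, ∀ y ∈ W, cj k y ∈ W := fun k hk y hy =>
    hg.cj_mem_wm hx hk hy
  have hW'n : ∀ k ∈ normalizerIn S E, ∀ y ∈ W', cj k y ∈ W' := fun k hk y hy => by
    rw [mem_im_cj, show cj h⁻¹ (cj k y) = cj (cj h⁻¹ k) (cj h⁻¹ y) by simp only [cj_apply]; group]
    exact hWn _ (hx.cjhinv_memN hk) _ (mem_im_cj.1 hy)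
  have hp1 := (Fact.out : p.Prime).one_lt
  have hM0 : 0 < Nat.card M := by
    haveI : Finite M := Finite.of_injective _ (Subgroup.inclusion_injective hg.le)
    exact Nat.card_pos
  have hnotp : Nat.card W ≠ Nat.card M * p := fun e => hmv fun n hn w hw => by
    rw [inv_mul_cj]
    exact hg.comm_symm hx
      (succ_unmoved hx.hS inf_le_left hMW hWN hMn hWn e hn (inv_mem hw))
  set X := Subgroup.closure ((W : Set Ω) ∪ W') with hXdef
  have hXE : X ≤ E := (Subgroup.closure_le _).2 (Set.union_subset hWE hW'E)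
  have hXc : ∀ a ∈ ((W : Set Ω) ∪ W'), ∀ b ∈ ((W : Set Ω) ∪ W'), a * b * a⁻¹ * b⁻¹ ∈ M := by
    intro a ha b hb
    rw [← commutatorElement_def]
    rcases ha with ha | ha
    · exact hg.comm_wm hx ha (hb.elim (fun hb => hWE hb) fun hb => hW'E hb)
    · rcases hb with hb | hb
      · exact hg.comm_symm hx (hg.comm_wm hx hb (hW'E ha))
      · exact hg.comm_wm_conj hx ha (im_mono hWE hb)
  have hXp : ∀ a ∈ ((W : Set Ω) ∪ W'), a ^ p ∈ M := by
    rintro a (ha | ha)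
    exacts [((hg.wm_mem hx).1 ha).2.1, hg.pow_wm_conj hx ha]
  have hXM : ∀ k ∈ X, ∀ y ∈ M, cj k y ∈ M := fun k hk y hy => hMn k (hx.leN (hXE hk)) y hy
  have hMX : M ≤ X := fun m hm => Subgroup.subset_closure (Or.inl (hMW hm))
  have hXcard : Nat.card X ≤ p ^ 3 * Nat.card M :=
    section_card hx.rk (hXE.trans hx.le) hMX hXM (gen_comm hXM hXc) (gen_pow hXM hXc hXp)
  have hWX : W < X := by
    refine lt_of_le_not_ge (fun w hw => Subgroup.subset_closure (Or.inl hw)) fun hle => hWne ?_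
    exact Subgroup.eq_of_le_of_card_ge (fun y hy => hle (Subgroup.subset_closure (Or.inr hy)))
      hcardW.ge
  haveI := finite_of_le (hXE.trans hx.le)
  -- a step of index `p` above `M`
  haveI := normal_subgroupOf hMn
  haveI := normal_subgroupOf hWn
  have hMWlt : M.subgroupOf (normalizerIn S E) < W.subgroupOf (normalizerIn S E) := by
    refine lt_of_le_not_ge (fun y hy => hMW hy) fun hle => (hg.lt_wm hx hlt).not_ge fun w hw => ?_
    exact hle (show (⟨w, hWN hw⟩ : normalizerIn S E) ∈ W.subgroupOf _ from hw)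
  obtain ⟨C', hC'n, hMC', hC'W, hC'c⟩ :=
    PGroupsBasic.exists_normal_succ (p := p) (G := ↥(normalizerIn S E))
      (hx.hS.to_le inf_le_left) hMWlt
  set C := C'.map (normalizerIn S E).subtype with hCdef
  have hCW : C ≤ W := by
    rintro _ ⟨y, hy, rfl⟩
    exact hC'W hy
  have hMC : M ≤ C := fun m hm => ⟨⟨m, hWN (hMW hm)⟩, hMC' hm, rfl⟩
  have hCc : Nat.card C = Nat.card M * p := by
    rw [hCdef, Subgroup.card_map_of_injective (normalizerIn S E).subtype_injective, hC'c,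
      Nat.card_congr (Subgroup.subgroupOfEquivOfLe (hMW.trans hWN)).toEquiv]
  have hCn : ∀ k ∈ normalizerIn S E, ∀ y ∈ C, cj k y ∈ C := by
    rintro k hk _ ⟨y, hy, rfl⟩
    exact ⟨_, hC'n.conj_mem y hy ⟨k, hk⟩, rfl⟩
  have hCfix : ∀ n ∈ normalizerIn S E, ∀ c ∈ C, ⁅n, c⁆ ∈ M := fun n hn c hc =>
    succ_unmoved hx.hS inf_le_left hMC (hCW.trans hWN) hMn hCn hCc hn hc
  -- sizes
  have hWcard : Nat.card W = p ^ 2 * Nat.card M ∧ Nat.card X = p ^ 3 * Nat.card M := by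
    have h1 : C < W := lt_of_le_of_ne hCW fun e => hnotp (e ▸ hCc)
    have h2 := mul_card_le_of_lt hx.hS hWS h1
    have h3 := mul_card_le_of_lt hx.hS (hXE.trans hx.le) hWX
    rw [hCc] at h2
    have h4 : p * Nat.card W ≤ p * (p ^ 2 * Nat.card M) := h3.trans (hXcard.trans (by rw [← mul_assoc, ← pow_succ']))
    have h5 := Nat.le_of_mul_le_mul_left h4 (by omega)
    refine ⟨le_antisymm h5 (le_trans (le_of_eq (by ring)) h2), le_antisymm hXcard ?_⟩
    refine le_trans ?_ h3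
    refine le_trans (le_of_eq (by ring)) (Nat.mul_le_mul_left p h2)
  -- `C` is the intersection
  have hfixsup : ∀ {w : Ω}, w ∈ W → (∀ n ∈ normalizerIn S E, ⁅n, w⁆ ∈ M) → w ∈ C := by
    intro w hw hfix
    by_contra hwC
    let K : Subgroup Ω :=
      { carrier := {y | y ∈ W ∧ ∀ n ∈ normalizerIn S E, ⁅n, y⁆ ∈ M}
        one_mem' := ⟨W.one_mem, fun n _ => by simp⟩
        mul_mem' := fun {a b} ha hb => ⟨W.mul_mem ha.1 hb.1, fun n hn => by
          rw [show ⁅n, a * b⁆ = ⁅n, a⁆ * cj a ⁅n, b⁆ by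
            simp only [cj_apply, commutatorElement_def]; group]
          exact M.mul_mem (ha.2 n hn) (hMn a (hWN ha.1) _ (hb.2 n hn))⟩
        inv_mem' := fun {a} ha => ⟨W.inv_mem ha.1, fun n hn => by
          rw [show ⁅n, a⁻¹⁆ = cj a⁻¹ ⁅n, a⁆⁻¹ by
            simp only [cj_apply, commutatorElement_def]; group]
          exact hMn _ (hWN (W.inv_mem ha.1)) _ (M.inv_mem (ha.2 n hn))⟩ }
    have hKW : K ≤ W := fun y hy => hy.1
    have hCK : C < K := lt_of_le_not_ge (fun c hc => ⟨hCW hc, fun n hn => hCfix n hn c hc⟩)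
      fun e => hwC (e ⟨hw, hfix⟩)
    haveI := finite_of_le (hKW.trans hWS)
    have h2 := mul_card_le_of_lt hx.hS (hKW.trans hWS) hCK
    rw [hCc] at h2
    have hKeq : K = W := Subgroup.eq_of_le_of_card_ge hKW
      (by rw [hWcard.1]; exact le_trans (le_of_eq (by ring)) h2)
    refine hmv fun n hn v hv => ?_
    rw [inv_mul_cj]
    exact hg.comm_symm hx ((hKeq.ge (inv_mem hv) : v⁻¹ ∈ K).2 n hn)
  have hZfix : ∀ w ∈ W, w ∈ W' → ∀ n ∈ normalizerIn S E, ⁅n, w⁆ ∈ M := by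
    intro w hw hw' n hn
    obtain ⟨e₀, he₀, he₀'⟩ := hx.exists_conj_notMem
    obtain ⟨e, he, y, hy, rfl⟩ := hx.exists_split (apply_mem_im he₀) he₀' hn
    rw [show ⁅e * y, w⁆ = cj e ⁅y, w⁆ * ⁅e, w⁆ by
      simp only [cj_apply, commutatorElement_def]; group]
    exact M.mul_mem (hMn e (hx.leN he) _ (hg.comm_symm hx (hg.comm_wm_conj hx hw' hy)))
      (hg.comm_symm hx (hg.comm_wm hx hw he))
  have hCeq : W ⊓ W' = C := by
    haveI := finite_of_le ((inf_le_left : W ⊓ W' ≤ W).trans hWS)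
    haveI := finite_of_le (hCW.trans hWS)
    refine Subgroup.eq_of_le_of_card_ge (fun w hw => hfixsup hw.1 (hZfix w hw.1 hw.2)) ?_
    have hW'X : W' ≤ X := fun y hy => Subgroup.subset_closure (Or.inr hy)
    have h1 := Subgroup.relIndex_mul_relIndex ⊥ W' X bot_le hW'X
    rw [Subgroup.relIndex_bot_left, Subgroup.relIndex_bot_left, hcardW, hWcard.1, hWcard.2] at h1
    have hrel : W'.relIndex X = p := by
      have h2 : p ^ 2 * Nat.card M * W'.relIndex X = p ^ 2 * Nat.card M * p := by rw [h1]; ring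
      exact Nat.eq_of_mul_eq_mul_left (by positivity) h2
    have h3 : W'.relIndex W ≤ p := hrel ▸ Subgroup.relIndex_le_of_le_right hWX.le (by
      rw [hrel]; omega)
    have h4 := Subgroup.relIndex_mul_relIndex ⊥ (W ⊓ W') W bot_le inf_le_left
    rw [Subgroup.relIndex_bot_left, Subgroup.relIndex_bot_left, inf_comm,
      Subgroup.inf_relIndex_right, inf_comm, hWcard.1] at h4
    rw [hCc]
    refine Nat.le_of_mul_le_mul_right ?_ (show 0 < p by omega)
    calc Nat.card M * p * p = p ^ 2 * Nat.card M := by ring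
      _ = Nat.card ↥(W ⊓ W') * W'.relIndex W := h4.symm
      _ ≤ _ := Nat.mul_le_mul_left _ h3
  have hCh : ∀ c ∈ C, cj h c ∈ C := by
    intro c hc
    have hc1 : cj h c ∈ W' := apply_mem_im (hCW hc)
    have hfix : ∀ n ∈ normalizerIn S E, ⁅n, cj h c⁆ ∈ M := fun n hn => by
      have := hg.hinv _ (hCfix _ (hx.cjhinv_memN hn) c hc)
      rwa [cj_commutator, cj_cj_inv] at this
    rw [← hCeq]
    refine ⟨(hg.wm_mem hx).2 ⟨hW'E hc1, hg.pow_wm_conj hx hc1, fun y hy => ?_⟩, hc1⟩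
    exact hg.comm_symm hx (hfix y (hx.leN hy))
  have hCW' : C ≤ W' := fun c hc => (hCeq.ge hc).2
  have hW'C : ∀ n ∈ normalizerIn S E, ∀ y ∈ W', ⁅n, y⁆ ∈ C := fun n hn y hy =>
    succ_unmoved hx.hS inf_le_left hCW' (hW'E.trans hx.leN) hCn hW'n
      (by rw [hcardW, hWcard.1, hCc]; ring) hn hy
  have hWC : ∀ n ∈ normalizerIn S E, ∀ y ∈ W, ⁅n, y⁆ ∈ C := fun n hn y hy =>
    succ_unmoved hx.hS inf_le_left hCW hWN hCn hWn (by rw [hWcard.1, hCc]; ring) hn hy
  have hXC : ∀ n ∈ normalizerIn S E, ∀ y ∈ X, ⁅n, y⁆ ∈ C := by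
    intro n hn y hy
    induction hy using Subgroup.closure_induction with
    | mem y hy => exact hy.elim (hWC n hn y) (hW'C n hn y)
    | one => simp [C.one_mem]
    | mul a b ha _ iha ihb =>
      rw [show ⁅n, a * b⁆ = ⁅n, a⁆ * cj a ⁅n, b⁆ by
        simp only [cj_apply, commutatorElement_def]; group]
      exact C.mul_mem iha (hCn a (hx.leN (hXE ha)) _ ihb)
    | inv a ha iha =>
      rw [show ⁅n, a⁻¹⁆ = cj a⁻¹ ⁅n, a⁆⁻¹ by
        simp only [cj_apply, commutatorElement_def]; group]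
      exact hCn _ (hx.leN (E.inv_mem (hXE ha))) _ (C.inv_mem iha)
  -- `C` is invariant
  have hCinv : InvBy (opp F p E) C := by
    intro α hα
    by_contra hcon
    push Not at hcon
    obtain ⟨y, hyW', hyW⟩ : ∃ y ∈ W', y ∉ W := by
      by_contra hle
      push Not at hle
      exact hWne (Subgroup.eq_of_le_of_card_ge hle hcardW.ge)
    have hyE := hW'E hyW'
    obtain ⟨e₁, he₁, hd⟩ : ∃ e ∈ E, ⁅y, e⁆ ∉ M := by
      by_contra hall
      push Not at hall
      exact hyW ((hg.wm_mem hx).2 ⟨hyE, hg.pow_wm_conj hx hyW', hall⟩)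
    have hdC : ∀ e ∈ E, ⁅y, e⁆ ∈ C := fun e he => by
      rw [← commutatorElement_inv]
      exact C.inv_mem (hW'C e (hx.leN he) y hyW')
    have hαM : ∀ m ∈ M, afun α m ∈ M := hg.inv α hα
    have hCgen : C = M ⊔ Subgroup.zpowers ⁅y, e₁⁆ := by
      haveI := finite_of_le (hCW.trans hWS)
      refine (Subgroup.eq_of_le_of_card_ge (sup_le hMC (Subgroup.zpowers_le.2 (hdC e₁ he₁))) ?_).symm
      rw [hCc, mul_comm]
      exact mul_card_le_of_lt hx.hS ((sup_le hMC (Subgroup.zpowers_le.2 (hdC e₁ he₁))).trans (hCW.trans hWS))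
        (lt_of_le_not_ge le_sup_left fun e =>
          hd (e (Subgroup.mem_sup_right (Subgroup.mem_zpowers _))))
    have hαd : afun α ⁅y, e₁⁆ ∉ C := fun hin => by
      obtain ⟨c, hc, hc'⟩ := hcon
      refine hc' ?_
      rw [hCgen, ← SetLike.mem_coe, Subgroup.coe_mul_of_right_le_normalizer_left _ _
        (Subgroup.zpowers_le.mpr (mem_normalizer_of_cj_le (hg.le.trans hx.le)
          (hMn _ (hWN (hCW (hdC e₁ he₁))))))] at hc
      obtain ⟨m', hm', _, ⟨i, rfl⟩, rfl⟩ := Set.mem_mul.1 hc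
      rw [afun_map_mul α (hg.le hm') (E.zpow_mem (hWE (hCW (hdC e₁ he₁))) i),
        afun_zpow α (hWE (hCW (hdC e₁ he₁)))]
      exact C.mul_mem (hMC (hαM m' hm')) (C.zpow_mem hin i)
    set y' := afun α y
    have hy'E : y' ∈ E := afun_mem α hyE
    have hαC : ∀ e ∈ E, ⁅y', e⁆ ∈ img α C := fun e he => by
      have e1 : ⁅y', e⁆ = afun α ⁅y, afun α⁻¹ e⁆ := by
        rw [afun_commutator α hyE (afun_mem _ he), afun_apply_inv α he]
      rw [e1]
      exact afun_mem_img α (hCW.trans hWE) (hdC _ (afun_mem _ he))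
    have hyy' : ⁅y, y'⁆ ∈ M := by
      have h1 := hdC y' hy'E
      have h2 : ⁅y, y'⁆ ∈ img α C := by
        rw [← commutatorElement_inv]; exact Subgroup.inv_mem _ (hαC y hyE)
      have hαCle : img α C ≤ E := img_le α C
      have hMi : M ≤ C ⊓ img α C := fun m hm => ⟨hMC hm, by
        have := afun_mem_img α (hCW.trans hWE) (hMC (hg.inv α⁻¹ (inv_mem hα) m hm))
        rwa [afun_apply_inv α (hg.le hm)] at this⟩
      by_contra hnM
      have hlt2 : M < C ⊓ img α C := lt_of_le_not_ge hMi fun e => hnM (e ⟨h1, h2⟩)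
      haveI := finite_of_le (hCW.trans hWS)
      have h3 := mul_card_le_of_lt hx.hS ((inf_le_left.trans hCW).trans hWS) hlt2
      have h4 : C ⊓ img α C = C :=
        Subgroup.eq_of_le_of_card_ge inf_le_left (by rw [hCc, mul_comm]; exact h3)
      haveI := finite_of_le (hαCle.trans hx.le)
      have h5 : img α C = C := (Subgroup.eq_of_le_of_card_ge (h4.symm.le.trans inf_le_right)
        (by rw [card_img α (hCW.trans hWE)])).symm
      exact hαd (h5 ▸ afun_mem_img α (hCW.trans hWE) (hdC e₁ he₁))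
    set Y := Subgroup.closure ((W : Set Ω) ∪ {y, y'}) with hYdef
    have hTm : ∀ a ∈ ((W : Set Ω) ∪ {y, y'}), a ∈ E ∧ a ^ p ∈ M := by
      rintro a (ha | rfl | rfl)
      · exact ⟨hWE ha, ((hg.wm_mem hx).1 ha).2.1⟩
      · exact ⟨hyE, hg.pow_wm_conj hx hyW'⟩
      · refine ⟨hy'E, ?_⟩
        have h1 := hαM _ (hg.pow_wm_conj hx hyW')
        rwa [← zpow_natCast, afun_zpow α hyE, zpow_natCast] at h1
    have hTc : ∀ a ∈ ((W : Set Ω) ∪ {y, y'}), ∀ b ∈ ((W : Set Ω) ∪ {y, y'}),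
        a * b * a⁻¹ * b⁻¹ ∈ M := by
      intro a ha b hb
      rw [← commutatorElement_def]
      rcases ha with ha | ha
      · exact hg.comm_wm hx ha (hTm b hb).1
      rcases hb with hb | hb
      · exact hg.comm_symm hx (hg.comm_wm hx hb (hTm a (Or.inr ha)).1)
      rcases ha with rfl | rfl <;> rcases hb with rfl | rfl
      exacts [by simp, hyy', hg.comm_symm hx hyy', by simp]
    have hYE : Y ≤ E := (Subgroup.closure_le _).2 fun a ha => (hTm a ha).1
    have hYn : ∀ k ∈ Y, ∀ m ∈ M, cj k m ∈ M := fun k hk m hm => hMn k (hx.leN (hYE hk)) m hm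
    have hMY : M ≤ Y := fun m hm => Subgroup.subset_closure (Or.inl (hMW hm))
    have hYcard : Nat.card Y ≤ p ^ 3 * Nat.card M :=
      section_card hx.rk (hYE.trans hx.le) hMY hYn (gen_comm hYn hTc)
        (gen_pow hYn hTc fun a ha => (hTm a ha).2)
    have hy'X : y' ∈ X := by
      haveI := finite_of_le (hYE.trans hx.le)
      set Y₀ := Subgroup.closure ((W : Set Ω) ∪ {y})
      have hY₀Y : Y₀ ≤ Y := Subgroup.closure_mono (Set.union_subset_union_right _ (by simp))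
      have hY₀X : Y₀ ≤ X := Subgroup.closure_mono (Set.union_subset_union_right _ (by simpa using hyW'))
      have hlt3 : W < Y₀ := lt_of_le_not_ge (fun w hw => Subgroup.subset_closure (Or.inl hw))
        fun e => hyW (e (Subgroup.subset_closure (Or.inr rfl)))
      have h3 := mul_card_le_of_lt hx.hS ((hY₀Y.trans hYE).trans hx.le) hlt3
      rw [hWcard.1] at h3
      have e1 : Y₀ = Y := Subgroup.eq_of_le_of_card_ge hY₀Y
        (hYcard.trans (le_trans (le_of_eq (by ring)) h3))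
      exact hY₀X (e1.ge (Subgroup.subset_closure (Or.inr (Or.inr rfl))))
    refine hαd ?_
    rw [afun_commutator α hyE he₁, ← commutatorElement_inv]
    exact C.inv_mem (hXC _ (hx.leN (afun_mem α he₁)) y' hy'X)
  have htC := hx.trivial_of_unmoved (hCW.trans hWE) hMC hg.inv hCinv fun n hn c hc => by
    rw [inv_mul_cj]
    exact hg.comm_symm hx (hCfix n hn _ (inv_mem hc))
  refine ⟨C, hg.extend hx hMC (hCW.trans hWE) hCinv hCh htC, ?_, hCW,
    hx.trivial_of_unmoved hWE hCW hCinv (hg.inv_wm hx) (fun n hn w hw => ?_), htC⟩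
  · refine lt_of_le_of_ne hMC fun e => ?_
    have := congrArg (fun K : Subgroup Ω => Nat.card K) e
    simp only [hCc] at this
    nlinarith
  · rw [inv_mul_cj, ← commutatorElement_inv]
    exact C.inv_mem (hWC n hn _ (inv_mem hw))

end Good

end Cfsg.Agent.Rank3Pearl80
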