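import Cfsg.Agent.Lib.Rank3Pearl80Torus

/-!
Extending a torus of an essential subgroup `E` to `N_S(E)`, and the fact that a `p`-element of
`Aut_F(N_S(E))` fixing `E` is inner.
-/

set_option autoImplicit false
set_option linter.unusedSectionVars false
set_option linter.style.haveILetI false

namespace Cfsg.Agent.Rank3Pearl80

open scoped commutatorElement
open Cfsg.FusionSystem Cfsg.Agent.FusionSysBasic Cfsg.Agent.FusionSysSaturated
  Cfsg.Agent.FusionSysNormal Cfsg.Agent.FusionSysAlperin Cfsg.Agent.Rank3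

universe u

variable {Ω : Type u} [Group Ω] {S : Subgroup Ω} {F : FusionSystem S} {p : ℕ} [Finite S]
  [Fact p.Prime] {E M : Subgroup Ω} {h : Ω}

namespace NN

variable (hx : NN F p E h)

include hx

/-- Every map of the system defined on `N_S(E)` carries it onto a self-centralising subgroup. -/
theorem mem_im_of_centralizes {f : Ω → Ω} (hf : Mor F (normalizerIn S E) f) {c : Ω} (hc : c ∈ S)
    (hcen : ∀ n ∈ normalizerIn S E, cj c (f n) = f n) : c ∈ im (normalizerIn S E) f := by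
  have hfE := hf.restrict_to hx.leN
  have h1 : c ∈ im E f := hx.ess.1.2 _ (isConj_iff.2 ⟨f, hfE, rfl⟩)
    (mem_centralizerIn.2 ⟨hc, fun y hy => by
      obtain ⟨e, he, rfl⟩ := hfE.mem_im.1 hy
      exact hcen e (hx.leN he)⟩)
  exact im_mono hx.leN h1

/-- A `p`-element of `Aut_F(N_S(E))` fixing `E` is inner. -/
theorem pinn {φ : MulAut (normalizerIn S E)} (hφ : φ ∈ F.autGroup (normalizerIn S E))
    (hφp : ∃ k : ℕ, φ ^ p ^ k = 1) (hφE : ∀ e ∈ E, afun φ e ∈ E) :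
    ∃ v ∈ normalizerIn S E, ∀ n ∈ normalizerIn S E, afun φ n = cj v n := by
  have hNS : (normalizerIn S E) ≤ S := inf_le_left
  obtain ⟨N₀, hN₀, hN₀n⟩ := exists_fullyNormalized (F := F) hNS
  obtain ⟨τ, hτ, -, hτN⟩ := exists_map_to_fullyNormalized hx.hS hx.hF hN₀n hN₀
  obtain ⟨τ, hτ, -, hτN⟩ := exists_map_to_fullyNormalized hx.hS hx.hF hN₀n hN₀
  have hτ' : Mor F (normalizerIn S E) τ := hτ.restrict_to (le_normalizerIn hNS)
  haveI := finite_autGroup (F := F) N₀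
  obtain ⟨-, hA⟩ := fullyAutomized_of_fullyNormalized hx.hS hx.hF hN₀n
  obtain ⟨k, hk⟩ := hφp
  set Θ := hτ'.transport hτN
  have hpg : IsPGroup p (Subgroup.zpowers (Θ φ)) := by
    obtain ⟨j, -, hj⟩ := (Nat.dvd_prime_pow (Fact.out : p.Prime)).1 (orderOf_dvd_of_pow_eq_one hk)
    exact IsPGroup.of_card (n := j) (by rw [Nat.card_zpowers, Θ.orderOf_eq, hj])
  obtain ⟨a, ha, haR⟩ := sylIn_absorb (R := autInducedBy S N₀) hA hpg
    (Subgroup.zpowers_le.2 (hτ'.transport_mem hτN hφ))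
  obtain ⟨g, hgS, hgn, hge⟩ := mem_autInducedBy.1 (haR _ (Subgroup.mem_zpowers _))
  set τ₁ : Ω → Ω := afun a ∘ τ
  have hτ₁ : Mor F (normalizerIn S E) τ₁ := hτ'.comp ((mem_autGroup hN₀n.1).1 ha) fun x hx => hτN ▸ apply_mem_im hx
  have hτ₁N : im (normalizerIn S E) τ₁ = N₀ := by rw [← hτ'.im_comp, hτN, im_afun]
  have hrel : ∀ n ∈ (normalizerIn S E), τ₁ (afun φ n) = cj g (τ₁ n) := by
    intro n hn
    have hn0 : τ n ∈ N₀ := hτN ▸ apply_mem_im hn
    show afun a (τ (afun φ n)) = cj g (afun a (τ n))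
    rw [← hge _ (afun_mem a hn0), afun_mul _ _ (afun_mem a hn0), afun_inv_apply a hn0,
      afun_mul _ _ hn0, hτ'.afun_transport hτN φ hn]
  set E₀ := im E τ₁
  have hτ₁E := hτ₁.restrict_to hx.leN
  have hgE : g ∈ normalizerIn S E₀ := by
    refine ⟨hgS, mem_normalizer_of_cj_le hτ₁E.im_le fun y hy => ?_⟩
    obtain ⟨e, he, rfl⟩ := hτ₁E.mem_im.1 hy
    rw [← hrel e (hx.leN he)]
    exact apply_mem_im (hφE e he)
  have hle : N₀ ≤ normalizerIn S E₀ := by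
    rw [← hτ₁N]
    exact im_le_iff.2 fun n hn => mor_normalizer_mem hτ₁ hx.le rfl hn
  haveI := finite_normalizerIn (S := S) E₀
  have heq : N₀ = normalizerIn S E₀ := by
    refine Subgroup.eq_of_le_of_card_ge hle ?_
    rw [← hτ₁N, hτ₁.card_im]
    exact hx.ess.2.1.2 _ (isConj_iff.2 ⟨τ₁, hτ₁E, rfl⟩)
  obtain ⟨v, hv, hve⟩ := hτ₁.mem_im.1 (show g ∈ im (normalizerIn S E) τ₁ by rw [hτ₁N, heq]; exact hgE)
  refine ⟨v, hv, fun n hn => hτ₁.injOn (afun_mem φ hn) ((normalizerIn S E).mul_mem ((normalizerIn S E).mul_mem hv hn) ((normalizerIn S E).inv_mem hv)) ?_⟩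
  rw [hrel n hn, ← hve, ← hτ₁.map_cj hv hn]

/-- An automorphism of `E` normalising `Aut_S(E)` extends to `N_S(E)`. -/
theorem extend_aut {τ : MulAut E} (hτ : τ ∈ F.autGroup E) {x : Ω} (hxN : x ∈ normalizerIn S E)
    (hxE : x ∉ E) {n : ℕ}
    (hc : τ * nHom S E ⟨x, hxN⟩ * τ⁻¹ * (nHom S E ⟨x, hxN⟩ ^ n)⁻¹ ∈ Inn E) :
    ∃ f ∈ F.autGroup (normalizerIn S E),
      (∀ e ∈ E, afun f e = afun τ e) ∧ ∃ e ∈ E, afun f x = e * x ^ n := by
  have hxc : τ * nHom S E ⟨x, hxN⟩ * τ⁻¹ ∈ autInducedBy S E := by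
    have := mul_mem (inn_le_autInducedBy hx.le hc) (pow_mem (hx.cAut_mem hxN) n)
    rwa [inv_mul_cancel_right] at this
  have hstep : ∀ g (hg : g ∈ normalizerIn S E),
      τ * nHom S E ⟨g, hg⟩ * τ⁻¹ ∈ autInducedBy S E := by
    intro g hg
    obtain ⟨e, he, k, rfl⟩ := hx.exists_eq hxN hxE hg
    have e1 : nHom S E ⟨e * x ^ k, hg⟩ = nHom S E ⟨e, hx.leN he⟩ * nHom S E ⟨x, hxN⟩ ^ k := by
      rw [← map_zpow, ← map_mul]; rfl
    rw [e1, show τ * (nHom S E ⟨e, hx.leN he⟩ * nHom S E ⟨x, hxN⟩ ^ k) * τ⁻¹ =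
      τ * nHom S E ⟨e, hx.leN he⟩ * τ⁻¹ * (τ * nHom S E ⟨x, hxN⟩ * τ⁻¹) ^ k by
      rw [conj_zpow]; group]
    refine mul_mem (inn_le_autInducedBy hx.le ⟨τ ⟨e, he⟩, afun_ext fun y hy => ?_⟩) (zpow_mem hxc k)
    rw [afun_mul _ _ hy, afun_mul _ _ (afun_mem _ hy), afun_nHom _ (afun_mem _ hy), cj_apply,
      afun_map_mul τ (E.mul_mem he (afun_mem _ hy)) (E.inv_mem he),
      afun_map_mul τ he (afun_mem _ hy), afun_apply_inv τ hy, afun_apply _ hy, MulAut.conj_apply,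
      afun_apply τ he, afun_apply τ (E.inv_mem he)]
    simp only [Subgroup.coe_mul, Subgroup.coe_inv]
    congr 1
    rw [← Subgroup.coe_inv, ← map_inv]
    rfl
  obtain ⟨f, hf, hag⟩ := (receptive_iff.mp (receptive_of_fullyNormalized hx.hS hx.hF hx.ess.2.1)).2 E
    (afun τ) (normalizerIn S E) ((mem_autGroup hx.le).1 hτ) (im_afun τ) inf_le_left inf_le_right
    fun g hg => by
      obtain ⟨g', hg', -, he⟩ := mem_autInducedBy.1 (hstep g hg)
      refine ⟨g', hg', fun y hy => ?_⟩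
      rw [← he _ (afun_mem τ hy), afun_mul _ _ (afun_mem τ hy), afun_inv_apply τ hy,
        afun_mul _ _ hy, afun_nHom _ hy]
  rw [sup_normalizerIn hx.le] at hf
  have himE : im E f = E := (im_congr hag).trans (im_afun τ)
  obtain ⟨φ, hφ, hφe⟩ := hf.exists_aut
    (hf.im_self fun y hy => mor_normalizer_mem hf hx.le himE hy)
  refine ⟨φ, hφ, fun e he => by rw [hφe e (hx.leN he), hag e he], ?_⟩
  obtain ⟨b, hb⟩ := hc
  refine ⟨afun φ x * (x ^ n)⁻¹, ?_, (inv_mul_cancel_right _ _).symm⟩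
  have hxn : x ^ n ∈ normalizerIn S E := pow_mem hxN n
  have hmem : afun φ x * (x ^ n)⁻¹ ∈ normalizerIn S E :=
    mul_mem (afun_mem φ hxN) (inv_mem hxn)
  refine mem_of_nHom_mem_inn hx.le (centralizerIn_le_of_centric hx.ess.1) ⟨_, hmem⟩ ⟨b, ?_⟩
  have e1 : nHom S E ⟨afun φ x, afun_mem φ hxN⟩ = τ * nHom S E ⟨x, hxN⟩ * τ⁻¹ := by
    refine afun_ext fun y hy => ?_
    have hy' := afun_mem τ⁻¹ hy
    rw [afun_nHom _ hy, afun_mul _ _ hy, afun_mul _ _ hy', afun_nHom _ hy']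
    show cj (afun φ x) y = afun τ (cj x (afun τ⁻¹ y))
    rw [hφe x hxN]
    conv_lhs => rw [← afun_apply_inv τ hy, ← hag _ hy', ← hf.map_cj hxN (hx.leN hy')]
    exact hag _ (hx.cj_mem hxN hy')
  rw [hb, ← e1, ← map_pow, ← map_inv, ← map_mul]
  rfl

end NN

end Cfsg.Agent.Rank3Pearl80
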