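import Cfsg.Agent.Lib.Rank3Pearl80Cases
import Cfsg.Agent.Lib.ClassTwoPow
import Cfsg.Agent.Lib.OrderFourGroups88

/-!
Without pearls, a normal elementary abelian subgroup of `S` lies in, and is invariant in, every
essential subgroup that is not normal in `S`.
-/

set_option autoImplicit false
set_option linter.unusedSectionVars false
set_option linter.style.haveILetI false

namespace Cfsg.Agent.Rank3Pearl80

open scoped commutatorElement
open Cfsg.FusionSystem Cfsg.Agent.FusionSysBasic Cfsg.Agent.FusionSysSaturated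
  Cfsg.Agent.FusionSysNormal Cfsg.Agent.FusionSysAlperin Cfsg.Agent.Rank3

universe u

variable {Ω : Type u} [Group Ω] {S : Subgroup Ω} {F : FusionSystem S} {p : ℕ} [Finite S]
  [Fact p.Prime] {E M : Subgroup Ω} {h : Ω}

/-- A non-abelian group of order `p ^ 3` is extraspecial. -/
theorem extraspecial_of_card_cube {P : Type*} [Group P] [Finite P] {p : ℕ} [hp : Fact p.Prime]
    (hc : Nat.card P = p ^ 3) (hnc : ¬ IsMulCommutative P) : Cfsg.IsExtraspecial p P := by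
  have hG : IsPGroup p P := IsPGroup.of_card hc
  have hZ : Nat.card (Subgroup.center P) = p :=
    le_antisymm ((OrderFourGroups88.card_center_le hG hnc (n := 1) hc).trans_eq (pow_one p))
      (OrderFourGroups88.card_center_ge hG hnc)
  have hidx : (Subgroup.center P).index = p ^ 2 := by
    have h := (Subgroup.center P).card_mul_index
    rw [hZ, hc, pow_succ' p 2] at h
    exact Nat.eq_of_mul_eq_mul_left hp.out.pos h
  have hle : commutator P ≤ Subgroup.center P :=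
    PGroupsBasic.commutator_le_of_index_le_sq hG hidx.le
  have hcom : commutator P = Subgroup.center P := by
    rcases PGroupsBasic.le_or_inf_eq_bot hZ (H := Subgroup.center P) (K := commutator P) with h | h
    · exact le_antisymm hle h
    · exfalso
      rw [inf_eq_right.2 hle] at h
      refine hnc ⟨⟨fun a b => ?_⟩⟩
      exact commutatorElement_eq_one_iff_mul_comm.1 (Subgroup.mem_bot.1
        (h ▸ Subgroup.commutator_mem_commutator (Subgroup.mem_top a) (Subgroup.mem_top b)))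
  refine ⟨⟨hG, le_antisymm ?_ ?_, hcom⟩, hZ⟩
  · refine PGroupsBasic.frattini_le_of_elementary_quotient (p := p) hle fun x => ?_
    rw [← QuotientGroup.eq_one_iff]
    show QuotientGroup.mk' (Subgroup.center P) (x ^ p) = 1
    rw [map_pow]
    set t := QuotientGroup.mk' (Subgroup.center P) x
    have hd : orderOf t ∣ p ^ 2 := by
      rw [← hidx, Subgroup.index_eq_card]
      exact orderOf_dvd_natCard t
    obtain ⟨i, hi, he⟩ := (Nat.dvd_prime_pow hp.out).1 hd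
    interval_cases i
    · rw [orderOf_eq_one_iff.1 (he.trans (pow_zero _)), one_pow]
    · exact orderOf_dvd_iff_pow_eq_one.1 (by rw [he, pow_one])
    · haveI : IsCyclic (P ⧸ Subgroup.center P) := isCyclic_of_orderOf_eq_card t (by
        rw [he, ← Subgroup.index_eq_card, hidx])
      exact absurd ((QuotientGroup.mk' (Subgroup.center P)).isMulCommutative_of_isCyclic_of_ker_le_center
        (QuotientGroup.ker_mk' _).le) hnc
  · exact hcom ▸ PGroupsBasic.commutator_le_frattini hG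

theorem afun_conj_trivial {E W M : Subgroup Ω} (hWE : W ≤ E)
    (hc : ∀ w ∈ W, ∀ y ∈ E, ⁅w, y⁆ ∈ M) {i : MulAut E} (hi : i ∈ Inn E) {w : Ω} (hw : w ∈ W) :
    w⁻¹ * afun i w ∈ M := by
  obtain ⟨g, rfl⟩ := hi
  rw [afun_apply _ (hWE hw)]
  have e : w⁻¹ * ((MulAut.conj g ⟨w, hWE hw⟩ : E) : Ω) = ⁅w⁻¹, (g : Ω)⁆ := by
    simp only [MulAut.conj_apply, Subgroup.coe_mul, Subgroup.coe_inv, commutatorElement_def]
    group
  rw [e]
  exact hc _ (W.inv_mem hw) _ g.2

/-- `O^{p'}(Aut_F(E))` contains an element moving the action of `N_S(E)` by a scalar. -/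
theorem NN.perf (hx : NN F p E h) :
    ∃ (x : Ω) (hxN : x ∈ normalizerIn S E), x ∉ E ∧ ∃ τ ∈ opp F p E, ∃ n : ℕ,
      (n : ZMod p) ≠ 1 ∧
      τ * nHom S E ⟨x, hxN⟩ * τ⁻¹ * (nHom S E ⟨x, hxN⟩ ^ n)⁻¹ ∈ Inn E := by
  classical
  haveI := hx.finE
  set 𝒢 : Set (Subgroup Ω) := {K | Good F p E h K}
  have hfin : 𝒢.Finite := Set.Finite.subset
    (Set.finite_range (fun K : Subgroup S => K.map S.subtype)) fun K (hK : Good F p E h K) =>
      ⟨K.subgroupOf S, by
        show (K.subgroupOf S).map S.subtype = K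
        exact Subgroup.map_subgroupOf_eq_of_le (hK.le.trans hx.le)⟩
  obtain ⟨M, hMg, hMmax⟩ := 𝒢.exists_max_image (fun K => Nat.card K) hfin ⟨⊥, Good.bot⟩
  have hg : Good F p E h M := hMg
  have hlt := hx.lt_of_good hg
  have hmax : ∀ Z, Good F p E h Z → ¬ M < Z := fun Z hZ hMZ => by
    haveI := finite_of_le (hZ.le.trans hx.le)
    exact hMZ.ne (Subgroup.eq_of_le_of_card_ge hMZ.le (hMmax Z hZ))
  have hmv : ¬ ∀ n ∈ normalizerIn S E, ∀ w ∈ Wm p E M, w⁻¹ * cj n w ∈ M := fun hun =>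
    hmax _ (hg.wm_good hx hun) (hg.lt_wm hx hlt)
  obtain ⟨u, hu, hu'⟩ : ∃ u ∈ Wm p E M, u ∉ im E (cj h) := by
    by_contra hcon
    push Not at hcon
    obtain ⟨Z, hZ, hMZ, -⟩ := hg.caseB hx hmv hlt hcon
    exact hmax Z hZ hMZ
  obtain ⟨hcom, hpow, -⟩ := hg.caseA hx hmv hlt hu hu'
  obtain ⟨e₀, he₀, he₀'⟩ := hx.exists_conj_notMem
  obtain ⟨u₁, z₁, R, ht⟩ := exists_tor hx hg hcom hpow hlt (apply_mem_im (f := cj h) he₀) he₀'
  obtain ⟨s, hs0, hs2, -⟩ := exists_torus_param (p := p) hx.hp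
  obtain ⟨τ, hτ, -, -, -, hn⟩ := ht.torus s hs0
  refine ⟨_, _, he₀', τ, hτ, (s⁻¹ * s⁻¹).val, ?_, hn _ (ZMod.natCast_zmod_val _)⟩
  rw [ZMod.natCast_zmod_val, ← mul_inv_rev, Ne, inv_eq_one, ← sq]
  exact hs2

namespace Good

variable (hx : NN F p E h) (hg : Good F p E h M)

include hx hg

/-- If `N_S(E)` moves `W / M`, then `E / M` is a natural plane. -/
theorem moved_plane (hmv : ¬ ∀ n ∈ normalizerIn S E, ∀ w ∈ Wm p E M, w⁻¹ * cj n w ∈ M) :
    (∀ a ∈ E, ∀ b ∈ E, ⁅a, b⁆ ∈ M) ∧ (∀ a ∈ E, a ^ p ∈ M) ∧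
      Nat.card E = p ^ 2 * Nat.card M := by
  classical
  have hlt := hx.lt_of_good hg
  by_cases hW : Wm p E M ≤ im E (cj h)
  swap
  · obtain ⟨u, hu, hu'⟩ := SetLike.not_le_iff_exists.1 hW
    exact hg.caseA hx hmv hlt hu hu'
  exfalso
  obtain ⟨Z, hZ, hMZ, hZW, hWZ, hZM⟩ := hg.caseB hx hmv hlt hW
  obtain ⟨x, hxN, hxE, τ, hτ, n, hn1, hi⟩ := hx.perf
  refine hmv (hg.unmoved_of hx hxN hxE fun w hw => ?_)
  haveI := normal_subgroupOf (hg.normE hx)
  set q := QuotientGroup.mk' (M.subgroupOf E)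
  have hq : ∀ {a b : E}, q a = q b ↔ ((a : Ω))⁻¹ * b ∈ M := fun {a b} => by
    rw [QuotientGroup.mk'_apply, QuotientGroup.mk'_apply, QuotientGroup.eq]
    exact Iff.rfl
  have hq1 : ∀ {a : E}, q a = 1 ↔ (a : Ω) ∈ M := fun {a} => by
    rw [QuotientGroup.mk'_apply, QuotientGroup.eq_one_iff]
    exact Iff.rfl
  have hWE : Wm p E M ≤ E := wm_le
  set g : E := ⟨w, hWE hw⟩ with hgdef
  set D : MulAut E → E ⧸ M.subgroupOf E := fun β => (q g)⁻¹ * q (β g) with hD
  have hz : ∀ b ∈ opp F p E, ((g⁻¹ * b g : E) : Ω) ∈ Z := fun b hb => by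
    have := hWZ b hb w hw
    rwa [afun_apply b (hWE hw)] at this
  have hDq : ∀ b, D b = q (g⁻¹ * b g) := fun b => by simp only [hD, map_mul, map_inv]
  have hDmul : ∀ a ∈ opp F p E, ∀ b ∈ opp F p E, D (a * b) = D a * D b := by
    intro a ha b hb
    have h1 : q (a (g⁻¹ * b g)) = q (g⁻¹ * b g) := by
      rw [eq_comm, hq]
      have := hZM a ha _ (hz b hb)
      rwa [afun_coe] at this
    rw [hDq b, ← h1]
    simp only [hD, MulAut.mul_apply, map_mul, map_inv]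
    group
  have hDone : D 1 = 1 := by simp [hD]
  have hDcomm : ∀ a ∈ opp F p E, ∀ b ∈ opp F p E, Commute (D a) (D b) := fun a ha b hb => by
    rw [← commutatorElement_eq_one_iff_commute, hDq, hDq, ← map_commutatorElement, hq1]
    exact hg.comm_wm hx (hZW (hz a ha)) (g⁻¹ * b g).2
  have hc : nHom S E ⟨x, hxN⟩ ∈ opp F p E := hx.cAut_opp hxN
  set c := nHom S E ⟨x, hxN⟩
  have hcn : ∀ k : ℕ, D (c ^ k) = D c ^ k := fun k => by
    induction k with
    | zero => simpa using hDone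
    | succ k ih => rw [pow_succ, hDmul _ (pow_mem hc k) _ hc, ih, pow_succ]
  have h1 : D (τ * c * τ⁻¹) = D c := by
    rw [hDmul _ (mul_mem hτ hc) _ (inv_mem hτ), hDmul _ hτ _ hc, (hDcomm τ hτ c hc).eq, mul_assoc,
      ← hDmul _ hτ _ (inv_mem hτ), mul_inv_cancel, hDone, mul_one]
  have hio : τ * c * τ⁻¹ * (c ^ n)⁻¹ ∈ opp F p E :=
    mul_mem (mul_mem (mul_mem hτ hc) (inv_mem hτ)) (inv_mem (pow_mem hc n))
  have h2 : D (τ * c * τ⁻¹ * (c ^ n)⁻¹) = 1 := by
    rw [hDq, hq1]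
    have := afun_conj_trivial hWE (fun a ha y hy => hg.comm_wm hx ha hy) hi hw
    rwa [afun_apply _ (hWE hw)] at this
  have h3 : D c ^ n = D c := by
    rw [← hcn]
    conv_rhs => rw [← h1, ← inv_mul_cancel_right (τ * c * τ⁻¹) (c ^ n),
      hDmul _ hio _ (pow_mem hc n), h2, one_mul]
  have h4 : D c ^ p = 1 := by
    rw [hDq, ← map_pow, hq1, Subgroup.coe_pow]
    exact ((hg.wm_mem hx).1 (hZW (hz c hc))).2.1
  have h5 : D c = 1 := by
    rcases (Fact.out : p.Prime).eq_one_or_self_of_dvd _ (orderOf_dvd_of_pow_eq_one h4) with e | e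
    · exact orderOf_eq_one_iff.1 e
    · exfalso
      refine hn1 ?_
      have := pow_eq_pow_iff_modEq.1 (h3.trans (pow_one _).symm)
      rw [e, ← ZMod.natCast_eq_natCast_iff, Nat.cast_one] at this
      exact this
  rw [hDq, hq1] at h5
  have e : ((g⁻¹ * c g : E) : Ω) = w⁻¹ * cj x w := by
    rw [Subgroup.coe_mul, Subgroup.coe_inv]
    congr 1
  rw [e] at h5
  have h6 := hg.cj_mem hx (hx.leN (hWE hw)) h5
  have e2 : cj w (w⁻¹ * cj x w) = ⁅x, w⁆ := by
    simp only [cj_apply, commutatorElement_def]; group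
  rwa [e2] at h6

end Good

/-- The shapes of a pearl. -/
def IsPearlShape (p : ℕ) (E : Subgroup Ω) : Prop :=
  (Cfsg.IsElementaryAbelian p E ∧ Nat.card E = p ^ 2) ∨
    (Cfsg.IsExtraspecial p ↥E ∧ Nat.card E = p ^ 3 ∧ ∀ x ∈ E, x ^ p = 1)

/-- An elementary abelian step of index `p` above a good subgroup is good, or `E` is a pearl. -/
theorem Good.step (hx : NN F p E h) {B C : Subgroup Ω} (hB : Good F p E h B) (hBC : B ≤ C)
    (hCS : C ≤ S) (hCn : ∀ g ∈ S, ∀ y ∈ C, cj g y ∈ C) (hBn : ∀ g ∈ S, ∀ y ∈ B, cj g y ∈ B)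
    (hcom : ∀ a ∈ C, ∀ b ∈ C, a * b = b * a) (hexp : ∀ a ∈ C, a ^ p = 1)
    (hCc : Nat.card C = Nat.card B * p) :
    Good F p E h C ∨ IsPearlShape p E := by
  classical
  haveI := hx.finE
  haveI := hx.finN
  haveI := finite_of_le hCS
  haveI := finite_of_le (hB.le.trans hx.le)
  have hlt := hx.lt_of_good hB
  have hcen : ∀ g ∈ S, ∀ c ∈ C, ⁅g, c⁆ ∈ B := fun g hg c hc =>
    succ_unmoved hx.hS le_rfl hBC hCS hBn hCn hCc hg hc
  have hCE : C ≤ E := fun c hc => by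
    have hcN : c ∈ normalizerIn S E := ⟨hCS hc, mem_normalizer_of_cj_le hx.le fun e he => by
      have h1 := E.mul_mem (hB.le (hB.comm_symm hx (hcen e (hx.le he) c hc))) he
      rwa [show ⁅c, e⁆ * e = cj c e by simp only [cj_apply, commutatorElement_def]; group] at h1⟩
    refine hB.mem_of_trivial hx hcN fun e he => ?_
    rw [inv_mul_cj]
    exact hcen _ (hx.le (E.inv_mem he)) c hc
  have hNS : normalizerIn S E ≤ S := inf_le_left
  have hCW : C ≤ Wm p E B := fun c hc => (hB.wm_mem hx).2 ⟨hCE hc, by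
    rw [hexp c hc]; exact B.one_mem, fun y hy => hB.comm_symm hx (hcen y (hx.le hy) c hc)⟩
  have hgood : InvBy (opp F p E) C → Good F p E h C := fun hinv =>
    hB.extend hx hBC hCE hinv (fun y hy => hCn h hx.mem y hy)
      (hx.trivial_of_unmoved hCE hBC hB.inv hinv fun n hn c hc => by
        rw [inv_mul_cj]
        exact hB.comm_symm hx (hcen n (hNS hn) _ (inv_mem hc)))
  by_cases hmv : ∀ n ∈ normalizerIn S E, ∀ w ∈ Wm p E B, w⁻¹ * cj n w ∈ B
  · refine Or.inl (hgood fun β hβ c hc => ?_)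
    have h1 := C.mul_mem hc (hBC (hx.trivial_of_unmoved wm_le (hB.le_wm hx) hB.inv (hB.inv_wm hx)
      hmv β hβ c (hCW hc)))
    rwa [mul_inv_cancel_left] at h1
  obtain ⟨hEc, hEp, hEcard⟩ := hB.moved_plane hx hmv
  by_cases hinv : InvBy (opp F p E) C
  · exact Or.inl (hgood hinv)
  right
  simp only [InvBy, not_forall] at hinv
  obtain ⟨α, hα, c, hc, hαc⟩ := hinv
  set y := afun α c with hydef
  have hyE : y ∈ E := afun_mem α (hCE hc)
  have hcB : c ∉ B := fun hcB => hαc (hBC (hB.inv α hα c hcB))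
  have hsupE : C ⊔ Subgroup.zpowers y = E := by
    refine Subgroup.eq_of_le_of_card_ge (sup_le hCE (Subgroup.zpowers_le.2 hyE)) ?_
    refine le_trans (le_of_eq ?_) (mul_card_le_of_lt hx.hS
      ((sup_le hCE (Subgroup.zpowers_le.2 hyE)).trans hx.le)
      (lt_of_le_not_ge le_sup_left fun e =>
        hαc (e (Subgroup.mem_sup_right (Subgroup.mem_zpowers y)))))
    rw [hEcard, hCc]; ring
  have hsupC : B ⊔ Subgroup.zpowers c = C := by
    refine Subgroup.eq_of_le_of_card_ge (sup_le hBC (Subgroup.zpowers_le.2 hc)) ?_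
    refine le_trans (le_of_eq ?_) (mul_card_le_of_lt hx.hS
      ((sup_le hBC (Subgroup.zpowers_le.2 hc)).trans hCS)
      (lt_of_le_not_ge le_sup_left fun e =>
        hcB (e (Subgroup.mem_sup_right (Subgroup.mem_zpowers c)))))
    rw [hCc]; ring
  -- the generators
  have hclE : Subgroup.closure ((B : Set Ω) ∪ {c, y}) = E := by
    rw [Set.insert_eq, ← Set.union_assoc, Subgroup.closure_union, Subgroup.closure_union,
      Subgroup.closure_eq, ← Subgroup.zpowers_eq_closure, ← Subgroup.zpowers_eq_closure, hsupC, hsupE]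
  -- `B` is central in `E`
  have hBy : ∀ b ∈ B, b * y = y * b := by
    intro b hb
    have hb' := hB.inv α⁻¹ (inv_mem hα) b hb
    have h1 := congrArg (afun α) (hcom _ (hBC hb') c hc)
    rwa [afun_map_mul α (hB.le hb') (hCE hc), afun_map_mul α (hCE hc) (hB.le hb'),
      afun_apply_inv α (hB.le hb)] at h1
  have hBE : ∀ e ∈ E, ∀ b ∈ B, e * b = b * e := by
    intro e he b hb
    have hle : E ≤ Subgroup.centralizer ({b} : Set Ω) := by
      rw [← hclE]
      refine (Subgroup.closure_le _).2 ?_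
      rintro a (ha | rfl | rfl) <;> rw [SetLike.mem_coe, Subgroup.mem_centralizer_singleton_iff]
      exacts [hcom a (hBC ha) b (hBC hb), hcom _ hc b (hBC hb), (hBy b hb).symm]
    exact Subgroup.mem_centralizer_singleton_iff.1 (hle he)
  have hyp : y ^ p = 1 := by
    have e : (⟨c, hCE hc⟩ : E) ^ p = 1 := Subtype.ext (by simp [hexp c hc])
    rw [hydef, afun_apply α (hCE hc), ← Subgroup.coe_pow, ← map_pow, e, map_one, Subgroup.coe_one]
  -- exponent `p`
  have hEexp : ∀ e ∈ E, e ^ p = 1 := by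
    intro e he
    rw [← hclE] at he
    induction he using Subgroup.closure_induction with
    | mem a ha =>
      rcases ha with ha | rfl | rfl
      exacts [hexp a (hBC ha), hexp _ hc, hyp]
    | one => exact one_pow _
    | mul a b ha hb iha ihb =>
      have haE : a ∈ E := hclE.le ha
      have hbE : b ∈ E := hclE.le hb
      have hBba : ⁅b, a⁆ ∈ B := hEc b hbE a haE
      have hcZ : ⁅(⟨b, hbE⟩ : E), ⟨a, haE⟩⁆ ∈ Subgroup.center E :=
        Subgroup.mem_center_iff.2 fun g => Subtype.ext (hBE g g.2 _ hBba)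
      have := congrArg Subtype.val (ClassTwoPow.mul_pow_prime_central (G := E)
        (Fact.out : p.Prime) (by have := hx.hp; omega) hcZ (Subtype.ext (hexp _ (hBC hBba))))
      simpa [iha, ihb] using this
    | inv a _ iha => rw [inv_pow, iha, inv_one]
  by_cases hab : ∀ a ∈ E, ∀ b ∈ E, ⁅a, b⁆ = 1
  · refine Or.inl ⟨⟨⟨⟨fun a b => Subtype.ext ?_⟩⟩, fun a ha => hEexp a ha⟩, ?_⟩
    · exact commutatorElement_eq_one_iff_mul_comm.1 (hab a a.2 b b.2)
    · rw [Good.bot.card_eq hx (fun a ha b hb => by rw [hab a ha b hb]; exact Subgroup.one_mem _)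
        (fun a ha => by rw [hEexp a ha]; exact Subgroup.one_mem _) hx.bot_lt, Subgroup.card_bot,
        mul_one]
  -- the non-abelian case
  push Not at hab
  have hBp : Nat.card B ≤ p ^ 2 := by
    have h1 := section_card hx.rk hCS (N := ⊥) bot_le
      (fun k _ t ht => by rw [Subgroup.mem_bot] at ht ⊢; simp [ht, cj_apply])
      (fun a ha b hb => by rw [Subgroup.mem_bot, hcom a ha b hb]; group)
      (fun a ha => by rw [hexp a ha]; exact Subgroup.one_mem _)
    rw [Subgroup.card_bot, mul_one, hCc] at h1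
    exact Nat.le_of_mul_le_mul_right (h1.trans (le_of_eq (pow_succ p 2))) (Fact.out : p.Prime).pos
  obtain ⟨k, hk⟩ := IsPGroup.iff_card.1 ((hx.hS.to_le hx.le).to_le hB.le)
  have hk2 : k ≤ 2 := (Nat.pow_le_pow_iff_right (Fact.out : p.Prime).one_lt).1 (hk ▸ hBp)
  rcases (show k = 0 ∨ k = 1 ∨ k = 2 by omega) with rfl | rfl | rfl
  · exfalso
    obtain ⟨a, ha, b, hb, hne⟩ := hab
    have hB1 : B = ⊥ := Subgroup.card_eq_one.1 (by rw [hk, pow_zero])
    exact hne (Subgroup.mem_bot.1 (hB1 ▸ hEc a ha b hb))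
  · refine Or.inr ⟨extraspecial_of_card_cube (by rw [hEcard, hk]; ring) fun hcomm => ?_,
      by rw [hEcard, hk]; ring, hEexp⟩
    obtain ⟨a, ha, b, hb, hne⟩ := hab
    refine hne (commutatorElement_eq_one_iff_mul_comm.2 ?_)
    exact congrArg Subtype.val (hcomm.1.1 (⟨a, ha⟩ : E) ⟨b, hb⟩)
  exfalso
  -- order `p ^ 4`: the derived subgroup is good
  have hBN : ∀ b ∈ B, ∀ n ∈ normalizerIn S E, n * b = b * n := by
    intro b hb n hn
    obtain ⟨e₀, he₀, he₀'⟩ := hx.exists_conj_notMem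
    obtain ⟨e, he, t, ht, rfl⟩ := hx.exists_split (apply_mem_im (f := cj h) he₀) he₀' hn
    have h1 : t * b = b * t := by
      have h2 := congrArg (cj h) (hBE _ (mem_im_cj.1 ht) _ (hB.hinv_inv hx hb))
      simp only [cj_apply] at h2
      calc t * b = h * ((h⁻¹ * t * h⁻¹⁻¹) * (h⁻¹ * b * h⁻¹⁻¹)) * h⁻¹ := by group
        _ = h * ((h⁻¹ * b * h⁻¹⁻¹) * (h⁻¹ * t * h⁻¹⁻¹)) * h⁻¹ := h2
        _ = b * t := by group
    rw [mul_assoc, h1, ← mul_assoc, hBE e he b hb, mul_assoc]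
  have hfix : ∀ β ∈ opp F p E, ∀ b ∈ B, afun β b = b := fun β hβ b hb => by
    have h1 := hx.trivial_of_unmoved hB.le bot_le
      (Good.bot (F := F) (p := p) (E := E) (h := h)).inv hB.inv (fun n hn w hw => by
      rw [Subgroup.mem_bot, cj_apply, hBN w hw n hn]; group) β hβ b hb
    rw [Subgroup.mem_bot, inv_mul_eq_one] at h1
    exact h1.symm
  set d := ⁅c, y⁆ with hddef
  have hdB : d ∈ B := hEc c (hCE hc) y hyE
  set D := Subgroup.zpowers d
  have hDB : D ≤ B := Subgroup.zpowers_le.2 hdB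
  have hDn : ∀ k ∈ Subgroup.closure ((B : Set Ω) ∪ {c, y}), ∀ t ∈ D, cj k t ∈ D := by
    rw [hclE]
    intro k hk t ht
    rwa [cj_apply, hBE k hk t (hDB ht), mul_inv_cancel_right]
  have hED : ∀ a ∈ E, ∀ b ∈ E, ⁅a, b⁆ ∈ D := by
    have h1 := gen_comm hDn (N := D) ?_
    · rw [hclE] at h1
      intro a ha b hb
      rw [commutatorElement_def]
      exact h1 a ha b hb
    intro a ha b hb
    have hone : ∀ {r t : Ω}, r * t = t * r → r * t * r⁻¹ * t⁻¹ ∈ D := fun e => by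
      rw [e]; group; exact D.one_mem
    rcases ha with ha | ha
    · exact hone (hBE b (hclE.le (Subgroup.subset_closure hb)) a ha).symm
    rcases hb with hb | hb
    · exact hone (hBE a (hclE.le (Subgroup.subset_closure (Or.inr ha))) b hb)
    rcases ha with ha | ha <;> rcases hb with hb | hb <;> rw [ha, hb]
    · exact hone rfl
    · rw [← commutatorElement_def]; exact Subgroup.mem_zpowers d
    · rw [← commutatorElement_def, ← commutatorElement_inv]
      exact D.inv_mem (Subgroup.mem_zpowers d)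
    · exact hone rfl
  -- the torus
  obtain ⟨e₀, he₀, he₀'⟩ := hx.exists_conj_notMem
  have hx₀ : cj h e₀ ∈ im E (cj h) := apply_mem_im he₀
  set x₀ := cj h e₀
  have hx₀N := hx.conj_le hx₀
  obtain ⟨u, z, R, ht⟩ := exists_tor hx hB hEc hEp hlt hx₀ he₀'
  have hTC : E ⊓ im E (cj h) = C := by
    haveI := finite_of_le ((inf_le_left : E ⊓ im E (cj h) ≤ E).trans hx.le)
    have hCT : C ≤ E ⊓ im E (cj h) := fun t ht =>
      ⟨hCE ht, mem_im_cj.2 (hCE (hCn _ (S.inv_mem hx.mem) t ht))⟩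
    refine (Subgroup.eq_of_le_of_card_ge hCT ?_).symm
    have h1 := mul_card_le_of_lt hx.hS hx.le (lt_of_le_not_ge
      (inf_le_left : E ⊓ im E (cj h) ≤ E) fun e => ht.uT (e ht.uE).2)
    rw [hEcard] at h1
    rw [hCc]
    refine Nat.le_of_mul_le_mul_left (h1.trans (le_of_eq ?_)) (Fact.out : p.Prime).pos
    ring
  have hzC : z ∈ C := hTC ▸ (⟨ht.zE, ht.zT⟩ : z ∈ E ⊓ im E (cj h))
  have hsupz : B ⊔ Subgroup.zpowers z = C := by
    refine Subgroup.eq_of_le_of_card_ge (sup_le hBC (Subgroup.zpowers_le.2 hzC)) ?_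
    refine le_trans (le_of_eq ?_) (mul_card_le_of_lt hx.hS
      ((sup_le hBC (Subgroup.zpowers_le.2 hzC)).trans hCS)
      (lt_of_le_not_ge le_sup_left fun e =>
        ht.zM (e (Subgroup.mem_sup_right (Subgroup.mem_zpowers z)))))
    rw [hCc]; ring
  obtain ⟨s, hs0, -, hs3, -⟩ := exists_torus_param (p := p) hx.hp
  obtain ⟨τ, hτ, -, hτz, -, hτn⟩ := ht.torus s hs0
  set n := (s⁻¹ * s⁻¹).val
  obtain ⟨f, -, hfτ, e₁, he₁, hfx⟩ := hx.extend_aut (Rank3.opp_le F p E hτ) hx₀N he₀'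
    (hτn n (ZMod.natCast_zmod_val _))
  set d₀ := ⁅z, x₀⁆ with hd₀
  have hd₀B : d₀ ∈ B := hB.comm_symm hx (hcen x₀ (hNS hx₀N) z hzC)
  set σ := (s⁻¹).val
  have hkey : ∃ r ∈ D, d₀ = r * d₀ ^ (σ * n) := by
    have hzN := hx.leN ht.zE
    have h1 : afun f d₀ = d₀ := by
      rw [hfτ d₀ (hB.le hd₀B), hfix τ hτ d₀ hd₀B]
    rw [hd₀, afun_commutator f hzN hx₀N, hfτ z ht.zE, hfx] at h1
    set b := (z ^ σ)⁻¹ * afun τ z
    have hbB : b ∈ B := hτz
    have hτze : afun τ z = z ^ σ * b := (mul_inv_cancel_left _ _).symm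
    have hτzE : afun τ z ∈ E := afun_mem τ ht.zE
    refine ⟨⁅afun τ z, e₁⁆, hED _ hτzE _ he₁, ?_⟩
    have hZ : ∀ {t : Ω} (htB : t ∈ B),
        (⟨t, hx.leN (hB.le htB)⟩ : normalizerIn S E) ∈ Subgroup.center _ := fun {t} htB =>
      Subgroup.mem_center_iff.2 fun g => Subtype.ext (hBN t htB g g.2)
    set Z' : normalizerIn S E := ⟨z, hzN⟩
    set X' : normalizerIn S E := ⟨x₀, hx₀N⟩
    have hzx : ⁅Z', X'⁆ ∈ Subgroup.center _ := hZ hd₀B
    have hxz : ⁅X', Z'⁆ ∈ Subgroup.center _ := by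
      rw [← commutatorElement_inv]; exact inv_mem hzx
    have h2 : ⁅Z' ^ σ, X' ^ n⁆ = ⁅Z', X'⁆ ^ (σ * n) := by
      have e3 : ⁅Z', X' ^ n⁆ = ⁅Z', X'⁆ ^ n := by
        rw [← commutatorElement_inv, ClassTwoPow.commutator_pow_left hxz, ← inv_pow,
          commutatorElement_inv]
      have hc3 : ⁅Z', X' ^ n⁆ ∈ Subgroup.center _ := e3 ▸ pow_mem hzx n
      rw [ClassTwoPow.commutator_pow_left hc3, e3, ← pow_mul, mul_comm]
    have h3 : ⁅z ^ σ, x₀ ^ n⁆ = d₀ ^ (σ * n) := congrArg Subtype.val h2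
    have h4 : ⁅afun τ z, x₀ ^ n⁆ = d₀ ^ (σ * n) := by
      rw [← h3, hτze, show ⁅z ^ σ * b, x₀ ^ n⁆ = cj (z ^ σ) ⁅b, x₀ ^ n⁆ * ⁅z ^ σ, x₀ ^ n⁆ by
        simp only [cj_apply, commutatorElement_def]; group]
      have : ⁅b, x₀ ^ n⁆ = 1 :=
        commutatorElement_eq_one_iff_mul_comm.2 (hBN b hbB _ (pow_mem hx₀N n)).symm
      rw [this]; simp [cj_apply]
    conv_lhs => rw [hd₀, ← h1]
    rw [show ⁅afun τ z, e₁ * x₀ ^ n⁆ = ⁅afun τ z, e₁⁆ * cj e₁ ⁅afun τ z, x₀ ^ n⁆ by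
      simp only [cj_apply, commutatorElement_def]; group, h4]
    congr 1
    rw [cj_apply, hBE e₁ he₁ _ (pow_mem hd₀B _), mul_inv_cancel_right]
  have hd₀D : d₀ ∈ D := by
    obtain ⟨r, hr, hre⟩ := hkey
    by_contra hne
    have hp' := Fact.out (p := p.Prime)
    have hσn : ((σ * n : ℕ) : ZMod p) ≠ 1 := by
      rw [Nat.cast_mul, ZMod.natCast_zmod_val, ZMod.natCast_zmod_val]
      intro e
      refine hs3 ?_
      rw [← mul_inv_rev, ← mul_inv_rev, inv_eq_one] at e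
      rw [← e]; ring
    refine hσn ?_
    have hz' : d₀ ^ ((σ * n : ℕ) - 1 : ℤ) ∈ D := by
      rw [zpow_sub, zpow_natCast, zpow_one]
      have : d₀ ^ (σ * n) * d₀⁻¹ = r⁻¹ := by
        conv_lhs => enter [2, 1]; rw [hre]
        group
      rw [this]
      exact D.inv_mem hr
    have hdvd : ((p : ℤ)) ∣ ((σ * n : ℕ) : ℤ) - 1 := by
      by_contra hnd
      obtain ⟨a, b, hab'⟩ := ((Nat.prime_iff_prime_int.1 hp').coprime_iff_not_dvd.2 hnd)
      refine hne ?_
      rw [← zpow_one d₀, ← hab', zpow_add, mul_comm a, mul_comm b, zpow_mul, zpow_mul,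
        zpow_natCast, hexp d₀ (hBC hd₀B), one_zpow, one_mul]
      exact D.zpow_mem hz' b
    have := (ZMod.intCast_zmod_eq_zero_iff_dvd _ p).2 hdvd
    push_cast at this
    rw [sub_eq_zero] at this
    exact_mod_cast this
  have hDcj : ∀ k ∈ normalizerIn S E, ∀ t ∈ D, cj k t ∈ D := fun k hk t ht => by
    rwa [cj_apply, hBN t (hDB ht) k hk, mul_inv_cancel_right]
  have hND : ∀ m ∈ normalizerIn S E, ⁅z, m⁆ ∈ D := by
    intro m hm
    obtain ⟨e, he, i, rfl⟩ := hx.exists_eq hx₀N he₀' hm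
    rw [show ⁅z, e * x₀ ^ i⁆ = ⁅z, e⁆ * cj e ⁅z, x₀ ^ i⁆ by
      simp only [cj_apply, commutatorElement_def]; group]
    refine D.mul_mem (hED z ht.zE e he) (hDcj e (hx.leN he) _ ?_)
    clear hm
    induction i using Int.induction_on with
    | zero => simp
    | succ i ih =>
      rw [zpow_add_one, show ⁅z, x₀ ^ (i : ℤ) * x₀⁆ = ⁅z, x₀ ^ (i : ℤ)⁆ * cj (x₀ ^ (i : ℤ)) d₀ by
        simp only [hd₀, cj_apply, commutatorElement_def]; group]
      exact D.mul_mem ih (hDcj _ (zpow_mem hx₀N _) _ hd₀D)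
    | pred i ih =>
      rw [zpow_sub_one, show ⁅z, x₀ ^ (-(i : ℤ)) * x₀⁻¹⁆ =
          ⁅z, x₀ ^ (-(i : ℤ))⁆ * cj (x₀ ^ (-(i : ℤ))) (cj x₀⁻¹ d₀⁻¹) by
        simp only [hd₀, cj_apply, commutatorElement_def]; group]
      exact D.mul_mem ih (hDcj _ (zpow_mem hx₀N _) _ (hDcj _ (inv_mem hx₀N) _ (D.inv_mem hd₀D)))
  have hDh : ∀ t ∈ D, cj h t ∈ D := by
    have h1 : cj h d ∈ D := by
      rw [hddef, cj_commutator]
      have hm : cj h y ∈ normalizerIn S E := hx.cjh_memN (hx.leN hyE)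
      have h2 : cj h c ∈ B ⊔ Subgroup.zpowers z := hsupz.symm ▸ hCn h hx.mem c hc
      rw [← SetLike.mem_coe, Subgroup.coe_mul_of_right_le_normalizer_left _ _
        (Subgroup.zpowers_le.mpr (mem_normalizer_of_cj_le (hB.le.trans hx.le)
          (hBn z (hCS hzC))))] at h2
      obtain ⟨b, hb, _, ⟨i, rfl⟩, hbz⟩ := Set.mem_mul.1 h2
      rw [← hbz, show ⁅b * z ^ i, cj h y⁆ = cj b ⁅z ^ i, cj h y⁆ * ⁅b, cj h y⁆ by
        simp only [cj_apply, commutatorElement_def]; group,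
        commutatorElement_eq_one_iff_mul_comm.2 (hBN b hb _ hm).symm, mul_one]
      refine hDcj b (hx.leN (hB.le hb)) _ ?_
      clear hbz
      induction i using Int.induction_on with
      | zero => simp
      | succ i ih =>
        rw [zpow_add_one, show ⁅z ^ (i : ℤ) * z, cj h y⁆ =
            cj (z ^ (i : ℤ)) ⁅z, cj h y⁆ * ⁅z ^ (i : ℤ), cj h y⁆ by
          simp only [cj_apply, commutatorElement_def]; group]
        exact D.mul_mem (hDcj _ (zpow_mem (hx.leN ht.zE) _) _ (hND _ hm)) ih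
      | pred i ih =>
        rw [zpow_sub_one, show ⁅z ^ (-(i : ℤ)) * z⁻¹, cj h y⁆ =
            cj (z ^ (-(i : ℤ))) (cj z⁻¹ ⁅z, cj h y⁆⁻¹) * ⁅z ^ (-(i : ℤ)), cj h y⁆ by
          simp only [cj_apply, commutatorElement_def]; group]
        exact D.mul_mem (hDcj _ (zpow_mem (hx.leN ht.zE) _) _
          (hDcj _ (inv_mem (hx.leN ht.zE)) _ (D.inv_mem (hND _ hm)))) ih
    rintro _ ⟨i, rfl⟩
    show cj h (d ^ i) ∈ D
    rw [cj_apply, ← conj_zpow, ← cj_apply]
    exact D.zpow_mem h1 i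
  have hDg : Good F p E h D := ⟨hDB.trans hB.le,
    fun β hβ t ht => by rw [hfix β hβ t (hDB ht)]; exact ht, hDh,
    fun β hβ => ⟨0, fun t ht => hfix _ (pow_mem hβ _) t (hDB ht)⟩⟩
  have hDlt := hx.lt_of_good hDg
  have h1 := hDg.card_eq hx hED (fun a ha => by rw [hEexp a ha]; exact D.one_mem) hDlt
  have hdp : Nat.card D ≤ p := by
    rw [Nat.card_zpowers]
    exact Nat.le_of_dvd (Fact.out : p.Prime).pos (orderOf_dvd_of_pow_eq_one (hexp d (hBC hdB)))
  rw [hEcard, hk] at h1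
  have h2 : p ^ 2 * p ^ 2 ≤ p ^ 2 * p := h1.le.trans (Nat.mul_le_mul_left _ hdp)
  have h3 := Nat.le_of_mul_le_mul_left h2 (pow_pos (Fact.out : p.Prime).pos 2)
  have := hx.hp
  nlinarith

/-- An element moving `E` that normalises `N_S(E)`, with `p`-th power in it. -/
theorem exists_nn (hp : 5 ≤ p) (hS : IsPGroup p S) (hF : F.IsSaturated p)
    (rk : Cfsg.SectionalPRankLE p 3 S) (hE : F.IsEssential p E)
    (hn : ¬ S ≤ Subgroup.normalizer (E : Set Ω)) : ∃ h, NN F p E h := by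
  classical
  obtain ⟨g, hgS, hgN, hgn⟩ := lt_normalizerIn hS le_rfl
    (lt_of_le_not_ge inf_le_left fun e => hn fun g hg => (e hg).2 : normalizerIn S E < S)
  obtain ⟨k, hk⟩ := hS ⟨g, hgS⟩
  have hk' : g ^ p ^ k = 1 := congrArg Subtype.val hk
  have hex : ∃ i, g ^ p ^ i ∈ normalizerIn S E := ⟨k, by rw [hk']; exact Subgroup.one_mem _⟩
  have hpos : Nat.find hex ≠ 0 := fun e => hgN (by simpa [e] using Nat.find_spec hex)
  obtain ⟨i, hi⟩ := Nat.exists_eq_succ_of_ne_zero hpos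
  refine ⟨g ^ p ^ i, hp, hS, hF, rk, hE, S.pow_mem hgS _, pow_mem hgn _,
    Nat.find_min hex (show i < Nat.find hex by omega), ?_⟩
  rw [← pow_mul, ← pow_succ]
  have h1 := Nat.find_spec hex
  rwa [hi] at h1

theorem good_of_no_pearl (hp : 5 ≤ p) (hS : IsPGroup p S) (hF : F.IsSaturated p)
    (rk : Cfsg.SectionalPRankLE p 3 S)
    (hnp : ∀ E : Subgroup Ω, F.IsEssential p E →
      ¬ ((Cfsg.IsElementaryAbelian p E ∧ Nat.card E = p ^ 2) ∨
        (Cfsg.IsExtraspecial p ↥E ∧ Nat.card E = p ^ 3 ∧ ∀ x ∈ E, x ^ p = 1))) :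
    ∀ E : Subgroup Ω, F.IsEssential p E → ¬ S ≤ Subgroup.normalizer (E : Set Ω) →
      ∀ A : Subgroup Ω, A ≤ S → (∀ g ∈ S, ∀ x ∈ A, cj g x ∈ A) →
        (∀ a ∈ A, ∀ b ∈ A, a * b = b * a) → (∀ a ∈ A, a ^ p = 1) →
        A ≤ E ∧ InvBy (opp F p E) A := by
  classical
  intro E hE hn A hAS hAn hAc hAp
  obtain ⟨h, hx⟩ := exists_nn hp hS hF rk hE hn
  set 𝒢 : Set (Subgroup Ω) := {K | Good F p E h K ∧ K ≤ A ∧ ∀ g ∈ S, ∀ y ∈ K, cj g y ∈ K}
  have hfin : 𝒢.Finite := Set.Finite.subset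
    (Set.finite_range (fun K : Subgroup S => K.map S.subtype)) fun K hK =>
      ⟨K.subgroupOf S, Subgroup.map_subgroupOf_eq_of_le (hK.2.1.trans hAS)⟩
  obtain ⟨B, ⟨hB, hBA, hBn⟩, hmax⟩ := 𝒢.exists_max_image (fun K => Nat.card K) hfin
    ⟨⊥, Good.bot, bot_le, fun g _ y hy => by
      rw [Subgroup.mem_bot] at hy ⊢; simp [hy, cj_apply]⟩
  suffices hBeq : B = A from hBeq ▸ ⟨hB.le, hB.inv⟩
  by_contra hne
  haveI := normal_subgroupOf hBn
  haveI := normal_subgroupOf hAn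
  have hlt : B.subgroupOf S < A.subgroupOf S := by
    refine lt_of_le_not_ge (fun y hy => hBA hy) fun hle => hne (le_antisymm hBA fun a ha => ?_)
    exact hle (show (⟨a, hAS ha⟩ : S) ∈ A.subgroupOf S from ha)
  obtain ⟨C', hC'n, hBC', hC'A, hC'c⟩ := PGroupsBasic.exists_normal_succ (p := p) hS hlt
  set C := C'.map S.subtype with hCdef
  have hCA : C ≤ A := by
    rintro _ ⟨y, hy, rfl⟩
    exact hC'A hy
  have hBC : B ≤ C := fun b hb => ⟨⟨b, hAS (hBA hb)⟩, hBC' hb, rfl⟩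
  have hCn : ∀ g ∈ S, ∀ y ∈ C, cj g y ∈ C := by
    rintro g hg _ ⟨y, hy, rfl⟩
    exact ⟨_, hC'n.conj_mem y hy ⟨g, hg⟩, rfl⟩
  have hCc : Nat.card C = Nat.card B * p := by
    rw [hCdef, Subgroup.card_map_of_injective S.subtype_injective, hC'c,
      Nat.card_congr (Subgroup.subgroupOfEquivOfLe (hBA.trans hAS)).toEquiv]
  rcases hB.step hx hBC (hCA.trans hAS) hCn hBn (fun a ha b hb => hAc a (hCA ha) b (hCA hb))
    (fun a ha => hAp a (hCA ha)) hCc with hC | hpearl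
  · have h1 := hmax C ⟨hC, hCA, hCn⟩
    simp only [hCc] at h1
    haveI := finite_of_le (hBA.trans hAS)
    have h2 : 0 < Nat.card B := Nat.card_pos
    nlinarith
  · exact hnp E hE hpearl

end Cfsg.Agent.Rank3Pearl80
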