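import Cfsg.Agent.Lib.Rank3Pearl80Auto
import Cfsg.Agent.Lib.Rank3Step34

/-!
For `p ≥ 5`, an elementary abelian quotient of an essential subgroup that is not normal in `S`
above a good subgroup has order `p ^ 2`.
-/

set_option autoImplicit false
set_option linter.unusedSectionVars false
set_option linter.style.haveILetI false

namespace Cfsg.Agent.Rank3Pearl80

open scoped commutatorElement
open Cfsg.FusionSystem Cfsg.Agent.FusionSysBasic Cfsg.Agent.FusionSysSaturated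
  Cfsg.Agent.FusionSysNormal Cfsg.Agent.FusionSysAlperin Cfsg.Agent.Rank3

universe u

variable {Ω : Type u} [Group Ω] {S : Subgroup Ω} {F : FusionSystem S} {p : ℕ} [Finite S]
  [Fact p.Prime] {E M : Subgroup Ω} {h : Ω}

theorem exists_torus_param (hp : 5 ≤ p) :
    ∃ s : ZMod p, s ≠ 0 ∧ s ^ 2 ≠ 1 ∧ s ^ 3 ≠ 1 ∧ s ^ 5 ≠ 1 := by
  have key : ∀ n : ℕ, n ≠ 0 → n < p → (n : ZMod p) ≠ 0 := fun n hn hlt e => by
    rw [CharP.cast_eq_zero_iff (ZMod p) p] at e
    exact absurd (Nat.le_of_dvd (Nat.pos_of_ne_zero hn) e) (by omega)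
  have h2 : (2 : ZMod p) ≠ 0 := by exact_mod_cast key 2 (by norm_num) (by omega)
  have h3 : (3 : ZMod p) ≠ 0 := by exact_mod_cast key 3 (by norm_num) (by omega)
  have h4 : (2 : ZMod p) ^ 2 ≠ 1 := fun e => h3 (by linear_combination e)
  by_cases hs : (2 : ZMod p) ^ 3 = 1 ∨ (2 : ZMod p) ^ 5 = 1
  · refine ⟨-2, neg_ne_zero.2 h2, by rwa [neg_sq], fun e => ?_, fun e => ?_⟩
    · rcases hs with hs | hs
      · exact h2 (by linear_combination -e - hs)
      · exact one_ne_zero (show (1 : ZMod p) = 0 by linear_combination -7 * e - 2 * hs)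
    · rcases hs with hs | hs
      · exact one_ne_zero (show (1 : ZMod p) = 0 by linear_combination -3 * e - 14 * hs)
      · exact h2 (by linear_combination -e - hs)
  · push Not at hs
    exact ⟨2, h2, h4, hs.1, hs.2⟩

namespace Tor

variable {x₀ : Ω} {hxN : x₀ ∈ normalizerIn S E} {u z : Ω} {R : Subgroup Ω}

set_option maxHeartbeats 3200000 in
theorem no_three (hx : NN F p E h) (hg : Good F p E h M)
    (hcom : ∀ a ∈ E, ∀ b ∈ E, ⁅a, b⁆ ∈ M) (hpow : ∀ a ∈ E, a ^ p ∈ M)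
    (ht : Tor F p E h M x₀ hxN u z R) (hxE' : x₀ ∈ im E (cj h)) (hxE : x₀ ∉ E)
    {r : Ω} (hr : r ∈ R) (hrM : r ∉ M) : False := by
  classical
  haveI := hx.finE
  haveI := hx.finN
  set Q := normalizerIn S E ⊔ Subgroup.zpowers h with hQdef
  have hNQ : normalizerIn S E ≤ Q := le_sup_left
  have hhQ : h ∈ Q := Subgroup.mem_sup_right (Subgroup.mem_zpowers h)
  have hQS : Q ≤ S := sup_le inf_le_left (Subgroup.zpowers_le.2 hx.mem)
  haveI hQfin := finite_of_le hQS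
  set T := E ⊓ im E (cj h) with hTdef
  have hTN : T ≤ normalizerIn S E := inf_le_left.trans hx.leN
  have hTQ : ∀ k ∈ Q, ∀ y ∈ T, cj k y ∈ T := by
    have hTS : T ≤ S := hTN.trans inf_le_left
    have hle : Q ≤ Subgroup.normalizer (T : Set Ω) :=
      sup_le (fun n hn => mem_normalizer_of_cj_le hTS fun y hy =>
          ⟨hx.cj_mem hn hy.1, hg.conj_normal hx hcom hn hy.2⟩)
        (Subgroup.zpowers_le.2 (mem_normalizer_of_cj_le hTS fun y hy => hg.cjh_central hx hcom hy))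
    exact fun k hk y hy => cj_mem_of_normalizer (hle hk) hy
  haveI hMQn := normal_subgroupOf (hg.normQ hx)
  haveI hTQn := normal_subgroupOf hTQ
  have hNn : ∀ k ∈ Q, ∀ y ∈ normalizerIn S E, cj k y ∈ normalizerIn S E := fun k hk y hy =>
    cj_mem_of_normalizer ((sup_le Subgroup.le_normalizer (Subgroup.zpowers_le.2 hx.norm) :
      Q ≤ Subgroup.normalizer (normalizerIn S E : Set Ω)) hk) hy
  haveI hNQn := normal_subgroupOf hNn
  have hQp : IsPGroup p Q := hx.hS.to_le hQS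
  have hMT : M ≤ T := fun m hm => ⟨hg.le hm, ht.RT (ht.MR hm)⟩
  have huN := hx.leN ht.uE
  have hzT : z ∈ T := ⟨ht.zE, ht.zT⟩
  have hrT : r ∈ T := ⟨ht.RE hr, ht.RT hr⟩
  have hTc : ∀ {t : Ω}, t ∈ T → ∀ y ∈ normalizerIn S E, ⁅t, y⁆ ∈ M := fun ht' =>
    ((hg.central_iff hx hcom).1 ht').2
  have hNNT : ∀ a ∈ normalizerIn S E, ∀ b ∈ E, ⁅a, b⁆ ∈ E := fun a ha b hb => by
    rw [commutatorElement_def]
    exact E.mul_mem (hx.cj_mem ha hb) (E.inv_mem hb)
  -- the order of `T`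
  have hTE : T < E := lt_of_le_not_ge inf_le_left fun hle => ht.uT (hle ht.uE).2
  have hEle : Nat.card E ≤ p * Nat.card T := by
    haveI : (T.subgroupOf E).Normal := normal_subgroupOf fun k hk y hy => hTQ k (hNQ (hx.leN hk)) y hy
    have hsurj : Function.Surjective fun i : ZMod p =>
        (QuotientGroup.mk ((⟨u, ht.uE⟩ : E) ^ i.val) : E ⧸ T.subgroupOf E) := by
      intro y
      obtain ⟨⟨e, he⟩, rfl⟩ := QuotientGroup.mk_surjective y
      obtain ⟨i, j, l, hd⟩ := ht.three hx hg hcom hpow hr hrM he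
      refine ⟨(i : ZMod p), QuotientGroup.eq.2 ?_⟩
      rw [Subgroup.mem_subgroupOf, Subgroup.coe_mul, Subgroup.coe_inv, SubgroupClass.coe_pow]
      show (u ^ (i : ZMod p).val)⁻¹ * e ∈ T
      have h1 := hMT (ht.eq_mod_of_congr hx hg hcom hpow ht.uE (a := (i : ZMod p).val) (b := i)
        (by simp))
      have h2 := T.mul_mem (T.mul_mem h1 (T.mul_mem (T.pow_mem hzT j) (T.pow_mem hrT l))) (hMT hd)
      convert h2 using 1
      group
    have h1 := Nat.card_le_card_of_surjective _ hsurj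
    rw [Nat.card_zmod] at h1
    rw [(T.subgroupOf E).card_eq_card_quotient_mul_card_subgroup,
      Nat.card_congr (Subgroup.subgroupOfEquivOfLe hTE.le).toEquiv]
    exact Nat.mul_le_mul_right _ h1
  have hEcard : Nat.card E = p * Nat.card T :=
    le_antisymm hEle (mul_card_le_of_lt hx.hS hx.le hTE)
  -- the line `L`
  have hlt : T.subgroupOf Q < (normalizerIn S E).subgroupOf Q := by
    refine lt_of_le_not_ge (fun y hy => hTN hy) fun hle => ht.uT ?_
    exact (hle (show (⟨u, hNQ huN⟩ : Q) ∈ (normalizerIn S E).subgroupOf Q from huN)).2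
  obtain ⟨L', hL'n, hTL', hL'N, hL'c⟩ := PGroupsBasic.exists_normal_succ (p := p) hQp hlt
  haveI := hL'n
  set L := L'.map Q.subtype with hLdef
  have hLQ : ∀ {y : Ω}, y ∈ L ↔ ∃ hy : y ∈ Q, (⟨y, hy⟩ : Q) ∈ L' := by
    intro y
    constructor
    · rintro ⟨⟨w, hw⟩, hw', rfl⟩
      exact ⟨hw, hw'⟩
    · rintro ⟨hy, hy'⟩
      exact ⟨⟨y, hy⟩, hy', rfl⟩
  have hLN : L ≤ normalizerIn S E := fun y hy => by
    obtain ⟨hyQ, hy'⟩ := hLQ.1 hy
    exact hL'N hy'
  have hTL : T ≤ L := fun y hy => hLQ.2 ⟨hNQ (hTN hy), hTL' hy⟩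
  have hLcard : Nat.card L = Nat.card T * p := by
    rw [hLdef, Subgroup.card_map_of_injective Q.subtype_injective, hL'c,
      Nat.card_congr (Subgroup.subgroupOfEquivOfLe (hTN.trans hNQ)).toEquiv]
  have hLconj : ∀ k ∈ Q, ∀ y ∈ L, cj k y ∈ L := fun k hk y hy => by
    obtain ⟨hyQ, hy'⟩ := hLQ.1 hy
    exact hLQ.2 ⟨Q.mul_mem (Q.mul_mem hk hyQ) (Q.inv_mem hk),
      hL'n.conj_mem ⟨y, hyQ⟩ hy' ⟨k, hk⟩⟩
  have hLh : ∀ y ∈ L, ⁅h, y⁆ ∈ T := fun y hy => by
    obtain ⟨hyQ, hy'⟩ := hLQ.1 hy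
    exact PGroupsCritical.commutator_mem_of_succ (p := p) hQp hTL' hL'c hy' (⟨h, hhQ⟩ : Q)
  have hNh : ∀ y ∈ normalizerIn S E, ⁅h, y⁆ ∈ L := fun y hy => by
    have hc : Nat.card ((normalizerIn S E).subgroupOf Q) = Nat.card L' * p := by
      rw [Nat.card_congr (Subgroup.subgroupOfEquivOfLe hNQ).toEquiv, hx.cardN, hEcard, hL'c,
        Nat.card_congr (Subgroup.subgroupOfEquivOfLe (hTN.trans hNQ)).toEquiv]
      ring
    exact hLQ.2 ⟨_, PGroupsCritical.commutator_mem_of_succ (p := p) hQp hL'N hc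
      (show (⟨y, hNQ hy⟩ : Q) ∈ (normalizerIn S E).subgroupOf Q from hy) (⟨h, hhQ⟩ : Q)⟩
  have hLE : ¬ L ≤ E := fun hle => by
    have h1 : L ≤ T := fun y hy => ⟨hle hy, mem_im_cj.2 (hle (hLconj _ (Q.inv_mem hhQ) y hy))⟩
    haveI := finite_of_le (hTN.trans inf_le_left : T ≤ S)
    have h2 := Subgroup.card_le_of_le h1
    rw [hLcard] at h2
    have h3 : 0 < Nat.card T := Nat.card_pos
    have := (Fact.out : p.Prime).one_lt
    nlinarith
  have hLEeq : ∀ y ∈ L, y ∈ E → y ∈ T := by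
    intro y hy hyE
    by_contra hyT
    have hlt1 : T < L ⊓ E := lt_of_le_not_ge (le_inf hTL inf_le_left) fun e => hyT (e ⟨hy, hyE⟩)
    have h2 := mul_card_le_of_lt hx.hS ((inf_le_right : L ⊓ E ≤ E).trans hx.le) hlt1
    haveI := finite_of_le (hLN.trans inf_le_left : L ≤ S)
    have h3 : L ⊓ E = L :=
      Subgroup.eq_of_le_of_card_ge inf_le_left (by rw [hLcard, mul_comm]; exact h2)
    exact hLE (h3 ▸ inf_le_right)
  obtain ⟨l, hl, hlE⟩ := SetLike.not_le_iff_exists.1 hLE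
  -- the element `x ∈ L ∩ E x₀`
  haveI hEn := normal_subgroupOf (K := normalizerIn S E) fun k hk y hy => hx.cj_mem hk hy
  obtain ⟨e₁, he₁, k, rfl⟩ := hx.exists_eq hxN hxE (hLN hl)
  have hx₀p : x₀ ^ p ∈ E := hg.le (hg.pow_conj hx hcom hpow hxE')
  have hk : ¬ (p : ℤ) ∣ k := by
    rintro ⟨c, rfl⟩
    refine hlE (E.mul_mem he₁ ?_)
    rw [zpow_mul, zpow_natCast]
    exact E.zpow_mem hx₀p c
  obtain ⟨k', c, hkc⟩ := ((Nat.prime_iff_prime_int.1 (Fact.out : p.Prime)).coprime_iff_not_dvd.2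
    hk).symm
  set x := (e₁ * x₀ ^ k) ^ k' with hxdef
  have hxL : x ∈ L := L.zpow_mem hl k'
  have hxNm := hLN hxL
  obtain ⟨e', he', hxe⟩ : ∃ e' ∈ E, x = e' * x₀ := by
    refine ⟨x * x₀⁻¹, ?_, by group⟩
    set π := QuotientGroup.mk' (E.subgroupOf (normalizerIn S E))
    have h1 : π ⟨x, hxNm⟩ = π ⟨x₀, hxN⟩ := by
      have hek : π ⟨e₁ * x₀ ^ k, hLN hl⟩ = π ⟨x₀, hxN⟩ ^ k := by
        rw [show (⟨e₁ * x₀ ^ k, hLN hl⟩ : normalizerIn S E) =
          ⟨e₁, hx.leN he₁⟩ * ⟨x₀, hxN⟩ ^ k from rfl, map_mul, map_zpow,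
          show π ⟨e₁, hx.leN he₁⟩ = 1 from (QuotientGroup.eq_one_iff _).2 he₁, one_mul]
      have hp1 : π ⟨x₀, hxN⟩ ^ p = 1 := by
        rw [← map_pow, QuotientGroup.mk'_apply, QuotientGroup.eq_one_iff]
        exact hx₀p
      rw [show (⟨x, hxNm⟩ : normalizerIn S E) = ⟨e₁ * x₀ ^ k, hLN hl⟩ ^ k' from rfl, map_zpow,
        hek, ← zpow_mul]
      conv_rhs => rw [← zpow_one (π ⟨x₀, hxN⟩), ← hkc, zpow_add, mul_comm c, zpow_mul _ (p : ℤ),
        zpow_natCast, hp1, one_zpow, mul_one, mul_comm k']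
    exact (QuotientGroup.eq_one_iff (N := E.subgroupOf (normalizerIn S E))
      (⟨x, hxNm⟩ * ⟨x₀, hxN⟩⁻¹)).1 (by
        rw [QuotientGroup.mk_mul, QuotientGroup.mk_inv]
        exact mul_inv_eq_one.2 h1)
  have hxE2 : x ∉ E := fun e => hxE (by
    have := E.mul_mem (E.inv_mem he') e
    rwa [hxe, inv_mul_cancel_left] at this)
  -- classes modulo `M`
  let q : Ω → Q ⧸ M.subgroupOf Q := cls M Q
  have hqp : ∀ y ∈ normalizerIn S E, q y ^ p = 1 := fun y hy => by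
    show cls M Q y ^ p = 1
    rw [← cls_pow (hNQ hy), cls_eq_one (Q.pow_mem (hNQ hy) p)]
    exact hg.pow_mem_N hx hcom hpow hy
  have hqc : ∀ t ∈ T, ∀ y ∈ normalizerIn S E, Commute (q t) (q y) := fun t htT y hy =>
    cls_commute (hNQ (hTN htT)) (hNQ hy) (hTc htT y hy)
  have hqE : ∀ a ∈ E, ∀ b ∈ E, Commute (q a) (q b) := fun a ha b hb =>
    cls_commute (hNQ (hx.leN ha)) (hNQ (hx.leN hb)) (hcom a ha b hb)
  have hqxu : q x * q u * (q x)⁻¹ = q u * q z := by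
    have h1 : q x₀ * q u * (q x₀)⁻¹ = q u * q z := by
      show cls M Q x₀ * cls M Q u * (cls M Q x₀)⁻¹ = cls M Q u * cls M Q z
      rw [← cls_cj (hNQ hxN) (hNQ huN), ← cls_mul (hNQ huN) (hNQ (hx.leN ht.zE)),
        eq_comm, cls_eq (Q.mul_mem (hNQ huN) (hNQ (hx.leN ht.zE)))
          (show cj x₀ u ∈ Q from Q.mul_mem (Q.mul_mem (hNQ hxN) (hNQ huN)) (Q.inv_mem (hNQ hxN)))]
      exact ht.cx_u
    have h2 : q x = q e' * q x₀ := by
      show cls M Q x = _
      rw [hxe]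
      exact cls_mul (hNQ (hx.leN he')) (hNQ hxN)
    calc q x * q u * (q x)⁻¹ = q e' * (q x₀ * q u * (q x₀)⁻¹) * (q e')⁻¹ := by rw [h2]; group
      _ = q u * q z := by
        rw [h1, ← ((hqE _ ht.uE _ he').mul_left (hqE _ ht.zE _ he')).eq, mul_inv_cancel_right]
  have hzfix : ∀ a b : Ω, a ∈ normalizerIn S E → b ∈ normalizerIn S E → x⁻¹ * a ∈ T →
      u⁻¹ * b ∈ L → q a * q b * (q a)⁻¹ = q b * q z := by
    intro a b ha hb hat hbl
    obtain ⟨t, htT, rfl⟩ : ∃ t ∈ T, a = x * t := ⟨x⁻¹ * a, hat, by group⟩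
    obtain ⟨v, hv, rfl⟩ : ∃ v ∈ L, b = u * v := ⟨u⁻¹ * b, hbl, by group⟩
    have hxv : Commute (q x) (q v) := by
      obtain ⟨e₂, he₂, j, hj⟩ := hx.exists_eq hxNm hxE2 (hLN hv)
      have he₂T : e₂ ∈ T := by
        refine hLEeq e₂ ?_ he₂
        have := L.mul_mem hv (L.inv_mem (L.zpow_mem hxL j))
        rwa [hj, mul_inv_cancel_right] at this
      show Commute _ (cls M Q v)
      rw [hj, cls_mul (hNQ (hTN he₂T)) (Q.zpow_mem (hNQ hxNm) j), cls_zpow (hNQ hxNm)]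
      exact (hqc _ he₂T x hxNm).symm.mul_right ((Commute.refl _).zpow_right j)
    show cls M Q (x * t) * cls M Q (u * v) * (cls M Q (x * t))⁻¹ = cls M Q (u * v) * q z
    rw [cls_mul (hNQ hxNm) (hNQ (hTN htT)), cls_mul (hNQ huN) (hNQ (hLN hv))]
    calc q x * q t * (q u * q v) * (q x * q t)⁻¹
        = q x * (q t * (q u * q v)) * (q t)⁻¹ * (q x)⁻¹ := by group
      _ = q x * q u * (q x)⁻¹ * (q x * q v * (q x)⁻¹) := by
          rw [((hqc t htT u huN).mul_right (hqc t htT v (hLN hv))).eq]; group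
      _ = q u * q v * q z := by
          rw [hqxu, hxv.eq, mul_inv_cancel_right, mul_assoc (q u),
            (hqc z hzT v (hLN hv)).eq]
          group
  -- classes modulo `T`
  let π : Ω → Q ⧸ T.subgroupOf Q := cls T Q
  set U := π u with hUdef
  set X := π x with hXdef
  have hUX : Commute U X := by
    refine cls_commute (hNQ huN) (hNQ hxNm) ?_
    have h1 : ⁅x, u⁆ ∈ T := by
      refine ⟨hNNT x hxNm u ht.uE, ?_⟩
      have h2 : q ⁅x, u⁆ = q z := by
        show cls M Q ⁅x, u⁆ = _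
        rw [commutatorElement_def, cls_mul (Q.mul_mem (Q.mul_mem (hNQ hxNm) (hNQ huN))
          (Q.inv_mem (hNQ hxNm))) (Q.inv_mem (hNQ huN)),
          cls_mul (Q.mul_mem (hNQ hxNm) (hNQ huN)) (Q.inv_mem (hNQ hxNm)),
          cls_mul (hNQ hxNm) (hNQ huN), cls_inv (hNQ hxNm), cls_inv (hNQ huN)]
        show q x * q u * (q x)⁻¹ * (q u)⁻¹ = q z
        rw [hqxu, (hqE _ ht.uE _ ht.zE).eq, mul_inv_cancel_right]
      have h3 := (cls_eq (hNQ (hTN hzT)) (hNQ (hx.leN (hNNT x hxNm u ht.uE)))).1 h2.symm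
      have h4 := (im E (cj h)).mul_mem hzT.2 (hMT h3).2
      rwa [mul_inv_cancel_left] at h4
    rw [← commutatorElement_inv]
    exact T.inv_mem h1
  have hπp : ∀ y ∈ normalizerIn S E, π y ^ p = 1 := fun y hy => by
    show cls T Q y ^ p = 1
    rw [← cls_pow (hNQ hy), cls_eq_one (Q.pow_mem (hNQ hy) p)]
    exact hMT (hg.pow_mem_N hx hcom hpow hy)
  have hπT : ∀ t ∈ T, π t = 1 := fun t htT => (cls_eq_one (hNQ (hTN htT))).2 htT
  have hπE : ∀ e ∈ E, ∃ i : ℕ, π e = U ^ i := by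
    intro e he
    obtain ⟨i, j, l, hd⟩ := ht.three hx hg hcom hpow hr hrM he
    refine ⟨i, ?_⟩
    show cls T Q e = cls T Q u ^ i
    rw [← cls_pow (hNQ huN), eq_comm, cls_eq (hNQ (pow_mem huN i)) (hNQ (hx.leN he))]
    have h2 := T.mul_mem (T.mul_mem (T.pow_mem hzT j) (T.pow_mem hrT l)) (hMT hd)
    convert h2 using 1
    group
  have hdec : ∀ y ∈ normalizerIn S E, ∃ i j : ℕ, π y = U ^ i * X ^ j := by
    intro y hy
    obtain ⟨e, he, j, rfl⟩ := hx.exists_eq hxNm hxE2 hy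
    obtain ⟨i, hi⟩ := hπE e he
    obtain ⟨j', hj'⟩ := exists_nat_pow (hπp x hxNm) j
    refine ⟨i, j', ?_⟩
    show cls T Q (e * x ^ j) = _
    rw [cls_mul (hNQ (hx.leN he)) (Q.zpow_mem (hNQ hxNm) j), cls_zpow (hNQ hxNm)]
    exact congrArg₂ (· * ·) hi hj'
  have hind : ∀ i j : ℕ, U ^ i * X ^ j = 1 → p ∣ i ∧ p ∣ j := by
    intro i j e
    have e' : π (u ^ i * x ^ j) = 1 := by
      show cls T Q _ = 1
      rw [cls_mul (hNQ (pow_mem huN i)) (hNQ (pow_mem hxNm j)), cls_pow (hNQ huN),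
        cls_pow (hNQ hxNm)]
      exact e
    have h1 : u ^ i * x ^ j ∈ T := (cls_eq_one (hNQ (mul_mem (pow_mem huN i) (pow_mem hxNm j)))).1 e'
    have hj : p ∣ j := dvd_of_pow_mem (hg.le (hg.pow_mem_N hx hcom hpow hxNm)) hxE2 (by
      have := E.mul_mem (E.inv_mem (E.pow_mem ht.uE i)) h1.1
      rwa [inv_mul_cancel_left] at this)
    refine ⟨dvd_of_pow_mem (hMT (hpow u ht.uE)).2 ht.uT ?_, hj⟩
    obtain ⟨c', rfl⟩ := hj
    have h2 : x ^ (p * c') ∈ T := by
      rw [pow_mul]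
      exact T.pow_mem (hMT (hg.pow_mem_N hx hcom hpow hxNm)) c'
    exact (show u ^ i ∈ T by
      have := T.mul_mem h1 (T.inv_mem h2)
      rwa [mul_inv_cancel_right] at this).2
  have hmemE : ∀ y (hy : y ∈ normalizerIn S E) (i j : ℕ), π y = U ^ i * X ^ j →
      (y ∈ E ↔ p ∣ j) ∧ (y ∈ L ↔ p ∣ i) := by
    intro y hy i j e
    have h1 : (u ^ i * x ^ j)⁻¹ * y ∈ T := by
      refine (cls_eq (hNQ (mul_mem (pow_mem huN i) (pow_mem hxNm j))) (hNQ hy)).1 ?_
      show cls T Q _ = π y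
      rw [cls_mul (hNQ (pow_mem huN i)) (hNQ (pow_mem hxNm j)), cls_pow (hNQ huN),
        cls_pow (hNQ hxNm), e]
    refine ⟨⟨fun hyE => ?_, fun hj => ?_⟩, ⟨fun hyL => ?_, fun hi => ?_⟩⟩
    · refine dvd_of_pow_mem (hg.le (hg.pow_mem_N hx hcom hpow hxNm)) hxE2 ?_
      have := E.mul_mem (E.mul_mem (E.inv_mem (E.pow_mem ht.uE i)) hyE) (E.inv_mem h1.1)
      convert this using 1
      group
    · obtain ⟨c', rfl⟩ := hj
      have := E.mul_mem (E.mul_mem (E.pow_mem ht.uE i)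
        (E.pow_mem (hg.le (hg.pow_mem_N hx hcom hpow hxNm)) c')) h1.1
      rwa [← pow_mul, mul_inv_cancel_left] at this
    · refine dvd_of_pow_mem (hMT (hpow u ht.uE)).2 ht.uT ?_
      refine (show u ^ i ∈ T from hLEeq _ ?_ (E.pow_mem ht.uE i)).2
      have := L.mul_mem (L.mul_mem hyL (L.inv_mem (hTL h1))) (L.inv_mem (L.pow_mem hxL j))
      convert this using 1
      group
    · obtain ⟨c', rfl⟩ := hi
      have := L.mul_mem (L.mul_mem (L.pow_mem (hTL (hMT (hpow u ht.uE))) c') (L.pow_mem hxL j))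
        (hTL h1)
      rwa [← pow_mul, mul_inv_cancel_left] at this
  have hmodp : ∀ {g : Q ⧸ T.subgroupOf Q}, g ^ p = 1 → ∀ {a b : ℕ}, (a : ZMod p) = b →
      g ^ a = g ^ b := fun hg' _ _ hab => pow_congr hg' hab
  -- the action of `h` modulo `T`
  obtain ⟨ee, hee⟩ : ∃ ee : ℕ, π (cj h u) = U * X ^ ee := by
    have h1 : cj h u * u⁻¹ ∈ L := hNh u huN
    obtain ⟨i, j, e⟩ := hdec _ (hLN h1)
    have hi := ((hmemE _ (hLN h1) i j e).2).1 h1
    refine ⟨j, ?_⟩
    have e2 : π (cj h u) = π (cj h u * u⁻¹) * U := by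
      show cls T Q _ = cls T Q _ * cls T Q u
      rw [← cls_mul (hNQ (hLN h1)) (hNQ huN), inv_mul_cancel_right]
    obtain ⟨c', rfl⟩ := hi
    rw [e2, e, pow_mul, hπp u huN, one_pow, one_mul, (hUX.pow_right j).eq]
  have hee0 : (ee : ZMod p) ≠ 0 := by
    intro e0
    rw [CharP.cast_eq_zero_iff (ZMod p) p] at e0
    have huE' : cj h u ∈ E :=
      ((hmemE _ (hx.cjh_memN huN) 1 ee (by rw [pow_one]; exact hee)).1).2 e0
    obtain ⟨e₀, he₀, he₀'⟩ := hx.exists_conj_notMem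
    obtain ⟨i, j, l, hd⟩ := ht.three hx hg hcom hpow hr hrM he₀
    refine he₀' ?_
    have h2 : e₀ = u ^ i * ((z ^ j * r ^ l) * ((u ^ i * (z ^ j * r ^ l))⁻¹ * e₀)) := by group
    have h3 : (z ^ j * r ^ l) * ((u ^ i * (z ^ j * r ^ l))⁻¹ * e₀) ∈ T :=
      T.mul_mem (T.mul_mem (T.pow_mem hzT j) (T.pow_mem hrT l)) (hMT hd)
    rw [h2, cj_apply, show h * (u ^ i * ((z ^ j * r ^ l) * ((u ^ i * (z ^ j * r ^ l))⁻¹ * e₀))) * h⁻¹ =
      (h * u ^ i * h⁻¹) * (h * ((z ^ j * r ^ l) * ((u ^ i * (z ^ j * r ^ l))⁻¹ * e₀)) * h⁻¹) by group,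
      ← conj_pow]
    exact E.mul_mem (E.pow_mem huE' i) (hTQ h hhQ _ h3).1
  have hhX : π (cj h x) = X := by
    show cls T Q _ = cls T Q x
    rw [eq_comm, cls_eq (hNQ hxNm) (hNQ (hx.cjh_memN hxNm))]
    have h1 := hTQ x⁻¹ (Q.inv_mem (hNQ hxNm)) _ (hLh x hxL)
    simpa [cj_apply, commutatorElement_def, mul_assoc] using h1
  have hπh : ∀ y ∈ normalizerIn S E, ∀ i j : ℕ, π y = U ^ i * X ^ j →
      π (cj h y) = U ^ i * X ^ (i * ee + j) := by
    intro y hy i j e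
    have e1 : π (cj h y) = π h * π y * (π h)⁻¹ := cls_cj hhQ (hNQ hy)
    have e2 : π h * U * (π h)⁻¹ = U * X ^ ee := (cls_cj hhQ (hNQ huN)).symm.trans hee
    have e3 : π h * X * (π h)⁻¹ = X := (cls_cj hhQ (hNQ hxNm)).symm.trans hhX
    rw [e1, e, show π h * (U ^ i * X ^ j) * (π h)⁻¹ =
      (π h * U ^ i * (π h)⁻¹) * (π h * X ^ j * (π h)⁻¹) by group, ← conj_pow, ← conj_pow, e2, e3,
      (hUX.pow_right ee).mul_pow, ← pow_mul, mul_assoc, ← pow_add, mul_comm ee i]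
  -- the torus on `N_S(E)`
  obtain ⟨s, hs0, hs2, hs3, hs5⟩ := exists_torus_param (p := p) hx.hp
  obtain ⟨τ, hτ, hτu, hτz, hτR, hτn⟩ := ht.torus s hs0
  set ν := (s⁻¹ * s⁻¹).val with hνdef
  have hν : (ν : ZMod p) = s⁻¹ * s⁻¹ := ZMod.natCast_zmod_val _
  obtain ⟨f, hf, hfE, e₂, he₂, hfx⟩ :=
    hx.extend_aut (Rank3.opp_le F p E hτ) hxN hxE (hτn ν hν)
  have hfM : ∀ y ∈ M, afun f y ∈ M := fun y hy => by
    rw [hfE y (hg.le hy)]
    exact hg.inv τ hτ y hy
  have hfT : ∀ y ∈ T, afun f y ∈ T := by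
    intro y hy
    refine (hg.central_iff hx hcom).2 ⟨afun_mem f (hTN hy), fun w hw => ?_⟩
    have hw' := afun_mem f⁻¹ hw
    have e1 : ⁅afun f y, w⁆ = afun f ⁅y, afun f⁻¹ w⁆ := by
      have e2 : (afun f⁻¹ w) = ((f⁻¹ ⟨w, hw⟩ : normalizerIn S E) : Ω) := afun_apply f⁻¹ hw
      rw [e2, afun_apply f (hTN hy)]
      conv_rhs => rw [show ⁅y, ((f⁻¹ ⟨w, hw⟩ : normalizerIn S E) : Ω)⁆ =
        ((⁅(⟨y, hTN hy⟩ : normalizerIn S E), f⁻¹ ⟨w, hw⟩⁆ : normalizerIn S E) : Ω) from rfl,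
        afun_coe, map_commutatorElement]
      rw [MulAut.inv_def, MulEquiv.apply_symm_apply]
      rfl
    rw [e1]
    exact hfM _ (hTc hy _ hw')
  have hπf : ∀ y ∈ normalizerIn S E, ∀ (i j : ℕ), π y = U ^ i * X ^ j →
      π (afun f y) = π (afun f u) ^ i * π (afun f x) ^ j := by
    intro y hy i j e
    have hm := mul_mem (pow_mem huN i) (pow_mem hxNm j)
    have h1 : (u ^ i * x ^ j)⁻¹ * y ∈ T := by
      refine (cls_eq (hNQ hm) (hNQ hy)).1 ?_
      show cls T Q _ = π y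
      rw [cls_mul (hNQ (pow_mem huN i)) (hNQ (pow_mem hxNm j)), cls_pow (hNQ huN),
        cls_pow (hNQ hxNm), e]
    have h2 := hfT _ h1
    rw [afun_map_mul f (inv_mem hm) hy] at h2
    have e1 : afun f (u ^ i * x ^ j)⁻¹ = (afun f (u ^ i * x ^ j))⁻¹ := by
      rw [afun_apply f (inv_mem hm), afun_apply f hm]
      exact congrArg Subtype.val (map_inv f (⟨_, hm⟩ : normalizerIn S E))
    rw [e1] at h2
    have e3 : afun f (u ^ i * x ^ j) = afun f u ^ i * afun f x ^ j := by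
      rw [afun_map_mul f (pow_mem huN i) (pow_mem hxNm j), ← zpow_natCast u, ← zpow_natCast x,
        Rank3.afun_zpow f huN, Rank3.afun_zpow f hxNm, zpow_natCast, zpow_natCast]
    rw [e3] at h2
    have hfu := afun_mem f huN
    have hfx' := afun_mem f hxNm
    have h3 := (cls_eq (K := T) (hNQ (mul_mem (pow_mem hfu i) (pow_mem hfx' j)))
      (hNQ (afun_mem f hy))).2 h2
    rw [show π (afun f y) = cls T Q (afun f y) from rfl, ← h3,
      cls_mul (hNQ (pow_mem hfu i)) (hNQ (pow_mem hfx' j)), cls_pow (hNQ hfu), cls_pow (hNQ hfx')]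
  have hfu : π (afun f u) = U ^ s.val := by
    show cls T Q _ = cls T Q u ^ s.val
    rw [hfE u ht.uE, ← cls_pow (hNQ huN), eq_comm,
      cls_eq (hNQ (pow_mem huN _)) (hNQ (hx.leN (afun_mem τ ht.uE)))]
    exact hMT hτu
  obtain ⟨a₁, hfx'⟩ : ∃ a₁ : ℕ, π (afun f x) = U ^ a₁ * X ^ ν := by
    obtain ⟨i, hi⟩ := hπE _ (E.mul_mem (afun_mem τ he') he₂)
    obtain ⟨i', hi'⟩ := hπE _ (E.inv_mem he')
    refine ⟨i + i' * ν, ?_⟩
    have e1 : afun f x = (afun τ e' * e₂) * x₀ ^ ν := by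
      rw [hxe, afun_map_mul f (hx.leN he') hxN, hfE e' he', hfx, mul_assoc]
    have e2 : π x₀ = U ^ i' * X := by
      have e3 : x₀ = e'⁻¹ * x := by rw [hxe, inv_mul_cancel_left]
      show cls T Q x₀ = _
      rw [e3, cls_mul (hNQ (inv_mem (hx.leN he'))) (hNQ hxNm)]
      exact congrArg (· * X) hi'
    rw [e1]
    show cls T Q _ = _
    rw [cls_mul (hNQ (mul_mem (hx.leN (afun_mem τ he')) (hx.leN he₂))) (hNQ (pow_mem hxN ν)),
      cls_pow (hNQ hxN)]
    show π _ * π x₀ ^ ν = _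
    rw [hi, e2, (hUX.pow_left i').mul_pow, ← pow_mul, ← mul_assoc, ← pow_add]
  set γ : MulAut (normalizerIn S E) :=
    nHom Q (normalizerIn S E) ⟨h, hhQ, hx.norm⟩ with hγdef
  have hγe : ∀ n ∈ normalizerIn S E, afun γ n = cj h n := fun n hn => afun_nHom _ hn
  have hγQ : autInducedBy Q (normalizerIn S E) ≤ autInducedBy S (normalizerIn S E) :=
    autInducedBy_mono hQS _
  have hγmem : γ ∈ autInducedBy Q (normalizerIn S E) := (autInducedBy_eq_range _ _).ge ⟨_, rfl⟩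
  have hγA : γ ∈ F.autGroup (normalizerIn S E) :=
    autInducedBy_le inf_le_left (hγQ hγmem)
  have hγp : ∃ k : ℕ, γ ^ p ^ k = 1 := by
    obtain ⟨k, hk⟩ := isPGroup_autInducedBy hx.hS (normalizerIn S E) ⟨γ, hγQ hγmem⟩
    exact ⟨k, congrArg Subtype.val hk⟩
  -- `f` preserves `L`
  have hfL : ∀ y ∈ L, afun f y ∈ L := by
    have ha₁ : (a₁ : ZMod p) = 0 := by
      by_contra ha0
      set δ := f * γ * f⁻¹
      set W := U ^ a₁ * X ^ ν
      have hWh : ∀ v ∈ normalizerIn S E, ∀ i j : ℕ, π v = U ^ i * X ^ j →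
          π (afun δ (afun f v)) = π (afun f v) * W ^ (i * ee) := by
        intro v hv i j e
        rw [afun_mul _ _ (afun_mem f hv), afun_mul _ _ (afun_mem _ (afun_mem f hv)),
          afun_inv_apply f hv, hγe v hv]
        rw [hπf _ (hx.cjh_memN hv) i (i * ee + j) (hπh v hv i j e), hπf v hv i j e, hfu, hfx',
          mul_assoc, ← pow_add, add_comm j]
      have hδT : ∀ k : ℕ, ∀ t ∈ T, afun (δ ^ k) t ∈ T := by
        intro k
        induction k with
        | zero => intro t ht'; rwa [pow_zero, afun_one (hTN ht')]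
        | succ k ih =>
          intro t ht'
          rw [pow_succ', afun_mul _ _ (hTN ht'), afun_mul _ _ (afun_mem _ (hTN ht')),
            afun_mul _ _ (afun_mem _ (afun_mem _ (hTN ht')))]
          refine hfT _ ?_
          have h1 := afun_inv_mem hTN hfT (ih t ht')
          rw [hγe _ (hTN h1)]
          exact hTQ h hhQ _ h1
      set us := afun f u
      have hus : us ∈ normalizerIn S E := afun_mem f huN
      have hfx2 : π (afun δ (afun f x)) = π (afun f x) := by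
        rw [hWh x hxNm 0 1 (by rw [pow_zero, one_mul, pow_one]), zero_mul, pow_zero, mul_one]
      have hiter : ∀ k : ℕ, π (afun (δ ^ k) us) = U ^ s.val * W ^ (ee * k) := by
        intro k
        induction k with
        | zero => rw [pow_zero, afun_one hus, mul_zero, pow_zero, mul_one]; exact hfu
        | succ k ih =>
          have hv := mul_mem huN (pow_mem hxNm (ee * k))
          have e0 : π (u * x ^ (ee * k)) = U ^ 1 * X ^ (ee * k) := by
            show cls T Q _ = _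
            rw [cls_mul (hNQ huN) (hNQ (pow_mem hxNm _)), cls_pow (hNQ hxNm), pow_one]
          have e1 := hπf _ hv 1 (ee * k) e0
          rw [pow_one, hfu, hfx'] at e1
          have hy := afun_mem (δ ^ k) hus
          have h4 : (afun f (u * x ^ (ee * k)))⁻¹ * afun (δ ^ k) us ∈ T :=
            (cls_eq (hNQ (afun_mem f hv)) (hNQ hy)).1 (e1.trans ih.symm)
          have h5 := hδT 1 _ h4
          rw [pow_one, afun_map_mul δ (inv_mem (afun_mem f hv)) hy] at h5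
          have e6 : afun δ (afun f (u * x ^ (ee * k)))⁻¹ =
              (afun δ (afun f (u * x ^ (ee * k))))⁻¹ := by
            rw [afun_apply δ (inv_mem (afun_mem f hv)), afun_apply δ (afun_mem f hv)]
            exact congrArg Subtype.val (map_inv δ (⟨_, afun_mem f hv⟩ : normalizerIn S E))
          rw [e6, ← afun_mul δ (δ ^ k) hus, ← pow_succ'] at h5
          have h7 := (cls_eq (K := T) (hNQ (afun_mem δ (afun_mem f hv)))
            (hNQ (afun_mem _ hus))).2 h5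
          rw [show π (afun (δ ^ (k + 1)) us) = cls T Q _ from rfl, ← h7]
          show π (afun δ (afun f (u * x ^ (ee * k)))) = _
          rw [hWh _ hv 1 (ee * k) e0, e1, one_mul, mul_assoc, ← pow_add, Nat.mul_succ]
      set kk := (-(s / ((a₁ : ZMod p) * ee))).val
      set θ := (δ ^ kk)⁻¹ * γ * δ ^ kk
      have hθ : θ ∈ F.autGroup (normalizerIn S E) := by
        have hδA : δ ∈ F.autGroup (normalizerIn S E) := mul_mem (mul_mem hf hγA) (inv_mem hf)
        exact mul_mem (mul_mem (inv_mem (pow_mem hδA _)) hγA) (pow_mem hδA _)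
      have hθp : ∃ k : ℕ, θ ^ p ^ k = 1 := by
        obtain ⟨k, hk⟩ := hγp
        refine ⟨k, ?_⟩
        rw [show θ = (δ ^ kk)⁻¹ * γ * (δ ^ kk)⁻¹⁻¹ by rw [inv_inv], conj_pow, hk]
        group
      have hθE : ∀ e ∈ E, afun θ e ∈ E := by
        intro e he
        have hUs : ∀ y ∈ normalizerIn S E, afun (δ ^ kk) y ∈ L → afun θ y ∈ normalizerIn S E ∧
            y⁻¹ * afun θ y ∈ T := by
          intro y hy hyL
          refine ⟨afun_mem θ hy, ?_⟩
          have e1 : afun θ y = afun (δ ^ kk)⁻¹ (cj h (afun (δ ^ kk) y)) := by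
            rw [afun_mul _ _ hy, afun_mul _ _ (afun_mem _ hy), hγe _ (afun_mem _ hy)]
          have h1 : (afun (δ ^ kk) y)⁻¹ * cj h (afun (δ ^ kk) y) ∈ T := by
            have := hTQ (afun (δ ^ kk) y)⁻¹ (Q.inv_mem (hNQ (hLN hyL))) _ (hLh _ hyL)
            simpa [cj_apply, commutatorElement_def, mul_assoc] using this
          have h2 := afun_inv_mem hTN (hδT kk) h1
          rw [afun_map_mul _ (inv_mem (hLN hyL)) (hx.cjh_memN (hLN hyL)), ← e1] at h2
          have e2 : afun (δ ^ kk)⁻¹ (afun (δ ^ kk) y)⁻¹ = y⁻¹ := by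
            rw [afun_apply _ (inv_mem (hLN hyL)),
              show (⟨(afun (δ ^ kk) y)⁻¹, inv_mem (hLN hyL)⟩ : normalizerIn S E) =
                (⟨afun (δ ^ kk) y, hLN hyL⟩ : normalizerIn S E)⁻¹ from rfl, map_inv,
              Subgroup.coe_inv, ← afun_apply _ (hLN hyL), afun_inv_apply _ hy]
          rwa [e2] at h2
        -- every element of `E` is mapped into `L`
        obtain ⟨i, hi⟩ := hπE e he
        obtain ⟨i', hi'⟩ : ∃ i' : ℕ, U ^ i = U ^ (s.val * i') := ⟨((i : ZMod p) / s).val,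
          hmodp (hπp u huN) (by push_cast; rw [ZMod.natCast_zmod_val, ZMod.natCast_zmod_val]; field_simp)⟩
        have hue : π (us ^ i') = π e := by
          show cls T Q (us ^ i') = _
          rw [cls_pow (hNQ hus), hi, hi', pow_mul]
          exact congrArg (· ^ i') hfu
        have huL : afun (δ ^ kk) us ∈ L := by
          have e3 : π (afun (δ ^ kk) us) =
              U ^ (s.val + a₁ * (ee * kk)) * X ^ (ν * (ee * kk)) := by
            rw [hiter, ((hUX.pow_left a₁).pow_right ν).mul_pow, ← pow_mul, ← pow_mul, ← mul_assoc,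
              ← pow_add]
          refine ((hmemE _ (afun_mem _ hus) _ _ e3).2).2 ?_
          rw [← CharP.cast_eq_zero_iff (ZMod p) p]
          push_cast
          rw [ZMod.natCast_zmod_val, ZMod.natCast_zmod_val]
          field_simp
          ring
        have hie : us ^ i' ∈ normalizerIn S E := pow_mem hus i'
        have hyL : afun (δ ^ kk) (us ^ i') ∈ L := by
          rw [← zpow_natCast us, Rank3.afun_zpow _ hus, zpow_natCast]
          exact pow_mem huL i'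
        have h1 : e ∈ normalizerIn S E := hx.leN he
        have hd : (us ^ i')⁻¹ * e ∈ T := (cls_eq (hNQ hie) (hNQ h1)).1 hue
        have heL : afun (δ ^ kk) e ∈ L := by
          have := L.mul_mem hyL (hTL (hδT kk _ hd))
          rw [← afun_map_mul _ hie (hTN hd), mul_inv_cancel_left] at this
          exact this
        have := E.mul_mem he (hUs e h1 heL).2.1
        rwa [mul_inv_cancel_left] at this
      obtain ⟨v, hv, hve⟩ := hx.pinn hθ hθp hθE
      obtain ⟨e₀, he₀, he₀'⟩ := hx.exists_conj_notMem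
      refine he₀' ?_
      have hc : γ = δ ^ kk * θ * (δ ^ kk)⁻¹ := by simp only [θ]; group
      rw [← hγe e₀ (hx.leN he₀), hc, afun_mul _ _ (hx.leN he₀),
        afun_mul _ _ (afun_mem _ (hx.leN he₀)), hve _ (afun_mem _ (hx.leN he₀)), cj_apply,
        afun_map_mul _ (mul_mem hv (afun_mem _ (hx.leN he₀))) (inv_mem hv),
        afun_map_mul _ hv (afun_mem _ (hx.leN he₀)), afun_apply_inv _ (hx.leN he₀)]
      have hvi : afun (δ ^ kk) v⁻¹ = (afun (δ ^ kk) v)⁻¹ := by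
        rw [afun_apply _ (inv_mem hv), afun_apply _ hv]
        exact congrArg Subtype.val (map_inv (δ ^ kk) (⟨v, hv⟩ : normalizerIn S E))
      rw [hvi]
      exact hx.cj_mem (afun_mem _ hv) he₀
    intro y hy
    obtain ⟨i, j, e⟩ := hdec y (hLN hy)
    have hi := ((hmemE y (hLN hy) i j e).2).1 hy
    have e1 := hπf y (hLN hy) i j e
    rw [hfu, hfx'] at e1
    obtain ⟨c', rfl⟩ := hi
    rw [← pow_mul, ((hUX.pow_left a₁).pow_right ν).mul_pow, ← pow_mul, ← pow_mul, ← mul_assoc,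
      ← pow_add] at e1
    refine ((hmemE _ (afun_mem f (hLN hy)) _ _ e1).2).2 ?_
    rw [CharP.cast_eq_zero_iff (ZMod p) p] at ha₁
    exact dvd_add (dvd_mul_of_dvd_right (dvd_mul_right p c') _) (dvd_mul_of_dvd_left ha₁ _)
  -- the chain
  set Z : Subgroup Ω := ((Subgroup.zpowers (q z)).comap
    (QuotientGroup.mk' (M.subgroupOf Q))).map Q.subtype with hZdef
  have hZ : ∀ {y : Ω}, y ∈ Z ↔ y ∈ Q ∧ q y ∈ Subgroup.zpowers (q z) := by
    intro y
    constructor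
    · rintro ⟨⟨w, hw⟩, hw', rfl⟩
      refine ⟨hw, ?_⟩
      show cls M Q w ∈ _
      rw [cls_mk hw]
      exact hw'
    · rintro ⟨hy, hy'⟩
      refine ⟨⟨y, hy⟩, ?_, rfl⟩
      have hy'' : cls M Q y ∈ Subgroup.zpowers (q z) := hy'
      rw [cls_mk hy] at hy''
      exact hy''
  have hcq : ∀ φ : MulAut (normalizerIn S E), (∀ y ∈ M, afun φ y ∈ M) →
      ∀ a ∈ normalizerIn S E, ∀ b ∈ normalizerIn S E, q a = q b → q (afun φ a) = q (afun φ b) := by
    intro φ hφ a ha b hb e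
    have h1 := hφ _ ((cls_eq (hNQ ha) (hNQ hb)).1 e)
    rw [afun_map_mul φ (inv_mem ha) hb] at h1
    have e1 : afun φ a⁻¹ = (afun φ a)⁻¹ := by
      rw [afun_apply φ (inv_mem ha), afun_apply φ ha]
      exact congrArg Subtype.val (map_inv φ (⟨a, ha⟩ : normalizerIn S E))
    rw [e1] at h1
    exact (cls_eq (hNQ (afun_mem φ ha)) (hNQ (afun_mem φ hb))).2 h1
  have hqz : ∀ φ : MulAut (normalizerIn S E), ∀ n : ℕ,
      afun φ (z ^ n) = afun φ z ^ n := fun φ n => by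
    rw [← zpow_natCast, Rank3.afun_zpow φ (hTN hzT), zpow_natCast]
  have hfz : q (afun f z) = q z ^ (s⁻¹).val := by
    show cls M Q _ = cls M Q z ^ _
    rw [hfE z ht.zE, ← cls_pow (hNQ (hTN hzT)), eq_comm,
      cls_eq (hNQ (pow_mem (hTN hzT) _)) (hNQ (hx.leN (afun_mem τ ht.zE)))]
    exact hτz
  have hZm : ∀ y ∈ normalizerIn S E, q y ∈ Subgroup.zpowers (q z) →
      ∀ φ : MulAut (normalizerIn S E), (∀ w ∈ M, afun φ w ∈ M) →
        q (afun φ z) ∈ Subgroup.zpowers (q z) → q (afun φ y) ∈ Subgroup.zpowers (q z) := by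
    intro y hy hy' φ hφ hφz
    obtain ⟨i, hi⟩ := Subgroup.mem_zpowers_iff.1 hy'
    obtain ⟨n, hn⟩ := exists_nat_pow (hqp z (hTN hzT)) i
    rw [hn] at hi
    rw [hcq φ hφ y hy (z ^ n) (pow_mem (hTN hzT) n)
      (by rw [← hi]; exact (cls_pow (hNQ (hTN hzT)) n).symm), hqz]
    show cls M Q (afun φ z ^ n) ∈ _
    rw [cls_pow (hNQ (afun_mem φ (hTN hzT)))]
    exact pow_mem hφz n
  set H₀ := stabSub F (normalizerIn S E) M Z T L hLN hTL (hg.le.trans hx.leN)
  have hH₀z : ∀ φ ∈ H₀, q (afun φ z) = q z := by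
    rintro φ ⟨-, hM', hN', hL', -⟩
    have hxu' : q (cj x u) = q (u * z) := by
      show cls M Q _ = cls M Q _
      rw [cls_cj (hNQ hxNm) (hNQ huN), cls_mul (hNQ huN) (hNQ (hTN hzT))]
      exact hqxu
    have h1 := hcq φ hM' _ (mul_mem (mul_mem hxNm huN) (inv_mem hxNm)) _ (mul_mem huN (hTN hzT)) hxu'
    rw [afun_map_mul φ (mul_mem hxNm huN) (inv_mem hxNm),
      afun_map_mul φ hxNm huN, afun_map_mul φ huN (hTN hzT)] at h1
    have e1 : afun φ x⁻¹ = (afun φ x)⁻¹ := by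
      rw [afun_apply φ (inv_mem hxNm), afun_apply φ hxNm]
      exact congrArg Subtype.val (map_inv φ (⟨x, hxNm⟩ : normalizerIn S E))
    have hax := hNQ (afun_mem φ hxNm)
    have hau := hNQ (afun_mem φ huN)
    rw [e1] at h1
    change cls M Q _ = cls M Q _ at h1
    rw [cls_mul (Q.mul_mem hax hau) (Q.inv_mem hax), cls_mul hax hau, cls_inv hax,
      cls_mul hau (hNQ (afun_mem φ (hTN hzT)))] at h1
    have h2 := hzfix _ _ (afun_mem φ hxNm) (afun_mem φ huN) (hL' x hxL) (hN' u huN)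
    exact mul_left_cancel (h1.symm.trans h2)
  have hfH : ∀ κ ∈ H₀, f * κ * f⁻¹ ∈ H₀ := by
    rintro κ ⟨k1, k2, k3, k4, k5⟩
    have hfinv : ∀ {K : Subgroup Ω}, K ≤ normalizerIn S E → (∀ y ∈ K, afun f y ∈ K) →
        ∀ y ∈ K, afun f⁻¹ y ∈ K := fun hK h' y hy => afun_inv_mem hK h' hy
    have hstep : ∀ y (hy : y ∈ normalizerIn S E),
        y⁻¹ * afun (f * κ * f⁻¹) y = afun f ((afun f⁻¹ y)⁻¹ * afun κ (afun f⁻¹ y)) := by
      intro y hy
      have hy' := afun_mem f⁻¹ hy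
      rw [afun_map_mul f (inv_mem hy') (afun_mem κ hy'), afun_mul _ _ hy, afun_mul _ _ hy']
      congr 1
      rw [afun_apply f (inv_mem hy'), show (⟨(afun f⁻¹ y)⁻¹, inv_mem hy'⟩ : normalizerIn S E) =
        (⟨afun f⁻¹ y, hy'⟩ : normalizerIn S E)⁻¹ from rfl, map_inv, Subgroup.coe_inv,
        ← afun_apply f hy', afun_apply_inv f hy]
    refine ⟨mul_mem (mul_mem hf k1) (inv_mem hf), fun y hy => ?_, fun y hy => ?_,
      fun y hy => ?_, fun y hy => ?_⟩
    · have hyN := hx.leN (hg.le hy)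
      rw [afun_mul _ _ hyN, afun_mul _ _ (afun_mem f⁻¹ hyN)]
      exact hfM _ (k2 _ (hfinv (hg.le.trans hx.leN) hfM y hy))
    · rw [hstep y hy]; exact hfL _ (k3 _ (afun_mem _ hy))
    · rw [hstep y (hLN hy)]; exact hfT _ (k4 _ (hfinv hLN hfL y hy))
    · rw [hstep y (hTN hy)]
      have h1 := k5 _ (hfinv hTN hfT y hy)
      refine ⟨hZ.2 ⟨hNQ (afun_mem f (hTN h1.2)), ?_⟩, hfT _ h1.2⟩
      refine hZm _ (hTN h1.2) (hZ.1 h1.1).2 f hfM ?_
      rw [hfz]
      exact pow_mem (Subgroup.mem_zpowers _) _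
  have hTZ : ∀ t ∈ T, ∃ j l : ℕ, q t = q z ^ j * q r ^ l := by
    intro t ht'
    obtain ⟨i, j, l, hd⟩ := ht.three hx hg hcom hpow hr hrM ht'.1
    have hi : p ∣ i := by
      refine dvd_of_pow_mem (hMT (hpow u ht.uE)).2 ht.uT ?_
      have h2 := T.mul_mem ht' (T.inv_mem (T.mul_mem (T.mul_mem (T.pow_mem hzT j) (T.pow_mem hrT l))
        (hMT hd)))
      refine (show u ^ i ∈ T from ?_).2
      convert h2 using 1
      group
    refine ⟨j, l, ?_⟩
    obtain ⟨c', rfl⟩ := hi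
    have hw := mul_mem (pow_mem huN (p * c')) (mul_mem (pow_mem (hTN hzT) j) (pow_mem (hTN hrT) l))
    have h1 : cls M Q _ = q t := (cls_eq (hNQ hw) (hNQ (hTN ht'))).2 hd
    rw [← h1, cls_mul (hNQ (pow_mem huN _)) (hNQ (mul_mem (pow_mem (hTN hzT) j) (pow_mem (hTN hrT) l))),
      cls_mul (hNQ (pow_mem (hTN hzT) j)) (hNQ (pow_mem (hTN hrT) l)), cls_pow (hNQ huN),
      cls_pow (hNQ (hTN hzT)), cls_pow (hNQ (hTN hrT))]
    show q u ^ (p * c') * _ = _
    rw [pow_mul, hqp u huN, one_pow, one_mul]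
  have hZT : ∀ t ∈ T, ⁅h, t⁆ ∈ Z ⊓ T := by
    intro t ht'
    have hhT : ⁅h, t⁆ ∈ T := T.mul_mem (hTQ h hhQ t ht') (T.inv_mem ht')
    refine ⟨?_, hhT⟩
    -- `h` fixes `z` modulo `M`
    have hqhz : q (cj h z) = q z := by
      have h1 := hzfix (cj h x) (cj h u) (hx.cjh_memN hxNm) (hx.cjh_memN huN) (by
        have := hTQ x⁻¹ (Q.inv_mem (hNQ hxNm)) _ (hLh x hxL)
        simpa [cj_apply, commutatorElement_def, mul_assoc] using this) (by
        have := hLconj u⁻¹ (Q.inv_mem (hNQ huN)) _ (hNh u huN)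
        simpa [cj_apply, commutatorElement_def, mul_assoc] using this)
      have h2 : q (cj h x) * q (cj h u) * (q (cj h x))⁻¹ = q (cj h u) * q (cj h z) := by
        show cls M Q _ * cls M Q _ * (cls M Q _)⁻¹ = cls M Q _ * cls M Q _
        rw [cls_cj hhQ (hNQ hxNm), cls_cj hhQ (hNQ huN), cls_cj hhQ (hNQ (hTN hzT))]
        calc q h * q x * (q h)⁻¹ * (q h * q u * (q h)⁻¹) * (q h * q x * (q h)⁻¹)⁻¹
            = q h * (q x * q u * (q x)⁻¹) * (q h)⁻¹ := by group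
          _ = _ := by rw [hqxu]; simp only [q]; group
      exact mul_left_cancel (h2.symm.trans h1)
    have hZn : ∀ k ∈ Q, ∀ y ∈ Z, cj k y ∈ Z := by
      have hZS : Z ≤ S := fun y hy => hQS (hZ.1 hy).1
      have hz' : ∀ k ∈ Q, q (cj k z) = q z → ∀ y ∈ Z, cj k y ∈ Z := by
        intro k hk e y hy
        obtain ⟨hyQ, hy'⟩ := hZ.1 hy
        obtain ⟨i, hi⟩ := Subgroup.mem_zpowers_iff.1 hy'
        refine hZ.2 ⟨Q.mul_mem (Q.mul_mem hk hyQ) (Q.inv_mem hk), ?_⟩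
        show cls M Q (cj k y) ∈ _
        rw [cls_cj hk hyQ]
        change q k * q y * (q k)⁻¹ ∈ _
        have e' : q k * q z * (q k)⁻¹ = q z := (cls_cj hk (hNQ (hTN hzT))).symm.trans e
        rw [← hi, ← conj_zpow, e']
        exact ⟨i, rfl⟩
      have hle : Q ≤ Subgroup.normalizer (Z : Set Ω) := by
        refine sup_le (fun n hn => mem_normalizer_of_cj_le hZS (hz' n (hNQ hn) ?_))
          (Subgroup.zpowers_le.2 (mem_normalizer_of_cj_le hZS (hz' h hhQ hqhz)))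
        show cls M Q _ = _
        rw [cls_cj (hNQ hn) (hNQ (hTN hzT))]
        show q n * q z * (q n)⁻¹ = q z
        rw [← (hqc z hzT n hn).eq, mul_inv_cancel_right]
      exact fun k hk y hy => cj_mem_of_normalizer (hle hk) hy
    haveI := normal_subgroupOf hZn
    have hZTle : Z ≤ T := by
      intro y hy
      obtain ⟨hyQ, hy'⟩ := hZ.1 hy
      obtain ⟨i, hi⟩ := Subgroup.mem_zpowers_iff.1 hy'
      have h1 : cls M Q (z ^ i) = cls M Q y := by
        rw [cls_zpow (hNQ (hTN hzT))]; exact hi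
      have h2 := T.mul_mem (T.zpow_mem hzT i) (hMT ((cls_eq (hNQ (hTN (T.zpow_mem hzT i))) hyQ).1 h1))
      rwa [mul_inv_cancel_left] at h2
    have hrZ : r ∉ Z := by
      intro hrZ
      obtain ⟨i, hi⟩ := Subgroup.mem_zpowers_iff.1 (hZ.1 hrZ).2
      obtain ⟨n, hn⟩ := exists_nat_pow (hqp z (hTN hzT)) i
      rw [hn] at hi
      have h1 : (z ^ n)⁻¹ * r ∈ M :=
        (cls_eq (hNQ (pow_mem (hTN hzT) n)) (hNQ (hTN hrT))).1
          ((cls_pow (hNQ (hTN hzT)) n).trans hi)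
      have h2 : z ^ n ∈ R := by
        have := R.mul_mem hr (R.inv_mem (ht.MR h1))
        simpa using this
      obtain ⟨c', rfl⟩ := ht.indep n h2
      have h3 := M.mul_mem (show z ^ (p * c') ∈ M by rw [pow_mul]; exact M.pow_mem (hpow z ht.zE) c') h1
      rw [mul_inv_cancel_left] at h3
      exact hrM h3
    have hlt' : Z < T := lt_of_le_not_ge hZTle fun e => hrZ (e hrT)
    have hcard : Nat.card T ≤ p * Nat.card Z := by
      haveI := finite_of_le (hTN.trans inf_le_left : T ≤ S)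
      haveI : (Z.subgroupOf T).Normal := normal_subgroupOf fun k hk y hy =>
        hZn k (hNQ (hTN hk)) y hy
      have hsurj : Function.Surjective fun i : ZMod p =>
          (QuotientGroup.mk ((⟨r, hrT⟩ : T) ^ i.val) : T ⧸ Z.subgroupOf T) := by
        intro y
        obtain ⟨⟨t', ht''⟩, rfl⟩ := QuotientGroup.mk_surjective y
        obtain ⟨j, l, e⟩ := hTZ t' ht''
        refine ⟨(l : ZMod p), QuotientGroup.eq.2 ?_⟩
        rw [Subgroup.mem_subgroupOf, Subgroup.coe_mul, Subgroup.coe_inv, SubgroupClass.coe_pow]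
        show (r ^ (l : ZMod p).val)⁻¹ * t' ∈ Z
        have hrQ := hNQ (hTN hrT)
        refine hZ.2 ⟨Q.mul_mem (Q.inv_mem (Q.pow_mem hrQ _)) (hNQ (hTN ht'')), ?_⟩
        show cls M Q _ ∈ _
        rw [cls_mul (Q.inv_mem (Q.pow_mem hrQ _)) (hNQ (hTN ht'')), cls_inv (Q.pow_mem hrQ _),
          cls_pow hrQ]
        change (q r ^ (l : ZMod p).val)⁻¹ * q t' ∈ _
        rw [e, ((hqc z hzT r (hTN hrT)).pow_pow j l).eq, ← mul_assoc,
          pow_congr (p := p) (hqp r (hTN hrT)) (n := (l : ZMod p).val) (m := l) (by simp),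
          inv_mul_cancel, one_mul]
        exact pow_mem (Subgroup.mem_zpowers _) j
      have h1 := Nat.card_le_card_of_surjective _ hsurj
      rw [Nat.card_zmod] at h1
      rw [(Z.subgroupOf T).card_eq_card_quotient_mul_card_subgroup,
        Nat.card_congr (Subgroup.subgroupOfEquivOfLe hZTle).toEquiv]
      exact Nat.mul_le_mul_right _ h1
    have hc := le_antisymm hcard (mul_card_le_of_lt hx.hS (hTN.trans inf_le_left) hlt')
    have hc' : Nat.card (T.subgroupOf Q) = Nat.card (Z.subgroupOf Q) * p := by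
      rw [Nat.card_congr (Subgroup.subgroupOfEquivOfLe (hTN.trans hNQ)).toEquiv,
        Nat.card_congr (Subgroup.subgroupOfEquivOfLe ((hZTle.trans hTN).trans hNQ)).toEquiv, hc,
        mul_comm]
    exact PGroupsCritical.commutator_mem_of_succ (p := p) hQp (A := Z.subgroupOf Q)
      (fun y hy => hZTle hy) hc'
      (show (⟨t, hNQ (hTN ht')⟩ : Q) ∈ T.subgroupOf Q from ht') (⟨h, hhQ⟩ : Q)
  have hQH : autInducedBy Q (normalizerIn S E) ≤ H₀ := by
    intro α hα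
    obtain ⟨g, hg', -, hge⟩ := mem_autInducedBy.1 hα
    have key : ∀ g, ∀ hgQ : g ∈ Q, ∀ hgn : g ∈ Subgroup.normalizer (normalizerIn S E : Set Ω),
        (∀ y ∈ normalizerIn S E, y⁻¹ * cj g y ∈ L) → (∀ y ∈ L, y⁻¹ * cj g y ∈ T) →
        (∀ y ∈ T, y⁻¹ * cj g y ∈ Z ⊓ T) → nHom Q (normalizerIn S E) ⟨g, hgQ, hgn⟩ ∈ H₀ := by
      intro g hgQ hgn k3 k4 k5
      refine ⟨autInducedBy_le inf_le_left (hγQ ((autInducedBy_eq_range _ _).ge ⟨_, rfl⟩)),
        fun y hy => ?_, fun y hy => ?_, fun y hy => ?_, fun y hy => ?_⟩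
      · rw [afun_nHom _ (hx.leN (hg.le hy))]; exact hg.normQ hx g hgQ y hy
      · rw [afun_nHom _ hy]; exact k3 y hy
      · rw [afun_nHom _ (hLN hy)]; exact k4 y hy
      · rw [afun_nHom _ (hTN hy)]; exact k5 y hy
    have hgn : Q ≤ Subgroup.normalizer (normalizerIn S E : Set Ω) :=
      sup_le Subgroup.le_normalizer (Subgroup.zpowers_le.2 hx.norm)
    let Kg : Subgroup Q := Subgroup.comap
      ((nHom Q (normalizerIn S E)).comp (Subgroup.inclusion (le_inf le_rfl hgn))) H₀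
    have hK : ∀ y (hy : y ∈ Q), (⟨y, hy⟩ : Q) ∈ Kg := by
      have hle : Q ≤ Kg.map Q.subtype := by
        refine sup_le (fun n hn => ⟨⟨n, hNQ hn⟩, ?_, rfl⟩)
          (Subgroup.zpowers_le.2 ⟨⟨h, hhQ⟩, ?_, rfl⟩)
        · refine key n (hNQ hn) (hgn (hNQ hn)) (fun y hy => ?_) (fun y hy => ?_) (fun y hy => ?_)
          · -- commutators of `N_S(E)` lie in `L`
            have hd2 : ∀ w ∈ normalizerIn S E, π y * π w = π w * π y := by
              intro w hw
              obtain ⟨i, j, e⟩ := hdec y hy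
              obtain ⟨i', j', e'⟩ := hdec w hw
              rw [e, e']
              exact (((Commute.refl U).pow_pow i i').mul_right (hUX.pow_pow i j')).mul_left
                ((hUX.symm.pow_pow j i').mul_right ((Commute.refl X).pow_pow j j')) |>.eq
            refine hTL ((cls_eq (hNQ hy) (hNQ (mul_mem (mul_mem hn hy) (inv_mem hn)))).1 ?_)
            show cls T Q y = cls T Q (cj n y)
            rw [cls_cj (hNQ hn) (hNQ hy)]
            show π y = π n * π y * (π n)⁻¹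
            rw [← hd2 n hn, mul_inv_cancel_right]
          · refine (cls_eq (hNQ (hLN hy)) (hNQ (mul_mem (mul_mem hn (hLN hy)) (inv_mem hn)))).1 ?_
            show cls T Q y = cls T Q (cj n y)
            rw [cls_cj (hNQ hn) (hNQ (hLN hy))]
            show π y = π n * π y * (π n)⁻¹
            obtain ⟨i, j, e⟩ := hdec y (hLN hy)
            obtain ⟨i', j', e'⟩ := hdec n hn
            rw [e, e', ← ((((Commute.refl U).pow_pow i i').mul_right (hUX.pow_pow i j')).mul_left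
              ((hUX.symm.pow_pow j i').mul_right ((Commute.refl X).pow_pow j j'))).eq,
              mul_inv_cancel_right]
          · have h1 : y⁻¹ * cj n y ∈ M := by
              rw [inv_mul_cj]
              exact hTc (T.inv_mem hy) n hn
            exact ⟨hZ.2 ⟨hNQ (hTN (hMT h1)), by
              rw [show q _ = 1 from (cls_eq_one (hNQ (hTN (hMT h1)))).2 h1]; exact one_mem _⟩,
              hMT h1⟩
        · refine key h hhQ (hgn hhQ) (fun y hy => ?_) (fun y hy => ?_) (fun y hy => ?_)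
          · have := hLconj y⁻¹ (Q.inv_mem (hNQ hy)) _ (hNh y hy)
            simpa [cj_apply, commutatorElement_def, mul_assoc] using this
          · have := hTQ y⁻¹ (Q.inv_mem (hNQ (hLN hy))) _ (hLh y hy)
            simpa [cj_apply, commutatorElement_def, mul_assoc] using this
          · have hd := hZT y hy
            have hc1 := hqc _ hd.2 y (hTN hy)
            have hyQ := hNQ (hTN hy)
            refine ⟨hZ.2 ⟨Q.mul_mem (Q.inv_mem hyQ) (Q.mul_mem (Q.mul_mem hhQ hyQ) (Q.inv_mem hhQ)), ?_⟩,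
              T.mul_mem (T.inv_mem hy) (hTQ h hhQ y hy)⟩
            have e : y⁻¹ * cj h y = y⁻¹ * ⁅h, y⁆ * y := by
              simp only [cj_apply, commutatorElement_def]; group
            rw [e]
            show cls M Q _ ∈ _
            rw [cls_mul (Q.mul_mem (Q.inv_mem hyQ) (hNQ (hTN hd.2))) hyQ,
              cls_mul (Q.inv_mem hyQ) (hNQ (hTN hd.2)), cls_inv hyQ]
            change (q y)⁻¹ * q ⁅h, y⁆ * q y ∈ _
            rw [mul_assoc, hc1.eq, inv_mul_cancel_left]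
            exact (hZ.1 hd.1).2
      intro y hy
      obtain ⟨⟨w, hw⟩, hw', rfl⟩ := hle hy
      exact hw'
    have hα' : α = nHom Q (normalizerIn S E) ⟨g, hg', hgn hg'⟩ :=
      afun_ext fun y hy => by rw [hge y hy, afun_nHom _ hy]
    rw [hα']
    exact hK g hg'
  have hγH : γ ∈ H₀ := hQH hγmem
  -- a Sylow subgroup normalised by a torus fixing `E`
  obtain ⟨P₀, hP₀⟩ := ((isPGroup_autInducedBy hx.hS (normalizerIn S E)).to_le hγQ).of_equiv
    (Subgroup.subgroupOfEquivOfLe hQH).symm |>.exists_le_sylow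
  set P := (P₀ : Subgroup H₀).map H₀.subtype with hPdef
  have hPH : P ≤ H₀ := Subgroup.map_subtype_le _
  have hPp : IsPGroup p P := P₀.2.map _
  have hPQ : autInducedBy Q (normalizerIn S E) ≤ P := fun α hα =>
    ⟨⟨α, hQH hα⟩, hP₀ hα, rfl⟩
  have hPsyl : SylIn p P H₀ :=
    ⟨P₀, (Subgroup.comap_map_eq_self_of_injective H₀.subtype_injective _).symm⟩
  obtain ⟨κ, hκ, hκP⟩ := sylIn_absorb hPsyl (hPp.map (MulAut.conj f).toMonoidHom)
    (show P.map (MulAut.conj f).toMonoidHom ≤ H₀ by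
      rintro _ ⟨α, hα, rfl⟩
      exact hfH α (hPH hα))
  have hκL : ∀ y ∈ L, afun κ y ∈ L := fun y hy => by
    have := L.mul_mem hy (hTL (hκ.2.2.2.1 y hy))
    rwa [mul_inv_cancel_left] at this
  obtain ⟨c₁, hκu⟩ : ∃ c₁ : ℕ, π (afun κ (afun f u)) = U ^ s.val * X ^ c₁ := by
    have hfuN := afun_mem f huN
    have h1 := hκ.2.2.1 _ hfuN
    obtain ⟨i, j, e⟩ := hdec _ (hLN h1)
    have hi := ((hmemE _ (hLN h1) i j e).2).1 h1
    refine ⟨j, ?_⟩
    have e2 : π (afun κ (afun f u)) = π (afun f u) * π ((afun f u)⁻¹ * afun κ (afun f u)) := by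
      show cls T Q _ = cls T Q _ * cls T Q _
      rw [← cls_mul (hNQ hfuN) (hNQ (hLN h1)), mul_inv_cancel_left]
    obtain ⟨c', rfl⟩ := hi
    rw [e2, hfu, e, pow_mul, hπp u huN, one_pow, one_mul]
  set ii := (-((c₁ : ZMod p) / (s * ee))).val
  set f' := γ ^ ii * κ * f with hf'def
  have hH' : γ ^ ii * κ ∈ H₀ := H₀.mul_mem (H₀.pow_mem hγH ii) hκ
  have hf' : f' ∈ F.autGroup (normalizerIn S E) := mul_mem hH'.1 hf
  have hf'P : ∀ α ∈ P, f' * α * f'⁻¹ ∈ P := fun α hα => by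
    have h1 := hκP _ ⟨α, hα, rfl⟩
    have h2 : γ ∈ P := hPQ hγmem
    have := P.mul_mem (P.mul_mem (P.pow_mem h2 ii) h1) (P.inv_mem (P.pow_mem h2 ii))
    simp only [MulEquiv.coe_toMonoidHom, MulAut.conj_apply] at this
    rwa [show f' * α * f'⁻¹ = γ ^ ii * (κ * (f * α * f⁻¹) * κ⁻¹) * (γ ^ ii)⁻¹ by
      simp only [hf'def]; group]
  have hf'e : ∀ y ∈ normalizerIn S E, afun f' y = afun (γ ^ ii * κ) (afun f y) := fun y hy =>
    afun_mul _ _ hy
  have hγpow : ∀ (n : ℕ) (y : Ω) (hy : y ∈ normalizerIn S E) (i j : ℕ), π y = U ^ i * X ^ j →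
      π (afun (γ ^ n) y) = U ^ i * X ^ (n * (i * ee) + j) := by
    intro n
    induction n with
    | zero => intro y hy i j e; rw [pow_zero, afun_one hy, zero_mul, zero_add]; exact e
    | succ n ih =>
      intro y hy i j e
      rw [pow_succ, afun_mul _ _ hy, hγe y hy,
        ih _ (hx.cjh_memN hy) i (i * ee + j) (hπh y hy i j e), Nat.succ_mul, add_assoc]
  have hf'u : π (afun f' u) = U ^ s.val := by
    rw [hf'e u huN, afun_mul _ _ (afun_mem f huN),
      hγpow ii _ (afun_mem κ (afun_mem f huN)) s.val c₁ hκu]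
    have e : X ^ (ii * (s.val * ee) + c₁) = X ^ 0 := by
      refine hmodp (hπp x hxNm) ?_
      push_cast
      rw [ZMod.natCast_zmod_val, ZMod.natCast_zmod_val]
      field_simp
      ring
    rw [e, pow_zero, mul_one]
  have hH'T : ∀ y ∈ T, afun (γ ^ ii * κ) y ∈ T := fun y hy => by
    have := T.mul_mem hy (hH'.2.2.2.2 y hy).2
    rwa [mul_inv_cancel_left] at this
  have hf'M : ∀ y ∈ M, afun f' y ∈ M := fun y hy => by
    rw [hf'e y (hx.leN (hg.le hy))]; exact hH'.2.1 _ (hfM y hy)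
  have hf'T : ∀ y ∈ T, afun f' y ∈ T := fun y hy => by
    rw [hf'e y (hTN hy)]; exact hH'T _ (hfT y hy)
  have hf'x : π (afun f' x) = X ^ ν := by
    have hfxL := hfL x hxL
    have h1 := hH'.2.2.2.1 _ hfxL
    have e2 : π (afun f' x) = π (afun f x) := by
      rw [hf'e x hxNm]
      exact ((cls_eq (hNQ (hLN hfxL)) (hNQ (afun_mem _ (hLN hfxL)))).2 h1).symm
    have ha := ((hmemE _ (hLN hfxL) a₁ ν hfx').2).1 hfxL
    obtain ⟨c', rfl⟩ := ha
    rw [e2, hfx', pow_mul, hπp u huN, one_pow, one_mul]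
  have hπf' : ∀ y ∈ normalizerIn S E, ∀ i j : ℕ, π y = U ^ i * X ^ j →
      π (afun f' y) = U ^ (s.val * i) * X ^ (ν * j) := by
    intro y hy i j e
    have hm := mul_mem (pow_mem huN i) (pow_mem hxNm j)
    have h1 : (u ^ i * x ^ j)⁻¹ * y ∈ T := by
      refine (cls_eq (hNQ hm) (hNQ hy)).1 ?_
      show cls T Q _ = π y
      rw [cls_mul (hNQ (pow_mem huN i)) (hNQ (pow_mem hxNm j)), cls_pow (hNQ huN),
        cls_pow (hNQ hxNm), e]
    have h2 := hf'T _ h1
    have e3 : afun f' y = afun f' u ^ i * afun f' x ^ j * afun f' ((u ^ i * x ^ j)⁻¹ * y) := by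
      rw [← zpow_natCast (afun f' u), ← zpow_natCast (afun f' x), ← Rank3.afun_zpow f' huN,
        ← Rank3.afun_zpow f' hxNm, ← afun_map_mul f' (zpow_mem huN _) (zpow_mem hxNm _),
        zpow_natCast, zpow_natCast, ← afun_map_mul f' hm (mul_mem (inv_mem hm) hy),
        mul_inv_cancel_left]
    have hfu' := hNQ (afun_mem f' huN)
    have hfx'' := hNQ (afun_mem f' hxNm)
    show cls T Q _ = _
    rw [e3, cls_mul (Q.mul_mem (Q.pow_mem hfu' i) (Q.pow_mem hfx'' j)) (hNQ (hTN h2)),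
      cls_mul (Q.pow_mem hfu' i) (Q.pow_mem hfx'' j), cls_pow hfu', cls_pow hfx'',
      (cls_eq_one (hNQ (hTN h2))).2 h2, mul_one]
    show π (afun f' u) ^ i * π (afun f' x) ^ j = _
    rw [hf'u, hf'x, ← pow_mul, ← pow_mul]
  set m := ((s⁻¹) ^ 3).val with hmdef
  have hm : (m : ZMod p) = (s⁻¹) ^ 3 := ZMod.natCast_zmod_val _
  obtain ⟨Φ, hΦ, hΦQ, hΦN, w₀, hw₀, hΦh⟩ := hx.extend_big hPp (fun α hα => (hPH hα).1) hPQ hf' hf'P
    (m := m) (fun n hn hnE => by
      obtain ⟨i, j, e⟩ := hdec n hn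
      have e1 := hπf' n hn i j e
      have hj : p ∣ ν * j := ((hmemE _ (afun_mem f' hn) _ _ e1).1).1 hnE
      have e2 := hπf' _ (hx.cjh_memN hn) i (i * ee + j) (hπh n hn i j e)
      set w := afun f' (cj h n)
      have hw := afun_mem f' (hx.cjh_memN hn)
      have hh' : (h ^ m)⁻¹ ∈ Q := Q.inv_mem (Q.pow_mem hhQ m)
      have hwN : cj (h ^ m)⁻¹ w ∈ normalizerIn S E := hNn _ hh' w hw
      obtain ⟨i', j', e3⟩ := hdec _ hwN
      have hγm : ∀ (m : ℕ) (y : Ω), y ∈ normalizerIn S E → afun (γ ^ m) y = cj (h ^ m) y := by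
        intro m
        induction m with
        | zero => intro y hy; rw [pow_zero, pow_zero, afun_one hy, cj_one]
        | succ m ih =>
          intro y hy
          rw [pow_succ, afun_mul _ _ hy, hγe y hy, ih _ (hx.cjh_memN hy), cj_cj, ← pow_succ]
      have e4 := hγpow m _ hwN i' j' e3
      rw [hγm m _ hwN, cj_cj_inv, e2] at e4
      have e5 : U ^ (s.val * i + (p - 1) * i') *
          X ^ (ν * (i * ee + j) + (p - 1) * (m * (i' * ee) + j')) = 1 := by
        have eU : ∀ k : ℕ, U ^ k * U ^ ((p - 1) * k) = 1 := fun k => by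
          rw [← pow_add, show k + (p - 1) * k = p * k by
            nth_rewrite 2 [← Nat.sub_add_cancel (Fact.out : p.Prime).one_le]; ring, pow_mul,
            hπp u huN, one_pow]
        have eX : ∀ k : ℕ, X ^ k * X ^ ((p - 1) * k) = 1 := fun k => by
          rw [← pow_add, show k + (p - 1) * k = p * k by
            nth_rewrite 2 [← Nat.sub_add_cancel (Fact.out : p.Prime).one_le]; ring, pow_mul,
            hπp x hxNm, one_pow]
        calc U ^ (s.val * i + (p - 1) * i') *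
              X ^ (ν * (i * ee + j) + (p - 1) * (m * (i' * ee) + j'))
            = (U ^ (s.val * i) * X ^ (ν * (i * ee + j))) *
                (U ^ ((p - 1) * i') * X ^ ((p - 1) * (m * (i' * ee) + j'))) := by
              rw [pow_add, pow_add, mul_assoc, ← mul_assoc (U ^ ((p - 1) * i')),
                (hUX.pow_pow ((p - 1) * i') (ν * (i * ee + j))).eq]
              group
          _ = (U ^ i' * X ^ (m * (i' * ee) + j')) *
                (U ^ ((p - 1) * i') * X ^ ((p - 1) * (m * (i' * ee) + j'))) := by rw [e4]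
          _ = (U ^ i' * U ^ ((p - 1) * i')) *
                (X ^ (m * (i' * ee) + j') * X ^ ((p - 1) * (m * (i' * ee) + j'))) :=
              (hUX.pow_pow ((p - 1) * i') (m * (i' * ee) + j')).symm.mul_mul_mul_comm _ _
          _ = 1 := by rw [eU, eX, one_mul]
      obtain ⟨hu', hx'⟩ := hind _ _ e5
      refine ((hmemE _ hwN i' j' e3).1).2 ?_
      rw [← CharP.cast_eq_zero_iff (ZMod p) p] at hu' hx' hj ⊢
      push_cast [Nat.cast_sub (Fact.out : p.Prime).one_le] at hu' hx' hj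
      rw [ZMod.natCast_self] at hu' hx'
      rw [hν, hm] at hx'
      rw [hν] at hj
      rw [ZMod.natCast_zmod_val] at hu'
      have hj0 : (j : ZMod p) = 0 :=
        (mul_eq_zero.1 hj).resolve_left (mul_ne_zero (inv_ne_zero hs0) (inv_ne_zero hs0))
      have hi' : (i' : ZMod p) = s * i := by linear_combination -hu'
      rw [hi', hj0] at hx'
      have : (s⁻¹) ^ 3 * (s * (i : ZMod p) * ee) = s⁻¹ * s⁻¹ * ((i : ZMod p) * ee) := by
        field_simp
      linear_combination -hx' - this)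
  -- eigenvectors modulo `M`
  have hzf' : q (afun f' z) = q z ^ (s⁻¹).val := by
    have hfzN := afun_mem f (hTN hzT)
    rw [hf'e z (hTN hzT)]
    rw [hcq _ hH'.2.1 _ hfzN _ (pow_mem (hTN hzT) (s⁻¹).val)
      (hfz.trans (cls_pow (hNQ (hTN hzT)) _).symm), hqz]
    show cls M Q _ = _
    rw [cls_pow (hNQ (afun_mem _ (hTN hzT)))]
    exact congrArg (· ^ (s⁻¹).val) (hH₀z _ hH')
  obtain ⟨cr, hrf'⟩ : ∃ cr : ℕ, q (afun f' r) = q r * q z ^ cr := by
    have hfr : q (afun f r) = q r := by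
      show cls M Q _ = cls M Q r
      rw [hfE r (ht.RE hr), eq_comm, cls_eq (hNQ (hTN hrT)) (hNQ (hx.leN (afun_mem τ (ht.RE hr))))]
      exact hτR r hr
    have h1 := hH'.2.2.2.2 r hrT
    obtain ⟨i, hi⟩ := Subgroup.mem_zpowers_iff.1 (hZ.1 h1.1).2
    obtain ⟨n, hn⟩ := exists_nat_pow (hqp z (hTN hzT)) i
    rw [hn] at hi
    refine ⟨n, ?_⟩
    have e2 : q (afun f' r) = q (afun (γ ^ ii * κ) r) := by
      rw [hf'e r (hTN hrT)]
      exact hcq _ hH'.2.1 _ (afun_mem f (hTN hrT)) _ (hTN hrT) hfr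
    rw [e2, hi]
    show cls M Q _ = cls M Q r * cls M Q _
    rw [← cls_mul (hNQ (hTN hrT)) (hNQ (hTN h1.2)), mul_inv_cancel_left]
  set ρe := ((cr : ZMod p) / (1 - s⁻¹)).val with hρe
  have h1s : (1 : ZMod p) - s⁻¹ ≠ 0 := fun e => hs2 (by
    have e' : s⁻¹ = 1 := by linear_combination -e
    rw [inv_eq_one.1 e', one_pow])
  set r₁ := r * z ^ ρe with hr₁
  have hr₁T : r₁ ∈ T := T.mul_mem hrT (T.pow_mem hzT _)
  have hqr₁ : q r₁ = q r * q z ^ ρe := by
    show cls M Q _ = _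
    rw [cls_mul (hNQ (hTN hrT)) (hNQ (pow_mem (hTN hzT) _)), cls_pow (hNQ (hTN hzT))]
  have hr₁f' : q (afun f' r₁) = q r₁ := by
    have e1 : afun f' r₁ = afun f' r * afun f' z ^ ρe := by
      rw [afun_map_mul f' (hTN hrT) (pow_mem (hTN hzT) _), hqz]
    show cls M Q _ = _
    rw [e1, cls_mul (hNQ (afun_mem f' (hTN hrT))) (hNQ (pow_mem (afun_mem f' (hTN hzT)) _)),
      cls_pow (hNQ (afun_mem f' (hTN hzT)))]
    show q (afun f' r) * q (afun f' z) ^ ρe = _
    rw [hrf', hzf', hqr₁, mul_assoc, ← pow_mul, ← pow_add]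
    refine congrArg (q r * ·) (pow_congr (hqp z (hTN hzT)) ?_)
    push_cast
    rw [hρe, ZMod.natCast_zmod_val, ZMod.natCast_zmod_val]
    linear_combination -(div_mul_cancel₀ (cr : ZMod p) h1s)
  obtain ⟨ua, ud, huf'⟩ : ∃ ua ud : ℕ, q (afun f' u) = q u ^ s.val * (q z ^ ua * q r₁ ^ ud) := by
    have hfuN := afun_mem f' huN
    have h1 : (u ^ s.val)⁻¹ * afun f' u ∈ T := by
      refine (cls_eq (hNQ (pow_mem huN _)) (hNQ hfuN)).1 ?_
      show cls T Q _ = π _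
      rw [cls_pow (hNQ huN), hf'u]
    obtain ⟨j, l, e⟩ := hTZ _ h1
    refine ⟨(((j : ZMod p) - l * ρe)).val, l, ?_⟩
    have e2 : q (afun f' u) = q u ^ s.val * q ((u ^ s.val)⁻¹ * afun f' u) := by
      show cls M Q _ = cls M Q u ^ _ * cls M Q _
      rw [← cls_pow (hNQ huN), ← cls_mul (hNQ (pow_mem huN _)) (hNQ (hTN h1)), mul_inv_cancel_left]
    rw [e2, e, hqr₁, (((hqc r hrT z (hTN hzT)).pow_right ρe)).mul_pow, ← pow_mul,
      ← ((hqc z hzT r (hTN hrT)).pow_pow (ρe * l) l).eq, ← mul_assoc (q z ^ _), ← pow_add]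
    refine congrArg (q u ^ s.val * ·) (congrArg (· * q r ^ l) (pow_congr (hqp z (hTN hzT)) ?_))
    push_cast
    rw [ZMod.natCast_zmod_val]
    ring
  set uα := ((ua : ZMod p) / (s - s⁻¹)).val with huα
  set uδ := ((ud : ZMod p) / (s - 1)).val with huδ
  have hss : s - s⁻¹ ≠ 0 := fun e => hs2 (by
    have e' : s⁻¹ = s := by linear_combination -e
    calc s ^ 2 = s * s⁻¹ := by rw [e', sq]
      _ = 1 := mul_inv_cancel₀ hs0)
  have hs1 : s - 1 ≠ 0 := fun e => hs2 (by rw [sub_eq_zero.1 e, one_pow])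
  set u₁ := u * (z ^ uα * r₁ ^ uδ) with hu₁
  have hzrT : z ^ uα * r₁ ^ uδ ∈ T := T.mul_mem (T.pow_mem hzT _) (T.pow_mem hr₁T _)
  have hu₁N : u₁ ∈ normalizerIn S E := mul_mem huN (hTN hzrT)
  have hqu₁ : q u₁ = q u * (q z ^ uα * q r₁ ^ uδ) := by
    show cls M Q _ = _
    rw [cls_mul (hNQ huN) (hNQ (hTN hzrT)),
      cls_mul (hNQ (pow_mem (hTN hzT) _)) (hNQ (pow_mem (hTN hr₁T) _)),
      cls_pow (hNQ (hTN hzT)), cls_pow (hNQ (hTN hr₁T))]
  have hu₁f' : q (afun f' u₁) = q u₁ ^ s.val := by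
    have e1 : afun f' u₁ = afun f' u * (afun f' z ^ uα * afun f' r₁ ^ uδ) := by
      rw [afun_map_mul f' huN (hTN hzrT),
        afun_map_mul f' (pow_mem (hTN hzT) _) (pow_mem (hTN hr₁T) _), hqz,
        ← zpow_natCast r₁, Rank3.afun_zpow f' (hTN hr₁T), zpow_natCast]
    have hz' := hNQ (pow_mem (afun_mem f' (hTN hzT)) uα)
    have hr' := hNQ (pow_mem (afun_mem f' (hTN hr₁T)) uδ)
    show cls M Q _ = _
    rw [e1, cls_mul (hNQ (afun_mem f' huN)) (Q.mul_mem hz' hr'), cls_mul hz' hr',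
      cls_pow (hNQ (afun_mem f' (hTN hzT))), cls_pow (hNQ (afun_mem f' (hTN hr₁T)))]
    show q (afun f' u) * (q (afun f' z) ^ uα * q (afun f' r₁) ^ uδ) = _
    have hcz : Commute (q z) (q r₁) := hqc z hzT r₁ (hTN hr₁T)
    rw [huf', hzf', hr₁f', hqu₁,
      ((((hqc z hzT u huN).symm).pow_right uα).mul_right
        (((hqc r₁ hr₁T u huN).symm).pow_right uδ)).mul_pow,
      (hcz.pow_pow uα uδ).mul_pow, ← pow_mul, ← pow_mul, ← pow_mul, mul_assoc,
      (hcz.symm.pow_pow ud ((s⁻¹).val * uα)).mul_mul_mul_comm, ← pow_add, ← pow_add]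
    refine congrArg (q u ^ s.val * ·) (congrArg₂ (· * ·) (pow_congr (hqp z (hTN hzT)) ?_)
      (pow_congr (hqp r₁ (hTN hr₁T)) ?_))
    · push_cast
      rw [huα, ZMod.natCast_zmod_val, ZMod.natCast_zmod_val, ZMod.natCast_zmod_val]
      field_simp
      ring
    · push_cast
      rw [huδ, ZMod.natCast_zmod_val, ZMod.natCast_zmod_val]
      field_simp
      ring
  -- the map on `Q ⧸ M`
  have hΦM : ∀ y ∈ M, Φ y ∈ M := fun y hy => by
    rw [hΦN y (hx.leN (hg.le hy))]; exact hf'M y hy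
  let Φ₀ : Q →* Q :=
    { toFun := fun y => ⟨Φ y, hΦQ y y.2⟩
      map_one' := Subtype.ext hΦ.map_one
      map_mul' := fun a b => Subtype.ext (hΦ.map_mul a.2 b.2) }
  let ΦG : Q ⧸ M.subgroupOf Q →* Q ⧸ M.subgroupOf Q :=
    QuotientGroup.map _ _ Φ₀ fun y hy => hΦM y hy
  have hΦG : ∀ y ∈ normalizerIn S E, ΦG (q y) = q (afun f' y) := by
    intro y hy
    show ΦG (cls M Q y) = cls M Q _
    rw [cls_mk (hNQ hy), cls_mk (hNQ (afun_mem f' hy))]
    exact congrArg QuotientGroup.mk (Subtype.ext (hΦN y hy))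
  have hΦGh : ΦG (q h) = q h ^ m * q w₀ := by
    show ΦG (cls M Q h) = cls M Q h ^ m * cls M Q w₀
    rw [← cls_pow hhQ, ← cls_mul (Q.pow_mem hhQ m) (hNQ hw₀), cls_mk hhQ,
      cls_mk (Q.mul_mem (Q.pow_mem hhQ m) (hNQ hw₀))]
    exact congrArg QuotientGroup.mk (Subtype.ext hΦh)
  -- decompositions
  have hcz : Commute (q z) (q r₁) := hqc z hzT r₁ (hTN hr₁T)
  have hTdec : ∀ t ∈ T, ∃ j l : ℕ, q t = q z ^ j * q r₁ ^ l := by
    intro t ht'
    obtain ⟨j, l, e⟩ := hTZ t ht'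
    refine ⟨((j : ZMod p) - l * ρe).val, l, ?_⟩
    rw [e, hqr₁, (((hqc r hrT z (hTN hzT)).pow_right ρe)).mul_pow, ← pow_mul,
      ← ((hqc z hzT r (hTN hrT)).pow_pow (ρe * l) l).eq, ← mul_assoc (q z ^ _), ← pow_add]
    refine congrArg (· * q r ^ l) (pow_congr (hqp z (hTN hzT)) ?_)
    push_cast
    rw [ZMod.natCast_zmod_val]
    ring
  set A := Subgroup.closure ({q x, q z, q r₁} : Set (Q ⧸ M.subgroupOf Q)) with hAdef
  set Nq := Subgroup.closure ({q u₁, q x, q z, q r₁} : Set (Q ⧸ M.subgroupOf Q)) with hNqdef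
  have hTA : ∀ t ∈ T, q t ∈ A := fun t ht' => by
    obtain ⟨j, l, e⟩ := hTdec t ht'
    rw [e]
    exact A.mul_mem (A.pow_mem (Subgroup.subset_closure (by simp)) j)
      (A.pow_mem (Subgroup.subset_closure (by simp)) l)
  have hLA : ∀ y ∈ L, q y ∈ A := by
    intro y hy
    obtain ⟨i, j, e⟩ := hdec y (hLN hy)
    have hi := ((hmemE y (hLN hy) i j e).2).1 hy
    obtain ⟨c', rfl⟩ := hi
    rw [pow_mul, hπp u huN, one_pow, one_mul] at e
    have h1 : (x ^ j)⁻¹ * y ∈ T :=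
      (cls_eq (hNQ (pow_mem hxNm j)) (hNQ (hLN hy))).1 ((cls_pow (hNQ hxNm) j).trans e.symm)
    have e2 : q y = q x ^ j * q ((x ^ j)⁻¹ * y) := by
      show cls M Q _ = cls M Q x ^ _ * cls M Q _
      rw [← cls_pow (hNQ hxNm), ← cls_mul (hNQ (pow_mem hxNm j)) (hNQ (hTN h1)), mul_inv_cancel_left]
    rw [e2]
    exact A.mul_mem (A.pow_mem (Subgroup.subset_closure (by simp)) j) (hTA _ h1)
  have hu₁T : u⁻¹ * u₁ ∈ T := by rwa [hu₁, inv_mul_cancel_left]
  have hNdec : ∀ y ∈ normalizerIn S E, ∃ i j l c : ℕ,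
      q y = q u₁ ^ i * q x ^ j * q z ^ l * q r₁ ^ c := by
    intro y hy
    obtain ⟨i, j, e⟩ := hdec y hy
    have hm := mul_mem (pow_mem hu₁N i) (pow_mem hxNm j)
    have h1 : (u₁ ^ i * x ^ j)⁻¹ * y ∈ T := by
      refine (cls_eq (hNQ hm) (hNQ hy)).1 ?_
      show cls T Q _ = π y
      rw [cls_mul (hNQ (pow_mem hu₁N i)) (hNQ (pow_mem hxNm j)), cls_pow (hNQ hu₁N),
        cls_pow (hNQ hxNm), ← (cls_eq (hNQ huN) (hNQ hu₁N)).2 hu₁T, e]
    obtain ⟨l, c', e'⟩ := hTdec _ h1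
    refine ⟨i, j, l, c', ?_⟩
    have e2 : q y = q u₁ ^ i * q x ^ j * q ((u₁ ^ i * x ^ j)⁻¹ * y) := by
      show cls M Q _ = cls M Q u₁ ^ i * cls M Q x ^ j * cls M Q _
      rw [← cls_pow (hNQ hu₁N), ← cls_pow (hNQ hxNm),
        ← cls_mul (hNQ (pow_mem hu₁N i)) (hNQ (pow_mem hxNm j)),
        ← cls_mul (hNQ hm) (hNQ (hTN h1)), mul_inv_cancel_left]
    rw [e2, e', mul_assoc (q u₁ ^ i * q x ^ j) (q z ^ l)]
  have hNqN : ∀ g ∈ Nq, ∃ y ∈ normalizerIn S E, q y = g := by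
    intro g hg'
    induction hg' using Subgroup.closure_induction with
    | mem g hg' =>
      rcases hg' with rfl | rfl | rfl | rfl
      exacts [⟨_, hu₁N, rfl⟩, ⟨_, hxNm, rfl⟩, ⟨_, hTN hzT, rfl⟩, ⟨_, hTN hr₁T, rfl⟩]
    | one => exact ⟨1, one_mem _, (cls_eq_one Q.one_mem).2 M.one_mem⟩
    | mul a b _ _ iha ihb =>
      obtain ⟨ya, hya, rfl⟩ := iha
      obtain ⟨yb, hyb, rfl⟩ := ihb
      exact ⟨ya * yb, mul_mem hya hyb, cls_mul (hNQ hya) (hNQ hyb)⟩
    | inv a _ iha =>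
      obtain ⟨ya, hya, rfl⟩ := iha
      exact ⟨ya⁻¹, inv_mem hya, cls_inv (hNQ hya)⟩
  have hqzc : ∀ g, Commute (q z) g := by
    intro g
    obtain ⟨y, hy, rfl⟩ := cls_surj g
    have hle : Q ≤ ((Subgroup.centralizer {q z}).comap
        (QuotientGroup.mk' (M.subgroupOf Q))).map Q.subtype := by
      refine sup_le (fun n hn => ⟨⟨n, hNQ hn⟩, ?_, rfl⟩)
        (Subgroup.zpowers_le.2 ⟨⟨h, hhQ⟩, ?_, rfl⟩) <;>
        rw [SetLike.mem_coe, Subgroup.mem_comap, Subgroup.mem_centralizer_singleton_iff,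
          QuotientGroup.mk'_apply, ← cls_mk]
      · exact (hqc z hzT n hn).symm.eq
      · have h1 := (hZT z hzT)
        -- `h` fixes `z` modulo `M`
        have h2 : q (afun γ z) = q z := hH₀z γ hγH
        rw [hγe z (hTN hzT)] at h2
        have h3 : q h * q z * (q h)⁻¹ = q z := (cls_cj hhQ (hNQ (hTN hzT))).symm.trans h2
        exact mul_inv_eq_iff_eq_mul.1 h3
    obtain ⟨⟨w, hw⟩, hw', rfl⟩ := hle hy
    rw [SetLike.mem_coe, Subgroup.mem_comap, Subgroup.mem_centralizer_singleton_iff,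
      QuotientGroup.mk'_apply, ← cls_mk] at hw'
    exact hw'.symm
  have hu₁x : q x * q u₁ * (q x)⁻¹ = q u₁ * q z := by
    have e : ∀ t ∈ T, q x * q t * (q x)⁻¹ = q t := fun t ht' => by
      rw [← (hqc t ht' x hxNm).eq, mul_inv_cancel_right]
    have e1 : q u₁ = q u * q (z ^ uα * r₁ ^ uδ) := cls_mul (hNQ huN) (hNQ (hTN hzrT))
    calc q x * q u₁ * (q x)⁻¹
        = (q x * q u * (q x)⁻¹) * (q x * q (z ^ uα * r₁ ^ uδ) * (q x)⁻¹) := by rw [e1]; group
      _ = q u * (q z * q (z ^ uα * r₁ ^ uδ)) := by rw [hqxu, e _ hzrT, mul_assoc]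
      _ = q u * q (z ^ uα * r₁ ^ uδ) * q z := by rw [(hqzc _).eq, mul_assoc]
      _ = q u₁ * q z := by rw [e1]
  have hr₁c : ∀ y ∈ normalizerIn S E, Commute (q r₁) (q y) := hqc r₁ hr₁T
  obtain ⟨k₁, hhr⟩ : ∃ k₁ : ℕ, q h * q r₁ * (q h)⁻¹ = q r₁ * q z ^ k₁ := by
    have hd := hZT r₁ hr₁T
    obtain ⟨i, hi⟩ := Subgroup.mem_zpowers_iff.1 (hZ.1 hd.1).2
    obtain ⟨n, hn⟩ := exists_nat_pow (hqp z (hTN hzT)) i
    rw [hn] at hi
    refine ⟨n, ?_⟩
    have e : cj h r₁ = ⁅h, r₁⁆ * r₁ := by simp only [cj_apply, commutatorElement_def]; group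
    refine (cls_cj hhQ (hNQ (hTN hr₁T))).symm.trans ?_
    rw [e, cls_mul (hNQ (hTN hd.2)) (hNQ (hTN hr₁T))]
    show q ⁅h, r₁⁆ * q r₁ = _
    rw [← hi, ((hqzc _).pow_left n).eq]
  obtain ⟨a₂, b₂, hhx⟩ : ∃ a₂ b₂ : ℕ,
      q h * q x * (q h)⁻¹ = q x * q z ^ a₂ * q r₁ ^ b₂ := by
    have hd := hLh x hxL
    obtain ⟨j, l, e⟩ := hTdec _ hd
    refine ⟨j, l, ?_⟩
    have e' : cj h x = ⁅h, x⁆ * x := by simp only [cj_apply, commutatorElement_def]; group
    refine (cls_cj hhQ (hNQ hxNm)).symm.trans ?_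
    rw [e', cls_mul (hNQ (hTN hd)) (hNQ hxNm)]
    show q ⁅h, x⁆ * q x = _
    rw [(hqc _ hd x hxNm).eq, e, ← mul_assoc]
  have hhu : ∃ y ∈ A, q h * q u₁ * (q h)⁻¹ = q u₁ * y := by
    have h1 : u₁⁻¹ * cj h u₁ ∈ L := by
      have := hLconj u₁⁻¹ (Q.inv_mem (hNQ hu₁N)) _ (hNh u₁ hu₁N)
      simpa [cj_apply, commutatorElement_def, mul_assoc] using this
    refine ⟨_, hLA _ h1, ?_⟩
    refine (cls_cj hhQ (hNQ hu₁N)).symm.trans ?_
    show cls M Q _ = cls M Q u₁ * cls M Q _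
    rw [← cls_mul (hNQ hu₁N) (hNQ (hLN h1)), mul_inv_cancel_left]
  refine weights_contra (p := p) hx.hp (h := q h) (u := q u₁) (x := q x) (z := q z) (r := q r₁) ΦG
    hs0 hs2 hs3 hs5 (hqp u₁ hu₁N) (hqp x hxNm) (hqp z (hTN hzT)) (hqp r₁ (hTN hr₁T)) hqzc
    (hr₁c u₁ hu₁N) (hr₁c x hxNm) hu₁x hhr hhx hhu ?_ ?_ ?_
    (by rw [hΦG z (hTN hzT), hzf']) (by rw [hΦG r₁ (hTN hr₁T), hr₁f'])
    (by rw [hΦG u₁ hu₁N, hu₁f']) ?_ ?_ ?_
  · obtain ⟨i, j, l, c', e⟩ := hNdec _ hx.pow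
    exact ⟨i, j, l, c', (cls_pow hhQ p).symm.trans e⟩
  · intro hh
    obtain ⟨y, hy, e⟩ := hNqN _ hh
    have h1 := hx.leN (hg.le ((cls_eq (hNQ hy) hhQ).1 e))
    refine hx.notMem ?_
    have := mul_mem hy h1
    rwa [mul_inv_cancel_left] at this
  · intro i j l c' e
    have e1 : U ^ i * X ^ j = 1 := by
      have hm := mul_mem (mul_mem (mul_mem (pow_mem hu₁N i) (pow_mem hxNm j))
        (pow_mem (hTN hzT) l)) (pow_mem (hTN hr₁T) c')
      have h1 : u₁ ^ i * x ^ j * z ^ l * r₁ ^ c' ∈ M := by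
        refine (cls_eq_one (hNQ hm)).1 ?_
        rw [cls_mul (hNQ (mul_mem (mul_mem (pow_mem hu₁N i) (pow_mem hxNm j))
          (pow_mem (hTN hzT) l))) (hNQ (pow_mem (hTN hr₁T) c')),
          cls_mul (hNQ (mul_mem (pow_mem hu₁N i) (pow_mem hxNm j))) (hNQ (pow_mem (hTN hzT) l)),
          cls_mul (hNQ (pow_mem hu₁N i)) (hNQ (pow_mem hxNm j)), cls_pow (hNQ hu₁N),
          cls_pow (hNQ hxNm), cls_pow (hNQ (hTN hzT)), cls_pow (hNQ (hTN hr₁T))]
        exact e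
      have h2 : π (u₁ ^ i * x ^ j * z ^ l * r₁ ^ c') = 1 := hπT _ (hMT h1)
      change cls T Q _ = 1 at h2
      rw [cls_mul (hNQ (mul_mem (mul_mem (pow_mem hu₁N i) (pow_mem hxNm j))
          (pow_mem (hTN hzT) l))) (hNQ (pow_mem (hTN hr₁T) c')),
        cls_mul (hNQ (mul_mem (pow_mem hu₁N i) (pow_mem hxNm j))) (hNQ (pow_mem (hTN hzT) l)),
        cls_mul (hNQ (pow_mem hu₁N i)) (hNQ (pow_mem hxNm j)), cls_pow (hNQ hu₁N),
        cls_pow (hNQ hxNm), (cls_eq_one (hNQ (pow_mem (hTN hzT) l))).2 (T.pow_mem hzT l),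
        (cls_eq_one (hNQ (pow_mem (hTN hr₁T) c'))).2 (T.pow_mem hr₁T c'), mul_one, mul_one,
        ← (cls_eq (hNQ huN) (hNQ hu₁N)).2 hu₁T] at h2
      exact h2
    obtain ⟨hi, hj⟩ := hind i j e1
    obtain ⟨i', rfl⟩ := hi
    obtain ⟨j', rfl⟩ := hj
    rw [pow_mul, pow_mul, hqp u₁ hu₁N, hqp x hxNm, one_pow, one_pow, one_mul, one_mul, hqr₁,
      (((hqc r hrT z (hTN hzT)).pow_right ρe)).mul_pow, ← pow_mul,
      ← ((hqc z hzT r (hTN hrT)).pow_pow (ρe * c') c').eq, ← mul_assoc, ← pow_add] at e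
    have hm := mul_mem (pow_mem (hTN hzT) (l + ρe * c')) (pow_mem (hTN hrT) c')
    have h3 : z ^ (l + ρe * c') * r ^ c' ∈ M := by
      refine (cls_eq_one (hNQ hm)).1 ?_
      rw [cls_mul (hNQ (pow_mem (hTN hzT) _)) (hNQ (pow_mem (hTN hrT) _)), cls_pow (hNQ (hTN hzT)),
        cls_pow (hNQ (hTN hrT))]
      exact e
    obtain ⟨-, hl, hc⟩ := ht.indep_all hx hg hcom hpow (i := 0) (R.pow_mem hr c')
      (by rwa [pow_zero, one_mul])
    have hc' := dvd_of_pow_mem (hpow r (ht.RE hr)) hrM hc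
    exact ⟨dvd_mul_right _ _, dvd_mul_right _ _,
      (Nat.dvd_add_left (dvd_mul_of_dvd_right hc' ρe)).1 hl, hc'⟩
  · have h1 : π (afun f' x) = X ^ ν := hf'x
    have h2 : (x ^ ν)⁻¹ * afun f' x ∈ T :=
      (cls_eq (hNQ (pow_mem hxNm ν)) (hNQ (afun_mem f' hxNm))).1
        ((cls_pow (hNQ hxNm) ν).trans h1.symm)
    obtain ⟨l, c', e⟩ := hTdec _ h2
    refine ⟨l, c', ?_⟩
    rw [hΦG x hxNm, show q (afun f' x) = q x ^ ν * q ((x ^ ν)⁻¹ * afun f' x) by
      show cls M Q _ = cls M Q x ^ _ * cls M Q _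
      rw [← cls_pow (hNQ hxNm), ← cls_mul (hNQ (pow_mem hxNm ν)) (hNQ (hTN h2)),
        mul_inv_cancel_left], e, ← mul_assoc]
  · obtain ⟨i, j, l, c', e⟩ := hNdec _ hw₀
    refine ⟨q w₀, ?_, hΦGh⟩
    rw [e]
    exact Nq.mul_mem (Nq.mul_mem (Nq.mul_mem (Nq.pow_mem (Subgroup.subset_closure (by simp)) i)
      (Nq.pow_mem (Subgroup.subset_closure (by simp)) j))
      (Nq.pow_mem (Subgroup.subset_closure (by simp)) l))
      (Nq.pow_mem (Subgroup.subset_closure (by simp)) c')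
  · intro K hKc hKp f₄ hf₄
    set K₀ : Subgroup Ω := (K.comap (QuotientGroup.mk' (M.subgroupOf Q))).map Q.subtype with hK₀
    have hMK : M ≤ K₀ := fun y hy => by
      refine ⟨⟨y, hNQ (hx.leN (hg.le hy))⟩, ?_, rfl⟩
      rw [SetLike.mem_coe, Subgroup.mem_comap, QuotientGroup.mk'_apply,
        (QuotientGroup.eq_one_iff (N := M.subgroupOf Q) (⟨y, hNQ (hx.leN (hg.le hy))⟩ : Q)).2 hy]
      exact K.one_mem
    have hK₀Q : K₀ ≤ Q := Subgroup.map_subtype_le _
    have hmemK : ∀ {y : Ω}, y ∈ K₀ → q y ∈ K := by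
      rintro _ ⟨⟨w, hw⟩, hw', rfl⟩
      show cls M Q w ∈ K
      rw [cls_mk hw]
      exact hw'
    have hb := section_card hx.rk (hK₀Q.trans hQS) hMK
      (fun k hk y hy => hg.normQ hx k (hK₀Q hk) y hy)
      (fun a ha b hb => by
        have h1 := hKc _ (hmemK ha) _ (hmemK hb)
        have haQ := hK₀Q ha
        have hbQ := hK₀Q hb
        refine (cls_eq_one (Q.mul_mem (Q.mul_mem (Q.mul_mem haQ hbQ) (Q.inv_mem haQ))
          (Q.inv_mem hbQ))).1 ?_
        rw [cls_mul (Q.mul_mem (Q.mul_mem haQ hbQ) (Q.inv_mem haQ)) (Q.inv_mem hbQ),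
          cls_mul (Q.mul_mem haQ hbQ) (Q.inv_mem haQ), cls_mul haQ hbQ, cls_inv haQ, cls_inv hbQ]
        show q a * q b * (q a)⁻¹ * (q b)⁻¹ = 1
        rw [h1, mul_inv_cancel_right, mul_inv_cancel])
      (fun a ha => by
        refine (cls_eq_one (Q.pow_mem (hK₀Q ha) p)).1 ?_
        rw [cls_pow (hK₀Q ha)]
        exact hKp _ (hmemK ha))
    have hcard : Nat.card K₀ = Nat.card K * Nat.card M := by
      set C := K.comap (QuotientGroup.mk' (M.subgroupOf Q))
      have hMC : M.subgroupOf Q ≤ C := fun y hy => by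
        rw [Subgroup.mem_comap, QuotientGroup.mk'_apply, (QuotientGroup.eq_one_iff _).2 hy]
        exact K.one_mem
      rw [hK₀, Subgroup.card_map_of_injective Q.subtype_injective]
      have h1 := Subgroup.relIndex_mul_relIndex ⊥ (M.subgroupOf Q) C bot_le hMC
      have h2 : (M.subgroupOf Q).relIndex C = Nat.card K := by
        conv_lhs => arg 1; rw [← QuotientGroup.ker_mk' (M.subgroupOf Q), ← MonoidHom.comap_bot]
        rw [Subgroup.relIndex_comap, Subgroup.map_comap_eq_self_of_surjective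
          (QuotientGroup.mk'_surjective _), Subgroup.relIndex_bot_left]
      rw [Subgroup.relIndex_bot_left, Subgroup.relIndex_bot_left, h2,
        Nat.card_congr (Subgroup.subgroupOfEquivOfLe ((hg.le.trans hx.leN).trans hNQ)).toEquiv] at h1
      rw [← h1, mul_comm]
    have h4 := Nat.card_le_card_of_injective f₄ hf₄
    rw [Nat.card_fun, Nat.card_zmod, Nat.card_eq_fintype_card, Fintype.card_fin] at h4
    rw [hcard] at hb
    haveI : Finite M := Finite.of_injective _ (Subgroup.inclusion_injective hg.le)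
    have h5 := Nat.le_of_mul_le_mul_right hb Nat.card_pos
    have h6 : p ^ 3 < p ^ 4 := Nat.pow_lt_pow_right (Fact.out : p.Prime).one_lt (by norm_num)
    omega

end Tor

/-- An elementary abelian quotient of `E` above a good subgroup has order `p ^ 2`. -/
theorem Good.card_eq (hx : NN F p E h) (hg : Good F p E h M)
    (hcom : ∀ a ∈ E, ∀ b ∈ E, ⁅a, b⁆ ∈ M) (hpow : ∀ a ∈ E, a ^ p ∈ M) (hlt : M < E) :
    Nat.card E = p ^ 2 * Nat.card M := by
  obtain ⟨e₀, he₀, he₀'⟩ := hx.exists_conj_notMem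
  have hx₀ : cj h e₀ ∈ im E (cj h) := apply_mem_im he₀
  obtain ⟨u, z, R, ht⟩ := exists_tor hx hg hcom hpow hlt hx₀ he₀'
  by_cases hR : R ≤ M
  · exact ht.card_two hx hg hcom hpow hR
  · obtain ⟨r, hr, hrM⟩ := SetLike.not_le_iff_exists.1 hR
    exact (ht.no_three hx hg hcom hpow hx₀ he₀' hr hrM).elim

end Cfsg.Agent.Rank3Pearl80
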