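import Mathlib

/-!
The weight argument: a group generated by `h, u, x, z, r` as in the configuration of an essential
subgroup with elementary quotient of order `p ^ 3`, with a torus automorphism, has an elementary
abelian subgroup of order `p ^ 4`.
-/

set_option autoImplicit false
set_option linter.unusedSectionVars false

namespace Cfsg.Agent.Rank3Pearl80

open scoped commutatorElement

universe u

variable {G : Type u} [Group G] {p : ℕ}

theorem pow_congr [Fact p.Prime] {y : G} (hy : y ^ p = 1) {n m : ℕ}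
    (h : (n : ZMod p) = m) : y ^ n = y ^ m := by
  rw [ZMod.natCast_eq_natCast_iff'] at h
  rw [pow_eq_pow_mod n hy, pow_eq_pow_mod m hy, h]

/-- Collecting the powers of a product in class three. -/
theorem collect {h u d c : G} (huh : u * h = h * d * u) (hhd : Commute h d) (hhc : Commute h c)
    (huc : Commute u c) (hdc : Commute d c) (hud : u * d = d * c * u) (n : ℕ) :
    (h * u) ^ n = h ^ n * d ^ (n.choose 2) * u ^ n * c ^ (n.choose 3) := by
  have hund : ∀ n : ℕ, u ^ n * d = d * c ^ n * u ^ n := by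
    intro n
    induction n with
    | zero => simp
    | succ n ih =>
      calc u ^ (n + 1) * d = u * (u ^ n * d) := by rw [pow_succ', mul_assoc]
        _ = (u * d) * c ^ n * u ^ n := by rw [ih]; simp only [mul_assoc]
        _ = d * c * (u * c ^ n) * u ^ n := by rw [hud]; simp only [mul_assoc]
        _ = d * c ^ (n + 1) * u ^ (n + 1) := by
            rw [(huc.pow_right n).eq, pow_succ' c, pow_succ' u]; simp only [mul_assoc]
  have hdu : ∀ n : ℕ, (d * u) ^ n = d ^ n * u ^ n * c ^ (n.choose 2) := by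
    intro n
    induction n with
    | zero => simp
    | succ n ih =>
      have e2 : c ^ (n.choose 2) * (d * u) = d * u * c ^ (n.choose 2) :=
        ((hdc.symm.mul_right huc.symm).pow_left _).eq
      calc (d * u) ^ (n + 1) = d ^ n * u ^ n * (c ^ (n.choose 2) * (d * u)) := by
            rw [pow_succ, ih, mul_assoc]
        _ = d ^ n * (u ^ n * d) * u * c ^ (n.choose 2) := by rw [e2]; simp only [mul_assoc]
        _ = d ^ (n + 1) * (c ^ n * u ^ (n + 1)) * c ^ (n.choose 2) := by
            rw [hund, pow_succ d, pow_succ u]; simp only [mul_assoc]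
        _ = d ^ (n + 1) * u ^ (n + 1) * c ^ ((n + 1).choose 2) := by
            rw [((huc.symm.pow_left n).pow_right (n + 1)).eq, Nat.choose_succ_succ',
              Nat.choose_one_right, pow_add c]
            simp only [mul_assoc]
  have hunh : ∀ n : ℕ, u ^ n * h = h * (d * u) ^ n := by
    intro n
    induction n with
    | zero => simp
    | succ n ih =>
      calc u ^ (n + 1) * h = u * (u ^ n * h) := by rw [pow_succ', mul_assoc]
        _ = (u * h) * (d * u) ^ n := by rw [ih, mul_assoc]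
        _ = h * (d * u) ^ (n + 1) := by rw [huh, pow_succ', mul_assoc, mul_assoc, mul_assoc]
  induction n with
  | zero => simp
  | succ n ih =>
    have e2 : c ^ (n.choose 3) * (h * u) = h * u * c ^ (n.choose 3) :=
      ((hhc.symm.mul_right huc.symm).pow_left _).eq
    calc (h * u) ^ (n + 1)
        = h ^ n * d ^ (n.choose 2) * (u ^ n * h) * u * c ^ (n.choose 3) := by
          rw [pow_succ, ih, mul_assoc _ (c ^ _), e2]; simp only [mul_assoc]
      _ = h ^ n * (d ^ (n.choose 2) * h) * d ^ n * u ^ n * (c ^ (n.choose 2) * u) *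
            c ^ (n.choose 3) := by rw [hunh, hdu]; simp only [mul_assoc]
      _ = h ^ (n + 1) * (d ^ (n.choose 2) * d ^ n) * (u ^ n * u) *
            (c ^ (n.choose 2) * c ^ (n.choose 3)) := by
          rw [(hhd.symm.pow_left _).eq, (huc.symm.pow_left _).eq, pow_succ h]
          simp only [mul_assoc]
      _ = h ^ (n + 1) * d ^ ((n + 1).choose 2) * u ^ (n + 1) * c ^ ((n + 1).choose 3) := by
          rw [← pow_add, ← pow_add, ← pow_succ, Nat.choose_succ_succ' n 1, Nat.choose_one_right,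
            Nat.choose_succ_succ' n 2, add_comm (n.choose (1 + 1))]

variable [hp : Fact p.Prime]

theorem exists_nat_pow {y : G} (hy : y ^ p = 1) (i : ℤ) : ∃ j : ℕ, y ^ i = y ^ j :=
  ⟨(i % p).toNat, by
    rw [← zpow_natCast, Int.toNat_of_nonneg (Int.emod_nonneg _ (by exact_mod_cast hp.out.ne_zero)),
      Int.emod_def, zpow_sub, zpow_mul, zpow_natCast, hy, one_zpow, inv_one, mul_one]⟩

theorem prime_dvd_choose (k : ℕ) (h0 : k ≠ 0) (hk : k < p) : p ∣ p.choose k :=
  hp.out.dvd_choose_self h0 hk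

theorem conj_pow_fix {h u y : G} (hy : Commute h y) (hu : h * u * h⁻¹ = u * y) (n : ℕ) :
    h ^ n * u * (h ^ n)⁻¹ = u * y ^ n := by
  induction n with
  | zero => simp
  | succ n ih =>
    calc h ^ (n + 1) * u * (h ^ (n + 1))⁻¹ = h ^ n * (h * u * h⁻¹) * (h ^ n)⁻¹ := by
          rw [pow_succ, mul_inv_rev]; simp only [mul_assoc]
      _ = h ^ n * u * (h ^ n)⁻¹ * y := by
          rw [hu, mul_assoc (h ^ n), mul_assoc u, (hy.pow_left n).inv_left.symm.eq]
          simp only [mul_assoc]
      _ = u * y ^ (n + 1) := by rw [ih, pow_succ, mul_assoc]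

/-- The weight argument. -/
theorem weights_contra (hp5 : 5 ≤ p) {h u x z r : G} (Φ : G →* G) {s : ZMod p} (hs0 : s ≠ 0)
    (hs2 : s ^ 2 ≠ 1) (hs3 : s ^ 3 ≠ 1) (hs5 : s ^ 5 ≠ 1)
    (hup : u ^ p = 1) (hxp : x ^ p = 1) (hzp : z ^ p = 1) (hrp : r ^ p = 1)
    (zc : ∀ g : G, Commute z g) (rcu : Commute r u) (rcx : Commute r x)
    (hxu : x * u * x⁻¹ = u * z) {k : ℕ} (hhr : h * r * h⁻¹ = r * z ^ k)
    {a b : ℕ} (hhx : h * x * h⁻¹ = x * z ^ a * r ^ b)
    (hhu : ∃ y ∈ Subgroup.closure ({x, z, r} : Set G), h * u * h⁻¹ = u * y)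
    (hhp : ∃ i j l c : ℕ, h ^ p = u ^ i * x ^ j * z ^ l * r ^ c)
    (hN : h ∉ Subgroup.closure ({u, x, z, r} : Set G))
    (indep : ∀ i j l c : ℕ, u ^ i * x ^ j * z ^ l * r ^ c = 1 → p ∣ i ∧ p ∣ j ∧ p ∣ l ∧ p ∣ c)
    (hΦz : Φ z = z ^ (s⁻¹).val) (hΦr : Φ r = r) (hΦu : Φ u = u ^ s.val)
    (hΦx : ∃ l c : ℕ, Φ x = x ^ (s⁻¹ * s⁻¹).val * z ^ l * r ^ c)
    (hΦh : ∃ n ∈ Subgroup.closure ({u, x, z, r} : Set G), Φ h = h ^ ((s⁻¹) ^ 3).val * n)
    (rk : ∀ K : Subgroup G, (∀ a ∈ K, ∀ b ∈ K, a * b = b * a) → (∀ a ∈ K, a ^ p = 1) →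
      ∀ f : (Fin 4 → ZMod p) → K, ¬ Function.Injective f) : False := by
  set N := Subgroup.closure ({u, x, z, r} : Set G)
  set A := Subgroup.closure ({x, z, r} : Set G)
  set m := ((s⁻¹) ^ 3).val
  have hm : (m : ZMod p) = (s⁻¹) ^ 3 := ZMod.natCast_zmod_val _
  have hxA : x ∈ A := Subgroup.subset_closure (by simp)
  have hzA : z ∈ A := Subgroup.subset_closure (by simp)
  have hrA : r ∈ A := Subgroup.subset_closure (by simp)
  have hAN : A ≤ N := Subgroup.closure_mono (by intro y hy; simp at hy ⊢; tauto)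
  have huN : u ∈ N := Subgroup.subset_closure (by simp)
  have hrN : ∀ n ∈ N, Commute r n := by
    intro n hn
    induction hn using Subgroup.closure_induction with
    | mem y hy =>
      rcases hy with rfl | rfl | rfl | rfl <;>
        first | exact rcu | exact rcx | exact (zc _).symm | exact Commute.refl _
    | one => exact Commute.one_right r
    | mul a b _ _ iha ihb => exact iha.mul_right ihb
    | inv a _ iha => exact iha.inv_right
  have hux : u * x * u⁻¹ = x * z⁻¹ := by
    have e : x * u = u * z * x := by rw [← hxu]; group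
    calc u * x * u⁻¹ = (u * z * x) * (z⁻¹ * u⁻¹) := by
          rw [mul_assoc u z x, (zc x).eq]; group
      _ = x * (u * (z⁻¹ * u⁻¹)) := by rw [← e, mul_assoc]
      _ = x * z⁻¹ := by rw [((zc u).inv_inv).eq]; group
  -- `r` is centralised by `h`
  have hzr : ∀ i l : ℕ, r * z ^ l = r * z ^ i → (l : ZMod p) = i := by
    intro i l e
    have e' := mul_left_cancel e
    by_contra hne
    have hz1 : z = 1 := by
      have h1 : z ^ ((l : ℤ) - i) = 1 := by
        rw [zpow_sub, zpow_natCast, zpow_natCast, e', mul_inv_cancel]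
      have hcop : IsCoprime ((l : ℤ) - i) (p : ℤ) := by
        rw [isCoprime_comm, (Nat.prime_iff_prime_int.1 hp.out).coprime_iff_not_dvd,
          ← ZMod.intCast_zmod_eq_zero_iff_dvd]
        push_cast
        exact sub_ne_zero.2 hne
      obtain ⟨c₁, c₂, hc⟩ := hcop
      rw [← zpow_one z, ← hc, zpow_add, mul_comm c₁, mul_comm c₂, zpow_mul, zpow_mul, h1,
        zpow_natCast, hzp, one_zpow, one_zpow, mul_one]
    have := (indep 0 0 1 0 (by simp [hz1])).2.2.1
    exact hp.out.not_dvd_one this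
  have hk : (k : ZMod p) = 0 := by
    obtain ⟨n, hn, hΦh⟩ := hΦh
    have e := congrArg Φ hhr
    rw [map_mul, map_mul, map_inv, map_mul, map_pow, hΦr, hΦz, hΦh] at e
    have e1 : h ^ m * n * r * (h ^ m * n)⁻¹ = h ^ m * r * (h ^ m)⁻¹ := by
      rw [mul_assoc (h ^ m) n r, ← (hrN n hn).eq]; group
    have e2 : ∀ q : ℕ, h ^ q * r * (h ^ q)⁻¹ = r * z ^ (q * k) := fun q => by
      rw [conj_pow_fix ((zc h).symm.pow_right k) hhr q, ← pow_mul, mul_comm k]
    rw [e1, e2, ← pow_mul] at e
    have e3 := hzr _ _ e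
    push_cast at e3
    rw [hm, ZMod.natCast_zmod_val] at e3
    by_contra hk0
    have e4 : (s⁻¹) ^ 3 = s⁻¹ := mul_right_cancel₀ hk0 e3
    field_simp at e4
    exact hs2 (by linear_combination -e4)
  have hzk : z ^ k = 1 := by
    rw [pow_congr (p := p) hzp (m := 0) (by simpa using hk), pow_zero]
  have hrh : Commute r h := by
    rw [hzk, mul_one, mul_inv_eq_iff_eq_mul] at hhr
    exact hhr.symm
  have hrc : ∀ g ∈ Subgroup.closure ({h, u, x, z, r} : Set G), Commute r g := by
    intro g hg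
    induction hg using Subgroup.closure_induction with
    | mem y hy =>
      rcases hy with rfl | rfl | rfl | rfl | rfl <;>
        first | exact hrh | exact rcu | exact rcx | exact (zc _).symm | exact Commute.refl _
    | one => exact Commute.one_right r
    | mul a b _ _ iha ihb => exact iha.mul_right ihb
    | inv a _ iha => exact iha.inv_right
  -- `h` fixes `x` modulo `z`
  haveI hZn : (Subgroup.zpowers z).Normal := ⟨fun y hy g => by
    obtain ⟨i, rfl⟩ := hy
    rw [← ((zc g).zpow_left i).eq, mul_inv_cancel_right]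
    exact Subgroup.zpow_mem_zpowers z i⟩
  set q := QuotientGroup.mk' (Subgroup.zpowers z)
  have qz : q z = 1 := (QuotientGroup.eq_one_iff _).2 (Subgroup.mem_zpowers z)
  have hb : (b : ZMod p) = 0 := by
    obtain ⟨n, hn, hΦh⟩ := hΦh
    obtain ⟨l, c, hΦx⟩ := hΦx
    set ν := (s⁻¹ * s⁻¹).val
    have hqc : ∀ y ∈ N, Commute (q y) (q x) := by
      intro y hy
      induction hy using Subgroup.closure_induction with
      | mem y hy =>
        rcases hy with rfl | rfl | rfl | rfl
        · have := congrArg q hux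
          rw [map_mul, map_mul, map_mul, map_inv, map_inv, qz, inv_one, mul_one,
            mul_inv_eq_iff_eq_mul] at this
          exact this
        · exact Commute.refl _
        · rw [qz]; exact Commute.one_left _
        · exact rcx.map q
      | one => rw [map_one]; exact Commute.one_left _
      | mul a b _ _ iha ihb => rw [map_mul]; exact iha.mul_left ihb
      | inv a _ iha => rw [map_inv]; exact iha.inv_left
    have hqx : q h * q x * (q h)⁻¹ = q x * q r ^ b := by
      rw [← map_inv, ← map_mul, ← map_mul, hhx, map_mul, map_mul, map_pow, map_pow, qz, one_pow,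
        mul_one]
    have e := congrArg q (congrArg Φ hhx)
    simp only [map_mul, map_inv, map_pow, hΦh, hΦx, hΦz, hΦr, qz, one_pow, mul_one] at e
    have hqh : Commute (q h) (q r) := hrh.symm.map q
    have hqn : Commute (q n) (q x ^ ν * q r ^ c) :=
      ((hqc n hn).pow_right ν).mul_right (((hrN n hn).symm.map q).pow_right c)
    have e1 : q h ^ m * q n * (q x ^ ν * q r ^ c) * (q h ^ m * q n)⁻¹ =
        (q x * (q r ^ b) ^ m) ^ ν * q r ^ c := by
      rw [mul_assoc (q h ^ m), hqn.eq, ← conj_pow_fix (hqh.pow_right b) hqx m, conj_pow]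
      rw [show q h ^ m * (q x ^ ν * q r ^ c * q n) * (q h ^ m * q n)⁻¹ =
        q h ^ m * q x ^ ν * (q r ^ c * (q h ^ m)⁻¹) by group,
        ((hqh.pow_left m).pow_right c).inv_left.symm.eq]
      group
    rw [e1, (Commute.pow_right ((rcx.symm.map q).pow_right b) m).mul_pow, ← pow_mul, ← pow_mul,
      mul_assoc, mul_assoc, ← pow_add, ← pow_add] at e
    have e3 := mul_left_cancel e
    have e5 : ∀ w v : ℕ, q r ^ w = q r ^ v → (w : ZMod p) = v := by
      intro w v e
      by_contra hne
      have hr1 : q r = 1 := by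
        have h1 : q r ^ ((w : ℤ) - v) = 1 := by
          rw [zpow_sub, zpow_natCast, zpow_natCast, e, mul_inv_cancel]
        have hcop : IsCoprime ((w : ℤ) - v) (p : ℤ) := by
          rw [isCoprime_comm, (Nat.prime_iff_prime_int.1 hp.out).coprime_iff_not_dvd,
            ← ZMod.intCast_zmod_eq_zero_iff_dvd]
          push_cast
          exact sub_ne_zero.2 hne
        obtain ⟨c₁, c₂, hc⟩ := hcop
        rw [← zpow_one (q r), ← hc, zpow_add, mul_comm c₁, mul_comm c₂, zpow_mul, zpow_mul, h1,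
          zpow_natCast, ← map_pow, hrp, map_one, one_zpow, one_zpow, mul_one]
      obtain ⟨i, hi⟩ := Subgroup.mem_zpowers_iff.1 ((QuotientGroup.eq_one_iff r).1 hr1)
      obtain ⟨j, hj⟩ : ∃ j : ℕ, z ^ i = z ^ j := exists_nat_pow hzp i
      have e' : u ^ 0 * x ^ 0 * z ^ j * r ^ (p - 1) = 1 := by
        rw [← hj, hi, pow_zero, pow_zero, one_mul, one_mul, ← pow_succ',
          Nat.sub_add_cancel hp.out.one_le, hrp]
      have := (indep _ _ _ _ e').2.2.2
      exact absurd (Nat.le_of_dvd (by omega) this) (by omega)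
    have e4 := e5 _ _ e3
    push_cast at e4
    rw [hm, ZMod.natCast_zmod_val] at e4
    by_contra hb0
    have e6 : (b : ZMod p) * ((s⁻¹) ^ 3 * (s⁻¹ * s⁻¹) - 1) = 0 := by linear_combination e4
    rcases mul_eq_zero.1 e6 with h' | h'
    · exact hb0 h'
    · rw [sub_eq_zero] at h'
      field_simp at h'
      exact hs5 (by linear_combination -h')
  have hrb : r ^ b = 1 := by
    rw [pow_congr (p := p) hrp (m := 0) (by simpa using hb), pow_zero]
  rw [hrb, mul_one] at hhx
  -- `h₁ = h u ^ a` centralises `x`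
  set h₁ := h * u ^ a
  have h1x : Commute h₁ x := by
    have e1 : ∀ i : ℕ, u ^ i * x * (u ^ i)⁻¹ = x * z⁻¹ ^ i :=
      conj_pow_fix ((zc u).symm.inv_right) hux
    show h₁ * x = x * h₁
    rw [← mul_inv_eq_iff_eq_mul]
    calc h * u ^ a * x * (h * u ^ a)⁻¹ = h * (u ^ a * x * (u ^ a)⁻¹) * h⁻¹ := by group
      _ = h * x * h⁻¹ * z⁻¹ ^ a := by
          rw [e1, mul_assoc h, mul_assoc x, (((zc h).inv_left).pow_left a |>.inv_right).eq]; group
      _ = x := by rw [hhx, inv_pow, mul_assoc, mul_inv_cancel, mul_one]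
  have h1r : Commute h₁ r := hrh.symm.mul_left ((rcu.symm).pow_left a)
  have h1z : Commute h₁ z := (zc h₁).symm
  have hA1 : ∀ v ∈ A, Commute h₁ v := by
    intro v hv
    induction hv using Subgroup.closure_induction with
    | mem y hy =>
      rcases hy with rfl | rfl | rfl
      exacts [h1x, h1z, h1r]
    | one => exact Commute.one_right _
    | mul a b _ _ iha ihb => exact iha.mul_right ihb
    | inv a _ iha => exact iha.inv_right
  have hucA : ∀ v ∈ A, ∃ i : ℤ, u * v * u⁻¹ = v * z ^ i := by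
    intro v hv
    induction hv using Subgroup.closure_induction with
    | mem y hy =>
      rcases hy with rfl | rfl | rfl
      · exact ⟨-1, by rw [zpow_neg_one]; exact hux⟩
      · exact ⟨0, by rw [(zc u).symm.eq, zpow_zero]; group⟩
      · exact ⟨0, by rw [rcu.symm.eq, zpow_zero]; group⟩
    | one => exact ⟨0, by group⟩
    | mul a b _ _ iha ihb =>
      obtain ⟨i, hi⟩ := iha
      obtain ⟨j, hj⟩ := ihb
      refine ⟨i + j, ?_⟩
      calc u * (a * b) * u⁻¹ = (u * a * u⁻¹) * (u * b * u⁻¹) := by group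
        _ = a * (z ^ i * b) * z ^ j := by rw [hi, hj]; group
        _ = a * b * z ^ (i + j) := by rw [((zc b).zpow_left i).eq, zpow_add]; group
    | inv a _ iha =>
      obtain ⟨i, hi⟩ := iha
      refine ⟨-i, ?_⟩
      calc u * a⁻¹ * u⁻¹ = (u * a * u⁻¹)⁻¹ := by group
        _ = z ^ (-i) * a⁻¹ := by rw [hi, mul_inv_rev, zpow_neg]
        _ = a⁻¹ * z ^ (-i) := ((zc _).zpow_left _).eq
  have hAn : ∀ v ∈ A, u * v * u⁻¹ ∈ A := fun v hv => by
    obtain ⟨i, hi⟩ := hucA v hv
    rw [hi]; exact A.mul_mem hv (A.zpow_mem hzA i)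
  have hAn' : ∀ v ∈ A, u⁻¹ * v * u ∈ A := fun v hv => by
    obtain ⟨i, hi⟩ := hucA v hv
    have e : u⁻¹ * v * u = v * z ^ (-i) := by
      calc u⁻¹ * v * u = u⁻¹ * (v * z ^ i) * u * z ^ (-i) := by
            rw [show u⁻¹ * (v * z ^ i) * u = u⁻¹ * v * (z ^ i * u) by group,
              ((zc u).zpow_left i).eq, zpow_neg]
            group
        _ = v * z ^ (-i) := by rw [← hi]; group
    rw [e]; exact A.mul_mem hv (A.zpow_mem hzA _)
  -- `N = ⟨u⟩ A`
  have hNdec : ∀ n ∈ N, ∃ i : ℤ, ∃ v ∈ A, n = u ^ i * v := by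
    have hun : u ∈ Subgroup.normalizer (A : Set G) :=
      Subgroup.mem_normalizer_iff.2 fun v => ⟨hAn v, fun hv => by
        have := hAn' _ hv
        simpa [mul_assoc] using this⟩
    intro n hn
    have hle : N ≤ Subgroup.zpowers u ⊔ A := by
      refine (Subgroup.closure_le _).2 ?_
      rintro y (rfl | rfl | rfl | rfl)
      exacts [Subgroup.mem_sup_left (Subgroup.mem_zpowers _), Subgroup.mem_sup_right hxA,
        Subgroup.mem_sup_right hzA, Subgroup.mem_sup_right hrA]
    have := hle hn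
    rw [← SetLike.mem_coe, Subgroup.coe_mul_of_left_le_normalizer_right _ _
      (Subgroup.zpowers_le.2 hun)] at this
    obtain ⟨_, ⟨i, rfl⟩, v, hv, rfl⟩ := Set.mem_mul.1 this
    exact ⟨i, v, hv, rfl⟩
  have hvp : ∀ v ∈ A, v ^ p = 1 := by
    have hc : ∀ a ∈ A, ∀ b ∈ A, Commute a b := by
      have h0 : ∀ a ∈ ({x, z, r} : Set G), ∀ b ∈ A, Commute a b := by
        intro a ha b hb
        induction hb using Subgroup.closure_induction with
        | mem y hy =>
          rcases ha with rfl | rfl | rfl <;> rcases hy with rfl | rfl | rfl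
          exacts [Commute.refl _, (zc _).symm, rcx.symm, zc _, Commute.refl _, zc _, rcx,
            (zc _).symm, Commute.refl _]
        | one => exact Commute.one_right _
        | mul a b _ _ iha ihb => exact iha.mul_right ihb
        | inv a _ iha => exact iha.inv_right
      intro a ha b hb
      induction ha using Subgroup.closure_induction with
      | mem y hy => exact h0 y hy b hb
      | one => exact Commute.one_left _
      | mul a b _ _ iha ihb => exact iha.mul_left ihb
      | inv a _ iha => exact iha.inv_left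
    intro v hv
    induction hv using Subgroup.closure_induction with
    | mem y hy => rcases hy with rfl | rfl | rfl <;> assumption
    | one => exact one_pow p
    | mul a b ha hb iha ihb => rw [(hc a ha b hb).mul_pow, iha, ihb, one_mul]
    | inv a _ iha => rw [inv_pow, iha, inv_one]
  -- the action of `h₁` on `u`
  obtain ⟨y, hy, hh1u⟩ : ∃ y ∈ A, h₁ * u * h₁⁻¹ = u * y := by
    obtain ⟨y, hy, e⟩ := hhu
    refine ⟨y, hy, ?_⟩
    calc h * u ^ a * u * (h * u ^ a)⁻¹ = h * u * h⁻¹ := by group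
      _ = u * y := e
  have hpd : (p.choose 2 : ZMod p) = 0 ∧ (p.choose 3 : ZMod p) = 0 := by
    constructor <;> rw [CharP.cast_eq_zero_iff (ZMod p) p] <;>
      exact prime_dvd_choose _ (by norm_num) (by omega)
  have key : ∀ (q : ℕ) (i : ℤ) (v : G), v ∈ A →
      (h₁ ^ q * u ^ i * v) ^ p = h₁ ^ (q * p) := by
    intro q i v hv
    obtain ⟨j, hj⟩ : ∃ j : ℕ, u ^ i = u ^ j := exists_nat_pow hup i
    rw [hj]
    set H := h₁ ^ q
    set U := u ^ j
    have hHA : ∀ w ∈ A, Commute H w := fun w hw => (hA1 w hw).pow_left q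
    have hUA : ∀ (j : ℕ) (w : G), w ∈ A → u ^ j * w * (u ^ j)⁻¹ ∈ A := by
      intro j
      induction j with
      | zero => intro w hw; simpa using hw
      | succ j ih =>
        intro w hw
        have := ih _ (hAn w hw)
        rwa [show u ^ (j + 1) * w * (u ^ (j + 1))⁻¹ = u ^ j * (u * w * u⁻¹) * (u ^ j)⁻¹ by
          rw [pow_succ]; group]
    have hUc : ∀ w ∈ A, ∃ c : G, c ∈ A ∧ c ^ p = 1 ∧ (∀ g, Commute c g) ∧ U * w = w * c * U := by
      intro w hw
      obtain ⟨i, hi⟩ := hucA w hw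
      refine ⟨(z ^ i) ^ j, A.pow_mem (A.zpow_mem hzA i) j, hvp _ (A.pow_mem (A.zpow_mem hzA i) j),
        fun g => ((zc g).zpow_left i).pow_left j, ?_⟩
      rw [← mul_inv_eq_iff_eq_mul]
      exact conj_pow_fix (((zc u).zpow_left i).symm) hi j
    set d := H⁻¹ * U * H * U⁻¹
    have hd : d ∈ A := by
      have e1 : H * u * H⁻¹ = u * y ^ q := conj_pow_fix (hA1 y hy) hh1u q
      have e2 : H⁻¹ * u * H = u * (y ^ q)⁻¹ := by
        calc H⁻¹ * u * H = H⁻¹ * (u * y ^ q) * H * (y ^ q)⁻¹ := by
              rw [show H⁻¹ * (u * y ^ q) * H = H⁻¹ * u * (y ^ q * H) by group,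
                ← (hHA _ (A.pow_mem hy q)).eq]
              group
          _ = u * (y ^ q)⁻¹ := by rw [← e1]; group
      have e3 : ∀ j : ℕ, H⁻¹ * u ^ j * H * (u ^ j)⁻¹ ∈ A := by
        intro j
        induction j with
        | zero => simp [A.one_mem]
        | succ j ih =>
          have h1 : u * (y ^ q)⁻¹ * u⁻¹ ∈ A := hAn _ (A.inv_mem (A.pow_mem hy q))
          have e : H⁻¹ * u ^ (j + 1) * H * (u ^ (j + 1))⁻¹ =
              (H⁻¹ * u ^ j * H * (u ^ j)⁻¹) *
                (u ^ j * ((H⁻¹ * u * H) * u⁻¹) * (u ^ j)⁻¹) := by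
            rw [pow_succ]; group
          rw [e, e2]
          exact A.mul_mem ih (hUA j _ h1)
      exact e3 j
    obtain ⟨c, -, hcp, hcc, hUd⟩ := hUc d hd
    have e0 := collect (h := H) (u := U) (d := d) (c := c) (by simp only [d]; group) (hHA d hd)
      (hcc H).symm (hcc U).symm (hcc d).symm hUd p
    have hUp : U ^ p = 1 := by
      rw [← pow_mul, pow_mul', hup, one_pow]
    have hg0p : (H * U) ^ p = H ^ p := by
      rw [e0, hUp, pow_congr (p := p) (hvp d hd) (m := 0) (by simpa using hpd.1),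
        pow_congr (p := p) hcp (m := 0) (by simpa using hpd.2), pow_zero, pow_zero, mul_one,
        mul_one, mul_one]
    obtain ⟨c', -, hc'p, hc'c, hUv⟩ := hUc v hv
    have hgv : H * U * v = v * c' * (H * U) := by
      rw [mul_assoc H U v, hUv, ← mul_assoc H, ← mul_assoc H,
        (hHA v hv).eq, mul_assoc v H, ← (hc'c H).eq]
      group
    have hvn : ∀ n : ℕ, (H * U * v) ^ n = v ^ n * c' ^ (n + 1).choose 2 * (H * U) ^ n := by
      intro n
      induction n with
      | zero => simp
      | succ n ih =>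
        have e1 : (H * U) ^ n * v = v * c' ^ n * (H * U) ^ n := by
          have e2 : (H * U) * v * (H * U)⁻¹ = v * c' := by rw [hgv]; group
          rw [← mul_inv_eq_iff_eq_mul]
          exact conj_pow_fix (hc'c _).symm e2 n
        calc (H * U * v) ^ (n + 1)
            = v ^ n * c' ^ (n + 1).choose 2 * ((H * U) ^ n * (v * c')) * (H * U) := by
              rw [pow_succ, ih, hgv]; group
          _ = v ^ n * (c' ^ (n + 1).choose 2 * v) * (c' ^ n * c') * (H * U) ^ n * (H * U) := by
              rw [← mul_assoc ((H * U) ^ n), e1, mul_assoc (v * c' ^ n), ← (hc'c ((H * U) ^ n)).eq]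
              group
          _ = v ^ (n + 1) * c' ^ (n + 1 + 1).choose 2 * (H * U) ^ (n + 1) := by
              rw [((hc'c v).pow_left _).eq, ← pow_succ c', pow_succ v, pow_succ (H * U),
                Nat.choose_succ_succ' (n + 1) 1, Nat.choose_one_right, pow_add c' (n + 1)]
              simp only [mul_assoc]
              rw [← mul_assoc (c' ^ (n + 1).choose _), ← ((hc'c (c' ^ (n + 1).choose 2)).pow_left _).eq]
              simp only [mul_assoc]
    have hp1 : ((p + 1).choose 2 : ZMod p) = 0 := by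
      rw [Nat.choose_succ_succ' p 1, Nat.choose_one_right, Nat.cast_add, hpd.1, ZMod.natCast_self,
        add_zero]
    rw [hvn, hvp v hv, pow_congr (p := p) hc'p (m := 0) (by simpa using hp1), pow_zero, one_mul,
      one_mul, hg0p, ← pow_mul]
  -- `h₁ ^ p = h ^ p` lies in `⟨z, r⟩`
  have h1p : h₁ ^ p = h ^ p := by
    have e := key 1 (-(a : ℤ)) 1 A.one_mem
    rw [pow_one, mul_one, one_mul, zpow_neg, zpow_natCast] at e
    rw [← e]
    simp [h₁]
  obtain ⟨i₀, j₀, l, c, hhp⟩ := hhp
  have hwA : u ^ i₀ * x ^ j₀ * z ^ l * r ^ c = h₁ ^ p := by rw [h1p, hhp]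
  have hwx : Commute (h₁ ^ p) x := h1x.pow_left p
  have hwu : Commute (h₁ ^ p) u := by
    show _ = _
    rw [← mul_inv_eq_iff_eq_mul, conj_pow_fix (hA1 y hy) hh1u p, hvp y hy, mul_one]
  have hzr2 : ∀ g, Commute r g → Commute (z ^ l * r ^ c) g := fun g hg =>
    ((zc g).pow_left l).mul_left (hg.pow_left c)
  rw [← hwA, mul_assoc _ (z ^ l)] at hwx hwu
  have hz1 : z ≠ 1 := fun e => hp.out.not_dvd_one (indep 0 0 1 0 (by simp [e])).2.2.1
  have hoz : orderOf z = p := orderOf_eq_prime hzp hz1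
  have hi₀ : p ∣ i₀ := by
    have e1 : Commute (u ^ i₀ * x ^ j₀) x := by
      have := hwx.mul_left ((hzr2 x rcx).inv_left)
      rwa [mul_inv_cancel_right] at this
    have e2 : Commute (u ^ i₀) x := by
      have := e1.mul_left ((Commute.refl x).pow_left j₀).inv_left
      rwa [mul_inv_cancel_right] at this
    have e3 := conj_pow_fix ((zc u).symm.inv_right) hux i₀
    rw [e2.eq, mul_inv_cancel_right, left_eq_mul, inv_pow, inv_eq_one] at e3
    exact hoz ▸ orderOf_dvd_of_pow_eq_one e3
  have hu0 : u ^ i₀ = 1 := by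
    obtain ⟨t, rfl⟩ := hi₀
    rw [pow_mul, hup, one_pow]
  rw [hu0, one_mul] at hwu hwA
  have hj₀ : p ∣ j₀ := by
    have e2 : Commute (x ^ j₀) u := by
      have := hwu.mul_left ((hzr2 u rcu).inv_left)
      rwa [mul_inv_cancel_right] at this
    have e3 := conj_pow_fix ((zc x).symm) hxu j₀
    rw [e2.eq, mul_inv_cancel_right, left_eq_mul] at e3
    exact hoz ▸ orderOf_dvd_of_pow_eq_one e3
  have hx0 : x ^ j₀ = 1 := by
    obtain ⟨t, rfl⟩ := hj₀
    rw [pow_mul, hxp, one_pow]
  rw [hx0, one_mul] at hwA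
  -- the torus kills `l` and `c`
  obtain ⟨n, hn, hΦh⟩ := hΦh
  obtain ⟨i, v, hv, hΦh1⟩ : ∃ (i : ℤ) (v : G), v ∈ A ∧ Φ h₁ = h₁ ^ m * u ^ i * v := by
    have e1 : Φ h₁ = h ^ m * (n * u ^ (s.val * a)) := by
      rw [map_mul, map_pow, hΦu, hΦh, ← pow_mul, mul_assoc]
    have e2 : (h₁ ^ m)⁻¹ * h ^ m ∈ N := by
      have hhN : ∀ w ∈ N, h * w * h⁻¹ ∈ N := by
        intro w hw
        induction hw using Subgroup.closure_induction with
        | mem g hg =>
          rcases hg with rfl | rfl | rfl | rfl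
          · obtain ⟨y', hy', e⟩ := hhu
            rw [e]; exact N.mul_mem huN (hAN hy')
          · rw [hhx]; exact N.mul_mem (hAN hxA) (N.pow_mem (hAN hzA) a)
          · rw [← (zc h).eq, mul_inv_cancel_right]; exact hAN hzA
          · rw [hhr, hzk, mul_one]; exact hAN hrA
        | one => simp [N.one_mem]
        | mul a b _ _ iha ihb =>
          rw [show h * (a * b) * h⁻¹ = (h * a * h⁻¹) * (h * b * h⁻¹) by group]
          exact N.mul_mem iha ihb
        | inv a _ iha =>
          rw [show h * a⁻¹ * h⁻¹ = (h * a * h⁻¹)⁻¹ by group]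
          exact N.inv_mem iha
      have hhNp : ∀ (q : ℕ), ∀ w ∈ N, h ^ q * w * (h ^ q)⁻¹ ∈ N := by
        intro q
        induction q with
        | zero => intro w hw; simpa using hw
        | succ q ih =>
          intro w hw
          have := ih _ (hhN w hw)
          rwa [show h ^ (q + 1) * w * (h ^ (q + 1))⁻¹ = h ^ q * (h * w * h⁻¹) * (h ^ q)⁻¹ by
            rw [pow_succ]; group]
      have e3 : ∀ q : ℕ, h₁ ^ q * (h ^ q)⁻¹ ∈ N := by
        intro q
        induction q with
        | zero => simp [N.one_mem]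
        | succ q ih =>
          rw [show h₁ ^ (q + 1) * (h ^ (q + 1))⁻¹ =
            h₁ ^ q * (h ^ q)⁻¹ * (h ^ q * (h * u ^ a * h⁻¹) * (h ^ q)⁻¹) by
              rw [pow_succ, pow_succ]; simp only [h₁]; group]
          exact N.mul_mem ih (hhNp q _ (hhN _ (N.pow_mem huN a)))
      obtain ⟨w, hw, hw'⟩ : ∃ w ∈ N, h ^ m = h₁ ^ m * w := by
        have hb := hhNp (m * (p * (orderOf h₁))) 1 N.one_mem
        refine ⟨(h₁ ^ m)⁻¹ * h ^ m, ?_, by group⟩
        have h4 : (h ^ m)⁻¹ * (h₁ ^ m * (h ^ m)⁻¹)⁻¹ * h ^ m ∈ N := by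
          have hinv : ∀ w ∈ N, h⁻¹ * w * h ∈ N := by
            intro w hw
            have hhp' : h ^ p ∈ N := by
              rw [hhp]
              exact N.mul_mem (N.mul_mem (N.mul_mem (N.pow_mem huN _) (N.pow_mem (hAN hxA) _))
                (N.pow_mem (hAN hzA) _)) (N.pow_mem (hAN hrA) _)
            have h5 := N.mul_mem (N.mul_mem (N.inv_mem hhp') (hhNp (p - 1) w hw)) hhp'
            have e6 : ∀ P : ℕ, (h ^ (P + 1))⁻¹ * (h ^ P * w * (h ^ P)⁻¹) * h ^ (P + 1) =
                h⁻¹ * w * h := fun P => by rw [pow_succ]; group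
            have e7 := e6 (p - 1)
            rw [Nat.sub_add_cancel hp.out.one_le] at e7
            rwa [e7] at h5
          have hinvp : ∀ (q : ℕ), ∀ w ∈ N, (h ^ q)⁻¹ * w * h ^ q ∈ N := by
            intro q
            induction q with
            | zero => intro w hw; simpa using hw
            | succ q ih =>
              intro w hw
              have := hinv _ (ih w hw)
              rwa [show (h ^ (q + 1))⁻¹ * w * h ^ (q + 1) = h⁻¹ * ((h ^ q)⁻¹ * w * h ^ q) * h by
                rw [pow_succ]; group]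
          exact hinvp m _ (N.inv_mem (e3 m))
        rwa [show (h ^ m)⁻¹ * (h₁ ^ m * (h ^ m)⁻¹)⁻¹ * h ^ m = (h₁ ^ m)⁻¹ * h ^ m by group] at h4
      rw [hw']
      simpa using hw
    obtain ⟨i, v, hv, e⟩ := hNdec _ (N.mul_mem e2 (N.mul_mem hn (N.pow_mem huN (s.val * a))))
    exact ⟨i, v, hv, by rw [e1, mul_assoc (h₁ ^ m), ← e]; group⟩
  have e := congrArg Φ hwA
  rw [map_mul, map_pow, map_pow, map_pow, hΦr, hΦz, hΦh1, key m i v hv, pow_mul', ← hwA,
    ((zc (r ^ c)).pow_left l).mul_pow, ← pow_mul, ← pow_mul, ← pow_mul] at e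
  have e7 : ∀ l₁ c₁ l₂ c₂ : ℕ, z ^ l₁ * r ^ c₁ = z ^ l₂ * r ^ c₂ →
      (l₁ : ZMod p) = l₂ ∧ (c₁ : ZMod p) = c₂ := by
    intro l₁ c₁ l₂ c₂ e
    have e' : u ^ 0 * x ^ 0 * z ^ (l₁ + (p - 1) * l₂) * r ^ (c₁ + (p - 1) * c₂) = 1 := by
      rw [pow_zero, pow_zero, one_mul, one_mul, pow_add, pow_add,
        mul_assoc (z ^ l₁), ← mul_assoc (z ^ ((p - 1) * l₂)), ((zc (r ^ c₁)).pow_left _).eq,
        mul_assoc (r ^ c₁), ← mul_assoc (z ^ l₁), e, mul_assoc, ← mul_assoc (r ^ c₂),
        ← ((zc (r ^ c₂)).pow_left _).eq, ← mul_assoc, ← mul_assoc, ← pow_add, mul_assoc,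
        ← pow_add, show l₂ + (p - 1) * l₂ = p * l₂ by
          nth_rewrite 2 [← Nat.sub_add_cancel hp.out.one_le]; ring,
        show c₂ + (p - 1) * c₂ = p * c₂ by
          nth_rewrite 2 [← Nat.sub_add_cancel hp.out.one_le]; ring,
        pow_mul, pow_mul, hzp, hrp, one_pow, one_pow, mul_one]
    obtain ⟨-, -, h1, h2⟩ := indep _ _ _ _ e'
    rw [← CharP.cast_eq_zero_iff (ZMod p) p, Nat.cast_add, Nat.cast_mul,
      Nat.cast_sub hp.out.one_le, ZMod.natCast_self, Nat.cast_one] at h1 h2
    exact ⟨by linear_combination h1, by linear_combination h2⟩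
  obtain ⟨el, ec⟩ := e7 _ _ _ _ e
  push_cast at el ec
  rw [hm] at el ec
  rw [ZMod.natCast_zmod_val] at el
  have hl : (l : ZMod p) = 0 := by
    by_contra hl0
    have e' : (l : ZMod p) * (s⁻¹ - (s⁻¹) ^ 3) = 0 := by linear_combination el
    rcases mul_eq_zero.1 e' with h' | h'
    · exact hl0 h'
    · rw [sub_eq_zero] at h'
      field_simp at h'
      exact hs2 (by linear_combination h')
  have hc : (c : ZMod p) = 0 := by
    by_contra hc0
    have e' : (c : ZMod p) * (1 - (s⁻¹) ^ 3) = 0 := by linear_combination ec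
    rcases mul_eq_zero.1 e' with h' | h'
    · exact hc0 h'
    · rw [sub_eq_zero] at h'
      field_simp at h'
      exact hs3 (by linear_combination h')
  have h1p' : h₁ ^ p = 1 := by
    rw [← hwA, pow_congr (p := p) hzp (m := 0) (by simpa using hl),
      pow_congr (p := p) hrp (m := 0) (by simpa using hc), pow_zero, pow_zero, one_mul]
  -- the elementary subgroup of order `p ^ 4`
  set T : Set G := {h₁, x, z, r}
  have hTc : ∀ a ∈ T, ∀ b ∈ T, Commute a b := by
    rintro a (rfl | rfl | rfl | rfl) b (rfl | rfl | rfl | rfl)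
    exacts [Commute.refl _, h1x, h1z, h1r, h1x.symm, Commute.refl _, (zc _).symm, rcx.symm,
      h1z.symm, zc _, Commute.refl _, zc _, h1r.symm, rcx, (zc _).symm, Commute.refl _]
  have hKc : ∀ a ∈ Subgroup.closure T, ∀ b ∈ Subgroup.closure T, a * b = b * a := by
    have h1 : Subgroup.closure T ≤ Subgroup.centralizer T :=
      (Subgroup.closure_le _).mpr fun a ha => Subgroup.mem_centralizer_iff.mpr fun b hb =>
        (hTc b hb a ha).eq
    have h2 : Subgroup.closure T ≤ Subgroup.centralizer (Subgroup.closure T : Set G) :=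
      (Subgroup.closure_le _).mpr fun a ha => Subgroup.mem_centralizer_iff.mpr fun b hb =>
        (Subgroup.mem_centralizer_iff.mp (h1 hb) a ha).symm
    exact fun a ha b hb => (Subgroup.mem_centralizer_iff.mp (h2 ha) b hb).symm
  have hKp : ∀ a ∈ Subgroup.closure T, a ^ p = 1 := by
    intro a ha
    induction ha using Subgroup.closure_induction with
    | mem g hg => rcases hg with rfl | rfl | rfl | rfl <;> assumption
    | one => exact one_pow p
    | mul a b ha hb iha ihb =>
      rw [(show Commute a b from hKc a ha b hb).mul_pow, iha, ihb, one_mul]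
    | inv a _ iha => rw [inv_pow, iha, inv_one]
  have hTm : ∀ g ∈ T, g ∈ Subgroup.closure T := fun g hg => Subgroup.subset_closure hg
  letI : CommGroup (Subgroup.closure T) :=
    { (inferInstance : Group (Subgroup.closure T)) with
      mul_comm := fun a b => Subtype.ext (hKc a a.2 b b.2) }
  set g : Fin 4 → Subgroup.closure T :=
    ![⟨h₁, hTm _ (by simp [T])⟩, ⟨x, hTm _ (by simp [T])⟩, ⟨z, hTm _ (by simp [T])⟩,
      ⟨r, hTm _ (by simp [T])⟩]
  have hgp : ∀ i, g i ^ p = 1 := fun i => Subtype.ext (hKp _ (g i).2)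
  refine rk _ hKc hKp (fun w => ∏ i, g i ^ (w i).val) fun w w' hw => ?_
  set dd : Fin 4 → ℕ := fun i => (w i - w' i).val
  have hd : ∏ i, g i ^ dd i = 1 := by
    have e1 : ∀ i, g i ^ dd i = g i ^ (w i).val * (g i ^ (w' i).val)⁻¹ := fun i => by
      rw [eq_mul_inv_iff_mul_eq, ← pow_add]
      exact pow_congr (hgp i) (by simp [dd])
    simp only [e1, Finset.prod_mul_distrib, Finset.prod_inv_distrib]
    exact mul_inv_eq_one.2 hw
  rw [Fin.prod_univ_four] at hd
  have hd' : h₁ ^ dd 0 * x ^ dd 1 * z ^ dd 2 * r ^ dd 3 = 1 := congrArg Subtype.val hd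
  have hd0 : w 0 - w' 0 = 0 := by
    by_contra hne
    have h5 : h₁ ^ dd 0 ∈ N := by
      rw [mul_assoc (h₁ ^ dd 0), mul_assoc (h₁ ^ dd 0), mul_eq_one_iff_eq_inv] at hd'
      rw [hd']
      exact N.inv_mem (N.mul_mem (N.mul_mem (N.pow_mem (hAN hxA) _) (N.pow_mem (hAN hzA) _))
        (N.pow_mem (hAN hrA) _))
    have hcop : IsCoprime ((dd 0 : ℕ) : ℤ) (p : ℤ) := by
      rw [isCoprime_comm, (Nat.prime_iff_prime_int.1 hp.out).coprime_iff_not_dvd,
        ← ZMod.intCast_zmod_eq_zero_iff_dvd]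
      push_cast
      rwa [ZMod.natCast_zmod_val]
    obtain ⟨c₁, c₂, hc'⟩ := hcop
    refine hN ?_
    have h6 : h₁ ∈ N := by
      rw [← zpow_one h₁, ← hc', zpow_add, mul_comm c₁, mul_comm c₂, zpow_mul, zpow_mul,
        zpow_natCast, zpow_natCast, h1p', one_zpow, mul_one]
      exact N.zpow_mem h5 c₁
    have := N.mul_mem h6 (N.inv_mem (N.pow_mem huN a))
    simpa [h₁] using this
  have hdd0 : dd 0 = 0 := by simp [dd, hd0]
  rw [hdd0, pow_zero, one_mul] at hd'
  obtain ⟨-, h1, h2, h3⟩ := indep 0 (dd 1) (dd 2) (dd 3) (by rwa [pow_zero, one_mul])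
  funext i
  have hz : ∀ j, p ∣ dd j → w j = w' j := fun j hj => by
    rw [← CharP.cast_eq_zero_iff (ZMod p) p, ZMod.natCast_zmod_val, sub_eq_zero] at hj
    exact hj
  fin_cases i
  exacts [sub_eq_zero.1 hd0, hz 1 h1, hz 2 h2, hz 3 h3]

end Cfsg.Agent.Rank3Pearl80
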