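import Cfsg.Agent.Lib.Rank3Pearl80Ext
import Cfsg.Agent.Lib.Rank3Pearl80Weights

/-!
`N_S(E)` modulo a good subgroup `M` with `E / M` elementary abelian, and the size of `E / M`.
-/

set_option autoImplicit false
set_option linter.unusedSectionVars false
set_option linter.style.haveILetI false

namespace Cfsg.Agent.Rank3Pearl80

open scoped commutatorElement
open Cfsg.FusionSystem Cfsg.Agent.FusionSysBasic Cfsg.Agent.FusionSysSaturated
  Cfsg.Agent.FusionSysNormal Cfsg.Agent.FusionSysAlperin Cfsg.Agent.Rank3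

universe u

variable {Ω : Type u} [Group Ω]

/-- Powers modulo a normal subgroup depend only on the exponent modulo `p`. -/
theorem dvd_of_pow_mem {p : ℕ} [hp : Fact p.Prime] {K : Subgroup Ω} {y : Ω} (hyp : y ^ p ∈ K)
    (hy : y ∉ K) {i : ℕ} (hi : y ^ i ∈ K) : p ∣ i := by
  by_contra hne
  obtain ⟨a, b, hab⟩ := (Nat.isCoprime_iff_coprime.2 ((hp.out.coprime_iff_not_dvd.2 hne).symm))
  refine hy ?_
  rw [← zpow_one y, ← hab, zpow_add, mul_comm a, mul_comm b, zpow_mul, zpow_mul, zpow_natCast,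
    zpow_natCast]
  exact K.mul_mem (K.zpow_mem hi a) (K.zpow_mem hyp b)

variable {S : Subgroup Ω} {F : FusionSystem S} {p : ℕ} [Finite S] [Fact p.Prime]
  {E M : Subgroup Ω} {h : Ω}

namespace Good

variable (hx : NN F p E h) (hg : Good F p E h M)
  (hcom : ∀ a ∈ E, ∀ b ∈ E, ⁅a, b⁆ ∈ M) (hpow : ∀ a ∈ E, a ^ p ∈ M)

include hx hg

theorem hinv_inv {x : Ω} (hx' : x ∈ M) : cj h⁻¹ x ∈ M :=
  cj_mem_of_normalizer (Subgroup.inv_mem _
    (mem_normalizer_of_cj_le (hg.le.trans hx.le) hg.hinv)) hx'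

theorem normQ : ∀ k ∈ normalizerIn S E ⊔ Subgroup.zpowers h, ∀ y ∈ M, cj k y ∈ M := by
  have hle : normalizerIn S E ⊔ Subgroup.zpowers h ≤ Subgroup.normalizer (M : Set Ω) :=
    sup_le (fun n hn => mem_normalizer_of_cj_le (hg.le.trans hx.le)
        fun y hy => hg.cj_mem hx hn hy)
      (Subgroup.zpowers_le.2 (mem_normalizer_of_cj_le (hg.le.trans hx.le) hg.hinv))
  exact fun k hk y hy => cj_mem_of_normalizer (hle hk) hy

include hcom

theorem comm_conj {a b : Ω} (ha : a ∈ im E (cj h)) (hb : b ∈ im E (cj h)) : ⁅a, b⁆ ∈ M := by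
  have h1 := hcom _ (mem_im_cj.1 ha) _ (mem_im_cj.1 hb)
  have e : ⁅a, b⁆ = cj h ⁅cj h⁻¹ a, cj h⁻¹ b⁆ := by
    simp only [cj_apply, commutatorElement_def]; group
  rw [e]
  exact hg.hinv _ h1

theorem central_iff {n : Ω} :
    n ∈ E ⊓ im E (cj h) ↔ n ∈ normalizerIn S E ∧ ∀ y ∈ normalizerIn S E, ⁅n, y⁆ ∈ M := by
  constructor
  · intro hn
    refine ⟨hx.leN hn.1, fun y hy => ?_⟩
    obtain ⟨e₀, he₀, he₀'⟩ := hx.exists_conj_notMem
    have hx₀ : cj h e₀ ∈ im E (cj h) := apply_mem_im he₀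
    obtain ⟨e, he, k, rfl⟩ := hx.exists_eq (hx.conj_le hx₀) he₀' hy
    rw [show ⁅n, e * cj h e₀ ^ k⁆ = ⁅n, e⁆ * cj e ⁅n, cj h e₀ ^ k⁆ by
      simp only [cj_apply, commutatorElement_def]; group]
    exact M.mul_mem (hcom n hn.1 e he)
      (hg.cj_mem hx (hx.leN he) (hg.comm_conj hx hcom hn.2 (zpow_mem hx₀ k)))
  · rintro ⟨hn, hc⟩
    have key : ∀ m ∈ normalizerIn S E, (∀ y ∈ normalizerIn S E, ⁅m, y⁆ ∈ M) → m ∈ E :=
      fun m hm hcm => hg.mem_of_trivial hx hm fun e he => by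
        rw [inv_mul_cj, ← commutatorElement_inv]
        exact M.inv_mem (hcm _ (hx.leN (E.inv_mem he)))
    refine ⟨key n hn hc, mem_im_cj.2 (key _ (hx.cjhinv_memN hn) fun y hy => ?_)⟩
    have e : ⁅cj h⁻¹ n, y⁆ = cj h⁻¹ ⁅n, cj h y⁆ := by
      simp only [cj_apply, commutatorElement_def]; group
    rw [e]
    exact hg.hinv_inv hx (hc _ (hx.cjh_memN hy))

theorem cjh_central {t : Ω} (ht : t ∈ E ⊓ im E (cj h)) : cj h t ∈ E ⊓ im E (cj h) := by
  obtain ⟨htN, htc⟩ := (hg.central_iff hx hcom).1 ht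
  refine (hg.central_iff hx hcom).2 ⟨hx.cjh_memN htN, fun y hy => ?_⟩
  have e : ⁅cj h t, y⁆ = cj h ⁅t, cj h⁻¹ y⁆ := by
    simp only [cj_apply, commutatorElement_def]; group
  rw [e]
  exact hg.hinv _ (htc _ (hx.cjhinv_memN hy))

theorem conj_normal {n y : Ω} (hn : n ∈ normalizerIn S E) (hy : y ∈ im E (cj h)) :
    cj n y ∈ im E (cj h) := by
  rw [mem_im_cj]
  have e : cj h⁻¹ (cj n y) = cj (cj h⁻¹ n) (cj h⁻¹ y) := by simp only [cj_apply]; group
  rw [e]
  exact hx.cj_mem (hx.cjhinv_memN hn) (mem_im_cj.1 hy)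

include hpow

theorem pow_conj {y : Ω} (hy : y ∈ im E (cj h)) : y ^ p ∈ M := by
  have h1 := hg.hinv _ (hpow _ (mem_im_cj.1 hy))
  rwa [cj_apply h, cj_apply h⁻¹, inv_inv, ← conj_pow, show h * (h⁻¹ * y * h) * h⁻¹ = y by group]
    at h1

theorem pow_mem_N {n : Ω} (hn : n ∈ normalizerIn S E) : n ^ p ∈ M := by
  obtain ⟨e₀, he₀, he₀'⟩ := hx.exists_conj_notMem
  have hx₀ : cj h e₀ ∈ im E (cj h) := apply_mem_im he₀
  obtain ⟨e, he, k, rfl⟩ := hx.exists_eq (hx.conj_le hx₀) he₀' hn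
  set b := cj h e₀ ^ k
  have hb : b ∈ im E (cj h) := zpow_mem hx₀ k
  have hbN := hx.conj_le hb
  have hd : e⁻¹ * b * e * b⁻¹ ∈ E ⊓ im E (cj h) := by
    refine ⟨?_, ?_⟩
    · have := E.mul_mem (E.inv_mem he) (hx.cj_mem hbN he)
      simpa [cj_apply, mul_assoc] using this
    · have := (im E (cj h)).mul_mem (hg.conj_normal hx hcom (hx.leN (E.inv_mem he)) hb)
        ((im E (cj h)).inv_mem hb)
      simpa [cj_apply, mul_assoc] using this
  obtain ⟨hdN, hdc⟩ := (hg.central_iff hx hcom).1 hd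
  haveI := normal_subgroupOf (K := normalizerIn S E) fun k hk y hy => hg.cj_mem hx hk hy
  set q := QuotientGroup.mk' (M.subgroupOf (normalizerIn S E))
  have hqc : ∀ y (hy : y ∈ normalizerIn S E), Commute (q ⟨_, hdN⟩) (q ⟨y, hy⟩) := fun y hy => by
    rw [← commutatorElement_eq_one_iff_commute, ← map_commutatorElement,
      QuotientGroup.mk'_apply, QuotientGroup.eq_one_iff]
    exact hdc y hy
  have e0 := collect (h := q ⟨e, hx.leN he⟩) (u := q ⟨b, hbN⟩) (d := q ⟨_, hdN⟩) (c := 1)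
    (by
      rw [← map_mul, ← map_mul, ← map_mul]
      congr 1
      refine Subtype.ext ?_
      show b * e = e * (e⁻¹ * b * e * b⁻¹) * b
      group)
    (hqc _ _).symm (Commute.one_right _) (Commute.one_right _) (Commute.one_right _)
    (by rw [mul_one, (hqc _ _).eq]) p
  have hq1 : ∀ y (hy : y ∈ normalizerIn S E), y ^ p ∈ M → q ⟨y, hy⟩ ^ p = 1 := fun y hy hyp => by
    rw [← map_pow, QuotientGroup.mk'_apply, QuotientGroup.eq_one_iff]
    exact hyp
  rw [← map_mul, hq1 _ _ (hpow e he), hq1 _ _ (hg.pow_conj hx hcom hpow hb),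
    pow_congr (p := p) (m := 0) (hq1 _ hdN (hpow _ hd.1)) (by
      rw [Nat.cast_zero, CharP.cast_eq_zero_iff (ZMod p) p]
      exact prime_dvd_choose _ (by norm_num) (by have := hx.hp; omega)),
    pow_zero, one_pow, one_mul, one_mul, mul_one, ← map_pow, QuotientGroup.mk'_apply,
    QuotientGroup.eq_one_iff] at e0
  exact e0

end Good

namespace Tor

variable {x : Ω} {hxN : x ∈ normalizerIn S E} {u z : Ω} {R : Subgroup Ω}
  (hx : NN F p E h) (hg : Good F p E h M) (ht : Tor F p E h M x hxN u z R)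
  (hcom : ∀ a ∈ E, ∀ b ∈ E, ⁅a, b⁆ ∈ M) (hpow : ∀ a ∈ E, a ^ p ∈ M)

include hx hg ht hcom hpow

theorem indep_all {i j : ℕ} {r : Ω} (hr : r ∈ R) (he : u ^ i * (z ^ j * r) ∈ M) :
    p ∣ i ∧ p ∣ j ∧ r ∈ M := by
  have hzr : z ^ j * r ∈ im E (cj h) := (im E (cj h)).mul_mem (pow_mem ht.zT j) (ht.RT hr)
  have hui : u ^ i ∈ im E (cj h) := by
    have := (im E (cj h)).mul_mem (ht.RT (ht.MR he)) ((im E (cj h)).inv_mem hzr)
    rwa [mul_inv_cancel_right] at this
  have hi : p ∣ i := dvd_of_pow_mem (ht.RT (ht.MR (hpow u ht.uE))) ht.uT hui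
  have huM : u ^ i ∈ M := by
    obtain ⟨c, rfl⟩ := hi
    rw [pow_mul]
    exact M.pow_mem (hpow u ht.uE) c
  have h1 : z ^ j * r ∈ M := by
    have := M.mul_mem (M.inv_mem huM) he
    rwa [inv_mul_cancel_left] at this
  have hzj : z ^ j ∈ R := by
    have := R.mul_mem (ht.MR h1) (R.inv_mem hr)
    rwa [mul_inv_cancel_right] at this
  have hj := ht.indep j hzj
  refine ⟨hi, hj, ?_⟩
  obtain ⟨c, rfl⟩ := hj
  have h2 := M.mul_mem (M.inv_mem (show z ^ (p * c) ∈ M by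
    rw [pow_mul]; exact M.pow_mem (hpow z ht.zE) c)) h1
  rwa [inv_mul_cancel_left] at h2

theorem decomp_all {e : Ω} (he : e ∈ E) :
    ∃ i j : ℕ, ∃ r ∈ R, (u ^ i * (z ^ j * r))⁻¹ * e ∈ M := by
  have hE'N : im E (cj h) ≤ normalizerIn S E := hx.conj_le
  have hjn : im E (cj h) ⊔ Subgroup.zpowers u ≤ normalizerIn S E :=
    sup_le hE'N (Subgroup.zpowers_le.2 (hx.leN ht.uE))
  have heq : im E (cj h) ⊔ Subgroup.zpowers u = normalizerIn S E := by
    haveI := hx.finN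
    refine Subgroup.eq_of_le_of_card_ge hjn ?_
    rw [hx.cardN, ← hx.card_conj]
    exact mul_card_le_of_lt hx.hS (hjn.trans inf_le_left)
      (lt_of_le_not_ge le_sup_left fun e =>
        ht.uT (e (Subgroup.mem_sup_right (Subgroup.mem_zpowers _))))
  have hen := hx.leN he
  rw [← heq, sup_comm, ← SetLike.mem_coe, Subgroup.coe_mul_of_left_le_normalizer_right _ _
    (Subgroup.zpowers_le.mpr (mem_normalizer_of_cj_le (hE'N.trans inf_le_left)
      fun y hy => hg.conj_normal hx hcom (hx.leN ht.uE) hy))] at hen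
  obtain ⟨v, ⟨k, rfl⟩, t, htt, rfl⟩ := Set.mem_mul.mp hen
  have htE : t ∈ E := by
    have := E.mul_mem (E.inv_mem (E.zpow_mem ht.uE k)) he
    rwa [inv_mul_cancel_left] at this
  obtain ⟨j, r, hr, hd⟩ := ht.decomp t ⟨htE, htt⟩
  obtain ⟨i, hi⟩ : ∃ i : ℕ, (u ^ i)⁻¹ * u ^ k ∈ M := by
    have hmod : 0 ≤ k % p := Int.emod_nonneg _ (by exact_mod_cast (Fact.out : p.Prime).ne_zero)
    refine ⟨(k % p).toNat, ?_⟩
    rw [← zpow_natCast, Int.toNat_of_nonneg hmod, ← zpow_neg, ← zpow_add,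
      show -(k % p) + k = (p : ℤ) * (k / p) by rw [Int.emod_def]; ring, zpow_mul, zpow_natCast]
    exact M.zpow_mem (hpow u ht.uE) _
  refine ⟨i, j, r, hr, ?_⟩
  have h1 := hg.cj_mem hx (hx.leN (E.inv_mem (E.mul_mem (E.pow_mem ht.zE j) (ht.RE hr)))) hi
  have h2 := M.mul_mem h1 hd
  rw [cj_apply, inv_inv] at h2
  rwa [show (z ^ j * r)⁻¹ * ((u ^ i)⁻¹ * u ^ k) * (z ^ j * r) * ((z ^ j * r)⁻¹ * t) =
    (u ^ i * (z ^ j * r))⁻¹ * (u ^ k * t) by group] at h2

theorem eq_mod_of_congr {y : Ω} (hy : y ∈ E) {a b : ℕ} (hab : (a : ZMod p) = b) :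
    (y ^ a)⁻¹ * y ^ b ∈ M := by
  have h1 : ∀ a : ℕ, (y ^ (a % p))⁻¹ * y ^ a ∈ M := fun a => by
    nth_rewrite 2 [← Nat.mod_add_div a p]
    rw [pow_add, inv_mul_cancel_left, pow_mul]
    exact M.pow_mem (hpow y hy) _
  rw [ZMod.natCast_eq_natCast_iff'] at hab
  have := M.mul_mem (M.inv_mem (h1 a)) (h1 b)
  rw [hab, mul_inv_rev, inv_inv, mul_assoc, mul_inv_cancel_left] at this
  exact this

theorem card_le : Nat.card E ≤ p ^ 3 * Nat.card M :=
  section_card hx.rk hx.le hg.le (hg.normE hx)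
    (fun a ha b hb => by
      have := hcom a ha b hb
      rwa [commutatorElement_def] at this) hpow

theorem card_two (hR : R ≤ M) : Nat.card E = p ^ 2 * Nat.card M := by
  haveI := hx.finE
  haveI := normal_subgroupOf (hg.normE hx)
  set q := QuotientGroup.mk' (M.subgroupOf E)
  let f : ZMod p × ZMod p → E ⧸ M.subgroupOf E := fun v =>
    q (⟨u, ht.uE⟩ ^ v.1.val * ⟨z, ht.zE⟩ ^ v.2.val)
  have hinj : Function.Injective f := by
    rintro ⟨a, b⟩ ⟨a', b'⟩ e
    have h1 : (u ^ a.val * z ^ b.val)⁻¹ * (u ^ a'.val * z ^ b'.val) ∈ M := by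
      have := (QuotientGroup.eq (s := M.subgroupOf E)).1 e
      simpa [Subgroup.mem_subgroupOf] using this
    have hz' : z ^ b.val ∈ im E (cj h) := pow_mem ht.zT _
    have hi : (u ^ a.val)⁻¹ * u ^ a'.val ∈ im E (cj h) := by
      have := (im E (cj h)).mul_mem ((im E (cj h)).mul_mem hz' (ht.RT (ht.MR h1)))
        ((im E (cj h)).inv_mem (pow_mem ht.zT b'.val))
      simpa [mul_inv_rev, mul_assoc] using this
    have hi' : u ^ ((a' - a : ZMod p).val) ∈ im E (cj h) := by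
      have h2 := ht.eq_mod_of_congr hx hg hcom hpow ht.uE (a := a.val + (a' - a : ZMod p).val)
        (b := a'.val) (by simp)
      have h3 := (im E (cj h)).mul_mem hi ((im E (cj h)).inv_mem (ht.RT (ht.MR h2)))
      simpa [pow_add, mul_inv_rev, mul_assoc] using h3
    have ha : a = a' := by
      have := dvd_of_pow_mem (ht.RT (ht.MR (hpow u ht.uE))) ht.uT hi'
      rw [← CharP.cast_eq_zero_iff (ZMod p) p, ZMod.natCast_zmod_val, sub_eq_zero] at this
      exact this.symm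
    subst ha
    have h4 : (z ^ b.val)⁻¹ * z ^ b'.val ∈ M := by simpa [mul_inv_rev, mul_assoc] using h1
    have h2 := ht.eq_mod_of_congr hx hg hcom hpow ht.zE (a := b.val + (b' - b : ZMod p).val)
      (b := b'.val) (by simp)
    have h3 : z ^ ((b' - b : ZMod p).val) ∈ M := by
      have := M.mul_mem h4 (M.inv_mem h2)
      simpa [pow_add, mul_inv_rev, mul_assoc] using this
    have := ht.indep _ (ht.MR h3)
    rw [← CharP.cast_eq_zero_iff (ZMod p) p, ZMod.natCast_zmod_val, sub_eq_zero] at this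
    rw [this]
  have hsurj : Function.Surjective f := by
    intro y
    obtain ⟨⟨e, he⟩, rfl⟩ := QuotientGroup.mk_surjective y
    obtain ⟨i, j, r, hr, hd⟩ := ht.decomp_all hx hg hcom hpow he
    refine ⟨((i : ZMod p), (j : ZMod p)), (QuotientGroup.eq (s := M.subgroupOf E)).2 ?_⟩
    rw [Subgroup.mem_subgroupOf, Subgroup.coe_mul, Subgroup.coe_inv, Subgroup.coe_mul,
      SubgroupClass.coe_pow, SubgroupClass.coe_pow]
    have hu := ht.eq_mod_of_congr hx hg hcom hpow ht.uE (a := (i : ZMod p).val) (b := i) (by simp)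
    have hz := ht.eq_mod_of_congr hx hg hcom hpow ht.zE (a := (j : ZMod p).val) (b := j) (by simp)
    have h1 := hg.cj_mem hx (hx.leN (E.inv_mem (E.pow_mem ht.zE (j : ZMod p).val))) hu
    have h2 := M.mul_mem (M.mul_mem (M.mul_mem h1 hz) (hR hr)) hd
    rw [cj_apply, inv_inv] at h2
    convert h2 using 1
    group
  have hcard := Nat.card_congr (Equiv.ofBijective f ⟨hinj, hsurj⟩)
  rw [Nat.card_prod, Nat.card_zmod] at hcard
  rw [(M.subgroupOf E).card_eq_card_quotient_mul_card_subgroup, ← hcard,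
    Nat.card_congr (Subgroup.subgroupOfEquivOfLe hg.le).toEquiv, sq]

theorem three {r : Ω} (hr : r ∈ R) (hrM : r ∉ M) {e : Ω} (he : e ∈ E) :
    ∃ i j l : ℕ, (u ^ i * (z ^ j * r ^ l))⁻¹ * e ∈ M := by
  haveI := hx.finE
  haveI := normal_subgroupOf (hg.normE hx)
  set q := QuotientGroup.mk' (M.subgroupOf E)
  let f : ZMod p × ZMod p × ZMod p → E ⧸ M.subgroupOf E := fun v =>
    q (⟨u, ht.uE⟩ ^ v.1.val * (⟨z, ht.zE⟩ ^ v.2.1.val * ⟨r, ht.RE hr⟩ ^ v.2.2.val))
  have hqc : ∀ a b : E, Commute (q a) (q b) := fun a b => by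
    rw [← commutatorElement_eq_one_iff_commute, ← map_commutatorElement,
      QuotientGroup.mk'_apply, QuotientGroup.eq_one_iff]
    exact hcom a a.2 b b.2
  have hqp : ∀ a : E, q a ^ p = 1 := fun a => by
    rw [← map_pow, QuotientGroup.mk'_apply, QuotientGroup.eq_one_iff]
    exact hpow a a.2
  have hinj : Function.Injective f := by
    rintro ⟨a, b, c⟩ ⟨a', b', c'⟩ e
    have e0 : ∀ (y : E) (s s' : ZMod p),
        q y ^ (s' - s).val = q y ^ s'.val * (q y ^ s.val)⁻¹ := fun y s s' => by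
      rw [eq_mul_inv_iff_mul_eq, ← pow_add]
      exact pow_congr (hqp y) (by simp)
    have e1 : q (⟨u, ht.uE⟩ ^ (a' - a).val *
        (⟨z, ht.zE⟩ ^ (b' - b).val * ⟨r, ht.RE hr⟩ ^ (c' - c).val)) = 1 := by
      simp only [f, map_mul, map_pow] at e
      rw [map_mul, map_mul, map_pow, map_pow, map_pow, e0, e0, e0]
      letI : CommGroup (E ⧸ M.subgroupOf E) :=
        { (inferInstance : Group (E ⧸ M.subgroupOf E)) with
          mul_comm := fun A B => by
            obtain ⟨A, rfl⟩ := QuotientGroup.mk_surjective A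
            obtain ⟨B, rfl⟩ := QuotientGroup.mk_surjective B
            exact hqc A B }
      rw [← mul_inv_eq_one.2 e.symm]
      simp only [mul_inv_rev]
      ac_rfl
    rw [QuotientGroup.mk'_apply, QuotientGroup.eq_one_iff] at e1
    obtain ⟨h1, h2, h3⟩ := ht.indep_all hx hg hcom hpow (R.pow_mem hr _) e1
    have h4 := dvd_of_pow_mem (hpow r (ht.RE hr)) hrM h3
    have hz : ∀ s s' : ZMod p, p ∣ (s' - s).val → s = s' := fun s s' hd => by
      rw [← CharP.cast_eq_zero_iff (ZMod p) p, ZMod.natCast_zmod_val, sub_eq_zero] at hd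
      exact hd.symm
    rw [hz a a' h1, hz b b' h2, hz c c' h4]
  have hbij : Function.Bijective f := by
    refine hinj.bijective_of_nat_card_le ?_
    rw [Nat.card_prod, Nat.card_prod, Nat.card_zmod]
    have h1 := ht.card_le hx hg hcom hpow
    rw [(M.subgroupOf E).card_eq_card_quotient_mul_card_subgroup,
      Nat.card_congr (Subgroup.subgroupOfEquivOfLe hg.le).toEquiv] at h1
    haveI : Finite M := Finite.of_injective _ (Subgroup.inclusion_injective hg.le)
    exact (Nat.le_of_mul_le_mul_right h1 Nat.card_pos).trans (le_of_eq (by ring))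
  obtain ⟨⟨a, b, c⟩, hf⟩ := hbij.2 (q ⟨e, he⟩)
  exact ⟨a.val, b.val, c.val, (QuotientGroup.eq (s := M.subgroupOf E)).1 hf⟩

end Tor

end Cfsg.Agent.Rank3Pearl80
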