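import Cfsg.Agent.Lib.Rank3Pearl80Base

/-!
The natural plane and a torus of `O^{p'}(Aut_F(E))` on an elementary abelian section `E / M` above
a good subgroup `M`, for an essential subgroup `E` that is not normal in `S`.
-/

set_option autoImplicit false
set_option linter.unusedSectionVars false
set_option linter.style.haveILetI false

namespace Cfsg.Agent.Rank3Pearl80

open scoped commutatorElement
open Cfsg.FusionSystem Cfsg.Agent.FusionSysBasic Cfsg.Agent.FusionSysSaturated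
  Cfsg.Agent.FusionSysNormal Cfsg.Agent.FusionSysAlperin Cfsg.Agent.Rank3
open Cfsg.Agent.Rank3Tv34

universe u

variable {Ω : Type u} [Group Ω] {S : Subgroup Ω}

/-- A natural plane `⟨u, z⟩` of `E / M`, with complement `R`, and its torus. -/
structure Tor (F : FusionSystem S) (p : ℕ) (E : Subgroup Ω) (h : Ω) (M : Subgroup Ω) (x : Ω)
    (hxN : x ∈ normalizerIn S E) (u z : Ω) (R : Subgroup Ω) : Prop where
  uE : u ∈ E
  uT : u ∉ im E (cj h)
  zE : z ∈ E
  zT : z ∈ im E (cj h)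
  zM : z ∉ M
  cx_u : (u * z)⁻¹ * cj x u ∈ M
  RE : R ≤ E
  RT : R ≤ im E (cj h)
  MR : M ≤ R
  indep : ∀ j : ℕ, z ^ j ∈ R → p ∣ j
  decomp : ∀ e ∈ E ⊓ im E (cj h), ∃ j : ℕ, ∃ r ∈ R, (z ^ j * r)⁻¹ * e ∈ M
  torus : ∀ s : ZMod p, s ≠ 0 → ∃ τ ∈ opp F p E,
    (u ^ s.val)⁻¹ * afun τ u ∈ M ∧ (z ^ s⁻¹.val)⁻¹ * afun τ z ∈ M ∧
      (∀ r ∈ R, r⁻¹ * afun τ r ∈ M) ∧
      ∀ n : ℕ, (n : ZMod p) = s⁻¹ * s⁻¹ →
        τ * nHom S E ⟨x, hxN⟩ * τ⁻¹ * (nHom S E ⟨x, hxN⟩ ^ n)⁻¹ ∈ Inn E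

variable {F : FusionSystem S} {p : ℕ} [Finite S] [Fact p.Prime] {E M : Subgroup Ω} {h : Ω}

set_option maxHeartbeats 1600000 in
theorem exists_tor (hx : NN F p E h) (hg : Good F p E h M)
    (hcom : ∀ a ∈ E, ∀ b ∈ E, ⁅a, b⁆ ∈ M) (hpow : ∀ a ∈ E, a ^ p ∈ M) (hlt : M < E) {x : Ω}
    (hxE' : x ∈ im E (cj h)) (hxE : x ∉ E) :
    ∃ u z R, Tor F p E h M x (hx.conj_le hxE') u z R := by
  classical
  haveI := hx.finE
  haveI := finite_autGroup (F := F) E
  set hxN := hx.conj_le hxE'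
  set M' := M.subgroupOf E
  haveI := normal_subgroupOf (hg.normE hx)
  have hcomm : ∀ a b : E ⧸ M', a * b = b * a := by
    intro a b
    obtain ⟨a, rfl⟩ := QuotientGroup.mk_surjective a
    obtain ⟨b, rfl⟩ := QuotientGroup.mk_surjective b
    rw [← QuotientGroup.mk_mul, ← QuotientGroup.mk_mul, QuotientGroup.eq, Subgroup.mem_subgroupOf]
    have := hcom _ (E.inv_mem b.2) _ (E.inv_mem a.2)
    simpa [commutatorElement_def, mul_inv_rev, mul_assoc] using this
  have hexp : ∀ a : E ⧸ M', a ^ p = 1 := by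
    intro a
    obtain ⟨a, rfl⟩ := QuotientGroup.mk_surjective a
    rw [← QuotientGroup.mk_pow, QuotientGroup.eq_one_iff, Subgroup.mem_subgroupOf]
    exact hpow _ a.2
  letI : CommGroup (E ⧸ M') := { (inferInstance : Group (E ⧸ M')) with mul_comm := hcomm }
  haveI : Module (ZMod p) (Additive (E ⧸ M')) :=
    AddCommGroup.zmodModule fun w => by
      apply Additive.toMul.injective
      rw [toMul_nsmul]
      exact hexp w.toMul
  haveI : FiniteDimensional (ZMod p) (Additive (E ⧸ M')) := Module.Finite.of_finite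
  let V := Additive (E ⧸ M')
  -- classes
  let cl : E → V := fun e => Additive.ofMul (e : E ⧸ M')
  have cl_surj : Function.Surjective cl := fun v => by
    obtain ⟨e, he⟩ := QuotientGroup.mk_surjective (Additive.toMul v)
    exact ⟨e, Additive.toMul.injective he⟩
  have cl_eq : ∀ a b : E, cl a = cl b ↔ (b : Ω)⁻¹ * a ∈ M := fun a b => by
    show Additive.ofMul _ = Additive.ofMul _ ↔ _
    rw [Additive.ofMul.injective.eq_iff, eq_comm, QuotientGroup.eq, Subgroup.mem_subgroupOf]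
    rfl
  have cl_mul : ∀ a b : E, cl (a * b) = cl a + cl b := fun _ _ => rfl
  have cl_one : cl 1 = 0 := rfl
  have cl_pow : ∀ (a : E) (n : ℕ), cl (a ^ n) = (n : ZMod p) • cl a := fun a n => by
    rw [Nat.cast_smul_eq_nsmul]
    rfl
  have cl_zero : ∀ a : E, cl a = 0 ↔ (a : Ω) ∈ M := fun a => by
    rw [← cl_one, cl_eq, Subgroup.coe_one, inv_one, one_mul]
  -- the representation
  have hMap : ∀ α : opp F p E, M'.map (α : MulAut E).toMonoidHom = M' := by
    intro α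
    refine Subgroup.eq_of_le_of_card_ge ?_
      (le_of_eq (Subgroup.card_map_of_injective (α : MulAut E).injective).symm)
    rintro _ ⟨a, ha, rfl⟩
    have := hg.inv _ α.2 _ (show (a : Ω) ∈ M from ha)
    rw [afun_coe] at this
    exact this
  let r₀ : opp F p E →* MulAut (E ⧸ M') :=
    { toFun := fun α => QuotientGroup.congr M' M' (α : MulAut E) (hMap α)
      map_one' := MulEquiv.ext fun y => by
        obtain ⟨a, rfl⟩ := QuotientGroup.mk_surjective y
        rfl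
      map_mul' := fun α β => MulEquiv.ext fun y => by
        obtain ⟨a, rfl⟩ := QuotientGroup.mk_surjective y
        rfl }
  let ρL : opp F p E →* (V ≃ₗ[ZMod p] V) := (linHom p).comp r₀
  have hρL : ∀ (α : opp F p E) (e : E), ρL α (cl e) = cl ((α : MulAut E) e) := fun _ _ => rfl
  let G := ρL.range
  let π : opp F p E →* G := ρL.rangeRestrict
  have hπs : Function.Surjective π := ρL.rangeRestrict_surjective
  let ρ : G →* (V ≃ₗ[ZMod p] V) := G.subtype
  have hρ : Function.Injective ρ := G.subtype_injective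
  haveI : Finite G := Finite.of_surjective π hπs
  have hker : ∀ α : opp F p E, π α = 1 ↔ (α : MulAut E) ∈ Inn E := by
    intro α
    constructor
    · intro h1
      refine hg.inn_of_trivial hx α.2 fun e he => ?_
      have h2 : ρL α (cl ⟨e, he⟩) = cl ⟨e, he⟩ := by
        rw [show ρL α = ρ (π α) from rfl, h1, rho_one]
      rw [hρL, cl_eq] at h2
      rwa [afun_apply _ he]
    · rintro ⟨g, hgg⟩
      refine eq_of_rho hρ fun v => ?_
      obtain ⟨e, rfl⟩ := cl_surj v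
      rw [rho_one]
      show ρL α (cl e) = cl e
      rw [hρL, cl_eq, ← hgg, MulAut.conj_apply]
      have := hcom _ (E.inv_mem e.2) _ g.2
      simpa [commutatorElement_def, mul_assoc] using this
  -- the transvection
  let c : opp F p E := ⟨nHom S E ⟨x, hxN⟩, hx.cAut_opp hxN⟩
  have hc : ∀ e : E, ρ (π c) (cl e) = cl (nHom S E ⟨x, hxN⟩ e) := fun e => hρL c e
  have hE'com : ∀ a ∈ im E (cj h), ∀ b ∈ im E (cj h), ⁅a, b⁆ ∈ M := by
    intro a ha b hb
    have h1 := hcom _ (mem_im_cj.1 ha) _ (mem_im_cj.1 hb)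
    have e : ⁅a, b⁆ = cj h ⁅cj h⁻¹ a, cj h⁻¹ b⁆ := by
      simp only [cj_apply, commutatorElement_def]; group
    rw [e]
    exact hg.hinv _ h1
  have hE'n : ∀ n ∈ normalizerIn S E, ∀ y ∈ im E (cj h), cj n y ∈ im E (cj h) := by
    intro n hn y hy
    rw [mem_im_cj]
    have e : cj h⁻¹ (cj n y) = cj (cj h⁻¹ n) (cj h⁻¹ y) := by simp only [cj_apply]; group
    rw [e]
    exact hx.cj_mem (hx.cjhinv_memN hn) (mem_im_cj.1 hy)
  have hfixT : ∀ e : E, (e : Ω) ∈ im E (cj h) → ρ (π c) (cl e) = cl e := fun e he => by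
    rw [hc, cl_eq, ← afun_coe, afun_nHom _ e.2, inv_mul_cj]
    exact hE'com _ ((im E (cj h)).inv_mem he) _ hxE'
  obtain ⟨u₀, hu₀, hu₀'⟩ : ∃ e ∈ E, e ∉ im E (cj h) := by
    by_contra hcon
    push Not at hcon
    haveI := finite_of_le ((hx.conj_le).trans (inf_le_left : normalizerIn S E ≤ S))
    exact hx.conj_ne (Subgroup.eq_of_le_of_card_ge hcon hx.card_conj.le).symm
  set T := E ⊓ im E (cj h)
  have hTidx : ∀ e ∈ E, ∃ t ∈ T, ∃ i : ℤ, e = t * u₀ ^ i := by
    intro e he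
    have hE'N : im E (cj h) ≤ normalizerIn S E := hx.conj_le
    have hjn : im E (cj h) ⊔ Subgroup.zpowers u₀ ≤ normalizerIn S E :=
      sup_le hE'N (Subgroup.zpowers_le.2 (hx.leN hu₀))
    have heq : im E (cj h) ⊔ Subgroup.zpowers u₀ = normalizerIn S E := by
      haveI := hx.finN
      refine Subgroup.eq_of_le_of_card_ge hjn ?_
      rw [hx.cardN, ← hx.card_conj]
      exact mul_card_le_of_lt hx.hS (hjn.trans inf_le_left)
        (lt_of_le_not_ge le_sup_left fun e =>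
          hu₀' (e (Subgroup.mem_sup_right (Subgroup.mem_zpowers _))))
    have hen := hx.leN he
    rw [← heq, ← SetLike.mem_coe, Subgroup.coe_mul_of_right_le_normalizer_left _ _
      (Subgroup.zpowers_le.mpr (mem_normalizer_of_cj_le (hE'N.trans inf_le_left)
        (hE'n u₀ (hx.leN hu₀))))] at hen
    obtain ⟨t, ht, z, ⟨k, rfl⟩, rfl⟩ := Set.mem_mul.mp hen
    refine ⟨t, ⟨?_, ht⟩, k, rfl⟩
    have := E.mul_mem he (E.inv_mem (E.zpow_mem hu₀ k))
    rwa [mul_inv_cancel_right] at this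
  let N₀ : V →ₗ[ZMod p] V := (ρ (π c)).toLinearMap - LinearMap.id
  have hN₀ : ∀ v, N₀ v = ρ (π c) v - v := fun _ => rfl
  set U₀ := cl ⟨u₀, hu₀⟩
  set P := N₀ U₀
  have hrange : ∀ v, N₀ v ∈ (ZMod p ∙ P) := by
    intro v
    obtain ⟨⟨e, he⟩, rfl⟩ := cl_surj v
    obtain ⟨t, ht, i, rfl⟩ := hTidx e he
    have e1 : cl ⟨t * u₀ ^ i, he⟩ = cl ⟨t, ht.1⟩ + (i : ZMod p) • U₀ := by
      rw [Int.cast_smul_eq_zsmul]
      rfl
    rw [e1, map_add, map_smul, hN₀ (cl ⟨t, ht.1⟩), hfixT ⟨t, ht.1⟩ ht.2, sub_self, zero_add]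
    exact Submodule.smul_mem _ _ (Submodule.mem_span_singleton_self _)
  have hmove : π c ≠ 1 := fun e1 => hxE (mem_of_nHom_mem_inn hx.le
    (centralizerIn_le_of_centric hx.ess.1) ⟨x, hxN⟩ ((hker c).1 e1))
  have hP0 : P ≠ 0 := fun e => hmove (eq_of_rho hρ fun v => by
    have h1 := hrange v
    rw [e, Submodule.span_zero_singleton, Submodule.mem_bot, hN₀, sub_eq_zero] at h1
    rw [h1, rho_one])
  obtain ⟨⟨z₀, hz₀⟩, hz₀P, hz₀'⟩ : ∃ e : E, cl e = P ∧ (e : Ω) ∈ im E (cj h) := by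
    refine ⟨⟨u₀, hu₀⟩⁻¹ * nHom S E ⟨x, hxN⟩ ⟨u₀, hu₀⟩, ?_, ?_⟩
    · rw [cl_mul]
      show -U₀ + cl _ = N₀ U₀
      rw [hN₀, hc, sub_eq_neg_add]
    · rw [Subgroup.coe_mul, Subgroup.coe_inv, ← afun_apply _ hu₀, afun_nHom _ hu₀]
      have h1 : cj u₀⁻¹ x ∈ im E (cj h) := hE'n _ (hx.leN (E.inv_mem hu₀)) _ hxE'
      have h2 := (im E (cj h)).mul_mem h1 ((im E (cj h)).inv_mem hxE')
      simpa [cj_apply, mul_assoc] using h2
  have hPfix : N₀ P = 0 := by
    rw [hN₀, ← hz₀P, hfixT ⟨z₀, hz₀⟩ hz₀', sub_self]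
  obtain ⟨ψ, hψ⟩ : ∃ ψ : V →ₗ[ZMod p] ZMod p, ψ P = 1 := by
    obtain ⟨ψ, hψ⟩ : ∃ ψ : Module.Dual (ZMod p) V, ψ P ≠ 0 := by
      by_contra h
      push Not at h
      exact hP0 ((Module.forall_dual_apply_eq_zero_iff (ZMod p) P).1 h)
    exact ⟨(ψ P)⁻¹ • ψ, by simp [hψ]⟩
  set φ := ψ.comp N₀
  have hφN : ∀ w, N₀ w = φ w • P := fun w => by
    obtain ⟨a, ha⟩ := Submodule.mem_span_singleton.1 (hrange w)
    rw [LinearMap.comp_apply, ← ha, map_smul, hψ, smul_eq_mul, mul_one]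
  have ht : Tv ρ (π c) P φ := by
    refine ⟨hP0, fun e => ?_, ?_, fun w => ?_⟩
    · have h1 : φ U₀ = 1 := hψ
      rw [e] at h1
      exact one_ne_zero h1.symm
    · show ψ (N₀ P) = 0
      rw [hPfix, map_zero]
    · rw [← hφN, hN₀]; abel
  have hφT : ∀ e : E, (e : Ω) ∈ im E (cj h) → φ (cl e) = 0 := fun e he => by
    show ψ (N₀ (cl e)) = 0
    rw [hN₀, hfixT e he, sub_self, map_zero]
  have hTφ : ∀ e : E, φ (cl e) = 0 → (e : Ω) ∈ im E (cj h) := by
    rintro ⟨e, he⟩ h0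
    obtain ⟨t, ht', i, rfl⟩ := hTidx e he
    have e1 : cl ⟨t * u₀ ^ i, he⟩ = cl ⟨t, ht'.1⟩ + (i : ZMod p) • U₀ := by
      rw [Int.cast_smul_eq_zsmul]
      rfl
    rw [e1, map_add, map_smul, hφT ⟨t, ht'.1⟩ ht'.2, zero_add, show φ U₀ = 1 from hψ,
      smul_eq_mul, mul_one, ZMod.intCast_zmod_eq_zero_iff_dvd] at h0
    obtain ⟨k, rfl⟩ := h0
    refine (im E (cj h)).mul_mem ht'.2 ?_
    have hpE' : u₀ ^ p ∈ im E (cj h) := by
      rw [mem_im_cj]
      exact hg.le (by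
        have := (mem_normalizer_of_cj_le (hg.le.trans hx.le) hg.hinv)
        exact cj_mem_of_normalizer (Subgroup.inv_mem _ this) (hpow _ hu₀))
    rw [zpow_mul, zpow_natCast]
    exact zpow_mem hpE' k
  -- the Sylow subgroups of the image have order `p`
  have himg : ∀ α : opp F p E, (α : MulAut E) ∈ autInducedBy S E →
      π α ∈ Subgroup.zpowers (π c) := by
    intro α hα
    obtain ⟨n, hn, hnn, he⟩ := mem_autInducedBy.1 hα
    obtain ⟨e, he', k, rfl⟩ := hx.exists_eq hxN hxE (y := n) ⟨hn, hnn⟩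
    refine ⟨k, ?_⟩
    have e1 : (α : MulAut E) = nHom S E ⟨e, hx.leN he'⟩ * nHom S E ⟨x, hxN⟩ ^ k := by
      rw [← map_zpow, ← map_mul]
      exact afun_ext fun y hy => by rw [he y hy, afun_nHom _ hy]; rfl
    have e2 : α = ⟨nHom S E ⟨e, hx.leN he'⟩, hx.cAut_opp _⟩ * c ^ k := Subtype.ext e1
    show π c ^ k = π α
    have e3 : π ⟨nHom S E ⟨e, hx.leN he'⟩, hx.cAut_opp _⟩ = 1 := by
      refine (hker _).2 ?_
      rw [← autInducedBy_self, mem_autInducedBy]
      exact ⟨e, he', Subgroup.le_normalizer he', fun y hy => afun_nHom _ hy⟩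
    rw [e2, map_mul, map_zpow, e3, one_mul]
  have hsyl : SylOne p G := by
    intro a b ha ha1 hb hb1 hab
    obtain ⟨T₀, hT₀⟩ := hx.sylIn_opp
    set Tb := T₀.mapSurjective hπs
    have hTb : Nat.card Tb ≤ p := by
      refine (Subgroup.card_le_of_le (H := (Tb : Subgroup G)) (K := Subgroup.zpowers (π c)) ?_).trans ?_
      · rw [Sylow.coe_mapSurjective, hT₀]
        rintro _ ⟨α, hα, rfl⟩
        exact himg α hα
      · rw [Nat.card_zpowers, ht.order hρ]
    have hcl : ∀ y ∈ Subgroup.closure ({a, b} : Set G), y ^ p = 1 := by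
      refine elem_closure ?_ ?_
      · rintro y (rfl | rfl) w (rfl | rfl)
        exacts [rfl, hab.eq, hab.eq.symm, rfl]
      · rintro y (rfl | rfl) <;> assumption
    obtain ⟨Q, hQ⟩ := (show IsPGroup p (Subgroup.closure ({a, b} : Set G)) from fun y =>
      ⟨1, Subtype.ext (by rw [pow_one]; exact hcl y y.2)⟩).exists_le_sylow
    have hQc : Nat.card Q ≤ p := by
      rwa [Sylow.card_eq_multiplicity, ← Sylow.card_eq_multiplicity Tb]
    have heq : Subgroup.zpowers a = (Q : Subgroup G) :=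
      Subgroup.eq_of_le_of_card_ge (Subgroup.zpowers_le.2 (hQ (Subgroup.subset_closure (by simp))))
        (by rwa [Nat.card_zpowers, orderOf_eq_prime ha ha1])
    rw [heq]
    exact hQ (Subgroup.subset_closure (by simp))
  -- the centre moves
  obtain ⟨g₀, hg₀⟩ : ∃ g, ρ g P ∉ (ZMod p ∙ P) := by
    by_contra hall
    push Not at hall
    let Zs : Subgroup Ω := Subgroup.closure ({z₀} ∪ (M : Set Ω))
    have hMZ : M ≤ Zs := fun m hm => Subgroup.subset_closure (Or.inr hm)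
    have hZsE : Zs ≤ E := (Subgroup.closure_le _).2 (Set.union_subset (by simpa using hz₀) hg.le)
    have hmemZ : ∀ e : E, (e : Ω) ∈ Zs ↔ cl e ∈ (ZMod p ∙ P) := by
      intro e
      constructor
      · intro he
        let L : Subgroup Ω :=
          { carrier := {y | ∃ hy : y ∈ E, cl ⟨y, hy⟩ ∈ (ZMod p ∙ P)}
            one_mem' := ⟨E.one_mem, Submodule.zero_mem _⟩
            mul_mem' := fun {y w} ⟨hy, hy'⟩ ⟨hw, hw'⟩ =>
              ⟨E.mul_mem hy hw, Submodule.add_mem _ hy' hw'⟩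
            inv_mem' := fun {y} ⟨hy, hy'⟩ => ⟨E.inv_mem hy, Submodule.neg_mem _ hy'⟩ }
        have hle : Zs ≤ L := by
          refine (Subgroup.closure_le _).2 ?_
          rintro y (rfl | hy)
          · exact ⟨hz₀, hz₀P.symm ▸ Submodule.mem_span_singleton_self _⟩
          · refine ⟨hg.le hy, ?_⟩
            rw [(cl_zero ⟨y, hg.le hy⟩).2 hy]
            exact Submodule.zero_mem _
        exact (hle he).2
      · intro he
        obtain ⟨a, ha⟩ := Submodule.mem_span_singleton.1 he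
        rw [← hz₀P, ← ZMod.natCast_zmod_val a, ← cl_pow] at ha
        have h1 := (cl_eq e ((⟨z₀, hz₀⟩ : E) ^ a.val)).1 ha.symm
        rw [Subgroup.coe_pow] at h1
        have h2 := Zs.mul_mem (Zs.pow_mem (Subgroup.subset_closure (Or.inl rfl) : z₀ ∈ Zs) a.val)
          (hMZ h1)
        rwa [mul_inv_cancel_left] at h2
    have hZinv : InvBy (opp F p E) Zs := by
      intro α hα y hy
      have hyE := hZsE hy
      rw [afun_apply α hyE, hmemZ]
      obtain ⟨a, ha⟩ := Submodule.mem_span_singleton.1 ((hmemZ ⟨y, hyE⟩).1 hy)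
      have h1 := hρL ⟨α, hα⟩ ⟨y, hyE⟩
      rw [← h1, ← ha, map_smul]
      exact Submodule.smul_mem _ _ (hall (π ⟨α, hα⟩))
    have h1 := hx.trivial_of_unmoved hZsE hMZ hg.inv hZinv fun n hn w hw => by
      have hwE := hZsE hw
      obtain ⟨k, hk⟩ := himg ⟨nHom S E ⟨n, hn⟩, hx.cAut_opp hn⟩ (hx.cAut_mem hn)
      replace hk : π c ^ k = π ⟨nHom S E ⟨n, hn⟩, hx.cAut_opp hn⟩ := hk
      obtain ⟨a, ha⟩ := Submodule.mem_span_singleton.1 ((hmemZ ⟨w, hwE⟩).1 hw)
      have hk' : ρ (π c ^ k) P = P := by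
        obtain ⟨m, hm⟩ := (isOfFinOrder_of_finite (π c)).mem_powers_iff_mem_zpowers.2
          (⟨k, rfl⟩ : π c ^ k ∈ Subgroup.zpowers (π c))
        simp only [] at hm
        rw [← hm, ht.pow_apply, ht.ker, mul_zero, zero_smul, add_zero]
      have h2 := hρL ⟨nHom S E ⟨n, hn⟩, hx.cAut_opp hn⟩ ⟨w, hwE⟩
      rw [show ρL _ = ρ (π ⟨nHom S E ⟨n, hn⟩, hx.cAut_opp hn⟩) from rfl, ← hk, ← ha, map_smul,
        hk', ha, cl_eq] at h2
      have h3 := M.inv_mem h2
      rw [mul_inv_rev, inv_inv, ← afun_apply (nHom S E ⟨n, hn⟩) hwE, afun_nHom _ hwE] at h3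
      have h4 := hg.cj_mem hx (hx.leN hwE) h3
      have h5 := M.inv_mem h3
      rw [mul_inv_rev, inv_inv] at h5
      exact h3
    have h2 := hx.trivial_of_unmoved le_rfl hZsE hZinv (fun α _ y hy => afun_mem α hy) fun n hn w hw => by
      obtain ⟨k, hk⟩ := himg ⟨nHom S E ⟨n, hn⟩, hx.cAut_opp hn⟩ (hx.cAut_mem hn)
      replace hk : π c ^ k = π ⟨nHom S E ⟨n, hn⟩, hx.cAut_opp hn⟩ := hk
      obtain ⟨m, hm⟩ := (isOfFinOrder_of_finite (π c)).mem_powers_iff_mem_zpowers.2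
        (⟨k, rfl⟩ : π c ^ k ∈ Subgroup.zpowers (π c))
      simp only [] at hm
      have h2 := hρL ⟨nHom S E ⟨n, hn⟩, hx.cAut_opp hn⟩ ⟨w, hw⟩
      rw [show ρL _ = ρ (π ⟨nHom S E ⟨n, hn⟩, hx.cAut_opp hn⟩) from rfl, ← hk, ← hm,
        ht.pow_apply] at h2
      rw [show w⁻¹ * cj n w = (((⟨w, hw⟩ : E)⁻¹ * nHom S E ⟨n, hn⟩ ⟨w, hw⟩ : E) : Ω) by
        rw [Subgroup.coe_mul, ← afun_apply (nHom S E ⟨n, hn⟩) hw, afun_nHom _ hw]; rfl]
      rw [hmemZ, cl_mul, ← h2, show cl (⟨w, hw⟩⁻¹ : E) = -cl ⟨w, hw⟩ from rfl, neg_add_cancel_left]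
      exact Submodule.smul_mem _ _ (Submodule.mem_span_singleton_self _)
    -- every element then has order a power of `p`
    have hLp : IsPGroup p (opp F p E) := by
      rintro ⟨α, hα⟩
      have h3 : π ⟨α, hα⟩ ^ p = 1 := by
        refine eq_of_rho hρ fun v => ?_
        obtain ⟨e, rfl⟩ := cl_surj v
        rw [rho_one]
        set a := π ⟨α, hα⟩
        have hd : ρ a (cl e) - cl e ∈ (ZMod p ∙ P) := by
          have := (hmemZ _).1 (show ((e⁻¹ * α e : E) : Ω) ∈ Zs by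
            have := h2 α hα e e.2
            rwa [afun_coe] at this)
          rw [cl_mul, show cl e⁻¹ = -cl e from rfl] at this
          rw [show ρ a (cl e) = cl (α e) from hρL _ _, sub_eq_neg_add]
          exact this
        have haP : ρ a P = P := by
          rw [← hz₀P, show ρ a (cl ⟨z₀, hz₀⟩) = cl (α ⟨z₀, hz₀⟩) from hρL _ _, cl_eq,
            ← afun_apply α hz₀]
          exact h1 α hα z₀ (Subgroup.subset_closure (Or.inl rfl))
        obtain ⟨b, hb⟩ := Submodule.mem_span_singleton.1 hd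
        have hpow : ∀ m : ℕ, ρ (a ^ m) (cl e) = cl e + (m : ZMod p) • b • P := by
          intro m
          induction m with
          | zero => simp
          | succ m ih =>
            rw [pow_succ', rho_mul, ih, map_add, map_smul, map_smul, haP,
              show ρ a (cl e) = cl e + b • P by rw [hb]; abel]
            push_cast
            module
        rw [hpow, ZMod.natCast_self, zero_smul, add_zero]
      obtain ⟨g, hgI⟩ := (hker (⟨α, hα⟩ ^ p)).1 (by rw [map_pow, h3])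
      obtain ⟨k, hk⟩ := (hx.hS.to_le hx.le) g
      refine ⟨k + 1, Subtype.ext ?_⟩
      rw [SubgroupClass.coe_pow, pow_succ', pow_mul,
        show α ^ p = MulAut.conj g by rw [hgI]; rfl, ← map_pow, hk, map_one]
      rfl
    refine hmove ((hker c).2 ?_)
    rw [← (radical_of_essential hx.hS hx.ess).2]
    refine ⟨⟨c, Rank3.opp_le F p E c.2⟩, le_sSup (show (opp F p E).subgroupOf (F.autGroup E) ∈
      {N : Subgroup (F.autGroup E) | N.Normal ∧ IsPGroup p N} from ⟨⟨fun m hm a => ?_⟩,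
        hLp.of_equiv (Subgroup.subgroupOfEquivOfLe (Rank3.opp_le F p E)).symm⟩) c.2, rfl⟩
    have hle : (opp F p E).map (MulAut.conj (a : MulAut E)).toMonoidHom ≤ opp F p E := by
      rw [opp, MonoidHom.map_closure]
      refine Subgroup.closure_mono ?_
      rintro _ ⟨b, ⟨hb, k, hk⟩, rfl⟩
      exact ⟨mul_mem (mul_mem a.2 hb) (inv_mem a.2), k,
        (MulAut.conj (a : MulAut E)).orderOf_eq b ▸ hk⟩
    exact hle ⟨_, hm, rfl⟩
  have ht' := ht.conj g₀
  set c' := g₀ * π c * g₀⁻¹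
  set P' := ρ g₀ P
  set φ' := φ.comp (ρ g₀⁻¹).toLinearMap
  have hopp : φ P' ≠ 0 ∧ φ' P ≠ 0 := by
    rw [← not_or]
    intro hinc
    obtain ⟨n, hn⟩ := centre_mem_of_incident hρ hsyl ht ht' hinc
    exact hg₀ (ht.centre_mem_span ht' n hn)
  obtain ⟨ha, hb⟩ := hopp
  set U := (φ P')⁻¹ • P'
  have hφU : φ U = 1 := by rw [map_smul, smul_eq_mul, inv_mul_cancel₀ ha]
  have hφ'U : φ' U = 0 := by rw [map_smul, ht'.ker, smul_zero]
  obtain ⟨⟨u, hu⟩, huU⟩ := cl_surj U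
  obtain ⟨R, hRdef⟩ : ∃ R : Subgroup Ω, ∀ y, y ∈ R ↔
      ∃ hy : y ∈ E, φ (cl ⟨y, hy⟩) = 0 ∧ φ' (cl ⟨y, hy⟩) = 0 :=
    ⟨{ carrier := {y | ∃ hy : y ∈ E, φ (cl ⟨y, hy⟩) = 0 ∧ φ' (cl ⟨y, hy⟩) = 0}
       one_mem' := ⟨E.one_mem, map_zero φ, map_zero φ'⟩
       mul_mem' := fun {y w} ⟨hy, h1, h2⟩ ⟨hw, h3, h4⟩ => ⟨E.mul_mem hy hw,
         by rw [show cl ⟨y * w, _⟩ = cl ⟨y, hy⟩ + cl ⟨w, hw⟩ from rfl, map_add, h1, h3, add_zero],
         by rw [show cl ⟨y * w, _⟩ = cl ⟨y, hy⟩ + cl ⟨w, hw⟩ from rfl, map_add, h2, h4, add_zero]⟩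
       inv_mem' := fun {y} ⟨hy, h1, h2⟩ => ⟨E.inv_mem hy,
         by rw [show cl ⟨y⁻¹, _⟩ = -cl ⟨y, hy⟩ from rfl, map_neg, h1, neg_zero],
         by rw [show cl ⟨y⁻¹, _⟩ = -cl ⟨y, hy⟩ from rfl, map_neg, h2, neg_zero]⟩ },
      fun _ => Iff.rfl⟩
  refine ⟨u, z₀, R, ⟨hu, ?_, hz₀, hz₀', ?_, ?_, ?_, ?_, ?_, ?_, ?_, ?_⟩⟩
  · intro hu'
    have := hφT ⟨u, hu⟩ hu'
    rw [huU, hφU] at this
    exact one_ne_zero this
  · exact fun e => hP0 (hz₀P.symm.trans ((cl_zero ⟨z₀, hz₀⟩).2 e))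
  · have h1 : ρ (π c) (cl ⟨u, hu⟩) = cl (⟨u, hu⟩ * ⟨z₀, hz₀⟩) := by
      rw [cl_mul, ht.eqn, huU, hφU, one_smul, hz₀P]
    rw [hc, cl_eq, Subgroup.coe_mul, ← afun_apply _ hu, afun_nHom _ hu] at h1
    exact h1
  · exact fun y hy => ((hRdef y).1 hy).1
  · exact fun y hy => hTφ _ ((hRdef y).1 hy).2.1
  · exact fun y hy => (hRdef y).2 ⟨hg.le hy, by
      rw [(cl_zero ⟨y, hg.le hy⟩).2 hy]; exact ⟨map_zero _, map_zero _⟩⟩
  · intro j hj
    obtain ⟨hjE, -, h2⟩ := (hRdef _).1 hj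
    rw [show (⟨z₀ ^ j, hjE⟩ : E) = ⟨z₀, hz₀⟩ ^ j from rfl, cl_pow, hz₀P, map_smul, smul_eq_mul,
      mul_eq_zero, or_iff_left hb, CharP.cast_eq_zero_iff (ZMod p) p] at h2
    exact h2
  · intro e he
    set v := cl ⟨e, he.1⟩
    set a := φ' v / φ' P
    obtain ⟨⟨r, hr⟩, hrv⟩ := cl_surj (v - a • P)
    refine ⟨a.val, r, (hRdef r).2 ⟨hr, ?_, ?_⟩, ?_⟩
    · rw [hrv, map_sub, map_smul, ht.ker, smul_zero, sub_zero]
      exact hφT ⟨e, he.1⟩ he.2
    · rw [hrv, map_sub, map_smul, smul_eq_mul, div_mul_cancel₀ _ hb, sub_self]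
    · have h1 : v = cl (⟨z₀, hz₀⟩ ^ a.val * ⟨r, hr⟩) := by
        rw [cl_mul, cl_pow, hz₀P, ZMod.natCast_zmod_val, hrv]
        abel
      exact (cl_eq _ _).1 h1
  · intro s hs
    set k := φ P' * φ' P
    have hk : k ≠ 0 := mul_ne_zero ha hb
    have hA : ∀ (y : ZMod p) (v : V), ρ (π c ^ y.val) v = v + (y * φ v) • P := fun y v => by
      rw [ht.pow_apply, ZMod.natCast_zmod_val]
    have hB : ∀ (y : ZMod p) (v : V),
        ρ (c' ^ (y / φ' P).val) v = v + (y * φ' v * (φ P' / φ' P)) • U := fun y v => by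
      rw [ht'.pow_apply, ZMod.natCast_zmod_val, smul_smul]
      congr 2
      field_simp
    set g := c' ^ ((φ P')⁻¹ / φ' P).val * π c ^ (s - 1).val *
      (c' ^ ((-s⁻¹ * (φ P')⁻¹) / φ' P).val) * π c ^ (-((s - 1) * s)).val
    have hBP : ∀ y : ZMod p, ρ (c' ^ ((y * (φ P')⁻¹) / φ' P).val) P = P + y • U := fun y => by
      rw [hB]
      congr 2
      field_simp
    have hB1 : ρ (c' ^ ((φ P')⁻¹ / φ' P).val) P = P + U := by
      have := hBP 1
      rwa [one_mul, one_smul] at this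
    have hBU : ∀ m : ℕ, ρ (c' ^ m) U = U := fun m => by
      rw [ht'.pow_apply, hφ'U, mul_zero, zero_smul, add_zero]
    have hAP : ∀ m : ℕ, ρ (π c ^ m) P = P := fun m => by
      rw [ht.pow_apply, ht.ker, mul_zero, zero_smul, add_zero]
    have hAU : ∀ y : ZMod p, ρ (π c ^ y.val) U = U + y • P := fun y => by
      rw [hA, hφU, mul_one]
    have hgP : ρ g P = s⁻¹ • P := by
      simp only [g, rho_mul, hAP, hBP, hB1, hBU, hAU, map_add, map_smul]
      match_scalars <;> field_simp <;> ring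
    have hgU : ρ g U = s • U := by
      simp only [g, rho_mul, hAP, hBP, hB1, hBU, hAU, map_add, map_smul]
      match_scalars <;> field_simp <;> ring
    have hgR : ∀ v, φ v = 0 → φ' v = 0 → ρ g v = v := by
      intro v h1 h2
      simp only [g, rho_mul, hA, hB, h1, h2, mul_zero, zero_mul, zero_smul, add_zero]
    obtain ⟨β, hβ⟩ := hπs g
    have hgv : ∀ e : E, ρ g (cl e) = cl ((β : MulAut E) e) := fun e => by rw [← hβ]; exact hρL β e
    refine ⟨β, β.2, ?_, ?_, fun r hr => ?_, fun n hn => ?_⟩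
    · have h1 := hgv ⟨u, hu⟩
      rw [huU, hgU, ← huU, ← ZMod.natCast_zmod_val s, ← cl_pow, eq_comm, cl_eq] at h1
      rw [afun_apply _ hu]
      exact h1
    · have h1 := hgv ⟨z₀, hz₀⟩
      rw [hz₀P, hgP, ← hz₀P, ← ZMod.natCast_zmod_val s⁻¹, ← cl_pow, eq_comm, cl_eq] at h1
      rw [afun_apply _ hz₀]
      exact h1
    · obtain ⟨hrE, h1, h2⟩ := (hRdef r).1 hr
      have h3 := hgv ⟨r, hrE⟩
      rw [hgR _ h1 h2, eq_comm, cl_eq] at h3
      rw [afun_apply _ hrE]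
      exact h3
    · refine (hker (β * c * β⁻¹ * (c ^ n)⁻¹)).1 ?_
      rw [map_mul, map_mul, map_mul, map_inv, map_inv, map_pow, hβ, mul_inv_eq_one]
      refine eq_of_rho hρ fun v => ?_
      have hdec : v = φ v • U + (v - φ v • U) := by abel
      set w := v - φ v • U
      have hw : φ w = 0 := by rw [map_sub, map_smul, hφU, smul_eq_mul, mul_one, sub_self]
      set a := φ' w / φ' P
      have hr1 : φ (w - a • P) = 0 := by rw [map_sub, map_smul, hw, ht.ker, smul_zero, sub_zero]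
      have hr2 : φ' (w - a • P) = 0 := by
        rw [map_sub, map_smul, smul_eq_mul, div_mul_cancel₀ _ hb, sub_self]
      have e1 : ρ g⁻¹ v = (φ v * s⁻¹) • U + (a * s) • P + (w - a • P) := by
        have e2 : ρ g ((φ v * s⁻¹) • U + (a * s) • P + (w - a • P)) = v := by
          rw [map_add, map_add, map_smul (ρ g) _ U, map_smul (ρ g) _ P, hgU, hgP, hgR _ hr1 hr2]
          conv_rhs => rw [hdec]
          match_scalars <;> field_simp <;> ring
        conv_lhs => rw [← e2]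
        rw [rho_inv_apply]
      rw [ht.pow_apply, hn, rho_mul, rho_mul, ht.eqn, map_add, map_smul, hgP, rho_apply_inv, e1,
        map_add, map_add, map_smul φ _ U, map_smul φ _ P, hr1, hφU, ht.ker, smul_smul]
      congr 2
      simp only [smul_eq_mul, mul_one, mul_zero, add_zero]
      ring

end Cfsg.Agent.Rank3Pearl80
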