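import Cfsg.Agent.Lib.Rank3Found34
import Cfsg.Agent.Lib.Rank3Linear34
import Cfsg.Agent.Lib.Rank3CaseB34Split
import Cfsg.Agent.Lib.Rank3CaseB34One

/-!
The rank three engine, top level: essential subgroups are permuted by `Aut_F(S)`, the standing
hypotheses hold when all essentials are normal in `S` and the core is trivial, and the case split.
-/

set_option autoImplicit false
set_option linter.unusedSectionVars false

namespace Cfsg.Agent.Rank3

open Cfsg.FusionSystem Cfsg.Agent.FusionSysBasic Cfsg.Agent.FusionSysSaturated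
  Cfsg.Agent.FusionSysNormal Cfsg.Agent.FusionSysAlperin

universe u

variable {Ω : Type u} [Group Ω] {S : Subgroup Ω} {F : FusionSystem S} {p : ℕ}
  [Finite S] [Fact p.Prime]

theorem im_normal {E : Subgroup Ω} (hES : E ≤ S) (hn : ∀ g ∈ S, ∀ x ∈ E, cj g x ∈ E)
    (α : MulAut S) (hα : α ∈ F.autGroup S) :
    ∀ g ∈ S, ∀ y ∈ im E (afun α), cj g y ∈ im E (afun α) := by
  intro g hg y hy
  have hm : Mor F S (afun α) := (mem_autGroup le_rfl).mp hα
  obtain ⟨x, hx, rfl⟩ := (hm.restrict_to hES).mem_im.mp hy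
  have hg' : afun α⁻¹ g ∈ S := afun_mem _ hg
  have e : cj g (afun α x) = afun α (cj (afun α⁻¹ g) x) := by
    rw [hm.map_cj hg' (hES hx), afun_apply_inv α hg]
  rw [e]
  exact apply_mem_im (hn _ hg' x hx)

theorem card_im {E : Subgroup Ω} (hES : E ≤ S) {α : MulAut S} (hα : α ∈ F.autGroup S) :
    Nat.card (im E (afun α)) = Nat.card E :=
  (((mem_autGroup le_rfl).mp hα).restrict_to hES).card_im

theorem Max.ess_im (hS : IsPGroup p S) (hF : F.IsSaturated p) {E : Subgroup Ω} (h : Max F p E)
    {α : MulAut S} (hα : α ∈ F.autGroup S) : F.IsEssential p (im E (afun α)) := by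
  have hm : Mor F S (afun α) := (mem_autGroup le_rfl).mp hα
  have hm' : Mor F S (afun α⁻¹) := (mem_autGroup le_rfl).mp (inv_mem hα)
  set Q := im E (afun α) with hQdef
  have hQS : Q ≤ S := (hm.restrict_to h.le).im_le
  have hQn := im_normal h.le h.normal α hα
  have hQlt : Q < S := by
    refine lt_of_le_of_ne hQS fun e => ?_
    have h1 := h.card_eq
    haveI := h.finite
    have h3 : Nat.card S = Nat.card E := (congrArg (fun K : Subgroup Ω => Nat.card K) e.symm).trans
      (card_im h.le hα)
    have h0 : 0 < Nat.card E := Nat.card_pos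
    have := (Fact.out : p.Prime).one_lt
    nlinarith
  have hQfn := FusionWeakAlperin.fullyNormalized_of_normal (F := F) hQS hQn
  have hcl : Subgroup.closure {β | Extends F (P := Q) β} ≤ F.autGroup Q :=
    (Subgroup.closure_le _).mpr fun β hβ => hβ.mem_autGroup
  refine (essential_of_ne hS hF hQlt hQfn hcl ?_ (fun β hβ => Subgroup.subset_closure hβ)).1
  intro heq
  refine essential_exists_not_extends hS hF h.ess ?_
  -- transport back to `E`
  have hf : Mor F E (afun α) := hm.restrict_to h.le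
  intro β hβ
  have h1 : hf.transport rfl β ∈ Subgroup.closure {β | Extends F (P := Q) β} :=
    heq ▸ hf.transport_mem rfl hβ
  have h2 : Subgroup.closure {β | Extends F (P := Q) β} ≤
      (Subgroup.closure {β | Extends F (P := E) β}).map (hf.transport rfl).toMonoidHom := by
    rw [Subgroup.closure_le]
    intro γ hγ
    refine ⟨(hf.transport rfl).symm γ, Subgroup.subset_closure ?_, (hf.transport rfl).apply_symm_apply γ⟩
    obtain ⟨R, hQR, f, hff, hfe⟩ := hγ
    have hRS : R ≤ S := hff.le
    have hm'R : Mor F R (afun α⁻¹) := hm'.restrict_to hRS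
    have hR'S : im R (afun α⁻¹) ≤ S := hm'R.im_le
    refine ⟨im R (afun α⁻¹), ?_, afun α⁻¹ ∘ f ∘ afun α, ?_, fun x hx => ?_⟩
    · refine lt_of_le_not_ge (fun x hx => ?_) fun e => ?_
      · have := apply_mem_im (f := afun α⁻¹) (hQR.le (apply_mem_im (f := afun α) hx))
        rwa [afun_inv_apply α (h.le hx)] at this
      · haveI := h.finite
        refine absurd (Subgroup.card_le_of_le e) ?_
        rw [hm'R.card_im, not_le, ← card_im h.le hα]
        haveI := finite_of_le hRS
        exact lt_of_le_of_ne (Subgroup.card_le_of_le hQR.le)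
          fun ec => hQR.ne (Subgroup.eq_of_le_of_card_ge hQR.le ec.ge)
    · have hin : ∀ z ∈ im R (afun α⁻¹), afun α z ∈ R := fun z hz => by
        obtain ⟨r, hr, rfl⟩ := hm'R.mem_im.mp hz
        rwa [afun_apply_inv α (hRS hr)]
      exact ((hm.restrict_to hR'S).comp hff hin).comp hm' fun z hz =>
        hff.apply_mem (hin z hz)
    · show afun α⁻¹ (f (afun α x)) = _
      have hx' : afun α x ∈ Q := apply_mem_im hx
      have h3 := hf.afun_transport rfl ((hf.transport rfl).symm γ) hx
      rw [(hf.transport rfl).apply_symm_apply] at h3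
      rw [hfe _ hx', h3, afun_inv_apply α (h.le (afun_mem _ hx))]
  obtain ⟨β', hβ', e⟩ := h2 h1
  rwa [← (hf.transport rfl).injective e]

theorem ne_bot_of_not_rank {k : ℕ} (h : ¬ Cfsg.SectionalPRankLE p k S) : S ≠ ⊥ := by
  intro hS
  refine h ?_
  intro H N _ A _ _
  haveI : Subsingleton S := ⟨fun a b => Subtype.ext (by
    rw [Subgroup.mem_bot.mp (hS.le a.2), Subgroup.mem_bot.mp (hS.le b.2)])⟩
  haveI : Subsingleton A := ⟨fun a b => Subtype.ext (by
    obtain ⟨a', ha'⟩ := QuotientGroup.mk_surjective (a : H ⧸ N)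
    obtain ⟨b', hb'⟩ := QuotientGroup.mk_surjective (b : H ⧸ N)
    rw [← ha', ← hb', Subsingleton.elim a' b'])⟩
  rw [Nat.card_of_subsingleton (1 : A)]
  exact Nat.one_le_pow _ _ (Fact.out : p.Prime).pos

/-- The standing hypotheses when all essentials are normal in `S` and the core is trivial. -/
theorem ctx_of_all_normal (hp : Odd p) (hS : IsPGroup p S) (hF : F.IsSaturated p)
    (hsr : Cfsg.SectionalPRankLE p 3 S ∧ ¬ Cfsg.SectionalPRankLE p 2 S) (hO : F.core = ⊥)
    (hall : ∀ E : Subgroup Ω, F.IsEssential p E → S ≤ Subgroup.normalizer (E : Set Ω)) :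
    Ctx F p {E | F.IsEssential p E} := by
  have hmax : ∀ E ∈ {E : Subgroup Ω | F.IsEssential p E}, Max F p E := by
    intro E hE
    refine ⟨hE, ?_, fun g hg x hx => cj_mem_of_normalizer (hall E hE hg) hx⟩
    rw [← card_normalizerIn hp hS hF hsr.1 hE, FusionSystem.normalizerIn,
      inf_eq_left.mpr (hall E hE)]
  refine ⟨hp, hS, hF, hsr.1, ne_bot_of_not_rank hsr.2, hmax, fun E hE α hα => (hmax E hE).ess_im hS hF hα, ?_⟩
  intro K hKS hKinv hKall
  have hKn : F.IsNormal K := by
    have hcjK : ∀ g ∈ S, ∀ x ∈ K, cj g x ∈ K := fun g hg x hx => by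
      have hS' : S ≤ Subgroup.normalizer (S : Set Ω) := Subgroup.le_normalizer
      have h1 := hKinv _ (autInducedBy_le le_rfl
        ((autInducedBy_eq_range S S).ge ⟨⟨g, hg, hS' hg⟩, rfl⟩)) x hx
      rwa [afun_nHom _ (hKS hx)] at h1
    let H := extSystem F S K (fun f => im K f = K) le_rfl hKS
      (fun g hg => mem_normalizer_iff_im_cj.mp (mem_normalizer_of_cj_le hKS (hcjK g hg)))
      (fun _ _ h => h)
      (fun f g hf _ e e' => by rw [← hf.im_comp, e, e'])
      (fun f g hf _ e hgf => by
        conv_lhs => rw [← e]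
        rw [hf.im_comp]
        exact (im_congr fun x hx => hgf x hx).trans (im_id K))
    have hH : ∀ P : Subgroup Ω, (P = S ∨ F.IsEssential p P) → F.autGroup P ≤ H.autGroup P := by
      intro P hP α hα
      have hKP : K ≤ P ∧ Inv F P K := hP.elim (fun e => by rw [e]; exact ⟨hKS, hKinv⟩) (hKall P)
      have hPS : P ≤ S := hP.elim le_of_eq fun h => h.1.1
      refine mem_autGroup_of_mor (mor_extSystem.mpr ⟨(mem_autGroup hPS).mp hα, hPS, fun x hx => hPS (afun_mem α hx), afun α,
        ?_, fun x _ => rfl, ?_⟩)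
      · rw [sup_eq_left.mpr hKP.1]; exact (mem_autGroup hPS).mp hα
      · exact ((mem_autGroup hPS).mp hα).restrict_to hKP.1 |>.im_self fun x hx => hKP.2 α hα x hx
    have hle := alperin hS hF hH
    refine isNormal_iff.mpr ⟨hKS, fun P f hf => ?_⟩
    obtain ⟨-, -, -, f', hf', hag, him⟩ := mor_extSystem.mp (mor_mono hle hf)
    exact ⟨f', hf', hag, him⟩
  exact le_bot_iff.mp (hO ▸ le_core hKn)

end Cfsg.Agent.Rank3
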