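import Cfsg.Agent.Lib.BlockAbelianTwist31
import Cfsg.Agent.Lib.BlockAbelian81

/-!
# Five characters and one Brauer character exclude an abelian defect group of order eight or eleven
-/

set_option autoImplicit false
set_option linter.unusedSectionVars false

namespace Cfsg.Agent.RankOneFiveOrbits27

open Cfsg Cfsg.Agent.BrauerPairs81Base Cfsg.Agent.BrauerPairs81Pairs Cfsg.Agent.BrauerPairs81Conj
open Cfsg.Agent.BrauerPairs81Max Cfsg.Agent.BrauerPairs81Local Cfsg.Agent.BrauerPairs81Fusion
open Cfsg.Agent.BlockAbelianWeight31 Cfsg.Agent.BlockCyclicRank81 Cfsg.Agent.BlockTheoryLocalRing Cfsg.Agent.BlockTheoryCentre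
open Cfsg.Agent.BlockTheoryIdem Cfsg.Agent.BlockContrib Cfsg.Agent.BlockContribBounds Cfsg.Agent.BrauerPairs81Induced

attribute [local instance] Classical.propDecidable

universe u

variable {p : ℕ} [Fact p.Prime] {M : Ideal AlgInt} {G : Type u} [Group G] [Fintype G]
  {B : Set (IrrCharacter G)} {P : Subgroup G} {c : Set (IrrCharacter (Cen P))}

/-- The action of the inertial group on the defect group. -/
@[reducible] noncomputable def act (c : Set (IrrCharacter (Cen P))) :
    MulAction (stab (⟨P, c⟩ : BrauerPairIdx G)) P where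
  smul y v := BlockAbelianNorm31.conjP c y v
  one_smul v := BlockAbelianNorm31.conjP_eq_self (one_mem (Cen P)) v
  mul_smul x y v := BlockAbelianNorm31.conjP_mul x y v

/-- An orbit of the inertial group has size dividing its index over the centraliser. -/
theorem card_orbit_dvd (c : Set (IrrCharacter (Cen P))) (v : P) :
    (orbit c v).card ∣ (BlockAbelianNorm31.cenT c).index := by
  letI := act c
  have hle : BlockAbelianNorm31.cenT c ≤
      MulAction.stabilizer (stab (⟨P, c⟩ : BrauerPairIdx G)) v := fun x hx =>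
    MulAction.mem_stabilizer_iff.2 (BlockAbelianNorm31.conjP_eq_self (Subgroup.mem_subgroupOf.1 hx) v)
  refine dvd_trans (dvd_of_eq ?_) (Subgroup.index_dvd_of_le hle)
  rw [MulAction.index_stabilizer, ← Set.ncard_coe_finset]
  congr 1
  ext w
  simp only [Finset.mem_coe, orbit, Finset.mem_filter, Finset.mem_univ, true_and,
    MulAction.mem_orbit_iff]
  constructor
  · rintro ⟨y, hy, h⟩; exact ⟨⟨y, hy⟩, Subtype.ext h⟩
  · rintro ⟨y, rfl⟩; exact ⟨y, y.2, rfl⟩

/-- The weight is constant on orbits. -/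
theorem weight_congr (hM : IsPModular p M) (hmax : IsMaximalBrauerPair p M B P c) {u v : P}
    (hv : v ∈ orbit c u) : weight p M c v = weight p M c u := by
  simp only [weight]
  refine congrArg₂ (· / ·) ?_ ?_
  swap
  · exact congrArg (fun s : Finset P => ((s.card : ℕ) : ℂ)) (orbit_eq_of_mem hv)
  obtain ⟨y, hy, hyv⟩ := (Finset.mem_filter.1 hv).2
  have h := cP_pairAt hM hmax hy hyv
  have hr : blockRank p (cP y (pairAt p M (⟨P, c⟩ : BrauerPairIdx G) (u : G))).2 =
      blockRank p (blockAt p M (⟨P, c⟩ : BrauerPairIdx G) (u : G)) := by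
    show blockRank p (conjBlock _ y _) = _
    rw [conjBlock_eq]
    exact BlockTheoryChains.blockRank_push _ _
  rw [h] at hr
  exact_mod_cast hr

/-- The weights in rational numbers. -/
theorem card_eq_sum_rat (hM : IsPModular p M) (hmax : IsMaximalBrauerPair p M B P c)
    (hab : ∀ x ∈ P, ∀ y ∈ P, x * y = y * x) :
    (Nat.card B : ℚ) = ∑ v : P,
      (blockRank p (blockAt p M (⟨P, c⟩ : BrauerPairIdx G) (v : G)) : ℚ) / ((orbit c v).card : ℚ) := by
  have h := card_eq_weight hM hmax hab
  simp only [weight] at h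
  refine (Rat.cast_injective (α := ℂ)) ?_
  push_cast
  exact h

theorem blockAt_rank_pos (hM : IsPModular p M) (hmax : IsMaximalBrauerPair p M B P c) (v : P) :
    0 < blockRank p (blockAt p M (⟨P, c⟩ : BrauerPairIdx G) (v : G)) :=
  BlockCyclicRank81.blockRank_pos hM (isBrauerPairOf_down hM (pairAt_le hM hmax v) hmax.1).1.2

/-- An element of the inertial group fixing two nontrivial elements of an abelian group of order
eight centralises it. -/
theorem mem_cen_of_fix_two (hM : IsPModular 2 M) (hmax : IsMaximalBrauerPair 2 M B P c)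
    (hab : ∀ x ∈ P, ∀ y ∈ P, x * y = y * x) (h8 : Nat.card P = 8) {x : G}
    (hx : x ∈ stab (⟨P, c⟩ : BrauerPairIdx G)) {a b : P} (ha1 : a ≠ 1) (hb1 : b ≠ 1) (hne : a ≠ b)
    (ha : x * (a : G) * x⁻¹ = a) (hb : x * (b : G) * x⁻¹ = b) : x ∈ Cen P := by
  haveI : Fact (Nat.Prime 2) := ⟨Nat.prime_two⟩
  set t : stab (⟨P, c⟩ : BrauerPairIdx G) := ⟨x, hx⟩ with ht
  set f := BlockAbelianNorm31.conjP c t with hf
  set F : Subgroup P := f.eqLocus (MonoidHom.id P) with hF
  have haF : a ∈ F := Subtype.ext ha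
  have hbF : b ∈ F := Subtype.ext hb
  have h3 : 3 ≤ Nat.card F := by
    rw [Nat.card_eq_fintype_card, Fintype.card_subtype]
    have hsub : ({1, a, b} : Finset P) ⊆ Finset.univ.filter (fun v => v ∈ F) := by
      intro v hv
      simp only [Finset.mem_insert, Finset.mem_singleton] at hv
      rcases hv with rfl | rfl | rfl
      exacts [Finset.mem_filter.2 ⟨Finset.mem_univ _, one_mem F⟩,
        Finset.mem_filter.2 ⟨Finset.mem_univ _, haF⟩, Finset.mem_filter.2 ⟨Finset.mem_univ _, hbF⟩]
    have h := Finset.card_le_card hsub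
    rwa [Finset.card_eq_three.2 ⟨1, a, b, Ne.symm ha1, Ne.symm hb1, hne, rfl⟩] at h
  have hmul := F.card_mul_index
  rw [h8] at hmul
  have hidx : F.index = 1 ∨ F.index = 2 := by
    have hd : F.index ∣ 8 := ⟨_, by rw [mul_comm]; exact hmul.symm⟩
    have : F.index ≤ 2 := by nlinarith
    have : F.index ≠ 0 := Subgroup.index_ne_zero_of_finite
    omega
  -- the eighth power is trivial on the defect group
  have h8c : x ^ 8 ∈ Cen P := by
    refine Subgroup.mem_centralizer_iff.2 fun v hv => ?_
    have hwP : x * v * x⁻¹ ∈ P := conj_mem_top hx hv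
    set v' : P := ⟨v, hv⟩ with hv'
    have hg : v'⁻¹ * f v' ∈ F := by
      rcases hidx with h1 | h2
      · rw [Subgroup.index_eq_one.1 h1]; trivial
      · rw [Subgroup.mul_mem_iff_of_index_two h2, inv_mem_iff]
        refine ⟨fun hv => by rw [show f v' = v' from hv]; exact hv, fun hfv => ?_⟩
        have hff : f (f v') = f v' := hfv
        have hinj : Function.Injective f := fun r s h => Subtype.ext
          (mul_left_cancel (mul_right_cancel (congrArg Subtype.val h)))
        exact hinj hff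
    set g : P := v'⁻¹ * f v' with hgdef
    have hfg : f g = g := hg
    have hit : ∀ i : ℕ, x ^ i * v * (x ^ i)⁻¹ = v * (g : G) ^ i := by
      intro i
      induction i with
      | zero => simp
      | succ i ih =>
        have e1 : x * (g : G) * x⁻¹ = g := congrArg Subtype.val hfg
        have e2 : x * v * x⁻¹ = v * (g : G) := by
          rw [hgdef]
          show x * v * x⁻¹ = v * (v⁻¹ * (x * v * x⁻¹))
          group
        calc x ^ (i + 1) * v * (x ^ (i + 1))⁻¹ = x * (x ^ i * v * (x ^ i)⁻¹) * x⁻¹ := by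
              rw [pow_succ']; group
          _ = (x * v * x⁻¹) * (x * (g : G) * x⁻¹) ^ i := by rw [ih, conj_pow]; group
          _ = _ := by rw [e1, e2, pow_succ', mul_assoc]
    have hg8 : (g : G) ^ 8 = 1 := by
      rw [← h8, ← Subgroup.coe_pow, pow_card_eq_one', Subgroup.coe_one]
    have h := hit 8
    rw [hg8, mul_one] at h
    calc v * x ^ 8 = (x ^ 8 * v * (x ^ 8)⁻¹) * x ^ 8 := by rw [h]
      _ = x ^ 8 * v := by group
  -- the inertial index is odd
  have hq : (t : stab (⟨P, c⟩ : BrauerPairIdx G) ⧸ BlockAbelianNorm31.cenT c) = 1 := by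
    refine orderOf_eq_one_iff.1 (Nat.eq_one_of_dvd_coprimes (a := 2 ^ 3)
      (b := (BlockAbelianNorm31.cenT c).index)
      (Nat.Coprime.pow_left 3 (Nat.prime_two.coprime_iff_not_dvd.2
        (BlockAbelianNorm31.not_dvd_index hM hmax hab))) ?_ ?_)
    · refine orderOf_dvd_of_pow_eq_one ?_
      rw [← QuotientGroup.mk_pow]
      refine (QuotientGroup.eq_one_iff _).2 (Subgroup.mem_subgroupOf.2 ?_)
      simpa [ht] using h8c
    · exact orderOf_dvd_natCard _
  exact Subgroup.mem_subgroupOf.1 ((QuotientGroup.eq_one_iff _).1 hq)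

/-- No block with one Brauer character and five characters has an abelian defect group of order
eight. -/
theorem not_eight (hM : IsPModular 2 M) (hmax : IsMaximalBrauerPair 2 M B P c)
    (hab : ∀ x ∈ P, ∀ y ∈ P, x * y = y * x) (h8 : Nat.card P = 8)
    (hl : blockRank 2 B = 1) (hk : Nat.card B = 5) : False := by
  haveI : Fact (Nat.Prime 2) := ⟨Nat.prime_two⟩
  by_cases hfree : ∀ g ∈ stab (⟨P, c⟩ : BrauerPairIdx G), ∀ x ∈ P, x ≠ 1 → g * x * g⁻¹ = x → g ∈ Cen P
  · have h := BlockAbelianCount81.card_eq_of_free hM hmax hab hfree rfl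
    rw [hl, hk, h8] at h
    omega
  push Not at hfree
  obtain ⟨z, hz, w₀, hw₀, hw1', hzw, hzC⟩ := hfree
  set w : P := ⟨w₀, hw₀⟩ with hwdef
  have hw1 : w ≠ 1 := fun h => hw1' (congrArg Subtype.val h)
  have hodd : ∀ v : P, Odd (orbit c v).card := fun v => by
    rw [Nat.odd_iff]
    by_contra h
    exact BlockAbelianNorm31.not_dvd_index hM hmax hab
      (dvd_trans (Nat.dvd_of_mod_eq_zero (by omega)) (card_orbit_dvd c v))
  -- the other elements
  have hfix : ∀ v : P, v ≠ 1 → v ≠ w → ∀ x ∈ stab (⟨P, c⟩ : BrauerPairIdx G),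
      x * (v : G) * x⁻¹ = v → x * (w : G) * x⁻¹ = w → x ∈ Cen P := fun v hv1 hvw x hx hxv hxw =>
    mem_cen_of_fix_two hM hmax hab h8 hx hv1 hw1 hvw hxv hxw
  have hthree : ∀ v : P, v ≠ 1 → v ≠ w → 3 ≤ (orbit c v).card := by
    intro v hv1 hvw
    have h2 : 1 < (orbit c v).card := Finset.one_lt_card.2
      ⟨v, self_mem_orbit v, BlockAbelianNorm31.conjP c ⟨z, hz⟩ v,
        BlockAbelianNorm31.mem_orbit.2 ⟨z, hz, rfl⟩, fun h =>
          hzC (hfix v hv1 hvw z hz (congrArg Subtype.val h).symm hzw)⟩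
    obtain ⟨i, hi⟩ := hodd v
    omega
  have hsum := card_eq_sum_rat hM hmax hab
  rw [hk] at hsum
  set r : P → ℕ := fun v => blockRank 2 (blockAt 2 M (⟨P, c⟩ : BrauerPairIdx G) (v : G)) with hr
  have hr1 : r 1 = 1 := (BlockAbelianNorm31.rank_at_one hM hmax hab).trans hl
  have ho1 : (orbit c (1 : P)).card = 1 := by rw [BlockAbelianNorm31.orbit_one, Finset.card_singleton]
  by_cases hwF : BlockAbelianNorm31.Fixed c w
  · -- a fixed element
    have hrw : r w = 1 :=
      ((BlockAbelianNorm31.rank_card_eq hM (BlockAbelianTwist31.twistsExist hM) hmax hab hwF).1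
        ).symm.trans hl
    have how : (orbit c w).card = 1 := by
      refine Finset.card_eq_one.2 ⟨w, Finset.eq_singleton_iff_unique_mem.2
        ⟨self_mem_orbit w, fun v hv => ?_⟩⟩
      obtain ⟨y, hy, hyv⟩ := BlockAbelianNorm31.mem_orbit.1 hv
      exact Subtype.ext (hyv.symm.trans (hwF y hy))
    have hrest : ∀ v : P, v ≠ 1 → v ≠ w → r v = 1 := fun v hv1 hvw =>
      BlockAbelian81.rank_cen_eq_one hM hmax hab v.2 (pairAt_le hM hmax v) fun x hx hxv =>
        hfix v hv1 hvw x hx (by rw [← hxv.eq, mul_inv_cancel_right]) (hwF x hx)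
    rw [← Finset.add_sum_erase _ _ (Finset.mem_univ (1 : P)),
      ← Finset.add_sum_erase _ _ (show w ∈ (Finset.univ : Finset P).erase 1 by simp [hw1])] at hsum
    have hle : ∀ v ∈ ((Finset.univ : Finset P).erase 1).erase w,
        (r v : ℚ) / ((orbit c v).card : ℚ) ≤ 1 / 3 := by
      intro v hv
      obtain ⟨hvw, hv1, -⟩ := by simpa only [Finset.mem_erase] using hv
      have h3 : (3 : ℚ) ≤ ((orbit c v).card : ℚ) := by exact_mod_cast hthree v hv1 hvw
      rw [hrest v hv1 hvw, Nat.cast_one]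
      exact one_div_le_one_div_of_le (by norm_num) h3
    have hb := Finset.sum_le_card_nsmul _ _ _ hle
    rw [Finset.card_erase_of_mem (by simp [hw1]), Finset.card_erase_of_mem (Finset.mem_univ _),
      Finset.card_univ, ← Nat.card_eq_fintype_card, h8] at hb
    simp only [hr] at hr1 hrw hb
    rw [hr1, hrw, ho1, how] at hsum
    norm_num at hsum hb
    linarith
  · -- a transitive action
    set O := orbit c w with hO
    have hO2 : 1 < O.card := by
      simp only [BlockAbelianNorm31.Fixed, not_forall] at hwF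
      obtain ⟨y, hy, hne⟩ := hwF
      exact Finset.one_lt_card.2 ⟨w, self_mem_orbit w, BlockAbelianNorm31.conjP c ⟨y, hy⟩ w,
        BlockAbelianNorm31.mem_orbit.2 ⟨y, hy, rfl⟩, fun h => hne (congrArg Subtype.val h).symm⟩
    have hOne : ∀ v : P, v ≠ 1 → (1 : P) ∉ orbit c v := fun v hv h => by
      obtain ⟨y, -, hy⟩ := BlockAbelianNorm31.mem_orbit.1 h
      rw [Subgroup.coe_one, conj_eq_one_iff] at hy
      exact hv (Subtype.ext hy)
    set R := (Finset.univ : Finset P).erase 1 \ O with hR
    have hOsub : O ⊆ (Finset.univ : Finset P).erase 1 := fun v hv =>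
      Finset.mem_erase.2 ⟨fun h => hOne w hw1 (h ▸ hv), Finset.mem_univ _⟩
    have hRcard : R.card = 7 - O.card := by
      rw [hR, Finset.card_sdiff_of_subset hOsub, Finset.card_erase_of_mem (Finset.mem_univ _),
        Finset.card_univ, ← Nat.card_eq_fintype_card, h8]
    have hRorb : ∀ v ∈ R, orbit c v ⊆ R ∧ 3 ≤ (orbit c v).card := by
      intro v hv
      obtain ⟨hv1, hvO⟩ := by simpa only [hR, Finset.mem_sdiff, Finset.mem_erase] using hv
      refine ⟨fun v' hv' => ?_, hthree v hv1.1 fun h => hvO (h ▸ self_mem_orbit w)⟩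
      refine Finset.mem_sdiff.2 ⟨Finset.mem_erase.2 ⟨fun h => hOne v hv1.1 (h ▸ hv'),
        Finset.mem_univ _⟩, fun h => hvO ?_⟩
      have h1 : orbit c v = O := (orbit_eq_of_mem hv').symm.trans (orbit_eq_of_mem h)
      exact h1 ▸ self_mem_orbit v
    have hOcard : O.card = 7 := by
      obtain ⟨i, hi⟩ := hodd w
      rw [← hO] at hi
      have hle := Finset.card_le_card hOsub
      rw [Finset.card_erase_of_mem (Finset.mem_univ _), Finset.card_univ,
        ← Nat.card_eq_fintype_card, h8] at hle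
      by_contra h7
      obtain ⟨v, hv⟩ : R.Nonempty := Finset.card_pos.1 (by omega)
      obtain ⟨hsub, h3⟩ := hRorb v hv
      obtain ⟨j, hj⟩ := hodd v
      have := Finset.card_le_card hsub
      obtain ⟨v', hv', hnv⟩ : ∃ v' ∈ R, v' ∉ orbit c v := Finset.exists_mem_notMem_of_card_lt_card
        (by omega)
      obtain ⟨hsub', h3'⟩ := hRorb v' hv'
      have hdisj : Disjoint (orbit c v) (orbit c v') := Finset.disjoint_left.2 fun a ha ha' =>
        hnv (((orbit_eq_of_mem ha).symm.trans (orbit_eq_of_mem ha')) ▸ self_mem_orbit v')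
      have := Finset.card_le_card (Finset.union_subset hsub hsub')
      rw [Finset.card_union_of_disjoint hdisj] at this
      omega
    have hOall : O = (Finset.univ : Finset P).erase 1 := Finset.eq_of_subset_of_card_le hOsub (by
      rw [Finset.card_erase_of_mem (Finset.mem_univ _), Finset.card_univ,
        ← Nat.card_eq_fintype_card, h8, hOcard])
    have hrw : r w = 4 := by
      have h := card_eq_weight hM hmax hab
      rw [hk, ← Finset.add_sum_erase _ _ (Finset.mem_univ (1 : P)), ← hOall,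
        Finset.sum_congr rfl (fun v hv => weight_congr hM hmax hv), Finset.sum_const, hOcard,
        weight, weight, ho1] at h
      simp only [hr] at hr1 ⊢
      rw [hr1, ← hO, hOcard] at h
      push_cast at h
      have : ((blockRank 2 (blockAt 2 M (⟨P, c⟩ : BrauerPairIdx G) (w : G))) : ℂ) = ((4 : ℕ) : ℂ) := by
        push_cast
        rw [div_one] at h
        linear_combination -h
      exact_mod_cast this
    -- the block of the centraliser of `w`
    set b := blockAt 2 M (⟨P, c⟩ : BrauerPairIdx G) (w : G) with hb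
    have hPQ : P ≤ Cen (Subgroup.zpowers (w : G)) := fun v hv =>
      (centralizer_zpowers (w : G) v).2 (hab w w.2 v hv)
    set H := Cen (Subgroup.zpowers (w : G)) with hH
    set P₀ := P.subgroupOf H with hP₀
    obtain ⟨c₀, hmax₀, hst₀⟩ := BrauerPairs81Induced.exists_maximal_cen hM hmax
      (Subgroup.zpowers_le.2 w.2) hPQ (pairAt_le hM hmax w)
    have hab₀ : ∀ x ∈ P₀, ∀ y ∈ P₀, x * y = y * x := fun x hx y hy => Subtype.ext (hab _ hx _ hy)
    set w₁ : P₀ := ⟨⟨(w : G), hPQ w.2⟩, w.2⟩ with hw₁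
    have hwF₀ : BlockAbelianNorm31.Fixed c₀ w₁ := fun y _ => Subtype.ext (by
      show (y : G) * (w : G) * (y : G)⁻¹ = w
      have hc : Commute (w : G) (y : G) := (centralizer_zpowers (w : G) (y : G)).1 y.2
      rw [← hc.eq, mul_inv_cancel_right])
    have h8₀ : Nat.card P₀ = 8 := by
      rw [Nat.card_congr (Subgroup.subgroupOfEquivOfLe hPQ).toEquiv, h8]
    have hr₁ : blockRank 2 (blockAt 2 M (⟨P₀, c₀⟩ : BrauerPairIdx H) (w₁ : H)) = 4 :=
      ((BlockAbelianNorm31.rank_card_eq hM (BlockAbelianTwist31.twistsExist hM) hmax₀ hab₀ hwF₀).1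
        ).symm.trans hrw
    have hr₀ : blockRank 2 (blockAt 2 M (⟨P₀, c₀⟩ : BrauerPairIdx H) ((1 : P₀) : H)) = 4 :=
      (BlockAbelianNorm31.rank_at_one hM hmax₀ hab₀).trans hrw
    have hw₁1 : w₁ ≠ 1 := fun h => hw1 (Subtype.ext (congrArg (fun a : P₀ => ((a : H) : G)) h))
    have how₁ : (orbit c₀ w₁).card = 1 := by
      refine Finset.card_eq_one.2 ⟨w₁, Finset.eq_singleton_iff_unique_mem.2
        ⟨self_mem_orbit w₁, fun v hv => ?_⟩⟩
      obtain ⟨y, hy, hyv⟩ := BlockAbelianNorm31.mem_orbit.1 hv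
      exact Subtype.ext (hyv.symm.trans (hwF₀ y hy))
    obtain ⟨v, hv⟩ : (((Finset.univ : Finset P₀).erase 1).erase w₁).Nonempty := by
      rw [← Finset.card_pos, Finset.card_erase_of_mem (by simp [hw₁1]),
        Finset.card_erase_of_mem (Finset.mem_univ _), Finset.card_univ,
        ← Nat.card_eq_fintype_card, h8₀]
      norm_num
    obtain ⟨hvw, hv1, -⟩ := by simpa only [Finset.mem_erase] using hv
    have hrv : blockRank 2 (blockAt 2 M (⟨P₀, c₀⟩ : BrauerPairIdx H) (v : H)) = 1 := by
      refine BlockAbelian81.rank_cen_eq_one hM hmax₀ hab₀ v.2 (pairAt_le hM hmax₀ v) fun x hx hxv => ?_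
      set vG : P := ⟨((v : H) : G), v.2⟩
      have hxC : (x : G) ∈ Cen P := by
        refine hfix vG (fun h => hv1 (Subtype.ext (Subtype.ext (congrArg (fun a : P => (a : G)) h))))
          (fun h => hvw (Subtype.ext (Subtype.ext (congrArg (fun a : P => (a : G)) h))))
          _ ((hst₀ x).1 hx) ?_ ?_
        · have e : ((v : H) : G) * (x : G) = (x : G) * ((v : H) : G) := congrArg Subtype.val hxv.eq
          show (x : G) * ((v : H) : G) * (x : G)⁻¹ = ((v : H) : G)
          rw [← e, mul_inv_cancel_right]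
        · have hc : Commute (w : G) (x : G) := (centralizer_zpowers (w : G) (x : G)).1 x.2
          rw [← hc.eq, mul_inv_cancel_right]
      exact Subgroup.mem_centralizer_iff.2 fun a ha => Subtype.ext
        (Subgroup.mem_centralizer_iff.1 hxC _ ha)
    have hup := BlockAbelian81.card_le_of_rank_one hM hmax₀ hab₀ v.2 (pairAt_le hM hmax₀ v) hrv
    rw [h8₀] at hup
    have hs₀ := card_eq_sum_rat hM hmax₀ hab₀
    rw [← Finset.add_sum_erase _ _ (Finset.mem_univ (1 : P₀)),
      ← Finset.add_sum_erase _ _ (show w₁ ∈ (Finset.univ : Finset P₀).erase 1 by simp [hw₁1]),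
      hr₀, hr₁, how₁, BlockAbelianNorm31.orbit_one, Finset.card_singleton] at hs₀
    have hpos : (0 : ℚ) < ∑ a ∈ ((Finset.univ : Finset P₀).erase 1).erase w₁,
        (blockRank 2 (blockAt 2 M (⟨P₀, c₀⟩ : BrauerPairIdx H) (a : H)) : ℚ) /
          ((orbit c₀ a).card : ℚ) := by
      refine Finset.sum_pos (fun a _ => div_pos ?_ ?_) ⟨v, hv⟩
      · exact_mod_cast blockAt_rank_pos hM hmax₀ a
      · exact_mod_cast Finset.card_pos.2 ⟨a, self_mem_orbit a⟩
    have hup' := (Nat.cast_le (α := ℚ)).2 hup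
    simp only [Nat.cast_ofNat, Nat.cast_one, div_one] at hs₀ hup'
    linarith

/-- No block with one Brauer character and five characters has a defect group of order eleven. -/
theorem not_eleven (hM : IsPModular p M) (hmax : IsMaximalBrauerPair p M B P c)
    (h11 : Nat.card P = 11) (hl : blockRank p B = 1) (hk : Nat.card B = 5) : False := by
  haveI : Fact (Nat.Prime 11) := ⟨by norm_num⟩
  haveI : IsCyclic P := isCyclic_of_prime_card h11
  have hab : ∀ x ∈ P, ∀ y ∈ P, x * y = y * x := fun x hx y hy =>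
    congrArg Subtype.val (IsMulCommutative.is_comm.comm (⟨x, hx⟩ : P) ⟨y, hy⟩)
  have h := BlockAbelianCount81.card_eq_of_free hM hmax hab (fun g _ x hx hx1 hgx => ?_) rfl
  · rw [hl, hk, h11] at h
    omega
  refine Subgroup.mem_centralizer_iff.2 fun v hv => ?_
  have htop : Subgroup.zpowers (⟨x, hx⟩ : P) = ⊤ :=
    zpowers_eq_top_of_prime_card h11 fun h => hx1 (congrArg Subtype.val h)
  obtain ⟨i, hi⟩ := Subgroup.mem_zpowers_iff.1 (htop ▸ Subgroup.mem_top (⟨v, hv⟩ : P))
  have hiv : x ^ i = v := by simpa using congrArg Subtype.val hi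
  have hc : Commute g x := by
    show g * x = x * g
    conv_rhs => rw [← hgx]
    group
  rw [← hiv]
  exact (hc.zpow_right i).eq.symm

end Cfsg.Agent.RankOneFiveOrbits27
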