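import Mathlib
import Cfsg.Agent.Lib.RankOneFusion55Shapes
import Cfsg.Agent.Lib.RankOneFusion55WreathModels

/-!
Systems on dihedral, semidihedral and wreathed groups with both kinds of fusion are the systems of
`PSL(2,q)`, respectively `PSL(3,q)`.
-/

set_option autoImplicit false
set_option linter.style.haveILetI false
set_option linter.unusedSectionVars false

open Cfsg Cfsg.FusionSystem
open Cfsg.Agent.FusionSysBasic Cfsg.Agent.TwoGroupRel44 Cfsg.Agent.GaussTorus44
open Cfsg.Agent.FusionTwoMaxClassNotNormal (exists_prime)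

namespace Cfsg.Agent.RankOneFusion55

section Proj

variable {q : ℕ} [hq : Fact q.Prime] {k : ℕ}

local notation "F" => ZMod q

/-- A determinant-one unit as an element of the special linear group. -/
def slHom : ↥(Matrix.GeneralLinearGroup.det (n := Fin k) (R := F)).ker →*
    Matrix.SpecialLinearGroup (Fin k) F :=
  MonoidHom.mk' (fun A => ⟨A.1.1, congrArg Units.val A.2⟩) fun _ _ => Subtype.ext rfl

theorem slHom_injective : Function.Injective (slHom (q := q) (k := k)) := fun A B h =>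
  Subtype.ext (Units.ext (congrArg
    (fun C : Matrix.SpecialLinearGroup (Fin k) F => (C : Matrix (Fin k) (Fin k) F)) h))

/-- The projection onto the projective group. -/
noncomputable def toPSL : ↥(Matrix.GeneralLinearGroup.det (n := Fin k) (R := F)).ker →*
    Matrix.ProjectiveSpecialLinearGroup (Fin k) F :=
  (QuotientGroup.mk' _).comp slHom

theorem toPSL_surjective : Function.Surjective (toPSL (q := q) (k := k)) := by
  intro c
  obtain ⟨A, rfl⟩ := QuotientGroup.mk'_surjective _ c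
  exact ⟨⟨Matrix.SpecialLinearGroup.toGL A, Units.ext A.2⟩, congrArg _ (Subtype.ext rfl)⟩

theorem toPSL_eq_one {A : ↥(Matrix.GeneralLinearGroup.det (n := Fin k) (R := F)).ker} :
    toPSL A = 1 ↔ slHom A ∈ Subgroup.center (Matrix.SpecialLinearGroup (Fin k) F) :=
  QuotientGroup.eq_one_iff _

theorem pow_of_toPSL_eq_one {A : ↥(Matrix.GeneralLinearGroup.det (n := Fin k) (R := F)).ker}
    (h : toPSL A = 1) : A ^ k = 1 ∧ ∀ B, Commute A B := by
  have hc := toPSL_eq_one.mp h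
  refine ⟨slHom_injective ?_, fun B => slHom_injective ?_⟩
  · obtain ⟨r, hr, hA⟩ := Matrix.SpecialLinearGroup.mem_center_iff.mp hc
    rw [map_pow, map_one]
    refine Subtype.ext ?_
    rw [Matrix.SpecialLinearGroup.coe_pow, ← hA, ← map_pow, Matrix.SpecialLinearGroup.coe_one]
    rw [Fintype.card_fin] at hr
    rw [hr, map_one]
  · rw [map_mul, map_mul]
    exact (Subgroup.mem_center_iff.mp hc (slHom B)).symm

theorem ker_toPSL_two {Z : ↥(Matrix.GeneralLinearGroup.det (n := Fin 2) (R := F)).ker}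
    (hZ : Z.1 = nM) : (toPSL (q := q) (k := 2)).ker = Subgroup.zpowers Z := by
  refine le_antisymm (fun A hA => ?_) (Subgroup.zpowers_le.mpr ?_)
  · obtain ⟨r, hr, hA'⟩ :=
      Matrix.SpecialLinearGroup.mem_center_iff.mp (toPSL_eq_one.mp (MonoidHom.mem_ker.mp hA))
    have hval : ∀ i j, A.1.1 i j = Matrix.scalar (Fin 2) r i j := fun i j =>
      (congrFun (congrFun hA' i) j).symm
    rw [Fintype.card_fin, pow_two, mul_self_eq_one_iff] at hr
    rcases hr with rfl | rfl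
    · rw [show A = 1 from Subtype.ext (Units.ext (Matrix.ext fun i j => by
        rw [hval]; simp))]
      exact one_mem _
    · rw [show A = Z from Subtype.ext (by
        rw [hZ]
        refine ext2 ?_ ?_ ?_ ?_ <;> rw [hval] <;> simp [nM])]
      exact Subgroup.mem_zpowers _
  · rw [MonoidHom.mem_ker, toPSL_eq_one]
    refine Subgroup.mem_center_iff.mpr fun B => ?_
    obtain ⟨B, rfl⟩ : ∃ B', slHom B' = B :=
      ⟨⟨Matrix.SpecialLinearGroup.toGL B, Units.ext B.2⟩, Subtype.ext rfl⟩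
    rw [← map_mul, ← map_mul]
    congr 1
    exact Subtype.ext (by rw [Subgroup.coe_mul, Subgroup.coe_mul, hZ]; exact nM_comm _)

end Proj

universe u

variable {Ω : Type u} [Group Ω] {S : Subgroup Ω} [Finite S] [Fact (Nat.Prime 2)] {F : FusionSystem S}

/-- Both dihedral classes fused: `PSL(2,q)`. -/
theorem dihedral_psl2 {x y : Ω} {n : ℕ} (h : MC S x y n (2 ^ n - 1) 0) (hF : F.IsSaturated 2)
    (m0 : Moved F x y 0) (m1 : Moved F x y 1) :
    ∃ (q : ℕ) (_ : Fact q.Prime), Odd q ∧ (q % 8 = 1 ∨ q % 8 = 7) ∧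
      ∃ ι : ↥S →* Matrix.ProjectiveSpecialLinearGroup (Fin 2) (ZMod q), F.IsRealizedBy ι ∧
        ∃ T : Sylow 2 (Matrix.ProjectiveSpecialLinearGroup (Fin 2) (ZMod q)),
          (T : Subgroup (Matrix.ProjectiveSpecialLinearGroup (Fin 2) (ZMod q))) = ι.range := by
  obtain ⟨d, hd⟩ := Nat.exists_eq_add_of_le h.two
  obtain ⟨q, m, hq, hqm, hm⟩ := exists_prime (n + 1) (by omega)
  haveI := Fact.mk hq
  have h8 : q % 8 = 7 := by
    rw [hd, show 2 + d + 1 = 3 + d by omega, pow_add, show (2 : ℕ) ^ 3 = 8 from rfl, mul_assoc] at hqm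
    omega
  obtain ⟨X, Y, e, hR, he, hG, hz, f0, f1⟩ :=
    quat_both_sl (q := q) (v := n + 1) (by omega) hqm hm
  rw [Nat.add_sub_cancel] at hR hz
  obtain ⟨hRd, hGd, hf⟩ :=
    dihedral_of_hom (by omega) hR hG toPSL toPSL_surjective (ker_toPSL_two hz)
  have g0 := (hf 0).mpr f0
  simp only [Fus, add_zero] at g0
  exact ⟨q, ⟨hq⟩, ⟨q / 2, by omega⟩, Or.inr h8,
    (h.realized_of_model (fun _ => dvd_zero _) hF hRd he hGd (iff_of_true m0 g0)
      (iff_of_true m1 ((hf 1).mpr f1))).2⟩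

/-- Both semidihedral classes fused: `PSL(3,q)`. -/
theorem semidihedral_psl3 {x y : Ω} {v : ℕ} (hv : 2 ≤ v) (h : MC S x y (v + 1) (2 ^ v - 1) 0)
    (hF : F.IsSaturated 2) (m0 : Moved F x y 0) (m1 : Moved F x y 1) :
    ∃ (q : ℕ) (_ : Fact q.Prime), Odd q ∧
      ∃ ι : ↥S →* Matrix.ProjectiveSpecialLinearGroup (Fin 3) (ZMod q), F.IsRealizedBy ι ∧
        ∃ T : Sylow 2 (Matrix.ProjectiveSpecialLinearGroup (Fin 3) (ZMod q)),
          (T : Subgroup (Matrix.ProjectiveSpecialLinearGroup (Fin 3) (ZMod q))) = ι.range := by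
  obtain ⟨q, m, hq, hqm, hm⟩ := exists_prime v (by omega)
  haveI := Fact.mk hq
  have hodd : Odd q := by
    obtain ⟨d, rfl⟩ := Nat.exists_eq_add_of_le hv
    rw [pow_add, show (2 : ℕ) ^ 2 = 4 from rfl, mul_assoc] at hqm
    exact ⟨q / 2, by omega⟩
  obtain ⟨X, Y, e, hR, he, hG, f0, f1⟩ := semi_both_sl (q := q) hv hqm hm
  simp only [Fus, add_zero] at f0
  obtain ⟨ι, hι, hT⟩ := (h.realized_of_model (fun _ => dvd_zero _) hF hR he hG
    (iff_of_true m0 f0) (iff_of_true m1 f1)).2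
  exact ⟨q, ⟨hq⟩, hodd, toPSL.comp ι, realizedBy_comp toPSL toPSL_surjective h.isPGroup
    (m := 3) (by decide) (fun _ => pow_of_toPSL_eq_one) hι hT⟩

/-- The wreathed system with both kinds of fusion: `PSL(3,q)`. -/
theorem wreathed_psl3 {x y t : Ω} {n : ℕ} (h : WD S x y t n)
    (hcard : Nat.card S = 2 ^ (2 * n + 1)) (hF : F.IsSaturated 2) (hE : h.MovE F) (hZ : h.MovZ F) :
    ∃ (q : ℕ) (_ : Fact q.Prime), Odd q ∧
      ∃ ι : ↥S →* Matrix.ProjectiveSpecialLinearGroup (Fin 3) (ZMod q), F.IsRealizedBy ι ∧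
        ∃ T : Sylow 2 (Matrix.ProjectiveSpecialLinearGroup (Fin 3) (ZMod q)),
          (T : Subgroup (Matrix.ProjectiveSpecialLinearGroup (Fin 3) (ZMod q))) = ι.range := by
  have hn := h.rel.two
  obtain ⟨q, a, hq, hqa, ha, -⟩ := exists_prime_split n (by omega)
  haveI := Fact.mk hq
  have hodd : Odd q := by
    obtain ⟨d, rfl⟩ := Nat.exists_eq_add_of_le hn
    rw [pow_add, show (2 : ℕ) ^ 2 = 4 from rfl, mul_assoc] at hqa
    have := hq.two_le
    exact ⟨q / 2, by omega⟩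
  obtain ⟨X, Y, T, g, hR, hg, hcen, hcX, hcY⟩ := split_data (q := q) hn hqa ha
  obtain ⟨e, he, hG, e', he', hG'⟩ := card_GL_split (q := q) hn hqa ha
  obtain ⟨x', y', h', hbase, hz0, hρ⟩ := h.exists_adapted hF hZ
  have hE' : h'.MovE F := by
    obtain ⟨P, f, u, hf, huP, hub, hfu⟩ := hE
    exact ⟨P, f, u, hf, huP, hbase ▸ hub, hbase ▸ hfu⟩
  obtain ⟨D, hD, -, ⟨ι, hι, hT⟩, hDE, -, hDρ⟩ := h'.exists_model (emb3_wrel hR) he' hcard hG'
    (g := emb3 g) (by rw [← map_inv, ← map_mul, ← map_mul, hg, map_pow])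
  rw [← h'.eq_of_rho hF hD (iff_of_true hE' hDE) hρ (hDρ ⟨cyc3, hcX, hcY⟩)] at hι
  exact ⟨q, ⟨hq⟩, hodd, toPSL.comp ι, realizedBy_comp toPSL toPSL_surjective h.isPGroup
    (m := 3) (by decide) (fun _ => pow_of_toPSL_eq_one) hι hT⟩

end Cfsg.Agent.RankOneFusion55
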