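import Mathlib
import Cfsg.Agent.S1160
import Cfsg.Agent.Lib.ComponentsFitting

/-!
Odd order groups transitive on the nonzero elements of an elementary abelian group: cyclic
semiregular Fitting subgroup with abelian quotient (given solvability).
-/

set_option autoImplicit false

namespace Cfsg.Agent.TransitiveOdd23

open Subgroup

variable {D E : Type*} [Group D] [Finite D] [AddCommGroup E] [Finite E] [DistribMulAction D E]
  [FaithfulSMul D E]

/-- Normal p-subgroups are cyclic and semiregular. -/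
theorem normal_pgroup (hodd : Odd (Nat.card D)) {q : ℕ} (hq : q.Prime) (hE : ∀ e : E, q • e = 0)
    (htrans : ∀ a b : E, a ≠ 0 → b ≠ 0 → ∃ d : D, d • a = b) {p : ℕ} [Fact p.Prime]
    (P : Subgroup D) [P.Normal] (hP : IsPGroup p P) :
    IsCyclic P ∧ ∀ g : P, g ≠ 1 → ∀ a : E, g • a = a → a = 0 := by
  haveI : FaithfulSMul P E := ⟨fun {x y} h => Subtype.ext (eq_of_smul_eq_smul fun a => h a)⟩
  by_cases hp2 : p = 2
  · have hb : ∀ g : P, g = 1 := fun g => by
      obtain ⟨k, hk⟩ := hP g
      have h1 : orderOf g ∣ 2 ^ k := orderOf_dvd_of_pow_eq_one (hp2 ▸ hk)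
      have h2 : orderOf g ∣ Nat.card D :=
        (orderOf_dvd_natCard g).trans (Subgroup.card_subgroup_dvd_card P)
      have hc : Nat.Coprime (2 ^ k) (Nat.card D) :=
        ((Nat.coprime_two_left).mpr hodd).pow_left k
      exact orderOf_eq_one_iff.mp (Nat.eq_one_of_dvd_coprimes hc h1 h2)
    haveI : Subsingleton P := ⟨fun x y => (hb x).trans (hb y).symm⟩
    exact ⟨inferInstance, fun g hg => absurd (hb g) hg⟩
  refine Cfsg.Agent.S1160.result hp2 hP hq hE fun a b ha hb => ?_
  obtain ⟨d, rfl⟩ := htrans a b ha hb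
  refine Nat.card_congr
    { toFun := fun x => ⟨⟨d * (x.1 : D) * d⁻¹, ‹P.Normal›.conj_mem _ x.1.2 d⟩, ?_⟩
      invFun := fun x => ⟨⟨d⁻¹ * (x.1 : D) * d, by
        simpa using ‹P.Normal›.conj_mem _ x.1.2 d⁻¹⟩, ?_⟩
      left_inv := fun x => Subtype.ext (Subtype.ext (by simp [mul_assoc]))
      right_inv := fun x => Subtype.ext (Subtype.ext (by simp [mul_assoc])) }
  · have hx : (x.1 : D) • a = a := MulAction.mem_stabilizer_iff.mp x.2
    rw [MulAction.mem_stabilizer_iff, Subgroup.smul_def]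
    simp [mul_smul, hx]
  · have hx : (x.1 : D) • d • a = d • a := MulAction.mem_stabilizer_iff.mp x.2
    rw [MulAction.mem_stabilizer_iff, Subgroup.smul_def]
    simp [mul_smul, hx]

theorem main [Group.IsSolvable D] (hodd : Odd (Nat.card D)) {q : ℕ} (hq : q.Prime)
    (hE : ∀ e : E, q • e = 0)
    (htrans : ∀ a b : E, a ≠ 0 → b ≠ 0 → ∃ d : D, d • a = b) :
    IsCyclic ↥(Cfsg.fittingSubgroup D) ∧
      (∀ g ∈ Cfsg.fittingSubgroup D, g ≠ 1 → ∀ a : E, g • a = a → a = 0) ∧
      _root_.commutator D ≤ Cfsg.fittingSubgroup D := by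
  set F := Cfsg.fittingSubgroup D with hFdef
  haveI hFn : F.Normal := ComponentsCores.fittingSubgroup_normal
  haveI hFnil : Group.IsNilpotent F := ComponentsFitting.fittingSubgroup_isNilpotent
  -- Sylow subgroups of F are normal in D
  have hsyl : ∀ p : ℕ, [Fact p.Prime] → ∀ P : Sylow p F,
      ((P : Subgroup F).map F.subtype).Normal := by
    intro p _ P
    haveI : (P : Subgroup F).Normal :=
      P.normal_of_normalizerCondition Group.normalizerCondition_of_isNilpotent
    haveI : (P : Subgroup F).Characteristic := P.characteristic_of_normal inferInstance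
    infer_instance
  haveI : IsZGroup F := ⟨fun p hp P => by
    haveI := Fact.mk hp
    haveI := hsyl p P
    haveI := (normal_pgroup hodd hq hE htrans _ (P.2.map F.subtype)).1
    exact isCyclic_of_surjective _
      ((P : Subgroup F).equivMapOfInjective F.subtype F.subtype_injective).symm.surjective⟩
  haveI hcyc : IsCyclic F := inferInstance
  refine ⟨hcyc, fun g hg hg1 a ha => ?_, ?_⟩
  · obtain ⟨p, hp, hdvd⟩ := Nat.exists_prime_and_dvd (mt orderOf_eq_one_iff.mp hg1)
    haveI := Fact.mk hp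
    obtain ⟨m, hm⟩ := hdvd
    have hgp : orderOf (g ^ m) = p := by
      rw [orderOf_pow_of_dvd (fun e => by subst e; rw [mul_zero] at hm; exact (orderOf_pos g).ne' hm)
        (hm ▸ dvd_mul_left m p), hm, Nat.mul_div_cancel]
      exact Nat.pos_of_ne_zero fun e => by subst e; rw [mul_zero] at hm; exact (orderOf_pos g).ne' hm
    have hmF : g ^ m ∈ F := F.pow_mem hg m
    have hpg : IsPGroup p (Subgroup.zpowers (⟨g ^ m, hmF⟩ : F)) := by
      refine IsPGroup.of_card (n := 1) ?_
      rw [Nat.card_zpowers, Subgroup.orderOf_mk, hgp, pow_one]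
    obtain ⟨P, hP⟩ := hpg.exists_le_sylow
    haveI := hsyl p P
    have hmem : g ^ m ∈ (P : Subgroup F).map F.subtype :=
      ⟨⟨g ^ m, hmF⟩, hP (Subgroup.mem_zpowers _), rfl⟩
    refine (normal_pgroup hodd hq hE htrans _ (P.2.map F.subtype)).2 ⟨g ^ m, hmem⟩ ?_ a ?_
    · intro e
      have := congrArg Subtype.val e
      simp only [OneMemClass.coe_one] at this
      rw [this, orderOf_one] at hgp
      exact hp.ne_one hgp.symm
    · show g ^ m • a = a
      exact MulAction.mem_stabilizer_iff.mp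
        ((MulAction.stabilizer D a).pow_mem (MulAction.mem_stabilizer_iff.mpr ha) m)
  · obtain ⟨z, hz⟩ := hcyc.exists_generator
    refine le_trans ?_ ComponentsFitting.centralizer_fitting_le_of_solvable
    rw [_root_.commutator_def, Subgroup.commutator_le]
    intro x _ y _
    rw [Subgroup.mem_centralizer_iff]
    intro f hf
    -- conjugation acts by powers on the generator
    have hpow : ∀ w : D, ∃ k : ℤ, ∀ u ∈ F, w * u * w⁻¹ = u ^ k := by
      intro w
      obtain ⟨k, hk⟩ := Subgroup.mem_zpowers_iff.mp (hz ⟨w * (z : D) * w⁻¹, hFn.conj_mem _ z.2 w⟩)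
      refine ⟨k, fun u hu => ?_⟩
      obtain ⟨j, hj⟩ := Subgroup.mem_zpowers_iff.mp (hz ⟨u, hu⟩)
      have hj' : (z : D) ^ j = u := by simpa using congrArg Subtype.val hj
      have hk' : (z : D) ^ k = w * (z : D) * w⁻¹ := by simpa using congrArg Subtype.val hk
      rw [← hj', ← conj_zpow, ← hk', ← zpow_mul, ← zpow_mul, mul_comm]
    obtain ⟨i, hi⟩ := hpow x
    obtain ⟨j, hj⟩ := hpow y
    have e1 : y⁻¹ * f * y ∈ F := by simpa using hFn.conj_mem f hf y⁻¹
    have e2 : x⁻¹ * (y⁻¹ * f * y) * x ∈ F := by simpa using hFn.conj_mem _ e1 x⁻¹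
    -- hence the commutator centralises f
    have hfx : ∀ f ∈ F, (x * y) * f * (x * y)⁻¹ = (y * x) * f * (y * x)⁻¹ := by
      intro f hf
      have a1 : (x * y) * f * (x * y)⁻¹ = (f ^ j) ^ i := by
        rw [← hi _ (F.zpow_mem hf j), ← hj f hf]; group
      have a2 : (y * x) * f * (y * x)⁻¹ = (f ^ i) ^ j := by
        rw [← hj _ (F.zpow_mem hf i), ← hi f hf]; group
      rw [a1, a2, ← zpow_mul, ← zpow_mul, mul_comm]
    have e4 : (y * x)⁻¹ * f * (y * x) ∈ F := by simpa [mul_assoc] using e2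
    have := hfx _ e4
    rw [commutatorElement_def]
    calc f * (x * y * x⁻¹ * y⁻¹)
        = ((y * x) * ((y * x)⁻¹ * f * (y * x)) * (y * x)⁻¹) * (x * y * x⁻¹ * y⁻¹) := by group
      _ = ((x * y) * ((y * x)⁻¹ * f * (y * x)) * (x * y)⁻¹) * (x * y * x⁻¹ * y⁻¹) := by rw [this]
      _ = x * y * x⁻¹ * y⁻¹ * f := by group

end Cfsg.Agent.TransitiveOdd23
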