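import Mathlib
import Cfsg.Agent.Lib.FrobeniusRankOne
import Cfsg.Agent.Lib.TransitiveOdd23
import Cfsg.Agent.Lib.ComponentsFitting
import Cfsg.Agent.Lib.ChevAutGalois
import Cfsg.Agent.S1122
import Cfsg.Agent.S1127

/-!
Rank one set-up: the elements of the two-point stabiliser inverted by `t` form a cyclic normal
subgroup, given that groups of odd order are solvable.

With `E` the group of involutions of the point stabiliser and `D` the two-point stabiliser, the
image of `D` in `Aut E` is transitive of odd order, so its Fitting subgroup is cyclic, semiregular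
and self-centralising; conjugation by `t` inverts it, whence it is the image of the inverted
elements.
-/

set_option autoImplicit false
set_option linter.unusedSectionVars false
set_option linter.style.haveILetI false
set_option linter.unusedVariables false

universe u v

namespace Cfsg.Agent.RankOneInverted82

open MulAction Cfsg.Agent.RankOneSetup

variable {G : Type u} {Ω : Type v} [Group G] [Finite G] [MulAction G Ω] {a : Ω} {t : G}
  {Q : Subgroup G}

/-- the inverted elements -/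
abbrev inv (G : Type u) [Group G] [MulAction G Ω] (a : Ω) (t : G) : Set G :=
  Cfsg.invertedBy (twoPt G a t) t

/-- the involutions of the point stabiliser -/
abbrev invo (G : Type u) [Group G] [MulAction G Ω] (a : Ω) : Set G :=
  Cfsg.involutionsIn (stabilizer G a : Set G)

/-- The involutions of the point stabiliser together with the identity. -/
def invGroup (hS : Cfsg.IsRankOneSetup G Ω a t Q)
    (h2 : ∃ x y : G, x ≠ 1 ∧ y ≠ 1 ∧ x ≠ y ∧ x * x = 1 ∧ y * y = 1 ∧ x * y = y * x) :
    Subgroup G where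
  carrier := {x | x ∈ stabilizer G a ∧ x * x = 1}
  one_mem' := ⟨one_mem _, one_mul 1⟩
  mul_mem' := by
    rintro x y ⟨hx, hx2⟩ ⟨hy, hy2⟩
    refine ⟨mul_mem hx hy, ?_⟩
    by_cases hx1 : x = 1
    · subst hx1; simpa using hy2
    by_cases hy1 : y = 1
    · subst hy1; simpa using hx2
    rcases (FrobeniusRankOne.involutions_central hS h2).2 x ⟨hx, hx1, hx2⟩ y ⟨hy, hy1, hy2⟩ with
      h | h
    · rw [h, one_mul]
    · exact h.2.2
  inv_mem' := by
    rintro x ⟨hx, hx2⟩
    exact ⟨inv_mem hx, by rw [← mul_inv_rev, hx2, inv_one]⟩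

section Setup

variable (hS : Cfsg.IsRankOneSetup G Ω a t Q)
  (h2 : ∃ x y : G, x ≠ 1 ∧ y ≠ 1 ∧ x ≠ y ∧ x * x = 1 ∧ y * y = 1 ∧ x * y = y * x)

theorem invGroup_comm (x y : invGroup hS h2) : x * y = y * x := by
  apply Subtype.ext
  obtain ⟨hx, hx2⟩ := x.2
  obtain ⟨hy, hy2⟩ := y.2
  by_cases hx1 : (x : G) = 1
  · simp [hx1]
  exact ((FrobeniusRankOne.involutions_central hS h2).1 x ⟨hx, hx1, hx2⟩).2 y
    (invol_mem_q hS hy hy2)

theorem mem_invo (e : invGroup hS h2) (he : e ≠ 1) : (e : G) ∈ invo G a :=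
  ⟨e.2.1, fun h => he (Subtype.ext h), e.2.2⟩

/-- Conjugation action of the two-point stabiliser. -/
def phi : ↥(twoPt G a t) →* MulAut ↥(invGroup hS h2) where
  toFun d :=
    { toFun := fun e => ⟨(d : G) * e * (d : G)⁻¹,
        mul_mem (mul_mem d.2.1 e.2.1) (inv_mem d.2.1), by
          calc (d : G) * e * (d : G)⁻¹ * ((d : G) * e * (d : G)⁻¹)
              = d * ((e : G) * e) * (d : G)⁻¹ := by group
            _ = 1 := by rw [e.2.2]; group⟩
      invFun := fun e => ⟨(d : G)⁻¹ * e * (d : G),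
        mul_mem (mul_mem (inv_mem d.2.1) e.2.1) d.2.1, by
          calc (d : G)⁻¹ * e * (d : G) * ((d : G)⁻¹ * e * (d : G))
              = (d : G)⁻¹ * ((e : G) * e) * (d : G) := by group
            _ = 1 := by rw [e.2.2]; group⟩
      left_inv := fun e => Subtype.ext (by simp [mul_assoc])
      right_inv := fun e => Subtype.ext (by simp [mul_assoc])
      map_mul' := fun x y => Subtype.ext (by simp [mul_assoc]) }
  map_one' := MulEquiv.ext fun e => Subtype.ext (by simp)
  map_mul' d d' := MulEquiv.ext fun e => Subtype.ext (by simp [mul_assoc])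

theorem phi_apply (d : twoPt G a t) (e : invGroup hS h2) :
    ((phi hS h2 d e : invGroup hS h2) : G) = (d : G) * e * (d : G)⁻¹ := rfl

theorem phi_eq_one_iff (d : twoPt G a t) :
    phi hS h2 d = 1 ↔ (d : G) ∈ Subgroup.centralizer (invo G a) := by
  rw [Subgroup.mem_centralizer_iff]
  constructor
  · intro h s hs
    have := congrArg Subtype.val (DFunLike.congr_fun h (⟨s, hs.1, hs.2.2⟩ : invGroup hS h2))
    rw [phi_apply] at this
    simp only [MulAut.one_apply] at this
    exact (mul_inv_eq_iff_eq_mul.1 this).symm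
  · intro h
    refine MulEquiv.ext fun e => Subtype.ext ?_
    rw [phi_apply, MulAut.one_apply]
    by_cases he : e = 1
    · simp [he]
    exact mul_inv_eq_iff_eq_mul.2 (h e (mem_invo hS h2 e he)).symm

/-- The kernel centralises `t` and all inverted elements. -/
theorem ker_spec {d : twoPt G a t} (h : phi hS h2 d = 1) :
    (d : G) * t = t * d ∧ ∀ k ∈ inv G a t, k * (d : G) = d * k := by
  have h' : (d : G) ∈ twoPt G a t ⊓ Subgroup.centralizer (invo G a) :=
    ⟨d.2, (phi_eq_one_iff hS h2 d).1 h⟩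
  rw [← (Cfsg.Agent.S1127.result hS).2] at h'
  exact ⟨Subgroup.mem_centralizer_singleton_iff.1 h'.1.2, Subgroup.mem_centralizer_iff.1 h'.2⟩

theorem exists_base : ∃ e₀ : invGroup hS h2, e₀ ≠ 1 ∧
    ∀ d : twoPt G a t, (d : G) * t = t * d ↔ phi hS h2 d e₀ = e₀ := by
  obtain ⟨s, hs, r, hr, he⟩ := phi_surj hS (v := t) ⟨hS.mul_self, rfl⟩
  have he' : t * s * t = r⁻¹ * t * r := by
    calc t * s * t = r⁻¹ * (r * (t * s * t) * r⁻¹) * r := by group
      _ = r⁻¹ * t * r := by rw [he]
  have hC := (Cfsg.Agent.S1127.result hS).1 s r hs hr he'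
  refine ⟨⟨s, hs.1, hs.2.2⟩, fun h => hs.2.1 (congrArg Subtype.val h), fun d => ?_⟩
  have hiff : (d : G) ∈ twoPt G a t ⊓ Subgroup.centralizer {t} ↔
      (d : G) ∈ twoPt G a t ⊓ Subgroup.centralizer {s} := by rw [hC]
  simp only [Subgroup.mem_inf, d.2, true_and, Subgroup.mem_centralizer_singleton_iff] at hiff
  rw [hiff]
  constructor
  · intro h
    exact Subtype.ext (by rw [phi_apply]; exact mul_inv_eq_iff_eq_mul.2 h)
  · intro h
    have := congrArg Subtype.val h
    rw [phi_apply] at this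
    exact mul_inv_eq_iff_eq_mul.1 this

theorem exists_conj_inv {e e' : invGroup hS h2} (he : e ≠ 1) (he' : e' ≠ 1) :
    ∃ k : twoPt G a t, (k : G) ∈ inv G a t ∧ phi hS h2 k e = e' := by
  obtain ⟨k, hk, hke⟩ := (Cfsg.Agent.S1122.result hS).2 e (mem_invo hS h2 e he) e'
    (mem_invo hS h2 e' he')
  have hk' : k⁻¹ ∈ inv G a t := by
    refine ⟨inv_mem hk.1, ?_⟩
    calc t * k⁻¹ * t⁻¹ = (t * k * t⁻¹)⁻¹ := by group
      _ = (k⁻¹)⁻¹ := by rw [hk.2]
  refine ⟨⟨k⁻¹, hk'.1⟩, hk', Subtype.ext ?_⟩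
  rw [phi_apply]
  simpa [inv_inv] using hke

/-- Properties of the Fitting subgroup of the image. -/
structure Spec (F : Subgroup ↥(phi hS h2).range) : Prop where
  normal : F.Normal
  cyclic : IsCyclic F
  semi : ∀ f ∈ F, f ≠ 1 → ∀ e : invGroup hS h2, (f : MulAut ↥(invGroup hS h2)) e = e → e = 1
  centr : Subgroup.centralizer (F : Set ↥(phi hS h2).range) ≤ F
  max : ∀ N : Subgroup ↥(phi hS h2).range, N.Normal → (∀ x ∈ N, ∀ y ∈ N, x * y = y * x) → N ≤ F

theorem exists_spec
    (hFT : ∀ (K : Type u) [Group K] [Finite K], Odd (Nat.card K) → Group.IsSolvable K) :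
    ∃ F, Spec hS h2 F := by
  classical
  letI : CommGroup ↥(invGroup hS h2) :=
    { (inferInstance : Group ↥(invGroup hS h2)) with mul_comm := invGroup_comm hS h2 }
  let R := ↥(phi hS h2).range
  letI act : DistribMulAction R (Additive ↥(invGroup hS h2)) :=
    { smul := fun g x => Additive.ofMul ((g : MulAut ↥(invGroup hS h2)) x.toMul)
      one_smul := fun x => rfl
      mul_smul := fun g g' x => rfl
      smul_zero := fun g => congrArg Additive.ofMul (map_one (g : MulAut ↥(invGroup hS h2)))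
      smul_add := fun g x y =>
        congrArg Additive.ofMul (map_mul (g : MulAut ↥(invGroup hS h2)) x.toMul y.toMul) }
  haveI : FaithfulSMul R (Additive ↥(invGroup hS h2)) :=
    ⟨fun {g g'} h => Subtype.ext (MulEquiv.ext fun e =>
      Additive.ofMul.injective (h (Additive.ofMul e)))⟩
  have hodd : Odd (Nat.card R) := by
    obtain ⟨c, hc⟩ := Subgroup.card_range_dvd (phi hS h2)
    have := hS.odd_card
    rw [show Nat.card ↥(stabilizer G a ⊓ stabilizer G (t • a)) =
      Nat.card ↥(twoPt G a t) from rfl, hc] at this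
    exact (Nat.odd_mul.1 this).1
  haveI : Group.IsSolvable R := hFT R hodd
  have hexp : ∀ x : Additive ↥(invGroup hS h2), 2 • x = 0 := fun x => by
    refine congrArg Additive.ofMul (?_ : x.toMul ^ 2 = 1)
    exact Subtype.ext (by rw [pow_two]; exact x.toMul.2.2)
  obtain ⟨hcyc, hsemi, -⟩ := TransitiveOdd23.main (D := R) (E := Additive ↥(invGroup hS h2))
    hodd Nat.prime_two hexp (fun x y hx hy => by
      obtain ⟨k, -, hk⟩ := exists_conj_inv hS h2 (e := x.toMul) (e' := y.toMul)
        (fun h => hx (congrArg Additive.ofMul h)) (fun h => hy (congrArg Additive.ofMul h))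
      exact ⟨⟨phi hS h2 k, k, rfl⟩, congrArg Additive.ofMul hk⟩)
  refine ⟨Cfsg.fittingSubgroup R, ⟨ComponentsCores.fittingSubgroup_normal, hcyc,
    fun f hf hf1 e he => ?_, ComponentsFitting.centralizer_fitting_le_of_solvable,
    fun N hN hcomm => ?_⟩⟩
  · exact congrArg Additive.toMul
      (hsemi f hf hf1 (Additive.ofMul e) (congrArg Additive.ofMul he))
  · refine le_sSup ⟨hN, ?_⟩
    letI : CommGroup N :=
      { (inferInstance : Group N) with
        mul_comm := fun x y => Subtype.ext (hcomm x x.2 y y.2) }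
    infer_instance

/-- image in the range -/
abbrev rho : ↥(twoPt G a t) →* ↥(phi hS h2).range := (phi hS h2).rangeRestrict

/-- conjugation by `t` on the two-point stabiliser -/
def tau (hS : Cfsg.IsRankOneSetup G Ω a t Q) (d : twoPt G a t) : twoPt G a t :=
  ⟨t * (d : G) * t, t_conj hS d.2⟩

theorem tau_mul (d d' : twoPt G a t) : tau hS (d * d') = tau hS d * tau hS d' :=
  Subtype.ext (t_conj_mul hS d d')

theorem tau_inv (d : twoPt G a t) : tau hS d⁻¹ = (tau hS d)⁻¹ := by
  apply Subtype.ext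
  show t * (d : G)⁻¹ * t = (t * (d : G) * t)⁻¹
  rw [mul_inv_rev, mul_inv_rev, t_inv hS, mul_assoc]

theorem tau_tau (d : twoPt G a t) : tau hS (tau hS d) = d :=
  Subtype.ext (t_conj_t_conj hS d)

theorem tau_of_inv {k : twoPt G a t} (hk : (k : G) ∈ inv G a t) : tau hS k = k⁻¹ := by
  apply Subtype.ext
  have := hk.2
  rwa [t_inv hS] at this

theorem tau_fixed_iff (d : twoPt G a t) : tau hS d = d ↔ (d : G) * t = t * d := by
  constructor
  · intro h
    have h' : t * (d : G) * t = d := congrArg Subtype.val h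
    calc (d : G) * t = (t * (d : G) * t) * t := by rw [h']
      _ = t * d := by rw [mul_assoc, hS.mul_self, mul_one]
  · intro h
    apply Subtype.ext
    show t * (d : G) * t = d
    rw [mul_assoc, h, ← mul_assoc, hS.mul_self, one_mul]

theorem eq_of_sq {H : Type u} [Group H] [Finite H] (hH : Odd (Nat.card H)) {x : H}
    (h : x * x = 1) : x = 1 :=
  eq_one_of_sq (X := (⊤ : Subgroup H)) (by rwa [Subgroup.card_top]) trivial h

theorem phi_eq_iff (d : twoPt G a t) : rho hS h2 d = 1 ↔ phi hS h2 d = 1 :=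
  Subtype.ext_iff

/-- If `d ≡ τ d` modulo the kernel then `d` is fixed by `τ`. -/
theorem tau_fixed_of_rho {d : twoPt G a t} (h : rho hS h2 (tau hS d) = rho hS h2 d) :
    tau hS d = d := by
  have h1 : rho hS h2 (d⁻¹ * tau hS d) = 1 := by rw [map_mul, map_inv, h, inv_mul_cancel]
  set z := d⁻¹ * tau hS d with hz
  have h3 : tau hS z = z :=
    (tau_fixed_iff hS z).2 (ker_spec hS h2 ((phi_eq_iff hS h2 z).1 h1)).1
  have h4 : tau hS z = z⁻¹ := by
    rw [hz, tau_mul, tau_inv, tau_tau, mul_inv_rev, inv_inv]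
  have h5 : z = 1 := eq_of_sq (H := ↥(twoPt G a t)) hS.odd_card (by
    conv_lhs => arg 2; rw [← h3, h4]
    rw [mul_inv_cancel])
  calc tau hS d = d * z := by rw [hz, mul_inv_cancel_left]
    _ = d := by rw [h5, mul_one]

variable {F : Subgroup ↥(phi hS h2).range}

/-- `τ` leaves the Fitting subgroup invariant. -/
theorem rho_tau_mem (hF : Spec hS h2 F) {m : twoPt G a t} (hm : rho hS h2 m ∈ F) :
    rho hS h2 (tau hS m) ∈ F := by
  have hsurj : Function.Surjective (rho hS h2) := (phi hS h2).rangeRestrict_surjective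
  -- the set of images of τ-conjugates
  let N : Subgroup ↥(phi hS h2).range :=
    { carrier := {x | ∃ m : twoPt G a t, rho hS h2 m ∈ F ∧ rho hS h2 (tau hS m) = x}
      one_mem' := ⟨1, by rw [map_one]; exact one_mem F, by
        rw [(tau_fixed_iff hS 1).2 (by simp), map_one]⟩
      mul_mem' := by
        rintro x y ⟨m, hm, rfl⟩ ⟨m', hm', rfl⟩
        exact ⟨m * m', by rw [map_mul]; exact mul_mem hm hm', by rw [tau_mul, map_mul]⟩
      inv_mem' := by
        rintro x ⟨m, hm, rfl⟩
        exact ⟨m⁻¹, by rw [map_inv]; exact inv_mem hm, by rw [tau_inv, map_inv]⟩ }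
  refine hF.max N ⟨?_⟩ ?_ ⟨m, hm, rfl⟩
  · rintro x ⟨m, hm, rfl⟩ g
    obtain ⟨g, rfl⟩ := hsurj g
    refine ⟨tau hS g * m * (tau hS g)⁻¹, ?_, ?_⟩
    · rw [map_mul, map_mul, map_inv]
      exact hF.normal.conj_mem _ hm _
    · rw [tau_mul, tau_mul, tau_inv, tau_tau, map_mul, map_mul, map_inv]
  · rintro x ⟨m, hm, rfl⟩ y ⟨m', hm', rfl⟩
    haveI := hF.cyclic
    have hc : rho hS h2 (m * m') = rho hS h2 (m' * m) := by
      rw [map_mul, map_mul]
      letI := IsCyclic.commGroup (α := F)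
      exact congrArg Subtype.val (mul_comm (⟨_, hm⟩ : F) ⟨_, hm'⟩)
    -- `τ` preserves the kernel
    have h1 : rho hS h2 ((m' * m)⁻¹ * (m * m')) = 1 := by
      rw [map_mul, map_inv, hc, inv_mul_cancel]
    have h3 := (tau_fixed_iff hS _).2 (ker_spec hS h2 ((phi_eq_iff hS h2 _).1 h1)).1
    rw [← h3] at h1
    rw [tau_mul, tau_inv, map_mul, map_inv, inv_mul_eq_one] at h1
    rw [← map_mul, ← map_mul, ← tau_mul, ← tau_mul]
    exact h1.symm

/-- `τ` inverts the Fitting subgroup. -/
theorem rho_tau_eq (hF : Spec hS h2 F) {m : twoPt G a t} (hm : rho hS h2 m ∈ F) :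
    rho hS h2 (tau hS m) = (rho hS h2 m)⁻¹ := by
  obtain ⟨e₀, he₀, hV⟩ := exists_base hS h2
  haveI := hF.cyclic
  have hm' := rho_tau_mem hS h2 hF hm
  have hfix : tau hS (m * tau hS m) = m * tau hS m := by
    refine tau_fixed_of_rho hS h2 ?_
    rw [tau_mul, tau_tau, map_mul, map_mul]
    letI := IsCyclic.commGroup (α := F)
    exact congrArg Subtype.val (mul_comm (⟨_, hm'⟩ : F) ⟨_, hm⟩)
  have h1 : rho hS h2 (m * tau hS m) = 1 := by
    by_contra hne
    refine he₀ (hF.semi _ (by rw [map_mul]; exact mul_mem hm hm') hne e₀ ?_)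
    exact (hV _).1 ((tau_fixed_iff hS _).1 hfix)
  rw [map_mul, mul_eq_one_iff_eq_inv] at h1
  rw [h1, inv_inv]

/-- Inverted elements map into the Fitting subgroup. -/
theorem rho_inv_mem (hF : Spec hS h2 F) {k : twoPt G a t} (hk : (k : G) ∈ inv G a t) :
    rho hS h2 k ∈ F := by
  have hsurj : Function.Surjective (rho hS h2) := (phi hS h2).rangeRestrict_surjective
  have hc : rho hS h2 (k * k) ∈ F := by
    refine hF.centr (Subgroup.mem_centralizer_iff.2 fun f hf => ?_)
    obtain ⟨m, rfl⟩ := hsurj f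
    have hm : rho hS h2 m ∈ F := hf
    have hkm : rho hS h2 (k * m * k⁻¹) ∈ F := by
      rw [map_mul, map_mul, map_inv]; exact hF.normal.conj_mem _ hm _
    have h1 := rho_tau_eq hS h2 hF hkm
    rw [tau_mul, tau_mul, tau_inv, tau_of_inv hS hk, inv_inv, map_mul, map_mul,
      rho_tau_eq hS h2 hF hm] at h1
    simp only [map_mul, map_inv, mul_inv_rev, inv_inv] at h1
    rw [map_mul]
    set x := rho hS h2 k
    set f := rho hS h2 m
    have h3 : x⁻¹ * f * x = x * f * x⁻¹ := by
      have := congrArg (fun y => y⁻¹) h1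
      simpa [mul_inv_rev, mul_assoc] using this
    calc f * (x * x) = x * (x⁻¹ * f * x) * x := by group
      _ = x * (x * f * x⁻¹) * x := by rw [h3]
      _ = x * x * f := by group
  obtain ⟨j, hj⟩ := hS.odd_card
  have he : k = (k * k) ^ (j + 1) := by
    have h3 : k ^ (Nat.card ↥(twoPt G a t) + 1) = k := by rw [pow_succ, pow_card_eq_one', one_mul]
    have h4 : Nat.card ↥(twoPt G a t) = 2 * j + 1 := hj
    rw [h4] at h3
    rw [← pow_two, ← pow_mul]
    exact h3.symm.trans (congrArg (k ^ ·) (by omega))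
  rw [he, map_pow]
  exact F.pow_mem hc _

/-- The Fitting subgroup consists of images of inverted elements. -/
theorem exists_inv_of_mem (hF : Spec hS h2 F) {f : ↥(phi hS h2).range} (hf : f ∈ F) :
    ∃ k : twoPt G a t, (k : G) ∈ inv G a t ∧ rho hS h2 k = f := by
  obtain ⟨e₀, he₀, -⟩ := exists_base hS h2
  have hfe : (f : MulAut ↥(invGroup hS h2)) e₀ ≠ 1 := fun h =>
    he₀ ((f : MulAut ↥(invGroup hS h2)).injective (h.trans (map_one _).symm))
  obtain ⟨k, hk, hke⟩ := exists_conj_inv hS h2 he₀ hfe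
  refine ⟨k, hk, ?_⟩
  by_contra hne
  refine he₀ (hF.semi ((rho hS h2 k)⁻¹ * f) (mul_mem (inv_mem (rho_inv_mem hS h2 hF hk)) hf)
    (fun h => hne (inv_mul_eq_one.1 h)) e₀ ?_)
  show (phi hS h2 k)⁻¹ ((f : MulAut ↥(invGroup hS h2)) e₀) = e₀
  rw [← hke]
  exact MulAut.inv_apply_self _ _ _

theorem inv_injective {k l : twoPt G a t} (hk : (k : G) ∈ inv G a t) (hl : (l : G) ∈ inv G a t)
    (h : rho hS h2 k = rho hS h2 l) : k = l := by
  have hz : rho hS h2 (l⁻¹ * k) = 1 := by rw [map_mul, map_inv, h, inv_mul_cancel]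
  set z := l⁻¹ * k with hzdef
  obtain ⟨hzt, hzI⟩ := ker_spec hS h2 ((phi_eq_iff hS h2 z).1 hz)
  have hzl : l * z = z * l := Subtype.ext (hzI l hl)
  have hk' : k = l * z := by rw [hzdef, mul_inv_cancel_left]
  have h1 := tau_of_inv hS hk
  rw [hk', tau_mul, tau_of_inv hS hl, (tau_fixed_iff hS z).2 hzt, hzl, mul_inv_rev] at h1
  have h3 : z = z⁻¹ := mul_left_cancel h1
  have h4 : z = 1 := eq_of_sq (H := ↥(twoPt G a t)) hS.odd_card (by
    nth_rw 2 [h3]; rw [mul_inv_cancel])
  rw [hk', h4, mul_one]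

theorem inv_pow_mem {k : twoPt G a t} (hk : (k : G) ∈ inv G a t) (n : ℕ) :
    ((k ^ n : twoPt G a t) : G) ∈ inv G a t := by
  refine ⟨(k ^ n).2, ?_⟩
  rw [SubmonoidClass.coe_pow, ← conj_pow, hk.2, inv_pow]

include hS h2 in
/-- Decomposition `D = I · C_D(t)`. -/
theorem decomp (d : twoPt G a t) : ∃ k v : twoPt G a t,
    (k : G) ∈ inv G a t ∧ (v : G) * t = t * v ∧ d = k * v := by
  obtain ⟨e₀, he₀, hV⟩ := exists_base hS h2
  have hde : phi hS h2 d e₀ ≠ 1 := fun h =>
    he₀ ((phi hS h2 d).injective (h.trans (map_one _).symm))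
  obtain ⟨k, hk, hke⟩ := exists_conj_inv hS h2 he₀ hde
  refine ⟨k, k⁻¹ * d, hk, (hV _).2 ?_, by rw [mul_inv_cancel_left]⟩
  rw [map_mul, map_inv, MulAut.mul_apply, ← hke]
  exact MulAut.inv_apply_self _ _ _

include hS h2 in
/-- **The inverted elements form a cyclic normal subgroup of the two-point stabiliser.** -/
theorem exists_cyclic (hFT : ∀ (K : Type u) [Group K] [Finite K], Odd (Nat.card K) → Group.IsSolvable K) :
    ∃ C : Subgroup G, (C : Set G) = inv G a t ∧ IsCyclic C ∧
      ∀ d ∈ twoPt G a t, ∀ c ∈ C, d * c * d⁻¹ ∈ C := by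
  obtain ⟨F, hF⟩ := exists_spec hS h2 hFT
  haveI := hF.cyclic
  obtain ⟨f₀, hf₀⟩ := IsCyclic.exists_monoid_generator (α := F)
  obtain ⟨k₀, hk₀, hk₀f⟩ := exists_inv_of_mem hS h2 hF f₀.2
  have hgen : ∀ k : G, k ∈ inv G a t → ∃ n : ℕ, (k₀ : G) ^ n = k := by
    intro k hk
    have hmem := rho_inv_mem hS h2 hF (k := ⟨k, hk.1⟩) hk
    obtain ⟨n, hn⟩ := Submonoid.mem_powers_iff _ _ |>.1 (hf₀ ⟨_, hmem⟩)
    refine ⟨n, ?_⟩
    have := inv_injective hS h2 (inv_pow_mem hk₀ n) (l := ⟨k, hk.1⟩) hk (by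
      rw [map_pow, hk₀f]; exact congrArg Subtype.val hn)
    exact congrArg Subtype.val this
  refine ⟨Subgroup.zpowers (k₀ : G), ?_, inferInstance, ?_⟩
  · ext x
    refine ⟨fun hx => ?_, fun hx => ?_⟩
    · obtain ⟨n, rfl⟩ := mem_powers_iff_mem_zpowers.2 hx
      exact inv_pow_mem hk₀ n
    · obtain ⟨n, rfl⟩ := hgen x hx
      exact Subgroup.npow_mem_zpowers _ _
  · intro d hd c hc
    obtain ⟨n, rfl⟩ := mem_powers_iff_mem_zpowers.2 hc
    obtain ⟨k, v, hk, hv, he⟩ := decomp hS h2 ⟨d, hd⟩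
    have he' : d = (k : G) * v := congrArg Subtype.val he
    have hvc : (v : G) * (k₀ : G) ^ n * (v : G)⁻¹ ∈ inv G a t := by
      have hc' := inv_pow_mem hk₀ n
      refine ⟨mul_mem (mul_mem v.2 hc'.1) (inv_mem v.2), ?_⟩
      have h3 : t * (v : G) * t⁻¹ = v := by rw [← hv, mul_inv_cancel_right]
      calc t * ((v : G) * (k₀ : G) ^ n * (v : G)⁻¹) * t⁻¹
          = (t * (v : G) * t⁻¹) * (t * (k₀ : G) ^ n * t⁻¹) * (t * (v : G) * t⁻¹)⁻¹ := by group
        _ = (v : G) * ((k₀ : G) ^ n)⁻¹ * (v : G)⁻¹ := by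
            rw [h3]
            have := hc'.2
            simp only [SubmonoidClass.coe_pow] at this
            rw [this]
        _ = ((v : G) * (k₀ : G) ^ n * (v : G)⁻¹)⁻¹ := by group
    obtain ⟨i, hi⟩ := hgen _ hk
    obtain ⟨j, hj⟩ := hgen _ hvc
    have : d * (k₀ : G) ^ n * d⁻¹ = (k₀ : G) ^ j := by
      rw [he']
      calc (k : G) * v * (k₀ : G) ^ n * ((k : G) * v)⁻¹
          = (k : G) * ((v : G) * (k₀ : G) ^ n * (v : G)⁻¹) * (k : G)⁻¹ := by group
        _ = (k₀ : G) ^ i * (k₀ : G) ^ j * ((k₀ : G) ^ i)⁻¹ := by rw [← hj, ← hi]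
        _ = (k₀ : G) ^ j := by
            rw [← pow_add, add_comm, pow_add, mul_inv_cancel_right]
    rw [this]
    exact Subgroup.npow_mem_zpowers _ _

/-- Endomorphisms of the additive group of `invGroup`. -/
def toEnd : MulAut ↥(invGroup hS h2) →* AddMonoid.End (Additive ↥(invGroup hS h2)) where
  toFun g := MonoidHom.toAdditive g.toMonoidHom
  map_one' := AddMonoidHom.ext fun _ => rfl
  map_mul' g g' := AddMonoidHom.ext fun _ => rfl

/-- `C_D(t)` acts on `E` through a cyclic group. -/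
theorem exists_gen_centralizer
    (hFT : ∀ (K : Type u) [Group K] [Finite K], Odd (Nat.card K) → Group.IsSolvable K) :
    ∃ v : twoPt G a t, (v : G) * t = t * v ∧ ∀ x : twoPt G a t, (x : G) * t = t * x →
      ∃ n : ℤ, phi hS h2 (x * (v ^ n)⁻¹) = 1 := by
  classical
  obtain ⟨F, hF⟩ := exists_spec hS h2 hFT
  obtain ⟨e₀, he₀, hV⟩ := exists_base hS h2
  haveI := hF.cyclic
  have hFc : ∀ f ∈ F, ∀ g ∈ F, f * g = g * f := fun f hf g hg => by
    letI := IsCyclic.commGroup (α := F)
    exact congrArg Subtype.val (mul_comm (⟨f, hf⟩ : F) ⟨g, hg⟩)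
  have hcomm := invGroup_comm hS h2
  letI : CommGroup ↥(invGroup hS h2) :=
    { (inferInstance : Group ↥(invGroup hS h2)) with mul_comm := hcomm }
  have htrans : ∀ e : ↥(invGroup hS h2), e ≠ 1 → ∃ f ∈ F,
      (f : MulAut ↥(invGroup hS h2)) e₀ = e := fun e he => by
    obtain ⟨k, hk, hke⟩ := exists_conj_inv hS h2 he₀ he
    exact ⟨rho hS h2 k, rho_inv_mem hS h2 hF hk, hke⟩
  let x₀ : Additive ↥(invGroup hS h2) := Additive.ofMul e₀
  have hx₀ : x₀ ≠ 0 := fun h => he₀ (congrArg Additive.toMul h)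
  let tE : ↥(phi hS h2).range →* AddMonoid.End (Additive ↥(invGroup hS h2)) :=
    (toEnd hS h2).comp (phi hS h2).range.subtype
  have tE_inj : Function.Injective tE := fun g g' h => Subtype.ext (MulEquiv.ext fun e =>
    Additive.ofMul.injective (DFunLike.congr_fun h (Additive.ofMul e)))
  let car : Set (AddMonoid.End (Additive ↥(invGroup hS h2))) := insert 0 (tE '' (F : Set _))
  have hev : ∀ x ∈ car, x x₀ = 0 → x = 0 := by
    rintro x (rfl | ⟨f, hf, rfl⟩) hx
    · rfl
    · exfalso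
      exact hx₀ ((MulEquiv.toAdditive (f : MulAut ↥(invGroup hS h2))).injective
        (hx.trans (map_zero _).symm))
  have hcommF : ∀ x ∈ car, ∀ g ∈ F, x * tE g = tE g * x := by
    rintro x (rfl | ⟨f, hf, rfl⟩) g hg
    · simp
    · rw [← map_mul, ← map_mul, hFc f hf g hg]
  have hclosed : ∀ x, (∀ g ∈ F, x * tE g = tE g * x) → x ∈ car := by
    intro x hx
    have happ : ∀ y z : AddMonoid.End (Additive ↥(invGroup hS h2)),
        (∀ g ∈ F, y * tE g = tE g * y) → (∀ g ∈ F, z * tE g = tE g * z) →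
        y x₀ = z x₀ → y = z := by
      intro y z hy hz h
      refine AddMonoidHom.ext fun w => ?_
      by_cases hw : w = 0
      · subst hw; exact (map_zero y).trans (map_zero z).symm
      obtain ⟨g, hg, hgw⟩ := htrans w.toMul (fun h' => hw (congrArg Additive.ofMul h'))
      have hw' : w = tE g x₀ := (congrArg Additive.ofMul hgw).symm
      rw [hw']
      calc y (tE g x₀) = (y * tE g) x₀ := rfl
        _ = tE g (y x₀) := by rw [hy g hg]; rfl
        _ = tE g (z x₀) := by rw [h]
        _ = (z * tE g) x₀ := by rw [hz g hg]; rfl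
        _ = z (tE g x₀) := rfl
    by_cases h0 : x x₀ = 0
    · refine Or.inl (happ x 0 hx (fun g _ => by simp) ?_)
      rw [h0]; rfl
    · obtain ⟨f, hf, hfe⟩ := htrans (x x₀).toMul (fun h' => h0 (congrArg Additive.ofMul h'))
      refine Or.inr ⟨f, hf, (happ x (tE f) hx (hcommF _ (Or.inr ⟨f, hf, rfl⟩)) ?_).symm⟩
      exact (congrArg Additive.ofMul hfe).symm
  let R : Subring (AddMonoid.End (Additive ↥(invGroup hS h2))) :=
    { carrier := car
      zero_mem' := Or.inl rfl
      one_mem' := Or.inr ⟨1, one_mem F, map_one tE⟩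
      add_mem' := fun {x y} hx hy => hclosed _ fun g hg => by
        rw [add_mul, mul_add, hcommF x hx g hg, hcommF y hy g hg]
      neg_mem' := fun {x} hx => hclosed _ fun g hg => AddMonoidHom.ext fun w => by
        show -(x (tE g w)) = tE g (-(x w))
        rw [map_neg]
        exact congrArg Neg.neg (DFunLike.congr_fun (hcommF x hx g hg) w)
      mul_mem' := fun {x y} hx hy => hclosed _ fun g hg => by
        rw [mul_assoc, hcommF y hy g hg, ← mul_assoc, hcommF x hx g hg, mul_assoc] }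
  letI : CommRing R :=
    { (inferInstance : Ring R) with
      mul_comm := fun x y => Subtype.ext (by
        rcases y.2 with h | ⟨g, hg, h⟩
        · show (x : AddMonoid.End (Additive ↥(invGroup hS h2))) * y = y * x
          rw [h, mul_zero, zero_mul]
        · show (x : AddMonoid.End (Additive ↥(invGroup hS h2))) * y = y * x
          rw [← h, hcommF x x.2 g hg]) }
  haveI : Finite (AddMonoid.End (Additive ↥(invGroup hS h2))) :=
    Finite.of_injective (fun f => (f : Additive ↥(invGroup hS h2) → Additive ↥(invGroup hS h2)))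
      DFunLike.coe_injective
  haveI : Nontrivial R := ⟨⟨0, 1, fun h => hx₀
    (DFunLike.congr_fun (congrArg Subtype.val h) x₀).symm⟩⟩
  haveI : NoZeroDivisors R := ⟨fun {x y} h => by
    by_contra hne
    push Not at hne
    have h' : (x : AddMonoid.End (Additive ↥(invGroup hS h2))) * y = 0 := congrArg Subtype.val h
    rcases x.2 with hx | ⟨f, hf, hx⟩
    · exact hne.1 (Subtype.ext hx)
    rcases y.2 with hy | ⟨g, hg, hy⟩
    · exact hne.2 (Subtype.ext hy)
    rw [← hx, ← hy, ← map_mul] at h'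
    have h3 := hev _ (Or.inr ⟨f * g, mul_mem hf hg, rfl⟩) (by rw [h']; rfl)
    have h4 := DFunLike.congr_fun h3 x₀
    exact hx₀ ((MulEquiv.toAdditive ((f * g : ↥(phi hS h2).range) :
      MulAut ↥(invGroup hS h2))).injective (h4.trans (map_zero _).symm))⟩
  haveI : IsDomain R := NoZeroDivisors.to_isDomain R
  letI := Fintype.ofFinite R
  letI : Field R := Fintype.fieldOfDomain R
  haveI : IsCyclic (R ≃+* R) := ChevAutGalois.isCyclic_ringAut
  -- the subgroup `V` and its action on the field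
  let V : Subgroup ↥(phi hS h2).range :=
    ((Subgroup.centralizer ({t} : Set G)).subgroupOf (twoPt G a t)).map (rho hS h2)
  have hconj : ∀ w : ↥(phi hS h2).range, ∀ x ∈ R, tE w * x * tE w⁻¹ ∈ R := by
    rintro w x (rfl | ⟨f, hf, rfl⟩)
    · left; simp
    · right
      exact ⟨w * f * w⁻¹, hF.normal.conj_mem f hf w, by rw [map_mul, map_mul]⟩
  have hcancel : ∀ (w : ↥(phi hS h2).range) (y : AddMonoid.End (Additive ↥(invGroup hS h2))),
      tE w⁻¹ * (tE w * y) = y := fun w y => by
    rw [← mul_assoc, ← map_mul, inv_mul_cancel, map_one, one_mul]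
  have hcancel' : ∀ (w : ↥(phi hS h2).range) (y : AddMonoid.End (Additive ↥(invGroup hS h2))),
      tE w * (tE w⁻¹ * y) = y := fun w y => by
    rw [← mul_assoc, ← map_mul, mul_inv_cancel, map_one, one_mul]
  let ψ : V →* (R ≃+* R) :=
    { toFun := fun w =>
        { toFun := fun x => ⟨tE w.1 * x * tE w.1⁻¹, hconj w.1 x x.2⟩
          invFun := fun x => ⟨tE w.1⁻¹ * x * tE w.1, by simpa using hconj w.1⁻¹ x x.2⟩
          left_inv := fun x => Subtype.ext (by
            show tE w.1⁻¹ * (tE w.1 * x * tE w.1⁻¹) * tE w.1 = x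
            rw [mul_assoc (tE w.1), hcancel, mul_assoc, ← map_mul, inv_mul_cancel, map_one,
              mul_one])
          right_inv := fun x => Subtype.ext (by
            show tE w.1 * (tE w.1⁻¹ * x * tE w.1) * tE w.1⁻¹ = x
            rw [mul_assoc (tE w.1⁻¹), hcancel', mul_assoc, ← map_mul, mul_inv_cancel, map_one,
              mul_one])
          map_mul' := fun x y => Subtype.ext (by
            show tE w.1 * (x * y) * tE w.1⁻¹
              = tE w.1 * x * tE w.1⁻¹ * (tE w.1 * y * tE w.1⁻¹)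
            simp only [mul_assoc, hcancel])
          map_add' := fun x y => Subtype.ext (by
            show tE w.1 * (x + y) * tE w.1⁻¹
              = tE w.1 * x * tE w.1⁻¹ + tE w.1 * y * tE w.1⁻¹
            rw [mul_add, add_mul]) }
      map_one' := RingEquiv.ext fun x => Subtype.ext (by
        show tE 1 * x * tE 1⁻¹ = x
        rw [inv_one, map_one, one_mul, mul_one])
      map_mul' := fun w w' => RingEquiv.ext fun x => Subtype.ext (by
        show tE (w.1 * w'.1) * x * tE (w.1 * w'.1)⁻¹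
          = tE w.1 * (tE w'.1 * x * tE w'.1⁻¹) * tE w.1⁻¹
        simp only [mul_inv_rev, map_mul, mul_assoc]) }
  have hinj : Function.Injective ψ := by
    rw [injective_iff_map_eq_one]
    intro w hw
    apply Subtype.ext
    have hwF : w.1 ∈ F := by
      refine hF.centr (Subgroup.mem_centralizer_iff.2 fun f hf => tE_inj ?_)
      have h1 : tE w.1 * tE f * tE w.1⁻¹ = tE f :=
        congrArg Subtype.val (RingEquiv.congr_fun hw (⟨tE f, Or.inr ⟨f, hf, rfl⟩⟩ : R))
      rw [← map_mul, ← map_mul] at h1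
      rw [map_mul, map_mul]
      have h3 := tE_inj h1
      rw [mul_inv_eq_iff_eq_mul] at h3
      rw [← map_mul, ← map_mul, h3]
    obtain ⟨d, hd, hdw⟩ := Subgroup.mem_map.1 w.2
    by_contra hne
    refine he₀ (hF.semi w.1 hwF hne e₀ ?_)
    rw [← hdw]
    exact (hV d).1 (Subgroup.mem_centralizer_singleton_iff.1 hd)
  haveI : IsCyclic V := isCyclic_of_injective ψ hinj
  obtain ⟨⟨g, hg⟩, hgen⟩ := IsCyclic.exists_generator (α := V)
  obtain ⟨v, hv, rfl⟩ := Subgroup.mem_map.1 hg
  refine ⟨v, Subgroup.mem_centralizer_singleton_iff.1 hv, fun x hx => ?_⟩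
  obtain ⟨n, hn⟩ := Subgroup.mem_zpowers_iff.1
    (hgen ⟨rho hS h2 x, x, Subgroup.mem_centralizer_singleton_iff.2 hx, rfl⟩)
  refine ⟨n, (phi_eq_iff hS h2 _).1 ?_⟩
  have hn' : rho hS h2 v ^ n = rho hS h2 x := by
    simpa using congrArg Subtype.val hn
  rw [map_mul, map_inv, map_zpow, hn', mul_inv_cancel]

end Setup

end Cfsg.Agent.RankOneInverted82
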