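import Cfsg.Agent.Lib.RankOne

/-!
Rank one groups with quadratically acting unipotent subgroups.
-/

set_option autoImplicit false

namespace Cfsg.Agent.RankOneQuad

open Cfsg RankOne

section Basic

variable {X : Type*} [Group X] {N : Type*} [AddCommGroup N] [DistribMulAction X N]

/-- `[N,P]` -/
def commSub (N : Type*) [AddCommGroup N] [DistribMulAction X N] (P : Subgroup X) : AddSubgroup N :=
  AddSubgroup.closure {m | ∃ p ∈ P, ∃ n : N, p • n - n = m}

theorem sub_mem_commSub {P : Subgroup X} {p : X} (hp : p ∈ P) (n : N) : p • n - n ∈ commSub N P :=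
  AddSubgroup.subset_closure ⟨p, hp, n, rfl⟩

theorem smul_mem_commSub_conj (P : Subgroup X) (x : X) {m : N} (hm : m ∈ commSub N P) :
    x • m ∈ commSub N (conjBy P x) := by
  induction hm using AddSubgroup.closure_induction with
  | mem y hy =>
    obtain ⟨p, hp, n, rfl⟩ := hy
    have h : x * p * x⁻¹ ∈ conjBy P x := by rw [mem_conjBy]; simpa [mul_assoc] using hp
    have := sub_mem_commSub (N := N) h (x • n)
    rw [mul_smul, mul_smul, inv_smul_smul] at this
    rwa [smul_sub]
  | zero => rw [smul_zero]; exact zero_mem _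
  | add u v _ _ hu hv => rw [smul_add]; exact add_mem hu hv
  | neg u _ hu => rw [smul_neg]; exact neg_mem hu

/-- quadratic action of a subgroup -/
def IsQuad (N : Type*) [AddCommGroup N] [DistribMulAction X N] (P : Subgroup X) : Prop :=
  ∀ a ∈ P, ∀ a' ∈ P, ∀ n : N, a' • (a • n - n) = a • n - n

theorem isQuad_conj {P : Subgroup X} (h : IsQuad N P) (x : X) : IsQuad N (conjBy P x) := by
  intro a ha a' ha' n
  rw [mem_conjBy] at ha ha'
  have := congrArg (fun m => x • m) (h _ ha _ ha' (x⁻¹ • n))
  simpa [mul_smul, smul_sub] using this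

theorem fixed_commSub {P : Subgroup X} (h : IsQuad N P) {a : X} (ha : a ∈ P) {m : N}
    (hm : m ∈ commSub N P) : a • m = m := by
  induction hm using AddSubgroup.closure_induction with
  | mem y hy => obtain ⟨p, hp, n, rfl⟩ := hy; exact h p hp a ha n
  | zero => exact smul_zero _
  | add u v _ _ hu hv => rw [smul_add, hu, hv]
  | neg u _ hu => rw [smul_neg, hu]

theorem quad_add {P : Subgroup X} (h : IsQuad N P) {a a' : X} (ha : a ∈ P) (ha' : a' ∈ P) (n : N) :
    (a * a') • n - n = (a • n - n) + (a' • n - n) := by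
  rw [mul_smul]
  have h1 := h a' ha' a ha n
  rw [smul_sub] at h1
  rw [sub_eq_iff_eq_add] at h1
  rw [h1]; abel

theorem quad_pow {P : Subgroup X} (h : IsQuad N P) {a : X} (ha : a ∈ P) (n : N) (k : ℕ) :
    a ^ k • n - n = k • (a • n - n) := by
  induction k with
  | zero => simp
  | succ k ih => rw [pow_succ, quad_add h (pow_mem ha k) ha, ih, succ_nsmul]

end Basic

section Pair

variable {X : Type*} [Group X] {A B : Subgroup X} {N : Type*} [AddCommGroup N]
  [DistribMulAction X N]

/-- `Z = [N,A] ∩ [N,B]` -/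
def meetSub (N : Type*) [AddCommGroup N] [DistribMulAction X N] (A B : Subgroup X) : AddSubgroup N :=
  commSub N A ⊓ commSub N B

variable (h : IsRankOneGroup X A B) (hqA : IsQuad N A)

include h in
theorem exists_conj_right : ∃ x : X, B = conjBy A x := by
  obtain ⟨x, -, hx⟩ := right_mem_unipotents h.2
  exact ⟨x, hx⟩

include h hqA in
theorem isQuad_right : IsQuad N B := by
  obtain ⟨x, hx⟩ := exists_conj_right h
  exact hx ▸ isQuad_conj hqA x

include h hqA in
theorem fixed_meet (x : X) {z : N} (hz : z ∈ meetSub N A B) : x • z = z := by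
  have hle : A ⊔ B ≤ MulAction.stabilizer X z := sup_le
    (fun a ha => fixed_commSub hqA ha hz.1)
    (fun b hb => fixed_commSub (isQuad_right h hqA) hb hz.2)
  exact hle (h.1.symm ▸ Subgroup.mem_top x)

include h hqA in
theorem sub_mem_sup (x : X) (n : N) : x • n - n ∈ commSub N A ⊔ commSub N B := by
  have hx : x ∈ Subgroup.closure ((A : Set X) ∪ B) := by
    rw [← Subgroup.sup_eq_closure, h.1]; exact Subgroup.mem_top x
  induction hx using Subgroup.closure_induction'' generalizing n with
  | mem y hy =>
    rcases hy with hy | hy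
    · exact AddSubgroup.mem_sup_left (sub_mem_commSub hy n)
    · exact AddSubgroup.mem_sup_right (sub_mem_commSub hy n)
  | inv_mem y hy =>
    rcases hy with hy | hy
    · exact AddSubgroup.mem_sup_left (sub_mem_commSub (inv_mem hy) n)
    · exact AddSubgroup.mem_sup_right (sub_mem_commSub (inv_mem hy) n)
  | one => simp
  | mul y z _ _ hy hz =>
    have := add_mem (hy (z • n)) (hz n)
    rwa [sub_add_sub_cancel, ← mul_smul] at this

include h in
theorem smul_right_eq {x : X} (hx : B = conjBy A x) {u : N} :
    u ∈ commSub N A ↔ x • u ∈ commSub N B := by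
  subst hx
  refine ⟨smul_mem_commSub_conj A x, fun hu => ?_⟩
  have := smul_mem_commSub_conj (conjBy A x) x⁻¹ hu
  rwa [inv_smul_smul, conjBy_inv_conjBy] at this

include h hqA in
/-- The kernel of the action on `([N,A]+[N,B])/Z` is central unless `X` acts quadratically. -/
theorem kernel_central (hnq : ∃ x y : X, ∃ n : N, y • (x • n - n) ≠ x • n - n) {k : X}
    (hk : ∀ m ∈ commSub N A ⊔ commSub N B, k • m - m ∈ meetSub N A B) :
    k ∈ Subgroup.center X := by
  classical
  have fix := fun (x : X) (z : N) (hz : z ∈ meetSub N A B) => fixed_meet h hqA x hz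
  let K : Subgroup X :=
    { carrier := {x | ∀ m ∈ commSub N A ⊔ commSub N B, x • m - m ∈ meetSub N A B}
      one_mem' := fun m _ => by simp
      mul_mem' := fun {x y} hx hy m hm => by
        rw [mul_smul]
        have h1 : x • (y • m - m) = y • m - m := fix x _ (hy m hm)
        rw [smul_sub, sub_eq_iff_eq_add] at h1
        rw [h1, add_sub_assoc]
        exact add_mem (hy m hm) (hx m hm)
      inv_mem' := fun {x} hx m hm => by
        have h1 : x⁻¹ • (x • m - m) = x • m - m := fix _ _ (hx m hm)
        rw [smul_sub, inv_smul_smul] at h1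
        rw [show x⁻¹ • m - m = -(m - x⁻¹ • m) by abel, h1]
        exact neg_mem (hx m hm) }
  have hK : ∀ y : X, conjBy K y = K := by
    have hsub : ∀ y : X, ∀ x ∈ K, y * x * y⁻¹ ∈ K := by
      intro y x hx m hm
      have hm' : y⁻¹ • m ∈ commSub N A ⊔ commSub N B := by
        have := add_mem (sub_mem_sup h hqA y⁻¹ m) hm
        rwa [sub_add_cancel] at this
      have h1 := hx _ hm'
      rw [← fix y _ h1, smul_sub, smul_inv_smul, ← mul_smul, ← mul_smul] at h1
      exact h1
    intro y
    ext x
    rw [mem_conjBy]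
    constructor
    · intro hx; simpa [mul_assoc] using hsub y _ hx
    · intro hx; simpa using hsub y⁻¹ x hx
  rcases normal_dichotomy h.2 (N := K) (fun y _ => hK y) (h.1.symm ▸ le_top) with h1 | h1
  · exfalso
    obtain ⟨x, hx⟩ := exists_conj_right h
    -- every element maps `[N,A]` to itself modulo `Z`
    have hle : A ⊔ B ≤ ({
        carrier := {g : X | ∀ u ∈ commSub N A, g • u - u ∈ meetSub N A B}
        one_mem' := fun m _ => by simp
        mul_mem' := fun {g g'} hg hg' u hu => by
          have h2 : g • (g' • u - u) = g' • u - u := fix g _ (hg' u hu)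
          rw [smul_sub, sub_eq_iff_eq_add] at h2
          rw [mul_smul, h2, add_sub_assoc]
          exact add_mem (hg' u hu) (hg u hu)
        inv_mem' := fun {g} hg u hu => by
          have h2 : g⁻¹ • (g • u - u) = g • u - u := fix _ _ (hg u hu)
          rw [smul_sub, inv_smul_smul] at h2
          rw [show g⁻¹ • u - u = -(u - g⁻¹ • u) by abel, h2]
          exact neg_mem (hg u hu) } : Subgroup X) := by
      refine h1.trans (sup_le (fun g hg u hu => hg u (AddSubgroup.mem_sup_left hu)) ?_)
      intro g hg u hu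
      rw [fixed_commSub hqA hg hu, sub_self]; exact zero_mem _
    have hall : ∀ (g : X), ∀ u ∈ commSub N A, g • u - u ∈ meetSub N A B :=
      fun g => hle (h.1.symm ▸ Subgroup.mem_top g)
    have hW : ∀ w ∈ commSub N B, w ∈ meetSub N A B := by
      intro w hw
      have hu : x⁻¹ • w ∈ commSub N A := by rw [smul_right_eq h hx, smul_inv_smul]; exact hw
      have := hall x _ hu
      rw [smul_inv_smul] at this
      refine ⟨?_, hw⟩
      have h3 := add_mem (AddSubgroup.mem_inf.1 this).1 hu
      rwa [sub_add_cancel] at h3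
    have hU : ∀ u ∈ commSub N A, u ∈ meetSub N A B := by
      intro u hu
      have := hW _ ((smul_right_eq h hx).1 hu)
      have h4 := fix x⁻¹ _ this
      rw [inv_smul_smul] at h4
      rw [h4]; exact this
    obtain ⟨y, z, n, hne⟩ := hnq
    refine hne (fix z _ ?_)
    exact (sup_le hU hW : commSub N A ⊔ commSub N B ≤ meetSub N A B) (sub_mem_sup h hqA y n)
  · exact Subgroup.mem_center_iff.2 fun y => (h1 k hk y (h.1.symm ▸ Subgroup.mem_top y)).symm

include h hqA in
/-- For partners `a, b`: `a(b u - u) - (b u - u) ≡ u` for `u ∈ [N,A]`. -/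
theorem partner_identity {a b : X} (hb : b ∈ B) (ha : a ∈ A)
    (he : conjBy A b⁻¹ = conjBy B a⁻¹) {u : N} (hu : u ∈ commSub N A) :
    (a • (b • u - u) - (b • u - u)) - u ∈ meetSub N A B := by
  have hqB := isQuad_right h hqA
  have hw' := smul_mem_commSub_conj A b⁻¹ hu
  rw [he] at hw'
  have hw := smul_mem_commSub_conj (conjBy B a⁻¹) a hw'
  rw [conjBy_conjBy_inv] at hw
  -- `t = b u - u` and `b⁻¹ u = u - t`
  have htB : b • u - u ∈ commSub N B := sub_mem_commSub hb u
  have h1 : b⁻¹ • (b • u - u) = b • u - u := fixed_commSub hqB (inv_mem hb) htB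
  rw [smul_sub, inv_smul_smul, sub_eq_iff_eq_add] at h1
  have h2 : b⁻¹ • u = u - (b • u - u) := by rw [eq_sub_iff_add_eq, add_comm]; exact h1.symm
  rw [h2, smul_sub, fixed_commSub hqA ha hu] at hw
  have hA : (a • (b • u - u) - (b • u - u)) - u ∈ commSub N A :=
    sub_mem (sub_mem_commSub ha _) hu
  refine ⟨hA, ?_⟩
  have h3 := neg_mem (add_mem hw htB)
  rwa [show -(u - a • (b • u - u) + (b • u - u)) = a • (b • u - u) - (b • u - u) - u by abel] at h3

end Pair

section Symm

variable {X : Type*} [Group X] {A B : Subgroup X} {N : Type*} [AddCommGroup N]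
  [DistribMulAction X N]

theorem isRankOneGroup_symm (h : IsRankOneGroup X A B) : IsRankOneGroup X B A :=
  ⟨sup_comm A B ▸ h.1, RankOnePair_symm h.2⟩

end Symm

end Cfsg.Agent.RankOneQuad
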