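import Cfsg.Agent.S5016
import Cfsg.Agent.Lib.RankOnePerfect
import Cfsg.Prelude.Def_Transfer

/-!
The subgroup generated by a partner pair of order `p` in a special rank one group is an image of
`SL₂(p)` with central kernel.
-/

set_option autoImplicit false

namespace Cfsg.Agent.RankOneSL2

open Cfsg RankOne RankOneSpecial RankOnePerfect

local notation "SL2[" k "]" => Matrix.SpecialLinearGroup (Fin 2) k

variable {G : Type*} [Group G] {F : Type*} [Field F]

/-- Root group data: `α, β` additive, with the swapping elements acting as in `SL₂`. -/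
structure RootData (F G : Type*) [Field F] [Group G] where
  α : F → G
  β : F → G
  α_add : ∀ x y, α (x + y) = α x * α y
  β_add : ∀ x y, β (x + y) = β x * β y
  conj_α : ∀ s x : F, s ≠ 0 →
    (α s * β (-1 / s) * α s) * α x = β (-x / (s * s)) * (α s * β (-1 / s) * α s)
  conj_β : ∀ s y : F, s ≠ 0 →
    (α s * β (-1 / s) * α s) * β y = α (-y * (s * s)) * (α s * β (-1 / s) * α s)

namespace RootData

variable (D : RootData F G)

/-- The swapping element. -/
def n (s : F) : G := D.α s * D.β (-1 / s) * D.α s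

theorem α_zero : D.α 0 = 1 := by
  have h := D.α_add 0 0
  rwa [add_zero, left_eq_mul] at h

theorem β_zero : D.β 0 = 1 := by
  have h := D.β_add 0 0
  rwa [add_zero, left_eq_mul] at h

theorem α_neg (x : F) : D.α (-x) = (D.α x)⁻¹ := by
  rw [eq_inv_iff_mul_eq_one, ← D.α_add, neg_add_cancel, D.α_zero]

theorem β_neg (x : F) : D.β (-x) = (D.β x)⁻¹ := by
  rw [eq_inv_iff_mul_eq_one, ← D.β_add, neg_add_cancel, D.β_zero]

theorem n_α (s x : F) (hs : s ≠ 0) : D.n s * D.α x = D.β (-x / (s * s)) * D.n s := D.conj_α s x hs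

theorem n_β (s y : F) (hs : s ≠ 0) : D.n s * D.β y = D.α (-y * (s * s)) * D.n s := D.conj_β s y hs

theorem n_neg (s : F) : D.n (-s) = (D.n s)⁻¹ := by
  simp only [n, mul_inv_rev, ← D.α_neg, ← D.β_neg, mul_assoc]
  rw [show -1 / -s = -(-1 / s) by rw [div_neg]]

theorem n_eq (s : F) (hs : s ≠ 0) : D.n s = D.β (-1 / s) * D.α s * D.β (-1 / s) := by
  have h : D.n s * (D.α s * D.β (-1 / s) * D.α s) =
      (D.β (-1 / s) * D.α s * D.β (-1 / s)) * D.n s := by
    have e1 : -s / (s * s) = -1 / s := by field_simp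
    have e2 : -(-1 / s) * (s * s) = s := by field_simp
    calc D.n s * (D.α s * D.β (-1 / s) * D.α s)
        = D.n s * D.α s * (D.β (-1 / s) * D.α s) := by group
      _ = D.β (-1 / s) * (D.n s * D.β (-1 / s)) * D.α s := by rw [D.n_α s s hs, e1]; group
      _ = D.β (-1 / s) * D.α s * (D.n s * D.α s) := by rw [D.n_β s _ hs, e2]; group
      _ = D.β (-1 / s) * D.α s * D.β (-1 / s) * D.n s := by rw [D.n_α s s hs, e1]; group
  exact mul_right_cancel h

theorem n_n (s t : F) (hs : s ≠ 0) (ht : t ≠ 0) : D.n s * D.n t = D.n (s * s / t) * D.n s := by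
  have hu : s * s / t ≠ 0 := div_ne_zero (mul_ne_zero hs hs) ht
  rw [D.n_eq (s * s / t) hu]
  have e1 : -1 / (s * s / t) = -t / (s * s) := by field_simp
  have e2 : -(-1 / t) * (s * s) = s * s / t := by field_simp
  calc D.n s * D.n t = D.n s * D.α t * (D.β (-1 / t) * D.α t) := by rw [n, n]; group
    _ = D.β (-t / (s * s)) * (D.n s * D.β (-1 / t)) * D.α t := by rw [D.n_α s t hs]; group
    _ = D.β (-t / (s * s)) * D.α (s * s / t) * (D.n s * D.α t) := by rw [D.n_β s _ hs, e2]; group
    _ = _ := by rw [D.n_α s t hs, e1]; group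

/-- The key relation. -/
theorem three (x y : F) (hx : x ≠ 0) (hy : y ≠ 0) (hxy : x + y ≠ 0) :
    D.n x * (D.n (x + y))⁻¹ * D.n y = D.n (x * y / (x + y)) := by
  set R := x + y with hR
  have hxy' : x + y ≠ 0 := hxy
  set r := x * y / R with hr
  set u := -(x * x) / R with hu
  have hu0 : u ≠ 0 := div_ne_zero (neg_ne_zero.2 (mul_ne_zero hx hx)) hxy
  have hβ : ∀ s : F, D.β (-1 / s) = D.α (-s) * D.n s * D.α (-s) := by
    intro s; rw [n, D.α_neg]; group
  have hr0 : r ≠ 0 := div_ne_zero (mul_ne_zero hx hy) hxy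
  have h1 : D.β (-1 / x) * D.β (-1 / y) = D.β (-1 / r) := by
    rw [← D.β_add]; congr 1; rw [hr, hR]; field_simp; ring
  rw [hβ, hβ, hβ] at h1
  have h2 : D.n x * D.α (-R) = D.α (-u) * D.n u * D.α (-u) * D.n x := by
    rw [D.n_α x _ hx, ← hβ]; congr 2; rw [hu]; field_simp
  have h3 : D.α (-u) * (D.n x * D.n y) = D.n x * D.n y * D.α (y * y / R) := by
    have e : D.n x * D.n y * D.α (y * y / R) = D.n x * (D.n y * D.α (y * y / R)) := by group
    rw [e, D.n_α y _ hy]
    calc D.α (-u) * (D.n x * D.n y) = D.α (-u) * D.n x * D.n y := by group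
      _ = D.n x * D.β (-(y * y / R) / (y * y)) * D.n y := by
        rw [D.n_β x _ hx]; congr 3; rw [hu]; field_simp
      _ = _ := by group
  have hRx : D.α (-x) * D.α (-y) = D.α (-R) := by rw [← D.α_add]; congr 1; rw [hR]; ring
  have h4 : D.α (-r) * (D.n u * D.n x * D.n y) * D.α (-r) = D.α (-r) * D.n r * D.α (-r) := by
    rw [← h1]
    calc D.α (-r) * (D.n u * D.n x * D.n y) * D.α (-r)
        = D.α (-x) * D.α (-u) * (D.n u * D.n x * D.n y) * (D.α (y * y / R) * D.α (-y)) := by
          rw [← D.α_add, ← D.α_add]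
          congr 2
          · congr 1; rw [hr, hu, hR]; field_simp; ring
          · rw [hr, hR]; field_simp; ring
      _ = D.α (-x) * D.α (-u) * D.n u * (D.n x * D.n y * D.α (y * y / R)) * D.α (-y) := by group
      _ = D.α (-x) * (D.α (-u) * D.n u * D.α (-u) * D.n x) * D.n y * D.α (-y) := by
          rw [← h3]; group
      _ = D.α (-x) * D.n x * D.α (-R) * D.n y * D.α (-y) := by rw [← h2]; group
      _ = _ := by rw [← hRx]; group
  have h5 : D.n u * D.n x * D.n y = D.n r := mul_left_cancel (mul_right_cancel h4)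
  have h6 : D.n u * D.n x = D.n x * (D.n R)⁻¹ := by
    rw [← D.n_neg, D.n_n x (-R) hx (neg_ne_zero.2 hxy)]; congr 2; rw [hu, div_neg, neg_div]
  rw [← h6]; exact h5

/-- The diagonal element. -/
def diag (ρ y : F) : G := D.n (ρ * y) * (D.n y)⁻¹

theorem diag_one (y : F) : D.diag 1 y = 1 := by rw [diag, one_mul, mul_inv_cancel]

theorem diag_mul (ρ σ y : F) : D.diag (ρ * σ) y = D.diag ρ (σ * y) * D.diag σ y := by
  simp only [diag, mul_assoc]; group

theorem diag_shift (ρ y : F) (hρ : ρ ≠ 0) (hρ1 : 1 - ρ ≠ 0) (hy : y ≠ 0) :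
    D.diag ρ ((1 - ρ) * y) = D.diag ρ y := by
  have h := D.three (ρ * y) ((1 - ρ) * y) (mul_ne_zero hρ hy) (mul_ne_zero hρ1 hy)
    (by rw [show ρ * y + (1 - ρ) * y = y by ring]; exact hy)
  rw [show ρ * y + (1 - ρ) * y = y by ring,
    show ρ * y * ((1 - ρ) * y) / y = ρ * ((1 - ρ) * y) by field_simp] at h
  rw [diag, diag, ← h]; group

theorem diag_α (ρ y x : F) (hρ : ρ ≠ 0) (hy : y ≠ 0) :
    D.diag ρ y * D.α x = D.α (ρ * ρ * x) * D.diag ρ y := by
  rw [diag, ← D.n_neg, mul_assoc, D.n_α _ x (neg_ne_zero.2 hy), ← mul_assoc,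
    D.n_β _ _ (mul_ne_zero hρ hy), mul_assoc]
  congr 2
  field_simp

theorem diag_β (ρ y x : F) (hρ : ρ ≠ 0) (hy : y ≠ 0) :
    D.diag ρ y * D.β x = D.β (x / (ρ * ρ)) * D.diag ρ y := by
  rw [diag, ← D.n_neg, mul_assoc, D.n_β _ x (neg_ne_zero.2 hy), ← mul_assoc,
    D.n_α _ _ (mul_ne_zero hρ hy), mul_assoc]
  congr 2
  field_simp

variable [Fintype F] [DecidableEq F]

theorem diag_pow_α {g : F} (hg : g ≠ 0) (i : ℕ) (x : F) :
    D.diag g 1 ^ i * D.α x = D.α ((g ^ i) * (g ^ i) * x) * D.diag g 1 ^ i := by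
  induction i generalizing x with
  | zero => simp
  | succ i ih =>
    rw [pow_succ, mul_assoc, D.diag_α g 1 x hg one_ne_zero, ← mul_assoc, ih, mul_assoc]
    congr 2; ring

theorem diag_pow_β {g : F} (hg : g ≠ 0) (i : ℕ) (x : F) :
    D.diag g 1 ^ i * D.β x = D.β (x / ((g ^ i) * (g ^ i))) * D.diag g 1 ^ i := by
  induction i generalizing x with
  | zero => simp
  | succ i ih =>
    rw [pow_succ, mul_assoc, D.diag_β g 1 x hg one_ne_zero, ← mul_assoc, ih, mul_assoc]
    congr 2; field_simp; ring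

theorem commute_n {c : G} (h1 : ∀ x, Commute c (D.α x)) (h2 : ∀ x, Commute c (D.β x)) (s : F) :
    Commute c (D.n s) := ((h1 s).mul_right (h2 _)).mul_right (h1 s)

theorem diag_comm (ρ y σ z : F) (hρ : ρ ≠ 0) (hy : y ≠ 0) (hσ : σ ≠ 0) (hz : z ≠ 0) :
    Commute (D.diag ρ y) (D.diag σ z) := by
  obtain ⟨g, hg⟩ := IsCyclic.exists_monoid_generator (α := Fˣ)
  have hg0 : (g : F) ≠ 0 := g.ne_zero
  have key : ∀ ρ y : F, ρ ≠ 0 → y ≠ 0 → ∃ i : ℕ,
      (∀ x, Commute ((D.diag (g : F) 1 ^ i)⁻¹ * D.diag ρ y) (D.α x)) ∧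
      (∀ x, Commute ((D.diag (g : F) 1 ^ i)⁻¹ * D.diag ρ y) (D.β x)) := by
    intro ρ y hρ hy
    obtain ⟨i, hi⟩ := Submonoid.mem_powers_iff _ _ |>.1 (hg (Units.mk0 ρ hρ))
    have hi' : (g : F) ^ i = ρ := by
      rw [← Units.val_pow_eq_pow_val, hi]; rfl
    refine ⟨i, fun x => ?_, fun x => ?_⟩
    · show _ = _
      rw [mul_assoc, D.diag_α ρ y x hρ hy, inv_mul_eq_iff_eq_mul, ← mul_assoc, ← mul_assoc,
        D.diag_pow_α hg0 i x, hi', mul_inv_cancel_right]
    · show _ = _
      rw [mul_assoc, D.diag_β ρ y x hρ hy, inv_mul_eq_iff_eq_mul, ← mul_assoc, ← mul_assoc,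
        D.diag_pow_β hg0 i x, hi', mul_inv_cancel_right]
  obtain ⟨i, hi1, hi2⟩ := key ρ y hρ hy
  obtain ⟨j, hj1, hj2⟩ := key σ z hσ hz
  set d := D.diag (g : F) 1 with hd
  set c := (d ^ i)⁻¹ * D.diag ρ y with hc
  have hcd : Commute c d := by
    rw [hd, diag]
    exact (D.commute_n hi1 hi2 _).mul_right (D.commute_n hi1 hi2 _).inv_right
  have hcz : Commute c (D.diag σ z) :=
    (D.commute_n hi1 hi2 _).mul_right (D.commute_n hi1 hi2 _).inv_right
  have hdz : Commute (d ^ i) (D.diag σ z) := by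
    have h1 : Commute d ((d ^ j)⁻¹ * D.diag σ z) := by
      refine Commute.symm ?_
      exact (D.commute_n hj1 hj2 _).mul_right (D.commute_n hj1 hj2 _).inv_right
    have h2 : Commute d (D.diag σ z) := by
      have := ((Commute.refl d).pow_right j).mul_right h1
      rwa [mul_inv_cancel_left] at this
    exact h2.pow_left i
  have h := hdz.mul_left hcz
  rwa [hc, mul_inv_cancel_left] at h

theorem diag_sq (ρ y c : F) (hρ : ρ ≠ 0) (hy : y ≠ 0) (hc : c ≠ 0) :
    D.diag ρ (c * c * y) = D.diag ρ y := by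
  have h : ∀ x : F, x ≠ 0 → D.diag c 1 * D.n x = D.n (c * c * x) * D.diag c 1 := by
    intro x hx
    rw [diag, mul_one, ← D.n_neg, mul_assoc, D.n_n (-1) x (by simp) hx, ← mul_assoc,
      D.n_n c _ hc (div_ne_zero (by simp) hx), mul_assoc]
    congr 2; field_simp
  have h1 : D.diag c 1 * D.diag ρ y = D.diag ρ (c * c * y) * D.diag c 1 := by
    have e2 : D.diag c 1 * (D.n y)⁻¹ = (D.n (c * c * y))⁻¹ * D.diag c 1 := by
      rw [eq_inv_mul_iff_mul_eq, ← mul_assoc, ← h y hy, mul_inv_cancel_right]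
    show D.diag c 1 * (D.n (ρ * y) * (D.n y)⁻¹) =
      D.n (ρ * (c * c * y)) * (D.n (c * c * y))⁻¹ * D.diag c 1
    rw [← mul_assoc, h _ (mul_ne_zero hρ hy), mul_assoc, e2, ← mul_assoc,
      show c * c * (ρ * y) = ρ * (c * c * y) by ring]
  rw [(D.diag_comm c 1 ρ y hc one_ne_zero hρ hy).eq] at h1
  exact (mul_right_cancel h1).symm

/-- The diagonal elements do not depend on the base point. -/
theorem diag_indep (ρ y : F) (hρ : ρ ≠ 0) (hy : y ≠ 0) : D.diag ρ y = D.diag ρ 1 := by
  by_cases hchar : ringChar F = 2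
  · obtain ⟨c, rfl⟩ := FiniteField.isSquare_of_char_two hchar y
    have := D.diag_sq ρ 1 c hρ one_ne_zero (left_ne_zero_of_mul hy)
    rwa [mul_one] at this
  let H : Subgroup Fˣ :=
    { carrier := {σ | ∀ z : F, z ≠ 0 → D.diag (σ : F) z = D.diag (σ : F) 1}
      one_mem' := by intro z _; simp [D.diag_one]
      mul_mem' := by
        intro σ τ hσ hτ z hz
        rw [Units.val_mul, D.diag_mul, D.diag_mul (σ : F) τ 1, hτ z hz,
          hσ _ (mul_ne_zero τ.ne_zero hz), hσ _ (mul_ne_zero τ.ne_zero one_ne_zero)]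
      inv_mem' := by
        intro σ hσ z hz
        have e : ∀ z : F, z ≠ 0 → D.diag ((σ⁻¹ : Fˣ) : F) z = (D.diag (σ : F) 1)⁻¹ := by
          intro z hz
          have h := D.diag_mul (σ : F) ((σ⁻¹ : Fˣ) : F) z
          rw [← Units.val_mul, mul_inv_cancel, Units.val_one, D.diag_one,
            hσ _ (mul_ne_zero (Units.ne_zero _) hz)] at h
          exact eq_inv_of_mul_eq_one_right h.symm
        rw [e z hz, e 1 one_ne_zero] }
  have hns : ∀ σ : Fˣ, ¬ IsSquare (1 - (σ : F)) → σ ∈ H := by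
    intro σ hσ z hz
    have h0 : 1 - (σ : F) ≠ 0 := fun h => hσ (h ▸ IsSquare.zero)
    by_cases hsq : IsSquare z
    · obtain ⟨c, rfl⟩ := hsq
      have := D.diag_sq (σ : F) 1 c σ.ne_zero one_ne_zero (left_ne_zero_of_mul hz)
      rwa [mul_one] at this
    · have hq : IsSquare (z / (1 - (σ : F))) := by
        rw [← quadraticChar_one_iff_isSquare (div_ne_zero hz h0), div_eq_mul_inv, map_mul,
          quadraticChar_neg_one_iff_not_isSquare.2 hsq,
          quadraticChar_neg_one_iff_not_isSquare.2 (by rwa [isSquare_inv])]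
        norm_num
      obtain ⟨c, hc⟩ := hq
      have hc0 : c ≠ 0 := fun h => div_ne_zero hz h0 (by rw [hc, h, mul_zero])
      have hz' : z = (1 - (σ : F)) * (c * c) := by rw [← hc]; field_simp
      have := D.diag_sq (σ : F) 1 c σ.ne_zero one_ne_zero hc0
      rw [mul_one] at this
      rw [hz', D.diag_shift _ _ σ.ne_zero h0 (mul_ne_zero hc0 hc0), this]
  suffices hH : H = ⊤ by exact (hH ▸ Subgroup.mem_top (Units.mk0 ρ hρ) : Units.mk0 ρ hρ ∈ H) y hy
  by_contra hne
  have h2 : 2 * Nat.card H ≤ Fintype.card F - 1 := by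
    have h3 := Subgroup.card_mul_index H
    rw [Nat.card_units, Nat.card_eq_fintype_card (α := F)] at h3
    rw [← h3, mul_comm]
    exact Nat.mul_le_mul_left _ (Subgroup.one_lt_index_of_ne_top hne)
  obtain ⟨e, he⟩ := FiniteField.exists_nonsquare hchar
  have he0 : e ≠ 0 := fun h => he (h ▸ IsSquare.zero)
  set U := (Finset.univ : Finset F).erase 0 with hU
  have hsplit := Finset.card_filter_add_card_filter_not (s := U) (fun z => IsSquare z)
  have hQN : (U.filter fun z => IsSquare z).card ≤ (U.filter fun z => ¬ IsSquare z).card := by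
    refine Finset.card_le_card_of_injOn (fun z => e * z) ?_ fun a _ b _ h => mul_left_cancel₀ he0 h
    intro z hz
    simp only [hU, Finset.coe_filter, Finset.mem_erase, Finset.mem_univ, and_true, Set.mem_setOf_eq] at hz ⊢
    refine ⟨mul_ne_zero he0 hz.1, fun hs => he ?_⟩
    have := hs.div hz.2
    rwa [mul_div_cancel_right₀ _ hz.1] at this
  have hN : (U.filter fun z => ¬ IsSquare z).card + 1 ≤ Nat.card H := by
    classical
    rw [Nat.card_eq_fintype_card, ← Finset.card_univ,
      ← Finset.card_erase_add_one (Finset.mem_univ (1 : H))]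
    apply Nat.add_le_add_right
    have hmem : ∀ z ∈ U.filter fun z => ¬ IsSquare z, 1 - z ≠ 0 := by
      intro z hz h
      rw [Finset.mem_filter] at hz
      exact hz.2 (by rw [show z = 1 by linear_combination -h]; exact IsSquare.one)
    refine Finset.card_le_card_of_injOn
      (fun z => if h : 1 - z ≠ 0 ∧ ¬ IsSquare z then
        ⟨Units.mk0 (1 - z) h.1, hns _ (by simpa using h.2)⟩ else 1) ?_ ?_
    · intro z hz
      have h1 := hmem z hz
      simp only [Finset.mem_coe, Finset.mem_filter, hU, Finset.mem_erase] at hz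
      simp only [Finset.mem_coe, Finset.mem_erase, Finset.mem_univ, and_true, dif_pos (And.intro h1 hz.2)]
      intro h
      have := congrArg (fun v : H => ((v : Fˣ) : F)) h
      simp at this
      exact hz.1.1 this
    · intro a ha b hb h
      have h1 := hmem a ha
      have h2 := hmem b hb
      simp only [Finset.mem_coe, Finset.mem_filter] at ha hb
      simp only [dif_pos (And.intro h1 ha.2), dif_pos (And.intro h2 hb.2)] at h
      have := congrArg (fun v : H => ((v : Fˣ) : F)) h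
      simpa using this
  have hcU : U.card = Fintype.card F - 1 := by
    rw [hU, Finset.card_erase_of_mem (Finset.mem_univ _), Finset.card_univ]
  omega

/-- The torus element. -/
def h (s : F) : G := D.diag s 1

theorem n_mul (x y v : F) (hx : x ≠ 0) (hy : y ≠ 0) (hv : v ≠ 0) :
    D.n x * (D.n y)⁻¹ * D.n v = D.n (x * v / y) := by
  have e1 := D.diag_indep (x / y) y (div_ne_zero hx hy) hy
  rw [← D.diag_indep (x / y) v (div_ne_zero hx hy) hv, diag, diag, div_mul_cancel₀ x hy] at e1
  rw [e1, inv_mul_cancel_right, show x / y * v = x * v / y by ring]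

theorem h_n (a : F) (ha : a ≠ 0) : D.h a * D.n 1 = D.n a := by
  rw [h, diag, mul_one, inv_mul_cancel_right]

theorem n_n_one (s : F) (hs : s ≠ 0) : D.n s * D.n 1 = D.h (-s) := by
  have e := D.n_mul s (-1) (-1) hs (by simp) (by simp)
  rw [D.n_neg, inv_inv, mul_inv_eq_iff_eq_mul, mul_div_assoc, div_self (by simp : (-1 : F) ≠ 0),
    mul_one] at e
  have e2 : D.n (-s) * (D.n 1)⁻¹ = D.h (-s) := by rw [h, diag, mul_one]
  rw [← e2, e, D.n_neg]
  have e3 := D.n_mul s (-1) 1 hs (by simp) one_ne_zero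
  rw [D.n_neg 1, inv_inv, div_neg, div_one, mul_one, D.n_neg] at e3
  rw [← e3]; group

/-- The map on Bruhat normal forms. -/
def toFun' (g : SL2[F]) : G :=
  if (g : Matrix (Fin 2) (Fin 2) F) 1 0 = 0 then
    D.h ((g : Matrix (Fin 2) (Fin 2) F) 0 0) *
      D.α ((g : Matrix (Fin 2) (Fin 2) F) 0 1 / (g : Matrix (Fin 2) (Fin 2) F) 0 0)
  else
    D.α ((g : Matrix (Fin 2) (Fin 2) F) 0 0 / (g : Matrix (Fin 2) (Fin 2) F) 1 0) *
      D.n (-1 / (g : Matrix (Fin 2) (Fin 2) F) 1 0) *
      D.α ((g : Matrix (Fin 2) (Fin 2) F) 1 1 / (g : Matrix (Fin 2) (Fin 2) F) 1 0)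

theorem h_one : D.h 1 = 1 := D.diag_one 1

theorem toFun'_up (x : F) : D.toFun' (S5016.upT x) = D.α x := by
  simp [toFun', S5016.upT, D.h_one]

theorem toFun'_one : D.toFun' (1 : SL2[F]) = 1 := by
  simp [toFun', D.h_one, D.α_zero]

theorem mul_up (g : SL2[F]) (x : F) : D.toFun' (g * S5016.upT x) = D.toFun' g * D.α x := by
  have hg := g.det_coe
  rw [Matrix.det_fin_two] at hg
  set a := (g : Matrix (Fin 2) (Fin 2) F) 0 0 with ha
  set b := (g : Matrix (Fin 2) (Fin 2) F) 0 1 with hb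
  set c := (g : Matrix (Fin 2) (Fin 2) F) 1 0 with hc
  set d := (g : Matrix (Fin 2) (Fin 2) F) 1 1 with hd
  have e00 : ((g * S5016.upT x : SL2[F]) : Matrix (Fin 2) (Fin 2) F) 0 0 = a := by
    simp [Matrix.SpecialLinearGroup.coe_mul, Matrix.mul_apply, Fin.sum_univ_two, ← ha]
  have e01 : ((g * S5016.upT x : SL2[F]) : Matrix (Fin 2) (Fin 2) F) 0 1 = a * x + b := by
    simp [Matrix.SpecialLinearGroup.coe_mul, Matrix.mul_apply, Fin.sum_univ_two, ← ha, ← hb]
  have e10 : ((g * S5016.upT x : SL2[F]) : Matrix (Fin 2) (Fin 2) F) 1 0 = c := by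
    simp [Matrix.SpecialLinearGroup.coe_mul, Matrix.mul_apply, Fin.sum_univ_two, ← hc]
  have e11 : ((g * S5016.upT x : SL2[F]) : Matrix (Fin 2) (Fin 2) F) 1 1 = c * x + d := by
    simp [Matrix.SpecialLinearGroup.coe_mul, Matrix.mul_apply, Fin.sum_univ_two, ← hc, ← hd]
  simp only [toFun', e00, e01, e10, e11, ← ha, ← hb, ← hc, ← hd]
  by_cases h0 : c = 0
  · rw [if_pos h0, if_pos h0, mul_assoc, ← D.α_add]
    have : a ≠ 0 := fun h => by rw [h, h0] at hg; simp at hg
    congr 2; field_simp; ring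
  · rw [if_neg h0, if_neg h0, mul_assoc (D.α _ * D.n _), ← D.α_add]
    congr 2; field_simp; ring

/-- The swapping matrix. -/
def wMat (F : Type*) [Field F] : SL2[F] := ⟨!![0, 1; -1, 0], by simp [Matrix.det_fin_two]⟩

@[simp] theorem coe_wMat : ((wMat F : SL2[F]) : Matrix (Fin 2) (Fin 2) F) = !![0, 1; -1, 0] := rfl

theorem toFun'_w : D.toFun' (wMat F) = D.n 1 := by
  simp [toFun', D.α_zero]

theorem mul_w (g : SL2[F]) : D.toFun' (g * wMat F) = D.toFun' g * D.n 1 := by
  have hg := g.det_coe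
  rw [Matrix.det_fin_two] at hg
  set a := (g : Matrix (Fin 2) (Fin 2) F) 0 0 with ha
  set b := (g : Matrix (Fin 2) (Fin 2) F) 0 1 with hb
  set c := (g : Matrix (Fin 2) (Fin 2) F) 1 0 with hc
  set d := (g : Matrix (Fin 2) (Fin 2) F) 1 1 with hd
  have e00 : ((g * wMat F : SL2[F]) : Matrix (Fin 2) (Fin 2) F) 0 0 = -b := by
    simp [Matrix.SpecialLinearGroup.coe_mul, Matrix.mul_apply, Fin.sum_univ_two, ← hb]
  have e01 : ((g * wMat F : SL2[F]) : Matrix (Fin 2) (Fin 2) F) 0 1 = a := by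
    simp [Matrix.SpecialLinearGroup.coe_mul, Matrix.mul_apply, Fin.sum_univ_two, ← ha]
  have e10 : ((g * wMat F : SL2[F]) : Matrix (Fin 2) (Fin 2) F) 1 0 = -d := by
    simp [Matrix.SpecialLinearGroup.coe_mul, Matrix.mul_apply, Fin.sum_univ_two, ← hd]
  have e11 : ((g * wMat F : SL2[F]) : Matrix (Fin 2) (Fin 2) F) 1 1 = c := by
    simp [Matrix.SpecialLinearGroup.coe_mul, Matrix.mul_apply, Fin.sum_univ_two, ← hc]
  simp only [toFun', e00, e01, e10, e11, ← ha, ← hb, ← hc, ← hd]
  by_cases h0 : c = 0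
  · have hd0 : d ≠ 0 := fun h => by rw [h, h0] at hg; simp at hg
    have ha0 : a ≠ 0 := fun h => by rw [h, h0] at hg; simp at hg
    rw [if_pos h0, if_neg (neg_ne_zero.2 hd0)]
    rw [h0, zero_div, D.α_zero, mul_one]
    rw [h0, mul_zero, sub_zero] at hg
    rw [show -1 / -d = a by field_simp; linear_combination -hg]
    have e := D.diag_α a 1 (b / a) ha0 one_ne_zero
    calc D.α (-b / -d) * D.n a = D.α (a * a * (b / a)) * D.h a * D.n 1 := by
          rw [mul_assoc, D.h_n a ha0]; congr 2; field_simp; linear_combination -b * hg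
      _ = _ := by rw [h, ← e]
  · rw [if_neg h0]
    set s := -1 / c with hs
    have hs0 : s ≠ 0 := div_ne_zero (by simp) h0
    by_cases hd0 : d = 0
    · rw [hd0, neg_zero, if_pos rfl, zero_div, D.α_zero, mul_one, mul_assoc, D.n_n_one s hs0]
      have hbs : b = s := by
        rw [hd0, mul_zero] at hg; rw [hs]; field_simp; linear_combination -hg
      rw [hbs]
      have e := D.diag_α (-s) 1 (a / -s) (neg_ne_zero.2 hs0) one_ne_zero
      rw [h, e]; congr 2; rw [hs]; field_simp
    · rw [if_neg (neg_ne_zero.2 hd0)]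
      set r := d / c with hr
      have hr0 : r ≠ 0 := div_ne_zero hd0 h0
      have e1 : D.n s * D.α r * D.n 1 = D.β (-r / (s * s)) * (D.n s * D.n 1) := by
        rw [D.n_α s r hs0]; group
      have e2 : D.β (-r / (s * s)) =
          D.α (-(s * s / r)) * D.n (s * s / r) * D.α (-(s * s / r)) := by
        rw [D.α_neg, n]
        rw [show -1 / (s * s / r) = -r / (s * s) by field_simp]
        group
      have e3 : D.α (-(s * s / r)) * (D.n s * D.n 1) = D.n s * D.n 1 * D.α (-1 / r) := by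
        rw [D.n_n_one s hs0, h, D.diag_α (-s) 1 _ (neg_ne_zero.2 hs0) one_ne_zero]
        congr 2; field_simp
      have e4 : D.n (s * s / r) * (D.n s * D.n 1) = D.n (-s / r) := by
        have := D.n_mul (s * s / r) (-s) 1 (div_ne_zero (mul_ne_zero hs0 hs0) hr0)
          (neg_ne_zero.2 hs0) one_ne_zero
        rw [D.n_neg, inv_inv] at this
        rw [← mul_assoc, this]; congr 1; field_simp
      calc D.α (-b / -d) * D.n (-1 / -d) * D.α (c / -d)
          = D.α (a / c) * D.α (-(s * s / r)) * D.n (-s / r) * D.α (-1 / r) := by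
            rw [← D.α_add,
              show a / c + -(s * s / r) = -b / -d by rw [hs, hr]; field_simp; linear_combination hg,
              show -s / r = -1 / -d by rw [hs, hr]; field_simp,
              show -1 / r = c / -d by rw [hr]; field_simp]
        _ = D.α (a / c) * D.α (-(s * s / r)) * D.n (s * s / r) *
            (D.n s * D.n 1 * D.α (-1 / r)) := by rw [← e4]; group
        _ = D.α (a / c) * (D.β (-r / (s * s)) * (D.n s * D.n 1)) := by rw [← e3, e2]; group
        _ = _ := by rw [← e1]; group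

/-- The homomorphism from `SL₂`. -/
theorem exists_hom : ∃ f : SL2[F] →* G, (∀ g, f g = D.toFun' g) ∧
    ∀ x, f (S5016.upT x) = D.α x ∧ f (S5016.lowT x) = D.β x := by
  let M : Submonoid SL2[F] :=
    { carrier := {g | ∀ k, D.toFun' (k * g) = D.toFun' k * D.toFun' g}
      one_mem' := fun k => by rw [mul_one, D.toFun'_one, mul_one]
      mul_mem' := by
        intro g g' hg hg' k
        rw [← mul_assoc, hg', hg, hg', mul_assoc] }
  have hup : ∀ x, S5016.upT x ∈ M := fun x k => by rw [D.mul_up, D.toFun'_up]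
  have hw : wMat F ∈ M := fun k => by rw [D.mul_w, D.toFun'_w]
  have hlow : ∀ y, S5016.lowT y = wMat F * S5016.upT (-y) * (wMat F * wMat F * wMat F) := by
    intro y; apply Subtype.ext
    simp [Matrix.SpecialLinearGroup.coe_mul, Matrix.mul_fin_two]
  have hlowM : ∀ y, S5016.lowT y ∈ M := fun y => by
    rw [hlow]; exact mul_mem (mul_mem hw (hup _)) (mul_mem (mul_mem hw hw) hw)
  have hall : ∀ g : SL2[F], g ∈ M := by
    intro g
    have hg : g ∈ lowerUnipotentSL2 F ⊔ upperUnipotentSL2 F :=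
      (S5016.result F).1.1.symm ▸ Subgroup.mem_top g
    rw [Subgroup.sup_eq_closure] at hg
    induction hg using Subgroup.closure_induction'' with
    | mem x hx =>
      rcases hx with hx | hx
      · obtain ⟨y, rfl⟩ := (S5016.mem_lower x).1 hx; exact hlowM y
      · obtain ⟨y, rfl⟩ := (S5016.mem_upper x).1 hx; exact hup y
    | inv_mem x hx =>
      rcases hx with hx | hx
      · obtain ⟨y, rfl⟩ := (S5016.mem_lower x).1 hx; rw [S5016.lowT_inv]; exact hlowM _
      · obtain ⟨y, rfl⟩ := (S5016.mem_upper x).1 hx; rw [S5016.upT_inv]; exact hup _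
    | one => exact one_mem M
    | mul x y _ _ hx hy => exact mul_mem hx hy
  refine ⟨{ toFun := D.toFun', map_one' := D.toFun'_one, map_mul' := fun x y => hall y x },
    fun g => rfl, fun x => ⟨D.toFun'_up x, ?_⟩⟩
  show D.toFun' (S5016.lowT x) = D.β x
  have e3 : ∀ k, D.toFun' (k * (wMat F * wMat F * wMat F)) =
      D.toFun' k * (D.n 1 * D.n 1 * D.n 1) := fun k => by
    rw [← mul_assoc, ← mul_assoc, D.mul_w, D.mul_w, D.mul_w]; group
  have e4 : D.n 1 * D.n 1 * D.n 1 = (D.n 1)⁻¹ := by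
    have := D.n_mul (-1) (-1) (-1) (by simp) (by simp) (by simp)
    have h' := D.n_mul 1 (-1) 1 one_ne_zero (by simp) one_ne_zero
    rw [D.n_neg, inv_inv, show (1 : F) * 1 / -1 = -1 by norm_num, D.n_neg] at h'
    exact h'
  rw [hlow, e3, D.mul_up, D.toFun'_w, e4, D.n_α 1 (-x) one_ne_zero, neg_neg, mul_one, div_one,
    mul_inv_cancel_right]

end RootData

/-- `⟨a, b⟩` for a partner pair of elements of order `p` is an image of `SL₂(p)`. -/
theorem exists_hom {A B : Subgroup G} (h : IsSpecialRankOnePair A B) {p : ℕ} [Fact p.Prime]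
    (hA : IsElementaryAbelian p A) {a b : G} (hp : Partner A B a b) :
    ∃ f : SL2[ZMod p] →* G, f.range = Subgroup.closure {a, b} ∧
      f.ker ≤ Subgroup.center SL2[ZMod p] := by
  classical
  have hpp : p.Prime := Fact.out
  have hord : ∀ x ∈ A, x ≠ 1 → orderOf x = p := fun x hx hx1 =>
    orderOf_eq_prime (hA.2 x hx) hx1
  have hb' : b ^ p = 1 := (pow_eq_one_iff' h hp p).1 (hA.2 a hp.mem_left)
  have haA := hp.mem_left
  let α : ZMod p → G := fun x => a ^ x.val
  let β : ZMod p → G := fun x => b ^ x.val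
  have hαadd : ∀ x y, α (x + y) = α x * α y := fun x y => by
    simp only [α, ← pow_add, ZMod.val_add]
    exact (pow_eq_pow_mod _ (hA.2 a hp.mem_left)).symm
  have hβadd : ∀ x y, β (x + y) = β x * β y := fun x y => by
    simp only [β, ← pow_add, ZMod.val_add]
    exact (pow_eq_pow_mod _ hb').symm
  have hαne : ∀ s : ZMod p, s ≠ 0 → α s ≠ 1 := by
    intro s hs h0
    have := orderOf_dvd_of_pow_eq_one h0
    rw [hord a haA hp.left_ne] at this
    exact hs ((ZMod.val_eq_zero s).1 (Nat.eq_zero_of_dvd_of_lt this s.val_lt))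
  have hpart : ∀ s : ZMod p, s ≠ 0 → Partner A B (α s) (β s⁻¹) := by
    intro s hs
    obtain ⟨d, hd⟩ := exists_partner' h.1 (pow_mem haA s.val) (hαne s hs)
    have hd2 : d ^ s.val = b := by
      refine (powerLaw h s.val (Nat.pos_of_ne_zero fun h0 => hs ((ZMod.val_eq_zero s).1 h0))
        ?_).1 a b d hp (hαne s hs) hd
      intro j hj hjn x hx hx1 h0
      have := orderOf_dvd_of_pow_eq_one h0
      rw [hord x hx hx1] at this
      exact absurd (Nat.le_of_dvd hj this) (not_le.2 (hjn.trans s.val_lt))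
    have hdp : d ^ p = 1 := (pow_eq_one_iff' h hd p).1 (hA.2 _ hd.mem_left)
    have : d = β s⁻¹ := by
      show d = b ^ (s⁻¹).val
      have h1 : s.val * (s⁻¹).val % p = 1 := by
        rw [← ZMod.val_mul, mul_inv_cancel₀ hs, ZMod.val_one]
      rw [← hd2, ← pow_mul, pow_eq_pow_mod _ hdp, h1, pow_one]
    exact this ▸ hd
  have hneg : ∀ x, β (-x) = (β x)⁻¹ := fun x => by
    rw [eq_inv_iff_mul_eq_one, ← hβadd, neg_add_cancel]; simp [β]
  have hα0 : α 0 = 1 := by simp [α]
  have hαneg : ∀ x, α (-x) = (α x)⁻¹ := fun x => by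
    rw [eq_inv_iff_mul_eq_one, ← hαadd, neg_add_cancel, hα0]
  have hpow : ∀ (u v : G) (g : G), g * u * g⁻¹ = v → ∀ k : ℕ, g * u ^ k * g⁻¹ = v ^ k := by
    intro u v g huv k
    rw [← huv]; exact (conj_pow).symm
  have hsc : ∀ s : ZMod p, s ≠ 0 → α s * β (-1 / s) * α s = swapElem (α s) (β s⁻¹) := by
    intro s hs
    rw [swapElem, show -1 / s = -s⁻¹ by rw [div_eq_mul_inv, neg_one_mul], hneg]
  have hmul : ∀ (s k : ZMod p), α (k * s) = α s ^ k.val := fun s k => by
    simp only [α, ← pow_mul, ZMod.val_mul]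
    rw [mul_comm k.val]; exact (pow_eq_pow_mod _ (hA.2 a haA)).symm
  have hmulβ : ∀ (s k : ZMod p), β (k * s) = β s ^ k.val := fun s k => by
    simp only [β, ← pow_mul, ZMod.val_mul]
    rw [mul_comm k.val]; exact (pow_eq_pow_mod _ hb').symm
  let D : RootData (ZMod p) G :=
    { α := α
      β := β
      α_add := hαadd
      β_add := hβadd
      conj_α := fun s x hs => by
        rw [hsc s hs]
        set g := swapElem (α s) (β s⁻¹)
        have e1 : g * α s * g⁻¹ = (β s⁻¹)⁻¹ := by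
          have hP := hpart s hs
          have := swap_eq h hP
          show swapElem _ _ * α s * (swapElem _ _)⁻¹ = _
          conv_lhs => arg 1; arg 1; rw [this]
          rw [swapElem]; group
        have e2 := hpow _ _ g e1 (x * s⁻¹).val
        rw [← hmul, mul_assoc x, inv_mul_cancel₀ hs, mul_one, ← hneg, ← hmulβ] at e2
        rw [show -x / (s * s) = x * s⁻¹ * -s⁻¹ by field_simp, ← e2, inv_mul_cancel_right]
      conj_β := fun s y hs => by
        rw [hsc s hs]
        set g := swapElem (α s) (β s⁻¹)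
        have e1 : g * β s⁻¹ * g⁻¹ = (α s)⁻¹ := swap_conj h (hpart s hs)
        have e2 := hpow _ _ g e1 (y * s).val
        rw [← hmulβ, mul_assoc y, mul_inv_cancel₀ hs, mul_one, ← hαneg, ← hmul] at e2
        rw [show -y * (s * s) = y * s * -s by ring, ← e2, inv_mul_cancel_right] }
  obtain ⟨f, hf, hf'⟩ := D.exists_hom
  have hα1 : α 1 = a := by simp [α, ZMod.val_one]
  have hβ1 : β 1 = b := by simp [β, ZMod.val_one]
  have hαA : ∀ x, α x ∈ A := fun x => pow_mem haA _
  have hβB : ∀ x, β x ∈ B := fun x => pow_mem hp.mem_right _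
  refine ⟨f, le_antisymm ?_ ?_, ?_⟩
  · rintro _ ⟨g, rfl⟩
    have hg : g ∈ lowerUnipotentSL2 (ZMod p) ⊔ upperUnipotentSL2 (ZMod p) :=
      (S5016.result (ZMod p)).1.1.symm ▸ Subgroup.mem_top g
    have hle : lowerUnipotentSL2 (ZMod p) ⊔ upperUnipotentSL2 (ZMod p) ≤
        (Subgroup.closure {a, b}).comap f := by
      refine sup_le ?_ ?_
      · intro x hx
        obtain ⟨y, rfl⟩ := (S5016.mem_lower x).1 hx
        rw [Subgroup.mem_comap, (hf' y).2]
        exact pow_mem (Subgroup.subset_closure (by simp)) _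
      · intro x hx
        obtain ⟨y, rfl⟩ := (S5016.mem_upper x).1 hx
        rw [Subgroup.mem_comap, (hf' y).1]
        exact pow_mem (Subgroup.subset_closure (by simp)) _
    exact hle hg
  · rw [Subgroup.closure_le]
    rintro x (rfl | rfl)
    · exact ⟨_, ((hf' 1).1.trans hα1)⟩
    · exact ⟨_, ((hf' 1).2.trans hβ1)⟩
  · intro g hg
    rw [MonoidHom.mem_ker, hf, RootData.toFun'] at hg
    split_ifs at hg with hc
    swap
    · exfalso
      set c := (g : Matrix (Fin 2) (Fin 2) (ZMod p)) 1 0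
      have hs0 : -1 / c ≠ 0 := div_ne_zero (by simp) hc
      have hn : conjBy A (D.n (-1 / c)) = B := by
        show conjBy A (α _ * β _ * α _) = B
        rw [hsc _ hs0]; exact swap_left (hpart _ hs0)
      have hmemA : D.n (-1 / c) ∈ A := by
        have e : D.n (-1 / c) = (D.α ((g : Matrix (Fin 2) (Fin 2) (ZMod p)) 0 0 / c))⁻¹ *
            (D.α ((g : Matrix (Fin 2) (Fin 2) (ZMod p)) 1 1 / c))⁻¹ := by
          rw [eq_inv_mul_iff_mul_eq, eq_inv_iff_mul_eq_one]; exact hg
        rw [e]; exact mul_mem (inv_mem (hαA _)) (inv_mem (hαA _))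
      rw [conjBy_of_mem hmemA] at hn
      exact h.1.ne hn
    · have hdet := g.det_coe
      rw [Matrix.det_fin_two, hc, mul_zero, sub_zero] at hdet
      set a₀ := (g : Matrix (Fin 2) (Fin 2) (ZMod p)) 0 0
      have ha0 : a₀ ≠ 0 := left_ne_zero_of_mul_eq_one hdet
      set q := (g : Matrix (Fin 2) (Fin 2) (ZMod p)) 0 1 / a₀ with hq
      have hhB : conjBy B (D.h a₀) = B := by
        have e1 : conjBy B (D.n a₀) = A := by
          show conjBy B (α _ * β _ * α _) = A
          rw [hsc _ ha0]; exact swap_right h (hpart _ ha0)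
        have e2 : conjBy A (D.n (-1)) = B := by
          show conjBy A (α _ * β _ * α _) = B
          rw [hsc _ (by simp)]; exact swap_left (hpart _ (by simp))
        have e3 : conjBy A (D.n a₀) = B := by
          show conjBy A (α _ * β _ * α _) = B
          rw [hsc _ ha0]; exact swap_left (hpart _ ha0)
        have e4 : conjBy B (D.n (-1)) = A := by
          show conjBy B (α _ * β _ * α _) = A
          rw [hsc _ (by simp)]; exact swap_right h (hpart _ (by simp))
        show conjBy B (D.n (a₀ * 1) * (D.n 1)⁻¹) = B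
        rw [mul_one, ← D.n_neg, ← conjBy_mul, e4, e3]
      have hq1 : D.α q = (D.h a₀)⁻¹ := eq_inv_of_mul_eq_one_right hg
      have hαq : α q = 1 := by
        refine eq_one_of_normalizes h.1 (hαA q) ?_
        show conjBy B (D.α q) = B
        rw [hq1]
        conv_lhs => rw [← hhB, conjBy_inv_conjBy]
      have hh1 : D.h a₀ = 1 := by rw [show D.α q = 1 from hαq, mul_one] at hg; exact hg
      have hq0 : q = 0 := by
        by_contra h0; exact hαne q h0 hαq
      have hsq : a₀ * a₀ = 1 := by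
        have e := D.diag_α a₀ 1 1 ha0 one_ne_zero
        rw [show D.diag a₀ 1 = 1 from hh1, one_mul, mul_one, mul_one] at e
        by_contra hne
        refine hαne (a₀ * a₀ - 1) (sub_ne_zero.2 hne) ?_
        have e' := hαadd (a₀ * a₀ - 1) 1
        rw [sub_add_cancel, show α (a₀ * a₀) = α 1 from e.symm, right_eq_mul] at e'
        exact e'
      have hd : (g : Matrix (Fin 2) (Fin 2) (ZMod p)) 1 1 = a₀ := by
        calc _ = a₀ * a₀ * (g : Matrix (Fin 2) (Fin 2) (ZMod p)) 1 1 := by rw [hsq, one_mul]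
          _ = a₀ := by rw [mul_assoc, hdet, mul_one]
      have hb0 : (g : Matrix (Fin 2) (Fin 2) (ZMod p)) 0 1 = 0 := by
        have := hq0
        rw [hq, div_eq_zero_iff] at this
        exact this.resolve_right ha0
      refine Matrix.SpecialLinearGroup.mem_center_iff.2 ⟨a₀, ?_, ?_⟩
      · rw [Fintype.card_fin, sq]; exact hsq
      · ext i j
        fin_cases i <;> fin_cases j <;> simp [hb0, hc, hd, a₀]

end Cfsg.Agent.RankOneSL2

namespace Cfsg.Agent.RankOneSL2

open Cfsg RankOne RankOneSpecial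

/-- `⟨a, b⟩` is `SL₂(p)` or `PSL₂(p)`. -/
theorem closure_pair_iso {G : Type*} [Group G] {A B : Subgroup G} (h : IsSpecialRankOnePair A B)
    {p : ℕ} [Fact p.Prime] (hA : IsElementaryAbelian p A) {a b : G} (hp : Partner A B a b) :
    Nonempty (↥(Subgroup.closure ({a, b} : Set G)) ≃* Matrix.SpecialLinearGroup (Fin 2) (ZMod p)) ∨
    Nonempty (↥(Subgroup.closure ({a, b} : Set G)) ≃*
      Matrix.ProjectiveSpecialLinearGroup (Fin 2) (ZMod p)) := by
  obtain ⟨f, hr, hk⟩ := exists_hom h hA hp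
  rw [← hr]
  by_cases hbot : f.ker = ⊥
  · exact Or.inl ⟨(MonoidHom.ofInjective ((MonoidHom.ker_eq_bot_iff f).1 hbot)).symm⟩
  · refine Or.inr ⟨(QuotientGroup.quotientKerEquivRange f).symm.trans
      (QuotientGroup.quotientMulEquivOfEq (le_antisymm hk fun z hz => ?_))⟩
    obtain ⟨g, hg, hg1⟩ := (Subgroup.bot_or_exists_ne_one _).resolve_left hbot
    obtain ⟨r, hr2, hrg⟩ := Matrix.SpecialLinearGroup.mem_center_iff.1 (hk hg)
    obtain ⟨t, ht2, htz⟩ := Matrix.SpecialLinearGroup.mem_center_iff.1 hz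
    rw [Fintype.card_fin, sq_eq_one_iff] at hr2 ht2
    rcases ht2 with rfl | rfl
    · have : z = 1 := Subtype.ext (by rw [← htz]; simp)
      rw [this]; exact one_mem _
    · rcases hr2 with rfl | rfl
      · exact absurd (Subtype.ext (by rw [← hrg]; simp)) hg1
      · have : z = g := Subtype.ext (htz.symm.trans hrg)
        rw [this]; exact hg

end Cfsg.Agent.RankOneSL2
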