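import Cfsg.Agent.Lib.RankOne

/-!
Special rank one groups with abelian unipotent subgroups: partners of powers.
-/

set_option autoImplicit false

namespace Cfsg.Agent.RankOneSpecial

open Cfsg RankOne

variable {G : Type*} [Group G] {A B : Subgroup G}

/-- `b = b(a)`. -/
structure Partner (A B : Subgroup G) (a b : G) : Prop where
  mem_left : a ∈ A
  left_ne : a ≠ 1
  mem_right : b ∈ B
  right_ne : b ≠ 1
  eq : conjBy A b⁻¹ = conjBy B a⁻¹

theorem Partner.symm {a b : G} (h : Partner A B a b) : Partner B A b a :=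
  ⟨h.mem_right, h.right_ne, h.mem_left, h.left_ne, h.eq.symm⟩

theorem special_symm (h : IsSpecialRankOnePair A B) : IsSpecialRankOnePair B A := by
  refine ⟨RankOnePair_symm h.1, fun b hb hb1 a ha ha1 he => ?_⟩
  have h2 := h.2 a ha ha1 b hb hb1 he.symm
  have h3 := congrArg (fun x : G => x⁻¹) h2
  simp only [mul_inv_rev, inv_inv] at h3
  rw [← mul_assoc, ← mul_assoc] at h3
  exact h3.symm

theorem exists_partner' (h : IsRankOnePair A B) {a : G} (ha : a ∈ A) (ha1 : a ≠ 1) :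
    ∃ b, Partner A B a b := by
  obtain ⟨b, hb, hb1, he⟩ := h.cond_left a ha ha1
  exact ⟨b, ha, ha1, hb, hb1, he⟩

theorem exists_partner_right (h : IsRankOnePair A B) {b : G} (hb : b ∈ B) (hb1 : b ≠ 1) :
    ∃ a, Partner A B a b := by
  obtain ⟨a, ha, ha1, he⟩ := h.cond_right b hb hb1
  exact ⟨a, ha, ha1, hb, hb1, he.symm⟩

theorem Partner.unique_right (h : IsRankOnePair A B) {a b b' : G} (h1 : Partner A B a b)
    (h2 : Partner A B a b') : b = b' :=
  partner_unique h h1.mem_right h2.mem_right (h1.eq.trans h2.eq.symm)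

theorem Partner.unique_left (h : IsRankOnePair A B) {a a' b : G} (h1 : Partner A B a b)
    (h2 : Partner A B a' b) : a = a' :=
  partner_unique (RankOnePair_symm h) h1.mem_left h2.mem_left (h1.eq.symm.trans h2.eq)

/-- `a b⁻¹ a b a⁻¹ = b⁻¹`. -/
theorem special_conj (h : IsSpecialRankOnePair A B) {a b : G} (hp : Partner A B a b) :
    a * (b⁻¹ * a * b) * a⁻¹ = b⁻¹ := by
  rw [h.2 a hp.mem_left hp.left_ne b hp.mem_right hp.right_ne hp.eq]; group

theorem psi_mem {a b x : G} (hp : Partner A B a b) (hx : x ∈ A) :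
    a * (b⁻¹ * x * b) * a⁻¹ ∈ B := by
  have h3 : b⁻¹ * x * b ∈ conjBy A b⁻¹ := by
    rw [mem_conjBy]; simpa [mul_assoc] using hx
  rw [hp.eq, mem_conjBy, inv_inv] at h3
  exact h3

theorem psi_pow {a b x : G} (k : ℕ) :
    a * (b⁻¹ * x ^ k * b) * a⁻¹ = (a * (b⁻¹ * x * b) * a⁻¹) ^ k := by
  induction k with
  | zero => group
  | succ k ih => rw [pow_succ, pow_succ, ← ih]; group

theorem pow_eq_one_iff' (h : IsSpecialRankOnePair A B) {a b : G} (hp : Partner A B a b) (k : ℕ) :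
    a ^ k = 1 ↔ b ^ k = 1 := by
  have h2 := psi_pow (a := a) (b := b) (x := a) k
  rw [special_conj h hp, inv_pow] at h2
  constructor
  · intro h0
    rw [h0, mul_one, inv_mul_cancel, mul_one, mul_inv_cancel] at h2
    exact inv_eq_one.1 h2.symm
  · intro h0
    rw [h0, inv_one, mul_inv_eq_one, mul_eq_left] at h2
    rw [mul_assoc, inv_mul_eq_one] at h2
    exact mul_eq_right.1 h2.symm

theorem partner_inv (h : IsSpecialRankOnePair A B) {a b : G} (hp : Partner A B a b) :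
    Partner A B a⁻¹ b⁻¹ := by
  refine ⟨inv_mem hp.mem_left, inv_ne_one.2 hp.left_ne, inv_mem hp.mem_right,
    inv_ne_one.2 hp.right_ne, ?_⟩
  have hs := special_conj h hp
  have hg : a * b⁻¹ * a = b⁻¹ * a * b⁻¹ := by
    calc a * b⁻¹ * a = (a * (b⁻¹ * a * b) * a⁻¹) * a * b⁻¹ := by group
      _ = b⁻¹ * a * b⁻¹ := by rw [hs]
  set g := a * b⁻¹ * a with hgdef
  have hgX : g ∈ A ⊔ B := mul_mem (mul_mem (Subgroup.mem_sup_left hp.mem_left)
    (inv_mem (Subgroup.mem_sup_right hp.mem_right))) (Subgroup.mem_sup_left hp.mem_left)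
  have hgA : conjBy A g = B := by
    rw [hgdef, ← conjBy_mul, conjBy_of_mem hp.mem_left, ← conjBy_mul, hp.eq, conjBy_conjBy_inv]
  have e1 : g * a * g⁻¹ = b⁻¹ := by
    calc g * a * g⁻¹ = (b⁻¹ * a * b⁻¹) * a * g⁻¹ := by rw [hg]
      _ = (b⁻¹ * a * b⁻¹) * a * (a * b⁻¹ * a)⁻¹ := by rw [hgdef]
      _ = _ := by group
  have e2 : g * b⁻¹ * g⁻¹ = a := by
    calc g * b⁻¹ * g⁻¹ = (a * b⁻¹ * a) * b⁻¹ * (a * b⁻¹ * a)⁻¹ := by rw [hgdef]
      _ = a * (b⁻¹ * a * b⁻¹) * (a * b⁻¹ * a)⁻¹ := by group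
      _ = a := by rw [← hg, hgdef]; group
  have hC : conjBy B g ∈ unipotentSubgroups A B :=
    conjBy_mem_unipotents (right_mem_unipotents h.1) hgX
  have haC : a ∈ conjBy B g := by
    rw [mem_conjBy]
    have : g⁻¹ * a * g = b⁻¹ := by rw [← e2]; group
    rw [this]; exact inv_mem hp.mem_right
  have hBA : conjBy B g = A := by
    by_contra hne
    have := inf_eq_bot (isRankOnePair_of_mem_unipotents h.1 hC self_mem_unipotents hne)
    exact hp.left_ne (Subgroup.mem_bot.1 (this ▸ Subgroup.mem_inf.2 ⟨haC, hp.mem_left⟩))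
  rw [hg, ← conjBy_mul, conjBy_of_mem (inv_mem hp.mem_right)] at hBA
  rw [inv_inv, inv_inv]
  conv_lhs => rw [← hBA, conjBy_mul, mul_inv_cancel_left]

/-- the statement `b(a^k)^k = b(a)` -/
def PowerLaw (A B : Subgroup G) (k : ℕ) : Prop :=
  ∀ a b d : G, Partner A B a b → a ^ k ≠ 1 → Partner A B (a ^ k) d → d ^ k = b

theorem powerLaw_one (h : IsRankOnePair A B) : PowerLaw A B 1 := by
  intro a b d hp _ hd
  rw [pow_one] at hd ⊢
  exact (hp.unique_right h hd).symm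

theorem powerLaw_step (h : IsSpecialRankOnePair A B) {k : ℕ}
    (hP : PowerLaw A B k) (hQ : PowerLaw B A k) (htor : ∀ x ∈ A, x ≠ 1 → x ^ k ≠ 1) :
    PowerLaw B A (k + 1) := by
  intro b a r' hba hbk1 hr'
  have hp : Partner A B a b := hba.symm
  have hak : a ^ k ≠ 1 := htor a hp.mem_left hp.left_ne
  have hbk : b ^ k ≠ 1 := fun h0 => hak ((pow_eq_one_iff' h hp k).2 h0)
  obtain ⟨d, hd⟩ := exists_partner' h.1 (pow_mem hp.mem_left k) hak
  have hdk : d ^ k = b := hP a b d hp hak hd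
  obtain ⟨r, hr⟩ := exists_partner_right h.1 (pow_mem hp.mem_right k) hbk
  have hrk : r ^ k = a := hQ b a r hba hbk hr.symm
  set e := a * (b⁻¹ * r * b) * a⁻¹ with he
  have hek : e ^ k = b⁻¹ := by rw [he, ← psi_pow, hrk, special_conj h hp]
  have he_inv : e⁻¹ ^ k = b := by rw [inv_pow, hek, inv_inv]
  have hne1 : e⁻¹ ≠ 1 := fun h0 => hp.right_ne (by rw [← he_inv, h0, one_pow])
  obtain ⟨t, ht⟩ := exists_partner_right h.1 (inv_mem (psi_mem hp hr.mem_left)) hne1
  have htk : a ^ k = t := hQ e⁻¹ t a ht.symm (he_inv.symm ▸ hp.right_ne) (he_inv.symm ▸ hba)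
  have hed : e⁻¹ = d := (htk ▸ ht).unique_right h.1 hd
  set y := d ^ (k + 1) with hy
  have hyk : y ^ k = b ^ (k + 1) := by rw [hy, ← pow_mul, mul_comm, pow_mul, hdk]
  have hy1 : y ≠ 1 := fun h0 => hbk1 (by rw [← hyk, h0, one_pow])
  obtain ⟨s, hs⟩ := exists_partner_right h.1 (pow_mem hd.mem_right (k + 1)) hy1
  have hr'k : r' ^ k = s := hQ y s r' hs.symm (by rw [hyk]; exact hbk1) (hyk.symm ▸ hr')
  have hrec : conjBy A (b ^ (k + 1))⁻¹ = conjBy B (s⁻¹ * a)⁻¹ := by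
    have h3 : conjBy B a = conjBy A b := by
      have := (partner_inv h hp).eq
      rwa [inv_inv, inv_inv, eq_comm] at this
    have h4 : conjBy B s = conjBy A y := by
      have := (partner_inv h hs).eq
      rwa [inv_inv, inv_inv, eq_comm] at this
    have h5 : b⁻¹ * r⁻¹ * b = a⁻¹ * e⁻¹ * a := by rw [he]; group
    have h6 : e⁻¹ * b = y := by rw [hed, hy, ← hdk, pow_succ']
    calc conjBy A (b ^ (k + 1))⁻¹ = conjBy (conjBy A (b ^ k)⁻¹) b⁻¹ := by
          rw [conjBy_mul]; congr 2; rw [pow_succ, mul_inv_rev]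
      _ = conjBy B (b⁻¹ * r⁻¹) := by rw [hr.eq, conjBy_mul]
      _ = conjBy (conjBy B b) (b⁻¹ * r⁻¹) := by rw [conjBy_of_mem hp.mem_right]
      _ = conjBy B (a⁻¹ * e⁻¹ * a) := by rw [conjBy_mul, h5]
      _ = conjBy A (a⁻¹ * e⁻¹ * b) := by rw [← conjBy_mul, h3, conjBy_mul]
      _ = conjBy (conjBy A y) a⁻¹ := by rw [conjBy_mul, mul_assoc, h6]
      _ = _ := by rw [← h4, conjBy_mul]; congr 2; group
  have hr2 : Partner A B (s⁻¹ * a) (b ^ (k + 1)) := by
    refine ⟨mul_mem (inv_mem hs.mem_left) hp.mem_left, ?_, pow_mem hp.mem_right _, hbk1, hrec⟩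
    intro h0
    rw [h0, inv_one, conjBy_one] at hrec
    exact hbk1 (inv_eq_one.1 (eq_one_of_normalizes (RankOnePair_symm h.1)
      (inv_mem (pow_mem hp.mem_right (k + 1))) (by
        rw [hrec]
        exfalso
        have h7 : conjBy A (b ^ (k + 1))⁻¹ ≠ B := fun hh => h.1.ne (by
          conv_lhs => rw [← conjBy_conjBy_inv A (b ^ (k + 1)), hh, conjBy_of_mem (pow_mem hp.mem_right _)])
        exact h7 hrec)))
  have hfin : r' = s⁻¹ * a := hr'.symm.unique_left h.1 hr2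
  rw [← hr'k] at hfin
  calc r' ^ (k + 1) = r' ^ k * r' := pow_succ _ _
    _ = r' ^ k * ((r' ^ k)⁻¹ * a) := by rw [← hfin]
    _ = a := mul_inv_cancel_left _ _

theorem powerLaw (h : IsSpecialRankOnePair A B) (n : ℕ) (hn : 0 < n)
    (htor : ∀ j, 0 < j → j < n → ∀ x ∈ A, x ≠ 1 → x ^ j ≠ 1) :
    PowerLaw A B n ∧ PowerLaw B A n := by
  induction n with
  | zero => omega
  | succ k ih =>
    rcases Nat.eq_zero_or_pos k with rfl | hk
    · exact ⟨powerLaw_one h.1, powerLaw_one (RankOnePair_symm h.1)⟩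
    obtain ⟨hP, hQ⟩ := ih hk fun j h1 h2 => htor j h1 (h2.trans (Nat.lt_succ_self k))
    refine ⟨powerLaw_step (special_symm h) hQ hP ?_, powerLaw_step h hP hQ (htor k hk (Nat.lt_succ_self k))⟩
    intro x hx hx1 h0
    obtain ⟨a, ha⟩ := exists_partner_right h.1 hx hx1
    exact htor k hk (Nat.lt_succ_self k) a ha.mem_left ha.left_ne ((pow_eq_one_iff' h ha k).2 h0)

end Cfsg.Agent.RankOneSpecial
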