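import Mathlib
import Cfsg.Agent.Lib.RankOneInverted82

/-!
Rank one set-up, given solvability of groups of odd order: the Sylow 2-subgroup of `Q` is abelian or
a Suzuki 2-group, and `C_D(t)` is the centraliser of the inverted elements extended by a cyclic group.
-/

set_option autoImplicit false
set_option linter.unusedSectionVars false
set_option linter.style.haveILetI false

universe u v

namespace Cfsg.Agent.RankOneSylowTwo82

open MulAction Cfsg.Agent.RankOneSetup

variable {G : Type u} {Ω : Type v} [Group G] [Finite G] [MulAction G Ω] {a : Ω} {t : G}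
  {Q : Subgroup G}

theorem sylow_structure
    (hFT : ∀ (K : Type u) [Group K] [Finite K], Odd (Nat.card K) → Group.IsSolvable K)
    (hS : Cfsg.IsRankOneSetup G Ω a t Q)
    (h2 : ∃ x y : G, x ≠ 1 ∧ y ≠ 1 ∧ x ≠ y ∧ x * x = 1 ∧ y * y = 1 ∧ x * y = y * x)
    (S : Sylow 2 ↥Q) :
    IsMulCommutative (S : Subgroup ↥Q) ∨ Cfsg.IsSuzukiTwoGroup ↥(S : Subgroup ↥Q) := by
  classical
  haveI : Fact (Nat.Prime 2) := ⟨Nat.prime_two⟩
  by_cases hna : ∃ x y : (S : Subgroup ↥Q), x * y ≠ y * x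
  swap
  · push Not at hna
    exact Or.inl ⟨⟨hna⟩⟩
  right
  haveI := FrobeniusRankOne.nilpotent hS h2
  have hSn : (S : Subgroup ↥Q).Normal :=
    Sylow.normal_of_normalizerCondition Group.normalizerCondition_of_isNilpotent S
  haveI := hSn
  haveI : Unique (Sylow 2 ↥Q) := Sylow.unique_of_normal S hSn
  -- involutions of the point stabiliser lie in `S`
  have hmemS : ∀ (x : G) (hx : x ∈ Q), x * x = 1 → (⟨x, hx⟩ : Q) ∈ (S : Subgroup ↥Q) := by
    intro x hx hxx
    have hp : IsPGroup 2 (Subgroup.zpowers (⟨x, hx⟩ : Q)) := by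
      rintro ⟨y, hy⟩
      obtain ⟨n, rfl⟩ := Subgroup.mem_zpowers_iff.1 hy
      refine ⟨1, Subtype.ext ?_⟩
      simp only [pow_one, SubmonoidClass.coe_pow, OneMemClass.coe_one]
      rw [← zpow_natCast, ← zpow_mul, mul_comm, zpow_mul, zpow_natCast,
        show ((⟨x, hx⟩ : Q) ^ 2) = 1 from Subtype.ext (by simp [pow_two, hxx]), one_zpow]
    obtain ⟨P, hP⟩ := hp.exists_le_sylow
    rw [Subsingleton.elim S P]
    exact hP (Subgroup.mem_zpowers _)
  obtain ⟨C, hC, hCc, -⟩ := RankOneInverted82.exists_cyclic hS h2 hFT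
  have hCinv : ∀ c : C, (c : G) ∈ RankOneInverted82.inv G a t := fun c => by rw [← hC]; exact c.2
  have hCQ : ∀ c : C, ∀ q ∈ Q, (c : G) * q * (c : G)⁻¹ ∈ Q := fun c q hq =>
    hS.conj_mem _ (hCinv c).1.1 q hq
  -- action on `Q`
  let α : C →* MulAut Q :=
    { toFun := fun c =>
        { toFun := fun w => ⟨(c : G) * w * (c : G)⁻¹, hCQ c w w.2⟩
          invFun := fun w => ⟨(c : G)⁻¹ * w * (c : G), by simpa using hCQ c⁻¹ w w.2⟩
          left_inv := fun w => Subtype.ext (by simp [mul_assoc])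
          right_inv := fun w => Subtype.ext (by simp [mul_assoc])
          map_mul' := fun x y => Subtype.ext (by simp [mul_assoc]) }
      map_one' := MulEquiv.ext fun w => Subtype.ext (by simp)
      map_mul' := fun c d => MulEquiv.ext fun w => Subtype.ext (by simp [mul_assoc]) }
  haveI hchar : (S : Subgroup ↥Q).Characteristic := S.characteristic_of_normal hSn
  have hαS : ∀ (c : C) (w : Q), w ∈ (S : Subgroup ↥Q) → α c w ∈ (S : Subgroup ↥Q) := by
    intro c w hw
    have := Subgroup.characteristic_iff_map_eq.1 hchar (α c)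
    rw [← this]
    exact ⟨w, hw, rfl⟩
  let β : C →* MulAut ↥(S : Subgroup ↥Q) :=
    { toFun := fun c =>
        { toFun := fun w => ⟨α c w, hαS c w w.2⟩
          invFun := fun w => ⟨α c⁻¹ w, hαS c⁻¹ w w.2⟩
          left_inv := fun w => Subtype.ext (by
            show α c⁻¹ (α c w) = w
            rw [← MulAut.mul_apply, ← map_mul, inv_mul_cancel, map_one]; rfl)
          right_inv := fun w => Subtype.ext (by
            show α c (α c⁻¹ w) = w
            rw [← MulAut.mul_apply, ← map_mul, mul_inv_cancel, map_one]; rfl)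
          map_mul' := fun x y => Subtype.ext (map_mul (α c) (x : Q) y) }
      map_one' := MulEquiv.ext fun w => Subtype.ext (by
        show α 1 w = w
        rw [map_one]; rfl)
      map_mul' := fun c d => MulEquiv.ext fun w => Subtype.ext (by
        show α (c * d) w = α c (α d w)
        rw [map_mul]; rfl) }
  have hβ : ∀ (c : C) (w : (S : Subgroup ↥Q)),
      (((β c w : (S : Subgroup ↥Q)) : Q) : G) = (c : G) * ((w : Q) : G) * (c : G)⁻¹ :=
    fun _ _ => rfl
  have hinvo : ∀ w : (S : Subgroup ↥Q), w ≠ 1 → w * w = 1 →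
      ((w : Q) : G) ∈ Cfsg.involutionsIn (stabilizer G a : Set G) := by
    intro w hw1 hw
    refine ⟨hS.le (w : Q).2, fun h => hw1 (Subtype.ext (Subtype.ext h)), ?_⟩
    simpa using congrArg (fun z : (S : Subgroup ↥Q) => ((z : Q) : G)) hw
  refine ⟨inferInstance, S.isPGroup', hna, ?_, β.range,
    isCyclic_of_surjective _ β.rangeRestrict_surjective, ?_⟩
  · obtain ⟨k, hk, hk1⟩ := FrobeniusRankOne.exists_inverted hS h2
    haveI : Nontrivial (Cfsg.invertedBy (stabilizer G a ⊓ stabilizer G (t • a)) t) :=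
      ⟨⟨⟨k, hk⟩, ⟨1, one_mem _, by simp⟩, fun h => hk1 (congrArg Subtype.val h)⟩⟩
    have h1 : 1 < Nat.card (Cfsg.involutionsIn (stabilizer G a : Set G)) := by
      rw [← (Cfsg.Agent.S1122.result hS).1]; exact Finite.one_lt_card
    haveI := Finite.one_lt_card_iff_nontrivial.1 h1
    obtain ⟨⟨x, hx⟩, ⟨y, hy⟩, hxy⟩ :=
      exists_pair_ne (Cfsg.involutionsIn (stabilizer G a : Set G))
    have hxQ := invol_mem_q hS hx.1 hx.2.2
    have hyQ := invol_mem_q hS hy.1 hy.2.2
    refine ⟨⟨⟨x, hxQ⟩, hmemS x hxQ hx.2.2⟩, ⟨⟨y, hyQ⟩, hmemS y hyQ hy.2.2⟩,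
      fun h => hxy (Subtype.ext (congrArg (fun z : (S : Subgroup ↥Q) => ((z : Q) : G)) h)),
      fun h => hx.2.1 (congrArg (fun z : (S : Subgroup ↥Q) => ((z : Q) : G)) h),
      Subtype.ext (Subtype.ext hx.2.2),
      fun h => hy.2.1 (congrArg (fun z : (S : Subgroup ↥Q) => ((z : Q) : G)) h),
      Subtype.ext (Subtype.ext hy.2.2)⟩
  · intro x y hx1 hx hy1 hy
    obtain ⟨k, hk, hke⟩ := (Cfsg.Agent.S1122.result hS).2 _ (hinvo x hx1 hx) _ (hinvo y hy1 hy)
    have hkC : k ∈ C := by rw [← SetLike.mem_coe, hC]; exact hk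
    have hbx : β ⟨k⁻¹, C.inv_mem hkC⟩ x = y := by
      refine Subtype.ext (Subtype.ext ?_)
      rw [hβ]
      simpa using hke
    refine ⟨⟨β ⟨k⁻¹, C.inv_mem hkC⟩, _, rfl⟩, hbx, ?_⟩
    rintro ⟨_, c, rfl⟩ hc
    apply Subtype.ext
    show β c = β ⟨k⁻¹, C.inv_mem hkC⟩
    congr 1
    by_contra hne
    have hfix : β ((⟨k⁻¹, C.inv_mem hkC⟩ : C)⁻¹ * c) x = x := by
      rw [map_mul, map_inv, MulAut.mul_apply, (hc : β c x = y), ← hbx]
      exact MulAut.inv_apply_self _ _ _
    set d := (⟨k⁻¹, C.inv_mem hkC⟩ : C)⁻¹ * c with hd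
    have hd1 : (d : G) ≠ 1 := fun h => hne (inv_mul_eq_one.1
      (Subtype.ext h : (⟨k⁻¹, C.inv_mem hkC⟩ : C)⁻¹ * c = 1)).symm
    have hbot := FrobeniusRankOne.fpf hS (hCinv d) hd1
    have hmem : ((x : Q) : G) ∈ Q ⊓ Subgroup.centralizer {(d : G)} := by
      refine ⟨(x : Q).2, Subgroup.mem_centralizer_singleton_iff.2 ?_⟩
      have h3 := congrArg (fun z : (S : Subgroup ↥Q) => ((z : Q) : G)) hfix
      simp only [hβ] at h3
      exact (mul_inv_eq_iff_eq_mul.1 h3).symm
    rw [hbot, Subgroup.mem_bot] at hmem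
    exact hx1 (Subtype.ext (Subtype.ext hmem))

theorem centralizer_structure
    (hFT : ∀ (K : Type u) [Group K] [Finite K], Odd (Nat.card K) → Group.IsSolvable K)
    (hS : Cfsg.IsRankOneSetup G Ω a t Q)
    (h2 : ∃ x y : G, x ≠ 1 ∧ y ≠ 1 ∧ x ≠ y ∧ x * x = 1 ∧ y * y = 1 ∧ x * y = y * x) :
    ∃ v ∈ (stabilizer G a ⊓ stabilizer G (t • a)) ⊓ Subgroup.centralizer {t},
      ((stabilizer G a ⊓ stabilizer G (t • a)) ⊓ Subgroup.centralizer {t} ⊓
        Subgroup.centralizer (Cfsg.invertedBy (stabilizer G a ⊓ stabilizer G (t • a)) t)) ⊔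
          Subgroup.closure {v} =
        (stabilizer G a ⊓ stabilizer G (t • a)) ⊓ Subgroup.centralizer {t} := by
  obtain ⟨v, hv, hgen⟩ := RankOneInverted82.exists_gen_centralizer hS h2 hFT
  have hvmem : (v : G) ∈ twoPt G a t ⊓ Subgroup.centralizer {t} :=
    ⟨v.2, Subgroup.mem_centralizer_singleton_iff.2 hv⟩
  refine ⟨v, hvmem, le_antisymm (sup_le inf_le_left ?_) ?_⟩
  · rw [Subgroup.closure_le, Set.singleton_subset_iff]
    exact hvmem
  · intro x hx
    obtain ⟨n, hn⟩ := hgen ⟨x, hx.1⟩ (Subgroup.mem_centralizer_singleton_iff.1 hx.2)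
    rw [RankOneInverted82.phi_eq_one_iff] at hn
    have hmem : x * ((v : G) ^ n)⁻¹ ∈
        twoPt G a t ⊓ Subgroup.centralizer (RankOneInverted82.invo G a) := by
      refine ⟨(twoPt G a t).mul_mem hx.1
        ((twoPt G a t).inv_mem ((twoPt G a t).zpow_mem v.2 n)), ?_⟩
      simpa using hn
    rw [← (Cfsg.Agent.S1127.result hS).2] at hmem
    rw [show x = (x * ((v : G) ^ n)⁻¹) * (v : G) ^ n from (inv_mul_cancel_right _ _).symm]
    refine Subgroup.mul_mem _ (Subgroup.mem_sup_left hmem) (Subgroup.mem_sup_right ?_)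
    exact Subgroup.zpow_mem _ (Subgroup.subset_closure (Set.mem_singleton _)) n

end Cfsg.Agent.RankOneSylowTwo82
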