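import Mathlib
import Cfsg.Agent.Lib.BGRankTwo
import Cfsg.Agent.Lib.ClassTwoPow

/-!
`p`-chief factors of `p`-solvable groups of `p`-rank at most two, `p` odd.
-/

set_option autoImplicit false
set_option linter.style.haveILetI false

namespace Cfsg.Agent.RankTwoChief

open Subgroup
open scoped commutatorElement

universe u

variable {p : ℕ} [hp : Fact p.Prime]

/-- `p`-central: the elements of order dividing `p` are central. -/
def PCentral (p : ℕ) (P : Type*) [Group P] : Prop :=
  ∀ x : P, x ^ p = 1 → ∀ y : P, x * y = y * x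

theorem pow_mul_inv_eq_one (hp2 : p ≠ 2) {P : Type*} [Group P] [Finite P] (hP : IsPGroup p P)
    (hc : PCentral p P) : ∀ x y : P, x ^ p = y ^ p → (x * y⁻¹) ^ p = 1 := by
  suffices h : ∀ (n : ℕ) (M : Subgroup P), Nat.card M = n → ∀ x ∈ M, ∀ y ∈ M, x ^ p = y ^ p →
      (x * y⁻¹) ^ p = 1 from fun x y e => h _ ⊤ rfl x (mem_top x) y (mem_top y) e
  intro n
  induction n using Nat.strong_induction_on with
  | _ n ih =>
  intro M hM x hx y hy e
  by_cases hxy : x * y = y * x
  · rw [(Commute.inv_right hxy).mul_pow, inv_pow, e, mul_inv_cancel]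
  set S : Subgroup P := closure {x, y * x * y⁻¹} with hS
  have hSM : S ≤ M := (closure_le M).2 (by
    rintro u (rfl | rfl)
    · exact hx
    · exact M.mul_mem (M.mul_mem hy hx) (M.inv_mem hy))
  have hne : S ≠ M := by
    intro h
    apply hxy
    have hle : S.subgroupOf M ≤ zpowers (⟨x, hx⟩ : M) ⊔ frattini M := by
      refine (map_le_map_iff_of_injective M.subtype_injective).1 ?_
      rw [map_subgroupOf_eq_of_le hSM, hS, closure_le]
      rintro u (rfl | rfl)
      · exact ⟨⟨u, hx⟩, mem_sup_left (mem_zpowers _), rfl⟩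
      · have hk : ⁅(⟨y, hy⟩ : M), (⟨x, hx⟩ : M)⁆ ∈ frattini M :=
          PGroupsBasic.commutator_le_frattini (hP.to_subgroup M)
            (commutator_mem_commutator (mem_top _) (mem_top _))
        refine ⟨⁅(⟨y, hy⟩ : M), (⟨x, hx⟩ : M)⁆ * ⟨x, hx⟩, Subgroup.mul_mem _ (mem_sup_right hk)
          (mem_sup_left (mem_zpowers _)), ?_⟩
        show y * x * y⁻¹ * x⁻¹ * x = y * x * y⁻¹
        rw [inv_mul_cancel_right]
    have htop : S.subgroupOf M = ⊤ := by rw [h, subgroupOf_self]
    have hz : zpowers (⟨x, hx⟩ : M) = ⊤ :=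
      frattini_nongenerating (eq_top_iff.2 (htop ▸ hle))
    obtain ⟨i, hi⟩ := mem_zpowers_iff.1 (hz ▸ mem_top (⟨y, hy⟩ : M) : _)
    have hi' : x ^ i = y := congrArg Subtype.val hi
    exact hi' ▸ (Commute.self_zpow x i).eq
  have hlt : Nat.card S < n :=
    hM ▸ lt_of_le_of_ne (card_le_of_le hSM) fun h => hne (eq_of_le_of_card_ge hSM h.ge)
  have hconj : x ^ p = (y * x * y⁻¹) ^ p := by
    rw [conj_pow, e, (Commute.self_pow y p).eq, mul_inv_cancel_right]
  have h1 := ih _ hlt S rfl x (subset_closure (Set.mem_insert _ _)) (y * x * y⁻¹)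
    (subset_closure (Set.mem_insert_of_mem _ rfl)) hconj
  have hcen : ⁅x, y⁆ ∈ center P := mem_center_iff.2 fun g => by
    refine (hc _ ?_ g).symm
    rw [show ⁅x, y⁆ = x * (y * x * y⁻¹)⁻¹ by simp only [commutatorElement_def]; group]
    exact h1
  have hpow : ⁅x, y⁆ ^ p = 1 := by
    rw [show ⁅x, y⁆ = x * (y * x * y⁻¹)⁻¹ by simp only [commutatorElement_def]; group]
    exact h1
  have hcom : Commute ⁅x, y⁆ x := (mem_center_iff.1 hcen x).symm
  have hcom' : Commute ⁅x, y⁆ y := (mem_center_iff.1 hcen y).symm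
  have h2 := OmegaCoprime.mul_pow_class_two (x := x * y⁻¹) (y := y) (z := ⁅x, y⁆⁻¹) (by
      have h3 : x * y = ⁅x, y⁆ * (y * x) := by simp only [commutatorElement_def]; group
      calc y * (x * y⁻¹) = ⁅x, y⁆⁻¹ * (⁅x, y⁆ * (y * x)) * y⁻¹ := by group
        _ = ⁅x, y⁆⁻¹ * x := by rw [← h3]; group
        _ = x * ⁅x, y⁆⁻¹ := hcom.inv_left.eq
        _ = x * y⁻¹ * y * ⁅x, y⁆⁻¹ := by rw [inv_mul_cancel_right])
    ((hcom.mul_right hcom'.inv_right).inv_left) hcom'.inv_left p
  rw [inv_mul_cancel_right] at h2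
  obtain ⟨t, ht⟩ : p ∣ p.choose 2 := Nat.Prime.dvd_choose_self Fact.out two_ne_zero
    (lt_of_le_of_ne (Fact.out : p.Prime).two_le (Ne.symm hp2))
  rw [ht, pow_mul, inv_pow, hpow, inv_one, one_pow, mul_one, ← e, right_eq_mul] at h2
  exact h2

/-- The elements of order dividing `p` of a `p`-central group. -/
def omega {P : Type*} [Group P] (hc : PCentral p P) : Subgroup P where
  carrier := {x | x ^ p = 1}
  one_mem' := one_pow p
  mul_mem' {x y} hx hy := by
    show (x * y) ^ p = 1
    rw [(show Commute x y from hc x hx y).mul_pow, hx, hy, one_mul]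
  inv_mem' {x} hx := by
    show x⁻¹ ^ p = 1
    rw [inv_pow, hx, inv_one]

section chief

variable {G : Type u} [Group G] [Finite G]

/-- The bound holds if the chief factor `H/K` lies below `A`. -/
def Below (p : ℕ) (H K A : Subgroup G) : Prop := H ≤ K ⊔ A → K.relIndex H ∣ p ^ 2

omit hp [Finite G] in
theorem below_step {H K A B : Subgroup G} [K.Normal] [A.Normal] [H.Normal]
    (hKH : K ≤ H) (hpow : ∃ n : ℕ, K.relIndex H = p ^ n)
    (hchief : ∀ L : Subgroup G, L.Normal → K ≤ L → L ≤ H → L = K ∨ L = H)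
    (hA : Below p H K A) (hAB : A ≤ B) (hb : ∀ n : ℕ, p ^ n ∣ A.relIndex B → n ≤ 2) :
    Below p H K B := by
  intro hH
  rcases hchief (H ⊓ (K ⊔ A)) inferInstance (le_inf hKH le_sup_left) inf_le_left with h | h
  · obtain ⟨n, hn⟩ := hpow
    rw [hn]
    refine Nat.pow_dvd_pow p (hb n ?_)
    rw [← hn]
    have h1 : K.relIndex H = (K ⊔ A).relIndex H := by
      conv_lhs => rw [← h]
      rw [inf_comm, inf_relIndex_right]
    rw [h1]
    have h2 : K ⊔ B = B ⊔ (K ⊔ A) := le_antisymm (sup_le (le_sup_left.trans le_sup_right) le_sup_left)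
      (sup_le le_sup_right (sup_le_sup_left hAB _))
    have h3 : (K ⊔ A).relIndex H ∣ (K ⊔ A).relIndex (K ⊔ B) := by
      show ((K ⊔ A).subgroupOf H).index ∣ _
      have := relIndex_dvd_index_of_normal ((K ⊔ A).subgroupOf (K ⊔ B)) (H.subgroupOf (K ⊔ B))
      rwa [relIndex_subgroupOf hH] at this
    refine h3.trans ?_
    rw [h2, relIndex_sup_right]
    exact relIndex_dvd_of_le_left B le_sup_right
  · exact hA (inf_eq_left.1 h)

omit [Finite G] in
/-- Passing a `p`-central normal `p`-subgroup with at most `p ^ 2` elements of order dividing `p`. -/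
theorem below_pcentral (hp2 : p ≠ 2) {H K : Subgroup G} [K.Normal] [H.Normal]
    (hKH : K ≤ H) (hpow : ∃ n : ℕ, K.relIndex H = p ^ n)
    (hchief : ∀ L : Subgroup G, L.Normal → K ≤ L → L ≤ H → L = K ∨ L = H) :
    ∀ (n : ℕ) (X : Type u) [Group X] [Finite X] (π : G →* X), Function.Surjective π →
      Nat.card X = n → Below p H K π.ker →
      ∀ C : Subgroup X, C.Normal → IsPGroup p C → ∀ hc : PCentral p C,
        Nat.card (omega hc) ≤ p ^ 2 → Below p H K (C.comap π) := by
  intro n
  induction n using Nat.strong_induction_on with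
  | _ n ih =>
  intro X _ _ π hπ hn hker C hCn hC hc hcard
  by_cases hbot : C = ⊥
  · rw [hbot, MonoidHom.comap_bot]; exact hker
  set Ω := (omega hc).map C.subtype with hΩ
  have hΩC : Ω ≤ C := map_subtype_le _
  have hmemΩ : ∀ x, x ∈ Ω ↔ x ∈ C ∧ x ^ p = 1 := by
    intro x
    constructor
    · rintro ⟨y, hy, rfl⟩
      exact ⟨y.2, by simpa using congrArg Subtype.val (hy : y ^ p = 1)⟩
    · rintro ⟨hx, hxp⟩
      exact ⟨⟨x, hx⟩, Subtype.ext (by simpa using hxp), rfl⟩
  have hΩn : Ω.Normal := ⟨fun x hx g => by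
    rw [hmemΩ] at hx ⊢
    exact ⟨hCn.conj_mem x hx.1 g, by rw [conj_pow, hx.2, mul_one, mul_inv_cancel]⟩⟩
  have hΩne : Ω ≠ ⊥ := by
    obtain ⟨m, hm⟩ := IsPGroup.iff_card.1 hC
    have hm0 : m ≠ 0 := fun h => hbot (eq_bot_of_card_eq _ (by rw [hm, h, pow_zero]))
    obtain ⟨z, hz⟩ := exists_prime_orderOf_dvd_card' (G := C) p (hm ▸ dvd_pow_self p hm0)
    intro h
    have : (z : X) ∈ Ω := (hmemΩ _).2 ⟨z.2, by
      rw [← SubmonoidClass.coe_pow, ← hz, pow_orderOf_eq_one]; rfl⟩
    rw [h, mem_bot] at this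
    rw [show z = 1 from Subtype.ext this, orderOf_one] at hz
    exact hp.out.one_lt.ne hz
  have hΩcard : Nat.card Ω ≤ p ^ 2 := by
    rw [hΩ, card_map_of_injective C.subtype_injective]; exact hcard
  have h1 : Below p H K (Ω.comap π) := by
    refine below_step hKH hpow hchief hker
      (by rw [← MonoidHom.comap_bot]; exact comap_mono bot_le) fun k hk => ?_
    rw [← MonoidHom.comap_bot, relIndex_comap, map_comap_eq_self_of_surjective hπ,
      relIndex_bot_left] at hk
    exact (Nat.pow_le_pow_iff_right hp.out.one_lt).1 ((Nat.le_of_dvd Nat.card_pos hk).trans hΩcard)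
  set q := QuotientGroup.mk' Ω with hq
  have hqs : Function.Surjective q := QuotientGroup.mk'_surjective Ω
  have hlt : Nat.card (X ⧸ Ω) < n := by
    rw [← hn, ← index_eq_card, ← Ω.card_mul_index]
    exact lt_mul_of_one_lt_left (Nat.pos_of_ne_zero index_ne_zero_of_finite)
      ((one_lt_card_iff_ne_bot Ω).2 hΩne)
  have hpow' : ∀ x ∈ C, x ^ p ∈ Ω → ∀ y ∈ C, ⁅x, y⁆ ∈ Ω := by
    intro x hx hxp y hy
    rw [hmemΩ] at hxp ⊢
    refine ⟨C.mul_mem (C.mul_mem (C.mul_mem hx hy) (C.inv_mem hx)) (C.inv_mem hy), ?_⟩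
    have hz := hc ⟨x ^ p, hxp.1⟩ (Subtype.ext (by simpa using hxp.2)) ⟨y, hy⟩
    have h2 := pow_mul_inv_eq_one hp2 hC hc ⟨x, hx⟩ (⟨y, hy⟩ * ⟨x, hx⟩ * ⟨y, hy⟩⁻¹) (by
      rw [conj_pow]
      refine Subtype.ext ?_
      show x ^ p = y * x ^ p * y⁻¹
      rw [show y * x ^ p = x ^ p * y from (congrArg Subtype.val hz).symm, mul_inv_cancel_right])
    rw [show ⁅x, y⁆ = x * (y * x * y⁻¹)⁻¹ by simp only [commutatorElement_def]; group]
    simpa using congrArg Subtype.val h2
  have hc' : PCentral p (C.map q) := by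
    rintro ⟨_, x, hx, rfl⟩ h ⟨_, y, hy, rfl⟩
    refine Subtype.ext ?_
    have hxp : x ^ p ∈ Ω := by
      have := congrArg Subtype.val h
      rw [SubmonoidClass.coe_pow] at this
      rw [← QuotientGroup.eq_one_iff, ← QuotientGroup.mk'_apply, map_pow]
      exact this
    show q x * q y = q y * q x
    rw [← commutatorElement_eq_one_iff_mul_comm, ← map_commutatorElement, hq,
      QuotientGroup.mk'_apply, QuotientGroup.eq_one_iff]
    exact hpow' x hx hxp y hy
  have hcard' : Nat.card (omega hc') ≤ p ^ 2 := by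
    refine le_trans ?_ hΩcard
    have hex : ∀ u : omega hc', ∃ x ∈ C, q x = ((u : C.map q) : X ⧸ Ω) := fun u => u.1.2
    choose r hrC hrq using hex
    have hrΩ : ∀ u, r u ^ p ∈ Ω := fun u => by
      rw [← QuotientGroup.eq_one_iff, ← QuotientGroup.mk'_apply, map_pow, ← hq, hrq]
      simpa using congrArg Subtype.val (u.2 : (u : C.map q) ^ p = 1)
    refine Nat.card_le_card_of_injective (fun u => (⟨r u ^ p, hrΩ u⟩ : Ω)) fun u v huv => ?_
    have huv' : r u ^ p = r v ^ p := congrArg Subtype.val huv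
    have h2 := pow_mul_inv_eq_one hp2 hC hc ⟨r u, hrC u⟩ ⟨r v, hrC v⟩ (Subtype.ext (by simpa using huv'))
    have h3 : r u * (r v)⁻¹ ∈ Ω :=
      (hmemΩ _).2 ⟨C.mul_mem (hrC u) (C.inv_mem (hrC v)), by simpa using congrArg Subtype.val h2⟩
    refine Subtype.ext (Subtype.ext ?_)
    rw [← hrq, ← hrq, ← mul_inv_eq_one, ← map_inv, ← map_mul, hq, QuotientGroup.mk'_apply,
      QuotientGroup.eq_one_iff]
    exact h3
  have h2 := ih _ hlt (X ⧸ Ω) (q.comp π) (hqs.comp hπ) rfl
    (by rw [← MonoidHom.comap_ker, hq, QuotientGroup.ker_mk']; exact h1)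
    (C.map q) (hCn.map q hqs) (hC.map q) hc' hcard'
  rwa [← comap_comap, hq, comap_map_eq, QuotientGroup.ker_mk', sup_eq_left.2 hΩC] at h2

end chief

/-- A `p`-subgroup acting on a group of order at most `p ^ 2` induces at most `p` automorphisms. -/
theorem card_le_card_inf_ker_mul {X V : Type*} [Group X] [Finite X] [Group V] [Finite V]
    (hV : IsPGroup p V) (hcard : Nat.card V ≤ p ^ 2) (φ : X →* MulAut V) {P : Subgroup X}
    (hP : IsPGroup p P) : Nat.card P ≤ Nat.card (P ⊓ φ.ker : Subgroup X) * p := by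
  set Q := P.map φ with hQ
  have hQp : IsPGroup p Q := hP.map φ
  have hcardQ : Nat.card Q ≤ p := by
    by_cases hQ1 : Q = ⊥
    · rw [hQ1, card_bot]; exact hp.out.one_le
    obtain ⟨k, hk⟩ := IsPGroup.iff_card.1 hV
    obtain ⟨j, hj⟩ := IsPGroup.iff_card.1 hQp
    have hk2 : k ≤ 2 := (Nat.pow_le_pow_iff_right hp.out.one_lt).1 (hk ▸ hcard)
    let F : Subgroup V :=
      { carrier := MulAction.fixedPoints Q V
        one_mem' := fun g => map_one (g : MulAut V)
        mul_mem' := fun {a b} ha hb g => by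
          show (g : MulAut V) (a * b) = a * b
          rw [map_mul]; exact congrArg₂ (· * ·) (ha g) (hb g)
        inv_mem' := fun {a} ha g => by
          show (g : MulAut V) a⁻¹ = a⁻¹
          rw [map_inv]; exact congrArg (·⁻¹) (ha g) }
    have hfix : Nat.card V ≡ Nat.card F [MOD p] := hQp.card_modEq_card_fixedPoints V
    have hF : F ≠ ⊤ := fun h => hQ1 ((eq_bot_iff_forall _).2 fun a ha =>
      MulEquiv.ext fun v => (h ▸ mem_top v : v ∈ F) ⟨a, ha⟩)
    obtain ⟨v, -, hv⟩ := SetLike.exists_of_lt (lt_top_iff_ne_top.2 hF)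
    obtain ⟨i, hi⟩ := IsPGroup.iff_card.1 (hV.to_subgroup F)
    have hik : i < k := by
      have := lt_of_le_of_ne (card_le_card_group F) fun h => hF (eq_top_of_card_eq F h)
      rw [hi, hk] at this
      exact (Nat.pow_lt_pow_iff_right hp.out.one_lt).1 this
    have hi1 : i ≠ 0 := by
      intro h0
      rw [hi, h0, pow_zero, hk] at hfix
      have h1 : p ^ k ≡ 0 [MOD p] := Nat.modEq_zero_iff_dvd.2 (dvd_pow_self p (by omega))
      exact hp.out.not_dvd_one (Nat.modEq_zero_iff_dvd.1 (hfix.symm.trans h1))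
    -- the stabiliser of `v` is trivial
    have hinj : Function.Injective fun g : Q => (⟨(g : MulAut V) v, fun hm => hv (by
        have := hm g⁻¹
        change ((g⁻¹ : Q) : MulAut V) ((g : MulAut V) v) = (g : MulAut V) v at this
        rw [InvMemClass.coe_inv, MulAut.inv_apply_self] at this
        rwa [this])⟩ : {w : V // w ∉ F}) := by
      intro g h e
      have e' : (g : MulAut V) v = (h : MulAut V) v := congrArg Subtype.val e
      refine Subtype.ext (MulEquiv.ext fun w => ?_)
      let E : Subgroup V := (g : MulAut V).toMonoidHom.eqLocus (h : MulAut V).toMonoidHom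
      have hFE : F < E := lt_of_le_of_ne
        (fun a ha => show (g : MulAut V) a = (h : MulAut V) a from (ha g).trans (ha h).symm)
        fun hh => hv (hh ▸ (show v ∈ E from e'))
      have hE : E = ⊤ := by
        obtain ⟨l, hl⟩ := IsPGroup.iff_card.1 (hV.to_subgroup E)
        have : Nat.card F < Nat.card E :=
          lt_of_le_of_ne (card_le_of_le hFE.le) fun hh => hFE.ne (eq_of_le_of_card_ge hFE.le hh.ge)
        rw [hi, hl] at this
        have hil := (Nat.pow_lt_pow_iff_right hp.out.one_lt).1 this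
        refine eq_top_of_le_card _ ?_
        rw [hl, hk]
        exact Nat.pow_le_pow_right hp.out.pos (by omega)
      exact (hE ▸ mem_top w : w ∈ E)
    have h2 : Nat.card Q < p ^ 2 := by
      refine lt_of_lt_of_le (lt_of_le_of_lt (Nat.card_le_card_of_injective _ hinj) ?_) hcard
      haveI := Fintype.ofFinite V
      classical
      rw [Nat.card_eq_fintype_card, Nat.card_eq_fintype_card]
      exact Fintype.card_subtype_lt (x := 1) (fun h => h (one_mem F))
    rw [hj] at h2 ⊢
    calc p ^ j ≤ p ^ 1 := Nat.pow_le_pow_right hp.out.pos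
          (by have := (Nat.pow_lt_pow_iff_right hp.out.one_lt).1 h2; omega)
      _ = p := pow_one p
  have h := (φ.comp P.subtype).ker.card_mul_index
  rw [index_ker, MonoidHom.range_comp, range_subtype, ← hQ] at h
  have hk : Nat.card (φ.comp P.subtype).ker = Nat.card (P ⊓ φ.ker : Subgroup X) := by
    rw [← MonoidHom.comap_ker]
    show Nat.card (φ.ker.subgroupOf P) = _
    rw [← inf_subgroupOf_left, Nat.card_congr (subgroupOfEquivOfLe inf_le_left).toEquiv]
  rw [← h, hk]
  exact Nat.mul_le_mul_left _ hcardQ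

theorem mem_centralizer_sup {X : Type*} [Group X] {S T : Subgroup X} {r : X} :
    r ∈ centralizer ((S ⊔ T : Subgroup X) : Set X) ↔
      r ∈ centralizer (S : Set X) ∧ r ∈ centralizer (T : Set X) := by
  constructor
  · exact fun h => ⟨centralizer_le (le_sup_left : S ≤ S ⊔ T) h,
      centralizer_le (le_sup_right : T ≤ S ⊔ T) h⟩
  · rintro ⟨h1, h2⟩ u hu
    have hle : S ⊔ T ≤ centralizer {r} := sup_le
      (fun a ha => mem_centralizer_singleton_iff.2 (h1 a ha))
      (fun a ha => mem_centralizer_singleton_iff.2 (h2 a ha))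
    exact mem_centralizer_singleton_iff.1 (hle hu)

section reduced

variable {X : Type u} [Group X] [Finite X]

/-- An element of order prime to `p` centralizing `wSub` centralizes `R`. -/
theorem commute_of_commute_wSub (hp2 : p ≠ 2) {R : Subgroup X} (hR : IsPGroup p R)
    (hr : Cfsg.PRankLE p 2 R) {y : X} (hy : y ∈ normalizer (R : Set X))
    (hcop : (orderOf y).Coprime p) (hWc : ∀ x ∈ BGRankTwo.wSub p hp2 R, Commute y x) :
    ∀ x ∈ R, Commute y x := by
  obtain ⟨A, hAn, hA, hAmax⟩ := RankTwoOdd.exists_maximal_normal (G := R) p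
  haveI := hAn
  set B := A.map R.subtype with hB
  have hBW : B ≤ BGRankTwo.wSub p hp2 R := BGRankTwo.map_le_wSub hR A hA (hr A hA.1 hA.2)
  have hin : ∀ x ∈ R, x ∈ centralizer (B : Set X) → x ^ p = 1 → x ∈ B := by
    intro x hx hxc hxp
    exact ⟨⟨x, hx⟩, RankTwoOdd.mem_of_mem_centralizer hp2 hR hA hAmax
      (fun a ha => Subtype.ext (hxc _ (mem_map_of_mem _ ha))) (Subtype.ext (by simpa using hxp)), rfl⟩
  have hyB : zpowers y ≤ centralizer (B : Set X) :=
    zpowers_le.2 fun b hb => (hWc b (hBW hb)).eq.symm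
  have hyBn : y ∈ normalizer (B : Set X) :=
    centralizer_le_normalizer _ (hyB (mem_zpowers y))
  set P := R ⊓ centralizer (B : Set X) with hP
  have hyP : ∀ x ∈ P, y * x * y⁻¹ ∈ P := fun x hx => by
    refine (mem_normalizer_iff.1 ?_ x).1 hx
    exact CoprimeAction.le_normalizer_inf (A := zpowers y) (zpowers_le.2 hy)
      ((zpowers_le.2 hyBn).trans (BGRankTwo.normalizer_le_normalizer_centralizer B))
      (mem_zpowers y)
  have hPc := OmegaCoprime.commute_of_forall_pow_eq_one hp2 hcop P (hR.to_le inf_le_left) hyP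
    (fun x hx hxp => hWc x (hBW (hin x hx.1 hx.2 hxp)))
  have hyR : zpowers y ≤ centralizer (R : Set X) := by
    refine CoprimeGen.le_centralizer_of_prod_action hR (hR.to_le (map_subtype_le A)) ?_
      (zpowers_le.2 hy) ((map_subtype_le A).trans le_normalizer) hyB ?_
    · rw [Nat.card_zpowers]
      exact (Nat.Prime.coprime_iff_not_dvd hp.out).1 hcop.symm
    · intro x hx z hz
      obtain ⟨i, rfl⟩ := mem_zpowers_iff.1 hz
      exact ((hPc x hx).zpow_left i).eq
  exact fun x hx => (hyR (mem_zpowers y) x hx).symm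

theorem relIndex_centralizer_le {R Z : Subgroup X} {w : X} (hZ : ∀ r ∈ R, r * w * r⁻¹ * w⁻¹ ∈ Z) :
    (centralizer {w}).relIndex R ≤ Nat.card Z := by
  show Nat.card (R ⧸ (centralizer {w}).subgroupOf R) ≤ _
  refine Nat.card_le_card_of_injective (fun c => (⟨_, hZ _ (Quotient.out c).2⟩ : Z)) fun a b e => ?_
  have e' : (a.out : X) * w * (a.out : X)⁻¹ = (b.out : X) * w * (b.out : X)⁻¹ :=
    mul_right_cancel (congrArg Subtype.val e)
  rw [← a.out_eq, ← b.out_eq]
  refine QuotientGroup.eq.2 ?_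
  rw [mem_subgroupOf, mem_centralizer_singleton_iff]
  show (a.out : X)⁻¹ * b.out * w = w * ((a.out : X)⁻¹ * b.out)
  calc (a.out : X)⁻¹ * b.out * w
      = (a.out : X)⁻¹ * ((b.out : X) * w * (b.out : X)⁻¹) * b.out := by group
    _ = w * ((a.out : X)⁻¹ * b.out) := by rw [← e']; group

/-- The series inside `O_p(X)` when `O_{p'}` is trivial. -/
theorem exists_series (hp2 : p ≠ 2) {R : Subgroup X} [R.Normal] (hR : IsPGroup p R)
    (hr : Cfsg.PRankLE p 2 R) (hcR : centralizer (R : Set X) ≤ R)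
    (hmax : ∀ N : Subgroup X, N.Normal → IsPGroup p N → N ≤ R) :
    ∃ C : Subgroup X, C.Normal ∧ C ≤ R ∧ C.relIndex R ≤ p ^ 2 ∧
      (∃ hc : PCentral p C, Nat.card (omega hc) ≤ p ^ 2) ∧
      ∀ n : ℕ, p ^ n ∣ R.index → n ≤ 2 := by
  obtain ⟨A, hAn, hA, hAmax⟩ := RankTwoOdd.exists_maximal_normal (G := R) p
  haveI := hAn
  have hA2 : Nat.card A ≤ p ^ 2 := hr A hA.1 hA.2
  set W := BGRankTwo.wSub p hp2 R with hW
  set Z := W ⊓ centralizer (R : Set X) with hZ
  have hWR : W ≤ R := BGRankTwo.wSub_le R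
  have hWn : W.Normal := normalizer_eq_top_iff.1 (top_unique (by
    rw [← normalizer_eq_top R]; exact BGRankTwo.normalizer_le_wSub R))
  have hZn : Z.Normal := inferInstanceAs (W ⊓ centralizer (R : Set X)).Normal
  have hWp : IsPGroup p W := hR.to_le hWR
  have hZR : Z ≤ R := inf_le_left.trans hWR
  have hBW : A.map R.subtype ≤ W := BGRankTwo.map_le_wSub hR A hA hA2
  have hcomm : ∀ r ∈ R, ∀ w ∈ W, r * w * r⁻¹ * w⁻¹ ∈ Z := by
    intro r hr' w hw
    refine ⟨W.mul_mem (hWn.conj_mem w hw r) (W.inv_mem hw), ?_⟩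
    have h := (hw.2.2 r hr').2
    rw [show r * w * r⁻¹ * w⁻¹ = (w * r * w⁻¹ * r⁻¹)⁻¹ by group]
    exact Subgroup.inv_mem _ h
  -- bounds
  have hab : ∀ S : Subgroup X, S ≤ W → (∀ a ∈ S, ∀ b ∈ S, a * b = b * a) → Nat.card S ≤ p ^ 2 := by
    intro S hS hSc
    rw [← Nat.card_congr (subgroupOfEquivOfLe (hS.trans hWR)).toEquiv]
    exact hr _ ⟨⟨fun a b => Subtype.ext (Subtype.ext (hSc _ a.2 _ b.2))⟩⟩
      fun a ha => Subtype.ext (by simpa using (hS ha : (a : X) ∈ W).2.1)
  have hZcard : Nat.card Z ≤ p ^ 2 := hab Z inf_le_left fun a ha b hb => hb.2 _ (hZR ha)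
  have hW3 : Nat.card W ≤ p ^ 3 := by
    have h1 : W.subgroupOf R ⊓ centralizer (A : Set R) ≤ A := fun x hx =>
      RankTwoOdd.mem_of_mem_centralizer hp2 hR hA hAmax hx.2
        (Subtype.ext (by simpa using (hx.1 : (x : X) ∈ W).2.1))
    haveI : (centralizer (A : Set R)).Normal := normal_centralizer
    have h2 : (centralizer (A : Set R)).relIndex (W.subgroupOf R) ≤ p :=
      (Nat.le_of_dvd (Nat.pos_of_ne_zero index_ne_zero_of_finite)
        (relIndex_dvd_index_of_normal _ _)).trans (RankTwoOdd.index_centralizer_le hR A hA hA2)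
    have h3 := ((centralizer (A : Set R)).subgroupOf (W.subgroupOf R)).card_mul_index
    rw [← inf_subgroupOf_left (K := W.subgroupOf R) (H := centralizer (A : Set R)),
      Nat.card_congr (subgroupOfEquivOfLe inf_le_left).toEquiv, inf_subgroupOf_left] at h3
    rw [← Nat.card_congr (subgroupOfEquivOfLe hWR).toEquiv, ← h3, pow_succ]
    exact Nat.mul_le_mul ((card_le_of_le h1).trans hA2) h2
  obtain ⟨a, ha⟩ := IsPGroup.iff_card.1 (hR.to_le hZR)
  obtain ⟨b, hb⟩ := IsPGroup.iff_card.1 hWp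
  have ha1 : W ≠ ⊥ → 1 ≤ a := by
    intro hW0
    by_contra h0
    have hZbot : Z = ⊥ := eq_bot_of_card_eq _ (by rw [ha, show a = 0 by omega, pow_zero])
    haveI : Nontrivial R := (nontrivial_iff_ne_bot R).2 fun h => hW0 (eq_bot_iff.2 (h ▸ hWR))
    obtain ⟨m, hm⟩ := IsPGroup.iff_card.1 (hR.to_subgroup (center R))
    have hm0 : m ≠ 0 := fun h => by
      haveI := hR.center_nontrivial
      have := Finite.one_lt_card (α := center R)
      rw [hm, h, pow_zero] at this
      exact lt_irrefl 1 this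
    obtain ⟨z, hz⟩ := exists_prime_orderOf_dvd_card' (G := center R) p (hm ▸ dvd_pow_self p hm0)
    have hzp : ((z : R) : X) ^ p = 1 := by
      rw [← SubgroupClass.coe_pow, ← SubgroupClass.coe_pow, ← hz, pow_orderOf_eq_one]; rfl
    have hzZ : ((z : R) : X) ∈ Z := by
      have hcomm : ∀ r ∈ R, r * ((z : R) : X) = ((z : R) : X) * r := fun r hr =>
        congrArg Subtype.val (mem_center_iff.1 z.2 ⟨r, hr⟩)
      refine ⟨⟨(z : R).2, hzp, fun r hr => ?_⟩, hcomm⟩
      rw [← hcomm r hr, mul_inv_cancel_right, mul_inv_cancel]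
      exact one_mem _
    rw [hZbot, mem_bot] at hzZ
    have hz1 : z = 1 := Subtype.ext (Subtype.ext hzZ)
    rw [hz1, orderOf_one] at hz
    exact hp.out.one_lt.ne hz
  have hb3 : b ≤ 3 := (Nat.pow_le_pow_iff_right hp.out.one_lt).1 (hb ▸ hW3)
  have ha2 : a ≤ 2 := (Nat.pow_le_pow_iff_right hp.out.one_lt).1 (ha ▸ hZcard)
  have hab2 : b ≤ a + 2 := by
    rcases eq_or_ne W ⊥ with h | h
    · rw [h, card_bot] at hb
      have : b = 0 := by simpa [hp.out.ne_one] using hb.symm
      omega
    · have := ha1 h; omega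
  refine ⟨R ⊓ centralizer (W : Set X), inferInstance, inf_le_left, ?_, ?_, ?_⟩
  · -- index of the centralizer of `W`
    have hstep : ∀ S T : Subgroup X, S < T → T ≤ W → Nat.card S * p ≤ Nat.card T := by
      intro S T hST hT
      obtain ⟨i, hi⟩ := IsPGroup.iff_card.1 (hWp.to_le (hST.le.trans hT))
      obtain ⟨j, hj⟩ := IsPGroup.iff_card.1 (hWp.to_le hT)
      have hlt : Nat.card S < Nat.card T :=
        lt_of_le_of_ne (card_le_of_le hST.le) fun h => hST.ne (eq_of_le_of_card_ge hST.le h.ge)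
      rw [hi, hj] at hlt ⊢
      rw [← pow_succ]
      exact Nat.pow_le_pow_right hp.out.pos ((Nat.pow_lt_pow_iff_right hp.out.one_lt).1 hlt)
    have hred : ∀ S : Subgroup X, R ⊓ centralizer (S : Set X) ≤ centralizer (W : Set X) →
        (R ⊓ centralizer (W : Set X)).relIndex R ≤ (centralizer (S : Set X)).relIndex R := by
      intro S hS
      rw [← inf_relIndex_right (centralizer (S : Set X)), inf_comm (centralizer (S : Set X))]
      exact Nat.le_of_dvd (Nat.pos_of_ne_zero index_ne_zero_of_finite)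
        (relIndex_dvd_of_le_left R (le_inf inf_le_left hS))
    have hZc : ∀ S : Subgroup X, R ⊓ centralizer (S : Set X) ≤ centralizer (Z : Set X) :=
      fun S r hr' z hz => ((hz.2 r hr'.1)).symm
    by_cases h0 : W ≤ Z
    · have : R ⊓ centralizer (W : Set X) = R :=
        inf_eq_left.2 fun r hr' w hw => ((h0 hw).2 r hr').symm
      rw [this, relIndex_self]
      exact Nat.one_le_pow _ _ hp.out.pos
    obtain ⟨w₁, hw₁, hw₁Z⟩ := SetLike.not_le_iff_exists.1 h0
    have hW0 : W ≠ ⊥ := fun h => h0 (h ▸ bot_le)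
    set S₁ := Z ⊔ zpowers w₁ with hS₁
    have hS₁W : S₁ ≤ W := sup_le inf_le_left (zpowers_le.2 hw₁)
    have hlt₁ : Z < S₁ :=
      lt_of_le_of_ne le_sup_left fun h => hw₁Z (h ▸ mem_sup_right (mem_zpowers w₁))
    have hc₁ := relIndex_centralizer_le (R := R) (w := w₁) fun r hr' => hcomm r hr' w₁ hw₁
    have hgen : ∀ r ∈ R, r * w₁ = w₁ * r → r ∈ centralizer (S₁ : Set X) := by
      intro r hr' h
      rw [hS₁, mem_centralizer_sup]
      exact ⟨fun z hz => (hz.2 r hr').symm, fun u hu => by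
        obtain ⟨i, rfl⟩ := hu
        exact ((show Commute w₁ r from h.symm).zpow_left i).eq⟩
    by_cases h1 : W ≤ S₁
    · refine le_trans ?_ (hc₁.trans hZcard)
      rw [← inf_relIndex_right (centralizer {w₁}), inf_comm (centralizer {w₁})]
      refine Nat.le_of_dvd (Nat.pos_of_ne_zero index_ne_zero_of_finite)
        (relIndex_dvd_of_le_left R (le_inf inf_le_left fun r hr' => ?_))
      exact centralizer_le h1 (hgen r hr'.1 (mem_centralizer_singleton_iff.1 hr'.2))
    obtain ⟨w₂, hw₂, hw₂S⟩ := SetLike.not_le_iff_exists.1 h1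
    set S₂ := S₁ ⊔ zpowers w₂ with hS₂
    have hS₂W : S₂ ≤ W := sup_le hS₁W (zpowers_le.2 hw₂)
    have hlt₂ : S₁ < S₂ :=
      lt_of_le_of_ne le_sup_left fun h => hw₂S (h ▸ mem_sup_right (mem_zpowers w₂))
    have hbig : p ^ (a + 2) ≤ Nat.card S₂ := by
      rw [pow_add, ← ha, sq, ← mul_assoc]
      exact (Nat.mul_le_mul_right p (hstep _ _ hlt₁ hS₁W)).trans (hstep _ _ hlt₂ hS₂W)
    have haeq : a = 1 := by
      have := (Nat.pow_le_pow_iff_right hp.out.one_lt).1
        (hb ▸ hbig.trans (card_le_of_le hS₂W))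
      have := ha1 hW0
      omega
    have hS₂eq : S₂ = W := eq_of_le_of_card_ge hS₂W (by
      rw [hb]; exact le_trans (Nat.pow_le_pow_right hp.out.pos (by omega)) hbig)
    have hc₂ := relIndex_centralizer_le (R := R) (w := w₂) fun r hr' => hcomm r hr' w₂ hw₂
    calc (R ⊓ centralizer (W : Set X)).relIndex R
        ≤ (centralizer {w₁} ⊓ centralizer {w₂}).relIndex R := by
          rw [← inf_relIndex_right (centralizer {w₁} ⊓ centralizer {w₂}),
            inf_comm (centralizer {w₁} ⊓ centralizer {w₂})]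
          refine Nat.le_of_dvd (Nat.pos_of_ne_zero index_ne_zero_of_finite)
            (relIndex_dvd_of_le_left R (le_inf inf_le_left fun r hr' => ?_))
          rw [← hS₂eq, hS₂, mem_centralizer_sup]
          refine ⟨hgen r hr'.1 (mem_centralizer_singleton_iff.1 hr'.2.1), fun u hu => ?_⟩
          obtain ⟨i, rfl⟩ := hu
          exact ((show Commute w₂ r from
            (mem_centralizer_singleton_iff.1 hr'.2.2).symm).zpow_left i).eq
      _ ≤ (centralizer {w₁}).relIndex R * (centralizer {w₂}).relIndex R := relIndex_inf_le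
      _ ≤ p ^ 2 := by
          rw [sq]
          have hZp : Nat.card Z = p := by rw [ha, haeq, pow_one]
          exact Nat.mul_le_mul (hZp ▸ hc₁) (hZp ▸ hc₂)
  · -- the centralizer of `W` is `p`-central
    set C := R ⊓ centralizer (W : Set X) with hC
    have hin : ∀ x : C, x ^ p = 1 → (x : X) ∈ W := fun x hx => by
      refine hBW ⟨⟨x, x.2.1⟩, RankTwoOdd.mem_of_mem_centralizer hp2 hR hA hAmax
        (fun a ha => Subtype.ext (x.2.2 _ (hBW (mem_map_of_mem _ ha))))
        (Subtype.ext (by simpa using congrArg Subtype.val hx)), rfl⟩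
    have hc : PCentral p C := fun x hx y => Subtype.ext (y.2.2 _ (hin x hx))
    refine ⟨hc, ?_⟩
    rw [← card_map_of_injective C.subtype_injective]
    refine hab _ ?_ ?_
    · rintro _ ⟨x, hx, rfl⟩
      exact hin x hx
    · rintro _ ⟨x, hx, rfl⟩ _ ⟨y, -, rfl⟩
      exact congrArg Subtype.val (hc x hx y)
  · -- the index of `R`
    intro n hn
    set q := QuotientGroup.mk' Z with hq
    haveI hWq : (W.map q).Normal := hWn.map q (QuotientGroup.mk'_surjective Z)
    let φ₁ : X →* MulAut Z := MulAut.conjNormal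
    let φ₂ : X →* MulAut (W.map q) := MulAut.conjNormal.comp q
    have hker : φ₁.ker ⊓ φ₂.ker ≤ R := by
      refine hmax _ inferInstance ?_
      rintro ⟨y, hy1, hy2⟩
      obtain ⟨i, hi⟩ := GlaubermanStable.exists_pow_coprime (p := p) y
      refine ⟨i, Subtype.ext ?_⟩
      have hy1' := pow_mem hy1 (p ^ i)
      have hy2' := pow_mem hy2 (p ^ i)
      set x := y ^ p ^ i with hx
      have hxZ : ∀ z ∈ Z, x * z * x⁻¹ = z := fun z hz => by
        have := congrArg Subtype.val (MulEquiv.congr_fun (MonoidHom.mem_ker.1 hy1') ⟨z, hz⟩)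
        simpa [φ₁, MulAut.conjNormal_apply] using this
      have hxW : ∀ w ∈ W, Commute x w := by
        refine OmegaCoprime.commute_of_fixed_comms hWp (fun w hw => hWn.conj_mem w hw x) hi
          fun w hw => mul_inv_eq_iff_eq_mul.1 (hxZ _ ?_)
        have := congrArg Subtype.val
          (MulEquiv.congr_fun (MonoidHom.mem_ker.1 hy2') ⟨q w, mem_map_of_mem q hw⟩)
        have e : q (x * w * x⁻¹) = q w := by
          rw [map_mul, map_mul, map_inv]
          simpa [φ₂, MulAut.conjNormal_apply] using this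
        exact QuotientGroup.eq.1 e.symm
      have hxR := commute_of_commute_wSub hp2 hR hr
        (by rw [normalizer_eq_top R]; exact mem_top x) hi hxW
      have hxmem : x ∈ R := hcR fun z hz => (hxR z hz).eq.symm
      obtain ⟨j, hj⟩ := hR ⟨x, hxmem⟩
      have h1 : x ^ p ^ j = 1 := by simpa using congrArg Subtype.val hj
      simpa [← hx] using orderOf_eq_one_iff.1 (Nat.eq_one_of_dvd_coprimes (hi.pow_right j) dvd_rfl
        (orderOf_dvd_of_pow_eq_one h1))
    have hq2 : Nat.card (W.map q) ≤ p ^ 2 := by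
      have h := (q.comp W.subtype).ker.card_mul_index
      rw [index_ker, MonoidHom.range_comp, range_subtype, ← MonoidHom.comap_ker, hq,
        QuotientGroup.ker_mk'] at h
      rw [show comap W.subtype Z = Z.subgroupOf W from rfl,
        Nat.card_congr (subgroupOfEquivOfLe (inf_le_left : Z ≤ W)).toEquiv, ← hq, ha, hb] at h
      obtain ⟨c, hc⟩ := IsPGroup.iff_card.1 (hWp.map q)
      rw [hc] at h ⊢
      rw [← pow_add] at h
      have := Nat.pow_right_injective hp.out.two_le h
      exact Nat.pow_le_pow_right hp.out.pos (by omega)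
    obtain ⟨P⟩ : Nonempty (Sylow p X) := inferInstance
    have hP1 := card_le_card_inf_ker_mul (hR.to_le hZR) hZcard φ₁ P.isPGroup'
    have hP2 := card_le_card_inf_ker_mul (hWp.map q) hq2 φ₂
      (P.isPGroup'.to_le (inf_le_left : (P : Subgroup X) ⊓ φ₁.ker ≤ P))
    have hPR : Nat.card P ≤ Nat.card R * p ^ 2 := by
      refine hP1.trans ?_
      rw [sq, ← mul_assoc]
      refine Nat.mul_le_mul_right p (hP2.trans (Nat.mul_le_mul_right p (card_le_of_le ?_)))
      exact (inf_le_inf_right _ inf_le_right).trans hker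
    obtain ⟨m, hm⟩ := IsPGroup.iff_card.1 hR
    have hd : p ^ (m + n) ∣ Nat.card X := by
      rw [← R.card_mul_index, pow_add, hm]; exact Nat.mul_dvd_mul_left _ hn
    have h3 : p ^ (m + n) ≤ Nat.card P := Nat.le_of_dvd Nat.card_pos (P.pow_dvd_card_of_pow_dvd_card hd)
    rw [hm, ← pow_add] at hPR
    have := (Nat.pow_le_pow_iff_right hp.out.one_lt).1 (h3.trans hPR)
    omega

end reduced

/-- In a `p`-solvable group of `p`-rank at most two a `p`-chief factor has order dividing `p ^ 2`. -/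
theorem relIndex_dvd_sq {G : Type u} [Group G] [Finite G] (hp2 : p ≠ 2) (hG : Cfsg.IsPSolvable p G)
    (hr : Cfsg.PRankLE p 2 G) {H K : Subgroup G} [H.Normal] [K.Normal] (hKH : K ≤ H)
    (hpow : ∃ n : ℕ, K.relIndex H = p ^ n)
    (hchief : ∀ L : Subgroup G, L.Normal → K ≤ L → L ≤ H → L = K ∨ L = H) :
    K.relIndex H ∣ p ^ 2 := by
  haveI := HallCore.pPrimeCore_normal p G
  set X := G ⧸ Cfsg.pPrimeCore p G
  set π := QuotientGroup.mk' (Cfsg.pPrimeCore p G) with hπ
  have hπs : Function.Surjective π := QuotientGroup.mk'_surjective _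
  haveI := HallCore.pCore_normal p X
  have hR := HallCore.isPGroup_pCore p X
  obtain ⟨C, hCn, hCR, hCi, ⟨hc, hcard⟩, hidx⟩ := exists_series hp2 hR
    (BGRankTwo.pRankLE_pCore_quotient hr)
    (PConstrained.centralizer_pCore_quotient_le (HallSolvable.isPConstrained_of_isPSolvable hG))
    (fun N hN hNp => by haveI := hN; exact HallCore.le_pCore hNp)
  have h0 : Below p H K (⊥ : Subgroup G) := fun h => by
    rw [sup_bot_eq] at h
    rw [relIndex_eq_one.2 h]; exact one_dvd _
  have h1 : Below p H K π.ker := by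
    refine below_step hKH hpow hchief h0 bot_le fun n hn => ?_
    rw [relIndex_bot_left, hπ, QuotientGroup.ker_mk'] at hn
    by_contra hn2
    exact (Nat.Prime.coprime_iff_not_dvd hp.out).1
      (HallCore.coprime_card_pPrimeCore p G).symm ((dvd_pow_self p (by omega)).trans hn)
  have h2 := below_pcentral hp2 hKH hpow hchief _ X π hπs rfl h1 C hCn (hR.to_le hCR) hc hcard
  haveI : (C.comap π).Normal := hCn.comap π
  have h3 : Below p H K ((Cfsg.pCore p X).comap π) := by
    refine below_step hKH hpow hchief h2 (comap_mono hCR) fun n hn => ?_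
    rw [relIndex_comap, map_comap_eq_self_of_surjective hπs] at hn
    exact (Nat.pow_le_pow_iff_right hp.out.one_lt).1
      ((Nat.le_of_dvd (Nat.pos_of_ne_zero index_ne_zero_of_finite) hn).trans hCi)
  have h4 : Below p H K ⊤ := by
    refine below_step hKH hpow hchief h3 le_top fun n hn => ?_
    rw [relIndex_top_right, index_comap_of_surjective _ hπs] at hn
    exact hidx n hn
  exact h4 (le_sup_of_le_right le_top)

end Cfsg.Agent.RankTwoChief
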