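import Mathlib
import Cfsg.Prelude.Def_LieRecognition

/-!
The group of pairs `(a, b)` over a field of characteristic two with `b + σ b = a * σ a`, for an
involutive automorphism `σ`: the Sylow 2-subgroup of a three dimensional unitary group.
-/

set_option autoImplicit false
set_option linter.unusedSectionVars false

namespace Cfsg.Agent.SU3TwoHeis

open scoped commutatorElement

variable {K : Type*} [Field K] [CharP K 2] {σ : K →+* K} [Fact (Function.Involutive σ)]

theorem invol (x : K) : σ (σ x) = x := (Fact.out : Function.Involutive σ) x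

theorem two_zero : (2 : K) = 0 := CharP.ofNat_eq_zero' K 2 2 dvd_rfl

/-- The fixed field as an additive subgroup. -/
def fixd (σ : K →+* K) : AddSubgroup K where
  carrier := {c | σ c = c}
  zero_mem' := map_zero σ
  add_mem' {a b} ha hb := by simp_all
  neg_mem' {a} ha := by simp_all

omit [CharP K 2] [Fact (Function.Involutive σ)] in
theorem mem_fixd {c : K} : c ∈ fixd σ ↔ σ c = c := Iff.rfl

theorem trace_mem (x : K) : x + σ x ∈ fixd σ := by
  rw [mem_fixd, map_add, invol, add_comm]

theorem norm_mem (x : K) : x * σ x ∈ fixd σ := by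
  rw [mem_fixd, map_mul, invol, mul_comm]

/-- The pairs. -/
def HU (σ : K →+* K) : Type _ := {x : K × K // x.2 + σ x.2 = x.1 * σ x.1}

/-- First coordinate. -/
abbrev fA (x : HU σ) : K := x.1.1

/-- Second coordinate. -/
abbrev fB (x : HU σ) : K := x.1.2

theorem rel (x : HU σ) : fB x + σ (fB x) = fA x * σ (fA x) := x.2

theorem ext' {x y : HU σ} (h1 : fA x = fA y) (h2 : fB x = fB y) : x = y :=
  Subtype.ext (Prod.ext h1 h2)

instance instGroupHU : Group (HU σ) where
  mul x y := ⟨(fA x + fA y, fB x + fB y + fA x * σ (fA y)), by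
    show fB x + fB y + fA x * σ (fA y) + σ (fB x + fB y + fA x * σ (fA y)) =
      (fA x + fA y) * σ (fA x + fA y)
    rw [map_add, map_add, map_mul, invol, map_add]
    linear_combination rel x + rel y⟩
  one := ⟨(0, 0), by simp⟩
  inv x := ⟨(fA x, σ (fB x)), by
    show σ (fB x) + σ (σ (fB x)) = fA x * σ (fA x)
    rw [invol, add_comm, rel]⟩
  mul_assoc x y z := by
    refine Subtype.ext (Prod.ext ?_ ?_)
    · exact add_assoc (fA x) (fA y) (fA z)
    · show fB x + fB y + fA x * σ (fA y) + fB z + (fA x + fA y) * σ (fA z) =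
        fB x + (fB y + fB z + fA y * σ (fA z)) + fA x * σ (fA y + fA z)
      rw [map_add]; ring
  one_mul x := by
    refine Subtype.ext (Prod.ext (zero_add (fA x)) ?_)
    show 0 + fB x + 0 * σ (fA x) = fB x
    ring
  mul_one x := by
    refine Subtype.ext (Prod.ext (add_zero (fA x)) ?_)
    show fB x + 0 + fA x * σ 0 = fB x
    rw [map_zero]; ring
  inv_mul_cancel x := by
    refine Subtype.ext (Prod.ext ?_ ?_)
    · show fA x + fA x = 0
      exact CharTwo.add_self_eq_zero _
    · show σ (fB x) + fB x + fA x * σ (fA x) = 0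
      linear_combination rel x + fA x * σ (fA x) * two_zero (K := K)

@[simp] theorem fA_mul (x y : HU σ) : fA (x * y) = fA x + fA y := rfl
@[simp] theorem fB_mul (x y : HU σ) : fB (x * y) = fB x + fB y + fA x * σ (fA y) := rfl
@[simp] theorem fA_one : fA (1 : HU σ) = 0 := rfl
@[simp] theorem fB_one : fB (1 : HU σ) = 0 := rfl
@[simp] theorem fA_inv (x : HU σ) : fA x⁻¹ = fA x := rfl

/-- Central elements. -/
def zc (c : K) (hc : σ c = c) : HU σ := ⟨(0, c), by simp [hc, CharTwo.add_self_eq_zero]⟩

@[simp] theorem fA_zc (c : K) (hc : σ c = c) : fA (zc c hc) = 0 := rfl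
@[simp] theorem fB_zc (c : K) (hc : σ c = c) : fB (zc c hc) = c := rfl

theorem fB_fixed {x : HU σ} (h : fA x = 0) : σ (fB x) = fB x := by
  have := rel x
  rw [h, zero_mul] at this
  exact (CharTwo.add_eq_zero.1 this).symm

theorem sq_fA (x : HU σ) : fA (x * x) = 0 := by simp [CharTwo.add_self_eq_zero]

theorem sq_fB (x : HU σ) : fB (x * x) = fA x * σ (fA x) := by
  simp [CharTwo.add_self_eq_zero]

theorem sq_eq_one_iff (x : HU σ) : x * x = 1 ↔ fA x = 0 := by
  constructor
  · intro h
    have := sq_fB x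
    rw [h, fB_one, eq_comm, mul_eq_zero] at this
    rcases this with h | h
    · exact h
    · exact σ.injective (h.trans (map_zero σ).symm)
  · intro h
    exact ext' (sq_fA x) (by rw [sq_fB, h, zero_mul, fB_one])

theorem commutator_fA (x y : HU σ) : fA ⁅x, y⁆ = 0 := by
  simp only [commutatorElement_def, fA_mul, fA_inv]
  linear_combination (fA x + fA y) * two_zero (K := K)

theorem commute_iff (x y : HU σ) : Commute x y ↔ fA x * σ (fA y) = fA y * σ (fA x) := by
  constructor
  · intro h
    have := congrArg fB h.eq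
    simp only [fB_mul] at this
    linear_combination this
  · intro h
    exact ext' (add_comm _ _) (by simp only [fB_mul]; rw [h]; ring)

theorem commutator_fB (x y : HU σ) : fB ⁅x, y⁆ = fA x * σ (fA y) + fA y * σ (fA x) := by
  have h : ⁅x, y⁆ * (y * x) = x * y := by rw [commutatorElement_def]; group
  have := congrArg fB h
  simp only [fB_mul, commutator_fA, zero_mul, add_zero] at this
  linear_combination this + fA y * σ (fA x) * (-1 : K) * two_zero (K := K)

variable (hne : ∃ c : K, σ c ≠ c)
include hne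

theorem exists_theta : ∃ θ : K, θ + σ θ = 1 := by
  obtain ⟨c, hc⟩ := hne
  have h : c + σ c ≠ 0 := fun h => hc (CharTwo.add_eq_zero.1 h).symm
  refine ⟨c / (c + σ c), ?_⟩
  rw [map_div₀, mem_fixd.1 (trace_mem c), ← add_div, div_self h]

theorem exists_fA (a : K) : ∃ x : HU σ, fA x = a := by
  obtain ⟨θ, hθ⟩ := exists_theta hne
  refine ⟨⟨(a, a * σ a * θ), ?_⟩, rfl⟩
  show a * σ a * θ + σ (a * σ a * θ) = a * σ a
  rw [map_mul, mem_fixd.1 (norm_mem a), ← mul_add, hθ, mul_one]

theorem exists_trace_eq {c : K} (hc : σ c = c) : ∃ x, x + σ x = c := by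
  obtain ⟨θ, hθ⟩ := exists_theta hne
  exact ⟨c * θ, by rw [map_mul, hc, ← mul_add, hθ, mul_one]⟩

theorem mem_center_iff (x : HU σ) : x ∈ Subgroup.center (HU σ) ↔ fA x = 0 := by
  constructor
  · intro h
    obtain ⟨c, hc⟩ := hne
    obtain ⟨y, hy⟩ := exists_fA ⟨c, hc⟩ 1
    obtain ⟨w, hw⟩ := exists_fA ⟨c, hc⟩ c
    have h1 := (commute_iff x y).1 (Subgroup.mem_center_iff.1 h y).symm
    have h2 := (commute_iff x w).1 (Subgroup.mem_center_iff.1 h w).symm
    rw [hy, map_one, mul_one, one_mul] at h1
    rw [hw, ← h1] at h2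
    by_contra h0
    exact hc (mul_left_cancel₀ h0 (h2.trans (mul_comm _ _)))
  · intro h
    exact Subgroup.mem_center_iff.2 fun y => ((commute_iff y x).2 (by simp [h])).eq

theorem commutator_eq_center : commutator (HU σ) = Subgroup.center (HU σ) := by
  refine le_antisymm ?_ ?_
  · rw [commutator_def, Subgroup.commutator_le]
    intro x _ y _
    rw [mem_center_iff hne, commutator_fA]
  · intro x hx
    rw [mem_center_iff hne] at hx
    obtain ⟨a, ha⟩ := exists_trace_eq hne (fB_fixed hx)
    obtain ⟨u, hu⟩ := exists_fA hne a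
    obtain ⟨w, hw⟩ := exists_fA hne 1
    have e : x = ⁅u, w⁆ := by
      refine ext' (by rw [hx, commutator_fA]) ?_
      rw [commutator_fB, hu, hw, map_one, one_mul, mul_one, ha]
    rw [e]
    exact Subgroup.commutator_mem_commutator (Subgroup.mem_top u) (Subgroup.mem_top w)

/-- The centre is the fixed field. -/
noncomputable def centerEquiv : Subgroup.center (HU σ) ≃ fixd σ where
  toFun x := ⟨fB x.1, fB_fixed ((mem_center_iff hne x.1).1 x.2)⟩
  invFun c := ⟨zc c.1 c.2, (mem_center_iff hne _).2 rfl⟩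
  left_inv x := Subtype.ext (ext' ((mem_center_iff hne x.1).1 x.2).symm rfl)
  right_inv c := rfl

theorem card_eq : Nat.card (HU σ) = Nat.card K * Nat.card (fixd σ) := by
  obtain ⟨θ, hθ⟩ := exists_theta hne
  rw [← Nat.card_prod]
  refine Nat.card_congr
    { toFun := fun x => (fA x, ⟨fB x + fA x * σ (fA x) * θ, ?_⟩)
      invFun := fun p => ⟨(p.1, p.2.1 + p.1 * σ p.1 * θ), ?_⟩
      left_inv := fun x => ext' rfl ?_
      right_inv := fun p => Prod.ext rfl (Subtype.ext ?_) }
  · rw [mem_fixd, map_add, map_mul, mem_fixd.1 (norm_mem _)]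
    linear_combination rel x - (fB x + fA x * σ (fA x) * θ) * two_zero (K := K) + fA x * σ (fA x) * hθ + fA x * σ (fA x) * two_zero (K := K)
  · show p.2.1 + p.1 * σ p.1 * θ + σ (p.2.1 + p.1 * σ p.1 * θ) = p.1 * σ p.1
    rw [map_add, map_mul, mem_fixd.1 (norm_mem _), mem_fixd.1 p.2.2]
    linear_combination (p.2.1 : K) * two_zero (K := K) + p.1 * σ p.1 * hθ
  · show fB x + fA x * σ (fA x) * θ + fA x * σ (fA x) * θ = fB x
    linear_combination fA x * σ (fA x) * θ * two_zero (K := K)
  · show p.2.1 + p.1 * σ p.1 * θ + p.1 * σ p.1 * θ = p.2.1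
    linear_combination p.1 * σ p.1 * θ * two_zero (K := K)

theorem card_fixd_sq [Finite K] : Nat.card (fixd σ) ^ 2 = Nat.card K := by
  obtain ⟨θ, hθ⟩ := exists_theta hne
  rw [sq, ← Nat.card_prod]
  refine Nat.card_congr
    { toFun := fun p => p.1.1 + p.2.1 * θ
      invFun := fun a => (⟨a + (a + σ a) * θ, ?_⟩, ⟨a + σ a, trace_mem a⟩)
      left_inv := fun p => ?_
      right_inv := fun a => ?_ }
  · rw [mem_fixd, map_add, map_mul, mem_fixd.1 (trace_mem a)]
    linear_combination (a + σ a) * hθ + ((a + σ a) - (a + (a + σ a) * θ)) * two_zero (K := K)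
  · have e : p.1.1 + p.2.1 * θ + σ (p.1.1 + p.2.1 * θ) = p.2.1 := by
      rw [map_add, map_mul, mem_fixd.1 p.1.2, mem_fixd.1 p.2.2]
      linear_combination (p.1.1 : K) * two_zero (K := K) + p.2.1 * hθ
    refine Prod.ext (Subtype.ext ?_) (Subtype.ext e)
    show p.1.1 + p.2.1 * θ + (p.1.1 + p.2.1 * θ + σ (p.1.1 + p.2.1 * θ)) * θ = p.1.1
    rw [e]
    linear_combination p.2.1 * θ * two_zero (K := K)
  · show a + (a + σ a) * θ + (a + σ a) * θ = a
    linear_combination (a + σ a) * θ * two_zero (K := K)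

omit hne in
instance finite_HU [Finite K] : Finite (HU σ) := Subtype.finite

theorem isPGroup_two [Finite K] : IsPGroup 2 (HU σ) := by
  intro x
  refine ⟨2, ?_⟩
  rw [show (2 : ℕ) ^ 2 = 2 * 2 by rfl, pow_mul, sq, sq]
  exact (sq_eq_one_iff (x * x)).2 (sq_fA x)

/-- Dilation by an element fixed by `σ`. -/
def dilF (c : K) (hc : σ c = c) : HU σ → HU σ := fun x =>
  ⟨(c * fA x, c * c * fB x), by
    show c * c * fB x + σ (c * c * fB x) = c * fA x * σ (c * fA x)
    rw [map_mul, map_mul, map_mul, hc]
    linear_combination (c * c) * rel x⟩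

omit hne in
theorem dilF_mul (c : K) (hc : σ c = c) (x y : HU σ) :
    dilF c hc (x * y) = dilF c hc x * dilF c hc y := by
  refine ext' ?_ ?_
  · show c * (fA x + fA y) = c * fA x + c * fA y
    ring
  · show c * c * (fB x + fB y + fA x * σ (fA y)) =
      c * c * fB x + c * c * fB y + c * fA x * σ (c * fA y)
    rw [map_mul, hc]; ring

omit hne in
/-- The units of the fixed field. -/
def fixUnits (σ : K →+* K) : Subgroup Kˣ where
  carrier := {u | σ (u : K) = u}
  one_mem' := by simp
  mul_mem' {a b} ha hb := by simp_all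
  inv_mem' {a} ha := by simp_all

omit hne in
/-- Dilations as automorphisms. -/
def dilHom : fixUnits σ →* MulAut (HU σ) :=
  MonoidHom.mk'
    (fun u =>
      { toFun := dilF (u.1 : K) u.2
        invFun := dilF ((u⁻¹).1 : K) (u⁻¹).2
        left_inv := fun x => ext' (by simp [dilF, fA]) (by
          simp only [dilF, fB, InvMemClass.coe_inv, Units.val_inv_eq_inv_val]; field_simp)
        right_inv := fun x => ext' (by simp [dilF, fA]) (by
          simp only [dilF, fB, InvMemClass.coe_inv, Units.val_inv_eq_inv_val]; field_simp)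
        map_mul' := dilF_mul _ _ })
    fun u v => MulEquiv.ext fun x => by
      refine ext' ?_ ?_
      · show ((u * v).1 : K) * fA x = (u.1 : K) * ((v.1 : K) * fA x)
        simp [mul_assoc]
      · show ((u * v).1 : K) * ((u * v).1 : K) * fB x = (u.1 : K) * u.1 * ((v.1 : K) * v.1 * fB x)
        simp; ring

theorem isSuzukiTwoGroup [Finite K] (h3 : 3 ≤ Nat.card (fixd σ)) :
    Cfsg.IsSuzukiTwoGroup (HU σ) := by
  refine ⟨inferInstance, isPGroup_two hne, ?_, ?_, (dilHom (σ := σ)).range, ?_, ?_⟩
  · by_contra h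
    push Not at h
    obtain ⟨x, hx⟩ := exists_fA hne 1
    have : fA x = 0 := (mem_center_iff hne x).1 (Subgroup.mem_center_iff.2 fun y => h y x)
    rw [hx] at this; exact one_ne_zero this
  · obtain ⟨c, hc1, hc0⟩ : ∃ c : fixd σ, (c : K) ≠ 1 ∧ (c : K) ≠ 0 := by
      classical
      by_contra h
      push Not at h
      have : Fintype (fixd σ) := Fintype.ofFinite _
      have hle : (Finset.univ : Finset (fixd σ)) ⊆ {⟨1, map_one σ⟩, ⟨0, map_zero σ⟩} := fun c _ => by
        by_cases h1 : (c : K) = 1
        · simp [Subtype.ext_iff, h1]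
        · simp [Subtype.ext_iff, h c h1]
      have := (Finset.card_le_card hle).trans Finset.card_le_two
      rw [Finset.card_univ, ← Nat.card_eq_fintype_card] at this
      omega
    refine ⟨zc 1 (map_one σ), zc c.1 c.2, fun e => hc1 (congrArg fB e).symm,
      fun e => one_ne_zero (congrArg fB e), (sq_eq_one_iff _).2 rfl,
      fun e => hc0 (congrArg fB e), (sq_eq_one_iff _).2 rfl⟩
  · have : IsCyclic (fixUnits σ) := inferInstance
    exact isCyclic_of_surjective (dilHom (σ := σ)).rangeRestrict
      (dilHom (σ := σ)).rangeRestrict_surjective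
  · intro x y hx hxx hy hyy
    rw [sq_eq_one_iff] at hxx hyy
    have hbx : fB x ≠ 0 := fun h => hx (ext' hxx h)
    have hby : fB y ≠ 0 := fun h => hy (ext' hyy h)
    have : Fintype K := Fintype.ofFinite K
    obtain ⟨r, hr⟩ : ∃ r : K, r * r = fB y / fB x := by
      have hinj : Function.Injective (fun r : K => r * r) := fun a b h => by
        have e : (a + b) * (a + b) = 0 := by
          simp only at h
          linear_combination h + (b * b + a * b) * two_zero (K := K)
        exact CharTwo.add_eq_zero.1 (mul_self_eq_zero.1 e)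
      exact (Finite.injective_iff_surjective.1 hinj) _
    have hr0 : r ≠ 0 := fun h => by
      rw [h, mul_zero, eq_comm, div_eq_zero_iff] at hr
      tauto
    have hrfix : σ r = r := by
      have e : (σ r + r) * (σ r + r) = 0 := by
        have h := congrArg σ hr
        rw [map_mul, map_div₀, fB_fixed hxx, fB_fixed hyy, ← hr] at h
        linear_combination h + (r * r + σ r * r) * two_zero (K := K)
      exact CharTwo.add_eq_zero.1 (mul_self_eq_zero.1 e)
    refine ⟨⟨_, ⟨⟨Units.mk0 r hr0, hrfix⟩, rfl⟩⟩, ext' ?_ ?_, ?_⟩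
    · show r * fA x = fA y
      rw [hxx, hyy, mul_zero]
    · show r * r * fB x = fB y
      rw [hr, div_mul_cancel₀ _ hbx]
    · rintro ⟨_, ⟨u, rfl⟩⟩ hu
      have hb : (u.1 : K) * u.1 * fB x = fB y := congrArg fB hu
      have e : ((u.1 : K) + r) * ((u.1 : K) + r) = 0 := by
        have : (u.1 : K) * u.1 = r * r := by rw [hr, eq_div_iff hbx, hb]
        linear_combination this + (r * r + (u.1 : K) * r) * two_zero (K := K)
      have : u = ⟨Units.mk0 r hr0, hrfix⟩ :=
        Subtype.ext (Units.ext (CharTwo.add_eq_zero.1 (mul_self_eq_zero.1 e)))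
      simp only [this]

end Cfsg.Agent.SU3TwoHeis
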