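import Cfsg.Agent.Lib.SpectrumPSU61
import Cfsg.Agent.Lib.SU3TwoHeis

/-!
The Sylow 2-subgroups of `SU(3, 2 ^ n)` and `PSU(3, 2 ^ n)` are unitary Heisenberg groups.
-/

set_option autoImplicit false
set_option linter.unusedSectionVars false
set_option linter.style.haveILetI false

namespace Cfsg.Agent.SU3TwoHeisEmbed

open Matrix Cfsg Cfsg.Agent.OrthUnitaryHerm Cfsg.Agent.SpectrumPSU61 Cfsg.Agent.SU3TwoHeis

variable {F : Type*} [Field F] [Fintype F] {n : ℕ}

theorem charP_two (_hn : 1 ≤ n) (hF : Fintype.card F = (2 ^ n) ^ 2) : CharP F 2 := by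
  obtain ⟨p, hp⟩ := CharP.exists F
  haveI := hp
  obtain ⟨e, hpr, he⟩ := FiniteField.card F p
  have hd : p ∣ 2 ^ (n * 2) := by
    rw [pow_mul, ← hF, he]; exact dvd_pow_self p e.pos.ne'
  have := hpr.dvd_of_dvd_pow hd
  rwa [(Nat.prime_dvd_prime_iff_eq hpr Nat.prime_two).1 this] at hp

variable (σ : F →+* F) [CharP F 2] [Fact (Function.Involutive σ)]

/-- Upper unitriangular matrices preserving the antidiagonal form. -/
def heisMat (x : HU σ) : Matrix (Fin 3) (Fin 3) F :=
  !![1, σ (fA x), σ (fB x); 0, 1, fA x; 0, 0, 1]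

theorem heisMat_mul (x y : HU σ) : heisMat σ (x * y) = heisMat σ x * heisMat σ y := by
  ext i j
  fin_cases i <;> fin_cases j <;> simp [heisMat, Matrix.mul_apply, Fin.sum_univ_three]
  · ring
  · rw [invol]; ring
  · ring

theorem heisMat_det (x : HU σ) : (heisMat σ x).det = 1 := by
  rw [Matrix.det_fin_three]; simp [heisMat]

theorem heisMat_unitary {q : ℕ} (hF : Fintype.card F = q ^ 2) (hσq : ∀ x, σ x = x ^ q) (x : HU σ) :
    adj q (heisMat σ x) * !![0, 0, 1; 0, 1, 0; 1, 0, 0] * heisMat σ x =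
      !![0, 0, 1; 0, 1, 0; 1, 0, 0] := by
  have hz : (0 : F) ^ q = 0 := zero_pow_q hF
  have h2 := two_zero (K := F)
  ext i j
  fin_cases i <;> fin_cases j <;>
    simp [heisMat, Matrix.mul_apply, Fin.sum_univ_three, adj_apply, ← hσq, invol]
  · linear_combination fA x * h2
  · linear_combination σ (fA x) * h2
  · linear_combination rel x + fA x * σ (fA x) * h2

/-- A basis with antidiagonal Gram matrix. -/
theorem exists_basis {q : ℕ} (hF : Fintype.card F = q ^ 2) (hσq : ∀ x, σ x = x ^ q)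
    (hne : ∃ c : F, σ c ≠ c) :
    ∃ P : Matrix (Fin 3) (Fin 3) F, IsUnit P.det ∧
      adj q P * P = !![0, 0, 1; 0, 1, 0; 1, 0, 0] := by
  obtain ⟨θ, hθ⟩ := exists_theta (σ := σ) hne
  have h2 := two_zero (K := F)
  refine ⟨!![1, 0, θ; 1, 0, θ + 1; 0, 1, 0], ?_, ?_⟩
  · rw [Matrix.det_fin_three, isUnit_iff_ne_zero]
    simp
  · ext i j
    fin_cases i <;> fin_cases j <;>
      simp [Matrix.mul_apply, Fin.sum_univ_three, adj_apply, ← hσq, map_add]
    · linear_combination h2
    · linear_combination θ * h2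
    · linear_combination σ θ * h2
    · linear_combination hθ + (σ θ * θ + 1) * h2

/-- The embedding in `SU`. -/
theorem exists_embed {q : ℕ} (hF : Fintype.card F = q ^ 2) (hσq : ∀ x, σ x = x ^ q)
    (hne : ∃ c : F, σ c ≠ c) :
    ∃ e : HU σ →* SU 3 F q, Function.Injective e ∧
      Function.Injective ((QuotientGroup.mk' (Subgroup.center (SU 3 F q))).comp e) := by
  obtain ⟨P, hP, hPP⟩ := exists_basis σ hF hσq hne
  have hQP := nonsing_inv_mul P hP
  have hPQ := mul_nonsing_inv P hP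
  have hU : ∀ x : HU σ, IsU q (P * heisMat σ x * P⁻¹) := by
    intro x
    rw [isU_iff hF, adj_mul hF, adj_mul hF]
    calc adj q P⁻¹ * (adj q (heisMat σ x) * adj q P) * (P * heisMat σ x * P⁻¹)
        = adj q P⁻¹ * (adj q (heisMat σ x) * (adj q P * P) * heisMat σ x) * P⁻¹ := by
          simp [Matrix.mul_assoc]
      _ = (adj q P⁻¹ * adj q P) * (P * P⁻¹) := by
          rw [hPP, heisMat_unitary σ hF hσq, ← hPP]; simp [Matrix.mul_assoc]
      _ = 1 := by rw [← adj_mul hF, hPQ, adj_one hF, Matrix.mul_one]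
  have hd : ∀ x : HU σ, (P * heisMat σ x * P⁻¹).det = 1 := fun x => by
    rw [det_mul, det_mul, heisMat_det, mul_one, ← det_mul, hPQ, det_one]
  let e : HU σ →* SU 3 F q := MonoidHom.mk' (fun x => mkSU _ (hd x) (hU x)) fun x y =>
    Subtype.ext (Subtype.ext (by
      show P * heisMat σ (x * y) * P⁻¹ = (P * heisMat σ x * P⁻¹) * (P * heisMat σ y * P⁻¹)
      rw [heisMat_mul]
      calc P * (heisMat σ x * heisMat σ y) * P⁻¹ = P * heisMat σ x * ((P⁻¹ * P) * heisMat σ y) * P⁻¹ := by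
            rw [hQP, Matrix.one_mul]; simp [Matrix.mul_assoc]
        _ = _ := by simp [Matrix.mul_assoc]))
  have hscal : ∀ (x : HU σ) (a : F), P * heisMat σ x * P⁻¹ = Matrix.scalar (Fin 3) a → x = 1 := by
    intro x a h
    have h' : heisMat σ x = Matrix.scalar (Fin 3) a := by
      calc heisMat σ x = P⁻¹ * (P * heisMat σ x * P⁻¹) * P := by
            simp only [← Matrix.mul_assoc, hQP, Matrix.one_mul]
            rw [Matrix.mul_assoc, hQP, Matrix.mul_one]
        _ = P⁻¹ * Matrix.scalar (Fin 3) a * P := by rw [h]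
        _ = Matrix.scalar (Fin 3) a := by
            rw [← (Matrix.scalar_commute a (fun r => Commute.all a r) P⁻¹).eq, Matrix.mul_assoc, hQP,
              Matrix.mul_one]
    have hb := congrFun (congrFun h' 0) 2
    have ha := congrFun (congrFun h' 1) 2
    simp [heisMat] at ha hb
    exact ext' ha hb
  refine ⟨e, ?_, ?_⟩
  · rw [injective_iff_map_eq_one]
    intro x hx
    exact hscal x 1 ((congrArg mat hx).trans (map_one _).symm)
  · rw [injective_iff_map_eq_one]
    intro x hx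
    obtain ⟨a, ha⟩ := scalar_of_central hF (by norm_num) (g := e x) hx
    exact hscal x a ha

omit [CharP F 2] [Fact (Function.Involutive σ)] in
theorem card_SU_three {q : ℕ} (hF : Fintype.card F = q ^ 2) :
    Nat.card (SU 3 F q) = q ^ 3 * ((q ^ 2 - 1) * (q ^ 3 + 1)) := by
  have hGU := card_GU_eq_mul_card_SU (n := 3) hF (by norm_num)
  rw [card_GU hF] at hGU
  simp [Finset.prod_range_succ, -Nat.card_eq_fintype_card] at hGU
  refine Nat.eq_of_mul_eq_mul_left (show 0 < q + 1 by omega) (hGU.trans ?_)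
  ring

omit σ [CharP F 2] in
/-- Sylow 2-subgroups of `SU(3, 2 ^ n)` and `PSU(3, 2 ^ n)`. -/
theorem exists_model (hn : 1 ≤ n) (hF : Fintype.card F = (2 ^ n) ^ 2) :
    ∃ (_ : CharP F 2) (σ : F →+* F) (_ : Fact (Function.Involutive σ)),
      (∀ x, σ x = x ^ (2 ^ n)) ∧ (∃ c : F, σ c ≠ c) ∧ Nat.card (fixd σ) = 2 ^ n ∧
      Nat.card (HU σ) = (2 ^ n) ^ 3 ∧
      (∀ P : Sylow 2 (SU 3 F (2 ^ n)), Nonempty ((P : Subgroup (SU 3 F (2 ^ n))) ≃* HU σ)) ∧
      ∀ P : Sylow 2 (PSU 3 F (2 ^ n)), Nonempty ((P : Subgroup (PSU 3 F (2 ^ n))) ≃* HU σ) := by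
  classical
  set q := 2 ^ n with hq
  haveI hc2 := charP_two hn hF
  obtain ⟨σ, hσ⟩ := exists_frobHom hF
  haveI hinv : Fact (Function.Involutive σ) := ⟨fun x => by rw [hσ, hσ, pow_q_q hF]⟩
  have hne : ∃ c : F, σ c ≠ c := by
    obtain ⟨c, hc0, hc⟩ := exists_skew hF
    obtain ⟨x, hx, hx2⟩ := exists_normOne_sq_ne_one hF
    refine ⟨(x : F), fun h => hx2 (Units.ext ?_)⟩
    rw [hσ] at h
    have := congrArg Units.val hx
    rw [Units.val_pow_eq_pow_val, pow_succ, h] at this
    rw [Units.val_pow_eq_pow_val, sq, this, Units.val_one]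
  have hk : Nat.card (fixd σ) = q := by
    have := card_fixd_sq (σ := σ) hne
    rw [Nat.card_eq_fintype_card (α := F), hF] at this
    exact Nat.pow_left_injective two_ne_zero this
  have hcard : Nat.card (HU σ) = q ^ 3 := by
    rw [card_eq hne, hk, Nat.card_eq_fintype_card, hF]; ring
  obtain ⟨e, he, he'⟩ := exists_embed σ hF hσ hne
  haveI : Fact (Nat.Prime 2) := ⟨Nat.prime_two⟩
  have hodd : ¬ 2 ∣ (q ^ 2 - 1) * (q ^ 3 + 1) := by
    have h2 : 2 ∣ q := dvd_pow_self 2 (by omega)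
    have a : Odd (q ^ 2 - 1) := by
      refine Nat.Even.sub_odd (Nat.one_le_pow _ _ (by rw [hq]; positivity)) ?_ odd_one
      exact (even_iff_two_dvd.2 h2).pow_of_ne_zero two_ne_zero
    have b : Odd (q ^ 3 + 1) := ((even_iff_two_dvd.2 h2).pow_of_ne_zero (by norm_num)).add_one
    intro h
    exact Nat.not_even_iff_odd.2 (a.mul b) (even_iff_two_dvd.2 h)
  have hfac : (Nat.card (SU 3 F q)).factorization 2 = 3 * n := by
    have h0 : (q ^ 2 - 1) * (q ^ 3 + 1) ≠ 0 := fun h => hodd (h ▸ dvd_zero 2)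
    rw [card_SU_three hF, Nat.factorization_mul (pow_ne_zero _ (pow_ne_zero _ two_ne_zero)) h0,
      Finsupp.add_apply, Nat.factorization_eq_zero_of_not_dvd hodd, ← pow_mul,
      Nat.Prime.factorization_pow Nat.prime_two, Finsupp.single_eq_same]
    ring
  refine ⟨hc2, σ, hinv, hσ, hne, hk, hcard, fun P => ?_, fun P => ?_⟩
  · let Q := Sylow.ofCard e.range (by
      rw [← Nat.card_congr (MonoidHom.ofInjective he).toEquiv, hcard, hfac, hq, ← pow_mul, mul_comm])
    exact ⟨(Sylow.equiv P Q).trans (MonoidHom.ofInjective he).symm⟩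
  · set Z := Subgroup.center (SU 3 F q)
    have hfac' : (Nat.card (PSU 3 F q)).factorization 2 = 3 * n := by
      have h := Subgroup.card_eq_card_quotient_mul_card_subgroup Z
      have hg := card_center_SU (n := 3) hF (by norm_num)
      have hgodd : ¬ 2 ∣ Nat.card Z := by
        rw [hg]; intro h
        have := h.trans (Nat.gcd_dvd_left 3 (q + 1))
        omega
      have hne0 : Nat.card (PSU 3 F q) ≠ 0 := Nat.card_pos.ne'
      have h' := hfac
      rw [h, Nat.factorization_mul hne0 Nat.card_pos.ne', Finsupp.add_apply,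
        Nat.factorization_eq_zero_of_not_dvd hgodd, add_zero] at h'
      exact h'
    let e2 := (QuotientGroup.mk' Z).comp e
    let Q := Sylow.ofCard e2.range (by
      rw [← Nat.card_congr (MonoidHom.ofInjective he').toEquiv, hcard, hfac', hq, ← pow_mul, mul_comm])
    exact ⟨(Sylow.equiv P Q).trans (MonoidHom.ofInjective he').symm⟩

end Cfsg.Agent.SU3TwoHeisEmbed
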