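import Mathlib
import Cfsg.Prelude.Def_CaseTheorems
import Cfsg.Prelude.Def_TwoFusion
import Cfsg.Agent.Lib.FusionSysGroup
import Cfsg.Agent.Lib.RankTwoSylowFusion4

/-!
Alperin's list for a finite group of 2-rank two without isolated involutions.
-/

open Subgroup

set_option autoImplicit false
set_option linter.style.haveILetI false

namespace Cfsg.Agent.RankTwoSylowApply4

open Cfsg Cfsg.FusionSystem Cfsg.Agent.FusionSysBasic

variable {G : Type*} [Group G] [Finite G]

theorem rankLE_subgroup (h : PRankLE 2 2 G) (S : Subgroup G) : PRankLE 2 2 S := by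
  intro A hA hA2
  rw [← card_map_of_injective (f := S.subtype) S.subtype_injective]
  refine h _ ⟨⟨?_⟩⟩ ?_
  · rintro ⟨_, a, ha, rfl⟩ ⟨_, b, hb, rfl⟩
    exact Subtype.ext (congrArg S.subtype (congrArg Subtype.val (hA.is_comm.comm ⟨a, ha⟩ ⟨b, hb⟩)))
  · rintro _ ⟨a, ha, rfl⟩
    rw [← map_pow, hA2 a ha, map_one]

theorem four_in_sylow (h1 : ¬ PRankLE 2 1 G) (S : Sylow 2 G) :
    ∃ B : Subgroup (S : Subgroup G), IsMulCommutative B ∧ (∀ b ∈ B, b ^ 2 = 1) ∧ 4 ≤ Nat.card B := by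
  haveI : Fact (Nat.Prime 2) := ⟨Nat.prime_two⟩
  simp only [PRankLE, not_forall, not_le] at h1
  obtain ⟨A, hA, hA2, hAc⟩ := h1
  have hp : IsPGroup 2 A := fun a => ⟨1, Subtype.ext (by
    rw [pow_one, SubmonoidClass.coe_pow]; exact hA2 a a.2)⟩
  obtain ⟨g, hg⟩ := FusionSysGroup.exists_cj_le S hp
  let f : A →* (S : Subgroup G) :=
    MonoidHom.mk' (fun a => ⟨cj g a, hg a a.2⟩) fun a b => Subtype.ext (by
      show cj g ((a : G) * b) = cj g a * cj g b
      simp only [cj_apply]; group)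
  have hf : Function.Injective f := fun a b e => Subtype.ext (by
    have := congrArg Subtype.val e
    change cj g (a : G) = cj g (b : G) at this
    rw [← cj_inv_cj g (a : G), this, cj_inv_cj])
  refine ⟨f.range, ⟨⟨?_⟩⟩, ?_, ?_⟩
  · rintro ⟨_, a, rfl⟩ ⟨_, b, rfl⟩
    exact Subtype.ext (show f a * f b = f b * f a by rw [← map_mul, ← map_mul, hA.is_comm.comm a b])
  · rintro _ ⟨a, rfl⟩
    rw [← map_pow, show a ^ 2 = 1 from Subtype.ext (hA2 a a.2), map_one]
  · rw [← Nat.card_congr (MonoidHom.ofInjective hf).toEquiv]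
    obtain ⟨k, hk⟩ := IsPGroup.iff_card.mp hp
    rw [hk] at hAc ⊢
    rcases k with _ | _ | k <;> simp [pow_succ] at hAc ⊢
    have : 1 ≤ 2 ^ k := Nat.one_le_two_pow
    omega

/-- An isolated involution is central in every Sylow 2-subgroup containing it. -/
theorem isolated_central {z : G} (hz : IsIsolatedInvolution z) (S : Sylow 2 G) (hzS : z ∈ S) :
    ∀ g ∈ (S : Subgroup G), g * z = z * g := by
  haveI : Fact (Nat.Prime 2) := ⟨Nat.prime_two⟩
  haveI : Group.IsNilpotent (S : Subgroup G) := S.2.isNilpotent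
  have hN : NormalizerCondition (S : Subgroup G) := Group.normalizerCondition_of_isNilpotent
  set z' : (S : Subgroup G) := ⟨z, hzS⟩
  by_contra hcon
  push Not at hcon
  obtain ⟨g, hg, hne⟩ := hcon
  set D := Subgroup.centralizer ({z'} : Set (S : Subgroup G)) with hD
  have hlt : D < ⊤ := lt_top_iff_ne_top.mpr fun e => hne (congrArg Subtype.val
    (mem_centralizer_singleton_iff.mp (e ▸ mem_top (⟨g, hg⟩ : (S : Subgroup G)) : _ ∈ D)))
  obtain ⟨x, hx, hxD⟩ := SetLike.exists_of_lt (hN D hlt)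
  have hz'D : z' ∈ D := mem_centralizer_singleton_iff.mpr rfl
  have hxz := (Subgroup.mem_normalizer_iff.mp hx z').mp hz'D
  have hc : Commute z ((x : G) * z * (x : G)⁻¹) :=
    (congrArg Subtype.val (mem_centralizer_singleton_iff.mp hxz)).symm
  refine hxD (mem_centralizer_singleton_iff.mpr (Subtype.ext ?_))
  exact mul_inv_eq_iff_eq_mul.mp (hz.2 x hc)

theorem klein_dihedral :
    Nonempty (Multiplicative (ZMod (2 ^ 1) × ZMod (2 ^ 1)) ≃* DihedralGroup 2) := by
  refine PGroupsCyclic.nonempty_mulEquiv_dihedral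
    (x := Multiplicative.ofAdd ((1, 0) : ZMod (2 ^ 1) × ZMod (2 ^ 1)))
    (y := Multiplicative.ofAdd ((0, 1) : ZMod (2 ^ 1) × ZMod (2 ^ 1))) ?_ ?_ ?_ ?_ ?_
  · haveI : Fact (Nat.Prime 2) := ⟨Nat.prime_two⟩
    exact orderOf_eq_prime (by decide) (by decide)
  · intro h
    obtain ⟨k, hk⟩ := mem_zpowers_iff.mp h
    have := congrArg (fun a => (Multiplicative.toAdd a).2) hk
    simp at this
  · decide
  · decide
  · simp

theorem group_list (h2 : PRankLE 2 2 G) (h1 : ¬ PRankLE 2 1 G)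
    (hiso : ∀ z : G, ¬ IsIsolatedInvolution z) (S : Sylow 2 G) {F : Type*} [Field F] [Fintype F]
    (hF : Fintype.card F = 16) (P : Sylow 2 (Cfsg.PSU 3 F 4)) :
    (∃ m : ℕ, 2 ≤ m ∧ Nonempty ((S : Subgroup G) ≃* DihedralGroup m)) ∨
      IsQuasiDihedral (S : Subgroup G) ∨ IsWreathed (S : Subgroup G) ∨
      (∃ n : ℕ, 2 ≤ n ∧
        Nonempty ((S : Subgroup G) ≃* Multiplicative (ZMod (2 ^ n) × ZMod (2 ^ n)))) ∨
      Nonempty ((S : Subgroup G) ≃* (P : Subgroup (Cfsg.PSU 3 F 4))) := by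
  haveI : Fact (Nat.Prime 2) := ⟨Nat.prime_two⟩
  have hI : ∀ z : G, z ∈ (S : Subgroup G) → z * z = 1 → z ≠ 1 →
      (∀ g ∈ (S : Subgroup G), g * z = z * g) →
      ∃ f, Mor (groupFusionSystem (S : Subgroup G)) (zpowers z) f ∧ f z ≠ z := by
    intro z hzS hzz hz1 hzc
    have hord : orderOf z = 2 := orderOf_eq_prime (by rw [pow_two, hzz]) hz1
    obtain ⟨g, hgc, hgne⟩ : ∃ g, Commute z (g * z * g⁻¹) ∧ g * z * g⁻¹ ≠ z := by
      simpa [IsIsolatedInvolution, hord] using hiso z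
    set C := Subgroup.centralizer ({z} : Set G) with hC
    have hSC : (S : Subgroup G) ≤ C := fun s hs => mem_centralizer_singleton_iff.mpr (hzc s hs)
    set w : C := ⟨g * z * g⁻¹, mem_centralizer_singleton_iff.mpr hgc.eq.symm⟩ with hw
    have hwp : IsPGroup 2 (zpowers w) := by
      refine IsPGroup.of_card (n := 1) ?_
      rw [Nat.card_zpowers, pow_one]
      refine orderOf_eq_prime (Subtype.ext ?_) fun e => hz1 ?_
      · show (g * z * g⁻¹) ^ 2 = 1
        rw [conj_pow, pow_two, hzz, mul_one, mul_inv_cancel]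
      · exact conj_eq_one_iff.mp (congrArg Subtype.val e)
    obtain ⟨c, hc⟩ := FusionSysGroup.exists_cj_le (S.subtype hSC) hwp
    have hcS : cj ((c : G) * g) z ∈ (S : Subgroup G) := by
      have h := hc w (mem_zpowers w)
      rw [Sylow.coe_subtype, mem_subgroupOf] at h
      rw [← cj_cj]
      exact h
    refine ⟨cj ((c : G) * g), FusionSysGroup.mor_group_iff.mpr ⟨zpowers_le.mpr hzS, _,
      fun _ _ => rfl, fun x hx => ?_⟩, fun e => hgne ?_⟩
    · obtain ⟨k, rfl⟩ := mem_zpowers_iff.mp hx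
      rw [cj_apply, ← conj_zpow]
      exact zpow_mem hcS k
    · have hcz : (c : G) * z = z * c := mem_centralizer_singleton_iff.mp c.2
      calc g * z * g⁻¹ = (c : G)⁻¹ * cj ((c : G) * g) z * c := by rw [cj_apply]; group
        _ = (c : G)⁻¹ * (z * c) := by rw [e, mul_assoc]
        _ = z := by rw [← hcz, inv_mul_cancel_left]
  rcases RankTwoSylowFusion4.sylow_list S.2 (FusionSysGroup.saturated_group S)
      (rankLE_subgroup h2 _) (four_in_sylow h1 S) hI hF P with h | h | h | ⟨n, hn, ⟨e⟩⟩ | h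
  · exact Or.inl h
  · exact Or.inr (Or.inl h)
  · exact Or.inr (Or.inr (Or.inl h))
  · rcases (show n = 1 ∨ 2 ≤ n by omega) with rfl | hn2
    · have hd := klein_dihedral
      exact Or.inl ⟨2, le_rfl, hd.map e.trans⟩
    · exact Or.inr (Or.inr (Or.inr (Or.inl ⟨n, hn2, ⟨e⟩⟩)))
  · exact Or.inr (Or.inr (Or.inr (Or.inr h)))

end Cfsg.Agent.RankTwoSylowApply4
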