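import Mathlib
import Cfsg.Agent.Lib.OrthSubfieldCore44

/-!
A linear map carrying singular rational planes to rational planes preserves the rational lines.
-/

set_option autoImplicit false

namespace Cfsg.Agent.RatLines44

open QuadraticMap Module
open Cfsg.Agent.OrthSubfieldCore44 (exists_sing_avoid exists_partner_perp exists_three)

variable {F V : Type*} [Field F] [AddCommGroup V] [Module F V] {F₀ : Subfield F} {V₀ : Type*}
  [AddCommGroup V₀] [Module F₀ V₀] (R : V₀ →+ V)
  (hcf : ∀ {k : ℕ} (v : Fin k → V₀), LinearIndependent F₀ v → ∀ (c : Fin k → F) (z : V₀),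
    ∑ i, c i • R (v i) = R z → ∀ i, c i ∈ F₀)

include hcf

theorem lin2 {x y : V₀} (h : LinearIndependent F₀ ![x, y]) {a b : F} {z : V₀}
    (he : a • R x + b • R y = R z) : a ∈ F₀ ∧ b ∈ F₀ := by
  have := hcf ![x, y] h ![a, b] z (by simpa [Fin.sum_univ_two] using he)
  exact ⟨this 0, this 1⟩

theorem lin3 {x y w : V₀} (h : LinearIndependent F₀ ![x, y, w]) {a b c : F} {z : V₀}
    (he : a • R x + b • R y + c • R w = R z) : a ∈ F₀ ∧ b ∈ F₀ ∧ c ∈ F₀ := by
  have := hcf ![x, y, w] h ![a, b, c] z (by simpa [Fin.sum_univ_three] using he)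
  exact ⟨this 0, this 1, this 2⟩

omit hcf in
/-- A vector in the span over `F` of two rational vectors. -/
theorem preserves [Finite F₀] [FiniteDimensional F₀ V₀]
    (hcf : ∀ {k : ℕ} (v : Fin k → V₀), LinearIndependent F₀ v → ∀ (c : Fin k → F) (z : V₀),
      ∑ i, c i • R (v i) = R z → ∀ i, c i ∈ F₀)
    (hs : ∀ (c : F₀) (x : V₀), R (c • x) = (c : F) • R x) (hR : ∀ x, R x = 0 → x = 0)
    (q : QuadraticForm F₀ V₀) (hq : (polarBilin q).Nondegenerate) (hn : 13 ≤ finrank F₀ V₀)
    (k : V →ₗ[F] V) (hk : Function.Injective k)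
    (hplane : ∀ c₀ d₀, q c₀ = 0 → q d₀ = 0 → polar q c₀ d₀ = 0 →
      LinearIndependent F₀ ![c₀, d₀] → ∃ v₁ v₂ : V₀,
        k (R c₀) ∈ Submodule.span F {R v₁, R v₂} ∧
        k (R d₀) ∈ Submodule.span F {R v₁, R v₂} ∧
        R v₁ ∈ Submodule.span F {k (R c₀), k (R d₀)} ∧
        R v₂ ∈ Submodule.span F {k (R c₀), k (R d₀)} ∧
        LinearIndependent F₀ ![v₁, v₂]) :
    ∀ x, ∃ (c : F) (y : V₀), k (R x) = c • R y := by
  -- singular rational vectors go to multiples of rational vectors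
  have hpt : ∀ c₀, q c₀ = 0 → ∃ (c : F) (y : V₀), k (R c₀) = c • R y := by
    intro c₀ hc
    by_cases hc0 : c₀ = 0
    · exact ⟨0, 0, by simp [hc0]⟩
    obtain ⟨d₀, hd, hdp, hds⟩ := exists_sing_avoid q ![c₀] (by omega)
    obtain ⟨d₁, hd', hdp', hds'⟩ := exists_sing_avoid q ![c₀, d₀] (by omega)
    have hli₃ : LinearIndependent F₀ ![c₀, d₀, d₁] := by
      have h2 : LinearIndependent F₀ ![c₀, d₀] := (LinearIndependent.pair_iff' hc0).2 fun a ha =>
        hds (Submodule.mem_span.2 fun p hp => ha ▸ p.smul_mem a (hp ⟨0, rfl⟩))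
      have h3 := h2.finSnoc (x := d₁) hds'
      convert h3 using 1
      funext i; fin_cases i <;> rfl
    have hli₀ : LinearIndependent F₀ ![c₀, d₀] := (LinearIndependent.pair_iff' hc0).2 fun a ha =>
        hds (Submodule.mem_span.2 fun p hp => ha ▸ p.smul_mem a (hp ⟨0, rfl⟩))
    have hli₁ : LinearIndependent F₀ ![c₀, d₁] := (LinearIndependent.pair_iff' hc0).2 fun a ha =>
      hds' (Submodule.mem_span.2 fun p hp => ha ▸ p.smul_mem a (hp ⟨0, rfl⟩))
    obtain ⟨v₁, v₂, hC, -, hv₁, hv₂, hvli⟩ := hplane c₀ d₀ hc hd (hdp 0) hli₀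
    obtain ⟨w₁, w₂, hC', -, hw₁, hw₂, hwli⟩ := hplane c₀ d₁ hc hd' (hdp' 0) hli₁
    obtain ⟨a₁, a₂, ha⟩ := Submodule.mem_span_pair.1 hC
    obtain ⟨b₁, b₂, hb⟩ := Submodule.mem_span_pair.1 hC'
    -- images of independent rational vectors are independent
    have himg : ∀ p q r : F, p • k (R c₀) + q • k (R d₀) + r • k (R d₁) = 0 →
        p = 0 ∧ q = 0 ∧ r = 0 := by
      intro p q r h
      have h' : p • R c₀ + q • R d₀ + r • R d₁ = R 0 :=
        hk (by simpa using h)
      obtain ⟨hp, hq', hr⟩ := lin3 R hcf hli₃ h'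
      have h0 := Fintype.linearIndependent_iff.1 hli₃ ![⟨p, hp⟩, ⟨q, hq'⟩, ⟨r, hr⟩] (hR _ (by
        simp only [Fin.sum_univ_three, map_add, Matrix.cons_val_zero, Matrix.cons_val_one,
          Matrix.cons_val, hs]
        simpa using h'))
      exact ⟨congrArg Subtype.val (h0 0), congrArg Subtype.val (h0 1), congrArg Subtype.val (h0 2)⟩
    -- a common rational vector
    by_cases hl : LinearIndependent F₀ ![v₁, v₂, w₁, w₂]
    · exfalso
      have hzero : a₁ • R v₁ + a₂ • R v₂ + (-b₁) • R w₁ + (-b₂) • R w₂ = R 0 := by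
        rw [map_zero, add_assoc, ha, neg_smul, neg_smul, ← neg_add, hb, add_neg_cancel]
      have hm   := hcf ![v₁, v₂, w₁, w₂] hl ![a₁, a₂, -b₁, -b₂] 0
        (by simpa [Fin.sum_univ_four] using hzero)
      have h0 := Fintype.linearIndependent_iff.1 hl
        ![⟨a₁, hm 0⟩, ⟨a₂, hm 1⟩, ⟨-b₁, hm 2⟩, ⟨-b₂, hm 3⟩] (hR _ (by
          simp only [Fin.sum_univ_four, map_add, Matrix.cons_val_zero, Matrix.cons_val_one,
            Matrix.cons_val, hs]
          simpa using hzero))
      have h1 : a₁ = 0 := congrArg Subtype.val (h0 0)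
      have h2 : a₂ = 0 := congrArg Subtype.val (h0 1)
      rw [h1, h2, zero_smul, zero_smul, add_zero] at ha
      exact hc0 (hR _ (hk (ha.symm.trans (map_zero k).symm)))
    · obtain ⟨g, hg, i, hi⟩ := Fintype.not_linearIndependent_iff.1 hl
      have hsum : (g 0 : F) • R v₁ + (g 1 : F) • R v₂ =
          -((g 2 : F) • R w₁ + (g 3 : F) • R w₂) := by
        have := congrArg R hg
        simp only [Fin.sum_univ_four, map_add, Matrix.cons_val_zero, Matrix.cons_val_one,
          Matrix.cons_val, hs, map_zero] at this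
        exact eq_neg_of_add_eq_zero_left (by rw [← this]; abel)
      set u := g 0 • v₁ + g 1 • v₂ with hu
      have hu0 : R u = (g 0 : F) • R v₁ + (g 1 : F) • R v₂ := by
        rw [hu, map_add, hs, hs]
      have hu1 : R u ∈ Submodule.span F {k (R c₀), k (R d₀)} := hu0 ▸
        Submodule.add_mem _ (Submodule.smul_mem _ _ hv₁) (Submodule.smul_mem _ _ hv₂)
      have hu2 : R u ∈ Submodule.span F {k (R c₀), k (R d₁)} := by
        rw [hu0, hsum]
        exact Submodule.neg_mem _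
          (Submodule.add_mem _ (Submodule.smul_mem _ _ hw₁) (Submodule.smul_mem _ _ hw₂))
      obtain ⟨p, r, hpr⟩ := Submodule.mem_span_pair.1 hu1
      obtain ⟨p', r', hpr'⟩ := Submodule.mem_span_pair.1 hu2
      have h3 := himg (p - p') r (-r') (by
        calc (p - p') • k (R c₀) + r • k (R d₀) + (-r') • k (R d₁)
            = (p • k (R c₀) + r • k (R d₀)) - (p' • k (R c₀) + r' • k (R d₁)) := by
              module
          _ = 0 := by rw [hpr, hpr', sub_self])
      rw [h3.2.1, zero_smul, add_zero] at hpr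
      by_cases hu00 : u = 0
      · exfalso
        -- then both pairs are dependent
        have h01 := LinearIndependent.pair_iff.1 hvli (g 0) (g 1) hu00
        rw [h01.1, h01.2, ZeroMemClass.coe_zero, zero_smul, zero_smul, add_zero, eq_comm,
          neg_eq_zero] at hsum
        have h23 := LinearIndependent.pair_iff.1 hwli (g 2) (g 3) (hR _ (by
          rw [map_add, hs, hs]; exact hsum))
        fin_cases i <;> simp_all
      · refine ⟨p⁻¹, u, ?_⟩
        have hp : p ≠ 0 := fun h => hu00 (hR _ (by rw [← hpr, h, zero_smul]))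
        rw [← hpr, smul_smul, inv_mul_cancel₀ hp, one_smul]
  -- the multipliers agree
  have himg0 : ∀ v, v ≠ 0 → k (R v) ≠ 0 := fun v hv h =>
    hv (hR _ (hk (h.trans (map_zero k).symm)))
  -- two independent orthogonal singular vectors
  have key : ∀ v e, q v = 0 → q e = 0 → polar q v e = 0 → LinearIndependent F₀ ![v, e] →
      ∀ (μ ν : F) (v' e' : V₀), k (R v) = μ • R v' → k (R e) = ν • R e' →
        ν / μ ∈ F₀ := by
    intro v e hv he hve hli μ ν v' e' hμ hν
    have hμ0 : μ ≠ 0 := fun h => himg0 v (hli.ne_zero 0) (by rw [hμ, h, zero_smul])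
    have hν0 : ν ≠ 0 := fun h => himg0 e (hli.ne_zero 1) (by rw [hν, h, zero_smul])
    obtain ⟨κ, w, hκ⟩ := hpt (v + e) (by rw [QuadraticMap.map_add (⇑q), hv, he, hve]; simp)
    have hκ0 : κ ≠ 0 := by
      refine fun h => himg0 (v + e) (fun h0 => ?_) (by rw [hκ, h, zero_smul])
      exact one_ne_zero (LinearIndependent.pair_iff.1 hli 1 1 (by simpa using h0)).1
    have hli' : LinearIndependent F₀ ![v', e'] := LinearIndependent.pair_iff.2 fun a b hab => by
      have h1 : k (((a : F) / μ) • R v + ((b : F) / ν) • R e) = 0 := by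
        rw [map_add, map_smul, map_smul, hμ, hν, smul_smul, smul_smul, div_mul_cancel₀ _ hμ0,
          div_mul_cancel₀ _ hν0, ← hs, ← hs, ← map_add, hab, map_zero]
      have h2 : ((a : F) / μ) • R v + ((b : F) / ν) • R e = R 0 := by
        rw [map_zero]; exact hk (h1.trans (map_zero k).symm)
      obtain ⟨ha, hb⟩ := lin2 R hcf hli h2
      have h3 := LinearIndependent.pair_iff.1 hli ⟨_, ha⟩ ⟨_, hb⟩ (hR _ (by
        rw [map_add, hs, hs]; simpa using h2))
      have ha0 : (a : F) / μ = 0 := congrArg Subtype.val h3.1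
      have hb0 : (b : F) / ν = 0 := congrArg Subtype.val h3.2
      exact ⟨Subtype.ext (by simpa [hμ0] using ha0), Subtype.ext (by simpa [hν0] using hb0)⟩
    have h4 : (μ / κ) • R v' + (ν / κ) • R e' = R w := by
      rw [map_add, map_add, hμ, hν] at hκ
      have := congrArg (κ⁻¹ • ·) hκ
      simp only [smul_add, smul_smul, inv_mul_cancel₀ hκ0, one_smul] at this
      rw [← this]; simp only [div_eq_inv_mul]
    obtain ⟨h5, h6⟩ := lin2 R hcf hli' h4
    rw [show ν / μ = (ν / κ) / (μ / κ) by field_simp]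
    exact F₀.div_mem h6 h5
  obtain ⟨a₀, ha₀, -, ha₀s⟩ := exists_sing_avoid q (fun i : Fin 0 => i.elim0) (by omega)
  have ha₀' : a₀ ≠ 0 := fun h => ha₀s (h ▸ Submodule.zero_mem _)
  obtain ⟨l, a', hl⟩ := hpt a₀ ha₀
  have hl0 : l ≠ 0 := fun h => himg0 a₀ ha₀' (by rw [hl, h, zero_smul])
  have hall : ∀ b, q b = 0 → ∃ b', k (R b) = l • R b' := by
    intro b hb
    by_cases hb0 : b = 0
    · exact ⟨0, by simp [hb0]⟩
    obtain ⟨e, he, hep, hes⟩ := exists_sing_avoid q ![a₀, b] (by omega)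
    obtain ⟨μ, b', hμ⟩ := hpt b hb
    obtain ⟨ν, e', hν⟩ := hpt e he
    have h1 : ν / l ∈ F₀ := key a₀ e ha₀ he (hep 0) ((LinearIndependent.pair_iff' ha₀').2
      fun a h => hes (h ▸ Submodule.smul_mem _ a (Submodule.subset_span ⟨0, rfl⟩))) l ν a' e' hl hν
    have h2 : ν / μ ∈ F₀ := key b e hb he (hep 1) ((LinearIndependent.pair_iff' hb0).2
      fun a h => hes (h ▸ Submodule.smul_mem _ a (Submodule.subset_span ⟨1, rfl⟩))) μ ν b' e' hμ hν
    have he0 : ν ≠ 0 := fun h => himg0 e (fun h0 => hes (h0 ▸ Submodule.zero_mem _))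
      (by rw [hν, h, zero_smul])
    have hμ0 : μ ≠ 0 := fun h => himg0 b hb0 (by rw [hμ, h, zero_smul])
    have h3 : μ / l ∈ F₀ := by
      rw [show μ / l = (ν / l) / (ν / μ) by field_simp]; exact F₀.div_mem h1 h2
    refine ⟨(⟨_, h3⟩ : F₀) • b', ?_⟩
    rw [hs, smul_smul, hμ, mul_div_cancel₀ _ hl0]
  intro x
  obtain ⟨b₁, b₂, b₃, rfl, h1, h2, h3⟩ := exists_three q hq (fun i : Fin 0 => i.elim0) (v := x)
    (by omega) (fun i => i.elim0)
  obtain ⟨y₁, e₁⟩ := hall b₁ h1.1
  obtain ⟨y₂, e₂⟩ := hall b₂ h2.1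
  obtain ⟨y₃, e₃⟩ := hall b₃ h3.1
  exact ⟨l, y₁ + y₂ + y₃, by simp only [map_add, e₁, e₂, e₃, smul_add]⟩

end Cfsg.Agent.RatLines44
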