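import Mathlib
import Cfsg.Prelude.Def_Transfer
import Cfsg.Agent.Lib.TransferAlperin
import Cfsg.Agent.Lib.TransferOmega
import Cfsg.Agent.Lib.BaerSuzuki

/-!
Groups with 2-parts of real class sizes constant and real 2-elements central in a Sylow 2-subgroup.
-/

set_option autoImplicit false
set_option linter.style.haveILetI false

namespace Cfsg.Agent.RealCentralTwo67

open Subgroup
open scoped Pointwise commutatorElement

universe u

variable {G : Type u} [Group G]

/-- An element of odd order normalising a 2-group of exponent 4, whose real elements are central,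
centralises it if it centralises all its involutions. -/
theorem centralizes_exp_four (R : Subgroup G) (hR2 : IsPGroup 2 R) (h4 : ∀ x ∈ R, x ^ 4 = 1)
    (hreal : ∀ x ∈ R, ∀ y ∈ R, y * x * y⁻¹ = x⁻¹ → ∀ r ∈ R, r * x = x * r) {a : G} [Finite G]
    (ha : a ∈ normalizer (R : Set G)) (hodd : Odd (orderOf a))
    (hfix : ∀ x ∈ R, x * x = 1 → a * x * a⁻¹ = x) : a ∈ centralizer (R : Set G) := by
  haveI := Fact.mk Nat.prime_two
  let Z : Set G := {x | x ∈ R ∧ ∀ r ∈ R, r * x = x * r}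
  have hmulZ : ∀ x y, x ∈ Z → y ∈ Z → x * y ∈ Z := fun x y hx hy => ⟨mul_mem hx.1 hy.1, fun r hr => by
    rw [← mul_assoc, hx.2 r hr, mul_assoc, hy.2 r hr, mul_assoc]⟩
  have hinvZ : ∀ x, x ∈ Z → x⁻¹ ∈ Z := fun x hx => ⟨inv_mem hx.1, fun r hr =>
    (Commute.inv_right (hx.2 r hr : Commute r x)).eq⟩
  have hinvol : ∀ x ∈ R, x * x = 1 → x ∈ Z := fun x hx h => ⟨hx, hreal x hx 1 (one_mem R)
    (by rw [one_mul, inv_one, mul_one, inv_eq_of_mul_eq_one_right h])⟩
  have hsq : ∀ x ∈ R, x * x ∈ Z := fun x hx => hinvol _ (mul_mem hx hx)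
    (by rw [show x * x * (x * x) = x ^ 4 by simp [pow_succ, mul_assoc], h4 x hx])
  have hsqfix : ∀ x ∈ R, a * (x * x) * a⁻¹ = x * x := fun x hx => hfix _ (mul_mem hx hx)
    (by rw [show x * x * (x * x) = x ^ 4 by simp [pow_succ, mul_assoc], h4 x hx])
  -- commutators are central involutions
  have hcommZ : ∀ u ∈ R, ∀ v ∈ R, ⁅u, v⁆ ∈ Z := by
    intro u hu v hv
    have e : ⁅u, v⁆ = (u * v) * (u * v) * (v⁻¹ * (u⁻¹ * u⁻¹) * v) * (v⁻¹ * v⁻¹) := by
      rw [commutatorElement_def]; group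
    have h1 : u⁻¹ * u⁻¹ ∈ Z := hsq _ (inv_mem hu)
    have h2 : v⁻¹ * (u⁻¹ * u⁻¹) * v = u⁻¹ * u⁻¹ := by
      rw [h1.2 v⁻¹ (inv_mem hv), inv_mul_cancel_right]
    rw [e, h2]
    exact hmulZ _ _ (hmulZ _ _ (hsq _ (mul_mem hu hv)) h1) (hsq _ (inv_mem hv))
  have hcomm2 : ∀ u ∈ R, ∀ v ∈ R, ⁅u, v⁆ * ⁅u, v⁆ = 1 := by
    intro u hu v hv
    have h1 : (u * u) * v * (u * u)⁻¹ = v := by
      rw [← (hsq u hu).2 v hv, mul_inv_cancel_right]
    have h2 : u * v * u⁻¹ = ⁅u, v⁆ * v := by rw [commutatorElement_def]; group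
    have h3 := (hcommZ u hu v hv).2 u hu
    have h4' : ⁅u, v⁆ * ⁅u, v⁆ * v = v := by
      calc ⁅u, v⁆ * ⁅u, v⁆ * v = ⁅u, v⁆ * (u * v * u⁻¹) := by rw [h2]; group
        _ = (⁅u, v⁆ * u) * v * u⁻¹ := by group
        _ = (u * ⁅u, v⁆) * v * u⁻¹ := by rw [h3]
        _ = u * (⁅u, v⁆ * v) * u⁻¹ := by group
        _ = u * (u * v * u⁻¹) * u⁻¹ := by rw [h2]
        _ = (u * u) * v * (u * u)⁻¹ := by group
        _ = v := h1
    exact mul_eq_right.mp h4'
  have hcommfix : ∀ u ∈ R, ∀ v ∈ R, a * ⁅u, v⁆ * a⁻¹ = ⁅u, v⁆ := fun u hu v hv =>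
    hfix _ (hcommZ u hu v hv).1 (hcomm2 u hu v hv)
  have hswap : ∀ u ∈ R, ∀ v ∈ R, ⁅u, v⁆ = ⁅v, u⁆ := fun u hu v hv => by
    rw [← commutatorElement_inv v u]
    exact inv_eq_of_mul_eq_one_right (hcomm2 v hv u hu)
  have hnorm : ∀ x ∈ R, a * x * a⁻¹ ∈ R := fun x hx => (mem_normalizer_iff.mp ha x).mp hx
  have hord : Nat.Coprime (orderOf a) 2 := Nat.coprime_two_right.mpr hodd
  -- central elements are fixed
  have hstep : ∀ x ∈ R, ∀ c ∈ Z, a * x * a⁻¹ = x * c → a * c * a⁻¹ = c → a * x * a⁻¹ = x := by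
    intro x _ c hc hxc hac
    obtain ⟨k, hk⟩ := hR2 ⟨c, hc.1⟩
    obtain ⟨j, -, hj⟩ := (Nat.dvd_prime_pow Nat.prime_two).mp
      (orderOf_dvd_of_pow_eq_one (congrArg Subtype.val hk : c ^ 2 ^ k = 1))
    exact TransferOmega.conj_eq_of_step ⟨j, hj⟩ hord hxc hac
  have hZfix : ∀ x ∈ Z, a * x * a⁻¹ = x := by
    intro x hx
    set c := x⁻¹ * (a * x * a⁻¹) with hc
    have hcc : Commute x⁻¹ (a * x * a⁻¹) := (hinvZ x hx).2 _ (hnorm x hx.1) |>.symm
    have hc2 : c * c = 1 := by
      calc c * c = x⁻¹ * ((a * x * a⁻¹) * x⁻¹) * (a * x * a⁻¹) := by rw [hc]; group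
        _ = (x⁻¹ * x⁻¹) * (a * (x * x) * a⁻¹) := by rw [← hcc.eq]; group
        _ = 1 := by rw [hsqfix x hx.1]; group
    have hcR : c ∈ R := mul_mem (inv_mem hx.1) (hnorm x hx.1)
    exact hstep x hx.1 c (hinvol c hcR hc2) (by rw [hc, mul_inv_cancel_left]) (hfix c hcR hc2)
  -- the general element
  rw [mem_centralizer_iff]
  intro x hx
  suffices a * x * a⁻¹ = x by exact (mul_inv_eq_iff_eq_mul.mp this).symm
  set w := x⁻¹ * (a * x * a⁻¹) with hw
  have hwR : w ∈ R := mul_mem (inv_mem hx) (hnorm x hx)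
  suffices w ∈ Z from hstep x hx w this (by rw [hw, mul_inv_cancel_left]) (hZfix w this)
  -- iterates
  have hpowN : ∀ (i : ℕ), ∀ r ∈ R, a ^ i * r * (a ^ i)⁻¹ ∈ R := fun i r hr =>
    (mem_normalizer_iff.mp (pow_mem ha i) r).mp hr
  have hpowfix : ∀ (i : ℕ) (r : G), a * r * a⁻¹ = r → a ^ i * r * (a ^ i)⁻¹ = r := by
    intro i r hr
    have : Commute a r := mul_inv_eq_iff_eq_mul.mp hr
    rw [(this.pow_left i).eq, mul_inv_cancel_right]
  let wi : ℕ → G := fun i => a ^ i * w * (a ^ i)⁻¹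
  let f : ℕ → G := fun m => (List.range m).foldl (fun acc i => acc * wi (i + 1)) 1
  have hf0 : f 0 = 1 := rfl
  have hfs : ∀ m, f (m + 1) = f m * wi (m + 1) := fun m => by
    simp [f, List.range_succ]
  have hwi : ∀ i, wi i ∈ R := fun i => hpowN i w hwR
  have htel : ∀ m, w * f m = x⁻¹ * (a ^ (m + 1) * x * (a ^ (m + 1))⁻¹) := by
    intro m
    induction m with
    | zero => rw [hf0, mul_one, hw, zero_add, pow_one]
    | succ m ih =>
      rw [hfs, ← mul_assoc, ih]
      show x⁻¹ * (a ^ (m + 1) * x * (a ^ (m + 1))⁻¹) * (a ^ (m + 1) * w * (a ^ (m + 1))⁻¹) = _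
      rw [hw, pow_succ a (m + 1)]
      group
  have hfR : ∀ m, f m ∈ R := fun m => by
    induction m with
    | zero => rw [hf0]; exact one_mem _
    | succ m ih => rw [hfs]; exact mul_mem ih (hwi _)
  have hmain : ∀ m, ∃ y ∈ R, f m * f m = (w * w) ^ m * ⁅y, w⁆ := by
    intro m
    induction m with
    | zero => exact ⟨1, one_mem _, by simp [hf0]⟩
    | succ m ih =>
      obtain ⟨y, hy, hy'⟩ := ih
      set v := wi (m + 1) with hv
      set y' := (a ^ (m + 1))⁻¹ * f m * a ^ (m + 1)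
      have hy'R : y' ∈ R := (mem_normalizer_iff''.mp (pow_mem ha (m + 1)) (f m)).mp (hfR m)
      have hc : ⁅v, f m⁆ = ⁅y', w⁆ := by
        rw [hswap v (hwi _) (f m) (hfR m)]
        have e : ⁅f m, v⁆ = a ^ (m + 1) * ⁅y', w⁆ * (a ^ (m + 1))⁻¹ := by
          rw [conjugate_commutatorElement]
          congr 1
          simp only [y']; group
        rw [e, hpowfix _ _ (hcommfix y' hy'R w hwR)]
      have hvv : v * v = w * w := by
        calc v * v = a ^ (m + 1) * (w * w) * (a ^ (m + 1))⁻¹ := by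
              rw [hv]; show a ^ (m + 1) * w * (a ^ (m + 1))⁻¹ * (a ^ (m + 1) * w * (a ^ (m + 1))⁻¹) = _
              group
          _ = w * w := hpowfix _ _ (hsqfix w hwR)
      have hz := hcommZ v (hwi _) (f m) (hfR m)
      have h1 : (f m * v) * (f m * v) = (f m * f m) * (v * v) * ⁅v, f m⁆ := by
        have e : v * f m = ⁅v, f m⁆ * (f m * v) := by rw [commutatorElement_def]; group
        calc (f m * v) * (f m * v) = f m * (v * f m) * v := by group
          _ = (f m * ⁅v, f m⁆) * (f m * v) * v := by rw [e]; group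
          _ = (⁅v, f m⁆ * f m) * (f m * v) * v := by rw [hz.2 _ (hfR m)]
          _ = ⁅v, f m⁆ * ((f m * f m) * (v * v)) := by group
          _ = _ := (hz.2 _ (mul_mem (mul_mem (hfR m) (hfR m)) (mul_mem (hwi _) (hwi _)))).symm
      refine ⟨y * y', mul_mem hy hy'R, ?_⟩
      have h2 : ⁅y * y', w⁆ = ⁅y, w⁆ * ⁅y', w⁆ := by
        have hz' := hcommZ y' hy'R w hwR
        calc ⁅y * y', w⁆ = y * ⁅y', w⁆ * y⁻¹ * ⁅y, w⁆ := by
              simp only [commutatorElement_def]; group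
          _ = ⁅y', w⁆ * ⁅y, w⁆ := by rw [hz'.2 y hy, mul_inv_cancel_right]
          _ = _ := (hz'.2 _ (hcommZ y hy w hwR).1).symm
      rw [hfs, ← hv, h1, hc, hvv, hy', pow_succ, h2]
      have h3 := (hcommZ y hy w hwR).2 (w * w) (mul_mem hwR hwR)
      calc (w * w) ^ m * ⁅y, w⁆ * (w * w) * ⁅y', w⁆
          = (w * w) ^ m * (⁅y, w⁆ * (w * w)) * ⁅y', w⁆ := by group
        _ = (w * w) ^ m * ((w * w) * ⁅y, w⁆) * ⁅y', w⁆ := by rw [h3]
        _ = _ := by group
  obtain ⟨k, hk⟩ := hodd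
  have hT : w * f (2 * k) = 1 := by
    rw [htel, ← hk, pow_orderOf_eq_one]; simp
  have hT' : f (2 * k) = w⁻¹ := eq_inv_of_mul_eq_one_right hT
  obtain ⟨y, hy, hyeq⟩ := hmain (2 * k)
  rw [hT', pow_mul, show (w * w) ^ 2 = 1 by rw [show (w * w) ^ 2 = w ^ 4 by simp [pow_succ, mul_assoc], h4 w hwR], one_pow, one_mul] at hyeq
  refine ⟨hwR, hreal w hwR y hy ?_⟩
  calc y * w * y⁻¹ = ⁅y, w⁆ * w := by rw [commutatorElement_def]; group
    _ = w⁻¹ := by rw [← hyeq]; group

/-- The criterion. -/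
theorem solvable_and_complement [Finite G]
    (hFT : ∀ (X : Type u) [Group X] [Finite X], Odd (Nat.card X) → Group.IsSolvable X) (a : ℕ)
    (h : ∀ x : G, IsConj x x⁻¹ → x ∉ center G →
      ((centralizer ({x} : Set G)).index).factorization 2 = a)
    (S : Sylow 2 G)
    (hS : ∀ s : ↥(S : Subgroup G), IsConj s s⁻¹ → s ∈ center ↥(S : Subgroup G)) :
    Group.IsSolvable G ∧
      Cfsg.HasNormalPComplement 2 ↥(closure {g : G | ∃ k : ℕ, orderOf g = 2 ^ k}) := by
  haveI := Fact.mk Nat.prime_two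
  -- real elements in any Sylow subgroup are central there
  have hT : ∀ (T : Sylow 2 G) (x y : G), x ∈ (T : Subgroup G) → y ∈ (T : Subgroup G) →
      y * x * y⁻¹ = x⁻¹ → ∀ r ∈ (T : Subgroup G), r * x = x * r := by
    intro T x y hx hy hxy r hr
    obtain ⟨g, hg⟩ := MulAction.exists_smul_eq G T S
    have hm : ∀ w ∈ (T : Subgroup G), g * w * g⁻¹ ∈ (S : Subgroup G) := fun w hw => by
      rw [← hg, Sylow.smul_def, Sylow.pointwise_smul_def]
      exact Subgroup.smul_mem_pointwise_smul w (MulAut.conj g) _ hw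
    have h1 := hS ⟨_, hm x hx⟩ (isConj_iff.mpr ⟨⟨_, hm y hy⟩, Subtype.ext (by
      show g * y * g⁻¹ * (g * x * g⁻¹) * (g * y * g⁻¹)⁻¹ = (g * x * g⁻¹)⁻¹
      rw [show g * y * g⁻¹ * (g * x * g⁻¹) * (g * y * g⁻¹)⁻¹ = g * (y * x * y⁻¹) * g⁻¹ by group, hxy]
      group)⟩)
    have h2 := congrArg Subtype.val (mem_center_iff.mp h1 ⟨_, hm r hr⟩)
    have h3 := congrArg (fun w => g⁻¹ * w * g) h2
    simpa [mul_assoc] using h3
  -- involutions commute with the 2-groups containing them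
  have hinv : ∀ (T : Sylow 2 G) (t : G), t ∈ (T : Subgroup G) → t * t = 1 →
      ∀ r ∈ (T : Subgroup G), r * t = t * r := fun T t ht ht2 =>
    hT T t 1 ht (one_mem _) (by rw [one_mul, inv_one, mul_one, inv_eq_of_mul_eq_one_right ht2])
  -- every involution lies in the 2-core
  have hcore : ∀ t : G, orderOf t = 2 → ∃ N : Subgroup G, N.Normal ∧ IsPGroup 2 N ∧ t ∈ N := by
    intro t ht
    by_cases htc : t ∈ center G
    · refine ⟨zpowers t, ⟨fun n hn g => ?_⟩, IsPGroup.of_card (n := 1)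
        (by rw [Nat.card_zpowers, ht, pow_one]), mem_zpowers t⟩
      rwa [mem_center_iff.mp ((zpowers_le.mpr htc) hn) g, mul_inv_cancel_right]
    by_contra hno
    push Not at hno
    obtain ⟨x, hx1, hxodd, hxt⟩ := BaerSuzuki.exists_inverted_odd t ht fun N hN hN2 => hno N hN hN2
    have ht2 : t * t = 1 := by rw [← pow_two, ← ht, pow_orderOf_eq_one]
    have hodd : ∀ y : G, IsConj y y⁻¹ → y ∉ center G → a = 0 →
        ¬ 2 ∣ (centralizer ({y} : Set G)).index := by
      intro y hy hyc ha hd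
      have := h y hy hyc
      rw [ha] at this
      exact Nat.lt_irrefl 0 (this ▸ Nat.Prime.factorization_pos_of_dvd Nat.prime_two
        Subgroup.index_ne_zero_of_finite hd)
    have ha : a = 0 := by
      rw [← h t (by rw [inv_eq_of_mul_eq_one_right ht2]) htc]
      refine Nat.factorization_eq_zero_of_not_dvd fun hd => ?_
      obtain ⟨T, hT'⟩ := (IsPGroup.of_card (n := 1) (by rw [Nat.card_zpowers, ht, pow_one]) :
        IsPGroup 2 (zpowers t)).exists_le_sylow
      refine T.not_dvd_index (hd.trans (Subgroup.index_dvd_of_le fun r hr => ?_))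
      exact mem_centralizer_singleton_iff.mpr (hinv T t (hT' (mem_zpowers t)) ht2 r hr)
    have hxc : x ∉ center G := by
      intro hc
      have h1 : x = x⁻¹ := by
        rw [← hxt, mem_center_iff.mp hc t, mul_inv_cancel_right]
      have h2 : x ^ 2 = 1 := by rw [pow_two]; nth_rewrite 2 [h1]; rw [mul_inv_cancel]
      exact hx1 (orderOf_eq_one_iff.mp (Nat.eq_one_of_dvd_coprimes
        (Nat.coprime_two_right.mpr hxodd) dvd_rfl (orderOf_dvd_of_pow_eq_one h2)))
    apply hodd x (isConj_iff.mpr ⟨t, hxt⟩) hxc ha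
    -- the extended centralizer has index two over the centralizer
    let K : Subgroup G :=
      { carrier := {g | g * x * g⁻¹ = x ∨ g * x * g⁻¹ = x⁻¹}
        one_mem' := Or.inl (by simp)
        mul_mem' := by
          intro g k hg hk
          simp only [Set.mem_ofPred_eq] at hg hk ⊢
          rw [show g * k * x * (g * k)⁻¹ = g * (k * x * k⁻¹) * g⁻¹ by group]
          rcases hk with e | e <;> rw [e]
          · exact hg
          · rw [show g * x⁻¹ * g⁻¹ = (g * x * g⁻¹)⁻¹ by group]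
            rcases hg with e' | e' <;> rw [e']
            · exact Or.inr rfl
            · exact Or.inl (inv_inv x)
        inv_mem' := by
          intro g hg
          simp only [Set.mem_ofPred_eq] at hg ⊢
          rcases hg with e | e
          · left
            calc g⁻¹ * x * g⁻¹⁻¹ = g⁻¹ * (g * x * g⁻¹) * g := by rw [e]; group
              _ = x := by group
          · right
            calc g⁻¹ * x * g⁻¹⁻¹ = (g⁻¹ * (g * x * g⁻¹) * g)⁻¹ := by rw [e]; group
              _ = x⁻¹ := by group }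
    have htK : t ∈ K := Or.inr hxt
    set C := centralizer ({x} : Set G) with hCdef
    have hCK : C ≤ K := fun g hg => Or.inl (by
      rw [mem_centralizer_singleton_iff.mp hg, mul_inv_cancel_right])
    have htC : t ∉ C := fun hc => by
      have h1 : x = x⁻¹ := by rw [← hxt, mem_centralizer_singleton_iff.mp hc, mul_inv_cancel_right]
      have h2 : x ^ 2 = 1 := by rw [pow_two]; nth_rewrite 2 [h1]; rw [mul_inv_cancel]
      exact hx1 (orderOf_eq_one_iff.mp (Nat.eq_one_of_dvd_coprimes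
        (Nat.coprime_two_right.mpr hxodd) dvd_rfl (orderOf_dvd_of_pow_eq_one h2)))
    have hidx : C.relIndex K = 2 := by
      rw [Subgroup.relIndex, Subgroup.index_eq_two_iff]
      refine ⟨⟨t, htK⟩, fun g => ?_⟩
      simp only [mem_subgroupOf, Subgroup.coe_mul]
      rcases g.2 with e | e
      · refine Or.inr ⟨mem_centralizer_singleton_iff.mpr (mul_inv_eq_iff_eq_mul.mp e), fun hc => htC ?_⟩
        have := C.mul_mem (C.inv_mem (mem_centralizer_singleton_iff.mpr (mul_inv_eq_iff_eq_mul.mp e) :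
          (g : G) ∈ C)) hc
        rwa [inv_mul_cancel_left] at this
      · refine Or.inl ⟨mem_centralizer_singleton_iff.mpr (mul_inv_eq_iff_eq_mul.mp ?_), fun hc => ?_⟩
        · calc (g : G) * t * x * ((g : G) * t)⁻¹ = g * (t * x * t⁻¹) * (g : G)⁻¹ := by group
            _ = ((g : G) * x * (g : G)⁻¹)⁻¹ := by rw [hxt]; group
            _ = x := by rw [e, inv_inv]
        · have h1 : x = x⁻¹ := by
            rw [← e, mem_centralizer_singleton_iff.mp hc, mul_inv_cancel_right]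
          have h2 : x ^ 2 = 1 := by rw [pow_two]; nth_rewrite 2 [h1]; rw [mul_inv_cancel]
          exact hx1 (orderOf_eq_one_iff.mp (Nat.eq_one_of_dvd_coprimes
            (Nat.coprime_two_right.mpr hxodd) dvd_rfl (orderOf_dvd_of_pow_eq_one h2)))
    exact ⟨K.index, by rw [← relIndex_mul_index hCK, hidx]⟩
  set L := closure {g : G | ∃ k : ℕ, orderOf g = 2 ^ k} with hL
  have hcent : ∀ t : G, t * t = 1 → L ≤ centralizer ({t} : Set G) := by
    intro t ht
    by_cases ht1 : t = 1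
    · intro g _; rw [mem_centralizer_singleton_iff, ht1, mul_one, one_mul]
    obtain ⟨N, hN, hN2, htN⟩ := hcore t (orderOf_eq_prime (by rw [pow_two, ht]) ht1)
    refine (closure_le _).mpr ?_
    rintro g ⟨k, hk⟩
    haveI := hN
    obtain ⟨T, hT'⟩ := (hN2.to_sup_of_normal_left (IsPGroup.of_card (n := k)
      (by rw [Nat.card_zpowers, hk]) : IsPGroup 2 (zpowers g))).exists_le_sylow
    exact mem_centralizer_singleton_iff.mpr
      (hinv T t (hT' (mem_sup_left htN)) ht g (hT' (mem_sup_right (mem_zpowers g))))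
  have hcompl : Cfsg.HasNormalPComplement 2 ↥L := by
    obtain ⟨P⟩ : Nonempty (Sylow 2 ↥L) := inferInstance
    refine TransferOmega.hasNormalPComplement_of_small P fun R hRP hsmall g hg hcop => ?_
    have hR2 : IsPGroup 2 R := P.isPGroup'.to_le hRP
    obtain ⟨T, hT'⟩ := ((P.isPGroup').map L.subtype).exists_le_sylow
    have hmem : ∀ r ∈ R, (r : G) ∈ (T : Subgroup G) := fun r hr => hT' ⟨r, hRP hr, rfl⟩
    refine centralizes_exp_four R hR2 (fun x hx => ?_) (fun x hx y hy hxy r hr => ?_) hg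
      (Nat.coprime_two_right.mp hcop) fun x _ hx2 => ?_
    · rcases hsmall x hx with h2 | ⟨-, h4⟩
      · rw [show (4 : ℕ) = 2 * 2 from rfl, pow_mul, h2, one_pow]
      · exact h4
    · exact Subtype.ext (hT T x y (hmem x hx) (hmem y hy) (congrArg Subtype.val hxy) r (hmem r hr))
    · rw [mul_inv_eq_iff_eq_mul]
      exact Subtype.ext (mem_centralizer_singleton_iff.mp
        (hcent x (congrArg Subtype.val hx2) g.2))
  refine ⟨?_, hcompl⟩
  obtain ⟨P, N, hN, hc⟩ := hcompl
  haveI := hN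
  haveI : Group.IsSolvable ↥L := by
    haveI : Group.IsSolvable ↥N := hFT N (by
      rw [← hc.index_eq_card, ← Nat.not_even_iff_odd, even_iff_two_dvd]
      exact P.not_dvd_index)
    haveI : Group.IsSolvable (↥L ⧸ N) := by
      have hp : IsPGroup 2 (↥L ⧸ N) := by
        obtain ⟨j, hj⟩ := IsPGroup.iff_card.mp P.isPGroup'
        exact IsPGroup.of_card (n := j) (by rw [← Subgroup.index_eq_card, hc.symm.index_eq_card, hj])
      haveI := hp.isNilpotent
      infer_instance
    exact (Group.isSolvable_iff_subgroup_quotient N).mpr ⟨inferInstance, inferInstance⟩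
  haveI hLn : L.Normal := by
    refine ⟨fun n hn g => ?_⟩
    have : L.map (MulAut.conj g).toMonoidHom ≤ L := by
      rw [hL, MonoidHom.map_closure]
      refine (closure_mono ?_)
      rintro _ ⟨w, ⟨k, hk⟩, rfl⟩
      exact ⟨k, by
        show orderOf ((MulAut.conj g) w) = 2 ^ k
        rw [MulEquiv.orderOf_eq]; exact hk⟩
    exact this ⟨n, hn, rfl⟩
  haveI : Group.IsSolvable (G ⧸ L) := by
    refine hFT _ ?_
    rw [← Subgroup.index_eq_card, ← Nat.not_even_iff_odd, even_iff_two_dvd]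
    intro hd
    obtain ⟨T⟩ : Nonempty (Sylow 2 G) := inferInstance
    refine T.not_dvd_index (hd.trans (Subgroup.index_dvd_of_le fun r hr => subset_closure ?_))
    obtain ⟨k, hk⟩ := IsPGroup.iff_orderOf.mp T.isPGroup' ⟨r, hr⟩
    rw [Subgroup.orderOf_mk] at hk
    exact ⟨k, hk⟩
  exact (Group.isSolvable_iff_subgroup_quotient L).mpr ⟨inferInstance, inferInstance⟩

end Cfsg.Agent.RealCentralTwo67
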