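import Mathlib
import Cfsg.Prelude.Def_Blocks
import Cfsg.Agent.Lib.RealChars
import Cfsg.Agent.Lib.CharBasicLinear
import Cfsg.Agent.Lib.CharKernel
import Cfsg.Agent.Lib.DegreeDvd
import Cfsg.Agent.Lib.HallSolvable

/-!
# Groups whose real characters have degree prime to `p`

With the subgroup generated by the `p`-elements solvable, the Sylow `p`-subgroup of every normal
`U` containing `O^{2'}(G)` with `p`-power index over it is normal.
-/

set_option autoImplicit false

open scoped ComplexConjugate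

namespace Cfsg.Agent.RealDegree

open Cfsg.Agent.CharBasic Cfsg.Agent.CharBasicOrth Cfsg.Agent.CharBasicDecomp
open Cfsg.Agent.RealChars

universe u

variable {G : Type u} [Group G]

/-- The subgroup generated by the elements of `p`-power order. -/
def pGen (p : ℕ) (G : Type*) [Group G] : Subgroup G :=
  Subgroup.closure {g : G | ∃ k : ℕ, orderOf g = p ^ k}

theorem mem_pGen {p : ℕ} {g : G} {k : ℕ} (hg : orderOf g = p ^ k) : g ∈ pGen p G :=
  Subgroup.subset_closure ⟨k, hg⟩

theorem pGen_normal (p : ℕ) : (pGen p G).Normal := by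
  constructor
  intro n hn g
  have hle : pGen p G ≤ (pGen p G).comap (MulAut.conj g).toMonoidHom := by
    conv_lhs => rw [pGen]
    rw [Subgroup.closure_le]
    rintro x ⟨k, hk⟩
    exact mem_pGen (k := k) (((MulAut.conj g).orderOf_eq x).trans hk)
  exact hle hn

/-- Prime-power order elements of a quotient lift. -/
theorem exists_lift [Finite G] {H : Type*} [Group H] {p : ℕ} (hp : p.Prime) (f : G →* H)
    (hf : Function.Surjective f) (x : H) {k : ℕ} (hx : orderOf x = p ^ k) :
    ∃ g : G, f g = x ∧ ∃ j : ℕ, orderOf g = p ^ j := by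
  obtain ⟨g, rfl⟩ := hf x
  set a := (orderOf g).factorization p with ha
  set m := ordCompl[p] (orderOf g) with hm
  have hgm : p ^ a * m = orderOf g := Nat.ordProj_mul_ordCompl_eq_self _ p
  have hcop : Nat.Coprime m (p ^ k) :=
    ((Nat.coprime_ordCompl hp (orderOf_pos g).ne').pow_left k).symm
  refine ⟨g ^ (m * (m.gcdA (p ^ k) % (p ^ k : ℕ)).toNat), ?_, ?_⟩
  · rw [map_pow, ← hx]
    conv_rhs => rw [← pow_one (f g)]
    rw [pow_eq_pow_iff_modEq, hx]
    have hb := Nat.gcd_eq_gcd_ab m (p ^ k)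
    rw [hcop.gcd_eq_one] at hb
    have hpk : (0 : ℤ) < ((p ^ k : ℕ) : ℤ) := by exact_mod_cast pow_pos hp.pos k
    rw [← Int.natCast_modEq_iff]
    push_cast
    push_cast at hpk
    rw [Int.toNat_of_nonneg (Int.emod_nonneg _ hpk.ne')]
    have h2 : (m : ℤ) * (m.gcdA (p ^ k) % ((p ^ k : ℕ) : ℤ)) ≡ (m : ℤ) * m.gcdA (p ^ k)
        [ZMOD ((p ^ k : ℕ) : ℤ)] := Int.ModEq.mul_left _ (Int.mod_modEq _ _)
    have h3 : (m : ℤ) * m.gcdA (p ^ k) ≡ 1 [ZMOD ((p ^ k : ℕ) : ℤ)] := by
      rw [Int.modEq_iff_dvd]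
      exact ⟨m.gcdB (p ^ k), by push_cast at hb ⊢; linarith⟩
    have h4 := h2.trans h3
    push_cast at h4
    exact h4
  · have hd : (g ^ (m * (m.gcdA (p ^ k) % (p ^ k : ℕ)).toNat)) ^ (p ^ a) = 1 := by
      rw [← pow_mul, mul_right_comm, mul_comm m (p ^ a), hgm, pow_mul, pow_orderOf_eq_one, one_pow]
    obtain ⟨j, -, hj⟩ := (Nat.dvd_prime_pow hp).mp (orderOf_dvd_of_pow_eq_one hd)
    exact ⟨j, hj⟩

theorem map_pGen [Finite G] {H : Type*} [Group H] {p : ℕ} (hp : p.Prime) (f : G →* H)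
    (hf : Function.Surjective f) : (pGen p G).map f = pGen p H := by
  rw [pGen, MonoidHom.map_closure, pGen]
  congr 1
  ext x
  constructor
  · rintro ⟨g, ⟨k, hk⟩, rfl⟩
    obtain ⟨j, -, hj⟩ := (Nat.dvd_prime_pow hp).mp (hk ▸ orderOf_map_dvd f g)
    exact ⟨j, hj⟩
  · rintro ⟨k, hk⟩
    obtain ⟨g, hg, hj⟩ := exists_lift hp f hf x hk
    exact ⟨g, hj, hg⟩

/-- A normal subgroup on which the character sum is nonzero lies in the kernel. -/
theorem le_ker_of_sum_ne_zero [Finite G] (χ : Cfsg.IrrCharacter G) (M : Subgroup G) [hM : M.Normal]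
    [Fintype M] (h : ∑ m : M, (χ : G → ℂ) m ≠ 0) :
    ∀ m ∈ M, (χ : G → ℂ) m = (χ : G → ℂ) 1 := by
  obtain ⟨n, ρ, hi, he⟩ := χ.2
  set E : Module.End ℂ (Fin n → ℂ) := ∑ m : M, ρ m with hE
  have hcomm : ∀ (g : G) (v : Fin n → ℂ), E (ρ g v) = ρ g (E v) := by
    intro g v
    simp only [hE, LinearMap.sum_apply, map_sum]
    refine Fintype.sum_equiv (MulAut.conjNormal g⁻¹).toEquiv _ _ fun m => ?_
    simp only [MulEquiv.toEquiv_eq_coe, EquivLike.coe_coe]
    rw [← Module.End.mul_apply, ← map_mul, ← Module.End.mul_apply, ← map_mul,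
      MulAut.conjNormal_apply]
    congr 2
    group
  obtain ⟨c, hc, htr⟩ := exists_scalar_of_commute ρ E hcomm
  have hsum : LinearMap.trace ℂ (Fin n → ℂ) E = ∑ m : M, (χ : G → ℂ) m := by
    rw [hE, map_sum, ← he]; rfl
  have hc0 : c ≠ 0 := fun h0 => h (by rw [← hsum, htr, h0, mul_zero])
  intro m hm
  have hmul : ρ m * E = E := by
    rw [hE, Finset.mul_sum]
    refine Fintype.sum_equiv (Equiv.mulLeft ⟨m, hm⟩) _ _ fun x => ?_
    rw [← map_mul]; rfl
  rw [hc, mul_smul_comm, ← Module.End.one_eq_id, mul_one] at hmul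
  have hid : ρ m = 1 := smul_right_injective _ hc0 hmul
  rw [← he, Representation.char_one, Representation.character, hid, LinearMap.trace_one]

/-- A character of degree prime to `p` of a group has an irreducible constituent of degree prime
to `p`. -/
theorem exists_constituent [Fintype G] {p : ℕ} {a : G → ℂ} (ha : Cfsg.IsCharacter G a) {n : ℕ}
    (han : a 1 = n) (hn : ¬ p ∣ n) :
    ∃ (ψ : Cfsg.IrrCharacter G) (d : ℕ), (ψ : G → ℂ) 1 = d ∧ ¬ p ∣ d ∧
      Cfsg.classInner a (ψ : G → ℂ) ≠ 0 := by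
  choose d hd using fun ψ : Cfsg.IrrCharacter G => isIrrCharacter_apply_one ψ.2
  obtain ⟨m, hm, hsum⟩ := exists_mult ha
  by_contra hcon
  push Not at hcon
  apply hn
  have h1 : n = ∑ ψ, m ψ * d ψ := by
    apply Nat.cast_injective (R := ℂ)
    rw [← han, hsum, Finset.sum_apply, Nat.cast_sum]
    exact Finset.sum_congr rfl fun ψ _ => by
      rw [Pi.smul_apply, smul_eq_mul, (hd ψ).2, Nat.cast_mul]
  rw [h1]
  refine Finset.dvd_sum fun ψ _ => ?_
  by_cases hp' : p ∣ d ψ
  · exact hp'.mul_left _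
  · have := hcon ψ (d ψ) (hd ψ).2 hp'
    rw [hm ψ, Nat.cast_eq_zero] at this
    simp [this]

/-- If the restriction to a subgroup `X ≥ N` has a linear constituent trivial on the normal
subgroup `N`, then `N` is in the kernel. -/
theorem le_ker_of_linear_constituent [Finite G] (χ : Cfsg.IrrCharacter G) (N X : Subgroup G)
    [N.Normal] [Fintype X] (hNX : N ≤ X) (lam : X →* ℂˣ)
    (hlam : ∀ x : X, (x : G) ∈ N → lam x = 1)
    (hne : Cfsg.classInner (fun x : X => (χ : G → ℂ) x) (fun x : X => (lam x : ℂ)) ≠ 0) :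
    ∀ m ∈ N, (χ : G → ℂ) m = (χ : G → ℂ) 1 := by
  classical
  haveI : Fintype G := Fintype.ofFinite G
  haveI : Fintype N := Fintype.ofFinite N
  refine le_ker_of_sum_ne_zero χ N ?_
  have hres : Cfsg.IsCharacter X (fun x : X => (χ : G → ℂ) x) :=
    isCharacter_comap X.subtype (isCharacter_of_isIrrCharacter χ.2)
  obtain ⟨k, ρ, hρ⟩ := hres
  obtain ⟨m, hm, hsum⟩ := exists_mult (χ := fun n : N => (χ : G → ℂ) n)
    (isCharacter_comap N.subtype (isCharacter_of_isIrrCharacter χ.2))
  -- count through the multiplicity of the trivial character of `N`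
  intro h0
  apply hne
  obtain ⟨mX, hmX, hsumX⟩ := exists_mult (χ := fun x : X => (χ : G → ℂ) x)
    (isCharacter_comap X.subtype (isCharacter_of_isIrrCharacter χ.2))
  have hkey : (∑ n : N, (χ : G → ℂ) n) =
      ∑ ψ, (mX ψ : ℂ) * ∑ n : N, (ψ : X → ℂ) (Subgroup.inclusion hNX n) := by
    simp only [Finset.mul_sum]
    rw [Finset.sum_comm]
    refine Finset.sum_congr rfl fun n _ => ?_
    have := congrFun hsumX (Subgroup.inclusion hNX n)
    simp only [Finset.sum_apply, Pi.smul_apply, smul_eq_mul] at this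
    exact this
  have hnat : ∀ ψ : Cfsg.IrrCharacter X,
      ∃ t : ℕ, ∑ n : N, (ψ : X → ℂ) (Subgroup.inclusion hNX n) = (Nat.card N : ℂ) * t := by
    intro ψ
    obtain ⟨t, ht⟩ := classInner_isCharacter
      (isCharacter_comap (Subgroup.inclusion hNX) (isCharacter_of_isIrrCharacter ψ.2))
      (isCharacter_one (G := N))
    refine ⟨t, ?_⟩
    rw [← ht, card_mul_classInner]
    simp
  choose t ht using hnat
  set ψ0 : Cfsg.IrrCharacter X := ⟨fun x => (lam x : ℂ), isIrrCharacter_linear lam⟩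
  have ht0 : t ψ0 = 1 := by
    have := ht ψ0
    simp only [ψ0] at this
    rw [Finset.sum_congr rfl (fun n _ => by rw [hlam _ n.2, Units.val_one])] at this
    simp only [Finset.sum_const, Finset.card_univ, nsmul_eq_mul, mul_one,
      ← Nat.card_eq_fintype_card] at this
    have hN : (Nat.card N : ℂ) ≠ 0 := Nat.cast_ne_zero.mpr Nat.card_pos.ne'
    exact_mod_cast (mul_left_cancel₀ hN ((mul_one _).trans this)).symm
  have h1 : (Nat.card N : ℂ) * ((∑ ψ, mX ψ * t ψ : ℕ) : ℂ) = 0 := by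
    rw [← h0, hkey, Nat.cast_sum, Finset.mul_sum]
    exact Finset.sum_congr rfl fun ψ _ => by rw [ht ψ, Nat.cast_mul]; ring
  rw [mul_eq_zero, Nat.cast_eq_zero, Nat.cast_eq_zero, Finset.sum_eq_zero_iff] at h1
  have := (h1.resolve_left Nat.card_pos.ne') ψ0 (Finset.mem_univ _)
  rw [ht0, mul_one] at this
  have h2 := hmX ψ0
  rw [this, Nat.cast_zero] at h2
  exact h2

/-- A normal subgroup inside the derived subgroup of a `p`-subgroup is in the kernel of every
irreducible character of degree prime to `p`. -/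
theorem le_ker_of_le_commutator [Finite G] {p : ℕ} [hp : Fact p.Prime] (χ : Cfsg.IrrCharacter G)
    (hχ : ¬ p ∣ Cfsg.charDegree (χ : G → ℂ)) (P M : Subgroup G) (hP : IsPGroup p P) [M.Normal]
    (hMP : M ≤ ⁅P, P⁆) : ∀ m ∈ M, (χ : G → ℂ) m = (χ : G → ℂ) 1 := by
  classical
  haveI : Fintype P := Fintype.ofFinite P
  have hPP : ⁅P, P⁆ ≤ P := Subgroup.commutator_le.mpr fun a ha b hb =>
    P.mul_mem (P.mul_mem (P.mul_mem ha hb) (P.inv_mem ha)) (P.inv_mem hb)
  have hres : Cfsg.IsCharacter P (fun x : P => (χ : G → ℂ) x) :=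
    isCharacter_comap P.subtype (isCharacter_of_isIrrCharacter χ.2)
  obtain ⟨ψ, d, hd, hpd, hne⟩ := exists_constituent (p := p) hres
    (n := Cfsg.charDegree (χ : G → ℂ)) (CharAverage.irr_apply_one χ) hχ
  obtain ⟨k, ρ, hi, he⟩ := ψ.2
  have hdvd : d ∣ Nat.card P := by
    have h1 := DegreeDvd.finrank_dvd_card ρ
    have h2 : (Module.finrank ℂ (Fin k → ℂ) : ℂ) = d := by
      rw [← hd, ← he, Representation.char_one]
    rwa [Nat.cast_injective h2] at h1
  obtain ⟨a, ha⟩ := IsPGroup.iff_card.mp hP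
  rw [ha] at hdvd
  obtain ⟨j, -, hj⟩ := (Nat.dvd_prime_pow hp.out).mp hdvd
  have hd1 : d = 1 := by
    rcases Nat.eq_zero_or_pos j with h0 | h0
    · rw [hj, h0, pow_zero]
    · exact absurd (hj ▸ dvd_pow_self p h0.ne') hpd
  subst hd1
  obtain ⟨lam, hlam⟩ := CharBasicLinear.exists_hom_of_apply_one_eq_one
    (isCharacter_of_isIrrCharacter ψ.2) (by rw [hd, Nat.cast_one])
  refine le_ker_of_linear_constituent χ M P (hMP.trans hPP) lam ?_ (by rwa [hlam] at hne)
  intro x hx
  have hker : (commutator P).map P.subtype ≤ (lam.ker).map P.subtype := by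
    refine Subgroup.map_mono ?_
    exact Abelianization.commutator_subset_ker lam
  have hx' : (x : G) ∈ (commutator P).map P.subtype := by
    rw [commutator_def, Subgroup.map_commutator, ← MonoidHom.range_eq_map, P.range_subtype]
    exact hMP hx
  obtain ⟨y, hy, hyx⟩ := hker hx'
  rw [← Subtype.ext hyx]
  exact hy

/-! ### Counting real classes -/

/-- A `2`-element not centralizing a subgroup it normalizes inverts a nontrivial element of it. -/
theorem exists_inverted [Finite G] (M : Subgroup G) [hM : M.Normal] {s : G} {a : ℕ}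
    (hs : orderOf s = 2 ^ a) (hnc : ¬ ∀ m ∈ M, s * m = m * s) :
    ∃ v ∈ M, v ≠ 1 ∧ IsConj v v⁻¹ := by
  classical
  have hP : ∃ j, ∀ m ∈ M, s ^ 2 ^ j * m = m * s ^ 2 ^ j :=
    ⟨a, fun m _ => by rw [← hs, pow_orderOf_eq_one, one_mul, mul_one]⟩
  have hj0 : Nat.find hP ≠ 0 := by
    intro h0
    apply hnc
    have := Nat.find_spec hP
    rw [h0, pow_zero, pow_one] at this
    exact this
  obtain ⟨j, hj⟩ := Nat.exists_eq_succ_of_ne_zero hj0
  have hnot := Nat.find_min hP (show j < Nat.find hP by omega)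
  have hsq := Nat.find_spec hP
  rw [hj, Nat.succ_eq_add_one, pow_succ, pow_mul, pow_two] at hsq
  push Not at hnot
  obtain ⟨m, hm, hne⟩ := hnot
  set t := s ^ 2 ^ j with ht
  refine ⟨m⁻¹ * (t * m * t⁻¹), mul_mem (inv_mem hm) (hM.conj_mem m hm t), ?_, ?_⟩
  · intro h1
    apply hne
    calc t * m = t * m * t⁻¹ * t := by group
      _ = m * t := by rw [← inv_mul_eq_one.mp h1]
  · refine isConj_iff.mpr ⟨t, ?_⟩
    calc t * (m⁻¹ * (t * m * t⁻¹)) * t⁻¹ = (t * m * t⁻¹)⁻¹ * ((t * t) * m * (t * t)⁻¹) := by group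
      _ = (t * m * t⁻¹)⁻¹ * m := by rw [hsq m hm, mul_inv_cancel_right]
      _ = (m⁻¹ * (t * m * t⁻¹))⁻¹ := by group

/-- Real classes. -/
abbrev RealClass (G : Type*) [Group G] : Type _ :=
  {C : ConjClasses G // ∀ g : G, ConjClasses.mk g = C → IsConj g g⁻¹}

theorem real_of_conj {g h : G} (hgh : IsConj g h) (hg : IsConj g g⁻¹) : IsConj h h⁻¹ := by
  obtain ⟨c, rfl⟩ := isConj_iff.mp hgh
  refine (hgh.symm.trans hg).trans ?_
  rw [isConj_iff]
  exact ⟨c, by group⟩

/-- A normal subgroup of odd order containing a nontrivial real element is not in the kernel of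
every real irreducible character. -/
theorem exists_real_nontrivial [Finite G] (M : Subgroup G) [M.Normal] (hM : Odd (Nat.card M))
    {v : G} (hv : v ∈ M) (hv1 : v ≠ 1) (hvr : IsConj v v⁻¹) :
    ∃ χ : Cfsg.IrrCharacter G, (∀ g, ((χ : G → ℂ) g).im = 0) ∧
      ¬ ∀ m ∈ M, (χ : G → ℂ) m = (χ : G → ℂ) 1 := by
  classical
  by_contra hcon
  push Not at hcon
  have e : {ψ : Cfsg.IrrCharacter (G ⧸ M) // ∀ q, ((ψ : G ⧸ M → ℂ) q).im = 0} ≃
      {χ : Cfsg.IrrCharacter G // ∀ g, ((χ : G → ℂ) g).im = 0} :=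
    { toFun := fun ψ => ⟨(CharKernel.quotEquiv M ψ.1).1, fun g => ψ.2 g⟩
      invFun := fun χ => ⟨(CharKernel.quotEquiv M).symm ⟨χ.1, hcon χ.1 χ.2⟩, fun q => by
        obtain ⟨g, rfl⟩ := QuotientGroup.mk_surjective q
        rw [← CharKernel.quotEquiv_apply, Equiv.apply_symm_apply]
        exact χ.2 g⟩
      left_inv := fun ψ => Subtype.ext (by
        show (CharKernel.quotEquiv M).symm ⟨(CharKernel.quotEquiv M ψ.1).1, _⟩ = ψ.1
        exact (CharKernel.quotEquiv M).symm_apply_apply ψ.1)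
      right_inv := fun χ => Subtype.ext (by
        show ((CharKernel.quotEquiv M) ((CharKernel.quotEquiv M).symm ⟨χ.1, _⟩)).1 = χ.1
        rw [Equiv.apply_symm_apply]) }
  have hcard : Nat.card (RealClass G) = Nat.card (RealClass (G ⧸ M)) := by
    rw [RealClass, RealClass, ← card_real_eq, ← card_real_eq]
    exact Nat.card_congr e.symm
  let f : RealClass G → RealClass (G ⧸ M) := fun C =>
    ⟨ConjClasses.map (QuotientGroup.mk' M) C.1, by
      intro q hq
      obtain ⟨C, hC⟩ := C
      obtain ⟨g, rfl⟩ := ConjClasses.mk_surjective C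
      have hg := hC g rfl
      have h1 : IsConj (g : G ⧸ M) (g : G ⧸ M)⁻¹ := by
        rw [← QuotientGroup.mk_inv]
        exact (QuotientGroup.mk' M).map_isConj hg
      exact real_of_conj (ConjClasses.mk_eq_mk_iff_isConj.mp hq.symm) h1⟩
  have hfs : Function.Surjective f := by
    rintro ⟨D, hD⟩
    obtain ⟨q, rfl⟩ := ConjClasses.mk_surjective D
    obtain ⟨x, rfl⟩ := QuotientGroup.mk_surjective q
    obtain ⟨y, hy, hyr⟩ := exists_real_lift M hM x (hD _ rfl)
    refine ⟨⟨ConjClasses.mk y, fun g hg =>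
      real_of_conj (ConjClasses.mk_eq_mk_iff_isConj.mp hg).symm hyr⟩, Subtype.ext ?_⟩
    show ConjClasses.mk ((QuotientGroup.mk' M) y) = _
    rw [QuotientGroup.mk'_apply, hy]
  haveI : Finite (ConjClasses G) := inferInstance
  have hbij : Function.Bijective f :=
    (Nat.bijective_iff_surjective_and_card f).mpr ⟨hfs, hcard⟩
  have h1 : IsConj (1 : G) 1⁻¹ := by rw [inv_one]
  have heq := hbij.1 (a₁ := ⟨ConjClasses.mk 1, fun g hg =>
      real_of_conj (ConjClasses.mk_eq_mk_iff_isConj.mp hg).symm h1⟩)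
    (a₂ := ⟨ConjClasses.mk v, fun g hg =>
      real_of_conj (ConjClasses.mk_eq_mk_iff_isConj.mp hg).symm hvr⟩)
    (Subtype.ext (by
      show ConjClasses.mk ((QuotientGroup.mk' M) 1) = ConjClasses.mk ((QuotientGroup.mk' M) v)
      rw [map_one, QuotientGroup.mk'_apply, (QuotientGroup.eq_one_iff v).mpr hv]))
  exact hv1 (isConj_one_right.mp (ConjClasses.mk_eq_mk_iff_isConj.mp (congrArg Subtype.val heq)))

/-- A nontrivial normal `2`-subgroup `N` with a complement is not in the kernel of every real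
irreducible character. -/
theorem exists_real_nontrivial_of_split [Finite G] (N H : Subgroup G) [hNn : N.Normal]
    (hN1 : N ≠ ⊥) (hN2 : ∀ n ∈ N, n * n = 1) (hc : Subgroup.IsComplement' N H) :
    ∃ χ : Cfsg.IrrCharacter G, (∀ g, ((χ : G → ℂ) g).im = 0) ∧
      ¬ ∀ m ∈ N, (χ : G → ℂ) m = (χ : G → ℂ) 1 := by
  classical
  by_contra hcon
  push Not at hcon
  haveI : Fintype G := Fintype.ofFinite G
  haveI : Fintype N := Fintype.ofFinite N
  have hconst : ∀ v ∈ N, Nat.card {x : G // x * x = v} = Nat.card {x : G // x * x = 1} := by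
    intro v hv
    apply Nat.cast_injective (R := ℂ)
    rw [sqrtCount_eq, sqrtCount_eq]
    refine Finset.sum_congr rfl fun χ _ => ?_
    by_cases h : nu (χ : G → ℂ) = 0
    · rw [h, zero_mul, zero_mul]
    · rw [hcon χ (real_of_nu_ne_zero χ h) v hv]
  -- the elements with square in `N`
  let J := {h : H // (h : G) * h = 1}
  have hA : Nat.card {x : G // x * x ∈ N} = Nat.card N * Nat.card J := by
    rw [← Nat.card_prod]
    refine (Nat.card_congr ?_).symm
    refine Equiv.ofBijective (fun nj : N × J => ⟨(nj.1 : G) * (nj.2.1 : G), by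
      have h2 := nj.2.2
      rw [show (nj.1 : G) * (nj.2.1 : G) * ((nj.1 : G) * (nj.2.1 : G)) =
        (nj.1 : G) * ((nj.2.1 : G) * (nj.1 : G) * (nj.2.1 : G)⁻¹) * ((nj.2.1 : G) * (nj.2.1 : G)) by
          group, h2, mul_one]
      exact mul_mem nj.1.2 (hNn.conj_mem _ nj.1.2 _)⟩) ⟨?_, ?_⟩
    · intro a b hab
      have hab' : (a.1 : G) * (a.2.1 : G) = (b.1 : G) * (b.2.1 : G) := congrArg Subtype.val hab
      have := hc.1 (a₁ := (⟨a.1.1, a.1.2⟩, ⟨a.2.1.1, a.2.1.2⟩))
        (a₂ := (⟨b.1.1, b.1.2⟩, ⟨b.2.1.1, b.2.1.2⟩)) hab'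
      simp only [Prod.ext_iff, Subtype.ext_iff] at this
      exact Prod.ext (Subtype.ext this.1) (Subtype.ext (Subtype.ext this.2))
    · rintro ⟨x, hx⟩
      obtain ⟨⟨n, h⟩, hnh⟩ := hc.2 x
      simp only at hnh
      have hh : (h : G) * h = 1 := by
        refine Subgroup.disjoint_def.mp hc.disjoint ?_ (mul_mem h.2 h.2)
        have e : (h : G) * h = ((n : G) * ((h : G) * n * (h : G)⁻¹))⁻¹ * (x * x) := by
          rw [← hnh]; group
        rw [e]
        exact mul_mem (inv_mem (mul_mem n.2 (hNn.conj_mem _ n.2 _))) hx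
      exact ⟨(⟨n, n.2⟩, ⟨h, hh⟩), Subtype.ext hnh⟩
  have hsum : Nat.card {x : G // x * x ∈ N} = Nat.card N * Nat.card {x : G // x * x = 1} := by
    rw [← Nat.card_congr (Equiv.sigmaFiberEquiv (fun x : {x : G // x * x ∈ N} => (⟨x.1 * x.1, x.2⟩ : N))),
      Nat.card_sigma]
    rw [Finset.sum_congr rfl (fun v _ => ?_), Finset.sum_const, Finset.card_univ, smul_eq_mul,
      Nat.card_eq_fintype_card (α := N)]
    rw [← hconst v v.2]
    refine Nat.card_congr ⟨fun x => ⟨x.1.1, congrArg Subtype.val x.2⟩,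
      fun x => ⟨⟨x.1, x.2.symm ▸ v.2⟩, Subtype.ext x.2⟩, fun x => rfl, fun x => rfl⟩
  have hJ : Nat.card {x : G // x * x = 1} = Nat.card J :=
    Nat.eq_of_mul_eq_mul_left Nat.card_pos (hsum.symm.trans hA)
  obtain ⟨v, hv, hv1⟩ := (Subgroup.nontrivial_iff_exists_ne_one N).mp
    ((Subgroup.nontrivial_iff_ne_bot N).mpr hN1)
  let g : J → {x : G // x * x = 1} := fun j => ⟨(j.1 : G), j.2⟩
  have hg : Function.Injective g := fun a b hab =>
    Subtype.ext (Subtype.ext (congrArg (fun z : {x : G // x * x = 1} => z.1) hab))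
  obtain ⟨⟨⟨w, hwH⟩, _⟩, hw⟩ :=
    ((Nat.bijective_iff_injective_and_card g).mpr ⟨hg, hJ.symm⟩).2 ⟨v, hN2 v hv⟩
  have hwv : w = v := congrArg Subtype.val hw
  exact hv1 (Subgroup.disjoint_def.mp hc.disjoint hv (hwv ▸ hwH))

/-! ### The main induction -/

/-- Characters of degree prime to `p` are trivial on an abelian normal `p'`-subgroup `N` on
which a `p`-subgroup `P` with `N P` normal acts without nontrivial fixed points. -/
theorem le_ker_of_fpf [Finite G] {p q : ℕ} [hp : Fact p.Prime] (hq : q.Prime) (hqp : q ≠ p)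
    (N P X : Subgroup G) [hNn : N.Normal] (hab : ∀ a ∈ N, ∀ b ∈ N, a * b = b * a)
    (hexp : ∀ a ∈ N, a ^ q = 1) (hP : IsPGroup p P) (hNX : N ≤ X) (hPX : P ≤ X)
    (hidx : ∃ a : ℕ, N.relIndex X = p ^ a)
    (hfix : ∀ n ∈ N, (∀ u ∈ P, u * n = n * u) → n = 1)
    (χ : Cfsg.IrrCharacter G) (hχ : ¬ p ∣ Cfsg.charDegree (χ : G → ℂ)) :
    ∀ m ∈ N, (χ : G → ℂ) m = (χ : G → ℂ) 1 := by
  classical
  haveI : Fintype X := Fintype.ofFinite X
  haveI : Fintype P := Fintype.ofFinite P
  have hres : Cfsg.IsCharacter X (fun x : X => (χ : G → ℂ) x) :=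
    isCharacter_comap X.subtype (isCharacter_of_isIrrCharacter χ.2)
  obtain ⟨ψ, d, hd, hpd, hne⟩ := exists_constituent (p := p) hres
    (n := Cfsg.charDegree (χ : G → ℂ)) (CharAverage.irr_apply_one χ) hχ
  haveI : (N.subgroupOf X).Normal := hNn.subgroupOf X
  obtain ⟨n', -, hn', hdvd⟩ := DegreeDvd.degree_dvd_index_abelian ψ.2 (N.subgroupOf X)
    (fun a b => Subtype.ext (Subtype.ext (hab _ a.2 _ b.2)))
  obtain ⟨a, ha⟩ := hidx
  have hdn : d = n' := Nat.cast_injective (R := ℂ) (hd.symm.trans hn')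
  subst hdn
  have hdvd' : d ∣ p ^ a := ha ▸ hdvd
  obtain ⟨j, -, hj⟩ := (Nat.dvd_prime_pow hp.out).mp hdvd'
  have hd1 : d = 1 := by
    rcases Nat.eq_zero_or_pos j with h0 | h0
    · rw [hj, h0, pow_zero]
    · exact absurd (hj ▸ dvd_pow_self p h0.ne') hpd
  subst hd1
  obtain ⟨lam, hlam⟩ := CharBasicLinear.exists_hom_of_apply_one_eq_one
    (isCharacter_of_isIrrCharacter ψ.2) (by rw [hd, Nat.cast_one])
  refine le_ker_of_linear_constituent χ N X hNX lam ?_ (by rwa [hlam] at hne)
  intro x hx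
  letI : CommGroup N := { (inferInstance : Group N) with
    mul_comm := fun a b => Subtype.ext (hab a a.2 b b.2) }
  let cj : P → N →* N := fun u => (MulAut.conjNormal (u : G)).toMonoidHom
  let z : N := ∏ u : P, cj u ⟨x, hx⟩
  have hz : z = 1 := by
    apply Subtype.ext
    refine hfix _ z.2 fun u hu => ?_
    have h1 : cj ⟨u, hu⟩ z = z := by
      simp only [z, map_prod]
      refine Fintype.prod_equiv (Equiv.mulLeft ⟨u, hu⟩) _ _ fun w => ?_
      simp [cj]
    have h2 : u * (z : G) * u⁻¹ = z := by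
      have h3 := congrArg (fun y : N => (y : G)) h1
      simpa [cj] using h3
    calc u * (z : G) = u * (z : G) * u⁻¹ * u := by group
      _ = (z : G) * u := by rw [h2]
  let mu : N →* ℂˣ := lam.comp (Subgroup.inclusion hNX)
  have hmu : ∀ (u : P) (n : N), mu (cj u n) = mu n := by
    intro u n
    have : Subgroup.inclusion hNX (cj u n) =
        ⟨(u : G), hPX u.2⟩ * Subgroup.inclusion hNX n * (⟨(u : G), hPX u.2⟩ : X)⁻¹ := by
      apply Subtype.ext
      simp [cj]
    simp only [mu, MonoidHom.comp_apply]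
    rw [this, map_mul, map_mul, map_inv, mul_comm, inv_mul_cancel_left]
  have hpow : mu ⟨x, hx⟩ ^ Nat.card P = 1 := by
    have h1 : mu z = 1 := by rw [hz, map_one]
    simp only [z, map_prod, hmu, Finset.prod_const, Finset.card_univ,
      ← Nat.card_eq_fintype_card] at h1
    exact h1
  have hpowq : mu ⟨x, hx⟩ ^ q = 1 := by
    rw [← map_pow, show (⟨(x : G), hx⟩ : N) ^ q = 1 from Subtype.ext (hexp _ hx), map_one]
  obtain ⟨b, hb⟩ := IsPGroup.iff_card.mp hP
  have hcop : Nat.Coprime (Nat.card P) q :=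
    hb ▸ ((Nat.coprime_primes hp.out hq).mpr hqp.symm).pow_left b
  have h1 : mu ⟨x, hx⟩ = 1 := by
    rw [← orderOf_eq_one_iff, ← Nat.dvd_one, ← hcop.gcd_eq_one]
    exact Nat.dvd_gcd (orderOf_dvd_of_pow_eq_one hpow) (orderOf_dvd_of_pow_eq_one hpowq)
  exact h1

theorem main_aux {p : ℕ} [hp : Fact p.Prime] : ∀ (n : ℕ) (G : Type u) [Group G] [Finite G],
    Nat.card G ≤ n → Group.IsSolvable ↥(pGen p G) →
    (∀ χ : Cfsg.IrrCharacter G, (∀ g : G, ((χ : G → ℂ) g).im = 0) →
      ¬ p ∣ Cfsg.charDegree (χ : G → ℂ)) →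
    ∀ U : Subgroup G, U.Normal → pGen 2 G ≤ U → (∃ a : ℕ, (pGen 2 G).relIndex U = p ^ a) →
      ∃ R : Subgroup G, R.Normal ∧ R ≤ U ∧ IsPGroup p R ∧ ¬ p ∣ R.relIndex U := by
  intro n
  induction n with
  | zero =>
    intro G _ _ hn
    exact absurd hn (not_le.mpr Nat.card_pos)
  | succ n ih =>
    intro G _ _ hn hsolv hreal U hU hKU hUp
    classical
    by_cases hpU : ¬ p ∣ Nat.card U
    · exact ⟨⊥, inferInstance, bot_le, IsPGroup.of_bot, by rwa [Subgroup.relIndex_bot_left]⟩
    rw [not_not] at hpU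
    set L := pGen p G with hL
    haveI := pGen_normal p (G := G)
    haveI := pGen_normal 2 (G := G)
    haveI := hU
    have hUL : U ⊓ L ≠ ⊥ := by
      intro hb
      obtain ⟨x, hx⟩ := exists_prime_orderOf_dvd_card' (G := U) p hpU
      rw [← Subgroup.orderOf_coe] at hx
      have : (x : G) ∈ U ⊓ L := ⟨x.2, mem_pGen (k := 1) (by rw [hx, pow_one])⟩
      rw [hb, Subgroup.mem_bot] at this
      rw [this, orderOf_one] at hx
      exact hp.out.ne_one hx.symm
    obtain ⟨N, hNmin, hNle⟩ := HallSolvable.exists_minNormal_le hUL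
    have hNU : N ≤ U := hNle.trans inf_le_left
    haveI := hNmin.normal
    haveI : Group.IsSolvable N := solvable_of_solvable_injective
      (f := Subgroup.inclusion (hNle.trans inf_le_right)) (Subgroup.inclusion_injective _)
    obtain ⟨q, hq, ⟨hNab, hNexp⟩, hNq⟩ := hNmin.exists_prime
    -- induction hypothesis in the quotient
    have hsurj := QuotientGroup.mk'_surjective N
    have hcard : Nat.card (G ⧸ N) ≤ n := by
      have := HallSolvable.card_quotient_lt hNmin.ne_bot
      omega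
    have hsolv' : Group.IsSolvable ↥(pGen p (G ⧸ N)) := by
      rw [← map_pGen hp.out (QuotientGroup.mk' N) hsurj]
      exact solvable_of_surjective ((QuotientGroup.mk' N).subgroupMap_surjective (pGen p G))
    have hreal' : ∀ χ : Cfsg.IrrCharacter (G ⧸ N), (∀ g, ((χ : G ⧸ N → ℂ) g).im = 0) →
        ¬ p ∣ Cfsg.charDegree (χ : G ⧸ N → ℂ) := by
      intro χ hχ
      rw [← CharKernel.charDegree_quotEquiv N χ]
      exact hreal _ (fun g => hχ _)
    obtain ⟨a, ha⟩ := hUp
    have hmapK : (pGen 2 G).map (QuotientGroup.mk' N) = pGen 2 (G ⧸ N) :=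
      map_pGen Nat.prime_two _ hsurj
    have hUp' : ∃ b : ℕ, (pGen 2 (G ⧸ N)).relIndex (U.map (QuotientGroup.mk' N)) = p ^ b := by
      have hd : (pGen 2 (G ⧸ N)).relIndex (U.map (QuotientGroup.mk' N)) ∣
          (pGen 2 G).relIndex U := by
        rw [← hmapK, Subgroup.relIndex_map_map, QuotientGroup.ker_mk',
          sup_eq_left.mpr hNU]
        exact Subgroup.relIndex_dvd_of_le_left U le_sup_left
      rw [ha] at hd
      obtain ⟨b, -, hb⟩ := (Nat.dvd_prime_pow hp.out).mp hd
      exact ⟨b, hb⟩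
    obtain ⟨Rb, hRbn, hRbU, hRbp, hRbi⟩ := ih (G ⧸ N) hcard hsolv' hreal'
      (U.map (QuotientGroup.mk' N)) (hU.map _ hsurj)
      (by rw [← hmapK]; exact Subgroup.map_mono hKU) hUp'
    set X := Rb.comap (QuotientGroup.mk' N) with hX
    have hXn : X.Normal := hRbn.comap _
    have hNX : N ≤ X := by
      intro x hx
      rw [hX, Subgroup.mem_comap, QuotientGroup.mk'_apply, (QuotientGroup.eq_one_iff x).mpr hx]
      exact one_mem _
    have hXU : X ≤ U := by
      have := Subgroup.comap_mono (f := QuotientGroup.mk' N) hRbU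
      rwa [Subgroup.comap_map_eq, QuotientGroup.ker_mk', sup_eq_left.mpr hNU] at this
    have hXi : ¬ p ∣ X.relIndex U := by
      rw [hX, Subgroup.relIndex_comap]; exact hRbi
    by_cases hqp : q = p
    · subst hqp
      exact ⟨X, hXn, hXU, HallCore.isPGroup_comap_mk' hNq hRbp, hXi⟩
    have hidx : ∃ b : ℕ, N.relIndex X = p ^ b := by
      obtain ⟨b, hb⟩ := IsPGroup.iff_card.mp hRbp
      refine ⟨b, ?_⟩
      apply Nat.eq_of_mul_eq_mul_left (Nat.card_pos (α := N))
      rw [HallCore.card_mul_relIndex hNX, hX, ← HallCore.card_comap_mk' N Rb, hb, mul_comm]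
    obtain ⟨b, hb⟩ := hidx
    haveI : Fact q.Prime := ⟨hq⟩
    obtain ⟨k, hk⟩ := IsPGroup.iff_card.mp hNq
    let P0' : Sylow p X := Classical.arbitrary _
    set P0 := (P0' : Subgroup X).map X.subtype with hP0
    have hP0p : IsPGroup p P0 := P0'.2.map _
    have hP0X : P0 ≤ X := Subgroup.map_subtype_le _
    have hdisj : ∀ x ∈ N, x ∈ P0 → x = 1 := by
      intro x hxN hxP
      obtain ⟨i, hi⟩ := hP0p ⟨x, hxP⟩
      have h1 : x ^ (p ^ i) = 1 := congrArg Subtype.val hi
      have hcop : Nat.Coprime (p ^ i) q := ((Nat.coprime_primes hp.out hq).mpr (Ne.symm hqp)).pow_left i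
      rw [← orderOf_eq_one_iff, ← Nat.dvd_one, ← hcop.gcd_eq_one]
      exact Nat.dvd_gcd (orderOf_dvd_of_pow_eq_one h1) (orderOf_dvd_of_pow_eq_one (hNexp x hxN))
    have hcardX : Nat.card X = q ^ k * p ^ b := by
      rw [← hb, ← hk, HallCore.card_mul_relIndex hNX]
    have hcardP0 : Nat.card P0 = p ^ b := by
      rw [hP0, Subgroup.card_map_of_injective X.subtype_injective, P0'.card_eq_multiplicity, hcardX]
      congr 1
      rw [Nat.factorization_mul (pow_ne_zero _ hq.ne_zero) (pow_ne_zero _ hp.out.ne_zero),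
        Nat.factorization_pow, Nat.factorization_pow, hp.out.factorization, hq.factorization]
      simp [Finsupp.single_apply, hqp]
    have hsupX : N ⊔ P0 = X := by
      refine Subgroup.eq_of_le_of_card_ge (sup_le hNX hP0X) ?_
      have hdvd : Nat.card N * Nat.card P0 ∣ Nat.card ↥(N ⊔ P0) := by
        refine Nat.Coprime.mul_dvd_of_dvd_of_dvd ?_ (Subgroup.card_dvd_of_le le_sup_left)
          (Subgroup.card_dvd_of_le le_sup_right)
        rw [hk, hcardP0]
        exact ((Nat.coprime_primes hq hp.out).mpr hqp).pow k b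
      rw [hk, hcardP0, ← hcardX] at hdvd
      exact Nat.le_of_dvd Nat.card_pos hdvd
    have hfrat : Subgroup.normalizer (P0 : Set G) ⊔ X = ⊤ := Sylow.normalizer_sup_eq_top P0'
    have hcommN : ∀ x ∈ N, ∀ y ∈ N, x * y = y * x := fun x hx y hy =>
      congrArg Subtype.val (hNab.1.comm ⟨x, hx⟩ ⟨y, hy⟩)
    -- `G = N N_G(P0)`
    have hGN : N ⊔ Subgroup.normalizer (P0 : Set G) = ⊤ := by
      rw [eq_top_iff, ← hfrat]
      exact sup_le le_sup_right (hsupX.ge.trans (sup_le le_sup_left
        (Subgroup.le_normalizer.trans le_sup_right)))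
    set H := Subgroup.normalizer (P0 : Set G) with hH
    have hHN : (N ⊓ H).Normal := by
      rw [← Subgroup.normalizer_eq_top_iff, eq_top_iff, ← hGN]
      refine sup_le (fun x (hx : x ∈ N) => ?_) (fun x (hx : x ∈ H) => ?_)
      · rw [Subgroup.mem_normalizer_iff]
        intro y
        constructor
        · rintro hy
          rwa [hcommN x hx y hy.1, mul_inv_cancel_right]
        · intro hy
          have h1 : y ∈ N := by
            have := hNmin.normal.conj_mem _ hy.1 x⁻¹
            simpa [mul_assoc] using this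
          rwa [hcommN x hx y h1, mul_inv_cancel_right] at hy
      · rw [Subgroup.mem_normalizer_iff]
        intro y
        exact ⟨fun hy => ⟨hNmin.normal.conj_mem _ hy.1 x, H.mul_mem (H.mul_mem hx hy.2) (H.inv_mem hx)⟩,
          fun hy => ⟨by simpa [mul_assoc] using hNmin.normal.conj_mem _ hy.1 x⁻¹, by
            simpa [mul_assoc] using H.mul_mem (H.mul_mem (H.inv_mem hx) hy.2) hx⟩⟩
    rcases hNmin.2.2 (N ⊓ H) hHN inf_le_left with hbot | htop
    · -- `H` is a complement of `N`, and we get a contradiction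
      exfalso
      have hfix : ∀ x ∈ N, (∀ u ∈ P0, u * x = x * u) → x = 1 := by
        intro x hx hxu
        have hmem : x ∈ N ⊓ H := ⟨hx, by
          show x ∈ H
          rw [hH, Subgroup.mem_normalizer_iff]
          intro y
          refine ⟨fun hy => by rwa [← hxu y hy, mul_inv_cancel_right], fun hy => ?_⟩
          have h1 := hxu _ hy
          have e : y = x * y * x⁻¹ := by
            calc y = x⁻¹ * ((x * y * x⁻¹) * x) := by group
              _ = x⁻¹ * (x * (x * y * x⁻¹)) := by rw [h1]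
              _ = x * y * x⁻¹ := by group
          exact e ▸ hy⟩
        rwa [hbot, Subgroup.mem_bot] at hmem
      have hker : ∀ χ : Cfsg.IrrCharacter G, (∀ g, ((χ : G → ℂ) g).im = 0) →
          ∀ m ∈ N, (χ : G → ℂ) m = (χ : G → ℂ) 1 := fun χ hχ =>
        le_ker_of_fpf hq hqp N P0 X hcommN hNexp hP0p hNX hP0X ⟨b, hb⟩ hfix χ (hreal χ hχ)
      rcases eq_or_ne q 2 with hq2 | hq2
      · have hcompl : Subgroup.IsComplement' N H := by
          refine Subgroup.isComplement'_of_disjoint_and_mul_eq_univ (disjoint_iff.mpr hbot) ?_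
          rw [← Subgroup.normal_mul, hGN, Subgroup.coe_top]
        obtain ⟨χ, hχ, hne⟩ := exists_real_nontrivial_of_split N H hNmin.ne_bot
          (fun x hx => by rw [← pow_two, ← hq2]; exact hNexp x hx) hcompl
        exact hne (hker χ hχ)
      · have hNodd : Odd (Nat.card N) := hk ▸ (hq.odd_of_ne_two hq2).pow
        by_cases hcent : ∀ s : G, (∃ i, orderOf s = 2 ^ i) → ∀ m ∈ N, s * m = m * s
        · -- `pGen 2 G` lies in `H`, hence `N ≤ H`
          have hKC : ∀ y ∈ pGen 2 G, ∀ m ∈ N, y * m = m * y := by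
            have hle : pGen 2 G ≤ Subgroup.centralizer (N : Set G) := by
              rw [pGen, Subgroup.closure_le]
              exact fun s hs m hm => (hcent s hs m hm).symm
            exact fun y hy m hm => (hle hy m hm).symm
          have hNK : N ≤ pGen 2 G := by
            intro x hx
            have h1 : (⟨x, hNU hx⟩ : U) ^ (p ^ a) ∈ (pGen 2 G).subgroupOf U := by
              rw [← ha, Subgroup.relIndex]
              exact Subgroup.pow_index_mem _ _
            rw [Subgroup.mem_subgroupOf, Subgroup.coe_pow] at h1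
            have hcop : Nat.Coprime (p ^ a) (orderOf x) := by
              refine Nat.Coprime.coprime_dvd_right (orderOf_dvd_of_pow_eq_one (hNexp x hx)) ?_
              exact ((Nat.coprime_primes hp.out hq).mpr (Ne.symm hqp)).pow_left a
            obtain ⟨i, hi⟩ := exists_pow_eq_self_of_coprime hcop
            rw [← hi]
            exact pow_mem h1 i
          have hKH : pGen 2 G ≤ H := by
            have hle : pGen 2 G ≤ pGen 2 G ⊓ H := by
              conv_lhs => rw [pGen]
              rw [Subgroup.closure_le]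
              rintro s ⟨i, hi⟩
              have hsK : s ∈ pGen 2 G := mem_pGen hi
              have hs : s ∈ N ⊔ H := hGN ▸ Subgroup.mem_top s
              rw [Subgroup.mem_sup_of_normal_left] at hs
              obtain ⟨y, hy, h', hh', rfl⟩ := hs
              have h'K : h' ∈ pGen 2 G := by
                simpa using mul_mem (inv_mem (hNK hy)) hsK
              have hcomm : Commute y h' := (hKC h' h'K y hy).symm
              have hpow : y ^ (2 ^ i) * h' ^ (2 ^ i) = 1 := by
                rw [← hcomm.mul_pow, ← hi, pow_orderOf_eq_one]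
              have hy1 : y ^ (2 ^ i) = 1 := by
                have hmem : y ^ (2 ^ i) ∈ N ⊓ H := ⟨pow_mem hy _, by
                  rw [eq_inv_of_mul_eq_one_left hpow]; exact H.inv_mem (H.pow_mem hh' _)⟩
                rwa [hbot, Subgroup.mem_bot] at hmem
              have hy2 : y = 1 := by
                have hcop : Nat.Coprime (2 ^ i) q :=
                  ((Nat.coprime_primes Nat.prime_two hq).mpr (Ne.symm hq2)).pow_left i
                rw [← orderOf_eq_one_iff, ← Nat.dvd_one, ← hcop.gcd_eq_one]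
                exact Nat.dvd_gcd (orderOf_dvd_of_pow_eq_one hy1)
                  (orderOf_dvd_of_pow_eq_one (hNexp y hy))
              subst hy2
              rw [one_mul] at hsK ⊢
              exact ⟨hsK, hh'⟩
            exact hle.trans inf_le_right
          exact hNmin.ne_bot (le_bot_iff.mp (hbot ▸ le_inf le_rfl (hNK.trans hKH)))
        · push Not at hcent
          obtain ⟨s, ⟨i, hi⟩, m, hm, hne⟩ := hcent
          obtain ⟨v, hv, hv1, hvr⟩ := exists_inverted N hi (fun h => hne (h m hm))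
          obtain ⟨χ, hχ, hne'⟩ := exists_real_nontrivial N hNodd hv hv1 hvr
          exact hne' (hker χ hχ)
    · -- `N` normalizes `P0`
      have hNH : N ≤ H := inf_eq_left.mp htop
      have hP0n : P0.Normal := by
        rw [← Subgroup.normalizer_eq_top_iff]
        exact eq_top_iff.mpr (hGN ▸ sup_le hNH le_rfl)
      refine ⟨P0, hP0n, hP0X.trans hXU, hP0p, ?_⟩
      rw [← Subgroup.relIndex_mul_relIndex P0 X U hP0X hXU]
      intro hd
      rcases hp.out.dvd_mul.mp hd with h | h
      · have h2 := HallCore.card_mul_relIndex hP0X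
        rw [hcardP0, hcardX, mul_comm (q ^ k)] at h2
        rw [Nat.eq_of_mul_eq_mul_left (pow_pos hp.out.pos b) h2] at h
        exact hqp ((Nat.prime_dvd_prime_iff_eq hp.out hq).mp (hp.out.dvd_of_dvd_pow h)).symm
      · exact hXi h

theorem sylow_normal [Finite G] {p : ℕ} [Fact p.Prime]
    (hsolv : Group.IsSolvable ↥(pGen p G))
    (hreal : ∀ χ : Cfsg.IrrCharacter G, (∀ g : G, ((χ : G → ℂ) g).im = 0) →
      ¬ p ∣ Cfsg.charDegree (χ : G → ℂ))
    (U : Subgroup G) (hU : U.Normal) (hKU : pGen 2 G ≤ U)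
    (hUp : ∃ a : ℕ, (pGen 2 G).relIndex U = p ^ a) (Q : Sylow p ↥U) :
    (Q : Subgroup ↥U).Normal := by
  obtain ⟨R, hRn, hRU, hRp, hRi⟩ := main_aux _ G le_rfl hsolv hreal U hU hKU hUp
  have hR' : IsPGroup p (R.subgroupOf U) :=
    hRp.of_equiv (Subgroup.subgroupOfEquivOfLe hRU).symm
  haveI : (R.subgroupOf U).Normal := hRn.subgroupOf U
  let S : Sylow p ↥U := hR'.toSylow hRi
  have hle : R.subgroupOf U ≤ (Q : Subgroup ↥U) := hR'.le_sylow_of_normal Q
  have heq : (Q : Subgroup ↥U) = R.subgroupOf U := S.3 Q.2 hle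
  rw [heq]
  infer_instance

end Cfsg.Agent.RealDegree
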