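import Cfsg.Agent.Lib.RealChars
import Cfsg.Agent.Lib.RealRep79
import Cfsg.Agent.Lib.CharInducedCorr
import Cfsg.Agent.Lib.CharBasicLinear
import Cfsg.Agent.Lib.CharGallagher
import Cfsg.Agent.Lib.CharAverage

/-!
# Indicators of induced characters

* `tensor_sum_eq_zero` : Schur orthogonality of matrix entries, via the trace of a projection.
* `nu_ind` : for an extension `ψ` of a real `θ` to its inertia group, `ν(Ind ψ) = ν(ψ)`.
* `card_linear_le` : linear characters of `G` counted against characters over an extendible one.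
-/

set_option autoImplicit false

open scoped ComplexConjugate Kronecker Matrix
open Cfsg

namespace Cfsg.Agent.RealInduced

universe u

variable {G : Type u} [Group G] [Fintype G]

theorem tensor_sum_eq_zero {H : Type u} [Group H] [Fintype H] {n : ℕ}
    (A B : H →* Matrix (Fin n) (Fin n) ℂ) (h : ∑ x : H, (A x).trace * (B x).trace = 0)
    (a b c d : Fin n) : ∑ x : H, A x a b * B x c d = 0 := by
  classical
  let K : H → Matrix (Fin n × Fin n) (Fin n × Fin n) ℂ := fun x => A x ⊗ₖ B x
  have hmul : ∀ x y, K x * K y = K (x * y) := fun x y => by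
    simp only [K, map_mul, Matrix.mul_kronecker_mul]
  set S := ∑ x : H, K x with hS
  have hSS : S * S = (Fintype.card H : ℂ) • S := by
    rw [hS, Finset.sum_mul]
    simp only [Finset.mul_sum, hmul]
    have h1 : ∀ x, ∑ y, K (x * y) = ∑ y, K y := fun x =>
      Fintype.sum_equiv (Equiv.mulLeft x) _ _ fun y => rfl
    simp only [h1, Finset.sum_const, Finset.card_univ]
    rw [← Nat.cast_smul_eq_nsmul ℂ]
  have hc : (Fintype.card H : ℂ) ≠ 0 := Nat.cast_ne_zero.2 Fintype.card_ne_zero
  set P := (Fintype.card H : ℂ)⁻¹ • S with hP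
  have hPP : P * P = P := by
    rw [hP, smul_mul_smul_comm, hSS, smul_smul]
    congr 1
    field_simp
  have htr : P.trace = 0 := by
    rw [hP, Matrix.trace_smul, hS, Matrix.trace_sum]
    simp only [K, Matrix.trace_kronecker, h, smul_zero]
  have hP0 : P = 0 := by
    let L := Matrix.toLin' P
    have hLL : IsIdempotentElem L := by
      show L * L = L
      rw [Module.End.mul_eq_comp, ← Matrix.toLin'_mul, hPP]
    have hproj := (LinearMap.IsIdempotentElem.isProj_range _ hLL)
    have h2 := hproj.trace
    rw [Matrix.trace_toLin'_eq, htr] at h2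
    have h3 : Module.finrank ℂ L.range = 0 := by exact_mod_cast h2.symm
    rw [Submodule.finrank_eq_zero, LinearMap.range_eq_bot] at h3
    exact Matrix.toLin'.injective (h3.trans (map_zero _).symm)
  have hS0 : S = 0 := by
    rw [hP] at hP0
    exact (smul_eq_zero.1 hP0).resolve_left (inv_ne_zero hc)
  have := congrFun (congrFun hS0 (a, c)) (b, d)
  simpa [hS, K, Matrix.sum_apply] using this

variable (N T : Subgroup G) [hN : N.Normal] [Fintype N] [Fintype T] (hNT : N ≤ T)
  {θ : N → ℂ} (hθ : IsIrrCharacter N θ) (hT : ∀ g : G, g ∈ T ↔ CharInduced.conjFun N θ g = θ)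

include hθ hT in
/-- The indicator of an induced extension is that of the extension. -/
theorem nu_ind {ψ : T → ℂ} (hψ : IsIrrCharacter T ψ)
    (hres : ∀ n : N, ψ ⟨n, hNT n.2⟩ = θ n) (hreal : ∀ n : N, conj (θ n) = θ n) :
    RealChars.nu (indFun T ψ) = RealChars.nu ψ := by
  classical
  obtain ⟨d, ρ, hρ, hρψ⟩ := hψ
  set f := extendByZero T ψ with hf
  have hsq : ∀ x : G, ∑ g : G, f (x⁻¹ * (g * g) * x) = ∑ g : G, f (g * g) := fun x =>
    Fintype.sum_equiv (MulAut.conj x⁻¹).toEquiv _ _ fun g => congrArg f (by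
      simp only [MulEquiv.toEquiv_eq_coe, EquivLike.coe_coe, MulAut.conj_apply]
      group)
  have hstep : RealChars.nu (indFun T ψ) = (Nat.card T : ℂ)⁻¹ * ∑ g : G, f (g * g) := by
    rw [RealChars.nu_eq]
    simp only [CharInduced.indFun_apply]
    rw [← Finset.mul_sum, Finset.sum_comm, Finset.sum_congr rfl (fun x _ => hsq x),
      Finset.sum_const, Finset.card_univ, nsmul_eq_mul, ← Nat.card_eq_fintype_card]
    have : (Nat.card G : ℂ) ≠ 0 := Nat.cast_ne_zero.2 Nat.card_pos.ne'
    field_simp
  rw [hstep, RealChars.nu_eq]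
  congr 1
  rw [← Finset.sum_filter_add_sum_filter_not Finset.univ (fun g : G => g ∈ T)]
  have hzero : ∑ g ∈ Finset.univ.filter (fun g : G => g ∉ T), f (g * g) = 0 := by
    set F : G → ℂ := fun g => if g ∈ T then 0 else f (g * g) with hF
    have e0 : ∑ g ∈ Finset.univ.filter (fun g : G => g ∉ T), f (g * g) = ∑ g, F g := by
      rw [Finset.sum_filter]
      exact Finset.sum_congr rfl fun g _ => by simp only [hF]; split_ifs <;> simp_all
    have hinner : ∀ g : G, ∑ n : N, F (g * n) = 0 := by
      intro g
      by_cases hg : g ∈ T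
      · exact Finset.sum_eq_zero fun n _ => if_pos (T.mul_mem hg (hNT n.2))
      have hgn : ∀ n : N, g * (n : G) ∉ T := fun n h =>
        hg (by simpa using T.mul_mem h (T.inv_mem (hNT n.2)))
      simp only [hF, if_neg (hgn _)]
      by_cases hg2 : g * g ∈ T
      · let s : N →* T := (Subgroup.inclusion hNT).comp (MulAut.conjNormal g : N ≃* N).toMonoidHom
        let i : N →* T := Subgroup.inclusion hNT
        let A : N →* Matrix (Fin d) (Fin d) ℂ := (RealRep79.mat ρ).comp s
        let B : N →* Matrix (Fin d) (Fin d) ℂ := (RealRep79.mat ρ).comp i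
        have hs : ∀ n : N, ((s n : T) : G) = g * n * g⁻¹ := fun n =>
          MulAut.conjNormal_apply g n
        have htrB : ∀ n : N, (B n).trace = θ n := fun n => by
          show (RealRep79.mat ρ (i n)).trace = _
          rw [RealRep79.trace_mat, hρψ, ← hres]
          rfl
        have htrA : ∀ n : N, (A n).trace = CharInduced.conjFun N θ g n := fun n => by
          show (RealRep79.mat ρ (s n)).trace = _
          rw [RealRep79.trace_mat, hρψ]
          exact Eq.trans (congrArg ψ (Subtype.ext (hs n))) (hres ⟨g * n * g⁻¹, hN.conj_mem _ n.2 g⟩)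
        have hsum : ∑ n : N, (A n).trace * (B n).trace = 0 := by
          have h := CharBasicOrth.classInner_irr_ne (CharInduced.isIrrCharacter_conjFun N hθ g) hθ
            (fun e => hg ((hT g).2 e))
          rw [classInner, mul_eq_zero] at h
          refine Eq.trans (Finset.sum_congr rfl fun n _ => ?_)
            (h.resolve_left (inv_ne_zero (Nat.cast_ne_zero.2 Nat.card_pos.ne')))
          rw [htrA, htrB, hreal]
        set C := RealRep79.mat ρ ⟨g * g, hg2⟩
        calc ∑ n : N, f (g * n * (g * n)) = ∑ n : N, (A n * C * B n).trace :=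
              Finset.sum_congr rfl fun n _ => by
                have hm : g * (n : G) * (g * n) = ((s n * ⟨g * g, hg2⟩ * i n : T) : G) := by
                  simp only [Subgroup.coe_mul, hs, i, Subgroup.coe_inclusion]
                  group
                rw [hm, hf, CharInduced.ext_zero_coe, ← hρψ, ← RealRep79.trace_mat, map_mul,
                  map_mul]
                rfl
          _ = ∑ a, ∑ c, ∑ b, C b c * ∑ n : N, A n a b * B n c a := by
                simp only [Matrix.trace, Matrix.diag, Matrix.mul_apply, Finset.sum_mul,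
                  Finset.mul_sum]
                rw [Finset.sum_comm]
                refine Finset.sum_congr rfl fun a _ => ?_
                rw [Finset.sum_comm]
                refine Finset.sum_congr rfl fun c _ => ?_
                rw [Finset.sum_comm]
                exact Finset.sum_congr rfl fun b _ => Finset.sum_congr rfl fun n _ => by ring
          _ = 0 := by simp [tensor_sum_eq_zero A B hsum]
      · refine Finset.sum_eq_zero fun n _ => ?_
        rw [hf, CharInduced.ext_zero_of_not_mem]
        intro h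
        refine hg2 ?_
        have hk : g * (n : G) * g⁻¹ ∈ T := hNT (hN.conj_mem _ n.2 g)
        have : g * g = (g * (n : G) * g⁻¹)⁻¹ * (g * n * (g * n)) * (n : G)⁻¹ := by group
        rw [this]
        exact T.mul_mem (T.mul_mem (T.inv_mem hk) h) (T.inv_mem (hNT n.2))
    rw [e0]
    have hsum : ∑ n : N, ∑ g : G, F (g * n) = 0 := by
      rw [Finset.sum_comm]; exact Finset.sum_eq_zero fun g _ => hinner g
    rw [Finset.sum_congr rfl (fun (n : N) _ => Fintype.sum_equiv (Equiv.mulRight (n : G))
      (fun g => F (g * n)) F fun g => rfl), Finset.sum_const, Finset.card_univ, smul_eq_zero] at hsum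
    exact hsum.resolve_left Fintype.card_ne_zero
  rw [hzero, add_zero]
  refine (Finset.sum_subtype _ (p := fun g : G => g ∈ T) (F := ‹Fintype T›) (fun g => by simp) _).trans ?_
  refine Finset.sum_congr (by ext; simp) fun t _ => ?_
  rw [hf, ← Subgroup.coe_mul, CharInduced.ext_zero_coe]

include hθ hT hNT in
/-- Linear characters against characters lying over an extendible one. -/
theorem card_linear_le {ψ : T → ℂ} (hψ : IsIrrCharacter T ψ)
    (hres : ∀ n : N, ψ ⟨n, hNT n.2⟩ = θ n) (hcomm : N ≤ commutator G)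
    (P : IrrCharacter G → Prop) (Q : IrrCharacter G → Prop)
    (hP : ∀ χ, P χ → (χ : G → ℂ) 1 = 1)
    (hQ : ∀ (lam : G →* ℂˣ) (χ : IrrCharacter G), P χ → (χ : G → ℂ) = (fun g => (lam g : ℂ)) →
      ∀ h : IsIrrCharacter T (fun t : T => ψ t * (lam t : ℂ)),
      ∀ h' : IsIrrCharacter G (indFun T fun t : T => ψ t * (lam t : ℂ)),
      Q ⟨_, h'⟩) :
    Nat.card {χ : IrrCharacter G // P χ} ≤ T.index * Nat.card {χ : IrrCharacter G // Q χ} := by
  classical
  haveI : Finite (IrrCharacter G) := CharBasicOrth.finite_irrCharacter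
  have hlamN : ∀ (lam : G →* ℂˣ) (x : G), x ∈ N → lam x = 1 := fun lam x hx =>
    (Abelianization.commutator_subset_ker lam (hcomm hx) : lam x = 1)
  choose lam hlam using fun χ : {χ : IrrCharacter G // P χ} =>
    CharBasicLinear.exists_hom_of_apply_one_eq_one
      (CharBasic.isCharacter_of_isIrrCharacter χ.1.2) (hP _ χ.2)
  let ψl : {χ : IrrCharacter G // P χ} → T → ℂ := fun χ t => ψ t * (lam χ t : ℂ)
  have hψl : ∀ χ, IsIrrCharacter T (ψl χ) := fun χ =>
    CharBasicDecomp.isIrrCharacter_mul_linear hψ ((lam χ).comp T.subtype)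
  have hover : ∀ χ, classInner (fun n : N => ψl χ ⟨n, hNT n.2⟩) θ ≠ 0 := fun χ => by
    have : (fun n : N => ψl χ ⟨n, hNT n.2⟩) = θ := funext fun n => by
      simp only [ψl, hres, hlamN _ _ n.2, Units.val_one, mul_one]
    rw [this, CharBasicOrth.classInner_irr_self hθ]
    exact one_ne_zero
  have hirr : ∀ χ, IsIrrCharacter G (indFun T (ψl χ)) := fun χ =>
    CharInduced.ind_inertia_irr N T hNT hθ hT (hψl χ) (hover χ)
  let Φ : {χ : IrrCharacter G // P χ} → {χ : IrrCharacter G // Q χ} := fun χ =>
    ⟨⟨_, hirr χ⟩, hQ (lam χ) χ.1 χ.2 (hlam χ) (hψl χ) (hirr χ)⟩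
  -- homomorphisms trivial on `T`
  set M := commutator G ⊔ T with hM
  haveI : M.Normal := Subgroup.Normal.of_commutator_le G le_sup_left
  let Z := {l : G →* ℂˣ // ∀ t ∈ T, l t = 1}
  haveI : Finite (G →* ℂˣ) := Nat.finite_of_card_ne_zero (by
    rw [CharBasicLinear.card_hom_units]; exact Subgroup.index_ne_zero_of_finite)
  have hZ : Nat.card Z ≤ T.index := by
    let e : Z → (G ⧸ M →* ℂˣ) := fun l => QuotientGroup.lift M l.1
      (sup_le (Abelianization.commutator_subset_ker _) (fun t ht => l.2 t ht))
    haveI : Finite (G ⧸ M →* ℂˣ) := Nat.finite_of_card_ne_zero (by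
      rw [CharBasicLinear.card_hom_units]; exact Subgroup.index_ne_zero_of_finite)
    calc Nat.card Z ≤ Nat.card (G ⧸ M →* ℂˣ) := Nat.card_le_card_of_injective e fun a b h =>
          Subtype.ext (MonoidHom.ext fun g => DFunLike.congr_fun h (g : G ⧸ M))
      _ = (commutator (G ⧸ M)).index := CharBasicLinear.card_hom_units
      _ ≤ Nat.card (G ⧸ M) := Nat.le_of_dvd Nat.card_pos (Subgroup.index_dvd_card _)
      _ = M.index := rfl
      _ ≤ T.index := Nat.le_of_dvd (Nat.pos_of_ne_zero T.index_ne_zero_of_finite)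
          (Subgroup.index_dvd_of_le le_sup_right)
  have hfib : ∀ y, Nat.card {χ // Φ χ = y} ≤ T.index := by
    intro y
    rcases isEmpty_or_nonempty {χ // Φ χ = y} with h | ⟨⟨χ0, hχ0⟩⟩
    · simp
    refine le_trans ?_ hZ
    refine Nat.card_le_card_of_injective (fun χ => (⟨lam χ.1 * (lam χ0)⁻¹, ?_⟩ : Z)) ?_
    · intro t ht
      have hind : indFun T (ψl χ.1) = indFun T (ψl χ0) :=
        congrArg (fun z : {χ : IrrCharacter G // Q χ} => (z.1 : G → ℂ)) (χ.2.trans hχ0.symm)
      have heq := CharInduced.ind_inertia_injective N T hNT hθ hT (hψl _) (hψl _) (hover _)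
        (hover _) hind
      have h1 := CharGallagher.bijOn_one (G := T) (N.subgroupOf T)
        (CharInduced.isIrrCharacter_toSubgroupOf N T hNT hθ) hψ
        (fun n => hres ⟨(n : T), n.2⟩)
      have hmem : ∀ χ' : {χ : IrrCharacter G // P χ}, (fun t : T => (lam χ' t : ℂ)) ∈
          {β : T → ℂ | IsIrrCharacter T β ∧ ∀ n : N.subgroupOf T, β n = β 1} := fun χ' =>
        ⟨CharBasicDecomp.isIrrCharacter_linear ((lam χ').comp T.subtype), fun n => by
          simp [hlamN (lam χ') _ (Subgroup.mem_subgroupOf.1 n.2)]⟩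
      have h2 := h1.injOn (hmem χ.1) (hmem χ0) (funext fun s => by
        have := congrFun heq s
        simpa [ψl, mul_comm] using this)
      rw [MonoidHom.mul_apply, MonoidHom.inv_apply, mul_inv_eq_one]
      exact Units.ext (congrFun h2 ⟨t, ht⟩)
    · intro a b h
      have h' := congrArg Subtype.val h
      simp only [mul_left_inj] at h'
      refine Subtype.ext (Subtype.ext (Subtype.ext ?_))
      rw [hlam a.1, hlam b.1, h']
  haveI := Fintype.ofFinite {χ : IrrCharacter G // P χ}
  haveI := Fintype.ofFinite {χ : IrrCharacter G // Q χ}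
  rw [Nat.card_eq_fintype_card, ← Finset.card_univ,
    Finset.card_eq_sum_card_fiberwise (f := Φ) (t := Finset.univ) (fun _ _ => Finset.mem_univ _)]
  refine le_trans (Finset.sum_le_card_nsmul _ _ T.index fun y _ => ?_) ?_
  · refine le_trans (le_of_eq ?_) (hfib y)
    rw [Nat.card_eq_fintype_card, Fintype.card_subtype]
  · rw [Finset.card_univ, smul_eq_mul, mul_comm, Nat.card_eq_fintype_card]

omit [Fintype G] [Fintype N] [Fintype T] in
theorem le_commutator_of_minimal (hmin : ∀ M : Subgroup G, M.Normal → M ≤ N → M = ⊥ ∨ M = N)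
    (hna : ¬ IsMulCommutative ↥N) : N ≤ commutator G := by
  rcases hmin (⁅N, N⁆) inferInstance (Subgroup.commutator_le_right N N) with h | h
  · refine absurd ⟨⟨fun a b => Subtype.ext ?_⟩⟩ hna
    have h1 := Subgroup.commutator_mem_commutator a.2 b.2
    rw [h, Subgroup.mem_bot] at h1
    exact commutatorElement_eq_one_iff_mul_comm.1 h1
  · calc N = ⁅N, N⁆ := h.symm
      _ ≤ _ := Subgroup.commutator_mono le_top le_top

end Cfsg.Agent.RealInduced
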