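import Mathlib
import Cfsg.Agent.Lib.GlaubermanCount
import Cfsg.Agent.Lib.RealChars

/-!
# Real invariant characters and real invariant classes under a coprime `p`-group of operators
-/

set_option autoImplicit false

namespace Cfsg.Agent.RealInvariantClasses

open scoped ComplexConjugate
open Cfsg.Agent.GlaubermanP Cfsg.Agent.GlaubermanCount Cfsg.Agent.CharBasicDecomp

universe u v

variable {A : Type u} {G : Type v} [Group A] [Group G] [Finite A] [Finite G] {p : ℕ} [hp : Fact p.Prime]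

/-- The fixed-point subgroup of all operators. -/
abbrev fixAll (φ : A →* MulAut G) : Subgroup G := fixSub φ ⊤

theorem isFix (φ : A →* MulAut G) : IsFix φ (fixAll φ).subtype :=
  ⟨Subgroup.subtype_injective _, fun g => by
    rw [Subgroup.range_subtype]
    exact ⟨fun h a => h a trivial, fun h a _ => h a⟩⟩

/-- A class is real. -/
def RealClass {H : Type*} [Group H] (K : ConjClasses H) : Prop :=
  ∀ g : H, ConjClasses.mk g = K → IsConj g g⁻¹

theorem real_mk {H : Type*} [Group H] {c : H} :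
    RealClass (ConjClasses.mk c) ↔ IsConj c c⁻¹ := by
  refine ⟨fun h => h c rfl, fun h g hg => ?_⟩
  have h1 := ConjClasses.mk_eq_mk_iff_isConj.1 hg
  obtain ⟨b, hb⟩ := isConj_iff.1 h1
  have h2 : IsConj g⁻¹ c⁻¹ := isConj_iff.2 ⟨b, by rw [← hb]; group⟩
  exact (h1.trans h).trans h2.symm

theorem card_real_inv (φ : A →* MulAut G) (hA : IsPGroup p A) (hG : ¬ p ∣ Nat.card G) :
    Nat.card {θ : Cfsg.IrrCharacter G // (∀ g, ((θ : G → ℂ) g).im = 0) ∧ Inv φ θ} =
      Nat.card {K : ConjClasses G // RealClass K ∧ InvClass φ K} := by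
  classical
  haveI := Fintype.ofFinite G
  set C := fixAll φ with hC
  haveI := Fintype.ofFinite C
  have hS : Setup p A G C := ⟨hp.out, hA, hG⟩
  have hι := isFix φ
  have hT : IsPGroup p (⊤ : Subgroup A) := hA.to_subgroup ⊤
  let E := corr hS hι
  -- conjugation commutes with the correspondence
  have hbar : ∀ χ χ' : {χ : Cfsg.IrrCharacter G // Inv φ χ},
      (∀ g, (χ'.1 : G → ℂ) g = conj ((χ.1 : G → ℂ) g)) →
        ∀ c, (E χ' : C → ℂ) c = conj ((E χ : C → ℂ) c) := by
    intro χ χ' h c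
    let β' : Cfsg.IrrCharacter C := ⟨fun c => conj ((E χ : C → ℂ) c), isIrrCharacter_conj (E χ).2⟩
    have hm : mult C.subtype χ'.1 β' = mult C.subtype χ.1 (E χ) := by
      rw [← mult_eq_iff, ← Complex.conj_natCast, ← classInner_eq_mult]
      simp only [Cfsg.classInner, map_mul, map_inv₀, map_natCast, map_sum, Function.comp_apply, h, β']
    have : E χ' = β' := (corr_spec hS hι χ' β').2 (hm ▸ (corr_spec hS hι χ _).1 rfl)
    rw [this]
  have hreal : ∀ χ : {χ : Cfsg.IrrCharacter G // Inv φ χ},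
      (∀ g, ((χ.1 : G → ℂ) g).im = 0) ↔ ∀ c, ((E χ : C → ℂ) c).im = 0 := by
    intro χ
    let χb : {χ : Cfsg.IrrCharacter G // Inv φ χ} :=
      ⟨⟨fun g => conj ((χ.1 : G → ℂ) g), isIrrCharacter_conj χ.1.2⟩, fun a g => by
        show conj _ = conj _
        rw [χ.2 a g]⟩
    have h1 := hbar χ χb fun g => rfl
    constructor
    · intro h c
      have e : χb = χ := Subtype.ext (Subtype.ext (funext fun g => Complex.conj_eq_iff_im.2 (h g)))
      rw [e] at h1
      exact Complex.conj_eq_iff_im.1 (h1 c).symm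
    · intro h g
      have e : E χb = E χ := Subtype.ext (funext fun c => (h1 c).trans (Complex.conj_eq_iff_im.2 (h c)))
      exact Complex.conj_eq_iff_im.1
        (congrFun (congrArg Subtype.val (congrArg Subtype.val (E.injective e))) g)
  have e1 : Nat.card {θ : Cfsg.IrrCharacter G // (∀ g, ((θ : G → ℂ) g).im = 0) ∧ Inv φ θ} =
      Nat.card {β : Cfsg.IrrCharacter C // ∀ c, ((β : C → ℂ) c).im = 0} := by
    refine Nat.card_congr (Equiv.trans ?_ (E.subtypeEquiv hreal))
    exact { toFun := fun θ => ⟨⟨θ.1, θ.2.2⟩, θ.2.1⟩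
            invFun := fun θ => ⟨θ.1.1, θ.2, θ.1.2⟩
            left_inv := fun _ => rfl
            right_inv := fun _ => rfl }
  rw [e1, RealChars.card_real_eq]
  have hmap : ∀ L : {L : ConjClasses C // RealClass L},
      RealClass (ConjClasses.map C.subtype L.1) ∧ InvClass φ (ConjClasses.map C.subtype L.1) := by
    rintro ⟨L, hL⟩
    obtain ⟨c, rfl⟩ := ConjClasses.mk_surjective L
    refine ⟨real_mk.2 (C.subtype.map_isConj (real_mk.1 hL)), fun a g hg => ?_⟩
    have h1 : IsConj g (c : G) := ConjClasses.mk_eq_mk_iff_isConj.1 hg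
    have h2 := (φ a).toMonoidHom.map_isConj h1
    rw [MulEquiv.coe_toMonoidHom, c.2 a trivial] at h2
    exact ConjClasses.mk_eq_mk_iff_isConj.2 h2
  refine Nat.card_congr (Equiv.ofBijective (fun L => (⟨_, hmap L⟩ :
    {K : ConjClasses G // RealClass K ∧ InvClass φ K})) ⟨?_, ?_⟩)
  · rintro ⟨K, hK⟩ ⟨L, hL⟩ h
    obtain ⟨c, rfl⟩ := ConjClasses.mk_surjective K
    obtain ⟨d, rfl⟩ := ConjClasses.mk_surjective L
    exact Subtype.ext (ConjClasses.mk_eq_mk_iff_isConj.2
      (isConj_fix φ ⊤ hT hG (ConjClasses.mk_eq_mk_iff_isConj.1 (congrArg Subtype.val h))))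
  · rintro ⟨K, hKr, hK⟩
    obtain ⟨g, hg, hgK⟩ := exists_fixed_of_ndvd φ ⊤ hT (fun g => ConjClasses.mk g = K)
      (fun t _ g h => hK t g h) (by
        obtain ⟨g₀, rfl⟩ := ConjClasses.mk_surjective K
        intro h
        refine hG (h.trans ?_)
        have e : Nat.card {g : G // ConjClasses.mk g = ConjClasses.mk g₀} =
            Nat.card {g : G // IsConj g₀ g} :=
          Nat.card_congr (Equiv.subtypeEquivRight fun g =>
            ConjClasses.mk_eq_mk_iff_isConj.trans ⟨IsConj.symm, IsConj.symm⟩)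
        rw [e, ← CharBasicOrth.card_conj_mul_card_centralizer g₀]
        exact dvd_mul_right _ _)
    refine ⟨⟨ConjClasses.mk ⟨g, hg⟩, real_mk.2 ?_⟩, Subtype.ext hgK⟩
    exact isConj_fix φ ⊤ hT hG (hKr g hgK)

theorem exists_fixed (φ : A →* MulAut G) (hA : IsPGroup p A) (hG : ¬ p ∣ Nat.card G)
    (hall : ∀ θ : Cfsg.IrrCharacter G, (∀ g, ((θ : G → ℂ) g).im = 0) → Inv φ θ)
    (k : G) (hk : IsConj k k⁻¹) : ∃ k' : G, IsConj k k' ∧ ∀ a, φ a k' = k' := by
  classical
  have h1 := card_real_inv φ hA hG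
  rw [show Nat.card {θ : Cfsg.IrrCharacter G // (∀ g, ((θ : G → ℂ) g).im = 0) ∧ Inv φ θ} =
    Nat.card {θ : Cfsg.IrrCharacter G // ∀ g, ((θ : G → ℂ) g).im = 0} from
      Nat.card_congr (Equiv.subtypeEquivRight fun θ => ⟨And.left, fun h => ⟨h, hall θ h⟩⟩),
    RealChars.card_real_eq] at h1
  let f : {K : ConjClasses G // RealClass K ∧ InvClass φ K} → {K : ConjClasses G // RealClass K} :=
    fun K => ⟨K.1, K.2.1⟩
  have hf : Function.Injective f := fun K L h => by
    cases K; cases L; simp_all [f]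
  have hsurj := (hf.bijective_of_nat_card_le h1.le).2
  obtain ⟨K', hK'⟩ := hsurj ⟨ConjClasses.mk k, real_mk.2 hk⟩
  have e' : K'.1 = ConjClasses.mk k := congrArg Subtype.val hK'
  have hK : InvClass φ (ConjClasses.mk k) := e' ▸ K'.2.2
  obtain ⟨g, hg, hgK⟩ := exists_fixed_of_ndvd φ ⊤ (hA.to_subgroup ⊤)
    (fun g => ConjClasses.mk g = ConjClasses.mk k) (fun t _ g h => hK t g h) (by
      intro h
      refine hG (h.trans ?_)
      have e : Nat.card {g : G // ConjClasses.mk g = ConjClasses.mk k} =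
          Nat.card {g : G // IsConj k g} :=
        Nat.card_congr (Equiv.subtypeEquivRight fun g =>
          ConjClasses.mk_eq_mk_iff_isConj.trans ⟨IsConj.symm, IsConj.symm⟩)
      rw [e, ← CharBasicOrth.card_conj_mul_card_centralizer k]
      exact dvd_mul_right _ _)
  exact ⟨g, (ConjClasses.mk_eq_mk_iff_isConj.1 hgK).symm, fun a => hg a trivial⟩

end Cfsg.Agent.RealInvariantClasses
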