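import Mathlib
import Cfsg.Agent.Lib.RealChars
import Cfsg.Agent.Lib.GlaubermanCount
import Cfsg.Agent.Lib.CharBasicLinear
import Cfsg.Agent.Lib.CharCliffordCorr
import Cfsg.Agent.S4866
import Cfsg.Agent.S3863

/-!
# Real characters of degree prime to `p` and real elements

If the subgroup generated by the `p`-elements is solvable and all real irreducible characters
have degree prime to `p`, then the subgroup generated by the `2`-elements has a normal Sylow
`p`-subgroup and every real element is conjugate into a Sylow normalizer.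
-/

set_option autoImplicit false

namespace Cfsg.Agent.RealNormalizer38

open scoped ComplexConjugate
open Cfsg.Agent.CharBasic Cfsg.Agent.CharBasicOrth Cfsg.Agent.CharBasicDecomp

universe u

variable {G : Type u} [Group G] [Finite G]

/-- All real irreducible characters have degree prime to `p`. -/
def RealPrime (p : ℕ) (G : Type u) [Group G] : Prop :=
  ∀ χ : Cfsg.IrrCharacter G, (∀ g : G, ((χ : G → ℂ) g).im = 0) →
    ¬ p ∣ Cfsg.charDegree (χ : G → ℂ)

/-- The subgroup generated by the `p`-elements. -/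
def elemGen (p : ℕ) (G : Type u) [Group G] : Subgroup G :=
  Subgroup.closure {g : G | ∃ k : ℕ, orderOf g = p ^ k}

omit [Finite G] in
instance elemGen_normal (p : ℕ) : (elemGen p G).Normal := by
  refine ⟨fun n hn g => ?_⟩
  have h : (elemGen p G).map (MulAut.conj g).toMonoidHom ≤ elemGen p G := by
    rw [elemGen, MonoidHom.map_closure, Subgroup.closure_le]
    rintro _ ⟨x, ⟨k, hk⟩, rfl⟩
    exact Subgroup.subset_closure ⟨k, ((MulAut.conj g).orderOf_eq x).trans hk⟩
  exact h ⟨n, hn, rfl⟩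

omit [Finite G] in
theorem mem_elemGen {p k : ℕ} (hp : p.Prime) {g : G} (h : g ^ p ^ k = 1) : g ∈ elemGen p G := by
  obtain ⟨j, -, hj⟩ := (Nat.dvd_prime_pow hp).1 (orderOf_dvd_of_pow_eq_one h)
  exact Subgroup.subset_closure ⟨j, hj⟩

theorem map_elemGen {p : ℕ} (hp : p.Prime) {H : Type u} [Group H] (f : G →* H)
    (hf : Function.Surjective f) : (elemGen p G).map f = elemGen p H := by
  refine le_antisymm ?_ ?_
  · rw [elemGen, MonoidHom.map_closure, Subgroup.closure_le]
    rintro _ ⟨x, ⟨k, hk⟩, rfl⟩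
    exact mem_elemGen hp (k := k) (by rw [← map_pow, ← hk, pow_orderOf_eq_one, map_one])
  · rw [elemGen, Subgroup.closure_le]
    rintro y ⟨k, hk⟩
    obtain ⟨a, rfl⟩ := hf y
    set m := orderOf a / p ^ (orderOf a).factorization p with hm
    have hmem : a ^ m ∈ elemGen p G := by
      refine mem_elemGen hp (k := (orderOf a).factorization p) ?_
      rw [← pow_mul, hm, mul_comm, Nat.ordProj_mul_ordCompl_eq_self, pow_orderOf_eq_one]
    have hco : Nat.Coprime m (orderOf (f a)) := by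
      rw [hk]
      exact ((Nat.coprime_ordCompl hp (orderOf_pos a).ne').pow_left k).symm
    obtain ⟨j, hj⟩ := exists_pow_eq_self_of_coprime hco
    exact ⟨(a ^ m) ^ j, Subgroup.pow_mem _ hmem j, by rw [map_pow, map_pow, hj]⟩

theorem odd_index_elemGen : Odd (elemGen 2 G).index := by
  rw [← Nat.not_even_iff_odd, even_iff_two_dvd]
  intro h
  haveI : Fact (Nat.Prime 2) := ⟨Nat.prime_two⟩
  obtain ⟨x, hx⟩ := exists_prime_orderOf_dvd_card' (G := G ⧸ elemGen 2 G) 2 h
  have h2 : x ∈ elemGen 2 (G ⧸ elemGen 2 G) := Subgroup.subset_closure ⟨1, by rw [hx, pow_one]⟩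
  rw [← map_elemGen Nat.prime_two (QuotientGroup.mk' (elemGen 2 G))
    (QuotientGroup.mk'_surjective _)] at h2
  obtain ⟨y, hy, rfl⟩ := h2
  rw [QuotientGroup.mk'_apply, (QuotientGroup.eq_one_iff y).2 hy, orderOf_one] at hx
  omega

theorem realPrime_map {p : ℕ} {H : Type u} [Group H] (f : G →* H) (hf : Function.Surjective f)
    (h : RealPrime p G) : RealPrime p H := by
  intro χ hχ
  have := h ⟨(χ : H → ℂ) ∘ f, isIrrCharacter_comap f hf χ.2⟩ fun g => hχ (f g)
  simpa [Cfsg.charDegree] using this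

/-- A linear-degree congruence: a normal subgroup with a fixed-point-free coprime `p`-group lies
in the kernel of every character of degree prime to `p`. -/
theorem eq_apply_one {p : ℕ} [hp : Fact p.Prime] (L Q : Subgroup G) [L.Normal]
    (hQ : IsPGroup p Q) (hL : ¬ p ∣ Nat.card L)
    (hC : L ⊓ Subgroup.centralizer (Q : Set G) = ⊥) (χ : Cfsg.IrrCharacter G)
    (hd : ¬ p ∣ Cfsg.charDegree (χ : G → ℂ)) {l : G} (hl : l ∈ L) :
    (χ : G → ℂ) l = (χ : G → ℂ) 1 := by
  classical
  haveI := Fintype.ofFinite G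
  haveI := Fintype.ofFinite L
  by_contra hne
  -- the sum over `L` vanishes
  have hsum : ∑ x : L, (χ : G → ℂ) x = 0 := by
    by_contra h0
    have h1 : Cfsg.classInner (fun n : L => (χ : G → ℂ) n) (fun _ => 1) ≠ 0 := by
      rw [Cfsg.classInner]
      simpa using h0
    have hc := CharInduced.clifford L χ.2 isIrrCharacter_one h1
    have horb : CharInduced.orbitFin L (fun _ : L => (1 : ℂ)) = {fun _ : L => (1 : ℂ)} := by
      rw [Finset.eq_singleton_iff_unique_mem]
      refine ⟨CharInduced.self_mem_orbitFin _ _, fun φ hφ => ?_⟩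
      obtain ⟨g, rfl⟩ := (CharInduced.mem_orbitFin _).1 hφ
      rfl
    rw [horb, Finset.sum_singleton] at hc
    have e1 := congrFun hc ⟨l, hl⟩
    have e2 := congrFun hc 1
    simp only [Pi.smul_apply, OneMemClass.coe_one] at e1 e2
    exact hne (e1.trans e2.symm)
  -- operators
  let φ : Q →* MulAut L := MulAut.conjNormal.comp Q.subtype
  have hφ : ∀ (a : Q) (x : L), ((φ a x : L) : G) = a * x * (a : G)⁻¹ := fun a x =>
    MulAut.conjNormal_apply _ _
  have hι : GlaubermanP.IsFix φ (⊥ : Subgroup L).subtype := by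
    refine ⟨Subgroup.subtype_injective _, fun x => ?_⟩
    rw [Subgroup.range_subtype, Subgroup.mem_bot]
    constructor
    · rintro rfl a
      exact map_one _
    · intro h
      have : (x : G) ∈ L ⊓ Subgroup.centralizer (Q : Set G) := by
        refine ⟨x.2, Subgroup.mem_centralizer_iff.2 fun q hq => ?_⟩
        have e := congrArg Subtype.val (h ⟨q, hq⟩)
        rw [hφ] at e
        exact mul_inv_eq_iff_eq_mul.1 e
      rw [hC, Subgroup.mem_bot] at this
      exact Subtype.ext this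
  have hint : ∀ x : L, IsIntegral ℤ ((χ : G → ℂ) x) := fun x =>
    isCharacter_integral (isCharacter_of_isIrrCharacter χ.2) _
  have hS : GlaubermanP.Setup p Q L (⊥ : Subgroup L) := ⟨hp.out, hQ, hL⟩
  have h := GlaubermanP.pDvd_sum_sub hS hι (fun x : L => (χ : G → ℂ) x)
    (fun a x => by
      show (χ : G → ℂ) (φ a x : L) = _
      rw [hφ]
      exact isClassFunction_of_isCharacter (isCharacter_of_isIrrCharacter χ.2) _ _) hint
  rw [hsum, Fintype.sum_subsingleton _ (1 : (⊥ : Subgroup L)), zero_sub] at h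
  obtain ⟨n, -, hn⟩ := isIrrCharacter_apply_one χ.2
  have h' : GlaubermanP.PDvd p (((-(n : ℤ)) : ℤ) : ℂ) := by
    push_cast
    rw [← hn]
    simpa using h
  have := GlaubermanP.int_dvd_of_pDvd h'
  rw [dvd_neg, Int.natCast_dvd_natCast] at this
  exact hd (by simpa [Cfsg.charDegree, hn] using this)

/-- Elements acting on a complemented abelian normal subgroup which lies in the kernels of all
real characters: an element whose square centralizes it does so itself. -/
theorem commute_of_sq {L N : Subgroup G} [L.Normal] (hcomm : ∀ a ∈ L, ∀ b ∈ L, a * b = b * a)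
    (hLN : L ⊓ N = ⊥) (hG : ∀ g : G, ∃ l ∈ L, ∃ n ∈ N, g = l * n)
    (hker : ∀ χ : Cfsg.IrrCharacter G, (∀ g : G, ((χ : G → ℂ) g).im = 0) →
      ∀ l ∈ L, (χ : G → ℂ) l = (χ : G → ℂ) 1)
    {t : G} (ht : t ∈ N) (ht2 : ∀ l ∈ L, t * t * l = l * (t * t)) {l : G} (hl : l ∈ L) :
    t * l = l * t := by
  classical
  haveI := Fintype.ofFinite G
  have hnu : ∀ g : G, ∀ k ∈ L,
      Nat.card {x : G // x * x = g * k} = Nat.card {x : G // x * x = g} := by
    intro g k hk
    have e : (Nat.card {x : G // x * x = g * k} : ℂ) = (Nat.card {x : G // x * x = g} : ℂ) := by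
      rw [RealChars.sqrtCount_eq, RealChars.sqrtCount_eq]
      refine Finset.sum_congr rfl fun χ _ => ?_
      by_cases hr : ∀ g : G, ((χ : G → ℂ) g).im = 0
      · congr 1
        obtain ⟨n, ρ, -, e⟩ := χ.2
        have hk1 : ρ k = 1 := by
          have := hker χ hr k hk
          rw [← e] at this
          exact (CharBasicLinear.mem_charKer_rep ρ).1 this
        rw [← e]
        simp [Representation.character, map_mul, hk1]
      · rw [RealChars.nu_eq_zero χ hr, zero_mul, zero_mul]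
    exact_mod_cast e
  have huniq : ∀ {a b c d : G}, a ∈ L → b ∈ N → c ∈ L → d ∈ N → a * b = c * d → b = d := by
    intro a b c d ha hb hc hd e
    have h1 : d * b⁻¹ = c⁻¹ * a := by
      rw [eq_inv_mul_iff_mul_eq, ← mul_assoc, ← e]; group
    have h2 : d * b⁻¹ ∈ L ⊓ N :=
      ⟨h1 ▸ L.mul_mem (L.inv_mem hc) ha, N.mul_mem hd (N.inv_mem hb)⟩
    rw [hLN, Subgroup.mem_bot, mul_inv_eq_one] at h2
    exact h2.symm
  let S := {x : G // x * x = t * t}
  let SN := {n : N // (n : G) * n = t * t}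
  let T := {x : G // (t * t)⁻¹ * (x * x) ∈ L}
  -- the two ways of counting `T`
  have e1 : Nat.card T = Nat.card L * Nat.card S := by
    rw [Nat.card_congr (Equiv.sigmaFiberEquiv (fun x : T => (⟨_, x.2⟩ : L))).symm, Nat.card_sigma]
    rw [Finset.sum_const_nat (m := Nat.card S) ?_, Finset.card_univ, ← Nat.card_eq_fintype_card]
    intro k _
    show _ = Nat.card {x : G // x * x = t * t}
    rw [← hnu (t * t) k k.2]
    refine Nat.card_congr
      { toFun := fun x => ⟨x.1.1, by
          have := congrArg Subtype.val x.2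
          exact inv_mul_eq_iff_eq_mul.1 this⟩
        invFun := fun x => ⟨⟨x.1, by rw [x.2, inv_mul_cancel_left]; exact k.2⟩,
          Subtype.ext (by show _⁻¹ * _ = _; rw [x.2, inv_mul_cancel_left])⟩
        left_inv := fun x => rfl
        right_inv := fun x => rfl }
  have hsqN : t * t ∈ N := N.mul_mem ht ht
  let F : L × SN → T := fun q => ⟨(q.1 : G) * q.2.1, by
    have hn : ((q.2.1 : N) : G) * (q.2.1 : N) = t * t := q.2.2
    have h0 : ∀ a n s : G, n * n = s →
        s⁻¹ * (a * n * (a * n)) = s⁻¹ * (a * (n * a * n⁻¹)) * s := by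
      rintro a n s rfl; group
    have h1 := h0 (q.1 : G) (q.2.1 : G) (t * t) hn
    rw [h1]
    have h2 := (inferInstance : L.Normal).conj_mem _
      (L.mul_mem q.1.2 ((inferInstance : L.Normal).conj_mem _ q.1.2 (q.2.1 : G))) (t * t)⁻¹
    rwa [inv_inv] at h2⟩
  have e2 : Nat.card T = Nat.card L * Nat.card SN := by
    rw [← Nat.card_prod]
    refine (Nat.card_congr (Equiv.ofBijective F ⟨?_, ?_⟩)).symm
    · rintro ⟨a, b⟩ ⟨c, d⟩ e
      have e' : (a : G) * b.1 = (c : G) * d.1 := congrArg Subtype.val e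
      have hbd : (b.1 : G) = d.1 := huniq a.2 b.1.2 c.2 d.1.2 e'
      exact Prod.ext (Subtype.ext (mul_right_cancel (b := (b.1 : G)) (e'.trans (by rw [hbd]))))
        (Subtype.ext (Subtype.ext hbd))
    · rintro ⟨x, hx⟩
      obtain ⟨a, ha, n, hn, rfl⟩ := hG x
      have hnn : n * n = t * t := by
        have h1 : a * n * (a * n) = (a * (n * a * n⁻¹)) * (n * n) := by group
        have h2 : (t * t)⁻¹ * (a * n * (a * n)) ∈ L := hx
        have h3 := (inferInstance : L.Normal).conj_mem _ h2 (t * t)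
        refine huniq (L.mul_mem ha ((inferInstance : L.Normal).conj_mem _ ha n)) (N.mul_mem hn hn)
          h3 hsqN ?_
        rw [← h1]; group
      exact ⟨(⟨a, ha⟩, ⟨⟨n, hn⟩, hnn⟩), rfl⟩
  have hcard : Nat.card SN = Nat.card S :=
    Nat.eq_of_mul_eq_mul_left Nat.card_pos (e2.symm.trans e1)
  let i : SN → S := fun n => ⟨(n.1 : G), n.2⟩
  have hi : Function.Injective i := fun a b e => Subtype.ext (Subtype.ext (congrArg Subtype.val e :))
  have hsurj := (hi.bijective_of_nat_card_le hcard.ge).2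
  -- the commutator is inverted by `t`
  set m := t * l * t⁻¹ * l⁻¹ with hm
  have hmL : m ∈ L := L.mul_mem ((inferInstance : L.Normal).conj_mem l hl t) (L.inv_mem hl)
  have htm : t * m * t⁻¹ = m⁻¹ := by
    have h1 : t * m * t⁻¹ = (t * t) * l * (t * t)⁻¹ * (t * l⁻¹ * t⁻¹) := by rw [hm]; group
    rw [h1, ht2 l hl, mul_inv_cancel_right, hm]
    rw [show (t * l * t⁻¹ * l⁻¹)⁻¹ = l * (t * l⁻¹ * t⁻¹) by group]
  have hmt : m * t * (m * t) = t * t := by
    calc m * t * (m * t) = m * (t * m * t⁻¹) * (t * t) := by group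
      _ = _ := by rw [htm, mul_inv_cancel, one_mul]
  obtain ⟨n, hn⟩ := hsurj ⟨m * t, hmt⟩
  have hn' : (n.1 : G) = m * t := congrArg Subtype.val hn
  have hmN : m ∈ L ⊓ N := ⟨hmL, by
    have := N.mul_mem n.1.2 (N.inv_mem ht)
    rwa [hn', mul_inv_cancel_right] at this⟩
  rw [hLN, Subgroup.mem_bot, hm] at hmN
  exact mul_inv_eq_iff_eq_mul.1 (mul_inv_eq_one.1 hmN)

/-- The subgroup generated by the `2`-elements centralizes such a subgroup. -/
theorem elemGen_le_centralizer {L N : Subgroup G} [L.Normal]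
    (hcomm : ∀ a ∈ L, ∀ b ∈ L, a * b = b * a) (hLN : L ⊓ N = ⊥)
    (hG : ∀ g : G, ∃ l ∈ L, ∃ n ∈ N, g = l * n)
    (hker : ∀ χ : Cfsg.IrrCharacter G, (∀ g : G, ((χ : G → ℂ) g).im = 0) →
      ∀ l ∈ L, (χ : G → ℂ) l = (χ : G → ℂ) 1) :
    elemGen 2 G ≤ Subgroup.centralizer (L : Set G) := by
  have key : ∀ (k : ℕ) (t : G), t ∈ N → (∀ l ∈ L, t ^ 2 ^ k * l = l * t ^ 2 ^ k) →
      ∀ l ∈ L, t * l = l * t := by
    intro k
    induction k with
    | zero => intro t _ h; simpa using h
    | succ k ih =>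
      intro t ht h l hl
      refine commute_of_sq hcomm hLN hG hker ht (fun l hl => ?_) hl
      refine ih (t * t) (N.mul_mem ht ht) (fun l hl => ?_) l hl
      rw [← pow_two, ← pow_mul, ← pow_succ']
      exact h l hl
  rw [elemGen, Subgroup.closure_le]
  rintro g ⟨k, hk⟩
  obtain ⟨a, ha, n, hn, rfl⟩ := hG g
  have hn1 : n ^ 2 ^ k = 1 := by
    have e : ((a * n : G) : G ⧸ L) = (n : G ⧸ L) := by
      rw [QuotientGroup.mk_mul, (QuotientGroup.eq_one_iff a).2 ha, one_mul]
    have h1 : n ^ 2 ^ k ∈ L ⊓ N := by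
      refine ⟨(QuotientGroup.eq_one_iff _).1 ?_, N.pow_mem hn _⟩
      rw [QuotientGroup.mk_pow, ← e, ← QuotientGroup.mk_pow, ← hk, pow_orderOf_eq_one,
        QuotientGroup.mk_one]
    rwa [hLN, Subgroup.mem_bot] at h1
  have hnl := key k n hn (fun l _ => by rw [hn1, one_mul, mul_one])
  rw [SetLike.mem_coe, Subgroup.mem_centralizer_iff]
  intro l hl
  rw [← mul_assoc, ← hcomm a ha l hl, mul_assoc a, mul_assoc a, hnl l hl]

/-- The subgroup generated by the `2`-elements has a normal Sylow `p`-subgroup. -/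
theorem exists_normal_sylow {p : ℕ} [hp : Fact p.Prime] : ∀ (n : ℕ) (G : Type u) [Group G]
    [Finite G], Nat.card G = n → Group.IsSolvable (elemGen p G) → RealPrime p G →
    ∃ Q : Subgroup G, Q.Normal ∧ IsPGroup p Q ∧ Q ≤ elemGen 2 G ∧
      ¬ p ∣ Q.relIndex (elemGen 2 G) := by
  intro n
  induction n using Nat.strong_induction_on with
  | _ n ih =>
  intro G _ _ hn hsolv hreal
  classical
  set M := elemGen p G ⊓ elemGen 2 G with hMdef
  by_cases hM : M = ⊥
  · refine ⟨⊥, inferInstance, IsPGroup.of_bot, bot_le, fun h => ?_⟩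
    rw [Subgroup.relIndex_bot_left] at h
    obtain ⟨x, hx⟩ := exists_prime_orderOf_dvd_card' (G := elemGen 2 G) p h
    have h1 : (x : G) ∈ M :=
      ⟨Subgroup.subset_closure ⟨1, by rw [Subgroup.orderOf_coe, hx, pow_one]⟩, x.2⟩
    rw [hM, Subgroup.mem_bot] at h1
    rw [show x = 1 from Subtype.ext h1, orderOf_one] at hx
    exact hp.out.ne_one hx.symm
  -- a minimal normal subgroup
  obtain ⟨L, ⟨hLn, hLM, hL0⟩, hmin⟩ : ∃ L : Subgroup G, (L.Normal ∧ L ≤ M ∧ L ≠ ⊥) ∧
      ∀ K : Subgroup G, K.Normal → K ≤ M → K ≠ ⊥ → K ≤ L → K = L := by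
    obtain ⟨L, hL, hmin⟩ := (Set.toFinite {L : Subgroup G | L.Normal ∧ L ≤ M ∧ L ≠ ⊥}).exists_minimal
      ⟨M, inferInstance, le_rfl, hM⟩
    exact ⟨L, hL, fun K a b c d => le_antisymm d (hmin ⟨a, b, c⟩ d)⟩
  haveI := hLn
  have hcomm : ∀ a ∈ L, ∀ b ∈ L, a * b = b * a := by
    have hle : ⁅L, L⁆ ≤ L := Subgroup.commutator_le_left L L
    by_cases h0 : ⁅L, L⁆ = ⊥
    · intro a ha b hb
      exact (Subgroup.commutator_eq_bot_iff_le_centralizer.1 h0 hb a ha)
    · exfalso
      have he := hmin ⁅L, L⁆ inferInstance (hle.trans hLM) h0 hle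
      haveI : Group.IsSolvable L :=
        solvable_of_solvable_injective (Subgroup.inclusion_injective (hLM.trans inf_le_left))
      haveI : Nontrivial L := (Subgroup.nontrivial_iff_ne_bot L).2 hL0
      have hlt := IsSolvable.commutator_lt_top_of_nontrivial L
      have e := congrArg (Subgroup.comap L.subtype) he
      rw [← Subgroup.map_subtype_commutator, Subgroup.comap_map_eq_self_of_injective
        L.subtype_injective, Subgroup.comap_subtype, Subgroup.subgroupOf_self] at e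
      exact hlt.ne e
  -- induction
  set f := QuotientGroup.mk' L with hf
  have hfs : Function.Surjective f := QuotientGroup.mk'_surjective L
  have hmapp := map_elemGen hp.out f hfs
  have hmap2 := map_elemGen Nat.prime_two f hfs
  haveI : Group.IsSolvable (elemGen p G) := hsolv
  have hsolv' : Group.IsSolvable (elemGen p (G ⧸ L)) := by
    rw [← hmapp]
    exact solvable_of_surjective (MonoidHom.subgroupMap_surjective f (elemGen p G))
  have hlt : Nat.card (G ⧸ L) < n := by
    rw [← hn, Subgroup.card_eq_card_quotient_mul_card_subgroup L]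
    exact lt_mul_of_one_lt_right Nat.card_pos (by
      haveI : Nontrivial L := (Subgroup.nontrivial_iff_ne_bot L).2 hL0
      exact Finite.one_lt_card)
  obtain ⟨Qb, hQbn, hQbp, hQb2, hQbi⟩ :=
    ih _ hlt (G ⧸ L) rfl hsolv' (realPrime_map f hfs hreal)
  set Q1 := Qb.comap f with hQ1
  haveI : Q1.Normal := hQbn.comap f
  have hLQ1 : L ≤ Q1 := fun x hx => by
    rw [hQ1, Subgroup.mem_comap, hf, QuotientGroup.mk'_apply, (QuotientGroup.eq_one_iff x).2 hx]
    exact one_mem _
  have hQ1R : Q1 ≤ elemGen 2 G := by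
    refine (Subgroup.comap_mono hQb2).trans ?_
    rw [← hmap2, Subgroup.comap_map_eq, hf, QuotientGroup.ker_mk']
    exact sup_le le_rfl (hLM.trans inf_le_right)
  have hQ1i : ¬ p ∣ Q1.relIndex (elemGen 2 G) := by
    rw [hQ1, Subgroup.relIndex_comap, hmap2]; exact hQbi
  by_cases hpL : p ∣ Nat.card L
  · -- a `p`-group
    have hLp : IsPGroup p L := by
      let Lp : Subgroup G :=
        { carrier := {x | x ∈ L ∧ ∃ k : ℕ, x ^ p ^ k = 1}
          one_mem' := ⟨one_mem _, 0, by simp⟩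
          mul_mem' := by
            rintro a b ⟨ha, i, hi⟩ ⟨hb, j, hj⟩
            refine ⟨L.mul_mem ha hb, i + j, ?_⟩
            rw [(Commute.mul_pow (hcomm a ha b hb)), pow_add, pow_mul, hi, one_pow, one_mul,
              mul_comm, pow_mul, hj, one_pow]
          inv_mem' := by
            rintro a ⟨ha, i, hi⟩
            exact ⟨L.inv_mem ha, i, by rw [inv_pow, hi, inv_one]⟩ }
      haveI : Lp.Normal := ⟨by
        rintro a ⟨ha, i, hi⟩ g
        exact ⟨hLn.conj_mem a ha g, i, by rw [conj_pow, hi]; group⟩⟩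
      have hLpL : Lp ≤ L := fun x hx => hx.1
      have hLp0 : Lp ≠ ⊥ := by
        intro h
        obtain ⟨x, hx⟩ := exists_prime_orderOf_dvd_card' (G := L) p hpL
        have h1 : (x : G) ∈ Lp :=
          ⟨x.2, 1, by rw [pow_one, ← hx, ← Subgroup.orderOf_coe, pow_orderOf_eq_one]⟩
        rw [h, Subgroup.mem_bot] at h1
        rw [show x = 1 from Subtype.ext h1, orderOf_one] at hx
        exact hp.out.ne_one hx.symm
      have he := hmin Lp inferInstance (hLpL.trans hLM) hLp0 hLpL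
      intro x
      have hx : (x : G) ∈ Lp := he.symm ▸ x.2
      obtain ⟨-, k, hk⟩ := hx
      exact ⟨k, Subtype.ext (by simpa using hk)⟩
    refine ⟨Q1, inferInstance, ?_, hQ1R, hQ1i⟩
    exact hQbp.comap_of_ker_isPGroup f (by rw [hf, QuotientGroup.ker_mk']; exact hLp)
  -- a `p'`-group
  obtain ⟨Qs⟩ : Nonempty (Sylow p Q1) := inferInstance
  set Q := (Qs : Subgroup Q1).map Q1.subtype with hQdef
  have hQp : IsPGroup p Q := Qs.isPGroup'.map _
  have hQ1le : Q ≤ Q1 := Subgroup.map_subtype_le _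
  set N := Subgroup.normalizer (Q : Set G) with hN
  have hfr : N ⊔ Q1 = ⊤ := Sylow.normalizer_sup_eq_top Qs
  obtain ⟨b, hb⟩ := IsPGroup.iff_card.1 hQbp
  have hcard1 : Nat.card Q1 = Nat.card L * p ^ b := by
    have h1 := Subgroup.relIndex_mul_relIndex ⊥ L Q1 bot_le hLQ1
    rw [Subgroup.relIndex_bot_left, Subgroup.relIndex_bot_left] at h1
    have h2 : L.relIndex Q1 = Nat.card Qb := by
      conv_lhs => rw [show L = (⊥ : Subgroup (G ⧸ L)).comap f by
        rw [MonoidHom.comap_bot, hf, QuotientGroup.ker_mk']]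
      rw [Subgroup.relIndex_comap, Subgroup.map_comap_eq_self_of_surjective hfs,
        Subgroup.relIndex_bot_left]
    rw [← h1, h2, hb]
  have hQcard : Nat.card Q = p ^ b := by
    rw [hQdef, Subgroup.card_map_of_injective Q1.subtype_injective, Qs.card_eq_multiplicity, hcard1,
      Nat.factorization_mul Nat.card_pos.ne' (pow_ne_zero _ hp.out.ne_zero), Finsupp.add_apply,
      Nat.factorization_eq_zero_of_not_dvd hpL, zero_add, hp.out.factorization_pow,
      Finsupp.single_eq_same]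
  have hQ1eq : L ⊔ Q = Q1 := by
    refine Subgroup.eq_of_le_of_card_ge (sup_le hLQ1 hQ1le) (Nat.le_of_dvd Nat.card_pos ?_)
    rw [hcard1]
    refine Nat.Coprime.mul_dvd_of_dvd_of_dvd ?_ (Subgroup.card_dvd_of_le le_sup_left)
      (hQcard ▸ Subgroup.card_dvd_of_le le_sup_right)
    exact ((hp.out.coprime_iff_not_dvd.2 hpL).symm.pow_right b)
  have htop : L ⊔ N = ⊤ := by
    rw [← top_le_iff, ← hfr, ← hQ1eq]
    exact sup_le le_sup_right (sup_le le_sup_left (Subgroup.le_normalizer.trans le_sup_right))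
  have hGLN : ∀ g : G, ∃ l ∈ L, ∃ n ∈ N, g = l * n := by
    intro g
    have h1 : g ∈ ((L ⊔ N : Subgroup G) : Set G) := by rw [htop]; trivial
    rw [Subgroup.normal_mul] at h1
    obtain ⟨l, hl, m, hm, rfl⟩ := h1
    exact ⟨l, hl, m, hm, rfl⟩
  set C := L ⊓ Subgroup.centralizer (Q : Set G) with hC
  haveI hCn : C.Normal := by
    refine ⟨fun c hc g => ?_⟩
    obtain ⟨l, hl, m, hm, rfl⟩ := hGLN g
    have h1 : m * c * m⁻¹ ∈ C := by
      refine ⟨hLn.conj_mem c hc.1 m, Subgroup.mem_centralizer_iff.2 fun q hq => ?_⟩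
      have hq' : m⁻¹ * q * m ∈ Q := by
        have := (Subgroup.mem_normalizer_iff.1 (inv_mem hm) q).1 hq
        rwa [inv_inv] at this
      have := Subgroup.mem_centralizer_iff.1 hc.2 _ hq'
      have e := congrArg (fun z => m * z * m⁻¹) this
      simpa [mul_assoc] using e
    have h2 : l * (m * c * m⁻¹) * l⁻¹ = m * c * m⁻¹ := by
      rw [hcomm l hl _ h1.1, mul_inv_cancel_right]
    have h3 : l * m * c * (l * m)⁻¹ = l * (m * c * m⁻¹) * l⁻¹ := by group
    rw [h3, h2]; exact h1
  have hCL : C ≤ L := inf_le_left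
  have hcentQ : L ≤ Subgroup.centralizer (Q : Set G) := by
    by_cases hC0 : C = ⊥
    · -- otherwise the involutions centralize `L`
      have hLN : L ⊓ N = ⊥ := by
        rw [eq_bot_iff, ← hC0]
        rintro x ⟨hxL, hxN⟩
        refine ⟨hxL, Subgroup.mem_centralizer_iff.2 fun q hq => ?_⟩
        have h1 : x * q * x⁻¹ * q⁻¹ ∈ L ⊓ Q := by
          refine ⟨?_, Q.mul_mem ((Subgroup.mem_normalizer_iff.1 hxN q).1 hq) (Q.inv_mem hq)⟩
          rw [show x * q * x⁻¹ * q⁻¹ = x * (q * x⁻¹ * q⁻¹) by group]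
          exact L.mul_mem hxL (hLn.conj_mem _ (L.inv_mem hxL) q)
        have h2 : L ⊓ Q = ⊥ := by
          refine Subgroup.inf_eq_bot_of_coprime ?_
          rw [hQcard]
          exact ((hp.out.coprime_iff_not_dvd.2 hpL).symm.pow_right b)
        rw [h2, Subgroup.mem_bot, mul_inv_eq_one, mul_inv_eq_iff_eq_mul] at h1
        exact h1.symm
      have hker : ∀ χ : Cfsg.IrrCharacter G, (∀ g : G, ((χ : G → ℂ) g).im = 0) →
          ∀ l ∈ L, (χ : G → ℂ) l = (χ : G → ℂ) 1 := fun χ hχ l hl =>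
        eq_apply_one L Q hQp hpL (by rw [← hC]; exact hC0) χ (hreal χ hχ) hl
      intro l hl
      rw [Subgroup.mem_centralizer_iff]
      intro q hq
      have := elemGen_le_centralizer hcomm hLN hGLN hker (hQ1R (hQ1le hq))
      exact (Subgroup.mem_centralizer_iff.1 this l hl).symm
    · exact (hmin C hCn (hCL.trans hLM) hC0 hCL) ▸ inf_le_right
  refine ⟨Q, ?_, hQp, hQ1le.trans hQ1R, ?_⟩
  · rw [← Subgroup.normalizer_eq_top_iff, ← top_le_iff, ← htop]
    refine sup_le (fun l hl => ?_) le_rfl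
    refine Subgroup.centralizer_le_normalizer (Q : Set G) (hcentQ hl)
  · rw [← Subgroup.relIndex_mul_relIndex Q Q1 _ hQ1le hQ1R]
    refine fun h => (hp.out.dvd_mul.1 h).elim (fun h1 => hpL ?_) hQ1i
    have h2 := Subgroup.relIndex_mul_relIndex ⊥ Q Q1 bot_le hQ1le
    rw [Subgroup.relIndex_bot_left, Subgroup.relIndex_bot_left, hQcard, hcard1,
      mul_comm (Nat.card L)] at h2
    rwa [Nat.eq_of_mul_eq_mul_left (pow_pos hp.out.pos b) h2] at h1

/-- A real irreducible character of a normal subgroup of odd index lies under a real one. -/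
theorem exists_real_over (H : Subgroup G) [H.Normal] [Fintype H] (hodd : Odd H.index)
    (θ : Cfsg.IrrCharacter H) (hθ : ∀ k : H, ((θ : H → ℂ) k).im = 0) :
    ∃ χ : Cfsg.IrrCharacter G, (∀ g : G, ((χ : G → ℂ) g).im = 0) ∧
      Cfsg.classInner (fun n : H => (χ : G → ℂ) n) (θ : H → ℂ) ≠ 0 := by
  classical
  haveI := Fintype.ofFinite G
  obtain ⟨a, ha⟩ := hodd
  have hsq : ∀ x : G, x * x ∈ H → x ∈ H := by
    intro x hx
    have h1 := Subgroup.pow_index_mem H x
    rw [ha, pow_add, pow_mul, pow_one, pow_two] at h1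
    simpa using H.mul_mem (H.inv_mem (H.pow_mem hx a)) h1
  have hformula : ∑ χ : Cfsg.IrrCharacter G,
      RealChars.nu (χ : G → ℂ) * Cfsg.classInner (fun n : H => (χ : G → ℂ) n) (θ : H → ℂ) =
        RealChars.nu (θ : H → ℂ) := by
    have h1 : (fun n : H => (Nat.card {x : G // x * x = (n : G)} : ℂ)) =
        fun n : H => (Nat.card {x : H // x * x = n} : ℂ) := funext fun n => by
      congr 1
      exact Nat.card_congr
        { toFun := fun x => ⟨⟨x.1, hsq x.1 (by rw [x.2]; exact n.2)⟩, Subtype.ext x.2⟩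
          invFun := fun x => ⟨x.1, by rw [← Subgroup.coe_mul, x.2]⟩
          left_inv := fun x => rfl
          right_inv := fun x => rfl }
    calc _ = Cfsg.classInner (fun n : H => (Nat.card {x : G // x * x = (n : G)} : ℂ)) θ := by
          rw [show (fun n : H => (Nat.card {x : G // x * x = (n : G)} : ℂ)) =
            ∑ χ : Cfsg.IrrCharacter G, RealChars.nu (χ : G → ℂ) • fun n : H => (χ : G → ℂ) n from
            funext fun n => by rw [RealChars.sqrtCount_eq, Finset.sum_apply]; rfl,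
            CharInduced.inner_sum_left]
          simp only [CharInduced.inner_smul_left]
      _ = Cfsg.classInner (∑ ψ : Cfsg.IrrCharacter H, RealChars.nu (ψ : H → ℂ) • (ψ : H → ℂ)) θ := by
          rw [h1]
          congr 1
          funext n
          rw [RealChars.sqrtCount_eq, Finset.sum_apply]
          rfl
      _ = _ := by
          rw [CharInduced.inner_sum_left, Finset.sum_eq_single θ]
          · rw [CharInduced.inner_smul_left, classInner_irr_self θ.2, mul_one]
          · intro ψ _ hne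
            rw [CharInduced.inner_smul_left, classInner_irr_ne ψ.2 θ.2
              (fun e => hne (Subtype.ext e)), mul_zero]
          · simp
  by_contra hno
  push Not at hno
  rw [Finset.sum_eq_zero fun χ _ => ?_] at hformula
  · rcases RealChars.nu_eq_one_or_neg_one θ hθ with h' | h' <;> rw [h'] at hformula <;>
      norm_num at hformula
  · by_cases hr : ∀ g : G, ((χ : G → ℂ) g).im = 0
    · rw [hno χ hr, mul_zero]
    · rw [RealChars.nu_eq_zero χ hr, zero_mul]

/-- The case of a `p`-prime normal subgroup of odd index. -/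
theorem exists_conj_fixed {p : ℕ} [hp : Fact p.Prime] (H : Subgroup G) [H.Normal]
    (hodd : Odd H.index) (hpH : ¬ p ∣ Nat.card H) (hreal : RealPrime p G) (P : Sylow p G) (x : H)
    (hx : IsConj x x⁻¹) :
    ∃ g : G, g * x * g⁻¹ ∈ Subgroup.centralizer ((P : Subgroup G) : Set G) := by
  classical
  haveI := Fintype.ofFinite G
  haveI := Fintype.ofFinite H
  set N := Subgroup.normalizer ((P : Subgroup G) : Set G) with hN
  set K := H.subgroupOf N with hK
  haveI := Fintype.ofFinite K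
  have hKodd : Odd K.index := Odd.of_dvd_nat hodd (Subgroup.relIndex_dvd_index_of_normal H N)
  let φ : (P : Subgroup G) →* MulAut H := MulAut.conjNormal.comp (P : Subgroup G).subtype
  have hφ : ∀ (a : (P : Subgroup G)) (z : H), ((φ a z : H) : G) = a * z * (a : G)⁻¹ := fun a z =>
    MulAut.conjNormal_apply _ _
  let ι : K →* H :=
    { toFun := fun k => ⟨((k : N) : G), k.2⟩
      map_one' := rfl
      map_mul' := fun _ _ => rfl }
  have hcent : ∀ k : K, ((k : N) : G) ∈ Subgroup.centralizer ((P : Subgroup G) : Set G) := by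
    intro k
    rw [Subgroup.mem_centralizer_iff]
    intro u hu
    set c := ((k : N) : G) with hc
    have h2 : c * u * c⁻¹ * u⁻¹ ∈ H ⊓ (P : Subgroup G) := by
      refine ⟨?_, (P : Subgroup G).mul_mem ((Subgroup.mem_normalizer_iff.1 (k : N).2 u).1 hu)
        ((P : Subgroup G).inv_mem hu)⟩
      rw [show c * u * c⁻¹ * u⁻¹ = c * (u * c⁻¹ * u⁻¹) by group]
      exact H.mul_mem k.2 ((inferInstance : H.Normal).conj_mem _ (H.inv_mem k.2) u)
    obtain ⟨b, hb⟩ := IsPGroup.iff_card.1 P.isPGroup'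
    have h3 : H ⊓ (P : Subgroup G) = ⊥ := by
      refine Subgroup.inf_eq_bot_of_coprime ?_
      rw [hb]
      exact ((hp.out.coprime_iff_not_dvd.2 hpH).symm.pow_right b)
    rw [h3, Subgroup.mem_bot, mul_inv_eq_one, mul_inv_eq_iff_eq_mul] at h2
    exact h2.symm
  have hι : GlaubermanP.IsFix φ ι := by
    refine ⟨fun a b e => ?_, fun z => ⟨?_, fun h => ?_⟩⟩
    · have e' : ((a : N) : G) = ((b : N) : G) := congrArg (fun z : H => (z : G)) e
      exact Subtype.ext (Subtype.ext e')
    · rintro ⟨k, rfl⟩ a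
      apply Subtype.ext
      rw [hφ]
      show (a : G) * ((k : N) : G) * (a : G)⁻¹ = ((k : N) : G)
      rw [Subgroup.mem_centralizer_iff.1 (hcent k) a a.2, mul_inv_cancel_right]
    · have hzC : (z : G) ∈ Subgroup.centralizer ((P : Subgroup G) : Set G) := by
        rw [Subgroup.mem_centralizer_iff]
        intro u hu
        have := congrArg Subtype.val (h ⟨u, hu⟩)
        rw [hφ] at this
        exact mul_inv_eq_iff_eq_mul.1 this
      exact ⟨⟨⟨z, Subgroup.centralizer_le_normalizer _ hzC⟩, z.2⟩, rfl⟩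
  have hS : GlaubermanP.Setup p (P : Subgroup G) H K := ⟨hp.out, P.isPGroup', hpH⟩
  -- the two sets of orbits
  let relH : {θ : Cfsg.IrrCharacter H // ∀ k : H, ((θ : H → ℂ) k).im = 0} →
      {θ : Cfsg.IrrCharacter H // ∀ k : H, ((θ : H → ℂ) k).im = 0} → Prop := fun θ η =>
    ∃ g : G, ∀ k k' : H, (k' : G) = g * (k : G) * g⁻¹ → (η.1 : H → ℂ) k' = (θ.1 : H → ℂ) k
  let relK : {θ : Cfsg.IrrCharacter K // ∀ k : K, ((θ : K → ℂ) k).im = 0} →
      {θ : Cfsg.IrrCharacter K // ∀ k : K, ((θ : K → ℂ) k).im = 0} → Prop := fun θ η =>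
    ∃ g : N, ∀ k k' : K, (k' : N) = g * (k : N) * g⁻¹ → (η.1 : K → ℂ) k' = (θ.1 : K → ℂ) k
  -- fixed representatives
  have hrep : ∀ q : Quot relH, ∃ θ : {θ : Cfsg.IrrCharacter H // ∀ k : H, ((θ : H → ℂ) k).im = 0},
      Quot.mk relH θ = q ∧ GlaubermanP.Inv φ (θ.1 : H → ℂ) := by
    intro q
    obtain ⟨θ, rfl⟩ := Quot.exists_rep q
    obtain ⟨χ, hχ, hne⟩ := exists_real_over H hodd θ.1 θ.2
    have hdeg := CharCliffordCorr.apply_one_eq H χ.2 θ.1.2 hne
    obtain ⟨m, hm⟩ := CharBasicOrth.classInner_isCharacter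
      (CharInduced.isCharacter_res H (isCharacter_of_isIrrCharacter χ.2))
      (isCharacter_of_isIrrCharacter θ.1.2)
    obtain ⟨d, -, hd⟩ := isIrrCharacter_apply_one θ.1.2
    set T := CharInduced.inertia H (θ.1 : H → ℂ) with hT
    have hT' : ¬ p ∣ T.index := by
      intro h
      refine hreal χ hχ ?_
      have e : Cfsg.charDegree (χ : G → ℂ) = m * T.index * d := by
        rw [hm, hd, ← Nat.cast_mul, ← Nat.cast_mul] at hdeg
        rw [Cfsg.charDegree, hdeg, Complex.natCast_re]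
        exact Nat.floor_natCast _
      rw [e]
      exact dvd_mul_of_dvd_left (dvd_mul_of_dvd_right h _) _
    obtain ⟨q', hq'⟩ := P.isPGroup'.nonempty_fixed_point_of_prime_not_dvd_card (G ⧸ T) hT'
    obtain ⟨g, rfl⟩ := QuotientGroup.mk_surjective q'
    let cg : H ≃* H := MulAut.conjNormal g⁻¹
    refine ⟨⟨⟨(θ.1 : H → ℂ) ∘ cg.toMonoidHom, isIrrCharacter_comap _ cg.surjective θ.1.2⟩,
      fun k => θ.2 _⟩, (Quot.sound ⟨g, ?eq⟩).symm, ?inv⟩
    case eq =>
      intro k k' hk
      show (θ.1 : H → ℂ) (cg k') = _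
      refine congrArg _ (Subtype.ext ?_)
      rw [show ((cg k' : H) : G) = g⁻¹ * k' * g⁻¹⁻¹ from MulAut.conjNormal_apply _ _, hk]
      group
    case inv =>
      intro a k
      show (θ.1 : H → ℂ) (cg (φ a k)) = (θ.1 : H → ℂ) (cg k)
      have hmem : g⁻¹ * (a : G) * g ∈ T := by
        have h1 : (((a : G) * g : G) : G ⧸ T) = (g : G ⧸ T) := hq' a
        have h2 := QuotientGroup.eq.1 h1.symm
        rwa [← mul_assoc] at h2
      rw [← (CharInduced.mem_inertia_iff H).1 hmem (cg k)]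
      refine congrArg _ (Subtype.ext ?_)
      show ((cg (φ a k) : H) : G) = g⁻¹ * a * g * ((cg k : H) : G) * (g⁻¹ * a * g)⁻¹
      rw [show ((cg (φ a k) : H) : G) = g⁻¹ * (φ a k : H) * g⁻¹⁻¹ from MulAut.conjNormal_apply _ _,
        show ((cg k : H) : G) = g⁻¹ * k * g⁻¹⁻¹ from MulAut.conjNormal_apply _ _, hφ]
      group
  choose rep hrep1 hrep2 using hrep
  -- the correspondence
  let E := GlaubermanP.corr hS hι
  have hEreal : ∀ q, ∀ k : K, ((E ⟨(rep q).1, hrep2 q⟩ : K → ℂ) k).im = 0 := by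
    intro q k
    set θ := rep q with hθ
    let β := E ⟨θ.1, hrep2 q⟩
    let β' : Cfsg.IrrCharacter K := ⟨fun c => conj ((β : K → ℂ) c), isIrrCharacter_conj β.2⟩
    have hm : GlaubermanP.mult ι θ.1 β' = GlaubermanP.mult ι θ.1 β := by
      rw [← GlaubermanP.mult_eq_iff, ← Complex.conj_natCast, ← GlaubermanP.classInner_eq_mult]
      simp only [Cfsg.classInner, map_mul, map_inv₀, map_natCast, map_sum, Function.comp_apply, β']
      congr 1
      refine Finset.sum_congr rfl fun c _ => ?_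
      rw [Complex.conj_eq_iff_im.2 (θ.2 _)]
    have : β = β' := (GlaubermanP.corr_spec hS hι _ β').2 (hm ▸
      (GlaubermanP.corr_spec hS hι ⟨θ.1, hrep2 q⟩ β).1 rfl)
    exact Complex.conj_eq_iff_im.1 (congrFun (congrArg Subtype.val this) k).symm
  let F : Quot relH → Quot relK := fun q => Quot.mk relK ⟨E ⟨(rep q).1, hrep2 q⟩, hEreal q⟩
  have hconjI : ∀ (n : N) (q q' : Quot relH),
      (∀ k k' : K, (k' : N) = n * (k : N) * n⁻¹ → (E ⟨(rep q').1, hrep2 q'⟩ : K → ℂ) k' =
        (E ⟨(rep q).1, hrep2 q⟩ : K → ℂ) k) → q = q' := by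
    intro n q q' hn
    let e : H ≃* H := MulAut.conjNormal ((n : G)⁻¹)
    let f : K ≃* K := MulAut.conjNormal (n⁻¹)
    have hef : ∀ c, ι (f c) = e (ι c) := fun c => Subtype.ext (by
      show ((f c : N) : G) = _
      rw [show ((f c : K) : N) = n⁻¹ * (c : N) * n⁻¹⁻¹ from MulAut.conjNormal_apply _ _,
        show ((e (ι c) : H) : G) = (n : G)⁻¹ * (ι c : G) * (n : G)⁻¹⁻¹ from
          MulAut.conjNormal_apply _ _]
      rfl)
    let η : Cfsg.IrrCharacter H :=
      ⟨((rep q).1 : H → ℂ) ∘ e.toMonoidHom, isIrrCharacter_comap _ e.surjective (rep q).1.2⟩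
    have hη : GlaubermanP.Inv φ (η : H → ℂ) := fun a z => by
      have ha : (n : G)⁻¹ * (a : G) * n ∈ (P : Subgroup G) := by
        have := (Subgroup.mem_normalizer_iff.1 (inv_mem n.2) (a : G)).1 a.2
        rwa [inv_inv] at this
      show ((rep q).1 : H → ℂ) (e (φ a z)) = ((rep q).1 : H → ℂ) (e z)
      rw [← hrep2 q ⟨_, ha⟩ (e z)]
      refine congrArg _ (Subtype.ext ?_)
      rw [show ((e (φ a z) : H) : G) = (n : G)⁻¹ * (φ a z : H) * (n : G)⁻¹⁻¹ from
        MulAut.conjNormal_apply _ _, hφ, hφ,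
        show ((e z : H) : G) = (n : G)⁻¹ * (z : G) * (n : G)⁻¹⁻¹ from MulAut.conjNormal_apply _ _]
      group
    have hc := GlaubermanP.corr_comp hS hι e f hef ⟨(rep q).1, hrep2 q⟩ ⟨η, hη⟩ fun g => rfl
    have heq : E ⟨η, hη⟩ = E ⟨(rep q').1, hrep2 q'⟩ := by
      refine Subtype.ext (funext fun c => ?_)
      rw [hc c, ← hn (f c) c]
      rw [show ((f c : K) : N) = n⁻¹ * (c : N) * n⁻¹⁻¹ from MulAut.conjNormal_apply _ _]
      group
    have h2 := congrArg Subtype.val (E.injective heq)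
    rw [← hrep1 q, ← hrep1 q']
    refine Quot.sound ⟨(n : G), fun k k' hk => ?_⟩
    rw [← show η = (rep q').1 from h2]
    show ((rep q).1 : H → ℂ) (e k') = _
    refine congrArg _ (Subtype.ext ?_)
    rw [show ((e k' : H) : G) = (n : G)⁻¹ * (k' : G) * (n : G)⁻¹⁻¹ from MulAut.conjNormal_apply _ _,
      hk]
    group
  have hF : Function.Injective F := by
    intro q q' h
    have hequiv : ∀ a b, Relation.EqvGen relK a b → relK a b := by
      intro a b hab
      induction hab with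
      | rel a b h => exact h
      | refl a => exact ⟨1, fun k k' hk => by
          rw [show k' = k from Subtype.ext (by simpa using hk)]⟩
      | symm a b _ ih =>
        obtain ⟨g, hg⟩ := ih
        refine ⟨g⁻¹, fun k k' hk => (hg k' k ?_).symm⟩
        rw [hk]; group
      | trans a b c _ _ ih1 ih2 =>
        obtain ⟨g, hg⟩ := ih1
        obtain ⟨g', hg'⟩ := ih2
        refine ⟨g' * g, fun k k' hk => ?_⟩
        have hmem : g * (k : N) * g⁻¹ ∈ K := (inferInstance : K.Normal).conj_mem _ k.2 g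
        rw [hg' ⟨_, hmem⟩ k' (by rw [hk]; group), hg k ⟨_, hmem⟩ rfl]
    obtain ⟨n, hn⟩ := hequiv _ _ (Quot.eq.1 h)
    exact hconjI n q q' hn
  -- classes
  haveI : Finite (Cfsg.IrrCharacter K) := CharBasicOrth.finite_irrCharacter
  have hle := Nat.card_le_card_of_injective F hF
  rw [show Nat.card (Quot relH) = _ from S4866.result H hodd,
    show Nat.card (Quot relK) = _ from S4866.result K hKodd] at hle
  let rH : {x : H // IsConj x x⁻¹} → {x : H // IsConj x x⁻¹} → Prop := fun x y =>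
    ∃ g : G, (y.1 : G) = g * x.1 * g⁻¹
  let rK : {x : K // IsConj x x⁻¹} → {x : K // IsConj x x⁻¹} → Prop := fun x y =>
    ∃ g : N, (y.1 : N) = g * x.1 * g⁻¹
  have eqvH : ∀ a b, Relation.EqvGen rH a b → rH a b := by
    intro a b hab
    induction hab with
    | rel a b h => exact h
    | refl a => exact ⟨1, by simp⟩
    | symm a b _ ih => obtain ⟨g, hg⟩ := ih; exact ⟨g⁻¹, by rw [hg]; group⟩
    | trans a b c _ _ ih1 ih2 =>
      obtain ⟨g, hg⟩ := ih1
      obtain ⟨g', hg'⟩ := ih2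
      exact ⟨g' * g, by rw [hg', hg]; group⟩
  have hmapK : ∀ k : K, IsConj k k⁻¹ → IsConj (ι k) (ι k)⁻¹ := fun k hk => by
    rw [← map_inv]; exact ι.map_isConj hk
  let Φ : Quot rK → Quot rH := Quot.map (fun k => ⟨ι k.1, hmapK k.1 k.2⟩) fun a b ⟨g, hg⟩ =>
    ⟨(g : G), by
      show ((b.1 : N) : G) = _
      rw [hg]
      rfl⟩
  have hΦ : Function.Injective Φ := by
    intro u v
    obtain ⟨a, rfl⟩ := Quot.exists_rep u
    obtain ⟨b, rfl⟩ := Quot.exists_rep v
    intro h
    obtain ⟨g, hg⟩ := eqvH _ _ (Quot.eq.1 h)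
    have hg' : ((b.1 : N) : G) = g * ((a.1 : N) : G) * g⁻¹ := hg
    obtain ⟨m, hm, hconj⟩ := P.conj_eq_normalizer_conj_of_mem_centralizer ((a.1 : N) : G) g⁻¹
      (hcent a.1) (by rw [inv_inv, ← hg']; exact hcent b.1)
    refine Quot.sound ⟨(⟨m, hm⟩ : N)⁻¹, ?_⟩
    apply Subtype.ext
    rw [inv_inv, ← hg'] at hconj
    simpa [mul_assoc] using hconj
  have hsurj := (hΦ.bijective_of_nat_card_le hle).2
  obtain ⟨w, hw⟩ := hsurj (Quot.mk rH ⟨x, hx⟩)
  obtain ⟨k, rfl⟩ := Quot.exists_rep w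
  obtain ⟨g, hg⟩ := eqvH _ _ (Quot.eq.1 hw.symm)
  exact ⟨g, by
    have hg' : ((k.1 : N) : G) = g * (x : G) * g⁻¹ := hg
    rw [← hg']
    exact hcent k.1⟩

/-- Every real element is conjugate into the normalizer of a Sylow `p`-subgroup. -/
theorem exists_conj_normalizer {p : ℕ} [hp : Fact p.Prime]
    (hsolv : Group.IsSolvable (elemGen p G)) (hreal : RealPrime p G) (P : Sylow p G) (x : G)
    (hx : IsConj x x⁻¹) :
    ∃ g : G, g * x * g⁻¹ ∈ Subgroup.normalizer ((P : Subgroup G) : Set G) := by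
  classical
  obtain ⟨Q, hQn, hQp, hQR, hQi⟩ := exists_normal_sylow _ G rfl hsolv hreal
  haveI := hQn
  obtain ⟨hxR, hxc⟩ := (S3863.result x hx).2.2 (elemGen 2 G) odd_index_elemGen
  set f := QuotientGroup.mk' Q with hf
  have hfs : Function.Surjective f := QuotientGroup.mk'_surjective Q
  haveI : Fact (Nat.Prime 2) := ⟨Nat.prime_two⟩
  set H := elemGen 2 (G ⧸ Q) with hH
  have hHmap : (elemGen 2 G).map f = H := map_elemGen Nat.prime_two f hfs
  have hpH : ¬ p ∣ Nat.card H := by
    rw [← hHmap, ← Subgroup.relIndex_bot_left, ← Subgroup.relIndex_comap, MonoidHom.comap_bot, hf,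
      QuotientGroup.ker_mk']
    exact hQi
  obtain ⟨c, hc⟩ := isConj_iff.1 hxc
  have hmem : ∀ z : elemGen 2 G, f (z : G) ∈ H := fun z => hHmap ▸ ⟨(z : G), z.2, rfl⟩
  have hxH : IsConj (⟨f x, hmem ⟨x, hxR⟩⟩ : H) (⟨f x, hmem ⟨x, hxR⟩⟩ : H)⁻¹ := by
    refine isConj_iff.2 ⟨⟨f (c : G), hmem c⟩, Subtype.ext ?_⟩
    have := congrArg (fun z : elemGen 2 G => f (z : G)) hc
    simpa using this
  obtain ⟨g', hg'⟩ := exists_conj_fixed H odd_index_elemGen hpH (realPrime_map f hfs hreal)
    (P.mapSurjective hfs) ⟨f x, hmem ⟨x, hxR⟩⟩ hxH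
  obtain ⟨g, rfl⟩ := hfs g'
  refine ⟨g, ?_⟩
  set y := g * x * g⁻¹ with hy
  have hfy : f y ∈ Subgroup.centralizer (((P.mapSurjective hfs : Sylow p (G ⧸ Q)) :
      Subgroup (G ⧸ Q)) : Set (G ⧸ Q)) := by
    rw [hy, map_mul, map_mul, map_inv]; exact hg'
  have hQP : Q ≤ (P : Subgroup G) := by
    have h := P.is_maximal' (hQp.to_sup_of_normal_left P.isPGroup') le_sup_right
    exact le_sup_left.trans h.le
  have key : ∀ z : G, f z ∈ Subgroup.centralizer (((P.mapSurjective hfs : Sylow p (G ⧸ Q)) :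
      Subgroup (G ⧸ Q)) : Set (G ⧸ Q)) → ∀ u ∈ (P : Subgroup G), z * u * z⁻¹ ∈ (P : Subgroup G) := by
    intro z hz u hu
    have h1 : u⁻¹ * (z * u * z⁻¹) ∈ Q := by
      rw [← QuotientGroup.eq_one_iff, ← QuotientGroup.mk'_apply Q]
      show f (u⁻¹ * (z * u * z⁻¹)) = 1
      have h2 := Subgroup.mem_centralizer_iff.1 hz (f u) ⟨u, hu, rfl⟩
      rw [map_mul, map_mul, map_mul, map_inv, map_inv, ← h2]
      group
    simpa using (P : Subgroup G).mul_mem hu (hQP h1)
  rw [Subgroup.mem_normalizer_iff]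
  refine fun u => ⟨key y hfy u, fun hu => ?_⟩
  have h3 := key y⁻¹ (by rw [map_inv]; exact inv_mem hfy) _ hu
  simpa [mul_assoc] using h3

end Cfsg.Agent.RealNormalizer38
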