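import Mathlib
import Cfsg.Agent.Lib.RealNormalizer38
import Cfsg.Agent.Lib.CharInducedCorr
import Cfsg.Agent.S4519
import Cfsg.Agent.S4914

/-!
# A real McKay bijection when the real characters have degree prime to `p`

For a normal subgroup `H` of odd index, each real irreducible character of `H` lies under exactly
one real irreducible character of `G`, whose degree is the orbit length times the degree below.
-/

set_option autoImplicit false

namespace Cfsg.Agent.RealMcKay38

open scoped ComplexConjugate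
open Cfsg.Agent.CharBasic Cfsg.Agent.CharBasicOrth Cfsg.Agent.CharBasicDecomp

universe u

variable {G : Type u} [Group G] [Finite G]

/-- Real valued. -/
def Real' {H : Type u} (f : H → ℂ) : Prop := ∀ h, (f h).im = 0

/-- Degree as a complex value. -/
theorem deg_cast {H : Type u} [Group H] [Finite H] (χ : Cfsg.IrrCharacter H) :
    (χ : H → ℂ) 1 = (Cfsg.charDegree (χ : H → ℂ) : ℂ) := by
  obtain ⟨n, -, hn⟩ := isIrrCharacter_apply_one χ.2
  rw [Cfsg.charDegree, hn, Complex.natCast_re, Nat.floor_natCast]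

theorem pow_pred (g : G) : g ^ (Nat.card G - 1) = g⁻¹ := by
  refine eq_inv_of_mul_eq_one_left ?_
  rw [← pow_succ, Nat.sub_add_cancel Nat.card_pos, pow_card_eq_one']

theorem real_iff_pow (χ : Cfsg.IrrCharacter G) (m : ℕ) (hm : ∀ g : G, g ^ m = g⁻¹) :
    Real' (χ : G → ℂ) ↔ ∀ g, (χ : G → ℂ) (g ^ m) = (χ : G → ℂ) g := by
  simp_rw [hm]
  exact RealChars.real_iff χ

/-- Existence and uniqueness of the real character over a real one. -/
theorem existsUnique_over (H : Subgroup G) [H.Normal] [Fintype H] (hodd : Odd H.index)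
    (θ : Cfsg.IrrCharacter H) (hθ : Real' (θ : H → ℂ)) :
    ∃ χ : Cfsg.IrrCharacter G, (Real' (χ : G → ℂ) ∧
      Cfsg.classInner (fun n : H => (χ : G → ℂ) n) (θ : H → ℂ) ≠ 0) ∧
      ((∀ g : G, ∀ n : H, (θ : H → ℂ) ⟨g * n * g⁻¹, ‹H.Normal›.conj_mem n n.2 g⟩ = (θ : H → ℂ) n) →
        ∀ n : H, (χ : G → ℂ) n = (θ : H → ℂ) n) ∧
      ∀ χ' : Cfsg.IrrCharacter G, Real' (χ' : G → ℂ) →
        Cfsg.classInner (fun n : H => (χ' : G → ℂ) n) (θ : H → ℂ) ≠ 0 → χ' = χ := by
  classical
  haveI := Fintype.ofFinite G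
  set k := Nat.card G - 1 with hk
  have hco : Nat.Coprime k (Nat.card G) := by
    have h : Nat.Coprime k (k + 1) := by simp
    rwa [Nat.sub_add_cancel Nat.card_pos] at h
  have hke : k ^ (2 ^ 1) ≡ 1 [MOD Nat.card G] := by
    rw [← ZMod.natCast_eq_natCast_iff, Nat.cast_pow, hk, Nat.cast_sub (Nat.one_le_of_lt Nat.card_pos),
      ZMod.natCast_self]
    simp
  have hH : ∀ n : H, n ^ k = n⁻¹ := fun n => Subtype.ext (by
    rw [Subgroup.coe_pow, Subgroup.coe_inv]; exact pow_pred _)
  obtain ⟨χ, ⟨h1, h2, h3⟩, h4⟩ := S4519.result H hodd k 1 hco hke (fun g _ => pow_pred g) θ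
    ((real_iff_pow θ k hH).1 hθ)
  exact ⟨χ, ⟨(real_iff_pow χ k pow_pred).2 h2, h1⟩, h3,
    fun χ' hr hc => h4 χ' hc ((real_iff_pow χ' k pow_pred).1 hr)⟩

/-- Degree of the real character over a real character. -/
theorem apply_one_real (H : Subgroup G) [H.Normal] [Fintype H] (hodd : Odd H.index)
    {χ : Cfsg.IrrCharacter G} (hχ : Real' (χ : G → ℂ)) {θ : Cfsg.IrrCharacter H}
    (hθ : Real' (θ : H → ℂ)) (hc : Cfsg.classInner (fun n : H => (χ : G → ℂ) n) (θ : H → ℂ) ≠ 0) :
    (χ : G → ℂ) 1 = ((CharInduced.inertia H (θ : H → ℂ)).index : ℂ) * (θ : H → ℂ) 1 := by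
  classical
  haveI := Fintype.ofFinite G
  set T := CharInduced.inertia H (θ : H → ℂ) with hT
  haveI := Fintype.ofFinite T
  have hNT : H ≤ T := CharInduced.le_inertia H
    (isClassFunction_of_isCharacter (isCharacter_of_isIrrCharacter θ.2))
  obtain ⟨ψ, hψ, hind, hres⟩ := CharCliffordCorr.clifford_correspondence H χ.2 θ.2 hc T hT hNT
  set a := Cfsg.classInner (fun n : H => (χ : G → ℂ) n) (θ : H → ℂ) with ha
  have hψθ : Cfsg.classInner (fun n : H => ψ ⟨n, hNT n.2⟩) (θ : H → ℂ) = a := by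
    rw [hres, CharBasicOrth.classInner_smul_left, classInner_irr_self θ.2, mul_one]
  let ψb : T → ℂ := fun t => conj (ψ t)
  have hψb : Cfsg.IsIrrCharacter T ψb := isIrrCharacter_conj hψ
  have haR : conj a = a := by
    obtain ⟨m, hm⟩ := CharBasicOrth.classInner_isCharacter
      (CharInduced.isCharacter_res H (isCharacter_of_isIrrCharacter χ.2))
      (isCharacter_of_isIrrCharacter θ.2)
    rw [ha, hm, map_natCast]
  have hresb : (fun n : H => ψb ⟨n, hNT n.2⟩) = a • (θ : H → ℂ) := by
    funext n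
    show conj (ψ ⟨n, hNT n.2⟩) = _
    rw [congrFun hres n, Pi.smul_apply, smul_eq_mul, map_mul, haR, Complex.conj_eq_iff_im.2 (hθ n)]
  have hψbθ : Cfsg.classInner (fun n : H => ψb ⟨n, hNT n.2⟩) (θ : H → ℂ) = a := by
    rw [hresb, CharBasicOrth.classInner_smul_left, classInner_irr_self θ.2, mul_one]
  have heq : ψb = ψ := by
    refine CharInduced.ind_inertia_injective H T hNT θ.2
      (fun g => by rw [hT]; exact CharInduced.mem_inertia H) hψb hψ (by rw [hψbθ]; exact hc)
      (by rw [hψθ]; exact hc) ?_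
    rw [CharInduced.ind_conj, hind]
    funext g
    exact Complex.conj_eq_iff_im.2 (hχ g)
  have hψr : Real' ψ := fun t => Complex.conj_eq_iff_im.1 (congrFun heq t)
  -- the real extension to the inertia group
  set H' := H.subgroupOf T with hH'
  haveI := Fintype.ofFinite H'
  let e : H' ≃* H := Subgroup.subgroupOfEquivOfLe hNT
  let θ' : Cfsg.IrrCharacter H' :=
    ⟨(θ : H → ℂ) ∘ e.toMonoidHom, isIrrCharacter_comap e.toMonoidHom e.surjective θ.2⟩
  have hodd' : Odd H'.index :=
    Odd.of_dvd_nat hodd (Subgroup.relIndex_dvd_index_of_normal H T)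
  obtain ⟨η, -, hη, huniq⟩ := existsUnique_over H' hodd' θ' (fun n => hθ _)
  have hinv : ∀ g : T, ∀ n : H', (θ' : H' → ℂ)
      ⟨g * n * g⁻¹, (inferInstance : H'.Normal).conj_mem n n.2 g⟩ = (θ' : H' → ℂ) n := fun g n =>
    (CharInduced.mem_inertia_iff H).1 g.2 (e n)
  have h' : Cfsg.classInner (fun n : H' => ψ n) (θ' : H' → ℂ) = a := by
    rw [← hψθ, ← classInner_congr_equiv e]
    rfl
  have e1 := huniq ⟨ψ, hψ⟩ hψr (by rw [h']; exact hc)
  have h1 : ψ 1 = (θ : H → ℂ) 1 := by
    have := hη hinv 1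
    rw [← e1] at this
    change ψ ((1 : H') : T) = (θ : H → ℂ) (e 1) at this
    simpa using this
  rw [← congrFun hind 1, CharInduced.ind_one_apply, h1]

/-- A real character of degree prime to `p` lies over a real one with `P` in its inertia group. -/
theorem exists_below {p : ℕ} [hp : Fact p.Prime] (H : Subgroup G) [H.Normal] [Fintype H]
    (hodd : Odd H.index) (P : Sylow p G) (χ : Cfsg.IrrCharacter G) (hχ : Real' (χ : G → ℂ))
    (hd : ¬ p ∣ Cfsg.charDegree (χ : G → ℂ)) :
    ∃ θ : Cfsg.IrrCharacter H, Real' (θ : H → ℂ) ∧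
      (P : Subgroup G) ≤ CharInduced.inertia H (θ : H → ℂ) ∧
      ¬ p ∣ Cfsg.charDegree (θ : H → ℂ) ∧
      Cfsg.classInner (fun n : H => (χ : G → ℂ) n) (θ : H → ℂ) ≠ 0 := by
  classical
  haveI := Fintype.ofFinite G
  have hres := CharInduced.isCharacter_res H (isCharacter_of_isIrrCharacter χ.2)
  obtain ⟨θ₀, hθ₀, hne⟩ := CharInduced.exists_constituent hres
    (CharInduced.isCharacter_ne_zero_of_apply_one (d := Cfsg.charDegree (χ : G → ℂ))
      (Nat.pos_of_ne_zero fun h => hd (h ▸ dvd_zero p)) (by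
        show (χ : G → ℂ) ((1 : H) : G) = _
        rw [OneMemClass.coe_one, deg_cast]))
  -- it is real
  have hθr : Real' θ₀ := by
    let θb : H → ℂ := fun n => conj (θ₀ n)
    have hneb : Cfsg.classInner (fun n : H => (χ : G → ℂ) n) θb ≠ 0 := by
      have e : Cfsg.classInner (fun n : H => (χ : G → ℂ) n) θb =
          conj (Cfsg.classInner (fun n : H => (χ : G → ℂ) n) θ₀) := by
        simp only [Cfsg.classInner, map_mul, map_inv₀, map_natCast, finsum_eq_sum_of_fintype,
          map_sum, θb]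
        congr 1
        refine Finset.sum_congr rfl fun n _ => ?_
        rw [Complex.conj_eq_iff_im.2 (hχ _)]
      rw [e]
      exact fun h => hne (by simpa using h)
    obtain ⟨g, hg⟩ := (CharInduced.mem_orbitFin H).1 (CharInduced.mem_orbit_of_constituents H χ.2
      hθ₀ (isIrrCharacter_conj hθ₀) hne hneb)
    have hodd' : ∀ j : ℕ, CharInduced.conjFun H θ₀ (g ^ (2 * j + 1)) = θb := by
      intro j
      induction j with
      | zero => simpa using hg
      | succ j ih =>
        have hg2 : CharInduced.conjFun H θb g = θ₀ := by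
          funext n
          exact (congrArg conj (congrFun hg n)).trans (Complex.conj_conj _)
        rw [show 2 * (j + 1) + 1 = (2 * j + 1) + 1 + 1 by ring, pow_succ _ ((2 * j + 1) + 1),
          pow_succ _ (2 * j + 1), ← CharInduced.conjFun_conjFun, ← CharInduced.conjFun_conjFun, ih,
          hg2, hg]
    obtain ⟨a, ha⟩ := hodd
    have h2 : CharInduced.conjFun H θ₀ (g ^ H.index) = θ₀ :=
      (CharInduced.mem_inertia H).1 (CharInduced.le_inertia H
        (isClassFunction_of_isCharacter (isCharacter_of_isIrrCharacter hθ₀))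
        (Subgroup.pow_index_mem H g))
    rw [ha, hodd' a] at h2
    exact fun n => Complex.conj_eq_iff_im.1 (congrFun h2 n)
  set T := CharInduced.inertia H θ₀ with hT
  have hdeg := apply_one_real H hodd hχ (θ := ⟨θ₀, hθ₀⟩) hθr hne
  have e : Cfsg.charDegree (χ : G → ℂ) = T.index * Cfsg.charDegree θ₀ := by
    rw [deg_cast, deg_cast ⟨θ₀, hθ₀⟩, ← Nat.cast_mul, Nat.cast_inj] at hdeg
    exact hdeg
  have hT' : ¬ p ∣ T.index := fun h => hd (e ▸ dvd_mul_of_dvd_left h _)
  obtain ⟨q', hq'⟩ := P.isPGroup'.nonempty_fixed_point_of_prime_not_dvd_card (G ⧸ T) hT'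
  obtain ⟨g, rfl⟩ := QuotientGroup.mk_surjective q'
  refine ⟨⟨CharInduced.conjFun H θ₀ g⁻¹,
    isIrrCharacter_comap (MulAut.conjNormal g⁻¹ : H ≃* H).toMonoidHom
      (MulAut.conjNormal g⁻¹ : H ≃* H).surjective hθ₀⟩, fun n => hθr _, fun u hu => ?_, ?_, ?_⟩
  · rw [CharInduced.mem_inertia]
    show CharInduced.conjFun H (CharInduced.conjFun H θ₀ g⁻¹) u = _
    rw [CharInduced.conjFun_conjFun, CharInduced.conjFun_eq_iff, inv_inv]
    have h1 := QuotientGroup.eq.1 (show (((u * g : G)) : G ⧸ T) = (g : G ⧸ T) from hq' ⟨u, hu⟩).symm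
    rwa [← mul_assoc] at h1
  · have h1 : Cfsg.charDegree (CharInduced.conjFun H θ₀ g⁻¹) = Cfsg.charDegree θ₀ := by
      simp only [Cfsg.charDegree]
      congr 2
      exact congrArg θ₀ (Subtype.ext (by simp))
    show ¬ p ∣ Cfsg.charDegree (CharInduced.conjFun H θ₀ g⁻¹)
    rw [h1]
    exact fun h => hd (e ▸ dvd_mul_of_dvd_right h _)
  · show Cfsg.classInner _ (CharInduced.conjFun H θ₀ g⁻¹) ≠ 0
    have h1 : Cfsg.classInner (fun n : H => (χ : G → ℂ) n) (CharInduced.conjFun H θ₀ g⁻¹) =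
        Cfsg.classInner (fun n : H => (χ : G → ℂ) n) θ₀ := by
      conv_lhs => rw [← CharInduced.conjFun_res H
        (isClassFunction_of_isCharacter (isCharacter_of_isIrrCharacter χ.2)) g⁻¹]
      refine (congrArg₂ Cfsg.classInner ?_ ?_).trans
        (classInner_congr_equiv (MulAut.conjNormal g⁻¹ : H ≃* H) (fun n : H => (χ : G → ℂ) n) θ₀)
      · funext n
        show (χ : G → ℂ) (g⁻¹ * n * g⁻¹⁻¹) = (χ : G → ℂ) ((MulAut.conjNormal g⁻¹ n : H) : G)
        rw [MulAut.conjNormal_apply]
      · funext n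
        exact congrArg θ₀ (Subtype.ext (MulAut.conjNormal_apply g⁻¹ n).symm)
    rw [h1]; exact hne

/-- Orbit lengths are congruent to those in the normalizer. -/
theorem index_modEq {p : ℕ} [hp : Fact p.Prime] (P : Sylow p G) (T : Subgroup G)
    (hPT : (P : Subgroup G) ≤ T) :
    T.index ≡ (T.subgroupOf (Subgroup.normalizer ((P : Subgroup G) : Set G))).index [MOD p] := by
  classical
  set N := Subgroup.normalizer ((P : Subgroup G) : Set G) with hN
  refine (P.isPGroup'.card_modEq_card_fixedPoints (G ⧸ T)).trans (congrArg (· % p) ?_)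
  let f : N → MulAction.fixedPoints (P : Subgroup G) (G ⧸ T) := fun n =>
    ⟨((n : G) : G ⧸ T), fun u => by
      show (((u : G) * n : G) : G ⧸ T) = ((n : G) : G ⧸ T)
      refine QuotientGroup.eq.2 ?_
      have h1 : (n : G)⁻¹ * (u : G)⁻¹ * n ∈ (P : Subgroup G) := by
        have := (Subgroup.mem_normalizer_iff.1 (inv_mem n.2) (u : G)⁻¹).1 (inv_mem u.2)
        rwa [inv_inv] at this
      simpa [mul_assoc] using hPT h1⟩
  let F : N ⧸ T.subgroupOf N → MulAction.fixedPoints (P : Subgroup G) (G ⧸ T) :=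
    Quotient.lift f fun a b hab => Subtype.ext (QuotientGroup.eq.2
      (show (a : G)⁻¹ * (b : G) ∈ T from (QuotientGroup.leftRel_apply.1 hab :)))
  refine (Nat.card_congr (Equiv.ofBijective F ⟨?_, ?_⟩)).symm
  · intro a b
    refine Quotient.inductionOn₂ a b fun a b h => ?_
    have h' : ((a : G) : G ⧸ T) = ((b : G) : G ⧸ T) := congrArg Subtype.val h
    refine Quotient.sound (QuotientGroup.leftRel_apply.2 ?_)
    show (a : G)⁻¹ * (b : G) ∈ T
    exact QuotientGroup.eq.1 h'
  · rintro ⟨q, hq⟩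
    obtain ⟨g, rfl⟩ := QuotientGroup.mk_surjective q
    have hmem : ∀ u ∈ (P : Subgroup G), g⁻¹ * u * g ∈ T := by
      intro u hu
      have := QuotientGroup.eq.1 (show (((u * g : G)) : G ⧸ T) = (g : G ⧸ T) from hq ⟨u, hu⟩).symm
      rwa [← mul_assoc] at this
    -- two Sylow subgroups of `T`
    let P' : Sylow p G := MulAut.conj g⁻¹ • P
    have hP'T : (P' : Subgroup G) ≤ T := by
      intro x hx
      obtain ⟨u, hu, rfl⟩ := (Subgroup.mem_smul_pointwise_iff_exists _ _ _).1 hx
      simpa [MulAut.smul_def, MulAut.conj_apply] using hmem u hu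
    obtain ⟨t, ht⟩ := MulAction.exists_smul_eq T (P.subtype hPT) (P'.subtype hP'T)
    refine ⟨QuotientGroup.mk ⟨g * t, ?_⟩, Subtype.ext ?_⟩
    · have h1 : MulAut.conj (t : G) • P = P' := by
        rw [Sylow.smul_subtype] at ht
        exact Sylow.subtype_injective ht
      have h2 : MulAut.conj (g * t : G) • P = P := by
        rw [map_mul, mul_smul, h1, smul_smul, ← map_mul, mul_inv_cancel, map_one, one_smul]
      exact Sylow.smul_eq_iff_mem_normalizer.1 h2
    · show ((g * (t : G) : G) : G ⧸ T) = (g : G ⧸ T)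
      exact QuotientGroup.eq.2 (by simp [t.2])

/-- Two conjugate characters whose inertia groups contain `P` are conjugate in `N(P)`. -/
theorem exists_normalizer_conj {p : ℕ} [hp : Fact p.Prime] (H : Subgroup G) [H.Normal]
    (P : Sylow p G) (θ η : H → ℂ) (g : G) (hg : CharInduced.conjFun H θ g = η)
    (hθ : (P : Subgroup G) ≤ CharInduced.inertia H θ)
    (hη : (P : Subgroup G) ≤ CharInduced.inertia H η) :
    ∃ n ∈ Subgroup.normalizer ((P : Subgroup G) : Set G), CharInduced.conjFun H θ n = η := by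
  classical
  set T := CharInduced.inertia H η with hT
  let P' : Sylow p G := MulAut.conj g⁻¹ • P
  have hP'T : (P' : Subgroup G) ≤ T := by
    intro x hx
    obtain ⟨u, hu, rfl⟩ := (Subgroup.mem_smul_pointwise_iff_exists _ _ _).1 hx
    rw [hT, CharInduced.mem_inertia, ← hg, MulAut.smul_def, MulAut.conj_apply, inv_inv,
      CharInduced.conjFun_conjFun, CharInduced.conjFun_eq_iff]
    simpa [mul_assoc] using hθ hu
  obtain ⟨t, ht⟩ := MulAction.exists_smul_eq T (P.subtype hη) (P'.subtype hP'T)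
  refine ⟨g * t, ?_, ?_⟩
  · have h1 : MulAut.conj (t : G) • P = P' := by
      rw [Sylow.smul_subtype] at ht
      exact Sylow.subtype_injective ht
    exact Sylow.smul_eq_iff_mem_normalizer.1
      (show MulAut.conj (g * t : G) • P = P by
        rw [map_mul, mul_smul, h1, smul_smul, ← map_mul, mul_inv_cancel, map_one, one_smul])
  · rw [← CharInduced.conjFun_conjFun, hg]
    exact t.2

end Cfsg.Agent.RealMcKay38
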