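import Mathlib
import Cfsg.Agent.Lib.CharInducedCorr
import Cfsg.Agent.Lib.CharCliffordCorr
import Cfsg.Agent.Lib.CharBasicLinear
import Cfsg.Agent.Lib.DegreeDvd
import Cfsg.Agent.Lib.CharKernel

/-!
Real characters of odd degree: linear constituents on a Sylow 2-subgroup (helper30).
-/

set_option autoImplicit false

open scoped ComplexConjugate

namespace Cfsg.Agent.RealOddChars30

open Cfsg Cfsg.Agent.CharBasic Cfsg.Agent.CharBasicOrth Cfsg.Agent.CharBasicDecomp
  Cfsg.Agent.CharInduced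

universe u

noncomputable local instance (priority := 100) fintypeOfFin {α : Type*} [Finite α] : Fintype α :=
  Fintype.ofFinite α

set_option linter.unusedSectionVars false

variable {G : Type u} [Group G] [Finite G]

/-- degree is odd -/
def OddDeg (χ : G → ℂ) : Prop := ∃ k : ℕ, Odd k ∧ χ 1 = k

/-- real-valued -/
def RealF (χ : G → ℂ) : Prop := ∀ g, conj (χ g) = χ g

/-- values are signs -/
def SqHom {H : Type*} [Group H] (lam : H →* ℂˣ) : Prop := ∀ u, lam u ^ 2 = 1

/-- multiplicity of a linear character in a restriction -/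
noncomputable def mult (H : Subgroup G) (χ : G → ℂ) (lam : H →* ℂˣ) : ℂ :=
  classInner (fun u : H => χ u) (fun u => (lam u : ℂ))

/-- odd multiplicity -/
def OddMult (H : Subgroup G) (χ : G → ℂ) (lam : H →* ℂˣ) : Prop :=
  ∃ k : ℕ, Odd k ∧ mult H χ lam = k

theorem OddMult.ne_zero {H : Subgroup G} {χ : G → ℂ} {lam : H →* ℂˣ} (h : OddMult H χ lam) :
    mult H χ lam ≠ 0 := by
  obtain ⟨k, hk, h⟩ := h
  rw [h]; exact Nat.cast_ne_zero.2 hk.pos.ne'

theorem units_conj_inv {H : Type*} [Group H] [Finite H] (lam : H →* ℂˣ) (u : H) :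
    conj (lam u : ℂ) = ((lam u⁻¹ : ℂˣ) : ℂ) := by
  rw [map_inv, Units.val_inv_eq_inv_val, Complex.inv_eq_conj (norm_linear lam u)]

theorem sqHom_of_real {H : Type*} [Group H] [Finite H] {lam : H →* ℂˣ}
    (h : RealF (fun u => (lam u : ℂ))) : SqHom lam := by
  intro u
  have h1 := (units_conj_inv lam u).symm.trans (h u)
  rw [Units.val_inj, map_inv, inv_eq_iff_mul_eq_one] at h1
  rwa [sq]

theorem real_of_sqHom {H : Type*} [Group H] [Finite H] {lam : H →* ℂˣ} (h : SqHom lam) :
    RealF (fun u => (lam u : ℂ)) := by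
  intro u
  simp only
  rw [units_conj_inv, map_inv, inv_eq_of_mul_eq_one_right (by rw [← sq]; exact h u)]

theorem exists_odd_constituent {a : G → ℂ} (ha : IsCharacter G a) (hodd : OddDeg a) :
    ∃ ψ : G → ℂ, IsIrrCharacter G ψ ∧ OddDeg ψ ∧ classInner a ψ ≠ 0 := by
  obtain ⟨m, hm, hsum⟩ := exists_mult ha
  choose d hd0 hd using fun ψ : IrrCharacter G => isIrrCharacter_apply_one ψ.2
  obtain ⟨k, hk, hk1⟩ := hodd
  by_contra hcon
  push Not at hcon
  have h1 := congrFun hsum 1
  simp only [Finset.sum_apply, Pi.smul_apply, smul_eq_mul, hd, hk1] at h1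
  norm_cast at h1
  have heven : Even k := by
    rw [h1]
    refine Finset.sum_induction _ Even (fun _ _ => Even.add) Even.zero fun ψ _ => ?_
    by_cases h : m ψ = 0
    · simp [h]
    · rcases Nat.even_or_odd (d ψ) with he | ho
      · exact he.mul_left _
      · exact absurd (hcon _ ψ.2 ⟨_, ho, hd ψ⟩) (by rw [hm]; exact_mod_cast h)
  exact (Nat.not_even_iff_odd.2 hk) heven

theorem linear_of_odd_irr {H : Type u} [Group H] [Finite H] (A : Subgroup H) [A.Normal]
    (hA : ∀ a b : A, a * b = b * a) {e : ℕ} (he : A.index = 2 ^ e)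
    {χ : H → ℂ} (hχ : IsIrrCharacter H χ) (hodd : OddDeg χ) :
    ∃ lam : H →* ℂˣ, χ = fun g => (lam g : ℂ) := by
  refine CharBasicLinear.exists_hom_of_apply_one_eq_one (isCharacter_of_isIrrCharacter hχ) ?_
  obtain ⟨n, -, hn, hdvd⟩ := DegreeDvd.degree_dvd_index_abelian hχ A hA
  obtain ⟨k, hk, hk1⟩ := hodd
  obtain rfl : n = k := Nat.cast_injective (hn.symm.trans hk1)
  rw [he] at hdvd
  obtain ⟨i, -, rfl⟩ := (Nat.dvd_prime_pow Nat.prime_two).1 hdvd
  rcases i with _ | i
  · simpa using hn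
  · exact absurd hk (Nat.not_odd_iff_even.2 ⟨2 ^ i, by rw [pow_succ]; ring⟩)

theorem exists_linear_constituent {H : Subgroup G} (hH : IsPGroup 2 H) {χ : G → ℂ}
    (hχ : IsCharacter G χ) (hodd : OddDeg χ) : ∃ lam : H →* ℂˣ, mult H χ lam ≠ 0 := by
  obtain ⟨k, hk, hk1⟩ := hodd
  obtain ⟨ψ, hψ, hψo, hne⟩ :=
    exists_odd_constituent (a := fun u : H => χ u) (isCharacter_res H hχ) ⟨k, hk, hk1⟩
  obtain ⟨e, he⟩ := IsPGroup.iff_card.1 hH
  obtain ⟨lam, rfl⟩ := linear_of_odd_irr (⊥ : Subgroup H) (fun a b => Subsingleton.elim _ _)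
    (e := e) (by rw [Subgroup.index_bot, he]) hψ hψo
  exact ⟨lam, hne⟩

theorem exists_odd_over {H : Subgroup G} (hH : Odd H.index) (lam : H →* ℂˣ) :
    ∃ χ : G → ℂ, IsIrrCharacter G χ ∧ OddDeg χ ∧ mult H χ lam ≠ 0 := by
  have hc := isCharacter_ind H (isCharacter_linear lam)
  obtain ⟨χ, hχ, hodd, hne⟩ := exists_odd_constituent hc
    ⟨H.index, hH, by rw [ind_one_apply, map_one, Units.val_one, mul_one]⟩
  refine ⟨χ, hχ, hodd, fun h => hne ?_⟩
  rw [inner_ind_left H _ (isClassFunction_irr hχ), ← CharInduced.inner_conj_symm]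
  show conj (mult H χ lam) = 0
  rw [h, map_zero]

/-- Monotonicity of linear constituents under restriction. -/
theorem res_ne_zero {H K : Type u} [Group H] [Finite H] [Group K] [Finite K] (f : H →* K)
    {a : K → ℂ} (ha : IsCharacter K a) {lam : K →* ℂˣ}
    (h : classInner a (fun u => (lam u : ℂ)) ≠ 0) :
    classInner (fun v : H => a (f v)) (fun v => (lam (f v) : ℂ)) ≠ 0 := by
  obtain ⟨d, hd⟩ := classInner_isCharacter
    (isCharacter_comap f (isCharacter_sub_constituent ha (isIrrCharacter_linear lam) h))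
    (isCharacter_linear (lam.comp f))
  have h1 : classInner (fun v : H => a (f v)) (fun v => (lam (f v) : ℂ)) = (d : ℂ) + 1 := by
    rw [← hd, ← classInner_irr_self (isIrrCharacter_linear (lam.comp f)), ← CharInduced.inner_add_left]
    congr 1
    funext v
    simp
  rw [h1]
  exact_mod_cast Nat.succ_ne_zero d

/-- The restriction of `lam` to a smaller subgroup. -/
theorem mult_mono {H K : Subgroup G} (hHK : H ≤ K) {χ : G → ℂ} (hχ : IsCharacter G χ)
    {lam : K →* ℂˣ} (h : mult K χ lam ≠ 0) :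
    mult H χ (lam.comp (Subgroup.inclusion hHK)) ≠ 0 :=
  res_ne_zero (Subgroup.inclusion hHK) (a := fun u : K => χ u) (isCharacter_res K hχ) h

/-- the conjugate of a linear character of a normal subgroup -/
def conjHom (L : Subgroup G) [hL : L.Normal] (θ : L →* ℂˣ) (g : G) : L →* ℂˣ :=
  θ.comp (MulAut.conjNormal g : L ≃* L).toMonoidHom

theorem conjHom_apply (L : Subgroup G) [hL : L.Normal] (θ : L →* ℂˣ) (g : G) (n : L) :
    conjHom L θ g n = θ ⟨g * n * g⁻¹, hL.conj_mem n n.2 g⟩ := by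
  show θ _ = θ _
  exact congrArg θ (Subtype.ext (MulAut.conjNormal_apply g n))

theorem coe_conjHom (L : Subgroup G) [L.Normal] (θ : L →* ℂˣ) (g : G) :
    (fun n => (conjHom L θ g n : ℂ)) = conjFun L (fun n => (θ n : ℂ)) g :=
  funext fun n => congrArg Units.val (conjHom_apply L θ g n)

theorem coe_hom_inj {L : Subgroup G} {θ θ' : L →* ℂˣ}
    (h : (fun n => (θ n : ℂ)) = fun n => (θ' n : ℂ)) : θ = θ' :=
  MonoidHom.ext fun n => Units.ext (congrFun h n)

theorem conjHom_conjHom (L : Subgroup G) [L.Normal] (θ : L →* ℂˣ) (a b : G) :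
    conjHom L (conjHom L θ a) b = conjHom L θ (a * b) := by
  refine coe_hom_inj ?_
  rw [coe_conjHom, coe_conjHom, coe_conjHom, conjFun_conjFun]

theorem conjHom_one (L : Subgroup G) [L.Normal] (θ : L →* ℂˣ) : conjHom L θ 1 = θ := by
  refine coe_hom_inj ?_
  rw [coe_conjHom, conjFun_one]

/-- a character lies above an invariant linear character -/
def Above (M : Subgroup G) (θ : M →* ℂˣ) (χ : G → ℂ) : Prop := ∀ m : M, χ m = θ m * χ 1

theorem above_of_constituent (M : Subgroup G) [M.Normal] (θ : M →* ℂˣ)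
    (hinv : ∀ g, conjHom M θ g = θ) {χ : G → ℂ} (hχ : IsIrrCharacter G χ)
    (h : mult M χ θ ≠ 0) : Above M θ χ := by
  have hc := clifford M hχ (isIrrCharacter_linear θ) h
  classical
  have ho : orbitFin M (fun n => (θ n : ℂ)) = {fun n => (θ n : ℂ)} := by
    ext φ
    rw [mem_orbitFin, Finset.mem_singleton]
    refine ⟨?_, fun h => ⟨1, by rw [h, conjFun_one]⟩⟩
    rintro ⟨g, rfl⟩
    rw [← coe_conjHom, hinv]
  rw [ho, Finset.sum_singleton] at hc
  intro m
  have h1 := congrFun hc 1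
  have h2 := congrFun hc m
  simp only [Pi.smul_apply, smul_eq_mul, OneMemClass.coe_one, map_one, Units.val_one, mul_one]
    at h1 h2
  rw [h2, h1, mul_comm]

theorem mult_of_above {M : Subgroup G} {θ : M →* ℂˣ} {χ : G → ℂ} (h : Above M θ χ) :
    mult M χ θ = χ 1 := by
  have h1 : (fun m : M => χ m) = χ 1 • fun m : M => (θ m : ℂ) :=
    funext fun m => (h m).trans (mul_comm _ _)
  rw [mult, h1, classInner_smul_left, classInner_irr_self (isIrrCharacter_linear θ), mul_one]

/-- a linear constituent of a restriction lies above the same linear character -/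
theorem comp_eq_of_above {M H : Subgroup G} (hMH : M ≤ H) {θ : M →* ℂˣ} {χ : G → ℂ}
    (hχ : IsCharacter G χ) (h : Above M θ χ) {lam : H →* ℂˣ} (hl : mult H χ lam ≠ 0) :
    lam.comp (Subgroup.inclusion hMH) = θ := by
  by_contra hne
  refine mult_mono hMH hχ hl ?_
  have h1 : (fun m : M => χ m) = χ 1 • fun m : M => (θ m : ℂ) :=
    funext fun m => (h m).trans (mul_comm _ _)
  rw [mult, h1, classInner_smul_left, classInner_irr_ne (isIrrCharacter_linear θ)
    (isIrrCharacter_linear _) (fun e => hne (coe_hom_inj e).symm), mul_zero]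

/-- Two `P`-fixed linear characters of a normal subgroup conjugate in `G` are conjugate in
`N(P)`. -/
theorem fusion (P : Sylow 2 G) (L : Subgroup G) [L.Normal] (θ : L →* ℂˣ) (g : G)
    (h1 : ∀ u ∈ (P : Subgroup G), conjHom L θ u = θ)
    (h2 : ∀ u ∈ (P : Subgroup G), conjHom L (conjHom L θ g) u = conjHom L θ g) :
    ∃ h ∈ Subgroup.normalizer ((P : Subgroup G) : Set G), conjHom L θ h = conjHom L θ g := by
  let T : Subgroup G := inertia L (fun n => (θ n : ℂ))
  have hmem : ∀ x, x ∈ T ↔ conjHom L θ x = θ := fun x => by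
    rw [mem_inertia, ← coe_conjHom]
    exact ⟨coe_hom_inj, fun h => by rw [h]⟩
  have hP : (P : Subgroup G) ≤ T := fun u hu => (hmem u).2 (h1 u hu)
  have hgP : ((g • P : Sylow 2 G) : Subgroup G) ≤ T := by
    rw [Sylow.coe_subgroup_smul]
    rintro x ⟨u, hu, rfl⟩
    change g * u * g⁻¹ ∈ T
    rw [hmem, ← conjHom_conjHom, ← conjHom_conjHom, h2 u hu, conjHom_conjHom, mul_inv_cancel,
      conjHom_one]
  obtain ⟨t, ht⟩ := MulAction.exists_smul_eq T ((g • P).subtype hgP) (P.subtype hP)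
  rw [Sylow.smul_subtype] at ht
  have ht' := Sylow.subtype_injective ht
  rw [Subgroup.smul_def, smul_smul] at ht'
  refine ⟨t * g, Sylow.smul_eq_iff_mem_normalizer.1 ht', ?_⟩
  rw [← conjHom_conjHom, (hmem t).1 t.2]

theorem pow_relIndex_mem (P : Sylow 2 G) {h : G}
    (hh : h ∈ Subgroup.normalizer ((P : Subgroup G) : Set G)) :
    ∃ k : ℕ, h ^ (2 * k + 1) ∈ (P : Subgroup G) := by
  set N := Subgroup.normalizer ((P : Subgroup G) : Set G) with hN
  have hm : Odd ((P : Subgroup G).relIndex N) := by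
    refine Nat.odd_iff.2 (Nat.two_dvd_ne_zero.1 fun h2 => P.not_dvd_index ?_)
    exact h2.trans (Subgroup.relIndex_dvd_index_of_le Subgroup.le_normalizer)
  obtain ⟨k, hk⟩ := hm
  refine ⟨k, ?_⟩
  rw [← hk]
  have : ((P : Subgroup G).subgroupOf N).Normal := Subgroup.normal_in_normalizer
  exact Subgroup.mem_subgroupOf.1
    (((P : Subgroup G).subgroupOf N).pow_index_mem ⟨h, hh⟩)

/-- A `P`-fixed linear constituent of a real character is real. -/
theorem sqHom_of_constituent (P : Sylow 2 G) (L : Subgroup G) [L.Normal] (θ : L →* ℂˣ)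
    (hfix : ∀ u ∈ (P : Subgroup G), conjHom L θ u = θ) {χ : G → ℂ} (hχ : IsIrrCharacter G χ)
    (hr : RealF χ) (hne : mult L χ θ ≠ 0) : SqHom θ := by
  let θb : L →* ℂˣ := θ⁻¹
  have hb : (fun n => (θb n : ℂ)) = fun n => conj (θ n : ℂ) := funext fun n => by
    rw [units_conj_inv, map_inv]; rfl
  have hne' : mult L χ θb ≠ 0 := by
    intro h
    refine hne ((starRingEnd_self_apply _).symm.trans ?_)
    have h0 : conj (mult L χ θ) = 0 := by
      rw [← h]
      simp only [mult, classInner, map_mul, map_inv₀, map_natCast, map_sum, hr _]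
      refine congrArg _ (Finset.sum_congr rfl fun x _ => ?_)
      rw [show (θb x : ℂ) = conj (θ x : ℂ) from congrFun hb x]
    rw [h0, map_zero]
  obtain ⟨g, hg⟩ := (mem_orbitFin L).1 (mem_orbit_of_constituents L hχ (isIrrCharacter_linear θ)
    (isIrrCharacter_linear θb) hne hne')
  rw [← coe_conjHom] at hg
  have hg' : conjHom L θ g = θb := coe_hom_inj hg
  have hinv : ∀ x, conjHom L θ⁻¹ x = (conjHom L θ x)⁻¹ := fun x => rfl
  obtain ⟨h, hh, hhθ⟩ := fusion P L θ g hfix (fun u hu => by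
    rw [hg', hinv, hfix u hu])
  rw [hg'] at hhθ
  have hit : ∀ k : ℕ, conjHom L θ (h ^ (2 * k + 1)) = θ⁻¹ := by
    intro k
    induction k with
    | zero => rw [mul_zero, zero_add, pow_one]; exact hhθ
    | succ k ih =>
      rw [show 2 * (k + 1) + 1 = (2 * k + 1) + 1 + 1 by ring, pow_succ, pow_succ, ← conjHom_conjHom,
        ← conjHom_conjHom, ih, hinv, hhθ]
      rw [show θb⁻¹ = θ from inv_inv θ]
      exact hhθ
  obtain ⟨k, hk⟩ := pow_relIndex_mem P hh
  have := (hfix _ hk).symm.trans (hit k)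
  intro n
  rw [sq, mul_eq_one_iff_eq_inv]
  exact DFunLike.congr_fun this n

end Cfsg.Agent.RealOddChars30
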