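import Cfsg.Agent.Lib.RealOddChars30

/-!
Odd-degree real characters of solvable groups: the inductive statement and its two
reductions, to a quotient and to an inertia group (helper30).
-/

set_option autoImplicit false
set_option linter.unusedSectionVars false

open scoped ComplexConjugate

namespace Cfsg.Agent.RealOddChars30

open Cfsg Cfsg.Agent.CharBasic Cfsg.Agent.CharBasicOrth Cfsg.Agent.CharBasicDecomp
  Cfsg.Agent.CharInduced

universe u

attribute [local instance] fintypeOfFin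

variable {G : Type u} [Group G] [Finite G]

/-- `lam` agrees with `θ` -/
def Ext (M : Subgroup G) (θ : M →* ℂˣ) (P : Subgroup G) (lam : P →* ℂˣ) : Prop :=
  ∀ (m : M) (h : (m : G) ∈ P), lam ⟨m, h⟩ = θ m

/-- real odd-degree irreducible characters above `θ` -/
def Good (M : Subgroup G) (θ : M →* ℂˣ) (χ : G → ℂ) : Prop :=
  IsIrrCharacter G χ ∧ OddDeg χ ∧ RealF χ ∧ Above M θ χ

/-- conjugation by the normalizer -/
def ConjRel (P : Subgroup G) (lam mu : P →* ℂˣ) : Prop :=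
  ∃ g ∈ Subgroup.normalizer (P : Set G), ∀ u v : P, (v : G) = g * u * g⁻¹ → mu u = lam v

/-- the inductive statement -/
structure Concl (P : Sylow 2 G) (M : Subgroup G) (θ : M →* ℂˣ) : Prop where
  ex : ∀ χ, Good M θ χ → ∃ lam : (P : Subgroup G) →* ℂˣ, SqHom lam ∧ Ext M θ P lam ∧
    OddMult P χ lam
  uniq : ∀ lam : (P : Subgroup G) →* ℂˣ, SqHom lam → Ext M θ P lam →
    ∃ χ, Good M θ χ ∧ OddMult P χ lam
  inj : ∀ χ χ', Good M θ χ → Good M θ χ' → ∀ lam : (P : Subgroup G) →* ℂˣ, SqHom lam →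
    Ext M θ P lam → OddMult P χ lam → OddMult P χ' lam → χ = χ'
  fib : ∀ χ, Good M θ χ → ∀ lam mu : (P : Subgroup G) →* ℂˣ, SqHom lam → SqHom mu →
    Ext M θ P lam → Ext M θ P mu → OddMult P χ lam → OddMult P χ mu →
    ConjRel (P : Subgroup G) lam mu
  self : Subgroup.normalizer ((P : Subgroup G) : Set G) = P →
    ((∀ χ, IsIrrCharacter G χ → OddDeg χ → Above M θ χ → RealF χ) ↔
      ∀ lam : (P : Subgroup G) →* ℂˣ, Ext M θ P lam → SqHom lam)

theorem classInner_comp_surjective {A B : Type u} [Group A] [Finite A] [Group B] [Finite B]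
    (π : A →* B) (hπ : Function.Surjective π) (f g : B → ℂ) :
    classInner (fun a => f (π a)) (fun a => g (π a)) = classInner f g := by
  classical
  have hfib : ∀ b, (Finset.univ.filter fun a => π a = b).card = Nat.card π.ker := by
    intro b
    obtain ⟨a₀, rfl⟩ := hπ b
    rw [← Fintype.card_subtype, ← Nat.card_eq_fintype_card]
    refine Nat.card_congr
      { toFun := fun a => ⟨a₀⁻¹ * a.1, by simp [MonoidHom.mem_ker, a.2]⟩
        invFun := fun k => ⟨a₀ * k.1, by simp [MonoidHom.mem_ker.1 k.2]⟩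
        left_inv := fun a => Subtype.ext (by simp)
        right_inv := fun k => Subtype.ext (by simp) }
  have hc : Nat.card A = Nat.card π.ker * Nat.card B := by
    rw [← π.ker.card_mul_index, Subgroup.index_ker, MonoidHom.range_eq_top.2 hπ, Subgroup.card_top]
  simp only [classInner]
  rw [← Finset.sum_fiberwise Finset.univ π, hc, Nat.cast_mul, mul_inv, mul_comm (_⁻¹ : ℂ),
    mul_assoc, Finset.mul_sum, Finset.mul_sum, Finset.mul_sum]
  refine Finset.sum_congr rfl fun b _ => ?_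
  rw [Finset.sum_congr rfl (g := fun _ => f b * conj (g b)) fun a ha => by
    rw [(Finset.mem_filter.1 ha).2], Finset.sum_const, hfib, nsmul_eq_mul]
  have : (Nat.card π.ker : ℂ) ≠ 0 := Nat.cast_ne_zero.2 Nat.card_pos.ne'
  field_simp

theorem exists_lift_normalizer {Q : Type u} [Group Q] [Finite Q] (P : Sylow 2 G) (φ : G →* Q)
    (hφ : Function.Surjective φ) {y : Q}
    (hy : y ∈ Subgroup.normalizer ((P.mapSurjective hφ : Subgroup Q) : Set Q)) :
    ∃ g ∈ Subgroup.normalizer ((P : Subgroup G) : Set G), φ g = y := by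
  obtain ⟨g', rfl⟩ := hφ y
  let H : Subgroup G := ((P : Subgroup G).map φ).comap φ
  have hP : (P : Subgroup G) ≤ H := Subgroup.le_comap_map φ P
  have hgP : ((g' • P : Sylow 2 G) : Subgroup G) ≤ H := by
    rw [Sylow.coe_subgroup_smul]
    rintro x ⟨u, hu, rfl⟩
    change φ (g' * u * g'⁻¹) ∈ (P : Subgroup G).map φ
    rw [map_mul, map_mul, map_inv]
    exact (Subgroup.mem_normalizer_iff.1 hy _).1 ⟨u, hu, rfl⟩
  obtain ⟨t, ht⟩ := MulAction.exists_smul_eq H ((g' • P).subtype hgP) (P.subtype hP)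
  rw [Sylow.smul_subtype] at ht
  have ht' := Sylow.subtype_injective ht
  rw [Subgroup.smul_def, smul_smul] at ht'
  obtain ⟨w, hw, hwt⟩ : φ (t : G) ∈ (P : Subgroup G).map φ := t.2
  refine ⟨w⁻¹ * ((t : G) * g'), mul_mem (inv_mem (Subgroup.le_normalizer hw))
    (Sylow.smul_eq_iff_mem_normalizer.1 ht'), ?_⟩
  rw [map_mul, map_mul, map_inv, hwt, inv_mul_cancel_left]

/-- Reduction to a quotient. -/
theorem concl_of_quotient {Q : Type u} [Group Q] [Finite Q] (P : Sylow 2 G) (M : Subgroup G)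
    (θ : M →* ℂˣ) (φ : G →* Q) (hφ : Function.Surjective φ) (θ' : (M.map φ) →* ℂˣ)
    (hθ' : ∀ m : M, θ' ⟨φ m, m, m.2, rfl⟩ = θ m) (hMP : M ≤ P)
    (hK1 : ∀ χ, Good M θ χ → ∀ k, φ k = 1 → χ k = χ 1)
    (hK2 : ∀ lam : (P : Subgroup G) →* ℂˣ, Ext M θ P lam → ∀ u : (P : Subgroup G),
      φ u = 1 → lam u = 1)
    (hK3 : Subgroup.normalizer ((P : Subgroup G) : Set G) = P →
      ∀ χ, IsIrrCharacter G χ → OddDeg χ → Above M θ χ → ∀ k, φ k = 1 → χ k = χ 1)
    (hcl : Concl (P.mapSurjective hφ) (M.map φ) θ') : Concl P M θ := by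
  set Pb : Subgroup Q := ↑(P.mapSurjective hφ) with hPb
  let π : (P : Subgroup G) →* Pb :=
    (φ.comp (P : Subgroup G).subtype).codRestrict Pb fun u => ⟨u, u.2, rfl⟩
  have hπ : Function.Surjective π := by
    rintro ⟨y, u, hu, rfl⟩
    exact ⟨⟨u, hu⟩, rfl⟩
  have hπv : ∀ u, (π u : Q) = φ u := fun u => rfl
  -- descending characters
  have hdesc : ∀ χ, IsIrrCharacter G χ → (∀ k, φ k = 1 → χ k = χ 1) →
      ∃ χb : Q → ℂ, IsIrrCharacter Q χb ∧ χ = χb ∘ φ := by
    intro χ hχ hk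
    obtain ⟨ψ, hψ⟩ := CharKernel.exists_quot_irr φ.ker ⟨χ, hχ⟩ hk
    let e := QuotientGroup.quotientKerEquivOfSurjective φ hφ
    refine ⟨(ψ : G ⧸ φ.ker → ℂ) ∘ e.symm,
      isIrrCharacter_comap e.symm.toMonoidHom e.symm.surjective ψ.2, funext fun g => ?_⟩
    simp only [Function.comp_apply]
    rw [show e.symm (φ g) = (g : G ⧸ φ.ker) from e.symm_apply_eq.2 rfl]
    exact hψ g
  have hlift : ∀ χb : Q → ℂ, IsIrrCharacter Q χb → IsIrrCharacter G (χb ∘ φ) :=
    fun χb h => isIrrCharacter_comap φ hφ h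
  have hodd : ∀ χb : Q → ℂ, OddDeg (χb ∘ φ) ↔ OddDeg χb := fun χb => by
    simp only [OddDeg, Function.comp_apply, map_one]
  have hreal : ∀ χb : Q → ℂ, RealF (χb ∘ φ) ↔ RealF χb := fun χb =>
    (hφ.forall (p := fun y => conj (χb y) = χb y)).symm
  have hab : ∀ χb : Q → ℂ, Above M θ (χb ∘ φ) ↔ Above (M.map φ) θ' χb := by
    refine fun χb => ⟨fun h => ?_, fun h m => ?_⟩
    · rintro ⟨y, m, hm, rfl⟩
      have := h ⟨m, hm⟩
      simp only [Function.comp_apply, map_one, ← hθ'] at this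
      exact this
    · simpa only [Function.comp_apply, map_one, ← hθ'] using h ⟨φ m, m, m.2, rfl⟩
  -- linear characters
  have hldesc : ∀ lam : (P : Subgroup G) →* ℂˣ, Ext M θ P lam →
      ∃ lb : Pb →* ℂˣ, lam = lb.comp π ∧ Ext (M.map φ) θ' Pb lb := by
    intro lam hl
    have hker : π.ker ≤ lam.ker := fun u hu =>
      hK2 lam hl u (congrArg Subtype.val (MonoidHom.mem_ker.1 hu))
    refine ⟨π.liftOfRightInverse _ (Function.rightInverse_surjInv hπ) ⟨lam, hker⟩, ?_, ?_⟩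
    · exact (π.liftOfRightInverse_comp _ (Function.rightInverse_surjInv hπ) ⟨lam, hker⟩).symm
    · rintro ⟨y, m, hm, rfl⟩ h
      have h1 : (⟨φ m, h⟩ : Pb) = π ⟨m, hMP hm⟩ := Subtype.ext rfl
      rw [h1, MonoidHom.liftOfRightInverse_comp_apply, hθ' ⟨m, hm⟩]
      exact hl ⟨m, hm⟩ (hMP hm)
  have hext : ∀ lb : Pb →* ℂˣ, Ext (M.map φ) θ' Pb lb → Ext M θ P (lb.comp π) := by
    intro lb h m hm
    exact (h ⟨φ m, m, m.2, rfl⟩ ⟨m, hm, rfl⟩).trans (hθ' m)
  have hsq : ∀ lb : Pb →* ℂˣ, SqHom (lb.comp π) ↔ SqHom lb := fun lb =>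
    (hπ.forall (p := fun y => lb y ^ 2 = 1)).symm
  have hmult : ∀ (χb : Q → ℂ) (lb : Pb →* ℂˣ),
      mult (P : Subgroup G) (χb ∘ φ) (lb.comp π) = mult Pb χb lb := fun χb lb =>
    classInner_comp_surjective π hπ (fun y : Pb => χb y) (fun y => (lb y : ℂ))
  have hom : ∀ (χb : Q → ℂ) (lb : Pb →* ℂˣ),
      OddMult (P : Subgroup G) (χb ∘ φ) (lb.comp π) ↔ OddMult Pb χb lb := fun χb lb => by
    simp only [OddMult, hmult]
  refine ⟨fun χ hg => ?_, fun lam hs he => ?_, fun χ χ' hg hg' lam hs he h1 h2 => ?_,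
    fun χ hg lam mu hs hs' he he' h1 h2 => ?_, fun hN => ⟨fun h lam he => ?_,
      fun h χ hχ ho ha => ?_⟩⟩
  · obtain ⟨χb, hi, rfl⟩ := hdesc χ hg.1 (hK1 χ hg)
    obtain ⟨lb, hs, he, hm⟩ :=
      hcl.ex χb ⟨hi, (hodd χb).1 hg.2.1, (hreal χb).1 hg.2.2.1, (hab χb).1 hg.2.2.2⟩
    exact ⟨lb.comp π, (hsq lb).2 hs, hext lb he, (hom χb lb).2 hm⟩
  · obtain ⟨lb, rfl, heb⟩ := hldesc lam he
    obtain ⟨χb, hg, hm⟩ := hcl.uniq lb ((hsq lb).1 hs) heb
    exact ⟨χb ∘ φ, ⟨hlift χb hg.1, (hodd χb).2 hg.2.1, (hreal χb).2 hg.2.2.1,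
      (hab χb).2 hg.2.2.2⟩, (hom χb lb).2 hm⟩
  · obtain ⟨lb, rfl, heb⟩ := hldesc lam he
    obtain ⟨χb, hi, rfl⟩ := hdesc χ hg.1 (hK1 χ hg)
    obtain ⟨χb', hi', rfl⟩ := hdesc χ' hg'.1 (hK1 χ' hg')
    rw [hcl.inj χb χb' ⟨hi, (hodd χb).1 hg.2.1, (hreal χb).1 hg.2.2.1, (hab χb).1 hg.2.2.2⟩
      ⟨hi', (hodd χb').1 hg'.2.1, (hreal χb').1 hg'.2.2.1, (hab χb').1 hg'.2.2.2⟩ lb
      ((hsq lb).1 hs) heb ((hom χb lb).1 h1) ((hom χb' lb).1 h2)]
  · obtain ⟨lb, rfl, heb⟩ := hldesc lam he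
    obtain ⟨mb, rfl, heb'⟩ := hldesc mu he'
    obtain ⟨χb, hi, rfl⟩ := hdesc χ hg.1 (hK1 χ hg)
    obtain ⟨y, hy, hrel⟩ := hcl.fib χb
      ⟨hi, (hodd χb).1 hg.2.1, (hreal χb).1 hg.2.2.1, (hab χb).1 hg.2.2.2⟩ lb mb
      ((hsq lb).1 hs) ((hsq mb).1 hs') heb heb' ((hom χb lb).1 h1) ((hom χb mb).1 h2)
    obtain ⟨g, hgN, rfl⟩ := exists_lift_normalizer P φ hφ hy
    refine ⟨g, hgN, fun u v huv => ?_⟩
    exact hrel (π u) (π v) (by rw [hπv, hπv, huv, map_mul, map_mul, map_inv])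
  · obtain ⟨lb, rfl, heb⟩ := hldesc lam he
    refine (hsq lb).2 ((hcl.self ?_).1 (fun χb hi ho ha => (hreal χb).1
      (h _ (hlift χb hi) ((hodd χb).2 ho) ((hab χb).2 ha))) lb heb)
    refine le_antisymm (fun y hy => ?_) Subgroup.le_normalizer
    obtain ⟨g, hg, rfl⟩ := exists_lift_normalizer P φ hφ hy
    exact ⟨g, hN ▸ hg, rfl⟩
  · obtain ⟨χb, hi, rfl⟩ := hdesc χ hχ (hK3 hN χ hχ ho ha)
    refine (hreal χb).2 ((hcl.self ?_).2 (fun lb he => (hsq lb).1 (h _ (hext lb he))) χb hi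
      ((hodd χb).1 ho) ((hab χb).1 ha))
    refine le_antisymm (fun y hy => ?_) Subgroup.le_normalizer
    obtain ⟨g, hg, rfl⟩ := exists_lift_normalizer P φ hφ hy
    exact ⟨g, hN ▸ hg, rfl⟩

/-- conjugation of a linear character of `P` by an element of its normalizer -/
theorem exists_conj_hom (P : Subgroup G) {h : G} (hh : h ∈ Subgroup.normalizer (P : Set G))
    (mu : P →* ℂˣ) : ∃ mu' : P →* ℂˣ, (∀ u v : P, (v : G) = h * u * h⁻¹ → mu' v = mu u) ∧
      ∀ χ : G → ℂ, IsClassFunction G χ → mult P χ mu' = mult P χ mu := by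
  let e : P ≃* P :=
    { toFun := fun v => ⟨h⁻¹ * v * h, (Subgroup.mem_normalizer_iff''.1 hh _).1 v.2⟩
      invFun := fun u => ⟨h * u * h⁻¹, (Subgroup.mem_normalizer_iff.1 hh _).1 u.2⟩
      left_inv := fun v => Subtype.ext (by simp [mul_assoc])
      right_inv := fun u => Subtype.ext (by simp [mul_assoc])
      map_mul' := fun a b => Subtype.ext (by simp [mul_assoc]) }
  refine ⟨mu.comp e.toMonoidHom, fun u v huv => ?_, fun χ hχ => ?_⟩
  · refine congrArg mu (Subtype.ext ?_)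
    show h⁻¹ * v * h = u
    rw [huv]; simp [mul_assoc]
  · have h1 : (fun v : P => χ v) = fun v : P => (fun u : P => χ u) (e v) :=
      funext fun v => (by
        show χ v = χ (h⁻¹ * v * h)
        rw [classFunction_conj' hχ])
    unfold mult
    conv_lhs => rw [h1]
    exact classInner_comp_surjective e.toMonoidHom e.surjective
      (fun u : P => χ u) (fun u => (mu u : ℂ))

theorem sqHom_comp {A B : Type u} [Group A] [Group B] (f : A →* B) {lam : B →* ℂˣ}
    (h : SqHom lam) : SqHom (lam.comp f) := fun a => h (f a)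

theorem fixed_of_ext (P : Sylow 2 G) (L : Subgroup G) [hL : L.Normal] (hLP : L ≤ P)
    (lam : (P : Subgroup G) →* ℂˣ) (θ' : L →* ℂˣ)
    (he : lam.comp (Subgroup.inclusion hLP) = θ') :
    ∀ u ∈ (P : Subgroup G), conjHom L θ' u = θ' := by
  intro u hu
  subst he
  refine MonoidHom.ext fun n => ?_
  rw [conjHom_apply]
  show lam _ = lam _
  have : (Subgroup.inclusion hLP ⟨u * n * u⁻¹, hL.conj_mem n n.2 u⟩) =
      ⟨u, hu⟩ * Subgroup.inclusion hLP n * ⟨u, hu⟩⁻¹ := Subtype.ext rfl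
  rw [this, map_mul, map_mul, map_inv, mul_right_comm, mul_inv_cancel, one_mul]

/-- Reduction to inertia groups. -/
theorem concl_of_inertia (P : Sylow 2 G) (M L : Subgroup G) [M.Normal] [L.Normal]
    (θ : M →* ℂˣ) (hinv : ∀ g, conjHom M θ g = θ) (hML : M ≤ L) (hLP : L ≤ P)
    (ih : ∀ (θ' : L →* ℂˣ), SqHom θ' → ∀ (T : Subgroup G) (hT : ∀ g, g ∈ T ↔ conjHom L θ' g = θ')
      (hPT : (P : Subgroup G) ≤ T),
      Concl (P.subtype hPT) (L.subgroupOf T)
        (θ'.comp (Subgroup.subgroupOfEquivOfLe (hLP.trans hPT)).toMonoidHom)) :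
    Concl P M θ := by
  -- data attached to a linear character `θ'` of `L`
  have key : ∀ (θ' : L →* ℂˣ), SqHom θ' → (∀ u ∈ (P : Subgroup G), conjHom L θ' u = θ') →
      ∃ (T : Subgroup G) (hPT : (P : Subgroup G) ≤ T),
        Concl (P.subtype hPT) (L.subgroupOf T)
          (θ'.comp (Subgroup.subgroupOfEquivOfLe (hLP.trans hPT)).toMonoidHom) ∧
        (∀ χ, IsIrrCharacter G χ → OddDeg χ → mult L χ θ' ≠ 0 →
          ∃ ψ : T → ℂ, IsIrrCharacter T ψ ∧ OddDeg ψ ∧ Above (L.subgroupOf T)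
            (θ'.comp (Subgroup.subgroupOfEquivOfLe (hLP.trans hPT)).toMonoidHom) ψ ∧
            indFun T ψ = χ ∧ (RealF χ → RealF ψ)) ∧
        (∀ ψ : T → ℂ, IsIrrCharacter T ψ → OddDeg ψ → Above (L.subgroupOf T)
            (θ'.comp (Subgroup.subgroupOfEquivOfLe (hLP.trans hPT)).toMonoidHom) ψ →
          IsIrrCharacter G (indFun T ψ) ∧ OddDeg (indFun T ψ) ∧ mult L (indFun T ψ) θ' ≠ 0 ∧
          (RealF ψ → RealF (indFun T ψ)) ∧ (RealF (indFun T ψ) → RealF ψ) ∧
          ∀ lam : (P : Subgroup G) →* ℂˣ, lam.comp (Subgroup.inclusion hLP) = θ' →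
            mult (P : Subgroup G) (indFun T ψ) lam =
              mult (P.subtype hPT : Subgroup T) ψ
                (lam.comp (Subgroup.subgroupOfEquivOfLe hPT).toMonoidHom)) := by
    intro θ' hsq hfix
    let T : Subgroup G := inertia L (fun n => (θ' n : ℂ))
    have hT : ∀ g, g ∈ T ↔ conjHom L θ' g = θ' := fun g => by
      rw [mem_inertia, ← coe_conjHom]
      exact ⟨coe_hom_inj, fun h => by rw [h]⟩
    have hT' : ∀ g, g ∈ T ↔ conjFun L (fun n => (θ' n : ℂ)) g = fun n => (θ' n : ℂ) :=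
      fun g => mem_inertia L
    have hPT : (P : Subgroup G) ≤ T := fun u hu => (hT u).2 (hfix u hu)
    have hLT : L ≤ T := hLP.trans hPT
    have hθi := isIrrCharacter_linear θ'
    have hθr := real_of_sqHom hsq
    have hidx : Odd T.index := by
      refine Nat.odd_iff.2 (Nat.two_dvd_ne_zero.1 fun h2 => P.not_dvd_index ?_)
      exact h2.trans (Subgroup.index_dvd_of_le hPT)
    have habove : ∀ {ψ : T → ℂ}, Above (L.subgroupOf T)
        (θ'.comp (Subgroup.subgroupOfEquivOfLe hLT).toMonoidHom) ψ →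
        classInner (fun n : L => ψ ⟨n, hLT n.2⟩) (fun n => (θ' n : ℂ)) = ψ 1 := by
      intro ψ ha
      have h1 : (fun n : L => ψ ⟨n, hLT n.2⟩) = ψ 1 • fun n : L => (θ' n : ℂ) :=
        funext fun n => (ha ⟨⟨n, hLT n.2⟩, Subgroup.mem_subgroupOf.2 n.2⟩).trans (mul_comm _ _)
      rw [h1, classInner_smul_left, classInner_irr_self hθi, mul_one]
    -- conjugate characters
    have hconj : ∀ {ψ : T → ℂ}, IsIrrCharacter T ψ →
        classInner (fun n : L => ψ ⟨n, hLT n.2⟩) (fun n => (θ' n : ℂ)) ≠ 0 →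
        RealF (indFun T ψ) → RealF ψ := by
      intro ψ hψ hne hr
      have h1 : (fun t : T => conj (ψ t)) = ψ := by
        refine ind_inertia_injective L T hLT hθi hT' (isIrrCharacter_conj hψ) hψ ?_ hne ?_
        · intro h
          refine hne ((starRingEnd_self_apply _).symm.trans ?_)
          have h0 : conj (classInner (fun n : L => ψ ⟨n, hLT n.2⟩) fun n => (θ' n : ℂ)) = 0 := by
            rw [← h]
            simp only [classInner, map_mul, map_inv₀, map_natCast, map_sum, hθr _]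
          rw [h0, map_zero]
        · rw [ind_conj]; exact funext hr
      exact fun t => congrFun h1 t
    refine ⟨T, hPT, ih θ' hsq T hT hPT, fun χ hχ hodd hne => ?_, fun ψ hψ hodd ha => ?_⟩
    · obtain ⟨ψ, hψ, hind, hm⟩ := exists_inertia_constituent L T hLT hθi hT' hχ hne
      have hne' : classInner (fun n : L => ψ ⟨n, hLT n.2⟩) (fun n => (θ' n : ℂ)) ≠ 0 := by
        rw [hm]; exact hne
      refine ⟨ψ, hψ, ?_, ?_, hind, fun hr => hconj hψ hne' (by rwa [hind])⟩
      · obtain ⟨k, hk, hk1⟩ := hodd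
        obtain ⟨d, -, hd⟩ := isIrrCharacter_apply_one hψ
        refine ⟨d, ?_, hd⟩
        rw [← hind, ind_one_apply, hd, ← Nat.cast_mul, Nat.cast_inj] at hk1
        exact (Nat.odd_mul.1 (hk1 ▸ hk)).2
      · have h1 := res_inertia_eq L T hLT hθi hT' hψ hne'
        have h2 := congrFun h1 1
        simp only [Pi.smul_apply, smul_eq_mul, map_one, Units.val_one, mul_one] at h2
        rintro ⟨n, hn⟩
        have h3 := congrFun h1 ⟨(n : G), Subgroup.mem_subgroupOf.1 hn⟩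
        simp only [Pi.smul_apply, smul_eq_mul] at h3
        refine h3.trans ?_
        rw [← h2, mul_comm]
        rfl
    · have hne : classInner (fun n : L => ψ ⟨n, hLT n.2⟩) (fun n => (θ' n : ℂ)) ≠ 0 := by
        rw [habove ha]; exact isIrrCharacter_apply_one_ne_zero hψ
      have hi := ind_inertia_irr L T hLT hθi hT' hψ hne
      have hc : classInner (fun t : T => indFun T ψ t) ψ ≠ 0 := by
        rw [← inner_ind_right T ψ (isClassFunction_ind T ψ), classInner_irr_self hi]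
        exact one_ne_zero
      have hmL := (ind_inertia_eq L T hLT hθi hT' hψ hne hi hc).2
      obtain ⟨k, hk, hk1⟩ := hodd
      refine ⟨hi, ⟨T.index * k, hidx.mul hk, by rw [ind_one_apply, hk1, Nat.cast_mul]⟩,
        by rw [mult, hmL]; exact hne, fun hr g => ?_, hconj hψ hne, fun lam hlam => ?_⟩
      · exact congrFun ((ind_conj T ψ).symm.trans (congrArg _ (funext hr))) g
      have hd := isCharacter_sub_constituent (isCharacter_res T (isCharacter_of_isIrrCharacter hi))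
        hψ hc
      let e : (P.subtype hPT : Subgroup T) ≃* (P : Subgroup G) :=
        Subgroup.subgroupOfEquivOfLe hPT
      have hsplit : mult (P : Subgroup G) (indFun T ψ) lam =
          classInner (fun u : (P : Subgroup G) => ψ (Subgroup.inclusion hPT u))
            (fun u => (lam u : ℂ)) := by
        rw [← sub_eq_zero, mult, ← CharInduced.inner_sub_left]
        by_contra h
        refine res_ne_zero (Subgroup.inclusion hLP)
          (isCharacter_comap (Subgroup.inclusion hPT) hd) h ?_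
        have h4 : (fun n : L => (lam (Subgroup.inclusion hLP n) : ℂ)) = fun n => (θ' n : ℂ) :=
          funext fun n => congrArg Units.val (DFunLike.congr_fun hlam n)
        rw [h4]
        show classInner ((fun n : L => indFun T ψ n) - fun n : L => ψ ⟨n, hLT n.2⟩)
          (fun n => (θ' n : ℂ)) = 0
        rw [CharInduced.inner_sub_left, hmL, sub_self]
      rw [hsplit, mult]
      exact (classInner_comp_surjective e.toMonoidHom e.surjective
        (fun u : (P : Subgroup G) => ψ (Subgroup.inclusion hPT u)) (fun u => (lam u : ℂ))).symm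
  -- transport of linear characters to `P.subtype hPT`
  have hextT : ∀ {θ' : L →* ℂˣ} {T : Subgroup G} (hPT : (P : Subgroup G) ≤ T)
      (lam : (P : Subgroup G) →* ℂˣ), lam.comp (Subgroup.inclusion hLP) = θ' →
      Ext (L.subgroupOf T) (θ'.comp (Subgroup.subgroupOfEquivOfLe (hLP.trans hPT)).toMonoidHom)
        (P.subtype hPT) (lam.comp (Subgroup.subgroupOfEquivOfLe hPT).toMonoidHom) := by
    intro θ' T hPT lam hlam m hm
    subst hlam
    rfl
  have hres : ∀ {θ' : L →* ℂˣ} (lam : (P : Subgroup G) →* ℂˣ),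
      lam.comp (Subgroup.inclusion hLP) = θ' →
      (Ext M θ (P : Subgroup G) lam ↔ θ'.comp (Subgroup.inclusion hML) = θ) := by
    intro θ' lam hlam
    subst hlam
    exact ⟨fun h => MonoidHom.ext fun m => h m _, fun h m hm => DFunLike.congr_fun h m⟩
  have habM : ∀ {θ' : L →* ℂˣ} {χ : G → ℂ}, θ'.comp (Subgroup.inclusion hML) = θ →
      IsIrrCharacter G χ → mult L χ θ' ≠ 0 → Above M θ χ := fun h hχ hne =>
    above_of_constituent M θ hinv hχ (h ▸ mult_mono hML (isCharacter_of_isIrrCharacter hχ) hne)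
  have hconst : ∀ {χ : G → ℂ} {lam : (P : Subgroup G) →* ℂˣ}, IsIrrCharacter G χ →
      mult (P : Subgroup G) χ lam ≠ 0 → mult L χ (lam.comp (Subgroup.inclusion hLP)) ≠ 0 :=
    fun hχ h => mult_mono hLP (isCharacter_of_isIrrCharacter hχ) h
  refine ⟨fun χ hg => ?_, fun lam hs he => ?_, fun χ χ' hg hg' lam hs he h1 h2 => ?_,
    fun χ hg lam mu hs hs' he he' h1 h2 => ?_, fun hN => ⟨fun h lam he => ?_,
      fun h χ hχ ho ha => ?_⟩⟩
  · -- existence of a real linear constituent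
    obtain ⟨hχ, ho, hr, ha⟩ := hg
    obtain ⟨l0, hl0⟩ := exists_linear_constituent P.isPGroup' (isCharacter_of_isIrrCharacter hχ) ho
    set θ' := l0.comp (Subgroup.inclusion hLP) with hθ'
    have hfix := fixed_of_ext P L hLP l0 θ' rfl
    have hsq := sqHom_of_constituent P L θ' hfix hχ hr (hconst hχ hl0)
    obtain ⟨T, hPT, hC, hdown, hup⟩ := key θ' hsq hfix
    obtain ⟨ψ, hψ, hψo, hψa, hind, hψr⟩ := hdown χ hχ ho (hconst hχ hl0)
    obtain ⟨lT, hlT, heT, hmT⟩ := hC.ex ψ ⟨hψ, hψo, hψr hr, hψa⟩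
    set e := Subgroup.subgroupOfEquivOfLe hPT
    set lam : (P : Subgroup G) →* ℂˣ := lT.comp e.symm.toMonoidHom with hlam
    have hlamT : lam.comp e.toMonoidHom = lT := MonoidHom.ext fun u => by
      show lT (e.symm (e u)) = lT u
      rw [MulEquiv.symm_apply_apply]
    have hlamL : lam.comp (Subgroup.inclusion hLP) = θ' := MonoidHom.ext fun n =>
      heT ⟨⟨n, hPT (hLP n.2)⟩, Subgroup.mem_subgroupOf.2 n.2⟩ (hLP n.2)
    refine ⟨lam, sqHom_comp _ hlT, (hres lam hlamL).2 ?_, ?_⟩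
    · exact (MonoidHom.comp_assoc _ _ _).trans
        (comp_eq_of_above (hML.trans hLP) (isCharacter_of_isIrrCharacter hχ) ha hl0)
    · subst hind
      rw [← hlamT] at hmT
      rw [OddMult, (hup ψ hψ hψo hψa).2.2.2.2.2 lam hlamL]
      exact hmT
  · -- existence of the character
    set θ' := lam.comp (Subgroup.inclusion hLP) with hθ'
    obtain ⟨T, hPT, hC, hdown, hup⟩ :=
      key θ' (sqHom_comp _ hs) (fixed_of_ext P L hLP lam θ' rfl)
    obtain ⟨ψ, ⟨hψ, hψo, hψr, hψa⟩, hmT⟩ :=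
      hC.uniq _ (sqHom_comp _ hs) (hextT hPT lam rfl)
    obtain ⟨hi, hio, hine, hir, -, him⟩ := hup ψ hψ hψo hψa
    exact ⟨indFun T ψ, ⟨hi, hio, hir hψr, habM ((hres lam rfl).1 he) hi hine⟩,
      by simpa only [OddMult, him lam rfl] using hmT⟩
  · -- uniqueness of the character
    set θ' := lam.comp (Subgroup.inclusion hLP) with hθ'
    obtain ⟨T, hPT, hC, hdown, hup⟩ :=
      key θ' (sqHom_comp _ hs) (fixed_of_ext P L hLP lam θ' rfl)
    obtain ⟨ψ, hψ, hψo, hψa, rfl, hψr⟩ := hdown χ hg.1 hg.2.1 (hconst hg.1 h1.ne_zero)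
    obtain ⟨ψ', hψ', hψo', hψa', rfl, hψr'⟩ := hdown χ' hg'.1 hg'.2.1 (hconst hg'.1 h2.ne_zero)
    rw [hC.inj ψ ψ' ⟨hψ, hψo, hψr hg.2.2.1, hψa⟩ ⟨hψ', hψo', hψr' hg'.2.2.1, hψa'⟩ _
      (sqHom_comp _ hs) (hextT hPT lam rfl)
      (by simpa only [OddMult, (hup ψ hψ hψo hψa).2.2.2.2.2 lam rfl] using h1)
      (by simpa only [OddMult, (hup ψ' hψ' hψo' hψa').2.2.2.2.2 lam rfl] using h2)]
  · -- fibres
    obtain ⟨hχ, ho, hr, ha⟩ := hg
    set θ1 := lam.comp (Subgroup.inclusion hLP) with hθ1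
    set θ2 := mu.comp (Subgroup.inclusion hLP) with hθ2
    have hf1 := fixed_of_ext P L hLP lam θ1 rfl
    have hf2 := fixed_of_ext P L hLP mu θ2 rfl
    obtain ⟨g, hg⟩ := (mem_orbitFin L).1 (mem_orbit_of_constituents L hχ
      (isIrrCharacter_linear θ1) (isIrrCharacter_linear θ2) (hconst hχ h1.ne_zero)
      (hconst hχ h2.ne_zero))
    rw [← coe_conjHom] at hg
    have hg' : conjHom L θ1 g = θ2 := coe_hom_inj hg
    obtain ⟨h, hh, hhθ⟩ := fusion P L θ1 g hf1 (fun u hu => by rw [hg', hf2 u hu])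
    rw [hg'] at hhθ
    obtain ⟨mu', hmu', hmult⟩ := exists_conj_hom (P : Subgroup G) hh mu
    have hinvh : ∀ v : (P : Subgroup G), ∃ u : (P : Subgroup G), (v : G) = h * u * h⁻¹ :=
      fun v => ⟨⟨h⁻¹ * v * h, (Subgroup.mem_normalizer_iff''.1 hh _).1 v.2⟩, by simp [mul_assoc]⟩
    have hs'' : SqHom mu' := fun v => by
      obtain ⟨u, hu⟩ := hinvh v
      rw [hmu' u v hu]; exact hs' u
    have hL' : mu'.comp (Subgroup.inclusion hLP) = θ1 := MonoidHom.ext fun n => by
      have hnn : h⁻¹ * n * h ∈ L := Subgroup.Normal.conj_mem' ‹L.Normal› n n.2 h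
      show mu' (Subgroup.inclusion hLP n) = θ1 n
      rw [hmu' ⟨h⁻¹ * n * h, hLP hnn⟩ _ (by simp [mul_assoc])]
      show θ2 ⟨h⁻¹ * n * h, hnn⟩ = θ1 n
      rw [← hhθ, conjHom_apply]
      exact congrArg θ1 (Subtype.ext (by simp [mul_assoc]))
    obtain ⟨T, hPT, hC, hdown, hup⟩ := key θ1 (sqHom_comp _ hs) hf1
    obtain ⟨ψ, hψ, hψo, hψa, rfl, hψr⟩ := hdown χ hχ ho (hconst hχ h1.ne_zero)
    have hm := (hup ψ hψ hψo hψa).2.2.2.2.2
    have h2' : OddMult (P : Subgroup G) (indFun T ψ) mu' := by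
      simpa only [OddMult, hmult _ (isClassFunction_irr hχ)] using h2
    obtain ⟨t, ht, hrel⟩ := hC.fib ψ ⟨hψ, hψo, hψr hr, hψa⟩ _ _ (sqHom_comp _ hs)
      (sqHom_comp _ hs'') (hextT hPT lam rfl) (hextT hPT mu' hL')
      (by simpa only [OddMult, hm lam rfl] using h1)
      (by simpa only [OddMult, hm mu' hL'] using h2')
    have htN : (t : G) ∈ Subgroup.normalizer ((P : Subgroup G) : Set G) := by
      refine Subgroup.mem_normalizer_iff.2 fun x => ⟨fun hx => ?_, fun hx => ?_⟩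
      · exact (Subgroup.mem_normalizer_iff.1 ht ⟨x, hPT hx⟩).1 hx
      · have hxT : x ∈ T := by
          have := T.mul_mem (T.mul_mem (T.inv_mem t.2) (hPT hx)) t.2
          simpa [mul_assoc] using this
        exact (Subgroup.mem_normalizer_iff.1 ht ⟨x, hxT⟩).2 hx
    refine ⟨(t : G) * h, mul_mem htN hh, fun u v huv => ?_⟩
    have hw : h * u * h⁻¹ ∈ (P : Subgroup G) := (Subgroup.mem_normalizer_iff.1 hh _).1 u.2
    rw [← hmu' u ⟨h * u * h⁻¹, hw⟩ rfl]
    refine hrel ⟨⟨h * u * h⁻¹, hPT hw⟩, Subgroup.mem_subgroupOf.2 hw⟩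
      ⟨⟨v, hPT v.2⟩, Subgroup.mem_subgroupOf.2 v.2⟩ (Subtype.ext ?_)
    show (v : G) = t * (h * u * h⁻¹) * t⁻¹
    rw [huv]; simp [mul_assoc]
  · -- all characters real, so all linear characters of `P` are real
    set θ' := lam.comp (Subgroup.inclusion hLP) with hθ'
    have hfix := fixed_of_ext P L hLP lam θ' rfl
    have hM := (hres lam rfl).1 he
    obtain ⟨χ, hχ, ho, hne⟩ := exists_odd_over (G := G) (H := (P : Subgroup G))
      (Nat.odd_iff.2 (Nat.two_dvd_ne_zero.1 P.not_dvd_index)) lam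
    have hneL := hconst hχ hne
    have hsq := sqHom_of_constituent P L θ' hfix hχ (h χ hχ ho (habM hM hχ hneL)) hneL
    obtain ⟨T, hPT, hC, hdown, hup⟩ := key θ' hsq hfix
    have hsT := (hC.self ?_).1 ?_ _ (hextT hPT lam rfl)
    · intro u
      exact hsT ⟨⟨u, hPT u.2⟩, Subgroup.mem_subgroupOf.2 u.2⟩
    · refine le_antisymm (fun t ht => ?_) Subgroup.le_normalizer
      refine Subgroup.mem_subgroupOf.2 (hN ▸ Subgroup.mem_normalizer_iff.2 fun x => ⟨fun hx => ?_,
        fun hx => ?_⟩ : (t : G) ∈ (P : Subgroup G))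
      · exact (Subgroup.mem_normalizer_iff.1 ht ⟨x, hPT hx⟩).1 hx
      · have hxT : x ∈ T := by
          have := T.mul_mem (T.mul_mem (T.inv_mem t.2) (hPT hx)) t.2
          simpa [mul_assoc] using this
        exact (Subgroup.mem_normalizer_iff.1 ht ⟨x, hxT⟩).2 hx
    · intro ψ hψ hψo hψa
      obtain ⟨hi, hio, hine, -, hdownr, -⟩ := hup ψ hψ hψo hψa
      exact hdownr (h _ hi hio (habM hM hi hine))
  · -- all linear characters of `P` real, so all characters real
    obtain ⟨l0, hl0⟩ := exists_linear_constituent P.isPGroup' (isCharacter_of_isIrrCharacter hχ) ho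
    set θ' := l0.comp (Subgroup.inclusion hLP) with hθ'
    have hfix := fixed_of_ext P L hLP l0 θ' rfl
    have hM : θ'.comp (Subgroup.inclusion hML) = θ := (MonoidHom.comp_assoc _ _ _).trans
      (comp_eq_of_above (hML.trans hLP) (isCharacter_of_isIrrCharacter hχ) ha hl0)
    obtain ⟨T, hPT, hC, hdown, hup⟩ :=
      key θ' (sqHom_comp _ (h l0 ((hres l0 rfl).2 hM))) hfix
    obtain ⟨ψ, hψ, hψo, hψa, rfl, -⟩ := hdown χ hχ ho (hconst hχ hl0)
    refine (hup ψ hψ hψo hψa).2.2.2.1 ((hC.self ?_).2 ?_ ψ hψ hψo hψa)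
    · refine le_antisymm (fun t ht => ?_) Subgroup.le_normalizer
      refine Subgroup.mem_subgroupOf.2 (hN ▸ Subgroup.mem_normalizer_iff.2 fun x => ⟨fun hx => ?_,
        fun hx => ?_⟩ : (t : G) ∈ (P : Subgroup G))
      · exact (Subgroup.mem_normalizer_iff.1 ht ⟨x, hPT hx⟩).1 hx
      · have hxT : x ∈ T := by
          have := T.mul_mem (T.mul_mem (T.inv_mem t.2) (hPT hx)) t.2
          simpa [mul_assoc] using this
        exact (Subgroup.mem_normalizer_iff.1 ht ⟨x, hxT⟩).2 hx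
    · intro lT heT u
      let e := Subgroup.subgroupOfEquivOfLe hPT
      have hL : (lT.comp e.symm.toMonoidHom).comp (Subgroup.inclusion hLP) = θ' :=
        MonoidHom.ext fun n => heT ⟨⟨n, hPT (hLP n.2)⟩, Subgroup.mem_subgroupOf.2 n.2⟩ (hLP n.2)
      have := h _ ((hres _ hL).2 hM) (e u)
      rwa [show (lT.comp e.symm.toMonoidHom) (e u) = lT u from
        congrArg lT (e.symm_apply_apply u)] at this

end Cfsg.Agent.RealOddChars30
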