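import Cfsg.Agent.Lib.RealOddInduction30
import Cfsg.Agent.Lib.CharExtensionCrit

/-!
Odd-degree real characters of solvable groups: the induction, and the self-normalizing
criterion (helper30).
-/

set_option autoImplicit false
set_option linter.unusedSectionVars false

open scoped ComplexConjugate IsMulCommutative commutatorElement

namespace Cfsg.Agent.RealOddChars30

open Cfsg Cfsg.Agent.CharBasic Cfsg.Agent.CharBasicOrth Cfsg.Agent.CharBasicDecomp
  Cfsg.Agent.CharInduced

universe u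

attribute [local instance] fintypeOfFin

variable {G : Type u} [Group G] [Finite G]

theorem exists_chief {Q : Type u} [Group Q] [Finite Q] [Group.IsSolvable Q] [Nontrivial Q] :
    ∃ q : ℕ, q.Prime ∧ ∃ L : Subgroup Q, L.Normal ∧ L ≠ ⊥ ∧
      (∀ a ∈ L, ∀ b ∈ L, a * b = b * a) ∧ ∀ x ∈ L, ∃ i, x ^ q ^ i = 1 := by
  classical
  have hs : ∃ k, derivedSeries Q k = ⊥ := Group.IsSolvable.solvable (G := Q)
  have hk0 : Nat.find hs ≠ 0 := by
    intro h
    have := Nat.find_spec hs
    rw [h, derivedSeries_zero] at this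
    exact top_ne_bot this
  obtain ⟨k, hk⟩ := Nat.exists_eq_succ_of_ne_zero hk0
  set A := derivedSeries Q k with hA
  have hA0 : A ≠ ⊥ := Nat.find_min hs (by omega)
  have hAc : ∀ a ∈ A, ∀ b ∈ A, a * b = b * a := by
    intro a ha b hb
    have h1 : ⁅a, b⁆ ∈ derivedSeries Q (k + 1) := by
      rw [derivedSeries_succ]; exact Subgroup.commutator_mem_commutator ha hb
    have hk1 := Nat.find_spec hs
    rw [hk] at hk1
    rw [hk1, Subgroup.mem_bot] at h1
    exact commutatorElement_eq_one_iff_mul_comm.1 h1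
  have : Nontrivial A := (Subgroup.nontrivial_iff_ne_bot A).2 hA0
  obtain ⟨q, hq, hqA⟩ := Nat.exists_prime_and_dvd (Finite.one_lt_card (α := A)).ne'
  have : Fact q.Prime := ⟨hq⟩
  have hAn : A.Normal := derivedSeries_normal Q k
  let L : Subgroup Q :=
    { carrier := {x | x ∈ A ∧ ∃ i, x ^ q ^ i = 1}
      one_mem' := ⟨one_mem _, 0, one_pow _⟩
      mul_mem' := by
        rintro a b ⟨ha, i, hi⟩ ⟨hb, j, hj⟩
        refine ⟨mul_mem ha hb, i + j, ?_⟩
        rw [Commute.mul_pow (hAc a ha b hb), pow_add, pow_mul, hi, one_pow, one_mul, mul_comm,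
          pow_mul, hj, one_pow]
      inv_mem' := by
        rintro a ⟨ha, i, hi⟩
        exact ⟨inv_mem ha, i, by rw [inv_pow, hi, inv_one]⟩ }
  refine ⟨q, hq, L, ⟨fun x hx g => ?_⟩, fun h => ?_, fun a ha b hb => hAc a ha.1 b hb.1,
    fun x hx => hx.2⟩
  · obtain ⟨hxA, i, hi⟩ := hx
    refine ⟨hAn.conj_mem x hxA g, i, ?_⟩
    rw [← MulAut.conj_apply, ← map_pow, hi, map_one]
  · obtain ⟨x, hx⟩ := exists_prime_orderOf_dvd_card' q hqA
    have hxL : (x : Q) ∈ L :=
      ⟨x.2, 1, by rw [pow_one, ← hx, ← Subgroup.orderOf_coe, pow_orderOf_eq_one]⟩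
    rw [h, Subgroup.mem_bot] at hxL
    rw [← Subgroup.orderOf_coe, hxL, orderOf_one] at hx
    exact hq.one_lt.ne hx

theorem exists_chief_above [Group.IsSolvable G] (M : Subgroup G) [M.Normal] (hM : M ≠ ⊤) :
    ∃ q : ℕ, q.Prime ∧ ∃ L : Subgroup G, L.Normal ∧ M < L ∧
      (∀ a ∈ L, ∀ b ∈ L, ⁅a, b⁆ ∈ M) ∧ ∀ x ∈ L, ∃ i, x ^ q ^ i ∈ M := by
  have : Nontrivial (G ⧸ M) := by
    rw [← Finite.one_lt_card_iff_nontrivial, ← Subgroup.index_eq_card]
    exact Subgroup.one_lt_index_of_ne_top hM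
  have : Group.IsSolvable (G ⧸ M) :=
    Group.isSolvable_of_surjective (QuotientGroup.mk'_surjective M)
  obtain ⟨q, hq, L, hLn, hL0, hLc, hLq⟩ := exists_chief (Q := G ⧸ M)
  refine ⟨q, hq, L.comap (QuotientGroup.mk' M), hLn.comap _, lt_of_le_of_ne ?_ ?_, ?_, ?_⟩
  · intro x hx
    rw [Subgroup.mem_comap, QuotientGroup.mk'_apply, (QuotientGroup.eq_one_iff x).2 hx]
    exact one_mem L
  · intro h
    refine hL0 (le_bot_iff.1 fun y hy => ?_)
    obtain ⟨x, rfl⟩ := QuotientGroup.mk'_surjective M y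
    have hx : x ∈ M := by rw [h]; exact hy
    exact Subgroup.mem_bot.2 ((QuotientGroup.eq_one_iff x).2 hx)
  · intro a ha b hb
    rw [← QuotientGroup.eq_one_iff, ← QuotientGroup.mk'_apply, map_commutatorElement]
    exact commutatorElement_eq_one_iff_mul_comm.2 (hLc _ ha _ hb)
  · intro x hx
    obtain ⟨i, hi⟩ := hLq _ hx
    refine ⟨i, ?_⟩
    rw [← QuotientGroup.eq_one_iff, ← QuotientGroup.mk'_apply, map_pow, hi]

theorem mult_one_of_eq {H : Subgroup G} {χ : G → ℂ} {lam : H →* ℂˣ}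
    (h : ∀ u : H, χ u = (lam u : ℂ)) : mult H χ lam = 1 := by
  rw [mult, show (fun u : H => χ u) = fun u => (lam u : ℂ) from funext h]
  exact classInner_irr_self (isIrrCharacter_linear lam)

theorem concl_top (P : Sylow 2 G) (θ : (⊤ : Subgroup G) →* ℂˣ) (hMP : ⊤ ≤ (P : Subgroup G))
    (hsq : SqHom θ) : Concl P ⊤ θ := by
  let t : G →* ℂˣ := θ.comp Subgroup.topEquiv.symm.toMonoidHom
  have ht : ∀ g : G, t g = θ ⟨g, Subgroup.mem_top g⟩ := fun g => rfl
  have hsqt : SqHom t := fun g => by rw [ht]; exact hsq _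
  have hχ : ∀ χ : G → ℂ, IsIrrCharacter G χ → Above ⊤ θ χ → χ = fun g => (t g : ℂ) := by
    intro χ hχ ha
    obtain ⟨n, hn, hn1⟩ := isIrrCharacter_apply_one hχ
    have h0 : χ = (n : ℂ) • fun g => (t g : ℂ) := funext fun g => by
      rw [Pi.smul_apply, smul_eq_mul, ht, ← hn1, mul_comm]
      exact ha ⟨g, Subgroup.mem_top g⟩
    have h1 := classInner_irr_self hχ
    rw [h0, classInner_smul_left, classInner_smul_right,
      classInner_irr_self (isIrrCharacter_linear t), mul_one, map_natCast] at h1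
    have h2 : n = 1 := Nat.eq_one_of_mul_eq_one_right (n := n) (by exact_mod_cast h1)
    rw [h0, h2, Nat.cast_one, one_smul]
  have hgood : Good ⊤ θ (fun g => (t g : ℂ)) :=
    ⟨isIrrCharacter_linear t, ⟨1, odd_one, by simp⟩,
      real_of_sqHom hsqt, fun m => by simp only [map_one, Units.val_one, mul_one]; rfl⟩
  have hlam : ∀ lam : (P : Subgroup G) →* ℂˣ, Ext ⊤ θ P lam → ∀ u, lam u = t u :=
    fun lam h u => h ⟨u, Subgroup.mem_top _⟩ u.2
  refine ⟨fun χ hg => ?_, fun lam hs he => ?_, fun χ χ' hg hg' lam hs he h1 h2 => ?_,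
    fun χ hg lam mu hs hs' he he' h1 h2 => ?_, fun hN => ⟨fun h lam he u => ?_,
      fun h χ hχ' ho ha => ?_⟩⟩
  · rw [hχ χ hg.1 hg.2.2.2]
    exact ⟨t.comp (P : Subgroup G).subtype, fun u => hsqt _, fun m hm => rfl, 1, odd_one,
      (mult_one_of_eq fun u => rfl).trans Nat.cast_one.symm⟩
  · exact ⟨_, hgood, 1, odd_one, (mult_one_of_eq (H := (P : Subgroup G)) (lam := lam)
      fun u => congrArg Units.val (hlam lam he u).symm).trans
      Nat.cast_one.symm⟩
  · rw [hχ χ hg.1 hg.2.2.2, hχ χ' hg'.1 hg'.2.2.2]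
  · refine ⟨1, one_mem _, fun u v huv => ?_⟩
    rw [hlam lam he, hlam mu he', huv]
    simp
  · rw [hlam lam he]; exact hsqt _
  · rw [hχ χ hχ' ha]; exact real_of_sqHom hsqt

/-- An odd-degree character has a `P`-invariant linear constituent on an abelian normal
subgroup. -/
theorem exists_fixed_constituent (P : Sylow 2 G) (Q : Subgroup G) [Q.Normal]
    (hQc : ∀ a b : Q, a * b = b * a) {χ : G → ℂ} (hχ : IsIrrCharacter G χ) (ho : OddDeg χ) :
    ∃ μ : Q →* ℂˣ, mult Q χ μ ≠ 0 ∧ ∀ u ∈ (P : Subgroup G), conjHom Q μ u = μ := by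
  set H := (P : Subgroup G) ⊔ Q with hH
  obtain ⟨e, he⟩ : ∃ e, (Q.subgroupOf H).index = 2 ^ e := by
    obtain ⟨e, he⟩ := P.isPGroup'.index (Q.subgroupOf (P : Subgroup G))
    refine ⟨e, ?_⟩
    change Q.relIndex ((P : Subgroup G) ⊔ Q) = 2 ^ e
    rw [Subgroup.relIndex_sup_right]
    exact he
  obtain ⟨k, hk, hk1⟩ := ho
  obtain ⟨η, hη, hηo, hne⟩ := exists_odd_constituent (a := fun v : H => χ v)
    (isCharacter_res H (isCharacter_of_isIrrCharacter hχ)) ⟨k, hk, hk1⟩
  obtain ⟨lam, rfl⟩ := linear_of_odd_irr (Q.subgroupOf H)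
    (fun a b => Subtype.ext (Subtype.ext (congrArg Subtype.val
      (hQc ⟨a.1, a.2⟩ ⟨b.1, b.2⟩) :))) he hη hηo
  have hQH : Q ≤ H := le_sup_right
  refine ⟨lam.comp (Subgroup.inclusion hQH),
    mult_mono hQH (isCharacter_of_isIrrCharacter hχ) (K := H) (lam := lam) hne, fun u hu => ?_⟩
  refine MonoidHom.ext fun n => ?_
  rw [conjHom_apply]
  show lam _ = lam _
  have : (Subgroup.inclusion hQH ⟨u * n * u⁻¹, Subgroup.Normal.conj_mem ‹Q.Normal› n n.2 u⟩) =
      (⟨u, le_sup_left (a := (P : Subgroup G)) hu⟩ : H) * Subgroup.inclusion hQH n *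
        (⟨u, le_sup_left (a := (P : Subgroup G)) hu⟩ : H)⁻¹ := Subtype.ext rfl
  rw [this, map_mul, map_mul, map_inv, mul_right_comm, mul_inv_cancel, one_mul]

theorem eq_one_of_odd {A : Type*} [Group A] {n : ℕ} {a : A} (hn : Odd n) (h : a ^ n = 1)
    {m : ℕ} (hm : a ^ 2 ^ m = 1) : a = 1 := by
  have h2 : Nat.Coprime n (2 ^ m) := (Nat.coprime_two_right.2 hn).pow_right m
  have := pow_gcd_eq_one.2 (⟨h, hm⟩ : a ^ n = 1 ∧ a ^ 2 ^ m = 1)
  simpa [Nat.Coprime.gcd_eq_one h2] using this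

theorem trivial_of_one_constituent (Q : Subgroup G) [Q.Normal] {χ : G → ℂ}
    (hχ : IsIrrCharacter G χ) {μ : Q →* ℂˣ} (hne : mult Q χ μ ≠ 0) (hμ : μ = 1) :
    ∀ k ∈ Q, χ k = χ 1 := by
  subst hμ
  intro k hk
  have := above_of_constituent Q (1 : Q →* ℂˣ) (fun g => rfl) hχ hne ⟨k, hk⟩
  simpa using this

theorem concl (n : ℕ) : ∀ {G : Type u} [Group G] [Finite G] [Group.IsSolvable G] (P : Sylow 2 G)
    (M : Subgroup G) [M.Normal] (θ : M →* ℂˣ), M ≤ (P : Subgroup G) → SqHom θ →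
    (∀ g, conjHom M θ g = θ) → Nat.card G + M.index = n → Concl P M θ := by
  induction n using Nat.strong_induction_on with
  | _ n ih =>
  intro G _ _ _ P M _ θ hMP hsq hinv hn
  by_cases hM : M = ⊤
  · subst hM; exact concl_top P θ hMP hsq
  have hquot : ∀ (K : Subgroup G) [K.Normal], K ≠ ⊥ →
      (∀ m : M, (m : G) ∈ K → θ m = 1) →
      (∀ χ, Good M θ χ → ∀ k ∈ K, χ k = χ 1) →
      (∀ lam : (P : Subgroup G) →* ℂˣ, Ext M θ P lam → ∀ u : (P : Subgroup G),
        (u : G) ∈ K → lam u = 1) →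
      (Subgroup.normalizer ((P : Subgroup G) : Set G) = P →
        ∀ χ, IsIrrCharacter G χ → OddDeg χ → Above M θ χ → ∀ k ∈ K, χ k = χ 1) →
      Concl P M θ := by
    intro K _ hK hθK h1 h2 h3
    let φ := QuotientGroup.mk' K
    have hφ : Function.Surjective φ := QuotientGroup.mk'_surjective K
    have hmem : ∀ x, φ x = 1 ↔ x ∈ K := fun x => QuotientGroup.eq_one_iff x
    let πM := φ.subgroupMap M
    have hπM : Function.Surjective πM := φ.subgroupMap_surjective M
    have hker : πM.ker ≤ θ.ker := fun m hm =>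
      hθK m ((hmem _).1 (congrArg Subtype.val (MonoidHom.mem_ker.1 hm)))
    let θ' := πM.liftOfRightInverse _ (Function.rightInverse_surjInv hπM) ⟨θ, hker⟩
    have hθ' : ∀ m : M, θ' ⟨φ m, m, m.2, rfl⟩ = θ m := fun m =>
      πM.liftOfRightInverse_comp_apply _ (Function.rightInverse_surjInv hπM) ⟨θ, hker⟩ m
    have : (M.map φ).Normal := Subgroup.Normal.map ‹_› φ hφ
    refine concl_of_quotient P M θ φ hφ θ' hθ' hMP (fun χ hg k hk => h1 χ hg k ((hmem k).1 hk))
      (fun lam he u hu => h2 lam he u ((hmem _).1 hu))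
      (fun hN χ hχ ho ha k hk => h3 hN χ hχ ho ha k ((hmem k).1 hk)) ?_
    have : Group.IsSolvable (G ⧸ K) := Group.isSolvable_of_surjective hφ
    refine ih _ ?_ (P.mapSurjective hφ) (M.map φ) θ' ?_ ?_ ?_ rfl
    · have hcard := Subgroup.card_eq_card_quotient_mul_card_subgroup K
      have hKc : 1 < Nat.card K := Subgroup.one_lt_card_iff_ne_bot K |>.2 hK
      have hlt : Nat.card (G ⧸ K) < Nat.card G := by
        rw [hcard]; exact lt_mul_of_one_lt_right Nat.card_pos hKc
      have hle : (M.map φ).index ≤ M.index :=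
        Nat.le_of_dvd (Nat.pos_of_ne_zero Subgroup.FiniteIndex.index_ne_zero)
          (M.index_map_dvd hφ)
      omega
    · exact Subgroup.map_mono hMP
    · rintro ⟨_, m, hm, rfl⟩
      rw [hθ' ⟨m, hm⟩]; exact hsq _
    · intro y
      obtain ⟨g, rfl⟩ := hφ y
      refine MonoidHom.ext ?_
      rintro ⟨_, m, hm, rfl⟩
      have hgm : g * m * g⁻¹ ∈ M := Subgroup.Normal.conj_mem ‹M.Normal› m hm g
      rw [conjHom_apply, hθ' ⟨m, hm⟩, show (⟨φ g * φ m * (φ g)⁻¹, _⟩ : M.map φ) =
        ⟨φ (g * m * g⁻¹), g * m * g⁻¹, hgm, rfl⟩ from Subtype.ext (by simp), hθ' ⟨_, hgm⟩]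
      have := DFunLike.congr_fun (hinv g) ⟨m, hm⟩
      rwa [conjHom_apply] at this
  by_cases hker : θ.ker = ⊥
  swap
  · -- the kernel of `θ`
    set K := θ.ker.map M.subtype with hKdef
    have : K.Normal := ⟨by
      rintro _ ⟨m, hm, rfl⟩ g
      refine ⟨⟨g * m * g⁻¹, Subgroup.Normal.conj_mem ‹M.Normal› m m.2 g⟩, ?_, rfl⟩
      show θ _ = 1
      rw [← conjHom_apply, hinv]; exact hm⟩
    have hK : ∀ x ∈ K, ∃ m : M, θ m = 1 ∧ (m : G) = x := by
      rintro _ ⟨m, hm, rfl⟩; exact ⟨m, hm, rfl⟩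
    refine hquot K (fun h => hker (by rwa [Subgroup.map_eq_bot_iff_of_injective _
      M.subtype_injective] at h)) (fun m hm => ?_) (fun χ hg k hk => ?_) (fun lam he u hu => ?_)
      (fun _ χ _ _ ha k hk => ?_)
    · obtain ⟨m', h1, h2⟩ := hK _ hm
      rwa [← Subtype.ext h2]
    · obtain ⟨m, h1, rfl⟩ := hK k hk
      rw [hg.2.2.2 m, h1, Units.val_one, one_mul]
    · obtain ⟨m, h1, h2⟩ := hK _ hu
      have := he m (h2 ▸ u.2)
      rw [show (⟨(m : G), h2 ▸ u.2⟩ : (P : Subgroup G)) = u from Subtype.ext h2, h1] at this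
      exact this
    · obtain ⟨m, h1, rfl⟩ := hK k hk
      rw [ha m, h1, Units.val_one, one_mul]
  have hcent : ∀ m ∈ M, ∀ g : G, g * m = m * g := by
    intro m hm g
    have h1 := DFunLike.congr_fun (hinv g) ⟨m, hm⟩
    rw [conjHom_apply] at h1
    have h2 := congrArg Subtype.val ((MonoidHom.ker_eq_bot_iff θ).1 hker h1)
    calc g * m = g * m * g⁻¹ * g := by simp
      _ = m * g := by rw [show g * m * g⁻¹ = m from h2]
  obtain ⟨q, hq, L, hLn, hML, hLc, hLq⟩ := exists_chief_above M hM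
  have hMp : IsPGroup 2 M := P.isPGroup'.to_le hMP
  by_cases hq2 : q = 2
  · subst hq2
    have hLp : IsPGroup 2 L := by
      rintro ⟨x, hx⟩
      obtain ⟨i, hi⟩ := hLq x hx
      obtain ⟨j, hj⟩ := hMp ⟨_, hi⟩
      refine ⟨i + j, Subtype.ext ?_⟩
      have := congrArg Subtype.val hj
      simp only [Subgroup.coe_pow, OneMemClass.coe_one, ← pow_mul] at this ⊢
      rwa [pow_add]
    have hLP : L ≤ P := by
      obtain ⟨S, hS⟩ := hLp.exists_le_sylow
      obtain ⟨g, rfl⟩ := MulAction.exists_smul_eq G P S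
      intro x hx
      obtain ⟨u, hu, hu'⟩ := (Sylow.coe_subgroup_smul (g := g) (P := P) ▸ hS)
        (hLn.conj_mem x hx g)
      have : g * u * g⁻¹ = g * x * g⁻¹ := hu'
      rwa [mul_left_cancel (mul_right_cancel this)] at hu
    refine concl_of_inertia P M L θ hinv hML.le hLP fun θ' hsq' T hT hPT => ?_
    have hLT : L ≤ T := hLP.trans hPT
    have : (L.subgroupOf T).Normal := Subgroup.normal_subgroupOf
    refine ih _ ?_ (P.subtype hPT) (L.subgroupOf T) _ ?_ (sqHom_comp _ hsq') ?_ rfl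
    · have h1 : (L.subgroupOf T).index ≤ L.index :=
        Nat.le_of_dvd (Nat.pos_of_ne_zero Subgroup.FiniteIndex.index_ne_zero)
          (Subgroup.relIndex_dvd_index_of_normal L T)
      have h2 : L.index < M.index := Subgroup.index_strictAnti hML
      have h3 := T.card_le_card_group
      omega
    · intro x hx
      exact hLP hx
    · intro g
      refine MonoidHom.ext fun m => ?_
      rw [conjHom_apply]
      have := DFunLike.congr_fun ((hT g).1 g.2) ⟨(m : T), Subgroup.mem_subgroupOf.1 m.2⟩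
      rw [conjHom_apply] at this
      exact this
  · -- an odd normal subgroup
    have : Fact q.Prime := ⟨hq⟩
    have hnil : Group.IsNilpotent L := by
      have : Group.IsNilpotent (L ⧸ M.subgroupOf L) := by
        letI : CommGroup (L ⧸ M.subgroupOf L) :=
          { (inferInstance : Group (L ⧸ M.subgroupOf L)) with
            mul_comm := fun a b => by
              obtain ⟨a, rfl⟩ := QuotientGroup.mk'_surjective _ a
              obtain ⟨b, rfl⟩ := QuotientGroup.mk'_surjective _ b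
              rw [← commutatorElement_eq_one_iff_mul_comm, ← map_commutatorElement,
                QuotientGroup.mk'_apply, QuotientGroup.eq_one_iff]
              exact hLc _ a.2 _ b.2 }
        exact CommGroup.isNilpotent
      refine Subgroup.isNilpotent_of_ker_le_center (QuotientGroup.mk' (M.subgroupOf L)) ?_
      rw [QuotientGroup.ker_mk']
      exact fun z hz => Subgroup.mem_center_iff.2 fun y => Subtype.ext (hcent _ hz y)
    obtain ⟨S⟩ : Nonempty (Sylow q L) := inferInstance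
    have hSn : (S : Subgroup L).Normal :=
      Sylow.normal_of_normalizerCondition Group.normalizerCondition_of_isNilpotent S
    have : (S : Subgroup L).Characteristic := Sylow.characteristic_of_normal S hSn
    set Q := (S : Subgroup L).map L.subtype with hQdef
    have : Q.Normal := inferInstance
    have hQp : IsPGroup q Q := S.isPGroup'.map _
    have hdis : ∀ x : G, x ∈ Q → x ∈ (P : Subgroup G) → x = 1 := fun x hxQ hxP =>
      Subgroup.mem_bot.1 ((disjoint_iff.1 (IsPGroup.disjoint_of_ne q 2 hq2 _ _ hQp P.isPGroup')) ▸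
        ⟨hxQ, hxP⟩)
    have hQc : ∀ a b : Q, a * b = b * a := by
      intro a b
      refine Subtype.ext (commutatorElement_eq_one_iff_mul_comm.1 (hdis _ ?_ (hMP (hLc _
        (Subgroup.map_subtype_le _ a.2) _ (Subgroup.map_subtype_le _ b.2)))))
      exact mul_mem (mul_mem (mul_mem a.2 b.2) (inv_mem a.2)) (inv_mem b.2)
    have hQ0 : Q ≠ ⊥ := by
      obtain ⟨x, hxL, hxM⟩ := SetLike.exists_of_lt hML
      obtain ⟨i, hi⟩ := hLq x hxL
      have hqL : q ∣ Nat.card L := by
        refine dvd_trans ?_ (Subgroup.card_quotient_dvd_card (M.subgroupOf L))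
        refine dvd_trans ?_ (orderOf_dvd_natCard (QuotientGroup.mk' (M.subgroupOf L) ⟨x, hxL⟩))
        obtain ⟨k, -, hk⟩ := (Nat.dvd_prime_pow hq).1 (orderOf_dvd_of_pow_eq_one
          (x := QuotientGroup.mk' (M.subgroupOf L) ⟨x, hxL⟩) (n := q ^ i) (by
            rw [← map_pow, QuotientGroup.mk'_apply, QuotientGroup.eq_one_iff,
              Subgroup.mem_subgroupOf]
            exact hi))
        rw [hk]
        refine dvd_pow_self q fun hk0 => hxM ?_
        rw [hk0, pow_zero, orderOf_eq_one_iff, QuotientGroup.mk'_apply,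
          QuotientGroup.eq_one_iff, Subgroup.mem_subgroupOf] at hk
        exact hk
      intro h
      rw [Subgroup.map_eq_bot_iff_of_injective _ L.subtype_injective] at h
      exact S.ne_bot_of_dvd_card hqL h
    have hQodd : Odd (Nat.card Q) := by
      obtain ⟨k, hk⟩ := IsPGroup.iff_card.1 hQp
      rw [hk]; exact (hq.odd_of_ne_two hq2).pow
    refine hquot Q hQ0 (fun m hm => ?_) (fun χ hg k hk => ?_) (fun lam he u hu => ?_)
      (fun hN χ hχ ho ha k hk => ?_)
    · rw [show m = 1 from Subtype.ext (hdis _ hm (hMP m.2)), map_one]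
    · obtain ⟨μ, hne, hfix⟩ := exists_fixed_constituent P Q hQc hg.1 hg.2.1
      refine trivial_of_one_constituent Q hg.1 hne ?_ k hk
      have hs := sqHom_of_constituent P Q μ hfix hg.1 hg.2.2.1 hne
      refine MonoidHom.ext fun x => eq_one_of_odd (m := 1) hQodd ?_ (by rw [pow_one]; exact hs x)
      rw [← map_pow, pow_card_eq_one', map_one]
    · rw [show u = 1 from Subtype.ext (hdis _ hu u.2), map_one]
    · obtain ⟨μ, hne, hfix⟩ := exists_fixed_constituent P Q hQc hχ ho
      refine trivial_of_one_constituent Q hχ hne ?_ k hk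
      have : IsMulCommutative Q := ⟨⟨hQc⟩⟩
      refine MonoidHom.ext fun x => ?_
      let y : Q := ∏ u : (P : Subgroup G), MulAut.conjNormal (u : G) x
      have hy : ∀ v : (P : Subgroup G), MulAut.conjNormal (v : G) y = y := by
        intro v
        rw [map_prod]
        refine Fintype.prod_equiv (Equiv.mulLeft v) _ _ fun u => ?_
        show MulAut.conjNormal (v : G) (MulAut.conjNormal (u : G) x) =
          MulAut.conjNormal ((v * u : (P : Subgroup G)) : G) x
        rw [Subgroup.coe_mul, map_mul]; rfl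
      have hyP : (y : G) ∈ (P : Subgroup G) := by
        rw [← hN]
        refine Subgroup.centralizer_le_normalizer _ (Subgroup.mem_centralizer_iff.2 fun v hv => ?_)
        have h1 := congrArg Subtype.val (hy ⟨v, hv⟩)
        rw [MulAut.conjNormal_apply] at h1
        calc v * y = v * y * v⁻¹ * v := by simp
          _ = y * v := by rw [show v * (y : G) * v⁻¹ = y from h1]
      have h2 : μ y = 1 := by rw [show y = 1 from Subtype.ext (hdis _ y.2 hyP), map_one]
      rw [map_prod, Finset.prod_congr rfl (g := fun _ => μ x) fun u _ =>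
        (conjHom_apply Q μ (u : G) x ▸ DFunLike.congr_fun (hfix (u : G) u.2) x), Finset.prod_const, Finset.card_univ,
        ← Nat.card_eq_fintype_card] at h2
      obtain ⟨m, hm⟩ := IsPGroup.iff_card.1 P.isPGroup'
      refine eq_one_of_odd hQodd ?_ (m := m) (hm ▸ h2)
      rw [← map_pow, pow_card_eq_one', map_one]

/-- If all odd-degree irreducible characters are real, a Sylow 2-subgroup is self-normalizing. -/
theorem normalizer_eq_self (n : ℕ) : ∀ {G : Type u} [Group G] [Finite G] [Group.IsSolvable G]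
    (P : Sylow 2 G), (∀ χ, IsIrrCharacter G χ → OddDeg χ → RealF χ) → Nat.card G = n →
    Subgroup.normalizer ((P : Subgroup G) : Set G) = P := by
  induction n using Nat.strong_induction_on with
  | _ n ih =>
  intro G _ _ _ P h hn
  refine le_antisymm ?_ Subgroup.le_normalizer
  by_cases hG : (⊥ : Subgroup G) = ⊤
  · intro g _
    have : g ∈ (⊥ : Subgroup G) := hG ▸ Subgroup.mem_top g
    rw [Subgroup.mem_bot.1 this]; exact one_mem _
  obtain ⟨q, hq, L, hLn, hL, hLc, hLq⟩ := exists_chief_above (⊥ : Subgroup G) hG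
  have hLc' : ∀ a b : L, a * b = b * a := fun a b =>
    Subtype.ext (commutatorElement_eq_one_iff_mul_comm.1 (Subgroup.mem_bot.1 (hLc _ a.2 _ b.2)))
  have hLp : IsPGroup q L := fun x => by
    obtain ⟨i, hi⟩ := hLq x x.2
    exact ⟨i, Subtype.ext (Subgroup.mem_bot.1 hi)⟩
  let φ := QuotientGroup.mk' L
  have hφ : Function.Surjective φ := QuotientGroup.mk'_surjective L
  have : Group.IsSolvable (G ⧸ L) := Group.isSolvable_of_surjective hφ
  have hlt : Nat.card (G ⧸ L) < n := by
    rw [← hn, Subgroup.card_eq_card_quotient_mul_card_subgroup L]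
    exact lt_mul_of_one_lt_right Nat.card_pos ((Subgroup.one_lt_card_iff_ne_bot L).2 hL.ne')
  have hbar := ih _ hlt (P.mapSurjective hφ) (fun χ hχ ⟨k, hk, hk1⟩ y => by
    obtain ⟨g, rfl⟩ := hφ y
    exact h (χ ∘ φ) (isIrrCharacter_comap φ hφ hχ)
      ⟨k, hk, by rw [Function.comp_apply, map_one, hk1]⟩ g) rfl
  intro g hg
  obtain ⟨u, hu, hu'⟩ : φ g ∈ (P : Subgroup G).map φ := by
    have h1 : φ g ∈ Subgroup.normalizer (((P : Subgroup G).map φ : Subgroup (G ⧸ L)) : Set (G ⧸ L)) :=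
      Subgroup.le_normalizer_map φ ⟨g, hg, rfl⟩
    rw [← Sylow.coe_mapSurjective hφ P, ← hbar]
    exact h1
  have hl : u⁻¹ * g ∈ L := (QuotientGroup.eq).1 hu'
  set l : G := u⁻¹ * g with hldef
  have hlN : l ∈ Subgroup.normalizer ((P : Subgroup G) : Set G) :=
    mul_mem (inv_mem (Subgroup.le_normalizer hu)) hg
  suffices hlP : l ∈ (P : Subgroup G) by
    have := mul_mem hu hlP
    rwa [hldef, mul_inv_cancel_left] at this
  by_cases hq2 : q = 2
  · subst hq2
    obtain ⟨S, hS⟩ := hLp.exists_le_sylow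
    obtain ⟨x, rfl⟩ := MulAction.exists_smul_eq G P S
    obtain ⟨v, hv, hv'⟩ := (Sylow.coe_subgroup_smul (g := x) (P := P) ▸ hS)
      (hLn.conj_mem l hl x)
    have : x * v * x⁻¹ = x * l * x⁻¹ := hv'
    rwa [mul_left_cancel (mul_right_cancel this)] at hv
  have : Fact q.Prime := ⟨hq⟩
  have hdis : ∀ x : G, x ∈ L → x ∈ (P : Subgroup G) → x = 1 := fun x hxQ hxP =>
    Subgroup.mem_bot.1 ((disjoint_iff.1 (IsPGroup.disjoint_of_ne q 2 hq2 _ _ hLp P.isPGroup')) ▸
      ⟨hxQ, hxP⟩)
  have hLodd : Odd (Nat.card L) := by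
    obtain ⟨k, hk⟩ := IsPGroup.iff_card.1 hLp
    rw [hk]; exact (hq.odd_of_ne_two hq2).pow
  have hcl : ∀ v ∈ (P : Subgroup G), v * l * v⁻¹ = l := by
    intro v hv
    have h1 : v * l * v⁻¹ * l⁻¹ = 1 := by
      refine hdis _ (mul_mem (hLn.conj_mem l hl v) (inv_mem hl)) ?_
      have := mul_mem hv ((Subgroup.mem_normalizer_iff.1 hlN v⁻¹).1 (inv_mem hv))
      simpa only [mul_assoc] using this
    exact mul_inv_eq_one.1 h1
  by_cases hl1 : l = 1
  · rw [hl1]; exact one_mem _
  exfalso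
  have : IsMulCommutative L := ⟨⟨hLc'⟩⟩
  obtain ⟨θ0, hθ0⟩ := CommGroup.exists_apply_ne_one_of_hasEnoughRootsOfUnity L ℂ
    (a := (⟨l, hl⟩ : L)) (fun e => hl1 (congrArg Subtype.val e))
  let θ : L →* ℂˣ := ∏ u : (P : Subgroup G), conjHom L θ0 (u : G)
  have happ : ∀ x : L, θ x = ∏ u : (P : Subgroup G), conjHom L θ0 (u : G) x := fun x =>
    MonoidHom.finsetProd_apply _ _ _
  have hfix : ∀ v ∈ (P : Subgroup G), conjHom L θ v = θ := by
    intro v hv
    refine MonoidHom.ext fun x => ?_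
    rw [conjHom_apply, happ, happ]
    refine Fintype.prod_equiv (Equiv.mulRight (⟨v, hv⟩ : (P : Subgroup G))) _ _ fun u => ?_
    simp only [Equiv.coe_mulRight, Subgroup.coe_mul, conjHom_apply]
    exact congrArg θ0 (Subtype.ext (by simp [mul_assoc]))
  obtain ⟨m, hm⟩ := IsPGroup.iff_card.1 P.isPGroup'
  have hθl : θ ⟨l, hl⟩ = θ0 ⟨l, hl⟩ ^ 2 ^ m := by
    rw [happ, Finset.prod_congr rfl (g := fun _ => θ0 ⟨l, hl⟩) fun u _ => by
      rw [conjHom_apply]; exact congrArg θ0 (Subtype.ext (hcl u u.2)),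
      Finset.prod_const, Finset.card_univ, ← Nat.card_eq_fintype_card, hm]
  have hne1 : θ ⟨l, hl⟩ ≠ 1 := fun e => hθ0 (eq_one_of_odd hLodd
    (by rw [← map_pow, pow_card_eq_one', map_one]) (hθl ▸ e))
  -- extend to `P ⊔ L`
  set H := (P : Subgroup G) ⊔ L with hH
  have hLH : L ≤ H := le_sup_right
  let N := L.subgroupOf H
  let lamN : N →* ℂˣ := θ.comp (Subgroup.subgroupOfEquivOfLe hLH).toMonoidHom
  have hinv : ∀ (v : H) (n : N), lamN (CharExtension.cn v n) = lamN n := by
    intro v n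
    have hv : conjHom L θ (v : G) = θ := by
      have : H ≤ inertia L (fun n => (θ n : ℂ)) := by
        refine sup_le (fun w hw => ?_) (fun w hw => ?_)
        · rw [mem_inertia, ← coe_conjHom, hfix w hw]
        · exact le_inertia L (isClassFunction_irr (isIrrCharacter_linear θ)) hw
      have h1 := this v.2
      rw [mem_inertia, ← coe_conjHom] at h1
      exact coe_hom_inj h1
    have := DFunLike.congr_fun hv ⟨(n : H), Subgroup.mem_subgroupOf.1 n.2⟩
    rw [conjHom_apply] at this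
    exact this
  have hord : orderOf lamN ∣ Nat.card L := orderOf_dvd_of_pow_eq_one (MonoidHom.ext fun x => by
    rw [MonoidHom.pow_apply]
    show θ _ ^ _ = 1
    rw [← map_pow, pow_card_eq_one', map_one])
  have hcop : Nat.Coprime N.index (orderOf lamN) := by
    obtain ⟨e, he⟩ : ∃ e, N.index = 2 ^ e := by
      obtain ⟨e, he⟩ := P.isPGroup'.index (L.subgroupOf (P : Subgroup G))
      refine ⟨e, ?_⟩
      change L.relIndex ((P : Subgroup G) ⊔ L) = 2 ^ e
      rw [Subgroup.relIndex_sup_right]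
      exact he
    rw [he]
    exact Nat.Coprime.coprime_dvd_right hord ((Nat.coprime_two_left.2 hLodd).pow_left e)
  obtain ⟨μ, hμ, -, -⟩ := CharExtension.linear_ext_coprime lamN hinv hcop
  obtain ⟨χ, hχ, ho, hne⟩ := exists_odd_over (H := H)
    (by
      refine Nat.odd_iff.2 (Nat.two_dvd_ne_zero.1 fun h2 => P.not_dvd_index ?_)
      exact h2.trans (Subgroup.index_dvd_of_le le_sup_left)) μ
  have hμL : μ.comp (Subgroup.inclusion hLH) = θ := MonoidHom.ext fun x =>
    hμ ⟨⟨x, hLH x.2⟩, Subgroup.mem_subgroupOf.2 x.2⟩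
  have hneL := hμL ▸ mult_mono hLH (isCharacter_of_isIrrCharacter hχ) hne
  have hs := sqHom_of_constituent P L θ hfix hχ (h χ hχ ho) hneL
  exact hne1 (eq_one_of_odd (m := 1) hLodd (by rw [← map_pow, pow_card_eq_one', map_one])
    (by rw [pow_one]; exact hs _))

end Cfsg.Agent.RealOddChars30
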