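import Mathlib
import Cfsg.Agent.S3861

/-!
Groups whose graph of real class sizes is disconnected: some real class size is even, and for
solvable groups without a normal Sylow 2-subgroup the subgroup generated by the 2-elements has
all its real class sizes odd or powers of two.
-/

set_option autoImplicit false
set_option linter.style.haveILetI false

namespace Cfsg.Agent.RealSizes22

universe u

variable {G : Type u} [Group G]

/-- The size of the class of `x`. -/
noncomputable abbrev idx (x : G) : ℕ := (Subgroup.centralizer ({x} : Set G)).index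

/-- All prime divisors of `n` lie in `π`. -/
def PiNum (π : Set ℕ) (n : ℕ) : Prop := ∀ q : ℕ, q.Prime → q ∣ n → q ∈ π

lemma mem_cent {x g : G} : g ∈ Subgroup.centralizer ({x} : Set G) ↔ g * x = x * g :=
  Subgroup.mem_centralizer_singleton_iff

lemma card_class (x : G) : Nat.card {y : G // IsConj x y} = idx x := by
  unfold idx Subgroup.index
  symm
  refine Nat.card_eq_of_bijective (Quotient.lift (fun g : G => (⟨g * x * g⁻¹, isConj_iff.2 ⟨g, rfl⟩⟩ :
    {y : G // IsConj x y})) ?_) ⟨?_, ?_⟩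
  · intro a b hab
    have h := mem_cent.1 (QuotientGroup.leftRel_apply.1 hab)
    refine Subtype.ext ?_
    show a * x * a⁻¹ = b * x * b⁻¹
    calc a * x * a⁻¹ = a * (x * (a⁻¹ * b)) * b⁻¹ := by group
      _ = a * ((a⁻¹ * b) * x) * b⁻¹ := by rw [h]
      _ = b * x * b⁻¹ := by group
  · rintro ⟨a⟩ ⟨b⟩ h
    refine Quotient.sound (QuotientGroup.leftRel_apply.2 (mem_cent.2 ?_))
    have h' : a * x * a⁻¹ = b * x * b⁻¹ := congrArg Subtype.val h
    calc a⁻¹ * b * x = a⁻¹ * (b * x * b⁻¹) * b := by group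
      _ = a⁻¹ * (a * x * a⁻¹) * b := by rw [h']
      _ = x * (a⁻¹ * b) := by group
  · rintro ⟨y, hy⟩
    obtain ⟨g, rfl⟩ := isConj_iff.1 hy
    exact ⟨Quotient.mk'' g, rfl⟩

lemma idx_congr {x y : G} (h : IsConj x y) : idx y = idx x := by
  rw [← card_class, ← card_class]
  exact Nat.card_congr (Equiv.subtypeEquivRight fun z => ⟨fun hz => h.trans hz, fun hz => h.symm.trans hz⟩)

lemma inv_eq_self {x : G} (h : x * x = 1) : x⁻¹ = x := inv_eq_of_mul_eq_one_right h

lemma eq_one_of_sq {x : G} (h : x * x = 1) (ho : Odd (orderOf x)) : x = 1 := by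
  rw [← orderOf_eq_one_iff]
  have h1 : orderOf x ∣ 2 := orderOf_dvd_of_pow_eq_one (by rw [pow_two]; exact h)
  exact Nat.eq_one_of_dvd_coprimes (Nat.coprime_two_left.mpr ho) h1 dvd_rfl

variable [Finite G]

/-- An involutive map of a class of odd size has a fixed point. -/
lemma class_fixed {x : G} (hx : Odd (idx x)) (f : G → G) (hf : ∀ y, IsConj x y → IsConj x (f y))
    (hf2 : ∀ y, IsConj x y → f (f y) = y) : ∃ y, IsConj x y ∧ f y = y := by
  classical
  have hi : Function.Involutive (fun y : {y : G // IsConj x y} =>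
      (⟨f y.1, hf y.1 y.2⟩ : {y : G // IsConj x y})) := fun y => Subtype.ext (hf2 y.1 y.2)
  haveI := Fintype.ofFinite {y : G // IsConj x y}
  haveI : Fact (Nat.Prime 2) := ⟨Nat.prime_two⟩
  obtain ⟨a, ha⟩ := Equiv.Perm.exists_fixed_point_of_prime (p := 2) (n := 1)
    (α := {y : G // IsConj x y}) (σ := hi.toPerm) (by
      rw [← Nat.card_eq_fintype_card, card_class]
      exact fun h => (Nat.not_even_iff_odd.2 hx) (even_iff_two_dvd.2 h))
    (by
      ext y
      simp only [pow_one, pow_two, Equiv.Perm.mul_apply, Function.Involutive.coe_toPerm,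
        Equiv.Perm.one_apply]
      exact hf2 y.1 y.2)
  exact ⟨a.1, a.2, congrArg Subtype.val ha⟩

/-- A real element in a class of odd size is an involution or trivial. -/
theorem odd_sq {x : G} (hr : IsConj x x⁻¹) (ho : Odd (idx x)) : x * x = 1 := by
  obtain ⟨y, hy, hfix⟩ := class_fixed ho (fun y => y⁻¹)
    (fun y hy => by
      obtain ⟨g, rfl⟩ := isConj_iff.1 hy
      exact hr.trans (isConj_iff.2 ⟨g, by group⟩))
    (fun y _ => inv_inv y)
  obtain ⟨g, rfl⟩ := isConj_iff.1 hy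
  have h1 : g * x⁻¹ * g⁻¹ = g * x * g⁻¹ := by rw [← hfix]; group
  have h2 : x⁻¹ = x := mul_left_cancel (mul_right_cancel h1)
  calc x * x = x⁻¹ * x := by rw [h2]
    _ = 1 := inv_mul_cancel x

theorem exists_mul_of_coprime (A B : Subgroup G) (h : A.index.Coprime B.index) (g : G) :
    ∃ b ∈ B, ∃ a ∈ A, g = b * a := by
  have hA0 : A.index ≠ 0 := Subgroup.index_ne_zero_of_finite
  have hrel : A.relIndex B = A.index := by
    have h1 : (A ⊓ B).index = A.relIndex B * B.index := by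
      rw [← Subgroup.inf_relIndex_right, Subgroup.relIndex_mul_index inf_le_right]
    have h2 : A.index ∣ A.relIndex B := by
      refine h.dvd_of_dvd_mul_right ?_
      rw [← h1]; exact Subgroup.index_dvd_of_le inf_le_left
    refine le_antisymm ?_ (Nat.le_of_dvd (Nat.pos_of_ne_zero Subgroup.index_ne_zero_of_finite) h2)
    have h3 := Subgroup.index_inf_le (H := A) (K := B)
    rw [h1] at h3
    exact Nat.le_of_mul_le_mul_right h3 (Nat.pos_of_ne_zero Subgroup.index_ne_zero_of_finite)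
  let f : ↥B ⧸ A.subgroupOf B → G ⧸ A := Quotient.map' (fun b : ↥B => (b : G)) (by
    intro a b hab
    rw [QuotientGroup.leftRel_apply] at hab ⊢
    exact hab)
  have hinj : Function.Injective f := by
    rintro ⟨a⟩ ⟨b⟩ hab
    refine Quotient.sound (QuotientGroup.leftRel_apply.2 ?_)
    have h' : ((a : G) : G ⧸ A) = ((b : G) : G ⧸ A) := hab
    exact (QuotientGroup.eq.1 h' : (a : G)⁻¹ * (b : G) ∈ A)
  have hbij : Function.Bijective f :=
    (Nat.bijective_iff_injective_and_card f).2 ⟨hinj, hrel⟩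
  obtain ⟨q, hq⟩ := hbij.2 (g : G ⧸ A)
  obtain ⟨b, rfl⟩ := QuotientGroup.mk_surjective q
  have h' : ((b : G) : G ⧸ A) = (g : G ⧸ A) := hq
  exact ⟨b, b.2, (b : G)⁻¹ * g, QuotientGroup.eq.1 h', (mul_inv_cancel_left _ _).symm⟩

/-- The translation lemma: the class of `a` is invariant under right translation by `b b'⁻¹`. -/
theorem translate {a b : G} (h1 : (idx a).Coprime (idx b))
    (h2 : (idx (a * b)).Coprime (idx b)) (g : G) {y : G} (hy : IsConj a y) :
    IsConj a (y * (b * (g * b * g⁻¹)⁻¹)) := by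
  have fwd : ∀ y, IsConj a y → IsConj (a * b) (y * b) := by
    intro y hy
    obtain ⟨k, rfl⟩ := isConj_iff.1 hy
    obtain ⟨c, hc, d, hd, rfl⟩ := exists_mul_of_coprime _ _ h1 k
    refine isConj_iff.2 ⟨c, ?_⟩
    have hc' : c * b = b * c := mem_cent.1 hc
    have hd' : d * a = a * d := mem_cent.1 hd
    calc c * (a * b) * c⁻¹ = c * a * (b * c⁻¹) := by group
      _ = c * a * (c⁻¹ * b) := by rw [show b * c⁻¹ = c⁻¹ * b from
            (Commute.inv_left (hc' : Commute c b)).eq.symm]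
      _ = c * (a * d) * d⁻¹ * c⁻¹ * b := by group
      _ = c * (d * a) * d⁻¹ * c⁻¹ * b := by rw [hd']
      _ = c * d * a * (c * d)⁻¹ * b := by group
  have bwd : ∀ z, IsConj (a * b) z → IsConj a (z * b⁻¹) := by
    intro z hz
    obtain ⟨k, rfl⟩ := isConj_iff.1 hz
    obtain ⟨c, hc, d, hd, rfl⟩ := exists_mul_of_coprime _ _ h2 k
    refine isConj_iff.2 ⟨c, ?_⟩
    have hc' : c * b = b * c := mem_cent.1 hc
    have hd' : d * (a * b) = a * b * d := mem_cent.1 hd
    calc c * a * c⁻¹ = c * (a * b) * (b⁻¹ * c⁻¹) := by group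
      _ = c * (a * b) * (c⁻¹ * b⁻¹) := by rw [← mul_inv_rev, ← mul_inv_rev, hc']
      _ = c * (a * b * d) * d⁻¹ * c⁻¹ * b⁻¹ := by group
      _ = c * (d * (a * b)) * d⁻¹ * c⁻¹ * b⁻¹ := by rw [hd']
      _ = c * d * (a * b) * (c * d)⁻¹ * b⁻¹ := by group
  have h3 := fwd y hy
  have h4 : IsConj (a * b) (g⁻¹ * (y * b) * g) := h3.trans (isConj_iff.2 ⟨g⁻¹, by group⟩)
  exact (bwd _ h4).trans (isConj_iff.2 ⟨g, by group⟩)

omit [Finite G] in
lemma center_of_idx {x : G} : idx x = 1 ↔ ∀ g : G, g * x = x * g := by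
  rw [idx, Subgroup.index_eq_one]
  exact ⟨fun h g => mem_cent.1 (h ▸ Subgroup.mem_top g), fun h => eq_top_iff.2 fun g _ => mem_cent.2 (h g)⟩

lemma ne_one_of_dvd {n q : ℕ} (hq : q.Prime) (h : q ∣ n) : n ≠ 1 := fun e => hq.not_dvd_one (e ▸ h)

/-- Two commuting involutions in classes of odd coprime sizes whose product has class size prime
to that of the second: impossible when all real elements are involutions. -/
theorem no_translate (hall : ∀ x : G, IsConj x x⁻¹ → x * x = 1) {a b : G} (ha : Odd (idx a))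
    (hb : b * b = 1) (hab : Commute a b) (h1 : (idx a).Coprime (idx b))
    (h2 : (idx (a * b)).Coprime (idx b)) : idx b = 1 := by
  rw [center_of_idx]
  intro g
  set b' := g * b * g⁻¹ with hb'
  have hb'2 : b' * b' = 1 := by
    rw [hb', show g * b * g⁻¹ * (g * b * g⁻¹) = g * (b * b) * g⁻¹ by group, hb, mul_one, mul_inv_cancel]
  set u := b * b'⁻¹ with hu
  have hu2 : u * u = 1 := hall u (isConj_iff.2 ⟨b, by
    rw [hu, inv_eq_self hb'2, mul_inv_rev, inv_eq_self hb, inv_eq_self hb'2, ← mul_assoc, hb, one_mul]⟩)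
  obtain ⟨y, -, hy⟩ := class_fixed ha (fun y => y * u) (fun y hy => translate h1 h2 g hy)
    (fun y _ => by simp only [mul_assoc, hu2, mul_one])
  have hu1 : u = 1 := mul_eq_left.1 hy
  rw [hu, mul_inv_eq_one, hb'] at hu1
  rw [eq_mul_inv_iff_mul_eq] at hu1
  exact hu1.symm

variable {π₁ π₂ : Set ℕ}

lemma coprime_of_piNum {a b : ℕ} (hd : Disjoint π₁ π₂) (ha : PiNum π₁ a) (hb : PiNum π₂ b) :
    a.Coprime b :=
  Nat.coprime_of_dvd fun q hq hqa hqb => Set.disjoint_left.1 hd (ha q hq hqa) (hb q hq hqb)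

/-- Part one: some real class size is even. -/
theorem exists_even (hd : Disjoint π₁ π₂)
    (hdich : ∀ x : G, IsConj x x⁻¹ → PiNum π₁ (idx x) ∨ PiNum π₂ (idx x))
    {q₁ q₂ : ℕ} (hq₁ : q₁.Prime) (hq₂ : q₂.Prime) (h₁ : q₁ ∈ π₁) (h₂ : q₂ ∈ π₂) {x₁ x₂ : G}
    (hr₁ : IsConj x₁ x₁⁻¹) (hr₂ : IsConj x₂ x₂⁻¹) (hd₁ : q₁ ∣ idx x₁) (hd₂ : q₂ ∣ idx x₂) :
    ∃ x : G, IsConj x x⁻¹ ∧ 2 ∣ idx x := by
  by_contra hc
  push Not at hc
  have hodd : ∀ x : G, IsConj x x⁻¹ → Odd (idx x) := fun x hx =>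
    Nat.not_even_iff_odd.1 fun he => hc x hx (even_iff_two_dvd.1 he)
  have hall : ∀ x : G, IsConj x x⁻¹ → x * x = 1 := fun x hx => odd_sq hx (hodd x hx)
  have hs₁ : x₁ * x₁ = 1 := hall _ hr₁
  obtain ⟨y, hy, hfix⟩ := class_fixed (hodd _ hr₂) (fun y => x₁ * y * x₁⁻¹)
    (fun y hy => hy.trans (isConj_iff.2 ⟨x₁, rfl⟩))
    (fun y _ => by
      rw [show x₁ * (x₁ * y * x₁⁻¹) * x₁⁻¹ = (x₁ * x₁) * y * (x₁ * x₁)⁻¹ by group, hs₁]; simp)
  have hcomm : Commute x₁ y := mul_inv_eq_iff_eq_mul.1 hfix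
  have hyi : idx y = idx x₂ := idx_congr hy
  have hs₂ : y * y = 1 := by
    obtain ⟨g, rfl⟩ := isConj_iff.1 hy
    rw [show g * x₂ * g⁻¹ * (g * x₂ * g⁻¹) = g * (x₂ * x₂) * g⁻¹ by group, hall _ hr₂, mul_one,
      mul_inv_cancel]
  have hp₁ : PiNum π₁ (idx x₁) := (hdich _ hr₁).resolve_right fun h =>
    Set.disjoint_left.1 hd h₁ (h q₁ hq₁ hd₁)
  have hp₂ : PiNum π₂ (idx y) := hyi.symm ▸ (hdich _ hr₂).resolve_left fun h =>
    Set.disjoint_left.1 hd (h q₂ hq₂ hd₂) h₂
  have hp : IsConj (x₁ * y) (x₁ * y)⁻¹ := by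
    rw [mul_inv_rev, inv_eq_self hs₂, inv_eq_self hs₁, hcomm.eq]
  rcases hdich _ hp with h | h
  · exact ne_one_of_dvd hq₂ (hyi.symm ▸ hd₂) (no_translate hall (hodd _ hr₁) hs₂ hcomm
      (coprime_of_piNum hd hp₁ hp₂) (coprime_of_piNum hd h hp₂))
  · exact ne_one_of_dvd hq₁ hd₁ (no_translate hall (hyi.symm ▸ hodd _ hr₂) hs₁ hcomm.symm
      (coprime_of_piNum hd hp₁ hp₂).symm
      ((coprime_of_piNum hd hp₁ (hcomm.eq ▸ h)).symm))

/-- A solvable group generated by its 2-elements, with a Sylow 2-subgroup whose normaliser has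
index prime to the odd prime `q`, has order prime to `q`. -/
theorem not_dvd_card (q : ℕ) [Fact q.Prime] (hq : q ≠ 2) :
    ∀ (n : ℕ) (H : Type u) [Group H] [Finite H], Nat.card H = n → Group.IsSolvable H →
      (∀ M : Subgroup H, M.Normal → Odd M.index → M = ⊤) → ∀ S : Sylow 2 H,
        ¬ q ∣ (Subgroup.normalizer ((S : Subgroup H) : Set H)).index → ¬ q ∣ Nat.card H := by
  intro n
  induction n using Nat.strong_induction_on with
  | _ n ih =>
  intro H _ _ hn hsol hgen S hS hdvd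
  classical
  haveI : Fact (Nat.Prime 2) := ⟨Nat.prime_two⟩
  have hqp : q.Prime := Fact.out
  haveI := hsol
  haveI : Nontrivial H := by
    rw [← Finite.one_lt_card_iff_nontrivial]
    exact lt_of_lt_of_le hqp.one_lt (Nat.le_of_dvd Nat.card_pos hdvd)
  obtain ⟨k, hk0, hk1⟩ : ∃ k, derivedSeries H k ≠ ⊥ ∧ derivedSeries H (k + 1) = ⊥ := by
    obtain ⟨m, hm⟩ := (Group.isSolvable_def H).mp hsol
    have hex : ∃ m, derivedSeries H m = ⊥ := ⟨m, hm⟩
    have h0 : Nat.find hex ≠ 0 := fun h => by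
      have := Nat.find_spec hex
      rw [h, derivedSeries_zero] at this
      exact top_ne_bot this
    exact ⟨Nat.find hex - 1, Nat.find_min hex (by omega),
      by rw [show Nat.find hex - 1 + 1 = Nat.find hex by omega]; exact Nat.find_spec hex⟩
  set A := derivedSeries H k with hA
  have hcomm : ∀ a ∈ A, ∀ b ∈ A, a * b = b * a := fun a ha b hb => by
    have := Subgroup.commutator_mem_commutator ha hb
    rw [show ⁅A, A⁆ = derivedSeries H (k + 1) from (derivedSeries_succ H k).symm, hk1,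
      Subgroup.mem_bot] at this
    exact commutatorElement_eq_one_iff_mul_comm.1 this
  haveI hAn : A.Normal := derivedSeries_normal H k
  obtain ⟨r, hr, hrA⟩ := Nat.exists_prime_and_dvd
    (n := Nat.card A) (fun h => hk0 (Subgroup.card_eq_one.1 h))
  haveI := Fact.mk hr
  let N : Subgroup H :=
    { carrier := {a | a ∈ A ∧ a ^ r = 1}
      one_mem' := ⟨one_mem A, one_pow r⟩
      mul_mem' := fun {a b} ha hb => ⟨mul_mem ha.1 hb.1, by
        rw [Commute.mul_pow (hcomm a ha.1 b hb.1), ha.2, hb.2, one_mul]⟩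
      inv_mem' := fun {a} ha => ⟨inv_mem ha.1, by rw [inv_pow, ha.2, inv_one]⟩ }
  haveI hNn : N.Normal := ⟨fun a ha g => ⟨hAn.conj_mem a ha.1 g, by
    rw [conj_pow, ha.2, mul_one, mul_inv_cancel]⟩⟩
  have hNp : IsPGroup r N := fun a => ⟨1, Subtype.ext (by simpa using a.2.2)⟩
  have hN1 : N ≠ ⊥ := by
    obtain ⟨a, ha⟩ := exists_prime_orderOf_dvd_card' r hrA
    intro h
    have hmem : (a : H) ∈ N := ⟨a.2, by
      rw [← SubmonoidClass.coe_pow, ← ha, pow_orderOf_eq_one, OneMemClass.coe_one]⟩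
    rw [h, Subgroup.mem_bot] at hmem
    rw [show a = 1 from Subtype.ext hmem, orderOf_one] at ha
    exact hr.one_lt.ne ha
  set f := QuotientGroup.mk' N with hf
  have hfs : Function.Surjective f := QuotientGroup.mk'_surjective N
  have hlt : Nat.card (H ⧸ N) < n := by
    rw [← hn, ← N.index_mul_card]
    exact lt_mul_of_one_lt_right (Nat.pos_of_ne_zero Subgroup.index_ne_zero_of_finite)
      (N.one_lt_card_iff_ne_bot.2 hN1)
  have hquot : ¬ q ∣ Nat.card (H ⧸ N) := by
    refine ih _ hlt (H ⧸ N) rfl inferInstance ?_ (S.mapSurjective hfs) ?_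
    · intro M hM hMi
      have := hgen (M.comap f) (hM.comap f) (by rwa [Subgroup.index_comap_of_surjective _ hfs])
      rw [← Subgroup.map_comap_eq_self_of_surjective hfs M, this, ← MonoidHom.range_eq_map,
        MonoidHom.range_eq_top_of_surjective f hfs]
    · refine fun hd => hS (hd.trans ?_)
      refine (Subgroup.index_dvd_of_le ?_).trans (Subgroup.index_map_dvd _ hfs)
      rw [Sylow.coe_mapSurjective]
      exact Subgroup.le_normalizer_map f
  have hqN : q ∣ Nat.card N := by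
    have := hdvd
    rw [← N.index_mul_card] at this
    exact (hqp.dvd_mul.1 this).resolve_left hquot
  obtain rfl : q = r := by
    obtain ⟨j, hj⟩ := IsPGroup.iff_card.1 hNp
    rw [hj] at hqN
    exact (Nat.prime_dvd_prime_iff_eq hqp hr).1 (hqp.dvd_of_dvd_pow hqN)
  -- `N` lies in the normaliser of every Sylow 2-subgroup
  obtain ⟨Q⟩ : Nonempty (Sylow q ↥(Subgroup.normalizer ((S : Subgroup H) : Set H))) := inferInstance
  have hNidx : ¬ q ∣ N.index := hquot
  set Q' := (Q : Subgroup _).map (Subgroup.normalizer ((S : Subgroup H) : Set H)).subtype with hQ'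
  have hQ'p : IsPGroup q Q' := Q.2.map _
  have hQ'i : ¬ q ∣ Q'.index := by
    rw [hQ', Subgroup.index_map_subtype]
    exact hqp.not_dvd_mul Q.not_dvd_index hS
  let QN : Sylow q H := hNp.toSylow hNidx
  let QQ : Sylow q H := hQ'p.toSylow hQ'i
  haveI := Sylow.unique_of_normal QN (by exact hNn)
  have hQQ : N = Q' := congrArg (fun R : Sylow q H => (R : Subgroup H)) (Subsingleton.elim QN QQ)
  have hNS : N ≤ Subgroup.normalizer ((S : Subgroup H) : Set H) := by
    rw [hQQ, hQ']; exact Subgroup.map_subtype_le _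
  have hdisj : ∀ y ∈ N, y ∈ (S : Subgroup H) → y = 1 := by
    intro y hy hyS
    refine Subgroup.disjoint_def.1 (Subgroup.disjoint_of_coprime_natCard ?_) hy hyS
    obtain ⟨i, hi⟩ := IsPGroup.iff_card.1 hNp
    obtain ⟨j, hj⟩ := IsPGroup.iff_card.1 S.2
    rw [hi, hj]
    exact (Nat.coprime_primes hqp Nat.prime_two |>.2 hq).pow i j
  let M : Subgroup H := Subgroup.centralizer (N : Set H)
  have hSM : (S : Subgroup H) ≤ M := by
    intro s hs
    rw [Subgroup.mem_centralizer_iff]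
    intro y hy
    refine commutatorElement_eq_one_iff_mul_comm.1 (hdisj _ ?_ ?_)
    · rw [commutatorElement_def, show y * s * y⁻¹ * s⁻¹ = y * (s * y⁻¹ * s⁻¹) by group]
      exact mul_mem hy (hNn.conj_mem _ (inv_mem hy) s)
    · rw [commutatorElement_def]
      exact mul_mem ((Subgroup.mem_normalizer_iff.1 (hNS hy) s).1 hs) (inv_mem hs)
  haveI hMn : M.Normal := Subgroup.normal_centralizer
  have hMtop : M = ⊤ := hgen M hMn (by
    rw [← Nat.not_even_iff_odd, even_iff_two_dvd]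
    exact fun h => S.not_dvd_index (h.trans (Subgroup.index_dvd_of_le hSM)))
  -- a central normal Sylow subgroup has a normal complement
  have hcop : (Nat.card N).Coprime N.index := by
    obtain ⟨i, hi⟩ := IsPGroup.iff_card.1 hNp
    rw [hi]
    exact (hqp.coprime_iff_not_dvd.2 hNidx).pow_left i
  obtain ⟨C, hC⟩ := Subgroup.exists_right_complement'_of_coprime hcop
  haveI hCn : C.Normal := by
    constructor
    intro c hc g
    obtain ⟨⟨a, b⟩, hab⟩ := hC.2 g
    have hab' : (a : H) * (b : H) = g := hab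
    have hcent : ∀ z : H, (a : H) * z = z * a := fun z =>
      (Subgroup.mem_centralizer_iff.1 (hMtop ▸ Subgroup.mem_top z : z ∈ M) a a.2)
    have hbc : (b : H) * c * (b : H)⁻¹ ∈ C := mul_mem (mul_mem b.2 hc) (inv_mem b.2)
    rw [← hab', show (a : H) * b * c * ((a : H) * b)⁻¹ = (a : H) * ((b : H) * c * (b : H)⁻¹) * (a : H)⁻¹ by group,
      hcent, mul_inv_cancel_right]
    exact hbc
  have hCi : C.index = Nat.card N := hC.index_eq_card
  have hCtop : C = ⊤ := hgen C hCn (by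
    rw [hCi]
    obtain ⟨i, hi⟩ := IsPGroup.iff_card.1 hNp
    rw [hi]
    exact (hqp.odd_of_ne_two hq).pow)
  rw [hCtop, Subgroup.index_top] at hCi
  exact hN1 (Subgroup.card_eq_one.1 hCi.symm)

/-- The subgroup generated by the 2-elements. -/
abbrev twoGen (G : Type u) [Group G] : Subgroup G := Subgroup.closure {g : G | ∃ k : ℕ, orderOf g = 2 ^ k}

omit [Finite G] in
instance twoGen_normal : (twoGen G).Normal := by
  refine ⟨fun x hx g => ?_⟩
  have hle : twoGen G ≤ (twoGen G).comap (MulAut.conj g).toMonoidHom := by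
    refine Subgroup.closure_le _ |>.2 ?_
    rintro y ⟨k, hk⟩
    refine Subgroup.subset_closure ⟨k, ?_⟩
    rw [orderOf_injective (MulAut.conj g).toMonoidHom (MulAut.conj g).injective y, hk]
  exact hle hx

omit [Finite G] in
lemma mem_twoGen_of_isPGroup {P : Subgroup G} (hP : IsPGroup 2 P) : P ≤ twoGen G := by
  intro x hx
  obtain ⟨k, hk⟩ := (IsPGroup.iff_orderOf.mp hP) ⟨x, hx⟩
  exact Subgroup.subset_closure ⟨k, by rw [← hk, Subgroup.orderOf_mk]⟩

lemma twoGen_self (M : Subgroup ↥(twoGen G)) [M.Normal] (hM : Odd M.index) : M = ⊤ := by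
  have hle : twoGen G ≤ M.map (twoGen G).subtype := by
    refine Subgroup.closure_le _ |>.2 ?_
    rintro y ⟨k, hk⟩
    let y' : ↥(twoGen G) := ⟨y, Subgroup.subset_closure ⟨k, hk⟩⟩
    refine ⟨y', ?_, rfl⟩
    rw [SetLike.mem_coe, ← QuotientGroup.eq_one_iff, ← orderOf_eq_one_iff]
    refine Nat.eq_one_of_dvd_coprimes ((Nat.coprime_two_left.mpr hM).pow_left k)
      ?_ (orderOf_dvd_natCard _)
    rw [← hk, ← Subgroup.orderOf_mk y (Subgroup.subset_closure ⟨k, hk⟩ : y ∈ twoGen G)]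
    exact orderOf_map_dvd (QuotientGroup.mk' M) y'
  refine eq_top_iff.2 fun x _ => ?_
  obtain ⟨y, hy, hyx⟩ := hle x.2
  exact Subtype.ext hyx ▸ hy

lemma relIndex_dvd (A K : Subgroup G) [K.Normal] : A.relIndex K ∣ A.index := by
  have h1 : (A ⊓ K).index = A.relIndex K * K.index := by
    rw [← Subgroup.inf_relIndex_right, Subgroup.relIndex_mul_index inf_le_right]
  have h2 : (A ⊓ K).index = K.relIndex A * A.index := by
    rw [inf_comm, ← Subgroup.inf_relIndex_right K, Subgroup.relIndex_mul_index inf_le_right]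
  refine Nat.dvd_of_mul_dvd_mul_right (Nat.pos_of_ne_zero Subgroup.index_ne_zero_of_finite : 0 < K.index) ?_
  rw [← h1, h2, mul_comm A.index]
  exact mul_dvd_mul_right (Subgroup.relIndex_dvd_index_of_normal (H := K) (K := A)) _

lemma idx_twoGen (x : ↥(twoGen G)) : idx x ∣ idx (x : G) ∧ idx x ∣ Nat.card ↥(twoGen G) := by
  refine ⟨?_, Subgroup.index_dvd_card _⟩
  have h : Subgroup.centralizer ({x} : Set ↥(twoGen G)) =
      (Subgroup.centralizer ({(x : G)} : Set G)).subgroupOf (twoGen G) := by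
    ext y
    rw [mem_cent, Subgroup.mem_subgroupOf, mem_cent]
    exact ⟨fun e => congrArg Subtype.val e, fun e => Subtype.ext e⟩
  rw [idx, h]
  exact relIndex_dvd _ _

/-- Part two. -/
theorem twoGen_sizes (hd : Disjoint π₁ π₂)
    (hdich : ∀ x : G, IsConj x x⁻¹ → PiNum π₁ (idx x) ∨ PiNum π₂ (idx x))
    (h2 : (2 : ℕ) ∈ π₁) {q₂ : ℕ} (hq₂ : q₂.Prime) (h₂ : q₂ ∈ π₂) {t : G} (hrt : IsConj t t⁻¹)
    (hdt : q₂ ∣ idx t) (hsol : Group.IsSolvable G) (hnn : ¬ ∀ P : Sylow 2 G, (P : Subgroup G).Normal) :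
    (∀ x : ↥(twoGen G), IsConj x x⁻¹ → Odd (idx x) ∨ ∃ j : ℕ, idx x = 2 ^ j) ∧
    (∃ x : ↥(twoGen G), IsConj x x⁻¹ ∧ 2 ∣ idx x) ∧
    ∃ q : ℕ, q.Prime ∧ q ≠ 2 ∧ ∃ x : ↥(twoGen G), IsConj x x⁻¹ ∧ q ∣ idx x := by
  classical
  haveI : Fact (Nat.Prime 2) := ⟨Nat.prime_two⟩
  have hpt : PiNum π₂ (idx t) := (hdich _ hrt).resolve_left fun h =>
    Set.disjoint_left.1 hd (h q₂ hq₂ hdt) h₂
  have hnot2 : ∀ {x : G}, PiNum π₂ (idx x) → ¬ 2 ∣ idx x := fun h he =>
    Set.disjoint_left.1 hd h2 (h 2 Nat.prime_two he)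
  have htodd : Odd (idx t) := Nat.not_even_iff_odd.1 fun he => hnot2 hpt (even_iff_two_dvd.1 he)
  have ht2 : t * t = 1 := odd_sq hrt htodd
  set C := Subgroup.centralizer ({t} : Set G) with hC
  -- no real elements of odd order in `C`
  have hCreal : ∀ y : G, y ∈ C → y ≠ 1 → Odd (orderOf y) → ∀ c ∈ C, c * y * c⁻¹ ≠ y⁻¹ := by
    intro y hy hy1 hyo c hc hcy
    have hty : Commute y t := mem_cent.1 hy
    have hct : Commute c t := mem_cent.1 hc
    have hry : IsConj y y⁻¹ := isConj_iff.2 ⟨c, hcy⟩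
    have hye : 2 ∣ idx y := by
      rw [← even_iff_two_dvd, ← Nat.not_odd_iff_even]
      exact fun ho => hy1 (eq_one_of_sq (odd_sq hry ho) hyo)
    have hrz : IsConj (t * y) (t * y)⁻¹ := isConj_iff.2 ⟨c, by
      rw [mul_inv_rev, inv_eq_self ht2, (hty.inv_left).eq, ← hcy]
      calc c * (t * y) * c⁻¹ = (c * t) * y * c⁻¹ := by group
        _ = (t * c) * y * c⁻¹ := by rw [hct.eq]
        _ = t * (c * y * c⁻¹) := by group⟩
    obtain ⟨m, hm⟩ := hyo
    have hpow : (t * y) ^ (2 * m + 1) = t := by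
      rw [hty.symm.mul_pow, pow_succ t, pow_mul, pow_two, ht2, one_pow, one_mul, ← hm,
        pow_orderOf_eq_one, mul_one]
    have hle1 : Subgroup.centralizer ({t * y} : Set G) ≤ C := fun g hg => by
      rw [hC, mem_cent, ← hpow]
      exact (Commute.pow_right (mem_cent.1 hg) _).eq
    have hle2 : Subgroup.centralizer ({t * y} : Set G) ≤ Subgroup.centralizer ({y} : Set G) := fun g hg => by
      rw [mem_cent, show y = t * (t * y) by rw [← mul_assoc, ht2, one_mul]]
      exact (Commute.mul_right (mem_cent.1 (hle1 hg)) (mem_cent.1 hg)).eq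
    rcases hdich _ hrz with h | h
    · exact Set.disjoint_left.1 hd (h q₂ hq₂ (hdt.trans (Subgroup.index_dvd_of_le hle1))) h₂
    · exact hnot2 h (hye.trans (Subgroup.index_dvd_of_le hle2))
  obtain ⟨P⟩ : Nonempty (Sylow 2 ↥C) := inferInstance
  haveI hPn : (P : Subgroup ↥C).Normal := (S3861.result P).1 fun y hy hyo hr => by
    obtain ⟨c, hc⟩ := isConj_iff.1 hr
    refine hCreal y y.2 (fun h => hy (Subtype.ext h)) (by rwa [Subgroup.orderOf_coe]) c c.2 ?_
    exact congrArg Subtype.val hc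
  set S := (P : Subgroup ↥C).map C.subtype with hS
  have hSp : IsPGroup 2 S := P.2.map _
  have hSi : ¬ 2 ∣ S.index := by
    rw [hS, Subgroup.index_map_subtype]
    exact Nat.prime_two.not_dvd_mul P.not_dvd_index
      (fun he => Nat.not_even_iff_odd.2 htodd (even_iff_two_dvd.2 he))
  set K := twoGen G with hK
  have hSK : S ≤ K := mem_twoGen_of_isPGroup hSp
  let SK : Sylow 2 ↥K := IsPGroup.toSylow
    (hSp.comap_of_injective K.subtype K.subtype_injective : IsPGroup 2 (S.subgroupOf K)) (fun h => hSi (h.trans (by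
      rw [← Subgroup.relIndex_mul_index hSK]; exact dvd_mul_right _ _)))
  -- the odd primes of `π₁` do not divide the order of `K`
  have hkill : ∀ q : ℕ, q.Prime → q ∈ π₁ → q ∣ Nat.card ↥K → q = 2 := by
    intro q hq hq1 hqK
    by_contra hne
    haveI := Fact.mk hq
    haveI : Group.IsSolvable ↥K := inferInstance
    refine not_dvd_card q hne _ ↥K rfl inferInstance (fun M hM hMi => @twoGen_self G _ _ M hM hMi)
      SK ?_ hqK
    have hle : C.subgroupOf K ≤ Subgroup.normalizer ((SK : Subgroup ↥K) : Set ↥K) := by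
      intro c hc
      rw [Subgroup.mem_normalizer_iff]
      have key : ∀ c : G, c ∈ C → ∀ s ∈ S, c * s * c⁻¹ ∈ S := by
        rintro c hc _ ⟨s, hs, rfl⟩
        exact ⟨⟨c, hc⟩ * s * ⟨c, hc⟩⁻¹, hPn.conj_mem s hs _, rfl⟩
      intro s
      refine ⟨fun hs => key c hc s (by exact hs), fun hs => ?_⟩
      have := key (c : G)⁻¹ (inv_mem hc) _ (show ((c * s * c⁻¹ : ↥K) : G) ∈ S from hs)
      simp only [Subgroup.coe_mul, InvMemClass.coe_inv, mul_assoc,
        inv_mul_cancel_left, inv_inv, inv_mul_cancel, mul_one] at this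
      exact this
    intro hdvd
    have hqt : q ∣ idx t := hdvd.trans ((Subgroup.index_dvd_of_le hle).trans
      (relIndex_dvd _ _))
    exact Set.disjoint_left.1 hd hq1 (hpt q hq hqt)
  have hsub : ∀ x : ↥K, IsConj x x⁻¹ → IsConj (x : G) (x : G)⁻¹ := fun x hx => by
    have := K.subtype.map_isConj hx
    rwa [map_inv] at this
  -- a real element of odd order, inverted inside `K`
  obtain ⟨P₀, hP₀⟩ := not_forall.1 hnn
  obtain ⟨y, hy1, hyo, hyr⟩ : ∃ y : G, y ≠ 1 ∧ Odd (orderOf y) ∧ IsConj y y⁻¹ := by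
    by_contra hc
    push Not at hc
    exact hP₀ ((S3861.result P₀).1 hc)
  obtain ⟨g, hg⟩ := isConj_iff.1 hyr
  obtain ⟨k, m, hm, hkm⟩ : ∃ k m : ℕ, Odd m ∧ orderOf g = 2 ^ k * m :=
    ⟨(orderOf g).factorization 2, ordCompl[2] (orderOf g),
      Nat.not_even_iff_odd.mp (fun he => Nat.not_dvd_ordCompl Nat.prime_two
        (orderOf_pos g).ne' (even_iff_two_dvd.mp he)),
      (Nat.ordProj_mul_ordCompl_eq_self _ 2).symm⟩
  have hpw : ∀ j : ℕ, g ^ j * y * (g ^ j)⁻¹ = if Even j then y else y⁻¹ := by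
    intro j
    induction j with
    | zero => simp
    | succ j ih =>
      rw [show g ^ (j + 1) * y * (g ^ (j + 1))⁻¹ = g * (g ^ j * y * (g ^ j)⁻¹) * g⁻¹ by rw [pow_succ']; group,
        ih]
      by_cases hj : Even j
      · simp [hj, hg, Nat.even_add_one]
      · simp only [hj, if_false, Nat.even_add_one, not_false_eq_true, if_true]
        rw [show g * y⁻¹ * g⁻¹ = (g * y * g⁻¹)⁻¹ by group, hg, inv_inv]
  set c := g ^ m with hc
  have hcy : c * y * c⁻¹ = y⁻¹ := by rw [hc, hpw, if_neg (Nat.not_even_iff_odd.2 hm)]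
  have hcK : c ∈ K := by
    refine mem_twoGen_of_isPGroup (P := Subgroup.zpowers c) ?_ (Subgroup.mem_zpowers c)
    obtain ⟨j, -, hj⟩ := (Nat.dvd_prime_pow Nat.prime_two).mp (orderOf_dvd_of_pow_eq_one
      (show c ^ 2 ^ k = 1 by rw [hc, ← pow_mul, mul_comm, ← hkm, pow_orderOf_eq_one]))
    exact IsPGroup.of_card (n := j) (by rw [Nat.card_zpowers, hj])
  have hyK : y ∈ K := by
    have h1 : y ^ 2 ∈ K := by
      have h2 : (y * c * y⁻¹) * c⁻¹ ∈ K := mul_mem ((twoGen_normal (G := G)).conj_mem c hcK y) (inv_mem hcK)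
      have e : c * y⁻¹ * c⁻¹ = y := by
        calc c * y⁻¹ * c⁻¹ = (c * y * c⁻¹)⁻¹ := by group
          _ = y := by rw [hcy, inv_inv]
      have e2 : y * c * y⁻¹ * c⁻¹ = y ^ 2 := by
        calc y * c * y⁻¹ * c⁻¹ = y * (c * y⁻¹ * c⁻¹) := by group
          _ = y ^ 2 := by rw [e, pow_two]
      rwa [e2] at h2
    obtain ⟨j, hj⟩ := hyo
    have : y = (y ^ 2) ^ (j + 1) := by
      rw [← pow_mul, show 2 * (j + 1) = orderOf y + 1 by omega, pow_succ, pow_orderOf_eq_one, one_mul]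
    rw [this]; exact pow_mem h1 _
  have hyKr : IsConj (⟨y, hyK⟩ : ↥K) (⟨y, hyK⟩ : ↥K)⁻¹ :=
    isConj_iff.2 ⟨⟨c, hcK⟩, Subtype.ext hcy⟩
  refine ⟨fun x hx => ?_, ⟨⟨y, hyK⟩, hyKr, ?_⟩, ?_⟩
  · rcases Nat.even_or_odd (idx x) with he | ho
    · right
      have h1 := hdich _ (hsub x hx)
      have hp : PiNum π₁ (idx (x : G)) := h1.resolve_right fun h =>
        hnot2 h ((even_iff_two_dvd.1 he).trans (idx_twoGen x).1)
      refine ⟨(idx x).primeFactorsList.length, Nat.eq_prime_pow_of_unique_prime_dvd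
        Subgroup.index_ne_zero_of_finite fun {d} hd' hdd => ?_⟩
      exact hkill d hd' (hp d hd' (hdd.trans (idx_twoGen x).1)) (hdd.trans (idx_twoGen x).2)
    · exact Or.inl ho
  · rw [← even_iff_two_dvd, ← Nat.not_odd_iff_even]
    intro ho
    have h1 := eq_one_of_sq (odd_sq hyKr ho) (by rwa [Subgroup.orderOf_mk])
    exact hy1 (congrArg Subtype.val h1)
  · have htK : t ∈ K := by
      refine mem_twoGen_of_isPGroup (P := Subgroup.zpowers t) ?_ (Subgroup.mem_zpowers t)
      obtain ⟨j, -, hj⟩ := (Nat.dvd_prime_pow Nat.prime_two).mp (orderOf_dvd_of_pow_eq_one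
        (show t ^ 2 ^ 1 = 1 by rw [pow_one, pow_two, ht2]))
      exact IsPGroup.of_card (n := j) (by rw [Nat.card_zpowers, hj])
    have hne1 : idx (⟨t, htK⟩ : ↥K) ≠ 1 := by
      intro h
      have hcom := center_of_idx.1 h
      have hyC : y ∈ C := mem_cent.2 (congrArg Subtype.val (hcom ⟨y, hyK⟩))
      have hcC : c ∈ C := mem_cent.2 (congrArg Subtype.val (hcom ⟨c, hcK⟩))
      exact hCreal y hyC hy1 hyo c hcC hcy
    obtain ⟨q, hq, hqd⟩ := Nat.exists_prime_and_dvd hne1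
    refine ⟨q, hq, ?_, ⟨t, htK⟩, isConj_iff.2 ⟨1, Subtype.ext (by simp [inv_eq_self ht2])⟩, hqd⟩
    rintro rfl
    exact hnot2 hpt (hqd.trans (idx_twoGen (⟨t, htK⟩ : ↥K)).1)

end Cfsg.Agent.RealSizes22
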