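import Mathlib

set_option autoImplicit false

/-!
For an odd prime `p` dividing `|F| - 1` exactly once, the monomial Sylow `p`-subgroup of `GL(p,F)` is redundant:
each of its elements lies in a second Sylow `p`-subgroup.
-/

namespace Cfsg.Agent.RedundantSylowGL

open Matrix Finset

variable {F : Type*} [Field F] {p : ℕ} [hp : Fact p.Prime]

/-- A monomial matrix `diag(d)·S^k`. -/
def mono (d : ZMod p → F) (k : ZMod p) : Matrix (ZMod p) (ZMod p) F := fun i j => if j = i + k then d i else 0

lemma mono_mul (d e : ZMod p → F) (k l : ZMod p) :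
    mono d k * mono e l = mono (fun i => d i * e (i + k)) (k + l) := by
  ext i j
  rw [Matrix.mul_apply, Finset.sum_eq_single (i + k) (fun b _ hb => by simp [mono, hb]) (by simp)]
  simp [mono, add_assoc]

lemma mono_one : mono (1 : ZMod p → F) 0 = 1 := by
  ext i j
  simp [mono, Matrix.one_apply, eq_comm (a := i) (b := j)]

lemma mono_pow (d : ZMod p → F) (k : ZMod p) (n : ℕ) :
    mono d k ^ n = mono (fun i => ∏ t ∈ range n, d (i + (t : ZMod p) * k)) ((n : ZMod p) * k) := by
  induction n with
  | zero => rw [pow_zero, Nat.cast_zero, zero_mul, ← mono_one]; rfl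
  | succ n ih =>
    rw [pow_succ, ih, mono_mul, Nat.cast_succ, add_mul, one_mul]
    congr 1
    funext i
    rw [Finset.prod_range_succ]

lemma mono_pow_prime (d : ZMod p → F) {k : ZMod p} (hk : k ≠ 0) :
    mono d k ^ p = (∏ i, d i) • (1 : Matrix (ZMod p) (ZMod p) F) := by
  rw [mono_pow, ZMod.natCast_self, zero_mul]
  have h : ∀ i : ZMod p, ∏ t ∈ range p, d (i + (t : ZMod p) * k) = ∏ i, d i := fun i => by
    refine Finset.prod_bij' (fun t _ => i + (t : ZMod p) * k) (fun j _ => ((j - i) * k⁻¹).val)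
      (fun _ _ => Finset.mem_univ _) (fun j _ => Finset.mem_range.2 (ZMod.val_lt _)) (fun t ht => ?_)
      (fun j _ => ?_) (fun _ _ => rfl)
    · simp [hk, ZMod.val_natCast_of_lt (Finset.mem_range.1 ht)]
    · simp [hk]
  ext i j
  simp [mono, h, Matrix.one_apply, eq_comm (a := i) (b := j)]

variable (F p)

/-- The monomial group with entries `p`th roots of unity. -/
def Q : Subgroup (GL (ZMod p) F) where
  carrier := {g | ∃ (d : ZMod p → F) (k : ZMod p), (∀ i, d i ^ p = 1) ∧ (g : Matrix (ZMod p) (ZMod p) F) = mono d k}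
  one_mem' := ⟨1, 0, fun _ => one_pow p, by rw [mono_one]; rfl⟩
  mul_mem' := by
    rintro g h ⟨d, k, hd, hg⟩ ⟨e, l, he, hh⟩
    exact ⟨fun i => d i * e (i + k), k + l, fun i => by rw [mul_pow, hd, he, mul_one],
      by rw [Units.val_mul, hg, hh, mono_mul]⟩
  inv_mem' := by
    rintro g ⟨d, k, hd, hg⟩
    refine ⟨fun i => (d (i - k))⁻¹, -k, fun i => by rw [inv_pow, hd, inv_one], ?_⟩
    refine Units.inv_eq_of_mul_eq_one_right ?_
    rw [hg, mono_mul, add_neg_cancel, ← mono_one]
    congr 1
    funext i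
    have : d i ≠ 0 := fun h => by simpa [h, hp.out.ne_zero] using hd i
    simp [this]

variable {F p}

/-- Each row has at most one nonzero entry. -/
def RowMono (M : Matrix (ZMod p) (ZMod p) F) : Prop := ∀ i j j', M i j ≠ 0 → M i j' ≠ 0 → j = j'

lemma three_le (hp2 : p ≠ 2) : 3 ≤ p := by have := hp.out.two_le; omega

lemma two_ne (hp2 : p ≠ 2) {k : ZMod p} (hk : k ≠ 0) : k + k ≠ 0 ∧ k + k ≠ k := by
  refine ⟨fun h => ?_, fun h => hk (by linear_combination h)⟩
  have h2 : ((2 : ℕ) : ZMod p) ≠ 0 := by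
    rw [Ne, ZMod.natCast_eq_zero_iff, Nat.prime_dvd_prime_iff_eq hp.out Nat.prime_two]
    exact hp2
  exact hk ((mul_eq_zero.1 (show ((2 : ℕ) : ZMod p) * k = 0 by push_cast; linear_combination h)).resolve_left h2)

/-- The normaliser consists of monomial matrices. -/
lemma rowMono_of_normalizes (hp2 : p ≠ 2) (z : F) (hz : z ^ p = 1) (hz1 : z ≠ 1) (g : GL (ZMod p) F)
    (h : ∀ x ∈ Q F p, g * x * g⁻¹ ∈ Q F p) : RowMono (g : Matrix (ZMod p) (ZMod p) F) := by
  classical
  intro r c c' hc hc'
  by_contra hne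
  let d : ZMod p → F := Function.update 1 c z
  have hd : ∀ i, d i ^ p = 1 := fun i => by
    by_cases hi : i = c
    · subst hi; simp [d, hz]
    · simp [d, hi]
  have hz0 : z ≠ 0 := fun h => by simp [h, hp.out.ne_zero] at hz
  have hu : IsUnit (mono d 0).det := by
    refine (Matrix.isUnit_iff_isUnit_det _).1 (IsUnit.of_pow_eq_one (n := p) ?_ hp.out.ne_zero)
    rw [mono_pow, mul_zero, ← mono_one]
    congr 1
    funext i
    simp [hd]
  let x : GL (ZMod p) F := Matrix.nonsingInvUnit _ hu
  have hx : (x : Matrix (ZMod p) (ZMod p) F) = mono d 0 := rfl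
  obtain ⟨e, k, -, hy⟩ := h x ⟨d, 0, hd, hx⟩
  have hquad : (mono d 0 - 1) * (mono d 0 - z • 1) = (0 : Matrix (ZMod p) (ZMod p) F) := by
    have e1 : mono d 0 = Matrix.diagonal d := by
      ext i j; simp [mono, Matrix.diagonal_apply, eq_comm (a := i) (b := j)]
    rw [e1, ← Matrix.diagonal_one, Matrix.diagonal_sub, ← Matrix.diagonal_smul, Matrix.diagonal_sub,
      Matrix.diagonal_mul_diagonal, ← Matrix.diagonal_zero]
    congr 1
    funext i
    by_cases hi : i = c <;> simp [d, hi]
  by_cases hk : k = 0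
  · subst hk
    have he := congrArg Units.val (inv_mul_cancel_right (g * x) g)
    rw [Units.val_mul, hy, Units.val_mul, hx] at he
    have key : ∀ j, e r * (g : Matrix (ZMod p) (ZMod p) F) r j = (g : Matrix (ZMod p) (ZMod p) F) r j * d j := by
      intro j
      have := congrFun (congrFun he r) j
      rw [Matrix.mul_apply, Finset.sum_eq_single r (fun b _ hb => by simp [mono, hb]) (by simp),
        Matrix.mul_apply, Finset.sum_eq_single j (fun b _ hb => by simp [mono, Ne.symm hb]) (by simp)] at this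
      simpa [mono] using this
    have h1 := key c
    have h2 := key c'
    simp [d, Ne.symm hne, mul_comm (e r), hc, hc'] at h1 h2
    exact hz1 (h1.symm.trans h2)
  · have h0 : (mono e k - 1) * (mono e k - z • 1) = 0 := by
      rw [← hy, Units.val_mul, Units.val_mul, hx]
      calc _ = (g : Matrix (ZMod p) (ZMod p) F) * ((mono d 0 - 1) * (mono d 0 - z • 1)) * (g⁻¹).val := by
            simp only [mul_sub, sub_mul, mul_one, one_mul, Matrix.smul_mul, Matrix.mul_smul, mul_assoc,
              Units.mul_inv, Units.inv_mul_cancel_left, smul_sub]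
        _ = 0 := by rw [hquad, mul_zero, zero_mul]
    obtain ⟨h2k, h2k'⟩ := two_ne hp2 hk
    have := congrFun (congrFun h0 r) (r + (k + k))
    simp only [sub_mul, mul_sub, one_mul, mul_one, Matrix.mul_smul, mono_mul, Matrix.sub_apply,
      Matrix.smul_apply, Matrix.one_apply, Matrix.zero_apply] at this
    have e0 : ∀ i, e i ≠ 0 := by
      intro i hi
      have hdet : (mono e k).det ≠ 0 := by
        rw [← hy]; exact Matrix.GeneralLinearGroup.det_ne_zero _
      refine hdet (Matrix.det_eq_zero_of_row_eq_zero i fun j => ?_)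
      simp [mono, hi]
    simp [mono, h2k', h2k, Ne.symm h2k] at this
    rcases this with h' | h'
    · exact e0 _ h'
    · exact e0 _ h'

variable [Fintype F]

lemma card_Q (h1 : p ∣ Fintype.card F - 1) : Nat.card (Q F p) = p ^ (p + 1) := by
  classical
  haveI : NeZero p := ⟨hp.out.ne_zero⟩
  have hμ : Nat.card {z : F // z ^ p = 1} = p := by
    obtain ⟨ζ, hζ⟩ : ∃ ζ : Fˣ, orderOf ζ = p := exists_prime_orderOf_dvd_card' p (by
      rwa [Nat.card_units, Nat.card_eq_fintype_card])
    have hprim : IsPrimitiveRoot (ζ : F) p := by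
      rw [← hζ, ← orderOf_units]; exact IsPrimitiveRoot.orderOf _
    let eqv : {z : F // z ^ p = 1} ≃ rootsOfUnity p F :=
      { toFun := fun z => rootsOfUnity.mkOfPowEq z.1 z.2
        invFun := fun z => ⟨((z : Fˣ) : F), by rw [← Units.val_pow_eq_pow_val, (mem_rootsOfUnity p _).1 z.2]; rfl⟩
        left_inv := fun z => Subtype.ext rfl
        right_inv := fun z => Subtype.ext (Units.ext rfl) }
    rw [Nat.card_congr eqv, Nat.card_eq_fintype_card]
    rw [← Nat.card_eq_fintype_card]
    exact hprim.card_rootsOfUnity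
  have hu : ∀ (d : ZMod p → {z : F // z ^ p = 1}) (k : ZMod p),
      IsUnit (mono (fun i => (d i).1) k).det := by
    intro d k
    refine (Matrix.isUnit_iff_isUnit_det _).1 (IsUnit.of_pow_eq_one (n := p * p) ?_ (by simp [hp.out.ne_zero]))
    rw [pow_mul, mono_pow _ k p, ZMod.natCast_self, zero_mul, mono_pow, mul_zero, ← mono_one]
    congr 1
    funext i
    simp [← Finset.prod_pow, (d _).2]
  have e : (ZMod p → {z : F // z ^ p = 1}) × ZMod p ≃ Q F p := Equiv.ofBijective
    (fun dk => ⟨Matrix.nonsingInvUnit _ (hu dk.1 dk.2), _, _, fun i => (dk.1 i).2, rfl⟩) ⟨?_, ?_⟩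
  · rw [← Nat.card_congr e, Nat.card_prod, Nat.card_fun, hμ, Nat.card_zmod, pow_succ]
  · rintro ⟨d, k⟩ ⟨d', k'⟩ h
    have h' := congrArg (fun g : Q F p => ((g : GL (ZMod p) F) : Matrix (ZMod p) (ZMod p) F)) h
    change mono (fun i => (d i).1) k = mono (fun i => (d' i).1) k' at h'
    have hk : k = k' := by
      by_contra hne
      have := congrFun (congrFun h' 0) k
      simp [mono, hne] at this
      have h2 := (d 0).2
      rw [this, zero_pow hp.out.ne_zero] at h2
      exact zero_ne_one h2
    subst hk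
    refine Prod.ext (funext fun i => Subtype.ext ?_) rfl
    simpa [mono] using congrFun (congrFun h' i) (i + k)
  · rintro ⟨g, d, k, hd, hg⟩
    exact ⟨(fun i => ⟨d i, hd i⟩, k), Subtype.ext (Units.ext hg.symm)⟩

lemma factorization_card (hp2 : p ≠ 2) (h1 : p ∣ Fintype.card F - 1) (h2 : ¬ p ^ 2 ∣ Fintype.card F - 1) :
    (Nat.card (GL (ZMod p) F)).factorization p = p + 1 := by
  haveI : NeZero p := ⟨hp.out.ne_zero⟩
  have e : Nat.card (GL (ZMod p) F) = Nat.card (GL (Fin p) F) :=
    Nat.card_congr (Units.mapEquiv (Matrix.reindexAlgEquiv F F (ZMod.finEquiv p).toEquiv.symm).toMulEquiv).toEquiv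
  rw [e, Matrix.card_GL_field]
  set q := Fintype.card F with hq
  have hq2 : 2 ≤ q := Fintype.one_lt_card
  have hpq : ¬ p ∣ q := fun h => by
    have := Nat.dvd_sub h h1
    rw [Nat.sub_sub_self (by omega)] at this
    exact hp.out.one_lt.ne' (Nat.dvd_one.1 this)
  have v1 : padicValNat p (q - 1) = 1 := by
    refine le_antisymm ?_ (one_le_padicValNat_of_dvd (by omega) h1)
    by_contra h
    exact h2 ((pow_dvd_pow p (by omega)).trans pow_padicValNat_dvd)
  have key : ∀ i : Fin p, padicValNat p (q ^ p - q ^ (i : ℕ)) = 1 + padicValNat p (p - i) := by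
    intro i
    have hfac : q ^ p - q ^ (i : ℕ) = q ^ (i : ℕ) * (q ^ (p - i) - 1 ^ (p - i)) := by
      rw [one_pow, Nat.mul_sub, mul_one, ← pow_add, Nat.add_sub_cancel' i.2.le]
    have hlt : 1 ^ (p - i) < q ^ (p - (i : ℕ)) := by
      rw [one_pow]; exact Nat.one_lt_pow (by omega) hq2
    rw [hfac, padicValNat.mul (by positivity) (by omega),
      padicValNat.eq_zero_of_not_dvd (fun h => hpq (hp.out.dvd_of_dvd_pow h)), zero_add,
      padicValNat.pow_sub_pow (hp.out.odd_of_ne_two hp2) hq2 h1 hpq (by omega), v1]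
  have key' : ∀ i ∈ (Finset.univ : Finset (Fin p)), (q ^ p - q ^ (i : ℕ)).factorization p =
      1 + if i = 0 then 1 else 0 := by
    intro i _
    rw [Nat.factorization_def _ hp.out, key i]
    split_ifs with h
    · subst h; simp
    · rw [padicValNat.eq_zero_of_not_dvd (Nat.not_dvd_of_pos_of_lt (by omega) ?_)]
      have : (i : ℕ) ≠ 0 := fun e => h (Fin.ext e)
      omega
  rw [Nat.factorization_prod_apply (fun i _ => Nat.sub_ne_zero_of_lt (Nat.pow_lt_pow_right (by omega) i.2)),
    Finset.sum_congr rfl key', Finset.sum_add_distrib]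
  simp

lemma exists_quadratic : ∃ a : F, ∀ y : F, y ^ 2 + y + a ≠ 0 := by
  by_contra h
  push Not at h
  have hs : Function.Surjective (fun y : F => -(y ^ 2 + y)) := fun a => by
    obtain ⟨y, hy⟩ := h a
    exact ⟨y, by linear_combination -hy⟩
  have hi : Function.Injective (fun y : F => -(y ^ 2 + y)) := Finite.injective_iff_surjective.2 hs
  have := @hi 0 (-1) (by ring)
  simp at this

lemma isUnit_quadratic (hp2 : p ≠ 2) (h1 : p ∣ Fintype.card F - 1) (h2 : ¬ p ^ 2 ∣ Fintype.card F - 1)
    {ι : Type*} [Fintype ι] [DecidableEq ι] (M : Matrix ι ι F) (D : F) (hD : D ^ p = 1)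
    (hM : M ^ p = D • 1) (a : F) (ha : ∀ y : F, y ^ 2 + y + a ≠ 0) : IsUnit (M ^ 2 + M + a • 1) := by
  open Polynomial in
  let h : F[X] := X ^ 2 + X + C a
  have hdeg : h.natDegree = 2 := by simp [h]; compute_degree!
  have hirr : Irreducible h := by
    rw [Polynomial.irreducible_iff_roots_eq_zero_of_degree_le_three (by omega) (by omega),
      Multiset.eq_zero_iff_forall_notMem]
    intro y hy
    rw [Polynomial.mem_roots'] at hy
    exact ha y (by simpa [h] using hy.2)
  have hcop : IsCoprime h (X ^ p - C D) := by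
    rw [hirr.coprime_iff_not_dvd]
    intro hdvd
    haveI := Fact.mk hirr
    let y := AdjoinRoot.root h
    have hy : y ^ p = AdjoinRoot.of h D := by
      have := AdjoinRoot.mk_eq_zero.2 hdvd
      simpa [sub_eq_zero, y] using this
    have hy0 : y ≠ 0 := fun e => by
      rw [e, zero_pow hp.out.ne_zero] at hy
      have : D = 0 := (AdjoinRoot.of h).injective (by rw [← hy, map_zero])
      rw [this, zero_pow hp.out.ne_zero] at hD
      exact zero_ne_one hD
    haveI : Module.Finite F (AdjoinRoot h) := (AdjoinRoot.powerBasis hirr.ne_zero).finite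
    haveI : Finite (AdjoinRoot h) := Module.finite_of_finite F
    letI : Fintype (AdjoinRoot h) := Fintype.ofFinite _
    have hcard : Fintype.card (AdjoinRoot h) = Fintype.card F ^ 2 := by
      rw [Module.card_eq_pow_finrank (K := F), (AdjoinRoot.powerBasis hirr.ne_zero).finrank,
        AdjoinRoot.powerBasis_dim, hdeg]
    have e1 : y ^ (Fintype.card F ^ 2 - 1) = 1 := hcard ▸ FiniteField.pow_card_sub_one_eq_one y hy0
    have e2 : y ^ (p * p) = 1 := by rw [pow_mul, hy, ← map_pow, hD, map_one]
    have e3 : y ^ p = 1 := by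
      have e := pow_gcd_eq_one.2 ⟨e2, e1⟩
      suffices hg : Nat.gcd (p * p) (Fintype.card F ^ 2 - 1) ∣ p by
        obtain ⟨c, hc⟩ := hg
        rw [hc, pow_mul, e, one_pow]
      obtain ⟨j, hj, hj'⟩ := (Nat.dvd_prime_pow hp.out).1 ((sq p).symm ▸ Nat.gcd_dvd_left (p * p) (Fintype.card F ^ 2 - 1))
      simp only [← pow_two] at hj' ⊢
      rw [hj']
      rcases Nat.lt_or_ge j 2 with hj2 | hj2
      · simpa using pow_dvd_pow p (show j ≤ 1 by omega)
      · exfalso
        obtain rfl : j = 2 := by omega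
        have hdvd2 : p ^ 2 ∣ Fintype.card F ^ 2 - 1 := hj' ▸ Nat.gcd_dvd_right _ _
        have hsq : Fintype.card F ^ 2 - 1 = (Fintype.card F + 1) * (Fintype.card F - 1) := by
          rw [← Nat.sq_sub_sq, one_pow]
        rw [hsq] at hdvd2
        refine h2 ((Nat.Coprime.dvd_mul_left (Nat.Coprime.pow_left 2 ?_)).1 hdvd2)
        rw [hp.out.coprime_iff_not_dvd]
        intro hd
        have := Nat.dvd_sub hd h1
        have h2' : p ∣ 2 := by
          rwa [show Fintype.card F + 1 - (Fintype.card F - 1) = 2 by have := Fintype.card_pos (α := F); omega] at this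
        exact hp2 ((Nat.prime_dvd_prime_iff_eq hp.out Nat.prime_two).1 h2')
    have e4 : y ^ Fintype.card F = y := by
      obtain ⟨c, hc⟩ := h1
      rw [show Fintype.card F = p * c + 1 by have := Fintype.card_pos (α := F); omega, pow_succ, pow_mul, e3,
        one_pow, one_mul]
    have hy' : y ∉ Finset.univ.image (AdjoinRoot.of h) := by
      rw [Finset.mem_image]
      rintro ⟨c, -, hc⟩
      refine ha c ((AdjoinRoot.of h).injective ?_)
      have := AdjoinRoot.eval₂_root h
      simp only [h, eval₂_add, eval₂_pow, eval₂_X, eval₂_C] at this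
      rw [map_zero, map_add, map_add, map_pow, hc]
      exact this
    have hle : (Finset.univ.image (AdjoinRoot.of h) ∪ {y}).card ≤ Fintype.card F := by
      have hne : (X ^ Fintype.card F - X : (AdjoinRoot h)[X]) ≠ 0 :=
        FiniteField.X_pow_card_sub_X_ne_zero _ Fintype.one_lt_card
      calc _ ≤ (X ^ Fintype.card F - X : (AdjoinRoot h)[X]).roots.toFinset.card := by
            refine Finset.card_le_card fun z hz => ?_
            rw [Multiset.mem_toFinset, Polynomial.mem_roots hne]
            simp only [Finset.mem_union, Finset.mem_image, Finset.mem_singleton] at hz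
            rcases hz with ⟨c, -, rfl⟩ | rfl
            · simp [← map_pow, FiniteField.pow_card]
            · simp [e4]
        _ ≤ _ := (Multiset.toFinset_card_le _).trans ((Polynomial.card_roots' _).trans_eq
            (FiniteField.X_pow_card_sub_X_natDegree_eq _ Fintype.one_lt_card))
    rw [Finset.card_union_of_disjoint (by simpa using hy'), Finset.card_singleton,
      Finset.card_image_of_injective _ (AdjoinRoot.of h).injective, Finset.card_univ] at hle
    omega
  obtain ⟨u, v, huv⟩ := hcop
  have := congrArg (Polynomial.aeval M) huv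
  rw [map_add, map_mul, map_mul, map_one, map_sub, map_pow, Polynomial.aeval_X, Polynomial.aeval_C,
    Algebra.algebraMap_eq_smul_one, hM, sub_self, mul_zero, add_zero] at this
  have hh : Polynomial.aeval M h = M ^ 2 + M + a • 1 := by
    simp [h, Algebra.algebraMap_eq_smul_one]
  rw [hh] at this
  exact (Matrix.isUnit_iff_isUnit_det _).2 (Matrix.isUnit_det_of_left_inverse this)

/-- Every element of the monomial group lies in a conjugate by a non-monomial matrix. -/
lemma exists_conj (hp2 : p ≠ 2) (h1 : p ∣ Fintype.card F - 1) (h2 : ¬ p ^ 2 ∣ Fintype.card F - 1)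
    (x : GL (ZMod p) F) (hx : x ∈ Q F p) :
    ∃ g : GL (ZMod p) F, g⁻¹ * x * g ∈ Q F p ∧ ¬ RowMono (g⁻¹ : GL (ZMod p) F).val := by
  classical
  obtain ⟨d, k, hd, hg⟩ := id hx
  have hp3 := three_le hp2
  by_cases hk : k = 0
  · subst hk
    by_cases hinj : Function.Injective d
    · have hd0 : ∀ j, d j ≠ 0 := fun j h => by simpa [h, hp.out.ne_zero] using hd j
      let V : Matrix (ZMod p) (ZMod p) F := fun i j => d j ^ i.val
      let W : Matrix (ZMod p) (ZMod p) F := fun j i => ((d j)⁻¹) ^ i.val
      have hpF : (p : F) ≠ 0 := by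
        intro h
        obtain ⟨c, hc⟩ := h1
        have := congrArg (fun n : ℕ => (n : F)) hc
        simp only [Nat.cast_mul, h, zero_mul] at this
        rw [Nat.cast_sub Fintype.card_pos, FiniteField.cast_card_eq_zero, Nat.cast_one, zero_sub, neg_eq_zero] at this
        exact one_ne_zero this
      have hWV : ((p : F)⁻¹ • W) * V = 1 := by
        ext j l
        rw [Matrix.smul_mul, Matrix.smul_apply, Matrix.mul_apply]
        have e : ∀ i : ZMod p, W j i * V i l = (d l / d j) ^ i.val := fun i => by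
          simp only [W, V]; rw [← mul_pow, div_eq_inv_mul]
        rw [Finset.sum_congr rfl fun i _ => e i]
        have e' : ∑ i : ZMod p, (d l / d j) ^ i.val = ∑ t ∈ range p, (d l / d j) ^ t := by
          refine Finset.sum_bij' (fun i _ => i.val) (fun t _ => (t : ZMod p))
            (fun i _ => Finset.mem_range.2 (ZMod.val_lt i)) (fun _ _ => Finset.mem_univ _)
            (fun i _ => ZMod.natCast_zmod_val i)
            (fun t ht => ZMod.val_natCast_of_lt (Finset.mem_range.1 ht)) (fun _ _ => rfl)
        rw [e']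
        by_cases hjl : j = l
        · subst hjl
          simp [div_self (hd0 j), hpF]
        · rw [geom_sum_eq (fun h => hjl (hinj ((div_eq_one_iff_eq (hd0 j)).1 h)).symm), div_pow, hd, hd]
          simp [hjl]
      let g : GL (ZMod p) F :=
        Matrix.nonsingInvUnit ((p : F)⁻¹ • W) ((Matrix.isUnit_iff_isUnit_det _).1
          ⟨⟨_, V, hWV, mul_eq_one_comm.1 hWV⟩, rfl⟩)
      have hgv : (g⁻¹ : GL (ZMod p) F).val = V := Units.inv_eq_of_mul_eq_one_right hWV
      refine ⟨g, ⟨1, 1, fun _ => one_pow p, ?_⟩, fun hm => ?_⟩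
      · rw [Units.val_mul, Units.val_mul, hgv, hg]
        have hVS : V * mono d 0 = mono 1 1 * V := by
          ext i j
          rw [Matrix.mul_apply, Finset.sum_eq_single j (fun b _ hb => by simp [mono, Ne.symm hb]) (by simp),
            Matrix.mul_apply, Finset.sum_eq_single (i + 1) (fun b _ hb => by simp [mono, hb]) (by simp)]
          simp only [mono, add_zero, if_true, V, Pi.one_apply, one_mul]
          rw [← pow_succ, ZMod.val_add, pow_eq_pow_mod (i.val + 1) (hd j),
            show (1 : ZMod p).val = 1 from ZMod.val_one p]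
        rw [hVS, mul_assoc]
        show mono 1 1 * (V * ((p : F)⁻¹ • W)) = _
        rw [mul_eq_one_comm.1 hWV, mul_one]
      · rw [hgv] at hm
        exact zero_ne_one (α := ZMod p) (hm 0 0 1 (by simp [V]) (by simp [V]))
    · rw [Function.Injective] at hinj
      push Not at hinj
      obtain ⟨i, j, hij, hne⟩ := hinj
      let g : GL (ZMod p) F :=
        ⟨Matrix.transvection i j 1, Matrix.transvection i j (-1),
          by rw [Matrix.transvection_mul_transvection_same _ _ hne]; simp,
          by rw [Matrix.transvection_mul_transvection_same _ _ hne]; simp⟩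
      refine ⟨g, ⟨d, 0, hd, ?_⟩, fun hm => hne (hm i i j ?_ ?_)⟩
      · have hc : mono d 0 * Matrix.transvection i j (1 : F) = Matrix.transvection i j 1 * mono d 0 := by
          have e1 : mono d 0 = Matrix.diagonal d := by
            ext a b; simp [mono, Matrix.diagonal_apply, eq_comm (a := a) (b := b)]
          rw [e1, Matrix.transvection, mul_add, add_mul, mul_one, one_mul]
          congr 1
          ext a b
          simp only [Matrix.diagonal_mul, Matrix.mul_diagonal, Matrix.single, Matrix.of_apply]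
          split_ifs with h
          · obtain ⟨rfl, rfl⟩ := h; rw [hij, mul_comm]
          · simp
        rw [Units.val_mul, Units.val_mul, hg, mul_assoc, hc, ← mul_assoc]
        show Matrix.transvection i j (-1 : F) * Matrix.transvection i j 1 * _ = _
        rw [Matrix.transvection_mul_transvection_same _ _ hne]
        simp
      · show Matrix.transvection i j (-1 : F) i i ≠ 0
        simp [Matrix.transvection, Matrix.single, Ne.symm hne]
      · show Matrix.transvection i j (-1 : F) i j ≠ 0
        simp [Matrix.transvection, Matrix.single, hne]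
  · obtain ⟨a, ha⟩ := exists_quadratic (F := F)
    have hxp := mono_pow_prime d hk
    have hu : IsUnit ((x : Matrix (ZMod p) (ZMod p) F) ^ 2 + x.val + a • 1) :=
      isUnit_quadratic hp2 h1 h2 _ (∏ i, d i)
        (by rw [← Finset.prod_pow, Finset.prod_eq_one fun i _ => hd i]) (by rw [hg, hxp]) a ha
    let g : GL (ZMod p) F := hu.unit
    have hcomm : g * x = x * g := by
      apply Units.ext
      show (x.val ^ 2 + x.val + a • 1) * x.val = x.val * (x.val ^ 2 + x.val + a • 1)
      simp [add_mul, mul_add, pow_two, mul_assoc]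
    refine ⟨g⁻¹, ⟨d, k, hd, ?_⟩, fun hm => ?_⟩
    · rw [inv_inv, hcomm, mul_inv_cancel_right, hg]
    · rw [inv_inv] at hm
      obtain ⟨h2k, h2k'⟩ := two_ne hp2 hk
      have hd0 : d 0 ≠ 0 := fun h => by simpa [h, hp.out.ne_zero] using hd 0
      have ha0 : a ≠ 0 := fun h => ha 0 (by simp [h])
      refine hk (hm 0 0 k ?_ ?_).symm
      · show (x.val ^ 2 + x.val + a • 1 : Matrix (ZMod p) (ZMod p) F) 0 0 ≠ 0
        rw [hg, pow_two, mono_mul]
        simp [mono, Ne.symm hk, Ne.symm h2k, ha0]
      · show (x.val ^ 2 + x.val + a • 1 : Matrix (ZMod p) (ZMod p) F) 0 k ≠ 0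
        rw [hg, pow_two, mono_mul]
        simp [mono, hk, Ne.symm h2k', Ne.symm hk, hd0]

theorem main (hp2 : p ≠ 2) (h1 : p ∣ Fintype.card F - 1) (h2 : ¬ p ^ 2 ∣ Fintype.card F - 1) :
    ∃ S : Sylow p (GL (Fin p) F), ∀ x : GL (Fin p) F,
      (∃ k : ℕ, orderOf x = p ^ k) → ∃ P : Sylow p (GL (Fin p) F), P ≠ S ∧ x ∈ P := by
  classical
  haveI : NeZero p := ⟨hp.out.ne_zero⟩
  let φ : GL (ZMod p) F ≃* GL (Fin p) F :=
    Units.mapEquiv (Matrix.reindexAlgEquiv F F (ZMod.finEquiv p).toEquiv.symm).toMulEquiv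
  let S : Sylow p (GL (Fin p) F) := Sylow.ofCard ((Q F p).map φ.toMonoidHom) (by
    rw [Subgroup.card_map_of_injective (f := φ.toMonoidHom) φ.injective, card_Q h1, ← Nat.card_congr φ.toEquiv,
      factorization_card hp2 h1 h2])
  obtain ⟨z, hz⟩ : ∃ z : Fˣ, orderOf z = p := exists_prime_orderOf_dvd_card' p (by
    rwa [Nat.card_units, Nat.card_eq_fintype_card])
  have hzp : (z : F) ^ p = 1 := by rw [← hz, ← Units.val_pow_eq_pow_val, pow_orderOf_eq_one]; rfl
  have hz1 : (z : F) ≠ 1 := fun h => hp.out.one_lt.ne' (by rw [← hz, Units.val_eq_one.1 h, orderOf_one])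
  refine ⟨S, fun x ⟨n, hn⟩ => ?_⟩
  by_cases hx : x ∈ (Q F p).map φ.toMonoidHom
  · obtain ⟨y, hy, rfl⟩ := hx
    obtain ⟨g, hg, hmono⟩ := exists_conj hp2 h1 h2 y hy
    refine ⟨φ g • S, fun e => hmono ?_, ?_⟩
    · refine rowMono_of_normalizes hp2 (z : F) hzp hz1 g⁻¹ fun w hw => ?_
      have hmem : φ w ∈ ((φ g • S : Sylow p (GL (Fin p) F)) : Subgroup (GL (Fin p) F)) := by
        rw [e]; exact Subgroup.mem_map_of_mem _ hw
      rw [Sylow.coe_subgroup_smul, Subgroup.mem_pointwise_smul_iff_inv_smul_mem] at hmem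
      obtain ⟨v, hv, hv'⟩ := hmem
      have : v = g⁻¹ * w * g := φ.injective (hv'.trans (by simp [MulAut.smul_def, mul_assoc]))
      rwa [inv_inv, ← this]
    · show φ y ∈ ((φ g • S : Sylow p (GL (Fin p) F)) : Subgroup (GL (Fin p) F))
      rw [Sylow.coe_subgroup_smul, Subgroup.mem_pointwise_smul_iff_inv_smul_mem]
      exact ⟨g⁻¹ * y * g, hg, by simp [MulAut.smul_def, mul_assoc]⟩
  · have hxp : IsPGroup p ↥(Subgroup.zpowers x) := IsPGroup.of_card (n := n) (by rw [Nat.card_zpowers, hn])
    obtain ⟨P, hP⟩ := hxp.exists_le_sylow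
    refine ⟨P, fun e => hx ?_, hP (Subgroup.mem_zpowers x)⟩
    have := hP (Subgroup.mem_zpowers x)
    rw [e] at this
    exact this

end Cfsg.Agent.RedundantSylowGL
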