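import Cfsg.Agent.Lib.ReeInstance17
import Cfsg.Agent.Lib.PSLCard

/-!
The centraliser of an involution of `²G₂(q)` and its Sylow 2-subgroups.
-/

set_option autoImplicit false
set_option maxRecDepth 20000

namespace Cfsg.Agent.ReeCentralizer17

open Cfsg.Lie Cfsg.Agent.ChevBruhat Cfsg.Agent.ReeSL2 Cfsg.Agent.ChevalleyTorus
open Cfsg.Agent.ReeTwist17 Cfsg.Agent.ReeInstance17 Cfsg.Agent.ChevalleyCore
open scoped MatrixGroups

/-- the homomorphism from `ZMod 2` given by an element of square one -/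
def z2hom {G : Type*} [Group G] (z : G) (hz : z * z = 1) : Multiplicative (ZMod 2) →* G where
  toFun e := z ^ (Multiplicative.toAdd e).val
  map_one' := by simp
  map_mul' a b := by
    rw [toAdd_mul, ZMod.val_add, ← pow_eq_pow_mod _ (by rw [pow_two, hz]), pow_add]

theorem z2hom_zero {G : Type*} [Group G] (z : G) (hz : z * z = 1) :
    z2hom z hz (Multiplicative.ofAdd 0) = 1 := by simp [z2hom]

theorem z2hom_one {G : Type*} [Group G] (z : G) (hz : z * z = 1) :
    z2hom z hz (Multiplicative.ofAdd 1) = z := pow_one z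

theorem elem8 : ∀ w : Multiplicative (ZMod 2) ×
    (Multiplicative (ZMod 2) × Multiplicative (ZMod 2)), w * w = 1 := by decide

theorem zmod2_cases : ∀ a : ZMod 2, a = 0 ∨ a = 1 := by decide

variable {K : Type*} [Field K] [Fintype K] [CharP K 3] (X : ReeInstance17.Ctx K)

theorem two_ne : (2 : K) ≠ 0 := by
  intro h
  have : ((2 : ℕ) : K) = 0 := by exact_mod_cast h
  exact absurd ((CharP.cast_eq_zero_iff K 3 2).1 this) (by norm_num)

/-- the involution of the torus -/
noncomputable def av : GL chevG2.Idx K := X.tor (-1)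

theorem av_mem_H : av X ∈ chevG2.diagonalSubgroup K := torus_mem_H c2 _

theorem tor_inj : Function.Injective X.tor := by
  intro c d h
  exact congrFun (Ctx.torus_inj h) ⟨1, by decide⟩

theorem invol_eq {x : GL chevG2.Idx K} (hH : x ∈ chevG2.diagonalSubgroup K) (hG : x ∈ X.G1)
    (h1 : x ≠ 1) (h2 : x * x = 1) : x = av X := by
  obtain ⟨c, rfl⟩ := X.H1_le ⟨hH, hG⟩
  have hc : c * c = 1 := tor_inj X (by rw [map_mul, h2, map_one])
  rcases mul_self_eq_one_iff.1 (show (c : K) * c = 1 by rw [← Units.val_mul, hc, Units.val_one])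
    with h | h
  · exact absurd (by rw [show c = 1 from Units.ext h, map_one]) h1
  · rw [show c = -1 from Units.ext (by rw [h]; rfl)]; rfl

theorem sign_table : ∀ r ∈ ([6, 7, 8, 9, 10, 11] : List ℕ), r < chevG2.nroots ∧
    (if r = 8 ∨ r = 10 then Even (chevG2.cartan 0 r + chevG2.cartan 1 r)
      else Odd (chevG2.cartan 0 r + chevG2.cartan 1 r)) := by decide +kernel

theorem av_conj {r : ℕ} (hr : r ∈ ([6, 7, 8, 9, 10, 11] : List ℕ)) (t : K) :
    av X * xg c2 r t * (av X)⁻¹ = xg c2 r (if r = 8 ∨ r = 10 then t else -t) := by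
  obtain ⟨h1, h2⟩ := sign_table r hr
  have huniv : (Finset.univ : Finset (Fin chevG2.rank)) = {⟨0, by decide⟩, ⟨1, by decide⟩} := by
    decide +kernel
  rw [av, Ctx.tor, MonoidHom.comp_apply, torus_conj_xg c2 h1]
  congr 1
  have e : ((tchar chevG2 (X.par (-1)) r : Kˣ) : K) =
      (-1 : K) ^ (chevG2.cartan 0 r + chevG2.cartan 1 r) := by
    have hA : X.par (-1) ⟨0, by decide⟩ = -1 := Units.ext (by simp [Ctx.par])
    have hB : X.par (-1) ⟨1, by decide⟩ = -1 := Units.ext (by simp [Ctx.par])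
    rw [tchar, huniv, Finset.prod_pair (by decide), hA, hB, ← zpow_add, Units.val_zpow_eq_zpow_val]
    simp
  rw [e]
  split_ifs at h2 ⊢ with h
  · rw [h2.neg_one_zpow, one_mul]
  · rw [h2.neg_one_zpow, neg_one_mul]

theorem av_conj_Uf (a b c d e g : K) :
    av X * Uf false a b c d e g * (av X)⁻¹ = Uf false (-a) (-b) c (-d) e (-g) := by
  have h := fun r hr t => av_conj X (r := r) hr t
  have e6 := h 6 (by simp) b
  have e7 := h 7 (by simp) a
  have e8 := h 8 (by simp) c
  have e9 := h 9 (by simp) d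
  have e10 := h 10 (by simp) e
  have e11 := h 11 (by simp) g
  norm_num at e6 e7 e8 e9 e10 e11
  simp only [Uf, tail, ReeTwist17.X, Bool.false_eq_true, ↓reduceIte]
  calc av X * (xg c2 7 a * xg c2 6 b * (xg c2 8 c * xg c2 9 d * xg c2 10 e * xg c2 11 g)) *
        (av X)⁻¹
      = (av X * xg c2 7 a * (av X)⁻¹) * (av X * xg c2 6 b * (av X)⁻¹) *
        ((av X * xg c2 8 c * (av X)⁻¹) * (av X * xg c2 9 d * (av X)⁻¹) *
          (av X * xg c2 10 e * (av X)⁻¹) * (av X * xg c2 11 g * (av X)⁻¹)) := by group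
    _ = _ := by rw [e6, e7, e8, e9, e10, e11]

theorem gen_zero (u : K) : gen X.θ false 0 u 0 = psi X.θ (ChevalleySL2.upper u) := by
  rw [psi_upper]
  simp [gen, Uf, tail, ReeTwist17.X]

theorem fixed_U {w : GL chevG2.Idx K} (hw : w ∈ chevG2.posUnipotent K ⊓ X.G1)
    (hc : av X * w * (av X)⁻¹ = w) : ∃ u, w = psi X.θ (ChevalleySL2.upper u) := by
  obtain ⟨t, a, b, rfl⟩ := X.mem_U1 hw
  rw [gen, av_conj_Uf] at hc
  obtain ⟨-, h2, -, -, -, h6⟩ := Uf_inj hc
  have ht : t = 0 := by
    have : (2 : K) * t = 0 := by linear_combination -h2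
    exact (mul_eq_zero.1 this).resolve_left two_ne
  have hb : b = 0 := by
    have : (2 : K) * b = 0 := by linear_combination -h6
    exact (mul_eq_zero.1 this).resolve_left two_ne
  exact ⟨a, by rw [← gen_zero, ht, hb]⟩

variable (hav : av X ∈ X.G1)
include hav

theorem cn_comm : Commute (av X) Ctx.cn := by
  obtain ⟨hN, -⟩ := X.cn_toW
  have h1 : (Ctx.cn : GL chevG2.Idx K) * av X * (Ctx.cn : GL chevG2.Idx K)⁻¹ ∈
      chevG2.diagonalSubgroup K :=
    X.tw.S.conj_H (X.tw.S.acts_toW ⟨_, hN⟩) (av_mem_H X)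
  have h2 := invol_eq X h1
    (Subgroup.mul_mem _ (Subgroup.mul_mem _ X.cn_G1 hav) (Subgroup.inv_mem _ X.cn_G1))
    (by
      rw [Ne, conj_eq_one_iff]
      intro h
      have h1' := tor_inj X (h.trans (map_one _).symm)
      have h2' : ((-1 : Kˣ) : K) = 1 := by rw [h1', Units.val_one]
      simp only [Units.val_neg, Units.val_one] at h2'
      exact two_ne (by linear_combination -h2'))
    (by
      have e : av X * av X = 1 := by rw [av, ← map_mul]; simp
      calc _ = (Ctx.cn : GL chevG2.Idx K) * (av X * av X) * (Ctx.cn : GL chevG2.Idx K)⁻¹ := by group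
        _ = 1 := by rw [e]; group)
  exact (mul_inv_eq_iff_eq_mul.1 h2).symm

theorem psi_comm (g : SL(2, K)) : Commute (av X) (psi X.θ g) := by
  have hg : g ∈ Submonoid.closure
      (Set.range (ChevalleySL2.upper : K → SL(2, K)) ∪ {ChevalleySL2.wel}) := by
    rw [ChevalleySL2.gen_top]; exact Submonoid.mem_top _
  induction hg using Submonoid.closure_induction with
  | mem a ha =>
    rcases ha with ⟨t, rfl⟩ | rfl
    · rw [← gen_zero, gen]
      show _ * _ = _ * _
      rw [← mul_inv_eq_iff_eq_mul, av_conj_Uf]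
      congr 1 <;> simp
    · rw [← X.cn_eq]; exact cn_comm X hav
  | one => rw [map_one]; exact Commute.one_right _
  | mul a b _ _ ha hb => rw [map_mul]; exact ha.mul_right hb

/-- the centraliser, inside the group -/
abbrev Cen : Subgroup ↥X.G1 := Subgroup.centralizer {(⟨av X, hav⟩ : ↥X.G1)}

theorem card_Cen_le : Nat.card ↥(Cen X hav) ≤
    (Fintype.card K - 1) * (Fintype.card K + Fintype.card K * Fintype.card K) := by
  classical
  let f : ↥(chevG2.diagonalSubgroup K ⊓ X.G1) × (K ⊕ K × K) → GL chevG2.Idx K := fun p =>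
    match p.2 with
    | Sum.inl u => (p.1 : GL chevG2.Idx K) * psi X.θ (ChevalleySL2.upper u)
    | Sum.inr (u, v) => (p.1 : GL chevG2.Idx K) * psi X.θ (ChevalleySL2.upper u) * Ctx.cn *
        psi X.θ (ChevalleySL2.upper v)
  have hHU : ∀ b ∈ chevG2.borelSubgroup K ⊓ X.G1, av X * b * (av X)⁻¹ = b →
      ∃ h : ↥(chevG2.diagonalSubgroup K ⊓ X.G1), ∃ u,
        b = h * psi X.θ (ChevalleySL2.upper u) := by
    intro b hb hc
    obtain ⟨h, hh, u, hu, rfl⟩ := X.classes.mem_B1 hb
    have hcm := H_comm c2 (av_mem_H X) hh.1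
    have hu2 : av X * u * (av X)⁻¹ = u := by
      have e : av X * (h * u) * (av X)⁻¹ = h * (av X * u * (av X)⁻¹) := by
        rw [← mul_assoc, hcm]; group
      rw [e] at hc
      exact mul_left_cancel hc
    obtain ⟨v, rfl⟩ := fixed_U X hu hu2
    exact ⟨⟨h, hh⟩, v, rfl⟩
  have hsurj : ∀ g : ↥(Cen X hav), ∃ p, f p = ((g : ↥X.G1) : GL chevG2.Idx K) := by
    rintro ⟨⟨g, hg⟩, hgc⟩
    have hc : av X * g * (av X)⁻¹ = g := by
      have := congrArg Subtype.val (Subgroup.mem_centralizer_singleton_iff.1 hgc)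
      rw [mul_inv_eq_iff_eq_mul]
      exact this.symm
    rcases X.form hg with h | ⟨b, hb, u, hu, rfl⟩
    · obtain ⟨h', v, rfl⟩ := hHU g h hc
      exact ⟨(h', Sum.inl v), rfl⟩
    · obtain ⟨hN, hw⟩ := X.cn_toW
      have hu' : av X * u * (av X)⁻¹ ∈ chevG2.posUnipotent K :=
        X.tw.S.H_conj_U (av_mem_H X) hu.1
      have e : (av X * b * (av X)⁻¹) * Ctx.cn * (av X * u * (av X)⁻¹) = b * Ctx.cn * u := by
        conv_rhs => rw [← hc]
        have hcn := (cn_comm X hav).eq
        calc (av X * b * (av X)⁻¹) * Ctx.cn * (av X * u * (av X)⁻¹)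
            = av X * b * ((av X)⁻¹ * (Ctx.cn * av X)) * u * (av X)⁻¹ := by group
          _ = _ := by rw [← hcn]; group
      obtain ⟨h1, h2⟩ := X.tw.S.form_unique ⟨_, hN⟩
        (mul_mem (mul_mem (Sys.H_le_B (av_mem_H X)) hb.1) (inv_mem (Sys.H_le_B (av_mem_H X))))
        hb.1 (by rw [hw, X.Uw_cl]; exact hu') (by rw [hw, X.Uw_cl]; exact hu.1) e
      obtain ⟨h', v, rfl⟩ := hHU b hb h1
      obtain ⟨v', rfl⟩ := fixed_U X hu h2
      exact ⟨(h', Sum.inr (v, v')), rfl⟩
  choose s hs using hsurj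
  refine (Nat.card_le_card_of_injective s fun g g' h => ?_).trans ?_
  · refine Subtype.ext (Subtype.ext ?_)
    rw [← hs g, ← hs g', h]
  · rw [Nat.card_prod, Nat.card_sum, Nat.card_prod, Nat.card_eq_fintype_card (α := K)]
    refine Nat.mul_le_mul_right _ (Nat.le_of_dvd ?_ X.card_H1_dvd)
    have := Fintype.one_lt_card (α := K)
    omega

theorem av_ne_one : av X ≠ 1 := by
  intro h
  have h1 := tor_inj X (h.trans (map_one _).symm)
  have h2 : ((-1 : Kˣ) : K) = 1 := by rw [h1, Units.val_one]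
  simp only [Units.val_neg, Units.val_one] at h2
  exact two_ne (by linear_combination -h2)

omit hav in
theorem av_sq : av X * av X = 1 := by rw [av, ← map_mul]; simp

theorem av_notMem_psi (g : SL(2, K)) : psi X.θ g ≠ av X := by
  intro hg
  have key : ∀ w : SL(2, K), (w : Matrix (Fin 2) (Fin 2) K).trace = 2 → g * w = w * g := by
    intro w hw
    have hker : g * w * g⁻¹ * w⁻¹ ∈ Subgroup.center SL(2, K) := ker_psi X.θ two_ne (by
      rw [MonoidHom.mem_ker, map_mul, map_mul, map_mul, map_inv, map_inv, hg,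
        (psi_comm X hav w).eq]
      group)
    obtain ⟨r, -, hr⟩ := Matrix.SpecialLinearGroup.mem_center_iff.1 hker
    have h1 : ((g * w * g⁻¹ : SL(2, K)) : Matrix (Fin 2) (Fin 2) K) =
        Matrix.scalar (Fin 2) r * (w : Matrix (Fin 2) (Fin 2) K) := by
      rw [hr, ← Matrix.SpecialLinearGroup.coe_mul, inv_mul_cancel_right]
    have h2 : Matrix.trace ((g * w * g⁻¹ : SL(2, K)) : Matrix (Fin 2) (Fin 2) K) = 2 := by
      rw [Matrix.SpecialLinearGroup.coe_mul, Matrix.trace_mul_comm,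
        ← Matrix.SpecialLinearGroup.coe_mul, inv_mul_cancel_left, hw]
    rw [h1, Matrix.scalar_apply, ← Matrix.smul_eq_diagonal_mul, Matrix.trace_smul, hw,
      smul_eq_mul] at h2
    have hr1 : r = 1 := by
      have : r * 2 = 1 * 2 := by rw [h2, one_mul]
      exact mul_right_cancel₀ two_ne this
    rw [hr1, map_one, one_mul] at h1
    rw [← mul_inv_eq_iff_eq_mul]
    exact Subtype.ext h1
  have k1 := congrArg Subtype.val (key (ChevalleySL2.upper 1)
    (by rw [upper_coe, Matrix.trace_fin_two_of]; norm_num))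
  have k2 := congrArg Subtype.val (key (ChevalleySL2.lower 1)
    (by rw [lower_coe, Matrix.trace_fin_two_of]; norm_num))
  rw [Matrix.SpecialLinearGroup.coe_mul, Matrix.SpecialLinearGroup.coe_mul, upper_coe] at k1
  rw [Matrix.SpecialLinearGroup.coe_mul, Matrix.SpecialLinearGroup.coe_mul, lower_coe] at k2
  have a1 := congrFun (congrFun k1 0) 0
  have a2 := congrFun (congrFun k1 0) 1
  have b1 := congrFun (congrFun k2 0) 0
  simp [Matrix.mul_apply, Fin.sum_univ_two] at a1 a2 b1
  have hcen : g ∈ Subgroup.center SL(2, K) := by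
    rw [Matrix.SpecialLinearGroup.mem_center_iff]
    refine ⟨(g : Matrix (Fin 2) (Fin 2) K) 0 0, ?_, ?_⟩
    · have hd := g.det_coe
      rw [Matrix.det_fin_two, a1, mul_zero, sub_zero] at hd
      simp only [Fintype.card_fin]
      linear_combination hd + (g : Matrix (Fin 2) (Fin 2) K) 0 0 * a2
    · ext i j
      fin_cases i <;> fin_cases j <;> simp [a1, b1]
      linear_combination a2
  exact av_ne_one X hav (hg.symm.trans (center_le_ker X.θ hcen))

/-- the map from the direct product -/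
theorem exists_equiv (hodd : Odd (Fintype.card K)) : Nonempty (↥(Cen X hav) ≃*
    Multiplicative (ZMod 2) × Matrix.ProjectiveSpecialLinearGroup (Fin 2) K) := by
  classical
  obtain ⟨φ, hφ, hφg⟩ := exists_psl_hom X.θ X.spec X.e_ne two_ne
  set A : ↥X.G1 := ⟨av X, hav⟩ with hA
  have hA2 : A * A = 1 := Subtype.ext (av_sq X)
  have hA1 : A ≠ 1 := fun h => av_ne_one X hav (congrArg Subtype.val h)
  let fa : Multiplicative (ZMod 2) →* ↥X.G1 := z2hom A hA2
  have hcomm : ∀ e x, Commute (fa e) (φ x) := by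
    intro e x
    obtain ⟨g, rfl⟩ := QuotientGroup.mk_surjective x
    refine Commute.pow_left (Subtype.ext ?_) _
    show av X * (φ (QuotientGroup.mk g) : GL chevG2.Idx K) = _ * av X
    rw [hφg]
    exact (psi_comm X hav g).eq
  let F := MonoidHom.noncommCoprod fa φ hcomm
  have hFmem : ∀ z, F z ∈ Cen X hav := by
    rintro ⟨e, x⟩
    rw [Subgroup.mem_centralizer_singleton_iff]
    have h1 : Commute A (fa e) := Commute.pow_right (Commute.refl A) _
    have h2 : Commute A (φ x) := by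
      have := hcomm (Multiplicative.ofAdd 1) x
      rwa [show fa (Multiplicative.ofAdd 1) = A from pow_one A] at this
    exact (h1.mul_right h2).eq.symm
  have hinj : Function.Injective F := by
    rw [injective_iff_map_eq_one]
    rintro ⟨e, x⟩ h
    obtain ⟨e, rfl⟩ := Multiplicative.ofAdd.surjective e
    rw [MonoidHom.noncommCoprod_apply] at h
    rcases zmod2_cases e with rfl | rfl
    · have h' : φ x = 1 := by rwa [show fa _ = 1 from z2hom_zero A hA2, one_mul] at h
      rw [(injective_iff_map_eq_one φ).1 hφ x h']; rfl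
    · exfalso
      have h' : A * φ x = 1 := by rwa [show fa _ = A from z2hom_one A hA2] at h
      obtain ⟨g, rfl⟩ := QuotientGroup.mk_surjective x
      have h3 : φ (QuotientGroup.mk g) = A := by
        rw [eq_inv_of_mul_eq_one_right h', inv_eq_of_mul_eq_one_right hA2]
      exact av_notMem_psi X hav g ((hφg g).symm.trans (congrArg Subtype.val h3))
  let F' := F.codRestrict (Cen X hav) hFmem
  have hF' : Function.Injective F' := fun a b h => hinj (congrArg Subtype.val h)
  have hbij : Function.Bijective F' := by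
    refine hF'.bijective_of_nat_card_le ((card_Cen_le X hav).trans ?_)
    rw [Nat.card_prod, Nat.card_congr Multiplicative.toAdd, Nat.card_zmod]
    have h2 := PSLCard.card_PSL2_mul (F := K)
    rw [Nat.card_eq_fintype_card (α := K)] at h2
    set q := Fintype.card K
    have hg : Nat.gcd 2 (q - 1) = 2 := by
      obtain ⟨k, hk⟩ := hodd
      exact Nat.gcd_eq_left ⟨k, by omega⟩
    rw [hg] at h2
    rw [h2]
    have h1 : 1 < q := Fintype.one_lt_card
    obtain ⟨j, hj⟩ : ∃ j, q = j + 1 := ⟨q - 1, by omega⟩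
    have e1 : q ^ 2 - 1 = j * (j + 2) := by
      rw [hj]
      have : (j + 1) ^ 2 = j * (j + 2) + 1 := by ring
      omega
    rw [e1, hj, Nat.add_sub_cancel]
    exact le_of_eq (by ring)
  exact ⟨(MulEquiv.ofBijective F' hbij).symm⟩

omit hav in
theorem exists_four : ∃ v : Multiplicative (ZMod 2) × Multiplicative (ZMod 2) →*
    Matrix.ProjectiveSpecialLinearGroup (Fin 2) K, Function.Injective v := by
  classical
  obtain ⟨α, β, hαβ⟩ : ∃ α β : K, α ^ 2 + β ^ 2 = -1 := by
    obtain ⟨a, b, h⟩ := FiniteField.exists_root_sum_quadratic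
      (f := (Polynomial.X ^ 2 : Polynomial K)) (g := Polynomial.X ^ 2 + 1)
      (by simp) (by compute_degree!) (FiniteField.odd_card_of_char_ne_two (by
        rw [ringChar.eq K 3]; norm_num))
    exact ⟨a, b, by simp at h; linear_combination h⟩
  let Y : SL(2, K) := ⟨!![α, β; β, -α], by rw [Matrix.det_fin_two_of]; linear_combination -hαβ⟩
  have hY : (Y : Matrix (Fin 2) (Fin 2) K) = !![α, β; β, -α] := rfl
  let W : SL(2, K) := ChevalleySL2.wel
  have hW : (W : Matrix (Fin 2) (Fin 2) K) = !![0, 1; -1, 0] := rfl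
  have hn : ((-1 : SL(2, K)) : Matrix (Fin 2) (Fin 2) K) = !![-1, 0; 0, -1] := by
    rw [Matrix.SpecialLinearGroup.coe_neg, Matrix.SpecialLinearGroup.coe_one, Matrix.one_fin_two]
    ext i j
    fin_cases i <;> fin_cases j <;> simp
  have hnc : (-1 : SL(2, K)) ∈ Subgroup.center SL(2, K) := by
    rw [Subgroup.mem_center_iff]; intro x; simp
  have hYY : Y * Y = -1 := by
    apply Subtype.ext
    rw [Matrix.SpecialLinearGroup.coe_mul, hY, hn, Matrix.mul_fin_two]
    ext i j
    fin_cases i <;> fin_cases j <;> simp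
    all_goals first | linear_combination hαβ | ring
  have hWW : W * W = -1 := by
    apply Subtype.ext
    rw [Matrix.SpecialLinearGroup.coe_mul, hW, hn, Matrix.mul_fin_two]
    ext i j
    fin_cases i <;> fin_cases j <;> simp
  have hWY : W * Y = -1 * (Y * W) := by
    apply Subtype.ext
    rw [Matrix.SpecialLinearGroup.coe_mul, Matrix.SpecialLinearGroup.coe_mul,
      Matrix.SpecialLinearGroup.coe_mul, hW, hY, hn, Matrix.mul_fin_two, Matrix.mul_fin_two,
      Matrix.mul_fin_two]
    ext i j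
    fin_cases i <;> fin_cases j <;> simp
  let π : SL(2, K) →* Matrix.ProjectiveSpecialLinearGroup (Fin 2) K := QuotientGroup.mk' _
  have hπ : π (-1) = 1 := (QuotientGroup.eq_one_iff _).2 hnc
  let x := π W
  let y := π Y
  have hx2 : x * x = 1 := by rw [← map_mul, hWW, hπ]
  have hy2 : y * y = 1 := by rw [← map_mul, hYY, hπ]
  have hxy : Commute x y := by
    show π W * π Y = π Y * π W
    rw [← map_mul, hWY, map_mul, hπ, one_mul, map_mul]
  have hone : ∀ g : SL(2, K), π g = 1 → ∃ r : K,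
      (g : Matrix (Fin 2) (Fin 2) K) = !![r, 0; 0, r] := by
    intro g hg
    obtain ⟨r, -, hr⟩ := Matrix.SpecialLinearGroup.mem_center_iff.1 ((QuotientGroup.eq_one_iff _).1 hg)
    refine ⟨r, ?_⟩
    rw [← hr]
    ext i j
    fin_cases i <;> fin_cases j <;> simp
  have hx1 : x ≠ 1 := by
    intro h
    obtain ⟨r, hr⟩ := hone W h
    have := congrFun (congrFun hr 0) 1
    rw [hW] at this
    simp at this
  have hy1 : y ≠ 1 := by
    intro h
    obtain ⟨r, hr⟩ := hone Y h
    have a := congrFun (congrFun hr 0) 0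
    have b := congrFun (congrFun hr 0) 1
    have c := congrFun (congrFun hr 1) 1
    rw [hY] at a b c
    simp at a b c
    have : α = 0 := by
      have h2 : (2 : K) * α = 0 := by linear_combination a - c
      exact (mul_eq_zero.1 h2).resolve_left two_ne
    rw [this, b] at hαβ
    simp at hαβ
  have hxy1 : x * y ≠ 1 := by
    intro h
    rw [← map_mul] at h
    obtain ⟨r, hr⟩ := hone (W * Y) h
    rw [Matrix.SpecialLinearGroup.coe_mul, hW, hY, Matrix.mul_fin_two] at hr
    have a := congrFun (congrFun hr 0) 0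
    have b := congrFun (congrFun hr 0) 1
    have c := congrFun (congrFun hr 1) 1
    simp at a b c
    have : β = 0 := by
      have h2 : (2 : K) * β = 0 := by linear_combination a - c
      exact (mul_eq_zero.1 h2).resolve_left two_ne
    rw [this] at hαβ
    simp [b] at hαβ
  refine ⟨MonoidHom.noncommCoprod (z2hom x hx2) (z2hom y hy2) (fun a b => hxy.pow_pow _ _), ?_⟩
  rw [injective_iff_map_eq_one]
  rintro ⟨a, b⟩ h
  obtain ⟨a, rfl⟩ := Multiplicative.ofAdd.surjective a
  obtain ⟨b, rfl⟩ := Multiplicative.ofAdd.surjective b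
  replace h : z2hom x hx2 (Multiplicative.ofAdd a) * z2hom y hy2 (Multiplicative.ofAdd b) = 1 := h
  rcases zmod2_cases a with rfl | rfl <;> rcases zmod2_cases b with rfl | rfl
  · rfl
  · rw [z2hom_zero, z2hom_one, one_mul] at h; exact absurd h hy1
  · rw [z2hom_zero, z2hom_one, mul_one] at h; exact absurd h hx1
  · rw [z2hom_one, z2hom_one] at h; exact absurd h hxy1

theorem sylow_two {m : ℕ} (hK : Fintype.card K = 3 ^ (2 * m + 1)) (S : Sylow 2 ↥X.G1) :
    Nat.card S = 8 ∧ ∀ x ∈ S, x * x = 1 := by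
  classical
  haveI : Fact (Nat.Prime 2) := ⟨Nat.prime_two⟩
  have hodd : Odd (Fintype.card K) := hK ▸ Odd.pow ⟨1, rfl⟩
  obtain ⟨e⟩ := exists_equiv X hav hodd
  obtain ⟨v, hv⟩ := exists_four (K := K)
  let E : Multiplicative (ZMod 2) × (Multiplicative (ZMod 2) × Multiplicative (ZMod 2)) →* ↥X.G1 :=
    (Cen X hav).subtype.comp (e.symm.toMonoidHom.comp (MonoidHom.prodMap (MonoidHom.id _) v))
  have hE : Function.Injective E :=
    Subtype.val_injective.comp (e.symm.injective.comp (Function.injective_id.prodMap hv))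
  have hEc : Nat.card E.range = 8 := by
    rw [← Nat.card_congr (MonoidHom.ofInjective hE).toEquiv]
    simp [Nat.card_prod]
  have hE2 : ∀ x ∈ E.range, x * x = 1 := by
    rintro _ ⟨z, rfl⟩
    rw [← map_mul, elem8, map_one]
  obtain ⟨T, hT⟩ := (IsPGroup.of_card (p := 2) (n := 3) (by rw [hEc]; norm_num)).exists_le_sylow (P := E.range)
  have hle : Nat.card T ≤ 8 := by
    rw [T.card_eq_multiplicity]
    suffices hv3 : (Nat.card ↥X.G1).factorization 2 ≤ 3 from
      (Nat.pow_le_pow_right (by norm_num) hv3).trans_eq (by norm_num)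
    by_contra h
    have h16 : 2 ^ 4 ∣ Nat.card ↥X.G1 :=
      (Nat.pow_dvd_pow 2 (by omega)).trans (Nat.ordProj_dvd _ 2)
    have h16' := h16.trans X.card_G1_dvd
    obtain ⟨k, hk⟩ : ∃ k, Fintype.card K = 8 * k + 3 := by
      refine ⟨Fintype.card K / 8, ?_⟩
      have : Fintype.card K % 8 = 3 := by
        rw [hK, pow_succ, pow_mul, Nat.mul_mod, Nat.pow_mod]
        norm_num
      omega
    rw [hk] at h16'
    have e1 : 8 * k + 3 - 1 = 2 * (4 * k + 1) := by omega
    have e2 : 1 + (8 * k + 3) ^ 3 = 4 * (128 * k ^ 3 + 144 * k ^ 2 + 54 * k + 7) := by ring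
    rw [e1, e2, show 2 * (4 * k + 1) * (8 * k + 3) ^ 3 *
      (4 * (128 * k ^ 3 + 144 * k ^ 2 + 54 * k + 7)) =
      2 ^ 3 * ((4 * k + 1) * (8 * k + 3) ^ 3 * (128 * k ^ 3 + 144 * k ^ 2 + 54 * k + 7)) by ring,
      show (2 : ℕ) ^ 4 = 2 ^ 3 * 2 by norm_num] at h16'
    have h2 := Nat.dvd_of_mul_dvd_mul_left (by norm_num) h16'
    have hodd2 : Odd ((4 * k + 1) * (8 * k + 3) ^ 3 * (128 * k ^ 3 + 144 * k ^ 2 + 54 * k + 7)) :=
      (Odd.mul ⟨2 * k, by ring⟩ (Odd.pow ⟨4 * k + 1, by ring⟩)).mul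
        ⟨64 * k ^ 3 + 72 * k ^ 2 + 27 * k + 3, by ring⟩
    obtain ⟨j, hj⟩ := hodd2
    omega
  have hT' : E.range = (T : Subgroup ↥X.G1) :=
    Subgroup.eq_of_le_of_card_ge hT (by rw [hEc]; exact hle)
  refine ⟨?_, fun x hx => ?_⟩
  · rw [Nat.card_congr (S.equiv T).toEquiv, ← hEc, hT']
  · have h1 : ((S.equiv T) ⟨x, hx⟩ : ↥X.G1) * (S.equiv T) ⟨x, hx⟩ = 1 :=
      hE2 _ (hT'.symm ▸ ((S.equiv T) ⟨x, hx⟩).2)
    have h2 : (S.equiv T) (⟨x, hx⟩ * ⟨x, hx⟩) = 1 := by
      rw [map_mul]; exact Subtype.ext h1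
    exact congrArg Subtype.val ((MulEquiv.map_eq_one_iff _).1 h2)

end Cfsg.Agent.ReeCentralizer17

namespace Cfsg.Agent.ReeCentralizer17

open Cfsg.Lie Cfsg.Agent.ReeInstance17

theorem main {K : Type*} [Field K] [Fintype K] {m : ℕ} (hK : Fintype.card K = 3 ^ (2 * m + 1))
    [CharP K 3] (X : ReeInstance17.Ctx K) (a : ↥X.G1)
    (haH : (a : GL chevG2.Idx K) ∈ chevG2.diagonalSubgroup K) (ha1 : a ≠ 1) (ha2 : a * a = 1) :
    Nonempty (↥(Subgroup.centralizer {a}) ≃*
      Multiplicative (ZMod 2) × Matrix.ProjectiveSpecialLinearGroup (Fin 2) K) ∧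
      ∀ S : Sylow 2 ↥X.G1, Nat.card S = 8 ∧ ∀ x ∈ S, x * x = 1 := by
  have ha : (a : GL chevG2.Idx K) = av X := invol_eq X haH a.2
    (fun h => ha1 (Subtype.ext h)) (congrArg Subtype.val ha2)
  have hav : av X ∈ X.G1 := ha ▸ a.2
  obtain rfl : a = ⟨av X, hav⟩ := Subtype.ext ha
  exact ⟨exists_equiv X hav (hK ▸ Odd.pow ⟨1, rfl⟩), sylow_two X hav hK⟩

end Cfsg.Agent.ReeCentralizer17
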