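import Cfsg.Agent.Lib.CharBasicDecomp
import Cfsg.Agent.Lib.CharBasicInt
import Cfsg.Agent.Lib.CharBasicLinear
import Cfsg.Agent.Lib.CharBasicOrth

/-!
A character bound giving every element as a product of two conjugates of a given element.
-/

set_option autoImplicit false

namespace Cfsg.Agent.ReeCover14Char

open scoped ComplexConjugate
open Cfsg.Agent.CharBasic

variable {G : Type*} [Group G] [Finite G]

theorem card_centralizer_conj (x c : G) :
    Nat.card (Subgroup.centralizer ({c * x * c⁻¹} : Set G)) =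
      Nat.card (Subgroup.centralizer ({x} : Set G)) := by
  refine Nat.card_congr ((MulAut.conj c).toEquiv.subtypeEquiv fun a => ?_).symm
  rw [Subgroup.mem_centralizer_singleton_iff, Subgroup.mem_centralizer_singleton_iff]
  change _ ↔ (c * a * c⁻¹) * (c * x * c⁻¹) = (c * x * c⁻¹) * (c * a * c⁻¹)
  constructor
  · intro h
    calc _ = c * (a * x) * c⁻¹ := by group
      _ = c * (x * a) * c⁻¹ := by rw [h]
      _ = _ := by group
  · intro h
    have h' := congrArg (fun y => c⁻¹ * y * c) h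
    simpa [mul_assoc] using h'

/-- the norm of a character value is bounded by the centralizer -/
theorem norm_sq_le (χ : Cfsg.IrrCharacter G) (g : G) :
    ‖(χ : G → ℂ) g‖ ^ 2 ≤ Nat.card (Subgroup.centralizer ({g} : Set G)) := by
  classical
  have h := CharBasicOrth.sum_irr_mul_conj g g
  rw [if_pos (IsConj.refl g)] at h
  have h2 : ∀ z : ℂ, z * conj z = ((‖z‖ ^ 2 : ℝ) : ℂ) := fun z => by
    rw [Complex.mul_conj']; norm_cast
  simp only [h2, ← Complex.ofReal_natCast] at h
  norm_cast at h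
  rw [← h]
  exact Finset.single_le_sum (f := fun χ : Cfsg.IrrCharacter G => ‖(χ : G → ℂ) g‖ ^ 2)
    (fun _ _ => sq_nonneg _) (Finset.mem_univ χ)

/-- If the centralizers of `x` and `g` are small against the degrees of the nontrivial
characters, then `g` is a product of two conjugates of `x`. -/
theorem exists_mul (x g : G) (d : ℕ)
    (hd : ∀ χ : Cfsg.IrrCharacter G, χ ≠ CharBasicDecomp.trivIrr G →
      ∃ n : ℕ, (χ : G → ℂ) 1 = n ∧ d ≤ n)
    (hb : (Nat.card (Subgroup.centralizer ({x} : Set G)) - 1) ^ 2 *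
      Nat.card (Subgroup.centralizer ({g} : Set G)) < d ^ 2) :
    ∃ u v : G, g = (u * x * u⁻¹) * (v * x * v⁻¹) := by
  classical
  have : Fintype G := Fintype.ofFinite G
  by_contra hcon
  push Not at hcon
  let f : G → ℂ := fun z => if IsConj x z then 1 else 0
  have hf0 : ∀ y, f y * f (y⁻¹ * g) = 0 := by
    intro y
    by_cases h1 : IsConj x y
    · by_cases h2 : IsConj x (y⁻¹ * g)
      · obtain ⟨u, hu⟩ := isConj_iff.mp h1
        obtain ⟨v, hv⟩ := isConj_iff.mp h2
        exact absurd (by rw [hu, hv, mul_inv_cancel_left]) (hcon u v)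
      · rw [show f (y⁻¹ * g) = 0 from if_neg h2, mul_zero]
    · rw [show f y = 0 from if_neg h1, zero_mul]
  set cx := Nat.card (Subgroup.centralizer ({x} : Set G)) with hcx
  have hcls : ∀ z : G, ∑ χ : Cfsg.IrrCharacter G, (χ : G → ℂ) z * conj ((χ : G → ℂ) x) =
      (cx : ℂ) * f z := by
    intro z
    rw [CharBasicOrth.sum_irr_mul_conj]
    by_cases h : IsConj x z
    · obtain ⟨c, hc⟩ := isConj_iff.mp h
      rw [if_pos h.symm]
      simp only [f, if_pos h, mul_one, Nat.cast_inj]
      rw [← hc]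
      exact card_centralizer_conj x c
    · rw [if_neg fun e => h e.symm, show f z = 0 from if_neg h, mul_zero]
  set C : ℂ := ∑ y : G, f y with hC
  have hC0 : C ≠ 0 := by
    have hC' : C = ((Finset.univ.filter (IsConj x)).card : ℂ) := by
      rw [hC]; simp only [f, Finset.sum_boole]
    rw [hC', Nat.cast_ne_zero]
    exact Finset.card_ne_zero.mpr ⟨x, Finset.mem_filter.mpr ⟨Finset.mem_univ _, IsConj.refl x⟩⟩
  have hfc : Cfsg.IsClassFunction G (fun z => f z⁻¹) := by
    intro z h
    simp only [f]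
    congr 1
    refine propext ⟨fun e => e.trans ?_, fun e => e.trans ?_⟩
    · exact isConj_iff.mpr ⟨h⁻¹, by group⟩
    · exact isConj_iff.mpr ⟨h, by group⟩
  have hinner : ∀ χ : Cfsg.IrrCharacter G, ∑ y : G, f y * (χ : G → ℂ) (y⁻¹ * g) =
      C * conj ((χ : G → ℂ) x) * (χ : G → ℂ) g / (χ : G → ℂ) 1 := by
    rintro ⟨χ, n, ρ, hρ, rfl⟩
    have hs := CharBasicInt.sum_smul_rep_eq ρ hfc
    have e1 : ∑ y : G, f y * ρ.character (y⁻¹ * g) = ∑ z : G, f z⁻¹ * ρ.character (z * g) := by
      rw [← Equiv.sum_comp (Equiv.inv G) (fun z => f z⁻¹ * ρ.character (z * g))]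
      simp
    have e2 : ∑ z : G, f z⁻¹ * ρ.character (z * g) =
        LinearMap.trace ℂ _ ((∑ z : G, f z⁻¹ • ρ z) * ρ g) := by
      rw [Finset.sum_mul, map_sum]
      refine Finset.sum_congr rfl fun z _ => ?_
      rw [smul_mul_assoc, map_smul, ← map_mul, smul_eq_mul]
      rfl
    have e3 : ∑ z : G, f z⁻¹ * ρ.character z = C * conj (ρ.character x) := by
      rw [← Equiv.sum_comp (Equiv.inv G), hC, Finset.sum_mul]
      refine Finset.sum_congr rfl fun y _ => ?_
      simp only [Equiv.inv_apply, inv_inv, f]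
      split_ifs with h
      · rw [one_mul, one_mul, ← character_inv,
          apply_eq_of_isConj (isClassFunction_character ρ) (show IsConj x⁻¹ y⁻¹ by
            obtain ⟨c, hc⟩ := isConj_iff.mp h
            exact isConj_iff.mpr ⟨c, by rw [← hc]; group⟩)]
      · simp
    rw [e1, e2, hs, e3, smul_mul_assoc, ← Module.End.one_eq_id, one_mul, map_smul, smul_eq_mul]
    show _ * ρ.character g = _ * ρ.character g / ρ.character 1
    rw [Representation.char_one]
    ring
  have hzero : ∑ χ : Cfsg.IrrCharacter G,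
      conj ((χ : G → ℂ) x) ^ 2 * ((χ : G → ℂ) g / (χ : G → ℂ) 1) = 0 := by
    have h1 : ∑ y : G, f y * ((cx : ℂ) * f (y⁻¹ * g)) = 0 :=
      Finset.sum_eq_zero fun y _ => by rw [mul_left_comm, hf0, mul_zero]
    simp only [← hcls, Finset.mul_sum] at h1
    rw [Finset.sum_comm] at h1
    have h2 : C * (∑ χ : Cfsg.IrrCharacter G,
        conj ((χ : G → ℂ) x) ^ 2 * ((χ : G → ℂ) g / (χ : G → ℂ) 1)) = 0 := by
      rw [Finset.mul_sum, ← h1]
      refine Finset.sum_congr rfl fun χ _ => ?_
      simp only [← mul_assoc]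
      rw [← Finset.sum_mul, hinner χ]
      ring
    exact (mul_eq_zero.mp h2).resolve_left hC0
  -- the trivial character cannot be cancelled by the others
  set t0 := CharBasicDecomp.trivIrr G with ht0
  rw [← Finset.add_sum_erase _ _ (Finset.mem_univ t0)] at hzero
  set S := ∑ χ ∈ Finset.univ.erase t0,
      conj ((χ : G → ℂ) x) ^ 2 * ((χ : G → ℂ) g / (χ : G → ℂ) 1) with hS
  have h1 : conj ((t0 : G → ℂ) x) ^ 2 * ((t0 : G → ℂ) g / (t0 : G → ℂ) 1) = 1 := by
    show conj (1 : ℂ) ^ 2 * ((1 : ℂ) / 1) = 1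
    simp
  rw [h1] at hzero
  have hS1 : ‖S‖ = 1 := by
    rw [eq_neg_of_add_eq_zero_right hzero, norm_neg, norm_one]
  have hsumx : ∑ χ ∈ Finset.univ.erase t0, ‖(χ : G → ℂ) x‖ ^ 2 = (cx : ℝ) - 1 := by
    have h := CharBasicOrth.sum_irr_mul_conj x x
    rw [if_pos (IsConj.refl x)] at h
    have h2 : ∀ z : ℂ, z * conj z = ((‖z‖ ^ 2 : ℝ) : ℂ) := fun z => by
      rw [Complex.mul_conj']; norm_cast
    simp only [h2, ← Complex.ofReal_natCast, ← hcx] at h
    norm_cast at h
    rw [← Finset.add_sum_erase _ _ (Finset.mem_univ t0)] at h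
    have : ‖(t0 : G → ℂ) x‖ ^ 2 = 1 := by
      show ‖(1 : ℂ)‖ ^ 2 = 1
      simp
    rw [this] at h
    linarith
  set cg := Nat.card (Subgroup.centralizer ({g} : Set G)) with hcg
  have hd0 : 0 < d := by
    rcases Nat.eq_zero_or_pos d with h | h
    · rw [h] at hb; simp at hb
    · exact h
  have hle : ‖S‖ ≤ ((cx : ℝ) - 1) * Real.sqrt cg / d := by
    refine (norm_sum_le _ _).trans ?_
    rw [← hsumx, Finset.sum_mul, Finset.sum_div]
    refine Finset.sum_le_sum fun χ hχ => ?_
    obtain ⟨n, hn, hdn⟩ := hd χ (Finset.ne_of_mem_erase hχ)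
    rw [norm_mul, norm_pow, RCLike.norm_conj, norm_div, hn, Complex.norm_natCast, mul_div_assoc]
    refine mul_le_mul_of_nonneg_left ?_ (sq_nonneg _)
    refine div_le_div₀ (Real.sqrt_nonneg _) ?_ (by exact_mod_cast hd0) (by exact_mod_cast hdn)
    exact Real.le_sqrt_of_sq_le (norm_sq_le χ g)
  have hcx1 : (((cx - 1 : ℕ) : ℝ)) = (cx : ℝ) - 1 := by
    rw [Nat.cast_sub (show 1 ≤ cx from Nat.card_pos), Nat.cast_one]
  rw [hS1, ← hcx1, le_div_iff₀ (by exact_mod_cast hd0), one_mul] at hle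
  have hsq := pow_le_pow_left₀ (by positivity) hle 2
  rw [mul_pow, Real.sq_sqrt (by positivity)] at hsq
  exact absurd (by exact_mod_cast hsq) (not_le.2 hb)

end Cfsg.Agent.ReeCover14Char
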