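import Cfsg.Agent.Lib.ReeTori78Base

/-!
Numbers of elements of a given order in a group of small Ree type.
-/

set_option autoImplicit false

namespace Cfsg.Agent.ReeLocal8.ReeData

open Subgroup ReeTools8 ReePSL8

variable {G : Type*} [Group G] [Finite G] (D : ReeData G)
include D

omit D [Finite G] [Group G] in
theorem card_subtype78 (P : G → Prop) : Nat.card {g : G // P g} = {g : G | P g}.ncard :=
  Nat.card_coe_set_eq _

omit D in
theorem ncard_order_cyclic78 (A : Subgroup G) [IsCyclic A] {i : ℕ} (h : i ∣ Nat.card A) :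
    {d : G | d ∈ A ∧ orderOf d = i}.ncard = Nat.totient i := by
  classical
  have := Fintype.ofFinite A
  rw [← card_subtype78, ← IsCyclic.card_orderOf_eq_totient (α := A) (d := i)
    (by rwa [← Nat.card_eq_fintype_card]), ← Fintype.card_subtype, ← Nat.card_eq_fintype_card]
  exact Nat.card_congr
    { toFun := fun d => ⟨⟨d.1, d.2.1⟩, by rw [← Subgroup.orderOf_coe]; exact d.2.2⟩
      invFun := fun d => ⟨d.1.1, d.1.2, by rw [Subgroup.orderOf_coe]; exact d.2⟩
      left_inv := fun _ => rfl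
      right_inv := fun _ => rfl }

theorem count_two78 : Nat.card {g : G // orderOf g = 2} = D.q ^ 2 * (D.q ^ 2 - D.q + 1) := by
  rw [card_subtype78]; exact D.card_involutions

theorem three_orders78 {g : G} (h : 3 ∣ orderOf g) :
    orderOf g = 3 ∨ orderOf g = 6 ∨ orderOf g = 9 := by
  have : Fact (Nat.Prime 3) := ⟨Nat.prime_three⟩
  obtain ⟨k, hk⟩ := exists_prime_pow h
  have h18 : g ^ 18 = 1 := D.pow_18_of_commute (x := g ^ k) (y := g) (k := 1)
    (fun e => by rw [e, orderOf_one] at hk; omega)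
    (by rw [pow_one, ← hk, pow_orderOf_eq_one]) ((Commute.refl g).pow_left k)
  have hd := orderOf_dvd_of_pow_eq_one h18
  have hne18 : orderOf g ≠ 18 := by
    intro e
    have ht : orderOf (g ^ 9) = 2 := by rw [orderOf_pow, e]; norm_num
    have hu : orderOf (g ^ 2) = 9 := by rw [orderOf_pow, e]; norm_num
    have h3 := (D.inv_cent (fun e1 => by rw [e1, orderOf_one] at ht; omega)
      (by rw [← sq, ← ht, pow_orderOf_eq_one])).three (g ^ 2)
      (((Commute.refl g).pow_left 2).pow_right 9) 2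
      (by rw [show 3 ^ 2 = 9 from rfl, ← hu, pow_orderOf_eq_one])
    have := Nat.le_of_dvd (by norm_num) (orderOf_dvd_of_pow_eq_one h3)
    omega
  have hle := Nat.le_of_dvd (by norm_num) hd
  interval_cases orderOf g <;> omega

theorem count_three78 (hU : Nat.card {w : (D.U : Subgroup G) // orderOf w = 3} = D.q ^ 2 - 1) :
    Nat.card {g : G // orderOf g = 3} = (D.q ^ 2 - 1) * (D.q ^ 3 + 1) := by
  obtain ⟨S, hS⟩ : ∃ S : Set G, S = {u : G | u ∈ D.U ∧ orderOf u = 3} := ⟨_, rfl⟩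
  have hScard : Nat.card S = D.q ^ 2 - 1 := by
    rw [← hU, hS]
    exact Nat.card_congr
      { toFun := fun d => ⟨⟨d.1, d.2.1⟩, by rw [← Subgroup.orderOf_coe]; exact d.2.2⟩
        invFun := fun d => ⟨d.1.1, d.1.2, by rw [Subgroup.orderOf_coe]; exact d.2⟩
        left_inv := fun _ => rfl
        right_inv := fun _ => rfl }
  have key := card_conjUnion (normalizer (D.U : Set G)) S
    (fun g hg d hd => by
      rw [hS] at hd ⊢
      exact ⟨D.conj_U hg hd.1, by rw [orderOf_conj]; exact hd.2⟩)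
    (fun g d hd hd' => by
      rw [hS] at hd hd'
      exact D.mem_N_of_conj (fun e => by
        have := hd.2
        rw [e, orderOf_one] at this; omega) hd.1 hd'.1)
  have hF : Nat.card {y : G // ∃ g : G, g⁻¹ * y * g ∈ S} = Nat.card {g : G // orderOf g = 3} := by
    refine Nat.card_congr (Equiv.subtypeEquivRight fun y => ⟨?_, fun h3 => ?_⟩)
    · rintro ⟨x, hx⟩
      rw [hS] at hx
      have := hx.2
      rwa [orderOf_conj'] at this
    · obtain ⟨x, hx⟩ := D.exists_conj_U (x := y) (k := 1)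
        (by rw [pow_one, ← h3, pow_orderOf_eq_one])
      exact ⟨x, by rw [hS]; exact ⟨hx, by rw [orderOf_conj']; exact h3⟩⟩
  rw [hF, hScard, D.card_N, D.card_eq, mul_assoc, mul_comm] at key
  exact Nat.eq_of_mul_eq_mul_left D.card_pos_aux (key.trans (by ring))

theorem count_six78 :
    Nat.card {g : G // orderOf g = 6} = D.q ^ 2 * (D.q - 1) * (D.q ^ 3 + 1) := by
  classical
  obtain ⟨N, hN⟩ : ∃ N, N = normalizer (D.U : Set G) := ⟨_, rfl⟩
  obtain ⟨S, hS⟩ : ∃ S : Set G, S = {g : G | g ∈ N ∧ orderOf g = 6} := ⟨_, rfl⟩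
  have hU2 : ∀ {g : G}, g ∈ N → orderOf g = 6 → g ^ 2 ∈ D.U ∧ g ^ 2 ≠ 1 := fun {g} hg h6 => by
    have h3 : orderOf (g ^ 2) = 3 := by rw [orderOf_pow, h6]; norm_num
    exact ⟨mem_syl_of_pow (k := 1) (by rw [pow_one, ← h3, pow_orderOf_eq_one]) (hN ▸ pow_mem hg 2),
      fun e => by rw [e, orderOf_one] at h3; omega⟩
  have key := card_conjUnion N S
    (fun g hg d hd => by
      rw [hS] at hd ⊢
      exact ⟨mul_mem (mul_mem hg hd.1) (inv_mem hg), by rw [orderOf_conj]; exact hd.2⟩)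
    (fun g d hd hd' => by
      rw [hS] at hd hd'
      obtain ⟨h1, h2⟩ := hU2 hd.1 hd.2
      obtain ⟨h3, -⟩ := hU2 hd'.1 hd'.2
      rw [hN]
      exact D.mem_N_of_conj h2 h1 (by rw [← conj_pow]; exact h3))
  have hF : Nat.card {y : G // ∃ g : G, g⁻¹ * y * g ∈ S} = Nat.card {g : G // orderOf g = 6} := by
    refine Nat.card_congr (Equiv.subtypeEquivRight fun y => ⟨?_, fun h6 => ?_⟩)
    · rintro ⟨x, hx⟩
      rw [hS] at hx
      have := hx.2
      rwa [orderOf_conj'] at this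
    · have h3 : orderOf (y ^ 2) = 3 := by rw [orderOf_pow, h6]; norm_num
      obtain ⟨x, -, hxN, -⟩ := D.exists_conj_N (x := y ^ 2) (y := y) (k := 1)
        (fun e => by rw [e, orderOf_one] at h3; omega)
        (by rw [pow_one, ← h3, pow_orderOf_eq_one]) ((Commute.refl y).pow_left 2)
      exact ⟨x, by rw [hS]; exact ⟨hN ▸ hxN, by rw [orderOf_conj']; exact h6⟩⟩
  -- involutions of `N(U)` and 3-elements centralizing one
  obtain ⟨I, hI⟩ : ∃ I : Set G, I = {y : G | ∃ v ∈ (D.U : Subgroup G), v * D.a * v⁻¹ = y} :=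
    ⟨_, rfl⟩
  have hI2 : I.ncard = D.q ^ 2 := by
    have h := card_orbit_mul (D.U : Subgroup G) D.a
    rw [D.card_centU, D.card_U] at h
    rw [hI]
    refine Nat.eq_of_mul_eq_mul_right (show 0 < D.q by have := D.q_ge; omega) ?_
    rw [← pow_succ]
    exact h
  obtain ⟨C, hC⟩ : ∃ C : Subgroup G, C = (D.U : Subgroup G) ⊓ centralizer ({D.a} : Set G) :=
    ⟨_, rfl⟩
  have hCq : Nat.card C = D.q := hC ▸ D.card_centU
  have hch : ∀ t : I, ∃ v ∈ (D.U : Subgroup G), v * D.a * v⁻¹ = t.1 := fun t =>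
    (Set.ext_iff.1 hI t.1).1 t.2
  choose w hwU hwa using hch
  have hc6 : ∀ c ∈ C, c ≠ 1 → orderOf (c * D.a) = 6 ∧ (c * D.a) ^ 3 = D.a := by
    intro c hc hc1
    rw [hC] at hc
    obtain ⟨k, hk⟩ := D.U_pow hc.1
    have hca : Commute c D.a := mem_centralizer_singleton_iff.1 hc.2
    have h3 : c ^ 3 = 1 := D.cent.three c hca k hk
    have ho : orderOf c = 3 := orderOf_eq_prime h3 hc1
    refine ⟨?_, ?_⟩
    · rw [hca.orderOf_mul_eq_mul_orderOf_of_coprime (by rw [ho, D.orderOf_a]; norm_num), ho,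
        D.orderOf_a]
    · rw [hca.mul_pow, h3, one_mul, pow_succ, sq, D.a_sq, one_mul]
  let f : I × {c : C // c ≠ 1} → S := fun p =>
    ⟨w p.1 * (p.2.1.1 * D.a) * (w p.1)⁻¹, by
      have hc := p.2.1.2
      have hc' : (p.2.1.1 : G) ∈ D.U := ((SetLike.ext_iff.1 hC _).1 hc).1
      rw [hS]
      refine ⟨hN ▸ mul_mem (mul_mem (D.U_le_N (hwU _))
        (mul_mem (D.U_le_N hc') (D.H_le D.a_mem))) (inv_mem (D.U_le_N (hwU _))), ?_⟩
      rw [orderOf_conj]
      exact (hc6 _ hc fun e => p.2.2 (Subtype.ext e)).1⟩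
  have hcube : ∀ p : I × {c : C // c ≠ 1}, (f p).1 ^ 3 = p.1.1 := fun p => by
    change (w p.1 * (p.2.1.1 * D.a) * (w p.1)⁻¹) ^ 3 = _
    rw [conj_pow, (hc6 _ p.2.1.2 fun e => p.2.2 (Subtype.ext e)).2, hwa]
  have hbij : Function.Bijective f := by
    constructor
    · intro p p' e
      have h1 : p.1 = p'.1 := Subtype.ext (by rw [← hcube p, ← hcube p', e])
      obtain ⟨t, c⟩ := p
      obtain ⟨t', c'⟩ := p'
      dsimp only at h1
      subst h1
      have h2 := congrArg Subtype.val e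
      simp only [f, mul_left_inj, mul_right_inj] at h2
      exact Prod.ext rfl (Subtype.ext (Subtype.ext h2))
    · rintro ⟨g, hg⟩
      rw [hS] at hg
      obtain ⟨hgN, h6⟩ := hg
      have h2 : orderOf (g ^ 3) = 2 := by rw [orderOf_pow, h6]; norm_num
      have h3 : orderOf (g ^ 4) = 3 := by rw [orderOf_pow, h6]; norm_num
      obtain ⟨v, hv, hva⟩ := D.inv_conj_in_N (t := g ^ 3) (hN ▸ pow_mem hgN 3)
        (fun e => by rw [e, orderOf_one] at h2; omega)
        (by rw [← sq, ← h2, pow_orderOf_eq_one])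
      have ht : g ^ 3 ∈ I := hI ▸ ⟨v, hv, hva⟩
      obtain ⟨u, hu⟩ : ∃ u, u = w ⟨_, ht⟩ := ⟨_, rfl⟩
      have hua : u * D.a * u⁻¹ = g ^ 3 := hu ▸ hwa ⟨_, ht⟩
      have hcU : u⁻¹ * g ^ 4 * u ∈ D.U := D.conj_U' (D.U_le_N (hu ▸ hwU _))
        (mem_syl_of_pow (k := 1) (by rw [pow_one, ← h3, pow_orderOf_eq_one]) (hN ▸ pow_mem hgN 4))
      have hcC : u⁻¹ * g ^ 4 * u ∈ C := by
        rw [hC]
        refine ⟨hcU, mem_centralizer_singleton_iff.2 ?_⟩
        calc u⁻¹ * g ^ 4 * u * D.a = u⁻¹ * (g ^ 4 * (u * D.a * u⁻¹)) * u := by group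
          _ = u⁻¹ * ((u * D.a * u⁻¹) * g ^ 4) * u := by
            rw [hua, ← pow_add, ← pow_add]
          _ = D.a * (u⁻¹ * g ^ 4 * u) := by group
      have hc1 : u⁻¹ * g ^ 4 * u ≠ 1 := fun e => by
        rw [← orderOf_conj' u, e, orderOf_one] at h3; omega
      refine ⟨(⟨_, ht⟩, ⟨⟨_, hcC⟩, fun e => hc1 (congrArg Subtype.val e)⟩), Subtype.ext ?_⟩
      simp only [f, ← hu]
      calc u * (u⁻¹ * g ^ 4 * u * D.a) * u⁻¹ = g ^ 4 * (u * D.a * u⁻¹) := by group
        _ = g := by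
          rw [hua, ← pow_add, show 4 + 3 = orderOf g + 1 by omega, pow_succ, pow_orderOf_eq_one,
            one_mul]
  have hScard : Nat.card S = D.q ^ 2 * (D.q - 1) := by
    rw [← Nat.card_eq_of_bijective f hbij, Nat.card_prod, Nat.card_coe_set_eq, hI2]
    congr 1
    have := Fintype.ofFinite C
    rw [Nat.card_eq_fintype_card, Fintype.card_subtype_compl, Fintype.card_subtype_eq,
      ← Nat.card_eq_fintype_card, hCq]
  rw [hF, hScard, hN, D.card_N, D.card_eq, mul_assoc (D.q ^ 3 * (D.q - 1)), mul_comm] at key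
  exact Nat.eq_of_mul_eq_mul_left D.card_pos_aux (key.trans (by ring))

theorem count_nine78 (hU : Nat.card {w : (D.U : Subgroup G) // orderOf w = 3} = D.q ^ 2 - 1) :
    Nat.card {g : G // orderOf g = 9} = D.q ^ 2 * (D.q - 1) * (D.q ^ 3 + 1) := by
  have e : {g : G | 3 ∣ orderOf g} =
      {g : G | orderOf g = 3} ∪ {g : G | orderOf g = 6} ∪ {g : G | orderOf g = 9} := by
    ext g
    simp only [Set.mem_union, Set.mem_ofPred_eq]
    constructor
    · intro h
      rcases D.three_orders78 h with h | h | h <;> simp [h]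
    · rintro ((h | h) | h) <;> rw [h] <;> norm_num
  have d1 : Disjoint {g : G | orderOf g = 3} {g : G | orderOf g = 6} := by
    rw [Set.disjoint_left]
    intro g hg hg'
    simp only [Set.mem_ofPred_eq] at hg hg'
    omega
  have d2 : Disjoint ({g : G | orderOf g = 3} ∪ {g : G | orderOf g = 6})
      {g : G | orderOf g = 9} := by
    rw [Set.disjoint_left]
    intro g hg hg'
    simp only [Set.mem_union, Set.mem_ofPred_eq] at hg hg'
    omega
  have ht := D.card_three_singular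
  rw [e, Set.ncard_union_eq d2 (Set.toFinite _) (Set.toFinite _),
    Set.ncard_union_eq d1 (Set.toFinite _) (Set.toFinite _), ← card_subtype78, ← card_subtype78,
    ← card_subtype78, D.count_three78 hU, D.count_six78] at ht
  have hq := D.q_ge
  have h1 : 1 ≤ D.q ^ 2 := Nat.one_le_pow _ _ (by omega)
  zify [h1, show 1 ≤ D.q by omega] at ht ⊢
  linear_combination ht

theorem cancel_minus78 {X i : ℕ}
    (h : X * (2 * (D.q - 1)) = Nat.card G * Nat.totient i) :
    2 * X = Nat.totient i * D.q ^ 3 * (D.q ^ 3 + 1) := by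
  rw [D.card_eq] at h
  refine Nat.eq_of_mul_eq_mul_right (show 0 < D.q - 1 by have := D.q_ge; omega) ?_
  linear_combination h

theorem count_minus78 {i : ℕ} (hi : 2 < i) (hd : i ∣ D.q - 1) :
    2 * Nat.card {g : G // orderOf g = i} = Nat.totient i * D.q ^ 3 * (D.q ^ 3 + 1) := by
  obtain ⟨h, hh, p, hp, hp2, ho⟩ := D.exists_H_prime
  have key := card_conj_torus D.H (fun g => orderOf g = i)
    (fun x d hd => by rw [orderOf_conj]; exact hd)
    (fun d hd hd2 => D.centralizer_H hd (by rw [sq]; exact two_lt_orderOf.1 (hd2 ▸ hi)))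
    (fun g hg => D.conj_H_of_order78 (hg ▸ hi) (hg ▸ hd))
  have := D.H_cyclic
  rw [(D.H_prime hp hh ho hp2).2.2, ncard_order_cyclic78 D.H (by rw [D.card_H]; exact hd),
    ← card_subtype78] at key
  exact D.cancel_minus78 key

theorem count_plus78 {i : ℕ} (hi : 1 < i) (hd : i ∣ (D.q + 1) / 4) :
    6 * Nat.card {g : G // orderOf g = i} =
        Nat.totient i * D.q ^ 3 * (D.q - 1) * (D.q ^ 2 - D.q + 1) ∧
      2 * Nat.card {g : G // orderOf g = 2 * i} =
        Nat.totient i * D.q ^ 3 * (D.q - 1) * (D.q ^ 2 - D.q + 1) := by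
  obtain ⟨M, A, hM⟩ := D.exists_plusTorus
  have hodd : Odd i :=
    (Nat.odd_iff.2 (show (D.q + 1) / 4 % 2 = 1 by have := D.q_mod8; omega)).of_dvd_nat hd
  have := hM.A_cyclic
  have hA : {d : G | d ∈ A ∧ orderOf d = i}.ncard = Nat.totient i :=
    ncard_order_cyclic78 A (hM.card_A ▸ hd)
  have hq := D.q_ge
  constructor
  · have key := card_conj_torus M (fun g => orderOf g = i)
      (fun x d hd => by rw [orderOf_conj]; exact hd)
      (fun d hd hd2 => hM.cent d hd (not_sq_one78 (fun e => by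
        rw [e, orderOf_one] at hd2; omega) (hd2 ▸ hodd)))
      (fun g hg => by
        obtain ⟨x, hx⟩ := D.conj_A_of_order78 hM (g := g)
          (fun e => by rw [e, orderOf_one] at hg; omega) (hg ▸ hd)
        exact ⟨x, hM.A_le hx⟩)
    have e : {d : G | d ∈ M ∧ orderOf d = i} = {d : G | d ∈ A ∧ orderOf d = i} := by
      ext d
      exact ⟨fun h => ⟨D.plus_mem_A78 hM h.1 (h.2 ▸ hodd), h.2⟩, fun h => ⟨hM.A_le h.1, h.2⟩⟩
    rw [hM.card_N, e, hA, ← card_subtype78, D.card_eq_N] at key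
    refine Nat.eq_of_mul_eq_mul_right (show 0 < D.q + 1 by omega) ?_
    linear_combination key
  · have h4 : 4 ∣ D.q + 1 := by have := D.q_mod8; omega
    have key := card_conj_torus M (fun g => orderOf g = 2 * i)
      (fun x d hd => by rw [orderOf_conj]; exact hd)
      (fun d hd hd2 => hM.cent d hd (two_lt_orderOf.1 (by omega)))
      (fun g hg => by
        obtain ⟨p, hp, hpd⟩ := Nat.exists_prime_and_dvd (show i ≠ 1 by omega)
        exact hM.conj_into g p hp (hpd.trans hd) (hg ▸ hpd.trans (dvd_mul_left i 2)))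
    obtain ⟨T, hT⟩ : ∃ T : Set G, T = {d : G | d ∈ M ∧ orderOf d = 2} := ⟨_, rfl⟩
    have hT3 : T.ncard = 3 := by
      have e : T = {d : G | d ∈ M ∧ d * d = 1} \ {1} := by
        rw [hT]
        ext d
        constructor
        · rintro ⟨hd, h2⟩
          exact ⟨⟨hd, by rw [← sq, ← h2, pow_orderOf_eq_one]⟩, fun e => by
            rw [Set.mem_singleton_iff] at e
            rw [e, orderOf_one] at h2; omega⟩
        · rintro ⟨⟨hd, h2⟩, h1⟩
          exact ⟨hd, orderOf_eq_prime (by rw [sq, h2]) h1⟩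
      rw [e, Set.ncard_sdiff (Set.singleton_subset_iff.2
        (show (1 : G) ∈ {d : G | d ∈ M ∧ d * d = 1} from ⟨one_mem M, mul_one 1⟩)) (Set.toFinite _),
        hM.card_inv, Set.ncard_singleton]
    have hinner : {d : G | d ∈ M ∧ orderOf d = 2 * i}.ncard = 3 * Nat.totient i := by
      rw [← hT3, ← hA, ← Set.ncard_prod]
      symm
      refine Set.ncard_congr (fun p _ => p.1 * p.2) ?_ ?_ ?_
      · rintro ⟨v, a⟩ ⟨hv, ha, hao⟩
        rw [hT] at hv
        have hc : Commute v a := D.plus_comm78 hM hv.1 (hM.A_le ha)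
        refine ⟨mul_mem hv.1 (hM.A_le ha), ?_⟩
        rw [hc.orderOf_mul_eq_mul_orderOf_of_coprime
          (by rw [hv.2, hao]; exact Nat.coprime_two_left.2 hodd), hv.2, hao]
      · rintro ⟨v, a⟩ ⟨v', a'⟩ ⟨hv, ha, hao⟩ ⟨hv', ha', hao'⟩ e
        rw [hT] at hv hv'
        dsimp only at e
        have hpow : ∀ x y : G, x ∈ M → y ∈ M → orderOf x = 2 → orderOf y = i →
            (x * y) ^ i = x := fun x y hx hy hxo hyo => by
          obtain ⟨j, hj⟩ := hodd
          rw [Commute.mul_pow (D.plus_comm78 hM hx hy), ← hyo, pow_orderOf_eq_one, mul_one, hyo, hj,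
            pow_succ, pow_mul, ← hxo, pow_orderOf_eq_one, one_pow, one_mul]
        have hvv : v = v' := by
          rw [← hpow v a hv.1 (hM.A_le ha) hv.2 hao, e, hpow v' a' hv'.1 (hM.A_le ha') hv'.2 hao']
        subst hvv
        rw [mul_left_cancel e]
      · rintro d ⟨hd', hdo⟩
        have ho1 : orderOf (d ^ i) = 2 := by
          rw [orderOf_pow, hdo, Nat.gcd_eq_right (dvd_mul_left i 2),
            Nat.mul_div_cancel _ (by omega)]
        have hev : 2 ∣ i + 1 := by
          obtain ⟨j, rfl⟩ := hodd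
          omega
        have ho2 : orderOf (d ^ (i + 1)) = i := by
          obtain ⟨j, hj⟩ := hev
          have hco : (2 * i).gcd (i + 1) = 2 := by
            rw [hj, Nat.gcd_mul_left,
              show i.gcd j = 1 from Nat.eq_one_of_dvd_coprimes
                (show Nat.Coprime i (i + 1) by simp) (Nat.gcd_dvd_left i j)
                (hj ▸ dvd_mul_of_dvd_right (Nat.gcd_dvd_right i j) 2)]
          rw [orderOf_pow, hdo, hco, Nat.mul_div_cancel_left _ two_pos]
        have hodd' : Odd (orderOf (d ^ (i + 1))) := by rw [ho2]; exact hodd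
        refine ⟨(d ^ i, d ^ (i + 1)), ⟨hT ▸ ⟨pow_mem hd' i, ho1⟩,
          D.plus_mem_A78 hM (pow_mem hd' _) hodd', ho2⟩, ?_⟩
        dsimp only
        rw [← pow_add, show i + (i + 1) = orderOf d + 1 by omega, pow_succ, pow_orderOf_eq_one,
          one_mul]
    rw [hM.card_N, hinner, ← card_subtype78, D.card_eq_N] at key
    refine Nat.eq_of_mul_eq_mul_right (show 0 < D.q + 1 by omega) ?_
    refine Nat.eq_of_mul_eq_mul_right (show 0 < 3 by norm_num) ?_
    linear_combination key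

theorem pair_prod78 : (D.q - 3 ^ (D.m + 1) + 1) * (D.q + 3 ^ (D.m + 1) + 1) =
    D.q ^ 2 - D.q + 1 := by
  have hr : 3 ^ (D.m + 1) ≤ D.q := by
    rw [D.q_eq]; exact Nat.pow_le_pow_right (by norm_num) (by omega)
  have hr2 : 3 ^ (D.m + 1) * 3 ^ (D.m + 1) = 3 * D.q := by
    rw [D.q_eq, ← pow_add, ← pow_succ']; ring_nf
  zify [hr, Nat.le_self_pow two_ne_zero D.q] at hr2 ⊢
  linear_combination -hr2

theorem count_hall78 {A : Subgroup G} (hA : HallTorus D.q A 6) {b : ℕ}
    (hab : Nat.card A * b = D.q ^ 2 - D.q + 1) {i : ℕ} (hi : 1 < i) (hd : i ∣ Nat.card A) :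
    6 * Nat.card {g : G // orderOf g = i} = Nat.totient i * D.q ^ 3 * (D.q ^ 2 - 1) * b := by
  have key := card_conj_torus A (fun g => orderOf g = i)
    (fun x d hd => by rw [orderOf_conj]; exact hd)
    (fun d hd hd2 => hA.cent d hd (fun e => by rw [e, orderOf_one] at hd2; omega))
    (fun g hg => D.conj_hall_of_order78 hA (fun e => by rw [e, orderOf_one] at hg; omega) (hg ▸ hd))
  have := hA.cyclic
  rw [hA.card_N, ncard_order_cyclic78 A hd, ← card_subtype78, D.card_eq_N, ← hab] at key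
  refine Nat.eq_of_mul_eq_mul_right (show 0 < Nat.card A from Nat.card_pos) ?_
  rw [sq_sub_one]
  linear_combination key

theorem counts_hall78 {i : ℕ} (hi : 1 < i) :
    (i ∣ D.q - 3 ^ (D.m + 1) + 1 → 6 * Nat.card {g : G // orderOf g = i} =
      Nat.totient i * D.q ^ 3 * (D.q ^ 2 - 1) * (D.q + 3 ^ (D.m + 1) + 1)) ∧
    (i ∣ D.q + 3 ^ (D.m + 1) + 1 → 6 * Nat.card {g : G // orderOf g = i} =
      Nat.totient i * D.q ^ 3 * (D.q ^ 2 - 1) * (D.q - 3 ^ (D.m + 1) + 1)) := by
  obtain ⟨A, B, hA, hB, hcA, hcB⟩ := D.exists_hall_pair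
  refine ⟨fun h => D.count_hall78 hA ?_ hi (hcA ▸ h), fun h => D.count_hall78 hB ?_ hi (hcB ▸ h)⟩
  · rw [hcA]; exact D.pair_prod78
  · rw [hcB, mul_comm]; exact D.pair_prod78

end Cfsg.Agent.ReeLocal8.ReeData
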