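import Cfsg.Agent.Lib.ReeSpectrum8
import Cfsg.Agent.Lib.ReeTori78Counts
import Cfsg.Agent.Lib.CharBasicOrth

/-!
Classes of regular semisimple elements and centralizer bounds in a group of small Ree type.
-/

set_option autoImplicit false

namespace Cfsg.Agent.ReeCover14Classes

open Subgroup Cfsg.Agent.ReeLocal8 Cfsg.Agent.ReePSL8

variable {G : Type*} [Group G] [Finite G] (D : ReeData G)

omit [Finite G] in
/-- the elements of order `> 2` prime to three -/
def RS (g : G) : Prop := 2 < orderOf g ∧ ¬ 3 ∣ orderOf g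

theorem classes_mul (S : Set G) (hS : ∀ x d, d ∈ S → x * d * x⁻¹ ∈ S) (n : ℕ)
    (hn : ∀ g ∈ S, Nat.card (centralizer ({g} : Set G)) = n) :
    S.ncard * n = (ConjClasses.mk '' S).ncard * Nat.card G := by
  classical
  have : Fintype G := Fintype.ofFinite G
  rw [Set.ncard_eq_toFinset_card', Set.ncard_eq_toFinset_card', Set.toFinset_image,
    Finset.card_eq_sum_card_image ConjClasses.mk S.toFinset, Finset.sum_mul,
    ← smul_eq_mul, ← Finset.sum_const]
  refine Finset.sum_congr rfl fun c hc => ?_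
  obtain ⟨g, hg, rfl⟩ := Finset.mem_image.1 hc
  rw [Set.mem_toFinset] at hg
  have h := CharBasicOrth.card_conj_mul_card_centralizer g
  rw [hn g hg] at h
  refine Eq.trans ?_ h
  congr 1
  rw [Nat.card_eq_fintype_card, Fintype.card_subtype]
  congr 1
  ext y
  simp only [Finset.mem_filter, Set.mem_toFinset, Finset.mem_univ, true_and,
    ConjClasses.mk_eq_mk_iff_isConj]
  refine ⟨fun h => h.2.symm, fun h => ⟨?_, h.symm⟩⟩
  obtain ⟨c, rfl⟩ := isConj_iff.1 h
  exact hS c g hg

omit [Finite G] in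
theorem card_cent_conj (x c : G) :
    Nat.card (centralizer ({c * x * c⁻¹} : Set G)) = Nat.card (centralizer ({x} : Set G)) := by
  refine Nat.card_congr ((MulAut.conj c).toEquiv.subtypeEquiv fun a => ?_).symm
  rw [mem_centralizer_singleton_iff, mem_centralizer_singleton_iff]
  change _ ↔ (c * a * c⁻¹) * (c * x * c⁻¹) = (c * x * c⁻¹) * (c * a * c⁻¹)
  constructor
  · intro h
    calc _ = c * (a * x) * c⁻¹ := by group
      _ = c * (x * a) * c⁻¹ := by rw [h]
      _ = _ := by group
  · intro h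
    have h' := congrArg (fun y => c⁻¹ * y * c) h
    simpa [mul_assoc] using h'

omit [Finite G] in
theorem RS.conj {g : G} (x : G) (h : RS g) : RS (x * g * x⁻¹) := by
  rwa [RS, ReeData.orderOf_conj]

include D

theorem three_le_q : 3 ≤ D.q := by have := D.q_ge; omega

theorem r_le_q : 3 ^ (D.m + 1) ≤ D.q := by
  rw [D.q_eq]; exact Nat.pow_le_pow_right (by norm_num) (by omega)

/-- the classes of regular semisimple elements are at most `q - 2` and their centralizers are small -/
theorem rs_classes :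
    (ConjClasses.mk '' {g : G | RS g}).ncard ≤ D.q - 2 ∧
      ∀ g : G, RS g → Nat.card (centralizer ({g} : Set G)) ≤ D.q + 3 ^ (D.m + 1) + 1 := by
  classical
  have hq := D.q_ge
  have hr := r_le_q D
  have hr1 : 1 ≤ 3 ^ (D.m + 1) := Nat.one_le_pow _ _ (by norm_num)
  have h8 := D.q_mod8
  obtain ⟨M, A', hM⟩ := D.exists_plusTorus
  obtain ⟨A, B, hA, hB, hcA, hcB⟩ := D.exists_hall_pair
  -- the four families
  obtain ⟨Pm, hPm⟩ : ∃ S : Set G, S = {g : G | orderOf g ∣ D.q - 1 ∧ 2 < orderOf g} := ⟨_, rfl⟩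
  obtain ⟨Pp, hPp⟩ : ∃ S : Set G, S = {g : G | orderOf g ∣ (D.q + 1) / 2 ∧ 2 < orderOf g} := ⟨_, rfl⟩
  obtain ⟨Pa, hPa⟩ : ∃ S : Set G, S = {g : G | g ≠ 1 ∧ orderOf g ∣ Nat.card A} := ⟨_, rfl⟩
  obtain ⟨Pb, hPb⟩ : ∃ S : Set G, S = {g : G | g ≠ 1 ∧ orderOf g ∣ Nat.card B} := ⟨_, rfl⟩
  have inv : ∀ (P : ℕ → Prop) (x d : G), P (orderOf d) → P (orderOf (x * d * x⁻¹)) := fun P x d h => by
    rwa [ReeData.orderOf_conj]
  -- centralizers
  have cm : ∀ g ∈ Pm, Nat.card (centralizer ({g} : Set G)) = D.q - 1 := by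
    intro g hg
    rw [hPm] at hg
    obtain ⟨hd, h2⟩ := hg
    obtain ⟨x, hx⟩ : ∃ x, x * g * x⁻¹ ∈ D.H := by
      obtain ⟨e, o, ho', heq⟩ := Nat.exists_eq_two_pow_mul_odd (orderOf_pos g).ne'
      rcases eq_or_ne o 1 with rfl | hne
      · exfalso
        rw [mul_one] at heq
        have := D.two_elem_sq (k := e) (heq ▸ pow_orderOf_eq_one g)
        exact ReeData.two_lt_orderOf.1 h2 (by rw [← sq, this])
      · obtain ⟨s, hs, hsd⟩ := Nat.exists_prime_and_dvd hne
        have hsg := hsd.trans (Dvd.intro_left _ heq.symm)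
        refine D.conj_into_H hs ?_ (hsg.trans hd) hsg
        rintro rfl
        obtain ⟨t, ht⟩ := ho'
        omega
    rw [← card_cent_conj g x, D.centralizer_H hx (by
      rw [sq]; exact ReeData.two_lt_orderOf.1 (by rwa [ReeData.orderOf_conj])), D.card_H]
  have cp : ∀ g ∈ Pp, Nat.card (centralizer ({g} : Set G)) = D.q + 1 := by
    intro g hg
    rw [hPp] at hg
    obtain ⟨hd, h2⟩ := hg
    have hdvd : orderOf (g * g) ∣ (D.q + 1) / 4 := by
      rw [← sq]
      apply orderOf_dvd_of_pow_eq_one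
      rw [← pow_mul, show 2 * ((D.q + 1) / 4) = (D.q + 1) / 2 by omega]
      exact orderOf_dvd_iff_pow_eq_one.1 hd
    obtain ⟨r, hr, hrd⟩ := Nat.exists_prime_and_dvd
      (fun e => ReeData.two_lt_orderOf.1 h2 (orderOf_eq_one_iff.1 e) : orderOf (g * g) ≠ 1)
    obtain ⟨x, hx⟩ := hM.conj_into g r hr (hrd.trans hdvd)
      (hrd.trans (by rw [← sq]; exact orderOf_pow_dvd 2))
    rw [← card_cent_conj g x, hM.cent _ hx (ReeData.two_lt_orderOf.1 (by rwa [ReeData.orderOf_conj])),
      hM.card_M]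
  have ch : ∀ (T : Subgroup G), ReeData.HallTorus D.q T 6 → ∀ g : G, g ≠ 1 → orderOf g ∣ Nat.card T →
      Nat.card (centralizer ({g} : Set G)) = Nat.card T := by
    intro T hT g h1 hd
    obtain ⟨x, hx⟩ := D.conj_hall_of_order78 hT h1 hd
    rw [← card_cent_conj g x, hT.cent _ hx (fun e => h1 (conj_eq_one_iff.1 e))]
  have ca : ∀ g ∈ Pa, Nat.card (centralizer ({g} : Set G)) = Nat.card A := fun g hg => by
    rw [hPa] at hg; exact ch A hA g hg.1 hg.2
  have cb : ∀ g ∈ Pb, Nat.card (centralizer ({g} : Set G)) = Nat.card B := fun g hg => by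
    rw [hPb] at hg; exact ch B hB g hg.1 hg.2
  -- they cover
  have cover : {g : G | RS g} ⊆ Pm ∪ Pp ∪ Pa ∪ Pb := by
    rintro g ⟨h2, h3⟩
    rcases D.class_cover g with h | h | h | h | h | h
    · omega
    · exact absurd h h3
    · omega
    · exact Or.inl (Or.inl (Or.inl (hPm ▸ h)))
    · exact Or.inl (Or.inl (Or.inr (hPp ▸ h)))
    · have hne : g ≠ 1 := fun e => by rw [e, orderOf_one] at h2; omega
      obtain ⟨p, hp, hpg⟩ := Nat.exists_prime_and_dvd
        (fun e => hne (orderOf_eq_one_iff.1 e) : orderOf g ≠ 1)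
      have hpN := hpg.trans h
      rw [← D.pair_prod78, ← hcA, ← hcB] at hpN
      rcases (Nat.Prime.dvd_mul hp).1 hpN with hpA | hpB
      · obtain ⟨x, hx⟩ := hA.conj_into g p hp hpA hpg
        have := Subgroup.orderOf_dvd_natCard _ hx
        rw [ReeData.orderOf_conj] at this
        exact Or.inl (Or.inr (hPa ▸ ⟨hne, this⟩))
      · obtain ⟨x, hx⟩ := hB.conj_into g p hp hpB hpg
        have := Subgroup.orderOf_dvd_natCard _ hx
        rw [ReeData.orderOf_conj] at this
        exact Or.inr (hPb ▸ ⟨hne, this⟩)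
  refine ⟨?_, fun g hg => ?_⟩
  swap
  · rcases cover hg with ((h | h) | h) | h
    · rw [cm g h]; omega
    · rw [cp g h]; omega
    · rw [ca g h, hcA]; omega
    · rw [cb g h, hcB]
  have hG : 0 < Nat.card G := Nat.card_pos
  have em : (ConjClasses.mk '' Pm).ncard * 2 = D.q - 3 := by
    have h := classes_mul Pm (fun x d hd => by
      rw [hPm] at hd ⊢; exact inv (fun k => k ∣ D.q - 1 ∧ 2 < k) x d hd) _ cm
    have h2 := D.card_minus
    rw [← hPm] at h2
    refine Nat.eq_of_mul_eq_mul_left hG ?_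
    rw [← h2, ← mul_assoc, mul_comm (Nat.card G), ← h]
    ring
  have ep : (ConjClasses.mk '' Pp).ncard * 6 = D.q - 3 := by
    have h := classes_mul Pp (fun x d hd => by
      rw [hPp] at hd ⊢; exact inv (fun k => k ∣ (D.q + 1) / 2 ∧ 2 < k) x d hd) _ cp
    have h2 := D.card_plus
    rw [← hPp] at h2
    refine Nat.eq_of_mul_eq_mul_left hG ?_
    rw [← h2, ← mul_assoc, mul_comm (Nat.card G), ← h]
    ring
  have eh : ∀ (T : Subgroup G), ReeData.HallTorus D.q T 6 → ∀ (P : Set G),
      P = {g : G | g ≠ 1 ∧ orderOf g ∣ Nat.card T} →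
      (ConjClasses.mk '' P).ncard * 6 = Nat.card T - 1 := by
    intro T hT P hP
    have h := classes_mul P (fun x d hd => by
      rw [hP] at hd ⊢
      exact ⟨fun e => hd.1 (conj_eq_one_iff.1 e), by rw [ReeData.orderOf_conj]; exact hd.2⟩) _
      (fun g hg => by rw [hP] at hg; exact ch T hT g hg.1 hg.2)
    have h2 := D.card_family hT
    rw [← hP] at h2
    refine Nat.eq_of_mul_eq_mul_left hG ?_
    rw [← h2, ← mul_assoc, mul_comm (Nat.card G), ← h]
    ring
  have ea := eh A hA Pa hPa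
  have eb := eh B hB Pb hPb
  rw [hcA] at ea
  rw [hcB] at eb
  have hle := Set.ncard_le_ncard (Set.image_mono (f := ConjClasses.mk) cover) (Set.toFinite _)
  rw [Set.image_union, Set.image_union, Set.image_union] at hle
  have := hle.trans ((Set.ncard_union_le _ _).trans (Nat.add_le_add_right ((Set.ncard_union_le _ _).trans
    (Nat.add_le_add_right (Set.ncard_union_le _ _) _)) _))
  omega

/-- An element commuting with a nontrivial element of `U` lies in `U` or in `U * a`; so the
centralizer is at most twice its intersection with `U`. -/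
theorem card_cent_le {w : G} (hw : w ∈ D.U) (hw1 : w ≠ 1) (S : Subgroup G)
    (hS : S ≤ centralizer ({w} : Set G)) :
    Nat.card S ≤ 2 * Nat.card ((D.U : Subgroup G) ⊓ S : Subgroup G) := by
  classical
  have key : ∀ y ∈ S, ∃ u ∈ D.U, y = u ∨ y = u * D.a := by
    intro y hy
    have hc : Commute y w := mem_centralizer_singleton_iff.1 (hS hy)
    have hN : y ∈ normalizer (D.U : Set G) :=
      D.mem_N_of_conj hw1 hw (by rw [hc.eq, mul_inv_cancel_right]; exact hw)
    obtain ⟨u, hu, h, hh, rfl⟩ := D.exists_mul hN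
    refine ⟨u, hu, ?_⟩
    have hsq := D.sq_mem_of_commute hN hw hw1 hc
    have e : u * h * (u * h) = u * (h * u * h⁻¹) * h ^ 2 := by group
    rw [e] at hsq
    have h2 : h ^ 2 ∈ (D.U : Subgroup G) :=
      ((D.U : Subgroup G).mul_mem_cancel_left
        ((D.U : Subgroup G).mul_mem hu (D.conj_U (D.H_le hh) hu))).1 hsq
    rcases D.H_sq_eq_one hh (D.U_inf_H h2 (pow_mem hh 2)) with r | r
    · left; rw [r, mul_one]
    · right; rw [r]
  set I := ((D.U : Subgroup G) ⊓ S : Subgroup G) with hI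
  by_cases hex : ∃ y ∈ S, y ∉ (D.U : Subgroup G)
  · obtain ⟨y0, hy0, hy0'⟩ := hex
    have hmem : ∀ y : S, (y : G) ∉ (D.U : Subgroup G) → (y : G) * y0⁻¹ ∈ I := by
      intro y hy
      refine mem_inf.2 ⟨?_, S.mul_mem y.2 (S.inv_mem hy0)⟩
      obtain ⟨u, hu, r | r⟩ := key _ y.2
      · exact absurd (r ▸ hu) hy
      obtain ⟨u0, hu0, r0 | r0⟩ := key _ hy0
      · exact absurd (r0 ▸ hu0) hy0'
      rw [r, r0, show u * D.a * (u0 * D.a)⁻¹ = u * u0⁻¹ by group]
      exact mul_mem hu (inv_mem hu0)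
    let f : S → I ⊕ I := fun y =>
      if h : (y : G) ∈ (D.U : Subgroup G) then Sum.inl ⟨y, mem_inf.2 ⟨h, y.2⟩⟩
      else Sum.inr ⟨_, hmem y h⟩
    have hf : Function.Injective f := by
      intro y z h
      simp only [f] at h
      split_ifs at h
      · have h' := congrArg (Sum.elim Subtype.val Subtype.val) h
        exact Subtype.ext h'
      · have h' := congrArg (Sum.elim Subtype.val Subtype.val) h
        exact Subtype.ext (mul_right_cancel h')
    have := Nat.card_le_card_of_injective f hf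
    rw [Nat.card_sum] at this
    omega
  · push Not at hex
    have : S ≤ I := fun y hy => mem_inf.2 ⟨hex y hy, hy⟩
    have := Subgroup.card_le_of_le this
    omega

/-- the centralizer of an element of order six -/
theorem card_cent_six {g : G} (hg : orderOf g = 6) :
    Nat.card (centralizer ({g} : Set G)) ≤ 2 * D.q := by
  classical
  have hw : orderOf (g ^ 2) = 3 := by rw [orderOf_pow, hg]; norm_num
  obtain ⟨c, hc⟩ := D.exists_conj_U (x := g ^ 2) (k := 1) (by rw [pow_one, ← hw, pow_orderOf_eq_one])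
  set g' := c⁻¹ * g * c with hg'
  have hg6 : orderOf g' = 6 := by rw [hg', ReeData.orderOf_conj', hg]
  have hw' : g' ^ 2 = c⁻¹ * g ^ 2 * c := by rw [sq, sq, hg']; group
  rw [← card_cent_conj g c⁻¹, inv_inv, ← hg']
  have hw1 : g' ^ 2 ≠ 1 := fun e => by
    have := orderOf_dvd_of_pow_eq_one e
    rw [hg6] at this; norm_num at this
  refine (card_cent_le D (w := g' ^ 2) (hw' ▸ hc) hw1 _ fun y hy => ?_).trans ?_
  · rw [mem_centralizer_singleton_iff] at hy ⊢
    exact (Commute.pow_right (hy : Commute y g') 2).eq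
  refine Nat.mul_le_mul_left 2 ?_
  set I := ((D.U : Subgroup G) ⊓ centralizer ({g'} : Set G) : Subgroup G) with hI
  have hi1 : g' ^ 3 ≠ 1 := fun e => by
    have := orderOf_dvd_of_pow_eq_one e
    rw [hg6] at this; norm_num at this
  have hi2 : g' ^ 3 * g' ^ 3 = 1 := by rw [← pow_add, show 3 + 3 = 6 from rfl, ← hg6, pow_orderOf_eq_one]
  have hle : I ≤ centralizer ({g' ^ 3} : Set G) := fun y hy => by
    rw [mem_centralizer_singleton_iff]
    exact (Commute.pow_right (mem_centralizer_singleton_iff.1 (mem_inf.1 hy).2 : Commute y g') 3).eq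
  have h1 : Nat.card I ∣ D.q ^ 3 := D.card_U ▸ card_dvd_of_le inf_le_left
  have h2 : Nat.card I ∣ D.q * (D.q ^ 2 - 1) := (D.inv_cent hi1 hi2).card ▸ card_dvd_of_le hle
  have hco : (Nat.card I).Coprime (D.q ^ 2 - 1) := by
    refine Nat.Coprime.coprime_dvd_left h1 ?_
    rw [D.three_pow_q3]
    refine ReeData.coprime_three ?_ _
    rw [D.sq_sub_one]
    intro h
    exact ((Nat.Prime.dvd_mul Nat.prime_three).1 h).elim D.not_three_dvd_qp1 D.not_three_dvd_qm1
  exact Nat.le_of_dvd (by have := D.q_ge; omega) (hco.dvd_of_dvd_mul_right h2)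

end Cfsg.Agent.ReeCover14Classes
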