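import Cfsg.Agent.Lib.ReeBorel86

/-!
The seven dimensional block of the short roots in the adjoint module of `G₂` in characteristic
three, and the trace function it defines on `²G₂(q)`.
-/

set_option autoImplicit false
set_option linter.unusedSectionVars false
set_option linter.unusedSimpArgs false
set_option maxRecDepth 40000

namespace Cfsg.Agent.ReeCover14Trace

open Cfsg.Lie Cfsg.Agent.ChevalleyCert Cfsg.Agent.ChevalleyCore Cfsg.Agent.ChevalleyEngine
open Cfsg.Agent.ChevalleyExp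
open Cfsg.Agent.ReeSL2 Cfsg.Agent.ReeTwist17 Cfsg.Agent.ChevalleyTorus Cfsg.Agent.ChevExcGraphData
open Cfsg.Agent.ReeInstance17 Cfsg.Agent.ReeInstance17.Ctx Cfsg.Agent.ReeBorel86
open scoped MatrixGroups

/-- the short root block -/
def S : Fin 7 → chevG2.Idx :=
  ![Sum.inl ⟨0, by decide⟩, Sum.inr ⟨2, by decide⟩, Sum.inr ⟨3, by decide⟩, Sum.inr ⟨4, by decide⟩,
    Sum.inr ⟨7, by decide⟩, Sum.inr ⟨8, by decide⟩, Sum.inr ⟨9, by decide⟩]

theorem S_inj : Function.Injective S := by decide +kernel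

theorem block_table : ∀ r : Fin chevG2.nroots, ∀ k ∈ ([1, 2, 3] : List ℕ), ∀ q : chevG2.Idx,
    (∀ a, S a ≠ q) → ∀ b, (xm chevG2 k r.val q (S b)) % 3 = 0 := by decide +kernel

variable {K : Type*} [Field K] [CharP K 3]

/-- the block is invariant -/
def Inv (M : Matrix chevG2.Idx chevG2.Idx K) : Prop :=
  ∀ q, (∀ a, S a ≠ q) → ∀ b, M q (S b) = 0

theorem Inv.mul {M N : Matrix chevG2.Idx chevG2.Idx K} (hM : Inv M) (hN : Inv N) : Inv (M * N) := by
  intro q hq b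
  rw [Matrix.mul_apply]
  refine Finset.sum_eq_zero fun k _ => ?_
  by_cases hk : ∃ a, S a = k
  · obtain ⟨a, rfl⟩ := hk
    rw [hM q hq a, zero_mul]
  · push Not at hk
    rw [hN k hk b, mul_zero]

theorem sub_mul_of_inv {M N : Matrix chevG2.Idx chevG2.Idx K} (hN : Inv N) :
    (M * N).submatrix S S = M.submatrix S S * N.submatrix S S := by
  ext a b
  simp only [Matrix.submatrix_apply, Matrix.mul_apply]
  symm
  refine Finset.sum_bij_ne_zero (fun c _ _ => S c) (fun _ _ _ => Finset.mem_univ _)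
    (fun _ _ _ _ _ _ h => S_inj h) (fun k _ hk => ?_) (fun _ _ _ => rfl)
  by_cases hc : ∃ c, S c = k
  · obtain ⟨c, rfl⟩ := hc
    exact ⟨c, Finset.mem_univ _, hk, rfl⟩
  · push Not at hc
    exact absurd (by rw [hN k hc b, mul_zero]) hk

theorem inv_one : Inv (1 : Matrix chevG2.Idx chevG2.Idx K) :=
  fun q hq b => Matrix.one_apply_ne (hq b).symm

theorem cast_mod {z : ℤ} (h : z % 3 = 0) : (z : K) = 0 :=
  (CharP.intCast_eq_zero_iff K 3 _).2 (Int.dvd_of_emod_eq_zero h)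

theorem inv_x (r : Fin chevG2.nroots) (t : K) : Inv (chevG2.x K r.val t) := by
  intro q hq b
  have h := block_table r
  rw [x_eq_xR c2 r.2]
  simp only [xR, Matrix.add_apply, Matrix.smul_apply, Matrix.map_apply, smul_eq_mul]
  rw [inv_one q hq b, cast_mod (h 1 (by simp) q hq b), cast_mod (h 2 (by simp) q hq b),
    cast_mod (h 3 (by simp) q hq b)]
  simp

theorem inv_group {g : GL chevG2.Idx K} (hg : g ∈ chevG2.group K) :
    Inv (g : Matrix chevG2.Idx chevG2.Idx K) := by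
  induction hg using Subgroup.closure_induction'' with
  | mem g hg =>
    obtain ⟨r, t, h⟩ := hg
    have : g = xg c2 r.val t := Units.ext (by rw [h, coe_xg, ChevalleyDatum.x, dif_pos r.2])
    rw [this]
    exact inv_x r t
  | inv_mem g hg =>
    obtain ⟨r, t, h⟩ := hg
    have : g = xg c2 r.val t := Units.ext (by rw [h, coe_xg, ChevalleyDatum.x, dif_pos r.2])
    rw [this, xg_inv]
    exact inv_x r _
  | one => exact inv_one
  | mul g h _ _ hg hh => exact hg.mul hh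

/-- the block of a matrix -/
def blk (g : GL chevG2.Idx K) : Matrix (Fin 7) (Fin 7) K :=
  (g : Matrix chevG2.Idx chevG2.Idx K).submatrix S S

theorem blk_mul (g : GL chevG2.Idx K) {h : GL chevG2.Idx K} (hh : h ∈ chevG2.group K) :
    blk (g * h) = blk g * blk h :=
  sub_mul_of_inv (inv_group hh)

theorem blk_one : blk (1 : GL chevG2.Idx K) = 1 := Matrix.submatrix_one S S_inj

/-- root elements with integral parameter, modulo three -/
def Rz (r : ℕ) (n : ℤ) : Matrix (Fin 7) (Fin 7) (ZMod 3) :=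
  fun i j => (xz chevG2 r n (S i) (S j) : ZMod 3)

theorem blk_xg_int {r : ℕ} (hr : r < chevG2.nroots) (n : ℤ) :
    blk (xg c2 r (n : K)) = (Rz r n).map (ZMod.castHom (dvd_refl 3) K) := by
  ext i j
  simp only [blk, Matrix.submatrix_apply, coe_xg, ← xz_cast c2 hr, Matrix.map_apply, Rz,
    map_intCast]

/-- the permutation induced by `cn` -/
def pp : Fin 7 → Fin 7 := ![0, 6, 5, 4, 3, 2, 1]

/-- the block of `cn` -/
def PP (R : Type*) [Ring R] : Matrix (Fin 7) (Fin 7) R :=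
  Matrix.of fun i j => if j = pp i then -1 else 0

theorem PP_mul {R : Type*} [Ring R] (M : Matrix (Fin 7) (Fin 7) R) (i j : Fin 7) :
    (PP R * M) i j = -M (pp i) j := by
  simp [PP, Matrix.mul_apply]

theorem cn_table :
    Rz 8 1 * Rz 3 (-1) * Rz 8 1 * (Rz 10 1 * Rz 1 (-1) * Rz 10 1) = PP (ZMod 3) := by
  decide +kernel

theorem blk_ng {r : ℕ} (hr : r < chevG2.nroots) :
    blk (ng c2 r (1 : K)) =
      (Rz r 1 * Rz (chevG2.neg r) (-1) * Rz r 1).map (ZMod.castHom (dvd_refl 3) K) := by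
  rw [Matrix.map_mul, Matrix.map_mul, ← blk_xg_int hr, ← blk_xg_int (c2.neg_lt r),
    ← blk_mul _ (xg_mem_group c2 _ _), ← blk_mul _ (xg_mem_group c2 _ _)]
  simp [ng]

theorem neg_facts : chevG2.neg 8 = 3 ∧ chevG2.neg 10 = 1 ∧
    8 < chevG2.nroots ∧ 10 < chevG2.nroots := by decide +kernel

theorem blk_cn : blk (cn : GL chevG2.Idx K) = PP K := by
  obtain ⟨n8, n10, h8, h10⟩ := neg_facts
  rw [cn, blk_mul _ (by rw [ng]; exact mul_mem (mul_mem (xg_mem_group c2 _ _)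
    (xg_mem_group c2 _ _)) (xg_mem_group c2 _ _)), blk_ng h8, blk_ng h10, ← Matrix.map_mul,
    n8, n10, cn_table]
  ext i j
  simp only [Matrix.map_apply, PP, Matrix.of_apply]
  split_ifs <;> simp

/-! ### the root elements of `U¹` with `t = 0` -/

/-- linear coefficient -/
def A1 : ℕ → Matrix (Fin 7) (Fin 7) ℤ
  | 8 => !![0, 0, 1, 0, 0, 0, 0; 0, 0, 0, 0, 0, 0, 0; 0, 0, 0, 0, 0, 0, 0; 0, 1, 0, 0, 0, 0, 0;
      0, 0, 0, 0, 0, 0, 0; 1, 0, 0, 0, 0, 0, 0; 0, 0, 0, 0, -1, 0, 0]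
  | 9 => !![0, -1, 0, 0, 0, 0, 0; 0, 0, 0, 0, 0, 0, 0; 0, 0, 0, 0, 0, 0, 0; 0, 0, 0, 0, 0, 0, 0;
      0, 0, 1, 0, 0, 0, 0; 0, 0, 0, -1, 0, 0, 0; -1, 0, 0, 0, 0, 0, 0]
  | 10 => !![0, 0, 0, 0, 0, 0, 0; 0, 0, 0, 0, 0, 0, 0; 0, 0, 0, 0, 0, 0, 0; 0, 0, 0, 0, 0, 0, 0;
      0, 1, 0, 0, 0, 0, 0; 0, 0, 0, 0, 0, 0, 0; 0, 0, 0, -1, 0, 0, 0]
  | 11 => !![0, 0, 0, 0, 0, 0, 0; 0, 0, 0, 0, 0, 0, 0; 0, 0, 0, 0, 0, 0, 0; 0, 0, 0, 0, 0, 0, 0;
      0, 0, 0, 0, 0, 0, 0; 0, 1, 0, 0, 0, 0, 0; 0, 0, -1, 0, 0, 0, 0]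
  | _ => 0

/-- quadratic coefficient -/
def A2 : ℕ → Matrix (Fin 7) (Fin 7) ℤ
  | 8 => !![0, 0, 0, 0, 0, 0, 0; 0, 0, 0, 0, 0, 0, 0; 0, 0, 0, 0, 0, 0, 0; 0, 0, 0, 0, 0, 0, 0;
      0, 0, 0, 0, 0, 0, 0; 0, 0, -1, 0, 0, 0, 0; 0, 0, 0, 0, 0, 0, 0]
  | 9 => !![0, 0, 0, 0, 0, 0, 0; 0, 0, 0, 0, 0, 0, 0; 0, 0, 0, 0, 0, 0, 0; 0, 0, 0, 0, 0, 0, 0;
      0, 0, 0, 0, 0, 0, 0; 0, 0, 0, 0, 0, 0, 0; 0, -1, 0, 0, 0, 0, 0]
  | _ => 0

theorem A_table : ∀ r ∈ ([8, 9, 10, 11] : List ℕ), r < chevG2.nroots ∧ ∀ i j : Fin 7,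
    (xm chevG2 1 r (S i) (S j) - A1 r i j) % 3 = 0 ∧
    (xm chevG2 2 r (S i) (S j) - A2 r i j) % 3 = 0 ∧
    xm chevG2 3 r (S i) (S j) % 3 = 0 := by decide +kernel

theorem blk_xg {r : ℕ} (hr : r ∈ ([8, 9, 10, 11] : List ℕ)) (t : K) :
    blk (xg c2 r t) = 1 + t • (A1 r).map (fun z => (z : K)) + t ^ 2 • (A2 r).map (fun z => (z : K)) := by
  obtain ⟨hlt, h⟩ := A_table r hr
  ext i j
  obtain ⟨h1, h2, h3⟩ := h i j
  have e1 := cast_mod (K := K) h1
  have e2 := cast_mod (K := K) h2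
  push_cast [sub_eq_zero] at e1 e2
  simp only [blk, Matrix.submatrix_apply, coe_xg, x_eq_xR c2 hlt, xR, Matrix.add_apply,
    Matrix.smul_apply, Matrix.map_apply, smul_eq_mul, e1, e2, cast_mod (K := K) h3, mul_zero,
    add_zero]
  simp only [Matrix.one_apply, S_inj.eq_iff]

/-- the block of `gu 0 u v`, with `U = θ u`, `V = θ v` -/
def W (U V u v : K) : Matrix (Fin 7) (Fin 7) K :=
  !![1, -V, U, 0, 0, 0, 0;
     0, 1, 0, 0, 0, 0, 0;
     0, 0, 1, 0, 0, 0, 0;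
     0, U, 0, 1, 0, 0, 0;
     0, u, V, 0, 1, 0, 0;
     U, v - U * V, -U ^ 2, -V, 0, 1, 0;
     -V, -V ^ 2 - u * U, -v - U * V, -u, -U, 0, 1]

theorem W_eq (U V u v : K) :
    blk (X false 8 U * X false 9 V * X false 10 u * X false 11 v) = W U V u v := by
  have m : ∀ r (a : K), xg c2 r a ∈ chevG2.group K := fun r a => xg_mem_group c2 r a
  simp only [ReeTwist17.X, Bool.false_eq_true, ↓reduceIte]
  rw [blk_mul _ (m _ _), blk_mul _ (m _ _), blk_mul _ (m _ _), blk_xg (by simp), blk_xg (by simp),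
    blk_xg (by simp), blk_xg (by simp)]
  ext i j
  fin_cases i <;> fin_cases j <;>
    simp [Matrix.mul_apply, Fin.sum_univ_seven, A1, A2, W, Matrix.one_apply] <;> ring

/-- the diagonal of the block of a torus element -/
noncomputable def dd (C c : K) : Fin 7 → K :=
  ![1, C⁻¹, C / c, c / C ^ 2, C ^ 2 / c, c / C, C]

theorem cartan_S : (List.map (fun r => (chevG2.cartan 0 r, chevG2.cartan 1 r)) [2, 3, 4, 7, 8, 9]) =
    [(-1, 0), (1, -1), (-2, 1), (2, -1), (-1, 1), (1, 0)] := by decide +kernel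

variable [Fintype K] (X : Ctx K)

theorem blk_torus (c : Kˣ) :
    blk (torus chevG2 (X.par c)) = Matrix.diagonal (dd (X.θ (c : K)) (c : K)) := by
  have huniv : (Finset.univ : Finset (Fin chevG2.rank)) = {⟨0, by decide⟩, ⟨1, by decide⟩} := by
    decide +kernel
  have h := cartan_S
  simp only [List.map_cons, List.map_nil, List.cons.injEq, Prod.mk.injEq, and_true] at h
  obtain ⟨⟨a2, b2⟩, ⟨a3, b3⟩, ⟨a4, b4⟩, ⟨a7, b7⟩, ⟨a8, b8⟩, a9, b9⟩ := h
  have hp0 : ((X.par c) ⟨0, by decide⟩ : K) = X.θ (c : K) := rfl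
  have hp1 : ((X.par c) ⟨1, by decide⟩ : K) = (c : K) := rfl
  ext i j
  rw [blk, Matrix.submatrix_apply, coe_torus, tmat, Matrix.diagonal_apply, Matrix.diagonal_apply]
  simp only [S_inj.eq_iff]
  split_ifs with hij
  · subst hij
    fin_cases i <;> simp [S, dd, tchar, huniv, Units.val_mul, Units.val_zpow_eq_zpow_val, hp0, hp1,
      a2, b2, a3, b3, a4, b4, a7, b7, a8, b8, a9, b9, zpow_neg, div_eq_mul_inv, zpow_two] <;>
      first | ring | (field_simp; ring) | field_simp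
  · rfl

/-- the trace of the block -/
def tau (g : ↥X.G1) : K := (blk (g : GL chevG2.Idx K)).trace

theorem mem_group (g : ↥X.G1) : (g : GL chevG2.Idx K) ∈ chevG2.group K := (X.le_fixed g.2).1

/-- the block as a homomorphism -/
def R : ↥X.G1 →* Matrix (Fin 7) (Fin 7) K where
  toFun g := blk (g : GL chevG2.Idx K)
  map_one' := blk_one
  map_mul' a b := blk_mul _ (mem_group X b)

theorem tau_eq (g : ↥X.G1) : tau X g = (R X g).trace := rfl

theorem tau_comm (a b : ↥X.G1) : tau X (a * b) = tau X (b * a) := by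
  rw [tau_eq, tau_eq, map_mul, map_mul, Matrix.trace_mul_comm]

theorem tau_conj (a b : ↥X.G1) : tau X (a * b * a⁻¹) = tau X b := by
  rw [tau_comm, inv_mul_cancel_left]

theorem tau_one : tau X 1 = 1 := by
  rw [tau_eq, map_one, Matrix.trace_one, Fintype.card_fin]
  have : ((3 : ℕ) : K) = 0 := CharP.cast_eq_zero K 3
  push_cast at this ⊢
  linear_combination 2 * this

theorem R_nn : R X (nn X) = PP K := blk_cn

theorem R_gu (u v : K) : R X (gu X 0 u v) = W (X.θ u) (X.θ v) u v := by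
  rw [← W_eq]
  show blk (gen X.θ false 0 u v) = _
  congr 1
  simp [gen, Uf, tail, X_zero]

variable {X} (hF : Full X)

theorem R_T (l : Kˣ) :
    R X (T hF l) = Matrix.diagonal (dd (X.θ (cpar X l : K)) (cpar X l : K)) :=
  blk_torus X (cpar X l)

/-- the trace on the big cell at `t = 0` -/
theorem tau_cell (l : Kˣ) (u v : K) :
    tau X (nn X * T hF l * gu X 0 u v) = -1 + X.θ (cpar X l : K) * X.θ v ^ 2 +
      X.θ u ^ 2 * ((cpar X l : K) / X.θ (cpar X l : K)) + u * X.θ u * X.θ (cpar X l : K) := by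
  have h3 : (3 : K) = 0 := by exact_mod_cast CharP.cast_eq_zero K 3
  rw [tau_eq, map_mul, map_mul, R_nn, R_T, R_gu]
  have hc : (cpar X l : K) ≠ 0 := (cpar X l).ne_zero
  have hC : X.θ (cpar X l : K) ≠ 0 := by simpa using hc
  generalize X.θ (cpar X l : K) = C at hC ⊢
  generalize (cpar X l : K) = c at hc ⊢
  simp [Matrix.trace, Fin.sum_univ_seven, mul_assoc, PP_mul, Matrix.diagonal_mul, pp, dd, W]
  field_simp
  ring

/-- the trace used for the involutions -/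
theorem tau_invol (l : Kˣ) (k : K) (hl : (cpar X l : K) = 1 ∨ (cpar X l : K) = -1) :
    tau X (nn X * T hF l * gu X 0 1 0 * nn X * gu X 0 (-1) k) =
      -1 + (cpar X l : K) * X.θ k ^ 2 := by
  have h3 : (3 : K) = 0 := by exact_mod_cast CharP.cast_eq_zero K 3
  rw [tau_eq, map_mul, map_mul, map_mul, map_mul, R_nn, R_T, R_gu, R_gu]
  simp only [Matrix.trace, Matrix.diag, Fin.sum_univ_seven, mul_assoc, PP_mul, Matrix.diagonal_mul]
  simp only [Matrix.mul_apply, PP_mul, Fin.sum_univ_seven]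
  rcases hl with h | h <;> rw [h] <;> simp [PP, pp, dd, W, map_neg]
  · linear_combination (4 : K) * h3
  · linear_combination (-2 : K) * h3

end Cfsg.Agent.ReeCover14Trace
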