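import Cfsg.Agent.Lib.ReeOrderThree17

/-!
`²G₂(q)`: one class of involutions, and the stabilisers of three points.
-/

set_option autoImplicit false
set_option linter.unusedSectionVars false
set_option maxRecDepth 20000

namespace Cfsg.Agent.ReeInvolutions17

open Cfsg.Lie Cfsg.Agent.ChevalleyCore Cfsg.Agent.ReeSL2 Cfsg.Agent.ReeTwist17
open Cfsg.Agent.ReeInstance17 Cfsg.Agent.ReeTorus17 Cfsg.Agent.SmallExcPerm
open Cfsg.Agent.ReeCentralizer17 Cfsg.Agent.ChevBruhat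
open scoped MatrixGroups

theorem wg_eq_of_cols (L M : List (ℕ × ZMod 3))
    (hL : ∀ p ∈ L, p.1 < 12 ∧ okT 3 (SmallExcRee.tab p) = true)
    (hM : ∀ p ∈ M, p.1 < 12 ∧ okT 3 (SmallExcRee.tab p) = true)
    (h : ∀ j : Co, mvW 3 (L.map SmallExcRee.tab) (256 ^ ix j) =
      mvW 3 (M.map SmallExcRee.tab) (256 ^ ix j)) : wg c2 L = wg c2 M := by
  refine Units.ext ?_
  rw [coe_wg, coe_wg]
  have e : ∀ L : List (ℕ × ZMod 3), (∀ p ∈ L, p.1 < 12 ∧ okT 3 (SmallExcRee.tab p) = true) →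
      chevG2.wordMat (ZMod 3) L = ((L.map SmallExcRee.tab).map (ofC (R := ZMod 3))).prod := by
    intro L hL
    rw [List.map_map]
    refine congrArg List.prod (List.map_congr_left fun p hp => ?_)
    exact SmallExcRee.x_eq_tab ⟨p.1, (hL p hp).1⟩ p.2
  have hv : ∀ (L : List (ℕ × ZMod 3)), (∀ p ∈ L, p.1 < 12 ∧ okT 3 (SmallExcRee.tab p) = true) →
      ∀ i j : Co, chevG2.wordMat (ZMod 3) L i j =
        vec (mvW 3 (L.map SmallExcRee.tab) (256 ^ ix j)) i := by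
    intro L hL i j
    have h := congrFun (mulVec_prod (R := ZMod 3) (p := 3) (by norm_num) (by norm_num)
      (L.map SmallExcRee.tab)
      (fun T hT => by obtain ⟨p, hp, rfl⟩ := List.mem_map.1 hT; exact (hL p hp).2)
      (col_ok j).2).2 i
    rw [← e L hL] at h
    rw [← h]
    simp only [Matrix.mulVec, dotProduct, vec, unit_ok _ j, Nat.cast_ite, Nat.cast_one,
      Nat.cast_zero, mul_ite, mul_one, mul_zero, Finset.sum_ite_eq', Finset.mem_univ, ↓reduceIte]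
  exact Matrix.ext fun i j => by rw [hv L hL, hv M hM, h]

/-- the word of the representative of the longest element -/
def cw : List (ℕ × ZMod 3) := [(8, 1), (3, -1), (8, 1), (10, 1), (1, -1), (10, 1)]

/-- the conjugators -/
def gw : Bool → List (ℕ × ZMod 3)
  | false => gl false 0 1 1 ++ gl true 1 0 1
  | true => gl false 1 0 2 ++ gl true 0 0 1

/-- the targets -/
def tgt : Bool → List (ℕ × ZMod 3)
  | false => cw
  | true => aw ++ cw

theorem fus_ok : ∀ b : Bool, (∀ p ∈ gw b ++ aw, p.1 < 12 ∧ okT 3 (SmallExcRee.tab p) = true) ∧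
    (∀ p ∈ tgt b ++ gw b, p.1 < 12 ∧ okT 3 (SmallExcRee.tab p) = true) ∧
    ∀ j : Co, mvW 3 ((gw b ++ aw).map SmallExcRee.tab) (256 ^ ix j) =
      mvW 3 ((tgt b ++ gw b).map SmallExcRee.tab) (256 ^ ix j) := by decide +kernel

variable {K : Type*} [Field K] [Fintype K] [CharP K 3] (X : ReeInstance17.Ctx K)

include X in
theorem cn_sq : (Ctx.cn : GL chevG2.Idx K) * Ctx.cn = 1 := by
  rw [X.cn_eq, ← map_mul]
  exact psi_wel_sq X.θ

theorem fusion : (∃ g ∈ X.G1, g * av X * g⁻¹ = Ctx.cn) ∧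
    ∃ g ∈ X.G1, g * av X * g⁻¹ = av X * Ctx.cn := by
  let f : ZMod 3 →+* K := ZMod.castHom (dvd_refl 3) K
  let φ := Matrix.GeneralLinearGroup.map (n := chevG2.Idx) f
  have wga : ∀ L M : List (ℕ × ZMod 3), wg c2 (L ++ M) = wg c2 L * wg c2 M := fun L M => by
    simp [wg]
  have hm : ∀ s t u v, φ (wg c2 (gl s t u v)) ∈ X.G1 := by
    intro s t u v
    rw [← gen_id]
    show Matrix.GeneralLinearGroup.map f _ ∈ _
    rw [map_gen X f]
    exact X.gen_mem _ _ _ _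
  have hA : φ (wg c2 aw) = av X := by
    show Matrix.GeneralLinearGroup.map f _ = _
    rw [aw_eq, map_torus]
    exact congrArg (ChevalleyTorus.torus chevG2) (funext fun i => Units.ext (by simp [Ctx.par, f]))
  have hC : φ (wg c2 cw) = Ctx.cn := by
    show Matrix.GeneralLinearGroup.map f _ = _
    simp only [cw, Ctx.cn, ng, root_facts.1, root_facts.2.1, TwistedTools.wg_cons,
      TwistedTools.wg_nil, map_mul, TwistedTools.xg_map, mul_one, map_one, map_neg, inv_one,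
      mul_assoc]
  have key : ∀ b, φ (wg c2 (gw b)) * av X * (φ (wg c2 (gw b)))⁻¹ = φ (wg c2 (tgt b)) := by
    intro b
    obtain ⟨h1, h2, h3⟩ := fus_ok b
    have h := congrArg φ (wg_eq_of_cols _ _ h1 h2 h3)
    rw [wga, wga, map_mul, map_mul, hA] at h
    rw [h, mul_inv_cancel_right]
  refine ⟨⟨φ (wg c2 (gw false)), ?_, (key false).trans hC⟩,
    φ (wg c2 (gw true)), ?_, (key true).trans ?_⟩
  · rw [gw, wga, map_mul]; exact mul_mem (hm _ _ _ _) (hm _ _ _ _)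
  · rw [gw, wga, map_mul]; exact mul_mem (hm _ _ _ _) (hm _ _ _ _)
  · rw [tgt, wga, map_mul, hA, hC]

include X in
theorem cn_conj_H {h : GL chevG2.Idx K} (hh : h ∈ chevG2.diagonalSubgroup K) :
    Ctx.cn * h * (Ctx.cn : GL chevG2.Idx K)⁻¹ ∈ chevG2.diagonalSubgroup K :=
  X.tw.S.conj_H (X.tw.S.acts_toW ⟨_, X.cn_toW.1⟩) hh

include X in
theorem form_unique' {b b' u u' : GL chevG2.Idx K} (hb : b ∈ chevG2.borelSubgroup K)
    (hb' : b' ∈ chevG2.borelSubgroup K) (hu : u ∈ chevG2.posUnipotent K)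
    (hu' : u' ∈ chevG2.posUnipotent K) (e : b * Ctx.cn * u = b' * Ctx.cn * u') :
    b = b' ∧ u = u' := by
  obtain ⟨hN, hw⟩ := X.cn_toW
  exact X.tw.S.form_unique ⟨_, hN⟩ hb hb' (by rw [hw, X.Uw_cl]; exact hu)
    (by rw [hw, X.Uw_cl]; exact hu') e

theorem sqrt_U1 {u : GL chevG2.Idx K} (hu : u ∈ chevG2.posUnipotent K ⊓ X.G1) :
    ∃ k, u ^ k * u ^ k = u := by
  have hodd : Odd (Fintype.card K ^ 3) := by
    refine Odd.pow ?_
    obtain ⟨n, -, hn⟩ := FiniteField.card K 3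
    rw [hn]
    exact Odd.pow (by decide)
  obtain ⟨k, hk⟩ := hodd
  have hn : u ^ (Fintype.card K ^ 3) = 1 := by
    rw [← X.card_U1]
    exact congrArg Subtype.val (pow_card_eq_one'
      (x := (⟨u, hu⟩ : ↥(chevG2.posUnipotent K ⊓ X.G1))))
  exact ⟨k + 1, by rw [← pow_add, show k + 1 + (k + 1) = Fintype.card K ^ 3 + 1 by omega, pow_succ,
    hn, one_mul]⟩

theorem ds_eq_dd (s : Kˣ) : dd (s : K) = ReeSimple17.ds s := by
  apply Subtype.ext
  show _ = !![(s : K), 0; 0, ((s⁻¹ : Kˣ) : K)]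
  simp only [dd, Matrix.SpecialLinearGroup.coe_mul, upper_coe, lower_coe, Matrix.mul_fin_two]
  ext i j
  fin_cases i <;> fin_cases j <;> simp [s.ne_zero]

theorem sign_square {m : ℕ} (hK : Fintype.card K = 3 ^ (2 * m + 1)) (c : Kˣ) :
    ∃ d : Kˣ, c = d ^ 2 ∨ c = -d ^ 2 := by
  have h2 : ringChar K ≠ 2 := by rw [ringChar.eq K 3]; norm_num
  have hodd : Odd (Fintype.card K / 2) := by
    rw [Nat.odd_iff]
    have h : 3 ^ (2 * m + 1) % 4 = 3 := by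
      rw [pow_succ, pow_mul, Nat.mul_mod, Nat.pow_mod]
      norm_num
    omega
  have sq : ∀ x : Kˣ, (x : K) ^ (Fintype.card K / 2) = 1 → ∃ d : Kˣ, x = d ^ 2 := by
    intro x hx
    obtain ⟨d, hd⟩ := (FiniteField.isSquare_iff h2 x.ne_zero).2 hx
    have hd0 : d ≠ 0 := fun h => x.ne_zero (by rw [hd, h, zero_mul])
    exact ⟨Units.mk0 d hd0, Units.ext (by simp [hd, pow_two])⟩
  rcases FiniteField.pow_dichotomy h2 c.ne_zero with h | h
  · obtain ⟨d, hd⟩ := sq c h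
    exact ⟨d, Or.inl hd⟩
  · obtain ⟨d, hd⟩ := sq (-c) (by rw [Units.val_neg, hodd.neg_pow, h, neg_neg])
    exact ⟨d, Or.inr (by rw [← hd, neg_neg])⟩

theorem sq_nsq (d : Kˣ) : ∃ r : Kˣ, nsq X (r ^ 2) = d ^ 2 := by
  let F : Kˣ →* Kˣ := (powMonoidHom 2).comp (nsq X)
  let P : Kˣ →* Kˣ := powMonoidHom 2
  have hk : F.ker = P.ker := by
    have hpm : ∀ s : Kˣ, s ^ 2 = 1 → s = 1 ∨ s = -1 := fun s hs => by
      have : (s : K) ^ 2 = 1 := by rw [← Units.val_pow_eq_pow_val, hs, Units.val_one]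
      exact (sq_eq_one_iff.1 this).imp Units.val_eq_one.1 fun h => Units.ext (by rw [h]; rfl)
    ext s
    simp only [MonoidHom.mem_ker, F, P, MonoidHom.comp_apply, powMonoidHom_apply]
    constructor
    · intro h
      rcases (nsq_ker X (hpm _ h)).1 with rfl | rfl <;> simp
    · intro h
      rcases hpm s h with rfl | rfl
      · simp
      · rw [← map_pow, h, map_one]
  have hle : F.range ≤ P.range := fun _ ⟨s, hs⟩ => ⟨nsq X s, hs⟩
  have he : F.range = P.range := by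
    refine Subgroup.eq_of_le_of_card_ge hle (le_of_eq ?_)
    rw [← Subgroup.index_ker, ← Subgroup.index_ker, hk]
  obtain ⟨r, hr⟩ : d ^ 2 ∈ F.range := he ▸ ⟨d, rfl⟩
  exact ⟨r, by rw [map_pow]; exact hr⟩

/-- one class of involutions -/
theorem invol_conj {m : ℕ} (hK : Fintype.card K = 3 ^ (2 * m + 1)) {x : GL chevG2.Idx K}
    (hx : x ∈ X.G1) (h1 : x ≠ 1) (h2 : x * x = 1) :
    ∃ g ∈ X.G1, g * av X * g⁻¹ = x := by
  have hav := av_mem X
  rcases X.form hx with hB | ⟨b, hb, u, hu, rfl⟩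
  · obtain ⟨h, hh, u, hu, rfl⟩ := X.classes.mem_B1 hB
    have hc : h * h = 1 ∧ h⁻¹ * u * h * u = 1 := by
      have e : h * u * (h * u) = h * h * (h⁻¹ * u * h * u) := by group
      rw [e] at h2
      have hU : h⁻¹ * u * h * u ∈ chevG2.posUnipotent K := by
        refine mul_mem ?_ hu.1
        have := X.tw.S.H_conj_U (inv_mem hh.1) hu.1
        rwa [inv_inv] at this
      have h3 : h⁻¹ * u * h * u ∈ chevG2.diagonalSubgroup K := by
        rw [eq_inv_of_mul_eq_one_right h2]; exact inv_mem (mul_mem hh.1 hh.1)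
      have h4 := Subgroup.mem_inf.mpr ⟨hU, h3⟩
      rw [X.tw.S.U_inf_H, Subgroup.mem_bot] at h4
      rw [h4, mul_one] at h2
      exact ⟨h2, h4⟩
    obtain ⟨k, hk⟩ := sqrt_U1 X hu
    by_cases hh1 : h = 1
    · subst hh1
      exfalso
      have hu2 : u * u = 1 := by simpa using hc.2
      have : u ^ k * u ^ k = 1 := by rw [← pow_add, ← two_mul, pow_mul, pow_two, hu2, one_pow]
      exact h1 (by rw [one_mul, ← hk, this])
    obtain rfl : h = av X := invol_eq X hh.1 hh.2 hh1 hc.1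
    have hinv : (av X)⁻¹ = av X := inv_eq_of_mul_eq_one_right hc.1
    refine ⟨(u ^ k)⁻¹, inv_mem (pow_mem hu.2 k), ?_⟩
    have e : (av X)⁻¹ * u ^ k * av X = (u ^ k)⁻¹ := by
      have e0 : (av X)⁻¹ * u * av X = u⁻¹ := eq_inv_of_mul_eq_one_left hc.2
      have := congrArg (· ^ k) e0
      rw [show (av X)⁻¹ * u * av X = (av X)⁻¹ * u * (av X)⁻¹⁻¹ by group, conj_pow, inv_pow] at this
      simpa using this
    rw [inv_inv, show (u ^ k)⁻¹ = (av X)⁻¹ * u ^ k * av X from e.symm]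
    calc (av X)⁻¹ * u ^ k * av X * av X * u ^ k
        = (av X)⁻¹ * u ^ k * (av X * av X) * u ^ k := by group
      _ = _ := by rw [hc.1, mul_one, mul_assoc, hk, hinv]
  · -- move into the monomial subgroup
    suffices h : ∃ g ∈ X.G1, g * av X * g⁻¹ = u * (b * Ctx.cn * u) * u⁻¹ by
      obtain ⟨g, hg, e⟩ := h
      refine ⟨u⁻¹ * g, mul_mem (inv_mem hu.2) hg, ?_⟩
      calc u⁻¹ * g * av X * (u⁻¹ * g)⁻¹ = u⁻¹ * (g * av X * g⁻¹) * u := by group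
        _ = _ := by rw [e]; group
    have hb' : u * b ∈ chevG2.borelSubgroup K ⊓ X.G1 :=
      mul_mem ⟨Sys.U_le_B hu.1, hu.2⟩ hb
    rw [show u * (b * Ctx.cn * u) * u⁻¹ = u * b * (Ctx.cn : GL chevG2.Idx K) by group]
    have h2' : u * b * (Ctx.cn : GL chevG2.Idx K) * (u * b * Ctx.cn) = 1 := by
      calc u * b * Ctx.cn * (u * b * Ctx.cn) = u * ((b * Ctx.cn * u) * (b * Ctx.cn * u)) * u⁻¹ := by
            group
        _ = 1 := by rw [h2]; group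
    obtain ⟨h, hh, v, hv, he⟩ := X.classes.mem_B1 hb'
    rw [he] at h2' hb' ⊢
    have hcn := cn_sq X
    have hcn' := cn_conj_H X hh.1
    have e : h * v * (Ctx.cn * h * (Ctx.cn : GL chevG2.Idx K)⁻¹) * Ctx.cn * v = 1 * Ctx.cn * 1 := by
      have e1 : h * v * (Ctx.cn * h * (Ctx.cn : GL chevG2.Idx K)⁻¹) * Ctx.cn * v =
          h * v * Ctx.cn * (h * v * Ctx.cn) * (Ctx.cn : GL chevG2.Idx K)⁻¹ := by group
      rw [e1, h2', one_mul, one_mul, mul_one]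
      exact inv_eq_of_mul_eq_one_right hcn
    obtain ⟨-, rfl⟩ := form_unique' X (mul_mem hb'.1 (Sys.H_le_B hcn')) (one_mem _) hv.1 (one_mem _) e
    rw [mul_one]
    obtain ⟨c, rfl⟩ := X.H1_le hh
    obtain ⟨d, hd⟩ := sign_square hK c
    obtain ⟨r, hr⟩ := sq_nsq X d
    have hconj : psi X.θ (dd (r : K)) * Ctx.cn * (psi X.θ (dd (r : K)))⁻¹ =
        X.tor (d ^ 2) * Ctx.cn := by
      rw [← hr, ← psi_dd, X.cn_eq, ← map_inv, ← map_mul, ← map_mul, ← map_mul]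
      refine congrArg _ ?_
      rw [mul_inv_eq_iff_eq_mul, ds_eq_dd, ds_eq_dd]
      apply Subtype.ext
      simp only [Matrix.SpecialLinearGroup.coe_mul]
      show !![(r : K), 0; 0, ((r⁻¹ : Kˣ) : K)] * !![0, 1; -1, 0] =
        !![((r ^ 2 : Kˣ) : K), 0; 0, (((r ^ 2)⁻¹ : Kˣ) : K)] * !![0, 1; -1, 0] *
          !![(r : K), 0; 0, ((r⁻¹ : Kˣ) : K)]
      rw [Matrix.mul_fin_two, Matrix.mul_fin_two, Matrix.mul_fin_two]
      ext i j
      fin_cases i <;> fin_cases j <;> simp <;> field_simp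
    have hk : psi X.θ (dd (r : K)) ∈ X.G1 := ReeSL2.range_le X.θ X.spec X.e_ne ⟨_, rfl⟩
    have hcomm := psi_comm X hav (dd (r : K))
    set k := psi X.θ (dd (r : K)) with hkd
    rcases hd with rfl | rfl
    · obtain ⟨g, hg, e⟩ := (fusion X).1
      refine ⟨k * g, mul_mem hk hg, ?_⟩
      calc k * g * av X * (k * g)⁻¹ = k * (g * av X * g⁻¹) * k⁻¹ := by group
        _ = _ := by rw [e, hconj]
    · obtain ⟨g, hg, e⟩ := (fusion X).2
      refine ⟨k * g, mul_mem hk hg, ?_⟩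
      calc k * g * av X * (k * g)⁻¹ = k * (g * av X * g⁻¹) * k⁻¹ := by group
        _ = k * av X * (Ctx.cn * k⁻¹) := by rw [e]; group
        _ = av X * (k * Ctx.cn * k⁻¹) := by rw [← hcomm.eq]; group
        _ = _ := by rw [hconj, av, ← mul_assoc, ← map_mul, neg_one_mul]

/-! ### three points -/

/-- the stabiliser of the point `B` -/
abbrev Bs : Subgroup ↥X.G1 := (chevG2.borelSubgroup K ⊓ X.G1).subgroupOf X.G1

/-- the representative of the longest element in the group -/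
noncomputable def w : ↥X.G1 := ⟨Ctx.cn, X.cn_G1⟩

theorem two_points {g : ↥X.G1} (h0 : g • ((1 : ↥X.G1) : ↥X.G1 ⧸ Bs X) = ((1 : ↥X.G1) : ↥X.G1 ⧸ Bs X))
    (h1 : g • (w X : ↥X.G1 ⧸ Bs X) = (w X : ↥X.G1 ⧸ Bs X)) :
    (g : GL chevG2.Idx K) ∈ chevG2.diagonalSubgroup K := by
  rw [MulAction.Quotient.smul_coe, smul_eq_mul, QuotientGroup.eq, mul_one, mul_one,
    inv_mem_iff, Subgroup.mem_subgroupOf] at h0
  rw [MulAction.Quotient.smul_coe, smul_eq_mul, QuotientGroup.eq, Subgroup.mem_subgroupOf] at h1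
  have h1' : ((g : GL chevG2.Idx K) * Ctx.cn)⁻¹ * Ctx.cn ∈ chevG2.borelSubgroup K ⊓ X.G1 := h1
  have h2 : (Ctx.cn : GL chevG2.Idx K)⁻¹ * (g : GL chevG2.Idx K) * Ctx.cn ∈ chevG2.borelSubgroup K ⊓ X.G1 := by
    have := inv_mem h1'
    rwa [mul_inv_rev, inv_inv, ← mul_assoc] at this
  obtain ⟨h, hh, v, hv, he⟩ := X.classes.mem_B1 h2
  have e : (g : GL chevG2.Idx K) * Ctx.cn * 1 =
      (Ctx.cn * h * (Ctx.cn : GL chevG2.Idx K)⁻¹) * Ctx.cn * v := by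
    calc (g : GL chevG2.Idx K) * Ctx.cn * 1 = Ctx.cn * ((Ctx.cn : GL chevG2.Idx K)⁻¹ * (g : GL chevG2.Idx K) * Ctx.cn) := by
          group
      _ = _ := by rw [he]; group
  obtain ⟨e1, -⟩ := form_unique' X h0.1 (Sys.H_le_B (cn_conj_H X hh.1)) (one_mem _) hv.1 e
  rw [e1]
  exact cn_conj_H X hh.1

theorem Bs_mem {g : ↥X.G1} (hg : (g : GL chevG2.Idx K) ∈ chevG2.borelSubgroup K) :
    g ∈ Bs X := ⟨hg, g.2⟩

theorem H_fix {g : ↥X.G1} (hg : (g : GL chevG2.Idx K) ∈ chevG2.diagonalSubgroup K) :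
    g • ((1 : ↥X.G1) : ↥X.G1 ⧸ Bs X) = ((1 : ↥X.G1) : ↥X.G1 ⧸ Bs X) ∧
      g • (w X : ↥X.G1 ⧸ Bs X) = (w X : ↥X.G1 ⧸ Bs X) := by
  constructor <;> rw [MulAction.Quotient.smul_coe, smul_eq_mul, QuotientGroup.eq]
  · rw [mul_one, mul_one]
    exact inv_mem (Bs_mem X (Sys.H_le_B hg))
  · refine Bs_mem X ?_
    show ((g : GL chevG2.Idx K) * Ctx.cn)⁻¹ * Ctx.cn ∈ _
    have := X.tw.S.conj_H ((X.tw.S.acts_toW ⟨_, X.cn_toW.1⟩).inv X.tw.S) (inv_mem hg)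
    rw [inv_inv] at this
    rw [mul_inv_rev]
    exact Sys.H_le_B this

/-- the triple stabiliser -/
noncomputable abbrev St (x y z : ↥X.G1 ⧸ Bs X) : Subgroup ↥X.G1 :=
  MulAction.stabilizer ↥X.G1 x ⊓ MulAction.stabilizer ↥X.G1 y ⊓ MulAction.stabilizer ↥X.G1 z

theorem St_smul (g : ↥X.G1) (x y z : ↥X.G1 ⧸ Bs X) :
    Nat.card ↥(St X (g • x) (g • y) (g • z)) = Nat.card ↥(St X x y z) := by
  have e : St X (g • x) (g • y) (g • z) = (St X x y z).map (MulAut.conj g).toMonoidHom := by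
    rw [St, St, Subgroup.map_inf _ _ _ (MulAut.conj g).injective,
      Subgroup.map_inf _ _ _ (MulAut.conj g).injective]
    simp only [MulAction.stabilizer_smul_eq_stabilizer_map_conj]
  rw [e, Subgroup.card_map_of_injective (MulAut.conj g).injective]

/-- the third point -/
noncomputable abbrev pt {u : GL chevG2.Idx K} (hu : u ∈ chevG2.posUnipotent K ⊓ X.G1) :
    ↥X.G1 ⧸ Bs X := (((⟨u, hu.2⟩ : ↥X.G1) * w X : ↥X.G1) : ↥X.G1 ⧸ Bs X)

theorem fix_pt {g : ↥X.G1} (hg : (g : GL chevG2.Idx K) ∈ chevG2.diagonalSubgroup K)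
    {u : GL chevG2.Idx K} (hu : u ∈ chevG2.posUnipotent K ⊓ X.G1) :
    g • pt X hu = pt X hu ↔ (g : GL chevG2.Idx K) * u = u * g := by
  have hcu : (g : GL chevG2.Idx K) * u * (g : GL chevG2.Idx K)⁻¹ ∈
      chevG2.posUnipotent K ⊓ X.G1 :=
    Subgroup.mem_inf.2 ⟨X.tw.S.H_conj_U hg hu.1, mul_mem (mul_mem g.2 hu.2) (inv_mem g.2)⟩
  have key : g • pt X hu = pt X hcu := by
    rw [pt, pt, MulAction.Quotient.smul_coe, smul_eq_mul]
    have h := (H_fix X hg).2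
    rw [MulAction.Quotient.smul_coe, smul_eq_mul, QuotientGroup.eq] at h
    rw [QuotientGroup.eq]
    convert h using 1
    apply Subtype.ext
    show ((g : GL chevG2.Idx K) * (u * Ctx.cn))⁻¹ *
      ((g : GL chevG2.Idx K) * u * (g : GL chevG2.Idx K)⁻¹ * Ctx.cn) =
        ((g : GL chevG2.Idx K) * Ctx.cn)⁻¹ * Ctx.cn
    group
  rw [key]
  constructor
  · intro h
    rw [pt, pt, QuotientGroup.eq] at h
    have h' : ((g : GL chevG2.Idx K) * u * (g : GL chevG2.Idx K)⁻¹ * Ctx.cn)⁻¹ * (u * Ctx.cn) ∈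
        chevG2.borelSubgroup K ⊓ X.G1 := h
    obtain ⟨t, ht, v, hv, he⟩ := X.classes.mem_B1 h'
    have e : u * Ctx.cn * 1 = ((g : GL chevG2.Idx K) * u * (g : GL chevG2.Idx K)⁻¹ *
        (Ctx.cn * t * (Ctx.cn : GL chevG2.Idx K)⁻¹)) * Ctx.cn * v := by
      calc u * Ctx.cn * 1 = ((g : GL chevG2.Idx K) * u * (g : GL chevG2.Idx K)⁻¹ * Ctx.cn) *
            (((g : GL chevG2.Idx K) * u * (g : GL chevG2.Idx K)⁻¹ * Ctx.cn)⁻¹ * (u * Ctx.cn)) := by
            group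
        _ = _ := by rw [he]; group
    obtain ⟨e1, -⟩ := form_unique' X (Sys.U_le_B hu.1)
      (mul_mem (Sys.U_le_B hcu.1) (Sys.H_le_B (cn_conj_H X ht.1))) (one_mem _) hv.1 e
    have hmem : ((g : GL chevG2.Idx K) * u * (g : GL chevG2.Idx K)⁻¹)⁻¹ * u ∈
        chevG2.posUnipotent K ⊓ chevG2.diagonalSubgroup K := by
      refine Subgroup.mem_inf.2 ⟨mul_mem (inv_mem hcu.1) hu.1, ?_⟩
      nth_rw 2 [e1]
      rw [inv_mul_cancel_left]
      exact cn_conj_H X ht.1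
    rw [X.tw.S.U_inf_H, Subgroup.mem_bot, inv_mul_eq_one] at hmem
    exact mul_inv_eq_iff_eq_mul.1 hmem
  · intro h
    have : (g : GL chevG2.Idx K) * u * (g : GL chevG2.Idx K)⁻¹ = u :=
      mul_inv_eq_iff_eq_mul.2 h
    congr 3

theorem triple_le {x y z : ↥X.G1 ⧸ Bs X} (hxy : x ≠ y) (hxz : x ≠ z) (hyz : y ≠ z) :
    Nat.card ↥(St X x y z) ≤ 2 := by
  classical
  have split : ∀ a : ↥X.G1, (a : ↥X.G1 ⧸ Bs X) ≠ ((1 : ↥X.G1) : ↥X.G1 ⧸ Bs X) →
      ∃ b : ↥X.G1, (b : GL chevG2.Idx K) ∈ chevG2.borelSubgroup K ∧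
        (a : ↥X.G1 ⧸ Bs X) = b • (w X : ↥X.G1 ⧸ Bs X) := by
    intro a ha
    rcases X.form a.2 with h | ⟨b, hb, u, hu, e⟩
    · exact absurd (by rw [QuotientGroup.eq, mul_one]; exact inv_mem (Bs_mem X h.1)) ha
    · refine ⟨⟨b, hb.2⟩, hb.1, ?_⟩
      rw [MulAction.Quotient.smul_coe, smul_eq_mul, QuotientGroup.eq]
      refine Bs_mem X ?_
      show (a : GL chevG2.Idx K)⁻¹ * (b * Ctx.cn) ∈ _
      rw [e, show (b * Ctx.cn * u)⁻¹ * (b * (Ctx.cn : GL chevG2.Idx K)) = u⁻¹ by group]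
      exact inv_mem (Sys.U_le_B hu.1)
  have fixB : ∀ b : ↥X.G1, (b : GL chevG2.Idx K) ∈ chevG2.borelSubgroup K →
      b • ((1 : ↥X.G1) : ↥X.G1 ⧸ Bs X) = ((1 : ↥X.G1) : ↥X.G1 ⧸ Bs X) := fun b hb => by
    rw [MulAction.Quotient.smul_coe, smul_eq_mul, QuotientGroup.eq, mul_one, mul_one]
    exact inv_mem (Bs_mem X hb)
  obtain ⟨g1, rfl⟩ := QuotientGroup.mk_surjective x
  have hx : g1⁻¹ • (g1 : ↥X.G1 ⧸ Bs X) = ((1 : ↥X.G1) : ↥X.G1 ⧸ Bs X) := by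
    rw [MulAction.Quotient.smul_coe, smul_eq_mul, inv_mul_cancel]
  rw [← St_smul X g1⁻¹, hx]
  rw [← (MulAction.injective g1⁻¹).ne_iff, hx] at hxy hxz
  rw [← (MulAction.injective g1⁻¹).ne_iff] at hyz
  generalize g1⁻¹ • y = y' at hxy hyz ⊢
  generalize g1⁻¹ • z = z' at hxz hyz ⊢
  obtain ⟨a, rfl⟩ := QuotientGroup.mk_surjective y'
  obtain ⟨b, hb, hy⟩ := split a hxy.symm
  have hy' : b⁻¹ • (a : ↥X.G1 ⧸ Bs X) = (w X : ↥X.G1 ⧸ Bs X) := by
    rw [hy, inv_smul_smul]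
  have hx' := fixB b⁻¹ (inv_mem hb)
  rw [← St_smul X b⁻¹, hx', hy']
  rw [← (MulAction.injective b⁻¹).ne_iff, hx'] at hxz
  rw [← (MulAction.injective b⁻¹).ne_iff, hy'] at hyz
  generalize b⁻¹ • z' = z'' at hxz hyz ⊢
  obtain ⟨c, rfl⟩ := QuotientGroup.mk_surjective z''
  obtain ⟨d, hd, hz⟩ := split c hxz.symm
  obtain ⟨h, hh, u, hu, he⟩ := X.classes.mem_B1 (Subgroup.mem_inf.2 ⟨hd, d.2⟩)
  have huc : h * u * h⁻¹ ∈ chevG2.posUnipotent K ⊓ X.G1 :=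
    Subgroup.mem_inf.2 ⟨X.tw.S.H_conj_U hh.1 hu.1, mul_mem (mul_mem hh.2 hu.2) (inv_mem hh.2)⟩
  have hd' : d = (⟨h * u * h⁻¹, huc.2⟩ : ↥X.G1) * ⟨h, hh.2⟩ := Subtype.ext (by
    show (d : GL chevG2.Idx K) = h * u * h⁻¹ * h
    rw [he, inv_mul_cancel_right])
  have hz' : (c : ↥X.G1 ⧸ Bs X) = pt X huc := by
    rw [hz, hd', mul_smul, (H_fix X (g := ⟨h, hh.2⟩) hh.1).2, MulAction.Quotient.smul_coe,
      smul_eq_mul]
  have hne : h * u * h⁻¹ ≠ 1 := by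
    intro e
    apply hyz
    rw [hz', pt]
    congr 1
    exact Subtype.ext (by simp [e])
  rw [hz']
  let f : ↥(St X ((1 : ↥X.G1) : ↥X.G1 ⧸ Bs X) (w X : ↥X.G1 ⧸ Bs X) (pt X huc)) → Bool :=
    fun g => decide (g.1 = 1)
  refine (Nat.card_le_card_of_injective f fun g g' hgg => ?_).trans (by simp)
  have key : ∀ g : ↥(St X ((1 : ↥X.G1) : ↥X.G1 ⧸ Bs X) (w X : ↥X.G1 ⧸ Bs X) (pt X huc)),
      g.1 = 1 ∨ (g.1 : GL chevG2.Idx K) = av X := by
    rintro ⟨g, ⟨⟨h0, h1⟩, h2⟩⟩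
    have hH := two_points X h0 h1
    have hcomm := (fix_pt X hH huc).1 h2
    obtain ⟨s, hs⟩ := X.H1_le (Subgroup.mem_inf.2 ⟨hH, g.2⟩)
    by_cases hs1 : s = 1
    · exact Or.inl (Subtype.ext (by rw [← hs, hs1, map_one]; rfl))
    by_cases hs2 : s = -1
    · exact Or.inr (by rw [← hs, hs2]; rfl)
    exact absurd (ReeOrderThree17.cent_bot X hs1 hs2 huc (by rw [hs]; exact hcomm)) hne
  simp only [f, decide_eq_decide] at hgg
  apply Subtype.ext
  rcases key g with hg | hg <;> rcases key g' with hg' | hg'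
  · rw [hg, hg']
  · rw [hg, hgg.1 hg]
  · rw [hgg.2 hg', hg']
  · exact Subtype.ext (hg.trans hg'.symm)

theorem triple_two : ∃ x y z : ↥X.G1 ⧸ Bs X, x ≠ y ∧ x ≠ z ∧ y ≠ z ∧
    Nat.card ↥(St X x y z) = 2 := by
  set u := psi X.θ (ChevalleySL2.upper (1 : K)) with hu'
  have hu : u ∈ chevG2.posUnipotent K ⊓ X.G1 :=
    Subgroup.mem_inf.2 ⟨psi_upper_mem_U _ _, ReeSL2.range_le X.θ X.spec X.e_ne ⟨_, rfl⟩⟩
  have hu1 : u ≠ 1 := fun h => one_ne_zero (psi_upper_eq_one X.θ h)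
  have nb : ∀ v ∈ chevG2.posUnipotent K, ∀ b ∈ chevG2.borelSubgroup K ⊓ X.G1,
      v * (Ctx.cn : GL chevG2.Idx K) ≠ b := by
    intro v hv b hb e
    have h1 : (Ctx.cn : GL chevG2.Idx K) ∈ chevG2.borelSubgroup K := by
      rw [eq_inv_mul_of_mul_eq e]
      exact mul_mem (inv_mem (Sys.U_le_B hv)) hb.1
    obtain ⟨hN, hw⟩ := X.cn_toW
    have hH : (⟨_, hN⟩ : ↥(chevG2.monomialSubgroup K)) ∈ X.tw.S.toW.ker :=
      X.tw.S.toW_ker.ge (X.tw.S.B_inf_N.le ⟨h1, hN⟩)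
    exact X.w0_ne_one (hw.symm.trans hH)
  have hxy : ((1 : ↥X.G1) : ↥X.G1 ⧸ Bs X) ≠ (w X : ↥X.G1 ⧸ Bs X) := by
    intro h
    rw [QuotientGroup.eq, inv_one, one_mul] at h
    exact nb 1 (one_mem _) _ h (one_mul _)
  have hxz : ((1 : ↥X.G1) : ↥X.G1 ⧸ Bs X) ≠ pt X hu := by
    intro h
    rw [pt, QuotientGroup.eq, inv_one, one_mul] at h
    exact nb u hu.1 _ h rfl
  have hyz : (w X : ↥X.G1 ⧸ Bs X) ≠ pt X hu := by
    intro h
    rw [pt, QuotientGroup.eq] at h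
    have h' : (Ctx.cn : GL chevG2.Idx K)⁻¹ * (u * Ctx.cn) ∈ chevG2.borelSubgroup K ⊓ X.G1 := h
    obtain ⟨t, ht, v, hv, he⟩ := X.classes.mem_B1 h'
    have e : u * Ctx.cn * 1 = (Ctx.cn * t * (Ctx.cn : GL chevG2.Idx K)⁻¹) * Ctx.cn * v := by
      calc u * Ctx.cn * 1 = Ctx.cn * ((Ctx.cn : GL chevG2.Idx K)⁻¹ * (u * Ctx.cn)) := by group
        _ = _ := by rw [he]; group
    obtain ⟨e1, -⟩ := form_unique' X (Sys.U_le_B hu.1) (Sys.H_le_B (cn_conj_H X ht.1))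
      (one_mem _) hv.1 e
    have hm := Subgroup.mem_inf.2 ⟨hu.1, e1 ▸ cn_conj_H X ht.1⟩
    rw [X.tw.S.U_inf_H, Subgroup.mem_bot] at hm
    exact hu1 hm
  refine ⟨_, _, _, hxy, hxz, hyz, le_antisymm (triple_le X hxy hxz hyz) ?_⟩
  let a : ↥X.G1 := ⟨av X, av_mem X⟩
  have ha : a ∈ St X ((1 : ↥X.G1) : ↥X.G1 ⧸ Bs X) (w X : ↥X.G1 ⧸ Bs X) (pt X hu) := by
    obtain ⟨h0, h1⟩ := H_fix X (g := a) (av_mem_H X)
    exact ⟨⟨h0, h1⟩, (fix_pt X (g := a) (av_mem_H X) hu).2 (psi_comm X (av_mem X) _).eq⟩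
  let f : Bool → ↥(St X ((1 : ↥X.G1) : ↥X.G1 ⧸ Bs X) (w X : ↥X.G1 ⧸ Bs X) (pt X hu)) :=
    fun b => if b then ⟨a, ha⟩ else 1
  have hf : Function.Injective f := by
    have hne : a ≠ 1 := fun h => av_ne_one X (av_mem X) (congrArg Subtype.val h)
    intro b b' h
    have h' := congrArg Subtype.val h
    cases b <;> cases b' <;> simp only [f, Bool.false_eq_true, ↓reduceIte] at h' <;> first
      | rfl
      | exact absurd h' hne
      | exact absurd h'.symm hne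
  simpa using Nat.card_le_card_of_injective f hf

end Cfsg.Agent.ReeInvolutions17
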