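import Mathlib

/-!
The eigenvalue argument bounding fusion in cyclic subgroups whose order is a prime power
dividing `q² - q + 1`, for a group with a representation of degree at most 14 over the field
with `q` elements.
-/

set_option autoImplicit false

namespace Cfsg.Agent.ReeRep8

open Polynomial

theorem exists_root_orderOf {L : Type*} [Field L] [IsAlgClosed L] {ι : Type*} [Fintype ι]
    [DecidableEq ι] (A : Matrix ι ι L) {r b : ℕ} (hr : r.Prime) (hn : ((r ^ (b + 1) : ℕ) : L) ≠ 0)
    (hA : A ^ r ^ (b + 1) = 1) (hA' : A ^ r ^ b ≠ 1) :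
    ∃ x : L, A.charpoly.IsRoot x ∧ orderOf x = r ^ (b + 1) := by
  classical
  have : Fact r.Prime := ⟨hr⟩
  by_contra hne
  push Not at hne
  have hint : IsIntegral L A := Algebra.IsIntegral.isIntegral A
  have hdvd : minpoly L A ∣ X ^ r ^ (b + 1) - 1 := minpoly.dvd L A (by simp [hA])
  have hsep : (minpoly L A).Separable := by
    refine Polynomial.Separable.of_dvd ?_ hdvd
    exact (X_pow_sub_one_separable_iff).2 hn
  have hprod := (IsAlgClosed.splits (minpoly L A)).eq_prod_roots_of_monic (minpoly.monic hint)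
  have hroot : ∀ x ∈ (minpoly L A).roots, x ^ r ^ b = 1 := by
    intro x hx
    have hx' := (mem_roots (minpoly.ne_zero hint)).1 hx
    have hxn : x ^ r ^ (b + 1) = 1 := by
      have h := hx'.dvd hdvd
      simpa [sub_eq_zero] using h
    by_contra h
    exact hne x (hx'.dvd (Matrix.minpoly_dvd_charpoly A)) (orderOf_eq_prime_pow h hxn)
  have hne0 : (X ^ r ^ b - 1 : L[X]) ≠ 0 := by
    rw [← C_1]
    exact X_pow_sub_C_ne_zero (pow_pos hr.pos b) 1
  have hle : (minpoly L A).roots ≤ (X ^ r ^ b - 1 : L[X]).roots :=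
    (Multiset.le_iff_subset (nodup_roots hsep)).2 fun x hx =>
      (mem_roots hne0).2 (by simp [hroot x hx])
  have hd : minpoly L A ∣ X ^ r ^ b - 1 := by
    conv_lhs => rw [hprod]
    exact (Multiset.prod_X_sub_C_dvd_iff_le_roots hne0 _).2 hle
  obtain ⟨c, hc⟩ := hd
  have := congrArg (aeval A) hc
  simp [minpoly.aeval] at this
  exact hA' (sub_eq_zero.1 this)

/-- If `g y g⁻¹ = y ^ k` and `y` has prime power order dividing a power of a prime `r` dividing
`q² - q + 1`, then `g ^ 12` commutes with `y`. -/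
theorem pow_twelve {G : Type*} [Group G] [Finite G] {K : Type*} [Field K] [Fintype K]
    {ι : Type*} [Fintype ι] [DecidableEq ι] (hι : Fintype.card ι ≤ 14)
    (f : G →* Matrix ι ι K) (hf : Function.Injective f) {q : ℕ} (hq : Fintype.card K = q)
    (hq3 : 3 ∣ q) (hqodd : Odd q) (r c k : ℕ) (g y : G) (hr : r.Prime) (hd : r ∣ q ^ 2 - q + 1)
    (hy : y ^ r ^ c = 1) (hconj : g * y * g⁻¹ = y ^ k) : Commute (g ^ 12) y := by
  classical
  obtain ⟨i, -, hi⟩ := (Nat.dvd_prime_pow hr).1 (orderOf_dvd_of_pow_eq_one hy)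
  rcases i with _ | b
  · rw [pow_zero, orderOf_eq_one_iff] at hi
    rw [hi]; exact Commute.one_right _
  obtain ⟨n, hn⟩ : ∃ n, n = r ^ (b + 1) := ⟨_, rfl⟩
  rw [← hn] at hi
  have hq1 : 1 < q := hq ▸ Fintype.one_lt_card
  have hN : q ^ 2 - q + 1 = q * (q - 1) + 1 := by rw [Nat.mul_sub, mul_one, sq]
  have hrq : ¬r ∣ q := fun h => by
    have := (Nat.dvd_add_right (dvd_mul_of_dvd_left h (q - 1))).1 (hN ▸ hd)
    exact hr.ne_one (Nat.dvd_one.1 this)
  have hr2 : r ≠ 2 := by
    rintro rfl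
    obtain ⟨j, rfl⟩ := hqodd
    rw [hN, show 2 * j + 1 - 1 = 2 * j by omega] at hd
    have := (Nat.dvd_add_right (dvd_mul_of_dvd_right (dvd_mul_right 2 j) _)).1 hd
    omega
  have hr3 : r ≠ 3 := fun h => hrq (h ▸ hq3)
  have : Fact r.Prime := ⟨hr⟩
  have hK : ((r : ℕ) : K) ≠ 0 := by
    intro h0
    obtain ⟨p, hp⟩ := CharP.exists K
    obtain ⟨e, hp', he⟩ := FiniteField.card K p
    have hpr : p = r := (Nat.prime_dvd_prime_iff_eq hp' hr).1 ((CharP.cast_eq_zero_iff K p r).1 h0)
    rw [hq, hpr] at he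
    exact hrq (he ▸ dvd_pow_self r e.ne_zero)
  let L := AlgebraicClosure K
  have hnL : ((r ^ (b + 1) : ℕ) : L) ≠ 0 := by
    rw [Nat.cast_pow]
    refine pow_ne_zero _ ?_
    rw [← map_natCast (algebraMap K L)]
    exact (map_ne_zero (algebraMap K L)).2 hK
  let fL : G →* Matrix ι ι L := ((algebraMap K L).mapMatrix : Matrix ι ι K →+* Matrix ι ι L).toMonoidHom.comp f
  have hfL : Function.Injective fL := fun a a' e => hf <| by
    have := e
    simp only [fL, MonoidHom.coe_comp, Function.comp_apply, RingHom.toMonoidHom_eq_coe,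
      MonoidHom.coe_coe, RingHom.mapMatrix_apply] at this
    exact Matrix.map_injective (algebraMap K L).injective this
  have hcp : ∀ a, (fL a).charpoly = (f a).charpoly.map (algebraMap K L) := fun a =>
    Matrix.charpoly_map (f a) (algebraMap K L)
  obtain ⟨x, hx, hxo⟩ := exists_root_orderOf (fL y) hr hnL
    (by rw [← map_pow, ← hn, ← hi, pow_orderOf_eq_one, map_one])
    (fun e => by
      rw [← map_pow, ← map_one fL] at e
      have := orderOf_dvd_of_pow_eq_one (hfL e)
      rw [hi, hn, Nat.pow_dvd_pow_iff_le_right hr.one_lt] at this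
      omega)
  rw [← hn] at hxo
  -- the roots are closed under `z ↦ z ^ q` and `z ↦ z ^ k`
  have hFq : ∀ z, (fL y).charpoly.IsRoot z → (fL y).charpoly.IsRoot (z ^ q) := by
    intro z hz
    rw [hcp, IsRoot.def, eval_map, ← aeval_def] at hz ⊢
    rw [show z ^ q = (FiniteField.frobeniusAlgHom K L) z by simp [FiniteField.frobeniusAlgHom, hq],
      Polynomial.aeval_algHom_apply, hz, map_zero]
  have hFk : ∀ z, (fL y).charpoly.IsRoot z → (fL y).charpoly.IsRoot (z ^ k) := by
    intro z hz
    rw [← Matrix.mem_spectrum_iff_isRoot_charpoly] at hz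
    have h1 : z ^ k ∈ spectrum L ((fL y) ^ k) := spectrum.pow_mem_pow (fL y) k hz
    rw [← map_pow, ← hconj, Matrix.mem_spectrum_iff_isRoot_charpoly, map_mul, map_mul] at h1
    have hu : fL g⁻¹ = ((fL.toHomUnits g)⁻¹ : (Matrix ι ι L)ˣ).val := by
      rw [← map_inv]; rfl
    rw [hu, show fL g = ((fL.toHomUnits g) : (Matrix ι ι L)ˣ).val from rfl,
      Matrix.coe_units_inv, Matrix.charpoly_units_conj] at h1
    exact h1
  have hkc : Nat.Coprime k n := by
    have h1 : orderOf (y ^ k) = n := by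
      rw [← hconj, show g * y * g⁻¹ = MulAut.conj g y from rfl, MulEquiv.orderOf_eq, hi]
    rw [orderOf_pow, hi] at h1
    have hpos : 0 < n := hn ▸ pow_pos hr.pos _
    have hg := Nat.gcd_dvd_left n k
    have : n.gcd k = 1 := by
      rcases Nat.div_eq_self.1 h1 with h | h
      · omega
      · exact h
    rw [Nat.Coprime, Nat.gcd_comm]; exact this
  have hqc : Nat.Coprime q n := hn ▸ Nat.Coprime.pow_right _ ((Nat.Prime.coprime_iff_not_dvd hr).2 hrq).symm
  have : NeZero n := ⟨hn ▸ (pow_pos hr.pos _).ne'⟩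
  let uq : (ZMod n)ˣ := ZMod.unitOfCoprime q hqc
  let uk : (ZMod n)ˣ := ZMod.unitOfCoprime k hkc
  obtain ⟨S, hS⟩ : ∃ S : Subgroup (ZMod n)ˣ, S = Subgroup.zpowers uq ⊔ Subgroup.zpowers uk :=
    ⟨_, rfl⟩
  have hmem : ∀ u ∈ S, (fL y).charpoly.IsRoot (x ^ (u : ZMod n).val) := by
    intro u hu
    rw [hS, Subgroup.mem_sup] at hu
    obtain ⟨_, hi1, _, hj1, rfl⟩ := hu
    obtain ⟨i, rfl⟩ := (mem_powers_iff_mem_zpowers).2 hi1
    obtain ⟨j, rfl⟩ := (mem_powers_iff_mem_zpowers).2 hj1
    have hval : x ^ ((uq ^ i * uk ^ j : (ZMod n)ˣ) : ZMod n).val = x ^ (q ^ i * k ^ j) := by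
      rw [Units.val_mul, Units.val_pow_eq_pow_val, Units.val_pow_eq_pow_val,
        ZMod.coe_unitOfCoprime, ZMod.coe_unitOfCoprime, ← Nat.cast_pow, ← Nat.cast_pow,
        ← Nat.cast_mul, ZMod.val_natCast, ← hxo, pow_mod_orderOf]
    rw [hval, pow_mul]
    have hi' : ∀ z, (fL y).charpoly.IsRoot z → (fL y).charpoly.IsRoot (z ^ q ^ i) := by
      clear hi1 hval
      induction i with
      | zero => intro z hz; simpa using hz
      | succ i ih => intro z hz; rw [pow_succ, pow_mul]; exact hFq _ (ih z hz)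
    have hj' : ∀ z, (fL y).charpoly.IsRoot z → (fL y).charpoly.IsRoot (z ^ k ^ j) := by
      clear hj1 hval
      induction j with
      | zero => intro z hz; simpa using hz
      | succ j ih => intro z hz; rw [pow_succ, pow_mul]; exact hFk _ (ih z hz)
    exact hj' _ (hi' _ hx)
  have hcard : Nat.card S ≤ 14 := by
    let φ : S → (fL y).charpoly.roots.toFinset := fun u =>
      ⟨x ^ ((u : (ZMod n)ˣ) : ZMod n).val, by
        rw [Multiset.mem_toFinset, mem_roots (Matrix.charpoly_monic _).ne_zero]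
        exact hmem _ u.2⟩
    have hφ : Function.Injective φ := fun u v e => by
      have e' : x ^ ((u : (ZMod n)ˣ) : ZMod n).val = x ^ ((v : (ZMod n)ˣ) : ZMod n).val :=
        congrArg Subtype.val e
      exact Subtype.ext (Units.ext (ZMod.val_injective n
        (pow_injOn_Iio_orderOf (hxo.symm ▸ ZMod.val_lt _) (hxo.symm ▸ ZMod.val_lt _) e')))
    refine (Nat.card_le_card_of_injective φ hφ).trans ?_
    rw [Nat.card_eq_fintype_card, Fintype.card_coe]
    refine (Multiset.toFinset_card_le _).trans ((card_roots' _).trans ?_)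
    rwa [Matrix.charpoly_natDegree_eq_dim]
  have h6 : 6 ∣ orderOf uq := by
    let π : ZMod n →+* ZMod r := ZMod.castHom (hn ▸ dvd_pow_self r (Nat.succ_ne_zero b)) (ZMod r)
    have hN0 : (q : ZMod r) ^ 2 - (q : ZMod r) + 1 = 0 := by
      have h := (ZMod.natCast_eq_zero_iff _ _).2 hd
      rw [hN] at h
      push_cast [Nat.cast_sub hq1.le] at h
      linear_combination h
    have h3 : (q : ZMod r) ^ 3 = -1 := by linear_combination ((q : ZMod r) + 1) * hN0
    have h1 : (1 : ZMod r) ≠ -1 := fun e => by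
      have h : ((2 : ℕ) : ZMod r) = 0 := by push_cast; linear_combination e
      rw [ZMod.natCast_eq_zero_iff] at h
      exact hr2 ((Nat.prime_dvd_prime_iff_eq hr Nat.prime_two).1 h)
    have hsq : (q : ZMod r) ^ 2 ≠ 1 := fun e => by
      have hq' : (q : ZMod r) = 2 := by linear_combination -hN0 + e
      have h : ((3 : ℕ) : ZMod r) = 0 := by push_cast; rw [hq'] at e; linear_combination e
      rw [ZMod.natCast_eq_zero_iff] at h
      exact hr3 ((Nat.prime_dvd_prime_iff_eq hr Nat.prime_three).1 h)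
    have h6' : (q : ZMod r) ^ 6 = 1 := by linear_combination ((q : ZMod r) ^ 3 - 1) * h3
    have hord : orderOf (q : ZMod r) = 6 := by
      have hd6 := orderOf_dvd_of_pow_eq_one h6'
      have hpos := pow_orderOf_eq_one (q : ZMod r)
      have hle := Nat.le_of_dvd (by norm_num) hd6
      interval_cases hv : orderOf (q : ZMod r)
      · simp at hd6
      · rw [pow_one] at hpos
        exact absurd (by rw [hpos, one_pow]) hsq
      · exact absurd hpos hsq
      · rw [h3] at hpos
        exact absurd hpos.symm h1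
      · norm_num at hd6
      · norm_num at hd6
      · rfl
    rw [← hord]
    apply orderOf_dvd_of_pow_eq_one
    have h := congrArg (fun u : (ZMod n)ˣ => π (u : ZMod n)) (pow_orderOf_eq_one uq)
    simp only [Units.val_pow_eq_pow_val, Units.val_one, map_pow, map_one] at h
    rwa [show ((uq : (ZMod n)ˣ) : ZMod n) = (q : ZMod n) from ZMod.coe_unitOfCoprime q hqc,
      map_natCast] at h
  have hk12 : uk ^ 12 = 1 := by
    have hqS : uq ∈ S := hS ▸ Subgroup.mem_sup_left (Subgroup.mem_zpowers _)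
    have hkS : uk ∈ S := hS ▸ Subgroup.mem_sup_right (Subgroup.mem_zpowers _)
    have h6S : 6 ∣ Nat.card S := h6.trans (Subgroup.orderOf_dvd_natCard _ hqS)
    have hpos : 0 < Nat.card S := Nat.card_pos
    have h12 : Nat.card S ∣ 12 := by
      rcases (show Nat.card S = 6 ∨ Nat.card S = 12 by omega) with e | e <;> rw [e]
      norm_num
    exact orderOf_dvd_iff_pow_eq_one.1 ((Subgroup.orderOf_dvd_natCard _ hkS).trans h12)
  have hmod : y ^ k ^ 12 = y := by
    have h : ((k ^ 12 : ℕ) : ZMod n) = ((1 : ℕ) : ZMod n) := by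
      have := congrArg Units.val hk12
      rw [Units.val_pow_eq_pow_val, ZMod.coe_unitOfCoprime, Units.val_one] at this
      rw [Nat.cast_pow, this, Nat.cast_one]
    rw [ZMod.natCast_eq_natCast_iff, ← hi] at h
    rw [pow_eq_pow_iff_modEq.2 h, pow_one]
  have hiter : ∀ i : ℕ, g ^ i * y * (g ^ i)⁻¹ = y ^ k ^ i := fun i => by
    induction i with
    | zero => simp
    | succ i ih =>
      rw [show g ^ (i + 1) * y * (g ^ (i + 1))⁻¹ = g * (g ^ i * y * (g ^ i)⁻¹) * g⁻¹ by
        rw [pow_succ']; group, ih, ← conj_pow, hconj, ← pow_mul, pow_succ']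
  exact mul_inv_eq_iff_eq_mul.1 ((hiter 12).trans hmod)

end Cfsg.Agent.ReeRep8
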