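import Cfsg.Agent.Lib.ReeLocal8
import Cfsg.Agent.Lib.ReeRep8
import Cfsg.Agent.Lib.ReeInvolutions17
import Cfsg.Agent.Lib.ReeSylow17

/-!
The small Ree groups satisfy the hypotheses `ReeData` of the abstract local analysis.
-/

set_option autoImplicit false
set_option linter.unusedSectionVars false
set_option maxRecDepth 20000

namespace Cfsg.Agent.ReeInstData17

open Cfsg.Lie Cfsg.Agent.ChevalleyCore Cfsg.Agent.ReeSL2 Cfsg.Agent.ReeTwist17
open Cfsg.Agent.ReeInstance17 Cfsg.Agent.ReeTorus17 Cfsg.Agent.ReeSylow17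
open Cfsg.Agent.ReeCentralizer17 Cfsg.Agent.ChevBruhat Cfsg.Agent.ReeInvolutions17
open Cfsg.Agent.ChevExcGraphData
open scoped MatrixGroups Pointwise

section Proofs

variable {K : Type*} [Field K] [Fintype K] [CharP K 3] (X : Ctx K)
variable {m : ℕ} (hK : Fintype.card K = 3 ^ (2 * m + 1))
include hK

theorem exp_two (x : ↥X.G1) (hx : x ^ 4 = 1) : x ^ 2 = 1 := by
  haveI : Fact (Nat.Prime 2) := ⟨Nat.prime_two⟩
  obtain ⟨i, -, hi⟩ := (Nat.dvd_prime_pow Nat.prime_two).1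
    (orderOf_dvd_of_pow_eq_one (show x ^ 2 ^ 2 = 1 from hx))
  obtain ⟨S, hS⟩ := (IsPGroup.of_card (n := i)
    (by rw [Nat.card_zpowers, hi]) : IsPGroup 2 (Subgroup.zpowers x)).exists_le_sylow
  rw [pow_two]
  exact (sylow_two X (av_mem X) hK S).2 x (hS (Subgroup.mem_zpowers x))

theorem exists_sylow : ∃ U : Sylow 3 ↥X.G1, (U : Subgroup ↥X.G1) = U0 X := by
  haveI : Fact (Nat.Prime 3) := ⟨Nat.prime_three⟩
  obtain ⟨h3a, h3b⟩ := three_not_dvd hK
  have h1 : 1 < Fintype.card K := Fintype.one_lt_card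
  refine ⟨Sylow.ofCard (U0 X) ?_, rfl⟩
  rw [card_U0, card_G1_eq, Nat.factorization_mul (mul_ne_zero (by omega)
      (pow_ne_zero _ (by omega))) (by omega),
    Nat.factorization_mul (by omega) (pow_ne_zero _ (by omega))]
  simp only [Finsupp.add_apply]
  rw [Nat.factorization_eq_zero_of_not_dvd h3a, Nat.factorization_eq_zero_of_not_dvd h3b,
    hK, ← pow_mul, Nat.factorization_pow, Finsupp.smul_apply, Nat.Prime.factorization_self Nat.prime_three]
  simp [mul_comm]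

omit hK in
theorem normalizer_le_Bs : Subgroup.normalizer (U0 X : Set ↥X.G1) ≤ Bs X := by
  intro n hn
  have h1 : 1 < Fintype.card K := Fintype.one_lt_card
  obtain ⟨u, hu, hu1⟩ : ∃ u ∈ U0 X, u ≠ 1 := by
    refine (Subgroup.bot_or_exists_ne_one (U0 X)).resolve_left fun h => ?_
    have := card_U0 X
    rw [h, Subgroup.card_bot] at this
    have := Nat.le_self_pow (show (3 : ℕ) ≠ 0 by norm_num) (Fintype.card K)
    omega
  refine Bs_mem X (mem_B_of_conj X n.2 (x := ((n * u * n⁻¹ : ↥X.G1) : GL chevG2.Idx K)) ?_ ?_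
    (y := (u : GL chevG2.Idx K)) ⟨hu.1, u.2⟩ rfl)
  · exact ⟨((Subgroup.mem_normalizer_iff.1 hn u).1 hu).1, (n * u * n⁻¹).2⟩
  · intro h
    exact hu1 (conj_eq_one_iff.1 (Subtype.ext h))

omit hK in
theorem Bs_le_normalizer : Bs X ≤ Subgroup.normalizer (U0 X : Set ↥X.G1) := by
  intro b hb
  rw [Subgroup.mem_normalizer_iff]
  refine fun u => ⟨fun hu => ⟨conj_U X hb.1 hu.1, (b * u * b⁻¹).2⟩, fun hu => ⟨?_, u.2⟩⟩
  have := conj_U X (inv_mem hb.1) hu.1
  simpa [mul_assoc] using this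

theorem three_pt (x : ↥X.G1) (hx : x ^ 2 ≠ 1) :
    Nat.card {P : Sylow 3 ↥X.G1 // x ∈ Subgroup.normalizer (P : Set ↥X.G1)} ≤ 2 := by
  classical
  haveI : Fact (Nat.Prime 3) := ⟨Nat.prime_three⟩
  obtain ⟨U, hU⟩ := exists_sylow X hK
  have hex : ∀ P : Sylow 3 ↥X.G1, ∃ g : ↥X.G1, g • U = P := fun P =>
    MulAction.exists_smul_eq ↥X.G1 U P
  choose g hg using hex
  have heq : (U : Set ↥X.G1) = (U0 X : Set ↥X.G1) := by rw [← hU]; rfl
  by_contra hlt
  push Not at hlt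
  let ι := {P : Sylow 3 ↥X.G1 // x ∈ Subgroup.normalizer (P : Set ↥X.G1)}
  let f : ι → ↥X.G1 ⧸ Bs X := fun P => (g P.1 : ↥X.G1 ⧸ Bs X)
  have hf : Function.Injective f := by
    intro P Q h
    apply Subtype.ext
    have hb := Bs_le_normalizer X (QuotientGroup.eq.1 h)
    rw [← heq] at hb
    replace hb := Sylow.smul_eq_iff_mem_normalizer.2 hb
    rw [← hg P.1, ← hg Q.1]
    rw [mul_smul, inv_smul_eq_iff] at hb
    exact hb.symm
  have hfix : ∀ P : ι, x • f P = f P := by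
    intro P
    have h : x • P.1 = P.1 := Sylow.smul_eq_iff_mem_normalizer.2 P.2
    rw [← hg P.1, ← mul_smul, ← inv_smul_eq_iff, ← mul_smul,
      Sylow.smul_eq_iff_mem_normalizer, heq] at h
    have hb := normalizer_le_Bs X h
    show x • (g P.1 : ↥X.G1 ⧸ Bs X) = (g P.1 : ↥X.G1 ⧸ Bs X)
    rw [MulAction.Quotient.smul_coe, smul_eq_mul, eq_comm, QuotientGroup.eq]
    exact hb
  haveI := Fintype.ofFinite ι
  rw [Nat.card_eq_fintype_card] at hlt
  obtain ⟨P, Q, R, hPQ, hPR, hQR⟩ := Fintype.two_lt_card_iff.1 hlt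
  have hle := triple_le X (hf.ne hPQ) (hf.ne hPR) (hf.ne hQR)
  have hmem : x ∈ St X (f P) (f Q) (f R) := ⟨⟨hfix P, hfix Q⟩, hfix R⟩
  have hxle : orderOf x ≤ 2 := by
    rw [← Nat.card_zpowers]
    exact (Subgroup.card_le_of_le (Subgroup.zpowers_le.2 hmem)).trans hle
  apply hx
  have hpos := orderOf_pos x
  refine orderOf_dvd_iff_pow_eq_one.1 ?_
  interval_cases orderOf x <;> norm_num

omit hK in
theorem gen_cube_zero {w : GL chevG2.Idx K} (hw : w ∈ chevG2.posUnipotent K ⊓ X.G1) :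
    ∃ u v, w ^ 3 = gen X.θ false 0 u v := by
  obtain ⟨t, u, v, rfl⟩ := X.mem_U1 hw
  obtain ⟨t', u', v', h⟩ := X.mem_U1 (pow_mem hw 3)
  have h3 : (3 : K) = 0 := by exact_mod_cast CharP.cast_eq_zero K 3
  have h' := h
  rw [pow_three', gen, gen, ReeOrderThree17.Uf_mul, ReeOrderThree17.Uf_mul] at h'
  obtain ⟨-, ht, -, -, -, -⟩ := Uf_inj h'
  refine ⟨u', v', ?_⟩
  rw [h]
  have : t' = 0 := by rw [← ht]; linear_combination t * h3
  rw [this]

omit hK in
theorem nine {u : ↥X.G1} (hu : u ∈ U0 X) : u ^ 9 = 1 := by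
  obtain ⟨a, b, h⟩ := gen_cube_zero X (w := (u : GL chevG2.Idx K)) ⟨hu.1, u.2⟩
  refine Subtype.ext ?_
  show (u : GL chevG2.Idx K) ^ 9 = 1
  rw [show 9 = 3 * 3 from rfl, pow_mul, h]
  exact (ReeOrderThree17.gen_cube_iff X 0 a b).2 rfl

omit hK in
theorem exists_nine : ∃ u ∈ U0 X, u ^ 3 ≠ 1 :=
  ⟨⟨gen X.θ false 1 0 0, (ReeSimple17.gen_U1 X _ _ _).2⟩,
    Subgroup.mem_subgroupOf.2 (ReeSimple17.gen_U1 X 1 0 0), fun h => ReeOrderThree17.gen_one_cube X 0 0 (congrArg Subtype.val h)⟩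

theorem twelve (r c k : ℕ) (g y : ↥X.G1) (hr : r.Prime)
    (hd : r ∣ Fintype.card K ^ 2 - Fintype.card K + 1) (hy : y ^ r ^ c = 1)
    (hc : g * y * g⁻¹ = y ^ k) : Commute (g ^ 12) y := by
  classical
  haveI : CharP K excG2.p := (inferInstance : CharP K 3)
  let S : Sys chevG2 K := ChevBruhatInstance.sys chevG2 (by simp) K
  have hinn : Function.Injective (ChevExcGraph.inner excG2 c2 (F := K)).toHomUnits :=
    ChevExcGraph.inner_injective excG2 c2 S
  have hle : X.G1 ≤ chevG2.group K := fun g hg => (X.le_fixed hg).1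
  refine ReeRep8.pow_twelve (le_of_eq_of_le card_idx (by norm_num))
    ((ChevExcGraph.inner excG2 c2 (F := K)).comp (Subgroup.inclusion hle)) ?_ rfl
    (hK ▸ dvd_pow_self 3 (Nat.succ_ne_zero _)) (hK ▸ Odd.pow ⟨1, rfl⟩) r c k g y hr hd hy hc
  exact fun p p' h => Subgroup.inclusion_injective hle (hinn (Units.ext h))

theorem exists_data (hm : 1 ≤ m) : ∃ D : ReeLocal8.ReeData ↥X.G1, D.m = m ∧
    D.q = 3 ^ (2 * m + 1) ∧ (D.U : Subgroup ↥X.G1) = U0 X := by
  classical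
  haveI : Fact (Nat.Prime 3) := ⟨Nat.prime_three⟩
  obtain ⟨U, hU⟩ := exists_sylow X hK
  have hq3 : 3 < Fintype.card K := by
    rw [hK]
    calc 3 < 3 ^ 2 := by norm_num
      _ ≤ _ := Nat.pow_le_pow_right (by norm_num) (by omega)
  have h4 : Nat.card K % 4 = 3 := by
    rw [Nat.card_eq_fintype_card, hK, pow_succ, pow_mul, Nat.mul_mod, Nat.pow_mod]
    norm_num
  have hnmem : ∀ {x : ↥X.G1}, x ∈ (U : Set ↥X.G1) ↔ x ∈ (U0 X : Set ↥X.G1) := by
    intro x
    show x ∈ (U : Subgroup ↥X.G1) ↔ _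
    rw [hU]; rfl
  let a : ↥X.G1 := ⟨av X, av_mem X⟩
  have ha1 : a ≠ 1 := fun h => av_ne_one X (av_mem X) (congrArg Subtype.val h)
  have ha2 : a * a = 1 := Subtype.ext (av_sq X)
  obtain ⟨⟨e⟩, -⟩ := ReeCentralizer17.main hK X a (av_mem_H X) ha1 ha2
  let eH : ↥((chevG2.diagonalSubgroup K ⊓ X.G1).subgroupOf X.G1) ≃* Kˣ :=
    (Subgroup.subgroupOfEquivOfLe inf_le_right).trans (H1equiv X).symm
  refine ⟨{
    m := m
    q := 3 ^ (2 * m + 1)
    one_le_m := hm
    q_eq := rfl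
    card_eq := by
      rw [card_G1_eq, hK]; ring
    simple := (ReeSimple17.simple X hq3).1
    ti := sylow3_inter X hK
    exp_two := exp_two X hK
    cyclic := fun p hp hp3 P => haveI : Fact p.Prime := ⟨hp⟩; cyclic_p X hp3 hK P
    U := U
    H := (chevG2.diagonalSubgroup K ⊓ X.G1).subgroupOf X.G1
    H_cyclic := isCyclic_of_surjective eH.symm eH.symm.surjective
    card_H := by rw [Nat.card_congr (Subgroup.subgroupOfEquivOfLe inf_le_right).toEquiv, card_H1, hK]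
    H_le := by
      have e : (U : Set ↥X.G1) = (U0 X : Set ↥X.G1) := Set.ext fun x => hnmem
      rw [e]
      exact fun h hh => Bs_le_normalizer X (Bs_mem X (Sys.H_le_B hh.1))
    fpf := ?_
    a := a
    a_mem := ⟨av_mem_H X, av_mem X⟩
    a_ne := ha1
    a_sq := ha2
    cent := by
      have := ReePSL8.invCent_of_equiv h4
        (by rw [Nat.card_eq_fintype_card, hK]; exact dvd_pow_self 3 (Nat.succ_ne_zero _)) a ha1 ha2 e
      rwa [Nat.card_eq_fintype_card, hK] at this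
    nine := fun u hu => nine X (hnmem.1 hu)
    exists_nine := by
      obtain ⟨u, hu, h⟩ := exists_nine X
      exact ⟨u, hnmem.2 hu, h⟩
    twelve := fun r c k g y hr hd => twelve X hK r c k g y hr (by rw [hK]; exact hd)
  }, rfl, rfl, hU⟩
  intro h hh hne hodd u hu hc
  obtain ⟨s, hs⟩ := X.H1_le (Subgroup.mem_inf.2 hh)
  refine Subtype.ext (ReeOrderThree17.cent_bot X (c := s) ?_ ?_ ⟨(hnmem.1 hu).1, u.2⟩ ?_)
  · rintro rfl
    exact hne (Subtype.ext (by rw [map_one] at hs; exact hs.symm))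
  · rintro rfl
    have h2 : h ^ 2 = 1 := Subtype.ext (by
      show (h : GL chevG2.Idx K) ^ 2 = 1
      rw [show (h : GL chevG2.Idx K) = X.tor (-1) from hs.symm, ← map_pow, neg_one_sq, map_one])
    rcases (Nat.dvd_prime Nat.prime_two).1 (orderOf_dvd_of_pow_eq_one h2) with e1 | e1
    · exact hne (orderOf_eq_one_iff.1 e1)
    · rw [e1] at hodd; exact absurd hodd (by decide)
  · rw [hs]; exact congrArg Subtype.val hc.eq

end Proofs

/-- The small Ree group `²G₂(3^(2m+1))`, `m ≥ 1`, satisfies `ReeData`. -/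
theorem exists_reeData {K : Type*} [Field K] [Fintype K] {m : ℕ} (hm : 1 ≤ m)
    (hK : Fintype.card K = 3 ^ (2 * m + 1)) :
    ∃ D : ReeLocal8.ReeData ↥(twistedG2 K (3 ^ m)), D.m = m ∧ D.q = 3 ^ (2 * m + 1) ∧
      (D.U : Subgroup ↥(twistedG2 K (3 ^ m))) =
        (chevG2.posUnipotent K ⊓ twistedG2 K (3 ^ m)).subgroupOf (twistedG2 K (3 ^ m)) := by
  haveI : Fact (Nat.Prime 3) := ⟨Nat.prime_three⟩
  haveI : CharP K 3 := charP_of_card_eq_prime_pow (f := 2 * m + 1) (by rw [hK])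
  obtain ⟨X, hX⟩ := exists_ctx hK
  rw [← hX]
  exact exists_data X hK hm

end Cfsg.Agent.ReeInstData17
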