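import Cfsg.Agent.Lib.ReeInvolution86
import Cfsg.Agent.Lib.ReeSimple17
import Cfsg.Agent.Lib.SLMinDegree32Spec

/-!
A lower bound for the degrees of the representations of `²G₂(q)`.
-/

set_option autoImplicit false
set_option linter.unusedSectionVars false
set_option maxRecDepth 20000

namespace Cfsg.Agent.ReeMinDegree86

open Cfsg.Lie Cfsg.Agent.ReeInstance17 Cfsg.Agent.ReeBorel86 Cfsg.Agent.ReeInvolution86
open Cfsg.Agent.SUMinDegree32Eigen Cfsg.Agent.SLMinDegree32Spec
open scoped MatrixGroups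

/-- the trace of the average over a four group -/
theorem four_dvd {V : Type*} [AddCommGroup V] [Module ℂ V] [FiniteDimensional ℂ V]
    {a s : Module.End ℂ V} (ha : a * a = 1) (hs : s * s = 1) (has : Commute a s)
    (ta : LinearMap.trace ℂ V a = 0) (ts : LinearMap.trace ℂ V s = 0)
    (tas : LinearMap.trace ℂ V (a * s) = 0) : 4 ∣ Module.finrank ℂ V := by
  set S := 1 + a + s + a * s with hS
  have hSS : S * S = (4 : ℂ) • S := by
    have e1 : a * S = S := by
      rw [hS, mul_add, mul_add, mul_add, mul_one, ha, ← mul_assoc a a s, ha, one_mul]; abel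
    have e2 : s * S = S := by
      rw [hS, mul_add, mul_add, mul_add, mul_one, ← has.eq, hs, ← mul_assoc s a s, ← has.eq,
        mul_assoc a s s, hs, mul_one]
      abel
    calc S * S = S + a * S + s * S + a * (s * S) := by
          conv_lhs => arg 1; rw [hS]
          rw [add_mul, add_mul, add_mul, one_mul, mul_assoc]
      _ = (4 : ℂ) • S := by rw [e2, e1]; module
  have hid : IsIdempotentElem ((4 : ℂ)⁻¹ • S) := by
    rw [IsIdempotentElem, smul_mul_smul_comm, hSS, smul_smul]
    norm_num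
  have ht := (LinearMap.IsIdempotentElem.isProj_range _ hid).trace
  rw [map_smul, hS, map_add, map_add, map_add, ta, ts, tas, LinearMap.trace_one, add_zero,
    add_zero, add_zero, smul_eq_mul] at ht
  refine ⟨Module.finrank ℂ (LinearMap.range ((4 : ℂ)⁻¹ • S)), Nat.cast_injective (R := ℂ) ?_⟩
  push_cast
  rw [hS]
  linear_combination (4 : ℂ) * ht

/-- a representation of degree at least two in which everybody acts trivially is reducible -/
theorem ne_one {G : Type*} [Group G] {k : ℕ} (hk : 2 ≤ k) {ρ : Representation ℂ G (Fin k → ℂ)}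
    (hρ : ρ.IsIrreducible) : ∃ g, ρ g ≠ 1 := by
  by_contra! h
  let e : Fin k → ℂ := Pi.single ⟨0, by omega⟩ 1
  let W : Subrepresentation ρ := ⟨Submodule.span ℂ {e}, fun g v hv => by rw [h g]; exact hv⟩
  have he : e ≠ 0 := by simp [e]
  have h1 : Module.finrank ℂ (Submodule.span ℂ {e}) = 1 := finrank_span_singleton he
  haveI : IsSimpleOrder (Subrepresentation ρ) := hρ
  rcases eq_bot_or_eq_top W with hW | hW
  · have : e ∈ (⊥ : Subrepresentation ρ) := hW ▸ Submodule.mem_span_singleton_self e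
    exact he this
  · have : Submodule.span ℂ {e} = ⊤ := congrArg Subrepresentation.toSubmodule hW
    rw [this, finrank_top, Module.finrank_fintype_fun_eq_card, Fintype.card_fin] at h1
    omega

variable {K : Type*} [Field K] [Fintype K] [CharP K 3]

theorem min_degree {m : ℕ} (hm : 1 ≤ m) (hK : Fintype.card K = 3 ^ (2 * m + 1)) (X : Ctx K)
    {k : ℕ} (ρ : Representation ℂ ↥X.G1 (Fin k → ℂ)) (hρ : ρ.IsIrreducible) (hk : 2 ≤ k) :
    Fintype.card K ^ 2 - Fintype.card K + 1 ≤ k := by
  classical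
  have h3 : 3 < Fintype.card K := by
    rw [hK]
    exact (by norm_num : 3 < 3 ^ 3).trans_le (Nat.pow_le_pow_right (by norm_num) (by omega))
  have hF : Full X := ReeTorus17.tor_mem X
  haveI : IsSimpleGroup ↥X.G1 := (ReeSimple17.simple X h3).1
  have hinj : ∀ g : ↥X.G1, Function.Injective (ρ g) := fun g v w e => by
    have := congrArg (ρ g⁻¹) e
    simpa [← Module.End.mul_apply, ← map_mul] using this
  -- the centre of `U¹` does not act trivially
  have hZ : ∃ z, ρ (gu X 0 0 z) ≠ 1 := by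
    by_contra! h
    obtain ⟨g, hg⟩ := ne_one hk hρ
    rcases IsSimpleGroup.eq_bot_or_eq_top_of_normal ρ.ker inferInstance with hb | ht
    · have h1 : gu X (0 : K) 0 1 ∈ (⊥ : Subgroup ↥X.G1) := hb ▸ MonoidHom.mem_ker.2 (h 1)
      rw [Subgroup.mem_bot, ← gu_zero X] at h1
      exact one_ne_zero (gu_inj X h1).2.2
    · exact hg (MonoidHom.mem_ker.1 (ht ▸ Subgroup.mem_top g))
  let D : K × K → Module.End ℂ (Fin k → ℂ) := fun p => ρ (gu X 0 p.1 p.2)
  have hadd : ∀ a b, D (a + b) = D a * D b := fun a b => by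
    simp only [D, ← map_mul, gu_mul_zero, Prod.fst_add, Prod.snd_add]
  have h0 : D 0 = 1 := by simp [D, gu_zero]
  have hP0 : ∀ ψ, eig D ψ = ⊥ → P D ψ = 0 := fun ψ h => LinearMap.ext fun v => by
    have := P_mem hadd ψ v
    rw [h, Submodule.mem_bot] at this
    simpa using this
  -- moving eigenspaces
  have hmove : ∀ (g : ↥X.G1) (θ : K × K → K × K),
      (∀ p : K × K, gu X 0 p.1 p.2 * g = g * gu X 0 (θ p).1 (θ p).2) →
      ∀ ψ φ : AddChar (K × K) ℂ, (∀ p, φ p = ψ (θ p)) → eig D ψ ≠ ⊥ → eig D φ ≠ ⊥ := by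
    intro g θ hg ψ φ hφ hne hbot
    obtain ⟨v, hv, hv0⟩ := Submodule.exists_mem_ne_zero_of_ne_bot hne
    have : ρ g v ∈ eig D φ := fun p => by
      rw [hφ, ← map_smul, ← hv (θ p)]
      simp only [D, ← Module.End.mul_apply, ← map_mul, hg]
    rw [hbot, Submodule.mem_bot] at this
    exact hv0 (hinj g (this.trans (map_zero _).symm))
  -- a weight that is not trivial on the centre
  obtain ⟨ψ₀, hψ₀, hc₀⟩ : ∃ ψ, eig D ψ ≠ ⊥ ∧ ∃ z, ψ (0, z) ≠ 1 := by
    by_contra! h
    obtain ⟨z, hz⟩ := hZ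
    refine hz ?_
    show D (0, z) = 1
    rw [← mul_one (D (0, z)), ← sum_P (D := D) h0, Finset.mul_sum]
    refine Finset.sum_congr rfl fun ψ _ => ?_
    rw [D_mul_P hadd]
    by_cases hb : eig D ψ = ⊥
    · rw [hP0 ψ hb, smul_zero]
    · rw [h ψ hb z, one_smul]
  obtain ⟨z₀, hz₀⟩ := hc₀
  have hc : ∀ b : K, (∀ z, ψ₀ (0, b * z) = 1) → b = 0 := fun b hb => by
    by_contra h
    exact hz₀ (by simpa [mul_div_cancel₀ _ h] using hb (z₀ / b))
  -- the weights
  let pre : Kˣ → Kˣ := fun c => c ^ 2 * (Units.map (sgm X).toMonoidHom c)⁻¹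
  let w : Kˣ → K := fun c => wu X (pre c)
  let F : Kˣ × K → AddChar (K × K) ℂ := fun ct =>
    ψ₀.compAddMonoidHom
      { toFun := fun p => (w ct.1 * p.1, (ct.1 : K) * (p.2 + ct.2 * p.1))
        map_zero' := by simp
        map_add' := fun p p' => by simp; constructor <;> ring }
  have hF1 : ∀ ct p, F ct p = ψ₀ (w ct.1 * p.1, (ct.1 : K) * (p.2 + ct.2 * p.1)) := fun _ _ => rfl
  have hFinj : Function.Injective F := by
    rintro ⟨c, t⟩ ⟨c', t'⟩ h
    have e : ∀ p : K × K, F (c, t) p = F (c', t') p := fun p => by rw [h]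
    simp only [hF1] at e
    have hcc : c = c' := Units.ext (sub_eq_zero.1 (hc _ fun z => by
      have := e (0, z)
      simp only [mul_zero, add_zero] at this
      have e2 : ψ₀ (0, ((c : K) - c') * z) * ψ₀ (0, (c' : K) * z) = ψ₀ (0, (c : K) * z) := by
        rw [← AddChar.map_add_eq_mul, Prod.mk_add_mk]; ring_nf
      rw [this] at e2
      exact mul_eq_right₀ (AddChar.val_isUnit _ _).ne_zero |>.1 e2))
    subst hcc
    refine Prod.ext rfl (sub_eq_zero.1 ((mul_eq_zero.1 (hc ((c : K) * (t - t')) fun z => ?_)).resolve_left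
      c.ne_zero))
    have := e (z, 0)
    have e2 : ψ₀ (0, (c : K) * (t - t') * z) * ψ₀ (w c * z, (c : K) * (0 + t' * z)) =
        ψ₀ (w c * z, (c : K) * (0 + t * z)) := by
      rw [← AddChar.map_add_eq_mul, Prod.mk_add_mk]; ring_nf
    rw [this] at e2
    exact (mul_eq_right₀ (AddChar.val_isUnit _ _).ne_zero).1 e2
  have hFne : ∀ ct, eig D (F ct) ≠ ⊥ := by
    rintro ⟨c, t⟩
    let φ : AddChar (K × K) ℂ := F (c, 0)
    have hφ : eig D φ ≠ ⊥ := by
      refine hmove ((T hF (pre c))⁻¹) (fun p => (w c * p.1, (c : K) * p.2)) (fun p => ?_) ψ₀ φ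
        (fun p => by simp [φ, hF1]) hψ₀
      rw [eq_inv_mul_iff_mul_eq, ← mul_assoc, T_conj, cpar_surj, mul_zero]
    refine hmove (gu X t 0 0)⁻¹ (fun p => (p.1, p.2 + t * p.1)) (fun p => ?_) φ (F (c, t))
      (fun p => by simp [φ, hF1]) hφ
    rw [eq_inv_mul_iff_mul_eq, ← mul_assoc, mul_inv_eq_iff_eq_mul, gu_mul_zero, gu_zero_mul]
    simp
  have hone : ∀ ψ, eig D ψ ≠ ⊥ → 1 ≤ Module.finrank ℂ ↥(⊤ ⊓ eig D ψ) := fun ψ h => by
    rw [top_inf_eq]
    exact Nat.one_le_iff_ne_zero.2 fun e => h (Submodule.finrank_eq_zero.1 e)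
  have hcount : ∀ s : Finset (AddChar (K × K) ℂ), (∀ ψ ∈ s, eig D ψ ≠ ⊥) → s.card ≤ k :=
    fun s hs => by
      refine (Finset.card_eq_sum_ones s).trans_le ((Finset.sum_le_sum fun ψ hψ =>
        hone ψ (hs ψ hψ)).trans ?_)
      refine (sum_finrank_le D ⊤ s).trans (le_of_eq ?_)
      rw [finrank_top, Module.finrank_fintype_fun_eq_card, Fintype.card_fin]
  have hcard : (Finset.univ.image F).card = (Fintype.card K - 1) * Fintype.card K := by
    rw [Finset.card_image_of_injective _ hFinj, Finset.card_univ, Fintype.card_prod,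
      Fintype.card_units]
  have hsq : Fintype.card K ^ 2 - Fintype.card K = (Fintype.card K - 1) * Fintype.card K := by
    rw [_root_.sq, Nat.sub_mul, one_mul]
  have hlow : (Fintype.card K - 1) * Fintype.card K ≤ k := hcard ▸ hcount _ fun ψ hψ => by
    obtain ⟨ct, -, rfl⟩ := Finset.mem_image.1 hψ
    exact hFne ct
  rw [hsq]
  by_contra hlt
  have hkq : k = (Fintype.card K - 1) * Fintype.card K := by omega
  -- every weight is non-trivial on the centre
  have hfree : ∀ ψ, (∀ z, ψ (0, z) = 1) → eig D ψ = ⊥ := fun ψ hψ => by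
    by_contra hne
    have hnot : ψ ∉ Finset.univ.image F := fun hmem => by
      obtain ⟨⟨c, t⟩, -, rfl⟩ := Finset.mem_image.1 hmem
      refine c.ne_zero (hc _ fun z => ?_)
      simpa [hF1] using hψ z
    have := hcount (insert ψ (Finset.univ.image F)) fun φ hφ => by
      rcases Finset.mem_insert.1 hφ with rfl | hφ
      · exact hne
      · obtain ⟨ct, -, rfl⟩ := Finset.mem_image.1 hφ
        exact hFne ct
    rw [Finset.card_insert_of_notMem hnot, hcard] at this
    omega
  -- the trace of an involution vanishes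
  set A : ↥X.G1 := ⟨_, ReeTorus17.av_mem X⟩ with hA
  have hA2 : A * A = 1 := Subtype.ext (ReeCentralizer17.av_sq X)
  have hA1 : A ≠ 1 := fun h =>
    ReeCentralizer17.av_ne_one X (ReeTorus17.av_mem X) (congrArg Subtype.val h)
  have hAT : A = T hF (-1) := Subtype.ext (by
    show X.tor (-1) = X.tor (cpar X (-1))
    rw [show cpar X (-1) = -1 from Units.ext (by simp [cpar_val])])
  let θ : K × K ≃+ K × K := AddEquiv.prodCongr (AddEquiv.refl K) (AddEquiv.neg K)
  have hθ : ∀ p : K × K, ρ A * D p = D (θ p) * ρ A := fun p => by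
    simp only [D, ← map_mul]
    congr 1
    rw [← mul_inv_eq_iff_eq_mul, hAT, T_conj]
    simp [θ, wu, cpar_val]
    rfl
  have hta : LinearMap.trace ℂ _ (ρ A) = 0 := by
    have := trace_D_mul hadd h0 θ hθ 0
    rw [h0, one_mul] at this
    rw [this]
    refine Finset.sum_eq_zero fun ψ _ => ?_
    split_ifs with h
    · have hz : ∀ z, ψ (0, z) = 1 := fun z => by
        have e : ψ (0, -(-z)) = ψ (0, -z) := by
          conv_rhs => rw [← h]
          simp [θ]
          rw [show ((AddEquiv.refl K).prodCongr (AddEquiv.neg K)).symm ((0 : K), -z) = (0, - -z)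
            from rfl, neg_neg]
        rw [neg_neg] at e
        have e2 : ψ (0, z + z) = 1 := by
          rw [show ((0 : K), z + z) = (0, z) + (0, z) by simp, AddChar.map_add_eq_mul]
          nth_rw 2 [e]
          rw [← AddChar.map_add_eq_mul, Prod.mk_add_mk, add_zero, add_neg_cancel]
          exact AddChar.map_zero_eq_one ψ
        rwa [show z + z = -z by linear_combination z * CharP.cast_eq_zero K 3, ← e] at e2
      simp [hP0 ψ (hfree ψ hz)]
    · rfl
  have htr : ∀ y : ↥X.G1, y * y = 1 → y ≠ 1 → LinearMap.trace ℂ _ (ρ y) = 0 := fun y hy hy1 => by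
    obtain ⟨g, hg⟩ := isConj_iff.1 (one_class hm hK X hy hy1)
    rw [← hg, map_mul, LinearMap.trace_mul_comm, ← map_mul, ← mul_assoc, inv_mul_cancel, one_mul]
    exact hta
  -- a four group
  set s : ↥X.G1 := ⟨_, X.cn_G1⟩ with hs
  have hs2 : s * s = 1 := Subtype.ext (by
    show (Ctx.cn : GL chevG2.Idx K) * Ctx.cn = 1
    rw [X.cn_eq, ← map_mul]
    exact ReeSL2.psi_wel_sq X.θ)
  have hs1 : s ≠ 1 := fun h => by
    have h' : ReeSL2.psi X.θ (ChevalleySL2.wel : SL(2, K)) = 1 := by
      rw [← X.cn_eq]; exact congrArg Subtype.val h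
    obtain ⟨r, -, hr⟩ := Matrix.SpecialLinearGroup.mem_center_iff.1
      (ReeSL2.ker_psi X.θ two_ne (MonoidHom.mem_ker.2 h'))
    have := congrFun (congrFun hr 0) 1
    simp [ChevalleySL2.wel] at this
  have hsA : s ≠ A := fun h => ReeCentralizer17.av_notMem_psi X (ReeTorus17.av_mem X)
    ChevalleySL2.wel (by rw [← X.cn_eq]; exact congrArg Subtype.val h)
  have hcomm : Commute A s := Subtype.ext (ReeCentralizer17.cn_comm X (ReeTorus17.av_mem X)).eq
  have h4 : 4 ∣ k := by
    have h := four_dvd (a := ρ A) (s := ρ s) (by rw [← map_mul, hA2, map_one])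
      (by rw [← map_mul, hs2, map_one]) (hcomm.map ρ) hta (htr s hs2 hs1) (by
        rw [← map_mul]
        refine htr _ ?_ ?_
        · rw [show A * s * (A * s) = A * (s * A) * s by group, ← hcomm.eq, ← mul_assoc A A s, hA2,
            one_mul, hs2]
        · rw [Ne, mul_eq_one_iff_eq_inv', inv_eq_of_mul_eq_one_right hA2]
          exact hsA)
    rwa [Module.finrank_fintype_fun_eq_card, Fintype.card_fin] at h
  obtain ⟨j, hj⟩ : ∃ j, Fintype.card K = 4 * j + 3 := by
    refine ⟨Fintype.card K / 4, ?_⟩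
    have : Fintype.card K % 4 = 3 := by
      rw [hK, pow_succ, pow_mul, Nat.mul_mod, Nat.pow_mod]
      norm_num
    omega
  rw [hkq, hj, show 4 * j + 3 - 1 = 4 * j + 2 by omega] at h4
  have : (4 * j + 2) * (4 * j + 3) = 4 * (4 * j * j + 5 * j + 1) + 2 := by ring
  omega

end Cfsg.Agent.ReeMinDegree86
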