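import Cfsg.Agent.Lib.ReeCover14Char
import Cfsg.Agent.Lib.ReeCover14Trace
import Cfsg.Agent.Lib.ReeCover14Classes
import Cfsg.Agent.Lib.ReeInstData17
import Cfsg.Agent.Lib.ReeMinDegree86

/-!
Every nonidentity element of `²G₂(q)` is a product of two conjugates of a given regular
semisimple element.
-/

set_option autoImplicit false
set_option linter.unusedSectionVars false
set_option maxRecDepth 20000

namespace Cfsg.Agent.ReeCover14Main

open Cfsg.Lie Cfsg.Agent.ReeInstance17 Cfsg.Agent.ReeBorel86 Cfsg.Agent.ReeCover14Trace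
open Cfsg.Agent.ReeCover14Classes

variable {K : Type*} [Field K] [Fintype K] [CharP K 3] (X : Ctx K)

theorem theta_sgm (A : K) : X.θ (sgm X A) = A := by
  rw [sgm_apply, map_pow, X.sq]

theorem sgm_ne {A : K} (hA : A ≠ 0) : sgm X A ≠ 0 := by simpa using hA

theorem full : Full X := ReeTorus17.tor_mem X

/-- the torus -/
noncomputable abbrev TT (l : Kˣ) : ↥X.G1 := T (full X) l

theorem exists_par {A : K} (hA : A ≠ 0) :
    ∃ l : Kˣ, (cpar X l : K) = sgm X A ∧ X.θ (cpar X l : K) = A := by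
  refine ⟨_, congrArg Units.val (cpar_surj X (Units.mk0 _ (sgm_ne X hA))), ?_⟩
  rw [cpar_surj X (Units.mk0 _ (sgm_ne X hA))]
  exact theta_sgm X A

theorem sq_or_neg {m : ℕ} (hK : Fintype.card K = 3 ^ (2 * m + 1)) (d : K) :
    IsSquare d ∨ IsSquare (-d) := by
  classical
  rcases eq_or_ne d 0 with rfl | hd
  · exact Or.inl IsSquare.zero
  have hchar : ringChar K ≠ 2 := by rw [ringChar.eq K 3]; norm_num
  by_cases h : IsSquare d
  · exact Or.inl h
  right
  rw [← quadraticChar_one_iff_isSquare (neg_ne_zero.2 hd), ← neg_one_mul, map_mul,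
    quadraticChar_neg_one_iff_not_isSquare.2 h,
    quadraticChar_neg_one_iff_not_isSquare.2 (ReeInvolution86.neg_one_not_sq hK)]
  norm_num

theorem sgm_sq_ratio {m : ℕ} (hK : Fintype.card K = 3 ^ (2 * m + 1)) {d w : K} (hd : d ≠ 0)
    (hw : w ≠ 0) : sgm X d + w ^ 2 * d ≠ 0 := by
  intro h
  have hn := ReeInvolution86.neg_one_not_sq (K := K) hK
  obtain ⟨s, e, he, rfl⟩ : ∃ s e : K, (e = 1 ∨ e = -1) ∧ d = e * (s * s) := by
    rcases sq_or_neg hK d with ⟨s, hs⟩ | ⟨s, hs⟩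
    · exact ⟨s, 1, Or.inl rfl, by rw [hs, one_mul]⟩
    · exact ⟨s, -1, Or.inr rfl, by linear_combination -hs⟩
  have hs : s ≠ 0 := fun h0 => hd (by rw [h0]; ring)
  have hse : sgm X e = e := by rcases he with rfl | rfl <;> simp
  rw [map_mul, map_mul, hse] at h
  have he0 : e ≠ 0 := by rcases he with rfl | rfl <;> simp
  refine hn ⟨sgm X s / (w * s), ?_⟩
  have h' : sgm X s * sgm X s + w ^ 2 * (s * s) = 0 :=
    (mul_eq_zero.1 (by linear_combination h : e * (sgm X s * sgm X s + w ^ 2 * (s * s)) = 0)).resolve_left he0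
  field_simp
  linear_combination -h'

variable {m : ℕ} (hm : 1 ≤ m) (hK : Fintype.card K = 3 ^ (2 * m + 1))
include hm hK

theorem card_ge : 27 ≤ Fintype.card K := by
  rw [hK]; exact (by norm_num : 27 = 3 ^ 3).le.trans (Nat.pow_le_pow_right (by norm_num) (by omega))

variable (D : ReeLocal8.ReeData ↥X.G1) (hDm : D.m = m) (hDU : (D.U : Subgroup ↥X.G1) = ReeSylow17.U0 X)
include hDm hDU

omit hm hDU in
theorem D_q : D.q = Fintype.card K := by rw [D.q_eq, hDm, hK]

theorem tau_pow (g : ↥X.G1) : tau X (g ^ Fintype.card K) = tau X g := by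
  rw [tau_eq, tau_eq, map_pow, FiniteField.trace_pow_card, FiniteField.pow_card]

theorem nn_sq : nn X * nn X = 1 := Subtype.ext (ReeInvolutions17.cn_sq X)

theorem tau_nn : tau X (nn X) = -1 := by
  have h := tau_cell (full X) 1 0 0
  rw [map_one, gu_zero] at h
  simpa using h

theorem nn_ne : nn X ≠ 1 := fun e => by
  have h := tau_nn X hm hK D hDm hDU
  rw [e, tau_one] at h
  exact ReeInvolution86.two_ne (K := K) (by linear_combination h)

theorem conj_nn {g : ↥X.G1} (h1 : g ≠ 1) (h2 : g * g = 1) : IsConj (nn X) g := by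
  obtain ⟨a, ha⟩ := D.inv_conj_a h1 h2
  obtain ⟨b, hb⟩ := D.inv_conj_a (nn_ne X hm hK D hDm hDU) (nn_sq X hm hK D hDm hDU)
  exact (isConj_iff.2 ⟨b, hb⟩ : IsConj D.a (nn X)).symm.trans (isConj_iff.2 ⟨a, ha⟩)

theorem tau_isConj {g h : ↥X.G1} (e : IsConj g h) : tau X g = tau X h := by
  obtain ⟨c, rfl⟩ := isConj_iff.1 e
  exact (tau_conj X c g).symm

theorem tau_invol_eq {g : ↥X.G1} (h1 : g ≠ 1) (h2 : g * g = 1) : tau X g = -1 := by
  rw [← tau_isConj X hm hK D hDm hDU (conj_nn X hm hK D hDm hDU h1 h2), tau_nn X hm hK D hDm hDU]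

theorem tau_of_not_RS {g : ↥X.G1} (h : ¬ RS g) : tau X g = 1 ∨ tau X g = -1 := by
  have hq : Fintype.card K % 6 = 3 ∧ 9 ∣ Fintype.card K := by
    rw [hK]
    refine ⟨?_, (show 9 = 3 ^ 2 by norm_num) ▸ pow_dvd_pow 3 (by omega)⟩
    obtain ⟨j, hj⟩ : Odd (3 ^ (2 * m)) := Odd.pow ⟨1, rfl⟩
    rw [pow_succ, hj]
    omega
  by_cases h3 : 3 ∣ orderOf g
  · rcases D.three_orders78 h3 with ho | ho | ho
    · left
      rw [← tau_pow X hm hK D hDm hDU, orderOf_dvd_iff_pow_eq_one.1 (show orderOf g ∣ Fintype.card K by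
        rw [ho]; exact (by norm_num : 3 ∣ 9).trans hq.2), tau_one]
    · right
      rw [← tau_pow X hm hK D hDm hDU, ← pow_mod_orderOf, ho, hq.1]
      refine tau_invol_eq X hm hK D hDm hDU (fun e => ?_) ?_
      · have := orderOf_dvd_of_pow_eq_one e
        rw [ho] at this; norm_num at this
      · rw [← pow_add, show 3 + 3 = orderOf g by rw [ho], pow_orderOf_eq_one]
    · left
      rw [← tau_pow X hm hK D hDm hDU, orderOf_dvd_iff_pow_eq_one.1 (show orderOf g ∣ Fintype.card K by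
        rw [ho]; exact hq.2), tau_one]
  · have hle : orderOf g ≤ 2 := by
      by_contra hc
      exact h ⟨by omega, h3⟩
    by_cases h1 : g = 1
    · left; rw [h1, tau_one]
    · right
      refine tau_invol_eq X hm hK D hDm hDU h1 ?_
      by_contra hc
      exact absurd (ReeLocal8.ReeData.two_lt_orderOf.2 hc) (by omega)

theorem RS_of_tau {g : ↥X.G1} (h1 : tau X g ≠ 1) (h2 : tau X g ≠ -1) : RS g := by
  by_contra h
  rcases tau_of_not_RS X hm hK D hDm hDU h with e | e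
  · exact h1 e
  · exact h2 e

/-- the standard element with a given trace -/
theorem exists_std (γ : K) (hγ : γ ≠ -1) : ∃ l : Kˣ, X.θ (cpar X l : K) = γ + 1 ∧
    (cpar X l : K) = sgm X (γ + 1) ∧
    tau X (nn X * TT X l * gu X 0 0 1) = γ ∧ tau X (nn X * TT X l * gu X 0 0 1)⁻¹ = γ := by
  have hA : γ + 1 ≠ 0 := fun e => hγ (by linear_combination e)
  obtain ⟨l, hc, hC⟩ := exists_par X hA
  refine ⟨l, hC, hc, ?_, ?_⟩
  · rw [tau_cell (full X), hC]
    simp
  · have hn : (nn X)⁻¹ = nn X := inv_eq_of_mul_eq_one_right (nn_sq X hm hK D hDm hDU)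
    have e : gu X 0 0 (1 : K) * gu X 0 0 (-1) = 1 := by
      rw [gu_mul_zero]; simp [gu_zero]
    rw [mul_inv_rev, mul_inv_rev, inv_eq_of_mul_eq_one_right e, hn, ← mul_assoc, tau_comm X _ (nn X),
      ← map_inv]
    have e2 : gu X 0 0 (-1) * TT X l⁻¹ = TT X l⁻¹ * gu X 0 0 (-(cpar X l : K)) := by
      have h := T_conj (full X) l 0 0 (-1)
      rw [mul_zero, mul_zero, mul_neg_one] at h
      rw [← h]
      simp only [TT, map_inv]
      group
    rw [e2, ← mul_assoc, tau_cell (full X)]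
    simp only [map_neg, map_inv, Units.val_inv_eq_inv_val, map_inv₀, hC, map_zero]
    field_simp
    ring

theorem conj_of_tau {x y : ↥X.G1} (hx : RS x) (hy : RS y) (h : tau X x = tau X y) :
    IsConj x y ∧ tau X x ≠ 1 ∧ tau X x ≠ -1 := by
  classical
  let f : ConjClasses ↥X.G1 → K := Quotient.lift (tau X) fun a b e => tau_isConj X hm hK D hDm hDU e
  set Q := ConjClasses.mk '' {g : ↥X.G1 | RS g} with hQ
  obtain ⟨Γ, hΓ⟩ : ∃ Γ : Set K, Γ = ({1, -1} : Set K)ᶜ := ⟨_, rfl⟩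
  have hsub : Γ ⊆ f '' Q := by
    intro γ hγ
    rw [hΓ] at hγ
    simp only [Set.mem_compl_iff, Set.mem_insert_iff, Set.mem_singleton_iff, not_or] at hγ
    obtain ⟨l, -, -, e, -⟩ := exists_std X hm hK D hDm hDU γ hγ.2
    exact ⟨_, ⟨_, RS_of_tau X hm hK D hDm hDU (e.symm ▸ hγ.1) (e.symm ▸ hγ.2), rfl⟩, e⟩
  have hΓc : Γ.ncard = Fintype.card K - 2 := by
    rw [hΓ, Set.ncard_compl, Set.ncard_pair (fun e => ReeInvolution86.two_ne (K := K)
      (by linear_combination e)), Nat.card_eq_fintype_card]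
  have hQc : Q.ncard ≤ Γ.ncard := by
    rw [hΓc, ← D_q X hK D hDm]; exact (rs_classes D).1
  have h1 := Set.ncard_le_ncard hsub (Set.toFinite _)
  have h2 := Set.ncard_image_le (f := f) (s := Q) (Set.toFinite _)
  have hinj : Set.InjOn f Q := Set.injOn_of_ncard_image_eq (by omega) (Set.toFinite _)
  have heq : Γ = f '' Q := Set.eq_of_subset_of_ncard_le hsub (by omega) (Set.toFinite _)
  refine ⟨ConjClasses.mk_eq_mk_iff_isConj.1 (hinj ⟨x, hx, rfl⟩ ⟨y, hy, rfl⟩ h), ?_⟩
  have hmem : tau X x ∈ Γ := heq ▸ ⟨_, ⟨x, hx, rfl⟩, rfl⟩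
  rw [hΓ] at hmem
  simpa using hmem

theorem tau_inv {g : ↥X.G1} (hg : RS g) : tau X g⁻¹ = tau X g := by
  obtain ⟨-, h1, h2⟩ := conj_of_tau X hm hK D hDm hDU hg hg rfl
  obtain ⟨l, -, -, e, e'⟩ := exists_std X hm hK D hDm hDU _ h2
  have hy : RS (nn X * TT X l * gu X 0 0 1) :=
    RS_of_tau X hm hK D hDm hDU (by rw [e]; exact h1) (by rw [e]; exact h2)
  obtain ⟨c, hc⟩ := isConj_iff.1 (conj_of_tau X hm hK D hDm hDU hy hg e).1
  rw [← hc, conj_inv, tau_conj, tau_conj, e', e]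

section cover

variable {x : ↥X.G1} (hx : RS x)
include hx

omit hm hK hDm hDU hx in
/-- `g` is a product of two conjugates of `x` -/
abbrev P (x g : ↥X.G1) : Prop := ∃ u v : ↥X.G1, g = (u * x * u⁻¹) * (v * x * v⁻¹)

theorem P_conj {g : ↥X.G1} (c : ↥X.G1) (h : P X x g) : P X x (c * g * c⁻¹) := by
  obtain ⟨u, v, rfl⟩ := h
  exact ⟨c * u, c * v, by group⟩

theorem P_of_isConj {g h : ↥X.G1} (e : IsConj g h) (hg : P X x g) : P X x h := by
  obtain ⟨c, rfl⟩ := isConj_iff.1 e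
  exact P_conj X hm hK D hDm hDU hx c hg

theorem conj_of_eq {y : ↥X.G1} (hy : tau X y = tau X x) : IsConj x y := by
  obtain ⟨-, h1, h2⟩ := conj_of_tau X hm hK D hDm hDU hx hx rfl
  exact (conj_of_tau X hm hK D hDm hDU hx
    (RS_of_tau X hm hK D hDm hDU (by rw [hy]; exact h1) (by rw [hy]; exact h2)) hy.symm).1

theorem P_of_trace {g : ↥X.G1} (y : ↥X.G1) (hy : tau X y = tau X x)
    (hyg : tau X (y * g) = tau X x) : P X x g := by
  obtain ⟨-, h1, h2⟩ := conj_of_tau X hm hK D hDm hDU hx hx rfl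
  have hyRS : RS y := RS_of_tau X hm hK D hDm hDU (by rw [hy]; exact h1) (by rw [hy]; exact h2)
  have hi : tau X y⁻¹ = tau X x := by rw [tau_inv X hm hK D hDm hDU hyRS, hy]
  obtain ⟨u, hu⟩ := isConj_iff.1 (conj_of_eq X hm hK D hDm hDU hx hi)
  obtain ⟨v, hv⟩ := isConj_iff.1 (conj_of_eq X hm hK D hDm hDU hx hyg)
  exact ⟨u, v, by rw [hu, hv, inv_mul_cancel_left]⟩

theorem P_inv {g : ↥X.G1} (h : P X x g) : P X x g⁻¹ := by
  obtain ⟨c, hc⟩ := isConj_iff.1 (conj_of_eq X hm hK D hDm hDU hx (tau_inv X hm hK D hDm hDU hx))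
  obtain ⟨u, v, rfl⟩ := h
  refine ⟨v * c, u * c, ?_⟩
  rw [mul_inv_rev, conj_inv, conj_inv, ← hc]
  group

theorem P_central {v : K} (hv : v ≠ 0) : P X x (gu X 0 0 v) := by
  obtain ⟨-, h1, h2⟩ := conj_of_tau X hm hK D hDm hDU hx hx rfl
  obtain ⟨l, hC, -, e, -⟩ := exists_std X hm hK D hDm hDU _ h2
  have hP : P X x (gu X 0 0 1) := by
    refine P_of_trace X hm hK D hDm hDU hx _ e ?_
    rw [mul_assoc _ (gu X 0 0 1), gu_mul_zero, tau_cell (full X), hC, add_zero, map_zero, map_add,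
      map_one]
    have h3 : (3 : K) = 0 := by exact_mod_cast CharP.cast_eq_zero K 3
    linear_combination (tau X x + 1) * h3
  obtain ⟨l', hl'⟩ : ∃ l' : Kˣ, (cpar X l' : K) = v :=
    ⟨_, congrArg Units.val (cpar_surj X (Units.mk0 v hv))⟩
  have h := P_conj X hm hK D hDm hDU hx (TT X l') hP
  rwa [T_conj, mul_zero, mul_zero, hl', mul_one] at h

theorem exists_middle : ∃ u v : K, u ≠ 0 ∧ P X x (gu X 0 u v) := by
  classical
  have h3 : (3 : K) = 0 := by exact_mod_cast CharP.cast_eq_zero K 3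
  obtain ⟨-, h1, h2⟩ := conj_of_tau X hm hK D hDm hDU hx hx rfl
  obtain ⟨l, hC, hc, e, -⟩ := exists_std X hm hK D hDm hDU _ h2
  set A := tau X x + 1 with hA
  have hA0 : A ≠ 0 := fun h => h2 (by rw [hA] at h; linear_combination h)
  set κ := sgm X A / A ^ 2 with hκ
  have hκ0 : κ ≠ 0 := div_ne_zero (sgm_ne X hA0) (pow_ne_zero _ hA0)
  obtain ⟨r, hr0, hr1, hr2⟩ : ∃ r : K, r ≠ 0 ∧ r ^ 2 ≠ κ ∧ r ^ 2 ≠ -κ := by
    by_contra! hcon
    have h0 : (Polynomial.X * (Polynomial.X ^ 4 - Polynomial.C (κ ^ 2)) : Polynomial K) ≠ 0 :=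
      mul_ne_zero Polynomial.X_ne_zero (Polynomial.X_pow_sub_C_ne_zero (by norm_num) _)
    refine h0 (Polynomial.eq_zero_of_natDegree_lt_card_of_eval_eq_zero _ (f := fun a : K => a)
      (fun a b e => e) (fun a => ?_) ?_)
    · by_cases ha : a = 0
      · simp [ha]
      by_cases hb : a ^ 2 = κ
      · simp only [Polynomial.eval_mul, Polynomial.eval_X, Polynomial.eval_sub, Polynomial.eval_pow,
          Polynomial.eval_C]
        linear_combination a * (a ^ 2 + κ) * hb
      · have := hcon a ha hb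
        simp only [Polynomial.eval_mul, Polynomial.eval_X, Polynomial.eval_sub, Polynomial.eval_pow,
          Polynomial.eval_C]
        linear_combination a * (a ^ 2 - κ) * this
    · refine lt_of_le_of_lt (Polynomial.natDegree_mul_le) ?_
      rw [Polynomial.natDegree_X, Polynomial.natDegree_X_pow_sub_C]
      have := card_ge hm hK
      omega
  obtain ⟨z, hz⟩ : ∃ z : K, z = r - κ / r := ⟨_, rfl⟩
  obtain ⟨w, hw⟩ : ∃ w : K, w = -(κ / r + r) := ⟨_, rfl⟩
  have hz0 : z ≠ 0 := fun h => hr1 (by rw [hz] at h; field_simp at h; linear_combination h)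
  have hw0 : w ≠ 0 := fun h => hr2 (by rw [hw] at h; field_simp at h; linear_combination -h)
  have hzw : w ^ 2 = z ^ 2 + κ := by
    rw [hz, hw]; field_simp; linear_combination r ^ 2 * κ * h3
  obtain ⟨U, hU⟩ : ∃ U : K, sgm X U + w ^ 2 * U = z := by
    refine Finite.injective_iff_surjective.1 (fun a b hab => ?_) z
    by_contra hne
    refine sgm_sq_ratio X hK (sub_ne_zero.2 hne) hw0 ?_
    rw [map_sub]
    linear_combination hab
  have hU0 : U ≠ 0 := fun h => hz0 (by rw [← hU, h]; simp)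
  refine ⟨sgm X U, sgm X (1 + U * z) - 1, sgm_ne X hU0, ?_⟩
  refine P_of_trace X hm hK D hDm hDU hx _ e ?_
  rw [mul_assoc _ (gu X 0 0 1), gu_mul_zero, tau_cell (full X), hC, hc, zero_add, add_sub_cancel,
    theta_sgm, theta_sgm]
  have hsA : sgm X A = κ * A ^ 2 := by rw [hκ]; field_simp
  rw [hsA]
  field_simp
  linear_combination A * U * hU + U * U * A * (-hzw) + U * z * A * h3 + hA

theorem P_middle {u : K} (hu : u ≠ 0) (v : K) : P X x (gu X 0 u v) := by
  obtain ⟨u0, v0, hu0, hP⟩ := exists_middle X hm hK D hDm hDU hx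
  obtain ⟨u1, v1, hP1, s, hs⟩ : ∃ u1 v1, P X x (gu X 0 u1 v1) ∧ ∃ s, u = s ^ 2 * u1 := by
    rcases sq_or_neg hK (u / u0) with ⟨s, hs⟩ | ⟨s, hs⟩
    · exact ⟨u0, v0, hP, s, by rw [sq, ← hs]; field_simp⟩
    · refine ⟨-u0, -v0, ?_, s, by rw [sq, ← hs]; field_simp⟩
      have hi : (gu X 0 u0 v0)⁻¹ = gu X 0 (-u0) (-v0) := inv_eq_of_mul_eq_one_right (by
        rw [gu_mul_zero, add_neg_cancel, add_neg_cancel, gu_zero])
      exact hi ▸ P_inv X hm hK D hDm hDU hx hP
  have hs0 : s ≠ 0 := fun h => hu (by rw [hs, h]; ring)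
  obtain ⟨l, hl⟩ : ∃ l : Kˣ, wu X l = s ^ 2 := by
    refine ⟨Units.mk0 (sgm X s / s) (div_ne_zero (sgm_ne X hs0) hs0), ?_⟩
    have := sgm_ne X hs0
    rw [wu, Units.val_mk0, map_div₀, sgm_sgm]
    field_simp
  have h2 := P_conj X hm hK D hDm hDU hx (TT X l) hP1
  rw [T_conj, mul_zero, hl, ← hs] at h2
  set v2 := (cpar X l : K) * v1
  set t := (v - v2) / u with ht
  have h3 := P_conj X hm hK D hDm hDU hx (gu X t 0 0) h2
  have e : gu X t 0 0 * gu X 0 u v2 = gu X 0 u v * gu X t 0 0 := by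
    rw [gu_mul_zero, gu_zero_mul, ht]
    congr 1
    · simp
    · field_simp; ring
  rwa [e, mul_inv_cancel_right] at h3

theorem P_invol {g : ↥X.G1} (h1 : g ≠ 1) (h2 : g * g = 1) : P X x g := by
  obtain ⟨-, -, hne⟩ := conj_of_tau X hm hK D hDm hDU hx hx rfl
  refine P_of_isConj X hm hK D hDm hDU hx (conj_nn X hm hK D hDm hDU h1 h2) ?_
  set A := tau X x + 1 with hA
  obtain ⟨E, k, hE, hk⟩ : ∃ E k : K, (E = 1 ∨ E = -1) ∧ E * X.θ k ^ 2 = A := by
    rcases sq_or_neg hK A with ⟨s, hs⟩ | ⟨s, hs⟩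
    · exact ⟨1, sgm X s, Or.inl rfl, by rw [theta_sgm, hs]; ring⟩
    · exact ⟨-1, sgm X s, Or.inr rfl, by rw [theta_sgm]; linear_combination hs⟩
  have hE0 : E ≠ 0 := by rcases hE with rfl | rfl <;> simp
  obtain ⟨l, hl⟩ : ∃ l : Kˣ, (cpar X l : K) = E :=
    ⟨_, congrArg Units.val (cpar_surj X (Units.mk0 E hE0))⟩
  refine P_of_trace X hm hK D hDm hDU hx
    (gu X 0 (-1) k * (nn X * TT X l * gu X 0 1 0)) ?_ ?_
  · rw [tau_comm, mul_assoc (nn X * TT X l), gu_mul_zero, tau_cell (full X), hl, add_neg_cancel,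
      zero_add, map_zero]
    have hθE : X.θ E = E := by rcases hE with rfl | rfl <;> simp
    rw [hθE]
    linear_combination hk + hA
  · rw [mul_assoc, tau_comm, tau_invol (full X) l k (hl ▸ hE), hl]
    linear_combination hk + hA

omit hx in
theorem linear_triv {χ : Cfsg.IrrCharacter ↥X.G1} (h : (χ : ↥X.G1 → ℂ) 1 = 1) :
    χ = CharBasicDecomp.trivIrr ↥X.G1 := by
  obtain ⟨lam, hl⟩ := CharBasicLinear.exists_hom_of_apply_one_eq_one
    (CharBasic.isCharacter_of_isIrrCharacter χ.2) h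
  have hker : commutator ↥X.G1 ≤ lam.ker := Abelianization.commutator_subset_ker lam
  rw [ReeInvolution86.perfect (X := X) (by have := card_ge hm hK; omega)] at hker
  refine Subtype.ext (funext fun g => ?_)
  rw [hl]
  show ((lam g : ℂˣ) : ℂ) = 1
  rw [show lam g = 1 from hker (Subgroup.mem_top g), Units.val_one]

theorem P_of_small {g : ↥X.G1}
    (hg : Nat.card (Subgroup.centralizer ({g} : Set ↥X.G1)) ≤ 6 * Fintype.card K) : P X x g := by
  refine ReeCover14Char.exists_mul x g (Fintype.card K ^ 2 - Fintype.card K + 1) (fun χ hχ => ?_) ?_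
  · have hne := hχ
    obtain ⟨f, n, ρ, hρ, rfl⟩ := χ
    refine ⟨n, by show ρ.character 1 = n; rw [Representation.char_one]; simp, ?_⟩
    by_cases hn : 2 ≤ n
    · exact ReeMinDegree86.min_degree hm hK X ρ hρ hn
    · exfalso
      have hpos := CharBasic.finrank_pos_of_irreducible ρ
      rw [Module.finrank_fintype_fun_eq_card, Fintype.card_fin] at hpos
      refine hne (linear_triv X hm hK D hDm hDU ?_)
      show ρ.character 1 = 1
      rw [Representation.char_one, show n = 1 by omega]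
      simp
  · have hxc := (rs_classes D).2 x hx
    have hr := r_le_q D
    rw [D_q X hK D hDm] at hxc hr
    have h27 := card_ge hm hK
    generalize Fintype.card K = q at *
    generalize Nat.card (Subgroup.centralizer ({x} : Set ↥X.G1)) = a at *
    generalize Nat.card (Subgroup.centralizer ({g} : Set ↥X.G1)) = b at *
    have hle : (a - 1) ^ 2 * b ≤ (2 * q) ^ 2 * (6 * q) :=
      Nat.mul_le_mul (Nat.pow_le_pow_left (by omega) 2) hg
    refine hle.trans_lt ?_
    obtain ⟨k, rfl⟩ : ∃ k, q = 27 + k := ⟨q - 27, by omega⟩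
    rw [show (27 + k) ^ 2 - (27 + k) = (27 + k) * (26 + k) by
      rw [sq, ← Nat.mul_sub_one]; congr 1; omega]
    nlinarith

theorem card_cent_t {t u v : K} (ht : t ≠ 0) :
    Nat.card (Subgroup.centralizer ({gu X t u v} : Set ↥X.G1)) ≤ 6 * Fintype.card K := by
  classical
  have hmem : ∀ {y : ↥X.G1}, y ∈ (D.U : Subgroup ↥X.G1) ↔ ∃ a b c, y = gu X a b c := by
    intro y
    rw [hDU, ← mem_U1_iff]
    exact ⟨fun h => h.1, fun h => ⟨h, y.2⟩⟩
  have hw1 : gu X t u v ≠ 1 := fun e => ht (gu_inj X (e.trans (gu_zero X).symm)).1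
  refine (card_cent_le D (hmem.2 ⟨t, u, v, rfl⟩) hw1 _ le_rfl).trans ?_
  set I := ((D.U : Subgroup ↥X.G1) ⊓ Subgroup.centralizer ({gu X t u v} : Set ↥X.G1) :
    Subgroup ↥X.G1) with hI
  suffices h : Nat.card I ≤ 3 * Fintype.card K by omega
  have hc : ∀ y : I, ∃ a b c, (y : ↥X.G1) = gu X a b c ∧ a ∈ ({0, t, -t} : Finset K) ∧
      t * b = a * u + sgm X a * t ^ 2 - sgm X a * t * a - sgm X t * a ^ 2 + sgm X t * a * t := by
    intro y
    obtain ⟨hyU, hyC⟩ := Subgroup.mem_inf.1 y.2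
    obtain ⟨a, b, c, e⟩ := hmem.1 hyU
    refine ⟨a, b, c, e, ?_⟩
    rw [Subgroup.mem_centralizer_singleton_iff, e, gu_mul, gu_mul] at hyC
    obtain ⟨-, hu', hv'⟩ := gu_inj X hyC
    refine ⟨?_, by linear_combination -hv'⟩
    have hr : sgm X (a / t) = a / t := by
      rw [map_div₀]
      have := sgm_ne X ht
      field_simp
      linear_combination hu'
    have hr3 : (a / t) ^ 3 = a / t := by rw [← sgm_sgm X, hr, hr]
    have h0 : a / t * ((a / t - 1) * (a / t + 1)) = 0 := by linear_combination hr3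
    simp only [Finset.mem_insert, Finset.mem_singleton]
    rcases mul_eq_zero.1 h0 with h | h
    · left; exact (div_eq_zero_iff.1 h).resolve_right ht
    rcases mul_eq_zero.1 h with h | h
    · right; left; field_simp at h; linear_combination h
    · right; right; field_simp at h; linear_combination h
  choose fa fb fc he ha hb using hc
  have hinj : Function.Injective (fun y : I => ((⟨fa y, ha y⟩ : ({0, t, -t} : Finset K)), fc y)) := by
    intro y z h
    obtain ⟨h1, h2⟩ := Prod.mk.injEq _ _ _ _ ▸ h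
    have h1' : fa y = fa z := congrArg Subtype.val h1
    have h3 : fb y = fb z := mul_left_cancel₀ ht (by rw [hb y, hb z, h1'])
    apply Subtype.ext
    rw [he y, he z, h1', h2, h3]
  have h := Nat.card_le_card_of_injective _ hinj
  rw [Nat.card_prod, Nat.card_eq_fintype_card (α := K), Nat.card_eq_finsetCard] at h
  exact h.trans (Nat.mul_le_mul_right _ Finset.card_le_three)

theorem cover {g : ↥X.G1} (hg : g ≠ 1) : P X x g := by
  by_cases h3 : 3 ∣ orderOf g
  · rcases D.three_orders78 h3 with ho | ho | ho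
    · exact three (show g ^ 3 ^ 1 = 1 by rw [pow_one, ← ho, pow_orderOf_eq_one])
    · refine P_of_small X hm hK D hDm hDU hx ?_
      have := card_cent_six D ho
      rw [D_q X hK D hDm] at this
      omega
    · exact three (show g ^ 3 ^ 2 = 1 by rw [show 3 ^ 2 = orderOf g by rw [ho]; rfl, pow_orderOf_eq_one])
  · by_cases h2 : g * g = 1
    · exact P_invol X hm hK D hDm hDU hx hg h2
    · refine P_of_small X hm hK D hDm hDU hx ?_
      have := (rs_classes D).2 g ⟨ReeLocal8.ReeData.two_lt_orderOf.2 h2, h3⟩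
      have hr := r_le_q D
      have h27 := card_ge hm hK
      rw [D_q X hK D hDm] at this hr
      omega
where
  three {k : ℕ} (hk : g ^ 3 ^ k = 1) : P X x g := by
    obtain ⟨c, hc⟩ := D.exists_conj_U hk
    suffices h : P X x (c⁻¹ * g * c) by
      have h' := P_conj X hm hK D hDm hDU hx c h
      rwa [show c * (c⁻¹ * g * c) * c⁻¹ = g by group] at h'
    have hc' : c⁻¹ * g * c ∈ ReeSylow17.U0 X := hDU ▸ hc
    obtain ⟨t, u, v, e⟩ := (mem_U1_iff X).1 (show c⁻¹ * g * c ∈ TwistAutRigid.U1 X.G1 from hc'.1)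
    rw [e]
    by_cases ht : t = 0
    · subst ht
      by_cases hu : u = 0
      · subst hu
        refine P_central X hm hK D hDm hDU hx fun hv => hg ?_
        rw [hv, gu_zero] at e
        calc g = c * (c⁻¹ * g * c) * c⁻¹ := by group
          _ = 1 := by rw [e]; group
      · exact P_middle X hm hK D hDm hDU hx hu v
    · exact P_of_small X hm hK D hDm hDU hx (card_cent_t X hm hK D hDm hDU hx ht)

end cover

end Cfsg.Agent.ReeCover14Main
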