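import Cfsg.Agent.Lib.StemSL2
import Cfsg.Agent.Lib.PSL2Elements

/-!
Extensions of elementary abelian 3-groups by `2 × PSL(2, q)`, `q = 3^(2m+1)`, whose element
orders are exactly the divisors of `6`, `9`, `q - 1` and `(q + 1)/2`.
-/

set_option autoImplicit false

namespace Cfsg.Agent.ReeCubeModule78

open Matrix Cfsg.Agent.PSL2Elements
open scoped MatrixGroups

variable {K : Type*} [Field K] [CharP K 3]

/-- The entrywise cube. -/
noncomputable def frob2 : SL(2, K) →* SL(2, K) :=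
  Matrix.SpecialLinearGroup.map (frobenius K 3)

local instance : ExpChar K 3 := ExpChar.prime Nat.prime_three

theorem frob2_apply (A : SL(2, K)) (i j : Fin 2) : (frob2 A).1 i j = A.1 i j ^ 3 := by
  simp [frob2, Matrix.SpecialLinearGroup.map_apply_coe, frobenius_def]

variable (K) in
/-- The sum of `k` copies of the space of 2 × 2 matrices. -/
abbrev Mod78 (k : ℕ) : Type _ := Fin k → Matrix (Fin 2) (Fin 2) K

/-- The action of an element of `SL(2, K) × {±1}`. -/
noncomputable def act (k : ℕ) (p : SL(2, K) × ℤˣ) : Mod78 K k →+ Mod78 K k :=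
  AddMonoidHom.mk' (fun X i => (p.2 : ℤ) • (p.1.1 * X i * (frob2 p.1).1ᵀ))
    (fun X Y => by
      funext i
      simp only [Pi.add_apply, mul_add, add_mul, smul_add])

theorem act_apply (k : ℕ) (p : SL(2, K) × ℤˣ) (X : Mod78 K k) (i : Fin k) :
    act k p X i = (p.2 : ℤ) • (p.1.1 * X i * (frob2 p.1).1ᵀ) := rfl

theorem act_one (k : ℕ) (X : Mod78 K k) : act k 1 X = X := by
  funext i
  simp [act_apply]

theorem act_mul (k : ℕ) (p r : SL(2, K) × ℤˣ) (X : Mod78 K k) :
    act k (p * r) X = act k p (act k r X) := by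
  funext i
  simp only [act_apply, Prod.fst_mul, Prod.snd_mul, map_mul, Units.val_mul, coe_mul',
    Matrix.transpose_mul, mul_smul_comm, smul_mul_assoc, smul_smul, ← mul_assoc]

/-- The representation. -/
noncomputable def rep (k : ℕ) : SL(2, K) × ℤˣ →* MulAut (Multiplicative (Mod78 K k)) where
  toFun p :=
    { toFun := fun X => Multiplicative.ofAdd (act k p X.toAdd)
      invFun := fun X => Multiplicative.ofAdd (act k p⁻¹ X.toAdd)
      left_inv := fun X => by
        simp only [toAdd_ofAdd, ← act_mul, inv_mul_cancel, act_one, ofAdd_toAdd]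
      right_inv := fun X => by
        simp only [toAdd_ofAdd, ← act_mul, mul_inv_cancel, act_one, ofAdd_toAdd]
      map_mul' := fun X Y => by simp }
  map_one' := MulEquiv.ext fun X => by simp [act_one]
  map_mul' p r := MulEquiv.ext fun X => by simp [act_mul]

theorem rep_apply (k : ℕ) (p : SL(2, K) × ℤˣ) (X : Multiplicative (Mod78 K k)) :
    rep k p X = Multiplicative.ofAdd (act k p X.toAdd) := rfl

theorem rep_ker {k : ℕ} {p : SL(2, K) × ℤˣ} (hA : p.1 = 1 ∨ p.1 = -1) (he : p.2 = 1) :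
    rep k p = 1 := by
  refine MulEquiv.ext fun X => ?_
  rw [rep_apply, MulAut.one_apply]
  refine Multiplicative.toAdd.injective ?_
  rw [toAdd_ofAdd]
  funext i
  rcases hA with h | h
  · simp [act_apply, h, he]
  · have e : (frob2 (-1 : SL(2, K))).1 = -1 := by
      ext a b
      rw [frob2_apply]
      fin_cases a <;> fin_cases b <;> simp [pow_succ]
    simp [act_apply, h, he, e]

/-- Apart from involutions and unipotent elements nothing has fixed points. -/
theorem fixed_eq_zero {A : SL(2, K)} {s : ℤˣ} (h : tr A ^ 3 ≠ ((s : ℤ) : K) * tr A)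
    {X : Matrix (Fin 2) (Fin 2) K} (hX : (s : ℤ) • (A.1 * X * (frob2 A).1ᵀ) = X) : X = 0 := by
  obtain ⟨t, ht⟩ : ∃ t, t = tr A := ⟨_, rfl⟩
  obtain ⟨e, he⟩ : ∃ e : K, e = ((s : ℤ) : K) := ⟨_, rfl⟩
  rw [← ht, ← he] at h
  have he2 : e * e = 1 := by
    rw [he, ← Int.cast_mul, ← Units.val_mul, Int.units_mul_self]; simp
  obtain ⟨B, hB⟩ : ∃ B, B = (frob2 A).1ᵀ := ⟨_, rfl⟩
  have hX' : e • (A.1 * X * B) = X := by rw [he, hB, Int.cast_smul_eq_zsmul]; exact hX
  have htB : tr (frob2 A) = t ^ 3 := by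
    rw [ht, tr, tr, frob2_apply, frob2_apply, add_pow_char]
  have hBB : B * B = t ^ 3 • B - 1 := by
    rw [hB, ← Matrix.transpose_mul, sq_eq, htB]
    simp
  have hAA : A.1 * A.1 = t • A.1 - 1 := by rw [ht, sq_eq]
  -- apply the relation twice
  have h2 : A.1 * A.1 * X * (B * B) = X := by
    calc A.1 * A.1 * X * (B * B) = A.1 * (A.1 * X * B) * B := by simp only [mul_assoc]
      _ = (e * e) • (A.1 * (A.1 * X * B) * B) := by rw [he2, one_smul]
      _ = e • (A.1 * (e • (A.1 * X * B)) * B) := by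
        rw [mul_smul_comm, smul_mul_assoc, smul_smul]
      _ = X := by rw [hX', hX']
  have h1 : A.1 * X * B = e • X := by
    calc A.1 * X * B = (e * e) • (A.1 * X * B) := by rw [he2, one_smul]
      _ = e • X := by rw [← smul_smul, hX']
  -- `(t • A - 1) X B² = X` becomes a relation in `X B`
  have h3 : (t * e - t ^ 3) • (X * B) = 0 := by
    have h4 : t • (A.1 * X * (B * B)) - X * (B * B) = X := by
      conv_rhs => rw [← h2, hAA]
      simp only [sub_mul, smul_mul_assoc, one_mul]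
    rw [← mul_assoc (A.1 * X), h1, hBB, mul_sub, mul_smul_comm, mul_one, smul_mul_assoc,
      smul_smul] at h4
    rw [sub_smul]
    rw [← sub_eq_zero] at h4
    rw [← h4]
    abel
  have hXB : X * B = 0 :=
    (smul_eq_zero.1 h3).resolve_left fun h' => h (by linear_combination -h')
  rw [← hX', mul_assoc, hXB, mul_zero, smul_zero]

variable [Fintype K]

omit [CharP K 3] in
theorem neg_one_nonsquare {m : ℕ} (hK : Fintype.card K = 3 ^ (2 * m + 1)) (x : K) :
    x ^ 2 ≠ -1 := fun h => by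
  have h4 : Fintype.card K % 4 = 3 := by
    rw [hK, pow_succ, pow_mul, Nat.mul_mod, Nat.pow_mod]
    simp
  exact FiniteField.isSquare_neg_one_iff.1 ⟨x, by rw [← h, sq]⟩ h4

omit [Field K] [CharP K 3] in
theorem card_facts {m : ℕ} (hK : Fintype.card K = 3 ^ (2 * m + 1)) :
    Fintype.card K % 4 = 3 ∧ 2 * ((Fintype.card K - 1) / 2) = Fintype.card K - 1 ∧
      2 * ((Fintype.card K + 1) / 2) = Fintype.card K + 1 := by
  have h4 : Fintype.card K % 4 = 3 := by
    rw [hK, pow_succ, pow_mul, Nat.mul_mod, Nat.pow_mod]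
    simp
  omega

omit [Fintype K] in
theorem pow_eq_one_rep {k : ℕ} (A : SL(2, K)) (s : ℤˣ) {n : ℕ} (hA : A ^ n = 1 ∨ A ^ n = -1)
    (hs : s ^ n = 1) : rep k (A, s) ^ n = 1 := by
  rw [← map_pow]
  exact rep_ker hA hs

/-- The three kinds of acting elements. -/
theorem rep_cases {m : ℕ} (hK : Fintype.card K = 3 ^ (2 * m + 1)) (k : ℕ)
    (p : SL(2, K) × ℤˣ) :
    rep k p ^ 3 = 1 ∨ rep k p ^ 2 = 1 ∨
      ((∀ X, rep k p X = X → X = 1) ∧ (rep k p ^ 6 = 1 ∨
        rep k p ^ (Fintype.card K - 1) = 1 ∨ rep k p ^ ((Fintype.card K + 1) / 2) = 1)) := by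
  obtain ⟨A, s⟩ := p
  have : Fact (Nat.Prime 3) := ⟨Nat.prime_three⟩
  obtain ⟨h4, hq1, hq2⟩ := card_facts hK
  have h3 : (3 : K) = 0 := by exact_mod_cast CharP.cast_eq_zero K 3
  have h2 : (2 : K) ≠ 0 := fun h => one_ne_zero (α := K) (by linear_combination h3 - h)
  by_cases ht0 : tr A = 0
  · refine Or.inr (Or.inl (pow_eq_one_rep A s (Or.inr ?_) (Int.units_sq s)))
    apply Subtype.ext
    rw [coe_pow', sq, sq_eq, ht0, coe_neg', coe_one', zero_smul, zero_sub]
  have hfix : tr A ^ 3 ≠ ((s : ℤ) : K) * tr A → ∀ X, rep k (A, s) X = X → X = 1 := by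
    intro h X hX
    rw [rep_apply] at hX
    have hX' := congrArg Multiplicative.toAdd hX
    rw [toAdd_ofAdd] at hX'
    refine Multiplicative.toAdd.injective ?_
    rw [toAdd_one]
    funext i
    exact fixed_eq_zero h (congrFun hX' i)
  have hroot : tr A ^ 3 = ((s : ℤ) : K) * tr A → s = 1 ∧ (tr A = 2 ∨ tr A = -2) := by
    intro h
    have h' : tr A ^ 2 = ((s : ℤ) : K) := mul_right_cancel₀ ht0 (by rw [← pow_succ]; exact h)
    rcases Int.units_eq_one_or s with rfl | rfl
    · refine ⟨rfl, ?_⟩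
      have : (tr A - 2) * (tr A + 2) = 0 := by
        simp only [Units.val_one, Int.cast_one] at h'
        linear_combination h' - h3
      rcases mul_eq_zero.1 this with e | e
      · exact Or.inl (sub_eq_zero.1 e)
      · exact Or.inr (eq_neg_of_add_eq_zero_left e)
    · exact absurd (by simpa using h') (neg_one_nonsquare hK (tr A))
  have huni : tr A = 2 ∨ tr A = -2 → A ^ 3 = 1 ∨ A ^ 3 = -1 := by
    rintro (h | h)
    · exact Or.inl (pow_char 3 h)
    · refine Or.inr ?_
      have := pow_char (A := -A) 3 (by rw [tr_neg, h, neg_neg])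
      rw [Odd.neg_pow (by decide)] at this
      exact neg_eq_iff_eq_neg.1 this
  by_cases hh : tr A ^ 3 = ((s : ℤ) : K) * tr A
  · obtain ⟨rfl, ht⟩ := hroot hh
    exact Or.inl (pow_eq_one_rep A 1 (huni ht) (one_pow 3))
  refine Or.inr (Or.inr ⟨hfix hh, ?_⟩)
  have hsq : ∀ n : ℕ, A ^ (2 * n) = 1 → A ^ n = 1 ∨ A ^ n = -1 := fun n h =>
    eq_one_or_neg_one_of_sq_eq_one h2 (by rw [← pow_mul, mul_comm]; exact h)
  have hdbl : ∀ n : ℕ, (A ^ n = 1 ∨ A ^ n = -1) → rep k (A, s) ^ (2 * n) = 1 := by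
    intro n h
    refine pow_eq_one_rep A s (Or.inl ?_) (by rw [pow_mul, Int.units_sq, one_pow])
    rw [mul_comm, pow_mul]
    rcases h with e | e <;> rw [e] <;> simp
  rcases pow_trichotomy 3 A with ⟨ht, -⟩ | ⟨ht, -⟩ | hn | hn
  · exact Or.inl (hdbl 3 (huni (Or.inl ht)))
  · exact Or.inl (hdbl 3 (huni (Or.inr ht)))
  · refine Or.inr (Or.inl ?_)
    rw [Nat.card_eq_fintype_card, ← hq1] at hn
    have := hdbl _ (hsq _ hn)
    rwa [hq1] at this
  · refine Or.inr (Or.inr (pow_eq_one_rep A s ?_ ?_))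
    · rw [Nat.card_eq_fintype_card, ← hq2] at hn
      exact hsq _ hn
    · obtain ⟨j, hj⟩ : 2 ∣ (Fintype.card K + 1) / 2 := by omega
      rw [hj, pow_mul, Int.units_sq, one_pow]

/-- The extension. -/
abbrev Ext78 (K : Type*) [Field K] [CharP K 3] (k : ℕ) :=
  Multiplicative (Mod78 K k) ⋊[(rep (K := K) k).range.subtype] (rep (K := K) k).range

instance (k : ℕ) : Finite (rep (K := K) k).range :=
  Finite.of_surjective (rep (K := K) k).rangeRestrict (rep (K := K) k).rangeRestrict_surjective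

instance (k : ℕ) : Finite (Ext78 K k) :=
  Finite.of_equiv _ SemidirectProduct.equivProd.symm

omit [Fintype K] in
theorem cube_eq_one {k : ℕ} (v : Multiplicative (Mod78 K k)) : v ^ 3 = 1 := by
  refine Multiplicative.toAdd.injective ?_
  rw [toAdd_pow, toAdd_one]
  funext i
  ext a b
  have h3 : (3 : K) = 0 := by exact_mod_cast CharP.cast_eq_zero K 3
  simp [h3]

theorem ext_orders {m : ℕ} (hK : Fintype.card K = 3 ^ (2 * m + 1)) {k : ℕ} (x : Ext78 K k) :
    orderOf x ∣ 6 ∨ orderOf x ∣ 9 ∨ orderOf x ∣ Fintype.card K - 1 ∨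
      orderOf x ∣ (Fintype.card K + 1) / 2 := by
  obtain ⟨p, hp⟩ := MonoidHom.mem_range.1 x.right.2
  have hr : ∀ n : ℕ, rep k p ^ n = 1 → (x ^ n).right = 1 := fun n h => by
    rw [← SemidirectProduct.rightHom_eq_right, map_pow]
    refine Subtype.ext ?_
    rw [SubgroupClass.coe_pow, SemidirectProduct.rightHom_eq_right, ← hp, h, OneMemClass.coe_one]
  have h3 : ∀ n : ℕ, rep k p ^ n = 1 → x ^ (n * 3) = 1 := fun n h => by
    have e : x ^ n = SemidirectProduct.inl (x ^ n).left := by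
      ext <;> simp [hr n h]
    rw [pow_mul, e, ← map_pow, cube_eq_one, map_one]
  have hfp : (∀ X, rep k p X = X → X = 1) → ∀ n : ℕ, rep k p ^ n = 1 → x ^ n = 1 := by
    intro hfix n h
    have hleft : (x ^ n).left = 1 := by
      refine hfix _ ?_
      have e := congrArg SemidirectProduct.left ((Commute.refl x).pow_right n).eq
      rw [SemidirectProduct.mul_left, SemidirectProduct.mul_left, hr n h, map_one,
        MulAut.one_apply, mul_comm] at e
      rw [Subgroup.coe_subtype, ← hp] at e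
      exact mul_right_cancel e
    ext <;> simp [hleft, hr n h]
  rcases rep_cases hK k p with h | h | ⟨hfix, h | h | h⟩
  · exact Or.inr (Or.inl (orderOf_dvd_of_pow_eq_one (h3 _ h)))
  · exact Or.inl (orderOf_dvd_of_pow_eq_one (h3 _ h))
  · exact Or.inl (orderOf_dvd_of_pow_eq_one (hfp hfix _ h))
  · exact Or.inr (Or.inr (Or.inl (orderOf_dvd_of_pow_eq_one (hfp hfix _ h))))
  · exact Or.inr (Or.inr (Or.inr (orderOf_dvd_of_pow_eq_one (hfp hfix _ h))))

theorem card_ext_gt {k : ℕ} : k < Nat.card (Ext78 K k) := by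
  have hW : 1 < Nat.card (Matrix (Fin 2) (Fin 2) K) := Finite.one_lt_card
  calc k < 2 ^ k := k.lt_two_pow_self
    _ ≤ Nat.card (Matrix (Fin 2) (Fin 2) K) ^ k := Nat.pow_le_pow_left hW k
    _ = Nat.card (Multiplicative (Mod78 K k)) := by
      rw [Nat.card_congr Multiplicative.toAdd, Nat.card_fun, Nat.card_fin]
    _ ≤ Nat.card (Ext78 K k) :=
      Nat.card_le_card_of_injective _ SemidirectProduct.inl_injective

/-- An element of the extension with trivial module part. -/
noncomputable def inr78 (k : ℕ) (p : SL(2, K) × ℤˣ) : Ext78 K k :=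
  SemidirectProduct.inr ((rep (K := K) k).rangeRestrict p)

omit [Fintype K] in
theorem orderOf_inr78 (k : ℕ) (p : SL(2, K) × ℤˣ) : orderOf (inr78 k p) = orderOf (rep k p) := by
  rw [inr78, orderOf_injective _ SemidirectProduct.inr_injective, ← Subgroup.orderOf_coe]
  rfl

omit [Fintype K] in
/-- What a trivially acting element looks like. -/
theorem rep_one_apply {k : ℕ} {A : SL(2, K)} {s : ℤˣ} (h : rep (k + 1) (A, s) = 1)
    (X : Matrix (Fin 2) (Fin 2) K) : (s : ℤ) • (A.1 * X * (frob2 A).1ᵀ) = X := by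
  have h' := congrArg (fun f : MulAut _ => (f (Multiplicative.ofAdd fun _ => X)).toAdd 0) h
  simpa [rep_apply, act_apply] using h'

theorem exists_minus {m : ℕ} (hK : Fintype.card K = 3 ^ (2 * m + 1)) (k : ℕ) :
    ∃ x : Ext78 K (k + 1), Fintype.card K - 1 ∣ orderOf x := by
  obtain ⟨g, hg⟩ := IsCyclic.exists_ofOrder_eq_natCard (α := Kˣ)
  rw [PSLCard.card_units_field, Nat.card_eq_fintype_card] at hg
  refine ⟨inr78 (k + 1) (d g, -1), ?_⟩
  rw [orderOf_inr78]
  obtain ⟨n, hn⟩ : ∃ n, n = orderOf (rep (k + 1) (d g, (-1 : ℤˣ))) := ⟨_, rfl⟩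
  rw [← hn]
  have h := pow_orderOf_eq_one (rep (k + 1) (d g, (-1 : ℤˣ)))
  rw [← hn, ← map_pow, Prod.pow_mk] at h
  have hd : d g ^ n = d (g ^ n) := (map_pow dHom g n).symm
  rw [hd] at h
  have e := congrArg (fun M : Matrix (Fin 2) (Fin 2) K => M 0 0)
    (rep_one_apply h (Matrix.single 0 0 1))
  simp only [Matrix.smul_apply, Matrix.mul_apply, Fin.sum_univ_two, Matrix.transpose_apply,
    frob2_apply, zsmul_eq_mul] at e
  simp [d, mk2, Matrix.single] at e
  obtain ⟨h4, hq1, hq2⟩ := card_facts hK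
  rw [← hg]
  refine orderOf_dvd_of_pow_eq_one ?_
  -- `(-1)ⁿ λ⁴ⁿ = 1` forces `λⁿ = 1`
  have e1 : (-1 : K) ^ n * (((g : K) ^ n) ^ 4) = 1 := by linear_combination e
  rcases Nat.even_or_odd n with hev | hod
  · rw [hev.neg_one_pow, one_mul] at e1
    have e4 : g ^ (n * 4) = 1 := Units.ext (by simpa [pow_mul] using e1)
    have hd4 : orderOf g ∣ n * 4 := orderOf_dvd_of_pow_eq_one e4
    rw [hg] at hd4
    obtain ⟨j, hj⟩ := hev
    rw [← orderOf_dvd_iff_pow_eq_one, hg, ← hq1, hj, ← two_mul]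
    refine mul_dvd_mul_left 2 ?_
    have h8 : (Fintype.card K - 1) / 2 ∣ j * 4 := by
      refine Nat.dvd_of_mul_dvd_mul_left two_pos ?_
      rw [hq1]
      exact hd4.trans (dvd_of_eq (by omega))
    exact (Nat.Coprime.dvd_mul_right
      (Nat.Coprime.pow_right 2 (Nat.coprime_two_right.2 (Nat.odd_iff.2 (by omega))))).1 h8
  · rw [hod.neg_one_pow] at e1
    exact absurd (show (((g : K) ^ n) ^ 2) ^ 2 = -1 by linear_combination -e1)
      (neg_one_nonsquare hK _)

theorem exists_plus {m : ℕ} (hK : Fintype.card K = 3 ^ (2 * m + 1)) (k : ℕ) :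
    ∃ x : Ext78 K (k + 1), (Fintype.card K + 1) / 2 ∣ orderOf x := by
  obtain ⟨A, hA⟩ := StemSL2.exists_nonsplit (F := K)
  have h3 : (3 : K) = 0 := by exact_mod_cast CharP.cast_eq_zero K 3
  refine ⟨inr78 (k + 1) (A, 1), ?_⟩
  rw [orderOf_inr78]
  obtain ⟨n, hn⟩ : ∃ n, n = orderOf (rep (k + 1) (A, (1 : ℤˣ))) := ⟨_, rfl⟩
  rw [← hn]
  have h := pow_orderOf_eq_one (rep (k + 1) (A, (1 : ℤˣ)))
  rw [← hn, ← map_pow, Prod.pow_mk, one_pow] at h
  obtain ⟨B, hB⟩ : ∃ B, B = A ^ n := ⟨_, rfl⟩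
  rw [← hB] at h
  obtain ⟨a, b, c, e, hdet⟩ : ∃ a b c e : K, a = B.1 0 0 ∧ b = B.1 0 1 ∧ c = B.1 1 0 ∧
      e = B.1 1 1 ∧ a * e - b * c = 1 := ⟨_, _, _, _, rfl, rfl, rfl, rfl, det_eq B⟩
  obtain ⟨ha, hb, hc, he, hdet⟩ := hdet
  have key : ∀ X : Matrix (Fin 2) (Fin 2) K, B.1 * X * (frob2 B).1ᵀ = X := fun X => by
    simpa using rep_one_apply h X
  have k00 := key (Matrix.single 0 0 1)
  have k11 := key (Matrix.single 1 1 1)
  have e00 := congrArg (fun M : Matrix (Fin 2) (Fin 2) K => M 1 1) k00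
  have e11 := congrArg (fun M : Matrix (Fin 2) (Fin 2) K => M 0 0) k11
  have e01 := congrArg (fun M : Matrix (Fin 2) (Fin 2) K => M 0 0) k00
  have e10 := congrArg (fun M : Matrix (Fin 2) (Fin 2) K => M 0 1) (key (Matrix.single 0 1 1))
  simp only [Matrix.mul_apply, Fin.sum_univ_two, Matrix.transpose_apply, frob2_apply, ← ha, ← hb,
    ← hc, ← he] at e00 e11 e01 e10
  simp [Matrix.single] at e00 e11 e01 e10
  have hc0 : c = 0 := e00
  have hae : a * e = 1 := by linear_combination hdet + b * hc0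
  have he2 : e ^ 2 = 1 := by linear_combination e10 - e ^ 2 * hae
  have hea : a = e := by linear_combination (-a) * he2 + e * hae
  have hB1 : B = 1 ∨ B = -1 := by
    rcases sq_eq_one_iff.1 he2 with h1 | h1
    · left
      apply ext2 <;> simp [← ha, ← hb, ← hc, ← he, hea, e11, hc0, h1]
    · right
      apply ext2 <;> simp [← ha, ← hb, ← hc, ← he, hea, e11, hc0, h1]
  have h2n : orderOf A ∣ 2 * n := orderOf_dvd_of_pow_eq_one (by
    rw [mul_comm, pow_mul, ← hB]
    rcases hB1 with h1 | h1 <;> simp [h1])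
  rw [hA, ← (card_facts hK).2.2] at h2n
  exact Nat.dvd_of_mul_dvd_mul_left two_pos h2n

omit [Fintype K] in
theorem exists_nine {k : ℕ} : ∃ x : Ext78 K (k + 1), 9 ∣ orderOf x := by
  have h3 : (3 : K) = 0 := by exact_mod_cast CharP.cast_eq_zero K 3
  obtain ⟨v, hv⟩ : ∃ v : Multiplicative (Mod78 K (k + 1)),
      v = Multiplicative.ofAdd fun _ => !![0, 0; 0, 1] := ⟨_, rfl⟩
  obtain ⟨x, hx⟩ : ∃ x : Ext78 K (k + 1),
      x = ⟨v, (rep (K := K) (k + 1)).rangeRestrict (u 1, 1)⟩ := ⟨_, rfl⟩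
  refine ⟨x, ?_⟩
  have hfu : frob2 (u (1 : K)) = u 1 := by
    apply ext2 <;> rw [frob2_apply] <;> simp [u, mk2]
  have hne : x ^ 3 ≠ 1 := by
    intro h
    have e := congrArg (fun y : Ext78 K (k + 1) => y.left.toAdd 0 0 0) h
    rw [pow_succ, sq, hx] at e
    simp only [SemidirectProduct.mul_left, SemidirectProduct.mul_right, SemidirectProduct.one_left,
      Subgroup.coe_subtype, MonoidHom.coe_rangeRestrict, MulAut.mul_apply,
      toAdd_mul, toAdd_one, rep_apply, toAdd_ofAdd, map_mul, hv, Pi.add_apply, act_apply] at e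
    simp only [hfu] at e
    simp [u, mk2, Matrix.vecMul, dotProduct, Fin.sum_univ_two, Matrix.vecHead] at e
    exact one_ne_zero (α := K) (by linear_combination -e + 2 * h3)
  have : Fact (Nat.Prime 3) := ⟨Nat.prime_three⟩
  have h9 : x ^ 9 = 1 := by
    have hr3 : (x ^ 3).right = 1 := by
      rw [← SemidirectProduct.rightHom_eq_right, map_pow, SemidirectProduct.rightHom_eq_right, hx]
      refine Subtype.ext ?_
      rw [SubgroupClass.coe_pow, MonoidHom.coe_rangeRestrict, OneMemClass.coe_one]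
      exact pow_eq_one_rep _ _ (Or.inl (pow_char 3 (tr_u 1))) (one_pow 3)
    have e : x ^ 3 = SemidirectProduct.inl (x ^ 3).left := by ext <;> simp [hr3]
    rw [show 9 = 3 * 3 from rfl, pow_mul, e, ← map_pow, cube_eq_one, map_one]
  exact (orderOf_eq_prime_pow (p := 3) (n := 1) (by rw [pow_one]; exact hne) h9).symm.dvd

omit [Fintype K] in
theorem exists_six {k : ℕ} : ∃ x : Ext78 K (k + 1), 6 ∣ orderOf x := by
  obtain ⟨n, hn⟩ : ∃ n, n = orderOf (rep (k + 1) ((u 1 : SL(2, K)), (-1 : ℤˣ))) := ⟨_, rfl⟩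
  refine ⟨inr78 (k + 1) (u 1, -1), ?_⟩
  rw [orderOf_inr78, ← hn]
  have h3 : (3 : K) = 0 := by exact_mod_cast CharP.cast_eq_zero K 3
  have h := pow_orderOf_eq_one (rep (k + 1) ((u 1 : SL(2, K)), (-1 : ℤˣ)))
  rw [← hn, ← map_pow, Prod.pow_mk] at h
  have hu : ∀ j : ℕ, (u (1 : K)) ^ j = u (j : K) := fun j => by
    induction j with
    | zero => simp [u_zero]
    | succ j ih => rw [pow_succ, ih, u_mul, Nat.cast_succ]
  rw [hu] at h
  have e00 := congrArg (fun M : Matrix (Fin 2) (Fin 2) K => M 0 0)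
    (rep_one_apply h (Matrix.single 0 0 1))
  have e01 := congrArg (fun M : Matrix (Fin 2) (Fin 2) K => M 0 1)
    (rep_one_apply h (Matrix.single 1 1 1))
  simp only [Matrix.smul_apply, Matrix.mul_apply, Fin.sum_univ_two, Matrix.transpose_apply,
    frob2_apply, zsmul_eq_mul] at e00 e01
  simp [u, mk2, Matrix.single] at e00 e01
  have hev : 2 ∣ n := by
    rcases Nat.even_or_odd n with hev | hod
    · exact hev.two_dvd
    · rw [hod.neg_one_pow] at e00
      exact absurd (show (2 : K) = 0 by linear_combination -e00) (fun h => one_ne_zero (α := K)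
        (by linear_combination h3 - h))
  exact Nat.Coprime.mul_dvd_of_dvd_of_dvd (by norm_num) hev
    ((CharP.cast_eq_zero_iff K 3 n).1 (by simpa using e01))

end Cfsg.Agent.ReeCubeModule78
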