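import Cfsg.Agent.Lib.ReeSpectrum8
import Cfsg.Agent.Lib.ReeCubeModule78

/-!
Arbitrarily large groups with the element orders of the direct cube of a small Ree group.
-/

set_option autoImplicit false

namespace Cfsg.Agent.ReeLocal8.ReeData

open Cfsg.Agent.ReeCubeModule78

variable {G : Type*} [Group G] [Finite G] (D : ReeData G)
include D

omit D in
theorem spec_mono78 {d x : ℕ} (hx : ∃ g : G, orderOf g = x) (hd : d ∣ x) :
    ∃ g : G, orderOf g = d := by
  obtain ⟨g, rfl⟩ := hx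
  exact ⟨_, orderOf_pow_orderOf_div (orderOf_pos g).ne' hd⟩

omit D [Finite G] in
theorem orderOf_triple78 {A B C : Type*} [Monoid A] [Monoid B] [Monoid C] (a : A) (b : B) (c : C) :
    orderOf (a, b, c) = Nat.lcm (orderOf a) (Nat.lcm (orderOf b) (orderOf c)) := by
  rw [Prod.orderOf, Prod.orderOf]

/-- Replacing one factor of the cube. -/
theorem cube_range78 {Y : Type*} [Group Y] [Finite Y]
    (hY : ∀ y : Y, orderOf y ∣ 6 ∨ orderOf y ∣ 9 ∨ orderOf y ∣ D.q - 1 ∨
      orderOf y ∣ (D.q + 1) / 2)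
    (hY' : ∀ d : ℕ, (d ∣ 6 ∨ d ∣ 9 ∨ d ∣ D.q - 1 ∨ d ∣ (D.q + 1) / 2) → ∃ y : Y, d ∣ orderOf y) :
    Set.range (orderOf : G × G × Y → ℕ) = Set.range (orderOf : G × G × G → ℕ) := by
  have hdown : ∀ y : Y, ∃ g : G, orderOf g = orderOf y := fun y => (D.spectrum _).2 (by
    rcases hY y with h | h | h | h <;> tauto)
  have hup : ∀ d : ℕ, (d ∣ 6 ∨ d ∣ 9 ∨ d ∣ D.q - 1 ∨ d ∣ (D.q + 1) / 2) →
      ∃ y : Y, orderOf y = d := fun d hd => by
    obtain ⟨y, hy⟩ := hY' d hd
    exact ⟨_, orderOf_pow_orderOf_div (orderOf_pos y).ne' hy⟩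
  ext n
  constructor
  · rintro ⟨⟨a, b, y⟩, rfl⟩
    obtain ⟨c, hc⟩ := hdown y
    exact ⟨(a, b, c), by rw [orderOf_triple78, orderOf_triple78, hc]⟩
  · rintro ⟨⟨a, b, c⟩, rfl⟩
    obtain ⟨u, hu⟩ : ∃ u, u = D.q - 3 ^ (D.m + 1) + 1 := ⟨_, rfl⟩
    obtain ⟨v, hv⟩ : ∃ v, v = D.q + 3 ^ (D.m + 1) + 1 := ⟨_, rfl⟩
    have htype : ∀ g : G, (∃ y : Y, orderOf y = orderOf g) ∨ orderOf g ∣ u ∨ orderOf g ∣ v := by
      intro g
      rw [hu, hv]
      rcases (D.spectrum _).1 ⟨g, rfl⟩ with h | h | h | h | h | h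
      · exact Or.inl (hup _ (Or.inl h))
      · exact Or.inl (hup _ (Or.inr (Or.inl h)))
      · exact Or.inl (hup _ (Or.inr (Or.inr (Or.inl h))))
      · exact Or.inl (hup _ (Or.inr (Or.inr (Or.inr h))))
      · exact Or.inr (Or.inl h)
      · exact Or.inr (Or.inr h)
    -- moving a factor into `Y`
    have hperm : ∀ g h k : G, (∃ y : Y, orderOf y = orderOf k) →
        ∃ p : G × G × Y, orderOf p = Nat.lcm (orderOf g) (Nat.lcm (orderOf h) (orderOf k)) := by
      rintro g h k ⟨y, hy⟩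
      exact ⟨(g, h, y), by rw [orderOf_triple78, hy]⟩
    -- two factors of one torus type merge
    have hmerge : ∀ g h k : G, (∃ w, (w = u ∨ w = v) ∧ orderOf g ∣ w ∧ orderOf h ∣ w) →
        ∃ p : G × G × Y, orderOf p = Nat.lcm (orderOf g) (Nat.lcm (orderOf h) (orderOf k)) := by
      rintro g h k ⟨w, hw, hg, hh⟩
      obtain ⟨z, hz⟩ := (D.spectrum (Nat.lcm (orderOf g) (orderOf h))).2 (by
        have := Nat.lcm_dvd hg hh
        rw [hu, hv] at hw
        rcases hw with e | e <;> rw [e] at this <;> tauto)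
      refine ⟨(z, k, 1), ?_⟩
      rw [orderOf_triple78, hz, orderOf_one, Nat.lcm_one_right, Nat.lcm_assoc]
    rw [orderOf_triple78, Set.mem_range]
    have r1 : Nat.lcm (orderOf a) (Nat.lcm (orderOf b) (orderOf c)) =
        Nat.lcm (orderOf b) (Nat.lcm (orderOf c) (orderOf a)) := by
      rw [← Nat.lcm_assoc (orderOf b), Nat.lcm_comm (orderOf a)]
    have r2 : Nat.lcm (orderOf a) (Nat.lcm (orderOf b) (orderOf c)) =
        Nat.lcm (orderOf a) (Nat.lcm (orderOf c) (orderOf b)) := by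
      rw [Nat.lcm_comm (orderOf b)]
    rcases htype c with hc | hc
    · exact hperm a b c hc
    rcases htype a with ha | ha
    · rw [r1]; exact hperm b c a ha
    rcases htype b with hb | hb
    · rw [r2]; exact hperm a c b hb
    rcases ha with ha | ha <;> rcases hb with hb | hb
    · exact hmerge a b c ⟨u, Or.inl rfl, ha, hb⟩
    · rcases hc with hc | hc
      · rw [r2]; exact hmerge a c b ⟨u, Or.inl rfl, ha, hc⟩
      · rw [r1]; exact hmerge b c a ⟨v, Or.inr rfl, hb, hc⟩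
    · rcases hc with hc | hc
      · rw [r1]; exact hmerge b c a ⟨u, Or.inl rfl, hb, hc⟩
      · rw [r2]; exact hmerge a c b ⟨v, Or.inr rfl, ha, hc⟩
    · exact hmerge a b c ⟨v, Or.inr rfl, ha, hb⟩

/-- The groups `G × G × Y`. -/
theorem cube_large78 {K : Type*} [Field K] [Fintype K] (hK : Fintype.card K = D.q) (N : ℕ) :
    ∃ (H : Type) (_ : Group H) (_ : Fintype H), N < Fintype.card H ∧
      Set.range (orderOf : H → ℕ) = Set.range (orderOf : G × G × G → ℕ) := by
  have : Fact (Nat.Prime 3) := ⟨Nat.prime_three⟩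
  rw [D.q_eq] at hK
  have : CharP K 3 := charP_of_card_eq_prime_pow (f := 2 * D.m + 1) (by rw [hK])
  have hq : D.q = Fintype.card K := by rw [hK, D.q_eq]
  have hrange := D.cube_range78 (Y := Ext78 K (N + 1))
    (fun y => by rw [hq]; exact ext_orders hK y)
    (fun d hd => by
      rw [hq] at hd
      rcases hd with h | h | h | h
      · obtain ⟨y, hy⟩ := exists_six (K := K) (k := N); exact ⟨y, h.trans hy⟩
      · obtain ⟨y, hy⟩ := Cfsg.Agent.ReeCubeModule78.exists_nine (K := K) (k := N); exact ⟨y, h.trans hy⟩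
      · obtain ⟨y, hy⟩ := exists_minus hK N; exact ⟨y, h.trans hy⟩
      · obtain ⟨y, hy⟩ := exists_plus hK N; exact ⟨y, h.trans hy⟩)
  obtain ⟨n, ⟨e⟩⟩ := Finite.exists_equiv_fin (G × G × Ext78 K (N + 1))
  obtain ⟨ψ, hψ⟩ : ∃ ψ : G × G × Ext78 K (N + 1) →* Equiv.Perm (Fin n), Function.Injective ψ :=
    ⟨e.permCongrHom.toMonoidHom.comp (MulAction.toPermHom _ _),
      e.permCongrHom.injective.comp MulAction.toPerm_injective⟩
  have : Fintype ψ.range := Fintype.ofFinite _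
  let f : G × G × Ext78 K (N + 1) ≃* ψ.range := MonoidHom.ofInjective hψ
  refine ⟨ψ.range, inferInstance, inferInstance, ?_, ?_⟩
  · have h1 : N + 1 < Nat.card (Ext78 K (N + 1)) := card_ext_gt
    have h2 : Nat.card (Ext78 K (N + 1)) ≤ Nat.card (G × G × Ext78 K (N + 1)) :=
      Nat.card_le_card_of_injective (fun y => ((1 : G), (1 : G), y)) fun _ _ h => by simpa using h
    rw [← Nat.card_eq_fintype_card, ← Nat.card_congr f.toEquiv]
    omega
  · rw [← hrange, ← f.surjective.range_comp (orderOf : ψ.range → ℕ)]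
    congr 1
    funext x
    exact f.orderOf_eq x

end Cfsg.Agent.ReeLocal8.ReeData
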