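import Cfsg.Agent.Lib.ReeSimple17

/-!
The product in `U¹` and its elements of order three; the action of the torus.
-/

set_option autoImplicit false
set_option linter.unusedSectionVars false
set_option maxRecDepth 20000

namespace Cfsg.Agent.ReeOrderThree17

open Cfsg.Lie Cfsg.Agent.ChevalleyCore Cfsg.Agent.ReeSL2 Cfsg.Agent.ChevalleyTorus
open Cfsg.Agent.ReeTwist17 Cfsg.Agent.ReeInstance17

theorem swap_terms :
    chevG2.commTerms 7 8 = [(9, -2, 1, 1), (10, -3, 2, 1), (11, 3, 1, 2)] ∧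
    chevG2.commTerms 7 9 = [(10, 3, 1, 1)] ∧
    chevG2.commTerms 7 10 = [] ∧ chevG2.commTerms 7 11 = [] ∧
    chevG2.commTerms 6 8 = [] ∧ chevG2.commTerms 6 9 = [] ∧
    chevG2.commTerms 6 10 = [(11, 1, 1, 1)] ∧ chevG2.commTerms 6 11 = [] := by decide +kernel

variable {K : Type*} [Field K] [CharP K 3]

theorem tail_X7 (a c d e g : K) : tail false c d e g * ReeTwist17.X false 7 a =
    ReeTwist17.X false 7 a * tail false c (d - a * c) e g := by
  obtain ⟨t8, t9, t10, t11, -⟩ := swap_terms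
  have h3 : (3 : K) = 0 := by exact_mod_cast CharP.cast_eq_zero K 3
  have sw : ∀ r, r ∈ ([8, 9, 10, 11] : List ℕ) → ∀ y : K,
      xg c2 r y * xg c2 7 a = xg c2 7 a * xg c2 r y *
        xg c2 9 (if r = 8 then -(a * y) else 0) := by
    intro r hr y
    simp only [List.mem_cons, List.not_mem_nil, or_false] at hr
    rcases hr with rfl | rfl | rfl | rfl <;>
      rw [comm_formula c2 (by decide +kernel) (by decide +kernel) (by decide +kernel)
        (by decide +kernel) a y, ChevalleyDatum.commWord] <;>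
      simp only [t8, t9, t10, t11, List.map_cons, List.map_nil, TwistedTools.wg_cons,
        TwistedTools.wg_nil] <;> push_cast
    · simp only [↓reduceIte, h3, neg_zero, zero_mul, xg_zero, mul_one, pow_one, ← mul_assoc]
      congr 2
      linear_combination (a * y) * h3
    all_goals simp [h3]
  simp only [tail, ReeTwist17.X, Bool.false_eq_true, ↓reduceIte]
  have s8 := sw 8 (by simp) c
  have s9 := sw 9 (by simp) d
  have s10 := sw 10 (by simp) e
  have s11 := sw 11 (by simp) g
  norm_num [xg_zero] at s8 s9 s10 s11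
  calc xg c2 8 c * xg c2 9 d * xg c2 10 e * xg c2 11 g * xg c2 7 a
      = xg c2 8 c * xg c2 9 d * xg c2 10 e * (xg c2 11 g * xg c2 7 a) := by group
    _ = xg c2 8 c * xg c2 9 d * (xg c2 10 e * xg c2 7 a) * xg c2 11 g := by rw [s11]; group
    _ = xg c2 8 c * (xg c2 9 d * xg c2 7 a) * xg c2 10 e * xg c2 11 g := by rw [s10]; group
    _ = (xg c2 8 c * xg c2 7 a) * xg c2 9 d * xg c2 10 e * xg c2 11 g := by rw [s9]; group
    _ = xg c2 7 a * xg c2 8 c * (xg c2 9 (-(a * c)) * xg c2 9 d) * xg c2 10 e * xg c2 11 g := by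
      rw [s8]; group
    _ = _ := by rw [xg_mul, neg_add_eq_sub]; group

theorem tail_X6 (b c d e g : K) : tail false c d e g * ReeTwist17.X false 6 b =
    ReeTwist17.X false 6 b * tail false c d e (g - b * e) := by
  obtain ⟨-, -, -, -, t8, t9, t10, t11⟩ := swap_terms
  have sw : ∀ r, r ∈ ([8, 9, 10, 11] : List ℕ) → ∀ y : K,
      xg c2 r y * xg c2 6 b = xg c2 6 b * xg c2 r y *
        xg c2 11 (if r = 10 then -(b * y) else 0) := by
    intro r hr y
    simp only [List.mem_cons, List.not_mem_nil, or_false] at hr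
    rcases hr with rfl | rfl | rfl | rfl <;>
      rw [comm_formula c2 (by decide +kernel) (by decide +kernel) (by decide +kernel)
        (by decide +kernel) b y, ChevalleyDatum.commWord] <;>
      simp [t8, t9, t10, t11, TwistedTools.wg_cons, TwistedTools.wg_nil]
  simp only [tail, ReeTwist17.X, Bool.false_eq_true, ↓reduceIte]
  have s8 := sw 8 (by simp) c
  have s9 := sw 9 (by simp) d
  have s10 := sw 10 (by simp) e
  have s11 := sw 11 (by simp) g
  norm_num [xg_zero] at s8 s9 s10 s11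
  calc xg c2 8 c * xg c2 9 d * xg c2 10 e * xg c2 11 g * xg c2 6 b
      = xg c2 8 c * xg c2 9 d * xg c2 10 e * (xg c2 11 g * xg c2 6 b) := by group
    _ = xg c2 8 c * xg c2 9 d * (xg c2 10 e * xg c2 6 b) * xg c2 11 g := by rw [s11]; group
    _ = xg c2 8 c * (xg c2 9 d * xg c2 6 b) * xg c2 10 e * (xg c2 11 (-(b * e)) * xg c2 11 g) := by
      rw [s10]; group
    _ = (xg c2 8 c * xg c2 6 b) * xg c2 9 d * xg c2 10 e * (xg c2 11 (-(b * e)) * xg c2 11 g) := by
      rw [s9]; group
    _ = _ := by rw [s8, xg_mul, neg_add_eq_sub]; group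

/-- the product in `U` -/
theorem Uf_mul (a b c d e g a' b' c' d' e' g' : K) :
    Uf false a b c d e g * Uf false a' b' c' d' e' g' = Uf false (a + a') (b + b')
      (c + c' + b * a') (d + d' + a' ^ 2 * b - a' * c) (e + e' - a' ^ 3 * b)
      (g + g' - a' ^ 3 * b ^ 2 - b' * (e - a' ^ 3 * b)) := by
  unfold Uf
  calc ReeTwist17.X false 7 a * ReeTwist17.X false 6 b * tail false c d e g *
        (ReeTwist17.X false 7 a' * ReeTwist17.X false 6 b' * tail false c' d' e' g')
      = ReeTwist17.X false 7 a * ReeTwist17.X false 6 b *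
          (tail false c d e g * ReeTwist17.X false 7 a') * ReeTwist17.X false 6 b' *
          tail false c' d' e' g' := by group
    _ = ReeTwist17.X false 7 a * (ReeTwist17.X false 6 b * ReeTwist17.X false 7 a') *
          tail false c (d - a' * c) e g * ReeTwist17.X false 6 b' * tail false c' d' e' g' := by
        rw [tail_X7]; group
    _ = (ReeTwist17.X false 7 a * ReeTwist17.X false 7 a') * ReeTwist17.X false 6 b *
          ((tail false (b * a') (a' ^ 2 * b) (-(a' ^ 3 * b)) (-(a' ^ 3 * b ^ 2)) *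
            tail false c (d - a' * c) e g) * ReeTwist17.X false 6 b') *
          tail false c' d' e' g' := by rw [swap76]; group
    _ = (ReeTwist17.X false 7 a * ReeTwist17.X false 7 a') * (ReeTwist17.X false 6 b *
          ReeTwist17.X false 6 b') *
          (tail false (b * a' + c) (a' ^ 2 * b + (d - a' * c)) (-(a' ^ 3 * b) + e)
            (-(a' ^ 3 * b ^ 2) + g - b' * (-(a' ^ 3 * b) + e)) * tail false c' d' e' g') := by
        rw [tail_mul, tail_X6]; group
    _ = _ := by
        rw [X_mul, X_mul, tail_mul]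
        congr 2 <;> ring

theorem Uf_zero : (Uf false 0 0 0 0 0 0 : GL chevG2.Idx K) = 1 := by
  simp [Uf, tail, X_zero]

variable [Fintype K] (X : ReeInstance17.Ctx K)

theorem tchar_vals (c : Kˣ) :
    (tchar chevG2 (X.par c) 6 : K) * X.θ (c : K) ^ 3 = (c : K) ^ 2 ∧
    (tchar chevG2 (X.par c) 10 : K) * (c : K) = X.θ (c : K) ^ 3 ∧
    (tchar chevG2 (X.par c) 11 : K) = c := by
  have hA : chevG2.cartan 0 6 = -3 ∧ chevG2.cartan 1 6 = 2 ∧ chevG2.cartan 0 10 = 3 ∧
      chevG2.cartan 1 10 = -1 ∧ chevG2.cartan 0 11 = 0 ∧ chevG2.cartan 1 11 = 1 := by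
    decide +kernel
  have huniv : (Finset.univ : Finset (Fin chevG2.rank)) = {⟨0, by decide⟩, ⟨1, by decide⟩} := by
    decide +kernel
  obtain ⟨a1, a2, a3, a4, a5, a6⟩ := hA
  simp only [tchar, huniv]
  rw [Finset.prod_pair (by decide), Finset.prod_pair (by decide), Finset.prod_pair (by decide)]
  have hθ : X.θ (c : K) ≠ 0 := (map_ne_zero X.θ).2 c.ne_zero
  simp only [a1, a2, a3, a4, a5, a6]
  refine ⟨?_, ?_, ?_⟩ <;> simp [Ctx.par, zpow_neg] <;> field_simp [c.ne_zero]

theorem conj_gen (c : Kˣ) (t u v : K) : ∃ (l μ : K), l * X.θ (c : K) ^ 3 = (c : K) ^ 2 ∧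
    μ * (c : K) = X.θ (c : K) ^ 3 ∧
    X.tor c * gen X.θ false t u v * (X.tor c)⁻¹ =
      gen X.θ false (l * t) (μ * u) ((c : K) * v) := by
  obtain ⟨h6, h10, h11⟩ := tchar_vals X c
  refine ⟨_, _, h6, h10, ?_⟩
  have hU : X.tor c * gen X.θ false t u v * (X.tor c)⁻¹ ∈ chevG2.posUnipotent K ⊓ X.G1 :=
    Subgroup.mem_inf.2 ⟨X.tw.S.H_conj_U (torus_mem_H c2 _) (Uf_mem_U _ _ _ _ _ _),
      mul_mem (mul_mem (ReeTorus17.tor_mem X c) (X.gen_mem _ _ _ _))
        (inv_mem (ReeTorus17.tor_mem X c))⟩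
  have hconj : ∀ r < chevG2.nroots, ∀ x : K, X.tor c * xg c2 r x * (X.tor c)⁻¹ =
      xg c2 r ((tchar chevG2 (X.par c) r : K) * x) := fun r hr x => by
    rw [Ctx.tor, MonoidHom.comp_apply, torus_conj_xg c2 hr]
  obtain ⟨t', u', v', h⟩ := X.mem_U1 hU
  rw [h]
  have e : ∀ a b c' d e' g : K, X.tor c * Uf false a b c' d e' g * (X.tor c)⁻¹ =
      Uf false ((tchar chevG2 (X.par c) 7 : K) * a) ((tchar chevG2 (X.par c) 6 : K) * b)
        ((tchar chevG2 (X.par c) 8 : K) * c') ((tchar chevG2 (X.par c) 9 : K) * d)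
        ((tchar chevG2 (X.par c) 10 : K) * e') ((tchar chevG2 (X.par c) 11 : K) * g) := by
    intro a b c' d e' g
    simp only [Uf, tail, ReeTwist17.X, Bool.false_eq_true, ↓reduceIte]
    rw [← hconj 7 (by decide +kernel), ← hconj 6 (by decide +kernel), ← hconj 8 (by decide +kernel),
      ← hconj 9 (by decide +kernel), ← hconj 10 (by decide +kernel), ← hconj 11 (by decide +kernel)]
    group
  rw [gen, e, gen] at h
  obtain ⟨-, h2, -, -, h5, h6'⟩ := Uf_inj h
  rw [h11] at h6'
  rw [h2, h5, h6']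

theorem fix_one {c : Kˣ} (h : X.θ (c : K) ^ 3 = (c : K) ^ 2) : c = 1 := by
  have h1 := congrArg X.θ h
  rw [map_pow, map_pow, X.sq] at h1
  have h2 : (c : K) ^ 3 * (c : K) = (c : K) ^ 3 * 1 := by
    rw [mul_one]
    calc (c : K) ^ 3 * (c : K) = ((c : K) ^ 2) ^ 2 := by ring
      _ = (X.θ (c : K) ^ 3) ^ 2 := by rw [h]
      _ = (X.θ (c : K) ^ 2) ^ 3 := by ring
      _ = (c : K) ^ 3 := by rw [← h1]
  exact Units.ext (mul_left_cancel₀ (pow_ne_zero 3 c.ne_zero) h2)

theorem fix_sq_one {c : Kˣ} (h : X.θ (c : K) ^ 3 = (c : K)) : c = 1 ∨ c = -1 := by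
  have h1 := congrArg X.θ h
  rw [map_pow, X.sq] at h1
  rw [← h1] at h
  have h2 : (c : K) * ((c : K) * (c : K)) = (c : K) * 1 := by linear_combination h
  rcases mul_self_eq_one_iff.1 (mul_left_cancel₀ c.ne_zero h2) with e | e
  · exact Or.inl (Units.ext e)
  · exact Or.inr (Units.ext (by rw [e]; rfl))

/-- a torus element which is not an involution fixes no element of `U¹` -/
theorem cent_bot {c : Kˣ} (h1 : c ≠ 1) (h2 : c ≠ -1) {w : GL chevG2.Idx K}
    (hw : w ∈ chevG2.posUnipotent K ⊓ X.G1) (hc : X.tor c * w = w * X.tor c) : w = 1 := by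
  obtain ⟨t, u, v, rfl⟩ := X.mem_U1 hw
  obtain ⟨l, μ, hl, hμ, h⟩ := conj_gen X c t u v
  rw [hc, mul_inv_cancel_right, gen, gen] at h
  obtain ⟨-, ht, -, -, hu, hv⟩ := Uf_inj h
  have hv0 : v = 0 := by
    by_contra hne
    exact h1 (Units.ext (mul_right_cancel₀ hne (by rw [Units.val_one, one_mul]; exact hv.symm)))
  have ht0 : t = 0 := by
    by_contra hne
    have : l = 1 := mul_right_cancel₀ hne (by rw [one_mul]; exact ht.symm)
    rw [this, one_mul] at hl
    exact h1 (fix_one X hl)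
  have hu0 : u = 0 := by
    by_contra hne
    have : μ = 1 := mul_right_cancel₀ hne (by rw [one_mul]; exact hu.symm)
    rw [this, one_mul] at hμ
    exact (fix_sq_one X hμ.symm).elim h1 h2
  rw [ht0, hu0, hv0, gen]
  simp [Uf_zero]

/-- the parameters of a cube -/
theorem gen_one_cube (u v : K) : gen X.θ false 1 u v ^ 3 ≠ 1 := by
  intro h
  rw [pow_three', gen, map_one, Uf_mul, Uf_mul] at h
  obtain ⟨-, -, -, h4, -, -⟩ := Uf_inj (h.trans Uf_zero.symm)
  have h3 : (3 : K) = 0 := by exact_mod_cast CharP.cast_eq_zero K 3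
  refine one_ne_zero (α := K) ?_
  linear_combination (-1 : K) * h4 + (X.θ v - X.θ u + 1) * h3

theorem gen_cube_iff (t u v : K) : gen X.θ false t u v ^ 3 = 1 ↔ t = 0 := by
  constructor
  · intro h
    by_contra ht
    let f : Kˣ → Kˣ := fun c => c ^ 2 * ((Units.map X.θ.toMonoidHom c) ^ 3)⁻¹
    have hf : Function.Injective f := by
      intro a b hab
      let F : Kˣ →* Kˣ :=
        { toFun := f
          map_one' := by simp [f]
          map_mul' := fun x y => by simp only [f, map_mul, mul_pow, mul_inv]; ac_rfl }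
      have hF : Function.Injective F := (injective_iff_map_eq_one F).2 fun c hc => by
        have hc' : c ^ 2 * ((Units.map X.θ.toMonoidHom c) ^ 3)⁻¹ = 1 := hc
        rw [mul_inv_eq_one] at hc'
        exact fix_one X (congrArg Units.val hc').symm
      exact hF hab
    obtain ⟨c, hc⟩ := Finite.surjective_of_injective hf (Units.mk0 t ht)⁻¹
    obtain ⟨l, μ, hl, -, he⟩ := conj_gen X c t u v
    have hl1 : l * t = 1 := by
      have e := congrArg Units.val hc
      simp only [f, Units.val_mul, Units.val_inv_eq_inv_val, Units.val_pow_eq_pow_val,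
        Units.coe_map, Units.val_mk0] at e
      have hθ : X.θ (c : K) ^ 3 ≠ 0 := pow_ne_zero 3 ((map_ne_zero X.θ).2 c.ne_zero)
      have : l = (c : K) ^ 2 * (X.θ (c : K) ^ 3)⁻¹ := by rw [← hl, mul_inv_cancel_right₀ hθ]
      rw [this]
      exact (congrArg (· * t) e).trans (inv_mul_cancel₀ ht)
    rw [hl1] at he
    apply gen_one_cube X (μ * u) ((c : K) * v)
    rw [← he, conj_pow, h, mul_one, mul_inv_cancel]
  · rintro rfl
    have h3 : (3 : K) = 0 := by exact_mod_cast CharP.cast_eq_zero K 3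
    rw [pow_three', gen, map_zero, Uf_mul, Uf_mul]
    conv_rhs => rw [← Uf_zero]
    congr 1 <;> ring_nf <;> simp [h3]

theorem card_order_three :
    Nat.card {w : ↥(chevG2.posUnipotent K ⊓ X.G1) // orderOf w = 3} = Fintype.card K ^ 2 - 1 := by
  classical
  haveI : Fact (Nat.Prime 3) := ⟨Nat.prime_three⟩
  let f : {p : K × K // p ≠ 0} → {w : ↥(chevG2.posUnipotent K ⊓ X.G1) // orderOf w = 3} := fun p =>
    ⟨⟨gen X.θ false 0 p.1.1 p.1.2, ReeSimple17.gen_U1 X _ _ _⟩, by
      refine orderOf_eq_prime (Subtype.ext ((gen_cube_iff X 0 _ _).2 rfl)) fun h => p.2 ?_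
      have h' := congrArg Subtype.val h
      simp only [OneMemClass.coe_one, gen] at h'
      rw [← Uf_zero] at h'
      obtain ⟨-, -, -, -, h5, h6⟩ := Uf_inj h'
      exact Prod.ext h5 h6⟩
  have hf : Function.Bijective f := by
    refine ⟨fun p q h => ?_, fun w => ?_⟩
    · have h' := congrArg (fun x => (x.1.1 : GL chevG2.Idx K)) h
      simp only [f, gen] at h'
      obtain ⟨-, -, -, -, h5, h6⟩ := Uf_inj h'
      exact Subtype.ext (Prod.ext h5 h6)
    · obtain ⟨⟨w, hw⟩, ho⟩ := w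
      obtain ⟨t, u, v, rfl⟩ := X.mem_U1 hw
      have h3 := congrArg Subtype.val (pow_orderOf_eq_one (⟨_, hw⟩ : ↥(chevG2.posUnipotent K ⊓ X.G1)))
      rw [ho] at h3
      obtain rfl := (gen_cube_iff X t u v).1 h3
      refine ⟨⟨(u, v), fun h => ?_⟩, rfl⟩
      rw [Prod.mk_eq_zero] at h
      have : (⟨_, hw⟩ : ↥(chevG2.posUnipotent K ⊓ X.G1)) = 1 := Subtype.ext (by
        show gen X.θ false 0 u v = 1
        rw [h.1, h.2, gen]; simp [Uf_zero])
      rw [this, orderOf_one] at ho
      norm_num at ho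
  rw [← Nat.card_eq_of_bijective f hf, Nat.card_eq_fintype_card, Fintype.card_subtype_compl,
    Fintype.card_subtype_eq, Fintype.card_prod, pow_two]

end Cfsg.Agent.ReeOrderThree17
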