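import Cfsg.Agent.Lib.ReeLocal8
import Cfsg.Agent.Lib.ReeRep8
import Cfsg.Agent.Lib.ReeSylow17
import Cfsg.Agent.Lib.ReeTorus17
import Cfsg.Agent.Lib.ReeCentralizer17
import Cfsg.Agent.Lib.ReeInvolutions17
import Cfsg.Agent.Lib.ReeSimple17
import Cfsg.Agent.Lib.ReeOrderThree17
import Cfsg.Agent.Lib.ReeBorel86

/-!
The small Ree groups satisfy the hypotheses of the abstract theory.
-/

set_option autoImplicit false
set_option maxRecDepth 20000

namespace Cfsg.Agent.ReeData78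

open Cfsg.Lie Cfsg.Agent.ReeSL2 Cfsg.Agent.ReeInstance17 Cfsg.Agent.ChevExcGraphData
open Cfsg.Agent.ChevBruhat
open scoped MatrixGroups

variable {K : Type*} [Field K] [Fintype K] [CharP K 3] (X : Ctx K)

/-- the torus as a homomorphism into the group -/
noncomputable def tau : Kˣ →* ↥X.G1 := X.tor.codRestrict _ (ReeTorus17.tor_mem X)

theorem coe_tau (c : Kˣ) : (tau X c : GL chevG2.Idx K) = X.tor c := rfl

theorem tau_inj : Function.Injective (tau X) := fun _ _ h =>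
  ReeCentralizer17.tor_inj X (congrArg Subtype.val h)

theorem conj_U0 {g x : ↥X.G1} (hg : (g : GL chevG2.Idx K) ∈ chevG2.borelSubgroup K)
    (hx : x ∈ ReeSylow17.U0 X) : g * x * g⁻¹ ∈ ReeSylow17.U0 X :=
  ⟨ReeSylow17.conj_U X hg hx.1, (g * x * g⁻¹).2⟩

theorem normalizer_U0 {g : ↥X.G1} :
    g ∈ Subgroup.normalizer (ReeSylow17.U0 X : Set ↥X.G1) ↔
      (g : GL chevG2.Idx K) ∈ chevG2.borelSubgroup K := by
  refine ⟨fun hg => ?_, fun hg => ReeTools8.mem_normalizer_of_finite fun x hx => conj_U0 X hg hx⟩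
  obtain ⟨u, hu, hu1⟩ : ∃ u ∈ ReeSylow17.U0 X, u ≠ 1 := by
    refine ⟨ReeBorel86.gu X 1 0 0, ⟨ReeBorel86.gu_mem_U X 1 0 0, (ReeBorel86.gu X 1 0 0).2⟩,
      fun e => ?_⟩
    rw [← ReeBorel86.gu_zero X] at e
    exact one_ne_zero (ReeBorel86.gu_inj X e).1
  have hgu := (Subgroup.mem_normalizer_iff.1 hg u).1 hu
  refine ReeSylow17.mem_B_of_conj X (x := ((g * u * g⁻¹ : ↥X.G1) : GL chevG2.Idx K))
    (y := (u : GL chevG2.Idx K)) g.2 hgu ?_ hu (by simp)
  intro e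
  exact hu1 (conj_eq_one_iff.1 (Subtype.ext e : g * u * g⁻¹ = 1))

theorem U0_cube {x : ↥X.G1} (hx : x ∈ ReeSylow17.U0 X) : (x ^ 3) ^ 3 = 1 := by
  obtain ⟨t, u, v, rfl⟩ := (ReeBorel86.mem_U1_iff X).1 (show x ∈ TwistAutRigid.U1 X.G1 from hx.1)
  have h3 : (3 : K) = 0 := by exact_mod_cast CharP.cast_eq_zero K 3
  obtain ⟨a, b, e⟩ : ∃ a b, ReeBorel86.gu X t u v ^ 3 = ReeBorel86.gu X 0 a b := by
    rw [pow_succ, sq, ReeBorel86.gu_mul, ReeBorel86.gu_mul,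
      show t + t + t = 0 by linear_combination t * h3]
    exact ⟨_, _, rfl⟩
  rw [e]
  exact Subtype.ext ((ReeOrderThree17.gen_cube_iff X 0 a b).2 rfl)

variable {m : ℕ} (hK : Fintype.card K = 3 ^ (2 * m + 1))
include hK

theorem card_G1 : Nat.card ↥X.G1 = (3 ^ (2 * m + 1)) ^ 3 * (3 ^ (2 * m + 1) - 1) *
    ((3 ^ (2 * m + 1)) ^ 3 + 1) := by
  rw [ReeTorus17.card_G1_eq, hK]; ring

theorem exists_sylow : ∃ S : Sylow 3 ↥X.G1, (S : Subgroup ↥X.G1) = ReeSylow17.U0 X := by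
  have : Fact (Nat.Prime 3) := ⟨Nat.prime_three⟩
  obtain ⟨h3a, h3b⟩ := ReeSylow17.three_not_dvd hK
  obtain ⟨S, hS⟩ := IsPGroup.exists_le_sylow (p := 3) (P := ReeSylow17.U0 X)
    (IsPGroup.of_card (n := (2 * m + 1) * 3) (by rw [ReeSylow17.card_U0, hK, ← pow_mul]))
  refine ⟨S, (Subgroup.eq_of_le_of_card_ge hS ?_).symm⟩
  rw [ReeSylow17.card_U0, hK, ← pow_mul]
  refine (PSL2Sylow.sylow_card_eq (b := (Fintype.card K - 1) * (1 + Fintype.card K ^ 3)) ?_ ?_ S).le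
  · rw [ReeTorus17.card_G1_eq, pow_mul, ← hK]; ring
  · intro h
    rcases (Nat.Prime.dvd_mul Nat.prime_three).1 h with h | h
    · exact h3a h
    · exact h3b h

theorem exists_a (hm : 1 ≤ m) : ∃ a : ↥X.G1, a ∈ (tau X).range ∧ a ≠ 1 ∧ a * a = 1 ∧
    ReePSL8.InvCent (3 ^ (2 * m + 1)) a ∧
    (∀ S : Sylow 2 ↥X.G1, ∀ x ∈ S, x * x = 1) := by
  have _ := hm
  refine ⟨tau X (-1), ⟨_, rfl⟩, fun e => ReeTorus17.neg_one_ne (tau_inj X (e.trans (map_one _).symm)),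
    by rw [← map_mul, neg_one_mul, neg_neg, map_one], ?_⟩
  obtain ⟨⟨e⟩, hS⟩ := ReeCentralizer17.main hK X (tau X (-1)) (ReeCentralizer17.av_mem_H X)
    (fun e => ReeTorus17.neg_one_ne (tau_inj X (e.trans (map_one _).symm)))
    (by rw [← map_mul, neg_one_mul, neg_neg, map_one])
  refine ⟨?_, fun S x hx => (hS S).2 x hx⟩
  have hq : Nat.card K = 3 ^ (2 * m + 1) := by rw [Nat.card_eq_fintype_card, hK]
  rw [← hq]
  refine ReePSL8.invCent_of_equiv ?_ ?_ _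
    (fun e => ReeTorus17.neg_one_ne (tau_inj X (e.trans (map_one _).symm)))
    (by rw [← map_mul, neg_one_mul, neg_neg, map_one]) e
  · rw [hq, pow_succ, pow_mul, Nat.mul_mod, Nat.pow_mod]; simp
  · rw [hq]; exact dvd_pow_self 3 (by omega)

theorem three_points (x : ↥X.G1) (hx : x ^ 2 ≠ 1) :
    Nat.card {P : Sylow 3 ↥X.G1 // x ∈ Subgroup.normalizer (P : Set ↥X.G1)} ≤ 2 := by
  classical
  have : Fact (Nat.Prime 3) := ⟨Nat.prime_three⟩
  obtain ⟨S, hS⟩ := exists_sylow X hK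
  have hN : ∀ {g : ↥X.G1}, g ∈ Subgroup.normalizer (S : Set ↥X.G1) ↔
      g ∈ ReeInvolutions17.Bs X := fun {g} => by
    change g ∈ Subgroup.normalizer ((S : Subgroup ↥X.G1) : Set ↥X.G1) ↔ _
    rw [hS, normalizer_U0, Subgroup.mem_subgroupOf, Subgroup.mem_inf]
    exact ⟨fun h => ⟨h, g.2⟩, fun h => h.1⟩
  have hsurj : ∀ P : Sylow 3 ↥X.G1, ∃ g : ↥X.G1, g • S = P := MulAction.exists_smul_eq _ S
  choose c hc using hsurj
  by_contra hlt
  rw [not_le, Nat.card_eq_fintype_card, Fintype.two_lt_card_iff] at hlt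
  obtain ⟨⟨P, hP⟩, ⟨Q, hQ⟩, ⟨R, hR⟩, hPQ, hPR, hQR⟩ := hlt
  have hne : ∀ {P Q : Sylow 3 ↥X.G1}, P ≠ Q →
      (c P : ↥X.G1 ⧸ ReeInvolutions17.Bs X) ≠ c Q := fun {P Q} h e => h <| by
    rw [QuotientGroup.eq, ← hN, ← Sylow.smul_eq_iff_mem_normalizer, mul_smul, inv_smul_eq_iff,
      hc Q, hc P] at e
    exact e.symm
  have hfix : ∀ P : Sylow 3 ↥X.G1, x ∈ Subgroup.normalizer (P : Set ↥X.G1) →
      x ∈ MulAction.stabilizer ↥X.G1 (c P : ↥X.G1 ⧸ ReeInvolutions17.Bs X) := by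
    intro P hP
    rw [← Sylow.smul_eq_iff_mem_normalizer, ← hc P, smul_smul] at hP
    rw [MulAction.mem_stabilizer_iff, MulAction.Quotient.smul_coe, smul_eq_mul, QuotientGroup.eq,
      ← hN, ← Sylow.smul_eq_iff_mem_normalizer, mul_smul, inv_smul_eq_iff, hP]
  have hle := ReeInvolutions17.triple_le X (hne (fun e => hPQ (Subtype.ext e)))
    (hne (fun e => hPR (Subtype.ext e))) (hne (fun e => hQR (Subtype.ext e)))
  have hmem : x ∈ ReeInvolutions17.St X (c P : ↥X.G1 ⧸ ReeInvolutions17.Bs X) (c Q) (c R) :=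
    ⟨⟨hfix P hP, hfix Q hQ⟩, hfix R hR⟩
  have h2 : orderOf x ≤ 2 :=
    (Nat.le_of_dvd Nat.card_pos (Subgroup.orderOf_dvd_natCard _ hmem)).trans hle
  have hpos := orderOf_pos x
  apply hx
  rw [← orderOf_dvd_iff_pow_eq_one]
  interval_cases orderOf x <;> norm_num

theorem twelve (hm : 1 ≤ m) (r c k : ℕ) (g y : ↥X.G1) (hr : r.Prime)
    (hd : r ∣ (3 ^ (2 * m + 1)) ^ 2 - 3 ^ (2 * m + 1) + 1) (hy : y ^ r ^ c = 1)
    (hconj : g * y * g⁻¹ = y ^ k) : Commute (g ^ 12) y := by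
  have _ := hm
  have : CharP K excG2.p := (inferInstance : CharP K 3)
  let S : Sys chevG2 K := ChevBruhatInstance.sys chevG2 (by simp) K
  let inn := (ChevExcGraph.inner excG2 c2 (F := K)).toHomUnits
  have hinn : Function.Injective inn := ChevExcGraph.inner_injective excG2 c2 S
  have hle : X.G1 ≤ chevG2.group K := fun g hg => (X.le_fixed hg).1
  have hval : Function.Injective ((Units.coeHom (Matrix (ChevExcGraph.SubIdx excG2)
      (ChevExcGraph.SubIdx excG2) K)).comp (inn.comp (Subgroup.inclusion hle))) :=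
    Units.val_injective.comp (hinn.comp (Subgroup.inclusion_injective hle))
  exact ReeRep8.pow_twelve (by rw [ReeSylow17.card_idx]; norm_num) _ hval hK
    (dvd_pow_self 3 (by omega)) (Odd.pow ⟨1, rfl⟩) r c k g y hr hd hy hconj

theorem exists_data_aux (hm : 1 ≤ m) : ∃ D : ReeLocal8.ReeData ↥X.G1, D.m = m := by
  classical
  have : Fact (Nat.Prime 3) := ⟨Nat.prime_three⟩
  have : Fact (Nat.Prime 2) := ⟨Nat.prime_two⟩
  obtain ⟨S, hS⟩ := exists_sylow X hK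
  obtain ⟨a, haH, ha1, ha2, hcent, htwo⟩ := exists_a X hK hm
  have h3 : 3 < Fintype.card K := by
    rw [hK]
    calc 3 < 3 ^ 3 := by norm_num
      _ ≤ _ := Nat.pow_le_pow_right (by norm_num) (by omega)
  refine ⟨⟨m, 3 ^ (2 * m + 1), hm, rfl, card_G1 X hK, (ReeSimple17.simple X h3).1,
    ReeSylow17.sylow3_inter X hK, fun x hx => ?_, fun p hp h3 P => ?_, S, (tau X).range,
    isCyclic_of_surjective (tau X).rangeRestrict (tau X).rangeRestrict_surjective, ?_, ?_, fun h hh h1 hodd u hu hc => ?_, a, haH, ha1, ha2, hcent,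
    fun u hu => ?_, ?_, twelve X hK hm⟩, rfl⟩
  · obtain ⟨i, -, hi⟩ := (Nat.dvd_prime_pow Nat.prime_two).1
      (orderOf_dvd_of_pow_eq_one (show x ^ (2 ^ 2) = 1 from hx))
    obtain ⟨T, hT⟩ := IsPGroup.exists_le_sylow (p := 2) (P := Subgroup.zpowers x)
      (IsPGroup.of_card (n := i) (by rw [Nat.card_zpowers, hi]))
    rw [sq]
    exact htwo T x (hT (Subgroup.mem_zpowers x))
  · have : Fact p.Prime := ⟨hp⟩
    exact ReeSylow17.cyclic_p X h3 hK P
  · rw [← Nat.card_congr (MonoidHom.ofInjective (tau_inj X)).toEquiv, PSLCard.card_units_field,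
      Nat.card_eq_fintype_card, hK]
  · rintro _ ⟨c, rfl⟩
    change tau X c ∈ Subgroup.normalizer ((S : Subgroup ↥X.G1) : Set ↥X.G1)
    rw [hS, normalizer_U0]
    exact Sys.H_le_B (ChevalleyTorus.torus_mem_H c2 _)
  · obtain ⟨c, rfl⟩ := hh
    have hu' : u ∈ ReeSylow17.U0 X := hS ▸ hu
    have hc1 : c ≠ 1 := fun e => h1 (by rw [e, map_one])
    have hc2 : c ≠ -1 := fun e => by
      obtain ⟨j, hj⟩ := hodd
      rw [orderOf_injective _ (tau_inj X), e] at hj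
      have := orderOf_dvd_of_pow_eq_one (x := (-1 : Kˣ)) (n := 2) (by simp)
      have hne : orderOf (-1 : Kˣ) ≠ 1 := fun h => ReeTorus17.neg_one_ne (orderOf_eq_one_iff.1 h)
      rcases (Nat.dvd_prime Nat.prime_two).1 this with h | h
      · exact hne h
      · omega
    exact Subtype.ext (ReeOrderThree17.cent_bot X hc1 hc2 ⟨hu'.1, u.2⟩ (congrArg Subtype.val hc.eq))
  · rw [show 9 = 3 * 3 from rfl, pow_mul]
    exact U0_cube X (hS ▸ hu)
  · refine ⟨ReeBorel86.gu X 1 0 0, ?_, fun e => ?_⟩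
    · change _ ∈ (S : Subgroup ↥X.G1)
      rw [hS]
      exact ⟨ReeBorel86.gu_mem_U X 1 0 0, (ReeBorel86.gu X 1 0 0).2⟩
    · exact ReeOrderThree17.gen_one_cube X 0 0 (congrArg Subtype.val e)

omit [CharP K 3] X in
/-- The small Ree group over a field with `3^(2m+1)` elements is of small Ree type. -/
theorem exists_data78 (hm : 1 ≤ m) :
    ∃ D : ReeLocal8.ReeData ↥(twistedG2 K (3 ^ m)), D.m = m := by
  have : Fact (Nat.Prime 3) := ⟨Nat.prime_three⟩
  have : CharP K 3 := charP_of_card_eq_prime_pow (f := 2 * m + 1) (by rw [hK])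
  obtain ⟨X, hX⟩ := exists_ctx hK
  rw [← hX]
  exact exists_data_aux X hK hm

end Cfsg.Agent.ReeData78
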