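import Cfsg.Agent.Lib.ReeSpectrum8
import Cfsg.Agent.Lib.ReeRep8
import Cfsg.Agent.Lib.ReeOrderThree17
import Cfsg.Agent.Lib.ReeCentralizer17
import Cfsg.Agent.Lib.ReeSylow17
import Cfsg.Agent.Lib.ReeSimple17

/-!
The small Ree group `²G₂(q)`, `q = 3 ^ (2m+1)`, `m ≥ 1`, satisfies the hypotheses `ReeData`.
-/

set_option autoImplicit false

namespace Cfsg.Agent.ReeData8

open Cfsg.Lie Cfsg.Agent.ReeTwist17 Cfsg.Agent.ReeLocal8

variable {K : Type*} [Field K] [Fintype K] [CharP K 3] (X : ReeInstance17.Ctx K)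

theorem card_idx_le : Fintype.card chevG2.Idx ≤ 14 := by decide +kernel

theorem cube_gen (t u v : K) : ∃ u' v', gen X.θ false t u v ^ 3 = gen X.θ false 0 u' v' := by
  have hm : gen X.θ false t u v ^ 3 ∈ chevG2.posUnipotent K ⊓ X.G1 :=
    pow_mem (ReeSimple17.gen_U1 X t u v) 3
  obtain ⟨t', u', v', h⟩ := X.mem_U1 hm
  have h' := h
  rw [pow_three', gen, ReeOrderThree17.Uf_mul, ReeOrderThree17.Uf_mul, gen] at h'
  obtain ⟨-, h2, -, -, -, -⟩ := Uf_inj h'
  have ht : t' = 0 := by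
    rw [← h2]
    have h3 : (3 : K) = 0 := by exact_mod_cast CharP.cast_eq_zero K 3
    linear_combination t * h3
  exact ⟨u', v', ht ▸ h⟩

theorem nine_U {w : GL chevG2.Idx K} (hw : w ∈ chevG2.posUnipotent K ⊓ X.G1) : w ^ 9 = 1 := by
  obtain ⟨t, u, v, rfl⟩ := X.mem_U1 hw
  obtain ⟨u', v', h⟩ := cube_gen X t u v
  rw [show 9 = 3 * 3 from rfl, pow_mul, h]
  exact (ReeOrderThree17.gen_cube_iff X 0 u' v').2 rfl

theorem exists_data {m : ℕ} (hm : 1 ≤ m) (hK : Fintype.card K = 3 ^ (2 * m + 1)) :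
    ∃ D : ReeData ↥X.G1, D.q = Fintype.card K ∧ D.m = m := by
  classical
  have : Fact (Nat.Prime 3) := ⟨Nat.prime_three⟩
  have : Fact (Nat.Prime 2) := ⟨Nat.prime_two⟩
  obtain ⟨h3a, h3b⟩ := ReeSylow17.three_not_dvd hK
  have hq1 : 1 < Fintype.card K := Fintype.one_lt_card
  have hcard : Nat.card ↥X.G1 =
      Fintype.card K ^ 3 * (Fintype.card K - 1) * (Fintype.card K ^ 3 + 1) := by
    rw [ReeTorus17.card_G1_eq]; ring
  have hp3 : IsPGroup 3 (ReeSylow17.U0 X) := IsPGroup.of_card (n := 3 * (2 * m + 1)) (by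
    rw [ReeSylow17.card_U0, hK, ← pow_mul]; ring_nf)
  obtain ⟨P, hP⟩ := hp3.exists_le_sylow
  have hPcard : Nat.card (P : Subgroup ↥X.G1) = Fintype.card K ^ 3 := by
    rw [hK, ← pow_mul]
    refine PSL2Sylow.sylow_card_eq (b := (Fintype.card K - 1) * (Fintype.card K ^ 3 + 1)) ?_ ?_ P
    · rw [hcard, hK, ← pow_mul, mul_comm (3 ^ ((2 * m + 1) * 3)), mul_assoc]
      ring
    · intro h
      rcases (Nat.Prime.dvd_mul Nat.prime_three).1 h with h | h
      · exact h3a h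
      · exact h3b (by rwa [add_comm])
  have hPe : (P : Subgroup ↥X.G1) = ReeSylow17.U0 X :=
    (Subgroup.eq_of_le_of_card_ge hP (by rw [hPcard, ReeSylow17.card_U0])).symm
  have hmemU : ∀ u : ↥X.G1, u ∈ (P : Subgroup ↥X.G1) →
      (u : GL chevG2.Idx K) ∈ chevG2.posUnipotent K ⊓ X.G1 := fun u hu => by
    rw [hPe, Subgroup.mem_subgroupOf] at hu; exact hu
  obtain ⟨H, hH⟩ : ∃ H : Subgroup ↥X.G1, H = (chevG2.diagonalSubgroup K ⊓ X.G1).subgroupOf X.G1 :=
    ⟨_, rfl⟩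
  have hHmem : ∀ h, h ∈ H ↔ ((h : GL chevG2.Idx K) ∈ chevG2.diagonalSubgroup K) := fun h => by
    rw [hH, Subgroup.mem_subgroupOf]
    exact ⟨fun h' => h'.1, fun h' => ⟨h', h.2⟩⟩
  have hHe := Subgroup.subgroupOfEquivOfLe (inf_le_right : chevG2.diagonalSubgroup K ⊓ X.G1 ≤ X.G1)
  have hHcyc : IsCyclic H := by
    have := isCyclic_of_surjective (ReeTorus17.H1equiv X) (ReeTorus17.H1equiv X).surjective
    rw [hH]; exact hHe.isCyclic.2 this
  have hHcard : Nat.card H = Fintype.card K - 1 := by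
    rw [hH, Nat.card_congr hHe.toEquiv, ReeTorus17.card_H1]
  obtain ⟨a, ha⟩ : ∃ a : ↥X.G1, a = ⟨ReeCentralizer17.av X, ReeTorus17.av_mem X⟩ := ⟨_, rfl⟩
  have haval : (a : GL chevG2.Idx K) = ReeCentralizer17.av X := by rw [ha]
  have ha1 : a ≠ 1 := fun e => ReeCentralizer17.av_ne_one X (ReeTorus17.av_mem X) (by rw [← haval, e, OneMemClass.coe_one])
  have ha2 : a * a = 1 := Subtype.ext (by
    rw [Subgroup.coe_mul, haval, OneMemClass.coe_one, ReeCentralizer17.av_sq])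
  have haH : (a : GL chevG2.Idx K) ∈ chevG2.diagonalSubgroup K := haval ▸ ReeCentralizer17.av_mem_H X
  obtain ⟨⟨e⟩, hsyl⟩ := ReeCentralizer17.main hK X a haH ha1 ha2
  have hq8 : Fintype.card K % 4 = 3 := by
    rw [hK, pow_succ, pow_mul, Nat.mul_mod, Nat.pow_mod]; norm_num
  have hinv := ReePSL8.invCent_of_equiv (F := K) (by rw [Nat.card_eq_fintype_card]; exact hq8)
    (by rw [Nat.card_eq_fintype_card, hK]; exact dvd_pow_self 3 (Nat.succ_ne_zero _)) a ha1 ha2 e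
  refine ⟨{
    m := m
    q := Fintype.card K
    one_le_m := hm
    q_eq := hK
    card_eq := hcard
    simple := (ReeSimple17.simple X (by
      rw [hK]
      calc 3 = 3 ^ 1 := rfl
        _ < 3 ^ (2 * m + 1) := Nat.pow_lt_pow_right (by norm_num) (by omega))).1
    ti := fun Q R hQR => ReeSylow17.sylow3_inter X hK Q R hQR
    exp_two := fun x hx => ?_
    cyclic := fun p hp h3 Q => ?_
    U := P
    H := H
    H_cyclic := hHcyc
    card_H := hHcard
    H_le := fun h hh => ?_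
    fpf := fun h hh h1 hodd u hu hc => ?_
    a := a
    a_mem := (hHmem a).2 haH
    a_ne := ha1
    a_sq := ha2
    cent := by rwa [Nat.card_eq_fintype_card] at hinv
    nine := fun u hu => Subtype.ext (by rw [SubgroupClass.coe_pow]; exact nine_U X (hmemU u hu))
    exists_nine := ?_
    twelve := fun r c k g y hr hd hy hconj => ?_ }, rfl, rfl⟩
  · obtain ⟨i, -, hi⟩ := (Nat.dvd_prime_pow Nat.prime_two).1
      (orderOf_dvd_of_pow_eq_one (show x ^ 2 ^ 2 = 1 from hx))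
    obtain ⟨S, hS⟩ := IsPGroup.exists_le_sylow (p := 2) (P := Subgroup.zpowers x)
      (IsPGroup.of_card (n := i) (by rw [Nat.card_zpowers, hi]))
    rw [sq]
    exact (hsyl S).2 x (hS (Subgroup.mem_zpowers x))
  · have : Fact p.Prime := ⟨hp⟩
    exact ReeSylow17.cyclic_p X h3 hK Q
  · refine ReeTools8.mem_normalizer_of_finite fun x hx => ?_
    have hx' := hmemU x hx
    rw [hPe, Subgroup.mem_subgroupOf]
    refine ⟨?_, (h * x * h⁻¹).2⟩
    rw [Subgroup.coe_mul, Subgroup.coe_mul, Subgroup.coe_inv]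
    exact ReeSylow17.conj_U X (ChevBruhat.Sys.H_le_B ((hHmem h).1 hh)) hx'.1
  · obtain ⟨c, hcv⟩ := X.H1_le (⟨(hHmem h).1 hh, h.2⟩ :
      (h : GL chevG2.Idx K) ∈ chevG2.diagonalSubgroup K ⊓ X.G1)
    rw [← Subgroup.orderOf_coe, ← hcv, orderOf_injective _ (ReeCentralizer17.tor_inj X)] at hodd
    apply Subtype.ext
    rw [OneMemClass.coe_one]
    refine ReeOrderThree17.cent_bot X (c := c) ?_ ?_ (hmemU u hu) ?_
    · intro e1
      exact h1 (Subtype.ext (by rw [← hcv, e1, map_one, OneMemClass.coe_one]))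
    · intro e1
      rw [e1, orderOf_eq_prime (p := 2) (by simp) (ReeTorus17.neg_one_ne)] at hodd
      exact absurd hodd (by decide)
    · rw [hcv]
      exact congrArg Subtype.val hc.eq
  · refine ⟨⟨gen X.θ false 1 0 0, X.gen_mem _ _ _ _⟩, ?_, fun h => ?_⟩
    · change _ ∈ (P : Subgroup ↥X.G1)
      rw [hPe, Subgroup.mem_subgroupOf]
      exact ReeSimple17.gen_U1 X 1 0 0
    · exact ReeOrderThree17.gen_one_cube X 0 0 (congrArg Subtype.val h)
  · exact ReeRep8.pow_twelve card_idx_le ((Units.coeHom _).comp X.G1.subtype)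
      (Units.val_injective.comp Subtype.val_injective) rfl
      (by rw [hK]; exact dvd_pow_self 3 (Nat.succ_ne_zero _))
      (by rw [hK]; exact Odd.pow (by decide)) r c k g y hr hd hy hconj

/-- The small Ree groups carry `ReeData`. -/
theorem exists_data' {K : Type*} [Field K] [Fintype K] {m : ℕ} (hm : 1 ≤ m)
    (hK : Fintype.card K = 3 ^ (2 * m + 1)) :
    ∃ D : ReeData ↥(Cfsg.Lie.twistedG2 K (3 ^ m)), D.q = 3 ^ (2 * m + 1) ∧ D.m = m := by
  have : Fact (Nat.Prime 3) := ⟨Nat.prime_three⟩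
  have : CharP K 3 := charP_of_card_eq_prime_pow (f := 2 * m + 1) (by rw [hK])
  obtain ⟨X, hX⟩ := ReeInstance17.exists_ctx hK
  rw [← hX]
  obtain ⟨D, h1, h2⟩ := exists_data X hm hK
  exact ⟨D, h1.trans hK, h2⟩

end Cfsg.Agent.ReeData8
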