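import Cfsg.Agent.Lib.ReeTori8

/-!
The cyclic Hall subgroups for the primes dividing `q² - q + 1` in a group of small Ree type.
-/

set_option autoImplicit false

namespace Cfsg.Agent.ReeLocal8.ReeData

open Subgroup ReeTools8 ReePSL8

variable {G : Type*} [Group G] [Finite G] (D : ReeData G)
include D

theorem N_eq : D.q ^ 3 + 1 = (D.q + 1) * (D.q ^ 2 - D.q + 1) := by
  have h : D.q ≤ D.q ^ 2 := Nat.le_self_pow (by norm_num) _
  obtain ⟨t, ht⟩ := Nat.exists_eq_add_of_le h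
  rw [show D.q ^ 2 - D.q = t by omega]
  linear_combination D.q * ht + ht

theorem N_ge : D.q + 1 < D.q ^ 2 - D.q + 1 := by
  have h := D.q_ge
  have h2 : 27 * D.q ≤ D.q ^ 2 := by rw [sq]; exact Nat.mul_le_mul_right _ h
  omega

theorem prime_N {r : ℕ} (hr : r.Prime) (hd : r ∣ D.q ^ 2 - D.q + 1) :
    7 ≤ r ∧ ¬r ∣ D.q - 1 ∧ ¬r ∣ D.q + 1 ∧ ¬r ∣ D.q ∧ ¬r ∣ (D.q + 1) / 4 := by
  have hq := D.q_ge
  have h2 : D.q ≤ D.q ^ 2 := Nat.le_self_pow (by norm_num) _
  have hN : D.q ^ 2 - D.q + 1 = D.q * (D.q - 1) + 1 := by rw [Nat.mul_sub, mul_one, sq]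
  have hrq : ¬r ∣ D.q := fun h => hr.ne_one <| Nat.dvd_one.1 <|
    (Nat.dvd_add_right (dvd_mul_of_dvd_left h _)).1 (hN ▸ hd)
  have hr1 : ¬r ∣ D.q - 1 := fun h => hr.ne_one <| Nat.dvd_one.1 <|
    (Nat.dvd_add_right (dvd_mul_of_dvd_right h _)).1 (hN ▸ hd)
  have hr3 : r ≠ 3 := fun e => hrq (e ▸ D.three_dvd_q)
  have hr2 : r ≠ 2 := fun e => hr1 (e ▸ by have := D.q_mod8; omega)
  have hr1' : ¬r ∣ D.q + 1 := fun h => by
    have h3 : r ∣ 3 * D.q := by
      have e : (D.q ^ 2 - D.q + 1) + 3 * D.q = (D.q + 1) * (D.q + 1) := by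
        obtain ⟨t, ht⟩ := Nat.exists_eq_add_of_le h2
        rw [show D.q ^ 2 - D.q = t by omega]
        linear_combination -ht
      exact (Nat.dvd_add_right hd).1 (e ▸ dvd_mul_of_dvd_left h _)
    rcases (Nat.Prime.dvd_mul hr).1 h3 with h' | h'
    · exact hr3 ((Nat.prime_dvd_prime_iff_eq hr Nat.prime_three).1 h')
    · exact hrq h'
  have hr5 : r ≠ 5 := by
    rintro rfl
    have h5 : ∀ a : ZMod 5, a * (a - 1) + 1 ≠ 0 := by decide
    apply h5 (D.q : ZMod 5)
    have h := (ZMod.natCast_eq_zero_iff _ 5).2 (hN ▸ hd)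
    rwa [Nat.cast_add, Nat.cast_mul, Nat.cast_sub (by omega), Nat.cast_one] at h
  refine ⟨?_, hr1, hr1', hrq, fun h => hr1' (h.trans ⟨4, by have := D.q_mod8; omega⟩)⟩
  have h4 : r ≠ 4 := fun e => by subst e; norm_num at hr
  have h6 : r ≠ 6 := fun e => by subst e; norm_num at hr
  have := hr.two_le
  omega

theorem card_eq_N : Nat.card G = D.q ^ 3 * (D.q - 1) * (D.q + 1) * (D.q ^ 2 - D.q + 1) := by
  rw [D.card_eq, D.N_eq]; ring

theorem prime_cases {p : ℕ} (hp : p.Prime) (hd : p ∣ Nat.card G) :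
    p = 2 ∨ p = 3 ∨ (p ≠ 2 ∧ p ∣ D.q - 1) ∨ p ∣ (D.q + 1) / 4 ∨ p ∣ D.q ^ 2 - D.q + 1 := by
  by_cases h2 : p = 2
  · exact Or.inl h2
  rw [D.card_eq_N] at hd
  rcases (Nat.Prime.dvd_mul hp).1 hd with h | h
  · rcases (Nat.Prime.dvd_mul hp).1 h with h | h
    · rcases (Nat.Prime.dvd_mul hp).1 h with h | h
      · right; left
        rw [D.three_pow_q3] at h
        exact (Nat.prime_dvd_prime_iff_eq hp Nat.prime_three).1 (hp.dvd_of_dvd_pow h)
      · exact Or.inr (Or.inr (Or.inl ⟨h2, h⟩))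
    · right; right; right; left
      rw [show D.q + 1 = 4 * ((D.q + 1) / 4) by have := D.q_mod8; omega] at h
      refine ((Nat.Prime.dvd_mul hp).1 h).resolve_left fun h4 => h2 ?_
      exact (Nat.prime_dvd_prime_iff_eq hp Nat.prime_two).1
        (hp.dvd_of_dvd_pow (show p ∣ 2 ^ 2 from h4))
  · exact Or.inr (Or.inr (Or.inr (Or.inr h)))

/-- A divisor of `|G|` all of whose primes divide `q² - q + 1` divides `q² - q + 1`. -/
theorem dvd_N {n : ℕ} (hn : n ∣ Nat.card G) (h : ∀ p, p.Prime → p ∣ n → p ∣ D.q ^ 2 - D.q + 1) :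
    n ∣ D.q ^ 2 - D.q + 1 := by
  rw [D.card_eq_N] at hn
  refine Nat.Coprime.dvd_of_dvd_mul_left ?_ hn
  refine Nat.coprime_of_dvd fun p hp h1 h2 => ?_
  obtain ⟨-, ha, hb, hc, -⟩ := D.prime_N hp (h p hp h1)
  rcases (Nat.Prime.dvd_mul hp).1 h2 with h2 | h2
  · rcases (Nat.Prime.dvd_mul hp).1 h2 with h2 | h2
    · exact hc (hp.dvd_of_dvd_pow h2)
    · exact ha h2
  · exact hb h2

theorem card_cent_dvd_N {y : G} {r : ℕ} (hr : r.Prime) (hd : r ∣ D.q ^ 2 - D.q + 1)
    (hy : orderOf y = r) : Nat.card (centralizer ({y} : Set G)) ∣ D.q ^ 2 - D.q + 1 := by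
  refine D.dvd_N (card_subgroup_dvd_card _) fun p hp hpd => ?_
  obtain ⟨hr7, hra, hrb, hrc, hrd⟩ := D.prime_N hr hd
  have : Fact p.Prime := ⟨hp⟩
  obtain ⟨⟨z, hz⟩, hzo⟩ := exists_prime_orderOf_dvd_card' (G := centralizer ({y} : Set G)) p hpd
  rw [← Subgroup.orderOf_coe] at hzo
  replace hzo : orderOf z = p := hzo
  have hzy : Commute z y := mem_centralizer_singleton_iff.1 hz
  have hz1 : z ≠ 1 := fun e => by rw [e, orderOf_one] at hzo; exact hp.ne_one hzo.symm
  rcases D.prime_cases hp (hpd.trans (card_subgroup_dvd_card _)) with rfl | rfl | ⟨hp2, h⟩ | h | h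
  · exfalso
    have hz2 : z * z = 1 := by rw [← sq, ← hzo, pow_orderOf_eq_one]
    have hdiv := orderOf_dvd_natCard _
      (show y ∈ centralizer ({z} : Set G) from mem_centralizer_singleton_iff.2 hzy.symm)
    rw [(D.inv_cent hz1 hz2).card, hy, show D.q ^ 2 - 1 = (D.q + 1) * (D.q - 1) by
      rw [← Nat.sq_sub_sq, one_pow]] at hdiv
    rcases (Nat.Prime.dvd_mul hr).1 hdiv with h' | h'
    · exact hrc h'
    · exact ((Nat.Prime.dvd_mul hr).1 h').elim hrb hra
  · exfalso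
    have h18 := D.pow_18_of_commute (k := 1) hz1
      (by rw [pow_one, ← hzo, pow_orderOf_eq_one]) hzy
    have hd' := orderOf_dvd_of_pow_eq_one h18
    rw [hy] at hd'
    have := Nat.le_of_dvd (by norm_num) ((Nat.Prime.dvd_mul hr).1
      (show r ∣ 2 * 3 ^ 2 from hd') |>.elim (fun h' => h'.trans (by norm_num : 2 ∣ 6))
        (fun h' => (hr.dvd_of_dvd_pow h').trans (by norm_num : 3 ∣ 6)))
    omega
  · exfalso
    obtain ⟨x, hx⟩ := D.conj_into_H hp hp2 h (dvd_of_eq hzo.symm)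
    have ho : orderOf (x * z * x⁻¹) = p := hzo ▸ MulEquiv.orderOf_eq (MulAut.conj x) z
    have hxy : x * y * x⁻¹ ∈ D.H := by
      rw [← (D.H_prime hp hx ho hp2).1]
      exact mem_centralizer_singleton_iff.2 (hzy.symm.map (MulAut.conj x).toMonoidHom).eq
    have hdiv := orderOf_dvd_natCard _ hxy
    rw [D.card_H, show orderOf (x * y * x⁻¹) = r from hy ▸ MulEquiv.orderOf_eq (MulAut.conj x) y] at hdiv
    exact hra hdiv
  · exfalso
    obtain ⟨M, A, hM⟩ := D.exists_plusTorus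
    obtain ⟨x, hx⟩ := hM.conj_into z p hp h (dvd_of_eq hzo.symm)
    have ho : orderOf (x * z * x⁻¹) = p := hzo ▸ MulEquiv.orderOf_eq (MulAut.conj x) z
    have hxy : x * y * x⁻¹ ∈ M := by
      rw [← hM.cent _ hx (fun e => by
        have hd2 := orderOf_dvd_of_pow_eq_one (x := x * z * x⁻¹) (n := 2) (by rw [sq, e])
        rw [ho] at hd2
        exact (D.prime_add_one hp h).1 ((Nat.prime_dvd_prime_iff_eq hp Nat.prime_two).1 hd2))]
      exact mem_centralizer_singleton_iff.2 (hzy.symm.map (MulAut.conj x).toMonoidHom).eq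
    have hdiv := orderOf_dvd_natCard _ hxy
    rw [hM.card_M, show orderOf (x * y * x⁻¹) = r from hy ▸ MulEquiv.orderOf_eq (MulAut.conj x) y] at hdiv
    exact hrb hdiv
  · exact h

theorem isCyclic_cent {y : G} {r : ℕ} (hr : r.Prime) (hd : r ∣ D.q ^ 2 - D.q + 1)
    (hy : orderOf y = r) : IsCyclic (centralizer ({y} : Set G)) := by
  obtain ⟨L, hL⟩ : ∃ L, L = centralizer ({y} : Set G) := ⟨_, rfl⟩
  rw [← hL]
  have hLN : Nat.card L ∣ D.q ^ 2 - D.q + 1 := hL ▸ D.card_cent_dvd_N hr hd hy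
  refine isCyclic_of_sylow fun p hp P => ?_
  have : Fact p.Prime := ⟨hp⟩
  have hcyc : IsCyclic (P : Subgroup L) :=
    D.isCyclic_sylow_sub L (fun h => by have := (D.prime_N hp (h.trans hLN)).1; omega) P
  refine ⟨hcyc, fun n hn => ?_⟩
  by_cases hpL : p ∣ Nat.card L
  swap
  · rw [mem_centralizer_iff]
    intro z hz
    obtain ⟨i, hi⟩ := P.2.exists_card_eq
    rcases i with _ | i
    · have : Subsingleton (P : Subgroup L) :=
        (Nat.card_eq_one_iff_unique.1 (by rw [hi, pow_zero])).1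
      have : z = 1 := congrArg Subtype.val (Subsingleton.elim (⟨z, hz⟩ : (P : Subgroup L)) 1)
      rw [this, one_mul, mul_one]
    · exact absurd ((dvd_pow_self p (Nat.succ_ne_zero i)).trans (hi ▸ card_subgroup_dvd_card _)) hpL
  obtain ⟨⟨z, hz⟩, hgen⟩ := IsCyclic.exists_generator (α := (P : Subgroup L))
  obtain ⟨i, hi⟩ := P.2 ⟨z, hz⟩
  have hzG : (z : G) ^ p ^ i = 1 :=
    congrArg (fun t : (P : Subgroup L) => ((t : L) : G)) hi
  obtain ⟨k, hk⟩ : ∃ k : ℕ, n * z * n⁻¹ = z ^ k := by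
    obtain ⟨k, hk⟩ := mem_powers_iff_mem_zpowers.2 (hgen ⟨n * z * n⁻¹, (mem_normalizer_iff.1 hn z).1 hz⟩)
    exact ⟨k, (congrArg Subtype.val hk).symm⟩
  have h12 : Commute ((n : G) ^ 12) (z : G) :=
    D.twelve p i k n z hp (hpL.trans hLN) hzG (congrArg Subtype.val hk)
  have hco : (orderOf (n : G)).Coprime 12 := by
    refine Nat.coprime_of_dvd fun s hs h1 h2 => ?_
    rw [Subgroup.orderOf_coe] at h1
    have := (D.prime_N hs ((h1.trans (orderOf_dvd_natCard n)).trans hLN)).1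
    have := Nat.le_of_dvd (by norm_num) ((Nat.Prime.dvd_mul hs).1
      (show s ∣ 2 ^ 2 * 3 from h2) |>.elim (fun h' => (hs.dvd_of_dvd_pow h').trans (by norm_num : 2 ∣ 6))
        (fun h' => h'.trans (by norm_num : 3 ∣ 6)))
    omega
  have hnz : Commute n z := by
    obtain ⟨j, hj⟩ := exists_pow_eq_self_of_coprime hco.symm
    have : Commute (n : G) (z : G) := by
      rw [← hj]; exact h12.pow_left j
    exact Subtype.ext this
  rw [mem_centralizer_iff]
  intro w hw
  obtain ⟨k', hk'⟩ := mem_powers_iff_mem_zpowers.2 (hgen ⟨w, hw⟩)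
  have e : w = z ^ k' := (congrArg Subtype.val hk').symm
  rw [e]
  exact (hnz.pow_right k').eq.symm

/-- A cyclic torus for the primes dividing `q² - q + 1`. -/
structure HallTorus (q : ℕ) (A : Subgroup G) (e : ℕ) : Prop where
  cyclic : IsCyclic A
  card_dvd : Nat.card A ∣ q ^ 2 - q + 1
  one_lt : 1 < Nat.card A
  card_N : Nat.card (normalizer (A : Set G)) = e * Nat.card A
  e_mem : e = 2 ∨ e = 3 ∨ e = 6
  cent : ∀ z ∈ A, z ≠ 1 → centralizer ({z} : Set G) = A
  norm_eq : ∀ A₀ : Subgroup G, A₀ ≤ A → A₀ ≠ ⊥ → normalizer (A₀ : Set G) = normalizer (A : Set G)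
  conj_into : ∀ (g : G) (p : ℕ), p.Prime → p ∣ Nat.card A → p ∣ orderOf g →
    ∃ x : G, x * g * x⁻¹ ∈ A

theorem exists_hallTorus {r : ℕ} (hr : r.Prime) (hd : r ∣ D.q ^ 2 - D.q + 1) :
    ∃ (A : Subgroup G) (e : ℕ), r ∣ Nat.card A ∧ HallTorus D.q A e := by
  classical
  have : Fact r.Prime := ⟨hr⟩
  have hr7 := (D.prime_N hr hd).1
  obtain ⟨y, hy⟩ := exists_prime_orderOf_dvd_card' (G := G) r
    (by rw [D.card_eq_N]; exact dvd_mul_of_dvd_right hd _)
  obtain ⟨A, hA⟩ : ∃ A, A = centralizer ({y} : Set G) := ⟨_, rfl⟩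
  have hcyc : IsCyclic A := hA ▸ D.isCyclic_cent hr hd hy
  have hdvd : Nat.card A ∣ D.q ^ 2 - D.q + 1 := hA ▸ D.card_cent_dvd_N hr hd hy
  have hcomm : ∀ {u v : G}, u ∈ A → v ∈ A → u * v = v * u := fun {u v} hu hv => by
    have := hcyc.isMulCommutative
    exact congrArg Subtype.val (mul_comm' (⟨u, hu⟩ : A) ⟨v, hv⟩)
  have hyA : y ∈ A := hA ▸ mem_centralizer_singleton_iff.2 rfl
  have hy1 : y ≠ 1 := fun e => by rw [e, orderOf_one] at hy; exact hr.ne_one hy.symm
  have hrA : r ∣ Nat.card A := hy ▸ orderOf_dvd_natCard _ hyA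
  have hcent : ∀ z ∈ A, z ≠ 1 → centralizer ({z} : Set G) = A := by
    intro z hz hz1
    refine le_antisymm (fun w hw => ?_) fun w hw => mem_centralizer_singleton_iff.2 (hcomm hw hz)
    obtain ⟨p, hp, hpz⟩ := Nat.exists_prime_and_dvd (fun e => hz1 (orderOf_eq_one_iff.1 e))
    obtain ⟨i, hi⟩ := exists_prime_pow hpz
    have hcyc' := D.isCyclic_cent hp ((hpz.trans (orderOf_dvd_natCard _ hz)).trans hdvd) hi
    have := hcyc'.isMulCommutative
    have hyz : y ∈ centralizer ({z ^ i} : Set G) :=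
      mem_centralizer_singleton_iff.2 (hcomm hyA (pow_mem hz i))
    have hwz : w ∈ centralizer ({z ^ i} : Set G) := by
      have hwc : Commute w z := mem_centralizer_singleton_iff.1 hw
      exact mem_centralizer_singleton_iff.2 (hwc.pow_right i).eq
    rw [hA, mem_centralizer_singleton_iff]
    exact congrArg Subtype.val (mul_comm' (⟨w, hwz⟩ : centralizer ({z ^ i} : Set G)) ⟨y, hyz⟩)
  have hnorm : ∀ A₀ : Subgroup G, A₀ ≤ A → A₀ ≠ ⊥ →
      normalizer (A₀ : Set G) = normalizer (A : Set G) := by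
    intro A₀ hle hne
    refine le_antisymm ?_ (normalizer_le_of_le_cyclic hle)
    obtain ⟨⟨z, hz⟩, hz1⟩ := Subgroup.ne_bot_iff_exists_ne_one.1 hne
    have e : centralizer (A₀ : Set G) = A := by
      refine le_antisymm (fun w hw => ?_) fun w hw => mem_centralizer_iff.2 fun v hv => hcomm (hle hv) hw
      rw [← hcent z (hle hz) (fun e => hz1 (Subtype.ext e)), mem_centralizer_singleton_iff]
      exact (mem_centralizer_iff.1 hw z hz).symm
    rw [← e]
    exact normalizer_le_normalizer_centralizer _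
  -- the index of `A` in its normalizer
  obtain ⟨Z, hZ⟩ : ∃ Z, Z = zpowers y := ⟨_, rfl⟩
  have hZN : normalizer (Z : Set G) = normalizer (A : Set G) :=
    hnorm Z (hZ ▸ zpowers_le.2 hyA) (fun e => hy1 (by
      rw [hZ] at e; exact zpowers_eq_bot.1 e))
  obtain ⟨φ, hφ⟩ : ∃ φ, φ = Z.normalizerMonoidHom := ⟨_, rfl⟩
  have hker : Nat.card φ.ker = Nat.card A := by
    rw [hφ, normalizerMonoidHom_ker, Nat.card_congr (subgroupOfEquivOfLe ?_).toEquiv, hZ,
      centralizer_zpowers, hA]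
    intro w hw
    exact mem_normalizer_of_finite fun v hv => by
      rw [← mem_centralizer_iff.1 hw v hv, mul_inv_cancel_right]; exact hv
  obtain ⟨e, he⟩ : ∃ e, e = Nat.card φ.range := ⟨_, rfl⟩
  have hNcard : Nat.card (normalizer (A : Set G)) = e * Nat.card A := by
    rw [← hZN, he, ← hker, mul_comm, ← index_ker, card_mul_index]
  have hZr : Nat.card Z = r := by rw [hZ, Nat.card_zpowers, hy]
  have hZcyc : IsCyclic Z := hZ ▸ inferInstance
  have hautcyc : IsCyclic (MulAut Z) := by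
    have : IsCyclic (ZMod (Nat.card Z))ˣ := by rw [hZr]; infer_instance
    exact (IsCyclic.mulAutMulEquiv Z).symm.isCyclic.1 this
  have : Finite (MulAut Z) := Finite.of_injective (fun σ : MulAut Z => (σ : Z → Z)) DFunLike.coe_injective
  obtain ⟨⟨σ, hσ⟩, hgen⟩ := IsCyclic.exists_ofOrder_eq_natCard (α := φ.range)
  rw [← Subgroup.orderOf_coe, ← he] at hgen
  replace hgen : orderOf σ = e := hgen
  obtain ⟨g, hg⟩ := MonoidHom.mem_range.1 hσ
  have he12 : e ∣ 12 := by
    rw [← hgen, ← hg]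
    apply orderOf_dvd_of_pow_eq_one
    rw [← map_pow, ← MonoidHom.mem_ker, hφ, normalizerMonoidHom_ker, mem_subgroupOf,
      show centralizer (Z : Set G) = centralizer ({y} : Set G) by rw [hZ, centralizer_zpowers],
      mem_centralizer_singleton_iff, SubgroupClass.coe_pow]
    have hyZ : y ∈ Z := by rw [hZ]; exact mem_zpowers y
    have hgy : (g : G) * y * (g : G)⁻¹ ∈ zpowers y :=
      (le_of_eq hZ) ((mem_normalizer_iff.1 g.2 y).1 hyZ)
    obtain ⟨k, hk⟩ := mem_powers_iff_mem_zpowers.2 hgy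
    exact (D.twelve r 1 k (g : G) y hr hd (by rw [pow_one, ← hy, pow_orderOf_eq_one]) hk.symm).eq
  have he4 : ¬4 ∣ e := by
    rintro ⟨s, hs⟩
    have hepos : 0 < e := he ▸ Nat.card_pos
    have hσ4 : orderOf (φ (g ^ s)) = 4 := by
      rw [map_pow, hg, orderOf_pow, hgen, hs, Nat.gcd_mul_left_left, Nat.mul_div_cancel]
      exact Nat.pos_of_ne_zero (by rintro rfl; omega)
    obtain ⟨h, hh⟩ : ∃ h, h = g ^ s := ⟨_, rfl⟩
    rw [← hh] at hσ4
    obtain ⟨i, o, ⟨t, ht⟩, ho⟩ := Nat.exists_eq_two_pow_mul_odd (orderOf_pos h).ne'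
    have hsq : ((h : G) ^ o) ^ 2 = 1 := D.two_elem_sq (k := i) (by
      rw [← pow_mul, mul_comm, ← ho, ← Subgroup.orderOf_coe, pow_orderOf_eq_one])
    have h' : φ (h ^ o) ^ 2 = 1 := by
      rw [← map_pow, show (h ^ o) ^ 2 = 1 from Subtype.ext (by simpa using hsq), map_one]
    rw [map_pow, ← pow_mul] at h'
    have := orderOf_dvd_of_pow_eq_one h'
    rw [hσ4] at this
    omega
  have he1 : e ≠ 1 := by
    intro e1
    obtain ⟨P, hP⟩ := IsPGroup.exists_le_sylow (p := r) (P := zpowers y)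
      (IsPGroup.of_card (n := 1) (by rw [Nat.card_zpowers, hy, pow_one]))
    have hcP := D.cyclic r hr (by omega) P
    have hPA : (P : Subgroup G) ≤ A := fun w hw => by
      have := hcP.isMulCommutative
      rw [hA, mem_centralizer_singleton_iff]
      exact congrArg Subtype.val (mul_comm' (⟨w, hw⟩ : (P : Subgroup G)) ⟨y, hP (mem_zpowers y)⟩)
    have hAN : A ≤ normalizer (A : Set G) := le_normalizer
    have hNA : normalizer (P : Set G) ≤ A := by
      intro w hw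
      have hne : (P : Subgroup G) ≠ ⊥ := fun e => hy1 (by
        have := e ▸ hP (mem_zpowers y); exact mem_bot.1 this)
      have hw' : w ∈ normalizer ((P : Subgroup G) : Set G) := hw
      rw [hnorm _ hPA hne] at hw'
      rwa [← eq_of_le_of_card_ge hAN (by rw [hNcard, e1, one_mul])] at hw'
    have hN : normalizer (P : Set G) ≤ centralizer (P : Set G) := fun w hw =>
      mem_centralizer_iff.2 fun v hv => hcomm (hPA hv) (hNA hw)
    rcases D.simple.eq_bot_or_eq_top_of_normal (MonoidHom.transferSylow P hN).ker inferInstance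
      with hk | hk
    · have hc := Nat.card_le_card_of_injective _ ((MonoidHom.ker_eq_bot_iff _).1 hk)
      have hle := (card_dvd_of_le hPA).trans hdvd
      have h1 := Nat.le_of_dvd (by omega) hle
      rw [D.card_eq_N] at hc
      have h2 : 2 ≤ D.q ^ 3 * (D.q - 1) * (D.q + 1) := by
        have := D.q_ge
        calc 2 ≤ 1 * 1 * (D.q + 1) := by omega
          _ ≤ _ := Nat.mul_le_mul_right _ (Nat.mul_le_mul (Nat.one_le_pow _ _ (by omega)) (by omega))
      have h3 := Nat.mul_le_mul_right (D.q ^ 2 - D.q + 1) h2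
      omega
    · have hdk := MonoidHom.not_dvd_card_ker_transferSylow P hN
      rw [hk, card_top, D.card_eq_N] at hdk
      exact hdk (dvd_mul_of_dvd_right hd _)
  have he6 : e = 2 ∨ e = 3 ∨ e = 6 := by
    have := Nat.le_of_dvd (by norm_num) he12
    interval_cases e <;> omega
  refine ⟨A, e, hrA, hcyc, hdvd, ?_, hNcard, he6, hcent, hnorm, fun g' p hp hpA hpg => ?_⟩
  · exact lt_of_lt_of_le hr.one_lt (Nat.le_of_dvd Nat.card_pos hrA)
  · have : Fact p.Prime := ⟨hp⟩
    obtain ⟨⟨a, ha⟩, hao⟩ := exists_prime_orderOf_dvd_card' (G := A) p hpA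
    rw [← Subgroup.orderOf_coe] at hao
    replace hao : orderOf a = p := hao
    obtain ⟨i, hi⟩ := exists_prime_pow hpg
    obtain ⟨x, hx⟩ := exists_conj_mem_zpowers
      (D.cyclic p hp (by have := (D.prime_N hp (hpA.trans hdvd)).1; omega)) hi hao
    refine ⟨x, ?_⟩
    have hxA : x * g' ^ i * x⁻¹ ∈ A := zpowers_le.2 ha hx
    have ho : orderOf (x * g' ^ i * x⁻¹) = p := hi ▸ MulEquiv.orderOf_eq (MulAut.conj x) _
    rw [← hcent _ hxA (fun e => by rw [e, orderOf_one] at ho; exact hp.ne_one ho.symm),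
      mem_centralizer_singleton_iff, ← conj_pow]
    exact ((Commute.refl _).pow_right i).eq

end Cfsg.Agent.ReeLocal8.ReeData
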