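import Cfsg.Agent.Lib.ReeLocal8

/-!
Sylow 2-subgroups and involutions of a group of small Ree type.
-/

set_option autoImplicit false

namespace Cfsg.Agent.ReePSL8

open Subgroup

/-- The involution centralizer properties are invariant under conjugation. -/
theorem InvCent.conj {G : Type*} [Group G] {q : ℕ} {a : G} (h : InvCent q a) (g : G) :
    InvCent q (g * a * g⁻¹) := by
  have key : ∀ x : G, Commute x (g * a * g⁻¹) ↔ Commute (g⁻¹ * x * g) a := by
    intro x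
    constructor
    · intro hx
      calc g⁻¹ * x * g * a = g⁻¹ * (x * (g * a * g⁻¹)) * g := by group
        _ = g⁻¹ * ((g * a * g⁻¹) * x) * g := by rw [hx.eq]
        _ = a * (g⁻¹ * x * g) := by group
    · intro hx
      calc x * (g * a * g⁻¹) = g * ((g⁻¹ * x * g) * a) * g⁻¹ := by group
        _ = g * (a * (g⁻¹ * x * g)) * g⁻¹ := by rw [hx.eq]
        _ = g * a * g⁻¹ * x := by group
  have hcomm : ∀ {x y : G}, Commute x y → Commute (g⁻¹ * x * g) (g⁻¹ * y * g) := by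
    intro x y hxy
    calc g⁻¹ * x * g * (g⁻¹ * y * g) = g⁻¹ * (x * y) * g := by group
      _ = g⁻¹ * (y * x) * g := by rw [hxy.eq]
      _ = g⁻¹ * y * g * (g⁻¹ * x * g) := by group
  have hne : ∀ {x y : G}, x ≠ g * y * g⁻¹ → g⁻¹ * x * g ≠ y := fun {x y} hxy e => hxy (by
    rw [← e]; group)
  have hord : ∀ x : G, orderOf (g⁻¹ * x * g) = orderOf x := fun x => by
    rw [show g⁻¹ * x * g = MulAut.conj g⁻¹ x by simp, MulEquiv.orderOf_eq]
  have hcard : ∀ x : G, Nat.card (centralizer ({g * a * g⁻¹, x} : Set G)) =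
      Nat.card (centralizer ({a, g⁻¹ * x * g} : Set G)) := by
    intro x
    refine Nat.card_congr
      { toFun := fun c => ⟨g⁻¹ * c.1 * g, mem_pair.2
          ⟨(key _).1 (mem_pair.1 c.2).1, hcomm (mem_pair.1 c.2).2⟩⟩
        invFun := fun c => ⟨g * c.1 * g⁻¹, mem_pair.2 ⟨(key _).2 (by
          simpa [mul_assoc] using (mem_pair.1 c.2).1), ?_⟩⟩
        left_inv := fun c => by simp [mul_assoc]
        right_inv := fun c => by simp [mul_assoc] }
    have := (mem_pair.1 c.2).2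
    calc g * c.1 * g⁻¹ * x = g * (c.1 * (g⁻¹ * x * g)) * g⁻¹ := by group
      _ = g * ((g⁻¹ * x * g) * c.1) * g⁻¹ := by rw [this.eq]
      _ = x * (g * c.1 * g⁻¹) := by group
  refine ⟨?_, ?_, ?_, ?_⟩
  · rw [← h.card, PSL2Elements.centralizer_conj g a]
    exact (Nat.card_congr ((centralizer ({a} : Set G)).equivMapOfInjective _
      (MulAut.conj g).injective).toEquiv).symm
  · intro x hx k hk
    have hp : ∀ n : ℕ, (g⁻¹ * x * g) ^ n = g⁻¹ * x ^ n * g := fun n => by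
      simpa using conj_pow (i := n) (a := g⁻¹) (b := x)
    have h3 := h.three _ ((key x).1 hx) k (by rw [hp, hk]; group)
    rw [hp] at h3
    calc x ^ 3 = g * (g⁻¹ * x ^ 3 * g) * g⁻¹ := by group
      _ = 1 := by rw [h3]; group
  · intro x hx hx1 hodd h3
    obtain ⟨h1, h2⟩ := h.odd _ ((key x).1 hx) (hne (y := 1) (by simpa using hx1))
      (by rwa [hord]) (by rwa [hord])
    refine ⟨fun y z hy hy' hz hz' => ?_, ?_⟩
    · have := h1 _ _ ((key y).1 hy) (hcomm hy') ((key z).1 hz) (hcomm hz')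
      calc y * z = g * ((g⁻¹ * y * g) * (g⁻¹ * z * g)) * g⁻¹ := by group
        _ = g * ((g⁻¹ * z * g) * (g⁻¹ * y * g)) * g⁻¹ := by rw [this]
        _ = z * y := by group
    · rw [hcard x]; exact h2
  · intro b hb hb1 hb2 hb3
    rw [hcard b]
    refine h.inv _ ((key b).1 hb) (hne (y := 1) (by simpa using hb1)) (hne hb2) ?_
    calc g⁻¹ * b * g * (g⁻¹ * b * g) = g⁻¹ * (b * b) * g := by group
      _ = 1 := by rw [hb3]; group

end Cfsg.Agent.ReePSL8

namespace Cfsg.Agent.ReeLocal8.ReeData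

open Subgroup ReeTools8 ReePSL8

variable {G : Type*} [Group G] [Finite G] (D : ReeData G)
include D

theorem card_eq_eight : ∃ b : ℕ, Odd b ∧ Nat.card G = 8 * b := by
  refine ⟨D.q ^ 3 * ((D.q - 1) / 2) * ((D.q ^ 3 + 1) / 4), ?_, ?_⟩
  · have h := D.q_mod8
    have h3 : D.q ^ 3 % 8 = 3 := by rw [Nat.pow_mod, h]
    rw [Nat.odd_mul, Nat.odd_mul]
    refine ⟨⟨Nat.odd_iff.2 ?_, Nat.odd_iff.2 ?_⟩, Nat.odd_iff.2 ?_⟩ <;> omega
  · have h := D.q_mod8
    have h3 : D.q ^ 3 % 8 = 3 := by rw [Nat.pow_mod, h]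
    rw [D.card_eq]
    conv_lhs => rw [show D.q - 1 = 2 * ((D.q - 1) / 2) by omega,
      show D.q ^ 3 + 1 = 4 * ((D.q ^ 3 + 1) / 4) by omega]
    ring

theorem sixteen_not_dvd : ¬16 ∣ Nat.card G := by
  obtain ⟨b, hb, hc⟩ := D.card_eq_eight
  obtain ⟨k, rfl⟩ := hb
  omega

theorem two_elem_sq {x : G} {k : ℕ} (hx : x ^ 2 ^ k = 1) : x ^ 2 = 1 := by
  induction k with
  | zero => rw [pow_zero, pow_one] at hx; rw [hx, one_pow]
  | succ n ih =>
    rcases n with _ | n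
    · simpa using hx
    · apply ih
      have h4 : (x ^ 2 ^ n) ^ 4 = 1 := by
        rw [← pow_mul, show 2 ^ n * 4 = 2 ^ (n + 1 + 1) by ring]; exact hx
      have := D.exp_two _ h4
      rwa [← pow_mul, ← pow_succ] at this

theorem syl2_card (S : Sylow 2 G) : Nat.card (S : Subgroup G) = 8 := by
  have : Fact (Nat.Prime 2) := ⟨Nat.prime_two⟩
  obtain ⟨b, hb, hc⟩ := D.card_eq_eight
  exact PSL2Sylow.sylow_card_eq (k := 3) hc (fun h => by obtain ⟨k, rfl⟩ := hb; omega) S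

theorem syl2_sq (S : Sylow 2 G) {x : G} (hx : x ∈ S) : x * x = 1 := by
  obtain ⟨k, hk⟩ := S.2 ⟨x, hx⟩
  rw [← sq]
  exact D.two_elem_sq (k := k) (congrArg Subtype.val hk)

theorem syl2_comm (S : Sylow 2 G) {x y : G} (hx : x ∈ S) (hy : y ∈ S) : x * y = y * x := by
  have h1 := inv_eq_of_mul_eq_one_right (D.syl2_sq S hx)
  have h2 := inv_eq_of_mul_eq_one_right (D.syl2_sq S hy)
  have h3 := inv_eq_of_mul_eq_one_right (D.syl2_sq S (mul_mem hx hy))
  rw [mul_inv_rev, h1, h2] at h3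
  exact h3.symm

theorem orderOf_a : orderOf D.a = 2 := orderOf_eq_prime (by rw [sq, D.a_sq]) D.a_ne

theorem exists_syl2_a : ∃ S : Sylow 2 G, D.a ∈ S := by
  have : Fact (Nat.Prime 2) := ⟨Nat.prime_two⟩
  obtain ⟨S, hS⟩ := IsPGroup.exists_le_sylow (p := 2) (P := zpowers D.a)
    (IsPGroup.of_card (n := 1) (by rw [Nat.card_zpowers, D.orderOf_a, pow_one]))
  exact ⟨S, hS (mem_zpowers _)⟩

/-- Two commuting involutions do not centralize a nontrivial 3-element. -/
theorem not_commute_three {x s t : G} {k : ℕ} (hx1 : x ≠ 1) (hx : x ^ 3 ^ k = 1)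
    (hs1 : s ≠ 1) (ht1 : t ≠ 1) (hs : s * s = 1) (ht : t * t = 1) (hst : Commute s t) (hne : s ≠ t)
    (hxs : Commute x s) (hxt : Commute x t) : False := by
  obtain ⟨g, hg⟩ := D.exists_conj_U hx
  let φ := (MulAut.conj g⁻¹).toMonoidHom
  have hφ : ∀ y : G, φ y = g⁻¹ * y * g := fun y => by simp [φ]
  have hinj : Function.Injective φ := (MulAut.conj g⁻¹).injective
  have hne1 : φ x ≠ 1 := fun h => hx1 (hinj (h.trans (map_one φ).symm))
  have hN : ∀ y : G, Commute x y → φ y ∈ normalizer (D.U : Set G) := fun y hy => by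
    refine D.mem_N_of_conj hne1 (hφ x ▸ hg) ?_
    rw [← (hy.map φ).eq, mul_inv_cancel_right, hφ]
    exact hg
  exact hne (hinj (D.inv_eq_of_commute (hN s hxs) (hN t hxt)
    (fun h => hs1 (hinj (h.trans (map_one φ).symm))) (fun h => ht1 (hinj (h.trans (map_one φ).symm)))
    (by rw [← map_mul, hs, map_one]) (by rw [← map_mul, ht, map_one]) (hst.map φ)))

omit D [Finite G] in
theorem exists_mem_not_pair (S : Subgroup G) (h : 2 < Nat.card S) (a : G) :
    ∃ y ∈ S, y ≠ 1 ∧ y ≠ a := by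
  by_contra hne
  push Not at hne
  have hsub : (S : Set G) ⊆ {1, a} := fun y hy => by
    by_cases h1 : y = 1
    · exact Or.inl h1
    · exact Or.inr (hne y hy h1)
  have h2 := (Set.ncard_le_ncard hsub (Set.toFinite _)).trans (Set.ncard_insert_le _ _)
  rw [Set.ncard_singleton, ← Nat.card_coe_set_eq] at h2
  simp only [SetLike.coe_sort_coe] at h2
  omega

theorem centralizer_syl2_a {S : Sylow 2 G} (ha : D.a ∈ S) :
    centralizer (S : Set G) = (S : Subgroup G) := by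
  have : Fact (Nat.Prime 2) := ⟨Nat.prime_two⟩
  refine S.is_maximal' ?_ fun x hx => mem_centralizer_iff.2 fun y hy => (D.syl2_comm S hx hy).symm
  intro c
  have hpow : ∃ k, orderOf c = 2 ^ k := by
    refine ⟨_, Nat.eq_prime_pow_of_unique_prime_dvd (orderOf_pos c).ne' fun {p} hp hd => ?_⟩
    by_contra hp2
    rw [← Subgroup.orderOf_coe] at hd
    obtain ⟨k, hk⟩ := exists_prime_pow hd
    obtain ⟨x, hxdef⟩ : ∃ x, x = (c : G) ^ k := ⟨_, rfl⟩
    rw [← hxdef] at hk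
    have hxS : x ∈ centralizer (S : Set G) := hxdef ▸ pow_mem c.2 k
    have hxc : ∀ y ∈ S, Commute x y := fun y hy => (mem_centralizer_iff.1 hxS y hy).symm
    have hx1 : x ≠ 1 := fun h => by rw [h, orderOf_one] at hk; exact hp.ne_one hk.symm
    obtain ⟨b, hb, hb1, hba⟩ := exists_mem_not_pair (S : Subgroup G) (by rw [D.syl2_card]; norm_num) D.a
    by_cases hp3 : p = 3
    · exact D.not_commute_three (k := 1) hx1 (by rw [pow_one, ← hp3, ← hk, pow_orderOf_eq_one])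
        D.a_ne hb1 D.a_sq (D.syl2_sq S hb) (D.syl2_comm S ha hb) (Ne.symm hba) (hxc _ ha) (hxc _ hb)
    · have hodd : Odd (orderOf x) := hk ▸ hp.odd_of_ne_two hp2
      have h3 : ¬3 ∣ orderOf x := by
        rw [hk]
        exact fun h => hp3 ((Nat.prime_dvd_prime_iff_eq Nat.prime_three hp).1 h).symm
      obtain ⟨-, hcard⟩ := D.cent.odd x (hxc _ ha) hx1 hodd h3
      have hle : (S : Subgroup G) ≤ centralizer ({D.a, x} : Set G) := fun y hy =>
        mem_pair.2 ⟨D.syl2_comm S hy ha, (hxc y hy).symm⟩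
      have h8 := card_dvd_of_le hle
      rw [D.syl2_card] at h8
      have := D.q_mod8
      rcases hcard with h | h <;> rw [h] at h8 <;> omega
  obtain ⟨k, hk⟩ := hpow
  exact ⟨k, by rw [← hk, pow_orderOf_eq_one]⟩

/-- The stabilizer of `a` and of another involution of `S` in `N(S)` is `S`. -/
theorem stab_pair {S : Sylow 2 G} (ha : D.a ∈ S) {y g : G} (hy : y ∈ S) (hy1 : y ≠ 1)
    (hya : y ≠ D.a) (hg : g ∈ normalizer (S : Set G)) (hga : Commute g D.a) (hgy : Commute g y) :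
    g ∈ S := by
  classical
  have : Fact (Nat.Prime 2) := ⟨Nat.prime_two⟩
  have hg2 : g * g ∈ centralizer (S : Set G) := by
    rw [mem_centralizer_iff]
    intro c hc
    by_cases hcg : Commute g c
    · exact ((hcg.mul_left hcg).eq).symm
    -- the fixed points of `g` on `S` have index two
    obtain ⟨F, hF⟩ : ∃ F : Subgroup (S : Subgroup G),
        F = (centralizer ({g} : Set G)).subgroupOf (S : Subgroup G) := ⟨_, rfl⟩
    have hmem : ∀ s : (S : Subgroup G), s ∈ F ↔ Commute g s := fun s => by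
      rw [hF, mem_subgroupOf, mem_centralizer_singleton_iff]
      exact ⟨fun h => h.symm, fun h => h.symm⟩
    have hnc : (⟨c, hc⟩ : (S : Subgroup G)) ∉ F := fun h => hcg ((hmem _).1 h)
    have hcard := card_mul_index F
    rw [D.syl2_card] at hcard
    have h4 : 4 ≤ Nat.card F := by
      have h4' : ({1, D.a, y, D.a * y} : Finset G).card = 4 := by
        have h1 : D.a * y ≠ 1 := fun h => hya (by
          rw [← inv_eq_of_mul_eq_one_right h, inv_eq_of_mul_eq_one_right D.a_sq])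
        have h2 : D.a * y ≠ D.a := fun h => hy1 (mul_eq_left.1 h)
        have h3 : D.a * y ≠ y := fun h => D.a_ne (mul_eq_right.1 h)
        simp [D.a_ne.symm, hy1.symm, h1.symm, hya.symm, h2.symm, h3.symm]
      have hsub : ∀ x ∈ ({1, D.a, y, D.a * y} : Finset G), x ∈ (S : Subgroup G) ∧ Commute g x := by
        intro x hx
        simp only [Finset.mem_insert, Finset.mem_singleton] at hx
        rcases hx with rfl | rfl | rfl | rfl
        · exact ⟨one_mem _, Commute.one_right g⟩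
        · exact ⟨ha, hga⟩
        · exact ⟨hy, hgy⟩
        · exact ⟨mul_mem ha hy, hga.mul_right hgy⟩
      rw [← h4', ← Fintype.card_coe, ← Nat.card_eq_fintype_card]
      exact Nat.card_le_card_of_injective
        (fun x => (⟨⟨x.1, (hsub x.1 x.2).1⟩, (hmem _).2 (hsub x.1 x.2).2⟩ : F))
        (fun x x' e => Subtype.ext
          (congrArg (fun t : F => ((t : (S : Subgroup G)) : G)) e))
    have hind : F.index = 2 := by
      have h1 : F.index ≠ 1 := fun h => hnc (by rw [index_eq_one.1 h]; exact mem_top _)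
      have : F.index ≤ 2 := by nlinarith
      have := index_ne_zero_of_finite (H := F)
      omega
    have hc' : g * c * g⁻¹ ∈ S := (mem_normalizer_iff.1 hg c).1 hc
    have hnc' : (⟨g * c * g⁻¹, hc'⟩ : (S : Subgroup G)) ∉ F := fun h => hcg <| by
      have h' : g * (g * c * g⁻¹) = g * c * g⁻¹ * g := (hmem _).1 h
      rw [inv_mul_cancel_right] at h'
      have := mul_left_cancel h'
      calc g * c = g * c * g⁻¹ * g := by group
        _ = c * g := by rw [this]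
    have hprod := (hmem _).1 ((mul_mem_iff_of_index_two hind).2 (iff_of_false hnc' hnc))
    change g * (g * c * g⁻¹ * c) = g * c * g⁻¹ * c * g at hprod
    have hcc := D.syl2_sq S hc
    have e : g * (g * c * g⁻¹) * g⁻¹ = c := by
      calc g * (g * c * g⁻¹) * g⁻¹
          = g * (g * c * g⁻¹ * c) * g⁻¹ * (g * c⁻¹ * g⁻¹) := by group
        _ = g * c * g⁻¹ * c * g * g⁻¹ * (g * c * g⁻¹) := by
            rw [hprod, inv_eq_of_mul_eq_one_right hcc]
        _ = g * c * g⁻¹ * (c * (g * c * g⁻¹)) := by group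
        _ = g * c * g⁻¹ * ((g * c * g⁻¹) * c) := by rw [D.syl2_comm S hc hc']
        _ = g * (c * c) * g⁻¹ * c := by group
        _ = c := by rw [hcc]; group
    calc c * (g * g) = g * (g * c * g⁻¹) * g⁻¹ * (g * g) := by rw [e]
      _ = g * g * c := by group
  rw [D.centralizer_syl2_a ha] at hg2
  have h4 := D.syl2_sq S hg2
  have hgg : g * g = 1 := by
    rw [← sq]
    exact D.two_elem_sq (k := 2) (by
      rw [show 2 ^ 2 = 4 from rfl, show g ^ 4 = g * g * (g * g) by simp [pow_succ, mul_assoc]]; exact h4)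
  have hp : IsPGroup 2 (zpowers g) := by
    obtain ⟨i, -, hi⟩ := (Nat.dvd_prime_pow Nat.prime_two).1
      (orderOf_dvd_of_pow_eq_one (x := g) (n := 2 ^ 1) (by rw [pow_one, sq, hgg]))
    exact IsPGroup.of_card (n := i) (by rw [Nat.card_zpowers, hi])
  have h : g ∈ zpowers g ⊓ normalizer (S : Set G) := ⟨mem_zpowers g, hg⟩
  rw [hp.inf_normalizer_sylow S] at h
  exact h.2

/-- `N(S) ∩ C(a)` is not reduced to `S`. -/
theorem exists_stab_not_mem {S : Sylow 2 G} (ha : D.a ∈ S) :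
    ∃ g ∈ normalizer (S : Set G), Commute g D.a ∧ g ∉ S := by
  have : Fact (Nat.Prime 2) := ⟨Nat.prime_two⟩
  have : Fact (Nat.Prime 3) := ⟨Nat.prime_three⟩
  by_contra hne
  push Not at hne
  obtain ⟨C, hC⟩ : ∃ C, C = centralizer ({D.a} : Set G) := ⟨_, rfl⟩
  have hle : (S : Subgroup G) ≤ C := fun x hx =>
    hC ▸ mem_centralizer_singleton_iff.2 (D.syl2_comm S hx ha)
  obtain ⟨S', hS'⟩ : ∃ S' : Sylow 2 C, S' = S.subtype hle := ⟨_, rfl⟩
  have hmem : ∀ c : C, c ∈ S' ↔ (c : G) ∈ S := fun c => by rw [hS']; rfl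
  have hN : normalizer (S' : Set C) ≤ centralizer (S' : Set C) := by
    intro n hn
    have hnN : (n : G) ∈ normalizer (S : Set G) := mem_normalizer_of_finite fun x hx => by
      have := (mem_normalizer_iff.1 hn ⟨x, hle hx⟩).1 ((hmem _).2 hx)
      exact (hmem _).1 this
    have hnC : (n : G) ∈ centralizer ({D.a} : Set G) := hC ▸ n.2
    have hnS := hne _ hnN (mem_centralizer_singleton_iff.1 hnC)
    rw [mem_centralizer_iff]
    intro x hx
    exact Subtype.ext (D.syl2_comm S ((hmem x).1 hx) hnS)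
  obtain ⟨f, hf⟩ : ∃ f, f = MonoidHom.transferSylow S' hN := ⟨_, rfl⟩
  have hfS : ∀ x : C, ∀ hx : x ∈ S', f x = ⟨x, hx⟩ := by
    intro x hx
    rw [hf, MonoidHom.transferSylow_eq_pow S' hN x hx]
    apply Subtype.ext
    apply Subtype.ext
    change ((x ^ (S' : Subgroup C).index : C) : G) = (x : G)
    obtain ⟨k, hk⟩ := Nat.odd_iff.2 (Nat.two_dvd_ne_zero.1 (S'.not_dvd_index))
    rw [hk, SubgroupClass.coe_pow, pow_succ, pow_mul, sq, D.syl2_sq S ((hmem x).1 hx), one_pow,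
      one_mul]
  obtain ⟨P⟩ : Nonempty (Sylow 3 C) := inferInstance
  have hPk : (P : Subgroup C) ≤ f.ker := by
    intro x hx
    obtain ⟨k, hk⟩ := P.2 ⟨x, hx⟩
    have hk' : x ^ 3 ^ k = 1 := congrArg Subtype.val hk
    have h2 := D.syl2_sq S ((hmem _).1 (f x).2)
    have h2' : (f x) ^ 2 = 1 := Subtype.ext (Subtype.ext (by rw [sq]; exact h2))
    have h3 : (f x) ^ 3 ^ k = 1 := by rw [← map_pow, hk', map_one]
    have hd := Nat.dvd_gcd (orderOf_dvd_of_pow_eq_one h3) (orderOf_dvd_of_pow_eq_one h2')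
    rw [show Nat.gcd (3 ^ k) 2 = 1 from Nat.Coprime.pow_left k (by decide)] at hd
    exact MonoidHom.mem_ker.2 (orderOf_eq_one_iff.1 (Nat.dvd_one.1 hd))
  have htop : normalizer (P : Set C) ⊔ f.ker = ⊤ := Sylow.normalizer_sup_eq_top' P hPk
  have hsurj : Function.Surjective (f.comp (normalizer (P : Set C)).subtype) := by
    intro s
    have hm : s ∈ ((normalizer (P : Set C)) ⊔ f.ker).map f := by
      rw [htop]; exact ⟨s, mem_top _, hfS _ s.2⟩
    rw [Subgroup.map_sup, (map_eq_bot_iff f.ker).2 le_rfl, sup_bot_eq] at hm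
    obtain ⟨n, hn, e⟩ := hm
    exact ⟨⟨n, hn⟩, e⟩
  have h8 : 8 ∣ Nat.card (normalizer (P : Set C)) := by
    have h := Subgroup.card_dvd_of_surjective _ hsurj
    rw [show Nat.card (S' : Subgroup C) = 8 by
      rw [hS', Sylow.coe_subtype, Nat.card_congr (subgroupOfEquivOfLe hle).toEquiv, D.syl2_card]] at h
    exact h
  obtain ⟨P', hP'⟩ := IsPGroup.exists_le_sylow (P.2.map C.subtype)
  obtain ⟨g, rfl⟩ := MulAction.exists_smul_eq G D.U P'
  have hPne : (P : Subgroup C) ≠ ⊥ := by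
    refine P.ne_bot_of_dvd_card ?_
    rw [hC, D.cent.card]
    exact dvd_mul_of_dvd_left D.three_dvd_q _
  obtain ⟨u, hu, hu1⟩ := (Subgroup.ne_bot_iff_exists_ne_one.1 hPne).elim
    fun u hu => (⟨u.1, u.2, fun h => hu (Subtype.ext h)⟩ : ∃ u : C, u ∈ P ∧ u ≠ 1)
  have hmap : ∀ x : C, x ∈ P → g⁻¹ * (x : G) * g ∈ D.U := fun x hx =>
    mem_smul_iff.1 (hP' (mem_map_of_mem _ hx))
  have hle' : (normalizer (P : Set C)).map ((MulAut.conj g⁻¹).toMonoidHom.comp C.subtype) ≤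
      normalizer (D.U : Set G) := by
    rintro _ ⟨n, hn, rfl⟩
    simp only [MonoidHom.coe_comp, Function.comp_apply, MulEquiv.coe_toMonoidHom,
      Subgroup.coe_subtype, MulAut.conj_apply, inv_inv]
    refine D.mem_N_of_conj (u := g⁻¹ * (u : G) * g) ?_ (hmap u hu) ?_
    · intro h
      apply hu1
      apply Subtype.ext
      calc (u : G) = g * (g⁻¹ * (u : G) * g) * g⁻¹ := by group
        _ = 1 := by rw [h]; group
    · have := hmap _ ((mem_normalizer_iff.1 hn u).1 hu)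
      simpa [mul_assoc] using this
  have hdvd := card_dvd_of_le hle'
  rw [← Nat.card_congr ((normalizer (P : Set C)).equivMapOfInjective _
    ((MulAut.conj g⁻¹).injective.comp C.subtype_injective)).toEquiv, D.card_N] at hdvd
  have h := h8.trans hdvd
  have hq3 : D.q ^ 3 % 8 = 3 := by rw [Nat.pow_mod, D.q_mod8]
  have hco : Nat.Coprime 8 (D.q ^ 3) := by
    rw [show 8 = 2 ^ 3 from rfl]
    exact Nat.Coprime.pow_left 3 ((Nat.Prime.coprime_iff_not_dvd Nat.prime_two).2 (by omega))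
  have := hco.dvd_of_dvd_mul_left h
  have := D.q_mod8
  omega

omit [Finite G] D in
theorem orbit_eq_of_mem (M : Subgroup G) {x z : G} (h : ∃ g ∈ M, g * x * g⁻¹ = z) :
    {y : G | ∃ g ∈ M, g * z * g⁻¹ = y} = {y : G | ∃ g ∈ M, g * x * g⁻¹ = y} := by
  obtain ⟨g, hg, rfl⟩ := h
  ext y
  constructor
  · rintro ⟨k, hk, rfl⟩
    exact ⟨k * g, mul_mem hk hg, by group⟩
  · rintro ⟨k, hk, rfl⟩
    exact ⟨k * g⁻¹, mul_mem hk (inv_mem hg), by group⟩

theorem orbit_stab {S : Sylow 2 G} (ha : D.a ∈ S) {y : G} (hy : y ∈ S) (hy1 : y ≠ 1)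
    (hya : y ≠ D.a) :
    Nat.card (normalizer (S : Set G) ⊓ centralizer ({D.a} : Set G) : Subgroup G) = 24 ∧
      {z : G | ∃ g ∈ (normalizer (S : Set G) ⊓ centralizer ({D.a} : Set G) : Subgroup G),
        g * y * g⁻¹ = z}.ncard = 3 := by
  classical
  obtain ⟨M, hM⟩ : ∃ M : Subgroup G, M = normalizer (S : Set G) ⊓ centralizer ({D.a} : Set G) :=
    ⟨_, rfl⟩
  rw [← hM]
  have hstab : ∀ z ∈ S, z ≠ 1 → z ≠ D.a → M ⊓ centralizer ({z} : Set G) = (S : Subgroup G) := by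
    intro z hz hz1 hza
    refine le_antisymm (fun g hg => ?_) fun g hg => ?_
    · obtain ⟨hgM, hgz⟩ := hg
      rw [hM] at hgM
      exact D.stab_pair ha hz hz1 hza hgM.1 (mem_centralizer_singleton_iff.1 hgM.2)
        (mem_centralizer_singleton_iff.1 hgz)
    · exact ⟨hM ▸ ⟨le_normalizer hg, mem_centralizer_singleton_iff.2 (D.syl2_comm S hg ha)⟩,
        mem_centralizer_singleton_iff.2 (D.syl2_comm S hg hz)⟩
  obtain ⟨R, hR⟩ : ∃ R : Set G, R = (S : Set G) \ {1, D.a} := ⟨_, rfl⟩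
  have hR6 : R.ncard = 6 := by
    rw [hR, Set.ncard_sdiff (by
      rintro x (rfl | rfl)
      · exact one_mem _
      · exact ha) (Set.toFinite _), Set.ncard_pair D.a_ne.symm, ← Nat.card_coe_set_eq]
    change Nat.card (S : Subgroup G) - _ = _
    rw [D.syl2_card]
  have horb : ∀ z ∈ R, {t : G | ∃ g ∈ M, g * z * g⁻¹ = t} ⊆ R ∧
      {t : G | ∃ g ∈ M, g * z * g⁻¹ = t}.ncard * 8 = Nat.card M := by
    intro z hz
    rw [hR] at hz
    obtain ⟨hzS, hz'⟩ := hz
    simp only [Set.mem_insert_iff, Set.mem_singleton_iff, not_or] at hz'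
    refine ⟨?_, ?_⟩
    · rintro _ ⟨g, hg, rfl⟩
      rw [hM] at hg
      rw [hR]
      refine ⟨(mem_normalizer_iff.1 hg.1 z).1 hzS, ?_⟩
      simp only [Set.mem_insert_iff, Set.mem_singleton_iff, not_or]
      refine ⟨fun h => hz'.1 (conj_eq_one_iff.1 h), fun h => hz'.2 ?_⟩
      have hga : g * D.a = D.a * g := mem_centralizer_singleton_iff.1 hg.2
      calc z = g⁻¹ * (g * z * g⁻¹) * g := by group
        _ = g⁻¹ * (D.a * g) := by rw [h]; group
        _ = D.a := by rw [← hga]; group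
    · have := card_orbit_mul M z
      rwa [hstab z hzS hz'.1 hz'.2, D.syl2_card] at this
  have hyR : y ∈ R := by rw [hR]; exact ⟨hy, by simp [hy1, hya]⟩
  obtain ⟨O, hO⟩ : ∃ O : Set G, O = {z : G | ∃ g ∈ M, g * y * g⁻¹ = z} := ⟨_, rfl⟩
  rw [← hO]
  obtain ⟨hOR, hOc⟩ := horb y hyR
  rw [← hO] at hOR hOc
  have hk6 : O.ncard ≤ 6 := hR6 ▸ Set.ncard_le_ncard hOR (Set.toFinite _)
  obtain ⟨j, hj⟩ : Odd O.ncard := by
    rw [Nat.odd_iff]
    by_contra h
    apply D.sixteen_not_dvd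
    exact (show 16 ∣ Nat.card M by omega).trans (card_subgroup_dvd_card M)
  have hk1 : O.ncard ≠ 1 := by
    intro h
    obtain ⟨g, hg, hga, hgS⟩ := D.exists_stab_not_mem ha
    apply hgS
    have hgM : g ∈ M := hM ▸ ⟨hg, mem_centralizer_singleton_iff.2 hga⟩
    obtain ⟨w, hw⟩ := Set.ncard_eq_one.1 h
    have hym : y ∈ O := hO ▸ ⟨1, one_mem _, by group⟩
    have hgm : g * y * g⁻¹ ∈ O := hO ▸ ⟨g, hgM, rfl⟩
    rw [hw, Set.mem_singleton_iff] at hym hgm
    exact D.stab_pair ha hy hy1 hya hg hga (mul_inv_eq_iff_eq_mul.1 (hgm.trans hym.symm))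
  have hk5 : O.ncard ≠ 5 := by
    intro h5
    obtain ⟨z, hzR, hzO⟩ : ∃ z ∈ R, z ∉ O :=
      Set.exists_mem_notMem_of_ncard_lt_ncard (by omega) (Set.toFinite _)
    obtain ⟨hZR, hZc⟩ := horb z hzR
    obtain ⟨t, htO, htZ⟩ : ∃ t, t ∈ O ∧ t ∈ {t : G | ∃ g ∈ M, g * z * g⁻¹ = t} := by
      by_contra hd
      push Not at hd
      have hdis : Disjoint O {t : G | ∃ g ∈ M, g * z * g⁻¹ = t} := Set.disjoint_left.2 hd
      have hu := Set.ncard_le_ncard (Set.union_subset hOR hZR) (Set.toFinite _)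
      rw [Set.ncard_union_eq hdis (Set.toFinite _) (Set.toFinite _), hR6] at hu
      omega
    apply hzO
    rw [hO] at htO ⊢
    rw [← orbit_eq_of_mem M htO, orbit_eq_of_mem M htZ]
    exact ⟨1, one_mem _, by group⟩
  constructor <;> omega

theorem syl2_fusion {S : Sylow 2 G} (ha : D.a ∈ S) :
    Nat.card (normalizer (S : Set G)) = 168 ∧
      ∀ y ∈ S, y ≠ 1 → ∃ g ∈ normalizer (S : Set G), g * D.a * g⁻¹ = y := by
  classical
  have : Fact (Nat.Prime 2) := ⟨Nat.prime_two⟩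
  obtain ⟨y0, hy0, hy01, hy0a⟩ :=
    exists_mem_not_pair (S : Subgroup G) (by rw [D.syl2_card]; norm_num) D.a
  obtain ⟨O, hO⟩ : ∃ O : Set G, O = {z : G | ∃ g ∈ normalizer (S : Set G), g * D.a * g⁻¹ = z} :=
    ⟨_, rfl⟩
  have hOc : O.ncard * 24 = Nat.card (normalizer (S : Set G)) := by
    have := card_orbit_mul (normalizer (S : Set G)) D.a
    rw [(D.orbit_stab ha hy0 hy01 hy0a).1] at this
    rw [hO]; exact this
  have haO : D.a ∈ O := hO ▸ ⟨1, one_mem _, by group⟩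
  have hOS : O ⊆ (S : Set G) \ {1} := by
    rw [hO]
    rintro _ ⟨g, hg, rfl⟩
    exact ⟨(mem_normalizer_iff.1 hg D.a).1 ha, fun h => D.a_ne (conj_eq_one_iff.1 h)⟩
  have hS7 : ((S : Set G) \ {1}).ncard = 7 := by
    rw [Set.ncard_sdiff (Set.singleton_subset_iff.2 (one_mem _)) (Set.toFinite _),
      Set.ncard_singleton, ← Nat.card_coe_set_eq]
    change Nat.card (S : Subgroup G) - _ = _
    rw [D.syl2_card]
  have hle7 : O.ncard ≤ 7 := hS7 ▸ Set.ncard_le_ncard hOS (Set.toFinite _)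
  obtain ⟨j, hj⟩ : Odd O.ncard := by
    rw [Nat.odd_iff]
    by_contra h
    apply D.sixteen_not_dvd
    exact (show 16 ∣ Nat.card (normalizer (S : Set G)) by omega).trans (card_subgroup_dvd_card _)
  suffices h7 : O.ncard = 7 by
    refine ⟨by omega, fun y hy hy1 => ?_⟩
    have e := Set.eq_of_subset_of_ncard_le hOS (by rw [hS7, h7]) (Set.toFinite _)
    have hm : y ∈ O := e ▸ ⟨hy, hy1⟩
    rw [hO] at hm
    exact hm
  -- orbits of the stabilizer of `a`
  have htriple : ∀ z ∈ O, z ≠ D.a → ∃ T : Set G, z ∈ T ∧ T ⊆ O \ {D.a} ∧ T.ncard = 3 ∧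
      ∀ z' ∈ O, z' ≠ D.a → z' ∉ T → ∀ T' : Set G,
        T' = {t : G | ∃ g ∈ (normalizer (S : Set G) ⊓ centralizer ({D.a} : Set G) : Subgroup G),
          g * z' * g⁻¹ = t} → Disjoint T T' := by
    intro z hz hza
    refine ⟨{t : G | ∃ g ∈ (normalizer (S : Set G) ⊓ centralizer ({D.a} : Set G) : Subgroup G),
      g * z * g⁻¹ = t}, ⟨1, one_mem _, by group⟩, ?_,
      (D.orbit_stab ha (hOS hz).1 (hOS hz).2 hza).2, ?_⟩
    · rintro _ ⟨g, hg, rfl⟩
      rw [hO] at hz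
      obtain ⟨k, hk, rfl⟩ := hz
      refine ⟨hO ▸ ⟨g * k, mul_mem hg.1 hk, by group⟩, fun h => hza ?_⟩
      have hga : g * D.a = D.a * g := mem_centralizer_singleton_iff.1 hg.2
      have h' : g * (k * D.a * k⁻¹) * g⁻¹ = D.a := h
      calc k * D.a * k⁻¹ = g⁻¹ * (g * (k * D.a * k⁻¹) * g⁻¹) * g := by group
        _ = g⁻¹ * (D.a * g) := by rw [h']; group
        _ = D.a := by rw [← hga]; group
    · intro z' hz' hza' hnot T' hT'
      subst hT'
      rw [Set.disjoint_left]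
      intro t ht ht'
      apply hnot
      rw [← orbit_eq_of_mem _ ht, orbit_eq_of_mem _ ht']
      exact ⟨1, one_mem _, by group⟩
  by_cases h1 : ∃ z ∈ O, z ≠ D.a
  · obtain ⟨z, hz, hza⟩ := h1
    obtain ⟨T, hzT, hTO, hT3, hTd⟩ := htriple z hz hza
    have hO1 : (O \ {D.a}).ncard = O.ncard - 1 := Set.ncard_sdiff_singleton_of_mem haO
    have h3 : 3 ≤ (O \ {D.a}).ncard := hT3 ▸ Set.ncard_le_ncard hTO (Set.toFinite _)
    have h4 : 4 ≤ (O \ {D.a}).ncard := by omega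
    obtain ⟨z', hz', hz'T⟩ : ∃ z' ∈ O \ {D.a}, z' ∉ T :=
      Set.exists_mem_notMem_of_ncard_lt_ncard (by omega) (Set.toFinite _)
    obtain ⟨T', hz'T', hT'O, hT'3, -⟩ := htriple z' hz'.1 hz'.2
    have h6 : (T ∪ {t : G | ∃ g ∈ (normalizer (S : Set G) ⊓ centralizer ({D.a} : Set G) : Subgroup G),
        g * z' * g⁻¹ = t}).ncard ≤ (O \ {D.a}).ncard := by
      refine Set.ncard_le_ncard (Set.union_subset hTO ?_) (Set.toFinite _)
      rintro _ ⟨g, hg, rfl⟩
      have hz'' := hz'.1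
      rw [hO] at hz''
      obtain ⟨k, hk, rfl⟩ := hz''
      refine ⟨hO ▸ ⟨g * k, mul_mem hg.1 hk, by group⟩, fun h => hz'.2 ?_⟩
      have hga : g * D.a = D.a * g := mem_centralizer_singleton_iff.1 hg.2
      have h' : g * (k * D.a * k⁻¹) * g⁻¹ = D.a := h
      change k * D.a * k⁻¹ = D.a
      calc k * D.a * k⁻¹ = g⁻¹ * (g * (k * D.a * k⁻¹) * g⁻¹) * g := by group
        _ = g⁻¹ * (D.a * g) := by rw [h']; group
        _ = D.a := by rw [← hga]; group
    rw [Set.ncard_union_eq (hTd z' hz'.1 hz'.2 hz'T _ rfl) (Set.toFinite _) (Set.toFinite _), hT3,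
      (D.orbit_stab ha (hOS hz'.1).1 (hOS hz'.1).2 hz'.2).2] at h6
    omega
  · exfalso
    push Not at h1
    -- `a` is central in `N(S)`, contradicting simplicity by transfer
    have : IsMulCommutative (S : Subgroup G) :=
      ⟨⟨fun x y => Subtype.ext (D.syl2_comm S x.2 y.2)⟩⟩
    have hfix : ∀ n ∈ normalizer (S : Set G), n * D.a * n⁻¹ = D.a := fun n hn =>
      h1 _ (hO ▸ ⟨n, hn, rfl⟩)
    have hcomm : ∀ n ∈ normalizer (S : Set G), Commute n D.a := fun n hn =>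
      mul_inv_eq_iff_eq_mul.1 (hfix n hn)
    have key : ∀ (k : ℕ) (g : G), g⁻¹ * D.a ^ k * g ∈ S → g⁻¹ * D.a ^ k * g = D.a ^ k := by
      intro k g hg
      obtain ⟨n, hn, e⟩ := S.conj_eq_normalizer_conj_of_mem (D.a ^ k) g (pow_mem ha k) hg
      rw [e, mul_assoc, ← ((hcomm n hn).pow_right k).eq, inv_mul_cancel_left]
    open scoped IsMulCommutative in
    have hf := MonoidHom.transfer_eq_pow (MonoidHom.id (S : Subgroup G)) D.a key
    open scoped IsMulCommutative in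
    have hker := D.simple.eq_bot_or_eq_top_of_normal
      (MonoidHom.transfer (MonoidHom.id (S : Subgroup G))).ker inferInstance
    have hidx : Odd ((S : Subgroup G).index) := Nat.odd_iff.2 (Nat.two_dvd_ne_zero.1 S.not_dvd_index)
    rcases hker with h | h
    · open scoped IsMulCommutative in
      have hc := Nat.card_le_card_of_injective _ ((MonoidHom.ker_eq_bot_iff _).1 h)
      rw [D.syl2_card] at hc
      have h24 := Nat.le_of_dvd Nat.card_pos (card_subgroup_dvd_card (normalizer (S : Set G)))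
      have : 0 < O.ncard := (Set.ncard_pos (Set.toFinite _)).2 ⟨_, haO⟩
      omega
    · open scoped IsMulCommutative in
      have h2 : MonoidHom.transfer (MonoidHom.id (S : Subgroup G)) D.a = 1 :=
        MonoidHom.mem_ker.1 (h ▸ mem_top _)
      rw [hf] at h2
      have h3 : D.a ^ (S : Subgroup G).index = 1 := congrArg Subtype.val h2
      obtain ⟨i, hi⟩ := hidx
      rw [hi, pow_succ, pow_mul, sq, D.a_sq, one_pow, one_mul] at h3
      exact D.a_ne h3

theorem inv_conj_a {t : G} (h1 : t ≠ 1) (h2 : t * t = 1) : ∃ g : G, g * D.a * g⁻¹ = t := by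
  have : Fact (Nat.Prime 2) := ⟨Nat.prime_two⟩
  obtain ⟨S, haS⟩ := D.exists_syl2_a
  obtain ⟨P, hP⟩ := IsPGroup.exists_le_sylow (p := 2) (P := zpowers t)
    (IsPGroup.of_card (n := 1) (by rw [Nat.card_zpowers, pow_one, orderOf_eq_prime (by rw [sq, h2]) h1]))
  obtain ⟨g, rfl⟩ := MulAction.exists_smul_eq G S P
  have hmem : g⁻¹ * t * g ∈ S := by
    have hm : t ∈ ((g • S : Sylow 2 G) : Subgroup G) := hP (mem_zpowers t)
    rw [Sylow.smul_def, Sylow.pointwise_smul_def, mem_pointwise_smul_iff_inv_smul_mem] at hm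
    simp [MulAut.conj_symm_apply] at hm
    exact hm
  obtain ⟨n, -, e⟩ := (D.syl2_fusion haS).2 _ hmem (fun h => h1 (by
    calc t = g * (g⁻¹ * t * g) * g⁻¹ := by group
      _ = 1 := by rw [h]; group))
  exact ⟨g * n, by rw [show g * n * D.a * (g * n)⁻¹ = g * (n * D.a * n⁻¹) * g⁻¹ by group, e]; group⟩

theorem inv_cent {t : G} (h1 : t ≠ 1) (h2 : t * t = 1) : InvCent D.q t := by
  obtain ⟨g, rfl⟩ := D.inv_conj_a h1 h2
  exact D.cent.conj g

theorem syl2_conj_a (S : Sylow 2 G) :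
    ∃ (g : G) (S₀ : Sylow 2 G), D.a ∈ S₀ ∧ g • S₀ = S := by
  have : Fact (Nat.Prime 2) := ⟨Nat.prime_two⟩
  obtain ⟨S₀, h⟩ := D.exists_syl2_a
  obtain ⟨g, hg⟩ := MulAction.exists_smul_eq G S₀ S
  exact ⟨g, S₀, h, hg⟩

theorem centralizer_syl2 (S : Sylow 2 G) : centralizer (S : Set G) = (S : Subgroup G) := by
  obtain ⟨g, S₀, h, rfl⟩ := D.syl2_conj_a S
  have hS : ∀ y : G, y ∈ S₀ → g * y * g⁻¹ ∈ (g • S₀ : Sylow 2 G) := fun y hy =>
    smul_mem_pointwise_smul y (MulAut.conj g) (S₀ : Subgroup G) hy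
  ext x
  constructor
  · intro hx
    have hm : g⁻¹ * x * g ∈ centralizer (S₀ : Set G) := mem_centralizer_iff.2 fun y hy => by
      have := mem_centralizer_iff.1 hx _ (hS y hy)
      calc y * (g⁻¹ * x * g) = g⁻¹ * ((g * y * g⁻¹) * x) * g := by group
        _ = g⁻¹ * (x * (g * y * g⁻¹)) * g := by rw [this]
        _ = g⁻¹ * x * g * y := by group
    rw [D.centralizer_syl2_a h] at hm
    have := hS _ hm
    rw [show g * (g⁻¹ * x * g) * g⁻¹ = x by group] at this
    exact this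
  · exact fun hx => mem_centralizer_iff.2 fun y hy => (D.syl2_comm _ hx hy).symm

theorem card_normalizer_syl2 (S : Sylow 2 G) : Nat.card (normalizer (S : Set G)) = 168 := by
  have : Fact (Nat.Prime 2) := ⟨Nat.prime_two⟩
  obtain ⟨g, S₀, h, rfl⟩ := D.syl2_conj_a S
  rw [← (D.syl2_fusion h).1]
  have h1 := card_mul_index (normalizer ((g • S₀ : Sylow 2 G) : Set G))
  have h2 := card_mul_index (normalizer (S₀ : Set G))
  rw [← Sylow.card_eq_index_normalizer] at h1 h2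
  exact Nat.eq_of_mul_eq_mul_right Nat.card_pos (h1.trans h2.symm)

/-- A four group with a cyclic automorphism of order three. -/
theorem exists_four_cycle : ∃ v w g : G, v * v = 1 ∧ w * w = 1 ∧ v ≠ 1 ∧ w ≠ 1 ∧ v ≠ w ∧
    v * w = w * v ∧ g * v * g⁻¹ = w ∧ g * w * g⁻¹ = v * w := by
  have : Fact (Nat.Prime 3) := ⟨Nat.prime_three⟩
  obtain ⟨S, ha⟩ := D.exists_syl2_a
  obtain ⟨c, hc, hc1, hca⟩ := exists_mem_not_pair (S : Subgroup G) (by rw [D.syl2_card]; norm_num) D.a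
  obtain ⟨g, hg⟩ := exists_prime_orderOf_dvd_card'
    (G := (normalizer (S : Set G) ⊓ centralizer ({D.a} : Set G) : Subgroup G)) 3
    (by rw [(D.orbit_stab ha hc hc1 hca).1]; norm_num)
  rw [← Subgroup.orderOf_coe] at hg
  obtain ⟨⟨x, hxN, hxa⟩, rfl⟩ : ∃ x, x = g := ⟨g, rfl⟩
  replace hg : orderOf x = 3 := hg
  have hga : Commute x D.a := mem_centralizer_singleton_iff.1 hxa
  have h3 : x ^ 3 = 1 := hg ▸ pow_orderOf_eq_one x
  have hS : ∀ y ∈ S, x * y * x⁻¹ ∈ S := fun y hy => (mem_normalizer_iff.1 hxN y).1 hy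
  have hfix : ∀ y ∈ S, y ≠ 1 → y ≠ D.a → x * y * x⁻¹ ≠ y := by
    intro y hy hy1 hya e
    have hxS := D.stab_pair ha hy hy1 hya hxN hga (mul_inv_eq_iff_eq_mul.1 e)
    have hd : orderOf x ∣ 8 := D.syl2_card S ▸ orderOf_dvd_natCard _ hxS
    rw [hg] at hd
    omega
  obtain ⟨c', hc'⟩ : ∃ c', c' = x * c * x⁻¹ := ⟨_, rfl⟩
  obtain ⟨c'', hc''⟩ : ∃ c'', c'' = x * c' * x⁻¹ := ⟨_, rfl⟩
  have hc'S : c' ∈ S := hc' ▸ hS c hc
  have hc''S : c'' ∈ S := hc'' ▸ hS c' hc'S
  have hcyc : x * c'' * x⁻¹ = c := by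
    rw [hc'', hc', show x * (x * (x * c * x⁻¹) * x⁻¹) * x⁻¹ = x ^ 3 * c * (x ^ 3)⁻¹ by simp [pow_succ, mul_assoc], h3]
    group
  obtain ⟨y, hy⟩ : ∃ y, y = c * c' := ⟨_, rfl⟩
  have hyS : y ∈ S := hy ▸ mul_mem hc hc'S
  have hcc := D.syl2_sq S hc
  have hy1 : y ≠ 1 := fun h => hfix c hc hc1 hca <| by
    rw [← hc', ← inv_eq_of_mul_eq_one_right (hy ▸ h : c * c' = 1), inv_eq_of_mul_eq_one_right hcc]
  have hya : y ≠ D.a := fun h => by
    have e : c' = c * D.a := by rw [← h, hy, ← mul_assoc, hcc, one_mul]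
    have e2 : c'' = c := by
      rw [hc'', e, show x * (c * D.a) * x⁻¹ = (x * c * x⁻¹) * (x * D.a * x⁻¹) by group, ← hc', e,
        hga.eq, mul_inv_cancel_right, mul_assoc, D.a_sq, mul_one]
    rw [e2] at hcyc
    exact hfix c hc hc1 hca hcyc
  obtain ⟨y', hy'⟩ : ∃ y', y' = x * y * x⁻¹ := ⟨_, rfl⟩
  have hy'S : y' ∈ S := hy' ▸ hS y hyS
  have hy'1 : y' ≠ 1 := fun h => hy1 (conj_eq_one_iff.1 (hy' ▸ h))
  have hy'e : y' = c' * c'' := by
    rw [hy', hy, hc'', show x * (c * c') * x⁻¹ = (x * c * x⁻¹) * (x * c' * x⁻¹) by group, ← hc']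
  refine ⟨y, y', x, D.syl2_sq S hyS, D.syl2_sq S hy'S, hy1, hy'1,
    fun h => hfix y hyS hy1 hya (hy'.symm.trans h.symm), D.syl2_comm S hyS hy'S, hy'.symm, ?_⟩
  rw [hy'e, show x * (c' * c'') * x⁻¹ = (x * c' * x⁻¹) * (x * c'' * x⁻¹) by group, ← hc'', hcyc, hy,
    show c * c' * (c' * c'') = c * (c' * c') * c'' by group, D.syl2_sq S hc'S, mul_one,
    D.syl2_comm S hc hc''S]

end Cfsg.Agent.ReeLocal8.ReeData
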