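import Cfsg.Agent.Lib.ReeBorel86
import Cfsg.Agent.Lib.ReeTorus17
import Cfsg.Agent.Lib.TransferTate
import Cfsg.Agent.Lib.PSLSimple

/-!
`²G₂(q)`, `q ≥ 27`, is perfect and has one class of involutions.
-/

set_option autoImplicit false
set_option linter.unusedSectionVars false
set_option maxRecDepth 20000

namespace Cfsg.Agent.ReeInvolution86

open Cfsg.Lie Cfsg.Agent.ReeInstance17 Cfsg.Agent.ReeBorel86 Cfsg.Agent.ReeSL2
open Cfsg.Agent.TwistAutRigid Subgroup
open scoped commutatorElement MatrixGroups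

variable {K : Type*} [Field K] [Fintype K] [CharP K 3]

theorem two_ne : (2 : K) ≠ 0 := fun h =>
  absurd ((CharP.cast_eq_zero_iff K 3 2).1 (by exact_mod_cast h)) (by norm_num)

theorem ofAdd_facts : (Multiplicative.ofAdd (1 : ZMod 2)) ≠ 1 ∧
    Multiplicative.ofAdd (1 : ZMod 2) * Multiplicative.ofAdd (1 : ZMod 2) = 1 := by decide

/-- the projective group -/
abbrev PSL2 (K : Type*) [Field K] := Matrix.ProjectiveSpecialLinearGroup (Fin 2) K

/-- an element of order two in the projective group is conjugate to the standard one -/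
theorem psl_class (hsq : ¬ IsSquare (-1 : K)) {x : PSL2 K} (hx : x * x = 1) (hx1 : x ≠ 1) :
    IsConj (QuotientGroup.mk (ChevalleySL2.wel : SL(2, K)) : PSL2 K) x := by
  obtain ⟨g, rfl⟩ := QuotientGroup.mk_surjective x
  set a := (g : Matrix (Fin 2) (Fin 2) K) 0 0 with ha
  set b := (g : Matrix (Fin 2) (Fin 2) K) 0 1 with hb
  set c := (g : Matrix (Fin 2) (Fin 2) K) 1 0 with hc
  set d := (g : Matrix (Fin 2) (Fin 2) K) 1 1 with hd
  have hdet : a * d - b * c = 1 := by
    have := g.det_coe
    rwa [Matrix.det_fin_two] at this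
  have hg2 : g * g ∈ center SL(2, K) := (QuotientGroup.eq_one_iff _).1 hx
  have hg1 : g ∉ center SL(2, K) := fun h => hx1 ((QuotientGroup.eq_one_iff _).2 h)
  obtain ⟨r, hr, hgr⟩ := Matrix.SpecialLinearGroup.mem_center_iff.1 hg2
  have e01 : b * (a + d) = 0 := by
    have := congrFun (congrFun hgr 0) 1
    simp [Matrix.mul_apply, Fin.sum_univ_two, ← ha, ← hb, ← hd] at this
    linear_combination -this
  have e10 : c * (a + d) = 0 := by
    have := congrFun (congrFun hgr 1) 0
    simp [Matrix.mul_apply, Fin.sum_univ_two, ← ha, ← hc, ← hd] at this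
    linear_combination -this
  have e00 : a * a + b * c = r := by
    have := congrFun (congrFun hgr 0) 0
    simp [Matrix.mul_apply, Fin.sum_univ_two, ← ha, ← hb, ← hc] at this
    linear_combination -this
  have e11 : c * b + d * d = r := by
    have := congrFun (congrFun hgr 1) 1
    simp [Matrix.mul_apply, Fin.sum_univ_two, ← hb, ← hc, ← hd] at this
    linear_combination -this
  have htr : a + d = 0 := by
    by_contra htr
    have hb0 : b = 0 := (mul_eq_zero.1 e01).resolve_right htr
    have hc0 : c = 0 := (mul_eq_zero.1 e10).resolve_right htr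
    have had : d = a := by
      have : (a - d) * (a + d) = 0 := by linear_combination e00 - e11
      linear_combination -((mul_eq_zero.1 this).resolve_right htr)
    refine hg1 (Matrix.SpecialLinearGroup.mem_center_iff.2 ⟨a, ?_, ?_⟩)
    · simp only [Fintype.card_fin]
      rw [hb0, hc0, had] at hdet
      linear_combination hdet
    · ext i j
      fin_cases i <;> fin_cases j <;> simp [← ha, ← hb, ← hc, ← hd, hb0, hc0, had]
  have hda : d = -a := by linear_combination htr
  have hc0 : c ≠ 0 := fun h => hsq ⟨a, by rw [h, hda] at hdet; linear_combination hdet⟩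
  -- choose the sign for which the determinant is a square
  obtain ⟨e, he, s, hs⟩ : ∃ e : K, e * e = 1 ∧ IsSquare (e * c) := by
    by_cases h : IsSquare c
    · exact ⟨1, one_mul 1, by rwa [one_mul]⟩
    · refine ⟨-1, by ring, ?_⟩
      classical
      rw [← quadraticChar_one_iff_isSquare (mul_ne_zero (by simp) hc0), map_mul,
        quadraticChar_neg_one_iff_not_isSquare.2 hsq, quadraticChar_neg_one_iff_not_isSquare.2 h]
      norm_num
  have hs0 : s ≠ 0 := by
    rintro rfl
    rw [mul_zero] at hs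
    exact mul_ne_zero (left_ne_zero_of_mul_eq_one he) hc0 hs
  let M : SL(2, K) := ⟨!![1 / s, e * a / s; 0, e * c / s], by
    rw [Matrix.det_fin_two_of, hs]; field_simp; ring⟩
  rw [isConj_iff]
  refine ⟨QuotientGroup.mk M, ?_⟩
  rw [← QuotientGroup.mk_mul, ← QuotientGroup.mk_inv, ← QuotientGroup.mk_mul, QuotientGroup.eq,
    Matrix.SpecialLinearGroup.mem_center_iff]
  have hprod : (g : Matrix (Fin 2) (Fin 2) K) * (M : Matrix (Fin 2) (Fin 2) K) =
      (-e) • ((M : Matrix (Fin 2) (Fin 2) K) * (ChevalleySL2.wel : SL(2, K))) := by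
    show (g : Matrix (Fin 2) (Fin 2) K) * !![1 / s, e * a / s; 0, e * c / s] =
      (-e) • (!![1 / s, e * a / s; 0, e * c / s] * !![0, 1; -1, 0])
    ext i j
    fin_cases i <;> fin_cases j <;>
      simp [Matrix.mul_apply, Fin.sum_univ_two, ← ha, ← hb, ← hc, ← hd, hda] <;> field_simp
    · linear_combination -a * he
    · rw [hda] at hdet
      linear_combination (-e) * hdet
    · linear_combination -he
    · linear_combination (0 : K) * he
  refine ⟨-e, by simp only [Fintype.card_fin]; linear_combination he, ?_⟩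
  have hX : (g : Matrix (Fin 2) (Fin 2) K) =
      (-e) • ((M * ChevalleySL2.wel * M⁻¹ : SL(2, K)) : Matrix (Fin 2) (Fin 2) K) := by
    rw [Matrix.SpecialLinearGroup.coe_mul, ← Matrix.smul_mul, Matrix.SpecialLinearGroup.coe_mul,
      ← hprod, Matrix.mul_assoc, ← Matrix.SpecialLinearGroup.coe_mul, mul_inv_cancel,
      Matrix.SpecialLinearGroup.coe_one, mul_one]
  rw [Matrix.SpecialLinearGroup.coe_mul, hX, Matrix.mul_smul, ← Matrix.SpecialLinearGroup.coe_mul,
    inv_mul_cancel, Matrix.SpecialLinearGroup.coe_one, Matrix.smul_one_eq_diagonal]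
  rfl

/-! ### the group is perfect -/

variable {X : Ctx K}

theorem perfect (h3 : 3 < Fintype.card K) : commutator ↥X.G1 = ⊤ := by
  have hF : Full X := ReeTorus17.tor_mem X
  obtain ⟨s, hs⟩ := exists_sgm_ne X h3
  have hs0 : s ≠ 0 := fun h => hs (by rw [h, map_zero])
  set l : Kˣ := Units.mk0 s hs0
  have hl1 : (l : K) - 1 ≠ 0 := fun h => hs (by
    rw [show s = 1 from (sub_eq_zero.1 h : s = 1), map_one])
  have hlu : wu X l - 1 ≠ 0 := fun h => hs (by
    have h' : s * sgm X s = 1 := sub_eq_zero.1 h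
    have h2 := congrArg (sgm X) h'
    rw [map_mul, map_one, sgm_sgm] at h2
    have h4 : (s * s) * (sgm X s * s) = 1 := by linear_combination h2
    rw [mul_comm (sgm X s) s, h', mul_one] at h4
    exact mul_left_cancel₀ hs0 (h'.trans h4.symm))
  have hu : ∀ u, gu X 0 u 0 ∈ commutator ↥X.G1 := fun u => by
    have h : ⁅T hF l, gu X 0 (u / (wu X l - 1)) 0⁆ ∈ commutator ↥X.G1 :=
      commutator_mem_commutator (mem_top _) (mem_top _)
    rwa [show ⁅T hF l, gu X 0 (u / (wu X l - 1)) 0⁆ = gu X 0 u 0 by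
      rw [commutatorElement_def, T_conj, mul_inv_eq_iff_eq_mul, gu_mul_zero]
      congr 1
      · simp
      · field_simp; ring
      · simp] at h
  have hv : ∀ v, gu X 0 0 v ∈ commutator ↥X.G1 := fun v => by
    have e := comm_zu X (-1) v
    rw [show -(-1 * v) = v by ring] at e
    rw [← e]
    exact commutator_mem_commutator (mem_top _) (mem_top _)
  have hgu : ∀ t u v, gu X t u v ∈ commutator ↥X.G1 := fun t u v => by
    set t' := t / ((l : K) - 1) with ht'
    have h : ⁅T hF l, gu X t' 0 0⁆ ∈ commutator ↥X.G1 :=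
      commutator_mem_commutator (mem_top _) (mem_top _)
    obtain ⟨a, b, c, e⟩ := (mem_U1_iff X).1 (show ⁅T hF l, gu X t' 0 0⁆ ∈ U1 X.G1 by
      rw [commutatorElement_def, T_conj]
      exact mul_mem (gu_mem_U X _ _ _) (inv_mem (gu_mem_U X _ _ _)))
    have ha : a = t := by
      have e' : gu X a b c * gu X t' 0 0 = T hF l * gu X t' 0 0 * (T hF l)⁻¹ := by
        rw [← e, commutatorElement_def]; group
      rw [T_conj, gu_mul] at e'
      have hd : t' * ((l : K) - 1) = t := div_mul_cancel₀ _ hl1
      linear_combination (gu_inj X e').1 + hd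
    rw [e, ha] at h
    have e2 : gu X t u v = gu X t b c * (gu X 0 (u - b) 0 * gu X 0 0 (v - c)) := by
      rw [gu_mul_zero, gu_mul_zero]; simp
    rw [e2]
    exact mul_mem h (mul_mem (hu _) (hv _))
  rw [eq_top_iff]
  intro y _
  have hle : X.G1 ≤ (commutator ↥X.G1).map X.G1.subtype := by
    refine TwistedTools.gen_le c2 ?_
    rintro w ⟨t, u, v, hw⟩
    obtain ⟨s, rfl⟩ : ∃ s : Bool, w = if s then reeWordV X.e t u v else reeWordU X.e t u v := by
      rcases hw with rfl | rfl
      · exact ⟨false, rfl⟩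
      · exact ⟨true, rfl⟩
    rw [← X.gen_eq]
    refine ⟨⟨_, X.gen_mem s t u v⟩, ?_, rfl⟩
    cases s
    · exact hgu t u v
    · obtain ⟨hN, hw'⟩ := X.cn_toW
      have hl : ChevAutRigid.IsLong X.tw.S (X.tw.S.toW ⟨_, hN⟩) := fun r hr => by
        rw [hw']; exact (X.tw.X.mem_invSet.mp (X.mem_invSet_cl.mpr hr)).2
      set z : ↥X.G1 := ⟨_, X.gen_mem true t u v⟩
      have hV : z ∈ V1 X.G1 := by
        show ReeTwist17.gen X.θ true t u v ∈ chevG2.negUnipotent K
        simp only [ReeTwist17.gen, ReeTwist17.Uf, ReeTwist17.tail, ReeTwist17.X, ↓reduceIte]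
        have hneg : ∀ r ∈ ([6, 7, 8, 9, 10, 11] : List ℕ), chevG2.IsNegRoot (chevG2.neg r) := by
          decide +kernel
        exact mul_mem (mul_mem (X.tw.S.xg_mem_V (hneg 7 (by simp)) _) (X.tw.S.xg_mem_V (hneg 6 (by simp)) _))
          (mul_mem (mul_mem (mul_mem (X.tw.S.xg_mem_V (hneg 8 (by simp)) _)
            (X.tw.S.xg_mem_V (hneg 9 (by simp)) _)) (X.tw.S.xg_mem_V (hneg 10 (by simp)) _))
            (X.tw.S.xg_mem_V (hneg 11 (by simp)) _))
      obtain ⟨a, b, c, e⟩ := (mem_U1_iff X).1 ((conj_mem_U1 (T := X.tw) X.cn_G1 hl (y := z)).2 hV)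
      have hmem : ((⟨_, X.cn_G1⟩ : ↥X.G1) * z * (⟨_, X.cn_G1⟩ : ↥X.G1)⁻¹) ∈ commutator ↥X.G1 :=
        e ▸ hgu a b c
      exact (Subgroup.Normal.mem_comm_iff inferInstance).1 (by simpa [mul_assoc] using
        hmem) |> fun h => by simpa [mul_assoc] using h
  obtain ⟨z, hz, hzy⟩ := hle y.2
  rwa [Subtype.ext hzy] at hz

/-! ### involutions -/

theorem neg_one_not_sq {m : ℕ} (hK : Fintype.card K = 3 ^ (2 * m + 1)) : ¬ IsSquare (-1 : K) := by
  rw [FiniteField.isSquare_neg_one_iff, not_not, hK, pow_succ, pow_mul, Nat.mul_mod, Nat.pow_mod]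
  simp

theorem center_simple {G : Type*} [Group G] [IsSimpleGroup G] (h : ¬ IsMulCommutative G) :
    center G = ⊥ := by
  refine (IsSimpleGroup.eq_bot_or_eq_top_of_normal (center G) inferInstance).resolve_right fun ht => h ?_
  exact ⟨⟨fun a b => (Subgroup.mem_center_iff.1 (ht ▸ mem_top b : b ∈ center G) a)⟩⟩

set_option maxHeartbeats 1000000 in
/-- one class of involutions -/
theorem one_class {m : ℕ} (hm : 1 ≤ m) (hK : Fintype.card K = 3 ^ (2 * m + 1)) (X : Ctx K)
    {y : ↥X.G1} (hy : y * y = 1) (hy1 : y ≠ 1) :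
    IsConj (⟨_, ReeTorus17.av_mem X⟩ : ↥X.G1) y := by
  classical
  haveI : Fact (Nat.Prime 2) := ⟨Nat.prime_two⟩
  have h27 : 27 ≤ Fintype.card K := by
    rw [hK]; exact (by norm_num : 27 = 3 ^ 3).le.trans (Nat.pow_le_pow_right (by norm_num) (by omega))
  have hav := ReeTorus17.av_mem X
  set A : ↥X.G1 := ⟨_, hav⟩ with hA
  have hA2 : A * A = 1 := Subtype.ext (ReeCentralizer17.av_sq X)
  have hA1 : A ≠ 1 := fun h => ReeCentralizer17.av_ne_one X hav (congrArg Subtype.val h)
  have hodd : Odd (Fintype.card K) := hK ▸ Odd.pow ⟨1, rfl⟩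
  obtain ⟨e⟩ := ReeCentralizer17.exists_equiv X hav hodd
  have h4 : 4 ≤ Nat.card K := by rw [Nat.card_eq_fintype_card]; omega
  have hsimple : IsSimpleGroup (PSL2 K) :=
    PSLSimple.isSimpleGroup_PSL_fin' (le_refl 2) fun _ => h4
  have hnc : ¬ IsMulCommutative (PSL2 K) := fun h =>
    PSLSimple.not_isMulCommutative_PSL_fin (F := K) (le_refl 2) (fun _ => h4) fun a b => h.is_comm.comm a b
  let C := ReeCentralizer17.Cen X hav
  have hAC : A ∈ C := mem_centralizer_singleton_iff.2 rfl
  have heA : (e ⟨A, hAC⟩).2 = 1 := by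
    have : (e ⟨A, hAC⟩).2 ∈ center (PSL2 K) := mem_center_iff.2 fun z => by
      have h : Commute (⟨A, hAC⟩ : ↥C) (e.symm (1, z)) :=
        Subtype.ext (mem_centralizer_singleton_iff.1 (e.symm (1, z)).2).symm
      have h2 := congrArg Prod.snd (h.map e.toMonoidHom).eq
      simpa using h2.symm
    rwa [center_simple hnc, mem_bot] at this
  have heA1 : (e ⟨A, hAC⟩).1 = Multiplicative.ofAdd 1 := by
    rcases ReeCentralizer17.zmod2_cases (e ⟨A, hAC⟩).1.toAdd with h | h
    · exfalso
      refine hA1 (congrArg Subtype.val (e.injective (a₁ := ⟨A, hAC⟩) (a₂ := 1) ?_) :)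
      rw [map_one]
      exact Prod.ext h heA
    · exact h
  -- the conjugates of `A` inside the centraliser of `A`
  let w0 : PSL2 K := QuotientGroup.mk (ChevalleySL2.wel : SL(2, K))
  let y0 : Multiplicative (ZMod 2) → ↥X.G1 := fun ε => (e.symm (ε, w0) : ↥C)
  have htype : ∀ y, ∀ hyC : y ∈ C, y * y = 1 → y ≠ 1 → y ≠ A → IsConj (y0 (e ⟨y, hyC⟩).1) y := by
    intro y hyC hy2 hy1' hyA
    have h2 : (e ⟨y, hyC⟩).2 * (e ⟨y, hyC⟩).2 = 1 := by
      have : (⟨y, hyC⟩ : ↥C) * ⟨y, hyC⟩ = 1 := Subtype.ext hy2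
      have h := congrArg e this
      rw [map_mul, map_one] at h
      exact congrArg Prod.snd h
    have hne : (e ⟨y, hyC⟩).2 ≠ 1 := by
      intro h
      rcases ReeCentralizer17.zmod2_cases (e ⟨y, hyC⟩).1.toAdd with h1 | h1
      · refine hy1' (congrArg Subtype.val (e.injective (a₁ := ⟨y, hyC⟩) (a₂ := 1) ?_) :)
        rw [map_one]
        exact Prod.ext h1 h
      · refine hyA (congrArg Subtype.val (e.injective (a₁ := ⟨y, hyC⟩) (a₂ := ⟨A, hAC⟩) ?_) :)
        exact Prod.ext (h1.trans heA1.symm) (h.trans heA.symm)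
    obtain ⟨g, hg⟩ := isConj_iff.1 (psl_class (neg_one_not_sq hK) h2 hne)
    refine isConj_iff.2 ⟨(e.symm (1, g) : ↥C), ?_⟩
    have hk : e.symm (1, g) * e.symm ((e ⟨y, hyC⟩).1, w0) * (e.symm (1, g))⁻¹ = ⟨y, hyC⟩ := by
      apply e.injective
      rw [map_mul, map_mul, map_inv, e.apply_symm_apply, e.apply_symm_apply]
      exact Prod.ext (by simp) hg
    exact congrArg Subtype.val hk
  -- a Sylow subgroup containing `A`
  have hzp : IsPGroup 2 (zpowers A) := IsPGroup.of_card (n := 1)
    (by rw [Nat.card_zpowers, orderOf_eq_prime (by rw [_root_.sq]; exact hA2) hA1, pow_one])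
  obtain ⟨S, hS⟩ := hzp.exists_le_sylow
  have hAS : A ∈ (S : Subgroup ↥X.G1) := hS (mem_zpowers A)
  obtain ⟨hS8, hS2⟩ := ReeCentralizer17.sylow_two X hav hK S
  have hinv : ∀ z : ↥(S : Subgroup ↥X.G1), z * z = 1 := fun z => Subtype.ext (hS2 z z.2)
  have hSc : IsMulCommutative ↥(S : Subgroup ↥X.G1) := ⟨⟨fun a b => by
    have hi : ∀ z : ↥(S : Subgroup ↥X.G1), z⁻¹ = z := fun z => inv_eq_of_mul_eq_one_right (hinv z)
    calc a * b = (a * b)⁻¹ := (hi _).symm
      _ = b * a := by rw [mul_inv_rev, hi, hi]⟩⟩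
  have hSC : (S : Subgroup ↥X.G1) ≤ C := fun z hz => mem_centralizer_singleton_iff.2
    (congrArg Subtype.val (hSc.is_comm.comm ⟨z, hz⟩ ⟨A, hAS⟩) :)
  set N := normalizer ((S : Subgroup ↥X.G1) : Set ↥X.G1)
  have hctrl : TransferTate.ControlsFusion N (S : Subgroup ↥X.G1) :=
    TransferTate.controlsFusion_normalizer_of_comm S hSc
  -- the orbit of `A` under the normaliser has odd size
  let O : Set ↥X.G1 := {z | z ∈ (S : Subgroup ↥X.G1) ∧ IsConj A z}
  have hO_odd : Odd (Nat.card O) := by
    let f : ↥N → O := fun n => ⟨n * A * (n : ↥X.G1)⁻¹,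
      (mem_normalizer_iff.1 n.2 A).1 hAS, isConj_iff.2 ⟨n, rfl⟩⟩
    let St : Subgroup ↥N := (centralizer {A}).subgroupOf N
    have hf : ∀ n n', f n = f n' ↔ n⁻¹ * n' ∈ St := fun n n' => by
      rw [mem_subgroupOf, mem_centralizer_singleton_iff, Subtype.ext_iff]
      show (n : ↥X.G1) * A * (n : ↥X.G1)⁻¹ = n' * A * (n' : ↥X.G1)⁻¹ ↔ _
      rw [Subgroup.coe_mul, Subgroup.coe_inv]
      constructor
      · intro h
        calc (n : ↥X.G1)⁻¹ * n' * A = (n : ↥X.G1)⁻¹ * (n' * A * (n' : ↥X.G1)⁻¹) * n' := by group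
          _ = A * ((n : ↥X.G1)⁻¹ * n') := by rw [← h]; group
      · intro h
        calc (n : ↥X.G1) * A * (n : ↥X.G1)⁻¹
            = (n : ↥X.G1) * (A * ((n : ↥X.G1)⁻¹ * n')) * (n' : ↥X.G1)⁻¹ := by group
          _ = _ := by rw [← h]; group
    let F : ↥N ⧸ St → O := Quotient.lift f fun n n' h => (hf n n').2 (QuotientGroup.leftRel_apply.1 h)
    have hF : Function.Bijective F := by
      constructor
      · intro u v
        induction u using Quotient.inductionOn with
        | h n =>
          induction v using Quotient.inductionOn with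
          | h n' =>
            intro h
            exact Quotient.sound (QuotientGroup.leftRel_apply.2 ((hf n n').1 h))
      · intro z
        obtain ⟨hzS, hz⟩ := z.2
        obtain ⟨g, hg⟩ := isConj_iff.1 hz
        obtain ⟨n, hn, he⟩ := hctrl A hAS g (hg ▸ hzS)
        exact ⟨QuotientGroup.mk ⟨n, hn⟩, Subtype.ext (he.trans hg)⟩
    rw [← Nat.card_eq_of_bijective F hF, Nat.odd_iff, ← Nat.two_dvd_ne_zero]
    intro h2
    have hSN : (S : Subgroup ↥X.G1) ≤ N := Subgroup.le_normalizer
    have hle : (S : Subgroup ↥X.G1).subgroupOf N ≤ St := fun z hz => hSC hz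
    exact (S.subtype hSN).not_dvd_index (h2.trans (index_dvd_of_le hle))
  -- the counts
  let π : ↥(S : Subgroup ↥X.G1) →* Multiplicative (ZMod 2) :=
    (MonoidHom.fst _ _).comp (e.toMonoidHom.comp (Subgroup.inclusion hSC))
  have hπ : Function.Surjective π := fun ε => by
    rcases ReeCentralizer17.zmod2_cases ε.toAdd with h | h
    · exact ⟨1, by rw [map_one]; exact h.symm⟩
    · exact ⟨⟨A, hAS⟩, heA1.trans h.symm⟩
  have hker : Nat.card π.ker = 4 := by
    have h := Subgroup.card_mul_index π.ker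
    rw [Subgroup.index_ker, MonoidHom.range_eq_top.2 hπ, Subgroup.card_top,
      Nat.card_congr Multiplicative.toAdd, Nat.card_zmod, hS8] at h
    omega
  have hB : ∀ ε, IsConj A (y0 ε) := by
    by_contra hcon
    push Not at hcon
    obtain ⟨ε1, hε1⟩ := hcon
    have hmem : ∀ z : ↥(S : Subgroup ↥X.G1), z ≠ 1 → (z : ↥X.G1) ≠ A →
        IsConj (y0 (π z)) (z : ↥X.G1) := fun z hz hzA =>
      htype z (hSC z.2) (hS2 z z.2) (fun h => hz (Subtype.ext h)) hzA
    by_cases hcase : ∃ ε, IsConj A (y0 ε)
    · obtain ⟨ε, hε⟩ := hcase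
      have hne : ε ≠ ε1 := fun h => hε1 (h ▸ hε)
      -- `O` is the point `A` with the involutions of type `ε`
      have htypeO : ∀ z : O, (z : ↥X.G1) ≠ A → π ⟨z, z.2.1⟩ = ε := fun z hz => by
        by_contra h
        have h' : π ⟨z, z.2.1⟩ = ε1 := by
          rcases ReeCentralizer17.zmod2_cases (π ⟨z, z.2.1⟩).toAdd with a | a <;>
          rcases ReeCentralizer17.zmod2_cases ε.toAdd with b | b <;>
          rcases ReeCentralizer17.zmod2_cases ε1.toAdd with c | c <;>
          first
          | exact a.trans c.symm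
          | exact absurd (a.trans b.symm) h
          | exact absurd (b.trans c.symm) hne
        refine hε1 (z.2.2.trans ?_)
        have := hmem ⟨z, z.2.1⟩ (fun h1 => ?_) hz
        · exact (h' ▸ this).symm
        · have hz1 : (z : ↥X.G1) = 1 := congrArg Subtype.val h1
          obtain ⟨c, hc⟩ := isConj_iff.1 z.2.2
          exact hA1 (conj_eq_one_iff.1 (hc.trans hz1))
      have hOcard : Nat.card O = 4 := by
        let ρ : O → ↥(S : Subgroup ↥X.G1) := fun z => ⟨z, z.2.1⟩
        have hρ : ∀ z : O, (z : ↥X.G1) = A ∨ π (ρ z) = ε := fun z => (em _).imp_right (htypeO z)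
        -- the four elements
        let P : Set ↥(S : Subgroup ↥X.G1) := {z | π z = ε ∧ z ≠ 1 ∧ (z : ↥X.G1) ≠ A}
        have hP : Nat.card P = 3 := by
          let u : ↥(S : Subgroup ↥X.G1) := if ε = 1 then 1 else ⟨A, hAS⟩
          have hu : π u = ε := by
            by_cases h : ε = 1
            · simp [u, h]
            · rcases ReeCentralizer17.zmod2_cases ε.toAdd with a | a
              · exact absurd a h
              · simp only [u, h, ↓reduceIte]
                exact heA1.trans a.symm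
          have huu : u * u = 1 := hinv u
          let E : P ≃ {z : ↥π.ker // z ≠ 1} :=
            { toFun := fun z => ⟨⟨z.1 * u, by rw [MonoidHom.mem_ker, map_mul, z.2.1, ← hu, ← map_mul,
                huu, map_one]⟩, fun h => by
                have h' : z.1 * u = 1 := congrArg Subtype.val h
                have hz : z.1 = u := by rw [mul_eq_one_iff_eq_inv.1 h', inv_eq_of_mul_eq_one_right huu]
                by_cases he : ε = 1
                · exact z.2.2.1 (by simpa [u, he] using hz)
                · exact z.2.2.2 (by simpa [u, he] using congrArg Subtype.val hz)⟩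
              invFun := fun k => ⟨k.1.1 * u, by rw [map_mul, k.1.2, one_mul, hu], fun h => by
                  rw [mul_eq_one_iff_eq_inv, inv_eq_of_mul_eq_one_right huu] at h
                  by_cases he : ε = 1
                  · exact k.2 (Subtype.ext (by simpa [u, he] using h))
                  · have := k.1.2
                    rw [MonoidHom.mem_ker, h, hu] at this
                    exact he this,
                fun h => by
                  by_cases he : ε = 1
                  · simp only [u, he, ↓reduceIte, mul_one] at h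
                    have := k.1.2
                    rw [MonoidHom.mem_ker, show k.1.1 = ⟨A, hAS⟩ from Subtype.ext h] at this
                    exact absurd (heA1.symm.trans this) ofAdd_facts.1
                  · refine k.2 (Subtype.ext (mul_right_cancel (b := u) ?_))
                    rw [Subgroup.coe_one, one_mul]
                    apply Subtype.ext
                    simpa [u, he] using h⟩
              left_inv := fun z => Subtype.ext (by show z.1 * u * u = z.1; rw [mul_assoc, huu, mul_one])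
              right_inv := fun k => Subtype.ext (Subtype.ext (by
                show k.1.1 * u * u = k.1.1; rw [mul_assoc, huu, mul_one])) }
          rw [Nat.card_congr E, Nat.card_eq_fintype_card, Fintype.card_subtype_compl,
            Fintype.card_subtype_eq, ← Nat.card_eq_fintype_card, hker]
        have hset : O = insert A (Subtype.val '' P) := by
          ext z
          constructor
          · intro hz
            by_cases h : z = A
            · exact Or.inl h
            · refine Or.inr ⟨⟨z, hz.1⟩, ⟨htypeO ⟨z, hz⟩ h, fun h1 => ?_, h⟩, rfl⟩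
              obtain ⟨c, hc⟩ := isConj_iff.1 hz.2
              exact hA1 (conj_eq_one_iff.1 (hc.trans (congrArg Subtype.val h1)))
          · rintro (rfl | ⟨z, hzP, rfl⟩)
            · exact ⟨hAS, IsConj.refl _⟩
            · exact ⟨z.2, hε.trans (hzP.1 ▸ hmem z hzP.2.1 hzP.2.2)⟩
        rw [Nat.card_coe_set_eq, hset, Set.ncard_insert_of_notMem
          (by rintro ⟨z, hz, e⟩; exact hz.2.2 e) (Set.toFinite _),
          Set.ncard_image_of_injective _ Subtype.val_injective, ← Nat.card_coe_set_eq, hP]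
      rw [hOcard] at hO_odd
      exact absurd hO_odd (by decide)
    · -- no fusion at all: the normaliser centralises `A`
      push Not at hcase
      have hNC : N ≤ C := by
        intro n hn
        rw [mem_centralizer_singleton_iff]
        by_contra hne
        have hz : n * A * n⁻¹ ∈ (S : Subgroup ↥X.G1) := (mem_normalizer_iff.1 hn A).1 hAS
        refine hcase _ ((isConj_iff.2 ⟨n, rfl⟩ : IsConj A (n * A * n⁻¹)).trans
          (hmem ⟨_, hz⟩ (fun h => ?_) fun h => ?_).symm)
        · exact hA1 (conj_eq_one_iff.1 (congrArg Subtype.val h))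
        · exact hne (mul_inv_eq_iff_eq_mul.1 h)
      have h := TransferTate.commutator_inf_eq_of_control S (Subgroup.le_normalizer) hctrl
      rw [perfect (X := X) (by omega), top_inf_eq] at h
      have hAN : A ∈ ⁅C, C⁆ := Subgroup.commutator_mono hNC hNC (h.le hAS).1
      rw [← map_subtype_commutator] at hAN
      obtain ⟨a, ha, haA⟩ := hAN
      obtain rfl : a = ⟨A, hAC⟩ := Subtype.ext haA
      have h1 : (commutator ↥C).map ((MonoidHom.fst _ _).comp e.toMonoidHom) = ⊥ := by
        rw [eq_bot_iff, _root_.commutator_def, map_commutator, commutator_le]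
        intro u _ v _
        rw [mem_bot, commutatorElement_eq_one_iff_mul_comm, mul_comm]
      have h2 : (e ⟨A, hAC⟩).1 = 1 := mem_bot.1 (h1.le ⟨_, ha, rfl⟩)
      exact absurd (heA1.symm.trans h2) ofAdd_facts.1
  -- every involution has a conjugate in `S`
  have hyp : IsPGroup 2 (zpowers y) := IsPGroup.of_card (n := 1)
    (by rw [Nat.card_zpowers, orderOf_eq_prime (by rw [_root_.sq]; exact hy) hy1, pow_one])
  obtain ⟨Q, hQ⟩ := hyp.exists_le_sylow
  obtain ⟨g, hg⟩ := MulAction.exists_smul_eq ↥X.G1 Q S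
  have hz : g * y * g⁻¹ ∈ (S : Subgroup ↥X.G1) := by
    rw [← hg]
    exact ⟨y, hQ (mem_zpowers y), rfl⟩
  have hyz : IsConj y (g * y * g⁻¹) := isConj_iff.2 ⟨g, rfl⟩
  refine IsConj.trans ?_ hyz.symm
  by_cases hzA : g * y * g⁻¹ = A
  · rw [hzA]
  · have hz2 : g * y * g⁻¹ * (g * y * g⁻¹) = 1 := hS2 _ hz
    have hz1 : g * y * g⁻¹ ≠ 1 := fun h => hy1 (conj_eq_one_iff.1 h)
    exact (hB _).trans (htype _ (hSC hz) hz2 hz1 hzA)

end Cfsg.Agent.ReeInvolution86
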