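import Cfsg.Agent.Lib.PSL2Classes52
import Cfsg.Agent.Lib.SL2Torus

/-!
Facts about `C₂ × PSL(2, q)`, `q` a power of 3 congruent to 3 mod 4, needed for the local
analysis of the small Ree groups.
-/

set_option autoImplicit false

namespace Cfsg.Agent.ReePSL8

open Matrix Cfsg.Agent.PSL2Elements Cfsg.Agent.PSL2Proj52
open scoped MatrixGroups

variable {F : Type*} [Field F] [Finite F]

local notation "J" => ProjectiveSpecialLinearGroup (Fin 2) F

omit [Field F] [Finite F] in
theorem odd_card (h4 : Nat.card F % 4 = 3) : Odd (Nat.card F) := Nat.odd_iff.2 (by omega)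

omit [Field F] [Finite F] in
theorem gcd_two (h4 : Nat.card F % 4 = 3) : Nat.gcd 2 (Nat.card F - 1) = 2 :=
  Nat.gcd_eq_left (by omega)

theorem two_mul_card (h4 : Nat.card F % 4 = 3) :
    2 * Nat.card J = Nat.card F * (Nat.card F ^ 2 - 1) := by
  have := PSLCard.card_PSL2_mul (F := F)
  rwa [gcd_two h4] at this

theorem pow_three_of_three_pow [CharP F 3] (h4 : Nat.card F % 4 = 3) (h3 : 3 ∣ Nat.card F)
    (g : J) (k : ℕ) (hk : g ^ 3 ^ k = 1) : g ^ 3 = 1 := by
  have : Fact (Nat.Prime 3) := ⟨Nat.prime_three⟩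
  obtain ⟨i, -, hi⟩ := (Nat.dvd_prime_pow Nat.prime_three).1 (orderOf_dvd_of_pow_eq_one hk)
  rcases pow_cases 3 g with h | h | h
  · exact h
  all_goals
    rcases i with _ | i
    · rw [pow_zero, orderOf_eq_one_iff] at hi
      rw [hi, one_pow]
    · exfalso
      rw [gcd_two h4] at h
      have h' := (dvd_pow_self 3 (Nat.succ_ne_zero i)).trans (hi ▸ orderOf_dvd_of_pow_eq_one h)
      omega

theorem centralizer_odd [CharP F 3] (h4 : Nat.card F % 4 = 3) {x : J} (hx : x ≠ 1)
    (hodd : Odd (orderOf x)) (h3 : ¬3 ∣ orderOf x) :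
    (∀ y z : J, Commute y x → Commute z x → y * z = z * y) ∧
      (2 * Nat.card (Subgroup.centralizer ({x} : Set J)) = Nat.card F - 1 ∨
        2 * Nat.card (Subgroup.centralizer ({x} : Set J)) = Nat.card F + 1) := by
  have : Fact (Nat.Prime 3) := ⟨Nat.prime_three⟩
  have h2 := two_ne_of_odd (odd_card h4)
  obtain ⟨A, rfl⟩ := π_surjective x
  have h4' : tr A ^ 2 ≠ 4 := by
    intro h
    have hA : π A ^ 3 = 1 := by
      rcases mul_eq_zero.1 (show (tr A - 2) * (tr A + 2) = 0 by linear_combination h) with e | e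
      · rw [← map_pow, pow_char 3 (sub_eq_zero.1 e), map_one]
      · rw [← π_neg, ← map_pow,
          pow_char (A := -A) 3 (by rw [tr_neg, eq_neg_of_add_eq_zero_left e, neg_neg]), map_one]
    rcases (Nat.dvd_prime Nat.prime_three).1 (orderOf_dvd_of_pow_eq_one hA) with e | e
    · exact hx (orderOf_eq_one_iff.1 e)
    · exact h3 (by rw [e])
  have h0 : tr A ≠ 0 := by
    intro h
    have hA : π A ^ 2 = 1 := by
      rw [← map_pow, (sq_eq_neg_one_iff A h2).2 h, π_eq_one]
      exact Or.inr rfl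
    rcases (Nat.dvd_prime Nat.prime_two).1 (orderOf_dvd_of_pow_eq_one hA) with e | e
    · exact hx (orderOf_eq_one_iff.1 e)
    · rw [e] at hodd
      exact (by decide : ¬ Odd 2) hodd
  have hpre : (Subgroup.centralizer ({π A} : Set J)).comap π =
      Subgroup.centralizer ({A} : Set SL(2, F)) := by
    ext B
    rw [PSL2Classes52.mem_pre, Subgroup.mem_centralizer_singleton_iff]
    refine ⟨fun h => h.elim id fun h => ?_, Or.inl⟩
    exfalso
    have e : B * A * B⁻¹ = -A := by rw [h, neg_mul, mul_inv_cancel_right]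
    have h1 := congrArg tr e
    rw [tr_conj, tr_neg] at h1
    exact h0 ((mul_eq_zero.1 (show (2 : F) * tr A = 0 by linear_combination h1)).resolve_left h2)
  obtain ⟨hcyc, hcard⟩ := centralizer_semisimple h4'
  constructor
  · intro y z hy hz
    obtain ⟨B, rfl⟩ := π_surjective y
    obtain ⟨B', rfl⟩ := π_surjective z
    have hm : ∀ B : SL(2, F), Commute (π B) (π A) → B ∈ Subgroup.centralizer ({A} : Set SL(2, F)) := by
      intro B h
      rw [← hpre, Subgroup.mem_comap, Subgroup.mem_centralizer_singleton_iff]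
      exact h
    rw [← map_mul, ← map_mul, SL2Torus.tor_comm h4' (hm B hy) (hm B' hz)]
  · obtain ⟨k, hk, hk'⟩ : ∃ k, Nat.card (Subgroup.centralizer ({A} : Set SL(2, F))) = k ∧
        (k = Nat.card F - 1 ∨ k = Nat.card F + 1) := ⟨_, rfl, hcard.imp And.right And.right⟩
    have hs := PSL2Classes52.size_semisimple hk (Or.inl h0)
    have hc := Subgroup.card_mul_index (Subgroup.centralizer ({π A} : Set J))
    unfold PSL2Classes52.size at hs
    rw [← two_mul_card h4, ← hc] at hs
    have hne := (Subgroup.index_ne_zero_of_finite (H := Subgroup.centralizer ({π A} : Set J)))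
    have e : 2 * Nat.card (Subgroup.centralizer ({π A} : Set J)) = k := by
      refine Nat.eq_of_mul_eq_mul_left (Nat.pos_of_ne_zero hne) ?_
      linear_combination -hs
    rwa [e]

theorem card_centralizer_involution (h4 : Nat.card F % 4 = 3) {v : J} (hv : v ≠ 1)
    (hv2 : v * v = 1) : Nat.card (Subgroup.centralizer ({v} : Set J)) = Nat.card F + 1 := by
  have h2 := two_ne_of_odd (odd_card h4)
  obtain ⟨A, rfl⟩ := π_surjective v
  rw [Ne, π_eq_one, not_or] at hv
  have hA : tr A = 0 := by
    rcases (π_eq_one (A ^ 2)).1 (by rw [sq, map_mul, hv2]) with e | e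
    · rcases eq_one_or_neg_one_of_sq_eq_one h2 e with e | e
      · exact absurd e hv.1
      · exact absurd e hv.2
    · exact (sq_eq_neg_one_iff A h2).1 e
  have hns : ∀ r : F, r ^ 2 - tr A * r + 1 ≠ 0 := by
    intro r hr
    have := Fintype.ofFinite F
    have hsq : IsSquare (-1 : F) := ⟨r, by rw [hA] at hr; linear_combination -hr⟩
    rw [FiniteField.isSquare_neg_one_iff, ← Nat.card_eq_fintype_card] at hsq
    exact hsq h4
  obtain ⟨-, hk⟩ := centralizer_nonsplit hns
  have hs := PSL2Classes52.size_tr_zero h2 hk hA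
  have hc := Subgroup.card_mul_index (Subgroup.centralizer ({π A} : Set J))
  unfold PSL2Classes52.size at hs
  rw [← two_mul_card h4, ← hc] at hs
  have hne := (Subgroup.index_ne_zero_of_finite (H := Subgroup.centralizer ({π A} : Set J)))
  refine Nat.eq_of_mul_eq_mul_left (Nat.pos_of_ne_zero (mul_ne_zero two_ne_zero hne)) ?_
  linear_combination -hs

/-- The properties of an involution centralizer `C₂ × PSL(2, q)` used in the analysis. -/
structure InvCent {G : Type*} [Group G] (q : ℕ) (a : G) : Prop where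
  card : Nat.card (Subgroup.centralizer ({a} : Set G)) = q * (q ^ 2 - 1)
  three : ∀ g : G, Commute g a → ∀ k : ℕ, g ^ 3 ^ k = 1 → g ^ 3 = 1
  odd : ∀ x : G, Commute x a → x ≠ 1 → Odd (orderOf x) → ¬3 ∣ orderOf x →
    (∀ y z : G, Commute y a → Commute y x → Commute z a → Commute z x → y * z = z * y) ∧
      (Nat.card (Subgroup.centralizer ({a, x} : Set G)) = q - 1 ∨
        Nat.card (Subgroup.centralizer ({a, x} : Set G)) = q + 1)
  inv : ∀ b : G, Commute b a → b ≠ 1 → b ≠ a → b * b = 1 →
    Nat.card (Subgroup.centralizer ({a, b} : Set G)) = 2 * (q + 1)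

theorem mem_pair {G : Type*} [Group G] {a x g : G} :
    g ∈ Subgroup.centralizer ({a, x} : Set G) ↔ Commute g a ∧ Commute g x := by
  rw [Subgroup.mem_centralizer_iff]
  constructor
  · intro h
    exact ⟨(h a (by simp)).symm, (h x (by simp)).symm⟩
  · rintro ⟨h1, h2⟩ h (rfl | rfl)
    · exact h1.symm
    · exact h2.symm

omit [Finite F] in
theorem card_pair {G : Type*} [Group G] (a : G)
    (e : Subgroup.centralizer ({a} : Set G) ≃* Multiplicative (ZMod 2) × J)
    (x : G) (hx : Commute x a) :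
    Nat.card (Subgroup.centralizer ({a, x} : Set G)) =
      2 * Nat.card (Subgroup.centralizer ({(e ⟨x, Subgroup.mem_centralizer_singleton_iff.2 hx⟩).2} : Set J)) := by
  have h2 : ∀ Y : Type _, 2 * Nat.card Y = Nat.card (Multiplicative (ZMod 2) × Y) := fun Y => by
    rw [Nat.card_prod, Nat.card_congr (Multiplicative.ofAdd (α := ZMod 2)).symm, Nat.card_zmod]
  rw [h2]
  have hmem : ∀ g : G, Commute g a → g ∈ Subgroup.centralizer ({a} : Set G) := fun g h =>
    Subgroup.mem_centralizer_singleton_iff.2 h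
  have key : ∀ c : Subgroup.centralizer ({a} : Set G),
      (e c).2 ∈ Subgroup.centralizer ({(e ⟨x, hmem x hx⟩).2} : Set J) ↔ Commute (c : G) x := by
    intro c
    rw [Subgroup.mem_centralizer_singleton_iff]
    constructor
    · intro h
      have : e (c * ⟨x, hmem x hx⟩) = e (⟨x, hmem x hx⟩ * c) := by
        rw [map_mul, map_mul]
        exact Prod.ext (mul_comm _ _) h
      exact congrArg Subtype.val (e.injective this)
    · intro h
      have : c * ⟨x, hmem x hx⟩ = ⟨x, hmem x hx⟩ * c := Subtype.ext h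
      have h' := congrArg (fun t => (e t).2) this
      simpa using h'
  refine Nat.card_congr
    { toFun := fun g => ((e ⟨g, hmem g (mem_pair.1 g.2).1⟩).1,
        ⟨(e ⟨g, hmem g (mem_pair.1 g.2).1⟩).2, (key _).2 (mem_pair.1 g.2).2⟩)
      invFun := fun p => ⟨e.symm (p.1, p.2.1), mem_pair.2
        ⟨Subgroup.mem_centralizer_singleton_iff.1 (e.symm (p.1, p.2.1)).2,
          (key _).1 (by rw [e.apply_symm_apply]; exact p.2.2)⟩⟩
      left_inv := fun g => by apply Subtype.ext; simp
      right_inv := fun p => by apply Prod.ext <;> simp }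

theorem invCent_of_equiv {G : Type*} [Group G] [Finite G] [CharP F 3] (h4 : Nat.card F % 4 = 3)
    (h3 : 3 ∣ Nat.card F) (a : G) (ha : a ≠ 1) (ha2 : a * a = 1)
    (e : Subgroup.centralizer ({a} : Set G) ≃* Multiplicative (ZMod 2) × J) :
    InvCent (Nat.card F) a := by
  have hmem : ∀ g : G, Commute g a → g ∈ Subgroup.centralizer ({a} : Set G) := fun g h =>
    Subgroup.mem_centralizer_singleton_iff.2 h
  have hz2 : ∀ z : Multiplicative (ZMod 2), z ^ 2 = 1 := by decide
  have hz2' : ∀ z w : Multiplicative (ZMod 2), z ≠ 1 → w ≠ 1 → z = w := by decide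
  have hcentral : ∀ j : J, Commute j (e ⟨a, hmem a (Commute.refl a)⟩).2 := by
    intro j
    have hc := (Subgroup.mem_centralizer_singleton_iff.1 (e.symm (1, j)).2)
    have : e.symm (1, j) * ⟨a, hmem a (Commute.refl a)⟩ =
        ⟨a, hmem a (Commute.refl a)⟩ * e.symm (1, j) := Subtype.ext hc
    have h' := congrArg (fun t => (e t).2) this
    simpa [commute_iff_eq] using h'
  have ha_snd : (e ⟨a, hmem a (Commute.refl a)⟩).2 = 1 := by
    by_contra hne
    have hsq : (e ⟨a, hmem a (Commute.refl a)⟩).2 * (e ⟨a, hmem a (Commute.refl a)⟩).2 = 1 := by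
      rw [← Prod.snd_mul, ← map_mul, show (⟨a, hmem a (Commute.refl a)⟩ *
        ⟨a, hmem a (Commute.refl a)⟩ : Subgroup.centralizer ({a} : Set G)) = 1 from Subtype.ext ha2,
        map_one, Prod.snd_one]
    have hc := card_centralizer_involution h4 hne hsq
    have htop : Subgroup.centralizer ({(e ⟨a, hmem a (Commute.refl a)⟩).2} : Set J) = ⊤ :=
      eq_top_iff.2 fun j _ => Subgroup.mem_centralizer_singleton_iff.2 (hcentral j)
    rw [htop, Subgroup.card_top] at hc
    have h2J := two_mul_card (F := F) h4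
    rw [hc] at h2J
    have hq1 := PSLCard.one_lt_card F
    rw [show Nat.card F ^ 2 - 1 = (Nat.card F + 1) * (Nat.card F - 1) by
      rw [← Nat.sq_sub_sq, one_pow]] at h2J
    have h' : 2 = Nat.card F * (Nat.card F - 1) := by
      refine Nat.eq_of_mul_eq_mul_left (show 0 < Nat.card F + 1 by omega) ?_
      linear_combination h2J
    have : Nat.card F * 2 ≤ Nat.card F * (Nat.card F - 1) := Nat.mul_le_mul_left _ (by omega)
    omega
  have ha_fst : (e ⟨a, hmem a (Commute.refl a)⟩).1 ≠ 1 := fun h => ha <| congrArg Subtype.val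
    (e.injective (show e ⟨a, hmem a (Commute.refl a)⟩ = e 1 by
      rw [map_one]; exact Prod.ext h ha_snd))
  refine ⟨?_, ?_, ?_, ?_⟩
  · rw [Nat.card_congr e.toEquiv, Nat.card_prod,
      Nat.card_congr (Multiplicative.ofAdd (α := ZMod 2)).symm, Nat.card_zmod, two_mul_card h4]
  · intro g hg k hk
    have hk' : e ⟨g, hmem g hg⟩ ^ 3 ^ k = 1 := by
      rw [← map_pow, show (⟨g, hmem g hg⟩ : Subgroup.centralizer ({a} : Set G)) ^ 3 ^ k = 1 from
        Subtype.ext hk, map_one]
    have h1 : (e ⟨g, hmem g hg⟩).1 = 1 := by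
      have hd := Nat.dvd_gcd (orderOf_dvd_of_pow_eq_one (congrArg Prod.fst hk'))
        (orderOf_dvd_of_pow_eq_one (hz2 (e ⟨g, hmem g hg⟩).1))
      rw [show Nat.gcd (3 ^ k) 2 = 1 from Nat.Coprime.pow_left k (by decide)] at hd
      exact orderOf_eq_one_iff.1 (Nat.dvd_one.1 hd)
    have h2 := pow_three_of_three_pow h4 h3 _ k (congrArg Prod.snd hk')
    have : e (⟨g, hmem g hg⟩ ^ 3) = e 1 := by
      rw [map_pow, map_one]
      exact Prod.ext (by rw [Prod.pow_fst, h1, one_pow, Prod.fst_one]) h2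
    exact congrArg Subtype.val (e.injective this)
  · intro x hxa hx hodd hx3
    obtain ⟨c, hc⟩ : ∃ c, c = e ⟨x, hmem x hxa⟩ := ⟨_, rfl⟩
    have hord : orderOf c = orderOf x := by
      rw [hc, MulEquiv.orderOf_eq, Subgroup.orderOf_mk]
    have hc1 : c.1 = 1 := by
      have hd : orderOf c.1 ∣ orderOf x := hord ▸ orderOf_dvd_of_pow_eq_one
        (by rw [← Prod.pow_fst, pow_orderOf_eq_one, Prod.fst_one])
      rcases (Nat.dvd_prime Nat.prime_two).1 (orderOf_dvd_of_pow_eq_one (hz2 c.1)) with h | h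
      · exact orderOf_eq_one_iff.1 h
      · rw [h] at hd
        obtain ⟨t, ht⟩ := hodd
        omega
    have hord2 : orderOf c.2 = orderOf x := by
      rw [← hord, Prod.orderOf, hc1, orderOf_one, Nat.lcm_one_left]
    have hc2 : c.2 ≠ 1 := by
      intro h
      rw [h, orderOf_one] at hord2
      exact hx (orderOf_eq_one_iff.1 hord2.symm)
    obtain ⟨hcomm, hcard⟩ := centralizer_odd h4 hc2 (hord2 ▸ hodd) (hord2 ▸ hx3)
    refine ⟨fun y z hya hyx hza hzx => ?_, ?_⟩
    · have hy : Commute (e ⟨y, hmem y hya⟩).2 c.2 := by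
        rw [hc, commute_iff_eq, ← Prod.snd_mul, ← Prod.snd_mul, ← map_mul, ← map_mul,
          show (⟨y, hmem y hya⟩ * ⟨x, hmem x hxa⟩ : Subgroup.centralizer ({a} : Set G)) =
            ⟨x, hmem x hxa⟩ * ⟨y, hmem y hya⟩ from Subtype.ext hyx]
      have hz : Commute (e ⟨z, hmem z hza⟩).2 c.2 := by
        rw [hc, commute_iff_eq, ← Prod.snd_mul, ← Prod.snd_mul, ← map_mul, ← map_mul,
          show (⟨z, hmem z hza⟩ * ⟨x, hmem x hxa⟩ : Subgroup.centralizer ({a} : Set G)) =
            ⟨x, hmem x hxa⟩ * ⟨z, hmem z hza⟩ from Subtype.ext hzx]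
      have : e (⟨y, hmem y hya⟩ * ⟨z, hmem z hza⟩) = e (⟨z, hmem z hza⟩ * ⟨y, hmem y hya⟩) := by
        rw [map_mul, map_mul]
        exact Prod.ext (mul_comm _ _) (hcomm _ _ hy hz)
      exact congrArg Subtype.val (e.injective this)
    · rw [card_pair a e x hxa, ← hc]
      exact hcard
  · intro b hba hb hb' hb2
    rw [card_pair a e b hba, card_centralizer_involution h4]
    · intro h
      apply hb'
      by_cases h1 : (e ⟨b, hmem b hba⟩).1 = 1
      · exfalso
        exact hb (congrArg Subtype.val (e.injective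
          (show e ⟨b, hmem b hba⟩ = e 1 by rw [map_one]; exact Prod.ext h1 h)))
      · exact congrArg Subtype.val (e.injective
          (show e ⟨b, hmem b hba⟩ = e ⟨a, hmem a (Commute.refl a)⟩ from
            Prod.ext (hz2' _ _ h1 ha_fst) (h.trans ha_snd.symm)))
    · rw [← Prod.snd_mul, ← map_mul, show (⟨b, hmem b hba⟩ * ⟨b, hmem b hba⟩ :
        Subgroup.centralizer ({a} : Set G)) = 1 from Subtype.ext hb2, map_one, Prod.snd_one]

end Cfsg.Agent.ReePSL8
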