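import Cfsg.Agent.Lib.ReeTools8
import Cfsg.Agent.Lib.ReePSL8
import Cfsg.Agent.Lib.PSL2Sylow

/-!
Abstract data of a small Ree group and its Sylow 3-normalizer.
-/

set_option autoImplicit false

namespace Cfsg.Agent.ReeLocal8

open Subgroup ReeTools8 ReePSL8

/-- The hypotheses on a group of small Ree type. -/
structure ReeData (G : Type*) [Group G] [Finite G] where
  m : ℕ
  q : ℕ
  one_le_m : 1 ≤ m
  q_eq : q = 3 ^ (2 * m + 1)
  card_eq : Nat.card G = q ^ 3 * (q - 1) * (q ^ 3 + 1)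
  simple : IsSimpleGroup G
  ti : ∀ P Q : Sylow 3 G, P ≠ Q → (P : Subgroup G) ⊓ Q = ⊥
  exp_two : ∀ x : G, x ^ 4 = 1 → x ^ 2 = 1
  cyclic : ∀ p : ℕ, p.Prime → 3 < p → ∀ P : Sylow p G, IsCyclic (P : Subgroup G)
  U : Sylow 3 G
  H : Subgroup G
  H_cyclic : IsCyclic H
  card_H : Nat.card H = q - 1
  H_le : H ≤ normalizer (U : Set G)
  fpf : ∀ h ∈ H, h ≠ 1 → Odd (orderOf h) → ∀ u ∈ U, Commute h u → u = 1
  a : G
  a_mem : a ∈ H
  a_ne : a ≠ 1
  a_sq : a * a = 1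
  cent : InvCent q a
  nine : ∀ u ∈ U, u ^ 9 = 1
  exists_nine : ∃ u ∈ U, u ^ 3 ≠ 1
  twelve : ∀ (r c k : ℕ) (g y : G), r.Prime → r ∣ q ^ 2 - q + 1 → y ^ r ^ c = 1 →
    g * y * g⁻¹ = y ^ k → Commute (g ^ 12) y

namespace ReeData

variable {G : Type*} [Group G] [Finite G] (D : ReeData G)
include D

/-! ### Arithmetic -/

theorem q_ge : 27 ≤ D.q := by
  rw [D.q_eq]
  calc (27 : ℕ) = 3 ^ 3 := by norm_num
    _ ≤ _ := Nat.pow_le_pow_right (by norm_num) (by have := D.one_le_m; omega)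

theorem q_mod8 : D.q % 8 = 3 := by
  rw [D.q_eq, pow_succ, pow_mul, Nat.mul_mod, Nat.pow_mod]
  simp

theorem three_dvd_q : 3 ∣ D.q := by
  rw [D.q_eq]
  exact dvd_pow_self 3 (by omega)

theorem three_pow_q3 : D.q ^ 3 = 3 ^ (3 * (2 * D.m + 1)) := by
  rw [D.q_eq, ← pow_mul]
  ring_nf

omit D in
theorem coprime_three {n : ℕ} (h : ¬3 ∣ n) (k : ℕ) : (3 ^ k).Coprime n :=
  Nat.Coprime.pow_left k ((Nat.Prime.coprime_iff_not_dvd Nat.prime_three).2 h)

theorem not_three_dvd_qm1 : ¬3 ∣ D.q - 1 := by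
  have := D.three_dvd_q; have := D.q_ge; omega

theorem not_three_dvd_qp1 : ¬3 ∣ D.q + 1 := by
  have := D.three_dvd_q; omega

theorem not_three_dvd_cube : ¬3 ∣ D.q ^ 3 + 1 := by
  have : 3 ∣ D.q ^ 3 := D.three_dvd_q.trans (dvd_pow_self _ (by norm_num))
  omega

theorem card_pos_aux : 0 < D.q ^ 3 * (D.q - 1) := by
  have := D.q_ge
  exact Nat.mul_pos (by positivity) (by omega)

theorem card_U : Nat.card (D.U : Subgroup G) = D.q ^ 3 := by
  have : Fact (Nat.Prime 3) := ⟨Nat.prime_three⟩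
  rw [three_pow_q3]
  refine PSL2Sylow.sylow_card_eq (b := (D.q - 1) * (D.q ^ 3 + 1)) ?_ ?_ D.U
  · rw [D.card_eq, three_pow_q3, mul_assoc]
  · intro h
    rcases (Nat.Prime.dvd_mul Nat.prime_three).1 h with h | h
    · exact D.not_three_dvd_qm1 h
    · exact D.not_three_dvd_cube h

/-! ### The TI property -/

theorem syl_eq {P Q : Sylow 3 G} {u : G} (hu : u ≠ 1) (hP : u ∈ P) (hQ : u ∈ Q) : P = Q := by
  by_contra h
  have : u ∈ (P : Subgroup G) ⊓ Q := ⟨hP, hQ⟩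
  rw [D.ti P Q h] at this
  exact hu (Subgroup.mem_bot.1 this)

omit [Finite G] D in
theorem mem_syl_of_pow {P : Sylow 3 G} {x : G} {k : ℕ} (hx : x ^ 3 ^ k = 1)
    (hn : x ∈ normalizer (P : Set G)) : x ∈ P := by
  have : Fact (Nat.Prime 3) := ⟨Nat.prime_three⟩
  obtain ⟨i, -, hi⟩ := (Nat.dvd_prime_pow Nat.prime_three).1 (orderOf_dvd_of_pow_eq_one hx)
  have hp : IsPGroup 3 (zpowers x) := IsPGroup.of_card (n := i) (by rw [Nat.card_zpowers, hi])
  have h : x ∈ zpowers x ⊓ normalizer (P : Set G) := ⟨mem_zpowers x, hn⟩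
  rw [hp.inf_normalizer_sylow P] at h
  exact h.2

omit [Finite G] D in
theorem mem_smul_iff {P : Sylow 3 G} {g x : G} :
    x ∈ (g • P : Sylow 3 G) ↔ g⁻¹ * x * g ∈ P := by
  change x ∈ ((g • P : Sylow 3 G) : Subgroup G) ↔ _
  rw [Sylow.smul_def, Sylow.pointwise_smul_def, Subgroup.mem_pointwise_smul_iff_inv_smul_mem]
  simp [MulAut.conj_symm_apply]
  rfl

/-- An element conjugating a nontrivial element of `U` into `U` normalizes `U`. -/
theorem mem_N_of_conj {g u : G} (hu : u ≠ 1) (hU : u ∈ D.U) (hg : g * u * g⁻¹ ∈ D.U) :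
    g ∈ normalizer (D.U : Set G) := by
  rw [← Sylow.smul_eq_iff_mem_normalizer]
  refine D.syl_eq (u := g * u * g⁻¹) (by simpa using hu) ?_ hg
  rw [mem_smul_iff]
  simpa [mul_assoc] using hU

theorem exists_conj_U {x : G} {k : ℕ} (hx : x ^ 3 ^ k = 1) : ∃ g : G, g⁻¹ * x * g ∈ D.U := by
  have : Fact (Nat.Prime 3) := ⟨Nat.prime_three⟩
  obtain ⟨i, -, hi⟩ := (Nat.dvd_prime_pow Nat.prime_three).1 (orderOf_dvd_of_pow_eq_one hx)
  obtain ⟨P, hP⟩ := IsPGroup.exists_le_sylow (p := 3) (P := zpowers x)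
    (IsPGroup.of_card (n := i) (by rw [Nat.card_zpowers, hi]))
  obtain ⟨g, rfl⟩ := MulAction.exists_smul_eq G D.U P
  exact ⟨g, mem_smul_iff.1 (hP (mem_zpowers x))⟩

theorem U_pow {u : G} (hu : u ∈ D.U) : ∃ k : ℕ, u ^ 3 ^ k = 1 := by
  obtain ⟨k, hk⟩ := D.U.2 ⟨u, hu⟩
  exact ⟨k, congrArg Subtype.val hk⟩

theorem U_le_N : (D.U : Subgroup G) ≤ normalizer (D.U : Set G) := le_normalizer

/-! ### The normalizer of `U` -/

theorem U_inf_H {x : G} (hU : x ∈ D.U) (hH : x ∈ D.H) : x = 1 := by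
  rw [← orderOf_eq_one_iff]
  have h1 : orderOf x ∣ D.q ^ 3 := D.card_U ▸ orderOf_dvd_natCard _ hU
  have h2 : orderOf x ∣ D.q - 1 := D.card_H ▸ orderOf_dvd_natCard _ hH
  rw [three_pow_q3] at h1
  exact Nat.eq_one_of_dvd_coprimes (coprime_three D.not_three_dvd_qm1 _) h1 h2

theorem dvd_card_N : D.q ^ 3 * (D.q - 1) ∣ Nat.card (normalizer (D.U : Set G)) := by
  refine Nat.Coprime.mul_dvd_of_dvd_of_dvd ?_ ?_ ?_
  · rw [three_pow_q3]; exact coprime_three D.not_three_dvd_qm1 _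
  · rw [← D.card_U]; exact card_dvd_of_le D.U_le_N
  · rw [← D.card_H]; exact card_dvd_of_le D.H_le

theorem U_ne_bot : (D.U : Subgroup G) ≠ ⊥ := by
  intro h
  have := D.card_U
  rw [h, card_bot] at this
  have := D.q_ge
  have : D.q ≤ D.q ^ 3 := Nat.le_self_pow (by norm_num) _
  omega

theorem U_ne_top : (D.U : Subgroup G) ≠ ⊤ := by
  intro h
  have h1 := D.card_U
  rw [h, card_top, D.card_eq, mul_assoc] at h1
  have h2 : (D.q - 1) * (D.q ^ 3 + 1) = 1 :=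
    Nat.eq_of_mul_eq_mul_left (by have := D.q_ge; positivity) (h1.trans (mul_one _).symm)
  have h3 := Nat.eq_one_of_mul_eq_one_right h2
  have := D.q_ge
  omega

theorem card_sylow_three : Nat.card (Sylow 3 G) = D.q ^ 3 + 1 := by
  classical
  have : Fact (Nat.Prime 3) := ⟨Nat.prime_three⟩
  have hidx := Sylow.card_eq_index_normalizer D.U
  have hmul := card_mul_index (normalizer (D.U : Set G))
  rw [← hidx, D.card_eq] at hmul
  have hdvd : Nat.card (Sylow 3 G) ∣ D.q ^ 3 + 1 := by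
    obtain ⟨c, hc⟩ := D.dvd_card_N
    rw [hc, mul_assoc] at hmul
    exact ⟨c, by rw [mul_comm]; exact (Nat.eq_of_mul_eq_mul_left D.card_pos_aux hmul).symm⟩
  -- orbits of `U` on the Sylow 3-subgroups
  let X := MulAction.orbitRel.Quotient (D.U : Subgroup G) (Sylow 3 G)
  have := Fintype.ofFinite X
  have hsum : Nat.card (Sylow 3 G) =
      ∑ ω : X, Nat.card (MulAction.orbit (D.U : Subgroup G) ω.out) := by
    rw [Nat.card_congr (MulAction.selfEquivSigmaOrbits (D.U : Subgroup G) (Sylow 3 G)), Nat.card_sigma]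
  have hfix : ∀ u : (D.U : Subgroup G), u • D.U = D.U := fun u =>
    Sylow.smul_eq_iff_mem_normalizer.2 (D.U_le_N u.2)
  have horb : ∀ P : Sylow 3 G, P ≠ D.U →
      Nat.card (MulAction.orbit (D.U : Subgroup G) P) = D.q ^ 3 := by
    intro P hP
    have hst : MulAction.stabilizer (D.U : Subgroup G) P = ⊥ := by
      rw [eq_bot_iff]
      intro u hu
      rw [MulAction.mem_stabilizer_iff] at hu
      obtain ⟨k, hk⟩ := D.U_pow u.2
      have hn : (u : G) ∈ normalizer (P : Set G) := Sylow.smul_eq_iff_mem_normalizer.1 hu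
      have hm := mem_syl_of_pow hk hn
      by_contra hne
      exact hP (D.syl_eq (u := (u : G)) (fun h => hne (Subgroup.mem_bot.2 (Subtype.ext h))) hm u.2)
    rw [← D.card_U, Nat.card_congr (MulAction.orbitEquivQuotientStabilizer (D.U : Subgroup G) P),
      hst, ← index, index_bot]
  have hU : MulAction.orbit (D.U : Subgroup G) D.U = {D.U} := by
    ext Q
    simp only [MulAction.mem_orbit_iff, Set.mem_singleton_iff]
    exact ⟨fun ⟨u, hu⟩ => hu ▸ hfix u, fun h => ⟨1, by rw [h, one_smul]⟩⟩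
  have hω0 : (⟦D.U⟧ : X).out = D.U := by
    have : (⟦D.U⟧ : X).out ∈ MulAction.orbit (D.U : Subgroup G) D.U := by
      exact Quotient.mk_out (s := MulAction.orbitRel (D.U : Subgroup G) (Sylow 3 G)) D.U
    rw [hU] at this
    exact this
  rw [← Finset.add_sum_erase _ _ (Finset.mem_univ (⟦D.U⟧ : X))] at hsum
  rw [hω0, hU, Finset.sum_congr rfl (g := fun _ => D.q ^ 3) (fun ω hω => horb _ (fun h => by
      apply (Finset.mem_erase.1 hω).1
      rw [← Quotient.out_eq ω, h]))] at hsum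
  simp only [Nat.card_eq_fintype_card (α := ({D.U} : Set (Sylow 3 G))), Set.card_singleton,
    Finset.sum_const, smul_eq_mul] at hsum
  obtain ⟨k, hk⟩ : ∃ k, Nat.card (Sylow 3 G) = 1 + k * D.q ^ 3 := ⟨_, hsum⟩
  have hle := Nat.le_of_dvd (by positivity) hdvd
  rcases k with _ | _ | k
  · exfalso
    have : Subsingleton (Sylow 3 G) :=
      (Nat.card_eq_one_iff_unique.1 (by rw [hk]; ring)).1
    have hn := D.U.normal_of_subsingleton
    rcases D.simple.eq_bot_or_eq_top_of_normal _ hn with h | h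
    · exact D.U_ne_bot h
    · exact D.U_ne_top h
  · rw [hk]; ring
  · exfalso
    rw [hk, add_mul, add_mul] at hle
    have := D.q_ge
    have : D.q ≤ D.q ^ 3 := Nat.le_self_pow (by norm_num) _
    omega

theorem card_N : Nat.card (normalizer (D.U : Set G)) = D.q ^ 3 * (D.q - 1) := by
  have : Fact (Nat.Prime 3) := ⟨Nat.prime_three⟩
  have hmul := card_mul_index (normalizer (D.U : Set G))
  rw [← Sylow.card_eq_index_normalizer D.U, D.card_sylow_three, D.card_eq] at hmul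
  exact Nat.eq_of_mul_eq_mul_right (by positivity) hmul

theorem eq_of_mul_eq {u u' h h' : G} (hu : u ∈ D.U) (hu' : u' ∈ D.U) (hh : h ∈ D.H)
    (hh' : h' ∈ D.H) (e : u * h = u' * h') : u = u' ∧ h = h' := by
  have e' : u'⁻¹ * u = h' * h⁻¹ := by
    rw [eq_mul_inv_iff_mul_eq, mul_assoc, e, inv_mul_cancel_left]
  have h1 := D.U_inf_H (mul_mem (inv_mem hu') hu) (e' ▸ mul_mem hh' (inv_mem hh))
  have h2 : u = u' := (inv_mul_eq_one.1 h1).symm
  exact ⟨h2, mul_left_cancel (h2 ▸ e)⟩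

theorem exists_mul {n : G} (hn : n ∈ normalizer (D.U : Set G)) :
    ∃ u ∈ D.U, ∃ h ∈ D.H, n = u * h := by
  let f : ↥(D.U : Subgroup G) × D.H → normalizer (D.U : Set G) := fun p =>
    ⟨p.1.1 * p.2.1, mul_mem (D.U_le_N p.1.2) (D.H_le p.2.2)⟩
  have hinj : Function.Injective f := fun p p' e => by
    obtain ⟨h1, h2⟩ := D.eq_of_mul_eq p.1.2 p'.1.2 p.2.2 p'.2.2 (congrArg Subtype.val e)
    exact Prod.ext (Subtype.ext h1) (Subtype.ext h2)
  have hsurj := (Function.Injective.bijective_of_nat_card_le hinj (by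
    rw [D.card_N, Nat.card_prod, D.card_U, D.card_H])).2
  obtain ⟨p, hp⟩ := hsurj ⟨n, hn⟩
  exact ⟨_, p.1.2, _, p.2.2, (congrArg Subtype.val hp).symm⟩

theorem H_comm {g h : G} (hg : g ∈ D.H) (hh : h ∈ D.H) : g * h = h * g := by
  have := D.H_cyclic.isMulCommutative
  exact congrArg Subtype.val (mul_comm' (⟨g, hg⟩ : D.H) ⟨h, hh⟩)

/-- Elements of `H` have odd order squares. -/
theorem odd_sq {h : G} (hh : h ∈ D.H) : Odd (orderOf (h ^ 2)) := by
  have hd : orderOf h ∣ D.q - 1 := D.card_H ▸ orderOf_dvd_natCard _ hh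
  have h1 : orderOf (h ^ 2) ∣ (D.q - 1) / 2 := by
    apply orderOf_dvd_of_pow_eq_one
    rw [← pow_mul, Nat.mul_div_cancel' (by have := D.q_mod8; omega)]
    exact orderOf_dvd_iff_pow_eq_one.1 hd
  obtain ⟨c, hc⟩ := h1
  rw [Nat.odd_iff]
  by_contra h2
  have h3 : 2 ∣ (D.q - 1) / 2 := hc ▸ dvd_mul_of_dvd_left (by omega) c
  have := D.q_mod8
  omega

theorem fpf_sq {h u : G} (hh : h ∈ D.H) (h2 : h ^ 2 ≠ 1) (hu : u ∈ D.U) (hc : Commute h u) :
    u = 1 :=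
  D.fpf _ (pow_mem hh 2) h2 (D.odd_sq hh) u hu (hc.pow_left 2)

theorem H_sq_eq_one {h : G} (hh : h ∈ D.H) (h2 : h ^ 2 = 1) : h = 1 ∨ h = D.a := by
  by_cases h1 : h = 1
  · exact Or.inl h1
  right
  have := D.H_cyclic
  have ha2 : orderOf D.a = 2 := orderOf_eq_prime (by rw [sq, D.a_sq]) D.a_ne
  have hh2 : orderOf h = 2 := orderOf_eq_prime h2 h1
  have e := eq_of_card_eq_cyclic (H := D.H) (K := zpowers h) (L := zpowers D.a)
    (zpowers_le.2 hh) (zpowers_le.2 D.a_mem) (by rw [Nat.card_zpowers, Nat.card_zpowers, ha2, hh2])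
  have hm : h ∈ zpowers D.a := e ▸ mem_zpowers h
  classical
  rw [mem_zpowers_iff_mem_range_orderOf, ha2] at hm
  obtain ⟨i, hi, hi'⟩ := Finset.mem_image.1 hm
  rw [Finset.mem_range] at hi
  interval_cases i
  · exact absurd (hi'.symm.trans (pow_zero _)) h1
  · rw [← hi', pow_one]

theorem conj_U {n u : G} (hn : n ∈ normalizer (D.U : Set G)) (hu : u ∈ D.U) :
    n * u * n⁻¹ ∈ D.U :=
  (mem_normalizer_iff.1 hn u).1 hu

theorem conj_U' {n u : G} (hn : n ∈ normalizer (D.U : Set G)) (hu : u ∈ D.U) :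
    n⁻¹ * u * n ∈ D.U := by
  simpa using D.conj_U (inv_mem hn) hu

theorem conj_of_sq_ne {u h : G} (hu : u ∈ D.U) (hh : h ∈ D.H) (h2 : h ^ 2 ≠ 1) :
    ∃ v ∈ D.U, v * h * v⁻¹ = u * h := by
  let f : ↥(D.U : Subgroup G) → ↥(D.U : Subgroup G) := fun v =>
    ⟨v.1 * (h * v.1⁻¹ * h⁻¹), mul_mem v.2 (D.conj_U (D.H_le hh) (inv_mem v.2))⟩
  have hinj : Function.Injective f := fun v w e => by
    have e' : v.1 * (h * v.1⁻¹ * h⁻¹) = w.1 * (h * w.1⁻¹ * h⁻¹) := congrArg Subtype.val e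
    have hc : Commute h (w.1⁻¹ * v.1) := by
      calc h * (w.1⁻¹ * v.1) = w.1⁻¹ * (w.1 * (h * w.1⁻¹ * h⁻¹)) * h * v.1 := by group
        _ = w.1⁻¹ * (v.1 * (h * v.1⁻¹ * h⁻¹)) * h * v.1 := by rw [e']
        _ = w.1⁻¹ * v.1 * h := by group
    exact Subtype.ext (inv_mul_eq_one.1 (D.fpf_sq hh h2 (mul_mem (inv_mem w.2) v.2) hc)).symm
  obtain ⟨v, hv⟩ := Finite.surjective_of_injective hinj ⟨u, hu⟩
  have e : v.1 * (h * v.1⁻¹ * h⁻¹) = u := congrArg Subtype.val hv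
  exact ⟨v.1, v.2, by rw [← e]; group⟩

theorem sq_mem_of_commute {n u : G} (hn : n ∈ normalizer (D.U : Set G)) (hu : u ∈ D.U) (hu1 : u ≠ 1)
    (hc : Commute n u) : n * n ∈ D.U := by
  obtain ⟨w, hw, h, hh, rfl⟩ := D.exists_mul hn
  by_cases h2 : h ^ 2 = 1
  · have e : w * h * (w * h) = w * (h * w * h⁻¹) * h ^ 2 := by group
    rw [e, h2, mul_one]
    exact mul_mem hw (D.conj_U (D.H_le hh) hw)
  · exfalso
    obtain ⟨v, hv, e⟩ := D.conj_of_sq_ne hw hh h2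
    refine hu1 ?_
    have hc' : Commute h (v⁻¹ * u * v) := by
      calc h * (v⁻¹ * u * v) = v⁻¹ * ((v * h * v⁻¹) * u) * v := by group
        _ = v⁻¹ * (u * (v * h * v⁻¹)) * v := by rw [e, hc.eq]
        _ = (v⁻¹ * u * v) * h := by group
    have := D.fpf_sq hh h2 (mul_mem (mul_mem (inv_mem hv) hu) hv) hc'
    calc u = v * (v⁻¹ * u * v) * v⁻¹ := by group
      _ = 1 := by rw [this]; group

/-- An element commuting with a nontrivial 3-element has a conjugate in `N(U)` squaring into `U`. -/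
theorem exists_conj_N {x y : G} {k : ℕ} (hx1 : x ≠ 1) (hx : x ^ 3 ^ k = 1) (hc : Commute x y) :
    ∃ g : G, g⁻¹ * x * g ∈ D.U ∧ g⁻¹ * y * g ∈ normalizer (D.U : Set G) ∧
      (g⁻¹ * y * g) * (g⁻¹ * y * g) ∈ D.U := by
  obtain ⟨g, hg⟩ := D.exists_conj_U hx
  have hne : g⁻¹ * x * g ≠ 1 := fun h => hx1 <| by
    calc x = g * (g⁻¹ * x * g) * g⁻¹ := by group
      _ = 1 := by rw [h]; group
  have hc' : Commute (g⁻¹ * y * g) (g⁻¹ * x * g) := by
    calc (g⁻¹ * y * g) * (g⁻¹ * x * g) = g⁻¹ * (y * x) * g := by group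
      _ = g⁻¹ * (x * y) * g := by rw [hc.eq]
      _ = (g⁻¹ * x * g) * (g⁻¹ * y * g) := by group
  have hN : g⁻¹ * y * g ∈ normalizer (D.U : Set G) :=
    D.mem_N_of_conj hne hg (by rw [hc'.eq, mul_inv_cancel_right]; exact hg)
  exact ⟨g, hg, hN, D.sq_mem_of_commute hN hg hne hc'⟩

theorem pow_18_of_commute {x y : G} {k : ℕ} (hx1 : x ≠ 1) (hx : x ^ 3 ^ k = 1) (hc : Commute x y) :
    y ^ 18 = 1 := by
  obtain ⟨g, -, -, h⟩ := D.exists_conj_N hx1 hx hc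
  have h9 := D.nine _ h
  rw [← sq, ← pow_mul, show 2 * 9 = 18 from rfl] at h9
  have e : (g⁻¹ * y * g) ^ 18 = g⁻¹ * y ^ 18 * g := by
    have := conj_pow (i := 18) (a := g⁻¹) (b := y)
    simpa using this
  rw [e] at h9
  calc y ^ 18 = g * (g⁻¹ * y ^ 18 * g) * g⁻¹ := by group
    _ = 1 := by rw [h9]; group

theorem inv_mem_coset {t : G} (hn : t ∈ normalizer (D.U : Set G)) (h1 : t ≠ 1) (h2 : t * t = 1) :
    ∃ u ∈ D.U, t = u * D.a := by
  obtain ⟨u, hu, h, hh, rfl⟩ := D.exists_mul hn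
  refine ⟨u, hu, ?_⟩
  by_cases hsq : h ^ 2 = 1
  · rcases D.H_sq_eq_one hh hsq with e | e
    · exfalso
      subst e
      simp only [mul_one] at h1 h2
      obtain ⟨k, hk⟩ := D.U_pow hu
      have hd := Nat.dvd_gcd (orderOf_dvd_of_pow_eq_one hk)
        (orderOf_dvd_of_pow_eq_one (x := u) (n := 2) (by rw [sq, h2]))
      rw [show Nat.gcd (3 ^ k) 2 = 1 from Nat.Coprime.pow_left k (by decide)] at hd
      exact h1 (orderOf_eq_one_iff.1 (Nat.dvd_one.1 hd))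
    · rw [e]
  · exfalso
    obtain ⟨v, hv, e⟩ := D.conj_of_sq_ne hu hh hsq
    rw [← e] at h2
    apply hsq
    rw [sq]
    calc h * h = v⁻¹ * (v * h * v⁻¹ * (v * h * v⁻¹)) * v := by group
      _ = 1 := by rw [h2]; group

theorem inv_conj_in_N {t : G} (hn : t ∈ normalizer (D.U : Set G)) (h1 : t ≠ 1) (h2 : t * t = 1) :
    ∃ v ∈ D.U, v * D.a * v⁻¹ = t := by
  obtain ⟨u, hu, rfl⟩ := D.inv_mem_coset hn h1 h2
  obtain ⟨j, hj⟩ : ∃ j, u ^ (2 * j) = u := by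
    obtain ⟨k, hk⟩ := D.U_pow hu
    obtain ⟨i, hi⟩ : Odd (3 ^ k) := Odd.pow (by decide)
    refine ⟨i + 1, ?_⟩
    rw [show 2 * (i + 1) = 3 ^ k + 1 by omega, pow_succ, hk, one_mul]
  have ha : D.a⁻¹ = D.a := inv_eq_of_mul_eq_one_right D.a_sq
  have e : D.a * u * D.a⁻¹ = u⁻¹ := by
    rw [ha]
    refine eq_inv_of_mul_eq_one_right ?_
    calc u * (D.a * u * D.a) = u * D.a * (u * D.a) := by group
      _ = 1 := h2
  refine ⟨u ^ j, pow_mem hu j, ?_⟩
  have e2 : D.a * (u ^ j)⁻¹ = u ^ j * D.a := by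
    rw [← inv_pow, ← e, conj_pow, ha]
    calc D.a * (D.a * u ^ j * D.a) = (D.a * D.a) * u ^ j * D.a := by group
      _ = u ^ j * D.a := by rw [D.a_sq, one_mul]
  rw [mul_assoc, e2, ← mul_assoc, ← pow_add, ← two_mul, hj]

theorem inv_eq_of_commute {s t : G} (hs : s ∈ normalizer (D.U : Set G))
    (ht : t ∈ normalizer (D.U : Set G)) (hs1 : s ≠ 1) (ht1 : t ≠ 1) (hs2 : s * s = 1)
    (ht2 : t * t = 1) (hc : Commute s t) : s = t := by
  obtain ⟨u, hu, e⟩ := D.inv_mem_coset hs hs1 hs2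
  obtain ⟨w, hw, e'⟩ := D.inv_mem_coset ht ht1 ht2
  have hU : s * t ∈ D.U := by
    rw [e, e', show u * D.a * (w * D.a) = u * (D.a * w * D.a⁻¹) * (D.a * D.a) by group, D.a_sq,
      mul_one]
    exact mul_mem hu (D.conj_U (D.H_le D.a_mem) hw)
  have hsq : (s * t) ^ 2 = 1 := by rw [hc.mul_pow, sq, sq, hs2, ht2, one_mul]
  obtain ⟨k, hk⟩ := D.U_pow hU
  have hd := Nat.dvd_gcd (orderOf_dvd_of_pow_eq_one hk) (orderOf_dvd_of_pow_eq_one hsq)
  rw [show Nat.gcd (3 ^ k) 2 = 1 from Nat.Coprime.pow_left k (by decide)] at hd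
  have := orderOf_eq_one_iff.1 (Nat.dvd_one.1 hd)
  rw [mul_eq_one_iff_eq_inv, inv_eq_of_mul_eq_one_right ht2] at this
  exact this

/-- An element `x` with `x ^ 2 ≠ 1` normalizes at most two Sylow 3-subgroups. -/
theorem three_pt (x : G) (hx : x ^ 2 ≠ 1) :
    Nat.card {P : Sylow 3 G // x ∈ normalizer (P : Set G)} ≤ 2 := by
  classical
  have : Fact (Nat.Prime 3) := ⟨Nat.prime_three⟩
  by_contra hlt
  rw [not_le, ← Set.coe_setOf, Nat.card_coe_set_eq] at hlt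
  obtain ⟨P₁, P₂, P₃, h1, h2, h3, h12, h13, h23⟩ :=
    (Set.two_lt_ncard_iff (Set.toFinite _)).1 hlt
  obtain ⟨g, rfl⟩ := MulAction.exists_smul_eq G D.U P₁
  -- the action of `U` on the other Sylow subgroups is free and transitive
  have hfree : ∀ u ∈ D.U, ∀ Q : Sylow 3 G, Q ≠ D.U → u • Q = Q → u = 1 := by
    intro u hu Q hQ he
    obtain ⟨k, hk⟩ := D.U_pow hu
    by_contra hne
    exact hQ (D.syl_eq hne (mem_syl_of_pow hk (Sylow.smul_eq_iff_mem_normalizer.1 he)) hu)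
  have htrans : ∀ Q R : Sylow 3 G, Q ≠ D.U → R ≠ D.U → ∃ u ∈ D.U, u • Q = R := by
    intro Q R hQ hR
    have hsub : (fun u => u • Q) '' ((D.U : Subgroup G) : Set G) ⊆ {D.U}ᶜ := by
      rintro _ ⟨u, hu, rfl⟩ e
      have e' : u • Q = D.U := e
      apply hQ
      rw [← inv_smul_smul u Q, e', Sylow.smul_eq_iff_mem_normalizer]
      exact inv_mem (D.U_le_N hu)
    have hinj : Set.InjOn (fun u => u • Q) ((D.U : Subgroup G) : Set G) := by
      intro u hu v hv e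
      have e' : u • Q = v • Q := e
      exact (inv_mul_eq_one.1 (hfree (v⁻¹ * u)
        ((D.U : Subgroup G).mul_mem ((D.U : Subgroup G).inv_mem hv) hu) Q hQ
        (by rw [mul_smul, e', inv_smul_smul]))).symm
    have hc := Set.eq_of_subset_of_ncard_le hsub (by
      rw [Set.InjOn.ncard_image hinj, Set.ncard_compl, Set.ncard_singleton, D.card_sylow_three,
        ← Nat.card_coe_set_eq, show Nat.card ((D.U : Subgroup G) : Set G) = D.q ^ 3 from D.card_U]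
      omega) (Set.toFinite _)
    have hmem : R ∈ (fun u => u • Q) '' ((D.U : Subgroup G) : Set G) := by rw [hc]; exact hR
    obtain ⟨u, hu, e⟩ := hmem
    exact ⟨u, hu, e⟩
  obtain ⟨y, hy⟩ : ∃ y, y = g⁻¹ * x * g := ⟨_, rfl⟩
  have hfix : ∀ Q : Sylow 3 G, x ∈ normalizer (Q : Set G) → y • (g⁻¹ • Q) = g⁻¹ • Q := fun Q hQ => by
    rw [smul_smul, hy, mul_inv_cancel_right, mul_smul, Sylow.smul_eq_iff_mem_normalizer.2 hQ]
  have hyN : y ∈ normalizer (D.U : Set G) :=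
    Sylow.smul_eq_iff_mem_normalizer.1 (by simpa using hfix _ h1)
  obtain ⟨Q₂, hQ2⟩ : ∃ Q, Q = g⁻¹ • P₂ := ⟨_, rfl⟩
  obtain ⟨Q₃, hQ3⟩ : ∃ Q, Q = g⁻¹ • P₃ := ⟨_, rfl⟩
  have hy2 : y • Q₂ = Q₂ := hQ2 ▸ hfix _ h2
  have hy3 : y • Q₃ = Q₃ := hQ3 ▸ hfix _ h3
  have hne2 : Q₂ ≠ D.U := fun e => h12 (by rw [← e, hQ2, smul_inv_smul])
  have hne3 : Q₃ ≠ D.U := fun e => h13 (by rw [← e, hQ3, smul_inv_smul])
  obtain ⟨u, hu, h, hh, e⟩ := D.exists_mul hyN
  have hh2 : h ^ 2 ≠ 1 := by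
    intro hh2
    apply hx
    have hsq : y ^ 2 ∈ D.U := by
      rw [sq, e, show u * h * (u * h) = u * (h * u * h⁻¹) * h ^ 2 by rw [sq]; group, hh2, mul_one]
      exact (D.U : Subgroup G).mul_mem hu (D.conj_U (D.H_le hh) hu)
    have hy21 : y ^ 2 = 1 := hfree _ hsq Q₂ hne2 (by rw [sq, mul_smul, hy2, hy2])
    calc x ^ 2 = g * y ^ 2 * g⁻¹ := by rw [sq, sq, hy]; group
      _ = 1 := by rw [hy21]; group
  obtain ⟨v, hv, ev⟩ := D.conj_of_sq_ne hu hh hh2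
  obtain ⟨w, hw, hw23⟩ := htrans (v⁻¹ • Q₂) (v⁻¹ • Q₃)
    (fun e1 => hne2 (by
      rw [← smul_inv_smul v Q₂, e1, Sylow.smul_eq_iff_mem_normalizer]
      exact D.U_le_N hv))
    (fun e1 => hne3 (by
      rw [← smul_inv_smul v Q₃, e1, Sylow.smul_eq_iff_mem_normalizer]
      exact D.U_le_N hv))
  have hhfix : ∀ Q : Sylow 3 G, y • Q = Q → h • (v⁻¹ • Q) = v⁻¹ • Q := fun Q hQ => by
    rw [smul_smul, show h * v⁻¹ = v⁻¹ * (v * h * v⁻¹) by group, ev, ← e, mul_smul, hQ]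
  have hc : h * w * h⁻¹ * w⁻¹ = 1 := by
    refine hfree _ ((D.U : Subgroup G).mul_mem (D.conj_U (D.H_le hh) hw)
      ((D.U : Subgroup G).inv_mem hw)) (v⁻¹ • Q₃) (fun e1 => hne3 (by
        rw [← smul_inv_smul v Q₃, e1, Sylow.smul_eq_iff_mem_normalizer]
        exact D.U_le_N hv)) ?_
    rw [← hw23, smul_smul, inv_mul_cancel_right, mul_smul, mul_smul]
    rw [show h⁻¹ • v⁻¹ • Q₂ = v⁻¹ • Q₂ by rw [inv_smul_eq_iff, hhfix _ hy2], hw23, hhfix _ hy3]
  have hcw : Commute h w := by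
    rw [mul_inv_eq_one, mul_inv_eq_iff_eq_mul] at hc
    exact hc
  rw [D.fpf_sq hh hh2 hw hcw, one_smul] at hw23
  apply h23
  rw [← smul_inv_smul g P₂, ← hQ2, smul_left_cancel _ hw23, hQ3, smul_inv_smul]

end ReeData

end Cfsg.Agent.ReeLocal8
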