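import Cfsg.Agent.Lib.ReeBorel86
import Cfsg.Agent.Lib.ChevAutGalois
import Cfsg.Prelude.Def_KGroupFacts

/-!
Every automorphism of `²G₂(q)`, `q ≥ 27`, is an inner one times a field automorphism.
-/

set_option autoImplicit false
set_option linter.unusedSectionVars false
set_option maxRecDepth 20000

namespace Cfsg.Agent.ReeOut86

open Cfsg.Lie Cfsg.Agent.ChevalleyCert Cfsg.Agent.ChevalleyCore Cfsg.Agent.TwistedCore
open Cfsg.Agent.ReeSL2 Cfsg.Agent.ReeTwist17 Cfsg.Agent.ChevalleyTorus Cfsg.Agent.ChevBruhat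
open Cfsg.Agent.ReeInstance17 Cfsg.Agent.ReeInstance17.Ctx Cfsg.Agent.ReeBorel86
open Cfsg.Agent.TwistAutRigid
open scoped commutatorElement MatrixGroups

variable {K : Type*} [Field K] [Fintype K] [CharP K 3] {X : Ctx K}

theorem cn_long : ∃ h : (cn : GL chevG2.Idx K) ∈ chevG2.monomialSubgroup K,
    ChevAutRigid.IsLong X.tw.S (X.tw.S.toW ⟨_, h⟩) := by
  obtain ⟨h, hw⟩ := X.cn_toW
  refine ⟨h, fun r hr => ?_⟩
  rw [hw]
  exact (X.tw.X.mem_invSet.mp (X.mem_invSet_cl.mpr hr)).2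

theorem n_conj_U {y : ↥X.G1} :
    nn X * y * (nn X)⁻¹ ∈ U1 X.G1 ↔ y ∈ V1 X.G1 := by
  obtain ⟨h, hl⟩ := cn_long (X := X)
  exact conj_mem_U1 (T := X.tw) X.cn_G1 hl

theorem n_conj_V {y : ↥X.G1} :
    nn X * y * (nn X)⁻¹ ∈ V1 X.G1 ↔ y ∈ U1 X.G1 := by
  obtain ⟨h, hl⟩ := cn_long (X := X)
  exact conj_mem_V1 (T := X.tw) X.cn_G1 hl

theorem H_conj_U {y : ↥X.G1} (hy : (y : GL chevG2.Idx K) ∈ chevG2.diagonalSubgroup K) {z : ↥X.G1}
    (hz : z ∈ U1 X.G1) : y * z * y⁻¹ ∈ U1 X.G1 :=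
  X.tw.S.H_conj_U hy hz

theorem H_conj_V {y : ↥X.G1} (hy : (y : GL chevG2.Idx K) ∈ chevG2.diagonalSubgroup K) {z : ↥X.G1}
    (hz : z ∈ V1 X.G1) : y * z * y⁻¹ ∈ V1 X.G1 := by
  rw [← n_conj_U] at hz ⊢
  obtain ⟨hN, -⟩ := cn_long (X := X)
  have h : ((nn X * y * (nn X)⁻¹ : ↥X.G1) : GL chevG2.Idx K) ∈ chevG2.diagonalSubgroup K :=
    X.tw.S.conj_H (X.tw.S.acts_toW ⟨_, hN⟩) hy
  have := H_conj_U h hz
  rwa [show nn X * y * (nn X)⁻¹ * (nn X * z * (nn X)⁻¹) * (nn X * y * (nn X)⁻¹)⁻¹ =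
    nn X * (y * z * y⁻¹) * (nn X)⁻¹ by group] at this

/-- the normalisers of `U¹` and of `V¹` meet in the torus -/
theorem mem_H_of (hF : Full X) {y : ↥X.G1} (hU : ∀ z, y * z * y⁻¹ ∈ U1 X.G1 ↔ z ∈ U1 X.G1)
    (hV : ∀ z, y * z * y⁻¹ ∈ V1 X.G1 ↔ z ∈ V1 X.G1) :
    (y : GL chevG2.Idx K) ∈ chevG2.diagonalSubgroup K := by
  have hB : y ∈ B1 X.G1 := by
    rw [← normalizer_U1 X.classes, Subgroup.mem_normalizer_iff]
    exact fun z => (hU z).symm
  obtain ⟨l, t, u, v, rfl⟩ := exists_B hF hB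
  suffices h : gu X t u v = 1 by rw [h, mul_one]; exact T_mem_H hF l
  set w := gu X t u v with hw
  have hwV : ∀ z, w * z * w⁻¹ ∈ V1 X.G1 ↔ z ∈ V1 X.G1 := fun z => by
    rw [← hV z]
    constructor
    · intro h
      have := H_conj_V (y := T hF l) (T_mem_H hF l) h
      rwa [show T hF l * (w * z * w⁻¹) * (T hF l)⁻¹ = T hF l * w * z * (T hF l * w)⁻¹ by group] at this
    · intro h
      have := H_conj_V (y := (T hF l)⁻¹) (by rw [InvMemClass.coe_inv]; exact inv_mem (T_mem_H hF l)) h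
      rwa [show (T hF l)⁻¹ * (T hF l * w * z * (T hF l * w)⁻¹) * (T hF l)⁻¹⁻¹ = w * z * w⁻¹ by group] at this
  have hv : nn X * w * (nn X)⁻¹ ∈ V1 X.G1 := n_conj_V.mpr (gu_mem_U X t u v)
  have hb : nn X * w * (nn X)⁻¹ ∈ B1 X.G1 := by
    rw [← normalizer_U1 X.classes, Subgroup.mem_normalizer_iff]
    intro z
    have e : nn X * w * (nn X)⁻¹ * z * (nn X * w * (nn X)⁻¹)⁻¹ =
        nn X * (w * ((nn X)⁻¹ * z * nn X) * w⁻¹) * (nn X)⁻¹ := by group
    rw [e, n_conj_U, hwV, ← n_conj_U, show nn X * ((nn X)⁻¹ * z * nn X) * (nn X)⁻¹ = z by group]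
  have h1 : nn X * w * (nn X)⁻¹ = 1 :=
    Subtype.ext (Subgroup.mem_bot.mp (X.tw.S.B_inf_V.le ⟨hb, hv⟩))
  exact conj_eq_one_iff.mp h1

theorem Fix.map_H (hF : Full X) {φ : ↥X.G1 ≃* ↥X.G1} (hφ : Fix X.G1 φ) (l : Kˣ) :
    ∃ k, φ (T hF l) = T hF k := by
  refine exists_T hF (mem_H_of hF (fun z => ?_) fun z => ?_)
  · obtain ⟨z, rfl⟩ := φ.surjective z
    rw [← map_mul, ← map_inv, ← map_mul, hφ.U, hφ.U]
    refine ⟨fun h => ?_, H_conj_U (T_mem_H hF l)⟩
    have := H_conj_U (y := (T hF l)⁻¹) (by rw [InvMemClass.coe_inv]; exact inv_mem (T_mem_H hF l)) h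
    rwa [show (T hF l)⁻¹ * (T hF l * z * (T hF l)⁻¹) * (T hF l)⁻¹⁻¹ = z by group] at this
  · obtain ⟨z, rfl⟩ := φ.surjective z
    rw [← map_mul, ← map_inv, ← map_mul, hφ.V, hφ.V]
    refine ⟨fun h => ?_, H_conj_V (T_mem_H hF l)⟩
    have := H_conj_V (y := (T hF l)⁻¹) (by rw [InvMemClass.coe_inv]; exact inv_mem (T_mem_H hF l)) h
    rwa [show (T hF l)⁻¹ * (T hF l * z * (T hF l)⁻¹) * (T hF l)⁻¹⁻¹ = z by group] at this

theorem Fix.map_n (hF : Full X) {φ : ↥X.G1 ≃* ↥X.G1} (hφ : Fix X.G1 φ) :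
    ∃ k, φ (nn X) = nn X * T hF k := by
  set y := (nn X)⁻¹ * φ (nn X) with hy
  have hn : ∀ z, φ (nn X) * φ z * (φ (nn X))⁻¹ = φ (nn X * z * (nn X)⁻¹) := fun z => by simp
  obtain ⟨k, hk⟩ := exists_T hF (y := y) <| mem_H_of hF
    (fun z => by
      obtain ⟨z, rfl⟩ := φ.surjective z
      rw [← n_conj_V, show nn X * (y * φ z * y⁻¹) * (nn X)⁻¹ = φ (nn X) * φ z * (φ (nn X))⁻¹ by
        rw [hy]; group, hn, hφ.V, n_conj_V, hφ.U])
    (fun z => by
      obtain ⟨z, rfl⟩ := φ.surjective z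
      rw [← n_conj_U, show nn X * (y * φ z * y⁻¹) * (nn X)⁻¹ = φ (nn X) * φ z * (φ (nn X))⁻¹ by
        rw [hy]; group, hn, hφ.U, n_conj_U, hφ.V])
  exact ⟨k, by rw [← hk, hy]; group⟩

theorem three_mod_four {m : ℕ} (hK : Fintype.card K = 3 ^ (2 * m + 1)) :
    Fintype.card K % 4 = 3 := by
  rw [hK, pow_succ, pow_mul, Nat.mul_mod, Nat.pow_mod]
  simp

theorem neg_one_ne : (-1 : K) ≠ 1 := by
  intro h
  have h2 : ((2 : ℕ) : K) = 0 := by push_cast; linear_combination -h
  exact absurd ((CharP.cast_eq_zero_iff K 3 2).1 h2) (by norm_num)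

theorem two_ne : (2 : K) ≠ 0 := fun h => neg_one_ne (K := K) (by linear_combination -h)

theorem eq_of_double {x : K} (h : x = -x) : x = 0 := by
  have h2 : 2 * x = 0 := by linear_combination h
  exact (mul_eq_zero.1 h2).resolve_left two_ne

theorem cpar_neg_one : (cpar X (-1) : K) = -1 ∧ wu X (-1) = 1 := by
  constructor
  · rw [cpar_val]; simp
  · simp [wu]

/-- the automorphism on the first layer is semilinear -/
theorem semilinear (hF : Full X) {φ : ↥X.G1 ≃* ↥X.G1} (hφ : Fix X.G1 φ) :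
    ∃ (a : Kˣ) (τ : K ≃+* K), ∀ t u v, ∃ u' v', φ (gu X t u v) = gu X ((a : K) * τ t) u' v' := by
  choose f1 f2 f3 hf using fun t u v => (mem_U1_iff X).1 ((hφ.U _).mpr (gu_mem_U X t u v))
  have key : ∀ t u v t' u' v' : K, ∀ U V, gu X t u v * gu X t' u' v' = gu X (t + t') U V →
      f1 (t + t') U V = f1 t u v + f1 t' u' v' := by
    intro t u v t' u' v' U V e
    have h := congrArg φ e
    rw [map_mul, hf, hf, hf, gu_mul] at h
    exact (gu_inj X h).1.symm
  choose g hg using Fix.map_H hF hφ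
  have hconj : ∀ (l : Kˣ) (t u v : K), f1 ((l : K) * t) (wu X l * u) ((cpar X l : K) * v) = (g l : K) * f1 t u v := by
    intro l t u v
    have h := congrArg φ (T_conj hF l t u v)
    rw [map_mul, map_mul, map_inv, hg, hf, hf, T_conj] at h
    exact (gu_inj X h).1.symm
  have h0 : f1 0 0 0 = 0 := by
    have h := hf 0 0 0
    rw [gu_zero X, map_one, ← gu_zero X] at h
    exact (gu_inj X h).1.symm
  have gneg : (g (-1) : K) = -1 := by
    have hsq : (g (-1) : K) ^ 2 = 1 := by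
      have e : T hF (g (-1)) * T hF (g (-1)) = T hF 1 := by
        rw [← hg, ← map_mul, ← map_mul, show (-1 : Kˣ) * -1 = 1 by simp, map_one, map_one]
      rw [← map_mul] at e
      have h := congrArg Units.val (T_inj hF e)
      rw [Units.val_mul, Units.val_one] at h
      rw [_root_.sq]; exact h
    rcases sq_eq_one_iff.1 hsq with h | h
    · exfalso
      have h' : g (-1) = 1 := Units.ext h
      have := congrArg φ.symm (hg (-1))
      rw [h', map_one, map_one, MulEquiv.symm_apply_apply] at this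
      exact neg_one_ne (K := K) (by simpa using congrArg Units.val (T_inj hF (this.trans (map_one _).symm)))
    · exact h
  have hu0 : ∀ u, f1 0 u 0 = 0 := fun u => by
    have h := hconj (-1) 0 u 0
    rw [cpar_neg_one.2, gneg, mul_zero, mul_zero, one_mul] at h
    exact eq_of_double (by linear_combination h)
  have hv0 : ∀ v, f1 0 0 v = 0 := fun v => by
    have e := comm_zu X (-1) v
    rw [show -(-1 * v) = v by ring] at e
    have h := congrArg φ e
    rw [map_commutatorElement, hf, hf, hf] at h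
    have h' : gu X (f1 0 v 0) (f2 0 v 0) (f3 0 v 0) * gu X (f1 (-1) 0 0) (f2 (-1) 0 0) (f3 (-1) 0 0) =
        gu X (f1 0 0 v) (f2 0 0 v) (f3 0 0 v) *
          (gu X (f1 (-1) 0 0) (f2 (-1) 0 0) (f3 (-1) 0 0) * gu X (f1 0 v 0) (f2 0 v 0) (f3 0 v 0)) := by
      rw [← h]; simp only [commutatorElement_def]; group
    rw [gu_mul, gu_mul, gu_mul] at h'
    have := (gu_inj X h').1
    linear_combination -this
  have hall : ∀ t u v, f1 t u v = f1 t 0 0 := by
    intro t u v
    have h1 := key t 0 0 0 u 0 u 0 (by rw [gu_mul_zero, add_zero]; simp)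
    have h2 := key (t + 0) u 0 0 0 v u v (by rw [gu_mul_zero]; simp)
    simp only [add_zero] at h1 h2
    rw [h2, h1, hu0, hv0, add_zero, add_zero]
  set f := fun t => f1 t 0 0 with hfd
  have hadd : ∀ s t, f (s + t) = f s + f t := fun s t => by
    have h := key s 0 0 t 0 0 _ _ (gu_mul X s 0 0 t 0 0)
    rwa [hall] at h
  have hmul : ∀ (l : Kˣ) t, f ((l : K) * t) = (g l : K) * f t := fun l t => by
    have h := hconj l t 0 0
    rw [mul_zero, mul_zero] at h
    exact h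
  have hsurj : Function.Surjective f := fun s => by
    obtain ⟨z, hz⟩ := φ.surjective (gu X s 0 0)
    have hzU : z ∈ U1 X.G1 := (hφ.U z).mp (hz ▸ gu_mem_U X s 0 0)
    obtain ⟨t, u, v, rfl⟩ := (mem_U1_iff X).1 hzU
    rw [hf, hall] at hz
    exact ⟨t, (gu_inj X hz).1⟩
  have hinj : Function.Injective f := Finite.injective_iff_surjective.mpr hsurj
  have hf0 : f 0 = 0 := h0
  have hf1 : f 1 ≠ 0 := fun h => one_ne_zero (hinj (h.trans hf0.symm))
  have hg1 : ∀ l : Kˣ, (g l : K) = f l / f 1 := fun l => by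
    rw [eq_div_iff hf1, ← hmul, mul_one]
  refine ⟨Units.mk0 (f 1) hf1,
    { toEquiv := Equiv.ofBijective (fun t => (f 1)⁻¹ * f t)
        ((mul_right_injective₀ (inv_ne_zero hf1)).comp hinj |> fun h => ⟨h, Finite.injective_iff_surjective.mp h⟩)
      map_mul' := fun s t => ?_
      map_add' := fun s t => ?_ }, fun t u v => ⟨f2 t u v, f3 t u v, ?_⟩⟩
  · show (f 1)⁻¹ * f (s * t) = (f 1)⁻¹ * f s * ((f 1)⁻¹ * f t)
    rcases eq_or_ne s 0 with rfl | hs
    · simp [hf0]
    · have := hmul (Units.mk0 s hs) t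
      rw [hg1, Units.val_mk0] at this
      rw [this]; field_simp
  · show (f 1)⁻¹ * f (s + t) = (f 1)⁻¹ * f s + (f 1)⁻¹ * f t
    rw [hadd, mul_add]
  · rw [hf, hall]
    show gu X (f t) _ _ = gu X (f 1 * ((f 1)⁻¹ * f t)) _ _
    rw [mul_inv_cancel_left₀ hf1]

theorem gu0_psi (u : K) : ((gu X 0 u 0 : ↥X.G1) : GL chevG2.Idx K) = psi X.θ (ChevalleySL2.upper u) := by
  rw [coe_gu, gen, psi_upper, Uf, tail]
  simp [ReeTwist17.X_zero, ReeTwist17.X]

theorem psi_B_lower {g : SL(2, K)} (hg : psi X.θ g ∈ chevG2.borelSubgroup K) :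
    (g : Matrix (Fin 2) (Fin 2) K) 1 0 = 0 := by
  by_contra hc
  set c := (g : Matrix (Fin 2) (Fin 2) K) 1 0 with hcd
  set a := (g : Matrix (Fin 2) (Fin 2) K) 0 0 with had
  set d := (g : Matrix (Fin 2) (Fin 2) K) 1 1 with hdd
  have hdet := g.det_coe
  rw [Matrix.det_fin_two, ← hcd, ← had, ← hdd] at hdet
  have e : g = ChevalleySL2.upper ((a - 1) / c) * ChevalleySL2.lower c * ChevalleySL2.upper ((d - 1) / c) := by
    apply Subtype.ext
    rw [Matrix.SpecialLinearGroup.coe_mul, Matrix.SpecialLinearGroup.coe_mul, upper_coe, lower_coe, upper_coe]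
    ext i j
    fin_cases i <;> fin_cases j <;>
      simp [Matrix.mul_apply, Fin.sum_univ_two, ← hcd, ← had, ← hdd] <;> field_simp <;>
      first | linear_combination -hdet | linear_combination hdet | linear_combination (0 : K) * hdet
  rw [e, map_mul, map_mul, Subgroup.mul_mem_cancel_right _ (Sys.U_le_B (psi_upper_mem_U X.θ _)),
    Subgroup.mul_mem_cancel_left _ (Sys.U_le_B (psi_upper_mem_U X.θ _))] at hg
  have h1 : psi X.θ (ChevalleySL2.lower c) = 1 :=
    Subgroup.mem_bot.mp (X.tw.S.B_inf_V.le ⟨hg, psi_lower_mem_V X.θ c⟩)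
  have := lower_zero_of_ker X.θ h1
  rw [lower_coe] at this
  exact hc (by simpa using this)

/-- an automorphism that is trivial on the first layer is trivial -/
theorem eq_one_of_layer (hF : Full X) (h3 : 3 < Fintype.card K) {φ : ↥X.G1 ≃* ↥X.G1}
    (hφ : Fix X.G1 φ) (ht : ∀ t u v, ∃ u' v', φ (gu X t u v) = gu X t u' v') : φ = 1 := by
  choose f2 f3 hf using ht
  have hT : ∀ l, φ (T hF l) = T hF l := fun l => by
    obtain ⟨k, hk⟩ := Fix.map_H hF hφ l
    have h := congrArg φ (T_conj hF l 1 0 0)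
    rw [map_mul, map_mul, map_inv, hk, hf, hf, T_conj] at h
    rw [hk, show k = l from Units.ext (by simpa using (gu_inj X h).1)]
  have hconj : ∀ (l : Kˣ) (t u v : K), f2 ((l : K) * t) (wu X l * u) ((cpar X l : K) * v) = wu X l * f2 t u v ∧
      f3 ((l : K) * t) (wu X l * u) ((cpar X l : K) * v) = (cpar X l : K) * f3 t u v := by
    intro l t u v
    have h := congrArg φ (T_conj hF l t u v)
    rw [map_mul, map_mul, map_inv, hT, hf, hf, T_conj] at h
    exact ⟨(gu_inj X h).2.1.symm, (gu_inj X h).2.2.symm⟩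
  have hb0 : ∀ u, f3 0 u 0 = 0 := fun u => by
    have h := (hconj (-1) 0 u 0).2
    rw [cpar_neg_one.2, cpar_neg_one.1, mul_zero, mul_zero, one_mul] at h
    exact eq_of_double (by linear_combination h)
  set a := fun u => f2 0 u 0 with had
  have haadd : ∀ u w, a (u + w) = a u + a w := fun u w => by
    have h := congrArg φ (show gu X 0 u 0 * gu X 0 w 0 = gu X 0 (u + w) 0 by simp [gu_mul_zero])
    rw [map_mul, hf, hf, hf, gu_mul_zero] at h
    exact (gu_inj X h).2.1.symm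
  have ha_sq : ∀ y : K, a (y ^ 2) = a 1 * y ^ 2 := fun y => by
    have ha0 : a 0 = 0 := by
      have h := haadd 0 0
      rw [add_zero] at h
      linear_combination -h
    rcases eq_or_ne y 0 with rfl | hy
    · simp [ha0]
    · set l : Kˣ := Units.mk0 (sgm X y / y) (div_ne_zero (by simpa using hy) hy) with hl
      have hw : wu X l = y ^ 2 := by
        have hs : sgm X y ≠ 0 := by simpa using hy
        rw [wu, hl, Units.val_mk0, map_div₀, sgm_sgm]
        field_simp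
      have h := (hconj l 0 1 0).1
      rw [mul_zero, mul_zero, mul_one, hw] at h
      rw [mul_comm (a 1)]
      exact h
  have ha : ∀ u, a u = a 1 * u := fun u => by
    have h2 : ∀ x y, a (x - y) = a x - a y := fun x y => by
      have := haadd (x - y) y
      rw [sub_add_cancel] at this
      linear_combination -this
    have h4 : (4 : K) = 1 := by
      have : ((3 : ℕ) : K) = 0 := CharP.cast_eq_zero K 3
      push_cast at this
      linear_combination this
    rw [show u = (u + 1) ^ 2 - (u - 1) ^ 2 by linear_combination (-u) * h4, h2, ha_sq, ha_sq]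
    ring
  -- the first layer
  set β := f2 1 0 0 with hβ
  set γ := f3 1 0 0 with hγ
  have hF2 : ∀ t, f2 t 0 0 = β * (t * sgm X t) ∧ f3 t 0 0 = γ * (t ^ 2 * sgm X t) := fun t => by
    rcases eq_or_ne t 0 with rfl | htn
    · have h := hf 0 0 0
      rw [gu_zero X, map_one, ← gu_zero X] at h
      obtain ⟨-, h2, h3⟩ := gu_inj X h
      exact ⟨by simpa using h2.symm, by simpa using h3.symm⟩
    · have h := hconj (Units.mk0 t htn) 1 0 0
      rw [mul_one, mul_zero, mul_zero, Units.val_mk0, cpar_val, Units.val_mk0] at h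
      exact ⟨h.1.trans (by rw [wu, Units.val_mk0]; ring), h.2.trans (by ring)⟩
  obtain ⟨s, hs⟩ := exists_sgm_ne X h3
  have hrel : ∀ t t', β * ((t + t') * sgm X (t + t')) + a (-(sgm X t' * t)) =
      β * (t * sgm X t) + β * (t' * sgm X t') - sgm X t' * t := by
    intro t t'
    set V := -(sgm X t' * t ^ 2) + sgm X t' * t * t' with hV
    have e : gu X t 0 0 * gu X t' 0 0 = gu X (t + t') 0 0 * gu X 0 (-(sgm X t' * t)) 0 * gu X 0 0 V := by
      rw [← gu_split, gu_mul]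
      congr 1 <;> ring
    have h := congrArg φ e
    rw [map_mul, map_mul, map_mul, hf, hf, hf, hf, hf, gu_mul, gu_mul, gu_mul] at h
    have h2 := (gu_inj X h).2.1
    have hz : f2 0 0 V = 0 := by
      have e2 := comm_zu X (-1) V
      rw [show -(-1 * V) = V by ring] at e2
      have h' := congrArg φ e2
      rw [map_commutatorElement, hf, hf, hf] at h'
      have h'' : gu X 0 (f2 0 V 0) (f3 0 V 0) * gu X (-1) (f2 (-1) 0 0) (f3 (-1) 0 0) =
          gu X 0 (f2 0 0 V) (f3 0 0 V) *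
            (gu X (-1) (f2 (-1) 0 0) (f3 (-1) 0 0) * gu X 0 (f2 0 V 0) (f3 0 V 0)) := by
        rw [← h']; simp only [commutatorElement_def]; group
      rw [gu_mul, gu_mul, gu_mul] at h''
      have := (gu_inj X h'').2.1
      simp only [map_zero, mul_zero, zero_mul, sub_zero] at this
      linear_combination -this
    simp only [(hF2 _).1, map_zero, zero_mul, sub_zero, hz] at h2
    have ha' : a (-(sgm X t' * t)) = f2 0 (-(sgm X t' * t)) 0 := rfl
    rw [ha']
    linear_combination -h2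
  have h1 := hrel 1 1
  have h2 := hrel 1 s
  rw [ha] at h1 h2
  simp only [map_add, map_one, one_mul, mul_one] at h1 h2
  have hβ0 : β = 0 := by
    have h3' : β * (sgm X s + s - 2 * sgm X s) = 0 := by linear_combination h2 - sgm X s * h1
    rcases mul_eq_zero.1 h3' with h | h
    · exact h
    · exact absurd (by linear_combination -h) hs
  have ha1 : a 1 = 1 := by rw [hβ0] at h1; linear_combination -h1
  have hu : ∀ u, φ (gu X 0 u 0) = gu X 0 u 0 := fun u => by
    rw [hf, hb0, show f2 0 u 0 = u from (ha u).trans (by rw [ha1, one_mul])]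
  have hv : ∀ v, φ (gu X 0 0 v) = gu X 0 (f2 0 0 v) (f3 0 0 v) := fun v => hf 0 0 v
  have htf : ∀ t, φ (gu X t 0 0) = gu X t 0 (γ * (t ^ 2 * sgm X t)) := fun t => by
    rw [hf, (hF2 t).1, (hF2 t).2, hβ0, zero_mul]
  have hzz : ∀ v, φ (gu X 0 0 v) = gu X 0 0 v := fun v => by
    have e2 := comm_zu X (-1) v
    rw [show -(-1 * v) = v by ring] at e2
    rw [← e2, map_commutatorElement, hu, htf, commutatorElement_def, commutatorElement_def]
    have e3 : gu X (-1) 0 (γ * ((-1) ^ 2 * sgm X (-1))) =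
        gu X (-1) 0 0 * gu X 0 0 (γ * ((-1) ^ 2 * sgm X (-1))) := by simp [gu_mul_zero]
    have e4 : Commute (gu X 0 0 (γ * ((-1) ^ 2 * sgm X (-1)))) (gu X 0 v 0) := by
      show _ * _ = _ * _
      rw [gu_zero_mul, gu_zero_mul]
      simp [add_comm]
    rw [e3]
    simp only [mul_inv_rev, mul_assoc]
    rw [← mul_assoc (gu X 0 0 _) (gu X 0 v 0)⁻¹, e4.inv_right.eq]
    group
  have hγ0 : γ = 0 := by
    have e : gu X 1 0 0 * gu X s 0 0 =
        gu X (1 + s) 0 0 * gu X 0 (-(sgm X s * 1)) 0 * gu X 0 0 (-(sgm X s * 1 ^ 2) + sgm X s * 1 * s) := by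
      rw [← gu_split, gu_mul]
      congr 1 <;> ring
    have h := congrArg φ e
    rw [map_mul, map_mul, map_mul, htf, htf, htf, hu, hzz, gu_mul_zero, gu_mul_zero] at h
    rw [gu_mul] at h
    have h' := (gu_inj X h).2.2
    simp only [map_add, map_one, one_pow, mul_one, one_mul, mul_zero, sub_zero, zero_add] at h'
    have h3' : γ * ((1 - s) * (sgm X s - s)) = 0 := by
      have : ((3 : ℕ) : K) = 0 := CharP.cast_eq_zero K 3
      push_cast at this
      linear_combination -h' - γ * s * sgm X s * this - γ * s * this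
    rcases mul_eq_zero.1 h3' with h | h
    · exact h
    · rcases mul_eq_zero.1 h with h | h
      · exact absurd (by rw [show s = 1 by linear_combination -h, map_one]) hs
      · exact absurd (by linear_combination h) hs
  have htt : ∀ t, φ (gu X t 0 0) = gu X t 0 0 := fun t => by rw [htf, hγ0, zero_mul]
  -- the representative
  obtain ⟨k, hk⟩ := Fix.map_n hF hφ
  have hpsi : ∀ w, (nn X * gu X 0 w 0 * (nn X)⁻¹ : ↥X.G1).1 = psi X.θ (ChevalleySL2.lower (-w)) := by
    intro w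
    show (cn : GL chevG2.Idx K) * ((gu X 0 w 0 : ↥X.G1) : GL chevG2.Idx K) * (cn : GL chevG2.Idx K)⁻¹ = _
    rw [gu0_psi, X.cn_eq, ← map_inv, ← map_mul, ← map_mul]
    congr 1
    rw [mul_inv_eq_iff_eq_mul]
    apply Subtype.ext
    rw [Matrix.SpecialLinearGroup.coe_mul, Matrix.SpecialLinearGroup.coe_mul, upper_coe, lower_coe]
    ext i j
    fin_cases i <;> fin_cases j <;> simp [ChevalleySL2.wel, Matrix.mul_apply, Fin.sum_univ_two]
  have hsplit : nn X = gu X 0 1 0 * (nn X * gu X 0 1 0 * (nn X)⁻¹) * gu X 0 1 0 := by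
    apply Subtype.ext
    rw [Subgroup.coe_mul, Subgroup.coe_mul, hpsi, gu0_psi]
    show (cn : GL chevG2.Idx K) = _
    rw [X.cn_eq, ← map_mul, ← map_mul]
    congr 1
    apply Subtype.ext
    simp only [Matrix.SpecialLinearGroup.coe_mul, upper_coe, lower_coe, Matrix.mul_fin_two]
    ext i j
    fin_cases i <;> fin_cases j <;> simp [ChevalleySL2.wel]
  set w := wu X k with hw
  have h := congrArg φ hsplit
  simp only [map_mul, map_inv, hu, hk] at h
  rw [show nn X * T hF k * gu X 0 1 0 * (nn X * T hF k)⁻¹ =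
    nn X * (T hF k * gu X 0 1 0 * (T hF k)⁻¹) * (nn X)⁻¹ by group, T_conj, mul_zero, mul_zero,
    mul_one, ← hw] at h
  have hM : psi X.θ (ChevalleySL2.wel⁻¹ * (ChevalleySL2.upper 1 * ChevalleySL2.lower (-w) *
      ChevalleySL2.upper 1)) = (T hF k : GL chevG2.Idx K) := by
    have h' := congrArg Subtype.val h
    rw [Subgroup.coe_mul (H := X.G1) (gu X 0 1 0 * _), Subgroup.coe_mul (H := X.G1) (gu X 0 1 0), hpsi,
      gu0_psi, ← map_mul, ← map_mul] at h'
    rw [map_mul, map_inv, ← h', ← X.cn_eq]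
    show (cn : GL chevG2.Idx K)⁻¹ * ((cn : GL chevG2.Idx K) * _) = _
    rw [inv_mul_cancel_left]
  have hw1 : w = 1 := by
    have h0 := psi_B_lower (X := X) (hM ▸ Sys.H_le_B (T_mem_H hF k))
    rw [Matrix.SpecialLinearGroup.coe_mul, Matrix.SpecialLinearGroup.coe_inv,
      Matrix.SpecialLinearGroup.coe_mul, Matrix.SpecialLinearGroup.coe_mul, upper_coe, lower_coe] at h0
    simp [ChevalleySL2.wel, Matrix.mul_apply, Fin.sum_univ_two, Matrix.adjugate_fin_two] at h0
    linear_combination -h0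
  have hn : φ (nn X) = nn X := by rw [hk, h, hw1, ← hsplit]
  have := hom_ext hF (f := φ.toMonoidHom) (g := MonoidHom.id _) htt hu hT hn
  exact MulEquiv.ext fun y => DFunLike.congr_fun this y

/-! ### field automorphisms -/

theorem map_gen (τ : K ≃+* K) (s : Bool) (t u v : K) :
    Matrix.GeneralLinearGroup.map τ.toRingHom (gen X.θ s t u v) = gen X.θ s (τ t) (τ u) (τ v) := by
  cases s <;>
    simp [gen, Uf, tail, ReeTwist17.X, TwistedTools.xg_map, X.spec, map_pow]

theorem map_mem (τ : K ≃+* K) {g : GL chevG2.Idx K} (hg : g ∈ X.G1) :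
    Matrix.GeneralLinearGroup.map τ.toRingHom g ∈ X.G1 := by
  suffices h : X.G1 ≤ X.G1.comap (Matrix.GeneralLinearGroup.map τ.toRingHom) from h hg
  refine TwistedTools.gen_le c2 ?_
  rintro w ⟨t, u, v, hw⟩
  obtain ⟨s, rfl⟩ : ∃ s : Bool, w = if s then reeWordV X.e t u v else reeWordU X.e t u v := by
    rcases hw with rfl | rfl
    · exact ⟨false, rfl⟩
    · exact ⟨true, rfl⟩
  rw [← X.gen_eq, Subgroup.mem_comap, map_gen]
  exact X.gen_mem _ _ _ _

/-- the field automorphisms -/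
noncomputable def fieldAut (X : Ctx K) : (K ≃+* K) →* MulAut ↥X.G1 where
  toFun τ :=
    { toFun := fun y => ⟨_, map_mem τ y.2⟩
      invFun := fun y => ⟨_, map_mem τ.symm y.2⟩
      left_inv := fun y => Subtype.ext (Units.ext (by ext i j; simp))
      right_inv := fun y => Subtype.ext (Units.ext (by ext i j; simp))
      map_mul' := fun a b => Subtype.ext (map_mul _ _ _) }
  map_one' := MulEquiv.ext fun y => Subtype.ext (Units.ext (by ext i j; simp))
  map_mul' _ _ := MulEquiv.ext fun y => Subtype.ext (Units.ext (by ext i j; simp))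

theorem fieldAut_gu (τ : K ≃+* K) (t u v : K) :
    fieldAut X τ (gu X t u v) = gu X (τ t) (τ u) (τ v) := Subtype.ext (map_gen τ false t u v)

theorem map_closure_xg (τ : K ≃+* K) (P : ℕ → Prop) {g : GL chevG2.Idx K}
    (hg : g ∈ Subgroup.closure {g : GL chevG2.Idx K | ∃ (r : ℕ) (t : K), P r ∧
        (g : Matrix chevG2.Idx chevG2.Idx K) = chevG2.x K r t}) :
    Matrix.GeneralLinearGroup.map τ.toRingHom g ∈ Subgroup.closure {g : GL chevG2.Idx K |
      ∃ (r : ℕ) (t : K), P r ∧ (g : Matrix chevG2.Idx chevG2.Idx K) = chevG2.x K r t} := by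
  induction hg using Subgroup.closure_induction with
  | mem g hg =>
    obtain ⟨r, t, hr, hg⟩ := hg
    obtain rfl : g = xg c2 r t := Units.ext hg
    rw [TwistedTools.xg_map]
    exact Subgroup.subset_closure ⟨r, τ t, hr, rfl⟩
  | one => rw [map_one]; exact one_mem _
  | mul a b _ _ ha hb => rw [map_mul]; exact mul_mem ha hb
  | inv a _ ha => rw [map_inv]; exact inv_mem ha

theorem fix_field (τ : K ≃+* K) : Fix X.G1 (fieldAut X τ) := by
  have h : ∀ τ : K ≃+* K, ∀ y, (y ∈ U1 X.G1 → fieldAut X τ y ∈ U1 X.G1) ∧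
      (y ∈ V1 X.G1 → fieldAut X τ y ∈ V1 X.G1) := fun τ y =>
    ⟨fun h => map_closure_xg τ _ h, fun h => map_closure_xg τ _ h⟩
  have e : ∀ y, fieldAut X τ⁻¹ (fieldAut X τ y) = y := fun y => by
    rw [← MulAut.mul_apply, ← map_mul, inv_mul_cancel, map_one, MulAut.one_apply]
  exact ⟨fun y => ⟨fun hy => e y ▸ (h τ⁻¹ _).1 hy, (h τ y).1⟩,
    fun y => ⟨fun hy => e y ▸ (h τ⁻¹ _).2 hy, (h τ y).2⟩⟩

theorem exists_field_form (hF : Full X) (h3 : 3 < Fintype.card K) (θ : MulAut ↥X.G1) :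
    ∃ x τ, θ = MulAut.conj x * fieldAut X τ := by
  obtain ⟨x, θ₁, hfix, hx⟩ := exists_fix X.classes θ
  obtain ⟨a, τ, hτ⟩ := semilinear hF hfix
  set φ : MulAut ↥X.G1 := (fieldAut X τ)⁻¹ * (MulAut.conj (T hF a))⁻¹ * θ₁ with hφ
  have hφa : ∀ y, φ y = fieldAut X τ⁻¹ ((T hF a)⁻¹ * θ₁ y * T hF a) := fun y => by
    simp [hφ, map_inv]
  have hc : ∀ z : ↥X.G1, ((T hF a)⁻¹ * z * T hF a ∈ U1 X.G1 ↔ z ∈ U1 X.G1) ∧
      ((T hF a)⁻¹ * z * T hF a ∈ V1 X.G1 ↔ z ∈ V1 X.G1) := fun z => by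
    have hi : (((T hF a)⁻¹ : ↥X.G1) : GL chevG2.Idx K) ∈ chevG2.diagonalSubgroup K := by
      rw [InvMemClass.coe_inv]; exact inv_mem (T_mem_H hF a)
    refine ⟨⟨fun h => ?_, fun h => by simpa using H_conj_U hi h⟩,
      ⟨fun h => ?_, fun h => by simpa using H_conj_V hi h⟩⟩
    · simpa [mul_assoc] using H_conj_U (T_mem_H hF a) h
    · simpa [mul_assoc] using H_conj_V (T_mem_H hF a) h
  have hφfix : Fix X.G1 φ :=
    ⟨fun y => by rw [hφa, (fix_field _).U, (hc _).1, hfix.U],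
     fun y => by rw [hφa, (fix_field _).V, (hc _).2, hfix.V]⟩
  have h1 : φ = 1 := eq_one_of_layer hF h3 hφfix fun t u v => by
    obtain ⟨u', v', e⟩ := hτ t u v
    have e2 : (T hF a)⁻¹ * gu X ((a : K) * τ t) u' v' * T hF a =
        gu X (τ t) (wu X a⁻¹ * u') ((cpar X a⁻¹ : K) * v') := by
      have := T_conj hF a⁻¹ ((a : K) * τ t) u' v'
      rw [map_inv, inv_inv] at this
      rw [this, Units.inv_mul_cancel_left]
    exact ⟨_, _, by rw [hφa, e, e2, fieldAut_gu, show τ⁻¹ (τ t) = t from τ.symm_apply_apply t]⟩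
  have h2 : θ₁ = MulAut.conj (T hF a) * fieldAut X τ := by
    rw [hφ, mul_assoc, inv_mul_eq_iff_eq_mul, mul_one, inv_mul_eq_iff_eq_mul] at h1
    exact h1
  refine ⟨x * T hF a, τ, MulEquiv.ext fun y => ?_⟩
  rw [hx y, map_mul, h2]
  rfl

theorem inner_field (hF : Full X) {τ : K ≃+* K} (h : fieldAut X τ ∈ Cfsg.Inn ↥X.G1) : τ = 1 := by
  obtain ⟨x, hx⟩ := h
  have hxa : ∀ y, x * y * x⁻¹ = fieldAut X τ y := fun y => DFunLike.congr_fun hx y
  obtain ⟨l, rfl⟩ := exists_T hF (mem_H_of hF (y := x)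
    (fun z => by rw [hxa]; exact (fix_field τ).U z) (fun z => by rw [hxa]; exact (fix_field τ).V z))
  have ht : ∀ t, τ t = (l : K) * t := fun t => by
    have := hxa (gu X t 0 0)
    rw [T_conj, fieldAut_gu] at this
    exact (gu_inj X this).1.symm
  refine RingEquiv.ext fun t => ?_
  have h1 := ht 1
  rw [map_one, mul_one] at h1
  rw [ht, ← h1, one_mul]
  rfl

theorem card_out (hF : Full X) {m : ℕ} (hm : 1 ≤ m) (hK : Fintype.card K = 3 ^ (2 * m + 1)) :
    Nat.card (Cfsg.Out ↥X.G1) = 2 * m + 1 := by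
  have : Fact (Nat.Prime 3) := ⟨Nat.prime_three⟩
  have h3 : 3 < Fintype.card K := by
    rw [hK]
    calc 3 = 3 ^ 1 := (pow_one 3).symm
      _ < _ := Nat.pow_lt_pow_right (by norm_num) (by omega)
  rw [← ChevAutGalois.card_ringAut 3 (2 * m + 1) hK]
  refine (Nat.card_eq_of_bijective ((QuotientGroup.mk' (Cfsg.Inn ↥X.G1)).comp (fieldAut X)) ⟨?_, ?_⟩).symm
  · rw [injective_iff_map_eq_one]
    intro τ hτ
    exact inner_field hF ((QuotientGroup.eq_one_iff _).mp hτ)
  · intro z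
    obtain ⟨θ, rfl⟩ := QuotientGroup.mk'_surjective _ z
    obtain ⟨x, τ, rfl⟩ := exists_field_form hF h3 θ
    refine ⟨τ, ?_⟩
    rw [map_mul]
    show _ = (QuotientGroup.mk' _) (MulAut.conj x) * _
    rw [show (QuotientGroup.mk' (Cfsg.Inn ↥X.G1)) (MulAut.conj x) = 1 from
      (QuotientGroup.eq_one_iff _).mpr ⟨x, rfl⟩, one_mul]
    rfl

end Cfsg.Agent.ReeOut86
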