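import Cfsg.Agent.Lib.ReeHall8

/-!
Counting the elements of a group of small Ree type: the two tori of orders
`q ± 3^(m+1) + 1` and the spectrum.
-/

set_option autoImplicit false

namespace Cfsg.Agent.ReeLocal8.ReeData

open Subgroup ReeTools8 ReePSL8

variable {G : Type*} [Group G] [Finite G] (D : ReeData G)
include D

theorem sq_sub_one : D.q ^ 2 - 1 = (D.q + 1) * (D.q - 1) := by
  rw [← Nat.sq_sub_sq, one_pow]

omit D [Finite G] in
theorem orderOf_conj (x g : G) : orderOf (x * g * x⁻¹) = orderOf g :=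
  MulEquiv.orderOf_eq (MulAut.conj x) g

omit D [Finite G] in
theorem orderOf_conj' (x g : G) : orderOf (x⁻¹ * g * x) = orderOf g := by
  simpa using orderOf_conj x⁻¹ g

omit D [Finite G] in
theorem conj_mem_of_cent {M : Subgroup G} {d x k : G} (hM : centralizer ({x * d * x⁻¹} : Set G) = M)
    (hk : Commute k d) : x * k * x⁻¹ ∈ M := by
  rw [← hM, mem_centralizer_singleton_iff]
  exact (hk.map (MulAut.conj x).toMonoidHom).eq

omit D in
/-- Conjugates of a torus element: the union of the conjugates, counted. -/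
theorem card_conj_torus (M : Subgroup G) (P : G → Prop)
    (hP : ∀ x d : G, P d → P (x * d * x⁻¹))
    (hcent : ∀ d ∈ M, P d → centralizer ({d} : Set G) = M)
    (hconj : ∀ g : G, P g → ∃ x : G, x * g * x⁻¹ ∈ M) :
    {g : G | P g}.ncard * Nat.card (normalizer (M : Set G)) =
      Nat.card G * {d : G | d ∈ M ∧ P d}.ncard := by
  have h := card_conjUnion (normalizer (M : Set G)) {d : G | d ∈ M ∧ P d}
    (fun g hg d hd => ⟨(mem_normalizer_iff.1 hg d).1 hd.1, hP g d hd.2⟩)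
    (fun g d hd hd' => by
      refine mem_normalizer_of_finite fun k hk => ?_
      refine conj_mem_of_cent (hcent _ hd'.1 hd'.2) ?_
      have := hcent d hd.1 hd.2 ▸ hk
      exact mem_centralizer_singleton_iff.1 this)
  rw [Nat.card_coe_set_eq] at h
  rw [← h, ← Nat.card_coe_set_eq]
  congr 1
  refine Nat.card_congr (Equiv.subtypeEquivRight fun g => ⟨fun hg => ?_, ?_⟩)
  · obtain ⟨x, hx⟩ := hconj g hg
    exact ⟨x⁻¹, by simpa [mul_assoc] using hx,
      by simpa [mul_assoc] using hP x g hg⟩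
  · rintro ⟨x, -, hx⟩
    have := hP x _ hx
    rwa [show x * (x⁻¹ * g * x) * x⁻¹ = g by group] at this

theorem card_centU : Nat.card ((D.U : Subgroup G) ⊓ centralizer ({D.a} : Set G) : Subgroup G) = D.q := by
  classical
  have : Fact (Nat.Prime 3) := ⟨Nat.prime_three⟩
  obtain ⟨M, hM⟩ : ∃ M, M = (D.U : Subgroup G) ⊓ centralizer ({D.a} : Set G) := ⟨_, rfl⟩
  rw [← hM]
  have h1 : Nat.card M ∣ D.q ^ 3 := D.card_U ▸ card_dvd_of_le (hM ▸ inf_le_left)
  have h2 : Nat.card M ∣ D.q * (D.q ^ 2 - 1) := D.cent.card ▸ card_dvd_of_le (hM ▸ inf_le_right)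
  have hco : (Nat.card M).Coprime (D.q ^ 2 - 1) := by
    refine Nat.Coprime.coprime_dvd_left h1 ?_
    rw [three_pow_q3]
    refine coprime_three ?_ _
    rw [sq_sub_one]
    intro h
    exact ((Nat.Prime.dvd_mul Nat.prime_three).1 h).elim D.not_three_dvd_qp1 D.not_three_dvd_qm1
  have hle : Nat.card M ≤ D.q :=
    Nat.le_of_dvd (by have := D.q_ge; omega) (hco.dvd_of_dvd_mul_right h2)
  refine le_antisymm hle ?_
  obtain ⟨P, hP⟩ := Sylow.exists_subgroup_card_pow_prime (G := centralizer ({D.a} : Set G)) 3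
    (n := 2 * D.m + 1) (by rw [D.cent.card, ← D.q_eq]; exact dvd_mul_right _ _)
  obtain ⟨Q, hQ⟩ := IsPGroup.exists_le_sylow (p := 3)
    (P := P.map (centralizer ({D.a} : Set G)).subtype) ((IsPGroup.of_card hP).map _)
  obtain ⟨g, rfl⟩ := MulAction.exists_smul_eq G D.U Q
  have hmap : ∀ p : P, g⁻¹ * (p.1 : G) * g ∈ D.U := fun p =>
    mem_smul_iff.1 (hQ (mem_map_of_mem _ p.2))
  obtain ⟨⟨u, hu⟩, hu1⟩ : ∃ u : P, u ≠ 1 := by
    have : Nontrivial P := Finite.one_lt_card_iff_nontrivial.1 (by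
      rw [hP, ← D.q_eq]; have := D.q_ge; omega)
    exact exists_ne 1
  have ha' : g⁻¹ * D.a * g ∈ normalizer (D.U : Set G) := by
    refine D.mem_N_of_conj (u := g⁻¹ * (u : G) * g) ?_ (hmap ⟨u, hu⟩) ?_
    · intro h
      apply hu1
      apply Subtype.ext
      apply Subtype.ext
      calc (u : G) = g * (g⁻¹ * (u : G) * g) * g⁻¹ := by group
        _ = 1 := by rw [h]; group
    · have hua : (u : G) * D.a = D.a * (u : G) := mem_centralizer_singleton_iff.1 u.2
      have e : g⁻¹ * D.a * g * (g⁻¹ * (u : G) * g) * (g⁻¹ * D.a * g)⁻¹ = g⁻¹ * (u : G) * g := by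
        rw [show g⁻¹ * D.a * g * (g⁻¹ * (u : G) * g) * (g⁻¹ * D.a * g)⁻¹ =
          g⁻¹ * (D.a * (u : G)) * D.a⁻¹ * g by group, ← hua]
        group
      rw [e]; exact hmap ⟨u, hu⟩
  obtain ⟨v, hv, hva⟩ := D.inv_conj_in_N ha'
    (fun h => D.a_ne (by
      calc D.a = g * (g⁻¹ * D.a * g) * g⁻¹ := by group
        _ = 1 := by rw [h]; group))
    (by rw [show g⁻¹ * D.a * g * (g⁻¹ * D.a * g) = g⁻¹ * (D.a * D.a) * g by group, D.a_sq]; group)
  have hxa : g * v * D.a * (g * v)⁻¹ = D.a := by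
    rw [show g * v * D.a * (g * v)⁻¹ = g * (v * D.a * v⁻¹) * g⁻¹ by group, hva]; group
  have hmem : ∀ p : P, (g * v)⁻¹ * (p.1 : G) * (g * v) ∈ M := by
    intro p
    rw [hM]
    refine ⟨?_, mem_centralizer_singleton_iff.2 ?_⟩
    · rw [show (g * v)⁻¹ * (p.1 : G) * (g * v) = v⁻¹ * (g⁻¹ * p.1 * g) * v by group]
      exact (D.U : Subgroup G).mul_mem ((D.U : Subgroup G).mul_mem ((D.U : Subgroup G).inv_mem hv) (hmap p)) hv
    · have hpa : (p.1 : G) * D.a = D.a * p.1 := mem_centralizer_singleton_iff.1 p.1.2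
      calc (g * v)⁻¹ * (p.1 : G) * (g * v) * D.a
          = (g * v)⁻¹ * ((p.1 : G) * (g * v * D.a * (g * v)⁻¹)) * (g * v) := by group
        _ = (g * v)⁻¹ * ((g * v * D.a * (g * v)⁻¹) * p.1) * (g * v) := by rw [hxa, hpa]
        _ = D.a * ((g * v)⁻¹ * p.1 * (g * v)) := by group
  calc D.q = Nat.card P := by rw [hP, ← D.q_eq]
    _ ≤ Nat.card M := Nat.card_le_card_of_injective (fun p => (⟨_, hmem p⟩ : M)) fun p p' e => by
      have := congrArg Subtype.val e
      simpa using this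

/-- The number of elements of order divisible by 3. -/
theorem card_three_singular :
    {g : G | 3 ∣ orderOf g}.ncard + (D.q ^ 3 + 1) * (D.q ^ 2 + 1) = (D.q ^ 3 + 1) * (2 * D.q ^ 3) := by
  classical
  have : Fact (Nat.Prime 3) := ⟨Nat.prime_three⟩
  obtain ⟨N, hN⟩ : ∃ N, N = normalizer (D.U : Set G) := ⟨_, rfl⟩
  obtain ⟨S, hS⟩ : ∃ S : Set G, S = {n : G | n ∈ N ∧ 3 ∣ orderOf n} := ⟨_, rfl⟩
  have hthree : ∀ {n : G}, n ∈ N → 3 ∣ orderOf n → ∃ k, n ^ k ∈ D.U ∧ n ^ k ≠ 1 := by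
    intro n hn h3
    obtain ⟨k, hk⟩ := exists_prime_pow h3
    refine ⟨k, mem_syl_of_pow (k := 1) (by rw [pow_one, ← hk, pow_orderOf_eq_one])
      (hN ▸ pow_mem hn k), fun e => ?_⟩
    rw [e, orderOf_one] at hk; omega
  have hconj := card_conjUnion N S
    (fun g hg n hn => by
      rw [hS] at hn ⊢
      exact ⟨N.mul_mem (N.mul_mem hg hn.1) (N.inv_mem hg), by rw [orderOf_conj]; exact hn.2⟩)
    (fun g n hn hn' => by
      rw [hS] at hn hn'
      obtain ⟨k, hk, hk1⟩ := hthree hn.1 hn.2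
      rw [hN]
      refine D.mem_N_of_conj hk1 hk ?_
      obtain ⟨i, hi⟩ := D.U_pow hk
      refine mem_syl_of_pow (k := i) ?_ ?_
      · rw [conj_pow, hi]; group
      · rw [← conj_pow]; exact hN ▸ pow_mem hn'.1 k)
  have hF : Nat.card {y : G // ∃ g : G, g⁻¹ * y * g ∈ S} = {g : G | 3 ∣ orderOf g}.ncard := by
    rw [← Nat.card_coe_set_eq]
    refine Nat.card_congr (Equiv.subtypeEquivRight fun g => ⟨?_, fun h3 => ?_⟩)
    · rintro ⟨x, hx⟩
      rw [hS] at hx
      have := hx.2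
      rwa [orderOf_conj'] at this
    · have h3' : 3 ∣ orderOf g := h3
      obtain ⟨k, hk⟩ := exists_prime_pow h3'
      obtain ⟨x, -, hxN, -⟩ := D.exists_conj_N (x := g ^ k) (y := g) (k := 1)
        (fun e => by rw [e, orderOf_one] at hk; omega)
        (by rw [pow_one, ← hk, pow_orderOf_eq_one]) ((Commute.refl g).pow_left k)
      exact ⟨x, by rw [hS]; exact ⟨hN ▸ hxN, by rw [orderOf_conj']; exact h3'⟩⟩
  rw [hF, Nat.card_coe_set_eq, hN, D.card_N] at hconj
  -- the elements of `N(U)`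
  obtain ⟨I, hI⟩ : ∃ I : Set G, I = {y : G | ∃ v ∈ (D.U : Subgroup G), v * D.a * v⁻¹ = y} := ⟨_, rfl⟩
  have hI2 : I.ncard = D.q ^ 2 := by
    have h := card_orbit_mul (D.U : Subgroup G) D.a
    rw [D.card_centU, D.card_U] at h
    rw [hI]
    refine Nat.eq_of_mul_eq_mul_right (show 0 < D.q by have := D.q_ge; omega) ?_
    rw [← pow_succ]
    exact h
  obtain ⟨C, hC⟩ : ∃ C : Set G, C = (· * D.a) '' ((D.U : Subgroup G) : Set G) := ⟨_, rfl⟩
  have hC3 : C.ncard = D.q ^ 3 := by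
    rw [hC, Set.ncard_image_of_injective _ (mul_left_injective D.a), ← Nat.card_coe_set_eq]
    exact D.card_U
  have hIN : ∀ y ∈ I, y ∈ N ∧ y ≠ 1 ∧ y * y = 1 := by
    rw [hI]
    rintro _ ⟨v, hv, rfl⟩
    refine ⟨hN ▸ mul_mem (mul_mem (D.U_le_N hv) (D.H_le D.a_mem)) (inv_mem (D.U_le_N hv)),
      fun e => D.a_ne (conj_eq_one_iff.1 e), ?_⟩
    rw [show v * D.a * v⁻¹ * (v * D.a * v⁻¹) = v * (D.a * D.a) * v⁻¹ by group, D.a_sq]; group
  have hIC : I ⊆ C := by
    intro y hy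
    obtain ⟨h1, h2, h3⟩ := hIN y hy
    obtain ⟨u, hu, rfl⟩ := D.inv_mem_coset (hN ▸ h1) h2 h3
    exact hC ▸ ⟨u, hu, rfl⟩
  have hU3 : ∀ u ∈ D.U, u ≠ 1 → 3 ∣ orderOf u := by
    intro u hu hu1
    obtain ⟨k, hk⟩ := D.U_pow hu
    obtain ⟨i, -, hi⟩ := (Nat.dvd_prime_pow Nat.prime_three).1 (orderOf_dvd_of_pow_eq_one hk)
    rcases i with _ | i
    · exact absurd (orderOf_eq_one_iff.1 (by rw [hi, pow_zero])) hu1
    · rw [hi]; exact dvd_pow_self 3 (Nat.succ_ne_zero i)
  have hSeq : S = (((D.U : Subgroup G) : Set G) \ {1}) ∪ (C \ I) := by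
    rw [hS]
    ext n
    constructor
    · rintro ⟨hn, h3⟩
      obtain ⟨k, hk, hk1⟩ := hthree hn h3
      have hsq := D.sq_mem_of_commute (hN ▸ hn) hk hk1 ((Commute.refl n).pow_right k)
      obtain ⟨u, hu, h, hh, rfl⟩ := D.exists_mul (hN ▸ hn)
      have hh2 : h ^ 2 = 1 := by
        refine D.U_inf_H ?_ (pow_mem hh 2)
        have e : h ^ 2 = (u * (h * u * h⁻¹))⁻¹ * (u * h * (u * h)) := by rw [sq]; group
        rw [e]
        exact mul_mem (inv_mem (mul_mem hu (D.conj_U (D.H_le hh) hu))) hsq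
      rcases D.H_sq_eq_one hh hh2 with e | e
      · subst e
        left
        refine ⟨by simpa using hu, fun e1 => ?_⟩
        rw [Set.mem_singleton_iff] at e1
        rw [e1, orderOf_one] at h3; omega
      · subst e
        right
        refine ⟨hC ▸ ⟨u, hu, rfl⟩, fun hmem => ?_⟩
        obtain ⟨-, h1, h2⟩ := hIN _ hmem
        rw [orderOf_eq_prime (p := 2) (by rw [sq, h2]) h1] at h3
        omega
    · rintro (⟨hu, hu1⟩ | ⟨hnC, hnI⟩)
      · exact ⟨hN ▸ D.U_le_N hu, hU3 n hu hu1⟩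
      · rw [hC] at hnC
        obtain ⟨u, hu, rfl⟩ := hnC
        have hn : u * D.a ∈ N := hN ▸ mul_mem (D.U_le_N hu) (D.H_le D.a_mem)
        refine ⟨hn, ?_⟩
        have hne1 : u * D.a ≠ 1 := fun e => D.a_ne (D.U_inf_H (by
          rw [← inv_eq_of_mul_eq_one_right e]; exact inv_mem hu) D.a_mem)
        have hsqU : (u * D.a) ^ 2 ∈ D.U := by
          rw [sq, show u * D.a * (u * D.a) = u * (D.a * u * D.a⁻¹) * (D.a * D.a) by group, D.a_sq,
            mul_one]
          exact mul_mem hu (D.conj_U (D.H_le D.a_mem) hu)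
        refine (hU3 _ hsqU ?_).trans (orderOf_pow_dvd 2)
        intro e
        apply hnI
        obtain ⟨v, hv, hva⟩ := D.inv_conj_in_N (hN ▸ hn) hne1 (by rw [← sq]; exact e)
        exact hI ▸ ⟨v, hv, hva⟩
  have hdis : Disjoint (((D.U : Subgroup G) : Set G) \ {1}) (C \ I) := by
    rw [Set.disjoint_left]
    rintro n ⟨hn, -⟩ ⟨hnC, -⟩
    rw [hC] at hnC
    obtain ⟨u, hu, rfl⟩ := hnC
    have := mul_mem (inv_mem hu) hn
    rw [inv_mul_cancel_left] at this
    exact D.a_ne (D.U_inf_H this D.a_mem)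
  have hScard : S.ncard + (D.q ^ 2 + 1) = 2 * D.q ^ 3 := by
    rw [hSeq, Set.ncard_union_eq hdis (Set.toFinite _) (Set.toFinite _),
      Set.ncard_sdiff (Set.singleton_subset_iff.2 (one_mem _)) (Set.toFinite _),
      Set.ncard_sdiff hIC (Set.toFinite _), Set.ncard_singleton, hC3, hI2, ← Nat.card_coe_set_eq,
      show Nat.card ((D.U : Subgroup G) : Set G) = D.q ^ 3 from D.card_U]
    have h1 : 1 ≤ D.q ^ 3 := Nat.one_le_pow _ _ (by have := D.q_ge; omega)
    have h2 : D.q ^ 2 ≤ D.q ^ 3 := Nat.pow_le_pow_right (by have := D.q_ge; omega) (by norm_num)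
    omega
  rw [D.card_eq, mul_assoc (D.q ^ 3 * (D.q - 1))] at hconj
  have h := Nat.eq_of_mul_eq_mul_left D.card_pos_aux ((mul_comm _ _).trans hconj)
  rw [h, ← mul_add, hScard]

theorem card_involutions : {g : G | orderOf g = 2}.ncard = D.q ^ 2 * (D.q ^ 2 - D.q + 1) := by
  have h := card_orbit_mul (⊤ : Subgroup G) D.a
  rw [top_inf_eq, card_top, D.cent.card, D.card_eq_N] at h
  have e : {g : G | orderOf g = 2} = {y : G | ∃ g ∈ (⊤ : Subgroup G), g * D.a * g⁻¹ = y} := by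
    ext y
    constructor
    · intro hy
      have hy' : orderOf y = 2 := hy
      obtain ⟨g, hg⟩ := D.inv_conj_a (t := y) (fun e => by rw [e, orderOf_one] at hy'; omega)
        (by rw [← sq, ← hy', pow_orderOf_eq_one])
      exact ⟨g, mem_top _, hg⟩
    · rintro ⟨g, -, rfl⟩
      change orderOf _ = 2
      rw [orderOf_conj]
      exact D.orderOf_a
  rw [e]
  have hq := D.q_ge
  refine Nat.eq_of_mul_eq_mul_right
    (show 0 < D.q * (D.q ^ 2 - 1) from Nat.mul_pos (by omega) (by rw [sq_sub_one]; exact Nat.mul_pos (by omega) (by omega))) ?_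
  rw [h, sq_sub_one]
  ring

theorem exists_H_prime : ∃ h ∈ D.H, ∃ p : ℕ, p.Prime ∧ p ≠ 2 ∧ orderOf h = p := by
  obtain ⟨p, hp, hpd⟩ := Nat.exists_prime_and_dvd
    (show (D.q - 1) / 2 ≠ 1 by have := D.q_ge; omega)
  have : Fact p.Prime := ⟨hp⟩
  obtain ⟨⟨h, hh⟩, ho⟩ := exists_prime_orderOf_dvd_card' (G := D.H) p
    (by rw [D.card_H]; exact hpd.trans (Nat.div_dvd_of_dvd (by have := D.q_mod8; omega)))
  rw [← Subgroup.orderOf_coe] at ho
  exact ⟨h, hh, p, hp, by rintro rfl; have := D.q_mod8; omega, ho⟩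

omit D in
theorem two_lt_orderOf {g : G} : 2 < orderOf g ↔ g * g ≠ 1 := by
  constructor
  · intro h e
    have := Nat.le_of_dvd two_pos (orderOf_dvd_of_pow_eq_one (x := g) (n := 2) (by rw [sq, e]))
    omega
  · intro h
    by_contra hle
    have hpos := orderOf_pos g
    apply h
    rw [← sq, ← orderOf_dvd_iff_pow_eq_one]
    interval_cases orderOf g <;> norm_num

theorem card_minus :
    {g : G | orderOf g ∣ D.q - 1 ∧ 2 < orderOf g}.ncard * (2 * (D.q - 1)) =
      Nat.card G * (D.q - 3) := by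
  obtain ⟨h, hh, p, hp, hp2, ho⟩ := D.exists_H_prime
  have hN := (D.H_prime hp hh ho hp2).2.2
  have key := card_conj_torus D.H (fun g => orderOf g ∣ D.q - 1 ∧ 2 < orderOf g)
    (fun x d hd => by rwa [orderOf_conj])
    (fun d hd hd2 => D.centralizer_H hd (by rw [sq]; exact two_lt_orderOf.1 hd2.2))
    (fun g hg => by
      obtain ⟨r, hr, hrd⟩ := Nat.exists_prime_and_dvd (show orderOf g ≠ 1 by omega)
      by_cases hr2 : r = 2
      · obtain ⟨e, o, ho', heq⟩ := Nat.exists_eq_two_pow_mul_odd (orderOf_pos g).ne'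
        rcases eq_or_ne o 1 with rfl | hne
        · exfalso
          rw [mul_one] at heq
          have := D.two_elem_sq (k := e) (heq ▸ pow_orderOf_eq_one g)
          exact two_lt_orderOf.1 hg.2 (by rw [← sq, this])
        · obtain ⟨s, hs, hsd⟩ := Nat.exists_prime_and_dvd hne
          refine D.conj_into_H hs ?_ ((hsd.trans (Dvd.intro_left _ heq.symm)).trans hg.1)
            (hsd.trans (Dvd.intro_left _ heq.symm))
          rintro rfl
          obtain ⟨t, ht⟩ := ho'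
          omega
      · exact D.conj_into_H hr hr2 (hrd.trans hg.1) hrd)
  rw [hN] at key
  rw [key]
  congr 1
  have e : {d : G | d ∈ D.H ∧ orderOf d ∣ D.q - 1 ∧ 2 < orderOf d} = (D.H : Set G) \ {1, D.a} := by
    ext d
    constructor
    · rintro ⟨hd, -, hd2⟩
      refine ⟨hd, fun e => two_lt_orderOf.1 hd2 ?_⟩
      rcases e with rfl | rfl
      · exact one_mul 1
      · exact D.a_sq
    · rintro ⟨hd, hd'⟩
      refine ⟨hd, D.card_H ▸ orderOf_dvd_natCard _ hd, two_lt_orderOf.2 fun e => hd' ?_⟩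
      rcases D.H_sq_eq_one hd (by rw [sq, e]) with r | r <;> simp [r]
  rw [e, Set.ncard_sdiff (by
    rintro x (rfl | rfl)
    · exact one_mem _
    · exact D.a_mem) (Set.toFinite _), Set.ncard_pair D.a_ne.symm, ← Nat.card_coe_set_eq]
  change Nat.card D.H - 2 = _
  rw [D.card_H]
  omega

theorem card_plus :
    {g : G | orderOf g ∣ (D.q + 1) / 2 ∧ 2 < orderOf g}.ncard * (6 * (D.q + 1)) =
      Nat.card G * (D.q - 3) := by
  obtain ⟨M, A, hM⟩ := D.exists_plusTorus
  have key := card_conj_torus M (fun g => orderOf g ∣ (D.q + 1) / 2 ∧ 2 < orderOf g)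
    (fun x d hd => by rwa [orderOf_conj])
    (fun d hd hd2 => hM.cent d hd (two_lt_orderOf.1 hd2.2))
    (fun g hg => by
      have hdvd : orderOf (g * g) ∣ (D.q + 1) / 4 := by
        rw [← sq]
        apply orderOf_dvd_of_pow_eq_one
        rw [← pow_mul, show 2 * ((D.q + 1) / 4) = (D.q + 1) / 2 by have := D.q_mod8; omega]
        exact orderOf_dvd_iff_pow_eq_one.1 hg.1
      obtain ⟨r, hr, hrd⟩ := Nat.exists_prime_and_dvd
        (fun e => two_lt_orderOf.1 hg.2 (orderOf_eq_one_iff.1 e) : orderOf (g * g) ≠ 1)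
      exact hM.conj_into g r hr (hrd.trans hdvd) (hrd.trans (by rw [← sq]; exact orderOf_pow_dvd 2)))
  rw [hM.card_N] at key
  rw [key]
  congr 1
  have e : {d : G | d ∈ M ∧ orderOf d ∣ (D.q + 1) / 2 ∧ 2 < orderOf d} =
      (M : Set G) \ {d : G | d ∈ M ∧ d * d = 1} := by
    ext d
    constructor
    · rintro ⟨hd, -, hd2⟩
      exact ⟨hd, fun e => two_lt_orderOf.1 hd2 e.2⟩
    · rintro ⟨hd, hd'⟩
      exact ⟨hd, orderOf_dvd_of_pow_eq_one (hM.exp_M d hd), two_lt_orderOf.2 fun e => hd' ⟨hd, e⟩⟩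
  rw [e, Set.ncard_sdiff (fun x hx => hx.1) (Set.toFinite _), hM.card_inv, ← Nat.card_coe_set_eq]
  change Nat.card M - 4 = _
  rw [hM.card_M]
  omega

/-- Every element lies in one of the classes. -/
theorem class_cover (g : G) : orderOf g = 1 ∨ 3 ∣ orderOf g ∨ orderOf g = 2 ∨
    (orderOf g ∣ D.q - 1 ∧ 2 < orderOf g) ∨ (orderOf g ∣ (D.q + 1) / 2 ∧ 2 < orderOf g) ∨
      (orderOf g ∣ D.q ^ 2 - D.q + 1) := by
  by_cases h3 : 3 ∣ orderOf g
  · exact Or.inr (Or.inl h3)
  obtain ⟨e, o, ho, heq⟩ := Nat.exists_eq_two_pow_mul_odd (orderOf_pos g).ne'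
  rcases eq_or_ne o 1 with rfl | hne
  · rw [mul_one] at heq
    have := orderOf_dvd_of_pow_eq_one (D.two_elem_sq (k := e) (heq ▸ pow_orderOf_eq_one g))
    rcases (Nat.dvd_prime Nat.prime_two).1 this with h | h
    · exact Or.inl h
    · exact Or.inr (Or.inr (Or.inl h))
  · obtain ⟨p, hp, hpo⟩ := Nat.exists_prime_and_dvd hne
    have hpg : p ∣ orderOf g := hpo.trans (Dvd.intro_left _ heq.symm)
    have hp2 : p ≠ 2 := by rintro rfl; obtain ⟨t, ht⟩ := ho; omega
    have hlt : 2 < orderOf g := by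
      have := Nat.le_of_dvd (orderOf_pos g) hpg
      have := hp.two_le
      omega
    rcases D.prime_cases hp (hpg.trans (orderOf_dvd_natCard g)) with h | h | ⟨-, h⟩ | h | h
    · exact absurd h hp2
    · exact absurd (h ▸ hpg) h3
    · obtain ⟨x, hx⟩ := D.conj_into_H hp hp2 h hpg
      have := D.card_H ▸ Subgroup.orderOf_dvd_natCard _ hx
      rw [orderOf_conj] at this
      exact Or.inr (Or.inr (Or.inr (Or.inl ⟨this, hlt⟩)))
    · obtain ⟨M, A, hM⟩ := D.exists_plusTorus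
      obtain ⟨x, hx⟩ := hM.conj_into g p hp h hpg
      have := orderOf_dvd_of_pow_eq_one (hM.exp_M _ hx)
      rw [orderOf_conj] at this
      exact Or.inr (Or.inr (Or.inr (Or.inr (Or.inl ⟨this, hlt⟩))))
    · obtain ⟨A, e', hpA, hA⟩ := D.exists_hallTorus hp h
      obtain ⟨x, hx⟩ := hA.conj_into g p hp hpA hpg
      have := (Subgroup.orderOf_dvd_natCard _ hx).trans hA.card_dvd
      rw [orderOf_conj] at this
      exact Or.inr (Or.inr (Or.inr (Or.inr (Or.inr this))))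

theorem gcd_facts {d : ℕ} (hN : d ∣ D.q ^ 2 - D.q + 1) :
    (3 ∣ d → False) ∧ (2 ∣ d → False) ∧ (d ∣ D.q - 1 → d = 1) ∧ (d ∣ D.q + 1 → d = 1) := by
  refine ⟨fun h => ?_, fun h => ?_, fun h => ?_, fun h => ?_⟩
  · have := (D.prime_N Nat.prime_three (h.trans hN)).1; omega
  · have := (D.prime_N Nat.prime_two (h.trans hN)).1; omega
  · by_contra hne
    obtain ⟨r, hr, hrd⟩ := Nat.exists_prime_and_dvd hne
    exact (D.prime_N hr (hrd.trans hN)).2.1 (hrd.trans h)
  · by_contra hne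
    obtain ⟨r, hr, hrd⟩ := Nat.exists_prime_and_dvd hne
    exact (D.prime_N hr (hrd.trans hN)).2.2.1 (hrd.trans h)

/-- The number of nontrivial elements of order dividing `q² - q + 1`. -/
theorem card_hall :
    (6 * {g : G | g ≠ 1 ∧ orderOf g ∣ D.q ^ 2 - D.q + 1}.ncard * (D.q ^ 2 - D.q + 1) : ℤ) =
      2 * Nat.card G * ((D.q : ℤ) ^ 2 - 2 * D.q) := by
  classical
  obtain ⟨S3, hS3⟩ : ∃ S : Set G, S = {g : G | 3 ∣ orderOf g} := ⟨_, rfl⟩
  obtain ⟨I, hI⟩ : ∃ S : Set G, S = {g : G | orderOf g = 2} := ⟨_, rfl⟩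
  obtain ⟨Tm, hTm⟩ : ∃ S : Set G, S = {g : G | orderOf g ∣ D.q - 1 ∧ 2 < orderOf g} := ⟨_, rfl⟩
  obtain ⟨Tp, hTp⟩ : ∃ S : Set G, S = {g : G | orderOf g ∣ (D.q + 1) / 2 ∧ 2 < orderOf g} := ⟨_, rfl⟩
  obtain ⟨R, hR⟩ : ∃ S : Set G, S = {g : G | g ≠ 1 ∧ orderOf g ∣ D.q ^ 2 - D.q + 1} := ⟨_, rfl⟩
  rw [← hR]
  have hq := D.q_ge
  have huniv : (Set.univ : Set G) = {1} ∪ S3 ∪ I ∪ Tm ∪ Tp ∪ R := by
    ext g
    simp only [Set.mem_univ, Set.mem_union, true_iff, hS3, hI, hTm, hTp, hR, Set.mem_ofPred_eq,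
      Set.mem_singleton_iff]
    by_cases h1 : g = 1
    · simp [h1]
    · rcases D.class_cover g with h | h | h | h | h | h
      · exact absurd (orderOf_eq_one_iff.1 h) h1
      all_goals simp [h, h1]
  have hq1q : ∀ d, d ∣ D.q - 1 → d ∣ (D.q + 1) / 2 → d ≤ 2 := fun d h1 h2 => by
    have h3 : d ∣ D.q + 1 := h2.trans (Nat.div_dvd_of_dvd (by have := D.q_mod8; omega))
    have := Nat.dvd_sub h3 h1
    rw [show D.q + 1 - (D.q - 1) = 2 by omega] at this
    exact Nat.le_of_dvd two_pos this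
  have d1 : Disjoint ({1} : Set G) S3 := by
    rw [Set.disjoint_left]; rintro g rfl hg; rw [hS3] at hg; simp at hg
  have d2 : Disjoint ({1} ∪ S3) I := by
    rw [Set.disjoint_left]
    intro g hg hg'
    rw [hI] at hg'
    simp only [Set.mem_union, Set.mem_singleton_iff, hS3, Set.mem_ofPred_eq] at hg hg'
    rcases hg with rfl | hg
    · simp at hg'
    · omega
  have d3 : Disjoint ({1} ∪ S3 ∪ I) Tm := by
    rw [Set.disjoint_left]
    intro g hg hg'
    rw [hTm] at hg'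
    simp only [Set.mem_union, Set.mem_singleton_iff, hS3, hI, Set.mem_ofPred_eq] at hg hg'
    rcases hg with (rfl | hg) | hg
    · simp at hg'
    · exact D.not_three_dvd_qm1 (hg.trans hg'.1)
    · omega
  have d4 : Disjoint ({1} ∪ S3 ∪ I ∪ Tm) Tp := by
    rw [Set.disjoint_left]
    intro g hg hg'
    rw [hTp] at hg'
    simp only [Set.mem_union, Set.mem_singleton_iff, hS3, hI, hTm, Set.mem_ofPred_eq] at hg hg'
    rcases hg with ((rfl | hg) | hg) | hg
    · simp at hg'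
    · exact D.not_three_dvd_qp1
        ((hg.trans hg'.1).trans (Nat.div_dvd_of_dvd (by have := D.q_mod8; omega)))
    · omega
    · have := hq1q _ hg.1 hg'.1; omega
  have d5 : Disjoint ({1} ∪ S3 ∪ I ∪ Tm ∪ Tp) R := by
    rw [Set.disjoint_left]
    intro g hg hg'
    rw [hR] at hg'
    simp only [Set.mem_union, Set.mem_singleton_iff, hS3, hI, hTm, hTp, Set.mem_ofPred_eq] at hg hg'
    obtain ⟨f3, f2, fm, fp⟩ := D.gcd_facts hg'.2
    rcases hg with (((rfl | hg) | hg) | hg) | hg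
    · exact hg'.1 rfl
    · exact f3 hg
    · exact f2 (hg ▸ dvd_rfl)
    · have := fm hg.1; omega
    · have := fp (hg.1.trans (Nat.div_dvd_of_dvd (by have := D.q_mod8; omega))); omega
  have htot := congrArg Set.ncard huniv
  rw [Set.ncard_univ, Set.ncard_union_eq d5 (Set.toFinite _) (Set.toFinite _),
    Set.ncard_union_eq d4 (Set.toFinite _) (Set.toFinite _),
    Set.ncard_union_eq d3 (Set.toFinite _) (Set.toFinite _),
    Set.ncard_union_eq d2 (Set.toFinite _) (Set.toFinite _),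
    Set.ncard_union_eq d1 (Set.toFinite _) (Set.toFinite _), Set.ncard_singleton] at htot
  have es := D.card_three_singular
  have ei := D.card_involutions
  have em := D.card_minus
  have ep := D.card_plus
  rw [← hS3, D.N_eq] at es
  rw [← hI] at ei
  rw [← hTm] at em
  rw [← hTp] at ep
  rw [D.card_eq_N] at em ep
  have em' : Tm.ncard * 2 = D.q ^ 3 * (D.q + 1) * (D.q ^ 2 - D.q + 1) * (D.q - 3) := by
    refine Nat.eq_of_mul_eq_mul_right (show 0 < D.q - 1 by omega) ?_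
    rw [mul_assoc, em]; ring
  have ep' : Tp.ncard * 6 = D.q ^ 3 * (D.q - 1) * (D.q ^ 2 - D.q + 1) * (D.q - 3) := by
    refine Nat.eq_of_mul_eq_mul_right (show 0 < D.q + 1 by omega) ?_
    rw [mul_assoc, ep]; ring
  have hN : D.q ≤ D.q ^ 2 := Nat.le_self_pow (by norm_num) _
  have eg := D.card_eq_N
  zify [hN, show 1 ≤ D.q by omega, show 3 ≤ D.q by omega] at htot es ei em' ep' eg ⊢
  linear_combination (-6 * ((D.q : ℤ) ^ 2 - D.q + 1)) * htot
    + (-6 * ((D.q : ℤ) ^ 2 - D.q + 1)) * es + (-6 * ((D.q : ℤ) ^ 2 - D.q + 1)) * ei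
    + (-3 * ((D.q : ℤ) ^ 2 - D.q + 1)) * em' + (-((D.q : ℤ) ^ 2 - D.q + 1)) * ep'
    + (6 * ((D.q : ℤ) ^ 2 - D.q + 1) - 2 * ((D.q : ℤ) ^ 2 - 2 * D.q)) * eg

/-- The elements covered by one torus. -/
theorem card_family {A : Subgroup G} {e : ℕ} (hA : HallTorus D.q A e) :
    {g : G | g ≠ 1 ∧ orderOf g ∣ Nat.card A}.ncard * (e * Nat.card A) =
      Nat.card G * (Nat.card A - 1) := by
  have key := card_conj_torus A (fun g => g ≠ 1 ∧ orderOf g ∣ Nat.card A)
    (fun x d hd => ⟨fun e => hd.1 (conj_eq_one_iff.1 e), by rw [orderOf_conj]; exact hd.2⟩)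
    (fun d hd hd1 => hA.cent d hd hd1.1)
    (fun g hg => by
      obtain ⟨p, hp, hpd⟩ := Nat.exists_prime_and_dvd
        (fun e => hg.1 (orderOf_eq_one_iff.1 e) : orderOf g ≠ 1)
      exact hA.conj_into g p hp (hpd.trans hg.2) hpd)
  rw [hA.card_N] at key
  rw [key, show {d : G | d ∈ A ∧ d ≠ 1 ∧ orderOf d ∣ Nat.card A} = (A : Set G) \ {1} by
    ext d
    constructor
    · rintro ⟨hd, hd1, -⟩; exact ⟨hd, hd1⟩
    · rintro ⟨hd, hd1⟩; exact ⟨hd, hd1, Subgroup.orderOf_dvd_natCard _ hd⟩,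
    Set.ncard_sdiff (Set.singleton_subset_iff.2 (one_mem _)) (Set.toFinite _), Set.ncard_singleton,
    ← Nat.card_coe_set_eq]
  rfl

theorem card_eq_of_common_prime {A B : Subgroup G} {e f : ℕ} (hA : HallTorus D.q A e)
    (hB : HallTorus D.q B f) {p : ℕ} (hp : p.Prime) (hpA : p ∣ Nat.card A) (hpB : p ∣ Nat.card B) :
    Nat.card A = Nat.card B := by
  have : Fact p.Prime := ⟨hp⟩
  have hkey : ∀ {C E : Subgroup G} {c d : ℕ}, HallTorus D.q C c → HallTorus D.q E d →
      p ∣ Nat.card C → p ∣ Nat.card E → Nat.card C ≤ Nat.card E := by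
    intro C E c d hC hE hpC hpE
    obtain ⟨⟨z, hz⟩, hzo⟩ := exists_prime_orderOf_dvd_card' (G := C) p hpC
    rw [← Subgroup.orderOf_coe] at hzo
    replace hzo : orderOf z = p := hzo
    obtain ⟨x, hx⟩ := hE.conj_into z p hp hpE (dvd_of_eq hzo.symm)
    have hz1 : z ≠ 1 := fun e => by rw [e, orderOf_one] at hzo; exact hp.ne_one hzo.symm
    have hcE := hE.cent _ hx (fun e => hz1 (conj_eq_one_iff.1 e))
    refine Nat.card_le_card_of_injective (fun k : C => (⟨x * k.1 * x⁻¹, conj_mem_of_cent hcE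
      (mem_centralizer_singleton_iff.1 (by rw [hC.cent z hz hz1]; exact k.2))⟩ : E)) fun k k' e => ?_
    have := congrArg Subtype.val e
    simpa using this
  exact le_antisymm (hkey hA hB hpA hpB) (hkey hB hA hpB hpA)

/-- The two Hall tori of orders `q ± 3^(m+1) + 1`. -/
theorem exists_hall_pair : ∃ A B : Subgroup G, HallTorus D.q A 6 ∧ HallTorus D.q B 6 ∧
    Nat.card A = D.q - 3 ^ (D.m + 1) + 1 ∧ Nat.card B = D.q + 3 ^ (D.m + 1) + 1 := by
  classical
  have hq := D.q_ge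
  have hN2 : D.q ≤ D.q ^ 2 := Nat.le_self_pow (by norm_num) _
  obtain ⟨N, hN⟩ : ∃ N, N = D.q ^ 2 - D.q + 1 := ⟨_, rfl⟩
  obtain ⟨R, hR⟩ : ∃ R : Set G, R = {g : G | g ≠ 1 ∧ orderOf g ∣ N} := ⟨_, rfl⟩
  have hcount := D.card_hall
  rw [← hN, ← hR] at hcount
  have hNz : (N : ℤ) = (D.q : ℤ) ^ 2 - D.q + 1 := by rw [hN]; push_cast [Nat.cast_sub hN2]; ring
  rw [← hNz] at hcount
  have hG : (0 : ℤ) < Nat.card G := by exact_mod_cast Nat.card_pos
  have hqz : (27 : ℤ) ≤ D.q := by exact_mod_cast hq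
  have hsmall : 3 * (R.ncard : ℤ) < Nat.card G := by
    have : (0 : ℤ) < N := by rw [hN]; positivity
    have h2 : (3 * (R.ncard : ℤ)) * (2 * N) < (Nat.card G : ℤ) * (2 * N) := by
      rw [show 3 * (R.ncard : ℤ) * (2 * N) = 6 * R.ncard * N by ring, hcount, hNz]
      nlinarith
    exact lt_of_mul_lt_mul_right h2 (by positivity)
  -- a family for each torus
  have hfam : ∀ {A : Subgroup G} {e : ℕ}, HallTorus D.q A e → ∃ (c : ℕ) (F : Set G),
      F ⊆ R ∧ F = {g : G | g ≠ 1 ∧ orderOf g ∣ Nat.card A} ∧ c * e = 6 ∧ 1 ≤ c ∧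
      (6 * (F.ncard : ℤ) * Nat.card A = c * Nat.card G * ((Nat.card A : ℤ) - 1)) ∧
      (c : ℤ) * Nat.card G ≤ 7 * F.ncard := by
    intro A e hA
    obtain ⟨c, hc⟩ : e ∣ 6 := by rcases hA.e_mem with rfl | rfl | rfl <;> norm_num
    obtain ⟨F, hF⟩ : ∃ F : Set G, F = {g : G | g ≠ 1 ∧ orderOf g ∣ Nat.card A} := ⟨_, rfl⟩
    have hsub : F ⊆ R := by
      rw [hF, hR]; exact fun g hg => ⟨hg.1, hg.2.trans (hN ▸ hA.card_dvd)⟩
    have h := D.card_family hA
    rw [← hF] at h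
    have h' : (6 * (F.ncard : ℤ) * Nat.card A = c * Nat.card G * ((Nat.card A : ℤ) - 1)) := by
      have h1 : ((6 : ℕ) : ℤ) = ((e : ℕ) : ℤ) * c := by exact_mod_cast hc
      have h2 : (F.ncard : ℤ) * (e * Nat.card A) = Nat.card G * ((Nat.card A : ℤ) - 1) := by
        rw [← Nat.cast_one, ← Nat.cast_sub hA.one_lt.le]
        exact_mod_cast h
      push_cast at h1
      linear_combination (c : ℤ) * h2 + (F.ncard : ℤ) * Nat.card A * h1
    have ha7 : 7 ≤ Nat.card A := by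
      obtain ⟨p, hp, hpd⟩ := Nat.exists_prime_and_dvd (show Nat.card A ≠ 1 from hA.one_lt.ne')
      exact ((D.prime_N hp (hpd.trans hA.card_dvd)).1).trans (Nat.le_of_dvd Nat.card_pos hpd)
    refine ⟨c, F, hsub, hF, by rw [mul_comm]; exact hc.symm, ?_, h', ?_⟩
    · rcases Nat.eq_zero_or_pos c with rfl | hc0
      · omega
      · exact hc0
    · have ha : (7 : ℤ) ≤ Nat.card A := by exact_mod_cast ha7
      have hcG : (0 : ℤ) ≤ c * Nat.card G := by positivity
      refine le_of_mul_le_mul_right (a := (6 * Nat.card A : ℤ)) ?_ (by positivity)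
      nlinarith
  -- the first two tori
  obtain ⟨p, hp, hpN⟩ := Nat.exists_prime_and_dvd (show D.q ^ 2 - D.q + 1 ≠ 1 by
    have := D.N_ge; omega)
  obtain ⟨A, e, -, hA⟩ := D.exists_hallTorus hp hpN
  obtain ⟨c, F, hFR, hF, hce, hc1, hFA, hFc⟩ := hfam hA
  have hAN : Nat.card A ∣ N := hN ▸ hA.card_dvd
  have hne : Nat.card A ≠ N := by
    intro h
    have hRF : F = R := by rw [hF, hR, h]
    rw [hRF, h] at hFA
    have h0 : (Nat.card G : ℤ) * (c * ((N : ℤ) - 1) - 2 * ((D.q : ℤ) ^ 2 - 2 * D.q)) = 0 := by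
      linear_combination hcount - hFA
    rw [hNz] at h0
    have h1 : (c : ℤ) * ((D.q : ℤ) ^ 2 - D.q) - 2 * ((D.q : ℤ) ^ 2 - 2 * D.q) = 0 := by
      have := (mul_eq_zero.1 h0).resolve_left hG.ne'
      linear_combination this
    rcases (show c = 1 ∨ 2 ≤ c by omega) with rfl | hc2
    · push_cast at h1
      nlinarith
    · have : (2 : ℤ) ≤ c := by exact_mod_cast hc2
      nlinarith
  obtain ⟨p2, hp2, hp2N, hp2A⟩ : ∃ p2 : ℕ, p2.Prime ∧ p2 ∣ N ∧ ¬p2 ∣ Nat.card A := by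
    by_contra hall
    push Not at hall
    -- all primes of `N` divide `card A`; then every element counted lies in the family of `A`
    have hRF : R ⊆ F := by
      rw [hR, hF]
      intro g hg
      obtain ⟨p', hp', hp'g⟩ := Nat.exists_prime_and_dvd
        (fun e => hg.1 (orderOf_eq_one_iff.1 e) : orderOf g ≠ 1)
      obtain ⟨x, hx⟩ := hA.conj_into g p' hp' (hall p' hp' (hp'g.trans hg.2)) hp'g
      refine ⟨hg.1, ?_⟩
      have := Subgroup.orderOf_dvd_natCard _ hx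
      rwa [orderOf_conj] at this
    have hFeq : F = R := subset_antisymm hFR hRF
    -- so the index of `A` in `N` is one
    apply hne
    obtain ⟨t, ht⟩ := hAN
    rcases eq_or_ne t 1 with rfl | ht1
    · rw [ht, mul_one]
    exfalso
    obtain ⟨p', hp', hp't⟩ := Nat.exists_prime_and_dvd ht1
    have : Fact p'.Prime := ⟨hp'⟩
    have hp'N : p' ∣ N := ht ▸ dvd_mul_of_dvd_right hp't _
    have hp'A := hall p' hp' hp'N
    -- a Sylow subgroup would be too large
    obtain ⟨P, hP⟩ : ∃ P : Sylow p' G, True := ⟨default, trivial⟩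
    have hcyc := D.cyclic p' hp' (by have := (D.prime_N hp' (hN ▸ hp'N)).1; omega) P
    obtain ⟨z, hz⟩ := hcyc.exists_ofOrder_eq_natCard
    rw [← Subgroup.orderOf_coe] at hz
    have hv := Sylow.card_eq_multiplicity P
    have hpne : (z : G) ≠ 1 := fun e => by
      rw [e, orderOf_one] at hz
      have h1 := P.dvd_card_of_dvd_card
        (hp'N.trans (hN ▸ (by rw [D.card_eq_N]; exact dvd_mul_left _ _)))
      rw [← hz] at h1
      exact hp'.ne_one (Nat.dvd_one.1 h1)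
    have hzN : orderOf (z : G) ∣ N := by
      rw [hN]
      refine D.dvd_N (orderOf_dvd_natCard _) fun s hs hsd => ?_
      rw [hz, hv] at hsd
      have := (Nat.prime_dvd_prime_iff_eq hs hp').1 (hs.dvd_of_dvd_pow hsd)
      exact this ▸ hN ▸ hp'N
    have hzA : orderOf (z : G) ∣ Nat.card A := by
      have : (z : G) ∈ F := hFeq ▸ (hR ▸ ⟨hpne, hzN⟩)
      rw [hF] at this
      exact this.2
    rw [hz, hv] at hzA
    have hmul : p' ^ ((Nat.card G).factorization p' + 1) ∣ Nat.card G := by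
      rw [pow_succ]
      refine (mul_dvd_mul hzA hp't).trans ?_
      rw [← ht, hN, D.card_eq_N]
      exact dvd_mul_left _ _
    have := (hp'.pow_dvd_iff_le_factorization Nat.card_pos.ne').1 hmul
    omega
  obtain ⟨B, f, hpB, hB⟩ := D.exists_hallTorus hp2 (hN ▸ hp2N)
  obtain ⟨c', F', hF'R, hF', hcf, hc'1, hFB, hF'c⟩ := hfam hB
  have hco : (Nat.card A).Coprime (Nat.card B) := Nat.coprime_of_dvd fun s hs h1 h2 =>
    hp2A (D.card_eq_of_common_prime hA hB hs h1 h2 ▸ hpB)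
  have hdisj : ∀ {a b : ℕ}, a.Coprime b → Disjoint {g : G | g ≠ 1 ∧ orderOf g ∣ a}
      {g : G | g ≠ 1 ∧ orderOf g ∣ b} := by
    intro a b hab
    rw [Set.disjoint_left]
    rintro g ⟨hg, ha⟩ ⟨-, hb⟩
    exact hg (orderOf_eq_one_iff.1 (Nat.eq_one_of_dvd_coprimes hab ha hb))
  have hd12 : Disjoint F F' := by rw [hF, hF']; exact hdisj hco
  have hsum2 : F.ncard + F'.ncard ≤ R.ncard := by
    rw [← Set.ncard_union_eq hd12 (Set.toFinite _) (Set.toFinite _)]
    exact Set.ncard_le_ncard (Set.union_subset hFR hF'R) (Set.toFinite _)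
  have hsum2' : (F.ncard : ℤ) + F'.ncard ≤ R.ncard := by exact_mod_cast hsum2
  have hcc : c = 1 ∧ c' = 1 := by
    by_contra h
    have h3 : (3 : ℤ) ≤ (c : ℤ) + c' := by
      have : 3 ≤ c + c' := by omega
      exact_mod_cast this
    nlinarith
  obtain ⟨rfl, rfl⟩ := hcc
  have hab : Nat.card A * Nat.card B = N := by
    obtain ⟨t, ht⟩ := hco.mul_dvd_of_dvd_of_dvd hAN (hN ▸ hB.card_dvd)
    rcases eq_or_ne t 1 with rfl | ht1
    · rw [ht, mul_one]
    exfalso
    -- a third torus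
    by_cases hex : ∃ p3 : ℕ, p3.Prime ∧ p3 ∣ N ∧ ¬p3 ∣ Nat.card A ∧ ¬p3 ∣ Nat.card B
    · obtain ⟨p3, hp3, hp3N, hp3A, hp3B⟩ := hex
      obtain ⟨C, g3, hpC, hC⟩ := D.exists_hallTorus hp3 (hN ▸ hp3N)
      obtain ⟨c'', F'', hF''R, hF'', -, hc''1, -, hF''c⟩ := hfam hC
      have hco1 : (Nat.card A).Coprime (Nat.card C) := Nat.coprime_of_dvd fun s hs h1 h2 =>
        hp3A (D.card_eq_of_common_prime hA hC hs h1 h2 ▸ hpC)
      have hco2 : (Nat.card B).Coprime (Nat.card C) := Nat.coprime_of_dvd fun s hs h1 h2 =>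
        hp3B (D.card_eq_of_common_prime hB hC hs h1 h2 ▸ hpC)
      have hd3 : Disjoint (F ∪ F') F'' := by
        rw [Set.disjoint_union_left, hF, hF', hF'']
        exact ⟨hdisj hco1, hdisj hco2⟩
      have h3 : F.ncard + F'.ncard + F''.ncard ≤ R.ncard := by
        rw [← Set.ncard_union_eq hd12 (Set.toFinite _) (Set.toFinite _),
          ← Set.ncard_union_eq hd3 (Set.toFinite _) (Set.toFinite _)]
        exact Set.ncard_le_ncard (Set.union_subset (Set.union_subset hFR hF'R) hF''R) (Set.toFinite _)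
      have h3' : (F.ncard : ℤ) + F'.ncard + F''.ncard ≤ R.ncard := by exact_mod_cast h3
      have : (1 : ℤ) ≤ c'' := by exact_mod_cast hc''1
      push_cast at hFc hF'c
      nlinarith
    · push Not at hex
      obtain ⟨p', hp', hp't⟩ := Nat.exists_prime_and_dvd ht1
      have : Fact p'.Prime := ⟨hp'⟩
      have hp'N : p' ∣ N := ht ▸ dvd_mul_of_dvd_right hp't _
      obtain ⟨C, hC, hpC, hCd⟩ : ∃ (C : Subgroup G), (∃ i, HallTorus D.q C i) ∧ p' ∣ Nat.card C ∧
          Nat.card C ∣ Nat.card A * Nat.card B := by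
        by_cases h1 : p' ∣ Nat.card A
        · exact ⟨A, ⟨e, hA⟩, h1, dvd_mul_right _ _⟩
        · exact ⟨B, ⟨f, hB⟩, hex p' hp' hp'N h1, dvd_mul_left _ _⟩
      obtain ⟨i, hC⟩ := hC
      obtain ⟨⟨z, hz⟩, hzo⟩ := exists_prime_orderOf_dvd_card' (G := C) p' hpC
      rw [← Subgroup.orderOf_coe] at hzo
      replace hzo : orderOf z = p' := hzo
      obtain ⟨P, hP⟩ := IsPGroup.exists_le_sylow (p := p') (P := zpowers z)
        (IsPGroup.of_card (n := 1) (by rw [Nat.card_zpowers, hzo, pow_one]))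
      have hcyc := D.cyclic p' hp' (by have := (D.prime_N hp' (hN ▸ hp'N)).1; omega) P
      have hPC : (P : Subgroup G) ≤ C := fun w hw => by
        have := hcyc.isMulCommutative
        rw [← hC.cent z hz (fun e => by rw [e, orderOf_one] at hzo; exact hp'.ne_one hzo.symm),
          mem_centralizer_singleton_iff]
        exact congrArg Subtype.val (mul_comm' (⟨w, hw⟩ : (P : Subgroup G)) ⟨z, hP (mem_zpowers z)⟩)
      have hdv := (card_dvd_of_le hPC).trans hCd
      rw [Sylow.card_eq_multiplicity] at hdv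
      have hmul : p' ^ ((Nat.card G).factorization p' + 1) ∣ Nat.card G := by
        rw [pow_succ]
        refine (mul_dvd_mul hdv hp't).trans ?_
        rw [← ht, hN, D.card_eq_N]
        exact dvd_mul_left _ _
      have := (hp'.pow_dvd_iff_le_factorization Nat.card_pos.ne').1 hmul
      omega
  have hRcover : R = F ∪ F' := by
    refine subset_antisymm ?_ (Set.union_subset hFR hF'R)
    rw [hR, hF, hF']
    intro g hg
    obtain ⟨p', hp', hp'g⟩ := Nat.exists_prime_and_dvd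
      (fun e => hg.1 (orderOf_eq_one_iff.1 e) : orderOf g ≠ 1)
    have hp'N : p' ∣ Nat.card A * Nat.card B := hab ▸ hp'g.trans hg.2
    rcases (Nat.Prime.dvd_mul hp').1 hp'N with h | h
    · obtain ⟨x, hx⟩ := hA.conj_into g p' hp' h hp'g
      have := Subgroup.orderOf_dvd_natCard _ hx
      rw [orderOf_conj] at this
      exact Or.inl ⟨hg.1, this⟩
    · obtain ⟨x, hx⟩ := hB.conj_into g p' hp' h hp'g
      have := Subgroup.orderOf_dvd_natCard _ hx
      rw [orderOf_conj] at this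
      exact Or.inr ⟨hg.1, this⟩
  rw [hRcover, Set.ncard_union_eq hd12 (Set.toFinite _) (Set.toFinite _), Nat.cast_add] at hcount
  push_cast at hFA hFB
  obtain ⟨a, ha⟩ : ∃ a : ℤ, a = Nat.card A := ⟨_, rfl⟩
  obtain ⟨b, hb⟩ : ∃ b : ℤ, b = Nat.card B := ⟨_, rfl⟩
  rw [← ha] at hFA
  rw [← hb] at hFB
  have habz : a * b = N := by rw [ha, hb]; exact_mod_cast hab
  have hsum : a + b = 2 * D.q + 2 := by
    have : (Nat.card G : ℤ) * (a + b - (2 * D.q + 2)) = 0 := by
      linear_combination -hcount + b * hFA + a * hFB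
        - (6 * ((F.ncard : ℤ) + F'.ncard) - 2 * Nat.card G) * habz + (2 * (Nat.card G : ℤ)) * hNz
    linarith [(mul_eq_zero.1 this).resolve_left hG.ne']
  obtain ⟨r, hr⟩ : ∃ r : ℕ, r = 3 ^ (D.m + 1) := ⟨_, rfl⟩
  have hr2 : r * r = 3 * D.q := by rw [hr, D.q_eq, ← pow_add, ← pow_succ']; ring_nf
  have hr2z : (r : ℤ) * r = 3 * D.q := by exact_mod_cast hr2
  have hrq : r ≤ D.q := by
    rw [hr, D.q_eq]; exact Nat.pow_le_pow_right (by norm_num) (by omega)
  have hfac : (a - (D.q + 1 - r)) * (a - (D.q + 1 + r)) = 0 := by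
    linear_combination a * hsum - habz - hNz - hr2z
  have he6 : e = 6 := by omega
  have hf6 : f = 6 := by omega
  rw [← hr]
  rcases mul_eq_zero.1 hfac with h | h
  · exact ⟨A, B, he6 ▸ hA, hf6 ▸ hB, by omega, by omega⟩
  · exact ⟨B, A, hf6 ▸ hB, he6 ▸ hA, by omega, by omega⟩

/-- The element orders. -/
theorem spectrum (d : ℕ) :
    (∃ g : G, orderOf g = d) ↔
      (d ∣ 6 ∨ d ∣ 9 ∨ d ∣ D.q - 1 ∨ d ∣ (D.q + 1) / 2 ∨
        d ∣ D.q - 3 ^ (D.m + 1) + 1 ∨ d ∣ D.q + 3 ^ (D.m + 1) + 1) := by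
  have : Fact (Nat.Prime 3) := ⟨Nat.prime_three⟩
  obtain ⟨A, B, hA, hB, hcA, hcB⟩ := D.exists_hall_pair
  constructor
  · rintro ⟨g, rfl⟩
    rcases D.class_cover g with h | h | h | h | h | h
    · exact Or.inl (by rw [h]; norm_num)
    · obtain ⟨k, hk⟩ := exists_prime_pow h
      have h18 : g ^ 18 = 1 := D.pow_18_of_commute (x := g ^ k) (y := g) (k := 1)
        (fun e => by rw [e, orderOf_one] at hk; omega)
        (by rw [pow_one, ← hk, pow_orderOf_eq_one]) ((Commute.refl g).pow_left k)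
      have hd := orderOf_dvd_of_pow_eq_one h18
      have hne18 : orderOf g ≠ 18 := by
        intro e
        have ht : orderOf (g ^ 9) = 2 := by rw [orderOf_pow, e]; norm_num
        have hu : orderOf (g ^ 2) = 9 := by rw [orderOf_pow, e]; norm_num
        have h3 := (D.inv_cent (fun e1 => by rw [e1, orderOf_one] at ht; omega)
          (by rw [← sq, ← ht, pow_orderOf_eq_one])).three (g ^ 2)
          (((Commute.refl g).pow_left 2).pow_right 9) 2
          (by rw [show 3 ^ 2 = 9 from rfl, ← hu, pow_orderOf_eq_one])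
        have := Nat.le_of_dvd (by norm_num) (orderOf_dvd_of_pow_eq_one h3)
        omega
      have hle := Nat.le_of_dvd (by norm_num) hd
      interval_cases orderOf g <;> omega
    · exact Or.inl (by rw [h]; norm_num)
    · exact Or.inr (Or.inr (Or.inl h.1))
    · exact Or.inr (Or.inr (Or.inr (Or.inl h.1)))
    · by_cases h1 : orderOf g = 1
      · exact Or.inl (by rw [h1]; norm_num)
      obtain ⟨p, hp, hpg⟩ := Nat.exists_prime_and_dvd h1
      have hprod : Nat.card A * Nat.card B = D.q ^ 2 - D.q + 1 := by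
        rw [hcA, hcB]
        have hr : 3 ^ (D.m + 1) ≤ D.q := by
          rw [D.q_eq]; exact Nat.pow_le_pow_right (by norm_num) (by omega)
        have hr2 : 3 ^ (D.m + 1) * 3 ^ (D.m + 1) = 3 * D.q := by
          rw [D.q_eq, ← pow_add, ← pow_succ']; ring_nf
        zify [hr, Nat.le_self_pow two_ne_zero D.q] at hr2 ⊢
        linear_combination -hr2
      rcases (Nat.Prime.dvd_mul hp).1 (hprod ▸ hpg.trans h) with h' | h'
      · obtain ⟨x, hx⟩ := hA.conj_into g p hp h' hpg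
        have := hcA ▸ Subgroup.orderOf_dvd_natCard _ hx
        rw [orderOf_conj] at this
        exact Or.inr (Or.inr (Or.inr (Or.inr (Or.inl this))))
      · obtain ⟨x, hx⟩ := hB.conj_into g p hp h' hpg
        have := hcB ▸ Subgroup.orderOf_dvd_natCard _ hx
        rw [orderOf_conj] at this
        exact Or.inr (Or.inr (Or.inr (Or.inr (Or.inr this))))
  · intro h
    suffices ∃ g : G, d ∣ orderOf g by
      obtain ⟨g, hg⟩ := this
      exact ⟨_, orderOf_pow_orderOf_div (orderOf_pos g).ne' hg⟩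
    have gen : ∀ {C : Subgroup G}, IsCyclic C → ∃ g : G, orderOf g = Nat.card C := fun {C} hC => by
      obtain ⟨g, hg⟩ := hC.exists_ofOrder_eq_natCard
      exact ⟨g, by rw [Subgroup.orderOf_coe, hg]⟩
    rcases h with h | h | h | h | h | h
    · obtain ⟨⟨u, hu⟩, huo⟩ := exists_prime_orderOf_dvd_card'
        (G := centralizer ({D.a} : Set G)) 3
        (by rw [D.cent.card]; exact dvd_mul_of_dvd_left D.three_dvd_q _)
      rw [← Subgroup.orderOf_coe] at huo
      replace huo : orderOf u = 3 := huo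
      have hc : Commute u D.a := mem_centralizer_singleton_iff.1 hu
      refine ⟨u * D.a, ?_⟩
      rw [hc.orderOf_mul_eq_mul_orderOf_of_coprime (by rw [huo, D.orderOf_a]; norm_num), huo,
        D.orderOf_a]
      exact h
    · obtain ⟨u, hu, hu3⟩ := D.exists_nine
      refine ⟨u, h.trans (dvd_of_eq ?_)⟩
      exact (orderOf_eq_prime_pow (p := 3) (n := 1) (by rw [pow_one]; exact hu3)
        (by rw [show 3 ^ (1 + 1) = 9 from rfl]; exact D.nine u hu)).symm
    · obtain ⟨g, hg⟩ := gen D.H_cyclic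
      exact ⟨g, by rw [hg, D.card_H]; exact h⟩
    · obtain ⟨M, A', hM⟩ := D.exists_plusTorus
      obtain ⟨g, -, hg⟩ := hM.exists_order
      exact ⟨g, hg ▸ h⟩
    · obtain ⟨g, hg⟩ := gen hA.cyclic
      exact ⟨g, by rw [hg, hcA]; exact h⟩
    · obtain ⟨g, hg⟩ := gen hB.cyclic
      exact ⟨g, by rw [hg, hcB]; exact h⟩

end Cfsg.Agent.ReeLocal8.ReeData
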