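import Cfsg.Agent.Lib.ReeStemThree86
import Cfsg.Agent.Lib.ReeInvolution86

/-!
The Schur multiplier of `²G₂(q)`, `q ≥ 27`, is trivial.
-/

set_option autoImplicit false
set_option linter.unusedSectionVars false
set_option maxRecDepth 20000

namespace Cfsg.Agent.ReeStem86

open Cfsg.Lie Cfsg.Agent.ReeInstance17 Cfsg.Agent.StemPairing Cfsg.Agent.ReeInvolution86 Subgroup
open scoped commutatorElement

variable {K : Type*} [Field K] [Fintype K] [CharP K 3] {X : Ctx K}
variable {Γ : Type*} [Group Γ] {σ : Γ →* ↥X.G1}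

theorem two_part [Finite Γ] {m : ℕ} (hm : 1 ≤ m) (hK : Fintype.card K = 3 ^ (2 * m + 1))
    (hσ : Cfsg.IsStemExtension σ) {z : Γ} (hz : σ z = 1) (ho : orderOf z = 2) : False := by
  classical
  haveI : Fact (Nat.Prime 2) := ⟨Nat.prime_two⟩
  obtain ⟨hs, hc, -⟩ := id hσ
  have h4 : 4 ≤ Nat.card K := by
    rw [Nat.card_eq_fintype_card, hK]
    exact (by norm_num : 4 ≤ 3 ^ 2).trans (Nat.pow_le_pow_right (by norm_num) (by omega))
  have hav := ReeTorus17.av_mem X
  obtain ⟨e⟩ := ReeCentralizer17.exists_equiv X hav (hK ▸ Odd.pow ⟨1, rfl⟩)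
  set C := ReeCentralizer17.Cen X hav
  set A : ↥X.G1 := ⟨_, hav⟩
  obtain ⟨a, ha⟩ := hs A
  have hAC : A ∈ C := mem_centralizer_singleton_iff.2 rfl
  let sec : ↥C → Γ := fun c => Function.surjInv hs (c : ↥X.G1)
  have hsec : ∀ c, σ (sec c) = (c : ↥X.G1) := fun c => Function.surjInv_eq hs _
  have hcomm : ∀ c : ↥C, Commute (σ a) (σ (sec c)) := fun c => by
    rw [ha, hsec]; exact (mem_centralizer_singleton_iff.1 c.2).symm
  let f : ↥C →* Γ :=
    { toFun := fun c => ⁅a, sec c⁆
      map_one' := by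
        rw [bracket_congr hc (a := a) (b := sec 1) (a' := a) (b' := 1) rfl
          (by rw [hsec, map_one, OneMemClass.coe_one]), commutatorElement_one_right]
      map_mul' := fun c d => by
        show ⁅a, sec (c * d)⁆ = ⁅a, sec c⁆ * ⁅a, sec d⁆
        rw [← bracket_mul_right hc (hcomm d)]
        exact bracket_congr hc rfl (by rw [map_mul, hsec, hsec, hsec, Subgroup.coe_mul]) }
  have hfc : ∀ u v : ↥C, Commute (f u) (f v) := fun u v =>
    StemBasic.ker_comm hc (bracket_mem_ker (hcomm v)) (f u)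
  have hfA : f ⟨A, hAC⟩ = 1 := by
    show ⁅a, sec ⟨A, hAC⟩⁆ = 1
    rw [bracket_congr hc (a := a) (b := sec ⟨A, hAC⟩) (a' := a) (b' := a) rfl
      (by rw [hsec, ha]), commutatorElement_self]
  have hfP : ∀ p : PSL2 K, f (e.symm (1, p)) = 1 := by
    intro p
    let g : PSL2 K →* Γ := f.comp (e.symm.toMonoidHom.comp (MonoidHom.inr _ _))
    have hg : commutator (PSL2 K) ≤ g.ker := by
      rw [_root_.commutator_def, commutator_le]
      intro u _ v _
      rw [MonoidHom.mem_ker, map_commutatorElement, commutatorElement_eq_one_iff_mul_comm]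
      exact hfc _ _
    rw [PSLSimple.commutator_PSL_eq_top
      (PSLSimple.commutator_SL_fin_eq_top (le_refl 2) fun _ => PSLSimple.exists_sq_ne_one h4)] at hg
    exact hg (mem_top p)
  have hf : ∀ c, f c = 1 := by
    intro c
    have hsimple : IsSimpleGroup (PSL2 K) :=
      PSLSimple.isSimpleGroup_PSL_fin' (le_refl 2) fun _ => h4
    have hnc : ¬ IsMulCommutative (PSL2 K) := fun h =>
      PSLSimple.not_isMulCommutative_PSL_fin (F := K) (le_refl 2) (fun _ => h4) fun u v => h.is_comm.comm u v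
    have hA2 : (e ⟨A, hAC⟩).2 = 1 := by
      have : (e ⟨A, hAC⟩).2 ∈ center (PSL2 K) := mem_center_iff.2 fun w => by
        have h : Commute (⟨A, hAC⟩ : ↥C) (e.symm (1, w)) :=
          Subtype.ext (mem_centralizer_singleton_iff.1 (e.symm (1, w)).2).symm
        have h2 := congrArg Prod.snd (h.map e.toMonoidHom).eq
        simpa using h2.symm
      rwa [center_simple hnc, mem_bot] at this
    have h1 : (e ⟨A, hAC⟩).1 ≠ 1 := fun h => by
      have h0 : (⟨A, hAC⟩ : ↥C) = 1 := e.injective (by rw [map_one]; exact Prod.ext h hA2)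
      exact ReeCentralizer17.av_ne_one X hav (congrArg (fun x : ↥C => ((x : ↥X.G1) : GL chevG2.Idx K)) h0)
    have key : ∀ x : Multiplicative (ZMod 2) × PSL2 K, f (e.symm x) = 1 := by
      rintro ⟨ε, p⟩
      have hsplit : ((ε, p) : Multiplicative (ZMod 2) × PSL2 K) = (ε, 1) * (1, p) := by simp
      rw [hsplit, map_mul, map_mul, hfP, mul_one]
      rcases ReeCentralizer17.zmod2_cases ε.toAdd with h | h
      · rw [show ((ε, 1) : Multiplicative (ZMod 2) × PSL2 K) = 1 from Prod.ext h rfl, map_one, map_one]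
      · have : ((ε, 1) : Multiplicative (ZMod 2) × PSL2 K) = e ⟨A, hAC⟩ := by
          refine Prod.ext (h.trans ?_) hA2.symm
          rcases ReeCentralizer17.zmod2_cases (e ⟨A, hAC⟩).1.toAdd with h' | h'
          · exact absurd h' h1
          · exact h'.symm
        rw [this, e.symm_apply_apply, hfA]
    have := key (e c)
    rwa [e.symm_apply_apply] at this
  -- the preimage of a Sylow subgroup is commutative
  let S : Sylow 2 ↥X.G1 := default
  obtain ⟨-, hS2⟩ := ReeCentralizer17.sylow_two X hav hK S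
  have hbr : ∀ x y : Γ, σ x ∈ (S : Subgroup ↥X.G1) → σ y ∈ (S : Subgroup ↥X.G1) → ⁅x, y⁆ = 1 := by
    intro x y hx hy
    by_cases hx1 : σ x = 1
    · rw [commutatorElement_eq_one_iff_mul_comm]
      exact (StemBasic.ker_comm hc hx1 y).symm
    obtain ⟨g', hg'⟩ := isConj_iff.1 (one_class hm hK X (hS2 _ hx) hx1)
    obtain ⟨g, rfl⟩ := hs g'
    have hxy : Commute (σ x) (σ y) := by
      have h := hS2 _ (mul_mem hx hy)
      show σ x * σ y = σ y * σ x
      calc σ x * σ y = (σ x * σ y)⁻¹ := (inv_eq_of_mul_eq_one_right h).symm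
        _ = σ y * σ x := by
          rw [mul_inv_rev, inv_eq_of_mul_eq_one_right (hS2 _ hy), inv_eq_of_mul_eq_one_right (hS2 _ hx)]
    have hcC : (σ g)⁻¹ * σ y * σ g ∈ C := by
      rw [mem_centralizer_singleton_iff]
      rw [← hg'] at hxy
      calc (σ g)⁻¹ * σ y * σ g * A
          = (σ g)⁻¹ * (σ y * (σ g * A * (σ g)⁻¹)) * σ g := by group
        _ = A * ((σ g)⁻¹ * σ y * σ g) := by rw [← hxy.eq]; group; rfl
    have hga : Commute (σ a) (σ (sec ⟨_, hcC⟩)) := hcomm _
    rw [bracket_conj hc g hga (a' := x) (b' := y) (by rw [map_mul, map_mul, map_inv, ha, hg'])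
      (by rw [map_mul, map_mul, map_inv, hsec]; group)]
    exact hf ⟨_, hcC⟩
  have hz1 : z = 1 := StemBasic.eq_one_of_kerFree hσ (kerFree_of_bracket hbr) hz
    (by rw [ho, Nat.prime_two.coprime_iff_not_dvd]; exact S.not_dvd_index)
  rw [hz1, orderOf_one] at ho
  exact absurd ho (by norm_num)

theorem ker_eq_bot [Finite Γ] {m : ℕ} (hm : 1 ≤ m) (hK : Fintype.card K = 3 ^ (2 * m + 1))
    (hX : X.e = 3 ^ m) (hσ : Cfsg.IsStemExtension σ) : σ.ker = ⊥ := by
  refine StemBasic.ker_eq_bot_of_primes fun ℓ hl z hz ho => ?_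
  rcases lt_or_ge 3 ℓ with h3 | h3
  · have : Fact ℓ.Prime := ⟨hl⟩
    let P : Sylow ℓ ↥X.G1 := default
    have hcyc := ReeSylow17.cyclic_p X h3 hK P
    obtain ⟨g₀, hg₀⟩ := IsCyclic.exists_generator (α := (P : Subgroup ↥X.G1))
    obtain ⟨g, hg⟩ : ∃ g, zpowers g = (P : Subgroup ↥X.G1) := by
      refine ⟨g₀, le_antisymm (zpowers_le.2 g₀.2) fun x hx => ?_⟩
      obtain ⟨k, hk⟩ := mem_zpowers_iff.1 (hg₀ ⟨x, hx⟩)
      exact mem_zpowers_iff.2 ⟨k, by simpa using congrArg Subtype.val hk⟩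
    have hz1 : z = 1 := StemBasic.eq_one_of_kerFree hσ (StemBasic.kerFree_zpowers σ hσ.2.1 g) hz
      (by rw [ho, hl.coprime_iff_not_dvd, hg]; exact P.not_dvd_index)
    rw [hz1, orderOf_one] at ho
    exact hl.ne_one ho.symm
  · have h2 := hl.two_le
    rcases (show ℓ = 2 ∨ ℓ = 3 by omega) with rfl | rfl
    · exact two_part hm hK hσ hz ho
    · exact ReeStemThree86.three_part hm hK hX hσ.1 hσ.2.1 hσ.2.2 hz ho

end Cfsg.Agent.ReeStem86
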