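import Cfsg.Agent.Lib.ReeBorel86
import Cfsg.Agent.Lib.ReeTorus17
import Cfsg.Agent.Lib.ReeSylow17
import Cfsg.Agent.Lib.StemPairing
import Cfsg.Agent.Lib.StemWeight86

/-!
The 3-part of the Schur multiplier of `²G₂(q)`, `q ≥ 27`, is trivial.
-/

set_option autoImplicit false
set_option linter.unusedSectionVars false
set_option maxRecDepth 20000

namespace Cfsg.Agent.ReeStemThree86

open Cfsg.Lie Cfsg.Agent.ReeInstance17 Cfsg.Agent.ReeBorel86 Cfsg.Agent.StemPairing
open Cfsg.Agent.TwistAutRigid Subgroup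
open scoped commutatorElement

variable {K : Type*} [Field K] [Fintype K] [CharP K 3] {X : Ctx K}

theorem full (X : Ctx K) : Full X := ReeTorus17.tor_mem X

/-! ### the middle and last layer -/

/-- `(u, v) ↦` the element with coordinates `0`, `u`, `v` -/
noncomputable def phiHom (X : Ctx K) : Multiplicative (K × K) →* ↥X.G1 where
  toFun p := gu X 0 p.toAdd.1 p.toAdd.2
  map_one' := gu_zero X
  map_mul' p r := (gu_mul_zero X 0 _ _ _ _).symm

theorem phi_mem (u v : K) : gu X 0 u v ∈ (phiHom X).range := ⟨Multiplicative.ofAdd (u, v), rfl⟩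

theorem comm_mem {g h : ↥X.G1} (hg : g ∈ U1 X.G1) (hh : h ∈ U1 X.G1) : ⁅g, h⁆ ∈ (phiHom X).range := by
  obtain ⟨t, u, v, e⟩ := (mem_U1_iff X).1
    (show ⁅g, h⁆ ∈ U1 X.G1 from mul_mem (mul_mem (mul_mem hg hh) (inv_mem hg)) (inv_mem hh))
  obtain ⟨a, b, c, rfl⟩ := (mem_U1_iff X).1 hg
  obtain ⟨a', b', c', rfl⟩ := (mem_U1_iff X).1 hh
  have h' : gu X t u v * (gu X a' b' c' * gu X a b c) = gu X a b c * gu X a' b' c' := by
    rw [← e, commutatorElement_def]; group
  rw [gu_mul, gu_mul, gu_mul] at h'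
  have ht : t = 0 := by linear_combination (gu_inj X h').1
  rw [e, ht]
  exact phi_mem u v

theorem index_U1 {m : ℕ} (hK : Fintype.card K = 3 ^ (2 * m + 1)) :
    ¬ 3 ∣ (U1 X.G1).index := by
  obtain ⟨h1, h2⟩ := ReeSylow17.three_not_dvd hK
  have hU : U1 X.G1 = ReeSylow17.U0 X := by
    ext y
    exact ⟨fun h => ⟨h, y.2⟩, fun h => h.1⟩
  have h := Subgroup.card_mul_index (ReeSylow17.U0 X)
  rw [ReeSylow17.card_U0, ReeTorus17.card_G1_eq, mul_comm (Fintype.card K - 1), mul_assoc] at h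
  have hpos : 0 < Fintype.card K ^ 3 := pow_pos Fintype.card_pos 3
  rw [hU, Nat.eq_of_mul_eq_mul_left hpos h, Nat.prime_three.dvd_mul]
  tauto

/-! ### exponents -/

theorem exists_pow_ne {E : ℕ} (h0 : 0 < E) (hE : E < Fintype.card K - 1) :
    ∃ l : Kˣ, (l : K) ^ E ≠ 1 := by
  obtain ⟨g, hg⟩ := IsCyclic.exists_generator (α := Kˣ)
  refine ⟨g, fun h => pow_ne_one_of_lt_orderOf h0.ne' ?_ (Units.ext (by simpa using h) : g ^ E = 1)⟩
  rwa [orderOf_eq_card_of_forall_mem_zpowers hg, Nat.card_units, Nat.card_eq_fintype_card]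

section weights

variable {m : ℕ} (hm : 1 ≤ m) (hK : Fintype.card K = 3 ^ (2 * m + 1)) (hX : X.e = 3 ^ m)
variable {M : Type*} [Group M] (B : K → K → M)
  (hl : ∀ x x' y, B (x + x') y = B x y * B x' y) (hr : ∀ x y y', B x (y + y') = B x y * B x y')

include hX in
theorem sgm_pow (t : K) : sgm X t = t ^ 3 ^ (m + 1) := by
  rw [sgm_apply, X.spec, hX, ← pow_mul, ← pow_succ]

include hm hK in
theorem bounds {i : ℕ} (hi : i < 2 * m + 1) :
    (3 ^ i ≤ 3 ^ (2 * m) ∧ 0 < 3 ^ i) ∧ (3 ^ (m + 1) ≤ 3 ^ (2 * m) ∧ 0 < 3 ^ (m + 1)) ∧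
      9 ≤ 3 ^ (2 * m) ∧ Fintype.card K = 3 * 3 ^ (2 * m) :=
  ⟨⟨Nat.pow_le_pow_right (by norm_num) (by omega), pow_pos (by norm_num) _⟩,
    ⟨Nat.pow_le_pow_right (by norm_num) (by omega), pow_pos (by norm_num) _⟩,
    (by norm_num : 9 = 3 ^ 2).le.trans (Nat.pow_le_pow_right (by norm_num) (by omega)),
    by rw [hK, pow_succ, mul_comm]⟩

include hK hl hr in
/-- the pairing vanishes once its invariance is an exponent below the order of the units -/
theorem vanish (a b : Kˣ → Kˣ) (hinv : ∀ l x y, B ((a l : K) * x) ((b l : K) * y) = B x y)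
    (hgen : ∀ S : Subring K, (∀ l, (a l : K) ∈ S) → S = ⊤) (E : ℕ → ℕ)
    (hE : ∀ i < 2 * m + 1, 0 < E i ∧ E i < Fintype.card K - 1 ∧
      ∀ l, (a l : K) ^ 3 ^ i * (b l : K) = (l : K) ^ E i) (x y : K) : B x y = 1 := by
  have : Fact (Nat.Prime 3) := ⟨Nat.prime_three⟩
  refine StemWeight86.pairing_eq_one hK B hl hr a b hinv hgen (fun i hi => ?_) x y
  obtain ⟨h0, hlt, he⟩ := hE i hi
  obtain ⟨l, hl'⟩ := exists_pow_ne h0 hlt
  exact ⟨l, by rw [he]; exact hl'⟩

theorem gen_id (S : Subring K) (h : ∀ l : Kˣ, (id l : K) ∈ S) : S = ⊤ :=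
  eq_top_iff.2 fun z _ => by
    rcases eq_or_ne z 0 with rfl | hz
    · exact S.zero_mem
    · exact h (Units.mk0 z hz)

include hm hK hl hr in
/-- equal linear weights -/
theorem vanish_id (hinv : ∀ l : Kˣ, ∀ x y, B ((l : K) * x) ((l : K) * y) = B x y) (x y : K) :
    B x y = 1 := by
  refine vanish hK B hl hr id id hinv gen_id (fun i => 3 ^ i + 1) (fun i hi => ?_) x y
  obtain ⟨h1, -, h3, h4⟩ := bounds hm hK hi
  exact ⟨by omega, by omega, fun l => (pow_succ _ _).symm⟩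

include hm hK hX hl hr in
/-- the weights of the first and last layer -/
theorem vanish_ac (hinv : ∀ l : Kˣ, ∀ x y, B ((l : K) * x) ((cpar X l : K) * y) = B x y) (x y : K) :
    B x y = 1 := by
  refine vanish hK B hl hr id (cpar X) hinv gen_id (fun i => 3 ^ i + 2 + 3 ^ (m + 1))
    (fun i hi => ?_) x y
  obtain ⟨h1, h2, h3, h4⟩ := bounds hm hK hi
  refine ⟨by omega, by omega, fun l => ?_⟩
  rw [cpar_val, sgm_pow hX, id, ← mul_assoc, ← pow_add, ← pow_add]

include hm hK hX hl hr in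
/-- the weights of the first and middle layer -/
theorem vanish_ab (hinv : ∀ l : Kˣ, ∀ x y, B ((l : K) * x) (wu X l * y) = B x y) (x y : K) :
    B x y = 1 := by
  refine vanish hK B hl hr id (fun l => Units.mk0 (wu X l) (wu_ne X l)) hinv gen_id
    (fun i => 3 ^ i + 1 + 3 ^ (m + 1)) (fun i hi => ?_) x y
  obtain ⟨h1, h2, h3, h4⟩ := bounds hm hK hi
  refine ⟨by omega, by omega, fun l => ?_⟩
  rw [Units.val_mk0, wu, sgm_pow hX, id, ← mul_assoc, ← pow_succ, ← pow_add]

include hm hK hl hr in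
/-- the weight of the middle layer -/
theorem vanish_bb (hinv : ∀ l : Kˣ, ∀ x y, B (wu X l * x) (wu X l * y) = B x y) (x y : K) :
    B x y = 1 := by
  refine vanish hK B hl hr (fun l => l ^ 2) (fun l => l ^ 2) (fun l u v => ?_) ?_
    (fun i => 2 * 3 ^ i + 2) (fun i hi => ?_) x y
  · have hl0 : (l : K) ≠ 0 := l.ne_zero
    have hs0 : sgm X (l : K) ≠ 0 := by simpa using hl0
    have hw : wu X (Units.mk0 (sgm X (l : K) / l) (div_ne_zero hs0 hl0)) = (l : K) ^ 2 := by
      rw [wu, Units.val_mk0, map_div₀, sgm_sgm]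
      field_simp
    rw [Units.val_pow_eq_pow_val, ← hw]
    exact hinv _ u v
  · intro S hS
    refine StemWeight86.subring_top_of_sq ?_ fun z hz => ?_
    · exact fun h => absurd ((CharP.cast_eq_zero_iff K 3 2).1 (by exact_mod_cast h)) (by norm_num)
    · simpa using hS (Units.mk0 z hz)
  · obtain ⟨h1, -, h3, h4⟩ := bounds hm hK hi
    refine ⟨by omega, by omega, fun l => ?_⟩
    rw [Units.val_pow_eq_pow_val, ← pow_mul, ← pow_add]

include hm hK hX hl hr in
/-- the weights of the last and middle layer -/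
theorem vanish_cb (hinv : ∀ l : Kˣ, ∀ x y, B ((cpar X l : K) * x) (wu X l * y) = B x y) (x y : K) :
    B x y = 1 := by
  refine vanish hK B hl hr id
    (fun c => Units.mk0 (sgm X (c : K) / c) (div_ne_zero (by simp) c.ne_zero))
    (fun c u v => ?_) gen_id (fun i => 3 ^ i + 3 ^ (m + 1) - 1) (fun i hi => ?_) x y
  · have hc : (c : K) ≠ 0 := c.ne_zero
    have hs : sgm X (c : K) ≠ 0 := by simpa using hc
    have hw : wu X (c ^ 2 * (Units.map (sgm X).toMonoidHom c)⁻¹) = sgm X (c : K) / c := by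
      rw [wu]
      simp only [Units.val_mul, Units.val_pow_eq_pow_val, map_mul, map_pow, Units.val_inv_eq_inv_val,
        Units.coe_map, RingHom.toMonoidHom_eq_coe, MonoidHom.coe_coe, map_inv₀, sgm_sgm]
      field_simp
    rw [Units.val_mk0, ← hw]
    have := hinv (c ^ 2 * (Units.map (sgm X).toMonoidHom c)⁻¹) u v
    rwa [cpar_surj] at this
  · obtain ⟨h1, h2, h3, h4⟩ := bounds hm hK hi
    have hp : 1 ≤ 3 ^ (m + 1) := Nat.one_le_pow _ _ (by norm_num)
    refine ⟨by omega, by omega, fun c => ?_⟩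
    have hc : (c : K) ≠ 0 := c.ne_zero
    rw [Units.val_mk0, sgm_pow hX, id, show 3 ^ i + 3 ^ (m + 1) - 1 = 3 ^ i + (3 ^ (m + 1) - 1) by omega,
      pow_add (c : K) (3 ^ i)]
    congr 1
    rw [div_eq_iff hc, ← pow_succ, Nat.sub_add_cancel hp]

end weights

/-! ### the lifts -/

section stem

variable {m : ℕ} (hm : 1 ≤ m) (hK : Fintype.card K = 3 ^ (2 * m + 1)) (hX : X.e = 3 ^ m)
variable {Γ : Type*} [Group Γ] {σ : Γ →* ↥X.G1} (hs : Function.Surjective σ)
  (hc : σ.ker ≤ Subgroup.center Γ)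

/-- a lift of `gu t u v` -/
noncomputable def L (t u v : K) : Γ := Function.surjInv hs (gu X t u v)

theorem L_spec (t u v : K) : σ (L hs t u v) = gu X t u v := Function.surjInv_eq hs _

/-- a lift of a torus element -/
noncomputable def D (l : Kˣ) : Γ := Function.surjInv hs (T (full X) l)

theorem D_spec (l : Kˣ) : σ (D hs l) = T (full X) l := Function.surjInv_eq hs _

theorem D_conj (l : Kˣ) (t u v : K) : σ (D hs l * L hs t u v * (D hs l)⁻¹) =
    σ (L hs ((l : K) * t) (wu X l * u) ((cpar X l : K) * v)) := by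
  rw [map_mul, map_mul, map_inv, D_spec, L_spec, L_spec, T_conj]

theorem comm_last (t u v w : K) : Commute (σ (L hs t u v)) (σ (L hs 0 0 w)) := by
  rw [L_spec, L_spec]
  show _ * _ = _ * _
  rw [gu_mul_zero, gu_zero_mul]
  simp [add_comm]

theorem comm_phi (u v u' v' : K) : Commute (σ (L hs 0 u v)) (σ (L hs 0 u' v')) := by
  rw [L_spec, L_spec]
  show _ * _ = _ * _
  rw [gu_mul_zero, gu_mul_zero, add_comm u, add_comm v]

theorem L_add (u u' v v' : K) : σ (L hs 0 (u + u') (v + v')) = σ (L hs 0 u v * L hs 0 u' v') := by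
  rw [map_mul, L_spec, L_spec, L_spec, gu_mul_zero]

theorem L_split (t u v : K) : σ (L hs t u v) = σ (L hs t 0 0 * L hs 0 u 0 * L hs 0 0 v) := by
  rw [map_mul, map_mul, L_spec, L_spec, L_spec, L_spec, ← gu_split]

include hm hK hc in
theorem cc_one (v w : K) : ⁅L hs 0 0 v, L hs 0 0 w⁆ = 1 := by
  refine vanish_id hm hK (fun v w => ⁅L hs 0 0 v, L hs 0 0 w⁆) ?_ ?_ ?_ v w
  · intro x x' y
    show _ = ⁅L hs 0 0 x, L hs 0 0 y⁆ * ⁅L hs 0 0 x', L hs 0 0 y⁆
    rw [← bracket_mul_left hc (comm_last hs 0 0 x' y)]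
    exact bracket_congr hc (by rw [← L_add, add_zero]) rfl
  · intro x y y'
    show _ = ⁅L hs 0 0 x, L hs 0 0 y⁆ * ⁅L hs 0 0 x, L hs 0 0 y'⁆
    rw [← bracket_mul_right hc (comm_last hs 0 0 x y')]
    exact bracket_congr hc rfl (by rw [← L_add, add_zero])
  · intro c x y
    refine bracket_conj hc (D hs (c ^ 2 * (Units.map (sgm X).toMonoidHom c)⁻¹))
      (comm_last hs 0 0 x y) ?_ ?_ <;>
    · rw [D_conj, mul_zero, mul_zero, cpar_surj]

include hm hK hX hc in
theorem cb_one (v u : K) : ⁅L hs 0 0 v, L hs 0 u 0⁆ = 1 := by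
  refine vanish_cb hm hK hX (fun v u => ⁅L hs 0 0 v, L hs 0 u 0⁆) ?_ ?_ ?_ v u
  · intro x x' y
    show _ = ⁅L hs 0 0 x, L hs 0 y 0⁆ * ⁅L hs 0 0 x', L hs 0 y 0⁆
    rw [← bracket_mul_left hc (comm_phi hs 0 x' y 0)]
    exact bracket_congr hc (by rw [← L_add, add_zero]) rfl
  · intro x y y'
    show _ = ⁅L hs 0 0 x, L hs 0 y 0⁆ * ⁅L hs 0 0 x, L hs 0 y' 0⁆
    rw [← bracket_mul_right hc (comm_phi hs 0 x y' 0)]
    exact bracket_congr hc rfl (by rw [← L_add, add_zero])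
  · intro l x y
    refine bracket_conj hc (D hs l) (comm_phi hs 0 x y 0) ?_ ?_ <;>
    · rw [D_conj]; simp

include hm hK hc in
theorem bb_one (u u' : K) : ⁅L hs 0 u 0, L hs 0 u' 0⁆ = 1 := by
  refine vanish_bb (X := X) hm hK (fun u u' => ⁅L hs 0 u 0, L hs 0 u' 0⁆) ?_ ?_ ?_ u u'
  · intro x x' y
    show _ = ⁅L hs 0 x 0, L hs 0 y 0⁆ * ⁅L hs 0 x' 0, L hs 0 y 0⁆
    rw [← bracket_mul_left hc (comm_phi hs x' 0 y 0)]
    exact bracket_congr hc (by rw [← L_add, add_zero]) rfl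
  · intro x y y'
    show _ = ⁅L hs 0 x 0, L hs 0 y 0⁆ * ⁅L hs 0 x 0, L hs 0 y' 0⁆
    rw [← bracket_mul_right hc (comm_phi hs x 0 y' 0)]
    exact bracket_congr hc rfl (by rw [← L_add, add_zero])
  · intro l x y
    refine bracket_conj hc (D hs l) (comm_phi hs x 0 y 0) ?_ ?_ <;>
    · rw [D_conj]; simp

include hm hK hX hs hc in
theorem phi_one {x y : Γ} (hx : σ x ∈ (phiHom X).range) (hy : σ y ∈ (phiHom X).range) :
    Commute x y := by
  obtain ⟨⟨u, v⟩, e⟩ := hx
  obtain ⟨⟨u', v'⟩, e'⟩ := hy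
  have hb : ∀ a b, Commute (L hs 0 a 0) (L hs 0 b 0) := fun a b =>
    commutatorElement_eq_one_iff_mul_comm.1 (bb_one hm hK hs hc a b)
  have hcb : ∀ a b, Commute (L hs 0 0 a) (L hs 0 b 0) := fun a b =>
    commutatorElement_eq_one_iff_mul_comm.1 (cb_one hm hK hX hs hc a b)
  have hcc : ∀ a b, Commute (L hs 0 0 a) (L hs 0 0 b) := fun a b =>
    commutatorElement_eq_one_iff_mul_comm.1 (cc_one hm hK hs hc a b)
  refine commutatorElement_eq_one_iff_mul_comm.1 ?_
  rw [bracket_congr hc (a' := L hs 0 u 0 * L hs 0 0 v) (b' := L hs 0 u' 0 * L hs 0 0 v')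
    (by rw [← e, map_mul, L_spec, L_spec, gu_mul_zero, add_zero, zero_add]; rfl)
    (by rw [← e', map_mul, L_spec, L_spec, gu_mul_zero, add_zero, zero_add]; rfl),
    commutatorElement_eq_one_iff_mul_comm]
  exact ((hb u u').mul_right (hcb v' u).symm).mul_left ((hcb v u').mul_right (hcc v v'))

include hm hK hX hs hc in
theorem central_last {x : Γ} {w : K} (hx : σ x = gu X 0 0 w) {g : Γ} (hg : σ g ∈ U1 X.G1) :
    Commute g x := by
  have hac : ∀ t w, ⁅L hs t 0 0, L hs 0 0 w⁆ = 1 := by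
    intro t w
    refine vanish_ac hm hK hX (fun t w => ⁅L hs t 0 0, L hs 0 0 w⁆) ?_ ?_ ?_ t w
    · intro a a' y
      show _ = ⁅L hs a 0 0, L hs 0 0 y⁆ * ⁅L hs a' 0 0, L hs 0 0 y⁆
      set U := -(0 + 0 - sgm X a' * a)
      set V := -(0 + 0 - a' * 0 - sgm X a' * a ^ 2 + sgm X a' * a * a')
      have e : σ (L hs (a + a') 0 0) = σ (L hs a 0 0 * L hs a' 0 0 * L hs 0 U V) := by
        rw [map_mul, map_mul, L_spec, L_spec, L_spec, L_spec, gu_mul, gu_mul_zero]
        simp [U, V]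
      have h0 : ⁅L hs 0 U V, L hs 0 0 y⁆ = 1 := commutatorElement_eq_one_iff_mul_comm.2
        (phi_one hm hK hX hs hc (by rw [L_spec]; exact phi_mem _ _) (by rw [L_spec]; exact phi_mem _ _)).eq
      rw [bracket_congr hc e rfl, bracket_mul_left hc (comm_last hs 0 U V y), h0, mul_one,
        bracket_mul_left hc (comm_last hs a' 0 0 y)]
    · intro a y y'
      show _ = ⁅L hs a 0 0, L hs 0 0 y⁆ * ⁅L hs a 0 0, L hs 0 0 y'⁆
      rw [← bracket_mul_right hc (comm_last hs a 0 0 y')]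
      exact bracket_congr hc rfl (by rw [← L_add, add_zero])
    · intro l a y
      refine bracket_conj hc (D hs l) (comm_last hs a 0 0 y) ?_ ?_ <;>
      · rw [D_conj]; simp
  obtain ⟨t, u, v, e⟩ := (mem_U1_iff X).1 hg
  refine commutatorElement_eq_one_iff_mul_comm.1 ?_
  rw [bracket_congr hc (a' := L hs t 0 0 * L hs 0 u 0 * L hs 0 0 v) (b' := L hs 0 0 w)
    (by rw [← L_split, L_spec, e]) (by rw [hx, L_spec]), commutatorElement_eq_one_iff_mul_comm]
  have ha : Commute (L hs t 0 0) (L hs 0 0 w) := commutatorElement_eq_one_iff_mul_comm.1 (hac t w)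
  have hb : Commute (L hs 0 0 w) (L hs 0 u 0) :=
    commutatorElement_eq_one_iff_mul_comm.1 (cb_one hm hK hX hs hc w u)
  have hv : Commute (L hs 0 0 v) (L hs 0 0 w) :=
    commutatorElement_eq_one_iff_mul_comm.1 (cc_one hm hK hs hc v w)
  exact (ha.mul_left hb.symm).mul_left hv

set_option maxHeartbeats 1000000 in
include hm hK hX hs hc in
theorem three_part [Finite Γ] (hd : σ.ker ≤ commutator Γ) {z : Γ} (hz : σ z = 1)
    (ho : orderOf z = 3) : False := by
  classical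
  set Ut : Subgroup Γ := (U1 X.G1).comap σ with hUt
  have hzU : z ∈ (commutator Ut).map Ut.subtype := by
    refine StemBasic.mem_commutator_of_index (by show σ z ∈ U1 X.G1; rw [hz]; exact one_mem _)
      (hc hz) (hd hz) ?_
    rw [hUt, StemBasic.index_comap hs, ho, Nat.prime_three.coprime_iff_not_dvd]
    exact index_U1 hK
  set P : Subgroup Γ := (phiHom X).range.comap σ with hP
  have hPU : P ≤ Ut := fun x hx => by
    obtain ⟨p, hp⟩ := hx
    show σ x ∈ U1 X.G1
    rw [← hp]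
    exact gu_mem_U X _ _ _
  let instCG : CommGroup P := { (inferInstance : Group P) with
    mul_comm := fun x y => Subtype.ext (phi_one hm hK hX hs hc x.2 y.2).eq }
  -- conjugation by the torus
  have hconjP : ∀ (l : Kˣ) (x : Γ), x ∈ P → D hs l * x * (D hs l)⁻¹ ∈ P := by
    rintro l x ⟨⟨u, v⟩, hx⟩
    refine ⟨Multiplicative.ofAdd (wu X l * u, (cpar X l : K) * v), ?_⟩
    rw [map_mul, map_mul, map_inv, D_spec, ← hx]
    show gu X 0 (wu X l * u) ((cpar X l : K) * v) = T _ l * gu X 0 u v * (T _ l)⁻¹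
    rw [T_conj, mul_zero]
  let cj : Kˣ → P →* P := fun l =>
    { toFun := fun x => ⟨D hs l * x * (D hs l)⁻¹, hconjP l x x.2⟩
      map_one' := Subtype.ext (by simp)
      map_mul' := fun x y => Subtype.ext (by simp) }
  let N : P →* P := ∏ l : Kˣ, cj l
  have hN : ∀ x, N x = ∏ l : Kˣ, cj l x := fun x => MonoidHom.finsetProd_apply _ _ _
  have hcjcj : ∀ k l (x : P), cj k (cj l x) = cj (k * l) x := by
    intro k l x
    apply Subtype.ext
    show D hs k * (D hs l * x * (D hs l)⁻¹) * (D hs k)⁻¹ = D hs (k * l) * x * (D hs (k * l))⁻¹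
    obtain ⟨w, hw, he⟩ := StemBasic.exists_ker_mul (σ := σ) (a := D hs k * D hs l) (b := D hs (k * l))
      (by rw [map_mul, D_spec, D_spec, D_spec, map_mul])
    have e1 : w * (x : Γ) * w⁻¹ = (x : Γ) := by
      rw [← StemBasic.ker_comm hc hw (x : Γ), mul_inv_cancel_right]
    calc D hs k * (D hs l * x * (D hs l)⁻¹) * (D hs k)⁻¹
        = (D hs k * D hs l) * x * (D hs k * D hs l)⁻¹ := by simp only [mul_inv_rev, mul_assoc]
      _ = D hs (k * l) * (w * x * w⁻¹) * (D hs (k * l))⁻¹ := by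
          rw [he]; simp only [mul_inv_rev, mul_assoc]
      _ = _ := by rw [e1]
  have hNinv : ∀ l x, N (cj l x) = N x := by
    intro l x
    rw [hN, hN]
    simp only [hcjcj]
    exact Equiv.prod_comp (Equiv.mulRight l) fun k => cj k x
  -- the first and middle layer
  have hf2mem : ∀ t u, ⁅L hs t 0 0, L hs 0 u 0⁆ ∈ P := fun t u => by
    show σ _ ∈ (phiHom X).range
    rw [map_commutatorElement, L_spec, L_spec]
    exact comm_mem (gu_mem_U X _ _ _) (gu_mem_U X _ _ _)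
  have hf2img : ∀ t u, σ ⁅L hs t 0 0, L hs 0 u 0⁆ = gu X 0 0 (t * u) := fun t u => by
    rw [map_commutatorElement, L_spec, L_spec, ← commutatorElement_inv, comm_zu, inv_eq_iff_mul_eq_one,
      gu_mul_zero]
    simp [gu_zero]
  have key : ∀ a b c : Γ, ⁅a * b, c⁆ = a * ⁅b, c⁆ * a⁻¹ * ⁅a, c⁆ := fun a b c => by
    simp only [commutatorElement_def]; group
  have key' : ∀ a b c : Γ, ⁅a, b * c⁆ = ⁅a, b⁆ * (b * ⁅a, c⁆ * b⁻¹) := fun a b c => by
    simp only [commutatorElement_def]; group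
  have hU : ∀ t u v, σ (L hs t u v) ∈ U1 X.G1 := fun t u v => by rw [L_spec]; exact gu_mem_U X t u v
  let f2 : K → K → P := fun t u => N ⟨_, hf2mem t u⟩
  have hf2 : ∀ t u, f2 t u = 1 := by
    refine vanish_ab (X := X) hm hK hX f2 ?_ ?_ ?_
    · intro a a' y
      show N _ = N _ * N _
      rw [← map_mul]
      congr 1
      apply Subtype.ext
      show ⁅L hs (a + a') 0 0, L hs 0 y 0⁆ = ⁅L hs a 0 0, L hs 0 y 0⁆ * ⁅L hs a' 0 0, L hs 0 y 0⁆
      set R := (L hs a 0 0 * L hs a' 0 0)⁻¹ * L hs (a + a') 0 0 with hR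
      have hRP : σ R ∈ (phiHom X).range := by
        refine ⟨Multiplicative.ofAdd (-(0 + 0 - sgm X a' * a),
          -(0 + 0 - a' * 0 - sgm X a' * a ^ 2 + sgm X a' * a * a')), ?_⟩
        rw [hR, map_mul, map_inv, map_mul, L_spec, L_spec, L_spec, eq_inv_mul_iff_mul_eq, gu_mul]
        show gu X _ _ _ * gu X 0 _ _ = _
        rw [gu_mul_zero]; simp
      have hsplit : L hs (a + a') 0 0 = L hs a 0 0 * L hs a' 0 0 * R := by rw [hR]; group
      have h1 : ⁅R, L hs 0 y 0⁆ = 1 := commutatorElement_eq_one_iff_mul_comm.2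
        (phi_one hm hK hX hs hc hRP (by rw [L_spec]; exact phi_mem _ _)).eq
      rw [hsplit, key, h1, mul_one, mul_inv_cancel, one_mul, key,
        (central_last hm hK hX hs hc (hf2img a' y) (hU a 0 0)).eq, mul_inv_cancel_right]
      exact (phi_one hm hK hX hs hc (hf2mem a' y) (hf2mem a y)).eq
    · intro a y y'
      show N _ = N _ * N _
      rw [← map_mul]
      congr 1
      apply Subtype.ext
      show ⁅L hs a 0 0, L hs 0 (y + y') 0⁆ = ⁅L hs a 0 0, L hs 0 y 0⁆ * ⁅L hs a 0 0, L hs 0 y' 0⁆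
      rw [bracket_congr hc (a := L hs a 0 0) (b := L hs 0 (y + y') 0) (a' := L hs a 0 0)
        (b' := L hs 0 y 0 * L hs 0 y' 0) rfl (by rw [← L_add, add_zero]), key',
        (central_last hm hK hX hs hc (hf2img a y') (hU 0 y 0)).eq, mul_inv_cancel_right]
    · intro l a y
      show N _ = N _
      rw [← hNinv l ⟨_, hf2mem a y⟩]
      congr 1
      apply Subtype.ext
      show ⁅L hs ((l : K) * a) 0 0, L hs 0 (wu X l * y) 0⁆ = D hs l * ⁅_, _⁆ * (D hs l)⁻¹
      rw [conjugate_commutatorElement]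
      exact bracket_congr hc (by rw [D_conj]; simp) (by rw [D_conj]; simp)
  -- conjugation by elements of the preimage of `U`
  have hUP : ∀ g ∈ Ut, ∀ x ∈ P, g * x * g⁻¹ ∈ P := by
    intro g hg x hx
    have h := mul_mem (comm_mem (g := σ g) (h := σ x) hg (hPU hx)) hx
    rw [← map_commutatorElement, ← map_mul,
      show ⁅g, x⁆ * x = g * x * g⁻¹ by rw [commutatorElement_def]; group] at h
    exact h
  have hNconj : ∀ g (hg : g ∈ Ut) (x : P), N ⟨g * x * g⁻¹, hUP g hg x x.2⟩ = N x := by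
    intro g hg x
    obtain ⟨t, u', v', eg⟩ := (mem_U1_iff X).1 hg
    obtain ⟨⟨u, v⟩, ex⟩ := x.2
    have hb : ⁅g, (x : Γ)⁆ = ⁅L hs t 0 0, L hs 0 u 0⁆ := by
      set R := L hs 0 u' 0 * L hs 0 0 v'
      have hRP : σ R ∈ (phiHom X).range := by
        rw [map_mul, L_spec, L_spec, gu_mul_zero]; exact phi_mem _ _
      have hSP : σ (L hs 0 u 0 * L hs 0 0 v) ∈ (phiHom X).range := by
        rw [map_mul, L_spec, L_spec, gu_mul_zero]; exact phi_mem _ _
      rw [bracket_congr hc (a := g) (b := (x : Γ)) (a' := L hs t 0 0 * R)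
        (b' := L hs 0 u 0 * L hs 0 0 v)
        (by rw [eg, ← mul_assoc, ← L_split, L_spec])
        (by rw [← ex, map_mul, L_spec, L_spec, gu_mul_zero, add_zero, zero_add]; rfl),
        key, commutatorElement_eq_one_iff_mul_comm.2 (phi_one hm hK hX hs hc hRP hSP).eq, mul_one,
        mul_inv_cancel, one_mul, key', commutatorElement_eq_one_iff_mul_comm.2
          (central_last hm hK hX hs hc (L_spec hs 0 0 v) (hU t 0 0)).eq, mul_one, mul_inv_cancel,
        mul_one]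
    have he : (⟨g * x * g⁻¹, hUP g hg x x.2⟩ : P) = ⟨_, hf2mem t u⟩ * x := Subtype.ext (by
      show g * x * g⁻¹ = ⁅L hs t 0 0, L hs 0 u 0⁆ * x
      rw [← hb, commutatorElement_def]; group)
    rw [he, map_mul, show N ⟨_, hf2mem t u⟩ = 1 from hf2 t u, one_mul]
  -- the commutator pairing
  let Q : Ut → Ut → P := fun g h => N ⟨⁅(g : Γ), (h : Γ)⁆, by
    show σ _ ∈ (phiHom X).range
    rw [map_commutatorElement]; exact comm_mem g.2 h.2⟩
  have hQl : ∀ g g' h, Q (g * g') h = Q g h * Q g' h := fun g g' h => by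
    show N _ = N _ * N _
    rw [mul_comm, ← hNconj g g.2 ⟨⁅(g' : Γ), (h : Γ)⁆, _⟩, ← map_mul]
    congr 1
    exact Subtype.ext (key _ _ _)
  have hQsymm : ∀ g h, Q g h = (Q h g)⁻¹ := fun g h => by
    show N _ = (N _)⁻¹
    rw [← map_inv]
    congr 1
    exact Subtype.ext (commutatorElement_inv _ _).symm
  have hQr : ∀ g h h', Q g (h * h') = Q g h * Q g h' := fun g h h' => by
    rw [hQsymm g, hQl, mul_inv, ← hQsymm, ← hQsymm]
  have hQP : ∀ (g h : Ut), (g : Γ) ∈ P → Q g h = 1 := fun g h hg => by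
    show N _ = 1
    have e : (⟨⁅(g : Γ), (h : Γ)⁆, by
        show σ _ ∈ (phiHom X).range
        rw [map_commutatorElement]; exact comm_mem g.2 h.2⟩ : P) =
        ⟨g, hg⟩ * ⟨(h : Γ) * (⟨g, hg⟩⁻¹ : P) * (h : Γ)⁻¹, hUP _ h.2 _ (⟨g, hg⟩⁻¹ : P).2⟩ :=
      Subtype.ext (by
        show ⁅(g : Γ), (h : Γ)⁆ = g * ((h : Γ) * (g : Γ)⁻¹ * (h : Γ)⁻¹)
        rw [commutatorElement_def]; group)
    rw [e, map_mul, hNconj _ h.2, map_inv, mul_inv_cancel]
  let A : K → Ut := fun t => ⟨L hs t 0 0, hU t 0 0⟩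
  have hdec : ∀ (g : Ut) (t u v : K), σ (g : Γ) = gu X t u v → ((A t)⁻¹ * g : Ut).1 ∈ P := by
    intro g t u v e
    show σ ((L hs t 0 0)⁻¹ * g) ∈ (phiHom X).range
    rw [map_mul, map_inv, L_spec, e, gu_split X t u v, mul_assoc, inv_mul_cancel_left, gu_mul_zero]
    exact phi_mem _ _
  let F : K → K → P := fun t t' => Q (A t) (A t')
  have hFl : ∀ a a' y, F (a + a') y = F a y * F a' y := by
    intro a a' y
    have hR : (((A a * A a')⁻¹ * A (a + a') : Ut) : Γ) ∈ P := by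
      refine ⟨Multiplicative.ofAdd (-(0 + 0 - sgm X a' * a),
        -(0 + 0 - a' * 0 - sgm X a' * a ^ 2 + sgm X a' * a * a')), ?_⟩
      show _ = σ ((L hs a 0 0 * L hs a' 0 0)⁻¹ * L hs (a + a') 0 0)
      rw [map_mul, map_inv, map_mul, L_spec, L_spec, L_spec, eq_inv_mul_iff_mul_eq, gu_mul]
      show gu X _ _ _ * gu X 0 _ _ = _
      rw [gu_mul_zero]; simp
    show Q _ _ = Q _ _ * Q _ _
    rw [show A (a + a') = A a * A a' * ((A a * A a')⁻¹ * A (a + a')) by group, hQl, hQl,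
      hQP _ _ hR, mul_one]
  have hFr : ∀ a y y', F a (y + y') = F a y * F a y' := fun a y y' => by
    show Q _ _ = Q _ _ * Q _ _
    rw [hQsymm, show Q (A (y + y')) (A a) = F (y + y') a from rfl, hFl, mul_inv]
    show (Q _ _)⁻¹ * (Q _ _)⁻¹ = _
    rw [← hQsymm, ← hQsymm]
  have hF : ∀ a y, F a y = 1 := by
    refine vanish_id hm hK F hFl hFr fun l a y => ?_
    show N _ = N _
    rw [← hNinv l ⟨⁅((A a : Ut) : Γ), ((A y : Ut) : Γ)⁆, _⟩]
    congr 1
    apply Subtype.ext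
    show ⁅L hs ((l : K) * a) 0 0, L hs ((l : K) * y) 0 0⁆ = D hs l * ⁅_, _⁆ * (D hs l)⁻¹
    rw [conjugate_commutatorElement]
    exact bracket_congr hc (by rw [D_conj]; simp) (by rw [D_conj]; simp)
  have hQ : ∀ g h, Q g h = 1 := by
    intro g h
    obtain ⟨t, u, v, e⟩ := (mem_U1_iff X).1 g.2
    obtain ⟨t', u', v', e'⟩ := (mem_U1_iff X).1 h.2
    rw [show g = A t * ((A t)⁻¹ * g) by group, hQl, hQP _ _ (hdec g t u v e), mul_one,
      show h = A t' * ((A t')⁻¹ * h) by group, hQr, hQsymm _ ((A t')⁻¹ * h),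
      hQP _ _ (hdec h t' u' v' e'), inv_one, mul_one]
    exact hF t t'
  obtain ⟨w, hw, rfl⟩ := hzU
  have hMle : commutator Ut ≤ (N.ker.map P.subtype).comap Ut.subtype := by
    rw [_root_.commutator_def, Subgroup.commutator_le]
    intro g _ h _
    exact ⟨⟨⁅(g : Γ), (h : Γ)⁆, by
      show σ _ ∈ (phiHom X).range
      rw [map_commutatorElement]; exact comm_mem g.2 h.2⟩, hQ g h, rfl⟩
  obtain ⟨x, hx, hxe⟩ := hMle hw
  change (x : Γ) = (w : Γ) at hxe
  have hz' : σ (x : Γ) = 1 := by rw [hxe]; exact hz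
  have hfix : ∀ l, cj l x = x := fun l => Subtype.ext (by
    show D hs l * x * (D hs l)⁻¹ = x
    rw [StemBasic.ker_comm hc hz', mul_inv_cancel_right])
  have hpow : x ^ (Fintype.card K - 1) = 1 := by
    have h1 := hN x
    rw [MonoidHom.mem_ker.1 hx, Finset.prod_congr rfl (fun l _ => hfix l), Finset.prod_const,
      Finset.card_univ, Fintype.card_units] at h1
    exact h1.symm
  have hdvd : orderOf (x : Γ) ∣ Fintype.card K - 1 := by
    refine orderOf_dvd_of_pow_eq_one ?_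
    simpa using congrArg (fun y : P => (y : Γ)) hpow
  rw [hxe, show (w : Γ) = Ut.subtype w from rfl, ho] at hdvd
  exact (ReeSylow17.three_not_dvd hK).1 hdvd

end stem

end Cfsg.Agent.ReeStemThree86
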