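import Mathlib

/-!
Generic lemmas for the local analysis of the small Ree groups: counting conjugates of a
subset whose fusion is controlled by a normalizer, a fixed point lemma for a four group
acting on a group of odd order, and cyclicity criteria.
-/

set_option autoImplicit false

namespace Cfsg.Agent.ReeTools8

open Subgroup

variable {G : Type*} [Group G]

theorem mem_normalizer_of_finite [Finite G] {H : Subgroup G} {g : G}
    (h : ∀ x ∈ H, g * x * g⁻¹ ∈ H) : g ∈ normalizer (H : Set G) := by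
  have hle : H.map (MulAut.conj g).toMonoidHom ≤ H := by
    rintro _ ⟨x, hx, rfl⟩
    exact h x hx
  have heq : H.map (MulAut.conj g).toMonoidHom = H :=
    eq_of_le_of_card_ge hle
      (Nat.card_congr (H.equivMapOfInjective _ (MulAut.conj g).injective).toEquiv).le
  refine mem_normalizer_iff.2 fun x => ⟨h x, fun hx => ?_⟩
  have hx' : g * x * g⁻¹ ∈ H.map (MulAut.conj g).toMonoidHom := by rw [heq]; exact hx
  obtain ⟨y, hy, hyx⟩ := hx'
  have : y = x := (MulAut.conj g).injective hyx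
  exact this ▸ hy

theorem normalizer_le_normalizer_centralizer [Finite G] (S : Set G) :
    normalizer S ≤ normalizer (centralizer S : Set G) := by
  intro g hg
  refine mem_normalizer_of_finite fun x hx => ?_
  rw [mem_centralizer_iff]
  intro s hs
  have h' : g⁻¹ * s * g ∈ S :=
    (mem_set_normalizer_iff.1 hg _).2 (by simpa [mul_assoc] using hs)
  have h2 := mem_centralizer_iff.1 hx _ h'
  calc s * (g * x * g⁻¹) = g * ((g⁻¹ * s * g) * x) * g⁻¹ := by group
    _ = g * (x * (g⁻¹ * s * g)) * g⁻¹ := by rw [h2]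
    _ = g * x * g⁻¹ * s := by group

theorem eq_of_card_eq_cyclic [Finite G] {H K L : Subgroup G} [IsCyclic H] (hK : K ≤ H) (hL : L ≤ H)
    (h : Nat.card K = Nat.card L) : K = L := by
  classical
  have := Fintype.ofFinite H
  obtain ⟨S, hS⟩ : ∃ S, S = (Finset.univ.filter fun a : H => a ^ Nat.card K = 1) := ⟨_, rfl⟩
  have hScard : S.card ≤ Nat.card K := hS ▸ IsCyclic.card_pow_eq_one_le Nat.card_pos
  have key : ∀ A : Subgroup G, A ≤ H → Nat.card A = Nat.card K →
      (Finset.univ.filter fun a : H => (a : G) ∈ A) = S := by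
    intro A hA hAc
    refine Finset.eq_of_subset_of_card_le (fun a ha => ?_) ?_
    · rw [hS, Finset.mem_filter]
      refine ⟨Finset.mem_univ _, Subtype.ext ?_⟩
      have h2 := congrArg Subtype.val
        (pow_card_eq_one' (x := (⟨(a : G), (Finset.mem_filter.1 ha).2⟩ : A)))
      simpa [hAc] using h2
    · refine hScard.trans (le_of_eq ?_)
      rw [← hAc, ← Fintype.card_subtype, ← Nat.card_eq_fintype_card]
      exact Nat.card_congr
        ⟨fun x => ⟨⟨x.1, hA x.2⟩, x.2⟩, fun x => ⟨x.1.1, x.2⟩, fun _ => rfl, fun _ => rfl⟩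
  ext x
  have e := (key K hK rfl).trans (key L hL h.symm).symm
  constructor
  · intro hx
    have := congrArg (⟨x, hK hx⟩ ∈ ·) e
    simp only [Finset.mem_filter, Finset.mem_univ, true_and, eq_iff_iff] at this
    exact this.1 hx
  · intro hx
    have := congrArg (⟨x, hL hx⟩ ∈ ·) e
    simp only [Finset.mem_filter, Finset.mem_univ, true_and, eq_iff_iff] at this
    exact this.2 hx

theorem normalizer_le_of_le_cyclic [Finite G] {H K : Subgroup G} [IsCyclic H] (hK : K ≤ H) :
    normalizer (H : Set G) ≤ normalizer (K : Set G) := by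
  intro g hg
  have hle : K.map (MulAut.conj g).toMonoidHom ≤ H := by
    rintro _ ⟨x, hx, rfl⟩
    exact (mem_normalizer_iff.1 hg x).1 (hK hx)
  have h := eq_of_card_eq_cyclic hle hK
    (Nat.card_congr (K.equivMapOfInjective _ (MulAut.conj g).injective).toEquiv).symm
  refine mem_normalizer_of_finite fun x hx => ?_
  rw [← h]
  exact mem_map_of_mem _ hx

/-- With a cyclic Sylow `p`-subgroup, the subgroups of order `p` are conjugate. -/
theorem exists_conj_mem_zpowers [Finite G] {p : ℕ} [Fact p.Prime]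
    (hc : ∀ P : Sylow p G, IsCyclic (P : Subgroup G))
    {x y : G} (hx : orderOf x = p) (hy : orderOf y = p) :
    ∃ g : G, g * x * g⁻¹ ∈ zpowers y := by
  obtain ⟨P, hP⟩ := IsPGroup.exists_le_sylow (p := p) (P := zpowers x)
    (IsPGroup.of_card (n := 1) (by rw [Nat.card_zpowers, hx, pow_one]))
  obtain ⟨Q, hQ⟩ := IsPGroup.exists_le_sylow (p := p) (P := zpowers y)
    (IsPGroup.of_card (n := 1) (by rw [Nat.card_zpowers, hy, pow_one]))
  obtain ⟨g, rfl⟩ := MulAction.exists_smul_eq G P Q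
  refine ⟨g, ?_⟩
  have := hc (g • P)
  have hgx : g * x * g⁻¹ ∈ ((g • P : Sylow p G) : Subgroup G) := by
    rw [Sylow.smul_def]
    exact smul_mem_pointwise_smul x (MulAut.conj g) _ (hP (mem_zpowers x))
  have h := eq_of_card_eq_cyclic (H := ((g • P : Sylow p G) : Subgroup G))
    (K := zpowers (g * x * g⁻¹)) (L := zpowers y) (zpowers_le.2 hgx) hQ
    (by rw [Nat.card_zpowers, Nat.card_zpowers, hy, show g * x * g⁻¹ = MulAut.conj g x from rfl,
      MulEquiv.orderOf_eq, hx])
  rw [← h]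
  exact mem_zpowers _

/-- Counting the conjugates of a subset `D` whose fusion is controlled by `N`. -/
theorem card_conjUnion [Finite G] (N : Subgroup G) (D : Set G)
    (hD : ∀ g ∈ N, ∀ d ∈ D, g * d * g⁻¹ ∈ D)
    (hTI : ∀ g : G, ∀ d ∈ D, g * d * g⁻¹ ∈ D → g ∈ N) :
    Nat.card {y : G // ∃ g : G, g⁻¹ * y * g ∈ D} * Nat.card N = Nat.card G * Nat.card D := by
  classical
  let c : {y : G // ∃ g : G, g⁻¹ * y * g ∈ D} → G := fun y => y.2.choose
  have hc : ∀ y, (c y)⁻¹ * y.1 * c y ∈ D := fun y => y.2.choose_spec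
  let e : {y : G // ∃ g : G, g⁻¹ * y * g ∈ D} × N → G × D := fun p =>
    (c p.1 * (p.2 : G), ⟨(p.2 : G)⁻¹ * ((c p.1)⁻¹ * p.1.1 * c p.1) * (p.2 : G), by
      simpa using hD (p.2 : G)⁻¹ (N.inv_mem p.2.2) _ (hc p.1)⟩)
  have hbij : Function.Bijective e := by
    constructor
    · rintro ⟨y, n⟩ ⟨y', n'⟩ h
      simp only [e, Prod.mk.injEq, Subtype.mk.injEq] at h
      obtain ⟨h1, h2⟩ := h
      have hy : y.1 = y'.1 := by
        calc y.1 = (c y * n) * ((n : G)⁻¹ * ((c y)⁻¹ * y.1 * c y) * n) * (c y * n)⁻¹ := by group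
          _ = (c y' * n') * ((n' : G)⁻¹ * ((c y')⁻¹ * y'.1 * c y') * n') * (c y' * n')⁻¹ := by
            rw [h2, h1]
          _ = y'.1 := by group
      have hy' : y = y' := Subtype.ext hy
      subst hy'
      exact Prod.ext rfl (Subtype.ext (mul_left_cancel h1))
    · rintro ⟨g, d⟩
      let y : {y : G // ∃ g : G, g⁻¹ * y * g ∈ D} :=
        ⟨g * d.1 * g⁻¹, g, by simp [mul_assoc]⟩
      have hn : (c y)⁻¹ * g ∈ N := hTI _ _ d.2 (by
        have := hc y
        have e1 : (c y)⁻¹ * g * d.1 * ((c y)⁻¹ * g)⁻¹ = (c y)⁻¹ * y.1 * c y := by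
          simp [y]; group
        rw [e1]; exact this)
      refine ⟨(y, ⟨_, hn⟩), ?_⟩
      simp only [e, Prod.mk.injEq]
      refine ⟨mul_inv_cancel_left _ _, Subtype.ext ?_⟩
      simp [y]; group
  have := Nat.card_congr (Equiv.ofBijective e hbij)
  rwa [Nat.card_prod, Nat.card_prod] at this

/-- Orbit-stabiliser for the conjugation action of a subgroup on an element. -/
theorem card_orbit_mul [Finite G] (M : Subgroup G) (x : G) :
    {y : G | ∃ g ∈ M, g * x * g⁻¹ = y}.ncard * Nat.card (M ⊓ centralizer ({x} : Set G) : Subgroup G) =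
      Nat.card M := by
  classical
  let c : {y : G | ∃ g ∈ M, g * x * g⁻¹ = y} → G := fun y => y.2.choose
  have hc : ∀ y, c y ∈ M ∧ c y * x * (c y)⁻¹ = y.1 := fun y => y.2.choose_spec
  let e : {y : G | ∃ g ∈ M, g * x * g⁻¹ = y} × (M ⊓ centralizer ({x} : Set G) : Subgroup G) → M :=
    fun p => ⟨c p.1 * p.2.1, M.mul_mem (hc p.1).1 p.2.2.1⟩
  have hbij : Function.Bijective e := by
    constructor
    · rintro ⟨y, s⟩ ⟨y', s'⟩ h
      have h' : c y * s.1 = c y' * s'.1 := congrArg Subtype.val h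
      have hs : ∀ t : (M ⊓ centralizer ({x} : Set G) : Subgroup G), t.1 * x * t.1⁻¹ = x := fun t => by
        rw [mem_centralizer_singleton_iff.1 t.2.2, mul_inv_cancel_right]
      have hy : y = y' := Subtype.ext <| by
        calc y.1 = c y * (s.1 * x * s.1⁻¹) * (c y)⁻¹ := by rw [hs, (hc y).2]
          _ = (c y * s.1) * x * (c y * s.1)⁻¹ := by group
          _ = (c y' * s'.1) * x * (c y' * s'.1)⁻¹ := by rw [h']
          _ = c y' * (s'.1 * x * s'.1⁻¹) * (c y')⁻¹ := by group
          _ = y'.1 := by rw [hs, (hc y').2]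
      subst hy
      exact Prod.ext rfl (Subtype.ext (mul_left_cancel h'))
    · intro g
      obtain ⟨y, hy⟩ : ∃ y : {y : G | ∃ g ∈ M, g * x * g⁻¹ = y}, y.1 = g.1 * x * g.1⁻¹ :=
        ⟨⟨_, g.1, g.2, rfl⟩, rfl⟩
      refine ⟨(y, ⟨(c y)⁻¹ * g.1, M.mul_mem (M.inv_mem (hc y).1) g.2,
        mem_centralizer_singleton_iff.2 ?_⟩), Subtype.ext (mul_inv_cancel_left _ _)⟩
      have h' : c y * x * (c y)⁻¹ = g.1 * x * g.1⁻¹ := (hc y).2.trans hy
      calc (c y)⁻¹ * g.1 * x = (c y)⁻¹ * (g.1 * x * g.1⁻¹) * g.1 := by group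
        _ = (c y)⁻¹ * (c y * x * (c y)⁻¹) * g.1 := by rw [h']
        _ = x * ((c y)⁻¹ * g.1) := by group
  have h := Nat.card_congr (Equiv.ofBijective e hbij)
  rwa [Nat.card_prod, Nat.card_coe_set_eq] at h

/-- A four group `⟨v, w⟩` acting on an odd order group `K` so that the three fixed point groups
coincide acts trivially. -/
theorem klein_fixed (K : Subgroup G) (hK : ∀ k ∈ K, Odd (orderOf k)) {v w : G}
    (hv : v * v = 1) (hw : w * w = 1) (hvw : v * w = w * v)
    (hKv : ∀ k ∈ K, v * k * v ∈ K) (hKw : ∀ k ∈ K, w * k * w ∈ K)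
    (h1 : ∀ k ∈ K, k * w = w * k → k * v = v * k)
    (h2 : ∀ k ∈ K, k * (v * w) = (v * w) * k → k * v = v * k) :
    ∀ k ∈ K, k * v = v * k := by
  have hvv : ∀ x : G, v * (v * x) = x := fun x => by rw [← mul_assoc, hv, one_mul]
  have hww : ∀ x : G, w * (w * x) = x := fun x => by rw [← mul_assoc, hw, one_mul]
  have key : ∀ b ∈ K, v * b * v = b⁻¹ → b = 1 := by
    intro b hb hbv
    obtain ⟨z, hz⟩ : ∃ z, z = b⁻¹ * (w * b * w) := ⟨_, rfl⟩
    have hzK : z ∈ K := hz ▸ K.mul_mem (K.inv_mem hb) (hKw b hb)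
    obtain ⟨t1, ht1⟩ : ∃ t, t = v * b := ⟨_, rfl⟩
    obtain ⟨t2, ht2⟩ : ∃ t, t = v * (w * b * w) := ⟨_, rfl⟩
    have ht1sq : t1 * t1 = 1 := by
      rw [ht1, ← mul_assoc, hbv, inv_mul_cancel]
    have hwt1 : w * t1 * w = t2 := by
      rw [ht1, ht2, ← mul_assoc w v b, ← hvw]; group
    have ht2sq : t2 * t2 = 1 := by
      rw [← hwt1, show w * t1 * w * (w * t1 * w) = w * (t1 * (w * w) * t1) * w by group, hw,
        mul_one, ht1sq, mul_one, hw]
    have h12 : t1 * t2 = z := by
      rw [ht1, ht2, hz, ← mul_assoc, hbv]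
    have h21 : t2 * t1 = z⁻¹ := by
      rw [← h12, mul_inv_rev, inv_eq_of_mul_eq_one_right ht1sq, inv_eq_of_mul_eq_one_right ht2sq]
    have hconj : t1 * z * t1⁻¹ = z⁻¹ := by
      rw [← h12, inv_eq_of_mul_eq_one_right ht1sq, ← mul_assoc t1 t1 t2, ht1sq, one_mul, h21, h12]
    have hwz : w * z * w⁻¹ = z⁻¹ := by
      rw [inv_eq_of_mul_eq_one_right hw, ← h12,
        show w * (t1 * t2) * w = (w * t1) * (w * w) * (t2 * w) by rw [hw, mul_one]; group,
        show (w * t1) * (w * w) * (t2 * w) = (w * t1 * w) * (w * t2 * w) by group, hwt1]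
      have : w * t2 * w = t1 := by
        rw [← hwt1, show w * (w * t1 * w) * w = (w * w) * t1 * (w * w) by group, hw, one_mul, mul_one]
      rw [this, h21, h12]
    obtain ⟨j, hj⟩ : ∃ j, z ^ (2 * j) = z := by
      obtain ⟨k, hk⟩ := hK z hzK
      refine ⟨k + 1, ?_⟩
      rw [show 2 * (k + 1) = orderOf z + 1 by omega, pow_succ, pow_orderOf_eq_one, one_mul]
    obtain ⟨i, hi⟩ : ∃ i, i = t1 * z ^ j := ⟨_, rfl⟩
    have hzt : t1 * z ^ j * t1 = (z ^ j)⁻¹ := by
      nth_rw 2 [← inv_eq_of_mul_eq_one_right ht1sq]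
      rw [← conj_pow, hconj, inv_pow]
    have hisq : i * i = 1 := by
      rw [hi, show t1 * z ^ j * (t1 * z ^ j) = (t1 * z ^ j * t1) * z ^ j by group, hzt,
        inv_mul_cancel]
    have hwi : w * i * w = i := by
      have e : w * z ^ j * w = (z ^ j)⁻¹ := by
        nth_rw 2 [← inv_eq_of_mul_eq_one_right hw]
        rw [← conj_pow, hwz, inv_pow]
      calc w * i * w = (w * t1 * w) * (w * z ^ j * w) := by
            rw [hi]; simp only [mul_assoc, hww]
        _ = t2 * (z ^ j)⁻¹ := by rw [hwt1, e]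
        _ = t1 * (z ^ (2 * j) * (z ^ j)⁻¹) := by
            rw [hj, ← h12, ← mul_assoc t1 (t1 * t2), ← mul_assoc t1 t1, ht1sq, one_mul]
        _ = i := by rw [hi, two_mul, pow_add, mul_inv_cancel_right]
    obtain ⟨m, hm⟩ : ∃ m, m = b * z ^ j := ⟨_, rfl⟩
    have hmK : m ∈ K := hm ▸ K.mul_mem hb (K.pow_mem hzK j)
    have him : i = v * m := by rw [hi, hm, ht1, mul_assoc]
    have hmw : m * w = w * m := by
      have e : w * (v * m) * w = v * m := him ▸ hwi
      have e2 : v * (w * m * w) = v * m := by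
        rw [← mul_assoc v, ← mul_assoc v, hvw]; simpa [mul_assoc] using e
      have e3 : w * m * w = m := mul_left_cancel e2
      calc m * w = w * m * w * w := by rw [e3]
        _ = w * m := by rw [mul_assoc, hw, mul_one]
    have hmv := h1 m hmK hmw
    have hm1 : m = 1 := by
      have e : m * m = 1 := by
        have : v * m * (v * m) = 1 := him ▸ hisq
        rw [mul_assoc v m, ← mul_assoc m v m, hmv, mul_assoc v m m, hvv] at this
        exact this
      have hd : orderOf m ∣ 2 := orderOf_dvd_of_pow_eq_one (by rw [sq, e])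
      rcases (Nat.dvd_prime Nat.prime_two).1 hd with h | h
      · exact orderOf_eq_one_iff.1 h
      · exact absurd (hK m hmK) (by rw [h]; decide)
    have hit : i * t1 * i = t2 := by
      rw [hi, show t1 * z ^ j * t1 * (t1 * z ^ j) = t1 * z ^ j * (t1 * t1) * z ^ j by group,
        ht1sq, mul_one, mul_assoc, ← pow_add, ← two_mul, hj, ← h12, ← mul_assoc, ht1sq, one_mul]
    rw [him, hm1, mul_one, ht1, ← mul_assoc v v b, hv, one_mul, ht2] at hit
    have hwb : w * b * w = b⁻¹ := by
      rw [← hbv]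
      calc w * b * w = v * (v * (w * b * w)) := (hvv _).symm
        _ = v * (b * v) := by rw [hit]
        _ = v * b * v := by rw [mul_assoc]
    have hb' : b * (v * w) = (v * w) * b := by
      have e1 : (v * w) * b * (w * v) = b := by
        rw [show (v * w) * b * (w * v) = v * (w * b * w) * v by group, hwb,
          show v * b⁻¹ * v = (v⁻¹ * b * v⁻¹)⁻¹ by group, inv_eq_of_mul_eq_one_right hv, hbv, inv_inv]
      calc b * (v * w) = (v * w) * b * (w * v) * (v * w) := by rw [e1]
        _ = (v * w) * b * (w * (v * v) * w) := by group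
        _ = (v * w) * b := by rw [hv, mul_one, hw, mul_one]
    have hbv' := h2 b hb hb'
    have : b⁻¹ = b := by rw [← hbv, ← hbv', mul_assoc, hv, mul_one]
    have hd : orderOf b ∣ 2 := orderOf_dvd_of_pow_eq_one (by
      rw [sq]; nth_rw 1 [← this]; exact inv_mul_cancel b)
    rcases (Nat.dvd_prime Nat.prime_two).1 hd with h | h
    · exact orderOf_eq_one_iff.1 h
    · exact absurd (hK b hb) (by rw [h]; decide)
  intro k hk
  have := key (k⁻¹ * (v * k * v)) (K.mul_mem (K.inv_mem hk) (hKv k hk)) (by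
    rw [mul_inv_rev, mul_inv_rev, mul_inv_rev, inv_inv, inv_eq_of_mul_eq_one_right hv]
    simp only [mul_assoc, hv, mul_one])
  have e : v * k * v = k := (inv_mul_eq_one.1 this).symm
  calc k * v = v * k * v * v := by rw [e]
    _ = v * k := by rw [mul_assoc, hv, mul_one]

/-- A finite group all of whose Sylow subgroups are cyclic and central in their normalizers is
cyclic. -/
theorem isCyclic_of_sylow {L : Type*} [Group L] [Finite L]
    (h : ∀ p : ℕ, p.Prime → ∀ P : Sylow p L, IsCyclic (P : Subgroup L) ∧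
      normalizer (P : Set L) ≤ centralizer (P : Set L)) : IsCyclic L := by
  have hz : IsZGroup L := ⟨fun p hp P => (h p hp P).1⟩
  have hcomm : ∀ x y : L, x * y = y * x := by
    intro x y
    obtain ⟨c, hc⟩ : ∃ c, c = x * y * x⁻¹ * y⁻¹ := ⟨_, rfl⟩
    suffices c = 1 by
      rw [hc, mul_inv_eq_one, mul_inv_eq_iff_eq_mul] at this
      exact this
    rw [← orderOf_eq_one_iff]
    refine Nat.eq_one_iff_not_exists_prime_dvd.2 fun p hp hd => ?_
    have := Fact.mk hp
    obtain ⟨P⟩ : Nonempty (Sylow p L) := inferInstance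
    obtain ⟨hcyc, hN⟩ := h p hp P
    obtain ⟨f, hf⟩ : ∃ f, f = MonoidHom.transferSylow P hN := ⟨_, rfl⟩
    have hfc : f c = 1 := by
      rw [hc, map_mul, map_mul, map_mul, map_inv, map_inv]
      have := hcyc.isMulCommutative
      rw [mul_comm' (f x) (f y)]; group
    have hdk : p ∣ Nat.card f.ker := hd.trans (f.ker.orderOf_dvd_natCard hfc)
    subst hf
    exact MonoidHom.not_dvd_card_ker_transferSylow P hN hdk
  let : CommGroup L := { ‹Group L› with mul_comm := hcomm }
  exact IsCyclic.iff_exponent_eq_card.2 (IsZGroup.exponent_eq_card L)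

/-- An odd order element has a prime order power. -/
theorem exists_prime_pow [Finite G] {x : G} {p : ℕ} (hd : p ∣ orderOf x) :
    ∃ k : ℕ, orderOf (x ^ k) = p := by
  obtain ⟨k, hk⟩ := hd
  refine ⟨k, ?_⟩
  have hpos := orderOf_pos x
  have hk0 : k ≠ 0 := by rintro rfl; omega
  rw [orderOf_pow, hk, Nat.gcd_mul_left_left, Nat.mul_div_cancel _ (Nat.pos_of_ne_zero hk0)]

end Cfsg.Agent.ReeTools8
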