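import Cfsg.Agent.Lib.ReeSpectrum8

/-!
Further facts on the tori of a group of small Ree type: odd elements of the torus centralizing
a four group, conjugation of elements of toral order, centralizers, cyclic subgroups.
-/

set_option autoImplicit false

namespace Cfsg.Agent.ReeLocal8.ReeData

open Subgroup ReeTools8 ReePSL8

variable {G : Type*} [Group G] [Finite G] (D : ReeData G)
include D

theorem plus_comm78 {M A : Subgroup G} (hM : PlusTorus D.q M A) {y z : G} (hy : y ∈ M) (hz : z ∈ M) :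
    y * z = z * y := by
  have hc : ∀ d ∈ M, d * d ≠ 1 → ∀ w ∈ M, Commute w d := fun d hd hd2 w hw =>
    mem_centralizer_singleton_iff.1 (by rw [hM.cent d hd hd2]; exact hw)
  obtain ⟨d, hd, hdo⟩ := hM.exists_order
  have hd2 : d * d ≠ 1 := two_lt_orderOf.1 (by rw [hdo]; have := D.q_ge; omega)
  by_cases hz2 : z * z = 1
  · have h2 : z * d * (z * d) ≠ 1 := by
      have e : z * d * (z * d) = z * (d * z) * d := by group
      rw [e, ← (hc d hd hd2 z hz).eq, ← mul_assoc z z d, hz2, one_mul]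
      exact hd2
    have h3 : Commute y (z * d) := hc _ (mul_mem hz hd) h2 y hy
    have h4 : Commute y (z * d * d⁻¹) := h3.mul_right (hc d hd hd2 y hy).inv_right
    rw [mul_inv_cancel_right] at h4
    exact h4
  · exact hc z hz hz2 y hy

theorem plus_A_ne78 {M A : Subgroup G} (hM : PlusTorus D.q M A) : A ≠ ⊥ := fun e => by
  have := hM.card_A
  rw [e, card_bot] at this
  have := D.q_ge
  omega

theorem plus_odd_A78 {M A : Subgroup G} (hM : PlusTorus D.q M A) {y : G} (hy : y ∈ A) :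
    Odd (orderOf y) :=
  (Nat.odd_iff.2 (show (D.q + 1) / 4 % 2 = 1 by have := D.q_mod8; omega)).of_dvd_nat
    (hM.card_A ▸ Subgroup.orderOf_dvd_natCard A hy)

theorem plus_mem_A78 {M A : Subgroup G} (hM : PlusTorus D.q M A) {y : G} (hy : y ∈ M)
    (ho : Odd (orderOf y)) : y ∈ A := by
  have : (A.subgroupOf M).Normal := ⟨fun n hn g => by
    rw [mem_subgroupOf] at hn ⊢
    rw [Subgroup.coe_mul, Subgroup.coe_mul, Subgroup.coe_inv,
      D.plus_comm78 hM g.2 n.2, mul_inv_cancel_right]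
    exact hn⟩
  have hidx : (A.subgroupOf M).index = 4 := by
    have h := card_mul_index (A.subgroupOf M)
    rw [Nat.card_congr (subgroupOfEquivOfLe hM.A_le).toEquiv, hM.card_A, hM.card_M] at h
    exact Nat.eq_of_mul_eq_mul_left (show 0 < (D.q + 1) / 4 by have := D.q_ge; omega)
      (h.trans (by have := D.q_mod8; omega))
  have h4 := (A.subgroupOf M).pow_index_mem ⟨y, hy⟩
  rw [hidx, mem_subgroupOf, SubgroupClass.coe_pow] at h4
  obtain ⟨j, hj⟩ := exists_pow_eq_self_of_coprime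
    (show Nat.Coprime 4 (orderOf y) from Nat.Coprime.pow_left 2 (Nat.coprime_two_left.2 ho))
  rw [← hj]
  exact pow_mem h4 j

omit [Finite G] D in
theorem not_sq_one78 {g : G} (hg : g ≠ 1) (ho : Odd (orderOf g)) : g * g ≠ 1 := fun e => by
  have h := orderOf_dvd_of_pow_eq_one (x := g) (n := 2) (by rw [sq, e])
  rcases (Nat.dvd_prime Nat.prime_two).1 h with h | h
  · exact hg (orderOf_eq_one_iff.1 h)
  · rw [h] at ho
    exact (by decide : ¬Odd 2) ho

theorem odd_prime_dvd78 {i : ℕ} (hi : 2 < i) (hd : i ∣ D.q - 1) :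
    ∃ p : ℕ, p.Prime ∧ p ≠ 2 ∧ p ∣ i := by
  obtain ⟨e, o, ho, heq⟩ := Nat.exists_eq_two_pow_mul_odd (show i ≠ 0 by omega)
  rcases eq_or_ne o 1 with rfl | hne
  · exfalso
    rw [mul_one] at heq
    rcases e with _ | _ | e
    · rw [pow_zero] at heq; omega
    · rw [pow_one] at heq; omega
    · have h4 : 4 ∣ D.q - 1 := dvd_trans ⟨2 ^ e, by rw [heq]; ring⟩ hd
      have := D.q_mod8
      omega
  · obtain ⟨p, hp, hpo⟩ := Nat.exists_prime_and_dvd hne
    refine ⟨p, hp, ?_, hpo.trans (Dvd.intro_left _ heq.symm)⟩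
    rintro rfl
    obtain ⟨t, ht⟩ := ho
    omega

theorem conj_H_of_order78 {g : G} (h2 : 2 < orderOf g) (hd : orderOf g ∣ D.q - 1) :
    ∃ x : G, x * g * x⁻¹ ∈ D.H := by
  obtain ⟨p, hp, hp2, hpd⟩ := D.odd_prime_dvd78 h2 hd
  exact D.conj_into_H hp hp2 (hpd.trans hd) hpd

theorem conj_A_of_order78 {M A : Subgroup G} (hM : PlusTorus D.q M A) {g : G} (h1 : g ≠ 1)
    (hd : orderOf g ∣ (D.q + 1) / 4) : ∃ x : G, x * g * x⁻¹ ∈ A := by
  obtain ⟨p, hp, hpd⟩ := Nat.exists_prime_and_dvd (fun e => h1 (orderOf_eq_one_iff.1 e) : orderOf g ≠ 1)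
  obtain ⟨x, hx⟩ := hM.conj_into g p hp (hpd.trans hd) hpd
  refine ⟨x, D.plus_mem_A78 hM hx ?_⟩
  rw [orderOf_conj]
  exact (Nat.odd_iff.2 (show (D.q + 1) / 4 % 2 = 1 by have := D.q_mod8; omega)).of_dvd_nat hd

theorem conj_hall_of_order78 {A : Subgroup G} {e : ℕ} (hA : HallTorus D.q A e) {g : G} (h1 : g ≠ 1)
    (hd : orderOf g ∣ Nat.card A) : ∃ x : G, x * g * x⁻¹ ∈ A := by
  obtain ⟨p, hp, hpd⟩ := Nat.exists_prime_and_dvd (fun e => h1 (orderOf_eq_one_iff.1 e) : orderOf g ≠ 1)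
  exact hA.conj_into g p hp (hpd.trans hd) hpd

omit D in
/-- Cyclic subgroups of equal order which are conjugate into one cyclic group are conjugate. -/
theorem cyclic_conj78 {T : Subgroup G} [IsCyclic T] {g h x y : G} (ho : orderOf g = orderOf h)
    (hx : x * g * x⁻¹ ∈ T) (hy : y * h * y⁻¹ ∈ T) :
    (zpowers g).map (MulAut.conj (y⁻¹ * x)).toMonoidHom = zpowers h := by
  have e := eq_of_card_eq_cyclic (H := T) (K := zpowers (x * g * x⁻¹)) (L := zpowers (y * h * y⁻¹))
    (zpowers_le.2 hx) (zpowers_le.2 hy)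
    (by rw [Nat.card_zpowers, Nat.card_zpowers, orderOf_conj, orderOf_conj, ho])
  have e1 : MulAut.conj (y⁻¹ * x) g = y⁻¹ * (x * g * x⁻¹) * y := by simp [mul_assoc]
  have e2 : zpowers (y⁻¹ * (x * g * x⁻¹) * y) = (zpowers (x * g * x⁻¹)).map
      (MulAut.conj y⁻¹).toMonoidHom := by
    rw [MonoidHom.map_zpowers]
    simp [mul_assoc]
  rw [MonoidHom.map_zpowers, MulEquiv.coe_toMonoidHom, e1, e2, e, MonoidHom.map_zpowers]
  simp [mul_assoc]

omit [Finite G] D in
/-- The centralizer of a conjugate. -/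
theorem cent_comap78 {T : Subgroup G} {x c : G} (h : centralizer ({x * c * x⁻¹} : Set G) = T) :
    centralizer ({c} : Set G) = T.comap (MulAut.conj x).toMonoidHom := by
  ext y
  rw [mem_comap, ← h, mem_centralizer_singleton_iff, mem_centralizer_singleton_iff]
  constructor
  · intro hy
    calc x * y * x⁻¹ * (x * c * x⁻¹) = x * (y * c) * x⁻¹ := by group
      _ = x * (c * y) * x⁻¹ := by rw [hy]
      _ = x * c * x⁻¹ * (x * y * x⁻¹) := by group
  · intro hy
    have hy' : x * y * x⁻¹ * (x * c * x⁻¹) = x * c * x⁻¹ * (x * y * x⁻¹) := hy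
    calc y * c = x⁻¹ * (x * y * x⁻¹ * (x * c * x⁻¹)) * x := by group
      _ = x⁻¹ * (x * c * x⁻¹ * (x * y * x⁻¹)) * x := by rw [hy']
      _ = c * y := by group

omit [Finite G] D in
theorem card_comap78 (T : Subgroup G) (x : G) :
    Nat.card (T.comap (MulAut.conj x).toMonoidHom) = Nat.card T := by
  rw [comap_equiv_eq_map_symm']
  exact (Nat.card_congr (T.equivMapOfInjective _ (MulAut.conj x).symm.injective).toEquiv).symm

omit [Finite G] D in
theorem isCyclic_comap78 (T : Subgroup G) [IsCyclic T] (x : G) :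
    IsCyclic (T.comap (MulAut.conj x).toMonoidHom) :=
  isCyclic_of_injective ((MulAut.conj x).toMonoidHom.subgroupComap T) fun _ _ e =>
    Subtype.ext ((MulAut.conj x).injective (congrArg Subtype.val e))

omit D in
theorem exists_zpowers78 (K : Subgroup G) [IsCyclic K] :
    ∃ g : G, K = zpowers g ∧ orderOf g = Nat.card K := by
  obtain ⟨⟨g, hg⟩, hgo⟩ := IsCyclic.exists_ofOrder_eq_natCard (α := K)
  rw [← Subgroup.orderOf_coe] at hgo
  replace hgo : orderOf g = Nat.card K := hgo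
  refine ⟨g, (eq_of_le_of_card_ge (zpowers_le.2 hg) ?_).symm, hgo⟩
  rw [Nat.card_zpowers, hgo]

/-- Cyclic subgroups of toral order are conjugate. -/
theorem cyclic_toral_conj78 {d : ℕ}
    (hd : d ∣ (D.q - 1) / 2 ∨ d ∣ (D.q + 1) / 4 ∨ d ∣ D.q - 3 ^ (D.m + 1) + 1 ∨
      d ∣ D.q + 3 ^ (D.m + 1) + 1)
    (K L : Subgroup G) [IsCyclic K] [IsCyclic L] (hK : Nat.card K = d) (hL : Nat.card L = d) :
    ∃ g : G, L = K.map (MulAut.conj g).toMonoidHom := by
  obtain ⟨k, rfl, hk⟩ := exists_zpowers78 K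
  obtain ⟨l, rfl, hl⟩ := exists_zpowers78 L
  rw [hK] at hk
  rw [hL] at hl
  rcases eq_or_ne d 1 with h1 | h1
  · refine ⟨1, ?_⟩
    rw [h1, orderOf_eq_one_iff] at hk hl
    simp [hk, hl]
  have hk1 : k ≠ 1 := fun e => h1 (hk.symm.trans (orderOf_eq_one_iff.2 e))
  have hl1 : l ≠ 1 := fun e => h1 (hl.symm.trans (orderOf_eq_one_iff.2 e))
  have key : ∀ (T : Subgroup G), IsCyclic T → (∀ g : G, g ≠ 1 → orderOf g = d →
      ∃ x : G, x * g * x⁻¹ ∈ T) →
      ∃ g : G, zpowers l = (zpowers k).map (MulAut.conj g).toMonoidHom := by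
    intro T hT hconj
    obtain ⟨x, hx⟩ := hconj k hk1 hk
    obtain ⟨y, hy⟩ := hconj l hl1 hl
    exact ⟨_, (cyclic_conj78 (hk.trans hl.symm) hx hy).symm⟩
  rcases hd with h | h | h | h
  · refine key D.H D.H_cyclic fun g hg ho => D.conj_H_of_order78 ?_ ?_
    · rw [ho]
      have hd0 : d ≠ 0 := fun e => by
        rw [e, zero_dvd_iff] at h
        have := D.q_ge; omega
      have hd2 : d ≠ 2 := fun e => by
        rw [e] at h
        have := D.q_mod8; omega
      omega
    · rw [ho]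
      exact h.trans (Nat.div_dvd_of_dvd (by have := D.q_mod8; omega))
  · obtain ⟨M, A, hM⟩ := D.exists_plusTorus
    exact key A hM.A_cyclic fun g hg ho => D.conj_A_of_order78 hM hg (ho ▸ h)
  · obtain ⟨A, B, hA, -, hcA, -⟩ := D.exists_hall_pair
    exact key A hA.cyclic fun g hg ho => D.conj_hall_of_order78 hA hg (hcA ▸ ho ▸ h)
  · obtain ⟨A, B, -, hB, -, hcB⟩ := D.exists_hall_pair
    exact key B hB.cyclic fun g hg ho => D.conj_hall_of_order78 hB hg (hcB ▸ ho ▸ h)

/-- Centralizers of the split and quarter tori. -/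
theorem torus_centralizers78 (K : Subgroup G) [IsCyclic K] :
    (Nat.card K = (D.q - 1) / 2 →
      IsCyclic (centralizer (K : Set G)) ∧ Nat.card (centralizer (K : Set G)) = D.q - 1 ∧
        ∀ A : Subgroup G, A ≤ K → A ≠ ⊥ → centralizer (A : Set G) = centralizer (K : Set G)) ∧
    (Nat.card K = (D.q + 1) / 4 →
      IsMulCommutative (centralizer (K : Set G)) ∧ Nat.card (centralizer (K : Set G)) = D.q + 1 ∧
        (∀ x ∈ centralizer (K : Set G), orderOf x ≠ 4) ∧
        ∀ A : Subgroup G, A ≤ K → A ≠ ⊥ → centralizer (A : Set G) = centralizer (K : Set G)) := by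
  obtain ⟨k, rfl, hk⟩ := exists_zpowers78 K
  have main : ∀ (T : Subgroup G) (n : ℕ), Nat.card (zpowers k) = n → 1 < n → Odd n →
      ∀ x : G, x * k * x⁻¹ ∈ T →
      ∀ M : Subgroup G, (∀ c ∈ T, c ≠ 1 → Odd (orderOf c) → centralizer ({c} : Set G) = M) →
      centralizer ((zpowers k : Subgroup G) : Set G) = M.comap (MulAut.conj x).toMonoidHom ∧
        ∀ A : Subgroup G, A ≤ zpowers k → A ≠ ⊥ →
          centralizer (A : Set G) = centralizer ((zpowers k : Subgroup G) : Set G) := by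
    intro T n hn h1 hodd x hx M hM
    have key : ∀ b ∈ zpowers k, b ≠ 1 →
        centralizer ({b} : Set G) = M.comap (MulAut.conj x).toMonoidHom := by
      intro b hb hb1
      obtain ⟨i, rfl⟩ := mem_zpowers_iff.1 hb
      refine cent_comap78 (hM _ ?_ (fun e => hb1 (conj_eq_one_iff.1 e)) ?_)
      · rw [← conj_zpow]; exact zpow_mem hx i
      · rw [orderOf_conj]
        exact hodd.of_dvd_nat (hn ▸ Subgroup.orderOf_dvd_natCard _ hb)
    have hk1 : k ≠ 1 := fun e => by
      rw [e, zpowers_one_eq_bot, card_bot] at hn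
      omega
    have hK : centralizer ((zpowers k : Subgroup G) : Set G) = M.comap (MulAut.conj x).toMonoidHom := by
      rw [centralizer_zpowers, key k (mem_zpowers k) hk1]
    refine ⟨hK, fun A hA hne => ?_⟩
    have : IsCyclic A := isCyclic_of_injective (inclusion hA) (inclusion_injective _)
    obtain ⟨b, rfl, -⟩ := exists_zpowers78 A
    rw [hK, centralizer_zpowers, key b (zpowers_le.1 hA) (fun e => hne (by rw [e, zpowers_one_eq_bot]))]
  have hq := D.q_ge
  have hq8 := D.q_mod8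
  constructor
  · intro hc
    rw [hc] at hk
    obtain ⟨x, hx⟩ := D.conj_H_of_order78 (g := k) (by rw [hk]; omega)
      (hk ▸ Nat.div_dvd_of_dvd (by omega))
    obtain ⟨h1, h2⟩ := main D.H _ hc (by omega) (Nat.odd_iff.2 (by omega)) x hx D.H
      (fun c hc h1 ho => D.centralizer_H hc (by rw [sq]; exact not_sq_one78 h1 ho))
    have := D.H_cyclic
    exact ⟨h1 ▸ isCyclic_comap78 D.H x, by rw [h1, card_comap78, D.card_H], h2⟩
  · intro hc
    rw [hc] at hk
    obtain ⟨M, A, hM⟩ := D.exists_plusTorus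
    obtain ⟨x, hx⟩ := D.conj_A_of_order78 hM (g := k) (fun e => by
      rw [e, orderOf_one] at hk; omega) (dvd_of_eq hk)
    obtain ⟨h1, h2⟩ := main A _ hc (by omega) (Nat.odd_iff.2 (by omega)) x hx M
      (fun c hc h1 ho => hM.cent c (hM.A_le hc) (not_sq_one78 h1 ho))
    refine ⟨⟨⟨fun a b => Subtype.ext ?_⟩⟩, by rw [h1, card_comap78, hM.card_M], fun y hy h4 => ?_, h2⟩
    · obtain ⟨a, ha⟩ := a
      obtain ⟨b, hb⟩ := b
      rw [h1, mem_comap] at ha hb
      change a * b = b * a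
      exact (MulAut.conj x).injective (((map_mul _ a b).trans
        (D.plus_comm78 hM ha hb)).trans (map_mul _ b a).symm)
    · rw [h1, mem_comap] at hy
      have hd := orderOf_dvd_of_pow_eq_one (hM.exp_M _ hy)
      rw [MulEquiv.coe_toMonoidHom, MulEquiv.orderOf_eq, h4] at hd
      omega

end Cfsg.Agent.ReeLocal8.ReeData
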