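import Cfsg.Agent.Lib.ReeTori78Base
import Cfsg.Agent.Lib.ComponentsFitting
import Cfsg.Agent.Lib.HallSolvable

/-!
Solvable subgroups of a group of small Ree type lie in local normalizers.
-/

set_option autoImplicit false

namespace Cfsg.Agent.ReeLocal8.ReeData

open Subgroup ReeTools8 ReePSL8

variable {G : Type*} [Group G] [Finite G] (D : ReeData G)
include D

/-- `S` lies in the normalizer of a Sylow subgroup for 2 or 3, or of one of the four tori. -/
def Good78 (S : Subgroup G) : Prop :=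
  ∃ A : Subgroup G, S ≤ normalizer (A : Set G) ∧
    ((∃ P : Sylow 2 G, A = P) ∨ (∃ P : Sylow 3 G, A = P) ∨
      (IsCyclic A ∧ (Nat.card A = (D.q - 1) / 2 ∨ Nat.card A = (D.q + 1) / 4 ∨
        Nat.card A = D.q - 3 ^ (D.m + 1) + 1 ∨ Nat.card A = D.q + 3 ^ (D.m + 1) + 1)))

theorem torus_pull78 {S : Subgroup G} {r x : G} {T A : Subgroup G} (hA : IsCyclic A)
    (hc : Nat.card A = (D.q - 1) / 2 ∨ Nat.card A = (D.q + 1) / 4 ∨
      Nat.card A = D.q - 3 ^ (D.m + 1) + 1 ∨ Nat.card A = D.q + 3 ^ (D.m + 1) + 1)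
    (hS : S ≤ normalizer ((zpowers r : Subgroup G) : Set G))
    (hT : centralizer ({x * r * x⁻¹} : Set G) = T)
    (hTA : normalizer (T : Set G) ≤ normalizer (A : Set G)) : D.Good78 S := by
  refine ⟨A.comap (MulAut.conj x).toMonoidHom, fun s hs => ?_,
    Or.inr (Or.inr ⟨isCyclic_comap78 A x, by rw [card_comap78]; exact hc⟩)⟩
  refine mem_normalizer_of_finite fun y hy => ?_
  have hy' : x * y * x⁻¹ ∈ A := hy
  have hn : x * s * x⁻¹ ∈ normalizer ((zpowers (x * r * x⁻¹) : Subgroup G) : Set G) := by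
    refine mem_normalizer_of_finite fun z hz => ?_
    obtain ⟨i, rfl⟩ := mem_zpowers_iff.1 hz
    obtain ⟨j, hj⟩ := mem_zpowers_iff.1
      ((mem_normalizer_iff.1 (hS hs) (r ^ i)).1 (zpow_mem (mem_zpowers r) i))
    refine mem_zpowers_iff.2 ⟨j, ?_⟩
    rw [conj_zpow, conj_zpow, hj]
    group
  have hnA : x * s * x⁻¹ ∈ normalizer (A : Set G) := hTA (by
    have := normalizer_le_normalizer_centralizer _ hn
    rwa [centralizer_zpowers, hT] at this)
  have h := (mem_normalizer_iff.1 hnA _).1 hy'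
  change x * (s * y * s⁻¹) * x⁻¹ ∈ A
  rw [show x * (s * y * s⁻¹) * x⁻¹ = x * s * x⁻¹ * (x * y * x⁻¹) * (x * s * x⁻¹)⁻¹ by group]
  exact h

theorem good_of_zpowers78 {S : Subgroup G} {r : G} {p n : ℕ} (hp : p.Prime) (hp2 : p ≠ 2)
    (hp3 : p ≠ 3) (hr : r ≠ 1) (hn : orderOf r = p ^ n)
    (hS : S ≤ normalizer ((zpowers r : Subgroup G) : Set G)) : D.Good78 S := by
  have hpr : p ∣ orderOf r := by
    rcases n with _ | n
    · exact absurd (orderOf_eq_one_iff.1 (by rw [hn, pow_zero])) hr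
    · rw [hn]; exact dvd_pow_self p (Nat.succ_ne_zero n)
  have hodd : Odd (orderOf r) := hn ▸ (hp.odd_of_ne_two hp2).pow
  have hconj : ∀ x : G, x * r * x⁻¹ ≠ 1 ∧ Odd (orderOf (x * r * x⁻¹)) := fun x =>
    ⟨fun e => hr (conj_eq_one_iff.1 e), by rw [orderOf_conj]; exact hodd⟩
  have hq8 := D.q_mod8
  rcases D.prime_cases hp (hpr.trans (orderOf_dvd_natCard r)) with h | h | ⟨-, h⟩ | h | h
  · exact absurd h hp2
  · exact absurd h hp3
  · obtain ⟨x, hx⟩ := D.conj_into_H hp hp2 h hpr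
    have := D.H_cyclic
    obtain ⟨g, hg, hgo⟩ := exists_zpowers78 D.H
    have hgH : g ∈ D.H := hg ▸ mem_zpowers g
    have hcard : Nat.card (zpowers (g ^ 2)) = (D.q - 1) / 2 := by
      rw [Nat.card_zpowers, orderOf_pow, hgo, D.card_H, Nat.gcd_eq_right (show 2 ∣ D.q - 1 by omega)]
    exact D.torus_pull78 inferInstance (Or.inl hcard) hS
      (D.centralizer_H hx (by rw [sq]; exact not_sq_one78 (hconj x).1 (hconj x).2))
      (normalizer_le_of_le_cyclic (zpowers_le.2 (pow_mem hgH 2)))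
  · obtain ⟨M, A, hM⟩ := D.exists_plusTorus
    obtain ⟨x, hx⟩ := hM.conj_into r p hp h hpr
    exact D.torus_pull78 hM.A_cyclic (Or.inr (Or.inl hM.card_A)) hS
      (hM.cent _ hx (not_sq_one78 (hconj x).1 (hconj x).2))
      (hM.norm_eq A le_rfl (D.plus_A_ne78 hM)).ge
  · obtain ⟨A, B, hA, hB, hcA, hcB⟩ := D.exists_hall_pair
    have hprod : Nat.card A * Nat.card B = D.q ^ 2 - D.q + 1 := by
      rw [hcA, hcB]
      have hr' : 3 ^ (D.m + 1) ≤ D.q := by
        rw [D.q_eq]; exact Nat.pow_le_pow_right (by norm_num) (by omega)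
      have hr2 : 3 ^ (D.m + 1) * 3 ^ (D.m + 1) = 3 * D.q := by
        rw [D.q_eq, ← pow_add, ← pow_succ']; ring_nf
      zify [hr', Nat.le_self_pow two_ne_zero D.q] at hr2 ⊢
      linear_combination -hr2
    rcases (Nat.Prime.dvd_mul hp).1 (hprod ▸ h) with h' | h'
    · obtain ⟨x, hx⟩ := hA.conj_into r p hp h' hpr
      exact D.torus_pull78 hA.cyclic (Or.inr (Or.inr (Or.inl hcA))) hS
        (hA.cent _ hx (hconj x).1) le_rfl
    · obtain ⟨x, hx⟩ := hB.conj_into r p hp h' hpr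
      exact D.torus_pull78 hB.cyclic (Or.inr (Or.inr (Or.inr hcB))) hS
        (hB.cent _ hx (hconj x).1) le_rfl

/-- A subgroup normalizing a nontrivial `p`-subgroup, `p` odd. -/
theorem good_of_pgroup78 {S R : Subgroup G} {p : ℕ} (hp : p.Prime) (hp2 : p ≠ 2)
    (hR : IsPGroup p R) (hne : R ≠ ⊥) (hS : S ≤ normalizer (R : Set G)) : D.Good78 S := by
  have : Fact p.Prime := ⟨hp⟩
  obtain ⟨P, hP⟩ := hR.exists_le_sylow
  obtain ⟨⟨r, hr⟩, hr1⟩ := Subgroup.ne_bot_iff_exists_ne_one.1 hne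
  have hr1' : r ≠ 1 := fun e => hr1 (Subtype.ext e)
  by_cases hp3 : p = 3
  · subst hp3
    refine ⟨P, fun s hs => ?_, Or.inr (Or.inl ⟨P, rfl⟩)⟩
    change s ∈ normalizer (P : Set G)
    rw [← Sylow.smul_eq_iff_mem_normalizer]
    refine D.syl_eq (u := s * r * s⁻¹) (fun e => hr1' (conj_eq_one_iff.1 e)) ?_
      (hP ((mem_normalizer_iff.1 (hS hs) r).1 hr))
    rw [mem_smul_iff]
    have e : s⁻¹ * (s * r * s⁻¹) * s = r := by group
    rw [e]
    exact hP hr
  · have hp4 : 3 < p := by have := hp.two_le; omega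
    have := D.cyclic p hp hp4 P
    have : IsCyclic R := isCyclic_of_injective (inclusion hP) (inclusion_injective _)
    obtain ⟨g, rfl, hgo⟩ := exists_zpowers78 R
    obtain ⟨n, hn⟩ := hR.exists_card_eq
    exact D.good_of_zpowers78 hp hp2 hp3
      (fun e => hne (by rw [e, zpowers_one_eq_bot])) (hgo.trans hn) hS

/-- A subgroup normalizing a four group. -/
theorem good_of_klein78 {S : Subgroup G} {v w : G} (hv : v * v = 1) (hw : w * w = 1)
    (hv1 : v ≠ 1) (hw1 : w ≠ 1) (hne : v ≠ w) (hvw : v * w = w * v)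
    (hS : ∀ s ∈ S, ∀ c ∈ centralizer ({v, w} : Set G), s * c * s⁻¹ ∈ centralizer ({v, w} : Set G)) :
    D.Good78 S := by
  have hq := D.q_ge
  have hq8 := D.q_mod8
  have hcard := (D.inv_cent hv1 hv).inv w hvw.symm hw1 hne.symm hw
  obtain ⟨p, hp, hpk⟩ := Nat.exists_prime_and_dvd (show (D.q + 1) / 4 ≠ 1 by omega)
  have : Fact p.Prime := ⟨hp⟩
  obtain ⟨hp2, hp3, hpq, -⟩ := D.prime_add_one hp hpk
  obtain ⟨⟨x, hxC⟩, hxo⟩ := exists_prime_orderOf_dvd_card' (G := centralizer ({v, w} : Set G)) p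
    (by rw [hcard]; exact dvd_mul_of_dvd_right hpq 2)
  rw [← Subgroup.orderOf_coe] at hxo
  replace hxo : orderOf x = p := hxo
  obtain ⟨hxv, hxw⟩ := mem_pair.1 hxC
  have hx1 : x ≠ 1 := fun e => by rw [e, orderOf_one] at hxo; exact hp.ne_one hxo.symm
  obtain ⟨-, hMc, hcomm, -, -⟩ := D.cent_x hv hw hv1 hw1 hne hvw hxv hxw hp hpk hxo
  have hle : centralizer ({x} : Set G) ≤ centralizer ({v, w} : Set G) := fun y hy =>
    mem_pair.2 ⟨hcomm y v (mem_centralizer_singleton_iff.1 hy) hxv.symm,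
      hcomm y w (mem_centralizer_singleton_iff.1 hy) hxw.symm⟩
  have hidx : ((centralizer ({x} : Set G)).subgroupOf (centralizer ({v, w} : Set G))).index = 2 := by
    have h := card_mul_index
      ((centralizer ({x} : Set G)).subgroupOf (centralizer ({v, w} : Set G)))
    rw [Nat.card_congr (subgroupOfEquivOfLe hle).toEquiv, hMc, hcard] at h
    exact Nat.eq_of_mul_eq_mul_left (by omega) (h.trans (mul_comm _ _))
  refine D.good_of_zpowers78 (r := x) (n := 1) hp hp2 (by omega) hx1 (by rw [hxo, pow_one])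
    fun s hs => ?_
  have hys : orderOf (s * x * s⁻¹) = p := by rw [orderOf_conj, hxo]
  have hyC := hS s hs x hxC
  have hyx : Commute (s * x * s⁻¹) x := by
    have h2 : s * x * s⁻¹ * (s * x * s⁻¹) ∈ centralizer ({x} : Set G) :=
      mul_self_mem_of_index_two hidx ⟨_, hyC⟩
    obtain ⟨i, hi⟩ := hp.odd_of_ne_two hp2
    have e : s * x * s⁻¹ = (s * x * s⁻¹ * (s * x * s⁻¹)) ^ (i + 1) := by
      rw [← sq, ← pow_mul, show 2 * (i + 1) = orderOf (s * x * s⁻¹) + 1 by omega, pow_succ,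
        pow_orderOf_eq_one, one_mul]
    have h3 := pow_mem h2 (i + 1)
    rw [← e] at h3
    exact mem_centralizer_singleton_iff.1 h3
  obtain ⟨M, A, hM⟩ := D.exists_plusTorus
  obtain ⟨t, ht⟩ := D.conj_A_of_order78 hM hx1 (hxo ▸ hpk)
  have hodd : Odd (orderOf (t * x * t⁻¹)) := D.plus_odd_A78 hM ht
  have hty : t * (s * x * s⁻¹) * t⁻¹ ∈ A := by
    refine D.plus_mem_A78 hM ?_ (by rw [orderOf_conj, hys]; exact hp.odd_of_ne_two hp2)
    exact conj_mem_of_cent (hM.cent _ (hM.A_le ht)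
      (not_sq_one78 (fun e => hx1 (conj_eq_one_iff.1 e)) hodd)) hyx
  have := hM.A_cyclic
  have e := cyclic_conj78 (g := s * x * s⁻¹) (h := x) (T := A) (hys.trans hxo.symm) hty ht
  rw [inv_mul_cancel, map_one] at e
  have e' : zpowers (s * x * s⁻¹) = zpowers x := by
    rw [← e]
    exact (map_id _).symm
  refine mem_normalizer_of_finite fun y hy => ?_
  obtain ⟨i, rfl⟩ := mem_zpowers_iff.1 hy
  rw [← conj_zpow, ← e']
  exact zpow_mem (mem_zpowers _) i

theorem solvable_good78 (S : Subgroup G) [Group.IsSolvable S] : D.Good78 S := by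
  classical
  have : Fact (Nat.Prime 2) := ⟨Nat.prime_two⟩
  obtain ⟨F, hF⟩ : ∃ F, F = Cfsg.fittingSubgroup S := ⟨_, rfl⟩
  have hnil : Group.IsNilpotent F := hF ▸ inferInstance
  have hFn : F.Normal := hF ▸ inferInstance
  have hCF : centralizer (F : Set S) ≤ F := hF ▸ HallSolvable.centralizer_fitting_le
  by_cases hodd : ∃ p : ℕ, p.Prime ∧ p ≠ 2 ∧ p ∣ Nat.card F
  · obtain ⟨p, hp, hp2, hpd⟩ := hodd
    have : Fact p.Prime := ⟨hp⟩
    obtain ⟨P⟩ := (inferInstance : Nonempty (Sylow p F))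
    have := P.characteristic_of_normal inferInstance
    obtain ⟨N, hN⟩ : ∃ N : Subgroup S, N = (P : Subgroup F).map F.subtype := ⟨_, rfl⟩
    have hNn : N.Normal := hN ▸ inferInstance
    refine D.good_of_pgroup78 hp hp2 (R := N.map S.subtype) ?_ ?_ ?_
    · rw [hN]; exact (P.2.map _).map _
    · rw [hN]
      intro h
      rw [map_eq_bot_iff_of_injective _ S.subtype_injective,
        map_eq_bot_iff_of_injective _ F.subtype_injective] at h
      exact P.ne_bot_of_dvd_card hpd h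
    · intro s hs
      refine mem_normalizer_of_finite ?_
      rintro _ ⟨y, hy, rfl⟩
      exact ⟨⟨s, hs⟩ * y * ⟨s, hs⟩⁻¹, hNn.conj_mem y hy ⟨s, hs⟩, rfl⟩
  · push Not at hodd
    have hF2 : IsPGroup 2 F := by
      refine IsPGroup.of_card (n := (Nat.card F).primeFactorsList.length) ?_
      refine Nat.eq_prime_pow_of_unique_prime_dvd (Nat.card_pos (α := F)).ne' fun {d} hd hdd => ?_
      by_contra h
      exact hodd d hd h hdd
    obtain ⟨R, hR⟩ : ∃ R : Subgroup G, R = F.map S.subtype := ⟨_, rfl⟩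
    have hR2 : IsPGroup 2 R := hR ▸ hF2.map _
    obtain ⟨P, hP⟩ := hR2.exists_le_sylow
    have hRS : R ≤ S := hR ▸ map_subtype_le F
    have hnorm : ∀ s ∈ S, ∀ y ∈ R, s * y * s⁻¹ ∈ R := by
      intro s hs y hy
      rw [hR] at hy ⊢
      obtain ⟨z, hz, rfl⟩ := hy
      exact ⟨⟨s, hs⟩ * z * ⟨s, hs⟩⁻¹, hFn.conj_mem z hz ⟨s, hs⟩, rfl⟩
    have hcent : ∀ s ∈ S, (∀ y ∈ R, y * s = s * y) → s ∈ R := by
      intro s hs h
      have hm : (⟨s, hs⟩ : S) ∈ centralizer (F : Set S) := mem_centralizer_iff.2 fun y hy =>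
        Subtype.ext (h _ (hR ▸ mem_map_of_mem _ hy))
      exact hR ▸ mem_map_of_mem _ (hCF hm)
    have hcard : Nat.card R ∣ 2 ^ 3 := by
      rw [show 2 ^ 3 = 8 from rfl, ← D.syl2_card P]
      exact card_dvd_of_le hP
    obtain ⟨i, hi3, hi⟩ := (Nat.dvd_prime_pow Nat.prime_two).1 hcard
    have hsyl : S ≤ R → D.Good78 S := fun h =>
      ⟨P, (h.trans hP).trans le_normalizer, Or.inl ⟨P, rfl⟩⟩
    interval_cases i
    · -- trivial
      have hRb : R = ⊥ := card_eq_one.1 (by rw [hi, pow_zero])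
      refine hsyl fun s hs => hcent s hs fun y hy => ?_
      rw [hRb, mem_bot] at hy
      rw [hy, one_mul, mul_one]
    · refine hsyl fun s hs => hcent s hs fun y hy => ?_
      by_cases hy1 : y = 1
      · rw [hy1, one_mul, mul_one]
      have hsy := hnorm s hs y hy
      have hzp : zpowers y = R := eq_of_le_of_card_ge (zpowers_le.2 hy) (by
        rw [hi, Nat.card_zpowers, orderOf_eq_prime (by rw [sq]; exact D.syl2_sq P (hP hy)) hy1,
          pow_one])
      rw [← hzp] at hsy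
      have h2 : orderOf y = 2 := orderOf_eq_prime (by rw [sq]; exact D.syl2_sq P (hP hy)) hy1
      rw [mem_zpowers_iff_mem_range_orderOf, h2] at hsy
      obtain ⟨j, hj, hj'⟩ := Finset.mem_image.1 hsy
      rw [Finset.mem_range] at hj
      interval_cases j
      · rw [pow_zero] at hj'
        exact absurd (conj_eq_one_iff.1 hj'.symm) hy1
      · rw [pow_one] at hj'
        exact (mul_inv_eq_iff_eq_mul.1 hj'.symm).symm
    · obtain ⟨v, hvR, hv1, -⟩ := exists_mem_not_pair R (by rw [hi]; norm_num) (1 : G)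
      obtain ⟨w, hwR, hw1, hwv⟩ := exists_mem_not_pair R (by rw [hi]; norm_num) v
      refine D.good_of_klein78 (D.syl2_sq P (hP hvR)) (D.syl2_sq P (hP hwR)) hv1 hw1 (Ne.symm hwv)
        (D.syl2_comm P (hP hvR) (hP hwR)) fun s hs c hc => ?_
      obtain ⟨V, hV⟩ := exists_klein (D.syl2_sq P (hP hvR)) (D.syl2_sq P (hP hwR))
        (D.syl2_comm P (hP hvR) (hP hwR))
      have hVR : V ≤ R := fun y hy => by
        rcases (hV y).1 hy with rfl | rfl | rfl | rfl
        exacts [one_mem R, hvR, hwR, mul_mem hvR hwR]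
      have hVR' : R ≤ V := (eq_of_le_of_card_ge hVR (by
        rw [hi, ← show ({1, v, w} : Finset G).card + 1 = 2 ^ 2 by
          simp [hv1.symm, hw1.symm, Ne.symm hwv]]
        rw [Nat.add_one_le_iff]
        have := Fintype.ofFinite V
        rw [Nat.card_eq_fintype_card, ← Fintype.card_coe]
        refine Fintype.card_lt_of_injective_of_notMem
          (fun z => (⟨z.1, (hV _).2 (by
            have := z.2
            simp only [Finset.mem_insert, Finset.mem_singleton] at this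
            tauto)⟩ : V)) (fun a b e => Subtype.ext (congrArg Subtype.val e :))
          (b := ⟨v * w, (hV _).2 (by simp)⟩) ?_
        rintro ⟨⟨z, hz⟩, e⟩
        replace e : z = v * w := congrArg Subtype.val e
        simp only [Finset.mem_insert, Finset.mem_singleton] at hz
        rcases hz with rfl | rfl | rfl
        · apply hwv
          rw [← inv_eq_of_mul_eq_one_right (D.syl2_sq P (hP hvR)),
            inv_eq_of_mul_eq_one_right e.symm]
        · exact hw1 (mul_eq_left.1 e.symm)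
        · exact hv1 (mul_eq_right.1 e.symm))).ge
      have key : ∀ y ∈ R, s * c * s⁻¹ * y = y * (s * c * s⁻¹) := by
        intro y hy
        have hy' : s⁻¹ * y * s ∈ R := by simpa using hnorm s⁻¹ (inv_mem hs) y hy
        obtain ⟨hcv, hcw⟩ := mem_pair.1 hc
        have h1 : Commute c (s⁻¹ * y * s) := by
          rcases (hV _).1 (hVR' hy') with e | e | e | e <;> rw [e]
          exacts [Commute.one_right c, hcv, hcw, hcv.mul_right hcw]
        calc s * c * s⁻¹ * y = s * (c * (s⁻¹ * y * s)) * s⁻¹ := by group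
          _ = s * ((s⁻¹ * y * s) * c) * s⁻¹ := by rw [h1.eq]
          _ = y * (s * c * s⁻¹) := by group
      exact mem_pair.2 ⟨key v hvR, key w hwR⟩
    · have hRP : R = (P : Subgroup G) := eq_of_le_of_card_ge hP (by
        rw [D.syl2_card, hi]; norm_num)
      exact ⟨P, fun s hs => mem_normalizer_of_finite fun y hy => hRP ▸ hnorm s hs y (hRP ▸ hy),
        Or.inl ⟨P, rfl⟩⟩

end Cfsg.Agent.ReeLocal8.ReeData
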