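import Cfsg.Agent.Lib.ReeTori78Counts
import Cfsg.Agent.S1154

/-!
The number of elements of order 3 in a Sylow 3-subgroup of the small Ree group.
-/

set_option autoImplicit false

namespace Cfsg.Agent.ReeTori78Unip

open Cfsg.Agent.ReeLocal8

theorem card_unip {K : Type*} [Field K] [Fintype K] {m : ℕ}
    (hK : Fintype.card K = 3 ^ (2 * m + 1)) :
    Nat.card ↥(Cfsg.Lie.chevG2.posUnipotent K ⊓ Cfsg.Lie.twistedG2 K (3 ^ m)) =
      (3 ^ (2 * m + 1)) ^ 3 := by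
  have : Fact (Nat.Prime 3) := ⟨Nat.prime_three⟩
  have : CharP K 3 := charP_of_card_eq_prime_pow (f := 2 * m + 1) (by rw [hK])
  obtain ⟨X, hX⟩ := ReeInstance17.exists_ctx hK
  rw [← hX, X.card_U1, hK]

theorem card_three_U {K : Type*} [Field K] [Fintype K] {m : ℕ} (hm : 1 ≤ m)
    (hK : Fintype.card K = 3 ^ (2 * m + 1))
    (D : ReeData ↥(Cfsg.Lie.twistedG2 K (3 ^ m))) (hD : D.m = m) :
    Nat.card {w : (D.U : Subgroup ↥(Cfsg.Lie.twistedG2 K (3 ^ m))) // orderOf w = 3} = D.q ^ 2 - 1 := by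
  have : Fact (Nat.Prime 3) := ⟨Nat.prime_three⟩
  have hcard : Nat.card ↥(Cfsg.Lie.chevG2.posUnipotent K ⊓ Cfsg.Lie.twistedG2 K (3 ^ m)) = D.q ^ 3 := by
    rw [card_unip hK, D.q_eq, hD]
  obtain ⟨V, hV⟩ : ∃ V : Subgroup ↥(Cfsg.Lie.twistedG2 K (3 ^ m)),
      V = (Cfsg.Lie.chevG2.posUnipotent K ⊓ Cfsg.Lie.twistedG2 K (3 ^ m)).subgroupOf
        (Cfsg.Lie.twistedG2 K (3 ^ m)) := ⟨_, rfl⟩
  let e : V ≃* ↥(Cfsg.Lie.chevG2.posUnipotent K ⊓ Cfsg.Lie.twistedG2 K (3 ^ m)) :=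
    (MulEquiv.subgroupCongr hV).trans (Subgroup.subgroupOfEquivOfLe inf_le_right)
  have hVc : Nat.card V = D.q ^ 3 := (Nat.card_congr e.toEquiv).trans hcard
  obtain ⟨Q, hQ⟩ := IsPGroup.exists_le_sylow (p := 3) (P := V)
    (IsPGroup.of_card (hVc.trans D.three_pow_q3))
  let e1 : (D.U : Subgroup ↥(Cfsg.Lie.twistedG2 K (3 ^ m))) ≃* (Q : Subgroup ↥(Cfsg.Lie.twistedG2 K (3 ^ m))) :=
    (Sylow.equiv D.U Q)
  have hQV : (Q : Subgroup ↥(Cfsg.Lie.twistedG2 K (3 ^ m))) = V := (Subgroup.eq_of_le_of_card_ge hQ (by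
    rw [hVc, ← Nat.card_congr e1.toEquiv, D.card_U])).symm
  let e2 := e1.trans ((MulEquiv.subgroupCongr hQV).trans e)
  rw [D.q_eq, hD, ← Cfsg.Agent.S1154.result hm hK]
  exact Nat.card_congr (e2.toEquiv.subtypeEquiv fun w => by
    change orderOf w = 3 ↔ orderOf (e2 w) = 3
    rw [MulEquiv.orderOf_eq])

end Cfsg.Agent.ReeTori78Unip
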