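import Cfsg.Agent.Lib.ReeInv8

/-!
The cyclic tori of orders `(q - 1)/2` and `(q + 1)/4` in a group of small Ree type.
-/

set_option autoImplicit false

namespace Cfsg.Agent.ReeLocal8.ReeData

open Subgroup ReeTools8 ReePSL8

variable {G : Type*} [Group G] [Finite G] (D : ReeData G)
include D

omit [Finite G] D in
theorem centralizer_zpowers (x : G) :
    centralizer ((zpowers x : Subgroup G) : Set G) = centralizer ({x} : Set G) := by
  rw [zpowers_eq_closure, Subgroup.centralizer_closure]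

omit D in
theorem normalizer_zpowers_le (x : G) :
    normalizer ((zpowers x : Subgroup G) : Set G) ≤
      normalizer ((centralizer ({x} : Set G) : Subgroup G) : Set G) := by
  rw [← centralizer_zpowers x]
  exact normalizer_le_normalizer_centralizer _

/-! ### The torus in `N(U)` -/

theorem prime_sub_one {p : ℕ} (hp : p.Prime) (hp2 : p ≠ 2) (hd : p ∣ D.q - 1) :
    3 < p ∧ ¬p ∣ D.q + 1 := by
  have hp3 : p ≠ 3 := by rintro rfl; exact D.not_three_dvd_qm1 hd
  refine ⟨by have := hp.two_le; omega, fun h => hp2 ?_⟩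
  have h2 := Nat.dvd_sub h hd
  rw [show D.q + 1 - (D.q - 1) = 2 by have := D.q_ge; omega] at h2
  exact (Nat.prime_dvd_prime_iff_eq hp Nat.prime_two).1 h2

theorem card_fixed_sylow {h : G} {p : ℕ} (hp : p.Prime) (hh : h ∈ D.H) (ho : orderOf h = p)
    (hp2 : p ≠ 2) :
    ∃ P : Sylow 3 G, P ≠ D.U ∧ h ∈ normalizer (P : Set G) ∧
      ∀ Q : Sylow 3 G, h ∈ normalizer (Q : Set G) → Q = D.U ∨ Q = P := by
  classical
  have : Fact p.Prime := ⟨hp⟩
  have : Fact (Nat.Prime 3) := ⟨Nat.prime_three⟩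
  have hd : p ∣ D.q - 1 := D.card_H ▸ ho ▸ orderOf_dvd_natCard _ hh
  have hz : IsPGroup p (zpowers h) := IsPGroup.of_card (n := 1) (by rw [Nat.card_zpowers, ho, pow_one])
  have hmod := hz.card_modEq_card_fixedPoints (Sylow 3 G)
  have heq : MulAction.fixedPoints (zpowers h) (Sylow 3 G) =
      {P : Sylow 3 G | h ∈ normalizer (P : Set G)} := by
    ext P
    rw [Subgroup.sylow_mem_fixedPoints_iff]
    exact ⟨fun hle => hle (mem_zpowers h), fun hm => zpowers_le.2 hm⟩
  rw [heq, D.card_sylow_three] at hmod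
  have hne2 : h ^ 2 ≠ 1 := fun e => by
    have hd2 := orderOf_dvd_of_pow_eq_one e
    rw [ho] at hd2
    exact hp2 ((Nat.prime_dvd_prime_iff_eq hp Nat.prime_two).1 hd2)
  have hle : Nat.card {P : Sylow 3 G | h ∈ normalizer (P : Set G)} ≤ 2 := D.three_pt h hne2
  have hmem : D.U ∈ {P : Sylow 3 G | h ∈ normalizer (P : Set G)} := D.H_le hh
  rw [Nat.card_coe_set_eq] at hle hmod
  have h1 : 0 < {P : Sylow 3 G | h ∈ normalizer (P : Set G)}.ncard :=
    (Set.ncard_pos (Set.toFinite _)).2 ⟨_, hmem⟩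
  have h2 : (D.q ^ 3 + 1) % p = 2 % p := by
    have hq : D.q % p = 1 % p := by
      have := (Nat.modEq_iff_dvd' (show 1 ≤ D.q by have := D.q_ge; omega)).2 hd
      exact this.symm
    rw [Nat.add_mod, Nat.pow_mod, hq, ← Nat.pow_mod, one_pow, ← Nat.add_mod]
  have hp3 := (D.prime_sub_one hp hp2 hd).1
  have hcard : {P : Sylow 3 G | h ∈ normalizer (P : Set G)}.ncard = 2 := by
    have e := h2.symm.trans hmod
    rw [Nat.mod_eq_of_lt (by omega : 2 < p), Nat.mod_eq_of_lt (by omega)] at e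
    exact e.symm
  obtain ⟨x, y, hxy, e⟩ := Set.ncard_eq_two.1 hcard
  have hU : D.U = x ∨ D.U = y := by
    have := e ▸ hmem
    simpa using this
  have hall : ∀ Q : Sylow 3 G, h ∈ normalizer (Q : Set G) → Q = x ∨ Q = y := fun Q hQ => by
    have : Q ∈ {P : Sylow 3 G | h ∈ normalizer (P : Set G)} := hQ
    rw [e] at this
    simpa using this
  rcases hU with hU | hU
  · refine ⟨y, hU ▸ hxy.symm, ?_, fun Q hQ => hU ▸ hall Q hQ⟩
    have : y ∈ {P : Sylow 3 G | h ∈ normalizer (P : Set G)} := by rw [e]; simp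
    exact this
  · refine ⟨x, hU ▸ hxy, ?_, fun Q hQ => hU ▸ (hall Q hQ).symm⟩
    have : x ∈ {P : Sylow 3 G | h ∈ normalizer (P : Set G)} := by rw [e]; simp
    exact this

theorem centralizer_inf_N {g h : G} (hh : h ∈ D.H) (h2 : h ^ 2 ≠ 1)
    (hg : g ∈ normalizer (D.U : Set G)) (hc : Commute g h) : g ∈ D.H := by
  obtain ⟨u, hu, k, hk, rfl⟩ := D.exists_mul hg
  have hku : Commute k h := D.H_comm hk hh
  have : Commute u h := by
    have := hc.mul_left (hku.inv_left)
    rwa [mul_inv_cancel_right] at this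
  rw [D.fpf_sq hh h2 hu this.symm, one_mul]
  exact hk

/-- Normalizer and centralizer of a subgroup of odd prime order of `H`. -/
theorem H_prime {h : G} {p : ℕ} (hp : p.Prime) (hh : h ∈ D.H) (ho : orderOf h = p) (hp2 : p ≠ 2) :
    centralizer ({h} : Set G) = D.H ∧
      normalizer ((zpowers h : Subgroup G) : Set G) = normalizer (D.H : Set G) ∧
      Nat.card (normalizer (D.H : Set G)) = 2 * (D.q - 1) := by
  classical
  have : Fact p.Prime := ⟨hp⟩
  have : Fact (Nat.Prime 3) := ⟨Nat.prime_three⟩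
  have hd : p ∣ D.q - 1 := D.card_H ▸ ho ▸ orderOf_dvd_natCard _ hh
  obtain ⟨hp3, hpq⟩ := D.prime_sub_one hp hp2 hd
  have hh2 : h ^ 2 ≠ 1 := fun e => by
    have hd2 := orderOf_dvd_of_pow_eq_one e
    rw [ho] at hd2
    exact hp2 ((Nat.prime_dvd_prime_iff_eq hp Nat.prime_two).1 hd2)
  obtain ⟨P, hPU, hPh, hall⟩ := D.card_fixed_sylow hp hh ho hp2
  have hstab : ∀ g ∈ normalizer ((zpowers h : Subgroup G) : Set G),
      g • D.U = D.U ∨ g • D.U = P := by
    intro g hg
    apply hall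
    have hinv : g⁻¹ * h * g ∈ zpowers h := by
      have := (mem_normalizer_iff.1 (inv_mem hg) h).1 (mem_zpowers h)
      simpa using this
    have hm : g⁻¹ * h * g ∈ normalizer (D.U : Set G) := D.H_le (zpowers_le.2 hh hinv)
    rw [← Sylow.smul_eq_iff_mem_normalizer] at hm ⊢
    rw [smul_smul, show h * g = g * (g⁻¹ * h * g) by group, ← smul_smul, hm]
  have hN : ∀ g ∈ normalizer ((zpowers h : Subgroup G) : Set G),
      g ∈ normalizer (D.U : Set G) → g ∈ D.H := by
    intro g hg hgU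
    refine D.centralizer_inf_N hh hh2 hgU ?_
    obtain ⟨u, hu, k, hk, rfl⟩ := D.exists_mul hgU
    have hm : u * k * h * (u * k)⁻¹ ∈ D.H :=
      zpowers_le.2 hh ((mem_normalizer_iff.1 hg h).1 (mem_zpowers h))
    have e : u * k * h * (u * k)⁻¹ = (u * (h * u⁻¹ * h⁻¹)) * h := by
      rw [show u * k * h * (u * k)⁻¹ = u * (k * h * k⁻¹) * u⁻¹ by group, D.H_comm hk hh,
        mul_inv_cancel_right]
      group
    have hc : u * (h * u⁻¹ * h⁻¹) = 1 := D.U_inf_H (mul_mem hu (D.conj_U (D.H_le hh) (inv_mem hu)))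
      (by
        have h1 := mul_mem hm (inv_mem hh)
        rwa [e, mul_inv_cancel_right] at h1)
    rw [hc, one_mul] at e
    exact mul_inv_eq_iff_eq_mul.1 e
  -- an element exchanging the two fixed points
  obtain ⟨x, hx⟩ := MulAction.exists_smul_eq G D.U P
  have hh' : x⁻¹ * h * x ∈ normalizer (D.U : Set G) := by
    rw [← Sylow.smul_eq_iff_mem_normalizer, mul_smul, mul_smul, hx,
      Sylow.smul_eq_iff_mem_normalizer.2 hPh, ← hx, inv_smul_smul]
  obtain ⟨g, hgZ, hgU⟩ : ∃ g ∈ normalizer ((zpowers h : Subgroup G) : Set G),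
      g ∉ normalizer (D.U : Set G) := by
    obtain ⟨u, hu, k, hk, e⟩ := D.exists_mul hh'
    have hord : orderOf (x⁻¹ * h * x) = p := by
      rw [show x⁻¹ * h * x = MulAut.conj x⁻¹ h by simp, MulEquiv.orderOf_eq, ho]
    have hk2 : k ^ 2 ≠ 1 := by
      intro h2
      have hsq : x⁻¹ * h * x * (x⁻¹ * h * x) ∈ D.U := by
        rw [e, show u * k * (u * k) = u * (k * u * k⁻¹) * k ^ 2 by group, h2, mul_one]
        exact mul_mem hu (D.conj_U (D.H_le hk) hu)
      obtain ⟨i, hi⟩ := D.U_pow hsq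
      have hd := orderOf_dvd_of_pow_eq_one (x := x⁻¹ * h * x) (n := 2 * 3 ^ i)
        (by rw [pow_mul, sq]; exact hi)
      rw [hord] at hd
      rcases (Nat.Prime.dvd_mul hp).1 hd with h' | h'
      · exact hp2 ((Nat.prime_dvd_prime_iff_eq hp Nat.prime_two).1 h')
      · have := (Nat.prime_dvd_prime_iff_eq hp Nat.prime_three).1 (hp.dvd_of_dvd_pow h')
        omega
    obtain ⟨v, hv, ev⟩ := D.conj_of_sq_ne hu hk hk2
    refine ⟨x * v, ?_, fun hm => hPU ?_⟩
    · have eh : x * v * k * (x * v)⁻¹ = h := by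
        rw [show x * v * k * (x * v)⁻¹ = x * (v * k * v⁻¹) * x⁻¹ by group, ev, ← e]; group
      have hkp : orderOf k = p := by
        rw [← ho, ← eh]; exact (MulEquiv.orderOf_eq (MulAut.conj (x * v)) k).symm
      have := D.H_cyclic
      have hz := eq_of_card_eq_cyclic (H := D.H) (K := zpowers k) (L := zpowers h)
        (zpowers_le.2 hk) (zpowers_le.2 hh) (by rw [Nat.card_zpowers, Nat.card_zpowers, hkp, ho])
      refine mem_normalizer_of_finite fun y hy => ?_
      have hy' : y ∈ zpowers k := hz.symm ▸ hy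
      obtain ⟨i, rfl⟩ := mem_zpowers_iff.1 hy'
      rw [← conj_zpow, eh]
      exact zpow_mem (mem_zpowers h) i
    · rw [← hx, Sylow.smul_eq_iff_mem_normalizer.2]
      simpa using mul_mem hm (inv_mem (D.U_le_N hv))
  have hgP : g • D.U = P :=
    (hstab g hgZ).resolve_left fun e => hgU (Sylow.smul_eq_iff_mem_normalizer.1 e)
  have hHle : D.H ≤ normalizer ((zpowers h : Subgroup G) : Set G) := fun k hk =>
    mem_normalizer_of_finite fun y hy => by
      rw [D.H_comm hk (zpowers_le.2 hh hy), mul_inv_cancel_right]; exact hy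
  have hcard : Nat.card (normalizer ((zpowers h : Subgroup G) : Set G)) = 2 * (D.q - 1) := by
    let f : Bool × D.H → normalizer ((zpowers h : Subgroup G) : Set G) := fun b =>
      ⟨(if b.1 then g else 1) * b.2.1,
        mul_mem (by split_ifs; exacts [hgZ, one_mem _]) (hHle b.2.2)⟩
    have hmv : ∀ {b c : G}, b ∈ D.H → c ∈ D.H → g * b ≠ 1 * c := fun {b c} hb hc e => hgU <| by
      have : g = c * b⁻¹ := by rw [eq_mul_inv_iff_mul_eq, e, one_mul]
      rw [this]
      exact D.H_le (mul_mem hc (inv_mem hb))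
    have hinj : Function.Injective f := by
      rintro ⟨b, k⟩ ⟨c, l⟩ e
      have e' := congrArg Subtype.val e
      simp only [f] at e'
      cases b <;> cases c <;>
        simp only [Bool.false_eq_true, if_false, if_true] at e'
      · exact Prod.ext rfl (Subtype.ext (mul_left_cancel e'))
      · exact absurd e'.symm (hmv l.2 k.2)
      · exact absurd e' (hmv k.2 l.2)
      · exact Prod.ext rfl (Subtype.ext (mul_left_cancel e'))
    have hsurj : Function.Surjective f := by
      rintro ⟨y, hy⟩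
      rcases hstab y hy with e | e
      · exact ⟨(false, ⟨y, hN y hy (Sylow.smul_eq_iff_mem_normalizer.1 e)⟩),
          Subtype.ext (by simp [f])⟩
      · refine ⟨(true, ⟨g⁻¹ * y, hN _ (mul_mem (inv_mem hgZ) hy) ?_⟩), Subtype.ext (by simp [f])⟩
        rw [← Sylow.smul_eq_iff_mem_normalizer, mul_smul, e, ← hgP, inv_smul_smul]
    rw [← Nat.card_congr (Equiv.ofBijective f ⟨hinj, hsurj⟩), Nat.card_prod, D.card_H]
    simp
  have hC : centralizer ({h} : Set G) = D.H := by
    refine le_antisymm (fun y hy => ?_)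
      fun y hy => mem_centralizer_singleton_iff.2 (D.H_comm hy hh)
    have hyc : Commute y h := mem_centralizer_singleton_iff.1 hy
    have hyZ : ∀ {z : G}, Commute z h → z ∈ normalizer ((zpowers h : Subgroup G) : Set G) :=
      fun {z} hz => mem_normalizer_of_finite fun w hw => by
        obtain ⟨i, rfl⟩ := mem_zpowers_iff.1 hw
        rw [(hz.zpow_right i).eq, mul_inv_cancel_right]
        exact hw
    by_cases hyU : y ∈ normalizer (D.U : Set G)
    · exact D.centralizer_inf_N hh hh2 hyU hyc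
    exfalso
    have hyP : y • D.U = P :=
      (hstab y (hyZ hyc)).resolve_left fun e => hyU (Sylow.smul_eq_iff_mem_normalizer.1 e)
    have hsw : y • P = D.U := by
      have hm : h ∈ normalizer ((y • P : Sylow 3 G) : Set G) := by
        rw [← Sylow.smul_eq_iff_mem_normalizer, smul_smul, ← hyc.eq, mul_smul,
          Sylow.smul_eq_iff_mem_normalizer.2 hPh]
      refine (hall _ hm).resolve_right fun e => hPU ?_
      exact (smul_left_cancel y (hyP.trans e.symm)).symm
    -- an involution centralizing `h` outside `N(U)`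
    obtain ⟨e, m, hm2, hem⟩ := Nat.exists_eq_two_pow_mul_odd (orderOf_pos y).ne'
    obtain ⟨t, ht⟩ : ∃ t, t = y ^ m := ⟨_, rfl⟩
    have ht2 : t ^ 2 = 1 := D.two_elem_sq (k := e)
      (by rw [ht, ← pow_mul, mul_comm, ← hem, pow_orderOf_eq_one])
    have htU : t • D.U = P := by
      obtain ⟨i, rfl⟩ := hm2
      have hpow : ∀ i : ℕ, (y ^ (2 * i)) • D.U = D.U := fun i => by
        induction i with
        | zero => simp
        | succ n ih => rw [Nat.mul_succ, pow_add, mul_smul, sq, mul_smul, hyP, hsw, ih]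
      rw [ht, pow_succ', mul_smul, hpow i, hyP]
    have htc : Commute t h := ht ▸ hyc.pow_left m
    have htn : t ∉ normalizer (D.U : Set G) := fun hn =>
      hPU (htU.symm.trans (Sylow.smul_eq_iff_mem_normalizer.2 hn))
    have hta : Commute t D.a := by
      have htt : t⁻¹ = t := inv_eq_of_mul_eq_one_right (by rw [← sq, ht2])
      have hm : t * D.a * t ∈ D.H := by
        refine D.centralizer_inf_N hh hh2 ?_
          ((htc.mul_left (D.H_comm D.a_mem hh)).mul_left htc)
        have haP : D.a • P = P := by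
          have hm : h ∈ normalizer ((D.a • P : Sylow 3 G) : Set G) := by
            rw [← Sylow.smul_eq_iff_mem_normalizer, smul_smul, D.H_comm hh D.a_mem, mul_smul,
              Sylow.smul_eq_iff_mem_normalizer.2 hPh]
          refine (hall _ hm).resolve_left fun e => hPU ?_
          exact smul_left_cancel D.a
            (e.trans (Sylow.smul_eq_iff_mem_normalizer.2 (D.H_le D.a_mem)).symm)
        rw [← Sylow.smul_eq_iff_mem_normalizer, mul_smul, mul_smul, htU, haP, ← htU, smul_smul,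
          ← sq, ht2, one_smul]
      have hsq : (t * D.a * t) ^ 2 = 1 := by
        rw [sq, show t * D.a * t * (t * D.a * t) = t * D.a * (t * t) * D.a * t by group, ← sq t, ht2,
          mul_one, mul_assoc t D.a D.a, D.a_sq, mul_one, ← sq, ht2]
      rcases D.H_sq_eq_one hm hsq with e1 | e1
      · exfalso
        apply D.a_ne
        calc D.a = t⁻¹ * (t * D.a * t) * t⁻¹ := by group
          _ = t⁻¹ * t⁻¹ := by rw [e1]; group
          _ = 1 := by rw [htt, ← sq, ht2]
      · calc t * D.a = t * D.a * t * t := by rw [mul_assoc (t * D.a), ← sq, ht2, mul_one]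
          _ = D.a * t := by rw [e1]
    have hin := (D.inv_cent (t := D.a) D.a_ne D.a_sq).inv t hta
      (fun e1 => htn (e1 ▸ one_mem _)) (fun e1 => htn (e1 ▸ D.H_le D.a_mem)) (by rw [← sq, ht2])
    have hmem : h ∈ centralizer ({D.a, t} : Set G) := mem_pair.2 ⟨D.H_comm hh D.a_mem, htc.symm⟩
    have hdiv := orderOf_dvd_natCard _ hmem
    rw [hin, ho] at hdiv
    rcases (Nat.Prime.dvd_mul hp).1 hdiv with h' | h'
    · exact hp2 ((Nat.prime_dvd_prime_iff_eq hp Nat.prime_two).1 h')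
    · exact hpq h'
  have hNH : normalizer ((zpowers h : Subgroup G) : Set G) = normalizer (D.H : Set G) := by
    have := D.H_cyclic
    refine le_antisymm ?_ (normalizer_le_of_le_cyclic (zpowers_le.2 hh))
    have := normalizer_zpowers_le h
    rwa [hC] at this
  exact ⟨hC, hNH, hNH ▸ hcard⟩

theorem centralizer_H {h : G} (hh : h ∈ D.H) (h2 : h ^ 2 ≠ 1) : centralizer ({h} : Set G) = D.H := by
  refine le_antisymm (fun y hy => ?_) fun y hy => mem_centralizer_singleton_iff.2 (D.H_comm hy hh)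
  have hd : orderOf (h ^ 2) ≠ 1 := fun e => h2 (orderOf_eq_one_iff.1 e)
  obtain ⟨p, hp, hpd⟩ := Nat.exists_prime_and_dvd hd
  have hp2 : p ≠ 2 := by
    rintro rfl
    obtain ⟨i, hi⟩ := D.odd_sq hh
    omega
  obtain ⟨k, hk⟩ := exists_prime_pow hpd
  rw [← (D.H_prime hp (pow_mem (pow_mem hh 2) k) hk hp2).1, mem_centralizer_singleton_iff]
  have hyh : Commute y h := mem_centralizer_singleton_iff.1 hy
  exact ((hyh.pow_right 2).pow_right k).eq

theorem conj_into_H {g : G} {p : ℕ} (hp : p.Prime) (hp2 : p ≠ 2) (hd : p ∣ D.q - 1)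
    (hg : p ∣ orderOf g) : ∃ x : G, x * g * x⁻¹ ∈ D.H := by
  have : Fact p.Prime := ⟨hp⟩
  obtain ⟨⟨y, hyH⟩, hy⟩ := exists_prime_orderOf_dvd_card' (G := D.H) p (by rw [D.card_H]; exact hd)
  rw [← Subgroup.orderOf_coe] at hy
  obtain ⟨k, hk⟩ := exists_prime_pow hg
  obtain ⟨x, hx⟩ := exists_conj_mem_zpowers (D.cyclic p hp (D.prime_sub_one hp hp2 hd).1) hk hy
  have hxH : x * g ^ k * x⁻¹ ∈ D.H := zpowers_le.2 hyH hx
  have ho : orderOf (x * g ^ k * x⁻¹) = p := hk ▸ MulEquiv.orderOf_eq (MulAut.conj x) _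
  refine ⟨x, ?_⟩
  rw [← (D.H_prime hp hxH ho hp2).1, mem_centralizer_singleton_iff, ← conj_pow]
  exact ((Commute.refl _).pow_right k).eq

/-- The torus of order `(q - 1)/2`. -/
theorem torus_minus : ∃ A : Subgroup G, IsCyclic A ∧ Nat.card A = (D.q - 1) / 2 ∧
    Nat.card (normalizer (A : Set G)) = 2 * (D.q - 1) ∧
    ∀ A₀ : Subgroup G, A₀ ≤ A → A₀ ≠ ⊥ → normalizer (A₀ : Set G) = normalizer (A : Set G) := by
  have := D.H_cyclic
  obtain ⟨⟨h, hh⟩, hgen⟩ := IsCyclic.exists_ofOrder_eq_natCard (α := D.H)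
  rw [← Subgroup.orderOf_coe, D.card_H] at hgen
  obtain ⟨A, hA⟩ : ∃ A, A = zpowers (h ^ 2) := ⟨_, rfl⟩
  have hAH : A ≤ D.H := hA ▸ zpowers_le.2 (pow_mem hh 2)
  have hord : orderOf (h ^ 2) = (D.q - 1) / 2 := by
    rw [orderOf_pow, hgen, Nat.gcd_eq_right]
    have := D.q_mod8; omega
  have hcardA : Nat.card A = (D.q - 1) / 2 := by rw [hA, Nat.card_zpowers, hord]
  have key : ∀ A₀ : Subgroup G, A₀ ≤ A → A₀ ≠ ⊥ →
      normalizer (A₀ : Set G) = normalizer (D.H : Set G) ∧
        Nat.card (normalizer (D.H : Set G)) = 2 * (D.q - 1) := by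
    intro A₀ hle hne
    obtain ⟨p, hp, hpd⟩ := Nat.exists_prime_and_dvd (fun e => hne (card_eq_one.1 e) : Nat.card A₀ ≠ 1)
    have : Fact p.Prime := ⟨hp⟩
    have hp2 : p ≠ 2 := by
      rintro rfl
      have := hpd.trans (card_dvd_of_le hle)
      rw [hcardA] at this
      have := D.q_mod8; omega
    obtain ⟨⟨y, hy⟩, hyo⟩ := exists_prime_orderOf_dvd_card' (G := A₀) p hpd
    rw [← Subgroup.orderOf_coe] at hyo
    obtain ⟨-, h2, h3⟩ := D.H_prime hp (hAH (hle hy)) hyo hp2
    refine ⟨le_antisymm ?_ (normalizer_le_of_le_cyclic (hle.trans hAH)), h3⟩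
    rw [← h2]
    have : IsCyclic A₀ := isCyclic_of_injective (Subgroup.inclusion (hle.trans hAH))
      (Subgroup.inclusion_injective _)
    exact normalizer_le_of_le_cyclic (zpowers_le.2 hy)
  have hAne : A ≠ ⊥ := fun e => by
    rw [e, card_bot] at hcardA
    have := D.q_ge; omega
  obtain ⟨h1, h2⟩ := key A le_rfl hAne
  exact ⟨A, hA ▸ inferInstance, hcardA, h1 ▸ h2, fun A₀ hle hne => (key A₀ hle hne).1.trans h1.symm⟩

/-! ### The torus centralizing a four group -/

omit [Finite G] D in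
theorem exists_klein {v w : G} (hv : v * v = 1) (hw : w * w = 1) (hvw : v * w = w * v) :
    ∃ V : Subgroup G, ∀ y, y ∈ V ↔ y = 1 ∨ y = v ∨ y = w ∨ y = v * w := by
  have e1 : w * v = v * w := hvw.symm
  have e2 : ∀ z : G, v * (v * z) = z := fun z => by rw [← mul_assoc, hv, one_mul]
  have e3 : ∀ z : G, w * (w * z) = z := fun z => by rw [← mul_assoc, hw, one_mul]
  have e4 : ∀ z : G, w * (v * z) = v * (w * z) := fun z => by rw [← mul_assoc, e1, mul_assoc]
  refine ⟨
    { carrier := {y | y = 1 ∨ y = v ∨ y = w ∨ y = v * w}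
      one_mem' := Or.inl rfl
      mul_mem' := ?_
      inv_mem' := ?_ }, fun y => Iff.rfl⟩
  · rintro x y (rfl | rfl | rfl | rfl) (rfl | rfl | rfl | rfl) <;>
      simp [mul_assoc, hv, hw, e1, e2, e4]
  · rintro x (rfl | rfl | rfl | rfl) <;>
      simp [inv_eq_of_mul_eq_one_right hv, inv_eq_of_mul_eq_one_right hw, e1]

theorem prime_add_one {p : ℕ} (hp : p.Prime) (hd : p ∣ (D.q + 1) / 4) :
    p ≠ 2 ∧ 3 < p ∧ p ∣ D.q + 1 ∧ ¬p ∣ D.q - 1 := by
  have hq : p ∣ D.q + 1 := hd.trans ⟨4, by have := D.q_mod8; omega⟩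
  have hp2 : p ≠ 2 := by rintro rfl; have := D.q_mod8; omega
  have hp3 : p ≠ 3 := by rintro rfl; exact D.not_three_dvd_qp1 hq
  exact ⟨hp2, by have := hp.two_le; omega, hq, fun h => (D.prime_sub_one hp hp2 h).2 hq⟩

/-- The centralizer of an element of prime order dividing `(q + 1)/4` centralized by a four
group. -/
theorem cent_x {v w x : G} (hv : v * v = 1) (hw : w * w = 1) (hv1 : v ≠ 1) (hw1 : w ≠ 1)
    (hne : v ≠ w) (hvw : v * w = w * v) (hxv : Commute x v) (hxw : Commute x w) {p : ℕ}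
    (hp : p.Prime) (hd : p ∣ (D.q + 1) / 4) (ho : orderOf x = p) :
    centralizer ({x} : Set G) = centralizer ({v, x} : Set G) ∧
      Nat.card (centralizer ({x} : Set G)) = D.q + 1 ∧
      (∀ y z : G, Commute y x → Commute z x → y * z = z * y) ∧
      {y : G | Commute y x ∧ y * y = 1} = {1, v, w, v * w} ∧ (v * w ≠ 1 ∧ v * w ≠ v ∧ v * w ≠ w) := by
  classical
  have : Fact (Nat.Prime 2) := ⟨Nat.prime_two⟩
  have : Fact p.Prime := ⟨hp⟩
  obtain ⟨hp2, hp3, hpq, hpq'⟩ := D.prime_add_one hp hd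
  have hx1 : x ≠ 1 := fun e => by rw [e, orderOf_one] at ho; exact hp.ne_one ho.symm
  have hodd : Odd (orderOf x) := ho ▸ hp.odd_of_ne_two hp2
  have h3 : ¬3 ∣ orderOf x := by
    rw [ho]; intro h
    have := (Nat.prime_dvd_prime_iff_eq Nat.prime_three hp).1 h
    omega
  have hvw1 : v * w ≠ 1 := fun e => hne (by
    rw [← inv_eq_of_mul_eq_one_right hv, inv_eq_of_mul_eq_one_right e])
  have hvwv : v * w ≠ v := fun e => hw1 (mul_eq_left.1 e)
  have hvww : v * w ≠ w := fun e => hv1 (mul_eq_right.1 e)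
  have hvwsq : v * w * (v * w) = 1 := by
    calc v * w * (v * w) = v * (w * v) * w := by group
      _ = v * v * (w * w) := by rw [← hvw]; group
      _ = 1 := by rw [hv, hw, one_mul]
  have hcard : ∀ t : G, t ≠ 1 → t * t = 1 → Commute x t →
      Nat.card (centralizer ({t, x} : Set G)) = D.q + 1 ∧
        (∀ y z : G, Commute y t → Commute y x → Commute z t → Commute z x → y * z = z * y) := by
    intro t ht1 ht hxt
    obtain ⟨h1, h2⟩ := (D.inv_cent ht1 ht).odd x hxt hx1 hodd h3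
    refine ⟨h2.resolve_left fun e => hpq' ?_, h1⟩
    rw [← e, ← ho]
    exact orderOf_dvd_natCard _ (mem_pair.2 ⟨hxt, Commute.refl x⟩)
  obtain ⟨hcv, hcommv⟩ := hcard v hv1 hv hxv
  have heq : ∀ t : G, t ≠ 1 → t * t = 1 → Commute x t → Commute t v →
      centralizer ({t, x} : Set G) = centralizer ({v, x} : Set G) := by
    intro t ht1 ht hxt htv
    symm
    refine eq_of_le_of_card_ge (fun y hy => ?_) ((hcard t ht1 ht hxt).1.trans hcv.symm).le
    obtain ⟨h1, h2⟩ := mem_pair.1 hy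
    exact mem_pair.2 ⟨hcommv y t h1 h2 htv hxt.symm, h2⟩
  have h8 : ¬8 ∣ Nat.card (centralizer ({x} : Set G)) := by
    intro h8
    obtain ⟨K, hK⟩ := Sylow.exists_subgroup_card_pow_prime (G := centralizer ({x} : Set G)) 2 (n := 3)
      (by simpa using h8)
    obtain ⟨P, hP⟩ := IsPGroup.exists_le_sylow (p := 2) (P := K.map (centralizer ({x} : Set G)).subtype)
      ((IsPGroup.of_card hK).map _)
    have hPe : (P : Subgroup G) = K.map (centralizer ({x} : Set G)).subtype := by
      refine (eq_of_le_of_card_ge hP ?_).symm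
      rw [D.syl2_card, Nat.card_congr (K.equivMapOfInjective _ (subtype_injective _)).toEquiv.symm,
        hK]
      norm_num
    have hxC : x ∈ centralizer ((P : Subgroup G) : Set G) := by
      rw [mem_centralizer_iff]
      intro y hy
      rw [hPe] at hy
      obtain ⟨⟨z, hz⟩, -, rfl⟩ := hy
      exact mem_centralizer_singleton_iff.1 hz
    replace hxC : x ∈ centralizer (P : Set G) := hxC
    rw [D.centralizer_syl2 P] at hxC
    have := D.syl2_sq P hxC
    have hd2 := orderOf_dvd_of_pow_eq_one (x := x) (n := 2) (by rw [sq, this])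
    rw [ho] at hd2
    exact hp2 ((Nat.prime_dvd_prime_iff_eq hp Nat.prime_two).1 hd2)
  have h3L : ¬3 ∣ Nat.card (centralizer ({x} : Set G)) := by
    intro h
    have : Fact (Nat.Prime 3) := ⟨Nat.prime_three⟩
    obtain ⟨⟨y, hy⟩, hyo⟩ := exists_prime_orderOf_dvd_card' (G := centralizer ({x} : Set G)) 3 h
    rw [← Subgroup.orderOf_coe] at hyo
    replace hyo : orderOf y = 3 := hyo
    have hy1 : y ≠ 1 := fun e => by rw [e, orderOf_one] at hyo; omega
    have h18 := D.pow_18_of_commute (k := 1) hy1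
      (by rw [pow_one]; exact hyo ▸ pow_orderOf_eq_one y) (mem_centralizer_singleton_iff.1 hy)
    have hd := orderOf_dvd_of_pow_eq_one h18
    rw [ho] at hd
    rcases (Nat.Prime.dvd_mul hp).1 (show p ∣ 2 * 3 ^ 2 from hd) with h' | h'
    · exact hp2 ((Nat.prime_dvd_prime_iff_eq hp Nat.prime_two).1 h')
    · have := (Nat.prime_dvd_prime_iff_eq hp Nat.prime_three).1 (hp.dvd_of_dvd_pow h')
      omega
  obtain ⟨V, hV⟩ := exists_klein hv hw hvw
  obtain ⟨L, hL⟩ : ∃ L, L = centralizer ({x} : Set G) := ⟨_, rfl⟩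
  rw [← hL] at h8 h3L ⊢
  have hVL : V ≤ L := fun y hy => hL ▸ mem_centralizer_singleton_iff.2 (by
    rcases (hV y).1 hy with rfl | rfl | rfl | rfl
    exacts [Commute.one_left x, hxv.symm, hxw.symm, (hxv.symm.mul_left hxw.symm)])
  have hVcard : Nat.card V = 4 := by
    have : (V : Set G) = {1, v, w, v * w} := by
      ext y; simpa using hV y
    rw [show Nat.card V = Nat.card (V : Set G) from rfl, Nat.card_coe_set_eq, this,
      Set.ncard_eq_toFinset_card']
    simp [hv1.symm, hw1.symm, hvw1.symm, hne, hvwv.symm, hvww.symm]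
  have hVp : IsPGroup 2 (V.subgroupOf L) := IsPGroup.of_card (n := 2)
    (by rw [Nat.card_congr (subgroupOfEquivOfLe hVL).toEquiv, hVcard]; norm_num)
  obtain ⟨P, hP⟩ := hVp.exists_le_sylow
  have hPe : (P : Subgroup L) = V.subgroupOf L := by
    refine (eq_of_le_of_card_ge hP ?_).symm
    rw [Nat.card_congr (subgroupOfEquivOfLe hVL).toEquiv, hVcard]
    obtain ⟨i, hi⟩ := P.2.exists_card_eq
    have hd := card_subgroup_dvd_card (P : Subgroup L)
    rw [hi] at hd ⊢
    by_contra h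
    have : 3 ≤ i := by
      by_contra h'
      have := Nat.pow_le_pow_right (show 1 ≤ 2 by norm_num) (show i ≤ 2 by omega)
      omega
    exact h8 ((pow_dvd_pow 2 this).trans hd)
  -- the normalizer of the four group in `L` centralizes it
  have hfix : ∀ t, (t = v ∨ t = w) → ∀ n ∈ normalizer (V : Set G), n ∈ L → Commute n t := by
    intro t htt n hn hnL
    obtain ⟨ht1, ht⟩ : t ≠ 1 ∧ t ∈ V := by
      rcases htt with rfl | rfl
      · exact ⟨hv1, (hV _).2 (Or.inr (Or.inl rfl))⟩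
      · exact ⟨hw1, (hV _).2 (Or.inr (Or.inr (Or.inl rfl)))⟩
    obtain ⟨N, hN⟩ : ∃ N : Subgroup G, N = normalizer (V : Set G) ⊓ L := ⟨_, rfl⟩
    have horb := card_orbit_mul N t
    obtain ⟨O, hO⟩ : ∃ O : Set G, O = {y : G | ∃ g ∈ N, g * t * g⁻¹ = y} := ⟨_, rfl⟩
    rw [← hO] at horb
    have hOsub : O ⊆ {v, w, v * w} := by
      rw [hO]
      rintro _ ⟨g, hg, rfl⟩
      rw [hN] at hg
      rcases (hV _).1 ((mem_normalizer_iff.1 hg.1 t).1 ht) with e | e | e | e
      · exact absurd (conj_eq_one_iff.1 e) ht1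
      · simp [e]
      · simp [e]
      · simp [e]
    have hle := Set.ncard_le_ncard hOsub (Set.toFinite _)
    have h3' : ({v, w, v * w} : Set G).ncard ≤ 3 := by
      refine (Set.ncard_insert_le _ _).trans ?_
      refine Nat.succ_le_succ ((Set.ncard_insert_le _ _).trans ?_)
      rw [Set.ncard_singleton]
    have h4 : 4 ∣ Nat.card (N ⊓ centralizer ({t} : Set G) : Subgroup G) := by
      rw [← hVcard]
      refine card_dvd_of_le fun y hy => ⟨hN ▸ ⟨le_normalizer hy, hVL hy⟩, ?_⟩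
      refine mem_centralizer_singleton_iff.2 ?_
      rcases htt with rfl | rfl <;> rcases (hV y).1 hy with rfl | rfl | rfl | rfl
      · simp
      · rfl
      · exact hvw.symm
      · rw [mul_assoc, ← hvw]
      · simp
      · exact hvw
      · rfl
      · rw [← mul_assoc, hvw]
    have hdvd : Nat.card N ∣ Nat.card L := card_dvd_of_le (hN ▸ inf_le_right)
    have htO : t ∈ O := hO ▸ ⟨1, one_mem _, by group⟩
    have hpos : 0 < O.ncard := (Set.ncard_pos (Set.toFinite _)).2 ⟨t, htO⟩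
    have hk : O.ncard = 1 := by
      have hk2 : O.ncard ≠ 2 := fun e => h8 (by
        refine dvd_trans ?_ hdvd
        rw [← horb, e]; exact mul_dvd_mul_left 2 h4)
      have hk3 : O.ncard ≠ 3 := fun e => h3L (by
        refine dvd_trans ?_ hdvd
        rw [← horb, e]; exact dvd_mul_right 3 _)
      omega
    obtain ⟨z, hz⟩ := Set.ncard_eq_one.1 hk
    have hnt : n * t * n⁻¹ ∈ O := hO ▸ ⟨n, hN ▸ ⟨hn, hnL⟩, rfl⟩
    rw [hz, Set.mem_singleton_iff] at htO hnt
    exact mul_inv_eq_iff_eq_mul.1 (hnt.trans htO.symm)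
  have hPN : normalizer (P : Set L) ≤ centralizer (P : Set L) := by
    intro n hn
    have hnV : (n : G) ∈ normalizer (V : Set G) := mem_normalizer_of_finite fun y hy => by
      have h1 : (⟨y, hVL hy⟩ : L) ∈ (P : Subgroup L) := by rw [hPe]; exact hy
      have := (mem_normalizer_iff.1 hn _).1 h1
      rw [hPe] at this
      exact this
    have h1 := hfix v (Or.inl rfl) n hnV n.2
    have h2 := hfix w (Or.inr rfl) n hnV n.2
    rw [mem_centralizer_iff]
    intro y hy
    have hy' : (y : G) ∈ V := by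
      have : y ∈ (P : Subgroup L) := hy
      rw [hPe] at this; exact this
    apply Subtype.ext
    rcases (hV _).1 hy' with e | e | e | e <;> simp only [Subgroup.coe_mul, e]
    · simp
    · exact h1.eq.symm
    · exact h2.eq.symm
    · exact (h1.mul_right h2).eq.symm
  obtain ⟨K, hK⟩ : ∃ K : Subgroup L, K = (MonoidHom.transferSylow P hPN).ker := ⟨_, rfl⟩
  have hKn : K.Normal := hK ▸ inferInstance
  have hKodd : ∀ k ∈ K.map L.subtype, Odd (orderOf k) := by
    rintro _ ⟨k, hk, rfl⟩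
    rw [Nat.odd_iff]
    by_contra h
    refine MonoidHom.not_dvd_card_ker_transferSylow P hPN ?_
    have hd : orderOf k ∣ Nat.card K := orderOf_dvd_natCard _ hk
    rw [hK] at hd
    refine dvd_trans ?_ hd
    rw [Subgroup.coe_subtype, Subgroup.orderOf_coe] at h
    omega
  have hKc : ∀ t : G, t * t = 1 → t ∈ L → ∀ k ∈ K.map L.subtype, t * k * t ∈ K.map L.subtype := by
    rintro t ht htL _ ⟨k, hk, rfl⟩
    refine ⟨⟨t, htL⟩ * k * ⟨t, htL⟩⁻¹, hKn.conj_mem k hk _, ?_⟩
    simp [inv_eq_of_mul_eq_one_right ht]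
  have hKcomm : ∀ k ∈ K.map L.subtype, Commute k x := by
    rintro _ ⟨k, -, rfl⟩
    have := k.2
    simp only [hL] at this
    exact mem_centralizer_singleton_iff.1 this
  have hfix' := klein_fixed (K.map L.subtype) hKodd hv hw hvw
    (hKc v hv (hVL ((hV v).2 (Or.inr (Or.inl rfl)))))
    (hKc w hw (hVL ((hV w).2 (Or.inr (Or.inr (Or.inl rfl))))))
    (fun k hk hkw => by
      have : k ∈ centralizer ({w, x} : Set G) := mem_pair.2 ⟨hkw, hKcomm k hk⟩
      rw [heq w hw1 hw hxw hvw.symm] at this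
      exact (mem_pair.1 this).1.eq)
    (fun k hk hkw => by
      have : k ∈ centralizer ({v * w, x} : Set G) := mem_pair.2 ⟨hkw, hKcomm k hk⟩
      rw [heq (v * w) hvw1 hvwsq (hxv.mul_right hxw)
        ((Commute.refl v).mul_left hvw.symm)] at this
      exact (mem_pair.1 this).1.eq)
  have hLeq : L = centralizer ({v, x} : Set G) := by
    refine le_antisymm (fun y hy => ?_) fun y hy => hL ▸ mem_centralizer_singleton_iff.2 (mem_pair.1 hy).2
    have hyx : Commute y x := mem_centralizer_singleton_iff.1 (hL ▸ hy)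
    have hcompl := MonoidHom.ker_transferSylow_isComplement' P hPN
    obtain ⟨⟨⟨k, hk⟩, ⟨s, hs⟩⟩, e⟩ := hcompl.2 ⟨y, hy⟩
    have hk' : Commute (k : G) v := hfix' _ ⟨k, hK ▸ hk, rfl⟩
    have hs' : (s : G) ∈ V := by
      have : s ∈ (P : Subgroup L) := hs
      rw [hPe] at this; exact this
    have hsv : Commute (s : G) v := by
      rcases (hV _).1 hs' with e | e | e | e <;> rw [e]
      · exact Commute.one_left v
      · exact hvw.symm
      · exact (Commute.refl v).mul_left hvw.symm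
    have e' : (k : G) * (s : G) = y := congrArg Subtype.val e
    exact mem_pair.2 ⟨e' ▸ hk'.mul_left hsv, hyx⟩
  have hcomm : ∀ y z : G, Commute y x → Commute z x → y * z = z * y := by
    intro y z hy hz
    have hy' : y ∈ L := hL ▸ mem_centralizer_singleton_iff.2 hy
    have hz' : z ∈ L := hL ▸ mem_centralizer_singleton_iff.2 hz
    rw [hLeq] at hy' hz'
    exact hcommv y z (mem_pair.1 hy').1 hy (mem_pair.1 hz').1 hz
  refine ⟨hLeq, hLeq ▸ hcv, hcomm, ?_, hvw1, hvwv, hvww⟩
  ext y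
  constructor
  · rintro ⟨hy, hy2⟩
    have hy' : y ∈ L := hL ▸ mem_centralizer_singleton_iff.2 hy
    have hp' : IsPGroup 2 (zpowers (⟨y, hy'⟩ : L)) := by
      obtain ⟨i, -, hi⟩ := (Nat.dvd_prime_pow Nat.prime_two).1
        (orderOf_dvd_of_pow_eq_one (x := (⟨y, hy'⟩ : L)) (n := 2 ^ 1)
          (by rw [pow_one, sq]; exact Subtype.ext hy2))
      exact IsPGroup.of_card (n := i) (by rw [Nat.card_zpowers, hi])
    have hyN : (⟨y, hy'⟩ : L) ∈ normalizer (P : Set L) := mem_normalizer_of_finite fun z hz => by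
      have e : (⟨y, hy'⟩ : L) * z = z * ⟨y, hy'⟩ := Subtype.ext <|
        hcomm y z hy (mem_centralizer_singleton_iff.1 (hL ▸ z.2 : (z : G) ∈ centralizer ({x} : Set G)))
      rw [e, mul_inv_cancel_right]
      exact hz
    have h : (⟨y, hy'⟩ : L) ∈ zpowers (⟨y, hy'⟩ : L) ⊓ normalizer (P : Set L) :=
      ⟨mem_zpowers _, hyN⟩
    rw [hp'.inf_normalizer_sylow P] at h
    have h' := h.2
    rw [hPe] at h'
    simpa using (hV y).1 h'
  · intro hy
    simp only [Set.mem_insert_iff, Set.mem_singleton_iff] at hy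
    rcases hy with rfl | rfl | rfl | rfl
    · exact ⟨Commute.one_left x, one_mul 1⟩
    · exact ⟨hxv.symm, hv⟩
    · exact ⟨hxw.symm, hw⟩
    · exact ⟨hxv.symm.mul_left hxw.symm, hvwsq⟩

theorem isCyclic_sylow_sub (L : Subgroup G) {p : ℕ} [Fact p.Prime]
    (hp : p ∣ Nat.card L → 3 < p) (P : Sylow p L) : IsCyclic (P : Subgroup L) := by
  by_cases h : p ∣ Nat.card L
  · obtain ⟨Q, hQ⟩ := IsPGroup.exists_le_sylow (P.2.map L.subtype)
    have := D.cyclic p Fact.out (hp h) Q
    exact isCyclic_of_injective ((L.subtype.comp (P : Subgroup L).subtype).codRestrict (Q : Subgroup G)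
      (fun y => hQ (mem_map_of_mem _ y.2)))
      (fun y z e => Subtype.ext (Subtype.ext (congrArg (fun t : (Q : Subgroup G) => (t : G)) e :)))
  · obtain ⟨i, hi⟩ := P.2.exists_card_eq
    rcases i with _ | i
    · have : Subsingleton (P : Subgroup L) := (Nat.card_eq_one_iff_unique.1 (by rw [hi, pow_zero])).1
      infer_instance
    · exact absurd ((dvd_pow_self p (Nat.succ_ne_zero i)).trans (hi ▸ card_subgroup_dvd_card _)) h

/-- The properties of a torus of order `(q + 1)/4` and of its centralizer `M`. -/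
structure PlusTorus (q : ℕ) (M A : Subgroup G) : Prop where
  card_M : Nat.card M = q + 1
  A_le : A ≤ M
  A_cyclic : IsCyclic A
  card_A : Nat.card A = (q + 1) / 4
  exp_M : ∀ d ∈ M, d ^ ((q + 1) / 2) = 1
  card_inv : {d : G | d ∈ M ∧ d * d = 1}.ncard = 4
  cent : ∀ d ∈ M, d * d ≠ 1 → centralizer ({d} : Set G) = M
  card_N : Nat.card (normalizer (M : Set G)) = 6 * (q + 1)
  norm_eq : ∀ A₀ : Subgroup G, A₀ ≤ A → A₀ ≠ ⊥ → normalizer (A₀ : Set G) = normalizer (M : Set G)
  exists_order : ∃ d ∈ M, orderOf d = (q + 1) / 2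
  conj_into : ∀ (g : G) (p : ℕ), p.Prime → p ∣ (q + 1) / 4 → p ∣ orderOf g →
    ∃ x : G, x * g * x⁻¹ ∈ M

theorem exists_plusTorus : ∃ M A : Subgroup G, PlusTorus D.q M A := by
  classical
  obtain ⟨v, w, g, hv, hw, hv1, hw1, hne, hvw, hgv, hgw⟩ := D.exists_four_cycle
  obtain ⟨k, hk⟩ : ∃ k, k = (D.q + 1) / 4 := ⟨_, rfl⟩
  have hk4 : D.q + 1 = 4 * k := by have := D.q_mod8; omega
  have hkodd : Odd k := Nat.odd_iff.2 (by have := D.q_mod8; omega)
  have hk7 : 7 ≤ k := by have := D.q_ge; omega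
  obtain ⟨p, hp, hpk⟩ := Nat.exists_prime_and_dvd (show k ≠ 1 by omega)
  have hCV : Nat.card (centralizer ({v, w} : Set G)) = 2 * (D.q + 1) :=
    (D.inv_cent hv1 hv).inv w hvw.symm hw1 hne.symm hw
  have : Fact p.Prime := ⟨hp⟩
  obtain ⟨⟨x, hx⟩, hxo⟩ := exists_prime_orderOf_dvd_card' (G := centralizer ({v, w} : Set G)) p
    (by rw [hCV, hk4]; exact dvd_mul_of_dvd_right (dvd_mul_of_dvd_right hpk 4) 2)
  rw [← Subgroup.orderOf_coe] at hxo
  change orderOf x = p at hxo
  obtain ⟨hxv, hxw⟩ := mem_pair.1 hx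
  obtain ⟨hCx, hMc, hMcomm, hMinv, hvw1, hvwv, hvww⟩ :=
    D.cent_x hv hw hv1 hw1 hne hvw hxv hxw hp (hk ▸ hpk) hxo
  obtain ⟨M, hM⟩ : ∃ M, M = centralizer ({x} : Set G) := ⟨_, rfl⟩
  rw [← hM] at hMc hCx
  have hmem : ∀ y, y ∈ M ↔ Commute y x := fun y => hM ▸ mem_centralizer_singleton_iff
  have hcomm : ∀ y ∈ M, ∀ z ∈ M, y * z = z * y := fun y hy z hz =>
    hMcomm y z ((hmem y).1 hy) ((hmem z).1 hz)
  have hVM : ∀ d : G, (d ∈ M ∧ d * d = 1) ↔ (d = 1 ∨ d = v ∨ d = w ∨ d = v * w) := fun d => by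
    rw [hmem d]
    have e := congrArg (fun s : Set G => d ∈ s) hMinv
    simp only [Set.mem_ofPred_eq, Set.mem_insert_iff, Set.mem_singleton_iff] at e
    exact e.to_iff
  have hvM : v ∈ M := ((hVM v).2 (Or.inr (Or.inl rfl))).1
  have hwM : w ∈ M := ((hVM w).2 (Or.inr (Or.inr (Or.inl rfl)))).1
  -- elements of prime order dividing `(q + 1)/4`
  have hprime : ∀ y ∈ M, ∀ r : ℕ, r.Prime → r ∣ k → orderOf y = r →
      centralizer ({y} : Set G) = M := by
    intro y hy r hr hrk hyo
    have hyv : Commute y v := hcomm y hy v hvM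
    have hyw : Commute y w := hcomm y hy w hwM
    obtain ⟨-, hyc, -, -, -⟩ := D.cent_x hv hw hv1 hw1 hne hvw hyv hyw hr (hk ▸ hrk) hyo
    refine (eq_of_le_of_card_ge (fun z hz => mem_centralizer_singleton_iff.2 (hcomm z hz y hy)) ?_).symm
    rw [hyc, hMc]
  have hsq4 : ∀ d ∈ M, d ^ (2 * k) = 1 := by
    intro d hd
    have h1 : d ^ (D.q + 1) = 1 := by
      rw [← orderOf_dvd_iff_pow_eq_one, ← hMc]
      exact orderOf_dvd_natCard _ hd
    rw [hk4, mul_comm, pow_mul] at h1
    have := D.exp_two _ h1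
    rw [← pow_mul] at this
    rwa [mul_comm]
  have hcent : ∀ d ∈ M, d * d ≠ 1 → centralizer ({d} : Set G) = M := by
    intro d hd hd2
    refine le_antisymm (fun z hz => ?_) fun z hz => mem_centralizer_singleton_iff.2 (hcomm z hz d hd)
    have hsq : orderOf (d * d) ∣ k := by
      rw [← sq]
      exact orderOf_dvd_of_pow_eq_one (by rw [← pow_mul]; exact hsq4 d hd)
    obtain ⟨r, hr, hrd⟩ := Nat.exists_prime_and_dvd (fun e => hd2 (orderOf_eq_one_iff.1 e))
    obtain ⟨i, hi⟩ := exists_prime_pow hrd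
    rw [← hprime _ (pow_mem (mul_mem hd hd) i) r hr (hrd.trans hsq) hi, mem_centralizer_singleton_iff]
    have hzd : Commute z d := mem_centralizer_singleton_iff.1 hz
    exact ((hzd.mul_right hzd).pow_right i).eq
  -- the cyclic part
  let f : M →* M := MonoidHom.mk' (fun d => d ^ k)
    (fun a b => Commute.mul_pow (Subtype.ext (hcomm _ a.2 _ b.2)) k)
  obtain ⟨A, hA⟩ : ∃ A, A = f.ker.map M.subtype := ⟨_, rfl⟩
  have hAmem : ∀ d, d ∈ A ↔ d ∈ M ∧ d ^ k = 1 := by
    intro d
    rw [hA]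
    constructor
    · rintro ⟨y, hy, rfl⟩
      exact ⟨y.2, congrArg Subtype.val (MonoidHom.mem_ker.1 hy)⟩
    · rintro ⟨hd, hdk⟩
      exact ⟨⟨d, hd⟩, MonoidHom.mem_ker.2 (Subtype.ext hdk), rfl⟩
  have hAle : A ≤ M := fun d hd => ((hAmem d).1 hd).1
  have hrange : ((f.range.map M.subtype : Subgroup G) : Set G) = {1, v, w, v * w} := by
    ext d
    simp only [Set.mem_insert_iff, Set.mem_singleton_iff]
    constructor
    · rintro ⟨y, ⟨z, rfl⟩, rfl⟩
      refine (hVM _).1 ⟨(z ^ k).2, ?_⟩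
      change ((z ^ k : M) : G) * ((z ^ k : M) : G) = 1
      rw [SubgroupClass.coe_pow, ← pow_add, ← two_mul]
      exact hsq4 _ z.2
    · intro hd
      obtain ⟨hdM, hd2⟩ := (hVM d).2 hd
      refine ⟨f ⟨d, hdM⟩, ⟨_, rfl⟩, ?_⟩
      obtain ⟨i, hi⟩ := hkodd
      change d ^ k = d
      rw [hi, pow_succ, pow_mul, sq, hd2, one_pow, one_mul]
  have hr4 : Nat.card f.range = 4 := by
    rw [Nat.card_congr (f.range.equivMapOfInjective _ M.subtype_injective).toEquiv,
      show Nat.card (f.range.map M.subtype : Subgroup G) =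
        Nat.card ((f.range.map M.subtype : Subgroup G) : Set G) from rfl,
      Nat.card_coe_set_eq, hrange, Set.ncard_eq_toFinset_card']
    simp [hv1.symm, hw1.symm, hvw1.symm, hne, hvwv.symm, hvww.symm]
  have hAcard : Nat.card A = k := by
    rw [hA, ← Nat.card_congr (f.ker.equivMapOfInjective _ M.subtype_injective).toEquiv]
    have := card_mul_index f.ker
    rw [index_ker, hr4, hMc, hk4] at this
    omega
  have hAcyc : IsCyclic A := by
    refine isCyclic_of_sylow fun r hr P => ?_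
    have : Fact r.Prime := ⟨hr⟩
    refine ⟨D.isCyclic_sylow_sub A (fun h => (D.prime_add_one hr (hk ▸ hAcard ▸ h)).2.1) P, ?_⟩
    intro n _
    rw [mem_centralizer_iff]
    intro y _
    exact Subtype.ext (hcomm _ (hAle y.2) _ (hAle n.2))
  have hodd : ∀ d ∈ A, Odd (orderOf d) := fun d hd =>
    hkodd.of_dvd_nat (orderOf_dvd_of_pow_eq_one ((hAmem d).1 hd).2)
  have hoddA : ∀ d ∈ M, Odd (orderOf d) → d ∈ A := by
    intro d hd ho
    refine (hAmem d).2 ⟨hd, ?_⟩
    have h2 : orderOf d ∣ 2 * k := orderOf_dvd_of_pow_eq_one (hsq4 d hd)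
    exact orderOf_dvd_iff_pow_eq_one.1
      ((Nat.Coprime.dvd_mul_left (Nat.Coprime.symm (Nat.coprime_two_left.2 ho))).1 h2)
  -- normalizers
  obtain ⟨V, hV⟩ := exists_klein hv hw hvw
  have hVset : ∀ d, d ∈ V ↔ d ∈ M ∧ d * d = 1 := fun d => (hV d).trans (hVM d).symm
  have hNMV : normalizer (M : Set G) ≤ normalizer (V : Set G) := fun y hy =>
    mem_normalizer_of_finite fun d hd => by
      obtain ⟨h1, h2⟩ := (hVset d).1 hd
      refine (hVset _).2 ⟨(mem_normalizer_iff.1 hy d).1 h1, ?_⟩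
      rw [show y * d * y⁻¹ * (y * d * y⁻¹) = y * (d * d) * y⁻¹ by group, h2]
      group
  have hcentV : centralizer (V : Set G) = centralizer ({v, w} : Set G) := by
    ext y
    rw [mem_pair]
    constructor
    · intro hy
      exact ⟨(mem_centralizer_iff.1 hy v ((hV v).2 (by simp))).symm,
        (mem_centralizer_iff.1 hy w ((hV w).2 (by simp))).symm⟩
    · rintro ⟨h1, h2⟩
      rw [mem_centralizer_iff]
      intro d hd
      rcases (hV d).1 hd with rfl | rfl | rfl | rfl
      exacts [by simp, h1.eq.symm, h2.eq.symm, (h1.mul_right h2).eq.symm]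
  have hMle : M ≤ centralizer ({v, w} : Set G) := fun y hy =>
    mem_pair.2 ⟨hcomm y hy v hvM, hcomm y hy w hwM⟩
  have hidx : (M.subgroupOf (centralizer ({v, w} : Set G))).index = 2 := by
    have := card_mul_index (M.subgroupOf (centralizer ({v, w} : Set G)))
    rw [Nat.card_congr (subgroupOfEquivOfLe hMle).toEquiv, hMc, hCV] at this
    exact Nat.eq_of_mul_eq_mul_left (by omega) (this.trans (mul_comm _ _))
  have hVA : normalizer (V : Set G) ≤ normalizer (A : Set G) := fun y hy =>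
    mem_normalizer_of_finite fun d hd => by
      have hy' := normalizer_le_normalizer_centralizer (V : Set G) hy
      rw [hcentV] at hy'
      have hc : y * d * y⁻¹ ∈ centralizer ({v, w} : Set G) :=
        (mem_normalizer_iff.1 hy' d).1 (hMle (hAle hd))
      have ho : Odd (orderOf (y * d * y⁻¹)) := by
        rw [show y * d * y⁻¹ = MulAut.conj y d from rfl, MulEquiv.orderOf_eq]
        exact hodd d hd
      refine hoddA _ ?_ ho
      have h2 : y * d * y⁻¹ * (y * d * y⁻¹) ∈ M :=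
        mul_self_mem_of_index_two hidx ⟨_, hc⟩
      obtain ⟨i, hi⟩ := ho
      have : y * d * y⁻¹ = (y * d * y⁻¹ * (y * d * y⁻¹)) ^ (i + 1) := by
        rw [← sq, ← pow_mul, show 2 * (i + 1) = orderOf (y * d * y⁻¹) + 1 by omega, pow_succ,
          pow_orderOf_eq_one, one_mul]
      rw [this]
      exact pow_mem h2 _
  have hnorm : ∀ A₀ : Subgroup G, A₀ ≤ A → A₀ ≠ ⊥ →
      normalizer (A₀ : Set G) = normalizer (M : Set G) := by
    intro A₀ hle hne0
    refine le_antisymm ?_ (hNMV.trans (hVA.trans (normalizer_le_of_le_cyclic hle)))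
    obtain ⟨r, hr, hrd⟩ := Nat.exists_prime_and_dvd (fun e => hne0 (card_eq_one.1 e) : Nat.card A₀ ≠ 1)
    have : Fact r.Prime := ⟨hr⟩
    obtain ⟨⟨y, hy⟩, hyo⟩ := exists_prime_orderOf_dvd_card' (G := A₀) r hrd
    rw [← Subgroup.orderOf_coe] at hyo
    have hy' := hprime y (hAle (hle hy)) r hr (hAcard ▸ hrd.trans (card_dvd_of_le hle)) hyo
    have : IsCyclic A₀ :=
      isCyclic_of_injective (Subgroup.inclusion hle) (Subgroup.inclusion_injective _)
    refine (normalizer_le_of_le_cyclic (zpowers_le.2 hy)).trans ?_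
    rw [← hy']
    exact normalizer_zpowers_le y
  have hAne : A ≠ ⊥ := fun e => by rw [e, card_bot] at hAcard; omega
  have hNeq : normalizer (M : Set G) = normalizer (V : Set G) :=
    le_antisymm hNMV (hVA.trans (hnorm A le_rfl hAne).le)
  have hcardN : Nat.card (normalizer (V : Set G)) = 6 * (D.q + 1) := by
    obtain ⟨N, hN⟩ : ∃ N, N = normalizer (V : Set G) := ⟨_, rfl⟩
    rw [← hN]
    have hgN : g ∈ N := hN ▸ mem_normalizer_of_finite fun d hd => by
      have e3 : g * (v * w) * g⁻¹ = v := by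
        rw [show g * (v * w) * g⁻¹ = (g * v * g⁻¹) * (g * w * g⁻¹) by group, hgv, hgw, hvw,
          ← mul_assoc, hw, one_mul]
      rcases (hV d).1 hd with rfl | rfl | rfl | rfl
      · rw [mul_one, mul_inv_cancel]; exact one_mem V
      · rw [hgv]; exact (hV _).2 (by simp)
      · rw [hgw]; exact (hV _).2 (by simp)
      · rw [e3]; exact (hV _).2 (by simp)
    have horb := card_orbit_mul N v
    have hO : {y : G | ∃ z ∈ N, z * v * z⁻¹ = y} = {v, w, v * w} := by
      ext d
      simp only [Set.mem_ofPred_eq, Set.mem_insert_iff, Set.mem_singleton_iff]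
      constructor
      · rintro ⟨z, hz, rfl⟩
        have hzV : z * v * z⁻¹ ∈ V := (mem_normalizer_iff.1 (hN ▸ hz) v).1 ((hV v).2 (by simp))
        rcases (hV _).1 hzV with e | e | e | e
        · exact absurd (conj_eq_one_iff.1 e) hv1
        · exact Or.inl e
        · exact Or.inr (Or.inl e)
        · exact Or.inr (Or.inr e)
      · rintro (rfl | rfl | rfl)
        · exact ⟨1, one_mem _, by group⟩
        · exact ⟨g, hgN, hgv⟩
        · exact ⟨g * g, mul_mem hgN hgN, by
            rw [show g * g * v * (g * g)⁻¹ = g * (g * v * g⁻¹) * g⁻¹ by group, hgv, hgw]⟩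
    rw [hO, show ({v, w, v * w} : Set G).ncard = 3 by
      rw [Set.ncard_eq_toFinset_card']; simp [hne, hvwv.symm, hvww.symm]] at horb
    obtain ⟨N1, hN1⟩ : ∃ N1 : Subgroup G, N1 = N ⊓ centralizer ({v} : Set G) := ⟨_, rfl⟩
    rw [← hN1] at horb
    have horb1 := card_orbit_mul N1 w
    have hst : N1 ⊓ centralizer ({w} : Set G) = centralizer ({v, w} : Set G) := by
      ext y
      rw [hN1]
      constructor
      · rintro ⟨⟨-, h1⟩, h2⟩
        exact mem_pair.2 ⟨mem_centralizer_singleton_iff.1 h1, mem_centralizer_singleton_iff.1 h2⟩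
      · intro hy
        obtain ⟨h1, h2⟩ := mem_pair.1 hy
        refine ⟨⟨hN ▸ mem_normalizer_of_finite fun d hd => ?_, mem_centralizer_singleton_iff.2 h1⟩,
          mem_centralizer_singleton_iff.2 h2⟩
        rw [← hcentV] at hy
        rw [← mem_centralizer_iff.1 hy d hd, mul_inv_cancel_right]
        exact hd
    rw [hst, hCV] at horb1
    have hO1 : {y : G | ∃ z ∈ N1, z * w * z⁻¹ = y} ⊆ {w, v * w} := by
      rintro _ ⟨z, hz, rfl⟩
      rw [hN1] at hz
      have hzV : z * w * z⁻¹ ∈ V := (mem_normalizer_iff.1 (hN ▸ hz.1) w).1 ((hV w).2 (by simp))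
      rcases (hV _).1 hzV with e | e | e | e
      · exact absurd (conj_eq_one_iff.1 e) hw1
      · exfalso
        apply hne
        have hzv : z * v = v * z := mem_centralizer_singleton_iff.1 hz.2
        calc v = z⁻¹ * (v * z) := by rw [← hzv]; group
          _ = z⁻¹ * ((z * w * z⁻¹) * z) := by rw [e]
          _ = w := by group
      · exact Or.inl e
      · exact Or.inr e
    have hle := (Set.ncard_le_ncard hO1 (Set.toFinite _)).trans
      ((Set.ncard_insert_le _ _).trans (by rw [Set.ncard_singleton]))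
    have h16 : {y : G | ∃ z ∈ N1, z * w * z⁻¹ = y}.ncard ≠ 2 := fun e => by
      rw [e] at horb1
      apply D.sixteen_not_dvd
      refine (dvd_trans ?_ (card_subgroup_dvd_card N1))
      rw [← horb1, hk4]
      exact ⟨k, by ring⟩
    have hpos : 0 < {y : G | ∃ z ∈ N1, z * w * z⁻¹ = y}.ncard :=
      (Set.ncard_pos (Set.toFinite _)).2 ⟨w, 1, one_mem _, by group⟩
    rw [show {y : G | ∃ z ∈ N1, z * w * z⁻¹ = y}.ncard = 1 by omega, one_mul] at horb1
    rw [← horb, ← horb1]
    ring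
  refine ⟨M, A, hMc, hAle, hAcyc, hk ▸ hAcard, fun d hd => ?_, ?_, hcent, hNeq ▸ hcardN, hnorm, ?_, ?_⟩
  · rw [show (D.q + 1) / 2 = 2 * k by omega]; exact hsq4 d hd
  · rw [show {d : G | d ∈ M ∧ d * d = 1} = {1, v, w, v * w} by
      ext d; simpa using hVM d, Set.ncard_eq_toFinset_card']
    simp [hv1.symm, hw1.symm, hvw1.symm, hne, hvwv.symm, hvww.symm]
  · obtain ⟨⟨a, ha⟩, hgen⟩ := IsCyclic.exists_ofOrder_eq_natCard (α := A)
    rw [← Subgroup.orderOf_coe, hAcard] at hgen
    refine ⟨a * v, mul_mem (hAle ha) hvM, ?_⟩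
    have hv2 : orderOf v = 2 := orderOf_eq_prime (by rw [sq, hv]) hv1
    have hav : Commute a v := hcomm a (hAle ha) v hvM
    rw [hav.orderOf_mul_eq_mul_orderOf_of_coprime
      (by rw [hgen, hv2]; exact (Nat.coprime_two_right).2 hkodd), hgen, hv2]
    omega
  · intro y r hr hrk hry
    rw [← hk] at hrk
    have : Fact r.Prime := ⟨hr⟩
    obtain ⟨⟨a, ha⟩, hao⟩ := exists_prime_orderOf_dvd_card' (G := A) r (hAcard ▸ hrk)
    rw [← Subgroup.orderOf_coe] at hao
    obtain ⟨i, hi⟩ := exists_prime_pow hry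
    obtain ⟨z, hz⟩ := exists_conj_mem_zpowers
      (D.cyclic r hr (D.prime_add_one hr (hk ▸ hrk)).2.1) hi hao
    refine ⟨z, ?_⟩
    have hzM : z * y ^ i * z⁻¹ ∈ M := zpowers_le.2 (hAle ha) hz
    rw [← hprime _ hzM r hr hrk (hi ▸ MulEquiv.orderOf_eq (MulAut.conj z) _),
      mem_centralizer_singleton_iff, ← conj_pow]
    exact ((Commute.refl _).pow_right i).eq

end Cfsg.Agent.ReeLocal8.ReeData
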