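import Cfsg.Agent.Lib.ReeSL2
import Cfsg.Agent.Lib.TwistedTools
import Cfsg.Agent.Lib.ChevWeylData
import Cfsg.Agent.Lib.ChevExcGraphData
import Cfsg.Agent.Lib.ChevRootCentralizer

/-!
The twist of `G₂` in characteristic three and the fixed part of `U`.
-/

set_option autoImplicit false
set_option linter.unusedSectionVars false
set_option maxRecDepth 20000

namespace Cfsg.Agent.ReeTwist17

open Cfsg.Lie Cfsg.Agent.ChevalleyCert Cfsg.Agent.ChevalleyCore Cfsg.Agent.TwistedCore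
open Cfsg.Agent.ReeSL2 Cfsg.Agent.ChevExcGraphData

variable {K : Type*} [Field K] [CharP K 3]

/-- exponent of a root -/
abbrev ee (r : ℕ) : ℕ := excG2.e r
/-- image of a root -/
abbrev rr (r : ℕ) : ℕ := excG2.rho r

theorem nroots : chevG2.nroots = 12 ∧ chevG2.rank = 2 := by decide +kernel

theorem exists_sigma (θ : K →+* K) (hperf : ∀ x : K, ∃ y : K, y ^ 3 = x) :
    ∃ σ : ↥(chevG2.group K) →* GL chevG2.Idx K, ∀ r < 12, ∀ (t : K)
      (h : xg c2 r t ∈ chevG2.group K),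
      σ ⟨_, h⟩ = xg c2 (rr r) (θ (t ^ ee r)) := by
  haveI : CharP K excG2.p := (inferInstance : CharP K 3)
  obtain ⟨α, hα⟩ := ChevExcGraph.exists_aut excG2 c2
    (ChevBruhatInstance.sys chevG2 (by simp) K) (Or.inr rfl) hperf
  refine ⟨((Matrix.GeneralLinearGroup.map θ).comp (chevG2.group K).subtype).comp α.toMonoidHom,
    fun r hr t h => ?_⟩
  have h1 : ((α ⟨xg c2 r t, h⟩ : ↥(chevG2.group K)) : GL chevG2.Idx K) =
      xg c2 (rr r) (t ^ ee r) := Units.ext (hα _ r t (nroots.1.symm ▸ hr) rfl)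
  show Matrix.GeneralLinearGroup.map θ
    ((α ⟨xg c2 r t, h⟩ : ↥(chevG2.group K)) : GL chevG2.Idx K) = _
  rw [h1, TwistedTools.xg_map]

/-- field endomorphisms on the fundamental root subgroups -/
noncomputable def fr (θ : K →+* K) (i : ℕ) : K →+* K :=
  if i = 0 then θ.comp (frobenius K 3) else θ

theorem fr_spec (θ : K →+* K) {i : ℕ} (hi : i < 2) (t : K) :
    fr θ i t = θ (t ^ ee (chevG2.simple i)) ∧
      fr θ i t = θ (t ^ ee (chevG2.neg (chevG2.simple i))) := by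
  have h : ee (chevG2.simple 0) = 3 ∧ ee (chevG2.neg (chevG2.simple 0)) = 3 ∧
      ee (chevG2.simple 1) = 1 ∧ ee (chevG2.neg (chevG2.simple 1)) = 1 := by decide +kernel
  rcases (show i = 0 ∨ i = 1 by omega) with rfl | rfl
  · rw [h.1, h.2.1]; simp [fr, frobenius_def]
  · rw [h.2.2.1, h.2.2.2]; simp [fr]

theorem sym_facts :
    (∀ i < 2, piG2.getD i 0 < 2 ∧ piG2.getD (piG2.getD i 0) 0 = i) ∧
    (∀ r < 12, rr r < 12 ∧ rr (rr r) = r ∧ rr (chevG2.neg r) = chevG2.neg (rr r)) ∧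
    (∀ i < 2, rr (chevG2.simple i) = chevG2.simple (piG2.getD i 0)) ∧
    (∀ i < 2, ∀ r < 12, rr (chevG2.reflectRoot i r) = chevG2.reflectRoot (piG2.getD i 0) (rr r)) ∧
    (∀ r < 12, 6 ≤ r → 6 ≤ rr r) := by decide +kernel

/-- the exceptional twist, from a choice of the endomorphism -/
noncomputable def mkTw (θ : K →+* K) (hperf : ∀ x : K, ∃ y : K, y ^ 3 = x) : Twist c2 K where
  wX := ChevWeylData.g2
  supp := by decide +kernel
  ρ := rr
  ρs i := piG2.getD i 0
  ρi i := piG2.getD i 0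
  fr := fr θ
  σ := (exists_sigma θ hperf).choose
  ρs_lt i hi := by
    obtain ⟨h1, h2⟩ := sym_facts.1 i (nroots.2 ▸ hi)
    exact ⟨nroots.2.symm ▸ h1, nroots.2.symm ▸ h1, h2, h2⟩
  ρ_lt r hr := nroots.1.symm ▸ (sym_facts.2.1 r (nroots.1 ▸ hr)).1
  ρ_inj r hr s hs h := by
    rw [← (sym_facts.2.1 r (nroots.1 ▸ hr)).2.1, h, (sym_facts.2.1 s (nroots.1 ▸ hs)).2.1]
  ρ_simple i hi := sym_facts.2.2.1 i (nroots.2 ▸ hi)
  ρ_neg r hr := (sym_facts.2.1 r (nroots.1 ▸ hr)).2.2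
  ρ_refl i hi r hr := sym_facts.2.2.2.1 i (nroots.2 ▸ hi) r (nroots.1 ▸ hr)
  ρ_pos r hr h := by
    have h2 : chevG2.nroots / 2 = 6 := by rw [nroots.1]
    rw [h2] at h ⊢
    exact sym_facts.2.2.2.2 r (nroots.1 ▸ hr) h
  σ_pos i hi t h := by
    rw [(exists_sigma θ hperf).choose_spec _ (nroots.1 ▸ ChevalleyRoots.simple_lt c2 hi) t h,
      ← (fr_spec θ (nroots.2 ▸ hi) t).1, sym_facts.2.2.1 i (nroots.2 ▸ hi)]
  σ_neg i hi t h := by
    have hs := ChevalleyRoots.simple_lt c2 hi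
    rw [(exists_sigma θ hperf).choose_spec _ (nroots.1 ▸ c2.neg_lt _) t h,
      ← (fr_spec θ (nroots.2 ▸ hi) t).2, (sym_facts.2.1 _ (nroots.1 ▸ hs)).2.2,
      sym_facts.2.2.1 i (nroots.2 ▸ hi)]

theorem sg_xg (θ : K →+* K) (hperf : ∀ x : K, ∃ y : K, y ^ 3 = x) {r : ℕ} (hr : r < 12) (t : K) :
    (mkTw θ hperf).sg (xg c2 r t) = xg c2 (rr r) (θ (t ^ ee r)) := by
  rw [(mkTw θ hperf).sg_eq (xg_mem_group c2 r t)]
  exact (exists_sigma θ hperf).choose_spec r hr t _

/-! ### the positive system and its mirror image -/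

/-- root elements of the positive roots, or their images under `x_r(c) ↦ x_{-r}(-c)` -/
noncomputable def X (s : Bool) (r : ℕ) (t : K) : GL chevG2.Idx K :=
  if s then xg c2 (chevG2.neg r) (-t) else xg c2 r t

theorem X_mul (s : Bool) (r : ℕ) (t u : K) : X s r t * X s r u = X s r (t + u) := by
  cases s
  · simp [X, xg_mul c2]
  · simp [X, xg_mul c2, neg_add, add_comm]

theorem X_zero (s : Bool) (r : ℕ) : X s r (0 : K) = 1 := by
  cases s <;> simp [X]

theorem X_group (s : Bool) (r : ℕ) (t : K) : X s r t ∈ chevG2.group K := by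
  cases s <;> exact xg_mem_group c2 _ _

theorem comm_table : ∀ s : Bool,
    ∀ p ∈ ([(8, 9), (8, 10), (8, 11), (9, 10), (9, 11), (10, 11)] : List (ℕ × ℕ)),
    (let n := fun r => if s then chevG2.neg r else r
     n p.1 < chevG2.nroots ∧ n p.2 < chevG2.nroots ∧ n p.2 ≠ n p.1 ∧
      n p.2 ≠ chevG2.neg (n p.1) ∧
      (chevG2.commTerms (n p.1) (n p.2)).all (fun c => c.2.1 % 3 == 0) = true) := by
  decide +kernel

theorem X_comm (s : Bool) {r r' : ℕ}
    (h : (r, r') ∈ ([(8, 9), (8, 10), (8, 11), (9, 10), (9, 11), (10, 11)] : List (ℕ × ℕ)))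
    (t u : K) : Commute (X s r t) (X s r' u) := by
  obtain ⟨h1, h2, h3, h4, h5⟩ := comm_table s _ h
  have h6 : ∀ c ∈ chevG2.commTerms (if s then chevG2.neg r else r)
      (if s then chevG2.neg r' else r'), (c.2.1 : K) = 0 := by
    intro c hc
    have := List.all_eq_true.1 h5 c hc
    exact (CharP.intCast_eq_zero_iff K 3 _).2
      (Int.dvd_of_emod_eq_zero (by simpa using this))
  cases s
  · simpa [X] using ChevRootCentralizer.comm_of_terms c2 h1 h2 h3 h4 h6 t u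
  · simpa [X] using ChevRootCentralizer.comm_of_terms c2 h1 h2 h3 h4 h6 (-t) (-u)

/-- the abelian part `x₈ x₉ x₁₀ x₁₁` -/
noncomputable def tail (s : Bool) (c d e g : K) : GL chevG2.Idx K :=
  X s 8 c * X s 9 d * X s 10 e * X s 11 g

theorem tail_mul (s : Bool) (c d e g c' d' e' g' : K) :
    tail s c d e g * tail s c' d' e' g' = tail s (c + c') (d + d') (e + e') (g + g') := by
  have h98 : Commute (X s 9 d) (X s 8 c') := (X_comm s (by decide) c' d).symm
  have h108 : Commute (X s 10 e) (X s 8 c') := (X_comm s (by decide) c' e).symm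
  have h118 : Commute (X s 11 g) (X s 8 c') := (X_comm s (by decide) c' g).symm
  have h109 : Commute (X s 10 e) (X s 9 d') := (X_comm s (by decide) d' e).symm
  have h119 : Commute (X s 11 g) (X s 9 d') := (X_comm s (by decide) d' g).symm
  have h1110 : Commute (X s 11 g) (X s 10 e') := (X_comm s (by decide) e' g).symm
  simp only [tail, ← X_mul]
  calc X s 8 c * X s 9 d * X s 10 e * X s 11 g * (X s 8 c' * X s 9 d' * X s 10 e' * X s 11 g')
      = X s 8 c * ((X s 9 d * X s 10 e * X s 11 g) * X s 8 c') *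
          (X s 9 d' * X s 10 e' * X s 11 g') := by group
    _ = X s 8 c * (X s 8 c' * (X s 9 d * X s 10 e * X s 11 g)) *
          (X s 9 d' * X s 10 e' * X s 11 g') := by
        rw [((h98.mul_left h108).mul_left h118).eq]
    _ = X s 8 c * X s 8 c' * X s 9 d * ((X s 10 e * X s 11 g) * X s 9 d') *
          (X s 10 e' * X s 11 g') := by group
    _ = X s 8 c * X s 8 c' * X s 9 d * (X s 9 d' * (X s 10 e * X s 11 g)) *
          (X s 10 e' * X s 11 g') := by rw [(h109.mul_left h119).eq]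
    _ = X s 8 c * X s 8 c' * (X s 9 d * X s 9 d') * X s 10 e * (X s 11 g * X s 10 e') *
          X s 11 g' := by group
    _ = X s 8 c * X s 8 c' * (X s 9 d * X s 9 d') * X s 10 e * (X s 10 e' * X s 11 g) *
          X s 11 g' := by rw [h1110.eq]
    _ = _ := by group

theorem swap_table :
    chevG2.commTerms 7 6 = [(8, -1, 1, 1), (9, 1, 2, 1), (10, 1, 3, 1), (11, 1, 3, 2)] ∧
    chevG2.commTerms 4 5 = [(3, 1, 1, 1), (2, 1, 2, 1), (1, -1, 3, 1), (0, 1, 3, 2)] ∧
    (List.range 12).map chevG2.neg = [11, 10, 9, 8, 7, 6, 5, 4, 3, 2, 1, 0] ∧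
    (List.range 12).map rr = [2, 3, 0, 1, 5, 4, 7, 6, 10, 11, 8, 9] ∧
    (List.range 12).map ee = [1, 1, 3, 3, 3, 1, 1, 3, 3, 3, 1, 1] := by decide +kernel

theorem neg_val : chevG2.neg 6 = 5 ∧ chevG2.neg 7 = 4 ∧ chevG2.neg 8 = 3 ∧ chevG2.neg 9 = 2 ∧
    chevG2.neg 10 = 1 ∧ chevG2.neg 11 = 0 := by decide +kernel

theorem swap76 (s : Bool) (A B : K) : X s 6 A * X s 7 B =
    X s 7 B * X s 6 A * tail s (A * B) (B ^ 2 * A) (-(B ^ 3 * A)) (-(B ^ 3 * A ^ 2)) := by
  cases s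
  · simp only [X, Bool.false_eq_true, ↓reduceIte, tail]
    rw [comm_formula c2 (by decide +kernel) (by decide +kernel) (by decide +kernel)
      (by decide +kernel) B A, ChevalleyDatum.commWord, swap_table.1]
    simp only [List.map_cons, List.map_nil, TwistedTools.wg_cons, TwistedTools.wg_nil, mul_one,
      ← mul_assoc]
    congr 1 <;> [congr 1; congr 1] <;> [congr 1; skip; skip] <;> push_cast <;> ring_nf
  · simp only [X, ↓reduceIte, tail, neg_val]
    rw [comm_formula c2 (by decide +kernel) (by decide +kernel) (by decide +kernel)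
      (by decide +kernel) (-B) (-A), ChevalleyDatum.commWord, swap_table.2.1]
    simp only [List.map_cons, List.map_nil, TwistedTools.wg_cons, TwistedTools.wg_nil, mul_one,
      ← mul_assoc]
    congr 1 <;> [congr 1; congr 1] <;> [congr 1; skip; skip] <;> push_cast <;> ring_nf

/-- the form `x₇ x₆ x₈ x₉ x₁₀ x₁₁` -/
noncomputable def Uf (s : Bool) (a b c d e g : K) : GL chevG2.Idx K :=
  X s 7 a * X s 6 b * tail s c d e g

theorem Uf_group (s : Bool) (a b c d e g : K) : Uf s a b c d e g ∈ chevG2.group K :=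
  mul_mem (mul_mem (X_group s _ _) (X_group s _ _))
    (mul_mem (mul_mem (mul_mem (X_group s _ _) (X_group s _ _)) (X_group s _ _)) (X_group s _ _))

section Sigma

variable (θ : K →+* K) (hperf : ∀ x : K, ∃ y : K, y ^ 3 = x)

theorem sg_X (s : Bool) {r : ℕ} (hr : r ∈ ([6, 7, 8, 9, 10, 11] : List ℕ)) (t : K) :
    (mkTw θ hperf).sg (X s r t) = X s (rr r) (θ (t ^ ee r)) := by
  have h : ∀ r ∈ ([6, 7, 8, 9, 10, 11] : List ℕ), r < 12 ∧ chevG2.neg r < 12 ∧
      rr (chevG2.neg r) = chevG2.neg (rr r) ∧ ee (chevG2.neg r) = ee r ∧ Odd (ee r) := by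
    decide +kernel
  obtain ⟨h1, h2, h3, h4, h5⟩ := h r hr
  cases s
  · simpa [X] using sg_xg θ hperf h1 t
  · simp only [X, ↓reduceIte]
    rw [sg_xg θ hperf h2, h3, h4, h5.neg_pow, map_neg]

theorem rho_val : rr 6 = 7 ∧ rr 7 = 6 ∧ rr 8 = 10 ∧ rr 9 = 11 ∧ rr 10 = 8 ∧ rr 11 = 9 ∧
    ee 6 = 1 ∧ ee 7 = 3 ∧ ee 8 = 3 ∧ ee 9 = 3 ∧ ee 10 = 1 ∧ ee 11 = 1 := by decide +kernel

theorem sg_Uf (s : Bool) (a b c d e g : K) :
    (mkTw θ hperf).sg (Uf s a b c d e g) = Uf s (θ b) (θ (a ^ 3))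
      (θ (a ^ 3) * θ b + θ e) (θ b ^ 2 * θ (a ^ 3) + θ g)
      (-(θ b ^ 3 * θ (a ^ 3)) + θ (c ^ 3)) (-(θ b ^ 3 * θ (a ^ 3) ^ 2) + θ (d ^ 3)) := by
  have hg := fun r t => X_group (K := K) s r t
  obtain ⟨r6, r7, r8, r9, r10, r11, e6, e7, e8, e9, e10, e11⟩ := rho_val
  unfold Uf tail
  rw [(mkTw θ hperf).sg_mul (mul_mem (hg _ _) (hg _ _))
      (mul_mem (mul_mem (mul_mem (hg _ _) (hg _ _)) (hg _ _)) (hg _ _)),
    (mkTw θ hperf).sg_mul (hg _ _) (hg _ _),
    (mkTw θ hperf).sg_mul (mul_mem (mul_mem (hg _ _) (hg _ _)) (hg _ _)) (hg _ _),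
    (mkTw θ hperf).sg_mul (mul_mem (hg _ _) (hg _ _)) (hg _ _),
    (mkTw θ hperf).sg_mul (hg _ _) (hg _ _),
    sg_X θ hperf s (by simp), sg_X θ hperf s (by simp), sg_X θ hperf s (by simp),
    sg_X θ hperf s (by simp), sg_X θ hperf s (by simp), sg_X θ hperf s (by simp),
    r6, r7, r8, r9, r10, r11, e6, e7, e8, e9, e10, e11, pow_one, pow_one, pow_one]
  rw [swap76]
  have h1 : X s 10 (θ (c ^ 3)) * X s 11 (θ (d ^ 3)) * X s 8 (θ e) * X s 9 (θ g) =
      tail s 0 0 (θ (c ^ 3)) (θ (d ^ 3)) * tail s (θ e) (θ g) 0 0 := by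
    simp [tail, X_zero, mul_assoc]
  rw [h1, tail_mul, mul_assoc (_ * _), tail_mul]
  simp only [zero_add, add_zero]
  rfl

/-- the fixed element with parameters `t`, `u`, `v` -/
noncomputable def gen (s : Bool) (t u v : K) : GL chevG2.Idx K :=
  Uf s (θ t) t (t * θ t + θ u) (t * θ t ^ 2 + θ v) u v

theorem sg_gen (hθ : ∀ t, θ (θ t) ^ 3 = t) (s : Bool) (t u v : K) :
    (mkTw θ hperf).sg (gen θ s t u v) = gen θ s t u v := by
  have hA : θ (θ t ^ 3) = t := by rw [map_pow, hθ]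
  rw [gen, sg_Uf, hA]
  congr 1
  · ring
  · rw [add_pow_char, mul_pow, map_add, map_mul, map_pow, map_pow, map_pow, hθ, hθ]
    ring
  · rw [add_pow_char, mul_pow, map_add, map_mul, map_pow, map_pow, map_pow, map_pow, hθ,
      ← pow_mul, mul_comm 2 3, pow_mul, hθ]
    ring

end Sigma

theorem range_eq : List.range' 6 (chevG2.nroots - 6) = [6, 7, 8, 9, 10, 11] := by decide +kernel

theorem Uf_eq_uProd (a b c d e g : K) : Uf false a b c d e g =
    ChevalleyUnipotent.uProd c2 6 (fun r => ([b, a, c - a * b, d - a ^ 2 * b, e + a ^ 3 * b,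
      g + a ^ 3 * b ^ 2] : List K).getD (r - 6) 0) := by
  have h : X false 7 a * X false 6 b = X false 6 b * X false 7 a *
      tail false (-(b * a)) (-(a ^ 2 * b)) (a ^ 3 * b) (a ^ 3 * b ^ 2) := by
    rw [swap76, mul_assoc (_ * _), tail_mul]
    simp [tail, X_zero]
  rw [Uf, h, mul_assoc (_ * _), tail_mul, ChevalleyUnipotent.uProd, range_eq]
  simp only [List.map_cons, List.map_nil, List.prod_cons, List.prod_nil, mul_one,
    tail, X, Bool.false_eq_true, ↓reduceIte]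
  simp only [mul_assoc]
  norm_num [sub_eq_neg_add, mul_comm a b, add_comm]

theorem Uf_inj {a b c d e g a' b' c' d' e' g' : K}
    (h : Uf false a b c d e g = Uf false a' b' c' d' e' g') :
    a = a' ∧ b = b' ∧ c = c' ∧ d = d' ∧ e = e' ∧ g = g' := by
  rw [Uf_eq_uProd, Uf_eq_uProd] at h
  have h' := fun r h1 h2 => ChevalleyUnipotent.uProd_inj c2 (k := 6) (by rw [nroots.1]) h r h1
    (show r < chevG2.nroots by rw [nroots.1]; exact h2)
  have hb := h' 6 le_rfl (by norm_num)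
  have ha := h' 7 (by norm_num) (by norm_num)
  have hc := h' 8 (by norm_num) (by norm_num)
  have hd := h' 9 (by norm_num) (by norm_num)
  have he := h' 10 (by norm_num) (by norm_num)
  have hg := h' 11 (by norm_num) (by norm_num)
  simp at hb ha hc hd he hg
  subst hb ha
  exact ⟨rfl, rfl, by linear_combination hc, by linear_combination hd, by linear_combination he,
    by linear_combination hg⟩

theorem exists_Uf {u : GL chevG2.Idx K} (hu : u ∈ chevG2.posUnipotent K) :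
    ∃ a b c d e g, u = Uf false a b c d e g := by
  rw [ChevalleyUnipotent.posUnipotent_eq c2] at hu
  obtain ⟨t, -, rfl⟩ := ChevalleyUnipotent.exists_uProd c2 le_rfl hu
  have h2 : chevG2.nroots / 2 = 6 := by rw [nroots.1]
  refine ⟨t 7, t 6, t 8 + t 7 * t 6, t 9 + t 7 ^ 2 * t 6, t 10 - t 7 ^ 3 * t 6,
    t 11 - t 7 ^ 3 * t 6 ^ 2, ?_⟩
  rw [Uf_eq_uProd, h2]
  unfold ChevalleyUnipotent.uProd
  congr 1
  refine List.map_congr_left fun r hr => ?_
  rw [range_eq] at hr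
  fin_cases hr <;> simp

theorem Uf_mem_U (a b c d e g : K) : Uf false a b c d e g ∈ chevG2.posUnipotent K := by
  rw [Uf_eq_uProd, ChevalleyUnipotent.posUnipotent_eq c2]
  have h2 : chevG2.nroots / 2 = 6 := by rw [nroots.1]
  rw [h2]
  exact ChevalleyUnipotent.uProd_mem c2 h2.le _

end Cfsg.Agent.ReeTwist17
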