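import Cfsg.Agent.Lib.ChevalleyPerfect
import Cfsg.Agent.Lib.ChevSimpleGen
import Cfsg.Prelude.Def_ChevAutomorphisms

/-!
Generation of Chevalley groups by two elements: closure certificates on root indices and the extraction of root
subgroups from products of commuting elements of coprime order, and from a torus element together with a root
element times a monomial word.
-/

set_option autoImplicit false
set_option linter.unusedSimpArgs false
set_option linter.unusedSectionVars false

namespace Cfsg.Agent.TwoGenCert98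

open Cfsg.Lie Cfsg.Agent.ChevalleyEngine Cfsg.Agent.ChevalleyCert Cfsg.Agent.ChevalleyRoots
  Cfsg.Agent.ChevalleyCore Cfsg.Agent.ChevalleyTorus

/-- a way to reach a new root -/
inductive Step where
  | word (j r : ℕ)
  | refl (k r : ℕ)
  | ys (i r : ℕ)
  | comm (p r s : ℕ) (c : ℤ)

/-- the fundamental roots and their negatives -/
def simpleGoal (D : ChevalleyDatum) : List ℕ :=
  ((List.range D.rank).map D.simple) ++ ((List.range D.rank).map fun i => D.neg (D.simple i))

/-- side condition of a step through `x_p x_{-p}` -/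
def ysOK (D : ChevalleyDatum) (i r : ℕ) : Bool :=
  decide (r ≠ D.simple i ∧ r ≠ D.neg (D.simple i)) &&
    match D.commTerms (D.simple i) r with
    | [] => true
    | [(w, _, 1, 1)] => decide (w < D.nroots) && decide (D.reflectRoot i w = r)
    | _ => false

/-- the steps reach all of `goal` from the known roots -/
def check (D : ChevalleyDatum) (good : ℤ → Bool) (ws : List (List ℕ)) (yl goal : List ℕ) :
    List ℕ → List Step → Bool
  | known, [] => goal.all fun g => known.contains g
  | known, .word j r :: l =>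
    decide (j < ws.length) && decide (r < D.nroots) && known.contains r &&
      (ws.getD j []).all (fun i => decide (i < D.rank)) &&
      check D good ws yl goal (wact (D := D) (ws.getD j []) r :: known) l
  | known, .refl k r :: l =>
    decide (k < D.rank) && decide (r < D.nroots) && known.contains r && known.contains (D.simple k) &&
      known.contains (D.neg (D.simple k)) && check D good ws yl goal (D.reflectRoot k r :: known) l
  | known, .ys i r :: l =>
    decide (i < D.rank) && decide (r < D.nroots) && known.contains r && yl.contains i && ysOK D i r &&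
      check D good ws yl goal (D.reflectRoot i r :: known) l
  | known, .comm p r s c :: l =>
    known.contains r && known.contains s && good c &&
      decide (r < D.nroots ∧ s < D.nroots ∧ s ≠ r ∧ s ≠ D.neg r ∧ D.commTerms r s = [(p, c, 1, 1)]) &&
      check D good ws yl goal (p :: known) l

/-- coefficients allowed in a commutator step over any field -/
def goodUnit (c : ℤ) : Bool := decide (c = 1 ∨ c = -1)

/-- coefficients allowed in a commutator step when `2 ≠ 0` -/
def goodTwo (c : ℤ) : Bool := decide (c = 1 ∨ c = -1 ∨ c = 2 ∨ c = -2)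

/-- the product of two elements of the closure: commutation is decided by the commutator tables -/
def orth (D : ChevalleyDatum) (i r : ℕ) : Bool :=
  decide (i < D.rank ∧ r < D.nroots ∧ D.simple i ≠ r ∧ D.simple i ≠ D.neg r ∧ D.neg (D.simple i) ≠ r ∧
    D.neg (D.simple i) ≠ D.neg r ∧ D.commTerms r (D.simple i) = [] ∧ D.commTerms r (D.neg (D.simple i)) = [])

variable {D : ChevalleyDatum} {F : Type*} [Field F] (C : Cert D)
include C

omit C in
theorem goodUnit_ne (c : ℤ) (h : goodUnit c = true) : (c : F) ≠ 0 := by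
  rcases (of_decide_eq_true h) with rfl | rfl <;> simp

omit C in
theorem goodTwo_ne (h2 : (2 : F) ≠ 0) (c : ℤ) (h : goodTwo c = true) : (c : F) ≠ 0 := by
  rcases (of_decide_eq_true h) with rfl | rfl | rfl | rfl <;> simp [h2]

/-- the element of the monomial subgroup attached to a word -/
def nwd (l : List ℕ) : GL D.Idx F := (l.map fun i => ns C i).prod

theorem nwd_cons (i : ℕ) (l : List ℕ) : nwd C (F := F) (i :: l) = ns C i * nwd C l := by simp [nwd]

theorem nwd_mem_group (l : List ℕ) : nwd C (F := F) l ∈ D.group F := by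
  refine Subgroup.list_prod_mem _ fun x hx => ?_
  obtain ⟨i, _, rfl⟩ := List.mem_map.1 hx
  exact mul_mem (mul_mem (xg_mem_group C _ _) (xg_mem_group C _ _)) (xg_mem_group C _ _)

theorem hg_mem_group (r : ℕ) (t : F) : hg C r t ∈ D.group F :=
  mul_mem (mul_mem (mul_mem (xg_mem_group C _ _) (xg_mem_group C _ _)) (xg_mem_group C _ _))
    (mul_mem (mul_mem (xg_mem_group C _ _) (xg_mem_group C _ _)) (xg_mem_group C _ _))

theorem nwd_conj_xg : ∀ {l : List ℕ}, (∀ i ∈ l, i < D.rank) → ∀ {r : ℕ}, r < D.nroots →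
    ∃ e : F, e * e = 1 ∧ ∀ t : F, nwd C l * xg C r t * (nwd C l)⁻¹ = xg C (wact (D := D) l r) (e * t)
  | [], _, r, _ => ⟨1, one_mul _, fun t => by simp [nwd, wact]⟩
  | i :: l, hl, r, hr => by
    have hi := hl i (List.mem_cons_self ..)
    have hl' : ∀ j ∈ l, j < D.rank := fun j hj => hl j (List.mem_cons_of_mem _ hj)
    obtain ⟨e, he, h⟩ := nwd_conj_xg hl' hr
    refine ⟨(C.eta i (wact (D := D) l r) : F) * e, ?_, fun t => ?_⟩
    · rw [mul_mul_mul_comm, eta_cast_sq C, he, one_mul]
    · have hc := ng_simple_conj C hi (wact_lt C hl' hr) (e * t)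
      rw [wact_cons, mul_assoc (C.eta i _ : F), ← hc, ← h t, nwd_cons, mul_inv_rev]
      simp only [mul_assoc]

theorem nwd_conj_hg : ∀ {l : List ℕ}, (∀ i ∈ l, i < D.rank) → ∀ {r : ℕ}, r < D.nroots → ∀ {t : F}, t ≠ 0 →
    nwd C l * hg C r t * (nwd C l)⁻¹ = hg C (wact (D := D) l r) t
  | [], _, r, _, t, _ => by simp [nwd, wact]
  | i :: l, hl, r, hr, t, ht => by
    have hi := hl i (List.mem_cons_self ..)
    have hl' : ∀ j ∈ l, j < D.rank := fun j hj => hl j (List.mem_cons_of_mem _ hj)
    have hc := ns_conj_hg C hi (wact_lt C hl' hr) ht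
    rw [← nwd_conj_hg hl' hr ht] at hc
    rw [wact_cons, nwd_cons, mul_inv_rev, ← hc]
    simp only [mul_assoc]

theorem ns_mem_of {M : Subgroup (GL D.Idx F)} {k : ℕ} (h1 : ∀ t, xg C (D.simple k) t ∈ M)
    (h2 : ∀ t, xg C (D.neg (D.simple k)) t ∈ M) : ns C (F := F) k ∈ M :=
  mul_mem (mul_mem (h1 _) (h2 _)) (h1 _)

theorem char_two_neg (h2 : (2 : F) = 0) (t : F) : -t = t :=
  neg_eq_iff_add_eq_zero.2 (by rw [← two_mul, h2, zero_mul])

theorem ys_step {M : Subgroup (GL D.Idx F)} {i r : ℕ} (hi : i < D.rank) (hr : r < D.nroots) (h2 : (2 : F) = 0)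
    (hy : xg C (D.simple i) 1 * xg C (D.neg (D.simple i)) 1 ∈ M) (ho : ysOK D i r = true)
    (h : ∀ t, xg C r t ∈ M) (t : F) : xg C (D.reflectRoot i r) t ∈ M := by
  simp only [ysOK, Bool.and_eq_true, decide_eq_true_eq] at ho
  obtain ⟨⟨hne1, hne2⟩, hm⟩ := ho
  have hp := simple_lt C hi
  have hn : ns C (F := F) i = xg C (D.simple i) 1 * xg C (D.neg (D.simple i)) 1 * xg C (D.simple i) 1 := by
    rw [ns, ng.eq_1, inv_one, char_two_neg C h2]
  have hxx : xg C (D.simple i) (1 : F) * xg C (D.simple i) 1 = 1 := by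
    rw [xg_mul, show (1 : F) + 1 = 0 by linear_combination h2, xg_zero]
  set u := (C.eta i r : F) * t with hu
  have hf := comm_formula C hp hr hne1 hne2 (1 : F) u
  have hkey : ns C i * (xg C r u * wg C (D.commWord F (D.simple i) r 1 u)) * (ns C i)⁻¹ ∈ M := by
    have e : xg C r u * wg C (D.commWord F (D.simple i) r 1 u) =
        (xg C (D.simple i) 1)⁻¹ * xg C r u * xg C (D.simple i) 1 := by
      rw [mul_assoc (xg C (D.simple i) (1 : F))⁻¹, hf]; group
    have e2 : ns C i * ((xg C (D.simple i) 1)⁻¹ * xg C r u * xg C (D.simple i) 1) * (ns C i)⁻¹ =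
        (xg C (D.simple i) 1 * xg C (D.neg (D.simple i)) 1) * xg C r u *
          (xg C (D.simple i) 1 * xg C (D.neg (D.simple i)) 1)⁻¹ := by
      rw [hn]; group
    rw [e, e2]
    exact mul_mem (mul_mem hy (h u)) (inv_mem hy)
  have hmain : ns C i * xg C r u * (ns C i)⁻¹ = xg C (D.reflectRoot i r) t := by
    rw [ng_simple_conj C hi hr, hu, ← mul_assoc, eta_cast_sq C, one_mul]
  rw [← hmain]
  split at hm
  · rename_i heq
    simpa [ChevalleyDatum.commWord, heq, wg] using hkey
  · rename_i w c heq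
    simp only [Bool.and_eq_true, decide_eq_true_eq] at hm
    have hw : ns C i * wg C (D.commWord F (D.simple i) r 1 u) * (ns C i)⁻¹ ∈ M := by
      simp only [ChevalleyDatum.commWord, heq, List.map_cons, List.map_nil, wg, List.prod_cons, List.prod_nil,
        mul_one]
      rw [ng_simple_conj C hi hm.1, hm.2]
      exact h _
    have := mul_mem hkey (inv_mem hw)
    convert this using 1
    group
  · exact absurd hm (by simp)

theorem check_sound {M : Subgroup (GL D.Idx F)} {good : ℤ → Bool} (hgood : ∀ c, good c = true → (c : F) ≠ 0)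
    {ws : List (List ℕ)} (hws : ∀ l ∈ ws, nwd C l ∈ M) {yl : List ℕ}
    (hyl : ∀ i ∈ yl, (2 : F) = 0 ∧ xg C (D.simple i) 1 * xg C (D.neg (D.simple i)) 1 ∈ M) {goal : List ℕ} :
    ∀ (l : List Step) (known : List ℕ), check D good ws yl goal known l = true →
      (∀ r ∈ known, ∀ t, xg C r t ∈ M) → ∀ g ∈ goal, ∀ t, xg C g t ∈ M
  | [], known, h, hk, g, hg, t => by
    simp only [check, List.all_eq_true, List.contains_iff_mem] at h
    exact hk _ (h g hg) t
  | .word j r :: l, known, h, hk, g, hg, t => by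
    simp only [check, Bool.and_eq_true, decide_eq_true_eq, List.contains_iff_mem, List.all_eq_true] at h
    obtain ⟨⟨⟨⟨h1, h2⟩, h3⟩, h4⟩, h5⟩ := h
    refine check_sound hgood hws hyl l _ h5 ?_ g hg t
    intro x hx
    rcases List.mem_cons.1 hx with rfl | hx
    swap; · exact hk x hx
    intro v
    have hm : ws.getD j [] ∈ ws := by
      rw [List.getD_eq_getElem _ _ h1]; exact List.getElem_mem h1
    obtain ⟨e, he, hc⟩ := nwd_conj_xg C (F := F) h4 h2
    have := hc (e * v)
    rw [← mul_assoc e, he, one_mul] at this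
    rw [← this]
    exact mul_mem (mul_mem (hws _ hm) (hk r h3 _)) (inv_mem (hws _ hm))
  | .refl k r :: l, known, h, hk, g, hg, t => by
    simp only [check, Bool.and_eq_true, decide_eq_true_eq, List.contains_iff_mem] at h
    obtain ⟨⟨⟨⟨⟨h1, h2⟩, h3⟩, h4⟩, h5⟩, h6⟩ := h
    refine check_sound hgood hws hyl l _ h6 ?_ g hg t
    intro x hx
    rcases List.mem_cons.1 hx with rfl | hx
    swap; · exact hk x hx
    intro v
    have hn := ns_mem_of C (hk _ h4) (hk _ h5)
    have hc := ng_simple_conj C h1 h2 ((C.eta k r : F) * v)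
    rw [← mul_assoc, eta_cast_sq C, one_mul] at hc
    rw [← hc]
    exact mul_mem (mul_mem hn (hk r h3 _)) (inv_mem hn)
  | .ys i r :: l, known, h, hk, g, hg, t => by
    simp only [check, Bool.and_eq_true, decide_eq_true_eq, List.contains_iff_mem] at h
    obtain ⟨⟨⟨⟨⟨h1, h2⟩, h3⟩, h4⟩, h5⟩, h6⟩ := h
    refine check_sound hgood hws hyl l _ h6 ?_ g hg t
    intro x hx
    rcases List.mem_cons.1 hx with rfl | hx
    swap; · exact hk x hx
    exact fun v => ys_step C h1 h2 (hyl i h4).1 (hyl i h4).2 h5 (hk r h3) v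
  | .comm p r s c :: l, known, h, hk, g, hg, t => by
    simp only [check, Bool.and_eq_true, decide_eq_true_eq, List.contains_iff_mem] at h
    obtain ⟨⟨⟨⟨h1, h2⟩, h3⟩, hr, hs, hsr, hsn, hl⟩, h4⟩ := h
    refine check_sound hgood hws hyl l _ h4 ?_ g hg t
    intro x hx
    rcases List.mem_cons.1 hx with rfl | hx
    swap; · exact hk x hx
    intro u
    have hc := hgood c h3
    have hf := comm_formula C hr hs hsr hsn (-(u / (c : F))) (1 : F)
    have he : wg C (D.commWord F r s (-(u / (c : F))) 1) = xg C x u := by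
      simp only [ChevalleyDatum.commWord, hl, List.map_cons, List.map_nil, wg, List.prod_cons, List.prod_nil, mul_one,
        pow_one, neg_neg]
      congr 1
      field_simp
    rw [he, ← inv_mul_eq_iff_eq_mul] at hf
    rw [← hf]
    exact mul_mem (inv_mem (mul_mem (hk r h1 _) (hk s h2 _))) (mul_mem (hk s h2 _) (hk r h1 _))

theorem group_le {M : Subgroup (GL D.Idx F)} (h : ∀ g ∈ simpleGoal D, ∀ t, xg C g t ∈ M) : D.group F ≤ M := by
  have hall := ChevSimpleGen.xg_mem C M fun i hi t =>
    ⟨h _ (List.mem_append_left _ (List.mem_map.2 ⟨i, List.mem_range.2 hi, rfl⟩)) t,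
     h _ (List.mem_append_right _ (List.mem_map.2 ⟨i, List.mem_range.2 hi, rfl⟩)) t⟩
  refine (Subgroup.closure_le _).2 ?_
  rintro g ⟨⟨r, hr⟩, t, hg'⟩
  obtain rfl : g = xg C r t := Units.ext (hg'.trans (by simp [ChevalleyDatum.x, hr]))
  exact hall r hr t

omit C in
theorem wrap {a b : GL D.Idx F} (ha : a ∈ D.group F) (hb : b ∈ D.group F)
    (h : D.group F ≤ Subgroup.closure {a, b}) :
    ∃ a b : ↥(D.group F), Subgroup.closure ({a, b} : Set ↥(D.group F)) = ⊤ := by
  refine ⟨⟨a, ha⟩, ⟨b, hb⟩, ?_⟩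
  apply Subgroup.map_injective (D.group F).subtype_injective
  rw [MonoidHom.map_closure, ← MonoidHom.range_eq_map, Subgroup.range_subtype, Set.image_pair]
  exact le_antisymm ((Subgroup.closure_le _).2 (by rintro x (rfl | rfl) <;> assumption)) h

omit C in
theorem split {G : Type*} [Group G] {M : Subgroup G} {x y : G} {m k : ℕ} (hc : Commute x y) (hx : x ^ m = 1)
    (hy : y ^ k = 1) (hmk : m.Coprime k) (h : x * y ∈ M) : x ∈ M ∧ y ∈ M := by
  have hxy : x ∈ M := by
    have ho : (orderOf x).Coprime k := hmk.coprime_dvd_left (orderOf_dvd_of_pow_eq_one hx)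
    have h1 : x ^ k ∈ M := by
      have := pow_mem h k
      rwa [hc.mul_pow, hy, mul_one] at this
    obtain ⟨j, hj⟩ := exists_pow_eq_self_of_coprime ho.symm
    rw [← hj]
    exact pow_mem h1 j
  exact ⟨hxy, (Subgroup.mul_mem_cancel_left _ hxy).1 h⟩

theorem xg_pow (r : ℕ) (t : F) (n : ℕ) : xg C r t ^ n = xg C r (n * t) := by
  induction n with
  | zero => simp
  | succ n ih => rw [pow_succ, ih, xg_mul]; congr 1; push_cast; ring

theorem all_of_one {M : Subgroup (GL D.Idx F)} (hF : ∀ t : F, ∃ n : ℕ, (n : F) = t) {r : ℕ}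
    (h : xg C r (1 : F) ∈ M) (t : F) : xg C r t ∈ M := by
  obtain ⟨n, rfl⟩ := hF t
  have := pow_mem h n
  rwa [xg_pow, mul_one] at this

theorem hg_pow {r : ℕ} (hr : r < D.nroots) {t : F} (ht : t ≠ 0) (n : ℕ) : hg C r t ^ n = hg C r (t ^ n) := by
  induction n with
  | zero => simp [hg_one C hr]
  | succ n ih => rw [pow_succ, ih, hg_mul C hr (pow_ne_zero _ ht) ht, pow_succ]

theorem commute_xg {r s : ℕ} (hr : r < D.nroots) (hs : s < D.nroots) (h1 : s ≠ r) (h2 : s ≠ D.neg r)
    (h : D.commTerms r s = []) (t u : F) : Commute (xg C r t) (xg C s u) := by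
  have hf := comm_formula C hr hs h1 h2 t u
  simp only [ChevalleyDatum.commWord, h, List.map_nil, wg, List.prod_nil, mul_one] at hf
  exact hf.symm

theorem orth_commute {i r : ℕ} (h : orth D i r = true) (t u v : F) :
    Commute (xg C r t) (xg C (D.simple i) u) ∧ Commute (xg C r t) (xg C (D.neg (D.simple i)) v) := by
  simp only [orth, decide_eq_true_eq] at h
  obtain ⟨hi, hr, h1, h2, h3, h4, h5, h6⟩ := h
  exact ⟨commute_xg C hr (simple_lt C hi) h1 h2 h5 t u, commute_xg C hr (C.neg_lt _) h3 h4 h6 t v⟩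

theorem commute_ns {i r : ℕ} (h : orth D i r = true) (t : F) : Commute (xg C r t) (ns C i) :=
  ((orth_commute C h t 1 0).1.mul_right (orth_commute C h t 0 _).2).mul_right (orth_commute C h t 1 0).1

theorem ns_pow_four {i : ℕ} (hi : i < D.rank) : ns C (F := F) i ^ 4 = 1 := by
  have h2 : ns C (F := F) i * ns C i = hg C (D.simple i) (-1) := Units.ext (by
    rw [ng_pair C (simple_lt C hi) 1 1 one_ne_zero one_ne_zero,
      coe_hg_eq C (simple_lt C hi) (neg_ne_zero.2 one_ne_zero), div_one])
  rw [show (4 : ℕ) = 2 * 2 from rfl, pow_mul, pow_two (ns C i), h2, hg_pow C (simple_lt C hi)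
    (neg_ne_zero.2 one_ne_zero), neg_one_sq, hg_one C (simple_lt C hi)]

theorem eta_two (h2 : (2 : F) = 0) (i s : ℕ) : (C.eta i s : F) = 1 := by
  rcases C.eta_sq i s with e | e <;> simp [e, char_two_neg C h2]

theorem ns_sq_two {i : ℕ} (hi : i < D.rank) (h2 : (2 : F) = 0) : ns C (F := F) i * ns C i = 1 := by
  have := hg_one C (F := F) (simple_lt C hi)
  rwa [hg, char_two_neg C h2] at this

theorem braid_two {i j : ℕ} (hi : i < D.rank) (hj : j < D.rank) (h2 : (2 : F) = 0)
    (h : D.reflectRoot i (D.simple j) = D.reflectRoot j (D.simple i)) :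
    (ns C (F := F) i * ns C j) ^ 3 = 1 := by
  have hii := ns_sq_two C (F := F) hi h2
  have hjj := ns_sq_two C (F := F) hj h2
  have e : ∀ a b : ℕ, a < D.rank → b < D.rank → ns C (F := F) a * ns C b * ns C a =
      ng C (D.reflectRoot a (D.simple b)) 1 := fun a b ha hb => by
    have := ng_simple_conj_ng C ha (simple_lt C hb) (1 : F)
    rwa [eta_two C h2, one_mul, inv_eq_of_mul_eq_one_right (ns_sq_two C ha h2)] at this
  have hb : ns C (F := F) i * ns C j * ns C i = ns C j * ns C i * ns C j := by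
    rw [e i j hi hj, e j i hj hi, h]
  calc (ns C (F := F) i * ns C j) ^ 3
      = (ns C i * ns C j * ns C i) * (ns C j * ns C i * ns C j) := by simp only [pow_succ, pow_zero, one_mul, mul_assoc]
    _ = (ns C j * ns C i * ns C j) * (ns C j * ns C i * ns C j) := by rw [hb]
    _ = ns C j * (ns C i * (ns C j * ns C j) * ns C i) * ns C j := by simp only [mul_assoc]
    _ = 1 := by rw [hjj, mul_one, hii, mul_one, hjj]

theorem rot_two {i : ℕ} (hi : i < D.rank) (h2 : (2 : F) = 0) :
    (xg C (D.simple i) (1 : F) * xg C (D.neg (D.simple i)) 1) ^ 3 = 1 := by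
  have hc := ng_simple_conj C hi (C.neg_lt (D.simple i)) (1 : F)
  have hw : D.reflectRoot i (D.neg (D.simple i)) = D.simple i := by
    have h1 := w_neg C hi (simple_lt C hi)
    rw [w_simple C hi, neg_neg' C (simple_lt C hi)] at h1
    exact h1
  rw [hw, eta_two C h2, one_mul, ng_inv, char_two_neg C h2, ng.eq_1, inv_one, char_two_neg C h2] at hc
  set x := xg C (D.simple i) (1 : F) with hx
  set y := xg C (D.neg (D.simple i)) (1 : F) with hy
  have hxx : x * x = 1 := by rw [hx, xg_mul, show (1 : F) + 1 = 0 by linear_combination h2, xg_zero]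
  calc (x * y) ^ 3 = (x * y * x) * y * (x * y * x) * x := by
        simp only [pow_succ, pow_zero, one_mul, mul_assoc, hxx, mul_one]
    _ = 1 := by rw [hc, hxx]

theorem scalar_all [Fintype F] (k : Fˣ) (hk : ∀ u : Fˣ, u ∈ Subgroup.zpowers k) {S : Set F} (h0 : (0 : F) ∈ S)
    (hadd : ∀ a ∈ S, ∀ b ∈ S, a + b ∈ S) (hneg : ∀ a ∈ S, -a ∈ S)
    (hmul : ∀ c ∈ S, (k : F) ^ 2 * c ∈ S) {c₀ : F} (hc₀ : c₀ ∈ S) (hne : c₀ ≠ 0) (x : F) : x ∈ S := by
  classical
  let M : AddSubgroup F :=
    { carrier := {a | ∀ c ∈ S, a * c ∈ S}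
      zero_mem' := fun c _ => by rw [zero_mul]; exact h0
      add_mem' := fun ha hb c hc => by rw [add_mul]; exact hadd _ (ha c hc) _ (hb c hc)
      neg_mem' := fun ha c hc => by rw [neg_mul]; exact hneg _ (ha c hc) }
  have hpow : ∀ m : ℕ, ((k : F) ^ 2) ^ m ∈ M := by
    intro m
    induction m with
    | zero => intro c hc; rw [pow_zero, one_mul]; exact hc
    | succ m ih => intro c hc; rw [pow_succ, mul_assoc]; exact ih _ (hmul c hc)
  have hsq : ∀ a : F, a ^ 2 ∈ M := by
    intro a
    by_cases ha : a = 0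
    · rw [ha, zero_pow two_ne_zero]; exact M.zero_mem
    obtain ⟨m, hm⟩ := (mem_powers_iff_mem_zpowers).2 (hk (Units.mk0 a ha))
    have hm' : (k : F) ^ m = a := by simpa using congrArg Units.val hm
    rw [← hm', ← pow_mul, mul_comm, pow_mul]
    exact hpow m
  have hall : ∀ a : F, a ∈ M := by
    intro a
    by_cases h2 : (2 : F) = 0
    · have : CharP F 2 := CharTwo.of_one_ne_zero_of_two_eq_zero one_ne_zero h2
      obtain ⟨b, hb⟩ := FiniteField.isSquare_of_char_two (ringChar.eq F 2) a
      rw [hb, ← sq]; exact hsq b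
    · have := M.sub_mem (M.sub_mem (hsq (a / 2 + 1)) (hsq (a / 2))) (hsq 1)
      rwa [show (a / 2 + 1) ^ 2 - (a / 2) ^ 2 - 1 ^ 2 = a by field_simp; ring] at this
  have := hall (x / c₀) c₀ hc₀
  rwa [div_mul_cancel₀ x hne] at this

omit C in
/-- the side conditions for generation over a field with at least four elements -/
def bigOK (D : ChevalleyDatum) (w : List ℕ) (r s u u' : ℕ) : Bool :=
  decide ((∀ i ∈ w, i < D.rank) ∧ r < D.nroots ∧ s < D.nroots ∧ u < D.nroots ∧ u' < D.nroots ∧
    wact (D := D) w u < D.nroots ∧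
    D.pairing u r ∈ [1, -1, 2, -2] ∧ D.pairing u s = 0 ∧ D.pairing (wact (D := D) w u) r ∈ [1, -1, 2, -2] ∧
    D.pairing u' s ∈ [1, -1])

theorem gen_big [Fintype F] (hq : 4 ≤ Fintype.card F) {w : List ℕ} {r s u u' : ℕ}
    (hok : bigOK D w r s u u' = true) {l₁ l₂ : List Step}
    (hl₁ : check D goodUnit [w] [] [u', D.neg u'] [r] l₁ = true)
    (hl₂ : check D goodUnit [w] [] (simpleGoal D) [r, s] l₂ = true) :
    ∃ a b : ↥(D.group F), Subgroup.closure ({a, b} : Set ↥(D.group F)) = ⊤ := by
  simp only [bigOK, decide_eq_true_eq] at hok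
  obtain ⟨hw, hr, hs, hu, hu', hwu, he, he0, he', he1⟩ := hok
  obtain ⟨k, hk⟩ := IsCyclic.exists_generator (α := Fˣ)
  have hord : orderOf k = Fintype.card F - 1 := by
    rw [orderOf_eq_card_of_forall_mem_zpowers hk, Nat.card_units, Nat.card_eq_fintype_card]
  have hne : ∀ e : ℤ, e ∈ [1, -1, 2, -2] → ((k : F) ^ e) ≠ 1 := by
    intro e he h
    rw [← Units.val_zpow_eq_zpow_val, Units.val_eq_one, ← orderOf_dvd_iff_zpow_eq_one] at h
    have h' := Int.natCast_dvd.1 h
    simp only [List.mem_cons, List.not_mem_nil, or_false] at he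
    rcases he with rfl | rfl | rfl | rfl <;> (have := Nat.le_of_dvd (by decide) h'; simp at this; omega)
  have hk0 : (k : F) ≠ 0 := k.ne_zero
  set h := hg C u (k : F) with hh
  set x := xg C r (1 : F) with hx
  set N := nwd C (F := F) w with hN
  refine wrap (a := h * xg C s 1) (b := x * N) (mul_mem (hg_mem_group C _ _) (xg_mem_group C _ _))
    (mul_mem (xg_mem_group C _ _) (nwd_mem_group C _)) ?_
  set M := Subgroup.closure ({h * xg C s 1, x * N} : Set (GL D.Idx F)) with hM
  have hb : x * N ∈ M := Subgroup.subset_closure (Or.inr rfl)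
  have hcomm : Commute h (xg C s 1) := by
    have := hg_conj_xg C hu hs hk0 (1 : F)
    rwa [he0, zpow_zero, one_mul] at this
  obtain ⟨hhM, hsM⟩ : h ∈ M ∧ xg C s 1 ∈ M := by
    refine split (m := Fintype.card F - 1) (k := Fintype.card F) hcomm ?_ ?_ ?_ (Subgroup.subset_closure (Or.inl rfl))
    · rw [hh, hg_pow C hu hk0, FiniteField.pow_card_sub_one_eq_one _ hk0, hg_one C hu]
    · rw [xg_pow, FiniteField.cast_card_eq_zero, zero_mul, xg_zero]
    · exact (Nat.coprime_self_sub_left (by omega)).2 (Nat.coprime_one_left _)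
  have hconj : ∀ (v : ℕ), v < D.nroots → ∀ t : F,
      hg C v (k : F) * xg C r t * (hg C v (k : F))⁻¹ = xg C r ((k : F) ^ D.pairing v r * t) := fun v hv t => by
    rw [hg_conj_xg C hv hr hk0 t, mul_inv_cancel_right]
  set h' := hg C (wact (D := D) w u) (k : F) with hh'
  have hNh : N * h * N⁻¹ = h' := nwd_conj_hg C hw hu hk0
  set μ := (k : F) ^ D.pairing (wact (D := D) w u) r with hμ
  set lam := (k : F) ^ D.pairing u r with hlam
  have hg1 : x * N * h * (x * N)⁻¹ = xg C r (1 - μ) * h' := by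
    calc x * N * h * (x * N)⁻¹ = x * (N * h * N⁻¹) * x⁻¹ := by group
      _ = x * (h' * xg C r (-1) * h'⁻¹) * h' := by rw [hNh, hx, xg_inv]; group
      _ = xg C r (1 - μ) * h' := by
        rw [hh', hconj _ hwu, hx, xg_mul, mul_neg_one, ← sub_eq_add_neg]
  have hgM : xg C r (1 - μ) * h' ∈ M := hg1 ▸ mul_mem (mul_mem hb hhM) (inv_mem hb)
  have hcm : h * h' = h' * h := H_comm C (hg_mem_H C hu hk0) (hg_mem_H C hwu hk0)
  have hc0 : xg C r (lam * (1 - μ) - (1 - μ)) ∈ M := by
    have e : h * (xg C r (1 - μ) * h') * h⁻¹ * (xg C r (1 - μ) * h')⁻¹ =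
        h * xg C r (1 - μ) * h⁻¹ * (xg C r (1 - μ))⁻¹ := by
      calc h * (xg C r (1 - μ) * h') * h⁻¹ * (xg C r (1 - μ) * h')⁻¹
          = h * xg C r (1 - μ) * (h' * h⁻¹ * h'⁻¹) * (xg C r (1 - μ))⁻¹ := by group
        _ = _ := by rw [show h' * h⁻¹ * h'⁻¹ = h⁻¹ from by
              rw [mul_inv_eq_iff_eq_mul, eq_inv_mul_iff_mul_eq, ← mul_assoc, hcm, mul_inv_cancel_right]]
    have h3 := mul_mem (mul_mem (mul_mem hhM hgM) (inv_mem hhM)) (inv_mem hgM)
    rwa [e, hh, hconj _ hu, xg_inv, xg_mul, ← sub_eq_add_neg] at h3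
  have hrM : ∀ t, xg C r t ∈ M := by
    have hcl : ∀ c, xg C r c ∈ M → xg C r (lam * c) ∈ M ∧ xg C r (lam⁻¹ * c) ∈ M := by
      intro c hc
      refine ⟨?_, ?_⟩
      · have := mul_mem (mul_mem hhM hc) (inv_mem hhM)
        rwa [hh, hconj _ hu] at this
      · have := mul_mem (mul_mem (inv_mem hhM) hc) hhM
        have e : h⁻¹ * xg C r c * h = xg C r (lam⁻¹ * c) := by
          have h4 := hconj u hu (lam⁻¹ * c)
          rw [← mul_assoc, mul_inv_cancel₀ (zpow_ne_zero _ hk0), one_mul] at h4
          rw [← h4, hh]; group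
        rwa [e] at this
    refine scalar_all C k hk (S := {t | xg C r t ∈ M}) (by simp [one_mem]) ?_ ?_ ?_ hc0 ?_
    · intro a ha b hb'
      have := mul_mem (Set.mem_setOf.1 ha) (Set.mem_setOf.1 hb')
      rwa [xg_mul] at this
    · intro a ha
      have := inv_mem (Set.mem_setOf.1 ha)
      rwa [xg_inv] at this
    · intro c hc
      simp only [List.mem_cons, List.not_mem_nil, or_false] at he
      rcases he with e | e | e | e
      · have := (hcl _ (hcl c hc).1).1
        rwa [hlam, e, zpow_one, ← mul_assoc, ← sq] at this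
      · have := (hcl _ (hcl c hc).2).2
        rwa [hlam, e, zpow_neg_one, inv_inv, ← mul_assoc, ← sq] at this
      · have := (hcl c hc).1
        rwa [hlam, e, zpow_two, ← sq] at this
      · have := (hcl c hc).2
        rwa [hlam, e, zpow_neg, inv_inv, zpow_two, ← sq] at this
    · rw [show lam * (1 - μ) - (1 - μ) = (lam - 1) * (1 - μ) by ring]
      exact mul_ne_zero (sub_ne_zero.2 (hne _ he)) (sub_ne_zero.2 (Ne.symm (hne _ he')))
  have hNM : N ∈ M := (Subgroup.mul_mem_cancel_left _ (hrM 1)).1 hb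
  have hws : ∀ l ∈ [w], nwd C l ∈ M := by simpa using hNM
  have hyl : ∀ i ∈ ([] : List ℕ), (2 : F) = 0 ∧ xg C (D.simple i) 1 * xg C (D.neg (D.simple i)) 1 ∈ M := by simp
  have hu'M := check_sound C goodUnit_ne hws hyl l₁ [r] hl₁ (by simpa using hrM)
  have hsall : ∀ t, xg C s t ∈ M := by
    intro t
    rcases eq_or_ne t 0 with rfl | ht
    · rw [xg_zero]; exact one_mem _
    have hng : ∀ c : F, ng C u' c ∈ M := fun c =>
      mul_mem (mul_mem (hu'M u' (by simp) _) (hu'M (D.neg u') (by simp) _)) (hu'M u' (by simp) _)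
    have key : ∀ c : F, c ≠ 0 → xg C s (c ^ D.pairing u' s) ∈ M := by
      intro c hc
      have hH : hg C u' c ∈ M := mul_mem (hng _) (hng _)
      have := mul_mem (mul_mem hH hsM) (inv_mem hH)
      rwa [hg_conj_xg C hu' hs hc 1, mul_inv_cancel_right, mul_one] at this
    simp only [List.mem_cons, List.not_mem_nil, or_false] at he1
    rcases he1 with e | e
    · simpa [e] using key t ht
    · simpa [e] using key t⁻¹ (inv_ne_zero ht)
  refine group_le C (check_sound C goodUnit_ne hws hyl l₂ [r, s] hl₂ ?_)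
  intro x hx
  simp only [List.mem_cons, List.not_mem_nil, or_false] at hx
  rcases hx with rfl | rfl
  exacts [hrM, hsall]

/-- a root element and a monomial word, over a prime field -/
theorem gen_prime (hF : ∀ t : F, ∃ n : ℕ, (n : F) = t) {good : ℤ → Bool}
    (hgood : ∀ c, good c = true → (c : F) ≠ 0) {w : List ℕ} {r : ℕ} {l : List Step}
    (hl : check D good [w] [] (simpleGoal D) [r] l = true) :
    ∃ a b : ↥(D.group F), Subgroup.closure ({a, b} : Set ↥(D.group F)) = ⊤ := by
  refine wrap (a := xg C r 1) (b := nwd C w) (xg_mem_group C _ _) (nwd_mem_group C _) ?_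
  refine group_le C (check_sound C hgood ?_ (by simp) l [r] hl ?_)
  · intro x hx
    obtain rfl := List.mem_singleton.1 hx
    exact Subgroup.subset_closure (Or.inr rfl)
  · intro x hx
    obtain rfl := List.mem_singleton.1 hx
    exact all_of_one C hF (Subgroup.subset_closure (Or.inl rfl))

theorem split_ns (h3 : (3 : F) = 0) {i r : ℕ} (ho : orth D i r = true) {M : Subgroup (GL D.Idx F)}
    (h : xg C r 1 * ns C i ∈ M) : xg C r 1 ∈ M ∧ nwd C [i] ∈ M := by
  have hi : i < D.rank := by simp only [orth, decide_eq_true_eq] at ho; exact ho.1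
  have := TwoGenCert98.split (m := 3) (k := 4) (commute_ns C ho 1) (by rw [xg_pow]; simp [h3]) (ns_pow_four C hi)
    (by norm_num) h
  simpa [nwd] using this

theorem split_rot (h2 : (2 : F) = 0) {i r : ℕ} (ho : orth D i r = true) {M : Subgroup (GL D.Idx F)}
    (h : xg C r 1 * (xg C (D.simple i) 1 * xg C (D.neg (D.simple i)) 1) ∈ M) :
    xg C r 1 ∈ M ∧ xg C (D.simple i) 1 * xg C (D.neg (D.simple i)) 1 ∈ M := by
  have hi : i < D.rank := by simp only [orth, decide_eq_true_eq] at ho; exact ho.1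
  exact split (m := 2) (k := 3) ((orth_commute C ho 1 1 1).1.mul_right (orth_commute C ho 1 1 1).2)
    (by rw [xg_pow]; simp [h2]) (rot_two C hi h2) (by norm_num) h

theorem split_pair (h2 : (2 : F) = 0) {i j r : ℕ} (ho : orth D i r = true) (ho' : orth D j r = true)
    (hb : D.reflectRoot i (D.simple j) = D.reflectRoot j (D.simple i)) {M : Subgroup (GL D.Idx F)}
    (h : xg C r 1 * nwd C [i, j] ∈ M) : xg C r 1 ∈ M ∧ nwd C [i, j] ∈ M := by
  have hi : i < D.rank := by simp only [orth, decide_eq_true_eq] at ho; exact ho.1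
  have hj : j < D.rank := by simp only [orth, decide_eq_true_eq] at ho'; exact ho'.1
  have e : nwd C (F := F) [i, j] = ns C i * ns C j := by simp [nwd]
  rw [e] at h ⊢
  exact split (m := 2) (k := 3) ((commute_ns C ho 1).mul_right (commute_ns C ho' 1))
    (by rw [xg_pow]; simp [h2]) (braid_two C hi hj h2 hb) (by norm_num) h

end Cfsg.Agent.TwoGenCert98
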