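import Cfsg.Agent.Lib.ReeInstance17
import Cfsg.Agent.Lib.TwoGenCert98

/-!
Two elements generating the small Ree groups.
-/

set_option autoImplicit false
set_option linter.unusedSectionVars false
set_option maxRecDepth 20000

namespace Cfsg.Agent.ReeTwoGen59

open Cfsg.Lie Cfsg.Agent.ChevalleyCert Cfsg.Agent.ChevalleyCore Cfsg.Agent.TwistedCore
open Cfsg.Agent.ReeSL2 Cfsg.Agent.ReeTwist17 Cfsg.Agent.ReeInstance17
open Cfsg.Agent.ChevalleyTorus Cfsg.Agent.ChevBruhat
open scoped MatrixGroups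

variable {K : Type*} [Field K] [Fintype K] [CharP K 3]

/-! ### commutation in the unipotent group -/

theorem move_facts :
    chevG2.commTerms 7 8 = [(9, -2, 1, 1), (10, -3, 2, 1), (11, 3, 1, 2)] ∧
    chevG2.commTerms 7 9 = [(10, 3, 1, 1)] ∧ chevG2.commTerms 7 10 = [] ∧ chevG2.commTerms 7 11 = [] ∧
    chevG2.commTerms 6 8 = [] ∧ chevG2.commTerms 6 9 = [] ∧
    chevG2.commTerms 6 10 = [(11, 1, 1, 1)] ∧ chevG2.commTerms 6 11 = [] := by decide +kernel

theorem three_zero : (3 : K) = 0 := by exact_mod_cast CharP.cast_eq_zero K 3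

theorem pair_ok : ∀ r ∈ ([6, 7] : List ℕ), ∀ s ∈ ([8, 9, 10, 11] : List ℕ),
    r < chevG2.nroots ∧ s < chevG2.nroots ∧ s ≠ r ∧ s ≠ chevG2.neg r := by decide +kernel

theorem swap_formula {r s : ℕ} (hr : r ∈ ([6, 7] : List ℕ)) (hs : s ∈ ([8, 9, 10, 11] : List ℕ)) (a c : K) :
    xg c2 s c * xg c2 r a = xg c2 r a * xg c2 s c * wg c2 (chevG2.commWord K r s a c) := by
  obtain ⟨h1, h2, h3, h4⟩ := pair_ok r hr s hs
  exact comm_formula c2 h1 h2 h3 h4 a c

theorem tail_move7 (a c d e g : K) :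
    tail false c d e g * X false 7 a = X false 7 a * tail false c (d - a * c) e g := by
  obtain ⟨t8, t9, t10, t11, -⟩ := move_facts
  have h11 : X false 11 g * X false 7 a = X false 7 a * X false 11 g := by
    simp only [X, Bool.false_eq_true, ↓reduceIte]
    rw [swap_formula (by simp) (by simp), ChevalleyDatum.commWord, t11]
    simp [TwistedTools.wg_nil]
  have h10 : X false 10 e * X false 7 a = X false 7 a * X false 10 e := by
    simp only [X, Bool.false_eq_true, ↓reduceIte]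
    rw [swap_formula (by simp) (by simp), ChevalleyDatum.commWord, t10]
    simp [TwistedTools.wg_nil]
  have h9 : X false 9 d * X false 7 a = X false 7 a * X false 9 d := by
    simp only [X, Bool.false_eq_true, ↓reduceIte]
    rw [swap_formula (by simp) (by simp), ChevalleyDatum.commWord, t9]
    simp [TwistedTools.wg_cons, TwistedTools.wg_nil, three_zero]
  have h8 : X false 8 c * X false 7 a = X false 7 a * X false 8 c * X false 9 (-(a * c)) := by
    simp only [X, Bool.false_eq_true, ↓reduceIte]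
    rw [swap_formula (by simp) (by simp), ChevalleyDatum.commWord, t8]
    simp only [List.map_cons, List.map_nil, TwistedTools.wg_cons, TwistedTools.wg_nil, mul_one]
    push_cast
    simp only [three_zero, neg_zero, zero_mul, xg_zero, mul_one, pow_one]
    congr 2
    linear_combination (a * c) * three_zero (K := K)
  simp only [tail]
  calc X false 8 c * X false 9 d * X false 10 e * X false 11 g * X false 7 a
      = X false 8 c * X false 9 d * X false 10 e * (X false 11 g * X false 7 a) := by group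
    _ = X false 8 c * X false 9 d * (X false 10 e * X false 7 a) * X false 11 g := by rw [h11]; group
    _ = X false 8 c * (X false 9 d * X false 7 a) * X false 10 e * X false 11 g := by rw [h10]; group
    _ = (X false 8 c * X false 7 a) * X false 9 d * X false 10 e * X false 11 g := by rw [h9]; group
    _ = X false 7 a * X false 8 c * (X false 9 (-(a * c)) * X false 9 d) * X false 10 e * X false 11 g := by
        rw [h8]; group
    _ = _ := by rw [X_mul, neg_add_eq_sub]; group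

theorem tail_move6 (b c d e g : K) :
    tail false c d e g * X false 6 b = X false 6 b * tail false c d e (g - b * e) := by
  obtain ⟨-, -, -, -, t8, t9, t10, t11⟩ := move_facts
  have h11 : X false 11 g * X false 6 b = X false 6 b * X false 11 g := by
    simp only [X, Bool.false_eq_true, ↓reduceIte]
    rw [swap_formula (by simp) (by simp), ChevalleyDatum.commWord, t11]
    simp [TwistedTools.wg_nil]
  have h10 : X false 10 e * X false 6 b = X false 6 b * X false 10 e * X false 11 (-(b * e)) := by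
    simp only [X, Bool.false_eq_true, ↓reduceIte]
    rw [swap_formula (by simp) (by simp), ChevalleyDatum.commWord, t10]
    simp only [List.map_cons, List.map_nil, TwistedTools.wg_cons, TwistedTools.wg_nil, mul_one]
    push_cast
    simp only [one_mul, pow_one, neg_mul]
  have h9 : X false 9 d * X false 6 b = X false 6 b * X false 9 d := by
    simp only [X, Bool.false_eq_true, ↓reduceIte]
    rw [swap_formula (by simp) (by simp), ChevalleyDatum.commWord, t9]
    simp [TwistedTools.wg_nil]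
  have h8 : X false 8 c * X false 6 b = X false 6 b * X false 8 c := by
    simp only [X, Bool.false_eq_true, ↓reduceIte]
    rw [swap_formula (by simp) (by simp), ChevalleyDatum.commWord, t8]
    simp [TwistedTools.wg_nil]
  simp only [tail]
  calc X false 8 c * X false 9 d * X false 10 e * X false 11 g * X false 6 b
      = X false 8 c * X false 9 d * X false 10 e * (X false 11 g * X false 6 b) := by group
    _ = X false 8 c * X false 9 d * (X false 10 e * X false 6 b) * X false 11 g := by rw [h11]; group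
    _ = X false 8 c * (X false 9 d * X false 6 b) * X false 10 e * (X false 11 (-(b * e)) * X false 11 g) := by
        rw [h10]; group
    _ = (X false 8 c * X false 6 b) * X false 9 d * X false 10 e * X false 11 (g - b * e) := by
        rw [h9, X_mul, neg_add_eq_sub]; group
    _ = _ := by rw [h8]; group

theorem Uf_mul (a b c d e g a' b' c' d' e' g' : K) :
    Uf false a b c d e g * Uf false a' b' c' d' e' g' =
      Uf false (a + a') (b + b') (b * a' + c + c') (a' ^ 2 * b + (d - a' * c) + d')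
        (-(a' ^ 3 * b) + e + e') (-(a' ^ 3 * b ^ 2) + g - b' * (-(a' ^ 3 * b) + e) + g') := by
  simp only [Uf]
  calc X false 7 a * X false 6 b * tail false c d e g * (X false 7 a' * X false 6 b' * tail false c' d' e' g')
      = X false 7 a * X false 6 b * (tail false c d e g * X false 7 a') * X false 6 b' *
          tail false c' d' e' g' := by group
    _ = X false 7 a * (X false 6 b * X false 7 a') * (tail false c (d - a' * c) e g * X false 6 b') *
          tail false c' d' e' g' := by rw [tail_move7]; group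
    _ = (X false 7 a * X false 7 a') * X false 6 b *
          (tail false (b * a') (a' ^ 2 * b) (-(a' ^ 3 * b)) (-(a' ^ 3 * b ^ 2)) * X false 6 b') *
          (tail false c (d - a' * c) e (g - b' * e) * tail false c' d' e' g') := by
        rw [swap76, tail_move6 b' c]; group
    _ = X false 7 (a + a') * (X false 6 b * X false 6 b') *
          (tail false (b * a') (a' ^ 2 * b) (-(a' ^ 3 * b)) (-(a' ^ 3 * b ^ 2) - b' * (-(a' ^ 3 * b))) *
          (tail false c (d - a' * c) e (g - b' * e) * tail false c' d' e' g')) := by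
        rw [tail_move6, X_mul]; group
    _ = _ := by
        rw [X_mul, tail_mul, tail_mul]
        congr 2 <;> ring

/-! ### the torus element -/

/-- a diagonal matrix, as a product of elementary ones -/
noncomputable def dia (k : K) : SL(2, K) :=
  ChevalleySL2.upper k * ChevalleySL2.lower (-k⁻¹) * ChevalleySL2.upper k *
    (ChevalleySL2.upper (-1) * ChevalleySL2.lower 1 * ChevalleySL2.upper (-1))

theorem dia_coe {k : K} (hk : k ≠ 0) : (dia k : Matrix (Fin 2) (Fin 2) K) = !![k, 0; 0, k⁻¹] := by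
  simp only [dia, Matrix.SpecialLinearGroup.coe_mul, upper_coe, lower_coe, Matrix.mul_fin_two]
  ext i j
  fin_cases i <;> fin_cases j <;> simp [hk]

theorem dia_flip {k : K} (hk : k ≠ 0) :
    ChevalleySL2.wel * dia k * ChevalleySL2.wel⁻¹ = (dia k)⁻¹ := by
  apply eq_inv_of_mul_eq_one_left
  have : ChevalleySL2.wel * dia k = (dia k)⁻¹ * ChevalleySL2.wel := by
    rw [eq_inv_mul_iff_mul_eq]
    apply Subtype.ext
    simp only [Matrix.SpecialLinearGroup.coe_mul, dia_coe hk,
      show ((ChevalleySL2.wel : SL(2, K)) : Matrix (Fin 2) (Fin 2) K) = !![0, 1; -1, 0] from rfl, Matrix.mul_fin_two]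
    ext i j
    fin_cases i <;> fin_cases j <;> simp [hk]
  rw [this]; group

variable (C : Ctx K)

/-- the torus element -/
noncomputable def hel (k : K) : GL chevG2.Idx K := psi C.θ (dia k)

theorem hel_eq (k : K) : hel C k = hg c2 8 (C.θ k) * hg c2 10 k := by
  show phi8 C.θ (dia k) * phi10 (dia k) = _
  have e8 : phi8 C.θ (dia k) = hg c2 8 (C.θ k) := by
    have hu : ∀ t : K, phi8 C.θ (ChevalleySL2.upper t) = xg c2 8 (C.θ t) := fun t => by
      rw [phi8, MonoidHom.comp_apply, map_upper]; exact ChevalleySL2.phi_upper rels8 _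
    have hl : ∀ t : K, phi8 C.θ (ChevalleySL2.lower t) = xg c2 3 (C.θ t) := fun t => by
      rw [phi8, MonoidHom.comp_apply, map_lower]; exact ChevalleySL2.phi_lower rels8 _
    simp only [dia, map_mul, hu, hl, hg, ng, root_facts.1, map_neg, map_inv₀, map_one, inv_neg, inv_one, neg_neg]
  have e10 : phi10 (dia k) = hg c2 10 k := by
    have hu : ∀ t : K, phi10 (ChevalleySL2.upper t) = xg c2 10 t :=
      fun t => ChevalleySL2.phi_upper rels10 t
    have hl : ∀ t : K, phi10 (ChevalleySL2.lower t) = xg c2 1 t :=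
      fun t => ChevalleySL2.phi_lower rels10 t
    simp only [dia, map_mul, hu, hl, hg, ng, root_facts.2.1, inv_neg, inv_one, neg_neg]
  rw [e8, e10]

theorem hel_mem (k : K) : hel C k ∈ C.G1 := ReeSL2.range_le C.θ C.spec C.e_ne ⟨_, rfl⟩

theorem cn_hel {k : K} (hk : k ≠ 0) :
    (Ctx.cn : GL chevG2.Idx K) * hel C k * (Ctx.cn : GL chevG2.Idx K)⁻¹ = (hel C k)⁻¹ := by
  rw [C.cn_eq, hel, ← map_inv, ← map_inv, ← map_mul, ← map_mul, dia_flip hk]

theorem pairing_facts :
    [6, 7, 8, 9, 10, 11].map (fun r => (chevG2.pairing 8 r, chevG2.pairing 10 r)) =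
      [((3 : ℤ), (-1 : ℤ)), (-1, 1), (2, 0), (1, 1), (0, 2), (3, 1)] := by decide +kernel

theorem hel_conj_X {k : K} (hk : k ≠ 0) {r : ℕ} (hr : r < 12) (t : K) :
    hel C k * X false r t * (hel C k)⁻¹ =
      X false r (C.θ k ^ chevG2.pairing 8 r * k ^ chevG2.pairing 10 r * t) := by
  have hn := root_facts.2.2
  simp only [X, Bool.false_eq_true, ↓reduceIte]
  rw [mul_inv_eq_iff_eq_mul, hel_eq, mul_assoc, hg_conj_xg c2 (by omega) (by omega) hk, ← mul_assoc,
    hg_conj_xg c2 (by omega) (by omega) ((map_ne_zero C.θ).2 hk), mul_assoc, ← mul_assoc (C.θ k ^ _) _ t]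

/-! ### coordinates -/

theorem gen_mul (t u v t' u' v' : K) :
    gen C.θ false t u v * gen C.θ false t' u' v' =
      gen C.θ false (t + t') (u + u' - C.θ t' ^ 3 * t)
        (v + v' - C.θ t' ^ 3 * t ^ 2 + t' * C.θ t' ^ 3 * t - t' * u) := by
  have hm : gen C.θ false t u v * gen C.θ false t' u' v' ∈ chevG2.posUnipotent K :=
    mul_mem (Uf_mem_U _ _ _ _ _ _) (Uf_mem_U _ _ _ _ _ _)
  obtain ⟨T, A, B, h⟩ := C.fixed_U_eq_gen hm (C.le_fixed (mul_mem (C.gen_mem _ _ _ _) (C.gen_mem _ _ _ _)))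
  have h' := h
  rw [gen, gen, gen, Uf_mul] at h'
  obtain ⟨-, h2, -, -, h5, h6⟩ := Uf_inj h'
  rw [h, ← h2, ← h5, ← h6]
  congr 1 <;> ring

theorem hel_conj {k : K} (hk : k ≠ 0) (t u v : K) :
    hel C k * gen C.θ false t u v * (hel C k)⁻¹ =
      gen C.θ false (C.θ k ^ 3 * k⁻¹ * t) (k ^ 2 * u) (C.θ k ^ 3 * k * v) := by
  set h := hel C k with hh
  have hG : h * gen C.θ false t u v * h⁻¹ ∈ C.G1 :=
    mul_mem (mul_mem (hel_mem C k) (C.gen_mem _ _ _ _)) (inv_mem (hel_mem C k))
  have e : h * gen C.θ false t u v * h⁻¹ = Uf false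
      (C.θ k ^ (-1 : ℤ) * k ^ (1 : ℤ) * C.θ t) (C.θ k ^ (3 : ℤ) * k ^ (-1 : ℤ) * t)
      (C.θ k ^ (2 : ℤ) * k ^ (0 : ℤ) * (t * C.θ t + C.θ u))
      (C.θ k ^ (1 : ℤ) * k ^ (1 : ℤ) * (t * C.θ t ^ 2 + C.θ v))
      (C.θ k ^ (0 : ℤ) * k ^ (2 : ℤ) * u) (C.θ k ^ (3 : ℤ) * k ^ (1 : ℤ) * v) := by
    have hp := pairing_facts
    simp only [List.map_cons, List.map_nil, List.cons.injEq, Prod.mk.injEq, and_true] at hp
    obtain ⟨⟨a6, b6⟩, ⟨a7, b7⟩, ⟨a8, b8⟩, ⟨a9, b9⟩, ⟨a10, b10⟩, ⟨a11, b11⟩⟩ := hp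
    rw [gen, Uf, Uf, tail, tail, hh]
    simp only [← conj_mul, hel_conj_X C hk (show 7 < 12 by omega), hel_conj_X C hk (show 6 < 12 by omega),
      hel_conj_X C hk (show 8 < 12 by omega), hel_conj_X C hk (show 9 < 12 by omega),
      hel_conj_X C hk (show 10 < 12 by omega), hel_conj_X C hk (show 11 < 12 by omega),
      a6, b6, a7, b7, a8, b8, a9, b9, a10, b10, a11, b11]
  have hU : h * gen C.θ false t u v * h⁻¹ ∈ chevG2.posUnipotent K := e ▸ Uf_mem_U _ _ _ _ _ _
  obtain ⟨T, A, B, h1⟩ := C.fixed_U_eq_gen hU (C.le_fixed hG)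
  rw [h1]
  have h2 := h1
  rw [e, gen] at h2
  obtain ⟨-, e2, -, -, e5, e6⟩ := Uf_inj h2
  rw [← e2, ← e5, ← e6]
  congr 1 <;> simp [zpow_neg_one]

theorem neg_pos_table : ∀ r < 12, 6 ≤ r →
    Twist.wact' chevG2 Ctx.cl (chevG2.neg r) = r ∧ chevG2.IsPosRoot r ∧ chevG2.neg r < chevG2.nroots := by
  decide +kernel

theorem cn_conj_neg (t u v : K) :
    ∃ a b c, (Ctx.cn : GL chevG2.Idx K)⁻¹ * gen C.θ true t u v * (Ctx.cn : GL chevG2.Idx K) =
      gen C.θ false a b c := by
  obtain ⟨hN, hw⟩ := C.cn_toW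
  have hA := (C.tw.S.acts_toW ⟨_, hN⟩).inv C.tw.S
  rw [hw, show (C.tw.wd Ctx.cl)⁻¹ = C.tw.wd Ctx.cl from C.classes.cw_inv ()] at hA
  have key : ∀ r, r < 12 → 6 ≤ r → ∀ s : K,
      (Ctx.cn : GL chevG2.Idx K)⁻¹ * X true r s * ((Ctx.cn : GL chevG2.Idx K)⁻¹)⁻¹ ∈ chevG2.posUnipotent K := by
    intro r h1 h2 s
    obtain ⟨h3, h4, h5⟩ := neg_pos_table r h1 h2
    obtain ⟨c, -, hc, -⟩ := hA _ h5
    have := hc (-s)
    rw [C.tw.img_wd _ h5, h3] at this
    simp only [X, ↓reduceIte]
    have e : ∀ (r : ℕ) (x : K), C.tw.S.xg r x = xg c2 r x :=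
      fun r x => Units.ext (by rw [C.tw.S.coe_xg, coe_xg])
    rw [e, e] at this
    rw [this]
    exact ChevalleyUnipotent.xg_mem_U c2 (by rw [root_facts.2.2]; exact h2) h4.1 _
  have hU : (Ctx.cn : GL chevG2.Idx K)⁻¹ * gen C.θ true t u v * ((Ctx.cn : GL chevG2.Idx K)⁻¹)⁻¹ ∈
      chevG2.posUnipotent K := by
    rw [gen, Uf, tail]
    simp only [← conj_mul]
    exact mul_mem (mul_mem (key 7 (by omega) (by omega) _) (key 6 (by omega) (by omega) _))
      (mul_mem (mul_mem (mul_mem (key 8 (by omega) (by omega) _) (key 9 (by omega) (by omega) _))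
        (key 10 (by omega) (by omega) _)) (key 11 (by omega) (by omega) _))
  rw [inv_inv] at hU
  exact C.fixed_U_eq_gen hU (C.le_fixed (mul_mem (mul_mem (inv_mem C.cn_G1) (C.gen_mem _ _ _ _)) C.cn_G1))

/-! ### generation -/

/-- scalars: a set closed under addition and under `x`, where `k^2` is a power of `x` -/
theorem all_of_unit (k x : Kˣ) (hk : ∀ u : Kˣ, u ∈ Subgroup.zpowers k) (hx : ∃ j : ℤ, x ^ j = k ^ 2) {S : Set K}
    (h0 : (0 : K) ∈ S) (hadd : ∀ a ∈ S, ∀ b ∈ S, a + b ∈ S) (hmul : ∀ c ∈ S, (x : K) * c ∈ S)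
    {c₀ : K} (hc₀ : c₀ ∈ S) (hne : c₀ ≠ 0) (y : K) : y ∈ S := by
  obtain ⟨j, hj⟩ := hx
  obtain ⟨n, hn⟩ := (mem_powers_iff_mem_zpowers).2 (⟨j, hj⟩ : k ^ 2 ∈ Subgroup.zpowers x)
  have hn' : (x : K) ^ n = (k : K) ^ 2 := by simpa using congrArg Units.val hn
  have hpow : ∀ m : ℕ, ∀ c ∈ S, (x : K) ^ m * c ∈ S := by
    intro m
    induction m with
    | zero => intro c hc; rwa [pow_zero, one_mul]
    | succ m ih => intro c hc; rw [pow_succ, mul_assoc]; exact ih _ (hmul c hc)
  refine TwoGenCert98.scalar_all c2 k hk h0 hadd (fun a ha => ?_) (fun c hc => hn' ▸ hpow n c hc) hc₀ hne y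
  have : -a = a + a := by linear_combination (-a) * three_zero (K := K)
  rw [this]
  exact hadd a ha a ha

/-- The small Ree group over a field with more than three elements is generated by two elements. -/
theorem two_gen (h3 : 3 < Fintype.card K) :
    ∃ a b : ↥C.G1, Subgroup.closure ({a, b} : Set ↥C.G1) = ⊤ := by
  obtain ⟨k, hk⟩ := IsCyclic.exists_generator (α := Kˣ)
  have hk0 : (k : K) ≠ 0 := k.ne_zero
  have hord : 2 < orderOf k := by
    rw [orderOf_eq_card_of_forall_mem_zpowers hk, Nat.card_units, Nat.card_eq_fintype_card]; omega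
  have hk2 : k ^ 2 ≠ 1 := pow_ne_one_of_lt_orderOf two_ne_zero hord
  let F : Kˣ →* Kˣ := Units.map C.θ.toMonoidHom
  have hFv : ∀ a : Kˣ, ((F a : Kˣ) : K) = C.θ a := fun a => rfl
  have hFF : F (F k) ^ 3 = k := Units.ext (by rw [Units.val_pow_eq_pow_val, hFv, hFv]; exact C.sq _)
  have hFinj : Function.Injective F := fun a b h => Units.ext (C.θ.injective (congrArg Units.val h))
  have hl : ∀ u : Kˣ, u ∈ Subgroup.zpowers (F k) := by
    intro u
    obtain ⟨v, rfl⟩ := (Finite.injective_iff_surjective.1 hFinj) u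
    obtain ⟨j, rfl⟩ := hk v
    exact ⟨j, (map_zpow F k j).symm⟩
  set x6 : Kˣ := F k ^ 3 * k⁻¹ with hx6
  set x11 : Kˣ := F k ^ 3 * k with hx11
  have hp6 : ∃ j : ℤ, x6 ^ j = F k ^ 2 := by
    refine ⟨(C.e : ℤ) + 1, ?_⟩
    have he : x6 ^ (C.e : ℤ) = F x6 := Units.ext (by
      rw [zpow_natCast, Units.val_pow_eq_pow_val, hFv, C.spec])
    rw [zpow_add, zpow_one, he, hx6, map_mul, map_pow, map_inv, hFF]
    rw [show F k ^ 3 = F k * F k * F k by rw [pow_succ, pow_two], pow_two]
    rw [show k * (F k)⁻¹ * (F k * F k * F k * k⁻¹) = ((F k)⁻¹ * F k) * (F k * F k) * (k * k⁻¹) by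
      simp only [mul_assoc, mul_comm, mul_left_comm], inv_mul_cancel, mul_inv_cancel, one_mul, mul_one]
  have hp11 : ∃ j : ℤ, x11 ^ j = F k ^ 2 := by
    refine ⟨1 - (C.e : ℤ), ?_⟩
    have he : x11 ^ (C.e : ℤ) = F x11 := Units.ext (by
      rw [zpow_natCast, Units.val_pow_eq_pow_val, hFv, C.spec])
    rw [zpow_sub, zpow_one, he, hx11, map_mul, map_pow, hFF]
    rw [mul_inv_eq_iff_eq_mul, pow_succ]
    simp only [mul_assoc, mul_comm, mul_left_comm]
  have hx61 : x6 ≠ 1 := by
    intro h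
    obtain ⟨j, hj⟩ := hp6
    rw [h, one_zpow, ← map_pow] at hj
    exact hk2 (hFinj (hj.symm.trans (map_one F).symm))
  set h := hel C (k : K) with hh
  set x := gen C.θ false (1 : K) 0 0 with hx
  set n : GL chevG2.Idx K := Ctx.cn with hn
  have hxG : x ∈ C.G1 := C.gen_mem _ _ _ _
  refine ⟨⟨h, hel_mem C _⟩, ⟨x * n, mul_mem hxG C.cn_G1⟩, ?_⟩
  apply Subgroup.map_injective C.G1.subtype_injective
  rw [MonoidHom.map_closure, ← MonoidHom.range_eq_map, Subgroup.range_subtype, Set.image_pair]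
  set M := Subgroup.closure ({h, x * n} : Set (GL chevG2.Idx K)) with hM
  refine le_antisymm ((Subgroup.closure_le _).2 ?_) ?_
  · rintro z (rfl | rfl)
    exacts [hel_mem C _, mul_mem hxG C.cn_G1]
  show C.G1 ≤ M
  have hhM : h ∈ M := Subgroup.subset_closure (Or.inl rfl)
  have hbM : x * n ∈ M := Subgroup.subset_closure (Or.inr rfl)
  have hcl : ∀ t u v : K, gen C.θ false t u v ∈ M →
      gen C.θ false (C.θ k ^ 3 * (k : K)⁻¹ * t) ((k : K) ^ 2 * u) (C.θ k ^ 3 * k * v) ∈ M := by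
    intro t u v hm
    rw [← hel_conj C hk0]
    exact mul_mem (mul_mem hhM hm) (inv_mem hhM)
  have hone : gen C.θ false (0 : K) 0 0 = 1 := by
    simp [gen, Uf, tail, X_zero, map_zero]
  -- the first coordinate
  have hy : h * x * h⁻¹ * x⁻¹ ∈ M := by
    have e : h * ((x * n) * h * (x * n)⁻¹) = h * x * h⁻¹ * x⁻¹ := by
      calc h * ((x * n) * h * (x * n)⁻¹) = h * x * (n * h * n⁻¹) * x⁻¹ := by group
        _ = _ := by rw [hn, hh, cn_hel C hk0]
    exact e ▸ mul_mem hhM (mul_mem (mul_mem hbM hhM) (inv_mem hbM))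
  have hyU : h * x * h⁻¹ * x⁻¹ ∈ chevG2.posUnipotent K := by
    rw [hx, hh, hel_conj C hk0]
    exact mul_mem (Uf_mem_U _ _ _ _ _ _) (inv_mem (Uf_mem_U _ _ _ _ _ _))
  obtain ⟨t₀, u₀, v₀, hy'⟩ := C.fixed_U_eq_gen hyU (C.le_fixed (mul_mem (mul_mem (mul_mem (hel_mem C _) hxG)
    (inv_mem (hel_mem C _))) (inv_mem hxG)))
  have ht₀ : t₀ ≠ 0 := by
    intro h0
    have e := congrArg (· * x) hy'
    simp only [inv_mul_cancel_right] at e
    rw [hh, hx, hel_conj C hk0, h0, gen_mul, gen, gen] at e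
    have e2 := (Uf_inj e).2.1
    apply hx61
    apply Units.ext
    rw [hx6, Units.val_mul, Units.val_pow_eq_pow_val, hFv, Units.val_inv_eq_inv_val, Units.val_one]
    simpa using e2
  have hT : ∀ t : K, ∃ u v, gen C.θ false t u v ∈ M := by
    intro t
    refine all_of_unit (F k) x6 hl hp6 (S := {t | ∃ u v, gen C.θ false t u v ∈ M}) ?_ ?_ ?_
      ⟨u₀, v₀, hy' ▸ hy⟩ ht₀ t
    · exact ⟨0, 0, hone ▸ one_mem _⟩
    · rintro a ⟨u, v, ha⟩ b ⟨u', v', hb⟩
      have := mul_mem ha hb
      rw [gen_mul] at this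
      exact ⟨_, _, this⟩
    · rintro a ⟨u, v, ha⟩
      have := hcl _ _ _ ha
      rw [hx6, Units.val_mul, Units.val_pow_eq_pow_val, hFv, Units.val_inv_eq_inv_val]
      exact ⟨_, _, this⟩
  -- the second coordinate
  obtain ⟨u1, v1, h1⟩ := hT 1
  obtain ⟨uk, vk, hk'⟩ := hT (k : K)
  have hzU : ∀ {t u v t' u' v' : K}, gen C.θ false t u v ∈ M → gen C.θ false t' u' v' ∈ M →
      ∃ a b, gen C.θ false 0 a b ∈ M ∧ a = C.θ t ^ 3 * t' - C.θ t' ^ 3 * t := by
    intro t u v t' u' v' ha hb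
    have hq := mul_mem (mul_mem ha hb) (inv_mem (mul_mem hb ha))
    obtain ⟨T, A, B, hz⟩ := C.fixed_U_eq_gen
      (u := gen C.θ false t u v * gen C.θ false t' u' v' * (gen C.θ false t' u' v' * gen C.θ false t u v)⁻¹)
      (mul_mem (mul_mem (Uf_mem_U _ _ _ _ _ _) (Uf_mem_U _ _ _ _ _ _))
        (inv_mem (mul_mem (Uf_mem_U _ _ _ _ _ _) (Uf_mem_U _ _ _ _ _ _))))
      (C.le_fixed (mul_mem (mul_mem (C.gen_mem _ _ _ _) (C.gen_mem _ _ _ _))
        (inv_mem (mul_mem (C.gen_mem _ _ _ _) (C.gen_mem _ _ _ _)))))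
    rw [hz] at hq
    rw [mul_inv_eq_iff_eq_mul, gen_mul, gen_mul, gen_mul] at hz
    unfold ReeTwist17.gen at hz
    obtain ⟨-, e2, -, -, e5, -⟩ := Uf_inj hz
    have hT0 : T = 0 := by linear_combination -e2
    subst hT0
    exact ⟨A, B, hq, by linear_combination -e5⟩
  obtain ⟨a₀, b₀, ha₀, ha₀e⟩ := hzU h1 hk'
  have ha₀ne : a₀ ≠ 0 := by
    rw [ha₀e, map_one, one_pow, one_mul, mul_one, sub_ne_zero]
    intro e
    apply hk2
    have e1 : C.θ (k : K) ^ 3 = k := e.symm
    have e2 : C.θ (C.θ (k : K)) = C.θ (k : K) := frobenius_inj K 3 (by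
      simp only [frobenius_def]; rw [e1]; exact C.sq _)
    have e3 : C.θ (k : K) = k := C.θ.injective e2
    apply Units.ext
    rw [Units.val_pow_eq_pow_val, Units.val_one]
    rw [e3] at e1
    exact mul_right_cancel₀ hk0 (by rw [← pow_succ, one_mul]; exact e1)
  have hU : ∀ u : K, ∃ v, gen C.θ false 0 u v ∈ M := by
    intro u
    refine all_of_unit k (k ^ 2) hk ⟨1, zpow_one _⟩ (S := {u | ∃ v, gen C.θ false 0 u v ∈ M}) ?_ ?_ ?_
      ⟨b₀, ha₀⟩ ha₀ne u
    · exact ⟨0, hone ▸ one_mem _⟩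
    · rintro a ⟨v, ha⟩ b ⟨v', hb⟩
      have := mul_mem ha hb
      rw [gen_mul] at this
      simp only [map_zero, add_zero, mul_zero, sub_zero] at this
      exact ⟨_, this⟩
    · rintro a ⟨v, ha⟩
      have := hcl _ _ _ ha
      rw [mul_zero] at this
      rw [Units.val_pow_eq_pow_val]
      exact ⟨_, this⟩
  -- the third coordinate
  obtain ⟨w, hw⟩ := hU 1
  have hz3 : ∃ c, c ≠ 0 ∧ gen C.θ false 0 0 c ∈ M := by
    have hq := mul_mem (mul_mem h1 hw) (inv_mem (mul_mem hw h1))
    obtain ⟨T, A, B, hz⟩ := C.fixed_U_eq_gen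
      (u := gen C.θ false 1 u1 v1 * gen C.θ false 0 1 w * (gen C.θ false 0 1 w * gen C.θ false 1 u1 v1)⁻¹)
      (mul_mem (mul_mem (Uf_mem_U _ _ _ _ _ _) (Uf_mem_U _ _ _ _ _ _))
        (inv_mem (mul_mem (Uf_mem_U _ _ _ _ _ _) (Uf_mem_U _ _ _ _ _ _))))
      (C.le_fixed (mul_mem (mul_mem (C.gen_mem _ _ _ _) (C.gen_mem _ _ _ _))
        (inv_mem (mul_mem (C.gen_mem _ _ _ _) (C.gen_mem _ _ _ _)))))
    rw [hz] at hq
    rw [mul_inv_eq_iff_eq_mul, gen_mul, gen_mul, gen_mul] at hz
    unfold ReeTwist17.gen at hz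
    obtain ⟨-, e2, -, -, e5, e6⟩ := Uf_inj hz
    simp only [map_zero, map_one, zero_pow (show (3 : ℕ) ≠ 0 by norm_num), one_pow, mul_zero, zero_mul, sub_zero,
      add_zero, zero_add, one_mul, mul_one] at e2 e5 e6
    have hT0 : T = 0 := by linear_combination -e2
    subst hT0
    have hA0 : A = 0 := by linear_combination -e5
    subst hA0
    refine ⟨B, fun hB => ?_, hq⟩
    rw [hB] at e6
    exact one_ne_zero (α := K) (by linear_combination e6)
  obtain ⟨c, hc0, hc⟩ := hz3
  have hV : ∀ v : K, gen C.θ false 0 0 v ∈ M := by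
    intro v
    refine all_of_unit (F k) x11 hl hp11 (S := {v | gen C.θ false 0 0 v ∈ M}) ?_ ?_ ?_ hc hc0 v
    · show gen C.θ false 0 0 0 ∈ M
      rw [hone]; exact one_mem _
    · intro a ha b hb
      have := mul_mem (show gen C.θ false 0 0 a ∈ M from ha) (show gen C.θ false 0 0 b ∈ M from hb)
      rw [gen_mul] at this
      simpa using this
    · intro a ha
      have := hcl _ _ _ ha
      rw [mul_zero, mul_zero] at this
      show gen C.θ false 0 0 _ ∈ M
      rw [hx11, Units.val_mul, Units.val_pow_eq_pow_val, hFv]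
      exact this
  have hall : ∀ t u v : K, gen C.θ false t u v ∈ M := by
    intro t u v
    obtain ⟨a, b, hab⟩ := hT t
    obtain ⟨b', hb'⟩ := hU (u - a)
    have h2 := mul_mem hb' hab
    rw [gen_mul] at h2
    simp only [zero_add, mul_zero, sub_zero, sub_add_cancel, zero_pow (show (2 : ℕ) ≠ 0 by norm_num), add_zero] at h2
    set V := b' + b - t * (u - a)
    have h3 := mul_mem (hV (v - V)) h2
    rw [gen_mul] at h3
    simpa using h3
  have hnM : n ∈ M := (Subgroup.mul_mem_cancel_left _ (hall 1 0 0)).1 hbM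
  refine TwistedTools.gen_le c2 ?_
  rintro w ⟨t, u, v, rfl | rfl⟩
  · have := C.gen_eq false t u v
    simp only [Bool.false_eq_true, ↓reduceIte] at this
    exact this ▸ hall t u v
  · have := C.gen_eq true t u v
    simp only [↓reduceIte] at this
    rw [← this]
    obtain ⟨a, b, c, he⟩ := cn_conj_neg C t u v
    have hm := mul_mem (mul_mem hnM (hall a b c)) (inv_mem hnM)
    rw [← he] at hm
    simpa [mul_assoc, hn] using hm

end Cfsg.Agent.ReeTwoGen59
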