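import Mathlib
import Cfsg.Agent.Lib.PSLSimple

/-!
Generation of `SL (m+1)` over a finite field by regular unipotent elements: rank-one elements
`T v f = 1 + v fᵀ`, commutator and conjugation rules, and the theorem that the upper bidiagonal
unipotent, one top-right transvection and a lower bidiagonal unipotent generate.
-/

set_option autoImplicit false

namespace Cfsg.Agent.RegUnipGen

open Matrix
open scoped MatrixGroups

variable {ι : Type*} [Fintype ι] [DecidableEq ι] {F : Type*} [Field F]

/-- `1 + v fᵀ` -/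
def T (v f : ι → F) : Matrix ι ι F := 1 + vecMulVec v f

/-- the matrix `M` is the matrix of an element of `H` -/
def InH (H : Subgroup (Matrix.SpecialLinearGroup ι F)) (M : Matrix ι ι F) : Prop :=
  ∃ h ∈ H, (h : Matrix ι ι F) = M

variable {H : Subgroup (Matrix.SpecialLinearGroup ι F)}

theorem InH.mul {A B : Matrix ι ι F} (hA : InH H A) (hB : InH H B) : InH H (A * B) := by
  obtain ⟨a, ha, rfl⟩ := hA
  obtain ⟨b, hb, rfl⟩ := hB
  exact ⟨a * b, H.mul_mem ha hb, Matrix.SpecialLinearGroup.coe_mul a b⟩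

theorem InH.one : InH H (1 : Matrix ι ι F) := ⟨1, H.one_mem, rfl⟩

theorem coe_mul_inv (g : Matrix.SpecialLinearGroup ι F) : (g : Matrix ι ι F) * (g⁻¹ : Matrix.SpecialLinearGroup ι F) = 1 := by
  rw [← Matrix.SpecialLinearGroup.coe_mul, mul_inv_cancel, Matrix.SpecialLinearGroup.coe_one]

theorem coe_inv_mul (g : Matrix.SpecialLinearGroup ι F) : ((g⁻¹ : Matrix.SpecialLinearGroup ι F) : Matrix ι ι F) * g = 1 := by
  rw [← Matrix.SpecialLinearGroup.coe_mul, inv_mul_cancel, Matrix.SpecialLinearGroup.coe_one]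

theorem InH.of_inv {A B : Matrix ι ι F} (hA : InH H A) (hBA : B * A = 1) : InH H B := by
  obtain ⟨a, ha, rfl⟩ := hA
  refine ⟨a⁻¹, H.inv_mem ha, ?_⟩
  calc ((a⁻¹ : Matrix.SpecialLinearGroup ι F) : Matrix ι ι F) = (B * a) * (a⁻¹ : Matrix.SpecialLinearGroup ι F) := by
        rw [hBA, Matrix.one_mul]
    _ = B := by rw [Matrix.mul_assoc, coe_mul_inv, Matrix.mul_one]

theorem T_mul_T (v f v' f' : ι → F) :
    T v f * T v' f' = 1 + vecMulVec v f + vecMulVec v' f' + (f ⬝ᵥ v') • vecMulVec v f' := by
  simp only [T, Matrix.add_mul, Matrix.mul_add, Matrix.one_mul, Matrix.mul_one, vecMulVec_mul_vecMulVec]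
  rw [vecMulVec_smul]
  abel

theorem T_zero (f : ι → F) : T (0 : ι → F) f = 1 := by simp [T]

theorem T_add {v v' f : ι → F} (h : f ⬝ᵥ v' = 0) : T v f * T v' f = T (v + v') f := by
  rw [T_mul_T, h, zero_smul, add_zero, T, add_vecMulVec, add_assoc]

theorem conj_T (A B : Matrix ι ι F) (h : A * B = 1) (v f : ι → F) :
    A * T v f * B = T (A *ᵥ v) (f ᵥ* B) := by
  rw [T, T, Matrix.mul_add, Matrix.add_mul, Matrix.mul_one, h, mul_vecMulVec, vecMulVec_mul]

theorem InH.conj {v f : ι → F} (hT : InH H (T v f)) {g : Matrix.SpecialLinearGroup ι F} (hg : g ∈ H) :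
    InH H (T ((g : Matrix ι ι F) *ᵥ v) (f ᵥ* ((g⁻¹ : Matrix.SpecialLinearGroup ι F) : Matrix ι ι F))) := by
  rw [← conj_T _ _ (coe_mul_inv g)]
  exact (InH.mul ⟨g, hg, rfl⟩ hT).mul ⟨g⁻¹, H.inv_mem hg, rfl⟩

theorem InH.neg {v f : ι → F} (hT : InH H (T v f)) (h : f ⬝ᵥ v = 0) : InH H (T (-v) f) := by
  refine hT.of_inv ?_
  rw [T_add (by exact h), neg_add_cancel, T_zero]

theorem InH.add {v v' f : ι → F} (hT : InH H (T v f)) (hT' : InH H (T v' f)) (h : f ⬝ᵥ v' = 0) :
    InH H (T (v + v') f) := by
  rw [← T_add h]; exact hT.mul hT'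

theorem InH.comm {a f c g : ι → F} (h1 : InH H (T a f)) (h2 : InH H (T c g))
    (hfa : f ⬝ᵥ a = 0) (hgc : g ⬝ᵥ c = 0) (hga : g ⬝ᵥ a = 0) :
    InH H (T ((f ⬝ᵥ c) • a) g) := by
  have h := ((h1.mul h2).mul (h1.neg hfa)).mul (h2.neg hgc)
  have e1 : T a f * T c g * T (-a) f = T (c + (f ⬝ᵥ c) • a) g := by
    have hinv : T a f * T (-a) f = 1 := by
      rw [T_add (by rw [dotProduct_neg, hfa, neg_zero]), add_neg_cancel, T_zero]
    rw [conj_T _ _ hinv]
    congr 1
    · rw [T, Matrix.add_mulVec, Matrix.one_mulVec, vecMulVec_mulVec, op_smul_eq_smul]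
    · rw [T, Matrix.vecMul_add, Matrix.vecMul_one, vecMul_vecMulVec, dotProduct_neg, hga, neg_zero,
        zero_smul, add_zero]
  rw [e1, T_add (by rw [dotProduct_neg, hgc, neg_zero])] at h
  simpa using h

/-- all transvections with axis `f` lie in `H` -/
def Axis (H : Subgroup (Matrix.SpecialLinearGroup ι F)) (f : ι → F) : Prop :=
  ∀ v, f ⬝ᵥ v = 0 → InH H (T v f)

theorem Axis.smul {f : ι → F} (h : Axis H f) {k : F} (hk : k ≠ 0) : Axis H (k • f) := by
  intro v hv
  rw [smul_dotProduct, smul_eq_zero, or_iff_right hk] at hv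
  have := h (k • v) (by rw [dotProduct_smul, hv, smul_zero])
  rwa [T, smul_vecMulVec, ← vecMulVec_smul] at this

theorem Axis.mul {f : ι → F} (h : Axis H f) {g : Matrix.SpecialLinearGroup ι F} (hg : g ∈ H) :
    Axis H (f ᵥ* (g : Matrix ι ι F)) := by
  intro v hv
  have hv' : f ⬝ᵥ ((g : Matrix ι ι F) *ᵥ v) = 0 := by rw [dotProduct_mulVec]; exact hv
  have := (h _ hv').conj (H.inv_mem hg)
  rwa [inv_inv, Matrix.mulVec_mulVec, coe_inv_mul, Matrix.one_mulVec] at this

theorem eq_top_of_axis [Nontrivial ι] (h : ∀ j : ι, Axis H (Pi.single j 1)) : H = ⊤ := by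
  refine PSLSimple.eq_top_of_transvection_mem H fun i j hij c => ?_
  have h1 := h j (Pi.single i c) (by simp [Pi.single_eq_of_ne hij, Pi.single_eq_of_ne hij.symm])
  have e : T (Pi.single i c) (Pi.single j (1 : F)) = (Matrix.SpecialLinearGroup.transvection hij c).1 := by
    rw [Matrix.SpecialLinearGroup.transvection_coe, T]
    congr 1
    ext a b
    simp only [vecMulVec_apply, Matrix.single_apply]
    by_cases ha : a = i <;> by_cases hb : b = j <;> simp_all [Pi.single_eq_of_ne, eq_comm]
  rw [e] at h1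
  obtain ⟨g, hg, hg'⟩ := h1
  rwa [← Subtype.ext hg']

section Bidiag

variable {m : ℕ}

/-- shift matrix -/
def shiftUp (m : ℕ) (F : Type*) [Field F] : Matrix (Fin (m + 1)) (Fin (m + 1)) F :=
  Matrix.of fun r c => if (c : ℕ) = r + 1 then 1 else 0

/-- upper bidiagonal unipotent -/
def upper (m : ℕ) (F : Type*) [Field F] : Matrix (Fin (m + 1)) (Fin (m + 1)) F := 1 + shiftUp m F

/-- lower bidiagonal unipotent -/
def lower (ε : Fin (m + 1) → F) : Matrix (Fin (m + 1)) (Fin (m + 1)) F :=
  Matrix.of fun r c => if r = c then 1 else if (r : ℕ) = c + 1 then ε c else 0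

theorem shiftUp_pow (k : ℕ) (r c : Fin (m + 1)) :
    (shiftUp m F ^ k) r c = if (c : ℕ) = r + k then 1 else 0 := by
  induction k generalizing c with
  | zero => simp [Matrix.one_apply, Fin.ext_iff, eq_comm]
  | succ k ih =>
    rw [pow_succ, Matrix.mul_apply]
    simp only [ih]
    simp only [shiftUp, Matrix.of_apply]
    by_cases h : (c : ℕ) = r + (k + 1)
    · rw [if_pos h, Finset.sum_eq_single (⟨r + k, by omega⟩ : Fin (m + 1))]
      · simp only [if_pos trivial, one_mul]
        rw [if_pos (by omega)]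
      · intro b _ hb
        have : (b : ℕ) ≠ r + k := fun hh => hb (Fin.ext hh)
        simp [this]
      · simp
    · rw [if_neg h]
      refine Finset.sum_eq_zero fun b _ => ?_
      by_cases hb : (b : ℕ) = r + k
      · rw [if_neg (by omega : ¬ (c : ℕ) = b + 1), mul_zero]
      · rw [if_neg hb, zero_mul]

theorem upper_det : (upper m F).det = 1 := by
  rw [Matrix.det_of_upperTriangular]
  · exact Finset.prod_eq_one fun i _ => by simp [upper, shiftUp]
  · intro r c (h : c < r)
    rw [Fin.lt_def] at h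
    simp [upper, shiftUp, show r ≠ c from fun hh => by omega]
    omega

theorem upper_nilpotent : IsNilpotent (upper m F - 1) := by
  refine ⟨m + 1, ?_⟩
  ext r c
  rw [upper, add_sub_cancel_left, shiftUp_pow, Matrix.zero_apply, if_neg (by omega)]

theorem upper_regular : (upper m F - 1) ^ m ≠ 0 := by
  intro h
  have := congrFun (congrFun h 0) (Fin.last m)
  simp [upper, shiftUp_pow] at this

theorem upper_col_zero : upper m F *ᵥ Pi.single 0 1 = Pi.single 0 1 := by
  ext r
  rw [Matrix.mulVec_single_one]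
  simp [upper, shiftUp, Matrix.one_apply, Pi.single_apply]

theorem upper_col_succ (l : Fin m) :
    upper m F *ᵥ Pi.single l.succ 1 = Pi.single l.succ 1 + Pi.single l.castSucc 1 := by
  ext r
  rw [Matrix.mulVec_single_one]
  simp [upper, shiftUp, Matrix.one_apply, Pi.single_apply, Fin.ext_iff, eq_comm (a := (l : ℕ))]

theorem upper_row_last :
    (Pi.single (Fin.last m) 1 : Fin (m + 1) → F) ᵥ* upper m F = Pi.single (Fin.last m) 1 := by
  ext c
  rw [Matrix.single_one_vecMul]
  simp [upper, shiftUp, Matrix.one_apply, Pi.single_apply, eq_comm]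
  omega

theorem lower_col (ε : Fin (m + 1) → F) (l : Fin m) :
    lower ε *ᵥ Pi.single l.castSucc 1 = Pi.single l.castSucc 1 + ε l.castSucc • Pi.single l.succ 1 := by
  ext r
  rw [Matrix.mulVec_single_one]
  simp only [lower, Matrix.col_apply, Matrix.of_apply, Pi.add_apply, Pi.smul_apply, Pi.single_apply,
    Fin.ext_iff, Fin.val_castSucc, Fin.val_succ, smul_eq_mul]
  split_ifs <;> first | omega | simp

theorem lower_row (ε : Fin (m + 1) → F) (l : Fin m) :
    (Pi.single l.succ 1 : Fin (m + 1) → F) ᵥ* lower ε =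
      Pi.single l.succ 1 + ε l.castSucc • Pi.single l.castSucc 1 := by
  ext c
  rw [Matrix.single_one_vecMul]
  simp only [lower, Matrix.row_apply, Matrix.of_apply, Pi.add_apply, Pi.smul_apply, Pi.single_apply,
    Fin.ext_iff, Fin.val_castSucc, Fin.val_succ, smul_eq_mul]
  split_ifs <;> first | omega | (simp; try (congr 1; exact Fin.ext (by simp; omega)))

variable [Finite F]

/-- The generation theorem. -/
theorem exists_generate (hm : 2 ≤ m) (u w : Matrix.SpecialLinearGroup (Fin (m + 1)) F)
    (hu : (u : Matrix (Fin (m + 1)) (Fin (m + 1)) F) = upper m F) (ε : Fin (m + 1) → F)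
    (hw : (w : Matrix (Fin (m + 1)) (Fin (m + 1)) F) = lower ε)
    (hε : ∀ l : Fin m, ε l.castSucc = 1 ∨ ε l.castSucc = -1) (hε0 : ε 0 = 1) :
    ∃ b : F, ∀ H : Subgroup (Matrix.SpecialLinearGroup (Fin (m + 1)) F), u ∈ H → w ∈ H →
      InH H (T (b • Pi.single 0 1) (Pi.single (Fin.last m) 1)) → H = ⊤ := by
  haveI : Nontrivial (Fin (m + 1)) := Fin.nontrivial_iff_two_le.mpr (by omega)
  set en : Fin (m + 1) → F := Pi.single (Fin.last m) 1 with hen
  set f : Fin (m + 1) → F := en ᵥ* ((w⁻¹ : Matrix.SpecialLinearGroup (Fin (m + 1)) F) : Matrix (Fin (m + 1)) (Fin (m + 1)) F)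
    with hf
  have hfw : f ᵥ* lower ε = en := by
    rw [hf, Matrix.vecMul_vecMul, ← hw, coe_inv_mul, Matrix.vecMul_one]
  have hfw' : ∀ l : Fin m, f l.castSucc + ε l.castSucc * f l.succ = 0 := by
    intro l
    have h1 : f ⬝ᵥ (lower ε *ᵥ Pi.single l.castSucc 1) = en ⬝ᵥ Pi.single l.castSucc 1 := by
      rw [Matrix.dotProduct_mulVec, hfw]
    rw [lower_col] at h1
    simpa [hen, dotProduct_add, dotProduct_smul, l.castSucc_lt_last.ne, l.castSucc_lt_last.ne'] using h1
  have hlast : f (Fin.last m) = 1 := by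
    have h1 : f ⬝ᵥ (lower ε *ᵥ Pi.single (Fin.last m) 1) = en ⬝ᵥ Pi.single (Fin.last m) 1 := by
      rw [Matrix.dotProduct_mulVec, hfw]
    have h2 : lower ε *ᵥ Pi.single (Fin.last m) 1 = Pi.single (Fin.last m) 1 := by
      ext r
      rw [Matrix.mulVec_single_one]
      have hr : ¬ (r : ℕ) = m + 1 := by omega
      simp [lower, Pi.single_apply, Fin.ext_iff, hr]
    rw [h2] at h1
    simpa [hen] using h1
  have hε' : ∀ l : Fin m, ε l.castSucc ≠ 0 := fun l => by rcases hε l with h | h <;> simp [h]
  have hf0 : f 0 ≠ 0 := by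
    suffices H : ∀ i : Fin (m + 1), f i ≠ 0 from H 0
    intro i
    induction i using Fin.reverseInduction with
    | last => simp [hlast]
    | cast l ih =>
      intro h
      have := hfw' l
      rw [h, zero_add, mul_eq_zero] at this
      exact this.elim (hε' l) ih
  obtain ⟨b0, hb0⟩ := IsCyclic.exists_generator (α := Fˣ)
  refine ⟨(f 0)⁻¹ * b0, fun H hu' hw' hT => eq_top_of_axis ?_⟩
  -- column groups
  let P : F → (Fin (m + 1) → F) → Prop := fun t v => InH H (T (t • v) en)
  have hPadd : ∀ t v v', en ⬝ᵥ v' = 0 → P t v → P t v' → P t (v + v') := fun t v v' h h1 h2 => by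
    show InH H (T (t • (v + v')) en)
    rw [smul_add]
    exact InH.add h1 h2 (by rw [dotProduct_smul, h, smul_zero])
  have hPneg : ∀ t v, en ⬝ᵥ v = 0 → P t v → P t (-v) := fun t v h h1 => by
    show InH H (T (t • -v) en)
    rw [smul_neg]
    exact InH.neg h1 (by rw [dotProduct_smul, h, smul_zero])
  have hPu : ∀ t v, P t v → P t (upper m F *ᵥ v) := fun t v h => by
    have h1 := InH.conj h hu'
    rw [hu, Matrix.mulVec_smul] at h1
    have e : en ᵥ* ((u⁻¹ : Matrix.SpecialLinearGroup (Fin (m + 1)) F) : Matrix (Fin (m + 1)) (Fin (m + 1)) F) = en := by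
      have e1 : (en ᵥ* upper m F) ᵥ* ((u⁻¹ : Matrix.SpecialLinearGroup (Fin (m + 1)) F) :
          Matrix (Fin (m + 1)) (Fin (m + 1)) F) = en := by
        rw [← hu, Matrix.vecMul_vecMul, coe_mul_inv, Matrix.vecMul_one]
      have e2 : en ᵥ* upper m F = en := upper_row_last
      rwa [e2] at e1
    rwa [e] at h1
  have hen0 : ∀ l : Fin m, en ⬝ᵥ Pi.single l.castSucc 1 = 0 := fun l => by
    simp [hen, l.castSucc_lt_last.ne, l.castSucc_lt_last.ne']
  let C : ℕ → ℕ → Prop := fun i k => ∀ l : Fin m, (l : ℕ) < i →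
    P ((f 0)⁻¹ * (b0 : F) ^ k) (Pi.single l.castSucc 1)
  have step : ∀ i k j, 1 ≤ i → i < m → C i k → C 1 j → C (i + 1) (k + j) := by
    intro i k j hi him hk hj
    set t := (f 0)⁻¹ * (b0 : F) ^ (k + j) with ht
    set z : Fin m := ⟨0, by omega⟩
    have hz : z.castSucc = (0 : Fin (m + 1)) := Fin.ext rfl
    have hWl : ∀ l : Fin m, (l : ℕ) < i → P t (lower ε *ᵥ Pi.single l.castSucc 1) := by
      intro l hl
      have h1 := InH.conj (hk l hl) hw'
      rw [hw, Matrix.mulVec_smul, ← hf] at h1
      have hne : (l.succ : Fin (m + 1)) ≠ Fin.last m := fun h => by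
        have := congrArg Fin.val h; simp at this; omega
      have h2 := InH.comm h1 (hj z (by simp [z])) ?_ ?_ ?_
      · show InH H (T (t • lower ε *ᵥ Pi.single l.castSucc 1) en)
        convert h2 using 2
        rw [dotProduct_smul, dotProduct_single_one, hz, smul_smul, smul_eq_mul, ht, pow_add]
        congr 1
        field_simp
      · rw [dotProduct_smul, Matrix.dotProduct_mulVec, hfw, hen0, smul_zero]
      · rw [dotProduct_smul, hen0, smul_zero]
      · rw [dotProduct_smul, lower_col, dotProduct_add, hen0, zero_add, dotProduct_smul]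
        simp [hen, hne, hne.symm]
    have h0 : P t (Pi.single z.castSucc 1) := by
      have h1 := hWl z (by simp [z]; omega)
      rw [lower_col, hz, hε0, one_smul] at h1
      have h2 := hPu t _ h1
      rw [Matrix.mulVec_add, upper_col_zero, upper_col_succ, hz] at h2
      have hz1 : en ⬝ᵥ (Pi.single 0 1 + Pi.single z.succ 1) = 0 := by
        have h0' := hen0 z
        rw [hz] at h0'
        have hne : (z.succ : Fin (m + 1)) ≠ Fin.last m := fun h => by
          have := congrArg Fin.val h; simp [z] at this; omega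
        rw [dotProduct_add, h0', zero_add]
        simp [hen, hne, hne.symm]
      have h3 := hPadd t _ _ (by rw [dotProduct_neg, hz1, neg_zero]) h2 (hPneg t _ hz1 h1)
      rw [hz]
      convert h3 using 1
      abel
    intro l hl
    obtain ⟨v, hv⟩ : ∃ v : ℕ, (l : ℕ) = v := ⟨_, rfl⟩
    induction v generalizing l with
    | zero => rwa [show l = z from Fin.ext hv]
    | succ v ih =>
      set p : Fin m := ⟨v, by omega⟩
      have hp := ih p (by simp [p]; omega) rfl
      have h1 := hWl p (by simp [p]; omega)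
      rw [lower_col] at h1
      have hlp : p.succ = l.castSucc := Fin.ext (by simp [p, hv])
      rw [hlp] at h1
      have h3 := hPadd t _ _ (by rw [dotProduct_neg, hen0, neg_zero]) h1 (hPneg t _ (hen0 p) hp)
      rcases hε p with he | he
      · rw [he, one_smul] at h3
        convert h3 using 1
        abel
      · rw [he, neg_one_smul] at h3
        have h4 := hPneg t _ (by rw [dotProduct_add, dotProduct_add, dotProduct_neg, dotProduct_neg, hen0, hen0]; simp) h3
        convert h4 using 1
        abel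
  have hC1 : ∀ k, 1 ≤ k → C 1 k := by
    intro k hk
    induction k, hk using Nat.le_induction with
    | base =>
      intro l hl
      have : l.castSucc = (0 : Fin (m + 1)) := Fin.ext (by simp; omega)
      show InH H (T _ en)
      rwa [this, pow_one]
    | succ k hk ih =>
      intro l hl
      exact step 1 k 1 le_rfl (by omega) ih (by
        intro l hl
        have : l.castSucc = (0 : Fin (m + 1)) := Fin.ext (by simp; omega)
        show InH H (T _ en)
        rwa [this, pow_one]) l (by omega)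
  have hCall : ∀ i, 1 ≤ i → i ≤ m → ∀ k, i ≤ k → C i k := by
    intro i hi
    induction i, hi using Nat.le_induction with
    | base => exact fun _ k hk => hC1 k hk
    | succ i hi ih =>
      intro him k hk
      have := step i (k - 1) 1 hi (by omega) (ih (by omega) (k - 1) (by omega)) (hC1 1 le_rfl)
      rwa [Nat.sub_add_cancel (by omega)] at this
  have hfull : ∀ (l : Fin m) (t : F), InH H (T (t • Pi.single l.castSucc 1) en) := by
    intro l t
    rcases eq_or_ne t 0 with rfl | ht
    · rw [zero_smul, T_zero]; exact InH.one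
    obtain ⟨k0, hk0⟩ := (mem_powers_iff_mem_zpowers).mpr (hb0 (Units.mk0 (f 0 * t) (mul_ne_zero hf0 ht)))
    have hk : (b0 : F) ^ (k0 + m * orderOf b0) = f 0 * t := by
      have hk1 : b0 ^ k0 = Units.mk0 (f 0 * t) (mul_ne_zero hf0 ht) := hk0
      rw [← Units.val_pow_eq_pow_val, pow_add, mul_comm m, pow_mul, pow_orderOf_eq_one, one_pow, mul_one, hk1]
      rfl
    have := hCall m (by omega) le_rfl (k0 + m * orderOf b0)
      (le_add_left (Nat.le_mul_of_pos_right m (orderOf_pos b0))) l l.2
    show InH H (T _ en)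
    rwa [hk, inv_mul_cancel_left₀ hf0] at this
  have haxis : Axis H en := by
    intro v hv
    have hvl : v (Fin.last m) = 0 := by simpa [hen] using hv
    have hsum : ∀ s : Finset (Fin m), InH H (T (∑ l ∈ s, v l.castSucc • Pi.single l.castSucc 1) en) := by
      intro s
      induction s using Finset.induction_on with
      | empty => rw [Finset.sum_empty, T_zero]; exact InH.one
      | insert a s ha ih =>
        rw [Finset.sum_insert ha]
        refine (hfull a _).add ih ?_
        simp [dotProduct_sum, dotProduct_smul, hen0]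
    convert hsum Finset.univ using 2
    ext r
    induction r using Fin.lastCases with
    | last => simp [hvl, Finset.sum_apply, Fin.castSucc_lt_last]
    | cast r => simp [Finset.sum_apply, Pi.single_apply]
  intro j
  induction j using Fin.reverseInduction with
  | last => exact haxis
  | cast l ih =>
    have h1 := ih.mul hw'
    rw [hw, lower_row] at h1
    have hne : l.succ ≠ l.castSucc := fun h => by have := congrArg Fin.val h; simp at this
    obtain ⟨M, hM, hM'⟩ := ih ((-(ε l.castSucc)⁻¹) • Pi.single l.castSucc 1) (by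
      simp [dotProduct_smul, hne, hne.symm])
    have h2 := h1.mul hM
    rw [hM', T, Matrix.vecMul_add, Matrix.vecMul_one, vecMul_vecMulVec] at h2
    have h3 := h2.smul (inv_ne_zero (hε' l))
    convert h3 using 1
    simp [dotProduct_smul, hne, hne.symm, hε' l]

end Bidiag

end Cfsg.Agent.RegUnipGen
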