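import Mathlib

/-!
Nilpotent endomorphisms with a single Jordan block.
-/

set_option autoImplicit false

namespace Cfsg.Agent.RegularNilpotent

variable {K : Type*} [Field K]

section End

variable {V : Type*} [AddCommGroup V] [Module K V] [FiniteDimensional K V] {n : ℕ}
  {N : Module.End K V}

theorem finrank_ker_pow (hn : Module.finrank K V = n) (hN : N ^ n = 0)
    (hr : Module.finrank K (LinearMap.range N) = n - 1) :
    ∀ k, k ≤ n → Module.finrank K (LinearMap.ker (N ^ k)) = k := by
  have h1 : Module.finrank K (LinearMap.ker N) ≤ 1 := by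
    have := LinearMap.finrank_range_add_finrank_ker N
    omega
  have hstep : ∀ k, Module.finrank K (LinearMap.ker (N ^ (k + 1)))
      ≤ Module.finrank K (LinearMap.ker (N ^ k)) + 1 := by
    intro k
    let f : LinearMap.ker (N ^ (k + 1)) →ₗ[K] LinearMap.ker (N ^ k) :=
      LinearMap.codRestrict _ (N.comp (LinearMap.ker (N ^ (k + 1))).subtype) (fun x => by
        have h := LinearMap.mem_ker.1 x.2
        have e : (N ^ (k + 1)) (x : V) = (N ^ k) (N (x : V)) :=
          DFunLike.congr_fun (pow_succ N k) (x : V)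
        replace h := e ▸ h
        exact LinearMap.mem_ker.2 h)
    have h2 : Module.finrank K (LinearMap.ker f) ≤ Module.finrank K (LinearMap.ker N) := by
      refine LinearMap.finrank_le_finrank_of_injective
        (f := LinearMap.codRestrict (LinearMap.ker N)
          ((LinearMap.ker (N ^ (k + 1))).subtype.comp (LinearMap.ker f).subtype) (fun x => by
            have := congrArg Subtype.val (LinearMap.mem_ker.1 x.2)
            exact this)) ?_
      intro x y hxy
      have h := congrArg (fun z : LinearMap.ker N => (z : V)) hxy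
      exact Subtype.ext (Subtype.ext h)
    have h3 := LinearMap.finrank_range_add_finrank_ker f
    have h4 := Submodule.finrank_le (LinearMap.range f)
    omega
  have hup : ∀ k j, Module.finrank K (LinearMap.ker (N ^ (k + j)))
      ≤ Module.finrank K (LinearMap.ker (N ^ k)) + j := by
    intro k j
    induction j with
    | zero => simp
    | succ j ih => have := hstep (k + j); rw [← add_assoc]; omega
  intro k hk
  have ha := hup 0 k
  have hb := hup k (n - k)
  have h0 : Module.finrank K (LinearMap.ker (N ^ 0)) = 0 := by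
    simp [pow_zero, Module.End.one_eq_id, LinearMap.ker_id]
  rw [zero_add, h0] at ha
  rw [Nat.add_sub_cancel' hk, hN, LinearMap.ker_zero, finrank_top, hn] at hb
  omega

/-- The invariant subspaces are the kernels of the powers. -/
theorem invariant_eq_ker (hn : Module.finrank K V = n) (hN : N ^ n = 0)
    (hr : Module.finrank K (LinearMap.range N) = n - 1) (W : Submodule K V)
    (hW : ∀ w ∈ W, N w ∈ W) : W = LinearMap.ker (N ^ Module.finrank K W) := by
  refine Submodule.eq_of_le_of_finrank_eq ?_ ?_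
  · intro w hw
    let M : Module.End K W := N.restrict hW
    have hpow : ∀ (k : ℕ) (x : W), ((M ^ k) x : V) = (N ^ k) (x : V) := by
      intro k
      induction k with
      | zero => simp
      | succ k ih => intro x; rw [pow_succ, pow_succ, Module.End.mul_apply, ih]; rfl
    have hM : (⟨w, hw⟩ : W) ∈ LinearMap.ker (M ^ n) := by
      rw [LinearMap.mem_ker]
      exact Subtype.ext ((hpow n _).trans (by rw [hN]; simp))
    have := congrArg Subtype.val
      (LinearMap.mem_ker.1 (Module.End.ker_pow_le_ker_pow_finrank M n hM))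
    rw [hpow] at this
    exact LinearMap.mem_ker.2 this
  · exact (finrank_ker_pow hn hN hr _ (hn ▸ Submodule.finrank_le W)).symm

/-- The linear map sending coefficients to a polynomial in `N`. -/
def poly (n : ℕ) (N : Module.End K V) : (Fin n → K) →ₗ[K] Module.End K V :=
  Fintype.linearCombination K (fun i : Fin n => N ^ (i : ℕ))

theorem poly_apply (c : Fin n → K) : poly n N c = ∑ i, c i • N ^ (i : ℕ) := by
  simp [poly, Fintype.linearCombination_apply]

theorem commute_poly (c : Fin n → K) : Commute N (poly n N c) := by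
  rw [poly_apply]
  exact Commute.sum_right _ _ _ fun i _ => (Commute.self_pow N i).smul_right (c i)

theorem pow_pred_ne_zero (hn : Module.finrank K V = n) (hN : N ^ n = 0)
    (hr : Module.finrank K (LinearMap.range N) = n - 1) (hpos : 0 < n) : N ^ (n - 1) ≠ 0 := by
  intro h
  have := finrank_ker_pow hn hN hr (n - 1) (Nat.sub_le _ _)
  rw [h, LinearMap.ker_zero, finrank_top, hn] at this
  omega

theorem poly_apply_injective (hN : N ^ n = 0) (v : V) (hv : (N ^ (n - 1)) v ≠ 0) (c : Fin n → K)
    (hc : poly n N c v = 0) : c = 0 := by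
  classical
  by_contra hne
  have hex : (Finset.univ.filter fun i : Fin n => c i ≠ 0).Nonempty := by
    obtain ⟨i, hi⟩ := Function.ne_iff.1 hne
    exact ⟨i, by simpa using hi⟩
  obtain ⟨j, hj, hmin⟩ : ∃ j, c j ≠ 0 ∧ ∀ i, c i ≠ 0 → j ≤ i := by
    refine ⟨Finset.min' _ hex, (Finset.mem_filter.1 (Finset.min'_mem _ hex)).2, fun i hi => ?_⟩
    exact Finset.min'_le _ _ (by simpa using hi)
  have h := congrArg (N ^ (n - 1 - (j : ℕ))) hc
  rw [map_zero, poly_apply, LinearMap.sum_apply, map_sum, Finset.sum_eq_single j] at h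
  · simp only [LinearMap.smul_apply, map_smul, ← Module.End.mul_apply, ← pow_add] at h
    rw [show n - 1 - (j : ℕ) + j = n - 1 by omega] at h
    exact (smul_eq_zero.1 h).elim hj hv
  · intro i _ hij
    by_cases hci : c i = 0
    · simp [hci]
    · have : (j : ℕ) < i := lt_of_le_of_ne (hmin i hci) (fun hh => hij (Fin.ext hh.symm))
      simp only [LinearMap.smul_apply, map_smul, ← Module.End.mul_apply, ← pow_add]
      rw [pow_eq_zero_of_le (by omega) hN]
      simp
  · simp

theorem exists_cyclic (hn : Module.finrank K V = n) (hN : N ^ n = 0)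
    (hr : Module.finrank K (LinearMap.range N) = n - 1) :
    ∃ v : V, Function.Bijective (fun c : Fin n → K => poly n N c v) := by
  rcases Nat.eq_zero_or_pos n with rfl | hpos
  · haveI : Subsingleton V := Module.finrank_zero_iff.1 hn
    exact ⟨0, fun a b _ => Subsingleton.elim _ _, fun x => ⟨0, Subsingleton.elim _ _⟩⟩
  obtain ⟨v, hv⟩ : ∃ v, (N ^ (n - 1)) v ≠ 0 := by
    by_contra h
    push Not at h
    exact pow_pred_ne_zero hn hN hr hpos (LinearMap.ext h)
  let f : (Fin n → K) →ₗ[K] V := (LinearMap.applyₗ v).comp (poly n N)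
  have hinj : Function.Injective f :=
    LinearMap.ker_eq_bot.1 ((Submodule.eq_bot_iff _).2 fun c hc => poly_apply_injective hN v hv c hc)
  exact ⟨v, hinj, (LinearMap.injective_iff_surjective_of_finrank_eq_finrank
    (by rw [Module.finrank_fin_fun, hn]) (f := f)).1 hinj⟩

theorem poly_injective (hn : Module.finrank K V = n) (hN : N ^ n = 0)
    (hr : Module.finrank K (LinearMap.range N) = n - 1) : Function.Injective (poly n N) := by
  obtain ⟨v, hv⟩ := exists_cyclic hn hN hr
  exact fun a b h => hv.1 (by simp [h])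

/-- Only polynomials in `N` commute with `N`. -/
theorem eq_poly_of_commute (hn : Module.finrank K V = n) (hN : N ^ n = 0)
    (hr : Module.finrank K (LinearMap.range N) = n - 1) (T : Module.End K V) (hT : Commute N T) :
    ∃ c, T = poly n N c := by
  obtain ⟨v, hinj, hsurj⟩ := exists_cyclic hn hN hr
  obtain ⟨c, hc⟩ := hsurj (T v)
  refine ⟨c, LinearMap.ext fun w => ?_⟩
  obtain ⟨d, rfl⟩ := hsurj w
  have hTd : Commute (poly n N d) T := by
    rw [poly_apply]
    exact Commute.sum_left _ _ _ fun i _ => (hT.pow_left i).smul_left (d i)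
  have hdc : Commute (poly n N d) (poly n N c) := by
    rw [poly_apply (c := d)]
    exact Commute.sum_left _ _ _ fun i _ => ((commute_poly c).pow_left i).smul_left (d i)
  show (T * poly n N d) v = (poly n N c * poly n N d) v
  rw [← hTd.eq, ← hdc.eq, Module.End.mul_apply, Module.End.mul_apply]
  exact congrArg _ hc.symm

theorem isUnit_poly_iff (hn : Module.finrank K V = n) (hN : N ^ n = 0)
    (hr : Module.finrank K (LinearMap.range N) = n - 1) (hpos : 0 < n) (c : Fin n → K) :
    IsUnit (poly n N c) ↔ c ⟨0, hpos⟩ ≠ 0 := by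
  obtain ⟨d, hd⟩ : ∃ d : Module.End K V, poly n N c = algebraMap K _ (c ⟨0, hpos⟩) + N * d ∧ Commute N d := by
    refine ⟨∑ i ∈ Finset.univ.erase (⟨0, hpos⟩ : Fin n), c i • N ^ ((i : ℕ) - 1), ?_, ?_⟩
    · rw [poly_apply, ← Finset.add_sum_erase _ _ (Finset.mem_univ (⟨0, hpos⟩ : Fin n)),
        Algebra.algebraMap_eq_smul_one, Finset.mul_sum]
      simp only [pow_zero]
      congr 1
      refine Finset.sum_congr rfl fun i hi => ?_
      have : (i : ℕ) ≠ 0 := fun h => (Finset.ne_of_mem_erase hi) (Fin.ext h)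
      rw [mul_smul_comm, ← pow_succ', Nat.sub_add_cancel (Nat.pos_of_ne_zero this)]
    · exact Commute.sum_right _ _ _ fun i _ => (Commute.self_pow N _).smul_right (c i)
  have hnil : IsNilpotent (N * d) := ⟨n, by rw [hd.2.mul_pow, hN, zero_mul]⟩
  rw [hd.1]
  constructor
  · intro hu h0
    rw [h0, map_zero, zero_add] at hu
    haveI : Nontrivial V := Module.nontrivial_of_finrank_pos (R := K) (by omega)
    exact hnil.not_isUnit hu
  · intro h0
    exact hnil.isUnit_add_left_of_commute ((Ne.isUnit h0).map _) (Algebra.commutes _ _).symm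

end End

section Matrix

variable {ι : Type*} [Fintype ι] [DecidableEq ι] {n : ℕ} {M : Matrix ι ι K}

theorem toEnd_hyps (hM : M ^ n = 0) (hr : M.rank = n - 1) :
    (Matrix.toLinAlgEquiv' M) ^ n = 0 ∧
      Module.finrank K (LinearMap.range (Matrix.toLinAlgEquiv' M)) = n - 1 :=
  ⟨by rw [← map_pow, hM, map_zero], hr⟩

theorem toEnd_pow (k : ℕ) : (Matrix.toLinAlgEquiv' M) ^ k = Matrix.mulVecLin (M ^ k) := by
  rw [← map_pow]
  rfl

/-- The invariant subspaces of a regular nilpotent matrix. -/
theorem matrix_invariant_eq_ker (hn : Fintype.card ι = n) (hM : M ^ n = 0) (hr : M.rank = n - 1)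
    (W : Submodule K (ι → K)) (hW : ∀ v ∈ W, M.mulVec v ∈ W) :
    W = LinearMap.ker (Matrix.mulVecLin (M ^ Module.finrank K W)) := by
  rw [← toEnd_pow]
  exact invariant_eq_ker (by rw [Module.finrank_pi, hn]) (toEnd_hyps hM hr).1 (toEnd_hyps hM hr).2 W hW

/-- A polynomial in `M` given by coefficients. -/
def mpoly (n : ℕ) (M : Matrix ι ι K) : (Fin n → K) →ₗ[K] Matrix ι ι K :=
  Fintype.linearCombination K (fun i : Fin n => M ^ (i : ℕ))

theorem mpoly_apply (c : Fin n → K) : mpoly n M c = ∑ i, c i • M ^ (i : ℕ) := by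
  simp [mpoly, Fintype.linearCombination_apply]

theorem toEnd_mpoly (c : Fin n → K) :
    Matrix.toLinAlgEquiv' (mpoly n M c) = poly n (Matrix.toLinAlgEquiv' M) c := by
  simp [mpoly_apply, poly_apply, map_sum, map_smul, map_pow]

theorem commute_mpoly (c : Fin n → K) : Commute M (mpoly n M c) := by
  rw [mpoly_apply]
  exact Commute.sum_right _ _ _ fun i _ => (Commute.self_pow M i).smul_right (c i)

theorem mpoly_injective (hn : Fintype.card ι = n) (hM : M ^ n = 0) (hr : M.rank = n - 1) :
    Function.Injective (mpoly n M) := by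
  intro a b h
  apply poly_injective (by rw [Module.finrank_pi, hn]) (toEnd_hyps hM hr).1 (toEnd_hyps hM hr).2
  rw [← toEnd_mpoly, ← toEnd_mpoly, h]

theorem eq_mpoly_of_commute (hn : Fintype.card ι = n) (hM : M ^ n = 0) (hr : M.rank = n - 1)
    (X : Matrix ι ι K) (hX : Commute M X) : ∃ c, X = mpoly n M c := by
  obtain ⟨c, hc⟩ := eq_poly_of_commute (by rw [Module.finrank_pi, hn]) (toEnd_hyps hM hr).1
    (toEnd_hyps hM hr).2 (Matrix.toLinAlgEquiv' X) (hX.map _)
  exact ⟨c, Matrix.toLinAlgEquiv'.injective (hc.trans (toEnd_mpoly c).symm)⟩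

theorem isUnit_mpoly_iff (hn : Fintype.card ι = n) (hM : M ^ n = 0) (hr : M.rank = n - 1)
    (hpos : 0 < n) (c : Fin n → K) : IsUnit (mpoly n M c) ↔ c ⟨0, hpos⟩ ≠ 0 := by
  rw [← isUnit_poly_iff (by rw [Module.finrank_pi, hn]) (toEnd_hyps hM hr).1 (toEnd_hyps hM hr).2,
    ← toEnd_mpoly]
  exact (MulEquiv.isUnit_map (Matrix.toLinAlgEquiv' (R := K) (n := ι))).symm

/-- Regular nilpotent matrices of the same size are similar. -/
theorem exists_conj (hn : Fintype.card ι = n) (hM : M ^ n = 0) (hr : M.rank = n - 1)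
    {M' : Matrix ι ι K} (hM' : M' ^ n = 0) (hr' : M'.rank = n - 1) :
    ∃ P : Matrix ι ι K, IsUnit P ∧ P * M = M' * P := by
  have hn' : Module.finrank K (ι → K) = n := by rw [Module.finrank_pi, hn]
  obtain ⟨v, hv⟩ := exists_cyclic hn' (toEnd_hyps hM hr).1 (toEnd_hyps hM hr).2
  obtain ⟨w, hw⟩ := exists_cyclic hn' (toEnd_hyps hM' hr').1 (toEnd_hyps hM' hr').2
  let ev : (ι → K) → ∀ _ : Matrix ι ι K, (Fin n → K) →ₗ[K] (ι → K) :=
    fun z A => (LinearMap.applyₗ z).comp (poly n (Matrix.toLinAlgEquiv' A))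
  let e := (LinearEquiv.ofBijective (ev v M) hv).symm ≪≫ₗ LinearEquiv.ofBijective (ev w M') hw
  have he : ∀ c, e (poly n (Matrix.toLinAlgEquiv' M) c v) = poly n (Matrix.toLinAlgEquiv' M') c w := by
    intro c
    show (LinearEquiv.ofBijective (ev w M') hw) ((LinearEquiv.ofBijective (ev v M) hv).symm (ev v M c)) = _
    rw [← LinearEquiv.ofBijective_apply (ev v M) (hf := hv) c, LinearEquiv.symm_apply_apply]
    rfl
  refine ⟨Matrix.toLinAlgEquiv'.symm (e : (ι → K) →ₗ[K] (ι → K)), ?_, ?_⟩
  · rw [MulEquiv.isUnit_map]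
    exact (Module.End.isUnit_iff _).2 e.bijective
  · apply Matrix.toLinAlgEquiv'.injective
    rw [map_mul, map_mul, AlgEquiv.apply_symm_apply]
    refine LinearMap.ext fun x => ?_
    obtain ⟨c, rfl⟩ := hv.2 x
    simp only [Module.End.mul_apply, LinearEquiv.coe_coe, he]
    have hpow : ∀ j : ℕ, e ((Matrix.toLinAlgEquiv' M ^ j) v) = (Matrix.toLinAlgEquiv' M' ^ j) w := by
      intro j
      by_cases hj : j < n
      · have := he (Pi.single ⟨j, hj⟩ 1)
        simpa [poly_apply, Pi.single_apply, ite_smul, LinearMap.sum_apply] using this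
      · rw [pow_eq_zero_of_le (not_lt.1 hj) (toEnd_hyps hM hr).1,
          pow_eq_zero_of_le (not_lt.1 hj) (toEnd_hyps hM' hr').1]
        simp
    simp only [poly_apply, LinearMap.sum_apply, LinearMap.smul_apply, map_sum, map_smul,
      ← Module.End.mul_apply, ← pow_succ', hpow]

theorem det_mpoly (hn : Fintype.card ι = n) (hM : M ^ n = 0) (hpos : 0 < n)
    (c : Fin n → K) : (mpoly n M c).det = c ⟨0, hpos⟩ ^ n := by
  obtain ⟨d, hd, hcom⟩ : ∃ d : Matrix ι ι K,
      mpoly n M c = Matrix.scalar ι (c ⟨0, hpos⟩) + M * d ∧ Commute M d := by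
    refine ⟨∑ i ∈ Finset.univ.erase (⟨0, hpos⟩ : Fin n), c i • M ^ ((i : ℕ) - 1), ?_, ?_⟩
    · rw [mpoly_apply, ← Finset.add_sum_erase _ _ (Finset.mem_univ (⟨0, hpos⟩ : Fin n)),
        Finset.mul_sum]
      congr 1
      · simp [Matrix.smul_one_eq_diagonal, Matrix.scalar]
      refine Finset.sum_congr rfl fun i hi => ?_
      have : (i : ℕ) ≠ 0 := fun h => (Finset.ne_of_mem_erase hi) (Fin.ext h)
      rw [mul_smul_comm, ← pow_succ', Nat.sub_add_cancel (Nat.pos_of_ne_zero this)]
    · exact Commute.sum_right _ _ _ fun i _ => (Commute.self_pow M _).smul_right (c i)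
  have hnil : IsNilpotent (-(M * d)) := ⟨n, by rw [neg_pow, hcom.mul_pow, hM, zero_mul, mul_zero]⟩
  have hcp := sub_eq_zero.1 (Matrix.isNilpotent_charpoly_sub_pow_of_isNilpotent hnil).eq_zero
  rw [hd, ← sub_neg_eq_add, ← Matrix.eval_charpoly, hcp]
  simp [hn]

end Matrix

end Cfsg.Agent.RegularNilpotent
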