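import Mathlib
import Cfsg.Agent.Lib.RegularNilpotent

/-!
Regular nilpotent matrices: a recognition criterion and the centraliser in the general linear group.
-/

set_option autoImplicit false

namespace Cfsg.Agent.RegularCentralizer

open Cfsg.Agent.RegularNilpotent

variable {K : Type*} [Field K] {ι : Type*} [Fintype ι] [DecidableEq ι] {n : ℕ}

/-- A matrix which shifts an ordering of the basis by one step is regular nilpotent. -/
theorem regular_of_order (f : ι ≃ Fin n) (M : Matrix ι ι K)
    (h0 : ∀ i j, (f j : ℕ) ≠ f i + 1 → M i j = 0) (h1 : ∀ i j, (f j : ℕ) = f i + 1 → M i j ≠ 0) :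
    M ^ n = 0 ∧ M.rank = n - 1 := by
  have hpow : ∀ k, ∀ i j, (f j : ℕ) ≠ f i + k → (M ^ k) i j = 0 := by
    intro k
    induction k with
    | zero =>
      intro i j h
      rw [pow_zero, Matrix.one_apply_ne]
      rintro rfl
      exact h rfl
    | succ k ih =>
      intro i j h
      rw [pow_succ, Matrix.mul_apply]
      refine Finset.sum_eq_zero fun l _ => ?_
      by_cases hl : (f l : ℕ) = f i + k
      · rw [h0 l j (by omega), mul_zero]
      · rw [ih i l hl, zero_mul]
  have hn : M ^ n = 0 := by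
    ext i j
    rw [hpow n i j (by omega)]
    rfl
  refine ⟨hn, ?_⟩
  rcases Nat.eq_zero_or_pos n with rfl | hpos
  · haveI : IsEmpty ι := f.isEmpty
    have := Matrix.rank_le_card_width M
    simpa using this
  let T := Matrix.mulVecLin M
  have hker : ∀ v ∈ LinearMap.ker T, ∀ j, (f j : ℕ) ≠ 0 → v j = 0 := by
    intro v hv j hj
    let i := f.symm ⟨(f j : ℕ) - 1, by omega⟩
    have hi : (f j : ℕ) = f i + 1 := by simp [i]; omega
    have h := congrFun (LinearMap.mem_ker.1 hv) i
    simp only [T, Matrix.mulVecLin_apply, Matrix.mulVec, dotProduct, Pi.zero_apply] at h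
    rw [Finset.sum_eq_single j] at h
    · exact (mul_eq_zero.1 h).resolve_left (h1 i j hi)
    · intro l _ hl
      rw [h0 i l, zero_mul]
      intro hc
      exact hl (f.injective (Fin.ext (by omega)))
    · simp
  let j₀ := f.symm ⟨0, hpos⟩
  have hle : Module.finrank K (LinearMap.ker T) ≤ 1 := by
    have hinj : Function.Injective ((LinearMap.proj j₀ : (ι → K) →ₗ[K] K).comp (LinearMap.ker T).subtype) := by
      rw [← LinearMap.ker_eq_bot, Submodule.eq_bot_iff]
      intro v hv
      apply Subtype.ext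
      funext j
      by_cases hj : (f j : ℕ) = 0
      · have : j = j₀ := f.injective (Fin.ext (by simp [j₀, hj]))
        subst this
        exact hv
      · exact hker v.1 v.2 j hj
    exact (LinearMap.finrank_le_finrank_of_injective hinj).trans (le_of_eq (Module.finrank_self K))
  have hge : 1 ≤ Module.finrank K (LinearMap.ker T) := by
    refine Submodule.one_le_finrank_iff.2 fun hb => ?_
    have hinj : Function.Injective T := LinearMap.ker_eq_bot.1 hb
    have h : Function.Injective (fun v => (M ^ n).mulVec v) := by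
      have : ∀ k, Function.Injective (fun v => (M ^ k).mulVec v) := by
        intro k
        induction k with
        | zero => intro a b hab; simpa using hab
        | succ k ih =>
          intro a b hab
          simp only [pow_succ, ← Matrix.mulVec_mulVec] at hab
          exact hinj (ih hab)
      exact this n
    rw [hn] at h
    have h2 := congrFun (h (a₁ := Pi.single j₀ 1) (a₂ := 0) (by simp only [Matrix.zero_mulVec])) j₀
    simp at h2
  have := LinearMap.finrank_range_add_finrank_ker T
  rw [Module.finrank_pi, Fintype.card_congr f, Fintype.card_fin] at this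
  show Module.finrank K (LinearMap.range T) = n - 1
  omega

/-- Multiplying by a commuting unit preserves regular nilpotence. -/
theorem regular_mul_unit {M W : Matrix ι ι K} (hW : IsUnit W) (hc : Commute M W) (hM : M ^ n = 0)
    (hr : M.rank = n - 1) : (M * W) ^ n = 0 ∧ (M * W).rank = n - 1 :=
  ⟨by rw [hc.mul_pow, hM, zero_mul],
    by rw [Matrix.rank_mul_eq_left_of_isUnit_det W M ((Matrix.isUnit_iff_isUnit_det W).1 hW), hr]⟩

/-- The centraliser of a matrix in the general linear group. -/
def cent (M : Matrix ι ι K) : Subgroup (GL ι K) where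
  carrier := {g | Commute M (g : Matrix ι ι K)}
  mul_mem' ha hb := Commute.mul_right ha hb
  one_mem' := Commute.one_right M
  inv_mem' ha := Commute.units_inv_right ha

theorem mem_cent {M : Matrix ι ι K} {g : GL ι K} : g ∈ cent M ↔ Commute M (g : Matrix ι ι K) := Iff.rfl

variable {M : Matrix ι ι K}

theorem cent_comm (hn : Fintype.card ι = n) (hM : M ^ n = 0) (hr : M.rank = n - 1)
    {g h : GL ι K} (hg : g ∈ cent M) (hh : h ∈ cent M) : g * h = h * g := by
  obtain ⟨c, hc⟩ := eq_mpoly_of_commute hn hM hr _ hh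
  apply Units.ext
  show (g : Matrix ι ι K) * (h : Matrix ι ι K) = _
  rw [Units.val_mul, hc, mpoly_apply]
  exact (Commute.sum_right _ _ _ fun (i : Fin n) _ => ((mem_cent.1 hg).symm.pow_right (i : ℕ)).smul_right (c i)).eq

/-- Elements of the centraliser correspond to coefficient vectors with nonzero constant term. -/
noncomputable def centEquiv (hn : Fintype.card ι = n) (hM : M ^ n = 0) (hr : M.rank = n - 1)
    (hpos : 0 < n) : {c : Fin n → K // c ⟨0, hpos⟩ ≠ 0} ≃ cent M :=
  Equiv.ofBijective
    (fun c => ⟨((isUnit_mpoly_iff hn hM hr hpos c.1).2 c.2).unit, commute_mpoly c.1⟩)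
    ⟨fun a b h => Subtype.ext (mpoly_injective hn hM hr
        (congrArg (fun x : cent M => ((x : GL ι K) : Matrix ι ι K)) h)),
      fun ⟨x, hx⟩ => by
        obtain ⟨c, hc⟩ := eq_mpoly_of_commute hn hM hr _ hx
        exact ⟨⟨c, (isUnit_mpoly_iff hn hM hr hpos c).1 (hc ▸ x.isUnit)⟩, Subtype.ext (Units.ext hc.symm)⟩⟩

theorem card_units_coeff [Fintype K] (hpos : 0 < n) :
    Nat.card {c : Fin n → K // c ⟨0, hpos⟩ ≠ 0} = (Fintype.card K - 1) * Fintype.card K ^ (n - 1) := by
  classical
  have h : Nat.card {c : Fin n → K // c ⟨0, hpos⟩ ≠ 0}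
      = Nat.card ({x : K // x ≠ 0} × ({j : Fin n // j ≠ ⟨0, hpos⟩} → K)) :=
    Nat.card_congr (((Equiv.funSplitAt (⟨0, hpos⟩ : Fin n) K).subtypeEquiv (q := fun p => p.1 ≠ 0)
      fun c => Iff.rfl).trans (Equiv.prodSubtypeFstEquivSubtypeProd (p := fun x : K => x ≠ 0)))
  rw [h, Nat.card_prod, Nat.card_fun]
  simp [Nat.card_eq_fintype_card, Fintype.card_subtype_compl]

theorem card_cent [Fintype K] (hn : Fintype.card ι = n) (hM : M ^ n = 0) (hr : M.rank = n - 1)
    (hpos : 0 < n) : Nat.card (cent M) = (Fintype.card K - 1) * Fintype.card K ^ (n - 1) := by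
  rw [← Nat.card_congr (centEquiv hn hM hr hpos), card_units_coeff hpos]

theorem mpoly_mul_pow_pred (hM : M ^ n = 0) (hpos : 0 < n) (c : Fin n → K) :
    mpoly n M c * M ^ (n - 1) = c ⟨0, hpos⟩ • M ^ (n - 1) := by
  rw [mpoly_apply, Finset.sum_mul, Finset.sum_eq_single (⟨0, hpos⟩ : Fin n)]
  · simp
  · intro b _ hb
    have : (b : ℕ) ≠ 0 := fun h => hb (Fin.ext h)
    rw [smul_mul_assoc, ← pow_add, pow_eq_zero_of_le (by omega) hM, smul_zero]
  · simp

theorem exists_lead (hn : Fintype.card ι = n) (hM : M ^ n = 0) (hr : M.rank = n - 1) (hpos : 0 < n) :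
    ∃ χ : cent M →* Kˣ, ∀ x : cent M, ((x : GL ι K) : Matrix ι ι K) * M ^ (n - 1) = (χ x : K) • M ^ (n - 1) := by
  have hne : M ^ (n - 1) ≠ 0 := by
    intro h
    apply RegularNilpotent.pow_pred_ne_zero (N := Matrix.toLinAlgEquiv' M) (by rw [Module.finrank_pi, hn])
      (toEnd_hyps hM hr).1 (toEnd_hyps hM hr).2 hpos
    rw [← map_pow, h, map_zero]
  have hex : ∀ x : cent M, ∃ a : Kˣ, ((x : GL ι K) : Matrix ι ι K) * M ^ (n - 1) = (a : K) • M ^ (n - 1) := by
    intro x
    obtain ⟨c, rfl⟩ := (centEquiv hn hM hr hpos).surjective x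
    exact ⟨Units.mk0 _ c.2, mpoly_mul_pow_pred hM hpos c.1⟩
  choose a ha using hex
  refine ⟨MonoidHom.mk' a fun x y => Units.ext (smul_left_injective K hne ?_), ha⟩
  show (a (x * y) : K) • M ^ (n - 1) = ((a x * a y : Kˣ) : K) • M ^ (n - 1)
  rw [← ha, Subgroup.coe_mul, Units.val_mul, Units.val_mul, mul_assoc, ha, mul_smul_comm, ha, smul_smul,
    mul_comm (a y : K)]

theorem lead_mpoly (hn : Fintype.card ι = n) (hM : M ^ n = 0) (hr : M.rank = n - 1) (hpos : 0 < n)
    (χ : cent M →* Kˣ) (hχ : ∀ x : cent M, ((x : GL ι K) : Matrix ι ι K) * M ^ (n - 1) = (χ x : K) • M ^ (n - 1))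
    (x : cent M) (c : Fin n → K) (hx : ((x : GL ι K) : Matrix ι ι K) = mpoly n M c) :
    (χ x : K) = c ⟨0, hpos⟩ := by
  have hne : M ^ (n - 1) ≠ 0 := by
    intro h
    apply RegularNilpotent.pow_pred_ne_zero (N := Matrix.toLinAlgEquiv' M) (by rw [Module.finrank_pi, hn])
      (toEnd_hyps hM hr).1 (toEnd_hyps hM hr).2 hpos
    rw [← map_pow, h, map_zero]
  refine smul_left_injective K hne ?_
  show (χ x : K) • M ^ (n - 1) = c ⟨0, hpos⟩ • M ^ (n - 1)
  rw [← hχ, hx, mpoly_mul_pow_pred hM hpos]

end Cfsg.Agent.RegularCentralizer
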