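import Mathlib

/-!
Kernel-checkable certificates for small subgroups of `GL (2, ZMod p)` acting regularly on the
non-zero vectors.
-/

namespace Cfsg.Agent.RegularMatrixGroup

open Matrix

/-- A two by two matrix with natural entries, row by row. -/
abbrev Tup : Type := ℕ × ℕ × ℕ × ℕ

/-- The matrix over `ZMod p` of a tuple. -/
def toMat (p : ℕ) (x : Tup) : Matrix (Fin 2) (Fin 2) (ZMod p) :=
  !![(x.1 : ZMod p), (x.2.1 : ZMod p); (x.2.2.1 : ZMod p), (x.2.2.2 : ZMod p)]

/-- Product of tuples modulo `p`. -/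
def mulT (p : ℕ) : Tup → Tup → Tup
  | (a, b, c, d), (e, f, g, h) =>
    ((a * e + b * g) % p, (a * f + b * h) % p, (c * e + d * g) % p, (c * f + d * h) % p)

theorem toMat_mulT (p : ℕ) (x y : Tup) : toMat p (mulT p x y) = toMat p x * toMat p y := by
  obtain ⟨a, b, c, d⟩ := x
  obtain ⟨e, f, g, h⟩ := y
  ext i j
  fin_cases i <;> fin_cases j <;>
    simp [toMat, mulT, Matrix.mul_apply, Fin.sum_univ_two, ZMod.natCast_mod]

theorem toMat_one (p : ℕ) : toMat p (1, 0, 0, 1) = 1 := by
  ext i j
  fin_cases i <;> fin_cases j <;> simp [toMat]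

/-- The determinant of `x - 1` as a natural number modulo `p`. -/
def detSubOne (p : ℕ) : Tup → ℕ
  | (a, b, c, d) => ((a + (p - 1)) * (d + (p - 1)) + (p - 1) * (b * c)) % p

theorem det_sub_one (p : ℕ) [NeZero p] (x : Tup) :
    ((detSubOne p x : ℕ) : ZMod p) = (toMat p x - 1).det := by
  obtain ⟨a, b, c, d⟩ := x
  have hp : ((p - 1 : ℕ) : ZMod p) = -1 := by
    rw [Nat.cast_sub (NeZero.one_le), ZMod.natCast_self, Nat.cast_one, zero_sub]
  rw [Matrix.det_fin_two]
  simp [detSubOne, toMat, ZMod.natCast_mod, hp]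
  ring

/-- Extend a list of tuples by products of earlier entries with generators. -/
def build (p : ℕ) (gens : List Tup) : List (ℕ × ℕ) → List Tup → List Tup
  | [], acc => acc
  | (i, j) :: rest, acc =>
    build p gens rest (acc ++ [mulT p (acc.getD i (1, 0, 0, 1)) (gens.getD j (1, 0, 0, 1))])

/-- All entries reduced and pairwise distinct. -/
def goodList (p : ℕ) (L : List Tup) : Bool :=
  L.all (fun x => decide (x.1 < p ∧ x.2.1 < p ∧ x.2.2.1 < p ∧ x.2.2.2 < p)) && decide L.Nodup

/-- The list contains the identity and is closed under the generators. -/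
def closedList (p : ℕ) (gens : List Tup) (L : List Tup) : Bool :=
  L.elem (1, 0, 0, 1) && L.all (fun x => gens.all fun g => L.elem (mulT p x g))

variable {p : ℕ} [Fact p.Prime]

theorem toMat_inj {x y : Tup} (hx : x.1 < p ∧ x.2.1 < p ∧ x.2.2.1 < p ∧ x.2.2.2 < p)
    (hy : y.1 < p ∧ y.2.1 < p ∧ y.2.2.1 < p ∧ y.2.2.2 < p) (h : toMat p x = toMat p y) : x = y := by
  have key : ∀ {m n : ℕ}, m < p → n < p → (m : ZMod p) = n → m = n := fun hm hn e => by
    have := congrArg ZMod.val e
    rwa [ZMod.val_natCast, ZMod.val_natCast, Nat.mod_eq_of_lt hm, Nat.mod_eq_of_lt hn] at this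
  obtain ⟨a, b, c, d⟩ := x
  obtain ⟨e, f, g, k⟩ := y
  have h00 := congrFun (congrFun h 0) 0
  have h01 := congrFun (congrFun h 0) 1
  have h10 := congrFun (congrFun h 1) 0
  have h11 := congrFun (congrFun h 1) 1
  simp [toMat] at h00 h01 h10 h11
  simp only at hx hy
  rw [key hx.1 hy.1 h00, key hx.2.1 hy.2.1 h01, key hx.2.2.1 hy.2.2.1 h10,
    key hx.2.2.2 hy.2.2.2 h11]

/-- The closure of generators, described by a certificate list. -/
theorem mem_closure_iff (gens : List Tup) (steps : List (ℕ × ℕ))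
    (Gs : Set (GeneralLinearGroup (Fin 2) (ZMod p)))
    (hG1 : ∀ A ∈ Gs, ∃ g ∈ gens, (A : Matrix (Fin 2) (Fin 2) (ZMod p)) = toMat p g)
    (hG2 : ∀ g ∈ gens, ∃ A ∈ Gs, (A : Matrix (Fin 2) (Fin 2) (ZMod p)) = toMat p g)
    (L : List Tup) (hL : L = build p gens steps [(1, 0, 0, 1)])
    (hclosed : closedList p gens L = true) (M : GeneralLinearGroup (Fin 2) (ZMod p)) :
    M ∈ Subgroup.closure Gs ↔ ∃ x ∈ L, (M : Matrix (Fin 2) (Fin 2) (ZMod p)) = toMat p x := by
  -- every listed tuple is in the closure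
  have hbuild : ∀ (st : List (ℕ × ℕ)) (acc : List Tup),
      (∀ x ∈ acc, ∃ A ∈ Subgroup.closure Gs, (A : Matrix (Fin 2) (Fin 2) (ZMod p)) = toMat p x) →
      ∀ x ∈ build p gens st acc,
        ∃ A ∈ Subgroup.closure Gs, (A : Matrix (Fin 2) (Fin 2) (ZMod p)) = toMat p x := by
    intro st
    induction st with
    | nil => exact fun acc h => h
    | cons ij rest ih =>
      intro acc hacc
      obtain ⟨i, j⟩ := ij
      refine ih _ fun x hx => ?_
      rcases List.mem_append.mp hx with hx | hx
      · exact hacc x hx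
      rw [List.mem_singleton] at hx
      subst hx
      obtain ⟨A, hA, hAe⟩ : ∃ A ∈ Subgroup.closure Gs,
          (A : Matrix (Fin 2) (Fin 2) (ZMod p)) = toMat p (acc.getD i (1, 0, 0, 1)) := by
        by_cases hi : i < acc.length
        · rw [List.getD_eq_getElem _ _ hi]; exact hacc _ (List.getElem_mem _)
        · rw [List.getD_eq_default _ _ (not_lt.mp hi)]
          exact ⟨1, one_mem _, by simp [toMat_one]⟩
      obtain ⟨B, hB, hBe⟩ : ∃ B ∈ Subgroup.closure Gs,
          (B : Matrix (Fin 2) (Fin 2) (ZMod p)) = toMat p (gens.getD j (1, 0, 0, 1)) := by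
        by_cases hj : j < gens.length
        · rw [List.getD_eq_getElem _ _ hj]
          obtain ⟨B, hB, hBe⟩ := hG2 _ (List.getElem_mem hj)
          exact ⟨B, Subgroup.subset_closure hB, hBe⟩
        · rw [List.getD_eq_default _ _ (not_lt.mp hj)]
          exact ⟨1, one_mem _, by simp [toMat_one]⟩
      exact ⟨A * B, mul_mem hA hB, by rw [GeneralLinearGroup.coe_mul, hAe, hBe, toMat_mulT]⟩
  constructor
  · intro hM
    simp only [closedList, Bool.and_eq_true, List.all_eq_true, List.elem_eq_mem,
      decide_eq_true_eq] at hclosed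
    have hmem : M ∈ (Subgroup.closure Gs).toSubmonoid := hM
    rw [Subgroup.closure_toSubmonoid_of_finite] at hmem
    induction hmem using Submonoid.closure_induction_right with
    | one => exact ⟨_, hclosed.1, by simp [toMat_one]⟩
    | mul_right x hx A hA ih =>
      obtain ⟨u, hu, hue⟩ := ih ((Subgroup.closure_toSubmonoid_of_finite (s := Gs)).symm ▸ hx :
        x ∈ (Subgroup.closure Gs).toSubmonoid)
      obtain ⟨g, hg, hge⟩ := hG1 A hA
      exact ⟨_, hclosed.2 u hu g hg, by rw [GeneralLinearGroup.coe_mul, hue, hge, toMat_mulT]⟩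
  · rintro ⟨x, hx, hxe⟩
    obtain ⟨A, hA, hAe⟩ := hbuild steps [(1, 0, 0, 1)]
      (fun y hy => ⟨1, one_mem _, by simp [List.mem_singleton.mp hy, toMat_one]⟩) x (hL ▸ hx)
    rwa [show M = A from Units.ext (hxe.trans hAe.symm)]

/-- The number of elements of the closure is the length of the certificate list. -/
theorem card_closure (gens : List Tup) (steps : List (ℕ × ℕ))
    (Gs : Set (GeneralLinearGroup (Fin 2) (ZMod p)))
    (hG1 : ∀ A ∈ Gs, ∃ g ∈ gens, (A : Matrix (Fin 2) (Fin 2) (ZMod p)) = toMat p g)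
    (hG2 : ∀ g ∈ gens, ∃ A ∈ Gs, (A : Matrix (Fin 2) (Fin 2) (ZMod p)) = toMat p g)
    (L : List Tup) (hL : L = build p gens steps [(1, 0, 0, 1)])
    (hclosed : closedList p gens L = true) (hgood : goodList p L = true) :
    Nat.card (Subgroup.closure Gs) = L.length := by
  classical
  have hiff := mem_closure_iff gens steps Gs hG1 hG2 L hL hclosed
  simp only [goodList, Bool.and_eq_true, List.all_eq_true, decide_eq_true_eq] at hgood
  have hmem : ∀ x ∈ L, ∃ A : Subgroup.closure Gs,
      ((A : GeneralLinearGroup (Fin 2) (ZMod p)) : Matrix (Fin 2) (Fin 2) (ZMod p)) = toMat p x := by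
    intro x hx
    obtain ⟨A, hA⟩ : ∃ A : GeneralLinearGroup (Fin 2) (ZMod p),
        (A : Matrix (Fin 2) (Fin 2) (ZMod p)) = toMat p x := by
      subst hL
      have h2 : ∀ (st : List (ℕ × ℕ)) (acc : List Tup),
          (∀ y ∈ acc, IsUnit (toMat p y)) → ∀ y ∈ build p gens st acc, IsUnit (toMat p y) := by
        intro st
        induction st with
        | nil => exact fun acc h => h
        | cons ij rest ih =>
          intro acc hacc
          obtain ⟨i, j⟩ := ij
          refine ih _ fun y hy => ?_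
          rcases List.mem_append.mp hy with hy | hy
          · exact hacc y hy
          rw [List.mem_singleton] at hy
          subst hy
          rw [toMat_mulT]
          refine IsUnit.mul ?_ ?_
          · by_cases hi : i < acc.length
            · rw [List.getD_eq_getElem _ _ hi]; exact hacc _ (List.getElem_mem _)
            · rw [List.getD_eq_default _ _ (not_lt.mp hi), toMat_one]; exact isUnit_one
          · by_cases hj : j < gens.length
            · rw [List.getD_eq_getElem _ _ hj]
              obtain ⟨B, -, hBe⟩ := hG2 _ (List.getElem_mem hj)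
              exact hBe ▸ B.isUnit
            · rw [List.getD_eq_default _ _ (not_lt.mp hj), toMat_one]; exact isUnit_one
      obtain ⟨u, hu⟩ := h2 steps [(1, 0, 0, 1)]
        (fun y hy => by rw [List.mem_singleton.mp hy, toMat_one]; exact isUnit_one) x hx
      exact ⟨u, hu⟩
    exact ⟨⟨A, (hiff A).mpr ⟨x, hx, hA⟩⟩, hA⟩
  choose f hf using hmem
  let F : L.toFinset → Subgroup.closure Gs := fun x => f x.1 (List.mem_toFinset.mp x.2)
  have hF : Function.Bijective F := by
    constructor
    · intro x y h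
      have h' : toMat p x.1 = toMat p y.1 := by
        rw [← hf x.1 (List.mem_toFinset.mp x.2), ← hf y.1 (List.mem_toFinset.mp y.2)]
        exact congrArg (fun A : Subgroup.closure Gs =>
          ((A : GeneralLinearGroup (Fin 2) (ZMod p)) : Matrix (Fin 2) (Fin 2) (ZMod p))) h
      exact Subtype.ext (toMat_inj (hgood.1 _ (List.mem_toFinset.mp x.2))
        (hgood.1 _ (List.mem_toFinset.mp y.2)) h')
    · rintro ⟨A, hA⟩
      obtain ⟨x, hx, hxe⟩ := (hiff A).mp hA
      exact ⟨⟨x, List.mem_toFinset.mpr hx⟩, Subtype.ext (Units.ext ((hf x hx).trans hxe.symm))⟩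
  rw [← Nat.card_eq_of_bijective F hF, Nat.card_eq_fintype_card, Fintype.card_coe,
    List.toFinset_card_of_nodup hgood.2]

/-- A group of order `p ^ 2 - 1` without eigenvalue one off the identity acts regularly on the
non-zero vectors. -/
theorem regular_of_free (H : Subgroup (GeneralLinearGroup (Fin 2) (ZMod p)))
    (hcard : Nat.card H = p * p - 1)
    (hfree : ∀ A ∈ H, A ≠ 1 → ((A : Matrix (Fin 2) (Fin 2) (ZMod p)) - 1).det ≠ 0) :
    ∀ v w : Fin 2 → ZMod p, v ≠ 0 → w ≠ 0 → ∃! h : H,
      Matrix.mulVec ((h : GeneralLinearGroup (Fin 2) (ZMod p)) : Matrix (Fin 2) (Fin 2) (ZMod p)) v = w := by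
  classical
  intro v w hv hw
  let φ : H → {u : Fin 2 → ZMod p // u ≠ 0} := fun h =>
    ⟨Matrix.mulVec ((h : GeneralLinearGroup (Fin 2) (ZMod p)) : Matrix (Fin 2) (Fin 2) (ZMod p)) v,
      fun e => hv <| by
        have := congrArg (Matrix.mulVec
          (((h : GeneralLinearGroup (Fin 2) (ZMod p))⁻¹ : GeneralLinearGroup (Fin 2) (ZMod p)) :
            Matrix (Fin 2) (Fin 2) (ZMod p))) e
        rwa [Matrix.mulVec_mulVec, ← GeneralLinearGroup.coe_mul, inv_mul_cancel,
          GeneralLinearGroup.coe_one, Matrix.one_mulVec, Matrix.mulVec_zero] at this⟩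
  have hinj : Function.Injective φ := by
    intro h k e
    by_contra hne
    have hne' : ((k⁻¹ * h : H) : GeneralLinearGroup (Fin 2) (ZMod p)) ≠ 1 := fun e1 =>
      hne (inv_mul_eq_one.mp (Subtype.ext e1)).symm
    refine hv (Matrix.eq_zero_of_mulVec_eq_zero (hfree _ (k⁻¹ * h).2 hne') ?_)
    have e' := congrArg Subtype.val e
    rw [Matrix.sub_mulVec, Matrix.one_mulVec, sub_eq_zero, Subgroup.coe_mul, Subgroup.coe_inv,
      GeneralLinearGroup.coe_mul, ← Matrix.mulVec_mulVec]
    simp only [φ] at e'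
    rw [e', Matrix.mulVec_mulVec, ← GeneralLinearGroup.coe_mul, inv_mul_cancel,
      GeneralLinearGroup.coe_one, Matrix.one_mulVec]
  have hcardU : Nat.card {u : Fin 2 → ZMod p // u ≠ 0} = p * p - 1 := by
    rw [Nat.card_eq_fintype_card, Fintype.card_subtype_compl, Fintype.card_subtype_eq,
      Fintype.card_fun, Fintype.card_fin, ZMod.card, pow_two]
  have hbij : Function.Bijective φ :=
    hinj.bijective_of_nat_card_le (le_of_eq (hcardU.trans hcard.symm))
  obtain ⟨h, hh⟩ := hbij.2 ⟨w, hw⟩
  exact ⟨h, congrArg Subtype.val hh, fun k hk => hinj (Subtype.ext (hk.trans (congrArg Subtype.val hh).symm))⟩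

end Cfsg.Agent.RegularMatrixGroup
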