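import Mathlib

/-!
A finite elementary abelian 2-group with a group action in which every nontrivial invariant
subgroup contains a given element: it embeds into the regular module.
-/

set_option autoImplicit false
set_option linter.unusedSectionVars false

namespace Cfsg.Agent.RegularModule65

open Subgroup

/-- The group with two elements. -/
abbrev C2 := Multiplicative (ZMod 2)

/-- Its nontrivial element. -/
def cc : C2 := Multiplicative.ofAdd 1

theorem cc_ne_one : cc ≠ 1 := by decide

theorem C2_cases : ∀ x : C2, x = 1 ∨ x = cc := by decide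

theorem C2_mul_self : ∀ x : C2, x * x = 1 := by decide

variable {G V : Type*} [Group G] [Finite G] [CommGroup V] [Finite V] (α : G →* MulAut V)

/-- A linear form not vanishing at `e`. -/
theorem exists_form (hsq : ∀ v : V, v * v = 1) (e : V) (he : e ≠ 1) :
    ∃ l : V →* C2, l e = cc := by
  classical
  obtain ⟨M, hM⟩ := (Set.toFinite {N : Subgroup V | e ∉ N}).exists_maximal
    ⟨⊥, fun h => he (mem_bot.1 h)⟩
  have heM : e ∉ M := hM.prop
  have hcoset : ∀ x, x ∉ M → x * e ∈ M := by
    intro x hx
    have hemem : e ∈ M ⊔ zpowers x := by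
      by_contra h
      exact hx ((hM.le_of_ge h le_sup_left) (mem_sup_right (mem_zpowers x)))
    obtain ⟨m, hm, y, hy, hme⟩ := Subgroup.mem_sup.1 hemem
    obtain ⟨k, rfl⟩ := mem_zpowers_iff.1 hy
    have hx2 : x ^ (2 : ℤ) = 1 := by rw [zpow_two]; exact hsq x
    rcases Int.even_or_odd k with ⟨i, rfl⟩ | ⟨i, rfl⟩
    · rw [← two_mul, zpow_mul, hx2, one_zpow, mul_one] at hme
      exact absurd (hme ▸ hm) heM
    · rw [zpow_add, zpow_mul, hx2, one_zpow, one_mul, zpow_one] at hme
      rw [← hme, ← mul_assoc, mul_comm x m, mul_assoc, hsq, mul_one]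
      exact hm
  refine ⟨{ toFun := fun v => if v ∈ M then 1 else cc, map_one' := if_pos M.one_mem,
            map_mul' := fun v w => ?_ }, if_neg heM⟩
  by_cases hv : v ∈ M <;> by_cases hw : w ∈ M
  · simp [hv, hw, M.mul_mem hv hw]
  · simp [hv, hw, show v * w ∉ M from fun h => hw ((M.mul_mem_cancel_left hv).1 h)]
  · simp [hv, hw, show v * w ∉ M from fun h => hv ((M.mul_mem_cancel_right hw).1 h)]
  · have : v * w ∈ M := by
      have := M.mul_mem (hcoset v hv) (hcoset w hw)
      rwa [mul_mul_mul_comm, hsq e, mul_one] at this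
    simp [hv, hw, this]
    decide

/-- The coordinates of a vector. -/
def coord (l : V →* C2) : V →* (G → C2) where
  toFun v g := l (α g v)
  map_one' := funext fun g => by simp
  map_mul' v w := funext fun g => by simp

theorem coord_act (l : V →* C2) (v : V) (g h : G) : coord α l (α h v) g = coord α l v (g * h) := by
  simp [coord, MulAut.mul_apply]

variable {e : V} (hinv : ∀ N : Subgroup V, (∀ g : G, ∀ v ∈ N, α g v ∈ N) → N ≠ ⊥ → e ∈ N)
include hinv

theorem coord_injective (l : V →* C2) (hl : l e = cc) : Function.Injective (coord α l) := by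
  rw [← MonoidHom.ker_eq_bot_iff]
  by_contra hne
  have h := hinv (coord α l).ker (fun g v hv => by
    rw [MonoidHom.mem_ker] at hv ⊢
    funext h
    rw [coord_act, hv]; rfl) hne
  have := congrFun (MonoidHom.mem_ker.1 h) 1
  simp [coord, hl] at this
  exact cc_ne_one this

theorem card_le (hsq : ∀ v : V, v * v = 1) (he : e ≠ 1) :
    Nat.card V ≤ 2 ^ Nat.card G := by
  obtain ⟨l, hl⟩ := exists_form hsq e he
  refine (Nat.card_le_card_of_injective _ (coord_injective α hinv l hl)).trans ?_
  rw [Nat.card_fun, Nat.card_eq_fintype_card (α := C2)]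
  rfl

/-- In the extreme case the module is regular. -/
theorem regular (hsq : ∀ v : V, v * v = 1) (he : e ≠ 1) (hcard : Nat.card V = 2 ^ Nat.card G)
    [Fintype G] :
    ∃ v₀ : V, closure (Set.range fun g => α g v₀) = ⊤ ∧ ∏ g, α g v₀ = e ∧
      ∀ z : G, Nat.card {v : V // α z v = v} ≤ 2 ^ (zpowers z).index := by
  classical
  obtain ⟨l, hl⟩ := exists_form hsq e he
  have hinj := coord_injective α hinv l hl
  have hbij : Function.Bijective (coord α l) := by
    refine (Nat.bijective_iff_injective_and_card (coord α l)).2 ⟨hinj, ?_⟩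
    rw [hcard, Nat.card_fun, Nat.card_eq_fintype_card (α := C2)]
    rfl
  obtain ⟨v₀, hv₀⟩ := hbij.2 (Pi.mulSingle 1 cc)
  have hco : ∀ g : G, coord α l (α g v₀) = Pi.mulSingle g⁻¹ cc := by
    intro g; funext h
    rw [coord_act, hv₀]
    by_cases hh : h = g⁻¹
    · simp [hh]
    · rw [Pi.mulSingle_eq_of_ne hh, Pi.mulSingle_eq_of_ne]
      exact fun h' => hh (eq_inv_of_mul_eq_one_left h')
  refine ⟨v₀, ?_, ?_, fun z => ?_⟩
  · rw [eq_top_iff]
    rintro v -
    have hv : v = ∏ g : G, if coord α l v g⁻¹ = cc then α g v₀ else 1 := by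
      apply hinj
      funext h
      rw [map_prod, Finset.prod_apply, Finset.prod_eq_single h⁻¹]
      · simp only [inv_inv]
        rcases C2_cases (coord α l v h) with e1 | e1
        · rw [e1, if_neg (Ne.symm cc_ne_one), map_one]; rfl
        · rw [e1, if_pos rfl, hco, inv_inv, Pi.mulSingle_eq_same]
      · intro g _ hg
        split_ifs
        · rw [hco, Pi.mulSingle_eq_of_ne]
          exact fun h' => hg (by rw [h', inv_inv])
        · rw [map_one]; rfl
      · simp
    rw [hv]
    refine Subgroup.prod_mem _ fun g _ => ?_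
    split_ifs
    · exact subset_closure ⟨g, rfl⟩
    · exact one_mem _
  · set p := ∏ g, α g v₀ with hp
    have hfix : ∀ h, α h p = p := by
      intro h
      rw [hp, map_prod]
      exact Fintype.prod_equiv (Equiv.mulLeft h) _ _ fun g => by simp [MulAut.mul_apply]
    have hp1 : coord α l p 1 = cc := by
      rw [hp, map_prod, Finset.prod_apply, Finset.prod_eq_single (1 : G)]
      · rw [hco, inv_one, Pi.mulSingle_eq_same]
      · intro g _ hg
        rw [hco, Pi.mulSingle_eq_of_ne]
        exact fun h => hg (inv_eq_one.1 h.symm)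
      · simp
    have hpne : p ≠ 1 := fun h => by
      rw [h, map_one] at hp1
      exact cc_ne_one hp1.symm
    have hmem := hinv (zpowers p) (fun g v hv => by
      obtain ⟨k, rfl⟩ := mem_zpowers_iff.1 hv
      rw [map_zpow, hfix]
      exact zpow_mem (mem_zpowers p) k) (fun h => hpne (zpowers_eq_bot.1 h))
    obtain ⟨k, hk⟩ := mem_zpowers_iff.1 hmem
    have hp2 : p ^ (2 : ℤ) = 1 := by rw [zpow_two]; exact hsq p
    rcases Int.even_or_odd k with ⟨i, rfl⟩ | ⟨i, rfl⟩
    · rw [← two_mul, zpow_mul, hp2, one_zpow] at hk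
      exact absurd hk.symm he
    · rw [zpow_add, zpow_mul, hp2, one_zpow, one_mul, zpow_one] at hk
      exact hk
  · let f : {v : V // α z v = v} → (G ⧸ zpowers z → C2) := fun v q => coord α l v.1 q.out
    have hf : Function.Injective f := by
      intro v w hvw
      refine Subtype.ext (hinj (funext fun g => ?_))
      have hcon : ∀ u : {v : V // α z v = v}, coord α l u.1 (QuotientGroup.mk (s := zpowers z) g).out =
          coord α l u.1 g := by
        intro u
        obtain ⟨⟨y, hy⟩, e1⟩ := QuotientGroup.mk_out_eq_mul (zpowers z) g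
        rw [e1]
        have : z ∈ (MulAction.stabilizer (MulAut V) u.1).comap α := u.2
        have hfix : α y u.1 = u.1 := (zpowers_le.2 this) hy
        rw [← coord_act, hfix]
      rw [← hcon v, ← hcon w]
      exact congrFun hvw _
    refine (Nat.card_le_card_of_injective f hf).trans ?_
    rw [Nat.card_fun, Nat.card_eq_fintype_card (α := C2), Subgroup.index_eq_card]
    rfl

end Cfsg.Agent.RegularModule65
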