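import Cfsg.Agent.Lib.ChevCoxTorus68

/-!
A set of roots with full rational span cannot consist of roots vanishing modulo a big prime at a non-zero functional;
orbits of a matrix with irreducible characteristic polynomial span.
-/

set_option autoImplicit false

open Polynomial Matrix

namespace Cfsg.Agent.RegularOrder98

open Cfsg.Lie Cfsg.Agent.ChevalleyCert Cfsg.Agent.ChevWeyl Cfsg.Agent.ChevBruhat Cfsg.Agent.ChevRootCoord68

theorem orbit_span_irred {l : ℕ} (P : Matrix (Fin l) (Fin l) ℤ)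
    (hirr : Irreducible (P.charpoly.map (Int.castRingHom ℚ))) {a φ : Fin l → ℤ} (hφ : φ ≠ 0)
    (h : ∀ k : ℕ, a ⬝ᵥ (P ^ k *ᵥ φ) = 0) : a = 0 := by
  let c := Int.castRingHom ℚ
  let P' := c.mapMatrix P
  let φ' : Fin l → ℚ := fun i => (φ i : ℚ)
  let a' : Fin l → ℚ := fun i => (a i : ℚ)
  have hφ' : φ' ≠ 0 := fun h0 => hφ (funext fun i => by
    have h1 : (φ i : ℚ) = 0 := congrFun h0 i
    exact_mod_cast h1)
  have hc' : Irreducible P'.charpoly := by
    show Irreducible (P.map c).charpoly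
    rwa [Matrix.charpoly_map]
  have hli : LinearIndependent ℚ fun k : Fin l => (P' ^ k.val) *ᵥ φ' := by
    rw [Fintype.linearIndependent_iff]
    intro g hg
    let r : ℚ[X] := ∑ k : Fin l, C (g k) * X ^ k.val
    have hr : aeval P' r *ᵥ φ' = 0 := by
      simp only [r, map_sum, map_mul, map_pow, aeval_C, aeval_X, ← Algebra.smul_def,
        Matrix.sum_mulVec, Matrix.smul_mulVec]
      exact hg
    suffices r = 0 by
      intro k
      have h1 := congrArg (fun p => p.coeff k.val) this
      simpa [r, coeff_C_mul_X_pow, Fin.val_inj] using h1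
    by_contra hr0
    have hdeg : r.natDegree < P'.charpoly.natDegree := by
      rw [Matrix.charpoly_natDegree_eq_dim, Fintype.card_fin]
      have hlt : r.degree < (l : WithBot ℕ) := by
        simpa [r] using degree_sum_fin_lt g
      rwa [degree_eq_natDegree hr0, Nat.cast_lt] at hlt
    obtain ⟨u, v, huv⟩ := hc'.coprime_iff_not_dvd.2
      fun hdvd => absurd (natDegree_le_of_dvd hdvd hr0) (by omega)
    apply hφ'
    have h1 := congrArg (fun p => aeval P' p *ᵥ φ') huv
    simp only [map_add, map_mul, map_one, Matrix.aeval_self_charpoly, mul_zero, zero_add,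
      ← Matrix.mulVec_mulVec, hr, Matrix.mulVec_zero, Matrix.one_mulVec] at h1
    exact h1.symm
  have hsp := hli.span_eq_top_of_card_eq_finrank' (by simp)
  have hperp : ∀ x : Fin l → ℚ, a' ⬝ᵥ x = 0 := by
    intro x
    have hx : x ∈ Submodule.span ℚ (Set.range fun k : Fin l => (P' ^ k.val) *ᵥ φ') := hsp ▸ trivial
    induction hx using Submodule.span_induction with
    | mem y hy =>
      obtain ⟨k, rfl⟩ := hy
      have h1 := congrArg c (h k.val)
      rw [RingHom.map_dotProduct, map_zero] at h1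
      show a' ⬝ᵥ (P' ^ k.val *ᵥ φ') = 0
      rw [← h1]
      congr 1
      funext i
      rw [Function.comp_apply, RingHom.map_mulVec, ← map_pow]
      rfl
    | zero => exact dotProduct_zero _
    | add y z _ _ hy hz => rw [dotProduct_add, hy, hz, add_zero]
    | smul t y _ hy => rw [dotProduct_smul, hy, smul_zero]
  funext i
  have := hperp (Pi.single i 1)
  rw [dotProduct_single, mul_one] at this
  simp only [a'] at this
  exact_mod_cast this

variable {D : ChevalleyDatum} {C : Cert D} {m : ℕ} (nm : Num C m) (X : Weyl D) (hs : suppCheck D = true)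

include nm hs X in
/-- roots vanishing modulo a big prime lie on a rational hyperplane -/
theorem no_common_zero {ℓ : ℕ} (hℓ : ℓ.Prime) (hm : m < ℓ) (f : Fin D.rank → ℤ)
    (hf : ¬ ∀ j, (ℓ : ℤ) ∣ f j) (S : Set ℕ)
    (hdvd : ∀ s ∈ S, s < D.nroots ∧ (ℓ : ℤ) ∣ ev C f s)
    (hirr : ∀ φ : Fin D.rank → ℤ, φ ≠ 0 → ∃ s ∈ S, ev C φ s ≠ 0) : False := by
  have hℓ0 : (0 : ℤ) < ℓ := Int.natCast_pos.2 hℓ.pos
  obtain ⟨v, f2, hnn, hbd, hcg⟩ := normal_form nm X hs f hℓ0
  suffices h : ∃ φ : Fin D.rank → ℤ, φ ≠ 0 ∧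
      ∀ r, r < D.nroots → (ℓ : ℤ) ∣ ev C f2 r → ev C φ r = 0 by
    obtain ⟨φ, hφ, hker⟩ := h
    obtain ⟨s', hS, hk⟩ := hirr (wact C X v⁻¹ φ) (wact_ne_zero C X _ hφ)
    obtain ⟨hs', h0⟩ := hdvd s' hS
    apply hk
    rw [ev_wact C X v⁻¹ φ hs']
    refine hker _ (X.img_lt _ hs') ?_
    have h1 := hcg _ (X.img_lt v⁻¹ hs')
    rw [X.img_img_inv] at h1
    simpa using dvd_add h1 h0
  obtain ⟨i, hi⟩ : ∃ i, 0 < f2 i := by
    by_contra hcon
    push Not at hcon
    have hz : ∀ r, r < D.nroots → ev C f2 r = 0 := fun r _ =>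
      Finset.sum_eq_zero fun j _ => by rw [le_antisymm (hcon j) (hnn j), smul_zero]
    refine hf fun j => ?_
    have h1 := hcg _ (X.img_lt v⁻¹ (X.simple_lt j.isLt))
    rw [X.img_img_inv, hz _ (X.img_lt _ (X.simple_lt j.isLt)), zero_sub, dvd_neg, ev_simple] at h1
    exact h1
  suffices h : ∃ φ : Fin D.rank → ℤ, φ ≠ 0 ∧
      ∀ r, r < D.nroots → D.nroots / 2 ≤ r → (ℓ : ℤ) ∣ ev C f2 r → ev C φ r = 0 by
    obtain ⟨φ, hφ, hker⟩ := h
    refine ⟨φ, hφ, fun r hr hd => ?_⟩
    rcases le_or_gt (D.nroots / 2) r with hp | hp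
    · exact hker r hr hp hd
    · have h2 := hker _ (C.neg_lt r) (by rw [C.neg_eq r hr]; have := C.even; omega)
        (by rw [ev_neg C f2 hr, dvd_neg]; exact hd)
      rwa [ev_neg C φ hr, neg_eq_zero] at h2
  have hcoef : ∀ r, r < D.nroots → D.nroots / 2 ≤ r → ∀ j : Fin D.rank, 0 ≤ C.coef r j.val :=
    fun r hr hp j => C.coef_pos r j hp hr j.isLt
  have hval : ∀ r, r < D.nroots → D.nroots / 2 ≤ r → (ℓ : ℤ) ∣ ev C f2 r →
      ev C f2 r = 0 ∨ ev C f2 r = ℓ := by
    intro r hr hp hd
    have h1 := hbd r hr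
    have h2 : 0 ≤ ev C f2 r := Finset.sum_nonneg fun j _ => mul_nonneg (hcoef r hr hp j) (hnn j)
    rw [abs_of_nonneg h2] at h1
    obtain ⟨c, hc⟩ := hd
    rw [hc] at h1 h2 ⊢
    have : 0 ≤ c := nonneg_of_mul_nonneg_right h2 hℓ0
    have : c ≤ 1 := by nlinarith
    interval_cases c <;> simp
  have hzero : ∀ r, r < D.nroots → D.nroots / 2 ≤ r → ev C f2 r = 0 → ∀ j, 0 < f2 j →
      C.coef r j.val = 0 := by
    intro r hr hp he j hj
    have := (Finset.sum_eq_zero_iff_of_nonneg
      fun k _ => mul_nonneg (hcoef r hr hp k) (hnn k)).1 he j (Finset.mem_univ j)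
    exact (mul_eq_zero.1 this).resolve_right (by omega)
  have hfull : ∀ r, r < D.nroots → D.nroots / 2 ≤ r → ev C f2 r = ℓ → ∀ j, 0 < f2 j →
      C.coef r j.val = C.coef (D.nroots - 1) j.val := by
    intro r hr hp he j hj
    have ht := hbd _ (top_lt nm)
    have h1 := le_trans (le_abs_self _) ht
    have h2 := ev_le_top nm hnn hr
    have h3 : ev C f2 r = ev C f2 (D.nroots - 1) := by omega
    have := (Finset.sum_eq_sum_iff_of_le fun k _ =>
      mul_le_mul_of_nonneg_right (nm.le_top ⟨r, hr⟩ k) (hnn k)).1 h3 j (Finset.mem_univ j)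
    exact mul_right_cancel₀ (by omega) this
  have hsingle : ∀ (k : Fin D.rank) (c : ℤ) (r : ℕ), ev C (Pi.single k c) r = C.coef r k.val * c := by
    intro k c r
    rw [ev, Finset.sum_eq_single k]
    · simp
    · intro b _ hb; simp [hb]
    · simp
  by_cases hj : ∃ j, j ≠ i ∧ 0 < f2 j
  · obtain ⟨j, hji, hj⟩ := hj
    set a := C.coef (D.nroots - 1) i.val with ha
    set b := C.coef (D.nroots - 1) j.val with hb
    refine ⟨Pi.single i b - Pi.single j a, fun h => ?_, fun r hr hp hd => ?_⟩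
    · have := congrFun h i
      simp [Pi.single_apply, Ne.symm hji] at this
      have := nm.two_le_top j
      omega
    · rw [ev_sub, hsingle, hsingle]
      rcases hval r hr hp hd with he | he
      · rw [hzero r hr hp he i hi, hzero r hr hp he j hj]; simp
      · rw [hfull r hr hp he i hi, hfull r hr hp he j hj]; ring
  · push Not at hj
    refine ⟨Pi.single i 1, by simp, fun r hr hp hd => ?_⟩
    rw [hsingle, mul_one]
    rcases hval r hr hp hd with he | he
    · exact hzero r hr hp he i hi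
    · exfalso
      have hone : ∀ k, k ≠ i → f2 k = 0 := fun k hk => le_antisymm (hj k hk) (hnn k)
      have he' : C.coef r i.val * f2 i = ℓ := by
        rw [← he, ev, Finset.sum_eq_single i]
        · rfl
        · intro b _ hb; rw [hone b hb, smul_zero]
        · simp
      have hc0 := hcoef r hr hp i
      have hcm : C.coef r i.val ≤ m := (nm.le_top ⟨r, hr⟩ i).trans (nm.top_le i)
      have hdiv : (C.coef r i.val).natAbs ∣ ℓ := by
        have : C.coef r i.val ∣ (ℓ : ℤ) := ⟨_, he'.symm⟩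
        simpa using Int.natAbs_dvd_natAbs.2 this
      rcases hℓ.eq_one_or_self_of_dvd _ hdiv with h1 | h1
      · have hfi : f2 i = ℓ := by
          have : C.coef r i.val = 1 := by omega
          rwa [this, one_mul] at he'
        refine hf fun j => ?_
        have h1 := hcg _ (X.img_lt v⁻¹ (X.simple_lt j.isLt))
        rw [X.img_img_inv, ev_simple] at h1
        have h2 : (ℓ : ℤ) ∣ ev C f2 (X.img v⁻¹ (D.simple j.val)) :=
          Finset.dvd_sum fun k _ => by
            by_cases hk : k = i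
            · rw [hk, hfi]; exact dvd_mul_left _ _
            · rw [hone k hk, smul_zero]; exact dvd_zero _
        simpa using dvd_sub h2 h1
      · omega


end Cfsg.Agent.RegularOrder98
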