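import Mathlib

/-!
# Integer vectors of length `p` with `p * ∑ n ^ 2 - (∑ n) ^ 2 ≤ p - 1`
-/

set_option autoImplicit false

namespace Cfsg.Agent.Rel80

variable {ι : Type*} [Fintype ι] [DecidableEq ι]

/-- The deviation form. -/
def dev (m m' : ι → ℤ) : ℤ :=
  (Fintype.card ι : ℤ) * ∑ i, m i * m' i - (∑ i, m i) * ∑ i, m' i

theorem dev_add_const (m : ι → ℤ) (c : ℤ) : dev (fun i => m i + c) (fun i => m i + c) = dev m m := by
  simp only [dev, Finset.sum_add_distrib, Finset.sum_const, Finset.card_univ, nsmul_eq_mul,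
    mul_add, add_mul, ← Finset.mul_sum, ← Finset.sum_mul]
  ring

theorem dev_const_left (c : ℤ) (m : ι → ℤ) : dev (fun _ => c) m = 0 := by
  simp only [dev, ← Finset.mul_sum, Finset.sum_const, Finset.card_univ, nsmul_eq_mul]
  ring

theorem dev_comm (m m' : ι → ℤ) : dev m m' = dev m' m := by
  simp only [dev, mul_comm (m _)]
  ring

theorem dev_nonneg (m : ι → ℤ) : 0 ≤ dev m m := by
  have h := sq_sum_le_card_mul_sum_sq (s := (Finset.univ : Finset ι)) (f := m)
  simp only [dev, ← pow_two, Finset.card_univ] at h ⊢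
  linarith

open Classical in
/-- The bound for a vector with a zero coordinate. -/
theorem dev_lower (m : ι → ℤ) :
    ((Finset.univ.filter fun i => m i = 0).card : ℤ) * ∑ i, m i ^ 2 ≤ dev m m := by
  set T := Finset.univ.filter fun i => ¬ m i = 0
  have h1 : ∑ i, m i = ∑ i ∈ T, m i := by
    refine (Finset.sum_subset (Finset.subset_univ T) fun i _ hi => ?_).symm
    simpa [T] using hi
  have h2 : ∑ i, m i ^ 2 = ∑ i ∈ T, m i ^ 2 := by
    refine (Finset.sum_subset (Finset.subset_univ T) fun i _ hi => ?_).symm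
    simp only [T, Finset.mem_filter, Finset.mem_univ, true_and, not_not] at hi
    simp [hi]
  have h3 := sq_sum_le_card_mul_sum_sq (s := T) (f := m)
  have h4 : ((Finset.univ.filter fun i => m i = 0).card : ℤ) + (T.card : ℤ) = Fintype.card ι := by
    rw [← Nat.cast_add, Finset.card_filter_add_card_filter_not, Finset.card_univ]
  simp only [dev, ← pow_two]
  rw [h1, h2, ← h4, add_mul]
  linarith

/-- A nonconstant vector has deviation at least `p - 1`; with equality it is a constant plus a
signed unit vector. -/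
theorem dev_cases (m : ι → ℤ) (h : dev m m ≤ (Fintype.card ι : ℤ) - 1) :
    (∃ c, ∀ i, m i = c) ∨ (dev m m = (Fintype.card ι : ℤ) - 1 ∧
      ∃ (c ε : ℤ) (i₀ : ι), (ε = 1 ∨ ε = -1) ∧ ∀ i, m i = c + if i = i₀ then ε else 0) := by
  classical
  by_cases hc : ∃ c, ∀ i, m i = c
  · exact Or.inl hc
  right
  push Not at hc
  obtain ⟨i₁, -⟩ := hc 0
  set c := m i₁
  set w : ι → ℤ := fun i => m i - c
  have hdev : dev w w = dev m m := by
    rw [← dev_add_const w c]
    simp [w]
  set S := Finset.univ.filter fun i => w i = 0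
  set T := Finset.univ.filter fun i => ¬ w i = 0
  have hS1 : (1 : ℤ) ≤ S.card := by
    exact_mod_cast Finset.card_pos.2 ⟨i₁, by simp [S, w, c]⟩
  obtain ⟨i₂, hi₂⟩ := hc c
  have hT1 : (1 : ℤ) ≤ T.card := by
    exact_mod_cast Finset.card_pos.2 ⟨i₂, by simp [T, w, sub_eq_zero, hi₂]⟩
  have hcard : (S.card : ℤ) + T.card = Fintype.card ι := by
    rw [← Nat.cast_add, Finset.card_filter_add_card_filter_not, Finset.card_univ]
  have hsum2 : ∑ i, w i ^ 2 = ∑ i ∈ T, w i ^ 2 := by
    refine (Finset.sum_subset (Finset.subset_univ T) fun i _ hi => ?_).symm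
    simp only [T, Finset.mem_filter, Finset.mem_univ, true_and, not_not] at hi
    simp [hi]
  have hsum : ∑ i, w i = ∑ i ∈ T, w i := by
    refine (Finset.sum_subset (Finset.subset_univ T) fun i _ hi => ?_).symm
    simpa [T] using hi
  have hone : ∀ i ∈ T, 1 ≤ w i ^ 2 := fun i hi => by
    have : w i ≠ 0 := (Finset.mem_filter.1 hi).2
    exact (sq_pos_iff.2 this)
  have hge : (T.card : ℤ) ≤ ∑ i ∈ T, w i ^ 2 := by
    simpa using Finset.card_nsmul_le_sum T _ 1 hone
  have hlow : (S.card : ℤ) * ∑ i ∈ T, w i ^ 2 ≤ dev m m := by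
    rw [← hsum2, ← hdev]
    exact dev_lower w
  have hkq : ((S.card : ℤ) - 1) * ((T.card : ℤ) - 1) ≤ 0 := by
    nlinarith
  have hprod : ((S.card : ℤ) - 1) * ((T.card : ℤ) - 1) = 0 :=
    le_antisymm hkq (mul_nonneg (by linarith) (by linarith))
  have hsq : ∑ i ∈ T, w i ^ 2 = T.card := by
    refine le_antisymm ?_ hge
    by_contra hlt
    nlinarith
  have hunit : ∀ i ∈ T, w i = 1 ∨ w i = -1 := by
    intro i hi
    have h1 : ∑ j ∈ T, (w j ^ 2 - 1) = 0 := by
      rw [Finset.sum_sub_distrib, hsq]; simp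
    have h2 := (Finset.sum_eq_zero_iff_of_nonneg fun j hj => by linarith [hone j hj]).1 h1 i hi
    exact sq_eq_one_iff.1 (by linarith)
  have heq : dev m m = (Fintype.card ι : ℤ) - 1 := by
    refine le_antisymm h ?_
    nlinarith
  refine ⟨heq, ?_⟩
  rcases mul_eq_zero.1 hprod with h1 | h1
  · -- one zero coordinate, all others have one sign
    have hS : S.card = 1 := by omega
    obtain ⟨i₀, hi₀⟩ := Finset.card_eq_one.1 hS
    have hmemT : ∀ i, i ≠ i₀ → i ∈ T := fun i hi => by
      simp only [T, Finset.mem_filter, Finset.mem_univ, true_and]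
      intro h0
      exact hi (Finset.mem_singleton.1 (hi₀ ▸ Finset.mem_filter.2 ⟨Finset.mem_univ _, h0⟩))
    have hsq2 : (∑ i ∈ T, w i) ^ 2 = (T.card : ℤ) ^ 2 := by
      have e : dev w w = (Fintype.card ι : ℤ) * ∑ i, w i ^ 2 - (∑ i, w i) ^ 2 := by
        simp only [dev, ← pow_two]
      rw [hdev, heq, hsum2, hsum, hsq, ← hcard, hS] at e
      push_cast at e
      nlinarith
    rcases eq_or_eq_neg_of_sq_eq_sq _ _ hsq2 with h2 | h2
    · refine ⟨c + 1, -1, i₀, Or.inr rfl, fun i => ?_⟩
      by_cases hi : i = i₀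
      · subst hi
        have hmem : i ∈ S := by rw [hi₀]; simp
        have h0 : w i = 0 := (Finset.mem_filter.1 hmem).2
        rw [if_pos rfl]
        simp only [w] at h0
        linarith
      · have hall : ∑ j ∈ T, (1 - w j) = 0 := by
          rw [Finset.sum_sub_distrib, h2]; simp
        have h3 := (Finset.sum_eq_zero_iff_of_nonneg fun j hj => by
          rcases hunit j hj with e | e <;> rw [e] <;> norm_num).1 hall i (hmemT i hi)
        rw [if_neg hi]
        simp only [w] at h3
        linarith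
    · refine ⟨c - 1, 1, i₀, Or.inl rfl, fun i => ?_⟩
      by_cases hi : i = i₀
      · subst hi
        have hmem : i ∈ S := by rw [hi₀]; simp
        have h0 : w i = 0 := (Finset.mem_filter.1 hmem).2
        rw [if_pos rfl]
        simp only [w] at h0
        linarith
      · have hall : ∑ j ∈ T, (1 + w j) = 0 := by
          rw [Finset.sum_add_distrib, h2]; simp
        have h3 := (Finset.sum_eq_zero_iff_of_nonneg fun j hj => by
          rcases hunit j hj with e | e <;> rw [e] <;> norm_num).1 hall i (hmemT i hi)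
        rw [if_neg hi]
        simp only [w] at h3
        linarith
  · have hT : T.card = 1 := by omega
    obtain ⟨i₀, hi₀⟩ := Finset.card_eq_one.1 hT
    refine ⟨c, w i₀, i₀, hunit i₀ (hi₀ ▸ Finset.mem_singleton_self _), fun i => ?_⟩
    by_cases hi : i = i₀
    · subst hi
      rw [if_pos rfl]
      simp [w]
    · rw [if_neg hi, add_zero]
      by_contra hne
      exact hi (Finset.mem_singleton.1 (hi₀ ▸ Finset.mem_filter.2
        ⟨Finset.mem_univ _, by simp [w, sub_eq_zero, hne]⟩))

theorem dev_unit (c c' ε ε' : ℤ) (i₀ i₁ : ι) :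
    dev (fun i => c + if i = i₀ then ε else 0) (fun i => c' + if i = i₁ then ε' else 0) =
      ε * ε' * ((if i₀ = i₁ then (Fintype.card ι : ℤ) else 0) - 1) := by
  simp only [dev, mul_add, add_mul, Finset.sum_add_distrib, Finset.sum_const, Finset.card_univ,
    nsmul_eq_mul, ite_mul, mul_ite, zero_mul, mul_zero, Finset.sum_ite_eq', Finset.mem_univ,
    if_true]
  by_cases h : i₀ = i₁
  · subst h; simp; ring
  · rw [if_neg h, if_neg (Ne.symm h)]; ring

theorem sum_unit (c ε : ℤ) (i₀ : ι) :
    ∑ i, (c + if i = i₀ then ε else 0) = (Fintype.card ι : ℤ) * c + ε := by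
  simp [Finset.sum_add_distrib]

end Cfsg.Agent.Rel80
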