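import Mathlib
import Cfsg.Agent.Lib.CharAverage
import Cfsg.Agent.Lib.CharKernel
import Cfsg.Agent.Lib.CharProjDegree
import Cfsg.Agent.Lib.CharExtension
import Cfsg.Agent.Lib.CharExtensionCrit

/-!
# Characters of subgroups as functions on the whole group

An irreducible character of a subgroup `H` is stored as a function on `G` vanishing off `H`; the
inner product over `H` is `inn H`. This makes restriction, conjugation and comparison between
several subgroups free of coercions.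
-/

set_option autoImplicit false
set_option linter.unusedSectionVars false

open scoped ComplexConjugate

namespace Cfsg.Agent.Rel80

open Cfsg Cfsg.Agent.CharBasic Cfsg.Agent.CharBasicOrth Cfsg.Agent.CharBasicDecomp

universe u

variable {G : Type u} [Group G] [Fintype G]

open scoped Classical in
/-- The elements of a subgroup. -/
noncomputable def el (H : Subgroup G) : Finset G := Finset.univ.filter (· ∈ H)

theorem mem_el {H : Subgroup G} {x : G} : x ∈ el H ↔ x ∈ H := by simp [el]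

theorem card_el (H : Subgroup G) : (el H).card = Nat.card H := by
  classical
  rw [Nat.card_eq_fintype_card]
  exact (Fintype.card_of_subtype (el H) fun x => mem_el).symm

theorem sum_el {α : Type*} [AddCommMonoid α] (H : Subgroup G) [Fintype H] (F : G → α) :
    ∑ x ∈ el H, F x = ∑ x : H, F x :=
  Finset.sum_subtype _ (fun _ => mem_el) F

theorem card_ne_zero (H : Subgroup G) : (Nat.card H : ℂ) ≠ 0 :=
  Nat.cast_ne_zero.2 Nat.card_pos.ne'

/-- The inner product over `H`. -/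
noncomputable def inn (H : Subgroup G) (f g : G → ℂ) : ℂ :=
  (Nat.card H : ℂ)⁻¹ * ∑ x ∈ el H, f x * conj (g x)

/-- A function restricting to a character of `H`. -/
def CharOn (H : Subgroup G) (f : G → ℂ) : Prop := IsCharacter H fun h : H => f h

/-- An irreducible character of `H`, extended by zero. -/
def IrrOn (H : Subgroup G) (f : G → ℂ) : Prop :=
  IsIrrCharacter H (fun h : H => f h) ∧ ∀ g, g ∉ H → f g = 0

/-- The irreducible characters of `H`. -/
abbrev Irr (H : Subgroup G) : Type u := {f : G → ℂ // IrrOn H f}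

open scoped Classical in
/-- Restriction, extended by zero. -/
noncomputable def res (H : Subgroup G) (f : G → ℂ) : G → ℂ := fun g => if g ∈ H then f g else 0

open scoped Classical in
/-- Extension by zero. -/
noncomputable def lift (H : Subgroup G) (φ : H → ℂ) : G → ℂ :=
  fun g => if h : g ∈ H then φ ⟨g, h⟩ else 0

/-- Conjugation. -/
def cj (b : G) (f : G → ℂ) : G → ℂ := fun g => f (b * g * b⁻¹)

theorem res_of_mem {H : Subgroup G} (f : G → ℂ) {g : G} (h : g ∈ H) : res H f g = f g := by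
  rw [res, if_pos h]

theorem res_of_not_mem {H : Subgroup G} (f : G → ℂ) {g : G} (h : g ∉ H) : res H f g = 0 := by
  rw [res, if_neg h]

theorem lift_coe (H : Subgroup G) (φ : H → ℂ) (h : H) : lift H φ h = φ h := by
  rw [lift, dif_pos h.2]

theorem cj_cj (a b : G) (f : G → ℂ) : cj a (cj b f) = cj (b * a) f := by
  funext g; simp only [cj, mul_inv_rev, mul_assoc]

theorem cj_one (f : G → ℂ) : cj 1 f = f := by funext g; simp [cj]

theorem lift_of_not_mem {H : Subgroup G} (φ : H → ℂ) {g : G} (hg : g ∉ H) : lift H φ g = 0 := by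
  rw [lift, dif_neg hg]

theorem irrOn_lift (H : Subgroup G) {φ : H → ℂ} (hφ : IsIrrCharacter H φ) : IrrOn H (lift H φ) :=
  ⟨by simpa [lift_coe] using hφ, fun g hg => dif_neg hg⟩

/-- The irreducible characters of `H` in both guises. -/
noncomputable def irrEquiv (H : Subgroup G) : IrrCharacter H ≃ Irr H where
  toFun φ := ⟨lift H (φ : H → ℂ), irrOn_lift H φ.2⟩
  invFun f := ⟨fun h : H => f.1 h, f.2.1⟩
  left_inv φ := Subtype.ext (funext fun h => lift_coe H _ h)
  right_inv f := Subtype.ext (funext fun g => by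
    by_cases hg : g ∈ H
    · exact lift_coe H (fun h : H => f.1 h) ⟨g, hg⟩
    · exact ((irrOn_lift H f.2.1).2 g hg).trans (f.2.2 g hg).symm)

theorem irrEquiv_apply (H : Subgroup G) (φ : IrrCharacter H) (h : H) :
    (irrEquiv H φ).1 h = (φ : H → ℂ) h := lift_coe H _ h

instance instFiniteIrr (H : Subgroup G) : Finite (Irr H) := by
  haveI : Finite (IrrCharacter H) := finite_irrCharacter
  exact Finite.of_equiv _ (irrEquiv H)

noncomputable instance instFintypeIrr (H : Subgroup G) : Fintype (Irr H) := Fintype.ofFinite _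

theorem IrrOn.ext {H : Subgroup G} {f g : G → ℂ} (hf : IrrOn H f) (hg : IrrOn H g)
    (h : ∀ x ∈ H, f x = g x) : f = g := by
  funext x
  by_cases hx : x ∈ H
  · exact h x hx
  · rw [hf.2 x hx, hg.2 x hx]

theorem charOn_of_le {H C : Subgroup G} {f : G → ℂ} (hf : CharOn H f) (hCH : C ≤ H) :
    CharOn C f :=
  isCharacter_comap (Subgroup.inclusion hCH) hf

theorem IrrOn.charOn {H : Subgroup G} {f : G → ℂ} (hf : IrrOn H f) : CharOn H f :=
  isCharacter_of_isIrrCharacter hf.1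

theorem IrrOn.charOn_le {H C : Subgroup G} {f : G → ℂ} (hf : IrrOn H f) (hCH : C ≤ H) :
    CharOn C f := charOn_of_le hf.charOn hCH

theorem inn_eq {H : Subgroup G} [Fintype H] (f g : G → ℂ) :
    inn H f g = classInner (fun h : H => f h) (fun h : H => g h) := by
  rw [inn, classInner, sum_el]

theorem inn_comm (H : Subgroup G) (f g : G → ℂ) : conj (inn H f g) = inn H g f := by
  simp only [inn, map_mul, map_inv₀, map_natCast, map_sum, Complex.conj_conj, mul_comm]

theorem inn_congr {H : Subgroup G} {f f' g g' : G → ℂ} (hf : ∀ x ∈ H, f x = f' x)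
    (hg : ∀ x ∈ H, g x = g' x) : inn H f g = inn H f' g' := by
  rw [inn, inn]
  exact congrArg _ (Finset.sum_congr rfl fun x hx => by
    rw [hf x (mem_el.1 hx), hg x (mem_el.1 hx)])

theorem card_mul_inn (H : Subgroup G) (f g : G → ℂ) :
    (Nat.card H : ℂ) * inn H f g = ∑ x ∈ el H, f x * conj (g x) := by
  rw [inn, ← mul_assoc, mul_inv_cancel₀ (card_ne_zero H), one_mul]

theorem inn_sum_left {ι : Type*} (s : Finset ι) (H : Subgroup G) (f : ι → G → ℂ) (g : G → ℂ) :
    inn H (fun x => ∑ i ∈ s, f i x) g = ∑ i ∈ s, inn H (f i) g := by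
  simp only [inn, Finset.sum_mul]
  rw [Finset.sum_comm, Finset.mul_sum]

theorem inn_smul_left (H : Subgroup G) (c : ℂ) (f g : G → ℂ) :
    inn H (fun x => c * f x) g = c * inn H f g := by
  simp only [inn, mul_assoc, ← Finset.mul_sum]
  ring

theorem inn_irr {H : Subgroup G} (f g : Irr H) [Decidable (f = g)] :
    inn H f.1 g.1 = if f = g then 1 else 0 := by
  classical
  haveI := Fintype.ofFinite H
  have h := classInner_irrCharacter ((irrEquiv H).symm f) ((irrEquiv H).symm g)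
  simp only [(irrEquiv H).symm.injective.eq_iff] at h
  rw [inn_eq]
  exact h.trans (by split_ifs <;> rfl)

theorem inn_self {H : Subgroup G} {f : G → ℂ} (hf : IrrOn H f) : inn H f f = 1 := by
  classical
  exact (inn_irr ⟨f, hf⟩ ⟨f, hf⟩).trans (if_pos rfl)

theorem inn_ne {H : Subgroup G} {f g : G → ℂ} (hf : IrrOn H f) (hg : IrrOn H g) (h : f ≠ g) :
    inn H f g = 0 := by
  classical
  exact (inn_irr ⟨f, hf⟩ ⟨g, hg⟩).trans (if_neg fun e => h (congrArg Subtype.val e))

theorem exists_inn_nat {H : Subgroup G} {f g : G → ℂ} (hf : CharOn H f) (hg : CharOn H g) :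
    ∃ m : ℕ, inn H f g = m := by
  haveI := Fintype.ofFinite H
  obtain ⟨m, hm⟩ := classInner_isCharacter hf hg
  exact ⟨m, (inn_eq f g).trans hm⟩

theorem charOn_apply_conj {H : Subgroup G} {f : G → ℂ} (hf : CharOn H f) {h x : G} (hh : h ∈ H)
    (hx : x ∈ H) : f (h * x * h⁻¹) = f x :=
  isClassFunction_of_isCharacter hf ⟨x, hx⟩ ⟨h, hh⟩

theorem decomp {H : Subgroup G} {f : G → ℂ} (hf : CharOn H f) {x : G} (hx : x ∈ H) :
    f x = ∑ γ : Irr H, inn H f γ.1 * γ.1 x := by
  classical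
  haveI := Fintype.ofFinite H
  have h := congrFun (eq_sum_classInner (isClassFunction_of_isCharacter hf)) (⟨x, hx⟩ : H)
  simp only [Finset.sum_apply, Pi.smul_apply, smul_eq_mul] at h
  rw [h]
  refine Fintype.sum_equiv (irrEquiv H) _ _ fun φ => ?_
  rw [inn_eq, irrEquiv_apply H φ ⟨x, hx⟩]
  simp only [irrEquiv_apply]

/-- Inner products through the decomposition. -/
theorem inn_decomp {H C : Subgroup G} {f : G → ℂ} (hf : CharOn H f) (hCH : C ≤ H) (g : G → ℂ) :
    inn C f g = ∑ γ : Irr H, inn H f γ.1 * inn C γ.1 g := by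
  rw [inn_congr (f' := fun x => ∑ γ : Irr H, inn H f γ.1 * γ.1 x)
    (fun x hx => decomp hf (hCH hx)) (fun _ _ => rfl), inn_sum_left]
  exact Finset.sum_congr rfl fun γ _ => inn_smul_left _ _ _ _

theorem exists_degree {H : Subgroup G} {f : G → ℂ} (hf : IrrOn H f) :
    ∃ n : ℕ, 0 < n ∧ f 1 = n :=
  isIrrCharacter_apply_one (G := H) hf.1

theorem apply_one_ne_zero {H : Subgroup G} {f : G → ℂ} (hf : IrrOn H f) : f 1 ≠ 0 :=
  isIrrCharacter_apply_one_ne_zero (G := H) hf.1

theorem apply_one_eq_deg {H : Subgroup G} {f : G → ℂ} (hf : IrrOn H f) :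
    f 1 = (charDegree f : ℂ) := by
  obtain ⟨n, -, hn⟩ := exists_degree hf
  rw [hn, charDegree, hn, Complex.natCast_re, Nat.floor_natCast]

theorem apply_inv {H : Subgroup G} {f : G → ℂ} (hf : IrrOn H f) (x : G) :
    f x⁻¹ = conj (f x) := by
  by_cases hx : x ∈ H
  · exact isCharacter_inv hf.charOn (⟨x, hx⟩ : H)
  · rw [hf.2 x hx, hf.2 _ fun h => hx (by simpa using H.inv_mem h), map_zero]

open scoped Classical in
/-- Column orthogonality. -/
theorem sum_irr_mul {H : Subgroup G} {x y : G} (hx : x ∈ H) (hy : y ∈ H) :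
    ∑ γ : Irr H, γ.1 x * conj (γ.1 y) = (((el H).filter fun h => h * x * h⁻¹ = y).card : ℂ) := by
  haveI := Fintype.ofFinite H
  have e : ∑ γ : Irr H, γ.1 x * conj (γ.1 y) =
      ∑ φ : IrrCharacter H, (φ : H → ℂ) ⟨x, hx⟩ * conj ((φ : H → ℂ) ⟨y, hy⟩) :=
    (Fintype.sum_equiv (irrEquiv H) _ _ fun φ => by
      rw [← irrEquiv_apply H φ ⟨x, hx⟩, ← irrEquiv_apply H φ ⟨y, hy⟩]).symm
  rw [e, sum_irr_mul_conj]
  by_cases hc : IsConj (⟨x, hx⟩ : H) ⟨y, hy⟩
  · rw [if_pos hc]
    obtain ⟨c, hc⟩ := isConj_iff.1 hc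
    have hc' : (c : G) * x * (c : G)⁻¹ = y := congrArg Subtype.val hc
    rw [Nat.cast_inj, Nat.card_eq_fintype_card, Fintype.card]
    refine Finset.card_bij (fun z _ => (c : G) * ((z : H) : G)) (fun z _ => ?_)
      (fun a _ b _ e => Subtype.ext (Subtype.ext (mul_left_cancel e))) (fun h hh => ?_)
    · refine Finset.mem_filter.2 ⟨mem_el.2 (H.mul_mem c.2 (z : H).2), ?_⟩
      have hz : x * ((z : H) : G) = ((z : H) : G) * x :=
        congrArg Subtype.val (Subgroup.mem_centralizer_iff.1 z.2 _ rfl)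
      rw [← hc']
      simp only [mul_inv_rev, mul_assoc]
      rw [← mul_assoc ((z : H) : G) x, ← hz]
      simp [mul_assoc]
    · obtain ⟨hh1, hh2⟩ := Finset.mem_filter.1 hh
      refine ⟨⟨c⁻¹ * ⟨h, mem_el.1 hh1⟩, ?_⟩, Finset.mem_univ _, by simp⟩
      rw [Subgroup.mem_centralizer_iff]
      rintro _ rfl
      refine Subtype.ext ?_
      show x * ((c : G)⁻¹ * h) = (c : G)⁻¹ * h * x
      have h3 : h * x = y * h := by rw [← hh2]; simp [mul_assoc]
      rw [mul_assoc (c : G)⁻¹, h3, ← hc']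
      simp [mul_assoc]
  · rw [if_neg hc, Finset.filter_false_of_mem, Finset.card_empty, Nat.cast_zero]
    intro h hh e
    exact hc (isConj_iff.2 ⟨⟨h, mem_el.1 hh⟩, Subtype.ext e⟩)

theorem irrOn_of_equiv {H H' : Subgroup G} (e : H ≃* H') {f f' : G → ℂ} (hf : IrrOn H' f)
    (hff : ∀ x : H, f' x = f (e x)) (hsupp : ∀ g, g ∉ H → f' g = 0) : IrrOn H f' :=
  ⟨by
    rw [show (fun h : H => f' h) = (fun h : H' => f h) ∘ e.toMonoidHom from funext hff]
    exact isIrrCharacter_comap e.toMonoidHom e.surjective hf.1, hsupp⟩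

theorem mem_conj_iff {H : Subgroup G} {b : G} (hb : b ∈ Subgroup.normalizer (H : Set G)) (g : G) :
    b * g * b⁻¹ ∈ H ↔ g ∈ H :=
  (Subgroup.mem_normalizer_iff.1 hb g).symm

theorem IrrOn.cj {H : Subgroup G} {f : G → ℂ} (hf : IrrOn H f) {b : G}
    (hb : b ∈ Subgroup.normalizer (H : Set G)) : IrrOn H (cj b f) := by
  let e : H ≃* H :=
    { toFun := fun h => ⟨b * h * b⁻¹, (mem_conj_iff hb _).2 h.2⟩
      invFun := fun h => ⟨b⁻¹ * h * b, (mem_conj_iff hb _).1 (by simp [mul_assoc])⟩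
      left_inv := fun h => Subtype.ext (by simp [mul_assoc])
      right_inv := fun h => Subtype.ext (by simp [mul_assoc])
      map_mul' := fun x y => Subtype.ext (by simp [mul_assoc]) }
  exact irrOn_of_equiv e hf (fun x => rfl) fun g hg => hf.2 _ fun h => hg ((mem_conj_iff hb g).1 h)

theorem cj_of_mem {H : Subgroup G} {f : G → ℂ} (hf : IrrOn H f) {b : G} (hb : b ∈ H) :
    Rel80.cj b f = f :=
  (hf.cj (Subgroup.le_normalizer hb)).ext hf fun _ hx => charOn_apply_conj hf.charOn hb hx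

theorem sum_el_conj {α : Type*} [AddCommMonoid α] {H : Subgroup G} {b : G}
    (hb : b ∈ Subgroup.normalizer (H : Set G)) (F : G → α) :
    ∑ x ∈ el H, F (b * x * b⁻¹) = ∑ x ∈ el H, F x :=
  Finset.sum_bij' (fun x _ => b * x * b⁻¹) (fun x _ => b⁻¹ * x * b)
    (fun x hx => mem_el.2 ((mem_conj_iff hb _).2 (mem_el.1 hx)))
    (fun x hx => mem_el.2 ((mem_conj_iff hb _).1 (by simpa [mul_assoc] using mem_el.1 hx)))
    (fun x _ => by simp [mul_assoc]) (fun x _ => by simp [mul_assoc]) (fun x _ => rfl)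

theorem inn_cj {H : Subgroup G} {b : G} (hb : b ∈ Subgroup.normalizer (H : Set G))
    (f g : G → ℂ) : inn H (cj b f) (cj b g) = inn H f g := by
  rw [inn, inn]
  exact congrArg _ (sum_el_conj hb fun x => f x * conj (g x))

theorem sum_el_mul_right {α : Type*} [AddCommMonoid α] {H : Subgroup G} {c : G} (hc : c ∈ H)
    (F : G → α) : ∑ x ∈ el H, F (x * c) = ∑ x ∈ el H, F x :=
  Finset.sum_bij' (fun x _ => x * c) (fun x _ => x * c⁻¹)
    (fun x hx => mem_el.2 (H.mul_mem (mem_el.1 hx) hc))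
    (fun x hx => mem_el.2 (H.mul_mem (mem_el.1 hx) (H.inv_mem hc)))
    (fun x _ => by simp) (fun x _ => by simp) (fun x _ => rfl)

theorem sum_el_mul_left {α : Type*} [AddCommMonoid α] {H : Subgroup G} {c : G} (hc : c ∈ H)
    (F : G → α) : ∑ x ∈ el H, F (c * x) = ∑ x ∈ el H, F x :=
  Finset.sum_bij' (fun x _ => c * x) (fun x _ => c⁻¹ * x)
    (fun x hx => mem_el.2 (H.mul_mem hc (mem_el.1 hx)))
    (fun x hx => mem_el.2 (H.mul_mem (H.inv_mem hc) (mem_el.1 hx)))
    (fun x _ => by simp) (fun x _ => by simp) (fun x _ => rfl)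

open scoped Classical in
/-- Summation over a product of two subgroups. -/
theorem sum_prod {K T E : Subgroup G} (hK : K ≤ E) (hT : T ≤ E)
    (hE : ∀ e ∈ E, ∃ k ∈ K, ∃ t ∈ T, k * t = e) (F : G → ℂ) :
    ∑ k ∈ el K, ∑ t ∈ el T, F (k * t) = (Nat.card (K ⊓ T : Subgroup G) : ℂ) * ∑ e ∈ el E, F e := by
  rw [← Finset.sum_product', Finset.mul_sum,
    ← Finset.sum_fiberwise_of_maps_to (g := fun q : G × G => q.1 * q.2) (t := el E)
      (fun q hq => mem_el.2 (E.mul_mem (hK (mem_el.1 (Finset.mem_product.1 hq).1))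
        (hT (mem_el.1 (Finset.mem_product.1 hq).2))))]
  refine Finset.sum_congr rfl fun e he => ?_
  rw [Finset.sum_congr rfl (g := fun _ => F e)
    (fun q hq => congrArg F (Finset.mem_filter.1 hq).2), Finset.sum_const, nsmul_eq_mul, ← card_el]
  obtain ⟨k₀, hk₀, t₀, ht₀, rfl⟩ := hE e (mem_el.1 he)
  congr 1
  rw [Nat.cast_inj]
  refine Finset.card_bij' (fun q _ => k₀⁻¹ * q.1) (fun z _ => (k₀ * z, z⁻¹ * t₀)) ?_ ?_ ?_ ?_
  · intro q hq
    obtain ⟨hq1, hq2⟩ := Finset.mem_filter.1 hq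
    obtain ⟨h1, h2⟩ := Finset.mem_product.1 hq1
    have e1 : k₀⁻¹ * q.1 = t₀ * q.2⁻¹ := by
      have := congrArg (fun z => k₀⁻¹ * z * q.2⁻¹) hq2
      simpa [mul_assoc] using this
    exact mem_el.2 (Subgroup.mem_inf.2 ⟨K.mul_mem (K.inv_mem hk₀) (mem_el.1 h1),
      e1 ▸ T.mul_mem ht₀ (T.inv_mem (mem_el.1 h2))⟩)
  · intro z hz
    obtain ⟨h1, h2⟩ := Subgroup.mem_inf.1 (mem_el.1 hz)
    exact Finset.mem_filter.2 ⟨Finset.mem_product.2 ⟨mem_el.2 (K.mul_mem hk₀ h1),
      mem_el.2 (T.mul_mem (T.inv_mem h2) ht₀)⟩, by simp [mul_assoc]⟩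
  · intro q hq
    have hq2 := (Finset.mem_filter.1 hq).2
    simp [mul_assoc, ← hq2]
  · intro z _
    simp

theorem degree_dvd {N H : Subgroup G} (hNH : N ≤ H) (hn : H ≤ Subgroup.normalizer (N : Set G))
    {f θ : G → ℂ} (hf : IrrOn H f) (hθ : IrrOn N θ) (h : inn N f θ ≠ 0) :
    ∃ k : ℕ, f 1 = θ 1 * k ∧ k ∣ N.relIndex H := by
  classical
  haveI : (N.subgroupOf H).Normal := (Subgroup.normal_subgroupOf_iff_le_normalizer hNH).2 hn
  let e := Subgroup.subgroupOfEquivOfLe hNH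
  have hθ' : IsIrrCharacter (N.subgroupOf H) ((fun x : N => θ x) ∘ e.toMonoidHom) :=
    isIrrCharacter_comap e.toMonoidHom e.surjective hθ.1
  have h' : classInner (fun x : N.subgroupOf H => f ((x : H) : G))
      ((fun x : N => θ x) ∘ e.toMonoidHom) ≠ 0 := by
    haveI := Fintype.ofFinite N
    rw [inn_eq, ← classInner_congr_equiv e] at h
    exact h
  obtain ⟨k, d, hd, hk, hdvd⟩ := CharProjDegree.degree_dvd (N.subgroupOf H) hf.1 hθ' h'
  refine ⟨k, ?_, hdvd⟩
  have hd' : θ 1 = (d : ℂ) := hd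
  rw [hd']
  push_cast at hk
  exact hk

theorem clifford {N H : Subgroup G} (hNH : N ≤ H) (hn : H ≤ Subgroup.normalizer (N : Set G))
    {f θ : G → ℂ} (hf : IrrOn H f) (hθ : IrrOn N θ) (h : inn N f θ ≠ 0) :
    ∃ O : Finset (G → ℂ), (∀ φ, φ ∈ O ↔ ∃ b ∈ H, Rel80.cj b θ = φ) ∧
      ∀ x ∈ N, f x = inn N f θ * ∑ φ ∈ O, φ x := by
  classical
  haveI : (N.subgroupOf H).Normal := (Subgroup.normal_subgroupOf_iff_le_normalizer hNH).2 hn
  haveI := Fintype.ofFinite N
  let e := Subgroup.subgroupOfEquivOfLe hNH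
  let θ' : N.subgroupOf H → ℂ := (fun x : N => θ x) ∘ e.toMonoidHom
  have hθ' : IsIrrCharacter (N.subgroupOf H) θ' :=
    isIrrCharacter_comap e.toMonoidHom e.surjective hθ.1
  have he : classInner (fun x : N.subgroupOf H => f ((x : H) : G)) θ' = inn N f θ := by
    rw [inn_eq, ← classInner_congr_equiv e]; rfl
  have hc := CharInduced.clifford (N.subgroupOf H) hf.1 hθ' (by rw [he]; exact h)
  refine ⟨(el H).image fun b => Rel80.cj b θ, fun φ => by simp [mem_el], fun x hx => ?_⟩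
  have hc1 := congrFun hc (e.symm ⟨x, hx⟩)
  simp only [Pi.smul_apply, Finset.sum_apply, smul_eq_mul, he] at hc1
  refine hc1.trans (congrArg _ ?_)
  refine Finset.sum_bij (fun φ _ => lift N fun y : N => φ (e.symm y)) (fun φ hφ => ?_)
    (fun φ _ φ' _ hφφ => funext fun y => ?_) (fun φ hφ => ?_) (fun φ _ => ?_)
  · obtain ⟨b, rfl⟩ := (CharInduced.mem_orbitFin _).1 hφ
    refine Finset.mem_image.2 ⟨(b : G), mem_el.2 b.2, funext fun g => ?_⟩
    by_cases hg : g ∈ N
    · exact (lift_coe N (fun y : N => CharInduced.conjFun _ θ' b (e.symm y)) ⟨g, hg⟩).symm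
    · exact (hθ.2 _ fun h0 => hg ((mem_conj_iff (hn b.2) g).1 h0)).trans
        (lift_of_not_mem _ hg).symm
  · have h1 := congrFun hφφ ((e y : N) : G)
    simp only [lift_coe, MulEquiv.symm_apply_apply] at h1
    exact h1
  · obtain ⟨b, hb, rfl⟩ := Finset.mem_image.1 hφ
    refine ⟨CharInduced.conjFun _ θ' ⟨b, mem_el.1 hb⟩,
      (CharInduced.mem_orbitFin _).2 ⟨_, rfl⟩, funext fun g => ?_⟩
    by_cases hg : g ∈ N
    · exact lift_coe N (fun y : N => CharInduced.conjFun _ θ' ⟨b, mem_el.1 hb⟩ (e.symm y)) ⟨g, hg⟩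
    · exact (lift_of_not_mem _ hg).trans
        (hθ.2 _ fun h0 => hg ((mem_conj_iff (hn (mem_el.1 hb)) g).1 h0)).symm
  · rw [lift_coe N (fun y : N => φ (e.symm y)) ⟨x, hx⟩]

/-- Over an invariant character the restriction is a multiple. -/
theorem res_invariant {N H : Subgroup G} (hNH : N ≤ H) (hn : H ≤ Subgroup.normalizer (N : Set G))
    {f θ : G → ℂ} (hf : IrrOn H f) (hθ : IrrOn N θ) (hinv : ∀ b ∈ H, Rel80.cj b θ = θ)
    (h : inn N f θ ≠ 0) : ∀ x ∈ N, f x = inn N f θ * θ x := by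
  obtain ⟨O, hO, hres⟩ := clifford hNH hn hf hθ h
  have hO1 : O = {θ} := by
    refine Finset.eq_singleton_iff_unique_mem.2 ⟨(hO θ).2 ⟨1, H.one_mem, cj_one θ⟩, fun φ hφ => ?_⟩
    obtain ⟨b, hb, rfl⟩ := (hO φ).1 hφ
    exact hinv b hb
  intro x hx
  rw [hres x hx, hO1, Finset.sum_singleton]

/-- Schur averaging. -/
theorem sum_conj_mul {H : Subgroup G} {χ : G → ℂ} (hχ : IrrOn H χ) {x y : G} (hx : x ∈ H)
    (hy : y ∈ H) :
    ∑ a ∈ el H, χ (a * x * a⁻¹ * y) = (Nat.card H : ℂ) * χ x * χ y / χ 1 := by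
  classical
  haveI := Fintype.ofFinite H
  rw [sum_el]
  exact CharAverage.sum_conj_mul ⟨fun h : H => χ h, hχ.1⟩ ⟨x, hx⟩ ⟨y, hy⟩

/-- Convolution of irreducible characters. -/
theorem sum_convolution {H : Subgroup G} {φ ψ : G → ℂ} (hφ : IrrOn H φ) (hψ : IrrOn H ψ) {w : G}
    (hw : w ∈ H) :
    ∑ m ∈ el H, φ m * ψ (m⁻¹ * w) = (Nat.card H : ℂ) * inn H φ ψ * ψ w / ψ 1 := by
  have key : ∀ a ∈ el H, ∑ m ∈ el H, φ m * ψ (a * m⁻¹ * a⁻¹ * w) =
      ∑ m ∈ el H, φ m * ψ (m⁻¹ * w) := fun a ha => by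
    rw [← sum_el_conj (Subgroup.le_normalizer (mem_el.1 ha)) fun m => φ m * ψ (m⁻¹ * w)]
    refine Finset.sum_congr rfl fun m hm => ?_
    rw [charOn_apply_conj hφ.charOn (mem_el.1 ha) (mem_el.1 hm)]
    simp only [mul_inv_rev, inv_inv, mul_assoc]
  have h1 : (Nat.card H : ℂ) * ∑ m ∈ el H, φ m * ψ (m⁻¹ * w) =
      (Nat.card H : ℂ) * ((Nat.card H : ℂ) * inn H φ ψ * ψ w / ψ 1) := by
    rw [← card_el, ← nsmul_eq_mul, ← Finset.sum_const, ← Finset.sum_congr rfl key, Finset.sum_comm]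
    simp only [← Finset.mul_sum]
    rw [card_el, card_mul_inn]
    rw [Finset.sum_mul, Finset.sum_div, Finset.mul_sum]
    refine Finset.sum_congr rfl fun m hm => ?_
    rw [sum_conj_mul hψ (H.inv_mem (mem_el.1 hm)) hw, apply_inv hψ]
    ring
  exact mul_left_cancel₀ (card_ne_zero H) h1

/-- Twist by a linear character. -/
theorem IrrOn.twist {H : Subgroup G} {χ l : G → ℂ} (hχ : IrrOn H χ) (hl : IrrOn H l)
    (hl1 : l 1 = 1) : IrrOn H fun x => l x * χ x := by
  refine ⟨?_, fun g hg => by simp [hχ.2 g hg]⟩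
  obtain ⟨lam, hlam⟩ := CharBasicLinear.exists_hom_of_apply_one_eq_one hl.charOn hl1
  have h := isIrrCharacter_mul_linear hχ.1 lam
  refine (congrArg (IsIrrCharacter H) (funext fun x : H => ?_)).mp h
  show χ x * (lam x : ℂ) = l x * χ x
  rw [← congrFun hlam x]
  exact mul_comm _ _

theorem linear_mul {H : Subgroup G} {l : G → ℂ} (hl : IrrOn H l) (hl1 : l 1 = 1) {x y : G}
    (hx : x ∈ H) (hy : y ∈ H) : l (x * y) = l x * l y := by
  obtain ⟨lam, hlam⟩ := CharBasicLinear.exists_hom_of_apply_one_eq_one hl.charOn hl1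
  have h : ∀ z : H, l z = (lam z : ℂ) := fun z => congrFun hlam z
  have h1 := h (⟨x, hx⟩ * ⟨y, hy⟩)
  rw [map_mul, Units.val_mul, ← h, ← h] at h1
  exact h1

end Cfsg.Agent.Rel80
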