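import Cfsg.Agent.Lib.Rel80Count

/-!
Counting characters of degree prime to `p` through a stabiliser.
-/

set_option autoImplicit false

open scoped ComplexConjugate

namespace Cfsg.Agent.Rel80

open Cfsg

universe u

variable {G : Type u} [Group G] [Fintype G]

/-- The stabiliser of a function under conjugation. -/
def stab (f : G → ℂ) : Subgroup G where
  carrier := {x | cj x f = f}
  one_mem' := cj_one f
  mul_mem' := fun {a b} (ha : cj a f = f) (hb : cj b f = f) => by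
    show cj (a * b) f = f
    rw [← cj_cj, ha, hb]
  inv_mem' := fun {a} (ha : cj a f = f) => by
    show cj a⁻¹ f = f
    conv_lhs => rw [← ha]
    rw [cj_cj, mul_inv_cancel, cj_one]

theorem mem_stab {f : G → ℂ} {x : G} : x ∈ stab f ↔ cj x f = f := Iff.rfl

theorem cj_eq_iff {f : G → ℂ} {a b : G} : cj a f = cj b f ↔ a * b⁻¹ ∈ stab f := by
  rw [mem_stab]
  constructor
  · intro h
    rw [← cj_cj, h, cj_cj, mul_inv_cancel, cj_one]
  · intro h
    conv_rhs => rw [← h]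
    rw [cj_cj, inv_mul_cancel_right]

open scoped Classical in
/-- The orbit of a function under a subgroup. -/
noncomputable def orb (X : Subgroup G) (f : G → ℂ) : Finset (G → ℂ) :=
  (el X).image fun a => cj a f

theorem mem_orb {X : Subgroup G} {f φ : G → ℂ} : φ ∈ orb X f ↔ ∃ a ∈ X, cj a f = φ := by
  simp [orb, mem_el]

theorem card_orb (X : Subgroup G) (f : G → ℂ) :
    (orb X f).card = (X ⊓ stab f).relIndex X := by
  classical
  have h : Nat.card (X ⊓ stab f : Subgroup G) * (orb X f).card = Nat.card X := by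
    rw [← card_el X, Finset.card_eq_sum_card_image (fun a => cj a f) (el X)]
    show _ * (orb X f).card = ∑ φ ∈ orb X f, _
    rw [Finset.sum_congr rfl (g := fun _ => Nat.card (X ⊓ stab f : Subgroup G)) ?_,
      Finset.sum_const, smul_eq_mul, mul_comm]
    intro φ hφ
    obtain ⟨b, hb, rfl⟩ := mem_orb.1 hφ
    rw [← card_el (X ⊓ stab f)]
    refine Finset.card_bij' (fun a _ => a * b⁻¹) (fun t _ => t * b) (fun a ha => ?_) (fun t ht => ?_)
      (fun a _ => inv_mul_cancel_right a b) (fun t _ => mul_inv_cancel_right t b)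
    · obtain ⟨haX, he⟩ := Finset.mem_filter.1 ha
      exact mem_el.2 (Subgroup.mem_inf.2 ⟨X.mul_mem (mem_el.1 haX) (X.inv_mem hb), cj_eq_iff.1 he⟩)
    · obtain ⟨htX, hts⟩ := Subgroup.mem_inf.1 (mem_el.1 ht)
      exact Finset.mem_filter.2 ⟨mem_el.2 (X.mul_mem htX hb),
        cj_eq_iff.2 (by rwa [mul_inv_cancel_right])⟩
  have h2 : Nat.card (X ⊓ stab f : Subgroup G) * (X ⊓ stab f).relIndex X = Nat.card X := by
    have h3 := card_mul_relIndex (N := X ⊓ stab f) (H := X) inf_le_left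
    exact_mod_cast h3
  exact Nat.eq_of_mul_eq_mul_left Nat.card_pos (h.trans h2.symm)

theorem irrOn_orb {X L : Subgroup G} (hn : X ≤ Subgroup.normalizer (L : Set G)) {ν : G → ℂ}
    (hν : IrrOn L ν) {φ : G → ℂ} (h : φ ∈ orb X ν) : IrrOn L φ := by
  obtain ⟨a, ha, rfl⟩ := mem_orb.1 h
  exact hν.cj (hn ha)

/-- Clifford's theorem in terms of the orbit. -/
theorem clifford_orb {L X : Subgroup G} (hLX : L ≤ X) (hn : X ≤ Subgroup.normalizer (L : Set G))
    {χ ν : G → ℂ} (hχ : IrrOn X χ) (hν : IrrOn L ν) (ho : Over L ν χ) :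
    ∀ x ∈ L, χ x = inn L χ ν * ∑ φ ∈ orb X ν, φ x := by
  obtain ⟨O, hO, h⟩ := clifford hLX hn hχ hν (ho.inn_ne (hχ.charOn_le hLX) hν)
  have e : O = orb X ν := by
    ext φ
    rw [hO, mem_orb]
  exact e ▸ h

theorem clifford_degree {L X : Subgroup G} (hLX : L ≤ X)
    (hn : X ≤ Subgroup.normalizer (L : Set G)) {χ ν : G → ℂ} (hχ : IrrOn X χ) (hν : IrrOn L ν)
    (ho : Over L ν χ) :
    charDegree χ = mu L χ ν * (X ⊓ stab ν).relIndex X * charDegree ν := by
  have h := clifford_orb hLX hn hχ hν ho 1 L.one_mem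
  have hs : ∀ φ ∈ orb X ν, φ 1 = ν 1 := fun φ hφ => by
    obtain ⟨a, -, rfl⟩ := mem_orb.1 hφ
    simp [cj]
  rw [Finset.sum_congr rfl hs, Finset.sum_const, nsmul_eq_mul, card_orb,
    ← mu_cast (hχ.charOn_le hLX) hν.charOn, apply_one_eq_deg hχ, apply_one_eq_deg hν,
    ← mul_assoc] at h
  exact_mod_cast h

/-- Frobenius reciprocity for the regular character. -/
theorem sum_degree_mu {T X : Subgroup G} (hTX : T ≤ X) {ψ : G → ℂ} (hψ : IrrOn T ψ) :
    ∑ χ : Irr X, charDegree χ.1 * mu T χ.1 ψ = T.relIndex X * charDegree ψ := by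
  classical
  have key : ∀ t ∈ T, ∑ χ : Irr X, χ.1 t * χ.1 1 = if t = 1 then (Nat.card X : ℂ) else 0 := by
    intro t ht
    have h := sum_irr_mul (H := X) (x := t) (y := 1) (hTX ht) X.one_mem
    have hc : ((el X).filter fun h => h * t * h⁻¹ = 1) = if t = 1 then el X else ∅ := by
      split_ifs with h1
      · subst h1
        exact Finset.filter_true_of_mem fun a _ => by group
      · refine Finset.filter_false_of_mem fun a _ he => h1 ?_
        have := congrArg (fun y => a⁻¹ * y * a) he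
        simpa [mul_assoc] using this
    calc ∑ χ : Irr X, χ.1 t * χ.1 1 = ∑ χ : Irr X, χ.1 t * conj (χ.1 1) := by
          refine Finset.sum_congr rfl fun χ _ => ?_
          rw [apply_one_eq_deg χ.2, Complex.conj_natCast]
      _ = _ := by
          rw [h, hc]
          split_ifs <;> simp [card_el]
  have e : ((∑ χ : Irr X, charDegree χ.1 * mu T χ.1 ψ : ℕ) : ℂ) * Nat.card T =
      (Nat.card X : ℂ) * charDegree ψ := by
    push_cast
    rw [Finset.sum_mul]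
    have e1 : ∀ χ : Irr X, (charDegree χ.1 : ℂ) * (mu T χ.1 ψ : ℂ) * Nat.card T =
        ∑ t ∈ el T, conj (ψ t) * (χ.1 t * χ.1 1) := fun χ => by
      rw [mu_cast (χ.2.charOn_le hTX) hψ.charOn, mul_assoc, mul_comm (inn T χ.1 ψ),
        card_mul_inn, Finset.mul_sum, apply_one_eq_deg χ.2]
      exact Finset.sum_congr rfl fun t _ => by ring
    rw [Finset.sum_congr rfl fun χ _ => e1 χ, Finset.sum_comm]
    rw [Finset.sum_congr rfl (g := fun t => conj (ψ t) * if t = 1 then (Nat.card X : ℂ) else 0)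
      fun t ht => by rw [← Finset.mul_sum, key t (mem_el.1 ht)]]
    simp only [mul_ite, mul_zero]
    rw [Finset.sum_ite_eq' (el T) 1, if_pos (mem_el.2 T.one_mem), apply_one_eq_deg hψ,
      Complex.conj_natCast, mul_comm]
  rw [← card_mul_relIndex hTX] at e
  have e' : ((∑ χ : Irr X, charDegree χ.1 * mu T χ.1 ψ : ℕ) : ℂ) * Nat.card T =
      ((T.relIndex X * charDegree ψ : ℕ) : ℂ) * Nat.card T := by
    rw [e]; push_cast; ring
  exact_mod_cast mul_right_cancel₀ (card_ne_zero T) e'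

/-- The degree of a character of the stabiliser. -/
theorem degree_stab {L T : Subgroup G} (hLT : L ≤ T) (hn : T ≤ Subgroup.normalizer (L : Set G))
    {ψ ν : G → ℂ} (hψ : IrrOn T ψ) (hν : IrrOn L ν) (hinv : ∀ x ∈ T, cj x ν = ν)
    (ho : Over L ν ψ) : charDegree ψ = mu L ψ ν * charDegree ν := by
  have h := res_invariant hLT hn hψ hν hinv (ho.inn_ne (hψ.charOn_le hLT) hν) 1 L.one_mem
  rw [← mu_cast (hψ.charOn_le hLT) hν.charOn, apply_one_eq_deg hψ, apply_one_eq_deg hν] at h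
  exact_mod_cast h

theorem charDegree_pos {H : Subgroup G} {f : G → ℂ} (hf : IrrOn H f) : 0 < charDegree f := by
  obtain ⟨n, hn, h⟩ := exists_degree hf
  rw [apply_one_eq_deg hf, Nat.cast_inj] at h
  omega

/-- The count through the stabiliser of `ν`. -/
theorem cnt_stab {p : ℕ} [hp : Fact p.Prime] {L X : Subgroup G} (hLX : L ≤ X)
    (hn : X ≤ Subgroup.normalizer (L : Set G)) {ν : G → ℂ} (hν : IrrOn L ν)
    (hcop : ¬ p ∣ (X ⊓ stab ν).relIndex X) : cnt p X L ν = cnt p (X ⊓ stab ν) L ν := by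
  classical
  set T := X ⊓ stab ν with hT
  have hTX : T ≤ X := inf_le_left
  have hLT : L ≤ T := le_inf hLX fun x hx => cj_of_mem hν hx
  have hTn := hTX.trans hn
  have hTinv : ∀ x ∈ T, cj x ν = ν := fun x hx => (Subgroup.mem_inf.1 hx).2
  set r := T.relIndex X
  have hr : 0 < r := Nat.pos_of_ne_zero fun h => hcop (by rw [h]; exact dvd_zero p)
  have hν0 := charDegree_pos hν
  -- multiplicities of `ν`
  have hle : ∀ (χ : Irr X) (ψ : Irr T), mu T χ.1 ψ.1 * mu L ψ.1 ν ≤ mu L χ.1 ν := fun χ ψ => by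
    rw [mu_trans (χ.2.charOn_le hTX) hLT hν.charOn]
    exact Finset.single_le_sum (f := fun γ : Irr T => mu T χ.1 γ.1 * mu L γ.1 ν)
      (fun _ _ => Nat.zero_le _) (Finset.mem_univ ψ)
  have key : ∀ ψ : Irr T, Over L ν ψ.1 → ∃ χ : Irr X, (∀ χ', mu T χ'.1 ψ.1 ≠ 0 ↔ χ' = χ) ∧
      charDegree χ.1 = r * charDegree ψ.1 ∧ mu L χ.1 ν = mu L ψ.1 ν := by
    intro ψ ho
    have hS : ∑ χ : Irr X, charDegree χ.1 * mu T χ.1 ψ.1 = r * charDegree ψ.1 :=
      sum_degree_mu hTX ψ.2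
    have hd := degree_stab hLT hTn ψ.2 hν hTinv ho
    have hψ0 := charDegree_pos ψ.2
    have hne : ∑ χ : Irr X, charDegree χ.1 * mu T χ.1 ψ.1 ≠ 0 := by
      rw [hS]; positivity
    obtain ⟨χ, -, hχ⟩ := Finset.exists_ne_zero_of_sum_ne_zero hne
    have hm : mu T χ.1 ψ.1 ≠ 0 := right_ne_zero_of_mul hχ
    have hbig : ∀ χ' : Irr X, mu T χ'.1 ψ.1 ≠ 0 → Over L ν χ'.1 ∧
        mu T χ'.1 ψ.1 * (r * charDegree ψ.1) ≤ charDegree χ'.1 := by
      intro χ' h'
      have ho' : Over L ν χ'.1 := fun e => (mul_ne_zero h' ho)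
        (Nat.le_zero.1 (e ▸ hle χ' ψ))
      refine ⟨ho', ?_⟩
      rw [clifford_degree hLX hn χ'.2 hν ho', hd]
      calc _ = mu T χ'.1 ψ.1 * mu L ψ.1 ν * r * charDegree ν := by ring
        _ ≤ _ := Nat.mul_le_mul_right _ (Nat.mul_le_mul_right _ (hle χ' ψ))
    obtain ⟨hoχ, hbigχ⟩ := hbig χ hm
    rw [← Finset.add_sum_erase _ _ (Finset.mem_univ χ)] at hS
    have hpos : 0 < r * charDegree ψ.1 := Nat.mul_pos hr hψ0
    have hm1 : 1 ≤ mu T χ.1 ψ.1 := Nat.one_le_iff_ne_zero.2 hm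
    have h1 : r * charDegree ψ.1 ≤ charDegree χ.1 :=
      (Nat.le_mul_of_pos_left _ hm1).trans hbigχ
    have h2 : charDegree χ.1 ≤ charDegree χ.1 * mu T χ.1 ψ.1 :=
      Nat.le_mul_of_pos_right _ hm1
    have hrest : ∑ χ' ∈ Finset.univ.erase χ, charDegree χ'.1 * mu T χ'.1 ψ.1 = 0 := by omega
    have hdeg : charDegree χ.1 = r * charDegree ψ.1 := by omega
    refine ⟨χ, fun χ' => ⟨fun h' => by_contra fun hne' => ?_, fun e => e ▸ hm⟩, hdeg, ?_⟩
    · have := Finset.sum_eq_zero_iff.1 hrest χ' (Finset.mem_erase.2 ⟨hne', Finset.mem_univ _⟩)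
      exact mul_ne_zero (charDegree_pos χ'.2).ne' h' this
    · have e := clifford_degree hLX hn χ.2 hν hoχ
      rw [hdeg, hd] at e
      have e' : mu L ψ.1 ν * (r * charDegree ν) = mu L χ.1 ν * (r * charDegree ν) := by
        rw [← mul_assoc (mu L χ.1 ν), ← e]; ring
      exact (Nat.eq_of_mul_eq_mul_right (Nat.mul_pos hr hν0) e').symm
  choose c hc using key
  have hover : ∀ ψ ho, Over L ν (c ψ ho).1 := fun ψ ho => by
    show mu L (c ψ ho).1 ν ≠ 0
    rw [(hc ψ ho).2.2]; exact ho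
  have uniq : ∀ χ : Irr X, ∀ ψ ψ' : Irr T, ∀ ho ho', c ψ ho = χ → c ψ' ho' = χ → ψ = ψ' := by
    intro χ ψ ψ' ho ho' e e'
    by_contra hne
    have hm : mu T χ.1 ψ.1 ≠ 0 := ((hc ψ ho).1 χ).2 e.symm
    have hm' : mu T χ.1 ψ'.1 ≠ 0 := ((hc ψ' ho').1 χ).2 e'.symm
    have hsum := Finset.add_le_sum (f := fun γ : Irr T => mu T χ.1 γ.1 * mu L γ.1 ν)
      (fun _ _ => Nat.zero_le _) (Finset.mem_univ ψ) (Finset.mem_univ ψ') hne
    rw [← mu_trans (χ.2.charOn_le hTX) hLT hν.charOn, ← e, (hc ψ ho).2.2, e] at hsum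
    have h1 : mu L ψ.1 ν ≤ mu T χ.1 ψ.1 * mu L ψ.1 ν :=
      Nat.le_mul_of_pos_left _ (Nat.pos_of_ne_zero hm)
    have h2 : 0 < mu T χ.1 ψ'.1 * mu L ψ'.1 ν :=
      Nat.pos_of_ne_zero (mul_ne_zero hm' ho')
    omega
  let f : {ψ : Irr T // ¬ p ∣ charDegree ψ.1 ∧ Over L ν ψ.1} →
      {χ : Irr X // ¬ p ∣ charDegree χ.1 ∧ Over L ν χ.1} := fun ψ => ⟨c ψ.1 ψ.2.2, by
    rw [(hc ψ.1 ψ.2.2).2.1]
    exact ⟨fun h => ((hp.out.dvd_mul).1 h).elim hcop ψ.2.1, hover _ _⟩⟩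
  symm
  refine Nat.card_congr (Equiv.ofBijective f ⟨fun ψ ψ' e => Subtype.ext ?_, fun χ => ?_⟩)
  · exact uniq _ ψ.1 ψ'.1 ψ.2.2 ψ'.2.2 (congrArg Subtype.val e) rfl
  · obtain ⟨ψ, hm, ho⟩ := exists_mu_trans (χ.1.2.charOn_le hTX) hLT hν.charOn χ.2.2
    have e : c ψ ho = χ.1 := (((hc ψ ho).1 χ.1).1 hm).symm
    have hd : ¬ p ∣ charDegree ψ.1 := fun h => χ.2.1 (by
      rw [← e, (hc ψ ho).2.1]; exact dvd_mul_of_dvd_right h _)
    exact ⟨⟨ψ, hd, ho⟩, Subtype.ext e⟩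

end Cfsg.Agent.Rel80
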