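import Cfsg.Agent.Lib.Rel80Phi

/-!
# Counting through the commutator pairing
-/

set_option autoImplicit false
set_option linter.unusedSectionVars false

open scoped ComplexConjugate

namespace Cfsg.Agent.Rel80

open Cfsg

universe u

variable {G : Type u} [Group G] [Fintype G]

/-- The number of characters of `p'`-degree of `X` over `ν`. -/
noncomputable def cnt (p : ℕ) (X L : Subgroup G) (ν : G → ℂ) : ℕ :=
  Nat.card {χ : Irr X // ¬ p ∣ charDegree χ.1 ∧ Over L ν χ.1}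

open scoped Classical in
/-- The `p'`-degree characters of `M` over `ν`. -/
noncomputable def psi (p : ℕ) (M L : Subgroup G) (ν : G → ℂ) : Finset (Irr M) :=
  Finset.univ.filter fun ψ => ¬ p ∣ charDegree ψ.1 ∧ Over L ν ψ.1

theorem mem_psi {p : ℕ} {M L : Subgroup G} {ν : G → ℂ} {ψ : Irr M} :
    ψ ∈ psi p M L ν ↔ ¬ p ∣ charDegree ψ.1 ∧ Over L ν ψ.1 := by simp [psi]

theorem charDegree_cj (b : G) (f : G → ℂ) : charDegree (cj b f) = charDegree f := by
  simp [charDegree, cj]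

open scoped Classical in
/-- Frobenius' commutator formula. -/
theorem sum_commutator {X : Subgroup G} (F : G → ℂ) :
    ∑ g ∈ el X, ∑ x ∈ el X, F (x * g * x⁻¹ * g⁻¹) =
      (Nat.card X : ℂ) * ∑ χ : Irr X, (∑ m ∈ el X, F m * conj (χ.1 m)) / χ.1 1 := by
  have h1 : ∀ g ∈ el X, ∑ x ∈ el X, F (x * g * x⁻¹ * g⁻¹) =
      ∑ m ∈ el X, F m * ∑ χ : Irr X, χ.1 g * conj (χ.1 (m * g)) := by
    intro g hg
    rw [← Finset.sum_fiberwise_of_maps_to (g := fun x => x * g * x⁻¹ * g⁻¹) (t := el X)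
      (fun x hx => mem_el.2 (X.mul_mem (X.mul_mem (X.mul_mem (mem_el.1 hx) (mem_el.1 hg))
        (X.inv_mem (mem_el.1 hx))) (X.inv_mem (mem_el.1 hg))))]
    refine Finset.sum_congr rfl fun m hm => ?_
    rw [sum_irr_mul (mem_el.1 hg) (X.mul_mem (mem_el.1 hm) (mem_el.1 hg)),
      Finset.sum_congr rfl (g := fun _ => F m) (fun x hx => by rw [(Finset.mem_filter.1 hx).2]),
      Finset.sum_const, nsmul_eq_mul, mul_comm]
    congr 3
    ext x
    simp [mul_inv_eq_iff_eq_mul]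
  rw [Finset.sum_congr rfl h1, Finset.sum_comm, Finset.mul_sum]
  simp only [Finset.sum_div, Finset.mul_sum]
  rw [Finset.sum_comm (s := (Finset.univ : Finset (Irr X)))]
  refine Finset.sum_congr rfl fun m hm => ?_
  rw [Finset.sum_comm]
  refine Finset.sum_congr rfl fun χ _ => ?_
  have h2 := sum_convolution χ.2 χ.2 (X.inv_mem (mem_el.1 hm))
  rw [inn_self χ.2, mul_one, apply_inv χ.2 m] at h2
  have h3 : ∀ g ∈ el X, F m * (χ.1 g * conj (χ.1 (m * g))) = F m * (χ.1 g * χ.1 (g⁻¹ * m⁻¹)) :=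
    fun g _ => by rw [← apply_inv χ.2, mul_inv_rev]
  rw [Finset.sum_congr rfl h3, ← Finset.mul_sum, h2]
  ring

variable {p : ℕ} [hp : Fact p.Prime] {X L M : Subgroup G} {ν : G → ℂ}

open scoped Classical in
/-- The count as a commutator sum. -/
theorem cnt_eq_sum (hLM : L ≤ M) (hMX : M ≤ X) (hXL : X ≤ Subgroup.normalizer (L : Set G))
    (hXM : X ≤ Subgroup.normalizer (M : Set G)) (hν : IrrOn L ν) (hinv : ∀ x ∈ X, cj x ν = ν)
    (hcop : ¬ p ∣ M.relIndex X) :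
    (cnt p X L ν : ℂ) * (Nat.card X * Nat.card M) =
      ∑ ψ ∈ psi p M L ν, ψ.1 1 * ∑ g ∈ el X, ∑ x ∈ el X, ψ.1 (x * g * x⁻¹ * g⁻¹) := by
  have hinM : ∀ ψ : Irr M, ∀ χ : Irr X, ∑ m ∈ el X, ψ.1 m * conj (χ.1 m) =
      (Nat.card M : ℂ) * mu M χ.1 ψ.1 := by
    intro ψ χ
    have h : conj ((mu M χ.1 ψ.1 : ℕ) : ℂ) = inn M ψ.1 χ.1 := by
      rw [mu_cast (χ.2.charOn_le hMX) ψ.2.charOn, inn_comm]
    rw [map_natCast] at h
    rw [h, card_mul_inn]
    refine (Finset.sum_subset (fun m hm => mem_el.2 (hMX (mem_el.1 hm))) fun m _ hm => ?_).symm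
    rw [ψ.2.2 m fun h' => hm (mem_el.2 h'), zero_mul]
  simp only [sum_commutator, hinM]
  have key : ∀ χ : Irr X, ∑ ψ ∈ psi p M L ν, ψ.1 1 * (mu M χ.1 ψ.1 : ℂ) =
      if ¬ p ∣ charDegree χ.1 ∧ Over L ν χ.1 then χ.1 1 else 0 := by
    intro χ
    split_ifs with h
    · rw [apply_one_decomp (χ.2.charOn_le hMX)]
      rw [Finset.sum_congr rfl fun ψ _ => mul_comm _ _]
      refine Finset.sum_subset (Finset.subset_univ _) fun ψ _ hψ => ?_
      by_cases h0 : mu M χ.1 ψ.1 = 0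
      · rw [h0, Nat.cast_zero, zero_mul]
      refine absurd (mem_psi.2 ⟨fun hd => h.1 ?_,
        over_constituent hLM hMX hXL χ.2 hν hinv h.2 ψ.2 h0⟩) hψ
      obtain ⟨k, hk, -⟩ := degree_dvd hMX hXM χ.2 ψ.2
        ((mu_ne_zero_iff (χ.2.charOn_le hMX) ψ.2.charOn).1 h0)
      rw [apply_one_eq_deg χ.2, apply_one_eq_deg ψ.2, ← Nat.cast_mul, Nat.cast_inj] at hk
      exact hk ▸ hd.mul_right k
    · refine Finset.sum_eq_zero fun ψ hψ => ?_
      by_cases h0 : mu M χ.1 ψ.1 = 0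
      · rw [h0, Nat.cast_zero, mul_zero]
      obtain ⟨hψd, hψo⟩ := mem_psi.1 hψ
      obtain ⟨k, hk, hkd⟩ := degree_dvd hMX hXM χ.2 ψ.2
        ((mu_ne_zero_iff (χ.2.charOn_le hMX) ψ.2.charOn).1 h0)
      rw [apply_one_eq_deg χ.2, apply_one_eq_deg ψ.2, ← Nat.cast_mul, Nat.cast_inj] at hk
      refine absurd ⟨?_, over_of_constituent hLM hMX χ.2 hν ψ.2 hψo h0⟩ h
      rw [hk, hp.out.dvd_mul]
      exact not_or_intro hψd fun hd => hcop (hd.trans hkd)
  calc (cnt p X L ν : ℂ) * (Nat.card X * Nat.card M)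
      = ∑ χ : Irr X, (if ¬ p ∣ charDegree χ.1 ∧ Over L ν χ.1 then χ.1 1 else 0) / χ.1 1 *
          (Nat.card X * Nat.card M) := by
        rw [← Finset.sum_mul]
        congr 1
        rw [cnt, Nat.card_eq_fintype_card, Fintype.card_subtype, Finset.natCast_card_filter]
        refine Finset.sum_congr rfl fun χ _ => ?_
        split_ifs
        · rw [div_self (apply_one_ne_zero χ.2)]
        · rw [zero_div]
    _ = _ := by
        simp only [← key, Finset.sum_div, Finset.sum_mul, Finset.mul_sum]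
        rw [Finset.sum_comm]
        exact Finset.sum_congr rfl fun ψ _ => Finset.sum_congr rfl fun χ _ => by ring

open scoped Classical in
/-- The count through pairs from a supplement `H` of `M`. -/
theorem cnt_eq_pairs (hLM : L ≤ M) (hMX : M ≤ X) (hXL : X ≤ Subgroup.normalizer (L : Set G))
    (hXM : X ≤ Subgroup.normalizer (M : Set G)) (hν : IrrOn L ν) (hinv : ∀ x ∈ X, cj x ν = ν)
    (hcop : ¬ p ∣ M.relIndex X) {H : Subgroup G} (hHX : H ≤ X)
    (hdec : ∀ x ∈ X, ∃ h ∈ H, ∃ m ∈ M, h * m = x) :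
    (cnt p X L ν : ℂ) * (Nat.card H * Nat.card (H ⊓ M : Subgroup G)) =
      ∑ a ∈ el H, ∑ b ∈ el H, ∑ ψ ∈ psi p M L ν, phi M ψ.1 a b := by
  have h := cnt_eq_sum hLM hMX hXL hXM hν hinv hcop
  have hsp := fun F : G → ℂ => sum_prod (K := H) (T := M) hHX hMX hdec F
  set c : ℂ := (Nat.card (H ⊓ M : Subgroup G) : ℂ)
  have hcard : (Nat.card H : ℂ) * Nat.card M = c * Nat.card X := by
    have := hsp fun _ => 1
    simpa [card_el] using this
  have hψ : ∀ ψ : Irr M, c ^ 2 * (ψ.1 1 * ∑ g ∈ el X, ∑ x ∈ el X, ψ.1 (x * g * x⁻¹ * g⁻¹)) =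
      (Nat.card M : ℂ) ^ 2 * ∑ a ∈ el H, ∑ b ∈ el H, phi M ψ.1 a b := by
    intro ψ
    have h1 : c ^ 2 * ∑ g ∈ el X, ∑ x ∈ el X, ψ.1 (x * g * x⁻¹ * g⁻¹) =
        ∑ a ∈ el H, ∑ b ∈ el H, ∑ k ∈ el M, ∑ l ∈ el M,
          ψ.1 (b * l * (a * k) * (b * l)⁻¹ * (a * k)⁻¹) := by
      rw [pow_two, mul_assoc, ← hsp (fun g => ∑ x ∈ el X, ψ.1 (x * g * x⁻¹ * g⁻¹)), Finset.mul_sum]
      refine Finset.sum_congr rfl fun a _ => ?_
      rw [Finset.mul_sum, Finset.sum_comm]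
      exact Finset.sum_congr rfl fun k _ => (hsp _).symm
    have hM0 := card_ne_zero M
    simp only [phi, ← Finset.mul_sum]
    rw [← h1]
    field_simp
  have hc0 : c ≠ 0 := card_ne_zero _
  have h2 : c ^ 2 * ((cnt p X L ν : ℂ) * (Nat.card X * Nat.card M)) =
      (Nat.card M : ℂ) ^ 2 * ∑ a ∈ el H, ∑ b ∈ el H, ∑ ψ ∈ psi p M L ν, phi M ψ.1 a b := by
    rw [h, Finset.mul_sum, Finset.sum_congr rfl fun ψ _ => hψ ψ, ← Finset.mul_sum]
    congr 1
    rw [Finset.sum_comm]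
    exact Finset.sum_congr rfl fun a _ => Finset.sum_comm
  refine mul_left_cancel₀ (pow_ne_zero 2 (card_ne_zero M)) ?_
  rw [← h2]
  linear_combination (cnt p X L ν : ℂ) * c * (Nat.card M : ℂ) * hcard

end Cfsg.Agent.Rel80
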