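import Cfsg.Agent.Lib.Rel80Norm

/-!
# The relative correspondence for an operator group that is elementary abelian modulo `L`
-/

set_option autoImplicit false
set_option linter.unusedSectionVars false

open scoped ComplexConjugate

namespace Cfsg.Agent.Rel80

open Cfsg

universe u

variable {G : Type u} [Group G] [Fintype G]

/-- `F` acts on `E` over `ν`, elementary abelian modulo `L`. -/
structure Acts (p : ℕ) (L E : Subgroup G) (ν : G → ℂ) (F : Subgroup G) : Prop where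
  le : L ≤ F
  normL : F ≤ Subgroup.normalizer (L : Set G)
  normE : F ≤ Subgroup.normalizer (E : Set G)
  pow : ∀ r ∈ F, r ^ p ∈ L
  fix : ∀ r ∈ F, cj r ν = ν
  comm : ∀ r ∈ F, ∀ r' ∈ F, r * r' * r⁻¹ * r'⁻¹ ∈ L

/-- The fixed points of `F` modulo `L`. -/
def fixF (L E F : Subgroup G) : Subgroup G where
  carrier := {x | x ∈ E ∧ ∀ r ∈ F, x ∈ cmod L r}
  one_mem' := ⟨E.one_mem, fun r _ => (cmod L r).one_mem⟩
  mul_mem' := fun hx hy => ⟨E.mul_mem hx.1 hy.1, fun r hr => (cmod L r).mul_mem (hx.2 r hr) (hy.2 r hr)⟩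
  inv_mem' := fun hx => ⟨E.inv_mem hx.1, fun r hr => (cmod L r).inv_mem (hx.2 r hr)⟩

theorem mem_fixF {L E F : Subgroup G} {x : G} : x ∈ fixF L E F ↔ x ∈ E ∧ ∀ r ∈ F, x ∈ cmod L r :=
  Iff.rfl

theorem fixF_le {L E F : Subgroup G} : fixF L E F ≤ E := fun _ h => h.1

theorem fixF_anti {L E F F' : Subgroup G} (h : F' ≤ F) : fixF L E F ≤ fixF L E F' :=
  fun _ hx => ⟨hx.1, fun r hr => hx.2 r (h hr)⟩

variable {p : ℕ} {L E F : Subgroup G} {ν : G → ℂ}

theorem Acts.le_fixF (hA : Acts p L E ν F) (hB : Base p L E ν) : L ≤ fixF L E F :=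
  fun _ hx => ⟨hB.le hx, fun _ hr => le_cmod (hA.normL hr) hx⟩

theorem Acts.mem_cmod (hA : Acts p L E ν F) {r r' : G} (hr : r ∈ F) (hr' : r' ∈ F) :
    r' ∈ cmod L r :=
  ⟨hA.normL hr', hA.comm r hr r' hr'⟩

theorem Acts.mono (hA : Acts p L E ν F) {F' : Subgroup G} (hL : L ≤ F') (h : F' ≤ F) :
    Acts p L E ν F' :=
  ⟨hL, h.trans hA.normL, h.trans hA.normE, fun r hr => hA.pow r (h hr),
    fun r hr => hA.fix r (h hr), fun r hr r' hr' => hA.comm r (h hr) r' (h hr')⟩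

theorem Acts.norm_fixF (hA : Acts p L E ν F) {F' : Subgroup G} (hF' : F' ≤ F) {s : G}
    (hs : s ∈ F) : s ∈ Subgroup.normalizer (fixF L E F' : Set G) := by
  refine normalizer_of_conj_mem fun x hx => ⟨(Subgroup.mem_normalizer_iff.1 (hA.normE hs) x).1 hx.1,
    fun r hr => ?_⟩
  have h1 : s ∈ cmod L r := hA.mem_cmod (hF' hr) hs
  exact (cmod L r).mul_mem ((cmod L r).mul_mem h1 (hx.2 r hr)) ((cmod L r).inv_mem h1)

/-- Splitting off one operator. -/
theorem exists_split (hA : Acts p L E ν F) (hne : F ≠ L) :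
    ∃ (F' : Subgroup G) (s : G), L ≤ F' ∧ F' < F ∧ s ∈ F ∧ s ∉ F' ∧ cyc F' s = F := by
  classical
  have hfin : {K : Subgroup G | L ≤ K ∧ K < F}.Finite := Set.toFinite _
  obtain ⟨F', hF'⟩ := hfin.exists_maximal ⟨L, le_rfl, lt_of_le_of_ne hA.le (Ne.symm hne)⟩
  obtain ⟨hLF', hlt⟩ := hF'.prop
  obtain ⟨s, hsF, hsF'⟩ := SetLike.exists_of_lt hlt
  refine ⟨F', s, hLF', hlt, hsF, hsF', ?_⟩
  by_contra hne'
  have h2 : L ≤ cyc F' s ∧ cyc F' s < F :=
    ⟨hLF'.trans le_cyc, lt_of_le_of_ne (cyc_le hlt.le hsF) hne'⟩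
  exact hsF' (hF'.le_of_ge h2 le_cyc self_mem_cyc)

theorem fixp_fixF (hA : Acts p L E ν F) (hB : Base p L E ν) {F' : Subgroup G} {s : G}
    (hsF : s ∈ F) (hF' : F' ≤ F) (hcyc : cyc F' s = F) :
    fixp L (fixF L E F') s = fixF L E F := by
  ext x
  refine ⟨fun hx => ?_, fun hx => Subgroup.mem_inf.2 ⟨fixF_anti hF' hx, hx.2 s hsF⟩⟩
  obtain ⟨hx1, hx2⟩ := Subgroup.mem_inf.1 hx
  refine ⟨hx1.1, fun r hr => mem_cmod_symm (hB.norm hx1.1) ?_⟩
  have h : F ≤ cmod L x := hcyc ▸ cyc_le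
    (fun r' hr' => mem_cmod_symm (hA.normL (hF' hr')) (hx1.2 r' hr'))
    (mem_cmod_symm (hA.normL hsF) hx2)
  exact h hr

theorem Acts.op (hA : Acts p L E ν F) (hB : Base p L E ν) {F' : Subgroup G} {s : G}
    (hLF' : L ≤ F') (hF' : F' ≤ F) (hs : s ∈ F) (hsF' : s ∉ F') :
    Base p L (fixF L E F') ν ∧ Op p L (fixF L E F') ν s :=
  ⟨hB.mono ((hA.mono hLF' hF').le_fixF hB) fixF_le,
    ⟨hA.normL hs, hA.norm_fixF hF' hs, hA.pow s hs, hA.fix s hs, fun h => hsF' (hLF' h)⟩⟩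

theorem fixF_self (hB : Base p L E ν) : fixF L E L = E :=
  le_antisymm fixF_le fun x hx => ⟨hx, fun r hr =>
    mem_cmod_symm (hB.norm hx) (le_cmod (hB.norm hx) hr)⟩

theorem corr_self (hp : p.Prime) {C : Subgroup G} {χ : G → ℂ} (hχ : IrrOn C χ) :
    Corr p C χ χ := by
  classical
  refine ⟨hχ, ?_, fun γ hγ hne => ?_⟩
  · rw [mu_irr ⟨χ, hχ⟩ ⟨χ, hχ⟩, if_pos rfl]
    exact hp.not_dvd_one
  · rw [mu_irr ⟨χ, hχ⟩ ⟨γ, hγ⟩, if_neg fun e => hne (congrArg Subtype.val e).symm]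
    exact dvd_zero p

/-- The correspondence is defined, injective and surjective. -/
theorem corr_all (hB : Base p L E ν) : ∀ {F : Subgroup G}, Acts p L E ν F →
    (∀ χ, IrrOn E χ → Over L ν χ → (∀ r ∈ F, cj r χ = χ) →
        ∃ β, Corr p (fixF L E F) χ β ∧ Over L ν β) ∧
    (∀ χ χ' β, IrrOn E χ → IrrOn E χ' → Over L ν χ → Over L ν χ' → (∀ r ∈ F, cj r χ = χ) →
        (∀ r ∈ F, cj r χ' = χ') → Corr p (fixF L E F) χ β → Corr p (fixF L E F) χ' β → χ = χ') ∧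
    (∀ β, IrrOn (fixF L E F) β → Over L ν β →
        ∃ χ, IrrOn E χ ∧ Over L ν χ ∧ (∀ r ∈ F, cj r χ = χ) ∧ Corr p (fixF L E F) χ β) := by
  intro F
  induction F using WellFoundedLT.induction with
  | ind F ih =>
    intro hA
    haveI := hB.prime
    by_cases hFL : F = L
    · subst hFL
      rw [fixF_self hB]
      refine ⟨fun χ hχ ho _ => ⟨χ, corr_self hB.prime.out hχ, ho⟩,
        fun χ χ' β hχ hχ' _ _ _ _ h h' => ?_, fun β hβ ho => ⟨β, hβ, ho,
          fun r hr => cj_of_mem hβ (hB.le hr), corr_self hB.prime.out hβ⟩⟩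
      rw [← (corr_self hB.prime.out hχ).unique h] at h'
      exact ((corr_self hB.prime.out hχ').unique h').symm
    obtain ⟨F', s, hLF', hlt, hsF, hsF', hcyc⟩ := exists_split hA hFL
    obtain ⟨hex', hinj', hsur'⟩ := ih F' hlt (hA.mono hLF' hlt.le)
    obtain ⟨hB', hs'⟩ := hA.op hB hLF' hlt.le hsF hsF'
    have hfix := fixp_fixF hA hB hsF hlt.le hcyc
    have hsn := hA.norm_fixF hlt.le hsF
    have hle : fixF L E F' ≤ E := fixF_le
    -- the correspondent over `F'` is fixed by `s`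
    have key : ∀ χ, IrrOn E χ → Over L ν χ → (∀ r ∈ F, cj r χ = χ) → ∃ θ β,
        Corr p (fixF L E F') χ θ ∧ Over L ν θ ∧ cj s θ = θ ∧
          Corr p (fixp L (fixF L E F') s) θ β ∧ Over L ν β ∧ Corr p (fixF L E F) χ β := by
      intro χ hχ ho hinv
      obtain ⟨θ, hθ, hθo⟩ := hex' χ hχ ho fun r hr => hinv r (hlt.le hr)
      have hθs : cj s θ = θ := by
        have := hθ.cj hsn
        rw [hinv s hsF] at this
        exact this.unique hθ
      obtain ⟨β, hβ, hβo⟩ := step_exists hB' hs' hθ.1 hθo hθs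
      refine ⟨θ, β, hθ, hθo, hθs, hβ, hβo, ?_⟩
      have h := Corr.trans (hχ.charOn_le hle) fixp_le hθ hβ
      rwa [hfix] at h
    refine ⟨fun χ hχ ho hinv => ?_, fun χ χ' β hχ hχ' ho ho' hinv hinv' h h' => ?_,
      fun β hβ ho => ?_⟩
    · obtain ⟨θ, β, -, -, -, -, hβo, hβ⟩ := key χ hχ ho hinv
      exact ⟨β, hβ, hβo⟩
    · obtain ⟨θ, β₁, hθ, hθo, hθs, h₁, -, hβ₁⟩ := key χ hχ ho hinv
      obtain ⟨θ', β₂, hθ', hθo', hθs', h₂, -, hβ₂⟩ := key χ' hχ' ho' hinv'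
      have e : β₂ = β₁ := (hβ₂.unique h').trans (hβ₁.unique h).symm
      rw [e] at h₂
      have := step_inj hB' hs' hθ.1 hθ'.1 hθo hθo' hθs hθs' h₁ h₂
      subst this
      exact hinj' χ χ' θ hχ hχ' ho ho' (fun r hr => hinv r (hlt.le hr))
        (fun r hr => hinv' r (hlt.le hr)) hθ hθ'
    · rw [← hfix] at hβ
      obtain ⟨θ, hθ, hθo, hθs, h₁⟩ := step_surj hB' hs' hβ ho
      obtain ⟨χ, hχ, hχo, hinv, h₂⟩ := hsur' θ hθ hθo
      have hχs : cj s χ = χ := by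
        refine hinj' (cj s χ) χ θ (hχ.cj (hA.normE hsF)) hχ
          (hχo.cj (hA.normL hsF) (hA.fix s hsF)) hχo (fun r hr => ?_) hinv ?_ h₂
        · have hr' : s * r * s⁻¹ ∈ F' := by
            have h := F'.mul_mem (hLF' (hA.comm s hsF r (hlt.le hr))) hr
            simpa [mul_assoc] using h
          rw [cj_cj]
          conv_rhs => rw [← hinv _ hr']
          rw [cj_cj]
          simp [mul_assoc]
        · have := h₂.cj hsn
          rwa [hθs] at this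
      let S : Subgroup G :=
        { carrier := {r | cj r χ = χ}
          one_mem' := cj_one χ
          mul_mem' := fun {x y} (hx : cj x χ = χ) (hy : cj y χ = χ) => by
            show cj (x * y) χ = χ
            rw [← cj_cj, hx, hy]
          inv_mem' := fun {x} (hx : cj x χ = χ) => by
            show cj x⁻¹ χ = χ
            conv_lhs => rw [← hx]
            rw [cj_cj, mul_inv_cancel, cj_one] }
      refine ⟨χ, hχ, hχo, fun r hr => ?_, ?_⟩
      · exact (cyc_le (H := S) (fun r hr => hinv r hr) hχs) (hcyc.symm ▸ hr)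
      · have h := Corr.trans (hχ.charOn_le hle) fixp_le h₂ h₁
        rwa [hfix] at h

end Cfsg.Agent.Rel80
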