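import Cfsg.Agent.Lib.Rel80Basic

/-!
# Multiplicities and correspondents modulo `p`
-/

set_option autoImplicit false
set_option linter.unusedSectionVars false

open scoped ComplexConjugate

namespace Cfsg.Agent.Rel80

open Cfsg Cfsg.Agent.CharBasic

universe u

variable {G : Type u} [Group G] [Fintype G]

/-- The multiplicity of `g` in `f` on `H`. -/
noncomputable def mu (H : Subgroup G) (f g : G → ℂ) : ℕ := ⌊(inn H f g).re⌋₊

theorem mu_cast {H : Subgroup G} {f g : G → ℂ} (hf : CharOn H f) (hg : CharOn H g) :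
    (mu H f g : ℂ) = inn H f g := by
  obtain ⟨m, hm⟩ := exists_inn_nat hf hg
  rw [mu, hm, Complex.natCast_re, Nat.floor_natCast]

theorem mu_ne_zero_iff {H : Subgroup G} {f g : G → ℂ} (hf : CharOn H f) (hg : CharOn H g) :
    mu H f g ≠ 0 ↔ inn H f g ≠ 0 := by
  rw [← mu_cast hf hg, Nat.cast_ne_zero]

theorem mu_congr {H : Subgroup G} {f f' g : G → ℂ} (h : ∀ x ∈ H, f x = f' x) :
    mu H f g = mu H f' g := by
  rw [mu, mu, inn_congr h fun _ _ => rfl]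

theorem mu_eq {H : Subgroup G} {f g : G → ℂ} {m : ℕ} (h : inn H f g = m) : mu H f g = m := by
  rw [mu, h, Complex.natCast_re, Nat.floor_natCast]

theorem mu_irr {H : Subgroup G} (γ δ : Irr H) [Decidable (γ = δ)] :
    mu H γ.1 δ.1 = if γ = δ then 1 else 0 :=
  mu_eq (by rw [inn_irr]; split_ifs <;> simp)

theorem mu_cj {H : Subgroup G} {b : G} (hb : b ∈ Subgroup.normalizer (H : Set G))
    (f g : G → ℂ) : mu H (cj b f) (cj b g) = mu H f g := by
  rw [mu, mu, inn_cj hb]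

/-- Multiplicities compose. -/
theorem mu_trans {H C : Subgroup G} {f g : G → ℂ} (hf : CharOn H f) (hCH : C ≤ H)
    (hg : CharOn C g) : mu C f g = ∑ γ : Irr H, mu H f γ.1 * mu C γ.1 g := by
  refine mu_eq ?_
  rw [inn_decomp hf hCH]
  push_cast
  exact Finset.sum_congr rfl fun γ _ => by
    rw [mu_cast hf γ.2.charOn, mu_cast (γ.2.charOn_le hCH) hg]

theorem mu_pos_trans {H C : Subgroup G} {f g : G → ℂ} (hf : CharOn H f) (hCH : C ≤ H)
    (hg : CharOn C g) {γ : G → ℂ} (hγ : IrrOn H γ) (h1 : mu H f γ ≠ 0) (h2 : mu C γ g ≠ 0) :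
    mu C f g ≠ 0 := by
  rw [mu_trans hf hCH hg]
  intro h
  rcases mul_eq_zero.1 (Finset.sum_eq_zero_iff.1 h ⟨γ, hγ⟩ (Finset.mem_univ _)) with e | e
  exacts [h1 e, h2 e]

theorem exists_mu_trans {H C : Subgroup G} {f g : G → ℂ} (hf : CharOn H f) (hCH : C ≤ H)
    (hg : CharOn C g) (h : mu C f g ≠ 0) :
    ∃ γ : Irr H, mu H f γ.1 ≠ 0 ∧ mu C γ.1 g ≠ 0 := by
  rw [mu_trans hf hCH hg] at h
  obtain ⟨γ, -, hγ⟩ := Finset.exists_ne_zero_of_sum_ne_zero h
  exact ⟨γ, left_ne_zero_of_mul hγ, right_ne_zero_of_mul hγ⟩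

theorem exists_constituent {H : Subgroup G} {f : G → ℂ} (hf : CharOn H f) (h1 : f 1 ≠ 0) :
    ∃ γ : Irr H, mu H f γ.1 ≠ 0 := by
  by_contra hno
  push Not at hno
  apply h1
  rw [decomp hf H.one_mem]
  exact Finset.sum_eq_zero fun γ _ => by rw [← mu_cast hf γ.2.charOn, hno γ, Nat.cast_zero, zero_mul]

theorem apply_one_decomp {H : Subgroup G} {f : G → ℂ} (hf : CharOn H f) :
    f 1 = ∑ γ : Irr H, (mu H f γ.1 : ℂ) * γ.1 1 := by
  rw [decomp hf H.one_mem]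
  exact Finset.sum_congr rfl fun γ _ => by rw [mu_cast hf γ.2.charOn]

/-- `f` lies over `ν`. -/
def Over (L : Subgroup G) (ν f : G → ℂ) : Prop := mu L f ν ≠ 0

theorem Over.inn_ne {L : Subgroup G} {ν f : G → ℂ} (h : Over L ν f) (hf : CharOn L f)
    (hν : IrrOn L ν) : inn L f ν ≠ 0 := (mu_ne_zero_iff hf hν.charOn).1 h

/-- An invariant constituent is the only one. -/
theorem eq_of_over {L H : Subgroup G} (hLH : L ≤ H) (hn : H ≤ Subgroup.normalizer (L : Set G))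
    {ν φ f : G → ℂ} (hf : IrrOn H f) (hν : IrrOn L ν) (hinv : ∀ x ∈ H, cj x ν = ν)
    (ho : Over L ν f) (hφ : IrrOn L φ) (h : mu L f φ ≠ 0) : φ = ν := by
  by_contra hne
  refine h (mu_eq (m := 0) ?_)
  rw [inn_congr (res_invariant hLH hn hf hν hinv (ho.inn_ne (hf.charOn_le hLH) hν))
    (fun _ _ => rfl), inn_smul_left, inn_ne hν hφ (Ne.symm hne), mul_zero, Nat.cast_zero]

/-- Constituents of a character over an invariant `ν` lie over `ν`. -/
theorem over_constituent {L C H : Subgroup G} (hLC : L ≤ C) (hCH : C ≤ H)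
    (hn : H ≤ Subgroup.normalizer (L : Set G)) {ν φ f : G → ℂ} (hf : IrrOn H f)
    (hν : IrrOn L ν) (hinv : ∀ x ∈ H, cj x ν = ν) (ho : Over L ν f) (hφ : IrrOn C φ)
    (h : mu C f φ ≠ 0) : Over L ν φ := by
  obtain ⟨δ, hδ⟩ := exists_constituent (hφ.charOn_le hLC) (apply_one_ne_zero hφ)
  have h2 := mu_pos_trans (hf.charOn_le hCH) hLC δ.2.charOn hφ h hδ
  have e := eq_of_over (hLC.trans hCH) hn hf hν hinv ho δ.2 h2
  rw [e] at hδ
  exact hδ

theorem over_of_constituent {L C H : Subgroup G} (hLC : L ≤ C) (hCH : C ≤ H)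
    {ν φ f : G → ℂ} (hf : IrrOn H f) (hν : IrrOn L ν) (hφ : IrrOn C φ) (ho : Over L ν φ)
    (h : mu C f φ ≠ 0) : Over L ν f :=
  mu_pos_trans (hf.charOn_le hCH) hLC hν.charOn hφ h ho

theorem Over.cj {L : Subgroup G} {ν f : G → ℂ} (h : Over L ν f) {b : G}
    (hb : b ∈ Subgroup.normalizer (L : Set G)) (hbν : Rel80.cj b ν = ν) :
    Over L ν (Rel80.cj b f) := by
  unfold Over at h ⊢
  rwa [← hbν, mu_cj hb]

/-- The degree over an invariant character. -/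
theorem exists_degree_over {L H : Subgroup G} (hLH : L ≤ H)
    (hn : H ≤ Subgroup.normalizer (L : Set G)) {ν f : G → ℂ} (hf : IrrOn H f) (hν : IrrOn L ν)
    (ho : Over L ν f) : ∃ k : ℕ, k ∣ L.relIndex H ∧ charDegree f = charDegree ν * k := by
  obtain ⟨k, hk, hdvd⟩ := degree_dvd hLH hn hf hν (ho.inn_ne (hf.charOn_le hLH) hν)
  refine ⟨k, hdvd, ?_⟩
  rw [apply_one_eq_deg hf, apply_one_eq_deg hν] at hk
  exact_mod_cast hk

/-- `β` is the constituent on `C` of multiplicity prime to `p`, the only one. -/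
def Corr (p : ℕ) (C : Subgroup G) (f β : G → ℂ) : Prop :=
  IrrOn C β ∧ ¬ p ∣ mu C f β ∧ ∀ γ : G → ℂ, IrrOn C γ → γ ≠ β → p ∣ mu C f γ

theorem Corr.unique {p : ℕ} {C : Subgroup G} {f β β' : G → ℂ} (h : Corr p C f β)
    (h' : Corr p C f β') : β = β' :=
  by_contra fun hne => h.2.1 (h'.2.2 β h.1 hne)

theorem Corr.eq_of_not_dvd {p : ℕ} {C : Subgroup G} {f β γ : G → ℂ} (h : Corr p C f β)
    (hγ : IrrOn C γ) (hd : ¬ p ∣ mu C f γ) : γ = β :=
  by_contra fun hne => hd (h.2.2 γ hγ hne)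

theorem Corr.congr {p : ℕ} {C : Subgroup G} {f f' β : G → ℂ} (h : Corr p C f β)
    (hff : ∀ x ∈ C, f x = f' x) : Corr p C f' β := by
  refine ⟨h.1, ?_, fun γ hγ hne => ?_⟩ <;> rw [← mu_congr hff]
  exacts [h.2.1, h.2.2 γ hγ hne]

theorem Corr.cj {p : ℕ} {C : Subgroup G} {f β : G → ℂ} (h : Corr p C f β) {b : G}
    (hb : b ∈ Subgroup.normalizer (C : Set G)) :
    Corr p C (Rel80.cj b f) (Rel80.cj b β) := by
  refine ⟨h.1.cj hb, by rw [mu_cj hb]; exact h.2.1, fun γ hγ hne => ?_⟩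
  have e : γ = Rel80.cj b (Rel80.cj b⁻¹ γ) := by rw [cj_cj, inv_mul_cancel, cj_one]
  have hγ' := hγ.cj (Subgroup.inv_mem _ hb)
  rw [e, mu_cj hb]
  exact h.2.2 _ hγ' fun e' => hne (by rw [e, e'])

theorem Corr.trans {p : ℕ} [hp : Fact p.Prime] {H C : Subgroup G} {f β' β : G → ℂ}
    (hf : CharOn H f) (hCH : C ≤ H) (h1 : Corr p H f β') (h2 : Corr p C β' β) :
    Corr p C f β := by
  classical
  have key : ∀ γ : G → ℂ, IrrOn C γ →
      mu C f γ % p = mu H f β' * mu C β' γ % p := by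
    intro γ hγ
    rw [mu_trans hf hCH hγ.charOn,
      ← Finset.add_sum_erase _ _ (Finset.mem_univ (⟨β', h1.1⟩ : Irr H)), Nat.add_mod,
      Nat.dvd_iff_mod_eq_zero.1 (Finset.dvd_sum fun δ hδ =>
        (h1.2.2 δ.1 δ.2 fun e => (Finset.mem_erase.1 hδ).1 (Subtype.ext e)).mul_right _),
      add_zero, Nat.mod_mod]
  refine ⟨h2.1, ?_, fun γ hγ hne => ?_⟩
  · rw [Nat.dvd_iff_mod_eq_zero, key β h2.1, ← Nat.dvd_iff_mod_eq_zero, hp.out.dvd_mul]
    exact not_or_intro h1.2.1 h2.2.1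
  · rw [Nat.dvd_iff_mod_eq_zero, key γ hγ, ← Nat.dvd_iff_mod_eq_zero]
    exact (h2.2.2 γ hγ hne).mul_left _

theorem Corr.mu_ne_zero {p : ℕ} {C : Subgroup G} {f β : G → ℂ} (h : Corr p C f β) :
    mu C f β ≠ 0 := fun e => h.2.1 (e ▸ dvd_zero p)

end Cfsg.Agent.Rel80
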