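import Cfsg.Agent.Lib.Rel80Cyclic
import Cfsg.Agent.Lib.Rel80Mult

/-!
# The commutator pairing of a character

`phi K θ a b` averages `θ` over the commutators of the cosets `b * K` and `a * K`. It is the scalar
by which `b` moves an extension of `θ` to `cyc K a` when both fix `θ`, and zero otherwise.
-/

set_option autoImplicit false
set_option linter.unusedSectionVars false

open scoped ComplexConjugate

namespace Cfsg.Agent.Rel80

open Cfsg

universe u

variable {G : Type u} [Group G] [Fintype G]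

/-- The pairing. -/
noncomputable def phi (K : Subgroup G) (θ : G → ℂ) (a b : G) : ℂ :=
  θ 1 / (Nat.card K : ℂ) ^ 2 *
    ∑ k ∈ el K, ∑ l ∈ el K, θ (b * l * (a * k) * (b * l)⁻¹ * (a * k)⁻¹)

variable {K : Subgroup G} {θ : G → ℂ} {a b : G}

theorem mul_mem_cmod {k l : G} (ha : a ∈ Subgroup.normalizer (K : Set G))
    (hb : b ∈ Subgroup.normalizer (K : Set G)) (hk : k ∈ K) (hl : l ∈ K) :
    a * k ∈ cmod K (b * l) ↔ a ∈ cmod K b := by
  have hak : a * k ∈ Subgroup.normalizer (K : Set G) :=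
    Subgroup.mul_mem _ ha (Subgroup.le_normalizer hk)
  have hbl : b * l ∈ Subgroup.normalizer (K : Set G) :=
    Subgroup.mul_mem _ hb (Subgroup.le_normalizer hl)
  constructor
  · intro h
    have h1 : a ∈ cmod K (b * l) := by
      simpa using (cmod K (b * l)).mul_mem h (le_cmod hbl (K.inv_mem hk))
    have h2 : b ∈ cmod K a := by
      simpa using (cmod K a).mul_mem (mem_cmod_symm hbl h1) (le_cmod ha (K.inv_mem hl))
    exact mem_cmod_symm ha h2
  · intro h
    have h1 : b * l ∈ cmod K a := (cmod K a).mul_mem (mem_cmod_symm hb h) (le_cmod ha hl)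
    exact (cmod K (b * l)).mul_mem (mem_cmod_symm ha h1) (le_cmod hbl hk)

theorem phi_eq_zero_of_comm (hθ : IrrOn K θ) (ha : a ∈ Subgroup.normalizer (K : Set G))
    (hb : b ∈ Subgroup.normalizer (K : Set G)) (h : a ∉ cmod K b) : phi K θ a b = 0 := by
  rw [phi, Finset.sum_eq_zero, mul_zero]
  intro k hk
  refine Finset.sum_eq_zero fun l hl => hθ.2 _ fun hmem => h ?_
  exact (mul_mem_cmod ha hb (mem_el.1 hk) (mem_el.1 hl)).1
    ⟨Subgroup.mul_mem _ ha (Subgroup.le_normalizer (mem_el.1 hk)), hmem⟩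

theorem phi_swap (hθ : IrrOn K θ) : phi K θ b a = conj (phi K θ a b) := by
  have hd : conj (θ 1) = θ 1 := by rw [← apply_inv hθ, inv_one]
  simp only [phi, map_mul, map_div₀, map_pow, map_natCast, map_sum, hd]
  rw [Finset.sum_comm]
  refine congrArg _ (Finset.sum_congr rfl fun k _ => Finset.sum_congr rfl fun l _ => ?_)
  rw [← apply_inv hθ]
  simp [mul_assoc]

theorem phi_mul_self (ha : a ∈ Subgroup.normalizer (K : Set G)) :
    phi K θ a (b * a) = phi K θ a b := by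
  rw [phi, phi]
  refine congrArg _ (Finset.sum_congr rfl fun k hk => ?_)
  rw [← sum_el_conj ha fun l => θ (b * l * (a * k) * (b * l)⁻¹ * (a * k)⁻¹)]
  conv_lhs => rw [← sum_el_mul_right (mem_el.1 hk)]
  refine Finset.sum_congr rfl fun l _ => congrArg θ ?_
  group

theorem phi_mul_right {c : G} (hc : c ∈ K) : phi K θ a (b * c) = phi K θ a b := by
  rw [phi, phi]
  refine congrArg _ (Finset.sum_congr rfl fun k _ => ?_)
  rw [← sum_el_mul_left hc fun l => θ (b * l * (a * k) * (b * l)⁻¹ * (a * k)⁻¹)]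
  simp only [mul_assoc]

/-- Twisted sums of a character not fixed by `a` vanish. -/
theorem sum_twisted {ψ : G → ℂ} (hψ : IrrOn K ψ) {d : G}
    (ha : a ∈ Subgroup.normalizer (K : Set G)) (hne : cj a ψ ≠ ψ) (hd : a * d ∈ K) :
    ∑ l ∈ el K, ψ (l * a * l⁻¹ * d) = 0 := by
  have hai := Subgroup.inv_mem _ ha
  have hw : ∀ l ∈ el K, l * a * l⁻¹ * a⁻¹ ∈ K := by
    intro l hl
    have h := K.mul_mem (mem_el.1 hl) ((mem_conj_iff ha l⁻¹).2 (K.inv_mem (mem_el.1 hl)))
    simpa [mul_assoc] using h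
  have hmem : ∀ l ∈ el K, l * a * l⁻¹ * d ∈ K := fun l hl => by
    simpa [mul_assoc] using K.mul_mem (hw l hl) hd
  have hne' : cj a⁻¹ ψ ≠ ψ := fun h => hne (by
    conv_lhs => rw [← h]
    rw [cj_cj, inv_mul_cancel, cj_one])
  have h2 : ∑ l ∈ el K, ∑ m ∈ el K, ψ m * ψ (m⁻¹ * (l * a * l⁻¹ * d)) = 0 := by
    rw [Finset.sum_comm,
      Finset.sum_congr rfl fun m hm => (sum_el_mul_left (mem_el.1 hm) _).symm, Finset.sum_comm]
    refine Finset.sum_eq_zero fun l hl => ?_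
    have hz : ∀ m ∈ el K, ψ m * ψ (m⁻¹ * (m * l * a * (m * l)⁻¹ * d)) =
        cj a⁻¹ ψ (a * m * a⁻¹) * ψ ((a * m * a⁻¹)⁻¹ * ((a * d) * (l * a * l⁻¹ * a⁻¹))) := by
      intro m hm
      have h1 : cj a⁻¹ ψ (a * m * a⁻¹) = ψ m := congrArg ψ (by group)
      rw [h1]
      refine congrArg _ ?_
      have hx : (a * m * a⁻¹)⁻¹ * (a * d) ∈ K :=
        K.mul_mem (K.inv_mem ((mem_conj_iff ha _).2 (mem_el.1 hm))) hd
      have h3 := charOn_apply_conj hψ.charOn (hw l hl) (K.mul_mem hx (hw l hl))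
      simp only [mul_assoc, mul_inv_rev, inv_inv] at h3 ⊢
      refine Eq.trans (congrArg ψ ?_) h3
      simp [mul_assoc]
    rw [Finset.sum_congr rfl hz,
      sum_el_conj ha fun m => cj a⁻¹ ψ m * ψ (m⁻¹ * ((a * d) * (l * a * l⁻¹ * a⁻¹))),
      sum_convolution (hψ.cj hai) hψ (K.mul_mem hd (hw l hl)), inn_ne (hψ.cj hai) hψ hne',
      mul_zero, zero_mul, zero_div]
  rw [Finset.sum_congr rfl fun l hl => sum_convolution hψ hψ (hmem l hl), inn_self hψ, mul_one,
    ← Finset.sum_div, ← Finset.mul_sum, div_eq_zero_iff] at h2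
  exact (mul_eq_zero.1 (h2.resolve_right (apply_one_ne_zero hψ))).resolve_left (card_ne_zero K)

theorem cj_eq_self_of_comm (hθ : IrrOn K θ) (ha : a ∈ Subgroup.normalizer (K : Set G))
    (hb : b ∈ Subgroup.normalizer (K : Set G)) (hba : a ∈ cmod K b) {k : G} (hk : k ∈ K)
    (h : cj (a * k) (cj b θ) = cj b θ) : cj a θ = θ := by
  have h1 := congrArg (cj b⁻¹) h
  simp only [cj_cj, mul_inv_cancel, cj_one] at h1
  have e : b * (a * k) * b⁻¹ = (b * a * b⁻¹ * a⁻¹) * a * (b * k * b⁻¹) := by simp [mul_assoc]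
  rw [e, ← cj_cj (b * k * b⁻¹) (b * a * b⁻¹ * a⁻¹ * a) θ, ← cj_cj a (b * a * b⁻¹ * a⁻¹) θ,
    cj_of_mem hθ hba.2,
    cj_of_mem (hθ.cj ha) ((mem_conj_iff hb _).2 hk)] at h1
  exact h1

theorem cyc_mul_right (ha : a ∈ Subgroup.normalizer (K : Set G)) {k : G} (hk : k ∈ K) :
    cyc K (a * k) = cyc K a := by
  refine le_antisymm (cyc_le le_cyc ((cyc K a).mul_mem self_mem_cyc (le_cyc hk)))
    (cyc_le le_cyc ?_)
  simpa using (cyc K (a * k)).mul_mem self_mem_cyc (le_cyc (K.inv_mem hk))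

/-- The pairing vanishes unless `a` fixes `θ`. -/
theorem phi_eq_zero_of_not_fixed (hθ : IrrOn K θ) (ha : a ∈ Subgroup.normalizer (K : Set G))
    (hb : b ∈ Subgroup.normalizer (K : Set G)) (h : cj a θ ≠ θ) : phi K θ a b = 0 := by
  by_cases hba : a ∈ cmod K b
  swap
  · exact phi_eq_zero_of_comm hθ ha hb hba
  rw [phi, Finset.sum_eq_zero, mul_zero]
  intro k hk
  have hk := mem_el.1 hk
  have hak : a * k ∈ Subgroup.normalizer (K : Set G) :=
    Subgroup.mul_mem _ ha (Subgroup.le_normalizer hk)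
  have hd : a * k * (b⁻¹ * (a * k)⁻¹ * b) ∈ K := by
    have h1 := (mul_mem_cmod (k := k) (l := (1 : G)) ha hb hk K.one_mem).2 hba
    rw [mul_one] at h1
    have h2 := (mem_conj_iff (Subgroup.inv_mem _ hb) _).2 h1.2
    simpa [mul_assoc] using h2
  rw [← sum_twisted (hθ.cj hb) hak (fun e => h (cj_eq_self_of_comm hθ ha hb hba hk e)) hd]
  refine Finset.sum_congr rfl fun l _ => ?_
  exact congrArg θ (by group)

theorem phi_eq_zero_of_not_fixed' (hθ : IrrOn K θ) (ha : a ∈ Subgroup.normalizer (K : Set G))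
    (hb : b ∈ Subgroup.normalizer (K : Set G)) (h : cj b θ ≠ θ) : phi K θ a b = 0 := by
  rw [phi_swap hθ, phi_eq_zero_of_not_fixed hθ hb ha h, map_zero]

/-- The pairing through an extension to `cyc K a`. -/
theorem phi_eq_co (hθ : IrrOn K θ) (ha : a ∈ Subgroup.normalizer (K : Set G))
    (hb : b ∈ Subgroup.normalizer (K : Set G)) (hba : a ∈ cmod K b) {χ : G → ℂ}
    (hχ : Ext K a θ χ) : phi K θ a b = co K a (cj b χ) χ := by
  classical
  have hχ' := hχ.cj ha hb hba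
  have hd0 := apply_one_ne_zero hθ
  have key : ∀ k ∈ el K, ∑ l ∈ el K, θ (b * l * (a * k) * (b * l)⁻¹ * (a * k)⁻¹) =
      (Nat.card K : ℂ) * cj b χ (a * k) * conj (χ (a * k)) / θ 1 := by
    intro k hk
    rw [mem_el] at hk
    have hak : a * k ∈ Subgroup.normalizer (K : Set G) :=
      Subgroup.mul_mem _ ha (Subgroup.le_normalizer hk)
    set a' := a * k
    have hE : cyc K a' = cyc K a := cyc_mul_right ha hk
    have ha' : a' ∈ cyc K a := hE ▸ self_mem_cyc
    have hd : b⁻¹ * a'⁻¹ * b ∈ cyc K a :=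
      (Subgroup.mem_normalizer_iff''.1 (cj_cyc ha hb hba) _).1 ((cyc K a).inv_mem ha')
    have hT : Subgroup.zpowers a' ≤ cyc K a := Subgroup.zpowers_le.2 ha'
    have hsp : ∀ F : G → ℂ, ∑ l ∈ el K, ∑ t ∈ el (Subgroup.zpowers a'), F (l * t) =
        (Nat.card (K ⊓ Subgroup.zpowers a' : Subgroup G) : ℂ) * ∑ e ∈ el (cyc K a), F e :=
      fun F => sum_prod le_cyc hT (fun e he => cyc_mul_mem hak (hE.symm ▸ he)) F
    have h1 := hsp fun e => cj b χ (e * a' * e⁻¹ * (b⁻¹ * a'⁻¹ * b))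
    have h1' : ∀ l ∈ el K, ∀ t ∈ el (Subgroup.zpowers a'),
        cj b χ (l * t * a' * (l * t)⁻¹ * (b⁻¹ * a'⁻¹ * b)) =
          cj b χ (l * a' * l⁻¹ * (b⁻¹ * a'⁻¹ * b)) := by
      intro l _ t ht
      obtain ⟨i, rfl⟩ := Subgroup.mem_zpowers_iff.1 (mem_el.1 ht)
      exact congrArg (cj b χ) (by group)
    rw [Finset.sum_congr rfl fun l hl => Finset.sum_congr rfl (h1' l hl),
      sum_conj_mul hχ'.1 ha' hd] at h1
    simp only [Finset.sum_const, nsmul_eq_mul, card_el, ← Finset.mul_sum] at h1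
    have h2 := hsp fun _ => 1
    simp only [Finset.sum_const, nsmul_eq_mul, card_el, mul_one] at h2
    have h3 : ∀ l ∈ el K, cj b χ (l * a' * l⁻¹ * (b⁻¹ * a'⁻¹ * b)) =
        θ (b * l * a' * (b * l)⁻¹ * a'⁻¹) := by
      intro l hl
      have e : b * (l * a' * l⁻¹ * (b⁻¹ * a'⁻¹ * b)) * b⁻¹ = b * l * a' * (b * l)⁻¹ * a'⁻¹ := by
        group
      show χ _ = _
      rw [e]
      exact hχ.2 _ ((mul_mem_cmod ha hb hk (mem_el.1 hl)).2 hba).2
    rw [Finset.sum_congr rfl h3, show cj b χ (b⁻¹ * a'⁻¹ * b) = conj (χ a') from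
      (congrArg χ (by group)).trans (apply_inv hχ.1 a'),
      show cj b χ 1 = θ 1 from (congrArg χ (by simp)).trans (hχ.2 1 K.one_mem)] at h1
    refine mul_left_cancel₀ (card_ne_zero (Subgroup.zpowers a')) ?_
    rw [h1, ← mul_div_assoc, ← mul_div_assoc]
    congr 1
    linear_combination (-(cj b χ a' * conj (χ a'))) * h2
  rw [phi, Finset.sum_congr rfl key, co, ← Finset.sum_div]
  simp only [mul_assoc, ← Finset.mul_sum]
  field_simp [card_ne_zero K]

/-- An irreducible character whose restriction to the base is irreducible restricts irreducibly. -/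
theorem ext_res (hθ : IrrOn K θ) (ha : a ∈ Subgroup.normalizer (K : Set G))
    {H : Subgroup G} (hle : cyc K a ≤ H) {χ : G → ℂ} (hχ : IrrOn H χ)
    (hres : ∀ x ∈ K, χ x = θ x) (hinv : cj a θ = θ) : Ext K a θ (res (cyc K a) χ) := by
  classical
  obtain ⟨e, he⟩ := exists_ext ha hθ hinv
  have hc := hχ.charOn_le hle
  have h1 : mu K χ θ ≠ 0 := by
    rw [mu_congr hres, mu_irr ⟨θ, hθ⟩ ⟨θ, hθ⟩, if_pos rfl]
    exact one_ne_zero
  obtain ⟨γ, hγ1, hγ2⟩ := exists_mu_trans hc le_cyc hθ.charOn h1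
  obtain ⟨l, hl, hle'⟩ := exists_twist ha he γ.2
    ((mu_ne_zero_iff (γ.2.charOn_le le_cyc) hθ.charOn).1 hγ2)
  have hγK : ∀ x ∈ K, γ.1 x = θ x := fun x hx => by
    rw [hle']; simp only [(mem_lam.1 hl).2 x hx, one_mul, he.2 x hx]
  have hdeg : (∑ δ : Irr (cyc K a), mu (cyc K a) χ δ.1 * charDegree δ.1 : ℕ) = charDegree γ.1 := by
    have h := apply_one_decomp hc
    rw [hres 1 K.one_mem, ← hγK 1 K.one_mem, apply_one_eq_deg γ.2] at h
    simp only [fun δ : Irr (cyc K a) => apply_one_eq_deg δ.2, ← Nat.cast_mul, ← Nat.cast_sum,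
      Nat.cast_inj] at h
    exact h.symm
  have hpos : ∀ δ : Irr (cyc K a), 0 < charDegree δ.1 := fun δ =>
    Nat.pos_of_ne_zero fun h0 => apply_one_ne_zero δ.2 (by rw [apply_one_eq_deg δ.2, h0, Nat.cast_zero])
  rw [← Finset.add_sum_erase _ _ (Finset.mem_univ γ)] at hdeg
  have hm : mu (cyc K a) χ γ.1 = 1 := by
    have := Nat.le_mul_of_pos_left (charDegree γ.1) (Nat.pos_of_ne_zero hγ1)
    have e : mu (cyc K a) χ γ.1 * charDegree γ.1 ≤ 1 * charDegree γ.1 := by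
      rw [one_mul]; omega
    exact le_antisymm (Nat.le_of_mul_le_mul_right e (hpos γ)) (Nat.pos_of_ne_zero hγ1)
  rw [hm, one_mul, add_eq_left, Finset.sum_eq_zero_iff] at hdeg
  have hval : res (cyc K a) χ = γ.1 := by
    funext x
    by_cases hx : x ∈ cyc K a
    · rw [res_of_mem _ hx, decomp hc hx, ← Finset.add_sum_erase _ _ (Finset.mem_univ γ),
        ← mu_cast hc γ.2.charOn, hm, Nat.cast_one, one_mul, Finset.sum_eq_zero, add_zero]
      intro δ hδ
      rw [← mu_cast hc δ.2.charOn, (Nat.mul_eq_zero.1 (hdeg δ hδ)).resolve_right (hpos δ).ne',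
        Nat.cast_zero, zero_mul]
    · rw [res_of_not_mem _ hx, γ.2.2 x hx]
  rw [hval]
  exact ⟨γ.2, hγK⟩

/-- The pairing of a character with irreducible restriction. -/
theorem phi_restrict {M : Subgroup G} (hKM : K ≤ M) {ψ : G → ℂ} (hθ : IrrOn K θ)
    (hψ : IrrOn M ψ) (hres : ∀ x ∈ K, ψ x = θ x) (ha : a ∈ Subgroup.normalizer (K : Set G))
    (hb : b ∈ Subgroup.normalizer (K : Set G)) (haM : a ∈ Subgroup.normalizer (M : Set G))
    (hbM : b ∈ Subgroup.normalizer (M : Set G)) (hba : a ∈ cmod K b) (haψ : cj a ψ = ψ)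
    (hbψ : cj b ψ = ψ) (haθ : cj a θ = θ) : phi M ψ a b = phi K θ a b := by
  obtain ⟨χ, hχ⟩ : ∃ χ, Ext M a ψ χ := exists_ext haM hψ haψ
  have hbaM : a ∈ cmod M b := ⟨haM, hKM hba.2⟩
  have hχb := hχ.cj haM hbM hbaM
  rw [hbψ] at hχb
  obtain ⟨l, hl, hle⟩ := exists_twist haM hχ hχb.1 (by rw [hχb.inn hψ]; exact one_ne_zero)
  have hsub : cyc K a ≤ cyc M a := cyc_le (hKM.trans le_cyc) self_mem_cyc
  have hχ0 := ext_res hθ ha hsub hχ.1 (fun x hx => (hχ.2 x (hKM hx)).trans (hres x hx)) haθ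
  rw [phi_eq_co hψ haM hbM hbaM hχ, phi_eq_co hθ ha hb hba hχ0,
    co_twist haM hψ hχ hl fun n _ => congrFun hle _]
  have h1 := co_self ha hθ hχ0
  unfold co at h1 ⊢
  have hv : ∀ k ∈ el K, cj b (res (cyc K a) χ) (a * k) *
      conj (res (cyc K a) χ (a * k)) =
      l.1 a * (res (cyc K a) χ (a * k) * conj (res (cyc K a) χ (a * k))) := by
    intro k hk
    rw [mem_el] at hk
    have hm : a * k ∈ cyc K a := (cyc K a).mul_mem self_mem_cyc (le_cyc hk)
    have hm' : b * (a * k) * b⁻¹ ∈ cyc K a :=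
      (Subgroup.mem_normalizer_iff.1 (cj_cyc ha hb hba) _).1 hm
    show res (cyc K a) χ (b * (a * k) * b⁻¹) * _ = _
    rw [res_of_mem _ hm', res_of_mem _ hm, show χ (b * (a * k) * b⁻¹) = l.1 (a * k) * χ (a * k) from
      congrFun hle (a * k), lam_coset hl self_mem_cyc (hKM hk), mul_assoc]
  rw [Finset.sum_congr rfl hv, ← Finset.mul_sum, mul_left_comm, h1, mul_one]

end Cfsg.Agent.Rel80
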