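import Cfsg.Agent.Lib.Rel80Torsor
import Cfsg.Agent.Lib.Rel80Fix
import Cfsg.Agent.Lib.Rel80Phi

/-!
# Extending to a layer of `p`-power index
-/

set_option autoImplicit false
set_option linter.unusedSectionVars false

open scoped ComplexConjugate

namespace Cfsg.Agent.Rel80

open Cfsg

universe u

variable {G : Type u} [Group G] [Fintype G]

/-- A constituent of full degree is the whole restriction. -/
theorem eq_of_degree {C : Subgroup G} {f γ : G → ℂ} (hf : CharOn C f) (hγ : IrrOn C γ)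
    (hm : mu C f γ ≠ 0) (hd : f 1 = γ 1) : ∀ x ∈ C, f x = γ x := by
  classical
  have hdeg : (∑ δ : Irr C, mu C f δ.1 * charDegree δ.1 : ℕ) = charDegree γ := by
    have h := apply_one_decomp hf
    rw [hd, apply_one_eq_deg hγ] at h
    simp only [fun δ : Irr C => apply_one_eq_deg δ.2, ← Nat.cast_mul, ← Nat.cast_sum,
      Nat.cast_inj] at h
    exact h.symm
  have hpos : ∀ δ : Irr C, 0 < charDegree δ.1 := fun δ =>
    Nat.pos_of_ne_zero fun h0 => apply_one_ne_zero δ.2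
      (by rw [apply_one_eq_deg δ.2, h0, Nat.cast_zero])
  rw [← Finset.add_sum_erase _ _ (Finset.mem_univ (⟨γ, hγ⟩ : Irr C))] at hdeg
  have h1 : mu C f γ = 1 := by
    have e : mu C f γ * charDegree γ ≤ 1 * charDegree γ := by
      rw [one_mul]; exact (Nat.le_add_right _ _).trans hdeg.le
    exact le_antisymm (Nat.le_of_mul_le_mul_right e (hpos ⟨γ, hγ⟩)) (Nat.pos_of_ne_zero hm)
  rw [h1, one_mul, add_eq_left, Finset.sum_eq_zero_iff] at hdeg
  intro x hx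
  rw [decomp hf hx, ← Finset.add_sum_erase _ _ (Finset.mem_univ (⟨γ, hγ⟩ : Irr C)),
    ← mu_cast hf hγ.charOn, h1, Nat.cast_one, one_mul, Finset.sum_eq_zero, add_zero]
  intro δ hδ
  rw [← mu_cast hf δ.2.charOn, (Nat.mul_eq_zero.1 (hdeg δ hδ)).resolve_right (hpos δ).ne',
    Nat.cast_zero, zero_mul]

theorem eq_one_of_dvd_pow {p k e : ℕ} (hp : p.Prime) (hk : k ∣ p ^ e) (hd : ¬ p ∣ k) : k = 1 := by
  obtain ⟨i, -, rfl⟩ := (Nat.dvd_prime_pow hp).1 hk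
  cases i with
  | zero => rfl
  | succ i => exact absurd (dvd_pow_self p (Nat.succ_ne_zero i)) hd

/-- A `p'`-degree character restricts irreducibly to a normal subgroup of `p`-power index. -/
theorem res_irr {p : ℕ} [hp : Fact p.Prime] {K M : Subgroup G} (hKM : K ≤ M)
    (hn : M ≤ Subgroup.normalizer (K : Set G)) {e : ℕ} (he : K.relIndex M = p ^ e) {ψ : G → ℂ}
    (hψ : IrrOn M ψ) (hd : ¬ p ∣ charDegree ψ) : IrrOn K (res K ψ) := by
  obtain ⟨θ, hθ⟩ := exists_constituent (hψ.charOn_le hKM) (apply_one_ne_zero hψ)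
  obtain ⟨k, hk, hdvd⟩ := degree_dvd hKM hn hψ θ.2
    ((mu_ne_zero_iff (hψ.charOn_le hKM) θ.2.charOn).1 hθ)
  have h1 := hk
  rw [apply_one_eq_deg hψ, apply_one_eq_deg θ.2, ← Nat.cast_mul, Nat.cast_inj] at h1
  have hk1 : k = 1 := eq_one_of_dvd_pow hp.out (he ▸ hdvd) fun h => hd (h1 ▸ h.mul_left _)
  rw [hk1, Nat.cast_one, mul_one] at hk
  have heq := eq_of_degree (hψ.charOn_le hKM) θ.2 hθ hk
  have e' : res K ψ = θ.1 := by
    funext x
    by_cases hx : x ∈ K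
    · rw [res_of_mem _ hx, heq x hx]
    · rw [res_of_not_mem _ hx, θ.2.2 x hx]
  rw [e']
  exact θ.2

/-- An invariant constituent of multiplicity prime to `p` is the whole restriction. -/
theorem ext_of_mu {p : ℕ} [hp : Fact p.Prime] {K M : Subgroup G} (hKM : K ≤ M)
    (hn : M ≤ Subgroup.normalizer (K : Set G)) {e : ℕ} (he : K.relIndex M = p ^ e) {ξ θ : G → ℂ}
    (hξ : IrrOn M ξ) (hθ : IrrOn K θ) (hinv : ∀ x ∈ M, cj x θ = θ) (hd : ¬ p ∣ mu K ξ θ) :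
    ∀ x ∈ K, ξ x = θ x := by
  have h0 : mu K ξ θ ≠ 0 := fun h => hd (h ▸ dvd_zero p)
  have hne := (mu_ne_zero_iff (hξ.charOn_le hKM) hθ.charOn).1 h0
  have hres := res_invariant hKM hn hξ hθ hinv hne
  obtain ⟨k, hk, hdvd⟩ := degree_dvd hKM hn hξ hθ hne
  rw [hres 1 K.one_mem, mul_comm] at hk
  have hk' := mul_left_cancel₀ (apply_one_ne_zero hθ) hk
  rw [← mu_cast (hξ.charOn_le hKM) hθ.charOn, Nat.cast_inj] at hk'
  have h1 : mu K ξ θ = 1 := eq_one_of_dvd_pow hp.out (hk' ▸ (he ▸ hdvd)) hd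
  intro x hx
  rw [hres x hx, ← mu_cast (hξ.charOn_le hKM) hθ.charOn, h1, Nat.cast_one, one_mul]

/-- `M = K * M₁` with `K ⊓ M₁ = C`. -/
structure Layer (K C M M₁ : Subgroup G) : Prop where
  leK : K ≤ M
  leM : M₁ ≤ M
  leC : C ≤ M₁
  normK : M ≤ Subgroup.normalizer (K : Set G)
  normC : M₁ ≤ Subgroup.normalizer (C : Set G)
  inf : K ⊓ M₁ = C
  card : (Nat.card C : ℂ) * Nat.card M = Nat.card K * Nat.card M₁
  dec : ∀ x ∈ M, ∃ k ∈ K, ∃ m ∈ M₁, k * m = x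

open scoped Classical in
/-- Frobenius reciprocity across the layer. -/
theorem Layer.sum_mu {K C M M₁ : Subgroup G} (hl : Layer K C M M₁) {θ ξ β : G → ℂ}
    (hθ : IrrOn K θ) (hξ : IrrOn M₁ ξ) (hinv : ∀ x ∈ M, cj x θ = θ) (hβ : IrrOn C β)
    (hres : ∀ x ∈ C, ξ x = β x) :
    ∑ ψ : Irr M, mu K ψ.1 θ * mu M₁ ψ.1 ξ = mu C θ β := by
  have hCK : C ≤ K := hl.inf ▸ inf_le_left
  apply Nat.cast_injective (R := ℂ)
  push_cast
  rw [mu_cast (hθ.charOn_le hCK) hβ.charOn]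
  have h1 : ∀ ψ : Irr M, (mu K ψ.1 θ : ℂ) * mu M₁ ψ.1 ξ =
      (Nat.card K : ℂ)⁻¹ * (Nat.card M₁ : ℂ)⁻¹ *
        ∑ k ∈ el K, ∑ y ∈ el M₁, θ k * conj (ξ y) * (ψ.1 y * conj (ψ.1 k)) := by
    intro ψ
    have e1 : (mu K ψ.1 θ : ℂ) = inn K θ ψ.1 := by
      rw [← inn_comm, ← mu_cast (ψ.2.charOn_le hl.leK) hθ.charOn, map_natCast]
    rw [e1, mu_cast (ψ.2.charOn_le hl.leM) hξ.charOn, inn, inn, mul_mul_mul_comm, Finset.sum_mul_sum]
    refine congrArg _ (Finset.sum_congr rfl fun k _ => Finset.sum_congr rfl fun y _ => ?_)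
    ring
  rw [Finset.sum_congr rfl fun ψ _ => h1 ψ, ← Finset.mul_sum, Finset.sum_comm]
  simp only [Finset.sum_comm (s := (Finset.univ : Finset (Irr M))) (t := el M₁)]
  simp only [← Finset.mul_sum]
  rw [Finset.sum_comm]
  have h2 : ∀ y ∈ el M₁, ∑ k ∈ el K, θ k * conj (ξ y) * ∑ ψ : Irr M, ψ.1 y * conj (ψ.1 k) =
      (Nat.card M : ℂ) * (θ y * conj (ξ y)) := by
    intro y hy
    rw [Finset.sum_congr rfl fun k hk => by
      rw [sum_irr_mul (hl.leM (mem_el.1 hy)) (hl.leK (mem_el.1 hk)), Finset.natCast_card_filter,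
        Finset.mul_sum],
      Finset.sum_comm, ← card_el, ← nsmul_eq_mul, ← Finset.sum_const]
    refine Finset.sum_congr rfl fun x hx => ?_
    simp only [mul_ite, mul_one, mul_zero]
    rw [Finset.sum_ite_eq]
    split_ifs with hm
    · rw [← show cj x θ y = θ y by rw [hinv x (mem_el.1 hx)]]; rfl
    · rw [← show cj x θ y = θ y by rw [hinv x (mem_el.1 hx)],
        show cj x θ y = 0 from hθ.2 _ fun h => hm (mem_el.2 h), zero_mul]
  rw [Finset.sum_congr rfl h2, ← Finset.mul_sum]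
  have h3 : ∑ y ∈ el M₁, θ y * conj (ξ y) = ∑ c ∈ el C, θ c * conj (β c) := by
    rw [← Finset.sum_subset (s₁ := el C) (fun c hc => mem_el.2 (hl.leC (mem_el.1 hc)))
      fun y hy hy' => by
        rw [hθ.2 y fun h => hy' (mem_el.2 (hl.inf ▸ Subgroup.mem_inf.2 ⟨h, mem_el.1 hy⟩)), zero_mul]]
    exact Finset.sum_congr rfl fun c hc => by rw [hres c (mem_el.1 hc)]
  rw [h3, ← card_mul_inn, ← mul_inv]
  have hK := card_ne_zero K
  have hM₁ := card_ne_zero M₁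
  have hcard := hl.card
  field_simp
  linear_combination inn C θ β * hcard

/-- Extension passes down. -/
theorem Layer.ext_down {p : ℕ} [hp : Fact p.Prime] {K C M M₁ : Subgroup G} (hl : Layer K C M M₁)
    {e : ℕ} (he : C.relIndex M₁ = p ^ e) {θ ψ β : G → ℂ} (hψ : IrrOn M ψ)
    (hres : ∀ x ∈ K, ψ x = θ x) (hinv : ∀ x ∈ M₁, cj x β = β) (hβ : Corr p C θ β) :
    ∃ ξ, IrrOn M₁ ξ ∧ ∀ x ∈ C, ξ x = β x := by
  have hCK : C ≤ K := hl.inf ▸ inf_le_left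
  have h := hβ.2.1
  rw [← mu_congr (f := ψ) fun x hx => hres x (hCK hx),
    mu_trans (hψ.charOn_le hl.leM) hl.leC hβ.1.charOn] at h
  obtain ⟨ξ, -, hξ⟩ : ∃ ξ ∈ (Finset.univ : Finset (Irr M₁)),
      ¬ p ∣ mu M₁ ψ ξ.1 * mu C ξ.1 β := by
    by_contra hno
    push Not at hno
    exact h (Finset.dvd_sum hno)
  exact ⟨ξ.1, ξ.2, ext_of_mu hl.leC hl.normC he ξ.2 hβ.1 hinv fun h' => hξ (h'.mul_left _)⟩

/-- Extension passes up. -/
theorem Layer.ext_up {p : ℕ} [hp : Fact p.Prime] {K C M M₁ : Subgroup G} (hl : Layer K C M M₁)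
    {e : ℕ} (he : K.relIndex M = p ^ e) {θ ξ β : G → ℂ} (hθ : IrrOn K θ)
    (hinv : ∀ x ∈ M, cj x θ = θ) (hξ : IrrOn M₁ ξ) (hres : ∀ x ∈ C, ξ x = β x)
    (hβ : Corr p C θ β) : ∃ ψ, IrrOn M ψ ∧ ∀ x ∈ K, ψ x = θ x := by
  have h := hβ.2.1
  rw [← hl.sum_mu hθ hξ hinv hβ.1 hres] at h
  obtain ⟨ψ, -, hψ⟩ : ∃ ψ ∈ (Finset.univ : Finset (Irr M)),
      ¬ p ∣ mu K ψ.1 θ * mu M₁ ψ.1 ξ := by
    by_contra hno
    push Not at hno
    exact h (Finset.dvd_sum hno)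
  exact ⟨ψ.1, ψ.2, ext_of_mu hl.leK hl.normK he ψ.2 hθ hinv fun h' => hψ (h'.mul_right _)⟩

/-- Restriction identifies the linear characters of the two layers. -/
theorem Layer.exists_lin {K C M M₁ : Subgroup G} (hl : Layer K C M M₁) {l₁ : G → ℂ}
    (h₁ : Lin M₁ C l₁) : ∃ l, Lin M K l ∧ res M₁ l = l₁ := by
  classical
  have h1K : IrrOn K (res K fun _ => 1) := (lin_one (le_refl K)).1
  have hinv : ∀ x ∈ M, cj x (res K fun _ => (1 : ℂ)) = res K fun _ => 1 := fun x hx =>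
    (h1K.cj (hl.normK hx)).ext h1K fun y hy => by
      show res K (fun _ => (1 : ℂ)) (x * y * x⁻¹) = _
      rw [res_of_mem _ ((mem_conj_iff (hl.normK hx) y).2 hy), res_of_mem _ hy]
  have hC1 : IrrOn C (res C fun _ => 1) := (lin_one (le_refl C)).1
  have hCK : C ≤ K := hl.inf ▸ inf_le_left
  have h := hl.sum_mu h1K h₁.1 hinv hC1 fun x hx => (h₁.2.2 x hx).trans (res_of_mem (fun _ => (1 : ℂ)) hx).symm
  have hone : mu C (res K fun _ => (1 : ℂ)) (res C fun _ => 1) = 1 := by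
    rw [mu_congr (f' := res C fun _ => 1) fun x hx => by
      rw [res_of_mem _ (hCK hx), res_of_mem _ hx], mu_irr ⟨_, hC1⟩ ⟨_, hC1⟩, if_pos rfl]
  rw [hone] at h
  obtain ⟨ψ, -, hψ⟩ := Finset.exists_ne_zero_of_sum_ne_zero (h.symm ▸ one_ne_zero :
    ∑ ψ : Irr M, mu K ψ.1 (res K fun _ => 1) * mu M₁ ψ.1 l₁ ≠ 0)
  have hle : mu K ψ.1 (res K fun _ => 1) * mu M₁ ψ.1 l₁ ≤ 1 :=
    h ▸ Finset.single_le_sum (f := fun ψ : Irr M => mu K ψ.1 (res K fun _ => 1) * mu M₁ ψ.1 l₁)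
      (fun _ _ => Nat.zero_le _) (Finset.mem_univ ψ)
  have h1 : mu K ψ.1 (res K fun _ => 1) = 1 :=
    Nat.eq_one_of_mul_eq_one_right (le_antisymm hle (Nat.pos_of_ne_zero hψ))
  have hres := res_invariant hl.leK hl.normK ψ.2 h1K hinv
    ((mu_ne_zero_iff (ψ.2.charOn_le hl.leK) h1K.charOn).1 (h1 ▸ one_ne_zero))
  have hval : ∀ x ∈ K, ψ.1 x = 1 := fun x hx => by
    rw [hres x hx, ← mu_cast (ψ.2.charOn_le hl.leK) h1K.charOn, h1, Nat.cast_one, one_mul,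
      res_of_mem _ hx]
  refine ⟨ψ.1, ⟨ψ.2, hval 1 K.one_mem, hval⟩, funext fun x => ?_⟩
  by_cases hx : x ∈ M₁
  · rw [res_of_mem _ hx, eq_of_degree (ψ.2.charOn_le hl.leM) h₁.1 (right_ne_zero_of_mul hψ)
      ((hval 1 K.one_mem).trans h₁.2.1.symm) x hx]
  · rw [res_of_not_mem _ hx, h₁.1.2 x hx]

theorem Layer.res_lin {K C M M₁ : Subgroup G} (hl : Layer K C M M₁) {l : G → ℂ} (h : Lin M K l) :
    Lin M₁ C (res M₁ l) := by
  obtain ⟨lam, hlam⟩ := CharBasicLinear.exists_hom_of_apply_one_eq_one h.1.charOn h.2.1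
  refine ⟨⟨(congrArg (IsIrrCharacter M₁) (funext fun x : M₁ => ?_)).mp
    (CharBasicDecomp.isIrrCharacter_linear (lam.comp (Subgroup.inclusion hl.leM))),
    fun g hg => res_of_not_mem _ hg⟩, by rw [res_of_mem _ M₁.one_mem]; exact h.2.1, fun x hx => ?_⟩
  · rw [res_of_mem _ x.2]
    exact (congrFun hlam (Subgroup.inclusion hl.leM x)).symm
  · rw [res_of_mem _ (hl.leC hx)]
    exact h.2.2 x (Subgroup.mem_inf.1 (hl.inf.symm ▸ hx : x ∈ K ⊓ M₁)).1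

end Cfsg.Agent.Rel80
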