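import Cfsg.Agent.Lib.Rel80Pair
import Cfsg.Agent.Lib.Rel80Count
import Cfsg.Agent.Lib.Rel80Ext

/-!
# The count is the same in the normaliser of a central elementary layer
-/

set_option autoImplicit false
set_option linter.unusedSectionVars false

open scoped ComplexConjugate

namespace Cfsg.Agent.Rel80

open Cfsg

universe u

variable {G : Type u} [Group G] [Fintype G]

theorem card_prod {K T E : Subgroup G} (hK : K ≤ E) (hT : T ≤ E)
    (hE : ∀ e ∈ E, ∃ k ∈ K, ∃ t ∈ T, k * t = e) :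
    Nat.card K * Nat.card T = Nat.card (K ⊓ T : Subgroup G) * Nat.card E := by
  have h := sum_prod hK hT hE fun _ => 1
  simp only [Finset.sum_const, nsmul_eq_mul, card_el, mul_one] at h
  exact_mod_cast h

theorem card_relIndex {N H : Subgroup G} (h : N ≤ H) :
    Nat.card N * N.relIndex H = Nat.card H := by
  exact_mod_cast card_mul_relIndex h

theorem relIndex_eq_of_prod {K T E C : Subgroup G} (hK : K ≤ E) (hT : T ≤ E)
    (hE : ∀ e ∈ E, ∃ k ∈ K, ∃ t ∈ T, k * t = e) (hC : K ⊓ T = C) :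
    C.relIndex T = K.relIndex E := by
  have h := card_prod hK hT hE
  have hCT : C ≤ T := hC ▸ inf_le_right
  rw [hC, ← card_relIndex hCT, ← card_relIndex hK, mul_left_comm] at h
  exact Nat.eq_of_mul_eq_mul_left Nat.card_pos (Nat.eq_of_mul_eq_mul_left Nat.card_pos h)

/-- A supplement to `M` meeting it in `C`, for `M / C` of order prime to its index. -/
theorem exists_supp {C M E : Subgroup G} (hCM : C ≤ M) (hME : M ≤ E)
    (hC : E ≤ Subgroup.normalizer (C : Set G)) (hM : E ≤ Subgroup.normalizer (M : Set G))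
    (hcop : (C.relIndex M).Coprime (M.relIndex E)) :
    ∃ H : Subgroup G, C ≤ H ∧ H ≤ E ∧ H ⊓ M = C ∧ ∀ x ∈ E, ∃ h ∈ H, ∃ m ∈ M, h * m = x := by
  haveI hCn : (C.subgroupOf E).Normal :=
    (Subgroup.normal_subgroupOf_iff_le_normalizer (hCM.trans hME)).2 hC
  haveI hMn : (M.subgroupOf E).Normal := (Subgroup.normal_subgroupOf_iff_le_normalizer hME).2 hM
  let q := QuotientGroup.mk' (C.subgroupOf E)
  let N := (M.subgroupOf E).map q
  haveI : N.Normal := Subgroup.Normal.map inferInstance q (QuotientGroup.mk'_surjective _)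
  have hker : q.ker ≤ M.subgroupOf E := by
    rw [QuotientGroup.ker_mk']; exact fun x hx => hCM hx
  have hidx : N.index = M.relIndex E :=
    Subgroup.index_map_eq _ (QuotientGroup.mk'_surjective _) hker
  have hcard : Nat.card N = C.relIndex M := by
    have h := N.card_mul_index
    rw [hidx, ← Subgroup.index_eq_card] at h
    change Nat.card N * M.relIndex E = C.relIndex E at h
    rw [← Subgroup.relIndex_mul_relIndex C M E hCM hME] at h
    exact Nat.eq_of_mul_eq_mul_right (Nat.pos_of_ne_zero Subgroup.index_ne_zero_of_finite) h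
  obtain ⟨T, hT⟩ := Subgroup.exists_right_complement'_of_coprime (N := N) (by rw [hcard, hidx]; exact hcop)
  refine ⟨(T.comap q).map E.subtype, ?_, ?_, ?_, fun x hx => ?_⟩
  · intro c hc
    refine Subgroup.mem_map.2 ⟨⟨c, hME (hCM hc)⟩, Subgroup.mem_comap.2 ?_, rfl⟩
    rw [show q ⟨c, hME (hCM hc)⟩ = 1 from (QuotientGroup.eq_one_iff _).2 hc]
    exact T.one_mem
  · rintro _ ⟨x, -, rfl⟩
    exact x.2
  · refine le_antisymm ?_ fun c hc => Subgroup.mem_inf.2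
      ⟨(Subgroup.mem_map (f := E.subtype) (K := T.comap q)).2
        ⟨⟨c, hME (hCM hc)⟩, Subgroup.mem_comap.2 ?_, rfl⟩, hCM hc⟩
    · rintro _ ⟨⟨x, hx, rfl⟩, hxM⟩
      have h : q x ∈ N ⊓ T := Subgroup.mem_inf.2 ⟨⟨x, hxM, rfl⟩, hx⟩
      rw [disjoint_iff.1 hT.disjoint] at h
      exact (QuotientGroup.eq_one_iff x).1 (Subgroup.mem_bot.1 h)
    · rw [show q ⟨c, hME (hCM hc)⟩ = 1 from (QuotientGroup.eq_one_iff _).2 hc]
      exact T.one_mem
  · obtain ⟨⟨⟨n, hn⟩, ⟨t, ht⟩⟩, he⟩ := hT.2 (q ⟨x, hx⟩)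
    obtain ⟨m, hm, rfl⟩ := hn
    obtain ⟨y, rfl⟩ := QuotientGroup.mk'_surjective (C.subgroupOf E) t
    have h1 : q (y⁻¹ * (m⁻¹ * ⟨x, hx⟩)) = 1 := by
      rw [map_mul, map_mul, map_inv, map_inv, show q ⟨x, hx⟩ = q m * q y from he.symm]
      simp [mul_assoc]
    have h2 : (y : G)⁻¹ * ((m : G)⁻¹ * x) ∈ C :=
      (QuotientGroup.eq_one_iff (y⁻¹ * (m⁻¹ * (⟨x, hx⟩ : E)))).1 h1
    refine ⟨(y : G), ⟨y, ht, rfl⟩, (y : G)⁻¹ * x, ?_, by simp⟩
    have h3 := (mem_conj_iff (hM (E.inv_mem y.2)) _).2 (show (m : G) ∈ M from hm)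
    have h4 := M.mul_mem h3 (hCM h2)
    simpa [mul_assoc] using h4

/-- The hypotheses of the core comparison. -/
structure Core (p : ℕ) (X L K P : Subgroup G) (ν : G → ℂ) (R : Subgroup G) : Prop where
  prime : Fact p.Prime
  base : Base p L K ν
  leK : K ≤ X
  normL : X ≤ Subgroup.normalizer (L : Set G)
  normK : X ≤ Subgroup.normalizer (K : Set G)
  inv : ∀ x ∈ X, cj x ν = ν
  leP : P ≤ X
  LP : L ≤ P
  pP : ∃ k, L.relIndex P = p ^ k
  normM : X ≤ Subgroup.normalizer ((K ⊔ P : Subgroup G) : Set G)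
  copM : ¬ p ∣ (K ⊔ P).relIndex X
  acts : Acts p L K ν R
  RP : R ≤ P
  central : ∀ x ∈ P, ∀ r ∈ R, x ∈ cmod L r
  gen : ∀ x ∈ X, ∃ k ∈ K, ∃ g ∈ X ⊓ Subgroup.normalizer (R : Set G), k * g = x

variable {p : ℕ} {X L K P R : Subgroup G} {ν : G → ℂ}

theorem Core.inf_normalizer (h : Core p X L K P ν R) :
    K ⊓ Subgroup.normalizer (R : Set G) = fixF L K R := by
  haveI := h.prime
  ext x
  constructor
  · intro hx
    obtain ⟨hxK, hxR⟩ := Subgroup.mem_inf.1 hx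
    refine ⟨hxK, fun r hr => ⟨h.base.norm hxK, ?_⟩⟩
    have h1 : r * x * r⁻¹ * x⁻¹ ∈ R := by
      have h2 := R.mul_mem hr ((Subgroup.mem_normalizer_iff.1 hxR _).1 (R.inv_mem hr))
      simpa [mul_assoc] using h2
    have h3 : r * x * r⁻¹ * x⁻¹ ∈ K :=
      K.mul_mem ((Subgroup.mem_normalizer_iff.1 (h.acts.normE hr) x).1 hxK) (K.inv_mem hxK)
    refine mem_of_pow_mem (h.acts.pow _ h1) (k := (L.relIndex K : ℤ)) ?_ ?_
    · rw [zpow_natCast]; exact pow_relIndex_mem h.base.le h.base.norm h3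
    · exact Nat.isCoprime_iff_coprime.2
        ((Nat.Prime.coprime_iff_not_dvd h.prime.out).2 h.base.cop).symm
  · intro hx
    refine Subgroup.mem_inf.2 ⟨hx.1, normalizer_of_conj_mem fun r hr => ?_⟩
    have h2 := (mem_cmod_symm (h.acts.normL hr) (hx.2 r hr)).2
    simpa [mul_assoc] using R.mul_mem (h.acts.le h2) hr

open scoped Classical in
/-- The core comparison. -/
theorem Core.cnt_eq (h : Core p X L K P ν R) :
    cnt p X L ν = cnt p (X ⊓ Subgroup.normalizer (R : Set G)) L ν := by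
  haveI := h.prime
  obtain ⟨kP, hkP⟩ := h.pP
  set C := fixF L K R with hCdef
  set M := K ⊔ P with hMdef
  set G1 := X ⊓ Subgroup.normalizer (R : Set G) with hG1
  set M1 := M ⊓ G1 with hM1
  have hG1X : G1 ≤ X := inf_le_left
  have hG1R : G1 ≤ Subgroup.normalizer (R : Set G) := inf_le_right
  have hKM : K ≤ M := le_sup_left
  have hMX : M ≤ X := sup_le h.leK h.leP
  have hLK : L ≤ K := h.base.le
  have hLC : L ≤ C := h.acts.le_fixF h.base
  have hCK : C ≤ K := fixF_le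
  have hPG1 : P ≤ G1 := fun x hx => Subgroup.mem_inf.2 ⟨h.leP hx,
    normalizer_of_conj_mem fun r hr => by
      have h2 := (mem_cmod_symm (h.acts.normL hr) (h.central x hx r hr)).2
      simpa [mul_assoc] using R.mul_mem (h.acts.le h2) hr⟩
  have hCG1 : C ≤ G1 := fun x hx => Subgroup.mem_inf.2
    ⟨h.leK (hCK hx), (Subgroup.mem_inf.1 (h.inf_normalizer.ge hx)).2⟩
  have hKG1 : K ⊓ G1 = C := le_antisymm
    (fun x hx => h.inf_normalizer.le (Subgroup.mem_inf.2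
      ⟨(Subgroup.mem_inf.1 hx).1, hG1R (Subgroup.mem_inf.1 hx).2⟩))
    (le_inf hCK hCG1)
  have hcoe := Subgroup.coe_mul_of_right_le_normalizer_left K P (h.leP.trans h.normK)
  have hdecM : ∀ x ∈ M, ∃ k ∈ K, ∃ q ∈ P, k * q = x := fun x hx => by
    have hx' : x ∈ (↑(K ⊔ P) : Set G) := hx
    rw [hcoe] at hx'
    exact Set.mem_mul.1 hx'
  have hM1M : M1 ≤ M := inf_le_left
  have hM1G1 : M1 ≤ G1 := inf_le_right
  have hdec1 : ∀ x ∈ M, ∃ k ∈ K, ∃ m ∈ M1, k * m = x := fun x hx => by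
    obtain ⟨k, hk, q, hq, rfl⟩ := hdecM x hx
    exact ⟨k, hk, q, Subgroup.mem_inf.2 ⟨(le_sup_right : P ≤ M) hq, hPG1 hq⟩, rfl⟩
  have hCM1 : C ≤ M1 := le_inf (hCK.trans hKM) hCG1
  have hKM1 : K ⊓ M1 = C := le_antisymm
    (fun x hx => hKG1.le (Subgroup.mem_inf.2
      ⟨(Subgroup.mem_inf.1 hx).1, hM1G1 (Subgroup.mem_inf.1 hx).2⟩))
    (le_inf hCK hCM1)
  have hG1C : G1 ≤ Subgroup.normalizer (C : Set G) := fun g hg =>
    norm_fixF_of (h.normL (hG1X hg)) (h.normK (hG1X hg)) (hG1R hg)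
  have hG1M1 : G1 ≤ Subgroup.normalizer (M1 : Set G) := fun g hg =>
    normalizer_of_conj_mem fun x hx => Subgroup.mem_inf.2
      ⟨(mem_conj_iff (h.normM (hG1X hg)) x).2 (Subgroup.mem_inf.1 hx).1,
        G1.mul_mem (G1.mul_mem hg (Subgroup.mem_inf.1 hx).2) (G1.inv_mem hg)⟩
  have hlayer : Layer K C M M1 :=
    ⟨hKM, hM1M, hCM1, hMX.trans h.normK, hM1G1.trans hG1C, hKM1, by
      have := card_prod hKM hM1M hdec1
      rw [hKM1] at this
      exact_mod_cast this.symm, hdec1⟩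
  obtain ⟨e, -, hKMe⟩ : ∃ i ≤ kP, K.relIndex M = p ^ i := by
    refine (Nat.dvd_prime_pow h.prime.out).1 ?_
    rw [← relIndex_eq_of_prod hKM (le_sup_right : P ≤ M) hdecM rfl, ← hkP]
    exact ⟨L.relIndex (K ⊓ P), ((mul_comm _ _).trans (Subgroup.relIndex_mul_relIndex L (K ⊓ P) P
      (le_inf hLK h.LP) inf_le_right)).symm⟩
  have hCM1e : C.relIndex M1 = p ^ e := by rw [relIndex_eq_of_prod hKM hM1M hdec1 hKM1, hKMe]
  have hdecX : ∀ x ∈ X, ∃ m ∈ M, ∃ g ∈ G1, m * g = x := fun x hx => by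
    obtain ⟨k, hk, g, hg, rfl⟩ := h.gen x hx
    exact ⟨k, hKM hk, g, hg, rfl⟩
  have hcop1 : ¬ p ∣ M1.relIndex G1 := by
    rw [relIndex_eq_of_prod hMX hG1X hdecX rfl]
    exact h.copM
  obtain ⟨H, hCH, hHG1, hHM1, hdecG1⟩ := exists_supp hCM1 hM1G1 hG1C hG1M1
    (by rw [hCM1e]; exact (Nat.Prime.coprime_iff_not_dvd h.prime.out).2 hcop1 |>.pow_left e)
  have hHX : H ≤ X := hHG1.trans hG1X
  have hHM : H ⊓ M = C := le_antisymm (fun x hx => hHM1.le (Subgroup.mem_inf.2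
      ⟨(Subgroup.mem_inf.1 hx).1, Subgroup.mem_inf.2
        ⟨(Subgroup.mem_inf.1 hx).2, hHG1 (Subgroup.mem_inf.1 hx).1⟩⟩))
    (le_inf hCH (hCK.trans hKM))
  have hdecH : ∀ x ∈ X, ∃ t ∈ H, ∃ m ∈ M, t * m = x := fun x hx => by
    obtain ⟨k, hk, g, hg, rfl⟩ := h.gen x hx
    obtain ⟨t, ht, m, hm, rfl⟩ := hdecG1 g hg
    refine ⟨t, ht, t⁻¹ * k * t * m, M.mul_mem ?_ (hM1M hm), by simp [mul_assoc]⟩
    exact hKM ((Subgroup.mem_normalizer_iff''.1 (h.normK (hHX ht)) k).1 hk)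
  have hn : ¬ p ∣ C.relIndex H := by
    have hd : ∀ g ∈ G1, ∃ m ∈ M1, ∃ t ∈ H, m * t = g := fun g hg => by
      obtain ⟨t, ht, m, hm, rfl⟩ := hdecG1 g hg
      exact ⟨t * m * t⁻¹, (mem_conj_iff (hG1M1 (hHG1 ht)) m).2 hm, t, ht, by simp⟩
    rw [relIndex_eq_of_prod hM1G1 hHG1 hd (by rw [inf_comm]; exact hHM1)]
    exact hcop1
  have hKH : K ⊓ H = C := le_antisymm
    (fun x hx => hKG1.le (Subgroup.mem_inf.2
      ⟨(Subgroup.mem_inf.1 hx).1, hHG1 (Subgroup.mem_inf.1 hx).2⟩))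
    (le_inf hCK hCH)
  have hgood : ∀ g ∈ H, Good p L K C ν g := by
    intro g hg
    have hle : K ⊔ H ≤ X := sup_le h.leK hHX
    refine ⟨h.normL (hHX hg), h.normK (hHX hg),
      (show Base p L (K ⊔ H) ν from ⟨h.prime, hLK.trans le_sup_left, hle.trans h.normL,
        h.base.irr, fun x hx => h.inv x (hle hx), ?_, h.base.deg⟩).mono (hLK.trans le_cyc)
        (cyc_le le_sup_left ((le_sup_right : H ≤ K ⊔ H) hg)),
      ⟨C.relIndex H, hn, pow_relIndex_mem hCH (hHG1.trans hG1C) hg⟩⟩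
    rw [← Subgroup.relIndex_mul_relIndex L K (K ⊔ H) hLK le_sup_left, h.prime.out.dvd_mul]
    refine not_or_intro h.base.cop ?_
    have hcoe' := Subgroup.coe_mul_of_right_le_normalizer_left K H (hHX.trans h.normK)
    rw [← relIndex_eq_of_prod (le_sup_left : K ≤ K ⊔ H) (le_sup_right : H ≤ K ⊔ H) (fun x hx => by
      have hx' : x ∈ (↑(K ⊔ H) : Set G) := hx
      rw [hcoe'] at hx'
      exact Set.mem_mul.1 hx') hKH]
    exact hn
  have hLM1 : L ≤ M1 := hLC.trans hCM1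
  have e1 := cnt_eq_pairs (p := p) (hLK.trans hKM) hMX h.normL h.normM h.base.irr h.inv h.copM hHX
    hdecH
  have e2 := cnt_eq_pairs (p := p) hLM1 hM1G1 (hG1X.trans h.normL) hG1M1 h.base.irr
    (fun x hx => h.inv x (hG1X hx)) hcop1 hHG1 hdecG1
  rw [hHM] at e1
  rw [hHM1] at e2
  suffices hpair : ∀ a ∈ H, ∀ b ∈ H, ∑ ψ ∈ psi p M L ν, phi M ψ.1 a b =
      ∑ ξ ∈ psi p M1 L ν, phi M1 ξ.1 a b by
    have e3 : (cnt p X L ν : ℂ) * (Nat.card H * Nat.card C) =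
        (cnt p G1 L ν : ℂ) * (Nat.card H * Nat.card C) := by
      rw [e1, e2]
      exact Finset.sum_congr rfl fun a ha => Finset.sum_congr rfl fun b hb =>
        hpair a (mem_el.1 ha) b (mem_el.1 hb)
    exact_mod_cast mul_right_cancel₀ (mul_ne_zero (card_ne_zero H) (card_ne_zero C)) e3
  intro a ha b hb
  have haX := hHX ha
  have hbX := hHX hb
  have haM := h.normM haX
  have hbM := h.normM hbX
  have haM1 := hG1M1 (hHG1 ha)
  have hbM1 := hG1M1 (hHG1 hb)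
  have haK := h.normK haX
  have hbK := h.normK hbX
  have haC := hG1C (hHG1 ha)
  have hbC := hG1C (hHG1 hb)
  have hcomm : b * a * b⁻¹ * a⁻¹ ∈ H :=
    H.mul_mem (H.mul_mem (H.mul_mem hb ha) (H.inv_mem hb)) (H.inv_mem ha)
  by_cases hab : a ∈ cmod C b
  swap
  · rw [Finset.sum_eq_zero fun ψ _ => phi_eq_zero_of_comm ψ.2 haM hbM fun h' =>
        hab ⟨haC, hHM.le (Subgroup.mem_inf.2 ⟨hcomm, h'.2⟩)⟩,
      Finset.sum_eq_zero fun ξ _ => phi_eq_zero_of_comm ξ.2 haM1 hbM1 fun h' =>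
        hab ⟨haC, hHM1.le (Subgroup.mem_inf.2 ⟨hcomm, h'.2⟩)⟩]
  have habK : a ∈ cmod K b := ⟨haK, hCK hab.2⟩
  obtain ⟨n, hnp, han, hbn⟩ : ∃ n, ¬ p ∣ n ∧ a ^ n ∈ C ∧ b ^ n ∈ C :=
    ⟨C.relIndex H, hn, pow_relIndex_mem hCH (hHG1.trans hG1C) ha,
      pow_relIndex_mem hCH (hHG1.trans hG1C) hb⟩
  -- characters of `K` that extend to `M` and are fixed by `a` and `b`
  let T : Irr K → Prop := fun θ => Over L ν θ.1 ∧ cj a θ.1 = θ.1 ∧ cj b θ.1 = θ.1 ∧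
    ∃ ψ, IrrOn M ψ ∧ ∀ x ∈ K, ψ x = θ.1 x
  let T1 : Irr C → Prop := fun β => Over L ν β.1 ∧ cj a β.1 = β.1 ∧ cj b β.1 = β.1 ∧
    ∃ ξ, IrrOn M1 ξ ∧ ∀ x ∈ C, ξ x = β.1 x
  have hMn : M ≤ Subgroup.normalizer (K : Set G) := hMX.trans h.normK
  have hdeg : ∀ {Y : Subgroup G}, L ≤ Y → Y ≤ K → ∀ f, IrrOn Y f → Over L ν f →
      ¬ p ∣ charDegree f := fun hLY hYK f hf ho => (h.base.mono hLY hYK).degree_not_dvd hf ho
  have hTinv : ∀ θ : Irr K, T θ → ∀ x ∈ M, cj x θ.1 = θ.1 := by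
    rintro θ ⟨-, -, -, ψ, hψ, hres⟩ x hx
    refine (θ.2.cj (hMn hx)).ext θ.2 fun y hy => ?_
    show θ.1 (x * y * x⁻¹) = θ.1 y
    rw [← hres _ ((mem_conj_iff (hMn hx) y).2 hy), ← hres y hy,
      charOn_apply_conj hψ.charOn hx (hKM hy)]
  have hTR : ∀ θ : Irr K, T θ → ∀ r ∈ R, cj r θ.1 = θ.1 := fun θ hθ r hr =>
    hTinv θ hθ r ((le_sup_right : P ≤ M) (h.RP hr))
  obtain ⟨hex, hinj, hsur⟩ := corr_all h.base h.acts
  let c : (θ : Irr K) → T θ → Irr C := fun θ hθ =>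
    ⟨(hex θ.1 θ.2 hθ.1 (hTR θ hθ)).choose, (hex θ.1 θ.2 hθ.1 (hTR θ hθ)).choose_spec.1.1⟩
  have hc : ∀ θ hθ, Corr p C θ.1 (c θ hθ).1 ∧ Over L ν (c θ hθ).1 := fun θ hθ =>
    (hex θ.1 θ.2 hθ.1 (hTR θ hθ)).choose_spec
  have hfixc : ∀ θ hθ g, g ∈ Subgroup.normalizer (C : Set G) → cj g θ.1 = θ.1 →
      cj g (c θ hθ).1 = (c θ hθ).1 := fun θ hθ g hg hgθ => by
    have := (hc θ hθ).1.cj hg
    rw [hgθ] at this
    exact this.unique (hc θ hθ).1
  have hM1C : M1 ≤ Subgroup.normalizer (C : Set G) := hM1G1.trans hG1C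
  have hcT1 : ∀ θ hθ, T1 (c θ hθ) := by
    intro θ hθ
    obtain ⟨ψ, hψ, hres⟩ := hθ.2.2.2
    refine ⟨(hc θ hθ).2, hfixc θ hθ a haC hθ.2.1, hfixc θ hθ b hbC hθ.2.2.1, ?_⟩
    exact hlayer.ext_down hCM1e hψ hres
      (fun x hx => hfixc θ hθ x (hM1C hx) (hTinv θ hθ x (hM1M hx))) (hc θ hθ).1
  have hcsurj : ∀ β : Irr C, T1 β → ∃ θ hθ, c θ hθ = β := by
    intro β hβ
    obtain ⟨ξ, hξ, hres⟩ := hβ.2.2.2
    obtain ⟨θ, hθ, ho, hθR, hcorr⟩ := hsur β.1 β.2 hβ.1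
    -- elements normalising everything and fixing `β` fix `θ`
    have hfix : ∀ g ∈ G1, cj g β.1 = β.1 → cj g θ = θ := by
      intro g hg hgβ
      refine hinj (cj g θ) θ β.1 (hθ.cj (h.normK (hG1X hg))) hθ
        (ho.cj (h.normL (hG1X hg)) (h.inv g (hG1X hg))) ho (fun r hr => ?_) hθR ?_ hcorr
      · have hr' : g * r * g⁻¹ ∈ R := (Subgroup.mem_normalizer_iff.1 (hG1R hg) r).1 hr
        rw [cj_cj]
        conv_rhs => rw [← hθR _ hr']
        rw [cj_cj]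
        simp [mul_assoc]
      · have := hcorr.cj (hG1C hg)
        rwa [hgβ] at this
    have hθM : ∀ x ∈ M, cj x θ = θ := by
      intro x hx
      obtain ⟨k, hk, m, hm, rfl⟩ := hdec1 x hx
      have hmβ : cj m β.1 = β.1 := (β.2.cj (hM1C hm)).ext β.2 fun y hy => by
        show β.1 (m * y * m⁻¹) = β.1 y
        rw [← hres _ ((mem_conj_iff (hM1C hm) y).2 hy), ← hres y hy,
          charOn_apply_conj hξ.charOn hm (hCM1 hy)]
      rw [← cj_cj, cj_of_mem hθ hk, hfix m (hM1G1 hm) hmβ]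
    obtain ⟨ψ, hψ, hψres⟩ := hlayer.ext_up hKMe hθ hθM hξ hres hcorr
    have hT : T ⟨θ, hθ⟩ :=
      ⟨ho, hfix a (hHG1 ha) hβ.2.1, hfix b (hHG1 hb) hβ.2.2.1, ψ, hψ, hψres⟩
    exact ⟨⟨θ, hθ⟩, hT, Subtype.ext ((hc _ hT).1.unique hcorr)⟩
  have hgoodCl : ∀ g ∈ Subgroup.closure ({a, b} : Set G), Good p L K (fixF L K R) ν g :=
    fun g hg => hgood g ((Subgroup.closure_le H).2 (by rintro z (rfl | rfl) <;> assumption) hg)
  have hphi : ∀ θ hθ, phi K θ.1 a b = phi C (c θ hθ).1 a b := fun θ hθ =>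
    pair_eq h.base h.acts hgoodCl hab R h.acts.le le_rfl (hG1R (hHG1 ha)) (hG1R (hHG1 hb))
      θ.1 _ θ.2 hθ.1 hθ.2.1 hθ.2.2.1 (hTR θ hθ) (hc θ hθ).1
  -- fixed linear characters
  let Z : Finset (Irr M) := Finset.univ.filter fun l =>
    Lin M K l.1 ∧ cj a l.1 = l.1 ∧ cj b l.1 = l.1
  let Z1 : Finset (Irr M1) := Finset.univ.filter fun l =>
    Lin M1 C l.1 ∧ cj a l.1 = l.1 ∧ cj b l.1 = l.1
  have hZ : Z.card = Z1.card := by
    refine Finset.card_bij (fun l hl => ⟨res M1 l.1,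
      (hlayer.res_lin (Finset.mem_filter.1 hl).2.1).1⟩) (fun l hl => ?_) (fun l hl l' hl' e => ?_)
      (fun l₁ hl₁ => ?_)
    · obtain ⟨-, hlL, hla, hlb⟩ := Finset.mem_filter.1 hl
      have hg : ∀ g ∈ Subgroup.normalizer (M1 : Set G), cj g l.1 = l.1 →
          cj g (res M1 l.1) = res M1 l.1 := fun g hg hgl =>
        ((hlayer.res_lin hlL).1.cj hg).ext (hlayer.res_lin hlL).1 fun y hy => by
          show res M1 l.1 (g * y * g⁻¹) = _
          rw [res_of_mem _ ((mem_conj_iff hg y).2 hy), res_of_mem _ hy]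
          exact congrFun hgl y
      exact Finset.mem_filter.2 ⟨Finset.mem_univ _, hlayer.res_lin hlL, hg a haM1 hla, hg b hbM1 hlb⟩
    · obtain ⟨-, hlL, -⟩ := Finset.mem_filter.1 hl
      obtain ⟨-, hlL', -⟩ := Finset.mem_filter.1 hl'
      refine Subtype.ext (l.2.ext l'.2 fun x hx => ?_)
      obtain ⟨k, hk, m, hm, rfl⟩ := hdec1 x hx
      have e' : res M1 l.1 m = res M1 l'.1 m := congrFun (congrArg Subtype.val e) m
      rw [res_of_mem _ hm, res_of_mem _ hm] at e'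
      rw [linear_mul hlL.1 hlL.2.1 (hKM hk) (hM1M hm), linear_mul hlL'.1 hlL'.2.1 (hKM hk) (hM1M hm),
        hlL.2.2 k hk, hlL'.2.2 k hk, e']
    · obtain ⟨-, h₁, ha₁, hb₁⟩ := Finset.mem_filter.1 hl₁
      obtain ⟨l, hl, hlres⟩ := hlayer.exists_lin h₁
      have hg : ∀ g ∈ G1, cj g l₁.1 = l₁.1 → cj g l = l := fun g hg hgl => by
        refine (hl.1.cj (h.normM (hG1X hg))).ext hl.1 fun x hx => ?_
        obtain ⟨k, hk, m, hm, rfl⟩ := hdec1 x hx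
        show l (g * (k * m) * g⁻¹) = l (k * m)
        have hk' : g * k * g⁻¹ ∈ K := (mem_conj_iff (h.normK (hG1X hg)) k).2 hk
        have hm' : g * m * g⁻¹ ∈ M1 := (mem_conj_iff (hG1M1 hg) m).2 hm
        rw [show g * (k * m) * g⁻¹ = g * k * g⁻¹ * (g * m * g⁻¹) by group,
          linear_mul hl.1 hl.2.1 (hKM hk') (hM1M hm'), linear_mul hl.1 hl.2.1 (hKM hk) (hM1M hm),
          hl.2.2 _ hk', hl.2.2 k hk, ← res_of_mem l hm', ← res_of_mem l hm, hlres]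
        exact congrArg _ (congrFun hgl m)
      refine ⟨⟨l, hl.1⟩, Finset.mem_filter.2 ⟨Finset.mem_univ _, hl, hg a (hHG1 ha) ha₁,
        hg b (hHG1 hb) hb₁⟩, Subtype.ext hlres⟩
  -- fibres
  have fibre : ∀ {Y B : Subgroup G}, B ≤ Y → Y ≤ Subgroup.normalizer (B : Set G) →
      B.relIndex Y = p ^ e → C ≤ Y →
      a ∈ Subgroup.normalizer (Y : Set G) → b ∈ Subgroup.normalizer (Y : Set G) →
      a ∈ Subgroup.normalizer (B : Set G) → b ∈ Subgroup.normalizer (B : Set G) →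
      ∀ θ : G → ℂ, IrrOn B θ → cj a θ = θ → cj b θ = θ → (∃ ψ, IrrOn Y ψ ∧ ∀ x ∈ B, ψ x = θ x) →
      ((Finset.univ : Finset (Irr Y)).filter fun ψ =>
          (∀ x ∈ B, ψ.1 x = θ x) ∧ cj a ψ.1 = ψ.1 ∧ cj b ψ.1 = ψ.1).card =
        ((Finset.univ : Finset (Irr Y)).filter fun l =>
          Lin Y B l.1 ∧ cj a l.1 = l.1 ∧ cj b l.1 = l.1).card := by
    intro Y B hBY hYB heY hCY haY hbY haB hbB θ hθ haθ hbθ hψ
    obtain ⟨ψ, hψ, hψres⟩ := hψ
    obtain ⟨ψa, hψa, hψares, hψafix, -⟩ :=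
      exists_fixed_step (p := p) hBY hYB heY hθ hψ hψres haY haB haθ (hCY han) hnp
    obtain ⟨ψ0, hψ0, hψ0res, hψ0b, hkeep⟩ :=
      exists_fixed_step (p := p) hBY hYB heY hθ hψa hψares hbY hbB hbθ (hCY hbn) hnp
    have hψ0a : cj a ψ0 = ψ0 := hkeep a haY haB (hCY
      (by simpa [mul_assoc] using C.inv_mem hab.2)) hψafix
    obtain ⟨hgal, huniq⟩ := gallagher hBY hYB hθ hψ0 hψ0res
    symm
    refine Finset.card_bij (fun l hl => ⟨fun x => l.1 x * ψ0 x,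
      hψ0.twist l.2 (Finset.mem_filter.1 hl).2.1.2.1⟩) (fun l hl => ?_) (fun l hl l' hl' e => ?_)
      (fun γ hγ => ?_)
    · obtain ⟨-, hlL, hla, hlb⟩ := Finset.mem_filter.1 hl
      refine Finset.mem_filter.2 ⟨Finset.mem_univ _, fun x hx => ?_, ?_, ?_⟩
      · show l.1 x * ψ0 x = θ x
        rw [hlL.2.2 x hx, one_mul, hψ0res x hx]
      · exact funext fun x => congrArg₂ (· * ·) (congrFun hla x) (congrFun hψ0a x)
      · exact funext fun x => congrArg₂ (· * ·) (congrFun hlb x) (congrFun hψ0b x)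
    · exact Subtype.ext (huniq _ _ (Finset.mem_filter.1 hl).2.1 (Finset.mem_filter.1 hl').2.1
        fun x => congrFun (congrArg Subtype.val e) x)
    · obtain ⟨-, hγres, hγa, hγb⟩ := Finset.mem_filter.1 hγ
      obtain ⟨l, hl, hle⟩ := hgal γ.1 γ.2 hγres
      have hg : ∀ g ∈ Subgroup.normalizer (Y : Set G), g ∈ Subgroup.normalizer (B : Set G) →
          cj g γ.1 = γ.1 → cj g ψ0 = ψ0 → cj g l = l := fun g hgY hgB hgγ hgψ => by
        refine huniq _ _ ⟨hl.1.cj hgY, by show l (g * 1 * g⁻¹) = 1; simp [hl.2.1],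
          fun y hy => hl.2.2 _ ((mem_conj_iff hgB y).2 hy)⟩ hl fun x => ?_
        rw [← congrFun hle x, ← congrFun hgγ x, hle]
        show _ = l (g * x * g⁻¹) * ψ0 (g * x * g⁻¹)
        rw [show ψ0 (g * x * g⁻¹) = ψ0 x from congrFun hgψ x]; rfl
      exact ⟨⟨l, hl.1⟩, Finset.mem_filter.2 ⟨Finset.mem_univ _, hl, hg a haY haB hγa hψ0a,
        hg b hbY hbB hγb hψ0b⟩, Subtype.ext hle.symm⟩
  -- both sums as sums over `T`
  have key : ∀ {Y B : Subgroup G}, B ≤ Y → Y ≤ Subgroup.normalizer (B : Set G) →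
      B.relIndex Y = p ^ e → C ≤ Y → L ≤ B → B ≤ K →
      a ∈ Subgroup.normalizer (Y : Set G) → b ∈ Subgroup.normalizer (Y : Set G) →
      a ∈ Subgroup.normalizer (B : Set G) → b ∈ Subgroup.normalizer (B : Set G) →
      a ∈ cmod B b →
      ∑ ψ ∈ psi p Y L ν, phi Y ψ.1 a b =
        ∑ θ ∈ (Finset.univ : Finset (Irr B)).filter (fun θ => Over L ν θ.1 ∧ cj a θ.1 = θ.1 ∧
            cj b θ.1 = θ.1 ∧ ∃ ψ, IrrOn Y ψ ∧ ∀ x ∈ B, ψ x = θ.1 x),
          (((Finset.univ : Finset (Irr Y)).filter fun l =>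
            Lin Y B l.1 ∧ cj a l.1 = l.1 ∧ cj b l.1 = l.1).card : ℂ) * phi B θ.1 a b := by
    intro Y B hBY hYB heY hCY hLB hBK haY hbY haB hbB habB
    set S := (psi p Y L ν).filter fun ψ => cj a ψ.1 = ψ.1 ∧ cj b ψ.1 = ψ.1
    rw [← Finset.sum_subset (Finset.filter_subset _ _ : S ⊆ psi p Y L ν) fun ψ hψ hψS => by
      by_cases haψ : cj a ψ.1 = ψ.1
      · exact phi_eq_zero_of_not_fixed' ψ.2 haY hbY fun hbψ =>
          hψS (Finset.mem_filter.2 ⟨hψ, haψ, hbψ⟩)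
      · exact phi_eq_zero_of_not_fixed ψ.2 haY hbY haψ]
    have hS : ∀ ψ ∈ S, IrrOn B (res B ψ.1) := fun ψ hψ =>
      res_irr hBY hYB heY ψ.2 (mem_psi.1 (Finset.mem_filter.1 hψ).1).1
    let f : Irr Y → Irr B := fun ψ => if hh : IrrOn B (res B ψ.1) then ⟨_, hh⟩ else
      Classical.choice (Classical.byContradiction fun hne => by
        obtain ⟨γ, -⟩ := exists_constituent (ψ.2.charOn_le hBY) (apply_one_ne_zero ψ.2)
        exact hne ⟨γ⟩)
    have hf : ∀ ψ ∈ S, (f ψ).1 = res B ψ.1 := fun ψ hψ => by simp only [f, dif_pos (hS ψ hψ)]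
    have hfix : ∀ ψ ∈ S, ∀ g ∈ Subgroup.normalizer (B : Set G), cj g ψ.1 = ψ.1 →
        cj g (f ψ).1 = (f ψ).1 := fun ψ hψ g hg hgψ => by
      refine ((f ψ).2.cj hg).ext (f ψ).2 fun y hy => ?_
      rw [hf ψ hψ]
      show res B ψ.1 (g * y * g⁻¹) = _
      rw [res_of_mem _ ((mem_conj_iff hg y).2 hy), res_of_mem _ hy]
      exact congrFun hgψ y
    rw [← Finset.sum_fiberwise_of_maps_to (g := f) (t := Finset.univ.filter fun θ : Irr B =>
      Over L ν θ.1 ∧ cj a θ.1 = θ.1 ∧ cj b θ.1 = θ.1 ∧ ∃ ψ, IrrOn Y ψ ∧ ∀ x ∈ B, ψ x = θ.1 x)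
      fun ψ hψ => by
        obtain ⟨hψp, haψ, hbψ⟩ := Finset.mem_filter.1 hψ
        refine Finset.mem_filter.2 ⟨Finset.mem_univ _, ?_, hfix ψ hψ a haB haψ,
          hfix ψ hψ b hbB hbψ, ψ.1, ψ.2, fun x hx => by rw [hf ψ hψ, res_of_mem _ hx]⟩
        show mu L (f ψ).1 ν ≠ 0
        rw [hf ψ hψ, mu_congr (f' := ψ.1) fun x hx => res_of_mem _ (hLB hx)]
        exact (mem_psi.1 hψp).2]
    refine Finset.sum_congr rfl fun θ hθ => ?_
    obtain ⟨-, hθo, hθa, hθb, hθe⟩ := Finset.mem_filter.1 hθ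
    have hmemS : S.filter (fun ψ => f ψ = θ) = (Finset.univ : Finset (Irr Y)).filter fun ψ =>
        (∀ x ∈ B, ψ.1 x = θ.1 x) ∧ cj a ψ.1 = ψ.1 ∧ cj b ψ.1 = ψ.1 := by
      ext ψ
      constructor
      · intro hh
        obtain ⟨hψ, hfψ⟩ := Finset.mem_filter.1 hh
        obtain ⟨-, haψ, hbψ⟩ := Finset.mem_filter.1 hψ
        exact Finset.mem_filter.2 ⟨Finset.mem_univ _,
          fun x hx => by rw [← hfψ, hf ψ hψ, res_of_mem _ hx], haψ, hbψ⟩
      · intro hh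
        obtain ⟨-, hres, haψ, hbψ⟩ := Finset.mem_filter.1 hh
        have hψS : ψ ∈ S := by
          refine Finset.mem_filter.2 ⟨mem_psi.2 ⟨?_, ?_⟩, haψ, hbψ⟩
          · rw [show charDegree ψ.1 = charDegree θ.1 by
              simp only [charDegree, hres 1 B.one_mem]]
            exact hdeg hLB hBK θ.1 θ.2 hθo
          · show mu L ψ.1 ν ≠ 0
            rw [mu_congr fun x hx => hres x (hLB hx)]
            exact hθo
        refine Finset.mem_filter.2 ⟨hψS, Subtype.ext ((f ψ).2.ext θ.2 fun x hx => ?_)⟩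
        rw [hf ψ hψS, res_of_mem _ hx, hres x hx]
    rw [Finset.sum_congr rfl (g := fun _ => phi B θ.1 a b) fun ψ hψ => by
      rw [hmemS] at hψ
      obtain ⟨-, hres, haψ, hbψ⟩ := Finset.mem_filter.1 hψ
      exact phi_restrict hBY θ.2 ψ.2 hres haB hbB haY hbY habB haψ hbψ hθa,
      Finset.sum_const, nsmul_eq_mul, hmemS,
      fibre hBY hYB heY hCY haY hbY haB hbB θ.1 θ.2 hθa hθb hθe]
  rw [key hKM hMn hKMe (hCK.trans hKM) hLK le_rfl haM hbM haK hbK habK,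
    key hCM1 hM1C hCM1e hCM1 hLC hCK haM1 hbM1 haC hbC hab]
  change ∑ θ ∈ _, ((Z.card : ℕ) : ℂ) * _ = ∑ β ∈ _, ((Z1.card : ℕ) : ℂ) * _
  rw [hZ]
  refine Finset.sum_bij (fun θ hθ => c θ (Finset.mem_filter.1 hθ).2) (fun θ hθ => ?_)
    (fun θ hθ θ' hθ' e => ?_) (fun β hβ => ?_) (fun θ hθ => ?_)
  · exact Finset.mem_filter.2 ⟨Finset.mem_univ _, hcT1 θ (Finset.mem_filter.1 hθ).2⟩
  · have hT := (Finset.mem_filter.1 hθ).2
    have hT' := (Finset.mem_filter.1 hθ').2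
    exact Subtype.ext (hinj θ.1 θ'.1 _ θ.2 θ'.2 hT.1 hT'.1 (hTR θ hT) (hTR θ' hT') (hc θ hT).1
      (e ▸ (hc θ' hT').1))
  · obtain ⟨θ, hθ, e⟩ := hcsurj β (Finset.mem_filter.1 hβ).2
    exact ⟨θ, Finset.mem_filter.2 ⟨Finset.mem_univ _, hθ⟩, e⟩
  · rw [hphi θ (Finset.mem_filter.1 hθ).2]

end Cfsg.Agent.Rel80
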