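import Cfsg.Agent.Lib.Rel80Basic

/-!
# Cyclic extensions of an invariant character

`cyc N a` is the subgroup generated by `N` and `a`; `lam N a` the linear characters of it trivial
on `N`; `co N a f g` the normalised inner product over the coset `a * N`.
-/

set_option autoImplicit false
set_option linter.unusedSectionVars false

open scoped ComplexConjugate

namespace Cfsg.Agent.Rel80

open Cfsg Cfsg.Agent.CharBasic Cfsg.Agent.CharBasicOrth Cfsg.Agent.CharBasicDecomp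

universe u

variable {G : Type u} [Group G] [Fintype G]

/-- The elements commuting with `s` modulo `N`. -/
def cmod (N : Subgroup G) (s : G) : Subgroup G where
  carrier := {x | x ∈ Subgroup.normalizer (N : Set G) ∧ s * x * s⁻¹ * x⁻¹ ∈ N}
  one_mem' := ⟨Subgroup.one_mem _, by simp⟩
  mul_mem' := fun {x y} hx hy => by
    refine ⟨Subgroup.mul_mem _ hx.1 hy.1, ?_⟩
    have h := N.mul_mem hx.2 ((mem_conj_iff hx.1 _).2 hy.2)
    simpa [mul_assoc] using h
  inv_mem' := fun {x} hx => by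
    refine ⟨Subgroup.inv_mem _ hx.1, ?_⟩
    have h := (mem_conj_iff (Subgroup.inv_mem _ hx.1) _).2 (N.inv_mem hx.2)
    simpa [mul_assoc] using h

theorem mem_cmod {N : Subgroup G} {s x : G} : x ∈ cmod N s ↔
    x ∈ Subgroup.normalizer (N : Set G) ∧ s * x * s⁻¹ * x⁻¹ ∈ N := Iff.rfl

theorem le_cmod {N : Subgroup G} {s : G} (hs : s ∈ Subgroup.normalizer (N : Set G)) :
    N ≤ cmod N s :=
  fun _ hn => ⟨Subgroup.le_normalizer hn, N.mul_mem ((mem_conj_iff hs _).2 hn) (N.inv_mem hn)⟩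

theorem mem_cmod_symm {N : Subgroup G} {s x : G} (hs : s ∈ Subgroup.normalizer (N : Set G))
    (hx : x ∈ cmod N s) : s ∈ cmod N x :=
  ⟨hs, by simpa [mul_assoc] using N.inv_mem hx.2⟩

/-- `N` with one more generator. -/
def cyc (N : Subgroup G) (a : G) : Subgroup G := N ⊔ Subgroup.zpowers a

theorem le_cyc {N : Subgroup G} {a : G} : N ≤ cyc N a := le_sup_left

theorem self_mem_cyc {N : Subgroup G} {a : G} : a ∈ cyc N a :=
  (le_sup_right : Subgroup.zpowers a ≤ cyc N a) (Subgroup.mem_zpowers a)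

theorem cyc_le {N H : Subgroup G} {a : G} (hN : N ≤ H) (ha : a ∈ H) : cyc N a ≤ H :=
  sup_le hN (Subgroup.zpowers_le.2 ha)

theorem cyc_le_normalizer {N : Subgroup G} {a : G} (ha : a ∈ Subgroup.normalizer (N : Set G)) :
    cyc N a ≤ Subgroup.normalizer (N : Set G) :=
  cyc_le Subgroup.le_normalizer ha

theorem mem_cyc {N : Subgroup G} {a : G} (ha : a ∈ Subgroup.normalizer (N : Set G)) {x : G} :
    x ∈ cyc N a ↔ ∃ n ∈ N, ∃ i : ℤ, n * a ^ i = x := by
  have h := Subgroup.coe_mul_of_right_le_normalizer_left N (Subgroup.zpowers a)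
    (Subgroup.zpowers_le.2 ha)
  rw [← SetLike.mem_coe, cyc, h, Set.mem_mul]
  simp [Subgroup.mem_zpowers_iff]

theorem cyc_mul_mem {N : Subgroup G} {a : G} (ha : a ∈ Subgroup.normalizer (N : Set G)) {x : G}
    (hx : x ∈ cyc N a) : ∃ n ∈ N, ∃ t ∈ Subgroup.zpowers a, n * t = x := by
  obtain ⟨n, hn, i, rfl⟩ := (mem_cyc ha).1 hx
  exact ⟨n, hn, _, Subgroup.mem_zpowers_iff.2 ⟨i, rfl⟩, rfl⟩

theorem cyc_comm {N : Subgroup G} {a : G} (ha : a ∈ Subgroup.normalizer (N : Set G)) {x y : G}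
    (hx : x ∈ cyc N a) (hy : y ∈ cyc N a) : x * y * x⁻¹ * y⁻¹ ∈ N := by
  have h1 : cyc N a ≤ cmod N a := cyc_le (le_cmod ha) ⟨ha, by simp⟩
  have h2 : cyc N a ≤ cmod N x :=
    cyc_le (le_cmod (cyc_le_normalizer ha hx)) (mem_cmod_symm ha (h1 hx))
  exact (h2 hy).2

theorem pow_relIndex_mem {N H : Subgroup G} (hNH : N ≤ H)
    (hn : H ≤ Subgroup.normalizer (N : Set G)) {x : G} (hx : x ∈ H) : x ^ N.relIndex H ∈ N := by
  haveI : (N.subgroupOf H).Normal := (Subgroup.normal_subgroupOf_iff_le_normalizer hNH).2 hn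
  exact Subgroup.pow_index_mem (N.subgroupOf H) (⟨x, hx⟩ : H)

open scoped Classical in
/-- The linear characters of `cyc N a` trivial on `N`. -/
noncomputable def lam (N : Subgroup G) (a : G) : Finset (Irr (cyc N a)) :=
  Finset.univ.filter fun l => l.1 1 = 1 ∧ ∀ x ∈ N, l.1 x = 1

theorem mem_lam {N : Subgroup G} {a : G} {l : Irr (cyc N a)} :
    l ∈ lam N a ↔ l.1 1 = 1 ∧ ∀ x ∈ N, l.1 x = 1 := by simp [lam]

theorem lam_mul {N : Subgroup G} {a : G} {l : Irr (cyc N a)} (hl : l ∈ lam N a) {x y : G}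
    (hx : x ∈ cyc N a) (hy : y ∈ cyc N a) : l.1 (x * y) = l.1 x * l.1 y :=
  linear_mul l.2 (mem_lam.1 hl).1 hx hy

theorem lam_coset {N : Subgroup G} {a : G} {l : Irr (cyc N a)} (hl : l ∈ lam N a) {x n : G}
    (hx : x ∈ cyc N a) (hn : n ∈ N) : l.1 (x * n) = l.1 x := by
  rw [lam_mul hl hx (le_cyc hn), (mem_lam.1 hl).2 n hn, mul_one]

theorem lam_pow {N : Subgroup G} {a : G} {l : Irr (cyc N a)} (hl : l ∈ lam N a) {x : G}
    (hx : x ∈ cyc N a) (k : ℕ) : l.1 (x ^ k) = l.1 x ^ k := by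
  induction k with
  | zero => simpa using (mem_lam.1 hl).1
  | succ k ih => rw [pow_succ, pow_succ, lam_mul hl ((cyc N a).pow_mem hx k) hx, ih]

open scoped Classical in
/-- The sum of the linear characters at an element. -/
theorem sum_lam {N : Subgroup G} {a : G} (ha : a ∈ Subgroup.normalizer (N : Set G)) {x : G}
    (hx : x ∈ cyc N a) :
    ∑ l ∈ lam N a, l.1 x = if x ∈ N then (N.relIndex (cyc N a) : ℂ) else 0 := by
  set E := cyc N a
  haveI hnor : (N.subgroupOf E).Normal :=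
    (Subgroup.normal_subgroupOf_iff_le_normalizer le_cyc).2 (cyc_le_normalizer ha)
  haveI := Fintype.ofFinite (E ⧸ N.subgroupOf E)
  have hcomm : ∀ q r : E ⧸ N.subgroupOf E, q * r = r * q := by
    intro q r
    obtain ⟨q, rfl⟩ := QuotientGroup.mk_surjective q
    obtain ⟨r, rfl⟩ := QuotientGroup.mk_surjective r
    rw [← QuotientGroup.mk_mul, ← QuotientGroup.mk_mul, QuotientGroup.eq]
    show ((q : G) * r)⁻¹ * (r * q) ∈ N
    simpa [mul_assoc] using cyc_comm ha (E.inv_mem r.2) (E.inv_mem q.2)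
  let mk := QuotientGroup.mk' (N.subgroupOf E)
  let f : IrrCharacter (E ⧸ N.subgroupOf E) → Irr E := fun γ =>
    irrEquiv E ⟨(γ : E ⧸ N.subgroupOf E → ℂ) ∘ mk,
      isIrrCharacter_comap mk (QuotientGroup.mk'_surjective _) γ.2⟩
  have hf : ∀ γ (y : E), (f γ).1 y = (γ : E ⧸ N.subgroupOf E → ℂ) (y : E ⧸ N.subgroupOf E) := fun γ y =>
    irrEquiv_apply E _ y
  have hone : ∀ γ : IrrCharacter (E ⧸ N.subgroupOf E), (γ : E ⧸ N.subgroupOf E → ℂ) 1 = 1 := fun γ =>
    CharBasicLinear.apply_one_eq_one_of_comm (G := E ⧸ N.subgroupOf E) hcomm γ.2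
  have h1 : ∑ l ∈ lam N a, l.1 x =
      ∑ γ : IrrCharacter (E ⧸ N.subgroupOf E), (γ : E ⧸ N.subgroupOf E → ℂ) ((⟨x, hx⟩ : E) : E ⧸ N.subgroupOf E) := by
    symm
    refine Finset.sum_bij (fun γ _ => f γ) (fun γ _ => mem_lam.2 ⟨?_, fun y hy => ?_⟩)
      (fun γ _ γ' _ e => ?_) (fun l hl => ?_) (fun γ _ => (hf γ ⟨x, hx⟩).symm)
    · exact (hf γ 1).trans (hone γ)
    · rw [show y = ((⟨y, le_cyc hy⟩ : E) : G) from rfl, hf,
        (QuotientGroup.eq_one_iff _).2 (show (⟨y, le_cyc hy⟩ : E) ∈ N.subgroupOf E from hy), hone]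
    · refine Subtype.ext (funext fun q => ?_)
      obtain ⟨q, rfl⟩ := QuotientGroup.mk_surjective q
      rw [← hf, ← hf, e]
    · obtain ⟨hl1, hlN⟩ := mem_lam.1 hl
      obtain ⟨γ, hγ⟩ := CharKernel.exists_quot_irr (N.subgroupOf E) ((irrEquiv E).symm l)
        (fun n hn => (hlN _ hn).trans hl1.symm)
      exact ⟨γ, Finset.mem_univ _, Subtype.ext ((f γ).2.ext l.2 fun y hy =>
        (hf γ ⟨y, hy⟩).trans (hγ ⟨y, hy⟩).symm)⟩
  rw [h1]
  have h2 : ∀ q : E ⧸ N.subgroupOf E, (∑ γ : IrrCharacter (E ⧸ N.subgroupOf E), (γ : E ⧸ N.subgroupOf E → ℂ) q) =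
      ∑ γ : IrrCharacter (E ⧸ N.subgroupOf E), (γ : E ⧸ N.subgroupOf E → ℂ) q * conj ((γ : E ⧸ N.subgroupOf E → ℂ) 1) := by
    intro q; simp [hone]
  rw [h2, sum_irr_mul_conj]
  have hiff : IsConj ((⟨x, hx⟩ : E) : E ⧸ N.subgroupOf E) 1 ↔ x ∈ N := by
    rw [isConj_one_left, QuotientGroup.eq_one_iff]; rfl
  by_cases hxN : x ∈ N
  · rw [if_pos (hiff.2 hxN), if_pos hxN, Subgroup.relIndex, Subgroup.index_eq_card,
      Nat.cast_inj]
    refine Nat.card_congr (Equiv.subtypeUnivEquiv fun q => ?_)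
    exact Subgroup.mem_centralizer_iff.2 fun y _ => hcomm y q
  · rw [if_neg (mt hiff.1 hxN), if_neg hxN]

theorem relIndex_ne_zero (N H : Subgroup G) : (N.relIndex H : ℂ) ≠ 0 :=
  Nat.cast_ne_zero.2 Subgroup.index_ne_zero_of_finite

theorem card_mul_relIndex {N H : Subgroup G} (h : N ≤ H) :
    (Nat.card N : ℂ) * N.relIndex H = Nat.card H := by
  rw [← Nat.cast_mul, Subgroup.relIndex,
    ← Nat.card_congr (Subgroup.subgroupOfEquivOfLe h).toEquiv, Subgroup.card_mul_index]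

/-- An invariant character extends to a cyclic extension. -/
theorem exists_ext {N : Subgroup G} {a : G} (ha : a ∈ Subgroup.normalizer (N : Set G))
    {θ : G → ℂ} (hθ : IrrOn N θ) (hinv : cj a θ = θ) :
    ∃ χ : G → ℂ, IrrOn (cyc N a) χ ∧ ∀ x ∈ N, χ x = θ x := by
  classical
  set E := cyc N a
  haveI hnor : (N.subgroupOf E).Normal :=
    (Subgroup.normal_subgroupOf_iff_le_normalizer le_cyc).2 (cyc_le_normalizer ha)
  let e := Subgroup.subgroupOfEquivOfLe (le_cyc : N ≤ E)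
  let θ' : N.subgroupOf E → ℂ := fun x => θ ((x : E) : G)
  have hθ' : IsIrrCharacter (N.subgroupOf E) θ' :=
    isIrrCharacter_comap e.toMonoidHom e.surjective hθ.1
  let S : Subgroup G :=
    { carrier := {g | g ∈ Subgroup.normalizer (N : Set G) ∧ cj g θ = θ}
      one_mem' := ⟨Subgroup.one_mem _, cj_one θ⟩
      mul_mem' := fun {x y} hx hy => ⟨Subgroup.mul_mem _ hx.1 hy.1, by rw [← cj_cj, hx.2, hy.2]⟩
      inv_mem' := fun {x} hx => ⟨Subgroup.inv_mem _ hx.1, by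
        conv_lhs => rw [← hx.2]
        rw [cj_cj, mul_inv_cancel, cj_one]⟩ }
  have hE : E ≤ S := cyc_le (fun n hn => ⟨Subgroup.le_normalizer hn, cj_of_mem hθ hn⟩) ⟨ha, hinv⟩
  obtain ⟨d, ρ, -, -, hρ, hS, himpl, hirr⟩ :=
    CharExtension.exists_setup (N := N.subgroupOf E) hθ' fun g n => congrFun (hE g.2).2 _
  have hcyc : IsCyclic (E ⧸ N.subgroupOf E) := by
    refine ⟨⟨((⟨a, self_mem_cyc⟩ : E) : E ⧸ _), fun q => ?_⟩⟩
    obtain ⟨⟨q, hq⟩, rfl⟩ := QuotientGroup.mk_surjective q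
    obtain ⟨n, hn, i, rfl⟩ := (mem_cyc ha).1 hq
    refine Subgroup.mem_zpowers_iff.2 ⟨i, ?_⟩
    rw [← QuotientGroup.mk_zpow, QuotientGroup.eq]
    show ((⟨a, self_mem_cyc⟩ ^ i : E) : G)⁻¹ * (n * a ^ i) ∈ N
    have := (mem_conj_iff (Subgroup.inv_mem _ (Subgroup.zpow_mem _ ha i)) n).2 hn
    simpa [mul_assoc] using this
  obtain ⟨η, hη⟩ := CharExtension.exists_ext_cyclic hS himpl
    (fun k z hk => CharExtension.exists_root k z hk) hcyc
  obtain ⟨h1, h2⟩ := CharExtension.ext_to_char_top hirr η hη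
  refine ⟨lift E (CharExtension.chr η), irrOn_lift E h1, fun x hx => ?_⟩
  rw [show x = ((⟨x, le_cyc hx⟩ : E) : G) from rfl, lift_coe]
  exact (h2 ⟨⟨x, le_cyc hx⟩, hx⟩).trans (congrFun hρ _)

/-- The coset inner product. -/
noncomputable def co (N : Subgroup G) (a : G) (f g : G → ℂ) : ℂ :=
  (Nat.card N : ℂ)⁻¹ * ∑ n ∈ el N, f (a * n) * conj (g (a * n))

/-- `sum_lam` isolates the coset of `a`. -/
theorem sum_coset {N : Subgroup G} {a : G} (ha : a ∈ Subgroup.normalizer (N : Set G))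
    (F : G → ℂ) :
    ∑ l ∈ lam N a, l.1 a⁻¹ * ∑ x ∈ el (cyc N a), l.1 x * F x =
      (N.relIndex (cyc N a) : ℂ) * ∑ n ∈ el N, F (a * n) := by
  classical
  simp only [Finset.mul_sum]
  rw [Finset.sum_comm]
  have h : ∀ x ∈ el (cyc N a), ∑ l ∈ lam N a, l.1 a⁻¹ * (l.1 x * F x) =
      (if a⁻¹ * x ∈ N then (N.relIndex (cyc N a) : ℂ) else 0) * F x := fun x hx => by
    rw [← sum_lam ha ((cyc N a).mul_mem ((cyc N a).inv_mem self_mem_cyc) (mem_el.1 hx)),
      Finset.sum_mul]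
    refine Finset.sum_congr rfl fun l hl => ?_
    rw [lam_mul hl ((cyc N a).inv_mem self_mem_cyc) (mem_el.1 hx), mul_assoc]
  rw [Finset.sum_congr rfl h]
  simp only [ite_mul, zero_mul]
  rw [← Finset.sum_filter]
  refine Finset.sum_bij' (fun x _ => a⁻¹ * x) (fun n _ => a * n)
    (fun x hx => mem_el.2 (Finset.mem_filter.1 hx).2)
    (fun n hn => Finset.mem_filter.2 ⟨mem_el.2 ((cyc N a).mul_mem self_mem_cyc
      (le_cyc (mem_el.1 hn))), by simpa using mem_el.1 hn⟩)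
    (fun x _ => by simp) (fun n _ => by simp) (fun x _ => by simp)

/-- Extensions of `θ`. -/
def Ext (N : Subgroup G) (a : G) (θ χ : G → ℂ) : Prop :=
  IrrOn (cyc N a) χ ∧ ∀ x ∈ N, χ x = θ x

theorem Ext.inn {N : Subgroup G} {a : G} {θ χ : G → ℂ} (h : Ext N a θ χ) (hθ : IrrOn N θ) :
    Rel80.inn N χ θ = 1 := by
  rw [inn_congr h.2 fun _ _ => rfl, inn_self hθ]

/-- A constituent over `θ` is a twist of any extension. -/
theorem exists_twist {N : Subgroup G} {a : G} (ha : a ∈ Subgroup.normalizer (N : Set G))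
    {θ χ χ' : G → ℂ} (hχ : Ext N a θ χ) (hχ' : IrrOn (cyc N a) χ') (h : inn N χ' θ ≠ 0) :
    ∃ l ∈ lam N a, χ' = fun x => l.1 x * χ x := by
  classical
  by_contra hno
  push Not at hno
  apply h
  set E := cyc N a
  have h0 : ∀ l ∈ lam N a, ∑ x ∈ el E, conj (l.1 x) * (χ' x * conj (χ x)) = 0 := by
    intro l hl
    have h1 := card_mul_inn E χ' fun x => l.1 x * χ x
    rw [inn_ne hχ' (hχ.1.twist l.2 (mem_lam.1 hl).1) (hno l hl), mul_zero] at h1
    rw [h1]
    exact Finset.sum_congr rfl fun x _ => by rw [map_mul]; ring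
  have h2 : ∑ x ∈ el E, (if x ∈ N then (N.relIndex E : ℂ) else 0) * (χ' x * conj (χ x)) = 0 := by
    refine Eq.trans ?_ (Finset.sum_eq_zero h0)
    rw [Finset.sum_comm]
    refine Finset.sum_congr rfl fun x hx => ?_
    rw [← Finset.sum_mul, ← map_sum, sum_lam ha (mem_el.1 hx)]
    split_ifs <;> simp [E]
  simp only [ite_mul, zero_mul] at h2
  rw [← Finset.sum_filter, ← Finset.mul_sum] at h2
  have h3 : (el E).filter (· ∈ N) = el N := by
    ext x
    simp only [Finset.mem_filter, mem_el]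
    exact ⟨fun hx => hx.2, fun hx => ⟨le_cyc hx, hx⟩⟩
  rw [h3] at h2
  rw [inn, Finset.sum_congr rfl fun x hx => by rw [← hχ.2 x (mem_el.1 hx)],
    (mul_eq_zero.1 h2).resolve_left (relIndex_ne_zero N E), mul_zero]

/-- A twist equal to the original is trivial on the generator. -/
theorem co_self {N : Subgroup G} {a : G} (ha : a ∈ Subgroup.normalizer (N : Set G))
    {θ χ : G → ℂ} (hθ : IrrOn N θ) (hχ : Ext N a θ χ) : co N a χ χ = 1 := by
  classical
  set E := cyc N a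
  have htw : ∀ l ∈ lam N a, ∑ x ∈ el E, l.1 x * (χ x * conj (χ x)) =
      (Nat.card E : ℂ) * (if (fun x => l.1 x * χ x) = χ then 1 else 0) := by
    intro l hl
    have h1 : ∑ x ∈ el E, l.1 x * (χ x * conj (χ x)) =
        (Nat.card E : ℂ) * inn E (fun x => l.1 x * χ x) χ := by
      rw [card_mul_inn]; exact Finset.sum_congr rfl fun x _ => by ring
    rw [h1]
    split_ifs with he
    · rw [he, inn_self hχ.1]
    · rw [inn_ne (hχ.1.twist l.2 (mem_lam.1 hl).1) hχ.1 he]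
  have hN : (Nat.card N : ℂ) * inn N χ χ = Nat.card N := by
    rw [inn_congr hχ.2 hχ.2, inn_self hθ, mul_one]
  -- only the trivial twist fixes `χ`
  have hsum : ∑ l ∈ lam N a, ∑ x ∈ el E, l.1 x * (χ x * conj (χ x)) = (Nat.card E : ℂ) := by
    rw [Finset.sum_comm]
    have h1 : ∀ x ∈ el E, ∑ l ∈ lam N a, l.1 x * (χ x * conj (χ x)) =
        if x ∈ N then (N.relIndex E : ℂ) * (χ x * conj (χ x)) else 0 := fun x hx => by
      rw [← Finset.sum_mul, sum_lam ha (mem_el.1 hx)]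
      split_ifs <;> simp [E]
    rw [Finset.sum_congr rfl h1, ← Finset.sum_filter, ← Finset.mul_sum]
    have h3 : (el E).filter (· ∈ N) = el N := by
      ext x
      simp only [Finset.mem_filter, mem_el]
      exact ⟨fun hx => hx.2, fun hx => ⟨le_cyc hx, hx⟩⟩
    rw [h3, ← card_mul_inn, hN, mul_comm, card_mul_relIndex le_cyc]
  rw [Finset.sum_congr rfl htw, ← Finset.mul_sum] at hsum
  have hcard : ((lam N a).filter fun l => (fun x => l.1 x * χ x) = χ).card = 1 := by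
    have := mul_left_cancel₀ (card_ne_zero E) (hsum.trans (mul_one _).symm)
    rw [Finset.sum_boole] at this
    exact_mod_cast this
  have htriv : ∀ l ∈ lam N a, (fun x => l.1 x * χ x) = χ → ∀ x ∈ E, l.1 x = 1 := by
    obtain ⟨l₁, hl₁⟩ : ∃ l₁, l₁ ∈ lam N a ∧ ∀ x ∈ E, l₁.1 x = 1 := by
      refine ⟨irrEquiv E ⟨fun _ => 1, isIrrCharacter_one⟩, mem_lam.2 ⟨?_, fun x hx => ?_⟩,
        fun x hx => ?_⟩
      exacts [irrEquiv_apply E _ ⟨1, E.one_mem⟩, irrEquiv_apply E _ ⟨x, le_cyc hx⟩,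
        irrEquiv_apply E _ ⟨x, hx⟩]
    intro l hl he
    obtain ⟨l₀, hl₀⟩ := Finset.card_eq_one.1 hcard
    have e1 : l = l₀ := Finset.mem_singleton.1 (hl₀ ▸ Finset.mem_filter.2 ⟨hl, he⟩)
    have e2 : l₁ = l₀ := by
      refine Finset.mem_singleton.1 (hl₀ ▸ Finset.mem_filter.2 ⟨hl₁.1, funext fun x => ?_⟩)
      by_cases hx : x ∈ E
      · rw [hl₁.2 x hx, one_mul]
      · rw [hχ.1.2 x hx, mul_zero]
    rw [e1, ← e2]
    exact hl₁.2
  have key : ∑ l ∈ lam N a, l.1 a⁻¹ * ∑ x ∈ el E, l.1 x * (χ x * conj (χ x)) =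
      (Nat.card E : ℂ) := by
    rw [Finset.sum_congr rfl fun l hl => by rw [htw l hl]]
    have h1 : ∀ l ∈ lam N a, l.1 a⁻¹ * ((Nat.card E : ℂ) *
        (if (fun x => l.1 x * χ x) = χ then 1 else 0)) =
        (Nat.card E : ℂ) * (if (fun x => l.1 x * χ x) = χ then 1 else 0) := fun l hl => by
      split_ifs with he
      · rw [htriv l hl he _ (E.inv_mem self_mem_cyc), one_mul]
      · simp
    rw [Finset.sum_congr rfl h1, ← Finset.mul_sum]
    exact hsum
  rw [sum_coset ha, ← card_mul_relIndex le_cyc, mul_comm] at key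
  rw [co, mul_right_cancel₀ (relIndex_ne_zero N E) key, inv_mul_cancel₀ (card_ne_zero N)]

/-- The scalar between an extension and a twist of it. -/
theorem co_twist {N : Subgroup G} {a : G} (ha : a ∈ Subgroup.normalizer (N : Set G))
    {θ χ χ' : G → ℂ} (hθ : IrrOn N θ) (hχ : Ext N a θ χ) {l : Irr (cyc N a)} (hl : l ∈ lam N a)
    (h : ∀ n ∈ N, χ' (a * n) = l.1 (a * n) * χ (a * n)) : co N a χ' χ = l.1 a := by
  have h1 := co_self ha hθ hχ
  unfold co at h1 ⊢
  rw [Finset.sum_congr rfl fun n hn => by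
    rw [h n (mem_el.1 hn), lam_coset hl self_mem_cyc (mem_el.1 hn), mul_assoc],
    ← Finset.mul_sum, mul_left_comm, h1, mul_one]

theorem cj_cyc {N : Subgroup G} {a : G} (ha : a ∈ Subgroup.normalizer (N : Set G)) {b : G}
    (hbN : b ∈ Subgroup.normalizer (N : Set G)) (hba : a ∈ cmod N b) :
    b ∈ Subgroup.normalizer (cyc N a : Set G) := by
  have hle : cyc N a ≤ cmod N b := cyc_le (le_cmod hbN) hba
  have hb' : a ∈ cmod N b⁻¹ :=
    mem_cmod_symm ha ((cmod N a).inv_mem (mem_cmod_symm hbN hba))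
  have hle' : cyc N a ≤ cmod N b⁻¹ := cyc_le (le_cmod (Subgroup.inv_mem _ hbN)) hb'
  refine Subgroup.mem_normalizer_iff.2 fun x => ⟨fun hx => ?_, fun hx => ?_⟩
  · simpa [mul_assoc] using (cyc N a).mul_mem (le_cyc (hle hx).2) hx
  · have := (cyc N a).mul_mem (le_cyc (hle' hx).2) hx
    simpa [mul_assoc] using this

/-- Conjugates of extensions by elements fixing `θ`. -/
theorem Ext.cj {N : Subgroup G} {a : G} {θ χ : G → ℂ} (hχ : Ext N a θ χ)
    (ha : a ∈ Subgroup.normalizer (N : Set G)) {b : G}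
    (hbN : b ∈ Subgroup.normalizer (N : Set G)) (hba : a ∈ cmod N b) :
    Ext N a (Rel80.cj b θ) (Rel80.cj b χ) :=
  ⟨hχ.1.cj (cj_cyc ha hbN hba), fun x hx => hχ.2 _ ((mem_conj_iff hbN x).2 hx)⟩

/-- A coprime operator fixing `θ` fixes every extension. -/
theorem fixed_ext {N : Subgroup G} {a : G} (ha : a ∈ Subgroup.normalizer (N : Set G))
    {θ χ : G → ℂ} (hθ : IrrOn N θ) (hχ : Ext N a θ χ) {p : ℕ} [hp : Fact p.Prime] {s : G}
    (hs : s ∈ Subgroup.normalizer (N : Set G)) (hsa : a ∈ cmod N s) (hsθ : Rel80.cj s θ = θ)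
    (hsp : s ^ p ∈ cyc N a) (hn : ¬ p ∣ N.relIndex (cyc N a)) : Rel80.cj s χ = χ := by
  have hχs := hχ.cj ha hs hsa
  rw [hsθ] at hχs
  obtain ⟨l, hl, he⟩ := exists_twist ha hχ hχs.1 (by rw [hχs.inn hθ]; exact one_ne_zero)
  have hinv : ∀ x ∈ cyc N a, l.1 (s * x * s⁻¹) = l.1 x := fun x hx => by
    have h1 : s * x * s⁻¹ * x⁻¹ ∈ N := (cyc_le (le_cmod hs) hsa hx).2
    conv_lhs => rw [show s * x * s⁻¹ = (s * x * s⁻¹ * x⁻¹) * x by simp]
    rw [lam_mul hl (le_cyc h1) hx, (mem_lam.1 hl).2 _ h1, one_mul]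
  have hiter : ∀ k : ℕ, ∀ x ∈ cyc N a, Rel80.cj (s ^ k) χ x = l.1 x ^ k * χ x := by
    intro k
    induction k with
    | zero => intro x _; simp [Rel80.cj]
    | succ k ih =>
      intro x hx
      rw [pow_succ, ← cj_cj]
      have hsx : s * x * s⁻¹ ∈ cyc N a :=
        (Subgroup.mem_normalizer_iff.1 (cj_cyc ha hs hsa) x).1 hx
      show Rel80.cj (s ^ k) χ (s * x * s⁻¹) = _
      rw [ih _ hsx, hinv x hx, show χ (s * x * s⁻¹) = l.1 x * χ x from congrFun he x, pow_succ]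
      ring
  have hp1 : l.1 a ^ p = 1 := by
    have h1 := hiter p
    rw [cj_of_mem hχ.1 hsp] at h1
    have h2 := co_self ha hθ hχ
    by_contra hne
    have hz : ∀ n ∈ N, χ (a * n) = 0 := fun n hn => by
      have h3 := h1 _ ((cyc N a).mul_mem self_mem_cyc (le_cyc hn))
      rw [lam_coset hl self_mem_cyc hn] at h3
      exact (mul_eq_zero.1 (show (l.1 a ^ p - 1) * χ (a * n) = 0 by rw [sub_mul, ← h3]; ring)
        ).resolve_left (sub_ne_zero.2 hne)
    rw [co, Finset.sum_eq_zero fun n hn => by rw [hz n (mem_el.1 hn), zero_mul], mul_zero] at h2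
    exact zero_ne_one h2
  have hn1 : l.1 a ^ N.relIndex (cyc N a) = 1 := by
    rw [← lam_pow hl self_mem_cyc]
    exact (mem_lam.1 hl).2 _ (pow_relIndex_mem le_cyc (cyc_le_normalizer ha) self_mem_cyc)
  have hla : l.1 a = 1 := by
    have := pow_gcd_eq_one.2 ⟨hp1, hn1⟩
    rwa [(Nat.Prime.coprime_iff_not_dvd hp.out).2 hn, pow_one] at this
  have hpowz : ∀ i : ℤ, l.1 (a ^ i) = 1 := by
    intro i
    induction i using Int.induction_on with
    | zero => simpa using (mem_lam.1 hl).1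
    | succ i ih =>
      rw [zpow_add_one, lam_mul hl ((cyc N a).zpow_mem self_mem_cyc _) self_mem_cyc, ih, hla,
        one_mul]
    | pred i ih =>
      have h1 := lam_mul hl ((cyc N a).zpow_mem self_mem_cyc (-(i : ℤ) - 1)) self_mem_cyc
      rw [← zpow_add_one, sub_add_cancel, ih, hla, mul_one] at h1
      exact h1.symm
  funext x
  rw [show Rel80.cj s χ x = l.1 x * χ x from congrFun he x]
  by_cases hx : x ∈ cyc N a
  · obtain ⟨n, hn', i, rfl⟩ := (mem_cyc ha).1 hx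
    rw [lam_mul hl (le_cyc hn') ((cyc N a).zpow_mem self_mem_cyc i), (mem_lam.1 hl).2 n hn',
      hpowz, one_mul, one_mul]
  · rw [hχ.1.2 x hx, mul_zero]

end Cfsg.Agent.Rel80
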