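import Cfsg.Agent.Lib.Rel80Clifford
import Cfsg.Agent.Lib.Rel80Core

/-!
Decomposition of the count over the fixed characters of a normal subgroup.
-/

set_option autoImplicit false

namespace Cfsg.Agent.Rel80

open Cfsg

universe u

variable {G : Type u} [Group G]

/-- A Sylow `p`-subgroup of `E` that supplements `Q` in `P`. -/
theorem exists_syl [Finite G] {p : ℕ} [hp : Fact p.Prime] {Q P E : Subgroup G} (hQP : Q ≤ P)
    (hPE : P ≤ E) {k : ℕ} (hk : Q.relIndex P = p ^ k) (hc : ¬ p ∣ P.relIndex E) :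
    ∃ S : Subgroup G, IsPGroup p S ∧ S ≤ P ∧ ¬ p ∣ S.relIndex E ∧ Q ⊔ S = P := by
  let T : Sylow p P := default
  refine ⟨(T : Subgroup P).map P.subtype, T.isPGroup'.map _, Subgroup.map_subtype_le _, ?_, ?_⟩
  · have h1 : ((T : Subgroup P).map P.subtype).relIndex P = (T : Subgroup P).index := by
      rw [Subgroup.relIndex, Subgroup.subgroupOf,
        Subgroup.comap_map_eq_self_of_injective P.subtype_injective]
    rw [← Subgroup.relIndex_mul_relIndex _ P E (Subgroup.map_subtype_le _) hPE, h1]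
    exact fun h => ((hp.out.dvd_mul).1 h).elim T.not_dvd_index hc
  · set S := (T : Subgroup P).map P.subtype
    have hSP : S ≤ P := Subgroup.map_subtype_le _
    have h1 : S.relIndex P = (T : Subgroup P).index := by
      show Subgroup.relIndex ((T : Subgroup P).map P.subtype) P = _
      rw [Subgroup.relIndex, Subgroup.subgroupOf,
        Subgroup.comap_map_eq_self_of_injective P.subtype_injective]
    have hd1 : (Q ⊔ S).relIndex P ∣ p ^ k := hk ▸ Subgroup.relIndex_dvd_of_le_left P le_sup_left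
    have hd2 : (Q ⊔ S).relIndex P ∣ (T : Subgroup P).index :=
      h1 ▸ Subgroup.relIndex_dvd_of_le_left P le_sup_right
    have hone : (Q ⊔ S).relIndex P = 1 := Nat.eq_one_of_dvd_coprimes
      (((Nat.Prime.coprime_iff_not_dvd hp.out).2 T.not_dvd_index).pow_left k) hd1 hd2
    exact le_antisymm (sup_le hQP hSP) (Subgroup.relIndex_eq_one.1 hone)

/-- Two Sylow subgroups over a normal subgroup are conjugate. -/
theorem conj_over [Finite G] {p : ℕ} [hp : Fact p.Prime] {Q P₁ P₂ E : Subgroup G}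
    (hQ : E ≤ Subgroup.normalizer (Q : Set G))
    (h1 : Q ≤ P₁) (h1E : P₁ ≤ E) {k₁ : ℕ} (hk1 : Q.relIndex P₁ = p ^ k₁)
    (hc1 : ¬ p ∣ P₁.relIndex E)
    (h2 : Q ≤ P₂) (h2E : P₂ ≤ E) {k₂ : ℕ} (hk2 : Q.relIndex P₂ = p ^ k₂)
    (hc2 : ¬ p ∣ P₂.relIndex E) :
    ∃ s ∈ E, ∀ y, y ∈ P₁ ↔ s * y * s⁻¹ ∈ P₂ := by
  obtain ⟨S₁, hS1, hS1P, hS1c, hS1s⟩ := exists_syl h1 h1E hk1 hc1
  obtain ⟨S₂, hS2, hS2P, hS2c, hS2s⟩ := exists_syl h2 h2E hk2 hc2
  let T₁ : Sylow p E := (hS1.comap_subtype (H := S₁) (K := E)).toSylow hS1c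
  let T₂ : Sylow p E := (hS2.comap_subtype (H := S₂) (K := E)).toSylow hS2c
  have hT1 : (T₁ : Subgroup E) = S₁.subgroupOf E := rfl
  have hT2 : (T₂ : Subgroup E) = S₂.subgroupOf E := rfl
  obtain ⟨s, hs⟩ := MulAction.exists_smul_eq E T₁ T₂
  let c := (MulAut.conj (s : G)).toMonoidHom
  have hS : S₁.map c = S₂ := by
    have h := congrArg (fun T : Sylow p E => (T : Subgroup E).map E.subtype) hs
    simp only [Sylow.coe_subgroup_smul] at h
    rw [hT1, hT2] at h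
    rw [Subgroup.map_subgroupOf_eq_of_le (hS2P.trans h2E)] at h
    rw [← h]
    ext y
    simp only [Subgroup.mem_map, Subgroup.mem_pointwise_smul_iff_inv_smul_mem,
      Subgroup.mem_subgroupOf]
    constructor
    · rintro ⟨x, hx, rfl⟩
      refine ⟨s * ⟨x, h1E (hS1P hx)⟩ * s⁻¹, ?_, rfl⟩
      simpa [MulAut.smul_def, mul_assoc] using hx
    · rintro ⟨z, hz, rfl⟩
      refine ⟨(s : G)⁻¹ * z * s, by simpa [MulAut.smul_def, mul_assoc] using hz, ?_⟩
      show (s : G) * _ * (s : G)⁻¹ = (z : G)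
      group
  have hQc : Q.map c = Q := by
    ext y
    rw [Subgroup.mem_map]
    constructor
    · rintro ⟨x, hx, rfl⟩
      exact (Subgroup.mem_normalizer_iff.1 (hQ s.2) x).1 hx
    · intro hy
      refine ⟨(s : G)⁻¹ * y * s, (Subgroup.mem_normalizer_iff.1 (hQ s.2) _).2 (by
        simpa [mul_assoc] using hy), ?_⟩
      show (s : G) * _ * (s : G)⁻¹ = y
      group
  have hP : P₁.map c = P₂ := by rw [← hS1s, Subgroup.map_sup, hQc, hS, hS2s]
  refine ⟨s, s.2, fun y => ?_⟩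
  rw [← hP]
  exact ⟨fun hy => ⟨y, hy, rfl⟩, fun ⟨x, hx, e⟩ => (mul_left_cancel (mul_right_cancel e) : x = y) ▸ hx⟩

theorem relIndex_lt [Finite G] {A B C : Subgroup G} (hAB : A ≤ B) (hBC : B < C) :
    A.relIndex B < A.relIndex C := by
  rw [← Subgroup.relIndex_mul_relIndex A B C hAB hBC.le]
  have h0 : A.relIndex B ≠ 0 := Subgroup.index_ne_zero_of_finite
  have h1 : B.relIndex C ≠ 0 := Subgroup.index_ne_zero_of_finite
  have h2 : B.relIndex C ≠ 1 := fun h => hBC.not_ge (Subgroup.relIndex_eq_one.1 h)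
  exact lt_mul_of_one_lt_right (Nat.pos_of_ne_zero h0) (by omega)

theorem relIndex_lt' [Finite G] {A B C : Subgroup G} (hAB : A < B) (hBC : B ≤ C) :
    B.relIndex C < A.relIndex C := by
  rw [← Subgroup.relIndex_mul_relIndex A B C hAB.le hBC]
  have h0 : A.relIndex B ≠ 0 := Subgroup.index_ne_zero_of_finite
  have h1 : B.relIndex C ≠ 0 := Subgroup.index_ne_zero_of_finite
  have h2 : A.relIndex B ≠ 1 := fun h => hAB.not_ge (Subgroup.relIndex_eq_one.1 h)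
  exact lt_mul_of_one_lt_left (Nat.pos_of_ne_zero h1) (by omega)

variable [Fintype G]

theorem sup_relIndex {p : ℕ} (hp : p.Prime) {L Q P : Subgroup G} (hLQ : L ≤ Q)
    (hn : P ≤ Subgroup.normalizer (Q : Set G)) {k : ℕ} (hk : L.relIndex P = p ^ k) :
    ∃ j, Q.relIndex (Q ⊔ P) = p ^ j := by
  have hcoe := Subgroup.coe_mul_of_right_le_normalizer_left Q P hn
  rw [← relIndex_eq_of_prod (le_sup_left : Q ≤ Q ⊔ P) le_sup_right (fun x hx => by
    have hx' : x ∈ (↑(Q ⊔ P) : Set G) := hx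
    rw [hcoe] at hx'
    exact Set.mem_mul.1 hx') rfl, Subgroup.inf_relIndex_right]
  obtain ⟨j, -, hj⟩ := (Nat.dvd_prime_pow hp).1 (hk ▸ Subgroup.relIndex_dvd_of_le_left P hLQ)
  exact ⟨j, hj⟩

variable {p : ℕ} [hp : Fact p.Prime]

/-- A fixed point in an orbit of size prime to `p`. -/
theorem exists_fixed_orb {L Q P X : Subgroup G} (hLQ : L ≤ Q) (hLP : L ≤ P) (hPX : P ≤ X)
    (hn : X ≤ Subgroup.normalizer (Q : Set G)) {k : ℕ} (hk : L.relIndex P = p ^ k)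
    {θ : G → ℂ} (hθ : IrrOn Q θ) (hc : ¬ p ∣ (orb X θ).card) :
    ∃ φ ∈ orb X θ, P ≤ stab φ := by
  classical
  obtain ⟨S, hS, hSP, -, hsup⟩ := exists_syl hLP le_rfl hk (by
    rw [Subgroup.relIndex_self]; exact hp.out.not_dvd_one)
  have hmem : ∀ (s : S) (φ : {φ // φ ∈ orb X θ}), cj (s : G)⁻¹ φ.1 ∈ orb X θ := fun s φ => by
    obtain ⟨a, ha, e⟩ := mem_orb.1 φ.2
    exact mem_orb.2 ⟨a * (s : G)⁻¹, X.mul_mem ha (X.inv_mem (hPX (hSP s.2))), by rw [← e, cj_cj]⟩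
  letI : MulAction S {φ // φ ∈ orb X θ} :=
    { smul := fun s φ => ⟨cj (s : G)⁻¹ φ.1, hmem s φ⟩
      one_smul := fun φ => Subtype.ext (show cj ((1 : S) : G)⁻¹ φ.1 = φ.1 by simp [cj_one])
      mul_smul := fun s t φ => Subtype.ext
        (show cj ((s * t : S) : G)⁻¹ φ.1 = cj (s : G)⁻¹ (cj (t : G)⁻¹ φ.1) by
          rw [cj_cj, Subgroup.coe_mul, mul_inv_rev]) }
  obtain ⟨φ, hφ⟩ := hS.nonempty_fixed_point_of_prime_not_dvd_card {φ // φ ∈ orb X θ}
    (by rwa [Nat.card_eq_fintype_card, Fintype.card_coe])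
  refine ⟨φ.1, φ.2, ?_⟩
  rw [← hsup]
  refine sup_le (fun x hx => cj_of_mem (irrOn_orb hn hθ φ.2) (hLQ hx)) fun x hx => ?_
  have h : cj ((⟨x⁻¹, S.inv_mem hx⟩ : S) : G)⁻¹ φ.1 = φ.1 :=
    congrArg Subtype.val (hφ ⟨x⁻¹, S.inv_mem hx⟩)
  rw [inv_inv] at h
  exact h

variable {L Q P X : Subgroup G} {ν : G → ℂ}

open scoped Classical in
/-- The characters of `Q` over `ν` fixed by `P`. -/
noncomputable def Theta (Q L P : Subgroup G) (ν : G → ℂ) : Finset (Irr Q) :=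
  Finset.univ.filter fun θ => Over L ν θ.1 ∧ P ≤ stab θ.1

theorem mem_Theta {θ : Irr Q} : θ ∈ Theta Q L P ν ↔ Over L ν θ.1 ∧ P ≤ stab θ.1 := by
  simp [Theta]

open scoped Classical in
/-- The number of conjugates of `θ` among the fixed characters. -/
noncomputable def mult (X Q L P : Subgroup G) (ν θ : G → ℂ) : ℕ :=
  ((Theta Q L P ν).filter fun θ' => θ'.1 ∈ orb X θ).card

open scoped Classical in
/-- The count as a weighted sum over fixed characters of `Q`. -/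
theorem cnt_decomp (hLQ : L ≤ Q) (hQX : Q ≤ X) (hnL : X ≤ Subgroup.normalizer (L : Set G))
    (hnQ : X ≤ Subgroup.normalizer (Q : Set G)) (hν : IrrOn L ν) (hinv : ∀ x ∈ X, cj x ν = ν)
    (hLP : L ≤ P) (hPX : P ≤ X) {k : ℕ} (hk : L.relIndex P = p ^ k) :
    (cnt p X L ν : ℚ) = ∑ θ ∈ Theta Q L P ν, (cnt p X Q θ.1 : ℚ) / mult X Q L P ν θ.1 := by
  let S : Finset (Irr X) := psi p X L ν
  have hcnt : ∀ θ ∈ Theta Q L P ν, cnt p X Q θ.1 = (S.filter fun χ => Over Q θ.1 χ.1).card := by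
    intro θ hθ
    rw [cnt, Nat.card_eq_fintype_card, Fintype.card_subtype]
    refine congrArg Finset.card (Finset.ext fun χ => ?_)
    simp only [Finset.mem_filter, Finset.mem_univ, true_and, S, mem_psi]
    exact ⟨fun ⟨hd, ho⟩ => ⟨⟨hd, over_of_constituent hLQ hQX χ.2 hν θ.2 (mem_Theta.1 hθ).1 ho⟩, ho⟩,
      fun ⟨⟨hd, _⟩, ho⟩ => ⟨hd, ho⟩⟩
  have hS : cnt p X L ν = S.card := by
    rw [cnt, Nat.card_eq_fintype_card, Fintype.card_subtype]
    exact congrArg Finset.card (Finset.ext fun χ => by simp [S, mem_psi])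
  -- the fixed constituents of each character form part of one orbit
  have hfix : ∀ χ ∈ S, ∃ θ ∈ Theta Q L P ν, Over Q θ.1 χ.1 ∧ ∀ θ' ∈ Theta Q L P ν,
      Over Q θ'.1 χ.1 → θ'.1 ∈ orb X θ.1 := by
    intro χ hχ
    obtain ⟨hd, ho⟩ := mem_psi.1 hχ
    obtain ⟨γ, hγ, -⟩ := exists_mu_trans (χ.2.charOn_le hQX) hLQ hν.charOn ho
    have horb : ∀ φ : Irr Q, Over Q φ.1 χ.1 ↔ φ.1 ∈ orb X γ.1 := by
      intro φ
      have hcl := clifford_orb hQX hnQ χ.2 γ.2 hγ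
      have hg0 : inn Q χ.1 γ.1 ≠ 0 := Over.inn_ne hγ (χ.2.charOn_le hQX) γ.2
      rw [Over, mu_ne_zero_iff (χ.2.charOn_le hQX) φ.2.charOn,
        inn_congr (g' := φ.1) hcl (fun _ _ => rfl), inn_smul_left, inn_sum_left, mul_ne_zero_iff,
        and_iff_right hg0]
      constructor
      · intro h
        by_contra hn'
        refine h (Finset.sum_eq_zero fun ψ hψ => inn_ne (irrOn_orb hnQ γ.2 hψ) φ.2 ?_)
        rintro rfl
        exact hn' hψ
      · intro h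
        rw [Finset.sum_eq_single_of_mem φ.1 h fun ψ hψ hne =>
          inn_ne (irrOn_orb hnQ γ.2 hψ) φ.2 hne, inn_self φ.2]
        exact one_ne_zero
    have hc : ¬ p ∣ (orb X γ.1).card := fun h => hd (by
      rw [clifford_degree hQX hnQ χ.2 γ.2 hγ, ← card_orb]
      exact dvd_mul_of_dvd_left (dvd_mul_of_dvd_right h _) _)
    obtain ⟨φ, hφ, hPφ⟩ := exists_fixed_orb hLQ hLP hPX hnQ hk γ.2 hc
    let θ : Irr Q := ⟨φ, irrOn_orb hnQ γ.2 hφ⟩
    have hθo : Over Q θ.1 χ.1 := (horb θ).2 hφ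
    refine ⟨θ, mem_Theta.2 ⟨over_constituent hLQ hQX hnL χ.2 hν hinv ho θ.2 hθo, hPφ⟩, hθo,
      fun θ' _ h => ?_⟩
    obtain ⟨a, ha, e⟩ := mem_orb.1 ((horb θ').1 h)
    obtain ⟨b, hb, e'⟩ := mem_orb.1 hφ
    refine mem_orb.2 ⟨b⁻¹ * a, X.mul_mem (X.inv_mem hb) ha, ?_⟩
    show cj _ φ = _
    rw [← e', cj_cj, mul_inv_cancel_left, e]
  have horbclosed : ∀ (χ : Irr X) (θ θ' : Irr Q), Over Q θ.1 χ.1 → θ'.1 ∈ orb X θ.1 →
      Over Q θ'.1 χ.1 := by
    intro χ θ θ' h ho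
    obtain ⟨a, ha, e⟩ := mem_orb.1 ho
    have h1 : mu Q (cj a χ.1) (cj a θ.1) ≠ 0 := by rw [mu_cj (hnQ ha)]; exact h
    rwa [cj_of_mem χ.2 ha, e] at h1
  calc (cnt p X L ν : ℚ) = ∑ χ ∈ S, (1 : ℚ) := by rw [hS]; simp
    _ = ∑ χ ∈ S, ∑ θ ∈ (Theta Q L P ν).filter (fun θ => Over Q θ.1 χ.1),
          (1 : ℚ) / mult X Q L P ν θ.1 := by
        refine Finset.sum_congr rfl fun χ hχ => ?_
        obtain ⟨θ, hθ, hθo, hall⟩ := hfix χ hχ
        set F := (Theta Q L P ν).filter (fun θ => Over Q θ.1 χ.1)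
        have hm : ∀ θ' ∈ F, mult X Q L P ν θ'.1 = F.card := by
          intro θ' hθ'
          obtain ⟨hθ'T, hθ'o⟩ := Finset.mem_filter.1 hθ'
          refine congrArg Finset.card (Finset.filter_congr fun φ hφ => ?_)
          refine ⟨fun h => horbclosed χ θ' φ hθ'o h, fun h => ?_⟩
          obtain ⟨a, ha, e⟩ := mem_orb.1 (hall φ hφ h)
          obtain ⟨b, hb, e'⟩ := mem_orb.1 (hall θ' hθ'T hθ'o)
          refine mem_orb.2 ⟨b⁻¹ * a, X.mul_mem (X.inv_mem hb) ha, ?_⟩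
          rw [← e', cj_cj, mul_inv_cancel_left, e]
        rw [Finset.sum_congr rfl fun θ' hθ' => by rw [hm θ' hθ'], Finset.sum_const, nsmul_eq_mul,
          mul_one_div, div_self]
        exact_mod_cast (Finset.card_pos.2 ⟨θ, Finset.mem_filter.2 ⟨hθ, hθo⟩⟩).ne'
    _ = ∑ θ ∈ Theta Q L P ν, ∑ χ ∈ S.filter (fun χ => Over Q θ.1 χ.1),
          (1 : ℚ) / mult X Q L P ν θ.1 :=
        Finset.sum_comm' fun χ θ => by simp only [Finset.mem_filter]; tauto
    _ = _ := Finset.sum_congr rfl fun θ hθ => by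
        rw [Finset.sum_const, nsmul_eq_mul, hcnt θ hθ, mul_one_div]

/-- The multiplicities agree in the normaliser. -/
theorem mult_eq (hLQ : L ≤ Q) (hQX : Q ≤ X) (hnQ : X ≤ Subgroup.normalizer (Q : Set G))
    (hPX : P ≤ X) {k : ℕ} (hk : L.relIndex P = p ^ k) (hc : ¬ p ∣ P.relIndex X) {θ : Irr Q}
    (hθ : θ ∈ Theta Q L P ν) :
    mult X Q L P ν θ.1 =
      mult (X ⊓ Subgroup.normalizer ((Q ⊔ P : Subgroup G) : Set G)) Q L P ν θ.1 := by
  classical
  refine congrArg Finset.card (Finset.filter_congr fun θ' hθ' => ?_)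
  constructor
  · intro h
    obtain ⟨a, ha, e⟩ := mem_orb.1 h
    set M := Q ⊔ P
    set E := X ⊓ stab θ'.1
    have hME : M ≤ E := sup_le (le_inf hQX fun x hx => cj_of_mem θ'.2 hx)
      (le_inf hPX (mem_Theta.1 hθ').2)
    have hMθ : M ≤ stab θ.1 := sup_le (fun x hx => cj_of_mem θ.2 hx) (mem_Theta.1 hθ).2
    have hMX : M ≤ X := hME.trans inf_le_left
    obtain ⟨j, hj⟩ := sup_relIndex hp.out hLQ (hPX.trans hnQ) hk
    have hMc : ¬ p ∣ M.relIndex X := fun h =>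
      hc (h.trans (Subgroup.relIndex_dvd_of_le_left X le_sup_right))
    let c := (MulAut.conj a⁻¹).toMonoidHom
    have hcinj : Function.Injective c := (MulAut.conj a⁻¹).injective
    have hcQ : Q.map c = Q := by
      ext y
      rw [Subgroup.mem_map]
      constructor
      · rintro ⟨x, hx, rfl⟩
        exact (Subgroup.mem_normalizer_iff.1 (hnQ (X.inv_mem ha)) x).1 hx
      · intro hy
        refine ⟨a * y * a⁻¹, (Subgroup.mem_normalizer_iff.1 (hnQ ha) y).1 hy, ?_⟩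
        show a⁻¹ * _ * (a⁻¹)⁻¹ = y
        group
    have h1E : M.map c ≤ E := by
      rintro _ ⟨y, hy, rfl⟩
      refine Subgroup.mem_inf.2 ⟨?_, ?_⟩
      · exact X.mul_mem (X.mul_mem (X.inv_mem ha) (hMX hy)) (X.inv_mem (X.inv_mem ha))
      · show cj (a⁻¹ * y * a⁻¹⁻¹) θ'.1 = θ'.1
        rw [← e, cj_cj, inv_inv, ← mul_assoc, mul_inv_cancel_left, ← cj_cj a y,
          show cj y θ.1 = θ.1 from hMθ hy]
    have hXc : X.map c = X := by
      refine le_antisymm ?_ fun x hx => ⟨a * x * a⁻¹, X.mul_mem (X.mul_mem ha hx) (X.inv_mem ha), ?_⟩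
      · rintro _ ⟨y, hy, rfl⟩
        exact X.mul_mem (X.mul_mem (X.inv_mem ha) hy) (X.inv_mem (X.inv_mem ha))
      · show a⁻¹ * _ * (a⁻¹)⁻¹ = x
        group
    have hk1 : Q.relIndex (M.map c) = p ^ j := by
      conv_lhs => rw [← hcQ]
      rw [Subgroup.relIndex_map_map_of_injective _ _ hcinj, hj]
    have hc1 : ¬ p ∣ (M.map c).relIndex E := fun h => hMc (by
      have := h.trans (dvd_mul_right _ (E.relIndex X))
      rw [Subgroup.relIndex_mul_relIndex _ _ _ h1E inf_le_left] at this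
      conv at this => arg 2; rw [← hXc]
      rwa [Subgroup.relIndex_map_map_of_injective _ _ hcinj] at this)
    have hc2 : ¬ p ∣ M.relIndex E := fun h => hMc (by
      have := h.trans (dvd_mul_right _ (E.relIndex X))
      rwa [Subgroup.relIndex_mul_relIndex _ _ _ hME inf_le_left] at this)
    obtain ⟨s, hs, hconj⟩ := conj_over (inf_le_left.trans hnQ) (hcQ ▸ Subgroup.map_mono le_sup_left)
      h1E hk1 hc1 le_sup_left hME hj hc2
    refine mem_orb.2 ⟨a * s⁻¹, Subgroup.mem_inf.2 ⟨X.mul_mem ha (X.inv_mem (Subgroup.mem_inf.1 hs).1),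
      Subgroup.mem_normalizer_iff.2 fun y => ?_⟩, ?_⟩
    · have h1 : ∀ z, a * z * a⁻¹ ∈ M ↔ z ∈ M.map c := fun z => by
        refine ⟨fun h => ⟨_, h, ?_⟩, ?_⟩
        · show a⁻¹ * _ * (a⁻¹)⁻¹ = z
          group
        · rintro ⟨w, hw, rfl⟩
          show a * (a⁻¹ * w * (a⁻¹)⁻¹) * a⁻¹ ∈ M
          simpa [mul_assoc] using hw
      rw [show a * s⁻¹ * y * (a * s⁻¹)⁻¹ = a * (s⁻¹ * y * s) * a⁻¹ by group, h1, hconj]
      simp [mul_assoc, M]
    · rw [← cj_cj, e]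
      exact (stab θ'.1).inv_mem (Subgroup.mem_inf.1 hs).2
  · intro h
    obtain ⟨a, ha, e⟩ := mem_orb.1 h
    exact mem_orb.2 ⟨a, (Subgroup.mem_inf.1 ha).1, e⟩

end Cfsg.Agent.Rel80
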