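import Mathlib

/-!
# Two commuting automorphisms acting irreducibly on an abelian group generate a cyclic group
-/

set_option autoImplicit false

namespace Cfsg.Agent.Rel80

theorem exists_gen {V : Type*} [CommGroup V] [Finite V] [Nontrivial V] (α β : MulAut V)
    (hcomm : α * β = β * α)
    (hirr : ∀ W : Subgroup V, (∀ w ∈ W, α w ∈ W ∧ β w ∈ W) → W = ⊥ ∨ W = ⊤) :
    ∃ (γ : MulAut V) (i j : ℕ), α = γ ^ i ∧ β = γ ^ j := by
  classical
  let f : MulAut V →* AddMonoid.End (Additive V) :=
    { toFun := fun x : MulAut V =>
        (MonoidHom.toAdditive (MulEquiv.toMonoidHom x) : Additive V →+ Additive V)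
      map_one' := rfl
      map_mul' := fun _ _ => rfl }
  have hf : Function.Injective f := fun x y h => MulEquiv.ext fun v =>
    congrArg Additive.toMul (DFunLike.congr_fun h (Additive.ofMul v))
  let s : Set (AddMonoid.End (Additive V)) := {f α, f β}
  have hs : ∀ x ∈ s, ∀ y ∈ s, x * y = y * x := by
    rintro x (rfl | rfl) y (rfl | rfl)
    · rfl
    · rw [← map_mul, hcomm, map_mul]
    · rw [← map_mul, ← hcomm, map_mul]
    · rfl
  let S := Subring.closure s
  letI : CommRing S :=
    { S.toRing with
      mul_comm := fun x y => by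
        have hle : ∀ x ∈ s, S ≤ Subring.centralizer {x} := fun x hx =>
          Subring.closure_le.2 fun y hy => Subring.mem_centralizer_iff.2 fun z hz => by
            rw [Set.mem_singleton_iff.1 hz]; exact hs x hx y hy
        have hxs : s ⊆ (Subring.centralizer {(y : AddMonoid.End (Additive V))} : Set _) :=
          fun w hw => Subring.mem_centralizer_iff.2 fun z hz => by
            rw [Set.mem_singleton_iff.1 hz]
            exact (Subring.mem_centralizer_iff.1 (hle w hw y.2) w rfl).symm
        exact Subtype.ext (Subring.mem_centralizer_iff.1 (Subring.closure_le.2 hxs x.2) _ rfl).symm }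
  haveI : Nontrivial S := ⟨⟨0, 1, fun h => by
    obtain ⟨v, hv⟩ := exists_ne (1 : V)
    exact hv (congrArg Additive.toMul
      (DFunLike.congr_fun (congrArg Subtype.val h) (Additive.ofMul v))).symm⟩⟩
  have hker : ∀ x y : S, x * y = 0 → x = 0 ∨ y = 0 := by
    intro x y hxy
    by_contra hne
    push Not at hne
    -- the kernel of `x` is invariant
    let W : Subgroup V :=
      { carrier := {v | (x : AddMonoid.End (Additive V)) (Additive.ofMul v) = 0}
        one_mem' := map_zero _
        mul_mem' := fun {v w} hv hw => by
          show (x : AddMonoid.End (Additive V)) (Additive.ofMul v + Additive.ofMul w) = 0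
          rw [map_add, hv, hw, add_zero]
        inv_mem' := fun {v} hv => by
          show (x : AddMonoid.End (Additive V)) (-Additive.ofMul v) = 0
          rw [map_neg, hv, neg_zero] }
    have hW : ∀ w ∈ W, α w ∈ W ∧ β w ∈ W := by
      intro w hw
      have h : ∀ g : MulAut V, f g ∈ s → g w ∈ W := fun g hg => by
        have hc : (x : AddMonoid.End (Additive V)) * f g = f g * x :=
          congrArg Subtype.val (mul_comm x ⟨f g, Subring.subset_closure hg⟩)
        show (x : AddMonoid.End (Additive V)) (f g (Additive.ofMul w)) = 0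
        have h1 := DFunLike.congr_fun hc (Additive.ofMul w)
        refine h1.trans ?_
        show f g ((x : AddMonoid.End (Additive V)) (Additive.ofMul w)) = 0
        rw [show (x : AddMonoid.End (Additive V)) (Additive.ofMul w) = 0 from hw, map_zero]
      exact ⟨h α (Or.inl rfl), h β (Or.inr rfl)⟩
    rcases hirr W hW with h | h
    · refine hne.2 (Subtype.ext (AddMonoidHom.ext fun v => ?_))
      have h1 : (x : AddMonoid.End (Additive V)) ((y : AddMonoid.End (Additive V)) v) = 0 :=
        DFunLike.congr_fun (congrArg Subtype.val hxy) v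
      have h2 : Additive.toMul ((y : AddMonoid.End (Additive V)) v) ∈ W := h1
      rw [h, Subgroup.mem_bot] at h2
      exact h2
    · refine hne.1 (Subtype.ext (AddMonoidHom.ext fun v => ?_))
      exact (h ▸ Subgroup.mem_top (Additive.toMul v) : Additive.toMul v ∈ W)
  haveI : NoZeroDivisors S := ⟨fun {x y} => hker x y⟩
  haveI : IsDomain S := NoZeroDivisors.to_isDomain _
  let H : Subgroup (MulAut V) := Subgroup.closure {α, β}
  haveI : Finite H := inferInstance
  have hH : ∀ h ∈ H, f h ∈ S := by
    intro h hh
    have h' : h ∈ Submonoid.closure ({α, β} : Set (MulAut V)) := by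
      rw [← Subgroup.closure_toSubmonoid_of_finite]
      exact hh
    clear hh
    induction h' using Submonoid.closure_induction with
    | mem z hz =>
      rcases hz with rfl | rfl
      exacts [Subring.subset_closure (Or.inl rfl), Subring.subset_closure (Or.inr rfl)]
    | one => rw [map_one]; exact S.one_mem
    | mul z w _ _ hz hw => rw [map_mul]; exact S.mul_mem hz hw
  let g : H →* S :=
    { toFun := fun h => ⟨f h, hH h h.2⟩
      map_one' := Subtype.ext (map_one f)
      map_mul' := fun a b => Subtype.ext (map_mul f _ _) }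
  haveI : IsCyclic H := isCyclic_of_subgroup_isDomain g fun a b h =>
    Subtype.ext (hf (congrArg Subtype.val h))
  obtain ⟨⟨γ, hγ⟩, hgen⟩ := IsCyclic.exists_monoid_generator (α := H)
  obtain ⟨i, hi⟩ := (hgen ⟨α, Subgroup.subset_closure (Or.inl rfl)⟩ : _)
  obtain ⟨j, hj⟩ := (hgen ⟨β, Subgroup.subset_closure (Or.inr rfl)⟩ : _)
  exact ⟨γ, i, j, (congrArg Subtype.val hi).symm, (congrArg Subtype.val hj).symm⟩

end Cfsg.Agent.Rel80
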