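import Cfsg.Agent.Lib.Rel80Step

/-!
# The norm identity and the correspondence for one operator
-/

set_option autoImplicit false
set_option linter.unusedSectionVars false

open scoped ComplexConjugate

namespace Cfsg.Agent.Rel80

open Cfsg Cfsg.Agent.CharBasic

universe u

variable {G : Type u} [Group G] [Fintype G]

variable {p : ℕ} {L E : Subgroup G} {ν : G → ℂ} {s : G}

open scoped Classical in
theorem card_lam [hp : Fact p.Prime] {H : Subgroup G} {s : G}
    (hn : s ∈ Subgroup.normalizer (H : Set G)) (hsp : s ^ p ∈ H) (hs : s ∉ H) :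
    (Nat.card (cyc H s) : ℂ) = p * Nat.card H ∧ (H.relIndex (cyc H s) : ℂ) = p ∧
      (lam H s).card = p := by
  have h1 : (Nat.card (cyc H s) : ℂ) = p * Nat.card H := by
    have := sum_cyc hn hsp hs fun _ => (1 : ℂ)
    simpa [card_el] using this
  have h2 : (H.relIndex (cyc H s) : ℂ) = p := by
    refine mul_left_cancel₀ (card_ne_zero H) ?_
    rw [card_mul_relIndex le_cyc, h1, mul_comm]
  refine ⟨h1, h2, ?_⟩
  have h3 := sum_lam hn (cyc H s).one_mem
  rw [if_pos H.one_mem, h2, Finset.sum_congr rfl fun l hl => (mem_lam.1 hl).1, Finset.sum_const,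
    nsmul_one] at h3
  exact_mod_cast h3

open scoped Classical in
/-- The inner products on the extensions against those on `E`. -/
theorem norm_identity (hB : Base p L E ν) (hs : Op p L E ν s) {f f' : G → ℂ}
    (hf : IrrOn (cyc E s) f) (hf' : IrrOn (cyc E s) f') :
    (p : ℂ) * inn (cyc E s) f f' - inn E f f' =
      p * inn (cyc (fixp L E s) s) f f' - inn (fixp L E s) f f' := by
  haveI := hB.prime
  set C := fixp L E s
  have hsE := hB.not_mem hs
  have hsC : s ∉ C := fun h => hsE (fixp_le h)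
  have hE := card_lam hs.normE (hB.le hs.pow) hsE
  have hC := card_lam hs.norm_fixp (hB.le_fixp hs hs.pow) hsC
  let F : G → ℂ := fun x => f x * conj (f' x)
  have hF : ∀ i : ℕ, ∀ x ∈ E, ∀ c ∈ C, F (x * (s ^ i * c) * x⁻¹) = F (s ^ i * c) := by
    intro i x hx c hc
    have hm : s ^ i * c ∈ cyc E s :=
      (cyc E s).mul_mem ((cyc E s).pow_mem self_mem_cyc i) (le_cyc (fixp_le hc))
    simp only [F]
    rw [charOn_apply_conj hf.charOn (le_cyc hx) hm, charOn_apply_conj hf'.charOn (le_cyc hx) hm]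
  have hterm : ∀ i ∈ (Finset.range p).erase 0,
      (Nat.card C : ℂ) * ∑ e ∈ el E, F (s ^ i * e) =
        (Nat.card E : ℂ) * ∑ c ∈ el C, F (s ^ i * c) := by
    intro i hi
    obtain ⟨hi0, hir⟩ := Finset.mem_erase.1 hi
    refine sum_coset_fixp hB hs (fun hd => ?_) F (hF i)
    have := Nat.le_of_dvd (Nat.pos_of_ne_zero hi0) hd
    have := Finset.mem_range.1 hir
    omega
  have h0 : (0 : ℕ) ∈ Finset.range p := Finset.mem_range.2 hB.prime.out.pos
  have e1 := sum_cyc hs.normE (hB.le hs.pow) hsE F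
  have e2 := sum_cyc hs.norm_fixp (hB.le_fixp hs hs.pow) hsC F
  rw [← Finset.add_sum_erase _ _ h0] at e1 e2
  simp only [pow_zero, one_mul] at e1 e2
  rw [← card_mul_inn, ← card_mul_inn, hE.1] at e1
  rw [← card_mul_inn, ← card_mul_inn, hC.1] at e2
  have e3 : (Nat.card C : ℂ) * ∑ i ∈ (Finset.range p).erase 0, ∑ e ∈ el E, F (s ^ i * e) =
      (Nat.card E : ℂ) * ∑ i ∈ (Finset.range p).erase 0, ∑ c ∈ el C, F (s ^ i * c) := by
    rw [Finset.mul_sum, Finset.mul_sum]
    exact Finset.sum_congr rfl hterm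
  refine mul_left_cancel₀ (mul_ne_zero (card_ne_zero C) (card_ne_zero E)) ?_
  linear_combination (Nat.card C : ℂ) * e1 - (Nat.card E : ℂ) * e2 + e3

/-- The characters of the fixed points over `ν`. -/
abbrev OverC (p : ℕ) (L E : Subgroup G) (ν : G → ℂ) (s : G) : Type u :=
  {φ : Irr (fixp L E s) // Over L ν φ.1}

noncomputable instance instFintypeOverC : Fintype (OverC p L E ν s) := Fintype.ofFinite _

section Mult

variable (hB : Base p L E ν) (hs : Op p L E ν s)

/-- The chosen extension. -/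
noncomputable def extC (φ : OverC p L E ν s) : G → ℂ :=
  (exists_ext hs.norm_fixp φ.1.2 (inv_fixp hB hs φ.1.2 φ.2)).choose

theorem extC_spec (φ : OverC p L E ν s) : Ext (fixp L E s) s φ.1.1 (extC hB hs φ) :=
  (exists_ext hs.norm_fixp φ.1.2 (inv_fixp hB hs φ.1.2 φ.2)).choose_spec

/-- The extensions. -/
noncomputable def tw (φ : OverC p L E ν s) (l : {l // l ∈ lam (fixp L E s) s}) :
    Irr (cyc (fixp L E s) s) :=
  ⟨fun x => l.1.1 x * extC hB hs φ x,
    (extC_spec hB hs φ).1.twist l.1.2 (mem_lam.1 l.2).1⟩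

theorem tw_res (φ : OverC p L E ν s) (l : {l // l ∈ lam (fixp L E s) s}) {x : G}
    (hx : x ∈ fixp L E s) : (tw hB hs φ l).1 x = φ.1.1 x := by
  show l.1.1 x * extC hB hs φ x = _
  rw [(mem_lam.1 l.2).2 x hx, one_mul, (extC_spec hB hs φ).2 x hx]

/-- The vector of multiplicities in an extension `f`. -/
noncomputable def vec (f : G → ℂ) (φ : OverC p L E ν s) :
    {l // l ∈ lam (fixp L E s) s} → ℤ :=
  fun l => (mu (cyc (fixp L E s) s) f (tw hB hs φ l).1 : ℤ)

include hB hs in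
theorem cycC_le : cyc (fixp L E s) s ≤ cyc E s :=
  cyc_le (fixp_le.trans le_cyc) self_mem_cyc

include hB hs in
theorem sum_vec {f : G → ℂ} (hf : IrrOn (cyc E s) f) (φ : OverC p L E ν s) :
    ∑ l, vec hB hs f φ l = (mu (fixp L E s) f φ.1.1 : ℤ) := by
  classical
  set C := fixp L E s
  have h : ((∑ l, vec hB hs f φ l : ℤ) : ℂ) = ((mu C f φ.1.1 : ℤ) : ℂ) := by
    simp only [vec, Int.cast_sum, Int.cast_natCast]
    rw [mu_cast (hf.charOn_le (fixp_le.trans le_cyc)) φ.1.2.charOn]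
    simp only [mu_cast (hf.charOn_le (cycC_le hB hs)) (tw hB hs φ _).2.charOn]
    simp only [inn, tw, ← Finset.mul_sum]
    rw [Finset.sum_comm]
    have h1 : ∀ x ∈ el (cyc C s),
        ∑ l : {l // l ∈ lam C s}, f x * conj (l.1.1 x * extC hB hs φ x) =
          if x ∈ C then (C.relIndex (cyc C s) : ℂ) * (f x * conj (φ.1.1 x)) else 0 := by
      intro x hx
      simp only [map_mul, ← mul_assoc]
      rw [← Finset.sum_mul, ← Finset.mul_sum, ← map_sum,
        Finset.sum_coe_sort (lam C s) fun l => l.1 x, sum_lam hs.norm_fixp (mem_el.1 hx)]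
      split_ifs with hxC
      · rw [(extC_spec hB hs φ).2 x hxC, map_natCast]; ring
      · simp
    rw [Finset.sum_congr rfl h1, ← Finset.sum_filter, ← Finset.mul_sum]
    have h3 : (el (cyc C s)).filter (· ∈ C) = el C := by
      ext x
      simp only [Finset.mem_filter, mem_el]
      exact ⟨fun hx => hx.2, fun hx => ⟨le_cyc hx, hx⟩⟩
    rw [h3, ← card_mul_relIndex (le_cyc : C ≤ cyc C s)]
    field_simp [relIndex_ne_zero C (cyc C s), card_ne_zero C]
    simp only [C]
    ring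
  exact_mod_cast h

include hB hs in
theorem over_of_mu {χ f : G → ℂ} (hχ : IrrOn E χ) (ho : Over L ν χ) (hf : Ext E s χ f)
    {φ : G → ℂ} (hφ : IrrOn (fixp L E s) φ) (h : mu (fixp L E s) f φ ≠ 0) : Over L ν φ := by
  rw [mu_congr fun x hx => hf.2 x (fixp_le hx)] at h
  exact over_constituent (hB.le_fixp hs) fixp_le hB.norm hχ hB.irr hB.inv ho hφ h

include hB hs in
/-- The deviations add up to the norm identity. -/
theorem sum_dev {χ χ' f f' : G → ℂ} (hχ : IrrOn E χ) (ho : Over L ν χ) (hf : Ext E s χ f)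
    (hf' : Ext E s χ' f') :
    ((∑ φ : OverC p L E ν s, dev (vec hB hs f φ) (vec hB hs f' φ) : ℤ) : ℂ) =
      p * inn (cyc E s) f f' - inn E f f' := by
  classical
  haveI := hB.prime
  set C := fixp L E s
  have hsC : s ∉ C := fun h => hB.not_mem hs (fixp_le h)
  have hcard : Fintype.card {l // l ∈ lam (fixp L E s) s} = p := by
    rw [Fintype.card_coe]
    exact (card_lam hs.norm_fixp (hB.le_fixp hs hs.pow) hsC).2.2
  rw [norm_identity hB hs hf.1 hf'.1]
  have e1 : inn (cyc C s) f f' =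
      ((∑ φ : OverC p L E ν s, ∑ l, vec hB hs f φ l * vec hB hs f' φ l : ℤ) : ℂ) := by
    rw [inn_decomp (hf.1.charOn_le (cycC_le hB hs)) le_rfl]
    simp only [Int.cast_sum]
    rw [← Fintype.sum_prod_type']
    refine (Fintype.sum_of_injective
      (fun q : OverC p L E ν s × {l // l ∈ lam C s} => tw hB hs q.1 q.2) ?_ _ _ ?_ ?_).symm
    · rintro ⟨φ, l⟩ ⟨φ', l'⟩ e
      have e' : ∀ x, l.1.1 x * extC hB hs φ x = l'.1.1 x * extC hB hs φ' x :=
        fun x => congrFun (congrArg Subtype.val e) x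
      have hφ : φ = φ' := by
        refine Subtype.ext (Subtype.ext (φ.1.2.ext φ'.1.2 fun x hx => ?_))
        rw [← tw_res hB hs φ l hx, ← tw_res hB hs φ' l' hx]
        exact e' x
      subst hφ
      refine Prod.ext rfl (Subtype.ext (Subtype.ext (l.1.2.ext l'.1.2 fun x hx => ?_)))
      have ha : l.1.1 s = l'.1.1 s := by
        rw [← co_twist hs.norm_fixp φ.1.2 (extC_spec hB hs φ)
            (χ' := fun x => l.1.1 x * extC hB hs φ x) l.2 fun n _ => rfl,
          co_twist hs.norm_fixp φ.1.2 (extC_spec hB hs φ)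
            (χ' := fun x => l.1.1 x * extC hB hs φ x) l'.2 fun n _ => e' _]
      obtain ⟨n, hn, i, rfl⟩ := (mem_cyc hs.norm_fixp).1 hx
      have hi : ∀ m : ℕ, l.1.1 (s ^ m) = l'.1.1 (s ^ m) := fun m => by
        rw [lam_pow l.2 self_mem_cyc, lam_pow l'.2 self_mem_cyc, ha]
      obtain ⟨m, hm⟩ : ∃ m : ℕ, s ^ m = s ^ i :=
        ⟨(i % orderOf s).toNat, by
          rw [← zpow_natCast, Int.toNat_of_nonneg (Int.emod_nonneg _ (by
            exact_mod_cast (orderOf_pos s).ne')), zpow_mod_orderOf]⟩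
      rw [lam_mul l.2 (le_cyc hn) ((cyc C s).zpow_mem self_mem_cyc i),
        lam_mul l'.2 (le_cyc hn) ((cyc C s).zpow_mem self_mem_cyc i), (mem_lam.1 l.2).2 n hn,
        (mem_lam.1 l'.2).2 n hn, ← hm, hi]
    · intro γ hγ
      by_contra hne
      refine hγ ?_
      have hμ : mu (cyc C s) f γ.1 ≠ 0 := fun h0 => hne (by
        rw [← mu_cast (hf.1.charOn_le (cycC_le hB hs)) γ.2.charOn, h0, Nat.cast_zero, zero_mul])
      obtain ⟨φ, hφ⟩ := exists_constituent (γ.2.charOn_le (le_cyc : C ≤ cyc C s))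
        (apply_one_ne_zero γ.2)
      have hφo : Over L ν φ.1 := over_of_mu hB hs hχ ho hf φ.2
        (mu_pos_trans (hf.1.charOn_le (cycC_le hB hs)) le_cyc φ.2.charOn γ.2 hμ hφ)
      obtain ⟨l, hl, hle⟩ := exists_twist hs.norm_fixp (extC_spec hB hs ⟨φ, hφo⟩) γ.2
        ((mu_ne_zero_iff (γ.2.charOn_le le_cyc) φ.2.charOn).1 hφ)
      exact ⟨(⟨φ, hφo⟩, ⟨l, hl⟩), Subtype.ext hle.symm⟩
    · intro q
      simp only [vec, Int.cast_mul, Int.cast_natCast]
      rw [mu_cast (hf.1.charOn_le (cycC_le hB hs)) (tw hB hs q.1 q.2).2.charOn]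
      congr 1
      rw [mu_cast (hf'.1.charOn_le (cycC_le hB hs)) (tw hB hs q.1 q.2).2.charOn, ← inn_comm _ f',
        ← mu_cast (hf'.1.charOn_le (cycC_le hB hs)) (tw hB hs q.1 q.2).2.charOn, map_natCast]
  have e2 : inn C f f' =
      ((∑ φ : OverC p L E ν s, (∑ l, vec hB hs f φ l) * ∑ l, vec hB hs f' φ l : ℤ) : ℂ) := by
    simp only [sum_vec hB hs hf.1, sum_vec hB hs hf'.1]
    rw [inn_decomp (hf.1.charOn_le (fixp_le.trans le_cyc)) le_rfl]
    simp only [Int.cast_sum, Int.cast_mul, Int.cast_natCast]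
    refine (Fintype.sum_of_injective (fun φ : OverC p L E ν s => φ.1) Subtype.val_injective _ _
      ?_ ?_).symm
    · intro φ hφ
      rw [← mu_cast (hf.1.charOn_le (fixp_le.trans le_cyc)) φ.2.charOn]
      by_cases h0 : mu C f φ.1 = 0
      · rw [h0, Nat.cast_zero, zero_mul]
      · exact absurd ⟨⟨φ, over_of_mu hB hs hχ ho hf φ.2 h0⟩, rfl⟩ hφ
    · intro φ
      rw [mu_cast (hf.1.charOn_le (fixp_le.trans le_cyc)) φ.1.2.charOn,
        mu_cast (hf'.1.charOn_le (fixp_le.trans le_cyc)) φ.1.2.charOn, ← inn_comm _ f',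
        ← mu_cast (hf'.1.charOn_le (fixp_le.trans le_cyc)) φ.1.2.charOn, map_natCast]
  rw [e1, e2]
  simp only [dev, hcard, Finset.sum_sub_distrib, ← Finset.mul_sum]
  push_cast
  ring

include hB hs in
theorem dev_le {χ f : G → ℂ} (hχ : IrrOn E χ) (ho : Over L ν χ) (hf : Ext E s χ f) :
    ∑ φ : OverC p L E ν s, dev (vec hB hs f φ) (vec hB hs f φ) = (p : ℤ) - 1 := by
  have h := sum_dev hB hs hχ ho hf hf
  rw [inn_self hf.1, inn_congr hf.2 hf.2, inn_self hχ, mul_one] at h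
  exact_mod_cast h

include hB hs in
/-- The exceptional constituent. -/
theorem exists_special {χ f : G → ℂ} (hχ : IrrOn E χ) (ho : Over L ν χ) (hf : Ext E s χ f) :
    ∃ φ₀ : OverC p L E ν s, (∃ (c ε : ℤ) (i₀ : {l // l ∈ lam (fixp L E s) s}),
        (ε = 1 ∨ ε = -1) ∧ ∀ i, vec hB hs f φ₀ i = c + if i = i₀ then ε else 0) ∧
      (∀ φ, φ ≠ φ₀ → ∃ c, ∀ i, vec hB hs f φ i = c) ∧ Corr p (fixp L E s) χ φ₀.1.1 := by
  classical
  haveI := hB.prime
  set C := fixp L E s
  have hsC : s ∉ C := fun h => hB.not_mem hs (fixp_le h)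
  have hcard : (Fintype.card {l // l ∈ lam C s} : ℤ) = p := by
    rw [Fintype.card_coe, (card_lam hs.norm_fixp (hB.le_fixp hs hs.pow) hsC).2.2]
  have htot := dev_le hB hs hχ ho hf
  have hle : ∀ φ : OverC p L E ν s, dev (vec hB hs f φ) (vec hB hs f φ) ≤ (p : ℤ) - 1 :=
    fun φ => htot ▸ Finset.single_le_sum (fun ψ _ => dev_nonneg (vec hB hs f ψ)) (Finset.mem_univ φ)
  have hcases := fun φ => dev_cases (vec hB hs f φ) (by rw [hcard]; exact hle φ)
  have hp2 := hB.prime.out.two_le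
  obtain ⟨φ₀, hφ₀⟩ : ∃ φ₀, ¬ ∃ c, ∀ i, vec hB hs f φ₀ i = c := by
    by_contra hall
    push Not at hall
    rw [Finset.sum_eq_zero fun φ _ => by
      obtain ⟨c, hc⟩ := hall φ
      rw [funext hc, dev_const_left]] at htot
    omega
  obtain ⟨hd, c, ε, i₀, hε, hv⟩ := (hcases φ₀).resolve_left hφ₀
  rw [hcard] at hd
  have hother : ∀ φ, φ ≠ φ₀ → ∃ c, ∀ i, vec hB hs f φ i = c := by
    intro φ hne
    rw [← Finset.add_sum_erase _ _ (Finset.mem_univ φ₀), hd, add_eq_left,
      Finset.sum_eq_zero_iff_of_nonneg fun ψ _ => dev_nonneg _] at htot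
    refine (hcases φ).resolve_right fun h => ?_
    have := h.1.symm.trans (htot φ (Finset.mem_erase.2 ⟨hne, Finset.mem_univ _⟩))
    rw [hcard] at this
    omega
  refine ⟨φ₀, ⟨c, ε, i₀, hε, hv⟩, hother, φ₀.1.2, fun hd' => ?_, fun γ hγ hne => ?_⟩
  · rw [← Int.natCast_dvd_natCast,
      ← mu_congr (f := f) fun x hx => hf.2 x (fixp_le hx), ← sum_vec hB hs hf.1,
      Finset.sum_congr rfl fun i _ => hv i, sum_unit, hcard] at hd'
    have h2 : (p : ℤ) ∣ ε := (Int.dvd_add_right (dvd_mul_right _ c)).1 hd'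
    have : (p : ℤ) ≤ 1 := Int.le_of_dvd one_pos (by rcases hε with rfl | rfl <;> simpa using h2)
    omega
  · by_cases h0 : mu C χ γ = 0
    · rw [h0]; exact dvd_zero p
    have hγo : Over L ν γ := over_constituent (hB.le_fixp hs) fixp_le hB.norm hχ hB.irr hB.inv ho
      hγ h0
    obtain ⟨c', hc'⟩ := hother ⟨⟨γ, hγ⟩, hγo⟩ fun e => hne (by rw [← e])
    rw [← Int.natCast_dvd_natCast, ← mu_congr (f := f) fun x hx => hf.2 x (fixp_le hx),
      ← sum_vec hB hs hf.1 ⟨⟨γ, hγ⟩, hγo⟩, Finset.sum_congr rfl fun i _ => hc' i,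
      Finset.sum_const, Finset.card_univ, nsmul_eq_mul, hcard]
    exact dvd_mul_right _ _

end Mult

/-- The correspondent for one operator. -/
theorem step_exists (hB : Base p L E ν) (hs : Op p L E ν s) {χ : G → ℂ} (hχ : IrrOn E χ)
    (ho : Over L ν χ) (hinv : cj s χ = χ) :
    ∃ β, Corr p (fixp L E s) χ β ∧ Over L ν β := by
  obtain ⟨f, hf⟩ := exists_ext hs.normE hχ hinv
  obtain ⟨φ₀, -, -, h⟩ := exists_special hB hs hχ ho hf
  exact ⟨φ₀.1.1, h, φ₀.2⟩

/-- Injectivity. -/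
theorem step_inj (hB : Base p L E ν) (hs : Op p L E ν s) {χ χ' β : G → ℂ} (hχ : IrrOn E χ)
    (hχ' : IrrOn E χ') (ho : Over L ν χ) (ho' : Over L ν χ') (hinv : cj s χ = χ)
    (hinv' : cj s χ' = χ') (hc : Corr p (fixp L E s) χ β) (hc' : Corr p (fixp L E s) χ' β) :
    χ = χ' := by
  classical
  haveI := hB.prime
  by_contra hne
  obtain ⟨f, hf⟩ := exists_ext hs.normE hχ hinv
  obtain ⟨f', hf'⟩ := exists_ext hs.normE hχ' hinv'
  obtain ⟨φ₀, ⟨c, ε, i₀, hε, hv⟩, ho1, hφ₀⟩ := exists_special hB hs hχ ho hf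
  obtain ⟨φ₁, ⟨c', ε', i₁, hε', hv'⟩, -, hφ₁⟩ := exists_special hB hs hχ' ho' hf'
  have e : φ₁ = φ₀ :=
    Subtype.ext (Subtype.ext ((hc'.unique hφ₁).symm.trans (hc.unique hφ₀)))
  subst e
  have h := sum_dev hB hs hχ ho hf hf'
  rw [inn_ne hf.1 hf'.1 (fun e => hne (hχ.ext hχ' fun x hx => by rw [← hf.2 x hx, e, hf'.2 x hx])),
    inn_congr hf.2 hf'.2, inn_ne hχ hχ' hne, mul_zero, sub_zero, Int.cast_eq_zero] at h
  rw [← Finset.add_sum_erase _ _ (Finset.mem_univ φ₁), Finset.sum_eq_zero fun φ hφ => by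
    obtain ⟨c₂, hc₂⟩ := ho1 φ (Finset.mem_erase.1 hφ).1
    rw [funext hc₂, dev_const_left]] at h
  rw [add_zero, funext hv, funext hv', dev_unit, Fintype.card_coe,
    (card_lam hs.norm_fixp (hB.le_fixp hs hs.pow) fun h => hB.not_mem hs (fixp_le h)).2.2] at h
  have hp2 := hB.prime.out.two_le
  rcases hε with rfl | rfl <;> rcases hε' with rfl | rfl <;> split_ifs at h <;> omega

open scoped Classical in
/-- Surjectivity. -/
theorem step_surj (hB : Base p L E ν) (hs : Op p L E ν s) {β : G → ℂ}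
    (hβ : IrrOn (fixp L E s) β) (ho : Over L ν β) :
    ∃ χ, IrrOn E χ ∧ Over L ν χ ∧ cj s χ = χ ∧ Corr p (fixp L E s) χ β := by
  haveI := hB.prime
  set C := fixp L E s
  have hCE : C ≤ E := fixp_le
  let w : Irr E → ℕ := fun χ => mu C χ.1 β * charDegree χ.1
  -- Frobenius reciprocity at the identity
  have hsum : ((∑ χ, w χ : ℕ) : ℂ) = (C.relIndex E : ℂ) * β 1 := by
    simp only [w, Nat.cast_sum, Nat.cast_mul, inn,
      fun χ : Irr E => mu_cast (χ.2.charOn_le hCE) hβ.charOn, ← fun χ : Irr E => apply_one_eq_deg χ.2]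
    simp only [mul_assoc, Finset.sum_mul]
    rw [← Finset.mul_sum, Finset.sum_comm]
    have h : ∀ c ∈ el C, ∑ χ : Irr E, χ.1 c * (conj (β c) * χ.1 1) =
        if c = 1 then (Nat.card E : ℂ) * conj (β c) else 0 := by
      intro c hc
      have h1 := sum_irr_mul (hCE (mem_el.1 hc)) E.one_mem
      have h2 : ∑ χ : Irr E, χ.1 c * (conj (β c) * χ.1 1) =
          conj (β c) * ∑ χ : Irr E, χ.1 c * conj (χ.1 1) := by
        rw [Finset.mul_sum]
        refine Finset.sum_congr rfl fun χ _ => ?_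
        rw [← apply_inv χ.2, inv_one]; ring
      rw [h2, h1]
      split_ifs with hc1
      · subst hc1
        rw [Finset.filter_true_of_mem (fun h _ => by simp), card_el, mul_comm]
      · rw [Finset.filter_false_of_mem, Finset.card_empty, Nat.cast_zero, mul_zero]
        intro h _ e
        have := congrArg (fun z => h⁻¹ * z * h) e
        exact hc1 (by simpa [mul_assoc] using this)
    rw [Finset.sum_congr rfl h, Finset.sum_ite_eq' (el C) (1 : G), if_pos (mem_el.2 C.one_mem),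
      ← apply_inv hβ, inv_one, ← card_mul_relIndex hCE]
    field_simp [card_ne_zero C]
  have hnd : ¬ p ∣ ∑ χ, w χ := by
    rw [apply_one_eq_deg hβ, ← Nat.cast_mul, Nat.cast_inj] at hsum
    rw [hsum, hB.prime.out.dvd_mul]
    exact not_or_intro
      (fun h => hB.cop (h.trans ⟨L.relIndex C,
        ((mul_comm _ _).trans (Subgroup.relIndex_mul_relIndex L C E (hB.le_fixp hs) hCE)).symm⟩))
      ((hB.mono (hB.le_fixp hs) hCE).degree_not_dvd hβ ho)
  -- a fixed point of weight prime to `p`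
  obtain ⟨v, hv⟩ : ∃ v, ¬ p ∣ v * (Finset.univ.filter fun χ => w χ = v).card := by
    by_contra hall
    push Not at hall
    apply hnd
    rw [← Finset.sum_fiberwise_of_maps_to (g := w) (t := Finset.univ.image w)
      fun x hx => Finset.mem_image_of_mem _ hx]
    refine Finset.dvd_sum fun v _ => ?_
    rw [Finset.sum_congr rfl (g := fun _ => v) (fun χ hχ => (Finset.mem_filter.1 hχ).2),
      Finset.sum_const, smul_eq_mul, mul_comm]
    exact hall v
  rw [hB.prime.out.dvd_mul, not_or] at hv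
  have hβs := inv_fixp hB hs hβ ho
  let π : {χ : Irr E // w χ = v} → {χ : Irr E // w χ = v} := fun χ =>
    ⟨⟨cj s χ.1.1, χ.1.2.cj hs.normE⟩, by
      refine Eq.trans ?_ χ.2
      show mu C (cj s χ.1.1) β * charDegree (cj s χ.1.1) = mu C χ.1.1 β * charDegree χ.1.1
      have e1 : mu C (cj s χ.1.1) β = mu C χ.1.1 β := by
        conv_lhs => rw [← hβs]
        exact mu_cj hs.norm_fixp _ _
      rw [e1]
      simp [charDegree, cj]⟩
  have hπp : ∀ (k : ℕ) χ, (π^[k] χ).1.1 = cj (s ^ k) χ.1.1 := by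
    intro k
    induction k with
    | zero => intro χ; simp [cj_one]
    | succ k ih =>
      intro χ
      rw [Function.iterate_succ_apply', pow_succ, ← cj_cj, ← ih χ]
  have hper : ∀ χ, π^[p] χ = χ := fun χ => Subtype.ext (Subtype.ext (by
    rw [hπp, cj_of_mem χ.1.2 (hB.le hs.pow)]))
  let σ : Equiv.Perm {χ : Irr E // w χ = v} :=
    { toFun := π
      invFun := π^[p - 1]
      left_inv := fun χ => by
        rw [← Function.iterate_succ_apply, Nat.succ_eq_add_one,
          Nat.sub_add_cancel hB.prime.out.one_le, hper]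
      right_inv := fun χ => by
        rw [← Function.iterate_succ_apply' π, Nat.succ_eq_add_one,
          Nat.sub_add_cancel hB.prime.out.one_le, hper] }
  obtain ⟨⟨⟨χ, hχ⟩, hw⟩, hfix⟩ := Equiv.Perm.exists_fixed_point_of_prime (p := p) (n := 1) (σ := σ)
    (by rw [Fintype.card_subtype]; exact hv.2)
    (Equiv.ext fun χ => by
      rw [pow_one, ← Equiv.Perm.iterate_eq_pow]
      exact hper χ)
  have hinv : cj s χ = χ := congrArg (fun z : {χ : Irr E // w χ = v} => z.1.1) hfix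
  have hmu : ¬ p ∣ mu C χ β := fun h => hv.1 (hw ▸ h.mul_right _)
  have hoχ : Over L ν χ := over_of_constituent (hB.le_fixp hs) hCE hχ hB.irr hβ ho
    fun h => hmu (h ▸ dvd_zero p)
  obtain ⟨β', hβ', -⟩ := step_exists hB hs hχ hoχ hinv
  rw [hβ'.eq_of_not_dvd hβ hmu]
  exact ⟨χ, hχ, hoχ, hinv, hβ'⟩

end Cfsg.Agent.Rel80
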