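import Cfsg.Agent.Lib.Rel80Fix
import Cfsg.Agent.Lib.Rel80Phi
import Cfsg.Agent.Lib.Rel80IrrAct

/-!
# The pairing is preserved by the correspondence
-/

set_option autoImplicit false
set_option linter.unusedSectionVars false

open scoped ComplexConjugate

namespace Cfsg.Agent.Rel80

open Cfsg Cfsg.Agent.CharBasic Cfsg.Agent.CharBasicDecomp

universe u

variable {G : Type u} [Group G] [Fintype G]

/-- Linear characters have norm one. -/
theorem linear_mul_conj {H : Subgroup G} {l : G → ℂ} (hl : IrrOn H l) (hl1 : l 1 = 1) {x : G}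
    (hx : x ∈ H) : l x * conj (l x) = 1 := by
  rw [← apply_inv hl, ← linear_mul hl hl1 hx (H.inv_mem hx), mul_inv_cancel, hl1]

theorem IrrOn.twist_res {H C : Subgroup G} (hCH : C ≤ H) {γ l : G → ℂ} (hγ : IrrOn C γ)
    (hl : IrrOn H l) (hl1 : l 1 = 1) : IrrOn C fun x => l x * γ x := by
  obtain ⟨lam, hlam⟩ := CharBasicLinear.exists_hom_of_apply_one_eq_one hl.charOn hl1
  refine ⟨?_, fun g hg => by simp [hγ.2 g hg]⟩
  have h := isIrrCharacter_mul_linear (G := C) hγ.1 (lam.comp (Subgroup.inclusion hCH))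
  refine (congrArg (IsIrrCharacter C) (funext fun x : C => ?_)).mp h
  show γ x * (lam (Subgroup.inclusion hCH x) : ℂ) = l x * γ x
  rw [← congrFun hlam (Subgroup.inclusion hCH x)]
  exact mul_comm _ _

theorem Corr.twist {p : ℕ} {H C : Subgroup G} (hCH : C ≤ H) {f β l : G → ℂ} (h : Corr p C f β)
    (hl : IrrOn H l) (hl1 : l 1 = 1) :
    Corr p C (fun x => l x * f x) (fun x => l x * β x) := by
  have hmu : ∀ g : G → ℂ, mu C (fun x => l x * f x) (fun x => l x * g x) = mu C f g := fun g => by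
    rw [mu, mu, inn, inn, Finset.sum_congr rfl fun x hx => by
      rw [map_mul, mul_mul_mul_comm, linear_mul_conj hl hl1 (hCH (mem_el.1 hx)), one_mul]]
  refine ⟨h.1.twist_res hCH hl hl1, by rw [hmu]; exact h.2.1, fun γ hγ hne => ?_⟩
  have hc : IrrOn H fun x => conj (l x) :=
    ⟨isIrrCharacter_conj hl.1, fun g hg => by simp [hl.2 g hg]⟩
  set γ' : G → ℂ := fun x => conj (l x) * γ x
  have hγ' : IrrOn C γ' := hγ.twist_res hCH hc (by simp [hl1])
  have e : γ = fun x => l x * γ' x := funext fun x => by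
    by_cases hx : x ∈ C
    · simp only [γ', ← mul_assoc, linear_mul_conj hl hl1 (hCH hx), one_mul]
    · simp [γ', hγ.2 x hx]
  rw [e, hmu]
  exact h.2.2 γ' hγ' fun e' => hne (by rw [e, e'])

variable {p : ℕ} {L K : Subgroup G} {ν : G → ℂ}

/-- A pair element: it normalises everything, has finite order prime to `p` modulo `C`, and
generates with `K` a group over which `ν` is still invariant. -/
structure Good (p : ℕ) (L K C : Subgroup G) (ν : G → ℂ) (a : G) : Prop where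
  normL : a ∈ Subgroup.normalizer (L : Set G)
  normK : a ∈ Subgroup.normalizer (K : Set G)
  base : Base p L (cyc K a) ν
  ord : ∃ n : ℕ, ¬ p ∣ n ∧ a ^ n ∈ C

theorem Good.mono {C : Subgroup G} {a : G} (h : Good p L K C ν a) {K' : Subgroup G}
    (hL : L ≤ K') (hK' : K' ≤ K) (ha : a ∈ Subgroup.normalizer (K' : Set G)) :
    Good p L K' C ν a :=
  ⟨h.normL, ha, h.base.mono (hL.trans le_cyc)
    (cyc_le (hK'.trans le_cyc) self_mem_cyc), h.ord⟩

theorem Good.cop_cyc {C : Subgroup G} {a : G} (h : Good p L K C ν a) (hLK : L ≤ K) :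
    ¬ p ∣ K.relIndex (cyc K a) := fun hd =>
  h.base.cop (hd.trans ⟨L.relIndex K,
    ((mul_comm _ _).trans (Subgroup.relIndex_mul_relIndex L K _ hLK le_cyc)).symm⟩)

/-- The base case: `a` centralises the operators modulo `L`. -/
theorem pair_base (hB : Base p L K ν) {F : Subgroup G} (hA : Acts p L K ν F) {C₁ : Subgroup G}
    {a b : G} (ha : Good p L K C₁ ν a) (hbK : b ∈ Subgroup.normalizer (K : Set G))
    (hbC : b ∈ Subgroup.normalizer (fixF L K F : Set G)) (haF : ∀ r ∈ F, a ∈ cmod L r)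
    (hab : a ∈ cmod (fixF L K F) b) {θ β : G → ℂ} (hθ : IrrOn K θ) (ho : Over L ν θ)
    (haθ : cj a θ = θ) (hbθ : cj b θ = θ) (hθF : ∀ r ∈ F, cj r θ = θ)
    (hβ : Corr p (fixF L K F) θ β) : phi K θ a b = phi (fixF L K F) β a b := by
  haveI := hB.prime
  set C := fixF L K F with hC
  have hCK : C ≤ K := fixF_le
  have haC : a ∈ Subgroup.normalizer (C : Set G) := hab.1
  have habK : a ∈ cmod K b := ⟨ha.normK, hCK hab.2⟩
  have hLK : L ≤ K := hB.le
  have hLC : L ≤ C := hA.le_fixF hB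
  have haβ : cj a β = β := by
    have h := hβ.cj haC
    rw [haθ] at h
    exact h.unique hβ
  have hbβ : cj b β = β := by
    have h := hβ.cj hbC
    rw [hbθ] at h
    exact h.unique hβ
  obtain ⟨χ, hχ⟩ : ∃ χ, Ext K a θ χ := exists_ext ha.normK hθ haθ
  have hAE : Acts p L (cyc K a) ν F := by
    refine ⟨hA.le, hA.normL, fun r hr => ?_, hA.pow, hA.fix, hA.comm⟩
    exact cj_cyc ha.normK (hA.normE hr) ⟨ha.normK, hLK (haF r hr).2⟩
  have hχo : Over L ν χ := by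
    show mu L χ ν ≠ 0
    rw [mu_congr fun x hx => hχ.2 x (hLK hx)]
    exact ho
  have hχF : ∀ r ∈ F, cj r χ = χ := fun r hr =>
    fixed_ext (p := p) ha.normK hθ hχ (hA.normE hr) ⟨ha.normK, hLK (haF r hr).2⟩ (hθF r hr)
      (le_cyc (hLK (hA.pow r hr))) (ha.cop_cyc hLK)
  obtain ⟨ξ, hξ, -⟩ := (corr_all ha.base hAE).1 χ hχ.1 hχo hχF
  have hfix : fixF L (cyc K a) F = cyc C a := by
    refine le_antisymm (fun x hx => ?_) (cyc_le (fun c hc => ⟨le_cyc hc.1, hc.2⟩)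
      ⟨self_mem_cyc, haF⟩)
    obtain ⟨k, hk, i, rfl⟩ := (mem_cyc ha.normK).1 hx.1
    refine (mem_cyc haC).2 ⟨k, ⟨hk, fun r hr => ?_⟩, i, rfl⟩
    simpa using (cmod L r).mul_mem (hx.2 r hr) ((cmod L r).zpow_mem (haF r hr) (-i))
  rw [hfix] at hξ
  -- the correspondent extends `β`
  have hξC : Corr p C ξ β := by
    have e : ∀ γ : G → ℂ, IrrOn C γ →
        mu C θ γ % p = mu (cyc C a) χ ξ * mu C ξ γ % p := by
      intro γ hγ
      classical
      rw [← mu_congr (f := χ) fun x hx => hχ.2 x (hCK hx),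
        mu_trans (hχ.1.charOn_le (cyc_le (hCK.trans le_cyc) self_mem_cyc)) le_cyc hγ.charOn,
        ← Finset.add_sum_erase _ _ (Finset.mem_univ (⟨ξ, hξ.1⟩ : Irr (cyc C a))), Nat.add_mod,
        Nat.dvd_iff_mod_eq_zero.1 (Finset.dvd_sum fun δ hδ =>
          (hξ.2.2 δ.1 δ.2 fun e => (Finset.mem_erase.1 hδ).1 (Subtype.ext e)).mul_right _),
        add_zero, Nat.mod_mod]
    refine ⟨hβ.1, fun hd => hβ.2.1 ?_, fun γ hγ hne => ?_⟩
    · rw [Nat.dvd_iff_mod_eq_zero, e β hβ.1, ← Nat.dvd_iff_mod_eq_zero]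
      exact hd.mul_left _
    · have h := hβ.2.2 γ hγ hne
      rw [Nat.dvd_iff_mod_eq_zero, e γ hγ, ← Nat.dvd_iff_mod_eq_zero,
        hB.prime.out.dvd_mul] at h
      exact h.resolve_left hξ.2.1
  have hξe : Ext C a β ξ := by
    obtain ⟨η, hη⟩ : ∃ η, Ext C a β η := exists_ext haC hβ.1 haβ
    obtain ⟨l, hl, hle⟩ := exists_twist haC hη hξ.1
      ((mu_ne_zero_iff (hξ.1.charOn_le le_cyc) hβ.1.charOn).1 hξC.mu_ne_zero)
    exact ⟨hξ.1, fun x hx => by rw [hle]; simp only [(mem_lam.1 hl).2 x hx, one_mul, hη.2 x hx]⟩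
  -- compare the scalars
  have hχb := hχ.cj ha.normK hbK habK
  rw [hbθ] at hχb
  obtain ⟨l, hl, hle⟩ := exists_twist ha.normK hχ hχb.1 (by rw [hχb.inn hθ]; exact one_ne_zero)
  have hsub : cyc C a ≤ cyc K a := cyc_le (hCK.trans le_cyc) self_mem_cyc
  have h1 := hξ.cj (b := b) (cj_cyc haC hbC hab)
  have h2 := hξ.twist hsub l.2 (mem_lam.1 hl).1
  rw [hle] at h1
  have hξb := h1.unique h2
  rw [phi_eq_co hθ ha.normK hbK habK hχ, phi_eq_co hβ.1 haC hbC hab hξe,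
    co_twist ha.normK hθ hχ hl fun n _ => congrFun hle _]
  have h3 := co_self haC hβ.1 hξe
  unfold co at h3 ⊢
  rw [Finset.sum_congr rfl (g := fun n => l.1 a * (ξ (a * n) * conj (ξ (a * n)))) fun n hn => by
      rw [congrFun hξb, lam_coset hl self_mem_cyc (hCK (mem_el.1 hn)), mul_assoc],
    ← Finset.mul_sum, mul_left_comm, h3, mul_one]

theorem phi_mul_inv {θ : G → ℂ} {a b : G} (ha : a ∈ Subgroup.normalizer (K : Set G)) :
    phi K θ a (b * a⁻¹) = phi K θ a b := by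
  rw [← phi_mul_self ha (b := b * a⁻¹), inv_mul_cancel_right]

/-- Conjugation transports `cmod`. -/
theorem cmod_conj {a : G} (ha : a ∈ Subgroup.normalizer (L : Set G)) {s x : G}
    (hx : x ∈ cmod L s) : a * x * a⁻¹ ∈ cmod L (a * s * a⁻¹) := by
  refine ⟨Subgroup.mul_mem _ (Subgroup.mul_mem _ ha hx.1) (Subgroup.inv_mem _ ha), ?_⟩
  have h := (mem_conj_iff ha _).2 hx.2
  simpa [mul_assoc] using h

theorem norm_fixF_of {R : Subgroup G} {a : G} (haL : a ∈ Subgroup.normalizer (L : Set G))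
    (haK : a ∈ Subgroup.normalizer (K : Set G)) (haR : a ∈ Subgroup.normalizer (R : Set G)) :
    a ∈ Subgroup.normalizer (fixF L K R : Set G) := by
  refine normalizer_of_conj_mem fun x hx => ⟨(Subgroup.mem_normalizer_iff.1 haK x).1 hx.1,
    fun r hr => ?_⟩
  have hr' : a⁻¹ * r * a ∈ R := (Subgroup.mem_normalizer_iff''.1 haR r).1 hr
  have h := cmod_conj haL (hx.2 _ hr')
  simpa [mul_assoc] using h

section Layer

variable {R R₀ R' : Subgroup G} (hA : Acts p L K ν R) (hR₀ : R₀ ≤ R) (hR' : R' ≤ R₀) (hLR' : L ≤ R')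

include hA hR₀ hR' hLR' in
/-- An element acting trivially on `R₀` modulo `R'` centralises a supplement of `R'`. -/
theorem exists_supplement [hp : Fact p.Prime] {a : G} (haL : a ∈ Subgroup.normalizer (L : Set G))
    (haR₀ : a ∈ Subgroup.normalizer (R₀ : Set G)) {n : ℕ} (hn : ¬ p ∣ n)
    (han : a ^ n ∈ fixF L K R) (htriv : ∀ r ∈ R₀, a * r * a⁻¹ * r⁻¹ ∈ R') :
    R₀ ≤ R' ⊔ (R₀ ⊓ cmod L a) := by
  intro r hr
  have hrL : r ∈ Subgroup.normalizer (L : Set G) := hA.normL (hR₀ hr)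
  let q : ℕ → G := Nat.rec 1 fun k x => r * (a * x * a⁻¹)
  have hq1 : ∀ k, q k ∈ R₀ := by
    intro k
    induction k with
    | zero => exact R₀.one_mem
    | succ k ih => exact R₀.mul_mem hr ((Subgroup.mem_normalizer_iff.1 haR₀ _).1 ih)
  have hq2 : ∀ k, (r ^ k)⁻¹ * q k ∈ R' := by
    intro k
    induction k with
    | zero => simp [q]
    | succ k ih =>
      have h1 := htriv _ (hq1 k)
      have hconj : ∀ x ∈ R', ∀ y ∈ R₀, y⁻¹ * x * y ∈ R' := by
        intro x hx y hy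
        have h2 := R'.mul_mem (hLR' (hA.comm y⁻¹ (hR₀ (R₀.inv_mem hy)) x (hR₀ (hR' hx)))) hx
        simpa [mul_assoc] using h2
      have e : (r ^ (k + 1))⁻¹ * (r * (a * q k * a⁻¹)) =
          ((r ^ k)⁻¹ * (a * q k * a⁻¹ * (q k)⁻¹) * r ^ k) * ((r ^ k)⁻¹ * q k) := by
        rw [pow_succ']; simp [mul_assoc]
      show (r ^ (k + 1))⁻¹ * (r * (a * q k * a⁻¹)) ∈ R'
      rw [e]
      exact R'.mul_mem (hconj _ h1 _ (R₀.pow_mem hr k)) ih
  -- the two recursions agree modulo `L`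
  have hq3 : ∀ k, (q k * (a ^ k * r * (a ^ k)⁻¹))⁻¹ * q (k + 1) ∈ L := by
    intro k
    induction k with
    | zero => simp [q]
    | succ k ih =>
      have h1 := (mem_conj_iff haL _).2 ih
      have e : (q (k + 1) * (a ^ (k + 1) * r * (a ^ (k + 1))⁻¹))⁻¹ * q (k + 1 + 1) =
          a * ((q k * (a ^ k * r * (a ^ k)⁻¹))⁻¹ * q (k + 1)) * a⁻¹ := by
        simp only [q, pow_succ']
        group
      rw [e]
      exact h1
  have hqa : q n ∈ cmod L a := by
    refine ⟨hA.normL (hR₀ (hq1 n)), ?_⟩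
    have h1 : r⁻¹ * a ^ n * r * (a ^ n)⁻¹ ∈ L := by
      simpa using (han.2 r⁻¹ (R.inv_mem (hR₀ hr))).2
    have h2 := hq3 n
    have h3 : (q n * r)⁻¹ * (r * (a * q n * a⁻¹)) ∈ L := by
      have e : (q n * r)⁻¹ * (r * (a * q n * a⁻¹)) =
          (r⁻¹ * a ^ n * r * (a ^ n)⁻¹) * ((q n * (a ^ n * r * (a ^ n)⁻¹))⁻¹ * q (n + 1)) := by
        simp only [q]
        group
      rw [e]
      exact L.mul_mem h1 h2
    have h4 := hA.comm (q n) (hR₀ (hq1 n)) r (hR₀ hr)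
    have h5 := L.mul_mem ((mem_conj_iff (hA.normL (R.mul_mem (hR₀ (hq1 n)) (hR₀ hr))) _).2 h3) h4
    have h6 := (mem_conj_iff (Subgroup.inv_mem _ hrL) _).2 h5
    simpa [mul_assoc] using h6
  refine mem_of_pow_mem (p := p) (le_sup_left (a := R') (hLR' (hA.pow r (hR₀ hr)))) (k := (n : ℤ)) ?_
    (Nat.isCoprime_iff_coprime.2 ((Nat.Prime.coprime_iff_not_dvd hp.out).2 hn).symm)
  rw [zpow_natCast]
  have e : r ^ n = q n * ((r ^ n)⁻¹ * q n)⁻¹ := by simp
  rw [e]
  exact (R' ⊔ (R₀ ⊓ cmod L a)).mul_mem (le_sup_right (a := R') (Subgroup.mem_inf.2 ⟨hq1 n, hqa⟩))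
    (le_sup_left (a := R') (R'.inv_mem (hq2 n)))

end Layer

open scoped Classical in
/-- The pairing is preserved by the correspondence for `R₀`. -/
theorem pair_eq (hB : Base p L K ν) {R : Subgroup G} (hA : Acts p L K ν R) {a b : G}
    (hgood : ∀ g ∈ Subgroup.closure ({a, b} : Set G), Good p L K (fixF L K R) ν g)
    (hab : a ∈ cmod (fixF L K R) b) :
    ∀ R₀ : Subgroup G, L ≤ R₀ → R₀ ≤ R → a ∈ Subgroup.normalizer (R₀ : Set G) →
      b ∈ Subgroup.normalizer (R₀ : Set G) → ∀ θ β : G → ℂ, IrrOn K θ → Over L ν θ →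
      cj a θ = θ → cj b θ = θ → (∀ r ∈ R₀, cj r θ = θ) → Corr p (fixF L K R₀) θ β →
      phi K θ a b = phi (fixF L K R₀) β a b := by
  haveI := hB.prime
  intro R₀
  induction R₀ using WellFoundedLT.induction with
  | ind R₀ ih =>
  intro hL hR haR₀ hbR₀ θ β hθ ho haθ hbθ hθR hβ
  have ha := hgood a (Subgroup.subset_closure (by simp))
  have hb := hgood b (Subgroup.subset_closure (by simp))
  by_cases hne : R₀ = L
  · subst hne
    rw [fixF_self hB] at hβ ⊢
    rw [(corr_self hB.prime.out hθ).unique hβ]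
  have hfin : {X : Subgroup G | L ≤ X ∧ X < R₀ ∧ a ∈ Subgroup.normalizer (X : Set G) ∧
      b ∈ Subgroup.normalizer (X : Set G)}.Finite := Set.toFinite _
  obtain ⟨R', hR'max⟩ := hfin.exists_maximal
    ⟨L, le_rfl, lt_of_le_of_ne hL (Ne.symm hne), ha.normL, hb.normL⟩
  obtain ⟨hLR', hlt, haR', hbR'⟩ := hR'max.prop
  have hA₀ := hA.mono hL hR
  have hA' := hA.mono hLR' (hlt.le.trans hR)
  set C' := fixF L K R' with hC'
  have hC'K : C' ≤ K := fixF_le
  have hB' : Base p L C' ν := hB.mono (hA'.le_fixF hB) hC'K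
  have haC' : a ∈ Subgroup.normalizer (C' : Set G) := norm_fixF_of ha.normL ha.normK haR'
  have hbC' : b ∈ Subgroup.normalizer (C' : Set G) := norm_fixF_of hb.normL hb.normK hbR'
  have hC₀ : fixF L K R₀ ≤ C' := fixF_anti hlt.le
  have hC₁ : fixF L K R ≤ fixF L K R₀ := fixF_anti hR
  obtain ⟨θ', hθ', hθ'o⟩ := (corr_all hB hA').1 θ hθ ho fun r hr => hθR r (hlt.le hr)
  have hfix' : ∀ g : G, g ∈ Subgroup.normalizer (C' : Set G) → cj g θ = θ → cj g θ' = θ' := by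
    intro g hg hgθ
    have h := hθ'.cj hg
    rw [hgθ] at h
    exact h.unique hθ'
  have haθ' := hfix' a haC' haθ
  have hbθ' := hfix' b hbC' hbθ
  have hnR : ∀ r ∈ R₀, r ∈ Subgroup.normalizer (C' : Set G) := fun r hr =>
    hA₀.norm_fixF hlt.le hr
  have hθ'R : ∀ r ∈ R₀, cj r θ' = θ' := fun r hr => hfix' r (hnR r hr) (hθR r hr)
  rw [ih R' hlt hLR' (hlt.le.trans hR) haR' hbR' θ θ' hθ ho haθ hbθ
    (fun r hr => hθR r (hlt.le hr)) hθ']
  have hA₀' : Acts p L C' ν R₀ :=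
    ⟨hA₀.le, hA₀.normL, hnR, hA₀.pow, hA₀.fix, hA₀.comm⟩
  have hfixeq : fixF L C' R₀ = fixF L K R₀ := le_antisymm
    (fun x hx => ⟨hC'K hx.1, hx.2⟩) fun x hx => ⟨hC₀ hx, hx.2⟩
  have hβ' : Corr p (fixF L C' R₀) θ' β := by
    obtain ⟨β', hβ', -⟩ := (corr_all hB' hA₀').1 θ' hθ'.1 hθ'o hθ'R
    have h := Corr.trans (hθ.charOn_le hC'K) fixF_le hθ' hβ'
    rw [hfixeq] at h hβ' ⊢
    rwa [← h.unique hβ]
  -- conjugation action on `R₀` modulo `R'`
  have hn0 : (R'.subgroupOf R₀).Normal := by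
    refine (Subgroup.normal_subgroupOf_iff_le_normalizer hlt.le).2 fun r hr =>
      normalizer_of_conj_mem fun x hx => ?_
    have h := R'.mul_mem (hLR' (hA₀.comm r hr x (hlt.le hx))) hx
    simpa [mul_assoc] using h
  let N0 : Subgroup G := Subgroup.normalizer (R₀ : Set G) ⊓ Subgroup.normalizer (R' : Set G)
  let cn : N0 →* MulAut R₀ :=
    { toFun := fun g =>
        { toFun := fun r => ⟨(g : G) * r * (g : G)⁻¹,
            (Subgroup.mem_normalizer_iff.1 (Subgroup.mem_inf.1 g.2).1 _).1 r.2⟩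
          invFun := fun r => ⟨(g : G)⁻¹ * r * g,
            (Subgroup.mem_normalizer_iff''.1 (Subgroup.mem_inf.1 g.2).1 _).1 r.2⟩
          left_inv := fun r => Subtype.ext (by simp [mul_assoc])
          right_inv := fun r => Subtype.ext (by simp [mul_assoc])
          map_mul' := fun x y => Subtype.ext (by simp [mul_assoc]) }
      map_one' := MulEquiv.ext fun r => Subtype.ext (by simp)
      map_mul' := fun g h => MulEquiv.ext fun r => Subtype.ext (by simp [mul_assoc]) }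
  have hcn : ∀ g : N0, ((R'.subgroupOf R₀).map (cn g).toMonoidHom) = R'.subgroupOf R₀ := by
    intro g
    ext r
    simp only [Subgroup.mem_map, Subgroup.mem_subgroupOf]
    constructor
    · rintro ⟨x, hx, rfl⟩
      exact (Subgroup.mem_normalizer_iff.1 (Subgroup.mem_inf.1 g.2).2 _).1 hx
    · intro hr
      exact ⟨(cn g).symm r, (Subgroup.mem_normalizer_iff''.1 (Subgroup.mem_inf.1 g.2).2 _).1 hr,
        (cn g).apply_symm_apply r⟩
  let V := R₀ ⧸ R'.subgroupOf R₀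
  letI : CommGroup V :=
    { (inferInstance : Group V) with
      mul_comm := fun x y => by
        obtain ⟨x, rfl⟩ := QuotientGroup.mk_surjective x
        obtain ⟨y, rfl⟩ := QuotientGroup.mk_surjective y
        rw [← QuotientGroup.mk_mul, ← QuotientGroup.mk_mul, QuotientGroup.eq]
        show ((x : G) * y)⁻¹ * (y * x) ∈ R'
        have h := hA₀.comm (y : G)⁻¹ (R₀.inv_mem y.2) (x : G)⁻¹ (R₀.inv_mem x.2)
        exact hLR' (by simpa [mul_assoc] using h) }
  let ρ : N0 →* MulAut V :=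
    { toFun := fun g => QuotientGroup.congr _ _ (cn g) (hcn g)
      map_one' := MulEquiv.ext fun q => QuotientGroup.induction_on q fun r => by
        show ((cn 1 r : R₀) : V) = _
        rw [map_one]; rfl
      map_mul' := fun g h => MulEquiv.ext fun q => QuotientGroup.induction_on q fun r => by
        show ((cn (g * h) r : R₀) : V) = ((cn g (cn h r) : R₀) : V)
        rw [map_mul]; rfl }
  have hρ : ∀ (g : N0) (r : R₀), ρ g (r : V) = ((cn g r : R₀) : V) := fun _ _ => rfl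
  let aN : N0 := ⟨a, Subgroup.mem_inf.2 ⟨haR₀, haR'⟩⟩
  let bN : N0 := ⟨b, Subgroup.mem_inf.2 ⟨hbR₀, hbR'⟩⟩
  haveI : Nontrivial V := by
    obtain ⟨r, hr, hr'⟩ := SetLike.exists_of_lt hlt
    exact ⟨⟨((⟨r, hr⟩ : R₀) : V), 1, fun h => hr' ((QuotientGroup.eq_one_iff _).1 h :)⟩⟩
  have hcommρ : ρ aN * ρ bN = ρ bN * ρ aN := by
    refine MulEquiv.ext fun q => QuotientGroup.induction_on q fun r => ?_
    rw [MulAut.mul_apply, MulAut.mul_apply, hρ, hρ, hρ, hρ, QuotientGroup.eq]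
    show (a * (b * r * b⁻¹) * a⁻¹)⁻¹ * (b * (a * r * a⁻¹) * b⁻¹) ∈ R'
    -- the commutator of `b` and `a` centralises `R` modulo `L`
    have hc := hab.2
    have hm : a * (b * r * b⁻¹) * a⁻¹ ∈ R :=
      hR ((Subgroup.mem_normalizer_iff.1 haR₀ _).1 ((Subgroup.mem_normalizer_iff.1 hbR₀ _).1 r.2))
    have h1 := (hc.2 _ (R.inv_mem hm)).2
    exact hLR' (by simpa [mul_assoc] using h1)
  have hirr : ∀ W : Subgroup V, (∀ w ∈ W, ρ aN w ∈ W ∧ ρ bN w ∈ W) → W = ⊥ ∨ W = ⊤ := by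
    intro W hW
    set X : Subgroup G := (W.comap (QuotientGroup.mk' (R'.subgroupOf R₀))).map R₀.subtype
    have hX : X ≤ R₀ := by
      rintro _ ⟨r, -, rfl⟩; exact r.2
    have hR'X : R' ≤ X := fun x hx =>
      ⟨⟨x, hlt.le hx⟩, by
        show ((⟨x, hlt.le hx⟩ : R₀) : V) ∈ W
        rw [(QuotientGroup.eq_one_iff _).2 (show (⟨x, hlt.le hx⟩ : R₀) ∈ R'.subgroupOf R₀ from hx)]
        exact W.one_mem, rfl⟩
    have hnX : ∀ g : N0, (∀ w ∈ W, ρ g w ∈ W) → (g : G) ∈ Subgroup.normalizer (X : Set G) := by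
      refine fun g hg => normalizer_of_conj_mem ?_
      rintro _ ⟨r, hr, rfl⟩
      exact ⟨cn g r, hg _ hr, rfl⟩
    by_cases hXR : X = R₀
    · refine Or.inr (eq_top_iff.2 fun q _ => ?_)
      obtain ⟨r, rfl⟩ := QuotientGroup.mk_surjective q
      obtain ⟨r', hr', e⟩ : (r : G) ∈ X := by rw [hXR]; exact r.2
      exact (Subtype.ext e : r' = r) ▸ hr'
    · refine Or.inl (eq_bot_iff.2 fun q hq => ?_)
      obtain ⟨r, rfl⟩ := QuotientGroup.mk_surjective q
      have hmem : X ≤ R' := hR'max.le_of_ge ⟨hLR'.trans hR'X, lt_of_le_of_ne hX hXR,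
        hnX aN fun w hw => (hW w hw).1, hnX bN fun w hw => (hW w hw).2⟩ hR'X
      exact Subgroup.mem_bot.2 ((QuotientGroup.eq_one_iff r).2 (hmem ⟨r, hq, rfl⟩))
  obtain ⟨γ, i, j, hai, hbj⟩ := exists_gen (ρ aN) (ρ bN) hcommρ hirr
  -- Euclid's algorithm on the exponents
  rw [← hfixeq]
  have hβa : ∀ g : G, g ∈ Subgroup.normalizer (fixF L C' R₀ : Set G) → cj g θ' = θ' →
      cj g β = β := fun g hg hgθ => by
    have h := hβ'.cj hg
    rw [hgθ] at h
    exact h.unique hβ'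
  let Q : G → ℕ → Prop := fun g k => ∃ hg : g ∈ N0, ρ ⟨g, hg⟩ = γ ^ k
  -- the invariant hypotheses of the reduction
  let Cl : Subgroup G := Subgroup.closure ({a, b} : Set G)
  let P : G → Prop := fun g => g ∈ Cl ∧ g ∈ Subgroup.normalizer (R₀ : Set G) ∧
    g ∈ Subgroup.normalizer (R' : Set G) ∧ cj g θ' = θ' ∧ Good p L C' (fixF L K R) ν g
  have hP : ∀ g ∈ Cl, P g := by
    intro g hg
    let S : Subgroup G :=
      { carrier := {g | g ∈ Subgroup.normalizer (R₀ : Set G) ∧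
          g ∈ Subgroup.normalizer (R' : Set G) ∧ cj g θ' = θ'}
        one_mem' := ⟨Subgroup.one_mem _, Subgroup.one_mem _, cj_one θ'⟩
        mul_mem' := fun {x y} hx hy => ⟨Subgroup.mul_mem _ hx.1 hy.1,
          Subgroup.mul_mem _ hx.2.1 hy.2.1, by rw [← cj_cj, hx.2.2, hy.2.2]⟩
        inv_mem' := fun {x} hx => ⟨Subgroup.inv_mem _ hx.1, Subgroup.inv_mem _ hx.2.1, by
          conv_lhs => rw [← hx.2.2]
          rw [cj_cj, mul_inv_cancel, cj_one]⟩ }
    have hS : Cl ≤ S := (Subgroup.closure_le _).2 (by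
      rintro z (rfl | rfl)
      exacts [⟨haR₀, haR', haθ'⟩, ⟨hbR₀, hbR', hbθ'⟩])
    obtain ⟨h1, h2, h3⟩ := hS hg
    exact ⟨hg, h1, h2, h3, (hgood g hg).mono (hA'.le_fixF hB) hC'K
      (norm_fixF_of (hgood g hg).normL (hgood g hg).normK h2)⟩
  have main : ∀ m : ℕ, ∀ (x y : G) (i j : ℕ), i + j = m → P x → P y →
      x ∈ cmod (fixF L C' R₀) y → Q x i → Q y j →
      phi C' θ' x y = phi (fixF L C' R₀) β x y := by
    intro m
    induction m using Nat.strong_induction_on with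
    | _ m ihm =>
    intro x y i j hij hx hy hxy hxi hyj
    have hxn : x ∈ Subgroup.normalizer (fixF L C' R₀ : Set G) :=
      norm_fixF_of hx.2.2.2.2.normL hx.2.2.2.2.normK hx.2.1
    have hyn : y ∈ Subgroup.normalizer (fixF L C' R₀ : Set G) :=
      norm_fixF_of hy.2.2.2.2.normL hy.2.2.2.2.normK hy.2.1
    have hθc := fixF_le (L := L) (E := C') (F := R₀)
    -- an element acting trivially
    have htriv : ∀ x y : G, P x → P y → x ∈ cmod (fixF L C' R₀) y → Q x 0 →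
        phi C' θ' x y = phi (fixF L C' R₀) β x y := by
      intro x y hx hy hxy hx0
      obtain ⟨hg, hx0⟩ := hx0
      obtain ⟨n, hn, hxn⟩ := hx.2.2.2.2.ord
      have htr : ∀ r ∈ R₀, x * r * x⁻¹ * r⁻¹ ∈ R' := by
        intro r hr
        have h := DFunLike.congr_fun hx0 ((⟨r, hr⟩ : R₀) : V)
        rw [hρ, pow_zero, MulAut.one_apply, QuotientGroup.eq] at h
        have h' : (x * r * x⁻¹)⁻¹ * r ∈ R' := h
        have h4 := R'.mul_mem (hLR' (hA₀.comm r hr _ (R₀.mul_mem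
          (R₀.inv_mem hr) ((Subgroup.mem_normalizer_iff.1 hx.2.1 r).1 hr)))) ((Subgroup.inv_mem_iff _).2 h')
        simpa [mul_assoc] using h4
      have hsup := exists_supplement hA hR hlt.le hLR' hx.2.2.2.2.normL hx.2.1 hn hxn htr
      have hLF : L ≤ R₀ ⊓ cmod L x := le_inf hL (le_cmod hx.2.2.2.2.normL)
      have hAF : Acts p L C' ν (R₀ ⊓ cmod L x) := hA₀'.mono hLF inf_le_left
      have hfixF : fixF L C' (R₀ ⊓ cmod L x) = fixF L C' R₀ := by
        refine le_antisymm (fun z hz => ⟨hz.1, fun r hr => ?_⟩) (fixF_anti inf_le_left)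
        have hzn : z ∈ Subgroup.normalizer (L : Set G) := hB.norm (hC'K hz.1)
        have h1 : R' ⊔ (R₀ ⊓ cmod L x) ≤ cmod L z := sup_le
          (fun r hr => mem_cmod_symm (hA'.normL hr) (hz.1.2 r hr))
          (fun r hr => mem_cmod_symm (hAF.normL hr) (hz.2 r hr))
        exact mem_cmod_symm hzn (h1 (hsup hr))
      rw [← hfixF] at hxy ⊢
      refine pair_base hB' hAF hx.2.2.2.2 hy.2.2.2.2.normK
        (by rw [hfixF]; exact norm_fixF_of hy.2.2.2.2.normL hy.2.2.2.2.normK hy.2.1)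
        (fun r hr => mem_cmod_symm hx.2.2.2.2.normL (Subgroup.mem_inf.1 hr).2)
        hxy hθ'.1 hθ'o hx.2.2.2.1 hy.2.2.2.1 (fun r hr => hθ'R r (Subgroup.mem_inf.1 hr).1) ?_
      rw [hfixF]
      exact hβ'
    by_cases hi : i = 0
    · exact htriv x y hx hy hxy (hi ▸ hxi)
    by_cases hj : j = 0
    · rw [phi_swap hθ'.1 (a := y), phi_swap hβ'.1 (a := y),
        htriv y x hy hx (mem_cmod_symm hyn hxy) (hj ▸ hyj)]
    obtain ⟨hgx, hxi⟩ := hxi
    obtain ⟨hgy, hyj⟩ := hyj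
    rcases le_total i j with hle | hle
    · have hz : y * x⁻¹ ∈ Cl := Cl.mul_mem hy.1 (Cl.inv_mem hx.1)
      rw [← phi_mul_inv hx.2.2.2.2.normK, ← phi_mul_inv hxn]
      refine ihm (i + (j - i)) (by omega) x (y * x⁻¹) i (j - i) rfl hx (hP _ hz) ?_ ⟨hgx, hxi⟩
        ⟨N0.mul_mem hgy (N0.inv_mem hgx), ?_⟩
      · exact mem_cmod_symm hxn ((cmod _ x).mul_mem (mem_cmod_symm hyn hxy)
          ((cmod _ x).inv_mem ⟨hxn, by simp⟩))
      · rw [show (⟨y * x⁻¹, _⟩ : N0) = ⟨y, hgy⟩ * ⟨x, hgx⟩⁻¹ from rfl, map_mul, map_inv, hxi, hyj,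
          ← pow_sub γ hle]
    · have hz : x * y⁻¹ ∈ Cl := Cl.mul_mem hx.1 (Cl.inv_mem hy.1)
      rw [phi_swap hθ'.1 (a := y), phi_swap hβ'.1 (a := y), ← phi_mul_inv hy.2.2.2.2.normK,
        ← phi_mul_inv hyn, ← phi_swap hθ'.1, ← phi_swap hβ'.1]
      refine ihm ((i - j) + j) (by omega) (x * y⁻¹) y (i - j) j rfl (hP _ hz) hy ?_
        ⟨N0.mul_mem hgx (N0.inv_mem hgy), ?_⟩ ⟨hgy, hyj⟩
      · exact (cmod _ y).mul_mem hxy ((cmod _ y).inv_mem ⟨hyn, by simp⟩)
      · rw [show (⟨x * y⁻¹, _⟩ : N0) = ⟨x, hgx⟩ * ⟨y, hgy⟩⁻¹ from rfl, map_mul, map_inv, hxi, hyj,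
          ← pow_sub γ hle]
  exact main (i + j) a b i j rfl (hP a (Subgroup.subset_closure (by simp)))
    (hP b (Subgroup.subset_closure (by simp)))
    ⟨norm_fixF_of ha.normL ((hgood a (Subgroup.subset_closure (by simp))).mono (hA'.le_fixF hB)
      hC'K haC').normK haR₀, by
      rw [hfixeq]
      exact hC₁ hab.2⟩
    ⟨aN.2, hai⟩ ⟨bN.2, hbj⟩

end Cfsg.Agent.Rel80
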