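import Cfsg.Agent.Lib.Rel80Descent
import Cfsg.Prelude.Def_Local

/-!
The relative count for `p`-solvable groups.
-/

set_option autoImplicit false

namespace Cfsg.Agent.Rel80

open Cfsg

universe u

variable {G : Type u} [Group G] [Fintype G]

theorem le_normalizer_sup {A B X : Subgroup G} (hA : X ≤ Subgroup.normalizer (A : Set G))
    (hB : X ≤ Subgroup.normalizer (B : Set G)) :
    X ≤ Subgroup.normalizer ((A ⊔ B : Subgroup G) : Set G) := by
  intro x hx
  refine normalizer_of_conj_mem fun y hy => ?_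
  have h : (A ⊔ B).map (MulAut.conj x).toMonoidHom ≤ A ⊔ B := by
    rw [Subgroup.map_sup]
    refine sup_le_sup ?_ ?_ <;> rintro _ ⟨z, hz, rfl⟩
    · exact (mem_conj_iff (hA hx) z).2 hz
    · exact (mem_conj_iff (hB hx) z).2 hz
  exact h ⟨y, hy, rfl⟩

theorem relIndex_sup {A B : Subgroup G} (hn : B ≤ Subgroup.normalizer (A : Set G)) :
    A.relIndex (A ⊔ B) = A.relIndex B := by
  have hcoe := Subgroup.coe_mul_of_right_le_normalizer_left A B hn
  rw [← relIndex_eq_of_prod (le_sup_left : A ≤ A ⊔ B) le_sup_right (fun x hx => by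
    have hx' : x ∈ (↑(A ⊔ B) : Set G) := hx
    rw [hcoe] at hx'
    exact Set.mem_mul.1 hx') rfl, Subgroup.inf_relIndex_right]

/-- A normal layer above `L` of `p`-power or prime-to-`p` order. -/
theorem exists_layer {p : ℕ} [hp : Fact p.Prime] (hG : IsPSolvable p G) {L X : Subgroup G}
    (hLX : L ≤ X) (hne : L ≠ X) (hn : X ≤ Subgroup.normalizer (L : Set G)) :
    ∃ K : Subgroup G, L < K ∧ K ≤ X ∧ X ≤ Subgroup.normalizer (K : Set G) ∧
      ((∃ m, L.relIndex K = p ^ m) ∨ ¬ p ∣ L.relIndex K) := by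
  obtain ⟨n, H, h0, hlast, hmono, hnor, hstep⟩ := hG
  by_contra hno
  have key : ∀ i, H i ⊓ X ≤ L := by
    intro i
    induction i using Fin.induction with
    | zero => rw [h0, bot_inf_eq]; exact bot_le
    | succ i ih =>
      set K := L ⊔ (H i.succ ⊓ X)
      have hBn : H i.succ ⊓ X ≤ Subgroup.normalizer (L : Set G) := inf_le_right.trans hn
      haveI := hnor i.succ
      haveI := hnor i.castSucc
      have hXn : X ≤ Subgroup.normalizer (K : Set G) :=
        le_normalizer_sup hn fun x hx => normalizer_of_conj_mem fun y hy =>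
          Subgroup.mem_inf.2 ⟨(hnor i.succ).conj_mem y (Subgroup.mem_inf.1 hy).1 x,
            X.mul_mem (X.mul_mem hx (Subgroup.mem_inf.1 hy).2) (X.inv_mem hx)⟩
      have hdvd : L.relIndex K ∣ (H i.castSucc).relIndex (H i.succ) := by
        rw [relIndex_sup hBn]
        have h1 : L.relIndex (H i.succ ⊓ X) ∣
            (H i.castSucc ⊓ (H i.succ ⊓ X)).relIndex (H i.succ ⊓ X) :=
          Subgroup.relIndex_dvd_of_le_left _ fun y hy =>
            ih (Subgroup.mem_inf.2 ⟨(Subgroup.mem_inf.1 hy).1,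
              (Subgroup.mem_inf.1 (Subgroup.mem_inf.1 hy).2).2⟩)
        rw [Subgroup.inf_relIndex_right] at h1
        refine h1.trans ?_
        rw [← Subgroup.relIndex_subgroupOf (H := H i.castSucc) (inf_le_left : H i.succ ⊓ X ≤ H i.succ)]
        exact Subgroup.relIndex_dvd_index_of_normal _ _
      refine le_sup_right.trans (le_of_eq (?_ : K = L))
      by_contra hK
      refine hno ⟨K, lt_of_le_of_ne le_sup_left (Ne.symm hK), sup_le hLX inf_le_right, hXn, ?_⟩
      rcases hstep i with ⟨m, hm⟩ | hc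
      · obtain ⟨j, -, hj⟩ := (Nat.dvd_prime_pow hp.out).1 (hm ▸ hdvd)
        exact Or.inl ⟨j, hj⟩
      · exact Or.inr fun h => (Nat.Prime.coprime_iff_not_dvd hp.out).1 hc.symm (h.trans hdvd)
  have := key (Fin.last n)
  rw [hlast, top_inf_eq] at this
  exact hne (le_antisymm hLX this)

omit [Fintype G] in
theorem le_self_normalizer {H : Subgroup G} : H ≤ Subgroup.normalizer (H : Set G) :=
  Subgroup.le_normalizer

/-- The elements of `P` of order dividing `p` and central, modulo `L`. -/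
def ops (p : ℕ) (L P : Subgroup G) (hn : P ≤ Subgroup.normalizer (L : Set G)) : Subgroup G where
  carrier := {x | x ∈ P ∧ (∀ y ∈ P, x ∈ cmod L y) ∧ x ^ p ∈ L}
  one_mem' := ⟨P.one_mem, fun y _ => (cmod L y).one_mem, by simp⟩
  mul_mem' := fun {a b} ha hb => by
    refine ⟨P.mul_mem ha.1 hb.1, fun y hy => (cmod L y).mul_mem (ha.2.1 y hy) (hb.2.1 y hy), ?_⟩
    have h := pow_mul_mem (hb.2.1 a ha.1) (hn ha.1) p
    have h' := L.mul_mem (L.mul_mem ha.2.2 hb.2.2) h
    simpa [mul_assoc] using h'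
  inv_mem' := fun {a} ha =>
    ⟨P.inv_mem ha.1, fun y hy => (cmod L y).inv_mem (ha.2.1 y hy),
      by rw [inv_pow]; exact L.inv_mem ha.2.2⟩

theorem le_ops {p : ℕ} {L P : Subgroup G} (hn : P ≤ Subgroup.normalizer (L : Set G))
    (hLP : L ≤ P) : L ≤ ops p L P hn := fun _ hx =>
  ⟨hLP hx, fun _ hy => le_cmod (hn hy) hx, L.pow_mem hx p⟩

theorem ops_ne {p : ℕ} [hp : Fact p.Prime] {L P : Subgroup G}
    (hn : P ≤ Subgroup.normalizer (L : Set G)) (hLP : L < P) {k : ℕ}
    (hk : L.relIndex P = p ^ k) : L < ops p L P hn := by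
  refine lt_of_le_of_ne (le_ops hn hLP.le) fun hEq => ?_
  haveI hN : (L.subgroupOf P).Normal := (Subgroup.normal_subgroupOf_iff_le_normalizer hLP.le).2 hn
  have hcard : Nat.card (P ⧸ L.subgroupOf P) = p ^ k := by
    rw [← Subgroup.index_eq_card]; exact hk
  have hQ : IsPGroup p (P ⧸ L.subgroupOf P) := IsPGroup.of_card hcard
  haveI : Nontrivial (P ⧸ L.subgroupOf P) := by
    rw [← Finite.one_lt_card_iff_nontrivial, hcard]
    refine Nat.one_lt_pow (fun h => ?_) hp.out.one_lt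
    rw [h, pow_zero] at hk
    exact hLP.not_ge (Subgroup.relIndex_eq_one.1 hk)
  haveI := hQ.center_nontrivial
  have hdvd : p ∣ Nat.card (Subgroup.center (P ⧸ L.subgroupOf P)) := by
    obtain ⟨j, hj⟩ := IsPGroup.iff_card.1 (hQ.to_subgroup (Subgroup.center (P ⧸ L.subgroupOf P)))
    rw [hj]
    refine dvd_pow_self p fun h => ?_
    have h1 := Finite.one_lt_card (α := Subgroup.center (P ⧸ L.subgroupOf P))
    rw [hj, h, pow_zero] at h1
    exact lt_irrefl _ h1
  obtain ⟨⟨z, hz⟩, hord⟩ := exists_prime_orderOf_dvd_card' p hdvd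
  rw [Subgroup.orderOf_mk] at hord
  obtain ⟨y, rfl⟩ := QuotientGroup.mk'_surjective (L.subgroupOf P) z
  let q := QuotientGroup.mk' (L.subgroupOf P)
  have hy : (y : G) ∈ ops p L P hn := by
    refine ⟨y.2, fun t ht => ⟨hn y.2, ?_⟩, ?_⟩
    · have h1 : q (⟨t, ht⟩ * y * ⟨t, ht⟩⁻¹ * y⁻¹) = 1 := by
        rw [map_mul, map_mul, map_mul, map_inv, map_inv, (Subgroup.mem_center_iff.1 hz (q ⟨t, ht⟩))]
        simp [q, mul_assoc]
      have h2 := (QuotientGroup.eq_one_iff (N := L.subgroupOf P)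
        ((⟨t, ht⟩ : P) * y * (⟨t, ht⟩ : P)⁻¹ * y⁻¹)).1 h1
      exact h2
    · have h1 : q (y ^ p) = 1 := by rw [map_pow, ← hord]; exact pow_orderOf_eq_one _
      have h2 := (QuotientGroup.eq_one_iff (N := L.subgroupOf P) (y ^ p)).1 h1
      exact h2
  rw [← hEq] at hy
  have h2 : q y = 1 := (QuotientGroup.eq_one_iff y).2 hy
  rw [show QuotientGroup.mk' (L.subgroupOf P) y = 1 from h2, orderOf_one] at hord
  exact hp.out.ne_one hord.symm

theorem ops_le {p : ℕ} {L P : Subgroup G} (hn : P ≤ Subgroup.normalizer (L : Set G)) :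
    ops p L P hn ≤ P := fun _ h => h.1

theorem normalizer_le_ops {p : ℕ} {L P X : Subgroup G} (hn : P ≤ Subgroup.normalizer (L : Set G))
    (hX : X ≤ Subgroup.normalizer (L : Set G)) (hXP : X ≤ Subgroup.normalizer (P : Set G)) :
    X ≤ Subgroup.normalizer (ops p L P hn : Set G) := fun g hg => normalizer_of_conj_mem fun x hx => by
  refine ⟨(mem_conj_iff (hXP hg) x).2 hx.1, fun y hy => ⟨hn ((mem_conj_iff (hXP hg) x).2 hx.1), ?_⟩, ?_⟩
  · have hy' : g⁻¹ * y * g ∈ P := (mem_conj_iff (hXP hg) _).1 (by simpa [mul_assoc] using hy)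
    have h := (mem_conj_iff (hX hg) _).2 (hx.2.1 _ hy').2
    simpa [mul_assoc] using h
  · have h : (g * x * g⁻¹) ^ p = g * x ^ p * g⁻¹ := conj_pow
    rw [h]
    exact (mem_conj_iff (hX hg) _).2 hx.2.2

variable {p : ℕ} [hp : Fact p.Prime]

/-- No characters are counted if `p` divides the degree of `ν`. -/
theorem cnt_zero {X L : Subgroup G} (hLX : L ≤ X) (hn : X ≤ Subgroup.normalizer (L : Set G))
    {ν : G → ℂ} (hν : IrrOn L ν) (hd : p ∣ charDegree ν) : cnt p X L ν = 0 := by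
  refine Nat.card_eq_zero.2 (Or.inl ⟨fun χ => ?_⟩)
  obtain ⟨m, -, hm⟩ := exists_degree_over hLX hn χ.1.2 hν χ.2.2
  exact χ.2.1 (hm ▸ dvd_mul_of_dvd_left hd m)

/-- Frattini argument. -/
theorem frattini {L K P X : Subgroup G} (hnL : X ≤ Subgroup.normalizer (L : Set G))
    (hnK : X ≤ Subgroup.normalizer (K : Set G))
    (hnM : X ≤ Subgroup.normalizer ((K ⊔ P : Subgroup G) : Set G)) (hKX : K ≤ X) (hPX : P ≤ X)
    (hLP : L ≤ P) {k : ℕ} (hk : L.relIndex P = p ^ k) (hc : ¬ p ∣ P.relIndex X) :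
    ∀ x ∈ X, ∃ t ∈ K, ∃ g ∈ X ⊓ Subgroup.normalizer (P : Set G), t * g = x := by
  intro x hx
  set M := K ⊔ P
  have hMX : M ≤ X := sup_le hKX hPX
  let c := (MulAut.conj x).toMonoidHom
  have hcinj : Function.Injective c := (MulAut.conj x).injective
  have hfix : ∀ A : Subgroup G, x ∈ Subgroup.normalizer (A : Set G) → A.map c = A := by
    intro A hA
    ext y
    rw [Subgroup.mem_map]
    constructor
    · rintro ⟨z, hz, rfl⟩
      exact (mem_conj_iff hA z).2 hz
    · intro hy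
      refine ⟨x⁻¹ * y * x, (mem_conj_iff hA _).1 (by simpa [mul_assoc] using hy), ?_⟩
      show x * _ * x⁻¹ = y
      group
  have hcP : ¬ p ∣ P.relIndex M := fun h => hc
    (h.trans (Subgroup.relIndex_mul_relIndex P M X le_sup_right hMX ▸ dvd_mul_right _ _))
  have hk1 : L.relIndex (P.map c) = p ^ k := by
    conv_lhs => rw [← hfix L (hnL hx)]
    rw [Subgroup.relIndex_map_map_of_injective _ _ hcinj, hk]
  have hc1 : ¬ p ∣ (P.map c).relIndex M := by
    conv => arg 1; arg 2; rw [← hfix M (hnM hx)]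
    rw [Subgroup.relIndex_map_map_of_injective _ _ hcinj]
    exact hcP
  obtain ⟨s, hs, hconj⟩ := conj_over (hMX.trans hnL) (hfix L (hnL hx) ▸ Subgroup.map_mono hLP)
    ((Subgroup.map_mono le_sup_right).trans (hfix M (hnM hx)).le) hk1 hc1 hLP le_sup_right hk hcP
  have hsx : s * x ∈ Subgroup.normalizer (P : Set G) := Subgroup.mem_normalizer_iff.2 fun y => by
    rw [show s * x * y * (s * x)⁻¹ = s * (x * y * x⁻¹) * s⁻¹ by group, ← hconj, Subgroup.mem_map]
    exact ⟨fun h => ⟨y, h, rfl⟩, fun ⟨z, hz, e⟩ =>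
      (mul_left_cancel (mul_right_cancel e) : z = y) ▸ hz⟩
  have hs' : s⁻¹ ∈ (↑(K ⊔ P) : Set G) := M.inv_mem hs
  rw [Subgroup.coe_mul_of_right_le_normalizer_left K P (hPX.trans hnK)] at hs'
  obtain ⟨t, ht, q, hq, e⟩ := Set.mem_mul.1 hs'
  refine ⟨t, ht, q * (s * x), Subgroup.mem_inf.2 ⟨X.mul_mem (hPX hq) (X.mul_mem (hMX hs) hx),
    Subgroup.mul_mem _ (le_self_normalizer hq) hsx⟩, ?_⟩
  rw [← mul_assoc, e, inv_mul_cancel_left]

/-- The relative count. -/
theorem reduce (hG : IsPSolvable p G) :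
    ∀ (n : ℕ) (X L P : Subgroup G) (ν : G → ℂ), L.relIndex X = n → L ≤ P → P ≤ X →
      X ≤ Subgroup.normalizer (L : Set G) → (∃ k, L.relIndex P = p ^ k) → ¬ p ∣ P.relIndex X →
      IrrOn L ν → (∀ x ∈ P, cj x ν = ν) →
      cnt p X L ν = cnt p (X ⊓ Subgroup.normalizer (P : Set G)) L ν := by
  intro n
  induction n using Nat.strong_induction_on with
  | _ n ih =>
  intro X L P ν hn hLP hPX hnL hk hc hν hPν
  subst hn
  obtain ⟨k, hk⟩ := hk
  have hLX : L ≤ X := hLP.trans hPX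
  set N := X ⊓ Subgroup.normalizer (P : Set G)
  have hPN : P ≤ N := le_inf hPX le_self_normalizer
  have hcsub : ∀ Y : Subgroup G, P ≤ Y → Y ≤ X → ¬ p ∣ P.relIndex Y := fun Y hPY hYX h =>
    hc (h.trans (Subgroup.relIndex_mul_relIndex P Y X hPY hYX ▸ dvd_mul_right _ _))
  by_cases hdeg : p ∣ charDegree ν
  · rw [cnt_zero hLX hnL hν hdeg, cnt_zero (hLP.trans hPN) (inf_le_left.trans hnL) hν hdeg]
  -- smaller overgroups are covered by induction
  have IHY : ∀ Y : Subgroup G, P ≤ Y → Y < X →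
      cnt p Y L ν = cnt p (Y ⊓ Subgroup.normalizer (P : Set G)) L ν := fun Y hPY hYX =>
    ih _ (relIndex_lt (hLP.trans hPY) hYX) Y L P ν rfl hLP hPY (hYX.le.trans hnL) ⟨k, hk⟩
      (hcsub Y hPY hYX.le) hν hPν
  by_cases hinv : ∀ x ∈ X, cj x ν = ν
  swap
  · set T := X ⊓ stab ν
    have hPT : P ≤ T := le_inf hPX hPν
    have hTX : T < X := lt_of_le_of_ne inf_le_left fun e => hinv fun x hx =>
      (Subgroup.mem_inf.1 (show x ∈ T by rw [e]; exact hx)).2
    have hcT : ∀ Y : Subgroup G, P ≤ Y → Y ≤ X → ¬ p ∣ (Y ⊓ stab ν).relIndex Y :=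
      fun Y hPY hYX h => hcsub Y hPY hYX (h.trans
        (Subgroup.relIndex_dvd_of_le_left Y (le_inf hPY hPν)))
    rw [cnt_stab hLX hnL hν (hcT X hPX le_rfl), IHY T hPT hTX,
      cnt_stab (hLP.trans hPN) (inf_le_left.trans hnL) hν (hcT N hPN inf_le_left), inf_right_comm]
  -- descent through a normal subgroup
  have D : ∀ Q : Subgroup G, L < Q → Q ≤ X → X ≤ Subgroup.normalizer (Q : Set G) →
      cnt p X L ν = cnt p (X ⊓ Subgroup.normalizer ((Q ⊔ P : Subgroup G) : Set G)) L ν := by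
    intro Q hLQ hQX hnQ
    set N' := X ⊓ Subgroup.normalizer ((Q ⊔ P : Subgroup G) : Set G)
    have hN'X : N' ≤ X := inf_le_left
    have hQN : Q ≤ N' := le_inf hQX ((le_sup_left : Q ≤ Q ⊔ P).trans le_self_normalizer)
    have hPN' : P ≤ N' := le_inf hPX ((le_sup_right : P ≤ Q ⊔ P).trans le_self_normalizer)
    have e1 := cnt_decomp (p := p) hLQ.le hQX hnL hnQ hν hinv hLP hPX hk
    have e2 := cnt_decomp (p := p) hLQ.le hQN (hN'X.trans hnL) (hN'X.trans hnQ) hν
      (fun x hx => hinv x (hN'X hx)) hLP hPN' hk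
    have e : (cnt p X L ν : ℚ) = cnt p N' L ν := by
      rw [e1, e2]
      refine Finset.sum_congr rfl fun θ hθ => ?_
      rw [mult_eq hLQ.le hQX hnQ hPX hk hc hθ]
      congr 2
      refine ih _ (relIndex_lt' hLQ hQX) X Q (Q ⊔ P) θ.1 rfl le_sup_left (sup_le hQX hPX) hnQ
        (sup_relIndex hp.out hLQ.le (hPX.trans hnQ) hk)
        (fun h => hc (h.trans (Subgroup.relIndex_dvd_of_le_left X le_sup_right))) θ.2 ?_
      exact sup_le (fun x hx => cj_of_mem θ.2 hx) (mem_Theta.1 hθ).2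
    exact_mod_cast e
  by_cases hXP : X ≤ Subgroup.normalizer (P : Set G)
  · rw [show N = X from inf_eq_left.2 hXP]
  have hLne : L ≠ X := fun e => hXP (by
    rw [le_antisymm hPX (e ▸ hLP)]; exact le_self_normalizer)
  obtain ⟨K, hLK, hKX, hnK, hK⟩ := exists_layer hG hLX hLne hnL
  have hnle : ∀ A : Subgroup G, A ≤ X → X ≤ Subgroup.normalizer (A : Set G) →
      N ≤ Subgroup.normalizer ((A ⊔ P : Subgroup G) : Set G) := fun A _ hA =>
    le_normalizer_sup (inf_le_left.trans hA) inf_le_right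
  by_cases hXM : X ≤ Subgroup.normalizer ((K ⊔ P : Subgroup G) : Set G)
  swap
  · set Y := X ⊓ Subgroup.normalizer ((K ⊔ P : Subgroup G) : Set G)
    have hYX : Y < X := lt_of_le_of_ne inf_le_left fun e => hXM (e ▸ inf_le_right)
    have hNY : N ≤ Y := le_inf inf_le_left (hnle K hKX hnK)
    rw [D K hLK hKX hnK, IHY Y (hPN.trans hNY) hYX]
    rw [show Y ⊓ Subgroup.normalizer (P : Set G) = N from
      le_antisymm (inf_le_inf_right _ inf_le_left) (le_inf hNY inf_le_right)]
  obtain ⟨j, hj⟩ := sup_relIndex hp.out hLK.le (hPX.trans hnK) hk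
  rcases hK with ⟨m, hm⟩ | hK
  · -- the layer is a `p`-group
    exfalso
    apply hXP
    have h1 : P.relIndex (K ⊔ P) ∣ p ^ (m + j) := by
      rw [pow_add, ← hm, ← hj, Subgroup.relIndex_mul_relIndex L K _ hLK.le le_sup_left]
      exact Subgroup.relIndex_dvd_of_le_left _ hLP
    have h2 : Nat.Coprime (p ^ (m + j)) (P.relIndex (K ⊔ P)) :=
      ((Nat.Prime.coprime_iff_not_dvd hp.out).2 (hcsub _ le_sup_right (sup_le hKX hPX))).pow_left _
    have h3 : P.relIndex (K ⊔ P) = 1 := Nat.eq_one_of_dvd_coprimes h2 h1 dvd_rfl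
    rwa [le_antisymm (Subgroup.relIndex_eq_one.1 h3) le_sup_right] at hXM
  -- the layer has order prime to `p`
  have hnLP : P ≤ Subgroup.normalizer (L : Set G) := hPX.trans hnL
  have hLP' : L < P := lt_of_le_of_ne hLP fun e => hXP (e ▸ hnL)
  set R := ops p L P hnLP
  have hRP : R ≤ P := ops_le hnLP
  have hNR : N ≤ Subgroup.normalizer (R : Set G) :=
    normalizer_le_ops hnLP (inf_le_left.trans hnL) inf_le_right
  by_cases hXR : X ≤ Subgroup.normalizer (R : Set G)
  · rw [D R (ops_ne hnLP hLP' hk) (hRP.trans hPX) hXR, sup_eq_right.2 hRP]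
  have hcore : Core p X L K P ν R :=
    { prime := hp
      base := { prime := hp, le := hLK.le, norm := hKX.trans hnL, irr := hν,
                inv := fun x hx => hinv x (hKX hx), cop := hK, deg := hdeg }
      leK := hKX
      normL := hnL
      normK := hnK
      inv := hinv
      leP := hPX
      LP := hLP
      pP := ⟨k, hk⟩
      normM := hXM
      copM := fun h => hc (h.trans (Subgroup.relIndex_dvd_of_le_left X le_sup_right))
      acts := { le := le_ops hnLP hLP, normL := hRP.trans hnLP,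
                normE := (hRP.trans hPX).trans hnK, pow := fun r hr => hr.2.2,
                fix := fun r hr => hinv r (hPX (hRP hr)),
                comm := fun r hr r' hr' => (hr'.2.1 r (hRP hr)).2 }
      RP := hRP
      central := fun x hx r hr => mem_cmod_symm (hnLP hx) (hr.2.1 x hx)
      gen := fun x hx => by
        obtain ⟨t, ht, g, hg, e⟩ := frattini hnL hnK hXM hKX hPX hLP hk hc x hx
        exact ⟨t, ht, g, Subgroup.mem_inf.2 ⟨(Subgroup.mem_inf.1 hg).1, hNR hg⟩, e⟩ }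
  set Y := X ⊓ Subgroup.normalizer (R : Set G)
  have hYX : Y < X := lt_of_le_of_ne inf_le_left fun e => hXR (e ▸ inf_le_right)
  have hNY : N ≤ Y := le_inf inf_le_left hNR
  rw [hcore.cnt_eq, IHY Y (hPN.trans hNY) hYX]
  rw [show Y ⊓ Subgroup.normalizer (P : Set G) = N from
    le_antisymm (inf_le_inf_right _ inf_le_left) (le_inf hNY inf_le_right)]

end Cfsg.Agent.Rel80
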