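import Cfsg.Agent.Lib.Rel80Cyclic
import Cfsg.Agent.Lib.Rel80Mult
import Cfsg.Agent.Lib.Rel80Arith

/-!
# The correspondence for one operator of order `p`

`s` normalises `L ≤ E` with `[E : L]` prime to `p`, fixes `ν`, and `s ^ p ∈ L`; the fixed points are
`E ⊓ cmod L s`. The proof compares norms on `cyc E s` and on the extension of the fixed points.
-/

set_option autoImplicit false
set_option linter.unusedSectionVars false

open scoped ComplexConjugate

namespace Cfsg.Agent.Rel80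

open Cfsg Cfsg.Agent.CharBasic

universe u

variable {G : Type u} [Group G] [Fintype G]

theorem normalizer_of_conj_mem {H : Subgroup G} {s : G} (h : ∀ x ∈ H, s * x * s⁻¹ ∈ H) :
    s ∈ Subgroup.normalizer (H : Set G) := by
  classical
  refine Subgroup.mem_normalizer_iff.2 fun x => ⟨h x, fun hx => ?_⟩
  have himg : (el H).image (fun y => s * y * s⁻¹) = el H := by
    refine Finset.eq_of_subset_of_card_le (fun y hy => ?_) ?_
    · obtain ⟨z, hz, rfl⟩ := Finset.mem_image.1 hy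
      exact mem_el.2 (h z (mem_el.1 hz))
    · rw [Finset.card_image_of_injective _ fun a b e => by simpa using e]
  have := mem_el.2 hx
  rw [← himg] at this
  obtain ⟨z, hz, e⟩ := Finset.mem_image.1 this
  have e' : z = x := by simpa using e
  exact e' ▸ mem_el.1 hz

/-- The setting over an invariant character. -/
structure Base (p : ℕ) (L E : Subgroup G) (ν : G → ℂ) : Prop where
  prime : Fact p.Prime
  le : L ≤ E
  norm : E ≤ Subgroup.normalizer (L : Set G)
  irr : IrrOn L ν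
  inv : ∀ x ∈ E, cj x ν = ν
  cop : ¬ p ∣ L.relIndex E
  deg : ¬ p ∣ charDegree ν

/-- An operator of order `p` modulo `L`. -/
structure Op (p : ℕ) (L E : Subgroup G) (ν : G → ℂ) (s : G) : Prop where
  normL : s ∈ Subgroup.normalizer (L : Set G)
  normE : s ∈ Subgroup.normalizer (E : Set G)
  pow : s ^ p ∈ L
  fix : cj s ν = ν
  nmem : s ∉ L

/-- The fixed points of `s` modulo `L`. -/
def fixp (L E : Subgroup G) (s : G) : Subgroup G := E ⊓ cmod L s

variable {p : ℕ} {L E : Subgroup G} {ν : G → ℂ} {s : G}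

theorem fixp_le : fixp L E s ≤ E := inf_le_left

theorem Base.le_fixp (hB : Base p L E ν) (hs : Op p L E ν s) : L ≤ fixp L E s :=
  le_inf hB.le (le_cmod hs.normL)

theorem Base.mono (hB : Base p L E ν) {C : Subgroup G} (hLC : L ≤ C) (hCE : C ≤ E) :
    Base p L C ν :=
  ⟨hB.prime, hLC, hCE.trans hB.norm, hB.irr, fun x hx => hB.inv x (hCE hx),
    fun h => hB.cop (h.trans ⟨_, (Subgroup.relIndex_mul_relIndex L C E hLC hCE).symm⟩), hB.deg⟩

theorem mem_of_pow_mem {H : Subgroup G} {x : G} (hxp : x ^ p ∈ H) {k : ℤ} (hk : x ^ k ∈ H)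
    (hcop : IsCoprime k (p : ℤ)) : x ∈ H := by
  obtain ⟨u, v, huv⟩ := hcop
  have h : x = (x ^ k) ^ u * (x ^ p) ^ v := by
    rw [← zpow_natCast, ← zpow_mul, ← zpow_mul, ← zpow_add, mul_comm k u, mul_comm (p : ℤ) v, huv,
      zpow_one]
  rw [h]
  exact H.mul_mem (H.zpow_mem hk _) (H.zpow_mem hxp _)

theorem Base.not_mem (hB : Base p L E ν) (hs : Op p L E ν s) : s ∉ E := fun h => by
  haveI := hB.prime
  refine hs.nmem (mem_of_pow_mem hs.pow (k := (L.relIndex E : ℤ)) ?_ ?_)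
  · rw [zpow_natCast]
    exact pow_relIndex_mem hB.le hB.norm h
  · exact_mod_cast Nat.isCoprime_iff_coprime.2
      ((Nat.Prime.coprime_iff_not_dvd hB.prime.out).2 hB.cop).symm

theorem Base.degree_not_dvd (hB : Base p L E ν) {f : G → ℂ} (hf : IrrOn E f) (ho : Over L ν f) :
    ¬ p ∣ charDegree f := by
  obtain ⟨k, hk, he⟩ := exists_degree_over hB.le hB.norm hf hB.irr ho
  rw [he, hB.prime.out.dvd_mul]
  exact not_or_intro hB.deg fun h => hB.cop (h.trans hk)

theorem Op.norm_fixp (hs : Op p L E ν s) : s ∈ Subgroup.normalizer (fixp L E s : Set G) := by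
  refine normalizer_of_conj_mem fun x hx => ?_
  obtain ⟨hxE, hxc⟩ := Subgroup.mem_inf.1 hx
  refine Subgroup.mem_inf.2 ⟨(Subgroup.mem_normalizer_iff.1 hs.normE x).1 hxE, ?_⟩
  have h := (cmod L s).mul_mem (le_cmod hs.normL hxc.2) hxc
  simpa [mul_assoc] using h

/-- Characters of the fixed points over `ν` are fixed. -/
theorem inv_fixp (hB : Base p L E ν) (hs : Op p L E ν s) {β : G → ℂ}
    (hβ : IrrOn (fixp L E s) β) (ho : Over L ν β) : cj s β = β := by
  haveI := hB.prime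
  have hB' := hB.mono (hB.le_fixp hs) fixp_le
  refine (hβ.cj hs.norm_fixp).ext hβ fun x hx => ?_
  obtain ⟨hxE, hxc⟩ := Subgroup.mem_inf.1 hx
  have hxL : x ∈ Subgroup.normalizer (L : Set G) := hB.norm hxE
  have hXC : cyc L x ≤ fixp L E s := cyc_le hB'.le hx
  have hXn : cyc L x ≤ Subgroup.normalizer (L : Set G) := cyc_le_normalizer hxL
  have hsx : s * x * s⁻¹ ∈ cyc L x := by
    have h := (cyc L x).mul_mem (le_cyc hxc.2) self_mem_cyc
    simpa [mul_assoc] using h
  show β (s * x * s⁻¹) = β x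
  rw [decomp (hβ.charOn_le hXC) hsx, decomp (hβ.charOn_le hXC) self_mem_cyc]
  refine Finset.sum_congr rfl fun γ _ => ?_
  by_cases hγ : mu (cyc L x) β γ.1 = 0
  · rw [← mu_cast (hβ.charOn_le hXC) γ.2.charOn, hγ, Nat.cast_zero, zero_mul, zero_mul]
  have hγo : Over L ν γ.1 := over_constituent le_cyc hXC hB'.norm hβ hB.irr hB'.inv ho γ.2 hγ
  obtain ⟨e, he⟩ := exists_ext hxL hB.irr (hB.inv x hxE)
  obtain ⟨l, hl, hle⟩ := exists_twist hxL he γ.2
    (hγo.inn_ne (γ.2.charOn_le le_cyc) hB.irr)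
  have hext : Ext L x ν γ.1 := ⟨γ.2, fun n hn => by
    rw [hle]; simp only [(mem_lam.1 hl).2 n hn, one_mul, he.2 n hn]⟩
  have hfix := fixed_ext hxL hB.irr hext hs.normL ⟨hxL, hxc.2⟩ hs.fix (le_cyc hs.pow)
    fun h => hB'.cop (h.trans ⟨_, (Subgroup.relIndex_mul_relIndex L (cyc L x) _ le_cyc hXC).symm⟩)
  exact congrArg (_ * ·) (congrFun hfix x)

open scoped Classical in
/-- Splitting a sum over `cyc H s` into cosets. -/
theorem sum_cyc [hp : Fact p.Prime] {H : Subgroup G} {s : G}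
    (hn : s ∈ Subgroup.normalizer (H : Set G)) (hsp : s ^ p ∈ H) (hs : s ∉ H) (F : G → ℂ) :
    ∑ x ∈ el (cyc H s), F x = ∑ i ∈ Finset.range p, ∑ h ∈ el H, F (s ^ i * h) := by
  rw [← Finset.sum_product']
  symm
  refine Finset.sum_bij (fun q _ => s ^ q.1 * q.2) (fun q hq => ?_) (fun q hq r hr e => ?_)
    (fun x hx => ?_) (fun q _ => rfl)
  · exact mem_el.2 ((cyc H s).mul_mem ((cyc H s).pow_mem self_mem_cyc _)
      (le_cyc (mem_el.1 (Finset.mem_product.1 hq).2)))
  · obtain ⟨hq1, hq2⟩ := Finset.mem_product.1 hq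
    obtain ⟨hr1, hr2⟩ := Finset.mem_product.1 hr
    rw [Finset.mem_range] at hq1 hr1
    have h1 : s ^ ((r.1 : ℤ) - q.1) = q.2 * r.2⁻¹ := by
      have := congrArg (fun z => (s ^ q.1)⁻¹ * z * r.2⁻¹) e
      simp only [inv_mul_cancel_left, mul_inv_cancel_right, mul_assoc] at this
      rw [zpow_sub, zpow_natCast, zpow_natCast, (Commute.pow_pow_self s q.1 r.1).inv_left.eq.symm]
      simpa [mul_assoc] using this.symm
    have h2 : s ^ ((r.1 : ℤ) - q.1) ∈ H := h1 ▸ H.mul_mem (mem_el.1 hq2) (H.inv_mem (mem_el.1 hr2))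
    have h3 : q.1 = r.1 := by
      by_contra hne
      refine hs (mem_of_pow_mem hsp h2 (Int.isCoprime_iff_nat_coprime.2 ?_))
      rw [Int.natAbs_natCast]
      refine ((Nat.Prime.coprime_iff_not_dvd hp.out).2 fun hd => ?_).symm
      have := Nat.le_of_dvd (by omega) hd
      omega
    exact Prod.ext h3 (by simpa [h3] using e)
  · obtain ⟨n, hn', i, rfl⟩ := (mem_cyc hn).1 (mem_el.1 hx)
    have hp0 : (0 : ℤ) < p := by exact_mod_cast hp.out.pos
    have hnn : 0 ≤ i % p := Int.emod_nonneg _ (by omega)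
    refine ⟨((i % p).toNat, (s ^ (i % p))⁻¹ * (n * s ^ i)), ?_, ?_⟩
    · refine Finset.mem_product.2 ⟨Finset.mem_range.2 ?_, mem_el.2 ?_⟩
      · have := Int.emod_lt_of_pos i hp0; omega
      · have e : (s ^ (i % p))⁻¹ * (n * s ^ i) =
            ((s ^ (i % p))⁻¹ * n * (s ^ (i % p))⁻¹⁻¹) * (s ^ (p : ℤ)) ^ (i / p) := by
          rw [inv_inv, ← zpow_mul, mul_assoc _ n, mul_assoc, mul_assoc n, ← zpow_add,
            Int.emod_add_mul_ediv]
        rw [e]
        exact H.mul_mem ((mem_conj_iff (Subgroup.inv_mem _ (Subgroup.zpow_mem _ hn _)) n).2 hn')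
          (H.zpow_mem (by rwa [zpow_natCast]) _)
    · simp only [← zpow_natCast, Int.toNat_of_nonneg hnn, mul_inv_cancel_left]

theorem cmod_le_of_pow (hs : Op p L E ν s) [hp : Fact p.Prime] {i : ℕ} (hi : ¬ p ∣ i) :
    cmod L (s ^ i) ≤ cmod L s := by
  intro x hx
  have h1 : s ^ i ∈ cmod L x := mem_cmod_symm (Subgroup.pow_mem _ hs.normL i) hx
  have h2 : s ^ p ∈ cmod L x := le_cmod hx.1 hs.pow
  refine mem_cmod_symm hx.1 (mem_of_pow_mem h2 (k := (i : ℤ)) (by rwa [zpow_natCast]) ?_)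
  exact_mod_cast Nat.isCoprime_iff_coprime.2 ((Nat.Prime.coprime_iff_not_dvd hp.out).2 hi).symm

theorem pow_mul_mem {t c : G} (htc : c ∈ cmod L t) (ht : t ∈ Subgroup.normalizer (L : Set G))
    (k : ℕ) : (t ^ k * c ^ k)⁻¹ * (t * c) ^ k ∈ L := by
  induction k with
  | zero => simp
  | succ k ih =>
    -- `c` moves past powers of `t` modulo `L`
    have h1 : t ∈ cmod L (c ^ k) :=
      mem_cmod_symm ht ((cmod L t).pow_mem htc k)
    have hn : (t * c) ∈ Subgroup.normalizer (L : Set G) := Subgroup.mul_mem _ ht htc.1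
    have h2 := (mem_conj_iff (Subgroup.inv_mem _ hn) _).2 ih
    have hck : (c ^ k * t * (c ^ k)⁻¹ * t⁻¹) ∈ L := h1.2
    have h3 := L.mul_mem ((mem_conj_iff (Subgroup.inv_mem _
      (Subgroup.mul_mem _ ht (Subgroup.pow_mem _ htc.1 (k + 1)))) _).2 hck) (L.one_mem)
    have e : (t ^ (k + 1) * c ^ (k + 1))⁻¹ * (t * c) ^ (k + 1) =
        ((t * c ^ (k + 1))⁻¹ * (c ^ k * t * (c ^ k)⁻¹ * t⁻¹) * (t * c ^ (k + 1))⁻¹⁻¹ * 1) *
          ((t * c)⁻¹ * ((t ^ k * c ^ k)⁻¹ * (t * c) ^ k) * (t * c)⁻¹⁻¹) := by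
      rw [pow_succ t, pow_succ c, pow_succ (t * c)]
      group
    rw [e]
    exact L.mul_mem h3 h2

open scoped Classical in
/-- Every element of a coset `t * E` is conjugate into `t * C` modulo `L`. -/
theorem sum_coset_fixp (hB : Base p L E ν) (hs : Op p L E ν s) {i : ℕ} (hi : ¬ p ∣ i) (F : G → ℂ)
    (hF : ∀ x ∈ E, ∀ c ∈ fixp L E s, F (x * (s ^ i * c) * x⁻¹) = F (s ^ i * c)) :
    (Nat.card (fixp L E s) : ℂ) * ∑ e ∈ el E, F (s ^ i * e) =
      (Nat.card E : ℂ) * ∑ c ∈ el (fixp L E s), F (s ^ i * c) := by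
  haveI := hB.prime
  set C := fixp L E s with hC
  set t := s ^ i with ht
  have htL : t ∈ Subgroup.normalizer (L : Set G) := Subgroup.pow_mem _ hs.normL i
  have htE : t ∈ Subgroup.normalizer (E : Set G) := Subgroup.pow_mem _ hs.normE i
  have hct : ∀ c ∈ C, c ∈ cmod L t := fun c hc => by
    have h := mem_cmod_symm hs.normL (Subgroup.mem_inf.1 hc).2
    exact mem_cmod_symm (hB.norm (fixp_le hc)) ((cmod L c).pow_mem h i)
  let φ : G × G → G := fun q => t⁻¹ * (q.1 * (t * q.2) * q.1⁻¹)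
  have hmaps : ∀ q ∈ el E ×ˢ el C, φ q ∈ el E := fun q hq => by
    obtain ⟨h1, h2⟩ := Finset.mem_product.1 hq
    have h3 := E.mul_mem (E.mul_mem ((mem_conj_iff (Subgroup.inv_mem _ htE) _).2 (mem_el.1 h1))
      (fixp_le (mem_el.1 h2))) (E.inv_mem (mem_el.1 h1))
    exact mem_el.2 (by simpa [φ, mul_assoc] using h3)
  -- two preimages differ by an element of `C`
  obtain ⟨k, hk1, hk2⟩ := Nat.chineseRemainder
    ((Nat.Prime.coprime_iff_not_dvd hB.prime.out).2 (hB.mono (hB.le_fixp hs) fixp_le).cop) 1 0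
  have hkey : ∀ z ∈ E, ∀ c ∈ C, ∀ c' ∈ C, z * (t * c) * z⁻¹ = t * c' → z ∈ C := by
    intro z hz c hc c' hc' e
    have hk : ∀ c ∈ C, ∃ l ∈ L, (t * c) ^ k = t * l := fun c hc => by
      have h1 := pow_mul_mem (hct c hc) htL k
      have h2 : c ^ k ∈ L := by
        obtain ⟨m, hm⟩ := Nat.modEq_zero_iff_dvd.1 hk2
        rw [hm, pow_mul]
        exact L.pow_mem (pow_relIndex_mem (hB.le_fixp hs) (fixp_le.trans hB.norm) hc) m
      have h3 : t⁻¹ * t ^ k ∈ L := by
        rcases Nat.eq_zero_or_pos k with rfl | hk0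
        · exact absurd ((Nat.modEq_iff_dvd' (Nat.zero_le 1)).1 hk1)
            (by simpa using hB.prime.out.ne_one)
        obtain ⟨m, hm⟩ := (Nat.modEq_iff_dvd' hk0).1 hk1.symm
        have : t ^ k = t * ((s ^ p) ^ i) ^ m := by
          rw [show k = p * m + 1 by omega, pow_succ', ← pow_mul, ← pow_mul s p, mul_comm p i,
            pow_mul, pow_mul t, ht, ← pow_mul s i p]
        rw [this, inv_mul_cancel_left]
        exact L.pow_mem (L.pow_mem hs.pow _) _
      exact ⟨(t⁻¹ * t ^ k) * c ^ k * ((t ^ k * c ^ k)⁻¹ * (t * c) ^ k),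
        L.mul_mem (L.mul_mem h3 h2) h1, by simp [mul_assoc]⟩
    obtain ⟨l, hl, el1⟩ := hk c hc
    obtain ⟨l', hl', el2⟩ := hk c' hc'
    have e1 : z * (t * l) * z⁻¹ = t * l' := by rw [← el1, ← el2, ← e, conj_pow]
    have hzt : t⁻¹ * z * t * z⁻¹ ∈ L := by
      have h1 : t⁻¹ * z * t * z⁻¹ = l' * (z * l⁻¹ * z⁻¹) := by
        have := congrArg (fun w => t⁻¹ * w * (z * l⁻¹ * z⁻¹)) e1
        simpa [mul_assoc] using this
      rw [h1]
      exact L.mul_mem hl' ((mem_conj_iff (hB.norm hz) _).2 (L.inv_mem hl))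
    refine Subgroup.mem_inf.2 ⟨hz, cmod_le_of_pow hs hi ?_⟩
    have h2 := (mem_conj_iff htL _).2 (L.inv_mem hzt)
    exact ⟨hB.norm hz, by simpa [t, mul_assoc] using h2⟩
  have hfib : ∀ y ∈ (el E ×ˢ el C).image φ,
      ((el E ×ˢ el C).filter fun q => φ q = y).card = (el C).card := by
    intro y hy
    obtain ⟨⟨x₀, c₀⟩, hq₀, rfl⟩ := Finset.mem_image.1 hy
    obtain ⟨hx₀, hc₀⟩ := Finset.mem_product.1 hq₀
    refine Finset.card_bij' (fun q _ => x₀⁻¹ * q.1)
      (fun z _ => (x₀ * z, t⁻¹ * (z⁻¹ * (t * c₀) * z))) ?_ ?_ ?_ ?_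
    · intro q hq
      obtain ⟨hq1, hq2⟩ := Finset.mem_filter.1 hq
      obtain ⟨h1, h2⟩ := Finset.mem_product.1 hq1
      refine mem_el.2 (hkey _ (E.mul_mem (E.inv_mem (mem_el.1 hx₀)) (mem_el.1 h1)) q.2
        (mem_el.1 h2) c₀ (mem_el.1 hc₀) ?_)
      have := congrArg (fun w => x₀⁻¹ * (t * w) * x₀) hq2
      simpa [φ, mul_assoc] using this
    · intro z hz
      rw [mem_el] at hz hc₀
      refine Finset.mem_filter.2 ⟨Finset.mem_product.2
        ⟨mem_el.2 (E.mul_mem (mem_el.1 hx₀) (fixp_le hz)), mem_el.2 ?_⟩, by simp [φ, mul_assoc]⟩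
      have h1 : t⁻¹ * (z⁻¹ * t * z * t⁻¹) * t ∈ L := by
        have h0 : z⁻¹ * t * z * t⁻¹ ∈ L := by
          have := (mem_conj_iff (Subgroup.inv_mem _ (hB.norm (fixp_le hz))) _).2
            ((hct z hz).2)
          simpa [mul_assoc] using this
        simpa using (mem_conj_iff (Subgroup.inv_mem _ htL) _).2 h0
      have h2 := C.mul_mem (hB.le_fixp hs h1) (C.mul_mem (C.mul_mem (C.inv_mem hz) hc₀) hz)
      simpa [mul_assoc] using h2
    · intro q hq
      have hq2 := (Finset.mem_filter.1 hq).2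
      refine Prod.ext (by simp) ?_
      show t⁻¹ * ((x₀⁻¹ * q.1)⁻¹ * (t * c₀) * (x₀⁻¹ * q.1)) = q.2
      have := congrArg (fun w => t⁻¹ * (q.1⁻¹ * (t * w) * q.1)) hq2
      simpa [φ, mul_assoc] using this.symm
    · intro z _
      simp
  have himg : (el E ×ˢ el C).image φ = el E := by
    refine Finset.eq_of_subset_of_card_le (fun y hy => ?_) ?_
    · obtain ⟨q, hq, rfl⟩ := Finset.mem_image.1 hy
      exact hmaps q hq
    · have h := Finset.card_eq_sum_card_image φ (el E ×ˢ el C)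
      rw [Finset.card_product, Finset.sum_congr rfl hfib, Finset.sum_const, smul_eq_mul] at h
      exact (Nat.eq_of_mul_eq_mul_right (Finset.card_pos.2 ⟨1, mem_el.2 C.one_mem⟩) h).le
  calc (Nat.card C : ℂ) * ∑ e ∈ el E, F (t * e)
      = ∑ q ∈ el E ×ˢ el C, F (t * φ q) := by
        rw [← Finset.sum_fiberwise_of_maps_to (g := φ) (t := el E) hmaps, Finset.mul_sum]
        refine Finset.sum_congr rfl fun e he => ?_
        rw [Finset.sum_congr rfl (g := fun _ => F (t * e))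
          (fun q hq => by rw [(Finset.mem_filter.1 hq).2]), Finset.sum_const, nsmul_eq_mul,
          hfib e (himg.symm ▸ he), card_el]
    _ = _ := by
        rw [Finset.sum_product]
        have h : ∀ x ∈ el E, ∑ c ∈ el C, F (t * φ (x, c)) = ∑ c ∈ el C, F (t * c) :=
          fun x hx => Finset.sum_congr rfl fun c hc => by
            simp only [φ, mul_inv_cancel_left]
            exact hF x (mem_el.1 hx) c (mem_el.1 hc)
        rw [Finset.sum_congr rfl h, Finset.sum_const, nsmul_eq_mul, card_el]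

end Cfsg.Agent.Rel80
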