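import Cfsg.Agent.Lib.Rel80Mult
import Cfsg.Agent.Lib.CharGallagher

/-!
# The extensions of a character form a torsor of linear characters
-/

set_option autoImplicit false
set_option linter.unusedSectionVars false

open scoped ComplexConjugate

namespace Cfsg.Agent.Rel80

open Cfsg Cfsg.Agent.CharBasic Cfsg.Agent.CharBasicDecomp

universe u

variable {G : Type u} [Group G] [Fintype G]

/-- A linear character of `M` trivial on `K`. -/
def Lin (M K : Subgroup G) (l : G → ℂ) : Prop :=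
  IrrOn M l ∧ l 1 = 1 ∧ ∀ x ∈ K, l x = 1

theorem lin_of_hom {M K : Subgroup G} (f : M →* ℂˣ) (hf : ∀ x : M, (x : G) ∈ K → f x = 1)
    (hKM : K ≤ M) : Lin M K (lift M fun x => (f x : ℂ)) := by
  refine ⟨irrOn_lift M (isIrrCharacter_linear f), ?_, fun x hx => ?_⟩
  · exact (lift_coe M (fun x => (f x : ℂ)) 1).trans (by simp)
  · exact (lift_coe M (fun x => (f x : ℂ)) ⟨x, hKM hx⟩).trans
      (by rw [hf ⟨x, hKM hx⟩ hx, Units.val_one])

theorem lin_one {M K : Subgroup G} (hKM : K ≤ M) : Lin M K (res M fun _ => 1) := by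
  refine ⟨⟨?_, fun g hg => res_of_not_mem _ hg⟩, res_of_mem _ M.one_mem,
    fun x hx => res_of_mem _ (hKM hx)⟩
  rw [show (fun h : M => res M (fun _ => (1 : ℂ)) h) = fun _ => 1 from
    funext fun h => res_of_mem _ h.2]
  exact isIrrCharacter_one

theorem Lin.mul {M K : Subgroup G} {l m : G → ℂ} (hl : Lin M K l) (hm : Lin M K m) :
    Lin M K fun x => l x * m x :=
  ⟨hm.1.twist hl.1 hl.2.1, by simp [hl.2.1, hm.2.1],
    fun x hx => by simp [hl.2.2 x hx, hm.2.2 x hx]⟩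

theorem Lin.prod {M K : Subgroup G} (hKM : K ≤ M) {ι : Type*} (s : Finset ι) (μ : ι → G → ℂ)
    (h : ∀ i ∈ s, Lin M K (μ i)) : Lin M K (res M fun x => ∏ i ∈ s, μ i x) := by
  classical
  induction s using Finset.induction_on with
  | empty => simpa using lin_one hKM
  | insert a s has ih =>
    have h1 := (h a (Finset.mem_insert_self a s)).mul (ih fun i hi => h i (Finset.mem_insert_of_mem hi))
    refine (congrArg (Lin M K) (funext fun x => ?_)).mp h1
    by_cases hx : x ∈ M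
    · rw [res_of_mem _ hx, res_of_mem _ hx, Finset.prod_insert has]
    · rw [res_of_not_mem _ hx, res_of_not_mem _ hx, mul_zero]

theorem Lin.pow_eq_one {M K : Subgroup G} (hKM : K ≤ M)
    (hn : M ≤ Subgroup.normalizer (K : Set G)) {l : G → ℂ} (hl : Lin M K l) {x : G} (hx : x ∈ M) :
    l x ^ K.relIndex M = 1 := by
  haveI : (K.subgroupOf M).Normal := (Subgroup.normal_subgroupOf_iff_le_normalizer hKM).2 hn
  have hp : ∀ k : ℕ, l (x ^ k) = l x ^ k := by
    intro k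
    induction k with
    | zero => simpa using hl.2.1
    | succ k ih => rw [pow_succ, pow_succ, linear_mul hl.1 hl.2.1 (M.pow_mem hx k) hx, ih]
  rw [← hp]
  exact hl.2.2 _ (Subgroup.pow_index_mem (K.subgroupOf M) (⟨x, hx⟩ : M))

/-- Gallagher for the extensions of one character. -/
theorem gallagher {M K : Subgroup G} (hKM : K ≤ M) (hn : M ≤ Subgroup.normalizer (K : Set G))
    {θ ψ : G → ℂ} (hθ : IrrOn K θ) (hψ : IrrOn M ψ) (hres : ∀ x ∈ K, ψ x = θ x) :
    (∀ γ, IrrOn M γ → (∀ x ∈ K, γ x = θ x) → ∃ l, Lin M K l ∧ γ = fun x => l x * ψ x) ∧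
    ∀ l l', Lin M K l → Lin M K l' → (∀ x, l x * ψ x = l' x * ψ x) → l = l' := by
  classical
  haveI : (K.subgroupOf M).Normal := (Subgroup.normal_subgroupOf_iff_le_normalizer hKM).2 hn
  let e := Subgroup.subgroupOfEquivOfLe hKM
  have hθ' : IsIrrCharacter (K.subgroupOf M) (fun x : K.subgroupOf M => θ ((x : M) : G)) :=
    isIrrCharacter_comap e.toMonoidHom e.surjective hθ.1
  have hbij := CharGallagher.bijOn_one (K.subgroupOf M) hθ' hψ.1 fun n => hres _ n.2
  refine ⟨fun γ hγ hγres => ?_, fun l l' hl hl' h => ?_⟩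
  · have hne : classInner (fun n : K.subgroupOf M => γ ((n : M) : G))
        (fun x : K.subgroupOf M => θ ((x : M) : G)) ≠ 0 := by
      rw [show (fun n : K.subgroupOf M => γ ((n : M) : G)) =
        (fun x : K.subgroupOf M => θ ((x : M) : G)) from funext fun n => hγres _ n.2,
        CharBasicOrth.classInner_irr_self hθ']
      exact one_ne_zero
    obtain ⟨β, ⟨hβ, hβK⟩, hβeq⟩ := hbij.surjOn ⟨hγ.1, hne⟩
    have hβ1 : β 1 = 1 := by
      have h1 : β 1 * ψ ((1 : M) : G) = γ ((1 : M) : G) := congrFun hβeq 1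
      rw [OneMemClass.coe_one, hres 1 K.one_mem, hγres 1 K.one_mem] at h1
      exact mul_right_cancel₀ (apply_one_ne_zero hθ) (h1.trans (one_mul _).symm)
    refine ⟨lift M β, ⟨irrOn_lift M hβ, (lift_coe M β 1).trans hβ1, fun x hx => ?_⟩,
      funext fun x => ?_⟩
    · exact (lift_coe M β ⟨x, hKM hx⟩).trans ((hβK ⟨⟨x, hKM hx⟩, hx⟩).trans hβ1)
    · by_cases hx : x ∈ M
      · rw [show lift M β x = β ⟨x, hx⟩ from lift_coe M β ⟨x, hx⟩]
        exact (congrFun hβeq ⟨x, hx⟩).symm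
      · rw [hγ.2 x hx, hψ.2 x hx, mul_zero]
  · have hm : ∀ l : G → ℂ, Lin M K l → (fun x : M => l x) ∈
        {β : M → ℂ | IsIrrCharacter M β ∧ ∀ n : K.subgroupOf M, β n = β 1} := fun l hl =>
      ⟨hl.1.1, fun n => (hl.2.2 _ n.2).trans hl.2.1.symm⟩
    refine hl.1.ext hl'.1 fun x hx => ?_
    exact congrFun (hbij.injOn (hm l hl) (hm l' hl') (funext fun y : M => h y)) ⟨x, hx⟩

theorem sum_range_shift {α : Type*} [CommMonoid α] (f : ℕ → α) (n : ℕ) (h : f n = f 0) :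
    ∏ i ∈ Finset.range n, f (i + 1) = ∏ i ∈ Finset.range n, f i := by
  cases n with
  | zero => rfl
  | succ n => rw [Finset.prod_range_succ _ n, h, Finset.prod_range_succ']

/-- An element of finite order prime to `p` fixes one of the extensions, and this choice keeps the
fixing by every element commuting with it modulo `M`. -/
theorem exists_fixed_step {p : ℕ} [hp : Fact p.Prime] {M K : Subgroup G} (hKM : K ≤ M)
    (hn : M ≤ Subgroup.normalizer (K : Set G)) {e : ℕ} (he : K.relIndex M = p ^ e)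
    {θ ψ : G → ℂ} (hθ : IrrOn K θ) (hψ : IrrOn M ψ) (hres : ∀ x ∈ K, ψ x = θ x)
    {g : G} (hgM : g ∈ Subgroup.normalizer (M : Set G)) (hgK : g ∈ Subgroup.normalizer (K : Set G))
    (hgθ : cj g θ = θ) {n : ℕ} (hgn : g ^ n ∈ M) (hpn : ¬ p ∣ n) :
    ∃ ψ', IrrOn M ψ' ∧ (∀ x ∈ K, ψ' x = θ x) ∧ cj g ψ' = ψ' ∧
      ∀ h ∈ Subgroup.normalizer (M : Set G), h ∈ Subgroup.normalizer (K : Set G) →
        h * g * h⁻¹ * g⁻¹ ∈ M → cj h ψ = ψ → cj h ψ' = ψ' := by
  classical
  have hgi : ∀ i : ℕ, g ^ i ∈ Subgroup.normalizer (M : Set G) := fun i => Subgroup.pow_mem _ hgM i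
  have hfix : ∀ i : ℕ, ∀ x ∈ K, cj (g ^ i) ψ x = θ x := by
    intro i
    induction i with
    | zero => intro x hx; rw [pow_zero, cj_one]; exact hres x hx
    | succ i ih =>
      intro x hx
      rw [pow_succ, ← cj_cj]
      exact (ih _ ((mem_conj_iff hgK x).2 hx)).trans (congrFun hgθ x)
  obtain ⟨hgal, huniq⟩ := gallagher hKM hn hθ hψ hres
  have hsel : ∀ i : ℕ, ∃ l, Lin M K l ∧ cj (g ^ i) ψ = fun x => l x * ψ x :=
    fun i => hgal _ (hψ.cj (hgi i)) (hfix i)
  choose μ hμ hμeq using hsel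
  obtain ⟨m, -, hm⟩ := Nat.exists_mul_mod_eq_one_of_coprime (k := p ^ (e + 1)) (n := n)
    (Nat.Coprime.pow_right _ ((Nat.Prime.coprime_iff_not_dvd hp.out).2 hpn).symm)
    (Nat.one_lt_pow (Nat.succ_ne_zero e) hp.out.one_lt)
  set P : G → ℂ := res M fun x => ∏ i ∈ Finset.range n, μ i x
  set Q : G → ℂ := res M fun x => ∏ _j ∈ Finset.range m, P x
  have hP : Lin M K P := Lin.prod hKM _ μ fun i _ => hμ i
  have hQ : Lin M K Q := Lin.prod hKM _ _ fun _ _ => hP
  have hQx : ∀ x ∈ M, Q x = P x ^ m := fun x hx => by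
    simp [Q, res_of_mem _ hx]
  have hPx : ∀ x ∈ M, P x = ∏ i ∈ Finset.range n, μ i x := fun x hx => res_of_mem _ hx
  refine ⟨fun x => Q x * ψ x, hψ.twist hQ.1 hQ.2.1,
    fun x hx => by show Q x * ψ x = θ x; rw [hQ.2.2 x hx, one_mul, hres x hx], ?_, ?_⟩
  · refine (hψ.twist hQ.1 hQ.2.1).cj hgM |>.ext (hψ.twist hQ.1 hQ.2.1) fun x hx => ?_
    have hgx : g * x * g⁻¹ ∈ M := (mem_conj_iff hgM x).2 hx
    show Q (g * x * g⁻¹) * ψ (g * x * g⁻¹) = Q x * ψ x
    have h1 : ψ (g * x * g⁻¹) = μ 1 x * ψ x := by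
      have := congrFun (hμeq 1) x
      rwa [pow_one] at this
    rw [h1, ← mul_assoc]
    congr 1
    have hrec : ∀ i, μ (i + 1) x = μ i (g * x * g⁻¹) * μ 1 x := by
      intro i
      have hl : Lin M K (fun y => cj g (μ i) y * μ 1 y) :=
        Lin.mul ⟨(hμ i).1.cj hgM, by show μ i (g * 1 * g⁻¹) = 1; simp [(hμ i).2.1],
          fun y hy => (hμ i).2.2 _ ((mem_conj_iff hgK y).2 hy)⟩ (hμ 1)
      refine congrFun (huniq _ _ (hμ (i + 1)) hl fun y => ?_) x
      rw [← congrFun (hμeq (i + 1)) y, pow_succ, ← cj_cj]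
      show cj (g ^ i) ψ (g * y * g⁻¹) = _
      rw [hμeq i]
      show μ i (g * y * g⁻¹) * ψ (g * y * g⁻¹) = μ i (g * y * g⁻¹) * μ 1 y * ψ y
      have h2 := congrFun (hμeq 1) y
      rw [pow_one] at h2
      rw [show ψ (g * y * g⁻¹) = μ 1 y * ψ y from h2]; ring
    have h0 : μ n x = μ 0 x := by
      refine congrFun (huniq _ _ (hμ n) (hμ 0) fun y => ?_) x
      rw [← congrFun (hμeq n) y, ← congrFun (hμeq 0) y, pow_zero, cj_one, cj_of_mem hψ hgn]
    have h2 : (∏ i ∈ Finset.range n, μ i (g * x * g⁻¹)) * μ 1 x ^ n =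
        ∏ i ∈ Finset.range n, μ i x := by
      rw [← sum_range_shift (fun i => μ i x) n h0, Finset.prod_congr rfl fun i _ => hrec i,
        Finset.prod_mul_distrib, Finset.prod_const, Finset.card_range]
    rw [hQx x hx, hQx _ hgx, hPx x hx, hPx _ hgx, ← h2, mul_pow]
    congr 1
    have h3 : μ 1 x ^ p ^ (e + 1) = 1 := by
      rw [pow_succ, pow_mul, ← he, (hμ 1).pow_eq_one hKM hn hx, one_pow]
    rw [← pow_mul, ← Nat.mod_add_div (n * m) (p ^ (e + 1)), hm, pow_add, pow_one, pow_mul, h3,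
      one_pow, mul_one]
  · intro h hh hhK hhg hhψ
    refine (hψ.twist hQ.1 hQ.2.1).cj hh |>.ext (hψ.twist hQ.1 hQ.2.1) fun x hx => ?_
    have hhx : h * x * h⁻¹ ∈ M := (mem_conj_iff hh x).2 hx
    show Q (h * x * h⁻¹) * ψ (h * x * h⁻¹) = Q x * ψ x
    rw [show ψ (h * x * h⁻¹) = ψ x from congrFun hhψ x, hQx x hx, hQx _ hhx, hPx x hx, hPx _ hhx]
    refine congrArg (fun z => z ^ m * ψ x) (Finset.prod_congr rfl fun i _ => ?_)
    have hl : Lin M K (cj h (μ i)) → cj h (μ i) = μ i := fun hl => by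
      refine huniq _ _ hl (hμ i) fun y => ?_
      rw [← congrFun (hμeq i) y]
      show μ i (h * y * h⁻¹) * ψ y = _
      have h1 : cj h (cj (g ^ i) ψ) = cj (g ^ i) ψ := by
        have hc : g ^ i * h * (g ^ i)⁻¹ * h⁻¹ ∈ M := by
          have hg1 : ∀ k : ℕ, h * g ^ k * h⁻¹ * (g ^ k)⁻¹ ∈ M := by
            intro k
            induction k with
            | zero => simp
            | succ k ih =>
              have h' := M.mul_mem ih ((mem_conj_iff (hgi k) _).2 hhg)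
              simpa [pow_succ, mul_assoc] using h'
          simpa [mul_assoc] using M.inv_mem (hg1 i)
        have hce : g ^ i * h = g ^ i * h * (g ^ i)⁻¹ * h⁻¹ * h * g ^ i := by simp
        rw [cj_cj, hce, ← cj_cj (g ^ i) (g ^ i * h * (g ^ i)⁻¹ * h⁻¹ * h) ψ,
          ← cj_cj h (g ^ i * h * (g ^ i)⁻¹ * h⁻¹) ψ, cj_of_mem hψ hc, hhψ]
      have h2 := congrFun h1 y
      rw [hμeq i] at h2 ⊢
      refine Eq.trans ?_ h2
      show _ = μ i (h * y * h⁻¹) * ψ (h * y * h⁻¹)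
      rw [show ψ (h * y * h⁻¹) = ψ y from congrFun hhψ y]
    have hlin : Lin M K (cj h (μ i)) := by
      refine ⟨(hμ i).1.cj hh, by show μ i (h * 1 * h⁻¹) = 1; simp [(hμ i).2.1], fun y hy => ?_⟩
      exact (hμ i).2.2 _ ((mem_conj_iff hhK y).2 hy)
    exact congrFun (hl hlin) x

end Cfsg.Agent.Rel80
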