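import Cfsg.Agent.Lib.ExtraspecialNotEssential89
import Cfsg.Agent.Lib.RankTwoOdd

/-!
In a saturated fusion system on a `p`-group of rank two other than the extraspecial group of order
`p ^ 3` and exponent `p`, `p ≥ 5`, a subgroup with exactly `p ^ 2` elements of order dividing `p` is
not essential.
-/

set_option autoImplicit false

universe u

namespace Cfsg.Agent.ResistantPlane89

open Cfsg Cfsg.FusionSystem Cfsg.Agent.FusionSysBasic Cfsg.Agent.FusionSysSaturated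
  Cfsg.Agent.FusionSysAlperin Cfsg.Agent.ExtraspecialNotEssential89

variable {Ω : Type u} [Group Ω] {S : Subgroup Ω} {F : FusionSystem S} {p : ℕ}

/-- The rank bound passes to subgroups. -/
theorem rank_sub (hrk : ∀ A : Subgroup Ω, A ≤ S → Cfsg.IsElementaryAbelian p A → Nat.card A ≤ p ^ 2)
    {H : Subgroup Ω} (hH : H ≤ S) (A : Subgroup H) (hA : Cfsg.IsElementaryAbelian p A) :
    Nat.card A ≤ p ^ 2 := by
  haveI := hA.1
  have h := hrk (A.map H.subtype) ((Subgroup.map_subtype_le A).trans hH) ⟨?_, ?_⟩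
  · rwa [Subgroup.card_map_of_injective H.subtype_injective] at h
  · exact ⟨⟨fun ⟨a, a', ha', ea⟩ ⟨b, b', hb', eb⟩ => Subtype.ext (by
      show a * b = b * a
      rw [← ea, ← eb, ← map_mul, ← map_mul]
      exact congrArg H.subtype (congrArg Subtype.val (hA.1.is_comm.comm ⟨a', ha'⟩ ⟨b', hb'⟩)))⟩⟩
  · rintro _ ⟨a, ha, rfl⟩
    rw [← map_pow, hA.2 a ha, map_one]

theorem dvd_of_cast_eq_zero {n : ℤ} (h : (n : ZMod p) = 0) : (p : ℤ) ∣ n :=
  (ZMod.intCast_zmod_eq_zero_iff_dvd _ p).mp h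

theorem zpow_eq_one_of_dvd {G : Type u} [Group G] {x : G} (hx : x ^ p = 1) {n : ℤ}
    (h : (p : ℤ) ∣ n) : x ^ n = 1 := by
  obtain ⟨k, rfl⟩ := h
  rw [zpow_mul, zpow_natCast, hx, one_zpow]

theorem dvd_of_zpow_eq_one [hp : Fact p.Prime] {G : Type u} [Group G] {x : G} (hx : x ^ p = 1)
    (hx1 : x ≠ 1) {n : ℤ} (h : x ^ n = 1) : (p : ℤ) ∣ n := by
  rw [← orderOf_eq_prime hx hx1]
  exact orderOf_dvd_iff_zpow_eq_one.mpr h

/-- A `p`-power-order map multiplying an element of order `p` by a power fixes it. -/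
theorem cast_eq_one_of_iter [hp : Fact p.Prime] {G : Type u} [Group G] {x : G} (hx : x ^ p = 1)
    (hx1 : x ≠ 1) {e : ℤ} {k : ℕ} (h : x ^ (e ^ p ^ k) = x) : (e : ZMod p) = 1 := by
  have h1 : x ^ (e ^ p ^ k - 1) = 1 := by rw [zpow_sub, h, zpow_one, mul_inv_cancel]
  have h2 := (ZMod.intCast_zmod_eq_zero_iff_dvd _ p).mpr (dvd_of_zpow_eq_one hx hx1 h1)
  push_cast at h2
  rwa [ZMod.pow_card_pow, sub_eq_zero] at h2

theorem map_mem_center {G : Type u} [Group G] (φ : MulAut G) {z : G}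
    (hz : z ∈ Subgroup.center G) : φ z ∈ Subgroup.center G := by
  refine Subgroup.mem_center_iff.mpr fun y => ?_
  obtain ⟨y', rfl⟩ := φ.surjective y
  rw [← map_mul, ← map_mul, Subgroup.mem_center_iff.mp hz y']

/-- The last step: a group of order `p ^ 3` and exponent `p` which is the normalizer of a plane. -/
theorem no_cube [Finite S] [hp : Fact p.Prime] (hp5 : 5 ≤ p) (hS : IsPGroup p S)
    (hF : F.IsSaturated p)
    (hrk : ∀ A : Subgroup Ω, A ≤ S → Cfsg.IsElementaryAbelian p A → Nat.card A ≤ p ^ 2)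
    {E : Subgroup Ω} (hES : E ≤ S) (hN : F.IsCentric (normalizerIn S E))
    (hNS : normalizerIn S E < S) (hNc : Nat.card (normalizerIn S E) = p ^ 3)
    (hNexp : ∀ x ∈ normalizerIn S E, x ^ p = 1)
    {v w g : ↥(normalizerIn S E)} (hvE : (v : Ω) ∈ E) (hwE : (w : Ω) ∈ E) (hgE : (g : Ω) ∉ E)
    (hspanE : ∀ x ∈ E, ∃ i j : ℤ, x = (v : Ω) ^ i * (w : Ω) ^ j)
    (hv1 : v ≠ 1) (hw : w ∉ Subgroup.zpowers v)
    (hgen : ∀ n, ∃ a b e : ℤ, n = v ^ a * w ^ b * g ^ e)
    (hgv : Commute g v) (hvw : Commute v w) {i : ℤ} (hi : (i : ZMod p) ≠ 0)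
    (hgw : g * w * g⁻¹ = w * v ^ i)
    {θ : MulAut ↥(normalizerIn S E)} (hθ : θ ∈ F.autGroup (normalizerIn S E))
    (hθp : (orderOf θ).Coprime p) {c μ : ℤ} (hcμ : ((c * μ : ℤ) : ZMod p) = 1)
    (hord : orderOf (c : ZMod p) = p - 1)
    (hθv : θ v = v ^ c) (hθw : θ w = w ^ μ) (hθg : θ g = g ^ (c * c)) : False := by
  classical
  have hp2 : p ≠ 2 := by omega
  have hNle : normalizerIn S E ≤ S := inf_le_left
  haveI := finite_of_le hNle
  haveI := finite_autGroup (F := F) (normalizerIn S E)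
  haveI := finite_normalizerIn (S := S) (normalizerIn S E)
  haveI := finite_of_le hES
  have hexp : ∀ n : ↥(normalizerIn S E), n ^ p = 1 := fun n => Subtype.ext (hNexp n n.2)
  have hnc : ¬ ∀ x y : ↥(normalizerIn S E), x * y = y * x := by
    intro h
    have := hrk _ hNle ⟨⟨⟨h⟩⟩, hNexp⟩
    rw [hNc] at this
    have := (Nat.pow_le_pow_iff_right hp.out.one_lt).mp this
    omega
  obtain ⟨hZc, hQc, hQcomm, hQexp⟩ := OmegaAutomiser89.center_facts hNc hexp hnc
  -- powers of `c` are not congruent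
  have hc0 : (c : ZMod p) ≠ 0 := by
    intro h0
    rw [Int.cast_mul, h0, zero_mul] at hcμ
    exact zero_ne_one hcμ
  have hcpow : ∀ k : ℕ, 0 < k → k < 4 → (c : ZMod p) ^ k ≠ 1 := fun k h1 h2 h => by
    have := Nat.le_of_dvd h1 (hord ▸ orderOf_dvd_of_pow_eq_one h)
    omega
  -- the centre
  have hvZ : v ∈ Subgroup.center ↥(normalizerIn S E) := by
    rw [Subgroup.mem_center_iff]
    intro n
    obtain ⟨a, b, e, rfl⟩ := hgen n
    exact (((Commute.refl v).zpow_right a).mul_right (hvw.zpow_right b) |>.mul_right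
      (hgv.symm.zpow_right e)).eq.symm
  have hZgen : ∀ z ∈ Subgroup.center ↥(normalizerIn S E), ∃ k : ℤ, z = v ^ k := by
    intro z hz
    have htop := zpowers_eq_top_of_prime_card (G := Subgroup.center ↥(normalizerIn S E)) (p := p)
      hZc (g := ⟨v, hvZ⟩) (fun e => hv1 (congrArg Subtype.val e))
    obtain ⟨k, hk⟩ := Subgroup.mem_zpowers_iff.mp
      (htop ▸ Subgroup.mem_top (⟨z, hz⟩ : Subgroup.center ↥(normalizerIn S E)))
    exact ⟨k, by simpa using (congrArg Subtype.val hk).symm⟩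
  have hw1 : w ≠ 1 := fun h => hw (h ▸ one_mem _)
  -- independence
  have hindep : ∀ a b e : ℤ, v ^ a * w ^ b * g ^ e = 1 →
      (p : ℤ) ∣ a ∧ (p : ℤ) ∣ b ∧ (p : ℤ) ∣ e := by
    intro a b e h
    have he : (p : ℤ) ∣ e := by
      by_contra hd
      obtain ⟨x, y, hxy⟩ := (Nat.prime_iff_prime_int.mp hp.out).coprime_iff_not_dvd.mpr hd
      apply hgE
      have h1 : g ^ e = (v ^ a * w ^ b)⁻¹ := eq_inv_of_mul_eq_one_right h
      have h2 : g = ((v ^ a * w ^ b)⁻¹) ^ y := by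
        rw [← h1, ← zpow_mul]
        conv_lhs => rw [← zpow_one g, ← hxy, zpow_add, mul_comm x, zpow_mul, zpow_natCast, hexp,
          one_zpow, one_mul, mul_comm]
      rw [h2]
      simpa using E.zpow_mem (E.mul_mem (E.inv_mem (E.zpow_mem hwE b))
        (E.inv_mem (E.zpow_mem hvE a))) y
    rw [zpow_eq_one_of_dvd (hexp g) he, mul_one] at h
    have hb : (p : ℤ) ∣ b := by
      by_contra hd
      obtain ⟨x, y, hxy⟩ := (Nat.prime_iff_prime_int.mp hp.out).coprime_iff_not_dvd.mpr hd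
      apply hw
      have h1 : w ^ b = (v ^ a)⁻¹ := eq_inv_of_mul_eq_one_right h
      have h2 : w = ((v ^ a)⁻¹) ^ y := by
        rw [← h1, ← zpow_mul]
        conv_lhs => rw [← zpow_one w, ← hxy, zpow_add, mul_comm x, zpow_mul, zpow_natCast, hexp,
          one_zpow, one_mul, mul_comm]
      rw [h2]
      exact zpow_mem (inv_mem (zpow_mem (Subgroup.mem_zpowers v) a)) y
    rw [zpow_eq_one_of_dvd (hexp w) hb, mul_one] at h
    exact ⟨dvd_of_zpow_eq_one (hexp v) hv1 h, hb, he⟩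
  -- the quotient
  let Q := ↥(normalizerIn S E) ⧸ Subgroup.center ↥(normalizerIn S E)
  obtain ⟨w', hw'⟩ : ∃ q : Q, q = (w : Q) := ⟨_, rfl⟩
  obtain ⟨g', hg'⟩ : ∃ q : Q, q = (g : Q) := ⟨_, rfl⟩
  have hspanQ : ∀ q : Q, ∃ b e : ℤ, q = w' ^ b * g' ^ e := by
    intro q
    induction q using QuotientGroup.induction_on with
    | H n =>
      obtain ⟨a, b, e, rfl⟩ := hgen n
      refine ⟨b, e, ?_⟩
      rw [QuotientGroup.mk_mul, QuotientGroup.mk_mul, QuotientGroup.mk_zpow, QuotientGroup.mk_zpow,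
        QuotientGroup.mk_zpow, (QuotientGroup.eq_one_iff v).mpr hvZ, one_zpow, one_mul, hw', hg']
  have hindQ : ∀ b e : ℤ, w' ^ b * g' ^ e = 1 → (p : ℤ) ∣ b ∧ (p : ℤ) ∣ e := by
    intro b e h
    rw [hw', hg', ← QuotientGroup.mk_zpow, ← QuotientGroup.mk_zpow, ← QuotientGroup.mk_mul,
      QuotientGroup.eq_one_iff] at h
    obtain ⟨k, hk⟩ := hZgen _ h
    obtain ⟨-, h2, h3⟩ := hindep (-k) b e (by
      rw [mul_assoc, hk, ← zpow_add, neg_add_cancel, zpow_zero])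
    exact ⟨h2, h3⟩
  let ρ : ↥(F.autGroup (normalizerIn S E)) →* MulAut Q :=
    (centerQuot ↥(normalizerIn S E)).comp (F.autGroup (normalizerIn S E)).subtype
  have hρ : ∀ α (n : ↥(normalizerIn S E)), ρ α (n : Q) =
      (((α : MulAut ↥(normalizerIn S E)) n : ↥(normalizerIn S E)) : Q) := fun α n => rfl
  have hK : ∀ α, ρ α = 1 → (α : MulAut ↥(normalizerIn S E)) ∈ Inn ↥(normalizerIn S E) := by
    intro α hα
    refine OmegaAutomiser89.mem_inn_of_trivial hNc hexp hnc fun n => ?_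
    have h1 := hρ α n
    rw [hα, MulAut.one_apply, QuotientGroup.eq] at h1
    exact h1
  by_cases hns : ∀ T : Sylow p ↥(F.autGroup (normalizerIn S E)),
      ¬ (T : Subgroup ↥(F.autGroup (normalizerIn S E))).Normal
  · refine no_extraspecial hp5 hS hF hrk hN hNS le_rfl hNc hNexp (fun x hx _ => hx) hns
      fun α hα => OmegaAutomiser89.mem_inn_of_trivial hNc hexp hnc fun n => ?_
    rw [Subgroup.mem_center_iff]
    intro y
    refine Subtype.ext ?_
    have h1 := hα n n.2 y y.2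
    rw [afun_coe] at h1
    simpa using h1.eq.symm
  push Not at hns
  obtain ⟨T, hTn⟩ := hns
  haveI := hTn
  set cM := TorusAutomiser89.cN F hNle
  have hcMT : ∀ x, cM x ∈ (T : Subgroup ↥(F.autGroup (normalizerIn S E))) := by
    intro x
    have hp' : IsPGroup p cM.range := by
      have hM : IsPGroup p ↥(normalizerIn S (normalizerIn S E)) := hS.to_le inf_le_left
      exact hM.of_surjective _ cM.rangeRestrict_surjective
    exact (T.3 (hp'.to_sup_of_normal_right T.2) le_sup_right) ▸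
      Subgroup.mem_sup_left ⟨x, rfl⟩
  let θA : ↥(F.autGroup (normalizerIn S E)) := ⟨θ, hθ⟩
  have hθw' : ρ θA w' = w' ^ μ := by rw [hw', hρ, hθw, QuotientGroup.mk_zpow]
  have hθg' : ρ θA g' = g' ^ (c * c) := by rw [hg', hρ, hθg, QuotientGroup.mk_zpow]
  -- the fixed line
  let W : Subgroup Q :=
    { carrier := {q | ∀ τ ∈ (T : Subgroup ↥(F.autGroup (normalizerIn S E))), ρ τ q = q}
      one_mem' := fun τ _ => map_one _
      mul_mem' := fun {a b} ha hb τ hτ => by rw [map_mul, ha τ hτ, hb τ hτ]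
      inv_mem' := fun {a} ha τ hτ => by rw [map_inv, ha τ hτ] }
  have hWinv : ∀ q ∈ W, ρ θA q ∈ W := by
    intro q hq τ hτ
    have h1 := hq _ (hTn.conj_mem τ hτ θA⁻¹)
    rw [inv_inv, map_mul, map_mul, MulAut.mul_apply, MulAut.mul_apply] at h1
    calc ρ τ (ρ θA q) = ρ θA (ρ θA⁻¹ (ρ τ (ρ θA q))) := by
          rw [map_inv, MulAut.apply_inv_self]
      _ = ρ θA q := by rw [h1]
  obtain ⟨f, hfW, hf1⟩ : ∃ f ∈ W, f ≠ 1 := by
    letI : MulAction (T : Subgroup ↥(F.autGroup (normalizerIn S E))) Q :=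
      { smul := fun τ q => ρ (τ : ↥(F.autGroup (normalizerIn S E))) q
        one_smul := fun q => by
          show ρ ((1 : (T : Subgroup ↥(F.autGroup (normalizerIn S E)))) :
            ↥(F.autGroup (normalizerIn S E))) q = q
          simp
        mul_smul := fun x y q => by
          show ρ ((x * y : (T : Subgroup ↥(F.autGroup (normalizerIn S E)))) :
            ↥(F.autGroup (normalizerIn S E))) q =
              ρ (x : ↥(F.autGroup (normalizerIn S E))) (ρ (y : ↥(F.autGroup (normalizerIn S E))) q)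
          simp }
    obtain ⟨f, hf, hne⟩ := T.2.exists_fixed_point_of_prime_dvd_card_of_fixed_point Q
      (by rw [hQc]; exact dvd_pow_self p two_ne_zero) (a := (1 : Q)) (fun τ => map_one _)
    exact ⟨f, fun τ hτ => hf ⟨τ, hτ⟩, fun h => hne h.symm⟩
  have hexpQ : ∀ (q : Q) (a b : ℤ), (a : ZMod p) = (b : ZMod p) → q ^ a = q ^ b := fun q a b h =>
    TorusAutomiser89.pow_card_fix hQexp h
  have hroot : ∀ (q : Q) (a : ℤ), (a : ZMod p) ≠ 0 → q ^ a ∈ W → q ∈ W := by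
    intro q a ha hq
    obtain ⟨a', ha'⟩ := ZMod.intCast_surjective ((a : ZMod p)⁻¹)
    have h1 := W.zpow_mem hq a'
    rwa [← zpow_mul, hexpQ q (a * a') 1 (by push_cast; rw [ha', mul_inv_cancel₀ ha]), zpow_one]
      at h1
  obtain ⟨x, hx, hxN⟩ : ∃ x ∈ normalizerIn S (normalizerIn S E), x ∉ normalizerIn S E := by
    by_contra h
    push Not at h
    exact (normalizerIn_gt hS hNS).not_ge (Subgroup.card_le_of_le h)
  set α := cM ⟨x, hx⟩
  have hαn : ∀ n : ↥(normalizerIn S E),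
      (((α : MulAut ↥(normalizerIn S E)) n : ↥(normalizerIn S E)) : Ω) = cj x n := fun n => by
    rw [← afun_coe]
    exact TorusAutomiser89.afun_cN _ _ n.2
  have hinn_mem : ∀ y : ↥(normalizerIn S (normalizerIn S E)), ρ (cM y) = 1 →
      (y : Ω) ∈ normalizerIn S E := fun y hy =>
    mem_of_nHom_mem_inn hNle (centralizerIn_le_of_centric hN) y (hK _ hy)
  have hα1 : ρ α ≠ 1 := fun h => hxN (hinn_mem _ h)
  have hw'W : w' ∉ W := by
    intro hh
    have h1 := hh _ (hcMT ⟨x, hx⟩)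
    rw [hw', hρ, QuotientGroup.eq] at h1
    obtain ⟨k, hk⟩ := hZgen _ h1
    rw [inv_mul_eq_iff_eq_mul] at hk
    have hw2 : w = (α : MulAut ↥(normalizerIn S E)) w * v ^ k := hk
    have hv2 : ∃ l : ℤ, (α : MulAut ↥(normalizerIn S E)) v = v ^ l :=
      hZgen _ (map_mem_center _ hvZ)
    obtain ⟨l, hl⟩ := hv2
    refine hxN ⟨hx.1, mem_normalizer_of_cj_le hES fun y hy => ?_⟩
    obtain ⟨a, b, rfl⟩ := hspanE y hy
    have h2 := hαn (v ^ a * w ^ b)
    rw [map_mul, map_zpow, map_zpow, hl,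
      show (α : MulAut ↥(normalizerIn S E)) w = w * (v ^ k)⁻¹ from eq_mul_inv_of_mul_eq hw2.symm]
      at h2
    simp only [Subgroup.coe_mul, Subgroup.coe_zpow, Subgroup.coe_inv] at h2
    rw [← h2]
    exact E.mul_mem (E.zpow_mem (E.zpow_mem hvE _) _)
      (E.zpow_mem (E.mul_mem hwE (E.inv_mem (E.zpow_mem hvE _))) _)
  have hg'W : g' ∈ W := by
    obtain ⟨b, e, hbe⟩ := hspanQ f
    by_cases hb : (b : ZMod p) = 0
    · rw [zpow_eq_one_of_dvd (hQexp _) (dvd_of_cast_eq_zero hb), one_mul] at hbe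
      refine hroot _ e (fun he => hf1 ?_) (hbe ▸ hfW)
      rw [hbe, zpow_eq_one_of_dvd (hQexp _) (dvd_of_cast_eq_zero he)]
    by_cases he : (e : ZMod p) = 0
    · rw [zpow_eq_one_of_dvd (hQexp _) (dvd_of_cast_eq_zero he), mul_one] at hbe
      exact absurd (hroot _ b hb (hbe ▸ hfW)) hw'W
    refine hroot _ (e * (c * c - μ)) ?_ ?_
    · intro h
      rw [Int.cast_mul, mul_eq_zero, Int.cast_sub, Int.cast_mul, sub_eq_zero] at h
      refine hcpow 3 (by norm_num) (by norm_num) ?_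
      have h2 := h.resolve_left he
      push_cast at hcμ
      linear_combination (c : ZMod p) * h2 + hcμ
    have h1 := W.mul_mem (W.inv_mem (W.zpow_mem hfW μ)) (hWinv f hfW)
    rw [hbe, map_mul, map_zpow, map_zpow, hθw', hθg', Commute.mul_zpow (hQcomm _ _), mul_inv_rev,
      ← zpow_mul, ← zpow_mul, ← zpow_mul, ← zpow_mul, mul_comm μ b, mul_assoc, inv_mul_cancel_left,
      ← zpow_neg, ← zpow_add] at h1
    rwa [hexpQ g' (e * (c * c - μ)) (-(e * μ) + c * c * e) (by push_cast; ring)]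
  -- the shape of the Sylow subgroup
  have hshape : ∀ τ ∈ (T : Subgroup ↥(F.autGroup (normalizerIn S E))),
      ρ τ g' = g' ∧ ∃ k : ℤ, ρ τ w' = w' * g' ^ k := by
    intro τ hτ
    refine ⟨hg'W τ hτ, ?_⟩
    obtain ⟨b, e, hbe⟩ := hspanQ (ρ τ w')
    have hit : ∀ n : ℕ, ∃ e' : ℤ, ρ (τ ^ n) w' = w' ^ (b ^ n) * g' ^ e' := by
      intro n
      induction n with
      | zero => exact ⟨0, by simp⟩
      | succ n ih =>
        obtain ⟨e', he'⟩ := ih
        refine ⟨e * b ^ n + e', ?_⟩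
        rw [pow_succ', map_mul, MulAut.mul_apply, he', map_mul, map_zpow, map_zpow, hbe,
          hg'W τ hτ, Commute.mul_zpow (hQcomm _ _), ← zpow_mul, ← zpow_mul, mul_assoc, ← zpow_add,
          pow_succ']
    obtain ⟨s, hs⟩ := T.2 ⟨τ, hτ⟩
    have hs' : τ ^ p ^ s = 1 := congrArg Subtype.val hs
    obtain ⟨e', he'⟩ := hit (p ^ s)
    rw [hs', map_one, MulAut.one_apply] at he'
    have h1 : w' ^ (b ^ p ^ s - 1) * g' ^ e' = 1 := by
      rw [zpow_sub, zpow_one, mul_assoc, hQcomm (w'⁻¹), ← mul_assoc, ← he', mul_inv_cancel]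
    have h2 := (ZMod.intCast_zmod_eq_zero_iff_dvd _ p).mpr (hindQ _ _ h1).1
    push_cast at h2
    rw [ZMod.pow_card_pow, sub_eq_zero] at h2
    refine ⟨e, ?_⟩
    rw [hbe, hexpQ w' b 1 (by rw [h2, Int.cast_one]), zpow_one]
  obtain ⟨hαg, k₀, hαw⟩ := hshape _ (hcMT ⟨x, hx⟩)
  have hk₀ : (k₀ : ZMod p) ≠ 0 := by
    intro h
    apply hα1
    refine MulEquiv.ext fun q => ?_
    obtain ⟨b, e, rfl⟩ := hspanQ q
    rw [map_mul, map_zpow, map_zpow, hαg, hαw,
      zpow_eq_one_of_dvd (hQexp g') (dvd_of_cast_eq_zero h), mul_one, MulAut.one_apply]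
  have hiter : ∀ (φ : MulAut Q) (k : ℤ), φ g' = g' → φ w' = w' * g' ^ k →
      ∀ n : ℤ, (φ ^ n) g' = g' ∧ (φ ^ n) w' = w' * g' ^ (k * n) := by
    intro φ k hg hw n
    obtain ⟨h1, h2⟩ := PlaneTorus89.apply_zpow_of (φ := φ) (v := g' ^ k) (w := w') (hQcomm _ _)
      (by rw [map_zpow, hg]) hw n
    exact ⟨MulAction.mem_stabilizer_iff.mp
      (zpow_mem (show φ ∈ MulAction.stabilizer (MulAut Q) g' from hg) n), by rw [h2, ← zpow_mul]⟩
  have hext : ∀ φ ψ : MulAut Q, φ g' = ψ g' → φ w' = ψ w' → φ = ψ := fun φ ψ h1 h2 =>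
    MulEquiv.ext fun q => by
      obtain ⟨b, e, rfl⟩ := hspanQ q
      rw [map_mul, map_mul, map_zpow, map_zpow, map_zpow, map_zpow, h1, h2]
  obtain ⟨k₁, hk₁⟩ := ZMod.intCast_surjective ((k₀ : ZMod p)⁻¹)
  have hTrange : ∀ τ ∈ (T : Subgroup ↥(F.autGroup (normalizerIn S E))),
      (τ : MulAut ↥(normalizerIn S E)) ∈ autInducedBy S (normalizerIn S E) := by
    intro τ hτ
    obtain ⟨hτg, k, hτw⟩ := hshape τ hτ
    obtain ⟨h1, h2⟩ := hiter (ρ α) k₀ hαg hαw (k₁ * k)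
    have h3 : ρ ((α ^ (k₁ * k))⁻¹ * τ) = 1 := by
      rw [map_mul, map_inv, map_zpow, inv_mul_eq_one]
      refine hext _ _ (h1.trans hτg.symm) ?_
      rw [h2, hτw, hexpQ g' (k₀ * (k₁ * k)) k (by
        push_cast; rw [hk₁, ← mul_assoc, mul_inv_cancel₀ hk₀, one_mul])]
    have h4 := inn_le_autInducedBy hNle (hK _ h3)
    have h5 : (α : MulAut ↥(normalizerIn S E)) ∈ autInducedBy S (normalizerIn S E) :=
      autInducedBy_eq_range S _ ▸ ⟨_, rfl⟩
    have := mul_mem (zpow_mem h5 (k₁ * k)) h4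
    simpa using this
  -- extending the torus
  obtain ⟨θ', hθ'F, -, hθ'e⟩ := OmegaAutomiser89.exists_extend hS hF hN hθ hθp (by
    intro β hβ
    obtain ⟨y, rfl⟩ := (autInducedBy_eq_range S (normalizerIn S E)).le hβ
    exact hTrange (θA * cM y * θA⁻¹) (hTn.conj_mem _ (hcMT y) θA))
  have hθ'n : ∀ n : ↥(normalizerIn S E), afun θ' (n : Ω) = (θ n : ↥(normalizerIn S E)) := fun n => by
    rw [hθ'e _ n.2, afun_coe]
  -- an element of `L` centralizing `g` and `v`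
  obtain ⟨l, hl⟩ : ∃ l : ℤ, (α : MulAut ↥(normalizerIn S E)) g = g * v ^ l := by
    have h1 := hαg
    rw [hg', hρ, eq_comm, QuotientGroup.eq] at h1
    obtain ⟨l, hl⟩ := hZgen _ h1
    exact ⟨l, inv_mul_eq_iff_eq_mul.mp hl⟩
  have hαv : (α : MulAut ↥(normalizerIn S E)) v = v := by
    obtain ⟨e, he⟩ := hZgen ((α : MulAut ↥(normalizerIn S E)) v)
      (map_mem_center _ hvZ)
    have hit : ∀ n : ℕ, ((α ^ n : ↥(F.autGroup (normalizerIn S E))) :
        MulAut ↥(normalizerIn S E)) v = v ^ (e ^ n) := by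
      intro n
      induction n with
      | zero => simp
      | succ n ih =>
        rw [pow_succ', Subgroup.coe_mul, MulAut.mul_apply, ih, map_zpow, he, ← zpow_mul,
          pow_succ']
    obtain ⟨s, hs⟩ := T.2 ⟨α, hcMT _⟩
    have hs' : α ^ p ^ s = 1 := congrArg Subtype.val hs
    have h1 := hit (p ^ s)
    rw [hs', Subgroup.coe_one, MulAut.one_apply] at h1
    rw [he, TorusAutomiser89.pow_card_fix hexp (show (e : ZMod p) = ((1 : ℤ) : ZMod p) by
      rw [cast_eq_one_of_iter (hexp v) hv1 h1.symm, Int.cast_one]), zpow_one]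
  have hwg : w * g * w⁻¹ = g * v ^ (-i) := by
    have h1 : g * w = w * v ^ i * g := mul_inv_eq_iff_eq_mul.mp hgw
    rw [mul_assoc w (v ^ i), ← (hgv.zpow_right i).eq, ← mul_assoc] at h1
    rw [zpow_neg, mul_inv_eq_iff_eq_mul]
    calc w * g = w * g * v ^ i * (v ^ i)⁻¹ := (mul_inv_cancel_right _ _).symm
      _ = g * w * (v ^ i)⁻¹ := by rw [← h1]
      _ = g * (v ^ i)⁻¹ * w := by
        rw [mul_assoc, mul_assoc, ((hvw.zpow_left i).inv_left).eq]
  obtain ⟨r, hr⟩ : ∃ r : ℤ, ((l - i * r : ℤ) : ZMod p) = 0 := by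
    obtain ⟨i', hi'⟩ := ZMod.intCast_surjective ((i : ZMod p)⁻¹)
    refine ⟨i' * l, ?_⟩
    push_cast
    rw [hi', ← mul_assoc, mul_inv_cancel₀ hi, one_mul, sub_self]
  have hwr : w ^ r * g * (w ^ r)⁻¹ = g * v ^ (-i * r) := by
    have h1 := (PlaneTorus89.apply_zpow_of (φ := MulAut.conj w) (v := v ^ (-i)) (w := g)
      (hgv.zpow_right _) (by
        rw [MulAut.conj_apply, mul_inv_eq_iff_eq_mul]; exact (hvw.symm.zpow_right _).eq)
      hwg r).2
    rwa [← map_zpow, MulAut.conj_apply, ← zpow_mul] at h1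
  set x₁ : Ω := x * ((w ^ r : ↥(normalizerIn S E)) : Ω) with hx₁
  have hNL : normalizerIn S E ≤ normalizerIn S (normalizerIn S E) := le_normalizerIn hNle
  have hx₁L : x₁ ∈ normalizerIn S (normalizerIn S E) := mul_mem hx (hNL (w ^ r).2)
  have hx₁N : x₁ ∉ normalizerIn S E := fun h => hxN (by
    simpa [hx₁] using (normalizerIn S E).mul_mem h ((normalizerIn S E).inv_mem (w ^ r).2))
  have hx₁g : Commute x₁ (g : Ω) := by
    have h2 : (α : MulAut ↥(normalizerIn S E)) (w ^ r * g * (w ^ r)⁻¹) = g := by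
      rw [hwr, map_mul, map_zpow, hl, hαv, mul_assoc, ← zpow_add,
        zpow_eq_one_of_dvd (hexp v) (dvd_of_cast_eq_zero (n := l + -i * r) (by
          rw [← hr]; push_cast; ring)), mul_one]
    have h3 : cj x₁ (g : Ω) = g := by
      conv_rhs => rw [← h2, hαn]
      simp [hx₁, cj_apply, mul_assoc]
    exact mul_inv_eq_iff_eq_mul.mp h3
  have hx₁v : Commute x₁ (v : Ω) := by
    have h2 : (α : MulAut ↥(normalizerIn S E)) (w ^ r * v * (w ^ r)⁻¹) = v := by
      rw [(hvw.symm.zpow_left r).eq, mul_inv_cancel_right, hαv]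
    have h3 : cj x₁ (v : Ω) = v := by
      conv_rhs => rw [← h2, hαn]
      simp [hx₁, cj_apply, mul_assoc]
    exact mul_inv_eq_iff_eq_mul.mp h3
  set X₁ : ↥(normalizerIn S (normalizerIn S E)) := ⟨x₁, hx₁L⟩
  -- the action of `x₁`
  have hinnQ : ∀ n : ↥(normalizerIn S E), ρ (cM ⟨n, hNL n.2⟩) = 1 := by
    intro n
    refine MulEquiv.ext fun q => ?_
    induction q using QuotientGroup.induction_on with
    | H y =>
      rw [hρ, MulAut.one_apply,
        show ((cM ⟨n, hNL n.2⟩ : MulAut ↥(normalizerIn S E)) y : ↥(normalizerIn S E)) = n * y * n⁻¹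
          from Subtype.ext ((afun_coe _ y).symm.trans (TorusAutomiser89.afun_cN _ _ y.2)),
        QuotientGroup.mk_mul, QuotientGroup.mk_mul, QuotientGroup.mk_inv, hQcomm (n : Q),
        mul_inv_cancel_right]
  have hX₁ : ρ (cM X₁) = ρ α := by
    rw [show X₁ = ⟨x, hx⟩ * ⟨((w ^ r : ↥(normalizerIn S E)) : Ω), hNL (w ^ r).2⟩ from Subtype.ext rfl,
      map_mul, map_mul, hinnQ, mul_one]
  -- the `p`-th power
  have hY : ∀ y : ↥(normalizerIn S E), Commute y g → ∃ a e : ℤ, y = v ^ a * g ^ e := by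
    intro y hy
    obtain ⟨a, b, e, rfl⟩ := hgen y
    have hb : (p : ℤ) ∣ b := by
      have h1 : Commute (w ^ b) g := by
        have h2 := ((hgv.symm.zpow_left a).inv_left.mul_left hy).mul_left
          ((Commute.refl g).zpow_left e).inv_left
        simpa [mul_assoc] using h2
      have h3 := (PlaneTorus89.apply_zpow_of (φ := MulAut.conj w) (v := v ^ (-i)) (w := g)
        (hgv.zpow_right _) (by
          rw [MulAut.conj_apply, mul_inv_eq_iff_eq_mul]; exact (hvw.symm.zpow_right _).eq)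
        hwg b).2
      rw [← map_zpow, MulAut.conj_apply, h1.eq, mul_inv_cancel_right, left_eq_mul, ← zpow_mul] at h3
      have h4 := (ZMod.intCast_zmod_eq_zero_iff_dvd _ p).mpr (dvd_of_zpow_eq_one (hexp v) hv1 h3)
      push_cast at h4
      rw [mul_eq_zero, neg_eq_zero] at h4
      exact dvd_of_cast_eq_zero (h4.resolve_left hi)
    exact ⟨a, e, by rw [zpow_eq_one_of_dvd (hexp w) hb, mul_one]⟩
  have hpN : x₁ ^ p ∈ normalizerIn S E := by
    have h1 := hinn_mem (X₁ ^ p) (by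
      rw [map_pow, map_pow, hX₁, ← zpow_natCast]
      obtain ⟨h1, h2⟩ := hiter (ρ α) k₀ hαg hαw (p : ℤ)
      refine hext _ _ (h1.trans rfl) ?_
      rw [h2, MulAut.one_apply, zpow_eq_one_of_dvd (hQexp g') (dvd_mul_left _ _), mul_one])
    simpa using h1
  obtain ⟨a, e, hae⟩ := hY ⟨x₁ ^ p, hpN⟩ (Subtype.ext ((hx₁g.pow_left p).eq))
  have haeΩ : x₁ ^ p = (v : Ω) ^ a * (g : Ω) ^ e := by
    have := congrArg Subtype.val hae
    simpa using this
  -- its image under the torus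
  have hθ'm : Mor F (normalizerIn S (normalizerIn S E)) (afun θ') :=
    (mem_autGroup inf_le_left).mp hθ'F
  set y := afun θ' x₁ with hy
  have hyL : y ∈ normalizerIn S (normalizerIn S E) := afun_mem _ hx₁L
  have hyg : Commute y (g : Ω) := by
    have h1 : Commute y (((g ^ (c * c) : ↥(normalizerIn S E))) : Ω) := by
      rw [← hθg, ← hθ'n g, hy]
      show _ * _ = _ * _
      rw [← hθ'm.map_mul hx₁L (hNL g.2), ← hθ'm.map_mul (hNL g.2) hx₁L, hx₁g.eq]
    obtain ⟨c', hc'⟩ := ZMod.intCast_surjective (((c : ZMod p) * (c : ZMod p))⁻¹)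
    have h2 : g = (g ^ (c * c)) ^ c' := by
      rw [← zpow_mul, TorusAutomiser89.pow_card_fix hexp
        (show ((c * c * c' : ℤ) : ZMod p) = ((1 : ℤ) : ZMod p) by
          push_cast; rw [hc', mul_inv_cancel₀ (mul_ne_zero hc0 hc0)]), zpow_one]
    rw [h2, Subgroup.coe_zpow]
    exact h1.zpow_right c'
  set Y : ↥(normalizerIn S (normalizerIn S E)) := ⟨y, hyL⟩
  have hYQ : ρ (cM Y) * ρ θA = ρ θA * ρ α := by
    rw [← hX₁, ← map_mul, ← map_mul]
    congr 1
    refine Subtype.ext (MulEquiv.ext fun z => Subtype.ext ?_)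
    rw [← afun_coe, ← afun_coe, Subgroup.coe_mul, Subgroup.coe_mul, afun_mul _ _ z.2,
      afun_mul _ _ z.2, TorusAutomiser89.afun_cN _ _ (afun_mem _ z.2),
      TorusAutomiser89.afun_cN _ _ z.2]
    show cj y (afun θ (z : Ω)) = afun θ (cj x₁ (z : Ω))
    rw [← hθ'e _ z.2, ← hθ'e _ (cj_mem_of_normalizer hx₁L.2 z.2)]
    exact (hθ'm.map_cj hx₁L (hNL z.2)).symm
  have hY3 : ρ (cM Y) = ρ α ^ (c * c * c) := by
    obtain ⟨h1, h2⟩ := hiter (ρ α) k₀ hαg hαw (c * c * c)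
    have h3 := DFunLike.congr_fun hYQ g'
    have h4 := DFunLike.congr_fun hYQ w'
    simp only [MulAut.mul_apply] at h3 h4
    rw [hαg, hθg'] at h3
    rw [hαw, map_mul (ρ θA), map_zpow (ρ θA), hθg', hθw'] at h4
    have hg3 : ρ (cM Y) g' = g' := by
      obtain ⟨c', hc'⟩ := ZMod.intCast_surjective (((c : ZMod p) * (c : ZMod p))⁻¹)
      have h5 : g' = (g' ^ (c * c)) ^ c' := by
        rw [← zpow_mul, hexpQ g' (c * c * c') 1 (by
          push_cast; rw [hc', mul_inv_cancel₀ (mul_ne_zero hc0 hc0)]), zpow_one]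
      rw [h5, map_zpow, h3]
    refine hext _ _ (hg3.trans h1.symm) ?_
    have hw3 : w' = (w' ^ μ) ^ c := by
      rw [← zpow_mul, hexpQ w' (μ * c) 1 (by rw [mul_comm, hcμ, Int.cast_one]), zpow_one]
    rw [h2]
    conv_lhs => rw [hw3, map_zpow, h4, Commute.mul_zpow (hQcomm _ _), ← hw3, ← zpow_mul,
      ← zpow_mul]
    congr 1
    refine hexpQ _ _ _ ?_
    push_cast
    ring
  have hyN : (x₁ ^ (c * c * c))⁻¹ * y ∈ normalizerIn S E := by
    have h1 := hinn_mem ((X₁ ^ (c * c * c))⁻¹ * Y) (by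
      rw [map_mul, map_inv, map_zpow, map_mul, map_inv, map_zpow, hX₁, hY3, inv_mul_cancel])
    simpa using h1
  obtain ⟨a', e', hae'⟩ := hY ⟨_, hyN⟩ (Subtype.ext
    (((hx₁g.zpow_left _).inv_left).mul_left hyg).eq)
  have hyeq : y = x₁ ^ (c * c * c) * ((v : Ω) ^ a' * (g : Ω) ^ e') := by
    have := congrArg Subtype.val hae'
    simp only [Subgroup.coe_mul, Subgroup.coe_zpow] at this
    rw [← this, mul_inv_cancel_left]
  have hgvΩ : Commute (g : Ω) (v : Ω) := congrArg Subtype.val hgv.eq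
  -- compare the two computations of the image of the `p`-th power
  have hkey : v ^ (a * (c * c * c) - c * a) * g ^ (e * (c * c * c) - c * c * e) = 1 := by
    have h1 : afun θ' (x₁ ^ p) = y ^ p := by
      rw [hy, afun_apply _ hx₁L, afun_apply _ (pow_mem hx₁L p),
        show (⟨x₁ ^ p, pow_mem hx₁L p⟩ : ↥(normalizerIn S (normalizerIn S E))) = X₁ ^ p from rfl,
        map_pow, Subgroup.coe_pow]
    have h2 : afun θ' (x₁ ^ p) = (v : Ω) ^ (c * a) * (g : Ω) ^ (c * c * e) := by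
      rw [show x₁ ^ p = ((v ^ a * g ^ e : ↥(normalizerIn S E)) : Ω) by rw [haeΩ]; simp,
        hθ'n, map_mul, map_zpow, map_zpow, hθv, hθg, ← zpow_mul, ← zpow_mul]
      simp
    have hc1 : Commute (x₁ ^ (c * c * c)) ((v : Ω) ^ a' * (g : Ω) ^ e') :=
      ((hx₁v.zpow_left _).zpow_right _).mul_right ((hx₁g.zpow_left _).zpow_right _)
    have hv' : (v : Ω) ^ p = 1 := congrArg Subtype.val (hexp v)
    have hg'' : (g : Ω) ^ p = 1 := congrArg Subtype.val (hexp g)
    have h3 : y ^ p = (v : Ω) ^ (a * (c * c * c)) * (g : Ω) ^ (e * (c * c * c)) := by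
      rw [hyeq, hc1.mul_pow, ((hgvΩ.symm.zpow_left _).zpow_right _).mul_pow,
        ← zpow_natCast ((v : Ω) ^ a'), ← zpow_natCast ((g : Ω) ^ e'), ← zpow_mul, ← zpow_mul,
        zpow_eq_one_of_dvd hv' (dvd_mul_left _ _), zpow_eq_one_of_dvd hg'' (dvd_mul_left _ _),
        mul_one, mul_one, ← zpow_natCast, ← zpow_mul, mul_comm, zpow_mul, zpow_natCast, haeΩ,
        ((hgvΩ.symm.zpow_left _).zpow_right _).mul_zpow, ← zpow_mul, ← zpow_mul]
    have h4 : v ^ (a * (c * c * c)) * g ^ (e * (c * c * c)) = v ^ (c * a) * g ^ (c * c * e) :=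
      Subtype.ext (by simpa using h3.symm.trans (h1.symm.trans h2))
    rw [zpow_sub, zpow_sub, mul_assoc, ← mul_assoc ((v ^ (c * a))⁻¹),
      ((hgv.symm.zpow_left _).zpow_right _).inv_left.eq, ← mul_assoc, ← mul_assoc, h4,
      mul_assoc (v ^ (c * a)), ← ((hgv.symm.zpow_left _).zpow_right _).inv_left.eq,
      ← mul_assoc, mul_inv_cancel, one_mul, mul_inv_cancel]
  obtain ⟨ha, -, he⟩ := hindep (a * (c * c * c) - c * a) 0 (e * (c * c * c) - c * c * e)
    (by rw [zpow_zero, mul_one]; exact hkey)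
  have ha0 : (a : ZMod p) = 0 := by
    have h1 := (ZMod.intCast_zmod_eq_zero_iff_dvd _ p).mpr ha
    push_cast at h1
    have h2 : (a : ZMod p) * c * ((c : ZMod p) ^ 2 - 1) = 0 := by linear_combination h1
    simpa [mul_eq_zero, hc0, sub_eq_zero, hcpow 2] using h2
  have he0 : (e : ZMod p) = 0 := by
    have h1 := (ZMod.intCast_zmod_eq_zero_iff_dvd _ p).mpr he
    push_cast at h1
    have h2 : (e : ZMod p) * c * c * ((c : ZMod p) ^ 1 - 1) = 0 := by linear_combination h1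
    simpa [mul_eq_zero, hc0, sub_eq_zero, show (c : ZMod p) ≠ 1 by simpa using hcpow 1] using h2
  have hx₁p : x₁ ^ p = 1 := by
    rw [haeΩ, zpow_eq_one_of_dvd (congrArg Subtype.val (hexp v)) (dvd_of_cast_eq_zero ha0),
      zpow_eq_one_of_dvd (congrArg Subtype.val (hexp g)) (dvd_of_cast_eq_zero he0), one_mul]
  refine false_of_triple hrk (hNle v.2) (hNle g.2) hx₁L.1 (congrArg Subtype.val (hexp v))
    (congrArg Subtype.val (hexp g)) hx₁p hgvΩ.symm hx₁v.symm hx₁g.symm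
    (fun h => hv1 (Subtype.ext h)) (fun h => hgE ?_) fun h => hx₁N ?_
  · exact (Subgroup.closure_le E).mpr (by rintro z rfl; exact hvE) h
  · refine (Subgroup.closure_le _).mpr ?_ h
    rintro z (rfl | rfl)
    · exact v.2
    · exact g.2

/-- A subgroup with exactly `p ^ 2` elements of order dividing `p` is not essential. -/
theorem no_plane [Finite S] [hp : Fact p.Prime] (hp5 : 5 ≤ p) (hS : IsPGroup p S)
    (hF : F.IsSaturated p)
    (hrk : ∀ A : Subgroup Ω, A ≤ S → Cfsg.IsElementaryAbelian p A → Nat.card A ≤ p ^ 2)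
    (hnotE : ¬ (Nat.card S = p ^ 3 ∧ Monoid.exponent ↥S = p))
    {E : Subgroup Ω} (hc : F.IsCentric E) (hlt : E < S) (hr : F.IsRadical p E)
    (hns : ∀ T : Sylow p ↥(F.autGroup E), ¬ (T : Subgroup ↥(F.autGroup E)).Normal)
    {X : Subgroup Ω} (hXE : X ≤ E) (hXc : Nat.card X = p ^ 2) (hXexp : ∀ x ∈ X, x ^ p = 1)
    (hXall : ∀ x ∈ E, x ^ p = 1 → x ∈ X) : False := by
  classical
  have hp2 : p ≠ 2 := by omega
  have hES := hlt.le
  haveI := finite_of_le hES
  haveI := finite_of_le (hXE.trans hES)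
  haveI := finite_normalizerIn (S := S) E
  haveI := finite_autGroup (F := F) E
  have hEN : E ≤ normalizerIn S E := le_normalizerIn hES
  have hNle : normalizerIn S E ≤ S := inf_le_left
  have hEp : IsPGroup p E := hS.to_le hES
  have hinv : ∀ α : ↥(F.autGroup E), ∀ x ∈ X, afun (α : MulAut E) x ∈ X := fun α x hx =>
    hXall _ (afun_mem _ (hXE hx)) (by
      rw [afun_apply _ (hXE hx), ← Subgroup.coe_pow, ← map_pow,
        show (⟨x, hXE hx⟩ : E) ^ p = 1 from Subtype.ext (hXexp x hx), map_one, Subgroup.coe_one])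
  have hXexp' : ∀ x : X, x ^ p = 1 := fun x => Subtype.ext (hXexp x x.2)
  have hXcomm : ∀ x y : X, x * y = y * x :=
    (PGroupsBasic.isMulCommutative_of_card_le_sq (hS.to_le (hXE.trans hES)) hXc.le).is_comm.comm
  let ρ := resHom hXE hinv
  have hfix : ∀ α : ↥(F.autGroup E), ρ α = 1 → (orderOf (α : MulAut E)).Coprime p →
      (α : MulAut E) = 1 := by
    intro α hα hco
    refine OmegaAutomiser89.eq_one_of_fix_omega hp2 hEp hco fun x hx => Subtype.ext ?_
    have hxX : (x : Ω) ∈ X := hXall _ x.2 (congrArg Subtype.val hx)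
    have h1 := congrArg Subtype.val (DFunLike.congr_fun hα ⟨x, hxX⟩)
    rw [coe_resHom] at h1
    rw [← afun_coe]
    exact h1
  have hK : ∀ α : ↥(F.autGroup E), ρ α = 1 → (α : MulAut E) ∈ Inn E :=
    OmegaAutomiser89.mem_inn_of_radical hr hES ρ fun α hα hco => Subtype.ext <|
      hfix α hα (by rwa [Subgroup.orderOf_coe])
  obtain ⟨σ⟩ := TorusAutomiser89.exists_setup hp2 hS hF hc hlt ρ hXc hXexp' hXcomm hK hns
  set m := (p - 1) / 2 with hmdef
  have hcμ := σ.D.cμ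
  push_cast at hcμ
  have hcm : ((σ.D.c : ℤ) : ZMod p) ^ m = -1 := σ.half
  have hμm : ((σ.D.μ : ℤ) : ZMod p) ^ m = -1 := by
    have h1 : ((σ.D.c : ℤ) : ZMod p) ^ m * ((σ.D.μ : ℤ) : ZMod p) ^ m = 1 := by
      rw [← mul_pow, hcμ, one_pow]
    rw [hcm] at h1
    linear_combination -h1
  have hit : ∀ n : ℕ, ρ (σ.η ^ n) σ.D.v = σ.D.v ^ (σ.D.c ^ n) ∧
      ρ (σ.η ^ n) σ.D.w = σ.D.w ^ (σ.D.μ ^ n) := by
    intro n
    induction n with
    | zero => simp
    | succ n ih =>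
      rw [pow_succ', map_mul, MulAut.mul_apply, MulAut.mul_apply, ih.1, ih.2,
        map_zpow (ρ σ.η), map_zpow (ρ σ.η), σ.ηv, σ.ηw, ← zpow_mul, ← zpow_mul, ← pow_succ',
        ← pow_succ']
      exact ⟨rfl, rfl⟩
  have hneg : ∀ u, ρ (σ.η ^ m) u = u⁻¹ := by
    intro u
    obtain ⟨i, j, rfl⟩ := σ.D.span u
    rw [map_mul, map_zpow, map_zpow, (hit m).1, (hit m).2,
      TorusAutomiser89.pow_card_fix hXexp' (show ((σ.D.c ^ m : ℤ) : ZMod p) = ((-1 : ℤ) : ZMod p) by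
        push_cast; exact hcm),
      TorusAutomiser89.pow_card_fix hXexp' (show ((σ.D.μ ^ m : ℤ) : ZMod p) = ((-1 : ℤ) : ZMod p) by
        push_cast; exact hμm),
      zpow_neg_one, zpow_neg_one, inv_zpow, inv_zpow, mul_inv_rev, hXcomm]
  -- the involution
  have hηcop : (orderOf (σ.η : MulAut E)).Coprime p :=
    Nat.Coprime.coprime_dvd_left (orderOf_dvd_of_pow_eq_one
      (FusionNilReduction.pow_eq_one_of_eqOn hEN σ.ηθ (pow_orderOf_eq_one σ.θ))) σ.θp
  obtain ⟨τ, hτ⟩ : ∃ τ : MulAut E, τ = ((σ.η ^ m : ↥(F.autGroup E)) : MulAut E) := ⟨_, rfl⟩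
  have hτcop : (orderOf τ).Coprime p := by
    rw [hτ, Subgroup.coe_pow]
    exact Nat.Coprime.coprime_dvd_left (orderOf_pow_dvd m) hηcop
  have hτ2 : τ * τ = 1 := by
    have h1 := hfix (σ.η ^ m * σ.η ^ m) (MulEquiv.ext fun u => by
      rw [map_mul, MulAut.mul_apply, hneg, hneg, inv_inv,
        MulAut.one_apply]) (by
      rw [Subgroup.coe_mul, ← hτ, ← pow_two]
      exact Nat.Coprime.coprime_dvd_left (orderOf_pow_dvd 2) hτcop)
    rwa [Subgroup.coe_mul, ← hτ] at h1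
  have hfpf : MonoidHom.FixedPointFree (τ : E → E) := by
    intro x hx
    by_contra hx1
    obtain ⟨k, hk⟩ := hEp x
    have hex : ∃ k, x ^ p ^ k = 1 := ⟨k, hk⟩
    obtain ⟨j, hj⟩ : ∃ j, Nat.find hex = j + 1 := Nat.exists_eq_succ_of_ne_zero fun h0 => hx1 (by
      simpa [h0] using Nat.find_spec hex)
    have hy1 : x ^ p ^ j ≠ 1 := Nat.find_min hex (by omega)
    have hyp : (x ^ p ^ j) ^ p = 1 := by
      rw [← pow_mul, ← pow_succ, ← hj]; exact Nat.find_spec hex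
    obtain ⟨y, hy⟩ : ∃ y, y = x ^ p ^ j := ⟨_, rfl⟩
    have hτy : τ y = y := by rw [hy, map_pow, hx]
    rw [← hy] at hy1 hyp
    have hyX : (y : Ω) ∈ X := hXall _ y.2 (congrArg Subtype.val hyp)
    have h1 := congrArg Subtype.val (hneg ⟨y, hyX⟩)
    rw [coe_resHom, ← hτ, afun_coe, hτy] at h1
    have h2 : y * y = 1 := eq_inv_iff_mul_eq_one.mp (Subtype.ext h1)
    have h3 : y ^ Nat.gcd p 2 = 1 := pow_gcd_eq_one.mpr ⟨hyp, (pow_two y).trans h2⟩
    rw [((Nat.coprime_primes hp.out Nat.prime_two).mpr hp2).gcd_eq_one, pow_one] at h3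
    exact hy1 h3
  have hinvol : Function.Involutive (τ : E → E) := fun x => by
    rw [← MulAut.mul_apply, hτ2, MulAut.one_apply]
  have hEc : ∀ x y : E, x * y = y * x := fun x y => (hfpf.commute_all_of_involutive hinvol x y).eq
  letI : CommGroup E := { (inferInstance : Group E) with mul_comm := hEc }
  -- the element outside
  obtain ⟨i, hi⟩ := σ.img σ.g
  have hi0 : (i : ZMod p) ≠ 0 := by
    intro h0
    apply σ.gE
    refine σ.mem_E _ (hi.trans ?_)
    refine MulEquiv.ext fun u => ?_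
    obtain ⟨h1, h2⟩ := PlaneTorus89.apply_zpow_of (hXcomm _ _) σ.D.av σ.D.aw i
    obtain ⟨b, e, rfl⟩ := σ.D.span u
    rw [map_mul, map_zpow, map_zpow, h1, h2,
      zpow_eq_one_of_dvd (hXexp' σ.D.v) (dvd_of_cast_eq_zero h0), mul_one, MulAut.one_apply]
  have htη : ∀ x ∈ E, afun (σ.θ ^ m) x = afun τ x := by
    intro x hx
    rw [hτ, Subgroup.coe_pow]
    exact FusionNilReduction.afun_pow_of_eqOn hEN σ.ηθ m x hx
  have hfixE : ∀ n : ↥(normalizerIn S E), (n : Ω) ∈ E → (σ.θ ^ m) n = n → n = 1 := by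
    intro n hn ht
    have h1 : τ ⟨n, hn⟩ = ⟨n, hn⟩ := Subtype.ext (by
      show ((τ ⟨n, hn⟩ : E) : Ω) = (n : Ω)
      rw [← afun_apply τ hn, ← htη _ hn, afun_coe, ht])
    exact Subtype.ext (congrArg Subtype.val (hfpf _ h1) :)
  have hgp : σ.g ^ p = 1 := by
    refine hfixE _ (σ.mem_E _ ?_) (by rw [map_pow, σ.gfix])
    rw [map_pow, map_pow, hi]
    refine MulEquiv.ext fun u => ?_
    rw [← zpow_natCast, ← zpow_mul]
    obtain ⟨h1, h2⟩ := PlaneTorus89.apply_zpow_of (hXcomm _ _) σ.D.av σ.D.aw (i * p)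
    obtain ⟨b, e, rfl⟩ := σ.D.span u
    rw [map_mul, map_zpow, map_zpow, h1, h2,
      zpow_eq_one_of_dvd (hXexp' σ.D.v) (dvd_mul_left _ _), mul_one, MulAut.one_apply]
  -- `E` has exponent `p`
  obtain ⟨φ, hφ⟩ : ∃ φ : ↥(F.autGroup E), φ = TorusAutomiser89.cN F hES σ.g := ⟨_, rfl⟩
  obtain ⟨hav', haw'⟩ := PlaneTorus89.apply_zpow_of (hXcomm _ _) σ.D.av σ.D.aw i
  rw [← hi, ← hφ] at hav' haw'
  set ι : X →* E := Subgroup.inclusion hXE
  have hφX : ∀ u : X, (φ : MulAut E) (ι u) = ι (ρ φ u) := fun u => Subtype.ext (by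
    rw [← afun_coe]
    rfl)
  have hEexp : ∀ x : E, x ^ p = 1 := by
    by_contra hne
    push Not at hne
    obtain ⟨y₀, hy₀⟩ := hne
    obtain ⟨k, hk⟩ := hEp y₀
    have hex : ∃ k, (y₀ ^ p) ^ p ^ k = 1 := ⟨k, by rw [← pow_mul, mul_comm, pow_mul, hk, one_pow]⟩
    obtain ⟨j, hj⟩ : ∃ j, Nat.find hex = j + 1 := Nat.exists_eq_succ_of_ne_zero fun h0 => hy₀ (by
      simpa [h0] using Nat.find_spec hex)
    have hj1 : (y₀ ^ p) ^ p ^ j ≠ 1 := Nat.find_min hex (by omega)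
    have hjp : ((y₀ ^ p) ^ p ^ j) ^ p = 1 := by
      rw [← pow_mul, ← pow_succ, ← hj]; exact Nat.find_spec hex
    let W : Subgroup X := (powMonoidHom (α := E) p).range.comap ι
    have hW : W = ⊤ := by
      refine σ.D.irred W ?_ fun α u hu => ?_
      · refine fun hbot => hj1 ?_
        obtain ⟨u, hu⟩ : ∃ u : X, ι u = (y₀ ^ p) ^ p ^ j :=
          ⟨⟨_, hXall _ ((y₀ ^ p) ^ p ^ j : E).2 (congrArg Subtype.val hjp)⟩, rfl⟩
        have h1 : u ∈ W := ⟨y₀ ^ p ^ j, by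
          rw [hu, powMonoidHom_apply, ← pow_mul, ← pow_mul, mul_comm]⟩
        rw [hbot, Subgroup.mem_bot] at h1
        rw [← hu, h1, map_one]
      · obtain ⟨y, hy⟩ := hu
        refine ⟨(α : MulAut E) y, ?_⟩
        rw [powMonoidHom_apply, ← map_pow, ← powMonoidHom_apply, hy]
        exact Subtype.ext ((afun_coe _ _).symm)
    obtain ⟨y, hy⟩ : σ.D.w ∈ W := hW ▸ Subgroup.mem_top _
    rw [powMonoidHom_apply] at hy
    obtain ⟨f, hfdef⟩ : ∃ f : MulAut E, f = (φ : MulAut E) := ⟨_, rfl⟩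
    rw [← hfdef] at hφX
    obtain ⟨u₁, hu₁⟩ : ∃ u, u = y⁻¹ * f y := ⟨_, rfl⟩
    have h1p : u₁ ^ p = ι σ.D.v ^ i := by
      rw [hu₁, mul_pow, ← map_pow, inv_pow, hy, hφX, haw', map_mul, map_zpow, inv_mul_cancel_left]
    obtain ⟨u₂, hu₂⟩ : ∃ u, u = u₁⁻¹ * f u₁ := ⟨_, rfl⟩
    have h2p : u₂ ^ p = 1 := by
      rw [hu₂, mul_pow, ← map_pow, inv_pow, h1p, map_zpow, hφX, hav', inv_mul_cancel]
    obtain ⟨q, hq⟩ : ∃ q : X, ι q = u₂ :=
      ⟨⟨_, hXall _ u₂.2 (congrArg Subtype.val h2p)⟩, rfl⟩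
    obtain ⟨u₃, hu₃⟩ : ∃ u, u = u₂⁻¹ * f u₂ := ⟨_, rfl⟩
    have h3f : f u₃ = u₃ ∧ u₃ ^ p = 1 := by
      obtain ⟨b, e, hbe⟩ := σ.D.span q
      have h4 : u₃ = ι σ.D.v ^ (i * e) := by
        rw [hu₃, ← hq, hφX, ← map_inv, ← map_mul, hbe, map_mul (ρ φ), map_zpow (ρ φ), map_zpow (ρ φ),
          hav', haw', Commute.mul_zpow (hXcomm _ _), ← zpow_mul,
          ← mul_assoc (σ.D.v ^ b), inv_mul_cancel_left, map_zpow]
      refine ⟨?_, ?_⟩
      · rw [h4, map_zpow, hφX, hav']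
      · rw [h4, ← map_zpow, ← map_pow, hXexp', map_one]
    have e1 : f y = y * u₁ := by rw [hu₁, mul_inv_cancel_left]
    have e2 : f u₁ = u₁ * u₂ := by rw [hu₂, mul_inv_cancel_left]
    have e3 : f u₂ = u₂ * u₃ := by rw [hu₃, mul_inv_cancel_left]
    have hiter : ∀ n : ℕ, (f ^ n) y = y * u₁ ^ n * u₂ ^ n.choose 2 * u₃ ^ n.choose 3 := by
      intro n
      induction n with
      | zero => simp
      | succ n ih =>
        rw [pow_succ', MulAut.mul_apply, ih, map_mul, map_mul, map_mul, map_pow, map_pow, map_pow,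
          e1, e2, e3, h3f.1,
          show (n + 1).choose 2 = n + n.choose 2 by rw [Nat.choose_succ_succ', Nat.choose_one_right],
          show (n + 1).choose 3 = n.choose 2 + n.choose 3 from Nat.choose_succ_succ' n 2,
          mul_pow, mul_pow, pow_succ, pow_add, pow_add]
        ac_rfl
    have hfp : f ^ p = 1 := by
      rw [hfdef, ← Subgroup.coe_pow, hφ, ← map_pow, hgp, map_one, Subgroup.coe_one]
    have h5 := hiter p
    obtain ⟨c₂, hc₂⟩ := hp.out.dvd_choose_self (k := 2) (by omega) (by omega)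
    obtain ⟨c₃, hc₃⟩ := hp.out.dvd_choose_self (k := 3) (by omega) (by omega)
    rw [hfp, MulAut.one_apply, h1p, hc₂, hc₃, pow_mul, pow_mul, h2p, h3f.2, one_pow, one_pow,
      mul_one, mul_one, left_eq_mul, ← map_zpow] at h5
    have h6 := dvd_of_zpow_eq_one (hXexp' σ.D.v) σ.D.v_ne
      (Subgroup.inclusion_injective hXE (h5.trans (map_one ι).symm))
    exact hi0 ((ZMod.intCast_zmod_eq_zero_iff_dvd _ p).mpr h6)
  have hEX : E = X := le_antisymm
    (fun x hx => hXall x hx (congrArg Subtype.val (hEexp ⟨x, hx⟩))) hXE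
  -- the normalizer
  let vN : ↥(normalizerIn S E) := ⟨σ.D.v, hEN (hXE σ.D.v.2)⟩
  let wN : ↥(normalizerIn S E) := ⟨σ.D.w, hEN (hXE σ.D.w.2)⟩
  have hconjX : ∀ (n : ↥(normalizerIn S E)) (u : X),
      (n : Ω) * u * (n : Ω)⁻¹ = (ρ (TorusAutomiser89.cN F hES n) u : X) := fun n u => by
    rw [coe_resHom, TorusAutomiser89.afun_cN _ _ (hXE u.2)]
    rfl
  have hspanE : ∀ x ∈ E, ∃ b e : ℤ, x = (vN : Ω) ^ b * (wN : Ω) ^ e := fun x hx => by
    obtain ⟨b, e, h⟩ := σ.D.span ⟨x, hEX ▸ hx⟩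
    exact ⟨b, e, by simpa using congrArg Subtype.val h⟩
  have hgen : ∀ n : ↥(normalizerIn S E), ∃ a b e : ℤ, n = vN ^ a * wN ^ b * σ.g ^ e := by
    intro n
    obtain ⟨j, hj⟩ := σ.img n
    obtain ⟨i', hi'⟩ := ZMod.intCast_surjective ((i : ZMod p)⁻¹)
    obtain ⟨e, he⟩ : ∃ e, e = i' * j := ⟨_, rfl⟩
    have hmem : ((n * (σ.g ^ e)⁻¹ : ↥(normalizerIn S E)) : Ω) ∈ E := by
      refine σ.mem_E _ ?_
      rw [map_mul, map_inv, map_zpow, map_mul, map_inv, map_zpow, hi, hj, ← zpow_mul,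
        mul_inv_eq_one]
      refine MulEquiv.ext fun u => ?_
      obtain ⟨h1, h2⟩ := PlaneTorus89.apply_zpow_of (hXcomm _ _) σ.D.av σ.D.aw j
      obtain ⟨h3, h4⟩ := PlaneTorus89.apply_zpow_of (hXcomm _ _) σ.D.av σ.D.aw (i * e)
      obtain ⟨b, d, rfl⟩ := σ.D.span u
      rw [map_mul, map_mul, map_zpow, map_zpow, map_zpow, map_zpow, h1, h2, h3, h4,
        TorusAutomiser89.pow_card_fix hXexp' (show ((j : ℤ) : ZMod p) = ((i * e : ℤ) : ZMod p) by
          rw [he]; push_cast; rw [hi', ← mul_assoc, mul_inv_cancel₀ hi0, one_mul])]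
    obtain ⟨a, b, hab⟩ := hspanE _ hmem
    refine ⟨a, b, e, ?_⟩
    rw [← eq_mul_inv_iff_mul_eq.mp (Subtype.ext (by simpa using hab.symm) :
      vN ^ a * wN ^ b = n * (σ.g ^ e)⁻¹)]
  have hNc : Nat.card (normalizerIn S E) = p ^ 3 := by
    haveI hn : (E.subgroupOf (normalizerIn S E)).Normal :=
      Subgroup.normal_subgroupOf_of_le_normalizer inf_le_right
    have hg1 : σ.g ≠ 1 := fun h => σ.gE (by rw [h]; exact E.one_mem)
    have h1 := PGroupsBasic.card_sup_zpowers (H := E.subgroupOf (normalizerIn S E))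
      (orderOf_eq_prime hgp hg1) (fun h => σ.gE (Subgroup.mem_subgroupOf.mp h))
    have h2 : E.subgroupOf (normalizerIn S E) ⊔ Subgroup.zpowers σ.g = ⊤ := by
      rw [eq_top_iff]
      intro n _
      obtain ⟨a, b, e, rfl⟩ := hgen n
      refine Subgroup.mul_mem_sup (Subgroup.mem_subgroupOf.mpr ?_)
        (zpow_mem (Subgroup.mem_zpowers _) e)
      simpa using E.mul_mem (E.zpow_mem (hXE σ.D.v.2) a) (E.zpow_mem (hXE σ.D.w.2) b)
    rw [h2, Subgroup.card_top, Nat.card_congr (Subgroup.subgroupOfEquivOfLe hEN).toEquiv,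
      show Nat.card E = p ^ 2 by rw [hEX, hXc]] at h1
    rw [h1, pow_succ p 2]
  have hNexp : ∀ x ∈ normalizerIn S E, x ^ p = 1 := by
    intro x hx
    refine congrArg Subtype.val (RankTwoOdd.omega_exponent (G := ↥(normalizerIn S E)) (by omega)
      (hS.to_le hNle) (rank_sub hrk hNle) (g := ⟨x, hx⟩) ?_)
    obtain ⟨a, b, e, h⟩ := hgen ⟨x, hx⟩
    rw [h]
    exact mul_mem (mul_mem
      (zpow_mem (Subgroup.subset_closure
        (show vN ∈ {x : ↥(normalizerIn S E) | x ^ p = 1} from Subtype.ext (hXexp _ σ.D.v.2))) a)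
      (zpow_mem (Subgroup.subset_closure
        (show wN ∈ {x : ↥(normalizerIn S E) | x ^ p = 1} from Subtype.ext (hXexp _ σ.D.w.2))) b))
      (zpow_mem (Subgroup.subset_closure (show σ.g ∈ {x : ↥(normalizerIn S E) | x ^ p = 1} from hgp)) e)
  have hNS : normalizerIn S E < S := by
    refine lt_of_le_of_ne hNle fun e => hnotE ⟨by rw [← e]; exact hNc, ?_⟩
    rw [← e]
    haveI : Nontrivial ↥(normalizerIn S E) :=
      ⟨⟨σ.g, 1, fun h => σ.gE (by rw [h]; exact E.one_mem)⟩⟩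
    refine ((Nat.dvd_prime hp.out).mp (Monoid.exponent_dvd_of_forall_pow_eq_one fun x =>
      Subtype.ext (hNexp x x.2))).resolve_left fun h1 => ?_
    rw [Monoid.exp_eq_one_iff] at h1
    exact not_subsingleton ↥(normalizerIn S E) h1
  have hθE : ∀ (u : X) (n : ↥(normalizerIn S E)), (n : Ω) = u →
      ((σ.θ n : ↥(normalizerIn S E)) : Ω) = (ρ σ.η u : X) := by
    intro u n hn
    rw [← afun_coe, hn, σ.ηθ _ (hXE u.2), coe_resHom]
  have hθg : σ.θ σ.g = σ.g ^ (σ.D.c * σ.D.c) := by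
    refine (inv_mul_eq_one.mp (hfixE _ (σ.mem_E _ ?_) ?_)).symm
    · rw [map_mul, map_inv, map_zpow, map_mul, map_inv, map_zpow, hi, σ.conj _ i hi, ← zpow_mul,
        mul_assoc i, inv_mul_cancel]
    · rw [map_mul, map_inv, map_zpow, σ.gfix, ← MulAut.mul_apply, ← pow_succ, pow_succ',
        MulAut.mul_apply, σ.gfix]
  refine no_cube hp5 hS hF hrk hES (FusCentric.centric_upward hc hEN hNle) hNS hNc hNexp
    (v := vN) (w := wN) (g := σ.g) (hXE σ.D.v.2) (hXE σ.D.w.2) σ.gE hspanE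
    (fun h => σ.D.v_ne (Subtype.ext (congrArg Subtype.val h :))) (fun h => ?_) hgen ?_ ?_ hi0 ?_
    σ.θF σ.θp σ.D.cμ σ.D.ord (Subtype.ext ?_) (Subtype.ext ?_) hθg
  · obtain ⟨k, hk⟩ := Subgroup.mem_zpowers_iff.mp h
    refine σ.D.w_not (Subgroup.mem_zpowers_iff.mpr ⟨k, Subtype.ext ?_⟩)
    simpa using congrArg Subtype.val hk
  · refine Subtype.ext (mul_inv_eq_iff_eq_mul.mp ?_)
    show (σ.g : Ω) * (σ.D.v : Ω) * (σ.g : Ω)⁻¹ = (σ.D.v : Ω)
    rw [hconjX, ← hφ, hav']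
  · exact Subtype.ext (congrArg Subtype.val (hXcomm σ.D.v σ.D.w) :)
  · refine Subtype.ext ?_
    show (σ.g : Ω) * (σ.D.w : Ω) * (σ.g : Ω)⁻¹ = _
    rw [hconjX, ← hφ, haw']
    simp [wN, vN]
  · rw [hθE σ.D.v vN rfl, σ.ηv]
    simp [vN]
  · rw [hθE σ.D.w wN rfl, σ.ηw]
    simp [wN]

end Cfsg.Agent.ResistantPlane89
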