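import Cfsg.Agent.Lib.SLMinDegree32

/-!
Characters of families of commuting root elements in complex representations: a simply-laced calculus.
The relations are given by a table `ct r s = some (k, c)` meaning
`x s u * x r t = x r t * x s u * x k (c (-t) u)`, and `none` for commuting elements; roots acting trivially
may be erased from the table.
-/

set_option autoImplicit false
set_option linter.unusedSectionVars false
set_option linter.unusedVariables false
set_option linter.style.haveILetI false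

namespace Cfsg.Agent.RootChar68

open Cfsg.Agent.SUMinDegree32Eigen Cfsg.Agent.SLMinDegree32 Module

/-- a commutator table -/
structure Rel where
  /-- the valid roots -/
  dom : ℕ → Bool
  /-- pairs for which the table applies -/
  pair : ℕ → ℕ → Bool
  /-- the commutator -/
  ct : ℕ → ℕ → Option (ℕ × ℤ)

/-- the pair is in the domain of the table -/
def Rel.dist (L : Rel) (r s : ℕ) : Bool := L.dom r && L.dom s && L.pair r s

/-- one term commutator with a unit coefficient -/
def Rel.one (L : Rel) (r s k : ℕ) : Bool :=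
  L.dist r s && L.dom k && (L.ct r s == some (k, 1) || L.ct r s == some (k, -1))

/-- commuting pair -/
def Rel.zero (L : Rel) (r s : ℕ) : Bool := r == s || (L.dist r s && (L.ct r s).isNone)

/-- the table after erasing roots acting trivially -/
def Rel.erase (L : Rel) (dom : ℕ → Bool) (K : List ℕ) : Rel where
  dom r := dom r && L.dom r
  pair := L.pair
  ct r s := (L.ct r s).bind fun p => if K.contains p.1 then none else some p

/-- root elements with the relations of a table -/
structure Sys (L : Rel) (F : Type*) [Field F] (Γ : Type*) [Group Γ] where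
  /-- the root elements -/
  x : ℕ → F → Γ
  add : ∀ r t u, x r t * x r u = x r (t + u)
  comm0 : ∀ r s, L.dist r s = true → L.ct r s = none → ∀ t u, Commute (x r t) (x s u)
  comm1 : ∀ r s k c, L.dist r s = true → L.ct r s = some (k, c) → L.dom k = true →
    ∀ t u, x s u * x r t = x r t * x s u * x k ((c : F) * (-t) * u)

section Table

variable (L : Rel) {n : ℕ} (S : Fin n → ℕ)

/-- the coordinate feeding into the coordinate `k` -/
def tg (g : ℕ) (k : Fin n) : Option (Fin n × ℤ) :=
  match L.ct g (S k) with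
  | some (r, e) => ((List.finRange n).find? fun l => S l == r).map fun l => (l, e)
  | none => none

/-- the source is among the given coordinates -/
def free (g : ℕ) (k : Fin n) (Z : List (Fin n)) : Bool :=
  match tg L S g k with
  | none => true
  | some p => Z.contains p.1

/-- a root element acting on the characters -/
def okMv (g : ℕ) : Bool :=
  (List.finRange n).all fun k =>
    match tg L S g k with
    | none => L.zero g (S k)
    | some (l, _) => L.one g (S k) (S l) && (tg L S g l).isNone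

/-- the root `g` carries the coordinate `i` into `j` -/
def stepOK (g : ℕ) (i j : Fin n) (Z P : List (Fin n)) : Bool :=
  (match tg L S g j with
    | none => false
    | some p => p.1 == i) &&
    (P.all fun k => free L S g k Z) && okMv L S g

/-- a list of coordinates to be processed from the coordinate `i` -/
def chainOK (i : Fin n) (Ex : List (Fin n)) : List (Fin n) → List (ℕ × Fin n) → Bool
  | _, [] => true
  | Z, p :: r => stepOK L S p.1 i p.2 Z (Z ++ i :: Ex) && chainOK i Ex (p.2 :: Z) r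

/-- everything but `a` -/
def co1 (a : Fin n) : List (Fin n) := (List.finRange n).filter fun u => decide (u ≠ a)

/-- everything but `a`, `b` -/
def co2 (a b : Fin n) : List (Fin n) := (List.finRange n).filter fun u => decide (u ≠ a ∧ u ≠ b)

/-- transfer of root characters -/
def linkOK (g g' : ℕ) (a b : Fin n) : Bool :=
  stepOK L S g a b (co1 a) (co1 b) && stepOK L S g' b a (co2 a b) (co1 a)

/-- the earlier coordinates -/
def below (i : Fin n) : List (Fin n) := (List.finRange n).filter fun u => decide (u < i)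

/-- commuting family -/
def commOK : Bool := (List.finRange n).all fun i => (List.finRange n).all fun j => L.zero (S i) (S j)

end Table

/-- the combinatorial certificate of a radical -/
structure Tab (n : ℕ) where
  /-- the roots -/
  S : Fin (n + 1) → ℕ
  /-- a neighbour above and the two differences -/
  par : Fin (n + 1) → Fin (n + 1) × ℕ × ℕ
  /-- the neighbours below -/
  lead : Fin (n + 1) → List (ℕ × Fin (n + 1))
  /-- the distinguished far coordinate -/
  f0 : Fin (n + 1)
  /-- far coordinates varied from it -/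
  far : List (ℕ × Fin (n + 1))
  /-- moves of the remaining far coordinates -/
  path : List (ℕ × Fin (n + 1) × Fin (n + 1))

/-- the moves towards the distinguished far coordinate: the sources treated so far are known to vanish -/
def pathOK (L : Rel) {n : ℕ} (S : Fin (n + 1) → ℕ) (N : List (Fin (n + 1))) :
    List (Fin (n + 1)) → List (ℕ × Fin (n + 1) × Fin (n + 1)) → Bool
  | _, [] => true
  | done, e :: r => stepOK L S e.1 e.2.1 e.2.2 (N ++ done) (0 :: N) && done.contains e.2.2 &&
      pathOK L S N (e.2.1 :: done) r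

variable {n : ℕ} {L : Rel}

/-- the first level neighbours -/
def Tab.N (T : Tab n) : List (Fin (n + 1)) := (T.lead 0).map Prod.snd

/-- check of the links -/
def Tab.okPar (T : Tab n) (L : Rel) : Bool :=
  (List.finRange (n + 1)).all fun k => decide (k = 0) ||
    (decide ((T.par k).1 < k) && linkOK L T.S (T.par k).2.2 (T.par k).2.1 k (T.par k).1 &&
      linkOK L T.S (T.par k).2.1 (T.par k).2.2 (T.par k).1 k)

/-- check of the chains -/
def Tab.okLead (T : Tab n) (L : Rel) : Bool :=
  (List.finRange (n + 1)).all fun i => chainOK L T.S i [] (below i) (T.lead i)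

/-- check of the far part -/
def Tab.okFar (T : Tab n) (L : Rel) : Bool :=
  ((List.finRange (n + 1)).all fun k => decide (k = 0) || T.N.contains k || decide (k = T.f0) ||
    (T.path.map fun x => x.2.1).contains k) &&
  pathOK L T.S T.N [T.f0] T.path && chainOK L T.S T.f0 [0] T.N T.far

variable {F : Type*} [Field F] {Γ : Type*} [Group Γ]

namespace Sys

variable (Y : Sys L F Γ)

theorem x_zero (r : ℕ) : Y.x r 0 = 1 := by
  have h := Y.add r 0 0
  rw [add_zero] at h
  exact mul_eq_left.1 h

theorem x_inv (r : ℕ) (t : F) : (Y.x r t)⁻¹ = Y.x r (-t) :=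
  inv_eq_of_mul_eq_one_right (by rw [Y.add, add_neg_cancel, Y.x_zero])

theorem comm_zero {r s : ℕ} (h : L.zero r s = true) (t u : F) : Commute (Y.x r t) (Y.x s u) := by
  simp only [Rel.zero, Bool.or_eq_true, Bool.and_eq_true, beq_iff_eq, Option.isNone_iff_eq_none] at h
  rcases h with rfl | ⟨h1, h2⟩
  · show _ = _
    rw [Y.add, Y.add, add_comm]
  · exact Y.comm0 r s h1 h2 t u

theorem comm_one {r s k : ℕ} (h : L.one r s k = true) :
    ∃ c : ℤ, (c = 1 ∨ c = -1) ∧ L.ct r s = some (k, c) ∧
      ∀ t u, Y.x s u * Y.x r t = Y.x r t * Y.x s u * Y.x k ((c : F) * (-t) * u) := by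
  simp only [Rel.one, Bool.or_eq_true, Bool.and_eq_true, beq_iff_eq] at h
  obtain ⟨⟨h1, h2⟩, h3 | h3⟩ := h
  · exact ⟨1, Or.inl rfl, h3, Y.comm1 r s k 1 h1 h3 h2⟩
  · exact ⟨-1, Or.inr rfl, h3, Y.comm1 r s k (-1) h1 h3 h2⟩

end Sys

theorem cast_pm_ne {c : ℤ} (h : c = 1 ∨ c = -1) : (c : F) ≠ 0 := by
  rcases h with rfl | rfl <;> simp

theorem rho_inj {V : Type*} [AddCommGroup V] [Module ℂ V] (σ : Representation ℂ Γ V) (g : Γ) :
    Function.Injective (σ g) := fun x y h => by
  have h' := congrArg (σ g⁻¹) h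
  rwa [← Module.End.mul_apply, ← Module.End.mul_apply, ← map_mul, inv_mul_cancel, map_one] at h'

variable [Fintype F] {V : Type} [AddCommGroup V] [Module ℂ V] {Y : Sys L F Γ}

variable (Y) in
/-- the one-parameter homomorphism -/
def xh (r : ℕ) : Multiplicative F →* Γ where
  toFun t := Y.x r t.toAdd
  map_one' := Y.x_zero r
  map_mul' a b := (Y.add r a.toAdd b.toAdd).symm

/-- an ordered family of commuting root elements -/
structure Rad (Y : Sys L F Γ) (n : ℕ) where
  /-- the roots -/
  S : Fin n → ℕ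
  comm : ∀ i j t u, Commute (Y.x (S i) t) (Y.x (S j) u)

/-- the family from a checked list of roots -/
def mkRad (Y : Sys L F Γ) (S : Fin n → ℕ) (h : commOK L S = true) : Rad Y n where
  S := S
  comm i j t u := by
    simp only [commOK, List.all_eq_true] at h
    exact Y.comm_zero (h i (List.mem_finRange i) j (List.mem_finRange j)) t u

variable (R : Rad Y n) (σ : Representation ℂ Γ V)

/-- the family as a homomorphism -/
def Rad.U : (Fin n → Multiplicative F) →* Γ :=
  MonoidHom.noncommPiCoprod (fun i => xh Y (R.S i)) fun i j _ a b => R.comm i j _ _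

/-- the operators -/
noncomputable def Du (a : Fin n → F) : Module.End ℂ V := σ (R.U fun i => Multiplicative.ofAdd (a i))

theorem Du_add (a b : Fin n → F) : Du R σ (a + b) = Du R σ a * Du R σ b := by
  rw [Du, Du, Du, ← map_mul, ← map_mul]
  rfl

theorem Du_zero : Du R σ 0 = 1 := by
  rw [Du]
  have : (fun i : Fin n => Multiplicative.ofAdd ((0 : Fin n → F) i)) = 1 := rfl
  rw [this, map_one, map_one]

theorem Du_single (i : Fin n) (a : F) : Du R σ (Pi.single i a) = σ (Y.x (R.S i) a) := by
  classical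
  rw [Du]
  have : (fun j : Fin n => Multiplicative.ofAdd ((Pi.single i a : Fin n → F) j)) =
      Pi.mulSingle i (Multiplicative.ofAdd a) := by
    funext j
    by_cases h : j = i
    · subst h; simp
    · simp [h]
  rw [this]
  exact congrArg σ (MonoidHom.noncommPiCoprod_mulSingle _ _ _)

/-- the character space -/
noncomputable def Esp (c : Fin n → F) : Submodule ℂ V := eig (Du R σ) (chi c)

theorem mem_E {c : Fin n → F} {v : V} :
    v ∈ Esp R σ c ↔ ∀ i a, σ (Y.x (R.S i) a) v = phi0 (c i * a) • v := by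
  classical
  constructor
  · intro h i a
    have h1 := h (Pi.single i a)
    rwa [Du_single, chi_apply, dotProduct_single] at h1
  · intro h a
    rw [← Finset.univ_sum_single a]
    induction (Finset.univ : Finset (Fin n)) using Finset.induction_on with
    | empty => rw [Finset.sum_empty, Du_zero, AddChar.map_zero_eq_one, one_smul]; rfl
    | insert i s hi ih =>
      rw [Finset.sum_insert hi, Du_add, Module.End.mul_apply, ih, map_smul, Du_single, h,
        AddChar.map_add_eq_mul, smul_smul]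
      congr 1
      rw [chi_apply c (Pi.single i (a i)), dotProduct_single, mul_comm]

theorem mem_fix {v : V} : v ∈ Esp R σ 0 ↔ ∀ i a, σ (Y.x (R.S i) a) v = v := by
  simp [mem_E]

/-- the action on characters -/
def mv (g : ℕ) (t : F) (c : Fin n → F) : Fin n → F := fun k =>
  match tg L R.S g k with
  | none => c k
  | some (l, e) => c k - (e : F) * t * c l

variable {R σ}

theorem mv_some {g : ℕ} {t : F} {c : Fin n → F} {k l : Fin n} {e : ℤ} (h : tg L R.S g k = some (l, e)) :
    mv R g t c k = c k - (e : F) * t * c l := by simp [mv, h]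

theorem mv_none {g : ℕ} {t : F} {c : Fin n → F} {k : Fin n} (h : tg L R.S g k = none) :
    mv R g t c k = c k := by simp [mv, h]

theorem okMv_cases {g : ℕ} (h : okMv L R.S g = true) (k : Fin n) :
    (L.zero g (R.S k) = true ∧ tg L R.S g k = none) ∨
      ∃ l e, tg L R.S g k = some (l, e) ∧ L.one g (R.S k) (R.S l) = true ∧ tg L R.S g l = none := by
  have h1 := List.all_eq_true.1 h k (List.mem_finRange k)
  cases hk : tg L R.S g k with
  | none => rw [hk] at h1; exact Or.inl ⟨h1, rfl⟩
  | some p =>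
    obtain ⟨l, e⟩ := p
    simp only [hk, Bool.and_eq_true, Option.isNone_iff_eq_none] at h1
    exact Or.inr ⟨l, e, rfl, h1⟩

theorem tg_coef {g : ℕ} {k l : Fin n} {e c : ℤ} {r : ℕ} (hc : L.ct g (R.S k) = some (r, c))
    (hk : tg L R.S g k = some (l, e)) : e = c := by
  simp only [tg, hc, Option.map_eq_some_iff, Prod.mk.injEq] at hk
  obtain ⟨_, -, -, he⟩ := hk
  exact he.symm

theorem coef_pm {g : ℕ} (h : okMv L R.S g = true) {k l : Fin n} {e : ℤ}
    (hk : tg L R.S g k = some (l, e)) : e = 1 ∨ e = -1 := by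
  rcases okMv_cases h k with ⟨-, h2⟩ | ⟨l', e', h2, h3, -⟩
  · rw [h2] at hk; exact absurd hk (by simp)
  · obtain ⟨c, hc, hterm, -⟩ := Y.comm_one h3
    rw [tg_coef hterm hk]
    exact hc

theorem mv_mv {g : ℕ} (h : okMv L R.S g = true) (t : F) (c : Fin n → F) :
    mv R g (-t) (mv R g t c) = c := by
  funext k
  rcases okMv_cases h k with ⟨-, h2⟩ | ⟨l, e, h2, -, h4⟩
  · rw [mv_none h2, mv_none h2]
  · rw [mv_some h2, mv_some h2, mv_none h4]; ring

theorem mv_zero {g : ℕ} (t : F) : mv R g t (0 : Fin n → F) = 0 := by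
  funext k
  simp only [mv]
  cases tg L R.S g k <;> simp

theorem mv_mem {g : ℕ} (h : okMv L R.S g = true) (t : F) {c : Fin n → F} {v : V}
    (hv : v ∈ Esp R σ c) : σ (Y.x g t) v ∈ Esp R σ (mv R g t c) := by
  rw [mem_E] at hv ⊢
  intro k a
  rcases okMv_cases h k with ⟨h1, h2⟩ | ⟨l, e, h2, h3, -⟩
  · rw [mv_none h2, ← Module.End.mul_apply, ← map_mul, ← (Y.comm_zero h1 t a).eq, map_mul,
      Module.End.mul_apply, hv, map_smul]
  · obtain ⟨e', -, hterm, hrel⟩ := Y.comm_one h3
    obtain rfl := tg_coef hterm h2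
    rw [mv_some h2, ← Module.End.mul_apply, ← map_mul, hrel, map_mul, map_mul, Module.End.mul_apply,
      Module.End.mul_apply, hv, map_smul, map_smul, hv, map_smul, smul_smul, ← AddChar.map_add_eq_mul]
    congr 2
    ring

variable [FiniteDimensional ℂ V]

variable (R σ) in
/-- multiplicity at least `m` -/
def Good (m : ℕ) (c : Fin n → F) : Prop := m ≤ finrank ℂ (Esp R σ c)

theorem good_mv {m g : ℕ} (h : okMv L R.S g = true) (t : F) {c : Fin n → F} (hc : Good R σ m c) :
    Good R σ m (mv R g t c) :=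
  hc.trans (LinearMap.finrank_le_finrank_of_injective
    (f := (σ (Y.x g t)).restrict fun v hv => mv_mem h t hv)
    fun a b e => Subtype.ext (rho_inj σ _ (congrArg Subtype.val e)))

theorem exists_vec {m : ℕ} {c : Fin n → F} (hm : 1 ≤ m) (hc : Good R σ m c) :
    ∃ w : V, w ≠ 0 ∧ w ∈ Esp R σ c := by
  haveI : Nontrivial (Esp R σ c) := Module.nontrivial_of_finrank_pos (R := ℂ) (le_trans hm hc)
  obtain ⟨⟨w, hw⟩, hne⟩ := exists_ne (0 : Esp R σ c)
  exact ⟨w, fun e => hne (Subtype.ext e), hw⟩

theorem stepOK_iff {g : ℕ} {i j : Fin n} {Z P : List (Fin n)} (h : stepOK L R.S g i j Z P = true) :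
    okMv L R.S g = true ∧ (∃ e : ℤ, tg L R.S g j = some (i, e) ∧ (e : F) ≠ 0) ∧
      ∀ (t : F) (c : Fin n → F), (∀ l ∈ Z, c l = 0) → ∀ k ∈ P, mv R g t c k = c k := by
  simp only [stepOK, Bool.and_eq_true, List.all_eq_true] at h
  obtain ⟨⟨h2, h3⟩, h1⟩ := h
  refine ⟨h1, ?_, fun t c hc k hk => ?_⟩
  · cases hj : tg L R.S g j with
    | none => simp [hj] at h2
    | some p =>
      obtain ⟨l, e⟩ := p
      simp only [hj, beq_iff_eq] at h2
      subst h2
      exact ⟨e, rfl, cast_pm_ne (coef_pm h1 hj)⟩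
  · have h4 := h3 k hk
    cases hk' : tg L R.S g k with
    | none => exact mv_none hk'
    | some p =>
      obtain ⟨l, e⟩ := p
      simp only [free, hk', List.contains_iff_mem] at h4
      rw [mv_some hk', hc l h4]; ring

theorem step_ne {g : ℕ} {i j : Fin n} {Z P : List (Fin n)} (h : stepOK L R.S g i j Z P = true) : i ≠ j := by
  obtain ⟨hok, ⟨e, he, -⟩, -⟩ := stepOK_iff (R := R) h
  rintro rfl
  rcases okMv_cases hok i with ⟨-, h2⟩ | ⟨l, e', h2, -, h4⟩
  · exact absurd (h2.symm.trans he) (by simp)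
  · obtain ⟨rfl, -⟩ := Prod.mk.inj (Option.some.inj (h2.symm.trans he))
    exact absurd (h4.symm.trans he) (by simp)

theorem step_set {m g : ℕ} {i j : Fin n} {Z P : List (Fin n)} (h : stepOK L R.S g i j Z P = true)
    {c : Fin n → F} (hc : Good R σ m c) (hi : c i ≠ 0) (hZ : ∀ l ∈ Z, c l = 0) (a : F) :
    ∃ c', Good R σ m c' ∧ c' j = a ∧ ∀ k ∈ P, c' k = c k := by
  obtain ⟨h1, ⟨e, he, he0⟩, h3⟩ := stepOK_iff (R := R) h
  refine ⟨mv R g ((c j - a) / ((e : F) * c i)) c, good_mv h1 _ hc, ?_, h3 _ c hZ⟩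
  rw [mv_some he]
  field_simp
  ring

theorem kill {m : ℕ} {i : Fin n} {Ex : List (Fin n)} : ∀ (js : List (ℕ × Fin n)) (Z : List (Fin n)),
    chainOK L R.S i Ex Z js = true → ∀ c : Fin n → F, Good R σ m c → c i ≠ 0 → (∀ l ∈ Z, c l = 0) →
    ∃ c', Good R σ m c' ∧ (∀ l ∈ Z, c' l = 0) ∧ (∀ p ∈ js, c' p.2 = 0) ∧ c' i = c i ∧
      ∀ k ∈ Ex, c' k = c k
  | [], Z, _, c, hc, _, hZ => ⟨c, hc, hZ, by simp, rfl, fun _ _ => rfl⟩
  | p :: r, Z, h, c, hc, hi, hZ => by
    simp only [chainOK, Bool.and_eq_true] at h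
    obtain ⟨c1, hc1, hj, hP⟩ := step_set h.1 hc hi hZ 0
    have hi1 : c1 i = c i := hP i (by simp)
    obtain ⟨c2, hc2, hZ2, hr, hi2, hE⟩ := kill r (p.2 :: Z) h.2 c1 hc1 (hi1 ▸ hi) fun l hl => by
      rcases List.mem_cons.1 hl with rfl | hl
      · exact hj
      · rw [hP l (by simp [hl]), hZ l hl]
    refine ⟨c2, hc2, fun l hl => hZ2 l (List.mem_cons_of_mem _ hl), fun q hq => ?_, hi2.trans hi1,
      fun k hk => (hE k hk).trans (hP k (by simp [hk]))⟩
    rcases List.mem_cons.1 hq with rfl | hq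
    · exact hZ2 _ (List.mem_cons_self ..)
    · exact hr q hq

theorem spread [DecidableEq F] {m : ℕ} {i : Fin n} {Ex : List (Fin n)} {t : F} (ht : t ≠ 0)
    (ex : Fin n → F) : ∀ (js : List (ℕ × Fin n)) (Z : List (Fin n)), chainOK L R.S i Ex Z js = true →
    ∀ A : Finset (Fin n → F), (∀ c ∈ A, Good R σ m c ∧ (∀ l ∈ Z, c l = 0) ∧ (∀ p ∈ js, c p.2 = 0) ∧
      c i = t ∧ ∀ k ∈ Ex, c k = ex k) →
    ∃ B : Finset (Fin n → F), (∀ c ∈ B, Good R σ m c ∧ (∀ l ∈ Z, c l = 0) ∧ c i = t ∧
      ∀ k ∈ Ex, c k = ex k) ∧ Fintype.card F ^ js.length * A.card ≤ B.card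
  | [], Z, _, A, hA => ⟨A, fun c hc => ⟨(hA c hc).1, (hA c hc).2.1, (hA c hc).2.2.2⟩, by simp⟩
  | p :: r, Z, h, A, hA => by
    simp only [chainOK, Bool.and_eq_true] at h
    obtain ⟨B', hB', hcard⟩ := spread ht ex r (p.2 :: Z) h.2 A fun c hc => by
      obtain ⟨h1, h2, h3, h4⟩ := hA c hc
      refine ⟨h1, fun l hl => ?_, fun q hq => h3 q (List.mem_cons_of_mem _ hq), h4⟩
      rcases List.mem_cons.1 hl with rfl | hl
      · exact h3 p (List.mem_cons_self ..)
      · exact h2 l hl
    obtain ⟨hok, ⟨e, he, he0⟩, hP⟩ := stepOK_iff (R := R) h.1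
    refine ⟨(Finset.univ ×ˢ B').image fun xc : F × (Fin n → F) => mv R p.1 xc.1 xc.2, fun c hc => ?_, ?_⟩
    · obtain ⟨⟨x, c0⟩, hxc, rfl⟩ := Finset.mem_image.1 hc
      obtain ⟨h1, h2, h3, h4⟩ := hB' c0 (Finset.mem_product.1 hxc).2
      have hz : ∀ l ∈ Z, c0 l = 0 := fun l hl => h2 l (List.mem_cons_of_mem _ hl)
      refine ⟨good_mv hok x h1, fun l hl => ?_, ?_, fun k hk => ?_⟩
      · rw [hP x c0 hz l (by simp [hl]), hz l hl]
      · rw [hP x c0 hz i (by simp), h3]
      · rw [hP x c0 hz k (by simp [hk]), h4 k hk]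
    · rw [Finset.card_image_of_injOn, Finset.card_product, Finset.card_univ, List.length_cons,
        pow_succ', mul_assoc]
      · exact Nat.mul_le_mul_left _ hcard
      · rintro ⟨x, c⟩ hx ⟨x', c'⟩ hx' hxx
        simp only [Finset.coe_product, Set.mem_prod, Finset.mem_coe] at hx hx'
        simp only at hxx
        have hv := congrFun hxx p.2
        rw [mv_some he, mv_some he, (hB' c hx.2).2.1 p.2 (List.mem_cons_self ..), (hB' c hx.2).2.2.1,
          (hB' c' hx'.2).2.1 p.2 (List.mem_cons_self ..), (hB' c' hx'.2).2.2.1] at hv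
        have hxe : x = x' := by
          simpa [ht, he0] using hv
        subst hxe
        have := congrArg (mv R p.1 (-x)) hxx
        rw [mv_mv hok, mv_mv hok] at this
        rw [this]

/-- the dimension of a subspace bounds the characters inside it -/
theorem le_sub {m : ℕ} (U : Submodule ℂ V) (B : Finset (Fin n → F))
    (hB : ∀ c ∈ B, Good R σ m c ∧ Esp R σ c ≤ U) : m * B.card ≤ finrank ℂ U := by
  classical
  have h := SUMinDegree32Eigen.sum_finrank_le (Du R σ) U (B.image chi)
  rw [Finset.sum_image (fun a _ b _ e => chi_bijective.1 e)] at h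
  refine le_trans ?_ h
  rw [mul_comm, ← smul_eq_mul]
  refine Finset.card_nsmul_le_sum _ _ _ fun c hc => ?_
  rw [show U ⊓ eig (Du R σ) (chi c) = Esp R σ c from inf_eq_right.2 (hB c hc).2]
  exact (hB c hc).1

/-- the dimension bound from a set of characters -/
theorem le_dim {m : ℕ} (B : Finset (Fin n → F)) (hB : ∀ c ∈ B, Good R σ m c) (h0 : (0 : Fin n → F) ∉ B) :
    finrank ℂ (Esp R σ 0) + m * B.card ≤ finrank ℂ V := by
  classical
  have h := SUMinDegree32Eigen.sum_finrank_le (Du R σ) ⊤ ((insert 0 B).image chi)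
  rw [Finset.sum_image (fun a _ b _ e => chi_bijective.1 e), finrank_top] at h
  have hd : ∀ c : Fin n → F, finrank ℂ ↥(⊤ ⊓ eig (Du R σ) (chi c)) = finrank ℂ (Esp R σ c) :=
    fun c => by rw [Esp, top_inf_eq]
  rw [Finset.sum_congr rfl fun c _ => hd c, Finset.sum_insert h0] at h
  refine le_trans (Nat.add_le_add_left ?_ _) h
  rw [mul_comm, ← smul_eq_mul]
  exact Finset.card_nsmul_le_sum _ _ _ hB

theorem good_one {c : Fin n → F} {w : V} (hw : w ∈ Esp R σ c) (h0 : w ≠ 0) : Good R σ 1 c := by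
  haveI : Nontrivial (Esp R σ c) := ⟨⟨⟨w, hw⟩, 0, fun e => h0 (congrArg Subtype.val e)⟩⟩
  exact finrank_pos

/-- some nontrivial character occurs -/
theorem exists_char {i : Fin n} {a : F} {v : V} (hv : σ (Y.x (R.S i) a) v ≠ v) :
    ∃ c, c ≠ 0 ∧ Good R σ 1 c := by
  obtain ⟨ψ, hψ, w, -, hw0, hw⟩ := SUMinDegree32Eigen.exists_eigen_nontrivial (Du_add R σ) (Du_zero R σ) ⊤
    (fun _ _ _ => Submodule.mem_top) (Submodule.mem_top : v ∈ (⊤ : Submodule ℂ V))
    (a := Pi.single i a) (by rwa [Du_single])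
  obtain ⟨c, rfl⟩ := chi_bijective.2 ψ
  exact ⟨c, fun e => hψ (by rw [e, chi_zero]), good_one hw hw0⟩

/-- a common eigenvector of some coordinates extends to a character -/
theorem exists_ext (J : List (Fin n)) (val : Fin n → F) {v : V} (hv0 : v ≠ 0)
    (hv : ∀ j ∈ J, ∀ a, σ (Y.x (R.S j) a) v = phi0 (val j * a) • v) :
    ∃ c, Good R σ 1 c ∧ ∀ j ∈ J, c j = val j := by
  let U : Submodule ℂ V :=
    { carrier := {w | ∀ j ∈ J, ∀ a, σ (Y.x (R.S j) a) w = phi0 (val j * a) • w}
      add_mem' := fun {x y} hx hy j hj a => by rw [map_add, hx j hj a, hy j hj a, smul_add]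
      zero_mem' := fun j _ a => by rw [map_zero, smul_zero]
      smul_mem' := fun r x hx j hj a => by rw [map_smul, hx j hj a, smul_comm] }
  have hU : ∀ a, ∀ w ∈ U, Du R σ a w ∈ U := fun a w hw j hj b => by
    have hc : Du R σ (Pi.single j b) * Du R σ a = Du R σ a * Du R σ (Pi.single j b) := by
      rw [← Du_add, ← Du_add, add_comm]
    have := congrArg (fun T : Module.End ℂ V => T w) hc
    simp only [Module.End.mul_apply, Du_single] at this
    rw [this, hw j hj b, map_smul]
  obtain ⟨ψ, w, hwU, hw0, hw⟩ :=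
    SUMinDegree32Eigen.exists_eigen (Du_add R σ) (Du_zero R σ) U hU (show v ∈ U from hv) hv0
  obtain ⟨c, rfl⟩ := chi_bijective.2 ψ
  refine ⟨c, good_one hw hw0, fun j hj => ?_⟩
  by_contra hne
  obtain ⟨s, hs⟩ := phi0_ne (F := F)
  have h1 := (mem_E R σ).1 hw j (s / (c j - val j))
  rw [hwU j hj] at h1
  have h2 : phi0 (val j * (s / (c j - val j))) = phi0 (c j * (s / (c j - val j))) := smul_left_injective ℂ hw0 h1
  have e : c j * (s / (c j - val j)) = val j * (s / (c j - val j)) + s := by
    have : c j - val j ≠ 0 := sub_ne_zero.2 hne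
    field_simp
    ring
  rw [e, AddChar.map_add_eq_mul] at h2
  exact hs (mul_eq_left₀ (AddChar.val_isUnit _ _).ne_zero |>.1 h2.symm)

/-- the stabiliser of a root character -/
def stabOK (L : Rel) {n : ℕ} (S : Fin n → ℕ) (b : Fin n) (g : ℕ) : Bool :=
  ((List.finRange n).all fun k => free L S g k (co1 b)) && okMv L S g

theorem stab_maps {b : Fin n} {g : ℕ} (h : stabOK L R.S b g = true) {u : F} {w : V}
    (hw : w ∈ Esp R σ (Pi.single b u)) (t : F) : σ (Y.x g t) w ∈ Esp R σ (Pi.single b u) := by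
  classical
  simp only [stabOK, Bool.and_eq_true, List.all_eq_true] at h
  have hfix : mv R g t (Pi.single b u) = Pi.single b u := by
    funext k
    have h2 := h.1 k (List.mem_finRange k)
    cases hk : tg L R.S g k with
    | none => exact mv_none hk
    | some p =>
      obtain ⟨l, e⟩ := p
      simp only [free, hk, List.contains_iff_mem, co1, List.mem_filter, decide_eq_true_eq] at h2
      rw [mv_some hk, Pi.single_eq_of_ne h2.2]
      ring
  have hm := mv_mem (σ := σ) h.2 t hw
  rwa [hfix] at hm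

/-- fixed roots on a line -/
def fix1OK (L : Rel) {n : ℕ} (S : Fin n → ℕ) (b : Fin n) (dec : List (ℕ × ℕ × ℕ)) (g : ℕ) : Bool :=
  (co1 b).any (fun k => S k == g) ||
    dec.any fun d => d.1 == g && stabOK L S b d.2.1 && stabOK L S b d.2.2 && L.one d.2.1 d.2.2 g

theorem fix_line {b : Fin n} {dec : List (ℕ × ℕ × ℕ)} {g : ℕ} (h : fix1OK L R.S b dec g = true) {u : F}
    (hd : finrank ℂ (Esp R σ (Pi.single b u)) = 1) {w : V} (hw : w ∈ Esp R σ (Pi.single b u))
    (hw0 : w ≠ 0) (t : F) : σ (Y.x g t) w = w := by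
  classical
  simp only [fix1OK, Bool.or_eq_true, List.any_eq_true, Bool.and_eq_true, beq_iff_eq] at h
  rcases h with ⟨k, hk, rfl⟩ | ⟨⟨g', g1, g2⟩, -, ⟨⟨rfl, h1⟩, h2⟩, h3⟩
  · rw [(mem_E R σ).1 hw k t]
    simp only [co1, List.mem_filter, decide_eq_true_eq] at hk
    rw [Pi.single_eq_of_ne hk.2, zero_mul, AddChar.map_zero_eq_one, one_smul]
  · have scal : ∀ g, stabOK L R.S b g = true → ∀ x : F, ∃ l : ℂ, σ (Y.x g x) w = l • w := fun g hg x => by
      obtain ⟨l, hl⟩ := (finrank_eq_one_iff_of_nonzero' (⟨w, hw⟩ : Esp R σ (Pi.single b u))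
        (fun e => hw0 (congrArg Subtype.val e))).1 hd ⟨_, stab_maps hg hw x⟩
      exact ⟨l, (congrArg Subtype.val hl).symm⟩
    obtain ⟨c, hc, -, hrel⟩ := Y.comm_one h3
    have hc0 : (c : F) ≠ 0 := cast_pm_ne hc
    set a : F := -(t / (c : F)) with ha
    obtain ⟨l1, e1⟩ := scal g1 h1 a
    obtain ⟨l2, e2⟩ := scal g2 h2 1
    have := congrArg (fun x => σ x w) (hrel a 1)
    simp only [map_mul, Module.End.mul_apply] at this
    rw [show (c : F) * -a * 1 = t by rw [ha]; field_simp, e1, map_smul, e2, smul_smul] at this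
    have h' : σ (Y.x g1 a) (σ (Y.x g2 1) w) = σ (Y.x g1 a) (σ (Y.x g2 1) (σ (Y.x g' t) w)) := by
      rw [← this, e2, map_smul, e1, smul_smul, mul_comm]
    exact (rho_inj σ _ (rho_inj σ _ h')).symm

/-- operators on a space of dimension at most two: a commutator commuting with both factors is a scalar -/
theorem scalar_of_comm {W : Type*} [AddCommGroup W] [Module ℂ W] [FiniteDimensional ℂ W]
    (hd : finrank ℂ W ≤ 2) {A B K : Module.End ℂ W} (hA : Commute K A) (hB : Commute K B)
    (hAinv : Function.Injective A) (hBinv : Function.Injective B) (h : B * A = A * B * K) :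
    ∃ l : ℂ, K = l • 1 := by
  by_cases hall : ∀ v : W, ¬ LinearIndependent ℂ ![v, K v]
  · -- every vector is an eigenvector
    by_cases hW : ∀ v : W, v = 0
    · exact ⟨1, LinearMap.ext fun v => by rw [hW v]; simp⟩
    push Not at hW
    obtain ⟨v, hv⟩ := hW
    have he : ∀ x : W, x ≠ 0 → ∃ l : ℂ, K x = l • x := fun x hx => by
      have := hall x
      rw [LinearIndependent.pair_iff' hx] at this
      push Not at this
      obtain ⟨l, hl⟩ := this
      exact ⟨l, hl.symm⟩
    obtain ⟨l, hl⟩ := he v hv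
    refine ⟨l, LinearMap.ext fun x => ?_⟩
    show K x = l • x
    by_cases hxv : LinearIndependent ℂ ![v, x]
    · have hx : x ≠ 0 := by simpa using hxv.ne_zero 1
      obtain ⟨p, hp⟩ := he x hx
      have hvx : v + x ≠ 0 := fun e => by
        have := (LinearIndependent.pair_iff.1 hxv 1 1 (by simpa using e)).1
        exact one_ne_zero this
      obtain ⟨r, hr⟩ := he (v + x) hvx
      rw [map_add, hl, hp] at hr
      have h2 := LinearIndependent.pair_iff.1 hxv (l - r) (p - r) (by
        rw [sub_smul, sub_smul]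
        linear_combination (norm := module) hr)
      rw [hp, sub_eq_zero.1 h2.2, sub_eq_zero.1 h2.1]
    · rw [LinearIndependent.pair_iff' hv] at hxv
      push Not at hxv
      obtain ⟨a, rfl⟩ := hxv
      rw [map_smul, hl, smul_comm]
  · push Not at hall
    obtain ⟨v, hv⟩ := hall
    have h2 : finrank ℂ W = 2 := le_antisymm hd (by simpa using hv.fintype_card_le_finrank)
    let bs := basisOfLinearIndependentOfCardEqFinrank hv (by simp [h2])
    have hbs : ⇑bs = ![v, K v] := coe_basisOfLinearIndependentOfCardEqFinrank ..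
    have poly : ∀ M : Module.End ℂ W, Commute K M → ∃ x y : ℂ, M = x • 1 + y • K := by
      intro M hM
      refine ⟨bs.repr (M v) 0, bs.repr (M v) 1, bs.ext fun i => ?_⟩
      have e : M v = bs.repr (M v) 0 • v + bs.repr (M v) 1 • K v := by
        conv_lhs => rw [← bs.sum_repr (M v)]
        rw [Fin.sum_univ_two, hbs]
        rfl
      rw [hbs]
      fin_cases i
      · simpa using e
      · have := congrArg (fun T : Module.End ℂ W => T v) hM.eq
        simp only [Module.End.mul_apply] at this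
        simp only [Fin.mk_one, Matrix.cons_val_one, Matrix.cons_val_fin_one, LinearMap.add_apply,
          LinearMap.smul_apply, Module.End.one_apply]
        rw [← this]
        conv_lhs => rw [e]
        rw [map_add, map_smul, map_smul]
    obtain ⟨x1, y1, e1⟩ := poly A hA
    obtain ⟨x2, y2, e2⟩ := poly B hB
    have hAB : Commute A B := by
      rw [e1, e2]
      exact ((Commute.one_left _).smul_left _).add_left
        ((((Commute.one_right K).smul_right _).add_right ((Commute.refl K).smul_right _)).smul_left _)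
    refine ⟨1, LinearMap.ext fun w => ?_⟩
    rw [one_smul, Module.End.one_apply]
    apply hBinv
    apply hAinv
    have := congrArg (fun T : Module.End ℂ W => T w) h
    rw [← hAB.eq] at this
    simpa only [Module.End.mul_apply] using this.symm

/-- roots acting by a scalar on a plane -/
def scal2OK (L : Rel) {n : ℕ} (S : Fin n → ℕ) (b : Fin n) (dec : List (ℕ × ℕ × ℕ)) (g : ℕ) : Bool :=
  dec.any fun d => d.1 == g && stabOK L S b d.2.1 && stabOK L S b d.2.2 && L.one d.2.1 d.2.2 g &&
    stabOK L S b g && L.zero g d.2.1 && L.zero g d.2.2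

/-- fixed roots on a plane -/
def fix2OK (L : Rel) {n : ℕ} (S : Fin n → ℕ) (b : Fin n) (dec : List (ℕ × ℕ × ℕ)) (g : ℕ) : Bool :=
  (co1 b).any (fun k => S k == g) ||
    dec.any fun d => d.1 == g && scal2OK L S b dec d.2.1 && scal2OK L S b dec d.2.2 && L.one d.2.1 d.2.2 g

theorem scal_plane {b : Fin n} {dec : List (ℕ × ℕ × ℕ)} {g : ℕ} (h : scal2OK L R.S b dec g = true) {u : F}
    (hd : finrank ℂ (Esp R σ (Pi.single b u)) ≤ 2) (t : F) :
    ∃ l : ℂ, ∀ w ∈ Esp R σ (Pi.single b u), σ (Y.x g t) w = l • w := by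
  simp only [scal2OK, List.any_eq_true, Bool.and_eq_true, beq_iff_eq] at h
  obtain ⟨⟨g', g1, g2⟩, -, ⟨⟨⟨⟨⟨rfl, h1⟩, h2⟩, h3⟩, h4⟩, h5⟩, h6⟩ := h
  obtain ⟨c, hc, -, hrel⟩ := Y.comm_one h3
  have hc0 : (c : F) ≠ 0 := cast_pm_ne hc
  set a : F := -(t / (c : F)) with ha
  set E := Esp R σ (Pi.single b u)
  let res : (r : ℕ) → stabOK L R.S b r = true → F → Module.End ℂ E :=
    fun r hr x => (σ (Y.x r x)).restrict fun v hv => stab_maps hr hv x
  have inj : ∀ r hr x, Function.Injective (res r hr x) := fun r hr x p q e =>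
    Subtype.ext (rho_inj σ _ (congrArg Subtype.val e))
  have hcm : ∀ r hr x, L.zero g' r = true → Commute (res g' h4 t) (res r hr x) := fun r hr x hz =>
    LinearMap.ext fun v => Subtype.ext (by
      show σ (Y.x g' t) (σ (Y.x r x) v) = σ (Y.x r x) (σ (Y.x g' t) v)
      rw [← Module.End.mul_apply, ← map_mul, (Y.comm_zero hz t x).eq, map_mul, Module.End.mul_apply])
  obtain ⟨l, hl⟩ := scalar_of_comm hd (hcm g1 h1 a h5) (hcm g2 h2 1 h6) (inj g1 h1 a) (inj g2 h2 1)
    (LinearMap.ext fun v => Subtype.ext (by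
      have := congrArg (fun x => σ x (v : V)) (hrel a 1)
      simp only [map_mul, Module.End.mul_apply] at this
      rw [show (c : F) * -a * 1 = t by rw [ha]; field_simp] at this
      exact this))
  exact ⟨l, fun w hw => congrArg (fun T : Module.End ℂ E => (T ⟨w, hw⟩ : V)) hl⟩

theorem fix_plane {b : Fin n} {dec : List (ℕ × ℕ × ℕ)} {g : ℕ} (h : fix2OK L R.S b dec g = true) {u : F}
    (hd : finrank ℂ (Esp R σ (Pi.single b u)) ≤ 2) {w : V} (hw : w ∈ Esp R σ (Pi.single b u))
    (t : F) : σ (Y.x g t) w = w := by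
  classical
  simp only [fix2OK, Bool.or_eq_true, List.any_eq_true, Bool.and_eq_true, beq_iff_eq] at h
  rcases h with ⟨k, hk, rfl⟩ | ⟨⟨g', g1, g2⟩, -, ⟨⟨rfl, h1⟩, h2⟩, h3⟩
  · rw [(mem_E R σ).1 hw k t]
    simp only [co1, List.mem_filter, decide_eq_true_eq] at hk
    rw [Pi.single_eq_of_ne hk.2, zero_mul, AddChar.map_zero_eq_one, one_smul]
  · obtain ⟨c, hc, -, hrel⟩ := Y.comm_one h3
    have hc0 : (c : F) ≠ 0 := cast_pm_ne hc
    set a : F := -(t / (c : F)) with ha
    obtain ⟨l1, e1⟩ := scal_plane h1 hd a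
    obtain ⟨l2, e2⟩ := scal_plane h2 hd 1
    have := congrArg (fun x => σ x w) (hrel a 1)
    simp only [map_mul, Module.End.mul_apply] at this
    rw [show (c : F) * -a * 1 = t by rw [ha]; field_simp, e1 w hw, map_smul, e2 w hw, smul_smul] at this
    have h' : σ (Y.x g1 a) (σ (Y.x g2 1) w) = σ (Y.x g1 a) (σ (Y.x g2 1) (σ (Y.x g' t) w)) := by
      rw [← this, e2 w hw, map_smul, e1 w hw, smul_smul, mul_comm]
    exact (rho_inj σ _ (rho_inj σ _ h')).symm

/-- derivations of roots from given ones -/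
def derivOK (L : Rel) (tgt : List ℕ) : List ℕ → List (ℕ × ℕ × ℕ) → Bool
  | K, [] => tgt.all fun r => K.contains r
  | K, (r, s, g) :: rest => K.contains s && L.one s g r && derivOK L tgt (r :: K) rest

theorem deriv_trivial : ∀ (l : List (ℕ × ℕ × ℕ)) (K tgt : List ℕ), derivOK L tgt K l = true →
    (∀ r ∈ K, ∀ t : F, σ (Y.x r t) = 1) → ∀ r ∈ tgt, ∀ t : F, σ (Y.x r t) = 1
  | [], K, tgt, h, hK, r, hr, t => by
    simp only [derivOK, List.all_eq_true, List.contains_iff_mem] at h
    exact hK r (h r hr) t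
  | (r, s, g) :: rest, K, tgt, h, hK, r', hr', t => by
    simp only [derivOK, Bool.and_eq_true, List.contains_iff_mem] at h
    refine deriv_trivial rest (r :: K) tgt h.2 (fun k hk u => ?_) r' hr' t
    rcases List.mem_cons.1 hk with rfl | hk
    · obtain ⟨c, hc, -, hrel⟩ := Y.comm_one h.1.2
      have hc0 : (c : F) ≠ 0 := cast_pm_ne hc
      have := congrArg σ (hrel (-(u / (c : F))) 1)
      rw [show (c : F) * - -(u / (c : F)) * 1 = u by field_simp] at this
      simp only [map_mul, hK s h.1.1, mul_one, one_mul] at this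
      have h2 : σ (Y.x g 1)⁻¹ * σ (Y.x g 1) = 1 := by rw [← map_mul, inv_mul_cancel, map_one]
      have h3 := congrArg (fun T => σ (Y.x g 1)⁻¹ * T) this
      rw [← mul_assoc, h2, one_mul] at h3
      exact h3.symm
    · exact hK k hk u

/-! ### the lemmas of a certificate -/

section TabLemmas

variable {T : Tab n} {R : Rad Y (n + 1)} (hR : R.S = T.S) (hpar : T.okPar L = true)
include hR hpar

theorem links (k : Fin (n + 1)) (hk : k ≠ 0) :
    (T.par k).1 < k ∧ linkOK L R.S (T.par k).2.2 (T.par k).2.1 k (T.par k).1 = true ∧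
      linkOK L R.S (T.par k).2.1 (T.par k).2.2 (T.par k).1 k = true := by
  simp only [Tab.okPar, List.all_eq_true, Bool.or_eq_true, Bool.and_eq_true, decide_eq_true_eq] at hpar
  rcases hpar k (List.mem_finRange k) with h | h
  · exact absurd h hk
  · exact hR ▸ ⟨h.1.1, h.1.2, h.2⟩

omit hR hpar in
theorem link {m g g' : ℕ} {a b : Fin (n + 1)} (h : linkOK L R.S g g' a b = true) {t u : F}
    (ht : t ≠ 0) (hu : u ≠ 0) (hc : Good R σ m (Pi.single a t)) : Good R σ m (Pi.single b u) := by
  classical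
  simp only [linkOK, Bool.and_eq_true] at h
  obtain ⟨c1, hc1, hb, hP⟩ := step_set h.1 hc (by simpa using ht)
    (fun l hl => by
      simp only [co1, List.mem_filter, decide_eq_true_eq] at hl
      exact Pi.single_eq_of_ne hl.2 _) u
  have hc1' : ∀ k, k ≠ b → c1 k = (Pi.single a t : Fin (n + 1) → F) k := fun k hk =>
    hP k (by simp [co1, hk])
  obtain ⟨c2, hc2, ha, hP2⟩ := step_set h.2 hc1 (hb ▸ hu)
    (fun l hl => by
      simp only [co2, List.mem_filter, decide_eq_true_eq] at hl
      rw [hc1' l hl.2.2]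
      exact Pi.single_eq_of_ne hl.2.1 _) 0
  convert hc2 using 1
  funext k
  by_cases hka : k = a
  · subst hka
    rw [ha]
    exact Pi.single_eq_of_ne (step_ne h.1) _
  · rw [hP2 k (by simp [co1, hka])]
    by_cases hkb : k = b
    · subst hkb; rw [hb, Pi.single_eq_same]
    · rw [hc1' k hkb, Pi.single_eq_of_ne hka, Pi.single_eq_of_ne hkb]

theorem root_down {m : ℕ} : ∀ (k : Fin (n + 1)) (t : F), t ≠ 0 → Good R σ m (Pi.single k t) →
    ∃ u : F, u ≠ 0 ∧ Good R σ m (Pi.single 0 u) := by
  intro k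
  induction k using WellFoundedLT.induction with
  | _ k ih =>
    intro t ht hg
    by_cases hk : k = 0
    · subst hk; exact ⟨t, ht, hg⟩
    · obtain ⟨h1, h2, -⟩ := links hR hpar k hk
      exact ih _ h1 1 one_ne_zero (link h2 ht one_ne_zero hg)

theorem root_up {m : ℕ} (hn : 1 ≤ n) {t : F} (ht : t ≠ 0) (hg : Good R σ m (Pi.single 0 t)) :
    ∀ (k : Fin (n + 1)) (u : F), u ≠ 0 → Good R σ m (Pi.single k u) := by
  have main : ∀ k : Fin (n + 1), k ≠ 0 → ∀ u : F, u ≠ 0 → Good R σ m (Pi.single k u) := by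
    intro k
    induction k using WellFoundedLT.induction with
    | _ k ih =>
      intro hk u hu
      obtain ⟨h1, -, h3⟩ := links hR hpar k hk
      by_cases hp : (T.par k).1 = 0
      · rw [hp] at h3
        exact link h3 ht hu hg
      · exact link h3 one_ne_zero hu (ih _ h1 hp 1 one_ne_zero)
  intro k u hu
  by_cases hk : k = 0
  · subst hk
    let one : Fin (n + 1) := ⟨1, by omega⟩
    have h10 : one ≠ 0 := fun e => one_ne_zero (congrArg Fin.val e)
    obtain ⟨h1, h2, -⟩ := links hR hpar one h10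
    have hp : (T.par one).1 = 0 := Fin.ext (Nat.lt_one_iff.1 h1)
    rw [hp] at h2
    exact link h2 one_ne_zero hu (main one h10 1 one_ne_zero)
  · exact main k hk u hu

theorem to_top : ∀ (k : Fin (n + 1)) {m : ℕ} (c : Fin (n + 1) → F), Good R σ m c → c k ≠ 0 →
    ∃ c', Good R σ m c' ∧ c' 0 ≠ 0 := by
  intro k
  induction k using WellFoundedLT.induction with
  | _ k ih =>
    intro m c hc hk
    by_cases h0 : k = 0
    · exact ⟨c, hc, h0 ▸ hk⟩
    · obtain ⟨h1, h2, -⟩ := links hR hpar k h0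
      simp only [linkOK, Bool.and_eq_true] at h2
      obtain ⟨hok, ⟨e, he, he0⟩, -⟩ := stepOK_iff (R := R) h2.1
      refine ih _ h1 (mv R (T.par k).2.2 ((c (T.par k).1 - 1) / ((e : F) * c k)) c) (good_mv hok _ hc) ?_
      rw [mv_some he]
      field_simp
      simp

variable (hlead : T.okLead L = true)
include hlead

theorem lead_chain (i : Fin (n + 1)) : chainOK L R.S i [] (below i) (T.lead i) = true := by
  simp only [Tab.okLead, List.all_eq_true] at hlead
  exact hR ▸ hlead i (List.mem_finRange i)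

variable (hfar : T.okFar L = true)
include hfar

omit hpar hlead hfar in
theorem path_reach {m : ℕ} {t : F} : ∀ (es : List (ℕ × Fin (n + 1) × Fin (n + 1))) (done : List (Fin (n + 1))),
    pathOK L R.S T.N done es = true →
    (∀ c : Fin (n + 1) → F, Good R σ m c → (∀ l ∈ T.N, c l = 0) → c 0 = t → (∃ k ∈ done, c k ≠ 0) →
      ∃ c', Good R σ m c' ∧ c' T.f0 ≠ 0 ∧ c' 0 = t ∧ ∀ l ∈ T.N, c' l = 0) →
    ∀ c : Fin (n + 1) → F, Good R σ m c → (∀ l ∈ T.N, c l = 0) → c 0 = t →
      (∃ k, (k ∈ done ∨ k ∈ es.map fun x => x.2.1) ∧ c k ≠ 0) →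
      ∃ c', Good R σ m c' ∧ c' T.f0 ≠ 0 ∧ c' 0 = t ∧ ∀ l ∈ T.N, c' l = 0
  | [], done, _, hd, c, hc, hN, ht, ⟨k, hk, hk0⟩ => hd c hc hN ht ⟨k, by simpa using hk, hk0⟩
  | e :: r, done, h, hd, c, hc, hN, ht, ⟨k, hk, hk0⟩ => by
    simp only [pathOK, Bool.and_eq_true, List.contains_iff_mem] at h
    refine path_reach r (e.2.1 :: done) h.2 (fun c hc hN ht hex => ?_) c hc hN ht ⟨k, ?_, hk0⟩
    · by_cases hex' : ∃ k ∈ done, c k ≠ 0
      · exact hd c hc hN ht hex'
      push Not at hex'
      obtain ⟨k, hk, hk0⟩ := hex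
      rcases List.mem_cons.1 hk with rfl | hk
      · obtain ⟨c', hc', hj, hP⟩ := step_set h.1.1 hc hk0 (fun l hl => by
          rcases List.mem_append.1 hl with hl | hl
          · exact hN l hl
          · exact hex' l hl) 1
        exact hd c' hc' (fun l hl => (hP l (List.mem_cons_of_mem _ hl)).trans (hN l hl))
          ((hP 0 (List.mem_cons_self ..)).trans ht) ⟨_, h.1.2, by rw [hj]; exact one_ne_zero⟩
      · exact absurd (hex' k hk) hk0
    · rcases hk with hk | hk
      · exact Or.inl (List.mem_cons_of_mem _ hk)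
      · rcases List.mem_cons.1 (by simpa only [List.map_cons] using hk) with rfl | hk
        · exact Or.inl (List.mem_cons_self ..)
        · exact Or.inr hk

theorem dichotomy (hn : 1 ≤ n) {i : Fin (n + 1)} {a : F} {v : V} (hv : σ (Y.x (T.S i) a) v ≠ v) :
    (∃ b : Fin (n + 1) → F, Good R σ 1 b ∧ b 0 ≠ 0 ∧ b T.f0 ≠ 0 ∧ (∀ l ∈ T.N, b l = 0) ∧
        ∀ p ∈ T.far, b p.2 = 0) ∨
      ∀ (k : Fin (n + 1)) (u : F), u ≠ 0 → Good R σ 1 (Pi.single k u) := by
  classical
  have hfar' := hfar
  simp only [Tab.okFar, Bool.and_eq_true, List.all_eq_true, Bool.or_eq_true, decide_eq_true_eq,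
    List.contains_iff_mem] at hfar'
  obtain ⟨⟨hcov, hpath⟩, hch⟩ := hfar'
  obtain ⟨c, hc0, hc⟩ := exists_char (R := R) (i := i) (a := a) (by rw [hR]; exact hv)
  obtain ⟨k, hk⟩ := Function.ne_iff.1 hc0
  obtain ⟨c1, hc1, h10⟩ := to_top hR hpar k c hc hk
  have hl0 := lead_chain hR hpar hlead 0
  have hb0 : below (0 : Fin (n + 1)) = [] := by simp [below]
  rw [hb0] at hl0
  obtain ⟨c2, hc2, -, hN0, h20, -⟩ := kill (R := R) (T.lead 0) [] hl0 c1 hc1 h10 (by simp)
  have hN : ∀ l ∈ T.N, c2 l = 0 := fun l hl => by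
    obtain ⟨p, hp, rfl⟩ := List.mem_map.1 hl
    exact hN0 p hp
  have ht0 : c2 0 ≠ 0 := h20 ▸ h10
  by_cases hF : ∀ k, k ≠ 0 → c2 k = 0
  · right
    refine root_up hR hpar hn ht0 ?_
    convert hc2 using 1
    funext k
    by_cases hk0 : k = 0
    · subst hk0; simp
    · rw [Pi.single_eq_of_ne hk0, hF k hk0]
  · left
    push Not at hF
    obtain ⟨f, hf0, hf⟩ := hF
    have hmem : f ∈ [T.f0] ∨ f ∈ T.path.map fun x => x.2.1 := by
      rcases hcov f (List.mem_finRange f) with ((h | h) | h) | h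
      · exact absurd h hf0
      · exact absurd (hN f h) hf
      · exact Or.inl (by simp [h])
      · exact Or.inr h
    obtain ⟨c3, hc3, h3f, h30, h3N⟩ := path_reach hR T.path [T.f0] (hR ▸ hpath)
      (fun c hc hN ht hex => by
        obtain ⟨k, hk, hk0⟩ := hex
        obtain rfl := List.mem_singleton.1 hk
        exact ⟨c, hc, hk0, ht, hN⟩) c2 hc2 hN rfl ⟨f, hmem, hf⟩
    obtain ⟨b, hb, hbN, hbfar, hbf, hbE⟩ := kill (R := R) T.far T.N (hR ▸ hch) c3 hc3 h3f h3N
    exact ⟨b, hb, by rw [hbE 0 (by simp), h30]; exact ht0, by rw [hbf]; exact h3f, hbN, hbfar⟩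

theorem far_bound {m : ℕ} {b : Fin (n + 1) → F} (hb : Good R σ m b) (h0 : b 0 ≠ 0) (hf0 : b T.f0 ≠ 0)
    (hN : ∀ l ∈ T.N, b l = 0) (hbf : ∀ p ∈ T.far, b p.2 = 0) :
    finrank ℂ (Esp R σ 0) + m * Fintype.card F ^ ((T.lead 0).length + T.far.length) ≤ finrank ℂ V := by
  classical
  have hfar' := hfar
  simp only [Tab.okFar, Bool.and_eq_true] at hfar'
  obtain ⟨A, hA, hAcard⟩ := spread (R := R) (σ := σ) (t := b T.f0) hf0 (fun _ => b 0) T.far T.N (hR ▸ hfar'.2) {b}
    (fun c hc => by
      obtain rfl := Finset.mem_singleton.1 hc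
      exact ⟨hb, hN, hbf, rfl, fun k hk => by obtain rfl := List.mem_singleton.1 hk; rfl⟩)
  have hl0 := lead_chain hR hpar hlead 0
  have hb0 : below (0 : Fin (n + 1)) = [] := by simp [below]
  rw [hb0] at hl0
  obtain ⟨B, hB, hBcard⟩ := spread (R := R) (σ := σ) h0 (fun _ => b 0) (T.lead 0) [] hl0 A (fun c hc => by
    obtain ⟨h1, h2, -, h4⟩ := hA c hc
    exact ⟨h1, by simp, fun p hp => h2 _ (List.mem_map.2 ⟨p, hp, rfl⟩), h4 0 (by simp), by simp⟩)
  have hz : (0 : Fin (n + 1) → F) ∉ B := fun h => h0 (hB 0 h).2.2.1.symm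
  have := le_dim B (fun c hc => (hB c hc).1) hz
  rw [Finset.card_singleton, mul_one] at hAcard
  rw [pow_add]
  exact le_trans (Nat.add_le_add_left (Nat.mul_le_mul_left _
    (le_trans (Nat.mul_le_mul_left _ hAcard) hBcard)) _) this

omit hfar in
theorem count {m : ℕ} (h : ∀ (k : Fin (n + 1)) (u : F), u ≠ 0 → Good R σ m (Pi.single k u)) :
    finrank ℂ (Esp R σ 0) + m * ((Fintype.card F - 1) *
      ∑ i : Fin (n + 1), Fintype.card F ^ (T.lead i).length) ≤ finrank ℂ V := by
  classical
  have hex : ∀ p : Fin (n + 1) × {t : F // t ≠ 0}, ∃ B : Finset (Fin (n + 1) → F),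
      (∀ c ∈ B, Good R σ m c ∧ (∀ l, l < p.1 → c l = 0) ∧ c p.1 = p.2) ∧
      Fintype.card F ^ (T.lead p.1).length ≤ B.card := by
    rintro ⟨i, t, ht⟩
    have hch := lead_chain hR hpar hlead i
    obtain ⟨B, hB, hcard⟩ := spread (R := R) (σ := σ) ht (fun _ => 0) (T.lead i) (below i) hch
      {Pi.single i t} (fun c hc => by
        obtain rfl := Finset.mem_singleton.1 hc
        refine ⟨h i t ht, fun l hl => ?_, fun p hp => ?_, by simp, by simp⟩
        · simp only [below, List.mem_filter, decide_eq_true_eq] at hl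
          exact Pi.single_eq_of_ne hl.2.ne _
        · refine Pi.single_eq_of_ne (fun e => ?_) _
          have key : ∀ (js : List (ℕ × Fin (n + 1))) Z, chainOK L R.S i [] Z js = true →
              ∀ q ∈ js, q.2 ≠ i := by
            intro js
            induction js with
            | nil => simp
            | cons q r ih =>
              intro Z hZ q' hq'
              simp only [chainOK, Bool.and_eq_true] at hZ
              rcases List.mem_cons.1 hq' with rfl | hq'
              · exact (step_ne hZ.1).symm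
              · exact ih _ hZ.2 q' hq'
          exact key _ _ hch p hp e)
    refine ⟨B, fun c hc => ⟨(hB c hc).1, fun l hl => (hB c hc).2.1 l (by simp [below, hl]), (hB c hc).2.2.1⟩, ?_⟩
    simpa using hcard
  choose B hB hcard using hex
  have hdisj : (↑(Finset.univ : Finset (Fin (n + 1) × {t : F // t ≠ 0})) :
      Set _).PairwiseDisjoint B := by
    intro p _ p' _ hne
    refine Finset.disjoint_left.2 fun c hc hc' => hne ?_
    obtain ⟨-, hz, hv⟩ := hB p c hc
    obtain ⟨-, hz', hv'⟩ := hB p' c hc'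
    have hi : p.1 = p'.1 := by
      rcases lt_trichotomy p.1 p'.1 with hlt | he | hlt
      · exact absurd ((hv.symm.trans (hz' _ hlt))) p.2.2
      · exact he
      · exact absurd ((hv'.symm.trans (hz _ hlt))) p'.2.2
    exact Prod.ext hi (Subtype.ext (by rw [← hv, ← hv', hi]))
  have hle := le_dim (R := R) (σ := σ) (Finset.univ.biUnion B) (m := m) (fun c hc => by
      obtain ⟨p, -, hp⟩ := Finset.mem_biUnion.1 hc
      exact (hB p c hp).1) (fun hc => by
      obtain ⟨p, -, hp⟩ := Finset.mem_biUnion.1 hc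
      exact p.2.2 ((hB p 0 hp).2.2.symm))
  refine le_trans (Nat.add_le_add_left (Nat.mul_le_mul_left _ ?_) _) hle
  rw [Finset.card_biUnion hdisj, Finset.mul_sum, Fintype.sum_prod_type]
  refine Finset.sum_le_sum fun i _ => ?_
  refine le_trans ?_ (Finset.sum_le_sum fun t _ => hcard (i, t))
  simp [Fintype.card_subtype_compl]

omit hfar in
/-- either the root characters are simple, or the dimension is large -/
theorem simple_or (hn : 1 ≤ n) (h : ∀ (k : Fin (n + 1)) (u : F), u ≠ 0 → Good R σ 1 (Pi.single k u)) :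
    finrank ℂ (Esp R σ 0) + 2 * ((Fintype.card F - 1) *
        ∑ i : Fin (n + 1), Fintype.card F ^ (T.lead i).length) ≤ finrank ℂ V ∨
      ∀ (k : Fin (n + 1)) (u : F), u ≠ 0 → finrank ℂ (Esp R σ (Pi.single k u)) = 1 := by
  by_cases h2 : ∀ (k : Fin (n + 1)) (u : F), u ≠ 0 → finrank ℂ (Esp R σ (Pi.single k u)) = 1
  · exact Or.inr h2
  · push Not at h2
    obtain ⟨k, u, hu, hne⟩ := h2
    have hg : Good R σ 2 (Pi.single k u) := by
      have := h k u hu
      simp only [Good] at this ⊢
      omega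
    obtain ⟨u0, hu0, hg0⟩ := root_down hR hpar k u hu hg
    exact Or.inl (count hR hpar hlead (root_up hR hpar hn hu0 hg0))

end TabLemmas

end Cfsg.Agent.RootChar68
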