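import Mathlib
import Cfsg.Prelude.Def_RootSubgroups

/-!
Elementary facts about sets of root involutions.
-/

set_option autoImplicit false

namespace Cfsg.Agent.RootInvol

open Cfsg

variable {G : Type*} [Group G] {D : Set G} {a b c d x y : G}

theorem mul_self (hD : IsRootInvolutionSet D) (hd : d ∈ D) : d * d = 1 := by
  rw [← pow_two, ← hD.orderOf_eq d hd]; exact pow_orderOf_eq_one d

theorem inv_eq (hD : IsRootInvolutionSet D) (hd : d ∈ D) : d⁻¹ = d :=
  inv_eq_of_mul_eq_one_right (mul_self hD hd)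

theorem ne_one (hD : IsRootInvolutionSet D) (hd : d ∈ D) : d ≠ 1 := fun h => by
  have := hD.orderOf_eq d hd
  rw [h, orderOf_one] at this
  omega

theorem conj_mem' (hD : IsRootInvolutionSet D) (hd : d ∈ D) (he : x ∈ D) : x * d * x ∈ D := by
  have := hD.conj_mem d hd x
  rwa [inv_eq hD he] at this

theorem orderOf_swap (a b : G) : orderOf (a * b) = orderOf (b * a) := by
  have h : (MulAut.conj b).toMonoidHom (a * b) = b * a := by simp [mul_assoc]
  rw [← h]; exact (orderOf_injective _ (MulAut.conj b).injective _).symm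

theorem ne_of_four (hD : IsRootInvolutionSet D) (hd : d ∈ D) (h : orderOf (d * y) = 4) : d ≠ y := by
  intro he
  rw [← he, mul_self hD hd, orderOf_one] at h
  omega

theorem not_comm_of_four (hD : IsRootInvolutionSet D) (hd : d ∈ D) (hy : y ∈ D)
    (h : orderOf (d * y) = 4) : d * y ≠ y * d := by
  intro hc
  have : orderOf (d * y) ∣ 2 := orderOf_dvd_of_pow_eq_one (by
    rw [(show Commute d y from hc).mul_pow, pow_two, pow_two, mul_self hD hd, mul_self hD hy, one_mul])
  rw [h] at this
  exact absurd (Nat.le_of_dvd two_pos this) (by norm_num)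

theorem eq_of_comm_odd (hD : IsRootInvolutionSet D) (ha : a ∈ D) (hb : b ∈ D) (hc : a * b = b * a)
    (h : Odd (orderOf (a * b))) : a = b := by
  have h1 : orderOf (a * b) ∣ 2 := orderOf_dvd_of_pow_eq_one (by
    rw [(show Commute a b from hc).mul_pow, pow_two, pow_two, mul_self hD ha, mul_self hD hb, one_mul])
  have h2 : orderOf (a * b) = 1 := Nat.Coprime.eq_one_of_dvd (Nat.coprime_two_right.2 h) h1
  rw [orderOf_eq_one_iff] at h2
  rw [← inv_eq hD hb]
  exact eq_inv_of_mul_eq_one_left h2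

/-- The three possibilities, the middle one excluding equality. -/
theorem cases3 (hD : IsRootInvolutionSet D) (ha : a ∈ D) (hb : b ∈ D) :
    a * b = b * a ∨ (Odd (orderOf (a * b)) ∧ a ≠ b ∧ a * b ≠ b * a) ∨
      (orderOf (a * b) = 4 ∧ a * b ≠ b * a) := by
  by_cases hc : a * b = b * a
  · exact Or.inl hc
  rcases hD.pair a ha b hb with h | h | h
  · exact absurd h hc
  · exact Or.inr (Or.inl ⟨h, fun he => hc (by rw [he]), hc⟩)
  · exact Or.inr (Or.inr ⟨h.1, hc⟩)

theorem odd_conj (hD : IsRootInvolutionSet D) (ha : a ∈ D) (hb : b ∈ D)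
    (h : Odd (orderOf (a * b))) : ∃ g ∈ Subgroup.closure ({a, b} : Set G), g * a * g⁻¹ = b := by
  obtain ⟨k, hk⟩ := h
  refine ⟨(a * b) ^ k, pow_mem (mul_mem (Subgroup.subset_closure (by simp))
    (Subgroup.subset_closure (by simp))) k, ?_⟩
  have h1 : ∀ j : ℕ, a * (a * b) ^ j = ((a * b) ^ j)⁻¹ * a := by
    intro j
    induction j with
    | zero => simp
    | succ j ih =>
      have e : a * (a * b) = (a * b)⁻¹ * a := by
        rw [mul_inv_rev, inv_eq hD ha, inv_eq hD hb, ← mul_assoc, mul_self hD ha, one_mul, mul_assoc,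
          mul_self hD ha, mul_one]
      rw [pow_succ, ← mul_assoc, ih, mul_assoc, e, ← mul_assoc, ← mul_inv_rev, ← pow_succ, pow_succ']
  have h2 := pow_orderOf_eq_one (a * b)
  rw [hk, pow_succ] at h2
  have h3 : a * ((a * b) ^ k)⁻¹ = (a * b) ^ k * a := by
    calc a * ((a * b) ^ k)⁻¹ = (a * b) ^ k * (((a * b) ^ k)⁻¹ * a) * ((a * b) ^ k)⁻¹ := by group
      _ = (a * b) ^ k * (a * (a * b) ^ k) * ((a * b) ^ k)⁻¹ := by rw [h1]
      _ = (a * b) ^ k * a := by group
  rw [mul_assoc, h3, ← mul_assoc, ← pow_add, ← two_mul, eq_inv_of_mul_eq_one_left h2, mul_inv_rev,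
    inv_eq hD ha, inv_eq hD hb, mul_assoc, mul_self hD ha, mul_one]

/-- `(1.1)`: a member commuting with `a` has no odd product with a member of a line through `a`. -/
theorem not_odd_of_line (hD : IsRootInvolutionSet D) (ha : a ∈ D) (hb : b ∈ D) (hab : a * b = b * a)
    (hc : a * b ∈ D) (hx : x ∈ D) (hxa : x * a = a * x) (h : Odd (orderOf (x * b))) : x = b := by
  by_contra hne
  have h1 : orderOf (x * b) ≠ 1 := by
    intro h1
    rw [orderOf_eq_one_iff] at h1
    exact hne (by rw [← inv_eq hD hb]; exact eq_inv_of_mul_eq_one_left h1)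
  have hct : Commute a (x * b) := (show Commute a x from hxa.symm).mul_right hab
  have ho : orderOf (x * (a * b)) = 2 * orderOf (x * b) := by
    rw [show x * (a * b) = a * (x * b) by rw [← mul_assoc, hxa, mul_assoc],
      hct.orderOf_mul_eq_mul_orderOf_of_coprime (by rw [hD.orderOf_eq a ha]; exact Nat.coprime_two_left.2 h),
      hD.orderOf_eq a ha]
  rcases cases3 hD hx hc with h2 | ⟨h2, -, -⟩ | ⟨h2, -⟩
  · have : orderOf (x * (a * b)) ∣ 2 := orderOf_dvd_of_pow_eq_one (by
      rw [(show Commute x (a * b) from h2).mul_pow, pow_two, pow_two, mul_self hD hx, mul_self hD hc, one_mul])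
    rw [ho] at this
    have := Nat.le_of_dvd two_pos this
    rcases h with ⟨j, hj⟩
    omega
  · rw [ho] at h2
    exact (Nat.not_odd_iff_even.2 (even_two_mul _)) h2
  · rw [ho] at h2
    rcases h with ⟨j, hj⟩
    omega

/-- The square in the order four case. -/
theorem four_facts (hD : IsRootInvolutionSet D) (hd : d ∈ D) (hy : y ∈ D) (h : orderOf (d * y) = 4) :
    (d * y) ^ 2 ∈ D ∧ d * (d * y) ^ 2 = (d * y) ^ 2 * d ∧ y * (d * y) ^ 2 = (d * y) ^ 2 * y ∧
      d * (d * y) ^ 2 = y * d * y ∧ y * (d * y) ^ 2 = d * y * d ∧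
      d * (d * y) ^ 2 ∈ D ∧ y * (d * y) ^ 2 ∈ D ∧ (d * y) ^ 2 = (y * d) ^ 2 := by
  have hm : (d * y) ^ 2 ∈ D := by
    rcases hD.pair d hd y hy with h1 | h1 | h1
    · exact absurd h1 (not_comm_of_four hD hd hy h)
    · rw [h] at h1; exact absurd h1 (by decide)
    · exact h1.2
  have hswap : (y * d) ^ 2 = ((d * y) ^ 2)⁻¹ := by
    rw [← inv_pow, mul_inv_rev, inv_eq hD hd, inv_eq hD hy]
  rw [inv_eq hD hm] at hswap
  have e1 : d * (d * y) ^ 2 = y * d * y := by
    rw [pow_two, show d * (d * y * (d * y)) = d * d * (y * d * y) by group, mul_self hD hd, one_mul]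
  have e2 : (d * y) ^ 2 * y = d * y * d := by
    rw [pow_two, mul_assoc, mul_assoc, mul_assoc, mul_self hD hy, mul_one, ← mul_assoc]
  have e3 : (d * y) ^ 2 * d = y * d * y := by
    rw [← hswap, pow_two, mul_assoc, mul_assoc, mul_assoc, mul_self hD hd, mul_one, ← mul_assoc]
  have e4 : y * (d * y) ^ 2 = d * y * d := by
    rw [← hswap, pow_two, show y * (y * d * (y * d)) = y * y * (d * y * d) by group, mul_self hD hy, one_mul]
  exact ⟨hm, e1.trans e3.symm, e4.trans e2.symm, e1, e4, e1 ▸ conj_mem' hD hd hy,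
    e4 ▸ conj_mem' hD hy hd, hswap.symm⟩

/-- If `x` has odd product with `b c` for commuting `b, c` then `x b, x c` are not both of order 4. -/
theorem not_both_four {b c x : G} (hb : b * b = 1) (hc : c * c = 1) (hx : x * x = 1)
    (hbc : b * c = c * b) (h1 : (b * x) ^ 4 = 1) (h2 : (c * x) ^ 4 = 1)
    (hodd : Odd (orderOf (b * c * x))) :
    (b * x) ^ 2 * (b * c * x) * (b * x) ^ 2 = (b * c * x)⁻¹ := by
  have ib : b⁻¹ = b := inv_eq_of_mul_eq_one_right hb
  have ic : c⁻¹ = c := inv_eq_of_mul_eq_one_right hc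
  have ix : x⁻¹ = x := inv_eq_of_mul_eq_one_right hx
  set t := (b * x) ^ 2 with ht
  set g := b * c * x with hg
  have htt : t * t = 1 := by rw [ht, ← pow_add]; exact h1
  have cb : ∀ z, c * (b * z) = b * (c * z) := fun z => by rw [← mul_assoc, ← hbc, mul_assoc]
  have bb : ∀ z, b * (b * z) = z := fun z => by rw [← mul_assoc, hb, one_mul]
  have cc : ∀ z, c * (c * z) = z := fun z => by rw [← mul_assoc, hc, one_mul]
  have xx : ∀ z, x * (x * z) = z := fun z => by rw [← mul_assoc, hx, one_mul]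
  have htx : t = x * b * x * b := by
    have : t = t⁻¹ := (inv_eq_of_mul_eq_one_right htt).symm
    rw [this, ht, ← inv_pow, mul_inv_rev, ib, ix, pow_two, ← mul_assoc]
  have hc4 : c * x * c * x = x * c * x * c := by
    have e : (c * x) ^ 2 = ((c * x) ^ 2)⁻¹ := by
      rw [eq_inv_iff_mul_eq_one, ← pow_add]; exact h2
    rw [← inv_pow, mul_inv_rev, ic, ix, pow_two, pow_two, ← mul_assoc, ← mul_assoc] at e
    exact e
  have hcx : ∀ z, c * (x * (c * (x * z))) = x * (c * (x * (c * z))) := fun z => by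
    have := congrArg (· * z) hc4
    simpa [mul_assoc] using this
  have key : t * (g * g) * t * (g * g) = 1 := by
    calc t * (g * g) * t * (g * g)
        = (b * (x * (b * (x * (b * (c * (x * (b * (c * (x * (x * (b * (x * (b * (b * (c * (x * (b * (c * x))))))))))))))))))) := by
          conv_lhs => arg 1; arg 2; rw [htx]
          rw [ht, hg, pow_two]; simp only [mul_assoc]
      _ = (b * (x * (b * (x * (b * (c * (x * (c * (x * (c * (x * (b * (c * x))))))))))))) := by
          simp only [xx, bb, cb]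
      _ = (b * (x * (b * (x * (b * (x * (c * (x * (c * (c * (x * (b * (c * x))))))))))))) := by
          rw [hcx]
      _ = (b * (x * (b * (x * (b * (x * (c * (b * (c * x))))))))) := by rw [cc, xx]
      _ = (b * x) ^ 4 := by
          rw [cb, cc, pow_succ, pow_succ, pow_succ, pow_one]; simp only [mul_assoc]
      _ = 1 := h1
  have key2 : t * (g * g) * t⁻¹ = (g * g)⁻¹ := by
    rw [inv_eq_of_mul_eq_one_right htt, eq_inv_iff_mul_eq_one]; exact key
  obtain ⟨k, hk⟩ := hodd
  have hgk : g = ((g * g) ^ k)⁻¹ := by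
    rw [eq_inv_iff_mul_eq_one, ← pow_two, ← pow_mul, ← pow_succ']
    rw [← hk]; exact pow_orderOf_eq_one g
  have key3 : t * g * t⁻¹ = g⁻¹ := by
    conv_lhs => rw [hgk]
    conv_rhs => rw [hgk]
    calc t * ((g * g) ^ k)⁻¹ * t⁻¹ = ((t * (g * g) * t⁻¹) ^ k)⁻¹ := by rw [conj_pow]; group
      _ = _ := by rw [key2, inv_pow]
  rwa [inv_eq_of_mul_eq_one_right htt] at key3

theorem not_both_four' (hD : IsRootInvolutionSet D) (hb : b ∈ D) (hc : c ∈ D) (hx : x ∈ D)
    (hbc : b * c = c * b) (hd : b * c ∈ D) (h1 : orderOf (b * x) = 4) (h2 : orderOf (c * x) = 4)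
    (hodd : Odd (orderOf (b * c * x))) : False := by
  have e1 : (b * x) ^ 4 = 1 := h1 ▸ pow_orderOf_eq_one _
  have e2 : (c * x) ^ 4 = 1 := h2 ▸ pow_orderOf_eq_one _
  have k1 := not_both_four (mul_self hD hb) (mul_self hD hc) (mul_self hD hx) hbc e1 e2 hodd
  have ib := inv_eq hD hb
  have ic := inv_eq hD hc
  have ix := inv_eq hD hx
  obtain ⟨ht, htb, htx, hte, -, -, -, hts⟩ := four_facts hD hb hx h1
  obtain ⟨hu, huc, hux, hue, -, -, -, -⟩ := four_facts hD hc hx h2
  set t := (b * x) ^ 2 with hTdef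
  have e3 : b * (t * c * t) * x = x * c * b := by
    calc b * (t * c * t) * x = (b * t) * c * (t * x) := by simp only [mul_assoc]
      _ = (t * b) * c * (x * t) := by rw [htb, htx]
      _ = t * (b * c * x) * t := by simp only [mul_assoc]
      _ = x * c * b := by rw [k1, mul_inv_rev, mul_inv_rev, ib, ic, ix, ← mul_assoc]
  have q1 : t = b * x * b * x := by rw [hTdef, pow_two, ← mul_assoc]
  have q2 : t = x * b * x * b := by rw [hts, pow_two, ← mul_assoc]
  have bb : ∀ z, b * (b * z) = z := fun z => by rw [← mul_assoc, mul_self hD hb, one_mul]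
  have xx : ∀ z, x * (x * z) = z := fun z => by rw [← mul_assoc, mul_self hD hx, one_mul]
  have e4 : b * (b * x * b * x * c * (x * b * x * b)) * x = x * c * b := by
    rw [← q1, ← q2]; exact e3
  have e5 : x * c * x * t = c := by
    calc x * c * x * t = b * (x * (b * (b * x * b * x * c * (x * b * x * b)) * x)) := by
          rw [q1]; simp only [mul_assoc, bb, xx]
      _ = b * (x * (x * c * b)) := by rw [e4]
      _ = c := by simp only [mul_assoc, xx]; rw [← hbc, ← mul_assoc, mul_self hD hb, one_mul]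
  have htu : (c * x) ^ 2 = t := by
    have e6 : t = x * c * x * c := by
      calc t = (x * c * x)⁻¹ * (x * c * x * t) := by group
        _ = x * c * x * c := by
          rw [e5, mul_inv_rev, mul_inv_rev, ic, ix, ← mul_assoc]
    calc (c * x) ^ 2 = (x * c * x * c)⁻¹ := by
          rw [mul_inv_rev, mul_inv_rev, mul_inv_rev, ic, ix, pow_two]; simp only [mul_assoc]
      _ = t := by rw [← e6, inv_eq hD ht]
  rw [htu] at huc hue
  have hdx : x * (b * c) * x = b * c := by
    calc x * (b * c) * x = x * b * (x * x) * c * x := by rw [mul_self hD hx, mul_one]; simp only [mul_assoc]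
      _ = (x * b * x) * (x * c * x) := by simp only [mul_assoc]
      _ = (b * t) * (c * t) := by rw [hte, hue]
      _ = b * c := by
        rw [huc, mul_assoc, ← mul_assoc t t, mul_self hD ht, one_mul]
  have hcomm : b * c * x = x * (b * c) := by
    conv_lhs => rw [← hdx]
    rw [mul_assoc, mul_self hD hx, mul_one]
  have hxd := eq_of_comm_odd hD hd hx hcomm hodd
  rw [← hxd, ← mul_assoc, mul_self hD hb, one_mul, hD.orderOf_eq c hc] at h1
  omega

end Cfsg.Agent.RootInvol
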