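import Cfsg.Agent.Lib.RootInvol
import Cfsg.Agent.Lib.BaerSuzuki
import Cfsg.Agent.Lib.TwoInvolutions
import Cfsg.Agent.Lib.HallCore

/-!
Components of the odd product graph on a set of root involutions.
-/

set_option autoImplicit false

namespace Cfsg.Agent.RootInvolComp

open Cfsg RootInvol

variable {G : Type*} [Group G] {D : Set G} {a b c : G}

theorem oddAdj_symm (h : OddAdj D a b) : OddAdj D b a :=
  ⟨h.2.1, h.1, h.2.2.1.symm, orderOf_swap a b ▸ h.2.2.2⟩

theorem reach_symm (h : Relation.ReflTransGen (OddAdj D) a b) :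
    Relation.ReflTransGen (OddAdj D) b a := by
  induction h with
  | refl => exact Relation.ReflTransGen.refl
  | tail _ h ih => exact (Relation.ReflTransGen.single (oddAdj_symm h)).trans ih

theorem comp_eq (h : Relation.ReflTransGen (OddAdj D) a b) :
    elemComponentOf (OddAdj D) D a = elemComponentOf (OddAdj D) D b := by
  ext z
  exact ⟨fun hz => ⟨hz.1, (reach_symm h).trans hz.2⟩, fun hz => ⟨hz.1, h.trans hz.2⟩⟩

theorem oddAdj_conj (hD : IsRootInvolutionSet D) (h : OddAdj D a b) (g : G) :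
    OddAdj D (g * a * g⁻¹) (g * b * g⁻¹) := by
  refine ⟨hD.conj_mem a h.1 g, hD.conj_mem b h.2.1 g, fun he => h.2.2.1 ?_, ?_⟩
  · exact mul_left_cancel (mul_right_cancel he)
  · rw [show g * a * g⁻¹ * (g * b * g⁻¹) = (MulAut.conj g).toMonoidHom (a * b) by simp [mul_assoc],
      orderOf_injective _ (MulAut.conj g).injective]
    exact h.2.2.2

theorem isolated_iff : IsIsolatedElem (OddAdj D) D a ↔ a ∈ D ∧ ∀ b, ¬ OddAdj D a b :=
  ⟨fun h => ⟨h.1, fun b => (h.2 b).1⟩, fun h => ⟨h.1, fun b => ⟨h.2 b, fun hh => h.2 b (oddAdj_symm hh)⟩⟩⟩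

theorem isolated_conj (hD : IsRootInvolutionSet D) (h : IsIsolatedElem (OddAdj D) D a) (g : G) :
    IsIsolatedElem (OddAdj D) D (g * a * g⁻¹) := by
  rw [isolated_iff] at h ⊢
  refine ⟨hD.conj_mem a h.1 g, fun b hb => h.2 (g⁻¹ * b * g) ?_⟩
  have := oddAdj_conj hD hb g⁻¹
  simpa [mul_assoc] using this

theorem exists_adj (ha : ∃ a' ∈ elemComponentOf (OddAdj D) D a, a' ≠ a) : ∃ f, OddAdj D a f := by
  obtain ⟨a', ⟨-, h⟩, hne⟩ := ha
  rcases Relation.ReflTransGen.cases_head h with h | ⟨f, hf, -⟩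
  · exact absurd h.symm hne
  · exact ⟨f, hf⟩

theorem normal_closure_isolated (hD : IsRootInvolutionSet D) :
    (Subgroup.closure {w | IsIsolatedElem (OddAdj D) D w}).Normal := by
  constructor
  intro n hn g
  induction hn using Subgroup.closure_induction with
  | mem w hw => exact Subgroup.subset_closure (isolated_conj hD hw g)
  | one => simp
  | mul u v _ _ hu hv => simpa [mul_assoc] using mul_mem hu hv
  | inv u _ hu => simpa [mul_assoc] using inv_mem hu

theorem isPGroup_closure_isolated [Finite G] (hD : IsRootInvolutionSet D) :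
    IsPGroup 2 ↥(Subgroup.closure {w | IsIsolatedElem (OddAdj D) D w}) := by
  haveI : Fact (Nat.Prime 2) := ⟨Nat.prime_two⟩
  refine (HallCore.isPGroup_pCore 2 G).to_le ?_
  rw [Subgroup.closure_le]
  intro w hw
  have hord := hD.orderOf_eq w hw.1
  obtain ⟨N, hN, hNp, hle⟩ := BaerSuzuki.exists_normal_pGroup_of_pairs (p := 2) (Subgroup.zpowers w)
    (IsPGroup.of_card (n := 1) (by rw [Nat.card_zpowers, hord, pow_one])) fun g => by
      have hmap : (Subgroup.zpowers w).map (MulAut.conj g).toMonoidHom = Subgroup.zpowers (g * w * g⁻¹) := by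
        rw [MonoidHom.map_zpowers]; simp
      rw [hmap, show Subgroup.zpowers w ⊔ Subgroup.zpowers (g * w * g⁻¹) =
        Subgroup.closure ({w, g * w * g⁻¹} : Set G) by
          rw [Subgroup.zpowers_eq_closure, Subgroup.zpowers_eq_closure, ← Subgroup.closure_union]; rfl]
      have hv := hD.conj_mem w hw.1 g
      rcases eq_or_ne w (g * w * g⁻¹) with he | he
      · rw [← he, Set.pair_eq_singleton, ← Subgroup.zpowers_eq_closure]
        exact IsPGroup.of_card (n := 1) (by rw [Nat.card_zpowers, hord, pow_one])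
      · obtain ⟨e⟩ := TwoInvolutions.nonempty_mulEquiv_dihedral hord (hD.orderOf_eq _ hv) he
        have hn : orderOf (w * (g * w * g⁻¹)) = 2 ∨ orderOf (w * (g * w * g⁻¹)) = 4 := by
          rcases cases3 hD hw.1 hv with h | ⟨h, -, -⟩ | ⟨h, -⟩
          · refine Or.inl (orderOf_eq_prime ?_ fun h1 => he ?_)
            · rw [(show Commute w (g * w * g⁻¹) from h).mul_pow, pow_two, pow_two,
                mul_self hD hw.1, mul_self hD hv, one_mul]
            · rw [← inv_eq hD hv]; exact eq_inv_of_mul_eq_one_left h1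
          · exact absurd ⟨hw.1, hv, he, h⟩ (hw.2 _).1
          · exact Or.inr h
        rcases hn with hn | hn <;> rw [hn] at e
        · exact IsPGroup.of_card (n := 2) (by rw [Nat.card_congr e.toEquiv, DihedralGroup.nat_card]; norm_num)
        · exact IsPGroup.of_card (n := 3) (by rw [Nat.card_congr e.toEquiv, DihedralGroup.nat_card]; norm_num)
  haveI := hN
  exact HallCore.le_pCore hNp (hle (Subgroup.mem_zpowers w))

theorem closure_isolated_inter [Finite G] (hD : IsRootInvolutionSet D) :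
    (Subgroup.closure {w | IsIsolatedElem (OddAdj D) D w} : Set G) ∩ D =
      {w | IsIsolatedElem (OddAdj D) D w} := by
  refine Set.Subset.antisymm ?_ fun w hw => ⟨Subgroup.subset_closure hw, hw.1⟩
  rintro d ⟨hdN, hd⟩
  refine isolated_iff.2 ⟨hd, fun e he => ?_⟩
  have hn := normal_closure_isolated hD
  have hmem : (d * e) ^ 2 ∈ Subgroup.closure {w | IsIsolatedElem (OddAdj D) D w} := by
    have h1 := mul_mem hdN (hn.conj_mem d hdN e)
    rwa [inv_eq hD he.2.1, ← mul_assoc, ← mul_assoc, mul_assoc (d * e) d e, ← pow_two] at h1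
  obtain ⟨k, hk⟩ := isPGroup_closure_isolated hD ⟨_, hmem⟩
  have h2 : (d * e) ^ (2 * 2 ^ k) = 1 := by
    rw [pow_mul]; exact (SubmonoidClass.coe_pow _ _).symm.trans (congrArg Subtype.val hk)
  have h3 : orderOf (d * e) = 1 := Nat.Coprime.eq_one_of_dvd
    ((Nat.coprime_two_right.2 he.2.2.2).mul_right
      ((Nat.coprime_two_right.2 he.2.2.2).pow_right k)) (orderOf_dvd_of_pow_eq_one h2)
  rw [orderOf_eq_one_iff] at h3
  exact he.2.2.1 (by rw [← inv_eq hD he.2.1]; exact eq_inv_of_mul_eq_one_left h3)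

/-- A member `b` of a line through a non-isolated `a` is isolated or in the component of `a`. -/
theorem line_component (hD : IsRootInvolutionSet D) {f : G} (haf : OddAdj D a f)
    (hb : b ∈ productPartners D a) :
    b ∈ elemComponentOf (OddAdj D) D a ∨ IsIsolatedElem (OddAdj D) D b := by
  by_cases hiso : IsIsolatedElem (OddAdj D) D b
  · exact Or.inr hiso
  obtain ⟨⟨hbD, hba, hne⟩, hc⟩ := hb
  rw [isolated_iff] at hiso
  simp only [hbD, true_and, not_forall, not_not] at hiso
  obtain ⟨e, he⟩ := hiso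
  have haD := haf.1
  have hab : a * b = b * a := hba.symm
  have aa := mul_self hD haD
  have bb := mul_self hD hbD
  refine Or.inl ⟨hbD, ?_⟩
  -- the third point `c = b a`
  have hcb : (b * a) * b = a := by rw [hba, mul_assoc, bb, mul_one]
  have hca : (b * a) * a = b := by rw [mul_assoc, aa, mul_one]
  have hbc : b * (b * a) = (b * a) * b := by rw [hcb, ← mul_assoc, bb, one_mul]
  have hac : a * (b * a) = (b * a) * a := by rw [hca, hba, ← mul_assoc, aa, one_mul]
  rcases cases3 hD he.2.1 haD with h | ⟨h, hne', -⟩ | ⟨h, -⟩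
  · exact absurd (not_odd_of_line hD haD hbD hab (hab ▸ hc) he.2.1 h (oddAdj_symm he).2.2.2)
      he.2.2.1.symm
  · exact (Relation.ReflTransGen.single (oddAdj_symm ⟨he.2.1, haD, hne', h⟩)).tail (oddAdj_symm he)
  -- `e` has odd product with `c`
  have hce : OddAdj D (b * a) e := by
    rcases cases3 hD he.2.1 hc with h' | ⟨h', hne', -⟩ | ⟨h', -⟩
    · exact absurd (not_odd_of_line hD hc hbD hbc.symm (hcb.symm ▸ haD) he.2.1 h'
        (oddAdj_symm he).2.2.2) he.2.2.1.symm
    · exact oddAdj_symm ⟨he.2.1, hc, hne', h'⟩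
    · exfalso
      refine not_both_four' hD haD hc he.2.1 hac ?_ (orderOf_swap e a ▸ h)
        (orderOf_swap e (b * a) ▸ h') ?_
      · rw [hac, hca]; exact hbD
      · rw [hac, hca]; exact he.2.2.2
  have hcb' : Relation.ReflTransGen (OddAdj D) (b * a) b :=
    (Relation.ReflTransGen.single hce).tail (oddAdj_symm he)
  rcases cases3 hD haf.2.1 hbD with h' | ⟨h', hne', -⟩ | ⟨h', -⟩
  · exact absurd (not_odd_of_line hD hbD haD hba hc haf.2.1 h' (oddAdj_symm haf).2.2.2) haf.2.2.1.symm
  · exact (Relation.ReflTransGen.single haf).tail ⟨haf.2.1, hbD, hne', h'⟩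
  rcases cases3 hD haf.2.1 hc with h'' | ⟨h'', hne'', -⟩ | ⟨h'', -⟩
  · exact absurd (not_odd_of_line hD hc haD hac.symm (hca.symm ▸ hbD) haf.2.1 h''
      (oddAdj_symm haf).2.2.2) haf.2.2.1.symm
  · exact ((Relation.ReflTransGen.single haf).tail ⟨haf.2.1, hc, hne'', h''⟩).trans hcb'
  · exfalso
    refine not_both_four' hD hbD hc haf.2.1 hbc ?_ (orderOf_swap f b ▸ h')
      (orderOf_swap f (b * a) ▸ h'') ?_
    · rw [hbc, hcb]; exact haD
    · rw [hbc, hcb]; exact haf.2.2.2

end Cfsg.Agent.RootInvolComp
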