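import Mathlib
import Cfsg.Prelude.Def_RootSubgroups
import Cfsg.Agent.Lib.RootInvol
import Cfsg.Agent.Lib.RootInvolComp
import Cfsg.Agent.Lib.ComponentsBasic

/-!
Root involutions: for `b f` of odd order, squaring products gives a bijection between the line
partners of `b` having product of order four with `f` and those of `f` with `b`; order three
products; equal odd partners force equal commuting members.
-/

set_option autoImplicit false
set_option linter.unusedSectionVars false

namespace Cfsg.Agent.RootInvolLines87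

open Cfsg RootInvol
open scoped commutatorElement

variable {G : Type*} [Group G] {D : Set G} {a b c d e f v w x y z : G}

theorem not_odd_line (hD : IsRootInvolutionSet D) (ha : a ∈ D) (hb : b ∈ productPartners D a)
    (hx : x ∈ D) (hxa : x * a = a * x) (h : Odd (orderOf (x * b))) : x = b :=
  not_odd_of_line hD ha hb.1.1 hb.1.2.1.symm (hb.1.2.1.symm ▸ hb.2) hx hxa h

theorem partner_symm (hD : IsRootInvolutionSet D) (ha : a ∈ D) (hb : b ∈ productPartners D a) :
    a ∈ productPartners D b :=
  ⟨⟨ha, hb.1.2.1.symm, hb.1.2.2.symm⟩, hb.1.2.1 ▸ hb.2⟩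

theorem odd_ne (hD : IsRootInvolutionSet D) (ha : a ∈ D) (hf : f ∈ oddPartners D a) : a * f ≠ f * a :=
  fun h => hf.2.1 (eq_of_comm_odd hD ha hf.1 h hf.2.2).symm

theorem odd_symm (ha : a ∈ D) (hf : f ∈ oddPartners D a) : a ∈ oddPartners D f :=
  ⟨ha, hf.2.1.symm, orderOf_swap a f ▸ hf.2.2⟩

theorem not_four_of_odd (hf : f ∈ oddPartners D a) : orderOf (a * f) ≠ 4 := fun h => by
  have := hf.2.2
  rw [h] at this
  exact absurd this (by decide)

/-- A member odd with `a` does not commute with a line partner of `a`. -/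
theorem not_comm_line (hD : IsRootInvolutionSet D) (ha : a ∈ D) (hb : b ∈ productPartners D a)
    (hf : f ∈ oddPartners D a) : f * b ≠ b * f := fun h =>
  hf.2.1 (not_odd_line hD hb.1.1 (partner_symm hD ha hb) hf.1 h (orderOf_swap a f ▸ hf.2.2))

theorem four_cases (hD : IsRootInvolutionSet D) (ha : a ∈ D) (hb : b ∈ D) (h1 : a * b ≠ b * a)
    (h2 : b ∉ oddPartners D a) : b ∈ fourPartners D a := by
  rcases cases3 hD ha hb with h | ⟨h, hne, -⟩ | ⟨h, -⟩
  · exact absurd h h1
  · exact absurd ⟨hb, hne.symm, h⟩ h2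
  · exact ⟨hb, h⟩

theorem square_partner (hD : IsRootInvolutionSet D) (hv : v ∈ D) (hf : f ∈ D) (h : orderOf (v * f) = 4) :
    (v * f) ^ 2 ∈ productPartners D v ∧ (v * f) ^ 2 ∈ productPartners D f := by
  obtain ⟨hm, h1, h2, -, -, h3, h4, -⟩ := four_facts hD hv hf h
  refine ⟨⟨⟨hm, h1.symm, fun e => ?_⟩, h1 ▸ h3⟩, ⟨⟨hm, h2.symm, fun e => ?_⟩, h2 ▸ h4⟩⟩
  · rw [e, mul_self hD hv] at h3; exact ne_one hD h3 rfl
  · rw [e, mul_self hD hf] at h4; exact ne_one hD h4 rfl

/-- Line partners of `b` having product of order four with `f`. -/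
def Y (D : Set G) (b f : G) : Set G := {v | v ∈ productPartners D b ∧ orderOf (v * f) = 4}

theorem odd_third (hD : IsRootInvolutionSet D) (hb : b ∈ D) (hf : f ∈ oddPartners D b) (hv : v ∈ Y D b f) :
    Odd (orderOf (b * v * f)) ∧ b * v ≠ f := by
  have hvb : v * b = b * v := hv.1.1.2.1
  have hc : b * v ∈ D := hvb ▸ hv.1.2
  have hcb : (b * v) * b = b * (b * v) := by rw [mul_assoc, hvb]
  have hmul : (b * v) * b = v := by rw [hcb, ← mul_assoc, mul_self hD hb, one_mul]
  have hpb : b * v ∈ productPartners D b := by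
    refine ⟨⟨hc, hcb, fun e => ?_⟩, hmul.symm ▸ hv.1.1.1⟩
    exact ne_one hD hv.1.1.1 (mul_eq_left.1 e)
  have hnc : f * (b * v) ≠ (b * v) * f := not_comm_line hD hb hpb hf
  have hne : b * v ≠ f := fun e => hnc (by rw [e])
  rcases cases3 hD hc hf.1 with h | ⟨h, -, -⟩ | ⟨h, -⟩
  · exact absurd h.symm hnc
  · exact ⟨h, hne⟩
  · exfalso
    have hcv : v * (b * v) = b := by rw [← hvb, ← mul_assoc, mul_self hD hv.1.1.1, one_mul]
    have hcv' : v * (b * v) = (b * v) * v := by
      rw [hcv, mul_assoc, mul_self hD hv.1.1.1, mul_one]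
    exact not_both_four' hD hv.1.1.1 hc hf.1 hcv' (hcv.symm ▸ hb) hv.2 h (hcv.symm ▸ hf.2.2)

theorem map_mem (hD : IsRootInvolutionSet D) (hb : b ∈ D) (hf : f ∈ oddPartners D b) (hv : v ∈ Y D b f) :
    (v * f) ^ 2 ∈ Y D f b := by
  obtain ⟨h1, h2⟩ := square_partner hD hv.1.1.1 hf.1 hv.2
  refine ⟨h2, orderOf_swap b _ ▸ (four_cases hD hb h2.1.1 ?_ ?_).2⟩
  · exact not_comm_line hD hf.1 h2 (odd_symm hb hf)
  · intro ho
    exact ho.2.1 (not_odd_line hD hv.1.1.1 h1 hb hv.1.1.2.1.symm ho.2.2).symm

theorem sandwich (hD : IsRootInvolutionSet D) (hv : v ∈ D) (hf : f ∈ D) : f * v * f = v * (v * f) ^ 2 := by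
  rw [pow_two, ← mul_assoc, ← mul_assoc v v f, mul_self hD hv, one_mul, mul_assoc]

/-- An odd element times a commuting involution is no product of two members. -/
theorem even_product (hD : IsRootInvolutionSet D) (hc : c ∈ D) (hf : f ∈ D) {g X : G} (hg : orderOf g = 2)
    (hcom : g * X = X * g) (hX : Odd (orderOf X)) (hX1 : X ≠ 1) (h : c * f = g * X) : False := by
  have ho : orderOf (c * f) = 2 * orderOf X := by
    rw [h, (show Commute g X from hcom).orderOf_mul_eq_mul_orderOf_of_coprime
      (by rw [hg]; exact Nat.coprime_two_left.2 hX), hg]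
  obtain ⟨j, hj⟩ := hX
  rcases hD.pair c hc f hf with h2 | h2 | ⟨h2, -⟩
  · have : orderOf (c * f) ∣ 2 := orderOf_dvd_of_pow_eq_one (by
      rw [(show Commute c f from h2).mul_pow, pow_two, pow_two, mul_self hD hc, mul_self hD hf, one_mul])
    rw [ho] at this
    have := Nat.le_of_dvd two_pos this
    exact hX1 (orderOf_eq_one_iff.1 (by omega))
  · rw [ho] at h2
    exact (Nat.not_odd_iff_even.2 (even_two_mul _)) h2
  · omega

theorem map_injOn (hD : IsRootInvolutionSet D) (hb : b ∈ D) (hf : f ∈ oddPartners D b) :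
    Set.InjOn (fun v => (v * f) ^ 2) (Y D b f) := by
  intro p hp q hq (he : (p * f) ^ 2 = (q * f) ^ 2)
  by_contra hne
  have hpD := hp.1.1.1
  have hqD := hq.1.1.1
  obtain ⟨hP, -⟩ := square_partner hD hpD hf.1 hp.2
  obtain ⟨hQ, -⟩ := square_partner hD hqD hf.1 hq.2
  rw [← he] at hQ
  obtain ⟨hX, hX1'⟩ := odd_third hD hb hf hp
  have hX1 : b * p * f ≠ 1 := fun e => hX1' (by
    rw [← inv_eq hD hf.1]; exact eq_inv_of_mul_eq_one_left e)
  have bp : b * p = p * b := hp.1.1.2.1.symm
  have bq : b * q = q * b := hq.1.1.2.1.symm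
  have ff := mul_self hD hf.1
  set t := (p * f) ^ 2 with ht
  have pt : p * t = t * p := hP.1.2.1.symm
  have qt : q * t = t * q := hQ.1.2.1.symm
  have tt : t * t = 1 := mul_self hD hP.1.1
  have fp : f * p * f = p * t := sandwich hD hpD hf.1
  have fq : f * q * f = q * t := by rw [he]; exact sandwich hD hqD hf.1
  -- a second partner with the same square, commuting with `p`
  have key : ∀ r : G, b * r = r * b → p * r = r * p → r * t = t * r → r * r = 1 → b * r ∈ D →
      f * r * f = r * t → r = p := by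
    intro r br pr rt rr hc hfr
    by_contra hrp
    have hg : orderOf (r * p) = 2 := by
      refine orderOf_eq_prime ?_ fun e => hrp ?_
      · rw [(show Commute r p from pr.symm).mul_pow, pow_two, pow_two, rr, mul_self hD hpD, one_mul]
      · rw [← inv_eq hD hpD]; exact eq_inv_of_mul_eq_one_left e
    have hgf : f * (r * p) * f = r * p := by
      calc f * (r * p) * f = (f * r * f) * (f * p * f) := by
            simp only [mul_assoc]; rw [← mul_assoc f f, ff, one_mul]
        _ = r * (t * p) * t := by rw [hfr, fp]; simp only [mul_assoc]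
        _ = r * p := by rw [← pt]; simp only [mul_assoc, tt, mul_one]
    have c1 : Commute (r * p) f := by
      show r * p * f = f * (r * p)
      conv_rhs => rw [← mul_one (f * (r * p)), ← ff, ← mul_assoc, hgf]
    have c2 : Commute (r * p) b := (show Commute r b from br.symm).mul_left (show Commute p b from bp.symm)
    have c3 : Commute (r * p) p := (show Commute r p from pr.symm).mul_left (Commute.refl p)
    refine even_product hD hc hf.1 hg ((c2.mul_right c3).mul_right c1).eq hX hX1 ?_
    calc b * r * f = r * (p * p) * b * f := by rw [mul_self hD hpD, mul_one, br]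
      _ = r * p * (p * b * f) := by simp only [mul_assoc]
      _ = r * p * (b * p * f) := by rw [bp]
  by_cases hpq : p * q = q * p
  · exact hne (key q bq hpq qt (mul_self hD hqD) (bq ▸ hq.1.2) fq).symm
  · have h4 : orderOf (p * q) = 4 := by
      rcases cases3 hD hpD hqD with h | ⟨h, -, -⟩ | ⟨h, -⟩
      · exact absurd h hpq
      · exact absurd (not_odd_line hD hb hq.1 hpD bp.symm h) hne
      · exact h
    obtain ⟨hu, hpu, -, hqpq, -, -, -, -⟩ := four_facts hD hpD hqD h4
    have hr : q * p * q = p := by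
      refine key (q * p * q) ?_ ?_ ?_ ?_ ?_ ?_
      · rw [← mul_assoc, ← mul_assoc, bq, mul_assoc q b p, bp]
        simp only [mul_assoc, bq]
      · rw [← hqpq]
        exact ((Commute.refl p).mul_right (show Commute p _ from hpu)).eq
      · exact (((show Commute q t from qt).mul_left (show Commute p t from pt)).mul_left
          (show Commute q t from qt)).eq
      · exact mul_self hD (conj_mem' hD hpD hqD)
      · have h5 := conj_mem' hD (hp.1.2) hqD
        have e5 : q * (p * b) * q = b * (q * p * q) := by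
          calc q * (p * b) * q = q * (b * p) * q := by rw [bp]
            _ = (q * b) * p * q := by simp only [mul_assoc]
            _ = (b * q) * p * q := by rw [bq]
            _ = b * (q * p * q) := by simp only [mul_assoc]
        rwa [e5] at h5
      · calc f * (q * p * q) * f = (f * q * f) * (f * p * f) * (f * q * f) := by
              simp only [mul_assoc]; simp only [← mul_assoc f f, ff, one_mul]
          _ = q * t * (p * t) * (q * t) := by rw [fq, fp]
          _ = q * p * q * t := by
              rw [show q * t * (p * t) = q * p by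
                rw [mul_assoc, ← mul_assoc t, ← pt, mul_assoc p, tt, mul_one]]
              simp only [mul_assoc]
    apply hpq
    calc p * q = q * p * q * q := by rw [hr]
      _ = q * p := by rw [mul_assoc _ q q, mul_self hD hqD, mul_one]

theorem map_surj [Finite G] (hD : IsRootInvolutionSet D) (hb : b ∈ D) (hf : f ∈ oddPartners D b)
    (hv : v ∈ Y D b f) : ∃ y ∈ Y D f b, (y * b) ^ 2 = v := by
  have hf' := odd_symm hb hf
  let φ : G → G := fun u => ((u * f) ^ 2 * b) ^ 2
  have hmaps : Set.MapsTo φ (Y D b f) (Y D b f) := fun u hu =>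
    map_mem hD hf.1 hf' (map_mem hD hb hf hu)
  have hinj : Set.InjOn φ (Y D b f) := fun p hp q hq h =>
    map_injOn hD hb hf hp hq (map_injOn hD hf.1 hf' (map_mem hD hb hf hp) (map_mem hD hb hf hq) h)
  obtain ⟨u, hu, he⟩ :=
    ((Set.toFinite (Y D b f)).injOn_iff_bijOn_of_mapsTo hmaps).1 hinj |>.surjOn hv
  exact ⟨_, map_mem hD hb hf hu, he⟩

/-- Two members acting as different transpositions on a line have product of order three. -/
theorem order_three (hD : IsRootInvolutionSet D) (ha : a ∈ D) (hv : v ∈ D) (hy : y ∈ D)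
    (hav : orderOf (a * v) = 4) (hab : (a * v) ^ 2 = b) (hby : orderOf (b * y) = 4)
    (hbv : (b * y) ^ 2 = v) : orderOf (a * y) = 3 := by
  obtain ⟨hb, hab', hvb, e1, -, h1, -, -⟩ := four_facts hD ha hv hav
  rw [hab] at hb hab' hvb e1 h1
  obtain ⟨-, hbv', hyv, e3, -, -, -, -⟩ := four_facts hD hb hy hby
  rw [hbv] at hbv' hyv e3
  have bb := mul_self hD hb
  have aa := mul_self hD ha
  have yy := mul_self hD hy
  have vv := mul_self hD hv
  -- the action on the line
  have A1 : a * b * a = b := by rw [hab', mul_assoc, aa, mul_one]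
  have A2 : a * v * a = b * v := by
    rw [← hab, pow_two]; simp only [mul_assoc, vv, mul_one]
  have Y1 : y * b * y = b * v := e3.symm
  have Y2 : y * v * y = v := by rw [hyv, mul_assoc, yy, mul_one]
  have hvne : v ≠ b := fun e => not_comm_of_four hD ha hv hav (by rw [e]; exact hab')
  have hbvne : b * v ≠ b := fun e => ne_one hD hv (mul_eq_left.1 e)
  rcases cases3 hD ha hy with h | ⟨h, hne, -⟩ | ⟨h, -⟩
  · exfalso
    have e : a * v * a = v * b := by rw [A2, hbv']
    have hby' : b * y = y * b := by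
      rw [← hab, pow_two]
      have c : Commute y (a * v) := (show Commute y a from h.symm).mul_right (show Commute y v from hyv)
      exact (c.mul_right c).eq.symm
    exact not_comm_of_four hD hb hy hby hby'
  · have ht : y * a * y ∈ D := conj_mem' hD ha hy
    have ht' : a * y * a ∈ D := conj_mem' hD hy ha
    have hbvD : b * v ∈ D := A2 ▸ conj_mem' hD hv ha
    have c1 : (y * a * y) * (b * v) = (b * v) * (y * a * y) := by
      rw [← Y1]
      calc y * a * y * (y * b * y) = y * (a * (y * y) * b) * y := by simp only [mul_assoc]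
        _ = y * (b * (y * y) * a) * y := by rw [yy, mul_one, mul_one, hab']
        _ = y * b * y * (y * a * y) := by simp only [mul_assoc]
    have c2 : (a * y * a) * (b * v) = (b * v) * (a * y * a) := by
      rw [← A2]
      calc a * y * a * (a * v * a) = a * (y * (a * a) * v) * a := by simp only [mul_assoc]
        _ = a * (v * (a * a) * y) * a := by rw [aa, mul_one, mul_one, hyv]
        _ = a * v * a * (a * y * a) := by simp only [mul_assoc]
    have hp : y * a * y * (b * v) ∈ D := by
      rw [← Y1, show y * a * y * (y * b * y) = y * (a * b) * y by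
        calc y * a * y * (y * b * y) = y * (a * (y * y) * b) * y := by simp only [mul_assoc]
          _ = _ := by rw [yy, mul_one]]
      exact conj_mem' hD h1 hy
    have hne' : y * a * y ≠ b * v := by
      intro e
      rw [← Y1] at e
      have : a = b := mul_left_cancel (mul_right_cancel e)
      rw [this] at hab'
      exact ne_one hD h1 (by rw [this, bb])
    have hodd : Odd (orderOf ((a * y * a) * (y * a * y))) := by
      rw [show (a * y * a) * (y * a * y) = (a * y) ^ 3 by
        simp only [pow_succ, pow_zero, one_mul, mul_assoc]]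
      exact h.of_dvd_nat (orderOf_pow_dvd 3)
    have heq : a * y * a = y * a * y :=
      not_odd_line hD hbvD ⟨⟨ht, c1, hne'⟩, hp⟩ ht' c2 hodd
    refine orderOf_eq_prime ?_ fun e => hne ?_
    · rw [show (a * y) ^ 3 = (a * y * a) * (y * a * y) by simp only [pow_succ, pow_zero, one_mul, mul_assoc],
        heq, mul_self hD ht]
    · rw [← inv_eq hD hy]; exact eq_inv_of_mul_eq_one_left e
  · exfalso
    have h4 : (a * y) ^ 4 = 1 := h ▸ pow_orderOf_eq_one _
    -- `a y` acts on the line as a three cycle
    have K : ∀ u, (MulAut.conj (a * y)) u = a * (y * u * y) * a := fun u => by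
      simp only [MulAut.conj_apply, mul_inv_rev, inv_eq hD ha, inv_eq hD hy, mul_assoc]
    have mulA : ∀ p q : G, a * (p * q) * a = (a * p * a) * (a * q * a) := fun p q => by
      simp only [mul_assoc]; rw [← mul_assoc a a, aa, one_mul]
    have mulY : ∀ p q : G, y * (p * q) * y = (y * p * y) * (y * q * y) := fun p q => by
      simp only [mul_assoc]; rw [← mul_assoc y y, yy, one_mul]
    have k1 : (MulAut.conj (a * y)) b = v := by
      rw [K, Y1, mulA, A1, A2, ← mul_assoc, bb, one_mul]
    have k2 : (MulAut.conj (a * y)) v = b * v := by rw [K, Y2, A2]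
    have k3 : (MulAut.conj (a * y)) (b * v) = b := by
      rw [map_mul, k1, k2, hbv', ← mul_assoc, vv, one_mul]
    have h5 : (MulAut.conj ((a * y) ^ 4)) b = b := by rw [h4, map_one]; rfl
    rw [map_pow] at h5
    simp only [pow_succ, pow_zero, one_mul, MulAut.mul_apply, k1, k2, k3] at h5
    exact hvne h5

theorem conj_odd (hD : IsRootInvolutionSet D) (g a : G) :
    oddPartners D (g * a * g⁻¹) = MulAut.conj g '' oddPartners D a := by
  have key : ∀ (g a u : G), u ∈ oddPartners D a → g * u * g⁻¹ ∈ oddPartners D (g * a * g⁻¹) := by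
    intro g a u hu
    refine ⟨hD.conj_mem u hu.1 g, fun e => hu.2.1 (mul_left_cancel (mul_right_cancel e)), ?_⟩
    rw [show g * a * g⁻¹ * (g * u * g⁻¹) = (MulAut.conj g).toMonoidHom (a * u) by simp [mul_assoc],
      orderOf_injective _ (MulAut.conj g).injective]
    exact hu.2.2
  ext u
  refine ⟨fun hu => ⟨g⁻¹ * u * g, ?_, by simp [mul_assoc]⟩, ?_⟩
  · have := key g⁻¹ _ u hu
    simpa [mul_assoc] using this
  · rintro ⟨t, ht, rfl⟩
    exact key g a t ht

theorem conj_odd_eq (hD : IsRootInvolutionSet D) (g : G) (h : oddPartners D a = oddPartners D b) :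
    oddPartners D (g * a * g⁻¹) = oddPartners D (g * b * g⁻¹) := by
  rw [conj_odd hD, conj_odd hD, h]

theorem odd_fix (hD : IsRootInvolutionSet D) (ha : a ∈ D) (hz : z ∈ D) (hza : z * a = a * z) :
    z * a * z⁻¹ = a := by rw [hza, mul_inv_cancel_right]

theorem card_odd (hD : IsRootInvolutionSet D) (hc : IsConnectedSet (OddAdj D) D) (ha : a ∈ D) (hb : b ∈ D) :
    (oddPartners D b).ncard = (oddPartners D a).ncard := by
  have h := hc a ha b hb
  clear hb
  induction h with
  | refl => rfl
  | @tail p q _ h ih =>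
    obtain ⟨g, -, hg⟩ := odd_conj hD h.1 h.2.1 h.2.2.2
    rw [← hg, conj_odd hD, Set.ncard_image_of_injective _ (MulAut.conj g).injective, ih]

theorem conjugate (hD : IsRootInvolutionSet D) (hc : IsConnectedSet (OddAdj D) D) (ha : a ∈ D) (hb : b ∈ D) :
    ∃ g : G, g * a * g⁻¹ = b := by
  have h := hc a ha b hb
  clear hb
  induction h with
  | refl => exact ⟨1, by simp⟩
  | @tail p q _ h ih =>
    obtain ⟨g, rfl⟩ := ih
    obtain ⟨g', -, hg'⟩ := odd_conj hD h.1 h.2.1 h.2.2.2
    exact ⟨g' * g, by rw [← hg']; group⟩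

variable [Finite G]

theorem odd_eq_of_subset (hD : IsRootInvolutionSet D) (hc : IsConnectedSet (OddAdj D) D) (ha : a ∈ D)
    (hb : b ∈ D) (h : oddPartners D a ⊆ oddPartners D b) : oddPartners D a = oddPartners D b :=
  Set.eq_of_subset_of_ncard_le h (card_odd hD hc ha hb).le (Set.toFinite _)

/-- Two members of a line with equal odd partners: the third has the same. -/
theorem line_closed (hD : IsRootInvolutionSet D) (hc : IsConnectedSet (OddAdj D) D) (ha : a ∈ D)
    (hq : b ∈ productPartners D a) (h : oddPartners D (a * b) = oddPartners D a) :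
    oddPartners D b = oddPartners D a := by
  refine odd_eq_of_subset hD hc hq.1.1 ha fun f hf => ?_
  by_contra hfa
  have h4 := four_cases hD ha hf.1 (fun e => not_comm_line hD hq.1.1 (partner_symm hD ha hq) hf e.symm) hfa
  obtain ⟨z, hz, hze⟩ := map_surj hD hq.1.1 hf (v := a) ⟨partner_symm hD ha hq, h4.2⟩
  obtain ⟨hab, -⟩ := square_partner hD hz.1.1.1 hq.1.1 hz.2
  rw [hze] at hab
  have hfix := odd_fix hD ha hz.1.1.1 hab.1.2.1.symm
  have hzb : z * (a * b) * z⁻¹ = b := by
    calc z * (a * b) * z⁻¹ = (z * a * z⁻¹) * (z * b * z⁻¹) := by group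
      _ = a * (z * b * z) := by rw [hfix, inv_eq hD hz.1.1.1]
      _ = a * (a * b) := by
          conv_rhs => arg 2; arg 1; rw [← hze, pow_two]
          simp only [mul_assoc, mul_self hD hq.1.1, mul_one]
      _ = b := by rw [← mul_assoc, mul_self hD ha, one_mul]
  have := conj_odd_eq hD z h
  rw [hzb, hfix] at this
  exact hfa (this ▸ hf)

/-- Members with equal odd partners commute. -/
theorem comm_of_odd_eq (hD : IsRootInvolutionSet D) (hc : IsConnectedSet (OddAdj D) D) (ha : a ∈ D)
    (hb : b ∈ D) (h : oddPartners D a = oddPartners D b) : a * b = b * a := by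
  by_contra hne
  set T : Set G := {t | t ∈ D ∧ oddPartners D t = oddPartners D a} with hT
  set P := Subgroup.closure T with hP
  have nadj : ∀ p ∈ T, ∀ q ∈ T, Odd (orderOf (p * q)) → p = q := by
    intro p hp q hq ho
    by_contra hpq
    have h1 : q ∈ oddPartners D p := ⟨hq.1, fun e => hpq e.symm, ho⟩
    rw [hp.2, ← hq.2] at h1
    exact h1.2.1 rfl
  have sq : ∀ p ∈ T, ∀ q ∈ T, orderOf (p * q) = 4 → (p * q) ^ 2 ∈ T := by
    intro p hp q hq h4
    obtain ⟨hP1, -⟩ := square_partner hD hp.1 hq.1 h4
    refine ⟨hP1.1.1, ?_⟩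
    rw [← hp.2]
    refine line_closed hD hc hp.1 hP1 ?_
    have e : p * (p * q) ^ 2 = q * p * q⁻¹ := by
      rw [inv_eq hD hq.1, pow_two, ← mul_assoc, ← mul_assoc p p, mul_self hD hp.1, one_mul, mul_assoc]
    have := conj_odd_eq hD q (hp.2.trans hq.2.symm)
    rw [mul_inv_cancel_right, hq.2, ← hp.2] at this
    rw [e, this]
  -- `T` is a set of root involutions of the group it generates, all isolated
  let T' : Set P := {t | (t : G) ∈ T}
  have hgen : Subgroup.closure T' = ⊤ := Subgroup.closure_closure_coe_preimage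
  have hconj : ∀ t ∈ T, ∀ g ∈ P, g * t * g⁻¹ ∈ T := by
    intro t ht g hg
    induction hg using Subgroup.closure_induction generalizing t with
    | mem q hq =>
      refine ⟨hD.conj_mem t ht.1 q, ?_⟩
      rw [conj_odd_eq hD q (ht.2.trans hq.2.symm), mul_inv_cancel_right, hq.2]
    | one => simpa using ht
    | mul p q _ _ hp hq => simpa [mul_assoc] using hp _ (hq _ ht)
    | inv p _ hp =>
      have hfin : Set.MapsTo (fun u => p * u * p⁻¹) T T := fun u hu => hp u hu
      obtain ⟨u, hu, he⟩ := ((Set.toFinite T).injOn_iff_bijOn_of_mapsTo hfin).1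
        (fun r _ s _ e => mul_left_cancel (mul_right_cancel e)) |>.surjOn ht
      subst he
      simpa [mul_assoc] using hu
  have hT' : IsRootInvolutionSet T' := by
    refine ⟨fun t ht => ?_, hgen, fun t ht g => hconj t.1 ht g.1 g.2, fun p hp q hq => ?_⟩
    · rw [← Subgroup.orderOf_coe]; exact hD.orderOf_eq _ ht.1
    · rcases hD.pair p.1 hp.1 q.1 hq.1 with h1 | h1 | h1
      · exact Or.inl (Subtype.ext h1)
      · exact Or.inr (Or.inl (by rwa [← Subgroup.orderOf_coe, Subgroup.coe_mul]))
      · refine Or.inr (Or.inr ⟨by rw [← Subgroup.orderOf_coe, Subgroup.coe_mul]; exact h1.1, ?_⟩)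
        exact sq p.1 hp q.1 hq h1.1
  have hiso : T' ⊆ {w | IsIsolatedElem (OddAdj T') T' w} := fun t ht => by
    refine RootInvolComp.isolated_iff.2 ⟨ht, fun u hu => hu.2.2.1 (Subtype.ext ?_)⟩
    refine nadj t.1 ht u.1 hu.2.1 ?_
    rw [← Subgroup.coe_mul, Subgroup.orderOf_coe]
    exact hu.2.2.2
  have hPG : IsPGroup 2 P := by
    have h1 := RootInvolComp.isPGroup_closure_isolated hT'
    rw [show Subgroup.closure {w | IsIsolatedElem (OddAdj T') T' w} = ⊤ from
      top_le_iff.1 (hgen.ge.trans (Subgroup.closure_mono hiso))] at h1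
    exact h1.of_equiv Subgroup.topEquiv
  -- all of `T` lies in the derived group
  have haT : a ∈ T := ⟨ha, rfl⟩
  have hbT : b ∈ T := ⟨hb, h.symm⟩
  have h4 : orderOf (a * b) = 4 := by
    rcases cases3 hD ha hb with h1 | ⟨h1, hab, -⟩ | ⟨h1, -⟩
    · exact absurd h1 hne
    · exact absurd (nadj a haT b hbT h1) hab
    · exact h1
  have hn : (a * b) ^ 2 ∈ ⁅P, P⁆ := by
    have := Subgroup.commutator_mem_commutator (Subgroup.subset_closure haT : a ∈ P)
      (Subgroup.subset_closure hbT : b ∈ P)
    rwa [commutatorElement_def, inv_eq hD ha, inv_eq hD hb, mul_assoc (a * b) a b, ← pow_two] at this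
  have hnT := sq a haT b hbT h4
  have hperf : ⁅P, P⁆ = P := by
    refine le_antisymm (Subgroup.commutator_le_self P) ((Subgroup.closure_le _).2 fun t ht => ?_)
    obtain ⟨g, rfl⟩ := conjugate hD hc hnT.1 ht.1
    have hgT : ∀ u ∈ T, g * u * g⁻¹ ∈ T := fun u hu => by
      refine ⟨hD.conj_mem u hu.1 g, ?_⟩
      rw [conj_odd_eq hD g (hu.2.trans hnT.2.symm), ht.2]
    have hgP : P.map (MulAut.conj g).toMonoidHom ≤ P := by
      rw [hP, MonoidHom.map_closure]
      exact Subgroup.closure_mono (Set.image_subset_iff.2 hgT)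
    have := Subgroup.mem_map_of_mem (MulAut.conj g).toMonoidHom hn
    rw [Subgroup.map_commutator] at this
    exact Subgroup.commutator_mono hgP hgP this
  haveI : Fact (Nat.Prime 2) := ⟨Nat.prime_two⟩
  haveI := hPG.isNilpotent
  haveI : Group.IsSolvable P := inferInstance
  have hbot := ComponentsBasic.perfect_eq_bot_of_le_solvable hperf le_rfl
  have : a ∈ (⊥ : Subgroup G) := hbot ▸ Subgroup.subset_closure haT
  exact ne_one hD ha (Subgroup.mem_bot.1 this)

/-- Members with equal odd partners commute with the same members. -/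
theorem commuting_subset (hD : IsRootInvolutionSet D) (hc : IsConnectedSet (OddAdj D) D) (hd : d ∈ D)
    (he : e ∈ D) (h : oddPartners D d = oddPartners D e) : commutingMembers D d ⊆ commutingMembers D e := by
  rintro z ⟨hz, hzd⟩
  refine ⟨hz, by_contra fun hze => ?_⟩
  have hzA : z ∉ oddPartners D e := fun ho => odd_ne hD hd (h ▸ ho) hzd.symm
  have h4 := (four_cases hD he hz (fun w => hze w.symm) hzA).2
  obtain ⟨hn, hnz⟩ := square_partner hD he hz h4
  have e1 : e * (e * z) ^ 2 = z * e * z := by
    rw [pow_two, ← mul_assoc, ← mul_assoc e e, mul_self hD he, one_mul, mul_assoc]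
  set n := (e * z) ^ 2 with hndef
  have hzfix : oddPartners D (z * e * z⁻¹) = oddPartners D e := by
    rw [← conj_odd_eq hD z h, odd_fix hD hd hz hzd, h]
  have hnA : oddPartners D n = oddPartners D e := by
    refine line_closed hD hc he hn ?_
    rw [e1]; rwa [inv_eq hD hz] at hzfix
  by_cases hzT : oddPartners D z = oddPartners D e
  · exact hze (comm_of_odd_eq hD hc hz he hzT)
  obtain ⟨x, hx, hxz⟩ : ∃ x, x ∈ oddPartners D n ∧ x ∉ oddPartners D z := by
    by_contra hh
    push Not at hh
    exact hzT ((odd_eq_of_subset hD hc hn.1.1 hz hh).symm.trans hnA)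
  have hzp : z ∈ productPartners D n := partner_symm hD hz hnz
  have hzx := four_cases hD hz hx.1 (fun w => not_comm_line hD hn.1.1 hzp hx w.symm) hxz
  obtain ⟨v, hv, hve⟩ := map_surj hD hn.1.1 hx (v := z) ⟨hzp, hzx.2⟩
  have hvD := hv.1.1.1
  have hex : e ∈ oddPartners D x := odd_symm he (hnA ▸ hx)
  have hev : orderOf (e * v) = 4 := by
    refine (four_cases hD he hvD (not_comm_line hD hx.1 hv.1 hex) fun ho => ?_).2
    rw [← hnA] at ho
    exact not_four_of_odd ho (orderOf_swap v n ▸ hv.2)
  obtain ⟨-, q1, -, q2, -, -, -, -⟩ := four_facts hD he hvD hev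
  have hcom : (v * e * v) * e = e * (v * e * v) := by
    rw [← q2]
    exact ((Commute.refl e).mul_right (show Commute e _ from q1)).eq.symm
  have hb' : v * e * v ∈ D := conj_mem' hD he hvD
  have k1 : v * n * v = n * z := by
    rw [← hve, pow_two]
    calc v * n * v = (n * n) * (v * n * v) := by rw [mul_self hD hn.1.1, one_mul]
      _ = _ := by
        obtain ⟨-, -, hc2, -, hc3, -, -, -⟩ := four_facts hD hvD hn.1.1 hv.2
        rw [mul_self hD hn.1.1, one_mul, ← pow_two, hc3]
  have k2 : e * z * e = n * z := by rw [hndef, pow_two]; simp only [mul_assoc, mul_self hD hz, mul_one]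
  have k3 : v * z * v = z := by
    obtain ⟨-, hc1, -, -, -, -, -, -⟩ := four_facts hD hvD hn.1.1 hv.2
    rw [hve] at hc1
    rw [hc1, mul_assoc, mul_self hD hvD, mul_one]
  have hz' : (v * e * v) * n * (v * e * v) = z := by
    calc (v * e * v) * n * (v * e * v) = v * (e * (v * n * v) * e) * v := by simp only [mul_assoc]
      _ = v * (e * n * (z * e)) * v := by rw [k1]; simp only [mul_assoc]
      _ = v * (n * (e * z * e)) * v := by rw [show e * n = n * e from hn.1.2.1.symm]; simp only [mul_assoc]
      _ = v * z * v := by rw [k2, ← mul_assoc n n z, mul_self hD hn.1.1, one_mul]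
      _ = z := k3
  apply hzT
  have := conj_odd_eq hD (v * e * v) hnA
  rwa [inv_eq hD hb', hz', show v * e * v * e * (v * e * v) = e by
    rw [hcom, mul_assoc, mul_self hD hb', mul_one]] at this

theorem class_of_odd_eq (hD : IsRootInvolutionSet D) (hc : IsConnectedSet (OddAdj D) D) (hd : d ∈ D)
    (he : e ∈ D) (h : oddPartners D d = oddPartners D e) : commutingMembers D d = commutingMembers D e :=
  (commuting_subset hD hc hd he h).antisymm (commuting_subset hD hc he hd h.symm)

theorem odd_eq_of_class (hD : IsRootInvolutionSet D) (hd : d ∈ D) (he : e ∈ D)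
    (h : commutingMembers D d = commutingMembers D e) : oddPartners D d = oddPartners D e := by
  have key : ∀ {d e : G}, d ∈ D → e ∈ D → commutingMembers D d = commutingMembers D e →
      oddPartners D d ⊆ oddPartners D e := by
    intro d e hd he h x hx
    have hcom : ∀ u ∈ D, u * d = d * u ↔ u * e = e * u := fun u hu =>
      ⟨fun w => ((h ▸ ⟨hu, w⟩ : u ∈ commutingMembers D e)).2, fun w => ((h.symm ▸ ⟨hu, w⟩ : u ∈ commutingMembers D d)).2⟩
    by_contra hxe
    have h4 := (four_cases hD he hx.1 (fun w => odd_ne hD hd hx ((hcom x hx.1).2 w.symm).symm) hxe).2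
    obtain ⟨-, q1, -, q2, -, q3, -, -⟩ := four_facts hD he hx.1 h4
    have hxex : x * e * x ∈ D := conj_mem' hD he hx.1
    have c1 : (x * e * x) * d = d * (x * e * x) := (hcom _ hxex).2 (by
      rw [← q2]; exact ((Commute.refl e).mul_right (show Commute e _ from q1)).eq.symm)
    have hxdx : x * d * x ∈ D := conj_mem' hD hd hx.1
    have c2 : (x * d * x) * e = e * (x * d * x) := by
      have := congrArg (fun u => x * u * x) c1
      simp only [mul_assoc] at this ⊢
      simp only [← mul_assoc x x, mul_self hD hx.1, one_mul, mul_one] at this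
      exact this.symm
    have c3 := (hcom _ hxdx).2 c2
    have h2 : (d * x) ^ 4 = 1 := by
      have : (d * x) ^ 4 = d * (x * d * x) * (d * (x * d * x)) := by
        simp only [pow_succ, pow_zero, one_mul, mul_assoc]
      rw [this, mul_assoc, ← mul_assoc (x * d * x) d, c3, mul_assoc d, mul_self hD hxdx, mul_one, mul_self hD hd]
    have hd4 : orderOf (d * x) ∣ 2 ^ 2 := orderOf_dvd_of_pow_eq_one h2
    have h1 : orderOf (d * x) = 1 :=
      Nat.Coprime.eq_one_of_dvd ((Nat.coprime_two_right.2 hx.2.2).pow_right 2) hd4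
    rw [orderOf_eq_one_iff] at h1
    exact hx.2.1 (by rw [← inv_eq hD hx.1]; exact (eq_inv_of_mul_eq_one_left h1).symm)
  exact (key hd he h).antisymm (key he hd h.symm)

theorem exists_odd_four (hD : IsRootInvolutionSet D) (hc : IsConnectedSet (OddAdj D) D) (ha : a ∈ D)
    (hb : b ∈ productPartners D a) (h : commutingMembers D a ≠ commutingMembers D b) :
    ∃ x ∈ oddPartners D a, b ∈ Y D a x := by
  by_contra hh
  push Not at hh
  refine h (class_of_odd_eq hD hc ha hb.1.1 (odd_eq_of_subset hD hc ha hb.1.1 fun x hx => ?_))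
  by_contra hxb
  exact hh x hx ⟨hb, (four_cases hD hb.1.1 hx.1 (fun e => not_comm_line hD ha hb hx e.symm) hxb).2⟩

theorem exists_three (hD : IsRootInvolutionSet D) (hc : IsConnectedSet (OddAdj D) D) (ha : a ∈ D)
    (hb : b ∈ productPartners D a) (h : commutingMembers D a ≠ commutingMembers D b) :
    ∃ x ∈ fourPartners D b, orderOf (a * x) = 3 := by
  obtain ⟨x, hx, hY⟩ := exists_odd_four hD hc ha hb h
  obtain ⟨v, hv, hve⟩ := map_surj hD ha hx hY
  obtain ⟨hv1, -⟩ := square_partner hD hv.1.1.1 ha hv.2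
  rw [hve] at hv1
  have hvb : v ∈ productPartners D b := partner_symm hD hv.1.1.1 hv1
  have hne : commutingMembers D b ≠ commutingMembers D v := fun e =>
    not_comm_of_four hD hv.1.1.1 ha hv.2 ((e ▸ ⟨ha, hb.1.2.1.symm⟩ : a ∈ commutingMembers D v)).2.symm
  obtain ⟨f, hf, hYf⟩ := exists_odd_four hD hc hb.1.1 hvb hne
  obtain ⟨y, hy, hye⟩ := map_surj hD hb.1.1 hf hYf
  have h4 : orderOf (b * y) = 4 := orderOf_swap y b ▸ hy.2
  refine ⟨y, ⟨hy.1.1.1, h4⟩, order_three hD ha hv.1.1.1 hy.1.1.1 (orderOf_swap v a ▸ hv.2) ?_ h4 ?_⟩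
  · rw [← hve]; exact (four_facts hD hv.1.1.1 ha hv.2).2.2.2.2.2.2.2.symm
  · rw [← hye]; exact (four_facts hD hy.1.1.1 hb.1.1 hy.2).2.2.2.2.2.2.2.symm

end Cfsg.Agent.RootInvolLines87
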