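import Cfsg.Agent.Lib.RootSubConn

/-!
Non-degenerate classes of abstract root subgroups: the line graph is connected and `G` is
generated by the line partners of a member together with one of its rank one partners.
-/

set_option autoImplicit false

namespace Cfsg.Agent.RootSubGen

open Cfsg RankOne RootSub RootSubLine RootSubConn

variable {G : Type*} [Group G] {S : Set (Subgroup G)} {A B C D E Y : Subgroup G}

theorem line_of_rc (hS : IsRootSubgroupSet S) (hA : A ∈ S) (hD : D ∈ S) (hp : IsRankOnePair A D)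
    (h : RootCommutatorCase S A B) : ⁅A, B⁆ ∈ linePartners S A :=
  ⟨⟨h.1, rc_left_ne hS h, rc_comm_left' h⟩, partition_line hS hA hD hp h⟩

theorem eAdj_of_rc (hS : IsRootSubgroupSet S) (hA : A ∈ S) (hD : D ∈ S) (hp : IsRankOnePair A D)
    (h : RootCommutatorCase S A B) : EAdj S S A ⁅A, B⁆ ∧ EAdj S S ⁅A, B⁆ A :=
  ⟨⟨hA, h.1, line_of_rc hS hA hD hp h⟩, ⟨h.1, hA, mem_linePartners_line hS hA hD hp h⟩⟩

variable (hS : IsRootSubgroupClass S) (hnd : IsNondegenerateRootSet S)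

include hS hnd

theorem exists_line (hA : A ∈ S) : ∃ Y, IsLine S A Y := by
  obtain ⟨-, -, A₀, hA₀, E, hE, hrc⟩ := hnd
  obtain ⟨g, rfl⟩ := hS.2.2 _ hrc.1 A hA
  exact ⟨_, isLine_conjBy hS.1 (isLine_of_rc hS.1 hA₀ hrc).symm g⟩

theorem connected : IsConnectedFamily (EAdj S S) S ∧ IsConnectedFamily (DAdj S) S := by
  have hstep : ∀ A B, FAdj S A B → Relation.ReflTransGen (EAdj S S) A B := by
    rintro A B ⟨hA, hB, hp⟩
    obtain ⟨Y, hl⟩ := exists_line hS hnd hA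
    obtain ⟨M, hM, hMle, hMA, hMB⟩ := exists_nonpartner hS.1 hB hp hl
    obtain ⟨hrcF, heF⟩ := line_structure hS.1 hB hp hl hM hMle hMA hMB
    obtain ⟨DM, hDM, hpM⟩ := class_partner hS ⟨A, hA, B, hB, hp⟩ hM
    have e1 := (eAdj_of_rc hS.1 hA hB hp hrcF).1
    rw [heF] at e1
    have e2 := (eAdj_of_rc hS.1 hM hDM hpM hMB).1
    have e3 := (eAdj_of_rc hS.1 hB hA (RankOnePair_symm hp) (rc_symm hMB)).2
    rw [Subgroup.commutator_comm] at e3
    exact ((Relation.ReflTransGen.single e1).tail e2).tail e3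
  have hE : IsConnectedFamily (EAdj S S) S := by
    intro A hA B hB
    have h := class_connected hS hnd.2.1 A hA B hB
    clear hB
    induction h with
    | refl => exact Relation.ReflTransGen.refl
    | tail _ h ih => exact ih.trans (hstep _ _ h)
  exact ⟨hE, fun A hA B hB => Relation.ReflTransGen.mono (fun P Q h =>
    (⟨h.1, h.2.1, h.2.2.1.2.1.symm, h.2.2.1.2.2⟩ : DAdj S P Q)) _ _ (hE A hA B hB)⟩

theorem generated (hA : A ∈ S) (hB : B ∈ S) (hp : IsRankOnePair A B) :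
    (⨆ C ∈ linePartners S A, C) ⊔ B = ⊤ := by
  set U := (⨆ C ∈ linePartners S A, C) ⊔ B with hU
  have hΛ : ∀ C ∈ linePartners S A, C ≤ U := fun C hC => le_sup_of_le_left
    (le_iSup₂ (f := fun (C : Subgroup G) (_ : C ∈ linePartners S A) => C) C hC)
  have hcomm : ∀ {P Q : Subgroup G}, P ≤ U → Q ≤ U → ⁅P, Q⁆ ≤ U := fun hP hQ =>
    Subgroup.commutator_le.2 fun p hp' q hq =>
      mul_mem (mul_mem (mul_mem (hP hp') (hQ hq)) (inv_mem (hP hp'))) (inv_mem (hQ hq))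
  -- every member on a line through `A` is `U`-conjugate to `A`
  have hline : ∀ Y, IsLine S A Y → ∃ u ∈ U, Y = conjBy A u := by
    intro Y hl
    obtain ⟨M, hM, hMle, hMA, hMB⟩ := exists_nonpartner hS.1 hB hp hl
    obtain ⟨hrc, he⟩ := line_structure hS.1 hB hp hl hM hMle hMA hMB
    set F := ⁅M, B⁆ with hF
    have hMU : M ≤ U := by
      have := hΛ _ (line_of_rc hS.1 hA hB hp hrc)
      rwa [he] at this
    have hFU : F ≤ U := hcomm hMU le_sup_right
    obtain ⟨DY, hDY, hpY⟩ := class_partner hS ⟨A, hA, B, hB, hp⟩ hl.right_mem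
    have hY : Y ∈ membersIn S (A ⊔ ⁅A, F⁆) := by
      refine ⟨hl.right_mem, ?_⟩
      rw [he, ← line_eq hS.1 hB hp hl hDY hpY hM hMle hMA hMB]
      exact le_sup_right
    rw [members_line hS.1 hA hB hp hrc] at hY
    rcases hY with ⟨f, hf, rfl⟩ | hY
    · exact ⟨f, hFU hf, rfl⟩
    -- `Y = M = [A,F]`; find `G₁` with `[G₁, M] = A`
    have hl2 : IsLine S ⁅A, F⁆ A := (isLine_of_rc hS.1 hA hrc).symm
    obtain ⟨D₀, hD₀, hp₀⟩ := class_partner hS ⟨A, hA, B, hB, hp⟩ hrc.1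
    obtain ⟨M₀, hM₀, hM₀le, hM₀ne, hM₀D⟩ := exists_nonpartner hS.1 hD₀ hp₀ hl2
    have hm0 : M₀ ∈ membersIn S (A ⊔ ⁅A, F⁆) := ⟨hM₀, by rwa [sup_comm]⟩
    rw [members_line hS.1 hA hB hp hrc] at hm0
    obtain ⟨f, hf, hM₀f⟩ := hm0.resolve_right (fun h => hM₀ne (Set.mem_singleton_iff.1 h))
    have hCfix : conjBy ⁅A, F⁆ f⁻¹ = ⁅A, F⁆ := fixed_line hrc (inv_mem hf)
    have hpD : IsRankOnePair ⁅A, F⁆ (conjBy D₀ f⁻¹) := by
      have := isRankOnePair_conjBy hp₀ f⁻¹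
      rwa [hCfix] at this
    have hAD : RootCommutatorCase S A (conjBy D₀ f⁻¹) := by
      have := rc_conjBy hS.1 hM₀D f⁻¹
      rwa [← hM₀f, conjBy_inv_conjBy] at this
    obtain ⟨hrc2, he2⟩ := line_structure hS.1 (hS.1.conj_mem _ hD₀ f⁻¹) hpD hl2 hA le_sup_right
      hl2.ne.symm hAD
    set G₁ := ⁅A, conjBy D₀ f⁻¹⁆ with hG₁
    have hG1U : G₁ ≤ U := hΛ _ (line_of_rc hS.1 hA hB hp hAD)
    have hDC : ⁅G₁, ⁅A, F⁆⁆ = A := by rw [Subgroup.commutator_comm]; exact he2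
    obtain ⟨-, hO, -⟩ := orbit_facts hS.1 hrc (rc_symm hrc2) hDC hMB.1 hAD.1
    have : Y ∈ {E | ∃ x ∈ F ⊔ G₁, E = conjBy A x} := by
      rw [hO]; exact Or.inr hY
    obtain ⟨x, hx, hxY⟩ := this
    exact ⟨x, sup_le hFU hG1U hx, hxY⟩
  obtain ⟨hE, -⟩ := connected hS hnd
  have hall : ∀ Y ∈ S, ∃ u ∈ U, Y = conjBy A u := by
    intro Y hY
    have h := hE A hA Y hY
    clear hY
    induction h with
    | refl => exact ⟨1, one_mem _, (conjBy_one A).symm⟩
    | tail _ h ih =>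
      obtain ⟨u, hu, rfl⟩ := ih
      have hl := isLine_conjBy hS.1 (isLine_of_linePartners h.1 h.2.2) u⁻¹
      rw [conjBy_inv_conjBy] at hl
      obtain ⟨v, hv, he⟩ := hline _ hl
      exact ⟨u * v, mul_mem hu hv, by rw [← conjBy_mul, ← he, conjBy_conjBy_inv]⟩
  have hAU : A ≤ U := by
    obtain ⟨Y, hl⟩ := exists_line hS hnd hA
    obtain ⟨M, hM, hMle, hMA, hMB⟩ := exists_nonpartner hS.1 hB hp hl
    obtain ⟨hrc, he⟩ := line_structure hS.1 hB hp hl hM hMle hMA hMB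
    have hMU : M ≤ U := by
      have := hΛ _ (line_of_rc hS.1 hA hB hp hrc)
      rwa [he] at this
    have hFU : ⁅M, B⁆ ≤ U := hcomm hMU le_sup_right
    obtain ⟨f, hf, hf1⟩ := exists_ne_one hS.1 hMB.1
    have hne : conjBy A f ≠ A := conj_ne_self hS.1 hrc hf hf1
    have hle : conjBy A f ≤ A ⊔ ⁅A, ⁅M, B⁆⁆ := conj_le_line hrc hf
    have hlp : conjBy A f ∈ linePartners S A := by
      have hl3 := isLine_of_rc hS.1 hA hrc
      refine ⟨⟨hS.1.conj_mem A hA f, hne, members_commute hS.1 hl3 le_sup_left hle⟩, ?_⟩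
      have hsup : A ⊔ conjBy A f = A ⊔ ⁅A, ⁅M, B⁆⁆ := by
        refine le_antisymm (sup_le le_sup_left hle) (sup_le le_sup_left ?_)
        rw [← hrc.2.2.2 f hf hf1, Subgroup.closure_le]
        rintro z ⟨a, ha, rfl⟩
        have h2 : f * a⁻¹ * f⁻¹ ∈ conjBy A f := by
          rw [mem_conjBy]; simpa [mul_assoc] using inv_mem ha
        simpa [mul_assoc] using mul_mem (Subgroup.mem_sup_left (T := conjBy A f) ha)
          (Subgroup.mem_sup_right (S := A) h2)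
      rw [hsup]
      exact partition_line hS.1 hA hB hp hrc
    intro a ha
    have h2 : f * a * f⁻¹ ∈ conjBy A f := by rw [mem_conjBy]; simpa [mul_assoc] using ha
    have := mul_mem (mul_mem (inv_mem (hFU hf)) (hΛ _ hlp h2)) (hFU hf)
    simpa [mul_assoc] using this
  rw [eq_top_iff, ← hS.1.generates]
  refine iSup₂_le fun Y hY => ?_
  obtain ⟨u, hu, rfl⟩ := hall Y hY
  intro y hy
  rw [mem_conjBy] at hy
  simpa [mul_assoc] using mul_mem (mul_mem hu (hAU hy)) (inv_mem hu)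

end Cfsg.Agent.RootSubGen
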