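import Cfsg.Agent.Lib.RootSub

/-!
Members of a set of abstract root subgroups inside `A ⊔ [A,B]`, and opposite commutator partners.
-/

set_option autoImplicit false

namespace Cfsg.Agent.RootSubLine

open Cfsg RankOne RootSub

variable {G : Type*} [Group G] {S : Set (Subgroup G)} {A B C D E : Subgroup G}

theorem mem_sup_of_commute (h : ⁅A, C⁆ = ⊥) {x : G} (hx : x ∈ A ⊔ C) :
    ∃ a ∈ A, ∃ c ∈ C, a * c = x := by
  rw [Subgroup.sup_eq_closure] at hx
  induction hx using Subgroup.closure_induction with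
  | mem y hy =>
    rcases hy with hy | hy
    · exact ⟨y, hy, 1, C.one_mem, mul_one y⟩
    · exact ⟨1, A.one_mem, y, hy, one_mul y⟩
  | one => exact ⟨1, A.one_mem, 1, C.one_mem, mul_one 1⟩
  | mul y z _ _ hy hz =>
    obtain ⟨a, ha, c, hc, rfl⟩ := hy
    obtain ⟨a', ha', c', hc', rfl⟩ := hz
    refine ⟨a * a', A.mul_mem ha ha', c * c', C.mul_mem hc hc', ?_⟩
    calc a * a' * (c * c') = a * (a' * c) * c' := by group
      _ = a * (c * a') * c' := by rw [elem_comm h ha' hc]
      _ = a * c * (a' * c') := by group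
  | inv y _ hy =>
    obtain ⟨a, ha, c, hc, rfl⟩ := hy
    exact ⟨a⁻¹, A.inv_mem ha, c⁻¹, C.inv_mem hc, by rw [mul_inv_rev, elem_comm h (A.inv_mem ha) (C.inv_mem hc)]⟩

theorem rc_comm_left' (h : RootCommutatorCase S A B) : ⁅A, ⁅A, B⁆⁆ = ⊥ := by
  rw [Subgroup.commutator_comm]; exact rc_comm_left h

theorem conj_le_line (h : RootCommutatorCase S A B) {b : G} (hb : b ∈ B) :
    conjBy A b ≤ A ⊔ ⁅A, B⁆ := by
  intro x hx
  rw [mem_conjBy] at hx
  have hc : b * (b⁻¹ * x * b) * b⁻¹ * (b⁻¹ * x * b)⁻¹ ∈ ⁅A, B⁆ := by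
    rw [Subgroup.commutator_comm]; exact Subgroup.commutator_mem_commutator hb hx
  have := mul_mem (Subgroup.mem_sup_right (S := A) hc) (Subgroup.mem_sup_left (T := ⁅A, B⁆) hx)
  simpa [mul_assoc] using this

theorem line_cover (h : RootCommutatorCase S A B) {x : G} (hx : x ∈ A ⊔ ⁅A, B⁆)
    (hxC : x ∉ ⁅A, B⁆) : ∃ b ∈ B, x ∈ conjBy A b := by
  obtain ⟨a, ha, c, hc, rfl⟩ := mem_sup_of_commute (rc_comm_left' h) hx
  have ha1 : a ≠ 1 := by rintro rfl; rw [one_mul] at hxC; exact hxC hc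
  obtain ⟨b, hb, he⟩ := rc_surj h ha ha1 ((⁅A, B⁆).inv_mem hc)
  refine ⟨b, hb, ?_⟩
  rw [mem_conjBy]
  have h1 : b * a * b⁻¹ = a * c := by
    have h2 : c = b * a * b⁻¹ * a⁻¹ := by rw [← inv_inv c, ← he]; group
    rw [elem_comm (rc_comm_left' h) ha hc, h2]; group
  have h3 : b⁻¹ * (a * c) * b = a := by rw [← h1]; group
  rw [h3]; exact ha

/-- Centralizer of `B` inside `A[A,B]` is `[A,B]`. -/
theorem fix_right (hS : IsRootSubgroupSet S) (h : RootCommutatorCase S A B) {x : G} :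
    (x ∈ A ⊔ ⁅A, B⁆ ∧ ∀ b ∈ B, b * x = x * b) ↔ x ∈ ⁅A, B⁆ := by
  constructor
  · rintro ⟨hx, hc⟩
    obtain ⟨a, ha, c, hcC, rfl⟩ := mem_sup_of_commute (rc_comm_left' h) hx
    have : a = 1 := rc_inj_left hS h ha fun b hb => by
      have h1 := hc b hb
      rw [mul_assoc a c b, elem_comm (rc_comm_right h) hcC hb, ← mul_assoc, ← mul_assoc] at h1
      exact (mul_right_cancel h1).symm
    rw [this, one_mul]; exact hcC
  · exact fun hx => ⟨Subgroup.mem_sup_right hx, fun b hb => (elem_comm (rc_comm_right h) hx hb).symm⟩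

theorem inf_line_eq_bot (hS : IsRootSubgroupSet S) (h : RootCommutatorCase S A B) :
    A ⊓ ⁅A, B⁆ = ⊥ := by
  rw [eq_bot_iff]
  rintro x ⟨hx, hxC⟩
  exact Subgroup.mem_bot.2 (rc_inj_left hS h hx fun b hb => elem_comm (rc_comm_right h) hxC hb)

theorem fixed_line (h : RootCommutatorCase S A B) {b : G} (hb : b ∈ B) :
    conjBy ⁅A, B⁆ b = ⁅A, B⁆ :=
  conjBy_eq_self_iff.2 (Subgroup.centralizer_le_normalizer _ (le_centralizer_of_commutator_eq_bot
    (A := B) (by rw [Subgroup.commutator_comm]; exact rc_comm_right h) hb))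

theorem conj_inf_line (hS : IsRootSubgroupSet S) (h : RootCommutatorCase S A B) {b : G}
    (hb : b ∈ B) : conjBy A b ⊓ ⁅A, B⁆ = ⊥ := by
  rw [← fixed_line h hb, ← Subgroup.map_inf A _ _ (MulAut.conj b).injective,
    inf_line_eq_bot hS h]
  exact Subgroup.map_bot _

theorem conjBy_inf (A B : Subgroup G) (g : G) : conjBy (A ⊓ B) g = conjBy A g ⊓ conjBy B g :=
  Subgroup.map_inf A B _ (MulAut.conj g).injective

theorem conjBy_bot (g : G) : conjBy (⊥ : Subgroup G) g = ⊥ := Subgroup.map_bot _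

/-- The members inside a line: the conjugates of `A` and `[A,B]`. -/
theorem members_line (hS : IsRootSubgroupSet S) (hA : A ∈ S) (hD : D ∈ S)
    (hp : IsRankOnePair A D) (h : RootCommutatorCase S A B) :
    membersIn S (A ⊔ ⁅A, B⁆) = (fun b : G => conjBy A b) '' (B : Set G) ∪ {⁅A, B⁆} := by
  ext E
  constructor
  · rintro ⟨hE, hle⟩
    by_cases hEC : E ≤ ⁅A, B⁆
    · refine Or.inr ?_
      obtain ⟨e, he, he1⟩ := exists_ne_one hS hE
      rcases hS.pair ⁅A, B⁆ h.1 D hD with hc | hc | hc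
      · exfalso
        obtain ⟨a, ha, ha1⟩ := exists_ne_one hS hA
        have heC := hEC he
        have hcent : e ∈ Subgroup.centralizer ((A ⊔ D : Subgroup G) : Set G) := by
          have : A ⊔ D ≤ Subgroup.centralizer ({e} : Set G) := sup_le
            (fun y hy => Subgroup.mem_centralizer_iff.2 fun z hz => by
              rw [Set.mem_singleton_iff.1 hz]; exact elem_comm (rc_comm_left h) heC hy)
            (fun y hy => Subgroup.mem_centralizer_iff.2 fun z hz => by
              rw [Set.mem_singleton_iff.1 hz]; exact elem_comm hc heC hy)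
          exact Subgroup.mem_centralizer_iff.2 fun y hy =>
            (Subgroup.mem_centralizer_iff.1 (this hy) e rfl).symm
        have hne : e * a ∉ ⁅A, B⁆ := fun hh => ha1 (Subgroup.mem_bot.1
          (inf_line_eq_bot hS h ▸ Subgroup.mem_inf.2 ⟨ha, by
            simpa using mul_mem (inv_mem heC) hh⟩))
        obtain ⟨b, -, hb⟩ := line_cover h
          (mul_mem (Subgroup.mem_sup_right heC) (Subgroup.mem_sup_left ha)) hne
        exact not_root_of_centralizes hS hA hD hp hcent he1 ha ha1 (hS.conj_mem A hA b) hb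
      · refine Set.mem_singleton_iff.2 (((inf_eq_bot_or_eq hS h.1 hD hc hE).resolve_left ?_).symm)
        intro hh
        exact he1 (Subgroup.mem_bot.1 (hh ▸ Subgroup.mem_inf.2 ⟨hEC he, he⟩))
      · have h3 : RootCommutatorCase S E D := by
          rcases hS.pair E hE D hD with hh | hh | hh
          · exact absurd (rc_inj_left hS hc (hEC he) fun d hd => elem_comm hh he hd) he1
          · exfalso
            refine commutator_ne_bot (isRankOnePair_of_mem_unipotents hh
              (conjBy_mem_unipotents (right_mem_unipotents hh) (Subgroup.mem_sup_left he))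
              (right_mem_unipotents hh) fun h0 => he1 (eq_one_of_normalizes hh he h0))
              (rc_conj_commute hS hD hc (hEC he))
          · exact hh
        have hFG : ⁅⁅A, B⁆, D⁆ ≤ ⁅E, D⁆ := by
          rw [← hc.2.2.1 e (hEC he) he1, Subgroup.closure_le]
          rintro z ⟨d, hd, rfl⟩
          exact Subgroup.commutator_mem_commutator he hd
        refine Set.mem_singleton_iff.2 (le_antisymm hEC fun c hcC => ?_)
        obtain ⟨d, hd, hd1⟩ := exists_ne_one hS hD
        have hin : d * c * d⁻¹ * c⁻¹ ∈ ⁅D, E⁆ := by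
          rw [Subgroup.commutator_comm]
          refine hFG ?_
          rw [Subgroup.commutator_comm]
          exact Subgroup.commutator_mem_commutator hd hcC
        obtain ⟨e', he', heq⟩ := rc_surj (rc_symm h3) hd hd1 hin
        have hm := rc_mul (rc_symm hc) hd (inv_mem (hEC he')) hcC
        have hm1 := rc_mul (rc_symm hc) hd (inv_mem (hEC he')) (hEC he')
        rw [inv_mul_cancel] at hm1
        rw [← heq, ← hm1] at hm
        have hcomm : d * (e'⁻¹ * c) = (e'⁻¹ * c) * d := by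
          rw [← mul_inv_eq_iff_eq_mul, ← mul_inv_eq_one, hm]; group
        have h1 := rc_inj hS hD hA (RankOnePair_symm hp) (rc_symm hc) hd hd1
          (mul_mem (inv_mem (hEC he')) hcC) hcomm
        rw [inv_mul_eq_one] at h1
        exact h1 ▸ he'
    · obtain ⟨x, hx, hxC⟩ := SetLike.not_le_iff_exists.1 hEC
      obtain ⟨b, hb, hxb⟩ := line_cover h (hle hx) hxC
      refine Or.inl ⟨b, hb, (inf_eq_bot_or_eq hS (hS.conj_mem A hA b) (hS.conj_mem D hD b)
        (isRankOnePair_conjBy hp b) hE).resolve_left fun hh => ?_⟩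
      have hx1 : x = 1 := Subgroup.mem_bot.1 (hh ▸ Subgroup.mem_inf.2 ⟨hxb, hx⟩)
      exact hxC (hx1 ▸ one_mem _)
  · rintro (⟨b, hb, rfl⟩ | hE)
    · exact ⟨hS.conj_mem A hA b, conj_le_line h hb⟩
    · rw [Set.mem_singleton_iff.1 hE]; exact ⟨h.1, le_sup_right⟩

theorem partition_line (hS : IsRootSubgroupSet S) (hA : A ∈ S) (hD : D ∈ S)
    (hp : IsRankOnePair A D) (h : RootCommutatorCase S A B) :
    IsSubgroupPartition (A ⊔ ⁅A, B⁆) (membersIn S (A ⊔ ⁅A, B⁆)) := by
  have hm := members_line hS hA hD hp h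
  refine ⟨fun E hE => hE.2, fun x hx _ => ?_, ?_⟩
  · by_cases hxC : x ∈ ⁅A, B⁆
    · exact ⟨_, ⟨h.1, le_sup_right⟩, hxC⟩
    · obtain ⟨b, hb, hxb⟩ := line_cover h hx hxC
      exact ⟨_, ⟨hS.conj_mem A hA b, conj_le_line h hb⟩, hxb⟩
  · intro E hE F hF hne
    have hF' := hF.1
    rw [hm] at hE hF
    rcases hE with ⟨b, hb, rfl⟩ | hE
    · exact (inf_eq_bot_or_eq hS (hS.conj_mem A hA b) (hS.conj_mem D hD b)
        (isRankOnePair_conjBy hp b) hF').resolve_right hne
    · rcases hF with ⟨b, hb, rfl⟩ | hF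
      · rw [Set.mem_singleton_iff.1 hE, inf_comm]
        exact conj_inf_line hS h hb
      · exact absurd ((Set.mem_singleton_iff.1 hE).trans (Set.mem_singleton_iff.1 hF).symm) hne

theorem mem_linePartners_line (hS : IsRootSubgroupSet S) (hA : A ∈ S) (hD : D ∈ S)
    (hp : IsRankOnePair A D) (h : RootCommutatorCase S A B) :
    A ∈ linePartners S ⁅A, B⁆ := by
  refine ⟨⟨hA, fun hh => rc_left_ne hS h hh.symm, rc_comm_left h⟩, ?_⟩
  rw [sup_comm]
  exact partition_line hS hA hD hp h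

/-- `b ↦ a⁻¹ b⁻¹ a b` is an isomorphism onto `[A,B]`. -/
theorem exists_commutator_equiv (hS : IsRootSubgroupSet S) (hA : A ∈ S) (hB : B ∈ S) (hD : D ∈ S)
    (hp : IsRankOnePair A D) (h : RootCommutatorCase S A B) {a : G} (ha : a ∈ A) (ha1 : a ≠ 1) :
    ∃ φ : ↥B ≃* ↥⁅A, B⁆, ∀ b : ↥B, (φ b : G) = a⁻¹ * (b : G)⁻¹ * a * b := by
  have hmem : ∀ b : ↥B, a⁻¹ * (b : G)⁻¹ * a * b ∈ ⁅A, B⁆ := fun b => by
    have := Subgroup.commutator_mem_commutator (inv_mem ha) (inv_mem b.2)
    simpa [commutatorElement_def] using this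
  let f : ↥B →* ↥⁅A, B⁆ :=
    { toFun := fun b => ⟨_, hmem b⟩
      map_one' := Subtype.ext (by simp)
      map_mul' := fun b b' => Subtype.ext (by
        have := rc_mul h (inv_mem ha) (inv_mem b.2) (inv_mem b'.2)
        simp only [Subgroup.coe_mul]
        rw [comm_of_mem hS hB b.2 b'.2] at *
        simpa [mul_assoc] using this) }
  have hbij : Function.Bijective f := by
    constructor
    · rw [← MonoidHom.ker_eq_bot_iff, eq_bot_iff]
      intro b hb
      have hb' : a⁻¹ * (b : G)⁻¹ * a * b = 1 := congrArg Subtype.val (show f b = 1 from hb)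
      refine Subgroup.mem_bot.2 (Subtype.ext ?_)
      refine rc_inj hS hA hD hp h ha ha1 b.2 ?_
      calc a * (b : G) = (b : G) * a * (a⁻¹ * (b : G)⁻¹ * a * b) := by group
        _ = (b : G) * a := by rw [hb', mul_one]
    · rintro ⟨c, hc⟩
      obtain ⟨b, hb, he⟩ := rc_surj h (inv_mem ha) (inv_ne_one.2 ha1) hc
      refine ⟨⟨b⁻¹, inv_mem hb⟩, Subtype.ext ?_⟩
      show a⁻¹ * (b⁻¹)⁻¹ * a * b⁻¹ = c
      rw [inv_inv, ← he, inv_inv]
  exact ⟨MulEquiv.ofBijective f hbij, fun b => rfl⟩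

section Opposite

variable (hS : IsRootSubgroupSet S) (h1 : RootCommutatorCase S A B)
  (h2 : RootCommutatorCase S D ⁅A, B⁆) (hDC : ⁅D, ⁅A, B⁆⁆ = A)

include h1 h2 hDC in
theorem conjBy_line {x : G} (hx : x ∈ B ⊔ D) : conjBy (A ⊔ ⁅A, B⁆) x = A ⊔ ⁅A, B⁆ := by
  have key : ∀ y : G, (y ∈ B ∨ y ∈ D) → conjBy (A ⊔ ⁅A, B⁆) y ≤ A ⊔ ⁅A, B⁆ := by
    rintro y (hy | hy)
    · rw [conjBy_sup, fixed_line h1 hy]
      exact sup_le (conj_le_line h1 hy) le_sup_right
    · have h3 := rc_symm h2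
      rw [conjBy_sup]
      refine sup_le ?_ ?_
      · have := fixed_line h3 hy
        rw [Subgroup.commutator_comm ⁅A, B⁆ D, hDC] at this
        rw [this]; exact le_sup_left
      · refine (conj_le_line h3 hy).trans ?_
        rw [Subgroup.commutator_comm ⁅A, B⁆ D, hDC]
        exact sup_le le_sup_right le_sup_left
  have key2 : ∀ y : G, (y ∈ B ∨ y ∈ D) → conjBy (A ⊔ ⁅A, B⁆) y = A ⊔ ⁅A, B⁆ := by
    intro y hy
    refine le_antisymm (key y hy) ?_
    have := Subgroup.map_mono (f := (MulAut.conj y).toMonoidHom)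
      (key y⁻¹ (hy.imp (fun h => inv_mem h) (fun h => inv_mem h)))
    change conjBy (conjBy _ y⁻¹) y ≤ _ at this
    rwa [conjBy_conjBy_inv] at this
  have : B ⊔ D ≤ Subgroup.normalizer ((A ⊔ ⁅A, B⁆ : Subgroup G) : Set G) :=
    sup_le (fun y hy => conjBy_eq_self_iff.1 (key2 y (Or.inl hy)))
      (fun y hy => conjBy_eq_self_iff.1 (key2 y (Or.inr hy)))
  exact conjBy_eq_self_iff.2 (this hx)

include hS h2 hDC in
theorem fix_opposite {x : G} :
    (x ∈ A ⊔ ⁅A, B⁆ ∧ ∀ d ∈ D, d * x = x * d) ↔ x ∈ A := by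
  have := fix_right hS (rc_symm h2) (x := x)
  rwa [Subgroup.commutator_comm ⁅A, B⁆ D, hDC, sup_comm] at this

include hS h1 h2 hDC in
theorem fix_transport {x y : G} (hx : x ∈ B ⊔ D) (hy : y ∈ B ⊔ D) :
    (conjBy B x = conjBy D y → conjBy ⁅A, B⁆ x = conjBy A y) ∧
    (conjBy B x = conjBy B y → conjBy ⁅A, B⁆ x = conjBy ⁅A, B⁆ y) := by
  have gen : ∀ (P : Subgroup G) (U : Subgroup G),
      (∀ z, (z ∈ A ⊔ ⁅A, B⁆ ∧ ∀ p ∈ P, p * z = z * p) ↔ z ∈ U) → ∀ g ∈ B ⊔ D, ∀ z,
      (z ∈ A ⊔ ⁅A, B⁆ ∧ ∀ p ∈ conjBy P g, p * z = z * p) ↔ z ∈ conjBy U g := by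
    intro P U hU g hg z
    rw [mem_conjBy, ← hU]
    refine and_congr ?_ ?_
    · rw [← mem_conjBy, conjBy_line h1 h2 hDC hg]
    · constructor
      · intro hz p hp
        have := hz (g * p * g⁻¹) (by rw [mem_conjBy]; simpa [mul_assoc] using hp)
        calc p * (g⁻¹ * z * g) = g⁻¹ * ((g * p * g⁻¹) * z) * g := by group
          _ = g⁻¹ * z * g * p := by rw [this]; group
      · intro hz p hp
        rw [mem_conjBy] at hp
        have := hz _ hp
        calc p * z = g * ((g⁻¹ * p * g) * (g⁻¹ * z * g)) * g⁻¹ := by group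
          _ = z * p := by rw [this]; group
  have hBC := gen B _ (fun z => fix_right hS h1)
  have hDA := gen D _ (fun z => fix_opposite hS h2 hDC)
  constructor
  · intro he; ext z
    rw [← hBC x hx z, he, hDA y hy z]
  · intro he; ext z
    rw [← hBC x hx z, he, hBC y hy z]

include hS h1 h2 hDC in
theorem pair_opposite (hB : B ∈ S) (hD : D ∈ S) : IsRankOnePair B D := by
  obtain ⟨a, ha, ha1⟩ := exists_ne_one hS (hDC ▸ h2.1 : A ∈ S)
  obtain ⟨b, hb, hb1⟩ := exists_ne_one hS hB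
  have hDA : ∀ d ∈ D, ∀ u ∈ A, d * u = u * d := fun d hd u hu =>
    ((fix_opposite hS h2 hDC (x := u)).2 hu).2 d hd
  rcases hS.pair B hB D hD with hc | hc | hc
  · exfalso
    apply rc_ne_bot hS h2
    refine commutator_eq_bot_of_comm fun d hd c hcC => ?_
    obtain ⟨b', hb', he⟩ := rc_surj h1 ha ha1 hcC
    rw [← he]
    have k1 : Commute d a := hDA d hd a ha
    have k2 : Commute d b' := (elem_comm hc hb' hd).symm
    exact (((k1.mul_right k2).mul_right k1.inv_right).mul_right k2.inv_right).eq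
  · exact hc
  · exfalso
    apply rc_ne_bot hS h2
    refine commutator_eq_bot_of_comm fun d hd q hq => ?_
    rcases eq_or_ne d 1 with rfl | hd1
    · simp
    obtain ⟨α, hα, hqα⟩ := rc_surj (rc_symm h1) hb hb1 (Subgroup.commutator_comm A B ▸ hq)
    obtain ⟨c, hc', hαc⟩ := rc_surj h2 (inv_mem hd) (inv_ne_one.2 hd1) (hDC.symm ▸ hα)
    -- the conjugate of `b` by `d` centralizes `B`, hence preserves the fixed points of `B`
    have hgB := rc_conj_commute hS hB (rc_symm hc) hd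
    have hgm : d * b * d⁻¹ ∈ conjBy B d := by rw [mem_conjBy]; simpa [mul_assoc] using hb
    have hgX : d * b * d⁻¹ ∈ B ⊔ D := mul_mem (mul_mem (Subgroup.mem_sup_right hd)
      (Subgroup.mem_sup_left hb)) (inv_mem (Subgroup.mem_sup_right hd))
    have hres : (d * b * d⁻¹) * c * (d * b * d⁻¹)⁻¹ ∈ ⁅A, B⁆ := by
      refine (fix_right hS h1).1 ⟨?_, fun u hu => ?_⟩
      · rw [← conjBy_line h1 h2 hDC hgX, mem_conjBy]
        simpa [mul_assoc] using Subgroup.mem_sup_right (S := A) hc'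
      · have k1 : Commute u (d * b * d⁻¹) := (elem_comm hgB hgm hu).symm
        have k2 : Commute u c := (elem_comm (rc_comm_right h1) hc' hu).symm
        exact ((k1.mul_right k2).mul_right k1.inv_right).eq
    have hinv : α * (d * c * d⁻¹ * c⁻¹) = 1 := by
      have := rc_mul_left h2 (inv_mem hd) hd hc'
      rw [inv_mul_cancel, hαc] at this
      rw [← this]; group
    have heq : (d * b * d⁻¹) * c * (d * b * d⁻¹)⁻¹ = (d * q * d⁻¹ * q⁻¹) * (q * c) := by
      have e1 : d⁻¹ * c * d = α * c := by rw [← hαc]; group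
      have e2 : b * α * b⁻¹ = q * α := by rw [← hqα]; group
      have e3 : b * c * b⁻¹ = c := by
        rw [← elem_comm (rc_comm_right h1) hc' hb, mul_inv_cancel_right]
      have e4 : d * α * d⁻¹ = α := by rw [hDA d hd α hα, mul_inv_cancel_right]
      calc (d * b * d⁻¹) * c * (d * b * d⁻¹)⁻¹
          = d * ((b * α * b⁻¹) * (b * c * b⁻¹)) * d⁻¹ := by
            rw [show (b * α * b⁻¹) * (b * c * b⁻¹) = b * (α * c) * b⁻¹ by group, ← e1]; group
        _ = d * (q * α * c) * d⁻¹ := by rw [e2, e3]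
        _ = (d * q * d⁻¹ * q⁻¹) * q * (d * α * d⁻¹) * (d * c * d⁻¹ * c⁻¹) * c := by group
        _ = (d * q * d⁻¹ * q⁻¹) * q * (α * (d * c * d⁻¹ * c⁻¹)) * c := by rw [e4]; group
        _ = _ := by rw [hinv]; group
    rw [heq] at hres
    have hA' : d * q * d⁻¹ * q⁻¹ ∈ A := by
      have := Subgroup.commutator_mem_commutator hd hq
      rwa [hDC] at this
    have hC' : d * q * d⁻¹ * q⁻¹ ∈ ⁅A, B⁆ := by
      have := mul_mem hres (inv_mem (mul_mem hq hc'))
      rwa [mul_inv_cancel_right] at this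
    have h0 : d * q * d⁻¹ * q⁻¹ = 1 :=
      Subgroup.mem_bot.1 (inf_line_eq_bot hS h1 ▸ Subgroup.mem_inf.2 ⟨hA', hC'⟩)
    rw [mul_inv_eq_one, mul_inv_eq_iff_eq_mul] at h0
    exact h0

include hS h1 h2 hDC in
theorem orbit_facts (hB : B ∈ S) (hD : D ∈ S) :
    {E | ∃ x ∈ B ⊔ D, E = conjBy A x} = {E | ∃ x ∈ B ⊔ D, E = conjBy ⁅A, B⁆ x} ∧
    {E | ∃ x ∈ B ⊔ D, E = conjBy A x} = (fun b : G => conjBy A b) '' (B : Set G) ∪ {⁅A, B⁆} ∧
    {E | ∃ x ∈ B ⊔ D, E = conjBy A x} = (fun d : G => conjBy ⁅A, B⁆ d) '' (D : Set G) ∪ {A} := by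
  have hp := pair_opposite hS h1 h2 hDC hB hD
  set C := ⁅A, B⁆ with hCdef
  have hDfix : ∀ d ∈ D, conjBy A d = A := fun d hd => by
    have := fixed_line (rc_symm h2) hd
    rwa [Subgroup.commutator_comm C D, hDC] at this
  set T₁ := (fun b : G => conjBy A b) '' (B : Set G) ∪ {C} with hT1
  set T₂ := (fun d : G => conjBy C d) '' (D : Set G) ∪ {A} with hT2
  have h12 : T₁ = T₂ := by
    ext E
    constructor
    · rintro (⟨b, hb, rfl⟩ | hE)
      · rcases eq_or_ne b 1 with rfl | hb1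
        · exact Or.inr (conjBy_one A)
        · obtain ⟨d, hd, -, he⟩ := hp.cond_left b⁻¹ (inv_mem hb) (inv_ne_one.2 hb1)
          rw [inv_inv] at he
          exact Or.inl ⟨d⁻¹, inv_mem hd, (fix_transport hS h1 h2 hDC
            (Subgroup.mem_sup_right (inv_mem hd)) (Subgroup.mem_sup_left hb)).1 he⟩
      · exact Or.inl ⟨1, D.one_mem, by rw [Set.mem_singleton_iff.1 hE]; exact conjBy_one C⟩
    · rintro (⟨d, hd, rfl⟩ | hE)
      · rcases eq_or_ne d 1 with rfl | hd1
        · exact Or.inr (conjBy_one C)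
        · obtain ⟨b, hb, -, he⟩ := hp.cond_right d⁻¹ (inv_mem hd) (inv_ne_one.2 hd1)
          rw [inv_inv] at he
          exact Or.inl ⟨b⁻¹, inv_mem hb, ((fix_transport hS h1 h2 hDC
            (Subgroup.mem_sup_right hd) (Subgroup.mem_sup_left (inv_mem hb))).1 he.symm).symm⟩
      · exact Or.inl ⟨1, B.one_mem, by rw [Set.mem_singleton_iff.1 hE]; exact conjBy_one A⟩
  have hinv : ∀ x ∈ B ⊔ D, ∀ E ∈ T₁, conjBy E x ∈ T₁ := by
    have hb : ∀ y ∈ B, ∀ E ∈ T₁, conjBy E y ∈ T₁ := by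
      rintro y hy E (⟨b, hb, rfl⟩ | hE)
      · exact Or.inl ⟨y * b, B.mul_mem hy hb, (conjBy_mul _ _ _).symm⟩
      · rw [Set.mem_singleton_iff.1 hE]; exact Or.inr (fixed_line h1 hy)
    have hd : ∀ y ∈ D, ∀ E ∈ T₁, conjBy E y ∈ T₁ := by
      intro y hy E hE
      rw [h12] at hE ⊢
      rcases hE with ⟨d, hd, rfl⟩ | hE
      · exact Or.inl ⟨y * d, D.mul_mem hy hd, (conjBy_mul _ _ _).symm⟩
      · rw [Set.mem_singleton_iff.1 hE]; exact Or.inr (hDfix y hy)
    intro x hx
    rw [Subgroup.sup_eq_closure] at hx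
    induction hx using Subgroup.closure_induction'' with
    | mem y hy => exact hy.elim (hb y) (hd y)
    | inv_mem y hy => exact hy.elim (fun h => hb _ (inv_mem h)) (fun h => hd _ (inv_mem h))
    | one => intro E hE; rwa [conjBy_one]
    | mul y z _ _ hy hz => intro E hE; rw [← conjBy_mul]; exact hy _ (hz _ hE)
  obtain ⟨w, hw, hwe⟩ := right_mem_unipotents hp
  have hCA : conjBy C w = A := by
    have := (fix_transport hS h1 h2 hDC hw (one_mem (B ⊔ D))).1 (by rw [conjBy_one, ← hwe])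
    rwa [conjBy_one] at this
  have hO : {E | ∃ x ∈ B ⊔ D, E = conjBy A x} = T₁ := by
    ext E
    constructor
    · rintro ⟨x, hx, rfl⟩
      exact hinv x hx A (Or.inl ⟨1, B.one_mem, conjBy_one A⟩)
    · rintro (⟨b, hb, rfl⟩ | hE)
      · exact ⟨b, Subgroup.mem_sup_left hb, rfl⟩
      · refine ⟨w⁻¹, inv_mem hw, ?_⟩
        rw [Set.mem_singleton_iff.1 hE, ← hCA, conjBy_inv_conjBy]
  refine ⟨?_, hO, hO.trans h12⟩
  ext E
  constructor
  · rintro ⟨x, hx, rfl⟩
    exact ⟨x * w, mul_mem hx hw, by rw [← conjBy_mul, hCA]⟩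
  · rintro ⟨x, hx, rfl⟩
    exact ⟨x * w⁻¹, mul_mem hx (inv_mem hw), by rw [← conjBy_mul, ← hCA, conjBy_inv_conjBy]⟩

include hS h1 h2 hDC in
theorem orbit_partition (hB : B ∈ S) (hD : D ∈ S) :
    IsSubgroupPartition (A ⊔ ⁅A, B⁆) {E | ∃ x ∈ B ⊔ D, E = conjBy A x} := by
  obtain ⟨-, hO, hO2⟩ := orbit_facts hS h1 h2 hDC hB hD
  refine ⟨?_, ?_, ?_⟩
  · rintro E ⟨x, hx, rfl⟩
    calc conjBy A x ≤ conjBy (A ⊔ ⁅A, B⁆) x := Subgroup.map_mono le_sup_left
      _ = _ := conjBy_line h1 h2 hDC hx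
  · intro x hx _
    rw [hO]
    by_cases hxC : x ∈ ⁅A, B⁆
    · exact ⟨_, Or.inr rfl, hxC⟩
    · obtain ⟨b, hb, hxb⟩ := line_cover h1 hx hxC
      exact ⟨_, Or.inl ⟨b, hb, rfl⟩, hxb⟩
  · have hAdist : ∀ b ∈ B, conjBy A b ≠ A → A ⊓ conjBy A b = ⊥ := by
      intro b hb hne
      have hmem : conjBy A b ∈ {E | ∃ x ∈ B ⊔ D, E = conjBy A x} := ⟨b, Subgroup.mem_sup_left hb, rfl⟩
      rw [hO2] at hmem
      rcases hmem with ⟨d, hd, he⟩ | he
      · simp only at he
        have hDfix : conjBy A d = A := by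
          have := fixed_line (rc_symm h2) hd
          rwa [Subgroup.commutator_comm ⁅A, B⁆ D, hDC] at this
        have h6 := congrArg (fun U : Subgroup G => conjBy U d) (inf_line_eq_bot hS h1)
        simp only [conjBy_inf, conjBy_bot] at h6
        rw [hDfix] at h6
        rw [← he]; exact h6
      · exact absurd (Set.mem_singleton_iff.1 he) hne
    intro E hE F hF hne
    rw [hO] at hE hF
    rcases hE with ⟨b, hb, rfl⟩ | hE
    · rcases hF with ⟨b', hb', rfl⟩ | hF
      · simp only at hne ⊢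
        have hne' : conjBy A (b⁻¹ * b') ≠ A := by
          intro he
          apply hne
          conv_lhs => rw [← he]
          rw [conjBy_mul, mul_inv_cancel_left]
        have := congrArg (fun U : Subgroup G => conjBy U b)
          (hAdist _ (mul_mem (inv_mem hb) hb') hne')
        simp only [conjBy_inf, conjBy_bot] at this
        rwa [conjBy_mul, mul_inv_cancel_left] at this
      · rw [Set.mem_singleton_iff.1 hF]; exact conj_inf_line hS h1 hb
    · rcases hF with ⟨b, hb, rfl⟩ | hF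
      · rw [Set.mem_singleton_iff.1 hE, inf_comm]; exact conj_inf_line hS h1 hb
      · exact absurd ((Set.mem_singleton_iff.1 hE).trans (Set.mem_singleton_iff.1 hF).symm) hne

include hS h1 h2 hDC in
theorem centralizer_central (hB : B ∈ S) (hD : D ∈ S) :
    ∀ x ∈ (B ⊔ D) ⊓ Subgroup.centralizer ((A ⊔ ⁅A, B⁆ : Subgroup G) : Set G),
      ∀ y ∈ B ⊔ D, x * y = y * x := by
  rintro x ⟨hx, hxc⟩
  have hp := pair_opposite hS h1 h2 hDC hB hD
  have hxn : ∀ z ∈ A ⊔ ⁅A, B⁆, x * z = z * x := fun z hz =>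
    (Subgroup.mem_centralizer_iff.1 hxc z hz).symm
  have hself : ∀ U : Subgroup G, U ≤ A ⊔ ⁅A, B⁆ → conjBy U x = U := fun U hU =>
    conjBy_eq_self_iff.2 (Subgroup.centralizer_le_normalizer _
      (Subgroup.mem_centralizer_iff.2 fun z hz => (hxn z (hU hz)).symm))
  have hAC : ∀ b ∈ B, conjBy A b ≠ ⁅A, B⁆ := by
    intro b hb he
    have h5 := conj_inf_line hS h1 hb
    rw [he, inf_idem] at h5
    exact rc_ne_bot hS h1 h5
  have hBx : conjBy B x = B := by
    by_contra hne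
    obtain ⟨b, hb, he⟩ := exists_conj_eq_right hp (conjBy_mem_unipotents self_mem_unipotents hx) hne
    have := (fix_transport hS h1 h2 hDC hx (Subgroup.mem_sup_left hb)).1 he
    rw [hself _ le_sup_right] at this
    exact hAC b hb this.symm
  have hDx : conjBy D x = D := by
    by_contra hne
    obtain ⟨d, hd, he⟩ := exists_conj_eq_right (RankOnePair_symm hp)
      (show conjBy D x ∈ unipotentSubgroups D B from
        conjBy_mem_unipotents self_mem_unipotents (sup_comm B D ▸ hx)) hne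
    have := (fix_transport hS h1 h2 hDC (Subgroup.mem_sup_right hd) hx).1 he.symm
    rw [hself _ le_sup_left] at this
    -- `A = C^d` forces `C = A`
    have hdA : conjBy A d = A := by
      have h0 := fixed_line (rc_symm h2) hd
      rwa [Subgroup.commutator_comm ⁅A, B⁆ D, hDC] at h0
    conv_rhs at this => rw [← hdA]
    exact rc_left_ne hS h1 (conjBy_injective d this)
  have key : B ⊔ D ≤ Subgroup.centralizer ({x} : Set G) := by
    refine sup_le (fun b hb => ?_) (fun d hd => ?_)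
    · refine Subgroup.mem_centralizer_iff.2 fun z hz => ?_
      rw [Set.mem_singleton_iff.1 hz]
      have hm : x * b * x⁻¹ * b⁻¹ ∈ B := by
        have : x * b * x⁻¹ ∈ conjBy B x := by rw [mem_conjBy]; simpa [mul_assoc] using hb
        rw [hBx] at this
        exact mul_mem this (inv_mem hb)
      have h0 : x * b * x⁻¹ * b⁻¹ = 1 := by
        refine rc_inj_left hS (rc_symm h1) hm fun a ha => ?_
        have haN : a ∈ A ⊔ ⁅A, B⁆ := Subgroup.mem_sup_left ha
        have hbaN : b⁻¹ * a * b ∈ A ⊔ ⁅A, B⁆ := by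
          rw [← mem_conjBy, conjBy_line h1 h2 hDC (Subgroup.mem_sup_left hb)]; exact haN
        have k1 := hxn a haN
        have k2 := hxn _ hbaN
        calc x * b * x⁻¹ * b⁻¹ * a
            = x * b * x⁻¹ * (b⁻¹ * a * b) * b⁻¹ := by group
          _ = x * b * (b⁻¹ * a * b) * x⁻¹ * b⁻¹ := by
              have : x⁻¹ * (b⁻¹ * a * b) = (b⁻¹ * a * b) * x⁻¹ :=
                (Commute.inv_left (show Commute x _ from k2)).eq
              rw [mul_assoc (x * b), this]; group
          _ = (x * a) * b * x⁻¹ * b⁻¹ := by group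
          _ = a * (x * b * x⁻¹ * b⁻¹) := by rw [k1]; group
      rw [mul_inv_eq_one, mul_inv_eq_iff_eq_mul] at h0
      exact h0
    · refine Subgroup.mem_centralizer_iff.2 fun z hz => ?_
      rw [Set.mem_singleton_iff.1 hz]
      have hm : x * d * x⁻¹ * d⁻¹ ∈ D := by
        have : x * d * x⁻¹ ∈ conjBy D x := by rw [mem_conjBy]; simpa [mul_assoc] using hd
        rw [hDx] at this
        exact mul_mem this (inv_mem hd)
      have h0 : x * d * x⁻¹ * d⁻¹ = 1 := by
        refine rc_inj_left hS h2 hm fun a ha => ?_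
        have haN : a ∈ A ⊔ ⁅A, B⁆ := Subgroup.mem_sup_right ha
        have hbaN : d⁻¹ * a * d ∈ A ⊔ ⁅A, B⁆ := by
          rw [← mem_conjBy, conjBy_line h1 h2 hDC (Subgroup.mem_sup_right hd)]; exact haN
        have k1 := hxn a haN
        have k2 := hxn _ hbaN
        calc x * d * x⁻¹ * d⁻¹ * a
            = x * d * x⁻¹ * (d⁻¹ * a * d) * d⁻¹ := by group
          _ = x * d * (d⁻¹ * a * d) * x⁻¹ * d⁻¹ := by
              have : x⁻¹ * (d⁻¹ * a * d) = (d⁻¹ * a * d) * x⁻¹ :=
                (Commute.inv_left (show Commute x _ from k2)).eq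
              rw [mul_assoc (x * d), this]; group
          _ = (x * a) * d * x⁻¹ * d⁻¹ := by group
          _ = a * (x * d * x⁻¹ * d⁻¹) := by rw [k1]; group
      rw [mul_inv_eq_one, mul_inv_eq_iff_eq_mul] at h0
      exact h0
  exact fun y hy => Subgroup.mem_centralizer_iff.1 (key hy) x rfl

end Opposite

end Cfsg.Agent.RootSubLine
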