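import Cfsg.Agent.Lib.RootSubConn
import Cfsg.Agent.Lib.RankOneSpecial

/-!
In a set of abstract root subgroups a rank one pair `A, B` is special as soon as some member
commuting with `A` is also a partner of `B`; in a degenerate class this nearly always happens.
-/

set_option autoImplicit false

namespace Cfsg.Agent.RootSubSpecial

open Cfsg RankOne RankOneSpecial RootSub RootSubConn

variable {G : Type*} [Group G] {S : Set (Subgroup G)} {A B C M : Subgroup G} {a c m : G}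

/-- `A, C` commuting partners of `M`, with `a ∈ A` and `c ∈ C` sharing the partner `m ∈ M`. -/
structure Triangle (S : Set (Subgroup G)) (A C M : Subgroup G) (a c m : G) : Prop where
  hA : A ∈ S
  hC : C ∈ S
  hM : M ∈ S
  ne : A ≠ C
  comm : ⁅A, C⁆ = ⊥
  pA : IsRankOnePair A M
  pC : IsRankOnePair C M
  qA : Partner A M a m
  qC : Partner C M c m

namespace Triangle

variable (hS : IsRootSubgroupSet S) (T : Triangle S A C M a c m)

include T in
theorem hac : a * c = c * a := elem_comm T.comm T.qA.mem_left T.qC.mem_left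

include T in
theorem q_move_ne : conjBy M (a * c⁻¹) ≠ M := by
  intro h
  have h1 : conjBy M c⁻¹ = conjBy M a⁻¹ := by
    conv_rhs => rw [← h]
    rw [conjBy_mul, inv_mul_cancel_left]
  rw [← T.qA.eq, ← T.qC.eq] at h1
  exact T.ne (conjBy_injective _ h1).symm

include T in
theorem q_move_comm : ⁅M, conjBy M (a * c⁻¹)⁆ = ⊥ := by
  have h1 := commutator_conjBy_eq_bot (g := m⁻¹) T.comm
  rw [T.qA.eq, T.qC.eq] at h1
  have h2 := commutator_conjBy_eq_bot (g := a) h1
  rwa [conjBy_conjBy_inv, conjBy_mul] at h2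

include hS T in
theorem q_mem {x : G} (hx : x ∈ M) (h : (a * c⁻¹) * x = x * (a * c⁻¹)) : x = 1 := by
  rcases inf_eq_bot_or_eq hS T.hM T.hA (RankOnePair_symm T.pA)
    (hS.conj_mem M T.hM (a * c⁻¹)) with h1 | h1
  · refine Subgroup.mem_bot.1 (h1 ▸ Subgroup.mem_inf.2 ⟨hx, ?_⟩)
    rw [mem_conjBy, mul_assoc, ← h, inv_mul_cancel_left]
    exact hx
  · exact absurd h1.symm T.q_move_ne

include hS T in
theorem q_fix_left : conjBy A (a * c⁻¹) = A := by
  rw [← conjBy_mul, conjBy_eq_self_iff.2 (Subgroup.centralizer_le_normalizer _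
    (le_centralizer_of_commutator_eq_bot (B := A) (by rw [Subgroup.commutator_comm]; exact T.comm)
      (inv_mem T.qC.mem_left))), conjBy_of_mem T.qA.mem_left]

include hS T in
theorem q_fix_right : conjBy C (a * c⁻¹) = C := by
  rw [← conjBy_mul, conjBy_of_mem (inv_mem T.qC.mem_left),
    conjBy_eq_self_iff.2 (Subgroup.centralizer_le_normalizer _
    (le_centralizer_of_commutator_eq_bot T.comm T.qA.mem_left))]

include hS T in
theorem q_comm_left {x : G} (hx : x ∈ A) : (a * c⁻¹) * x = x * (a * c⁻¹) :=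
  ((show Commute a x from comm_of_mem hS T.hA T.qA.mem_left hx).mul_left
    (show Commute c x from (elem_comm T.comm hx T.qC.mem_left).symm).inv_left).eq

include hS T in
theorem q_comm_right {x : G} (hx : x ∈ C) : (a * c⁻¹) * x = x * (a * c⁻¹) :=
  ((show Commute a x from elem_comm T.comm T.qA.mem_left hx).mul_left
    (show Commute c x from comm_of_mem hS T.hC T.qC.mem_left hx).inv_left).eq

include hS T in
theorem p_comm {x y : G} (hx : x ∈ M) (hy : y ∈ M) :
    x * (y * (a * c⁻¹) * y⁻¹ * (a * c⁻¹)⁻¹) = (y * (a * c⁻¹) * y⁻¹ * (a * c⁻¹)⁻¹) * x := by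
  have h1 : (a * c⁻¹) * y⁻¹ * (a * c⁻¹)⁻¹ ∈ conjBy M (a * c⁻¹) := by
    rw [mem_conjBy]; simpa [mul_assoc] using hy
  have h2 : Commute x (y * ((a * c⁻¹) * y⁻¹ * (a * c⁻¹)⁻¹)) :=
    (show Commute x y from comm_of_mem hS T.hM hx hy).mul_right
      (elem_comm T.q_move_comm hx h1)
  simpa [mul_assoc] using h2.eq

include hS T in
theorem p_move : conjBy A (m * (a * c⁻¹) * m⁻¹ * (a * c⁻¹)⁻¹) = C := by
  have hq : conjBy A (a * c⁻¹)⁻¹ = A := by
    conv_lhs => rw [← q_fix_left hS T, conjBy_inv_conjBy]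
  have hkey : (a * c⁻¹) * a⁻¹ = c⁻¹ := by
    rw [show a * c⁻¹ = c⁻¹ * a from (show Commute a c from T.hac).inv_right.eq, mul_inv_cancel_right]
  calc conjBy A (m * (a * c⁻¹) * m⁻¹ * (a * c⁻¹)⁻¹)
      = conjBy (conjBy (conjBy A m⁻¹) (a * c⁻¹)) m := by
        rw [← conjBy_mul _ _ (a * c⁻¹)⁻¹, hq, conjBy_mul, conjBy_mul]
    _ = conjBy (conjBy C m⁻¹) m := by rw [T.qA.eq, T.qC.eq, conjBy_mul M (a * c⁻¹) a⁻¹, hkey]
    _ = C := conjBy_conjBy_inv _ _

include hS T in
/-- Conjugation by `p` carries `A` onto `C` preserving partners. -/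
theorem partner_transfer {x y : G} (hxy : Partner A M x y) :
    Partner C M ((m * (a * c⁻¹) * m⁻¹ * (a * c⁻¹)⁻¹) * x *
      (m * (a * c⁻¹) * m⁻¹ * (a * c⁻¹)⁻¹)⁻¹) y := by
  set p := m * (a * c⁻¹) * m⁻¹ * (a * c⁻¹)⁻¹ with hp
  have hyp : y * p = p * y := p_comm hS T hxy.mem_right T.qA.mem_right
  have hpM : conjBy M p = M := by
    refine conjBy_eq_self_iff.2 (Subgroup.centralizer_le_normalizer _ ?_)
    exact Subgroup.mem_centralizer_iff.2 fun z hz => p_comm hS T hz T.qA.mem_right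
  have h1 : conjBy A p = C := p_move hS T
  refine ⟨h1 ▸ (mem_conjBy.2 (by simpa [mul_assoc] using hxy.mem_left)),
    fun h => hxy.left_ne ?_, hxy.mem_right, hxy.right_ne, ?_⟩
  · calc x = p⁻¹ * (p * x * p⁻¹) * p := by group
      _ = 1 := by rw [h]; group
  · have h3 : y⁻¹ * p = p * y⁻¹ := (show Commute y p from hyp).inv_left.eq
    rw [← h1, conjBy_mul, h3, ← conjBy_mul, hxy.eq, mul_inv_rev, mul_inv_rev, inv_inv]
    conv_rhs => rw [← hpM]
    rw [conjBy_mul, conjBy_mul, hp]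
    group

include hS T in
theorem p_conj :
    (m * (a * c⁻¹) * m⁻¹ * (a * c⁻¹)⁻¹) * a * (m * (a * c⁻¹) * m⁻¹ * (a * c⁻¹)⁻¹)⁻¹ = c :=
  (partner_transfer hS T T.qA).unique_left T.pC T.qC

include hS T in
theorem qq_comm : ⁅M, conjBy M ((a * c⁻¹) * (a * c⁻¹))⁆ = ⊥ := by
  have he : (a * c⁻¹) * (a * c⁻¹) = a * a * (c * c)⁻¹ := by
    have h : Commute c⁻¹ a := ((show Commute a c from T.hac).inv_right).symm
    rw [mul_inv_rev, mul_assoc a a, mul_assoc a c⁻¹, ← mul_assoc c⁻¹ a c⁻¹, h.eq, ← mul_assoc a a]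
    group
  have hpp := p_conj hS T
  set p := m * (a * c⁻¹) * m⁻¹ * (a * c⁻¹)⁻¹ with hp
  have hcc : p * (a * a) * p⁻¹ = c * c := by rw [← hpp]; group
  rw [he]
  rcases eq_or_ne (a * a) 1 with h | h
  · rw [← hcc, h]
    simp only [mul_one, mul_inv_cancel, inv_one, conjBy_one]
    exact commutator_self hS T.hM
  · obtain ⟨y, hy⟩ := exists_partner' T.pA (mul_mem T.qA.mem_left T.qA.mem_left) h
    have T' : Triangle S A C M (a * a) (c * c) y :=
      ⟨T.hA, T.hC, T.hM, T.ne, T.comm, T.pA, T.pC, hy, hcc ▸ partner_transfer hS T hy⟩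
    exact T'.q_move_comm

end Triangle

/-- A rank one pair `A, B` is special if a member other than `A` commutes with `A` and is a
partner of `B`. -/
theorem special_of_triangle (hS : IsRootSubgroupSet S) (hA : A ∈ S) (hB : B ∈ S) (hC : C ∈ S)
    (hne : A ≠ C) (hcomm : ⁅A, C⁆ = ⊥) (hp : IsRankOnePair A B) (hpC : IsRankOnePair C B) :
    IsSpecialRankOnePair A B := by
  refine ⟨hp, fun a ha ha1 b hb hb1 he => ?_⟩
  obtain ⟨c, hc⟩ := exists_partner_right hpC hb hb1
  have hab : Partner A B a b := ⟨ha, ha1, hb, hb1, he⟩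
  have T : Triangle S A C B a c b := ⟨hA, hC, hB, hne, hcomm, hp, hpC, hab, hc⟩
  have hq_a : (a * c⁻¹) * a = a * (a * c⁻¹) := Triangle.q_comm_left hS T ha
  have hpb := Triangle.p_comm hS T hb hb
  have hconj := Triangle.p_conj hS T
  set q := a * c⁻¹ with hq
  set p := b * q * b⁻¹ * q⁻¹ with hpdef
  have hcq : c = q⁻¹ * a := by rw [hq]; group
  have hap : a * p * a⁻¹ = q * p := by
    have h1 : p * a * p⁻¹ = q⁻¹ * a := by rw [← hcq]; exact hconj
    calc a * p * a⁻¹ = a * (p * a * p⁻¹)⁻¹ * p := by group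
      _ = a * (q⁻¹ * a)⁻¹ * p := by rw [h1]
      _ = q * p := by
        rw [show a * (q⁻¹ * a)⁻¹ = q by group]
  have hbq : b⁻¹ * q * b = p⁻¹ * q := by
    have h1 : b * p = p * b := hpb
    calc b⁻¹ * q * b = b⁻¹ * (p⁻¹ * (p * q)) * b := by group
      _ = (p * b)⁻¹ * (b * q * b⁻¹) * b := by rw [hpdef]; group
      _ = p⁻¹ * q := by rw [← h1]; group
  have haq : a⁻¹ * q * a = q := by
    rw [mul_assoc, hq_a, inv_mul_cancel_left]
  set e := a * (b⁻¹ * a * b) * a⁻¹ with hedef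
  have heB : e ∈ B := psi_mem hab ha
  have heq : e * q * e⁻¹ = b⁻¹ * q * b := by
    have h1 : a * (b * q * b⁻¹) * a⁻¹ = q * p * q := by
      calc a * (b * q * b⁻¹) * a⁻¹ = (a * p * a⁻¹) * (a * q * a⁻¹) := by rw [hpdef]; group
        _ = q * p * q := by rw [hap, ← hq_a, mul_inv_cancel_right]
    have h2 : b⁻¹ * p * b = p := by rw [mul_assoc, ← hpb, inv_mul_cancel_left]
    calc e * q * e⁻¹ = a * (b⁻¹ * (a * (b * (a⁻¹ * q * a) * b⁻¹) * a⁻¹) * b) * a⁻¹ := by
          rw [hedef]; group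
      _ = a * (b⁻¹ * (q * p * q) * b) * a⁻¹ := by rw [haq, h1]
      _ = a * ((b⁻¹ * q * b) * (b⁻¹ * p * b) * (b⁻¹ * q * b)) * a⁻¹ := by group
      _ = a * (p⁻¹ * q * p * (p⁻¹ * q)) * a⁻¹ := by rw [hbq, h2]
      _ = (a * p * a⁻¹)⁻¹ * ((a * q * a⁻¹) * (a * q * a⁻¹)) := by group
      _ = (q * p)⁻¹ * (q * q) := by rw [hap, ← hq_a, mul_inv_cancel_right]
      _ = p⁻¹ * q := by group
      _ = b⁻¹ * q * b := hbq.symm
  have h1 : b * e = 1 := by
    refine Triangle.q_mem hS T (mul_mem hb heB) ?_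
    calc q * (b * e) = b * (b⁻¹ * q * b) * e := by group
      _ = b * (e * q * e⁻¹) * e := by rw [heq]
      _ = b * e * q := by group
  have h2 : e = b⁻¹ := eq_inv_of_mul_eq_one_right h1
  calc b⁻¹ * a * b = a⁻¹ * e * a := by rw [hedef]; group
    _ = a⁻¹ * b⁻¹ * a := by rw [h2]

/-- If `A, C` commute and share the partner `M`, then no member commuting with `C` and forming a
rank one pair with `A` can commute with every other member commuting with `A`. -/
theorem no_twin (hS : IsRootSubgroupSet S) (T : Triangle S C A M c a m)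
    (hp : IsRankOnePair A B)
    (hP : ∀ D ∈ S, D ≠ A → ⁅A, D⁆ = ⊥ → ⁅B, D⁆ = ⊥)
    {β δ : G} (hβ : β ∈ M) (hδ : δ ∈ M) (hβ1 : β ≠ 1) (hδ1 : δ ≠ 1) (hβδ : β * δ ≠ 1)
    (hβm : β ≠ m) (hδm : δ ≠ m) (hβδm : β * δ ≠ m) : False := by
  set q := c * a⁻¹ with hq
  let P : G → G := fun x => x * q * x⁻¹ * q⁻¹
  have hPc : ∀ x ∈ M, ∀ y ∈ M, x * P y = P y * x := fun x hx y hy =>
    Triangle.p_comm hS T hx hy
  have hm : m ∈ M := T.qA.mem_right
  have hPmul : ∀ x ∈ M, ∀ y ∈ M, P (x * y) = P y * P x := by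
    intro x hx y hy
    calc P (x * y) = x * P y * x⁻¹ * P x := by simp only [P]; group
      _ = P y * P x := by rw [hPc x hx y hy, mul_inv_cancel_right]
  have hPP : ∀ x ∈ M, ∀ y ∈ M, P x * P y = P y * P x := fun x hx y hy => by
    rw [← hPmul y hy x hx, comm_of_mem hS T.hM hy hx, hPmul x hx y hy]
  -- the members `C^x`
  let L : G → Subgroup G := fun x => conjBy C (P x)
  have hLS : ∀ x, L x ∈ S := fun x => hS.conj_mem C T.hA _
  have hL1 : L 1 = C := by simp [L, P, conjBy_one]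
  have hLm : L m = A := Triangle.p_move hS T
  have hLmul : ∀ x ∈ M, ∀ y ∈ M, L (x * y) = conjBy (L x) (P y) := fun x hx y hy => by
    simp only [L]; rw [hPmul x hx y hy, conjBy_mul]
  have hcomm0 : ∀ x ∈ M, ⁅C, L x⁆ = ⊥ ∧ (x ≠ 1 → L x ≠ C) := by
    intro x hx
    rcases eq_or_ne x 1 with rfl | hx1
    · exact ⟨by rw [hL1]; exact commutator_self hS T.hA, fun h => absurd rfl h⟩
    have hqC : conjBy C q⁻¹ = C := by
      conv_lhs => rw [← Triangle.q_fix_left hS T, conjBy_inv_conjBy]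
    obtain ⟨c1, hc1⟩ := exists_partner_right T.pA hx hx1
    have hLx : L x = conjBy (conjBy (conjBy M q) c1⁻¹) x := by
      calc L x = conjBy (conjBy (conjBy C x⁻¹) q) x := by
            simp only [L, P]
            rw [← conjBy_mul _ _ q⁻¹, hqC, conjBy_mul, conjBy_mul]
        _ = conjBy (conjBy (conjBy M q) c1⁻¹) x := by
            rw [hc1.eq, conjBy_mul M q, conjBy_mul M c1⁻¹]
            have : q * c1⁻¹ = c1⁻¹ * q :=
              Triangle.q_comm_left hS T (inv_mem hc1.mem_left)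
            rw [this]
    have hC' : C = conjBy (conjBy M c1⁻¹) x := by rw [← hc1.eq, conjBy_conjBy_inv]
    constructor
    · rw [hLx]
      conv_lhs => arg 1; rw [hC']
      exact commutator_conjBy_eq_bot (commutator_conjBy_eq_bot T.q_move_comm)
    · intro _ h
      rw [hLx] at h
      exact T.q_move_ne (conjBy_injective _ (conjBy_injective _ (h.trans hC')))
  have hcommL : ∀ x ∈ M, ∀ y ∈ M, ⁅L x, L y⁆ = ⊥ ∧ (x ≠ y → L x ≠ L y) := by
    intro x hx y hy
    have h := hcomm0 (y * x⁻¹) (mul_mem hy (inv_mem hx))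
    have hy' : L y = conjBy (L (y * x⁻¹)) (P x) := by
      rw [← hLmul _ (mul_mem hy (inv_mem hx)) _ hx, inv_mul_cancel_right]
    constructor
    · rw [hy']
      exact commutator_conjBy_eq_bot h.1
    · intro hne he
      rw [hy'] at he
      exact h.2 (fun h0 => hne (mul_inv_eq_one.1 h0).symm) (conjBy_injective _ he).symm
  have hBL : ∀ x ∈ M, x ≠ m → ⁅B, L x⁆ = ⊥ := fun x hx hxm => by
    refine hP _ (hLS x) ?_ ?_
    · rw [← hLm]; exact (hcommL x hx m hm).2 hxm
    · rw [← hLm]; exact (hcommL m hm x hx).1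
  -- the elements `c^x`
  let F : G → G := fun x => P x * c * (P x)⁻¹
  have hF : ∀ x, F x ∈ L x := fun x => mem_conjBy.2 (by simpa [F, mul_assoc] using T.qA.mem_left)
  have hFm : F m = a := Triangle.p_conj hS T
  have hFc : ∀ x ∈ M, ∀ y ∈ M, Commute (F x) (F y) := fun x hx y hy =>
    elem_comm (hcommL x hx y hy).1 (hF x) (hF y)
  have hFshift : ∀ x ∈ M, ∀ y ∈ M, P y * F x * (P y)⁻¹ = F (x * y) := fun x hx y hy => by
    simp only [F]; rw [hPmul x hx y hy]; group
  -- `z = [P β, q]`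
  set z := P β * q * (P β)⁻¹ * q⁻¹ with hz
  have hzM : ∀ x ∈ M, x * z = z * x := by
    intro x hx
    have hqq : ∀ y ∈ M, Commute x (q * P y * q⁻¹) → Commute x (P y * (q * P y * q⁻¹)⁻¹) :=
      fun y hy h => (show Commute x (P y) from hPc x hx y hy).mul_right h.inv_right
    have h1 : Commute x (q * P β * q⁻¹) := by
      have hM1 : q * β * q⁻¹ ∈ conjBy M q := by rw [mem_conjBy]; simpa [mul_assoc] using hβ
      have hM2 : q * q * β⁻¹ * q⁻¹ * q⁻¹ ∈ conjBy M (q * q) := by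
        rw [mem_conjBy]; simpa [mul_assoc, mul_inv_rev] using hβ
      have hMqq : ⁅M, conjBy M (q * q)⁆ = ⊥ := Triangle.qq_comm hS T
      have h2 : Commute x ((q * β * q⁻¹) * (q * q * β⁻¹ * q⁻¹ * q⁻¹)) :=
        (show Commute x _ from elem_comm T.q_move_comm hx hM1).mul_right (elem_comm hMqq hx hM2)
      simpa [P, mul_assoc] using h2
    have h3 := hqq β hβ h1
    have he : z = P β * (q * P β * q⁻¹)⁻¹ := by rw [hz]; group
    rw [he]; exact h3.eq
  have hqF : q = F 1 * (F m)⁻¹ := by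
    rw [hFm, hq]; simp [F, P]
  have hzF : z = F β * (F (m * β))⁻¹ * (F m * (F 1)⁻¹) := by
    have e1 := hFshift 1 (one_mem _) β hβ
    have e2 := hFshift m hm β hβ
    rw [one_mul] at e1
    rw [hz, ← e1, ← e2, hqF]; group
  have hzq : Commute q z := by
    have key : ∀ x ∈ M, Commute q (F x) := fun x hx => by
      rw [hqF]; exact (hFc 1 (one_mem _) x hx).mul_left (hFc m hm x hx).inv_left
    rw [hzF]
    exact ((key β hβ).mul_right (key _ (mul_mem hm hβ)).inv_right).mul_right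
      ((key m hm).mul_right (key 1 (one_mem _)).inv_right)
  have hzP : P δ * z * (P δ)⁻¹ = z := by
    have h1 : Commute (P δ) z := by
      have hd : Commute δ z := hzM δ hδ
      exact ((hd.mul_left hzq).mul_left hd.inv_left).mul_left hzq.inv_left
    rw [h1.eq, mul_inv_cancel_right]
  rw [hzF] at hzP
  have hid : F (β * δ) * (F (m * β * δ))⁻¹ * (F (m * δ) * (F δ)⁻¹) =
      F β * (F (m * β))⁻¹ * (F m * (F 1)⁻¹) := by
    have e1 := hFshift 1 (one_mem _) δ hδ
    rw [one_mul] at e1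
    rw [← e1, ← hFshift β hβ δ hδ, ← hFshift _ (mul_mem hm hβ) δ hδ, ← hFshift m hm δ hδ]
    refine Eq.trans ?_ hzP
    group
  have hfin : F m = (F (m * β)) * (F β)⁻¹ *
      (F (β * δ) * (F (m * β * δ))⁻¹ * (F (m * δ) * (F δ)⁻¹)) * F 1 := by
    rw [hid]; group
  have hBF : ∀ x ∈ M, x ≠ m → ∀ b ∈ B, Commute b (F x) := fun x hx hxm b hb =>
    elem_comm (hBL x hx hxm) hb (hF x)
  have hne : ∀ x, x ≠ 1 → m * x ≠ m := fun x hx h => hx (mul_eq_left.1 h)
  refine T.qC.left_ne (eq_one_of_centralizes hp T.qC.mem_left fun b hb => ?_)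
  have hcb : Commute b a := by
    rw [← hFm, hfin]
    refine (((hBF _ (mul_mem hm hβ) (hne β hβ1) b hb).mul_right
      (hBF β hβ hβm b hb).inv_right).mul_right
      (((hBF _ (mul_mem hβ hδ) hβδm b hb).mul_right
        (hBF _ (mul_mem (mul_mem hm hβ) hδ) ?_ b hb).inv_right).mul_right
        ((hBF _ (mul_mem hm hδ) (hne δ hδ1) b hb).mul_right
          (hBF δ hδ hδm b hb).inv_right))).mul_right (hBF 1 (one_mem _) ?_ b hb)
    · rw [mul_assoc]; exact hne _ hβδ
    · exact Ne.symm T.qA.right_ne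
  exact hcb.symm.eq

end Cfsg.Agent.RootSubSpecial
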