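import Mathlib
import Cfsg.Prelude.Def_RootSubgroups
import Cfsg.Agent.Lib.RootSub
import Cfsg.Agent.Lib.RootSubConn
import Cfsg.Agent.Lib.QuadPairRootSet
import Cfsg.Agent.Lib.QuadPairComponents

/-!
Sets of subgroups any two of which commute or form a rank one pair, viewed inside the group they
generate: abstract root subgroups, degenerate, `k`-root subgroups, connected.
-/

set_option autoImplicit false
set_option linter.unusedSectionVars false

namespace Cfsg.Agent.RootSubTransfer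

open Cfsg
open scoped commutatorElement

variable {P : Type*} [Group P] {S : Set (Subgroup P)}

/-- The members of `S` inside the group they generate. -/
abbrev inside (S : Set (Subgroup P)) : Set (Subgroup ↥(⨆ B ∈ S, B)) :=
  (fun A : Subgroup P => A.subgroupOf (⨆ B ∈ S, B)) '' S

theorem le_sup {A : Subgroup P} (hA : A ∈ S) : A ≤ ⨆ B ∈ S, B := le_iSup₂_of_le A hA le_rfl

/-- The hypotheses. -/
structure Hyp (S : Set (Subgroup P)) : Prop where
  comm : ∀ A ∈ S, IsMulCommutative A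
  ne : ∀ A ∈ S, A ≠ ⊥
  conj : ∀ A ∈ S, ∀ g : P, conjBy A g ∈ S
  pair : ∀ A ∈ S, ∀ B ∈ S, ⁅A, B⁆ = ⊥ ∨ IsRankOnePair A B

theorem rootSet (h : Hyp S) : IsRootSubgroupSet (inside S) :=
  QuadPairRootSet.isRootSubgroupSet_subgroupOf h.comm h.ne (fun A hA g _ => h.conj A hA g)
    fun A hA B hB => (h.pair A hA B hB).imp_right Or.inl

theorem degenerate (h : Hyp S) : IsDegenerateRootSet (inside S) := by
  rintro _ ⟨A, hA, rfl⟩ _ ⟨B, hB, rfl⟩ hrc
  rcases h.pair A hA B hB with h0 | h0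
  · apply (rootSet h).ne_bot _ hrc.1
    rw [QuadPairRootSet.commutator_subgroupOf (le_sup hA) (le_sup hB), h0, Subgroup.bot_subgroupOf]
  · exact RootSub.rc_not_rankOne (rootSet h) ⟨B, hB, rfl⟩ hrc
      (QuadPairRootSet.isRankOnePair_subgroupOf (le_sup hA) (le_sup hB) h0)

theorem connected (hc : IsConnectedFamily (FAdj S) S) : IsConnectedFamily (FAdj (inside S)) (inside S) := by
  rintro _ ⟨A, hA, rfl⟩ _ ⟨B, hB, rfl⟩
  exact QuadPairComponents.path_down (fun _ => le_sup) (hc A hA B hB)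

theorem rootClass (h : Hyp S) (hne : S.Nonempty) (hc : IsConnectedFamily (FAdj S) S) :
    IsRootSubgroupClass (inside S) :=
  ⟨rootSet h, hne.image _, fun A hA B hB => RootSubConn.path_conj (connected hc A hA B hB)⟩

theorem psl_subgroupOf {k : Type*} [Field k] {H A B : Subgroup P} (hA : A ≤ H) (hB : B ≤ H)
    (h : IsPSL2PairOver k A B) : IsPSL2PairOver k (A.subgroupOf H) (B.subgroupOf H) := by
  obtain ⟨φ, hr, hk, hu, hl⟩ := h
  have hle : ∀ x, φ x ∈ H := fun x => sup_le hA hB (hr ▸ ⟨x, rfl⟩)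
  have hmap : ∀ {X : Subgroup (Matrix.SpecialLinearGroup (Fin 2) k)} {Y : Subgroup P}, Y ≤ H →
      X.map φ = Y → X.map (φ.codRestrict H hle) = Y.subgroupOf H := by
    intro X Y hY e
    apply Subgroup.map_injective H.subtype_injective
    rw [Subgroup.map_subgroupOf_eq_of_le hY, Subgroup.map_map]
    exact e
  refine ⟨φ.codRestrict H hle, ?_, by rwa [MonoidHom.ker_codRestrict], hmap hA hu, hmap hB hl⟩
  rw [MonoidHom.range_eq_map, hmap (sup_le hA hB) (by rw [← MonoidHom.range_eq_map, hr]),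
    Subgroup.subgroupOf_sup hA hB]

theorem kRootSet {k : Type*} [Field k] (h : Hyp S)
    (hpsl : ∀ A ∈ S, ∀ B ∈ S, IsRankOnePair A B → IsPSL2PairOver k A B) : IsKRootSubgroupSet k (inside S) := by
  refine ⟨rootSet h, ?_⟩
  rintro _ ⟨A, hA, rfl⟩ _ ⟨B, hB, rfl⟩ hp
  exact psl_subgroupOf (le_sup hA) (le_sup hB)
    (hpsl A hA B hB (QuadPairComponents.isRankOnePair_of_subgroupOf (le_sup hA) (le_sup hB) hp))

end Cfsg.Agent.RootSubTransfer
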