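import Cfsg.Agent.Lib.CharInducedClifford
import Cfsg.Agent.Lib.CharBasicDecomp
import Cfsg.Agent.Lib.CharBasicLinear
import Cfsg.Agent.Lib.CharBasicInt
import Cfsg.Agent.Lib.DegreeDvd
import Cfsg.Agent.Lib.HallCore
import Cfsg.Prelude.Def_Transfer

/-! Faithful irreducible characters whose values at `p`-singular elements are roots of unity,
when `O_p(G) ≠ 1`. -/

set_option autoImplicit false

open scoped ComplexConjugate
open Finset

namespace Cfsg.Agent.RootUnityPCore90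

universe u

variable {A : Type u} [Group A] [Fintype A]

open CharBasic CharBasicOrth

/-- The multiplicities of the irreducible constituents of a character. -/
theorem exists_coeff {ψ : A → ℂ} (hψ : Cfsg.IsCharacter A ψ) {d : ℕ} (hd : ψ 1 = d) :
    ∃ c : Cfsg.IrrCharacter A → ℕ,
      (∀ θ : Cfsg.IrrCharacter A, Cfsg.classInner ψ θ = c θ) ∧
      (∑ θ, (c θ : ℂ) * (θ : A → ℂ) 1 = d) ∧
      (∑ a, ‖ψ a‖ ^ 2 = (Nat.card A : ℝ) * (∑ θ, (c θ) ^ 2 : ℕ)) := by
  choose c hc using fun θ : Cfsg.IrrCharacter A =>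
    CharInduced.coeff_nat hψ θ.2
  have hcf := CharBasic.isClassFunction_of_isCharacter hψ
  refine ⟨c, hc, ?_, ?_⟩
  · have h := congrFun (eq_sum_classInner hcf) 1
    rw [hd] at h
    rw [h]
    simp [Finset.sum_apply, hc]
  · have h1 : Cfsg.classInner ψ ψ = ((∑ θ, (c θ) ^ 2 : ℕ) : ℂ) := by
      rw [classInner_eq_sum hcf]
      simp [hc, pow_two]
    have h2 : Cfsg.classInner ψ ψ = (Nat.card A : ℂ)⁻¹ * ((∑ a, ‖ψ a‖ ^ 2 : ℝ) : ℂ) := by
      rw [Cfsg.classInner]
      push_cast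
      simp [Complex.mul_conj']
    rw [h1] at h2
    have h0 : (Nat.card A : ℂ) ≠ 0 := Nat.cast_ne_zero.2 Nat.card_pos.ne'
    have h3 := congrArg ((Nat.card A : ℂ) * ·) h2
    simp only [← mul_assoc, mul_inv_cancel₀ h0, one_mul] at h3
    exact_mod_cast h3.symm

variable {G : Type u} [Group G] [Finite G] {p : ℕ} [hp : Fact p.Prime]

theorem norm_one_of_root {x : ℂ} (h : ∃ n : ℕ, 0 < n ∧ x ^ n = 1) : ‖x‖ = 1 := by
  obtain ⟨n, hn, hx⟩ := h
  have := congrArg norm hx
  rw [norm_pow, norm_one] at this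
  exact (pow_eq_one_iff_of_nonneg (norm_nonneg _) hn.ne').mp this

/-- The standing hypotheses. -/
structure Hyp (p : ℕ) (χ : G → ℂ) (d : ℕ) : Prop where
  irr : Cfsg.IsIrrCharacter G χ
  deg : χ 1 = d
  two_le : 2 ≤ d
  faithful : ∀ g : G, χ g = χ 1 → g = 1
  norm : ∀ g : G, p ∣ orderOf g → ‖χ g‖ = 1
  ne_bot : Cfsg.pCore p G ≠ ⊥

namespace Hyp

variable {χ : G → ℂ} {d : ℕ} (h : Hyp p χ d)
include h

omit hp in
theorem central_of_norm (c : G) (hc : ‖χ c‖ = d) : c ∈ Subgroup.center G := by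
  obtain ⟨n, ρ, hρ, hρχ⟩ := h.irr
  have hd : (Module.finrank ℂ (Fin n → ℂ) : ℂ) = d := by
    rw [← Representation.char_one ρ, hρχ, h.deg]
  obtain ⟨ω, hω, hωχ⟩ := exists_scalar_of_norm_eq ρ c (by
    rw [hρχ, hc]; exact_mod_cast (congrArg Complex.re hd).symm)
  rw [Subgroup.mem_center_iff]
  intro g
  rw [← inv_mul_eq_one]
  apply h.faithful
  have hcomm : ρ (g * c) = ρ (c * g) := by
    rw [map_mul, map_mul, hω]
    refine LinearMap.ext fun v => ?_
    simp
  rw [← hρχ, Representation.char_one]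
  apply (character_eq_finrank_iff ρ _).2
  rw [map_mul]
  have : ρ ((g * c)⁻¹) * ρ (g * c) = 1 := by rw [← map_mul, inv_mul_cancel, map_one]
  rw [hcomm] at this
  exact this

omit hp in
theorem norm_of_center {c : G} (hc : c ∈ Subgroup.center G) : ‖χ c‖ = d := by
  obtain ⟨n, ρ, hρ, hρχ⟩ := h.irr
  obtain ⟨ω, hω⟩ := exists_scalar_of_mem_center ρ hc
  rw [← hρχ, (norm_eq_finrank_iff ρ c).2 ⟨ω, hω⟩]
  have : (Module.finrank ℂ (Fin n → ℂ) : ℂ) = d := by
    rw [← Representation.char_one ρ, hρχ, h.deg]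
  exact_mod_cast congrArg Complex.re this

omit hp in
theorem not_dvd_order_of_center {c : G} (hc : c ∈ Subgroup.center G) : ¬ p ∣ orderOf c := by
  intro hpc
  have h1 := h.norm c hpc
  rw [h.norm_of_center hc] at h1
  have := h.two_le
  have : d = 1 := by exact_mod_cast h1
  omega

theorem not_dvd_card_center : ¬ p ∣ Nat.card (Subgroup.center G) := by
  intro hd
  obtain ⟨z, hz⟩ := exists_prime_orderOf_dvd_card' p hd
  apply h.not_dvd_order_of_center z.2
  rw [Subgroup.orderOf_coe, hz]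

omit h [Finite G] in
theorem dvd_orderOf_of_isPGroup {R : Subgroup G} (hR : IsPGroup p R) {a : R} (ha : a ≠ 1) :
    p ∣ orderOf (a : G) := by
  obtain ⟨k, hk⟩ := hR a
  obtain ⟨j, -, hj⟩ := (Nat.dvd_prime_pow hp.out).mp (orderOf_dvd_of_pow_eq_one hk)
  rw [Subgroup.orderOf_coe, hj]
  refine dvd_pow_self p ?_
  rintro rfl
  exact ha (orderOf_eq_one_iff.mp (by rw [hj, pow_zero]))

/-- The norm of the restriction to a `p`-subgroup. -/
theorem res_pSubgroup {R : Subgroup G} [Fintype R] (hR : IsPGroup p R) :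
    ∃ c : Cfsg.IrrCharacter R → ℕ,
      (∀ θ : Cfsg.IrrCharacter R, Cfsg.classInner (fun a : R => χ a) θ = c θ) ∧
      (∑ θ, (c θ : ℂ) * (θ : R → ℂ) 1 = d) ∧
      d ^ 2 + Nat.card R = Nat.card R * (∑ θ, (c θ) ^ 2) + 1 := by
  classical
  obtain ⟨c, h1, h2, h3⟩ := exists_coeff
    (CharBasic.isCharacter_comap R.subtype (isCharacter_of_isIrrCharacter h.irr))
    (d := d) (by simpa using h.deg)
  refine ⟨c, h1, h2, ?_⟩
  rw [← Finset.add_sum_erase _ _ (Finset.mem_univ (1 : R))] at h3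
  have h4 : ∀ a ∈ (Finset.univ : Finset R).erase 1, ‖(χ ∘ R.subtype) a‖ ^ 2 = 1 := fun a ha => by
    rw [Function.comp_apply, Subgroup.coe_subtype, h.norm _ (dvd_orderOf_of_isPGroup hR (Finset.ne_of_mem_erase ha))]
    simp
  rw [Finset.sum_congr rfl h4, Finset.sum_const, Finset.card_erase_of_mem (Finset.mem_univ _),
    Function.comp_apply, map_one, h.deg, Complex.norm_natCast, Finset.card_univ,
    ← Nat.card_eq_fintype_card, nsmul_one] at h3
  have h5 : 1 ≤ Nat.card R := Nat.card_pos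
  have h6 : d ^ 2 + (Nat.card R - 1) = Nat.card R * (∑ θ, (c θ) ^ 2) := by exact_mod_cast h3
  omega

theorem pCore_isPGroup : IsPGroup p (Cfsg.pCore p G) := HallCore.isPGroup_pCore p G

/-- The structure of `O_p(G)` and of the restriction of the character. -/
theorem normal_main (P : Subgroup G) [hPn : P.Normal] [Fintype P] (hPp : IsPGroup p P)
    (hPne : P ≠ ⊥) :
    (∀ a b : P, a * b = b * a) ∧ d + 1 = Nat.card (P) ∧
      (∀ (lam : P →* ℂˣ), lam ≠ 1 →
        Cfsg.classInner (fun a : P => χ a) (fun a => (lam a : ℂ)) = 1) ∧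
      (∀ lam mu : P →* ℂˣ, lam ≠ 1 → mu ≠ 1 →
        ∃ g : G, ∀ (x : G) (hx : x ∈ P) (hgx : g * x * g⁻¹ ∈ P),
          (mu ⟨x, hx⟩ : ℂ) = lam ⟨g * x * g⁻¹, hgx⟩) := by
  classical
  haveI := Fintype.ofFinite G
  have hχ := isCharacter_of_isIrrCharacter h.irr
  have hres : Cfsg.IsCharacter P (fun a : P => χ a) :=
    CharBasic.isCharacter_comap P.subtype hχ
  obtain ⟨c, hc, hcd, hnorm⟩ := h.res_pSubgroup (R := P) hPp
  have hex : ∃ θ, c θ ≠ 0 := by
    by_contra hne
    push_neg at hne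
    rw [Finset.sum_eq_zero (fun η _ => by rw [hne η, Nat.cast_zero, zero_mul])] at hcd
    have : d = 0 := by exact_mod_cast hcd.symm
    have := h.two_le
    omega
  obtain ⟨θ, hθ⟩ := hex
  have hθ0 : Cfsg.classInner (fun a : P => χ a) θ ≠ 0 := by rw [hc]; exact_mod_cast hθ
  have hcl := CharInduced.clifford P h.irr θ.2 hθ0
  rw [hc θ] at hcl
  set Φ := CharInduced.orbitFin P (θ : P → ℂ) with hΦ
  have hirr : ∀ ψ ∈ Φ, Cfsg.IsIrrCharacter P ψ := by
    intro ψ hψ
    obtain ⟨g, rfl⟩ := (CharInduced.mem_orbitFin P).1 hψ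
    exact CharInduced.isIrrCharacter_conjFun P θ.2 g
  have hdeg : ∀ ψ ∈ Φ, ψ 1 = (θ : P → ℂ) 1 := by
    intro ψ hψ
    obtain ⟨g, rfl⟩ := (CharInduced.mem_orbitFin P).1 hψ
    exact congrArg (θ : P → ℂ) (Subtype.ext (by simp))
  obtain ⟨m, hm0, hm, hmdvd⟩ := CharBasicInt.exists_apply_one_dvd_card θ.2
  have hd : d = c θ * (Φ.card * m) := by
    have := congrFun hcl 1
    simp only [Subgroup.coe_one, h.deg, Pi.smul_apply, Finset.sum_apply, smul_eq_mul] at this
    rw [Finset.sum_congr rfl hdeg, Finset.sum_const, hm, nsmul_eq_mul] at this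
    exact_mod_cast this
  have hinner : ∀ ψ ∈ Φ, Cfsg.classInner (fun a : P => χ a) ψ = c θ := by
    intro ψ hψ
    obtain ⟨g, rfl⟩ := (CharInduced.mem_orbitFin P).1 hψ
    rw [CharInduced.classInner_res_conjFun P (CharInduced.isClassFunction_irr h.irr), hc]
  have hsq : (∑ η, (c η) ^ 2 : ℕ) = c θ ^ 2 * Φ.card := by
    have h1 : Cfsg.classInner (fun a : P => χ a) (fun a : P => χ a) =
        ((c θ ^ 2 * Φ.card : ℕ) : ℂ) := by
      nth_rw 2 [hcl]
      rw [classInner_smul_right, classInner_sum_right, Finset.sum_congr rfl hinner,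
        Finset.sum_const, Complex.conj_natCast]
      push_cast; rw [nsmul_eq_mul]; ring
    rw [classInner_eq_sum (CharBasic.isClassFunction_of_isCharacter hres)] at h1
    simp only [hc, Complex.conj_natCast] at h1
    simp only [pow_two] at h1 ⊢
    exact_mod_cast h1
  rw [hsq] at hnorm
  obtain ⟨k, hk⟩ := IsPGroup.iff_card.mp hPp
  have hk0 : k ≠ 0 := by
    rintro rfl
    rw [pow_zero] at hk
    exact hPne (Subgroup.card_eq_one.mp hk)
  have hpd : ¬ p ∣ d := by
    intro hpd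
    have h1 : p ∣ d ^ 2 + Nat.card P := dvd_add (dvd_pow hpd two_ne_zero)
      (hk ▸ dvd_pow_self p hk0)
    rw [hnorm] at h1
    have h2 : p ∣ Nat.card P * (c θ ^ 2 * Φ.card) := Dvd.dvd.mul_right (hk ▸ dvd_pow_self p hk0) _
    exact hp.out.one_lt.ne' (Nat.dvd_one.mp ((Nat.dvd_add_right h2).mp h1))
  have hm1 : m = 1 := by
    rw [hk] at hmdvd
    obtain ⟨j, -, rfl⟩ := (Nat.dvd_prime_pow hp.out).mp hmdvd
    rcases Nat.eq_zero_or_pos j with rfl | hj
    · rfl
    · exact absurd (hd ▸ ((dvd_pow_self p hj.ne').mul_left _).mul_left _) hpd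
  subst hm1
  simp only [mul_one] at hd
  have hlin : ∀ ψ ∈ Φ, ∃ lam : P →* ℂˣ, ψ = fun a => (lam a : ℂ) := fun ψ hψ =>
    CharBasicLinear.exists_hom_of_apply_one_eq_one (isCharacter_of_isIrrCharacter (hirr ψ hψ))
      (by rw [hdeg ψ hψ, hm, Nat.cast_one])
  have hval : ∀ a : P, χ a = (c θ : ℂ) * ∑ ψ ∈ Φ, ψ a := by
    intro a
    have := congrFun hcl a
    simpa [Finset.sum_apply] using this
  have hcomm : ∀ a b : P, a * b = b * a := by
    intro a b
    rw [← mul_inv_eq_one]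
    apply Subtype.ext
    apply h.faithful
    rw [hval, h.deg, hd, Finset.sum_congr rfl (g := fun _ => (1 : ℂ)) fun ψ hψ => ?_]
    · simp
    · obtain ⟨lam, rfl⟩ := hlin ψ hψ
      simp only [map_mul, map_inv]
      rw [mul_comm (lam a) (lam b), mul_inv_cancel]
      simp
  -- the trivial character is not in the orbit
  have hne1 : (fun _ : P => (1 : ℂ)) ∉ Φ := by
    intro h1
    apply hPne
    rw [eq_bot_iff]
    intro a ha
    rw [Subgroup.mem_bot]
    apply h.faithful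
    have hall : ∀ ψ ∈ Φ, ψ = fun _ => (1 : ℂ) := by
      intro ψ hψ
      obtain ⟨g, rfl⟩ := (CharInduced.mem_orbitFin P).1 hψ
      obtain ⟨g1, hg1⟩ := (CharInduced.mem_orbitFin P).1 h1
      funext n
      have := congrFun hg1 ⟨g1⁻¹ * g * n * g⁻¹ * g1, by
        have := hPn.conj_mem _ n.2 (g1⁻¹ * g); simpa [mul_assoc] using this⟩
      simp only [CharInduced.conjFun] at this ⊢
      rw [← this]
      exact congrArg (θ : P → ℂ) (Subtype.ext (by simp [mul_assoc]))
    rw [hval ⟨a, ha⟩, h.deg, hd, Finset.sum_congr rfl (g := fun _ => (1 : ℂ))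
      fun ψ hψ => congrFun (hall ψ hψ) _]
    simp
  have hfin : Finite (P →* ℂˣ) := Nat.finite_of_card_ne_zero (by
    rw [CharBasicLinear.card_hom_units]; exact Subgroup.index_ne_zero_of_finite)
  haveI := Fintype.ofFinite (P →* ℂˣ)
  let Ψ : Finset (P → ℂ) :=
    ((Finset.univ : Finset (P →* ℂˣ)).erase 1).image fun (lam : P →* ℂˣ) a => (lam a : ℂ)
  have hΨ : Φ ⊆ Ψ := by
    intro ψ hψ
    obtain ⟨lam, rfl⟩ := hlin ψ hψ
    refine Finset.mem_image.mpr ⟨lam, Finset.mem_erase.mpr ⟨?_, Finset.mem_univ _⟩, rfl⟩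
    rintro rfl
    exact hne1 (by simpa using hψ)
  have hΨcard : Ψ.card + 1 = Nat.card P := by
    rw [Finset.card_image_of_injective _ fun a b hab =>
      MonoidHom.ext fun x => Units.ext (congrFun hab x), Finset.card_erase_of_mem (Finset.mem_univ _),
      Finset.card_univ, ← Nat.card_eq_fintype_card, CharBasicLinear.card_hom_units]
    have : commutator P = ⊥ := by
      rw [commutator_def, Subgroup.commutator_eq_bot_iff_le_centralizer]
      intro a _
      rw [Subgroup.mem_centralizer_iff]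
      exact fun b _ => hcomm b a
    rw [this, Subgroup.index_bot]
    have : 0 < Nat.card P := Nat.card_pos
    omega
  have ht := Finset.card_le_card hΨ
  have key : c θ = 1 ∧ Φ.card + 1 = Nat.card P := by
    have h2 := h.two_le
    rw [hd] at h2 hnorm
    generalize Φ.card = t at *
    generalize c θ = e at *
    generalize Nat.card P = N at *
    obtain ⟨u, rfl⟩ : ∃ u, N = t + 1 + u := ⟨N - (t + 1), by omega⟩
    have h4 : e * e * (t * (u + 1)) = t + u := by nlinarith [hnorm]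
    rcases Nat.lt_or_ge t 2 with ht2 | ht2
    · interval_cases t
      · omega
      · rcases Nat.lt_or_ge e 2 with he | he
        · omega
        · have := Nat.mul_le_mul_right (u + 1) (Nat.mul_le_mul he he)
          nlinarith
    · have he : 1 ≤ e := Nat.pos_of_ne_zero hθ
      have : e * e * (t * (u + 1)) ≥ t * (u + 1) := Nat.le_mul_of_pos_left _ (by positivity)
      have hu : u = 0 := by nlinarith
      subst hu
      refine ⟨?_, rfl⟩
      nlinarith
  obtain ⟨he, htP⟩ := key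
  have hΦΨ : Φ = Ψ := Finset.eq_of_subset_of_card_le hΨ (by omega)
  refine ⟨hcomm, by rw [hd, he]; omega, ?_, ?_⟩
  · intro lam hlam
    have : (fun a => (lam a : ℂ)) ∈ Φ := by
      rw [hΦΨ]
      exact Finset.mem_image.mpr ⟨lam, Finset.mem_erase.mpr ⟨hlam, Finset.mem_univ _⟩, rfl⟩
    rw [hinner _ this, he, Nat.cast_one]
  · intro lam mu hl hm'
    have hmem : ∀ ν : P →* ℂˣ, ν ≠ 1 → ∃ g, CharInduced.conjFun P (θ : P → ℂ) g =
        fun a => (ν a : ℂ) := fun ν hν => by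
      refine (CharInduced.mem_orbitFin P).1 ?_
      rw [← hΦ, hΦΨ]
      exact Finset.mem_image.mpr ⟨ν, Finset.mem_erase.mpr ⟨hν, Finset.mem_univ _⟩, rfl⟩
    obtain ⟨a, ha⟩ := hmem lam hl
    obtain ⟨b, hb⟩ := hmem mu hm'
    refine ⟨a⁻¹ * b, fun x hx hgx => ?_⟩
    have h1 := congrFun ha ⟨a⁻¹ * b * x * (a⁻¹ * b)⁻¹, hgx⟩
    have h2 := congrFun hb ⟨x, hx⟩
    simp only [CharInduced.conjFun] at h1 h2
    rw [← h1, ← h2]
    exact congrArg (θ : P → ℂ) (Subtype.ext (by group))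

theorem pCore_main [Fintype ↥(Cfsg.pCore p G)] :
    (∀ a b : Cfsg.pCore p G, a * b = b * a) ∧ d + 1 = Nat.card (Cfsg.pCore p G) ∧
      (∀ (lam : ↥(Cfsg.pCore p G) →* ℂˣ), lam ≠ 1 →
        Cfsg.classInner (fun a : ↥(Cfsg.pCore p G) => χ a) (fun a => (lam a : ℂ)) = 1) ∧
      (∀ lam mu : ↥(Cfsg.pCore p G) →* ℂˣ, lam ≠ 1 → mu ≠ 1 →
        ∃ g : G, ∀ (x : G) (hx : x ∈ Cfsg.pCore p G) (hgx : g * x * g⁻¹ ∈ Cfsg.pCore p G),
          (mu ⟨x, hx⟩ : ℂ) = lam ⟨g * x * g⁻¹, hgx⟩) :=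
  haveI : (Cfsg.pCore p G).Normal := HallCore.pCore_normal p G
  h.normal_main _ h.pCore_isPGroup h.ne_bot

theorem comm (a b : Cfsg.pCore p G) : a * b = b * a :=
  haveI := Fintype.ofFinite (Cfsg.pCore p G)
  h.pCore_main.1 a b

theorem card_eq : d + 1 = Nat.card (Cfsg.pCore p G) :=
  haveI := Fintype.ofFinite (Cfsg.pCore p G)
  h.pCore_main.2.1

theorem transitive (lam mu : Cfsg.pCore p G →* ℂˣ) (hl : lam ≠ 1) (hm : mu ≠ 1) :
    ∃ g : G, ∀ (x : G) (hx : x ∈ Cfsg.pCore p G) (hgx : g * x * g⁻¹ ∈ Cfsg.pCore p G),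
      (mu ⟨x, hx⟩ : ℂ) = lam ⟨g * x * g⁻¹, hgx⟩ :=
  haveI := Fintype.ofFinite (Cfsg.pCore p G)
  h.pCore_main.2.2.2 lam mu hl hm

theorem exponent {x : G} (hx : x ∈ Cfsg.pCore p G) : x ^ p = 1 := by
  classical
  haveI := Fintype.ofFinite G
  set P := Cfsg.pCore p G
  have hc : commutator P = ⊥ := by
    rw [commutator_def, Subgroup.commutator_eq_bot_iff_le_centralizer]
    intro a _
    rw [Subgroup.mem_centralizer_iff]
    exact fun b _ => h.comm b a
  have hcard : Nat.card (P →* ℂˣ) = Nat.card P := by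
    rw [CharBasicLinear.card_hom_units, hc, Subgroup.index_bot]
  obtain ⟨k, hk⟩ := IsPGroup.iff_card.mp h.pCore_isPGroup
  have hk0 : k ≠ 0 := by
    rintro rfl
    rw [pow_zero] at hk
    exact h.ne_bot (Subgroup.card_eq_one.mp hk)
  obtain ⟨ν, hν⟩ := exists_prime_orderOf_dvd_card' (G := P →* ℂˣ) p
    (by rw [hcard, hk]; exact dvd_pow_self p hk0)
  have hν1 : ν ≠ 1 := by
    rintro rfl
    rw [orderOf_one] at hν
    exact hp.out.one_lt.ne hν
  have hall : ∀ (mu : P →* ℂˣ) (y : P), ((mu (y ^ p) : ℂˣ) : ℂ) = 1 := by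
    intro mu y
    by_cases hmu : mu = 1
    · simp [hmu]
    obtain ⟨g, hg⟩ := h.transitive ν mu hν1 hmu
    have hgy : g * (y : G) * g⁻¹ ∈ P := (HallCore.pCore_normal p G).conj_mem _ y.2 g
    rw [map_pow, Units.val_pow_eq_pow_val, show y = ⟨y.1, y.2⟩ from rfl, hg y.1 y.2 hgy,
      ← Units.val_pow_eq_pow_val, ← MonoidHom.pow_apply,
      orderOf_dvd_iff_pow_eq_one.mp (dvd_of_eq hν)]
    rfl
  have h1 : (⟨x, hx⟩ : P) ^ p = 1 := by
    refine isConj_one_left.1 ((CharBasicOrth.isConj_iff_forall_irr _ 1).2 fun η => ?_)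
    obtain ⟨lam, hlam⟩ := CharBasicLinear.exists_hom_of_comm (fun a b => h.comm a b) η.2
    rw [hlam]
    show ((lam ((⟨x, hx⟩ : P) ^ p) : ℂˣ) : ℂ) = ((lam 1 : ℂˣ) : ℂ)
    rw [hall, map_one, Units.val_one]
  exact congrArg Subtype.val h1

/-- A `p'`-element centralising `O_p(G)` is central. -/
theorem central_of_coprime {x : G}
    (hx : x ∈ Subgroup.centralizer ((Cfsg.pCore p G : Subgroup G) : Set G))
    (hxp : ¬ p ∣ orderOf x) : x ∈ Subgroup.center G := by
  classical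
  haveI := Fintype.ofFinite G
  apply h.central_of_norm
  set P := Cfsg.pCore p G with hP
  have hcm : ∀ (a : P) (b : Subgroup.zpowers x), Commute (P.subtype a) ((Subgroup.zpowers x).subtype b) := by
    intro a b
    have hb : (b : G) ∈ Subgroup.centralizer (P : Set G) :=
      (Subgroup.zpowers_le.mpr hx) b.2
    exact Subgroup.mem_centralizer_iff.mp hb a a.2
  let f : P × Subgroup.zpowers x →* G :=
    MonoidHom.noncommCoprod P.subtype (Subgroup.zpowers x).subtype hcm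
  have hcomm : ∀ a b : P × Subgroup.zpowers x, a * b = b * a := by
    rintro ⟨a, a'⟩ ⟨b, b'⟩
    refine Prod.ext (h.comm a b) (Subtype.ext ?_)
    obtain ⟨i, hi⟩ := Subgroup.mem_zpowers_iff.mp a'.2
    obtain ⟨j, hj⟩ := Subgroup.mem_zpowers_iff.mp b'.2
    simp only [Prod.snd_mul, Subgroup.coe_mul]
    rw [← hi, ← hj, zpow_mul_comm]
  obtain ⟨c, -, hcd, hsum⟩ := exists_coeff (A := P × Subgroup.zpowers x)
    (CharBasic.isCharacter_comap f (isCharacter_of_isIrrCharacter h.irr)) (d := d)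
    (by simpa using h.deg)
  have hcd' : ∑ θ, c θ = d := by
    have : ∀ θ : Cfsg.IrrCharacter (P × Subgroup.zpowers x), (θ : P × Subgroup.zpowers x → ℂ) 1 = 1 :=
      fun θ => CharBasicLinear.apply_one_eq_one_of_comm hcomm θ.2
    simp only [this, mul_one] at hcd
    exact_mod_cast hcd
  have hsq : (d : ℝ) ≤ (∑ θ, (c θ) ^ 2 : ℕ) := by
    rw [← hcd']
    exact_mod_cast Finset.sum_le_sum fun θ _ => Nat.le_self_pow two_ne_zero (c θ)
  have hbd : ∀ b : Subgroup.zpowers x, ‖χ (b : G)‖ ≤ d := fun b => by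
    have := CharBasic.isCharacter_norm_le (isCharacter_of_isIrrCharacter h.irr) (b : G)
    simpa [h.deg] using this
  have hone : ∀ a : P, a ≠ 1 → ∀ b : Subgroup.zpowers x, ‖χ ((a : G) * b)‖ = 1 := by
    intro a ha b
    apply h.norm
    set k := orderOf ((a : G) * b)
    have hk : (a : G) ^ k * (b : G) ^ k = 1 := by
      rw [← (show Commute (a : G) b from hcm a b).mul_pow, pow_orderOf_eq_one]
    have hb : orderOf ((b : G) ^ k) ∣ orderOf x := by
      obtain ⟨j, hj⟩ := Subgroup.mem_zpowers_iff.mp b.2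
      rw [← hj]
      refine (orderOf_pow_dvd k).trans ?_
      exact orderOf_dvd_iff_pow_eq_one.mpr (by
        rw [← zpow_natCast, ← zpow_mul, mul_comm, zpow_mul, zpow_natCast, pow_orderOf_eq_one,
          one_zpow])
    have hak : (a : G) ^ k = 1 := by
      by_contra hne
      have hd1 : p ∣ orderOf ((a : G) ^ k) := by
        have := dvd_orderOf_of_isPGroup (p := p) h.pCore_isPGroup (a := a ^ k)
          (fun e => hne (by simpa using congrArg Subtype.val e))
        simpa using this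
      rw [eq_inv_of_mul_eq_one_left hk, orderOf_inv] at hd1
      exact hxp (hd1.trans hb)
    exact (dvd_orderOf_of_isPGroup h.pCore_isPGroup ha).trans (orderOf_dvd_of_pow_eq_one hak)
  have hfab : ∀ a b, (χ ∘ f) (a, b) = χ ((a : G) * b) := fun a b => rfl
  have hrest : ∀ a ∈ (Finset.univ : Finset P).erase 1,
      ∑ b : Subgroup.zpowers x, ‖(χ ∘ f) (a, b)‖ ^ 2 = (Nat.card (Subgroup.zpowers x) : ℝ) := by
    intro a ha
    rw [Finset.sum_congr rfl (g := fun _ => (1 : ℝ)) fun b _ => by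
      rw [hfab, hone a (Finset.ne_of_mem_erase ha) b, one_pow]]
    simp [Nat.card_eq_fintype_card]
  rw [Fintype.sum_prod_type, ← Finset.add_sum_erase _ _ (Finset.mem_univ (1 : P)),
    Finset.sum_congr rfl hrest,
    Finset.sum_const, Finset.card_erase_of_mem (Finset.mem_univ _), Finset.card_univ,
    ← Nat.card_eq_fintype_card, Nat.card_prod, ← h.card_eq, Nat.add_sub_cancel,
    nsmul_eq_mul] at hsum
  simp only [hfab, Subgroup.coe_one, one_mul] at hsum
  push_cast at hsum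
  have hle : ∑ b : Subgroup.zpowers x, ((d : ℝ) ^ 2 - ‖χ (b : G)‖ ^ 2) ≤ 0 := by
    rw [Finset.sum_sub_distrib, Finset.sum_const, Finset.card_univ, ← Nat.card_eq_fintype_card,
      nsmul_eq_mul]
    push_cast at hsq
    have := mul_le_mul_of_nonneg_left hsq
      (show (0 : ℝ) ≤ ((d : ℝ) + 1) * (Nat.card (Subgroup.zpowers x) : ℝ) by positivity)
    nlinarith [this, hsum]
  have h0 : ∀ b : Subgroup.zpowers x, 0 ≤ (d : ℝ) ^ 2 - ‖χ (b : G)‖ ^ 2 := fun b => by
    have := pow_le_pow_left₀ (norm_nonneg (χ (b : G))) (hbd b) 2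
    linarith
  have := (Finset.sum_eq_zero_iff_of_nonneg fun b _ => h0 b).mp
    (le_antisymm hle (Finset.sum_nonneg fun b _ => h0 b)) ⟨x, Subgroup.mem_zpowers x⟩
    (Finset.mem_univ _)
  exact (pow_left_inj₀ (norm_nonneg _) (Nat.cast_nonneg d) two_ne_zero).mp (by linarith)

end Hyp

end Cfsg.Agent.RootUnityPCore90
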