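import Cfsg.Agent.Lib.RootUnityPCore90

/-! The exceptional case: `O_2(G)` a four group and `G = S_4 × Z(G)`. -/

set_option autoImplicit false

namespace Cfsg.Agent.RootUnityPCore90

universe u

variable {G : Type u} [Group G] [Finite G]

/-- Conjugation on the non-identity elements of a normal subgroup. -/
def permNonId (P : Subgroup G) [P.Normal] : G →* Equiv.Perm {z : P // z ≠ 1} where
  toFun g := (MulAut.conjNormal g : MulAut P).toEquiv.subtypeEquiv fun z => by simp
  map_one' := by ext z; simp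
  map_mul' a b := by ext z; simp [mul_assoc]

omit [Finite G] in
theorem permNonId_apply (P : Subgroup G) [P.Normal] (g : G) (z : {z : P // z ≠ 1}) :
    ((permNonId P g z).1 : G) = g * (z.1 : G) * g⁻¹ := by simp [permNonId]

omit [Finite G] in
theorem mem_ker_permNonId (P : Subgroup G) [P.Normal] (g : G) :
    g ∈ (permNonId P).ker ↔ g ∈ Subgroup.centralizer (P : Set G) := by
  rw [MonoidHom.mem_ker, Subgroup.mem_centralizer_iff]
  refine ⟨fun h z hz => ?_, fun h => ?_⟩
  · by_cases h1 : z = 1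
    · simp [h1]
    have := congrArg (fun w => (w.1 : G))
      (Equiv.congr_fun h (⟨⟨z, hz⟩, fun e => h1 (congrArg Subtype.val e)⟩ : {z : P // z ≠ 1}))
    simp only [permNonId_apply, Equiv.Perm.coe_one, id_eq] at this
    exact (mul_inv_eq_iff_eq_mul.mp this).symm
  · refine Equiv.ext fun z => Subtype.ext (Subtype.ext ?_)
    rw [permNonId_apply, Equiv.Perm.coe_one, id_eq, ← h _ z.1.2, mul_inv_cancel_right]

/-- A group of order 24 with a self-centralizing normal four group is symmetric of degree four. -/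
theorem iso_perm_four (P : Subgroup G) [P.Normal] (hG : Nat.card G = 24) (hP : Nat.card P = 4)
    (hC : Subgroup.centralizer (P : Set G) ≤ P) : Nonempty (G ≃* Equiv.Perm (Fin 4)) := by
  classical
  haveI : Fact (Nat.Prime 3) := ⟨Nat.prime_three⟩
  haveI := Fintype.ofFinite G
  have hT : ∀ T : Sylow 3 G, Nat.card (T : Subgroup G) = 3 := by
    intro T
    rw [T.card_eq_multiplicity, hG, show (24 : ℕ) = 8 * 3 ^ 1 by norm_num,
      Nat.factorization_mul (by norm_num) (by norm_num), Finsupp.add_apply,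
      Nat.Prime.factorization_pow Nat.prime_three, Finsupp.single_eq_same,
      Nat.factorization_eq_zero_of_not_dvd (by norm_num)]
    norm_num
  have hX : Nat.card {z : P // z ≠ 1} = 3 := by
    haveI := Fintype.ofFinite P
    rw [Nat.card_eq_fintype_card, Fintype.card_subtype_compl, Fintype.card_subtype_eq,
      ← Nat.card_eq_fintype_card, hP]
  obtain ⟨eX⟩ : Nonempty ({z : P // z ≠ 1} ≃ Fin 3) :=
    ⟨Nat.equivFinOfCardPos (by omega) |>.trans (finCongr hX)⟩
  have key : ∀ σ : Equiv.Perm (Fin 3), σ ^ 3 = 1 → σ ≠ 1 → ∀ i, σ i ≠ i := by decide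
  have hTP : ∀ T : Sylow 3 G, ¬ (T : Subgroup G) ≤ Subgroup.centralizer (P : Set G) := by
    intro T hle
    have := Subgroup.card_dvd_of_le (hle.trans hC)
    rw [hT T, hP] at this
    norm_num at this
  have hfix : ∀ (T : Sylow 3 G) (z : G), z ∈ P →
      (∀ t ∈ (T : Subgroup G), t * z = z * t) → z = 1 := by
    intro T z hz hcz
    obtain ⟨t, ht, htc⟩ := Set.not_subset.mp (hTP T)
    by_contra h1
    let σ := eX.permCongrHom (permNonId P t)
    have hσ3 : σ ^ 3 = 1 := by
      have ht3 : t ^ 3 = 1 := by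
        have := congrArg Subtype.val (pow_card_eq_one' (x := (⟨t, ht⟩ : (T : Subgroup G))))
        rw [hT T] at this
        simpa using this
      simp only [σ, ← map_pow, ht3, map_one]
    have hσ1 : σ ≠ 1 := fun e => htc ((mem_ker_permNonId P t).mp
      (eX.permCongrHom.injective (e.trans (map_one eX.permCongrHom).symm)))
    refine key σ hσ3 hσ1 (eX ⟨⟨z, hz⟩, fun e => h1 (congrArg Subtype.val e)⟩) ?_
    show eX ((permNonId P t) (eX.symm (eX _))) = eX _
    rw [Equiv.symm_apply_apply]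
    refine congrArg eX (Subtype.ext (Subtype.ext ?_))
    rw [permNonId_apply]
    exact mul_inv_eq_iff_eq_mul.mpr (hcz t ht)
  have hn4 : Nat.card (Sylow 3 G) = 4 := by
    have h1 := card_sylow_modEq_one 3 G
    obtain ⟨T⟩ := Sylow.nonempty (p := 3) (G := G)
    have h2 := T.card_dvd_index
    have h3 : (T : Subgroup G).index = 8 := by
      have := Subgroup.card_mul_index (T : Subgroup G)
      rw [hT T, hG] at this
      omega
    rw [h3] at h2
    have h4 : Nat.card (Sylow 3 G) ≤ 8 := Nat.le_of_dvd (by norm_num) h2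
    have h5 : Nat.card (Sylow 3 G) ≠ 1 := by
      intro hone
      have := (Nat.card_eq_one_iff_unique.mp hone).1
      have hn : (T : Subgroup G).Normal := Sylow.normal_of_subsingleton T
      refine hTP T fun t ht => ?_
      rw [Subgroup.mem_centralizer_iff]
      intro z hz
      have hdis : Disjoint P (T : Subgroup G) :=
        disjoint_iff.mpr (Subgroup.inf_eq_bot_of_coprime (by rw [hP, hT T]; norm_num))
      exact Subgroup.commute_of_normal_of_disjoint P T inferInstance hn hdis z t hz ht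
    unfold Nat.ModEq at h1
    interval_cases hc : Nat.card (Sylow 3 G) <;> omega
  let φ := MulAction.toPermHom G (Sylow 3 G)
  have hφ : Function.Injective φ := by
    rw [← MonoidHom.ker_eq_bot_iff, eq_bot_iff]
    have hfixT : ∀ g ∈ φ.ker, ∀ T : Sylow 3 G, g ∈ Subgroup.normalizer ((T : Subgroup G) : Set G) :=
      fun g hg T => Sylow.smul_eq_iff_mem_normalizer.mp (Equiv.congr_fun hg T)
    have hdis : Disjoint φ.ker P := by
      rw [disjoint_iff, eq_bot_iff]
      rintro z ⟨hz, hzP⟩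
      obtain ⟨T⟩ := Sylow.nonempty (p := 3) (G := G)
      rw [Subgroup.mem_bot]
      refine hfix T z hzP fun t ht => ?_
      have h1 : z * t * z⁻¹ * t⁻¹ ∈ (T : Subgroup G) :=
        mul_mem ((Subgroup.mem_normalizer_iff.mp (hfixT z hz T) t).mp ht) (inv_mem ht)
      have h2 : z * t * z⁻¹ * t⁻¹ ∈ P := by
        have := mul_mem hzP (‹P.Normal›.conj_mem _ (inv_mem hzP) t)
        simpa [mul_assoc] using this
      have hdis' := Subgroup.inf_eq_bot_of_coprime (H := P) (K := (T : Subgroup G))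
        (by rw [hP, hT T]; norm_num)
      have h3 : z * t * z⁻¹ * t⁻¹ = 1 := by
        rw [← Subgroup.mem_bot, ← hdis']; exact ⟨h2, h1⟩
      rw [mul_inv_eq_one, mul_inv_eq_iff_eq_mul] at h3
      exact h3.symm
    intro g hg
    have hgC : g ∈ Subgroup.centralizer (P : Set G) := by
      rw [Subgroup.mem_centralizer_iff]
      intro z hz
      exact (Subgroup.commute_of_normal_of_disjoint φ.ker P inferInstance inferInstance hdis
        g z hg hz).symm
    exact (disjoint_iff.mp hdis).le ⟨hg, hC hgC⟩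
  have hbij : Function.Bijective φ := by
    haveI := Fintype.ofFinite (Sylow 3 G)
    rw [Fintype.bijective_iff_injective_and_card]
    refine ⟨hφ, ?_⟩
    rw [Fintype.card_perm, ← Nat.card_eq_fintype_card, ← Nat.card_eq_fintype_card, hG, hn4]
    rfl
  exact ⟨(MulEquiv.ofBijective φ hbij).trans
    ((Nat.equivFinOfCardPos (by omega)).trans (finCongr hn4)).permCongrHom⟩

theorem two_le_four_group {p : ℕ} [Fact p.Prime] {χ : G → ℂ} {d : ℕ} (h : Hyp p χ d)
    (hp2 : p = 2) {s : G} (hsP : s ∉ Cfsg.pCore p G) (hs2 : s * s ∈ Cfsg.pCore p G)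
    (R : Sylow p G) (hsR : s ∈ (R : Subgroup G)) (hPR : Cfsg.pCore p G ≤ R)
    (hR : Nat.card (R : Subgroup G) = 2 * Nat.card (Cfsg.pCore p G)) :
    Nat.card (Cfsg.pCore p G) ≤ 4 := by
  classical
  subst hp2
  haveI := Fintype.ofFinite G
  haveI hPn : (Cfsg.pCore 2 G).Normal := HallCore.pCore_normal 2 G
  haveI := Fintype.ofFinite (Cfsg.pCore 2 G)
  set N : Subgroup (R : Subgroup G) := (Cfsg.pCore 2 G).subgroupOf R with hNdef
  haveI := Fintype.ofFinite (R : Subgroup G)
  obtain ⟨c, hc, hcd, hnorm⟩ := h.res_pSubgroup (R := (R : Subgroup G)) R.isPGroup'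
  have hPd := h.card_eq
  have hidx : N.index = 2 := by
    have h1 := Subgroup.card_mul_index N
    rw [hR, Nat.card_congr (Subgroup.subgroupOfEquivOfLe hPR).toEquiv] at h1
    exact Nat.eq_of_mul_eq_mul_left Nat.card_pos (by rw [h1]; ring)
  have hNcomm : ∀ a b : N, a * b = b * a := fun a b => by
    have := congrArg (Subtype.val (p := (· ∈ Cfsg.pCore 2 G))) (h.comm ⟨a.1.1, a.2⟩ ⟨b.1.1, b.2⟩)
    exact Subtype.ext (Subtype.ext this)
  have hdeg : ∀ θ : Cfsg.IrrCharacter (R : Subgroup G),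
      ∃ m : ℕ, (θ : ↥(R : Subgroup G) → ℂ) 1 = m ∧ m ≤ 2 := by
    intro θ
    obtain ⟨m, -, hm, hmd⟩ := DegreeDvd.degree_dvd_index_abelian θ.2 N hNcomm
    exact ⟨m, hm, Nat.le_of_dvd (by norm_num) (hidx ▸ hmd)⟩
  choose m hm hm2 using hdeg
  have hcd' : ∑ θ, c θ * m θ = d := by
    simp only [hm] at hcd
    exact_mod_cast hcd
  have hsum : ∑ θ, c θ * (2 - m θ) ≤ 1 := by
    have e1 : ∑ θ, c θ * (2 - m θ) + ∑ θ, c θ * m θ = 2 * ∑ θ, c θ := by
      rw [← Finset.sum_add_distrib, Finset.mul_sum]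
      refine Finset.sum_congr rfl fun θ _ => ?_
      have := hm2 θ
      rw [← mul_add, Nat.sub_add_cancel this, mul_comm]
    have e2 : ∑ θ, c θ ≤ ∑ θ, (c θ) ^ 2 :=
      Finset.sum_le_sum fun θ _ => Nat.le_self_pow two_ne_zero _
    rw [hR] at hnorm
    rw [hcd'] at e1
    generalize ∑ θ, (c θ) ^ 2 = S at *
    generalize ∑ θ, c θ * (2 - m θ) = L at *
    generalize ∑ θ, c θ = C at *
    rw [← hPd] at hnorm
    have : 2 * S = d + 1 := by nlinarith
    omega
  -- linear characters
  let ε : (R : Subgroup G) →* ℂˣ :=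
    { toFun := fun a => if a ∈ N then 1 else -1
      map_one' := by simp
      map_mul' := fun a b => by
        have := Subgroup.mul_mem_iff_of_index_two hidx (a := a) (b := b)
        by_cases ha : a ∈ N <;> by_cases hb : b ∈ N <;> simp_all }
  have hεN : ∀ a ∈ N, ε a = 1 := fun a ha => if_pos ha
  let cl : ((R : Subgroup G) →* ℂˣ) → ℕ := fun ψ =>
    c ⟨fun a => (ψ a : ℂ), CharBasicDecomp.isIrrCharacter_linear ψ⟩
  haveI : Finite ((R : Subgroup G) →* ℂˣ) := Nat.finite_of_card_ne_zero (by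
    rw [CharBasicLinear.card_hom_units]; exact Subgroup.index_ne_zero_of_finite)
  haveI := Fintype.ofFinite ((R : Subgroup G) →* ℂˣ)
  let S := (Finset.univ : Finset ((R : Subgroup G) →* ℂˣ)).filter fun ψ => ∃ a ∈ N, ψ a ≠ 1
  have hpair : ∀ ψ ∈ S, cl ψ + cl (ψ * ε) = 1 := by
    intro ψ hψ
    obtain ⟨a, haN, ha⟩ := (Finset.mem_filter.mp hψ).2
    let ι : Cfsg.pCore 2 G →* (R : Subgroup G) := Subgroup.inclusion hPR
    have h1 := h.pCore_main.2.2.1 (ψ.comp ι) (fun e => ha (by
      have := DFunLike.congr_fun e ⟨a.1, haN⟩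
      exact this))
    have h2 : ((cl ψ + cl (ψ * ε) : ℕ) : ℂ) = 1 := by
      rw [Nat.cast_add, ← hc, ← hc, ← CharBasicOrth.classInner_add_right, Cfsg.classInner]
      rw [Cfsg.classInner] at h1
      rw [← Finset.sum_filter_add_sum_filter_not Finset.univ (fun b : (R : Subgroup G) => b ∈ N)]
      rw [Finset.sum_eq_zero (s := Finset.univ.filter fun b : (R : Subgroup G) => ¬ b ∈ N)
        (fun b hb => by
          rw [Finset.mem_filter] at hb
          simp [ε, hb.2]), add_zero, hR]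
      refine (congrArg ((((2 * Nat.card (Cfsg.pCore 2 G) : ℕ)) : ℂ)⁻¹ * ·)
        (Finset.sum_bij' (t := (Finset.univ : Finset (Cfsg.pCore 2 G)))
        (g := fun z : Cfsg.pCore 2 G => (2 : ℂ) * (χ (z : G) * (starRingEnd ℂ) ((ψ.comp ι z : ℂˣ) : ℂ)))
        (fun b hb => (⟨b.1, (Finset.mem_filter.mp hb).2⟩ : Cfsg.pCore 2 G)) (fun z _ => ι z)
        (fun _ _ => Finset.mem_univ _)
        (fun z _ => Finset.mem_filter.mpr ⟨Finset.mem_univ _, z.2⟩)
        (fun _ _ => rfl) (fun _ _ => rfl) (fun b hb => by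
          have hbN : b ∈ N := (Finset.mem_filter.mp hb).2
          simp only [Pi.add_apply, MonoidHom.mul_apply, hεN b hbN, mul_one, map_add,
            MonoidHom.comp_apply]
          show _ = 2 * (χ (b : G) * (starRingEnd ℂ) ((ψ b : ℂˣ) : ℂ))
          ring))).trans ?_
      rw [← Finset.mul_sum]
      rw [Nat.cast_mul, Nat.cast_two, mul_inv, mul_comm (2 : ℂ)⁻¹, mul_assoc,
        inv_mul_cancel_left₀ (two_ne_zero : (2 : ℂ) ≠ 0)]
      exact h1
    exact_mod_cast h2
  have hε2 : ∀ ψ : (R : Subgroup G) →* ℂˣ, ψ * ε * ε = ψ := by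
    intro ψ
    ext a
    by_cases ha : a ∈ N <;> simp [ε, ha]
  have hScard : S.card ≤ 2 := by
    have h1 : ∑ ψ ∈ S, cl (ψ * ε) = ∑ ψ ∈ S, cl ψ := by
      have hmem : ∀ ψ ∈ S, ψ * ε ∈ S := fun ψ hψ => by
        obtain ⟨a, haN, ha⟩ := (Finset.mem_filter.mp hψ).2
        exact Finset.mem_filter.mpr ⟨Finset.mem_univ _, a, haN, by simpa [hεN a haN] using ha⟩
      exact Finset.sum_bij' (fun ψ _ => ψ * ε) (fun ψ _ => ψ * ε) hmem hmem
        (fun ψ _ => hε2 ψ) (fun ψ _ => hε2 ψ) (fun ψ _ => rfl)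
    have h2 := Finset.sum_congr rfl hpair
    rw [Finset.sum_add_distrib, h1, Finset.sum_const, smul_eq_mul, mul_one] at h2
    have h3 : ∑ ψ ∈ S, cl ψ ≤ 1 := by
      refine le_trans ?_ hsum
      have hm1 : ∀ ψ : (R : Subgroup G) →* ℂˣ,
          m ⟨fun a => (ψ a : ℂ), CharBasicDecomp.isIrrCharacter_linear ψ⟩ = 1 := fun ψ => by
        have := hm ⟨fun a => (ψ a : ℂ), CharBasicDecomp.isIrrCharacter_linear ψ⟩
        simp only [map_one, Units.val_one] at this
        exact_mod_cast this.symm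
      rw [← Finset.sum_image (f := fun θ => c θ * (2 - m θ))
        (g := fun ψ : (R : Subgroup G) →* ℂˣ =>
          (⟨fun a => (ψ a : ℂ), CharBasicDecomp.isIrrCharacter_linear ψ⟩ :
            Cfsg.IrrCharacter (R : Subgroup G))) (fun a _ b _ hab =>
          MonoidHom.ext fun x => Units.ext (congrFun (congrArg Subtype.val hab) x))
        |>.trans (Finset.sum_congr rfl fun ψ _ => by rw [hm1 ψ]; simp [cl])]
      exact Finset.sum_le_univ_sum_of_nonneg fun _ => Nat.zero_le _
    omega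
  let sR : (R : Subgroup G) := ⟨s, hsR⟩
  have hsN : sR ∉ N := hsP
  have hdecomp : ∀ a : (R : Subgroup G), a ∈ N ∨ a * sR⁻¹ ∈ N := by
    intro a
    by_cases ha : a ∈ N
    · exact Or.inl ha
    · right
      have := Subgroup.mul_mem_iff_of_index_two hidx (a := a) (b := sR⁻¹)
      rw [this]
      simp [ha, hsN]
  have hTcard : ((Finset.univ : Finset ((R : Subgroup G) →* ℂˣ)).filter
      fun ψ => ¬ ∃ a ∈ N, ψ a ≠ 1).card ≤ 2 := by
    refine le_trans (Finset.card_le_card_of_injOn (fun ψ => ((ψ sR : ℂˣ) : ℂ))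
      (t := ({1, -1} : Finset ℂ)) ?_ ?_) Finset.card_le_two
    · intro ψ hψ
      simp only [Finset.coe_filter, Finset.mem_univ, true_and, Set.mem_setOf_eq, not_exists,
        not_and, not_not] at hψ
      have := congrArg (fun u : ℂˣ => (u : ℂ)) (hψ (sR * sR) hs2)
      simp only [map_mul, Units.val_mul, Units.val_one, mul_self_eq_one_iff] at this
      simpa using this
    · intro ψ hψ φ hφ he
      simp only [Finset.coe_filter, Finset.mem_univ, true_and, Set.mem_setOf_eq, not_exists,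
        not_and, not_not] at hψ hφ
      refine MonoidHom.ext fun a => ?_
      rcases hdecomp a with ha | ha
      · rw [hψ a ha, hφ a ha]
      · have h1 := hψ _ ha
        have h2 := hφ _ ha
        rw [map_mul, map_inv, mul_inv_eq_one] at h1 h2
        rw [h1, h2]
        exact Units.ext he
  have hindex : (commutator (R : Subgroup G)).index ≤ 4 := by
    rw [← CharBasicLinear.card_hom_units, Nat.card_eq_fintype_card, ← Finset.card_univ,
      ← Finset.card_filter_add_card_filter_not (fun ψ => ∃ a ∈ N, ψ a ≠ 1)]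
    exact Nat.add_le_add hScard hTcard
  -- the map z ↦ [z, s]
  haveI : IsMulCommutative (Cfsg.pCore 2 G) := ⟨⟨h.comm⟩⟩
  let σ : Cfsg.pCore 2 G →* Cfsg.pCore 2 G := (MulAut.conjNormal s).toMonoidHom
  let φ : Cfsg.pCore 2 G →* Cfsg.pCore 2 G :=
    { toFun := fun z => z * σ z⁻¹
      map_one' := by simp
      map_mul' := fun a b => by
        rw [mul_inv_rev, map_mul, h.comm (σ b⁻¹) (σ a⁻¹)]
        rw [mul_assoc, mul_assoc, ← mul_assoc b, h.comm b (σ a⁻¹), mul_assoc] }
  have hinv : ∀ z : Cfsg.pCore 2 G, z⁻¹ = z := fun z => by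
    apply inv_eq_of_mul_eq_one_left
    exact Subtype.ext (by simpa [pow_two] using h.exponent z.2)
  have hσσ : ∀ z, σ (σ z) = z := fun z => Subtype.ext (by
    show s * (s * (z : G) * s⁻¹) * s⁻¹ = z
    have hcz : (s * s) * (z : G) = z * (s * s) :=
      congrArg Subtype.val (h.comm ⟨s * s, hs2⟩ z)
    calc s * (s * (z : G) * s⁻¹) * s⁻¹ = (s * s) * (z : G) * (s * s)⁻¹ := by group
      _ = z := by rw [hcz, mul_inv_cancel_right])
  have hle : φ.range ≤ φ.ker := by
    rintro _ ⟨z, rfl⟩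
    show φ z * σ (φ z)⁻¹ = 1
    have : σ (φ z) = φ z := by
      show σ (z * σ z⁻¹) = z * σ z⁻¹
      rw [map_mul, hσσ, hinv z, h.comm]
    rw [map_inv, this, mul_inv_cancel]
  have hprod : Nat.card φ.ker * Nat.card φ.range = Nat.card (Cfsg.pCore 2 G) := by
    rw [← Subgroup.index_ker, Subgroup.card_mul_index]
  let I : Subgroup (R : Subgroup G) := φ.range.map (Subgroup.inclusion hPR)
  have hcomm : commutator (R : Subgroup G) ≤ I := by
    rw [commutator_def, Subgroup.commutator_le]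
    have hcase : ∀ a : (R : Subgroup G), ∃ z : Cfsg.pCore 2 G,
        a = Subgroup.inclusion hPR z ∨ a = Subgroup.inclusion hPR z * sR := by
      intro a
      rcases hdecomp a with ha | ha
      · exact ⟨⟨a.1, ha⟩, Or.inl rfl⟩
      · exact ⟨⟨_, ha⟩, Or.inr (Subtype.ext (by simp [sR]))⟩
    have hmem : ∀ w : Cfsg.pCore 2 G, ∀ a : (R : Subgroup G), (a : G) = ((φ w : Cfsg.pCore 2 G) : G) →
        a ∈ I := fun w a ha => ⟨φ w, ⟨w, rfl⟩, Subtype.ext ha.symm⟩
    intro a _ b _
    obtain ⟨x, hx⟩ := hcase a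
    obtain ⟨y, hy⟩ := hcase b
    have hxy : ((x : G) * y = y * x) := congrArg Subtype.val (h.comm x y)
    have hφ' : ∀ w : Cfsg.pCore 2 G, ((φ w : Cfsg.pCore 2 G) : G) = w * (s * (w : G)⁻¹ * s⁻¹) :=
      fun w => rfl
    rcases hx with rfl | rfl <;> rcases hy with rfl | rfl
    · refine hmem 1 _ ?_
      simp only [map_one, Subgroup.coe_one, commutatorElement_def, Subgroup.coe_mul,
        Subgroup.coe_inv, Subgroup.coe_inclusion]
      rw [hxy]; group
    · refine hmem x _ ?_
      simp only [hφ', commutatorElement_def, Subgroup.coe_mul, Subgroup.coe_inv,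
        Subgroup.coe_inclusion, sR]
      have hc' : ∀ u : Cfsg.pCore 2 G, (u : G) * y = y * u := fun u =>
        congrArg Subtype.val (h.comm u y)
      have := hc' (σ x⁻¹)
      have e : ((σ x⁻¹ : Cfsg.pCore 2 G) : G) = s * (x : G)⁻¹ * s⁻¹ := rfl
      rw [e] at this
      calc (x : G) * ((y : G) * s) * (x : G)⁻¹ * ((y : G) * s)⁻¹
          = (x : G) * ((y : G) * (s * (x : G)⁻¹ * s⁻¹)) * (y : G)⁻¹ := by group
        _ = _ := by rw [← this]; group
    · refine hmem y⁻¹ _ ?_
      simp only [hφ', commutatorElement_def, Subgroup.coe_mul, Subgroup.coe_inv,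
        Subgroup.coe_inclusion, sR, inv_inv]
      have e : ((σ y : Cfsg.pCore 2 G) : G) = s * (y : G) * s⁻¹ := rfl
      have h1 : (x : G) * (s * (y : G) * s⁻¹) = s * (y : G) * s⁻¹ * x := by
        rw [← e]; exact congrArg Subtype.val (h.comm x (σ y))
      have h2 : (s * (y : G) * s⁻¹) * (y : G)⁻¹ = (y : G)⁻¹ * (s * (y : G) * s⁻¹) := by
        rw [← e]; exact congrArg Subtype.val (h.comm (σ y) y⁻¹)
      calc (x : G) * s * (y : G) * ((x : G) * s)⁻¹ * (y : G)⁻¹
          = (x : G) * (s * (y : G) * s⁻¹) * (x : G)⁻¹ * (y : G)⁻¹ := by group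
        _ = (s * (y : G) * s⁻¹) * (y : G)⁻¹ := by rw [h1, mul_inv_cancel_right]
        _ = _ := h2
    · refine hmem (x * y⁻¹) _ ?_
      simp only [hφ', commutatorElement_def, Subgroup.coe_mul, Subgroup.coe_inv,
        Subgroup.coe_inclusion, sR, mul_inv_rev, inv_inv]
      set u := s * (y : G) * s⁻¹
      set v := s * (x : G) * s⁻¹
      have h1 : u * v⁻¹ * (y : G)⁻¹ = (y : G)⁻¹ * (u * v⁻¹) := by
        have e : u * v⁻¹ = ((σ y * (σ x)⁻¹ : Cfsg.pCore 2 G) : G) := rfl
        rw [e]; exact congrArg Subtype.val (h.comm _ y⁻¹)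
      calc (x : G) * s * ((y : G) * s) * (s⁻¹ * (x : G)⁻¹) * (s⁻¹ * (y : G)⁻¹)
          = (x : G) * (u * v⁻¹ * (y : G)⁻¹) := by simp only [u, v]; group
        _ = _ := by rw [h1]; simp only [u, v]; group
  have hIc : Nat.card I = Nat.card φ.range :=
    Subgroup.card_map_of_injective (Subgroup.inclusion_injective hPR)
  have h1 := Subgroup.card_mul_index (commutator (R : Subgroup G))
  rw [hR] at h1
  have h2 := Subgroup.card_le_of_le hcomm
  rw [hIc] at h2
  have h3 : Nat.card φ.range ≤ Nat.card φ.ker := Subgroup.card_le_of_le hle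
  have h4 : 2 * Nat.card (Cfsg.pCore 2 G) ≤ Nat.card φ.range * 4 :=
    h1 ▸ Nat.mul_le_mul h2 hindex
  have hk : Nat.card φ.ker ≤ 2 := by
    by_contra hk
    have : 3 * Nat.card φ.range ≤ Nat.card φ.ker * Nat.card φ.range :=
      Nat.mul_le_mul_right _ (by omega)
    have : 0 < Nat.card φ.range := Nat.card_pos
    omega
  calc Nat.card (Cfsg.pCore 2 G) = Nat.card φ.ker * Nat.card φ.range := hprod.symm
    _ ≤ 2 * 2 := Nat.mul_le_mul hk (h3.trans hk)

end Cfsg.Agent.RootUnityPCore90
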