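import Cfsg.Agent.Lib.Ru2CheckDefs76

/-! Checks for the double cover of the Rudvalis group. -/

set_option autoImplicit false
set_option maxRecDepth 100000
set_option Elab.async false

namespace Cfsg.Agent.Ru2Checks76

open RuPermCert66 RuPermData66 RuSift76 Ru2Signed76 Ru2Data76

theorem chainH_ok : chainOK NN [] LH = true := by decide +kernel
theorem coset0_ok : cosetOK (hsW.getD 0 []) (witW.getD 0 []) = true := by decide +kernel
theorem coset1_ok : cosetOK (hsW.getD 1 []) (witW.getD 1 []) = true := by decide +kernel
theorem coset2_ok : cosetOK (hsW.getD 2 []) (witW.getD 2 []) = true := by decide +kernel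
theorem coset3_ok : cosetOK (hsW.getD 3 []) (witW.getD 3 []) = true := by decide +kernel
theorem chainC_ok : chainOK NN [] (LC.map Lvl.level) = true := by decide +kernel
theorem cent0_ok : centBlock 0 = true := by decide +kernel
theorem cent1_ok : centBlock 1 = true := by decide +kernel
theorem cent2_ok : centBlock 2 = true := by decide +kernel
theorem cent3_ok : centBlock 3 = true := by decide +kernel

end Cfsg.Agent.Ru2Checks76
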