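import Cfsg.Agent.Lib.RuPermCert66

/-!
Centralisers in a permutation group with a checked chain along an orbit of the centralised element.
-/

set_option autoImplicit false

namespace Cfsg.Agent.RuSift76

open RuPermCert66

/-- A level: base point, tables, tree, orbit as a set of bits, steps towards the base point. -/
structure Lvl where
  /-- base point -/
  pt : ℕ
  /-- tables -/
  tab : List PT
  /-- tree -/
  es : List ℕ
  /-- orbit -/
  mask : ℕ
  /-- steps -/
  gen : PT

/-- The level as a level of a chain. -/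
def Lvl.level (l : Lvl) : Level := (l.pt, l.tab, l.es)

/-- A product of tables, the last one in the list first. -/
noncomputable def runR : List PT → ℕ → ℕ
  | [], k => k
  | t :: r, k => force (runR r k) (get t)

/-- Walk from a point to the base point. -/
noncomputable def down (l : Lvl) : ℕ → List PT → ℕ → (List PT → Bool) → Bool
  | 0, _, _, _ => false
  | fuel + 1, π, y, k => cond (Nat.beq y l.pt) (k π)
      (force (get l.gen y) fun i => Nat.blt i l.tab.length &&
        force (get (l.tab.getD i (PT.leaf 0)) y) fun y' =>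
          down l fuel (l.tab.getD i (PT.leaf 0) :: π) y' k)

/-- The base points are consecutive under a table. -/
noncomputable def linked (E : PT) : List Lvl → ℕ → Bool
  | [], _ => true
  | l :: L, b => Nat.beq l.pt b && linked E L (get E b)

/-- There is no commuting element with the given first image. -/
noncomputable def bad (N : ℕ) (E : PT) : List Lvl → List PT → ℕ → Bool
  | [], π, _ =>
      !allBelow (fun j => Nat.beq (runR π (get E j)) (get E (runR π j))) N
  | l :: L, π, a => force (runR π a) fun y =>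
      !(bitOf l.mask y) || down l 40 π y fun π' => bad N E L π' (get E a)

/-- The orbit bits contain the tree. -/
noncomputable def maskOK (L : List Lvl) : Bool :=
  L.all fun l => (l.pt :: pts l.es).all (bitOf l.mask)

/-- Each first image belongs to a candidate or is refuted. -/
noncomputable def centOK (N : ℕ) (E : PT) (L : List Lvl) (p : ℕ) (src : List PT)
    (cands : List (List ℕ)) (tab : PT) : Bool :=
  Nat.blt p N && linked E L p && maskOK L &&
    cands.all (fun w => w.all (fun i => Nat.blt i src.length) &&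
      allBelow (fun j => Nat.beq (ev src w (get E j)) (get E (ev src w j))) N) &&
    allBelow (fun a => force (get tab a) fun k =>
      (Nat.blt k cands.length && Nat.beq (ev src (cands.getD k []) p) a) || bad N E L [] a) N

variable {N : ℕ} {H : Subgroup (Equiv.Perm (Fin N))}

theorem orbit_exact {l : Level} {L : List Level} {pre : List ℕ} (h : chainOK N pre (l :: L) = true)
    (hT : ∀ m ∈ l :: L, ∀ t ∈ m.2.1, ∃ σ ∈ H, Rep σ t)
    (hcard : Nat.card (fixSub H pre) ≤ chainSize (l :: L)) :
    (∀ σ ∈ fixSub H pre, ∀ b : Fin N, (b : ℕ) = l.1 → (σ b : ℕ) ∈ l.1 :: pts l.2.2) ∧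
      Nat.card (fixSub H (l.1 :: pre)) ≤ chainSize L := by
  simp only [chainOK, Bool.and_eq_true, Nat.blt_eq] at h
  obtain ⟨⟨⟨hb, hpre⟩, htree⟩, hrest⟩ := h
  obtain ⟨S, hS, hSm, hSr⟩ := orbit_spec (fix_tab (hT l List.mem_cons_self) hpre) ⟨l.1, hb⟩ htree
  set G' := fixSub H pre
  have hsub : (S : Set (Fin N)) ⊆ MulAction.orbit G' (⟨l.1, hb⟩ : Fin N) := by
    intro p hp
    obtain ⟨σ, hσ, hσb⟩ := hSr p hp
    exact ⟨⟨σ, hσ⟩, hσb⟩
  have horb : S.card ≤ (MulAction.orbit G' (⟨l.1, hb⟩ : Fin N)).ncard := by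
    rw [← Set.ncard_coe_finset]
    exact Set.ncard_le_ncard hsub (Set.toFinite _)
  have hstab : Nat.card (MulAction.stabilizer G' (⟨l.1, hb⟩ : Fin N)) =
      Nat.card (fixSub H (l.1 :: pre)) :=
    Nat.card_congr
      { toFun := fun g => ⟨g.1.1, g.1.2.1, fun k hk => by
          rcases List.mem_cons.mp hk with hk | hk
          · have e : k = (⟨l.1, hb⟩ : Fin N) := Fin.ext hk
            rw [e]; exact g.2
          · exact g.1.2.2 k hk⟩
        invFun := fun g => ⟨⟨g.1, g.2.1, fun k hk => g.2.2 k (List.mem_cons_of_mem _ hk)⟩,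
          g.2.2 _ List.mem_cons_self⟩
        left_inv := fun _ => rfl
        right_inv := fun _ => rfl }
  have hmul : (MulAction.orbit G' (⟨l.1, hb⟩ : Fin N)).ncard * Nat.card (fixSub H (l.1 :: pre)) =
      Nat.card G' := by
    rw [← hstab, ← MulAction.index_stabilizer, Subgroup.index_mul_card]
  have hle := chain_spec L (l.1 :: pre) hrest fun m hm => hT m (List.mem_cons_of_mem _ hm)
  have hpos : 0 < Nat.card (fixSub H ((L.map Prod.fst).reverse ++ l.1 :: pre)) := Nat.card_pos
  have hle' : chainSize L ≤ Nat.card (fixSub H (l.1 :: pre)) :=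
    le_trans (Nat.le_mul_of_pos_right _ hpos) hle
  rw [chainSize] at hcard
  have hsz : 0 < chainSize L := by
    by_contra hz
    have : Nat.card G' = 0 := by rw [Nat.eq_zero_of_not_pos hz] at hcard; omega
    exact absurd this (Nat.card_pos (α := G')).ne'
  have h1 : (MulAction.orbit G' (⟨l.1, hb⟩ : Fin N)).ncard ≤ S.card := by
    refine Nat.le_of_mul_le_mul_right ?_ hsz
    calc _ ≤ (MulAction.orbit G' (⟨l.1, hb⟩ : Fin N)).ncard * Nat.card (fixSub H (l.1 :: pre)) :=
          Nat.mul_le_mul_left _ hle'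
      _ ≤ (l.2.2.length + 1) * chainSize L := hmul.trans_le hcard
      _ = S.card * chainSize L := by rw [hS]
  refine ⟨fun σ hσ b hbl => ?_, ?_⟩
  · have heq : (S : Set (Fin N)) = MulAction.orbit G' (⟨l.1, hb⟩ : Fin N) :=
      Set.eq_of_subset_of_ncard_le hsub (by rwa [Set.ncard_coe_finset]) (Set.toFinite _)
    have hb' : b = ⟨l.1, hb⟩ := Fin.ext hbl
    subst hb'
    have : σ ⟨l.1, hb⟩ ∈ (S : Set (Fin N)) := heq ▸ ⟨⟨σ, hσ⟩, rfl⟩
    rcases (hSm _).mp this with e | e
    · exact List.mem_cons.mpr (Or.inl (congrArg Fin.val e))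
    · exact List.mem_cons_of_mem _ e
  · refine Nat.le_of_mul_le_mul_left (?_ : (MulAction.orbit G' (⟨l.1, hb⟩ : Fin N)).ncard * _ ≤
      (MulAction.orbit G' (⟨l.1, hb⟩ : Fin N)).ncard * _)
      (Nat.lt_of_lt_of_le (Nat.succ_pos _) (hS ▸ horb))
    exact hmul.trans_le (hcard.trans (Nat.mul_le_mul_right _ (hS ▸ horb)))

theorem down_spec {l : Lvl} {pre : List ℕ} (hT : ∀ t ∈ l.tab, ∃ σ ∈ fixSub H pre, Rep σ t)
    {k : List PT → Bool} :
    ∀ (fuel : ℕ) (π : List PT) (y : Fin N) (ρ : Equiv.Perm (Fin N)),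
      (∀ j : Fin N, (ρ j : ℕ) = runR π j) → down l fuel π y k = true →
      ∃ π' τ, τ ∈ fixSub H pre ∧ k π' = true ∧ (τ y : ℕ) = l.pt ∧
        ∀ j : Fin N, ((τ * ρ) j : ℕ) = runR π' j
  | 0, _, _, _, _, h => by simp [down] at h
  | fuel + 1, π, y, ρ, hρ, h => by
    rw [down] at h
    cases hy : Nat.beq (y : ℕ) l.pt
    · simp only [hy, cond_false, force_eq, Bool.and_eq_true, Nat.blt_eq] at h
      obtain ⟨hi, hd⟩ := h
      obtain ⟨σ, hσ, hσr⟩ := hT (l.tab.getD (get l.gen y) (PT.leaf 0)) (by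
        rw [List.getD_eq_getElem _ _ hi]; exact List.getElem_mem _)
      rw [← hσr y] at hd
      obtain ⟨π', τ, hτ, hk, hτy, hrep⟩ := down_spec hT fuel _ (σ y) (σ * ρ) (fun j => by
        rw [runR, force_eq, ← hρ j, ← hσr (ρ j), Equiv.Perm.mul_apply]) hd
      exact ⟨π', τ * σ, mul_mem hτ hσ, hk, by rw [Equiv.Perm.mul_apply, hτy], fun j => by
        rw [mul_assoc, hrep j]⟩
    · simp only [hy, cond_true] at h
      exact ⟨π, 1, one_mem _, h, by simpa using Nat.eq_of_beq_eq_true hy, fun j => by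
        rw [one_mul, hρ j]⟩

theorem bad_spec {E : PT} {e : Equiv.Perm (Fin N)} (he : Rep e E) {g : Equiv.Perm (Fin N)}
    (hg : Commute g e) :
    ∀ (L : List Lvl) (pre : List ℕ) (π : List PT) (ρ : Equiv.Perm (Fin N)) (b a : Fin N),
      chainOK N pre (L.map Lvl.level) = true → (∀ l ∈ L, ∀ t ∈ l.tab, ∃ σ ∈ H, Rep σ t) →
      maskOK L = true → linked E L b = true →
      Nat.card (fixSub H pre) ≤ chainSize (L.map Lvl.level) →
      ρ * g ∈ fixSub H pre → (∀ j : Fin N, (ρ j : ℕ) = runR π j) → g b = a →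
      bad N E L π a = true → False
  | [], pre, π, ρ, b, a, _, _, _, _, hcard, hρg, hρ, _, hbad => by
    simp only [bad, Bool.not_eq_true'] at hbad
    refine Bool.false_ne_true (hbad.symm.trans ?_)
    have h1 : ρ * g = 1 := by
      have hc : Nat.card (fixSub H pre) = 1 := le_antisymm (by simpa [chainSize] using hcard) Nat.card_pos
      rw [Subgroup.card_eq_one.mp hc, Subgroup.mem_bot] at hρg
      exact hρg
    have hρe : Commute ρ e := by
      rw [show ρ = g⁻¹ from mul_eq_one_iff_eq_inv.mp h1]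
      exact hg.inv_left
    have : ∀ n, n ≤ N → allBelow (fun j => Nat.beq (runR π (get E j)) (get E (runR π j))) n = true := by
      intro n
      induction n with
      | zero => intro _; rfl
      | succ n ih =>
        intro hn
        show (_ && allBelow _ n) = true
        rw [ih (by omega), Bool.and_true, Nat.beq_eq, ← he ⟨n, by omega⟩, ← hρ (e ⟨n, by omega⟩),
          ← hρ ⟨n, by omega⟩, ← he (ρ ⟨n, by omega⟩), ← Equiv.Perm.mul_apply, hρe.eq,
          Equiv.Perm.mul_apply]
    exact this N le_rfl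
  | l :: L, pre, π, ρ, b, a, hchain, hT, hmask, hlink, hcard, hρg, hρ, hgb, hbad => by
    simp only [linked, Bool.and_eq_true, Nat.beq_eq] at hlink
    obtain ⟨hlb, hlink⟩ := hlink
    simp only [maskOK, List.all_cons, Bool.and_eq_true] at hmask
    rw [List.map_cons] at hchain hcard
    have hT' : ∀ m ∈ l.level :: L.map Lvl.level, ∀ t ∈ m.2.1, ∃ σ ∈ H, Rep σ t := by
      intro m hm
      rcases List.mem_cons.mp hm with rfl | hm
      · exact hT l List.mem_cons_self
      · obtain ⟨m', hm', rfl⟩ := List.mem_map.mp hm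
        exact hT m' (List.mem_cons_of_mem _ hm')
    obtain ⟨horb, hnext⟩ := orbit_exact hchain hT' hcard
    have hy := horb _ hρg b (hlb.symm)
    have hbit : bitOf l.mask (((ρ * g) b : Fin N) : ℕ) = true := by
      have := hmask.1
      rcases List.mem_cons.mp hy with e | e
      · rw [e]; exact this.1
      · exact List.all_eq_true.mp this.2 _ e
    rw [bad, force_eq, ← hρ a, ← hgb, ← Equiv.Perm.mul_apply, hbit] at hbad
    simp only [Bool.not_true, Bool.false_or] at hbad
    simp only [chainOK, Lvl.level, Bool.and_eq_true] at hchain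
    obtain ⟨⟨⟨-, hpre⟩, -⟩, hrest⟩ := hchain
    obtain ⟨π', τ, hτ, hk, hτy, hrep⟩ :=
      down_spec (fix_tab (hT l List.mem_cons_self) hpre) 40 π _ ρ hρ hbad
    rw [← he b] at hlink
    rw [← he (g b)] at hk
    refine bad_spec he hg L (l.pt :: pre) π' (τ * ρ) (e b) (e (g b)) hrest
      (fun m hm => hT m (List.mem_cons_of_mem _ hm)) hmask.2 hlink hnext ?_ hrep ?_ hk
    · have hmem := mul_mem hτ hρg
      rw [← mul_assoc] at hmem
      refine ⟨hmem.1, fun k hk' => ?_⟩
      rcases List.mem_cons.mp hk' with hk' | hk'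
      · obtain rfl : k = b := Fin.ext (hk'.trans hlb)
        rw [mul_assoc, Equiv.Perm.mul_apply]
        exact Fin.ext (hτy.trans hlb)
      · exact hmem.2 k hk'
    · rw [← Equiv.Perm.mul_apply, hg.eq, Equiv.Perm.mul_apply]

theorem linked_fix {E : PT} {e : Equiv.Perm (Fin N)} (he : Rep e E) {σ : Equiv.Perm (Fin N)}
    (hσ : Commute σ e) :
    ∀ (L : List Lvl) (b : Fin N), linked E L b = true → σ b = b →
      ∀ k : Fin N, (k : ℕ) ∈ (L.map Lvl.level).map Prod.fst → σ k = k
  | [], _, _, _, _, hk => by simp at hk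
  | l :: L, b, h, hb, k, hk => by
    simp only [linked, Bool.and_eq_true, Nat.beq_eq] at h
    rw [List.map_cons, List.map_cons, List.mem_cons] at hk
    rcases hk with hk | hk
    · obtain rfl : k = b := Fin.ext (hk.trans h.1)
      exact hb
    · refine linked_fix he hσ L (e b) (by rw [he b]; exact h.2) ?_ k hk
      rw [← Equiv.Perm.mul_apply, hσ.eq, Equiv.Perm.mul_apply, hb]

/-- An element commuting with the given one is one of the candidates. -/
theorem cent {E : PT} {L : List Lvl} {p : ℕ} {src : List PT} {cands : List (List ℕ)} {tab : PT}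
    (hchain : chainOK N [] (L.map Lvl.level) = true) (hT : ∀ l ∈ L, ∀ t ∈ l.tab, ∃ σ ∈ H, Rep σ t)
    (hcard : Nat.card H ≤ chainSize (L.map Lvl.level)) {e : Equiv.Perm (Fin N)} (he : Rep e E)
    (hsrc : ∀ t ∈ src, ∃ σ ∈ H, Rep σ t) (h : centOK N E L p src cands tab = true)
    {g : Equiv.Perm (Fin N)} (hgH : g ∈ H) (hg : Commute g e) :
    ∃ k < cands.length, ∀ j : Fin N, (g j : ℕ) = ev src (cands.getD k []) j := by
  simp only [centOK, Bool.and_eq_true, Nat.blt_eq] at h
  obtain ⟨⟨⟨⟨hp, hlink⟩, hmask⟩, hcand⟩, hall⟩ := h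
  have ha := allBelow_spec hall _ (g ⟨p, hp⟩).2
  simp only [force_eq, Bool.or_eq_true, Bool.and_eq_true, Nat.blt_eq, Nat.beq_eq] at ha
  rcases ha with ⟨hk, hka⟩ | hbad
  · refine ⟨_, hk, ?_⟩
    obtain ⟨hw, hc⟩ := Bool.and_eq_true_iff.mp (List.all_eq_true.mp hcand
      (cands.getD (get tab (g ⟨p, hp⟩ : ℕ)) []) (by
        rw [List.getD_eq_getElem _ _ hk]; exact List.getElem_mem _))
    simp only [List.all_eq_true, Nat.blt_eq] at hw
    obtain ⟨σ, hσ, hσr⟩ := exists_word hsrc _ hw
    have hσe : Commute σ e := Equiv.ext fun j => Fin.ext (by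
      rw [Equiv.Perm.mul_apply, Equiv.Perm.mul_apply, hσr, he, he, hσr]
      exact Nat.eq_of_beq_eq_true (allBelow_spec hc j j.2))
    have hfix : σ⁻¹ * g = 1 := by
      have hT' : ∀ m ∈ L.map Lvl.level, ∀ t ∈ m.2.1, ∃ σ ∈ H, Rep σ t := by
        intro m hm
        obtain ⟨m', hm', rfl⟩ := List.mem_map.mp hm
        exact hT m' hm'
      refine fix_eq_bot hchain hT' hcard (mul_mem (inv_mem hσ) hgH) (linked_fix he
        (hσe.inv_left.mul_left hg) L ⟨p, hp⟩ hlink ?_)
      rw [Equiv.Perm.mul_apply, Equiv.Perm.inv_eq_iff_eq]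
      exact Fin.ext (by rw [hσr]; exact hka.symm)
    intro j
    rw [← hσr j]
    exact congrArg (fun s : Equiv.Perm (Fin N) => ((s j : Fin N) : ℕ)) (inv_mul_eq_one.mp hfix).symm
  · exact (bad_spec he hg L [] [] 1 ⟨p, hp⟩ _ hchain hT hmask hlink
      (by rwa [fixSub_nil]) (by rw [one_mul, fixSub_nil]; exact hgH) (fun _ => rfl) rfl hbad).elim

end Cfsg.Agent.RuSift76
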