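import Cfsg.Agent.Lib.Ru2Signed76
import Cfsg.Agent.Lib.Ru2Data76
import Cfsg.Agent.Lib.RuSift76
import Cfsg.Agent.Lib.RuPermCover66

/-! Checks for the double cover of the Rudvalis group. -/

set_option autoImplicit false
set_option maxRecDepth 100000
set_option Elab.async false

namespace Cfsg.Agent.Ru2Checks76

open RuPermCert66 RuPermData66 RuSift76 Ru2Signed76 Ru2Data76

/-- The letters. -/
noncomputable abbrev S : List (PT × PT) := letters

/-- A letter. -/
noncomputable def lt (i : ℕ) : PT × PT := S.getD i (PT.leaf 0, PT.leaf 0)

/-- A letter is defined from the earlier ones. -/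
noncomputable def letterOK (i : ℕ) : Bool :=
  Nat.ble 1 i && match defW.find? (fun p => Nat.beq p.1 i) with
    | some p => sdefOK (S.take i) p.2 (lt i)
    | none => sinvOK (lt (i - 1)) (lt i)

/-- The letters with given automorphisms. -/
def isBase (i : ℕ) : Bool := i == 0 || i == 2 || i == 4 || i == 6

/-- The inverse word. -/
noncomputable def invW' (w : List ℕ) : List ℕ :=
  w.reverse.map fun l => cond (Nat.beq (l % 2) 0) (l + 1) (l - 1)

/-- The word of a commutator. -/
noncomputable def commW (p q : List ℕ) : List ℕ := invW' q ++ invW' p ++ q ++ p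

/-- The word of a power. -/
noncomputable def pw (m : ℕ) (w : List ℕ) : List ℕ := (List.replicate m w).flatten

/-- The word of the first witness. -/
noncomputable def yR : List ℕ := commW wR2 wR3 ++ commW wR0 wR1
/-- The word of the second witness. -/
noncomputable def yS : List ℕ := commW wS2 wS3 ++ commW wS0 wS1
/-- The word of the involution. -/
noncomputable def rW : List ℕ := pw 10 yR
/-- The word of the element of order four. -/
noncomputable def bW : List ℕ := pw 5 (commW wB0 wB1)

/-- Multiplication by minus one on the codes. -/
def negC (x : ℕ) : ℕ := 4 * (x / 4) + (x % 4 + 2) % 4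

/-- The words used as factors. -/
noncomputable def factors : List (List ℕ) := [wR0, wR1, wR2, wR3, wS0, wS1, wS2, wS3, wB0, wB1]

/-- The image of a line. -/
noncomputable def line (w : List ℕ) (k : ℕ) : ℕ := sev S w (4 * k) / 4

/-- The facts of the cover. -/
noncomputable def coverOK2 : Bool :=
  factors.all (fun w => okW S w && okW S (invW' w) && eqB (sev S (invW' w ++ w)) id) &&
  okW S rW && okW S bW && okW S (pw 10 yS) &&
  [wR0, wR1, wR2, wR3, wS0, wS1, wS2, wS3].all (fun w => eqB (sev S (w ++ rW)) (sev S (rW ++ w))) &&
  [(wR0, wR1), (wR2, wR3), (wS0, wS1), (wS2, wS3)].all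
    (fun p => eqB (sev S (pw 16 (commW p.1 p.2))) id) &&
  eqB (sev S (pw 2 rW)) id &&
  eqB (sev S (pw 10 yS)) (fun x => negC (sev S rW x)) &&
  eqB (sev S (pw 2 bW)) negC &&
  !eqB (sev S (pw 4 yR)) id && !eqB (sev S (pw 4 yS)) id &&
  eqL (sev S rW) (sev S [35]) && eqL (sev S bW) (sev S [36])

/-- The fixed lines of the two involutions. -/
noncomputable def fixOK : Bool :=
  decide fixR.Nodup && Nat.beq fixR.length 92 && fixR.all (fun k => Nat.blt k NN) &&
  fixR.all (fun k => Nat.beq (line [35] k) k) &&
  force (maskOf fixR) (fun m => allBelow (fun k => !Nat.beq (line [35] k) k || bitOf m k) NN) &&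
  allBelow (fun k => !Nat.beq (line [36] k) k) NN

/-- The perm tables of some letters. -/
noncomputable def permTabs (ls : List ℕ) : List PT := ls.map fun i => (lt i).1

/-- The chain along the pairs. -/
noncomputable def LH : List Level :=
  [(0, permTabs [8, 9, 10, 11], esH0), (2305, permTabs [12, 13, 14, 15], esH1),
    (3330, permTabs [16, 17, 18, 19], esH2), (1, permTabs [20, 21, 22, 23, 24, 25], esH3),
    (5, permTabs [26, 27, 28, 29], esH4)]

/-- Two lists agree. -/
noncomputable def listEq : List ℕ → List ℕ → Bool
  | [], [] => true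
  | a :: as, b :: bs => Nat.beq a b && listEq as bs
  | _, _ => false

/-- The transversals and cosets. -/
noncomputable def transOK : Bool :=
  (w3W ++ w4W).all (fun w => okW S w && Nat.beq (line w 0) 0 && Nat.beq (line w 2305) 2305 &&
    Nat.beq (line w 3330) 3330 && Nat.beq (line w 3843) 3843) &&
  w4W.all (fun w => Nat.beq (line w 1) 1) &&
  hsW.all (fun w => okW S w) &&
  listEq (w3W.map fun w => line w 1) (1 :: pts esH3) &&
  listEq (w4W.map fun w => line w 5) (5 :: pts esH4) &&
  listEq (hsW.flatMap fun w => [line w 0, line w 2305, line w 3330, line w 3843])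
    [0, 2305, 3330, 3843, 0, 2305, 3843, 3330, 2305, 0, 3330, 3843, 2305, 0, 3843, 3330]

/-- A check on two lists of the same length. -/
noncomputable def all2 {α β : Type} (f : α → β → Bool) : List α → List β → Bool
  | [], [] => true
  | a :: as, b :: bs => f a b && all2 f as bs
  | _, _ => false

/-- An involution of the pair stabiliser is conjugate to one of the two. -/
noncomputable def involOK (w c : List ℕ) : Bool :=
  !Nat.beq (line (w ++ w) 1) 1 || !eqL (sev S (w ++ w)) id || eqL (sev S w) id ||
    (okW S c && (eqL (sev S (w ++ c)) (sev S (c ++ [35])) || eqL (sev S (w ++ c)) (sev S (c ++ [36]))))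

/-- The elements of one coset pass. -/
noncomputable def cosetOK (h : List ℕ) (ws : List (List (List ℕ))) : Bool :=
  all2 (fun a ws' => all2 (fun b c => involOK (b ++ a ++ h) c) w4W ws') w3W ws

/-- The chain of the line stabiliser along the orbit of the element of order five. -/
noncomputable def LC : List Lvl :=
  [⟨2305, permTabs [12, 13, 14, 15], esC0, maskC0, genC0⟩,
    ⟨3259, permTabs [16, 17, 18, 19], esC1, maskC1, genC1⟩,
    ⟨2350, permTabs [30, 31, 32, 33], esC2, maskC2, genC2⟩]

/-- The tables fixing the first line. -/
noncomputable def T12 : List PT := ((S.drop 12).take 23).map Prod.fst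

/-- The candidates in the shifted letters. -/
noncomputable def cands : List (List ℕ) := candW.map fun w => w.map fun l => l - 12

/-- The tables fix the first line. -/
noncomputable def preC : Bool :=
  T12.all (fun t => Nat.beq (get t 0) 0) && candW.all (fun w => w.all fun l => Nat.ble 12 l && Nat.blt l 35)

/-- The Sylow five group and its conjugators. -/
noncomputable def p5OK : Bool :=
  okW S yW && eqL (sev S (pw 5 [34])) id && eqL (sev S (pw 5 yW)) id &&
  eqL (sev S (yW ++ [34])) (sev S ([34] ++ yW)) && Nat.beq (line [34] 0) 0 && Nat.beq (line yW 0) 0 &&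
  allBelow (fun i => allBelow (fun j => Nat.beq i 0 && Nat.beq j 0 ||
    force 0 fun _ => !eqL (sev S (pw j yW ++ pw i [34])) id &&
      (fun c => okW S c && Nat.beq (line c 0) 0 &&
        eqL (sev S (pw j yW ++ pw i [34] ++ c)) (sev S (c ++ [34]))) ((p5W.getD i []).getD j [])) 5) 5

/-- The fixed lines of the element of order five and elements moving the first line to them. -/
noncomputable def fixXOK : Bool :=
  force (maskOf fixX) (fun m => allBelow (fun k => !Nat.beq (line [34] k) k || bitOf m k) NN) &&
  listEq (repW.map fun w => line w 0) fixX &&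
  repW.all (fun w => okW S w && eqL (sev S (w ++ [34])) (sev S ([34] ++ w))) &&
  candW.all (fun w => okW S w) && invW.all (fun w => okW S w)

/-- The involutions centralising the element of order five. -/
noncomputable def involXOK : Bool :=
  repW.all fun h => candW.all fun c => !eqL (sev S ((c ++ h) ++ (c ++ h))) id || eqL (sev S (c ++ h)) id ||
    invW.any fun v => eqL (sev S (c ++ h)) (sev S v)

/-- No two of them commute. -/
noncomputable def pairsOK : Bool :=
  invW.all fun u => invW.all fun v => eqL (sev S u) (sev S v) || !eqL (sev S (u ++ v)) (sev S (v ++ u))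

/-- The candidates commute. -/
noncomputable def candsOK : Bool :=
  cands.all (fun w => w.all fun i => Nat.blt i T12.length) &&
    candW.all (fun w => okW S w && eqL (sev S (w ++ [34])) (sev S ([34] ++ w)))

/-- One first image is a candidate or refuted, in a block of 1024. -/
noncomputable def centBlock (i : ℕ) : Bool :=
  allBelow (fun a' => force (Nat.add (Nat.mul 1024 i) a') fun a => Nat.ble NN a ||
    force (get candT a) (fun k => (Nat.blt k cands.length &&
      Nat.beq (ev T12 (cands.getD k []) 2305) a) || bad NN (lt 34).1 LC [] a)) 1024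


end Cfsg.Agent.Ru2Checks76
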