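import Cfsg.Agent.Lib.Ru2CheckDefs76

/-! Checks for the double cover of the Rudvalis group. -/

set_option autoImplicit false
set_option maxRecDepth 100000
set_option Elab.async false

namespace Cfsg.Agent.Ru2Checks76

open RuPermCert66 RuPermData66 RuSift76 Ru2Signed76 Ru2Data76

theorem letter1_ok : letterOK 1 = true := by decide +kernel
theorem letter3_ok : letterOK 3 = true := by decide +kernel
theorem letter5_ok : letterOK 5 = true := by decide +kernel
theorem letter7_ok : letterOK 7 = true := by decide +kernel
theorem letter8_ok : letterOK 8 = true := by decide +kernel
theorem letter9_ok : letterOK 9 = true := by decide +kernel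
theorem letter10_ok : letterOK 10 = true := by decide +kernel
theorem letter11_ok : letterOK 11 = true := by decide +kernel
theorem letter12_ok : letterOK 12 = true := by decide +kernel
theorem letter13_ok : letterOK 13 = true := by decide +kernel
theorem letter14_ok : letterOK 14 = true := by decide +kernel
theorem letter15_ok : letterOK 15 = true := by decide +kernel
theorem letter16_ok : letterOK 16 = true := by decide +kernel
theorem letter17_ok : letterOK 17 = true := by decide +kernel
theorem letter18_ok : letterOK 18 = true := by decide +kernel
theorem letter19_ok : letterOK 19 = true := by decide +kernel
theorem letter20_ok : letterOK 20 = true := by decide +kernel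
theorem letter21_ok : letterOK 21 = true := by decide +kernel
theorem letter22_ok : letterOK 22 = true := by decide +kernel

end Cfsg.Agent.Ru2Checks76
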