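import Cfsg.Agent.Lib.Ru2CheckDefs76

/-! Checks for the double cover of the Rudvalis group. -/

set_option autoImplicit false
set_option maxRecDepth 100000
set_option Elab.async false

namespace Cfsg.Agent.Ru2Checks76

open RuPermCert66 RuPermData66 RuSift76 Ru2Signed76 Ru2Data76

theorem letter23_ok : letterOK 23 = true := by decide +kernel
theorem letter24_ok : letterOK 24 = true := by decide +kernel
theorem letter25_ok : letterOK 25 = true := by decide +kernel
theorem letter26_ok : letterOK 26 = true := by decide +kernel
theorem letter27_ok : letterOK 27 = true := by decide +kernel
theorem letter28_ok : letterOK 28 = true := by decide +kernel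
theorem letter29_ok : letterOK 29 = true := by decide +kernel
theorem letter30_ok : letterOK 30 = true := by decide +kernel
theorem letter31_ok : letterOK 31 = true := by decide +kernel
theorem letter32_ok : letterOK 32 = true := by decide +kernel
theorem letter33_ok : letterOK 33 = true := by decide +kernel
theorem letter34_ok : letterOK 34 = true := by decide +kernel
theorem letter35_ok : letterOK 35 = true := by decide +kernel
theorem letter36_ok : letterOK 36 = true := by decide +kernel

end Cfsg.Agent.Ru2Checks76
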