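import Cfsg.Agent.Lib.Ru2CheckLetA76
import Cfsg.Agent.Lib.Ru2CheckLetB76
import Cfsg.Agent.Lib.Ru2CheckCent76

/-! Checks for the double cover of the Rudvalis group. -/

set_option autoImplicit false
set_option maxRecDepth 100000
set_option Elab.async false

namespace Cfsg.Agent.Ru2Checks76

open RuPermCert66 RuPermData66 RuSift76 Ru2Signed76 Ru2Data76

theorem build_ok : ∀ i < 37, isBase i = true ∨ letterOK i = true := by
  intro i hi
  interval_cases i
  exacts [Or.inl rfl, Or.inr letter1_ok, Or.inl rfl, Or.inr letter3_ok, Or.inl rfl, Or.inr letter5_ok, Or.inl rfl, Or.inr letter7_ok, Or.inr letter8_ok, Or.inr letter9_ok, Or.inr letter10_ok, Or.inr letter11_ok, Or.inr letter12_ok, Or.inr letter13_ok, Or.inr letter14_ok, Or.inr letter15_ok, Or.inr letter16_ok, Or.inr letter17_ok, Or.inr letter18_ok, Or.inr letter19_ok, Or.inr letter20_ok, Or.inr letter21_ok, Or.inr letter22_ok, Or.inr letter23_ok, Or.inr letter24_ok, Or.inr letter25_ok, Or.inr letter26_ok, Or.inr letter27_ok, Or.inr letter28_ok, Or.inr letter29_ok, Or.inr letter30_ok, Or.inr letter31_ok, Or.inr letter32_ok,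 Or.inr letter33_ok, Or.inr letter34_ok, Or.inr letter35_ok, Or.inr letter36_ok]

theorem cover_ok : coverOK2 = true := by decide +kernel
theorem fix_ok : fixOK = true := by decide +kernel
theorem sizeH_ok : Nat.beq (chainSize LH) 145926144000 = true := by decide +kernel
theorem trans_ok : transOK = true := by decide +kernel
theorem witW_len : Nat.beq witW.length 4 = true := by decide +kernel
theorem sizeC_ok : Nat.beq (chainSize (LC.map Lvl.level)) 35942400 = true := by decide +kernel
theorem preC_ok : preC = true := by decide +kernel
theorem cands_ok : candsOK = true := by decide +kernel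
theorem linkC_ok : (linked (lt 34).1 LC 2305 && maskOK LC) = true := by decide +kernel

theorem cent_ok : ∀ a < NN, (Nat.blt (get candT a) cands.length &&
    Nat.beq (ev T12 (cands.getD (get candT a) []) 2305) a || bad NN (lt 34).1 LC [] a) = true := by
  intro a ha
  have key : ∀ i, centBlock i = true → 1024 * i ≤ a → a < 1024 * i + 1024 →
      (Nat.blt (get candT a) cands.length &&
        Nat.beq (ev T12 (cands.getD (get candT a) []) 2305) a || bad NN (lt 34).1 LC [] a) = true := by
    intro i h h1 h2
    have h3 := allBelow_spec h (a - 1024 * i) (by omega)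
    rw [force_eq, force_eq, show Nat.add (Nat.mul 1024 i) (a - 1024 * i) = a by
      show 1024 * i + (a - 1024 * i) = a; omega, Bool.or_eq_true, Nat.ble_eq] at h3
    exact h3.resolve_left (by omega)
  have : a < 4060 := ha
  rcases (show a / 1024 = 0 ∨ a / 1024 = 1 ∨ a / 1024 = 2 ∨ a / 1024 = 3 by omega) with h | h | h | h
  · exact key 0 cent0_ok (by omega) (by omega)
  · exact key 1 cent1_ok (by omega) (by omega)
  · exact key 2 cent2_ok (by omega) (by omega)
  · exact key 3 cent3_ok (by omega) (by omega)

theorem p5_ok : p5OK = true := by decide +kernel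
theorem fixX_ok : fixXOK = true := by decide +kernel
theorem involX_ok : involXOK = true := by decide +kernel
theorem pairs_ok : pairsOK = true := by decide +kernel


end Cfsg.Agent.Ru2Checks76
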