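import Mathlib

/-!
Two commuting elements of the Rudvalis group as words in three generators.
-/

set_option autoImplicit false
set_option maxRecDepth 100000

namespace Cfsg.Agent.RuMultData40

/-- first word -/
def wA : List ℕ :=
  [4, 4, 3, 4, 4, 3, 4, 4, 3, 4, 4, 3, 4, 4, 3, 4,
   4, 3, 4, 4, 3]

/-- second word -/
def wB : List ℕ :=
  [3, 0, 3, 3, 4, 4, 3, 4, 4, 3, 4, 4, 3, 4, 4, 3,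
   4, 4, 3, 4, 4, 3, 4, 4, 3, 2, 2, 1, 2, 4, 4, 3,
   4, 4, 3, 4, 4, 3, 4, 4, 3, 4, 4, 3, 4, 4, 3, 4,
   4, 3, 3, 0, 3, 3, 4, 4, 3, 4, 4, 3, 4, 4, 3, 4,
   4, 3, 4, 4, 3, 4, 4, 3, 4, 4, 3, 2, 2, 1, 2, 4,
   4, 3, 4, 4, 3, 4, 4, 3, 4, 4, 3, 4, 4, 3, 4, 4,
   3, 4, 4, 3, 3, 0, 3, 3, 4, 4, 3, 4, 4, 3, 4, 4,
   3, 4, 4, 3, 4, 4, 3, 4, 4, 3, 4, 4, 3, 2, 2, 1,
   2, 4, 4, 3, 4, 4, 3, 4, 4, 3, 4, 4, 3, 4, 4, 3,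
   4, 4, 3, 4, 4, 3, 3, 0, 3, 3]

end Cfsg.Agent.RuMultData40
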