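import Cfsg.Agent.Lib.RuMultBase40
import Cfsg.Agent.Lib.RuMultPairData40
import Cfsg.Agent.Lib.SchurMultiplierCover

/-!
Two commuting elements of the Rudvalis group whose lifts to the automorphism group of the lattice do
not commute.
-/

set_option autoImplicit false
set_option maxRecDepth 100000

namespace Cfsg.Agent.RuMultLower40

open Cfsg.Spor RuLattice90 RuPermCert66 RuVecs66 RuLineData66 RuActData66 RuPermData66 RuLines66 RuLattMem66
open RuPermGroup66 RuAction66
open scoped Fin.NatCast commutatorElement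
open Fin.CommRing

attribute [local irreducible] vk pt keyP rP rM rC

theorem exists_aut_units {C : Cols} {d : ℕ} {p : PT × PT} {units : PT} (hd : 0 < d) (hC : colsOK C = true)
    (ho : orthOK C d = true) (hcm : Comm C) (hi : invOK NN p = true)
    (him : imgsOK C d p.1 units = true) :
    ∃ f : fourRu, ∀ k : Fin NN, get units k < 4 ∧ ∀ u : Fin 4, (u : ℕ) = get units k →
      (f : Equiv.Perm ruLattice) (ptL k 0) = ptL (permOf NN p k) u := by
  have hd0 : (d : ℤ) ≠ 0 := by exact_mod_cast hd.ne'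
  have hinj : ∀ a b : RuVec, (d : ℤ) • enc a = (d : ℤ) • enc b → a = b := fun a b h => enc_injective (funext fun j => by
    have := congrFun h j
    simp only [Pi.smul_apply, smul_eq_mul] at this
    exact mul_left_cancel₀ hd0 this)
  have hpt : ∀ (k : Fin NN) (u : Fin 4), ∃ u' : Fin 4,
      lin C (vk k u) = (d : ℤ) • enc (ptL (permOf NN p k) u' : RuVec) := by
    intro k
    obtain ⟨-, hu, he⟩ := img_spec hC him k.2
    let u0 : Fin 4 := ⟨_, hu⟩
    have h0 : lin C (vk k 0) = (d : ℤ) • enc (ptL (permOf NN p k) u0 : RuVec) := by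
      rw [enc_ptL, he, ← rep_permOf hi k]
    have step : ∀ u : Fin 4, ∀ v : Fin 4, lin C (vk k u) = (d : ℤ) • enc (ptL (permOf NN p k) v : RuVec) →
        lin C (vk k ((u + 1 : Fin 4) : ℕ)) = (d : ℤ) • enc (ptL (permOf NN p k) (v + 1) : RuVec) := by
      intro u v h
      rw [← enc_ptL k (u + 1), ← ruI_ptL, ← ruI_ptL]
      show lin C (enc (gI • (ptL k u : RuVec))) = _ • enc (gI • (ptL (permOf NN p k) v : RuVec))
      rw [enc_gI, enc_gI, lin_iV hcm, enc_ptL k u, h, map_zsmul]
    intro u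
    fin_cases u
    exacts [⟨u0, h0⟩, ⟨u0 + 1, step 0 u0 h0⟩, ⟨u0 + 1 + 1, step 1 _ (step 0 u0 h0)⟩,
      ⟨u0 + 1 + 1 + 1, step 2 _ (step 1 _ (step 0 u0 h0))⟩]
  have hex : ∀ v : ruLattice, ∃ w : ruLattice, lin C (enc (v : RuVec)) = (d : ℤ) • enc (w : RuVec) := by
    intro v
    have hv : (v : RuVec) ∈ AddSubgroup.closure minSet := lattice_le v.2
    generalize (v : RuVec) = z at hv
    induction hv using AddSubgroup.closure_induction with
    | mem z hz =>
      obtain ⟨k, u, rfl⟩ := hz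
      obtain ⟨u', h⟩ := hpt k u
      exact ⟨ptL (permOf NN p k) u', by rw [enc_ptL k u]; exact h⟩
    | zero => exact ⟨0, by simp⟩
    | add a b _ _ iha ihb =>
      obtain ⟨w, hw⟩ := iha
      obtain ⟨w', hw'⟩ := ihb
      exact ⟨w + w', by rw [AddSubgroup.coe_add, map_add, map_add, map_add, hw, hw', smul_add]⟩
    | neg a _ iha =>
      obtain ⟨w, hw⟩ := iha
      exact ⟨-w, by rw [AddSubgroup.coe_neg, map_neg, map_neg, map_neg, hw, smul_neg]⟩
  choose F hF using hex
  have huniq : ∀ v w : ruLattice, lin C (enc (v : RuVec)) = (d : ℤ) • enc (w : RuVec) → F v = w :=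
    fun v w h => Subtype.ext (hinj _ _ ((hF v).symm.trans h))
  have hadd : ∀ v w, F (v + w) = F v + F w := fun v w => huniq _ _ (by
    rw [AddSubgroup.coe_add, map_add, map_add, hF, hF, AddSubgroup.coe_add, map_add, smul_add])
  have hI : ∀ v, F (ruI v) = ruI (F v) := fun v => huniq _ _ (by
    show lin C (enc (gI • (v : RuVec))) = _ • enc (gI • (F v : RuVec))
    rw [enc_gI, enc_gI, lin_iV hcm, hF, map_zsmul])
  have hdot : ∀ v w : ruLattice, dot (enc (F v : RuVec)) (enc (F w : RuVec)) = dot (enc (v : RuVec)) (enc (w : RuVec)) := by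
    intro v w
    have h := dot_lin ho (enc (v : RuVec)) (enc (w : RuVec))
    rw [hF, hF] at h
    have e : ∀ x y : V, dot ((d : ℤ) • x) ((d : ℤ) • y) = (d : ℤ) * d * dot x y := fun x y => by
      simp only [dot, Pi.smul_apply, smul_eq_mul, Finset.mul_sum]
      exact Finset.sum_congr rfl fun j _ => by ring
    rw [e] at h
    exact mul_left_cancel₀ (mul_ne_zero hd0 hd0) h
  have hFpt : ∀ (k : Fin NN) (u : Fin 4), ∃ u', F (ptL k u) = ptL (permOf NN p k) u' := fun k u => by
    obtain ⟨u', h⟩ := hpt k u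
    exact ⟨u', huniq _ _ (by rw [enc_ptL]; exact h)⟩
  let Fh : ruLattice →+ ruLattice := AddMonoidHom.mk' F hadd
  have hFinj : Function.Injective F := by
    refine (injective_iff_map_eq_zero Fh).mpr fun v hv => ?_
    have h := hdot v v
    rw [show F v = 0 from hv, AddSubgroup.coe_zero, map_zero] at h
    have h0 : ∀ j ∈ (Finset.univ : Finset (Fin 56)), enc (v : RuVec) j * enc (v : RuVec) j = 0 :=
      (Finset.sum_eq_zero_iff_of_nonneg fun j _ => mul_self_nonneg _).mp (h.symm.trans (by simp [dot]))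
    exact Subtype.ext (enc_injective (by
      rw [AddSubgroup.coe_zero, map_zero]
      exact funext fun j => mul_self_eq_zero.mp (h0 j (Finset.mem_univ _))))
  have hFsurj : Function.Surjective F := by
    have hall : ∀ (k : Fin NN) (u : Fin 4), ptL k u ∈ Fh.range := by
      intro k u
      obtain ⟨u', h⟩ := hFpt ((permOf NN p)⁻¹ k) 0
      rw [Equiv.Perm.coe_inv, Equiv.apply_symm_apply] at h
      have hstep : ∀ n : Fin 4, ptL k (u' + n) ∈ Fh.range := by
        have s : ∀ v, ptL k v ∈ Fh.range → ptL k (v + 1) ∈ Fh.range := by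
          rintro v ⟨w, hw⟩
          exact ⟨ruI w, by rw [← ruI_ptL, ← hw]; exact hI w⟩
        have h0 : ptL k u' ∈ Fh.range := ⟨_, h⟩
        intro n
        fin_cases n
        · simpa using h0
        · exact s _ h0
        · have := s _ (s _ h0); rwa [add_assoc] at this
        · have := s _ (s _ (s _ h0)); rwa [add_assoc, add_assoc] at this
      have := hstep (u - u')
      rwa [add_sub_cancel] at this
    intro w
    have : ∀ z : RuVec, z ∈ AddSubgroup.closure minSet → ∃ v, (F v : RuVec) = z := by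
      intro z hz
      induction hz using AddSubgroup.closure_induction with
      | mem z hz =>
        obtain ⟨k, u, rfl⟩ := hz
        obtain ⟨v, hv⟩ := hall k u
        exact ⟨v, congrArg Subtype.val hv⟩
      | zero => exact ⟨0, congrArg Subtype.val (map_zero Fh)⟩
      | add a b _ _ iha ihb =>
        obtain ⟨v, rfl⟩ := iha
        obtain ⟨v', rfl⟩ := ihb
        exact ⟨v + v', congrArg Subtype.val (hadd v v')⟩
      | neg a _ iha =>
        obtain ⟨v, rfl⟩ := iha
        exact ⟨-v, congrArg Subtype.val (map_neg Fh v)⟩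
    obtain ⟨v, hv⟩ := this _ (lattice_le w.2)
    exact ⟨v, Subtype.ext hv⟩
  refine ⟨⟨Equiv.ofBijective F ⟨hFinj, hFsurj⟩, hadd, hI, fun v => ?_⟩, fun k => ?_⟩
  swap
  · obtain ⟨-, hu, he⟩ := img_spec hC him k.2
    refine ⟨hu, fun u hu' => huniq _ _ ?_⟩
    rw [enc_ptL, enc_ptL, show ((0 : Fin 4) : ℕ) = 0 from rfl, he, ← rep_permOf hi k, hu']
  rw [ruNorm_eq, ruNorm_eq]
  exact hdot v v

/-- The tables of the three generators. -/
noncomputable def gens : List (PT × PT) := [p2, p4, p6]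

/-- Their units. -/
noncomputable def gUnits : List PT := [unitSg, unitSh, unitA]

theorem exists_gen (i : Fin 3) : ∃ f : fourRu, ∀ k : Fin NN,
    get (gUnits.getD i (PT.leaf 0)) k < 4 ∧ ∀ u : Fin 4, (u : ℕ) = get (gUnits.getD i (PT.leaf 0)) k →
      (f : Equiv.Perm ruLattice) (ptL k 0) = ptL (permOf NN (gens.getD i p2) k) u := by
  fin_cases i
  · exact exists_aut_units (by norm_num) colsSg_ok orthSg_ok commSg_ok inv2 imgsSg_ok
  · exact exists_aut_units (by norm_num) colsSh_ok orthSh_ok commSh_ok inv4 imgsSh_ok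
  · exact exists_aut_units (by norm_num) colsA_ok orthA_ok commA_ok inv6 imgsA_ok

theorem gens_inv (i : Fin 3) : invOK NN (gens.getD i p2) = true := by
  fin_cases i
  exacts [inv2, inv4, inv6]

/-- The automorphism of a generator. -/
noncomputable def gAut (i : Fin 3) : fourRu := (exists_gen i).choose

/-- The automorphism of a letter. -/
noncomputable def lift (i : ℕ) : fourRu :=
  if h : i / 2 < 3 then (if i % 2 = 0 then gAut ⟨i / 2, h⟩ else (gAut ⟨i / 2, h⟩)⁻¹) else 1

/-- The automorphism of a word. -/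
noncomputable def liftW (w : List ℕ) : fourRu := (w.map lift).prod

/-- One letter on a unit multiple. -/
noncomputable def step (i : ℕ) (s : ℕ × ℕ) : ℕ × ℕ :=
  bif Nat.beq (i % 2) 0 then
    (get (TT₀.getD i (PT.leaf 0)) s.1, (s.2 + get (gUnits.getD (i / 2) (PT.leaf 0)) s.1) % 4)
  else force (get (TT₀.getD i (PT.leaf 0)) s.1) fun j =>
    (j, (s.2 + (4 - get (gUnits.getD (i / 2) (PT.leaf 0)) j)) % 4)
where
  /-- the six tables -/
  TT₀ : List PT := tabs [p2, p4, p6]

/-- A word on a unit multiple, the last letter first. -/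
noncomputable def run : List ℕ → ℕ × ℕ → ℕ × ℕ
  | [], s => s
  | i :: w, s => step i (run w s)

theorem ptL_shift (f : fourRu) {k k' : Fin NN} {u : Fin 4}
    (h : (f : Equiv.Perm ruLattice) (ptL k 0) = ptL k' u) :
    ∀ v : Fin 4, (f : Equiv.Perm ruLattice) (ptL k v) = ptL k' (v + u) := by
  have s : ∀ v : Fin 4, (f : Equiv.Perm ruLattice) (ptL k v) = ptL k' (v + u) →
      (f : Equiv.Perm ruLattice) (ptL k (v + 1)) = ptL k' (v + 1 + u) := by
    intro v hv
    rw [← ruI_ptL, f.2.2.1, hv, ruI_ptL, add_right_comm]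
  have h0 : (f : Equiv.Perm ruLattice) (ptL k 0) = ptL k' (0 + u) := by rw [zero_add]; exact h
  intro v
  fin_cases v
  exacts [h0, s 0 h0, s 1 (s 0 h0), s 2 (s 1 (s 0 h0))]

theorem gAut_ptL (i : Fin 3) (k : Fin NN) (v : Fin 4) :
    ∃ k' : Fin NN, ∃ u : Fin 4, (k' : ℕ) = get (gens.getD i p2).1 k ∧
      (u : ℕ) = get (gUnits.getD i (PT.leaf 0)) k ∧
      ((gAut i : fourRu) : Equiv.Perm ruLattice) (ptL k v) = ptL k' (v + u) := by
  obtain ⟨hu, h⟩ := (exists_gen i).choose_spec k
  exact ⟨_, ⟨_, hu⟩, rep_permOf (gens_inv i) k, rfl, ptL_shift _ (h ⟨_, hu⟩ rfl) v⟩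

theorem tab_eq : ∀ i : Fin 3, (step.TT₀.getD (2 * (i : ℕ)) (PT.leaf 0) = (gens.getD i p2).1) ∧
    (step.TT₀.getD (2 * (i : ℕ) + 1) (PT.leaf 0) = (gens.getD i p2).2) := by
  intro i
  fin_cases i <;> exact ⟨rfl, rfl⟩

theorem lift_ptL {i : ℕ} (hi : i < 6) (k : Fin NN) (v : Fin 4) :
    ∃ (k' : Fin NN) (v' : Fin 4), step i (k, v) = ((k' : ℕ), (v' : ℕ)) ∧
      ((lift i : fourRu) : Equiv.Perm ruLattice) (ptL k v) = ptL k' v' := by
  have h3 : i / 2 < 3 := by omega
  by_cases he : i % 2 = 0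
  · obtain ⟨k', u, hk, hu, h⟩ := gAut_ptL ⟨i / 2, h3⟩ k v
    refine ⟨k', v + u, ?_, by rw [lift, dif_pos h3, if_pos he]; exact h⟩
    have ht := (tab_eq ⟨i / 2, h3⟩).1
    simp only [show 2 * (i / 2) = i by omega] at ht
    rw [step, he, show Nat.beq 0 0 = true from rfl, cond_true, ht, Fin.val_add, ← hk, ← hu]
  · have ht := (tab_eq ⟨i / 2, h3⟩).2
    simp only [show 2 * (i / 2) + 1 = i by omega] at ht
    have hinv := gens_inv ⟨i / 2, h3⟩
    let j : Fin NN := (permOf NN (gens.getD (i / 2) p2))⁻¹ k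
    have hj : (j : ℕ) = get (gens.getD (i / 2) p2).2 k := rep_permOf_inv hinv k
    obtain ⟨k', u, hk, hu, -⟩ := gAut_ptL ⟨i / 2, h3⟩ j 0
    have hk' : k' = k := Fin.ext (hk.trans ((rep_permOf hinv j).symm.trans
      (congrArg Fin.val (Equiv.apply_symm_apply _ k))))
    obtain ⟨k'', u', hk2, hu2, h2⟩ := gAut_ptL ⟨i / 2, h3⟩ j (v - u)
    obtain rfl : k'' = k' := Fin.ext (hk2.trans hk.symm)
    obtain rfl : u' = u := Fin.ext (hu2.trans hu.symm)
    refine ⟨j, v - u', ?_, ?_⟩
    · rw [step, show i % 2 = 1 by omega, show Nat.beq 1 0 = false from rfl, cond_false, force_eq,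
        ht, ← hj, ← hu]
      refine Prod.ext rfl ?_
      simp only [Fin.val_sub]
      omega
    · rw [lift, dif_pos h3, if_neg he]
      rw [sub_add_cancel, hk'] at h2
      rw [← h2]
      exact Equiv.symm_apply_apply _ _

theorem liftW_ptL : ∀ (w : List ℕ), (∀ i ∈ w, i < 6) → ∀ (k : Fin NN) (v : Fin 4),
    ∃ (k' : Fin NN) (v' : Fin 4), run w (k, v) = ((k' : ℕ), (v' : ℕ)) ∧
      ((liftW w : fourRu) : Equiv.Perm ruLattice) (ptL k v) = ptL k' v'
  | [], _, k, v => ⟨k, v, rfl, rfl⟩
  | i :: w, hw, k, v => by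
    obtain ⟨k1, v1, h1, h1'⟩ := liftW_ptL w (fun j hj => hw j (List.mem_cons_of_mem _ hj)) k v
    obtain ⟨k2, v2, h2, h2'⟩ := lift_ptL (hw i List.mem_cons_self) k1 v1
    refine ⟨k2, v2, by rw [run, h1, h2], ?_⟩
    rw [liftW, List.map_cons, List.prod_cons, ← liftW, Subgroup.coe_mul, Equiv.Perm.mul_apply, h1', h2']

/-- The projection onto the group of permutations of the lines. -/
noncomputable def τ : fourRu →* RuMultBase40.G :=
  act.codRestrict GG fun f => range_eq ▸ ⟨f, rfl⟩

theorem τ_lift {i : ℕ} (hi : i < 6) : τ (lift i) = RuMultBase40.el i := by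
  refine Subtype.ext (Equiv.ext fun k => Fin.ext ?_)
  obtain ⟨k', v', h, h'⟩ := lift_ptL hi k 0
  show ((act (lift i)) k : ℕ) = _
  rw [act_apply, lineMap_eq (u := 0) (u' := v') h']
  have hlen : i < RuMultBase40.TT.length := by
    show i < 24
    omega
  rw [show RuMultBase40.el i = (RuMultBase40.exists_el i).choose from rfl,
    (RuMultBase40.exists_el i).choose_spec hlen k]
  have e := congrArg Prod.fst h
  have ht : RuMultBase40.TT.getD i (PT.leaf 0) = step.TT₀.getD i (PT.leaf 0) := by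
    interval_cases i <;> rfl
  rw [ht]
  simp only [step] at e
  cases hb : Nat.beq (i % 2) 0 <;> rw [hb] at e <;>
    simp only [cond_true, cond_false, force_eq] at e <;> exact e.symm

theorem τ_liftW : ∀ w : List ℕ, (∀ i ∈ w, i < 6) → τ (liftW w) = RuMultBase40.ev w
  | [], _ => map_one τ
  | i :: w, hw => by
    rw [liftW, List.map_cons, List.prod_cons, map_mul, τ_lift (hw i List.mem_cons_self), ← liftW,
      τ_liftW w (fun j hj => hw j (List.mem_cons_of_mem _ hj)), RuMultBase40.ev_cons]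

open RuMultData40

theorem pair_ok : RuMultBase40.eqW (wA ++ wB) (wB ++ wA) = true ∧
    (wA ++ wB).all (fun i => decide (i < 6)) = true ∧
    Nat.beq (run (wA ++ wB) (0, 0)).2 (run (wB ++ wA) (0, 0)).2 = false := by
  decide +kernel

theorem mult_ne_bot : SchurMultiplierCover.mult RuMultBase40.G ≠ ⊥ := by
  have hc : τ.ker ≤ Subgroup.center fourRu := by
    intro f hf
    rw [center_eq]
    exact congrArg Subtype.val (MonoidHom.mem_ker.1 hf)
  have hs : Function.Surjective τ := fun g => by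
    obtain ⟨f, hf⟩ : (g : Equiv.Perm (Fin NN)) ∈ act.range := range_eq.symm ▸ g.2
    exact ⟨f, Subtype.ext hf⟩
  have hlt : ∀ i ∈ wA ++ wB, i < 6 := fun i hi => by simpa using List.all_eq_true.1 pair_ok.2.1 i hi
  have hA : ∀ i ∈ wA, i < 6 := fun i hi => hlt i (List.mem_append_left _ hi)
  have hB : ∀ i ∈ wB, i < 6 := fun i hi => hlt i (List.mem_append_right _ hi)
  have hne : liftW wA * liftW wB ≠ liftW wB * liftW wA := by
    intro h
    obtain ⟨k1, v1, e1, h1⟩ := liftW_ptL (wA ++ wB) hlt ⟨0, by norm_num⟩ 0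
    obtain ⟨k2, v2, e2, h2⟩ := liftW_ptL (wB ++ wA)
      (fun i hi => hlt i (by simpa [or_comm] using hi)) ⟨0, by norm_num⟩ 0
    have hm : ∀ u w : List ℕ, liftW (u ++ w) = liftW u * liftW w := fun u w => by simp [liftW]
    rw [hm, h, ← hm, h2] at h1
    have h4 : (v2 : ℕ) = (v1 : ℕ) := congrArg Fin.val (ptL_injective h1).2
    have h5 := pair_ok.2.2
    change run (wA ++ wB) (0, 0) = _ at e1
    change run (wB ++ wA) (0, 0) = _ at e2
    rw [e1, e2] at h5
    simp [h4] at h5
  intro hbot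
  obtain ⟨Φ, hΦ⟩ := SchurMultiplierCover.exists_lift τ hs hc (MonoidHom.id RuMultBase40.G)
  rw [MonoidHom.id_comp] at hΦ
  have hab : RuMultBase40.ev wA * RuMultBase40.ev wB = RuMultBase40.ev wB * RuMultBase40.ev wA := by
    have := RuMultBase40.ev_eq pair_ok.1
    rwa [RuMultBase40.ev_append, RuMultBase40.ev_append] at this
  set a := RuMultBase40.ev wA with ha
  set b := RuMultBase40.ev wB with hb
  have hm : ⁅SchurMultiplierCover.gen _ a, SchurMultiplierCover.gen _ b⁆ ∈
      SchurMultiplierCover.mult RuMultBase40.G := by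
    refine ⟨?_, Subgroup.commutator_mem_commutator (Subgroup.mem_top _) (Subgroup.mem_top _)⟩
    show SchurMultiplierCover.proj _ _ = 1
    rw [map_commutatorElement, SchurMultiplierCover.proj_gen, SchurMultiplierCover.proj_gen,
      commutatorElement_eq_one_iff_mul_comm, hab]
  rw [hbot, Subgroup.mem_bot] at hm
  have hlift : ∀ g : RuMultBase40.G, ∀ f : fourRu, τ f = g →
      ∃ z ∈ Subgroup.center fourRu, Φ (SchurMultiplierCover.gen _ g) = f * z := fun g f hf =>
    ⟨f⁻¹ * Φ (SchurMultiplierCover.gen _ g), hc (by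
      rw [MonoidHom.mem_ker, map_mul, map_inv, ← MonoidHom.comp_apply τ Φ, hΦ,
        SchurMultiplierCover.proj_gen, hf, inv_mul_cancel]), by group⟩
  obtain ⟨za, hza, ea⟩ := hlift a (liftW wA) (τ_liftW wA hA)
  obtain ⟨zb, hzb, eb⟩ := hlift b (liftW wB) (τ_liftW wB hB)
  have h1 := congrArg Φ hm
  rw [map_one, map_commutatorElement, ea, eb,
    SchurMultiplierCover.commutatorElement_mul_center hza hzb,
    commutatorElement_eq_one_iff_mul_comm] at h1
  exact hne h1

end Cfsg.Agent.RuMultLower40
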