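import Cfsg.Agent.Lib.RuMultUpper40
import Cfsg.Agent.Lib.RuMultLower40
import Cfsg.Agent.Lib.SchurMultiplierCover

/-!
The multiplier of the Rudvalis group has order two.
-/

set_option autoImplicit false

namespace Cfsg.Agent.RuMultFinal40

open Cfsg.Agent.RuMultBase40 (G)

/-- The multiplier of the permutation group. -/
theorem card_mult : Nat.card (SchurMultiplierCover.mult ↥G) = 2 := by
  obtain ⟨Γ, _, _, σ, hσ, ⟨e⟩, -⟩ :=
    SchurMultiplierCover.exists_cover_over (SchurMultiplierBasic.stem_id (G := ↥G))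
  have hle : Nat.card (SchurMultiplierCover.mult ↥G) ≤ 2 :=
    (Nat.card_congr e.toEquiv).symm.trans_le (RuMultUpper40.card_ker_le σ hσ)
  have hne : Nat.card (SchurMultiplierCover.mult ↥G) ≠ 1 := fun h =>
    RuMultLower40.mult_ne_bot (Subgroup.eq_bot_of_card_eq _ h)
  have hpos : 0 < Nat.card (SchurMultiplierCover.mult ↥G) := Nat.card_pos
  omega

/-- The multiplier of the Rudvalis group. -/
theorem multiplier_Ru : Cfsg.HasCyclicSchurMultiplier Cfsg.Spor.Ru 2 := by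
  obtain ⟨e⟩ := RuAction66.nonempty_equiv
  haveI := Fact.mk Nat.prime_two
  have hP : Cfsg.HasSchurMultiplier ↥G (Multiplicative (ZMod 2)) :=
    SchurMultiplierCover.hasSchurMultiplier_of_equiv
      (mulEquivOfPrimeCardEq (p := 2) (by simp) card_mult)
  obtain ⟨⟨Γ, _, _, σ, hσ, ⟨k⟩⟩, hall⟩ := hP
  refine ⟨⟨Γ, inferInstance, inferInstance, e.symm.toMonoidHom.comp σ, ?_, ?_⟩, ?_⟩
  · have hk : (e.symm.toMonoidHom.comp σ).ker = σ.ker :=
      MonoidHom.ker_mulEquiv_comp σ e.symm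
    exact ⟨e.symm.surjective.comp hσ.1, hk.trans_le hσ.2.1, hk.trans_le hσ.2.2⟩
  · exact ⟨(MulEquiv.subgroupCongr (MonoidHom.ker_mulEquiv_comp σ e.symm)).trans k⟩
  · intro Δ _ _ τ hτ
    have hk : (e.toMonoidHom.comp τ).ker = τ.ker := MonoidHom.ker_mulEquiv_comp τ e
    obtain ⟨π, hπ⟩ := hall Δ (e.toMonoidHom.comp τ)
      ⟨e.surjective.comp hτ.1, hk.trans_le hτ.2.1, hk.trans_le hτ.2.2⟩
    exact ⟨(MulEquiv.subgroupCongr hk).toMonoidHom.comp π,
      (MulEquiv.subgroupCongr hk).surjective.comp hπ⟩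

end Cfsg.Agent.RuMultFinal40
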