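import Cfsg.Agent.Lib.RuOutDefs76

/-! A centraliser for the outer automorphism group. -/

set_option autoImplicit false
set_option maxRecDepth 100000
set_option Elab.async false

namespace Cfsg.Agent.RuOutCentX76

open RuPermCert66 RuPermData66 RuSift76 RuOutData76 RuOutChecks76

theorem cent_ok : centOK NN p8.1 LX 0 (tabs [p8]) centX candX = true := by decide +kernel

end Cfsg.Agent.RuOutCentX76
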