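import Cfsg.Agent.Lib.RuOutChecks76
import Cfsg.Agent.Lib.RuOutCentX76
import Cfsg.Agent.Lib.RuOutCentU76
import Cfsg.Agent.Lib.RuAction66
import Cfsg.Agent.Lib.LeechOutCrit

/-!
The outer automorphism group of the group of the 4060 lines is trivial.
-/

set_option autoImplicit false
set_option maxRecDepth 100000

namespace Cfsg.Agent.RuOut76

open Cfsg Cfsg.Agent.GolayOutGen RuPermCert66 RuPermData66 RuPermGroup66 RuSift76 RuOutData76
  RuOutChecks76

theorem inv_new {q : PT × PT}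
    (h : q ∈ [xq20, xq21, xq30, xq31, uq20, uq21, uq30, uq31, qy, qz, qt]) : invOK NN q = true :=
  List.all_eq_true.mp invs q h

theorem mem_p8 : permOf NN p8 ∈ GG := ga_mem
theorem mem_p10 : permOf NN p10 ∈ GG := gb_mem

theorem tabs_a : ∀ t ∈ tabs [p8, p10], ∃ σ ∈ GG, Rep σ t := pair_tabs inv8 inv10 mem_p8 mem_p10

theorem tabs_b : ∀ t ∈ tabs [p12, p14], ∃ σ ∈ GG, Rep σ t :=
  pair_tabs inv12 inv14 (ab_le mem12) (ab_le mem14)

theorem tabs_ab4 : ∀ t ∈ tabs [p8, p10, p12, p14], ∃ σ ∈ GG, Rep σ t :=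
  exists_tabs (inv_list (by simp [inv8, inv10, inv12, inv14]))
    (by simp [mem_p8, mem_p10, ab_le mem12, ab_le mem14])

theorem mxq20 : permOf NN xq20 ∈ GG := permOf_mem tabs_b (inv_new (by simp)) defxq20
theorem mxq21 : permOf NN xq21 ∈ GG := permOf_mem tabs_b (inv_new (by simp)) defxq21
theorem muq20 : permOf NN uq20 ∈ GG := permOf_mem tabs_b (inv_new (by simp)) defuq20
theorem muq21 : permOf NN uq21 ∈ GG := permOf_mem tabs_b (inv_new (by simp)) defuq21

theorem tabs_x2 : ∀ t ∈ tabs [xq20, xq21], ∃ σ ∈ GG, Rep σ t :=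
  pair_tabs (inv_new (by simp)) (inv_new (by simp)) mxq20 mxq21

theorem tabs_u2 : ∀ t ∈ tabs [uq20, uq21], ∃ σ ∈ GG, Rep σ t :=
  pair_tabs (inv_new (by simp)) (inv_new (by simp)) muq20 muq21

theorem tabs_x3 : ∀ t ∈ tabs [xq30, xq31], ∃ σ ∈ GG, Rep σ t :=
  pair_tabs (inv_new (by simp)) (inv_new (by simp))
    (permOf_mem tabs_x2 (inv_new (by simp)) defxq30) (permOf_mem tabs_x2 (inv_new (by simp)) defxq31)

theorem tabs_u3 : ∀ t ∈ tabs [uq30, uq31], ∃ σ ∈ GG, Rep σ t :=
  pair_tabs (inv_new (by simp)) (inv_new (by simp))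
    (permOf_mem tabs_u2 (inv_new (by simp)) defuq30) (permOf_mem tabs_u2 (inv_new (by simp)) defuq31)

theorem levels_x : ∀ l ∈ LX, ∀ t ∈ l.tab, ∃ σ ∈ GG, Rep σ t := by
  simp only [LX, List.forall_mem_cons, List.not_mem_nil, IsEmpty.forall_iff, implies_true, and_true]
  exact ⟨tabs_a, tabs_b, tabs_x2, tabs_x3⟩

theorem levels_u : ∀ l ∈ LU, ∀ t ∈ l.tab, ∃ σ ∈ GG, Rep σ t := by
  simp only [LU, List.forall_mem_cons, List.not_mem_nil, IsEmpty.forall_iff, implies_true, and_true]
  exact ⟨tabs_a, tabs_b, tabs_u2, tabs_u3⟩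

theorem mem_qy : permOf NN qy ∈ GG := permOf_mem tabs_ab4 (inv_new (by simp)) defqy
theorem mem_qz : permOf NN qz ∈ GG := permOf_mem tabs_ab4 (inv_new (by simp)) defqz

theorem tabs_yz : ∀ t ∈ tabs [qy, qz], ∃ σ ∈ GG, Rep σ t :=
  pair_tabs (inv_new (by simp)) (inv_new (by simp)) mem_qy mem_qz

/-- The element of order 29. -/
noncomputable def X : GG := ⟨permOf NN p8, mem_p8⟩
/-- The element normalising it. -/
noncomputable def Y : GG := ⟨permOf NN qy, mem_qy⟩
/-- The involution. -/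
noncomputable def Z : GG := ⟨permOf NN qz, mem_qz⟩

theorem rX : Rep (X : Equiv.Perm (Fin NN)) p8.1 := rep_permOf inv8
theorem rY : Rep (Y : Equiv.Perm (Fin NN)) qy.1 := rep_permOf (inv_new (by simp))
theorem rZ : Rep (Z : Equiv.Perm (Fin NN)) qz.1 := rep_permOf (inv_new (by simp))

/-- The generators and their inverses. -/
noncomputable def E6 (i : ℕ) : GG := [X, X⁻¹, Y, Y⁻¹, Z, Z⁻¹].getD i 1

theorem rE6 (i : ℕ) (hi : i < 6) : Rep (E6 i : Equiv.Perm (Fin NN)) (TX.getD i (PT.leaf 0)) := by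
  interval_cases i
  exacts [rX, rep_permOf_inv inv8, rY, rep_permOf_inv (inv_new (by simp)), rZ,
    rep_permOf_inv (inv_new (by simp))]

/-- The element of a word, the first letter applied first. -/
noncomputable def el : List ℕ → GG
  | [] => 1
  | i :: w => el w * E6 i

theorem el_app : ∀ u v : List ℕ, el (u ++ v) = el v * el u
  | [], v => by simp [el]
  | i :: u, v => by rw [List.cons_append, el, el, el_app u v, mul_assoc]

theorem el_rep : ∀ (w : List ℕ), (∀ i ∈ w, i < 6) → ∀ k : Fin NN,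
    ((el w : Equiv.Perm (Fin NN)) k : ℕ) = ev TX w k
  | [], _, k => rfl
  | i :: w, h, k => by
    rw [el, Subgroup.coe_mul, Equiv.Perm.mul_apply, el_rep w (fun j hj => h j (List.mem_cons_of_mem _ hj)),
      rE6 i (h i List.mem_cons_self), ev, force_eq]

theorem el_eq {u v : List ℕ} (hu : ∀ i ∈ u, i < 6) (hv : ∀ i ∈ v, i < 6)
    (h : allBelow (fun k => Nat.beq (ev TX u k) (ev TX v k)) 4060 = true) : el u = el v :=
  Subtype.ext (Equiv.ext fun k => Fin.ext (by
    rw [el_rep u hu, el_rep v hv]; exact Nat.eq_of_beq_eq_true (allBelow_spec h k k.2)))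

theorem el_replicate : ∀ n : ℕ, el (List.replicate n 0) = X ^ n
  | 0 => rfl
  | n + 1 => by
    rw [List.replicate_succ, el, el_replicate n, pow_succ]; rfl

theorem el_one_letter (i : ℕ) : el [i] = E6 i := by simp [el]

theorem smalls : (∀ i ∈ wb, i < 6) ∧
    allBelow (fun k => Nat.beq (ev TX wb k) (get p10.1 k)) 4060 = true ∧
    allBelow (fun k => Nat.beq (ev TX [0, 2] k) (ev TX [2, 0, 0, 0, 0] k)) 4060 = true ∧
    allBelow (fun k => Nat.beq (ev TX [2, 0] k) (ev TX (List.replicate 22 0 ++ [2]) k)) 4060 = true ∧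
    allBelow (fun k => Nat.beq (ev TX [4, 2, 2] k) (ev TX [2, 2, 4] k)) 4060 = true ∧
    allBelow (fun k => Nat.beq (ev TX [2, 2] k) (get qt.1 k)) 4060 = true ∧
    get p8.1 0 ≠ 0 := by
  have h := small
  simp only [smallOK, Bool.and_eq_true, List.all_eq_true, Nat.blt_eq, Bool.not_eq_true'] at h
  obtain ⟨⟨⟨⟨⟨⟨h1, h2⟩, h3⟩, h4⟩, h5⟩, h6⟩, h7⟩ := h
  exact ⟨h1, h2, h3, h4, h5, h6, fun e => by rw [e] at h7; exact Bool.false_ne_true (h7.symm.trans rfl)⟩

theorem rel_yx : Y * X = X ^ 4 * Y := by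
  have h := el_eq (by simp) (by simp) smalls.2.2.1
  simpa [el, E6, pow_succ, mul_assoc] using h

theorem rel_xy : X * Y = Y * X ^ 22 := by
  have h := el_eq (u := [2, 0]) (v := List.replicate 22 0 ++ [2]) (by simp) (by
    intro i hi
    rcases List.mem_append.mp hi with hi | hi
    · rw [List.eq_of_mem_replicate hi]; norm_num
    · rw [List.mem_singleton.mp hi]; norm_num) smalls.2.2.2.1
  rw [el_app, el_replicate] at h
  simpa [el, E6] using h

/-- The element of order seven. -/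
noncomputable def T : GG := Y * Y

theorem rel_zt : Z * T = T * Z := by
  have h := el_eq (by simp) (by simp) smalls.2.2.2.2.1
  simpa [el, E6, T, mul_assoc] using h.symm

theorem rT : Rep (T : Equiv.Perm (Fin NN)) qt.1 := fun k => by
  have h := el_rep [2, 2] (by simp) k
  rw [Nat.eq_of_beq_eq_true (allBelow_spec smalls.2.2.2.2.2.1 k k.2)] at h
  rw [← h]
  simp [el, E6, T]

theorem X_pow : X ^ 29 = 1 := by
  have h29 := pow29_ok
  simp only [List.all_cons, List.all_nil, Bool.and_true, Bool.and_eq_true] at h29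
  exact Subtype.ext (by rw [Subgroup.coe_pow]; exact pow_eq_one inv8 h29.1)

theorem X_order : orderOf X = 29 := by
  haveI : Fact (Nat.Prime 29) := ⟨by norm_num⟩
  refine orderOf_eq_prime X_pow fun e => smalls.2.2.2.2.2.2 ?_
  have := rX o0
  rw [e] at this
  exact this.symm

theorem cent_X (g : GG) (hg : Commute g X) : ∃ k : ℕ, g = X ^ k := by
  obtain ⟨k, hk, hrep⟩ := cent chainX_ok.1 levels_x
    (le_of_eq (RuAction66.card_GG.trans chainX_ok.2.symm)) rX
    (exists_tabs (inv_list (by simp [inv8])) (by simp [mem_p8])) RuOutCentX76.cent_ok g.2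
    (congrArg Subtype.val hg.eq)
  refine ⟨k, ?_⟩
  simp only [centX, List.length_map, List.length_range] at hk
  rw [← el_replicate]
  refine Subtype.ext (Equiv.ext fun j => Fin.ext ?_)
  rw [hrep j, el_rep _ (fun i hi => by rw [List.eq_of_mem_replicate hi]; norm_num),
    show centX.getD k [] = List.replicate k 0 by simp [centX, List.getD, hk]]
  have : ∀ (n : ℕ) (a : ℕ), ev (tabs [p8]) (List.replicate n 0) a = ev TX (List.replicate n 0) a := by
    intro n
    induction n with
    | zero => intro a; rfl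
    | succ n ih =>
      intro a
      rw [List.replicate_succ, ev, ev, force_eq, force_eq, ih]
      rfl
  exact this k j

/-- A candidate for the image of the involution. -/
noncomputable def cT (k : ℕ) : GG := el ((centW.getD k []).map fun l => l + 2)

theorem cent_T (g : GG) (hg : Commute g T) : ∃ k < 28, g = cT k := by
  have hsep := RuOutCentU76.cent_ok
  obtain ⟨k, hk, hrep⟩ := cent chainU_ok.1 levels_u
    (le_of_eq (RuAction66.card_GG.trans chainU_ok.2.symm)) rT tabs_yz hsep g.2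
    (congrArg Subtype.val hg.eq)
  rw [cent_len.1] at hk
  refine ⟨k, hk, ?_⟩
  simp only [centOK, Bool.and_eq_true] at hsep
  have hw : ∀ l ∈ centW.getD k [], l < 4 := by
    have := (Bool.and_eq_true_iff.mp (List.all_eq_true.mp hsep.1.2 (centW.getD k []) (by
      rw [List.getD_eq_getElem _ _ (by rw [cent_len.1]; exact hk)]; exact List.getElem_mem _))).1
    intro l hl
    have h4 := List.all_eq_true.mp this l hl
    rw [Nat.blt_eq] at h4
    exact h4
  refine Subtype.ext (Equiv.ext fun j => Fin.ext ?_)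
  rw [hrep j, cT, el_rep _ (fun i hi => by
    obtain ⟨l, hl, rfl⟩ := List.mem_map.mp hi
    have := hw l hl; omega)]
  have : ∀ (w : List ℕ), (∀ l ∈ w, l < 4) → ∀ a : ℕ,
      ev (tabs [qy, qz]) w a = ev TX (w.map fun l => l + 2) a := by
    intro w
    induction w with
    | nil => intro _ a; rfl
    | cons l w ih =>
      intro hl a
      rw [List.map_cons, ev, ev, force_eq, force_eq, ih fun i hi => hl i (List.mem_cons_of_mem _ hi)]
      rfl
  exact this _ hw j

theorem closure_gens : Subgroup.closure ({X, Y, Z} : Set GG) = ⊤ := by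
  set K := Subgroup.closure ({X, Y, Z} : Set GG)
  have hE : ∀ i < 6, E6 i ∈ K := by
    have hx : X ∈ K := Subgroup.subset_closure (by simp)
    have hy : Y ∈ K := Subgroup.subset_closure (by simp)
    have hz : Z ∈ K := Subgroup.subset_closure (by simp)
    intro i hi
    interval_cases i
    exacts [hx, inv_mem hx, hy, inv_mem hy, hz, inv_mem hz]
  have hel : ∀ w : List ℕ, (∀ i ∈ w, i < 6) → el w ∈ K := by
    intro w
    induction w with
    | nil => intro _; exact one_mem _
    | cons i w ih =>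
      intro h
      exact mul_mem (ih fun j hj => h j (List.mem_cons_of_mem _ hj)) (hE i (h i List.mem_cons_self))
  have hab : AB = GG := Subgroup.eq_of_le_of_card_ge ab_le (RuAction66.card_GG ▸ le_card_ab)
  rw [eq_top_iff]
  rintro ⟨g, hg⟩ -
  have hle : AB ≤ K.map GG.subtype := by
    refine (Subgroup.closure_le _).mpr ?_
    rintro x (rfl | rfl)
    · exact ⟨X, hE 0 (by norm_num), rfl⟩
    · refine ⟨el wb, hel _ smalls.1, Equiv.ext fun j => Fin.ext ?_⟩
      show ((el wb : Equiv.Perm (Fin NN)) j : ℕ) = _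
      rw [el_rep _ smalls.1, Nat.eq_of_beq_eq_true (allBelow_spec smalls.2.1 j j.2)]
      exact (rep_permOf inv10 j).symm
  obtain ⟨u, hu, hug⟩ := hle (hab ▸ hg)
  rwa [show (⟨g, hg⟩ : GG) = u from Subtype.ext hug.symm]

/-- Normal form of an automorphism. -/
theorem normal (φ : MulAut GG) : ∃ ψ, Sim φ ψ ∧ ∃ j, (j = 1 ∨ j = 2) ∧ ψ X = X ^ j ∧ ψ Y = Y := by
  obtain ⟨ψ, hψ, i, hi, hi0, hix⟩ := exists_sim_pow (p := 29) (m := 5031936000) (by norm_num)
    (by norm_num) (by rw [RuAction66.card_GG]) X_order φ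
  have key : ∀ k : ℕ, ∀ e : ℕ, Y ^ k * X ^ e * (Y ^ k)⁻¹ = X ^ (e * 4 ^ k) := by
    intro k
    induction k with
    | zero => intro e; simp
    | succ k ih =>
      intro e
      have h1 : Y * X ^ e * Y⁻¹ = X ^ (e * 4) := by
        rw [(SemiconjBy.pow_right rel_yx e : Y * X ^ e = (X ^ 4) ^ e * Y), mul_inv_cancel_right,
          ← pow_mul, mul_comm]
      rw [pow_succ, show Y ^ k * Y * X ^ e * (Y ^ k * Y)⁻¹ = Y ^ k * (Y * X ^ e * Y⁻¹) * (Y ^ k)⁻¹ by
        group, h1, ih]
      congr 1; ring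
  obtain ⟨k, -, hk⟩ := (by decide +kernel : ∀ i < 29, i = 0 ∨ ∃ k < 14, (i * 4 ^ k) % 29 = 1 ∨
    (i * 4 ^ k) % 29 = 2) i hi |>.resolve_left (by omega)
  obtain ⟨χ, hχ, hχe⟩ := sim_conj ψ (Y ^ k)
  set j := (i * 4 ^ k) % 29 with hj
  have hχx : χ X = X ^ j := by
    rw [hχe, hix, key, hj, ← pow_eq_pow_mod _ X_pow]
  have h2 : χ Y * X ^ j = X ^ (j * 4) * χ Y := by
    have := congrArg χ rel_yx
    rw [map_mul, map_mul, map_pow, hχx, ← pow_mul] at this
    exact this
  have hYj : Y * X ^ j = X ^ (j * 4) * Y := by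
    rw [(SemiconjBy.pow_right rel_yx j : Y * X ^ j = (X ^ 4) ^ j * Y), ← pow_mul, mul_comm 4 j]
  have hu : Commute (Y⁻¹ * χ Y) (X ^ j) := by
    show Y⁻¹ * χ Y * X ^ j = X ^ j * (Y⁻¹ * χ Y)
    rw [mul_assoc, h2, ← mul_assoc (X ^ j)]
    have : X ^ j * Y⁻¹ = Y⁻¹ * X ^ (j * 4) := by
      rw [eq_comm, inv_mul_eq_iff_eq_mul, ← mul_assoc, eq_mul_inv_iff_mul_eq]
      exact hYj.symm
    rw [this, mul_assoc]
  have hux : Commute (Y⁻¹ * χ Y) X := by
    obtain ⟨e, -, he⟩ := (by decide +kernel : ∀ j < 29, j = 0 ∨ ∃ e < 29, (j * e) % 29 = 1) j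
      (Nat.mod_lt _ (by norm_num)) |>.resolve_left (by omega)
    have := hu.pow_right e
    rwa [← pow_mul, pow_eq_pow_mod _ X_pow, he, pow_one] at this
  obtain ⟨l, hl⟩ := cent_X _ hux
  obtain ⟨i', -, hi'⟩ := (by decide +kernel : ∀ l < 29, ∃ i < 29, (i * 22 + l) % 29 = i) (l % 29)
    (Nat.mod_lt _ (by norm_num))
  obtain ⟨θ, hθ, hθe⟩ := sim_conj χ (X ^ i')
  refine ⟨θ, sim_trans (sim_trans hψ hχ) hθ, j, hk, ?_, ?_⟩
  · rw [hθe, hχx, ← pow_add, add_comm, pow_add, mul_inv_cancel_right]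
  · have hxy : ∀ n : ℕ, X ^ n * Y = Y * X ^ (n * 22) := by
      intro n
      induction n with
      | zero => simp
      | succ n ih =>
        rw [pow_succ, mul_assoc, rel_xy, ← mul_assoc, ih, mul_assoc, ← pow_add]
        congr 2; ring
    rw [hθe, show χ Y = Y * X ^ l by rw [← hl, mul_inv_cancel_left], ← mul_assoc, hxy, mul_assoc,
      mul_assoc, ← mul_assoc (X ^ (i' * 22)), ← pow_add, pow_eq_pow_mod (i' * 22 + l) X_pow,
      show (i' * 22 + l) % 29 = i' by rw [← Nat.add_mod_mod]; exact hi', mul_inv_cancel, mul_one]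

theorem map_el (ψ : MulAut GG) (f : ℕ → List ℕ) (hf : ∀ i < 3, ψ (E6 (2 * i)) = el (f i)) :
    ∀ w : List ℕ, (∀ i ∈ w, i < 3) → ψ (el (w.map fun i => 2 * i)) = el (sub f w)
  | [], _ => map_one ψ
  | i :: w, h => by
    rw [List.map_cons, el, map_mul, map_el ψ f hf w (fun j hj => h j (List.mem_cons_of_mem _ hj)),
      hf i (h i List.mem_cons_self)]
    exact (el_app (f i) (sub f w)).symm

theorem cT_zero : cT 0 = Z := by
  rw [cT, cent_len.2]
  exact el_one_letter 4

/-- The images of the generators are determined. -/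
theorem images {ψ : MulAut GG} {j : ℕ} (hj : j = 1 ∨ j = 2) (hX : ψ X = X ^ j) (hY : ψ Y = Y) :
    j = 1 ∧ ψ Z = Z := by
  have ht : Commute (ψ Z) T := by
    have h := congrArg ψ rel_zt
    simp only [T, map_mul, hY] at h
    exact h
  obtain ⟨k, hk, hZ⟩ := cent_T _ ht
  obtain ⟨b, hb, rfl⟩ : ∃ b < 2, j = b + 1 := ⟨j - 1, by omega, by omega⟩
  have hs := allBelow_spec (allBelow_spec sep_ok b hb) k hk
  simp only [Bool.or_eq_true, Bool.and_eq_true, Nat.beq_eq, Nat.blt_eq, Bool.not_eq_true',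
    List.all_eq_true] at hs
  rcases hs with ⟨rfl, rfl⟩ | ⟨⟨hr, hw⟩, hne⟩
  · exact ⟨rfl, hZ.trans cT_zero⟩
  exfalso
  set p := rels.getD ((sepT.getD b []).getD k 0) ([], 0) with hp
  have hpm : p ∈ rels := by rw [hp, List.getD_eq_getElem _ _ hr]; exact List.getElem_mem _
  have hreal := real_ok
  simp only [realOK, List.all_eq_true, Bool.and_eq_true, Nat.blt_eq] at hreal
  obtain ⟨hlet, hrel⟩ := hreal p hpm
  have hlL : ∀ i ∈ relL p, i < 3 := by
    intro i hi
    simp only [relL, List.mem_flatten] at hi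
    obtain ⟨l, hl, hil⟩ := hi
    rw [List.eq_of_mem_replicate hl] at hil
    exact hlet i hil
  have hl6 : ∀ i ∈ (relL p).map (fun i => 2 * i), i < 6 := by
    intro i hi
    obtain ⟨l, hl, rfl⟩ := List.mem_map.mp hi
    have := hlL l hl; omega
  have himg : ∀ i ∈ sub (img (b + 1) k) (relL p), i < 6 := by
    intro i hi
    simp only [sub, List.mem_flatMap] at hi
    obtain ⟨a, -, hia⟩ := hi
    simp only [img] at hia
    split at hia
    · rw [List.eq_of_mem_replicate hia]; norm_num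
    · split at hia
      · rw [List.mem_singleton.mp hia]; norm_num
      · obtain ⟨l, hl, rfl⟩ := List.mem_map.mp hia
        have := hw l hl; omega
  have e1 : el ((relL p).map fun i => 2 * i) = 1 := by
    refine Subtype.ext (Equiv.ext fun q => Fin.ext ?_)
    rw [el_rep _ hl6, Nat.eq_of_beq_eq_true (allBelow_spec hrel q q.2)]
    rfl
  have e2 := map_el ψ (img (b + 1) k) (fun i hi => by
    interval_cases i
    · show ψ X = el (List.replicate (b + 1) 0)
      rw [hX, el_replicate]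
    · show ψ Y = el [2]
      rw [hY, el_one_letter]; rfl
    · exact hZ) (relL p) hlL
  rw [e1, map_one] at e2
  have : allBelow (fun q => Nat.beq (ev TX (sub (img (b + 1) k) (relL p)) q) q) 4060 = true := by
    have hall : ∀ q : Fin NN, Nat.beq (ev TX (sub (img (b + 1) k) (relL p)) q) q = true := fun q => by
      rw [← el_rep _ himg, ← e2, Nat.beq_eq]; rfl
    have : ∀ n, n ≤ 4060 →
        allBelow (fun q => Nat.beq (ev TX (sub (img (b + 1) k) (relL p)) q) q) n = true := by
      intro n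
      induction n with
      | zero => intro _; rfl
      | succ n ih =>
        intro hn
        show (_ && allBelow _ n) = true
        rw [ih (by omega), Bool.and_true]
        exact hall ⟨n, show n < 4060 by omega⟩
    exact this 4060 le_rfl
  rw [hne] at this
  exact Bool.false_ne_true this

theorem card_out_GG : Nat.card (Out GG) = 1 := by
  refine card_out_eq_one closure_gens fun φ => ?_
  obtain ⟨ψ, hψ, j, hj, hX, hY⟩ := normal φ
  obtain ⟨rfl, hZ⟩ := images hj hX hY
  refine ⟨ψ, hψ, ?_⟩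
  rintro t (rfl | rfl | rfl)
  exacts [hX.trans (pow_one _), hY, hZ]

theorem card_out : Nat.card (Out Cfsg.Spor.Ru) = 1 := by
  obtain ⟨e⟩ := RuAction66.nonempty_equiv
  rw [LeechOutCrit.card_out_congr e]
  exact card_out_GG

end Cfsg.Agent.RuOut76
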