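import Cfsg.Agent.Lib.Ru2Facts76
import Cfsg.Agent.Lib.RuMultFinal40
import Cfsg.Agent.Lib.RuOut76

/-!
The double cover of the Rudvalis group: every perfect double cover is isomorphic to the derived
subgroup of the automorphism group of the lattice, and a standard subgroup of that shape with cyclic
centraliser Sylow 2-subgroups is normal.
-/

set_option autoImplicit false
set_option maxRecDepth 100000
set_option linter.style.haveILetI false

namespace Cfsg.Agent.Ru2Cover76

open Cfsg.Spor RuPermData66 RuPermGroup66 RuAction66 Ru2Facts76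
open scoped commutatorElement

universe u

theorem perfect_DD : commutator DD = ⊤ := by
  have hle : DD ≤ (commutator DD).map DD.subtype := by
    show commutator fourRu ≤ _
    rw [commutator_def, Subgroup.commutator_le]
    intro f _ g _
    have dec : ∀ x : fourRu, ∃ (d : DD) (c : fourRu), (∀ z, Commute c z) ∧ x = c * d := by
      intro x
      obtain ⟨d, hd, hde⟩ : act x ∈ DD.map act := map_DD ▸ range_eq ▸ ⟨x, rfl⟩
      have hker : x * d⁻¹ ∈ act.ker := by rw [MonoidHom.mem_ker, map_mul, map_inv, hde, mul_inv_cancel]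
      obtain ⟨m, hm⟩ := mem_ker_iff.mp hker
      exact ⟨⟨d, hd⟩, unitAut ^ (m : ℕ),
        fun z => (show Commute unitAut z from (unitAut_central z).symm).pow_left _,
        by rw [← hm, inv_mul_cancel_right]⟩
    obtain ⟨d, c, hc, rfl⟩ := dec f
    obtain ⟨d', c', hc', rfl⟩ := dec g
    refine ⟨⁅d, d'⁆, Subgroup.commutator_mem_commutator (Subgroup.mem_top _) (Subgroup.mem_top _), ?_⟩
    rw [map_commutatorElement, commutatorElement_def, commutatorElement_def]
    exact (comm_central hc hc').symm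
  rw [eq_top_iff]
  intro x _
  obtain ⟨y, hy, hyx⟩ := hle x.2
  rwa [← DD.subtype_injective hyx]

/-- The map to the permutations of the lines. -/
noncomputable def toGG : DD →* GG :=
  (act.comp DD.subtype).codRestrict GG fun d => range_eq ▸ ⟨(d : fourRu), rfl⟩

theorem toGG_ker {d : DD} : d ∈ toGG.ker ↔ act (d : fourRu) = 1 :=
  ⟨fun h => congrArg Subtype.val (MonoidHom.mem_ker.mp h), fun h => MonoidHom.mem_ker.mpr (Subtype.ext h)⟩

theorem stem_toGG : Cfsg.IsStemExtension toGG := by
  refine ⟨fun g => ?_, fun d hd => ?_, fun d _ => ?_⟩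
  · obtain ⟨d, hd⟩ := lift_DD g.2
    exact ⟨d, Subtype.ext hd⟩
  · obtain ⟨m, hm⟩ := mem_ker_iff.mp (MonoidHom.mem_ker.mpr (toGG_ker.mp hd))
    refine Subgroup.mem_center_iff.mpr fun y => Subtype.ext ?_
    show (y : fourRu) * d = d * y
    rw [hm]
    exact ((show Commute unitAut (y : fourRu) from (unitAut_central _).symm).pow_left _).eq.symm
  · rw [perfect_DD]; exact Subgroup.mem_top d

theorem hker : ∀ f ∈ DD, act f = 1 → f = 1 ∨ f = neg := by
  haveI : Finite GG := inferInstance
  obtain ⟨π, hπ⟩ := SchurMultiplierCover.exists_surjective_mult stem_toGG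
  have hle : Nat.card toGG.ker ≤ 2 := RuMultFinal40.card_mult ▸ Nat.card_le_card_of_surjective π hπ
  haveI : Finite toGG.ker := Finite.of_surjective π hπ
  intro f hf h1
  by_contra hne
  obtain ⟨h1', h2'⟩ := not_or.mp hne
  let a : toGG.ker := ⟨⟨f, hf⟩, toGG_ker.mpr h1⟩
  let b : toGG.ker := ⟨n, toGG_ker.mpr act_neg⟩
  have ha1 : a ≠ 1 := fun e => h1' (congrArg (fun x : toGG.ker => ((x : DD) : fourRu)) e)
  have hab : a ≠ b := fun e => h2' (congrArg (fun x : toGG.ker => ((x : DD) : fourRu)) e)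
  have hb1 : b ≠ 1 := fun e => neg_ne (congrArg (fun x : toGG.ker => ((x : DD) : fourRu)) e)
  classical
  have h3 : ({1, a, b} : Finset toGG.ker).card = 3 :=
    Finset.card_eq_three.2 ⟨_, _, _, ha1.symm, hb1.symm, hab, rfl⟩
  haveI := Fintype.ofFinite toGG.ker
  have := Finset.card_le_univ ({1, a, b} : Finset toGG.ker)
  rw [h3, ← Nat.card_eq_fintype_card] at this
  omega

theorem card_ker : Nat.card toGG.ker = 2 := by
  have hS : ∀ d : toGG.ker, d = 1 ∨ d = ⟨n, toGG_ker.mpr act_neg⟩ := fun d =>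
    (hker _ (d : DD).2 (toGG_ker.mp d.2)).imp (fun e => Subtype.ext (Subtype.ext e))
      fun e => Subtype.ext (Subtype.ext e)
  refine Nat.card_eq_two_iff.mpr ⟨1, ⟨n, toGG_ker.mpr act_neg⟩, fun e => ?_, ?_⟩
  · exact neg_ne (congrArg (fun x : toGG.ker => ((x : DD) : fourRu)) e).symm
  · ext d; simpa using hS d

theorem card_stem {Δ : Type u} [Group Δ] {σ : Δ →* GG} (hs : Cfsg.IsStemExtension σ) :
    Nat.card Δ = Nat.card σ.ker * Nat.card GG := by
  rw [Subgroup.card_eq_card_quotient_mul_card_subgroup σ.ker,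
    Nat.card_congr (QuotientGroup.quotientKerEquivOfSurjective σ hs.1).toEquiv, mul_comm]

/-- Perfect double covers are images of the derived group of the universal central extension. -/
theorem equiv_of_cover {Δ : Type u} [Group Δ] [Finite Δ] {σ : Δ →* GG} (hs : Cfsg.IsStemExtension σ)
    (hp : commutator Δ = ⊤) (hk : Nat.card σ.ker = 2) :
    Nonempty (↥(commutator (SchurMultiplierCover.E GG)) ≃* Δ) := by
  obtain ⟨Φ, hΦ⟩ := SchurMultiplierCover.exists_lift σ hs.1 hs.2.1 (MonoidHom.id GG)
  rw [MonoidHom.id_comp] at hΦ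
  obtain ⟨hsur, -⟩ := SchurMultiplierCover.lift_stem hs Φ hΦ
  set E' := commutator (SchurMultiplierCover.E GG)
  let ψ : E' →* Δ := Φ.comp E'.subtype
  have hψ : Function.Surjective ψ := by
    intro x
    have h : E'.map Φ = ⊤ := by
      show (commutator _).map Φ = ⊤
      rw [commutator_def, Subgroup.map_commutator, ← MonoidHom.range_eq_map,
        MonoidHom.range_eq_top.mpr hsur, ← commutator_def, hp]
    obtain ⟨y, hy, hyx⟩ : x ∈ E'.map Φ := h ▸ Subgroup.mem_top x
    exact ⟨⟨y, hy⟩, hyx⟩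
  let p : E' →* GG := (SchurMultiplierCover.proj GG).comp E'.subtype
  have hpsur : Function.Surjective p := by
    intro g
    obtain ⟨x, rfl⟩ := hs.1 g
    obtain ⟨y, rfl⟩ := hψ x
    exact ⟨y, (DFunLike.congr_fun hΦ _).symm⟩
  have hpk : Nat.card p.ker = 2 := by
    rw [← RuMultFinal40.card_mult]
    exact Nat.card_congr
      { toFun := fun y => ⟨(y : E'), ⟨MonoidHom.mem_ker.mp y.2, (y : E').2⟩⟩
        invFun := fun m => ⟨⟨m.1, m.2.2⟩, MonoidHom.mem_ker.mpr m.2.1⟩
        left_inv := fun _ => rfl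
        right_inv := fun _ => rfl }
  have hcard : Nat.card E' = Nat.card Δ := by
    rw [card_stem hs, hk, Subgroup.card_eq_card_quotient_mul_card_subgroup p.ker, hpk,
      Nat.card_congr (QuotientGroup.quotientKerEquivOfSurjective p hpsur).toEquiv, mul_comm]
  exact ⟨MulEquiv.ofBijective ψ (hψ.bijective_of_nat_card_le hcard.le)⟩

theorem center_DD : Subgroup.center DD = toGG.ker := by
  refine le_antisymm (fun d hd => toGG_ker.mpr ?_) stem_toGG.2.1
  refine center_GG (range_eq ▸ ⟨_, rfl⟩) fun τ hτ => ?_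
  obtain ⟨y, rfl⟩ := lift_DD hτ
  exact ((show Commute d y from (Subgroup.mem_center_iff.mp hd y).symm).map DD.subtype).map act

theorem card_out_DD : Nat.card (Cfsg.Out (DD ⧸ Subgroup.center DD)) = 1 := by
  rw [LeechOutCrit.card_out_congr ((QuotientGroup.quotientMulEquivOfEq center_DD).trans
    (QuotientGroup.quotientKerEquivOfSurjective toGG stem_toGG.1))]
  exact RuOut76.card_out_GG

/-- In a perfect group an automorphism inner modulo the centre is inner. -/
theorem inner_of_quot {K : Type*} [Group K] (hperf : Group.IsPerfect K) (α : K ≃* K)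
    (hout : Nat.card (Cfsg.Out (K ⧸ Subgroup.center K)) = 1) : ∃ a : K, ∀ x, α x = a * x * a⁻¹ := by
  let β : MulAut (K ⧸ Subgroup.center K) := QuotientGroup.congr _ _ α (by
    ext x
    simp only [Subgroup.mem_map, Subgroup.mem_center_iff]
    constructor
    · rintro ⟨y, hy, rfl⟩ g
      obtain ⟨h, rfl⟩ := α.surjective g
      exact (map_mul α h y).symm.trans ((congrArg α (hy h)).trans (map_mul α y h))
    · intro hx
      refine ⟨α.symm x, fun g => α.injective ?_, α.apply_symm_apply x⟩
      rw [map_mul, map_mul, α.apply_symm_apply, hx])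
  have hmem : β ∈ Cfsg.Inn (K ⧸ Subgroup.center K) := by
    have := (Nat.card_eq_one_iff_unique.1 hout).1
    exact (QuotientGroup.eq_one_iff β).1 (Subsingleton.elim _ _)
  obtain ⟨q, hq⟩ := hmem
  obtain ⟨a, rfl⟩ := QuotientGroup.mk_surjective q
  have hc : ∀ x : K, (a * x * a⁻¹)⁻¹ * α x ∈ Subgroup.center K := by
    intro x
    refine QuotientGroup.eq.1 ?_
    exact congrArg (fun f : MulAut (K ⧸ Subgroup.center K) => f (QuotientGroup.mk x)) hq
  let ε : K →* Subgroup.center K :=
    { toFun := fun x => ⟨_, hc x⟩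
      map_one' := Subtype.ext (by simp)
      map_mul' := fun x y => Subtype.ext (by
        show (a * (x * y) * a⁻¹)⁻¹ * α (x * y) = (a * x * a⁻¹)⁻¹ * α x * ((a * y * a⁻¹)⁻¹ * α y)
        have h := Subgroup.mem_center_iff.1 (hc x) ((a * y * a⁻¹)⁻¹)
        rw [map_mul, show (a * (x * y) * a⁻¹)⁻¹ = (a * y * a⁻¹)⁻¹ * (a * x * a⁻¹)⁻¹ by group,
          mul_assoc ((a * y * a⁻¹)⁻¹), ← mul_assoc ((a * x * a⁻¹)⁻¹) (α x), ← mul_assoc, h,
          mul_assoc]) }
  have hker : commutator K ≤ ε.ker := by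
    rw [commutator_def, Subgroup.commutator_le]
    intro x _ y _
    rw [MonoidHom.mem_ker, map_commutatorElement, commutatorElement_eq_one_iff_commute]
    exact Subtype.ext (Subgroup.mem_center_iff.1 (ε y).2 _)
  refine ⟨a, fun x => ?_⟩
  have hx : x ∈ commutator K := by rw [hperf.commutator_eq_top]; exact Subgroup.mem_top x
  exact (inv_mul_eq_one.1 (congrArg Subtype.val (hker hx))).symm

/-- A standard double cover of the Rudvalis group with cyclic centraliser Sylow 2-subgroups is normal. -/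
theorem normal_of_double_cover {G : Type u} [Group G] [Finite G] (hO : Cfsg.oddCore G = ⊥)
    {A : Subgroup G} (hA : Cfsg.IsStandardSubgroup A) (hZ : Nat.card ↥(Subgroup.center ↥A) = 2)
    (e : (↥A ⧸ Subgroup.center ↥A) ≃* Cfsg.Spor.Ru)
    (hR : ∀ R : Sylow 2 ↥(Subgroup.centralizer (A : Set G)),
      IsCyclic ↥(R : Subgroup ↥(Subgroup.centralizer (A : Set G)))) : A.Normal := by
  obtain ⟨e'⟩ := nonempty_equiv
  let σ : ↥A →* GG := (e.trans e').toMonoidHom.comp (QuotientGroup.mk' (Subgroup.center ↥A))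
  have hperfA : Group.IsPerfect ↥A := hA.1.1
  have hσk : σ.ker = Subgroup.center ↥A := by
    ext a
    rw [MonoidHom.mem_ker]
    show (e.trans e') (QuotientGroup.mk a) = 1 ↔ _
    rw [MulEquiv.map_eq_one_iff, QuotientGroup.eq_one_iff]
  have hs : Cfsg.IsStemExtension σ :=
    ⟨(e.trans e').surjective.comp (QuotientGroup.mk'_surjective _), hσk.le,
      fun a _ => by rw [hperfA.commutator_eq_top]; exact Subgroup.mem_top a⟩
  haveI : Finite DD := Nat.finite_of_card_ne_zero (by
    rw [card_stem stem_toGG, card_ker, card_GG]; norm_num)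
  obtain ⟨eA⟩ := equiv_of_cover hs hperfA.commutator_eq_top (by rw [hσk]; exact hZ)
  obtain ⟨eD⟩ := equiv_of_cover stem_toGG perfect_DD card_ker
  exact Ru2Standard76.normal_of_standard (pattern hker)
    (fun α => inner_of_quot ((Group.isPerfect_def).mpr perfect_DD) α card_out_DD) hO hA
    (eA.symm.trans eD) hR

end Cfsg.Agent.Ru2Cover76
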