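import Cfsg.Agent.Lib.ZStarTheorem

/-!
A standard subgroup isomorphic to a group with the involution pattern of the double cover of the
Rudvalis group whose centraliser has cyclic Sylow 2-subgroups is normal.
-/

set_option autoImplicit false

namespace Cfsg.Agent.Ru2Standard76

variable {K G : Type*} [Group K] [Group G]

/-- `t` is conjugate to `r`. -/
def Cl (r t : K) : Prop := ∃ k : K, k * t * k⁻¹ = r

/-- The subgroup generated by the commutators of 2-power order of elements commuting with `r`. -/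
def S2 (r : K) : Subgroup K :=
  Subgroup.closure {w | ∃ p q : K, Commute p r ∧ Commute q r ∧ p * q * p⁻¹ * q⁻¹ = w ∧ w ^ 16 = 1}

/-- The facts about the group `K` that are needed. -/
structure Pattern (n r : K) : Prop where
  central : ∀ x : K, Commute n x
  sq : n * n = 1
  ne : n ≠ 1
  center : ∀ x : K, (∀ y : K, Commute x y) → x = 1 ∨ x = n
  cases_invol : ∀ t : K, t * t = 1 → t = 1 ∨ t = n ∨ Cl r t ∨ Cl (n * r) t
  no_four : ∀ k : K, k ^ 4 ≠ n
  wit : ∀ u : K, u = r ∨ u = n * r → ∃ y ∈ S2 r, y ^ 10 = u ∧ y ^ 4 ≠ 1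
  no_five : ∀ x s : K, x ^ 5 = 1 → x ≠ 1 → s * s = n → Commute x r → Commute s r → Commute x s → False

theorem Pattern.n_mem {n r : K} (H : Pattern n r) : n ∈ S2 r := by
  obtain ⟨y, hy, hy10, -⟩ := H.wit r (Or.inl rfl)
  obtain ⟨y', hy', hy10', -⟩ := H.wit (n * r) (Or.inr rfl)
  have e : n = y' ^ 10 * (y ^ 10)⁻¹ := by rw [hy10, hy10', mul_inv_cancel_right]
  rw [e]
  exact mul_mem (pow_mem hy' 10) (inv_mem (pow_mem hy 10))

/-- The embedding of `K` with the hypotheses on the centraliser of the central involution. -/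
structure Embedded (ι : K →* G) (n : K) (C : Subgroup G) : Prop where
  inj : Function.Injective ι
  comm : ∀ a : K, ∀ c ∈ C, Commute (ι a) c
  decomp : ∀ g : G, Commute g (ι n) → ∃ a : K, ∃ c ∈ C, g = ι a * c
  inter : ∀ a : K, ι a ∈ C → ∀ y : K, Commute a y
  only : ∀ c ∈ C, c * c = 1 → c = 1 ∨ c = ι n
  odd_comm : ∀ c ∈ C, ∀ d ∈ C, Odd (orderOf (c * d * c⁻¹ * d⁻¹))

variable {ι : K →* G} {n r : K} {C : Subgroup G}

theorem comm_mem_aux (H : Pattern n r) (E : Embedded ι n C) {a b : K} {c d : G} (hc : c ∈ C)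
    (hd : d ∈ C) (h : (ι a * c * (ι b * d) * (ι a * c)⁻¹ * (ι b * d)⁻¹) ^ 16 = 1) :
    ι a * c * (ι b * d) * (ι a * c)⁻¹ * (ι b * d)⁻¹ = ι (a * b * a⁻¹ * b⁻¹) := by
  set w := c * d * c⁻¹ * d⁻¹ with hw
  have hwC : w ∈ C := mul_mem (mul_mem (mul_mem hc hd) (inv_mem hc)) (inv_mem hd)
  have e : ι a * c * (ι b * d) * (ι a * c)⁻¹ * (ι b * d)⁻¹ = ι (a * b * a⁻¹ * b⁻¹) * w := by
    have e1 : c * ι b = ι b * c := (E.comm b c hc).eq.symm
    have e2 : c * d * c⁻¹ * (ι a)⁻¹ = (ι a)⁻¹ * (c * d * c⁻¹) := by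
      rw [← map_inv]; exact (E.comm a⁻¹ _ (mul_mem (mul_mem hc hd) (inv_mem hc))).eq.symm
    have e3 : w * (ι b)⁻¹ = (ι b)⁻¹ * w := by rw [← map_inv]; exact (E.comm b⁻¹ w hwC).eq.symm
    calc ι a * c * (ι b * d) * (ι a * c)⁻¹ * (ι b * d)⁻¹
        = ι a * (c * ι b) * d * c⁻¹ * (ι a)⁻¹ * d⁻¹ * (ι b)⁻¹ := by group
      _ = ι a * ι b * (c * d * c⁻¹ * (ι a)⁻¹) * d⁻¹ * (ι b)⁻¹ := by rw [e1]; group
      _ = ι a * ι b * (ι a)⁻¹ * (w * (ι b)⁻¹) := by rw [e2, hw]; group
      _ = _ := by rw [e3, map_mul, map_mul, map_mul, map_inv, map_inv]; group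
  rw [e] at h ⊢
  set s := a * b * a⁻¹ * b⁻¹
  have hcomm : Commute (ι s) w := E.comm s w hwC
  have h2 : ι (s ^ 16) * w ^ 16 = 1 := by rw [map_pow, ← hcomm.mul_pow, h]
  have hmem : ι (s ^ 16) ∈ C := by
    rw [eq_inv_of_mul_eq_one_left h2]; exact inv_mem (pow_mem hwC 16)
  have hss : s ^ 16 * s ^ 16 = 1 := by
    rcases H.center _ (E.inter _ hmem) with e' | e' <;> rw [e']
    · simp
    · exact H.sq
  have hw32 : w ^ 32 = 1 := by
    have h3 : (w ^ 16)⁻¹ = ι (s ^ 16) := (eq_inv_of_mul_eq_one_left h2).symm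
    have h4 : (w ^ 16)⁻¹ * (w ^ 16)⁻¹ = 1 := by rw [h3, ← map_mul, hss, map_one]
    rw [← mul_inv_rev, inv_eq_one, ← pow_add] at h4
    exact h4
  have hodd : Odd (orderOf w) := E.odd_comm c hc d hd
  have : orderOf w = 1 := by
    have hd4 : orderOf w ∣ 2 ^ 5 := orderOf_dvd_of_pow_eq_one (by norm_num; exact hw32)
    obtain ⟨i, -, hi⟩ := (Nat.dvd_prime_pow Nat.prime_two).1 hd4
    rw [hi] at hodd
    cases i with
    | zero => simpa using hi
    | succ i => exact absurd hodd (by simp [pow_succ])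
  rw [orderOf_eq_one_iff] at this
  rw [this, mul_one]


theorem commute_n (H : Pattern n r) (a : K) : Commute (ι a) (ι n) := ((H.central a).map ι).symm

theorem conj_commute {g x y : G} (h : Commute x y) : Commute (g * x * g⁻¹) (g * y * g⁻¹) := by
  show _ = _
  calc g * x * g⁻¹ * (g * y * g⁻¹) = g * (x * y) * g⁻¹ := by group
    _ = g * (y * x) * g⁻¹ := by rw [h.eq]
    _ = _ := by group

theorem conj_pow' (g x : G) (m : ℕ) : (g * x * g⁻¹) ^ m = g * x ^ m * g⁻¹ := by
  have := map_pow (MulAut.conj g).toMonoidHom x m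
  simpa using this.symm

/-- Elements of `K` commuting with an element sent to the central involution conjugate into the image. -/
theorem transport (H : Pattern n r) (E : Embedded ι n C) {g : G} {r' : K}
    (hg : g * ι r' * g⁻¹ = ι n ∨ g * ι (n * r') * g⁻¹ = ι n) {w : K} (hw : w ∈ S2 r') :
    ∃ b : K, g * ι w * g⁻¹ = ι b := by
  induction hw using Subgroup.closure_induction with
  | mem w hw =>
    obtain ⟨p, q, hp, hq, rfl, h16⟩ := hw
    have key : ∀ y : K, Commute y r' → Commute (g * ι y * g⁻¹) (ι n) := by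
      intro y hy
      rcases hg with h | h <;> rw [← h]
      · exact conj_commute (hy.map ι)
      · exact conj_commute (((H.central y).symm.mul_right hy).map ι)
    obtain ⟨a, c, hc, ea⟩ := E.decomp _ (key p hp)
    obtain ⟨b, d, hd, eb⟩ := E.decomp _ (key q hq)
    have e : g * ι (p * q * p⁻¹ * q⁻¹) * g⁻¹ =
        (g * ι p * g⁻¹) * (g * ι q * g⁻¹) * (g * ι p * g⁻¹)⁻¹ * (g * ι q * g⁻¹)⁻¹ := by
      rw [map_mul, map_mul, map_mul, map_inv, map_inv]; group
    refine ⟨a * b * a⁻¹ * b⁻¹, ?_⟩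
    rw [e, ea, eb]
    refine comm_mem_aux H E hc hd ?_
    rw [← ea, ← eb, ← e, conj_pow', ← map_pow, h16, map_one, mul_one, mul_inv_cancel]
  | one => exact ⟨1, by rw [map_one, mul_one, mul_inv_cancel]⟩
  | mul x y _ _ ihx ihy =>
    obtain ⟨a, ha⟩ := ihx
    obtain ⟨b, hb⟩ := ihy
    exact ⟨a * b, by rw [map_mul, map_mul, ← ha, ← hb]; group⟩
  | inv x _ ih =>
    obtain ⟨a, ha⟩ := ih
    exact ⟨a⁻¹, by rw [map_inv, map_inv, ← ha]; group⟩

/-- Conjugation moves the generated subgroup. -/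
theorem S2_conj (k : K) {r' u : K} (h : k * u * k⁻¹ = r') {w : K} (hw : w ∈ S2 r') :
    k⁻¹ * w * k ∈ S2 u := by
  have hle : S2 r' ≤ (S2 u).comap (MulAut.conj k⁻¹).toMonoidHom := by
    refine (Subgroup.closure_le _).mpr ?_
    rintro w ⟨p, q, hp, hq, rfl, h16⟩
    refine Subgroup.subset_closure ⟨k⁻¹ * p * k, k⁻¹ * q * k, ?_, ?_, ?_, ?_⟩
    · have := conj_commute (g := k⁻¹) (h ▸ hp : Commute p (k * u * k⁻¹))
      simpa [mul_assoc] using this
    · have := conj_commute (g := k⁻¹) (h ▸ hq : Commute q (k * u * k⁻¹))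
      simpa [mul_assoc] using this
    · simp [mul_assoc]
    · rw [← map_pow, h16, map_one]
  have := hle hw
  simpa [mul_assoc] using this

/-- A conjugate of the central involution commuting with it is that involution, or the image of an
involution of one of the two classes. -/
theorem conj_class (H : Pattern n r) {g : G} (hι : Function.Injective ι) {u : K}
    (h : g * ι n * g⁻¹ = ι u) : u = n ∨ ∃ k : K, k * u * k⁻¹ = r ∨ k * u * k⁻¹ = n * r := by
  have huu : u * u = 1 := hι (by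
    rw [map_mul, map_one, ← h]
    calc g * ι n * g⁻¹ * (g * ι n * g⁻¹) = g * ι (n * n) * g⁻¹ := by rw [map_mul]; group
      _ = 1 := by rw [H.sq, map_one]; group)
  rcases H.cases_invol u huu with e | e | ⟨k, hk⟩ | ⟨k, hk⟩
  · refine absurd (hι ?_) H.ne
    calc ι n = g⁻¹ * (g * ι n * g⁻¹) * g := by group
      _ = ι 1 := by rw [h, e, map_one]; group
  · exact Or.inl e
  · exact Or.inr ⟨k, Or.inl hk⟩
  · exact Or.inr ⟨k, Or.inr hk⟩

/-- With the class of `u` known, what commutes with it goes into the image. -/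
theorem transport_class (H : Pattern n r) (E : Embedded ι n C) {g : G} {u k : K}
    (hg : g * ι u * g⁻¹ = ι n) (hk : k * u * k⁻¹ = r ∨ k * u * k⁻¹ = n * r) {w : K} (hw : w ∈ S2 r) :
    ∃ b : K, g * ι (k⁻¹ * w * k) * g⁻¹ = ι b := by
  rcases hk with hk | hk
  · exact transport H E (Or.inl hg) (S2_conj k hk hw)
  · have hk' : k * (n * u) * k⁻¹ = r := by
      rw [← mul_assoc k n u, ← (H.central k).eq, mul_assoc n, mul_assoc n, hk, ← mul_assoc, H.sq, one_mul]
    refine transport H E (r' := n * u) (Or.inr ?_) (S2_conj k hk' hw)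
    rw [← mul_assoc, H.sq, one_mul]; exact hg

/-- Conjugates of `ι n` commuting with it lie in the image. -/
theorem conj_in_range (H : Pattern n r) (E : Embedded ι n C) (g : G)
    (hg : Commute (ι n) (g * ι n * g⁻¹)) : ∃ a : K, g * ι n * g⁻¹ = ι a := by
  have hzz : ι n * ι n = 1 := by rw [← map_mul, H.sq, map_one]
  obtain ⟨a, c, hc, hv⟩ := E.decomp (g * ι n * g⁻¹) hg.symm
  have hac : Commute (ι a) c := E.comm a c hc
  have h2 : ι (a * a) * (c * c) = 1 := by
    rw [map_mul, hac.mul_mul_mul_comm (ι a) c, ← hv]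
    calc g * ι n * g⁻¹ * (g * ι n * g⁻¹) = g * (ι n * ι n) * g⁻¹ := by group
      _ = 1 := by rw [hzz]; group
  have hmem : ι (a * a) ∈ C := by
    rw [eq_inv_of_mul_eq_one_left h2]; exact inv_mem (mul_mem hc hc)
  rcases H.center _ (E.inter _ hmem) with ha | ha
  · rw [ha, map_one, one_mul] at h2
    rcases E.only c hc h2 with rfl | rfl
    · exact ⟨a, by rw [hv, mul_one]⟩
    · exact ⟨a * n, by rw [hv, map_mul]⟩
  rw [ha] at h2
  have hcc : c * c = ι n := by
    calc c * c = ι n * (ι n * (c * c)) := by rw [← mul_assoc, hzz, one_mul]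
      _ = ι n := by rw [h2, mul_one]
  obtain ⟨a2, c2, hc2, ht⟩ := E.decomp (g⁻¹ * ι n * g) (by
    have := conj_commute (g := g⁻¹) hg
    rw [inv_inv, show g⁻¹ * (g * ι n * g⁻¹) * g = ι n by group] at this
    exact this)
  have ht2 : ι (a2 * a2) * (c2 * c2) = 1 := by
    rw [map_mul, (E.comm a2 c2 hc2).mul_mul_mul_comm (ι a2) c2, ← ht]
    calc g⁻¹ * ι n * g * (g⁻¹ * ι n * g) = g⁻¹ * (ι n * ι n) * g := by group
      _ = 1 := by rw [hzz]; group
  have hmem2 : ι (a2 * a2) ∈ C := by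
    rw [eq_inv_of_mul_eq_one_left ht2]; exact inv_mem (mul_mem hc2 hc2)
  rcases H.center _ (E.inter _ hmem2) with ha2 | ha2
  · rw [ha2, map_one, one_mul] at ht2
    obtain ⟨u, hu⟩ : ∃ u : K, g⁻¹ * ι n * g = ι u := by
      rcases E.only c2 hc2 ht2 with rfl | rfl
      · exact ⟨a2, by rw [ht, mul_one]⟩
      · exact ⟨a2 * n, by rw [ht, map_mul]⟩
    have hu' : g * ι u * g⁻¹ = ι n := by rw [← hu]; group
    rcases conj_class H E.inj (g := g⁻¹) (u := u) (by rwa [inv_inv]) with e | ⟨k, hk⟩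
    · rw [e] at hu'
      exact ⟨n, hu'⟩
    · obtain ⟨b, hb⟩ := transport_class H E hu' hk H.n_mem
      rw [show k⁻¹ * n * k = n by rw [mul_assoc, (H.central k).eq, inv_mul_cancel_left]] at hb
      exact ⟨b, hb⟩
  · exfalso
    have hcv : Commute c (g * ι n * g⁻¹) := by rw [hv]; exact hac.symm.mul_right (Commute.refl c)
    have hy : Commute (g⁻¹ * c * g) (ι n) := by
      have := conj_commute (g := g⁻¹) hcv
      rw [inv_inv, show g⁻¹ * (g * ι n * g⁻¹) * g = ι n by group] at this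
      exact this
    obtain ⟨k, d, hd, hy'⟩ := E.decomp _ hy
    have e2 : ι a2 * c2 = ι (k * k) * (d * d) := by
      rw [map_mul, (E.comm k d hd).mul_mul_mul_comm (ι k) d, ← hy', ← ht, ← hcc]; group
    have hm : ι ((k * k)⁻¹ * a2) ∈ C := by
      rw [map_mul, map_inv, show (ι (k * k))⁻¹ * ι a2 = d * d * c2⁻¹ by
        rw [eq_mul_inv_iff_mul_eq, mul_assoc, e2, inv_mul_cancel_left]]
      exact mul_mem (mul_mem hd hd) (inv_mem hc2)
    refine H.no_four k ?_
    have hk4 : k ^ 4 = (k * k) * (k * k) := by simp only [pow_succ, pow_zero, one_mul, mul_assoc]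
    rw [hk4, ← ha2]
    rcases H.center _ (E.inter _ hm) with e | e
    · rw [inv_mul_eq_one.mp e]
    · have e' : a2 = k * k * n := by rw [← e, mul_inv_cancel_left]
      rw [e', (H.central (k * k)).mul_mul_mul_comm (k * k) n, H.sq, mul_one]

theorem isolated (H : Pattern n r) (E : Embedded ι n C) (g : G)
    (hg : Commute (ι n) (g * ι n * g⁻¹)) : g * ι n * g⁻¹ = ι n := by
  by_contra hne
  obtain ⟨u, hu⟩ := conj_in_range H E g hg
  rcases conj_class H E.inj hu with e | ⟨k, hk⟩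
  · exact hne (e ▸ hu)
  obtain ⟨a, ha⟩ := conj_in_range H E g⁻¹ (by
    have := conj_commute (g := g⁻¹) hg
    rw [inv_inv] at this ⊢
    rw [show g⁻¹ * (g * ι n * g⁻¹) * g = ι n by group] at this
    exact this.symm)
  rcases conj_class H E.inj ha with e | ⟨j, hj⟩
  · rw [e, inv_inv] at ha
    refine hne ?_
    calc g * ι n * g⁻¹ = g * (g⁻¹ * ι n * g) * g⁻¹ := by rw [ha]
      _ = ι n := by group
  rw [inv_inv] at ha
  have hu' : g⁻¹ * ι u * g⁻¹⁻¹ = ι n := by rw [← hu]; group
  obtain ⟨y, hy, hy10, hy4⟩ := H.wit (k * u * k⁻¹) hk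
  obtain ⟨z, hz⟩ := transport_class H E hu' hk hy
  set yu := k⁻¹ * y * k with hyu
  have hz10 : z ^ 10 = n := E.inj (by
    rw [map_pow, ← hz, conj_pow', ← map_pow, hyu, show (k⁻¹ * y * k) ^ 10 = k⁻¹ * y ^ 10 * k by
      simpa using conj_pow' k⁻¹ y 10, hy10, ← hu', show k⁻¹ * (k * u * k⁻¹) * k = u by group])
  have hz4 : z ^ 4 ≠ 1 := by
    intro e
    apply hy4
    have h1 : g⁻¹ * ι (yu ^ 4) * g⁻¹⁻¹ = 1 := by rw [map_pow, ← conj_pow', hz, ← map_pow, e, map_one]
    have h2 : yu ^ 4 = 1 := E.inj (by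
      rw [map_one]
      calc ι (yu ^ 4) = g * (g⁻¹ * ι (yu ^ 4) * g⁻¹⁻¹) * g⁻¹ := by group
        _ = 1 := by rw [h1]; group)
    rw [hyu, show (k⁻¹ * y * k) ^ 4 = k⁻¹ * y ^ 4 * k by simpa using conj_pow' k⁻¹ y 4] at h2
    calc y ^ 4 = k * (k⁻¹ * y ^ 4 * k) * k⁻¹ := by group
      _ = 1 := by rw [h2]; group
  have hza : Commute z a := by
    have h := conj_commute (g := g⁻¹) (commute_n (ι := ι) H yu)
    rw [hz, inv_inv, ha, Commute, SemiconjBy, ← map_mul, ← map_mul] at h
    exact E.inj h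
  have hza' : Commute (j * z * j⁻¹) r := by
    rcases hj with hj | hj
    · rw [← hj]; exact conj_commute hza
    · have h := conj_commute (g := j) hza
      rw [hj] at h
      have h' := (H.central (j * z * j⁻¹)).symm.mul_right h
      rwa [← mul_assoc, H.sq, one_mul] at h'
  refine H.no_five ((j * z * j⁻¹) ^ 4) ((j * z * j⁻¹) ^ 5) ?_ ?_ ?_ (hza'.pow_left 4) (hza'.pow_left 5)
    ((Commute.refl _).pow_pow 4 5)
  · rw [← pow_mul, show 4 * 5 = 10 * 2 by rfl, pow_mul, conj_pow', hz10, ← (H.central j).eq,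
      mul_inv_cancel_right, sq, H.sq]
  · rw [conj_pow']
    intro e
    refine hz4 ?_
    calc z ^ 4 = j⁻¹ * (j * z ^ 4 * j⁻¹) * j := by group
      _ = 1 := by rw [e]; group
  · rw [← pow_add, conj_pow', hz10, ← (H.central j).eq, mul_inv_cancel_right]

/-- The commutator of two elements of a group with cyclic Sylow 2-subgroups has odd order. -/
theorem odd_commutator_of_cyclic {C : Type*} [Group C] [Finite C]
    (hR : ∀ R : Sylow 2 C, IsCyclic ↥(R : Subgroup C)) (c d : C) :
    Odd (orderOf (c * d * c⁻¹ * d⁻¹)) := by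
  have : Fact (Nat.Prime 2) := ⟨Nat.prime_two⟩
  by_cases he : 2 ∣ Nat.card C
  · obtain ⟨R⟩ : Nonempty (Sylow 2 C) := inferInstance
    have hmin : (Nat.card C).minFac = 2 := Nat.minFac_eq_two_iff _ |>.2 he
    have hN := (hR R).normalizer_le_centralizer hmin
    set f := MonoidHom.transferSylow R hN
    have hf : c * d * c⁻¹ * d⁻¹ ∈ f.ker := by
      rw [MonoidHom.mem_ker, map_mul, map_mul, map_mul, map_inv, map_inv]
      have := (hR R).isMulCommutative
      have h := mul_comm' (f c) (f d)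
      rw [h, mul_inv_cancel_right, mul_inv_cancel]
    rw [Nat.odd_iff, ← Nat.two_dvd_ne_zero]
    intro h2
    refine MonoidHom.not_dvd_card_ker_transferSylow R hN (h2.trans ?_)
    have := orderOf_dvd_natCard (⟨_, hf⟩ : f.ker)
    rwa [Subgroup.orderOf_mk] at this
  · rw [Nat.odd_iff, ← Nat.two_dvd_ne_zero]
    exact fun h2 => he (h2.trans (orderOf_dvd_natCard _))

/-- A standard subgroup isomorphic to `K` with cyclic centraliser Sylow 2-subgroups is normal. -/
theorem normal_of_standard {G K : Type*} [Group G] [Finite G] [Group K] {n r : K}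
    (H : Pattern n r) (hout : ∀ α : K ≃* K, ∃ a : K, ∀ x, α x = a * x * a⁻¹)
    (hO : Cfsg.oddCore G = ⊥) {A : Subgroup G} (hA : Cfsg.IsStandardSubgroup A) (e : ↥A ≃* K)
    (hR : ∀ R : Sylow 2 ↥(Subgroup.centralizer (A : Set G)),
      IsCyclic ↥(R : Subgroup ↥(Subgroup.centralizer (A : Set G)))) : A.Normal := by
  have : Fact (Nat.Prime 2) := ⟨Nat.prime_two⟩
  obtain ⟨-, ⟨-, htight⟩, -, hNC⟩ := hA
  set C := Subgroup.centralizer (A : Set G) with hC
  set ι : K →* G := A.subtype.comp e.symm.toMonoidHom with hι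
  have hιA : ∀ a, ι a ∈ A := fun a => (e.symm a).2
  have hsurj : ∀ x ∈ A, ∃ a, ι a = x := fun x hx => ⟨e ⟨x, hx⟩, by simp [hι]⟩
  have hinj : Function.Injective ι := A.subtype_injective.comp e.symm.injective
  have hcomm : ∀ a : K, ∀ c ∈ C, Commute (ι a) c := fun a c hc => (Subgroup.mem_centralizer_iff.1 hc _ (hιA a))
  have hzC : ι n ∈ C := Subgroup.mem_centralizer_iff.2 fun x hx => by
    obtain ⟨a, rfl⟩ := hsurj x hx
    exact (((H.central a).map ι).eq).symm
  have hz2 : orderOf (ι n) = 2 := orderOf_eq_prime (by rw [sq, ← map_mul, H.sq, map_one])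
    (fun h => H.ne (hinj (h.trans (map_one ι).symm)))
  set zC : C := ⟨ι n, hzC⟩
  have hzC2 : orderOf zC = 2 := by rw [Subgroup.orderOf_mk, hz2]
  have honly : ∀ c ∈ C, c * c = 1 → c = 1 ∨ c = ι n := by
    intro c hc hcc
    by_cases h1 : c = 1
    · exact Or.inl h1
    right
    set cC : C := ⟨c, hc⟩
    have hc2 : orderOf cC = 2 := by
      rw [Subgroup.orderOf_mk]; exact orderOf_eq_prime (by rw [sq, hcc]) h1
    have hcen : Commute zC cC := Subtype.ext (hcomm n c hc).eq
    have hP : IsPGroup 2 ↥(Subgroup.closure ({zC, cC} : Set C)) := by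
      rintro ⟨y, hy⟩
      refine ⟨1, Subtype.ext ?_⟩
      show y ^ 2 ^ 1 = 1
      rw [pow_one]
      have : y ^ 2 = 1 ∧ Commute y zC ∧ Commute y cC := by
        induction hy using Subgroup.closure_induction with
        | mem w hw =>
          rcases hw with rfl | rfl
          · exact ⟨hzC2 ▸ pow_orderOf_eq_one _, Commute.refl _, hcen⟩
          · exact ⟨hc2 ▸ pow_orderOf_eq_one _, hcen.symm, Commute.refl _⟩
        | one => exact ⟨one_pow _, Commute.one_left _, Commute.one_left _⟩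
        | mul x y hx hy ihx ihy =>
          have hxy : Commute x y := by
            have hsub : Subgroup.closure ({zC, cC} : Set C) ≤ Subgroup.centralizer {x} := by
              rw [Subgroup.closure_le]
              rintro w (rfl | rfl)
              · exact Subgroup.mem_centralizer_iff.2 fun v hv => by rw [Set.mem_singleton_iff.1 hv]; exact ihx.2.1.eq
              · exact Subgroup.mem_centralizer_iff.2 fun v hv => by rw [Set.mem_singleton_iff.1 hv]; exact ihx.2.2.eq
            exact Subgroup.mem_centralizer_iff.1 (hsub hy) x rfl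
          exact ⟨by rw [hxy.mul_pow, ihx.1, ihy.1, one_mul], ihx.2.1.mul_left ihy.2.1, ihx.2.2.mul_left ihy.2.2⟩
        | inv x _ ih => exact ⟨by rw [inv_pow, ih.1, inv_one], ih.2.1.inv_left, ih.2.2.inv_left⟩
      exact this.1
    obtain ⟨R, hR'⟩ := hP.exists_le_sylow
    have := hR R
    have h1' : zC ∈ (R : Subgroup C) := hR' (Subgroup.subset_closure (by simp))
    have h2' : cC ∈ (R : Subgroup C) := hR' (Subgroup.subset_closure (by simp))
    have := Fintype.ofFinite ↥(R : Subgroup C)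
    classical
    have hcard := IsCyclic.card_pow_eq_one_le (α := ↥(R : Subgroup C)) (n := 2) two_pos
    have hne : (⟨zC, h1'⟩ : (R : Subgroup C)) ≠ 1 := fun h => by
      rw [Subgroup.mk_eq_one] at h; rw [h, orderOf_one] at hzC2; omega
    have hne' : (⟨cC, h2'⟩ : (R : Subgroup C)) ≠ 1 := fun h => by
      rw [Subgroup.mk_eq_one] at h; rw [h, orderOf_one] at hc2; omega
    by_contra hcz
    have hcz' : (⟨cC, h2'⟩ : (R : Subgroup C)) ≠ ⟨zC, h1'⟩ := fun h =>
      hcz (congrArg (fun y : (R : Subgroup C) => ((y : C) : G)) h)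
    have hsub : ({1, ⟨zC, h1'⟩, ⟨cC, h2'⟩} : Finset (R : Subgroup C)) ⊆
        Finset.univ.filter fun y => y ^ 2 = 1 := by
      intro y hy
      simp only [Finset.mem_insert, Finset.mem_singleton] at hy
      simp only [Finset.mem_filter, Finset.mem_univ, true_and]
      rcases hy with rfl | rfl | rfl
      · exact one_pow _
      · exact Subtype.ext (by have h' := pow_orderOf_eq_one zC; rwa [hzC2] at h')
      · exact Subtype.ext (by have h' := pow_orderOf_eq_one cC; rwa [hc2] at h')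
    have h3 : ({1, ⟨zC, h1'⟩, ⟨cC, h2'⟩} : Finset (R : Subgroup C)).card = 3 :=
      Finset.card_eq_three.2 ⟨_, _, _, Ne.symm hne, Ne.symm hne', Ne.symm hcz', rfl⟩
    have := Finset.card_le_card hsub
    omega
  have hnorm : ∀ g : G, Commute g (ι n) → g ∈ Subgroup.normalizer (A : Set G) := by
    intro g hg
    rw [hNC]
    by_contra hgn
    have hodd := htight g hgn
    have hmem : ι n ∈ C ⊓ C.map (MulAut.conj g).toMonoidHom := by
      refine ⟨hzC, ι n, hzC, ?_⟩
      show g * ι n * g⁻¹ = ι n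
      rw [hg.eq, mul_inv_cancel_right]
    have := orderOf_dvd_natCard (⟨_, hmem⟩ : ↥(C ⊓ C.map (MulAut.conj g).toMonoidHom))
    rw [Subgroup.orderOf_mk, hz2] at this
    exact (Nat.not_even_iff_odd.2 hodd) (even_iff_two_dvd.2 this)
  have E : Embedded ι n C := by
    refine ⟨hinj, hcomm, fun g hg => ?_, fun a ha y => hinj ?_, honly, fun c hc d hd => ?_⟩
    · have hgA := Subgroup.mem_normalizer_iff.1 (hnorm g hg)
      let φ : A ≃* A :=
        { toFun := fun x => ⟨g * x * g⁻¹, (hgA x).1 x.2⟩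
          invFun := fun x => ⟨g⁻¹ * x * g, (hgA _).2 (by
            rw [show g * (g⁻¹ * (x : G) * g) * g⁻¹ = x by group]; exact x.2)⟩
          left_inv := fun x => Subtype.ext (by simp [mul_assoc])
          right_inv := fun x => Subtype.ext (by simp [mul_assoc])
          map_mul' := fun x y => Subtype.ext (by simp [mul_assoc]) }
      obtain ⟨a, ha⟩ := hout (e.symm.trans (φ.trans e))
      refine ⟨a, (ι a)⁻¹ * g, Subgroup.mem_centralizer_iff.2 fun x hx => ?_, by group⟩
      have h1 := congrArg (fun y => ((e.symm y : A) : G)) (ha (e ⟨x, hx⟩))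
      simp only [MulEquiv.trans_apply, MulEquiv.symm_apply_apply] at h1
      have h2 : g * x * g⁻¹ = ι a * x * (ι a)⁻¹ := by
        have : ι (e ⟨x, hx⟩) = x := by simp [hι]
        rw [← this]
        calc g * ι (e ⟨x, hx⟩) * g⁻¹ = ι (a * e ⟨x, hx⟩ * a⁻¹) := by rw [this]; exact h1
          _ = _ := by rw [map_mul, map_mul, map_inv]
      calc x * ((ι a)⁻¹ * g) = (ι a)⁻¹ * (ι a * x * (ι a)⁻¹) * g := by group
        _ = (ι a)⁻¹ * (g * x * g⁻¹) * g := by rw [h2]
        _ = (ι a)⁻¹ * g * x := by group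
    · rw [map_mul, map_mul]
      exact (hcomm y _ ha).eq.symm
    · have h := odd_commutator_of_cyclic hR (⟨c, hc⟩ : C) ⟨d, hd⟩
      rwa [← Subgroup.orderOf_coe] at h
  have hiso : Cfsg.IsIsolatedInvolution (ι n) := ⟨hz2, fun g hg => isolated H E g hg⟩
  have hcen := ZStarTheorem.mem_center_of_isolated hiso hO
  have htop : Subgroup.normalizer (A : Set G) = ⊤ :=
    eq_top_iff.2 fun g _ => hnorm g (Subgroup.mem_center_iff.1 hcen g)
  exact Subgroup.normalizer_eq_top_iff.1 htop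

end Cfsg.Agent.Ru2Standard76
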