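import Cfsg.Agent.Lib.Ru2Checks76
import Cfsg.Agent.Lib.Ru2Standard76
import Cfsg.Agent.Lib.TransferThompson

/-!
The involution pattern of the double cover of the Rudvalis group, inside the automorphism group of
the lattice: classes of involutions, elements of order eight, and elements of order five centralising
an involution.
-/

set_option autoImplicit false
set_option maxRecDepth 100000
set_option linter.style.haveILetI false

namespace Cfsg.Agent.Ru2Facts76

open scoped commutatorElement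
open Cfsg.Spor RuPermCert66 RuPermData66 RuSift76 RuPermGroup66 RuAction66
open Ru2Signed76 Ru2Data76 Ru2Checks76

theorem lt_mem {i : ℕ} {L : List (PT × PT)} (hL : L = S.take 37) (hi : i < 37) : lt i ∈ L := by
  subst hL
  have hlen : S.length = 37 := by decide +kernel
  rw [lt, List.getD_eq_getElem _ _ (hlen ▸ hi)]
  exact List.mem_take_iff_getElem.mpr ⟨i, by omega, rfl⟩

theorem letters_len : S.length = 37 := by decide +kernel

theorem take_succ_eq {i : ℕ} (hi : i < 37) : S.take (i + 1) = S.take i ++ [lt i] := by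
  rw [List.take_add_one, lt, List.getD_eq_getElem _ _ (letters_len ▸ hi),
    List.getElem?_eq_getElem (letters_len ▸ hi)]
  rfl

theorem good_take : ∀ i ≤ 37, Good (S.take i)
  | 0, _ => by simp [Good]
  | i + 1, hi => by
    have ih := good_take i (Nat.le_of_succ_le hi)
    intro q hq
    rw [take_succ_eq hi, List.mem_append, List.mem_singleton] at hq
    rcases hq with hq | rfl
    · exact ih q hq
    rcases build_ok i hi with hb | hb
    · simp only [isBase, Bool.or_eq_true, beq_iff_eq] at hb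
      rcases hb with ((rfl | rfl) | rfl) | rfl
      · obtain ⟨f, hf⟩ := exists_phase (by norm_num) RuLines66.colsRj_ok RuLines66.orthRj_ok
          RuLines66.commRj_ok inv0 RuLines66.imgsRj_ok
        exact ⟨f, img_aut inv0 hf⟩
      · obtain ⟨f, hf⟩ := exists_phase (by norm_num) RuLines66.colsSg_ok RuLines66.orthSg_ok
          RuLines66.commSg_ok inv2 RuLines66.imgsSg_ok
        exact ⟨f, img_aut inv2 hf⟩
      · obtain ⟨f, hf⟩ := exists_phase (by norm_num) RuLines66.colsSh_ok RuLines66.orthSh_ok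
          RuLines66.commSh_ok inv4 RuLines66.imgsSh_ok
        exact ⟨f, img_aut inv4 hf⟩
      · obtain ⟨f, hf⟩ := exists_phase (by norm_num) RuLines66.colsA_ok RuLines66.orthA_ok
          RuLines66.commA_ok inv6 RuLines66.imgsA_ok
        exact ⟨f, img_aut inv6 hf⟩
    · simp only [letterOK, Bool.and_eq_true, Nat.ble_eq] at hb
      obtain ⟨h1, hb⟩ := hb
      split at hb
      · exact img_def ih hb
      · obtain ⟨f, hf⟩ := ih (lt (i - 1)) (by
          rw [lt, List.getD_eq_getElem _ _ (by rw [letters_len]; omega)]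
          exact List.mem_take_iff_getElem.mpr ⟨i - 1, by rw [letters_len]; omega, rfl⟩)
        exact img_inv hf hb

theorem good : Good S := by
  have h := good_take 37 le_rfl
  rwa [List.take_of_length_le letters_len.le] at h

/-- The automorphism of a word. -/
noncomputable abbrev E (w : List ℕ) : fourRu := el S w

/-- The permutation of a word. -/
noncomputable def gl (w : List ℕ) : Equiv.Perm (Fin NN) := act (E w)

theorem gl_mem (w : List ℕ) : gl w ∈ GG := range_eq ▸ ⟨E w, rfl⟩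

theorem gl_apply {w : List ℕ} (hw : okW S w = true) (k : Fin NN) : (gl w k : ℕ) = line w k :=
  (img_el good hw).lineMap k

theorem gl_append {w v : List ℕ} (hw : okW S w = true) (hv : okW S v = true) :
    gl (w ++ v) = gl v * gl w := by rw [gl, gl, gl, E, el_append good hw hv, map_mul]

theorem gl_nil : gl [] = 1 := by rw [gl, E, el_nil good, map_one]

theorem gl_pw {w : List ℕ} (hw : okW S w = true) (m : ℕ) : gl (pw m w) = gl w ^ m := by
  rw [gl, gl, ← map_pow, pw, E, el_pow good hw]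

theorem okW_pw {w : List ℕ} (hw : okW S w = true) (m : ℕ) : okW S (pw m w) = true :=
  okW_pow hw m

theorem gl_eq {w v : List ℕ} (hw : okW S w = true) (hv : okW S v = true)
    (h : eqL (sev S w) (sev S v) = true) : gl w = gl v := act_el good hw hv h

theorem gl_eq_one {w : List ℕ} (hw : okW S w = true) (h : eqL (sev S w) id = true) : gl w = 1 := by
  rw [gl, act_eq_of_eqL (img_el good hw) img_one h, map_one]

theorem eqL_of_gl {w v : List ℕ} (hw : okW S w = true) (hv : okW S v = true) (h : gl w = gl v) :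
    eqL (sev S w) (sev S v) = true := (img_el good hw).eqL_self (img_el good hv) h

theorem eqL_of_gl_one {w : List ℕ} (hw : okW S w = true) (h : gl w = 1) :
    eqL (sev S w) id = true := (img_el good hw).eqL_self img_one (h.trans (map_one act).symm)

theorem gl_ne_one {w : List ℕ} (hw : okW S w = true) (h : eqL (sev S w) id = false) : gl w ≠ 1 :=
  fun e => by rw [eqL_of_gl_one hw e] at h; exact Bool.noConfusion h

theorem rep_letter {i : ℕ} (hi : i < 37) : ∃ σ ∈ GG, Rep σ (lt i).1 := by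
  obtain ⟨f, hf⟩ := good (lt i) (by
    rw [lt, List.getD_eq_getElem _ _ (letters_len ▸ hi)]; exact List.getElem_mem _)
  refine ⟨act f, range_eq ▸ ⟨f, rfl⟩, fun k => (hf.lineMap k).trans ?_⟩
  simp only [step, force_eq]
  rw [show 4 * (k : ℕ) / 4 = k by omega]
  omega

theorem permTabs_rep {ls : List ℕ} (h : ls.all (fun i => Nat.blt i 37) = true) :
    ∀ t ∈ permTabs ls, ∃ σ ∈ GG, Rep σ t := by
  intro t ht
  obtain ⟨i, hi, rfl⟩ := List.mem_map.mp ht
  exact rep_letter (Nat.blt_eq.mp (List.all_eq_true.mp h i hi))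

/-- The involution with fixed lines. -/
noncomputable def rb : Equiv.Perm (Fin NN) := gl [35]
/-- The involution without fixed lines. -/
noncomputable def bb : Equiv.Perm (Fin NN) := gl [36]
/-- The element of order five. -/
noncomputable def Xb : Equiv.Perm (Fin NN) := gl [34]

/-- A line with a number. -/
def pn (k : ℕ) (h : k < NN := by norm_num) : Fin NN := ⟨k, h⟩

theorem bb_no_fix (k : Fin NN) : bb k ≠ k := fun e => by
  have h := fix_ok
  simp only [fixOK, Bool.and_eq_true] at h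
  have h2 := allBelow_spec h.2 k k.2
  rw [bb] at e
  rw [← gl_apply rfl k, e] at h2
  simp at h2

theorem card_fix_rb : Nat.card {k : Fin NN // rb k = k} = 92 := by
  have h := fix_ok
  simp only [fixOK, force_eq, Bool.and_eq_true, decide_eq_true_eq, Nat.beq_eq, List.all_eq_true,
    Nat.blt_eq] at h
  obtain ⟨⟨⟨⟨⟨hn, hl⟩, hlt⟩, hfix⟩, hall⟩, -⟩ := h
  have hiff : ∀ k : Fin NN, rb k = k ↔ (k : ℕ) ∈ fixR := fun k => by
    constructor
    · intro e
      have h2 := allBelow_spec hall k k.2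
      rw [rb] at e
      rw [← gl_apply rfl k, e] at h2
      simp only [Nat.beq_eq, Bool.or_eq_true, Bool.not_eq_true'] at h2
      rcases h2 with h2 | h2
      · simp at h2
      · rw [bitOf_eq] at h2; exact mem_of_maskOf h2
    · intro e
      exact Fin.ext ((gl_apply rfl k).trans (hfix _ e))
  calc Nat.card {k : Fin NN // rb k = k} = Nat.card {k : ℕ // k ∈ fixR} :=
        Nat.card_congr
          { toFun := fun k => ⟨k.1, (hiff k.1).mp k.2⟩
            invFun := fun k => ⟨⟨k.1, hlt _ k.2⟩, (hiff _).mpr k.2⟩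
            left_inv := fun _ => rfl
            right_inv := fun _ => rfl }
    _ = 92 := by
      rw [← hl, ← List.toFinset_card_of_nodup hn, ← Nat.card_eq_finsetCard]
      exact Nat.card_congr (Equiv.subtypeEquivRight fun k => List.mem_toFinset.symm)

theorem noncomm : gl [8] * gl [10] ≠ gl [10] * gl [8] := fun e => by
  rw [← gl_append rfl rfl, ← gl_append rfl rfl] at e
  exact absurd (eqL_of_gl rfl rfl e) (by decide +kernel)

theorem simpleGG : IsSimpleGroup GG := isSimpleGroup_GG card_GG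

theorem normal_cases (M : Subgroup GG) [M.Normal] : M = ⊥ ∨ M = ⊤ :=
  haveI := simpleGG; Subgroup.Normal.eq_bot_or_eq_top inferInstance

theorem center_GG {σ : Equiv.Perm (Fin NN)} (hσ : σ ∈ GG) (h : ∀ τ ∈ GG, Commute σ τ) : σ = 1 := by
  rcases normal_cases (Subgroup.center GG) with e | e
  · have : (⟨σ, hσ⟩ : GG) ∈ Subgroup.center GG :=
      Subgroup.mem_center_iff.mpr fun τ => Subtype.ext (h τ τ.2).eq.symm
    rw [e, Subgroup.mem_bot] at this
    exact congrArg Subtype.val this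
  · refine absurd ?_ noncomm
    have : (⟨gl [8], gl_mem _⟩ : GG) ∈ Subgroup.center GG := e ▸ Subgroup.mem_top _
    exact (congrArg Subtype.val (Subgroup.mem_center_iff.mp this ⟨gl [10], gl_mem _⟩)).symm

theorem commutator_GG : ⁅GG, GG⁆ = GG := by
  rcases normal_cases (commutator GG) with e | e
  · refine absurd ?_ noncomm
    have h : ⁅(⟨gl [8], gl_mem _⟩ : GG), ⟨gl [10], gl_mem _⟩⁆ ∈ commutator GG :=
      Subgroup.commutator_mem_commutator (Subgroup.mem_top _) (Subgroup.mem_top _)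
    rw [e, Subgroup.mem_bot, commutatorElement_eq_one_iff_mul_comm] at h
    exact congrArg Subtype.val h
  · have h := congrArg (Subgroup.map GG.subtype) e
    rwa [commutator_def, Subgroup.map_commutator, ← MonoidHom.range_eq_map, Subgroup.range_subtype] at h

theorem sign_GG {σ : Equiv.Perm (Fin NN)} (hσ : σ ∈ GG) : Equiv.Perm.sign σ = 1 := by
  rcases normal_cases ((Equiv.Perm.sign).comp GG.subtype).ker with e | e
  · have h := Nat.card_le_card_of_injective _ ((MonoidHom.ker_eq_bot_iff _).mp e)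
    rw [card_GG, Nat.card_eq_fintype_card, Fintype.card_units_int] at h
    omega
  · have h := Subgroup.mem_top (⟨σ, hσ⟩ : GG)
    rw [← e] at h
    exact MonoidHom.mem_ker.mp h

/-! ### The involutions -/

theorem listEq_spec : ∀ {a b : List ℕ}, listEq a b = true → a = b
  | [], [], _ => rfl
  | a :: as, b :: bs, h => by
    simp only [listEq, Bool.and_eq_true, Nat.beq_eq] at h
    rw [h.1, listEq_spec h.2]
  | [], _ :: _, h => by simp [listEq] at h
  | _ :: _, [], h => by simp [listEq] at h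

theorem all2_spec {α β : Type} {f : α → β → Bool} : ∀ {a : List α} {b : List β}, all2 f a b = true →
    ∀ x ∈ a, ∃ y ∈ b, f x y = true
  | [], [], _, _, h => absurd h List.not_mem_nil
  | a :: as, b :: bs, h, x, hx => by
    simp only [all2, Bool.and_eq_true] at h
    rcases List.mem_cons.mp hx with rfl | hx
    · exact ⟨b, List.mem_cons_self, h.1⟩
    · obtain ⟨y, hy, hxy⟩ := all2_spec h.2 x hx
      exact ⟨y, List.mem_cons_of_mem _ hy, hxy⟩
  | [], _ :: _, h, _, _ => by simp [all2] at h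
  | _ :: _, [], h, _, _ => by simp [all2] at h

/-- The stabiliser of the two pairs, pointwise on three lines. -/
noncomputable def KK : Subgroup (Equiv.Perm (Fin NN)) := fixSub GG [3330, 2305, 0]

theorem trans_spec {w : List ℕ} (hw : w ∈ w3W ++ w4W) : okW S w = true ∧ line w 0 = 0 ∧
    line w 2305 = 2305 ∧ line w 3330 = 3330 ∧ line w 3843 = 3843 := by
  have h := trans_ok
  simp only [transOK, Bool.and_eq_true, List.all_eq_true, Nat.beq_eq] at h
  have := h.1.1.1.1.1 w hw
  exact ⟨this.1.1.1.1, this.1.1.1.2, this.1.1.2, this.1.2, this.2⟩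

theorem levels_H : ∀ l ∈ LH, ∀ t ∈ l.2.1, ∃ σ ∈ GG, Rep σ t := by
  simp only [LH, List.forall_mem_cons, List.not_mem_nil, IsEmpty.forall_iff, implies_true, and_true]
  exact ⟨permTabs_rep rfl, permTabs_rep rfl, permTabs_rep rfl, permTabs_rep rfl, permTabs_rep rfl⟩

theorem KK_facts : Nat.card KK = 2048 ∧
    (∀ σ ∈ KK, ∃ a ∈ w3W, ∃ b ∈ w4W, σ = gl (b ++ a)) := by
  have hc := chainH_ok
  have hsz := Nat.eq_of_beq_eq_true sizeH_ok
  have hT := levels_H
  have h0 : Nat.card (fixSub GG []) ≤ chainSize LH := by rw [fixSub_nil, card_GG, hsz]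
  rw [LH] at hc hT h0
  obtain ⟨-, c1⟩ := orbit_exact hc hT h0
  have hc1 := (Bool.and_eq_true_iff.mp hc).2
  have hT1 := fun m hm => hT m (List.mem_cons_of_mem _ hm)
  obtain ⟨-, c2⟩ := orbit_exact hc1 hT1 c1
  have hc2 := (Bool.and_eq_true_iff.mp hc1).2
  have hT2 := fun m hm => hT1 m (List.mem_cons_of_mem _ hm)
  obtain ⟨-, c3⟩ := orbit_exact hc2 hT2 c2
  have hc3 := (Bool.and_eq_true_iff.mp hc2).2
  have hT3 := fun m hm => hT2 m (List.mem_cons_of_mem _ hm)
  obtain ⟨o3, c4⟩ := orbit_exact hc3 hT3 c3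
  have hc4 := (Bool.and_eq_true_iff.mp hc3).2
  have hT4 := fun m hm => hT3 m (List.mem_cons_of_mem _ hm)
  obtain ⟨o4, c5⟩ := orbit_exact hc4 hT4 c4
  constructor
  · have hlow := chain_spec _ _ hc3 hT3
    have hs : chainSize [(1, permTabs [20, 21, 22, 23, 24, 25], esH3), (5, permTabs [26, 27, 28, 29], esH4)]
        = 2048 := by
      have : Nat.beq (chainSize [(1, permTabs [20, 21, 22, 23, 24, 25], esH3),
        (5, permTabs [26, 27, 28, 29], esH4)]) 2048 = true := by decide +kernel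
      exact Nat.eq_of_beq_eq_true this
    rw [hs] at c3 hlow
    exact le_antisymm c3 (le_trans (Nat.le_mul_of_pos_right _ Nat.card_pos) hlow)
  · intro σ hσ
    have hlist := trans_ok
    simp only [transOK, Bool.and_eq_true, List.all_eq_true, Nat.beq_eq] at hlist
    obtain ⟨⟨⟨⟨-, hw4one⟩, h3⟩, h4⟩⟩ :=
      (⟨⟨⟨⟨trivial, hlist.1.1.1.1.2⟩, listEq_spec hlist.1.1.2⟩, listEq_spec hlist.1.2⟩⟩ :
        PLift (((True ∧ ∀ w ∈ w4W, line w 1 = 1) ∧ (w3W.map fun w => line w 1) = 1 :: pts esH3) ∧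
          (w4W.map fun w => line w 5) = 5 :: pts esH4))
    have m3 := o3 σ hσ (pn 1) rfl
    rw [← h3, List.mem_map] at m3
    obtain ⟨a, ha, hla⟩ := m3
    obtain ⟨hao, ha0, ha1, ha2, -⟩ := trans_spec (List.mem_append_left _ ha)
    have haK : gl a ∈ fixSub GG [3330, 2305, 0] := ⟨gl_mem _, fun k hk => by
      refine Fin.ext ((gl_apply hao k).trans ?_)
      simp only [List.mem_cons, List.not_mem_nil, or_false] at hk
      rcases hk with e | e | e <;> rw [e] <;> assumption⟩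
    have hρ : (gl a)⁻¹ * σ ∈ fixSub GG [1, 3330, 2305, 0] := by
      have hm := mul_mem (inv_mem haK) hσ
      refine ⟨hm.1, fun k hk => ?_⟩
      rcases List.mem_cons.mp hk with hk | hk
      · obtain rfl : k = pn 1 := Fin.ext hk
        rw [Equiv.Perm.mul_apply, Equiv.Perm.inv_eq_iff_eq]
        exact Fin.ext ((hla.symm.trans (gl_apply hao (pn 1)).symm))
      · exact hm.2 k hk
    have m4 := o4 _ hρ (pn 5) rfl
    rw [← h4, List.mem_map] at m4
    obtain ⟨b, hb, hlb⟩ := m4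
    obtain ⟨hbo, hb0, hb1, hb2, -⟩ := trans_spec (List.mem_append_right _ hb)
    have hbK : gl b ∈ fixSub GG [1, 3330, 2305, 0] := ⟨gl_mem _, fun k hk => by
      refine Fin.ext ((gl_apply hbo k).trans ?_)
      have h11 := hw4one b hb
      simp only [List.mem_cons, List.not_mem_nil, or_false] at hk
      rcases hk with e | e | e | e <;> rw [e] <;> assumption⟩
    have hlast : (gl b)⁻¹ * ((gl a)⁻¹ * σ) ∈ fixSub GG [5, 1, 3330, 2305, 0] := by
      have hm := mul_mem (inv_mem hbK) hρ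
      refine ⟨hm.1, fun k hk => ?_⟩
      rcases List.mem_cons.mp hk with hk | hk
      · obtain rfl : k = pn 5 := Fin.ext hk
        rw [Equiv.Perm.mul_apply, Equiv.Perm.inv_eq_iff_eq]
        exact Fin.ext ((hlb.symm.trans (gl_apply hbo (pn 5)).symm))
      · exact hm.2 k hk
    have hbot := Subgroup.card_eq_one.mp (le_antisymm (c5.trans_eq rfl) Nat.card_pos)
    rw [hbot, Subgroup.mem_bot, inv_mul_eq_one] at hlast
    exact ⟨a, ha, b, hb, by rw [gl_append hbo hao, hlast, mul_inv_cancel_left]⟩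

/-- The four cosets: images of two lines. -/
def tgt (i : ℕ) : ℕ × ℕ := [(0, 3330), (0, 3843), (2305, 3330), (2305, 3843)].getD i (0, 0)

/-- A coset representative. -/
noncomputable def hw (i : ℕ) : List ℕ := hsW.getD i []

theorem cos_ok : allBelow (fun i => okW S (hw i) && Nat.beq (line (hw i) 0) (tgt i).1 &&
    Nat.beq (line (hw i) 2305) (2305 - (tgt i).1) && Nat.beq (line (hw i) 3330) (tgt i).2 &&
    Nat.beq (line (hw i) 3843) (7173 - (tgt i).2)) 4 = true := by decide +kernel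

theorem cos_spec (i : Fin 4) : okW S (hw i) = true ∧ (gl (hw i) (pn 0) : ℕ) = (tgt i).1 ∧
    (gl (hw i) (pn 2305) : ℕ) = 2305 - (tgt i).1 ∧ (gl (hw i) (pn 3330) : ℕ) = (tgt i).2 ∧
    (gl (hw i) (pn 3843) : ℕ) = 7173 - (tgt i).2 := by
  have h := allBelow_spec cos_ok i i.2
  simp only [Bool.and_eq_true, Nat.beq_eq] at h
  obtain ⟨⟨⟨⟨h0, h1⟩, h2⟩, h3⟩, h4⟩ := h
  exact ⟨h0, (gl_apply h0 _).trans h1, (gl_apply h0 _).trans h2, (gl_apply h0 _).trans h3,
    (gl_apply h0 _).trans h4⟩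

/-- Belongs to a pair. -/
def inPair (a b : ℕ) (k : Fin NN) : Prop := (k : ℕ) = a ∨ (k : ℕ) = b

theorem pair_iff {σ : Equiv.Perm (Fin NN)} {a b : ℕ} (ha : a < NN) (hb : b < NN) (hab : a ≠ b)
    (h1 : inPair a b (σ ⟨a, ha⟩)) (h2 : inPair a b (σ ⟨b, hb⟩)) (k : Fin NN) :
    inPair a b k ↔ inPair a b (σ k) := by
  have hne : σ ⟨a, ha⟩ ≠ σ ⟨b, hb⟩ := fun e => hab (congrArg Fin.val (σ.injective e))
  constructor
  · rintro (h | h)
    · rwa [show k = ⟨a, ha⟩ from Fin.ext h]
    · rwa [show k = ⟨b, hb⟩ from Fin.ext h]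
  · intro h
    have hne' : (σ ⟨a, ha⟩ : ℕ) ≠ (σ ⟨b, hb⟩ : ℕ) := fun e => hne (Fin.ext e)
    have : σ k = σ ⟨a, ha⟩ ∨ σ k = σ ⟨b, hb⟩ := by
      unfold inPair at h h1 h2
      rcases h with h | h <;> rcases h1 with h1 | h1 <;> rcases h2 with h2 | h2 <;>
        first
        | exact Or.inl (Fin.ext (h.trans h1.symm))
        | exact Or.inr (Fin.ext (h.trans h2.symm))
        | exact absurd (h1.trans h2.symm) hne'
    rcases this with e | e
    · exact Or.inl (congrArg Fin.val (σ.injective e))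
    · exact Or.inr (congrArg Fin.val (σ.injective e))

/-- The stabiliser of the two pairs. -/
noncomputable def HH : Subgroup (Equiv.Perm (Fin NN)) where
  carrier := {σ | σ ∈ GG ∧ ∀ k, (inPair 0 2305 k ↔ inPair 0 2305 (σ k)) ∧
    (inPair 3330 3843 k ↔ inPair 3330 3843 (σ k))}
  one_mem' := ⟨one_mem _, fun _ => ⟨Iff.rfl, Iff.rfl⟩⟩
  mul_mem' := fun {a b} ha hb => ⟨mul_mem ha.1 hb.1, fun k =>
    ⟨(hb.2 k).1.trans (ha.2 (b k)).1, (hb.2 k).2.trans (ha.2 (b k)).2⟩⟩
  inv_mem' := fun {a} ha => ⟨inv_mem ha.1, fun k => by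
    have h := ha.2 (a⁻¹ k)
    rw [Equiv.Perm.coe_inv, Equiv.apply_symm_apply] at h
    exact ⟨h.1.symm, h.2.symm⟩⟩

theorem hw_mem (i : Fin 4) : gl (hw i) ∈ HH := by
  obtain ⟨-, h1, h2, h3, h4⟩ := cos_spec i
  refine ⟨gl_mem _, fun k => ⟨pair_iff (by norm_num) (by norm_num) (by norm_num) ?_ ?_ k,
    pair_iff (by norm_num) (by norm_num) (by norm_num) ?_ ?_ k⟩⟩ <;> unfold inPair
  · rw [show (gl (hw i) ⟨0, _⟩ : ℕ) = _ from h1]; fin_cases i <;> simp [tgt]
  · rw [show (gl (hw i) ⟨2305, _⟩ : ℕ) = _ from h2]; fin_cases i <;> simp [tgt]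
  · rw [show (gl (hw i) ⟨3330, _⟩ : ℕ) = _ from h3]; fin_cases i <;> simp [tgt]
  · rw [show (gl (hw i) ⟨3843, _⟩ : ℕ) = _ from h4]; fin_cases i <;> simp [tgt]

theorem KK_le : KK ≤ HH := by
  intro σ hσ
  obtain ⟨a, ha, b, hb, e⟩ := KK_facts.2 σ hσ
  obtain ⟨hao, -, -, -, ha4⟩ := trans_spec (List.mem_append_left _ ha)
  obtain ⟨hbo, -, -, -, hb4⟩ := trans_spec (List.mem_append_right _ hb)
  have hy : σ (pn 3843) = pn 3843 := by
    have e1 : gl b (pn 3843) = pn 3843 := Fin.ext ((gl_apply hbo _).trans hb4)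
    have e2 : gl a (pn 3843) = pn 3843 := Fin.ext ((gl_apply hao _).trans ha4)
    rw [e, gl_append hbo hao, Equiv.Perm.mul_apply, e1, e2]
  have f0 : σ (pn 0) = pn 0 := hσ.2 _ (by simp [pn])
  have f1 : σ (pn 2305) = pn 2305 := hσ.2 _ (by simp [pn])
  have f2 : σ (pn 3330) = pn 3330 := hσ.2 _ (by simp [pn])
  refine ⟨hσ.1, fun k => ⟨pair_iff (by norm_num) (by norm_num) (by norm_num) ?_ ?_ k,
    pair_iff (by norm_num) (by norm_num) (by norm_num) ?_ ?_ k⟩⟩
  · exact Or.inl (congrArg Fin.val f0)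
  · exact Or.inr (congrArg Fin.val f1)
  · exact Or.inl (congrArg Fin.val f2)
  · exact Or.inr (congrArg Fin.val hy)

theorem HH_decomp {σ : Equiv.Perm (Fin NN)} (hσ : σ ∈ HH) :
    ∃ i : Fin 4, (gl (hw i))⁻¹ * σ ∈ KK := by
  obtain ⟨i, hi1, hi3⟩ : ∃ i : Fin 4, (σ (pn 0) : ℕ) = (tgt i).1 ∧ (σ (pn 3330) : ℕ) = (tgt i).2 := by
    rcases (hσ.2 (pn 0)).1.mp (Or.inl rfl) with a | a <;>
      rcases (hσ.2 (pn 3330)).2.mp (Or.inl rfl) with c | c
    exacts [⟨0, a, c⟩, ⟨1, a, c⟩, ⟨2, a, c⟩, ⟨3, a, c⟩]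
  obtain ⟨-, h1, h2, h3, -⟩ := cos_spec i
  have hne : (σ (pn 2305) : ℕ) ≠ (σ (pn 0) : ℕ) := fun e =>
    absurd (congrArg Fin.val (σ.injective (Fin.ext e))) (by simp [pn])
  have hi2 : (σ (pn 2305) : ℕ) = 2305 - (tgt i).1 := by
    have ht : (tgt i).1 = 0 ∨ (tgt i).1 = 2305 := by fin_cases i <;> simp [tgt]
    rcases (hσ.2 (pn 2305)).1.mp (Or.inr rfl) with a | a <;>
      rw [hi1] at hne <;> omega
  refine ⟨i, ⟨mul_mem (inv_mem (gl_mem _)) hσ.1, fun k hk => ?_⟩⟩
  rw [Equiv.Perm.mul_apply, Equiv.Perm.inv_eq_iff_eq]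
  rcases List.mem_cons.mp hk with hk | hk
  · obtain rfl : k = pn 3330 := Fin.ext hk
    exact Fin.ext (hi3.trans h3.symm)
  rcases List.mem_cons.mp hk with hk | hk
  · obtain rfl : k = pn 2305 := Fin.ext hk
    exact Fin.ext (hi2.trans h2.symm)
  · obtain rfl : k = pn 0 := Fin.ext (List.mem_singleton.mp hk)
    exact Fin.ext (hi1.trans h1.symm)

theorem card_HH : Nat.card HH = 8192 := by
  let f : Fin 4 × KK → HH := fun p => ⟨gl (hw p.1) * p.2, mul_mem (hw_mem p.1) (KK_le p.2.2)⟩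
  have hf : Function.Bijective f := by
    constructor
    · rintro ⟨i, k⟩ ⟨j, l⟩ e
      have e' : gl (hw i) * (k : Equiv.Perm (Fin NN)) = gl (hw j) * l := congrArg Subtype.val e
      have hij : i = j := by
        obtain ⟨-, a1, -, a3, -⟩ := cos_spec i
        obtain ⟨-, b1, -, b3, -⟩ := cos_spec j
        have e0 := congrArg (fun s : Equiv.Perm (Fin NN) => (s (pn 0) : ℕ)) e'
        have e3 := congrArg (fun s : Equiv.Perm (Fin NN) => (s (pn 3330) : ℕ)) e'
        simp only [Equiv.Perm.mul_apply] at e0 e3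
        rw [k.2.2 _ (by simp [pn]), l.2.2 _ (by simp [pn]), a1, b1] at e0
        rw [k.2.2 _ (by simp [pn]), l.2.2 _ (by simp [pn]), a3, b3] at e3
        have key : ∀ i j : Fin 4, (tgt i).1 = (tgt j).1 → (tgt i).2 = (tgt j).2 → i = j := by decide
        exact key i j e0 e3
      subst hij
      rw [Subtype.ext (mul_left_cancel e')]
    · rintro ⟨σ, hσ⟩
      obtain ⟨i, hi⟩ := HH_decomp hσ
      exact ⟨(i, ⟨_, hi⟩), Subtype.ext (mul_inv_cancel_left _ _)⟩
  rw [← Nat.card_eq_of_bijective f hf, Nat.card_prod, Nat.card_fin, KK_facts.1]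

theorem coset_check (i : Fin 4) : cosetOK (hw i) (witW.getD i []) = true := by
  fin_cases i
  exacts [coset0_ok, coset1_ok, coset2_ok, coset3_ok]

theorem invol_in_HH {σ : Equiv.Perm (Fin NN)} (hσ : σ ∈ HH) (h2 : σ * σ = 1) (h1 : σ ≠ 1) :
    ∃ τ ∈ GG, τ * σ * τ⁻¹ = rb ∨ τ * σ * τ⁻¹ = bb := by
  obtain ⟨i, hi⟩ := HH_decomp hσ
  obtain ⟨a, ha, b, hb, e⟩ := KK_facts.2 _ hi
  obtain ⟨hao, -⟩ := trans_spec (List.mem_append_left _ ha)
  obtain ⟨hbo, -⟩ := trans_spec (List.mem_append_right _ hb)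
  obtain ⟨hho, -⟩ := cos_spec i
  set w := b ++ a ++ hw i with hwdef
  have hwo : okW S w = true := okW_append.mpr ⟨okW_append.mpr ⟨hbo, hao⟩, hho⟩
  have hσw : σ = gl w := by
    rw [hwdef, gl_append (okW_append.mpr ⟨hbo, hao⟩) hho, ← e, mul_inv_cancel_left]
  obtain ⟨ws', -, h'⟩ := all2_spec (coset_check i) a ha
  obtain ⟨c, -, hc⟩ := all2_spec h' b hb
  have hww : okW S (w ++ w) = true := okW_append.mpr ⟨hwo, hwo⟩
  have e2 : gl (w ++ w) = 1 := by rw [gl_append hwo hwo, ← hσw, h2]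
  have l1 : line (w ++ w) 1 = 1 := by
    have := gl_apply hww (pn 1)
    rw [e2] at this
    exact this.symm
  rw [← hwdef] at hc
  simp only [involOK, l1, Nat.beq_refl, eqL_of_gl_one hww e2, Bool.not_true, Bool.false_or,
    Bool.or_eq_true, Bool.and_eq_true] at hc
  rcases hc with hc | ⟨hco, hc⟩
  · exact absurd (hσw.trans (gl_eq_one hwo hc)) h1
  refine ⟨gl c, gl_mem c, hc.imp (fun hc => ?_) fun hc => ?_⟩
  all_goals
    have e3 := gl_eq (okW_append.mpr ⟨hwo, hco⟩) (okW_append.mpr ⟨hco, rfl⟩) hc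
    rw [gl_append hwo hco, gl_append hco rfl, ← hσw] at e3
    rw [e3, mul_inv_cancel_right]
    rfl

/-- Every involution is conjugate to one of the two. -/
theorem invol_class {σ : Equiv.Perm (Fin NN)} (hσ : σ ∈ GG) (h2 : σ * σ = 1) (h1 : σ ≠ 1) :
    ∃ τ ∈ GG, τ * σ * τ⁻¹ = rb ∨ τ * σ * τ⁻¹ = bb := by
  haveI : Fact (Nat.Prime 2) := ⟨Nat.prime_two⟩
  set Q := HH.subgroupOf GG with hQdef
  have hle : HH ≤ GG := fun _ h => h.1
  have hQc : Nat.card Q = 8192 :=
    (Nat.card_congr (Subgroup.subgroupOfEquivOfLe hle).toEquiv).trans card_HH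
  obtain ⟨P, hQP⟩ := (IsPGroup.of_card (p := 2) (n := 13) (by rw [hQc]; norm_num) : IsPGroup 2 Q).exists_le_sylow
  have hPc : Nat.card (P : Subgroup GG) = 16384 := by
    rw [P.card_eq_multiplicity, card_GG, show 145926144000 = 2 ^ 14 * 8906625 by norm_num,
      Nat.factorization_mul (by norm_num) (by norm_num), Finsupp.add_apply,
      Nat.Prime.factorization_pow Nat.prime_two, Finsupp.single_eq_same,
      Nat.factorization_eq_zero_of_not_dvd (show ¬ 2 ∣ 8906625 by norm_num)]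
    norm_num
  have hrel : Q.relIndex (P : Subgroup GG) = 2 := by
    have h := Subgroup.index_mul_card (Q.subgroupOf (P : Subgroup GG))
    rw [Nat.card_congr (Subgroup.subgroupOfEquivOfLe hQP).toEquiv, hQc, hPc] at h
    show (Q.subgroupOf (P : Subgroup GG)).index = 2
    omega
  set x : GG := ⟨σ, hσ⟩
  have hx : orderOf x = 2 := orderOf_eq_prime (by rw [sq]; exact Subtype.ext h2)
    fun e => h1 (congrArg Subtype.val e)
  obtain ⟨P', hP'⟩ := (IsPGroup.of_card (p := 2) (n := 1)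
    (by rw [Nat.card_zpowers, hx, pow_one]) : IsPGroup 2 (Subgroup.zpowers x)).exists_le_sylow
  obtain ⟨g, hg⟩ := MulAction.exists_smul_eq GG P' P
  have hgP : g * x * g⁻¹ ∈ (P : Subgroup GG) := by
    rw [← hg]
    exact ⟨x, hP' (Subgroup.mem_zpowers x), rfl⟩
  by_cases hex : ∃ k : GG, k * (g * x * g⁻¹) * k⁻¹ ∈ Q
  · obtain ⟨k, hk⟩ := hex
    set y : GG := k * (g * x * g⁻¹) * k⁻¹ with hy
    have hy2 : y * y = 1 := by
      rw [hy]
      calc k * (g * x * g⁻¹) * k⁻¹ * (k * (g * x * g⁻¹) * k⁻¹) = k * g * (x * x) * g⁻¹ * k⁻¹ := by group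
        _ = 1 := by rw [show x * x = 1 from Subtype.ext h2]; group
    have hy1 : y ≠ 1 := fun e => h1 (congrArg Subtype.val (show x = 1 by
      calc x = g⁻¹ * k⁻¹ * y * k * g := by rw [hy]; group
        _ = 1 := by rw [e]; group))
    obtain ⟨τ, hτ, hcase⟩ := invol_in_HH (σ := y) (Subgroup.mem_subgroupOf.mp hk)
      (congrArg Subtype.val hy2) (fun e => hy1 (Subtype.ext e))
    refine ⟨τ * (k : Equiv.Perm (Fin NN)) * g, mul_mem (mul_mem hτ k.2) g.2, ?_⟩
    have e : τ * (k : Equiv.Perm (Fin NN)) * g * σ * (τ * k * g)⁻¹ = τ * y * τ⁻¹ := by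
      rw [hy]; simp only [Subgroup.coe_mul, Subgroup.coe_inv]; group; rfl
    rw [e]; exact hcase
  · simp only [not_exists] at hex
    have hu : orderOf (g * x * g⁻¹) = 2 := by
      rw [← hx]; exact orderOf_injective (MulAut.conj g).toMonoidHom (MulAut.conj g).injective x
    obtain ⟨M, hM, hMi, -⟩ := TransferThompson.thompson_transfer P Q hQP hrel hu hgP hex
    haveI := hM
    rcases normal_cases M with rfl | rfl
    · rw [Subgroup.index_bot, card_GG] at hMi; omega
    · rw [Subgroup.index_top] at hMi; omega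

/-- A fixed point free square forces an odd permutation. -/
theorem sq_fix {σ : Equiv.Perm (Fin NN)} (hσ : σ ∈ GG) (h4 : σ ^ 4 = 1)
    (hfree : ∀ k, (σ ^ 2) k ≠ k) : False := by
  have hsupp : σ.support = Finset.univ := Finset.eq_univ_iff_forall.mpr fun k => by
    rw [Equiv.Perm.mem_support]
    intro e
    exact hfree k (by rw [sq, Equiv.Perm.mul_apply, e, e])
  have hall : ∀ L ∈ σ.cycleType, L = 4 := by
    intro L hL
    have hdvd : L ∣ 4 := (Equiv.Perm.dvd_of_mem_cycleType hL).trans (orderOf_dvd_of_pow_eq_one h4)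
    have h2 := Equiv.Perm.two_le_of_mem_cycleType hL
    have hle : L ≤ 4 := Nat.le_of_dvd (by norm_num) hdvd
    by_contra hne
    have hL2 : L = 2 := by
      interval_cases L
      · rfl
      · norm_num at hdvd
      · exact absurd rfl hne
    obtain ⟨c, τ, rfl, hd, hc, hcard⟩ := Equiv.Perm.mem_cycleType_iff.mp hL
    obtain ⟨k, hk⟩ := hc.nonempty_support
    have hcc : c ^ 2 = 1 := by
      have := pow_orderOf_eq_one c
      rwa [hc.orderOf, hcard, hL2] at this
    have hτ : τ k = k := (hd k).resolve_left (Equiv.Perm.mem_support.mp hk)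
    refine hfree k ?_
    rw [hd.commute.mul_pow, Equiv.Perm.mul_apply, sq τ, Equiv.Perm.mul_apply, hτ, hτ, hcc]
    rfl
  obtain ⟨m, hrep⟩ : ∃ m, σ.cycleType = Multiset.replicate m 4 :=
    ⟨_, Multiset.eq_replicate_card.mpr hall⟩
  have hsum := Equiv.Perm.sum_cycleType σ
  rw [hsupp, Finset.card_univ, Fintype.card_fin, hrep, Multiset.sum_replicate, smul_eq_mul] at hsum
  have hm : m = 1015 := by
    have : m * 4 = 4060 := hsum
    omega
  have hs := Equiv.Perm.sign_of_cycleType σ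
  rw [sign_GG hσ, hrep, Multiset.sum_replicate, Multiset.card_replicate, smul_eq_mul, hm] at hs
  norm_num at hs

/-! ### Elements of order five -/

/-- The stabiliser of the first line. -/
noncomputable def G0 : Subgroup (Equiv.Perm (Fin NN)) := fixSub GG [0]

theorem mem_G0 {σ : Equiv.Perm (Fin NN)} : σ ∈ G0 ↔ σ ∈ GG ∧ σ (pn 0) = pn 0 :=
  ⟨fun h => ⟨h.1, h.2 _ (by simp [pn])⟩, fun h => ⟨h.1, fun k hk => by
    obtain rfl : k = pn 0 := Fin.ext (List.mem_singleton.mp hk)
    exact h.2⟩⟩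

theorem levels_C : ∀ l ∈ LC, ∀ t ∈ l.tab, ∃ σ ∈ G0, Rep σ t := by
  have pre : ∀ ls : List ℕ, ls.all (fun i => Nat.blt i 37) = true →
      preOK [0] (permTabs ls) = true → ∀ t ∈ permTabs ls, ∃ σ ∈ G0, Rep σ t := fun ls h1 h2 =>
    fix_tab (permTabs_rep h1) h2
  simp only [LC, List.forall_mem_cons, List.not_mem_nil, IsEmpty.forall_iff, implies_true, and_true]
  exact ⟨pre _ rfl (by decide +kernel), pre _ rfl (by decide +kernel), pre _ rfl (by decide +kernel)⟩

theorem levels_C' : ∀ l ∈ LC.map Lvl.level, ∀ t ∈ l.2.1, ∃ σ ∈ G0, Rep σ t := by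
  intro l hl
  obtain ⟨m, hm, rfl⟩ := List.mem_map.mp hl
  exact levels_C m hm

theorem card_G0 : Nat.card G0 = 35942400 := by
  refine le_antisymm ?_ ?_
  · have hc := chainH_ok
    have hsz := Nat.eq_of_beq_eq_true sizeH_ok
    have h0 : Nat.card (fixSub GG []) ≤ chainSize LH := by rw [fixSub_nil, card_GG, hsz]
    have hT := levels_H
    rw [LH] at hc hT h0
    obtain ⟨-, c1⟩ := orbit_exact hc hT h0
    refine c1.trans (Nat.le_of_eq ?_)
    have : Nat.beq (chainSize [(2305, permTabs [12, 13, 14, 15], esH1),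
        (3330, permTabs [16, 17, 18, 19], esH2), (1, permTabs [20, 21, 22, 23, 24, 25], esH3),
        (5, permTabs [26, 27, 28, 29], esH4)]) 35942400 = true := by decide +kernel
    exact Nat.eq_of_beq_eq_true this
  · rw [← Nat.eq_of_beq_eq_true sizeC_ok]
    exact le_card chainC_ok levels_C'

theorem ev_line {w : List ℕ} (hw : ∀ l ∈ w, 12 ≤ l ∧ l < 35) : ∀ x : ℕ,
    ev T12 (w.map fun l => l - 12) (x / 4) = sev S w x / 4 := by
  induction w with
  | nil => intro x; rfl
  | cons l w ih =>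
    intro x
    obtain ⟨h1, h2⟩ := hw l List.mem_cons_self
    have hlen := letters_len
    have e : T12.getD (l - 12) (PT.leaf 0) = (lt l).1 := by
      have hl : l - 12 < T12.length := by simp [T12, hlen]; omega
      rw [List.getD_eq_getElem _ _ hl, lt, List.getD_eq_getElem _ _ (by omega)]
      simp only [T12, List.getElem_map, List.getElem_take, List.getElem_drop]
      congr 2; omega
    have e2 : get (lt l).1 (x / 4) = step (lt l) x / 4 := by
      simp only [step, force_eq]; omega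
    rw [List.map_cons, ev, force_eq, e, sev, force_eq, e2, ih fun m hm => hw m (List.mem_cons_of_mem _ hm)]
    rfl

theorem preC_spec {c : List ℕ} (hc : c ∈ candW) : ∀ l ∈ c, 12 ≤ l ∧ l < 35 := by
  have h := preC_ok
  simp only [preC, Bool.and_eq_true, List.all_eq_true, Nat.ble_eq, Nat.blt_eq] at h
  exact fun l hl => h.2 c hc l hl

theorem T12_rep : ∀ t ∈ T12, ∃ σ ∈ G0, Rep σ t := by
  refine fix_tab (fun t ht => ?_) ?_
  · simp only [T12, List.mem_map] at ht
    obtain ⟨q, hq, rfl⟩ := ht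
    obtain ⟨i, hi, rfl⟩ := List.getElem_of_mem (List.mem_of_mem_drop (List.mem_of_mem_take hq))
    have := rep_letter (letters_len ▸ hi)
    rwa [lt, List.getD_eq_getElem _ _ hi] at this
  · have h := preC_ok
    simp only [preC, Bool.and_eq_true, List.all_eq_true, Nat.beq_eq] at h
    simp only [preOK, List.all_eq_true, Nat.beq_eq, List.mem_singleton, forall_eq]
    exact h.1

theorem rep_Xb : Rep Xb (lt 34).1 := fun k => by
  rw [Xb, gl_apply rfl k, line]
  simp only [sev, force_eq, step]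
  rw [show 4 * (k : ℕ) / 4 = k by omega, show lt 34 = S.getD 34 (PT.leaf 0, PT.leaf 0) from rfl]
  omega

theorem cent0 {g : Equiv.Perm (Fin NN)} (hg : g ∈ G0) (hgc : Commute g Xb) :
    ∃ c ∈ candW, g = gl c := by
  have hl := linkC_ok
  rw [Bool.and_eq_true] at hl
  have hcard : Nat.card G0 ≤ chainSize (LC.map Lvl.level) :=
    (card_G0.trans (Nat.eq_of_beq_eq_true sizeC_ok).symm).le
  have ha := cent_ok (g (pn 2305)) (g (pn 2305)).2
  rw [Bool.or_eq_true, Bool.and_eq_true, Nat.blt_eq, Nat.beq_eq] at ha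
  rcases ha with ⟨hk, hka⟩ | hbad
  · have hk' : get candT (g (pn 2305)) < candW.length := by rwa [cands, List.length_map] at hk
    set c := candW[get candT (g (pn 2305))] with hcdef
    have hcm : c ∈ candW := List.getElem_mem _
    have hcc : cands.getD (get candT (g (pn 2305))) [] = c.map fun l => l - 12 := by
      rw [List.getD_eq_getElem _ _ hk]
      simp [cands, hcdef]
    have hco := cands_ok
    simp only [candsOK, Bool.and_eq_true, List.all_eq_true] at hco
    obtain ⟨hcoW, hcomm⟩ := hco.2 c hcm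
    have hσe : Commute (gl c) Xb := by
      have e := gl_eq (okW_append.mpr ⟨hcoW, rfl⟩) (okW_append.mpr ⟨rfl, hcoW⟩) hcomm
      rw [gl_append hcoW rfl, gl_append rfl hcoW] at e
      exact e.symm
    have him : gl c (pn 2305) = g (pn 2305) := Fin.ext (by
      rw [gl_apply hcoW, line, ← ev_line (preC_spec hcm), ← hka, hcc]
      rfl)
    have hσ0 : gl c ∈ G0 := by
      obtain ⟨σ, hσ, hσr⟩ := exists_word T12_rep (c.map fun l => l - 12) (fun l hl => by
        obtain ⟨m, hm, rfl⟩ := List.mem_map.mp hl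
        have := preC_spec hcm m hm
        simp [T12, letters_len]; omega)
      refine mem_G0.mpr ⟨gl_mem _, Fin.ext ((gl_apply hcoW _).trans ?_)⟩
      rw [line, ← ev_line (preC_spec hcm), show 4 * ((pn 0 : Fin NN) : ℕ) / 4 = ((pn 0 : Fin NN) : ℕ) by rfl,
        ← hσr, (mem_G0.mp hσ).2]
    refine ⟨c, hcm, ?_⟩
    have hfix : (gl c)⁻¹ * g = 1 := by
      refine fix_eq_bot chainC_ok levels_C' hcard (mul_mem (inv_mem hσ0) hg)
        (linked_fix rep_Xb (hσe.inv_left.mul_left hgc) LC (pn 2305) hl.1 ?_)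
      rw [Equiv.Perm.mul_apply, Equiv.Perm.inv_eq_iff_eq]
      exact him.symm
    exact (inv_mul_eq_one.mp hfix).symm
  · exact (bad_spec rep_Xb hgc LC [] [] 1 (pn 2305) _ chainC_ok levels_C hl.2 hl.1
      (by rwa [fixSub_nil]) (by rw [one_mul, fixSub_nil]; exact hg) (fun _ => rfl) rfl hbad).elim

theorem cent_invol {g : Equiv.Perm (Fin NN)} (hg : g ∈ GG) (hgc : Commute g Xb) (h2 : g * g = 1)
    (h1 : g ≠ 1) : ∃ v ∈ invW, g = gl v := by
  have h := fixX_ok
  simp only [fixXOK, force_eq, Bool.and_eq_true, List.all_eq_true] at h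
  obtain ⟨⟨⟨⟨hfix, hreps⟩, hrep⟩, hcok⟩, hiok⟩ := h
  have hX0 : Xb (pn 0) = pn 0 := by
    have h := p5_ok
    simp only [p5OK, Bool.and_eq_true, Nat.beq_eq] at h
    exact Fin.ext ((gl_apply rfl _).trans h.1.1.2)
  have hfx : Xb (g (pn 0)) = g (pn 0) := by
    rw [← Equiv.Perm.mul_apply, ← hgc.eq, Equiv.Perm.mul_apply, hX0]
  have hmem : (g (pn 0) : ℕ) ∈ fixX := by
    have h3 := allBelow_spec hfix _ (g (pn 0)).2
    rw [← gl_apply rfl (g (pn 0))] at h3
    rw [show gl [34] (g (pn 0)) = g (pn 0) from hfx] at h3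
    simp only [Nat.beq_refl, Bool.not_true, Bool.false_or, bitOf_eq] at h3
    exact mem_of_maskOf h3
  rw [← listEq_spec hreps, List.mem_map] at hmem
  obtain ⟨w, hw, hw0⟩ := hmem
  obtain ⟨hwo, hwc⟩ := hrep w hw
  have hwX : Commute (gl w) Xb := by
    have e := gl_eq (okW_append.mpr ⟨hwo, rfl⟩) (okW_append.mpr ⟨rfl, hwo⟩) hwc
    rw [gl_append hwo rfl, gl_append rfl hwo] at e
    exact e.symm
  have hw0' : gl w (pn 0) = g (pn 0) := Fin.ext ((gl_apply hwo _).trans hw0)
  have hloc : (gl w)⁻¹ * g ∈ G0 := mem_G0.mpr ⟨mul_mem (inv_mem (gl_mem _)) hg, by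
    rw [Equiv.Perm.mul_apply, Equiv.Perm.inv_eq_iff_eq, hw0']⟩
  obtain ⟨c, hc, e⟩ := cent0 hloc (hwX.inv_left.mul_left hgc)
  have hco := hcok c hc
  have hcw : okW S (c ++ w) = true := okW_append.mpr ⟨hco, hwo⟩
  have hgcw : g = gl (c ++ w) := by rw [gl_append hco hwo, ← e, mul_inv_cancel_left]
  have hi := involX_ok
  simp only [involXOK, List.all_eq_true] at hi
  have hi' := hi w hw c hc
  have hww : okW S ((c ++ w) ++ (c ++ w)) = true := okW_append.mpr ⟨hcw, hcw⟩
  have e2 : gl ((c ++ w) ++ (c ++ w)) = 1 := by rw [gl_append hcw hcw, ← hgcw, h2]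
  rw [eqL_of_gl_one hww e2, Bool.not_true, Bool.false_or, Bool.or_eq_true, List.any_eq_true] at hi'
  rcases hi' with hi' | ⟨v, hv, hi'⟩
  · exact absurd (hgcw.trans (gl_eq_one hcw hi')) h1
  · exact ⟨v, hv, hgcw.trans (gl_eq hcw (hiok v hv) hi')⟩

theorem pair_contra {g h : Equiv.Perm (Fin NN)} (hg : g ∈ GG) (hh : h ∈ GG) (hgc : Commute g Xb)
    (hhc : Commute h Xb) (hg2 : g * g = 1) (hg1 : g ≠ 1) (hh2 : h * h = 1) (hh1 : h ≠ 1)
    (hgh : Commute g h) : g = h := by
  obtain ⟨u, hu, rfl⟩ := cent_invol hg hgc hg2 hg1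
  obtain ⟨v, hv, rfl⟩ := cent_invol hh hhc hh2 hh1
  have hio := fixX_ok
  simp only [fixXOK, Bool.and_eq_true, List.all_eq_true] at hio
  have hp := pairs_ok
  simp only [pairsOK, List.all_eq_true] at hp
  have hp' := hp u hu v hv
  have huo := hio.2 u hu
  have hvo := hio.2 v hv
  rw [eqL_of_gl (okW_append.mpr ⟨huo, hvo⟩) (okW_append.mpr ⟨hvo, huo⟩)
    (by rw [gl_append huo hvo, gl_append hvo huo]; exact hgh.eq.symm), Bool.not_true, Bool.or_false] at hp'
  exact gl_eq huo hvo hp'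

theorem order_five {x : Equiv.Perm (Fin NN)} (hx : x ∈ G0) (h5 : x ^ 5 = 1) (h1 : x ≠ 1) :
    ∃ c ∈ GG, c * x * c⁻¹ = Xb := by
  haveI : Fact (Nat.Prime 5) := ⟨by norm_num⟩
  have h := p5_ok
  simp only [p5OK, Bool.and_eq_true, Nat.beq_eq] at h
  obtain ⟨⟨⟨⟨⟨⟨hyo, hX5⟩, hY5⟩, hXY⟩, hX0⟩, hY0⟩, hwit⟩ := h
  have hXm : Xb ∈ G0 := mem_G0.mpr ⟨gl_mem _, Fin.ext ((gl_apply rfl _).trans hX0)⟩
  have hYm : gl yW ∈ G0 := mem_G0.mpr ⟨gl_mem _, Fin.ext ((gl_apply hyo _).trans hY0)⟩
  have hX5' : Xb ^ 5 = 1 := by rw [Xb, ← gl_pw rfl]; exact gl_eq_one (okW_pw rfl 5) hX5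
  have hY5' : gl yW ^ 5 = 1 := by rw [← gl_pw hyo]; exact gl_eq_one (okW_pw hyo 5) hY5
  have hcomm : Commute Xb (gl yW) := by
    have e := gl_eq (okW_append.mpr ⟨hyo, rfl⟩) (okW_append.mpr ⟨rfl, hyo⟩) hXY
    rwa [gl_append hyo rfl, gl_append rfl hyo] at e
  have hchk : ∀ i < 5, ∀ j < 5, ¬(i = 0 ∧ j = 0) → Xb ^ i * gl yW ^ j ≠ 1 ∧
      ∃ c ∈ G0, c * (Xb ^ i * gl yW ^ j) = Xb * c := by
    intro i hi j hj hne
    have h2 := allBelow_spec (allBelow_spec hwit i hi) j hj
    simp only [force_eq, Bool.or_eq_true, Bool.and_eq_true, Nat.beq_eq, Bool.not_eq_true'] at h2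
    rcases h2 with h2 | ⟨hne1, ⟨hco, hc0⟩, hce⟩
    · exact absurd h2 hne
    have hw : okW S (pw j yW ++ pw i [34]) = true := okW_append.mpr ⟨okW_pw hyo j, okW_pw rfl i⟩
    have ew : gl (pw j yW ++ pw i [34]) = Xb ^ i * gl yW ^ j := by
      rw [gl_append (okW_pw hyo j) (okW_pw rfl i), gl_pw hyo, gl_pw rfl, Xb]
    refine ⟨ew ▸ gl_ne_one hw hne1, gl ((p5W.getD i []).getD j []),
      mem_G0.mpr ⟨gl_mem _, Fin.ext ((gl_apply hco _).trans hc0)⟩, ?_⟩
    have e := gl_eq (okW_append.mpr ⟨hw, hco⟩) (okW_append.mpr ⟨hco, rfl⟩) hce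
    rwa [gl_append hw hco, gl_append hco rfl, ew] at e
  let X' : G0 := ⟨Xb, hXm⟩
  let Y' : G0 := ⟨gl yW, hYm⟩
  have hX' : orderOf X' = 5 := orderOf_eq_prime (Subtype.ext hX5') fun e =>
    (hchk 1 (by norm_num) 0 (by norm_num) (by simp)).1 (by
      rw [pow_one, pow_zero, mul_one]; exact congrArg Subtype.val e)
  have hY' : orderOf Y' = 5 := orderOf_eq_prime (Subtype.ext hY5') fun e =>
    (hchk 0 (by norm_num) 1 (by norm_num) (by simp)).1 (by
      rw [pow_one, pow_zero, one_mul]; exact congrArg Subtype.val e)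
  let φ : Subgroup.zpowers X' × Subgroup.zpowers Y' →* G0 :=
    MonoidHom.noncommCoprod (Subgroup.zpowers X').subtype (Subgroup.zpowers Y').subtype
      fun a b => by
        obtain ⟨i, hi⟩ := Subgroup.mem_zpowers_iff.mp a.2
        obtain ⟨j, hj⟩ := Subgroup.mem_zpowers_iff.mp b.2
        show Commute (a : G0) (b : G0)
        rw [← hi, ← hj]
        exact (show Commute X' Y' from Subtype.ext hcomm.eq).zpow_zpow i j
  have hform : ∀ p, ∃ i < 5, ∃ j < 5, (φ p : Equiv.Perm (Fin NN)) = Xb ^ i * gl yW ^ j ∧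
      (i = 0 ∧ j = 0 → p = 1) := by
    rintro ⟨a, b⟩
    obtain ⟨i, hi⟩ := (IsOfFinOrder.mem_zpowers_iff_mem_range_orderOf
      (isOfFinOrder_of_finite X')).mp a.2 |> Finset.mem_image.mp
    obtain ⟨j, hj⟩ := (IsOfFinOrder.mem_zpowers_iff_mem_range_orderOf
      (isOfFinOrder_of_finite Y')).mp b.2 |> Finset.mem_image.mp
    rw [Finset.mem_range, hX'] at hi
    rw [Finset.mem_range, hY'] at hj
    refine ⟨i, hi.1, j, hj.1, ?_, ?_⟩
    · show (((a : G0) * (b : G0) : G0) : Equiv.Perm (Fin NN)) = _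
      rw [← hi.2, ← hj.2]; rfl
    · rintro ⟨rfl, rfl⟩
      exact Prod.ext (Subtype.ext (hi.2.symm.trans (pow_zero _)))
        (Subtype.ext (hj.2.symm.trans (pow_zero _)))
  have hinj : Function.Injective φ := (injective_iff_map_eq_one φ).mpr fun p hp => by
    obtain ⟨i, hi, j, hj, e, h0⟩ := hform p
    by_contra hne
    exact (hchk i hi j hj fun h => hne (h0 h)).1 (e.symm.trans (congrArg Subtype.val hp))
  have hcardP : Nat.card φ.range = 5 ^ (Nat.card G0).factorization 5 := by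
    rw [← Nat.card_congr (MonoidHom.ofInjective hinj).toEquiv, Nat.card_prod, Nat.card_zpowers,
      Nat.card_zpowers, hX', hY', card_G0, show 35942400 = 5 ^ 2 * 1437696 by norm_num,
      Nat.factorization_mul (by norm_num) (by norm_num), Finsupp.add_apply,
      Nat.Prime.factorization_pow (by norm_num), Finsupp.single_eq_same,
      Nat.factorization_eq_zero_of_not_dvd (show ¬ 5 ∣ 1437696 by norm_num)]
    norm_num
  let P : Sylow 5 G0 := Sylow.ofCard φ.range hcardP
  let x' : G0 := ⟨x, hx⟩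
  have hx5 : orderOf x' = 5 := orderOf_eq_prime (Subtype.ext h5) fun e => h1 (congrArg Subtype.val e)
  obtain ⟨P', hP'⟩ := (IsPGroup.of_card (p := 5) (n := 1)
    (by rw [Nat.card_zpowers, hx5, pow_one]) : IsPGroup 5 (Subgroup.zpowers x')).exists_le_sylow
  obtain ⟨g, hg⟩ := MulAction.exists_smul_eq G0 P' P
  have hgP : g * x' * g⁻¹ ∈ (P : Subgroup G0) := by
    rw [← hg]; exact ⟨x', hP' (Subgroup.mem_zpowers x'), rfl⟩
  rw [Sylow.coe_ofCard] at hgP
  obtain ⟨p, hp⟩ := hgP
  obtain ⟨i, hi, j, hj, e, h0⟩ := hform p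
  have hpne : ¬(i = 0 ∧ j = 0) := fun h => by
    rw [h0 h, map_one] at hp
    refine h1 (congrArg Subtype.val (show x' = 1 from ?_))
    calc x' = g⁻¹ * (g * x' * g⁻¹) * g := by group
      _ = 1 := by rw [← hp]; group
  obtain ⟨c, hc, hce⟩ := (hchk i hi j hj hpne).2
  refine ⟨c * g, mul_mem (mem_G0.mp hc).1 (mem_G0.mp g.2).1, ?_⟩
  rw [← e, hp] at hce
  calc c * g * x * (c * g : Equiv.Perm (Fin NN))⁻¹
      = c * ((g * x' * g⁻¹ : G0) : Equiv.Perm (Fin NN)) * c⁻¹ := by
        rw [Subgroup.coe_mul, Subgroup.coe_mul, Subgroup.coe_inv]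
        show _ = c * (g * x * (g : Equiv.Perm (Fin NN))⁻¹) * c⁻¹
        group
    _ = Xb := by rw [hce, mul_inv_cancel_right]

theorem rb_ne_one : rb ≠ 1 := fun e => by
  have := card_fix_rb
  rw [e] at this
  simp at this

theorem rb_sq : rb * rb = 1 := by
  rw [rb, ← gl_append rfl rfl]
  exact gl_eq_one rfl (by decide +kernel)

theorem no_five_GG {x s : Equiv.Perm (Fin NN)} (hx : x ∈ GG) (hs : s ∈ GG) (h5 : x ^ 5 = 1)
    (h1 : x ≠ 1) (hxr : Commute x rb) (hsr : Commute s rb) (hxs : Commute x s) (hs2 : s * s = 1)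
    (hs1 : s ≠ 1) : s = rb := by
  haveI : Fact (Nat.Prime 5) := ⟨by norm_num⟩
  let y : Equiv.Perm {k : Fin NN // rb k = k} := x.subtypePerm fun k => by
    rw [← Equiv.Perm.mul_apply, ← hxr.eq, Equiv.Perm.mul_apply]
    exact ⟨fun e => x.injective e, fun e => by rw [e]⟩
  have hcard : ¬ 5 ∣ Fintype.card {k : Fin NN // rb k = k} := by
    rw [← Nat.card_eq_fintype_card, card_fix_rb]; norm_num
  obtain ⟨a, ha⟩ := Equiv.Perm.exists_fixed_point_of_prime (p := 5) (n := 1) hcard (σ := y) (by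
    refine Equiv.ext fun k => Subtype.ext ?_
    rw [pow_one, Equiv.Perm.subtypePerm_pow]
    simp [h5])
  have hxa : x a.1 = a.1 := congrArg Subtype.val ha
  obtain ⟨σ, hσ, hσ0⟩ := transitive_GG a.1
  have hx1 : σ⁻¹ * x * σ ∈ G0 := mem_G0.mpr ⟨mul_mem (mul_mem (inv_mem hσ) hx) hσ, by
    rw [Equiv.Perm.mul_apply, Equiv.Perm.mul_apply, Equiv.Perm.inv_eq_iff_eq,
      show σ (pn 0) = a.1 from hσ0, hxa]⟩
  obtain ⟨c, hc, hce⟩ := order_five hx1 (by
    have h := map_pow (MulAut.conj σ⁻¹).toMonoidHom x 5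
    simp only [MulEquiv.coe_toMonoidHom, MulAut.conj_apply, inv_inv, h5, mul_one, inv_mul_cancel] at h
    exact h.symm) (fun e => h1 (by
      calc x = σ * (σ⁻¹ * x * σ) * σ⁻¹ := by group
        _ = 1 := by rw [e]; group))
  let τ := c * σ⁻¹
  have hτ : τ ∈ GG := mul_mem hc (inv_mem hσ)
  let cj := (MulAut.conj τ).toMonoidHom
  have hX : cj x = Xb := by
    rw [← hce]
    show c * σ⁻¹ * x * (c * σ⁻¹)⁻¹ = _
    group
  have hne : ∀ {g : Equiv.Perm (Fin NN)}, g ≠ 1 → cj g ≠ 1 := fun hg e =>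
    hg ((MulAut.conj τ).injective (e.trans (map_one _).symm))
  have hcj : ∀ {g : Equiv.Perm (Fin NN)}, g ∈ GG → cj g ∈ GG := fun hg =>
    mul_mem (mul_mem hτ hg) (inv_mem hτ)
  have e := pair_contra (hcj hs) (hcj (show rb ∈ GG from gl_mem [35])) (hX ▸ hxs.symm.map cj)
    (hX ▸ hxr.symm.map cj) (by rw [← map_mul, hs2, map_one]) (hne hs1)
    (by rw [← map_mul, rb_sq, map_one]) (hne rb_ne_one) (hsr.map cj)
  exact (MulAut.conj τ).injective e

/-! ### The double cover -/

/-- The minus sign. -/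
noncomputable def neg : fourRu := unitAut ^ 2

theorem img_neg : Img neg negC := img_unit 2

theorem unit_four : unitAut ^ 4 = 1 := eq_of_eqB (img_unit 4) img_one (by decide +kernel)

theorem neg_sq : neg * neg = 1 := by rw [neg, ← pow_add]; exact unit_four

theorem neg_ne : neg ≠ 1 := fun e =>
  absurd (img_neg.eqB_self img_one e) (by decide +kernel)

theorem neg_central (g : fourRu) : Commute neg g :=
  (show Commute unitAut g from (unitAut_central g).symm).pow_left 2

theorem E_inv {w : List ℕ} (h : okW S w = true ∧ okW S (invW' w) = true ∧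
    eqB (sev S (invW' w ++ w)) id = true) : E (invW' w) = (E w)⁻¹ := by
  refine eq_inv_of_mul_eq_one_right ?_
  rw [← el_append good h.2.1 h.1]
  exact eq_of_eqB (img_el good (okW_append.mpr ⟨h.2.1, h.1⟩)) img_one h.2.2

theorem cover_spec :
    (∀ w ∈ factors, okW S w = true ∧ okW S (invW' w) = true ∧ eqB (sev S (invW' w ++ w)) id = true) ∧
    (∀ w ∈ [wR0, wR1, wR2, wR3, wS0, wS1, wS2, wS3],
      eqB (sev S (w ++ rW)) (sev S (rW ++ w)) = true) ∧
    (∀ p ∈ [(wR0, wR1), (wR2, wR3), (wS0, wS1), (wS2, wS3)],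
      eqB (sev S (pw 16 (commW p.1 p.2))) id = true) ∧
    okW S rW = true ∧ okW S bW = true ∧ okW S (pw 10 yS) = true ∧
    eqB (sev S (pw 2 rW)) id = true ∧
    eqB (sev S (pw 10 yS)) (fun x => negC (sev S rW x)) = true ∧
    eqB (sev S (pw 2 bW)) negC = true ∧
    eqB (sev S (pw 4 yR)) id = false ∧ eqB (sev S (pw 4 yS)) id = false ∧
    eqL (sev S rW) (sev S [35]) = true ∧ eqL (sev S bW) (sev S [36]) = true := by
  have h := cover_ok
  simp only [coverOK2, Bool.and_eq_true, List.all_eq_true, Bool.not_eq_true'] at h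
  obtain ⟨⟨⟨⟨⟨⟨⟨⟨⟨⟨⟨⟨h1, h2⟩, h3⟩, h4⟩, h5⟩, h6⟩, h7⟩, h8⟩, h9⟩, h10⟩, h11⟩, h12⟩, h13⟩ := h
  exact ⟨fun w hw => ⟨(h1 w hw).1.1, (h1 w hw).1.2, (h1 w hw).2⟩, h5, h6, h2, h3, h4, h7, h8, h9,
    h10, h11, h12, h13⟩

theorem okW_comm {p q : List ℕ} (hp : p ∈ factors) (hq : q ∈ factors) : okW S (commW p q) = true := by
  simp only [commW, okW_append]
  exact ⟨⟨⟨(cover_spec.1 q hq).2.1, (cover_spec.1 p hp).2.1⟩, (cover_spec.1 q hq).1⟩, (cover_spec.1 p hp).1⟩

theorem E_comm {p q : List ℕ} (hp : p ∈ factors) (hq : q ∈ factors) :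
    E (commW p q) = E p * E q * (E p)⁻¹ * (E q)⁻¹ := by
  obtain ⟨hp1, hp2, -⟩ := cover_spec.1 p hp
  obtain ⟨hq1, hq2, -⟩ := cover_spec.1 q hq
  rw [commW, E, el_append good (okW_append.mpr ⟨okW_append.mpr ⟨hq2, hp2⟩, hq1⟩) hp1,
    el_append good (okW_append.mpr ⟨hq2, hp2⟩) hq1, el_append good hq2 hp2]
  rw [show el S (invW' p) = (E p)⁻¹ from E_inv (cover_spec.1 p hp),
    show el S (invW' q) = (E q)⁻¹ from E_inv (cover_spec.1 q hq)]
  group

/-- The derived subgroup. -/
noncomputable abbrev DD : Subgroup fourRu := commutator fourRu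

theorem E_comm_mem {p q : List ℕ} (hp : p ∈ factors) (hq : q ∈ factors) : E (commW p q) ∈ DD := by
  rw [E_comm hp hq, ← commutatorElement_def]
  exact Subgroup.commutator_mem_commutator (Subgroup.mem_top _) (Subgroup.mem_top _)

theorem map_DD : DD.map act = GG := by
  rw [DD, commutator_def, Subgroup.map_commutator, ← MonoidHom.range_eq_map, range_eq, commutator_GG]

theorem okW_yR : okW S yR = true := okW_append.mpr
  ⟨okW_comm (by simp [factors]) (by simp [factors]), okW_comm (by simp [factors]) (by simp [factors])⟩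

theorem okW_yS : okW S yS = true := okW_append.mpr
  ⟨okW_comm (by simp [factors]) (by simp [factors]), okW_comm (by simp [factors]) (by simp [factors])⟩

theorem yR_mem : E yR ∈ DD := by
  rw [yR, E, el_append good (okW_comm (by simp [factors]) (by simp [factors]))
    (okW_comm (by simp [factors]) (by simp [factors]))]
  exact mul_mem (E_comm_mem (by simp [factors]) (by simp [factors]))
    (E_comm_mem (by simp [factors]) (by simp [factors]))

theorem yS_mem : E yS ∈ DD := by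
  rw [yS, E, el_append good (okW_comm (by simp [factors]) (by simp [factors]))
    (okW_comm (by simp [factors]) (by simp [factors]))]
  exact mul_mem (E_comm_mem (by simp [factors]) (by simp [factors]))
    (E_comm_mem (by simp [factors]) (by simp [factors]))

theorem E_rW : E rW = E yR ^ 10 := el_pow good okW_yR 10

theorem yS_ten : E yS ^ 10 = neg * E rW := by
  rw [← show E (pw 10 yS) = E yS ^ 10 from el_pow good okW_yS 10]
  exact eq_of_eqB (img_el good cover_spec.2.2.2.2.2.1)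
    ((img_neg.mul (img_el good cover_spec.2.2.2.1)).congr fun _ => rfl) cover_spec.2.2.2.2.2.2.2.1

theorem rW_mem : E rW ∈ DD := E_rW ▸ pow_mem yR_mem 10

theorem bW_mem : E bW ∈ DD := by
  rw [bW, pw, E, el_pow good (okW_comm (by simp [factors]) (by simp [factors]))]
  exact pow_mem (E_comm_mem (by simp [factors]) (by simp [factors])) 5

theorem neg_mem : neg ∈ DD := by
  have : neg = E yS ^ 10 * (E rW)⁻¹ := by rw [yS_ten, mul_inv_cancel_right]
  rw [this]
  exact mul_mem (pow_mem yS_mem 10) (inv_mem rW_mem)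

theorem rW_sq : E rW * E rW = 1 := by
  rw [← sq, ← show E (pw 2 rW) = E rW ^ 2 from el_pow good cover_spec.2.2.2.1 2]
  exact eq_of_eqB (img_el good (okW_pw cover_spec.2.2.2.1 2)) img_one cover_spec.2.2.2.2.2.2.1

theorem bW_sq : E bW * E bW = neg := by
  rw [← sq, ← show E (pw 2 bW) = E bW ^ 2 from el_pow good cover_spec.2.2.2.2.1 2]
  exact eq_of_eqB (img_el good (okW_pw cover_spec.2.2.2.2.1 2)) img_neg
    cover_spec.2.2.2.2.2.2.2.2.1

theorem act_r : act (E rW) = rb :=
  gl_eq cover_spec.2.2.2.1 rfl cover_spec.2.2.2.2.2.2.2.2.2.2.2.1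

theorem act_b : act (E bW) = bb :=
  gl_eq cover_spec.2.2.2.2.1 rfl cover_spec.2.2.2.2.2.2.2.2.2.2.2.2

theorem act_neg : act neg = 1 := by rw [neg, map_pow, act_unitAut, one_pow]

/-- The involution of the cover. -/
noncomputable def r : DD := ⟨E rW, rW_mem⟩
/-- The central involution. -/
noncomputable def n : DD := ⟨neg, neg_mem⟩

theorem four_pow_ne {y : List ℕ} (hy : okW S y = true) (h : eqB (sev S (pw 4 y)) id = false) :
    E y ^ 4 ≠ 1 := fun e => by
  rw [← show E (pw 4 y) = E y ^ 4 from el_pow good hy 4] at e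
  rw [(img_el good (okW_pw hy 4)).eqB_self img_one e] at h
  exact Bool.noConfusion h

theorem comm_central {c c' x y : fourRu} (hc : ∀ z, Commute c z) (hc' : ∀ z, Commute c' z) :
    c * x * (c' * y) * (c * x)⁻¹ * (c' * y)⁻¹ = x * y * x⁻¹ * y⁻¹ := by
  calc c * x * (c' * y) * (c * x)⁻¹ * (c' * y)⁻¹
      = c * (x * c') * y * x⁻¹ * c⁻¹ * (y⁻¹ * c'⁻¹) := by group
    _ = c * (c' * x) * y * x⁻¹ * c⁻¹ * (c'⁻¹ * y⁻¹) := by
        rw [(hc' x).eq, ((hc' y⁻¹).inv_left).eq]
    _ = (c * c') * (x * y * x⁻¹) * (c⁻¹ * c'⁻¹) * y⁻¹ := by group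
    _ = x * y * x⁻¹ * ((c * c') * (c⁻¹ * c'⁻¹)) * y⁻¹ := by
        rw [((hc _).mul_left (hc' (x * y * x⁻¹))).eq]; group
    _ = _ := by rw [(hc c').eq]; group

theorem exists_in_DD (w : List ℕ) :
    ∃ (d : DD) (c : fourRu), (∀ z, Commute c z) ∧ (d : fourRu) = c * E w := by
  obtain ⟨d, hd, hde⟩ : act (E w) ∈ DD.map act := map_DD ▸ gl_mem w
  have hker : d * (E w)⁻¹ ∈ act.ker := by rw [MonoidHom.mem_ker, map_mul, map_inv, hde, mul_inv_cancel]
  obtain ⟨m, hm⟩ := mem_ker_iff.mp hker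
  exact ⟨⟨d, hd⟩, unitAut ^ (m : ℕ),
    fun z => (show Commute unitAut z from (unitAut_central z).symm).pow_left _,
    by rw [← hm, inv_mul_cancel_right]⟩

theorem comm_in_S2 {p q : List ℕ} (hp : p ∈ factors) (hq : q ∈ factors)
    (hpr : eqB (sev S (p ++ rW)) (sev S (rW ++ p)) = true)
    (hqr : eqB (sev S (q ++ rW)) (sev S (rW ++ q)) = true)
    (h16 : eqB (sev S (pw 16 (commW p q))) id = true) :
    (⟨_, E_comm_mem hp hq⟩ : DD) ∈ Ru2Standard76.S2 r := by
  have hrc : ∀ w ∈ factors, eqB (sev S (w ++ rW)) (sev S (rW ++ w)) = true →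
      Commute (E w) (E rW) := by
    intro w hw h
    have hwo := (cover_spec.1 w hw).1
    have e := el_eq good (okW_append.mpr ⟨hwo, cover_spec.2.2.2.1⟩)
      (okW_append.mpr ⟨cover_spec.2.2.2.1, hwo⟩) h
    rw [el_append good hwo cover_spec.2.2.2.1, el_append good cover_spec.2.2.2.1 hwo] at e
    exact e.symm
  obtain ⟨dp, cp, hcp, ep⟩ := exists_in_DD p
  obtain ⟨dq, cq, hcq, eq⟩ := exists_in_DD q
  refine Subgroup.subset_closure ⟨dp, dq, Subtype.ext ?_, Subtype.ext ?_, Subtype.ext ?_, Subtype.ext ?_⟩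
  · show (dp : fourRu) * E rW = E rW * dp
    rw [ep]; exact ((hcp _).mul_left (hrc p hp hpr)).eq
  · show (dq : fourRu) * E rW = E rW * dq
    rw [eq]; exact ((hcq _).mul_left (hrc q hq hqr)).eq
  · show (dp : fourRu) * dq * (dp : fourRu)⁻¹ * (dq : fourRu)⁻¹ = E (commW p q)
    rw [E_comm hp hq, ep, eq, comm_central hcp hcq]
  · show E (commW p q) ^ 16 = 1
    rw [← show E (pw 16 (commW p q)) = E (commW p q) ^ 16 from el_pow good (okW_comm hp hq) 16]
    exact eq_of_eqB (img_el good (okW_pw (okW_comm hp hq) 16)) img_one h16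

theorem wit_R : (⟨E yR, yR_mem⟩ : DD) ∈ Ru2Standard76.S2 r := by
  have h0 := comm_in_S2 (p := wR0) (q := wR1) (by simp [factors]) (by simp [factors])
    (cover_spec.2.1 _ (by simp)) (cover_spec.2.1 _ (by simp)) (cover_spec.2.2.1 (wR0, wR1) (by simp))
  have h1 := comm_in_S2 (p := wR2) (q := wR3) (by simp [factors]) (by simp [factors])
    (cover_spec.2.1 _ (by simp)) (cover_spec.2.1 _ (by simp)) (cover_spec.2.2.1 (wR2, wR3) (by simp))
  convert mul_mem h0 h1 using 1
  exact Subtype.ext (el_append good (okW_comm (by simp [factors]) (by simp [factors]))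
    (okW_comm (by simp [factors]) (by simp [factors])))

theorem wit_S : (⟨E yS, yS_mem⟩ : DD) ∈ Ru2Standard76.S2 r := by
  have h0 := comm_in_S2 (p := wS0) (q := wS1) (by simp [factors]) (by simp [factors])
    (cover_spec.2.1 _ (by simp)) (cover_spec.2.1 _ (by simp)) (cover_spec.2.2.1 (wS0, wS1) (by simp))
  have h1 := comm_in_S2 (p := wS2) (q := wS3) (by simp [factors]) (by simp [factors])
    (cover_spec.2.1 _ (by simp)) (cover_spec.2.1 _ (by simp)) (cover_spec.2.2.1 (wS2, wS3) (by simp))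
  convert mul_mem h0 h1 using 1
  exact Subtype.ext (el_append good (okW_comm (by simp [factors]) (by simp [factors]))
    (okW_comm (by simp [factors]) (by simp [factors])))

theorem lift_DD {σ : Equiv.Perm (Fin NN)} (hσ : σ ∈ GG) : ∃ d : DD, act (d : fourRu) = σ := by
  obtain ⟨d, hd, e⟩ : σ ∈ DD.map act := map_DD ▸ hσ
  exact ⟨⟨d, hd⟩, e⟩

/-- The pattern of the double cover, granting that the derived subgroup meets the units in two elements. -/
theorem pattern (hker : ∀ f ∈ DD, act f = 1 → f = 1 ∨ f = neg) : Ru2Standard76.Pattern n r := by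
  have hker' : ∀ d : DD, act (d : fourRu) = 1 → d = 1 ∨ d = n := fun d h =>
    (hker d d.2 h).imp (fun e => Subtype.ext e) fun e => Subtype.ext e
  have hmemGG : ∀ d : DD, act (d : fourRu) ∈ GG := fun d => range_eq ▸ ⟨_, rfl⟩
  have hrr : r * r = 1 := Subtype.ext rW_sq
  have hnn : n * n = 1 := Subtype.ext neg_sq
  have hcen : ∀ x : DD, Commute n x := fun x => Subtype.ext (neg_central _).eq
  have hclass : ∀ t : DD, act (t : fourRu) * act (t : fourRu) = 1 → act (t : fourRu) ≠ 1 →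
      (∃ k : DD, k * t * k⁻¹ = r ∨ k * t * k⁻¹ = n * r) ∨
        (∃ τ : Equiv.Perm (Fin NN), τ * act (t : fourRu) * τ⁻¹ = bb ∧
          ∃ k : DD, k * t * k⁻¹ * (k * t * k⁻¹) = n) := by
    intro t h2 h1
    obtain ⟨τ, hτ, hc⟩ := invol_class (hmemGG t) h2 h1
    obtain ⟨k, hk⟩ := lift_DD hτ
    have hlift : ∀ (u : DD), act (u : fourRu) = τ * act (t : fourRu) * τ⁻¹ →
        k * t * k⁻¹ = u ∨ k * t * k⁻¹ = n * u := by
      intro u hu
      rcases hker' (k * t * k⁻¹ * u⁻¹) (by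
        simp only [Subgroup.coe_mul, Subgroup.coe_inv, map_mul, map_inv, hk, hu]
        group) with e | e
      · exact Or.inl (mul_inv_eq_one.mp e)
      · exact Or.inr (mul_inv_eq_iff_eq_mul.mp e)
    rcases hc with hc | hc
    · exact Or.inl ⟨k, hlift r (act_r.trans hc.symm)⟩
    · refine Or.inr ⟨τ, hc, k, ?_⟩
      have hbb : (⟨E bW, bW_mem⟩ : DD) * ⟨E bW, bW_mem⟩ = n := Subtype.ext bW_sq
      rcases hlift ⟨E bW, bW_mem⟩ (act_b.trans hc.symm) with e | e <;> rw [e]
      · exact hbb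
      · rw [(hcen _).symm.mul_mul_mul_comm n, hnn, one_mul, hbb]
  refine ⟨hcen, hnn, fun e => neg_ne (congrArg Subtype.val e), fun x hx => ?_, fun t ht => ?_,
    fun k hk => ?_, ?_, ?_⟩
  · refine hker' x (center_GG (hmemGG x) fun τ hτ => ?_)
    obtain ⟨d, rfl⟩ := lift_DD hτ
    exact ((hx d).map DD.subtype).map act
  · have hsq : act (t : fourRu) * act (t : fourRu) = 1 := by
      rw [← map_mul, ← Subgroup.coe_mul, ht, Subgroup.coe_one, map_one]
    by_cases h1 : act (t : fourRu) = 1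
    · exact (hker' t h1).imp_right Or.inl
    rcases hclass t hsq h1 with ⟨k, hk | hk⟩ | ⟨τ, -, k, hk⟩
    · exact Or.inr (Or.inr (Or.inl ⟨k, hk⟩))
    · exact Or.inr (Or.inr (Or.inr ⟨k, hk⟩))
    · exfalso
      refine neg_ne (congrArg Subtype.val (show n = (1 : DD) from ?_))
      rw [← hk]
      calc k * t * k⁻¹ * (k * t * k⁻¹) = k * (t * t) * k⁻¹ := by group
        _ = 1 := by rw [ht]; group
  · have h4 : act (k : fourRu) ^ 4 = 1 := by
      rw [← map_pow, ← SubmonoidClass.coe_pow, hk]; exact act_neg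
    have hk2 : (k ^ 2) * (k ^ 2) = n := by rw [← pow_add]; exact hk
    have hn1 : n ≠ 1 := fun e => neg_ne (congrArg Subtype.val e)
    have hsq : act ((k ^ 2 : DD) : fourRu) * act ((k ^ 2 : DD) : fourRu) = 1 := by
      rw [← map_mul, ← Subgroup.coe_mul, hk2]; exact act_neg
    have h1 : act ((k ^ 2 : DD) : fourRu) ≠ 1 := fun h => by
      rcases hker' _ h with e | e
      · rw [e, mul_one] at hk2; exact hn1 hk2.symm
      · rw [e, hnn] at hk2; exact hn1 hk2.symm
    rcases hclass (k ^ 2) hsq h1 with ⟨j, hj⟩ | ⟨τ, hτ, -⟩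
    · refine hn1 ?_
      have e : j * k ^ 2 * j⁻¹ * (j * k ^ 2 * j⁻¹) = n := by
        calc j * k ^ 2 * j⁻¹ * (j * k ^ 2 * j⁻¹) = j * (k ^ 2 * k ^ 2) * j⁻¹ := by group
          _ = n := by rw [hk2, ← (hcen j).eq, mul_inv_cancel_right]
      rcases hj with hj | hj <;> rw [hj] at e
      · exact e.symm.trans hrr
      · rw [(hcen r).symm.mul_mul_mul_comm n, hnn, one_mul, hrr] at e; exact e.symm
    · refine sq_fix (hmemGG k) h4 fun p hp => bb_no_fix (τ p) ?_
      rw [← hτ, SubmonoidClass.coe_pow, map_pow, Equiv.Perm.mul_apply, Equiv.Perm.mul_apply,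
        Equiv.Perm.coe_inv, Equiv.symm_apply_apply, hp]
  · rintro u (rfl | rfl)
    · exact ⟨_, wit_R, Subtype.ext E_rW.symm, fun e =>
        four_pow_ne okW_yR cover_spec.2.2.2.2.2.2.2.2.2.1 (congrArg Subtype.val e)⟩
    · exact ⟨_, wit_S, Subtype.ext yS_ten, fun e =>
        four_pow_ne okW_yS cover_spec.2.2.2.2.2.2.2.2.2.2.1 (congrArg Subtype.val e)⟩
  · intro x s h5 h1 hs hxr hsr hxs
    have hx1 : act (x : fourRu) ≠ 1 := fun h => by
      rcases hker' x h with e | e
      · exact h1 e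
      · have hn5 : n ^ 5 = n := by
          simp only [pow_succ, pow_zero, one_mul, hnn]
        rw [e, hn5] at h5
        exact neg_ne (congrArg Subtype.val h5)
    have hs1 : act (s : fourRu) ≠ 1 := fun h => by
      rcases hker' s h with e | e <;> rw [e] at hs
      · rw [mul_one] at hs; exact neg_ne (congrArg Subtype.val hs.symm)
      · rw [hnn] at hs; exact neg_ne (congrArg Subtype.val hs.symm)
    have cm : ∀ {a c : DD}, Commute a c → Commute (act (a : fourRu)) (act (c : fourRu)) := fun h =>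
      (h.map DD.subtype).map act
    have hr' : act ((r : DD) : fourRu) = rb := act_r
    have hxr' := cm hxr
    have hsr' := cm hsr
    rw [hr'] at hxr' hsr'
    have e := no_five_GG (hmemGG x) (hmemGG s)
      (by rw [← map_pow, ← SubmonoidClass.coe_pow, h5, Subgroup.coe_one, map_one]) hx1
      hxr' hsr' (cm hxs)
      (by rw [← map_mul, ← Subgroup.coe_mul, hs]; exact act_neg) hs1
    rcases hker' (s * r⁻¹) (by
      rw [Subgroup.coe_mul, Subgroup.coe_inv, map_mul, map_inv, e,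
        hr', mul_inv_cancel]) with e' | e'
    · rw [mul_inv_eq_one.mp e', hrr] at hs; exact neg_ne (congrArg Subtype.val hs.symm)
    · rw [mul_inv_eq_iff_eq_mul.mp e', (hcen r).symm.mul_mul_mul_comm n, hnn, one_mul, hrr] at hs
      exact neg_ne (congrArg Subtype.val hs.symm)

end Cfsg.Agent.Ru2Facts76
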