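import Cfsg.Agent.Lib.RuAction66

/-!
Automorphisms of the lattice as tables of lines with phases: the line and the unit multiple of the
image of each representative vector, composition along words, and equality from five vectors.
-/

set_option autoImplicit false
set_option maxRecDepth 100000

namespace Cfsg.Agent.Ru2Signed76

open Cfsg.Spor RuLattice90 RuPermCert66 RuVecs66 RuLineData66 RuActData66 RuPermData66 RuLines66 RuLattMem66
open RuPermGroup66 RuAction66
open scoped Fin.NatCast
open Fin.CommRing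

attribute [local irreducible] vk pt keyP rP rM rC

/-- A generator gives an automorphism with the given permutation and phases. -/
theorem exists_phase {C : Cols} {d : ℕ} {p : PT × PT} {units : PT} (hd : 0 < d) (hC : colsOK C = true)
    (ho : orthOK C d = true) (hcm : Comm C) (hi : invOK NN p = true)
    (him : imgsOK C d p.1 units = true) :
    ∃ f : fourRu, ∀ k : Fin NN, ∃ u : Fin 4, (u : ℕ) = get units k ∧
      (f : Equiv.Perm ruLattice) (ptL k 0) = ptL (permOf NN p k) u := by
  have hd0 : (d : ℤ) ≠ 0 := by exact_mod_cast hd.ne'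
  have hinj : ∀ a b : RuVec, (d : ℤ) • enc a = (d : ℤ) • enc b → a = b := fun a b h => enc_injective (funext fun j => by
    have := congrFun h j
    simp only [Pi.smul_apply, smul_eq_mul] at this
    exact mul_left_cancel₀ hd0 this)
  have hpt : ∀ (k : Fin NN) (u : Fin 4), ∃ u' : Fin 4,
      lin C (vk k u) = (d : ℤ) • enc (ptL (permOf NN p k) u' : RuVec) := by
    intro k
    obtain ⟨-, hu, he⟩ := img_spec hC him k.2
    let u0 : Fin 4 := ⟨_, hu⟩
    have h0 : lin C (vk k 0) = (d : ℤ) • enc (ptL (permOf NN p k) u0 : RuVec) := by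
      rw [enc_ptL, he, ← rep_permOf hi k]
    have step : ∀ u : Fin 4, ∀ v : Fin 4, lin C (vk k u) = (d : ℤ) • enc (ptL (permOf NN p k) v : RuVec) →
        lin C (vk k ((u + 1 : Fin 4) : ℕ)) = (d : ℤ) • enc (ptL (permOf NN p k) (v + 1) : RuVec) := by
      intro u v h
      rw [← enc_ptL k (u + 1), ← ruI_ptL, ← ruI_ptL]
      show lin C (enc (gI • (ptL k u : RuVec))) = _ • enc (gI • (ptL (permOf NN p k) v : RuVec))
      rw [enc_gI, enc_gI, lin_iV hcm, enc_ptL k u, h, map_zsmul]
    intro u
    fin_cases u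
    exacts [⟨u0, h0⟩, ⟨u0 + 1, step 0 u0 h0⟩, ⟨u0 + 1 + 1, step 1 _ (step 0 u0 h0)⟩,
      ⟨u0 + 1 + 1 + 1, step 2 _ (step 1 _ (step 0 u0 h0))⟩]
  have hex : ∀ v : ruLattice, ∃ w : ruLattice, lin C (enc (v : RuVec)) = (d : ℤ) • enc (w : RuVec) := by
    intro v
    have hv : (v : RuVec) ∈ AddSubgroup.closure minSet := lattice_le v.2
    generalize (v : RuVec) = z at hv
    induction hv using AddSubgroup.closure_induction with
    | mem z hz =>
      obtain ⟨k, u, rfl⟩ := hz
      obtain ⟨u', h⟩ := hpt k u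
      exact ⟨ptL (permOf NN p k) u', by rw [enc_ptL k u]; exact h⟩
    | zero => exact ⟨0, by simp⟩
    | add a b _ _ iha ihb =>
      obtain ⟨w, hw⟩ := iha
      obtain ⟨w', hw'⟩ := ihb
      exact ⟨w + w', by rw [AddSubgroup.coe_add, map_add, map_add, map_add, hw, hw', smul_add]⟩
    | neg a _ iha =>
      obtain ⟨w, hw⟩ := iha
      exact ⟨-w, by rw [AddSubgroup.coe_neg, map_neg, map_neg, map_neg, hw, smul_neg]⟩
  choose F hF using hex
  have huniq : ∀ v w : ruLattice, lin C (enc (v : RuVec)) = (d : ℤ) • enc (w : RuVec) → F v = w :=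
    fun v w h => Subtype.ext (hinj _ _ ((hF v).symm.trans h))
  have hadd : ∀ v w, F (v + w) = F v + F w := fun v w => huniq _ _ (by
    rw [AddSubgroup.coe_add, map_add, map_add, hF, hF, AddSubgroup.coe_add, map_add, smul_add])
  have hI : ∀ v, F (ruI v) = ruI (F v) := fun v => huniq _ _ (by
    show lin C (enc (gI • (v : RuVec))) = _ • enc (gI • (F v : RuVec))
    rw [enc_gI, enc_gI, lin_iV hcm, hF, map_zsmul])
  have hdot : ∀ v w : ruLattice, dot (enc (F v : RuVec)) (enc (F w : RuVec)) = dot (enc (v : RuVec)) (enc (w : RuVec)) := by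
    intro v w
    have h := dot_lin ho (enc (v : RuVec)) (enc (w : RuVec))
    rw [hF, hF] at h
    have e : ∀ x y : V, dot ((d : ℤ) • x) ((d : ℤ) • y) = (d : ℤ) * d * dot x y := fun x y => by
      simp only [dot, Pi.smul_apply, smul_eq_mul, Finset.mul_sum]
      exact Finset.sum_congr rfl fun j _ => by ring
    rw [e] at h
    exact mul_left_cancel₀ (mul_ne_zero hd0 hd0) h
  have hFpt : ∀ (k : Fin NN) (u : Fin 4), ∃ u', F (ptL k u) = ptL (permOf NN p k) u' := fun k u => by
    obtain ⟨u', h⟩ := hpt k u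
    exact ⟨u', huniq _ _ (by rw [enc_ptL]; exact h)⟩
  let Fh : ruLattice →+ ruLattice := AddMonoidHom.mk' F hadd
  have hFinj : Function.Injective F := by
    refine (injective_iff_map_eq_zero Fh).mpr fun v hv => ?_
    have h := hdot v v
    rw [show F v = 0 from hv, AddSubgroup.coe_zero, map_zero] at h
    have h0 : ∀ j ∈ (Finset.univ : Finset (Fin 56)), enc (v : RuVec) j * enc (v : RuVec) j = 0 :=
      (Finset.sum_eq_zero_iff_of_nonneg fun j _ => mul_self_nonneg _).mp (h.symm.trans (by simp [dot]))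
    exact Subtype.ext (enc_injective (by
      rw [AddSubgroup.coe_zero, map_zero]
      exact funext fun j => mul_self_eq_zero.mp (h0 j (Finset.mem_univ _))))
  have hFsurj : Function.Surjective F := by
    have hall : ∀ (k : Fin NN) (u : Fin 4), ptL k u ∈ Fh.range := by
      intro k u
      obtain ⟨u', h⟩ := hFpt ((permOf NN p)⁻¹ k) 0
      rw [Equiv.Perm.coe_inv, Equiv.apply_symm_apply] at h
      have hstep : ∀ n : Fin 4, ptL k (u' + n) ∈ Fh.range := by
        have s : ∀ v, ptL k v ∈ Fh.range → ptL k (v + 1) ∈ Fh.range := by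
          rintro v ⟨w, hw⟩
          exact ⟨ruI w, by rw [← ruI_ptL, ← hw]; exact hI w⟩
        have h0 : ptL k u' ∈ Fh.range := ⟨_, h⟩
        intro n
        fin_cases n
        · simpa using h0
        · exact s _ h0
        · have := s _ (s _ h0); rwa [add_assoc] at this
        · have := s _ (s _ (s _ h0)); rwa [add_assoc, add_assoc] at this
      have := hstep (u - u')
      rwa [add_sub_cancel] at this
    intro w
    have : ∀ z : RuVec, z ∈ AddSubgroup.closure minSet → ∃ v, (F v : RuVec) = z := by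
      intro z hz
      induction hz using AddSubgroup.closure_induction with
      | mem z hz =>
        obtain ⟨k, u, rfl⟩ := hz
        obtain ⟨v, hv⟩ := hall k u
        exact ⟨v, congrArg Subtype.val hv⟩
      | zero => exact ⟨0, congrArg Subtype.val (map_zero Fh)⟩
      | add a b _ _ iha ihb =>
        obtain ⟨v, rfl⟩ := iha
        obtain ⟨v', rfl⟩ := ihb
        exact ⟨v + v', congrArg Subtype.val (hadd v v')⟩
      | neg a _ iha =>
        obtain ⟨v, rfl⟩ := iha
        exact ⟨-v, congrArg Subtype.val (map_neg Fh v)⟩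
    obtain ⟨v, hv⟩ := this _ (lattice_le w.2)
    exact ⟨v, Subtype.ext hv⟩
  refine ⟨⟨Equiv.ofBijective F ⟨hFinj, hFsurj⟩, hadd, hI, fun v => ?_⟩, fun k => ?_⟩
  · rw [ruNorm_eq, ruNorm_eq]
    exact hdot v v
  · obtain ⟨-, hu, he⟩ := img_spec hC him k.2
    refine ⟨⟨_, hu⟩, rfl, huniq _ _ ?_⟩
    rw [enc_ptL, enc_ptL, Fin.val_zero, he, rep_permOf hi k]

/-- A step on the codes `4 * line + unit`. -/
noncomputable def step (q : PT × PT) (x : ℕ) : ℕ :=
  force (x / 4) fun k => force (x % 4) fun u => 4 * get q.1 k + (get q.2 k + u) % 4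

/-- The image of a code under a word, the first letter first. -/
noncomputable def sev (S : List (PT × PT)) : List ℕ → ℕ → ℕ
  | [], x => x
  | l :: w, x => force (step (S.getD l (PT.leaf 0, PT.leaf 0)) x) (sev S w)

/-- The code of a vector. -/
def code (k : Fin NN) (u : Fin 4) : ℕ := 4 * (k : ℕ) + (u : ℕ)

theorem code_injective {k k' : Fin NN} {u u' : Fin 4} (h : code k u = code k' u') : k = k' ∧ u = u' := by
  unfold code at h
  have := u.2
  have := u'.2
  exact ⟨Fin.ext (by omega), Fin.ext (by omega)⟩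

/-- The automorphism acts on the codes by the map. -/
def Img (f : fourRu) (F : ℕ → ℕ) : Prop :=
  ∀ (k : Fin NN) (u : Fin 4), ∃ (k' : Fin NN) (u' : Fin 4),
    (f : Equiv.Perm ruLattice) (ptL k u) = ptL k' u' ∧ F (code k u) = code k' u'

theorem img_one : Img 1 id := fun k u => ⟨k, u, rfl, rfl⟩

theorem Img.mul {f g : fourRu} {F G : ℕ → ℕ} (hf : Img f F) (hg : Img g G) : Img (f * g) (F ∘ G) := by
  intro k u
  obtain ⟨k', u', e1, c1⟩ := hg k u
  obtain ⟨k'', u'', e2, c2⟩ := hf k' u'
  exact ⟨k'', u'', by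
    show (f : Equiv.Perm ruLattice) ((g : Equiv.Perm ruLattice) _) = _
    rw [e1, e2], by rw [Function.comp_apply, c1, c2]⟩

theorem Img.congr {f : fourRu} {F G : ℕ → ℕ} (hf : Img f F) (h : ∀ x, F x = G x) : Img f G :=
  funext h ▸ hf

theorem Img.lineMap {f : fourRu} {F : ℕ → ℕ} (hf : Img f F) (k : Fin NN) :
    (act f k : ℕ) = F (4 * k) / 4 := by
  obtain ⟨k', u', e, c⟩ := hf k 0
  have hu := u'.2
  rw [act_apply, lineMap_eq e, show 4 * (k : ℕ) = code k 0 from rfl, c, code]
  omega

theorem baseVals (i : Fin 5) : (B5 i : ℕ) = [0, 1, 3, 413, 737].getD i 0 := by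
  obtain ⟨h0, h1, h2, h3, h4⟩ := baseLines_val
  fin_cases i
  exacts [h0, h1, h2, h3, h4]

/-- The same image of the five base vectors. -/
noncomputable def eqB (F G : ℕ → ℕ) : Bool :=
  [0, 1, 3, 413, 737].all fun b => Nat.beq (F (4 * b)) (G (4 * b))

/-- The same image of the five base lines. -/
noncomputable def eqL (F G : ℕ → ℕ) : Bool :=
  [0, 1, 3, 413, 737].all fun b => Nat.beq (F (4 * b) / 4) (G (4 * b) / 4)

theorem eq_of_base {f g : fourRu} (h : ∀ i : Fin 5,
    (f : Equiv.Perm ruLattice) (ptL (B5 i) 0) = (g : Equiv.Perm ruLattice) (ptL (B5 i) 0)) : f = g := by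
  rw [eq_comm, ← inv_mul_eq_one, eq_comm, eq_comm]
  refine eq_one_of_fixBase fun i _ => ?_
  show (g : Equiv.Perm ruLattice)⁻¹ ((f : Equiv.Perm ruLattice) _) = _
  rw [Equiv.Perm.inv_eq_iff_eq]
  exact h i

theorem eq_of_eqB {f g : fourRu} {F G : ℕ → ℕ} (hf : Img f F) (hg : Img g G) (h : eqB F G = true) :
    f = g := by
  refine eq_of_base fun i => ?_
  obtain ⟨k, u, e, c⟩ := hf (B5 i) 0
  obtain ⟨k', u', e', c'⟩ := hg (B5 i) 0
  have hb := baseVals i
  simp only [eqB, List.all_cons, List.all_nil, Bool.and_true, Bool.and_eq_true, Nat.beq_eq] at h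
  have : F (code (B5 i) 0) = G (code (B5 i) 0) := by
    show F (4 * (B5 i : ℕ) + 0) = G (4 * (B5 i : ℕ) + 0)
    rw [Nat.add_zero, hb]
    fin_cases i
    exacts [h.1, h.2.1, h.2.2.1, h.2.2.2.1, h.2.2.2.2]
  rw [c, c'] at this
  obtain ⟨rfl, rfl⟩ := code_injective this
  rw [e, e']

theorem Img.eqB_self {f g : fourRu} {F G : ℕ → ℕ} (hf : Img f F) (hg : Img g G) (h : f = g) :
    eqB F G = true := by
  subst h
  simp only [eqB, List.all_eq_true, Nat.beq_eq]
  intro b hb
  have hbn : b < NN := by fin_cases hb <;> norm_num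
  obtain ⟨k, u, e, c⟩ := hf ⟨b, hbn⟩ 0
  obtain ⟨k', u', e', c'⟩ := hg ⟨b, hbn⟩ 0
  obtain ⟨rfl, rfl⟩ := ptL_injective (e.symm.trans e')
  exact c.trans c'.symm

theorem act_eq_of_eqL {f g : fourRu} {F G : ℕ → ℕ} (hf : Img f F) (hg : Img g G) (h : eqL F G = true) :
    act f = act g := by
  have hl : ∀ i : Fin 5, lineMap (g⁻¹ * f) (B5 i) = B5 i := by
    intro i
    have hb := baseVals i
    simp only [eqL, List.all_cons, List.all_nil, Bool.and_true, Bool.and_eq_true, Nat.beq_eq] at h
    rw [← act_apply, map_mul, map_inv, Equiv.Perm.mul_apply, Equiv.Perm.inv_eq_iff_eq]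
    refine Fin.ext ?_
    rw [hf.lineMap, hg.lineMap, hb]
    fin_cases i
    exacts [h.1, h.2.1, h.2.2.1, h.2.2.2.1, h.2.2.2.2]
  obtain ⟨n, hn⟩ := exists_shift _ (hl 0)
  have h1 : unitAut ^ (n : ℕ) * (g⁻¹ * f) = 1 := eq_one_of_fixBase (fixBase_of_lines le_rfl hn fun i _ => by
    rw [← act_apply, act_shift, act_apply]; exact hl i)
  have h2 := congrArg act h1
  rw [act_shift, map_one, map_mul, map_inv] at h2
  exact (inv_mul_eq_one.mp h2).symm

theorem Img.eqL_self {f g : fourRu} {F G : ℕ → ℕ} (hf : Img f F) (hg : Img g G) (h : act f = act g) :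
    eqL F G = true := by
  simp only [eqL, List.all_eq_true, Nat.beq_eq]
  intro b hb
  have hbn : b < NN := by fin_cases hb <;> norm_num
  have h1 := hf.lineMap ⟨b, hbn⟩
  rw [h, hg.lineMap ⟨b, hbn⟩] at h1
  exact h1.symm

/-- The phases are units. -/
noncomputable def phaseOK (q : PT × PT) : Bool :=
  allBelow (fun k => Nat.blt (get q.1 k) NN && Nat.blt (get q.2 k) 4) NN

theorem img_step {f : fourRu} {q : PT × PT}
    (h : ∀ k : Fin NN, ∃ (k' : Fin NN) (s : Fin 4), (k' : ℕ) = get q.1 k ∧ (s : ℕ) = get q.2 k ∧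
      (f : Equiv.Perm ruLattice) (ptL k 0) = ptL k' s) : Img f (step q) := by
  intro k u
  obtain ⟨k', s, hk, hs, e⟩ := h k
  refine ⟨k', s + u, aut_shift e u, ?_⟩
  have hu := u.2
  simp only [step, force_eq, code]
  rw [show (4 * (k : ℕ) + u) / 4 = k by omega, show (4 * (k : ℕ) + u) % 4 = u by omega, ← hk, ← hs,
    Fin.val_add]

theorem img_aut {f : fourRu} {p : PT × PT} {units : PT} (hi : invOK NN p = true)
    (h : ∀ k : Fin NN, ∃ u : Fin 4, (u : ℕ) = get units k ∧
      (f : Equiv.Perm ruLattice) (ptL k 0) = ptL (permOf NN p k) u) : Img f (step (p.1, units)) :=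
  img_step fun k => by
    obtain ⟨u, hu, e⟩ := h k
    exact ⟨_, u, rep_permOf hi k, hu, e⟩

/-- The table is that of a word. -/
noncomputable def sdefOK (S : List (PT × PT)) (w : List ℕ) (q : PT × PT) : Bool :=
  w.all (fun l => Nat.blt l S.length) && allBelow (fun k => force (get q.1 k) fun a =>
    force (get q.2 k) fun s => Nat.blt s 4 && Nat.beq (sev S w (4 * k)) (4 * a + s)) NN

/-- The second table is that of the inverse. -/
noncomputable def sinvOK (q q' : PT × PT) : Bool :=
  allBelow (fun k => force (get q'.1 k) fun a => force (get q'.2 k) fun s =>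
    Nat.blt a NN && Nat.blt s 4 && Nat.beq (step q (4 * a + s)) (4 * k)) NN

/-- Every letter is the table of an automorphism. -/
def Good (S : List (PT × PT)) : Prop := ∀ q ∈ S, ∃ f : fourRu, Img f (step q)

theorem exists_word {S : List (PT × PT)} (hS : Good S) : ∀ w : List ℕ, (∀ l ∈ w, l < S.length) →
    ∃ f : fourRu, Img f (sev S w)
  | [], _ => ⟨1, img_one⟩
  | l :: w, hw => by
    obtain ⟨f, hf⟩ := exists_word hS w fun i hi => hw i (List.mem_cons_of_mem _ hi)
    obtain ⟨g, hg⟩ := hS (S.getD l (PT.leaf 0, PT.leaf 0)) (by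
      rw [List.getD_eq_getElem _ _ (hw l List.mem_cons_self)]; exact List.getElem_mem _)
    exact ⟨f * g, (hf.mul hg).congr fun x => by rw [sev, force_eq]; rfl⟩

theorem img_def {S : List (PT × PT)} (hS : Good S) {w : List ℕ} {q : PT × PT}
    (h : sdefOK S w q = true) : ∃ f : fourRu, Img f (step q) := by
  simp only [sdefOK, Bool.and_eq_true, List.all_eq_true, Nat.blt_eq, force_eq] at h
  obtain ⟨f, hf⟩ := exists_word hS w h.1
  refine ⟨f, img_step fun k => ?_⟩
  obtain ⟨k', u', e, c⟩ := hf k 0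
  have h2 := allBelow_spec h.2 k k.2
  simp only [Bool.and_eq_true, Nat.blt_eq, Nat.beq_eq] at h2
  rw [show code k 0 = 4 * (k : ℕ) from rfl, h2.2] at c
  have := u'.2
  unfold code at c
  exact ⟨k', u', by omega, by omega, e⟩

theorem img_inv {f : fourRu} {q q' : PT × PT} (hf : Img f (step q)) (h : sinvOK q q' = true) :
    ∃ g : fourRu, Img g (step q') := by
  simp only [sinvOK, force_eq] at h
  refine ⟨f⁻¹, img_step fun k => ?_⟩
  have h2 := allBelow_spec h k k.2
  simp only [Bool.and_eq_true, Nat.blt_eq, Nat.beq_eq] at h2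
  obtain ⟨⟨ha, hs⟩, hstep⟩ := h2
  refine ⟨⟨_, ha⟩, ⟨_, hs⟩, rfl, rfl, ?_⟩
  obtain ⟨k', u', e, c⟩ := hf ⟨_, ha⟩ ⟨_, hs⟩
  rw [show code ⟨_, ha⟩ ⟨_, hs⟩ = 4 * get q'.1 k + get q'.2 k from rfl, hstep,
    show 4 * (k : ℕ) = code k 0 from rfl] at c
  obtain ⟨rfl, rfl⟩ := code_injective c
  show (f : Equiv.Perm ruLattice)⁻¹ _ = _
  rw [Equiv.Perm.inv_eq_iff_eq]
  exact e.symm

theorem sev_append (S : List (PT × PT)) : ∀ (w v : List ℕ) (x : ℕ), sev S (w ++ v) x = sev S v (sev S w x)
  | [], _, _ => rfl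
  | l :: w, v, x => by rw [List.cons_append, sev, force_eq, sev_append S w v, sev, force_eq]

open Classical in
/-- The automorphism of a word. -/
noncomputable def el (S : List (PT × PT)) (w : List ℕ) : fourRu :=
  if h : ∃ f : fourRu, Img f (sev S w) then h.choose else 1

/-- The letters of the word are letters of the list. -/
noncomputable def okW (S : List (PT × PT)) (w : List ℕ) : Bool := w.all fun l => Nat.blt l S.length

variable {S : List (PT × PT)}

theorem img_el (hS : Good S) {w : List ℕ} (hw : okW S w = true) : Img (el S w) (sev S w) := by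
  have hex : ∃ f : fourRu, Img f (sev S w) := exists_word hS w (by simpa [okW, List.all_eq_true] using hw)
  rw [el, dif_pos hex]
  exact hex.choose_spec

theorem okW_append {w v : List ℕ} : okW S (w ++ v) = true ↔ okW S w = true ∧ okW S v = true := by
  simp only [okW, List.all_append, Bool.and_eq_true]

theorem okW_pow {w : List ℕ} (hw : okW S w = true) : ∀ m : ℕ, okW S (List.replicate m w).flatten = true
  | 0 => rfl
  | m + 1 => by rw [List.replicate_succ, List.flatten_cons, okW_append]; exact ⟨hw, okW_pow hw m⟩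

theorem el_nil (hS : Good S) : el S [] = 1 :=
  eq_of_eqB (img_el hS rfl) img_one (by simp [eqB, sev])

theorem el_append (hS : Good S) {w v : List ℕ} (hw : okW S w = true) (hv : okW S v = true) :
    el S (w ++ v) = el S v * el S w :=
  eq_of_eqB (img_el hS (okW_append.mpr ⟨hw, hv⟩)) ((img_el hS hv).mul (img_el hS hw))
    (by simp [eqB, sev_append])

theorem el_pow (hS : Good S) {w : List ℕ} (hw : okW S w = true) :
    ∀ m : ℕ, el S (List.replicate m w).flatten = el S w ^ m
  | 0 => by rw [pow_zero]; exact el_nil hS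
  | m + 1 => by
    rw [List.replicate_succ, List.flatten_cons, el_append hS hw (okW_pow hw m), el_pow hS hw m, pow_succ]

theorem el_eq (hS : Good S) {w v : List ℕ} (hw : okW S w = true) (hv : okW S v = true)
    (h : eqB (sev S w) (sev S v) = true) : el S w = el S v :=
  eq_of_eqB (img_el hS hw) (img_el hS hv) h

theorem el_ne (hS : Good S) {w v : List ℕ} (hw : okW S w = true) (hv : okW S v = true)
    (h : eqB (sev S w) (sev S v) = false) : el S w ≠ el S v := fun e => by
  rw [(img_el hS hw).eqB_self (img_el hS hv) e] at h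
  exact Bool.noConfusion h

theorem act_el (hS : Good S) {w v : List ℕ} (hw : okW S w = true) (hv : okW S v = true)
    (h : eqL (sev S w) (sev S v) = true) : act (el S w) = act (el S v) :=
  act_eq_of_eqL (img_el hS hw) (img_el hS hv) h

theorem img_unit (m : ℕ) : Img (unitAut ^ m) (fun x => 4 * (x / 4) + (x % 4 + m) % 4) := by
  intro k u
  refine ⟨k, u + (m : Fin 4), unitAut_pow m k u, ?_⟩
  have hu := u.2
  show 4 * (code k u / 4) + (code k u % 4 + m) % 4 = code k (u + (m : Fin 4))
  unfold code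
  rw [Fin.val_add, Fin.val_natCast, Nat.add_mod_mod, show (4 * (k : ℕ) + u) / 4 = k by omega,
    show (4 * (k : ℕ) + u) % 4 = u by omega]

end Cfsg.Agent.Ru2Signed76
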