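import Cfsg.Agent.Lib.RuAction66

/-!
Words in a table of permutations of the 4060 lines, compared on a base.
-/

set_option autoImplicit false
set_option maxRecDepth 100000

namespace Cfsg.Agent.RuMultBase40

open RuPermCert66 RuPermData66 RuPermGroup66

/-- The group. -/
noncomputable abbrev G : Subgroup (Equiv.Perm (Fin NN)) := GG

/-- The letters. -/
noncomputable def TT : List PT := tabs [p2, p4, p6, p8, p10, p12, p14, p16, p18, p20, p22, p24]

/-- The base. -/
def base : List ℕ := [0, 1, 3, 413, 737]

theorem hTT : ∀ t ∈ TT, ∃ σ ∈ G, Rep σ t := by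
  refine exists_tabs (inv_list ?_) ?_
  · simp [inv2, inv4, inv6, inv8, inv10, inv12, inv14, inv16, inv18, inv20, inv22, inv24]
  · have h8 : permOf NN p8 ∈ G := ga_mem
    have h10 : permOf NN p10 ∈ G := gb_mem
    simp only [List.forall_mem_cons, List.not_mem_nil, IsEmpty.forall_iff, implies_true, and_true]
    exact ⟨nat_mem (by simp [natPerms]), nat_mem (by simp [natPerms]), nat_mem (by simp [natPerms]),
      h8, h10, ab_le mem12, ab_le mem14, ab_le mem16, ab_le mem18, ab_le mem20, ab_le mem22,
      ab_le mem24⟩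

/-- Only the identity fixes the base. -/
theorem baseInj {σ : Equiv.Perm (Fin NN)} (hσ : σ ∈ G)
    (hfix : ∀ k : Fin NN, (k : ℕ) ∈ base → σ k = k) : σ = 1 := by
  refine fix_eq_bot (H := G) chainG_ok ?_ (by rw [chainG_size, RuAction66.card_GG]) hσ
    (fun k hk => hfix k ?_)
  · simp only [chainG, List.forall_mem_cons, List.not_mem_nil, IsEmpty.forall_iff, implies_true,
      and_true]
    exact ⟨pair_tabs inv8 inv10 ga_mem gb_mem, pair_tabs inv12 inv14 (ab_le mem12) (ab_le mem14),
      pair_tabs inv16 inv18 (ab_le mem16) (ab_le mem18), pair_tabs inv20 inv22 (ab_le mem20) (ab_le mem22),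
      exists_tabs (inv_list (by simp [inv24])) (by simp [ab_le mem24])⟩
  · simpa [chainG, base] using hk

/-- The image of a point under a word, the last letter first. -/
noncomputable def wl : List ℕ → ℕ → ℕ
  | [], k => k
  | i :: w, k => force (wl w k) (get (TT.getD i (PT.leaf 0)))

/-- The letters are in the table. -/
noncomputable def wok (w : List ℕ) : Bool := w.all fun i => Nat.blt i TT.length

theorem wl_append : ∀ (u w : List ℕ) (k : ℕ), wl (u ++ w) k = wl u (wl w k)
  | [], _, _ => rfl
  | i :: u, w, k => by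
    show force (wl (u ++ w) k) _ = force (wl u (wl w k)) _
    rw [force_eq, force_eq, wl_append u w k]

theorem exists_el (i : ℕ) : ∃ g : G, i < TT.length →
    ∀ k : Fin NN, ((g : Equiv.Perm (Fin NN)) k : ℕ) = get (TT.getD i (PT.leaf 0)) k := by
  by_cases h : i < TT.length
  · obtain ⟨σ, hσ, hσr⟩ := hTT (TT.getD i (PT.leaf 0))
      (by rw [List.getD_eq_getElem _ _ h]; exact List.getElem_mem _)
    exact ⟨⟨σ, hσ⟩, fun _ => hσr⟩
  · exact ⟨1, fun h' => absurd h' h⟩

/-- The element of a letter. -/
noncomputable def el (i : ℕ) : G := (exists_el i).choose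

/-- The element of a word. -/
noncomputable def ev (w : List ℕ) : G := (w.map el).prod

theorem ev_nil : ev [] = 1 := rfl

theorem ev_cons (i : ℕ) (w : List ℕ) : ev (i :: w) = el i * ev w := List.prod_cons

theorem ev_append (u w : List ℕ) : ev (u ++ w) = ev u * ev w := by simp [ev]

theorem ev_apply : ∀ {w : List ℕ}, wok w = true → ∀ k : Fin NN,
    ((ev w : Equiv.Perm (Fin NN)) k : ℕ) = wl w k
  | [], _, k => rfl
  | i :: w, h, k => by
    simp only [wok, List.all_cons, Bool.and_eq_true, Nat.blt_eq] at h
    rw [ev_cons, Subgroup.coe_mul, Equiv.Perm.mul_apply, wl, force_eq]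
    rw [show el i = (exists_el i).choose from rfl, (exists_el i).choose_spec h.1, ev_apply h.2 k]

/-- The images of the base. -/
noncomputable def key (w : List ℕ) : List ℕ := base.map (wl w)

/-- Equality on the base. -/
noncomputable def eqW (u w : List ℕ) : Bool := wok u && wok w && (key u == key w)

theorem ev_eq {u w : List ℕ} (h : eqW u w = true) : ev u = ev w := by
  simp only [eqW, Bool.and_eq_true, beq_iff_eq] at h
  have e : ((ev w)⁻¹ * ev u : G) = 1 := by
    refine Subtype.ext (baseInj ((ev w)⁻¹ * ev u).2 fun k hk => ?_)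
    rw [Subgroup.coe_mul, Subgroup.coe_inv, Equiv.Perm.mul_apply, Equiv.Perm.inv_eq_iff_eq]
    refine Fin.ext ?_
    rw [ev_apply h.1.1, ev_apply h.1.2]
    exact List.map_inj_left.mp h.2 _ hk
  exact (inv_mul_eq_one.mp e).symm

end Cfsg.Agent.RuMultBase40
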