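import Cfsg.Agent.Lib.CenSplitStableP50

/-!
Stable class certificate of the Rudvalis group for the prime 3.
-/

set_option autoImplicit false
set_option maxRecDepth 100000

namespace Cfsg.Agent.RuMultData40.P3

open Cfsg.Agent.CenSplitStableP50 (Cert Eqn)

/-- words of the chain -/
def yW : List (List ℕ) :=
  [[8, 6, 9, 6, 9, 11, 13, 11, 12, 12, 11, 11, 14, 17, 14, 17, 17, 14, 17, 20, 20],
   [7, 7, 7, 8, 6, 13, 10, 10, 12, 10, 17, 17, 14, 17, 14, 16, 16, 14, 17, 20, 20, 18],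
   [9, 9, 6, 8, 7, 7, 9, 6, 6, 10, 10, 10, 13, 10, 10, 10, 10, 16, 14, 16, 16, 14, 17, 14, 17, 14, 20, 18]]

/-- words of the conjugators -/
def xW : List (List ℕ) :=
  [[8, 6, 9, 7, 8, 8, 11, 13, 13, 10, 12, 12, 10, 10, 16, 14, 17, 17, 14, 17, 17, 14, 16, 21, 22]]

/-- representatives along the base -/
def layers : List (List (List ℕ)) :=
  [[[], [1], [0], [2], [1, 1], [0, 0], [0, 1], [2, 2], [1, 2], [0, 2], [0, 0, 1], [0, 1, 2], [0, 0, 2], [0, 2, 2], [1, 1, 2], [0, 1, 1], [1, 2, 2], [0, 0, 1, 1], [0, 1, 2, 2], [0, 1, 1, 2], [0, 0, 2, 2], [0, 0, 1, 2], [1, 1, 2, 2], [0, 1, 1, 2, 2], [0, 0, 1, 1, 2], [0, 0, 1, 2, 2], [0, 0, 1, 1, 2, 2]],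
   [[]],
   [[]],
   [[]],
   [[]]]

/-- data -/
def relsD : List (List ℕ × List ℕ) :=
  [([0, 0, 0], []),
   ([1, 0], [0, 1, 2, 2]),
   ([1, 1, 1], []),
   ([2, 0], [0, 2]),
   ([2, 1], [1, 2]),
   ([2, 2, 2], [])]

/-- data -/
def pairsD : List (ℕ × List ℕ × List ℕ) :=
  [(0, [1, 1], [0, 0, 1, 1]),
   (0, [0, 0, 1], [0, 0, 2, 2]),
   (0, [2, 2], [2, 2])]

/-- data -/
def eqsD : List Eqn :=
  [.A [0] 0,
   .A [1] 0,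
   .A [1, 1] 1,
   .A [1] 2,
   .A [2] 0,
   .A [2] 1,
   .A [2] 2,
   .A [2, 2] 3,
   .A [2, 2] 4,
   .A [2] 5,
   .B [0, 0, 0] [],
   .B [1, 0] [0, 1, 2, 2],
   .B [1, 1, 1] [],
   .B [2, 0] [0, 2],
   .B [2, 1] [1, 2],
   .B [2, 2, 2] []]

/-- data -/
def formsD : List (List ℕ) :=
  [[0, 0, 0, 0, 0, 0, 0, 0, 0],
   [0, 0, 0, 0, 0, 1, 0, 0, 0],
   [0, 0, 0, 0, 0, 2, 0, 0, 0],
   [0, 0, 0, 0, 0, 0, 0, 0, 0],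
   [0, 0, 0, 0, 0, 0, 0, 0, 0],
   [0, 0, 0, 0, 0, 0, 0, 0, 0],
   [0, 0, 0, 0, 0, 0, 0, 0, 0],
   [0, 0, 0, 0, 0, 0, 0, 0, 0],
   [0, 0, 0, 0, 0, 0, 0, 0, 0],
   [0, 0, 0, 0, 0, 0, 0, 0, 0],
   [2, 0, 0, 1, 2, 1, 0, 0, 0],
   [0, 0, 0, 1, 0, 0, 0, 0, 1],
   [0, 0, 2, 1, 1, 1, 0, 0, 0],
   [0, 0, 0, 1, 0, 0, 0, 0, 0],
   [0, 0, 0, 0, 1, 0, 0, 0, 0],
   [0, 0, 0, 0, 0, 0, 0, 0, 0]]

/-- data -/
def lamD : List (List ℕ) :=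
  [[0, 0, 0, 0, 0, 0, 0, 0, 0],
   [0, 0, 0, 0, 0, 0, 0, 0, 0],
   [0, 2, 0, 0, 0, 0, 0, 0, 0]]

/-- data -/
def combosD : List (List (ℕ × ℕ)) :=
  [[(1, 1), (10, 2), (13, 1), (14, 2)],
   [],
   [(1, 1), (12, 2), (13, 1), (14, 1)],
   [(13, 1)],
   [(14, 1)],
   [(1, 1)]]

/-- the certificate -/
def cert : Cert :=
  { p := 3, n := 3, fuel := 64, rels := relsD, pairs := pairsD, eqs := eqsD, forms := formsD,
    lam := lamD, combos := combosD }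

end Cfsg.Agent.RuMultData40.P3
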