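import Cfsg.Agent.Lib.RuMultBase40
import Cfsg.Agent.Lib.CenSplitTwoX40
import Cfsg.Agent.Lib.RuMultP2Data40
import Cfsg.Agent.Lib.RuMultP3Data40
import Cfsg.Agent.Lib.RuMultP5Data40

/-!
Kernels of stem extensions of the Rudvalis group have order at most two.
-/

set_option autoImplicit false
set_option maxRecDepth 100000

namespace Cfsg.Agent.RuMultUpper40

open Subgroup Cfsg.Agent.RuMultBase40 Cfsg.Agent.RuPermData66
open scoped commutatorElement

/-- the word of a word in local letters -/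
def glob (Y : List (List ℕ)) (w : List ℕ) : List ℕ := (w.map fun a => Y.getD a []).flatten

theorem ev_glob (Y : List (List ℕ)) : ∀ w : List ℕ,
    (w.map fun a => ev (Y.getD a [])).prod = ev (glob Y w)
  | [] => rfl
  | a :: w => by
    rw [List.map_cons, List.prod_cons, ev_glob Y w,
      show glob Y (a :: w) = Y.getD a [] ++ glob Y w from rfl, ev_append]

/-- distinct entries, by a mask -/
noncomputable def distinct : List ℕ → ℕ → Bool
  | [], _ => true
  | a :: l, m => RuPermCert66.force a fun a => !(RuPermCert66.bitOf m a) &&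
      RuPermCert66.force (Nat.lor m (Nat.shiftLeft 1 a)) (distinct l)

theorem nodup_of_distinct : ∀ (l : List ℕ) (m : ℕ), distinct l m = true →
    l.Nodup ∧ ∀ a ∈ l, m.testBit a = false
  | [], _, _ => ⟨List.nodup_nil, fun _ ha => absurd ha List.not_mem_nil⟩
  | a :: l, m, h => by
    simp only [distinct, RuPermCert66.force_eq, RuPermCert66.bitOf_eq, Bool.and_eq_true,
      Bool.not_eq_true'] at h
    obtain ⟨hn, hb⟩ := nodup_of_distinct l _ h.2
    have hb' : ∀ b ∈ l, m.testBit b = false ∧ a ≠ b := fun b hbl => by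
      have := hb b hbl
      change (m ||| 1 <<< a).testBit b = false at this
      rw [Nat.testBit_or, Bool.or_eq_false_iff, Nat.one_shiftLeft, Nat.testBit_two_pow,
        decide_eq_false_iff_not] at this
      exact this
    refine ⟨List.nodup_cons.2 ⟨fun ha => (hb' a ha).2 rfl, hn⟩, fun b hbm => ?_⟩
    rcases List.mem_cons.1 hbm with rfl | hbl
    · exact h.1
    · exact (hb' b hbl).1

/-- representatives along the base -/
noncomputable def layersOK (Y : List (List ℕ)) : List ℕ → List (ℕ × List (List ℕ)) → Bool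
  | _, [] => true
  | pre, (b, ws) :: L => Nat.blt b NN &&
      ws.all (fun w => wok (glob Y w) && w.all (fun a => Nat.blt a Y.length) &&
        pre.all fun c => Nat.beq (wl (glob Y w) c) c) &&
      distinct (ws.map fun w => wl (glob Y w) b) 0 && layersOK Y (b :: pre) L

/-- the number of elements they give -/
def layersSize : List (ℕ × List (List ℕ)) → ℕ
  | [] => 1
  | (_, ws) :: L => ws.length * layersSize L

/-- the pointwise stabiliser in a subgroup -/
def fixIn (S : Subgroup G) (pre : List ℕ) : Subgroup G where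
  carrier := {g | g ∈ S ∧ ∀ k : Fin NN, (k : ℕ) ∈ pre → (g : Equiv.Perm (Fin NN)) k = k}
  one_mem' := ⟨one_mem S, fun _ _ => rfl⟩
  mul_mem' ha hb := ⟨mul_mem ha.1 hb.1, fun k hk => by
    rw [Subgroup.coe_mul, Equiv.Perm.mul_apply, hb.2 k hk, ha.2 k hk]⟩
  inv_mem' ha := ⟨inv_mem ha.1, fun k hk => by
    rw [Subgroup.coe_inv, Equiv.Perm.inv_eq_iff_eq, ha.2 k hk]⟩

theorem layers_spec {Y : List (List ℕ)} {S : Subgroup G}
    (hY : ∀ w : List ℕ, (∀ a ∈ w, a < Y.length) → ev (glob Y w) ∈ S) :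
    ∀ (L : List (ℕ × List (List ℕ))) (pre : List ℕ), layersOK Y pre L = true →
      layersSize L ≤ Nat.card (fixIn S pre)
  | [], pre, _ => Nat.card_pos
  | (b, ws) :: L, pre, h => by
    simp only [layersOK, Bool.and_eq_true, List.all_eq_true, Nat.blt_eq, Nat.beq_eq] at h
    obtain ⟨⟨⟨hb, hws⟩, hd⟩, hrest⟩ := h
    have ih := layers_spec hY L (b :: pre) hrest
    have hmem : ∀ i : Fin ws.length, ev (glob Y ws[(i : ℕ)]) ∈ fixIn S pre := fun i => by
      obtain ⟨⟨hok, hlt⟩, hfix⟩ := hws _ (List.getElem_mem i.2)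
      exact ⟨hY _ hlt, fun k hk => Fin.ext ((ev_apply hok k).trans (hfix _ hk))⟩
    let T : Fin ws.length × fixIn S (b :: pre) → fixIn S pre := fun q =>
      ⟨ev (glob Y ws[(q.1 : ℕ)]) * q.2, mul_mem (hmem q.1)
        ⟨q.2.2.1, fun k hk => q.2.2.2 k (List.mem_cons_of_mem _ hk)⟩⟩
    have hT : Function.Injective T := by
      rintro ⟨i, g⟩ ⟨j, g'⟩ e
      have e' : ev (glob Y ws[(i : ℕ)]) * g = ev (glob Y ws[(j : ℕ)]) * g' := congrArg Subtype.val e
      have e1 := congrArg (fun x : G => ((x : Equiv.Perm (Fin NN)) ⟨b, hb⟩ : ℕ)) e'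
      simp only [Subgroup.coe_mul, Equiv.Perm.mul_apply] at e1
      rw [g.2.2 ⟨b, hb⟩ List.mem_cons_self, g'.2.2 ⟨b, hb⟩ List.mem_cons_self,
        ev_apply (hws _ (List.getElem_mem i.2)).1.1, ev_apply (hws _ (List.getElem_mem j.2)).1.1] at e1
      obtain rfl : i = j := Fin.ext ((List.Nodup.getElem_inj_iff (nodup_of_distinct _ _ hd).1
        (hi := by simp) (hj := by simp)).1 (by rw [List.getElem_map, List.getElem_map]; exact e1))
      exact Prod.ext rfl (Subtype.ext (mul_left_cancel e'))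
    calc layersSize ((b, ws) :: L) = ws.length * layersSize L := rfl
      _ ≤ ws.length * Nat.card (fixIn S (b :: pre)) := Nat.mul_le_mul_left _ ih
      _ = Nat.card (Fin ws.length × fixIn S (b :: pre)) := by rw [Nat.card_prod, Nat.card_fin]
      _ ≤ _ := Nat.card_le_card_of_injective T hT

/-- the checks shared by the certificates -/
noncomputable def dataOK (n p : ℕ) (Y X : List (List ℕ)) (lay : List (List (List ℕ)))
    (rels : List (List ℕ × List ℕ)) (pairs : List (ℕ × List ℕ × List ℕ)) : Bool :=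
  decide (Y.length = n) &&
  rels.all (fun l => eqW (glob Y l.1) (glob Y l.2)) &&
  pairs.all (fun l => eqW (X.getD l.1 [] ++ glob Y l.2.1) (glob Y l.2.2 ++ X.getD l.1 [])) &&
  layersOK Y [] (base.zip lay) && Nat.ble (p ^ n) (layersSize (base.zip lay))

theorem of_data {n p : ℕ} {Y X : List (List ℕ)} {lay : List (List (List ℕ))}
    {rels : List (List ℕ × List ℕ)} {pairs : List (ℕ × List ℕ × List ℕ)}
    (h : dataOK n p Y X lay rels pairs = true) :
    let y : ℕ → G := fun a => ev (Y.getD a [])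
    let x : ℕ → G := fun a => ev (X.getD a [])
    (∀ r < rels.length, ((rels.getD r ([], [])).1.map y).prod = ((rels.getD r ([], [])).2.map y).prod) ∧
    (∀ k < pairs.length,
      x (pairs.getD k (0, [], [])).1 * ((pairs.getD k (0, [], [])).2.1.map y).prod =
        ((pairs.getD k (0, [], [])).2.2.map y).prod * x (pairs.getD k (0, [], [])).1) ∧
    p ^ n ≤ Nat.card (closure (y '' Set.Iio n)) := by
  intro y x
  simp only [dataOK, Bool.and_eq_true, List.all_eq_true, decide_eq_true_eq, Nat.ble_eq] at h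
  obtain ⟨⟨⟨⟨hn, hR⟩, hP⟩, hL⟩, hsize⟩ := h
  refine ⟨fun r hr => ?_, fun k hk => ?_, ?_⟩
  · rw [ev_glob, ev_glob, List.getD_eq_getElem _ _ hr]
    exact ev_eq (hR _ (List.getElem_mem hr))
  · rw [ev_glob, ev_glob, List.getD_eq_getElem _ _ hk]
    have := ev_eq (hP _ (List.getElem_mem hk))
    rwa [ev_append, ev_append] at this
  · refine hsize.trans ?_
    refine (layers_spec (S := closure (y '' Set.Iio n)) ?_ _ [] hL).trans
      (Subgroup.card_le_of_le fun g hg => hg.1)
    intro w hw
    rw [← ev_glob]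
    refine Subgroup.list_prod_mem _ fun g hg => ?_
    obtain ⟨a, ha, rfl⟩ := List.mem_map.1 hg
    exact subset_closure ⟨a, hn ▸ hw a ha, rfl⟩

theorem index_eq {p n m : ℕ} (hp : 0 < p) (S : Subgroup G) (hcard : 145926144000 = p ^ n * m)
    (h1 : p ^ n ≤ Nat.card S) (h2 : Nat.card S ≤ p ^ n) : S.index = m := by
  have h3 := S.card_mul_index
  rw [RuAction66.card_GG, le_antisymm h2 h1, hcard] at h3
  exact Nat.eq_of_mul_eq_mul_left (pow_pos hp _) h3

open RuMultData40

theorem two_ok : dataOK P2.cert.n 2 P2.yW P2.xW P2.layers P2.cert.rels P2.cert.pairs = true := by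
  decide +kernel

theorem two_shape : P2.cert.shapeOK = true := by decide +kernel

theorem two_comb : CenSplitTwoX40.combX P2.cert [P2.pairW] = true := by decide +kernel

theorem three_ok : dataOK P3.cert.n 3 P3.yW P3.xW P3.layers P3.cert.rels P3.cert.pairs = true := by
  decide +kernel

theorem three_comb : P3.cert.shapeOK = true ∧ P3.cert.combOK = true := by decide +kernel

theorem five_ok : dataOK P5.cert.n 5 P5.yW P5.xW P5.layers P5.cert.rels P5.cert.pairs = true := by
  decide +kernel

theorem five_comb : P5.cert.shapeOK = true ∧ P5.cert.combOK = true := by decide +kernel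

/-- first element of the pair -/
noncomputable def aEl : G := ev (glob P2.yW P2.pairW.1)

/-- second element of the pair -/
noncomputable def bEl : G := ev (glob P2.yW P2.pairW.2)

theorem pair_ok : eqW (glob P2.yW P2.pairW.1 ++ glob P2.yW P2.pairW.2)
    (glob P2.yW P2.pairW.2 ++ glob P2.yW P2.pairW.1) = true ∧
    eqW (glob P2.yW P2.pairW.1 ++ glob P2.yW P2.pairW.1) [] = true := by
  decide +kernel

theorem pair_comm : aEl * bEl = bEl * aEl := by
  have := ev_eq pair_ok.1
  rwa [ev_append, ev_append] at this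

theorem pair_sq : aEl ^ 2 = 1 := by
  have := ev_eq pair_ok.2
  rw [ev_append, ev_nil] at this
  rw [pow_two]
  exact this

theorem extend_two {Γ : Type} [Group Γ] [Finite Γ] (σ : Γ →* G) (hs : Function.Surjective σ)
    (hc : σ.ker ≤ center Γ) (χ : σ.ker →* Multiplicative (ZMod 2))
    (hex : ∀ A B : Γ, σ A = aEl → σ B = bEl → ∀ z : σ.ker, A * B = B * A * (z : Γ) → χ z = 1) :
    ∃ ψ : Γ →* Multiplicative (ZMod 2), ∀ z : σ.ker, ψ z = χ z := by
  obtain ⟨h1, h2, h3⟩ := of_data two_ok
  have hle := CenSplitStable50.card_chain P2.cert two_shape (fun a => ev (P2.yW.getD a [])) h1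
  have hidx := index_eq (by norm_num) _ (m := 8906625) (by decide +kernel) h3 hle
  refine CenSplitTwoX40.extend_of_cert P2.cert two_shape [P2.pairW] two_comb _
    (fun a => ev (P2.xW.getD a [])) h1 h2 h3 (by rw [hidx]; decide) σ hs hc χ
    fun q hq A B hA hB => hex A B ?_ ?_
  · rw [hA, List.mem_singleton.1 hq]; exact ev_glob _ _
  · rw [hB, List.mem_singleton.1 hq]; exact ev_glob _ _

theorem censplit_three : SplitVoltage.CenSplit 3 G := by
  obtain ⟨h1, h2, h3⟩ := of_data three_ok
  have hle := CenSplitStableP50.card_chain P3.cert (by decide) three_comb.1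
    (fun a => ev (P3.yW.getD a [])) h1
  have hidx := index_eq (by norm_num) _ (m := 5404672000) (by decide +kernel) h3 hle
  exact CenSplitStableP50.censplit_of_cert P3.cert Nat.prime_three three_comb.1 three_comb.2 _
    (fun a => ev (P3.xW.getD a [])) h1 h2 h3 (by rw [hidx]; decide)

theorem censplit_five : SplitVoltage.CenSplit 5 G := by
  obtain ⟨h1, h2, h3⟩ := of_data five_ok
  have hle := CenSplitStableP50.card_chain P5.cert (by decide) five_comb.1
    (fun a => ev (P5.yW.getD a [])) h1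
  have hidx := index_eq (by norm_num) _ (m := 1167409152) (by decide +kernel) h3 hle
  exact CenSplitStableP50.censplit_of_cert P5.cert (by norm_num : Nat.Prime 5) five_comb.1
    five_comb.2 _ (fun a => ev (P5.xW.getD a [])) h1 h2 h3 (by rw [hidx]; decide)

/-- Stem extensions in which the distinguished commutator is trivial are isomorphisms. -/
theorem ker_eq_bot {Γ : Type} [Group Γ] [Finite Γ] (σ : Γ →* G) (hσ : Cfsg.IsStemExtension σ)
    (htriv : ∀ A B : Γ, σ A = aEl → σ B = bEl → A * B = B * A) : σ.ker = ⊥ := by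
  refine StemBasic.ker_eq_bot_of_primes fun p hp z hz hzo => ?_
  have : Fact p.Prime := ⟨hp⟩
  have hkill : (∀ χ : σ.ker →* Multiplicative (ZMod p),
      ∃ ψ : Γ →* Multiplicative (ZMod p), ∀ z : σ.ker, ψ z = χ z) → False := by
    intro hext
    obtain ⟨M, hM⟩ : ∃ M : Subgroup σ.ker, M.index = p :=
      SplitVoltage.trivial_multiplier.exists_index_eq_prime hσ.2.1
        (hzo ▸ StemBasic.orderOf_dvd_card_ker hz)
    have hMn : M.Normal := by
      constructor
      intro a ha g
      have : g * a = a * g := Subtype.ext (mem_center_iff.1 (hσ.2.1 a.2) g)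
      rwa [this, mul_inv_cancel_right]
    have hcard' : Nat.card (σ.ker ⧸ M) = p := hM
    have : IsCyclic (σ.ker ⧸ M) := isCyclic_of_prime_card hcard'
    let e : σ.ker ⧸ M ≃* Multiplicative (ZMod p) := mulEquivOfCyclicCardEq (hcard'.trans (by simp))
    obtain ⟨ψ, hψ⟩ := hext (e.toMonoidHom.comp (QuotientGroup.mk' M))
    have htop : M = ⊤ := by
      rw [Subgroup.eq_top_iff']
      intro w
      have := hψ w
      rw [SplitVoltage.eq_one_of_mem_commutator ψ (hσ.2.2 w.2)] at this
      have h1 : QuotientGroup.mk' M w = 1 := e.injective (by simpa using this.symm)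
      exact (QuotientGroup.eq_one_iff w).1 h1
    rw [htop, Subgroup.index_top] at hM
    exact hp.one_lt.ne hM
  by_cases h2 : p = 2
  · subst h2
    refine hkill fun χ => extend_two σ hσ.1 hσ.2.1 χ fun A B hA hB w hw => ?_
    have : w = 1 := Subtype.ext (mul_left_cancel
      (hw.symm.trans ((htriv A B hA hB).trans (mul_one _).symm)))
    rw [this, map_one]
  by_cases h3 : p = 3
  · subst h3; exact hkill fun χ => censplit_three Γ σ hσ.1 hσ.2.1 χ
  by_cases h5 : p = 5
  · subst h5; exact hkill fun χ => censplit_five Γ σ hσ.1 hσ.2.1 χ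
  -- the other primes have cyclic Sylow subgroups
  have hsq : ¬ p ^ 2 ∣ Nat.card G := by
    intro hd
    rw [RuAction66.card_GG,
      show (145926144000 : ℕ) = 2 ^ 14 * 3 ^ 3 * 5 ^ 3 * (7 * 13 * 29) by norm_num] at hd
    have hc : ∀ q k : ℕ, q.Prime → p ≠ q → Nat.Coprime (p ^ 2) (q ^ k) := fun q k hq hne =>
      Nat.Coprime.pow _ _ ((Nat.coprime_primes hp hq).2 hne)
    have h4 : Nat.Coprime (p ^ 2) (2 ^ 14 * 3 ^ 3 * 5 ^ 3) :=
      Nat.Coprime.mul_right (Nat.Coprime.mul_right (hc 2 14 Nat.prime_two h2)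
        (hc 3 3 Nat.prime_three h3)) (hc 5 3 (by norm_num) h5)
    have h6 := h4.dvd_of_dvd_mul_left hd
    exact hp.not_isUnit ((by decide +kernel : Squarefree (7 * 13 * 29)) p (by rwa [← sq]))
  by_cases hdvd : p ∣ Nat.card G
  · obtain ⟨a, ha⟩ := exists_prime_orderOf_dvd_card' p hdvd
    have hcop : Nat.Coprime (orderOf z) (zpowers a).index := by
      rw [hzo, hp.coprime_iff_not_dvd]
      rintro ⟨k, hk⟩
      refine hsq ⟨k, ?_⟩
      rw [← Subgroup.card_mul_index (zpowers a), Nat.card_zpowers, ha, hk]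
      ring
    have h1 := StemBasic.eq_one_of_kerFree hσ (StemBasic.kerFree_zpowers σ hσ.2.1 a) hz hcop
    rw [h1, orderOf_one] at hzo
    exact hp.one_lt.ne hzo
  · exact hkill fun χ => SplitVoltage.censplit_of_coprime
      (Nat.Coprime.symm ((hp.coprime_iff_not_dvd).2 hdvd)) Γ σ hσ.1 hσ.2.1 χ

/-- Kernels of stem extensions have order at most two. -/
theorem card_ker_le {Γ : Type} [Group Γ] [Finite Γ] (σ : Γ →* G) (hσ : Cfsg.IsStemExtension σ) :
    Nat.card σ.ker ≤ 2 := by
  obtain ⟨A, hA⟩ := hσ.1 aEl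
  obtain ⟨B, hB⟩ := hσ.1 bEl
  have hc : ∀ {w : Γ}, w ∈ σ.ker → ∀ g, g * w = w * g := fun hw => mem_center_iff.1 (hσ.2.1 hw)
  let Z : Γ := ⁅A, B⁆
  have hZ : Z ∈ σ.ker := by
    rw [MonoidHom.mem_ker, map_commutatorElement, hA, hB, commutatorElement_eq_one_iff_mul_comm,
      pair_comm]
  have hconj : A * B * A⁻¹ = Z * B := by simp [Z, commutatorElement_def, mul_assoc]
  have hA2 : A ^ 2 ∈ σ.ker := by rw [MonoidHom.mem_ker, map_pow, hA, pair_sq]
  have hZ2 : Z ^ 2 = 1 := by
    have h : A ^ 2 * B * (A ^ 2)⁻¹ = Z ^ 2 * B := by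
      calc A ^ 2 * B * (A ^ 2)⁻¹ = A * (A * B * A⁻¹) * A⁻¹ := by rw [pow_two]; group
        _ = A * (Z * B) * A⁻¹ := by rw [hconj]
        _ = Z * (A * B * A⁻¹) := by rw [← mul_assoc A, hc hZ A]; group
        _ = Z ^ 2 * B := by rw [hconj, pow_two, mul_assoc]
    rw [← hc hA2 B, mul_inv_cancel_right] at h
    exact mul_eq_right.1 h.symm
  let N : Subgroup Γ := zpowers Z
  have hNle : N ≤ σ.ker := zpowers_le.2 hZ
  have : N.Normal := ⟨fun w hw g => by rwa [hc (hNle hw) g, mul_inv_cancel_right]⟩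
  let σb : Γ ⧸ N →* G := QuotientGroup.lift N σ hNle
  have hkb : ∀ w : Γ ⧸ N, w ∈ σb.ker → ∃ u ∈ σ.ker, QuotientGroup.mk' N u = w := fun w hw => by
    obtain ⟨u, rfl⟩ := QuotientGroup.mk'_surjective N w
    exact ⟨u, hw, rfl⟩
  have hσb : Cfsg.IsStemExtension σb := by
    refine ⟨fun g => ?_, fun w hw => ?_, fun w hw => ?_⟩
    · obtain ⟨u, rfl⟩ := hσ.1 g
      exact ⟨QuotientGroup.mk u, rfl⟩
    · obtain ⟨u, hu, rfl⟩ := hkb w hw
      rw [mem_center_iff]
      intro v
      obtain ⟨v, rfl⟩ := QuotientGroup.mk'_surjective N v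
      rw [← map_mul, ← map_mul, hc hu v]
    · obtain ⟨u, hu, rfl⟩ := hkb w hw
      have h : (commutator Γ).map (QuotientGroup.mk' N) ≤ commutator (Γ ⧸ N) := by
        rw [commutator_def, commutator_def, Subgroup.map_commutator]
        exact Subgroup.commutator_mono le_top le_top
      exact h (mem_map_of_mem _ (hσ.2.2 hu))
  have hbot := ker_eq_bot σb hσb fun A' B' hA' hB' => by
    obtain ⟨A', rfl⟩ := QuotientGroup.mk'_surjective N A'
    obtain ⟨B', rfl⟩ := QuotientGroup.mk'_surjective N B'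
    obtain ⟨za, hza, rfl⟩ : ∃ za ∈ σ.ker, A' = A * za := ⟨A⁻¹ * A', by
      rw [MonoidHom.mem_ker, map_mul, map_inv, hA]
      exact inv_mul_eq_one.2 hA'.symm, by group⟩
    obtain ⟨zb, hzb, rfl⟩ : ∃ zb ∈ σ.ker, B' = B * zb := ⟨B⁻¹ * B', by
      rw [MonoidHom.mem_ker, map_mul, map_inv, hB]
      exact inv_mul_eq_one.2 hB'.symm, by group⟩
    rw [← map_mul, ← map_mul]
    refine (QuotientGroup.eq.2 ?_)
    have hz : A * za * (B * zb) = Z * (B * zb * (A * za)) := by
      calc A * za * (B * zb) = A * (za * B) * zb := by group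
        _ = A * B * za * zb := by rw [← hc hza B]; group
        _ = Z * (B * A) * (za * zb) := by simp only [Z, commutatorElement_def]; group
        _ = Z * (B * (A * za * zb)) := by group
        _ = Z * (B * (zb * (A * za))) := by rw [hc hzb (A * za)]
        _ = _ := by group
    rw [hz, mul_inv_rev, mul_assoc, ← hc (inv_mem hZ), inv_mul_cancel_left]
    exact inv_mem (mem_zpowers Z)
  have hle : σ.ker ≤ N := fun u hu => by
    have : QuotientGroup.mk' N u ∈ σb.ker := hu
    rw [hbot, mem_bot] at this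
    exact (QuotientGroup.eq_one_iff u).1 this
  calc Nat.card σ.ker ≤ Nat.card N := Subgroup.card_le_of_le hle
    _ = orderOf Z := Nat.card_zpowers Z
    _ ≤ 2 := Nat.le_of_dvd (by norm_num) (orderOf_dvd_of_pow_eq_one hZ2)

end Cfsg.Agent.RuMultUpper40
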