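import Cfsg.Agent.Lib.RuOutDefs76

/-! Checks for the outer automorphism group. -/

set_option autoImplicit false
set_option maxRecDepth 100000
set_option Elab.async false

namespace Cfsg.Agent.RuOutChecks76

open RuPermCert66 RuPermData66 RuSift76 RuOutData76

theorem invs : [xq20, xq21, xq30, xq31, uq20, uq21, uq30, uq31, qy, qz, qt].all (invOK NN) = true := by
  decide +kernel

theorem defxq20 : defOK NN (tabs [p12, p14]) [2, 0, 2, 1, 3, 3, 3, 0, 0, 2, 0, 0, 0, 2] xq20.1 = true := by
  decide +kernel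

theorem defxq21 : defOK NN (tabs [p12, p14]) [2, 1, 2, 1, 2, 1, 3, 1, 3, 1, 2, 0, 3, 1, 3, 1] xq21.1 = true := by
  decide +kernel

theorem defxq30 : defOK NN (tabs [xq20, xq21]) [1, 3, 3, 1, 2, 2, 0, 0] xq30.1 = true := by decide +kernel

theorem defxq31 : defOK NN (tabs [xq20, xq21]) [2, 2, 0, 0, 2, 0, 3, 1, 3] xq31.1 = true := by
  decide +kernel

theorem defuq20 : defOK NN (tabs [p12, p14]) [0, 3, 3, 1, 2, 2, 2, 1, 3, 1, 2, 0, 3, 0, 3] uq20.1 = true := by
  decide +kernel

theorem defuq21 : defOK NN (tabs [p12, p14]) [0, 2, 1, 3, 0, 0, 3, 1, 2, 0, 3, 1, 3, 1, 2, 1, 1] uq21.1 = true := by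
  decide +kernel

theorem defuq30 : defOK NN (tabs [uq20, uq21]) [0, 2, 2, 2, 0, 2, 1, 2, 2, 1] uq30.1 = true := by
  decide +kernel

theorem defuq31 : defOK NN (tabs [uq20, uq21]) [2, 0, 3, 0, 3, 1, 3, 0, 2, 0] uq31.1 = true := by
  decide +kernel

theorem defqy : defOK NN (tabs [p8, p10, p12, p14]) [1, 1, 1, 3, 1, 1, 1, 5, 6, 6, 6, 6, 3, 4] qy.1 = true := by
  decide +kernel

theorem defqz : defOK NN (tabs [p8, p10, p12, p14]) [0, 5, 7, 5, 1, 4, 2, 2, 2, 6, 1, 1, 1, 7] qz.1 = true := by
  decide +kernel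

theorem defqt : defOK NN (tabs [qy]) [0, 0] qt.1 = true := by decide +kernel

theorem chainX_ok : chainOK NN [] (LX.map Lvl.level) = true ∧
    chainSize (LX.map Lvl.level) = 145926144000 := by
  decide +kernel

theorem chainU_ok : chainOK NN [] (LU.map Lvl.level) = true ∧
    chainSize (LU.map Lvl.level) = 145926144000 := by
  decide +kernel

theorem small : smallOK = true := by decide +kernel

theorem real_ok : realOK = true := by decide +kernel

theorem sep_ok : sepOK = true := by decide +kernel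

theorem cent_len : centW.length = 28 ∧ centW.getD 0 [] = [2] := by decide +kernel

end Cfsg.Agent.RuOutChecks76
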