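import Cfsg.Agent.Lib.RuSift76
import Cfsg.Agent.Lib.RuPermChecks66
import Cfsg.Agent.Lib.RuOutTab76
import Cfsg.Agent.Lib.RuOutTree76

/-! The chains and checks for the outer automorphism group. -/

set_option autoImplicit false
set_option maxRecDepth 100000
set_option Elab.async false

namespace Cfsg.Agent.RuOutChecks76

open RuPermCert66 RuPermData66 RuSift76 RuOutData76

/-- The levels along the orbit of the element of order 29. -/
noncomputable def LX : List Lvl :=
  [⟨0, tabs [p8, p10], esx0, maskx0, genx0⟩, ⟨3928, tabs [p12, p14], esx1, maskx1, genx1⟩,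
    ⟨1380, tabs [xq20, xq21], esx2, maskx2, genx2⟩, ⟨190, tabs [xq30, xq31], esx3, maskx3, genx3⟩]

/-- The levels along the orbit of the element of order 7. -/
noncomputable def LU : List Lvl :=
  [⟨0, tabs [p8, p10], esu0, masku0, genu0⟩, ⟨2609, tabs [p12, p14], esu1, masku1, genu1⟩,
    ⟨422, tabs [uq20, uq21], esu2, masku2, genu2⟩, ⟨2037, tabs [uq30, uq31], esu3, masku3, genu3⟩]

/-- The powers of the element of order 29. -/
def centX : List (List ℕ) := (List.range 29).map fun k => List.replicate k 0

/-- The three generators. -/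
noncomputable def TX : List PT := tabs [p8, qy, qz]

/-- The images of the generators. -/
noncomputable def img (j k : ℕ) (i : ℕ) : List ℕ :=
  if i = 0 then List.replicate j 0 else if i = 1 then [2] else
    (centW.getD k []).map fun l => l + 2

/-- The word of the image of a product. -/
noncomputable def sub (f : ℕ → List ℕ) (w : List ℕ) : List ℕ := w.flatMap f

/-- The letters of a relation. -/
def relL (p : List ℕ × ℕ) : List ℕ := (List.replicate p.2 p.1).flatten

/-- The relations hold. -/
noncomputable def realOK : Bool :=
  rels.all fun p => p.1.all (fun i => Nat.blt i 3) &&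
    allBelow (fun k => Nat.beq (ev TX ((relL p).map fun i => 2 * i) k) k) 4060

/-- The relations separate the pairs of images. -/
noncomputable def sepOK : Bool :=
  allBelow (fun b => allBelow (fun k => Nat.beq k 0 && Nat.beq b 0 ||
    Nat.blt ((sepT.getD b []).getD k 0) rels.length &&
      (centW.getD k []).all (fun l => Nat.blt l 4) &&
      !allBelow (fun q =>
        Nat.beq (ev TX (sub (img (b + 1) k) (relL (rels.getD ((sepT.getD b []).getD k 0) ([], 0)))) q) q)
        4060) 28) 2

/-- Small facts about the three generators. -/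
noncomputable def smallOK : Bool :=
  wb.all (fun i => Nat.blt i 6) &&
  allBelow (fun k => Nat.beq (ev TX wb k) (get p10.1 k)) 4060 &&
  allBelow (fun k => Nat.beq (ev TX [0, 2] k) (ev TX [2, 0, 0, 0, 0] k)) 4060 &&
  allBelow (fun k => Nat.beq (ev TX [2, 0] k) (ev TX (List.replicate 22 0 ++ [2]) k)) 4060 &&
  allBelow (fun k => Nat.beq (ev TX [4, 2, 2] k) (ev TX [2, 2, 4] k)) 4060 &&
  allBelow (fun k => Nat.beq (ev TX [2, 2] k) (get qt.1 k)) 4060 &&
  !Nat.beq (get p8.1 0) 0

end Cfsg.Agent.RuOutChecks76
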