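import Cfsg.Agent.Lib.RuPermChains66
import Cfsg.Agent.Lib.RuTitsData66

/-! Checks for the homomorphism to the group of order two. -/

set_option autoImplicit false
set_option maxRecDepth 100000

namespace Cfsg.Agent.RuPermData66

open RuPermCert66 RuTitsData66

/-- A table permutes the suborbit of length 1024 and moves the halves as told. -/
noncomputable def halfOK (t : PT) (c : Bool) : Bool :=
  allBelow (fun k => !(bitOf maskU k) || force (get t k) fun y =>
    bitOf maskU y && (bitOf maskQ y == xor (bitOf maskQ k) c)) NN

theorem half_ok : halfOK p46.1 true = true ∧ halfOK p48.1 false = true ∧ bitOf maskQ rootQ = true ∧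
    bitOf maskU rootQ = true ∧ rootQ < NN := by
  decide +kernel

/-- A word packed in base eight. -/
noncomputable def wordOf : ℕ → ℕ → List ℕ
  | 0, _ => []
  | n + 1, v => if Nat.beq v 0 then [] else (Nat.mod v 8 - 1) :: wordOf n (Nat.div v 8)

/-- An entry of a table in chunks of 64. -/
noncomputable def at64 (L : List (List ℕ)) (i : ℕ) : ℕ :=
  (L.getD (Nat.shiftRight i 6) []).getD (Nat.land i 63) 0

/-- The word of a point of the suborbit. -/
noncomputable def pathAt (x : ℕ) : List ℕ := wordOf 16 (at64 paths (x - 2305))

/-- The words lead back to the base point, and the stored preimages are right. -/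
noncomputable def pathsOK : Bool :=
  allBelow (fun i => force (i + 2305) fun x => force (at64 preQ i) fun r =>
    (pathAt x).all (fun l => Nat.blt l 4) && Nat.beq (ev (tabs [p12, p14]) (pathAt x) x) 2305 &&
      Nat.blt r NN && Nat.beq (ev (tabs [p12, p14]) (pathAt x) r) rootQ) 1755

theorem paths_ok : pathsOK = true := by decide +kernel

/-- The number of points where a table changes the half. -/
noncomputable def flips (t : PT) : ℕ :=
  Nat.rec 0 (fun i ih => cond (force (i + 2305) fun x => force (at64 preQ i) fun r =>
    force (get t r) fun r' => force (get t x) fun y =>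
      bitOf maskQ (ev (tabs [p12, p14]) (pathAt y) r')) ih (ih + 1)) 1755

theorem flips_ok : flips p14.1 % 2 = 1 := by decide +kernel

end Cfsg.Agent.RuPermData66
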