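import Cfsg.Agent.Lib.RuPermGroup66
import Cfsg.Agent.Lib.RuTitsChecks66

/-!
The point stabiliser of the group of the 4060 lines has a simple subgroup of index two, granting the
order of the group.
-/

set_option autoImplicit false
set_option maxRecDepth 100000

namespace Cfsg.Agent.RuPermGroup66

open RuPermCert66 RuPermData66 RuTitsData66

/-- The group generated by the two elements fixing the first line. -/
noncomputable def St : Subgroup (Equiv.Perm (Fin NN)) := Subgroup.closure {permOf NN p12, permOf NN p14}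

/-- Two elements of order 13 generate this subgroup. -/
noncomputable def Tt : Subgroup (Equiv.Perm (Fin NN)) := Subgroup.closure {permOf NN p26, permOf NN p28}

theorem tabs_St : ∀ t ∈ tabs [p12, p14], ∃ σ ∈ St, Rep σ t :=
  pair_tabs inv12 inv14 (Subgroup.subset_closure (by simp)) (Subgroup.subset_closure (by simp))

theorem tabs_Tt : ∀ t ∈ tabs [p26, p28], ∃ σ ∈ Tt, Rep σ t :=
  pair_tabs inv26 inv28 (Subgroup.subset_closure (by simp)) (Subgroup.subset_closure (by simp))

theorem mem46 : permOf NN p46 ∈ St := permOf_mem tabs_St inv46 def46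
theorem mem48 : permOf NN p48 ∈ St := permOf_mem tabs_St inv48 def48
theorem mem50 : permOf NN p50 ∈ St := permOf_mem (pair_tabs inv46 inv48 mem46 mem48) inv50 def50
theorem mem52 : permOf NN p52 ∈ St := permOf_mem (pair_tabs inv46 inv48 mem46 mem48) inv52 def52
theorem mem26 : permOf NN p26 ∈ St := permOf_mem tabs_St inv26 def26
theorem mem28 : permOf NN p28 ∈ St := permOf_mem tabs_St inv28 def28
theorem mem62 : permOf NN p62 ∈ Tt := permOf_mem tabs_Tt inv62 def62
theorem mem64 : permOf NN p64 ∈ Tt := permOf_mem tabs_Tt inv64 def64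
theorem mem66 : permOf NN p66 ∈ Tt := permOf_mem (pair_tabs inv62 inv64 mem62 mem64) inv66 def66
theorem mem68 : permOf NN p68 ∈ Tt := permOf_mem (pair_tabs inv62 inv64 mem62 mem64) inv68 def68

theorem Tt_le_St : Tt ≤ St := (Subgroup.closure_le _).mpr (by
  rintro x (rfl | rfl)
  exacts [mem26, mem28])

theorem le_card_St : 35942400 ≤ Nat.card St := by
  rw [← chainS_size]
  refine le_card chainS_ok ?_
  simp only [chainS, List.forall_mem_cons, List.not_mem_nil, IsEmpty.forall_iff, implies_true, and_true]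
  exact ⟨tabs_St, pair_tabs inv46 inv48 mem46 mem48, pair_tabs inv50 inv52 mem50 mem52⟩

theorem le_card_Tt : 17971200 ≤ Nat.card Tt := by
  rw [← chainT_size]
  refine le_card chainT_ok ?_
  simp only [chainT, List.forall_mem_cons, List.not_mem_nil, IsEmpty.forall_iff, implies_true, and_true]
  exact ⟨tabs_Tt, pair_tabs inv62 inv64 mem62 mem64, pair_tabs inv66 inv68 mem66 mem68⟩

theorem St_le : St ≤ fixSub GG [0] := by
  have h := fix_tab (pair_tabs inv12 inv14 (ab_le mem12) (ab_le mem14)) fix0_ok
  refine (Subgroup.closure_le _).mpr ?_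
  rintro x (rfl | rfl)
  · obtain ⟨σ, hσ, hr⟩ := h p12.1 (by simp [tabs])
    rw [(rep_permOf inv12).unique hr]; exact hσ
  · obtain ⟨σ, hσ, hr⟩ := h p14.1 (by simp [tabs])
    rw [(rep_permOf inv14).unique hr]; exact hσ

theorem fix_St {σ : Equiv.Perm (Fin NN)} (h : σ ∈ St) : σ o0 = o0 := (St_le h).2 o0 List.mem_cons_self

section

variable (hcard : Nat.card GG = 145926144000)
include hcard

theorem card_stab : Nat.card (MulAction.stabilizer GG o0) = 35942400 := by
  have h := Subgroup.index_mul_card (MulAction.stabilizer GG o0)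
  haveI : MulAction.IsPretransitive GG (Fin NN) := ⟨fun x y => by
    obtain ⟨σ, hσ, h1⟩ := transitive_GG x
    obtain ⟨τ, hτ, h2⟩ := transitive_GG y
    refine ⟨⟨τ, hτ⟩ * ⟨σ, hσ⟩⁻¹, ?_⟩
    show τ (σ⁻¹ x) = y
    rw [← h1, Equiv.Perm.inv_eq_iff_eq.mpr rfl, h2]⟩
  rw [MulAction.index_stabilizer_of_transitive, Nat.card_fin, hcard] at h
  change 4060 * _ = 145926144000 at h
  omega

theorem card_St : Nat.card St = 35942400 := by
  refine le_antisymm ?_ le_card_St
  rw [← card_stab hcard]
  exact Nat.card_le_card_of_injective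
    (fun g : St => (⟨⟨g.1, (St_le g.2).1⟩, fix_St g.2⟩ : MulAction.stabilizer GG o0))
    fun a b e => Subtype.ext (congrArg (fun g : MulAction.stabilizer GG o0 => ((g : GG) : Equiv.Perm (Fin NN))) e)

/-! ### The action on the suborbit of length 1755 -/

/-- The base point in the suborbit of length 1755. -/
def o1 : Fin NN := ⟨2305, by norm_num⟩

omit hcard in
theorem keep {σ : Equiv.Perm (Fin NN)} (h : σ ∈ St) : ∀ x : Fin NN, 2305 ≤ (x : ℕ) ↔ 2305 ≤ (σ x : ℕ) := by
  have hk := keep_ok
  simp only [List.all_cons, List.all_nil, Bool.and_true, Bool.and_eq_true] at hk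
  have one : ∀ {q : PT × PT}, invOK NN q = true →
      allBelow (fun k => Nat.blt k 2305 || Nat.ble 2305 (get q.1 k)) NN = true →
      ∀ x : Fin NN, 2305 ≤ (x : ℕ) ↔ 2305 ≤ (permOf NN q x : ℕ) := by
    intro q hq hs
    have hfwd : ∀ x : Fin NN, 2305 ≤ (x : ℕ) → 2305 ≤ (permOf NN q x : ℕ) := fun x hx => by
      have := allBelow_spec hs x x.2
      rw [Bool.or_eq_true, Nat.blt_eq, Nat.ble_eq] at this
      rw [rep_permOf hq x]
      exact this.resolve_left (by omega)
    intro x
    refine ⟨hfwd x, fun hx => ?_⟩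
    by_contra hlt
    let f : {y : Fin NN // 2305 ≤ (y : ℕ)} → {y : Fin NN // 2305 ≤ (y : ℕ)} :=
      fun y => ⟨permOf NN q y, hfwd y y.2⟩
    have hf : Function.Injective f := fun a b e =>
      Subtype.ext ((permOf NN q).injective (congrArg Subtype.val e))
    obtain ⟨y, hy⟩ := Finite.injective_iff_surjective.mp hf ⟨_, hx⟩
    exact hlt ((permOf NN q).injective (congrArg Subtype.val hy) ▸ y.2)
  induction h using Subgroup.closure_induction with
  | mem σ hσ =>
    rcases hσ with rfl | rfl
    · exact one inv12 hk.1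
    · exact one inv14 hk.2
  | one => simp
  | mul a b _ _ iha ihb => exact fun x => (ihb x).trans (iha (b x))
  | inv a _ iha => exact fun x => by rw [iha (a⁻¹ x), Equiv.Perm.coe_inv, Equiv.apply_symm_apply]

theorem card_fix : Nat.card (fixSub St [2305]) ≤ 20480 := by
  obtain ⟨S, hS, -, hSr⟩ := orbit_spec tabs_St o1 (es := cs0) (by
    have h := chainS_ok
    simp only [chainS, chainOK, Bool.and_eq_true] at h
    exact h.1.2)
  have horb : S.card ≤ (MulAction.orbit St o1).ncard := by
    rw [← Set.ncard_coe_finset]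
    refine Set.ncard_le_ncard (fun p hp => ?_) (Set.toFinite _)
    obtain ⟨σ, hσ, hσb⟩ := hSr p hp
    exact ⟨⟨σ, hσ⟩, hσb⟩
  rw [hS, lens_ok.2.2.2.1, ← MulAction.index_stabilizer] at horb
  have h := Subgroup.index_mul_card (MulAction.stabilizer St o1)
  rw [card_St hcard] at h
  have hle : Nat.card (fixSub St [2305]) ≤ Nat.card (MulAction.stabilizer St o1) :=
    Nat.card_le_card_of_injective
      (fun g : fixSub St [2305] => (⟨⟨g.1, g.2.1⟩, g.2.2 o1 List.mem_cons_self⟩ : MulAction.stabilizer St o1))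
      fun a b e => Subtype.ext (congrArg (fun g : MulAction.stabilizer St o1 => ((g : St) : Equiv.Perm (Fin NN))) e)
  have := Nat.mul_le_mul_right (Nat.card (MulAction.stabilizer St o1)) horb
  omega

theorem fix_generated : fixSub St [2305] ≤ Subgroup.closure {permOf NN p46, permOf NN p48} := by
  set K := Subgroup.closure {permOf NN p46, permOf NN p48} with hK
  have hKle : K ≤ fixSub St [2305] := by
    have hp : preOK [2305] (tabs [p46, p48]) = true := by
      have h := chainS_tail.1
      simp only [chainS, List.tail_cons, chainOK, Bool.and_eq_true] at h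
      exact h.1.1.2
    have h := fix_tab (pair_tabs inv46 inv48 mem46 mem48) hp
    refine (Subgroup.closure_le _).mpr ?_
    rintro x (rfl | rfl)
    · obtain ⟨σ, hσ, hr⟩ := h p46.1 (by simp [tabs])
      rw [(rep_permOf inv46).unique hr]; exact hσ
    · obtain ⟨σ, hσ, hr⟩ := h p48.1 (by simp [tabs])
      rw [(rep_permOf inv48).unique hr]; exact hσ
  refine (Subgroup.eq_of_le_of_card_ge hKle ((card_fix hcard).trans ?_)).ge
  have h46 : permOf NN p46 ∈ K := Subgroup.subset_closure (by simp)
  have h48 : permOf NN p48 ∈ K := Subgroup.subset_closure (by simp)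
  have h := chain_spec (H := K) chainS.tail [2305] chainS_tail.1 (by
    simp only [chainS, List.tail_cons, List.forall_mem_cons, List.not_mem_nil, IsEmpty.forall_iff,
      implies_true, and_true]
    have t := pair_tabs inv46 inv48 h46 h48
    exact ⟨t, pair_tabs inv50 inv52 (permOf_mem t inv50 def50) (permOf_mem t inv52 def52)⟩)
  rw [chainS_tail.2] at h
  exact ((Nat.le_mul_of_pos_right _ Nat.card_pos).trans h).trans
    (Subgroup.card_le_of_le fun σ hσ => hσ.1)

/-! ### The homomorphism to the group of order two -/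

omit hcard in
/-- The two halves are kept or swapped. -/
theorem half {σ : Equiv.Perm (Fin NN)} (h : σ ∈ Subgroup.closure {permOf NN p46, permOf NN p48}) :
    ∃ c : Bool, ∀ k : Fin NN, maskU.testBit k = true →
      maskU.testBit (σ k) = true ∧ maskQ.testBit (σ k) = xor (maskQ.testBit k) c := by
  have one : ∀ {q : PT × PT} {c : Bool}, invOK NN q = true → halfOK q.1 c = true → ∀ k : Fin NN,
      maskU.testBit k = true →
        maskU.testBit (permOf NN q k) = true ∧ maskQ.testBit (permOf NN q k) = xor (maskQ.testBit k) c := by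
    intro q c hq hh k hk
    have := allBelow_spec hh k k.2
    simp only [force_eq, bitOf_eq, hk, Bool.not_true, Bool.false_or, Bool.and_eq_true, beq_iff_eq] at this
    rw [rep_permOf hq k]
    exact this
  induction h using Subgroup.closure_induction with
  | mem σ hσ =>
    rcases hσ with rfl | rfl
    · exact ⟨true, one inv46 half_ok.1⟩
    · exact ⟨false, one inv48 half_ok.2.1⟩
  | one => exact ⟨false, fun k hk => ⟨hk, by simp⟩⟩
  | mul a b _ _ iha ihb =>
    obtain ⟨c, hc⟩ := iha
    obtain ⟨d, hd⟩ := ihb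
    refine ⟨xor d c, fun k hk => ?_⟩
    obtain ⟨h1, h2⟩ := hd k hk
    obtain ⟨h3, h4⟩ := hc _ h1
    exact ⟨h3, by rw [Equiv.Perm.mul_apply, h4, h2, Bool.xor_assoc]⟩
  | inv a _ iha =>
    obtain ⟨c, hc⟩ := iha
    have hmem : ∀ k : Fin NN, maskU.testBit k = true → ∃ y, a y = k ∧ maskU.testBit y = true := by
      intro k hk
      let f : {y : Fin NN // maskU.testBit y = true} → {y : Fin NN // maskU.testBit y = true} :=
        fun y => ⟨a y, (hc y y.2).1⟩
      have hf : Function.Injective f := fun s t e =>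
        Subtype.ext (a.injective (congrArg Subtype.val e))
      obtain ⟨y, hy⟩ := Finite.injective_iff_surjective.mp hf ⟨k, hk⟩
      exact ⟨y, congrArg Subtype.val hy, y.2⟩
    refine ⟨c, fun k hk => ?_⟩
    obtain ⟨y, rfl, hy⟩ := hmem k hk
    rw [show a⁻¹ (a y) = y from a.symm_apply_apply y]
    exact ⟨hy, by rw [(hc y hy).2, Bool.xor_assoc, Bool.xor_self, Bool.xor_false]⟩

omit hcard in
/-- The root of the chosen half. -/
def oq : Fin NN := ⟨rootQ, half_ok.2.2.2.2⟩

/-- Whether an element fixing the base point moves the half. -/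
noncomputable def phi (σ : Equiv.Perm (Fin NN)) : ZMod 2 := if maskQ.testBit (σ oq) then 0 else 1

theorem phi_mul {a b : Equiv.Perm (Fin NN)} (ha : a ∈ fixSub St [2305]) (hb : b ∈ fixSub St [2305]) :
    phi (a * b) = phi a + phi b := by
  obtain ⟨c, hc⟩ := half (fix_generated hcard ha)
  obtain ⟨d, hd⟩ := half (fix_generated hcard hb)
  have hU : maskU.testBit (oq : ℕ) = true := by
    have := half_ok.2.2.2.1; rwa [bitOf_eq] at this
  have hQ : maskQ.testBit (oq : ℕ) = true := by
    have := half_ok.2.2.1; rwa [bitOf_eq] at this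
  obtain ⟨h1, h2⟩ := hd oq hU
  have h3 := (hc oq hU).2
  have h4 := (hc _ h1).2
  simp only [phi, Equiv.Perm.mul_apply, h4, h2, h3, hQ]
  cases c <;> cases d <;> decide

omit hcard in
theorem pnt_lt (i : Fin 1755) : (i : ℕ) + 2305 < NN := by
  show _ < 4060
  omega

omit hcard in
theorem path_spec (i : Fin 1755) : ∃ σ ∈ St, (∀ k : Fin NN, (σ k : ℕ) = ev (tabs [p12, p14]) (pathAt (i + 2305)) k) ∧
    σ ⟨i + 2305, pnt_lt i⟩ = o1 ∧ ∃ r : Fin NN, (r : ℕ) = at64 preQ i ∧ σ r = oq := by
  have h := allBelow_spec paths_ok i i.2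
  simp only [force_eq, Bool.and_eq_true, List.all_eq_true, Nat.blt_eq, Nat.beq_eq] at h
  obtain ⟨⟨⟨hw, h1⟩, hr⟩, h2⟩ := h
  obtain ⟨σ, hσ, he⟩ := exists_word tabs_St (pathAt (i + 2305)) hw
  exact ⟨σ, hσ, he, Fin.ext ((he _).trans h1), ⟨_, hr⟩, rfl, Fin.ext ((he _).trans h2)⟩

/-- A transversal, taking each point of the suborbit back to the base point. -/
noncomputable def back (i : Fin 1755) : Equiv.Perm (Fin NN) := (path_spec i).choose

omit hcard in
/-- The point of the suborbit. -/
def pnt (i : Fin 1755) : Fin NN := ⟨i + 2305, pnt_lt i⟩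

omit hcard in
/-- The image of a number of a point of the suborbit. -/
noncomputable def img (g : St) (i : Fin 1755) : Fin 1755 :=
  ⟨((g : Equiv.Perm (Fin NN)) (pnt i) : ℕ) - 2305, by
    have h1 := (keep g.2 (pnt i)).mp (by simp [pnt])
    have h2 : ((g : Equiv.Perm (Fin NN)) (pnt i) : ℕ) < 4060 := ((g : Equiv.Perm (Fin NN)) (pnt i)).2
    omega⟩

omit hcard in
theorem pnt_img (g : St) (i : Fin 1755) : pnt (img g i) = (g : Equiv.Perm (Fin NN)) (pnt i) := by
  have h1 := (keep g.2 (pnt i)).mp (by simp [pnt])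
  apply Fin.ext
  simp only [pnt, img]
  simp only [pnt] at h1
  omega

omit hcard in
theorem img_mul (g h : St) (i : Fin 1755) : img (g * h) i = img g (img h i) := by
  apply Fin.ext
  show _ = ((g : Equiv.Perm (Fin NN)) (pnt (img h i)) : ℕ) - 2305
  rw [pnt_img]
  rfl

/-- The element of the stabiliser of the base point belonging to an element and a point. -/
noncomputable def part (g : St) (i : Fin 1755) : Equiv.Perm (Fin NN) :=
  back (img g i) * g * (back i)⁻¹

omit hcard in
theorem part_mem (g : St) (i : Fin 1755) : part g i ∈ fixSub St [2305] := by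
  obtain ⟨h1, -, h2, -⟩ := (path_spec i).choose_spec
  obtain ⟨h1', -, h2', -⟩ := (path_spec (img g i)).choose_spec
  refine ⟨mul_mem (mul_mem h1' g.2) (inv_mem h1), fun k hk => ?_⟩
  rw [List.mem_singleton] at hk
  have e : k = o1 := Fin.ext hk
  subst e
  rw [part, Equiv.Perm.mul_apply, Equiv.Perm.mul_apply,
    show (back i)⁻¹ o1 = pnt i from Equiv.Perm.inv_eq_iff_eq.mpr h2.symm, ← pnt_img]
  exact h2'



omit hcard in
theorem part_mul (g h : St) (i : Fin 1755) : part (g * h) i = part g (img h i) * part h i := by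
  simp only [part, img_mul, Subgroup.coe_mul]
  group

/-- The number of changes of half, modulo two. -/
noncomputable def total (g : St) : ZMod 2 := Finset.sum Finset.univ fun i => phi (part g i)

theorem total_mul (g h : St) : total (g * h) = total g + total h := by
  have e : ∀ i, phi (part (g * h) i) = phi (part g (img h i)) + phi (part h i) := fun i => by
    rw [part_mul, phi_mul hcard (part_mem _ _) (part_mem _ _)]
  have hb : Function.Bijective (img h) := Finite.injective_iff_bijective.mp fun a b he => by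
    have := congrArg pnt he
    rw [pnt_img, pnt_img] at this
    exact Fin.ext (by simpa [pnt] using (Equiv.injective _ this))
  rw [total, Finset.sum_congr rfl fun i _ => e i, Finset.sum_add_distrib,
    hb.sum_comp (fun i => phi (part g i)), total, total]

omit hcard in
theorem count_cast (f : ℕ → Bool) : ∀ n : ℕ,
    ((Nat.rec 0 (fun i ih => cond (f i) ih (ih + 1)) n : ℕ) : ZMod 2) =
      ∑ i ∈ Finset.range n, (if f i then 0 else 1) := by
  intro n
  induction n with
  | zero => simp
  | succ n ih =>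
    rw [Finset.sum_range_succ, ← ih]
    show ((cond (f n) _ _ : ℕ) : ZMod 2) = _
    cases f n <;> simp

omit hcard in
theorem sum_eq_flips {q : PT × PT} (hq : invOK NN q = true) (hm : permOf NN q ∈ St) :
    total ⟨_, hm⟩ = (flips q.1 : ZMod 2) := by
  rw [total, flips, count_cast,
    ← Fin.sum_univ_eq_sum_range]
  refine Finset.sum_congr rfl fun i _ => ?_
  obtain ⟨-, -, -, r, hr, hr'⟩ := (path_spec i).choose_spec
  obtain ⟨-, he, -, -⟩ := (path_spec (img ⟨_, hm⟩ i)).choose_spec
  have hb : (back i)⁻¹ oq = r := Equiv.Perm.inv_eq_iff_eq.mpr hr'.symm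
  have hval : ((img ⟨_, hm⟩ i : Fin 1755) : ℕ) + 2305 = get q.1 ((i : ℕ) + 2305) := by
    have := congrArg Fin.val (pnt_img ⟨_, hm⟩ i)
    rw [rep_permOf hq (pnt i)] at this
    exact this
  simp only [phi, part, Equiv.Perm.mul_apply, hb, force_eq, bitOf_eq]
  rw [show (back (img ⟨_, hm⟩ i) (permOf NN q r) : ℕ) = _ from he _, hval, rep_permOf hq r, hr]

omit hcard in
theorem mem14St : permOf NN p14 ∈ St := Subgroup.subset_closure (by simp)

theorem card_Tt : Nat.card Tt = 17971200 := by
  refine le_antisymm ?_ le_card_Tt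
  let ψ : St →* Multiplicative (ZMod 2) :=
    MonoidHom.mk' (fun g => Multiplicative.ofAdd (total g)) fun a b => by
      rw [← ofAdd_add, total_mul hcard]
  have h13 : ∀ {q : PT × PT} (hm : permOf NN q ∈ St), permOf NN q ^ 13 = 1 →
      (⟨_, hm⟩ : St) ∈ ψ.ker := by
    intro q hm hp
    have h : ψ ⟨_, hm⟩ ^ 13 = 1 := by
      rw [← map_pow, show (⟨_, hm⟩ : St) ^ 13 = 1 from Subtype.ext hp, map_one]
    have hall : ∀ z : ZMod 2, 13 • z = z := by decide
    rw [MonoidHom.mem_ker]
    have h2 := congrArg Multiplicative.toAdd h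
    rw [toAdd_pow, toAdd_one, hall] at h2
    exact Multiplicative.toAdd.injective (h2.trans toAdd_one.symm)
  have hp := pow13_ok
  simp only [List.all_cons, List.all_nil, Bool.and_true, Bool.and_eq_true] at hp
  have hT : Tt ≤ ψ.ker.map St.subtype := by
    refine (Subgroup.closure_le _).mpr ?_
    rintro x (rfl | rfl)
    · exact ⟨⟨_, mem26⟩, h13 mem26 (pow_eq_one inv26 hp.1), rfl⟩
    · exact ⟨⟨_, mem28⟩, h13 mem28 (pow_eq_one inv28 hp.2), rfl⟩
  have hne : ψ.ker ≠ ⊤ := by
    intro he
    have h1 : ψ ⟨_, mem14St⟩ = 1 := MonoidHom.mem_ker.mp (he ▸ Subgroup.mem_top _)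
    have h2 : (flips p14.1 : ZMod 2) = 0 := by
      rw [← sum_eq_flips inv14 mem14St]
      exact congrArg Multiplicative.toAdd h1
    rw [ZMod.natCast_eq_zero_iff_even, Nat.even_iff, flips_ok] at h2
    exact absurd h2 one_ne_zero
  have hle : Nat.card Tt ≤ Nat.card ψ.ker :=
    (Subgroup.card_le_of_le hT).trans_eq (Subgroup.card_map_of_injective St.subtype_injective)
  obtain ⟨c, hc⟩ := Subgroup.card_subgroup_dvd_card ψ.ker
  rw [card_St hcard] at hc
  have hc2 : 2 ≤ c := by
    rcases c with _ | _ | c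
    · simp at hc
    · exact absurd (Subgroup.eq_top_of_card_eq _ (by rw [card_St hcard, hc, zero_add, mul_one])) hne
    · omega
  nlinarith

end

end Cfsg.Agent.RuPermGroup66
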