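import Cfsg.Agent.Lib.RuPermTits66

/-! The subgroup of index two of the point stabiliser is simple. -/

set_option autoImplicit false
set_option maxRecDepth 100000

namespace Cfsg.Agent.RuPermGroup66

open RuPermCert66 RuPermData66 RuTitsData66

section

variable (hcard : Nat.card GG = 145926144000)
include hcard

theorem fix_bot {σ : Equiv.Perm (Fin NN)} (hσ : σ ∈ St) (h : ∀ x : Fin NN, 2305 ≤ (x : ℕ) → σ x = x) :
    σ = 1 := by
  refine fix_eq_bot chainS_ok ?_ ((card_St hcard).trans chainS_size.symm).le hσ fun k hk => h k ?_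
  · simp only [chainS, List.forall_mem_cons, List.not_mem_nil, IsEmpty.forall_iff, implies_true, and_true]
    exact ⟨tabs_St, pair_tabs inv46 inv48 mem46 mem48, pair_tabs inv50 inv52 mem50 mem52⟩
  · simp only [chainS, List.map_cons, List.map_nil, List.mem_cons, List.not_mem_nil, or_false] at hk
    omega

/-- The subgroup is simple. -/
theorem isSimpleGroup_Tt : IsSimpleGroup Tt := by
  let α := {x : Fin NN // 2305 ≤ (x : ℕ)}
  have hα : Nat.card α = 1755 := by
    rw [Nat.card_congr (β := Fin 1755)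
      { toFun := fun x => ⟨(x.1 : ℕ) - 2305, by have h1 : (x.1 : ℕ) < 4060 := x.1.2; have := x.2; omega⟩
        invFun := fun i => (⟨pnt i, by simp [pnt]⟩ : α)
        left_inv := fun x => Subtype.ext (Fin.ext (by have := x.2; simp only [pnt]; omega))
        right_inv := fun i => Fin.ext (by simp [pnt]) }, Nat.card_fin]
  let ρ : Tt →* Equiv.Perm α := MonoidHom.mk'
    (fun g => (g : Equiv.Perm (Fin NN)).subtypePerm fun x => (keep (Tt_le_St g.2) x).symm) fun a b =>
      Equiv.ext fun x => rfl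
  let a : α := ⟨o1, by simp [o1]⟩
  have hT : ∀ t ∈ tabs [p62, p64], ∃ σ ∈ fixSub Tt [2305], Rep σ t :=
    fix_tab (pair_tabs inv62 inv64 mem62 mem64) tsub_ok.2.2.2.2
  have hr := tsub_range
  simp only [List.all_cons, List.all_nil, Bool.and_true, Bool.and_eq_true, Nat.ble_eq, Nat.blt_eq] at hr
  obtain ⟨⟨⟨r0, r0'⟩, ⟨r1, r1'⟩, ⟨r2, r2'⟩, r3, r3'⟩, hrest⟩ := hr
  simp only [List.all_eq_true, List.mem_append, Nat.ble_eq] at hrest
  obtain ⟨A0, c0, m0, q0⟩ := orbit_spec hT ⟨_, r0'⟩ tsub_ok.1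
  obtain ⟨A1, c1, m1, q1⟩ := orbit_spec hT ⟨_, r1'⟩ tsub_ok.2.1
  obtain ⟨A2, c2, m2, q2⟩ := orbit_spec hT ⟨_, r2'⟩ tsub_ok.2.2.1
  obtain ⟨A3, c3, m3, q3⟩ := orbit_spec hT ⟨_, r3'⟩ tsub_ok.2.2.2.1
  have l0 : ∀ x ∈ A0, 2305 ≤ (x : ℕ) := fun x hx => by
    rcases (m0 x).mp hx with rfl | h
    · simp only; omega
    · have := hrest _ (Or.inl (Or.inl (Or.inl h))); omega
  have l1 : ∀ x ∈ A1, 2305 ≤ (x : ℕ) := fun x hx => by
    rcases (m1 x).mp hx with rfl | h
    · simp only; omega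
    · have := hrest _ (Or.inl (Or.inl (Or.inr h))); omega
  have l2 : ∀ x ∈ A2, 2305 ≤ (x : ℕ) := fun x hx => by
    rcases (m2 x).mp hx with rfl | h
    · simp only; omega
    · have := hrest _ (Or.inl (Or.inr h)); omega
  have l3 : ∀ x ∈ A3, 2305 ≤ (x : ℕ) := fun x hx => by
    rcases (m3 x).mp hx with rfl | h
    · simp only; omega
    · have := hrest _ (Or.inr h); omega
  have sub : ∀ A : Finset (Fin NN), (∀ x ∈ A, 2305 ≤ (x : ℕ)) →
      (A.subtype fun x : Fin NN => 2305 ≤ (x : ℕ)).card = A.card := fun A hA => by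
    rw [Finset.card_subtype, Finset.filter_true_of_mem hA]
  have orb : ∀ (A : Finset (Fin NN)) (r : α), (∀ p ∈ A, ∃ σ ∈ fixSub Tt [2305], σ r.1 = p) →
      ∀ x ∈ A.subtype (fun x : Fin NN => 2305 ≤ (x : ℕ)), ∃ g, ρ g a = a ∧ ρ g r = x := by
    intro A r hA x hx
    obtain ⟨σ, hσ, h⟩ := hA x.1 (Finset.mem_subtype.mp hx)
    exact ⟨⟨σ, hσ.1⟩, Subtype.ext (hσ.2 o1 List.mem_cons_self), Subtype.ext h⟩
  have hinj : Function.Injective ρ := fun g h e => by
    refine Subtype.ext (inv_mul_eq_one.mp (fix_bot hcard (mul_mem (inv_mem (Tt_le_St g.2)) (Tt_le_St h.2))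
      fun x hx => ?_))
    have := congrArg (fun p : Equiv.Perm α => ((p ⟨x, hx⟩ : α) : Fin NN)) e
    rw [Equiv.Perm.mul_apply, Equiv.Perm.inv_eq_iff_eq]
    exact this.symm
  refine RuSimpleCrit66.isSimpleGroup_of_action ρ hinj a (fun x => ?_) (p := 13) (by norm_num)
    ⟨135, by rw [hα]⟩ (by rw [card_Tt hcard]; decide +kernel) {(⟨permOf NN p26, Subgroup.subset_closure (by simp)⟩ : Tt),
      ⟨permOf NN p28, Subgroup.subset_closure (by simp)⟩} ?_ ?_
    (RuSimpleCrit66.eq_univ_of_suborbits ρ a ![1024, 10, 640, 80]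
      ![A0.subtype _, A1.subtype _, A2.subtype _, A3.subtype _]
      ![⟨⟨_, r0'⟩, by simp only; omega⟩, ⟨⟨_, r1'⟩, by simp only; omega⟩, ⟨⟨_, r2'⟩, by simp only; omega⟩,
        ⟨⟨_, r3'⟩, by simp only; omega⟩] ?_ ?_ ?_ ?_ ?_)
  · obtain ⟨S, hS, hm, hr⟩ := orbit_spec tabs_Tt o1 (es := ct0) (by
      have h := chainT_ok
      simp only [chainT, chainOK, Bool.and_eq_true] at h
      exact h.1.2)
    have hlow : ∀ p ∈ S, 2305 ≤ (p : ℕ) := fun p hp => by
      obtain ⟨σ, hσ, rfl⟩ := hr p hp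
      exact (keep (Tt_le_St hσ) o1).mp (by simp [o1])
    have hu : S.subtype (fun y : Fin NN => 2305 ≤ (y : ℕ)) = Finset.univ := Finset.eq_univ_of_card _ (by
      rw [sub S hlow, hS, lens_ok.2.2.2.2.1, ← Nat.card_eq_fintype_card, hα])
    obtain ⟨σ, hσ, h⟩ := hr x.1 (Finset.mem_subtype.mp (hu ▸ Finset.mem_univ x))
    exact ⟨⟨σ, hσ⟩, Subtype.ext h⟩
  · refine Subgroup.map_injective Tt.subtype_injective ?_
    rw [MonoidHom.map_closure, ← MonoidHom.range_eq_map, Subgroup.range_subtype, Set.image_pair]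
    rfl
  · have hp := pow13_ok
    simp only [List.all_cons, List.all_nil, Bool.and_true, Bool.and_eq_true] at hp
    rintro g (rfl | rfl)
    · exact Subtype.ext (pow_eq_one inv26 hp.1)
    · exact Subtype.ext (pow_eq_one inv28 hp.2)
  · intro j
    have hl := lens_ok.2.2.2.2.2
    fin_cases j
    · exact (sub A0 l0).trans (c0.trans (by rw [hl.1]; rfl))
    · exact (sub A1 l1).trans (c1.trans (by rw [hl.2.1]; rfl))
    · exact (sub A2 l2).trans (c2.trans (by rw [hl.2.2.1]; rfl))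
    · exact (sub A3 l3).trans (c3.trans (by rw [hl.2.2.2]; rfl))
  · intro j
    fin_cases j
    · exact orb A0 _ q0
    · exact orb A1 _ q1
    · exact orb A2 _ q2
    · exact orb A3 _ q3
  · intro x hx
    have hge : 2306 ≤ (x.1 : ℕ) := by
      have := x.2
      rcases Nat.lt_or_ge (x.1 : ℕ) 2306 with h | h
      · exact absurd (Subtype.ext (Fin.ext (by simp [a, o1]; omega))) hx
      · exact h
    have hm := mem_of_coverOK tcover_ok x.1.2 hge
    simp only [List.mem_append, List.mem_cons] at hm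
    rcases hm with (((h | h) | (h | h)) | (h | h)) | (h | h)
    · exact ⟨0, Finset.mem_subtype.mpr ((m0 _).mpr (Or.inl (Fin.ext h)))⟩
    · exact ⟨0, Finset.mem_subtype.mpr ((m0 _).mpr (Or.inr h))⟩
    · exact ⟨1, Finset.mem_subtype.mpr ((m1 _).mpr (Or.inl (Fin.ext h)))⟩
    · exact ⟨1, Finset.mem_subtype.mpr ((m1 _).mpr (Or.inr h))⟩
    · exact ⟨2, Finset.mem_subtype.mpr ((m2 _).mpr (Or.inl (Fin.ext h)))⟩
    · exact ⟨2, Finset.mem_subtype.mpr ((m2 _).mpr (Or.inr h))⟩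
    · exact ⟨3, Finset.mem_subtype.mpr ((m3 _).mpr (Or.inl (Fin.ext h)))⟩
    · exact ⟨3, Finset.mem_subtype.mpr ((m3 _).mpr (Or.inr h))⟩
  · rw [Fin.sum_univ_four, hα]; rfl
  · rw [hα]; decide +kernel

/-- A simple subgroup of index two in the point stabiliser. -/
theorem exists_subgroup : ∃ T : Subgroup (MulAction.stabilizer GG o0),
    IsSimpleGroup T ∧ Nat.card T = 17971200 := by
  let ι : Tt →* MulAction.stabilizer GG o0 := MonoidHom.mk'
    (fun g => ⟨⟨g.1, (St_le (Tt_le_St g.2)).1⟩, fix_St (Tt_le_St g.2)⟩) fun _ _ => rfl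
  have hι : Function.Injective ι := fun a b e =>
    Subtype.ext (congrArg (fun g : MulAction.stabilizer GG o0 => ((g : GG) : Equiv.Perm (Fin NN))) e)
  refine ⟨ι.range, ?_, ?_⟩
  · haveI := isSimpleGroup_Tt hcard
    exact (MonoidHom.ofInjective hι).symm.isSimpleGroup
  · rw [Nat.card_congr (MonoidHom.ofInjective hι).symm.toEquiv, card_Tt hcard]

end

end Cfsg.Agent.RuPermGroup66
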