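import Cfsg.Agent.Lib.RuR3Defs76

/-! Kernel checks: the resolving set of the graph. -/

set_option autoImplicit false
set_option maxRecDepth 100000

namespace Cfsg.Agent.RuRankThree76

open RuPermCert66 RuPermData66

theorem rows_ok : (Nat.beq rows.length 21 && rows.all rowOK && Nat.beq (rows.getD 0 (1, [], 0)).1 0) = true := by
  decide +kernel

/-- The data of the steps. -/
def stepData : List (List (ℕ × List ℕ) × List ℕ) :=
  [(sC0, sD0), (sC1, sD1), (sC2, sD2), (sC3, sD3), (sC4, sD4), (sC5, sD5), (sC6, sD6), (sC7, sD7),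
    (sC8, sD8), (sC9, sD9), (sC10, sD10), (sC11, sD11), (sC12, sD12), (sC13, sD13), (sC14, sD14),
    (sC15, sD15), (sC16, sD16), (sC17, sD17), (sC18, sD18), (sC19, sD19)]

/-- The check of one step. -/
noncomputable def stepAt (i : ℕ) : Bool :=
  stepOK (i + 1) (stepInfo.getD i (0, 0, 0, 0)).1 (stepInfo.getD i (0, 0, 0, 0)).2.1
    (stepInfo.getD i (0, 0, 0, 0)).2.2.1 (stepInfo.getD i (0, 0, 0, 0)).2.2.2
    (stepData.getD i ([], [])).1 (stepData.getD i ([], [])).2

theorem steps_a : allBelow stepAt 3 = true := by decide +kernel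

theorem steps_b : allBelow (fun i => stepAt (i + 3)) 17 = true := by decide +kernel

theorem stepSizes : (stepInfo.map fun e => e.2.2.2).prod = 35942400 ∧ stepInfo.length = 20 := by
  decide +kernel

theorem codeOrd_ok : (incOK (codeOf rows) codeOrd && Nat.beq codeOrd.length NN &&
    codeOrd.all (fun k => Nat.blt k NN)) = true := by decide +kernel

end Cfsg.Agent.RuRankThree76
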