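import Cfsg.Agent.Lib.RuR3Defs76

/-! Kernel checks: further facts about the tables and the graph. -/

set_option autoImplicit false
set_option maxRecDepth 100000

namespace Cfsg.Agent.RuRankThree76

open RuPermCert66 RuPermData66

theorem vec_lt : allBelow (fun k => Nat.blt (vecAt k) (2 ^ 52)) 1755 = true := by decide +kernel

/-- A word moving the second point to the first one. -/
def wOne : List ℕ := [20, 2, 2]

theorem kval_ok : (wordOK 1 wOne &&
    ([kR0, kR1, kR2, kR3, kR4, kR5, kR6].map (adjW wOne) ==
      [false, true, false, false, false, false, true])) = true := by decide +kernel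

end Cfsg.Agent.RuRankThree76
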