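import Cfsg.Agent.Lib.RuR3Base76
import Cfsg.Agent.Lib.RuR3CheckC76

/-!
²F₄(2) is isomorphic to the stabiliser of a line: both act on 1755 points, the one on the orbit of a vector
of the 52-dimensional module, and the generators give the same permutations.
-/

set_option autoImplicit false
set_option maxRecDepth 100000

namespace Cfsg.Agent.RuRankThree76

open RuPermCert66 RuPermData66
open RuPermGroup66 (St img pnt pnt_img img_mul)
open TitsTwo15 (GF gl Φ toM)

attribute [local irreducible] vecAt toM chunk RuPermCert66.get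

theorem incOK_pairwise {f : ℕ → ℕ} : ∀ {l : List ℕ}, incOK f l = true → l.Pairwise fun a b => f a < f b
  | [], _ => List.Pairwise.nil
  | [a], _ => List.pairwise_singleton _ _
  | a :: b :: as, h => by
    simp only [incOK, Bool.and_eq_true, Nat.blt_eq] at h
    have ih : (b :: as).Pairwise fun a b => f a < f b := incOK_pairwise (by
      simp only [incOK, Bool.and_eq_true]; exact h.2)
    refine List.pairwise_cons.mpr ⟨fun c hc => ?_, ih⟩
    rcases List.mem_cons.mp hc with rfl | hc
    · exact h.1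
    · exact h.1.trans (List.rel_of_pairwise_cons ih hc)

/-- Values increasing along a list of all numbers below the bound are distinct. -/
theorem inj_of_inc {f : ℕ → ℕ} {l : List ℕ} {n : ℕ} (h : incOK f l = true) (hlen : l.length = n)
    (hlt : ∀ k ∈ l, k < n) {a b : ℕ} (ha : a < n) (hb : b < n) (e : f a = f b) : a = b := by
  have hp := incOK_pairwise h
  have hnd : l.Nodup := hp.imp fun hab e => by rw [e] at hab; exact lt_irrefl _ hab
  have hU : l.toFinset = Finset.range n := by
    refine Finset.eq_of_subset_of_card_le (fun k hk => Finset.mem_range.mpr (hlt k (List.mem_toFinset.mp hk))) ?_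
    rw [List.toFinset_card_of_nodup hnd, hlen, Finset.card_range]
  have hmem : ∀ k < n, k ∈ l := fun k hk => List.mem_toFinset.mp (hU ▸ Finset.mem_range.mpr hk)
  have hnd' : (l.map f).Nodup := (List.pairwise_map.mpr hp).imp fun hab => Nat.ne_of_lt hab
  exact List.inj_on_of_nodup_map hnd' (hmem a ha) (hmem b hb) e

/-- The vector of a point, as a matrix with one column. -/
noncomputable def Vm (i : Fin 1755) : Matrix (Fin 52) (Fin 52) (ZMod 2) := toM (vecAt i)

theorem Vm_inj : Function.Injective Vm := by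
  intro i j h
  have hlt := fun k (hk : k < 1755) => allBelow_spec vec_lt k hk
  simp only [Nat.blt_eq] at hlt
  have e : vecAt i = vecAt j := by
    refine Nat.eq_of_testBit_eq fun q => ?_
    by_cases hq : q < 52
    · exact TitsTwo15.bit_eq_of_toM h (by omega) (by omega)
    · rw [Nat.testBit_lt_two_pow (lt_of_lt_of_le (hlt i i.2) (Nat.pow_le_pow_right (by norm_num) (by omega))),
        Nat.testBit_lt_two_pow (lt_of_lt_of_le (hlt j j.2) (Nat.pow_le_pow_right (by norm_num) (by omega)))]
  have h0 := vecOrd_ok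
  simp only [Bool.and_eq_true, Nat.beq_eq, List.all_eq_true, Nat.blt_eq] at h0
  exact Fin.ext (inj_of_inc h0.1.1 h0.1.2 h0.2 i.2 j.2 e)

/-- The matrix group ²F₄(2). -/
abbrev TF : Subgroup GF := Cfsg.Lie.twistedF4 (ZMod 2) 1

/-- A letter as an element of the matrix group. -/
noncomputable def glT (i : Fin 8) : TF := ⟨gl i, TitsTwo15.gl_mem i⟩

/-- The permutation of a letter. -/
def qPair (i : Fin 8) : PT × PT := qP.getD i q0

theorem qPair_mem (i : Fin 8) : ∃ w, (qPair i, w) ∈ defList := by
  fin_cases i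
  · exact ⟨q0W, by simp [qPair, qP, defList]⟩
  · exact ⟨q1W, by simp [qPair, qP, defList]⟩
  · exact ⟨q2W, by simp [qPair, qP, defList]⟩
  · exact ⟨q3W, by simp [qPair, qP, defList]⟩
  · exact ⟨q4W, by simp [qPair, qP, defList]⟩
  · exact ⟨q5W, by simp [qPair, qP, defList]⟩
  · exact ⟨q6W, by simp [qPair, qP, defList]⟩
  · exact ⟨q7W, by simp [qPair, qP, defList]⟩

theorem gl_vec (i : Fin 8) (k : Fin 1755) : Φ (gl i) * Vm k = Vm (img (el (qPair i)) k) := by
  obtain ⟨w, hw⟩ := qPair_mem i
  have e : ((img (el (qPair i)) k : Fin 1755) : ℕ) = get (qPair i).1 ((k : ℕ) + 2305) - 2305 := by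
    show (((el (qPair i) : St) : Equiv.Perm (Fin NN)) (pnt k) : ℕ) - 2305 = _
    rw [el_apply hw]
    rfl
  have h := allBelow_spec (allBelow_spec vecStep_ok i i.2) k k.2
  simp only [force_eq, Bool.and_eq_true, Nat.ble_eq, Nat.beq_eq] at h
  have h2 : TitsTwo15.mulP (TitsTwo15.gP i) (vecAt k) = vecAt (get (qPair i).1 ((k : ℕ) + 2305) - 2305) := h.2
  rw [TitsTwo15.Φ_gl, Vm, Vm, e, ← TitsTwo15.toM_mul, h2]

theorem tf_closure : (TF : Set GF) ⊆ Subgroup.closure {x | ∃ i : Fin 8, x = gl i} := by
  intro g hg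
  have hle : TF ≤ Subgroup.closure {x | ∃ i : Fin 8, x = gl i} := by
    refine (Subgroup.closure_le _).mpr fun x hx => ?_
    rcases TitsTwo15.wordMat_gen hx with rfl | ⟨i, hi, rfl⟩
    · exact one_mem _
    · exact Subgroup.subset_closure ⟨⟨i, hi⟩, rfl⟩
  exact hle hg

theorem exists_act (g : TF) (k : Fin 1755) : ∃ j, Φ (g : GF) * Vm k = Vm j := by
  have h : (g : GF) ∈ {x : GF | ∀ k, ∃ j, Φ x * Vm k = Vm j} := by
    refine TitsTwo15.closure_sub_left (fun k => ⟨k, by rw [map_one, one_mul]⟩) ?_ (tf_closure g.2)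
    rintro y hy a ⟨i, rfl⟩ k
    obtain ⟨j, hj⟩ := hy k
    exact ⟨img (el (qPair i)) j, by rw [map_mul, mul_assoc, hj, gl_vec]⟩
  exact h k

/-- The image of a vector. -/
noncomputable def actFn (g : TF) (k : Fin 1755) : Fin 1755 := (exists_act g k).choose

theorem actFn_spec (g : TF) (k : Fin 1755) : Φ (g : GF) * Vm k = Vm (actFn g k) := (exists_act g k).choose_spec

theorem actFn_mul (g h : TF) (k : Fin 1755) : actFn (g * h) k = actFn g (actFn h k) := by
  apply Vm_inj
  rw [← actFn_spec, ← actFn_spec, ← actFn_spec, Subgroup.coe_mul, map_mul, mul_assoc]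

theorem actFn_one (k : Fin 1755) : actFn 1 k = k := by
  apply Vm_inj
  rw [← actFn_spec, OneMemClass.coe_one, map_one, one_mul]

/-- A function acting by permutations, as a homomorphism. -/
def permHom {H α : Type*} [Group H] (f : H → α → α) (h1 : ∀ a, f 1 a = a)
    (hm : ∀ g h a, f (g * h) a = f g (f h a)) : H →* Equiv.Perm α where
  toFun g :=
    { toFun := f g
      invFun := f g⁻¹
      left_inv := fun a => by rw [← hm, inv_mul_cancel, h1]
      right_inv := fun a => by rw [← hm, mul_inv_cancel, h1] }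
  map_one' := Equiv.ext h1
  map_mul' g h := Equiv.ext (hm g h)

theorem img_one (i : Fin 1755) : img (1 : St) i = i := by
  refine Fin.ext ?_
  show ((1 : Equiv.Perm (Fin NN)) (pnt i) : ℕ) - 2305 = i
  simp [pnt]

/-- The point stabiliser on its suborbit of length 1755. -/
noncomputable def resHom : St →* Equiv.Perm (Fin 1755) := permHom img img_one img_mul

/-- The matrix group on the orbit of vectors. -/
noncomputable def vecHom : TF →* Equiv.Perm (Fin 1755) := permHom actFn actFn_one actFn_mul

theorem resHom_injective : Function.Injective resHom := by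
  refine (injective_iff_map_eq_one _).mpr fun σ h => ?_
  refine Subtype.ext (RuPermGroup66.fix_bot hcard σ.2 fun x hx => ?_)
  have hlt : (x : ℕ) - 2305 < 1755 := by
    have : (x : ℕ) < 4060 := x.2
    omega
  have e : x = pnt ⟨(x : ℕ) - 2305, hlt⟩ := Fin.ext (by show _ = (x : ℕ) - 2305 + 2305; omega)
  have h1 : img σ ⟨(x : ℕ) - 2305, hlt⟩ = ⟨(x : ℕ) - 2305, hlt⟩ :=
    DFunLike.congr_fun h (⟨(x : ℕ) - 2305, hlt⟩ : Fin 1755)
  rw [e, ← pnt_img, h1]

theorem vecHom_gl (i : Fin 8) : vecHom (glT i) = resHom (el (qPair i)) := by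
  refine Equiv.ext fun k => Vm_inj ?_
  show Vm (actFn (glT i) k) = Vm (img (el (qPair i)) k)
  rw [← actFn_spec]
  exact gl_vec i k

theorem el_closure : Subgroup.closure (Set.range fun i => el (qPair i)) = ⊤ := by
  set Q := (Subgroup.closure (Set.range fun i => el (qPair i))).map St.subtype with hQ
  have hq : ∀ t ∈ tabs qP, ∃ σ ∈ Q, Rep σ t := by
    refine el_tabs fun q hq => ?_
    obtain ⟨i, hi, rfl⟩ := List.mem_iff_getElem.mp hq
    have e : qP[i] = qPair ⟨i, hi⟩ := by rw [qPair, List.getD_eq_getElem _ _ hi]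
    rw [e]
    exact ⟨qPair_mem _, ⟨_, Subgroup.subset_closure ⟨_, rfl⟩, rfl⟩⟩
  have h12 : permOf NN p12 ∈ Q := permOf_mem hq inv12 def12Q
  have h14 : permOf NN p14 ∈ Q := permOf_mem hq inv14 def14Q
  have hle : St ≤ Q := (Subgroup.closure_le _).mpr (by rintro x (rfl | rfl); exacts [h12, h14])
  refine eq_top_iff.mpr fun σ _ => ?_
  obtain ⟨τ, hτ, e⟩ := hle σ.2
  rwa [← Subtype.ext (a1 := τ) (a2 := σ) e]

theorem nonempty_tf_equiv : Nonempty (TF ≃* St) := by
  have hle : resHom.range ≤ vecHom.range := by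
    rw [MonoidHom.range_eq_map, ← el_closure, MonoidHom.map_closure, Subgroup.closure_le]
    rintro x ⟨y, ⟨i, rfl⟩, rfl⟩
    exact ⟨glT i, vecHom_gl i⟩
  have hres : Nat.card resHom.range = 35942400 := by
    rw [← Nat.card_congr (MonoidHom.ofInjective resHom_injective).toEquiv, card_St]
  have hsur : Function.Surjective vecHom.rangeRestrict := vecHom.rangeRestrict_surjective
  have hTF : Nat.card TF = 35942400 := TitsTwo15.card_twistedF4_two
  have h1 : Nat.card vecHom.range ≤ Nat.card TF := Nat.card_le_card_of_surjective _ hsur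
  have heq : resHom.range = vecHom.range :=
    Subgroup.eq_of_le_of_card_ge hle (by rw [hres]; rw [hTF] at h1; exact h1)
  have hinj : Function.Bijective vecHom.rangeRestrict :=
    (Nat.bijective_iff_surjective_and_card _).mpr ⟨hsur, by rw [← heq, hres, hTF]⟩
  exact ⟨((MulEquiv.ofBijective _ hinj).trans (MulEquiv.subgroupCongr heq.symm)).trans
    (MonoidHom.ofInjective resHom_injective).symm⟩

end Cfsg.Agent.RuRankThree76
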