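import Cfsg.Agent.Lib.RuR3Rel76
import Cfsg.Agent.Lib.RuR3CheckD76
import Cfsg.Agent.Lib.RuR3Tits76

/-!
The automorphism group of the graph of valency 1755 is the group of the lines: a resolving set of 21
points bounds its order.
-/

set_option autoImplicit false
set_option maxRecDepth 100000

namespace Cfsg.Agent.RuRankThree76

open RuPermCert66 RuPermData66
open RuPermGroup66 (St GG o0 o1)

/-- The automorphisms of the graph. -/
noncomputable def Aut : Subgroup (Equiv.Perm (Fin NN)) where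
  carrier := {σ | ∀ x y, adj GG (σ x) (σ y) ↔ adj GG x y}
  one_mem' := fun _ _ => Iff.rfl
  mul_mem' := fun ha hb x y => (ha _ _).trans (hb x y)
  inv_mem' := fun {σ} ha x y => by
    rw [← ha, Equiv.Perm.coe_inv, Equiv.apply_symm_apply, Equiv.apply_symm_apply]

theorem rows_spec {r : ℕ × List ℕ × ℕ} (hr : r ∈ rows) :
    ∃ h : r.1 < NN, ∀ y : Fin NN, bitOf r.2.2 y = true ↔ adj GG ⟨r.1, h⟩ y := by
  have h := rows_ok
  simp only [Bool.and_eq_true, List.all_eq_true] at h
  have h1 := h.1.2 r hr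
  simp only [rowOK, Bool.and_eq_true, Nat.blt_eq] at h1
  refine ⟨h1.1.1, fun y => ?_⟩
  have h2 := allBelow_spec h1.2 y y.2
  rw [beq_iff_eq] at h2
  rw [h2]
  exact adjW_spec (b := ⟨r.1, h1.1.1⟩) h1.1.2 y

/-- An automorphism fixing points keeps the codes with respect to them. -/
theorem code_keep {σ : Equiv.Perm (Fin NN)} (hσ : σ ∈ Aut) : ∀ (R : List (ℕ × List ℕ × ℕ)),
    (∀ r ∈ R, r ∈ rows) → (∀ x : Fin NN, (x : ℕ) ∈ R.map Prod.fst → σ x = x) →
      ∀ x : Fin NN, codeOf R (σ x : ℕ) = codeOf R (x : ℕ)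
  | [], _, _, _ => rfl
  | r :: R, hR, hfix, x => by
    obtain ⟨h, hadj⟩ := rows_spec (hR r List.mem_cons_self)
    have hb : σ ⟨r.1, h⟩ = ⟨r.1, h⟩ := hfix _ List.mem_cons_self
    have e1 : Nat.beq (σ x : ℕ) r.1 = Nat.beq (x : ℕ) r.1 := by
      rw [Bool.eq_iff_iff, Nat.beq_eq, Nat.beq_eq]
      refine ⟨fun e => ?_, fun e => ?_⟩
      · exact congrArg Fin.val (σ.injective ((Fin.ext e : σ x = ⟨r.1, h⟩).trans hb.symm))
      · rw [show x = ⟨r.1, h⟩ from Fin.ext e, hb]
    have e2 : bitOf r.2.2 (σ x : ℕ) = bitOf r.2.2 (x : ℕ) := by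
      rw [Bool.eq_iff_iff, hadj, hadj]
      conv_lhs => rw [← hb]
      exact hσ _ _
    rw [codeOf, codeOf, e1, e2, code_keep hσ R (fun s hs => hR s (List.mem_cons_of_mem _ hs))
      (fun y hy => hfix y (List.mem_cons_of_mem _ hy)) x]

theorem mem_clsOf {R : List (ℕ × List ℕ × ℕ)} {c k : ℕ} : k ∈ clsOf R c ↔ k < NN ∧ codeOf R k = c := by
  simp only [clsOf, List.mem_filter, List.mem_range, Nat.beq_eq]

/-- The earlier base points, the latest first. -/
def preAt (l : ℕ) : List ℕ := ((rows.take l).map Prod.fst).reverse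

/-- One step of the bound. -/
theorem step_bound {l c d v k : ℕ} {C : List (ℕ × List ℕ)} {D : List ℕ} (hl : l < rows.length)
    (h : stepOK l c d v k C D = true) :
    Nat.card (fixSub Aut (preAt l)) ≤ k * Nat.card (fixSub Aut (preAt (l + 1))) := by
  set R := rows.take l with hR
  have hRsub : ∀ r ∈ R, r ∈ rows := fun r hr => List.mem_of_mem_take hr
  simp only [stepOK, Bool.and_eq_true, beq_iff_eq, Nat.beq_eq, List.any_eq_true] at h
  obtain ⟨⟨⟨hC, hD⟩, hlen⟩, e0, he0, hb0⟩ := h
  rw [List.getD_eq_getElem _ _ hl] at hb0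
  obtain ⟨hbN, -⟩ := rows_spec (List.getElem_mem hl)
  set b : Fin NN := ⟨rows[l].1, hbN⟩ with hb
  have hpre : preAt (l + 1) = (b : ℕ) :: preAt l := by
    rw [preAt, preAt, List.take_add_one, List.getElem?_eq_getElem hl, List.map_append, List.reverse_append]
    rfl
  rw [hpre, ← hlen]
  refine le_trans (RuAction66.card_fix_le (preAt l) b
    ((C.filter fun e => Nat.beq (cnt D e.2) v).map Prod.fst) fun σ hσ => ?_) (by rw [List.length_map])
  have hfix : ∀ x : Fin NN, (x : ℕ) ∈ R.map Prod.fst → σ x = x := fun x hx =>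
    hσ.2 x (List.mem_reverse.mpr hx)
  have hcode := code_keep hσ.1 R hRsub hfix
  have he0' := List.mem_filter.mp he0
  have hcb : codeOf R (b : ℕ) = c := by
    have hm : (b : ℕ) ∈ clsOf R c := by
      rw [hC, show (b : ℕ) = e0.1 from hb0.symm]
      exact List.mem_map_of_mem he0'.1
    exact (mem_clsOf.mp hm).2
  have hz : (σ b : ℕ) ∈ C.map Prod.fst := hC ▸ mem_clsOf.mpr ⟨(σ b).2, (hcode b).trans hcb⟩
  obtain ⟨e, he, hez⟩ := List.mem_map.mp hz
  refine List.mem_map.mpr ⟨e, List.mem_filter.mpr ⟨he, ?_⟩, hez⟩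
  rw [Nat.beq_eq, ← Nat.eq_of_beq_eq_true he0'.2]
  rcases Bool.or_eq_true _ _ |>.mp hD with hE | hE
  · rw [List.isEmpty_iff] at hE
    simp [cnt, hE]
  · simp only [Bool.and_eq_true, beq_iff_eq, List.all_eq_true] at hE
    obtain ⟨hcls, hw⟩ := hE
    have hcnt : ∀ p ∈ C, ∀ z : Fin NN, (z : ℕ) = p.1 →
        cnt D p.2 = ({y : Fin NN | codeOf R (y : ℕ) = d ∧ adj GG z y} : Set (Fin NN)).ncard := by
      intro p hp z hpz
      rw [ncard_eq_countP _ (fun y => adjW p.2 y && Nat.beq (codeOf R y) d) (fun y => ?_), cnt,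
        ← hcls, clsOf, List.countP_filter]
      rw [Bool.and_eq_true, Nat.beq_eq, and_comm, adjW_spec (b := z) (hpz ▸ hw p hp) y]
    rw [hcnt e he (σ b) hez.symm, hcnt e0 he0'.1 b hb0.symm]
    rw [show ({y : Fin NN | codeOf R (y : ℕ) = d ∧ adj GG (σ b) y} : Set (Fin NN)) =
      σ '' {y | codeOf R (y : ℕ) = d ∧ adj GG b y} from ?_, Set.ncard_image_of_injective _ σ.injective]
    ext w
    obtain ⟨y, rfl⟩ := σ.surjective w
    rw [σ.injective.mem_set_image, Set.mem_ofPred_eq, Set.mem_ofPred_eq, hcode, hσ.1 b y]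

theorem step_all {i : ℕ} (hi : i < 20) : stepAt i = true := by
  rcases Nat.lt_or_ge i 3 with h | h
  · exact allBelow_spec steps_a i h
  · obtain ⟨j, rfl⟩ := Nat.exists_eq_add_of_le h
    have := allBelow_spec steps_b j (by omega)
    rwa [add_comm 3 j]

theorem prod_bound : ∀ (ks : List ℕ) (P : ℕ → ℕ),
    (∀ (i : ℕ) (h : i < ks.length), P i ≤ ks[i] * P (i + 1)) → P 0 ≤ ks.prod * P ks.length
  | [], P, _ => by simp
  | k :: ks, P, h => by
    have ih := prod_bound ks (fun i => P (i + 1)) fun i hi => h (i + 1) (by simpa using hi)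
    refine le_trans (h 0 (by simp)) ?_
    rw [List.prod_cons, mul_assoc, List.getElem_cons_zero, List.length_cons]
    exact Nat.mul_le_mul_left _ ih

theorem fix_all_bot : Nat.card (fixSub Aut (preAt 21)) = 1 := by
  rw [Subgroup.card_eq_one, Subgroup.eq_bot_iff_forall]
  intro σ hσ
  have h := rows_ok
  simp only [Bool.and_eq_true, Nat.beq_eq] at h
  have htake : rows.take 21 = rows := List.take_of_length_le (by rw [h.1.1])
  have hc := codeOrd_ok
  simp only [Bool.and_eq_true, Nat.beq_eq, List.all_eq_true, Nat.blt_eq] at hc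
  refine Equiv.ext fun x => Fin.ext ?_
  refine inj_of_inc hc.1.1 hc.1.2 hc.2 (σ x).2 x.2 ?_
  exact code_keep hσ.1 rows (fun _ hr => hr)
    (fun y hy => hσ.2 y (List.mem_reverse.mpr (by rw [htake]; exact hy))) x

/-- The automorphism group is not larger than the group of the lines. -/
theorem card_Aut : Nat.card Aut ≤ 145926144000 := by
  have h := rows_ok
  simp only [Bool.and_eq_true, Nat.beq_eq] at h
  obtain ⟨⟨hlen, -⟩, h0⟩ := h
  have h0' : preAt 1 = [((o0 : Fin NN) : ℕ)] := by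
    cases hr : rows with
    | nil => rw [hr] at hlen; simp at hlen
    | cons r rs =>
      rw [hr] at h0
      simp only [List.getD_cons_zero] at h0
      simp [preAt, hr, o0, h0]
  have h1 := RuAction66.card_fix_le (R := Aut) [] o0 (List.range NN) fun σ _ => List.mem_range.mpr (σ _).2
  rw [fixSub_nil, List.length_range, ← h0'] at h1
  have h2 := prod_bound (stepInfo.map fun e => e.2.2.2) (fun i => Nat.card (fixSub Aut (preAt (i + 1)))) fun i hi => by
    rw [List.length_map] at hi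
    have hs := step_all (i := i) (stepSizes.2 ▸ hi)
    rw [stepAt, List.getD_eq_getElem stepInfo _ hi] at hs
    rw [List.getElem_map]
    exact step_bound (by rw [hlen]; have := stepSizes.2; omega) hs
  simp only [List.length_map, stepSizes.2, stepSizes.1, zero_add] at h2
  rw [fix_all_bot, mul_one] at h2
  have h3 : 4060 * Nat.card (fixSub Aut (preAt 1)) ≤ 4060 * 35942400 := Nat.mul_le_mul_left _ h2
  change _ ≤ 4060 * _ at h1
  omega

/-- A rank three group with the given point stabiliser is the group of the lines. -/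
theorem rk3_eq {H : Subgroup (Equiv.Perm (Fin NN))} (hH : Rk3 H) : H = GG := by
  have hle : ∀ {K : Subgroup (Equiv.Perm (Fin NN))}, Rk3 K → K ≤ Aut := fun {K} hK g hg x y => by
    rw [← adj_eq hK, ← adj_eq hK]
    exact adj_smul hK hg x y
  have hA : GG = Aut := Subgroup.eq_of_le_of_card_ge (hle rk3_GG) (by rw [hcard]; exact card_Aut)
  haveI : MulAction.IsPretransitive H (Fin NN) := ⟨fun x y => by
    obtain ⟨g, hg, hx⟩ := exists_zero hH x
    obtain ⟨k, hk, hy⟩ := hH.trans y
    exact ⟨⟨k * g, mul_mem hk hg⟩, by show (k * g) x = y; rw [Equiv.Perm.mul_apply, hx, hy]⟩⟩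
  have h := Subgroup.index_mul_card (MulAction.stabilizer H o0)
  have hS : Nat.card (MulAction.stabilizer H o0) = Nat.card St := Nat.card_congr
    { toFun := fun g => ⟨g.1.1, (hH.stab _).mpr ⟨g.1.2, g.2⟩⟩
      invFun := fun g => ⟨⟨g.1, ((hH.stab _).mp g.2).1⟩, ((hH.stab _).mp g.2).2⟩
      left_inv := fun _ => rfl
      right_inv := fun _ => rfl }
  rw [MulAction.index_stabilizer_of_transitive, Nat.card_fin, hS, card_St] at h
  refine Subgroup.eq_of_le_of_card_ge (hA ▸ hle hH) (le_of_eq ?_)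
  rw [hcard, ← h]
  rfl

end Cfsg.Agent.RuRankThree76
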