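import Cfsg.Agent.Lib.RuR3Defs76
import Cfsg.Agent.Lib.RuPermCover66

/-! Kernel checks: orbit trees of the subgroups of the point stabiliser. -/

set_option autoImplicit false
set_option maxRecDepth 100000

namespace Cfsg.Agent.RuRankThree76

open RuPermCert66 RuPermData66

/-- A chain along fixed points of an element of order four. -/
noncomputable def chainF : List Level :=
  [(3466, stT, eA), (1, tabs [ta0, ta1, ta2], eB), (220, tabs [tb0, tb1], eC), (2, tabs [tf], eD)]

theorem chainF_ok : (chainOK NN [] chainF && Nat.beq (chainSize chainF) 35942400) = true := by decide +kernel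

/-- A chain of the stabiliser of the second point. -/
noncomputable def chainH0 : List Level :=
  [(2305, tabs [tx, tf, th0], hT0), (5, tabs [ts0_0, ts0_1], hS0)]
/-- A chain of the stabiliser of a point. -/
noncomputable def chainH2 : List Level :=
  [(2305, tabs [tx, tf, th2], hT2), (1, tabs [ts2_0, ts2_1], hS2)]
/-- A chain of the stabiliser of a point. -/
noncomputable def chainH3 : List Level :=
  [(2305, tabs [tx, tf, th3], hT3), (1, tabs [ts3_0, ts3_1], hS3)]

theorem chainH_ok : (chainOK NN [1] chainH0 && Nat.beq (chainSize chainH0) 15600 &&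
    chainOK NN [1954] chainH2 && Nat.beq (chainSize chainH2) 15600 &&
    chainOK NN [470] chainH3 && Nat.beq (chainSize chainH3) 15600) = true := by decide +kernel

theorem hT_ok : (treeOK NN (tabs [tx, tf, th1]) hT1 (1 <<< 2305) && Nat.beq hT1.length 1560 &&
    treeOK NN (tabs [tx, tf, th4]) hT4 (1 <<< 2305) && Nat.beq hT4.length 1560 &&
    treeOK NN (tabs [tx, tf, th5]) hT5 (1 <<< 2305) && Nat.beq hT5.length 1560 &&
    treeOK NN (tabs [tx, tf, th6]) hT6 (1 <<< 2305) && Nat.beq hT6.length 1560 &&
    [hT1, hT4, hT5, hT6].all (fun es => (pts es).all fun p => Nat.ble 2305 p)) = true := by decide +kernel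

/-- The orbits of the stabiliser of the second point: root and tree. -/
def kOrbs : List (ℕ × List ℕ) :=
  [(kR0, kO0), (kR1, kO1), (kR2, kO2), (kR3, kO3), (kR4, kO4), (kR5, kO5), (kR6, kO6)]

theorem kOrbs_ok : ((kOrbs.all fun o => treeOK NN (tabs [tx, tf, th0]) o.2 (1 <<< o.1) && Nat.blt o.1 NN) &&
    coverOK 2 (kOrbs.flatMap fun o => o.1 :: pts o.2) &&
    (kOrbs.map fun o => o.2.length + 1) == [650, 975, 300, 300, 78, 975, 780] &&
    ((kOrbs.take 5).flatMap fun o => o.1 :: pts o.2).all (fun p => Nat.blt 1 p && Nat.blt p 2305) &&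
    ((kOrbs.drop 5).flatMap fun o => o.1 :: pts o.2).all (fun p => Nat.ble 2305 p) &&
    (pts kO2 ++ [kR2] ++ (pts kO3 ++ [kR3])).any (Nat.beq 470) &&
    preOK [1] (tabs [tx, tf, th0])) = true := by decide +kernel

/-- The orbits of the stabiliser of the point in the suborbit of length 1755: root and tree. -/
def pOrbs : List (ℕ × List ℕ) :=
  [(pR0, pO0), (pR1, pO1), (pR2, pO2), (pR3, pO3), (pR4, pO4), (pR5, pO5)]

theorem pOrbs_ok : ((pOrbs.all fun o => treeOK NN (tabs [p46, p48]) o.2 (1 <<< o.1) && Nat.blt o.1 NN) &&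
    coverOK 1 (2305 :: pOrbs.flatMap fun o => o.1 :: pts o.2) &&
    (pOrbs.map fun o => o.2.length + 1) == [1280, 1024, 1024, 10, 640, 80] &&
    ((pOrbs.take 2).flatMap fun o => o.1 :: pts o.2).all (fun p => Nat.blt 0 p && Nat.blt p 2305) &&
    ((pOrbs.drop 2).flatMap fun o => o.1 :: pts o.2).all (fun p => Nat.blt 2305 p) &&
    preOK [2305] (tabs [p46, p48])) = true := by decide +kernel

/-- Images of the three fixed points under a product of representatives. -/
noncomputable def leafImg (w : List ℕ) : List ℕ := [ev stT w 3466, ev stT w 1, ev stT w 220]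

/-- The three fixed points are fixed by the square, unless the images are listed. -/
noncomputable def leafOK (w : List ℕ) : Bool :=
  (leafImg w == [3466, 1, 220]) || hTups.contains (leafImg w) || !(leafImg (w ++ w) == [3466, 1, 220])

/-- The representatives cover the possible images of the three fixed points. -/
noncomputable def repsOK : Bool :=
  r1W.all (fun e => e.2.all (fun l => Nat.blt l stT.length) && Nat.beq (ev stT e.2 3466) e.1) &&
  r2W.all (fun e => e.2.all (fun l => Nat.blt l stT.length) && Nat.beq (ev stT e.2 1) e.1 &&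
    Nat.beq (ev stT e.2 3466) 3466) &&
  r3W.all (fun e => e.2.all (fun l => Nat.blt l stT.length) && Nat.beq (ev stT e.2 220) e.1 &&
    Nat.beq (ev stT e.2 3466) 3466 && Nat.beq (ev stT e.2 1) 1) &&
  ((fixN.filter fun p => Nat.ble 2305 p) == r1W.map Prod.fst) &&
  ((fixF.filter fun p => Nat.blt p 2305) == r2W.map Prod.fst) &&
  (((fixF ++ fixN).filter fun p => (220 :: pts eC).contains p) == r3W.map Prod.fst) &&
  r1W.all (fun a => r2W.all fun b => r3W.all fun c => leafOK (c.2 ++ b.2 ++ a.2))

theorem reps_ok : repsOK = true := by decide +kernel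

/-- The representatives keep the fixed points of the element of order four. -/
theorem reps_fix : ((r1W ++ r2W ++ r3W).all fun e => (fixF ++ fixN).all fun p =>
    (fixF ++ fixN).contains (ev stT e.2 p)) = true := by decide +kernel

theorem hTups_ok : ((List.zip hTups [th0, th1, th2, th3, th4, th5, th6]).all fun e =>
    e.1 == [get e.2.1 3466, get e.2.1 1, get e.2.1 220]) = true ∧ hTups.length = 7 ∧
    (Nat.beq (get th0.1 1) 1 && Nat.beq (get th2.1 1954) 1954 && Nat.beq (get th3.1 470) 470) = true := by
  decide +kernel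

end Cfsg.Agent.RuRankThree76
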