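import Cfsg.Agent.Lib.RuR3CheckA76
import Cfsg.Agent.Lib.RuR3CheckB76
import Cfsg.Agent.Lib.RuPermTitsSimple66
import Cfsg.Agent.Lib.RuAction66

/-!
The point stabiliser of the group of the 4060 lines: membership of the tables, its two other orbits and
the orders of their stabilisers.
-/

set_option autoImplicit false
set_option maxRecDepth 10000

namespace Cfsg.Agent.RuRankThree76

open RuPermCert66 RuPermData66
open RuPermGroup66 (St GG o0 o1)

theorem hcard : Nat.card GG = 145926144000 := RuAction66.card_GG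

theorem card_St : Nat.card St = 35942400 := RuPermGroup66.card_St hcard

theorem stT_rep : ∀ t ∈ stT, ∃ σ ∈ St, Rep σ t := by
  refine exists_tabs ?_ ?_
  · simp [inv12, inv14, inv46, inv48, inv50, inv52]
  · intro q hq
    simp only [List.mem_cons, List.not_mem_nil, or_false] at hq
    rcases hq with rfl | rfl | rfl | rfl | rfl | rfl
    · exact Subgroup.subset_closure (by simp)
    · exact Subgroup.subset_closure (by simp)
    · exact RuPermGroup66.mem46
    · exact RuPermGroup66.mem48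
    · exact RuPermGroup66.mem50
    · exact RuPermGroup66.mem52

theorem entry_spec {e : (PT × PT) × List ℕ} (he : e ∈ defList) :
    invOK NN e.1 = true ∧ permOf NN e.1 ∈ St := by
  have h := List.all_eq_true.mp defs_ok e he
  simp only [defEntryOK, Bool.and_eq_true] at h
  exact ⟨h.1, permOf_mem stT_rep h.1 h.2⟩

/-- The element of the point stabiliser with a given table. -/
noncomputable def el (q : PT × PT) : St :=
  haveI := Classical.propDecidable (permOf NN q ∈ St)
  if h : permOf NN q ∈ St then ⟨permOf NN q, h⟩ else 1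

theorem el_val {q : PT × PT} {w : List ℕ} (h : (q, w) ∈ defList) :
    (el q : Equiv.Perm (Fin NN)) = permOf NN q := by
  rw [el, dif_pos (entry_spec h).2]

theorem el_apply {q : PT × PT} {w : List ℕ} (h : (q, w) ∈ defList) (x : Fin NN) :
    (((el q : St) : Equiv.Perm (Fin NN)) x : ℕ) = get q.1 x := by
  rw [el_val h]; exact rep_permOf (entry_spec h).1 x

theorem el_rep {q : PT × PT} {w : List ℕ} (h : (q, w) ∈ defList) :
    Rep ((el q : St) : Equiv.Perm (Fin NN)) q.1 := fun x => el_apply h x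

theorem el_rep_inv {q : PT × PT} {w : List ℕ} (h : (q, w) ∈ defList) :
    Rep ((el q : St) : Equiv.Perm (Fin NN))⁻¹ q.2 := by
  rw [el_val h]; exact rep_permOf_inv (entry_spec h).1

/-- Tables of some of the elements and of their inverses belong to any subgroup containing them. -/
theorem el_tabs {H : Subgroup (Equiv.Perm (Fin NN))} : ∀ {qs : List (PT × PT)},
    (∀ q ∈ qs, (∃ w, (q, w) ∈ defList) ∧ ((el q : St) : Equiv.Perm (Fin NN)) ∈ H) →
      ∀ t ∈ tabs qs, ∃ σ ∈ H, Rep σ t := by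
  intro qs h t ht
  simp only [tabs, List.mem_flatMap, List.mem_cons, List.not_mem_nil, or_false] at ht
  obtain ⟨q, hq, rfl | rfl⟩ := ht
  · obtain ⟨⟨w, hw⟩, hm⟩ := h q hq
    exact ⟨_, hm, el_rep hw⟩
  · obtain ⟨⟨w, hw⟩, hm⟩ := h q hq
    exact ⟨_, inv_mem hm, el_rep_inv hw⟩

/-- The point with a given number. -/
def pt (n : ℕ) (h : n < NN := by decide) : Fin NN := ⟨n, h⟩

theorem smul_def (σ : St) (x : Fin NN) : σ • x = (σ : Equiv.Perm (Fin NN)) x := rfl

theorem fix_zero (σ : St) : σ • o0 = o0 := RuPermGroup66.fix_St σ.2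

theorem near_smul (σ : St) (x : Fin NN) : 2305 ≤ ((σ • x : Fin NN) : ℕ) ↔ 2305 ≤ (x : ℕ) :=
  (RuPermGroup66.keep σ.2 x).symm

theorem zero_smul_iff (σ : St) (x : Fin NN) : σ • x = o0 ↔ x = o0 :=
  ⟨fun h => MulAction.injective σ (h.trans (fix_zero σ).symm), fun h => h ▸ fix_zero σ⟩

theorem near_transitive {x : Fin NN} (hx : 2305 ≤ (x : ℕ)) : ∃ σ : St, σ • o1 = x := by
  have hlt : (x : ℕ) - 2305 < 1755 := by
    have h : (x : ℕ) < 4060 := x.2
    omega
  obtain ⟨σ, hσ, -, h, -⟩ := RuPermGroup66.path_spec ⟨(x : ℕ) - 2305, hlt⟩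
  refine ⟨⟨σ⁻¹, inv_mem hσ⟩, ?_⟩
  rw [smul_def]
  show σ⁻¹ o1 = x
  rw [Equiv.Perm.inv_eq_iff_eq, ← h]
  congr 1
  exact Fin.ext (by show (x : ℕ) - 2305 + 2305 = x; omega)

theorem ncard_near : ({x : Fin NN | 2305 ≤ (x : ℕ)} : Set (Fin NN)).ncard = 1755 := by
  have e : ({x : Fin NN | 2305 ≤ (x : ℕ)} : Set (Fin NN)) = ↑(Finset.Ici o1) := by
    rw [Finset.coe_Ici]
    ext x
    exact Iff.rfl
  rw [e, Set.ncard_coe_finset, Fin.card_Ici]
  rfl

theorem ncard_far : ({x : Fin NN | x ≠ o0 ∧ (x : ℕ) < 2305} : Set (Fin NN)).ncard = 2304 := by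
  have e : ({x : Fin NN | x ≠ o0 ∧ (x : ℕ) < 2305} : Set (Fin NN)) = ↑(Finset.Ico (pt 1) o1) := by
    ext x
    rw [Finset.coe_Ico]
    exact and_congr ((not_congr Fin.ext_iff).trans Nat.one_le_iff_ne_zero.symm) Iff.rfl
  rw [e, Set.ncard_coe_finset, Fin.card_Ico]
  rfl

theorem orbit_near : MulAction.orbit St o1 = {x : Fin NN | 2305 ≤ (x : ℕ)} := by
  ext x
  constructor
  · rintro ⟨σ, rfl⟩
    exact (near_smul σ o1).mpr le_rfl
  · intro hx
    obtain ⟨σ, h⟩ := near_transitive hx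
    exact ⟨σ, h⟩

theorem far_transitive {x : Fin NN} (hx : 2305 > (x : ℕ)) (h0 : x ≠ o0) : ∃ σ : St, σ • pt 1 = x := by
  have hs := sub0_ok.1
  obtain ⟨S, hS, -, hr⟩ := orbit_spec RuPermGroup66.tabs_St (pt 1) (es := ch1) hs
  have hsub : S ⊆ Finset.univ.filter (fun y : Fin NN => y ≠ o0 ∧ (y : ℕ) < 2305) := by
    intro y hy
    obtain ⟨σ, hσ, h⟩ := hr y hy
    rw [Finset.mem_filter]
    refine ⟨Finset.mem_univ _, ?_, ?_⟩
    · intro e
      have h1 : (⟨σ, hσ⟩ : St) • pt 1 = o0 := by rw [smul_def]; exact h.trans e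
      have h2 := congrArg (fun z : Fin NN => (z : ℕ)) ((zero_smul_iff _ _).mp h1)
      simp [pt, o0] at h2
    · by_contra hlt
      have h1 := (RuPermGroup66.keep hσ (pt 1)).mpr (by rw [h]; omega)
      simp [pt] at h1
  have hle : (Finset.univ.filter (fun y : Fin NN => y ≠ o0 ∧ (y : ℕ) < 2305)).card ≤ S.card := by
    rw [hS, lens_ok.2.1]
    refine le_trans (Finset.card_le_card_of_injOn (t := Finset.Ico 1 2305) (fun y : Fin NN => (y : ℕ))
      (fun y hy => ?_) (fun a _ b _ e => Fin.ext e)) (by simp)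
    rw [Finset.mem_coe, Finset.mem_filter] at hy
    have : (y : ℕ) ≠ 0 := fun e => hy.2.1 (Fin.ext e)
    rw [Finset.mem_coe, Finset.mem_Ico]
    exact ⟨Nat.one_le_iff_ne_zero.mpr this, hy.2.2⟩
  have he := Finset.eq_of_subset_of_card_le hsub hle
  obtain ⟨σ, hσ, h⟩ := hr x (by rw [he, Finset.mem_filter]; exact ⟨Finset.mem_univ _, h0, hx⟩)
  exact ⟨⟨σ, hσ⟩, h⟩

theorem orbit_far : MulAction.orbit St (pt 1) = {x : Fin NN | x ≠ o0 ∧ (x : ℕ) < 2305} := by
  ext x
  constructor
  · rintro ⟨σ, rfl⟩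
    refine ⟨fun e => ?_, ?_⟩
    · have h2 := congrArg (fun z : Fin NN => (z : ℕ)) ((zero_smul_iff σ _).mp e)
      simp [pt, o0] at h2
    · by_contra hlt
      have h1 := (near_smul σ (pt 1)).mp (not_lt.mp hlt)
      simp [pt] at h1
  · rintro ⟨h0, hx⟩
    obtain ⟨σ, h⟩ := far_transitive hx h0
    exact ⟨σ, h⟩

theorem card_stab_near : Nat.card (MulAction.stabilizer St o1) = 20480 := by
  have h := Subgroup.index_mul_card (MulAction.stabilizer St o1)
  rw [MulAction.index_stabilizer, orbit_near, ncard_near, card_St] at h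
  omega

theorem card_stab_far : Nat.card (MulAction.stabilizer St (pt 1)) = 15600 := by
  have h := Subgroup.index_mul_card (MulAction.stabilizer St (pt 1))
  rw [MulAction.index_stabilizer, orbit_far, ncard_far, card_St] at h
  omega

end Cfsg.Agent.RuRankThree76
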