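import Cfsg.Agent.Lib.RuR3Defs76

/-! Kernel checks: the tables, and the action of the letters on the orbit of vectors. -/

set_option autoImplicit false
set_option maxRecDepth 100000
-- sequential, so that only one check is in memory at a time
set_option Elab.async false

namespace Cfsg.Agent.RuRankThree76

open RuPermCert66 RuPermData66

theorem defs_ok0 : ((defList.drop 0).take 5).all defEntryOK = true := by decide +kernel

theorem defs_ok1 : ((defList.drop 5).take 5).all defEntryOK = true := by decide +kernel

theorem defs_ok2 : ((defList.drop 10).take 5).all defEntryOK = true := by decide +kernel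

theorem defs_ok3 : ((defList.drop 15).take 5).all defEntryOK = true := by decide +kernel

theorem defs_ok4 : ((defList.drop 20).take 5).all defEntryOK = true := by decide +kernel

theorem defs_ok5 : ((defList.drop 25).take 5).all defEntryOK = true := by decide +kernel

theorem defs_ok : defList.all defEntryOK = true := by
  rw [show defList = (defList.drop 0).take 5 ++ ((defList.drop 5).take 5 ++ ((defList.drop 10).take 5 ++
    ((defList.drop 15).take 5 ++ ((defList.drop 20).take 5 ++ (defList.drop 25).take 5)))) from rfl]
  simp only [List.all_append, defs_ok0, defs_ok1, defs_ok2, defs_ok3, defs_ok4, defs_ok5, Bool.and_self]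

theorem def12Q : defOK NN (tabs qP) w12Q p12.1 = true := by decide +kernel

theorem def14Q : defOK NN (tabs qP) w14Q p14.1 = true := by decide +kernel

theorem vecStep0 : vecStepOK 0 = true := by decide +kernel

theorem vecStep1 : vecStepOK 1 = true := by decide +kernel

theorem vecStep2 : vecStepOK 2 = true := by decide +kernel

theorem vecStep3 : vecStepOK 3 = true := by decide +kernel

theorem vecStep4 : vecStepOK 4 = true := by decide +kernel

theorem vecStep5 : vecStepOK 5 = true := by decide +kernel

theorem vecStep6 : vecStepOK 6 = true := by decide +kernel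

theorem vecStep7 : vecStepOK 7 = true := by decide +kernel

theorem vecStep_ok : allBelow vecStepOK 8 = true := by
  show (vecStepOK 7 && (vecStepOK 6 && (vecStepOK 5 && (vecStepOK 4 && (vecStepOK 3 && (vecStepOK 2 && (vecStepOK 1 && (vecStepOK 0 && true)))))))) = true
  simp only [vecStep0, vecStep1, vecStep2, vecStep3, vecStep4, vecStep5, vecStep6, vecStep7, Bool.and_self]

theorem vecOrd_ok : (incOK vecAt vecOrd && Nat.beq vecOrd.length 1755 &&
    vecOrd.all (fun k => Nat.blt k 1755)) = true := by decide +kernel

theorem conj_tf : conjOK tf.1 5 = true := by decide +kernel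

theorem conj_tg : conjOK tg.1 10 = true := by decide +kernel

theorem g_cycle : (Nat.beq (get tg.1 1) 470 && Nat.beq (get tg.1 470) 1954 && Nat.beq (get tg.1 1954) 1 &&
    [tx.1, tf.1].all (fun t => [1, 470, 1954].all fun c => Nat.beq (get t c) c)) = true := by decide +kernel

theorem x_order_x : powFixOK tx.1 13 0 (List.range NN) = true := by decide +kernel

theorem x_moves : Nat.beq (get tx.1 2305) 2305 = false := by decide +kernel

theorem x_order_f : powFixOK tf.1 4 0 (List.range NN) = true := by decide +kernel

theorem x_order_y : powFixOK ty.1 16 0 (List.range NN) = true := by decide +kernel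

theorem x_order : (powFixOK tx.1 13 0 (List.range NN) && Nat.beq (get tx.1 2305) 2305) = false ∧
    powFixOK tx.1 13 0 (List.range NN) = true ∧ powFixOK tf.1 4 0 (List.range NN) = true ∧
    powFixOK ty.1 16 0 (List.range NN) = true :=
  ⟨by rw [x_moves, Bool.and_false], x_order_x, x_order_f, x_order_y⟩

theorem x_fix : powFixOK tx.1 1 1 [1, 470, 1954] = true := by decide +kernel

theorem f_fix : powFixOK tf.1 1 1 (fixF ++ fixN) = true := by decide +kernel

theorem y_fix : powFixOK ty.1 4 2305 [2305, 4052, 4055] = true ∧ powFixOK ty.1 1 2305 [2305] = true := by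
  decide +kernel

end Cfsg.Agent.RuRankThree76
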