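import Cfsg.Agent.Lib.RuPermCert66

/-! The vectors of the orbit of length 1755 as a tree. -/

set_option autoImplicit false
set_option maxRecDepth 10000

namespace Cfsg.Agent.RuRankThree76

open RuPermCert66

/-- part of the tree -/
def vT0 : PT :=
  (.node (.node (.node (.node (.node (.node (.node (.leaf 0x1000000000000) (.leaf 0x118c381013881)) (.node (.leaf 0x10d2300052882) (.leaf 0x198200004803))) (.node (.node (.leaf 0x115000045d882) (.leaf 0x103610102d801)) (.node (.leaf 0x10e238187c882) (.leaf 0x0)))) (.node (.node (.node (.leaf 0x105c28182b081) (.leaf 0x1174200048003)) (.node (.leaf 0x107c100476882) (.leaf 0x19e10045b803))) (.node (.node (.leaf 0x105828043f881) (.leaf 0x9800)) (.node (.leaf 0x1034301472083) (.leaf 0x0))))) (.node (.node (.node (.node (.leaf 0x10ba301847881) (.leaf 0x110c201010800)) (.node (.leaf 0x1004201011882) (.leaf 0x10b4380800002))) (.node (.node (.leaf 0x1130081c6f881) (.leaf 0x115828086e801)) (.node (.leaf 0x10185d882) (.leaf 0x0)))) (.node (.node (.node (.leaf 0x11b8181072083)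 (.leaf 0x12428083e801)) (.node (.leaf 0x11d0381c0b880) (.leaf 0x17828104f802))) (.node (.node (.leaf 0x10c281c35883) (.leaf 0x11bc280028000)) (.node (.leaf 0x11c418082c083) (.leaf 0x0)))))) (.node (.node (.node (.node (.node (.leaf 0x1dc081458082) (.leaf 0x1162000c58001)) (.node (.leaf 0x1156081c69081) (.leaf 0x110c20145b802))) (.node (.node (.leaf 0x114e081c34080) (.leaf 0x103230006e803)) (.node (.leaf 0x180c51082) (.leaf 0x0)))) (.node (.node (.node (.leaf 0x1190380c0a882) (.leaf 0x109e30003e803)) (.node (.leaf 0x1fe100847082) (.leaf 0x110a28087f801))) (.node (.node (.leaf 0x104a281839083) (.leaf 0x1030100424801)) (.node (.leaf 0x181c33880) (.leaf 0x0))))) (.node (.node (.node (.node (.leaf 0x117a30080f083) (.leaf 0x11f4380068000)) (.node (.leaf 0x19000107a083) (.leaf 0x1052000800000))) (.node (.node (.leaf 0x102a380c64082) (.leaf 0x10f038144d803)) (.node (.leaf 0x181c45080) (.leaf 0x0)))) (.node (.node (.node (.leaf 0x1fe001c6a883) (.leaf 0x178380c69800)) (.node (.leaf 0x111c081430080) (.leaf 0x0)))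 (.node (.node (.leaf 0x11fc20141a081) (.leaf 0x154200014803)) (.node (.leaf 0x1ba101037880) (.leaf 0x0))))))) (.node (.node (.node (.node (.node (.node (.leaf 0x19e081c20882) (.leaf 0x1036101420803)) (.node (.leaf 0x110e101c32883) (.leaf 0x1048281c2f801))) (.node (.node (.leaf 0x1e380807082) (.leaf 0x115200044d801)) (.node (.leaf 0x11e6280879882) (.leaf 0x0)))) (.node (.node (.node (.leaf 0x120180022080) (.leaf 0x11da201c69802)) (.node (.leaf 0x1c381863083) (.leaf 0x11b820187f803))) (.node (.node (.leaf 0x1182101816883) (.leaf 0x1178300c18000)) (.node (.leaf 0x17c181418082) (.leaf 0x0))))) (.node (.node (.node (.node (.leaf 0x1072180c6b083) (.leaf 0x10e0101c78002)) (.node (.leaf 0x103a381055883) (.leaf 0x1140180800002))) (.node (.node (.leaf 0x108100018880) (.leaf 0x11be10142a803)) (.node (.leaf 0x113c181412083) (.leaf 0x0)))) (.node (.node (.node (.leaf 0x198281c49881) (.leaf 0x1192001c7a801)) (.node (.leaf 0x178201c2f882) (.leaf 0x190000000000))) (.node (.node (.leaf 0x101c71882) (.leaf 0x1072381434801))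 (.node (.leaf 0x1010200c00880) (.leaf 0x0)))))) (.node (.node (.node (.node (.node (.leaf 0x178300c40883) (.leaf 0x103a181c30803)) (.node (.leaf 0x116e20083e082) (.leaf 0x1144200800000))) (.node (.node (.leaf 0x11ce380813083) (.leaf 0x101809802)) (.node (.leaf 0x11ba20000a882) (.leaf 0x0)))) (.node (.node (.node (.leaf 0x10f6381851082) (.leaf 0x11f600082d803)) (.node (.leaf 0x1016201c14080) (.leaf 0x1b400004f800))) (.node (.node (.leaf 0x11e0200c5e080) (.leaf 0x10c6181c38003)) (.node (.leaf 0x1b4101478080) (.leaf 0x0))))) (.node (.node (.node (.node (.leaf 0x104280830880) (.leaf 0x12000800800)) (.node (.leaf 0x1f4301c2d080) (.leaf 0x1600142f800))) (.node (.node (.leaf 0x10d418100c883) (.leaf 0x1076380c2a801)) (.node (.leaf 0x116a28185a880) (.leaf 0x0)))) (.node (.node (.node (.leaf 0x1036301875083) (.leaf 0x15a08047a803)) (.node (.leaf 0x172200058881) (.leaf 0x0))) (.node (.node (.leaf 0x1da30187d082) (.leaf 0x105c080008003)) (.node (.leaf 0x106a10085b083) (.leaf 0x0))))))))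

/-- part of the tree -/
def vT1 : PT :=
  (.node (.node (.node (.node (.node (.node (.node (.leaf 0x113008182b083) (.leaf 0x1d0000000000)) (.node (.leaf 0x1136300476880) (.leaf 0x10c201804803))) (.node (.node (.leaf 0x17608043f883) (.leaf 0x11f828082d800)) (.node (.leaf 0x17c101472081) (.leaf 0x0)))) (.node (.node (.node (.leaf 0x117620045d880) (.leaf 0x103c380048003)) (.node (.leaf 0x18187c880) (.leaf 0x12010045b803))) (.node (.node (.leaf 0x108100052880) (.leaf 0x19e181809801)) (.node (.leaf 0x1112181013883) (.leaf 0x0))))) (.node (.node (.node (.node (.leaf 0x1174101847883) (.leaf 0x1118000810800)) (.node (.leaf 0x12001011880) (.leaf 0x1064380800002))) (.node (.node (.leaf 0x15e281c6f883) (.leaf 0x10f410106e800)) (.node (.leaf 0x102630185d880) (.leaf 0x0)))) (.node (.node (.node (.leaf 0x10f0381072081) (.leaf 0x1830103e800)) (.node (.leaf 0x102e181c0b882) (.leaf 0x117830084f802))) (.node (.node (.leaf 0x118a081c35881) (.leaf 0x10b4100028000)) (.node (.leaf 0x107438082c081) (.leaf 0x0)))))) (.node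 (.node (.node (.node (.node (.leaf 0x108610080f081) (.leaf 0x10e6380c58001)) (.node (.leaf 0x1f820107a081) (.leaf 0x1b220145b802))) (.node (.node (.leaf 0x11ba180c64080) (.leaf 0x114e08186e802)) (.node (.leaf 0x154381c45082) (.leaf 0x0)))) (.node (.node (.node (.leaf 0x11c4201c6a881) (.leaf 0x117228183e802)) (.node (.leaf 0x11dc281430082) (.leaf 0x1a30107f801))) (.node (.node (.leaf 0x1400141a083) (.leaf 0x1068301c24801)) (.node (.leaf 0x11b4301037882) (.leaf 0x0))))) (.node (.node (.node (.node (.leaf 0x1bc281458080) (.leaf 0x17c000068000)) (.node (.leaf 0x1b2281c69083) (.leaf 0x1042000800000))) (.node (.node (.leaf 0x119e281c34082) (.leaf 0x172200c4d802)) (.node (.leaf 0x104380c51080) (.leaf 0x0)))) (.node (.node (.node (.leaf 0x102a180c0a880) (.leaf 0x117a001469801)) (.node (.leaf 0x1022300847080) (.leaf 0x0))) (.node (.node (.leaf 0x11ee081839081) (.leaf 0x1d0001814803)) (.node (.leaf 0x1e381c33882) (.leaf 0x0))))))) (.node (.node (.node (.node (.node (.node (.leaf 0x11d6080830882) (.leaf 0x10fe300c20803))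 (.node (.leaf 0x101c2d082) (.leaf 0x1126281c2f801))) (.node (.node (.leaf 0x11f638100c881) (.leaf 0x181c4d800)) (.node (.leaf 0x19008185a882) (.leaf 0x0)))) (.node (.node (.node (.leaf 0x11a2101875081) (.leaf 0x108180469803)) (.node (.leaf 0x100000058883) (.leaf 0x17838007f803))) (.node (.node (.leaf 0x116e10187d080) (.leaf 0x17c080c18000)) (.node (.leaf 0x10c630085b081) (.leaf 0x0))))) (.node (.node (.node (.node (.leaf 0x106a100c40881) (.leaf 0x1b4081c78002)) (.node (.leaf 0x1600083e080) (.leaf 0x190180800002))) (.node (.node (.leaf 0x1142180813081) (.leaf 0x101e280c2a802)) (.node (.leaf 0xa880) (.leaf 0x0)))) (.node (.node (.node (.leaf 0x1f2181851080) (.leaf 0x117218047a800)) (.node (.leaf 0x1046001c14082) (.leaf 0x1150000000000))) (.node (.node (.leaf 0x1118000c5e082) (.leaf 0x112a380c34801)) (.node (.leaf 0x154301478082) (.leaf 0x0)))))) (.node (.node (.node (.node (.node (.leaf 0x1e380c6b081) (.leaf 0x1f2180430803)) (.node (.leaf 0x113c181055881) (.leaf 0x154200800000))) (.node (.node (.leaf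 0x107a300018882) (.leaf 0x105e080009803)) (.node (.leaf 0x1f4381412081) (.leaf 0x0)))) (.node (.node (.node (.leaf 0x11ee081c49883) (.leaf 0x1f838102d802)) (.node (.leaf 0x16001c2f880) (.leaf 0x106418184f800))) (.node (.node (.leaf 0x196301c71880) (.leaf 0x12001c38003)) (.node (.leaf 0x1002000c00882) (.leaf 0x0))))) (.node (.node (.node (.node (.leaf 0x10c281c20880) (.leaf 0x1016001000800)) (.node (.leaf 0x154301c32881) (.leaf 0x117800142f800))) (.node (.node (.leaf 0x10c2180807080) (.leaf 0x1600142a800)) (.node (.leaf 0x150080879880) (.leaf 0x0)))) (.node (.node (.node (.leaf 0x1128380022082) (.leaf 0x107a101c7a802)) (.node (.leaf 0x150181863081) (.leaf 0x0))) (.node (.node (.leaf 0x1148301816881) (.leaf 0x1094100008003)) (.node (.leaf 0x1c381418080) (.leaf 0x0))))))))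

/-- part of the tree -/
def vT2 : PT :=
  (.node (.node (.node (.node (.node (.node (.node (.leaf 0x110a18081b083) (.leaf 0x1c380048003)) (.node (.leaf 0x108e180c46881) (.leaf 0x11d0000000000))) (.node (.node (.leaf 0x104380c0f883) (.leaf 0x10e8181809801)) (.node (.leaf 0x1080380442080) (.leaf 0x0)))) (.node (.node (.node (.leaf 0x124300c6d881) (.leaf 0x101e28082d800)) (.node (.leaf 0x11dc28104c880) (.leaf 0x12000c2f803))) (.node (.node (.leaf 0x11fc180862881) (.leaf 0x110e201804803)) (.node (.leaf 0x1034101823883) (.leaf 0x0))))) (.node (.node (.node (.node (.leaf 0x1192381077883) (.leaf 0x114a000810800)) (.node (.leaf 0x1194081821881) (.leaf 0x1050000800000))) (.node (.node (.leaf 0x1bc38145f883) (.leaf 0x10de10106e800)) (.node (.leaf 0x17820106d881) (.leaf 0x0)))) (.node (.node (.node (.leaf 0x100042080) (.leaf 0x17230103e800)) (.node (.leaf 0x100c28143b882) (.leaf 0x1600180b803))) (.node (.node (.leaf 0x1050201405880) (.leaf 0x1114100028000)) (.node (.leaf 0x113c28181c081) (.leaf 0x0)))))) (.node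 (.node (.node (.node (.node (.leaf 0x12c20183f081) (.leaf 0x1dc000068000)) (.node (.leaf 0x10004a080) (.leaf 0x17228042f802))) (.node (.node (.leaf 0x1176101c54080) (.leaf 0x1114200c4d802)) (.node (.leaf 0x10ca100c75083) (.leaf 0x0)))) (.node (.node (.node (.leaf 0x102430145a880) (.leaf 0x118c001469801)) (.node (.leaf 0x1000000400082) (.leaf 0x1600003b800))) (.node (.node (.leaf 0x10a010042a082) (.leaf 0x1192001814803)) (.node (.leaf 0x10d2181807882) (.leaf 0x0))))) (.node (.node (.node (.node (.leaf 0x1028380468080) (.leaf 0x1086380c58001)) (.node (.leaf 0x1164380c59082) (.leaf 0x102a180800002))) (.node (.node (.leaf 0x1012000c04082) (.leaf 0x116408186e802)) (.node (.leaf 0x1a301c61081) (.leaf 0x0)))) (.node (.node (.node (.leaf 0x105a28043a881) (.leaf 0x101828183e802)) (.node (.leaf 0x181877080) (.leaf 0x0))) (.node (.node (.leaf 0x1164380809080) (.leaf 0x10ea301c24801)) (.node (.leaf 0x1024101403882) (.leaf 0x0))))))) (.node (.node (.node (.node (.node (.node (.leaf 0x1012200000882) (.leaf 0x1004001000800))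 (.node (.leaf 0x16000c1d083) (.leaf 0x108438145b801))) (.node (.node (.leaf 0x11aa08183c881) (.leaf 0x112c00142a800)) (.node (.leaf 0x10ac18106a883) (.leaf 0x0)))) (.node (.node (.node (.leaf 0x10e0380845080) (.leaf 0x101c7a802)) (.node (.leaf 0x115c100868883) (.leaf 0x112428103b802))) (.node (.node (.leaf 0x12420084d081) (.leaf 0x1b4100008003)) (.node (.leaf 0x1bc20186b081) (.leaf 0x0))))) (.node (.node (.node (.node (.leaf 0x10f2380470881) (.leaf 0x120180430803)) (.node (.leaf 0x112e30180e081) (.leaf 0x1d6200800000))) (.node (.node (.leaf 0x10b0101823081) (.leaf 0x128080009803)) (.node (.leaf 0x106c30083a881) (.leaf 0x0)))) (.node (.node (.node (.leaf 0x10f0100861081) (.leaf 0x1e38102d802)) (.node (.leaf 0x11ca080c24082) (.leaf 0x1190000000000))) (.node (.node (.leaf 0x116c101c6e083) (.leaf 0x1f2001c38003)) (.node (.leaf 0x1100000448082) (.leaf 0x0)))))) (.node (.node (.node (.node (.node (.leaf 0x178281c5b081) (.leaf 0x1154081c78002)) (.node (.leaf 0x107a101865880) (.leaf 0x118e380800002))) (.node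 (.node (.leaf 0x11a6200828882) (.leaf 0x124280c2a802)) (.node (.leaf 0x1088300422080) (.leaf 0x0)))) (.node (.node (.node (.leaf 0x102c381479882) (.leaf 0x10818047a800)) (.node (.leaf 0x1b410141f880) (.leaf 0x104a08080b801))) (.node (.node (.leaf 0x108c181441881) (.leaf 0x11e8380c34801)) (.node (.leaf 0x1da280430882) (.leaf 0x0))))) (.node (.node (.node (.node (.leaf 0x1004201410880) (.leaf 0x106c300c20803)) (.node (.leaf 0x102c181402880) (.leaf 0x12808045b800))) (.node (.node (.leaf 0x1160301837080) (.leaf 0x1066181c4d800)) (.node (.leaf 0x15e380049881) (.leaf 0x0)))) (.node (.node (.node (.leaf 0x198301012083) (.leaf 0x1fe180469803)) (.node (.leaf 0x1122100853081) (.leaf 0x0))) (.node (.node (.leaf 0x117c381026880) (.leaf 0x101c080c18000)) (.node (.leaf 0x1008280428080) (.leaf 0x0))))))))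

/-- part of the tree -/
def vT3 : PT :=
  (.node (.node (.node (.node (.node (.node (.node (.leaf 0x198201078080) (.leaf 0x154200048003)) (.node (.leaf 0x15a080425883) (.leaf 0x10ee181800000))) (.node (.node (.leaf 0x18301c4b883) (.leaf 0x176000009800)) (.node (.leaf 0x11ba20046e880) (.leaf 0x0)))) (.node (.node (.node (.leaf 0x19e080c35081) (.leaf 0x1d010102d801)) (.node (.leaf 0x181808880) (.leaf 0x17c000c2f803))) (.node (.node (.leaf 0x1f8300075880) (.leaf 0x119a200004803)) (.node (.leaf 0x108100040883) (.leaf 0x0))))) (.node (.node (.node (.node (.leaf 0x118a301850881) (.leaf 0x115e201010800)) (.node (.leaf 0x18300006880) (.leaf 0x1040000800000))) (.node (.node (.leaf 0x12010041b883) (.leaf 0x17228086e801)) (.node (.leaf 0x11c2281835081) (.leaf 0x0)))) (.node (.node (.node (.leaf 0x102a38086e880) (.leaf 0x104e28083e801)) (.node (.leaf 0x11d000047f882) (.leaf 0x10d618000b803))) (.node (.node (.leaf 0x1090381456882) (.leaf 0x101c280028000)) (.node (.leaf 0x1600083b080) (.leaf 0x0)))))) (.node (.node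 (.node (.node (.node (.leaf 0x10c38185c083) (.leaf 0x1154380068000)) (.node (.leaf 0x118a08185d083) (.leaf 0x101c28042f802))) (.node (.node (.leaf 0x1014201410080) (.leaf 0x109638144d803)) (.node (.leaf 0x104300c69880) (.leaf 0x0)))) (.node (.node (.node (.leaf 0x1194301432083) (.leaf 0x118e380c69800)) (.node (.leaf 0x11f2300c44082) (.leaf 0x11c618183b800))) (.node (.node (.leaf 0x10aa301c49082) (.leaf 0x1116200014803)) (.node (.leaf 0x10001810880) (.leaf 0x0))))) (.node (.node (.node (.node (.leaf 0x110e201c4f081) (.leaf 0x1102000c58001)) (.node (.leaf 0x1bc38143a083) (.leaf 0x10fa180800002))) (.node (.node (.leaf 0x1120100440082) (.leaf 0x1830006e803)) (.node (.leaf 0x1026101c09880) (.leaf 0x0)))) (.node (.node (.node (.leaf 0x18301c26080) (.leaf 0x1f430003e803)) (.node (.leaf 0x11f2300833080) (.leaf 0x0))) (.node (.node (.leaf 0x19e18081e082) (.leaf 0x10b2100424801)) (.node (.leaf 0x15e281424880) (.leaf 0x0))))))) (.node (.node (.node (.node (.node (.node (.leaf 0x1024301053882) (.leaf 0x800800))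 (.node (.leaf 0x10e0380c7e082) (.leaf 0x103a38145b801))) (.node (.node (.leaf 0x1076181078881) (.leaf 0x114c380c2a801)) (.node (.leaf 0x100002080) (.leaf 0x0)))) (.node (.node (.node (.leaf 0x10f2101859883) (.leaf 0x12008047a803)) (.node (.leaf 0x1000002c883) (.leaf 0x12430083b802))) (.node (.node (.leaf 0x113038105a083) (.leaf 0x17c080008003)) (.node (.leaf 0x10e410084c081) (.leaf 0x0))))) (.node (.node (.node (.node (.leaf 0x1bc300c13881) (.leaf 0x10e8181c30803)) (.node (.leaf 0x15a101819082) (.leaf 0x11c6200800000))) (.node (.node (.leaf 0x11d2380867081) (.leaf 0x176101809802)) (.node (.leaf 0x1f2181826080) (.leaf 0x0)))) (.node (.node (.node (.leaf 0x9880) (.leaf 0x1000082d803)) (.node (.leaf 0x10a8180460082) (.leaf 0x100000000000))) (.node (.node (.leaf 0x1058081c0d083) (.leaf 0x1126181c38003)) (.node (.leaf 0x15e300c2b081) (.leaf 0x0)))))) (.node (.node (.node (.node (.node (.leaf 0x1020100408082) (.leaf 0x101c78002)) (.node (.leaf 0x10c8101842881) (.leaf 0x15e380800002))) (.node (.node (.leaf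 0x113a10006c882) (.leaf 0x108410142a803)) (.node (.leaf 0x17228047a882) (.leaf 0x0)))) (.node (.node (.node (.leaf 0x1186180c55080) (.leaf 0x11e8001c7a801)) (.node (.leaf 0x12818045b880) (.leaf 0x15a10100b801))) (.node (.node (.leaf 0x1b2380c12883) (.leaf 0x10b0381434801)) (.node (.leaf 0x12c301c17881) (.leaf 0x0))))) (.node (.node (.node (.node (.leaf 0x1d6301c73881) (.leaf 0x10a4101420803)) (.node (.leaf 0x1d6300461882) (.leaf 0x119608045b800))) (.node (.node (.leaf 0x1092380873080) (.leaf 0x113400044d801)) (.node (.leaf 0x11e4100865083) (.leaf 0x0)))) (.node (.node (.node (.leaf 0x1b220004a881) (.leaf 0x12c201c69802)) (.node (.leaf 0x190181817081) (.leaf 0x0))) (.node (.node (.leaf 0x196280031881) (.leaf 0x18300c18000)) (.node (.leaf 0x1f8380c3f081) (.leaf 0x0))))))))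

/-- part of the tree -/
def vT4 : PT :=
  (.node (.node (.node (.node (.node (.node (.node (.leaf 0x100048080) (.leaf 0x15a000010800)) (.node (.leaf 0x1050000c15882) (.leaf 0x1148000c5b801))) (.node (.node (.leaf 0x1ba00147b883) (.leaf 0x11d630105a800)) (.node (.leaf 0x1a300c5e881) (.leaf 0x0)))) (.node (.node (.node (.leaf 0x1040201c05080) (.leaf 0x119e10100a800)) (.node (.leaf 0x100c281038880) (.leaf 0x11fe181800000))) (.node (.node (.leaf 0x10ae180845881) (.leaf 0x10d8380028003)) (.node (.leaf 0x114c380870883) (.leaf 0x0))))) (.node (.node (.node (.node (.leaf 0x111e381060881) (.leaf 0x100100048000)) (.node (.leaf 0x103c180836881) (.leaf 0x1186200800000))) (.node (.node (.leaf 0x12000c2b883) (.leaf 0x1126181879801)) (.node (.leaf 0x805080) (.leaf 0x0)))) (.node (.node (.node (.leaf 0x19628005e881) (.leaf 0x11ca08085d800)) (.node (.leaf 0x1022300c4f882) (.leaf 0x10cc10087f802))) (.node (.node (.leaf 0x1f8301c66883) (.leaf 0x15e201004803)) (.node (.leaf 0x11ec30180b080) (.leaf 0x0)))))) (.node (.node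 (.node (.node (.node (.leaf 0x10428086c083) (.leaf 0x800)) (.node (.leaf 0x18086d082) (.leaf 0x10ce380800002))) (.node (.node (.leaf 0x1108280420080) (.leaf 0x11ea000c1e800)) (.node (.leaf 0x1116200459881) (.leaf 0x0)))) (.node (.node (.node (.leaf 0x1028180402082) (.leaf 0x1b230044e802)) (.node (.leaf 0x11fe181c74082) (.leaf 0x19008084f801))) (.node (.node (.leaf 0x17c000c79083) (.leaf 0x120000008000)) (.node (.leaf 0x1104081020880) (.leaf 0x0))))) (.node (.node (.node (.node (.leaf 0x1138100c7f081) (.leaf 0x1d6381430800)) (.node (.leaf 0x100808040a082) (.leaf 0x1f4301c5b800))) (.node (.node (.leaf 0x117c381470082) (.leaf 0x11b2381079802)) (.node (.leaf 0x11a4201439881) (.leaf 0x0)))) (.node (.node (.node (.leaf 0x124380c16081) (.leaf 0x11de28005d803)) (.node (.leaf 0x181803080) (.leaf 0x0))) (.node (.node (.leaf 0x116608182e083) (.leaf 0x106a301c38003)) (.node (.leaf 0x1006201c14880) (.leaf 0x0))))))) (.node (.node (.node (.node (.node (.node (.leaf 0x1082381863882) (.leaf 0x18300068003)) (.node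 (.leaf 0x1194081c4e083) (.leaf 0x116e101c2f802))) (.node (.node (.leaf 0x11fa281848881) (.leaf 0x11a6180c3d802)) (.node (.leaf 0x1070381032081) (.leaf 0x0)))) (.node (.node (.node (.leaf 0x112c001069882) (.leaf 0x10a4381419801)) (.node (.leaf 0x119c10081c883) (.leaf 0x11e220184f803))) (.node (.node (.leaf 0x110828006a082) (.leaf 0x1146200814803)) (.node (.leaf 0x12c20187c081) (.leaf 0x0))))) (.node (.node (.node (.node (.leaf 0x1156380423881) (.leaf 0x19e080c58001)) (.node (.leaf 0x10000829083) (.leaf 0x116a180800002))) (.node (.node (.leaf 0x11f0301857081) (.leaf 0x11a420105a803)) (.node (.leaf 0x11c2100816081) (.leaf 0x0)))) (.node (.node (.node (.leaf 0x108e300839881) (.leaf 0x11ac00100a803)) (.node (.leaf 0x10f4101450082) (.leaf 0x1010000000000))) (.node (.node (.leaf 0x114e380c3d082) (.leaf 0x1dc100c24802)) (.node (.leaf 0x11b8201c1b081) (.leaf 0x0)))))) (.node (.node (.node (.node (.node (.leaf 0x1f4201438082) (.leaf 0x1092100420800)) (.node (.leaf 0x102c381072880) (.leaf 0x800000))) (.node (.node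 (.leaf 0x113600085c882) (.leaf 0x106e300c3d801)) (.node (.leaf 0x1142180c4a883) (.leaf 0x0)))) (.node (.node (.node (.leaf 0x10d8101c65081) (.leaf 0x112c301419802)) (.node (.leaf 0x15a080c6b880) (.leaf 0x1d018187f800))) (.node (.node (.leaf 0x1a300422882) (.leaf 0xc18000)) (.node (.leaf 0x196381427881) (.leaf 0x0))))) (.node (.node (.node (.node (.leaf 0x10ac181443881) (.leaf 0x1198201c78002)) (.node (.leaf 0x1c380c51883) (.leaf 0x111e38142f803))) (.node (.node (.leaf 0x10e0101843080) (.leaf 0x14001c1e803)) (.node (.leaf 0x1066181855082) (.leaf 0x0)))) (.node (.node (.node (.leaf 0x115e10087a880) (.leaf 0x1dc10144e801)) (.node (.leaf 0x1032100827081) (.leaf 0x0))) (.node (.node (.leaf 0x801880) (.leaf 0x196380434802)) (.node (.leaf 0x104e081c0f081) (.leaf 0x0))))))))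

/-- part of the tree -/
def vT5 : PT :=
  (.node (.node (.node (.node (.node (.node (.node (.leaf 0x1400080c083) (.leaf 0x15e201810800)) (.node (.leaf 0x113a200c7d080) (.leaf 0x11f6000c5b801))) (.node (.node (.leaf 0x1000200000082) (.leaf 0x112a08085a801)) (.node (.leaf 0x17610141a881) (.leaf 0x0)))) (.node (.node (.node (.leaf 0x1082381c41080) (.leaf 0x1f208080a801)) (.node (.leaf 0x101c73082) (.leaf 0x102e181800000))) (.node (.node (.leaf 0x1ba081859082) (.leaf 0x10000028003)) (.node (.leaf 0x154280034880) (.leaf 0x0))))) (.node (.node (.node (.node (.leaf 0x1d6281824882) (.leaf 0x1188080048000)) (.node (.leaf 0x15e38085e082) (.leaf 0x196200800000))) (.node (.node (.leaf 0x10c0300c77082) (.leaf 0x128000079800)) (.node (.leaf 0x1060180841080) (.leaf 0x0)))) (.node (.node (.node (.leaf 0x105808181a881) (.leaf 0x119430105d801)) (.node (.leaf 0x10b8180c57083) (.leaf 0x111c08107f802))) (.node (.node (.leaf 0x107418147a081) (.leaf 0x1da200804803)) (.node (.leaf 0x119a18084f083) (.leaf 0x0)))))) (.node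 (.node (.node (.node (.node (.leaf 0x100180028080) (.leaf 0x1014001800800)) (.node (.leaf 0x1d6280035881) (.leaf 0x1e380800002))) (.node (.node (.leaf 0x1110181c4c882) (.leaf 0x10da38141e801)) (.node (.leaf 0x10d838041d881) (.leaf 0x0)))) (.node (.node (.node (.leaf 0x198381c46082) (.leaf 0x11c2281c4e803)) (.node (.leaf 0x10be30045c880) (.leaf 0x15010104f801))) (.node (.node (.leaf 0x198380c55881) (.leaf 0x1028180008000)) (.node (.leaf 0x1c381864883) (.leaf 0x0))))) (.node (.node (.node (.node (.leaf 0x12c381c3b082) (.leaf 0x10ce380c30800)) (.node (.leaf 0x1032300462881) (.leaf 0x114a301c5b800))) (.node (.node (.leaf 0x1d010083b882) (.leaf 0x116c200879803)) (.node (.leaf 0x10ba18147d881) (.leaf 0x0)))) (.node (.node (.node (.leaf 0x154381452081) (.leaf 0x15010185d802)) (.node (.leaf 0x1f4281c78883) (.leaf 0x0))) (.node (.node (.leaf 0x10fe181032881) (.leaf 0x11be281c38003)) (.node (.leaf 0x10ac301450883) (.leaf 0x0))))))) (.node (.node (.node (.node (.node (.node (.leaf 0x10e8300827881) (.leaf 0x150080068003))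 (.node (.leaf 0x1090101c26880) (.leaf 0x101c2f802))) (.node (.node (.leaf 0x190101050080) (.leaf 0x1b400143d803)) (.node (.leaf 0x1072180876081) (.leaf 0x0)))) (.node (.node (.node (.leaf 0x15018102d882) (.leaf 0x1136000c19800)) (.node (.leaf 0x1100300040082) (.leaf 0x10f238004f803))) (.node (.node (.leaf 0x10be180876880) (.leaf 0x11d2001014803)) (.node (.leaf 0x11f8101038082) (.leaf 0x0))))) (.node (.node (.node (.node (.leaf 0x119e101467882) (.leaf 0x111a300c58001)) (.node (.leaf 0x128100071880) (.leaf 0x11ba180800002))) (.node (.node (.leaf 0x1600041c883) (.leaf 0x109818085a802)) (.node (.leaf 0x1d0101052081) (.leaf 0x0)))) (.node (.node (.node (.leaf 0x1f208087d881) (.leaf 0x18080a802)) (.node (.leaf 0x10da38102b883) (.leaf 0x10000000000))) (.node (.node (.leaf 0x1054200c11880) (.leaf 0x154301424802)) (.node (.leaf 0x117c080c5f082) (.leaf 0x0)))))) (.node (.node (.node (.node (.node (.leaf 0x1182101c7c081) (.leaf 0x108a301c20800)) (.node (.leaf 0x10b038101a083) (.leaf 0x10000800000))) (.node (.node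 (.leaf 0x15a181c27081) (.leaf 0x1bc28143d800)) (.node (.leaf 0x10fe18140e883) (.leaf 0x0)))) (.node (.node (.node (.leaf 0x1da281c21081) (.leaf 0x117e080c19803)) (.node (.leaf 0x100080020080) (.leaf 0x1d000007f800))) (.node (.node (.leaf 0x178380c3e080) (.leaf 0x104380c18000)) (.node (.leaf 0x15e300463882) (.leaf 0x0))))) (.node (.node (.node (.node (.leaf 0x10b4100407882) (.leaf 0x11cc381c78002)) (.node (.leaf 0x198380c39081) (.leaf 0x107038142f803))) (.node (.node (.leaf 0x110c10106b882) (.leaf 0x11f438041e802)) (.node (.leaf 0x1016201811082) (.leaf 0x0)))) (.node (.node (.node (.leaf 0x19010103e880) (.leaf 0x17c080c4e800)) (.node (.leaf 0x12808004b883) (.leaf 0x0))) (.node (.node (.leaf 0x10ea30181d083) (.leaf 0x1e381c34802)) (.node (.leaf 0x114a000c4b082) (.leaf 0x0))))))))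

/-- part of the tree -/
def vT6 : PT :=
  (.node (.node (.node (.node (.node (.node (.node (.leaf 0x109c30183c083) (.leaf 0x196201810803)) (.node (.leaf 0x106c101c4d081) (.leaf 0x109410042f801))) (.node (.node (.leaf 0x1d0081030082) (.leaf 0x10e438185a801)) (.node (.leaf 0x16001c2a880) (.leaf 0x0)))) (.node (.node (.node (.leaf 0x119c100c71081) (.leaf 0x17c18180a801)) (.node (.leaf 0x11ae380c43082) (.leaf 0x113e181800000))) (.node (.node (.leaf 0x1070180869083) (.leaf 0x14000028000)) (.node (.leaf 0x804880) (.leaf 0x0))))) (.node (.node (.node (.node (.leaf 0x1052201014882) (.leaf 0x119c280048003)) (.node (.leaf 0x112628186e083) (.leaf 0x180800002))) (.node (.node (.leaf 0x113e181c47082) (.leaf 0x104280879800)) (.node (.leaf 0x1162301871081) (.leaf 0x0)))) (.node (.node (.node (.leaf 0x112418102a880) (.leaf 0x103838185d801)) (.node (.leaf 0x1146101c67083) (.leaf 0x1000183b803))) (.node (.node (.leaf 0x118028044a080) (.leaf 0x12000804800)) (.node (.leaf 0x117028187f083) (.leaf 0x0)))))) (.node (.node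 (.node (.node (.node (.leaf 0x1018081018080) (.leaf 0x1dc001800803)) (.node (.leaf 0x805880) (.leaf 0x1114200800000))) (.node (.node (.leaf 0x111028147c882) (.leaf 0x11b608041e801)) (.node (.leaf 0x100a280c2d880) (.leaf 0x0)))) (.node (.node (.node (.leaf 0x10e4100c76083) (.leaf 0x103e380c4e803)) (.node (.leaf 0x116e200c6c880) (.leaf 0x1fe18180b800))) (.node (.node (.leaf 0x10d2300465880) (.leaf 0x10fc180008003)) (.node (.leaf 0x18301054883) (.leaf 0x0))))) (.node (.node (.node (.node (.leaf 0x100a080c0b082) (.leaf 0x1074380c30803)) (.node (.leaf 0x1da380c52880) (.leaf 0x1da380c2f800))) (.node (.node (.leaf 0x11fe20000b882) (.leaf 0x100080079803)) (.node (.leaf 0x1f8281c4d880) (.leaf 0x0)))) (.node (.node (.node (.leaf 0x10a8300462080) (.leaf 0x10bc18105d802)) (.node (.leaf 0x11a4181448883) (.leaf 0x0))) (.node (.node (.leaf 0x109a301802880) (.leaf 0x1018281c38000)) (.node (.leaf 0x10e4381c60883) (.leaf 0x0))))))) (.node (.node (.node (.node (.node (.node (.leaf 0x15e380017881) (.leaf 0x154280068000))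 (.node (.leaf 0x11b8181416881) (.leaf 0x180c5b802))) (.node (.node (.leaf 0x100180060080) (.leaf 0x11fa281c3d803)) (.node (.leaf 0x10c2301846080) (.leaf 0x0)))) (.node (.node (.node (.leaf 0x104e08181d883) (.leaf 0x128080419800)) (.node (.leaf 0x150181070082) (.leaf 0x11dc10080b802))) (.node (.node (.leaf 0x1a300046881) (.leaf 0x1da201014800)) (.node (.leaf 0x1120200008082) (.leaf 0x0))))) (.node (.node (.node (.node (.leaf 0x1064181c57882) (.leaf 0x11bc100c58002)) (.node (.leaf 0x103e380841881) (.leaf 0x1002000800000))) (.node (.node (.leaf 0x1086100c2c883) (.leaf 0x1d628185a802)) (.node (.leaf 0x120180062080) (.leaf 0x0)))) (.node (.node (.node (.leaf 0x1bc38004d880) (.leaf 0x100e08180a802)) (.node (.leaf 0x11e428181b883) (.leaf 0x1100000000000))) (.node (.node (.leaf 0x11de280421881) (.leaf 0x1fe101424801)) (.node (.leaf 0x108a181c6f082) (.leaf 0x0)))))) (.node (.node (.node (.node (.node (.leaf 0x1146200c4c081) (.leaf 0x11f0301c20803)) (.node (.leaf 0x100828002a082) (.leaf 0x1f4380800002))) (.node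 (.node (.leaf 0x11e4100c17081) (.leaf 0x11b2001c3d800)) (.node (.leaf 0x100e281c3e882) (.leaf 0x0)))) (.node (.node (.node (.leaf 0x1044200c11080) (.leaf 0x120000419803)) (.node (.leaf 0x10001010080) (.leaf 0x104c28083b801))) (.node (.node (.leaf 0x104c081c0e081) (.leaf 0x10b2380c18003)) (.node (.leaf 0x10f4380c53882) (.leaf 0x0))))) (.node (.node (.node (.node (.leaf 0x10de380c37882) (.leaf 0x1ba181c78001)) (.node (.leaf 0x100e081c09080) (.leaf 0x1182281c5b803))) (.node (.node (.leaf 0x11b200185b882) (.leaf 0x101808141e802)) (.node (.leaf 0x154280821083) (.leaf 0x0)))) (.node (.node (.node (.leaf 0x1bc20180e881) (.leaf 0x181c4e800)) (.node (.leaf 0x108638087b883) (.leaf 0x0))) (.node (.node (.leaf 0x11e020082d082) (.leaf 0x1b4181c34801)) (.node (.leaf 0x11ec301c7b082) (.leaf 0x0))))))))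

/-- part of the tree -/
def vT7 : PT :=
  (.node (.node (.node (.node (.node (.node (.node (.leaf 0x10bc30185f080) (.leaf 0x1152000010803)) (.node (.leaf 0x1034101c2e081) (.leaf 0x11fa10042f801))) (.node (.node (.leaf 0x11d0381874082) (.leaf 0x10800005a800)) (.node (.leaf 0x1060381c06080) (.leaf 0x0)))) (.node (.node (.node (.leaf 0x1ba080c29881) (.leaf 0xa800)) (.node (.leaf 0x107e301c07082) (.leaf 0x10a2381800000))) (.node (.node (.leaf 0x1d620087e080) (.leaf 0x1c380028000)) (.node (.leaf 0x114e380867880) (.leaf 0x0))))) (.node (.node (.node (.node (.leaf 0x128100033880) (.leaf 0x11d4300048003)) (.node (.leaf 0x104200849080) (.leaf 0x10d0180800002))) (.node (.node (.leaf 0x10ee300c03082) (.leaf 0x1a301079801)) (.node (.leaf 0x1184181029881) (.leaf 0x0)))) (.node (.node (.node (.leaf 0x1082101806080) (.leaf 0x17600005d800)) (.node (.leaf 0x1d6380c23083) (.leaf 0x10018003b803))) (.node (.node (.leaf 0xc19080) (.leaf 0x1056001004800)) (.node (.leaf 0x1f8381058082) (.leaf 0x0)))))) (.node (.node (.node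 (.node (.node (.leaf 0x115a28087b082) (.leaf 0x108000000803)) (.node (.leaf 0x1da300012881) (.leaf 0x104200800000))) (.node (.node (.leaf 0x10ee181c38882) (.leaf 0x196301c1e800)) (.node (.leaf 0x1158280c31083) (.leaf 0x0)))) (.node (.node (.node (.leaf 0x18300c1e880) (.leaf 0x115e20144e802)) (.node (.leaf 0x100428880) (.leaf 0x1fe00000b800))) (.node (.node (.leaf 0x1066380c06882) (.leaf 0x1134000008003)) (.node (.leaf 0x1068100843881) (.leaf 0x0))))) (.node (.node (.node (.node (.leaf 0x104e280c2c083) (.leaf 0x11ac381430803)) (.node (.leaf 0x15e281c31883) (.leaf 0x10b4380c2f800))) (.node (.node (.leaf 0x1d008104f882) (.leaf 0x10ce101879802)) (.node (.leaf 0x198281c25081) (.leaf 0x0)))) (.node (.node (.node (.leaf 0x1166081c7e881) (.leaf 0x112220085d803)) (.node (.leaf 0x105a081c0c883) (.leaf 0x0))) (.node (.node (.leaf 0x12001015880) (.leaf 0x10c301c38000)) (.node (.leaf 0x103c380447881) (.leaf 0x0))))))) (.node (.node (.node (.node (.node (.node (.leaf 0x10ca100844881) (.leaf 0x10dc100068000)) (.node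 (.leaf 0x10c2301c75882) (.leaf 0x10be180c5b802))) (.node (.node (.leaf 0x150080824080) (.leaf 0x10f830043d802)) (.node (.leaf 0x11e218082e883) (.leaf 0x0)))) (.node (.node (.node (.leaf 0x801080) (.leaf 0x11aa301c19801)) (.node (.leaf 0x190081834082) (.leaf 0x100c08100b802))) (.node (.node (.leaf 0x11ac381051881) (.leaf 0x118e000814800)) (.node (.leaf 0x100a28082f082) (.leaf 0x0))))) (.node (.node (.node (.node (.leaf 0x198280c34882) (.leaf 0x11f8280c58002)) (.node (.leaf 0x11ca301856880) (.leaf 0x1012000800000))) (.node (.node (.leaf 0x128000468883) (.leaf 0x11fa10005a803)) (.node (.leaf 0x1f210107e881) (.leaf 0x0)))) (.node (.node (.node (.leaf 0x1d0080825081) (.leaf 0x10b210000a803)) (.node (.leaf 0x15a00085f883) (.leaf 0x10dc381800000))) (.node (.node (.leaf 0x1184181442883) (.leaf 0x11b6300c24801)) (.node (.leaf 0x10a6100c0c081) (.leaf 0x0)))))) (.node (.node (.node (.node (.node (.leaf 0x1bc200c1f082) (.leaf 0x128100420803)) (.node (.leaf 0x10c418080d081) (.leaf 0x124380800002))) (.node (.node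 (.leaf 0x1b4181c53081) (.leaf 0x117018043d801)) (.node (.leaf 0x1078101c66080) (.leaf 0x0)))) (.node (.node (.node (.leaf 0x1b220143d882) (.leaf 0x1062381c19802)) (.node (.leaf 0x1150301854080) (.leaf 0x108c30103b801))) (.node (.node (.leaf 0x11e2180c5d081) (.leaf 0x176000c18003)) (.node (.leaf 0x1070180c74881) (.leaf 0x0))))) (.node (.node (.node (.node (.leaf 0x106e101c54883) (.leaf 0x112e001c78001)) (.node (.leaf 0x11a830046a080) (.leaf 0x113c281c5b803))) (.node (.node (.leaf 0x101c08081f882) (.leaf 0x10e8300c1e803)) (.node (.leaf 0x17220000d881) (.leaf 0x0)))) (.node (.node (.node (.leaf 0x10da100856083) (.leaf 0x11b000044e801)) (.node (.leaf 0x106830183f883) (.leaf 0x0))) (.node (.node (.leaf 0x17820103a081) (.leaf 0x10fc180434801)) (.node (.leaf 0x10ae180c6c083) (.leaf 0x0))))))))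

/-- part of the tree -/
def vT8 : PT :=
  (.node (.node (.node (.node (.node (.node (.node (.leaf 0x19620086f080) (.leaf 0x100000048000)) (.node (.leaf 0xc1e080) (.leaf 0x105e08041f801))) (.node (.node (.leaf 0x1d0100844082) (.leaf 0x100a080809800)) (.node (.leaf 0x115c100c36081) (.leaf 0x0)))) (.node (.node (.node (.leaf 0x128180419880) (.leaf 0x12c38182d801)) (.node (.leaf 0x180c37082) (.leaf 0x11f208100b802))) (.node (.node (.leaf 0x106e10184e081) (.leaf 0x12000004800)) (.node (.leaf 0x178300057880) (.leaf 0x0))))) (.node (.node (.node (.node (.leaf 0x10de380803880) (.leaf 0x1d6201010803)) (.node (.leaf 0x110e101879081) (.leaf 0x101800002))) (.node (.node (.leaf 0x10c0181c33082) (.leaf 0x12c38186e801)) (.node (.leaf 0x101a081819880) (.leaf 0x0)))) (.node (.node (.node (.leaf 0x10b2380836081) (.leaf 0x15018183e801)) (.node (.leaf 0x1f8301c13083) (.leaf 0x172381800000))) (.node (.node (.leaf 0x1096101c29081) (.leaf 0x1058280028003)) (.node (.leaf 0x11a0280068082) (.leaf 0x0)))))) (.node (.node (.node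 (.node (.node (.leaf 0x11e018184b082) (.leaf 0x1d0180068003)) (.node (.leaf 0x11ae380822880) (.leaf 0x1118300000000))) (.node (.node (.leaf 0x113e281408882) (.leaf 0x1148301c4d803)) (.node (.leaf 0x1006001c01082) (.leaf 0x0)))) (.node (.node (.node (.leaf 0x113820042e881) (.leaf 0x100469800)) (.node (.leaf 0xc18880) (.leaf 0x1b230103b801))) (.node (.node (.leaf 0x19e100436883) (.leaf 0x19e000014800)) (.node (.leaf 0x1e380073881) (.leaf 0x0))))) (.node (.node (.node (.node (.leaf 0x10ca381c1c083) (.leaf 0x124200c58002)) (.node (.leaf 0x1004001401882) (.leaf 0x11ae000c1f800))) (.node (.node (.leaf 0x102e38187f882) (.leaf 0x1d620106e803)) (.node (.leaf 0x1046200c15080) (.leaf 0x0)))) (.node (.node (.node (.leaf 0x1d638144e880) (.leaf 0x117a00103e803)) (.node (.leaf 0x1da38143c883) (.leaf 0x0))) (.node (.node (.leaf 0x11d4081825881) (.leaf 0x1098300424802)) (.node (.leaf 0x1116100c77881) (.leaf 0x0))))))) (.node (.node (.node (.node (.node (.node (.leaf 0x1e380074881) (.leaf 0x1148000800803)) (.node (.leaf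 0x1158181445883) (.leaf 0x1186200c6b802))) (.node (.node (.leaf 0x10001814080) (.leaf 0x1170281c2a801)) (.node (.leaf 0x101e08001e882) (.leaf 0x0)))) (.node (.node (.node (.leaf 0x1182281831081) (.leaf 0x118c38147a803)) (.node (.leaf 0x1010200804082) (.leaf 0xb800))) (.node (.node (.leaf 0x10aa301861880) (.leaf 0x1128080008000)) (.node (.leaf 0x106038181f082) (.leaf 0x0))))) (.node (.node (.node (.node (.leaf 0x1010000404882) (.leaf 0x10d2181c30800)) (.node (.leaf 0x117e381066881) (.leaf 0x11a0100000000))) (.node (.node (.leaf 0x1068100c58883) (.leaf 0x115a181009802)) (.node (.leaf 0x15e20184e880) (.leaf 0x0)))) (.node (.node (.node (.leaf 0x12001815080) (.leaf 0x1bc28002d803)) (.node (.leaf 0x1b410006f883) (.leaf 0x1c381800000))) (.node (.node (.leaf 0x10bc301c72882) (.leaf 0x181c38000)) (.node (.leaf 0x11e2201c3c081) (.leaf 0x0)))))) (.node (.node (.node (.node (.node (.leaf 0x11ca301c2f082) (.leaf 0x1036301c78001)) (.node (.leaf 0x100e28183d080) (.leaf 0x114a301800002))) (.node (.node (.leaf 0x10da100c63081)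 (.leaf 0x12800042a803)) (.node (.leaf 0x11c4180c56081) (.leaf 0x0)))) (.node (.node (.node (.leaf 0x10b0101c0d883) (.leaf 0x10d4300c7a801)) (.node (.leaf 0x1190380864080) (.leaf 0x103e18003b803))) (.node (.node (.leaf 0x11b4081c6d080) (.leaf 0x15a181434802)) (.node (.leaf 0x10b8300444881) (.leaf 0x0))))) (.node (.node (.node (.node (.leaf 0x1076181464883) (.leaf 0x19e101420800)) (.node (.leaf 0x115c20145a081) (.leaf 0x10ba301c6b803))) (.node (.node (.leaf 0x117218002f882) (.leaf 0x1ba080c4d801)) (.node (.leaf 0x11bc10083d880) (.leaf 0x0)))) (.node (.node (.node (.leaf 0x10aa181866082) (.leaf 0x1f2081469802)) (.node (.leaf 0x1600100f883) (.leaf 0x0))) (.node (.node (.leaf 0x10000a080) (.leaf 0x11ee300c18003)) (.node (.leaf 0x11aa081c5c083) (.leaf 0x0))))))))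

/-- part of the tree -/
def vT9 : PT :=
  (.node (.node (.node (.node (.node (.node (.node (.leaf 0x1f4381464881) (.leaf 0x1088180048000)) (.node (.leaf 0x1b400145a083) (.leaf 0x11f008041f801))) (.node (.node (.leaf 0x1c38002f880) (.leaf 0x1084101009801)) (.node (.leaf 0x1a30083d882) (.leaf 0x0)))) (.node (.node (.node (.leaf 0x1b2381866080) (.leaf 0x1f200002d800)) (.node (.leaf 0x1f820100f881) (.leaf 0x102210080b802))) (.node (.node (.leaf 0x11a830000a082) (.leaf 0x1046001804800)) (.node (.leaf 0x1da281c5c081) (.leaf 0x0))))) (.node (.node (.node (.node (.leaf 0x10b6101c2f080) (.leaf 0x1102000810803)) (.node (.leaf 0x1ba08183d082) (.leaf 0x11c0101800002))) (.node (.node (.leaf 0x196300c63083) (.leaf 0x19000006e800)) (.node (.leaf 0x1c380c56083) (.leaf 0x0)))) (.node (.node (.node (.leaf 0x1d6301c0d881) (.leaf 0x17c00003e800)) (.node (.leaf 0x180864082) (.leaf 0x1b2381800000))) (.node (.node (.leaf 0x1140281c6d082) (.leaf 0x190100028003)) (.node (.leaf 0x1ba100444883) (.leaf 0x0)))))) (.node (.node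 (.node (.node (.node (.leaf 0x1012200404880) (.leaf 0x198200068003)) (.node (.leaf 0x1074181066883) (.leaf 0x18300000000))) (.node (.node (.leaf 0x1a300c58881) (.leaf 0x1da28044d802)) (.node (.leaf 0x11f400184e882) (.leaf 0x0)))) (.node (.node (.node (.leaf 0x1006201815082) (.leaf 0x1112281c69801)) (.node (.leaf 0x1da30006f881) (.leaf 0x17228083b801))) (.node (.node (.leaf 0x11e6101c72880) (.leaf 0x11da201814800)) (.node (.leaf 0x12001c3c083) (.leaf 0x0))))) (.node (.node (.node (.node (.leaf 0x1dc180074883) (.leaf 0x1060180c58002)) (.node (.leaf 0x1e381445881) (.leaf 0xc1f800))) (.node (.node (.leaf 0x1040201814082) (.leaf 0x1ba18086e802)) (.node (.leaf 0x1f428001e880) (.leaf 0x0)))) (.node (.node (.node (.leaf 0x1106081831083) (.leaf 0x118618083e802)) (.node (.leaf 0x804080) (.leaf 0x0))) (.node (.node (.leaf 0x17c101861882) (.leaf 0x101c24802)) (.node (.leaf 0x1dc18181f080) (.leaf 0x0))))))) (.node (.node (.node (.node (.node (.node (.leaf 0x1ba181c1c081) (.leaf 0x118c001000803)) (.node (.leaf 0x1052201401880)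 (.leaf 0x1f8200c6b802))) (.node (.node (.leaf 0x18187f880) (.leaf 0x10042a800)) (.node (.leaf 0x1052000c15082) (.leaf 0x0)))) (.node (.node (.node (.leaf 0x17c18144e882) (.leaf 0x1bc200c7a802)) (.node (.leaf 0x103818143c881) (.leaf 0x18180b800))) (.node (.node (.leaf 0x1112281825883) (.leaf 0x120100008000)) (.node (.leaf 0x18300c77883) (.leaf 0x0))))) (.node (.node (.node (.node (.leaf 0x10c38184b080) (.leaf 0x11da180430800)) (.node (.leaf 0x1b4180822882) (.leaf 0x10a0100000000))) (.node (.node (.leaf 0x100c081408880) (.leaf 0x14000809803)) (.node (.leaf 0x1042201c01080) (.leaf 0x0)))) (.node (.node (.node (.leaf 0x1200042e883) (.leaf 0x10a210182d802)) (.node (.leaf 0x172200c18882) (.leaf 0x10c381800000))) (.node (.node (.leaf 0x11d4300436881) (.leaf 0x14001c38000)) (.node (.leaf 0x100180073883) (.leaf 0x0)))))) (.node (.node (.node (.node (.node (.leaf 0x180803882) (.leaf 0x11a2281c78001)) (.node (.leaf 0x11aa301879083) (.leaf 0x108a301800002))) (.node (.node (.leaf 0x10cc381c33080) (.leaf 0x198381c2a802))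 (.node (.leaf 0x12c281819882) (.leaf 0x0)))) (.node (.node (.node (.leaf 0x10ea180836083) (.leaf 0x112428147a800)) (.node (.leaf 0x1174101c13081) (.leaf 0x112e00183b803))) (.node (.node (.leaf 0x172301c29083) (.leaf 0x10c2180c34802)) (.node (.leaf 0x100080068080) (.leaf 0x0))))) (.node (.node (.node (.node (.leaf 0x11ea00086f082) (.leaf 0x1196300c20800)) (.node (.leaf 0x1f8200c1e082) (.leaf 0x10c4301c6b803))) (.node (.node (.leaf 0x10c0300844080) (.leaf 0x11f810144d800)) (.node (.leaf 0x104300c36083) (.leaf 0x0)))) (.node (.node (.node (.leaf 0x1e380419882) (.leaf 0x1030300c69803)) (.node (.leaf 0x1c380c37080) (.leaf 0x0))) (.node (.node (.leaf 0x10d630184e083) (.leaf 0x112a080c18003)) (.node (.leaf 0x10f6100057882) (.leaf 0x0))))))))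

/-- part of the tree -/
def vT10 : PT :=
  (.node (.node (.node (.node (.node (.node (.node (.leaf 0x12c301c54881) (.leaf 0x104300c20800)) (.node (.leaf 0x118010046a082) (.leaf 0x11ac00146b801))) (.node (.node (.leaf 0x1b228081f880) (.leaf 0x19e10144d800)) (.node (.leaf 0x1400000d883) (.leaf 0x0)))) (.node (.node (.node (.leaf 0x1102300856081) (.leaf 0x10c6300c69803)) (.node (.leaf 0x114610183f881) (.leaf 0x1c38004f803))) (.node (.node (.leaf 0x1000103a083) (.leaf 0x104a080c18003)) (.node (.leaf 0x1e380c6c081) (.leaf 0x0))))) (.node (.node (.node (.node (.leaf 0xc1f080) (.leaf 0x1142281c78001)) (.node (.leaf 0x11b038080d083) (.leaf 0x1078300000000))) (.node (.node (.leaf 0x1038381c53083) (.leaf 0x10a2381c2a802)) (.node (.leaf 0x1160301c66082) (.leaf 0x0)))) (.node (.node (.node (.leaf 0x1400143d880) (.leaf 0x15e28147a800)) (.node (.leaf 0x101854082) (.leaf 0x1062381800000))) (.node (.node (.leaf 0x1d6380c5d083) (.leaf 0x180c34802)) (.node (.leaf 0x1b2380c74883) (.leaf 0x0)))))) (.node (.node (.node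 (.node (.node (.leaf 0x15a080c34880) (.leaf 0x108180430800)) (.node (.leaf 0x101856882) (.leaf 0x10ec301800002))) (.node (.node (.leaf 0x119a200468881) (.leaf 0x1162000809803)) (.node (.leaf 0x19830107e883) (.leaf 0x0)))) (.node (.node (.node (.leaf 0x104280825083) (.leaf 0x114410182d802)) (.node (.leaf 0x1f420085f881) (.leaf 0x1fe00007f800))) (.node (.node (.leaf 0x1e381442881) (.leaf 0x11f4001c38000)) (.node (.leaf 0x196300c0c083) (.leaf 0x0))))) (.node (.node (.node (.node (.leaf 0x11c8300844883) (.leaf 0x19e001000803)) (.node (.leaf 0x1144101c75880) (.leaf 0x107e10046b800))) (.node (.node (.leaf 0x11c0280824082) (.leaf 0x113a10042a800)) (.node (.leaf 0x10c838082e881) (.leaf 0x0)))) (.node (.node (.node (.leaf 0x1044200801082) (.leaf 0x11c6200c7a802)) (.node (.leaf 0x1140281834080) (.leaf 0x0))) (.node (.node (.leaf 0x10ba181051883) (.leaf 0x100008000)) (.node (.leaf 0x17608082f080) (.leaf 0x0))))))) (.node (.node (.node (.node (.node (.node (.leaf 0x1fe080c2c081) (.leaf 0x180c58002)) (.node (.leaf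 0x11c8081c31881) (.leaf 0x1d630041f802))) (.node (.node (.leaf 0x113e28104f880) (.leaf 0x19018086e802)) (.node (.leaf 0x114c081c25083) (.leaf 0x0)))) (.node (.node (.node (.leaf 0x10c281c7e883) (.leaf 0x10ec18083e802)) (.node (.leaf 0x178281c0c881) (.leaf 0x11be10104f801))) (.node (.node (.leaf 0x1014201015882) (.leaf 0x1082101c24802)) (.node (.leaf 0x1f2180447883) (.leaf 0x0))))) (.node (.node (.node (.node (.leaf 0x17608087b080) (.leaf 0x1138200068003)) (.node (.leaf 0x100100012883) (.leaf 0x1026101800002))) (.node (.node (.leaf 0x111c381c38880) (.leaf 0x11bc28044d802)) (.node (.leaf 0x1dc080c31081) (.leaf 0x0)))) (.node (.node (.node (.leaf 0x1f2100c1e882) (.leaf 0x11e4281c69801)) (.node (.leaf 0x1b2300428882) (.leaf 0x11cc381800000))) (.node (.node (.leaf 0x10ec180c06880) (.leaf 0x1198201814800)) (.node (.leaf 0x11b6300843883) (.leaf 0x0)))))) (.node (.node (.node (.node (.node (.leaf 0x1136300033882) (.leaf 0x150000810803)) (.node (.leaf 0x1160000849082) (.leaf 0x1180100000000))) (.node (.node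 (.leaf 0x1022100c03080) (.leaf 0x1ba00006e800)) (.node (.leaf 0x1072381029883) (.leaf 0x0)))) (.node (.node (.node (.leaf 0x1a301806082) (.leaf 0x1600003e800)) (.node (.leaf 0x119a180c23081) (.leaf 0x113208107f802))) (.node (.node (.leaf 0x124200c19082) (.leaf 0x1030100028003)) (.node (.leaf 0x1198181058080) (.leaf 0x0))))) (.node (.node (.node (.node (.leaf 0x10185f082) (.leaf 0x10a8180048000)) (.node (.leaf 0x10c301c2e083) (.leaf 0x10c8380c1f803))) (.node (.node (.leaf 0x181874080) (.leaf 0x1f2101009801)) (.node (.leaf 0x10f8181c06082) (.leaf 0x0)))) (.node (.node (.node (.leaf 0x104c280c29883) (.leaf 0x1400002d800)) (.node (.leaf 0x10a2101c07080) (.leaf 0x0))) (.node (.node (.leaf 0x11ae00087e082) (.leaf 0x1044001804800)) (.node (.leaf 0x180867882) (.leaf 0x0))))))))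

/-- part of the tree -/
def vT11 : PT :=
  (.node (.node (.node (.node (.node (.node (.node (.leaf 0x10d0180c37880) (.leaf 0x110c101420800)) (.node (.leaf 0x116a281c09082) (.leaf 0x11d200146b801))) (.node (.node (.leaf 0x10c20185b880) (.leaf 0x1dc080c4d801)) (.node (.leaf 0x190080821081) (.leaf 0x0)))) (.node (.node (.node (.leaf 0x1600180e883) (.leaf 0x1104081469802)) (.node (.leaf 0x10b818087b881) (.leaf 0x10c20184f803))) (.node (.node (.leaf 0x1400082d080) (.leaf 0x108e300c18003)) (.node (.leaf 0x11c0101c7b080) (.leaf 0x0))))) (.node (.node (.node (.node (.leaf 0x176000c4c083) (.leaf 0x10d6301c78001)) (.node (.leaf 0x12008002a080) (.leaf 0x178300000000))) (.node (.node (.leaf 0x178300c17083) (.leaf 0x1200042a803)) (.node (.leaf 0x1164081c3e880) (.leaf 0x0)))) (.node (.node (.node (.leaf 0x1040000c11082) (.leaf 0x10ae300c7a801)) (.node (.leaf 0x1050201010082) (.leaf 0x10c0181800000))) (.node (.node (.leaf 0x1f4281c0e083) (.leaf 0x1198181434802)) (.node (.leaf 0x116a180c53880) (.leaf 0x0)))))) (.node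 (.node (.node (.node (.node (.leaf 0x11ea381c57880) (.leaf 0x181c30800)) (.node (.leaf 0x1168180841883) (.leaf 0x12c301800002))) (.node (.node (.leaf 0x124300c2c881) (.leaf 0x102c181009802)) (.node (.leaf 0x1028380062082) (.leaf 0x0)))) (.node (.node (.node (.leaf 0x11da18004d882) (.leaf 0x105a28002d803)) (.node (.leaf 0x105a08181b881) (.leaf 0x1fe18187f800))) (.node (.node (.leaf 0x108080421883) (.leaf 0x11e0181c38000)) (.node (.leaf 0x10f6381c6f080) (.leaf 0x0))))) (.node (.node (.node (.node (.leaf 0x1d0180017883) (.leaf 0x15a000800803)) (.node (.leaf 0x172381416883) (.leaf 0x10046b800))) (.node (.node (.leaf 0x1080380060082) (.leaf 0x104a281c2a801)) (.node (.leaf 0x15a101846082) (.leaf 0x0)))) (.node (.node (.node (.leaf 0x116828181d881) (.leaf 0x11f638147a803)) (.node (.leaf 0x1090381070080) (.leaf 0x0))) (.node (.node (.leaf 0x190100046883) (.leaf 0x1008080008000)) (.node (.leaf 0x8080) (.leaf 0x0))))))) (.node (.node (.node (.node (.node (.node (.leaf 0x11e6280c0b080) (.leaf 0x1144200c58002))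 (.node (.leaf 0x180c52882) (.leaf 0x107830041f802))) (.node (.node (.leaf 0xb880) (.leaf 0x11fc20106e803)) (.node (.leaf 0x19e081c4d882) (.leaf 0x0)))) (.node (.node (.node (.leaf 0x11a0100462082) (.leaf 0x1000103e803)) (.node (.leaf 0x196381448881) (.leaf 0x117e08084f801))) (.node (.node (.leaf 0x101802882) (.leaf 0x1a300424802)) (.node (.leaf 0x176181c60881) (.leaf 0x0))))) (.node (.node (.node (.node (.leaf 0x178281018082) (.leaf 0x1170180068003)) (.node (.leaf 0x1046200805882) (.leaf 0x11e6101800002))) (.node (.node (.leaf 0x11f208147c880) (.leaf 0x112e301c4d803)) (.node (.leaf 0x11ec080c2d882) (.leaf 0x0)))) (.node (.node (.node (.leaf 0x1bc300c76081) (.leaf 0x10f6100469800)) (.node (.leaf 0x11cc000c6c882) (.leaf 0x0))) (.node (.node (.leaf 0x1114100465882) (.leaf 0x1dc000014800)) (.node (.leaf 0x15a101054881) (.leaf 0x0)))))) (.node (.node (.node (.node (.node (.leaf 0x10001014880) (.leaf 0x1184201010803)) (.node (.leaf 0x111e08186e081) (.leaf 0x1080100000000))) (.node (.node (.leaf 0x10e2381c47080)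 (.leaf 0x110638186e801)) (.node (.leaf 0x10e6101871083) (.leaf 0x0)))) (.node (.node (.node (.leaf 0x1e38102a882) (.leaf 0x103a18183e801)) (.node (.leaf 0x1a301c67081) (.leaf 0x10e210087f802))) (.node (.node (.leaf 0x112808044a082) (.leaf 0x1f8280028003)) (.node (.leaf 0x114c08187f081) (.leaf 0x0))))) (.node (.node (.node (.node (.leaf 0x116c10183c081) (.leaf 0x120000048000)) (.node (.leaf 0x18301c4d083) (.leaf 0x1166380c1f803))) (.node (.node (.leaf 0x1110281030080) (.leaf 0x117c080809800)) (.node (.leaf 0x12c201c2a882) (.leaf 0x0)))) (.node (.node (.node (.leaf 0x18300c71083) (.leaf 0x10ca38182d801)) (.node (.leaf 0x1062180c43080) (.leaf 0x0))) (.node (.node (.leaf 0x1094380869081) (.leaf 0x10000004800)) (.node (.leaf 0x1002200804882) (.leaf 0x0))))))))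

/-- part of the tree -/
def vT12 : PT :=
  (.node (.node (.node (.node (.node (.node (.node (.leaf 0x107a300407880) (.leaf 0x11ce001c78001)) (.node (.leaf 0x103c180c39083) (.leaf 0x11b0380c6b801))) (.node (.node (.leaf 0x17230106b880) (.leaf 0x1102300c1e803)) (.node (.leaf 0x12001811080) (.leaf 0x0)))) (.node (.node (.node (.leaf 0x10fa30103e882) (.leaf 0x111a00044e801)) (.node (.leaf 0x1d628004b881) (.leaf 0x1a30083b802))) (.node (.node (.leaf 0x11de10181d081) (.leaf 0x103e180434801)) (.node (.leaf 0x11a6200c4b080) (.leaf 0x0))))) (.node (.node (.node (.node (.leaf 0x172301c7c083) (.leaf 0x1ba100420803)) (.node (.leaf 0x115818101a081) (.leaf 0x1f8300000000))) (.node (.node (.leaf 0x1106381c27083) (.leaf 0x10d618043d801)) (.node (.leaf 0x15438140e881) (.leaf 0x0)))) (.node (.node (.node (.leaf 0x111e081c21083) (.leaf 0x154381c19802)) (.node (.leaf 0x1180280020082) (.leaf 0x1110181800000))) (.node (.node (.leaf 0x180c3e082) (.leaf 0x16000c18003)) (.node (.leaf 0x100463880) (.leaf 0x0)))))) (.node (.node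 (.node (.node (.node (.leaf 0x10d0301467880) (.leaf 0x198280c58002)) (.node (.leaf 0x10be300071882) (.leaf 0x107c301800002))) (.node (.node (.leaf 0x117420041c881) (.leaf 0x10010005a803)) (.node (.leaf 0x18301052083) (.leaf 0x0)))) (.node (.node (.node (.leaf 0x15428087d883) (.leaf 0x10810000a803)) (.node (.leaf 0x11a418102b881) (.leaf 0x10a410100b801))) (.node (.node (.leaf 0x1042000c11882) (.leaf 0x1134300c24801)) (.node (.leaf 0x11c0280c5f080) (.leaf 0x0))))) (.node (.node (.node (.node (.leaf 0x10a6100827883) (.leaf 0x107c100068000)) (.node (.leaf 0x109a301c26882) (.leaf 0x1172281c6b800))) (.node (.node (.leaf 0x10d0301050082) (.leaf 0x15e30043d802)) (.node (.leaf 0x112a380876083) (.leaf 0x0)))) (.node (.node (.node (.leaf 0x10b638102d880) (.leaf 0x109c301c19801)) (.node (.leaf 0x100040080) (.leaf 0x0))) (.node (.node (.leaf 0x1f4380876882) (.leaf 0x11cc000814800)) (.node (.leaf 0x18301038080) (.leaf 0x0))))))) (.node (.node (.node (.node (.node (.node (.leaf 0x181c3b080) (.leaf 0x117e381430803))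 (.node (.leaf 0x128100462883) (.leaf 0x101a081c1f802))) (.node (.node (.leaf 0x10ee30083b880) (.leaf 0x1078101879802)) (.node (.leaf 0x1c38147d883) (.leaf 0x0)))) (.node (.node (.node (.leaf 0x109c181452083) (.leaf 0x10420085d803)) (.node (.leaf 0x1106081c78881) (.leaf 0x10f818183b800))) (.node (.node (.leaf 0x10a4381032883) (.leaf 0x10ec301c38000)) (.node (.leaf 0x1fe101450881) (.leaf 0x0))))) (.node (.node (.node (.node (.leaf 0x10a0380028082) (.leaf 0x111a000000803)) (.node (.leaf 0x150080035883) (.leaf 0x10b6101800002))) (.node (.node (.leaf 0x1132381c4c880) (.leaf 0x107c301c1e800)) (.node (.leaf 0x1fe18041d883) (.leaf 0x0)))) (.node (.node (.node (.leaf 0x181c46080) (.leaf 0x1f420144e802)) (.node (.leaf 0x10dc10045c882) (.leaf 0x0))) (.node (.node (.leaf 0x109e180c55883) (.leaf 0x14000008003)) (.node (.leaf 0x19e181864881) (.leaf 0x0)))))) (.node (.node (.node (.node (.node (.leaf 0x1154081824880) (.leaf 0x1f4300048003)) (.node (.leaf 0x11a618085e080) (.leaf 0x100000000))) (.node (.node (.leaf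 0x11dc100c77080) (.leaf 0x10ac301079801)) (.node (.leaf 0x124380841082) (.leaf 0x0)))) (.node (.node (.node (.leaf 0x11a228181a883) (.leaf 0x15000005d800)) (.node (.leaf 0x124380c57081) (.leaf 0x12818000b803))) (.node (.node (.leaf 0x1c38147a083) (.leaf 0x1054001004800)) (.node (.leaf 0x116638084f081) (.leaf 0x0))))) (.node (.node (.node (.node (.leaf 0x12420080c081) (.leaf 0x100000010803)) (.node (.leaf 0x118e000c7d082) (.leaf 0x1400141f803))) (.node (.node (.leaf 0x80) (.leaf 0x1f200005a800)) (.node (.leaf 0x108c30141a883) (.leaf 0x0)))) (.node (.node (.node (.leaf 0x11c6181c41082) (.leaf 0x1ba00000a800)) (.node (.leaf 0x10c301c73080) (.leaf 0x0))) (.node (.node (.leaf 0x119e281859080) (.leaf 0x1bc380028000)) (.node (.leaf 0x1196080034882) (.leaf 0x0))))))))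

/-- part of the tree -/
def vT13 : PT :=
  (.node (.node (.node (.node (.node (.node (.node (.leaf 0x172381443883) (.leaf 0x15a181c78001)) (.node (.leaf 0x110a180c51881) (.leaf 0x11ce380c6b801))) (.node (.node (.leaf 0x12c301843082) (.leaf 0x1f208141e802)) (.node (.leaf 0x172381855080) (.leaf 0x0)))) (.node (.node (.node (.leaf 0x12430087a882) (.leaf 0x10aa181c4e800)) (.node (.leaf 0x106e300827083) (.leaf 0x101a28103b802))) (.node (.node (.leaf 0x1056200801882) (.leaf 0x176181c34801)) (.node (.leaf 0x1b2281c0f083) (.leaf 0x0))))) (.node (.node (.node (.node (.leaf 0x14001438080) (.leaf 0x1162301c20803)) (.node (.leaf 0x176181072882) (.leaf 0x10f8300000000))) (.node (.node (.leaf 0x15420085c880) (.leaf 0x14001c3d800)) (.node (.leaf 0x1f8380c4a881) (.leaf 0x0)))) (.node (.node (.node (.leaf 0x10c301c65083) (.leaf 0x16000419803)) (.node (.leaf 0x124280c6b882) (.leaf 0x181800000))) (.node (.node (.leaf 0x100422880) (.leaf 0x11d2380c18003)) (.node (.leaf 0x11d8181427883) (.leaf 0x0)))))) (.node (.node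 (.node (.node (.node (.leaf 0x108180423883) (.leaf 0x1dc100c58002)) (.node (.leaf 0x1f4200829081) (.leaf 0x1bc301800002))) (.node (.node (.leaf 0x106c101857083) (.leaf 0x12c28185a802)) (.node (.leaf 0x111a300816083) (.leaf 0x0)))) (.node (.node (.node (.leaf 0x1138100839883) (.leaf 0x11b408180a802)) (.node (.leaf 0x11b4301450080) (.leaf 0x1b408080b801))) (.node (.node (.leaf 0x10fa180c3d080) (.leaf 0x17c101424801)) (.node (.leaf 0x14001c1b083) (.leaf 0x0))))) (.node (.node (.node (.node (.leaf 0x1dc181863880) (.leaf 0x1f4280068000)) (.node (.leaf 0x12c281c4e081) (.leaf 0x10c281c6b800))) (.node (.node (.leaf 0x11c8081848883) (.leaf 0x105c281c3d803)) (.node (.leaf 0x1038181032083) (.leaf 0x0)))) (.node (.node (.node (.leaf 0x1da201069880) (.leaf 0x101e080419800)) (.node (.leaf 0x10fe30081c881) (.leaf 0x0))) (.node (.node (.leaf 0x12008006a080) (.leaf 0x198201014800)) (.node (.leaf 0x1dc00187c083) (.leaf 0x0))))))) (.node (.node (.node (.node (.node (.node (.leaf 0x104300c7f083) (.leaf 0x10a6380c30803))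 (.node (.leaf 0x11a028040a080) (.leaf 0x1b4081c1f802))) (.node (.node (.leaf 0x10bc181470080) (.leaf 0x11b6080079803)) (.node (.leaf 0x12001439883) (.leaf 0x0)))) (.node (.node (.node (.leaf 0x11fc180c16083) (.leaf 0x109a18105d802)) (.node (.leaf 0x10cc381803082) (.leaf 0x12800003b800))) (.node (.node (.leaf 0x105e28182e081) (.leaf 0x1f8281c38000)) (.node (.leaf 0x1044001c14882) (.leaf 0x0))))) (.node (.node (.node (.node (.leaf 0x1b408086c081) (.leaf 0x11ce001800803)) (.node (.leaf 0x10f438086d080) (.leaf 0x1176101800002))) (.node (.node (.leaf 0x1188080420082) (.leaf 0x105c08041e801)) (.node (.leaf 0x120000459883) (.leaf 0x0)))) (.node (.node (.node (.leaf 0x10a0380402080) (.leaf 0x1094380c4e803)) (.node (.leaf 0x102e381c74080) (.leaf 0x0))) (.node (.node (.leaf 0x11d8200c79081) (.leaf 0x1dc180008003)) (.node (.leaf 0x196281020882) (.leaf 0x0)))))) (.node (.node (.node (.node (.node (.leaf 0x108c181060883) (.leaf 0x1bc280048003)) (.node (.leaf 0x1076380836883) (.leaf 0x100100000000))) (.node (.node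 (.leaf 0x116c200c2b881) (.leaf 0x1b2280879800)) (.node (.leaf 0x1054200805082) (.leaf 0x0)))) (.node (.node (.node (.leaf 0x17c08005e883) (.leaf 0x1e38185d801)) (.node (.leaf 0x10cc100c4f880) (.leaf 0x11e800180b803))) (.node (.node (.leaf 0x10f2101c66881) (.leaf 0x10000804800)) (.node (.leaf 0x10180b082) (.leaf 0x0))))) (.node (.node (.node (.node (.leaf 0x1020300048082) (.leaf 0x11c4201810803)) (.node (.leaf 0x1056200c15880) (.leaf 0x1ba00141f803))) (.node (.node (.leaf 0x118420147b881) (.leaf 0x1e38185a801)) (.node (.leaf 0x10f0100c5e883) (.leaf 0x0)))) (.node (.node (.node (.leaf 0x1014001c05082) (.leaf 0x10c618180a801)) (.node (.leaf 0x1fe081038882) (.leaf 0x0))) (.node (.node (.leaf 0x11e8380845883) (.leaf 0x1b4000028000)) (.node (.leaf 0x109e180870881) (.leaf 0x0))))))))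

/-- part of the tree -/
def vT14 : PT :=
  (.node (.node (.node (.node (.node (.node (.node (.leaf 0x10c8101c73883) (.leaf 0x12c381c78002)) (.node (.leaf 0x100461880) (.leaf 0x1152301c1f801))) (.node (.node (.leaf 0x19e180873082) (.leaf 0x1e38041e802)) (.node (.leaf 0x1030300865081) (.leaf 0x0)))) (.node (.node (.node (.leaf 0x10800004a883) (.leaf 0x11d6080c4e800)) (.node (.leaf 0x10c381817083) (.leaf 0x115638007f803))) (.node (.node (.leaf 0x100080031883) (.leaf 0x10dc381c34802)) (.node (.leaf 0x10c4180c3f083) (.leaf 0x0))))) (.node (.node (.node (.node (.leaf 0x1100300408080) (.leaf 0x18301c20800)) (.node (.leaf 0x1152301842883) (.leaf 0x1090101800002))) (.node (.node (.leaf 0x19830006c880) (.leaf 0x101a28143d800)) (.node (.leaf 0x10808047a880) (.leaf 0x0)))) (.node (.node (.node (.leaf 0x1092380c55082) (.leaf 0x1048080c19803)) (.node (.leaf 0x19638045b882) (.leaf 0x1d0181800000))) (.node (.node (.leaf 0x1168180c12881) (.leaf 0x1064380c18000)) (.node (.leaf 0x11a2101c17883) (.leaf 0x0)))))) (.node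 (.node (.node (.node (.node (.leaf 0x1122100c13883) (.leaf 0x117a300c58001)) (.node (.leaf 0x107e301819080) (.leaf 0x1098300000000))) (.node (.node (.leaf 0x108e180867083) (.leaf 0x106218085a802)) (.node (.leaf 0x11ea381826082) (.leaf 0x0)))) (.node (.node (.node (.leaf 0x1176200009882) (.leaf 0x1ba18080a802)) (.node (.leaf 0x1128380460080) (.leaf 0x108a18184f800))) (.node (.node (.leaf 0x12c281c0d081) (.leaf 0x11d6301424802)) (.node (.leaf 0x1032100c2b083) (.leaf 0x0))))) (.node (.node (.node (.node (.leaf 0x1ba101053880) (.leaf 0x11f0080068003)) (.node (.leaf 0x1098180c7e080) (.leaf 0x11b238141f800))) (.node (.node (.leaf 0x1084381078883) (.leaf 0x1200143d803)) (.node (.leaf 0x1088300002082) (.leaf 0x0)))) (.node (.node (.node (.leaf 0x10c4301859881) (.leaf 0xc19800)) (.node (.leaf 0x1b220002c881) (.leaf 0x0))) (.node (.node (.leaf 0x11d818105a081) (.leaf 0x190001014803)) (.node (.leaf 0x10d430084c083) (.leaf 0x0))))))) (.node (.node (.node (.node (.node (.node (.leaf 0x1f2001c4f083) (.leaf 0x1c380c30800))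 (.node (.leaf 0x10d418143a081) (.leaf 0x15a18146b802))) (.node (.node (.leaf 0x1020300440080) (.leaf 0x1da200879803)) (.node (.leaf 0x1150301c09882) (.leaf 0x0)))) (.node (.node (.node (.leaf 0x101c26082) (.leaf 0x17610185d802)) (.node (.leaf 0x1fe100833082) (.leaf 0x103430107f801))) (.node (.node (.leaf 0x106638081e080) (.leaf 0x105e281c38003)) (.node (.leaf 0x1dc081424882) (.leaf 0x0))))) (.node (.node (.node (.node (.leaf 0x17c18185c081) (.leaf 0x1006001800800)) (.node (.leaf 0x11be28185d081) (.leaf 0x1020100000000))) (.node (.node (.leaf 0x1054001410082) (.leaf 0x113038141e801)) (.node (.leaf 0x1f2100c69882) (.leaf 0x0)))) (.node (.node (.node (.leaf 0x1dc101432081) (.leaf 0x1168281c4e803)) (.node (.leaf 0x10e2100c44080) (.leaf 0x0))) (.node (.node (.leaf 0x10ce101c49080) (.leaf 0x1108180008000)) (.node (.leaf 0x1042201810882) (.leaf 0x0)))))) (.node (.node (.node (.node (.node (.leaf 0x10d8101850883) (.leaf 0x11a8080048000)) (.node (.leaf 0x1092100006882) (.leaf 0x1da301800002))) (.node (.node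 (.leaf 0x109e30041b881) (.leaf 0x19e000079800)) (.node (.leaf 0x1156081835083) (.leaf 0x0)))) (.node (.node (.node (.leaf 0x18086e882) (.leaf 0x1b230105d801)) (.node (.leaf 0x11fe20047f880) (.leaf 0x119630084f802))) (.node (.node (.leaf 0x115a181456880) (.leaf 0x11d8200804803)) (.node (.leaf 0x113a20083b082) (.leaf 0x0))))) (.node (.node (.node (.node (.leaf 0x1178001078082) (.leaf 0x10c201810800)) (.node (.leaf 0x119c280425881) (.leaf 0x17608046b803))) (.node (.node (.leaf 0x10e6101c4b881) (.leaf 0x1d008085a801)) (.node (.leaf 0x119000046e882) (.leaf 0x0)))) (.node (.node (.node (.leaf 0x110a280c35083) (.leaf 0x104808080a801)) (.node (.leaf 0x1132381808882) (.leaf 0x0))) (.node (.node (.leaf 0x107e100075882) (.leaf 0x11b0000028003)) (.node (.leaf 0x1a300040881) (.leaf 0x0))))))))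

/-- part of the tree -/
def vT15 : PT :=
  (.node (.node (.node (.node (.node (.node (.node (.leaf 0x1056001410882) (.leaf 0x178201c78002)) (.node (.leaf 0x10b6381402882) (.leaf 0x10fc301c1f801))) (.node (.node (.leaf 0x17c101837082) (.leaf 0x1fe001c1e803)) (.node (.leaf 0x128180049883) (.leaf 0x0)))) (.node (.node (.node (.leaf 0x150101012081) (.leaf 0x17610144e801)) (.node (.leaf 0x10ae300853083) (.leaf 0x19620187f803))) (.node (.node (.leaf 0x176181026882) (.leaf 0x1154380434802)) (.node (.leaf 0x11a8080428082) (.leaf 0x0))))) (.node (.node (.node (.node (.leaf 0x11d4081c5b083) (.leaf 0x100420800)) (.node (.leaf 0x1bc301865882) (.leaf 0x150101800002))) (.node (.node (.leaf 0x14000828880) (.leaf 0x11c8300c3d801)) (.node (.leaf 0x1080100422082) (.leaf 0x0)))) (.node (.node (.node (.leaf 0x109a181479880) (.leaf 0x1a301419802)) (.node (.leaf 0x1a30141f882) (.leaf 0x150000000000))) (.node (.node (.leaf 0x1da381441883) (.leaf 0x1160000c18000)) (.node (.leaf 0x108080430880) (.leaf 0x0)))))) (.node (.node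 (.node (.node (.node (.leaf 0x120180470883) (.leaf 0x1fe080c58001)) (.node (.leaf 0x109610180e083) (.leaf 0x198300000000))) (.node (.node (.leaf 0x10fc301823083) (.leaf 0x15e20105a803)) (.node (.leaf 0x111610083a883) (.leaf 0x0)))) (.node (.node (.node (.leaf 0x1134300861083) (.leaf 0x1600100a803)) (.node (.leaf 0x115a280c24080) (.leaf 0x15a00004f800))) (.node (.node (.leaf 0x154301c6e081) (.leaf 0x115e100c24802)) (.node (.leaf 0x1120200448080) (.leaf 0x0))))) (.node (.node (.node (.node (.leaf 0x880) (.leaf 0x10b8300068003)) (.node (.leaf 0x1122200c1d081) (.leaf 0x1c38141f800))) (.node (.node (.leaf 0x104828183c883) (.leaf 0x180c3d802)) (.node (.leaf 0x109638106a881) (.leaf 0x0)))) (.node (.node (.node (.leaf 0x1b4180845082) (.leaf 0x1192381419801)) (.node (.leaf 0x11ee300868881) (.leaf 0x0))) (.node (.node (.leaf 0x15000084d083) (.leaf 0x104200814803)) (.node (.leaf 0x1d000186b083) (.leaf 0x0))))))) (.node (.node (.node (.node (.node (.node (.leaf 0x1088180468082) (.leaf 0x1104381430800)) (.node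 (.leaf 0x1140180c59080) (.leaf 0x112418146b802))) (.node (.node (.leaf 0x1002200c04080) (.leaf 0x1104381079802)) (.node (.leaf 0x11de101c61083) (.leaf 0x0)))) (.node (.node (.node (.leaf 0x12008043a883) (.leaf 0x1f828005d803)) (.node (.leaf 0x111c381877082) (.leaf 0x12428087f801))) (.node (.node (.leaf 0x180809082) (.leaf 0x118a301c38003)) (.node (.leaf 0x10fa301403880) (.leaf 0x0))))) (.node (.node (.node (.node (.leaf 0x1000183f083) (.leaf 0x12000000800)) (.node (.leaf 0x10a830004a082) (.leaf 0x1120100000000))) (.node (.node (.leaf 0x1026301c54082) (.leaf 0xc1e800)) (.node (.leaf 0x15e300c75081) (.leaf 0x0)))) (.node (.node (.node (.leaf 0x10de10145a882) (.leaf 0x111830044e802)) (.node (.leaf 0x1000200400080) (.leaf 0x0))) (.node (.node (.leaf 0x118830042a080) (.leaf 0x8000)) (.node (.leaf 0x1c381807880) (.leaf 0x0)))))) (.node (.node (.node (.node (.node (.leaf 0x109c181077881) (.leaf 0x120100048000)) (.node (.leaf 0x1142281821883) (.leaf 0x1a301800002))) (.node (.node (.leaf 0x111218145f881) (.leaf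 0x190181879801)) (.node (.leaf 0x19e00106d883) (.leaf 0x0)))) (.node (.node (.node (.leaf 0x1188300042082) (.leaf 0x11ec08085d800)) (.node (.leaf 0x113208143b880) (.leaf 0x19628104f802))) (.node (.node (.leaf 0x1016001405882) (.leaf 0x115c201004803)) (.node (.leaf 0x104c08181c083) (.leaf 0x0))))) (.node (.node (.node (.node (.leaf 0x10a638081b081) (.leaf 0x108000010800)) (.node (.leaf 0x104380c46883) (.leaf 0x10808046b803))) (.node (.node (.leaf 0x10ea180c0f881) (.leaf 0x112c30105a800)) (.node (.leaf 0x1108180442082) (.leaf 0x0)))) (.node (.node (.node (.leaf 0x11c2100c6d883) (.leaf 0x102410100a800)) (.node (.leaf 0x1fe08104c882) (.leaf 0x0))) (.node (.node (.leaf 0x10e6380862883) (.leaf 0x178380028003)) (.node (.leaf 0x106a301823881) (.leaf 0x0))))))))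

/-- the vectors -/
def vecT : PT :=
  (.node (.node (.node (.node vT0 vT8) (.node vT4 vT12)) (.node (.node vT2 vT10) (.node vT6 vT14))) (.node (.node (.node vT1 vT9) (.node vT5 vT13)) (.node (.node vT3 vT11) (.node vT7 vT15))))

end Cfsg.Agent.RuRankThree76
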