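/-!
Certificate data for the order and the overgroups of a Sylow 2-subgroup of ²F₄(2), and elements of odd order.
-/

set_option autoImplicit false
set_option maxRecDepth 100000

namespace Cfsg.Agent.TitsTwo15

/-- overgroups by one element of a long cell -/
def overSingle : List (List Nat × List Nat) :=
  [([2, 11, 11, 11, 11, 11, 11, 11, 2, 11, 9, 6, 3, 2, 1, 0], [0, 11, 11, 11, 11, 1, 11, 11, 11, 11, 8, 2, 1, 0]), ([11, 11, 11, 11, 3, 11, 11, 11, 0, 11, 0, 11, 10, 9, 7, 6, 5, 4, 0, 1, 2, 11, 11, 11, 11, 11, 11, 11, 11, 11, 11, 11, 0, 0, 0, 0, 0, 0, 0, 11, 11, 11, 11, 11, 11, 11, 11, 11, 11, 11, 11, 11, 11, 11, 11, 11, 11, 11, 11, 11, 11, 3, 11, 11, 11,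 11, 11, 11, 11, 11, 11, 11, 11, 0, 0, 0, 0, 0, 0, 0, 11, 11, 4, 11, 0, 11, 11], [0, 11, 11, 11, 11, 7, 2, 0, 11, 11, 11, 11, 8, 6, 5, 2, 1]), ([11, 11, 11, 6, 11, 11, 1, 11, 0, 11, 11, 10, 8, 7, 1], [11, 11, 11, 2, 11, 6, 11, 11, 0, 11, 11, 10, 8, 6, 5, 4, 2, 1]), ([11, 11, 5, 11, 11, 11, 9, 11, 11, 11, 10, 9, 8, 3, 0], [11, 11, 11, 3, 11, 11, 5, 11, 11, 11, 9, 8, 7, 4]), ([2, 11, 11, 11, 11, 10, 11, 11, 11, 11, 10, 8, 5, 2, 1], [0, 11, 11, 11, 11, 11, 11, 11, 4, 11, 5, 4, 2, 1, 0]), ([11, 11, 11, 11, 0, 11, 2, 11, 11, 11, 3, 11, 9, 8, 7, 4, 3, 2, 1, 0, 4, 6, 7, 8, 9, 11, 11, 11, 11, 11, 11, 11, 11, 11, 11, 11, 3, 11, 11, 11, 11, 11, 11, 11, 11, 11, 11, 11,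 11, 11, 11, 11, 11, 11, 11, 11, 11, 11, 11, 11, 11, 11, 11, 11, 11, 11, 11, 11, 11, 11, 11, 11, 11, 11, 11, 11, 11, 11, 11, 11, 11, 10, 11, 11, 11, 4, 11], [11, 11, 11, 0, 11, 2, 11, 11, 11, 7, 11, 8, 7, 5, 3, 2, 1]), ([11, 11, 11, 11, 11, 0, 4, 11, 11, 11, 11, 10, 9, 6, 3, 2, 1, 3, 4, 5, 10, 11, 11, 11, 11, 11, 11, 11, 11, 11, 11, 11, 2, 11, 11, 11, 11, 11, 11, 11, 11, 11, 11, 11, 11, 11, 11, 11, 11, 11, 11, 11, 11, 11, 11, 11, 11, 11, 11, 11, 11, 11, 11, 11, 11, 11, 11, 11, 11, 11, 11, 11, 11, 11, 11, 11, 11, 3, 11, 11, 11, 4, 11], [11, 11, 11, 11, 0, 4, 11, 11, 11, 11, 10, 9, 6, 3, 2, 1, 0]), ([11, 11, 11, 11, 0, 11, 11, 11, 7, 11, 0, 11, 10, 9, 7, 3,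 2, 0], [11, 11, 11, 0, 11, 11, 11, 8, 11, 0, 11, 10, 9, 8, 4, 3, 2]), ([2, 11, 9, 4, 11, 10, 9, 8, 7, 6, 5, 4, 3, 1], [11, 9, 5, 11, 2, 11, 2, 11, 9, 4, 11, 9, 4, 2, 1]), ([2, 11, 9, 4, 11, 10, 9, 6, 5, 3, 1, 0], [11, 9, 5, 11, 3, 11, 2, 11, 9, 4, 11, 10, 8, 7, 1, 1, 4, 5, 8, 9, 10, 11, 11, 11, 11, 11, 11, 11, 0, 0, 0, 0, 0, 0, 0, 11, 11, 11, 11, 11, 11, 11, 3, 2, 11]), ([2, 11, 9, 4, 11, 8, 5, 4, 0], [11, 9, 4, 11, 3, 11, 2, 11, 9, 4, 11, 10, 8, 5, 3, 3, 5, 6, 7, 9, 10, 11, 11, 11, 11, 11, 11, 11, 0, 0, 0, 0, 0, 0, 0, 11, 11, 11, 11, 11, 11, 11, 3, 2, 11]), ([2, 11, 9, 4, 11, 10, 7, 5, 2, 1], [11, 9, 5, 11, 2, 11, 2, 11, 9, 4, 11, 10, 7, 6, 2, 1]), ([11,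 5, 11, 1, 0, 11, 0, 11, 4, 11, 10, 5, 3, 2, 0], [0, 11, 4, 11, 5, 4, 2, 1, 0]), ([11, 11, 1, 11, 8, 11, 11, 11, 11, 10, 8, 7, 6, 5, 4, 3, 1, 0, 0, 0, 0, 0, 0, 0, 0, 1, 2, 3, 5, 10, 11, 11, 11, 11, 11, 11, 11, 11, 11, 11, 11, 11, 11, 11, 11, 4, 6, 11, 0, 1, 11], [0, 11, 4, 1, 0, 11, 10, 9, 8, 7, 6, 5, 3, 1]), ([11, 11, 11, 11, 1, 8, 11, 11, 11, 7, 6, 4, 3, 2, 0, 0, 0, 0, 0, 0, 0, 1, 4, 5, 8, 10, 11, 11, 11, 11, 11, 11, 11, 11, 11, 11, 11, 11, 11, 11, 11, 6, 11, 1, 0, 11], [11, 0, 0, 0, 11, 9, 8, 5, 3, 1, 0]), ([11, 4, 1, 11, 0, 11, 11, 4, 0, 0, 11, 10, 9, 8, 7], [11, 4, 1, 11, 8, 7, 6, 5, 1]), ([2, 11, 11, 11, 7, 11, 10, 9, 8, 6, 5, 4, 3, 2], [0, 11, 11, 1,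 11, 11, 8, 2, 1, 0]), ([11, 11, 9, 0, 11, 11, 2, 11, 8, 6, 2, 1, 0, 0, 0, 0, 0, 0, 0, 1, 3, 5, 6, 9, 11, 11, 11, 11, 11, 11, 11, 4, 11, 11, 11, 11, 11, 11, 11, 11, 11, 11, 11, 11, 11, 11, 0, 11, 6, 11], [1, 11, 11, 1, 11, 1, 0, 11, 9, 7, 5, 4, 2]), ([11, 7, 11, 2, 11, 4, 0, 11, 10, 6, 5, 2, 1, 0], [11, 11, 11, 1, 11, 11, 11, 10, 9, 8, 6, 4, 2, 0]), ([11, 5, 11, 9, 11, 7, 11, 9, 7, 6, 2, 1], [11, 11, 11, 1, 11, 8, 7, 1]), ([2, 11, 11, 10, 11, 11, 10, 8, 5, 2, 1], [0, 11, 11, 1, 11, 11, 8, 2, 1, 0]), ([11, 11, 1, 0, 11, 3, 11, 11, 9, 7, 1, 0, 2, 4, 6, 7, 8, 9, 11, 11, 11, 11, 11, 11, 11, 10, 11, 11, 11, 11, 11, 11, 11, 11, 11, 11, 11, 11, 11, 11, 10, 2, 11,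 11], [11, 4, 11, 3, 9, 11, 0, 11, 5, 4]), ([2, 11, 11, 3, 0, 11, 7, 11, 10, 9, 6, 5, 4, 3, 2, 0], [11, 1, 11, 11, 11, 11, 11, 10, 9, 8, 6, 4, 2, 0]), ([2, 11, 1, 11, 6, 1, 11, 11, 10, 9, 8, 7], [11, 1, 11, 11, 11, 8, 7, 1]), ([2, 11, 8, 6, 0, 11, 10, 9, 7, 6, 3, 2, 1, 0], [0, 11, 2, 11, 9, 11, 2, 11, 10, 5, 4, 2, 1, 0]), ([2, 11, 8, 6, 0, 11, 7, 4], [0, 11, 2, 11, 5, 11, 2, 0, 11, 9, 8, 7, 5, 2]), ([2, 11, 8, 6, 0, 11, 10, 9, 8, 7, 6, 5, 4, 3, 1], [11, 2, 11, 9, 11, 5, 3, 11, 10, 9, 8, 7, 6, 4, 3, 2]), ([2, 11, 8, 6, 0, 11, 6, 4, 3, 2, 1, 0], [11, 2, 11, 5, 11, 0, 2, 11, 7, 6, 2, 0]), ([2, 11, 0, 11, 7, 6, 11, 0, 11, 10, 9, 7, 6, 4], [0, 11, 8, 7, 11, 8,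 2, 1, 0]), ([11, 8, 11, 5, 11, 7, 2, 11, 7, 6, 5, 4, 2, 1], [1, 11, 8, 3, 1, 0, 11, 5]), ([11, 3, 10, 11, 11, 4, 6, 11, 8, 4, 2, 1, 0], [11, 7, 2, 1, 0, 11, 9, 8, 2, 1, 0]), ([11, 8, 11, 10, 11, 3, 5, 11, 8, 6, 4, 3, 0], [11, 9, 4, 1, 11, 6, 1]), ([11, 3, 8, 11, 10, 8, 0, 11, 6, 2, 1], [11, 5, 11, 11, 6, 3, 11, 10, 8, 6, 4, 3, 1]), ([11, 7, 4, 11, 8, 5, 0, 11, 10, 9, 8, 5, 0, 0, 0, 0, 0, 0, 0, 0, 1, 4, 8, 9, 11, 11, 11, 11, 11, 11, 11, 11, 11, 11, 11, 11, 11, 11, 11, 11, 11, 11, 11, 1, 7, 11, 0, 3, 11], [1, 11, 10, 7, 11, 6, 1, 11, 10, 9, 7, 4, 3, 2, 1, 0, 0, 0, 0, 0, 0, 0, 0, 1, 4, 8, 9, 11, 11, 11, 11, 11, 11, 11, 11, 11, 11, 11, 11, 11, 11, 11, 11, 11,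 11, 11, 1, 7, 11, 0, 3, 11]), ([11, 8, 0, 11, 8, 5, 11, 10, 9, 8, 5, 1, 0, 0, 0, 0, 0, 0, 0, 1, 2, 3, 4, 6, 7, 8, 9, 11, 11, 11, 11, 11, 11, 11, 11, 11, 11, 11, 11, 11, 11, 11, 11, 11, 11, 11, 1, 8, 2, 11, 2, 5, 11], [11, 5, 0, 11, 3, 1, 11, 10, 9, 8, 6, 5, 4, 3, 1, 0, 0, 0, 0, 0, 0, 0, 1, 2, 3, 4, 6, 7, 8, 9, 11, 11, 11, 11, 11, 11, 11, 11, 11, 11, 11, 11, 11, 11, 11, 11, 11, 11, 11, 1, 8, 2, 11, 2, 5, 11]), ([2, 11, 6, 11, 9, 0, 0, 11, 10, 8, 6, 3, 2, 1], [11, 9, 7, 6, 11, 2, 11, 10, 7, 6, 5, 3, 2, 1]), ([11, 4, 11, 3, 11, 0, 11, 8, 4], [11, 9, 6, 11, 1, 9, 0, 11, 8, 6, 5, 4, 2, 0]), ([11, 8, 3, 11, 8, 6, 11, 9, 7, 5, 4, 2, 4, 8, 9, 11, 11, 11, 11, 11,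 11, 11, 11, 11, 11, 11, 11, 11, 11, 11, 11, 11, 11, 11, 0, 0, 0, 0, 0, 0, 0, 10, 11, 11, 11, 11, 11, 11, 11, 11, 11, 11, 11, 11, 11, 11, 11, 11, 11, 11, 11, 10, 7, 2, 11], [11, 5, 2, 11, 0, 0, 11, 10, 5, 3, 1, 0, 4, 8, 9, 11, 11, 11, 11, 11, 11, 11, 11, 11, 11, 11, 11, 11, 11, 11, 11, 11, 11, 11, 0, 0, 0, 0, 0, 0, 0, 10, 11, 11, 11, 11, 11, 11, 11, 11, 11, 11, 11, 11, 11, 11, 11, 11, 11, 11, 11, 10, 7, 2, 11]), ([11, 4, 6, 11, 1, 7, 0, 11, 9, 8, 7, 5, 4, 1, 1, 4, 6, 8, 9, 10, 11, 11, 11, 11, 11, 11, 11, 11, 11, 11, 11, 11, 11, 11, 11, 11, 11, 11, 11, 0, 0, 0, 0, 0, 0, 0, 2, 0, 0, 0, 0, 0, 0, 0, 11, 6, 0, 11], [11, 6, 11, 0, 3, 2, 11, 10, 8, 7, 5, 4, 3, 2,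 1, 1, 4, 6, 8, 9, 10, 11, 11, 11, 11, 11, 11, 11, 11, 11, 11, 11, 11, 11, 11, 11, 11, 11, 11, 11, 0, 0, 0, 0, 0, 0, 0, 2, 0, 0, 0, 0, 0, 0, 0, 11, 6, 0, 11]), ([11, 4, 2, 11, 8, 0, 11, 8, 6, 2, 0], [11, 3, 11, 7, 5, 2, 11, 10, 8, 7, 5, 2, 1]), ([2, 11, 7, 2, 3, 6, 11, 10, 8, 5, 2, 1], [11, 3, 11, 5, 11, 3, 11, 6, 2]), ([2, 11, 7, 2, 3, 6, 11, 10, 9], [11, 10, 11, 4, 11, 2, 11, 6, 2]), ([2, 11, 7, 2, 3, 6, 11, 10, 9], [11, 10, 11, 4, 11, 2, 11, 6, 2]), ([2, 11, 7, 2, 3, 6, 11, 10, 8, 5, 2, 1], [11, 6, 11, 0, 11, 2, 11, 8, 2, 1, 0]), ([11, 2, 11, 4, 11, 4, 0, 11, 9, 8, 6, 2, 1], [0, 11, 9, 11, 8, 2, 1, 0]), ([11, 6, 11, 11, 1, 11, 2, 1], [1, 11, 5, 1, 0, 11]),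 ([11, 10, 11, 11, 1, 11, 6, 5, 1, 0], [11, 9, 11, 0, 11, 11, 9, 8, 6, 1]), ([11, 2, 11, 9, 11, 4, 11, 10, 9, 8, 7, 6, 5, 4, 2], [11, 5, 1, 11, 1]), ([2, 11, 10, 11, 10, 8, 5, 2, 1], [0, 11, 1, 11, 8, 2, 1, 0]), ([11, 11, 2, 11, 10, 11, 10, 8, 5, 2, 1], [1, 11, 1, 11]), ([11, 11, 3, 11, 3, 11, 10], [1, 11, 11, 1]), ([2, 11, 6, 1, 11, 10, 9], [11, 11, 1])]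

/-- overgroups by elements of the two short cells -/
def overPair : List (List Nat × List Nat) :=
  [([11], [12]), ([11], [12, 1, 0, 0, 0, 0, 0, 0, 0, 4, 5, 6, 8, 12, 12, 12, 0, 0, 0, 0, 0, 0, 0, 12, 12]), ([11], [1, 0, 12, 10, 7, 6, 5, 4, 3, 2, 1, 0, 0, 0, 0, 0, 0, 0, 0, 4, 7, 8, 9, 10, 12, 12, 12, 0, 0, 0, 0, 0, 0, 0, 12, 12]), ([11], [12, 12, 1]), ([11, 1, 3, 4, 6, 8, 9, 11, 11, 11, 11, 11, 11, 11, 11, 11, 11, 11, 11, 11, 11, 11, 2, 11, 2, 11], [12]), ([11, 1, 0, 0, 0, 0, 0, 0, 0, 4, 5, 6, 8, 12, 12, 12, 0, 0, 0, 0, 0, 0, 0, 12, 12], [12, 1, 0, 0, 0, 0, 0, 0, 0, 4, 5, 6, 8, 12, 12, 12, 0, 0, 0, 0, 0, 0, 0, 12, 12]), ([11, 1, 0, 0, 0, 0, 0, 0, 0, 4, 7,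 8, 9, 10, 12, 12, 12, 0, 0, 0, 0, 0, 0, 0, 12, 12], [1, 0, 12, 10, 7, 6, 5, 4, 3, 2, 1, 0, 0, 0, 0, 0, 0, 0, 0, 4, 7, 8, 9, 10, 12, 12, 12, 0, 0, 0, 0, 0, 0, 0, 12, 12]), ([11, 1, 3, 4, 6, 8, 9, 11, 11, 11, 11, 11, 11, 11, 11, 11, 11, 11, 11, 11, 11, 11, 2, 11, 2, 11], [12, 12, 1]), ([11, 8, 2, 1, 0, 5, 7, 8, 10, 11, 11, 11, 11, 11, 11, 11, 11, 11, 11, 11, 11, 11, 11, 11, 2, 11, 2, 11], [12]), ([11, 8, 2, 1, 0, 0, 0, 0, 0, 0, 0, 0, 4, 5, 6, 8, 12, 12, 12, 0, 0, 0, 0, 0, 0, 0, 12, 12], [12, 1, 0, 0, 0, 0, 0, 0, 0, 4, 5, 6, 8, 12, 12, 12, 0, 0, 0, 0, 0, 0, 0, 12, 12]), ([11, 8, 2, 1, 0, 0, 0, 0, 0, 0, 0, 0, 4, 7, 8, 9, 10, 12, 12, 12, 0, 0, 0, 0, 0, 0, 0, 12,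 12], [1, 0, 12, 10, 7, 6, 5, 4, 3, 2, 1, 0, 0, 0, 0, 0, 0, 0, 0, 4, 7, 8, 9, 10, 12, 12, 12, 0, 0, 0, 0, 0, 0, 0, 12, 12]), ([11, 8, 2, 1, 0, 5, 7, 8, 10, 11, 11, 11, 11, 11, 11, 11, 11, 11, 11, 11, 11, 11, 11, 11, 2, 11, 2, 11], [12, 12, 1]), ([11, 5, 1, 0], [12]), ([11, 5, 1, 0], [12, 1, 0, 0, 0, 0, 0, 0, 0, 4, 5, 6, 8, 12, 12, 12, 0, 0, 0, 0, 0, 0, 0, 12, 12]), ([11, 5, 1, 0], [1, 0, 12, 10, 7, 6, 5, 4, 3, 2, 1, 0, 0, 0, 0, 0, 0, 0, 0, 4, 7, 8, 9, 10, 12, 12, 12, 0, 0, 0, 0, 0, 0, 0, 12, 12]), ([11, 5, 1, 0], [12, 12, 1])]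

/-- conjugates of the simple reflections by the top of the chain -/
def overConj : List (List Nat) :=
  [[11, 9, 8, 2, 1, 0], [0, 12, 10, 9, 8, 7, 6, 5, 1, 0]]

/-- first generator of an elementary subgroup of order 25 -/
def fiveX : List Nat :=
  [4, 6, 2, 4, 6, 2]

/-- second generator -/
def fiveY : List Nat :=
  [0, 4, 3, 7, 7, 7, 6, 4, 5, 3, 4, 5, 3, 6, 7, 1, 0, 1, 2, 6, 6, 5, 1, 1, 1, 5, 7, 0, 1, 4, 1, 1, 1, 6, 6, 2, 7, 1, 4, 2, 5, 2, 0, 1, 1, 2, 1, 7, 6, 5, 2, 4, 3, 1, 0, 4, 3, 6, 4, 2]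

/-- conjugacy of the cyclic subgroups of order five -/
def fiveConj : List (List Nat × Nat) :=
  [([6, 5, 5, 5, 0, 4, 3, 1, 4, 2, 5, 2, 7, 4, 4, 7, 5, 3, 7, 5, 4, 7, 0, 7, 0, 3, 2, 4, 5, 1, 2, 7, 5, 0, 5, 2, 7, 7, 1, 3, 5, 0, 7, 7, 6, 0, 5, 3, 7, 1, 2, 2, 5, 4, 5, 5, 2, 4, 4, 4, 5, 7, 6, 6, 0, 1, 7, 3, 1, 1, 2, 5, 1, 0, 0, 6, 4, 1, 2, 2, 7, 1, 3, 6, 1, 4, 5, 2, 0, 2, 0, 4, 0, 7, 7, 3, 5, 1, 2, 2, 3, 7, 7, 4, 7, 7, 5, 3, 7, 6, 5, 7, 6, 5, 1, 5, 2, 6, 2, 6, 4, 5, 5, 3, 2, 5, 1, 5, 1, 6, 4, 1, 3, 1, 3, 1, 5, 5, 7, 3, 3, 4, 1, 7, 3, 6, 5, 5, 5, 0, 4, 3, 1, 4, 2, 5, 2, 7, 4, 4, 7, 5, 3, 7, 5, 4, 7, 0, 7, 0, 3, 2, 4, 5, 1, 2, 7, 5, 0, 5, 2, 7, 7, 1, 3, 5, 0, 7,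 7, 6, 0, 5, 3, 7, 1, 2, 2, 5, 4, 5, 5, 2, 4, 4, 4, 5, 7, 6, 6, 0, 1, 7, 3, 1, 1, 2, 5, 1, 0, 0, 6, 4, 1, 2, 2, 7, 1, 3, 6, 1, 4, 5, 2, 0, 2, 0, 4, 0, 7, 7, 3, 5, 1, 2, 2, 3, 7, 7, 4, 7, 7, 5, 3, 7, 6, 5, 7, 6, 5, 1, 5, 2, 6, 2, 6, 4, 5, 5, 3, 2, 5, 1, 5, 1, 6, 4, 1, 3, 1, 3, 1, 5, 5, 7, 3, 3, 4, 1, 7, 3], 3), ([6, 5, 5, 5, 0, 4, 3, 1, 4, 2, 5, 2, 7, 4, 4, 7, 5, 3, 7, 5, 4, 7, 0, 7, 0, 3, 2, 4, 5, 1, 2, 7, 5, 0, 5, 2, 7, 7, 1, 3, 5, 0, 7, 7, 6, 0, 5, 3, 7, 1, 2, 2, 5, 4, 5, 5, 2, 4, 4, 4, 5, 7, 6, 6, 0, 1, 7, 3, 1, 1, 2, 5, 1, 0, 0, 6, 4, 1, 2, 2, 7, 1, 3, 6, 1, 4, 5, 2, 0, 2, 0, 4, 0, 7, 7, 3, 5, 1, 2, 2, 3, 7, 7, 4, 7, 7, 5, 3, 7, 6, 5, 7, 6, 5, 1, 5, 2,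 6, 2, 6, 4, 5, 5, 3, 2, 5, 1, 5, 1, 6, 4, 1, 3, 1, 3, 1, 5, 5, 7, 3, 3, 4, 1, 7, 3, 6, 5, 5, 5, 0, 4, 3, 1, 4, 2, 5, 2, 7, 4, 4, 7, 5, 3, 7, 5, 4, 7, 0, 7, 0, 3, 2, 4, 5, 1, 2, 7, 5, 0, 5, 2, 7, 7, 1, 3, 5, 0, 7, 7, 6, 0, 5, 3, 7, 1, 2, 2, 5, 4, 5, 5, 2, 4, 4, 4, 5, 7, 6, 6, 0, 1, 7, 3, 1, 1, 2, 5, 1, 0, 0, 6, 4, 1, 2, 2, 7, 1, 3, 6, 1, 4, 5, 2, 0, 2, 0, 4, 0, 7, 7, 3, 5, 1, 2, 2, 3, 7, 7, 4, 7, 7, 5, 3, 7, 6, 5, 7, 6, 5, 1, 5, 2, 6, 2, 6, 4, 5, 5, 3, 2, 5, 1, 5, 1, 6, 4, 1, 3, 1, 3, 1, 5, 5, 7, 3, 3, 4, 1, 7, 3], 1), ([6, 5, 5, 5, 0, 4, 3, 1, 4, 2, 5, 2, 7, 4, 4, 7, 5, 3, 7, 5, 4, 7, 0, 7, 0, 3, 2, 4, 5, 1, 2, 7, 5, 0, 5, 2, 7, 7, 1, 3, 5, 0, 7, 7, 6, 0,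 5, 3, 7, 1, 2, 2, 5, 4, 5, 5, 2, 4, 4, 4, 5, 7, 6, 6, 0, 1, 7, 3, 1, 1, 2, 5, 1, 0, 0, 6, 4, 1, 2, 2, 7, 1, 3, 6, 1, 4, 5, 2, 0, 2, 0, 4, 0, 7, 7, 3, 5, 1, 2, 2, 3, 7, 7, 4, 7, 7, 5, 3, 7, 6, 5, 7, 6, 5, 1, 5, 2, 6, 2, 6, 4, 5, 5, 3, 2, 5, 1, 5, 1, 6, 4, 1, 3, 1, 3, 1, 5, 5, 7, 3, 3, 4, 1, 7, 3, 6, 5, 5, 5, 0, 4, 3, 1, 4, 2, 5, 2, 7, 4, 4, 7, 5, 3, 7, 5, 4, 7, 0, 7, 0, 3, 2, 4, 5, 1, 2, 7, 5, 0, 5, 2, 7, 7, 1, 3, 5, 0, 7, 7, 6, 0, 5, 3, 7, 1, 2, 2, 5, 4, 5, 5, 2, 4, 4, 4, 5, 7, 6, 6, 0, 1, 7, 3, 1, 1, 2, 5, 1, 0, 0, 6, 4, 1, 2, 2, 7, 1, 3, 6, 1, 4, 5, 2, 0, 2, 0, 4, 0, 7, 7, 3, 5, 1, 2, 2, 3, 7, 7, 4, 7, 7, 5, 3, 7, 6, 5, 7, 6, 5, 1, 5, 2, 6, 2, 6, 4, 5,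 5, 3, 2, 5, 1, 5, 1, 6, 4, 1, 3, 1, 3, 1, 5, 5, 7, 3, 3, 4, 1, 7, 3], 4), ([6, 5, 5, 5, 0, 4, 3, 1, 4, 2, 5, 2, 7, 4, 4, 7, 5, 3, 7, 5, 4, 7, 0, 7, 0, 3, 2, 4, 5, 1, 2, 7, 5, 0, 5, 2, 7, 7, 1, 3, 5, 0, 7, 7, 6, 0, 5, 3, 7, 1, 2, 2, 5, 4, 5, 5, 2, 4, 4, 4, 5, 7, 6, 6, 0, 1, 7, 3, 1, 1, 2, 5, 1, 0, 0, 6, 4, 1, 2, 2, 7, 1, 3, 6, 1, 4, 5, 2, 0, 2, 0, 4, 0, 7, 7, 3, 5, 1, 2, 2, 3, 7, 7, 4, 7, 7, 5, 3, 7, 6, 5, 7, 6, 5, 1, 5, 2, 6, 2, 6, 4, 5, 5, 3, 2, 5, 1, 5, 1, 6, 4, 1, 3, 1, 3, 1, 5, 5, 7, 3, 3, 4, 1, 7, 3, 6, 5, 5, 5, 0, 4, 3, 1, 4, 2, 5, 2, 7, 4, 4, 7, 5, 3, 7, 5, 4, 7, 0, 7, 0, 3, 2, 4, 5, 1, 2, 7, 5, 0, 5, 2, 7, 7, 1, 3, 5, 0, 7, 7, 6, 0, 5, 3, 7, 1, 2,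 2, 5, 4, 5, 5, 2, 4, 4, 4, 5, 7, 6, 6, 0, 1, 7, 3, 1, 1, 2, 5, 1, 0, 0, 6, 4, 1, 2, 2, 7, 1, 3, 6, 1, 4, 5, 2, 0, 2, 0, 4, 0, 7, 7, 3, 5, 1, 2, 2, 3, 7, 7, 4, 7, 7, 5, 3, 7, 6, 5, 7, 6, 5, 1, 5, 2, 6, 2, 6, 4, 5, 5, 3, 2, 5, 1, 5, 1, 6, 4, 1, 3, 1, 3, 1, 5, 5, 7, 3, 3, 4, 1, 7, 3], 2), ([], 1), ([0, 6, 4, 1, 2, 2, 7, 1, 3, 6, 1, 4, 5, 2, 0, 2, 0, 4, 0, 7, 7, 3, 5, 1, 2, 2, 3, 7, 7, 4, 7, 7, 5, 3, 7, 6, 5, 7, 6, 5, 1, 5, 2, 6, 2, 6, 4, 5, 5, 3, 2, 5, 1, 5, 1, 6, 4, 1, 3, 1, 3, 1, 5, 5, 7, 3, 3, 4, 1, 7, 3, 0, 6, 4, 1, 2, 2, 7, 1, 3, 6, 1, 4, 5, 2, 0, 2, 0, 4, 0, 7, 7, 3, 5, 1, 2, 2, 3, 7, 7, 4, 7, 7, 5, 3, 7, 6, 5, 7, 6, 5, 1, 5, 2, 6, 2, 6, 4, 5, 5, 3, 2,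 5, 1, 5, 1, 6, 4, 1, 3, 1, 3, 1, 5, 5, 7, 3, 3, 4, 1, 7, 3], 2), ([0, 6, 4, 1, 2, 2, 7, 1, 3, 6, 1, 4, 5, 2, 0, 2, 0, 4, 0, 7, 7, 3, 5, 1, 2, 2, 3, 7, 7, 4, 7, 7, 5, 3, 7, 6, 5, 7, 6, 5, 1, 5, 2, 6, 2, 6, 4, 5, 5, 3, 2, 5, 1, 5, 1, 6, 4, 1, 3, 1, 3, 1, 5, 5, 7, 3, 3, 4, 1, 7, 3], 4), ([6, 5, 5, 5, 0, 4, 3, 1, 4, 2, 5, 2, 7, 4, 4, 7, 5, 3, 7, 5, 4, 7, 0, 7, 0, 3, 2, 4, 5, 1, 2, 7, 5, 0, 5, 2, 7, 7, 1, 3, 5, 0, 7, 7, 6, 0, 5, 3, 7, 1, 2, 2, 5, 4, 5, 5, 2, 4, 4, 4, 5, 7, 6, 6, 0, 1, 7, 3, 1, 1, 2, 5, 1, 0, 0, 6, 4, 1, 2, 2, 7, 1, 3, 6, 1, 4, 5, 2, 0, 2, 0, 4, 0, 7, 7, 3, 5, 1, 2, 2, 3, 7, 7, 4, 7, 7, 5, 3, 7, 6, 5, 7, 6, 5, 1, 5, 2, 6, 2, 6, 4, 5, 5, 3, 2, 5,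 1, 5, 1, 6, 4, 1, 3, 1, 3, 1, 5, 5, 7, 3, 3, 4, 1, 7, 3, 6, 5, 5, 5, 0, 4, 3, 1, 4, 2, 5, 2, 7, 4, 4, 7, 5, 3, 7, 5, 4, 7, 0, 7, 0, 3, 2, 4, 5, 1, 2, 7, 5, 0, 5, 2, 7, 7, 1, 3, 5, 0, 7, 7, 6, 0, 5, 3, 7, 1, 2, 2, 5, 4, 5, 5, 2, 4, 4, 4, 5, 7, 6, 6, 0, 1, 7, 3, 1, 1, 2, 5, 1, 0, 6, 5, 5, 5, 0, 4, 3, 1, 4, 2, 5, 2, 7, 4, 4, 7, 5, 3, 7, 5, 4, 7, 0, 7, 0, 3, 2, 4, 5, 1, 2, 7, 5, 0, 5, 2, 7, 7, 1, 3, 5, 0, 7, 7, 6, 0, 5, 3, 7, 1, 2, 2, 5, 4, 5, 5, 2, 4, 4, 4, 5, 7, 6, 6, 0, 1, 7, 3, 1, 1, 2, 5, 1, 0, 0, 6, 4, 1, 2, 2, 7, 1, 3, 6, 1, 4, 5, 2, 0, 2, 0, 4, 0, 7, 7, 3, 5, 1, 2, 2, 3, 7, 7, 4, 7, 7, 5, 3, 7, 6, 5, 7, 6, 5, 1, 5, 2, 6, 2, 6, 4, 5, 5, 3, 2, 5, 1, 5,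 1, 6, 4, 1, 3, 1, 3, 1, 5, 5, 7, 3, 3, 4, 1, 7, 3, 6, 5, 5, 5, 0, 4, 3, 1, 4, 2, 5, 2, 7, 4, 4, 7, 5, 3, 7, 5, 4, 7, 0, 7, 0, 3, 2, 4, 5, 1, 2, 7, 5, 0, 5, 2, 7, 7, 1, 3, 5, 0, 7, 7, 6, 0, 5, 3, 7, 1, 2, 2, 5, 4, 5, 5, 2, 4, 4, 4, 5, 7, 6, 6, 0, 1, 7, 3, 1, 1, 2, 5, 1, 0], 4), ([6, 5, 5, 5, 0, 4, 3, 1, 4, 2, 5, 2, 7, 4, 4, 7, 5, 3, 7, 5, 4, 7, 0, 7, 0, 3, 2, 4, 5, 1, 2, 7, 5, 0, 5, 2, 7, 7, 1, 3, 5, 0, 7, 7, 6, 0, 5, 3, 7, 1, 2, 2, 5, 4, 5, 5, 2, 4, 4, 4, 5, 7, 6, 6, 0, 1, 7, 3, 1, 1, 2, 5, 1, 0, 0, 6, 4, 1, 2, 2, 7, 1, 3, 6, 1, 4, 5, 2, 0, 2, 0, 4, 0, 7, 7, 3, 5, 1, 2, 2, 3, 7, 7, 4, 7, 7, 5, 3, 7, 6, 5, 7, 6, 5, 1, 5, 2, 6, 2, 6, 4, 5, 5, 3, 2, 5, 1, 5,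 1, 6, 4, 1, 3, 1, 3, 1, 5, 5, 7, 3, 3, 4, 1, 7, 3, 6, 5, 5, 5, 0, 4, 3, 1, 4, 2, 5, 2, 7, 4, 4, 7, 5, 3, 7, 5, 4, 7, 0, 7, 0, 3, 2, 4, 5, 1, 2, 7, 5, 0, 5, 2, 7, 7, 1, 3, 5, 0, 7, 7, 6, 0, 5, 3, 7, 1, 2, 2, 5, 4, 5, 5, 2, 4, 4, 4, 5, 7, 6, 6, 0, 1, 7, 3, 1, 1, 2, 5, 1, 0], 1), ([], 2), ([6, 5, 5, 5, 0, 4, 3, 1, 4, 2, 5, 2, 7, 4, 4, 7, 5, 3, 7, 5, 4, 7, 0, 7, 0, 3, 2, 4, 5, 1, 2, 7, 5, 0, 5, 2, 7, 7, 1, 3, 5, 0, 7, 7, 6, 0, 5, 3, 7, 1, 2, 2, 5, 4, 5, 5, 2, 4, 4, 4, 5, 7, 6, 6, 0, 1, 7, 3, 1, 1, 2, 5, 1, 0, 0, 6, 4, 1, 2, 2, 7, 1, 3, 6, 1, 4, 5, 2, 0, 2, 0, 4, 0, 7, 7, 3, 5, 1, 2, 2, 3, 7, 7, 4, 7, 7, 5, 3, 7, 6, 5, 7, 6, 5, 1, 5, 2, 6, 2, 6, 4, 5, 5, 3, 2,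 5, 1, 5, 1, 6, 4, 1, 3, 1, 3, 1, 5, 5, 7, 3, 3, 4, 1, 7, 3, 6, 5, 5, 5, 0, 4, 3, 1, 4, 2, 5, 2, 7, 4, 4, 7, 5, 3, 7, 5, 4, 7, 0, 7, 0, 3, 2, 4, 5, 1, 2, 7, 5, 0, 5, 2, 7, 7, 1, 3, 5, 0, 7, 7, 6, 0, 5, 3, 7, 1, 2, 2, 5, 4, 5, 5, 2, 4, 4, 4, 5, 7, 6, 6, 0, 1, 7, 3, 1, 1, 2, 5, 1, 0, 6, 5, 5, 5, 0, 4, 3, 1, 4, 2, 5, 2, 7, 4, 4, 7, 5, 3, 7, 5, 4, 7, 0, 7, 0, 3, 2, 4, 5, 1, 2, 7, 5, 0, 5, 2, 7, 7, 1, 3, 5, 0, 7, 7, 6, 0, 5, 3, 7, 1, 2, 2, 5, 4, 5, 5, 2, 4, 4, 4, 5, 7, 6, 6, 0, 1, 7, 3, 1, 1, 2, 5, 1, 0, 0, 6, 4, 1, 2, 2, 7, 1, 3, 6, 1, 4, 5, 2, 0, 2, 0, 4, 0, 7, 7, 3, 5, 1, 2, 2, 3, 7, 7, 4, 7, 7, 5, 3, 7, 6, 5, 7, 6, 5, 1, 5, 2, 6, 2, 6, 4, 5, 5, 3, 2, 5, 1,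 5, 1, 6, 4, 1, 3, 1, 3, 1, 5, 5, 7, 3, 3, 4, 1, 7, 3, 6, 5, 5, 5, 0, 4, 3, 1, 4, 2, 5, 2, 7, 4, 4, 7, 5, 3, 7, 5, 4, 7, 0, 7, 0, 3, 2, 4, 5, 1, 2, 7, 5, 0, 5, 2, 7, 7, 1, 3, 5, 0, 7, 7, 6, 0, 5, 3, 7, 1, 2, 2, 5, 4, 5, 5, 2, 4, 4, 4, 5, 7, 6, 6, 0, 1, 7, 3, 1, 1, 2, 5, 1, 0], 3), ([0, 6, 4, 1, 2, 2, 7, 1, 3, 6, 1, 4, 5, 2, 0, 2, 0, 4, 0, 7, 7, 3, 5, 1, 2, 2, 3, 7, 7, 4, 7, 7, 5, 3, 7, 6, 5, 7, 6, 5, 1, 5, 2, 6, 2, 6, 4, 5, 5, 3, 2, 5, 1, 5, 1, 6, 4, 1, 3, 1, 3, 1, 5, 5, 7, 3, 3, 4, 1, 7, 3, 0, 6, 4, 1, 2, 2, 7, 1, 3, 6, 1, 4, 5, 2, 0, 2, 0, 4, 0, 7, 7, 3, 5, 1, 2, 2, 3, 7, 7, 4, 7, 7, 5, 3, 7, 6, 5, 7, 6, 5, 1, 5, 2, 6, 2, 6, 4, 5, 5, 3, 2, 5, 1, 5, 1, 6,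 4, 1, 3, 1, 3, 1, 5, 5, 7, 3, 3, 4, 1, 7, 3], 4), ([6, 5, 5, 5, 0, 4, 3, 1, 4, 2, 5, 2, 7, 4, 4, 7, 5, 3, 7, 5, 4, 7, 0, 7, 0, 3, 2, 4, 5, 1, 2, 7, 5, 0, 5, 2, 7, 7, 1, 3, 5, 0, 7, 7, 6, 0, 5, 3, 7, 1, 2, 2, 5, 4, 5, 5, 2, 4, 4, 4, 5, 7, 6, 6, 0, 1, 7, 3, 1, 1, 2, 5, 1, 0, 0, 6, 4, 1, 2, 2, 7, 1, 3, 6, 1, 4, 5, 2, 0, 2, 0, 4, 0, 7, 7, 3, 5, 1, 2, 2, 3, 7, 7, 4, 7, 7, 5, 3, 7, 6, 5, 7, 6, 5, 1, 5, 2, 6, 2, 6, 4, 5, 5, 3, 2, 5, 1, 5, 1, 6, 4, 1, 3, 1, 3, 1, 5, 5, 7, 3, 3, 4, 1, 7, 3, 6, 5, 5, 5, 0, 4, 3, 1, 4, 2, 5, 2, 7, 4, 4, 7, 5, 3, 7, 5, 4, 7, 0, 7, 0, 3, 2, 4, 5, 1, 2, 7, 5, 0, 5, 2, 7, 7, 1, 3, 5, 0, 7, 7, 6, 0, 5, 3, 7, 1, 2, 2, 5, 4, 5, 5, 2, 4, 4,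 4, 5, 7, 6, 6, 0, 1, 7, 3, 1, 1, 2, 5, 1, 0], 2), ([0, 6, 4, 1, 2, 2, 7, 1, 3, 6, 1, 4, 5, 2, 0, 2, 0, 4, 0, 7, 7, 3, 5, 1, 2, 2, 3, 7, 7, 4, 7, 7, 5, 3, 7, 6, 5, 7, 6, 5, 1, 5, 2, 6, 2, 6, 4, 5, 5, 3, 2, 5, 1, 5, 1, 6, 4, 1, 3, 1, 3, 1, 5, 5, 7, 3, 3, 4, 1, 7, 3], 3), ([], 3), ([0, 6, 4, 1, 2, 2, 7, 1, 3, 6, 1, 4, 5, 2, 0, 2, 0, 4, 0, 7, 7, 3, 5, 1, 2, 2, 3, 7, 7, 4, 7, 7, 5, 3, 7, 6, 5, 7, 6, 5, 1, 5, 2, 6, 2, 6, 4, 5, 5, 3, 2, 5, 1, 5, 1, 6, 4, 1, 3, 1, 3, 1, 5, 5, 7, 3, 3, 4, 1, 7, 3], 2), ([6, 5, 5, 5, 0, 4, 3, 1, 4, 2, 5, 2, 7, 4, 4, 7, 5, 3, 7, 5, 4, 7, 0, 7, 0, 3, 2, 4, 5, 1, 2, 7, 5, 0, 5, 2, 7, 7, 1, 3, 5, 0, 7, 7, 6, 0, 5, 3, 7, 1, 2, 2, 5, 4,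 5, 5, 2, 4, 4, 4, 5, 7, 6, 6, 0, 1, 7, 3, 1, 1, 2, 5, 1, 0, 0, 6, 4, 1, 2, 2, 7, 1, 3, 6, 1, 4, 5, 2, 0, 2, 0, 4, 0, 7, 7, 3, 5, 1, 2, 2, 3, 7, 7, 4, 7, 7, 5, 3, 7, 6, 5, 7, 6, 5, 1, 5, 2, 6, 2, 6, 4, 5, 5, 3, 2, 5, 1, 5, 1, 6, 4, 1, 3, 1, 3, 1, 5, 5, 7, 3, 3, 4, 1, 7, 3, 6, 5, 5, 5, 0, 4, 3, 1, 4, 2, 5, 2, 7, 4, 4, 7, 5, 3, 7, 5, 4, 7, 0, 7, 0, 3, 2, 4, 5, 1, 2, 7, 5, 0, 5, 2, 7, 7, 1, 3, 5, 0, 7, 7, 6, 0, 5, 3, 7, 1, 2, 2, 5, 4, 5, 5, 2, 4, 4, 4, 5, 7, 6, 6, 0, 1, 7, 3, 1, 1, 2, 5, 1, 0], 3), ([0, 6, 4, 1, 2, 2, 7, 1, 3, 6, 1, 4, 5, 2, 0, 2, 0, 4, 0, 7, 7, 3, 5, 1, 2, 2, 3, 7, 7, 4, 7, 7, 5, 3, 7, 6, 5, 7, 6, 5, 1, 5, 2, 6, 2, 6, 4, 5, 5, 3, 2, 5, 1, 5,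 1, 6, 4, 1, 3, 1, 3, 1, 5, 5, 7, 3, 3, 4, 1, 7, 3, 0, 6, 4, 1, 2, 2, 7, 1, 3, 6, 1, 4, 5, 2, 0, 2, 0, 4, 0, 7, 7, 3, 5, 1, 2, 2, 3, 7, 7, 4, 7, 7, 5, 3, 7, 6, 5, 7, 6, 5, 1, 5, 2, 6, 2, 6, 4, 5, 5, 3, 2, 5, 1, 5, 1, 6, 4, 1, 3, 1, 3, 1, 5, 5, 7, 3, 3, 4, 1, 7, 3], 1), ([6, 5, 5, 5, 0, 4, 3, 1, 4, 2, 5, 2, 7, 4, 4, 7, 5, 3, 7, 5, 4, 7, 0, 7, 0, 3, 2, 4, 5, 1, 2, 7, 5, 0, 5, 2, 7, 7, 1, 3, 5, 0, 7, 7, 6, 0, 5, 3, 7, 1, 2, 2, 5, 4, 5, 5, 2, 4, 4, 4, 5, 7, 6, 6, 0, 1, 7, 3, 1, 1, 2, 5, 1, 0, 0, 6, 4, 1, 2, 2, 7, 1, 3, 6, 1, 4, 5, 2, 0, 2, 0, 4, 0, 7, 7, 3, 5, 1, 2, 2, 3, 7, 7, 4, 7, 7, 5, 3, 7, 6, 5, 7, 6, 5, 1, 5, 2, 6, 2, 6, 4, 5, 5, 3, 2, 5, 1, 5, 1, 6, 4,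 1, 3, 1, 3, 1, 5, 5, 7, 3, 3, 4, 1, 7, 3, 6, 5, 5, 5, 0, 4, 3, 1, 4, 2, 5, 2, 7, 4, 4, 7, 5, 3, 7, 5, 4, 7, 0, 7, 0, 3, 2, 4, 5, 1, 2, 7, 5, 0, 5, 2, 7, 7, 1, 3, 5, 0, 7, 7, 6, 0, 5, 3, 7, 1, 2, 2, 5, 4, 5, 5, 2, 4, 4, 4, 5, 7, 6, 6, 0, 1, 7, 3, 1, 1, 2, 5, 1, 0, 6, 5, 5, 5, 0, 4, 3, 1, 4, 2, 5, 2, 7, 4, 4, 7, 5, 3, 7, 5, 4, 7, 0, 7, 0, 3, 2, 4, 5, 1, 2, 7, 5, 0, 5, 2, 7, 7, 1, 3, 5, 0, 7, 7, 6, 0, 5, 3, 7, 1, 2, 2, 5, 4, 5, 5, 2, 4, 4, 4, 5, 7, 6, 6, 0, 1, 7, 3, 1, 1, 2, 5, 1, 0, 0, 6, 4, 1, 2, 2, 7, 1, 3, 6, 1, 4, 5, 2, 0, 2, 0, 4, 0, 7, 7, 3, 5, 1, 2, 2, 3, 7, 7, 4, 7, 7, 5, 3, 7, 6, 5, 7, 6, 5, 1, 5, 2, 6, 2, 6, 4, 5, 5, 3, 2, 5, 1, 5, 1, 6, 4, 1, 3,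 1, 3, 1, 5, 5, 7, 3, 3, 4, 1, 7, 3, 6, 5, 5, 5, 0, 4, 3, 1, 4, 2, 5, 2, 7, 4, 4, 7, 5, 3, 7, 5, 4, 7, 0, 7, 0, 3, 2, 4, 5, 1, 2, 7, 5, 0, 5, 2, 7, 7, 1, 3, 5, 0, 7, 7, 6, 0, 5, 3, 7, 1, 2, 2, 5, 4, 5, 5, 2, 4, 4, 4, 5, 7, 6, 6, 0, 1, 7, 3, 1, 1, 2, 5, 1, 0], 2), ([], 4), ([6, 5, 5, 5, 0, 4, 3, 1, 4, 2, 5, 2, 7, 4, 4, 7, 5, 3, 7, 5, 4, 7, 0, 7, 0, 3, 2, 4, 5, 1, 2, 7, 5, 0, 5, 2, 7, 7, 1, 3, 5, 0, 7, 7, 6, 0, 5, 3, 7, 1, 2, 2, 5, 4, 5, 5, 2, 4, 4, 4, 5, 7, 6, 6, 0, 1, 7, 3, 1, 1, 2, 5, 1, 0, 0, 6, 4, 1, 2, 2, 7, 1, 3, 6, 1, 4, 5, 2, 0, 2, 0, 4, 0, 7, 7, 3, 5, 1, 2, 2, 3, 7, 7, 4, 7, 7, 5, 3, 7, 6, 5, 7, 6, 5, 1, 5, 2, 6, 2, 6, 4, 5, 5, 3, 2, 5, 1, 5, 1, 6,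 4, 1, 3, 1, 3, 1, 5, 5, 7, 3, 3, 4, 1, 7, 3, 6, 5, 5, 5, 0, 4, 3, 1, 4, 2, 5, 2, 7, 4, 4, 7, 5, 3, 7, 5, 4, 7, 0, 7, 0, 3, 2, 4, 5, 1, 2, 7, 5, 0, 5, 2, 7, 7, 1, 3, 5, 0, 7, 7, 6, 0, 5, 3, 7, 1, 2, 2, 5, 4, 5, 5, 2, 4, 4, 4, 5, 7, 6, 6, 0, 1, 7, 3, 1, 1, 2, 5, 1, 0], 4), ([6, 5, 5, 5, 0, 4, 3, 1, 4, 2, 5, 2, 7, 4, 4, 7, 5, 3, 7, 5, 4, 7, 0, 7, 0, 3, 2, 4, 5, 1, 2, 7, 5, 0, 5, 2, 7, 7, 1, 3, 5, 0, 7, 7, 6, 0, 5, 3, 7, 1, 2, 2, 5, 4, 5, 5, 2, 4, 4, 4, 5, 7, 6, 6, 0, 1, 7, 3, 1, 1, 2, 5, 1, 0, 0, 6, 4, 1, 2, 2, 7, 1, 3, 6, 1, 4, 5, 2, 0, 2, 0, 4, 0, 7, 7, 3, 5, 1, 2, 2, 3, 7, 7, 4, 7, 7, 5, 3, 7, 6, 5, 7, 6, 5, 1, 5, 2, 6, 2, 6, 4, 5, 5, 3, 2, 5, 1, 5, 1, 6,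 4, 1, 3, 1, 3, 1, 5, 5, 7, 3, 3, 4, 1, 7, 3, 6, 5, 5, 5, 0, 4, 3, 1, 4, 2, 5, 2, 7, 4, 4, 7, 5, 3, 7, 5, 4, 7, 0, 7, 0, 3, 2, 4, 5, 1, 2, 7, 5, 0, 5, 2, 7, 7, 1, 3, 5, 0, 7, 7, 6, 0, 5, 3, 7, 1, 2, 2, 5, 4, 5, 5, 2, 4, 4, 4, 5, 7, 6, 6, 0, 1, 7, 3, 1, 1, 2, 5, 1, 0, 6, 5, 5, 5, 0, 4, 3, 1, 4, 2, 5, 2, 7, 4, 4, 7, 5, 3, 7, 5, 4, 7, 0, 7, 0, 3, 2, 4, 5, 1, 2, 7, 5, 0, 5, 2, 7, 7, 1, 3, 5, 0, 7, 7, 6, 0, 5, 3, 7, 1, 2, 2, 5, 4, 5, 5, 2, 4, 4, 4, 5, 7, 6, 6, 0, 1, 7, 3, 1, 1, 2, 5, 1, 0, 0, 6, 4, 1, 2, 2, 7, 1, 3, 6, 1, 4, 5, 2, 0, 2, 0, 4, 0, 7, 7, 3, 5, 1, 2, 2, 3, 7, 7, 4, 7, 7, 5, 3, 7, 6, 5, 7, 6, 5, 1, 5, 2, 6, 2, 6, 4, 5, 5, 3, 2, 5, 1, 5, 1, 6, 4, 1,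 3, 1, 3, 1, 5, 5, 7, 3, 3, 4, 1, 7, 3, 6, 5, 5, 5, 0, 4, 3, 1, 4, 2, 5, 2, 7, 4, 4, 7, 5, 3, 7, 5, 4, 7, 0, 7, 0, 3, 2, 4, 5, 1, 2, 7, 5, 0, 5, 2, 7, 7, 1, 3, 5, 0, 7, 7, 6, 0, 5, 3, 7, 1, 2, 2, 5, 4, 5, 5, 2, 4, 4, 4, 5, 7, 6, 6, 0, 1, 7, 3, 1, 1, 2, 5, 1, 0], 1), ([0, 6, 4, 1, 2, 2, 7, 1, 3, 6, 1, 4, 5, 2, 0, 2, 0, 4, 0, 7, 7, 3, 5, 1, 2, 2, 3, 7, 7, 4, 7, 7, 5, 3, 7, 6, 5, 7, 6, 5, 1, 5, 2, 6, 2, 6, 4, 5, 5, 3, 2, 5, 1, 5, 1, 6, 4, 1, 3, 1, 3, 1, 5, 5, 7, 3, 3, 4, 1, 7, 3], 1), ([0, 6, 4, 1, 2, 2, 7, 1, 3, 6, 1, 4, 5, 2, 0, 2, 0, 4, 0, 7, 7, 3, 5, 1, 2, 2, 3, 7, 7, 4, 7, 7, 5, 3, 7, 6, 5, 7, 6, 5, 1, 5, 2, 6, 2, 6, 4, 5, 5, 3, 2, 5, 1, 5, 1, 6, 4, 1, 3,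 1, 3, 1, 5, 5, 7, 3, 3, 4, 1, 7, 3, 0, 6, 4, 1, 2, 2, 7, 1, 3, 6, 1, 4, 5, 2, 0, 2, 0, 4, 0, 7, 7, 3, 5, 1, 2, 2, 3, 7, 7, 4, 7, 7, 5, 3, 7, 6, 5, 7, 6, 5, 1, 5, 2, 6, 2, 6, 4, 5, 5, 3, 2, 5, 1, 5, 1, 6, 4, 1, 3, 1, 3, 1, 5, 5, 7, 3, 3, 4, 1, 7, 3], 3)]

/-- first generator of a subgroup of order 27 -/
def threeA : List Nat :=
  [5, 0, 4, 7]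

/-- second generator -/
def threeB : List Nat :=
  [1, 5, 2, 1, 3, 2, 2, 6, 3, 6, 0, 5, 0, 0, 5, 3, 4, 6, 1, 7, 1, 6, 2, 6, 3, 3, 7, 7, 2, 6, 0, 1, 5, 1, 3, 3, 1, 0, 1, 7, 2, 4, 2, 6, 5, 7, 0, 5, 0, 7, 2, 1, 2, 5, 6, 5, 3, 6, 5, 7, 5, 2, 5, 4, 5, 5, 2, 6, 2, 2, 4, 1, 6]

/-- third generator -/
def threeC : List Nat :=
  [3, 7, 2, 6, 2, 2, 0, 4, 6, 3, 7, 1, 3, 7, 4, 7, 1, 2, 5, 4, 5, 5, 0, 3, 6, 3, 7, 4, 2, 3, 3, 0, 2, 7, 6, 6, 5, 5, 0, 0, 2, 7, 3, 3, 4, 1, 6, 3, 5, 6, 1, 0, 7, 1, 0, 3, 6, 0, 7, 7, 4, 6, 2]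

/-- its multiplication table on generators -/
def threeTab : List (List Nat) :=
  [[9, 3, 1], [10, 13, 2], [11, 23, 0], [12, 6, 4], [13, 16, 5], [14, 26, 3], [15, 0, 7], [16, 10, 8], [17, 20, 6], [18, 12, 10], [19, 22, 11], [20, 5, 9], [21, 15, 13], [22, 25, 14], [23, 8, 12], [24, 9, 16], [25, 19, 17], [26, 2, 15], [0, 21, 19], [1, 4, 20], [2, 14, 18], [3, 24, 22], [4, 7, 23], [5, 17, 21], [6, 18, 25], [7, 1, 26], [8, 11, 24]]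

/-- an element of order 13 -/
def thirteen : List Nat :=
  [2, 4, 6, 0]

/-- bits separating the chain -/
def chainBits : List Nat :=
  [744, 302, 370, 736, 540, 171, 1041, 1576, 261, 783]

/-- bits separating the subgroup of order 27 -/
def threeBits : List Nat :=
  [2049, 7, 230, 325, 2764, 1]

/-- bits separating the subgroup of order 25 -/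
def fiveBits : List Nat :=
  [2061, 2049, 3308, 2224, 2977]

/-- bits separating an element from one -/
def thirteenBits : List Nat :=
  [2048]

end Cfsg.Agent.TitsTwo15
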