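import Cfsg.Agent.Lib.TitsTwoChecks15
import Cfsg.Agent.Lib.TitsTwoDataB15

/-!
Decidable checks for the order of ²F₄(2), its derived group and the overgroups of a Sylow 2-subgroup.
-/

set_option autoImplicit false
set_option maxRecDepth 100000
set_option maxHeartbeats 1000000

namespace Cfsg.Agent.TitsTwo15

/-- values at given bit positions -/
def sigs (bs : List ℕ) (P : ℕ) : List Bool := bs.map P.testBit

/-- the chain elements avoid the products of the lower ones -/
def chainDist : List (List ℕ) → Bool
  | [] => true
  | e :: es => (let s := sigs chainBits (evP e)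
      (allP (es.map evP)).all fun v => sigs chainBits v != s) && chainDist es

/-- coset representatives of `U` for a cell -/
def repsL : List ℕ → List (List ℕ)
  | [] => [[]]
  | t :: l => (repWords.getD t []).flatMap fun x => (repsL l).map fun r => iW x ++ (nW t ++ r)

/-- all coset representatives of `U` -/
def allReps : List (List ℕ) := weylWords.flatMap repsL

theorem chainDist_ok : chainDist chainWords = true := by decide +kernel
theorem chainBits_ok : ∀ q ∈ chainBits, q / 64 < 52 ∧ q % 64 < 52 := by decide +kernel
theorem allReps_length : allReps.length = 8775 := by decide +kernel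
theorem weyl_ok : ∀ l ∈ weylWords, (∀ t ∈ l, t < 2) ∧ eqW (nSeq l ++ nSeq l.reverse) [] = true := by decide +kernel
theorem weyl_shape : weylWords.length = 16 ∧ weylWords.getD 0 [] = [] ∧ weylWords.getD 1 [] = [0] ∧
    weylWords.getD 2 [] = [1] := by decide +kernel
theorem nW_sq : ∀ t < 2, eqW (nW t ++ nW t) [] = true := by decide +kernel

/-- the word of a position in the lower part of the chain, or of one of two extra letters -/
def atomW (d1 d2 : List ℕ) (k : ℕ) : List ℕ :=
  if k < 11 then chainWords.tail.getD k [] else if k = 11 then d1 else d2

/-- a word over these letters -/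
def atomsW (d1 d2 : List ℕ) (w : List ℕ) : List ℕ := w.flatMap (atomW d1 d2)

/-- a representative of a double coset of the lower part of the chain -/
def dW (i j k : ℕ) : List ℕ := List.replicate i 1 ++ wW j ++ List.replicate k 1

/-- check of the overgroup certificates by one long element -/
def singleChk : Bool :=
  (List.range 13).all fun j => (List.range 2).all fun i => (List.range 2).all fun k =>
    let d := dW i (j + 3) k
    let e := overSingle.getD (4 * j + 2 * i + k) ([], [])
    eqW (atomsW d d e.1) (nW 0) && eqW (atomsW d d e.2) (nW 1)

/-- check of the overgroup certificates by two short elements -/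
def pairChk : Bool :=
  (List.range 4).all fun a => (List.range 4).all fun b =>
    let d1 := dW (a / 2) 1 (a % 2)
    let d2 := dW (b / 2) 2 (b % 2)
    let e := overPair.getD (4 * a + b) ([], [])
    eqW (atomsW d1 d2 e.1) (nW 0) && eqW (atomsW d1 d2 e.2) (nW 1)

/-- check that the top of the chain normalises the derived group -/
def conjChk : Bool :=
  (List.range 2).all fun t => eqW ([1] ++ nW t ++ [3]) (atomsW (nW 0) (nW 1) (overConj.getD t []))

theorem singleChk_ok : singleChk = true := by decide +kernel
theorem pairChk_ok : pairChk = true := by decide +kernel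
theorem conjChk_ok : conjChk = true := by decide +kernel
theorem top_word : chainWords.getD 0 [] = [1] ∧ chainWords.length = 12 ∧
    chainWords = [1] :: chainWords.tail := by decide +kernel
theorem top_facts : eqW [1, 3] [] = true ∧ eqW [3, 1] [] = true ∧ eqW [1, 1, 1, 1] [] = true ∧
    eqW [1, 1] [2] = true := by decide +kernel

/-- the positive part of the positions of a letter -/
def lowPart (i : ℕ) (u : List ℕ) : List ℕ := if i % 2 = 1 then u.dropLast else u

/-- check of the letters modulo the derived group -/
def letterChk : Bool :=
  ((List.range 4).all fun i =>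
    let u := lowWords.getD i []
    (lowPart i u).all (fun p => decide (0 < p ∧ p < 12)) &&
      eqW [i] (cw (lowPart i u) ++ List.replicate (i % 2) 1)) &&
  ((List.range 4).all fun i =>
    let e := negWords.getD i ([], [])
    (lowPart i e.2).all (fun p => decide (0 < p ∧ p < 12)) && e.1.all (fun t => decide (t < 2)) &&
      eqW (nSeq e.1 ++ nSeq e.1.reverse) [] &&
      eqW [4 + i] (nSeq e.1 ++ (cw (lowPart i e.2) ++ (List.replicate (i % 2) 1 ++ nSeq e.1.reverse))))

theorem letterChk_ok : letterChk = true := by decide +kernel
theorem low_facts : lowPart 0 (lowWords.getD 0 []) = lowWords.getD 0 [] ∧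
    lowPart 2 (lowWords.getD 2 []) = lowWords.getD 2 [] ∧
    eqW [4] (nSeq (negWords.getD 0 ([], [])).1 ++ ([0] ++ nSeq (negWords.getD 0 ([], [])).1.reverse)) = true ∧
    eqW (nW 1) (([1, 2] ++ (commW [(nW 1, [1])] ++ [2, 3])) ++ [2]) = true := by decide +kernel

/-- the list of elements of the subgroup of order 25 -/
def fiveW (i : ℕ) : List ℕ :=
  (List.replicate (i / 5) fiveX).flatten ++ (List.replicate (i % 5) fiveY).flatten

/-- check of the subgroup of order 25 and the conjugacy of its cyclic subgroups -/
def fiveChk : Bool :=
  eqW (List.replicate 5 fiveX).flatten [] && eqW (List.replicate 5 fiveY).flatten [] &&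
    eqW (fiveX ++ fiveY) (fiveY ++ fiveX) &&
    decide (((List.range 25).map fun i => sigs fiveBits (evP (fiveW i))).Nodup) &&
    (List.range 24).all fun i =>
      let e := fiveConj.getD i ([], 0)
      decide (1 ≤ e.2 ∧ e.2 ≤ 4) && decide ((e.1.filter fun l => l % 2 == 1).length % 4 % 2 = 0) &&
        eqW (e.1 ++ ((List.replicate e.2 fiveX).flatten ++ iW e.1)) (fiveW (i + 1))

theorem fiveChk_ok : fiveChk = true := by decide +kernel
theorem fiveBits_ok : ∀ q ∈ fiveBits, q / 64 < 52 ∧ q % 64 < 52 := by decide +kernel
theorem five_even : (fiveX.filter fun l => l % 2 == 1).length % 2 = 0 ∧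
    (fiveY.filter fun l => l % 2 == 1).length % 2 = 0 := by decide +kernel

/-- the list of elements of the subgroup of order 27 -/
def threeW (i : ℕ) : List ℕ :=
  (List.replicate (i / 9) threeA).flatten ++ (List.replicate (i / 3 % 3) threeB).flatten ++
    (List.replicate (i % 3) threeC).flatten

/-- check of the subgroup of order 27 -/
def threeChk : Bool :=
  decide (((List.range 27).map fun i => sigs threeBits (evP (threeW i))).Nodup) &&
    (List.range 27).all fun i => (List.range 3).all fun g =>
      let j := (threeTab.getD i []).getD g 0
      decide (j < 27) && eqW (threeW i ++ [threeA, threeB, threeC].getD g []) (threeW j)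

theorem threeChk_ok : threeChk = true := by decide +kernel
theorem threeBits_ok : ∀ q ∈ threeBits, q / 64 < 52 ∧ q % 64 < 52 := by decide +kernel

theorem thirteen_ok : eqW (List.replicate 13 thirteen).flatten [] = true ∧
    sigs thirteenBits (evP thirteen) ≠ sigs thirteenBits oneP ∧
    ∀ q ∈ thirteenBits, q / 64 < 52 ∧ q % 64 < 52 := by decide +kernel

/-- the candidates for the degree of a 2-transitive action -/
def degChk : Bool :=
  (List.range 6001).all fun n => decide (n < 3) || decide (35942400 % (n * (n - 1)) ≠ 0) ||
    decide (n ∈ [3, 4, 5, 6, 9, 10, 13, 16, 25, 26, 27, 40, 65])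

theorem degChk_ok : degChk = true := by decide +kernel

end Cfsg.Agent.TitsTwo15
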