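import Cfsg.Agent.Lib.TitsTwoSylow15
import Cfsg.Agent.Lib.TitsTwoChecksB15

/-!
The order of ²F₄(2), its derived group as a generated subgroup, and the subgroups containing the lower part of a
Sylow 2-subgroup.
-/

set_option autoImplicit false
set_option maxRecDepth 100000
set_option maxHeartbeats 1000000

namespace Cfsg.Agent.TitsTwo15

open Cfsg.Lie

theorem inv_left {a b : GF} (h : a * b = 1) : a = b⁻¹ := by
  rw [← one_mul b⁻¹, ← h, mul_inv_cancel_right]

theorem inv_right {a b : GF} (h : a * b = 1) : a⁻¹ = b := (inv_unique h).symm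

theorem conj_cancel {a x p : GF} (h : a * x = p * a) : a * x * a⁻¹ = p := by
  rw [h, mul_inv_cancel_right]

section Generic

variable {G : Type*} [Group G]

theorem step_left {x y : G} (hx : x ^ 5 = 1) (hc : Commute x y) (a b : ℕ) :
    x ^ a * y ^ b * x = x ^ ((a + 1) % 5) * y ^ b := by
  rw [mul_assoc, ← (hc.pow_right b).eq, ← mul_assoc, ← pow_succ, pow_eq_pow_mod _ hx]

theorem step_right {x y : G} (hy : y ^ 5 = 1) (a b : ℕ) :
    x ^ a * y ^ b * y = x ^ a * y ^ ((b + 1) % 5) := by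
  rw [mul_assoc, ← pow_succ, pow_eq_pow_mod _ hy]

theorem comm_expand (a m m' : G) (k l : ℕ) :
    m * a ^ k * (m' * a ^ l) * (m * a ^ k)⁻¹ * (m' * a ^ l)⁻¹ =
      m * (a ^ k * m' * (a ^ k)⁻¹) * (a ^ l * m⁻¹ * (a ^ l)⁻¹) * m'⁻¹ := by
  have hc : a ^ l * (a ^ k)⁻¹ = (a ^ k)⁻¹ * a ^ l :=
    ((Commute.pow_pow (Commute.refl a) l k).inv_right).eq
  calc m * a ^ k * (m' * a ^ l) * (m * a ^ k)⁻¹ * (m' * a ^ l)⁻¹
      = m * a ^ k * m' * (a ^ l * (a ^ k)⁻¹) * m⁻¹ * (a ^ l)⁻¹ * m'⁻¹ := by group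
    _ = _ := by rw [hc]; group

theorem conj_closure_le {M N : Subgroup G} {A : Set G} (a : G) (hN : N = Subgroup.closure A)
    (h : ∀ x ∈ A, a * x * a⁻¹ ∈ M) : N ≤ M.comap (MulAut.conj a).toMonoidHom := by
  rw [hN, Subgroup.closure_le]
  exact h

theorem conj_of_le_comap {M : Subgroup G} {a m : G} (h : M ≤ M.comap (MulAut.conj a).toMonoidHom) (hm : m ∈ M) :
    a * m * a⁻¹ ∈ M := h hm

end Generic

theorem sigs_ne {bs : List ℕ} (hb : ∀ q ∈ bs, q / 64 < 52 ∧ q % 64 < 52) {P Q : ℕ}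
    (h : sigs bs P ≠ sigs bs Q) : toM P ≠ toM Q := fun e =>
  h (List.map_congr_left fun q hq => bit_eq_of_toM e (hb q hq).1 (hb q hq).2)

theorem ev_flatten_replicate (k : ℕ) (w : List ℕ) : ev (List.replicate k w).flatten = ev w ^ k := by
  induction k with
  | zero => rw [List.replicate_zero, List.flatten_nil, ev_nil, pow_zero]
  | succ k ih => rw [List.replicate_succ, List.flatten_cons, ev_append, ih, pow_succ']

theorem ev_replicate (k i : ℕ) : ev (List.replicate k i) = gl i ^ k := by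
  induction k with
  | zero => rw [List.replicate_zero, ev_nil, pow_zero]
  | succ k ih => rw [List.replicate_succ, ev_cons, ih, pow_succ']

/-! ### The order of `U` -/

theorem S_mul_right : ∀ {l es : List (List ℕ)}, (∀ y ∈ S es, ∀ e ∈ es, y * ev e ∈ S es) → (∀ e ∈ l, e ∈ es) →
    ∀ a ∈ S l, ∀ y ∈ S es, y * a ∈ S es := by
  intro l
  induction l with
  | nil => intro es _ _ a ha y hy; rw [Set.mem_singleton_iff.mp ha, mul_one]; exact hy
  | cons f l il =>
    intro es h hl a ha y hy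
    have hl' := fun g hg => hl g (List.mem_cons_of_mem _ hg)
    rcases ha with ha | ⟨b, hb, rfl⟩
    · exact il h hl' a ha y hy
    · rw [← mul_assoc]; exact h _ (il h hl' b hb y hy) f (hl f List.mem_cons_self)

theorem S_inv_mem {es : List (List ℕ)} {cs : List (List (List ℕ) × List ℕ)} (h : chainChk es cs = true)
    {z : GF} (hz : z ∈ S es) : z⁻¹ ∈ S es := by
  obtain ⟨hc, hp⟩ := chain_closed es cs h
  have hpow : ∀ k : ℕ, z ^ k ∈ S es := by
    intro k
    induction k with
    | zero => rw [pow_zero]; exact one_mem_S _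
    | succ k ih => rw [pow_succ]; exact S_mul_right hc (fun _ h => h) z hz _ ih
  have h1 : z ^ (2 ^ es.length - 1) * z = 1 := by
    rw [← pow_succ, Nat.sub_add_cancel Nat.one_le_two_pow, hp z hz]
  rw [← inv_left (a := z ^ (2 ^ es.length - 1)) (b := z) h1]
  exact hpow _

theorem S_card : ∀ (es : List (List ℕ)) (cs : List (List (List ℕ) × List ℕ)), chainChk es cs = true →
    chainDist es = true → (S es).ncard = 2 ^ es.length
  | [], _, _, _ => by simp [S]
  | _ :: _, [], h, _ => by simp [chainChk] at h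
  | e :: es, c :: cs, h, hd => by
    have hrec : chainChk es cs = true := by
      simp only [chainChk, Bool.and_eq_true] at h
      exact h.2
    simp only [chainDist, Bool.and_eq_true, List.all_eq_true, bne_iff_ne] at hd
    have he : ev e ∉ S es := by
      intro hm
      obtain ⟨P, hP, hPe⟩ := S_allP es _ hm
      rw [Φ_ev] at hPe
      exact sigs_ne chainBits_ok (hd.1 P hP) hPe.symm
    have hU : S (e :: es) = S es ∪ (fun y => y * ev e) '' S es := by
      ext y
      constructor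
      · rintro (hy | ⟨z, hz, rfl⟩)
        · exact Or.inl hy
        · exact Or.inr ⟨z, hz, rfl⟩
      · rintro (hy | ⟨z, hz, rfl⟩)
        · exact Or.inl hy
        · exact Or.inr ⟨z, hz, rfl⟩
    have hd2 : Disjoint (S es) ((fun y => y * ev e) '' S es) := by
      rw [Set.disjoint_left]
      rintro _ hy ⟨z, hz, rfl⟩
      refine he ?_
      have := S_mul_right (chain_closed es cs hrec).1 (fun _ h => h) _ hy _ (S_inv_mem hrec hz)
      rwa [inv_mul_cancel_left] at this
    rw [hU, Set.ncard_union_eq hd2 (Set.toFinite _) (Set.toFinite _),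
      Set.ncard_image_of_injective _ (mul_left_injective _), S_card es cs hrec hd.2, List.length_cons, pow_succ]
    ring

theorem chainWord_mem {e : List ℕ} (he : e ∈ chainWords) : ev e ∈ U := by
  obtain ⟨p, hp, rfl⟩ := List.getElem_of_mem he
  exact Subgroup.subset_closure ⟨p, by rw [List.getD_eq_getElem _ _ hp]⟩

theorem S_sub_U : ∀ (es : List (List ℕ)), (∀ e ∈ es, e ∈ chainWords) → ∀ y ∈ S es, y ∈ U := by
  intro es
  induction es with
  | nil => intro _ y hy; rw [Set.mem_singleton_iff.mp hy]; exact one_mem _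
  | cons e es ih =>
    intro h y hy
    have h' := fun f hf => h f (List.mem_cons_of_mem _ hf)
    rcases hy with hy | ⟨z, hz, rfl⟩
    · exact ih h' y hy
    · exact mul_mem (ih h' z hz) (chainWord_mem (h e List.mem_cons_self))

theorem U_eq_S : (U : Set GF) = S chainWords :=
  Set.Subset.antisymm (fun _ h => U_sub h) (fun y h => S_sub_U _ (fun _ h => h) y h)

theorem card_U : Nat.card ↥U = 4096 := by
  rw [← SetLike.coe_sort_coe, Nat.card_coe_set_eq (U : Set GF), U_eq_S, S_card _ _ chain_ok chainDist_ok, top_word.2.1]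
  norm_num

/-! ### The order of the group -/

theorem nW_inv {t : ℕ} (ht : t < 2) : (ev (nW t))⁻¹ = ev (nW t) := by
  have h := eqW_sound (nW_sq t ht)
  rw [ev_append, ev_nil] at h
  exact inv_right h

theorem mul_n_mem {t : ℕ} (ht : t < 2) {u : GF} (hu : u ∈ U) :
    ∃ x ∈ repWords.getD t [], ∃ q ∈ U, u * ev (nW t) = ev (iW x ++ nW t) * q := by
  obtain ⟨w, x, hx, e⟩ := coset_step ht (inv_mem hu)
  obtain ⟨q, hq, hqe⟩ := ker_step ht w
  refine ⟨rep t x, by rw [rep, List.getD_eq_getElem _ _ hx]; exact List.getElem_mem hx, q⁻¹, inv_mem hq, ?_⟩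
  have hu' : u = (ev (rep t x))⁻¹ * (ev (ksW t w))⁻¹ := by rw [← mul_inv_rev, ← e, inv_inv]
  have hk : (ev (ksW t w))⁻¹ * ev (nW t) = ev (nW t) * q⁻¹ := by
    have h1 := congrArg Inv.inv hqe
    rw [mul_inv_rev, mul_inv_rev, nW_inv ht] at h1
    exact h1
  rw [hu', ev_append, ev_iW, mul_assoc, hk, mul_assoc]

theorem cell_reps : ∀ (l : List ℕ), (∀ t ∈ l, t < 2) → ∀ u ∈ U, ∀ v ∈ U,
    ∃ r ∈ repsL l, ∃ q ∈ U, u * ev (nSeq l) * v = ev r * q := by
  intro l
  induction l with
  | nil =>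
    intro _ u hu v hv
    exact ⟨[], List.mem_singleton_self _, u * v, mul_mem hu hv, by
      rw [nSeq, List.flatMap_nil, ev_nil, mul_one, one_mul]⟩
  | cons t l ih =>
    intro hl u hu v hv
    obtain ⟨x, hx, q, hq, e⟩ := mul_n_mem (hl t List.mem_cons_self) hu
    obtain ⟨r, hr, q', hq', e'⟩ := ih (fun s hs => hl s (List.mem_cons_of_mem _ hs)) q hq v hv
    refine ⟨iW x ++ (nW t ++ r), List.mem_flatMap.mpr ⟨x, hx, List.mem_map.mpr ⟨r, hr, rfl⟩⟩, q', hq', ?_⟩
    have en : nSeq (t :: l) = nW t ++ nSeq l := List.flatMap_cons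
    rw [en, ev_append, ← mul_assoc, e, ← List.append_assoc, ev_append _ r, mul_assoc _ (ev r) q', ← e']
    simp only [mul_assoc]

theorem mem_reps {g : GF} (hg : g ∈ twistedF4 (ZMod 2) 1) : ∃ r ∈ allReps, ∃ q ∈ U, g = ev r * q := by
  obtain ⟨u, hu, j, hj, v, hv, rfl⟩ := mem_Cells hg
  have hj' : weylWords.getD j [] ∈ weylWords := by
    rw [List.getD_eq_getElem _ _ (by rw [weyl_shape.1]; exact hj)]
    exact List.getElem_mem _
  obtain ⟨r, hr, q, hq, e⟩ := cell_reps _ (weyl_ok _ hj').1 u hu v hv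
  exact ⟨r, List.mem_flatMap.mpr ⟨_, hj', hr⟩, q, hq, e⟩

theorem ncard_le_reps (L : List (List ℕ)) {s : Set GF} (h : ∀ g ∈ s, ∃ r ∈ L, ∃ q ∈ U, g = ev r * q) :
    s.ncard ≤ L.length * 4096 := by
  have hs : s ⊆ Set.range (fun p : Fin L.length × ↥U => ev (L.get p.1) * (p.2 : GF)) := by
    intro g hg
    obtain ⟨r, hr, q, hq, rfl⟩ := h g hg
    obtain ⟨i, hi, rfl⟩ := List.getElem_of_mem hr
    exact ⟨(⟨i, hi⟩, ⟨q, hq⟩), rfl⟩
  calc s.ncard ≤ (Set.range (fun p : Fin L.length × ↥U => ev (L.get p.1) * (p.2 : GF))).ncard :=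
        Set.ncard_le_ncard hs (Set.toFinite _)
    _ ≤ Nat.card (Fin L.length × ↥U) := by
        rw [← Nat.card_coe_set_eq]; exact Finite.card_range_le _
    _ = L.length * 4096 := by rw [Nat.card_prod, Nat.card_fin, card_U]

theorem card_le : Nat.card ↥(twistedF4 (ZMod 2) 1) ≤ 35942400 := by
  have h := ncard_le_reps allReps (s := (twistedF4 (ZMod 2) 1 : Set GF)) fun g hg => mem_reps hg
  rw [allReps_length, ← Nat.card_coe_set_eq] at h
  exact h

theorem orderOf_thirteen : orderOf (ev thirteen) = 13 := by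
  haveI : Fact (Nat.Prime 13) := ⟨by norm_num⟩
  refine orderOf_eq_prime ?_ ?_
  · have h := eqW_sound thirteen_ok.1
    rwa [ev_flatten_replicate, ev_nil] at h
  · intro e
    refine sigs_ne thirteen_ok.2.2 thirteen_ok.2.1 ?_
    rw [← Φ_ev, e, map_one, toM_one]

theorem ev_inj_sigs {bs : List ℕ} (hb : ∀ q ∈ bs, q / 64 < 52 ∧ q % 64 < 52) {n : ℕ} (f : ℕ → List ℕ)
    (h : ((List.range n).map fun i => sigs bs (evP (f i))).Nodup) :
    Function.Injective fun i : Fin n => ev (f i) := by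
  intro i j e
  by_contra hne
  refine sigs_ne hb (P := evP (f i)) (Q := evP (f j)) ?_ (by rw [← Φ_ev, ← Φ_ev]; exact congrArg Φ e)
  intro e'
  have hl : ∀ k : Fin n, (k : ℕ) < ((List.range n).map fun i => sigs bs (evP (f i))).length := by
    intro k; rw [List.length_map, List.length_range]; exact k.isLt
  refine hne (Fin.ext ((h.getElem_inj_iff (hi := hl i) (hj := hl j)).mp ?_))
  simp only [List.getElem_map, List.getElem_range]
  exact e'

/-- the subgroup of order 25 -/
def P25 : Subgroup GF := Subgroup.closure {ev fiveX, ev fiveY}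

theorem five_rel : ev fiveX ^ 5 = 1 ∧ ev fiveY ^ 5 = 1 ∧ Commute (ev fiveX) (ev fiveY) := by
  have h := fiveChk_ok
  simp only [fiveChk, Bool.and_eq_true] at h
  have h1 := eqW_sound h.1.1.1.1
  have h2 := eqW_sound h.1.1.1.2
  have h3 := eqW_sound h.1.1.2
  rw [ev_flatten_replicate, ev_nil] at h1 h2
  rw [ev_append, ev_append] at h3
  exact ⟨h1, h2, h3⟩

theorem fiveW_inj : Function.Injective fun i : Fin 25 => ev (fiveW i) := by
  have h := fiveChk_ok
  simp only [fiveChk, Bool.and_eq_true, decide_eq_true_eq] at h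
  exact ev_inj_sigs fiveBits_ok fiveW h.1.2

theorem fiveW_eq (i : ℕ) : ev (fiveW i) = ev fiveX ^ (i / 5) * ev fiveY ^ (i % 5) := by
  rw [fiveW, ev_append, ev_flatten_replicate, ev_flatten_replicate]

theorem mem_P25 {g : GF} (hg : g ∈ P25) : ∃ i : Fin 25, g = ev (fiveW i) := by
  obtain ⟨hx, hy, hc⟩ := five_rel
  refine closure_sub_right (T := {g | ∃ i : Fin 25, g = ev (fiveW i)}) ?_ ?_ hg
  · exact ⟨0, by rw [fiveW_eq]; simp⟩
  · rintro _ ⟨i, rfl⟩ a (rfl | rfl)
    · refine ⟨⟨(i.val / 5 + 1) % 5 * 5 + i.val % 5, by omega⟩, ?_⟩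
      rw [fiveW_eq, fiveW_eq, step_left hx hc]
      congr 2 <;> simp only <;> omega
    · refine ⟨⟨i.val / 5 * 5 + (i.val % 5 + 1) % 5, by omega⟩, ?_⟩
      rw [fiveW_eq, fiveW_eq, step_right hy]
      congr 2 <;> simp only <;> omega

theorem fiveW_mem (i : ℕ) : ev (fiveW i) ∈ P25 := by
  rw [fiveW_eq]
  have h1 : ev fiveX ∈ P25 := Subgroup.subset_closure (Or.inl rfl)
  have h2 : ev fiveY ∈ P25 := Subgroup.subset_closure (Or.inr rfl)
  exact mul_mem (pow_mem h1 _) (pow_mem h2 _)

theorem card_P25 : Nat.card ↥P25 = 25 := by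
  have h : (P25 : Set GF) = Set.range fun i : Fin 25 => ev (fiveW i) :=
    Set.ext fun g => ⟨fun hg => (mem_P25 hg).imp fun _ h => h.symm, fun ⟨i, hi⟩ => hi ▸ fiveW_mem i⟩
  rw [← SetLike.coe_sort_coe, Nat.card_coe_set_eq (P25 : Set GF), h, ← Nat.card_coe_set_eq,
    Nat.card_range_of_injective fiveW_inj, Nat.card_fin]

theorem card_dvd_twenty_seven : 27 ∣ Nat.card ↥(twistedF4 (ZMod 2) 1) := by
  let S3 : Subgroup GF := Subgroup.closure (Set.range fun g : Fin 3 => ev ([threeA, threeB, threeC].getD g []))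
  have h := threeChk_ok
  simp only [threeChk, Bool.and_eq_true, decide_eq_true_eq, List.all_eq_true, List.mem_range] at h
  have hle : S3 ≤ twistedF4 (ZMod 2) 1 := by
    rw [Subgroup.closure_le]
    rintro _ ⟨g, rfl⟩
    exact ev_mem _
  have hset : (S3 : Set GF) = Set.range fun i : Fin 27 => ev (threeW i) := by
    refine Set.Subset.antisymm (fun g hg => ?_) ?_
    · refine closure_sub_right (T := Set.range fun i : Fin 27 => ev (threeW i)) ⟨0, ?_⟩ ?_ hg
      · simp [threeW, ev_nil]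
      · rintro _ ⟨i, rfl⟩ _ ⟨g, rfl⟩
        obtain ⟨hj, he⟩ := h.2 i i.isLt g g.isLt
        exact ⟨⟨_, hj⟩, by rw [← ev_append]; exact (eqW_sound he).symm⟩
    · rintro _ ⟨i, rfl⟩
      show ev (threeW i) ∈ S3
      have hm : ∀ g : Fin 3, ev ([threeA, threeB, threeC].getD g []) ∈ S3 :=
        fun g => Subgroup.subset_closure ⟨g, rfl⟩
      rw [threeW, ev_append, ev_append, ev_flatten_replicate, ev_flatten_replicate, ev_flatten_replicate]
      exact mul_mem (mul_mem (pow_mem (hm 0) _) (pow_mem (hm 1) _)) (pow_mem (hm 2) _)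
  have hc : Nat.card ↥S3 = 27 := by
    rw [← SetLike.coe_sort_coe, Nat.card_coe_set_eq (S3 : Set GF), hset, ← Nat.card_coe_set_eq,
      Nat.card_range_of_injective (ev_inj_sigs threeBits_ok threeW h.1), Nat.card_fin]
  exact hc ▸ Subgroup.card_dvd_of_le hle

theorem card_twistedF4_two : Nat.card ↥(twistedF4 (ZMod 2) 1) = 35942400 := by
  refine le_antisymm card_le (Nat.le_of_dvd Nat.card_pos ?_)
  have h1 : 4096 ∣ Nat.card ↥(twistedF4 (ZMod 2) 1) := card_U ▸ Subgroup.card_dvd_of_le U_le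
  have h2 : 25 ∣ Nat.card ↥(twistedF4 (ZMod 2) 1) := by
    refine card_P25 ▸ Subgroup.card_dvd_of_le ?_
    rw [P25, Subgroup.closure_le]
    rintro _ (rfl | rfl) <;> exact ev_mem _
  have h3 := card_dvd_twenty_seven
  have h4 : 13 ∣ Nat.card ↥(twistedF4 (ZMod 2) 1) := by
    rw [← orderOf_thirteen]
    exact Subgroup.orderOf_dvd_natCard _ (ev_mem _)
  omega

/-! ### The derived group -/

/-- the lower part of the chain as a subgroup -/
def U0 : Subgroup GF := Subgroup.closure {x | ∃ e ∈ chainWords.tail, x = ev e}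

/-- the derived group, by generators -/
def M : Subgroup GF := U0 ⊔ Subgroup.closure {ev (nW 0), ev (nW 1)}

theorem U0_le_U : U0 ≤ U := by
  rw [U0, Subgroup.closure_le]
  rintro _ ⟨e, he, rfl⟩
  exact chainWord_mem (List.mem_of_mem_tail he)

theorem U0_le_M : U0 ≤ M := le_sup_left

theorem S_tail_U0 : ∀ (es : List (List ℕ)), (∀ e ∈ es, e ∈ chainWords.tail) → ∀ y ∈ S es, y ∈ U0 := by
  intro es
  induction es with
  | nil => intro _ y hy; rw [Set.mem_singleton_iff.mp hy]; exact one_mem _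
  | cons e es ih =>
    intro h y hy
    have h' := fun f hf => h f (List.mem_cons_of_mem _ hf)
    rcases hy with hy | ⟨z, hz, rfl⟩
    · exact ih h' y hy
    · exact mul_mem (ih h' z hz) (Subgroup.subset_closure ⟨e, h e List.mem_cons_self, rfl⟩)

theorem U_split {x : GF} (hx : x ∈ U) : ∃ z ∈ U0, ∃ i < 2, x = z * gl 1 ^ i := by
  have h := U_sub hx
  rw [top_word.2.2] at h
  rcases h with h | ⟨z, hz, rfl⟩
  · exact ⟨x, S_tail_U0 _ (fun _ h => h) x h, 0, by norm_num, by rw [pow_zero, mul_one]⟩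
  · exact ⟨z, S_tail_U0 _ (fun _ h => h) z hz, 1, by norm_num, by rw [ev_single, pow_one]⟩

theorem gl_one_mem_U : gl 1 ∈ U := by
  rw [← ev_single, ← top_word.1]
  exact Subgroup.subset_closure ⟨0, rfl⟩

theorem tail_getD {p : ℕ} : chainWords.tail.getD p [] = chainWords.getD (p + 1) [] := by
  have h := top_word.2.2
  conv_rhs => rw [h]
  rw [List.getD_cons_succ]

theorem tail_getD_mem (p : ℕ) : ev (chainWords.tail.getD p []) ∈ U0 := by
  rcases getD_mem_or chainWords.tail p with h | h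
  · exact Subgroup.subset_closure ⟨_, h, rfl⟩
  · rw [h, ev_nil]; exact one_mem _

theorem cw_pos_mem : ∀ (u : List ℕ), (∀ p ∈ u, 0 < p) → ev (cw u) ∈ U0 := by
  intro u
  induction u with
  | nil => intro _; rw [show cw [] = [] from rfl, ev_nil]; exact one_mem _
  | cons p u ih =>
    intro h
    rw [cw, pw, List.flatMap_cons, ev_append]
    refine mul_mem ?_ (ih fun q hq => h q (List.mem_cons_of_mem _ hq))
    have hp := h p List.mem_cons_self
    obtain ⟨q, rfl⟩ : ∃ q, p = q + 1 := ⟨p - 1, by omega⟩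
    rw [← tail_getD]
    exact tail_getD_mem q

theorem gl_three : gl 3 = (gl 1)⁻¹ := by
  have h := eqW_sound top_facts.1
  rw [ev_cons, ev_single, ev_nil] at h
  exact inv_unique h

theorem atomsW_mem {K : Subgroup GF} (hK : U0 ≤ K) {d1 d2 : List ℕ} (h1 : ev d1 ∈ K) (h2 : ev d2 ∈ K) :
    ∀ w : List ℕ, ev (atomsW d1 d2 w) ∈ K := by
  intro w
  induction w with
  | nil => rw [show atomsW d1 d2 [] = [] from rfl, ev_nil]; exact one_mem _
  | cons k w ih =>
    rw [atomsW, List.flatMap_cons, ev_append]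
    refine mul_mem ?_ ih
    unfold atomW
    split_ifs
    · exact hK (tail_getD_mem k)
    · exact h1
    · exact h2

theorem n_mem_M {t : ℕ} (ht : t < 2) : ev (nW t) ∈ M := by
  refine (le_sup_right : _ ≤ M) (Subgroup.subset_closure ?_)
  interval_cases t
  · exact Or.inl rfl
  · exact Or.inr rfl

theorem conj_one_mem {m : GF} (hm : m ∈ M) : gl 1 * m * (gl 1)⁻¹ ∈ M := by
  have h : M ≤ M.comap (MulAut.conj (gl 1)).toMonoidHom := by
    refine sup_le ?_ ?_
    · refine conj_closure_le (gl 1) U0.eq_1 ?_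
      rintro _ ⟨e, he, rfl⟩
      obtain ⟨j, hj, rfl⟩ := List.getElem_of_mem he
      obtain ⟨c, cs, hcs⟩ : ∃ c cs, chainCert = c :: cs :=
        List.exists_cons_of_ne_nil (by decide +kernel)
      have hc := chain_ok
      rw [top_word.2.2, hcs] at hc
      simp only [chainChk, Bool.and_eq_true, List.all_eq_true, List.mem_range] at hc
      have h1 := eqW_sound (hc.1.1 j hj)
      rw [ev_append, ev_append, ev_single, List.getD_eq_getElem _ _ hj] at h1
      rw [conj_cancel h1]
      refine U0_le_M ?_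
      have hps : ∀ ps : List ℕ, ev (pw chainWords.tail ps) ∈ U0 := by
        intro ps
        induction ps with
        | nil => rw [show pw chainWords.tail [] = [] from rfl, ev_nil]; exact one_mem _
        | cons p ps ih => rw [pw, List.flatMap_cons, ev_append]; exact mul_mem (tail_getD_mem p) ih
      exact hps _
    · refine conj_closure_le (gl 1) rfl ?_
      intro x hx
      obtain ⟨t, ht, rfl⟩ : ∃ t < 2, x = ev (nW t) := by
        rcases hx with rfl | rfl
        · exact ⟨0, by norm_num, rfl⟩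
        · exact ⟨1, by norm_num, rfl⟩
      have hc := conjChk_ok
      simp only [conjChk, List.all_eq_true, List.mem_range] at hc
      have h1 := eqW_sound (hc t ht)
      rw [ev_append, ev_append, ev_single, ev_single, gl_three] at h1
      rw [h1]
      exact atomsW_mem U0_le_M (n_mem_M (by norm_num)) (n_mem_M (by norm_num)) _
  exact conj_of_le_comap h hm

theorem conj_pow_mem (k : ℕ) {m : GF} (hm : m ∈ M) : gl 1 ^ k * m * (gl 1 ^ k)⁻¹ ∈ M := by
  induction k with
  | zero => simpa using hm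
  | succ k ih =>
    have := conj_one_mem ih
    rw [pow_succ']
    simpa [mul_assoc] using this

/-- the coset of `M` by exponent -/
def Deg (k : ℕ) (g : GF) : Prop := ∃ m ∈ M, g = m * gl 1 ^ k

theorem Deg_mul {a b : GF} {k l : ℕ} (ha : Deg k a) (hb : Deg l b) : Deg (k + l) (a * b) := by
  obtain ⟨m, hm, rfl⟩ := ha
  obtain ⟨m', hm', rfl⟩ := hb
  refine ⟨m * (gl 1 ^ k * m' * (gl 1 ^ k)⁻¹), mul_mem hm (conj_pow_mem k hm'), ?_⟩
  rw [pow_add]
  simp [mul_assoc]

theorem Deg_nSeq : ∀ l : List ℕ, (∀ t ∈ l, t < 2) → ev (nSeq l) ∈ M := by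
  intro l
  induction l with
  | nil => intro _; rw [show nSeq [] = [] from rfl, ev_nil]; exact one_mem _
  | cons t l ih =>
    intro h
    rw [nSeq, List.flatMap_cons, ev_append]
    exact mul_mem (n_mem_M (h t List.mem_cons_self)) (ih fun s hs => h s (List.mem_cons_of_mem _ hs))

theorem Deg_zero {m : GF} (hm : m ∈ M) : Deg 0 m := ⟨m, hm, by rw [pow_zero, mul_one]⟩

theorem Deg_letter (i : ℕ) (hi : i < 8) : Deg (i % 2) (gl i) := by
  have hc := letterChk_ok
  simp only [letterChk, Bool.and_eq_true, List.all_eq_true, List.mem_range, decide_eq_true_eq] at hc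
  rcases Nat.lt_or_ge i 4 with h | h
  · obtain ⟨h1, h2⟩ := hc.1 i h
    have h3 := eqW_sound h2
    rw [ev_single, ev_append, ev_replicate] at h3
    exact ⟨_, U0_le_M (cw_pos_mem _ fun p hp => (h1 p hp).1), h3⟩
  · obtain ⟨j, rfl⟩ : ∃ j, i = 4 + j := ⟨i - 4, by omega⟩
    obtain ⟨⟨⟨h1, h2⟩, -⟩, h4⟩ := hc.2 j (by omega)
    have h3 := eqW_sound h4
    rw [ev_single, ev_append, ev_append, ev_append, ev_replicate] at h3
    rw [h3, show (4 + j) % 2 = 0 + (0 + (j % 2 + 0)) by omega]
    exact Deg_mul (Deg_zero (Deg_nSeq _ h2)) (Deg_mul (Deg_zero (U0_le_M (cw_pos_mem _ fun p hp => (h1 p hp).1)))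
      (Deg_mul ⟨1, one_mem _, by rw [one_mul]⟩ (Deg_zero (Deg_nSeq _ fun t ht => h2 t (List.mem_reverse.mp ht)))))

/-- the number of odd letters -/
def oddCount (w : List ℕ) : ℕ := (w.filter fun l => l % 2 == 1).length

theorem Deg_ev : ∀ w : List ℕ, (∀ l ∈ w, l < 8) → Deg (oddCount w) (ev w) := by
  intro w
  induction w with
  | nil => intro _; exact ⟨1, one_mem _, by simp [oddCount, ev_nil]⟩
  | cons i w ih =>
    intro h
    have h1 := Deg_mul (Deg_letter i (h i List.mem_cons_self)) (ih fun l hl => h l (List.mem_cons_of_mem _ hl))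
    rw [ev_cons]
    convert h1 using 1
    simp only [oddCount, List.filter_cons]
    rcases Nat.mod_two_eq_zero_or_one i with e | e <;> simp [e, Nat.add_comm]

theorem gl_one_pow_four : gl 1 ^ 4 = 1 := by
  have h := eqW_sound top_facts.2.2.1
  rw [show [1, 1, 1, 1] = List.replicate 4 1 from rfl, ev_replicate, ev_nil] at h
  exact h

theorem gl_one_sq_mem : gl 1 ^ 2 ∈ M := by
  have h := eqW_sound top_facts.2.2.2
  rw [show [1, 1] = List.replicate 2 1 from rfl, ev_replicate, ev_single] at h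
  rw [h]
  obtain ⟨m, hm, e⟩ := Deg_letter 2 (by norm_num)
  rw [e, pow_zero, mul_one]
  exact hm

theorem exists_Deg {g : GF} (hg : g ∈ twistedF4 (ZMod 2) 1) : ∃ k < 2, Deg k g := by
  have h : g ∈ {g : GF | ∃ k, Deg k g} := by
    refine closure_sub_left (T := {g : GF | ∃ k, Deg k g}) ⟨0, Deg_zero (one_mem _)⟩ ?_ hg
    rintro y ⟨k, hk⟩ a ha
    rcases wordMat_gen ha with rfl | ⟨i, hi, rfl⟩
    · exact ⟨k, by rwa [one_mul]⟩
    · exact ⟨_, Deg_mul (Deg_letter i hi) hk⟩
  obtain ⟨k, m, hm, rfl⟩ := h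
  refine ⟨k % 2, Nat.mod_lt _ (by norm_num), m * (gl 1 ^ 2) ^ (k / 2), mul_mem hm (pow_mem gl_one_sq_mem _), ?_⟩
  rw [mul_assoc, ← pow_mul, ← pow_add, Nat.div_add_mod]

theorem M_le : M ≤ twistedF4 (ZMod 2) 1 := by
  refine sup_le ?_ ?_
  · exact U0_le_U.trans U_le
  · rw [Subgroup.closure_le]
    rintro _ (rfl | rfl) <;> exact ev_mem _

theorem conj_comm_mem {h d : GF} (hh : h ∈ twistedF4 (ZMod 2) 1)
    (hd : d ∈ ⁅twistedF4 (ZMod 2) 1, twistedF4 (ZMod 2) 1⁆) :
    h * d * h⁻¹ ∈ ⁅twistedF4 (ZMod 2) 1, twistedF4 (ZMod 2) 1⁆ := by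
  have h1 := mul_mem (Subgroup.commutator_mem_commutator hh (Subgroup.commutator_le_self _ hd)) hd
  rwa [commutatorElement_def, mul_assoc _ d⁻¹ d, inv_mul_cancel, mul_one] at h1

theorem U0_le_comm : U0 ≤ ⁅twistedF4 (ZMod 2) 1, twistedF4 (ZMod 2) 1⁆ := by
  rw [U0, Subgroup.closure_le]
  rintro _ ⟨e, he, rfl⟩
  refine S_tail_comm ?_
  have : ∀ (es : List (List ℕ)), e ∈ es → ev e ∈ S es := by
    intro es
    induction es with
    | nil => intro h; exact absurd h List.not_mem_nil
    | cons f es ih =>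
      intro h
      rcases List.mem_cons.mp h with rfl | h
      · exact Or.inr ⟨1, one_mem_S _, by rw [one_mul]⟩
      · exact Or.inl (ih h)
  exact this _ he

theorem M_eq_comm : M = ⁅twistedF4 (ZMod 2) 1, twistedF4 (ZMod 2) 1⁆ := by
  refine le_antisymm ?_ ?_
  · have hc := letterChk_ok
    simp only [letterChk, Bool.and_eq_true, List.all_eq_true, List.mem_range, decide_eq_true_eq] at hc
    have hlow : ∀ i < 4, i % 2 = 0 → gl i ∈ ⁅twistedF4 (ZMod 2) 1, twistedF4 (ZMod 2) 1⁆ := by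
      intro i hi he
      obtain ⟨h1, h2⟩ := hc.1 i hi
      have h3 := eqW_sound h2
      rw [ev_single, ev_append, ev_replicate, he, pow_zero, mul_one] at h3
      rw [h3]
      exact U0_le_comm (cw_pos_mem _ fun p hp => (h1 p hp).1)
    refine sup_le U0_le_comm ?_
    rw [Subgroup.closure_le]
    have h0 := hlow 0 (by norm_num) rfl
    rintro x (rfl | rfl)
    · show ev (nW 0) ∈ _
      rw [show nW 0 = [0, 4, 0] from rfl, ev_cons, ev_cons, ev_single]
      have h4 := eqW_sound low_facts.2.2.1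
      rw [ev_single, ev_append, ev_append, ev_single] at h4
      have hinv := eqW_sound (hc.2 0 (by norm_num)).1.2
      rw [ev_append, ev_nil] at hinv
      rw [h4, ← inv_right hinv, ← mul_assoc (ev (nSeq _))]
      exact mul_mem h0 (mul_mem (conj_comm_mem (ev_mem _) h0) h0)
    · show ev (nW 1) ∈ _
      rw [eqW_sound low_facts.2.2.2, ev_append, ev_append, ev_append, ev_single]
      refine mul_mem ?_ (hlow 2 (by norm_num) rfl)
      have hi : ev [2, 3] = (ev [1, 2])⁻¹ := by
        rw [← ev_iW]; rfl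
      rw [hi, ← mul_assoc]
      exact conj_comm_mem (ev_mem _) (commW_mem _)
  · rw [Subgroup.commutator_le]
    intro a ha b hb
    obtain ⟨k, -, m, hm, rfl⟩ := exists_Deg ha
    obtain ⟨l, -, m', hm', rfl⟩ := exists_Deg hb
    rw [commutatorElement_def]
    rw [comm_expand]
    exact mul_mem (mul_mem (mul_mem hm (conj_pow_mem k hm')) (conj_pow_mem l (inv_mem hm))) (inv_mem hm')

theorem card_M_ge : 17971200 ≤ Nat.card ↥M := by
  have hs : (twistedF4 (ZMod 2) 1 : Set GF) ⊆
      Set.range fun p : Fin 2 × ↥M => (p.2 : GF) * gl 1 ^ (p.1 : ℕ) := by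
    intro g hg
    obtain ⟨k, hk, m, hm, rfl⟩ := exists_Deg hg
    exact ⟨(⟨k, hk⟩, ⟨m, hm⟩), rfl⟩
  have h := (Set.ncard_le_ncard hs (Set.toFinite _)).trans
    (le_of_eq_of_le (Nat.card_coe_set_eq _).symm (Finite.card_range_le _))
  rw [← Nat.card_coe_set_eq, Nat.card_prod, Nat.card_fin] at h
  have h' : Nat.card ↥(twistedF4 (ZMod 2) 1) ≤ 2 * Nat.card ↥M := h
  rw [card_twistedF4_two] at h'
  omega

/-! ### Overgroups of the lower part of the chain -/

theorem overgroup {K : Subgroup GF} (hU : U0 ≤ K) (hK : K ≤ M) : K = M ∨ Nat.card ↥K ≤ 20480 := by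
  by_cases hbig : ∃ d1 d2 : List ℕ, ev d1 ∈ K ∧ ev d2 ∈ K ∧
      ∃ e : List ℕ × List ℕ, eqW (atomsW d1 d2 e.1) (nW 0) = true ∧ eqW (atomsW d1 d2 e.2) (nW 1) = true
  · obtain ⟨d1, d2, h1, h2, e, e1, e2⟩ := hbig
    refine Or.inl (le_antisymm hK (sup_le hU ?_))
    rw [Subgroup.closure_le]
    rintro _ (rfl | rfl)
    · show ev (nW 0) ∈ K; rw [← eqW_sound e1]; exact atomsW_mem hU h1 h2 _
    · show ev (nW 1) ∈ K; rw [← eqW_sound e2]; exact atomsW_mem hU h1 h2 _
  · refine Or.inr ?_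
    have hd : ∀ g ∈ K, ∃ i < 2, ∃ j < 16, ∃ k < 2, ev (dW i j k) ∈ K ∧
        ∃ u ∈ U, ∃ v ∈ U, g = u * ev (wW j) * v := by
      intro g hg
      obtain ⟨u, hu, j, hj, v, hv, rfl⟩ := mem_Cells (M_le (hK hg))
      obtain ⟨z, hz, i, hi, hze⟩ := U_split hu
      obtain ⟨y, hy, k, hk, hye⟩ := U_split (inv_mem hv)
      have hv' : ∃ k' < 2, ∃ y' ∈ U0, v = gl 1 ^ k' * y' := by
        have hv2 : v = (gl 1 ^ k)⁻¹ * y⁻¹ := by rw [← mul_inv_rev, ← hye, inv_inv]
        interval_cases k
        · exact ⟨0, by norm_num, y⁻¹, inv_mem hy, by simpa using hv2⟩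
        · have h2 : gl 1 ^ 2 ∈ U0 := by
            have h := eqW_sound top_facts.2.2.2
            rw [show [1, 1] = List.replicate 2 1 from rfl, ev_replicate, ev_single] at h
            have hc := letterChk_ok
            simp only [letterChk, Bool.and_eq_true, List.all_eq_true, List.mem_range, decide_eq_true_eq] at hc
            obtain ⟨h1, h3⟩ := hc.1 2 (by norm_num)
            have h4 := eqW_sound h3
            rw [ev_single, ev_append, ev_replicate] at h4
            rw [h, h4, show 2 % 2 = 0 from rfl, pow_zero, mul_one]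
            exact cw_pos_mem _ fun p hp => (h1 p hp).1
          have h4 := gl_one_pow_four
          refine ⟨1, by norm_num, gl 1 ^ 2 * y⁻¹, mul_mem h2 (inv_mem hy), ?_⟩
          rw [hv2, ← mul_assoc, ← pow_add, inv_right (b := gl 1 ^ (1 + 2))]
          rw [← pow_add]
          exact h4
      obtain ⟨k', hk', y', hy', hve⟩ := hv'
      refine ⟨i, hi, j, hj, k', hk', ?_, u, hu, v, hv, rfl⟩
      have e : ev (dW i j k') = z⁻¹ * (u * ev (wW j) * v) * y'⁻¹ := by
        rw [dW, ev_append, ev_append, ev_replicate, ev_replicate, hze, hve]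
        group
      rw [e]
      exact mul_mem (mul_mem (inv_mem (hU hz)) hg) (inv_mem (hU hy'))
    have hno : ∀ i < 2, ∀ j < 16, ∀ k < 2, ev (dW i j k) ∈ K → j < 3 := by
      intro i hi j hj k hk hm
      by_contra hj3
      refine hbig ⟨_, _, hm, hm, ?_⟩
      have hc := singleChk_ok
      simp only [singleChk, Bool.and_eq_true, List.all_eq_true, List.mem_range] at hc
      obtain ⟨j', rfl⟩ : ∃ j', j = j' + 3 := ⟨j - 3, by omega⟩
      exact ⟨_, hc j' (by omega) i hi k hk⟩
    have key : ∀ t : ℕ, t < 2 → (∀ i < 2, ∀ k < 2, ev (dW i (2 - t) k) ∈ K → False) → Nat.card ↥K ≤ 20480 := by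
      intro t ht hex
      have hsub : ∀ g ∈ (K : Set GF), ∃ r ∈ repsL [] ++ repsL [t], ∃ q ∈ U, g = ev r * q := by
        intro g hg
        obtain ⟨i, hi, j, hj, k, hk, hm, u, hu, v, hv, rfl⟩ := hd g hg
        have h3 := hno i hi j hj k hk hm
        have hjt : j = 0 ∨ j = t + 1 := by
          by_contra hh
          have e : j = 2 - t := by omega
          exact hex i hi k hk (e ▸ hm)
        rcases hjt with rfl | rfl
        · obtain ⟨r, hr, q, hq, e⟩ := cell_reps [] (by simp) u hu v hv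
          refine ⟨r, List.mem_append_left _ hr, q, hq, ?_⟩
          rw [← e, wW, weyl_shape.2.1]
        · obtain ⟨r, hr, q, hq, e⟩ := cell_reps [t] (by simpa using ht) u hu v hv
          refine ⟨r, List.mem_append_right _ hr, q, hq, ?_⟩
          rw [← e, wW]
          interval_cases t
          · rw [weyl_shape.2.2.1]
          · rw [weyl_shape.2.2.2]
      have h := ncard_le_reps _ hsub
      rw [← Nat.card_coe_set_eq] at h
      refine h.trans ?_
      have hl : ∀ t < 2, (repsL [] ++ repsL [t]).length ≤ 5 := by decide +kernel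
      calc (repsL [] ++ repsL [t]).length * 4096 ≤ 5 * 4096 := Nat.mul_le_mul_right _ (hl t ht)
        _ = 20480 := by norm_num
    by_cases h1 : ∃ i < 2, ∃ k < 2, ev (dW i 1 k) ∈ K
    · obtain ⟨i, hi, k, hk, hm1⟩ := h1
      refine key 0 (by norm_num) fun i' hi' k' hk' hm2 => hbig ⟨_, _, hm1, hm2, ?_⟩
      have hc := pairChk_ok
      simp only [pairChk, Bool.and_eq_true, List.all_eq_true, List.mem_range] at hc
      have h := hc (2 * i + k) (by omega) (2 * i' + k') (by omega)
      rw [show (2 * i + k) / 2 = i by omega, show (2 * i + k) % 2 = k by omega,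
        show (2 * i' + k') / 2 = i' by omega, show (2 * i' + k') % 2 = k' by omega] at h
      exact ⟨_, h⟩
    · exact key 1 (by norm_num) fun i hi k hk hm => h1 ⟨i, hi, k, hk, hm⟩

end Cfsg.Agent.TitsTwo15
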