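import Cfsg.Agent.Lib.RuR3Tab76
import Cfsg.Agent.Lib.RuR3Data76
import Cfsg.Agent.Lib.RuR3Vecs76
import Cfsg.Agent.Lib.RuPermTits66
import Cfsg.Agent.Lib.TitsTwoOrder15

/-!
Checks used to recognise the rank three action on 4060 points: tables, orbit trees, the vectors of the
orbit of length 1755, and a resolving set of the graph of valency 1755.
-/

set_option autoImplicit false
set_option maxRecDepth 10000

namespace Cfsg.Agent.RuRankThree76

open RuPermCert66 RuPermData66

/-- Sources for words in the point stabiliser. -/
def stT : List PT := tabs [p12, p14, p46, p48, p50, p52]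

/-- The letters generating the matrix group, as permutations. -/
def qP : List (PT × PT) := [q0, q1, q2, q3, q4, q5, q6, q7]

/-- Sources for words in the whole group. -/
def ggT : List PT :=
  tabs [p8, p10, p12, p14, p16, p18, p20, p22, p24, p26, p28, p46, p48, p50, p52]

/-- All tables defined by words in the point stabiliser. -/
def defList : List ((PT × PT) × List ℕ) :=
  [(q0, q0W), (q1, q1W), (q2, q2W), (q3, q3W), (q4, q4W), (q5, q5W), (q6, q6W), (q7, q7W), (tx, txW),
    (tf, tfW), (tg, tgW), (ty, tyW), (ta0, ta0W), (ta1, ta1W), (ta2, ta2W), (tb0, tb0W), (tb1, tb1W),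
    (th0, th0W), (th1, th1W), (th2, th2W), (th3, th3W), (th4, th4W), (th5, th5W), (th6, th6W),
    (ts0_0, ts0_0W), (ts0_1, ts0_1W), (ts2_0, ts2_0W), (ts2_1, ts2_1W), (ts3_0, ts3_0W), (ts3_1, ts3_1W)]

/-- A table is a permutation with the stated word. -/
noncomputable def defEntryOK (e : (PT × PT) × List ℕ) : Bool := invOK NN e.1 && defOK NN stT e.2 e.1.1

/-- The adjacency with the point moved to the first point by a word. -/
noncomputable def adjW (w : List ℕ) (y : ℕ) : Bool := Nat.ble 2305 (ev ggT w y)

/-- The word moves the point to the first point. -/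
noncomputable def wordOK (b : ℕ) (w : List ℕ) : Bool :=
  w.all (fun l => Nat.blt l ggT.length) && Nat.beq (ev ggT w b) 0

/-- A row of the graph. -/
noncomputable def rowOK (r : ℕ × List ℕ × ℕ) : Bool :=
  Nat.blt r.1 NN && wordOK r.1 r.2.1 && allBelow (fun y => bitOf r.2.2 y == adjW r.2.1 y) NN

/-- The adjacencies of a point to some rows, as a number. -/
noncomputable def codeOf : List (ℕ × List ℕ × ℕ) → ℕ → ℕ
  | [], _ => 0
  | r :: rs, x => Nat.add (cond (Nat.beq x r.1) 2 (cond (bitOf r.2.2 x) 1 0)) (Nat.mul 3 (codeOf rs x))

/-- The points with a given code. -/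
noncomputable def clsOf (R : List (ℕ × List ℕ × ℕ)) (c : ℕ) : List ℕ :=
  (List.range NN).filter fun x => Nat.beq (codeOf R x) c

/-- The number of points of a list adjacent to a point. -/
noncomputable def cnt (D : List ℕ) (w : List ℕ) : ℕ := D.countP (adjW w)

/-- One step: the candidates for the image of the next point of the resolving set. -/
noncomputable def stepOK (l c d v k : ℕ) (C : List (ℕ × List ℕ)) (D : List ℕ) : Bool :=
  (clsOf (rows.take l) c == C.map Prod.fst) &&
    (D.isEmpty || ((clsOf (rows.take l) d == D) && C.all (fun e => wordOK e.1 e.2))) &&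
    Nat.beq ((C.filter fun e => Nat.beq (cnt D e.2) v).length) k &&
    ((C.filter fun e => Nat.beq (cnt D e.2) v).any fun e => Nat.beq e.1 (rows.getD l (0, [], 0)).1)

/-- Strictly increasing values along a list. -/
noncomputable def incOK (f : ℕ → ℕ) : List ℕ → Bool
  | [] => true
  | a :: as => (match as with | [] => true | b :: _ => Nat.blt (f a) (f b)) && incOK f as

/-- The vector with a given number. -/
noncomputable def vecAt (k : ℕ) : ℕ := chunk vecT k

/-- A letter moves the vectors as its table moves the points. -/
noncomputable def vecStepOK (i : ℕ) : Bool :=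
  allBelow (fun k => force (get (qP.getD i q0).1 (Nat.add k 2305)) fun t => Nat.ble 2305 t &&
    Nat.beq (TitsTwo15.mulP (TitsTwo15.gP i) (vecAt k)) (vecAt (Nat.sub t 2305))) 1755

/-- The tables of the conjugation by an element, on all points. -/
noncomputable def conjOK (g : PT) (k : ℕ) : Bool :=
  allBelow (fun y => force (get tx.1 y) fun a =>
    Nat.beq (get g a) (ev [tx.1] (List.replicate k 0) (get g y))) NN

/-- The points moved by a power. -/
noncomputable def powFixOK (t : PT) (n lo : ℕ) (L : List ℕ) : Bool :=
  (List.range NN).filter (fun y => Nat.ble lo y && Nat.beq (ev [t] (List.replicate n 0) y) y) == L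

end Cfsg.Agent.RuRankThree76
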