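import Cfsg.Agent.Lib.RuR3SubB76

/-!
A subgroup of order 15600 of the stabiliser of a line is the stabiliser of a further line: the last
element is one of seven, three of which give stabilisers and four of which would act transitively on the
suborbit of length 1755.
-/

set_option autoImplicit false
set_option maxRecDepth 100000

namespace Cfsg.Agent.RuRankThree76

open RuPermCert66 RuPermData66
open RuPermGroup66 (St o0 o1)
open scoped Pointwise

theorem mem_fixSub_one {pre : List ℕ} {σ : St} (h : ∀ x : Fin NN, (x : ℕ) ∈ pre → σ • x = x) :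
    (σ : Equiv.Perm (Fin NN)) ∈ fixSub St pre := ⟨σ.2, h⟩

theorem card_fix_le {L : List Level} (h : chainOK NN [] L = true)
    (hT : ∀ l ∈ L, ∀ t ∈ l.2.1, ∃ σ ∈ St, Rep σ t) :
    chainSize L * Nat.card (fixSub St (L.map Prod.fst).reverse) ≤ 35942400 := by
  have h1 := chain_spec L [] h hT
  rw [fixSub_nil, List.append_nil, card_St] at h1
  exact h1

theorem tb_rep {qs : List (PT × PT)} (h : ∀ q ∈ qs, ∃ w, (q, w) ∈ defList) :
    ∀ t ∈ tabs qs, ∃ σ ∈ St, Rep σ t := el_tabs fun q hq => ⟨h q hq, (el q).2⟩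

theorem ta_def : ∀ q ∈ [ta0, ta1, ta2], ∃ w, (q, w) ∈ defList := by
  intro q hq
  simp only [List.mem_cons, List.not_mem_nil, or_false] at hq
  rcases hq with rfl | rfl | rfl
  · exact ⟨ta0W, by simp [defList]⟩
  · exact ⟨ta1W, by simp [defList]⟩
  · exact ⟨ta2W, by simp [defList]⟩

theorem tb_def : ∀ q ∈ [tb0, tb1], ∃ w, (q, w) ∈ defList := by
  intro q hq
  simp only [List.mem_cons, List.not_mem_nil, or_false] at hq
  rcases hq with rfl | rfl
  · exact ⟨tb0W, by simp [defList]⟩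
  · exact ⟨tb1W, by simp [defList]⟩

theorem fixed_iff {x : Fin NN} (hx : x ≠ o0) : ff • x = x ↔ (x : ℕ) ∈ fixF ++ fixN := by
  rw [← powFix_spec tf_mem f_fix x, pow_one]
  exact ⟨fun h => ⟨Nat.one_le_iff_ne_zero.mpr fun e => hx (Fin.ext e), h⟩, fun h => h.2⟩

/-- The three base fixed points. -/
def b3 : List ℕ := [3466, 1, 220]

theorem ff_fix_b3 : ∀ x : Fin NN, (x : ℕ) ∈ b3 → ff • x = x := by
  intro x hx
  have h : b3.all (fun p => (fixF ++ fixN).contains p && !Nat.beq p 0) = true := by decide +kernel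
  have h1 := List.all_eq_true.mp h _ hx
  simp only [Bool.and_eq_true, List.contains_iff_mem, Bool.not_eq_true', Bool.eq_false_iff, ne_eq, Nat.beq_eq] at h1
  exact (fixed_iff fun e => h1.2 (congrArg Fin.val e)).mpr h1.1

theorem zpowers_ff_fix {σ : St} (hσ : σ ∈ Subgroup.zpowers ff) {x : Fin NN} (hx : ff • x = x) : σ • x = x := by
  obtain ⟨j, rfl⟩ := hσ
  exact (MulAction.stabilizer St x).zpow_mem hx j

theorem mem_W {σ : St} (h : ∀ x : Fin NN, (x : ℕ) ∈ b3 → σ • x = x) : σ ∈ Subgroup.zpowers ff := by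
  have hc := chainF_ok
  simp only [chainF, chainOK, Bool.and_eq_true] at hc
  obtain ⟨⟨h1, h2, h3, -⟩, -⟩ := hc
  let L : List Level := [(3466, stT, eA), (1, tabs [ta0, ta1, ta2], eB), (220, tabs [tb0, tb1], eC)]
  have hL : chainOK NN [] L = true := by
    simp only [L, chainOK, Bool.and_eq_true, Bool.and_true]
    exact ⟨h1, h2, h3⟩
  have hle := card_fix_le hL (by
    simp only [L, List.forall_mem_cons, List.not_mem_nil, IsEmpty.forall_iff, implies_true, and_true]
    exact ⟨stT_rep, tb_rep ta_def, tb_rep tb_def⟩)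
  have hsize : chainSize L = 8985600 := by decide +kernel
  rw [hsize] at hle
  set F := (fixSub St (L.map Prod.fst).reverse).subgroupOf St
  have hmem : ∀ τ : St, (∀ x : Fin NN, (x : ℕ) ∈ b3 → τ • x = x) → τ ∈ F := fun τ hτ =>
    mem_fixSub_one fun x hx => hτ x (by simp [L, b3] at hx ⊢; omega)
  have hz : Subgroup.zpowers ff ≤ F := Subgroup.zpowers_le.mpr (hmem ff ff_fix_b3)
  have hFc : Nat.card F ≤ 4 := by
    have hle' : fixSub St (L.map Prod.fst).reverse ≤ St := fun τ hτ => by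
      obtain ⟨h', -⟩ := hτ; exact h'
    rw [Nat.card_congr (Subgroup.subgroupOfEquivOfLe hle').toEquiv]
    omega
  rw [Subgroup.eq_of_le_of_card_ge hz (by rwa [Nat.card_zpowers, order_ff])]
  exact hmem σ h

theorem orbit_220 {σ : St} (h1 : σ • pt 3466 = pt 3466) (h2 : σ • pt 1 = pt 1) :
    ((σ • pt 220 : Fin NN) : ℕ) ∈ 220 :: pts eC := by
  have hc := chainF_ok
  simp only [chainF, chainOK, Bool.and_eq_true] at hc
  obtain ⟨⟨h1', h2', h3', -⟩, -⟩ := hc
  let L : List Level := [(3466, stT, eA), (1, tabs [ta0, ta1, ta2], eB)]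
  have hL : chainOK NN [] L = true := by
    simp only [L, chainOK, Bool.and_eq_true, Bool.and_true]
    exact ⟨h1', h2'⟩
  have hle := card_fix_le hL (by
    simp only [L, List.forall_mem_cons, List.not_mem_nil, IsEmpty.forall_iff, implies_true, and_true]
    exact ⟨stT_rep, tb_rep ta_def⟩)
  have hsize : chainSize L = 2246400 := by decide +kernel
  rw [hsize] at hle
  set Pp := fixSub St (L.map Prod.fst).reverse
  obtain ⟨⟨-, hpre⟩, htree⟩ := h3'
  obtain ⟨S, hS, hSm, hSr⟩ := orbit_spec (H := Pp)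
    (fix_tab (tb_rep tb_def) (by simpa [L] using hpre)) ⟨220, by norm_num⟩ htree
  have hst : 4 ≤ Nat.card (MulAction.stabilizer Pp (⟨220, by norm_num⟩ : Fin NN)) := by
    rw [← order_ff, ← Nat.card_zpowers]
    refine Nat.card_le_card_of_injective
      (fun τ : Subgroup.zpowers ff => (⟨⟨τ.1.1, τ.1.2, fun x hx =>
        zpowers_ff_fix τ.2 (ff_fix_b3 x (by simp [L] at hx; rcases hx with e | e <;> simp [b3, e]))⟩,
        zpowers_ff_fix τ.2 (ff_fix_b3 ⟨220, by norm_num⟩ (by simp [b3]))⟩ :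
          MulAction.stabilizer Pp (⟨220, by norm_num⟩ : Fin NN))) fun a b e => ?_
    exact Subtype.ext (Subtype.ext
      (congrArg (fun z : MulAction.stabilizer Pp (⟨220, by norm_num⟩ : Fin NN) => ((z : Pp) : Equiv.Perm (Fin NN))) e))
  have hidx := Subgroup.index_mul_card (MulAction.stabilizer Pp (⟨220, by norm_num⟩ : Fin NN))
  rw [MulAction.index_stabilizer] at hidx
  have hlen : eC.length = 3 := by decide +kernel
  have hO : (MulAction.orbit Pp (⟨220, by norm_num⟩ : Fin NN)).ncard ≤ 4 := by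
    have := Nat.mul_le_mul_left (MulAction.orbit Pp (⟨220, by norm_num⟩ : Fin NN)).ncard hst
    omega
  have hsub : (S : Set (Fin NN)) ⊆ MulAction.orbit Pp (⟨220, by norm_num⟩ : Fin NN) := fun p hp => by
    obtain ⟨τ, hτ, e⟩ := hSr p hp
    exact ⟨⟨τ, hτ⟩, e⟩
  have heq := Set.eq_of_subset_of_ncard_le hsub (by rw [Set.ncard_coe_finset, hS, hlen]; exact hO) (Set.toFinite _)
  have hσ : (σ : Equiv.Perm (Fin NN)) ∈ Pp := mem_fixSub_one fun x hx => by
    simp [L] at hx
    rcases hx with e | e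
    · rw [show x = pt 1 from Fin.ext e]; exact h2
    · rw [show x = pt 3466 from Fin.ext e]; exact h1
  have hin : (σ • pt 220 : Fin NN) ∈ (S : Set (Fin NN)) := by
    rw [heq]; exact ⟨⟨_, hσ⟩, rfl⟩
  rw [Finset.mem_coe, hSm] at hin
  rcases hin with e | e
  · rw [e]; exact List.mem_cons_self
  · exact List.mem_cons_of_mem _ e

/-- An element with a word in the tables of the stabiliser. -/
theorem exists_el {w : List ℕ} (hw : w.all (fun l => Nat.blt l stT.length) = true) :
    ∃ r : St, ∀ x : Fin NN, ((r • x : Fin NN) : ℕ) = ev stT w x := by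
  simp only [List.all_eq_true, Nat.blt_eq] at hw
  obtain ⟨σ, hσ, h⟩ := exists_word stT_rep w hw
  exact ⟨⟨σ, hσ⟩, h⟩

theorem ev_append (w v : List ℕ) (x : ℕ) : ev stT (w ++ v) x = ev stT v (ev stT w x) := by
  induction w generalizing x with
  | nil => rfl
  | cons l w ih => simp only [List.cons_append, ev, force_eq, ih]

/-- An element preserving the fixed points of the element of order four. -/
def Keeps (σ : St) : Prop := ∀ x : Fin NN, x ≠ o0 → (ff • x = x ↔ ff • (σ • x) = σ • x)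

theorem keeps_of {σ : St} (h : ∀ x : Fin NN, x ≠ o0 → ff • x = x → ff • (σ • x) = σ • x) : Keeps σ := by
  intro x hx
  refine ⟨h x hx, fun h' => ?_⟩
  let S := {y : Fin NN // y ≠ o0 ∧ ff • y = y}
  let f : S → S := fun y => ⟨σ • y.1, fun e => y.2.1 ((zero_smul_iff σ y.1).mp e), h y.1 y.2.1 y.2.2⟩
  have hf : Function.Injective f := fun a b e => Subtype.ext (MulAction.injective σ (congrArg Subtype.val e))
  obtain ⟨y, hy⟩ := Finite.injective_iff_surjective.mp hf ⟨σ • x, fun e => hx ((zero_smul_iff σ x).mp e), h'⟩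
  have e := MulAction.injective σ (congrArg Subtype.val hy)
  exact e ▸ y.2.2

theorem Keeps.comp_inv {r h : St} (hr : Keeps r) (hh : Keeps h) : Keeps (r⁻¹ * h) := by
  intro x hx
  rw [hh x hx, mul_smul]
  have hne : r⁻¹ • h • x ≠ o0 := fun e => hx ((zero_smul_iff h x).mp ((zero_smul_iff r⁻¹ _).mp e))
  have := hr (r⁻¹ • h • x) hne
  rw [smul_inv_smul] at this
  exact this.symm

theorem pt_ne_zero {n : ℕ} (h : n < NN) (h0 : n ≠ 0) : pt n h ≠ o0 :=
  fun e => h0 (congrArg Fin.val e)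

/-- An element normalising the cyclic group of order four, with its square in it, maps the three base
points as one of the listed elements, unless it lies in that group. -/
theorem tuple_cases {h : St} (hh : Keeps h) (hsq : h * h ∈ Subgroup.zpowers ff)
    (hout : h ∉ Subgroup.zpowers ff) :
    hTups.contains [((h • pt 3466 : Fin NN) : ℕ), ((h • pt 1 : Fin NN) : ℕ), ((h • pt 220 : Fin NN) : ℕ)] = true := by
  have hreps := reps_ok
  simp only [repsOK, Bool.and_eq_true] at hreps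
  obtain ⟨⟨⟨⟨⟨⟨H1, H2⟩, H3⟩, L1⟩, L2⟩, L3⟩, HL⟩ := hreps
  simp only [List.all_eq_true, Bool.and_eq_true, Nat.beq_eq] at H1 H2 H3
  rw [beq_iff_eq] at L1 L2 L3
  have hkeep : ∀ e ∈ r1W ++ r2W ++ r3W, ∀ r : St,
      (∀ x : Fin NN, ((r • x : Fin NN) : ℕ) = ev stT e.2 x) → Keeps r := by
    intro e he r hr
    refine keeps_of fun x hx h' => ?_
    have := reps_fix
    simp only [List.all_eq_true, List.contains_iff_mem] at this
    have h2 := this e he x ((fixed_iff hx).mp h')
    rw [← hr] at h2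
    exact (fixed_iff fun e' => hx ((zero_smul_iff r x).mp e')).mpr h2
  have hfb : ∀ {n : ℕ} (hn : n < NN), n ∈ b3 → ff • pt n hn = pt n hn := fun hn hb => ff_fix_b3 _ hb
  have hpt : ∀ {n : ℕ} (hn : n < NN), n ∈ b3 → pt n hn ≠ o0 := fun hn hb => pt_ne_zero hn (by
    simp [b3] at hb; omega)
  have himg : ∀ {σ : St}, Keeps σ → ∀ {n : ℕ} (hn : n < NN), n ∈ b3 →
      ((σ • pt n hn : Fin NN) : ℕ) ∈ fixF ++ fixN := fun {σ} hσ {n} hn hb =>
    (fixed_iff fun e => hpt hn hb ((zero_smul_iff σ _).mp e)).mp ((hσ _ (hpt hn hb)).mp (hfb hn hb))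
  have hnear : ∀ p ∈ fixF ++ fixN, (2305 ≤ p → p ∈ fixN.filter (fun p => Nat.ble 2305 p)) ∧
      (p < 2305 → p ∈ fixF.filter (fun p => Nat.blt p 2305)) := by decide +kernel
  -- first level
  have h1 : ((h • pt 3466 : Fin NN) : ℕ) ∈ r1W.map Prod.fst := L1 ▸
    (hnear _ (himg hh (by decide) (by simp [b3]))).1 ((near_smul h (pt 3466)).mpr (by simp [pt]))
  obtain ⟨a, ha, ea⟩ := List.mem_map.mp h1
  obtain ⟨ra, hra⟩ := exists_el (List.all_eq_true.mpr (H1 a ha).1)
  have ra3466 : ra • pt 3466 = h • pt 3466 :=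
    Fin.ext ((hra _).trans ((H1 a ha).2.trans ea))
  set h₂ := ra⁻¹ * h with hh₂
  have hk2 : Keeps h₂ := (hkeep a (by simp [ha]) ra hra).comp_inv hh
  have e2 : h₂ • pt 3466 = pt 3466 := by rw [hh₂, mul_smul, ← ra3466, inv_smul_smul]
  -- second level
  have h2 : ((h₂ • pt 1 : Fin NN) : ℕ) ∈ r2W.map Prod.fst := L2 ▸
    (hnear _ (himg hk2 (by decide) (by simp [b3]))).2 (by
      by_contra hlt
      have := (near_smul h₂ (pt 1)).mp (not_lt.mp hlt)
      simp [pt] at this)
  obtain ⟨b, hb, eb⟩ := List.mem_map.mp h2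
  obtain ⟨rb, hrb⟩ := exists_el (List.all_eq_true.mpr (H2 b hb).1.1)
  have rb1 : rb • pt 1 = h₂ • pt 1 := Fin.ext ((hrb _).trans ((H2 b hb).1.2.trans eb))
  have rb3466 : rb • pt 3466 = pt 3466 := Fin.ext ((hrb _).trans (H2 b hb).2)
  set h₃ := rb⁻¹ * h₂ with hh₃
  have hk3 : Keeps h₃ := (hkeep b (by simp [hb]) rb hrb).comp_inv hk2
  have e31 : h₃ • pt 1 = pt 1 := by rw [hh₃, mul_smul, ← rb1, inv_smul_smul]
  have e33 : h₃ • pt 3466 = pt 3466 := by rw [hh₃, mul_smul, e2]; exact inv_smul_eq_iff.mpr rb3466.symm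
  -- third level
  have h3 : ((h₃ • pt 220 : Fin NN) : ℕ) ∈ r3W.map Prod.fst := L3 ▸
    List.mem_filter.mpr ⟨himg hk3 (by decide) (by simp [b3]), List.contains_iff_mem.mpr (orbit_220 e33 e31)⟩
  obtain ⟨c, hc, ec⟩ := List.mem_map.mp h3
  obtain ⟨rc, hrc⟩ := exists_el (List.all_eq_true.mpr (H3 c hc).1.1.1)
  have rc220 : rc • pt 220 = h₃ • pt 220 := Fin.ext ((hrc _).trans ((H3 c hc).1.1.2.trans ec))
  have rc3466 : rc • pt 3466 = pt 3466 := Fin.ext ((hrc _).trans (H3 c hc).1.2)
  have rc1 : rc • pt 1 = pt 1 := Fin.ext ((hrc _).trans (H3 c hc).2)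
  set r := ra * rb * rc with hr
  have hrev : ∀ x : Fin NN, ((r • x : Fin NN) : ℕ) = ev stT (c.2 ++ b.2 ++ a.2) x := fun x => by
    rw [hr, mul_smul, mul_smul, hra, hrb, hrc, ev_append, ev_append]
  have hagree : ∀ x : Fin NN, (x : ℕ) ∈ b3 → h • x = r • x := by
    intro x hx
    have key : h₃ • x = rc • x := by
      simp only [b3, List.mem_cons, List.not_mem_nil, or_false] at hx
      rcases hx with e | e | e
      · rw [show x = pt 3466 from Fin.ext e, e33, rc3466]
      · rw [show x = pt 1 from Fin.ext e, e31, rc1]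
      · rw [show x = pt 220 from Fin.ext e, rc220]
    rw [hr, mul_smul, mul_smul, ← key, hh₃, hh₂, mul_smul, mul_smul, smul_inv_smul, smul_inv_smul]
  have hW : r⁻¹ * h ∈ Subgroup.zpowers ff := mem_W fun x hx => by
    rw [mul_smul, hagree x hx, inv_smul_smul]
  have hleaf := List.all_eq_true.mp (List.all_eq_true.mp (List.all_eq_true.mp HL a ha) b hb) c hc
  simp only [leafOK, Bool.or_eq_true, Bool.not_eq_true', beq_iff_eq, beq_eq_false_iff_ne] at hleaf
  have h46 : ((⟨3466, by norm_num⟩ : Fin NN) : ℕ) ∈ b3 := by simp [b3]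
  have himgs : leafImg (c.2 ++ b.2 ++ a.2) =
      [((h • pt 3466 : Fin NN) : ℕ), ((h • pt 1 : Fin NN) : ℕ), ((h • pt 220 : Fin NN) : ℕ)] := by
    rw [hagree (pt 3466) (by simp [b3, pt]), hagree (pt 1) (by simp [b3, pt]),
      hagree (pt 220) (by simp [b3, pt]), hrev, hrev, hrev]
    rfl
  rcases hleaf with (e | e) | e
  · refine absurd (mem_W fun x hx => ?_) hout
    rw [himgs] at e
    simp only [List.cons.injEq, and_true] at e
    simp only [b3, List.mem_cons, List.not_mem_nil, or_false] at hx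
    rcases hx with e' | e' | e'
    · rw [show x = pt 3466 from Fin.ext e']; exact Fin.ext e.1
    · rw [show x = pt 1 from Fin.ext e']; exact Fin.ext e.2.1
    · rw [show x = pt 220 from Fin.ext e']; exact Fin.ext e.2.2
  · rw [← himgs]; exact e
  · exfalso
    refine e ?_
    have h2' : ∀ x : Fin NN, (x : ℕ) ∈ b3 → ev stT ((c.2 ++ b.2 ++ a.2) ++ (c.2 ++ b.2 ++ a.2)) x = x := by
      intro x hx
      rw [ev_append, ← hrev, ← hrev]
      have hfix : ff • (h • x) = h • x :=
        (hh x (fun e => by subst e; simp [b3, o0] at hx)).mp (ff_fix_b3 x hx)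
      have hs : h • (h • x) = x := by
        rw [← mul_smul]; exact zpowers_ff_fix hsq (ff_fix_b3 x hx)
      have h3 : r • (h • x) = h • (h • x) := by
        obtain ⟨j, hj⟩ := hW
        rw [show h = r * ff ^ j by rw [show ff ^ j = r⁻¹ * h from hj, mul_inv_cancel_left]] at hfix ⊢
        rw [mul_smul r (ff ^ j) ((r * ff ^ j) • x)]
        congr 1
        exact ((MulAction.stabilizer St _).zpow_mem hfix j).symm
      rw [← hagree x hx, h3, hs]
    have a1 := h2' (pt 3466) (by simp [b3, pt])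
    have a2 := h2' (pt 1) (by simp [b3, pt])
    have a3 := h2' (pt 220) (by simp [b3, pt])
    simp only [pt] at a1 a2 a3
    rw [leafImg, a1, a2, a3]

/-- A subgroup of the point stabiliser has no orbit of a size between 1561 and 1755 unless its order allows. -/
theorem no_big_divisor : ∀ d ∈ Nat.divisors 15600, d ≤ 1755 → d ≤ 1560 := by decide +kernel

theorem small_divisor : ∀ n ∈ Nat.divisors 300, 19 ≤ n → n % 13 = 1 → n = 300 := by decide +kernel

theorem tree_bound {K : Subgroup St} {q : PT × PT} {es : List ℕ}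
    (hq : ∀ p ∈ [tx, tf, q], (∃ w, (p, w) ∈ defList) ∧ el p ∈ K)
    (ht : treeOK NN (tabs [tx, tf, q]) es (1 <<< 2305) = true) :
    es.length + 1 ≤ (MulAction.orbit K o1).ncard := by
  obtain ⟨S, hS, -, hSr⟩ := orbit_spec (H := K.map St.subtype)
    (el_tabs fun p hp => ⟨(hq p hp).1, ⟨_, (hq p hp).2, rfl⟩⟩) o1 ht
  rw [← hS, ← Set.ncard_coe_finset]
  refine Set.ncard_le_ncard (fun p hp => ?_) (Set.toFinite _)
  obtain ⟨σ, ⟨k, hk, rfl⟩, h⟩ := hSr p hp
  exact ⟨⟨k, hk⟩, h⟩

theorem no_bad (K : Subgroup St) (hK : Nat.card K = 15600) {q : PT × PT} {es : List ℕ}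
    (hq : ∀ p ∈ [tx, tf, q], (∃ w, (p, w) ∈ defList) ∧ el p ∈ K)
    (ht : treeOK NN (tabs [tx, tf, q]) es (1 <<< 2305) = true) (hlen : es.length = 1560) : False := by
  have h1 := tree_bound hq ht
  have h2 : (MulAction.orbit K o1).ncard ≤ 1755 := by
    rw [← ncard_near]
    refine Set.ncard_le_ncard ?_ (Set.toFinite _)
    rintro x ⟨k, rfl⟩
    exact (near_smul (k : St) o1).mpr le_rfl
  have h3 : (MulAction.orbit K o1).ncard ∈ Nat.divisors 15600 := by
    rw [Nat.mem_divisors, ← MulAction.index_stabilizer, ← hK]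
    exact ⟨Subgroup.index_dvd_card _, Nat.card_pos.ne'⟩
  have := no_big_divisor _ h3 h2
  omega

theorem good_case (K : Subgroup St) (hK : Nat.card K = 15600) (hxK : xx ∈ K) {q : PT × PT} {es : List ℕ}
    {c : Fin NN} (hcT : c = pt 1 ∨ c = pt 470 ∨ c = pt 1954)
    (hq : ∀ p ∈ [tx, tf, q], (∃ w, (p, w) ∈ defList) ∧ el p ∈ K)
    (ht : treeOK NN (tabs [tx, tf, q]) es (1 <<< 2305) = true) (hlen : 974 ≤ es.length)
    (hc : el q • c = c) : K = MulAction.stabilizer St c := by
  haveI : Fact (Nat.Prime 13) := ⟨by norm_num⟩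
  have hst : Nat.card (MulAction.stabilizer St c) = 15600 := by
    have hor : MulAction.orbit St c = MulAction.orbit St (pt 1) := by
      rw [MulAction.orbit_eq_iff, orbit_far]
      rcases hcT with rfl | rfl | rfl
      all_goals exact ⟨pt_ne_zero _ (by norm_num), by simp [pt]⟩
    have h := Subgroup.index_mul_card (MulAction.stabilizer St c)
    rw [MulAction.index_stabilizer, hor, orbit_far, ncard_far, card_St] at h
    omega
  set J := K ⊓ MulAction.stabilizer St c with hJ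
  have hgen : ∀ p ∈ [tx, tf, q], (∃ w, (p, w) ∈ defList) ∧ el p ∈ J := by
    intro p hp
    refine ⟨(hq p hp).1, Subgroup.mem_inf.mpr ⟨(hq p hp).2, ?_⟩⟩
    simp only [List.mem_cons, List.not_mem_nil, or_false] at hp
    rcases hp with rfl | rfl | rfl
    · exact triple_fix (Or.inl rfl) hcT
    · exact triple_fix (Or.inr rfl) hcT
    · exact hc
  have hxJ : xx ∈ J := (hgen tx (by simp)).2
  have hfJ : ff ∈ J := (hgen tf (by simp)).2
  have hJbig : 975 ≤ Nat.card J := by
    refine le_trans (Nat.succ_le_succ hlen) (le_trans (tree_bound hgen ht) ?_)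
    rw [← MulAction.index_stabilizer]
    exact Nat.le_of_dvd Nat.card_pos (Subgroup.index_dvd_card _)
  have hN : Nat.card (NX ⊓ J : Subgroup St) = 52 := by
    refine le_antisymm ?_ (Nat.le_of_dvd Nat.card_pos
      ((by norm_num : Nat.Coprime 13 4).mul_dvd_of_dvd_of_dvd ?_ ?_))
    · rw [← (ff_mem K hK hxK).2]
      exact Subgroup.card_le_of_le (inf_le_inf_left _ inf_le_left)
    · rw [← order_xx]
      exact Subgroup.orderOf_dvd_natCard _ (Subgroup.mem_inf.mpr ⟨xx_mem_NX, hxJ⟩)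
    · rw [← order_ff]
      exact Subgroup.orderOf_dvd_natCard _ (Subgroup.mem_inf.mpr ⟨ff_mem_NX, hfJ⟩)
  have hJd : Nat.card J ∣ 15600 := hK ▸ Subgroup.card_dvd_of_le inf_le_left
  set N' := Subgroup.normalizer (Subgroup.zpowers (⟨xx, hxJ⟩ : J) : Set J)
  have hN' : Nat.card N' = 52 := (card_normalizer_in J hxJ).trans hN
  have hsyl : (Subgroup.zpowers (⟨xx, hxJ⟩ : J)).index ≠ 0 := Subgroup.index_ne_zero_of_finite
  have hP : Nat.card (Subgroup.zpowers (⟨xx, hxJ⟩ : J)) = 13 := by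
    rw [Nat.card_zpowers, ← Subgroup.orderOf_coe]; exact order_xx
  have hfac : (Nat.card J).factorization 13 = 1 := by
    rw [← Nat.multiplicity_eq_factorization (by norm_num) Nat.card_pos.ne']
    refine multiplicity_eq_of_dvd_of_not_dvd ?_ fun h => absurd (h.trans hJd) (by norm_num)
    rw [pow_one, ← hP]
    exact Subgroup.card_subgroup_dvd_card _
  let P : Sylow 13 J := Sylow.ofCard (Subgroup.zpowers (⟨xx, hxJ⟩ : J)) (by rw [hP, hfac, pow_one])
  have hn : Nat.card (Sylow 13 J) = N'.index := P.card_eq_index_normalizer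
  have hmod : Nat.card (Sylow 13 J) % 13 = 1 := card_sylow_modEq_one 13 J
  have hi := Subgroup.index_mul_card N'
  rw [hN', ← hn] at hi
  have hd : Nat.card (Sylow 13 J) * 52 ∣ 300 * 52 := by rw [hi]; exact hJd
  have h300 := small_divisor _ (Nat.mem_divisors.mpr
    ⟨Nat.dvd_of_mul_dvd_mul_right (by norm_num) hd, by norm_num⟩) (by omega) hmod
  have hJK : J = K := Subgroup.eq_of_le_of_card_ge inf_le_left (by rw [hK]; omega)
  exact Subgroup.eq_of_le_of_card_ge (hJK ▸ inf_le_right) (by rw [hst, hK])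

theorem th_def : ∀ q ∈ [th0, th1, th2, th3, th4, th5, th6], ∃ w, (q, w) ∈ defList := by
  intro q hq
  simp only [List.mem_cons, List.not_mem_nil, or_false] at hq
  rcases hq with rfl | rfl | rfl | rfl | rfl | rfl | rfl
  · exact ⟨th0W, by simp [defList]⟩
  · exact ⟨th1W, by simp [defList]⟩
  · exact ⟨th2W, by simp [defList]⟩
  · exact ⟨th3W, by simp [defList]⟩
  · exact ⟨th4W, by simp [defList]⟩
  · exact ⟨th5W, by simp [defList]⟩
  · exact ⟨th6W, by simp [defList]⟩

theorem has_extra (K : Subgroup St) (hK : Nat.card K = 15600) (hf : ff ∈ K) :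
    ∃ h ∈ K, Keeps h ∧ h * h ∈ Subgroup.zpowers ff ∧ h ∉ Subgroup.zpowers ff := by
  haveI : Fact (Nat.Prime 2) := ⟨by norm_num⟩
  set F := Subgroup.zpowers (⟨ff, hf⟩ : K)
  have hF : Nat.card F = 2 ^ 2 := by rw [Nat.card_zpowers, ← Subgroup.orderOf_coe]; exact order_ff
  obtain ⟨H, hH, hle⟩ := Sylow.exists_subgroup_card_pow_succ (G := K) (p := 2) (n := 2)
    (by rw [hK]; norm_num) hF
  have hi : (F.subgroupOf H).index = 2 := by
    have h1 := Subgroup.index_mul_card (F.subgroupOf H)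
    rw [Nat.card_congr (Subgroup.subgroupOfEquivOfLe hle).toEquiv, hF, hH] at h1
    omega
  have hne : F ≠ H := fun e => by rw [e, hH] at hF; norm_num at hF
  obtain ⟨h, hh, hnot⟩ := SetLike.exists_of_lt (lt_of_le_of_ne hle hne)
  have hcoe : ∀ z : K, z ∈ F ↔ (z : St) ∈ Subgroup.zpowers ff := fun z => by
    simp only [F, Subgroup.mem_zpowers_iff]
    exact exists_congr fun j => by rw [← Subtype.coe_inj, SubgroupClass.coe_zpow]
  refine ⟨h, h.2, keeps_of fun x hx hfx => ?_, ?_, fun e => hnot ((hcoe h).mpr e)⟩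
  · haveI := Subgroup.normal_of_index_eq_two hi
    have hconj : h⁻¹ * ⟨ff, hf⟩ * h ∈ F := by
      have := (inferInstance : (F.subgroupOf H).Normal).conj_mem
        (⟨⟨ff, hf⟩, hle (Subgroup.mem_zpowers _)⟩ : H) (Subgroup.mem_zpowers _) (⟨h, hh⟩⁻¹ : H)
      simpa [Subgroup.mem_subgroupOf] using this
    have hfix : ((h : St)⁻¹ * ff * (h : St)) • x = x := zpowers_ff_fix ((hcoe _).mp hconj) hfx
    rw [mul_smul, mul_smul, inv_smul_eq_iff] at hfix
    exact hfix
  · have := Subgroup.sq_mem_of_index_two hi (⟨h, hh⟩ : H)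
    rw [Subgroup.mem_subgroupOf, pow_two] at this
    exact (hcoe _).mp this

theorem sub_15600_aux (K : Subgroup St) (hK : Nat.card K = 15600) (hx : xx ∈ K) :
    ∃ c : Fin NN, (c = pt 1 ∨ c = pt 470 ∨ c = pt 1954) ∧ K = MulAction.stabilizer St c := by
  have hf := (ff_mem K hK hx).1
  obtain ⟨h, hhK, hkeep, hsq, hout⟩ := has_extra K hK hf
  have htup := tuple_cases hkeep hsq hout
  rw [List.contains_iff_mem] at htup
  obtain ⟨hz, hlen, hfix⟩ := hTups_ok
  obtain ⟨i, hi', e⟩ := List.mem_iff_getElem.mp htup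
  have hi : i < 7 := hlen ▸ hi'
  set qs := [th0, th1, th2, th3, th4, th5, th6]
  have hmemq : qs[i]'(by simpa [qs] using hi) ∈ qs := List.getElem_mem _
  obtain ⟨w, hw⟩ := th_def _ hmemq
  have hz' := List.all_eq_true.mp hz (hTups[i], qs[i]'(by simpa [qs] using hi))
    (List.mem_iff_getElem.mpr ⟨i, by simp [qs, hlen, hi], List.getElem_zip⟩)
  rw [beq_iff_eq] at hz'
  dsimp only at hz'
  have hz'' := e.symm.trans hz'
  simp only [List.cons.injEq, and_true] at hz''
  have hel : el (qs[i]'(by simpa [qs] using hi)) ∈ K := by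
    have hmem : h⁻¹ * el (qs[i]'(by simpa [qs] using hi)) ∈ Subgroup.zpowers ff := mem_W fun x hb => by
      rw [mul_smul, inv_smul_eq_iff]
      refine Fin.ext ((el_apply hw x).trans ?_)
      simp only [b3, List.mem_cons, List.not_mem_nil, or_false] at hb
      rcases hb with e' | e' | e'
      · rw [show x = pt 3466 from Fin.ext e']; exact hz''.1.symm
      · rw [show x = pt 1 from Fin.ext e']; exact hz''.2.1.symm
      · rw [show x = pt 220 from Fin.ext e']; exact hz''.2.2.symm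
    have := mul_mem hhK ((Subgroup.zpowers_le.mpr hf) hmem)
    rwa [mul_inv_cancel_left] at this
  have hgen : ∀ q, q = qs[i]'(by simpa [qs] using hi) →
      ∀ p ∈ [tx, tf, q], (∃ w, (p, w) ∈ defList) ∧ el p ∈ K := by
    rintro q rfl p hp
    simp only [List.mem_cons, List.not_mem_nil, or_false] at hp
    rcases hp with rfl | rfl | rfl
    · exact ⟨⟨_, tx_mem⟩, hx⟩
    · exact ⟨⟨_, tf_mem⟩, hf⟩
    · exact ⟨⟨_, hw⟩, hel⟩
  have hH := chainH_ok
  simp only [chainH0, chainH2, chainH3, chainOK, Bool.and_eq_true] at hH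
  obtain ⟨⟨⟨⟨⟨c0, -⟩, c2⟩, -⟩, c3⟩, -⟩ := hH
  have hT := hT_ok
  simp only [Bool.and_eq_true, Nat.beq_eq] at hT
  obtain ⟨⟨⟨⟨⟨⟨⟨⟨t1, l1⟩, t4⟩, l4⟩, t5⟩, l5⟩, t6⟩, l6⟩, -⟩ := hT
  simp only [Bool.and_eq_true, Nat.beq_eq] at hfix
  obtain ⟨⟨f0, f2⟩, f3⟩ := hfix
  have hls : hT0.length = 974 ∧ hT2.length = 974 ∧ hT3.length = 974 := by decide +kernel
  interval_cases i
  · exact ⟨pt 1, Or.inl rfl, good_case K hK hx (Or.inl rfl) (hgen th0 rfl) c0.1.2 hls.1.ge
      (Fin.ext ((el_apply (by simp [defList] : (th0, th0W) ∈ defList) _).trans f0))⟩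
  · exact (no_bad K hK (hgen th1 rfl) t1 l1).elim
  · exact ⟨pt 1954, Or.inr (Or.inr rfl), good_case K hK hx (Or.inr (Or.inr rfl)) (hgen th2 rfl) c2.1.2
      hls.2.1.ge (Fin.ext ((el_apply (by simp [defList] : (th2, th2W) ∈ defList) _).trans f2))⟩
  · exact ⟨pt 470, Or.inr (Or.inl rfl), good_case K hK hx (Or.inr (Or.inl rfl)) (hgen th3 rfl) c3.1.2
      hls.2.2.ge (Fin.ext ((el_apply (by simp [defList] : (th3, th3W) ∈ defList) _).trans f3))⟩
  · exact (no_bad K hK (hgen th4 rfl) t4 l4).elim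
  · exact (no_bad K hK (hgen th5 rfl) t5 l5).elim
  · exact (no_bad K hK (hgen th6 rfl) t6 l6).elim

/-- A subgroup of order 15600 of the point stabiliser fixes a point of the suborbit of length 2304. -/
theorem sub_15600 (K : Subgroup St) (hK : Nat.card K = 15600) :
    ∃ σ : St, K = MulAction.stabilizer St (σ • pt 1) := by
  haveI : Fact (Nat.Prime 13) := ⟨by norm_num⟩
  obtain ⟨u, hu⟩ := exists_prime_orderOf_dvd_card' (G := K) 13 (by rw [hK]; norm_num)
  have hfac : (Nat.card St).factorization 13 = 1 := by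
    rw [card_St, ← Nat.multiplicity_eq_factorization (by norm_num) (by norm_num)]
    exact multiplicity_eq_of_dvd_of_not_dvd (by norm_num) (by norm_num)
  let P : Sylow 13 St := Sylow.ofCard (Subgroup.zpowers (u : St))
    (by rw [Nat.card_zpowers, Subgroup.orderOf_coe, hu, hfac, pow_one])
  let Q : Sylow 13 St := Sylow.ofCard (Subgroup.zpowers xx) (by rw [Nat.card_zpowers, order_xx, hfac, pow_one])
  obtain ⟨g, hg⟩ := MulAction.exists_smul_eq St P Q
  have hxK : xx ∈ MulAut.conj g • K := by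
    have h1 : MulAut.conj g • Subgroup.zpowers (u : St) = Subgroup.zpowers xx :=
      congrArg (fun R : Sylow 13 St => (R : Subgroup St)) hg
    exact Subgroup.pointwise_smul_le_pointwise_smul_iff.mpr (Subgroup.zpowers_le.mpr u.2)
      (h1 ▸ Subgroup.mem_zpowers xx)
  obtain ⟨c, hc, heq⟩ := sub_15600_aux (MulAut.conj g • K)
    ((Nat.card_congr (Subgroup.equivSMul (MulAut.conj g) K).toEquiv).symm.trans hK) hxK
  obtain ⟨τ, hτ⟩ : ∃ τ : St, τ • pt 1 = c := by
    refine far_transitive ?_ ?_ <;> rcases hc with rfl | rfl | rfl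
    all_goals first | exact pt_ne_zero _ (by norm_num) | simp [pt]
  refine ⟨g⁻¹ * τ, ?_⟩
  have e : (MulAut.conj g⁻¹ • MulAction.stabilizer St c : Subgroup St) = MulAction.stabilizer St (g⁻¹ • c) :=
    (MulAction.stabilizer_smul_eq_stabilizer_map_conj g⁻¹ c).symm
  rw [mul_smul, hτ, ← e, ← heq, map_inv, inv_smul_smul]

end Cfsg.Agent.RuRankThree76
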