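import Cfsg.Agent.Lib.RuR3Aut76
import Cfsg.Agent.Lib.RuR3SubC76
import Cfsg.Prelude.Def_Spor_Ru

/-!
Recognition of the group of the lines from a rank three action on 4060 points: the action of the point
stabiliser on its three orbits is determined by the orbit sizes.
-/

set_option autoImplicit false
set_option maxRecDepth 100000

namespace Cfsg.Agent.RuRankThree76

open RuPermCert66 RuPermData66
open RuPermGroup66 (St GG o0 o1)

section Transport

variable {Ω : Type*} [Fintype Ω] (G : Subgroup (Equiv.Perm Ω)) (a : Ω)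
  (θ : MulAction.stabilizer G a ≃* St)

/-- The subgroup of a point in the fixed stabiliser. -/
theorem corr_stab {d : Ω} {n : ℕ} (hd : (MulAction.orbit (MulAction.stabilizer G a) d).ncard = n) :
    n * Nat.card ((MulAction.stabilizer (MulAction.stabilizer G a) d).map θ.toMonoidHom : Subgroup St) =
      35942400 := by
  rw [Nat.card_congr ((MulAction.stabilizer (MulAction.stabilizer G a) d).equivMapOfInjective θ.toMonoidHom
    θ.injective).symm.toEquiv, ← hd, ← MulAction.index_stabilizer, Subgroup.index_mul_card,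
    Nat.card_congr θ.toEquiv, card_St]

theorem smul_eq_of_corr {d : Ω} {x : Fin NN}
    (hd : (MulAction.stabilizer (MulAction.stabilizer G a) d).map θ.toMonoidHom = MulAction.stabilizer St x)
    {ρ ρ' : St} (h : ρ • x = ρ' • x) : θ.symm ρ • d = θ.symm ρ' • d := by
  have hm : ρ'⁻¹ * ρ ∈ MulAction.stabilizer St x := by
    rw [MulAction.mem_stabilizer_iff, mul_smul, h, inv_smul_smul]
  rw [← hd] at hm
  obtain ⟨g, hg, e⟩ := hm
  have hg' : g = (θ.symm ρ')⁻¹ * θ.symm ρ := by
    rw [← map_inv, ← map_mul, ← e]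
    exact (θ.symm_apply_apply g).symm
  have h1 : g • d = d := hg
  rw [hg', mul_smul, inv_smul_eq_iff] at h1
  exact h1

end Transport

/-- A transitive group of degree 4060 with such a point stabiliser and suborbits is the group of lines. -/
theorem nonempty_equiv_GG {Ω : Type*} [Fintype Ω] (hΩ : Fintype.card Ω = 4060)
    (G : Subgroup (Equiv.Perm Ω)) [MulAction.IsPretransitive G Ω] (a : Ω)
    (θ : MulAction.stabilizer G a ≃* St) (b c : Ω)
    (hb : (MulAction.orbit (MulAction.stabilizer G a) b).ncard = 1755)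
    (hc : (MulAction.orbit (MulAction.stabilizer G a) c).ncard = 2304) : Nonempty (G ≃* GG) := by
  classical
  obtain ⟨σ, hσ⟩ := sub_20480 _ (by have := corr_stab G a θ hb; omega :
    Nat.card ((MulAction.stabilizer (MulAction.stabilizer G a) b).map θ.toMonoidHom : Subgroup St) = 20480)
  obtain ⟨τ, hτ⟩ := sub_15600 _ (by have := corr_stab G a θ hc; omega :
    Nat.card ((MulAction.stabilizer (MulAction.stabilizer G a) c).map θ.toMonoidHom : Subgroup St) = 15600)
  set x1 := σ • o1 with hx1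
  set x2 := τ • pt 1 with hx2
  have hn : ∀ y : Fin NN, 2305 ≤ (y : ℕ) → ∃ ρ : St, ρ • x1 = y := fun y hy => by
    obtain ⟨ρ, h⟩ := near_transitive hy
    exact ⟨ρ * σ⁻¹, by rw [hx1, mul_smul, inv_smul_smul, h]⟩
  have hf : ∀ y : Fin NN, ¬ 2305 ≤ (y : ℕ) → y ≠ o0 → ∃ ρ : St, ρ • x2 = y := fun y hy h0 => by
    obtain ⟨ρ, h⟩ := far_transitive (not_le.mp hy) h0
    exact ⟨ρ * τ⁻¹, by rw [hx2, mul_smul, inv_smul_smul, h]⟩
  let φ : Fin NN → Ω := fun y =>
    if h0 : y = o0 then a else
      if h : 2305 ≤ (y : ℕ) then θ.symm (hn y h).choose • b else θ.symm (hf y h h0).choose • c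
  have φ0 : φ o0 = a := dif_pos rfl
  have x1near : 2305 ≤ (x1 : ℕ) := (near_smul σ o1).mpr le_rfl
  have x1ne : ∀ ρ : St, ρ • x1 ≠ o0 := fun ρ e => by
    have := (near_smul ρ x1).mpr x1near
    rw [e] at this; simp [o0] at this
  have x2far : ∀ ρ : St, ¬ 2305 ≤ ((ρ • x2 : Fin NN) : ℕ) := fun ρ h => by
    rw [hx2, near_smul, near_smul] at h; simp [pt] at h
  have x2ne : ∀ ρ : St, ρ • x2 ≠ o0 := fun ρ e => by
    rw [hx2, zero_smul_iff, zero_smul_iff] at e
    exact pt_ne_zero _ (by norm_num) e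
  have φn : ∀ ρ : St, φ (ρ • x1) = θ.symm ρ • b := fun ρ => by
    simp only [φ, dif_neg (x1ne ρ), dif_pos ((near_smul ρ x1).mpr x1near)]
    exact smul_eq_of_corr G a θ hσ (hn _ ((near_smul ρ x1).mpr x1near)).choose_spec
  have φf : ∀ ρ : St, φ (ρ • x2) = θ.symm ρ • c := fun ρ => by
    simp only [φ, dif_neg (x2ne ρ), dif_neg (x2far ρ)]
    exact smul_eq_of_corr G a θ hτ (hf _ (x2far ρ) (x2ne ρ)).choose_spec
  have hfixa : ∀ g : MulAction.stabilizer G a, g • a = a := fun g => g.2
  have hequiv : ∀ (ρ : St) (y : Fin NN), φ (ρ • y) = θ.symm ρ • φ y := by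
    intro ρ y
    by_cases h0 : y = o0
    · rw [h0, fix_zero, φ0, hfixa]
    · by_cases h : 2305 ≤ (y : ℕ)
      · obtain ⟨π, hπ⟩ := hn y h
        rw [← hπ, ← mul_smul, φn, φn, map_mul, mul_smul]
      · obtain ⟨π, hπ⟩ := hf y h h0
        rw [← hπ, ← mul_smul, φf, φf, map_mul, mul_smul]
  have hsur : Function.Surjective φ := by
    intro z
    set Ob := MulAction.orbit (MulAction.stabilizer G a) b
    set Oc := MulAction.orbit (MulAction.stabilizer G a) c
    have hda : a ∉ Ob ∪ Oc := by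
      have ha : MulAction.orbit (MulAction.stabilizer G a) a = {a} := Set.eq_singleton_iff_unique_mem.mpr
        ⟨MulAction.mem_orbit_self a, by rintro _ ⟨g, rfl⟩; exact hfixa g⟩
      rintro (h | h)
      · rw [show Ob = {a} from (MulAction.orbit_eq_iff.mpr h).symm.trans ha, Set.ncard_singleton] at hb; omega
      · rw [show Oc = {a} from (MulAction.orbit_eq_iff.mpr h).symm.trans ha, Set.ncard_singleton] at hc; omega
    have hbc : Disjoint Ob Oc := Set.disjoint_left.mpr fun w h h' => by
      have : Ob = Oc := (MulAction.orbit_eq_iff.mpr h).symm.trans (MulAction.orbit_eq_iff.mpr h')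
      rw [this] at hb; omega
    have hU : insert a (Ob ∪ Oc) = Set.univ := Set.eq_of_subset_of_ncard_le (Set.subset_univ _) (by
      rw [Set.ncard_univ, Nat.card_eq_fintype_card, hΩ, Set.ncard_insert_of_notMem hda (Set.toFinite _),
        Set.ncard_union_eq hbc (Set.toFinite _) (Set.toFinite _), hb, hc]) (Set.toFinite _)
    rcases (hU ▸ Set.mem_univ z : z ∈ insert a (Ob ∪ Oc)) with rfl | ⟨g, rfl⟩ | ⟨g, rfl⟩
    · exact ⟨o0, φ0⟩
    · exact ⟨θ g • x1, by rw [φn, θ.symm_apply_apply]⟩
    · exact ⟨θ g • x2, by rw [φf, θ.symm_apply_apply]⟩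
  let e : Fin NN ≃ Ω := Equiv.ofBijective φ ((Fintype.bijective_iff_surjective_and_card φ).mpr
    ⟨hsur, by rw [Fintype.card_fin, hΩ]⟩)
  let P : Equiv.Perm Ω ≃* Equiv.Perm (Fin NN) := e.symm.permCongrHom
  have hP : ∀ (g : Equiv.Perm Ω) (y : Fin NN), e (P g y) = g (e y) := fun g y => by
    show e (e.symm (g (e.symm.symm y))) = g (e y)
    rw [e.apply_symm_apply, Equiv.symm_symm]
  have hψ : ∀ s : MulAction.stabilizer G a, P (s.1 : Equiv.Perm Ω) = (θ s : Equiv.Perm (Fin NN)) := fun s =>
    Equiv.ext fun y => e.injective (by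
      rw [hP]
      have := hequiv (θ s) y
      rw [θ.symm_apply_apply] at this
      exact this.symm)
  have hH : Rk3 (G.map (P : Equiv.Perm Ω →* Equiv.Perm (Fin NN))) :=
    { trans := fun x => by
        obtain ⟨g, hg⟩ := MulAction.exists_smul_eq G a (e x)
        refine ⟨P g.1, ⟨g.1, g.2, rfl⟩, e.injective ?_⟩
        rw [hP]
        show g.1 (φ o0) = _
        rw [φ0]; exact hg
      stab := fun g => by
        constructor
        · intro hg
          refine ⟨⟨((θ.symm ⟨g, hg⟩).1 : Equiv.Perm Ω), (θ.symm ⟨g, hg⟩).1.2, ?_⟩, RuPermGroup66.fix_St hg⟩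
          show P _ = g
          rw [hψ, θ.apply_symm_apply]
        · rintro ⟨⟨g', hg', rfl⟩, h0⟩
          have hga : g' a = a := by
            have h1 := hP g' o0
            rw [show P g' o0 = o0 from h0] at h1
            change φ o0 = g' (φ o0) at h1
            rw [φ0] at h1
            exact h1.symm
          have h2 := hψ ⟨⟨g', hg'⟩, hga⟩
          show P g' ∈ St
          rw [show g' = (((⟨⟨g', hg'⟩, hga⟩ : MulAction.stabilizer G a).1 : G) : Equiv.Perm Ω) from rfl, h2]
          exact SetLike.coe_mem _ }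
  exact ⟨(P.subgroupMap G).trans (MulEquiv.subgroupCongr (rk3_eq hH))⟩

end Cfsg.Agent.RuRankThree76
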