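import Cfsg.Agent.Lib.RuR3Base76
import Cfsg.Agent.Lib.RuR3CheckC76

/-!
The graph of a rank three group on 4060 points with the given point stabiliser is unique: adjacency
between two points is decided by the orbit sizes of the two kinds of two point stabilisers.
-/

set_option autoImplicit false
set_option maxRecDepth 100000

namespace Cfsg.Agent.RuRankThree76

open RuPermCert66 RuPermData66
open RuPermGroup66 (St GG o0 o1)
open scoped Pointwise

/-- A transitive group whose point stabiliser is the given one. -/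
structure Rk3 (H : Subgroup (Equiv.Perm (Fin NN))) : Prop where
  trans : ∀ x, ∃ g ∈ H, g o0 = x
  stab : ∀ g, g ∈ St ↔ g ∈ H ∧ g o0 = o0

/-- The orbital of length 1755. -/
def adj (H : Subgroup (Equiv.Perm (Fin NN))) (x y : Fin NN) : Prop :=
  ∃ g ∈ H, g x = o0 ∧ 2305 ≤ (g y : ℕ)

section Basic

variable {H : Subgroup (Equiv.Perm (Fin NN))} (hH : Rk3 H)
include hH

theorem Rk3.st_le {g : Equiv.Perm (Fin NN)} (hg : g ∈ St) : g ∈ H := ((hH.stab g).mp hg).1

theorem adj_iff {g : Equiv.Perm (Fin NN)} {x y : Fin NN} (hg : g ∈ H) (hx : g x = o0) :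
    adj H x y ↔ 2305 ≤ (g y : ℕ) := by
  refine ⟨?_, fun h => ⟨g, hg, hx, h⟩⟩
  rintro ⟨h, hh, hhx, hy⟩
  have hs : g * h⁻¹ ∈ St := (hH.stab _).mpr ⟨mul_mem hg (inv_mem hh), by
    rw [Equiv.Perm.mul_apply, Equiv.Perm.inv_eq_iff_eq.mpr hhx.symm, hx]⟩
  have h2 := (RuPermGroup66.keep hs (h y)).mp hy
  rwa [Equiv.Perm.mul_apply, Equiv.Perm.inv_eq_iff_eq.mpr rfl] at h2

theorem adj_zero (y : Fin NN) : adj H o0 y ↔ 2305 ≤ (y : ℕ) := by
  have h := adj_iff hH (g := 1) (x := o0) (y := y) (one_mem H) rfl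
  rwa [Equiv.Perm.one_apply] at h

theorem exists_zero (x : Fin NN) : ∃ g ∈ H, g x = o0 := by
  obtain ⟨g, hg, h⟩ := hH.trans x
  exact ⟨g⁻¹, inv_mem hg, Equiv.Perm.inv_eq_iff_eq.mpr h.symm⟩

theorem not_adj_self (x : Fin NN) : ¬ adj H x x := by
  rintro ⟨g, -, hx, h⟩
  rw [hx] at h
  exact absurd h (by simp [o0])

theorem adj_smul {h : Equiv.Perm (Fin NN)} (hh : h ∈ H) (x y : Fin NN) :
    adj H (h x) (h y) ↔ adj H x y := by
  obtain ⟨g, hg, hx⟩ := exists_zero hH (h x)
  rw [adj_iff hH hg hx, adj_iff hH (mul_mem hg hh) (by rw [Equiv.Perm.mul_apply, hx]), Equiv.Perm.mul_apply]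

/-- The orbital is paired with itself, the other one having a smaller two point stabiliser. -/
theorem adj_one_zero : adj H o1 o0 := by
  obtain ⟨h, hh, hx⟩ := exists_zero hH o1
  refine ⟨h, hh, hx, ?_⟩
  by_contra hfar
  have hne : h o0 ≠ o0 := fun e => by
    have := congrArg Fin.val (h.injective (e.trans hx.symm))
    simp [o0, o1] at this
  obtain ⟨τ, hτ⟩ := far_transitive (not_le.mp hfar) hne
  set k := (τ : Equiv.Perm (Fin NN))⁻¹ * h with hk
  have hkH : k ∈ H := mul_mem (inv_mem (hH.st_le τ.2)) hh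
  have k1 : k o1 = o0 := by
    rw [hk, Equiv.Perm.mul_apply, hx, Equiv.Perm.inv_eq_iff_eq]
    exact (fix_zero τ).symm
  have k0 : k o0 = pt 1 := by
    rw [hk, Equiv.Perm.mul_apply, Equiv.Perm.inv_eq_iff_eq]
    exact hτ.symm
  have hmap : ∀ σ : MulAction.stabilizer St o1, k * (σ.1 : Equiv.Perm (Fin NN)) * k⁻¹ ∈ St := fun σ => by
    refine (hH.stab _).mpr ⟨mul_mem (mul_mem hkH (hH.st_le σ.1.2)) (inv_mem hkH), ?_⟩
    have h1 : (σ.1 : Equiv.Perm (Fin NN)) o1 = o1 := σ.2
    rw [Equiv.Perm.mul_apply, Equiv.Perm.mul_apply, Equiv.Perm.inv_eq_iff_eq.mpr k1.symm, h1, k1]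
  have hfix : ∀ σ : MulAction.stabilizer St o1,
      (⟨_, hmap σ⟩ : St) ∈ MulAction.stabilizer St (pt 1) := fun σ => by
    show (k * (σ.1 : Equiv.Perm (Fin NN)) * k⁻¹) (pt 1) = pt 1
    rw [Equiv.Perm.mul_apply, Equiv.Perm.mul_apply, Equiv.Perm.inv_eq_iff_eq.mpr k0.symm,
      show (σ.1 : Equiv.Perm (Fin NN)) o0 = o0 from fix_zero σ.1, k0]
  have hle := Nat.card_le_card_of_injective
    (fun σ : MulAction.stabilizer St o1 => (⟨_, hfix σ⟩ : MulAction.stabilizer St (pt 1)))
    fun a b e => by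
      have h1 := congrArg (fun z : MulAction.stabilizer St (pt 1) => (z.1 : Equiv.Perm (Fin NN))) e
      exact Subtype.ext (Subtype.ext (mul_left_cancel (mul_right_cancel h1)))
  rw [card_stab_near, card_stab_far] at hle
  omega

theorem adj_symm {x y : Fin NN} (h : adj H x y) : adj H y x := by
  obtain ⟨g, hg, hx, hy⟩ := h
  obtain ⟨σ, hσ⟩ := near_transitive hy
  have h1 := (adj_smul hH (inv_mem (mul_mem (inv_mem (hH.st_le σ.2)) hg)) o1 o0).mpr (adj_one_zero hH)
  have e1 : (((σ : Equiv.Perm (Fin NN))⁻¹ * g)⁻¹) o1 = y := by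
    rw [mul_inv_rev, inv_inv, Equiv.Perm.mul_apply, Equiv.Perm.inv_eq_iff_eq]
    exact hσ
  have e2 : (((σ : Equiv.Perm (Fin NN))⁻¹ * g)⁻¹) o0 = x := by
    rw [mul_inv_rev, inv_inv, Equiv.Perm.mul_apply, Equiv.Perm.inv_eq_iff_eq]
    exact (fix_zero σ).trans hx.symm
  rwa [e1, e2] at h1

theorem adj_ncard (x : Fin NN) : ({y | adj H x y} : Set (Fin NN)).ncard = 1755 := by
  obtain ⟨g, hg, hx⟩ := exists_zero hH x
  rw [show ({y | adj H x y} : Set (Fin NN)) = g ⁻¹' {z : Fin NN | 2305 ≤ (z : ℕ)} from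
    Set.ext fun y => adj_iff hH hg hx]
  rw [Set.ncard_preimage_of_injective_subset_range g.injective (fun z _ => g.surjective z), ncard_near]

/-- The closed neighbourhood of the first point is not a clique: 1756 does not divide 4060. -/
theorem not_clique (h : ∀ y z : Fin NN, 2305 ≤ (y : ℕ) → 2305 ≤ (z : ℕ) → y ≠ z → adj H y z) : False := by
  let C : Set (Fin NN) := insert o0 {y : Fin NN | 2305 ≤ (y : ℕ)}
  let cl : Fin NN → Set (Fin NN) := fun x => insert x {y | adj H x y}
  have hcl : ∀ x, (cl x).ncard = 1756 := fun x => by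
    show (insert x {y | adj H x y} : Set (Fin NN)).ncard = 1756
    have hx : x ∉ ({y | adj H x y} : Set (Fin NN)) := not_adj_self hH x
    rw [Set.ncard_insert_of_notMem hx (Set.toFinite _), adj_ncard hH]
  have hC : C = cl o0 := by
    simp only [C, cl, adj_zero hH]
  have hin : ∀ z ∈ C, cl z = C := by
    intro z hz
    rcases Set.mem_insert_iff.mp hz with rfl | hz'
    · exact hC.symm
    · refine (Set.eq_of_subset_of_ncard_le (fun w hw => ?_) (by rw [hC, hcl, hcl]) (Set.toFinite _)).symm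
      rcases Set.mem_insert_iff.mp hw with rfl | hw'
      · exact Or.inr (adj_symm hH ((adj_zero hH z).mpr hz'))
      · by_cases e : w = z
        · exact Or.inl e
        · exact Or.inr (h z w hz' hw' (Ne.symm e))
  have hgcl : ∀ g ∈ H, ∀ z, g '' cl z = cl (g z) := by
    intro g hg z
    ext w
    obtain ⟨v, rfl⟩ := g.surjective w
    rw [g.injective.mem_set_image]
    exact or_congr g.injective.eq_iff.symm (adj_smul hH hg z v).symm
  haveI : MulAction.IsPretransitive H (Fin NN) := ⟨fun x y => by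
    obtain ⟨g, hg, hx⟩ := exists_zero hH x
    obtain ⟨k, hk, hy⟩ := hH.trans y
    exact ⟨⟨k * g, mul_mem hk hg⟩, by show (k * g) x = y; rw [Equiv.Perm.mul_apply, hx, hy]⟩⟩
  have hB : MulAction.IsBlock H C := by
    rw [MulAction.isBlock_iff_smul_eq_or_disjoint]
    intro g
    by_contra hcon
    simp only [not_or, Set.not_disjoint_iff] at hcon
    obtain ⟨hne, w, ⟨z, hz, rfl⟩, hw⟩ := hcon
    refine hne ?_
    have e : (g • C : Set (Fin NN)) = (g : Equiv.Perm (Fin NN)) '' C := rfl
    rw [e]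
    conv_lhs => rw [← hin z hz]
    rw [hgcl g g.2 z]
    exact hin _ hw
  have hd := hB.ncard_dvd_card ⟨o0, Set.mem_insert _ _⟩
  rw [hC, hcl, Nat.card_fin] at hd
  exact absurd hd (by decide)

end Basic

/-! ### Counting along orbit trees -/

/-- The neighbours of a point, on the numbers of the points. -/
noncomputable def nb (H : Subgroup (Equiv.Perm (Fin NN))) (b : Fin NN) (k : ℕ) : Bool :=
  haveI := Classical.propDecidable (∃ h : k < NN, adj H b ⟨k, h⟩)
  decide (∃ h : k < NN, adj H b ⟨k, h⟩)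

theorem nb_iff {H : Subgroup (Equiv.Perm (Fin NN))} {b : Fin NN} {k : ℕ} (h : k < NN) :
    nb H b k = true ↔ adj H b ⟨k, h⟩ := by
  simp only [nb, decide_eq_true_eq]
  exact ⟨fun ⟨_, e⟩ => e, fun e => ⟨h, e⟩⟩

theorem ncard_eq_countP {n : ℕ} (P : Fin n → Prop) (f : ℕ → Bool)
    (hf : ∀ x : Fin n, f x = true ↔ P x) : ({x | P x} : Set (Fin n)).ncard = (List.range n).countP f := by
  rw [List.countP_eq_length_filter, ← List.toFinset_card_of_nodup (List.nodup_range.filter _),
    ← Set.ncard_coe_finset, ← Set.ncard_image_of_injective _ Fin.val_injective]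
  congr 1
  ext k
  simp only [Set.mem_image, Set.mem_ofPred_eq, List.coe_toFinset, List.mem_filter, List.mem_range]
  exact ⟨by rintro ⟨x, hx, rfl⟩; exact ⟨x.2, (hf x).mpr hx⟩, fun ⟨hk, h⟩ => ⟨⟨k, hk⟩, (hf _).mp h, rfl⟩⟩

theorem perm_range {l : List ℕ} {n : ℕ} (hlen : l.length = n) (h : ∀ k < n, k ∈ l) :
    l.Perm (List.range n) :=
  ((List.subperm_of_subset List.nodup_range fun k hk => h k (List.mem_range.mp hk)).perm_of_length_le
    (by rw [hlen, List.length_range])).symm

theorem count_block (f : ℕ → Bool) {r : ℕ} {es : List ℕ} (h : ∀ k ∈ r :: pts es, f k = f r) :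
    (r :: pts es).countP f = cond (f r) (es.length + 1) 0 := by
  cases hb : f r
  · exact List.countP_eq_zero.mpr fun k hk => by rw [h k hk, hb]; exact Bool.false_ne_true
  · rw [List.countP_eq_length.mpr fun k hk => by rw [h k hk, hb]]
    simp [pts]

section Orbits

variable {H : Subgroup (Equiv.Perm (Fin NN))} (hH : Rk3 H)
include hH

theorem adj_ncard_count (b : Fin NN) : (List.range NN).countP (nb H b) = 1755 := by
  rw [← ncard_eq_countP (fun y => adj H b y) _ (fun x => nb_iff x.2)]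
  exact adj_ncard hH b

theorem nb_const {b : Fin NN} {tab : List PT} (hT : ∀ t ∈ tab, ∃ σ ∈ St, Rep σ t)
    (hpre : preOK [(b : ℕ)] tab = true) {r : ℕ} {es : List ℕ} (hr : r < NN)
    (ht : treeOK NN tab es (1 <<< r) = true) (hlt : ∀ k ∈ r :: pts es, k < NN) :
    ∀ k ∈ r :: pts es, nb H b k = nb H b r := by
  intro k hk
  obtain ⟨S, -, hm, hS⟩ := orbit_spec (H := fixSub St [(b : ℕ)]) (fix_tab hT hpre) ⟨r, hr⟩ ht
  obtain ⟨σ, hσ, e⟩ := hS ⟨k, hlt k hk⟩ ((hm _).mpr (by
    rcases List.mem_cons.mp hk with rfl | h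
    · exact Or.inl rfl
    · exact Or.inr h))
  rw [Bool.eq_iff_iff, nb_iff (hlt k hk), nb_iff hr, ← adj_smul hH (hH.st_le hσ.1) b ⟨r, hr⟩,
    hσ.2 b List.mem_cons_self, e]

end Orbits

/-- The neighbour count of a point splits along the orbits. -/
theorem sum_blocks (f : ℕ → Bool) : ∀ orbs : List (ℕ × List ℕ),
    (∀ o ∈ orbs, ∀ k ∈ o.1 :: pts o.2, f k = f o.1) →
      (orbs.flatMap fun o => o.1 :: pts o.2).countP f =
        (List.zipWith (fun (v : Bool) (n : ℕ) => cond v n 0) (orbs.map fun o => f o.1)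
          (orbs.map fun o => o.2.length + 1)).sum
  | [], _ => rfl
  | o :: os, h => by
    rw [List.flatMap_cons, List.countP_append, count_block f (h o List.mem_cons_self),
      sum_blocks f os fun p hp => h p (List.mem_cons_of_mem _ hp)]
    rfl

theorem pts_lt {tab : List PT} : ∀ {es : List ℕ} {m : ℕ}, treeOK NN tab es m = true → ∀ k ∈ pts es, k < NN
  | [], _, _, k, hk => by simp [pts] at hk
  | e :: es, m, h, k, hk => by
    simp only [treeOK, force_eq, Bool.and_eq_true, Nat.blt_eq] at h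
    simp only [pts, List.map_cons, List.mem_cons] at hk
    rcases hk with rfl | hk
    · exact h.1.1.1.1.1.1
    · exact pts_lt h.2 k hk

theorem sum_lengths (orbs : List (ℕ × List ℕ)) :
    (orbs.flatMap fun o => o.1 :: pts o.2).length = (orbs.map fun o => o.2.length + 1).sum := by
  rw [List.length_flatMap]
  exact congrArg List.sum (List.map_congr_left fun o _ => by simp [pts])

/-- The six possible choices in the stabiliser of the near point. -/
theorem pbits : ∀ a b c d e f : Bool,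
    cond a 1280 0 + (cond b 1024 0 + (cond c 1024 0 + (cond d 10 0 + (cond e 640 0 + cond f 80 0)))) = 1754 →
      [a, b, c, d, e, f] = [false, true, false, true, true, true] ∨
        [a, b, c, d, e, f] = [false, false, true, true, true, true] := by decide +kernel

/-- The possible choices in the stabiliser of the far point. -/
theorem kbits : ∀ a b c d e : Bool,
    cond a 650 0 + (cond b 975 0 + (cond c 300 0 + (cond d 300 0 + cond e 78 0))) = 975 →
      [a, b, c, d, e] = [false, true, false, false, false] := by decide +kernel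

theorem tab46 : ∀ t ∈ tabs [p46, p48], ∃ σ ∈ St, Rep σ t :=
  RuPermGroup66.pair_tabs inv46 inv48 RuPermGroup66.mem46 RuPermGroup66.mem48

theorem tabK : ∀ t ∈ tabs [tx, tf, th0], ∃ σ ∈ St, Rep σ t := el_tabs fun q hq => ⟨by
  simp only [List.mem_cons, List.not_mem_nil, or_false] at hq
  rcases hq with rfl | rfl | rfl
  · exact ⟨txW, by simp [defList]⟩
  · exact ⟨tfW, by simp [defList]⟩
  · exact ⟨th0W, by simp [defList]⟩, (el q).2⟩

section Determine

variable {H : Subgroup (Equiv.Perm (Fin NN))} (hH : Rk3 H)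
include hH

theorem nb_p_const : ∀ o ∈ pOrbs, ∀ k ∈ o.1 :: pts o.2, nb H o1 k = nb H o1 o.1 := by
  intro o ho
  have h := pOrbs_ok
  simp only [Bool.and_eq_true, List.all_eq_true, Nat.blt_eq] at h
  obtain ⟨⟨⟨⟨⟨ht, -⟩, -⟩, -⟩, -⟩, hpre⟩ := h
  refine nb_const hH (b := o1) tab46 hpre (ht o ho).2 (ht o ho).1 fun k hk => ?_
  rcases List.mem_cons.mp hk with rfl | h'
  · exact (ht o ho).2
  · exact pts_lt (ht o ho).1 k h'

/-- The neighbours of the near point. -/
theorem pB : (pOrbs.map fun o => nb H o1 o.1) = [false, true, false, true, true, true] := by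
  have h := pOrbs_ok
  simp only [Bool.and_eq_true, beq_iff_eq] at h
  obtain ⟨⟨⟨⟨⟨-, hcov⟩, hsz⟩, hfar⟩, -⟩, -⟩ := h
  have hperm : (0 :: 2305 :: pOrbs.flatMap fun o => o.1 :: pts o.2).Perm (List.range NN) := by
    refine perm_range ?_ fun k hk => ?_
    · rw [List.length_cons, List.length_cons, sum_lengths, hsz]; rfl
    · rcases Nat.eq_zero_or_pos k with rfl | hpos
      · exact List.mem_cons_self
      · exact List.mem_cons_of_mem _ (mem_of_coverOK hcov hk hpos)
  have hcount := adj_ncard_count hH o1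
  have h0 : nb H o1 0 = true :=
    (nb_iff (by norm_num)).mpr (adj_symm hH ((adj_zero hH o1).mpr (by simp [o1])))
  have h1 : nb H o1 2305 = false := Bool.eq_false_iff.mpr fun e => not_adj_self hH o1 ((nb_iff o1.2).mp e)
  rw [← hperm.countP_eq, List.countP_cons, List.countP_cons, h0, h1,
    sum_blocks _ _ (nb_p_const hH), hsz] at hcount
  simp only [pOrbs, List.map_cons, List.map_nil, List.zipWith_cons_cons, List.zipWith_nil_left,
    List.sum_cons, List.sum_nil, add_zero, if_true, Bool.false_eq_true, if_false] at hcount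
  have key : cond (nb H o1 pR0) 1280 0 + (cond (nb H o1 pR1) 1024 0 + (cond (nb H o1 pR2) 1024 0 +
      (cond (nb H o1 pR3) 10 0 + (cond (nb H o1 pR4) 640 0 + cond (nb H o1 pR5) 80 0)))) = 1754 := by omega
  rcases pbits _ _ _ _ _ _ key with e | e
  · exact e
  · exfalso
    refine not_clique hH fun y z hy hz hyz => ?_
    obtain ⟨σ, hσ⟩ := near_transitive hy
    rw [← hσ, ← adj_smul hH (inv_mem (hH.st_le σ.2))]
    rw [show (σ : Equiv.Perm (Fin NN))⁻¹ (σ • o1) = o1 from Equiv.Perm.inv_eq_iff_eq.mpr rfl]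
    set w := (σ : Equiv.Perm (Fin NN))⁻¹ z with hw
    have hwn : 2305 ≤ (w : ℕ) := (RuPermGroup66.keep (inv_mem σ.2) z).mp hz
    have hwne : w ≠ o1 := fun e' => hyz (by
      rw [← hσ, smul_def, ← e', hw]; exact Equiv.Perm.inv_eq_iff_eq.mp rfl |>.symm)
    have hmem := mem_of_coverOK hcov w.2 (by omega)
    rcases List.mem_cons.mp hmem with e' | e'
    · exact absurd (Fin.ext e') hwne
    · obtain ⟨o, ho, hko⟩ := List.mem_flatMap.mp e'
      refine (nb_iff w.2).mp ?_
      rw [nb_p_const hH o ho _ hko]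
      simp only [List.all_eq_true, List.mem_flatMap, Nat.blt_eq] at hfar
      simp only [List.cons.injEq, and_true] at e
      simp only [pOrbs, List.mem_cons, List.not_mem_nil, or_false] at ho
      rcases ho with rfl | rfl | rfl | rfl | rfl | rfl
      · have := (hfar _ ⟨_, by simp [pOrbs], hko⟩); simp only [Bool.and_eq_true, Nat.blt_eq] at this; omega
      · have := (hfar _ ⟨_, by simp [pOrbs], hko⟩); simp only [Bool.and_eq_true, Nat.blt_eq] at this; omega
      · exact e.2.2.1
      · exact e.2.2.2.1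
      · exact e.2.2.2.2.1
      · exact e.2.2.2.2.2

end Determine

theorem det_o1 {H H' : Subgroup (Equiv.Perm (Fin NN))} (hH : Rk3 H) (hH' : Rk3 H') (y : Fin NN) :
    adj H o1 y ↔ adj H' o1 y := by
  rcases Nat.eq_zero_or_pos (y : ℕ) with h0 | hpos
  · rw [show y = o0 from Fin.ext h0]
    exact iff_of_true (adj_symm hH ((adj_zero hH o1).mpr (by simp [o1])))
      (adj_symm hH' ((adj_zero hH' o1).mpr (by simp [o1])))
  · have h := pOrbs_ok
    simp only [Bool.and_eq_true] at h
    rcases List.mem_cons.mp (mem_of_coverOK h.1.1.1.1.2 y.2 hpos) with e | e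
    · rw [show y = o1 from Fin.ext e]
      exact iff_of_false (not_adj_self hH _) (not_adj_self hH' _)
    · obtain ⟨o, ho, hk⟩ := List.mem_flatMap.mp e
      rw [← nb_iff (H := H) y.2, ← nb_iff (H := H') y.2, nb_p_const hH o ho _ hk, nb_p_const hH' o ho _ hk,
        List.map_inj_left.mp ((pB hH).trans (pB hH').symm) o ho]

theorem det_near {H H' : Subgroup (Equiv.Perm (Fin NN))} (hH : Rk3 H) (hH' : Rk3 H') {x : Fin NN}
    (hx : 2305 ≤ (x : ℕ)) (y : Fin NN) : adj H x y ↔ adj H' x y := by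
  obtain ⟨σ, rfl⟩ := near_transitive hx
  obtain ⟨w, rfl⟩ := (σ : Equiv.Perm (Fin NN)).surjective y
  rw [smul_def, adj_smul hH (hH.st_le σ.2), adj_smul hH' (hH'.st_le σ.2), det_o1 hH hH']

/-! ### The group of the lines -/

theorem fix_GG : fixSub GG [0] = St := by
  refine (Subgroup.eq_of_le_of_card_ge RuPermGroup66.St_le ?_).symm
  rw [card_St, ← RuPermGroup66.card_stab hcard]
  exact Nat.card_le_card_of_injective
    (fun g : fixSub GG [0] => (⟨⟨g.1, g.2.1⟩, g.2.2 o0 List.mem_cons_self⟩ : MulAction.stabilizer GG o0))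
    fun a b e => Subtype.ext (congrArg (fun g : MulAction.stabilizer GG o0 => ((g : GG) : Equiv.Perm (Fin NN))) e)

theorem rk3_GG : Rk3 GG where
  trans := RuPermGroup66.transitive_GG
  stab g := by
    rw [← fix_GG]
    refine ⟨fun h => ⟨h.1, h.2 o0 List.mem_cons_self⟩, fun h => ⟨h.1, fun k hk => ?_⟩⟩
    rw [show k = o0 from Fin.ext (List.mem_singleton.mp hk)]
    exact h.2

theorem ggT_rep : ∀ t ∈ ggT, ∃ σ ∈ GG, Rep σ t := by
  have hs : ∀ {g}, g ∈ St → g ∈ GG := fun {g} hg => rk3_GG.st_le hg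
  refine exists_tabs ?_ ?_
  · simp [inv8, inv10, inv12, inv14, inv16, inv18, inv20, inv22, inv24, inv26, inv28, inv46, inv48, inv50,
      inv52]
  · intro q hq
    simp only [List.mem_cons, List.not_mem_nil, or_false] at hq
    open RuPermGroup66 in
    rcases hq with rfl | rfl | rfl | rfl | rfl | rfl | rfl | rfl | rfl | rfl | rfl | rfl | rfl | rfl | rfl
    exacts [ga_mem, gb_mem, ab_le mem12, ab_le mem14, ab_le mem16, ab_le mem18, ab_le mem20, ab_le mem22,
      ab_le mem24, hs mem26, hs mem28, hs mem46, hs mem48, hs mem50, hs mem52]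

/-- A word moving a point to the first one computes its adjacencies. -/
theorem adjW_spec {b : Fin NN} {w : List ℕ} (h : wordOK b w = true) (y : Fin NN) :
    adjW w y = true ↔ adj GG b y := by
  simp only [wordOK, Bool.and_eq_true, List.all_eq_true, Nat.blt_eq, Nat.beq_eq] at h
  obtain ⟨σ, hσ, hs⟩ := exists_word ggT_rep w h.1
  rw [adj_iff rk3_GG hσ (Fin.ext ((hs b).trans h.2)), hs y, adjW, Nat.ble_eq]

theorem adjW_nb {b : Fin NN} {w : List ℕ} (h : wordOK b w = true) {k : ℕ} (hk : k < NN) :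
    adjW w k = nb GG b k := by
  rw [Bool.eq_iff_iff, nb_iff hk, ← adjW_spec h ⟨k, hk⟩]

/-! ### The far point -/

section Far

variable {H : Subgroup (Equiv.Perm (Fin NN))} (hH : Rk3 H)
include hH

theorem nb_k_const : ∀ o ∈ kOrbs, ∀ k ∈ o.1 :: pts o.2, nb H (pt 1) k = nb H (pt 1) o.1 := by
  intro o ho
  have h := kOrbs_ok
  simp only [Bool.and_eq_true, List.all_eq_true, Nat.blt_eq] at h
  obtain ⟨⟨⟨⟨⟨⟨ht, -⟩, -⟩, -⟩, -⟩, -⟩, hpre⟩ := h
  refine nb_const hH (b := pt 1) tabK hpre (ht o ho).2 (ht o ho).1 fun k hk => ?_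
  rcases List.mem_cons.mp hk with rfl | h'
  · exact (ht o ho).2
  · exact pts_lt (ht o ho).1 k h'

theorem kB_near {k : ℕ} (hk : k < NN) (hn : 2305 ≤ k) : nb H (pt 1) k = nb GG (pt 1) k := by
  rw [Bool.eq_iff_iff, nb_iff hk, nb_iff hk]
  exact ⟨fun h => adj_symm rk3_GG ((det_near hH rk3_GG hn _).mp (adj_symm hH h)),
    fun h => adj_symm hH ((det_near hH rk3_GG hn _).mpr (adj_symm rk3_GG h))⟩

/-- The neighbours of the far point. -/
theorem kB : (kOrbs.map fun o => nb H (pt 1) o.1) = [false, true, false, false, false, false, true] := by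
  have h := kOrbs_ok
  simp only [Bool.and_eq_true, beq_iff_eq] at h
  obtain ⟨⟨⟨⟨⟨⟨hall, hcov⟩, hsz⟩, -⟩, hnear⟩, -⟩, -⟩ := h
  simp only [List.all_eq_true, Bool.and_eq_true, Nat.blt_eq] at hall
  simp only [List.all_eq_true, List.mem_flatMap, Nat.ble_eq] at hnear
  have hkv := kval_ok
  simp only [Bool.and_eq_true, beq_iff_eq, List.map_cons, List.map_nil, List.cons.injEq, and_true] at hkv
  obtain ⟨hw, -, -, -, -, -, hv5, hv6⟩ := hkv
  have l5 : kR5 < NN := (hall (kR5, kO5) (by simp [kOrbs])).2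
  have l6 : kR6 < NN := (hall (kR6, kO6) (by simp [kOrbs])).2
  have e5 : nb H (pt 1) kR5 = false := by
    rw [kB_near hH l5 (hnear _ ⟨(kR5, kO5), by simp [kOrbs], List.mem_cons_self⟩),
      ← adjW_nb (b := pt 1) (w := wOne) hw l5, hv5]
  have e6 : nb H (pt 1) kR6 = true := by
    rw [kB_near hH l6 (hnear _ ⟨(kR6, kO6), by simp [kOrbs], List.mem_cons_self⟩),
      ← adjW_nb (b := pt 1) (w := wOne) hw l6, hv6]
  have hperm : (0 :: 1 :: kOrbs.flatMap fun o => o.1 :: pts o.2).Perm (List.range NN) := by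
    refine perm_range ?_ fun k hk => ?_
    · rw [List.length_cons, List.length_cons, sum_lengths, hsz]; rfl
    · rcases Nat.lt_or_ge k 2 with h2 | h2
      · interval_cases k <;> simp
      · exact List.mem_cons_of_mem _ (List.mem_cons_of_mem _ (mem_of_coverOK hcov hk h2))
  have hcount := adj_ncard_count hH (pt 1)
  have h0 : nb H (pt 1) 0 = false := Bool.eq_false_iff.mpr fun e => by
    have := (adj_zero hH _).mp (adj_symm hH ((nb_iff (by norm_num)).mp e) : adj H o0 (pt 1))
    simp [pt] at this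
  have h1 : nb H (pt 1) 1 = false :=
    Bool.eq_false_iff.mpr fun e => not_adj_self hH (pt 1) ((nb_iff (pt 1).2).mp e)
  rw [← hperm.countP_eq, List.countP_cons, List.countP_cons, h0, h1,
    sum_blocks _ _ (nb_k_const hH), hsz] at hcount
  simp only [kOrbs, List.map_cons, List.map_nil, List.zipWith_cons_cons, List.zipWith_nil_left,
    List.sum_cons, List.sum_nil, add_zero, e5, e6, cond_true, cond_false, Bool.false_eq_true, if_false,
    zero_add] at hcount
  have key : cond (nb H (pt 1) kR0) 650 0 + (cond (nb H (pt 1) kR1) 975 0 + (cond (nb H (pt 1) kR2) 300 0 +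
      (cond (nb H (pt 1) kR3) 300 0 + cond (nb H (pt 1) kR4) 78 0))) = 975 := by omega
  have := kbits _ _ _ _ _ key
  simp only [List.cons.injEq, and_true] at this
  simp only [kOrbs, List.map_cons, List.map_nil, this, e5, e6]

end Far

theorem det_one {H H' : Subgroup (Equiv.Perm (Fin NN))} (hH : Rk3 H) (hH' : Rk3 H') (y : Fin NN) :
    adj H (pt 1) y ↔ adj H' (pt 1) y := by
  rcases Nat.lt_or_ge (y : ℕ) 2 with h2 | h2
  · rcases Nat.lt_or_ge (y : ℕ) 1 with h1 | h1
    · rw [show y = o0 from Fin.ext (Nat.lt_one_iff.mp h1)]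
      refine iff_of_false (fun e => ?_) fun e => ?_
      · have := (adj_zero hH _).mp (adj_symm hH e); simp [pt] at this
      · have := (adj_zero hH' _).mp (adj_symm hH' e); simp [pt] at this
    · rw [show y = pt 1 from Fin.ext (show (y : ℕ) = 1 by omega)]
      exact iff_of_false (not_adj_self hH _) (not_adj_self hH' _)
  · have h := kOrbs_ok
    simp only [Bool.and_eq_true] at h
    obtain ⟨o, ho, hk⟩ := List.mem_flatMap.mp (mem_of_coverOK h.1.1.1.1.1.2 y.2 h2)
    rw [← nb_iff (H := H) y.2, ← nb_iff (H := H') y.2, nb_k_const hH o ho _ hk, nb_k_const hH' o ho _ hk,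
      List.map_inj_left.mp ((kB hH).trans (kB hH').symm) o ho]

/-- The orbital of length 1755 does not depend on the group. -/
theorem adj_eq {H : Subgroup (Equiv.Perm (Fin NN))} (hH : Rk3 H) (x y : Fin NN) :
    adj H x y ↔ adj GG x y := by
  by_cases h0 : x = o0
  · rw [h0, adj_zero hH, adj_zero rk3_GG]
  · rcases Nat.lt_or_ge (x : ℕ) 2305 with hfar | hnear
    · obtain ⟨σ, rfl⟩ := far_transitive hfar h0
      obtain ⟨w, rfl⟩ := (σ : Equiv.Perm (Fin NN)).surjective y
      rw [smul_def, adj_smul hH (hH.st_le σ.2), adj_smul rk3_GG (rk3_GG.st_le σ.2), det_one hH rk3_GG]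
    · exact det_near hH rk3_GG hnear y

end Cfsg.Agent.RuRankThree76
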