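import Cfsg.Agent.Lib.RuR3Base76
import Cfsg.Agent.Lib.RuR3CheckC76

/-!
The stabiliser of a line has one class of subgroups of order 20480: each fixes a point of the suborbit
of length 1755.
-/

set_option autoImplicit false
set_option maxRecDepth 10000

namespace Cfsg.Agent.RuRankThree76

open RuPermCert66 RuPermData66
open RuPermGroup66 (St o0 o1)
open scoped Pointwise

theorem rep_pow' {σ : Equiv.Perm (Fin NN)} {t : PT} (h : Rep σ t) (n : ℕ) (k : Fin NN) :
    ((σ ^ n) k : ℕ) = ev [t] (List.replicate n 0) k := RuPermGroup66.rep_pow h n k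

theorem coe_smul_pow (σ : St) (n : ℕ) (x : Fin NN) :
    (σ ^ n) • x = ((σ : Equiv.Perm (Fin NN)) ^ n) x := by rw [smul_def, Subgroup.coe_pow]

/-- A checked list of fixed points of a power of a table. -/
theorem powFix_spec {q : PT × PT} {w : List ℕ} (hq : (q, w) ∈ defList) {n lo : ℕ} {L : List ℕ}
    (h : powFixOK q.1 n lo L = true) (x : Fin NN) :
    (lo ≤ (x : ℕ) ∧ (el q) ^ n • x = x) ↔ (x : ℕ) ∈ L := by
  rw [powFixOK, beq_iff_eq] at h
  rw [← h, List.mem_filter, List.mem_range, Bool.and_eq_true, Nat.ble_eq, Nat.beq_eq, coe_smul_pow]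
  constructor
  · rintro ⟨h1, h2⟩
    exact ⟨x.2, h1, by rw [← rep_pow' (el_rep hq), h2]⟩
  · rintro ⟨-, h1, h2⟩
    exact ⟨h1, Fin.ext (by rw [rep_pow' (el_rep hq), h2])⟩

theorem pow_eq_one_of_fix {q : PT × PT} {w : List ℕ} (hq : (q, w) ∈ defList) {n : ℕ}
    (h : powFixOK q.1 n 0 (List.range NN) = true) : el q ^ n = 1 := by
  refine Subtype.ext (Equiv.ext fun x => ?_)
  have h1 := ((powFix_spec hq h x).mpr (List.mem_range.mpr x.2)).2
  rwa [coe_smul_pow] at h1

theorem ty_mem : (ty, tyW) ∈ defList := by simp [defList]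
theorem tx_mem : (tx, txW) ∈ defList := by simp [defList]
theorem tf_mem : (tf, tfW) ∈ defList := by simp [defList]
theorem tg_mem : (tg, tgW) ∈ defList := by simp [defList]

/-- The element of order sixteen. -/
noncomputable def yy : St := el ty

theorem yy_pow : yy ^ 16 = 1 := pow_eq_one_of_fix ty_mem x_order.2.2.2

theorem perm_five : ∀ σ : Equiv.Perm (Fin 5), σ ^ 16 = 1 → σ ^ 4 = 1 := by decide +kernel

/-- A power of a two-element fixes a set of five points pointwise. -/
theorem pow_four_fixes {G α : Type*} [Group G] [MulAction G α] {y : G} (hy : y ^ 16 = 1) (O : Set α)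
    [Finite O] (hO : Nat.card O = 5) (hinv : ∀ x ∈ O, y • x ∈ O) {x : α} (hx : x ∈ O) : y ^ 4 • x = x := by
  let f : O → O := fun a => ⟨y • a.1, hinv a.1 a.2⟩
  have hf : Function.Injective f := fun a b e =>
    Subtype.ext (MulAction.injective y (congrArg Subtype.val e))
  let σ : Equiv.Perm O := Equiv.ofBijective f (Finite.injective_iff_bijective.mp hf)
  have hpow : ∀ (n : ℕ) (a : O), (((σ ^ n) a : O) : α) = y ^ n • a.1 := by
    intro n
    induction n with
    | zero => intro a; simp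
    | succ n ih =>
      intro a
      rw [pow_succ', pow_succ', mul_smul, ← ih a, Equiv.Perm.mul_apply]
      rfl
  let e : O ≃ Fin 5 := (Finite.equivFin O).trans (finCongr hO)
  have h16 : σ ^ 16 = 1 := Equiv.ext fun a => Subtype.ext (by rw [hpow, hy, one_smul]; rfl)
  have h4 : σ ^ 4 = 1 := by
    have h := perm_five (e.permCongrHom σ) (by rw [← map_pow, h16, map_one])
    rw [← map_pow] at h
    exact (MulEquiv.map_eq_one_iff _).mp h
  rw [← hpow 4 ⟨x, hx⟩, h4]
  rfl

theorem fix_y4 {x : Fin NN} (hx : 2305 ≤ (x : ℕ)) (h : yy ^ 4 • x = x) :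
    (x : ℕ) = 2305 ∨ (x : ℕ) = 4052 ∨ (x : ℕ) = 4055 := by
  have := (powFix_spec ty_mem y_fix.1 x).mp ⟨hx, h⟩
  simpa using this

theorem fix_y {x : Fin NN} (hx : 2305 ≤ (x : ℕ)) (h : yy • x = x) : x = o1 := by
  have := (powFix_spec ty_mem y_fix.2 x).mp ⟨hx, by rw [pow_one]; exact h⟩
  exact Fin.ext (by simpa [o1] using this)

theorem two_pow_twelve_le {n : ℕ} (h : 2 ^ 12 ∣ n) (hn : n ∣ 35942400) : ¬ 2 ^ 13 ∣ n := fun h' =>
  absurd (h'.trans hn) (by decide)

/-- A subgroup of order 20480 fixes a point of the suborbit of length 1755. -/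
theorem sub_20480 (P : Subgroup St) (hP : Nat.card P = 20480) :
    ∃ σ : St, P = MulAction.stabilizer St (σ • o1) := by
  haveI : Fact (Nat.Prime 2) := ⟨by norm_num⟩
  have hyP : IsPGroup 2 (Subgroup.zpowers yy) := by
    obtain ⟨j, -, hj⟩ := (Nat.dvd_prime_pow (by norm_num : Nat.Prime 2)).mp
      (orderOf_dvd_of_pow_eq_one (show yy ^ (2 ^ 4) = 1 from yy_pow))
    exact IsPGroup.of_card (n := j) (by rw [Nat.card_zpowers, hj])
  obtain ⟨U, hU⟩ := hyP.exists_le_sylow
  have hUc : Nat.card (U : Subgroup St) = 4096 := by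
    rw [U.card_eq_multiplicity, card_St]
    have : (35942400 : ℕ).factorization 2 = 12 := by
      rw [← Nat.multiplicity_eq_factorization (by norm_num) (by norm_num)]
      exact multiplicity_eq_of_dvd_of_not_dvd (by norm_num) (by norm_num)
    rw [this]; norm_num
  have hsyl : ∀ Q : Subgroup St, 4096 ∣ Nat.card Q → ∃ σ : St, (U : Subgroup St) ≤ MulAut.conj σ • Q := by
    intro Q hQ
    obtain ⟨R, hR⟩ := Sylow.exists_subgroup_card_pow_prime (G := Q) 2 (n := 12) (by simpa using hQ)
    have hRc : Nat.card (R.map Q.subtype) = Nat.card (U : Subgroup St) := by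
      rw [Subgroup.card_subtype, hR, hUc]; norm_num
    let R' : Sylow 2 St := Sylow.ofCard (R.map Q.subtype) (hRc.trans U.card_eq_multiplicity)
    obtain ⟨σ, hσ⟩ := MulAction.exists_smul_eq St R' U
    refine ⟨σ, ?_⟩
    rw [← hσ]
    exact Subgroup.pointwise_smul_le_pointwise_smul_iff.mpr (Subgroup.map_subtype_le R)
  obtain ⟨τ, hτ⟩ := hsyl (MulAction.stabilizer St o1) (by rw [card_stab_near]; norm_num)
  have hUfix : (U : Subgroup St) ≤ MulAction.stabilizer St o1 := by
    have h1 : MulAut.conj τ • MulAction.stabilizer St o1 = MulAction.stabilizer St (τ • o1) :=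
      (MulAction.stabilizer_smul_eq_stabilizer_map_conj τ o1).symm
    rw [h1] at hτ
    have hp : yy • (τ • o1) = τ • o1 := hτ (hU (Subgroup.mem_zpowers yy))
    rw [fix_y ((near_smul τ o1).mpr le_rfl) hp] at hτ
    exact hτ
  obtain ⟨g, hg⟩ := hsyl P (by rw [hP]; norm_num)
  set P' := MulAut.conj g • P with hP'
  have hP'c : Nat.card P' = 20480 := by
    rw [← hP]
    exact (Nat.card_congr (Subgroup.equivSMul (MulAut.conj g) P).toEquiv).symm
  let O : Set (Fin NN) := MulAction.orbit P' o1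
  have hidx := Subgroup.index_mul_card (MulAction.stabilizer P' o1)
  rw [MulAction.index_stabilizer, hP'c] at hidx
  have hdvd : 4096 ∣ Nat.card (MulAction.stabilizer P' o1) := by
    rw [← hUc]
    refine Subgroup.card_dvd_of_injective
      (MonoidHom.mk' (fun u : (U : Subgroup St) => (⟨⟨u.1, hg u.2⟩, hUfix u.2⟩ : MulAction.stabilizer P' o1))
        fun _ _ => rfl) fun a b e => Subtype.ext ?_
    exact congrArg (fun z : MulAction.stabilizer P' o1 => ((z : P') : St)) e
  obtain ⟨c, hc⟩ := hdvd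
  have h5 : O.ncard * c = 5 := by
    rw [hc] at hidx
    have h' : O.ncard * (4096 * c) = 20480 := hidx
    rw [Nat.mul_left_comm] at h'
    omega
  have hone : O.ncard = 1 := by
    rcases (Nat.dvd_prime (by norm_num : Nat.Prime 5)).mp ⟨c, h5.symm⟩ with h | h
    · exact h
    · exfalso
      have hsub : O ⊆ {x : Fin NN | (x : ℕ) = 2305 ∨ (x : ℕ) = 4052 ∨ (x : ℕ) = 4055} := by
        intro x hx
        obtain ⟨s, rfl⟩ := hx
        have hnear : 2305 ≤ ((s • o1 : Fin NN) : ℕ) := (near_smul (s : St) o1).mpr le_rfl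
        refine fix_y4 hnear (pow_four_fixes yy_pow O (by rw [Nat.card_coe_set_eq]; exact h)
          (fun z hz => ?_) (MulAction.mem_orbit o1 s))
        obtain ⟨s', rfl⟩ := hz
        exact ⟨⟨yy, hg (hU (Subgroup.mem_zpowers yy))⟩ * s', mul_smul _ _ _⟩
      have h3 : ({x : Fin NN | (x : ℕ) = 2305 ∨ (x : ℕ) = 4052 ∨ (x : ℕ) = 4055} : Set (Fin NN)).ncard ≤ 3 := by
        refine le_trans (Set.ncard_le_ncard_of_injOn (fun x : Fin NN => (x : ℕ))
          (t := ({2305, 4052, 4055} : Set ℕ)) (fun x hx => by simpa using hx)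
          (fun a _ b _ e => Fin.ext e) (Set.toFinite _)) ?_
        simp
      have h4 := Set.ncard_le_ncard hsub (Set.toFinite _)
      rw [h] at h4
      omega
  have hfix : P' ≤ MulAction.stabilizer St o1 := by
    intro s hs
    obtain ⟨a, ha⟩ := Set.ncard_eq_one.mp hone
    have h1 : o1 = a := (Set.ext_iff.mp ha _).mp (MulAction.mem_orbit_self o1)
    have h2 : (⟨s, hs⟩ : P') • o1 = a := (Set.ext_iff.mp ha _).mp (MulAction.mem_orbit o1 _)
    exact h2.trans h1.symm
  have heq : P' = MulAction.stabilizer St o1 :=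
    Subgroup.eq_of_le_of_card_ge hfix (by rw [card_stab_near, hP'c])
  refine ⟨g⁻¹, ?_⟩
  rw [MulAction.stabilizer_smul_eq_stabilizer_map_conj, ← heq, hP']
  show P = MulAut.conj g⁻¹ • MulAut.conj g • P
  rw [map_inv, inv_smul_smul]

end Cfsg.Agent.RuRankThree76
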