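import Cfsg.Agent.Lib.RuR3SubA76

/-!
The stabiliser of a line has one class of subgroups of order 15600: each fixes a point of the suborbit of
length 2304. Such a subgroup contains, up to conjugation, a Frobenius group 13:4, and then one further
element normalising the complement, for which seven possibilities remain.
-/

set_option autoImplicit false
set_option maxRecDepth 100000

namespace Cfsg.Agent.RuRankThree76

open RuPermCert66 RuPermData66
open RuPermGroup66 (St o0 o1)
open scoped Pointwise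

/-- The element of order thirteen. -/
noncomputable def xx : St := el tx
/-- The element of order four normalising it. -/
noncomputable def ff : St := el tf
/-- An element permuting the fixed points of the element of order thirteen. -/
noncomputable def gg : St := el tg

theorem xx_pow : xx ^ 13 = 1 := pow_eq_one_of_fix tx_mem x_order.2.1
theorem ff_pow : ff ^ 4 = 1 := pow_eq_one_of_fix tf_mem x_order.2.2.1

theorem el_smul {q : PT × PT} {w : List ℕ} (h : (q, w) ∈ defList) (x : Fin NN) :
    ((el q • x : Fin NN) : ℕ) = get q.1 x := el_apply h x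

theorem xx_ne : xx ≠ 1 := by
  intro h
  have h1 := x_order.1
  rw [x_order.2.1, Bool.true_and] at h1
  have h2 := el_apply tx_mem o1
  rw [show el tx = (1 : St) from h, OneMemClass.coe_one, Equiv.Perm.one_apply] at h2
  rw [show get tx.1 2305 = 2305 from h2.symm] at h1
  simp at h1

theorem order_xx : orderOf xx = 13 :=
  haveI : Fact (Nat.Prime 13) := ⟨by norm_num⟩
  orderOf_eq_prime xx_pow xx_ne

theorem fix_xx {c : Fin NN} (hc : c ≠ o0) (h : xx • c = c) : c = pt 1 ∨ c = pt 470 ∨ c = pt 1954 := by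
  have hpos : 1 ≤ (c : ℕ) := Nat.one_le_iff_ne_zero.mpr fun e => hc (Fin.ext e)
  have := (powFix_spec tx_mem x_fix c).mp ⟨hpos, by rw [pow_one]; exact h⟩
  simp only [List.mem_cons, List.not_mem_nil, or_false] at this
  rcases this with e | e | e
  · exact Or.inl (Fin.ext e)
  · exact Or.inr (Or.inl (Fin.ext e))
  · exact Or.inr (Or.inr (Fin.ext e))

theorem triple_fix {q : PT × PT} (hq : q = tx ∨ q = tf) {c : Fin NN}
    (hc : c = pt 1 ∨ c = pt 470 ∨ c = pt 1954) : el q • c = c := by
  have h := g_cycle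
  simp only [Bool.and_eq_true, List.all_cons, List.all_nil, Bool.and_true, Nat.beq_eq] at h
  obtain ⟨-, ⟨h1, h2, h3⟩, h4, h5, h6⟩ := h
  rcases hq with rfl | rfl <;> rcases hc with rfl | rfl | rfl <;> refine Fin.ext ?_
  · rw [el_smul tx_mem]; exact h1
  · rw [el_smul tx_mem]; exact h2
  · rw [el_smul tx_mem]; exact h3
  · rw [el_smul tf_mem]; exact h4
  · rw [el_smul tf_mem]; exact h5
  · rw [el_smul tf_mem]; exact h6

theorem gg_cycle : gg • pt 1 = pt 470 ∧ gg • pt 470 = pt 1954 ∧ gg • pt 1954 = pt 1 := by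
  have h := g_cycle
  simp only [Bool.and_eq_true, Nat.beq_eq] at h
  obtain ⟨⟨⟨h1, h2⟩, h3⟩, -⟩ := h
  exact ⟨Fin.ext ((el_smul tg_mem _).trans h1), Fin.ext ((el_smul tg_mem _).trans h2),
    Fin.ext ((el_smul tg_mem _).trans h3)⟩

theorem conj_spec {q : PT × PT} {w : List ℕ} (hq : (q, w) ∈ defList) {k : ℕ}
    (h : conjOK q.1 k = true) : el q * xx = xx ^ k * el q := by
  refine Subtype.ext (Equiv.ext fun y => Fin.ext ?_)
  have := allBelow_spec h y y.2
  rw [force_eq, Nat.beq_eq] at this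
  rw [show xx = el tx from rfl, Subgroup.coe_mul, Subgroup.coe_mul, Subgroup.coe_pow, Equiv.Perm.mul_apply,
    Equiv.Perm.mul_apply, el_apply hq, rep_pow' (el_rep tx_mem), el_apply hq]
  rw [el_apply tx_mem y]
  exact this

/-- The normaliser of the group of order 13. -/
noncomputable def NX : Subgroup St := Subgroup.normalizer (Subgroup.zpowers xx : Set St)

theorem mem_NX_of_conj {s : St} {k : ℕ} (h : s * xx = xx ^ k * s) : s ∈ NX := by
  have hle : MulAut.conj s • Subgroup.zpowers xx ≤ Subgroup.zpowers xx := by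
    intro z hz
    rw [Subgroup.mem_smul_pointwise_iff_exists] at hz
    obtain ⟨u, hu, rfl⟩ := hz
    obtain ⟨n, rfl⟩ := hu
    show (MulAut.conj s) (xx ^ n) ∈ _
    rw [map_zpow, MulAut.conj_apply, h, mul_inv_cancel_right]
    exact zpow_mem (pow_mem (Subgroup.mem_zpowers xx) k) n
  have heq : MulAut.conj s • Subgroup.zpowers xx = Subgroup.zpowers xx :=
    Subgroup.eq_of_le_of_card_ge hle
      (le_of_eq (Nat.card_congr (Subgroup.equivSMul (MulAut.conj s) _).toEquiv))
  rw [NX, Subgroup.mem_normalizer_iff]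
  intro z
  conv_rhs => rw [← heq, Subgroup.mem_smul_pointwise_iff_exists]
  constructor
  · exact fun hz => ⟨z, hz, rfl⟩
  · rintro ⟨u, hu, e⟩
    rwa [← (MulAut.conj s).injective (e : MulAut.conj s u = MulAut.conj s z)]

theorem xx_mem_NX : xx ∈ NX := mem_NX_of_conj (k := 1) (by rw [pow_one])
theorem ff_mem_NX : ff ∈ NX := mem_NX_of_conj (conj_spec tf_mem conj_tf)
theorem gg_mem_NX : gg ∈ NX := mem_NX_of_conj (conj_spec tg_mem conj_tg)

theorem NX_perm {n : St} (hn : n ∈ NX) {c : Fin NN} (hc : c = pt 1 ∨ c = pt 470 ∨ c = pt 1954) :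
    n • c = pt 1 ∨ n • c = pt 470 ∨ n • c = pt 1954 := by
  refine fix_xx (fun e => ?_) ?_
  · have h := congrArg (fun z : Fin NN => (z : ℕ)) ((zero_smul_iff n c).mp e)
    rcases hc with rfl | rfl | rfl <;> simp [pt, o0] at h
  · have hmem : n⁻¹ * xx * n⁻¹⁻¹ ∈ Subgroup.zpowers xx :=
      (Subgroup.mem_normalizer_iff.mp (inv_mem hn) xx).mp (Subgroup.mem_zpowers xx)
    obtain ⟨j, hj⟩ := hmem
    have hfix : xx ^ j • c = c := by
      have hx : xx ∈ MulAction.stabilizer St c := triple_fix (Or.inl rfl) hc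
      exact (MulAction.stabilizer St c).zpow_mem hx j
    have e : xx * n = n * xx ^ j := by
      rw [show xx ^ j = n⁻¹ * xx * n⁻¹⁻¹ from hj]
      group
    rw [← mul_smul, e, mul_smul, hfix]

theorem divisor_13 : ∀ n ∈ Nat.divisors 1200, 312 * n ≥ 15600 → n % 13 = 1 → n = 300 := by decide +kernel

/-- In a group of order dividing 15600 with a small normaliser of the group of order 13, that normaliser
has order 52. -/
theorem card_normalizer_13 {K : Type*} [Group K] [Finite K] (hK : Nat.card K = 15600) {x : K}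
    (hx : orderOf x = 13) (hN : Nat.card (Subgroup.normalizer (Subgroup.zpowers x : Set K)) ≤ 312) :
    Nat.card (Subgroup.normalizer (Subgroup.zpowers x : Set K)) = 52 := by
  haveI : Fact (Nat.Prime 13) := ⟨by norm_num⟩
  have hP : Nat.card (Subgroup.zpowers x) = 13 := by rw [Nat.card_zpowers, hx]
  have hfac : (15600 : ℕ).factorization 13 = 1 := by
    rw [← Nat.multiplicity_eq_factorization (by norm_num) (by norm_num)]
    exact multiplicity_eq_of_dvd_of_not_dvd (by norm_num) (by norm_num)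
  let P : Sylow 13 K := Sylow.ofCard (Subgroup.zpowers x) (by rw [hP, hK, hfac, pow_one])
  have hn : Nat.card (Sylow 13 K) = (Subgroup.normalizer (Subgroup.zpowers x : Set K)).index :=
    P.card_eq_index_normalizer
  have hmod : Nat.card (Sylow 13 K) % 13 = 1 := card_sylow_modEq_one 13 K
  have hle : Subgroup.zpowers x ≤ Subgroup.normalizer (Subgroup.zpowers x : Set K) := Subgroup.le_normalizer
  obtain ⟨m, hm⟩ := Subgroup.card_dvd_of_le hle
  rw [hP] at hm
  have hi := Subgroup.index_mul_card (Subgroup.normalizer (Subgroup.zpowers x : Set K))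
  rw [hK, ← hn] at hi
  generalize Nat.card (Sylow 13 K) = n at hi hmod
  generalize Nat.card (Subgroup.normalizer (Subgroup.zpowers x : Set K)) = c at hi hm hN ⊢
  have hdvd : n ∈ Nat.divisors 1200 := Nat.mem_divisors.mpr ⟨⟨m, by subst hm; ring_nf at hi ⊢; omega⟩, by norm_num⟩
  have := divisor_13 n hdvd (by calc 15600 = n * c := hi.symm
      _ ≤ n * 312 := Nat.mul_le_mul_left n hN
      _ = 312 * n := mul_comm _ _) hmod
  subst this
  omega

/-- The normaliser of the subgroup of order 13 inside a subgroup. -/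
theorem normalizer_in (K : Subgroup St) (hx : xx ∈ K) :
    (Subgroup.normalizer (Subgroup.zpowers (⟨xx, hx⟩ : K) : Set K)) = NX.subgroupOf K := by
  have hmap : ∀ z : K, z ∈ Subgroup.zpowers (⟨xx, hx⟩ : K) ↔ (z : St) ∈ Subgroup.zpowers xx := by
    intro z
    simp only [Subgroup.mem_zpowers_iff]
    exact exists_congr fun j => by rw [← Subtype.coe_inj, SubgroupClass.coe_zpow]
  ext k
  rw [Subgroup.mem_subgroupOf, NX, Subgroup.mem_normalizer_iff, Subgroup.mem_normalizer_iff]
  constructor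
  · intro h z
    constructor
    · intro hz
      have hzK : z ∈ K := (Subgroup.zpowers_le.mpr hx) hz
      exact (hmap _).mp ((h ⟨z, hzK⟩).mp ((hmap _).mpr hz))
    · intro hz
      have hzK : z ∈ K := by
        have h1 : (k : St) * z * (k : St)⁻¹ ∈ K := (Subgroup.zpowers_le.mpr hx) hz
        have h2 := mul_mem (mul_mem (inv_mem k.2) h1) k.2
        simpa [mul_assoc] using h2
      exact (hmap ⟨z, hzK⟩).mp ((h ⟨z, hzK⟩).mpr ((hmap _).mpr hz))
  · intro h z
    exact ((hmap z).trans (h z)).trans (hmap (k * z * k⁻¹)).symm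

/-- The normaliser of the element in a subgroup, as a subgroup of the whole group. -/
theorem card_normalizer_in (K : Subgroup St) (hx : xx ∈ K) :
    Nat.card (Subgroup.normalizer (Subgroup.zpowers (⟨xx, hx⟩ : K) : Set K)) = Nat.card (NX ⊓ K : Subgroup St) := by
  rw [normalizer_in, ← Subgroup.card_subtype K (NX.subgroupOf K), Subgroup.subgroupOf_map_subtype]

/-- Orders of the orbit and of the stabiliser. -/
theorem card_le_orbit_mul {G α : Type*} [Group G] [MulAction G α] (a : α) (S : Set α) (hS : S.Finite)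
    (h : ∀ g : G, g • a ∈ S) : Nat.card G ≤ S.ncard * Nat.card (MulAction.stabilizer G a) := by
  rw [← Subgroup.index_mul_card (MulAction.stabilizer G a), MulAction.index_stabilizer]
  refine Nat.mul_le_mul_right _ (Set.ncard_le_ncard ?_ hS)
  rintro x ⟨g, rfl⟩
  exact h g

theorem xx_fix_one : xx ∈ MulAction.stabilizer St (pt 1) := triple_fix (Or.inl rfl) (Or.inl rfl)

theorem tree_470 : 300 ≤ (MulAction.orbit (MulAction.stabilizer St (pt 1)) (pt 470)).ncard := by
  have hk := kOrbs_ok
  simp only [Bool.and_eq_true, List.all_eq_true] at hk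
  obtain ⟨⟨⟨⟨⟨⟨h1, -⟩, h3⟩, -⟩, -⟩, h6⟩, h7⟩ := hk
  have hlen : kO2.length + 1 = 300 ∧ kO3.length + 1 = 300 := by
    simp only [kOrbs, List.map_cons, List.map_nil, beq_iff_eq, List.cons.injEq] at h3
    exact ⟨h3.2.2.1, h3.2.2.2.1⟩
  have hel : ∀ q ∈ [tx, tf, th0], (∃ w, (q, w) ∈ defList) ∧
      ((el q : St) : Equiv.Perm (Fin NN)) ∈ fixSub St [1] := by
    intro q hq
    simp only [List.mem_cons, List.not_mem_nil, or_false] at hq
    have hm : ∃ w, (q, w) ∈ defList := by
      rcases hq with rfl | rfl | rfl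
      · exact ⟨txW, tx_mem⟩
      · exact ⟨tfW, tf_mem⟩
      · exact ⟨th0W, by simp [defList]⟩
    refine ⟨hm, (el q).2, fun k hk => ?_⟩
    rw [List.mem_singleton] at hk
    refine Fin.ext ?_
    obtain ⟨w, hw⟩ := hm
    rw [el_apply hw, hk]
    simp only [preOK, tabs, List.all_eq_true, List.mem_flatMap, Nat.beq_eq] at h7
    exact h7 q.1 ⟨q, by simpa using hq, by simp⟩ 1 (by simp)
  have hpt : ∀ r (es : List ℕ), (r, es) ∈ kOrbs → 470 ∈ r :: pts es →
      es.length + 1 ≤ (MulAction.orbit (MulAction.stabilizer St (pt 1)) (pt 470)).ncard := by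
    intro r es hmem h470
    have ht := h1 _ hmem
    simp only [Nat.blt_eq] at ht
    obtain ⟨S, hS, hSm, hSr⟩ := orbit_spec (el_tabs hel) ⟨r, ht.2⟩ ht.1
    rw [← hS, ← Set.ncard_coe_finset]
    refine Set.ncard_le_ncard (fun p hp => ?_) (Set.toFinite _)
    have h0 : pt 470 ∈ S := by
      rw [hSm]
      rcases List.mem_cons.mp h470 with e | e
      · exact Or.inl (Fin.ext e)
      · exact Or.inr e
    obtain ⟨σ, hσ, hσp⟩ := hSr p hp
    obtain ⟨τ, hτ, hτp⟩ := hSr _ h0
    have hmemS : ∀ {ρ : Equiv.Perm (Fin NN)} (h : ρ ∈ fixSub St [1]),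
        (⟨ρ, h.1⟩ : St) ∈ MulAction.stabilizer St (pt 1) := fun h => h.2 (pt 1) (by simp [pt])
    refine ⟨⟨_, mul_mem (hmemS hσ) (inv_mem (hmemS hτ))⟩, ?_⟩
    show (σ * τ⁻¹) (pt 470) = p
    rw [Equiv.Perm.mul_apply, show τ⁻¹ (pt 470) = (⟨r, ht.2⟩ : Fin NN) from
      Equiv.Perm.inv_eq_iff_eq.mpr hτp.symm, hσp]
  simp only [List.any_eq_true, Nat.beq_eq, List.mem_append, List.mem_cons, List.not_mem_nil,
    or_false] at h6
  obtain ⟨p, hp, rfl⟩ := h6
  rcases hp with (h | h) | (h | h)
  · exact hlen.1 ▸ hpt kR2 kO2 (by simp [kOrbs]) (List.mem_cons_of_mem _ h)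
  · exact hlen.1 ▸ hpt kR2 kO2 (by simp [kOrbs]) (h ▸ List.mem_cons_self)
  · exact hlen.2 ▸ hpt kR3 kO3 (by simp [kOrbs]) (List.mem_cons_of_mem _ h)
  · exact hlen.2 ▸ hpt kR3 kO3 (by simp [kOrbs]) (h ▸ List.mem_cons_self)

theorem card_L : Nat.card (NX ⊓ MulAction.stabilizer St (pt 1) : Subgroup St) = 52 := by
  set S1 := MulAction.stabilizer St (pt 1)
  have h1 : Nat.card (NX ⊓ S1 : Subgroup St) ≤ 104 := by
    refine le_trans (card_le_orbit_mul (G := (NX ⊓ S1 : Subgroup St)) (pt 470) {pt 470, pt 1954}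
      (Set.toFinite _) fun n => ?_) ?_
    · have hn := Subgroup.mem_inf.mp n.2
      have h470 : (n : St) • pt 470 ≠ pt 1 := fun e => by
        have := MulAction.injective (n : St) (e.trans (hn.2 : (n : St) • pt 1 = pt 1).symm)
        simp [pt] at this
      rcases NX_perm hn.1 (Or.inr (Or.inl rfl) : pt 470 = pt 1 ∨ pt 470 = pt 470 ∨ pt 470 = pt 1954) with
        h | h | h
      · exact absurd h h470
      · exact Or.inl h
      · exact Or.inr h
    · have hb : Nat.card (MulAction.stabilizer (NX ⊓ S1 : Subgroup St) (pt 470)) ≤ 52 := by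
        refine le_trans (Nat.card_le_card_of_injective
          (fun n : MulAction.stabilizer (NX ⊓ S1 : Subgroup St) (pt 470) =>
            (⟨⟨n.1.1, (Subgroup.mem_inf.mp n.1.2).2⟩, n.2⟩ : MulAction.stabilizer S1 (pt 470)))
          (fun a b e => Subtype.ext (Subtype.ext
            (congrArg (fun z : MulAction.stabilizer S1 (pt 470) => ((z : S1) : St)) e)))) ?_
        have h := Subgroup.index_mul_card (MulAction.stabilizer S1 (pt 470))
        rw [MulAction.index_stabilizer, card_stab_far] at h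
        by_contra hlt
        have : 300 * 53 ≤ 15600 := le_trans (Nat.mul_le_mul tree_470 (Nat.succ_le_of_lt (not_le.mp hlt))) h.le
        omega
      refine le_trans (Nat.mul_le_mul ((Set.ncard_insert_le _ _).trans (by rw [Set.ncard_singleton])) hb) ?_
      norm_num
  have hx : xx ∈ S1 := xx_fix_one
  rw [← card_normalizer_in S1 hx] at h1 ⊢
  exact card_normalizer_13 card_stab_far (by rw [← Subgroup.orderOf_coe]; exact order_xx) (le_trans h1 (by norm_num))

theorem card_NX : Nat.card NX ≤ 156 := by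
  refine le_trans (card_le_orbit_mul (G := NX) (pt 1) {pt 1, pt 470, pt 1954} (Set.toFinite _)
    fun n => NX_perm n.2 (Or.inl rfl)) ?_
  have h3 : ({pt 1, pt 470, pt 1954} : Set (Fin NN)).ncard ≤ 3 :=
    (Set.ncard_insert_le _ _).trans (Nat.succ_le_succ ((Set.ncard_insert_le _ _).trans (by rw [Set.ncard_singleton])))
  have hst : Nat.card (MulAction.stabilizer NX (pt 1)) ≤ 52 := by
    rw [← card_L]
    exact Nat.card_le_card_of_injective
      (fun n : MulAction.stabilizer NX (pt 1) =>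
        (⟨n.1.1, Subgroup.mem_inf.mpr ⟨n.1.2, n.2⟩⟩ : (NX ⊓ MulAction.stabilizer St (pt 1) : Subgroup St)))
      fun a b e => Subtype.ext (Subtype.ext (congrArg Subtype.val e :))
  exact (Nat.mul_le_mul h3 hst).trans (by norm_num)

theorem order_ff : orderOf ff = 4 := by
  haveI : Fact (Nat.Prime 2) := ⟨by norm_num⟩
  have := orderOf_eq_prime_pow (x := ff) (p := 2) (n := 1) ?_ ff_pow
  · simpa using this
  intro e
  have hc := chainF_ok
  simp only [chainF, chainOK, Bool.and_eq_true] at hc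
  obtain ⟨⟨-, -, -, ⟨-, ht⟩, -⟩, -⟩ := hc
  obtain ⟨S, hS, -, hSr⟩ := orbit_spec (H := (Subgroup.zpowers ff).map St.subtype)
    (el_tabs (qs := [tf]) fun q hq => by
      rw [List.mem_singleton] at hq
      subst hq
      exact ⟨⟨tfW, tf_mem⟩, ⟨ff, Subgroup.mem_zpowers _, rfl⟩⟩) ⟨2, by norm_num⟩ ht
  have hle : S.card ≤ Nat.card ((Subgroup.zpowers ff).map St.subtype) := by
    rw [← Set.ncard_coe_finset]
    refine le_trans (Set.ncard_le_ncard (t := Set.range fun σ : (Subgroup.zpowers ff).map St.subtype =>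
        (σ : Equiv.Perm (Fin NN)) ⟨2, by norm_num⟩) (fun p hp => ?_) (Set.toFinite _)) ?_
    · obtain ⟨σ, hσ, h⟩ := hSr p hp
      exact ⟨⟨σ, hσ⟩, h⟩
    · rw [← Nat.card_coe_set_eq]
      exact Finite.card_range_le _
  rw [Subgroup.card_subtype, Nat.card_zpowers, hS] at hle
  have := orderOf_le_of_pow_eq_one (by norm_num : 0 < 2) (by simpa using e)
  have hlen : eD.length = 3 := by decide +kernel
  omega

theorem L_fix {l : St} (hl : l ∈ NX) (h1 : l • pt 1 = pt 1) {c : Fin NN}
    (hc : c = pt 1 ∨ c = pt 470 ∨ c = pt 1954) : l • c = c := by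
  haveI : Fact (Nat.Prime 2) := ⟨by norm_num⟩
  let J : Subgroup St := Subgroup.closure {xx, ff}
  have hJ : J ≤ NX ⊓ MulAction.stabilizer St (pt 1) := by
    refine (Subgroup.closure_le _).mpr ?_
    rintro z (rfl | rfl)
    · exact ⟨xx_mem_NX, xx_fix_one⟩
    · exact ⟨ff_mem_NX, triple_fix (Or.inr rfl) (Or.inl rfl)⟩
  have h13 : 13 ∣ Nat.card J := by
    have := Subgroup.orderOf_dvd_natCard J (x := xx) (Subgroup.subset_closure (by simp))
    rwa [order_xx] at this
  have h4 : 4 ∣ Nat.card J := by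
    have hf := order_ff
    have := Subgroup.orderOf_dvd_natCard J (x := ff) (Subgroup.subset_closure (by simp))
    rwa [hf] at this
  have heq : J = NX ⊓ MulAction.stabilizer St (pt 1) := Subgroup.eq_of_le_of_card_ge hJ (by
    rw [card_L]
    exact Nat.le_of_dvd Nat.card_pos ((by norm_num : Nat.Coprime 13 4).mul_dvd_of_dvd_of_dvd h13 h4))
  have hfix : J ≤ MulAction.stabilizer St c := by
    refine (Subgroup.closure_le _).mpr ?_
    rintro z (rfl | rfl)
    · exact triple_fix (Or.inl rfl) hc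
    · exact triple_fix (Or.inr rfl) hc
  exact hfix (heq ▸ Subgroup.mem_inf.mpr ⟨hl, h1⟩)

/-- A subgroup of order 15600 with the element of order 13 contains the element of order four. -/
theorem ff_mem (K : Subgroup St) (hK : Nat.card K = 15600) (hx : xx ∈ K) :
    ff ∈ K ∧ Nat.card (NX ⊓ K : Subgroup St) = 52 := by
  have hcard : Nat.card (NX ⊓ K : Subgroup St) = 52 := by
    rw [← card_normalizer_in K hx]
    refine card_normalizer_13 hK (by rw [← Subgroup.orderOf_coe]; exact order_xx) ?_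
    rw [card_normalizer_in K hx]
    exact le_trans (Subgroup.card_le_of_le inf_le_left) (card_NX.trans (by norm_num))
  have hsub : NX ⊓ K ≤ NX ⊓ MulAction.stabilizer St (pt 1) := by
    intro m hm
    refine Subgroup.mem_inf.mpr ⟨(Subgroup.mem_inf.mp hm).1, ?_⟩
    have hm52 : m ^ 52 = 1 := by
      rw [← hcard]
      exact congrArg Subtype.val (pow_card_eq_one' (x := (⟨m, hm⟩ : (NX ⊓ K : Subgroup St))))
    obtain ⟨g1, g2, g3⟩ := gg_cycle
    have key : ∀ j : St, j ∈ NX → ∀ a b : Fin NN, j • pt 1 = a → j • a = b → j • b = pt 1 → m • pt 1 = a →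
        m • a = b → m • b = pt 1 → m • pt 1 = pt 1 := by
      intro j _ a b _ _ _ e1 e2 e3
      have h3 : m ^ 3 • pt 1 = pt 1 := by
        rw [pow_succ, pow_succ, pow_one, mul_smul, mul_smul, e1, e2, e3]
      have h51 : m ^ 51 • pt 1 = pt 1 := by
        rw [show 51 = 3 * 17 by norm_num, pow_mul]
        exact (MulAction.stabilizer St (pt 1)).pow_mem (h3 : m ^ 3 ∈ MulAction.stabilizer St (pt 1)) 17
      conv_lhs => rw [← h51, ← mul_smul, ← pow_succ', hm52, one_smul]
    have hmN := (Subgroup.mem_inf.mp hm).1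
    show m • pt 1 = pt 1
    rcases NX_perm hmN (Or.inl rfl) with h | h | h
    · exact h
    · have hl : (gg⁻¹ * m) • pt 1 = pt 1 := by rw [mul_smul, h, ← g1, inv_smul_smul]
      have hfix := fun {c} hc => L_fix (mul_mem (inv_mem gg_mem_NX) hmN) hl (c := c) hc
      have hmc : ∀ c, (c = pt 1 ∨ c = pt 470 ∨ c = pt 1954) → m • c = gg • c := fun c hc => by
        conv_rhs => rw [← hfix hc, mul_smul, smul_inv_smul]
      exact key gg gg_mem_NX (pt 470) (pt 1954) g1 g2 g3 h ((hmc _ (Or.inr (Or.inl rfl))).trans g2)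
        ((hmc _ (Or.inr (Or.inr rfl))).trans g3)
    · have h2 : (gg * gg) • pt 1 = pt 1954 := by rw [mul_smul, g1, g2]
      have hl : ((gg * gg)⁻¹ * m) • pt 1 = pt 1 := by rw [mul_smul, h, ← h2, inv_smul_smul]
      have hfix := fun {c} hc => L_fix (mul_mem (inv_mem (mul_mem gg_mem_NX gg_mem_NX)) hmN) hl (c := c) hc
      have hmc : ∀ c, (c = pt 1 ∨ c = pt 470 ∨ c = pt 1954) → m • c = (gg * gg) • c := fun c hc => by
        conv_rhs => rw [← hfix hc, mul_smul (gg * gg)⁻¹, smul_inv_smul]
      have e2 : m • pt 1954 = pt 470 := by rw [hmc _ (Or.inr (Or.inr rfl)), mul_smul, g3, g1]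
      have e3 : m • pt 470 = pt 1 := by rw [hmc _ (Or.inr (Or.inl rfl)), mul_smul, g2, g3]
      exact key (gg * gg) (mul_mem gg_mem_NX gg_mem_NX) (pt 1954) (pt 470) h2
        (by rw [mul_smul, g3, g1]) (by rw [mul_smul, g2, g3]) h e2 e3
  have heq := Subgroup.eq_of_le_of_card_ge hsub (by rw [hcard, card_L])
  refine ⟨?_, hcard⟩
  have : ff ∈ NX ⊓ MulAction.stabilizer St (pt 1) :=
    Subgroup.mem_inf.mpr ⟨ff_mem_NX, triple_fix (Or.inr rfl) (Or.inl rfl)⟩
  rw [← heq] at this
  exact (Subgroup.mem_inf.mp this).2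

end Cfsg.Agent.RuRankThree76
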