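import Mathlib

/-!
Finite arithmetic certificate for simple groups of order `9 * 2^a * q^b` with a self-centralising
elementary abelian Sylow 3-subgroup of order nine and one class of elements of order three.
-/

set_option autoImplicit false

namespace Cfsg.Agent.S2220Arith8

/-- A candidate character: weight, degree term, cube term, square of the degree. -/
structure It where
  w : ℕ
  s : ℤ
  v : ℤ
  z : ℕ
  deriving DecidableEq

/-- Per-weight bounds (times four). -/
structure Bd where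
  l0 : ℤ
  l1 : ℤ
  u0 : ℤ
  u1 : ℤ

def unit (h : It) : Bd :=
  if h.w = 4 then ⟨h.s, h.s, h.v, h.v⟩ else ⟨4 * h.s, 4 * h.s, 4 * h.v, 4 * h.v⟩

def comb (x y : Bd) : Bd :=
  ⟨min x.l0 y.l0, max x.l1 y.l1, min x.u0 y.u0, max x.u1 y.u1⟩

def annot : List It → List (It × Bd)
  | [] => []
  | h :: t =>
    match annot t with
    | [] => [(h, unit h)]
    | (g, B) :: r => (h, comb (unit h) B) :: (g, B) :: r

def go : List (It × Bd) → ℕ → ℤ → ℤ → ℕ → Bool
  | [], w, s, v, _ => w == 0 && (s == 0 && v == 0)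
  | (h, B) :: t, w, s, v, sq =>
    (decide ((w : ℤ) * B.l0 ≤ 4 * s) && (decide (4 * s ≤ (w : ℤ) * B.l1) &&
      (decide ((w : ℤ) * B.u0 ≤ 4 * v) && decide (4 * v ≤ (w : ℤ) * B.u1)))) &&
    (List.range (w / h.w + 1)).any fun n =>
      decide (n * h.z < sq) && go t (w - n * h.w) (s - n * h.s) (v - n * h.v) (sq - n * h.z)

def ins (h : It) : List It → List It
  | [] => [h]
  | g :: t => if g.v.natAbs ≤ h.v.natAbs then h :: g :: t else g :: ins h t

def isort : List It → List It
  | [] => []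
  | h :: t => ins h (isort t)

def res (c : ℤ) : ℕ := if c = 1 then 1 else if c = -1 then 8 else if c = 2 then 2 else 7

def okItem (c : ℤ) (d m : ℕ) : Bool :=
  decide (d % 9 = res c) && (decide (2 ≤ d) && (decide (0 ≤ (d : ℤ) + 8 * c) && decide (d * d < 9 * m)))

def mkIt (c : ℤ) (d m : ℕ) : It := ⟨(c * c).toNat, c * d, c ^ 3 * ((m / d : ℕ) : ℤ), d * d⟩

def itemsOf (d m : ℕ) : List It :=
  (([1, -1, 2, -2] : List ℤ).filter fun c => okItem c d m).map fun c => mkIt c d m

def items (q a b : ℕ) : List It :=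
  isort ((List.range (a + 1)).flatMap fun i =>
    (List.range (b + 1)).flatMap fun j => itemsOf (2 ^ i * q ^ j) (2 ^ a * q ^ b))

def fil (p e X m : ℕ) : Bool :=
  (List.range e).all fun k => decide (X % p ^ (k + 1) = 0) || decide (p ^ (2 * (e - k)) < 9 * m)

def kill (q a b T : ℕ) : Bool :=
  let m := 2 ^ a * q ^ b
  let X := 9 * (7 + T)
  !(decide (m < 72 * (7 + T)) && (fil 2 a X m && (fil q b X m &&
    go (annot (items q a b)) 8 (-1) ((X : ℤ) - m) (9 * m))))

def t2 (q a : ℕ) : List ℕ :=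
  [0, 9, 18, 27] ++ (if a % 2 = 0 then [6 * (2 ^ a - 1)] else [3 * (2 ^ (a - 1) - 1)]) ++
    (if q = 5 ∧ 6 ≤ a ∧ a % 2 = 0 then [6 * (2 ^ a - 1) - 3 * (2 ^ (a - 2) - 1)] else []) ++
    (if q = 5 ∧ (a = 6 ∨ a = 7) then (List.range 38).map fun k => 9 * k else [])

def isP (q : ℕ) : Bool :=
  ([2, 3, 5, 7, 11, 13, 17, 19, 23, 29, 31, 37, 41, 43, 47, 53] : List ℕ).all fun d =>
    q == d || q % d != 0

/-- The only surviving parameters. -/
def exc (q a b T : ℕ) : Bool := q == 17 && (a == 6 && (b == 1 && T == 18))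

def checkZero : Bool :=
  (List.range 646).all fun r => !isP (r + 5) || (List.range 4).all fun b0 =>
    decide (650 < (r + 5) ^ (b0 + 1)) || (List.range 28).all fun a0 =>
      (t2 (r + 5) (a0 + 2)).all fun T => exc (r + 5) (a0 + 2) (b0 + 1) T || kill (r + 5) (a0 + 2) (b0 + 1) T

def sExp (e a : ℕ) : ℕ := if e = 6 then a else a - 1

def checkSmall (e : ℕ) : Bool :=
  (List.range 7).all fun a0 => (List.range 763).all fun r =>
    decide ((3 * 2 ^ sExp e (a0 + 2) - 1) % (r + 5) ≠ 0) || (!isP (r + 5) || (List.range 12).all fun b0 =>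
      decide ((r + 5) ^ (b0 + 1) % 3 ≠ 1) || (t2 (r + 5) (a0 + 2)).all fun T =>
        kill (r + 5) (a0 + 2) (b0 + 1) (T + e * ((r + 5) ^ (b0 + 1) - 1)))

def checkBig (e : ℕ) : Bool :=
  (List.range 2996).all fun r => !isP (r + 5) || (List.range 38).all fun a0 =>
    decide ((3 * 2 ^ sExp e (a0 + 9) - 1) % (r + 5) ≠ 0) || (List.range 5).all fun b0 =>
      decide (3000 < (r + 5) ^ (b0 + 1)) || (decide ((r + 5) ^ (b0 + 1) % 3 ≠ 1) ||
        (t2 (r + 5) (a0 + 9)).all fun T =>
          kill (r + 5) (a0 + 9) (b0 + 1) (T + e * ((r + 5) ^ (b0 + 1) - 1)))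

theorem checkZero_true : checkZero = true := by decide +kernel

theorem checkSmall_three : checkSmall 3 = true := by decide +kernel

theorem checkSmall_six : checkSmall 6 = true := by decide +kernel

theorem checkBig_three : checkBig 3 = true := by decide +kernel

theorem checkBig_six : checkBig 6 = true := by decide +kernel

end Cfsg.Agent.S2220Arith8
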