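import Mathlib
import Cfsg.Agent.Lib.S2220Arith8

/-!
Soundness of the finite certificate in `S2220Arith8`.
-/

set_option autoImplicit false

namespace Cfsg.Agent.S2220Arith8

theorem annot_spec : ∀ L : List It, (annot L).map Prod.fst = L := by
  intro L
  induction L with
  | nil => rfl
  | cons h t ih =>
    cases e : annot t with
    | nil =>
      rw [e] at ih
      simp only [annot, e]
      rw [← ih]
      rfl
    | cons g r =>
      obtain ⟨g, B⟩ := g
      rw [e] at ih
      simp only [annot, e]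
      rw [← ih]
      rfl

/-- An item respects bounds. -/
def Within (B : Bd) (x : It) : Prop :=
  (x.w : ℤ) * B.l0 ≤ 4 * x.s ∧ 4 * x.s ≤ (x.w : ℤ) * B.l1 ∧
    (x.w : ℤ) * B.u0 ≤ 4 * x.v ∧ 4 * x.v ≤ (x.w : ℤ) * B.u1

theorem within_unit (h : It) (hw : h.w = 1 ∨ h.w = 4) : Within (unit h) h := by
  rcases hw with e | e <;> simp [Within, unit, e]

theorem within_left {x : It} {B C : Bd} (h : Within B x) : Within (comb B C) x := by
  obtain ⟨h1, h2, h3, h4⟩ := h
  have hw : (0 : ℤ) ≤ x.w := Int.natCast_nonneg _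
  refine ⟨le_trans (mul_le_mul_of_nonneg_left (min_le_left _ _) hw) h1,
    le_trans h2 (mul_le_mul_of_nonneg_left (le_max_left _ _) hw),
    le_trans (mul_le_mul_of_nonneg_left (min_le_left _ _) hw) h3,
    le_trans h4 (mul_le_mul_of_nonneg_left (le_max_left _ _) hw)⟩

theorem within_right {x : It} {B C : Bd} (h : Within C x) : Within (comb B C) x := by
  obtain ⟨h1, h2, h3, h4⟩ := h
  have hw : (0 : ℤ) ≤ x.w := Int.natCast_nonneg _
  refine ⟨le_trans (mul_le_mul_of_nonneg_left (min_le_right _ _) hw) h1,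
    le_trans h2 (mul_le_mul_of_nonneg_left (le_max_right _ _) hw),
    le_trans (mul_le_mul_of_nonneg_left (min_le_right _ _) hw) h3,
    le_trans h4 (mul_le_mul_of_nonneg_left (le_max_right _ _) hw)⟩

/-- Every suffix has valid bounds. -/
def Valid : List (It × Bd) → Prop
  | [] => True
  | (h, B) :: t => (∀ x ∈ ((h, B) :: t).map Prod.fst, Within B x) ∧ Valid t

theorem valid_annot : ∀ L : List It, (∀ x ∈ L, x.w = 1 ∨ x.w = 4) → Valid (annot L) := by
  intro L
  induction L with
  | nil => exact fun _ => trivial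
  | cons h t ih =>
    intro hw
    have ih' := ih fun x hx => hw x (List.mem_cons_of_mem _ hx)
    have hh := within_unit h (hw h (List.mem_cons_self))
    have hm := annot_spec t
    cases e : annot t with
    | nil =>
      simp [annot, e, Valid, hh]
    | cons g r =>
      obtain ⟨g, B⟩ := g
      rw [e] at ih' hm
      simp only [annot, e]
      refine ⟨fun x hx => ?_, ih'⟩
      rw [List.map_cons, List.mem_cons] at hx
      rcases hx with rfl | hx
      · exact within_left hh
      · exact within_right (ih'.1 x hx)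

theorem sum_bounds {B : Bd} : ∀ L : List It, (∀ x ∈ L, Within B x) →
    ((L.map It.w).sum : ℤ) * B.l0 ≤ 4 * (L.map It.s).sum ∧
      4 * (L.map It.s).sum ≤ ((L.map It.w).sum : ℤ) * B.l1 ∧
      ((L.map It.w).sum : ℤ) * B.u0 ≤ 4 * (L.map It.v).sum ∧
      4 * (L.map It.v).sum ≤ ((L.map It.w).sum : ℤ) * B.u1 := by
  intro L
  induction L with
  | nil => simp
  | cons x t ih =>
    intro h
    obtain ⟨a1, a2, a3, a4⟩ := h x (List.mem_cons_self)
    obtain ⟨b1, b2, b3, b4⟩ := ih fun y hy => h y (List.mem_cons_of_mem _ hy)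
    simp only [List.map_cons, List.sum_cons, Nat.cast_add]
    refine ⟨?_, ?_, ?_, ?_⟩ <;> nlinarith

theorem sum_split (h : It) : ∀ L : List It,
    (L.map It.w).sum = L.count h * h.w + ((L.filter (· ≠ h)).map It.w).sum ∧
      (L.map It.s).sum = L.count h * h.s + ((L.filter (· ≠ h)).map It.s).sum ∧
      (L.map It.v).sum = L.count h * h.v + ((L.filter (· ≠ h)).map It.v).sum ∧
      (L.map It.z).sum = L.count h * h.z + ((L.filter (· ≠ h)).map It.z).sum := by
  intro L
  induction L with
  | nil => simp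
  | cons x t ih =>
    obtain ⟨a, b, c, d⟩ := ih
    by_cases e : x = h
    · subst e
      simp only [List.count_cons_self, ne_eq, not_true_eq_false, decide_false, Bool.false_eq_true,
        not_false_eq_true, List.filter_cons_of_neg, List.map_cons, List.sum_cons, a, b, c, d]
      push_cast
      exact ⟨by ring, by ring, by ring, by ring⟩
    · simp only [List.count_cons_of_ne e, ne_eq, e, not_false_eq_true, decide_true,
        List.filter_cons_of_pos, List.map_cons, List.sum_cons, a, b, c, d]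
      exact ⟨by ring, by ring, by ring, by ring⟩

theorem go_complete : ∀ A : List (It × Bd), Valid A → (∀ x ∈ A.map Prod.fst, 0 < x.w) →
    ∀ L : List It, (∀ x ∈ L, x ∈ A.map Prod.fst) → ∀ sq : ℕ, (L.map It.z).sum < sq →
      go A (L.map It.w).sum (L.map It.s).sum (L.map It.v).sum sq = true := by
  intro A
  induction A with
  | nil =>
    intro _ _ L hL sq _
    have : L = [] := List.eq_nil_iff_forall_not_mem.2 fun x hx => by simpa using hL x hx
    subst this
    rfl
  | cons p t ih =>
    obtain ⟨h, B⟩ := p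
    intro hv hpos L hL sq hsq
    obtain ⟨hB, hv'⟩ := hv
    obtain ⟨b1, b2, b3, b4⟩ := sum_bounds L fun x hx => hB x (hL x hx)
    obtain ⟨hw, hs, hvv, hz⟩ := sum_split h L
    set L' := L.filter (· ≠ h) with hL'
    have hL'' : ∀ x ∈ L', x ∈ t.map Prod.fst := fun x hx => by
      rw [hL', List.mem_filter] at hx
      have := hL x hx.1
      rw [List.map_cons, List.mem_cons] at this
      exact this.resolve_left (of_decide_eq_true hx.2)
    have hwpos : 0 < h.w := hpos h (by simp)
    have hcall := ih hv' (fun x hx => hpos x (by rw [List.map_cons]; exact List.mem_cons_of_mem _ hx)) L' hL''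
      (sq - L.count h * h.z) (by omega)
    simp only [go, Bool.and_eq_true, decide_eq_true_eq, List.any_eq_true, List.mem_range]
    refine ⟨⟨b1, b2, b3, b4⟩, L.count h, ?_, by omega, ?_⟩
    · refine Nat.lt_succ_of_le ((Nat.le_div_iff_mul_le hwpos).2 ?_)
      omega
    · have e1 : (L.map It.w).sum - L.count h * h.w = (L'.map It.w).sum := by omega
      have e2 : (L.map It.s).sum - (L.count h : ℤ) * h.s = (L'.map It.s).sum := by linarith
      have e3 : (L.map It.v).sum - (L.count h : ℤ) * h.v = (L'.map It.v).sum := by linarith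
      rw [e1, e2, e3]
      exact hcall

theorem mem_ins {h x : It} : ∀ {L : List It}, x ∈ ins h L ↔ x = h ∨ x ∈ L := by
  intro L
  induction L with
  | nil => simp [ins]
  | cons g t ih =>
    simp only [ins]
    split_ifs <;> simp [ih, or_left_comm]

theorem mem_isort {x : It} : ∀ {L : List It}, x ∈ isort L ↔ x ∈ L := by
  intro L
  induction L with
  | nil => simp [isort]
  | cons g t ih => simp [isort, mem_ins, ih]

variable {ι : Type*}

/-- The data extracted from the column of an element of order three. -/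
structure Data (S : Finset ι) (c : ι → ℤ) (d : ι → ℕ) (q a b T : ℕ) : Prop where
  val : ∀ x ∈ S, c x = 1 ∨ c x = -1 ∨ c x = 2 ∨ c x = -2
  deg : ∀ x ∈ S, ∃ i j, i ≤ a ∧ j ≤ b ∧ d x = 2 ^ i * q ^ j
  two_le : ∀ x ∈ S, 2 ≤ d x
  cong : ∀ x ∈ S, (9 : ℤ) ∣ (d x : ℤ) - c x
  nonneg : ∀ x ∈ S, (0 : ℤ) ≤ (d x : ℤ) + 8 * c x
  sum_sq : ∑ x ∈ S, c x ^ 2 = 8
  orth : ∑ x ∈ S, c x * (d x : ℤ) = -1
  count : ((2 ^ a * q ^ b : ℕ) : ℤ) + ∑ x ∈ S, c x ^ 3 * ((2 ^ a * q ^ b / d x : ℕ) : ℤ) =
    ((9 * (7 + T) : ℕ) : ℤ)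
  degrees : ∑ x ∈ S, d x * d x < 9 * (2 ^ a * q ^ b)

variable {S : Finset ι} {c : ι → ℤ} {d : ι → ℕ} {q a b T : ℕ}

theorem Data.sq_lt (h : Data S c d q a b T) {x : ι} (hx : x ∈ S) : d x * d x < 9 * (2 ^ a * q ^ b) :=
  lt_of_le_of_lt (Finset.single_le_sum (f := fun y => d y * d y) (fun _ _ => Nat.zero_le _) hx) h.degrees

theorem Data.dvd (h : Data S c d q a b T) {x : ι} (hx : x ∈ S) : d x ∣ 2 ^ a * q ^ b := by
  obtain ⟨i, j, hi, hj, e⟩ := h.deg x hx
  rw [e]
  exact mul_dvd_mul (pow_dvd_pow 2 hi) (pow_dvd_pow q hj)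

theorem Data.item_mem (h : Data S c d q a b T) {x : ι} (hx : x ∈ S) :
    mkIt (c x) (d x) (2 ^ a * q ^ b) ∈ items q a b := by
  obtain ⟨i, j, hi, hj, e⟩ := h.deg x hx
  simp only [items, mem_isort, List.mem_flatMap, List.mem_range]
  refine ⟨i, Nat.lt_succ_of_le hi, j, Nat.lt_succ_of_le hj, ?_⟩
  rw [← e]
  simp only [itemsOf, List.mem_map, List.mem_filter]
  refine ⟨c x, ⟨?_, ?_⟩, rfl⟩
  · rcases h.val x hx with e | e | e | e <;> simp [e]
  · simp only [okItem, Bool.and_eq_true, decide_eq_true_eq]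
    refine ⟨?_, h.two_le x hx, h.nonneg x hx, h.sq_lt hx⟩
    have := h.cong x hx
    rcases h.val x hx with e | e | e | e <;> simp only [e, res] at this ⊢ <;> norm_num <;> omega

theorem items_w {q a b : ℕ} : ∀ x ∈ items q a b, x.w = 1 ∨ x.w = 4 := by
  intro x hx
  simp only [items, mem_isort, List.mem_flatMap, itemsOf, List.mem_map, List.mem_filter] at hx
  obtain ⟨i, -, j, -, c, ⟨hc, -⟩, rfl⟩ := hx
  simp only [List.mem_cons, List.not_mem_nil, or_false] at hc
  rcases hc with rfl | rfl | rfl | rfl <;> simp [mkIt]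

theorem Data.go_true (h : Data S c d q a b T) :
    go (annot (items q a b)) 8 (-1) (((9 * (7 + T) : ℕ) : ℤ) - (2 ^ a * q ^ b : ℕ))
      (9 * (2 ^ a * q ^ b)) = true := by
  set m := 2 ^ a * q ^ b with hm
  set L := S.toList.map fun x => mkIt (c x) (d x) m with hL
  have hmem : ∀ y ∈ L, y ∈ items q a b := fun y hy => by
    obtain ⟨x, hx, rfl⟩ := List.mem_map.1 hy
    exact h.item_mem (Finset.mem_toList.1 hx)
  have hw : (L.map It.w).sum = 8 := by
    rw [hL, List.map_map, Finset.sum_map_toList]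
    have e := h.sum_sq
    have : ((∑ x ∈ S, (It.w ∘ fun x => mkIt (c x) (d x) m) x : ℕ) : ℤ) = 8 := by
      rw [← e, Nat.cast_sum]
      refine Finset.sum_congr rfl fun x _ => ?_
      simp only [Function.comp_apply, mkIt, Int.toNat_of_nonneg (mul_self_nonneg (c x)), sq]
    exact_mod_cast this
  have hs : (L.map It.s).sum = -1 := by
    rw [hL, List.map_map, Finset.sum_map_toList, ← h.orth]
    rfl
  have hv : (L.map It.v).sum = ((9 * (7 + T) : ℕ) : ℤ) - (m : ℕ) := by
    rw [hL, List.map_map, Finset.sum_map_toList, ← h.count, add_sub_cancel_left]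
    rfl
  have hz : (L.map It.z).sum < 9 * m := by
    rw [hL, List.map_map, Finset.sum_map_toList]
    exact h.degrees
  have := go_complete (annot (items q a b)) (valid_annot _ items_w) (fun x hx => by
      rw [annot_spec] at hx
      rcases items_w x hx with e | e <;> omega) L
    (fun x hx => by rw [annot_spec]; exact hmem x hx) _ hz
  rwa [hw, hs, hv] at this

/-- The triangle constant exceeds one eighth. -/
theorem Data.lt (h : Data S c d q a b T) (hq : 0 < q) : 2 ^ a * q ^ b < 72 * (7 + T) := by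
  set m := 2 ^ a * q ^ b with hm
  have hm0 : 0 < m := Nat.mul_pos (by positivity) (pow_pos hq _)
  have key : ∀ x ∈ S, -(if c x < 0 then c x ^ 2 else 0) * (m : ℤ) +
      (if 0 < c x then 1 else 0) ≤ 8 * (c x ^ 3 * ((m / d x : ℕ) : ℤ)) := by
    intro x hx
    have hdm : (d x : ℤ) * ((m / d x : ℕ) : ℤ) = (m : ℤ) := by
      exact_mod_cast Nat.mul_div_cancel' (h.dvd hx)
    have hr : (0 : ℤ) < ((m / d x : ℕ) : ℤ) := by
      have := Nat.div_pos (Nat.le_of_dvd hm0 (h.dvd hx)) (by have := h.two_le x hx; omega)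
      exact_mod_cast this
    have hn := h.nonneg x hx
    generalize ((m / d x : ℕ) : ℤ) = r at hdm hr ⊢
    rcases h.val x hx with e | e | e | e <;> rw [e] at hn ⊢ <;> norm_num <;> nlinarith
  obtain ⟨x, hx, hxc⟩ : ∃ x ∈ S, 0 < c x := by
    by_contra hc
    push Not at hc
    have h1 : ∑ x ∈ S, c x * (d x : ℤ) ≤ ∑ x ∈ S, -c x ^ 2 := Finset.sum_le_sum fun x hx => by
      have hn := h.nonneg x hx
      have hc' := hc x hx
      rcases h.val x hx with e | e | e | e <;> rw [e] at hn hc' ⊢ <;> nlinarith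
    rw [h.orth, Finset.sum_neg_distrib, h.sum_sq] at h1
    norm_num at h1
  have hsum := Finset.sum_le_sum key
  rw [← Finset.mul_sum, Finset.sum_add_distrib, ← Finset.sum_mul, Finset.sum_neg_distrib] at hsum
  have hA : (1 : ℤ) ≤ ∑ y ∈ S, if 0 < c y then 1 else 0 :=
    le_trans (by rw [if_pos hxc]) (Finset.single_le_sum (f := fun y => if 0 < c y then (1 : ℤ) else 0)
      (fun y _ => by split_ifs <;> norm_num) hx)
  have hB : (∑ y ∈ S, if c y < 0 then c y ^ 2 else 0) ≤ 7 := by
    have hlt : (∑ y ∈ S, if c y < 0 then c y ^ 2 else 0) < 8 := by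
      rw [← h.sum_sq]
      refine Finset.sum_lt_sum (fun y _ => by split_ifs <;> nlinarith [sq_nonneg (c y)]) ⟨x, hx, ?_⟩
      rw [if_neg (by omega)]
      positivity
    omega
  have hc := h.count
  have hm' : (0 : ℤ) ≤ m := Int.natCast_nonneg _
  have : (m : ℤ) < ((72 * (7 + T) : ℕ) : ℤ) := by
    have e : ((72 * (7 + T) : ℕ) : ℤ) = 8 * ((9 * (7 + T) : ℕ) : ℤ) := by push_cast; ring
    rw [e, ← hc]
    have hBm := mul_le_mul_of_nonneg_right hB hm'
    linarith
  exact_mod_cast this

/-- A prime power filter. -/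
theorem Data.fil_true (h : Data S c d q a b T) {p e : ℕ} (hp : p.Prime) (hpm : p ^ e ∣ 2 ^ a * q ^ b)
    {k : ℕ} (hk : k < e) (hnd : ¬ p ^ (k + 1) ∣ 9 * (7 + T)) :
    p ^ (2 * (e - k)) < 9 * (2 ^ a * q ^ b) := by
  set m := 2 ^ a * q ^ b with hm
  obtain ⟨x, hx, hxd⟩ : ∃ x ∈ S, ¬ p ^ (k + 1) ∣ m / d x := by
    by_contra hc
    push Not at hc
    refine hnd (Int.natCast_dvd_natCast.1 (h.count ▸ dvd_add ?_ (Finset.dvd_sum fun x hx => ?_)))
    · exact Int.natCast_dvd_natCast.2 ((pow_dvd_pow p hk).trans hpm)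
    · exact dvd_mul_of_dvd_right (Int.natCast_dvd_natCast.2 (hc x hx)) _
  have hdm := Nat.mul_div_cancel' (h.dvd hx)
  have hpd : p ^ (e - k) ∣ d x := by
    by_contra hnp
    refine hxd ?_
    have h1 : p ^ e ∣ d x * (m / d x) := hdm ▸ hpm
    haveI := Fact.mk hp
    have hd0 : d x ≠ 0 := by have := h.two_le x hx; omega
    have hm0 : d x * (m / d x) ≠ 0 := by
      rw [hdm]; intro e0
      have := h.sq_lt hx
      omega
    have hr0 : m / d x ≠ 0 := fun e0 => hm0 (by rw [e0, mul_zero])
    rw [padicValNat_dvd_iff_le hd0] at hnp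
    rw [padicValNat_dvd_iff_le hm0, padicValNat.mul hd0 hr0] at h1
    rw [padicValNat_dvd_iff_le hr0]
    omega
  calc p ^ (2 * (e - k)) = p ^ (e - k) * p ^ (e - k) := by rw [two_mul, pow_add]
    _ ≤ d x * d x := by
      have := Nat.le_of_dvd (by have := h.two_le x hx; omega) hpd
      exact Nat.mul_le_mul this this
    _ < _ := h.sq_lt hx

theorem Data.kill_false (h : Data S c d q a b T) (hq : q.Prime) : kill q a b T = false := by
  simp only [kill, Bool.not_eq_false', Bool.and_eq_true, decide_eq_true_eq]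
  have hf : ∀ p e, p.Prime → p ^ e ∣ 2 ^ a * q ^ b → fil p e (9 * (7 + T)) (2 ^ a * q ^ b) = true := by
    intro p e hp hd
    simp only [fil, List.all_eq_true, List.mem_range, Bool.or_eq_true, decide_eq_true_eq]
    intro k hk
    rcases Decidable.em (p ^ (k + 1) ∣ 9 * (7 + T)) with hn | hn
    · exact Or.inl (Nat.mod_eq_zero_of_dvd hn)
    · exact Or.inr (h.fil_true hp hd hk hn)
  exact ⟨h.lt hq.pos, hf 2 a Nat.prime_two (dvd_mul_right _ _), hf q b hq (dvd_mul_left _ _), h.go_true⟩

theorem t2_le {q a t : ℕ} (ha : 2 ≤ a) (ht : t ∈ t2 q a) : t ≤ 6 * 2 ^ a + 4 := by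
  have h4 : 4 ≤ 2 ^ a := le_trans (by norm_num) (Nat.pow_le_pow_right (by norm_num) ha)
  have h1 : 2 ^ (a - 1) ≤ 2 ^ a := Nat.pow_le_pow_right (by norm_num) (by omega)
  simp only [t2, List.mem_append] at ht
  rcases ht with ((ht | ht) | ht) | ht
  · simp at ht
    omega
  · split_ifs at ht <;> simp at ht <;> omega
  · split_ifs at ht with hc
    · simp at ht
      omega
    · simp at ht
  · split_ifs at ht with hc
    · simp only [List.mem_map, List.mem_range] at ht
      obtain ⟨k, hk, rfl⟩ := ht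
      have : 2 ^ 6 ≤ 2 ^ a := Nat.pow_le_pow_right (by norm_num) (by omega)
      omega
    · simp at ht

theorem t2_mod {q a t : ℕ} (ha : 8 ≤ a) (ht : t ∈ t2 q a) :
    ∃ C u, 1 ≤ C ∧ C ≤ 34 ∧ ¬ 32 ∣ C ∧ 7 + t = C + 2 ^ (a - 2) * u := by
  have e1 : 2 ^ a = 2 ^ (a - 2) * 4 := by
    rw [show a = a - 2 + 2 by omega, pow_add]; simp
  have e2 : 2 ^ (a - 1) = 2 ^ (a - 2) * 2 := by
    rw [show a - 1 = a - 2 + 1 by omega, pow_succ]
  have hp : 1 ≤ 2 ^ (a - 2) := Nat.one_le_two_pow
  simp only [t2, List.mem_append] at ht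
  rcases ht with ((ht | ht) | ht) | ht
  · simp at ht
    rcases ht with rfl | rfl | rfl | rfl
    · exact ⟨7, 0, by norm_num, by norm_num, by norm_num, by ring⟩
    · exact ⟨16, 0, by norm_num, by norm_num, by norm_num, by ring⟩
    · exact ⟨25, 0, by norm_num, by norm_num, by norm_num, by ring⟩
    · exact ⟨34, 0, by norm_num, by norm_num, by norm_num, by ring⟩
  · split_ifs at ht <;> simp at ht
    · exact ⟨1, 24, by norm_num, by norm_num, by norm_num, by omega⟩
    · exact ⟨4, 6, by norm_num, by norm_num, by norm_num, by omega⟩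
  · split_ifs at ht with hc
    · simp at ht
      exact ⟨4, 21, by norm_num, by norm_num, by norm_num, by omega⟩
    · simp at ht
  · split_ifs at ht with hc
    · omega
    · simp at ht

theorem isP_of_prime {q : ℕ} (hq : q.Prime) : isP q = true := by
  simp only [isP, List.all_eq_true, Bool.or_eq_true, beq_iff_eq, bne_iff_ne, ne_eq]
  intro d hd
  rcases eq_or_ne (q % d) 0 with e | e
  · rcases hq.eq_one_or_self_of_dvd d (Nat.dvd_of_mod_eq_zero e) with rfl | rfl
    · simp at hd
    · exact Or.inl rfl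
  · exact Or.inr e

/-- The data force `q = 17`, `a = 6`, `b = 1`. -/
theorem Data.impossible {t e : ℕ} (h : Data S c d q a b (t + e * (q ^ b - 1))) (hq : q.Prime)
    (hq5 : 5 ≤ q) (hb : 1 ≤ b) (ha : 2 ≤ a) (ht : t ∈ t2 q a)
    (he : e = 0 ∨ (e = 3 ∨ e = 6) ∧ q ^ b % 3 = 1 ∧ (q : ℤ) ∣ 3 * 2 ^ sExp e a - 1) :
    q = 17 ∧ a = 6 ∧ b = 1 ∧ t = 18 ∧ e = 0 := by
  have hk := h.kill_false hq
  have hlt := h.lt hq.pos
  have htle := t2_le ha ht
  have hQ1 : 1 ≤ q ^ b := Nat.one_le_pow _ _ hq.pos
  have h4 : 4 ≤ 2 ^ a := le_trans (by norm_num) (Nat.pow_le_pow_right (by norm_num) ha)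
  have hqQ : q ≤ q ^ b := Nat.le_self_pow (by omega) q
  have h5b : 5 ^ b ≤ q ^ b := Nat.pow_le_pow_left hq5 b
  rcases he with rfl | ⟨he, hQ3, hdvd⟩
  · -- no invariant Sylow subgroups for the odd prime
    rw [zero_mul, add_zero] at hlt hk
    have hQ : q ^ b ≤ 650 := by
      by_contra hgt
      push Not at hgt
      nlinarith
    have hb4 : b ≤ 4 := by
      by_contra hb5
      have : 5 ^ 5 ≤ 5 ^ b := Nat.pow_le_pow_right (by norm_num) (by omega)
      omega
    have ha29 : a ≤ 29 := by
      by_contra ha30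
      obtain ⟨C, u, -, -, hC, hCt⟩ := t2_mod (by omega) ht
      have hnd : ¬ 2 ^ (4 + 1) ∣ 9 * (7 + (t + 0 * (q ^ b - 1))) := by
        rw [zero_mul, add_zero]
        intro hd
        have h1 : 32 ∣ 7 + t := (Nat.Coprime.dvd_mul_left (by norm_num : Nat.Coprime 32 9)).1 hd
        rw [hCt] at h1
        refine hC ((Nat.dvd_add_left (dvd_mul_of_dvd_left ?_ u)).1 h1)
        exact pow_dvd_pow 2 (show 5 ≤ a - 2 by omega)
      have h2 := h.fil_true Nat.prime_two (dvd_mul_right _ _) (show 4 < a by omega) hnd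
      have e1 : 2 ^ (2 * (a - 4)) = 2 ^ (a - 8) * 2 ^ a := by rw [← pow_add]; congr 1; omega
      have e2 : 2 ^ 22 ≤ 2 ^ (a - 8) := Nat.pow_le_pow_right (by norm_num) (by omega)
      rw [e1] at h2
      nlinarith
    have hz := checkZero_true
    simp only [checkZero, List.all_eq_true, List.mem_range, Bool.or_eq_true, decide_eq_true_eq] at hz
    have := hz (q - 5) (by omega)
    rw [show q - 5 + 5 = q by omega] at this
    rcases this with hnp | this
    · simp [isP_of_prime hq] at hnp
    have := this (b - 1) (by omega)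
    rw [show b - 1 + 1 = b by omega] at this
    rcases this with hgt | this
    · omega
    have := this (a - 2) (by omega) t (by rwa [show a - 2 + 2 = a by omega])
    rw [show a - 2 + 2 = a by omega, hk] at this
    simp only [exc, Bool.and_eq_true, beq_iff_eq, Bool.false_eq_true, or_false] at this
    omega
  · -- invariant Sylow subgroups
    exfalso
    set s := sExp e a with hs
    have hsa : s ≤ a := by rw [hs, sExp]; split_ifs <;> omega
    have hpos : (0 : ℤ) < 3 * 2 ^ s - 1 := by
      have : (1 : ℤ) ≤ 2 ^ s := one_le_pow₀ (by norm_num)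
      linarith
    have hsN : q ∣ 3 * 2 ^ s - 1 := by
      have : ((3 * 2 ^ s - 1 : ℕ) : ℤ) = 3 * 2 ^ s - 1 := by
        rw [Nat.cast_sub (by have := Nat.one_le_two_pow (n := s); omega)]
        push_cast; ring
      rw [← this] at hdvd
      exact Int.natCast_dvd_natCast.1 hdvd
    have hqs : q ≤ 3 * 2 ^ s - 1 := Nat.le_of_dvd (by
      have := Nat.one_le_two_pow (n := s); omega) hsN
    have hsp : 2 ^ s ≤ 2 ^ a := Nat.pow_le_pow_right (by norm_num) hsa
    have he6 : e ≤ 6 := by omega
    have hsub : e * (q ^ b - 1) ≤ 6 * (q ^ b - 1) := Nat.mul_le_mul_right _ he6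
    have hok : ∀ r, r + 5 = q → ¬ (isP (r + 5) = false) := fun r hr => by
      rw [hr, isP_of_prime hq]; simp
    rcases Nat.lt_or_ge a 9 with ha8 | ha9
    · have h256 : 2 ^ a ≤ 2 ^ 8 := Nat.pow_le_pow_right (by norm_num) (by omega)
      have hq768 : q < 768 := by omega
      have hb12 : b ≤ 12 := by
        by_contra hb13
        have hnd : ¬ q ^ (4 + 1) ∣ 9 * (7 + (t + e * (q ^ b - 1))) := by
          intro hd
          have hco : Nat.Coprime (q ^ 5) 9 := by
            refine Nat.Coprime.pow_left _ ?_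
            rw [show (9 : ℕ) = 3 ^ 2 by norm_num]
            exact Nat.Coprime.pow_right _ ((Nat.coprime_primes hq Nat.prime_three).2 (by omega))
          have h1 : q ^ 5 ∣ 7 + (t + e * (q ^ b - 1)) := hco.dvd_of_dvd_mul_left hd
          have he' : 7 + (t + e * (q ^ b - 1)) = (7 + t - e) + e * q ^ b := by
            rw [Nat.mul_sub_one]
            have : e ≤ e * q ^ b := Nat.le_mul_of_pos_right _ hQ1
            omega
          rw [he', Nat.dvd_add_left (dvd_mul_of_dvd_right (pow_dvd_pow q (by omega)) _)] at h1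
          have h2 := Nat.le_of_dvd (by omega) h1
          have : 5 ^ 5 ≤ q ^ 5 := Nat.pow_le_pow_left hq5 5
          omega
        have h2 := h.fil_true hq (dvd_mul_left _ _) (show 4 < b by omega) hnd
        have e1 : q ^ (2 * (b - 4)) = q ^ (b - 8) * q ^ b := by rw [← pow_add]; congr 1; omega
        have e2 : 5 ^ 5 ≤ q ^ (b - 8) :=
          le_trans (Nat.pow_le_pow_left hq5 5) (Nat.pow_le_pow_right hq.pos (by omega))
        rw [e1] at h2
        nlinarith
      have hck : checkSmall e = true := by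
        rcases he with rfl | rfl
        · exact checkSmall_three
        · exact checkSmall_six
      simp only [checkSmall, List.all_eq_true, List.mem_range, Bool.or_eq_true, decide_eq_true_eq] at hck
      have := hck (a - 2) (by omega) (q - 5) (by omega)
      rw [show a - 2 + 2 = a by omega, show q - 5 + 5 = q by omega, ← hs] at this
      rcases this with hn | hn | this
      · exact hn (Nat.mod_eq_zero_of_dvd hsN)
      · simp [isP_of_prime hq] at hn
      have := this (b - 1) (by omega)
      rw [show b - 1 + 1 = b by omega] at this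
      rcases this with hn | this
      · exact hn hQ3
      have := this t ht
      rw [hk] at this
      simp at this
    · have h512 : 2 ^ 9 ≤ 2 ^ a := Nat.pow_le_pow_right (by norm_num) ha9
      have hQ : q ^ b ≤ 3000 := by
        by_contra hgt
        have h3 : 2 ^ a * q ^ b < 72 * (7 + (6 * 2 ^ a + 4 + 6 * (q ^ b - 1))) :=
          lt_of_lt_of_le hlt (by omega)
        have hsub' : q ^ b - 1 + 1 = q ^ b := by omega
        nlinarith
      have hb5 : b ≤ 5 := by
        by_contra hb6
        have : 5 ^ 6 ≤ 5 ^ b := Nat.pow_le_pow_right (by norm_num) (by omega)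
        omega
      have ha46 : a ≤ 46 := by
        by_contra ha47
        obtain ⟨C, u, hC1, hC34, -, hCt⟩ := t2_mod (by omega) ht
        have hnd : ¬ 2 ^ (15 + 1) ∣ 9 * (7 + (t + e * (q ^ b - 1))) := by
          intro hd
          have h1 := (Nat.Coprime.dvd_mul_left (by norm_num : Nat.Coprime (2 ^ 16) 9)).1 hd
          rw [← Nat.add_assoc, hCt, Nat.add_right_comm,
            Nat.dvd_add_left (dvd_mul_of_dvd_left (pow_dvd_pow 2 (show 16 ≤ a - 2 by omega)) u)] at h1
          have h2 := Nat.le_of_dvd (by omega) h1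
          omega
        have h2 := h.fil_true Nat.prime_two (dvd_mul_right _ _) (show 15 < a by omega) hnd
        have e1 : 2 ^ (2 * (a - 15)) = 2 ^ (a - 30) * 2 ^ a := by rw [← pow_add]; congr 1; omega
        have e2 : 2 ^ 17 ≤ 2 ^ (a - 30) := Nat.pow_le_pow_right (by norm_num) (by omega)
        rw [e1] at h2
        nlinarith
      have hq3000 : q ≤ 3000 := le_trans hqQ hQ
      have hck : checkBig e = true := by
        rcases he with rfl | rfl
        · exact checkBig_three
        · exact checkBig_six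
      simp only [checkBig, List.all_eq_true, List.mem_range, Bool.or_eq_true, decide_eq_true_eq] at hck
      have := hck (q - 5) (by omega)
      rw [show q - 5 + 5 = q by omega] at this
      rcases this with hn | this
      · simp [isP_of_prime hq] at hn
      have := this (a - 9) (by omega)
      rw [show a - 9 + 9 = a by omega, ← hs] at this
      rcases this with hn | this
      · exact hn (Nat.mod_eq_zero_of_dvd hsN)
      have := this (b - 1) (by omega)
      rw [show b - 1 + 1 = b by omega] at this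
      rcases this with hn | hn | this
      · omega
      · exact hn hQ3
      have := this t ht
      rw [hk] at this
      simp at this

end Cfsg.Agent.S2220Arith8
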