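import Mathlib
import Cfsg.Agent.Lib.SelfCentNineA6Core64
import Cfsg.Agent.Lib.ClassAlgebraOmega
import Cfsg.Agent.Lib.S2220Sound8

/-!
The column of an element of order three in a group with one class of such elements.
-/

set_option autoImplicit false

namespace Cfsg.Agent.S2220Chars8

open scoped ComplexConjugate
open Cfsg.Agent.CharBasic Cfsg.Agent.CharBasicOrth Cfsg.Agent.CharBasicDecomp
open SelfCentNineA6Core64

universe u

variable {G : Type u} [Group G] [Finite G] {R : Subgroup G}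

theorem card_normalizer (h : Conf R) {x : G} (hx : x ∈ R) (hx1 : x ≠ 1)
    (hf : ∀ v ∈ R, v ≠ 1 → IsConj x v) : Nat.card (Subgroup.normalizer (R : Set G)) = 72 := by
  classical
  haveI := Fintype.ofFinite G
  rw [← h.card_cls hx hx1]
  have : cls R x = (Finset.univ.filter fun v => v ∈ R).erase 1 := by
    ext v
    rw [mem_cls]
    simp only [Finset.mem_erase, Finset.mem_filter, Finset.mem_univ, true_and]
    constructor
    · rintro ⟨h1, h2⟩
      exact ⟨fun e => hx1 (by subst e; exact isConj_one_left.1 h2), h1⟩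
    · rintro ⟨h1, h2⟩
      exact ⟨h2, hf v h2 h1⟩
  rw [this, Finset.card_erase_of_mem (by simp), ← Fintype.card_subtype, ← Nat.card_eq_fintype_card,
    h.card]

theorem exists_data [IsSimpleGroup G] (hG : ¬ IsMulCommutative G) (h : Conf R) {x : G} (hx : x ∈ R)
    (hx1 : x ≠ 1) (hf : ∀ v ∈ R, v ≠ 1 → IsConj x v) {q a b T : ℕ} (hq : q.Prime) (hq3 : q ≠ 3)
    (hcard : Nat.card G = 9 * 2 ^ a * q ^ b)
    (hT : Nat.card {g : G // IsConj x (x * (g * x * g⁻¹))} = (7 + T) * 9) :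
    ∃ (S : Finset (Cfsg.IrrCharacter G)) (c : Cfsg.IrrCharacter G → ℤ) (d : Cfsg.IrrCharacter G → ℕ),
      S2220Arith8.Data S c d q a b T := by
  classical
  haveI := Fintype.ofFinite G
  have heven : Even (Nat.card (Subgroup.normalizer (R : Set G))) := by
    rw [card_normalizer h hx hx1 hf]; decide
  choose c hc _h3 using fun χ => h.exists_int heven hx hx1 χ
  have hcol : Col R x c := ⟨hx, hx1, hc⟩
  set d := fun χ : Cfsg.IrrCharacter G => Cfsg.charDegree (χ : G → ℂ) with hd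
  set m := 2 ^ a * q ^ b with hm
  have hGm : Nat.card G = 9 * m := by rw [hcard, hm]; ring
  set o : Cfsg.IrrCharacter G := trivIrr G with ho
  have hco : c o = 1 := by
    apply Int.cast_injective (α := ℂ)
    rw [← hc o, Int.cast_one]
    rfl
  have hdo : d o = 1 := by
    apply Nat.cast_injective (R := ℂ)
    rw [hd, ← ClassAlgebraVal.apply_one_eq_charDegree, Nat.cast_one]
    rfl
  -- restriction to the Sylow subgroup
  have h9 : ∀ χ : Cfsg.IrrCharacter G, ∃ n : ℕ, (d χ : ℤ) + 8 * c χ = 9 * (n : ℤ) := by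
    intro χ
    obtain ⟨n, hn⟩ := ClassAlgebraVal.exists_sum_subgroup (ClassAlgebraVal.irr_isCharacter χ) R
    refine ⟨n, Int.cast_injective (α := ℂ) ?_⟩
    rw [← Finset.sum_subtype (Finset.univ.filter fun g => g ∈ R) (by simp)
        (fun g => conj ((χ : G → ℂ) g)), ← Finset.add_sum_erase _ _ (show (1 : G) ∈ _ by simp),
      Finset.sum_congr rfl (fun g hg => show conj ((χ : G → ℂ) g) = (c χ : ℂ) by
        simp only [Finset.mem_erase, Finset.mem_filter, Finset.mem_univ, true_and] at hg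
        rw [← ClassAlgebraVal.irr_conj χ (hf g hg.2 hg.1), hc, map_intCast]),
      Finset.sum_const, Finset.card_erase_of_mem (by simp), ← Fintype.card_subtype,
      ← Nat.card_eq_fintype_card, h.card, ClassAlgebraVal.apply_one_eq_charDegree, map_natCast,
      nsmul_eq_mul] at hn
    push_cast at hn ⊢
    linear_combination hn
  have hgram : ∑ χ, c χ * c χ = 9 := by rw [h.gram hcol hcol, if_pos (IsConj.refl _)]
  have horth : ∑ χ, (d χ : ℤ) * c χ = 0 := h.degree_orth hcol
  set S := (Finset.univ.erase o).filter fun χ => c χ ≠ 0 with hS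
  have hsplit : ∀ f : Cfsg.IrrCharacter G → ℤ, (∀ χ, c χ = 0 → f χ = 0) →
      ∑ χ, f χ = f o + ∑ χ ∈ S, f χ := by
    intro f hf0
    rw [← Finset.add_sum_erase _ _ (Finset.mem_univ o), hS,
      Finset.sum_filter_of_ne (p := fun χ => c χ ≠ 0) (fun χ _ hne e => hne (hf0 χ e))]
  have hsq : ∑ χ ∈ S, c χ ^ 2 = 8 := by
    have := hsplit (fun χ => c χ * c χ) (fun χ e => by rw [e, mul_zero])
    rw [hgram, hco] at this
    simp only [sq]
    linarith
  have hval : ∀ χ ∈ S, c χ = 1 ∨ c χ = -1 ∨ c χ = 2 ∨ c χ = -2 := by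
    intro χ hχ
    have h0 : c χ ≠ 0 := (Finset.mem_filter.1 hχ).2
    have h8 : c χ ^ 2 ≤ 8 := by
      rw [← hsq]
      exact Finset.single_le_sum (f := fun y => c y ^ 2) (fun y _ => sq_nonneg _) hχ
    have h1 : -2 ≤ c χ := by nlinarith
    have h2 : c χ ≤ 2 := by nlinarith
    omega
  have hcong : ∀ χ ∈ S, (9 : ℤ) ∣ (d χ : ℤ) - c χ := fun χ _ => by
    obtain ⟨n, hn⟩ := h9 χ
    exact ⟨(n : ℤ) - c χ, by linarith⟩
  have hdvd : ∀ χ ∈ S, d χ ∣ m := by
    intro χ hχ
    have h1 : d χ ∣ 9 * m := hGm ▸ ClassAlgebraOmega.charDegree_dvd_card χ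
    have h3 : ¬ 3 ∣ d χ := fun h3 => by
      have := hcong χ hχ
      rcases hval χ hχ with e | e | e | e <;> rw [e] at this <;> omega
    have hco3 : Nat.Coprime (d χ) 9 := by
      rw [show (9 : ℕ) = 3 ^ 2 by norm_num]
      exact (((Nat.Prime.coprime_iff_not_dvd Nat.prime_three).2 h3).symm).pow_right 2
    exact hco3.dvd_of_dvd_mul_left h1
  refine ⟨S, c, d, hval, ?_, ?_, hcong, ?_, hsq, ?_, ?_, ?_⟩
  · intro χ hχ
    obtain ⟨d₁, d₂, h1, h2, e⟩ := exists_dvd_and_dvd_of_dvd_mul (hdvd χ hχ)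
    obtain ⟨i, hi, rfl⟩ := (Nat.dvd_prime_pow Nat.prime_two).1 h1
    obtain ⟨j, hj, rfl⟩ := (Nat.dvd_prime_pow hq).1 h2
    exact ⟨i, j, hi, hj, e⟩
  · intro χ hχ
    exact two_le_degree hG (Finset.mem_erase.1 (Finset.mem_filter.1 hχ).1).1
  · intro χ _
    obtain ⟨n, hn⟩ := h9 χ
    omega
  · have := hsplit (fun χ => (d χ : ℤ) * c χ) (fun χ e => by rw [e, mul_zero])
    rw [horth, hco, hdo] at this
    rw [Finset.sum_congr rfl (fun χ _ => mul_comm (c χ) (d χ : ℤ))]
    push_cast at this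
    linarith
  · -- the class constant
    have e := h.triple_eq hcol hcol
    rw [hT, hGm] at e
    have hterm : ∀ χ : Cfsg.IrrCharacter G, (c χ : ℚ) * c χ * c χ / ((d χ : ℤ) : ℚ) * (m : ℚ) =
        ((c χ ^ 3 * ((m / d χ : ℕ) : ℤ) : ℤ) : ℚ) ∨ (χ ≠ o ∧ χ ∉ S) := by
      intro χ
      by_cases hχ : χ = o ∨ χ ∈ S
      · left
        have hdd : d χ ∣ m := by
          rcases hχ with rfl | hχ
          · rw [hdo]; exact one_dvd _
          · exact hdvd χ hχ
        have hd0 : (d χ : ℚ) ≠ 0 := Nat.cast_ne_zero.2 (ClassAlgebraVal.charDegree_pos χ).ne'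
        rw [Int.cast_mul, Int.cast_pow, Int.cast_natCast, Int.cast_natCast, Nat.cast_div hdd hd0]
        ring
      · push Not at hχ
        exact Or.inr hχ
    have hzero : ∀ χ, χ ≠ o → χ ∉ S → c χ = 0 := fun χ h1 h2 => by
      by_contra h0
      exact h2 (Finset.mem_filter.2 ⟨Finset.mem_erase.2 ⟨h1, Finset.mem_univ _⟩, h0⟩)
    have hall : ∀ χ : Cfsg.IrrCharacter G, (c χ : ℚ) * c χ * c χ / ((d χ : ℤ) : ℚ) * (m : ℚ) =
        ((c χ ^ 3 * ((m / d χ : ℕ) : ℤ) : ℤ) : ℚ) := fun χ => by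
      rcases hterm χ with e | ⟨h1, h2⟩
      · exact e
      · simp [hzero χ h1 h2]
    have hsum := congrArg (fun z : ℚ => z * (m : ℚ)) e
    simp only [hd] at hall
    simp only [Finset.sum_mul, hall] at hsum
    have hm0 : (m : ℚ) ≠ 0 := by
      have : 0 < m := Nat.mul_pos (by positivity) (pow_pos hq.pos _)
      exact_mod_cast this.ne'
    have hsum' : (∑ χ : Cfsg.IrrCharacter G, c χ ^ 3 * ((m / d χ : ℕ) : ℤ)) = ((9 * (7 + T) : ℕ) : ℤ) := by
      apply Int.cast_injective (α := ℚ)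
      rw [Int.cast_sum]
      simp only [hd] at hsum ⊢
      rw [hsum]
      push_cast
      field_simp
    rw [← hsum', hsplit _ (fun χ e => by simp [e]), hco, hdo, Nat.div_one, one_pow, one_mul]
  · have e := CharBasicOrth.sum_sq_apply_one (G := G)
    simp only [ClassAlgebraVal.apply_one_eq_charDegree] at e
    have e' : ∑ χ : Cfsg.IrrCharacter G, d χ * d χ = 9 * m := by
      apply Nat.cast_injective (R := ℂ)
      rw [← hGm, ← e, Nat.cast_sum]
      exact Finset.sum_congr rfl fun χ _ => by rw [Nat.cast_mul, sq]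
    rw [← e', ← Finset.add_sum_erase _ _ (Finset.mem_univ o)]
    have : ∑ χ ∈ S, d χ * d χ ≤ ∑ χ ∈ Finset.univ.erase o, d χ * d χ :=
      Finset.sum_le_sum_of_subset (Finset.filter_subset _ _)
    rw [hdo]
    omega

end Cfsg.Agent.S2220Chars8
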