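import Mathlib
import Cfsg.Agent.Lib.SelfCentNineA6Core64
import Cfsg.Agent.Lib.SelfCentThreeMain

/-!
Invariant subgroups of order prime to three in a group with a strongly self-centralising elementary
abelian Sylow 3-subgroup of order nine and one class of elements of order three.
-/

set_option autoImplicit false

namespace Cfsg.Agent.S2220Local8

open SelfCentThreeBase SelfCentThreeLocal SelfCentThreeLift SelfCentNineA6Core64
open scoped IsMulCommutative

universe u

variable {G : Type u} [Group G]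

/-- The situation. -/
structure Hyp (R : Subgroup G) (x : G) : Prop where
  conf : Conf R
  mem : x ∈ R
  ne : x ≠ 1
  sylow : ∃ P : Sylow 3 G, (P : Subgroup G) = R
  fused : ∀ v ∈ R, v ≠ 1 → IsConj x v

/-- Conjugate subgroup. -/
abbrev cj (g : G) (M : Subgroup G) : Subgroup G := M.map (MulAut.conj g).toMonoidHom

theorem mem_cj {g y : G} {M : Subgroup G} : y ∈ cj g M ↔ g⁻¹ * y * g ∈ M := by
  constructor
  · rintro ⟨m, hm, rfl⟩
    simpa [mul_assoc] using hm
  · intro hy
    exact ⟨_, hy, by simp [mul_assoc]⟩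

theorem cj_mul (a b : G) (M : Subgroup G) : cj (a * b) M = cj a (cj b M) := by
  ext y
  simp only [mem_cj, mul_inv_rev, mul_assoc]

theorem cj_one (M : Subgroup G) : cj (1 : G) M = M := by
  ext y
  simp [mem_cj]

theorem card_cj (g : G) (M : Subgroup G) : Nat.card (cj g M) = Nat.card M :=
  Subgroup.card_map_of_injective (MulAut.conj g).injective

theorem cj_eq_self_iff [Finite G] {g : G} {M : Subgroup G} :
    cj g M = M ↔ g ∈ Subgroup.normalizer (M : Set G) := by
  constructor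
  · intro e
    exact mem_normalizer_of_invariant fun k hk => by rw [← e]; exact ⟨k, hk, rfl⟩
  · intro hg
    refine Subgroup.eq_of_le_of_card_ge ?_ (card_cj g M).ge
    rintro _ ⟨k, hk, rfl⟩
    exact (Subgroup.mem_normalizer_iff.1 hg k).1 hk

theorem mem_normalizer_cj [Finite G] {g a : G} {M : Subgroup G} :
    a ∈ Subgroup.normalizer (cj g M : Set G) ↔ g⁻¹ * a * g ∈ Subgroup.normalizer (M : Set G) := by
  rw [← cj_eq_self_iff, ← cj_eq_self_iff, cj_mul, cj_mul]
  constructor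
  · intro e
    rw [e, ← cj_mul, inv_mul_cancel, cj_one]
  · intro e
    have := congrArg (cj g) e
    rwa [← cj_mul g g⁻¹, mul_inv_cancel, cj_one] at this

section FpfAct

variable [Finite G] {u : G} {K : Subgroup G}

theorem exists_preimage (hinv : ∀ k ∈ K, u * k * u⁻¹ ∈ K)
    (hfix : ∀ k ∈ K, Commute k u → k = 1) {k : G} (hk : k ∈ K) :
    ∃ v ∈ K, k = v⁻¹ * (u * v * u⁻¹) := by
  let f : K → K := fun v => ⟨(v : G)⁻¹ * (u * v * u⁻¹), K.mul_mem (K.inv_mem v.2) (hinv _ v.2)⟩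
  have hf : Function.Injective f := by
    intro a b h
    have h' : (a : G)⁻¹ * (u * a * u⁻¹) = (b : G)⁻¹ * (u * b * u⁻¹) := congrArg Subtype.val h
    have hc : Commute ((b : G) * (a : G)⁻¹) u := by
      have e : (b : G) * (a : G)⁻¹ = u * ((b : G) * (a : G)⁻¹) * u⁻¹ := by
        calc (b : G) * (a : G)⁻¹ = b * ((a : G)⁻¹ * (u * a * u⁻¹)) * (u * a * u⁻¹)⁻¹ := by group
          _ = u * ((b : G) * (a : G)⁻¹) * u⁻¹ := by rw [h']; group
      exact eq_mul_inv_iff_mul_eq.1 e
    exact Subtype.ext (mul_inv_eq_one.1 (hfix _ (K.mul_mem b.2 (K.inv_mem a.2)) hc)).symm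
  obtain ⟨v, hv⟩ := (Finite.injective_iff_surjective.1 hf) ⟨k, hk⟩
  exact ⟨v, v.2, (congrArg Subtype.val hv).symm⟩

theorem rel_of (hu : u * u * u = 1) (hinv : ∀ k ∈ K, u * k * u⁻¹ ∈ K)
    (hfix : ∀ k ∈ K, Commute k u → k = 1) {k : G} (hk : k ∈ K) :
    k * (u * k * u⁻¹) * (u * u * k * (u * u)⁻¹) = 1 := by
  obtain ⟨v, -, rfl⟩ := exists_preimage hinv hfix hk
  have e : v⁻¹ * (u * v * u⁻¹) * (u * (v⁻¹ * (u * v * u⁻¹)) * u⁻¹) *
      (u * u * (v⁻¹ * (u * v * u⁻¹)) * (u * u)⁻¹) = v⁻¹ * ((u * u * u) * v * (u * u * u)⁻¹) := by group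
  rw [e, hu]
  group

theorem commute_of (hu : u * u * u = 1) (hinv : ∀ k ∈ K, u * k * u⁻¹ ∈ K)
    (hfix : ∀ k ∈ K, Commute k u → k = 1) {k : G} (hk : k ∈ K) : Commute k (u * k * u⁻¹) := by
  have h1 := rel_of hu hinv hfix hk
  have h2 := rel_of hu hinv hfix (K.inv_mem hk)
  have e1 : u * u * k * (u * u)⁻¹ = (k * (u * k * u⁻¹))⁻¹ := eq_inv_of_mul_eq_one_right h1
  have e2 : u * u * k⁻¹ * (u * u)⁻¹ = (k⁻¹ * (u * k⁻¹ * u⁻¹))⁻¹ := eq_inv_of_mul_eq_one_right h2
  show k * (u * k * u⁻¹) = u * k * u⁻¹ * k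
  calc k * (u * k * u⁻¹) = (u * u * k * (u * u)⁻¹)⁻¹ := by rw [e1, inv_inv]
    _ = u * u * k⁻¹ * (u * u)⁻¹ := by simp [mul_assoc]
    _ = _ := by rw [e2]; group

end FpfAct

variable [Finite G] {R : Subgroup G} {x : G}

theorem Hyp.ord (h : Hyp R x) : orderOf x = 3 := h.conf.orderOf_eq h.mem h.ne

theorem Hyp.cube {v : G} (h : Hyp R x) (hv : v ∈ R) : v * v * v = 1 := by
  rw [← pow_three']; exact h.conf.exp v hv

theorem Hyp.mem_of_commute_x (h : Hyp R x) {g : G} (hg : Commute g x) : g ∈ R :=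
  h.conf.mem_of_commute h.mem h.ne hg

theorem Hyp.eq_one_of_mem_R (h : Hyp R x) {K : Subgroup G} (hcop : ¬ 3 ∣ Nat.card K) {k : G}
    (hk : k ∈ K) (hkR : k ∈ R) : k = 1 := by
  by_contra hne
  refine hcop ?_
  rw [← h.conf.orderOf_eq hkR hne, ← Subgroup.orderOf_mk k hk]
  exact orderOf_dvd_natCard _

theorem Hyp.fpf (h : Hyp R x) {K : Subgroup G} (hK : Inv3 x K) {k : G} (hk : k ∈ K)
    (hc : Commute k x) : k = 1 :=
  h.eq_one_of_mem_R hK.cop hk (h.mem_of_commute_x hc)

theorem Hyp.fpf' (h : Hyp R x) {K : Subgroup G} (hcop : ¬ 3 ∣ Nat.card K) {u : G} (hu : u ∈ R)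
    (hu1 : u ≠ 1) {k : G} (hk : k ∈ K) (hc : Commute k u) : k = 1 :=
  h.eq_one_of_mem_R hcop hk (h.conf.mem_of_commute hu hu1 hc)

theorem Hyp.rel (h : Hyp R x) {K : Subgroup G} (hK : Inv3 x K) {k : G} (hk : k ∈ K) :
    k * (x * k * x⁻¹) * (x * x * k * (x * x)⁻¹) = 1 :=
  rel_of (h.cube h.mem) hK.inv (fun _ hk hc => h.fpf hK hk hc) hk

theorem Hyp.commute_conj (h : Hyp R x) {K : Subgroup G} (hK : Inv3 x K) {k : G} (hk : k ∈ K) :
    Commute k (x * k * x⁻¹) :=
  commute_of (h.cube h.mem) hK.inv (fun _ hk hc => h.fpf hK hk hc) hk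

theorem Hyp.pow_mul_eq (h : Hyp R x) {K : Subgroup G} (hK : Inv3 x K) {k : G} (hk : k ∈ K) :
    (k * x) ^ 3 = 1 := by
  calc (k * x) ^ 3 = k * (x * k * x⁻¹) * (x * x * k * (x * x)⁻¹) * (x * x * x) := by
        rw [pow_succ, pow_two]; group
    _ = 1 := by rw [h.rel hK hk, h.cube h.mem, mul_one]

/-- A non-trivial invariant subgroup is normalised by no element of `R` outside `⟨x⟩`. -/
theorem Hyp.mem_zpowers_of_normalizes (h : Hyp R x) {K : Subgroup G} (hK : Inv3 x K) (hK1 : K ≠ ⊥)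
    {r : G} (hr : r ∈ R) (hrK : r ∈ Subgroup.normalizer (K : Set G)) : r ∈ Subgroup.zpowers x := by
  by_contra hrx
  obtain ⟨⟨k, hk⟩, hk1⟩ := Subgroup.ne_bot_iff_exists_ne_one.1 hK1
  set N := Subgroup.normalizer (K : Set G) with hN
  have hxN : x ∈ N := x_mem_normalizer hK
  have hcm : x * r = r * x := h.conf.comm x h.mem r hr
  have hx3 := h.cube h.mem
  have hr3 := h.cube hr
  have hne : ∀ u, u ∈ R → u ∈ N → u ≠ 1 → ∀ v ∈ K,
      v * (u * v * u⁻¹) * (u * u * v * (u * u)⁻¹) = 1 ∧ Commute v (u * v * u⁻¹) := by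
    intro u hu huN hu1 v hv
    have hinv : ∀ w ∈ K, u * w * u⁻¹ ∈ K := fun w hw => (Subgroup.mem_normalizer_iff.1 huN w).1 hw
    have hfix : ∀ w ∈ K, Commute w u → w = 1 := fun w hw hc => h.fpf' hK.cop hu hu1 hw hc
    exact ⟨rel_of (h.cube hu) hinv hfix hv, commute_of (h.cube hu) hinv hfix hv⟩
  have hnx : ∀ i : ℕ, r * x ^ i ≠ 1 ∧ r * r * x ^ i ≠ 1 := by
    intro i
    constructor
    · intro e
      exact hrx (by rw [eq_inv_of_mul_eq_one_left e]; exact inv_mem (Subgroup.npow_mem_zpowers x i))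
    · intro e
      refine hrx ?_
      have e' : r = x ^ i := by
        calc r = r * (r * r * x ^ i) := by rw [e, mul_one]
          _ = (r * r * r) * x ^ i := by group
          _ = x ^ i := by rw [hr3, one_mul]
      rw [e']; exact Subgroup.npow_mem_zpowers x i
  -- the orbit generates an abelian subgroup
  let A : Subgroup G := Subgroup.closure {v : G | ∃ u, u ∈ R ∧ u ∈ N ∧ v = u * k * u⁻¹}
  have hgen : ∀ a ∈ {v : G | ∃ u, u ∈ R ∧ u ∈ N ∧ v = u * k * u⁻¹},
      ∀ b ∈ {v : G | ∃ u, u ∈ R ∧ u ∈ N ∧ v = u * k * u⁻¹}, a * b = b * a := by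
    rintro _ ⟨u, hu, huN, rfl⟩ _ ⟨v, hv, hvN, rfl⟩
    rcases eq_or_ne (u⁻¹ * v) 1 with e | e
    · rw [inv_mul_eq_one] at e; rw [e]
    · have := (hne (u⁻¹ * v) (R.mul_mem (R.inv_mem hu) hv) (N.mul_mem (N.inv_mem huN) hvN) e k hk).2.map
        (MulAut.conj u).toMonoidHom
      have e2 : u * (u⁻¹ * v * k * (u⁻¹ * v)⁻¹) * u⁻¹ = v * k * v⁻¹ := by group
      simp only [MulEquiv.coe_toMonoidHom, MulAut.conj_apply] at this
      rw [e2] at this
      exact this
  haveI : IsMulCommutative A := Subgroup.isMulCommutative_closure hgen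
  have hmem : ∀ u, u ∈ R → u ∈ N → u * k * u⁻¹ ∈ A := fun u h1 h2 =>
    Subgroup.subset_closure ⟨u, h1, h2, rfl⟩
  have hX : ∀ i : ℕ, x ^ i ∈ R ∧ x ^ i ∈ N := fun i => ⟨R.pow_mem h.mem i, N.pow_mem hxN i⟩
  let f : ∀ i j : ℕ, A := fun i j => ⟨x ^ i * r ^ j * k * (x ^ i * r ^ j)⁻¹,
    hmem _ (R.mul_mem (hX i).1 (R.pow_mem hr j)) (N.mul_mem (hX i).2 (N.pow_mem hrK j))⟩
  have hv : ∀ a b : G, Commute a b → ∀ i : ℕ, (a * b) ^ i = a ^ i * b ^ i := fun a b c i => c.mul_pow i
  -- lines through the origin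
  have line : ∀ a : ℕ, r * x ^ a ≠ 1 → f 0 0 * f (a % 3) 1 * f (2 * a % 3) 2 = 1 := by
    intro a ha
    have hcma : Commute (x ^ a) r := Commute.pow_left hcm a
    have := (hne (r * x ^ a) (R.mul_mem hr (hX a).1) (N.mul_mem hrK (hX a).2) ha k hk).1
    have hp : ∀ n : ℕ, x ^ n = x ^ (n % 3) := fun n => by
      conv_lhs => rw [← Nat.mod_add_div n 3, pow_add, pow_mul, pow_three', hx3, one_pow, mul_one]
    have e2 : r * x ^ a * (r * x ^ a) = x ^ (2 * a % 3) * r ^ 2 := by
      rw [← hp, ← pow_two, hv r (x ^ a) hcma.symm, ← pow_mul, mul_comm a 2]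
      exact ((show Commute x r from hcm).symm.pow_pow 2 (2 * a)).eq
    rw [e2, ← hcma.eq, hp a] at this
    apply Subtype.ext
    simp only [f, Subgroup.coe_mul, OneMemClass.coe_one, pow_zero, mul_one, inv_one, one_mul, pow_one]
    exact this
  have row : ∀ j : ℕ, f 0 j * f 1 j * f 2 j = 1 := by
    intro j
    have hj : r ^ j * k * (r ^ j)⁻¹ ∈ K :=
      (Subgroup.mem_normalizer_iff.1 (N.pow_mem hrK j) k).1 hk
    have := h.rel hK hj
    apply Subtype.ext
    simp only [f, Subgroup.coe_mul, OneMemClass.coe_one, pow_zero, one_mul, pow_one, pow_two]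
    rw [← this]
    group
  have h0 := line 0 (hnx 0).1
  have h1 := line 1 (hnx 1).1
  have h2 := line 2 (hnx 2).1
  have r0 := row 0
  have r1 := row 1
  have r2 := row 2
  norm_num at h0 h1 h2
  have hcube : f 0 0 ^ 3 = 1 := by
    have key : (f 0 0 * f 0 1 * f 0 2) * (f 0 0 * f 1 1 * f 2 2) * (f 0 0 * f 2 1 * f 1 2) *
        (f 0 0 * f 1 0 * f 2 0) = f 0 0 ^ 3 * ((f 0 0 * f 1 0 * f 2 0) * (f 0 1 * f 1 1 * f 2 1) *
          (f 0 2 * f 1 2 * f 2 2)) := by
      simp only [pow_three]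
      ac_rfl
    rw [h0, h1, h2, r0, r1, r2] at key
    simpa using key.symm
  have hk3 : k ^ 3 = 1 := by
    have := congrArg Subtype.val hcube
    simpa [f] using this
  haveI : Fact (Nat.Prime 3) := ⟨Nat.prime_three⟩
  refine hK.cop ?_
  have hne1 : k ≠ 1 := fun e => hk1 (Subtype.ext e)
  rw [← orderOf_eq_prime hk3 hne1, ← Subgroup.orderOf_mk k hk]
  exact orderOf_dvd_natCard _

/-- `x` is self-centralising in the normaliser of a non-trivial invariant subgroup. -/
theorem Hyp.sc (h : Hyp R x) {K : Subgroup G} (hK : Inv3 x K) (hK1 : K ≠ ⊥) {H : Subgroup G}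
    (hH : H ≤ Subgroup.normalizer (K : Set G)) (hxH : x ∈ H) : SC3 (⟨x, hxH⟩ : H) := by
  refine ⟨by rw [Subgroup.orderOf_mk, h.ord], fun g hg => ?_⟩
  have hgx : Commute (g : G) x := congrArg Subtype.val hg
  have hz := h.mem_zpowers_of_normalizes hK hK1 (h.mem_of_commute_x hgx) (hH g.2)
  obtain ⟨j, hj⟩ := Subgroup.mem_zpowers_iff.1 hz
  rw [← zpow_mod_orderOf, h.ord] at hj
  rcases (by omega : j % 3 = 0 ∨ j % 3 = 1 ∨ j % 3 = 2) with e | e | e
  · left; apply Subtype.ext
    rw [show ((3 : ℕ) : ℤ) = 3 from rfl, e, zpow_zero] at hj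
    simpa using hj.symm
  · right; left; apply Subtype.ext
    rw [show ((3 : ℕ) : ℤ) = 3 from rfl, e, zpow_one] at hj
    exact hj.symm
  · right; right; apply Subtype.ext
    rw [show ((3 : ℕ) : ℤ) = 3 from rfl, e] at hj
    show (g : G) = x⁻¹
    rw [← hj]
    refine eq_inv_of_mul_eq_one_left ?_
    rw [zpow_two]; exact h.cube h.mem

theorem inv3_subgroupOf {H L : Subgroup G} (hL : Inv3 x L) (hLH : L ≤ H) (hxH : x ∈ H) :
    Inv3 (⟨x, hxH⟩ : H) (L.subgroupOf H) :=
  ⟨fun k hk => hL.inv _ hk, fun h3 => hL.cop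
    (by rwa [Nat.card_congr (Subgroup.subgroupOfEquivOfLe hLH).toEquiv] at h3)⟩

theorem card_subgroupOf {H L : Subgroup G} (hLH : L ≤ H) : Nat.card (L.subgroupOf H) = Nat.card L :=
  Nat.card_congr (Subgroup.subgroupOfEquivOfLe hLH).toEquiv

theorem Hyp.card_mod (h : Hyp R x) {K : Subgroup G} (hK : Inv3 x K) : Nat.card K % 3 = 1 := by
  rcases eq_or_ne K ⊥ with rfl | hK1
  · rw [Subgroup.card_bot]
  have hxN : x ∈ Subgroup.normalizer (K : Set G) := x_mem_normalizer hK
  have := (inv3_subgroupOf hK Subgroup.le_normalizer hxN).card_mod (h.sc hK hK1 le_rfl hxN)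
  rwa [card_subgroupOf Subgroup.le_normalizer] at this

theorem Hyp.nilpotent (h : Hyp R x) {K : Subgroup G} (hK : Inv3 x K) : Group.IsNilpotent K := by
  rcases eq_or_ne K ⊥ with rfl | hK1
  · infer_instance
  have hxN : x ∈ Subgroup.normalizer (K : Set G) := x_mem_normalizer hK
  haveI := (inv3_subgroupOf hK Subgroup.le_normalizer hxN).isNilpotent (h.sc hK hK1 le_rfl hxN)
  exact Group.nilpotent_of_mulEquiv (Subgroup.subgroupOfEquivOfLe (Subgroup.le_normalizer (H := K)))

/-- A nilpotent core with quotient of order three or six. -/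
structure Small (x : G) (H N : Subgroup G) : Prop where
  le : N ≤ H
  norm : H ≤ Subgroup.normalizer (N : Set G)
  inv : Inv3 x N
  max : ∀ L, L ≤ H → Inv3 x L → L ≤ N
  card : Nat.card H = 3 * Nat.card N ∨ Nat.card H = 6 * Nat.card N

/-- An elementary abelian core with simple quotient of order sixty. -/
structure Five (x : G) (H N T : Subgroup G) : Prop where
  lt : N < T
  le : T ≤ H
  norm : H ≤ Subgroup.normalizer (N : Set G)
  inv : Inv3 x T
  sq : ∀ n ∈ N, n * n = 1
  card : Nat.card H = 60 * Nat.card N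
  smp : ∀ K, N ≤ K → K ≤ H → H ≤ Subgroup.normalizer (K : Set G) → K = N ∨ K = H

theorem le_normalizer_map {H : Subgroup G} {N : Subgroup H} (hN : N.Normal) :
    H ≤ Subgroup.normalizer ((N.map H.subtype : Subgroup G) : Set G) := fun a ha =>
  mem_normalizer_of_invariant (by
    rintro _ ⟨n, hn, rfl⟩
    exact ⟨⟨a, ha⟩ * n * (⟨a, ha⟩ : H)⁻¹, hN.conj_mem n hn _, rfl⟩)

theorem normal_subgroupOf_le {H K : Subgroup G} (hn : H ≤ Subgroup.normalizer (K : Set G)) :
    (K.subgroupOf H).Normal :=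
  ⟨fun k hk a => (Subgroup.mem_normalizer_iff.1 (hn a.2) _).1 hk⟩

/-- The normaliser of a non-trivial invariant subgroup. -/
theorem Hyp.loc (h : Hyp R x) {K : Subgroup G} (hK : Inv3 x K) (hK1 : K ≠ ⊥) :
    (∃ N, Small x (Subgroup.normalizer (K : Set G)) N) ∨
      ∃ N T, Five x (Subgroup.normalizer (K : Set G)) N T := by
  set H := Subgroup.normalizer (K : Set G) with hH
  have hxH : x ∈ H := x_mem_normalizer hK
  have hsc := h.sc hK hK1 (le_refl H) hxH
  have hcard : ∀ N : Subgroup H, Nat.card (N.map H.subtype) = Nat.card N := fun N =>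
    Subgroup.card_map_of_injective H.subtype_injective
  rcases SelfCentThreeMain.tri _ H ⟨x, hxH⟩ rfl hsc with
    ⟨N, hN, hNi, hc⟩ | ⟨N, T, hN, hNT, hT, hsq, hc, hsmp⟩ | ⟨hs, -⟩
  · haveI := hN
    refine Or.inl ⟨N.map H.subtype, Subgroup.map_subtype_le _, le_normalizer_map hN,
      inv3_map H.subtype hNi, ?_, by rwa [hcard]⟩
    intro L hLH hL
    have hLi := inv3_subgroupOf hL hLH hxH
    have hsup := inv3_sup hLi hNi (by rw [Subgroup.normalizer_eq_top_iff.2 hN]; exact le_top)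
    obtain ⟨d, hd⟩ := Subgroup.card_dvd_of_le (le_sup_right : N ≤ L.subgroupOf H ⊔ N)
    have hm := hsup.card_mod hsc
    have hm' := hNi.card_mod hsc
    rw [hd, Nat.mul_mod, hm', one_mul, Nat.mod_mod] at hm
    have hH' := Subgroup.card_subgroup_dvd_card (L.subgroupOf H ⊔ N)
    rw [hd] at hH'
    have hd6 : d ∣ 6 := by
      rcases hc with hc | hc <;> rw [hc, mul_comm _ (Nat.card N)] at hH'
      · exact (Nat.dvd_of_mul_dvd_mul_left Nat.card_pos hH').trans (by norm_num)
      · exact Nat.dvd_of_mul_dvd_mul_left Nat.card_pos hH'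
    have key : ∀ d ∈ Nat.divisors 6, d % 3 = 1 → d = 1 := by decide
    have hd1 := key d (Nat.mem_divisors.2 ⟨hd6, by norm_num⟩) hm
    have hle : L.subgroupOf H ≤ N := le_sup_left.trans
      (Subgroup.eq_of_le_of_card_ge le_sup_right (by rw [hd, hd1, mul_one])).ge
    intro g hg
    exact ⟨⟨g, hLH hg⟩, hle (Subgroup.mem_subgroupOf.2 hg), rfl⟩
  · refine Or.inr ⟨N.map H.subtype, T.map H.subtype,
      (Subgroup.map_lt_map_iff_of_injective H.subtype_injective).2 hNT, Subgroup.map_subtype_le _,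
      le_normalizer_map hN, inv3_map H.subtype hT, ?_, by rwa [hcard], ?_⟩
    · rintro _ ⟨n, hn, rfl⟩
      exact congrArg Subtype.val (hsq n hn)
    · intro L hNL hLH hn
      rcases hsmp (L.subgroupOf H) (normal_subgroupOf_le hn)
        (fun n hn' => Subgroup.mem_subgroupOf.2 (hNL ⟨n, hn', rfl⟩)) with e | e
      · exact Or.inl (by rw [← e, Subgroup.subgroupOf_map_subtype, inf_eq_left.2 hLH])
      · exact Or.inr (le_antisymm hLH (Subgroup.subgroupOf_eq_top.1 e))
  · exfalso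
    have hKH : K ≤ H := Subgroup.le_normalizer
    rcases (normal_subgroupOf_le (H := H) (K := K) le_rfl).eq_bot_or_eq_top with e | e
    · rw [Subgroup.subgroupOf_eq_bot, disjoint_iff, inf_eq_left.2 hKH] at e
      exact hK1 e
    · have hxK : x ∈ K := Subgroup.subgroupOf_eq_top.1 e hxH
      exact h.ne (h.fpf hK hxK (Commute.refl x))

/-- An invariant normal subgroup lies in the core. -/
theorem Hyp.le_core (h : Hyp R x) {H N T L : Subgroup G} (hF : Five x H N T) (hxH : x ∈ H)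
    (hL : Inv3 x L) (hLH : L ≤ H) (hn : H ≤ Subgroup.normalizer (L : Set G)) : L ≤ N := by
  have hN : Inv3 x N :=
    ⟨fun k hk => (Subgroup.mem_normalizer_iff.1 (hF.norm hxH) k).1 hk,
      fun h3 => hF.inv.cop (h3.trans (Subgroup.card_dvd_of_le hF.lt.le))⟩
  have hsup := inv3_sup hL hN (hLH.trans hF.norm)
  rcases hF.smp (L ⊔ N) le_sup_right (sup_le hLH (hF.lt.le.trans hF.le))
    (fun a ha => mem_normalizer_of_invariant fun k hk => by
      have hm : (L ⊔ N).map (MulAut.conj a).toMonoidHom = L ⊔ N := by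
        rw [Subgroup.map_sup]
        exact congrArg₂ (· ⊔ ·) (cj_eq_self_iff.2 (hn ha)) (cj_eq_self_iff.2 (hF.norm ha))
      rw [← hm]; exact ⟨k, hk, rfl⟩) with e | e
  · exact le_sup_left.trans e.le
  · exact absurd (h.fpf hsup (e.symm ▸ hxH : x ∈ L ⊔ N) (Commute.refl x)) h.ne

theorem Five.inv_core {H N T : Subgroup G} (hF : Five x H N T) (hxH : x ∈ H) : Inv3 x N :=
  ⟨fun k hk => (Subgroup.mem_normalizer_iff.1 (hF.norm hxH) k).1 hk,
    fun h3 => hF.inv.cop (h3.trans (Subgroup.card_dvd_of_le hF.lt.le))⟩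

/-- The normaliser of a maximal invariant subgroup. -/
theorem Hyp.maxI_small (h : Hyp R x) {M : Subgroup G} (hM : MaxI x M) (hM1 : M ≠ ⊥) :
    Small x (Subgroup.normalizer (M : Set G)) M := by
  have hMH : M ≤ Subgroup.normalizer (M : Set G) := Subgroup.le_normalizer
  rcases h.loc hM.1 hM1 with ⟨N, hN⟩ | ⟨N, T, hF⟩
  · have e : N = M := hM.2 N hN.inv (hN.max M hMH hM.1)
    rw [e] at hN
    exact hN
  · have hMN := h.le_core hF (x_mem_normalizer hM.1) hM.1 hMH le_rfl
    have := hM.2 T hF.inv (hMN.trans hF.lt.le)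
    exact absurd (this ▸ hF.lt) (fun hlt => hlt.not_ge hMN)

/-- The order of the normaliser of `⟨x⟩`. -/
theorem Hyp.card_norm_x (h : Hyp R x) :
    Nat.card (Subgroup.normalizer (Subgroup.zpowers x : Set G)) = 18 := by
  classical
  haveI := Fintype.ofFinite G
  have hz : ∀ g : G, g ∈ Subgroup.normalizer (Subgroup.zpowers x : Set G) ↔
      (g * x * g⁻¹ = x ∨ g * x * g⁻¹ = x⁻¹) := by
    intro g
    constructor
    · intro hg
      have hm := (Subgroup.mem_normalizer_iff.1 hg x).1 (Subgroup.mem_zpowers x)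
      obtain ⟨j, hj⟩ := Subgroup.mem_zpowers_iff.1 hm
      rw [← zpow_mod_orderOf, h.ord] at hj
      rcases (by omega : j % 3 = 0 ∨ j % 3 = 1 ∨ j % 3 = 2) with e | e | e <;>
        rw [show ((3 : ℕ) : ℤ) = 3 from rfl, e] at hj
      · rw [zpow_zero, eq_comm, conj_eq_one_iff] at hj
        exact absurd hj h.ne
      · exact Or.inl (by rw [← hj, zpow_one])
      · refine Or.inr ?_
        rw [← hj, zpow_two]
        exact eq_inv_of_mul_eq_one_left (h.cube h.mem)
    · intro hg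
      refine mem_normalizer_of_invariant fun k hk => ?_
      obtain ⟨j, rfl⟩ := Subgroup.mem_zpowers_iff.1 hk
      rw [← conj_zpow]
      rcases hg with e | e <;> rw [e]
      · exact Subgroup.zpow_mem_zpowers x j
      · exact Subgroup.zpow_mem _ (inv_mem (Subgroup.mem_zpowers x)) j
  have hne : x ≠ x⁻¹ := fun e => h.ne (by
    have h2 : x * x = 1 := by nth_rewrite 2 [e]; exact mul_inv_cancel x
    have h3 := h.cube h.mem
    rwa [h2, one_mul] at h3)
  have hxi : x⁻¹ ≠ 1 := inv_ne_one.2 h.ne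
  have c1 := h.conf.card_coset h.mem h.ne (IsConj.refl x)
  have c2 := h.conf.card_coset h.mem h.ne (h.fused _ (R.inv_mem h.mem) hxi)
  rw [Nat.card_eq_fintype_card, Fintype.card_subtype] at c1 c2 ⊢
  rw [Finset.filter_congr (fun g _ => hz g), Finset.filter_or, Finset.card_union_of_disjoint
    (Finset.disjoint_filter.2 fun g _ h1 h2 => hne (h1.symm.trans h2)), c1, c2]

/-- Conjugates in a subgroup with Sylow subgroup `⟨x⟩`. -/
theorem Hyp.sylow_conj (h : Hyp R x) {H : Subgroup G} (hxH : x ∈ H) (h9 : ¬ 9 ∣ Nat.card H) {y : G}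
    (hy : y ∈ H) (hy3 : orderOf y = 3) : ∃ a ∈ H, a * y * a⁻¹ ∈ Subgroup.zpowers x := by
  haveI : Fact (Nat.Prime 3) := ⟨Nat.prime_three⟩
  have hp : ∀ (z : G) (hz : z ∈ H), orderOf z = 3 → IsPGroup 3 (Subgroup.zpowers (⟨z, hz⟩ : H)) :=
    fun z hz e => IsPGroup.of_card (n := 1) (by rw [Nat.card_zpowers, Subgroup.orderOf_mk, e, pow_one])
  obtain ⟨P, hP⟩ := (hp x hxH h.ord).exists_le_sylow
  obtain ⟨Q, hQ⟩ := (hp y hy hy3).exists_le_sylow
  obtain ⟨a, ha⟩ := MulAction.exists_smul_eq H Q P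
  have hPeq : (P : Subgroup H) = Subgroup.zpowers ⟨x, hxH⟩ := by
    obtain ⟨k, hk⟩ := IsPGroup.iff_card.1 P.isPGroup'
    have hk1 : k ≤ 1 := by
      by_contra hk2
      exact h9 ((pow_dvd_pow 3 (by omega : 2 ≤ k)).trans (hk ▸ Subgroup.card_subgroup_dvd_card _))
    refine (Subgroup.eq_of_le_of_card_ge hP ?_).symm
    rw [hk, Nat.card_zpowers, Subgroup.orderOf_mk, h.ord]
    exact le_trans (Nat.pow_le_pow_right (by norm_num) hk1) (by norm_num)
  have hm : a * ⟨y, hy⟩ * a⁻¹ ∈ (P : Subgroup H) := by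
    rw [← ha, Sylow.coe_subgroup_smul]
    exact ⟨_, hQ (Subgroup.mem_zpowers _), rfl⟩
  rw [hPeq] at hm
  obtain ⟨j, hj⟩ := hm
  exact ⟨a, a.2, j, by simpa using congrArg Subtype.val hj⟩

theorem Small.not_nine {H N : Subgroup G} (hS : Small x H N) : ¬ 9 ∣ Nat.card H := by
  intro h9
  have := hS.inv.cop
  rcases hS.card with e | e <;> omega

theorem Five.not_nine {H N T : Subgroup G} (hF : Five x H N T) (hxH : x ∈ H) : ¬ 9 ∣ Nat.card H := by
  intro h9
  have := (hF.inv_core hxH).cop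
  have := hF.card
  omega

/-- Invariant conjugates come from the normaliser of `⟨x⟩`. -/
theorem Hyp.exists_norm_conj (h : Hyp R x) {M : Subgroup G}
    (h9 : ¬ 9 ∣ Nat.card (Subgroup.normalizer (M : Set G))) (hxM : x ∈ Subgroup.normalizer (M : Set G))
    {g : G} (hg : x ∈ Subgroup.normalizer (cj g M : Set G)) :
    ∃ a ∈ Subgroup.normalizer (Subgroup.zpowers x : Set G), cj g M = cj a M := by
  have hy : g⁻¹ * x * g ∈ Subgroup.normalizer (M : Set G) := mem_normalizer_cj.1 hg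
  have hy3 : orderOf (g⁻¹ * x * g) = 3 := by
    have := MulEquiv.orderOf_eq (MulAut.conj g⁻¹) x
    simp only [MulAut.conj_apply, inv_inv] at this
    rw [this, h.ord]
  obtain ⟨b, hb, hbx⟩ := h.sylow_conj hxM h9 hy hy3
  refine ⟨g * b⁻¹, ?_, ?_⟩
  · set c := g * b⁻¹ with hc
    have e : c⁻¹ * x * c = b * (g⁻¹ * x * g) * b⁻¹ := by rw [hc]; group
    have hcx : c⁻¹ * x * c ∈ Subgroup.zpowers x := e ▸ hbx
    have hci : c⁻¹ ∈ Subgroup.normalizer (Subgroup.zpowers x : Set G) :=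
      mem_normalizer_of_invariant fun k hk => by
        obtain ⟨j, rfl⟩ := Subgroup.mem_zpowers_iff.1 hk
        rw [← conj_zpow, inv_inv]
        exact Subgroup.zpow_mem _ hcx j
    simpa using inv_mem hci
  · rw [cj_mul, cj_eq_self_iff.2 (inv_mem hb)]

theorem Hyp.inv3_cj (h : Hyp R x) {M : Subgroup G} (hM : Inv3 x M) {a : G}
    (ha : a ∈ Subgroup.normalizer (Subgroup.zpowers x : Set G)) : Inv3 x (cj a M) := by
  have hm : a⁻¹ * x * a ∈ Subgroup.zpowers x := by
    have := (Subgroup.mem_normalizer_iff.1 (inv_mem ha) x).1 (Subgroup.mem_zpowers x)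
    rwa [inv_inv] at this
  have hxn : x ∈ Subgroup.normalizer (cj a M : Set G) :=
    mem_normalizer_cj.2 (Subgroup.zpowers_le.2 (x_mem_normalizer hM) hm)
  exact ⟨fun k hk => (Subgroup.mem_normalizer_iff.1 hxn k).1 hk, by rw [card_cj]; exact hM.cop⟩

/-- The order of the normaliser of `⟨x⟩` in a subgroup with self-centralising `x`. -/
theorem Hyp.card_norm_in (h : Hyp R x) {H : Subgroup G} (hxH : x ∈ H) (hsc : SC3 (⟨x, hxH⟩ : H))
    (h9 : ¬ 9 ∣ Nat.card H) :
    (Nat.card ↥(Subgroup.normalizer (Subgroup.zpowers x : Set G) ⊓ H) = 3 ∧ Nat.card H % 9 = 3) ∨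
      (Nat.card ↥(Subgroup.normalizer (Subgroup.zpowers x : Set G) ⊓ H) = 6 ∧ Nat.card H % 9 = 6 ∧
        ∃ i ∈ H, i * i = 1 ∧ i * x * i = x⁻¹) := by
  classical
  haveI : Fact (Nat.Prime 3) := ⟨Nat.prime_three⟩
  set L := Subgroup.normalizer (Subgroup.zpowers x : Set G) ⊓ H with hL
  have hzL : Subgroup.zpowers x ≤ L :=
    le_inf Subgroup.le_normalizer (Subgroup.zpowers_le.2 hxH)
  obtain ⟨P, hP⟩ := SelfCentThreeMain.exists_sylow hsc
  have hmap : ((P : Subgroup H)).map H.subtype = Subgroup.zpowers x := by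
    rw [hP, MonoidHom.map_zpowers]; rfl
  have hNP : Nat.card (Subgroup.normalizer ((P : Subgroup H) : Set H)) = Nat.card L := by
    rw [← Subgroup.card_map_of_injective H.subtype_injective]
    congr 1
    congr 1
    ext g
    constructor
    · rintro ⟨a, ha, rfl⟩
      refine ⟨mem_normalizer_of_invariant fun k hk => ?_, a.2⟩
      rw [← hmap] at hk ⊢
      obtain ⟨p, hp, rfl⟩ := hk
      exact ⟨a * p * a⁻¹, (Subgroup.mem_normalizer_iff.1 ha p).1 hp, rfl⟩
    · rintro ⟨hg, hgH⟩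
      refine ⟨⟨g, hgH⟩, mem_normalizer_of_invariant fun p hp => ?_, rfl⟩
      have h1 : g * (p : G) * g⁻¹ ∈ Subgroup.zpowers x :=
        (Subgroup.mem_normalizer_iff.1 hg _).1 (hmap ▸ ⟨p, hp, rfl⟩)
      rw [← hmap] at h1
      obtain ⟨p', hp', e⟩ := h1
      have : (⟨g, hgH⟩ : H) * p * (⟨g, hgH⟩ : H)⁻¹ = p' := Subtype.ext e.symm
      exact this ▸ hp'
  have hmul := (Subgroup.normalizer ((P : Subgroup H) : Set H)).card_mul_index
  have hidx : (Subgroup.normalizer ((P : Subgroup H) : Set H)).index = Nat.card (Sylow 3 H) :=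
    P.card_eq_index_normalizer.symm
  rw [hidx, hNP] at hmul
  have hmod : Nat.card (Sylow 3 H) % 3 = 1 := card_sylow_modEq_one 3 H
  -- at most six elements
  have hd3 : 3 ∣ Nat.card L := by
    have := Subgroup.card_dvd_of_le hzL
    rwa [Nat.card_zpowers, h.ord] at this
  by_cases hi : ∃ g ∈ L, g * x * g⁻¹ ≠ x
  · obtain ⟨g, hg, hgx⟩ := hi
    have hm := (Subgroup.mem_normalizer_iff.1 hg.1 x).1 (Subgroup.mem_zpowers x)
    have hgi : (⟨g, hg.2⟩ : H) * ⟨x, hxH⟩ * (⟨g, hg.2⟩ : H)⁻¹ = (⟨x, hxH⟩ : H)⁻¹ := by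
      have hm' : (⟨g, hg.2⟩ : H) * ⟨x, hxH⟩ * (⟨g, hg.2⟩ : H)⁻¹ ∈ Subgroup.zpowers (⟨x, hxH⟩ : H) := by
        obtain ⟨j, hj⟩ := hm
        exact ⟨j, Subtype.ext (by simpa using hj)⟩
      rcases (hsc.mem_zpowers_iff _).1 hm' with e | e | e
      · exact absurd (conj_eq_one_iff.1 e) hsc.ne_one
      · exact absurd (congrArg Subtype.val e) hgx
      · exact e
    obtain ⟨h1, h2⟩ := SelfCentThreeMain.inverting hsc hgi
    have hgg : g * g = 1 := congrArg Subtype.val h1
    have hgxg : g * x * g = x⁻¹ := congrArg Subtype.val h2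
    right
    have hd2 : 2 ∣ Nat.card L := by
      have hg1 : g ≠ 1 := fun e => hgx (by rw [e]; group)
      haveI : Fact (Nat.Prime 2) := ⟨Nat.prime_two⟩
      rw [← orderOf_eq_prime (p := 2) (by rw [pow_two]; exact hgg) hg1, ← Subgroup.orderOf_mk g hg]
      exact orderOf_dvd_natCard _
    have hle : Nat.card L ≤ 6 := by
      let f : L → Bool × Subgroup.zpowers x := fun a =>
        if hc : (a : G) * x * (a : G)⁻¹ = x then
          (true, ⟨a, by
            have hcc : Commute (⟨(a : G), a.2.2⟩ : H) ⟨x, hxH⟩ :=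
              Subtype.ext (mul_inv_eq_iff_eq_mul.1 hc)
            have := (hsc.mem_zpowers_iff _).2 (hsc.cent _ hcc)
            obtain ⟨j, hj⟩ := this
            exact ⟨j, by simpa using congrArg Subtype.val hj⟩⟩)
        else (false, ⟨g * a, by
            have hm := (Subgroup.mem_normalizer_iff.1 a.2.1 x).1 (Subgroup.mem_zpowers x)
            have hm' : (⟨(a : G), a.2.2⟩ : H) * ⟨x, hxH⟩ * (⟨(a : G), a.2.2⟩ : H)⁻¹ ∈
                Subgroup.zpowers (⟨x, hxH⟩ : H) := by
              obtain ⟨j, hj⟩ := hm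
              exact ⟨j, Subtype.ext (by simpa using hj)⟩
            rcases (hsc.mem_zpowers_iff _).1 hm' with e | e | e
            · exact absurd (conj_eq_one_iff.1 e) hsc.ne_one
            · exact absurd (congrArg Subtype.val e) hc
            · have hcc : Commute ((⟨g, hg.2⟩ : H) * ⟨(a : G), a.2.2⟩) ⟨x, hxH⟩ := by
                apply Subtype.ext
                have e' : (a : G) * x * (a : G)⁻¹ = x⁻¹ := congrArg Subtype.val e
                show g * a * x = x * (g * a)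
                calc g * (a : G) * x = g * ((a : G) * x * (a : G)⁻¹) * a := by group
                  _ = (g * x⁻¹ * g) * (g⁻¹ * a) := by rw [e']; group
                  _ = (g * x * g)⁻¹ * (g * a) := by rw [mul_inv_rev, mul_inv_rev, inv_eq_of_mul_eq_one_right hgg]; group
                  _ = _ := by rw [hgxg, inv_inv]
              obtain ⟨j, hj⟩ := (hsc.mem_zpowers_iff _).2 (hsc.cent _ hcc)
              exact ⟨j, by simpa using congrArg Subtype.val hj⟩⟩)
      have hf : Function.Injective f := by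
        intro a b e
        simp only [f] at e
        split_ifs at e <;> simp only [Prod.mk.injEq, Subtype.mk.injEq, Bool.true_eq_false,
          Bool.false_eq_true, false_and, true_and] at e
        · exact Subtype.ext e
        · exact Subtype.ext (mul_left_cancel e)
      have := Nat.card_le_card_of_injective f hf
      rwa [Nat.card_prod, Nat.card_eq_fintype_card (α := Bool), Fintype.card_bool, Nat.card_zpowers,
        h.ord] at this
    have h6 : Nat.card L = 6 := by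
      have := Nat.card_pos (α := L)
      omega
    exact ⟨h6, by rw [h6] at hmul; omega, g, hg.2, hgg, hgxg⟩
  · push Not at hi
    left
    have h3 : L = Subgroup.zpowers x := le_antisymm (fun a ha => by
      have hcc : Commute (⟨a, ha.2⟩ : H) ⟨x, hxH⟩ :=
        Subtype.ext (mul_inv_eq_iff_eq_mul.1 (hi a ha))
      obtain ⟨j, hj⟩ := (hsc.mem_zpowers_iff _).2 (hsc.cent _ hcc)
      exact ⟨j, by simpa using congrArg Subtype.val hj⟩) hzL
    have h3' : Nat.card L = 3 := by rw [h3, Nat.card_zpowers, h.ord]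
    exact ⟨h3', by rw [h3'] at hmul; omega⟩

/-- The invariant conjugates of `M` number `18 / |N(⟨x⟩) ∩ N(M)|`. -/
theorem Hyp.card_members (h : Hyp R x) {M : Subgroup G} :
    Nat.card {K : Subgroup G // ∃ a ∈ Subgroup.normalizer (Subgroup.zpowers x : Set G), K = cj a M} *
      Nat.card ↥(Subgroup.normalizer (Subgroup.zpowers x : Set G) ⊓ Subgroup.normalizer (M : Set G)) =
      18 := by
  set NX := Subgroup.normalizer (Subgroup.zpowers x : Set G) with hNX
  set S := (Subgroup.normalizer (M : Set G)).subgroupOf NX with hS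
  let f : NX ⧸ S → {K : Subgroup G // ∃ a ∈ NX, K = cj a M} := Quotient.lift
    (fun a : NX => ⟨cj (a : G) M, a, a.2, rfl⟩) (fun a b hab => by
      refine Subtype.ext ?_
      have hab' : (a : G)⁻¹ * b ∈ Subgroup.normalizer (M : Set G) := by
        exact Subgroup.mem_subgroupOf.1 (QuotientGroup.leftRel_apply.1 hab)
      show cj (a : G) M = cj (b : G) M
      rw [show (b : G) = a * ((a : G)⁻¹ * b) by group, cj_mul, cj_eq_self_iff.2 hab'])
  have hf : Function.Bijective f := by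
    constructor
    · intro a b e
      induction a using Quotient.inductionOn with
      | h a =>
        induction b using Quotient.inductionOn with
        | h b =>
          refine Quotient.sound (QuotientGroup.leftRel_apply.2 (Subgroup.mem_subgroupOf.2 ?_))
          rw [← cj_eq_self_iff]
          have e' : cj (a : G) M = cj (b : G) M := congrArg Subtype.val e
          show cj ((a : G)⁻¹ * b) M = M
          rw [cj_mul, ← e', ← cj_mul, inv_mul_cancel, cj_one]
    · rintro ⟨_, a, ha, rfl⟩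
      exact ⟨Quotient.mk _ ⟨a, ha⟩, rfl⟩
  rw [← Nat.card_congr (Equiv.ofBijective f hf)]
  have := S.card_mul_index
  have e : S = (NX ⊓ Subgroup.normalizer (M : Set G)).subgroupOf NX := by
    rw [hS, Subgroup.inf_subgroupOf_left]
  have c : Nat.card S = Nat.card ↥(NX ⊓ Subgroup.normalizer (M : Set G)) := by
    rw [e, card_subgroupOf inf_le_left]
  rw [c, h.card_norm_x] at this
  rw [← this, mul_comm]
  rfl

end Cfsg.Agent.S2220Local8
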