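import Mathlib
import Cfsg.Agent.Lib.S2220Local8
import Cfsg.Agent.Lib.SimpleOrder
import Cfsg.Agent.Lib.SimpleOrdersSmall

/-!
The triangle count in terms of invariant subgroups of order prime to three.
-/

set_option autoImplicit false
set_option linter.unusedSectionVars false

namespace Cfsg.Agent.S2220Count8

open SelfCentThreeBase SelfCentThreeLocal SelfCentThreeLift SelfCentNineA6Core64 S2220Local8
open scoped IsMulCommutative

universe u

variable {G : Type u} [Group G] [Finite G]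

/-- The standing hypotheses. -/
structure Ctx (R : Subgroup G) (x : G) (q a b : ℕ) : Prop where
  hyp : Hyp R x
  simple : IsSimpleGroup G
  noncomm : ¬ IsMulCommutative G
  prime : q.Prime
  five_le : 5 ≤ q
  one_le : 1 ≤ b
  three_le : 3 ≤ a
  card : Nat.card G = 9 * 2 ^ a * q ^ b

variable {R : Subgroup G} {x : G} {q a b : ℕ}

theorem Ctx.ne_two (h : Ctx R x q a b) : q ≠ 2 := by have := h.five_le; omega

theorem Ctx.ne_three (h : Ctx R x q a b) : q ≠ 3 := by have := h.five_le; omega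

theorem Ctx.card_dvd (h : Ctx R x q a b) {K : Subgroup G} (hK : Inv3 x K) :
    Nat.card K ∣ 2 ^ a * q ^ b := by
  have hd : Nat.card K ∣ 9 * (2 ^ a * q ^ b) := by
    rw [← mul_assoc, ← h.card]; exact Subgroup.card_subgroup_dvd_card K
  refine Nat.Coprime.dvd_of_dvd_mul_left ?_ hd
  rw [show (9 : ℕ) = 3 ^ 2 by norm_num]
  exact Nat.Coprime.pow_right 2 ((Nat.Prime.coprime_iff_not_dvd Nat.prime_three).2 hK.cop).symm

theorem Ctx.orderOf_prime (h : Ctx R x q a b) {K : Subgroup G} (hK : Inv3 x K) {p : ℕ} (hp : p.Prime)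
    (hpK : p ∣ Nat.card K) : p = 2 ∨ p = q := by
  rcases (Nat.Prime.dvd_mul hp).1 (hpK.trans (h.card_dvd hK)) with e | e
  · exact Or.inl ((Nat.prime_dvd_prime_iff_eq hp Nat.prime_two).1 (hp.dvd_of_dvd_pow e))
  · exact Or.inr ((Nat.prime_dvd_prime_iff_eq hp h.prime).1 (hp.dvd_of_dvd_pow e))

theorem Hyp.isConj_of_cube (h : Hyp R x) {y : G} (hy : y ^ 3 = 1) (hy1 : y ≠ 1) : IsConj x y := by
  haveI : Fact (Nat.Prime 3) := ⟨Nat.prime_three⟩
  obtain ⟨P, hP⟩ := h.sylow
  have ho : orderOf y = 3 := orderOf_eq_prime hy hy1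
  obtain ⟨Q, hQ⟩ := (IsPGroup.of_card (n := 1)
    (by rw [Nat.card_zpowers, ho, pow_one]) : IsPGroup 3 (Subgroup.zpowers y)).exists_le_sylow
  obtain ⟨g, hg⟩ := MulAction.exists_smul_eq G Q P
  have hm : g * y * g⁻¹ ∈ R := by
    rw [← hP, ← hg]
    exact Subgroup.smul_mem_pointwise_smul y (MulAut.conj g) (Q : Subgroup G)
      (hQ (Subgroup.mem_zpowers y))
  exact (h.fused _ hm (fun e => hy1 (conj_eq_one_iff.1 e))).trans (isConj_iff.2 ⟨g, rfl⟩).symm

theorem Hyp.cube_of_isConj (h : Hyp R x) {y : G} (hy : IsConj x y) : y ^ 3 = 1 ∧ y ≠ 1 := by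
  obtain ⟨g, rfl⟩ := isConj_iff.1 hy
  exact ⟨by rw [conj_pow, h.conf.exp x h.mem]; group, fun e => h.ne (conj_eq_one_iff.1 e)⟩

/-- The union of the invariant subgroups. -/
def W (x : G) : Set G := {w | w ≠ 1 ∧ ∃ K, Inv3 x K ∧ w ∈ K}

theorem triangle_iff (h : Hyp R x) {y : G} :
    (IsConj x y ∧ IsConj x (x * y)) ↔
      (y ∈ R ∧ y ≠ 1 ∧ x * y ≠ 1) ∨ x⁻¹ * y ∈ W x := by
  have hx3 := h.cube h.mem
  have hxi : x⁻¹ = x * x := inv_eq_of_mul_eq_one_left hx3
  constructor
  · rintro ⟨h1, h2⟩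
    obtain ⟨hy3, hy1⟩ := Hyp.cube_of_isConj h h1
    obtain ⟨ht, ht1⟩ := Hyp.cube_of_isConj h h2
    by_cases hyR : y ∈ R
    · exact Or.inl ⟨hyR, hy1, ht1⟩
    right
    have hy3' : y * y * y = 1 := by rw [← pow_three']; exact hy3
    have hy' : y * y = y⁻¹ := eq_inv_of_mul_eq_one_left hy3'
    have hxyx : x * y * x = (y * x * y)⁻¹ := eq_inv_of_mul_eq_one_left (by
      rw [pow_three'] at ht; simpa [mul_assoc] using ht)
    set p := x * y⁻¹ with hp
    set r := y⁻¹ * x with hr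
    have hpr : p * r = x * y * x := by
      rw [hp, hr, ← hy']
      calc x * (y * y) * (y * y * x) = x * (y * y * y) * y * x := by group
        _ = x * y * x := by rw [hy3', mul_one]
    have hrp : r * p = x * y * x := by
      rw [hp, hr, hxyx]
      calc y⁻¹ * x * (x * y⁻¹) = y⁻¹ * (x * x) * y⁻¹ := by group
        _ = (y * x * y)⁻¹ := by rw [← hxi]; group
    set A := Subgroup.closure ({p, r} : Set G) with hA
    haveI : IsMulCommutative A := Subgroup.isMulCommutative_closure (by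
      rintro c (rfl | rfl) d (rfl | rfl)
      · rfl
      · rw [hpr, hrp]
      · rw [hpr, hrp]
      · rfl)
    have hAc : ∀ c ∈ A, ∀ d ∈ A, Commute c d := fun c hc d hd =>
      congrArg Subtype.val (mul_comm (⟨c, hc⟩ : A) ⟨d, hd⟩)
    have hpA : p ∈ A := Subgroup.subset_closure (Set.mem_insert _ _)
    have hrA : r ∈ A := Subgroup.subset_closure (Set.mem_insert_of_mem _ rfl)
    have hinv : ∀ c ∈ A, x * c * x⁻¹ ∈ A := by
      intro c hc
      have : A ≤ A.comap (MulAut.conj x).toMonoidHom := (Subgroup.closure_le _).2 (by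
        rintro c (rfl | rfl)
        · show x * (x * y⁻¹) * x⁻¹ ∈ A
          have e : x * (x * y⁻¹) * x⁻¹ = (p * r)⁻¹ := by
            rw [hpr, mul_inv_rev, mul_inv_rev, hxi]
            group
          rw [e]; exact A.inv_mem (A.mul_mem hpA hrA)
        · show x * (y⁻¹ * x) * x⁻¹ ∈ A
          rwa [← mul_assoc, mul_inv_cancel_right, ← hp])
      exact this hc
    have hfix : ∀ z ∈ A, Commute z x → z = 1 := by
      intro z hzA hzx
      by_contra hz1
      have hzR := h.mem_of_commute_x hzx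
      have hrR := h.conf.mem_of_commute hzR hz1 (hAc r hrA z hzA)
      refine hyR ?_
      rw [show y = x * r⁻¹ by rw [hr]; group]
      exact R.mul_mem h.mem (R.inv_mem hrR)
    refine ⟨fun e => hyR ?_, A, ⟨hinv, fun h3 => ?_⟩, ?_⟩
    · rw [inv_mul_eq_one] at e
      exact e ▸ h.mem
    · haveI : Fact (Nat.Prime 3) := ⟨Nat.prime_three⟩
      obtain ⟨⟨z, hzA⟩, hz⟩ := exists_prime_orderOf_dvd_card' 3 h3
      rw [Subgroup.orderOf_mk] at hz
      have hz3 : z * z * z = 1 := by rw [← pow_three', ← hz]; exact pow_orderOf_eq_one z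
      set z' := x * z * x⁻¹ with hz'
      have hz'A : z' ∈ A := hinv z hzA
      have hz'3 : z' * z' * z' = 1 := by
        rw [hz', show x * z * x⁻¹ * (x * z * x⁻¹) * (x * z * x⁻¹) = x * (z * z * z) * x⁻¹ by group,
          hz3]
        group
      have hrel := rel_of hx3 hinv hfix hzA
      rw [← hz'] at hrel
      have e2 : x * z' * x⁻¹ = (z * z')⁻¹ := by
        rw [← eq_inv_of_mul_eq_one_right hrel, hz']; group
      have hd : Commute (z⁻¹ * z') x := by
        have e : x * (z⁻¹ * z') * x⁻¹ = z⁻¹ * z' := by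
          calc x * (z⁻¹ * z') * x⁻¹ = (x * z * x⁻¹)⁻¹ * (x * z' * x⁻¹) := by group
            _ = (z' * z')⁻¹ * z⁻¹ := by rw [← hz', e2]; group
            _ = z' * z⁻¹ := by
              rw [show (z' * z')⁻¹ = z' from inv_eq_of_mul_eq_one_left (by rw [← mul_assoc]; exact hz'3)]
            _ = z⁻¹ * z' := (hAc z' hz'A _ (A.inv_mem hzA)).eq
        exact ((mul_inv_eq_iff_eq_mul.1 e)).symm
      have e3 := inv_mul_eq_one.1 (hfix _ (A.mul_mem (A.inv_mem hzA) hz'A) hd)
      have hzx : Commute z x := ((mul_inv_eq_iff_eq_mul.1 e3.symm)).symm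
      rw [hfix z hzA hzx, orderOf_one] at hz
      omega
    · rw [show x⁻¹ * y = r⁻¹ by rw [hr]; group]
      exact A.inv_mem hrA
  · rintro (⟨hyR, hy1, hxy⟩ | ⟨hw1, K, hK, hw⟩)
    · exact ⟨h.fused y hyR hy1, h.fused _ (R.mul_mem h.mem hyR) hxy⟩
    set w := x⁻¹ * y with hwdef
    have hy : y = x * w := by rw [hwdef]; group
    have hxK : x ∉ K := fun e => h.ne (h.fpf hK e (Commute.refl x))
    have hxxK : x * x ∉ K := fun e => hxK (by
      have : x = (x * x)⁻¹ := eq_inv_of_mul_eq_one_right hx3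
      rw [this]; exact K.inv_mem e)
    have hxx : (x * x) * (x * x) * (x * x) = 1 := by
      calc (x * x) * (x * x) * (x * x) = (x * x * x) * (x * x * x) := by group
        _ = 1 := by rw [hx3, one_mul]
    have hinv2 : ∀ k ∈ K, x * x * k * (x * x)⁻¹ ∈ K := fun k hk => by
      rw [show x * x * k * (x * x)⁻¹ = x * (x * k * x⁻¹) * x⁻¹ by group]
      exact hK.inv _ (hK.inv _ hk)
    have hfix2 : ∀ k ∈ K, Commute k (x * x) → k = 1 := fun k hk hc =>
      h.fpf' hK.cop (R.mul_mem h.mem h.mem) (fun e => hxK (by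
        have := h.cube h.mem
        rw [e, one_mul] at this
        rw [this]; exact K.one_mem)) hk hc
    have cubeOf : ∀ u : G, u * u * u = 1 → (∀ k ∈ K, u * k * u⁻¹ ∈ K) →
        (∀ k ∈ K, Commute k u → k = 1) → (u * w) ^ 3 = 1 := by
      intro u hu hi hf
      have := rel_of hu hi hf hw
      calc (u * w) ^ 3 = u * (w * (u * w * u⁻¹) * (u * u * w * (u * u)⁻¹)) * (u * u) := by
            rw [pow_succ, pow_two]; group
        _ = 1 := by rw [this, mul_one, ← mul_assoc]; exact hu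
    refine ⟨Hyp.isConj_of_cube h ?_ ?_, Hyp.isConj_of_cube h ?_ ?_⟩
    · rw [hy]; exact cubeOf x hx3 hK.inv fun k hk hc => h.fpf hK hk hc
    · rw [hy]; intro e
      exact hxK (by rw [eq_inv_of_mul_eq_one_left e]; exact K.inv_mem hw)
    · rw [hy, ← mul_assoc]; exact cubeOf _ hxx hinv2 hfix2
    · rw [hy, ← mul_assoc]; intro e
      exact hxxK (by rw [eq_inv_of_mul_eq_one_left e]; exact K.inv_mem hw)

/-- The triangle number. -/
theorem card_triangle (h : Hyp R x) :
    Nat.card {g : G // IsConj x (x * (g * x * g⁻¹))} = (7 + Nat.card (W x)) * 9 := by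
  classical
  haveI := Fintype.ofFinite G
  set Y := Finset.univ.filter fun y : G => IsConj x y ∧ IsConj x (x * y) with hY
  have h1 : Nat.card {g : G // IsConj x (x * (g * x * g⁻¹))} = Y.card * 9 := by
    rw [Nat.card_eq_fintype_card, Fintype.card_subtype,
      Finset.card_eq_sum_card_fiberwise (f := fun g : G => g * x * g⁻¹) (t := Y) (fun g hg => by
        simp only [Finset.coe_filter, Finset.mem_univ, true_and, Set.mem_setOf_eq] at hg
        simp only [hY, Finset.coe_filter, Finset.mem_univ, true_and, Set.mem_setOf_eq]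
        exact ⟨isConj_iff.2 ⟨g, rfl⟩, hg⟩),
      Finset.sum_const_nat (m := 9)]
    intro s hs
    simp only [hY, Finset.mem_filter, Finset.mem_univ, true_and] at hs
    rw [← h.conf.card_coset h.mem h.ne hs.1, Nat.card_eq_fintype_card, Fintype.card_subtype,
      Finset.filter_filter]
    congr 1
    exact Finset.filter_congr fun g _ => ⟨fun hg => hg.2, fun hg => ⟨hg ▸ hs.2, hg⟩⟩
  rw [h1]
  congr 1
  have hsplit : Y = (((Finset.univ.filter fun v : G => v ∈ R).erase 1).erase x⁻¹) ∪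
      (W x).toFinset.map (Equiv.mulLeft x).toEmbedding := by
    ext y
    simp only [hY, Finset.mem_filter, Finset.mem_univ, true_and, Finset.mem_union, Finset.mem_erase,
      Finset.mem_map_equiv, Equiv.mulLeft_symm, Equiv.coe_mulLeft, Set.mem_toFinset]
    rw [triangle_iff h]
    refine or_congr ⟨fun ⟨hR, h1, hxy⟩ => ⟨fun e => hxy (by rw [e, mul_inv_cancel]), h1, hR⟩,
      fun ⟨hne, h1, hR⟩ => ⟨hR, h1, fun e => hne (eq_inv_of_mul_eq_one_right e)⟩⟩ Iff.rfl
  rw [hsplit, Finset.card_union_of_disjoint]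
  · rw [Finset.card_map, Set.toFinset_card, ← Nat.card_eq_fintype_card,
      Finset.card_erase_of_mem, Finset.card_erase_of_mem, ← Fintype.card_subtype,
      ← Nat.card_eq_fintype_card, h.conf.card]
    · simp
    · simp only [Finset.mem_erase, Finset.mem_filter, Finset.mem_univ, true_and]
      exact ⟨inv_ne_one.2 h.ne, R.inv_mem h.mem⟩
  · rw [Finset.disjoint_left]
    intro y hy hy'
    simp only [Finset.mem_erase, Finset.mem_filter, Finset.mem_univ, true_and] at hy
    simp only [Finset.mem_map_equiv, Equiv.mulLeft_symm, Equiv.coe_mulLeft, Set.mem_toFinset] at hy'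
    obtain ⟨hw1, K, hK, hw⟩ := hy'
    exact hw1 (h.eq_one_of_mem_R hK.cop hw (R.mul_mem (R.inv_mem h.mem) hy.2.2))

/-- A normalised subgroup centralising a non-trivial invariant subgroup lies in the core. -/
theorem le_of_centralizes (h : Hyp R x) {H M V L : Subgroup G} (hS : Small x H M) (hxH : x ∈ H)
    (hV : Inv3 x V) (hV1 : V ≠ ⊥) (hLH : L ≤ H) (hn : H ≤ Subgroup.normalizer (L : Set G))
    (hc : ∀ l ∈ L, ∀ v ∈ V, Commute l v) : L ≤ M := by
  refine hS.max L hLH ⟨fun k hk => (Subgroup.mem_normalizer_iff.1 (hn hxH) k).1 hk, fun h3 => ?_⟩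
  haveI : Fact (Nat.Prime 3) := ⟨Nat.prime_three⟩
  obtain ⟨⟨y, hyL⟩, hy⟩ := exists_prime_orderOf_dvd_card' 3 h3
  rw [Subgroup.orderOf_mk] at hy
  obtain ⟨c, hc', hcy⟩ := h.sylow_conj hxH hS.not_nine (hLH hyL) hy
  have hL' : c * y * c⁻¹ ∈ L := (Subgroup.mem_normalizer_iff.1 (hn hc') y).1 hyL
  refine hV1 ((Subgroup.eq_bot_iff_forall _).2 fun v hv => h.fpf' hV.cop
    ((Subgroup.zpowers_le.2 h.mem) hcy) ?_ hv (hc _ hL' v hv).symm)
  intro e
  rw [conj_eq_one_iff] at e
  rw [e, orderOf_one] at hy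
  omega

theorem normalizer_le_centralizer (V : Subgroup G) :
    Subgroup.normalizer (V : Set G) ≤
      Subgroup.normalizer ((Subgroup.centralizer (V : Set G) : Subgroup G) : Set G) := fun g hg =>
  mem_normalizer_of_invariant fun c hc => Subgroup.mem_centralizer_iff.2 fun v hv => by
    have hv' : g⁻¹ * v * g ∈ V := by
      simpa using (Subgroup.mem_normalizer_iff.1 (inv_mem hg) v).1 hv
    have := Subgroup.mem_centralizer_iff.1 hc _ hv'
    calc v * (g * c * g⁻¹) = g * (g⁻¹ * v * g * c) * g⁻¹ := by group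
      _ = g * (c * (g⁻¹ * v * g)) * g⁻¹ := by rw [this]
      _ = g * c * g⁻¹ * v := by group

theorem centralizer_le_normalizer (V : Subgroup G) :
    Subgroup.centralizer (V : Set G) ≤ Subgroup.normalizer (V : Set G) := fun c hc =>
  mem_normalizer_of_invariant fun v hv => by
    rw [← Subgroup.mem_centralizer_iff.1 hc v hv, mul_inv_cancel_right]; exact hv

/-- The centraliser of a maximal invariant subgroup. -/
theorem centralizer_le (h : Hyp R x) {M : Subgroup G} (hM : MaxI x M) (hM1 : M ≠ ⊥) :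
    Subgroup.centralizer (M : Set G) ≤ M :=
  le_of_centralizes h (h.maxI_small hM hM1) (x_mem_normalizer hM.1) hM.1 hM1
    (centralizer_le_normalizer M) (normalizer_le_centralizer M) fun l hl v hv =>
      (Subgroup.mem_centralizer_iff.1 hl v hv).symm

/-- Central elements of an overgroup. -/
theorem central_mem (h : Hyp R x) {M S : Subgroup G} (hM : MaxI x M) (hM1 : M ≠ ⊥) (hMS : M ≤ S)
    {z : G} (hz : ∀ s ∈ S, Commute z s) : z ∈ M :=
  centralizer_le h hM hM1 (Subgroup.mem_centralizer_iff.2 fun v hv => (hz v (hMS hv)).symm)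

theorem maxI_cj (h : Hyp R x) {M : Subgroup G} (hM : MaxI x M) {c : G}
    (hc : c ∈ Subgroup.normalizer (Subgroup.zpowers x : Set G)) : MaxI x (cj c M) := by
  refine ⟨h.inv3_cj hM.1 hc, fun K hK hle => ?_⟩
  have e : cj c⁻¹ K = M := hM.2 _ (h.inv3_cj hK (inv_mem hc)) (fun m hm => mem_cj.2 (by
    simpa using hle ⟨m, hm, rfl⟩))
  rw [← e, ← cj_mul, mul_inv_cancel, cj_one]

theorem five_isPGroup {H N T : Subgroup G} (hF : Five x H N T) : IsPGroup 2 N :=
  fun n => ⟨1, Subtype.ext (by simpa [pow_two] using hF.sq n n.2)⟩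

/-- No invariant subgroups of odd prime power order beside a simple quotient of order sixty. -/
theorem Ctx.five_no_odd (h : Ctx R x q a b) {H N T Q : Subgroup G} (hF : Five x H N T) (hQ : Inv3 x Q)
    (hQH : Q ≤ H) (hQp : IsPGroup q Q) : Q = ⊥ := by
  haveI : Fact q.Prime := ⟨h.prime⟩
  haveI : Fact (Nat.Prime 2) := ⟨Nat.prime_two⟩
  obtain ⟨j, hj⟩ := IsPGroup.iff_card.1 hQp
  obtain ⟨i, hi⟩ := IsPGroup.iff_card.1 (five_isPGroup hF)
  have hd := Subgroup.card_dvd_of_le hQH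
  rw [hF.card, hi, hj] at hd
  have hd' : q ^ j ∣ 60 := (Nat.Coprime.dvd_mul_right
    (Nat.Coprime.pow _ _ ((Nat.coprime_primes h.prime Nat.prime_two).2 h.ne_two))).1 hd
  have hm := h.hyp.card_mod hQ
  rw [hj] at hm
  refine Subgroup.card_eq_one.1 ?_
  rw [hj]
  have key : ∀ d ∈ Nat.divisors 60, d % 3 = 1 → d % 2 = 1 → d = 1 := by decide
  exact key _ (Nat.mem_divisors.2 ⟨hd', by norm_num⟩) hm
    (Nat.odd_iff.1 ((h.prime.odd_of_ne_two h.ne_two).pow))

/-- The normaliser of an invariant subgroup of odd prime power order. -/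
theorem Ctx.small_odd (h : Ctx R x q a b) {D : Subgroup G} (hD : Inv3 x D) (hDp : IsPGroup q D)
    (hD1 : D ≠ ⊥) : ∃ C, Small x (Subgroup.normalizer (D : Set G)) C := by
  rcases h.hyp.loc hD hD1 with hS | ⟨N, T, hF⟩
  · exact hS
  · exact absurd (h.five_no_odd hF hD Subgroup.le_normalizer hDp) hD1

/-- The primary parts of a nilpotent subgroup. -/
theorem exists_part {M : Subgroup G} [Group.IsNilpotent M] {p : ℕ} [hp : Fact p.Prime] {k m : ℕ}
    (hM : Nat.card M = p ^ k * m) (hm : ¬ p ∣ m) :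
    ∃ P : Subgroup G, P ≤ M ∧ Nat.card P = p ^ k ∧ (∀ g ∈ M, (∃ n, g ^ p ^ n = 1) → g ∈ P) ∧
      Subgroup.normalizer (M : Set G) ≤ Subgroup.normalizer (P : Set G) := by
  obtain ⟨S⟩ : Nonempty (Sylow p M) := inferInstance
  have hn := S.normal_of_normalizerCondition Group.normalizerCondition_of_isNilpotent
  have hmem : ∀ g : M, (∃ n, g ^ p ^ n = 1) → g ∈ (S : Subgroup M) := by
    rintro g ⟨n, hg⟩
    obtain ⟨i, -, hi⟩ := (Nat.dvd_prime_pow hp.out).1 (orderOf_dvd_of_pow_eq_one hg)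
    obtain ⟨S', hS'⟩ := (IsPGroup.of_card (n := i) (by rw [Nat.card_zpowers, hi]) :
      IsPGroup p (Subgroup.zpowers g)).exists_le_sylow
    obtain ⟨c, hc⟩ := MulAction.exists_smul_eq M S S'
    haveI := hn
    have : (S' : Subgroup M) = S := by
      rw [← hc, Sylow.smul_eq_of_normal]
    exact this ▸ hS' (Subgroup.mem_zpowers g)
  refine ⟨(S : Subgroup M).map M.subtype, Subgroup.map_subtype_le _, ?_, ?_, ?_⟩
  · rw [Subgroup.card_map_of_injective M.subtype_injective, SimpleOrder.sylow_card_of_eq hM hm S]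
  · rintro g hg ⟨n, hn'⟩
    exact ⟨⟨g, hg⟩, hmem _ ⟨n, Subtype.ext (by simpa using hn')⟩, rfl⟩
  · intro g hg
    refine mem_normalizer_of_invariant ?_
    rintro _ ⟨s, hs, rfl⟩
    obtain ⟨n, hn'⟩ := S.isPGroup' ⟨s, hs⟩
    have hsn : (s : G) ^ p ^ n = 1 := by
      simpa using congrArg (fun y : (S : Subgroup M) => ((y : M) : G)) hn'
    refine ⟨⟨g * s * g⁻¹, (Subgroup.mem_normalizer_iff.1 hg s).1 s.2⟩,
      hmem _ ⟨n, Subtype.ext ?_⟩, rfl⟩
    show (((⟨g * s * g⁻¹, _⟩ : M) ^ p ^ n : M) : G) = 1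
    rw [SubmonoidClass.coe_pow, conj_pow, hsn, mul_one, mul_inv_cancel]

/-- A maximal invariant subgroup has prime power order. -/
theorem Ctx.maxI_pgroup (h : Ctx R x q a b) {M : Subgroup G} (hM : MaxI x M) :
    IsPGroup 2 M ∨ IsPGroup q M := by
  haveI := h.simple
  haveI : Fact q.Prime := ⟨h.prime⟩
  haveI : Fact (Nat.Prime 2) := ⟨Nat.prime_two⟩
  haveI := h.hyp.nilpotent hM.1
  obtain ⟨d₁, d₂, h1, h2, h12⟩ := exists_dvd_and_dvd_of_dvd_mul (h.card_dvd hM.1)
  obtain ⟨i, hia, rfl⟩ := (Nat.dvd_prime_pow Nat.prime_two).1 h1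
  obtain ⟨j, hjb, rfl⟩ := (Nat.dvd_prime_pow h.prime).1 h2
  clear h1 h2
  replace h12 := h12.symm
  rcases Nat.eq_zero_or_pos i with rfl | hi
  · exact Or.inr (IsPGroup.of_card (n := j) (by rw [← h12, pow_zero, one_mul]))
  rcases Nat.eq_zero_or_pos j with rfl | hj
  · exact Or.inl (IsPGroup.of_card (n := i) (by rw [← h12, pow_zero, mul_one]))
  exfalso
  have hM1 : M ≠ ⊥ := fun e => by
    have := Subgroup.card_eq_one.2 e
    rw [← h12] at this
    have := Nat.eq_one_of_mul_eq_one_right this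
    rw [pow_eq_one_iff] at this
    omega
  have hqd : ¬ 2 ∣ q ^ j := fun hd => h.ne_two
    ((Nat.prime_dvd_prime_iff_eq Nat.prime_two h.prime).1 (Nat.prime_two.dvd_of_dvd_pow hd)).symm
  have h2d : ¬ q ∣ 2 ^ i := fun hd => h.ne_two
    ((Nat.prime_dvd_prime_iff_eq h.prime Nat.prime_two).1 (h.prime.dvd_of_dvd_pow hd))
  obtain ⟨W, hWM, hWc, hWm, hWn⟩ := exists_part h12.symm hqd
  obtain ⟨Q, hQM, hQc, hQm, hQn⟩ := exists_part (p := q) (h12.symm.trans (mul_comm _ _)) h2d
  have hxM := x_mem_normalizer hM.1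
  have mkInv : ∀ {P : Subgroup G}, P ≤ M → Subgroup.normalizer (M : Set G) ≤ Subgroup.normalizer (P : Set G) →
      Inv3 x P := fun hPM hn => ⟨fun k hk => (Subgroup.mem_normalizer_iff.1 (hn hxM) k).1 hk,
    fun h3 => hM.1.cop (h3.trans (Subgroup.card_dvd_of_le hPM))⟩
  have hWi := mkInv hWM hWn
  have hQi := mkInv hQM hQn
  have hQp : IsPGroup q Q := IsPGroup.of_card hQc
  have hWp : IsPGroup 2 W := IsPGroup.of_card hWc
  have hW1 : W ≠ ⊥ := fun e => by
    rw [Subgroup.card_eq_one.2 e, eq_comm, pow_eq_one_iff] at hWc; omega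
  have hQ1 : Q ≠ ⊥ := fun e => by
    rw [Subgroup.card_eq_one.2 e, eq_comm, pow_eq_one_iff] at hQc
    have := h.prime.one_lt
    omega
  have hS := h.hyp.maxI_small hM hM1
  have hNW : Subgroup.normalizer (W : Set G) = Subgroup.normalizer (M : Set G) := by
    refine le_antisymm ?_ hWn
    have hMN : M ≤ Subgroup.normalizer (W : Set G) := Subgroup.le_normalizer.trans hWn
    rcases h.hyp.loc hWi hW1 with ⟨C, hC⟩ | ⟨N, T, hF⟩
    · rw [← hM.2 C hC.inv (hC.max M hMN hM.1)]; exact hC.norm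
    · exact absurd (h.five_no_odd hF hQi (hQM.trans hMN) hQp) hQ1
  have hNQ : Subgroup.normalizer (Q : Set G) = Subgroup.normalizer (M : Set G) := by
    refine le_antisymm ?_ hQn
    obtain ⟨C, hC⟩ := h.small_odd hQi hQp hQ1
    rw [← hM.2 C hC.inv (hC.max M (Subgroup.le_normalizer.trans hQn) hM.1)]; exact hC.norm
  -- the odd part is a Sylow subgroup
  obtain ⟨P, hP⟩ := hQp.exists_le_sylow
  have hPc : Nat.card (P : Subgroup G) = q ^ b :=
    SimpleOrder.sylow_card_of_eq (m := 9 * 2 ^ a) (by rw [h.card]; ring) (fun hd => by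
      rcases (Nat.Prime.dvd_mul h.prime).1 hd with e | e
      · exact h.ne_three ((Nat.prime_dvd_prime_iff_eq h.prime Nat.prime_three).1
          (h.prime.dvd_of_dvd_pow (show q ∣ 3 ^ 2 by simpa using e)))
      · exact h.ne_two ((Nat.prime_dvd_prime_iff_eq h.prime Nat.prime_two).1
          (h.prime.dvd_of_dvd_pow e))) P
  have hPQ : (P : Subgroup G) = Q := by
    by_contra hne
    have hlt : Q < (P : Subgroup G) := lt_of_le_of_ne hP (Ne.symm hne)
    haveI : Group.IsNilpotent (P : Subgroup G) := P.isPGroup'.isNilpotent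
    have hlt' := lt_inf_normalizer hlt
    rw [hNQ] at hlt'
    obtain ⟨l, hl⟩ := IsPGroup.iff_card.1 (P.isPGroup'.to_le
      (inf_le_left : (P : Subgroup G) ⊓ Subgroup.normalizer (M : Set G) ≤ P))
    have hd := Subgroup.card_dvd_of_le
      (inf_le_right : (P : Subgroup G) ⊓ Subgroup.normalizer (M : Set G) ≤ _)
    rw [hl] at hd
    have hco : ∀ c, c ∣ 6 → Nat.Coprime (q ^ l) (c * 2 ^ i) := fun c hc => by
      refine Nat.Coprime.pow_left _ ((h.prime.coprime_iff_not_dvd).2 fun hd => ?_)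
      rcases (Nat.Prime.dvd_mul h.prime).1 hd with e | e
      · have he6 := e.trans hc
        have := Nat.le_of_dvd (by norm_num) he6
        rcases (show q = 5 ∨ q = 6 by have := h.five_le; omega) with hq' | hq'
        · rw [hq'] at he6; norm_num at he6
        · have := h.prime; rw [hq'] at this; norm_num at this
      · exact h2d e
    have hdj : q ^ l ∣ q ^ j := by
      rcases hS.card with e | e <;> rw [e, ← h12, ← mul_assoc] at hd <;>
        exact (hco _ (by norm_num)).dvd_of_dvd_mul_left hd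
    have hle := Subgroup.eq_of_le_of_card_ge hlt'.le (by
      rw [hl, hQc]; exact Nat.le_of_dvd (pow_pos h.prime.pos _) hdj)
    exact hlt'.ne hle
  rw [hPQ, hQc] at hPc
  -- a central involution centralises both parts
  obtain ⟨S, hWS⟩ := hWp.exists_le_sylow
  haveI : Nontrivial (S : Subgroup G) := by
    rw [Subgroup.nontrivial_iff_ne_bot]
    exact fun e => hW1 (le_bot_iff.1 (e ▸ hWS))
  haveI := S.isPGroup'.center_nontrivial
  obtain ⟨⟨⟨z, hzS⟩, hz⟩, hz1⟩ := exists_ne (1 : Subgroup.center (S : Subgroup G))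
  have hzc : ∀ s ∈ (S : Subgroup G), Commute z s := fun s hs =>
    (congrArg Subtype.val (Subgroup.mem_center_iff.1 hz ⟨s, hs⟩)).symm
  have hzM : z ∈ M := le_of_centralizes h.hyp hS hxM hWi hW1
    (hNW ▸ centralizer_le_normalizer W) (hNW ▸ normalizer_le_centralizer W)
    (fun l hl v hv => (Subgroup.mem_centralizer_iff.1 hl v hv).symm)
    (Subgroup.mem_centralizer_iff.2 fun v hv => (hzc v (hWS hv)).symm)
  have hzW : z ∈ W := hWm z hzM (by
    obtain ⟨n, hn⟩ := S.isPGroup' ⟨z, hzS⟩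
    exact ⟨n, by simpa using congrArg Subtype.val hn⟩)
  have hWQ : ∀ w ∈ W, ∀ r ∈ Q, Commute w r := by
    intro w hw r hr
    have hc : w * r * w⁻¹ * r⁻¹ ∈ W ⊓ Q := by
      refine ⟨?_, Q.mul_mem ?_ (Q.inv_mem hr)⟩
      · rw [show w * r * w⁻¹ * r⁻¹ = w * (r * w⁻¹ * r⁻¹) by group]
        exact W.mul_mem hw ((Subgroup.mem_normalizer_iff.1
          (hWn (Subgroup.le_normalizer (hQM hr))) _).1 (W.inv_mem hw))
      · exact (Subgroup.mem_normalizer_iff.1 (hQn (Subgroup.le_normalizer (hWM hw))) _).1 hr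
    have hbot : W ⊓ Q = ⊥ := Subgroup.inf_eq_bot_of_coprime (by
      rw [hWc, hQc]
      exact Nat.Coprime.pow _ _ ((Nat.coprime_primes Nat.prime_two h.prime).2 h.ne_two.symm))
    rw [hbot, Subgroup.mem_bot, mul_inv_eq_one, mul_inv_eq_iff_eq_mul] at hc
    exact hc
  set Z := Subgroup.centralizer ({z} : Set G) with hZ
  have hSZ : (S : Subgroup G) ≤ Z := fun s hs =>
    Subgroup.mem_centralizer_singleton_iff.2 (hzc s hs).symm.eq
  have hQZ : Q ≤ Z := fun r hr =>
    Subgroup.mem_centralizer_singleton_iff.2 (hWQ z hzW r hr).symm.eq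
  have hSc : Nat.card (S : Subgroup G) = 2 ^ a :=
    SimpleOrder.sylow_card_of_eq (m := 9 * q ^ b) (by rw [h.card]; ring) (fun hd => by
      rcases (Nat.Prime.dvd_mul Nat.prime_two).1 hd with e | e
      · norm_num at e
      · exact h.ne_two ((Nat.prime_dvd_prime_iff_eq Nat.prime_two h.prime).1
          (Nat.prime_two.dvd_of_dvd_pow e)).symm) S
  have hZd : 2 ^ a * q ^ b ∣ Nat.card Z := Nat.Coprime.mul_dvd_of_dvd_of_dvd
    (Nat.Coprime.pow _ _ ((Nat.coprime_primes Nat.prime_two h.prime).2 h.ne_two.symm))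
    (hSc ▸ Subgroup.card_dvd_of_le hSZ) (hPc ▸ hQc ▸ Subgroup.card_dvd_of_le hQZ)
  have hidx : Z.index ∣ 9 := by
    obtain ⟨d, hd⟩ := hZd
    have hmul := Z.card_mul_index
    rw [h.card, hd] at hmul
    refine ⟨d, Nat.eq_of_mul_eq_mul_left (Nat.mul_pos (pow_pos (by norm_num : 0 < 2) a)
      (pow_pos h.prime.pos b)) ?_⟩
    linarith [hmul]
  have hZtop : Z ≠ ⊤ := fun e => by
    have hzc' : z ∈ Subgroup.center G := Subgroup.mem_center_iff.2 fun g =>
      Subgroup.mem_centralizer_singleton_iff.1 (show g ∈ Z by rw [e]; exact Subgroup.mem_top g)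
    rcases Subgroup.Normal.eq_bot_or_eq_top (inferInstance : (Subgroup.center G).Normal) with e' | e'
    · rw [e', Subgroup.mem_bot] at hzc'
      exact hz1 (Subtype.ext (Subtype.ext hzc'))
    · exact h.noncomm ⟨⟨fun u v => Subgroup.mem_center_iff.1 (e' ▸ Subgroup.mem_top v) u⟩⟩
  have hfac := SimpleOrder.two_mul_card_dvd_factorial_index h.noncomm Z hZtop
  obtain ⟨k, hk, hkZ⟩ := (Nat.dvd_prime_pow Nat.prime_three).1 (show Z.index ∣ 3 ^ 2 by simpa using hidx)
  have hqd9 : q ^ b ∣ 181440 := by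
    have h9 : 2 * Nat.card G ∣ Nat.factorial 9 := hfac.trans (Nat.factorial_dvd_factorial (by
      rw [hkZ]; exact (Nat.pow_le_pow_right (by norm_num) hk).trans (by norm_num)))
    rw [h.card] at h9
    have h9' : Nat.factorial 9 = 2 * 181440 := by decide
    rw [h9'] at h9
    exact (dvd_mul_left _ _).trans (Nat.dvd_of_mul_dvd_mul_left (by norm_num) h9)
  have hq7 : q = 7 ∧ b = 1 := by
    have hco : Nat.Coprime (q ^ b) (3 ^ 4 * 2 ^ 6) := Nat.Coprime.mul_right
      (Nat.Coprime.pow _ _ ((Nat.coprime_primes h.prime Nat.prime_three).2 h.ne_three))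
      (Nat.Coprime.pow _ _ ((Nat.coprime_primes h.prime Nat.prime_two).2 h.ne_two))
    have h35 : q ^ b ∣ 35 := hco.dvd_of_dvd_mul_left (by norm_num; exact hqd9)
    have hm := h.hyp.card_mod hQi
    rw [hQc, hPc] at hm
    have key : ∀ d ∈ Nat.divisors 35, d % 3 = 1 → d = 1 ∨ d = 7 := by decide
    rcases key _ (Nat.mem_divisors.2 ⟨h35, by norm_num⟩) hm with e | e
    · have := Nat.le_self_pow (by have := h.one_le; omega : b ≠ 0) q
      have := h.five_le
      omega
    · have hp7 : (q ^ b).Prime := e ▸ (by norm_num)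
      have hb : b = 1 := hp7.eq_one_of_pow
      rw [hb, pow_one] at e
      exact ⟨e, hb⟩
  obtain ⟨hq', hb'⟩ := hq7
  have hk2 : Z.index = 9 := by
    rw [hkZ]
    interval_cases k
    · exact absurd (Subgroup.index_eq_one.1 (by simpa using hkZ)) hZtop
    · exfalso
      rw [hkZ, h.card] at hfac
      have := Nat.le_of_dvd (by decide) hfac
      have := Nat.one_le_two_pow (n := a)
      have : 0 < q ^ b := pow_pos h.prime.pos b
      norm_num [Nat.factorial] at *
      nlinarith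
    · rfl
  have hPq : Nat.card (P : Subgroup G) = q := by rw [hPQ, hQc, hPc, hb', pow_one]
  have hC := (SimpleOrder.card_normalizer_dvd_of_index h.noncomm h.ne_two P hPq Z hZtop
    (by rw [hk2, hq']; norm_num)).2
  rw [hPQ, hk2, hq'] at hC
  have hWd : Nat.card W ∣ 14 := by
    refine (Subgroup.card_dvd_of_le (fun w hw => ?_)).trans (hC.trans (by decide))
    exact Subgroup.mem_centralizer_iff.2 fun r hr => (hWQ w hw r hr).symm
  have hWm3 := h.hyp.card_mod hWi
  rw [hWc] at hWd hWm3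
  have hi2 : 2 ∣ 2 ^ i := dvd_pow_self 2 (by omega)
  have key : ∀ d ∈ Nat.divisors 14, d % 3 = 1 → ¬ 2 ∣ d ∨ 7 ∣ d := by decide
  rcases key _ (Nat.mem_divisors.2 ⟨hWd, by norm_num⟩) hWm3 with e | e
  · exact e hi2
  · exact absurd ((Nat.prime_dvd_prime_iff_eq (by norm_num) Nat.prime_two).1
      ((show Nat.Prime 7 by norm_num).dvd_of_dvd_pow e)) (by norm_num)

/-- Distinct maximal invariant subgroups of the same prime meet trivially. -/
theorem meet_eq (h : Hyp R x) {p : ℕ} [Fact p.Prime]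
    (hsmall : ∀ D : Subgroup G, Inv3 x D → IsPGroup p D → D ≠ ⊥ →
      ∃ C, Small x (Subgroup.normalizer (D : Set G)) C)
    (hpg : ∀ M, MaxI x M → ∀ D ≤ M, D ≠ ⊥ → IsPGroup p D → IsPGroup p M)
    {M₁ M₂ : Subgroup G} (h1 : MaxI x M₁) (h2 : MaxI x M₂) (p1 : IsPGroup p M₁) (p2 : IsPGroup p M₂)
    (hne : M₁ ≠ M₂) : M₁ ⊓ M₂ = ⊥ := by
  classical
  haveI := Fintype.ofFinite (Subgroup G)
  suffices key : ∀ (n : ℕ) (M₁ M₂ : Subgroup G), MaxI x M₁ → MaxI x M₂ → IsPGroup p M₁ → IsPGroup p M₂ →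
      M₁ ≠ M₂ → M₁ ⊓ M₂ ≠ ⊥ → Nat.card G ≤ n + Nat.card ↥(M₁ ⊓ M₂) → False by
    by_contra hb
    exact key (Nat.card G) M₁ M₂ h1 h2 p1 p2 hne hb (Nat.le_add_right _ _)
  intro n
  induction n with
  | zero =>
    intro M₁ M₂ h1 h2 _ _ hne _ hc
    have e : M₁ ⊓ M₂ = ⊤ := Subgroup.eq_top_of_le_card _ (by simpa using hc)
    exact hne ((top_le_iff.1 (e ▸ inf_le_left)).trans (top_le_iff.1 (e ▸ inf_le_right)).symm)
  | succ n ih =>
    intro M₁ M₂ h1 h2 p1 p2 hne hb hc
    set D := M₁ ⊓ M₂ with hD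
    have hDi : Inv3 x D := ⟨fun k hk => ⟨h1.1.inv k hk.1, h2.1.inv k hk.2⟩,
      fun h3 => h1.1.cop (h3.trans (Subgroup.card_dvd_of_le inf_le_left))⟩
    obtain ⟨C, hC⟩ := hsmall D hDi (p1.to_le inf_le_left) hb
    obtain ⟨M₃, h3, hCM⟩ := exists_maxI x hC.inv
    have hxD := x_mem_normalizer hDi
    have grow : ∀ M, MaxI x M → IsPGroup p M → D < M → D < M ⊓ M₃ := by
      intro M hM pM hlt
      haveI := pM.isNilpotent
      have hlt' := lt_inf_normalizer hlt
      refine lt_of_lt_of_le hlt' (le_inf inf_le_left ((hC.max _ inf_le_right ⟨fun k hk => ?_, ?_⟩).trans hCM))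
      · exact ⟨hM.1.inv k hk.1, Subgroup.mul_mem _ (Subgroup.mul_mem _ hxD hk.2) (inv_mem hxD)⟩
      · exact fun h3 => hM.1.cop (h3.trans (Subgroup.card_dvd_of_le inf_le_left))
    have l1 : D < M₁ := lt_of_le_of_ne inf_le_left fun e =>
      hne (h1.2 M₂ h2.1 (e ▸ inf_le_right)).symm
    have l2 : D < M₂ := lt_of_le_of_ne inf_le_right fun e =>
      hne (h2.2 M₁ h1.1 (e ▸ inf_le_left))
    have g1 := grow M₁ h1 p1 l1
    have g2 := grow M₂ h2 p2 l2
    have pD : IsPGroup p D := p1.to_le inf_le_left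
    have p3 := hpg M₃ h3 D (g1.le.trans inf_le_right) hb pD
    have eq3 : ∀ M, MaxI x M → IsPGroup p M → D < M ⊓ M₃ → M = M₃ := by
      intro M hM pM hlt
      by_contra hne'
      refine ih M M₃ hM h3 pM p3 hne' (fun e => hb (le_bot_iff.1 (e ▸ hlt.le))) ?_
      have hnc : ¬ Nat.card ↥(M ⊓ M₃) ≤ Nat.card D := fun hle =>
        hlt.ne (Subgroup.eq_of_le_of_card_ge hlt.le hle)
      omega
    exact hne ((eq3 M₁ h1 p1 g1).trans (eq3 M₂ h2 p2 g2).symm)

theorem Ctx.pgroup_of_le (h : Ctx R x q a b) {p : ℕ} [Fact p.Prime] (hp : p = 2 ∨ p = q)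
    {M : Subgroup G} (hM : MaxI x M) {D : Subgroup G} (hDM : D ≤ M) (hD1 : D ≠ ⊥) (hDp : IsPGroup p D) :
    IsPGroup p M := by
  haveI : Fact q.Prime := ⟨h.prime⟩
  haveI : Fact (Nat.Prime 2) := ⟨Nat.prime_two⟩
  rcases h.maxI_pgroup hM with e | e <;> rcases hp with hpq | hpq
  · exact hpq ▸ e
  · exact absurd (disjoint_self.1 (IsPGroup.disjoint_of_ne 2 p (hpq ▸ h.ne_two.symm) D D (e.to_le hDM) hDp)) hD1
  · exact absurd (disjoint_self.1 (IsPGroup.disjoint_of_ne p q (hpq ▸ h.ne_two.symm) D D hDp (e.to_le hDM))) hD1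
  · exact hpq ▸ e

/-- The elements in maximal invariant subgroups of `p`-power order. -/
def Wp (x : G) (p : ℕ) : Set G := {w | w ≠ 1 ∧ ∃ M, MaxI x M ∧ IsPGroup p M ∧ w ∈ M}

theorem Ctx.card_W (h : Ctx R x q a b) :
    Nat.card (W x) = Nat.card (Wp x 2) + Nat.card (Wp x q) := by
  haveI : Fact q.Prime := ⟨h.prime⟩
  haveI : Fact (Nat.Prime 2) := ⟨Nat.prime_two⟩
  have e : W x = Wp x 2 ∪ Wp x q := by
    ext w
    constructor
    · rintro ⟨hw, K, hK, hwK⟩
      obtain ⟨M, hM, hKM⟩ := exists_maxI x hK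
      rcases h.maxI_pgroup hM with e | e
      · exact Or.inl ⟨hw, M, hM, e, hKM hwK⟩
      · exact Or.inr ⟨hw, M, hM, e, hKM hwK⟩
    · rintro (⟨hw, M, hM, -, hwM⟩ | ⟨hw, M, hM, -, hwM⟩) <;> exact ⟨hw, M, hM.1, hwM⟩
  have hd : Disjoint (Wp x 2) (Wp x q) := by
    rw [Set.disjoint_left]
    rintro w ⟨hw, M, -, hMp, hwM⟩ ⟨-, M', -, hMq, hwM'⟩
    exact hw ((Subgroup.disjoint_def.1 (IsPGroup.disjoint_of_ne 2 q h.ne_two.symm M M' hMp hMq)) hwM hwM')
  rw [Nat.card_coe_set_eq, Nat.card_coe_set_eq, Nat.card_coe_set_eq, e, Set.ncard_union_eq hd]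

/-- A disjoint union of subgroups of the same order. -/
theorem card_union {P : Set (Subgroup G)} {c : ℕ} {U : Set G}
    (hU : ∀ w, w ∈ U ↔ w ≠ 1 ∧ ∃ M ∈ P, w ∈ M) (hc : ∀ M ∈ P, Nat.card M = c)
    (hd : ∀ M ∈ P, ∀ M' ∈ P, M ≠ M' → M ⊓ M' = ⊥) : Nat.card U = Nat.card P * (c - 1) := by
  classical
  haveI := Fintype.ofFinite G
  haveI := Fintype.ofFinite (Subgroup G)
  have e : U.toFinset = P.toFinset.biUnion fun M => (Finset.univ.filter fun g => g ∈ M).erase 1 := by
    ext w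
    simp only [Set.mem_toFinset, Finset.mem_biUnion, Finset.mem_erase, Finset.mem_filter,
      Finset.mem_univ, true_and, hU]
    constructor
    · rintro ⟨hw, M, hM, hwM⟩; exact ⟨M, hM, hw, hwM⟩
    · rintro ⟨M, hM, hw, hwM⟩; exact ⟨hw, M, hM, hwM⟩
  rw [Nat.card_eq_fintype_card, ← Set.toFinset_card, e, Finset.card_biUnion]
  · rw [Finset.sum_const_nat (m := c - 1)]
    · rw [Set.toFinset_card, Nat.card_eq_fintype_card]
    · intro M hM
      rw [Finset.card_erase_of_mem (by simp), ← Fintype.card_subtype, ← Nat.card_eq_fintype_card,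
        hc M (Set.mem_toFinset.1 hM)]
  · intro M hM M' hM' hne
    rw [Function.onFun, Finset.disjoint_left]
    intro w hw hw'
    simp only [Finset.mem_erase, Finset.mem_filter, Finset.mem_univ, true_and] at hw hw'
    have := hd M (Set.mem_toFinset.1 hM) M' (Set.mem_toFinset.1 hM') hne
    exact hw.1 ((Subgroup.eq_bot_iff_forall _).1 this w ⟨hw.2, hw'.2⟩)

/-- The contribution of a class of maximal invariant subgroups. -/
theorem Ctx.card_Wp (h : Ctx R x q a b) {p : ℕ} [Fact p.Prime] {M : Subgroup G} (hM : MaxI x M)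
    (hMp : IsPGroup p M)
    (hconj : ∀ K, MaxI x K → IsPGroup p K → K ≠ ⊥ →
      ∃ c ∈ Subgroup.normalizer (Subgroup.zpowers x : Set G), K = cj c M)
    (hd : ∀ K L, MaxI x K → MaxI x L → IsPGroup p K → IsPGroup p L → K ≠ L → K ⊓ L = ⊥) :
    Nat.card (Wp x p) * Nat.card ↥(Subgroup.normalizer (Subgroup.zpowers x : Set G) ⊓
      Subgroup.normalizer (M : Set G)) = 18 * (Nat.card M - 1) := by
  have hP : ∀ K, (∃ c ∈ Subgroup.normalizer (Subgroup.zpowers x : Set G), K = cj c M) →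
      MaxI x K ∧ IsPGroup p K := by
    rintro K ⟨c, hc, rfl⟩
    exact ⟨maxI_cj h.hyp hM hc, hMp.map _⟩
  rw [card_union (P := {K | ∃ c ∈ Subgroup.normalizer (Subgroup.zpowers x : Set G), K = cj c M})
    (c := Nat.card M) (U := Wp x p) ?_ ?_ ?_, mul_right_comm]
  · exact congrArg (· * (Nat.card M - 1)) h.hyp.card_members
  · intro w
    constructor
    · rintro ⟨hw, K, hK, hKp, hwK⟩
      exact ⟨hw, K, hconj K hK hKp (fun e => hw ((Subgroup.eq_bot_iff_forall K).1 e w hwK)), hwK⟩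
    · rintro ⟨hw, K, hK, hwK⟩
      exact ⟨hw, K, (hP K hK).1, (hP K hK).2, hwK⟩
  · rintro K ⟨c, -, rfl⟩
    exact card_cj c M
  · exact fun K hK L hL => hd K L (hP K hK).1 (hP L hL).1 (hP K hK).2 (hP L hL).2

end Cfsg.Agent.S2220Count8
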