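import Mathlib
import Cfsg.Agent.Lib.S2220Count8

/-!
Maximal invariant subgroups of two-power order.
-/

set_option autoImplicit false
set_option linter.unusedSectionVars false

namespace Cfsg.Agent.S2220Two8

open SelfCentThreeBase SelfCentThreeLocal SelfCentThreeLift SelfCentNineA6Core64 S2220Local8 S2220Count8

universe u

variable {G : Type u} [Group G] [Finite G] {R : Subgroup G} {x : G}

theorem hyp_conj (h : Hyp R x) (g : G) : Hyp (cj g R) (g * x * g⁻¹) := by
  refine ⟨⟨?_, ?_, (card_cj g R).trans h.conf.card, ?_⟩, ⟨x, h.mem, rfl⟩,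
    fun e => h.ne (conj_eq_one_iff.1 e), ?_, ?_⟩
  · rintro _ ⟨c, hc, rfl⟩ _ ⟨d, hd, rfl⟩
    rw [← map_mul, ← map_mul, h.conf.comm c hc d hd]
  · rintro _ ⟨c, hc, rfl⟩
    rw [← map_pow, h.conf.exp c hc, map_one]
  · intro s hs hs1
    have hs' := mem_cj.1 hs
    have hs1' : g⁻¹ * s * g ≠ 1 := fun e => hs1 (by
      rw [show s = g * (g⁻¹ * s * g) * g⁻¹ by group, e]; group)
    ext c
    rw [mem_cj, ← h.conf.cent _ hs' hs1', Subgroup.mem_centralizer_singleton_iff,
      Subgroup.mem_centralizer_singleton_iff]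
    constructor
    · intro e
      calc g⁻¹ * c * g * (g⁻¹ * s * g) = g⁻¹ * (c * s) * g := by group
        _ = g⁻¹ * (s * c) * g := by rw [e]
        _ = _ := by group
    · intro e
      calc c * s = g * (g⁻¹ * c * g * (g⁻¹ * s * g)) * g⁻¹ := by group
        _ = g * (g⁻¹ * s * g * (g⁻¹ * c * g)) * g⁻¹ := by rw [e]
        _ = _ := by group
  · obtain ⟨P, hP⟩ := h.sylow
    exact ⟨g • P, by rw [Sylow.coe_subgroup_smul, hP]; rfl⟩
  · rintro _ ⟨c, hc, rfl⟩ hc1
    have := h.fused c hc fun e => hc1 (by rw [e, map_one])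
    exact ((isConj_iff.2 ⟨g, rfl⟩ : IsConj x (g * x * g⁻¹)).symm.trans this).trans
      (isConj_iff.2 ⟨g, by simp⟩)

theorem maxI_conj {M : Subgroup G} (hM : MaxI x M) (g : G) : MaxI (g * x * g⁻¹) (cj g M) := by
  refine ⟨inv3_map (MulAut.conj g).toMonoidHom hM.1, fun K hK hle => ?_⟩
  have hK' : Inv3 x (cj g⁻¹ K) := by
    have := inv3_map (MulAut.conj g⁻¹).toMonoidHom hK
    have e : (MulAut.conj g⁻¹).toMonoidHom (g * x * g⁻¹) = x := by simp [mul_assoc]
    rwa [e] at this
  have e : cj g⁻¹ K = M := hM.2 _ hK' fun m hm => mem_cj.2 (by simpa using hle ⟨m, hm, rfl⟩)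
  rw [← e, ← cj_mul, mul_inv_cancel, cj_one]

theorem normalizer_cj (g : G) (M : Subgroup G) :
    Subgroup.normalizer (cj g M : Set G) = cj g (Subgroup.normalizer (M : Set G)) := by
  ext c
  rw [mem_normalizer_cj, mem_cj]

/-- Maximal invariant two-subgroups with a normaliser of twice the odd index. -/
structure Six (x : G) (M : Subgroup G) : Prop where
  max : MaxI x M
  two : IsPGroup 2 M
  ne : M ≠ ⊥
  card : Nat.card (Subgroup.normalizer (M : Set G)) = 6 * Nat.card M

theorem Six.conj {M : Subgroup G} (s : Six x M) (g : G) : Six (g * x * g⁻¹) (cj g M) :=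
  ⟨maxI_conj s.max g, s.two.map _, fun e => s.ne (Subgroup.card_eq_one.1
    ((card_cj g M).symm.trans (Subgroup.card_eq_one.2 e))),
    by rw [normalizer_cj, card_cj, card_cj, s.card]⟩

theorem cube_mul (h : Hyp R x) {M : Subgroup G} (hcop : ¬ 3 ∣ Nat.card M) {r k : G} (hr : r ∈ R)
    (hr1 : r ≠ 1) (hinv : ∀ m ∈ M, r * m * r⁻¹ ∈ M) (hk : k ∈ M) : (k * r) ^ 3 = 1 := by
  have := rel_of (h.cube hr) hinv (fun m hm hc => h.fpf' hcop hr hr1 hm hc) hk
  calc (k * r) ^ 3 = k * (r * k * r⁻¹) * (r * r * k * (r * r)⁻¹) * (r * r * r) := by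
        rw [pow_succ, pow_two]; group
    _ = 1 := by rw [this, h.cube hr, mul_one]

/-- An element outside the core against its conjugate. -/
theorem Six.outside (h : Hyp R x) {M : Subgroup G} (s : Six x M) {y : G}
    (hy : y ∈ Subgroup.normalizer (M : Set G)) (hy2 : ∃ n, y ^ 2 ^ n = 1) (hyM : y ∉ M) :
    y * y ∈ M ∧ (∀ t ∈ Subgroup.normalizer (M : Set G), (∃ n, t ^ 2 ^ n = 1) → t ∉ M →
        (∃ n, (y⁻¹ * t) ^ 2 ^ n = 1) → y⁻¹ * t ∈ M) ∧
      ∃ c ∈ Subgroup.normalizer (M : Set G),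
        c * (y⁻¹ * (x * y * x⁻¹)) * c⁻¹ ∈ Subgroup.zpowers x ∧ y⁻¹ * (x * y * x⁻¹) ≠ 1 := by
  classical
  set H := Subgroup.normalizer (M : Set G) with hH
  have hxH : x ∈ H := x_mem_normalizer s.max.1
  haveI : (M.subgroupOf H).Normal := normal_subgroupOf_le le_rfl
  let π := QuotientGroup.mk' (M.subgroupOf H)
  have hker : ∀ (t : G) (ht : t ∈ H), π ⟨t, ht⟩ = 1 ↔ t ∈ M := fun t ht =>
    (QuotientGroup.eq_one_iff _).trans Subgroup.mem_subgroupOf
  have hsc := sc3_quotient (h.sc s.max.1 s.ne le_rfl hxH)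
    (inv3_subgroupOf s.max.1 Subgroup.le_normalizer hxH)
  set X := Subgroup.zpowers (π ⟨x, hxH⟩) with hX
  have hX3 : Nat.card X = 3 := by rw [hX, Nat.card_zpowers, hsc.ord]
  have hidx : X.index = 2 := by
    have h1 := X.card_mul_index
    have h2 := (M.subgroupOf H).card_mul_index
    rw [card_subgroupOf Subgroup.le_normalizer, s.card] at h2
    have h3 : (M.subgroupOf H).index = Nat.card (H ⧸ M.subgroupOf H) := rfl
    rw [hX3, ← h3] at h1
    have hp := Nat.card_pos (α := M)
    have : (M.subgroupOf H).index = 6 := Nat.eq_of_mul_eq_mul_left hp (by rw [h2, mul_comm])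
    omega
  have hout : ∀ (t : G) (ht : t ∈ H), (∃ n, t ^ 2 ^ n = 1) → π ⟨t, ht⟩ ∈ X → t ∈ M := by
    rintro t ht ⟨n, hn⟩ hX'
    rw [← hker t ht]
    have h1 : orderOf (π ⟨t, ht⟩) ∣ 3 := hX3 ▸ Subgroup.orderOf_mk _ hX' ▸ orderOf_dvd_natCard _
    have h2 : orderOf (π ⟨t, ht⟩) ∣ 2 ^ n := orderOf_dvd_of_pow_eq_one (by
      rw [← map_pow, show (⟨t, ht⟩ : H) ^ 2 ^ n = 1 from Subtype.ext (by simpa using hn), map_one])
    exact orderOf_eq_one_iff.1 (Nat.eq_one_of_dvd_coprimes
      (Nat.Coprime.pow_right n (by norm_num : Nat.Coprime 3 2)) h1 h2)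
  have hyX : π ⟨y, hy⟩ ∉ X := fun e => hyM (hout y hy hy2 e)
  refine ⟨?_, ?_, ?_⟩
  · obtain ⟨n, hn⟩ := hy2
    refine hout (y * y) (H.mul_mem hy hy) ⟨n, by rw [← pow_two, ← pow_mul, mul_comm, pow_mul, hn, one_pow]⟩ ?_
    rw [show (⟨y * y, H.mul_mem hy hy⟩ : H) = ⟨y, hy⟩ * ⟨y, hy⟩ from rfl, map_mul]
    exact (Subgroup.mul_mem_iff_of_index_two hidx).2 Iff.rfl
  · intro t ht ht2 htM ht3
    refine hout _ (H.mul_mem (H.inv_mem hy) ht) ht3 ?_
    rw [show (⟨y⁻¹ * t, H.mul_mem (H.inv_mem hy) ht⟩ : H) = (⟨y, hy⟩ : H)⁻¹ * ⟨t, ht⟩ from rfl,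
      map_mul, map_inv]
    refine (Subgroup.mul_mem_iff_of_index_two hidx).2 ?_
    rw [inv_mem_iff]
    exact ⟨fun e => absurd e hyX, fun e => absurd (hout t ht ht2 e) htM⟩
  · have huH : y⁻¹ * (x * y * x⁻¹) ∈ H :=
      H.mul_mem (H.inv_mem hy) (H.mul_mem (H.mul_mem hxH hy) (H.inv_mem hxH))
    set uu := π ⟨y⁻¹ * (x * y * x⁻¹), huH⟩ with huu
    have heq : uu = (π ⟨y, hy⟩)⁻¹ * (π ⟨x, hxH⟩ * π ⟨y, hy⟩ * (π ⟨x, hxH⟩)⁻¹) := by
      rw [huu, ← map_inv π ⟨y, hy⟩, ← map_inv π ⟨x, hxH⟩, ← map_mul, ← map_mul, ← map_mul]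
      rfl
    have hxX : π ⟨x, hxH⟩ ∈ X := Subgroup.mem_zpowers _
    have huX : uu ∈ X := by
      rw [heq]
      refine (Subgroup.mul_mem_iff_of_index_two hidx).2 ?_
      rw [inv_mem_iff]
      refine ⟨fun e => absurd e hyX, fun e => absurd ?_ hyX⟩
      have := X.mul_mem (X.mul_mem (X.inv_mem hxX) e) hxX
      simpa [mul_assoc] using this
    have hu1 : uu ≠ 1 := by
      intro e
      rw [heq, inv_mul_eq_one, eq_comm, mul_inv_eq_iff_eq_mul] at e
      exact hyX ((hsc.mem_zpowers_iff _).2 (hsc.cent _ e.symm))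
    -- a representative in a coset of the core
    have hrep : ∃ r ∈ R, r ≠ 1 ∧ r ∈ H ∧ y⁻¹ * (x * y * x⁻¹) * r⁻¹ ∈ M := by
      rcases (hsc.mem_zpowers_iff _).1 huX with e | e | e
      · exact absurd e hu1
      · exact ⟨x, h.mem, h.ne, hxH, (hker _ (H.mul_mem huH (H.inv_mem hxH))).1 (by
          rw [show (⟨_, H.mul_mem huH (H.inv_mem hxH)⟩ : H) = ⟨_, huH⟩ * (⟨x, hxH⟩ : H)⁻¹ from rfl,
            map_mul, map_inv, ← huu, e, mul_inv_cancel])⟩
      · exact ⟨x⁻¹, R.inv_mem h.mem, inv_ne_one.2 h.ne, H.inv_mem hxH,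
          (hker _ (H.mul_mem huH (H.inv_mem (H.inv_mem hxH)))).1 (by
          rw [show (⟨_, H.mul_mem huH (H.inv_mem (H.inv_mem hxH))⟩ : H) =
              ⟨_, huH⟩ * ((⟨x, hxH⟩ : H)⁻¹)⁻¹ from rfl,
            map_mul, map_inv, map_inv, ← huu, e, mul_inv_cancel])⟩
    obtain ⟨r, hr, hr1, hrH, hm⟩ := hrep
    have h3 := cube_mul h s.max.1.cop hr hr1
      (fun m hm => (Subgroup.mem_normalizer_iff.1 hrH m).1 hm) hm
    rw [inv_mul_cancel_right] at h3
    have hne : y⁻¹ * (x * y * x⁻¹) ≠ 1 := fun e => hu1 (by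
      rw [huu, show (⟨_, huH⟩ : H) = 1 from Subtype.ext e, map_one])
    haveI : Fact (Nat.Prime 3) := ⟨Nat.prime_three⟩
    obtain ⟨c, hc, hcu⟩ := h.sylow_conj hxH (h.maxI_small s.max s.ne).not_nine huH (orderOf_eq_prime h3 hne)
    exact ⟨c, hc, hcu, hne⟩

/-- No element of the core commutes with an outer element and its conjugate. -/
theorem Six.no_common (h : Hyp R x) {M : Subgroup G} (s : Six x M) {y : G}
    (hy : y ∈ Subgroup.normalizer (M : Set G)) (hy2 : ∃ n, y ^ 2 ^ n = 1) (hyM : y ∉ M) {v : G}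
    (hv : v ∈ M) (h1 : Commute v y) (h2 : Commute v (x * y * x⁻¹)) : v = 1 := by
  obtain ⟨-, -, c, hc, hcu, hne⟩ := s.outside h hy hy2 hyM
  have := h.fpf' s.max.1.cop ((Subgroup.zpowers_le.2 h.mem) hcu) (fun e => hne (conj_eq_one_iff.1 e))
    ((Subgroup.mem_normalizer_iff.1 hc v).1 hv) ((h1.inv_right.mul_right h2).map (MulAut.conj c).toMonoidHom)
  exact conj_eq_one_iff.1 this

/-- The centraliser of an outer involution in the core. -/
theorem Six.card_fix (h : Hyp R x) {M : Subgroup G} (s : Six x M) {y : G}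
    (hy : y ∈ Subgroup.normalizer (M : Set G)) (hy2 : y * y = 1) (hyM : y ∉ M) :
    Nat.card ↥(M ⊓ Subgroup.centralizer ({y} : Set G)) ^ 2 = Nat.card M := by
  obtain ⟨-, -, c, hc, hcu, hne⟩ := s.outside h hy ⟨1, by rw [pow_one, pow_two, hy2]⟩ hyM
  set H := Subgroup.normalizer (M : Set G) with hH
  have hxH : x ∈ H := x_mem_normalizer s.max.1
  have huH : y⁻¹ * (x * y * x⁻¹) ∈ H :=
    H.mul_mem (H.inv_mem hy) (H.mul_mem (H.mul_mem hxH hy) (H.inv_mem hxH))
  set u' : H := ⟨_, huH⟩ with hu'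
  set c' : H := ⟨c, hc⟩ with hc'
  have hsx := h.sc s.max.1 s.ne le_rfl hxH
  have hcases : c' * u' * c'⁻¹ ∈ Subgroup.zpowers (⟨x, hxH⟩ : H) := by
    obtain ⟨j, hj⟩ := hcu
    exact ⟨j, Subtype.ext (by simpa [hu', hc'] using hj)⟩
  have hsu : SC3 u' := by
    have e : u' = c'⁻¹ * (c' * u' * c'⁻¹) * c'⁻¹⁻¹ := by group
    rw [e]
    rcases (hsx.mem_zpowers_iff _).1 hcases with e' | e' | e'
    · exact absurd (congrArg Subtype.val (conj_eq_one_iff.1 e')) hne
    · rw [e']; exact hsx.conj _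
    · rw [e']; exact hsx.inv.conj _
  have hyi : y⁻¹ = y := inv_eq_of_mul_eq_one_right hy2
  have hinv : (⟨y, hy⟩ : H) * u' * ⟨y, hy⟩ = u'⁻¹ := by
    apply Subtype.ext
    show y * (y⁻¹ * (x * y * x⁻¹)) * y = (y⁻¹ * (x * y * x⁻¹))⁻¹
    rw [mul_inv_rev, inv_inv, mul_inv_rev, mul_inv_rev, hyi, inv_inv, ← mul_assoc y y, hy2]
    group
  have hK : Inv3 u' (M.subgroupOf H) :=
    ⟨fun k hk => (Subgroup.mem_normalizer_iff.1 huH _).1 hk, by
      rw [card_subgroupOf Subgroup.le_normalizer]; exact s.max.1.cop⟩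
  have := card_centralizer_sq hsu (Subtype.ext hy2 : (⟨y, hy⟩ : H) * ⟨y, hy⟩ = 1) hinv hK (fun k hk => by
    have := (Subgroup.mem_normalizer_iff.1 hy _).1 hk
    rw [hyi] at this
    exact this)
  rw [card_subgroupOf Subgroup.le_normalizer,
    ← Subgroup.card_map_of_injective H.subtype_injective] at this
  rw [← this]
  congr 2
  congr 1
  ext v
  constructor
  · rintro ⟨hvM, hvy⟩
    refine ⟨⟨v, Subgroup.le_normalizer hvM⟩, ⟨hvM, Subgroup.mem_centralizer_singleton_iff.2
      (Subtype.ext (Subgroup.mem_centralizer_singleton_iff.1 hvy))⟩, rfl⟩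
  · rintro ⟨k, ⟨hk, hky⟩, rfl⟩
    exact ⟨hk, Subgroup.mem_centralizer_singleton_iff.2
      (congrArg Subtype.val (Subgroup.mem_centralizer_singleton_iff.1 hky))⟩

/-- The central elements of order at most two. -/
def omega (M : Subgroup G) : Subgroup G where
  carrier := {v | v ∈ M ∧ v * v = 1 ∧ ∀ m ∈ M, Commute v m}
  one_mem' := ⟨M.one_mem, mul_one 1, fun m _ => Commute.one_left m⟩
  mul_mem' := fun {v w} hv hw => ⟨M.mul_mem hv.1 hw.1, by
    rw [show v * w * (v * w) = v * (w * v) * w by group, (hw.2.2 v hv.1).eq,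
      show v * (v * w) * w = (v * v) * (w * w) by group, hv.2.1, hw.2.1, one_mul],
    fun m hm => (hv.2.2 m hm).mul_left (hw.2.2 m hm)⟩
  inv_mem' := fun {v} hv => ⟨M.inv_mem hv.1, by
    rw [← mul_inv_rev, hv.2.1, inv_one], fun m hm => (hv.2.2 m hm).inv_left⟩

theorem normalizer_le_omega (M : Subgroup G) :
    Subgroup.normalizer (M : Set G) ≤ Subgroup.normalizer (omega M : Set G) := fun g hg =>
  mem_normalizer_of_invariant fun v ⟨h1, h2, h3⟩ => by
    refine ⟨(Subgroup.mem_normalizer_iff.1 hg v).1 h1, ?_, fun m hm => ?_⟩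
    · rw [show g * v * g⁻¹ * (g * v * g⁻¹) = g * (v * v) * g⁻¹ by group, h2]; group
    · have hm' : g⁻¹ * m * g ∈ M := by
        simpa using (Subgroup.mem_normalizer_iff.1 (inv_mem hg) m).1 hm
      have e := ((h3 _ hm').map (MulAut.conj g).toMonoidHom)
      simpa [mul_assoc] using e

theorem omega_le (M : Subgroup G) : omega M ≤ M := fun _ hv => hv.1

theorem omega_facts (h : Hyp R x) {M : Subgroup G} (hM : Inv3 x M) (hMp : IsPGroup 2 M) (hM1 : M ≠ ⊥) :
    Inv3 x (omega M) ∧ omega M ≠ ⊥ ∧ 4 ≤ Nat.card (omega M) := by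
  haveI : Fact (Nat.Prime 2) := ⟨Nat.prime_two⟩
  have hi : Inv3 x (omega M) := ⟨fun k hk => (Subgroup.mem_normalizer_iff.1
    (normalizer_le_omega M (x_mem_normalizer hM)) k).1 hk,
    fun h3 => hM.cop (h3.trans (Subgroup.card_dvd_of_le (omega_le M)))⟩
  have hne : omega M ≠ ⊥ := by
    haveI : Nontrivial M := (Subgroup.nontrivial_iff_ne_bot M).2 hM1
    haveI := hMp.center_nontrivial
    obtain ⟨n, hn⟩ := IsPGroup.iff_card.1 (hMp.to_subgroup (Subgroup.center M))
    have h1 : 1 < Nat.card (Subgroup.center M) := Finite.one_lt_card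
    obtain ⟨z, hz⟩ := exists_prime_orderOf_dvd_card' (G := Subgroup.center M) 2 (by
      rw [hn] at h1 ⊢
      exact dvd_pow_self 2 (fun e => by rw [e, pow_zero] at h1; omega))
    rw [← Subgroup.orderOf_coe, ← Subgroup.orderOf_coe] at hz
    intro e
    have hz1 : ((z : M) : G) ∈ omega M := ⟨z.1.2,
      by rw [← pow_two, ← hz]; exact pow_orderOf_eq_one _,
      fun m hm => (congrArg Subtype.val (Subgroup.mem_center_iff.1 z.2 ⟨m, hm⟩)).symm⟩
    rw [e, Subgroup.mem_bot] at hz1
    rw [hz1, orderOf_one] at hz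
    omega
  refine ⟨hi, hne, ?_⟩
  have := h.card_mod hi
  have := Subgroup.one_lt_card_iff_ne_bot _ |>.2 hne
  omega

theorem pow_card (M : Subgroup G) (hMp : IsPGroup 2 M) : ∃ n, Nat.card M = 2 ^ n :=
  haveI : Fact (Nat.Prime 2) := ⟨Nat.prime_two⟩
  IsPGroup.iff_card.1 hMp

theorem exists_pow {T : Subgroup G} (hT : IsPGroup 2 T) {t : G} (ht : t ∈ T) : ∃ n, t ^ 2 ^ n = 1 := by
  obtain ⟨n, hn⟩ := hT ⟨t, ht⟩
  exact ⟨n, by simpa using congrArg Subtype.val hn⟩

/-- The fixed points of an outer element on the central involutions. -/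
theorem Six.card_omega_fix (h : Hyp R x) {M : Subgroup G} (s : Six x M) {y : G}
    (hy : y ∈ Subgroup.normalizer (M : Set G)) (hy2 : ∃ n, y ^ 2 ^ n = 1) (hyM : y ∉ M) :
    Nat.card ↥(omega M ⊓ Subgroup.centralizer ({y} : Set G)) ^ 2 = Nat.card (omega M) := by
  obtain ⟨hyy, -⟩ := s.outside h hy hy2 hyM
  set V := omega M with hV
  set C := V ⊓ Subgroup.centralizer ({y} : Set G) with hC
  have memC : ∀ v, v ∈ C ↔ v ∈ V ∧ Commute v y := fun v => by
    rw [hC, Subgroup.mem_inf, Subgroup.mem_centralizer_singleton_iff]; rfl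
  have hVi := (omega_facts h s.max.1 s.two s.ne).1
  have hyV := normalizer_le_omega M hy
  refine le_antisymm ?_ ?_
  · rw [pow_two, ← Nat.card_prod]
    refine Nat.card_le_card_of_injective (fun p : C × C => (⟨(p.1 : G) * (x * p.2 * x⁻¹),
      V.mul_mem ((memC _).1 p.1.2).1 (hVi.inv _ ((memC _).1 p.2.2).1)⟩ : V)) ?_
    rintro ⟨c, d⟩ ⟨c', d'⟩ e
    have e' : (c : G) * (x * d * x⁻¹) = c' * (x * d' * x⁻¹) := congrArg Subtype.val e
    have e2 : (c' : G)⁻¹ * c = x * ((d' : G) * (d : G)⁻¹) * x⁻¹ := by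
      calc (c' : G)⁻¹ * c = (c' : G)⁻¹ * ((c : G) * (x * d * x⁻¹)) * (x * (d : G) * x⁻¹)⁻¹ := by group
        _ = _ := by rw [e']; group
    have h1 := ((memC _).1 c.2)
    have h1' := ((memC _).1 c'.2)
    have hz := s.no_common h hy hy2 hyM (omega_le M (V.mul_mem (V.inv_mem h1'.1) h1.1))
      (h1'.2.inv_left.mul_left h1.2) (by
        rw [e2]
        exact (((memC _).1 d'.2).2.mul_left ((memC _).1 d.2).2.inv_left).map (MulAut.conj x).toMonoidHom)
    have hc : c = c' := Subtype.ext (inv_mul_eq_one.1 hz).symm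
    subst hc
    exact Prod.ext rfl (Subtype.ext (mul_left_cancel (mul_right_cancel (mul_left_cancel e'))))
  · have hb : ∀ v : V, (v : G) * (y * v * y⁻¹) ∈ C := by
      intro v
      have hv' : y * (v : G) * y⁻¹ ∈ V := (Subgroup.mem_normalizer_iff.1 hyV _).1 v.2
      refine (memC _).2 ⟨V.mul_mem v.2 hv', ?_⟩
      have hc : Commute (v : G) (y * v * y⁻¹) := v.2.2.2 _ (omega_le M hv')
      have hc2 : y * y * (v : G) = v * (y * y) := (v.2.2.2 _ hyy).eq.symm
      show (v : G) * (y * v * y⁻¹) * y = y * (v * (y * v * y⁻¹))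
      calc (v : G) * (y * v * y⁻¹) * y = (y * v * y⁻¹) * v * y := by rw [hc.eq]
        _ = y * v * y⁻¹ * (v * (y * y)) * y⁻¹ := by group
        _ = _ := by rw [← hc2]; group
    let f : V →* C := MonoidHom.mk' (fun v => ⟨_, hb v⟩) fun v w => Subtype.ext (by
      show (v : G) * w * (y * (v * w) * y⁻¹) = v * (y * v * y⁻¹) * (w * (y * w * y⁻¹))
      have hc : Commute (w : G) (y * v * y⁻¹) :=
        w.2.2.2 _ (omega_le M ((Subgroup.mem_normalizer_iff.1 hyV _).1 v.2))
      calc (v : G) * w * (y * (v * w) * y⁻¹) = v * (w * (y * v * y⁻¹)) * (y * w * y⁻¹) := by group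
        _ = _ := by rw [hc.eq]; group)
    have hk : f.ker ≤ C.subgroupOf V := by
      intro v hv
      have e : (v : G) * (y * v * y⁻¹) = 1 := congrArg Subtype.val (MonoidHom.mem_ker.1 hv)
      refine Subgroup.mem_subgroupOf.2 ((memC _).2 ⟨v.2, ?_⟩)
      have e' : y * (v : G) * y⁻¹ = v :=
        (mul_left_cancel (e.trans v.2.2.1.symm : (v : G) * (y * v * y⁻¹) = v * v))
      exact (mul_inv_eq_iff_eq_mul.1 e').symm
    have h1 := f.ker.card_mul_index
    rw [Subgroup.index_ker] at h1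
    have h2 : Nat.card f.ker ≤ Nat.card C := by
      rw [← card_subgroupOf (inf_le_left : C ≤ V)]
      exact Subgroup.card_le_of_le hk
    have h3 : Nat.card f.range ≤ Nat.card C := Subgroup.card_le_card_group _
    rw [← h1, pow_two]
    exact Nat.mul_le_mul h2 h3

theorem lt_of_card {M T : Subgroup G} (hle : M ≤ T) (hc : Nat.card M < Nat.card T) : M < T :=
  lt_of_le_of_ne hle fun e => by rw [e] at hc; omega

/-- Two maximal invariant subgroups of index two in one two-group. -/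
theorem index_two {R' : Subgroup G} {x' : G} (h : Hyp R x) (h' : Hyp R' x') {M M' T : Subgroup G}
    (s : Six x M) (s' : Six x' M') (hT : IsPGroup 2 T) (hMT : M ≤ T) (hM'T : M' ≤ T)
    (hTn : T ≤ Subgroup.normalizer (M : Set G)) (hTn' : T ≤ Subgroup.normalizer (M' : Set G))
    (hc : Nat.card T = 2 * Nat.card M) (hc' : Nat.card T = 2 * Nat.card M') (hne : M ≠ M') :
    Nat.card M = 4 := by
  classical
  have hpM := Nat.card_pos (α := M)
  have hidx : (M.subgroupOf T).index = 2 := by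
    have := (M.subgroupOf T).card_mul_index
    rw [card_subgroupOf hMT, hc, mul_comm 2] at this
    exact Nat.eq_of_mul_eq_mul_left hpM this
  have hquot : ∀ c ∈ T, ∀ d ∈ T, c ∉ M → d ∉ M → c⁻¹ * d ∈ M := by
    intro c hcT d hdT hcM hdM
    have := (Subgroup.mul_mem_iff_of_index_two hidx (a := (⟨c, hcT⟩ : T)⁻¹) (b := ⟨d, hdT⟩)).2 (by
      simp only [inv_mem_iff, Subgroup.mem_subgroupOf]
      exact ⟨fun e => absurd e hcM, fun e => absurd e hdM⟩)
    exact this
  obtain ⟨y, hyT, hyM⟩ := SetLike.exists_of_lt (lt_of_card hMT (by omega))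
  obtain ⟨y', hyT', hyM'⟩ := SetLike.exists_of_lt (lt_of_card hM'T (by omega))
  have hy := hTn hyT
  have hy2 := exists_pow hT hyT
  set V := omega M with hV
  set V' := omega M' with hV'
  set Z := V ⊓ Subgroup.centralizer ({y} : Set G) with hZ
  have hcard := s.card_omega_fix h hy hy2 hyM
  -- the fixed points are central in `T`
  have zT : ∀ z ∈ Z, ∀ t ∈ T, Commute z t := by
    rintro z ⟨hzV, hzy⟩ t ht
    by_cases htM : t ∈ M
    · exact hzV.2.2 t htM
    · have e : t = y * (y⁻¹ * t) := by group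
      rw [e]
      exact Commute.mul_right (Subgroup.mem_centralizer_singleton_iff.1 hzy)
        (hzV.2.2 _ (hquot y hyT t ht hyM htM))
  have zV' : ∀ z ∈ Z, z ∈ V' := fun z hz =>
    ⟨central_mem h' s'.max s'.ne hM'T (zT z hz), hz.1.2.1, fun m hm => zT z hz m (hM'T hm)⟩
  have zmem : ∀ z, z * z = 1 → (∀ t ∈ T, Commute z t) → z ∈ Z := fun z h2 hz =>
    ⟨⟨central_mem h s.max s.ne hMT hz, h2, fun m hm => hz m (hMT hm)⟩,
      Subgroup.mem_centralizer_singleton_iff.2 (hz y hyT)⟩
  set Z' := V' ⊓ Subgroup.centralizer ({y'} : Set G) with hZ'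
  have hquot' : ∀ d ∈ T, d ∉ M' → y'⁻¹ * d ∈ M' := by
    intro d hdT hdM
    have hidx' : (M'.subgroupOf T).index = 2 := by
      have := (M'.subgroupOf T).card_mul_index
      rw [card_subgroupOf hM'T, hc', mul_comm 2] at this
      exact Nat.eq_of_mul_eq_mul_left Nat.card_pos this
    have := (Subgroup.mul_mem_iff_of_index_two hidx' (a := (⟨y', hyT'⟩ : T)⁻¹) (b := ⟨d, hdT⟩)).2 (by
      simp only [inv_mem_iff, Subgroup.mem_subgroupOf]
      exact ⟨fun e => absurd e hyM', fun e => absurd e hdM⟩)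
    exact this
  have zT' : ∀ z ∈ Z', ∀ t ∈ T, Commute z t := by
    rintro z ⟨hzV, hzy⟩ t ht
    by_cases htM : t ∈ M'
    · exact hzV.2.2 t htM
    · have e : t = y' * (y'⁻¹ * t) := by group
      rw [e]
      exact Commute.mul_right (Subgroup.mem_centralizer_singleton_iff.1 hzy)
        (hzV.2.2 _ (hquot' t ht htM))
  have hZZ : Z = Z' := le_antisymm
    (fun z hz => ⟨zV' z hz, Subgroup.mem_centralizer_singleton_iff.2 (zT z hz y' hyT')⟩)
    (fun z hz => zmem z hz.1.2.1 (zT' z hz))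
  have hVV : Nat.card V = Nat.card V' := by
    rw [← hcard, ← s'.card_omega_fix h' (hTn' hyT') (exists_pow hT hyT') hyM', ← hV', ← hV, ← hZ,
      ← hZ', hZZ]
  -- commutators with the second group of central involutions
  have hcom : ∀ v ∈ V', ∀ t ∈ T, t * v * t⁻¹ * v ∈ Z := by
    intro v hv t ht
    rw [hZZ]
    have hn := normalizer_le_omega M' (hTn' ht)
    have hv' : t * v * t⁻¹ ∈ V' := (Subgroup.mem_normalizer_iff.1 hn v).1 hv
    refine ⟨V'.mul_mem hv' hv, Subgroup.mem_centralizer_singleton_iff.2 ?_⟩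
    by_cases htM : t ∈ M'
    · rw [show t * v * t⁻¹ = v by rw [← (hv.2.2 t htM).eq, mul_inv_cancel_right], hv.2.1, one_mul,
        mul_one]
    · set m := y'⁻¹ * t with hm
      have hmM := hquot' t ht htM
      have e : t * v * t⁻¹ = y' * v * y'⁻¹ := by
        calc t * v * t⁻¹ = y' * (m * v * m⁻¹) * y'⁻¹ := by rw [hm]; group
          _ = _ := by rw [← (hv.2.2 m hmM).eq, mul_inv_cancel_right]
      rw [e]
      obtain ⟨hyy, -⟩ := s'.outside h' (hTn' hyT') (exists_pow hT hyT') hyM'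
      have hyv : y' * v * y'⁻¹ ∈ V' :=
        (Subgroup.mem_normalizer_iff.1 (normalizer_le_omega M' (hTn' hyT')) v).1 hv
      have hc1 : Commute v (y' * v * y'⁻¹) := hv.2.2 _ (omega_le M' hyv)
      have hc2 : y' * y' * v = v * (y' * y') := (hv.2.2 _ hyy).eq.symm
      calc y' * v * y'⁻¹ * v * y' = v * (y' * v * y'⁻¹) * y' := by rw [hc1.eq]
        _ = v * (y' * v) := by group
        _ = (v * (y' * y')) * y'⁻¹ * v := by group
        _ = y' * (y' * v * y'⁻¹ * v) := by rw [← hc2]; group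
  by_cases hle : V' ≤ M
  · exfalso
    -- the commutator map is trivial
    have hVM : ∀ z ∈ Z, ∀ m ∈ M, Commute z m := fun z hz m hm => hz.1.2.2 m hm
    have hV'V : V' ≤ V := by
      intro v hv
      refine ⟨hle hv, hv.2.1, ?_⟩
      set c : G → G := fun m => m * v * m⁻¹ * v with hcd
      have hcZ : ∀ m ∈ M, c m ∈ Z := fun m hm => hcom v hv m (hMT hm)
      have hmul : ∀ m ∈ M, ∀ n ∈ M, c (m * n) = c n * c m := by
        intro m hm n hn
        calc c (m * n) = m * c n * m⁻¹ * (m * v⁻¹ * m⁻¹ * v) := by simp only [hcd]; group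
          _ = c n * c m := by
            rw [← (hVM _ (hcZ n hn) m hm).eq, inv_eq_of_mul_eq_one_right hv.2.1]
            simp only [hcd]; group
      set w := x * v * x⁻¹ with hw
      set w' := x * x * v * (x * x)⁻¹ with hw'
      have hx3 := h.cube h.mem
      have hxM := x_mem_normalizer s.max.1
      have hrel : v * w * w' = 1 := h.rel s.max.1 (hle hv)
      have hconj : ∀ m ∈ M, ∀ i : G, i ∈ Subgroup.normalizer (M : Set G) →
          m * (i * v * i⁻¹) * m⁻¹ * (i * v * i⁻¹) = i * c (i⁻¹ * m * i) * i⁻¹ := by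
        intro m hm i hi; simp only [hcd]; group
      have hxxN : x * x ∈ Subgroup.normalizer (M : Set G) := Subgroup.mul_mem _ hxM hxM
      have hback : ∀ m ∈ M, ∀ i : G, i ∈ Subgroup.normalizer (M : Set G) → i⁻¹ * m * i ∈ M := by
        intro m hm i hi
        simpa using (Subgroup.mem_normalizer_iff.1 (inv_mem hi) m).1 hm
      -- the relation transported to the commutators
      have key : ∀ m ∈ M, c m * (x * c (x⁻¹ * m * x) * x⁻¹) *
          (x * x * c ((x * x)⁻¹ * m * (x * x)) * (x * x)⁻¹) = 1 := by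
        intro m hm
        rw [← hconj m hm x hxM, ← hconj m hm (x * x) hxxN, ← hw, ← hw']
        have hwM : w ∈ M := s.max.1.inv v (hle hv)
        have hw'M : w' ∈ M := (Subgroup.mem_normalizer_iff.1 hxxN v).1 (hle hv)
        have hwV : m * w * m⁻¹ * w ∈ V := by
          rw [hw, hconj m hm x hxM]
          exact (Subgroup.mem_normalizer_iff.1 (normalizer_le_omega M hxM) _).1
            (hcZ _ (hback m hm x hxM)).1
        have hw'V : m * w' * m⁻¹ * w' ∈ V := by
          rw [hw', hconj m hm (x * x) hxxN]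
          exact (Subgroup.mem_normalizer_iff.1 (normalizer_le_omega M hxxN) _).1
            (hcZ _ (hback m hm _ hxxN)).1
        have hw'w' : w' * w' = 1 := by
          rw [hw', show x * x * v * (x * x)⁻¹ * (x * x * v * (x * x)⁻¹) =
            x * x * (v * v) * (x * x)⁻¹ by group, hv.2.1]
          group
        have hww : w * w = 1 := by
          rw [hw, show x * v * x⁻¹ * (x * v * x⁻¹) = x * (v * v) * x⁻¹ by group, hv.2.1]; group
        calc c m * (m * w * m⁻¹ * w) * (m * w' * m⁻¹ * w')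
            = m * v * m⁻¹ * (v * (m * w * m⁻¹ * w)) * (m * w' * m⁻¹ * w') := by simp only [hcd]; group
          _ = m * v * m⁻¹ * (m * w * m⁻¹ * w) * (v * (m * w' * m⁻¹ * w')) := by
              rw [(hwV.2.2 v (hle hv)).symm.eq]; group
          _ = m * v * m⁻¹ * (m * w * m⁻¹) * ((w * v) * (m * w' * m⁻¹ * w')) := by group
          _ = m * v * m⁻¹ * (m * w * m⁻¹) * ((m * w' * m⁻¹ * w') * (w * v)) := by
              rw [(hw'V.2.2 _ (M.mul_mem hwM (hle hv))).eq]
          _ = m * (v * w * w') * m⁻¹ * (w' * (w * v)) := by group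
          _ = 1 := by
              rw [hrel, mul_one, mul_inv_cancel, one_mul]
              have : w' = (v * w)⁻¹ := eq_inv_of_mul_eq_one_right hrel
              rw [this, mul_inv_rev, inv_eq_of_mul_eq_one_right hww,
                inv_eq_of_mul_eq_one_right hv.2.1]
              calc w * v * (w * v) = w * (v * w) * v := by group
                _ = w * (w * v) * v := by rw [(h.commute_conj s.max.1 (hle hv)).eq]
                _ = (w * w) * (v * v) := by group
                _ = 1 := by rw [hww, hv.2.1, one_mul]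
      have hinvariant : ∀ m ∈ M, c (x * m * x⁻¹) = c m := by
        intro m hm
        set e0 := c m
        set e1 := c (x⁻¹ * m * x)
        set e2 := c ((x * x)⁻¹ * m * (x * x))
        have r0 : e0 * (x * e1 * x⁻¹) * (x * x * e2 * (x * x)⁻¹) = 1 := key m hm
        have r2 : e2 * (x * e2 * x⁻¹) * (x * x * e2 * (x * x)⁻¹) = 1 :=
          h.rel (omega_facts h s.max.1 s.two s.ne).1 (hcZ _ (hback m hm _ hxxN)).1
        have heq : e2⁻¹ * e0 = x * (e2 * e1⁻¹) * x⁻¹ := by
          have := mul_right_cancel (r0.trans r2.symm)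
          calc e2⁻¹ * e0 = e2⁻¹ * (e0 * (x * e1 * x⁻¹)) * (x * e1 * x⁻¹)⁻¹ := by group
            _ = e2⁻¹ * (e2 * (x * e2 * x⁻¹)) * (x * e1 * x⁻¹)⁻¹ := by rw [this]
            _ = _ := by generalize e2 = u; generalize e1 = u'; group
        have z0 := hcZ m hm
        have z1 := hcZ _ (hback m hm x hxM)
        have z2 := hcZ _ (hback m hm _ hxxN)
        have h1 : e2⁻¹ * e0 = 1 := s.no_common h hy hy2 hyM
          (omega_le M (V.mul_mem (V.inv_mem z2.1) z0.1))
          ((zT _ z2 y hyT).inv_left.mul_left (zT _ z0 y hyT)) (by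
            rw [heq]
            exact ((zT _ z2 y hyT).mul_left (zT _ z1 y hyT).inv_left).map (MulAut.conj x).toMonoidHom)
        have h02 : e2 = e0 := inv_mul_eq_one.1 h1
        rw [← h02]
        show c (x * m * x⁻¹) = c ((x * x)⁻¹ * m * (x * x))
        rw [show (x * x)⁻¹ = x from inv_eq_of_mul_eq_one_left (by rw [← mul_assoc]; exact hx3),
          show x⁻¹ = x * x from inv_eq_of_mul_eq_one_left hx3]
      intro m hm
      obtain ⟨n, hn, rfl⟩ := exists_preimage s.max.1.inv (fun k hk hc => h.fpf s.max.1 hk hc) hm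
      have hone : c (n⁻¹ * (x * n * x⁻¹)) = 1 := by
        rw [hmul _ (M.inv_mem hn) _ (s.max.1.inv n hn), hinvariant n hn, ← hmul _ (M.inv_mem hn) _ hn,
          inv_mul_cancel]
        simp only [hcd]; rw [inv_one, mul_one, one_mul, hv.2.1]
      set m := n⁻¹ * (x * n * x⁻¹) with hmd
      have : m * v * m⁻¹ = v := by
        have := mul_left_cancel ((hone : m * v * m⁻¹ * v = 1).trans
          (show (1 : G) = (m * v * m⁻¹) * (m * v * m⁻¹) by
            rw [show m * v * m⁻¹ * (m * v * m⁻¹) = m * (v * v) * m⁻¹ by group, hv.2.1]; group))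
        exact this.symm
      exact (mul_inv_eq_iff_eq_mul.1 this).symm
    have hVeq : V' = V := Subgroup.eq_of_le_of_card_ge hV'V hVV.le
    have hM'M : M' ≤ M := by
      intro m hm
      by_contra hmM
      refine (omega_facts h s.max.1 s.two s.ne).2.1 ((Subgroup.eq_bot_iff_forall _).2 fun v hv => ?_)
      rw [← hV] at hv
      have hvV' : v ∈ V' := hVeq.symm ▸ hv
      have hcm : Commute v m := hvV'.2.2 m hm
      have hmy : y⁻¹ * m ∈ M := hquot y hyT m (hM'T hm) hyM hmM
      have hvy : Commute v y := by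
        have := hcm.mul_right (hv.2.2 _ hmy).inv_right
        rwa [show m * (y⁻¹ * m)⁻¹ = y by group] at this
      have hxv : x * v * x⁻¹ ∈ V := (omega_facts h s.max.1 s.two s.ne).1.inv v hv
      have hxx : x * x * v * (x * x)⁻¹ ∈ V' := hVeq.symm ▸ (by
        rw [show x * x * v * (x * x)⁻¹ = x * (x * v * x⁻¹) * x⁻¹ by group]
        exact (omega_facts h s.max.1 s.two s.ne).1.inv _ hxv)
      have hc2 : Commute (x * x * v * (x * x)⁻¹) y := by
        have hm2 := (hxx.2.2 m hm).mul_right ((hVeq ▸ hxx : _ ∈ V).2.2 _ hmy).inv_right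
        rwa [show m * (y⁻¹ * m)⁻¹ = y by group] at hm2
      have := hc2.map (MulAut.conj x).toMonoidHom
      have e : x * (x * x * v * (x * x)⁻¹) * x⁻¹ = v := by
        calc x * (x * x * v * (x * x)⁻¹) * x⁻¹ = (x * x * x) * v * (x * x * x)⁻¹ := by group
          _ = v := by rw [h.cube h.mem]; group
      simp only [MulEquiv.coe_toMonoidHom, MulAut.conj_apply, e] at this
      exact s.no_common h hy hy2 hyM hv.1 hvy this
    exact hne (Subgroup.eq_of_le_of_card_ge hM'M (by omega)).symm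
  · -- the second group meets the complement
    obtain ⟨v, hv, hvM⟩ := Set.not_subset.1 hle
    have hvT : v ∈ T := hM'T hv.1
    have hvf := s.card_fix h (hTn hvT) hv.2.1 hvM
    set C := M ⊓ Subgroup.centralizer ({v} : Set G) with hC
    have hcz : ∀ m : M, (m : G) * v * (m : G)⁻¹ * v ∈ Z := fun m => hcom v hv m (hMT m.2)
    let f : M →* Z := MonoidHom.mk' (fun m => ⟨_, hcz m⟩) fun m n => Subtype.ext (by
      show ((m : G) * n) * v * ((m : G) * n)⁻¹ * v = (m : G) * v * (m : G)⁻¹ * v * (n * v * (n : G)⁻¹ * v)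
      have hc1 : Commute ((n : G) * v * (n : G)⁻¹ * v) ((m : G) * v * (m : G)⁻¹ * v) :=
        (hcz n).1.2.2 _ (omega_le M (hcz m).1)
      have hc2 : Commute ((n : G) * v * (n : G)⁻¹ * v) m := (hcz n).1.2.2 _ m.2
      rw [← hc1.eq]
      calc (m : G) * n * v * ((m : G) * n)⁻¹ * v
          = (m : G) * ((n : G) * v * (n : G)⁻¹ * v) * v⁻¹ * (m : G)⁻¹ * v := by group
        _ = ((n : G) * v * (n : G)⁻¹ * v) * (m * v⁻¹ * (m : G)⁻¹ * v) := by rw [← hc2.eq]; group
        _ = _ := by rw [inv_eq_of_mul_eq_one_right hv.2.1])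
    have hk : f.ker ≤ C.subgroupOf M := by
      intro m hm
      have e : (m : G) * v * (m : G)⁻¹ * v = 1 := congrArg Subtype.val (MonoidHom.mem_ker.1 hm)
      have e' : (m : G) * v * (m : G)⁻¹ = v := mul_right_cancel (e.trans hv.2.1.symm)
      exact Subgroup.mem_subgroupOf.2 ⟨m.2, Subgroup.mem_centralizer_singleton_iff.2
        (mul_inv_eq_iff_eq_mul.1 e')⟩
    have hle' : Nat.card M ≤ Nat.card C * Nat.card Z := by
      rw [← f.ker.card_mul_index, Subgroup.index_ker]
      refine Nat.mul_le_mul ?_ (Subgroup.card_le_card_group _)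
      rw [← card_subgroupOf (inf_le_left : C ≤ M)]
      exact Subgroup.card_le_of_le hk
    have hVM : V = M := by
      refine Subgroup.eq_of_le_of_card_ge (omega_le M) ?_
      rw [← hcard, ← hV, ← hZ]
      by_contra hlt
      push Not at hlt
      rw [← hvf] at hlt hle'
      have h1 : Nat.card Z < Nat.card C := lt_of_pow_lt_pow_left₀ 2 (Nat.zero_le _) hlt
      rw [pow_two] at hle'
      have := Nat.le_of_mul_le_mul_left hle' Nat.card_pos
      omega
    have hV'M : V' = M' := by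
      refine Subgroup.eq_of_le_of_card_ge (omega_le M') (le_of_eq ?_)
      rw [← hVV, hVM]
      omega
    have hint : M ⊓ M' ≤ Z := by
      intro z hz
      rw [← hVM, ← hV'M] at hz
      refine zmem z hz.1.2.1 fun t ht => ?_
      by_cases htM : t ∈ M
      · exact hz.1.2.2 t htM
      · have hvt := hquot v hvT t ht hvM htM
        rw [show t = v * (v⁻¹ * t) by group]
        exact Commute.mul_right (hz.2.2.2 v hv.1) (hz.1.2.2 _ hvt)
    have hhalf : Nat.card M ≤ 2 * Nat.card ↥(M ⊓ M') := by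
      have hr : (M'.subgroupOf T).relIndex (M.subgroupOf T) ∣ (M'.subgroupOf T).index := by
        haveI : (M'.subgroupOf T).Normal := normal_subgroupOf_le hTn'
        exact Subgroup.relIndex_dvd_index_of_normal _ _
      have hidx' : (M'.subgroupOf T).index = 2 := by
        have := (M'.subgroupOf T).card_mul_index
        rw [card_subgroupOf hM'T, hc', mul_comm 2] at this
        exact Nat.eq_of_mul_eq_mul_left Nat.card_pos this
      rw [hidx', Subgroup.relIndex_subgroupOf hMT] at hr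
      have h2 := Nat.le_of_dvd (by norm_num) hr
      have := (M'.subgroupOf M).card_mul_index
      rw [show (M'.subgroupOf M).index = M'.relIndex M from rfl, ← Subgroup.inf_subgroupOf_left M' M, card_subgroupOf (inf_le_left : M ⊓ M' ≤ M)] at this
      rw [← this, mul_comm 2]
      exact Nat.mul_le_mul_left _ h2
    have h1 := Subgroup.card_le_of_le hint
    have h4 := (omega_facts h s.max.1 s.two s.ne).2.2
    rw [← hV, hVM] at h4
    rw [← hV, ← hZ, hVM] at hcard
    have hZ2 : Nat.card Z ≤ 2 := by nlinarith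
    nlinarith

/-- Maximal invariant non-trivial two-subgroups. -/
structure Two (x : G) (M : Subgroup G) : Prop where
  max : MaxI x M
  two : IsPGroup 2 M
  ne : M ≠ ⊥

theorem Six.toTwo {M : Subgroup G} (s : Six x M) : Two x M := ⟨s.max, s.two, s.ne⟩

theorem Two.conj {M : Subgroup G} (s : Two x M) (g : G) : Two (g * x * g⁻¹) (cj g M) :=
  ⟨maxI_conj s.max g, s.two.map _, fun e => s.ne (Subgroup.card_eq_one.1
    ((card_cj g M).symm.trans (Subgroup.card_eq_one.2 e)))⟩

theorem Two.exists_pow_card (h : Hyp R x) {M : Subgroup G} (s : Two x M) :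
    ∃ n, Nat.card M = 2 ^ n ∧ Nat.card M % 3 = 1 ∧ 4 ≤ Nat.card M := by
  obtain ⟨n, hn⟩ := pow_card M s.two
  exact ⟨n, hn, h.card_mod s.max.1,
    (omega_facts h s.max.1 s.two s.ne).2.2.trans (Subgroup.card_le_of_le (omega_le M))⟩

variable {q a b : ℕ}

theorem sylow_card (h : Ctx R x q a b) (P : Sylow 2 G) : Nat.card (P : Subgroup G) = 2 ^ a := by
  haveI : Fact (Nat.Prime 2) := ⟨Nat.prime_two⟩
  refine SimpleOrder.sylow_card_of_eq (m := 9 * q ^ b) (by rw [h.card]; ring) (fun hd => ?_) P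
  rcases (Nat.Prime.dvd_mul Nat.prime_two).1 hd with e | e
  · norm_num at e
  · exact h.ne_two ((Nat.prime_dvd_prime_iff_eq Nat.prime_two h.prime).1
      (Nat.prime_two.dvd_of_dvd_pow e)).symm

theorem cj_le_sylow {K : Subgroup G} (hK : IsPGroup 2 K) (P : Sylow 2 G) :
    ∃ g : G, cj g K ≤ (P : Subgroup G) := by
  haveI : Fact (Nat.Prime 2) := ⟨Nat.prime_two⟩
  obtain ⟨Q, hQ⟩ := hK.exists_le_sylow
  obtain ⟨g, hg⟩ := MulAction.exists_smul_eq G Q P
  refine ⟨g, ?_⟩
  rw [← hg, Sylow.coe_subgroup_smul]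
  rintro _ ⟨k, hk, rfl⟩
  exact Subgroup.smul_mem_pointwise_smul k (MulAut.conj g) (Q : Subgroup G) (hQ hk)

theorem two_part_le {H M L : Subgroup G} (hc : Nat.card H = 6 * Nat.card M) (hM : IsPGroup 2 M)
    (hL : IsPGroup 2 L) (hLH : L ≤ H) : Nat.card L ≤ 2 * Nat.card M := by
  obtain ⟨k, hk⟩ := pow_card M hM
  obtain ⟨l, hl⟩ := pow_card L hL
  have hd := Subgroup.card_dvd_of_le hLH
  rw [hc, hl, hk, show 6 * 2 ^ k = 3 * (2 * 2 ^ k) by ring] at hd
  have := (Nat.Coprime.pow_left l (by norm_num : Nat.Coprime 2 3)).dvd_of_dvd_mul_left hd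
  rw [hl, hk]
  exact Nat.le_of_dvd (by positivity) this

theorem Six.overgroup {M : Subgroup G} (s : Six x M) :
    ∃ T : Subgroup G, IsPGroup 2 T ∧ M ≤ T ∧ T ≤ Subgroup.normalizer (M : Set G) ∧
      Nat.card T = 2 * Nat.card M := by
  haveI : Fact (Nat.Prime 2) := ⟨Nat.prime_two⟩
  set H := Subgroup.normalizer (M : Set G) with hH
  obtain ⟨k, hk⟩ := pow_card M s.two
  have hp : IsPGroup 2 (M.subgroupOf H) :=
    IsPGroup.of_card (n := k) (by rw [card_subgroupOf Subgroup.le_normalizer, hk])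
  obtain ⟨S, hS⟩ := hp.exists_le_sylow
  refine ⟨(S : Subgroup H).map H.subtype, S.isPGroup'.map _, fun m hm =>
    ⟨⟨m, Subgroup.le_normalizer hm⟩, hS (Subgroup.mem_subgroupOf.2 hm), rfl⟩,
    Subgroup.map_subtype_le _, ?_⟩
  rw [Subgroup.card_map_of_injective H.subtype_injective,
    SimpleOrder.sylow_card_of_eq (k := k + 1) (m := 3) (by rw [s.card, hk]; ring) (by norm_num) S, hk]
  ring

theorem type_cases (h : Ctx R x q a b) {M : Subgroup G} (s : Two x M) :
    (Nat.card (Subgroup.normalizer (M : Set G)) = 3 * Nat.card M ∧ Nat.card M = 2 ^ a) ∨ Six x M := by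
  haveI : Fact (Nat.Prime 2) := ⟨Nat.prime_two⟩
  rcases (h.hyp.maxI_small s.max s.ne).card with e | e
  · refine Or.inl ⟨e, ?_⟩
    obtain ⟨P, hP⟩ := s.two.exists_le_sylow
    rcases hP.lt_or_eq with hlt | heq
    · exfalso
      haveI : Group.IsNilpotent (P : Subgroup G) := P.isPGroup'.isNilpotent
      have hlt' := lt_inf_normalizer hlt
      obtain ⟨l, hl⟩ := pow_card _ (P.isPGroup'.to_le (inf_le_left :
        (P : Subgroup G) ⊓ Subgroup.normalizer (M : Set G) ≤ P))
      have hd := Subgroup.card_dvd_of_le (inf_le_right :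
        (P : Subgroup G) ⊓ Subgroup.normalizer (M : Set G) ≤ _)
      rw [e, hl] at hd
      have hd' := (Nat.Coprime.pow_left l (by norm_num : Nat.Coprime 2 3)).dvd_of_dvd_mul_left hd
      exact hlt'.ne (Subgroup.eq_of_le_of_card_ge hlt'.le (hl ▸ Nat.le_of_dvd Nat.card_pos hd'))
    · rw [heq, sylow_card h P]
  · exact Or.inr ⟨s.max, s.two, s.ne, e⟩

theorem six_big (h : Ctx R x q a b) {M : Subgroup G} (s : Six x M) (hbig : Nat.card M ≠ 4) :
    2 * Nat.card M = 2 ^ a ∧
      ∃ P : Sylow 2 G, M ≤ (P : Subgroup G) ∧ (P : Subgroup G) ≤ Subgroup.normalizer (M : Set G) := by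
  haveI : Fact (Nat.Prime 2) := ⟨Nat.prime_two⟩
  obtain ⟨T, hT, hMT, hTn, hTc⟩ := s.overgroup
  obtain ⟨P, hP⟩ := hT.exists_le_sylow
  suffices e : T = (P : Subgroup G) by
    exact ⟨by rw [← hTc, e, sylow_card h P], P, e ▸ hMT, e ▸ hTn⟩
  by_contra hne
  have hlt : T < (P : Subgroup G) := lt_of_le_of_ne hP hne
  haveI : Group.IsNilpotent (P : Subgroup G) := P.isPGroup'.isNilpotent
  obtain ⟨t, ⟨htP, htn⟩, htT⟩ := SetLike.exists_of_lt (lt_inf_normalizer hlt)
  have htM : cj t M ≠ M := by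
    intro e
    rw [cj_eq_self_iff] at e
    have hT' : T ⊔ Subgroup.zpowers t ≤ (P : Subgroup G) := sup_le hP (Subgroup.zpowers_le.2 htP)
    have hle := two_part_le s.card s.two (P.isPGroup'.to_le hT')
      (sup_le hTn (Subgroup.zpowers_le.2 e))
    have := Subgroup.eq_of_le_of_card_ge (le_sup_left : T ≤ T ⊔ Subgroup.zpowers t) (by omega)
    exact htT (this ▸ Subgroup.mem_sup_right (Subgroup.mem_zpowers t))
  have hTt : cj t T = T := cj_eq_self_iff.2 htn
  refine hbig (index_two h.hyp (hyp_conj h.hyp t) s (s.conj t) hT hMT ?_ hTn ?_ hTc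
    (by rw [card_cj]; exact hTc) (Ne.symm htM))
  · rw [← hTt]; exact Subgroup.map_mono hMT
  · rw [normalizer_cj, ← hTt]; exact Subgroup.map_mono hTn

theorem four_elem (h : Hyp R x) {K : Subgroup G} (s : Two x K) (h4 : Nat.card K = 4) :
    omega K = K :=
  Subgroup.eq_of_le_of_card_ge (omega_le K) (h4 ▸ (omega_facts h s.max.1 s.two s.ne).2.2)

theorem not_le_big {R' : Subgroup G} {x' : G} (h : Hyp R x) (h' : Hyp R' x') {M K : Subgroup G}
    (s : Two x M) (s' : Two x' K) (h4 : Nat.card K = 4) (hbig : Nat.card M ≠ 4) : ¬ K ≤ M := by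
  intro hle
  obtain ⟨-, -, -, hM4⟩ := s.exists_pow_card h
  have h1 : omega M ≤ K := fun v hv => centralizer_le h' s'.max s'.ne
    (Subgroup.mem_centralizer_iff.2 fun k hk => (hv.2.2 k (hle hk)).symm)
  have h2 : omega M = K := Subgroup.eq_of_le_of_card_ge h1 (h4 ▸ (omega_facts h s.max.1 s.two s.ne).2.2)
  have h3 : M ≤ K := fun m hm => centralizer_le h' s'.max s'.ne
    (Subgroup.mem_centralizer_iff.2 fun k hk => (h2.symm ▸ hk : k ∈ omega M).2.2 m hm)
  have := Subgroup.card_le_of_le h3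
  omega

/-- A central involution of a Sylow subgroup. -/
theorem exists_central (h : Ctx R x q a b) (P : Sylow 2 G) :
    ∃ z ∈ (P : Subgroup G), z ≠ 1 ∧ z * z = 1 ∧ ∀ s ∈ (P : Subgroup G), Commute z s := by
  haveI : Fact (Nat.Prime 2) := ⟨Nat.prime_two⟩
  haveI : Nontrivial (P : Subgroup G) := Finite.one_lt_card_iff_nontrivial.1 (by
    rw [sylow_card h P]; exact Nat.one_lt_pow (by have := h.three_le; omega) (by norm_num))
  haveI := P.isPGroup'.center_nontrivial
  obtain ⟨n, hn⟩ := IsPGroup.iff_card.1 (P.isPGroup'.to_subgroup (Subgroup.center (P : Subgroup G)))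
  have h1 : 1 < Nat.card (Subgroup.center (P : Subgroup G)) := Finite.one_lt_card
  obtain ⟨z, hz⟩ := exists_prime_orderOf_dvd_card' (G := Subgroup.center (P : Subgroup G)) 2 (by
    rw [hn] at h1 ⊢
    exact dvd_pow_self 2 (fun e => by rw [e, pow_zero] at h1; omega))
  rw [← Subgroup.orderOf_coe, ← Subgroup.orderOf_coe] at hz
  refine ⟨_, z.1.2, fun e => by rw [e, orderOf_one] at hz; omega,
    by rw [← pow_two]; exact orderOf_dvd_iff_pow_eq_one.1 (dvd_of_eq hz),
    fun s hs => (congrArg Subtype.val (Subgroup.mem_center_iff.1 z.2 ⟨s, hs⟩)).symm⟩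

theorem six_four_not {R' : Subgroup G} {x' : G} (h : Hyp R x) (h' : Hyp R' x') {M K S : Subgroup G}
    (s : Six x M) (s' : Two x' K) (h4 : Nat.card K = 4) (hbig : Nat.card M ≠ 4) (hMS : M ≤ S)
    (hSn : S ≤ Subgroup.normalizer (M : Set G)) (hKS : K ≤ S) {z : G} (hz1 : z ≠ 1)
    (hzS : ∀ t ∈ S, Commute z t) : False := by
  obtain ⟨-, -, -, hM4⟩ := s.toTwo.exists_pow_card h
  obtain ⟨y, hyK, hyM⟩ := Set.not_subset.1 (not_le_big h h' s.toTwo s' h4 hbig)
  have hy2 : y * y = 1 := (show y ∈ omega K by rw [four_elem h' s' h4]; exact hyK).2.1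
  have hf := s.card_fix h (hSn (hKS hyK)) hy2 hyM
  have hzK : z ∈ K := central_mem h' s'.max s'.ne hKS hzS
  have hzM : z ∈ M := central_mem h s.max s.ne hMS hzS
  have hle : M ⊓ Subgroup.centralizer ({y} : Set G) ≤ M ⊓ K := by
    rintro c ⟨hcM, hcy⟩
    refine ⟨hcM, centralizer_le h' s'.max s'.ne (Subgroup.mem_centralizer_iff.2 fun k hk => ?_)⟩
    set L := K ⊓ Subgroup.centralizer ({c} : Set G) with hL
    have hyL : y ∈ L := ⟨hyK, Subgroup.mem_centralizer_singleton_iff.2
      (Subgroup.mem_centralizer_singleton_iff.1 hcy).symm⟩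
    have hzL : z ∈ L := ⟨hzK, Subgroup.mem_centralizer_singleton_iff.2 (hzS c (hMS hcM)).eq⟩
    have hLK : L = K := by
      refine Subgroup.eq_of_le_of_card_ge inf_le_left ?_
      classical
      haveI := Fintype.ofFinite G
      have h3 : ({1, y, z} : Finset G).card ≤ Nat.card L := by
        rw [Nat.card_eq_fintype_card, Fintype.card_subtype]
        refine Finset.card_le_card fun u hu => ?_
        simp only [Finset.mem_insert, Finset.mem_singleton] at hu
        rcases hu with rfl | rfl | rfl <;> simp [L.one_mem, hyL, hzL]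
      rw [Finset.card_insert_of_notMem (by
        simp only [Finset.mem_insert, Finset.mem_singleton, not_or]
        exact ⟨fun e => hyM (e ▸ M.one_mem), fun e => hz1 e.symm⟩),
        Finset.card_pair (fun e => hyM (by rw [e]; exact hzM))] at h3
      obtain ⟨l, hl⟩ := pow_card L (s'.two.to_le inf_le_left)
      have hl' := Subgroup.card_dvd_of_le (inf_le_left : L ≤ K)
      rw [h4] at hl' ⊢
      have key : ∀ d ∈ Nat.divisors 4, 3 ≤ d → 4 ≤ d := by decide
      exact key _ (Nat.mem_divisors.2 ⟨hl', by norm_num⟩) h3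
    exact (Subgroup.mem_centralizer_singleton_iff.1 (hLK.symm ▸ hk : k ∈ L).2)
  have h2 : Nat.card ↥(M ⊓ K) ≤ 2 := by
    have hl' := Subgroup.card_dvd_of_le (inf_le_right : M ⊓ K ≤ K)
    rw [h4] at hl'
    by_contra hgt
    have key : ∀ d ∈ Nat.divisors 4, ¬ d ≤ 2 → d = 4 := by decide
    have he := key _ (Nat.mem_divisors.2 ⟨hl', by norm_num⟩) hgt
    have := Subgroup.eq_of_le_of_card_ge (inf_le_right : M ⊓ K ≤ K) (by omega)
    exact hyM (Subgroup.mem_inf.1 (this.symm ▸ hyK : y ∈ M ⊓ K)).1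
  have h5 := (Subgroup.card_le_of_le hle).trans h2
  have := Nat.pow_le_pow_left h5 2
  omega

/-- A large maximal invariant two-subgroup determines all of them. -/
theorem all_conj (h : Ctx R x q a b) {M K : Subgroup G} (s : Two x M) (hbig : Nat.card M ≠ 4)
    (t : Two x K) :
    ∃ c ∈ Subgroup.normalizer (Subgroup.zpowers x : Set G), K = cj c M := by
  haveI : Fact (Nat.Prime 2) := ⟨Nat.prime_two⟩
  suffices hg : ∃ g, K = cj g M by
    obtain ⟨g, rfl⟩ := hg
    exact h.hyp.exists_norm_conj (h.hyp.maxI_small s.max s.ne).not_nine (x_mem_normalizer s.max.1)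
      (x_mem_normalizer t.max.1)
  have ht := h.hyp
  obtain ⟨n, hn, hM3, hM4⟩ := s.exists_pow_card h.hyp
  obtain ⟨k, hk, hK3, hK4⟩ := t.exists_pow_card h.hyp
  rcases type_cases h s with ⟨-, hMS⟩ | s6
  · obtain ⟨P, hP⟩ := s.two.exists_le_sylow
    have hPM : M = (P : Subgroup G) := Subgroup.eq_of_le_of_card_ge hP (by rw [sylow_card h P, hMS])
    obtain ⟨g, hg⟩ := cj_le_sylow t.two P
    rw [← hPM] at hg
    rcases type_cases h t with ⟨-, hKS⟩ | t6
    · refine ⟨g⁻¹, ?_⟩
      rw [← Subgroup.eq_of_le_of_card_ge hg (by rw [card_cj, hKS, hMS]), ← cj_mul, inv_mul_cancel, cj_one]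
    · rcases eq_or_ne (Nat.card K) 4 with e | e
      · exact absurd hg (not_le_big h.hyp (hyp_conj h.hyp g) s (t.conj g) ((card_cj g K).trans e) hbig)
      · have := (six_big h t6 e).1
        omega
  · obtain ⟨hMS, P, hMP, hPn⟩ := six_big h s6 hbig
    rcases type_cases h t with ⟨-, hKS⟩ | t6
    · omega
    rcases eq_or_ne (Nat.card K) 4 with e | e
    · obtain ⟨g, hg⟩ := cj_le_sylow t.two P
      obtain ⟨z, -, hz1, -, hzc⟩ := exists_central h P
      exact (six_four_not h.hyp (hyp_conj h.hyp g) s6 (t.conj g) ((card_cj g K).trans e) hbig hMP hPn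
        hg hz1 hzc).elim
    · obtain ⟨hKS, Q, hKQ, hQn⟩ := six_big h t6 e
      obtain ⟨g, hg⟩ := MulAction.exists_smul_eq G Q P
      have hQP : cj g (Q : Subgroup G) = P := by rw [← hg, Sylow.coe_subgroup_smul]; rfl
      refine ⟨g⁻¹, ?_⟩
      by_contra hne
      refine hbig (index_two h.hyp (hyp_conj h.hyp g) s6 (t6.conj g) P.isPGroup' hMP ?_ hPn ?_
        (by rw [sylow_card h P, hMS]) (by rw [sylow_card h P, card_cj, hKS]) fun e' => hne ?_)
      · rw [← hQP]; exact Subgroup.map_mono hKQ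
      · rw [normalizer_cj, ← hQP]; exact Subgroup.map_mono hQn
      · rw [e', ← cj_mul, inv_mul_cancel, cj_one]

/-- The contribution of a large class. -/
theorem card_Wp_big (h : Ctx R x q a b) {M : Subgroup G} (s : Two x M) (hbig : Nat.card M ≠ 4)
    (hd : ∀ K L, MaxI x K → MaxI x L → IsPGroup 2 K → IsPGroup 2 L → K ≠ L → K ⊓ L = ⊥) :
    (a % 2 = 0 ∧ Nat.card (Wp x 2) = 6 * (2 ^ a - 1)) ∨
      (a % 2 = 1 ∧ Nat.card (Wp x 2) = 3 * (2 ^ (a - 1) - 1)) := by
  haveI : Fact (Nat.Prime 2) := ⟨Nat.prime_two⟩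
  have hW := h.card_Wp s.max s.two (fun K hK hKp hK1 => all_conj h s hbig ⟨hK, hKp, hK1⟩) hd
  have hS := h.hyp.maxI_small s.max s.ne
  have hxM := x_mem_normalizer s.max.1
  have hn := h.hyp.card_norm_in hxM (h.hyp.sc s.max.1 s.ne le_rfl hxM) hS.not_nine
  obtain ⟨n, hn2, hM3, -⟩ := s.exists_pow_card h.hyp
  have hpar : ∀ m : ℕ, 2 ^ m % 3 = if m % 2 = 0 then 1 else 2 := by
    intro m
    induction m with
    | zero => rfl
    | succ m ih => rw [pow_succ, Nat.mul_mod, ih]; split_ifs <;> omega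
  have ha := h.three_le
  rcases type_cases h s with ⟨e, hMS⟩ | s6
  · left
    have h3 := hpar a
    rcases hn with ⟨hc, -⟩ | ⟨-, hc, -⟩
    · rw [hc, hMS] at hW
      refine ⟨?_, by omega⟩
      rw [hMS] at hM3
      split_ifs at h3 <;> omega
    · rw [e] at hc; omega
  · right
    have h3 := hpar (a - 1)
    have hMS := (six_big h s6 hbig).1
    have e2 : 2 ^ a = 2 * 2 ^ (a - 1) := by rw [← pow_succ']; congr 1; omega
    rcases hn with ⟨-, hc⟩ | ⟨hc, -, -⟩
    · rw [s6.card] at hc; omega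
    · rw [hc, show Nat.card M = 2 ^ (a - 1) by omega] at hW
      refine ⟨?_, by omega⟩
      split_ifs at h3 <;> omega

theorem four_six (h : Ctx R x q a b) {M : Subgroup G} (s : Two x M) (h4 : Nat.card M = 4) : Six x M := by
  rcases type_cases h s with ⟨-, e⟩ | e
  · have := Nat.pow_le_pow_right (by norm_num : 0 < 2) h.three_le
    omega
  · exact e

/-- There are at most nine small maximal invariant two-subgroups. -/
theorem card_fours (h : Ctx R x q a b) (hall : ∀ M, Two x M → Nat.card M = 4) :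
    Nat.card {M : Subgroup G // Two x M} % 3 = 0 ∧ Nat.card {M : Subgroup G // Two x M} < 12 := by
  classical
  haveI := Fintype.ofFinite G
  haveI := Fintype.ofFinite (Subgroup G)
  haveI : Fact (Nat.Prime 2) := ⟨Nat.prime_two⟩
  set NX := Subgroup.normalizer (Subgroup.zpowers x : Set G) with hNX
  have stab : ∀ {M}, Two x M → ∀ {c}, c ∈ NX → Two x (cj c M) := fun {M} s {c} hc =>
    ⟨maxI_cj h.hyp s.max hc, s.two.map _, fun e => s.ne (Subgroup.card_eq_one.1
      ((card_cj c M).symm.trans (Subgroup.card_eq_one.2 e)))⟩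
  refine ⟨?_, ?_⟩
  · -- free action of the Sylow subgroup
    obtain ⟨r, hrR, hrx⟩ : ∃ r ∈ R, r ∉ Subgroup.zpowers x := SetLike.exists_of_lt (lt_of_card
      (Subgroup.zpowers_le.2 h.hyp.mem) (by rw [Nat.card_zpowers, h.hyp.ord, h.hyp.conf.card]; norm_num))
    have hrN : r ∈ NX := mem_normalizer_of_invariant fun k hk => by
      rw [h.hyp.conf.comm r hrR k ((Subgroup.zpowers_le.2 h.hyp.mem) hk), mul_inv_cancel_right]
      exact hk
    let f : Function.End {M : Subgroup G // Two x M} := fun M => ⟨cj r M.1, stab M.2 hrN⟩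
    have hf : f ^ 3 ^ 1 = 1 := by
      funext M
      apply Subtype.ext
      show cj r (cj r (cj r M.1)) = M.1
      rw [← cj_mul, ← cj_mul, h.hyp.cube hrR, cj_one]
    haveI : Fact (Nat.Prime 3) := ⟨Nat.prime_three⟩
    have := Equiv.Perm.card_fixedPoints_modEq hf
    have h0 : Fintype.card f.fixedPoints = 0 := by
      rw [Fintype.card_eq_zero_iff]
      exact ⟨fun M => hrx (h.hyp.mem_zpowers_of_normalizes M.1.2.max.1 M.1.2.ne hrR
        (cj_eq_self_iff.1 (congrArg Subtype.val M.2)))⟩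
    rw [h0, ← Nat.card_eq_fintype_card] at this
    exact this
  · obtain ⟨P⟩ : Nonempty (Sylow 2 G) := inferInstance
    obtain ⟨z, hzP, hz1, hz2, hzc⟩ := exists_central h P
    have pick : ∀ M : {M : Subgroup G // Two x M}, ∃ g y, cj g M.1 ≤ (P : Subgroup G) ∧ y ∈ cj g M.1 ∧
        y ≠ 1 ∧ y ≠ z := by
      intro M
      obtain ⟨g, hg⟩ := cj_le_sylow M.2.two P
      by_contra hno
      push Not at hno
      have : (Finset.univ.filter fun u => u ∈ cj g M.1) ⊆ {1, z} := fun u hu => by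
        simp only [Finset.mem_filter, Finset.mem_univ, true_and] at hu
        simp only [Finset.mem_insert, Finset.mem_singleton]
        by_cases e : u = 1
        · exact Or.inl e
        · exact Or.inr (hno g u hg hu e)
      have h4 := Finset.card_le_card this
      rw [← Fintype.card_subtype, ← Nat.card_eq_fintype_card, card_cj, hall _ M.2] at h4
      have := h4.trans Finset.card_le_two
      omega
    choose g y hgP hy hy1 hyz using pick
    have hzM : ∀ M : {M : Subgroup G // Two x M}, z ∈ cj (g M) M.1 := fun M =>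
      central_mem (hyp_conj h.hyp (g M)) (M.2.conj (g M)).max (M.2.conj (g M)).ne (hgP M) hzc
    have hgen : ∀ (L : Subgroup G) (u : G), Nat.card L = 4 → z ∈ L → u ∈ L → u ≠ 1 → u ≠ z →
        ∀ L' : Subgroup G, z ∈ L' → u ∈ L' → L ≤ L' := by
      intro L u h4 hzL huL hu1 huz L' hzL' huL'
      have hd := Subgroup.card_dvd_of_le (inf_le_left : L ⊓ L' ≤ L)
      rw [h4] at hd
      have h3 : ({1, u, z} : Finset G).card ≤ Nat.card ↥(L ⊓ L') := by
        rw [Nat.card_eq_fintype_card, Fintype.card_subtype]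
        refine Finset.card_le_card fun v hv => ?_
        simp only [Finset.mem_insert, Finset.mem_singleton] at hv
        rcases hv with rfl | rfl | rfl <;> simp [Subgroup.mem_inf, L.one_mem, L'.one_mem, huL, huL', hzL, hzL']
      rw [Finset.card_insert_of_notMem (by simp [Ne.symm hu1, Ne.symm hz1]), Finset.card_pair huz] at h3
      have key : ∀ d ∈ Nat.divisors 4, 3 ≤ d → d = 4 := by decide
      have e := key _ (Nat.mem_divisors.2 ⟨hd, by norm_num⟩) h3
      exact (Subgroup.eq_of_le_of_card_ge (inf_le_left : L ⊓ L' ≤ L) (by omega)).symm.le.trans inf_le_right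
    let O : {M : Subgroup G // Two x M} → Finset G := fun M =>
      ((Finset.univ.filter fun s => s ∈ (P : Subgroup G)).image fun s => s * y M * s⁻¹)
    have hO : ∀ M, (O M).card * 4 = 2 ^ a := by
      intro M
      rw [← sylow_card h P, Nat.card_eq_fintype_card, Fintype.card_subtype,
        Finset.card_eq_sum_card_image (fun s => s * y M * s⁻¹) (Finset.univ.filter fun s => s ∈ (P : Subgroup G)),
        Finset.sum_const_nat (m := 4)]
      intro v hv
      obtain ⟨s, hs, rfl⟩ := Finset.mem_image.1 hv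
      simp only [Finset.mem_filter, Finset.mem_univ, true_and] at hs
      have hKc : Nat.card (cj (g M) M.1) = 4 := (card_cj _ _).trans (hall _ M.2)
      rw [← hKc, Nat.card_eq_fintype_card, Fintype.card_subtype]
      refine Finset.card_bij' (fun t _ => s⁻¹ * t) (fun k _ => s * k) ?_ ?_ ?_ ?_
      · intro t ht
        simp only [Finset.mem_filter, Finset.mem_univ, true_and] at ht ⊢
        set c := s⁻¹ * t
        have hcy : Commute c (y M) := by
          show s⁻¹ * t * y M = y M * (s⁻¹ * t)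
          calc s⁻¹ * t * y M = s⁻¹ * (t * y M * t⁻¹) * t := by group
            _ = _ := by rw [ht.2]; group
        refine centralizer_le (hyp_conj h.hyp (g M)) (M.2.conj (g M)).max (M.2.conj (g M)).ne
          (Subgroup.mem_centralizer_iff.2 fun k hk => ?_)
        have := hgen _ (y M) hKc (hzM M) (hy M) (hy1 M) (hyz M) (Subgroup.centralizer ({c} : Set G))
          (Subgroup.mem_centralizer_singleton_iff.2
            (hzc c (Subgroup.mul_mem _ (Subgroup.inv_mem _ hs) ht.1)).eq)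
          (Subgroup.mem_centralizer_singleton_iff.2 hcy.symm.eq) hk
        exact Subgroup.mem_centralizer_singleton_iff.1 this
      · intro k hk
        simp only [Finset.mem_filter, Finset.mem_univ, true_and] at hk ⊢
        refine ⟨Subgroup.mul_mem _ hs (hgP M hk), ?_⟩
        have e : omega (cj (g M) M.1) = cj (g M) M.1 := four_elem (hyp_conj h.hyp (g M)) (M.2.conj (g M)) hKc
        have hc := (e.symm ▸ hy M : y M ∈ omega (cj (g M) M.1)).2.2 k hk
        calc s * k * y M * (s * k)⁻¹ = s * (k * y M * k⁻¹) * s⁻¹ := by group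
          _ = _ := by rw [← hc.eq, mul_inv_cancel_right]
      · intro t _; simp
      · intro k _; simp
    have hsub : ∀ M, O M ⊆ ((Finset.univ.filter fun s => s ∈ (P : Subgroup G)).erase 1).erase z := by
      intro M v hv
      obtain ⟨s, hs, rfl⟩ := Finset.mem_image.1 hv
      simp only [Finset.mem_filter, Finset.mem_univ, true_and, Finset.mem_erase] at hs ⊢
      refine ⟨fun e => hyz M ?_, fun e => hy1 M (conj_eq_one_iff.1 e),
        Subgroup.mul_mem _ (Subgroup.mul_mem _ hs (hgP M (hy M))) (Subgroup.inv_mem _ hs)⟩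
      calc y M = s⁻¹ * (s * y M * s⁻¹) * s := by group
        _ = z := by rw [e, mul_assoc, (hzc s hs).eq, inv_mul_cancel_left]
    set Z := ((Finset.univ.filter fun s => s ∈ (P : Subgroup G)).erase 1).erase z
    have hfib : ∀ v ∈ Z, (Finset.univ.filter fun M => v ∈ O M).card ≤ 3 := by
      intro v _
      by_cases hex : ∃ M, v ∈ O M
      · obtain ⟨M, hM⟩ := hex
        have h18 := h.hyp.card_members (M := M.1)
        have hxM := x_mem_normalizer M.2.max.1
        have hS := h.hyp.maxI_small M.2.max M.2.ne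
        rcases h.hyp.card_norm_in hxM (h.hyp.sc M.2.max.1 M.2.ne le_rfl hxM) hS.not_nine with
          ⟨-, hc⟩ | ⟨hc, -, -⟩
        · rw [(four_six h M.2 (hall _ M.2)).card, hall _ M.2] at hc
          omega
        rw [hc] at h18
        refine le_trans ?_ (le_of_eq (Nat.eq_of_mul_eq_mul_right (by norm_num : 0 < 6) (h18.trans (by norm_num)) :
          Nat.card {K : Subgroup G // ∃ c ∈ NX, K = cj c M.1} = 3))
        rw [Nat.card_eq_fintype_card, Fintype.card_subtype]
        refine Finset.card_le_card_of_injOn (fun N => N.1) (fun N hN => ?_)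
          (fun N _ N' _ e => Subtype.ext e)
        simp only [Finset.coe_filter, Finset.mem_univ, true_and, Set.mem_setOf_eq] at hN ⊢
        obtain ⟨s, hs, hsv⟩ := Finset.mem_image.1 hM
        obtain ⟨t, ht, htv⟩ := Finset.mem_image.1 hN
        simp only [Finset.mem_filter, Finset.mem_univ, true_and] at hs ht
        -- both conjugates contain the same two involutions
        have memc : ∀ (c : G) (L : Subgroup G) (u : G), u ∈ L → c * u * c⁻¹ ∈ cj c L :=
          fun c L u hu => ⟨u, hu, rfl⟩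
        have hzc' : ∀ c ∈ (P : Subgroup G), c * z * c⁻¹ = z := fun c hc => by
          rw [← (hzc c hc).eq, mul_inv_cancel_right]
        have hcd : ∀ (N : {M : Subgroup G // Two x M}) (c : G), c ∈ (P : Subgroup G) → c * y N * c⁻¹ = v →
            Nat.card (cj c (cj (g N) N.1)) = 4 ∧ z ∈ cj c (cj (g N) N.1) ∧ v ∈ cj c (cj (g N) N.1) :=
          fun N c hc hv => ⟨by rw [card_cj, card_cj, hall _ N.2],
            by rw [← hzc' c hc]; exact memc _ _ _ (hzM N), hv ▸ memc _ _ _ (hy N)⟩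
        obtain ⟨a1, a2, a3⟩ := hcd M s hs hsv
        obtain ⟨b1, b2, b3⟩ := hcd N t ht htv
        have hv1 : v ≠ 1 := fun e => hy1 M (conj_eq_one_iff.1 (hsv.trans e))
        have hvz : v ≠ z := fun e => hyz M (by
          calc y M = s⁻¹ * (s * y M * s⁻¹) * s := by group
            _ = z := by rw [hsv, e, mul_assoc, (hzc s hs).eq, inv_mul_cancel_left])
        have heq := le_antisymm (hgen _ v a1 a2 a3 hv1 hvz _ b2 b3) (hgen _ v b1 b2 b3 hv1 hvz _ a2 a3)
        rw [← cj_mul, ← cj_mul] at heq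
        have hN' : N.1 = cj ((t * g N)⁻¹ * (s * g M)) M.1 := by
          rw [cj_mul, heq, ← cj_mul, inv_mul_cancel, cj_one]
        obtain ⟨c, hc', hce⟩ := h.hyp.exists_norm_conj hS.not_nine hxM (hN' ▸ x_mem_normalizer N.2.max.1)
        exact ⟨c, hc', hN'.trans hce⟩
      · rw [Finset.card_eq_zero.2 (Finset.filter_eq_empty_iff.2 fun M _ hM => hex ⟨M, hM⟩)]
        omega
    have hsum : ∑ M : {M : Subgroup G // Two x M}, (O M).card ≤ 3 * Z.card := by
      have e : ∀ M, (O M).card = ∑ v ∈ Z, if v ∈ O M then 1 else 0 := fun M => by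
        rw [← Finset.card_filter, Finset.filter_mem_eq_inter, Finset.inter_eq_right.2 (hsub M)]
      rw [Finset.sum_congr rfl (fun M _ => e M), Finset.sum_comm, mul_comm]
      refine le_trans (Finset.sum_le_sum fun v hv => ?_) (le_of_eq (Finset.sum_const_nat fun _ _ => rfl))
      rw [← Finset.card_filter]
      exact hfib v hv
    have hZc : Z.card = 2 ^ a - 2 := by
      rw [Finset.card_erase_of_mem, Finset.card_erase_of_mem, ← Fintype.card_subtype,
        ← Nat.card_eq_fintype_card, sylow_card h P]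
      · omega
      · simp
      · simp [hz1, hzP]
    have hm : (∑ M : {M : Subgroup G // Two x M}, (O M).card) * 4 =
        Nat.card {M : Subgroup G // Two x M} * 2 ^ a := by
      rw [Finset.sum_mul, Finset.sum_const_nat fun M _ => hO M, Finset.card_univ, Nat.card_eq_fintype_card]
    by_contra hge
    push Not at hge
    have := Nat.mul_le_mul_right (2 ^ a) hge
    have := Nat.one_lt_pow (n := a) (by have := h.three_le; omega) (by norm_num : 1 < 2)
    omega

/-- The count when no two-subgroup has a non-soluble normaliser. -/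
theorem caseA (h : Ctx R x q a b)
    (hA : ∀ D : Subgroup G, Inv3 x D → IsPGroup 2 D → D ≠ ⊥ →
      ∃ C, Small x (Subgroup.normalizer (D : Set G)) C) :
    Nat.card (Wp x 2) ∈ [0, 9, 18, 27] ∨ (a % 2 = 0 ∧ Nat.card (Wp x 2) = 6 * (2 ^ a - 1)) ∨
      (a % 2 = 1 ∧ Nat.card (Wp x 2) = 3 * (2 ^ (a - 1) - 1)) := by
  haveI : Fact (Nat.Prime 2) := ⟨Nat.prime_two⟩
  have hd : ∀ K L, MaxI x K → MaxI x L → IsPGroup 2 K → IsPGroup 2 L → K ≠ L → K ⊓ L = ⊥ :=
    fun K L hK hL pK pL hne => meet_eq h.hyp hA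
      (fun M hM D hDM hD1 hDp => h.pgroup_of_le (Or.inl rfl) hM hDM hD1 hDp) hK hL pK pL hne
  by_cases hbig : ∃ M, Two x M ∧ Nat.card M ≠ 4
  · obtain ⟨M, s, hM⟩ := hbig
    exact Or.inr (card_Wp_big h s hM hd)
  · push Not at hbig
    left
    obtain ⟨h3, h12⟩ := card_fours h hbig
    rw [card_union (P := {M | Two x M}) (c := 4) (U := Wp x 2) ?_ hbig ?_]
    · have e : Nat.card ↥{M : Subgroup G | Two x M} = Nat.card {M : Subgroup G // Two x M} := rfl
      rw [e]
      have : Nat.card {M : Subgroup G // Two x M} = 0 ∨ Nat.card {M : Subgroup G // Two x M} = 3 ∨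
          Nat.card {M : Subgroup G // Two x M} = 6 ∨ Nat.card {M : Subgroup G // Two x M} = 9 := by omega
      rcases this with e | e | e | e <;> rw [e] <;> simp
    · intro w
      constructor
      · rintro ⟨hw, M, hM, hMp, hwM⟩
        exact ⟨hw, M, ⟨hM, hMp, fun e => hw ((Subgroup.eq_bot_iff_forall M).1 e w hwM)⟩, hwM⟩
      · rintro ⟨hw, M, hM, hwM⟩
        exact ⟨hw, M, hM.max, hM.two, hwM⟩
    · exact fun M hM M' hM' => hd M M' hM.max hM'.max hM.two hM'.two

end Cfsg.Agent.S2220Two8
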