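import Mathlib
import Cfsg.Agent.Lib.S2220Two8

/-!
Invariant two-subgroups with a non-soluble normaliser.
-/

set_option autoImplicit false
set_option linter.unusedSectionVars false
set_option linter.style.haveILetI false

namespace Cfsg.Agent.S2220Five8

open SelfCentThreeBase SelfCentThreeLocal SelfCentThreeLift SelfCentNineA6Core64 S2220Local8 S2220Count8
  S2220Two8

universe u

variable {G : Type u} [Group G] [Finite G] {R : Subgroup G} {x : G} {q a b : ℕ}

/-- A core equal to the core of its normaliser. -/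
structure Core (x : G) (N T : Subgroup G) : Prop where
  five : Five x (Subgroup.normalizer (N : Set G)) N T
  inv : Inv3 x N
  ne : N ≠ ⊥

theorem five_core_ne (h : Hyp R x) {K N T : Subgroup G} (hK : Inv3 x K) (hK1 : K ≠ ⊥)
    (hF : Five x (Subgroup.normalizer (K : Set G)) N T) : K ≤ N ∧ Inv3 x N ∧ N ≠ ⊥ :=
  have hle := h.le_core hF (x_mem_normalizer hK) hK Subgroup.le_normalizer le_rfl
  ⟨hle, hF.inv_core (x_mem_normalizer hK), fun e => hK1 (le_bot_iff.1 (e ▸ hle))⟩

theorem exists_core (h : Hyp R x) {K : Subgroup G} (hK : Inv3 x K) (hK1 : K ≠ ⊥)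
    (hns : ¬ ∃ C, Small x (Subgroup.normalizer (K : Set G)) C) :
    ∃ N T, Core x N T := by
  suffices key : ∀ (n : ℕ) (K N T : Subgroup G), Inv3 x K → K ≠ ⊥ →
      Five x (Subgroup.normalizer (K : Set G)) N T → Nat.card G ≤ n + Nat.card N →
      ∃ N T, Core x N T by
    rcases h.loc hK hK1 with e | ⟨N, T, hF⟩
    · exact absurd e hns
    · exact key (Nat.card G) K N T hK hK1 hF (Nat.le_add_right _ _)
  intro n
  induction n with
  | zero =>
    intro K N T hK hK1 hF hc
    exfalso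
    have e : N = ⊤ := Subgroup.eq_top_of_le_card _ (by simpa using hc)
    exact hF.lt.ne (le_antisymm hF.lt.le (e ▸ le_top))
  | succ n ih =>
    intro K N T hK hK1 hF hc
    obtain ⟨-, hN, hN1⟩ := five_core_ne h hK hK1 hF
    rcases h.loc hN hN1 with ⟨C, hC⟩ | ⟨N', T', hF'⟩
    · exfalso
      have hTC : T ≤ C := hC.max T (hF.le.trans hF.norm) hF.inv
      have hxK := x_mem_normalizer hK
      have hL : C ⊓ Subgroup.normalizer (K : Set G) ≤ N := by
        refine h.le_core hF hxK ⟨fun k hk => ⟨hC.inv.inv k hk.1,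
          Subgroup.mul_mem _ (Subgroup.mul_mem _ hxK hk.2) (inv_mem hxK)⟩,
          fun h3 => hC.inv.cop (h3.trans (Subgroup.card_dvd_of_le inf_le_left))⟩ inf_le_right ?_
        intro g hg
        refine mem_normalizer_of_invariant fun k hk => ⟨?_,
          Subgroup.mul_mem _ (Subgroup.mul_mem _ hg hk.2) (inv_mem hg)⟩
        exact (Subgroup.mem_normalizer_iff.1 (hC.norm (hF.norm hg)) k).1 hk.1
      exact hF.lt.not_ge ((le_inf hTC hF.le).trans hL)
    · obtain ⟨hle, -, -⟩ := five_core_ne h hN hN1 hF'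
      rcases hle.lt_or_eq with hlt | rfl
      · refine ih N N' T' hN hN1 hF' ?_
        have hnc : ¬ Nat.card N' ≤ Nat.card N := fun e =>
          hlt.ne (Subgroup.eq_of_le_of_card_ge hlt.le e)
        omega
      · exact ⟨N, T', hF', hN, hN1⟩

theorem pow_two_card {N : Subgroup G} {H T : Subgroup G} (hF : Five x H N T) :
    ∃ n, Nat.card N = 2 ^ n := pow_card N (five_isPGroup hF)

theorem Core.x_mem {N T : Subgroup G} (c : Core x N T) : x ∈ Subgroup.normalizer (N : Set G) :=
  x_mem_normalizer c.inv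

theorem Core.n_le {N T : Subgroup G} (_c : Core x N T) : N ≤ Subgroup.normalizer (N : Set G) :=
  Subgroup.le_normalizer

theorem Core.comm {N T : Subgroup G} (c : Core x N T) {u v : G} (hu : u ∈ N) (hv : v ∈ N) :
    Commute u v := by
  have h1 := c.five.sq u hu
  have h2 := c.five.sq v hv
  have h3 := c.five.sq _ (N.mul_mem hu hv)
  show u * v = v * u
  have h4 : (u * v)⁻¹ = u * v := inv_eq_of_mul_eq_one_right h3
  rw [mul_inv_rev, inv_eq_of_mul_eq_one_right h1, inv_eq_of_mul_eq_one_right h2] at h4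
  exact h4.symm

/-- The facts about invariant subgroups between the core and its normaliser. -/
theorem Core.between (h : Ctx R x q a b) {N T K : Subgroup G} (c : Core x N T) (hK : Inv3 x K)
    (hNK : N ≤ K) (hKH : K ≤ Subgroup.normalizer (N : Set G)) :
    IsPGroup 2 K ∧ (K = N ∨ Nat.card K = 4 * Nat.card N) := by
  haveI : Fact (Nat.Prime 5) := ⟨by norm_num⟩
  haveI : Fact (Nat.Prime 2) := ⟨Nat.prime_two⟩
  obtain ⟨n, hn⟩ := pow_two_card c.five
  obtain ⟨d, hd⟩ := Subgroup.card_dvd_of_le hNK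
  have hd60 : d ∣ 60 := by
    have := Subgroup.card_dvd_of_le hKH
    rw [c.five.card, hd, mul_comm 60] at this
    exact Nat.dvd_of_mul_dvd_mul_left Nat.card_pos this
  have hd3 : d % 3 = 1 := by
    have h1 := h.hyp.card_mod hK
    have h2 := h.hyp.card_mod c.inv
    rw [hd, Nat.mul_mod, h2, one_mul, Nat.mod_mod] at h1
    exact h1
  have key : ∀ d ∈ Nat.divisors 60, d % 3 = 1 → d = 1 ∨ d = 4 ∨ d = 10 := by decide
  rcases key d (Nat.mem_divisors.2 ⟨hd60, by norm_num⟩) hd3 with rfl | rfl | rfl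
  · rw [mul_one] at hd
    exact ⟨IsPGroup.of_card (hd.trans hn), Or.inl (Subgroup.eq_of_le_of_card_ge hNK hd.le).symm⟩
  · exact ⟨IsPGroup.of_card (n := n + 2) (by rw [hd, hn]; ring), Or.inr (hd.trans (mul_comm _ _))⟩
  · exfalso
    haveI := h.hyp.nilpotent hK
    have h5 : ¬ 5 ∣ 2 * Nat.card N := fun e => by
      rw [hn, ← pow_succ'] at e
      exact absurd ((Nat.prime_dvd_prime_iff_eq (by norm_num) Nat.prime_two).1
        ((show Nat.Prime 5 by norm_num).dvd_of_dvd_pow e)) (by norm_num)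
    obtain ⟨Q, hQK, hQc, -, hQn⟩ := exists_part (p := 5) (k := 1) (m := 2 * Nat.card N)
      (by rw [hd]; ring) h5
    have hQ : Inv3 x Q := ⟨fun k hk => (Subgroup.mem_normalizer_iff.1 (hQn (x_mem_normalizer hK)) k).1 hk,
      fun h3 => hK.cop (h3.trans (Subgroup.card_dvd_of_le hQK))⟩
    have := h.hyp.card_mod hQ
    omega

theorem Core.card_T (h : Ctx R x q a b) {N T : Subgroup G} (c : Core x N T) :
    IsPGroup 2 T ∧ Nat.card T = 4 * Nat.card N := by
  obtain ⟨hp, e | e⟩ := c.between h c.five.inv c.five.lt.le c.five.le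
  · exact absurd e c.five.lt.ne'
  · exact ⟨hp, e⟩

theorem Core.q_five (h : Ctx R x q a b) {N T : Subgroup G} (c : Core x N T) : q = 5 := by
  have hd := Subgroup.card_subgroup_dvd_card (Subgroup.normalizer (N : Set G))
  rw [c.five.card, h.card] at hd
  have h5 : 5 ∣ 9 * 2 ^ a * q ^ b := (dvd_mul_of_dvd_left (by norm_num : 5 ∣ 60) _).trans hd
  have hp5 : Nat.Prime 5 := by norm_num
  rcases (Nat.Prime.dvd_mul hp5).1 h5 with e | e
  · rcases (Nat.Prime.dvd_mul hp5).1 e with e' | e'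
    · norm_num at e'
    · exact absurd ((Nat.prime_dvd_prime_iff_eq hp5 Nat.prime_two).1 (hp5.dvd_of_dvd_pow e')) (by norm_num)
  · exact ((Nat.prime_dvd_prime_iff_eq hp5 h.prime).1 (hp5.dvd_of_dvd_pow e)).symm

theorem Core.centralizer (h : Hyp R x) {N T : Subgroup G} (c : Core x N T) :
    Subgroup.centralizer (N : Set G) = N := by
  rcases c.five.smp (Subgroup.centralizer (N : Set G))
    (fun u hu => Subgroup.mem_centralizer_iff.2 fun v hv => c.comm hv hu)
    (centralizer_le_normalizer N) (normalizer_le_centralizer N) with e | e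
  · exact e
  · exfalso
    have hx : x ∈ Subgroup.centralizer (N : Set G) := e.symm ▸ c.x_mem
    exact c.ne ((Subgroup.eq_bot_iff_forall N).2 fun v hv =>
      h.fpf c.inv hv (Subgroup.mem_centralizer_iff.1 hx v hv))

theorem Core.sixteen_le (h : Ctx R x q a b) {N T : Subgroup G} (c : Core x N T) : 16 ≤ Nat.card N := by
  obtain ⟨n, hn⟩ := pow_two_card c.five
  have hm := h.hyp.card_mod c.inv
  have h1 := Subgroup.one_lt_card_iff_ne_bot _ |>.2 c.ne
  rcases (by omega : Nat.card N = 4 ∨ 4 < Nat.card N) with h4 | h4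
  · exfalso
    classical
    haveI := Fintype.ofFinite G
    obtain ⟨u, hu, hu1⟩ := SetLike.exists_of_lt (bot_lt_iff_ne_bot.2 c.ne)
    rw [Subgroup.mem_bot] at hu1
    obtain ⟨v, hv, hv1, hvu⟩ : ∃ v ∈ N, v ≠ 1 ∧ v ≠ u := by
      by_contra hno
      push Not at hno
      have hsub : (Finset.univ.filter fun w => w ∈ N) ⊆ {1, u} := fun w hw => by
        simp only [Finset.mem_filter, Finset.mem_univ, true_and] at hw
        simp only [Finset.mem_insert, Finset.mem_singleton]
        by_cases e : w = 1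
        · exact Or.inl e
        · exact Or.inr (hno w hw e)
      have := (Finset.card_le_card hsub).trans Finset.card_le_two
      rw [← Fintype.card_subtype, ← Nat.card_eq_fintype_card, h4] at this
      omega
    set H := Subgroup.normalizer (N : Set G) with hH
    let f : H ⧸ N.subgroupOf H → N × N := Quotient.lift
      (fun l : H => (⟨(l : G) * u * (l : G)⁻¹, (Subgroup.mem_normalizer_iff.1 l.2 u).1 hu⟩,
        ⟨(l : G) * v * (l : G)⁻¹, (Subgroup.mem_normalizer_iff.1 l.2 v).1 hv⟩)) fun l m hlm => by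
      have hmn : (l : G)⁻¹ * m ∈ N := Subgroup.mem_subgroupOf.1 (QuotientGroup.leftRel_apply.1 hlm)
      have e : ∀ w ∈ N, (l : G) * w * (l : G)⁻¹ = (m : G) * w * (m : G)⁻¹ := fun w hw => by
        have := (c.comm hmn hw).eq
        calc (l : G) * w * (l : G)⁻¹ = (l : G) * (w * ((l : G)⁻¹ * m)) * (m : G)⁻¹ := by group
          _ = _ := by rw [← this]; group
      exact Prod.ext (Subtype.ext (e u hu)) (Subtype.ext (e v hv))
    have hf : Function.Injective f := by
      intro l m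
      induction l using Quotient.inductionOn with
      | h l =>
        induction m using Quotient.inductionOn with
        | h m =>
          intro e
          have e1 : (l : G) * u * (l : G)⁻¹ = (m : G) * u * (m : G)⁻¹ :=
            congrArg (fun p : N × N => (p.1 : G)) e
          have e2 : (l : G) * v * (l : G)⁻¹ = (m : G) * v * (m : G)⁻¹ :=
            congrArg (fun p : N × N => (p.2 : G)) e
          refine Quotient.sound (QuotientGroup.leftRel_apply.2 (Subgroup.mem_subgroupOf.2 ?_))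
          show (l : G)⁻¹ * m ∈ N
          set g := (l : G)⁻¹ * (m : G)
          have hg : ∀ w : G, (l : G) * w * (l : G)⁻¹ = (m : G) * w * (m : G)⁻¹ → Commute g w := fun w e => by
            show (l : G)⁻¹ * m * w = w * ((l : G)⁻¹ * m)
            calc (l : G)⁻¹ * m * w = (l : G)⁻¹ * ((m : G) * w * (m : G)⁻¹) * m := by group
              _ = _ := by rw [← e]; group
          set L := N ⊓ Subgroup.centralizer ({g} : Set G) with hL
          have hm3 : ({1, u, v} : Finset G).card ≤ Nat.card L := by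
            rw [Nat.card_eq_fintype_card, Fintype.card_subtype]
            refine Finset.card_le_card fun w hw => ?_
            simp only [Finset.mem_insert, Finset.mem_singleton] at hw
            simp only [Finset.mem_filter, Finset.mem_univ, true_and]
            rcases hw with rfl | rfl | rfl
            · exact L.one_mem
            · exact ⟨hu, Subgroup.mem_centralizer_singleton_iff.2 (hg _ e1).symm.eq⟩
            · exact ⟨hv, Subgroup.mem_centralizer_singleton_iff.2 (hg _ e2).symm.eq⟩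
          rw [Finset.card_insert_of_notMem (by simp [Ne.symm hu1, Ne.symm hv1]),
            Finset.card_pair hvu.symm] at hm3
          have hd := Subgroup.card_dvd_of_le (inf_le_left : L ≤ N)
          rw [h4] at hd
          have key : ∀ d ∈ Nat.divisors 4, 3 ≤ d → d = 4 := by decide
          have hLN : L = N := Subgroup.eq_of_le_of_card_ge inf_le_left
            (by rw [key _ (Nat.mem_divisors.2 ⟨hd, by norm_num⟩) hm3, h4])
          rw [← c.centralizer h.hyp]
          exact Subgroup.mem_centralizer_iff.2 fun w hw =>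
            Subgroup.mem_centralizer_singleton_iff.1 (hLN.symm ▸ hw : w ∈ L).2
    have h16 := Nat.card_le_card_of_injective f hf
    rw [Nat.card_prod, h4] at h16
    have hmul := (N.subgroupOf H).card_mul_index
    rw [card_subgroupOf Subgroup.le_normalizer, c.five.card, h4] at hmul
    have : Nat.card (H ⧸ N.subgroupOf H) = (N.subgroupOf H).index := rfl
    omega
  · rw [hn] at h4 hm ⊢
    rcases (by omega : n ≤ 3 ∨ 4 ≤ n) with e | e
    · interval_cases n <;> omega
    · exact le_trans (by norm_num) (Nat.pow_le_pow_right (by norm_num : 0 < 2) e)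

theorem Core.inverter (h : Ctx R x q a b) {N T : Subgroup G} (c : Core x N T) :
    ∃ i ∈ Subgroup.normalizer (N : Set G), i * i = 1 ∧ i * x * i = x⁻¹ := by
  have h9 := c.five.not_nine c.x_mem
  rcases h.hyp.card_norm_in c.x_mem (h.hyp.sc c.inv c.ne le_rfl c.x_mem) h9 with
    ⟨-, e⟩ | ⟨-, -, e⟩
  · have := h.hyp.card_mod c.inv
    rw [c.five.card] at e
    omega
  · exact e

theorem Core.not_norm (h : Ctx R x q a b) {N T K : Subgroup G} (c : Core x N T) {i : G}
    (hi : i ∈ Subgroup.normalizer (N : Set G)) (hi2 : i * i = 1) (hix : i * x * i = x⁻¹)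
    (hK : Inv3 x K) (hKH : K ≤ Subgroup.normalizer (N : Set G)) (hK4 : Nat.card K = 4 * Nat.card N) :
    i ∉ Subgroup.normalizer (K : Set G) := by
  intro hiK
  have hiK' : i ∉ K := by
    intro hm
    have hm2 : x * x ∈ K := by
      have e : x * i * x⁻¹ * i = x * x := by
        calc x * i * x⁻¹ * i = x * (i * x⁻¹ * i) := by group
          _ = x * x := by
            rw [← hix, show i * (i * x * i) * i = (i * i) * x * (i * i) by group, hi2]; group
      rw [← e]
      exact K.mul_mem (hK.inv i hm) hm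
    have hx1 : x * x * (x * x) = x := by
      calc x * x * (x * x) = x * x * x * x := by group
        _ = x := by rw [h.hyp.cube h.hyp.mem, one_mul]
    exact h.hyp.ne (h.hyp.fpf hK (hx1 ▸ K.mul_mem hm2 hm2) (Commute.refl x))
  have hd := mul_prime_dvd Nat.prime_two (le_sup_left : K ≤ K ⊔ Subgroup.zpowers i)
    (Subgroup.mem_sup_right (Subgroup.mem_zpowers i))
    (fun l hl k hk => (Subgroup.mem_normalizer_iff.1
      ((sup_le Subgroup.le_normalizer (Subgroup.zpowers_le.2 hiK) : K ⊔ Subgroup.zpowers i ≤ _) hl) k).1 hk)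
    (by rw [pow_two, hi2]) hiK'
  have := hd.trans (Subgroup.card_dvd_of_le (sup_le hKH (Subgroup.zpowers_le.2 hi)))
  rw [c.five.card, hK4, show 4 * Nat.card N * 2 = Nat.card N * 8 by ring, mul_comm 60] at this
  have := Nat.dvd_of_mul_dvd_mul_left Nat.card_pos this
  norm_num at this

/-- The subgroups between the core and its normaliser. -/
theorem Core.two_sylows (h : Ctx R x q a b) {N T K : Subgroup G} (c : Core x N T) {i : G}
    (hi : i ∈ Subgroup.normalizer (N : Set G)) (hi2 : i * i = 1) (hix : i * x * i = x⁻¹)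
    (hK : Inv3 x K) (hKH : K ≤ Subgroup.normalizer (N : Set G)) (hK4 : Nat.card K = 4 * Nat.card N)
    (hKp : IsPGroup 2 K) : K = T ∨ K = cj i T := by
  haveI : Fact (Nat.Prime 2) := ⟨Nat.prime_two⟩
  set H := Subgroup.normalizer (N : Set G) with hH
  obtain ⟨n, hn⟩ := pow_two_card c.five
  obtain ⟨hTp, hT4⟩ := c.card_T h
  have hS : ∀ L : Subgroup G, IsPGroup 2 L → L ≤ H → Nat.card L = 4 * Nat.card N →
      ∃ S : Sylow 2 H, (S : Subgroup H) = L.subgroupOf H := by
    intro L hLp hLH hLc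
    have hp : IsPGroup 2 (L.subgroupOf H) :=
      IsPGroup.of_card (n := n + 2) (by rw [card_subgroupOf hLH, hLc, hn]; ring)
    obtain ⟨S, hS⟩ := hp.exists_le_sylow
    exact ⟨S, (Subgroup.eq_of_le_of_card_ge hS (by
      rw [card_subgroupOf hLH, hLc, SimpleOrder.sylow_card_of_eq (k := n + 2) (m := 15)
        (by rw [c.five.card, hn]; ring) (by norm_num) S, hn]
      exact le_of_eq (by ring))).symm⟩
  obtain ⟨S, hS1⟩ := hS K hKp hKH hK4
  obtain ⟨S', hS2⟩ := hS T hTp c.five.le hT4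
  obtain ⟨l, hl⟩ := MulAction.exists_smul_eq H S' S
  have hKT : K = cj (l : G) T := by
    refine (Subgroup.eq_of_le_of_card_ge ?_ (by rw [card_cj, hK4, hT4])).symm
    rintro _ ⟨t, ht, rfl⟩
    have : (⟨t, c.five.le ht⟩ : H) ∈ (S' : Subgroup H) := by rw [hS2]; exact ht
    have := Subgroup.smul_mem_pointwise_smul _ (MulAut.conj l) (S' : Subgroup H) this
    rw [← Sylow.pointwise_smul_def, ← Sylow.smul_def, hl, hS1] at this
    exact this
  have hxK := x_mem_normalizer hK
  rw [hKT, mem_normalizer_cj] at hxK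
  set P := Subgroup.normalizer (T : Set G) ⊓ H with hP
  have hy : (l : G)⁻¹ * x * l ∈ P := ⟨hxK, H.mul_mem (H.mul_mem (H.inv_mem l.2) c.x_mem) l.2⟩
  have hy3 : orderOf ((l : G)⁻¹ * x * l) = 3 := by
    have := MulEquiv.orderOf_eq (MulAut.conj (l : G)⁻¹) x
    simp only [MulAut.conj_apply, inv_inv] at this
    rw [this, h.hyp.ord]
  obtain ⟨d, hd, hdx⟩ := h.hyp.sylow_conj (H := P) ⟨x_mem_normalizer c.five.inv, c.x_mem⟩
    (fun h9 => c.five.not_nine c.x_mem (h9.trans (Subgroup.card_dvd_of_le inf_le_right))) hy hy3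
  set g := (l : G) * d⁻¹ with hg
  have hgH : g ∈ H := H.mul_mem l.2 (H.inv_mem hd.2)
  have hgK : K = cj g T := by
    rw [hKT, hg, cj_mul, cj_eq_self_iff.2 (inv_mem hd.1)]
  have hgx : g⁻¹ * x * g ∈ Subgroup.zpowers x := by
    rw [show g⁻¹ * x * g = d * ((l : G)⁻¹ * x * l) * d⁻¹ by rw [hg]; group]
    exact hdx
  have hsc := h.hyp.sc c.inv c.ne le_rfl c.x_mem
  have hgx' : (⟨g, hgH⟩ : H)⁻¹ * ⟨x, c.x_mem⟩ * ⟨g, hgH⟩ ∈ Subgroup.zpowers (⟨x, c.x_mem⟩ : H) := by
    obtain ⟨j, hj⟩ := hgx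
    exact ⟨j, Subtype.ext (by simpa using hj)⟩
  rcases (hsc.mem_zpowers_iff _).1 hgx' with e | e | e
  · refine absurd (congrArg Subtype.val e) fun e' => h.hyp.ne ?_
    have e'' : g⁻¹ * x * g = 1 := e'
    calc x = g * (g⁻¹ * x * g) * g⁻¹ := by group
      _ = 1 := by rw [e'']; group
  · left
    have hcm : Commute (⟨g, hgH⟩ : H) ⟨x, c.x_mem⟩ := by
      show _ = _
      conv_lhs => rw [← e]
      group
    have := (hsc.mem_zpowers_iff _).2 (hsc.cent _ hcm)
    obtain ⟨j, hj⟩ := this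
    rw [hgK, cj_eq_self_iff, ← show x ^ j = g by simpa using congrArg Subtype.val hj]
    exact Subgroup.zpow_mem _ (x_mem_normalizer c.five.inv) j
  · right
    have hcm : Commute (⟨i * g, H.mul_mem hi hgH⟩ : H) ⟨x, c.x_mem⟩ := by
      apply Subtype.ext
      have e' : g⁻¹ * x * g = x⁻¹ := congrArg Subtype.val e
      have e2 : g * x = x⁻¹ * g := by
        calc g * x = g * (x⁻¹)⁻¹ := by rw [inv_inv]
          _ = g * (g⁻¹ * x * g)⁻¹ := by rw [e']
          _ = _ := by group
      have e3 : i * x⁻¹ = x * i := by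
        calc i * x⁻¹ = i * (i * x * i) := by rw [hix]
          _ = (i * i) * x * i := by group
          _ = x * i := by rw [hi2, one_mul]
      show i * g * x = x * (i * g)
      rw [mul_assoc, e2, ← mul_assoc, e3, mul_assoc]
    obtain ⟨j, hj⟩ := (hsc.mem_zpowers_iff _).2 (hsc.cent _ hcm)
    have hj' : x ^ j = i * g := by simpa using congrArg Subtype.val hj
    rw [hgK, show g = i * x ^ j by rw [hj', ← mul_assoc, hi2, one_mul], cj_mul,
      cj_eq_self_iff.2 (Subgroup.zpow_mem _ (x_mem_normalizer c.five.inv) j)]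

/-- The centraliser in the core of an element outside it. -/
theorem Core.card_fix (h : Ctx R x q a b) {N T : Subgroup G} (c : Core x N T) {w : G} (hw : w ∈ T)
    (hwN : w ∉ N) :
    Nat.card ↥(N ⊓ Subgroup.centralizer ({w} : Set G)) ^ 2 = Nat.card N ∧
      ∃ w₀ ∈ T, w₀ ∉ N ∧ w₀ * w₀ = 1 := by
  classical
  haveI : Fact (Nat.Prime 2) := ⟨Nat.prime_two⟩
  set H := Subgroup.normalizer (N : Set G) with hH
  have hxH := c.x_mem
  obtain ⟨i, hi, hi2, hix⟩ := c.inverter h
  have hsc := h.hyp.sc c.inv c.ne le_rfl hxH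
  have hiN : i ∉ N := by
    intro hm
    obtain ⟨-, hT4⟩ := c.card_T h
    exact c.not_norm h hi hi2 hix c.five.inv c.five.le hT4 (Subgroup.le_normalizer (c.five.lt.le hm))
  have hfi : Nat.card ↥(N ⊓ Subgroup.centralizer ({i} : Set G)) ^ 2 = Nat.card N := by
    have := card_centralizer_sq hsc (Subtype.ext hi2 : (⟨i, hi⟩ : H) * ⟨i, hi⟩ = 1)
      (Subtype.ext hix) (inv3_subgroupOf c.inv c.n_le hxH) (fun k hk => by
        have := (Subgroup.mem_normalizer_iff.1 hi _).1 hk
        rw [inv_eq_of_mul_eq_one_right hi2] at this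
        exact this)
    rw [card_subgroupOf c.n_le, ← Subgroup.card_map_of_injective H.subtype_injective] at this
    rw [← this]
    congr 2
    congr 1
    ext v
    constructor
    · rintro ⟨hv, hvi⟩
      exact ⟨⟨v, c.n_le hv⟩, ⟨hv, Subgroup.mem_centralizer_singleton_iff.2
        (Subtype.ext (Subgroup.mem_centralizer_singleton_iff.1 hvi))⟩, rfl⟩
    · rintro ⟨k, ⟨hk, hki⟩, rfl⟩
      exact ⟨hk, Subgroup.mem_centralizer_singleton_iff.2
        (congrArg Subtype.val (Subgroup.mem_centralizer_singleton_iff.1 hki))⟩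
  -- conjugate the inverting involution into `T`
  obtain ⟨n, hn⟩ := pow_two_card c.five
  obtain ⟨hTp, hT4⟩ := c.card_T h
  have hp : IsPGroup 2 (T.subgroupOf H) :=
    IsPGroup.of_card (n := n + 2) (by rw [card_subgroupOf c.five.le, hT4, hn]; ring)
  obtain ⟨S, hS⟩ := hp.exists_le_sylow
  have hST : (S : Subgroup H) = T.subgroupOf H := (Subgroup.eq_of_le_of_card_ge hS (by
    rw [card_subgroupOf c.five.le, hT4, SimpleOrder.sylow_card_of_eq (k := n + 2) (m := 15)
      (by rw [c.five.card, hn]; ring) (by norm_num) S, hn]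
    exact le_of_eq (by ring))).symm
  have hip : IsPGroup 2 (Subgroup.zpowers (⟨i, hi⟩ : H)) := IsPGroup.of_card (n := 1) (by
    rw [Nat.card_zpowers, pow_one]
    exact orderOf_eq_prime (by rw [pow_two]; exact Subtype.ext hi2) fun e =>
      hiN (by rw [show i = 1 from congrArg Subtype.val e]; exact N.one_mem))
  obtain ⟨S', hS'⟩ := hip.exists_le_sylow
  obtain ⟨l, hl⟩ := MulAction.exists_smul_eq H S' S
  have hmem := Subgroup.smul_mem_pointwise_smul _ (MulAut.conj l) (S' : Subgroup H)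
    (hS' (Subgroup.mem_zpowers _))
  rw [← Sylow.pointwise_smul_def, ← Sylow.smul_def, hl, hST] at hmem
  set w₀ := (l : G) * i * (l : G)⁻¹ with hw0
  have hw0T : w₀ ∈ T := hmem
  have hlH := l.2
  have hw0N : w₀ ∉ N := fun e => hiN ((Subgroup.mem_normalizer_iff.1 hlH i).2 e)
  have hw02 : w₀ * w₀ = 1 := by
    rw [hw0, show (l : G) * i * (l : G)⁻¹ * ((l : G) * i * (l : G)⁻¹) = l * (i * i) * (l : G)⁻¹ by group, hi2]
    group
  refine ⟨?_, w₀, hw0T, hw0N, hw02⟩
  have conjFix : ∀ g ∈ H, ∀ u : G, Nat.card ↥(N ⊓ Subgroup.centralizer ({g * u * g⁻¹} : Set G)) =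
      Nat.card ↥(N ⊓ Subgroup.centralizer ({u} : Set G)) := by
    intro g hg u
    rw [← card_cj g (N ⊓ Subgroup.centralizer ({u} : Set G))]
    congr 1
    congr 1
    ext v
    rw [mem_cj]
    simp only [Subgroup.mem_inf, Subgroup.mem_centralizer_singleton_iff]
    refine and_congr ?_ ⟨fun e => ?_, fun e => ?_⟩
    · have := Subgroup.mem_normalizer_iff.1 (inv_mem hg) v
      rwa [inv_inv] at this
    · calc g⁻¹ * v * g * u = g⁻¹ * (v * (g * u * g⁻¹)) * g := by group
        _ = _ := by rw [e]; group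
    · calc v * (g * u * g⁻¹) = g * (g⁻¹ * v * g * u) * g⁻¹ := by group
        _ = _ := by rw [e]; group
  have h0 : Nat.card ↥(N ⊓ Subgroup.centralizer ({w₀} : Set G)) ^ 2 = Nat.card N := by
    rw [hw0, conjFix _ hlH]; exact hfi
  -- three cosets
  haveI : (N.subgroupOf T).Normal := normal_subgroupOf_le (c.five.le.trans c.five.norm)
  let π := QuotientGroup.mk' (N.subgroupOf T)
  have hQ : Nat.card (T ⧸ N.subgroupOf T) = 4 := by
    have := (N.subgroupOf T).card_mul_index
    rw [card_subgroupOf c.five.lt.le, hT4, mul_comm 4] at this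
    exact Nat.eq_of_mul_eq_mul_left Nat.card_pos this
  have hker : ∀ (t : G) (ht : t ∈ T), π ⟨t, ht⟩ = 1 ↔ t ∈ N := fun t ht =>
    (QuotientGroup.eq_one_iff _).trans Subgroup.mem_subgroupOf
  set w₁ := x * w₀ * x⁻¹ with hw1
  set w₂ := x * w₁ * x⁻¹ with hw2
  have hw1T : w₁ ∈ T := c.five.inv.inv _ hw0T
  have hw2T : w₂ ∈ T := c.five.inv.inv _ hw1T
  have hw3 : x * w₂ * x⁻¹ = w₀ := by
    rw [hw2, hw1]
    calc x * (x * (x * w₀ * x⁻¹) * x⁻¹) * x⁻¹ = (x * x * x) * w₀ * (x * x * x)⁻¹ := by group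
      _ = w₀ := by rw [h.hyp.cube h.hyp.mem]; group
  have hNinv : ∀ k, k ∈ N ↔ x * k * x⁻¹ ∈ N := fun k => Subgroup.mem_normalizer_iff.1 hxH k
  have hne : w₀⁻¹ * w₁ ∉ N := by
    intro he
    set L := ((Subgroup.zpowers (π ⟨w₀, hw0T⟩)).comap π).map T.subtype with hL
    have hLm : ∀ (t : G) (ht : t ∈ T), t ∈ L ↔ π ⟨t, ht⟩ ∈ Subgroup.zpowers (π ⟨w₀, hw0T⟩) := by
      intro t ht
      constructor
      · rintro ⟨⟨t', ht'⟩, hm, rfl⟩; exact hm
      · intro hm; exact ⟨⟨t, ht⟩, hm, rfl⟩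
    have h2 : (π ⟨w₀, hw0T⟩) * π ⟨w₀, hw0T⟩ = 1 := by
      rw [← map_mul, show (⟨w₀, hw0T⟩ : T) * ⟨w₀, hw0T⟩ = 1 from Subtype.ext hw02, map_one]
    have heq : π ⟨w₁, hw1T⟩ = π ⟨w₀, hw0T⟩ := by
      have e := (hker _ (T.mul_mem (T.inv_mem hw0T) hw1T)).2 he
      rw [show (⟨w₀⁻¹ * w₁, T.mul_mem (T.inv_mem hw0T) hw1T⟩ : T) = (⟨w₀, hw0T⟩ : T)⁻¹ * ⟨w₁, hw1T⟩ from rfl,
        map_mul, map_inv, inv_mul_eq_one] at e
      exact e.symm
    have hLT : L ≤ T := Subgroup.map_subtype_le _
    have hLi : Inv3 x L := by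
      refine ⟨fun k hk => ?_, fun h3 => c.five.inv.cop (h3.trans (Subgroup.card_dvd_of_le hLT))⟩
      have hkT := hLT hk
      rw [hLm k hkT] at hk
      rw [hLm _ (c.five.inv.inv k hkT)]
      obtain ⟨j, hj⟩ := Subgroup.mem_zpowers_iff.1 hk
      have e : ⟨k, hkT⟩ * ((⟨w₀, hw0T⟩ : T) ^ j)⁻¹ ∈ π.ker := by
        rw [MonoidHom.mem_ker, map_mul, map_inv, map_zpow, hj, mul_inv_cancel]
      rw [QuotientGroup.ker_mk'] at e
      have e' : k * (w₀ ^ j)⁻¹ ∈ N := by simpa [Subgroup.mem_subgroupOf] using e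
      refine Subgroup.mem_zpowers_iff.2 ⟨j, ?_⟩
      rw [← heq, ← map_zpow, eq_comm, ← mul_inv_eq_one, ← map_inv, ← map_mul, hker]
      · have := (hNinv _).1 e'
        show x * k * x⁻¹ * (w₁ ^ j)⁻¹ ∈ N
        rw [hw1, conj_zpow]
        rwa [show x * k * x⁻¹ * (x * w₀ ^ j * x⁻¹)⁻¹ = x * (k * (w₀ ^ j)⁻¹) * x⁻¹ by group]
    have hNL : N ≤ L := fun k hk => by
      rw [hLm k (c.five.lt.le hk), (hker k (c.five.lt.le hk)).2 hk]; exact Subgroup.one_mem _
    have hcL : Nat.card L ≤ 2 * Nat.card N := by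
      rw [hL, Subgroup.card_map_of_injective T.subtype_injective]
      have h1 := ((Subgroup.zpowers (π ⟨w₀, hw0T⟩)).comap π).card_mul_index
      rw [Subgroup.index_comap_of_surjective _ (QuotientGroup.mk'_surjective _)] at h1
      have h3 := (Subgroup.zpowers (π ⟨w₀, hw0T⟩)).card_mul_index
      rw [hQ, Nat.card_zpowers] at h3
      have h4 : orderOf (π ⟨w₀, hw0T⟩) ∣ 2 := orderOf_dvd_of_pow_eq_one (by rw [pow_two]; exact h2)
      have h5 := Nat.le_of_dvd (by norm_num) h4
      have h6 : 2 ≤ (Subgroup.zpowers (π ⟨w₀, hw0T⟩)).index := by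
        by_contra hlt
        push Not at hlt
        interval_cases (Subgroup.zpowers (π ⟨w₀, hw0T⟩)).index <;> omega
      have h7 : Nat.card T = 4 * Nat.card N := hT4
      nlinarith [h1]
    rcases (c.between h hLi hNL (hLT.trans c.five.le)).2 with e | e
    · exact hw0N (e ▸ (hLm w₀ hw0T).2 (Subgroup.mem_zpowers _))
    · have := Nat.card_pos (α := N); omega
  have hdist : ({1, π ⟨w₀, hw0T⟩, π ⟨w₁, hw1T⟩, π ⟨w₂, hw2T⟩} : Finset _).card = 4 := by
    have hnN : ∀ u, u ∉ N → x * u * x⁻¹ ∉ N := fun u hu e => hu ((hNinv u).2 e)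
    have heq : ∀ (u v : G) (hu : u ∈ T) (hv : v ∈ T), u⁻¹ * v ∉ N → π ⟨u, hu⟩ ≠ π ⟨v, hv⟩ := by
      intro u v hu hv hne e
      refine hne ((hker _ (T.mul_mem (T.inv_mem hu) hv)).1 ?_)
      rw [show (⟨u⁻¹ * v, T.mul_mem (T.inv_mem hu) hv⟩ : T) = (⟨u, hu⟩ : T)⁻¹ * ⟨v, hv⟩ from rfl,
        map_mul, map_inv, e, inv_mul_cancel]
    have e12 : w₁⁻¹ * w₂ ∉ N := by
      have := hnN _ hne
      rwa [show x * (w₀⁻¹ * w₁) * x⁻¹ = w₁⁻¹ * w₂ by rw [hw2, hw1]; group] at this
    have e20 : w₂⁻¹ * w₀ ∉ N := by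
      have := hnN _ e12
      rwa [show x * (w₁⁻¹ * w₂) * x⁻¹ = (x * w₁ * x⁻¹)⁻¹ * (x * w₂ * x⁻¹) by group, ← hw2, hw3] at this
    have h1' : ∀ (u : G) (hu : u ∈ T), u ∉ N → (1 : T ⧸ N.subgroupOf T) ≠ π ⟨u, hu⟩ :=
      fun u hu hne e => hne ((hker u hu).1 e.symm)
    rw [Finset.card_insert_of_notMem, Finset.card_insert_of_notMem, Finset.card_pair]
    · exact heq _ _ hw1T hw2T e12
    · simp only [Finset.mem_insert, Finset.mem_singleton, not_or]
      exact ⟨heq _ _ hw0T hw1T hne, (heq _ _ hw2T hw0T e20).symm⟩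
    · simp only [Finset.mem_insert, Finset.mem_singleton, not_or]
      exact ⟨h1' _ hw0T hw0N, h1' _ hw1T (hnN _ hw0N), h1' _ hw2T (hnN _ (hnN _ hw0N))⟩
  haveI := Fintype.ofFinite (T ⧸ N.subgroupOf T)
  have hall := Finset.eq_univ_of_card _ (hdist.trans (by rw [← Nat.card_eq_fintype_card, hQ]))
  have hwmem := hall ▸ Finset.mem_univ (π ⟨w, hw⟩)
  simp only [Finset.mem_insert, Finset.mem_singleton] at hwmem
  have hsame : ∀ (u : G) (hu : u ∈ T), π ⟨w, hw⟩ = π ⟨u, hu⟩ →
      Nat.card ↥(N ⊓ Subgroup.centralizer ({w} : Set G)) =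
        Nat.card ↥(N ⊓ Subgroup.centralizer ({u} : Set G)) := by
    intro u hu e
    have hm : u⁻¹ * w ∈ N := by
      refine (hker _ (T.mul_mem (T.inv_mem hu) hw)).1 ?_
      rw [show (⟨u⁻¹ * w, T.mul_mem (T.inv_mem hu) hw⟩ : T) = (⟨u, hu⟩ : T)⁻¹ * ⟨w, hw⟩ from rfl,
        map_mul, map_inv, e, inv_mul_cancel]
    congr 1
    congr 1
    ext v
    simp only [Subgroup.mem_inf, Subgroup.mem_centralizer_singleton_iff]
    refine and_congr_right fun hv => ⟨fun e' => ?_, fun e' => ?_⟩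
    · have h1 : Commute v w := e'
      have := h1.mul_right (c.comm hv hm).inv_right
      rwa [show w * (u⁻¹ * w)⁻¹ = u by group] at this
    · have h1 : Commute v u := e'
      have := h1.mul_right (c.comm hv hm)
      rwa [show u * (u⁻¹ * w) = w by group] at this
  rcases hwmem with e | e | e | e
  · exact absurd ((hker w hw).1 e) hwN
  · rw [hsame _ hw0T e]; exact h0
  · rw [hsame _ hw1T e, hw1, conjFix x hxH]; exact h0
  · rw [hsame _ hw2T e, hw2, hw1, conjFix x hxH, conjFix x hxH]; exact h0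

/-- Elementary subgroups of the order of the core. -/
structure Marked (N M C : Subgroup G) : Prop where
  le : C ≤ M
  sq : ∀ u ∈ C, u * u = 1
  card : Nat.card C = Nat.card N

theorem Core.marked {N T : Subgroup G} (c : Core x N T) : Marked N T N :=
  ⟨c.five.lt.le, c.five.sq, rfl⟩

theorem Marked.cj {N M C : Subgroup G} (m : Marked N M C) (g : G) :
    Marked N (cj g M) (S2220Local8.cj g C) := by
  refine ⟨Subgroup.map_mono m.le, ?_, (card_cj g C).trans m.card⟩
  rintro _ ⟨u, hu, rfl⟩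
  rw [← map_mul, m.sq u hu, map_one]

theorem Core.quot_index (h : Ctx R x q a b) {N T : Subgroup G} (c : Core x N T) :
    (N.subgroupOf T).index = 4 := by
  obtain ⟨-, hT4⟩ := c.card_T h
  have := (N.subgroupOf T).card_mul_index
  rw [card_subgroupOf c.five.lt.le, hT4, mul_comm 4] at this
  exact Nat.eq_of_mul_eq_mul_left Nat.card_pos this

theorem Core.marked_facts (h : Ctx R x q a b) {N T C : Subgroup G} (c : Core x N T) (m : Marked N T C)
    (hne : C ≠ N) :
    Nat.card N = 16 ∧ (∀ t ∈ T, ∃ w ∈ C, w⁻¹ * t ∈ N) ∧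
      (∀ w ∈ C, w ∉ N → C ⊓ N = N ⊓ Subgroup.centralizer ({w} : Set G)) := by
  obtain ⟨hTp, hT4⟩ := c.card_T h
  have hCN : ¬ C ≤ N := fun e => hne (Subgroup.eq_of_le_of_card_ge e m.card.ge)
  obtain ⟨w0, hw0, hw0N⟩ := Set.not_subset.1 hCN
  set D := C ⊓ N with hD
  have hDle : ∀ w ∈ C, D ≤ N ⊓ Subgroup.centralizer ({w} : Set G) := by
    rintro w hw v ⟨hv, hvN⟩
    refine ⟨hvN, Subgroup.mem_centralizer_singleton_iff.2 ?_⟩
    have h3 := m.sq _ (C.mul_mem hv hw)
    have h4 : (v * w)⁻¹ = v * w := inv_eq_of_mul_eq_one_right h3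
    rw [mul_inv_rev, inv_eq_of_mul_eq_one_right (m.sq v hv), inv_eq_of_mul_eq_one_right (m.sq w hw)] at h4
    exact h4.symm
  have hidx := c.quot_index h
  haveI : (N.subgroupOf T).Normal := normal_subgroupOf_le (c.five.le.trans c.five.norm)
  have hrel : N.relIndex C ∣ 4 := by
    have := Subgroup.relIndex_dvd_index_of_normal (N.subgroupOf T) (C.subgroupOf T)
    rwa [hidx, Subgroup.relIndex_subgroupOf m.le] at this
  have hmul : Nat.card D * N.relIndex C = Nat.card N := by
    have := (N.subgroupOf C).card_mul_index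
    rw [show (N.subgroupOf C).index = N.relIndex C from rfl, ← Subgroup.inf_subgroupOf_left N C,
      card_subgroupOf (inf_le_left : C ⊓ N ≤ C), m.card] at this
    exact this
  have hf0 := (c.card_fix h (m.le hw0) hw0N).1
  have hD0 := Subgroup.card_le_of_le (hDle w0 hw0)
  have h16 := c.sixteen_le h
  have h4 := Nat.le_of_dvd (by norm_num) hrel
  have hN : Nat.card N = 16 := by
    have h1 : Nat.card N ≤ 4 * Nat.card D := by
      rw [← hmul, mul_comm]; exact Nat.mul_le_mul_right _ h4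
    have h2 : Nat.card D ^ 2 ≤ Nat.card N := hf0 ▸ Nat.pow_le_pow_left hD0 2
    nlinarith
  have hD4 : Nat.card D = 4 := by
    have h2 : Nat.card D ^ 2 ≤ Nat.card N := hf0 ▸ Nat.pow_le_pow_left hD0 2
    rw [hN] at h2 hmul
    have : Nat.card D ≤ 4 := by nlinarith
    have : 16 ≤ Nat.card D * 4 := by rw [← hmul]; exact Nat.mul_le_mul_left _ h4
    omega
  refine ⟨hN, fun t ht => ?_, fun w hw hwN => ?_⟩
  · have hr : N.relIndex C = 4 := by rw [hD4, hN] at hmul; omega
    let π := QuotientGroup.mk' (N.subgroupOf T)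
    have hsurj : (C.subgroupOf T).map π = ⊤ := by
      refine Subgroup.eq_top_of_le_card _ ?_
      rw [show Nat.card (T ⧸ N.subgroupOf T) = 4 from hidx]
      have := Subgroup.relIndex_ker (π.comp (C.subgroupOf T).subtype) (K := ⊤)
      have hk : ((π.comp (C.subgroupOf T).subtype).ker).index = 4 := by
        rw [show (π.comp (C.subgroupOf T).subtype).ker = (N.subgroupOf T).subgroupOf (C.subgroupOf T) by
          rw [← MonoidHom.comap_ker, QuotientGroup.ker_mk']; rfl]
        show (N.subgroupOf T).relIndex (C.subgroupOf T) = 4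
        rw [Subgroup.relIndex_subgroupOf m.le, hr]
      rw [Subgroup.index_ker, MonoidHom.range_comp, Subgroup.range_subtype] at hk
      omega
    obtain ⟨w, hw, e⟩ := (hsurj.symm ▸ Subgroup.mem_top (π ⟨t, ht⟩) : π ⟨t, ht⟩ ∈ (C.subgroupOf T).map π)
    exact ⟨w, hw, Subgroup.mem_subgroupOf.1 (QuotientGroup.eq.1 e)⟩
  · refine Subgroup.eq_of_le_of_card_ge (hDle w hw) ?_
    have := (c.card_fix h (m.le hw) hwN).1
    rw [hN] at this
    rw [hD4]
    by_contra hgt
    push Not at hgt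
    nlinarith

theorem Core.marked_unique (h : Ctx R x q a b) {N T C C' : Subgroup G} (c : Core x N T)
    (m : Marked N T C) (m' : Marked N T C') (hne : C ≠ N) (hne' : C' ≠ N) : C = C' := by
  obtain ⟨-, hcov, hfix⟩ := c.marked_facts h m hne
  obtain ⟨-, -, hfix'⟩ := c.marked_facts h m' hne'
  have hout : ∀ t ∈ C', t ∉ N → t ∈ C ∧ C' ⊓ N = C ⊓ N := by
    intro t ht htN
    obtain ⟨w, hw, hwt⟩ := hcov t (m'.le ht)
    have hwN : w ∉ N := fun e => htN (by
      rw [show t = w * (w⁻¹ * t) by group]; exact N.mul_mem e hwt)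
    set v := w⁻¹ * t with hv
    have hw2 := m.sq w hw
    have hv2 := c.five.sq v hwt
    have ht2 : w * v * (w * v) = 1 := by
      rw [show w * v = t by rw [hv]; group]; exact m'.sq t ht
    have h4 : (w * v)⁻¹ = w * v := inv_eq_of_mul_eq_one_right ht2
    rw [mul_inv_rev, inv_eq_of_mul_eq_one_right hv2, inv_eq_of_mul_eq_one_right hw2] at h4
    have hvD : v ∈ C ⊓ N := by
      rw [hfix w hw hwN]; exact ⟨hwt, Subgroup.mem_centralizer_singleton_iff.2 h4⟩
    have htC : t ∈ C := by rw [show t = w * v by rw [hv]; group]; exact C.mul_mem hw hvD.1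
    exact ⟨htC, (hfix' t ht htN).trans (hfix t htC htN).symm⟩
  refine (Subgroup.eq_of_le_of_card_ge (fun t ht => ?_) (by rw [m.card, m'.card])).symm
  by_cases htN : t ∈ N
  · obtain ⟨u, hu, huN⟩ := Set.not_subset.1
      (fun e : C' ≤ N => hne' (Subgroup.eq_of_le_of_card_ge e m'.card.ge))
    exact ((hout u hu huN).2 ▸ (⟨ht, htN⟩ : t ∈ C' ⊓ N) : t ∈ C ⊓ N).1
  · exact (hout t ht htN).1

theorem Core.two (h : Ctx R x q a b) {N T : Subgroup G} (c : Core x N T) :
    Two x T ∧ Nat.card T ≠ 4 := by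
  classical
  haveI : Fact (Nat.Prime 2) := ⟨Nat.prime_two⟩
  obtain ⟨hTp, hT4⟩ := c.card_T h
  have hT1 : T ≠ ⊥ := fun e => c.five.lt.not_ge (e ▸ bot_le)
  have h16 := c.sixteen_le h
  refine ⟨⟨⟨c.five.inv, fun K hK hle => ?_⟩, hTp, hT1⟩, by omega⟩
  obtain ⟨M, hM, hKM⟩ := exists_maxI x hK
  have hMp := h.pgroup_of_le (Or.inl rfl) hM (hle.trans hKM) hT1 hTp
  refine le_antisymm (hKM.trans ?_) hle
  by_contra hMT
  have hlt : T < M := lt_of_le_not_ge (hle.trans hKM) hMT
  haveI := hMp.isNilpotent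
  have hlt' := lt_inf_normalizer hlt
  set L := M ⊓ Subgroup.normalizer (T : Set G) with hL
  have hLi : Inv3 x L := ⟨fun k hk => ⟨hM.1.inv k hk.1, Subgroup.mul_mem _ (Subgroup.mul_mem _
    (x_mem_normalizer c.five.inv) hk.2) (inv_mem (x_mem_normalizer c.five.inv))⟩,
    fun h3 => hM.1.cop (h3.trans (Subgroup.card_dvd_of_le inf_le_left))⟩
  set H := Subgroup.normalizer (N : Set G) with hH
  have hxH := c.x_mem
  have hLH : L ⊓ H = T := by
    have hLHi : Inv3 x (L ⊓ H) := ⟨fun k hk => ⟨hLi.inv k hk.1,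
      H.mul_mem (H.mul_mem hxH hk.2) (H.inv_mem hxH)⟩,
      fun h3 => hLi.cop (h3.trans (Subgroup.card_dvd_of_le inf_le_left))⟩
    have hTL : T ≤ L ⊓ H := le_inf hlt'.le c.five.le
    rcases (c.between h hLHi (c.five.lt.le.trans hTL) inf_le_right).2 with e | e
    · exact absurd (c.five.lt.trans_le hTL) (by rw [e]; exact lt_irrefl _)
    · exact (Subgroup.eq_of_le_of_card_ge hTL (by omega)).symm
  have hmark : ∀ l ∈ L, l ∉ H → Marked N T (cj l N) ∧ cj l N ≠ N := fun l hl hlH => by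
    refine ⟨?_, fun e => hlH (cj_eq_self_iff.1 e)⟩
    have := c.marked.cj l
    rwa [cj_eq_self_iff.2 hl.2] at this
  have htwo : ∀ k ∈ L, k ∉ H → ∀ l ∈ L, l ∉ H → k⁻¹ * l ∈ T := by
    intro k hk hkH l hl hlH
    obtain ⟨m1, n1⟩ := hmark k hk hkH
    obtain ⟨m2, n2⟩ := hmark l hl hlH
    rw [← hLH]
    refine ⟨L.mul_mem (L.inv_mem hk) hl, cj_eq_self_iff.1 ?_⟩
    rw [cj_mul, c.marked_unique h m2 m1 n2 n1, ← cj_mul, inv_mul_cancel, cj_one]
  have hle2 : Nat.card L ≤ 2 * Nat.card T := by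
    by_cases hex : ∃ k ∈ L, k ∉ H
    · obtain ⟨k, hk, hkH⟩ := hex
      let f : L → Bool × T := fun l =>
        if hl : (l : G) ∈ H then (true, ⟨l, hLH ▸ ⟨l.2, hl⟩⟩)
        else (false, ⟨k⁻¹ * l, htwo k hk hkH l l.2 hl⟩)
      have hf : Function.Injective f := by
        intro l l' e
        simp only [f] at e
        split_ifs at e <;> simp only [Prod.mk.injEq, Subtype.mk.injEq, Bool.true_eq_false,
          Bool.false_eq_true, false_and, true_and] at e
        · exact Subtype.ext e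
        · exact Subtype.ext (mul_left_cancel e)
      have := Nat.card_le_card_of_injective f hf
      rwa [Nat.card_prod, Nat.card_eq_fintype_card (α := Bool), Fintype.card_bool] at this
    · push Not at hex
      have := Subgroup.card_le_of_le (show L ≤ T from fun l hl => hLH ▸ ⟨hl, hex l hl⟩)
      omega
  obtain ⟨n, hn⟩ := pow_card L (hMp.to_le inf_le_left)
  obtain ⟨m, hm⟩ := pow_card T hTp
  have hlt2 : Nat.card T < Nat.card L := by
    by_contra hge
    push Not at hge
    exact hlt'.ne (Subgroup.eq_of_le_of_card_ge hlt'.le hge)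
  have hdvd := Subgroup.card_dvd_of_le hlt'.le
  obtain ⟨d, hd⟩ := hdvd
  have hd2 : d = 2 := by
    rw [hd] at hle2 hlt2
    have h1 : Nat.card T * d ≤ Nat.card T * 2 := by rwa [mul_comm 2] at hle2
    have := Nat.le_of_mul_le_mul_left h1 Nat.card_pos
    rcases (by omega : d = 0 ∨ d = 1 ∨ d = 2) with e | e | e
    · rw [e] at hlt2; simp at hlt2
    · rw [e, mul_one] at hlt2; omega
    · exact e
  have h1 := h.hyp.card_mod hLi
  have h2 := h.hyp.card_mod c.five.inv
  rw [hd, hd2] at h1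
  omega

theorem Core.size (h : Ctx R x q a b) {N T : Subgroup G} (c : Core x N T) :
    (Nat.card N = 16 ∧ (a = 6 ∨ a = 7)) ∨
      (64 ≤ Nat.card N ∧ 2 ^ a = 4 * Nat.card N ∧ a % 2 = 0) := by
  obtain ⟨hTp, hT4⟩ := c.card_T h
  obtain ⟨s, hT⟩ := c.two h
  have h16 := c.sixteen_le h
  obtain ⟨n, hn⟩ := pow_two_card c.five
  have hn3 := h.hyp.card_mod c.inv
  have hpar : ∀ m : ℕ, 2 ^ m % 3 = if m % 2 = 0 then 1 else 2 := by
    intro m
    induction m with
    | zero => rfl
    | succ m ih => rw [pow_succ, Nat.mul_mod, ih]; split_ifs <;> omega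
  rcases type_cases h s with ⟨-, e⟩ | s6
  · have ha : a = n + 2 := by
      have : 2 ^ a = 2 ^ (n + 2) := by rw [← e, hT4, hn]; ring
      exact Nat.pow_right_injective le_rfl this
    have hpn := hpar n
    rw [hn] at h16 hn3
    have hn4 : 4 ≤ n := by
      by_contra hlt
      have : 2 ^ n ≤ 2 ^ 3 := Nat.pow_le_pow_right (by norm_num) (by omega)
      omega
    rcases (by omega : n = 4 ∨ n = 5 ∨ 6 ≤ n) with e' | e' | e'
    · exact Or.inl ⟨by rw [hn, e']; norm_num, Or.inl (by omega)⟩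
    · rw [e'] at hn3; norm_num at hn3
    · refine Or.inr ⟨by rw [hn]; exact le_trans (by norm_num) (Nat.pow_le_pow_right (by norm_num : 0 < 2) e'),
        by rw [← e, hT4], ?_⟩
      split_ifs at hpn <;> omega
  · left
    obtain ⟨hS, -⟩ := six_big h s6 hT
    have hxT := x_mem_normalizer c.five.inv
    rcases h.hyp.card_norm_in hxT (h.hyp.sc c.five.inv s.ne le_rfl hxT)
      (h.hyp.maxI_small s.max s.ne).not_nine with ⟨-, e⟩ | ⟨-, -, j, hj, hj2, hjx⟩
    · have := h.hyp.card_mod c.five.inv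
      rw [s6.card] at e
      omega
    have hjH : j ∉ Subgroup.normalizer (N : Set G) := fun e =>
      c.not_norm h e hj2 hjx c.five.inv c.five.le hT4 hj
    have m' : Marked N T (cj j N) := by
      have := c.marked.cj j
      rwa [cj_eq_self_iff.2 hj] at this
    have hN := (c.marked_facts h m' (fun e => hjH (cj_eq_self_iff.1 e))).1
    refine ⟨hN, Or.inr ?_⟩
    have : 2 ^ a = 2 ^ 7 := by rw [← hS, hT4, hN]; norm_num
    exact Nat.pow_right_injective le_rfl this

/-- The count when some two-subgroup has a non-soluble normaliser. -/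
theorem caseB (h : Ctx R x q a b) {N T : Subgroup G} (c : Core x N T) :
    q = 5 ∧ (((a = 6 ∨ a = 7) ∧ 9 ∣ Nat.card (Wp x 2) ∧ Nat.card (Wp x 2) ≤ 333) ∨
      (6 ≤ a ∧ a % 2 = 0 ∧ Nat.card (Wp x 2) = 6 * (2 ^ a - 1) - 3 * (2 ^ (a - 2) - 1))) := by
  classical
  haveI := Fintype.ofFinite G
  haveI : Fact (Nat.Prime 2) := ⟨Nat.prime_two⟩
  refine ⟨c.q_five h, ?_⟩
  obtain ⟨hTp, hT4⟩ := c.card_T h
  obtain ⟨s, hbig⟩ := c.two h
  obtain ⟨i, hi, hi2, hix⟩ := c.inverter h
  set NX := Subgroup.normalizer (Subgroup.zpowers x : Set G) with hNX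
  have hRX : ∀ r ∈ R, r ∈ NX := fun r hr => mem_normalizer_of_invariant fun k hk => by
    rw [h.hyp.conf.comm r hr k ((Subgroup.zpowers_le.2 h.hyp.mem) hk), mul_inv_cancel_right]
    exact hk
  have hiX : i ∈ NX := mem_normalizer_of_invariant fun k hk => by
    obtain ⟨j, rfl⟩ := Subgroup.mem_zpowers_iff.1 hk
    rw [← conj_zpow, inv_eq_of_mul_eq_one_right hi2, hix]
    exact Subgroup.zpow_mem _ (inv_mem (Subgroup.mem_zpowers x)) j
  have hiN : cj i N = N := cj_eq_self_iff.2 hi
  have hT'H : cj i T ≤ Subgroup.normalizer (N : Set G) := fun t ht => by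
    obtain ⟨u, hu, rfl⟩ := ht
    exact Subgroup.mul_mem _ (Subgroup.mul_mem _ hi (c.five.le hu)) (inv_mem hi)
  have hT' : Two x (cj i T) := ⟨maxI_cj h.hyp s.max hiX, hTp.map _, fun e => s.ne (Subgroup.card_eq_one.1
    ((card_cj i T).symm.trans (Subgroup.card_eq_one.2 e)))⟩
  have hNT' : N ≤ cj i T := by
    have := Subgroup.map_mono (f := (MulAut.conj i).toMonoidHom) c.five.lt.le
    rwa [show Subgroup.map (MulAut.conj i).toMonoidHom N = N from hiN] at this
  have hne : cj i T ≠ T := fun e =>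
    c.not_norm h hi hi2 hix c.five.inv c.five.le hT4 (cj_eq_self_iff.1 e)
  have hinter : T ⊓ cj i T = N := by
    have hI : Inv3 x (T ⊓ cj i T) := ⟨fun k hk => ⟨s.max.1.inv k hk.1, hT'.max.1.inv k hk.2⟩,
      fun h3 => s.max.1.cop (h3.trans (Subgroup.card_dvd_of_le inf_le_left))⟩
    rcases (c.between h hI (le_inf c.five.lt.le hNT') (inf_le_right.trans hT'H)).2 with e | e
    · exact e
    · have h1 := Subgroup.eq_of_le_of_card_ge (inf_le_left : T ⊓ cj i T ≤ T) (by omega)
      exact absurd (Subgroup.eq_of_le_of_card_ge (h1.symm.le.trans inf_le_right) (card_cj i T).le).symm hne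
  set U := ((Finset.univ.filter fun g => g ∈ T) ∪ (Finset.univ.filter fun g => g ∈ cj i T)).erase 1 with hU
  have hUc : U.card = 7 * Nat.card N - 1 := by
    have h1 := Finset.card_union_add_card_inter (Finset.univ.filter fun g => g ∈ T)
      (Finset.univ.filter fun g => g ∈ cj i T)
    rw [show (Finset.univ.filter fun g => g ∈ T) ∩ (Finset.univ.filter fun g => g ∈ cj i T) =
        Finset.univ.filter fun g => g ∈ N by
      ext g; simp only [Finset.mem_inter, Finset.mem_filter, Finset.mem_univ, true_and]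
      exact ⟨fun hg => hinter ▸ hg, fun hg => ⟨c.five.lt.le hg, hNT' hg⟩⟩] at h1
    simp only [← Fintype.card_subtype, ← Nat.card_eq_fintype_card] at h1
    rw [card_cj, hT4] at h1
    rw [hU, Finset.card_erase_of_mem (by simp)]
    omega
  obtain ⟨r, hrR, hrx⟩ : ∃ r ∈ R, r ∉ Subgroup.zpowers x := SetLike.exists_of_lt (lt_of_card
    (Subgroup.zpowers_le.2 h.hyp.mem) (by rw [Nat.card_zpowers, h.hyp.ord, h.hyp.conf.card]; norm_num))
  have hdec : ∀ v ∈ R, ∃ m < 3, (r ^ m)⁻¹ * v ∈ Subgroup.zpowers x := by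
    intro v hv
    haveI : ((Subgroup.zpowers x).subgroupOf R).Normal := normal_subgroupOf_le fun g hg => hRX g hg
    let π := QuotientGroup.mk' ((Subgroup.zpowers x).subgroupOf R)
    haveI : Fact (Nat.Prime 3) := ⟨Nat.prime_three⟩
    have h3 : Nat.card (R ⧸ (Subgroup.zpowers x).subgroupOf R) = 3 := by
      have := ((Subgroup.zpowers x).subgroupOf R).card_mul_index
      rw [card_subgroupOf (Subgroup.zpowers_le.2 h.hyp.mem), Nat.card_zpowers, h.hyp.ord, h.hyp.conf.card] at this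
      show ((Subgroup.zpowers x).subgroupOf R).index = 3
      omega
    have hr1 : π ⟨r, hrR⟩ ≠ 1 := fun e =>
      hrx (Subgroup.mem_subgroupOf.1 ((QuotientGroup.eq_one_iff (⟨r, hrR⟩ : R)).1 e))
    obtain ⟨j, hj⟩ := Subgroup.mem_zpowers_iff.1
      (mem_zpowers_of_prime_card h3 hr1 : π ⟨v, hv⟩ ∈ Subgroup.zpowers (π ⟨r, hrR⟩))
    have ho : orderOf (π ⟨r, hrR⟩) = 3 := by
      rcases (Nat.dvd_prime Nat.prime_three).1 (h3 ▸ orderOf_dvd_natCard (π ⟨r, hrR⟩)) with e | e
      · exact absurd (orderOf_eq_one_iff.1 e) hr1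
      · exact e
    rw [← zpow_mod_orderOf, ho] at hj
    refine ⟨(j % 3).toNat, by omega, ?_⟩
    have hjn : j % ((3 : ℕ) : ℤ) = ((j % 3).toNat : ℤ) := by
      rw [Int.toNat_of_nonneg (Int.emod_nonneg _ (by norm_num))]; rfl
    rw [hjn, zpow_natCast, ← map_pow] at hj
    exact Subgroup.mem_subgroupOf.1 (QuotientGroup.eq.1 hj)
  -- the members
  have hmem : ∀ K, Two x K → ∃ m < 3, K = cj (r ^ m) T ∨ K = cj (r ^ m) (cj i T) := by
    intro K hK
    obtain ⟨g, hg, rfl⟩ := all_conj h s hbig hK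
    have hm := (Subgroup.mem_normalizer_iff.1 hg x).1 (Subgroup.mem_zpowers x)
    obtain ⟨j, hj⟩ := Subgroup.mem_zpowers_iff.1 hm
    have red : ∀ v ∈ R, ∃ m < 3, cj v T = cj (r ^ m) T ∧ cj v (cj i T) = cj (r ^ m) (cj i T) := by
      intro v hv
      obtain ⟨m, hm3, hz⟩ := hdec v hv
      obtain ⟨l, hl⟩ := Subgroup.mem_zpowers_iff.1 hz
      have e : v = r ^ m * x ^ l := by rw [hl]; group
      refine ⟨m, hm3, ?_, ?_⟩
      · rw [e, cj_mul, cj_eq_self_iff.2 (Subgroup.zpow_mem _ (x_mem_normalizer s.max.1) l)]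
      · rw [e, cj_mul (r ^ m) (x ^ l), cj_eq_self_iff.2 (Subgroup.zpow_mem _ (x_mem_normalizer hT'.max.1) l)]
    rw [← zpow_mod_orderOf, h.hyp.ord] at hj
    rcases (by omega : j % 3 = 0 ∨ j % 3 = 1 ∨ j % 3 = 2) with e | e | e <;>
      rw [show ((3 : ℕ) : ℤ) = 3 from rfl, e] at hj
    · rw [zpow_zero, eq_comm, conj_eq_one_iff] at hj
      exact absurd hj h.hyp.ne
    · rw [zpow_one] at hj
      have hgR : g ∈ R := h.hyp.mem_of_commute_x (mul_inv_eq_iff_eq_mul.1 hj.symm)
      obtain ⟨m, hm3, e1, -⟩ := red g hgR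
      exact ⟨m, hm3, Or.inl e1⟩
    · rw [show x ^ (2 : ℤ) = x⁻¹ by
        rw [zpow_two]; exact eq_inv_of_mul_eq_one_left (h.hyp.cube h.hyp.mem)] at hj
      have hgiR : g * i ∈ R := by
        refine h.hyp.mem_of_commute_x (mul_inv_eq_iff_eq_mul.1 ?_)
        rw [mul_inv_rev, inv_eq_of_mul_eq_one_right hi2, show g * i * x * (i * g⁻¹) = g * (i * x * i) * g⁻¹ by group,
          hix, ← _root_.conj_inv, ← hj, inv_inv]
      obtain ⟨m, hm3, -, e2⟩ := red _ hgiR
      refine ⟨m, hm3, Or.inr ?_⟩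
      rw [← e2, ← cj_mul, mul_assoc, hi2, mul_one]
  let Ui : ℕ → Finset G := fun m => U.image fun u => r ^ m * u * (r ^ m)⁻¹
  have hTwo : ∀ v ∈ R, ∀ K, Two x K → Two x (cj v K) := fun v hv K hK =>
    ⟨maxI_cj h.hyp hK.max (hRX v hv), hK.two.map _, fun e => hK.ne (Subgroup.card_eq_one.1
      ((card_cj v K).symm.trans (Subgroup.card_eq_one.2 e)))⟩
  have memUi : ∀ m w, w ∈ Ui m ↔ w ≠ 1 ∧ (w ∈ cj (r ^ m) T ∨ w ∈ cj (r ^ m) (cj i T)) := by
    intro m w
    simp only [Ui, Finset.mem_image, hU, Finset.mem_erase, Finset.mem_union, Finset.mem_filter,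
      Finset.mem_univ, true_and]
    constructor
    · rintro ⟨u, ⟨hu1, hu⟩, rfl⟩
      exact ⟨fun e => hu1 (conj_eq_one_iff.1 e), hu.imp (fun e => ⟨u, e, rfl⟩) (fun e => ⟨u, e, rfl⟩)⟩
    · rintro ⟨hw, e⟩
      refine ⟨(r ^ m)⁻¹ * w * r ^ m, ⟨fun e' => hw ?_, e.imp mem_cj.1 mem_cj.1⟩, by group⟩
      calc w = r ^ m * ((r ^ m)⁻¹ * w * r ^ m) * (r ^ m)⁻¹ := by group
        _ = 1 := by rw [e', mul_one, mul_inv_cancel]
  have hW : (Wp x 2).toFinset = (Finset.range 3).biUnion Ui := by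
    ext w
    simp only [Set.mem_toFinset, Finset.mem_biUnion, Finset.mem_range, memUi]
    constructor
    · rintro ⟨hw, M, hM, hMp, hwM⟩
      obtain ⟨m, hm3, e | e⟩ := hmem M ⟨hM, hMp, fun e => hw ((Subgroup.eq_bot_iff_forall M).1 e w hwM)⟩
      · exact ⟨m, hm3, hw, Or.inl (e ▸ hwM)⟩
      · exact ⟨m, hm3, hw, Or.inr (e ▸ hwM)⟩
    · rintro ⟨m, -, hw, e | e⟩
      · exact ⟨hw, _, (hTwo _ (R.pow_mem hrR m) T s).max, (hTp.map _), e⟩
      · exact ⟨hw, _, (hTwo _ (R.pow_mem hrR m) _ hT').max, (hT'.two.map _), e⟩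
  have hWc : Nat.card (Wp x 2) = ((Finset.range 3).biUnion Ui).card := by
    rw [← hW, Set.toFinset_card, Nat.card_eq_fintype_card]
  have hUic : ∀ m, (Ui m).card = U.card := fun m =>
    Finset.card_image_of_injective _ fun u v e => mul_left_cancel (mul_right_cancel e)
  rcases c.size h with ⟨hN, ha⟩ | ⟨hN, haN, ha⟩
  · left
    refine ⟨ha, ?_, ?_⟩
    · rw [hWc, ← hW]
      have inv : ∀ v ∈ R, ∀ w ∈ Wp x 2, v * w * v⁻¹ ∈ Wp x 2 := by
        rintro v hv w ⟨hw, M, hM, hMp, hwM⟩
        exact ⟨fun e => hw (conj_eq_one_iff.1 e), cj v M, maxI_cj h.hyp hM (hRX v hv), hMp.map _,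
          ⟨w, hwM, rfl⟩⟩
      set f : G → Finset G := fun w => (Finset.univ.filter fun v => v ∈ R).image fun v => v * w * v⁻¹
      refine ⟨((Wp x 2).toFinset.image f).card, ?_⟩
      rw [Finset.card_eq_sum_card_image f (Wp x 2).toFinset, Finset.sum_const_nat (m := 9), mul_comm]
      intro O hO
      obtain ⟨w, hw, rfl⟩ := Finset.mem_image.1 hO
      rw [Set.mem_toFinset] at hw
      have hinj : ∀ v ∈ R, ∀ v' ∈ R, v * w * v⁻¹ = v' * w * v'⁻¹ → v = v' := by
        intro v hv v' hv' e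
        by_contra hne
        obtain ⟨hw1, M, hM, hMp, hwM⟩ := hw
        refine hw1 (h.hyp.fpf' hM.1.cop (R.mul_mem (R.inv_mem hv') hv)
          (fun e' => hne (inv_mul_eq_one.1 e').symm) hwM ?_)
        show w * (v'⁻¹ * v) = v'⁻¹ * v * w
        calc w * (v'⁻¹ * v) = v'⁻¹ * (v' * w * v'⁻¹) * v := by group
          _ = _ := by rw [← e]; group
      have hfO : ∀ u, u ∈ (Wp x 2).toFinset.filter (fun z => f z = f w) ↔ u ∈ f w := by
        intro u
        simp only [Finset.mem_filter, Set.mem_toFinset, f]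
        constructor
        · rintro ⟨-, e⟩
          rw [← e]
          exact Finset.mem_image.2 ⟨1, by simp [R.one_mem], by simp⟩
        · intro hu
          obtain ⟨v, hv, rfl⟩ := Finset.mem_image.1 hu
          simp only [Finset.mem_filter, Finset.mem_univ, true_and] at hv
          refine ⟨inv v hv w hw, ?_⟩
          ext z
          simp only [Finset.mem_image, Finset.mem_filter, Finset.mem_univ, true_and]
          constructor
          · rintro ⟨v', hv', rfl⟩
            exact ⟨v' * v, R.mul_mem hv' hv, by group⟩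
          · rintro ⟨v', hv', rfl⟩
            exact ⟨v' * v⁻¹, R.mul_mem hv' (R.inv_mem hv), by group⟩
      rw [Finset.ext hfO, Finset.card_image_of_injOn (fun v hv v' hv' e => hinj v (by simpa using hv) v'
        (by simpa using hv') e), ← Fintype.card_subtype, ← Nat.card_eq_fintype_card, h.hyp.conf.card]
    · rw [hWc]
      refine Finset.card_biUnion_le.trans ?_
      rw [Finset.sum_const_nat (m := U.card) fun m _ => hUic m, Finset.card_range, hUc, hN]
  · right
    have ha6 : 6 ≤ a := by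
      by_contra hlt
      have : 2 ^ a ≤ 2 ^ 5 := Nat.pow_le_pow_right (by norm_num) (by omega)
      omega
    refine ⟨ha6, ha, ?_⟩
    -- every member has one marked subgroup
    have huniq : ∀ K, Two x K → ∃ C, Marked N K C ∧ ∀ C', Marked N K C' → C' = C := by
      intro K hK
      obtain ⟨g, -, rfl⟩ := all_conj h s hbig hK
      refine ⟨cj g N, c.marked.cj g, fun C' hC' => ?_⟩
      have h1 := hC'.cj g⁻¹
      rw [← cj_mul, inv_mul_cancel, cj_one] at h1
      by_cases e : cj g⁻¹ C' = N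
      · calc C' = cj g (cj g⁻¹ C') := by rw [← cj_mul, mul_inv_cancel, cj_one]
          _ = cj g N := by rw [e]
      · have := (c.marked_facts h h1 e).1
        omega
    let Same : Subgroup G → Subgroup G → Prop := fun K L => ∃ C, Marked N K C ∧ Marked N L C
    have trans' : ∀ K L M, Two x L → Same K L → Same L M → Same K M := by
      rintro K L M hL ⟨C, h1, h2⟩ ⟨C', h3, h4⟩
      obtain ⟨C0, -, hu⟩ := huniq L hL
      exact ⟨C, h1, (hu C h2).trans (hu C' h3).symm ▸ h4⟩
    have symm' : ∀ K L, Same K L → Same L K := fun K L ⟨C, h1, h2⟩ => ⟨C, h2, h1⟩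
    have refl' : ∀ K, Two x K → Same K K := fun K hK => by
      obtain ⟨C, hC, -⟩ := huniq K hK; exact ⟨C, hC, hC⟩
    have key : ∀ (n : ℕ) (K L : Subgroup G), Two x K → Two x L → K ⊓ L ≠ ⊥ →
        Nat.card G ≤ n + Nat.card ↥(K ⊓ L) → Same K L := by
      intro n
      induction n with
      | zero =>
        intro K L hK hL _ hc
        have e : K ⊓ L = ⊤ := Subgroup.eq_top_of_le_card _ (by simpa using hc)
        have : K = L := (top_le_iff.1 (e ▸ inf_le_left)).trans (top_le_iff.1 (e ▸ inf_le_right)).symm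
        exact this ▸ refl' K hK
      | succ n ih =>
        intro K L hK hL hb hc
        rcases eq_or_ne K L with rfl | hne'
        · exact refl' K hK
        set D := K ⊓ L with hD
        have hDi : Inv3 x D := ⟨fun k hk => ⟨hK.max.1.inv k hk.1, hL.max.1.inv k hk.2⟩,
          fun h3 => hK.max.1.cop (h3.trans (Subgroup.card_dvd_of_le inf_le_left))⟩
        have hxD := x_mem_normalizer hDi
        have step : ∀ K L, Two x K → Two x L → D < K ⊓ L → Same K L := fun K L hK hL hlt => by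
          refine ih K L hK hL (fun e => hb (le_bot_iff.1 (e ▸ hlt.le))) ?_
          have hnc : ¬ Nat.card ↥(K ⊓ L) ≤ Nat.card D := fun hle =>
            hlt.ne (Subgroup.eq_of_le_of_card_ge hlt.le hle)
          omega
        have grow : ∀ M, Two x M → D < M → ∃ E, Inv3 x E ∧ D < E ∧ E ≤ M ∧
            E ≤ Subgroup.normalizer (D : Set G) := by
          intro M hM hlt
          haveI := hM.two.isNilpotent
          exact ⟨M ⊓ Subgroup.normalizer (D : Set G), ⟨fun k hk => ⟨hM.max.1.inv k hk.1,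
            Subgroup.mul_mem _ (Subgroup.mul_mem _ hxD hk.2) (inv_mem hxD)⟩,
            fun h3 => hM.max.1.cop (h3.trans (Subgroup.card_dvd_of_le inf_le_left))⟩,
            lt_inf_normalizer hlt, inf_le_left, inf_le_right⟩
        have l1 : D < K := lt_of_le_of_ne inf_le_left fun e =>
          hne' (hK.max.2 L hL.max.1 (e ▸ inf_le_right)).symm
        have l2 : D < L := lt_of_le_of_ne inf_le_right fun e =>
          hne' (hL.max.2 K hK.max.1 (e ▸ inf_le_left))
        obtain ⟨E1, i1, d1, k1, n1⟩ := grow K hK l1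
        obtain ⟨E2, i2, d2, k2, n2⟩ := grow L hL l2
        have above : ∀ E, Inv3 x E → D ≤ E → ∃ M, Two x M ∧ E ≤ M := by
          intro E hE hDE
          obtain ⟨M, hM, hEM⟩ := exists_maxI x hE
          have hp := h.pgroup_of_le (Or.inl rfl) hM (hDE.trans hEM) hb (hK.two.to_le inf_le_left)
          exact ⟨M, ⟨hM, hp, fun e => hb (le_bot_iff.1 (e ▸ hDE.trans hEM))⟩, hEM⟩
        rcases h.hyp.loc hDi hb with ⟨C, hC⟩ | ⟨N0, T0, hF⟩
        · obtain ⟨M, hM, hCM⟩ := above C hC.inv (hC.max D Subgroup.le_normalizer hDi)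
          exact trans' K M L hM
            (step K M hK hM (d1.trans_le (le_inf k1 ((hC.max E1 n1 i1).trans hCM))))
            (step M L hM hL (d2.trans_le (le_inf ((hC.max E2 n2 i2).trans hCM) k2)))
        · obtain ⟨hDN, hN0, hN01⟩ := five_core_ne h.hyp hDi hb hF
          rcases hDN.lt_or_eq with hlt | heq
          · obtain ⟨M1, hM1, e1⟩ := above _ (inv3_sup i1 hN0 (n1.trans hF.norm)) (d1.le.trans le_sup_left)
            obtain ⟨M2, hM2, e2⟩ := above _ (inv3_sup i2 hN0 (n2.trans hF.norm)) (d2.le.trans le_sup_left)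
            exact trans' K M1 L hM1 (step K M1 hK hM1 (d1.trans_le (le_inf k1 (le_sup_left.trans e1))))
              (trans' M1 M2 L hM2
                (step M1 M2 hM1 hM2 (hlt.trans_le (le_inf (le_sup_right.trans e1) (le_sup_right.trans e2))))
                (step M2 L hM2 hL (d2.trans_le (le_inf (le_sup_left.trans e2) k2))))
          · rw [← heq] at hF
            have c0 : Core x D T0 := ⟨hF, hDi, hb⟩
            obtain ⟨s0, -⟩ := c0.two h
            obtain ⟨g, -, hg⟩ := all_conj h s hbig s0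
            have hc0 : Nat.card D = Nat.card N := by
              have h1 := (c0.card_T h).2
              rw [hg, card_cj, hT4] at h1
              omega
            exact ⟨D, ⟨inf_le_left, c0.five.sq, hc0⟩, ⟨inf_le_right, c0.five.sq, hc0⟩⟩
    have hdisj : ∀ m < 3, ∀ l < 3, m ≠ l → Disjoint (Ui m) (Ui l) := by
      intro m hm l hl hml
      rw [Finset.disjoint_left]
      intro w hwm hwl
      rw [memUi] at hwm hwl
      have hone : ∀ j : ℕ, ∀ K, (K = cj (r ^ j) T ∨ K = cj (r ^ j) (cj i T)) →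
          Two x K ∧ ∀ C, Marked N K C → C = cj (r ^ j) N := by
        rintro j K hK
        have hK2 : Two x K := by
          rcases hK with rfl | rfl
          · exact hTwo _ (R.pow_mem hrR j) _ s
          · exact hTwo _ (R.pow_mem hrR j) _ hT'
        obtain ⟨C0, -, hu⟩ := huniq K hK2
        have hN' : Marked N K (cj (r ^ j) N) := by
          rcases hK with rfl | rfl
          · exact c.marked.cj _
          · have h1 := (c.marked.cj i).cj (r ^ j)
            rwa [hiN] at h1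
        exact ⟨hK2, fun C hC => (hu C hC).trans (hu _ hN').symm⟩
      obtain ⟨K, hK, hwK⟩ : ∃ K, (K = cj (r ^ m) T ∨ K = cj (r ^ m) (cj i T)) ∧ w ∈ K := by
        rcases hwm.2 with e | e
        exacts [⟨_, Or.inl rfl, e⟩, ⟨_, Or.inr rfl, e⟩]
      obtain ⟨L, hL, hwL⟩ : ∃ L, (L = cj (r ^ l) T ∨ L = cj (r ^ l) (cj i T)) ∧ w ∈ L := by
        rcases hwl.2 with e | e
        exacts [⟨_, Or.inl rfl, e⟩, ⟨_, Or.inr rfl, e⟩]
      obtain ⟨hK2, uK⟩ := hone m K hK
      obtain ⟨hL2, uL⟩ := hone l L hL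
      obtain ⟨C, c1, c2⟩ := key (Nat.card G) K L hK2 hL2
        (fun e => hwm.1 ((Subgroup.eq_bot_iff_forall _).1 e w ⟨hwK, hwL⟩)) (Nat.le_add_right _ _)
      have e : cj (r ^ m) N = cj (r ^ l) N := (uK C c1).symm.trans (uL C c2)
      have hn : (r ^ l)⁻¹ * r ^ m ∈ Subgroup.normalizer (N : Set G) :=
        cj_eq_self_iff.1 (by rw [cj_mul, e, ← cj_mul, inv_mul_cancel, cj_one])
      have hz := h.hyp.mem_zpowers_of_normalizes c.inv c.ne
        (R.mul_mem (R.inv_mem (R.pow_mem hrR l)) (R.pow_mem hrR m)) hn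
      have hr3 : r ^ 3 = 1 := h.hyp.conf.exp r hrR
      have hk : ∀ k : ℕ, k = 1 ∨ k = 2 → r ^ k ∉ Subgroup.zpowers x := by
        rintro k (rfl | rfl) hk
        · exact hrx (by simpa using hk)
        · refine hrx ?_
          have := Subgroup.mul_mem _ hk hk
          rwa [← pow_add, show (2 + 2 : ℕ) = 3 + 1 from rfl, pow_succ, hr3, one_mul] at this
      have e3 : (r ^ l)⁻¹ = r ^ (3 - l) := inv_eq_of_mul_eq_one_right (by
        rw [← pow_add, show l + (3 - l) = 3 by omega, hr3])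
      rw [e3, ← pow_add] at hz
      have hz' : r ^ ((3 - l + m) % 3) ∈ Subgroup.zpowers x := by
        rwa [← pow_eq_pow_mod _ hr3]
      exact hk _ (by omega) hz'
    rw [hWc, Finset.card_biUnion fun m hm l hl hml =>
      hdisj m (Finset.mem_range.1 hm) l (Finset.mem_range.1 hl) hml,
      Finset.sum_const_nat (m := U.card) fun m _ => hUic m, Finset.card_range, hUc]
    have e4 : 2 ^ a = 4 * 2 ^ (a - 2) := by
      rw [show (4 : ℕ) = 2 ^ 2 from rfl, ← pow_add]; congr 1; omega
    omega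

end Cfsg.Agent.S2220Five8
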