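import Mathlib
import Cfsg.Agent.Lib.S2220Chars8
import Cfsg.Agent.Lib.S2220Five8

/-!
No simple group of order `9 * 2^a * q^b` has a self-centralising Sylow 3-subgroup of exponent three
with all its non-trivial elements conjugate.
-/

set_option autoImplicit false
set_option linter.unusedSectionVars false
set_option linter.style.haveILetI false

namespace Cfsg.Agent.S2220Main8

open SelfCentThreeBase SelfCentThreeLocal SelfCentNineA6Core64 S2220Local8 S2220Count8 S2220Two8
  S2220Five8 S2220Arith8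

universe u

variable {G : Type u} [Group G] [Finite G] {R : Subgroup G} {x : G} {q a b : ℕ}

theorem caseTwo (h : Ctx R x q a b) : Nat.card (Wp x 2) ∈ t2 q a := by
  by_cases hA : ∀ D : Subgroup G, Inv3 x D → IsPGroup 2 D → D ≠ ⊥ →
      ∃ C, Small x (Subgroup.normalizer (D : Set G)) C
  · rcases caseA h hA with e | ⟨ha, e⟩ | ⟨ha, e⟩
    · simp only [t2, List.mem_append]
      exact Or.inl (Or.inl (Or.inl e))
    · simp only [t2, List.mem_append]
      refine Or.inl (Or.inl (Or.inr ?_))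
      rw [if_pos ha]; simp [e]
    · simp only [t2, List.mem_append]
      refine Or.inl (Or.inl (Or.inr ?_))
      rw [if_neg (by omega)]; simp [e]
  · push Not at hA
    obtain ⟨D, hD, -, hD1, hns⟩ := hA
    obtain ⟨N, T, c⟩ := exists_core h.hyp hD hD1 (fun ⟨C, hC⟩ => hns C hC)
    obtain ⟨hq, e | ⟨ha6, ha, e⟩⟩ := caseB h c
    · obtain ⟨ha, ⟨k, hk⟩, hle⟩ := e
      simp only [t2, List.mem_append]
      refine Or.inr ?_
      rw [if_pos ⟨hq, ha⟩]
      exact List.mem_map.2 ⟨k, List.mem_range.2 (by omega), hk.symm⟩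
    · simp only [t2, List.mem_append]
      refine Or.inl (Or.inr ?_)
      rw [if_pos ⟨hq, ha6, ha⟩]; simp [e]

theorem caseOdd (h : Ctx R x q a b) :
    ∃ e, Nat.card (Wp x q) = e * (q ^ b - 1) ∧
      (e = 0 ∨ (e = 3 ∨ e = 6) ∧ q ^ b % 3 = 1 ∧ (q : ℤ) ∣ 3 * 2 ^ sExp e a - 1) := by
  haveI : Fact q.Prime := ⟨h.prime⟩
  by_cases hex : ∃ M, MaxI x M ∧ IsPGroup q M ∧ M ≠ ⊥
  swap
  · refine ⟨0, ?_, Or.inl rfl⟩
    rw [zero_mul, Nat.card_eq_zero]
    refine Or.inl ⟨fun w => ?_⟩
    obtain ⟨w, hw, M, hM, hMp, hwM⟩ := w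
    exact hex ⟨M, hM, hMp, fun e => hw ((Subgroup.eq_bot_iff_forall M).1 e w hwM)⟩
  obtain ⟨M, hM, hMp, hM1⟩ := hex
  have hqc : ∀ P : Sylow q G, Nat.card (P : Subgroup G) = q ^ b := fun P =>
    SimpleOrder.sylow_card_of_eq (m := 9 * 2 ^ a) (by rw [h.card]; ring) (fun hd => by
      rcases (Nat.Prime.dvd_mul h.prime).1 hd with e | e
      · exact h.ne_three ((Nat.prime_dvd_prime_iff_eq h.prime Nat.prime_three).1
          (h.prime.dvd_of_dvd_pow (show q ∣ 3 ^ 2 by simpa using e)))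
      · exact h.ne_two ((Nat.prime_dvd_prime_iff_eq h.prime Nat.prime_two).1
          (h.prime.dvd_of_dvd_pow e))) P
  have syl : ∀ K, MaxI x K → IsPGroup q K → K ≠ ⊥ → ∃ P : Sylow q G, (P : Subgroup G) = K := by
    intro K hK hKp hK1
    obtain ⟨P, hP⟩ := hKp.exists_le_sylow
    refine ⟨P, ?_⟩
    by_contra hne
    have hlt : K < (P : Subgroup G) := lt_of_le_of_ne hP (Ne.symm hne)
    haveI : Group.IsNilpotent (P : Subgroup G) := P.isPGroup'.isNilpotent
    have hlt' := lt_inf_normalizer hlt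
    obtain ⟨l, hl⟩ := IsPGroup.iff_card.1 (P.isPGroup'.to_le
      (inf_le_left : (P : Subgroup G) ⊓ Subgroup.normalizer (K : Set G) ≤ P))
    have hd := Subgroup.card_dvd_of_le
      (inf_le_right : (P : Subgroup G) ⊓ Subgroup.normalizer (K : Set G) ≤ _)
    rw [hl] at hd
    have hco : ∀ c, 0 < c → c ∣ 6 → Nat.Coprime (q ^ l) c := fun c hc0 hc => by
      refine Nat.Coprime.pow_left _ ((h.prime.coprime_iff_not_dvd).2 fun hd => ?_)
      have := Nat.le_of_dvd hc0 hd
      have := Nat.le_of_dvd (by norm_num) hc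
      have h5 := h.five_le
      rcases (show q = 5 ∨ q = 6 by omega) with e | e
      · have h6 := hd.trans hc; rw [e] at h6; norm_num at h6
      · have h' := h.prime; rw [e] at h'; norm_num at h'
    have hdj : q ^ l ∣ Nat.card K := by
      rcases (h.hyp.maxI_small hK hK1).card with e | e <;> rw [e] at hd <;>
        exact (hco _ (by norm_num) (by norm_num)).dvd_of_dvd_mul_left hd
    exact hlt'.ne (Subgroup.eq_of_le_of_card_ge hlt'.le (hl ▸ Nat.le_of_dvd Nat.card_pos hdj))
  obtain ⟨P, hP⟩ := syl M hM hMp hM1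
  have hMc : Nat.card M = q ^ b := hP ▸ hqc P
  have hS := h.hyp.maxI_small hM hM1
  have hW := h.card_Wp hM hMp (fun K hK hKp hK1 => by
      obtain ⟨Q, hQ⟩ := syl K hK hKp hK1
      obtain ⟨g, hg⟩ := MulAction.exists_smul_eq G P Q
      have e : K = cj g M := by rw [← hQ, ← hP, ← hg, Sylow.coe_subgroup_smul]; rfl
      subst e
      exact h.hyp.exists_norm_conj hS.not_nine (x_mem_normalizer hM.1) (x_mem_normalizer hK.1))
    (fun K L hK hL pK pL hne => meet_eq h.hyp (fun D hD hDp hD1 => h.small_odd hD hDp hD1)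
      (fun M hM D hDM hD1 hDp => h.pgroup_of_le (Or.inr rfl) hM hDM hD1 hDp) hK hL pK pL hne)
  have hm3 := h.hyp.card_mod hM.1
  rw [hMc] at hW hm3
  have hxM := x_mem_normalizer hM.1
  have hidx := (Subgroup.normalizer (M : Set G)).card_mul_index
  have hsy : (Nat.card (Sylow q G)) = (Subgroup.normalizer (M : Set G)).index := by
    rw [← hP]; exact P.card_eq_index_normalizer
  have hcong : (q : ℤ) ∣ ((Subgroup.normalizer (M : Set G)).index : ℤ) - 1 := by
    have := (Nat.modEq_iff_dvd.1 (card_sylow_modEq_one q G).symm)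
    rw [hsy] at this
    exact_mod_cast this
  rw [h.card] at hidx
  have hq0 : 0 < q ^ b := pow_pos h.prime.pos b
  rcases h.hyp.card_norm_in hxM (h.hyp.sc hM.1 hM1 le_rfl hxM) hS.not_nine with
    ⟨hc, h9⟩ | ⟨hc, h9, -⟩
  · rw [hc] at hW
    rcases hS.card with e | e <;> rw [e, hMc] at h9
    · refine ⟨6, by omega, Or.inr ⟨Or.inr rfl, hm3, ?_⟩⟩
      rw [e, hMc] at hidx
      have h3 : (Subgroup.normalizer (M : Set G)).index = 3 * 2 ^ a :=
        Nat.eq_of_mul_eq_mul_left (show 0 < 3 * q ^ b by omega) (hidx.trans (by ring))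
      rw [h3] at hcong
      simp only [sExp, if_pos]
      push_cast at hcong
      exact hcong
    · omega
  · rw [hc] at hW
    rcases hS.card with e | e <;> rw [e, hMc] at h9
    · omega
    · refine ⟨3, by omega, Or.inr ⟨Or.inl rfl, hm3, ?_⟩⟩
      rw [e, hMc] at hidx
      have ha : 2 ^ a = 2 * 2 ^ (a - 1) := by
        rw [← pow_succ']; congr 1; have := h.three_le; omega
      have h3 : (Subgroup.normalizer (M : Set G)).index = 3 * 2 ^ (a - 1) :=
        Nat.eq_of_mul_eq_mul_left (show 0 < 6 * q ^ b by omega) (hidx.trans (by rw [ha]; ring))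
      rw [h3] at hcong
      rw [show sExp 3 a = a - 1 by simp [sExp]]
      push_cast at hcong
      exact hcong

/-- There is no such group. -/
theorem false_of_one_class [IsSimpleGroup G] (hG : ¬ IsMulCommutative G) (hq : q.Prime) (hq2 : q ≠ 2)
    (hq3 : q ≠ 3) (hcard : Nat.card G = 9 * 2 ^ a * q ^ b) (h : Conf R) (P : Sylow 3 G)
    (hP : (P : Subgroup G) = R) (hfused : ∀ u ∈ R, ∀ v ∈ R, u ≠ 1 → v ≠ 1 → IsConj u v) : False := by
  obtain ⟨x, hx, hx1⟩ : ∃ x ∈ R, x ≠ 1 := by
    by_contra hno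
    push Not at hno
    have := h.card
    rw [(Subgroup.eq_bot_iff_forall R).2 hno, Subgroup.card_bot] at this
    omega
  have hf : ∀ v ∈ R, v ≠ 1 → IsConj x v := fun v hv hv1 => hfused x hx v hv hx1 hv1
  have hq5 : 5 ≤ q := by
    rcases (show q = 4 ∨ 5 ≤ q by have := hq.two_le; omega) with e | e
    · rw [e] at hq; norm_num at hq
    · exact e
  have hb : 1 ≤ b := by
    by_contra hb0
    have hb' : b = 0 := by omega
    refine SimpleOrdersSmall.card_ne_two_primes hG (n := Nat.card G) (p := 3) (q := 2) (a := 2) (b := a)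
      Nat.prime_three Nat.prime_two ?_ rfl
    rw [hcard, hb', pow_zero, mul_one]; norm_num
  have ha : 3 ≤ a := by
    have hd := Subgroup.card_subgroup_dvd_card (Subgroup.normalizer (R : Set G))
    rw [S2220Chars8.card_normalizer h hx hx1 hf, hcard, show 9 * 2 ^ a * q ^ b = 9 * (2 ^ a * q ^ b) by ring,
      show 72 = 9 * 8 by norm_num] at hd
    have h8 := Nat.dvd_of_mul_dvd_mul_left (by norm_num) hd
    have h8' : 2 ^ 3 ∣ 2 ^ a := (Nat.Coprime.dvd_of_dvd_mul_right
      (Nat.Coprime.pow 3 b ((Nat.coprime_primes Nat.prime_two hq).2 hq2.symm)) h8)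
    exact (Nat.pow_dvd_pow_iff_le_right (by norm_num)).1 h8'
  have ctx : Ctx R x q a b :=
    ⟨⟨h, hx, hx1, ⟨P, hP⟩, hf⟩, inferInstance, hG, hq, hq5, hb, ha, hcard⟩
  obtain ⟨S, c, d, hdata⟩ := S2220Chars8.exists_data hG h hx hx1 hf hq hq3 hcard (card_triangle ctx.hyp)
  obtain ⟨e, he, hcond⟩ := caseOdd ctx
  rw [ctx.card_W, he] at hdata
  obtain ⟨rfl, rfl, rfl, -, -⟩ := hdata.impossible hq hq5 hb (by omega) (caseTwo ctx) hcond
  haveI : Fact (Nat.Prime 17) := ⟨hq⟩
  obtain ⟨Q⟩ : Nonempty (Sylow 17 G) := inferInstance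
  have hQ : Nat.card (Q : Subgroup G) = 17 := by
    rw [SimpleOrder.sylow_card_of_eq (k := 1) (m := 576) (by rw [hcard]; norm_num) (by norm_num) Q, pow_one]
  have hmul := (Subgroup.normalizer ((Q : Subgroup G) : Set G)).card_mul_index
  have hi : (Subgroup.normalizer ((Q : Subgroup G) : Set G)).index = Nat.card (Sylow 17 G) :=
    Q.card_eq_index_normalizer.symm
  have hd := SimpleOrder.card_sylow_dvd (p := 17) (k := 1) (m := 576) (G := G)
    (by rw [hcard]; norm_num) (by norm_num)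
  have h1 := card_sylow_modEq_one 17 G
  have hne := SimpleOrder.card_sylow_ne_one (p := 17) hG (by rw [hcard]; norm_num)
  have key : ∀ d ∈ Nat.divisors 576, d % 17 = 1 → d ≠ 1 → d = 18 := by decide +kernel
  have h18 := key _ (Nat.mem_divisors.2 ⟨hd, by norm_num⟩) h1 hne
  rw [hi, h18, hcard] at hmul
  have htop : Subgroup.normalizer ((Q : Subgroup G) : Set G) ≠ ⊤ := fun e => by
    rw [e, Subgroup.index_top] at hi
    omega
  have := (SimpleOrder.card_normalizer_dvd_of_index hG hq2 Q hQ _ htop (by rw [hi, h18]; norm_num)).1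
  rw [hi, h18, show Nat.card ↥(Subgroup.normalizer ((Q : Subgroup G) : Set G)) = 544 by
    norm_num at hmul ⊢; omega] at this
  norm_num [Nat.factorial] at this

end Cfsg.Agent.S2220Main8
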