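import Cfsg.Agent.Lib.S3284Setting23

/-!
# Elementary consequences of the bridge between `Q` and its module (for S3284)
-/

set_option autoImplicit false

namespace Cfsg.Agent.S3284Setting23

open Cfsg.Agent.S3284Group23 Cfsg.Agent.S3284Model23 Cfsg.Agent.LargeExtraspecial

universe u

variable {G : Type u} [Group G] {Q : Subgroup G} {z : G} {π : G → A3}

/-- A subgroup of `C(z)` has an image in `H0`. -/
theorem Sett.exists_image (S : Sett Q z π) (P : Subgroup G) (hP : ∀ x ∈ P, x * z = z * x) :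
    ∃ A : Subgroup A3, A ≤ H0 ∧ (∀ k, k ∈ A ↔ ∃ x ∈ P, π x = k) ∧
      Nat.card P = Nat.card A * Nat.card (P ⊓ Q : Subgroup G) := by
  let φ : P →* A3 := MonoidHom.mk' (fun x => π x) fun x y => S.mul x y (hP x x.2) (hP y y.2)
  refine ⟨φ.range, ?_, fun k => ⟨fun ⟨x, hx⟩ => ⟨x, x.2, hx⟩, fun ⟨x, hx, e⟩ => ⟨⟨x, hx⟩, e⟩⟩, ?_⟩
  · rintro _ ⟨x, rfl⟩; exact S.img x (hP x x.2)
  · have h := Subgroup.card_eq_card_quotient_mul_card_subgroup φ.ker
    rw [Nat.card_congr (QuotientGroup.quotientKerEquivRange φ).toEquiv] at h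
    have e : φ.ker = (P ⊓ Q).subgroupOf P := by
      ext x
      rw [MonoidHom.mem_ker, Subgroup.mem_subgroupOf]
      exact ⟨fun hx => ⟨x.2, (S.ker _ (hP x x.2)).mp hx⟩, fun hx => S.of_Q hx.2⟩
    rw [e, Nat.card_congr (Subgroup.subgroupOfEquivOfLe inf_le_left).toEquiv] at h
    exact h

theorem Sett.image_isPGroup (S : Sett Q z π) {P : Subgroup G} (hP : ∀ x ∈ P, x * z = z * x)
    {A : Subgroup A3} (hA : ∀ k, k ∈ A ↔ ∃ x ∈ P, π x = k) (h2 : IsPGroup 2 P) : IsPGroup 2 A := by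
  rintro ⟨k, hk⟩
  obtain ⟨x, hx, rfl⟩ := (hA k).mp hk
  obtain ⟨n, hn⟩ := h2 ⟨x, hx⟩
  have e : x ^ 2 ^ n = 1 := congrArg Subtype.val hn
  refine ⟨n, Subtype.ext ?_⟩
  show π x ^ 2 ^ n = 1
  rw [← S.pow (hP x hx), e, S.one]

theorem Sett.image_comm (S : Sett Q z π) {P : Subgroup G} (hP : ∀ x ∈ P, x * z = z * x)
    {A : Subgroup A3} (hA : ∀ k, k ∈ A ↔ ∃ x ∈ P, π x = k) (hc : ∀ x ∈ P, ∀ y ∈ P, x * y = y * x) :
    ∀ a ∈ A, ∀ b ∈ A, a * b = b * a := by
  intro a ha b hb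
  obtain ⟨x, hx, rfl⟩ := (hA a).mp ha
  obtain ⟨y, hy, rfl⟩ := (hA b).mp hb
  rw [← S.mul x y (hP x hx) (hP y hy), hc x hx y hy, S.mul y x (hP y hy) (hP x hx)]

namespace Bridge

variable {V : Type u} [AddCommGroup V] [Module (ZMod 2) V] {R : Rep V} {p : G → V}
  (B : Bridge Q z π R p)
include B

theorem map_one : p 1 = 0 := (B.eq_zero 1 Q.one_mem).mpr (Or.inl rfl)

theorem map_z (hz : z ∈ Q) : p z = 0 := (B.eq_zero z hz).mpr (Or.inr rfl)

theorem map_inv {x : G} (hx : x ∈ Q) : p x⁻¹ = p x := by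
  have e := B.map_mul x⁻¹ (Q.inv_mem hx) x hx
  rw [inv_mul_cancel, B.map_one] at e
  calc p x⁻¹ = p x⁻¹ + (p x + p x) := by rw [ZModModule.add_self, add_zero]
    _ = p x := by rw [← add_assoc, ← e, zero_add]

theorem eq_iff (hz : z ∈ Q) {x y : G} (hx : x ∈ Q) (hy : y ∈ Q) :
    p x = p y ↔ y = x ∨ y = x * z := by
  constructor
  · intro e
    have h0 : p (x⁻¹ * y) = 0 := by
      rw [B.map_mul _ (Q.inv_mem hx) _ hy, B.map_inv hx, e, ZModModule.add_self]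
    rcases (B.eq_zero _ (Q.mul_mem (Q.inv_mem hx) hy)).mp h0 with h | h
    · exact Or.inl (inv_mul_eq_one.mp h).symm
    · exact Or.inr (inv_mul_eq_iff_eq_mul.mp h)
  · rintro (rfl | rfl)
    · rfl
    · rw [B.map_mul x hx z hz, B.map_z hz, add_zero]

theorem q_one {x : G} (hx : x ∈ Q) (h : R.q (p x) = 1) : x * x ≠ 1 := fun e => by
  rw [(B.sq x hx).mpr e] at h; exact zero_ne_one h

/-- The preimage of a subspace. -/
def pre (X : Submodule (ZMod 2) V) : Subgroup G where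
  carrier := {x | x ∈ Q ∧ p x ∈ X}
  one_mem' := ⟨Q.one_mem, by rw [B.map_one]; exact X.zero_mem⟩
  mul_mem' {x y} hx hy := ⟨Q.mul_mem hx.1 hy.1, by
    rw [B.map_mul x hx.1 y hy.1]; exact X.add_mem hx.2 hy.2⟩
  inv_mem' {x} hx := ⟨Q.inv_mem hx.1, by rw [B.map_inv hx.1]; exact hx.2⟩

theorem mem_pre {X : Submodule (ZMod 2) V} {x : G} : x ∈ B.pre X ↔ x ∈ Q ∧ p x ∈ X := Iff.rfl

theorem card_pre (hz : z ∈ Q) (hz1 : z ≠ 1) (X : Submodule (ZMod 2) V) :
    Nat.card (B.pre X) = 2 ^ (Module.finrank (ZMod 2) X + 1) := by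
  haveI := R.findim
  let φ : B.pre X →* Multiplicative X :=
    MonoidHom.mk' (fun x => Multiplicative.ofAdd ⟨p x, x.2.2⟩) fun x y =>
      congrArg Multiplicative.ofAdd (Subtype.ext (B.map_mul x x.2.1 y y.2.1))
  have hs : Function.Surjective φ := by
    intro v
    obtain ⟨x, hx, e⟩ := B.surj (Multiplicative.toAdd v : X)
    exact ⟨⟨x, hx, e ▸ (Multiplicative.toAdd v).2⟩, congrArg Multiplicative.ofAdd (Subtype.ext e)⟩
  have h := Subgroup.card_eq_card_quotient_mul_card_subgroup φ.ker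
  rw [Nat.card_congr (QuotientGroup.quotientKerEquivOfSurjective φ hs).toEquiv,
    Nat.card_congr (Multiplicative.toAdd : Multiplicative X ≃ X),
    Module.natCard_eq_pow_finrank (K := ZMod 2) (V := X), Nat.card_zmod] at h
  have hmem : ∀ c : B.pre X, c ∈ φ.ker ↔ (c : G) = 1 ∨ (c : G) = z := fun c => by
    rw [MonoidHom.mem_ker, ← B.eq_zero c c.2.1]
    exact ⟨fun e => congrArg (fun v : Multiplicative X => ((Multiplicative.toAdd v : X) : V)) e,
      fun e => congrArg Multiplicative.ofAdd (Subtype.ext e)⟩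
  have hzX : z ∈ B.pre X := ⟨hz, by rw [B.map_z hz]; exact X.zero_mem⟩
  have h2 : Nat.card φ.ker = 2 := by
    refine (Nat.card_eq_two_iff' (1 : φ.ker)).mpr
      ⟨⟨⟨z, hzX⟩, (hmem _).mpr (Or.inr rfl)⟩, ?_, ?_⟩
    · exact fun e => hz1 (congrArg (fun c : φ.ker => ((c : B.pre X) : G)) e)
    · intro c hc
      rcases (hmem c).mp c.2 with e | e
      · exact absurd (Subtype.ext (Subtype.ext e)) hc
      · exact Subtype.ext (Subtype.ext e)
  rw [h, h2, pow_succ]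

end Bridge

end Cfsg.Agent.S3284Setting23
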