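import Cfsg.Agent.Lib.S3284Bridge23
import Mathlib.GroupTheory.Sylow

/-!
# The centraliser of an element of order three over `a0` (for S3284)
-/

set_option autoImplicit false

namespace Cfsg.Agent.S3284Cent23

open Cfsg.Agent.S3284Group23 Cfsg.Agent.S3284Model23 Cfsg.Agent.S3284Setting23
open Cfsg.Agent.LargeExtraspecial
open Equiv (Perm)

universe u

theorem cent_four : ∀ σ : Perm (Fin 6), Perm.sign σ = 1 → σ * x0 = x0 * σ → σ * σ ≠ 1 →
    ∀ τ : Perm (Fin 6), Perm.sign τ = 1 → τ * x0 = x0 * τ → τ * τ ≠ 1 →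
      σ = τ ∨ σ * τ = 1 := by decide +kernel

theorem cent_center : ∀ σ : Perm (Fin 6), Perm.sign σ = 1 → σ * x0 = x0 * σ →
    (∀ τ : Perm (Fin 6), Perm.sign τ = 1 → τ * x0 = x0 * τ → σ * τ = τ * σ) →
      σ = 1 ∨ σ = x0 := by decide +kernel

theorem card_Hin : Nat.card Hin = 1080 := by
  have e := Nat.card_congr (Subgroup.prodEquiv (alternatingGroup (Fin 3)) (alternatingGroup (Fin 6))).toEquiv
  rw [Nat.card_prod, nat_card_alternatingGroup, nat_card_alternatingGroup, Nat.card_fin, Nat.card_fin] at e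
  exact e

theorem inner_two_le {A : Subgroup A3} (hA : A ≤ Hin) (h2 : IsPGroup 2 A) : Nat.card A ≤ 8 := by
  obtain ⟨n, hn⟩ := h2.exists_card_eq
  have h := Subgroup.card_dvd_of_le hA
  rw [hn, card_Hin] at h
  rw [hn]
  have : n < 4 := by
    by_contra hc
    have : 2 ^ 4 ∣ 1080 := dvd_trans (pow_dvd_pow 2 (by omega)) h
    norm_num at this
  calc 2 ^ n ≤ 2 ^ 3 := Nat.pow_le_pow_right (by norm_num) (by omega)
    _ = 8 := by norm_num

variable {G : Type u} [Group G] [Finite G] {Q : Subgroup G} {z : G} {π : G → A3}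
  {V : Type u} [AddCommGroup V] [Module (ZMod 2) V] {R : Rep V} {p : G → V}

/-- An element of order three over `a0`. -/
theorem exists_a (S : Sett Q z π) : ∃ a, a * z = z * a ∧ π a = a0 ∧ a ^ 3 = 1 := by
  obtain ⟨m, hm, hπ⟩ := S.surj a0 (Hin_le a0_mem)
  have h3 : m ^ 3 ∈ Q :=
    (S.ker _ (Commute.pow_left hm 3).eq).mp (by rw [S.pow hm, hπ, a0_cube])
  refine ⟨m ^ 4, (Commute.pow_left hm 4).eq, ?_, ?_⟩
  · rw [S.pow hm, hπ, pow_succ, a0_cube, one_mul]
  · rw [← pow_mul, show 4 * 3 = 3 * 4 from rfl, pow_mul, S.h.pow_four h3]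

/-- The data of a fixed-point-free element of order three over `a0`. -/
structure AEl (Q : Subgroup G) (z : G) (π : G → A3) (R : Rep V) (p : G → V) (a : G) : Prop where
  S : Sett Q z π
  B : Bridge Q z π R p
  u0 : R.U0
  az : a * z = z * a
  aπ : π a = a0
  a3 : a ^ 3 = 1

namespace AEl

variable {a : G} (E : AEl Q z π R p a)
include E

theorem cQ {x : G} (hx : x ∈ Q) (hxa : x * a = a * x) : x = 1 ∨ x = z := by
  refine (E.B.eq_zero x hx).mp (E.u0 _ ?_)
  rw [← E.aπ, ← E.B.act a E.az x hx, ← hxa, mul_inv_cancel_right]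

theorem all_conj {y : G} (hy : y * z = z * y) (hπ : π y = a0) (hy3 : y ^ 3 = 1) :
    ∃ q ∈ Q, q * a * q⁻¹ = y := by
  haveI := R.findim
  set w := a⁻¹ * y with hw
  have hwz : w * z = z * w := ((Commute.inv_left E.az).mul_left hy).eq
  have hwQ : w ∈ Q := (E.S.ker w hwz).mp (by
    rw [hw, E.S.mul _ _ (Commute.inv_left E.az).eq hy, E.S.inv E.az, E.aπ, hπ, inv_mul_cancel])
  have hinj : Function.Injective (R.ρ a0⁻¹ + 1 : Module.End (ZMod 2) V) := by
    rw [← LinearMap.ker_eq_bot, LinearMap.ker_eq_bot']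
    intro v hv
    have e : R.ρ a0⁻¹ v = v := R.mem_fix.mp hv
    refine E.u0 v ?_
    conv_lhs => rw [← e]
    exact R.act_inv' R.a0_H0 v
  obtain ⟨v, hv⟩ := LinearMap.surjective_of_injective hinj (p w)
  obtain ⟨q, hq, rfl⟩ := E.B.surj v
  have hqz := E.S.h.comm q hq
  have haiz : a⁻¹ * z = z * a⁻¹ := (Commute.inv_left E.az).eq
  have hc : a⁻¹ * q * a * q⁻¹ ∈ Q := by
    have := Q.mul_mem (E.S.h.norm a⁻¹ haiz q hq) (Q.inv_mem hq)
    rwa [inv_inv] at this
  have hp : p (a⁻¹ * q * a * q⁻¹) = p w := by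
    have e : a⁻¹ * q * a * q⁻¹ = a⁻¹ * q * a⁻¹⁻¹ * q⁻¹ := by group
    rw [e, E.B.map_mul _ (E.S.h.norm a⁻¹ haiz q hq) _ (Q.inv_mem hq), E.B.act a⁻¹ haiz q hq,
      E.B.map_inv hq, E.S.inv E.az, E.aπ]
    exact hv
  rcases (E.B.eq_iff E.S.h.mem hc hwQ).mp hp with e | e
  · refine ⟨q, hq, ?_⟩
    calc q * a * q⁻¹ = a * (a⁻¹ * q * a * q⁻¹) := by group
      _ = y := by rw [← e, hw, mul_inv_cancel_left]
  · exfalso
    apply E.S.h.ne_one
    have hy' : y = q * a * q⁻¹ * z := by
      calc y = a * w := by rw [hw, mul_inv_cancel_left]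
        _ = _ := by rw [e]; group
    have hc' : Commute (q * a * q⁻¹) z :=
      (Commute.mul_left hqz E.az).mul_left (Commute.inv_left hqz)
    rw [hy', hc'.mul_pow, conj_pow, E.a3, mul_one, mul_inv_cancel, one_mul, pow_succ, pow_two,
      E.S.h.zz, one_mul] at hy3
    exact hy3

theorem exists_cent {k : A3} (hk : k ∈ Hin) : ∃ l, l * z = z * l ∧ l * a = a * l ∧ π l = k := by
  obtain ⟨l, hl, rfl⟩ := E.S.surj k (Hin_le hk)
  have hy : (l * a * l⁻¹) * z = z * (l * a * l⁻¹) :=
    ((Commute.mul_left hl E.az).mul_left (Commute.inv_left hl)).eq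
  obtain ⟨q, hq, e⟩ := E.all_conj hy (by
    rw [E.S.conj hl E.az, E.aπ, ← a0_comm hk, mul_inv_cancel_right])
    (by rw [conj_pow, E.a3, mul_one, mul_inv_cancel])
  refine ⟨q⁻¹ * l, (Commute.mul_left (E.S.h.comm _ (Q.inv_mem hq)) hl).eq, ?_, ?_⟩
  · calc q⁻¹ * l * a = q⁻¹ * (l * a * l⁻¹) * l := by group
      _ = q⁻¹ * (q * a * q⁻¹) * l := by rw [e]
      _ = a * (q⁻¹ * l) := by group
  · rw [E.S.mul _ _ (E.S.h.comm _ (Q.inv_mem hq)) hl, E.S.of_Q (Q.inv_mem hq), one_mul]

theorem cent_unique {l l' : G} (hl : l * z = z * l) (hla : l * a = a * l) (hl' : l' * z = z * l')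
    (hla' : l' * a = a * l') (e : π l = π l') : l' = l ∨ l' = l * z := by
  have hc : (l⁻¹ * l') * z = z * (l⁻¹ * l') := ((Commute.inv_left hl).mul_left hl').eq
  have hQ : l⁻¹ * l' ∈ Q := (E.S.ker _ hc).mp (by
    rw [E.S.mul _ _ (Commute.inv_left hl).eq hl', E.S.inv hl, e, inv_mul_cancel])
  rcases E.cQ hQ ((Commute.inv_left hla).mul_left hla').eq with h | h
  · exact Or.inl (inv_mul_eq_one.mp h).symm
  · exact Or.inr (inv_mul_eq_iff_eq_mul.mp h)

theorem inner_of_cent {l : G} (hl : l * z = z * l) (hla : l * a = a * l) : π l ∈ Hin := by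
  by_contra hn
  have e := (outer_inverts (E.S.img l hl) hn).1
  rw [← E.aπ, ← E.S.conj hl E.az, hla, mul_inv_cancel_right, E.aπ] at e
  exact a0_ne (mul_eq_left.mp e.symm)

/-- No conjugate `u` of `z` is the square of an element of `C(a)` when `u z` is not a conjugate. -/
theorem square_false {x : Perm (Fin 6)} {u y k : G} (hu : u = k * z * k⁻¹)
    (huz : ∀ k' : G, k' * z * k'⁻¹ ≠ u * z) (hy : y * z = z * y) (hya : y * a = a * y)
    (hyu : y * y = u) (hπu : π u = (1, x)) (hx : x ≠ 1)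
    (hinv : ∀ l, l * z = z * l → l * a = a * l → π l * π l = 1 → π l ≠ 1 → l * l = 1) : False := by
  have hzz := E.S.h.zz
  have huz' : u * z = z * u := by rw [← hyu]; exact (Commute.mul_left hy hy).eq
  have hua : u * a = a * u := by rw [← hyu]; exact (Commute.mul_left hya hya).eq
  have huu : u * u = 1 := by
    rw [hu, show k * z * k⁻¹ * (k * z * k⁻¹) = k * (z * z) * k⁻¹ by group, hzz]; group
  have hxx : x * x = 1 := by
    have e := E.S.mul u u huz' huz'
    rw [huu, E.S.one, hπu] at e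
    exact (congrArg Prod.snd e).symm
  have hux : π u ∈ Hin := E.inner_of_cent huz' hua
  have hxs : Perm.sign x = 1 := by rw [hπu] at hux; exact (mem_Hin.mp hux).2
  obtain ⟨g, hg, hgx⟩ := conj_x0 x hxs hxx hx
  -- the Sylow 2-subgroup of `C(a) ∩ C(z)` over the centraliser of `x`
  let D : Subgroup A3 := Hin ⊓ Subgroup.centralizer {((1, x) : A3)} ⊓
    (MonoidHom.fst (Perm (Fin 3)) (Perm (Fin 6))).ker
  have hD : ∀ d : A3, d ∈ D ↔ d.1 = 1 ∧ Perm.sign d.2 = 1 ∧ d.2 * x = x * d.2 := by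
    intro d
    simp only [D, Subgroup.mem_inf, Subgroup.mem_centralizer_singleton_iff, MonoidHom.mem_ker,
      mem_Hin, MonoidHom.coe_fst, Prod.ext_iff, Prod.fst_mul, Prod.snd_mul]
    constructor
    · rintro ⟨⟨⟨-, h2⟩, -, h4⟩, h5⟩; exact ⟨h5, h2, h4⟩
    · rintro ⟨h1, h2, h3⟩; simp [h1, h2, h3]
  have hcx0 : ∀ σ, σ * x = x * σ → g * σ * g⁻¹ * x0 = x0 * (g * σ * g⁻¹) := by
    intro σ e
    rw [← hgx]
    calc g * σ * g⁻¹ * (g * x * g⁻¹) = g * (σ * x) * g⁻¹ := by group
      _ = g * (x * σ) * g⁻¹ := by rw [e]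
      _ = _ := by group
  have hgs : ∀ σ, Perm.sign σ = 1 → Perm.sign (g * σ * g⁻¹) = 1 := fun σ h => by simp [h, hg]
  have cardD : Nat.card D = 8 := by
    let S8 : Finset (Perm (Fin 6)) :=
      Finset.univ.filter fun σ : Perm (Fin 6) => Perm.sign σ = 1 ∧ σ * x0 = x0 * σ
    let φ : D → S8 := fun d => ⟨g * (d : A3).2 * g⁻¹, Finset.mem_filter.mpr ⟨Finset.mem_univ _,
      hgs _ ((hD _).mp d.2).2.1, hcx0 _ ((hD _).mp d.2).2.2⟩⟩
    have hb : Function.Bijective φ := by
      constructor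
      · intro c d e
        have e2 : (c : A3).2 = (d : A3).2 :=
          mul_left_cancel (mul_right_cancel (congrArg Subtype.val e))
        exact Subtype.ext (Prod.ext (((hD _).mp c.2).1.trans ((hD _).mp d.2).1.symm) e2)
      · rintro ⟨τ, hτ⟩
        obtain ⟨-, t1, t2⟩ := Finset.mem_filter.mp hτ
        refine ⟨⟨(1, g⁻¹ * τ * g), (hD _).mpr ⟨rfl, by simp [t1, hg], ?_⟩⟩, Subtype.ext ?_⟩
        · show g⁻¹ * τ * g * x = x * (g⁻¹ * τ * g)
          calc g⁻¹ * τ * g * x = g⁻¹ * (τ * (g * x * g⁻¹)) * g := by group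
            _ = g⁻¹ * ((g * x * g⁻¹) * τ) * g := by rw [hgx, t2]
            _ = _ := by group
        · show g * (g⁻¹ * τ * g) * g⁻¹ = τ
          group
    rw [Nat.card_congr (Equiv.ofBijective φ hb), Nat.card_eq_finsetCard]
    exact cen_x0_card
  let T0 : Subgroup G :=
    { carrier := {m | m * z = z * m ∧ m * a = a * m ∧ π m ∈ D}
      one_mem' := ⟨by simp, by simp, by rw [E.S.one]; exact D.one_mem⟩
      mul_mem' := fun {m m'} h h' => ⟨(Commute.mul_left h.1 h'.1).eq,
        (Commute.mul_left h.2.1 h'.2.1).eq, by rw [E.S.mul m m' h.1 h'.1]; exact D.mul_mem h.2.2 h'.2.2⟩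
      inv_mem' := fun {m} h => ⟨(Commute.inv_left h.1).eq, (Commute.inv_left h.2.1).eq,
        by rw [E.S.inv h.1]; exact D.inv_mem h.2.2⟩ }
  have hT : ∀ m, m ∈ T0 ↔ m * z = z * m ∧ m * a = a * m ∧ π m ∈ D := fun _ => Iff.rfl
  have kerT : ∀ m ∈ T0, π m = 1 → m = 1 ∨ m = z := fun m hm e =>
    E.cQ ((E.S.ker m hm.1).mp e) hm.2.1
  have zT : z ∈ T0 := ⟨rfl, E.az.symm, by rw [E.S.z_one]; exact D.one_mem⟩
  have uT : u ∈ T0 := ⟨huz', hua, by rw [hπu, hD]; exact ⟨rfl, hxs, rfl⟩⟩
  have cardT : Nat.card T0 = 16 := by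
    obtain ⟨A, -, hmem, hc⟩ := E.S.exists_image T0 fun m hm => hm.1
    have hA : A = D := by
      ext d
      rw [hmem]
      refine ⟨fun ⟨m, hm, e⟩ => e ▸ hm.2.2, fun hd => ?_⟩
      have hdin : d ∈ Hin := mem_Hin.mpr ⟨by rw [((hD d).mp hd).1, map_one], ((hD d).mp hd).2.1⟩
      obtain ⟨l, hl, hla, hlπ⟩ := E.exists_cent hdin
      exact ⟨l, ⟨hl, hla, hlπ ▸ hd⟩, hlπ⟩
    have h2 : Nat.card (T0 ⊓ Q : Subgroup G) = 2 := by
      have : ((T0 ⊓ Q : Subgroup G) : Set G) = {1, z} := by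
        ext m
        constructor
        · intro hm; simpa using kerT m hm.1 (E.S.of_Q hm.2)
        · rintro (rfl | rfl)
          exacts [⟨one_mem _, one_mem _⟩, ⟨zT, E.S.h.mem⟩]
      rw [← SetLike.coe_sort_coe, Nat.card_coe_set_eq, this, Set.ncard_pair E.S.h.ne_one.symm]
    rw [hc, hA, cardD, h2]
  have hπy : π y ∈ Hin := E.inner_of_cent hy hya
  have hyy : π y * π y = (1, x) := by rw [← E.S.mul y y hy hy, hyu, hπu]
  have hy1 : (π y).1 = 1 := by
    refine fst_eq_one hπy (n := 2) ?_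
    have e4 : π y ^ 2 ^ 2 = π y * π y * (π y * π y) := by simp [pow_succ, mul_assoc]
    rw [e4, hyy]
    exact Prod.ext (one_mul _) hxx
  have hy2 : (π y).2 * (π y).2 = x := congrArg Prod.snd hyy
  have yT : y ∈ T0 := ⟨hy, hya, (hD _).mpr ⟨hy1, (mem_Hin.mp hπy).2, by
    rw [← hy2]; group⟩⟩
  have hsq : ∀ m ∈ T0, m * m = 1 ∨ m * m = u := by
    intro m hm
    obtain ⟨h1, h2, h3⟩ := (hD _).mp hm.2.2
    by_cases hs : (π m).2 * (π m).2 = 1
    · left
      have hmm : π m * π m = 1 := Prod.ext (by rw [Prod.fst_mul, h1, mul_one]; rfl) hs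
      by_cases h0 : π m = 1
      · rcases kerT m hm h0 with e | e <;> rw [e]
        exacts [one_mul 1, hzz]
      · exact hinv m hm.1 hm.2.1 hmm h0
    · right
      have hyne : (π y).2 * (π y).2 ≠ 1 := by rw [hy2]; exact hx
      have hcon : ∀ σ : Perm (Fin 6), g * σ * g⁻¹ * (g * σ * g⁻¹) = g * (σ * σ) * g⁻¹ := fun σ => by group
      have hc4 := cent_four (g * (π m).2 * g⁻¹) (hgs _ h2) (hcx0 _ h3)
        (by rw [hcon]; exact fun e => hs (conj_eq_one_iff.mp e))
        (g * (π y).2 * g⁻¹) (hgs _ (mem_Hin.mp hπy).2) (hcx0 _ (by rw [← hy2]; group))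
        (by rw [hcon]; exact fun e => hyne (conj_eq_one_iff.mp e))
      have hz1 : ∀ w : G, w * z = z * w → w * z * (w * z) = w * w := fun w hw => by
        rw [show w * z * (w * z) = w * (z * w) * z by group, ← hw,
          show w * (w * z) * z = w * w * (z * z) by group, hzz, mul_one]
      rcases hc4 with e | e
      · have e2 : π y = π m := Prod.ext (hy1.trans h1.symm)
          (mul_left_cancel (mul_right_cancel e)).symm
        rcases E.cent_unique hy hya hm.1 hm.2.1 e2 with e3 | e3 <;> rw [e3]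
        exacts [hyu, (hz1 y hy).trans hyu]
      · have e1 : (π m).2 * (π y).2 = 1 := conj_eq_one_iff.mp
          (show g * ((π m).2 * (π y).2) * g⁻¹ = 1 by rw [← e]; group)
        have e2 : π y⁻¹ = π m := by
          rw [E.S.inv hy]
          refine Prod.ext ?_ ?_
          · rw [Prod.fst_inv, hy1, h1, inv_one]
          · rw [Prod.snd_inv]; exact (eq_inv_of_mul_eq_one_left e1).symm
        have hyi : y⁻¹ * y⁻¹ = u := by
          rw [← mul_inv_rev, hyu, inv_eq_of_mul_eq_one_right huu]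
        rcases E.cent_unique (Commute.inv_left hy).eq (Commute.inv_left hya).eq hm.1 hm.2.1 e2
          with e3 | e3 <;> rw [e3]
        exacts [hyi, (hz1 y⁻¹ (Commute.inv_left hy).eq).trans hyi]
  have hune : u ≠ 1 := fun e => hx (by
    have := hπu; rw [e, E.S.one] at this; exact (congrArg Prod.snd this).symm)
  have hzu : z ≠ u := fun e => hx (by
    have := hπu; rw [← e, E.S.z_one] at this; exact (congrArg Prod.snd this).symm)
  have hcen : ∀ c ∈ T0, (∀ m ∈ T0, m * c = c * m) → c = 1 ∨ c = z ∨ c = u ∨ c = u * z := by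
    intro c hc hcom
    obtain ⟨h1, h2, h3⟩ := (hD _).mp hc.2.2
    have key := cent_center (g * (π c).2 * g⁻¹) (hgs _ h2) (hcx0 _ h3) (by
      intro τ t1 t2
      have hcomm : g⁻¹ * τ * g * x = x * (g⁻¹ * τ * g) := by
        calc g⁻¹ * τ * g * x = g⁻¹ * (τ * (g * x * g⁻¹)) * g := by group
          _ = g⁻¹ * ((g * x * g⁻¹) * τ) * g := by rw [hgx, t2]
          _ = _ := by group
      have hd : ((1, g⁻¹ * τ * g) : A3) ∈ D := (hD _).mpr ⟨rfl, by simp [t1, hg], hcomm⟩
      obtain ⟨l, hl, hla, hlπ⟩ := E.exists_cent (k := (1, g⁻¹ * τ * g))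
        (mem_Hin.mpr ⟨map_one _, by simp [t1, hg]⟩)
      have := congrArg π (hcom l ⟨hl, hla, hlπ ▸ hd⟩)
      rw [E.S.mul l c hl hc.1, E.S.mul c l hc.1 hl, hlπ] at this
      have e : g⁻¹ * τ * g * (π c).2 = (π c).2 * (g⁻¹ * τ * g) := congrArg Prod.snd this
      calc g * (π c).2 * g⁻¹ * τ = g * ((π c).2 * (g⁻¹ * τ * g)) * g⁻¹ := by group
        _ = g * (g⁻¹ * τ * g * (π c).2) * g⁻¹ := by rw [e]
        _ = _ := by group)
    rcases key with e | e
    · rcases kerT c hc (Prod.ext h1 (conj_eq_one_iff.mp e)) with h | h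
      exacts [Or.inl h, Or.inr (Or.inl h)]
    · rw [← hgx] at e
      rcases E.cent_unique huz' hua hc.1 hc.2.1
          (hπu.trans (Prod.ext h1.symm (mul_left_cancel (mul_right_cancel e)).symm)) with h | h
      exacts [Or.inr (Or.inr (Or.inl h)), Or.inr (Or.inr (Or.inr h))]
  -- its normaliser in `C(a)` centralises `z`
  have hmax : ∀ P : Subgroup G, T0 ≤ P → IsPGroup 2 P → (∀ m ∈ P, m * a = a * m) → P ≤ T0 := by
    intro P hle h2 hPa
    by_contra hne
    haveI : Fact (Nat.Prime 2) := ⟨Nat.prime_two⟩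
    haveI := h2.isNilpotent
    have hlt : T0.subgroupOf P < ⊤ := lt_top_iff_ne_top.mpr fun e => hne (Subgroup.subgroupOf_eq_top.mp e)
    obtain ⟨⟨n, hnP⟩, hn, hnT⟩ :=
      SetLike.exists_of_lt (Group.normalizerCondition_of_isNilpotent (G := P) _ hlt)
    have hnorm : ∀ m ∈ T0, n * m * n⁻¹ ∈ T0 := fun m hm =>
      (Subgroup.mem_normalizer_iff.mp hn ⟨m, hle hm⟩).mp hm
    have hna := hPa n hnP
    have hnu : n * u * n⁻¹ = u := by
      have e : n * u * n⁻¹ = n * y * n⁻¹ * (n * y * n⁻¹) := by rw [← hyu]; group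
      rcases hsq _ (hnorm y yT) with h | h
      · exact absurd (conj_eq_one_iff.mp (e.trans h)) hune
      · exact e.trans h
    have hnz : n * z * n⁻¹ = z := by
      have hc : ∀ m ∈ T0, m * (n * z * n⁻¹) = n * z * n⁻¹ * m := by
        intro m hm
        have hm' : n⁻¹ * m * n ∈ T0 := by
          have := (Subgroup.mem_normalizer_iff.mp hn (⟨n⁻¹ * m * n,
            P.mul_mem (P.mul_mem (P.inv_mem hnP) (hle hm)) hnP⟩ : P)).mpr
          refine this ?_
          show n * (n⁻¹ * m * n) * n⁻¹ ∈ T0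
          rwa [show n * (n⁻¹ * m * n) * n⁻¹ = m by group]
        calc m * (n * z * n⁻¹) = n * (n⁻¹ * m * n * z) * n⁻¹ := by group
          _ = n * (z * (n⁻¹ * m * n)) * n⁻¹ := by rw [hm'.1]
          _ = _ := by group
      rcases hcen _ (hnorm z zT) hc with h | h | h | h
      · exact absurd (conj_eq_one_iff.mp h) E.S.h.ne_one
      · exact h
      · exact absurd (mul_left_cancel (mul_right_cancel (h.trans hnu.symm))) hzu
      · exact absurd h (huz n)
    have hnzc : n * z = z * n := mul_inv_eq_iff_eq_mul.mp hnz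
    let P1 := P ⊓ Subgroup.centralizer ({z} : Set G)
    have hP1z : ∀ m ∈ P1, m * z = z * m := fun m hm =>
      Subgroup.mem_centralizer_singleton_iff.mp hm.2
    obtain ⟨A, -, hmem, hc⟩ := E.S.exists_image P1 hP1z
    have hAin : A ≤ Hin := by
      intro d hd
      obtain ⟨m, hm, rfl⟩ := (hmem d).mp hd
      exact E.inner_of_cent (hP1z m hm) (hPa m hm.1)
    have hA8 := inner_two_le hAin (E.S.image_isPGroup hP1z hmem (h2.to_le inf_le_left))
    have hk : Nat.card (P1 ⊓ Q : Subgroup G) ≤ 2 := by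
      have hsub : ((P1 ⊓ Q : Subgroup G) : Set G) ⊆ {1, z} := fun m hm => by
        simpa using E.cQ hm.2 (hPa m hm.1.1)
      have := Set.ncard_le_ncard hsub (Set.toFinite _)
      rwa [← Nat.card_coe_set_eq, SetLike.coe_sort_coe, Set.ncard_pair E.S.h.ne_one.symm] at this
    have hT1 : T0 ≤ P1 := fun m hm => ⟨hle hm, Subgroup.mem_centralizer_singleton_iff.mpr hm.1⟩
    have heq : T0 = P1 := Subgroup.eq_of_le_of_card_ge hT1 (by
      rw [cardT, hc]
      exact (Nat.mul_le_mul hA8 hk).trans (by norm_num))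
    exact hnT (Subgroup.mem_subgroupOf.mpr
      (heq ▸ (⟨hnP, Subgroup.mem_centralizer_singleton_iff.mpr hnzc⟩ : n ∈ P1)))
  have hTu : ∀ m ∈ T0, m * u = u * m := by
    intro m hm
    have hc : (m * u * m⁻¹) * z = z * (m * u * m⁻¹) :=
      ((Commute.mul_left hm.1 huz').mul_left (Commute.inv_left hm.1)).eq
    have hca : (m * u * m⁻¹) * a = a * (m * u * m⁻¹) :=
      ((Commute.mul_left hm.2.1 hua).mul_left (Commute.inv_left hm.2.1)).eq
    have hπc : π u = π (m * u * m⁻¹) := by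
      obtain ⟨h1, -, h3⟩ := (hD _).mp hm.2.2
      rw [E.S.conj hm.1 huz', hπu, eq_mul_inv_iff_mul_eq]
      exact Prod.ext (by simp [h1]) h3.symm
    rcases E.cent_unique huz' hua hc hca hπc with e | e
    · exact mul_inv_eq_iff_eq_mul.mp e
    · refine absurd ?_ (huz (m * k))
      rw [← e, hu]; group
  -- translate to a conjugate of `a` in `C(z)`
  set a' := k⁻¹ * a * k with ha'
  set T' := T0.map (MulAut.conj k⁻¹).toMonoidHom with hT'
  have hzk : z = k⁻¹ * u * k := by rw [hu]; group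
  have ha'z : a' * z = z * a' := by
    rw [ha', hzk]
    calc k⁻¹ * a * k * (k⁻¹ * u * k) = k⁻¹ * (a * u) * k := by group
      _ = k⁻¹ * (u * a) * k := by rw [hua]
      _ = _ := by group
  have ha'3 : a' ^ 3 = 1 := by
    calc a' ^ 3 = k⁻¹ * a ^ 3 * k := by
          simp only [ha', pow_succ, pow_zero, one_mul, mul_assoc, mul_inv_cancel_left]
      _ = 1 := by rw [E.a3]; group
  have hT'mem : ∀ m ∈ T', m * z = z * m ∧ m * a' = a' * m := by
    rintro _ ⟨m, hm, rfl⟩
    simp only [MulEquiv.coe_toMonoidHom, MulAut.conj_apply, inv_inv]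
    constructor
    · rw [hzk]
      calc k⁻¹ * m * k * (k⁻¹ * u * k) = k⁻¹ * (m * u) * k := by group
        _ = k⁻¹ * (u * m) * k := by rw [hTu m hm]
        _ = _ := by group
    · rw [ha']
      calc k⁻¹ * m * k * (k⁻¹ * a * k) = k⁻¹ * (m * a) * k := by group
        _ = k⁻¹ * (a * m) * k := by rw [hm.2.1]
        _ = _ := by group
  have hπa3 : π a' ^ 3 = 1 := by rw [← E.S.pow ha'z, ha'3, E.S.one]
  have ha1 : a' ≠ 1 := by
    intro e
    apply a0_ne
    have : a = 1 := by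
      calc a = k * a' * k⁻¹ := by rw [ha']; group
        _ = 1 := by rw [e]; group
    rw [← E.aπ, this, E.S.one]
  have hπa1 : π a' ≠ 1 := by
    intro e
    have h4 := E.S.h.pow_four ((E.S.ker _ ha'z).mp e)
    rw [pow_succ, ha'3, one_mul] at h4
    exact ha1 h4
  have hain : π a' ∈ Hin := by
    by_contra hn
    have h1 := sq_inner (E.S.img _ ha'z)
    have e : π a' = (π a' * π a')⁻¹ := by
      rw [eq_inv_iff_mul_eq_one, ← mul_assoc, ← pow_two, ← pow_succ]; exact hπa3
    exact hn (e.symm ▸ Hin.inv_mem h1)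
  have hyT' : k⁻¹ * y * k ∈ T' := ⟨y, yT, by simp [MulAut.conj_apply]⟩
  by_cases hσ : (π a').2 = 1
  · -- `a'` is conjugate to `a` or its inverse
    obtain ⟨b, hbz, hbπ, hb3, hbc⟩ : ∃ b, b * z = z * b ∧ π b = a0 ∧ b ^ 3 = 1 ∧
        ∀ m ∈ T', m * b = b * m := by
      rcases fst_inner _ (mem_Hin.mp hain).1 with e | e | e
      · exact absurd (Prod.ext e hσ) hπa1
      · exact ⟨a', ha'z, Prod.ext e hσ, ha'3, fun m hm => (hT'mem m hm).2⟩
      · refine ⟨a' * a', (Commute.mul_left ha'z ha'z).eq, ?_, ?_,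
          fun m hm => (Commute.mul_right (hT'mem m hm).2 (hT'mem m hm).2).eq⟩
        · rw [E.S.mul _ _ ha'z ha'z]
          refine Prod.ext ?_ (by rw [Prod.snd_mul, hσ]; rfl)
          rw [Prod.fst_mul, e]
          show _ = finRotate 3
          decide
        · rw [← pow_two, ← pow_mul, Nat.mul_comm, pow_mul, ha'3, one_pow]
    obtain ⟨q, hq, eq⟩ := E.all_conj hbz hbπ hb3
    obtain ⟨hy'z, -⟩ := hT'mem _ hyT'
    have hqz := E.S.h.comm q hq
    set y' := q⁻¹ * (k⁻¹ * y * k) * q with hy'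
    have h1 : y' * z = z * y' :=
      (((Commute.inv_left hqz).mul_left hy'z).mul_left hqz).eq
    have h2 : y' * a = a * y' := by
      have e := hbc _ hyT'
      rw [← eq] at e
      calc y' * a = q⁻¹ * (k⁻¹ * y * k * (q * a * q⁻¹)) * q := by rw [hy']; group
        _ = q⁻¹ * (q * a * q⁻¹ * (k⁻¹ * y * k)) * q := by rw [e]
        _ = a * y' := by rw [hy']; group
    have h3 : y' * y' = z := by
      calc y' * y' = q⁻¹ * (k⁻¹ * (y * y) * k) * q := by rw [hy']; group
        _ = q⁻¹ * z * q := by rw [hyu, ← hzk]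
        _ = z := by rw [mul_assoc, ← hqz, inv_mul_cancel_left]
    have h4 : π y' * π y' = 1 := by rw [← E.S.mul y' y' h1 h1, h3, E.S.z_one]
    by_cases h5 : π y' = 1
    · rcases E.cQ ((E.S.ker _ h1).mp h5) h2 with e | e <;> rw [e] at h3
      · exact E.S.h.ne_one (by rw [← h3, one_mul])
      · exact E.S.h.ne_one (h3.symm.trans hzz)
    · exact E.S.h.ne_one (h3.symm.trans (hinv y' h1 h2 h4 h5))
  · -- otherwise count
    haveI := R.findim
    have hh : π a' ∈ H0 := E.S.img _ ha'z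
    have hh3 : π a' * (π a' * π a') = 1 := by rw [← mul_assoc, ← pow_two, ← pow_succ]; exact hπa3
    set C := Q ⊓ Subgroup.centralizer ({a'} : Set G) with hC
    have hT'norm : T' ≤ Subgroup.normalizer (C : Set G) := by
      intro m hm
      refine Subgroup.mem_normalizer_fintype fun c hc => ?_
      obtain ⟨m1, m2⟩ := hT'mem m hm
      exact ⟨E.S.h.norm m m1 c hc.1, Subgroup.mem_centralizer_singleton_iff.mpr
        ((Commute.mul_left m2 (Subgroup.mem_centralizer_singleton_iff.mp hc.2)).mul_left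
          (Commute.inv_left m2)).eq⟩
    have hT2 : IsPGroup 2 T0 := IsPGroup.of_card (n := 4) (by rw [cardT]; norm_num)
    have hP2 : IsPGroup 2 (T' ⊔ C : Subgroup G) :=
      IsPGroup.to_sup_of_normal_right' (hT2.map _) (E.S.h.toExt.isPGroup.to_le inf_le_left) hT'norm
    have hPa : ∀ m ∈ T' ⊔ C, m * a' = a' * m := by
      have : T' ⊔ C ≤ Subgroup.centralizer ({a'} : Set G) := sup_le
        (fun m hm => Subgroup.mem_centralizer_singleton_iff.mpr (hT'mem m hm).2) inf_le_right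
      exact fun m hm => Subgroup.mem_centralizer_singleton_iff.mp (this hm)
    have hCT : C ≤ T' := by
      have h := hmax ((T' ⊔ C).map (MulAut.conj k).toMonoidHom) (fun m hm => ?_) (hP2.map _) ?_
      · intro c hc
        refine ⟨k * c * k⁻¹, h ⟨c, Subgroup.mem_sup_right hc, by simp [MulAut.conj_apply]⟩, ?_⟩
        simp only [MulEquiv.coe_toMonoidHom, MulAut.conj_apply, inv_inv]
        group
      · refine ⟨k⁻¹ * m * k, Subgroup.mem_sup_left ⟨m, hm, by simp [MulAut.conj_apply]⟩, ?_⟩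
        simp only [MulEquiv.coe_toMonoidHom, MulAut.conj_apply]
        group
      · rintro _ ⟨m, hm, rfl⟩
        have e := hPa m hm
        simp only [MulEquiv.coe_toMonoidHom, MulAut.conj_apply]
        calc k * m * k⁻¹ * a = k * (m * a') * k⁻¹ := by rw [ha']; group
          _ = k * (a' * m) * k⁻¹ := by rw [e]
          _ = _ := by rw [ha']; group
    have hTQ : T' ⊓ Q = C := le_antisymm
      (fun m hm => ⟨hm.2, Subgroup.mem_centralizer_singleton_iff.mpr (hT'mem m hm.1).2⟩)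
      (fun m hm => ⟨hCT hm, hm.1⟩)
    have hCpre : C = E.B.pre (R.fix (π a')) := by
      ext c
      constructor
      · intro hc
        refine ⟨hc.1, ?_⟩
        rw [R.mem_fix, ← E.B.act a' ha'z c hc.1,
          ← Subgroup.mem_centralizer_singleton_iff.mp hc.2, mul_inv_cancel_right]
      · intro hc
        refine ⟨hc.1, Subgroup.mem_centralizer_singleton_iff.mpr ?_⟩
        have hcQ := E.S.h.norm a' ha'z c hc.1
        have e : p (a' * c * a'⁻¹) = p c := by
          rw [E.B.act a' ha'z c hc.1]; exact R.mem_fix.mp hc.2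
        rcases (E.B.eq_iff E.S.h.mem hc.1 hcQ).mp e.symm with h | h
        · exact (mul_inv_eq_iff_eq_mul.mp h).symm
        · exfalso
          apply E.S.h.ne_one
          have haz : a' * z * a'⁻¹ = z := mul_inv_eq_iff_eq_mul.mpr ha'z
          have h2 : a' * a' * c * (a' * a')⁻¹ = c := by
            calc a' * a' * c * (a' * a')⁻¹ = a' * (a' * c * a'⁻¹) * a'⁻¹ := by group
              _ = a' * (c * z) * a'⁻¹ := by rw [h]
              _ = a' * c * a'⁻¹ * (a' * z * a'⁻¹) := by group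
              _ = c := by rw [haz, h, mul_assoc, hzz, mul_one]
          have h3 : a' ^ 3 * c * (a' ^ 3)⁻¹ = c * z := by
            calc a' ^ 3 * c * (a' ^ 3)⁻¹ = a' * (a' * a' * c * (a' * a')⁻¹) * a'⁻¹ := by
                  simp only [pow_succ, pow_zero, one_mul, mul_assoc, mul_inv_rev]
              _ = c * z := by rw [h2, h]
          rw [ha'3, one_mul, inv_one, mul_one] at h3
          exact left_eq_mul.mp h3
    obtain ⟨A, hA, hmem, hc⟩ := E.S.exists_image T' fun m hm => (hT'mem m hm).1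
    have hA2 := E.S.image_isPGroup (fun m hm => (hT'mem m hm).1) hmem (hT2.map _)
    have hcardT' : Nat.card T' = 16 := by
      rw [hT', ← Nat.card_congr (Subgroup.equivMapOfInjective T0 _ (MulAut.conj k⁻¹).injective).toEquiv,
        cardT]
    rw [hcardT', hTQ, hCpre, E.B.card_pre E.S.h.mem E.S.h.ne_one] at hc
    have hcomm : ∀ d ∈ A, d * π a' = π a' * d := by
      intro d hd
      obtain ⟨m, hm, rfl⟩ := (hmem d).mp hd
      obtain ⟨m1, m2⟩ := hT'mem m hm
      rw [← E.S.mul m a' m1 ha'z, m2, E.S.mul a' m ha'z m1]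
    have hAin : A ⊓ Hin = ⊥ := by
      by_contra hne
      haveI : Nontrivial (A ⊓ Hin : Subgroup A3) := (Subgroup.nontrivial_iff_ne_bot _).mpr hne
      haveI : Fact (Nat.Prime 2) := ⟨Nat.prime_two⟩
      obtain ⟨n, hn0, hn⟩ := (hA2.to_le (inf_le_left : A ⊓ Hin ≤ A)).nontrivial_iff_card.mp inferInstance
      obtain ⟨⟨d, hd⟩, ho⟩ := exists_prime_orderOf_dvd_card' (G := (A ⊓ Hin : Subgroup A3)) 2
        (hn ▸ dvd_pow_self 2 (by omega))
      replace ho : orderOf d = 2 := by rwa [← Subgroup.orderOf_coe] at ho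
      have hdd : d * d = 1 := by rw [← pow_two, ← ho, pow_orderOf_eq_one]
      obtain ⟨e, h22⟩ := inner_inv hd.2 hdd
      have := no_inv_comm_three (π a').2 (mem_Hin.mp hain).2 (congrArg Prod.snd hh3) hσ d.2
        (mem_Hin.mp hd.2).2 h22 (congrArg Prod.snd (hcomm d hd.1)).symm
      rw [e, this] at ho
      rw [show ((1, 1) : A3) = 1 from rfl, orderOf_one] at ho
      norm_num at ho
    have hA2' : Nat.card A ≤ 2 := by
      have := card_le_inner hA
      rwa [hAin, Subgroup.card_bot, mul_one] at this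
    -- parity
    let eh : Module.End (ZMod 2) V := 1 + R.ρ (π a') + R.ρ (π a') * R.ρ (π a')
    have heh : ∀ v, eh v = v + R.ρ (π a') v + R.ρ (π a') (R.ρ (π a') v) := fun v => rfl
    have hc3 : ∀ v, R.ρ (π a') (R.ρ (π a') (R.ρ (π a') v)) = v := fun v => by
      rw [← R.act_mul hh hh, ← R.act_mul (H0.mul_mem hh hh) hh, mul_assoc, hh3, R.act_one]
    have hehfix : ∀ v, R.ρ (π a') v = v → eh v = v := fun v hv => by
      rw [heh, hv, hv, ZModModule.add_self, zero_add]
    have hrange : LinearMap.range eh = R.fix (π a') := by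
      apply le_antisymm
      · rintro _ ⟨v, rfl⟩
        rw [R.mem_fix, heh, map_add, map_add, hc3]
        abel
      · exact fun v hv => ⟨v, hehfix v (R.mem_fix.mp hv)⟩
    have hsum := LinearMap.finrank_range_add_finrank_ker eh
    rw [hrange, R.dim] at hsum
    obtain ⟨m, hm⟩ := R.even_dim hh hh3 (X := LinearMap.ker eh) (fun v hv => by
      have e : eh v = 0 := hv
      show eh (R.ρ (π a') v) = 0
      have e2 : R.ρ (π a') (eh v) = eh (R.ρ (π a') v) := by simp only [heh, map_add]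
      rw [← e2, e, map_zero]) (fun v hv e => by
      have e1 : eh v = 0 := hv
      rwa [hehfix v e] at e1)
    have hne2 : Module.finrank (ZMod 2) (R.fix (π a')) ≠ 2 := by
      intro e2
      rw [e2] at hc
      have hAeq : Nat.card A = 2 := by norm_num at hc; omega
      obtain ⟨d, hd, hdn⟩ : ∃ d ∈ A, d ∉ Hin := by
        by_contra hno
        push Not at hno
        have e : A ⊓ Hin = A := inf_eq_left.mpr hno
        rw [← e, hAin, Subgroup.card_bot] at hAeq
        omega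
      obtain ⟨-, hs⟩ := outer_inverts (hA hd) hdn
      have h1 : (π a').1 = 1 := by
        have e : d.1 * (π a').1 = (π a').1 * d.1 := congrArg Prod.fst (hcomm d hd)
        have hdec : ∀ s t : Perm (Fin 3), Perm.sign s ≠ 1 → Perm.sign t = 1 → s * t = t * s → t = 1 := by
          decide +kernel
        exact hdec _ _ hs (mem_Hin.mp hain).1 e
      have e3 := R.three_fix_ne_two E.u0 (mem_Hin.mp hain).2 (congrArg Prod.snd hh3) hσ
      rw [show ι (π a').2 = π a' from Prod.ext h1.symm rfl] at e3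
      exact e3 e2
    by_cases h4 : Module.finrank (ZMod 2) (R.fix (π a')) ≤ 1
    · have := Nat.mul_le_mul hA2' (Nat.pow_le_pow_right (show 0 < 2 by norm_num)
        (show Module.finrank (ZMod 2) (R.fix (π a')) + 1 ≤ 2 by omega))
      omega
    · have h32 := Nat.pow_le_pow_right (show 0 < 2 by norm_num)
        (show 5 ≤ Module.finrank (ZMod 2) (R.fix (π a')) + 1 by omega)
      have hpos : 1 ≤ Nat.card A := Nat.card_pos
      have := Nat.mul_le_mul hpos h32
      omega

end AEl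

end Cfsg.Agent.S3284Cent23
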