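import Cfsg.Agent.Lib.S3284Inside23

/-!
# The conjugates of `z` in `Q` are labelled by pairs (for S3284)
-/

set_option autoImplicit false

namespace Cfsg.Agent.S3284Labels23

open Cfsg.Agent.S3284Group23 Cfsg.Agent.S3284Model23 Cfsg.Agent.S3284Setting23
open Cfsg.Agent.LargeExtraspecial Cfsg.Agent.S3284Inside23
open Equiv (Perm swap)

universe u

/-- `{i, j} = {k, l}`. -/
abbrev SP (i j k l : Fin 6) : Prop := (i = k ∧ j = l) ∨ (i = l ∧ j = k)

theorem exists_pick : ∀ i j : Fin 6, i ≠ j →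
    ∃ σ : Perm (Fin 6), Perm.sign σ = 1 ∧ σ 4 = i ∧ σ 5 = j := by decide +kernel

theorem stab_gen : ∀ σ : Perm (Fin 6), Perm.sign σ = 1 → SP (σ 4) (σ 5) 4 5 →
    ∃ x : Perm (Fin 6), Perm.sign x = 1 ∧ x * x = 1 ∧ SP (x 4) (x 5) 4 5 ∧
      (x * σ) * (x * σ) = 1 := by decide +kernel

theorem stab_norm : ∀ x : Perm (Fin 6), Perm.sign x = 1 → SP (x 4) (x 5) 4 5 →
    ∀ σ ∈ V56, x⁻¹ * σ * x ∈ V56 := by decide +kernel

set_option synthInstance.maxSize 4000 in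
theorem norm_stab : ∀ σ : Perm (Fin 6), Perm.sign σ = 1 → (∀ x ∈ V56, σ * x * σ⁻¹ ∈ V56) →
    SP (σ 4) (σ 5) 4 5 := by decide +kernel

theorem outer_cent : ∀ σ : Perm (Fin 6), Perm.sign σ ≠ 1 → σ * σ = 1 →
    (∀ x ∈ V56, σ * x = x * σ) → ∃ v ∈ V56, σ * v = swap 4 5 := by decide +kernel

theorem V56_facts : ∀ σ ∈ V56, Perm.sign σ = 1 ∧ σ * σ = 1 ∧ SP (σ 4) (σ 5) 4 5 := by decide +kernel

theorem VB_facts : ∀ σ ∈ VB, Perm.sign σ = 1 ∧ SP (σ 4) (σ 5) 4 5 ∧ SP (σ 0) (σ 1) 0 1 := by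
  decide +kernel

theorem card_V56 : V56.card = 4 := by decide +kernel

theorem card_VB : VB.card = 4 := by decide +kernel

def place4 (i j k l : Fin 6) : Perm (Fin 6) :=
  let s1 := swap 0 i
  let s2 := s1 * swap 1 (s1.symm j)
  let s3 := s2 * swap 2 (s2.symm k)
  s3 * swap 3 (s3.symm l)

theorem place4_spec : ∀ i j k l : Fin 6, i ≠ j → k ≠ l → i ≠ k → i ≠ l → j ≠ k → j ≠ l →
    place4 i j k l 0 = i ∧ place4 i j k l 1 = j ∧ place4 i j k l 2 = k ∧ place4 i j k l 3 = l := by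
  decide +kernel

def place3 (i j k : Fin 6) : Perm (Fin 6) :=
  let s1 := swap 0 i
  let s2 := s1 * swap 4 (s1.symm j)
  s2 * swap 5 (s2.symm k)

theorem place3_spec : ∀ i j k : Fin 6, i ≠ j → i ≠ k → j ≠ k →
    place3 i j k 0 = i ∧ place3 i j k 4 = j ∧ place3 i j k 5 = k := by decide +kernel

/-- `k` lies in `π (C_{gQg⁻¹}(z))`. -/
def Im {G : Type u} [Group G] (Q : Subgroup G) (z : G) (π : G → A3) (g : G) (k : A3) : Prop :=
  ∃ x ∈ Q.map (MulAut.conj g).toMonoidHom, x * z = z * x ∧ π x = k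

variable {G : Type u} [Group G] [Finite G] {Q : Subgroup G} {z : G} {π : G → A3}
  {V : Type u} [AddCommGroup V] [Module (ZMod 2) V] {R : Rep V} {p : G → V}

theorem im_move (S : Sett Q z π) {m g : G} (hm : m * z = z * m) {k : A3} (hk : Im Q z π g k) :
    Im Q z π (m * g) (π m * k * (π m)⁻¹) := by
  obtain ⟨x, ⟨y, hy, rfl⟩, hxz, rfl⟩ := hk
  simp only [MulEquiv.coe_toMonoidHom, MulAut.conj_apply] at hxz ⊢
  refine ⟨m * (g * y * g⁻¹) * m⁻¹, ⟨y, hy, ?_⟩,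
    ((Commute.mul_left hm hxz).mul_left (Commute.inv_left hm)).eq, S.conj hm hxz⟩
  simp only [MulEquiv.coe_toMonoidHom, MulAut.conj_apply]
  group

/-- The inner part of `π (C_{gQg⁻¹}(z))`, for a conjugate of `z` in `Q`. -/
theorem inner_part (S : Sett Q z π) (B : Bridge Q z π R p) {g : G} (hQ : g * z * g⁻¹ ∈ Q)
    (hne : g * z * g⁻¹ ≠ z) :
    ∃ A : Subgroup A3, (∀ k, k ∈ A ↔ Im Q z π g k) ∧ A ≤ H0 ∧
      (∀ a ∈ A, ∀ b ∈ A, a * b = b * a) ∧ (∀ a ∈ A, a * a = 1) ∧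
      Nat.card (A ⊓ Hin : Subgroup A3) = 4 ∧ (∃ α ∈ A, α ∉ Hin) ∧
      (∀ k ∈ A, R.ρ k (p (g * z * g⁻¹)) = p (g * z * g⁻¹)) ∧
      ∀ v, (∀ k ∈ A, k ∈ Hin → R.ρ k v = v) → v = 0 ∨ v = p (g * z * g⁻¹) ∨
        v = R.ρ a0 (p (g * z * g⁻¹)) ∨ v = R.ρ a0 (R.ρ a0 (p (g * z * g⁻¹))) := by
  have I := in_of_conj S hQ hne
  obtain ⟨A, hA, hmem, hc, h2, hab, hsq⟩ := I.exists_im
  obtain ⟨h4, hout⟩ := I.im_facts B hA hc h2 hab
  refine ⟨A, fun k => (hmem k).trans ⟨fun ⟨x, hx, e⟩ => ?_, fun ⟨x, hx, hxz, e⟩ => ?_⟩, hA, hab,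
    hsq, h4, hout, fun k hk => ?_, fun v hv => I.plane B hA hmem hc h2 hab hsq hv⟩
  · exact ⟨x, (I.mem_C'.mp hx).1, (I.mem_C'.mp hx).2, e⟩
  · exact ⟨x, I.mem_C'.mpr ⟨hx, hxz⟩, e⟩
  · obtain ⟨x, hx, rfl⟩ := (hmem k).mp hk
    exact I.fix_pt B hx

theorem inner_set {A : Subgroup A3} (h4 : Nat.card (A ⊓ Hin : Subgroup A3) = 4)
    (hsq : ∀ a ∈ A, a * a = 1) {F : Finset (Perm (Fin 6))} (hF : F.card = 4)
    (hsub : ∀ σ ∈ F, ι σ ∈ A) (he : ∀ σ ∈ F, Perm.sign σ = 1) {k : A3} (hk : k ∈ A)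
    (hk' : k ∈ Hin) : ∃ σ ∈ F, k = ι σ := by
  classical
  have hs : (F.image ι : Finset A3).card = 4 := by
    rw [Finset.card_image_of_injective _ fun a b e => congrArg Prod.snd e, hF]
  have h1 : ((F.image ι : Finset A3) : Set A3) ⊆ ((A ⊓ Hin : Subgroup A3) : Set A3) := by
    intro a ha
    obtain ⟨σ, hσ, rfl⟩ := Finset.mem_image.mp (Finset.mem_coe.mp ha)
    exact ⟨hsub σ hσ, one_mem_Hin (he σ hσ)⟩
  have h2 := Set.eq_of_subset_of_ncard_le h1 (by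
    rw [Set.ncard_coe_finset, hs, ← Nat.card_coe_set_eq, SetLike.coe_sort_coe, h4]) (Set.toFinite _)
  have h3 : k ∈ ((F.image ι : Finset A3) : Set A3) := h2 ▸ (⟨hk, hk'⟩ : k ∈ A ⊓ Hin)
  obtain ⟨σ, hσ, e⟩ := Finset.mem_image.mp (Finset.mem_coe.mp h3)
  exact ⟨σ, hσ, e.symm⟩

/-- Up to `C(z)`, the inner part is one of the two standard four-groups. -/
theorem exists_normal_form (S : Sett Q z π) (B : Bridge Q z π R p) {g : G}
    (hQ : g * z * g⁻¹ ∈ Q) (hne : g * z * g⁻¹ ≠ z) :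
    ∃ m, m * z = z * m ∧ (∃ γ : Perm (Fin 6), Perm.sign γ = 1 ∧ π m = ι γ) ∧
      (m * g) * z * (m * g)⁻¹ ∈ Q ∧ (m * g) * z * (m * g)⁻¹ ≠ z ∧
      ((∀ σ ∈ V56, Im Q z π (m * g) (ι σ)) ∨ (∀ σ ∈ VB, Im Q z π (m * g) (ι σ))) := by
  classical
  obtain ⟨A, hmem, hA, hab, hsq, h4, -, -, -⟩ := inner_part S B hQ hne
  let T : Subgroup (Perm (Fin 6)) :=
    (A ⊓ Hin).map (MonoidHom.snd (Perm (Fin 3)) (Perm (Fin 6)))
  have heq : ∀ k ∈ A ⊓ Hin, k = ι k.2 := fun k hk => (inner_inv hk.2 (hsq k hk.1)).1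
  have hT : ∀ σ ∈ T, Perm.sign σ = 1 ∧ σ * σ = 1 ∧ ι σ ∈ A := by
    rintro _ ⟨k, hk, rfl⟩
    exact ⟨(mem_Hin.mp hk.2).2, (inner_inv hk.2 (hsq k hk.1)).2, heq k hk ▸ hk.1⟩
  obtain ⟨⟨k, hk⟩, hk1⟩ : ∃ k : (A ⊓ Hin : Subgroup A3), k ≠ 1 := by
    haveI : Nontrivial (A ⊓ Hin : Subgroup A3) := Finite.one_lt_card_iff_nontrivial.mp (by omega)
    exact exists_ne 1
  have hk2 : k.2 ≠ 1 := fun e => hk1 (Subtype.ext (show k = 1 from (heq k hk).trans (by rw [e]; rfl)))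
  obtain ⟨γ, hγ, hcl⟩ := four_class (fun σ hσ => (hT σ hσ).1) (fun σ hσ => (hT σ hσ).2.1)
    (x := k.2) ⟨k, hk, rfl⟩ hk2
  obtain ⟨m, hm, hπ⟩ := S.surj _ (one_mem_H0 hγ)
  have hconj : (m * g) * z * (m * g)⁻¹ = m * (g * z * g⁻¹) * m⁻¹ := by group
  refine ⟨m, hm, ⟨γ, hγ, hπ⟩, hconj ▸ S.h.norm m hm _ hQ, fun e => hne ?_, ?_⟩
  · rw [hconj, mul_inv_eq_iff_eq_mul, ← hm] at e
    exact mul_left_cancel e
  have key : ∀ F : Finset (Perm (Fin 6)), F.card = 4 → (∀ σ ∈ T, γ * σ * γ⁻¹ ∈ F) →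
      ∀ σ ∈ F, Im Q z π (m * g) (ι σ) := by
    intro F hF hsub σ hσ
    let φ : (A ⊓ Hin : Subgroup A3) → F := fun k => ⟨γ * (k : A3).2 * γ⁻¹, hsub _ ⟨k, k.2, rfl⟩⟩
    have hinj : Function.Injective φ := by
      intro a b e
      have e2 : (a : A3).2 = (b : A3).2 :=
        mul_left_cancel (mul_right_cancel (congrArg Subtype.val e))
      exact Subtype.ext (by rw [heq a a.2, heq b b.2, e2])
    have hb := hinj.bijective_of_nat_card_le (by rw [Nat.card_eq_finsetCard, hF, h4])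
    obtain ⟨k, hk⟩ := hb.2 ⟨σ, hσ⟩
    have e : γ * (k : A3).2 * γ⁻¹ = σ := congrArg Subtype.val hk
    have h := im_move S hm ((hmem _).mp k.2.1)
    rwa [hπ, heq k k.2, show ((1, γ) : A3) = ι γ from rfl, ← ι_inv, ← ι_mul, ← ι_mul, e] at h
  rcases hcl with h | h
  · exact Or.inl (key V56 card_V56 h)
  · exact Or.inr (key VB card_VB h)

/-- The standing data: `t = g z g⁻¹ ∈ Q` whose four-group is the standard one of pair type. -/
structure Frame (Q : Subgroup G) (z : G) (π : G → A3) (g : G) (R : Rep V) (p : G → V) : Prop where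
  S : Sett Q z π
  B : Bridge Q z π R p
  tQ : g * z * g⁻¹ ∈ Q
  tne : g * z * g⁻¹ ≠ z
  hV : ∀ σ ∈ V56, Im Q z π g (ι σ)

omit [Finite G] in
/-- The three non-zero vectors of an `a0`-orbit. -/
def Orb (R : Rep V) (v x : V) : Prop := x = v ∨ x = R.ρ a0 v ∨ x = R.ρ a0 (R.ρ a0 v)

namespace Frame

variable {g : G} (F : Frame Q z π g R p)
include F

theorem u0 : R.U0 := (in_of_conj F.S F.tQ F.tne).u0 F.B

theorem T_ne : p (g * z * g⁻¹) ≠ 0 := (in_of_conj F.S F.tQ F.tne).pt_ne F.B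

theorem pow3 (v : V) : R.ρ a0 (R.ρ a0 (R.ρ a0 v)) = v := R.a_cube v

theorem plane {v : V} (hv : ∀ σ ∈ V56, R.ρ (ι σ) v = v) :
    v = 0 ∨ Orb R (p (g * z * g⁻¹)) v := by
  obtain ⟨A, hmem, -, -, hsq, h4, -, -, hpl⟩ := inner_part F.S F.B F.tQ F.tne
  refine hpl v fun k hk hk' => ?_
  obtain ⟨σ, hσ, rfl⟩ := inner_set h4 hsq card_V56 (fun σ hσ => (hmem _).mpr (F.hV σ hσ))
    (fun σ hσ => (V56_facts σ hσ).1) hk hk'
  exact hv σ hσ

theorem V_fix {σ : Perm (Fin 6)} (hσ : σ ∈ V56) :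
    R.ρ (ι σ) (p (g * z * g⁻¹)) = p (g * z * g⁻¹) := by
  obtain ⟨A, hmem, -, -, -, -, -, hfix, -⟩ := inner_part F.S F.B F.tQ F.tne
  exact hfix _ ((hmem _).mpr (F.hV σ hσ))

theorem orb_ne {v x : V} (hv : v ≠ 0) (hx : Orb R v x) : x ≠ 0 := by
  have hinj := R.act_inj R.a0_H0
  rcases hx with rfl | rfl | rfl
  · exact hv
  · exact fun e => hv (hinj (e.trans (map_zero _).symm))
  · exact fun e => hv (hinj (hinj (e.trans (by rw [map_zero, map_zero]))))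

theorem orb_distinct {v : V} (hv : v ≠ 0) : R.ρ a0 v ≠ v ∧ R.ρ a0 (R.ρ a0 v) ≠ v ∧
    R.ρ a0 (R.ρ a0 v) ≠ R.ρ a0 v := by
  have h1 : R.ρ a0 v ≠ v := fun e => hv (F.u0 v e)
  refine ⟨h1, fun e => h1 ?_, fun e => h1 (R.act_inj R.a0_H0 e)⟩
  have e3 := F.pow3 v
  rwa [e] at e3

theorem orb_sum (v : V) : v + R.ρ a0 v + R.ρ a0 (R.ρ a0 v) = 0 := F.u0 _ (R.a_sum_fix v)

theorem orb_add {v x y : V} (hx : Orb R v x) (hy : Orb R v y) : x + y = 0 ∨ Orb R v (x + y) := by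
  have hs := F.orb_sum v
  have e3 : v + R.ρ a0 v = R.ρ a0 (R.ρ a0 v) := by
    rw [← zz_add (v + R.ρ a0 v) (R.ρ a0 (R.ρ a0 v)), hs, zero_add]
  have e1 : R.ρ a0 v + R.ρ a0 (R.ρ a0 v) = v := by
    rw [← zz_add (R.ρ a0 v + R.ρ a0 (R.ρ a0 v)) v,
      show R.ρ a0 v + R.ρ a0 (R.ρ a0 v) + v = v + R.ρ a0 v + R.ρ a0 (R.ρ a0 v) by abel, hs,
      zero_add]
  have e2 : v + R.ρ a0 (R.ρ a0 v) = R.ρ a0 v := by
    rw [← zz_add (v + R.ρ a0 (R.ρ a0 v)) (R.ρ a0 v),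
      show v + R.ρ a0 (R.ρ a0 v) + R.ρ a0 v = v + R.ρ a0 v + R.ρ a0 (R.ρ a0 v) by abel, hs,
      zero_add]
  rcases hx with rfl | rfl | rfl <;> rcases hy with rfl | rfl | rfl
  · exact Or.inl (ZModModule.add_self _)
  · exact Or.inr (Or.inr (Or.inr e3))
  · exact Or.inr (Or.inr (Or.inl e2))
  · exact Or.inr (Or.inr (Or.inr (by rw [add_comm, e3])))
  · exact Or.inl (ZModModule.add_self _)
  · exact Or.inr (Or.inl e1)
  · exact Or.inr (Or.inr (Or.inl (by rw [add_comm, e2])))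
  · exact Or.inr (Or.inl (by rw [add_comm, e1]))
  · exact Or.inl (ZModModule.add_self _)

theorem orb_shift {v x : V} (hx : Orb R v x) : Orb R v (R.ρ a0 x) := by
  rcases hx with rfl | rfl | rfl
  · exact Or.inr (Or.inl rfl)
  · exact Or.inr (Or.inr rfl)
  · exact Or.inl (F.pow3 v)

/-- An inner stabiliser of the pair `{4,5}` fixes the vector. -/
theorem stab_fix {σ : Perm (Fin 6)} (hσ : Perm.sign σ = 1) (hst : SP (σ 4) (σ 5) 4 5) :
    R.ρ (ι σ) (p (g * z * g⁻¹)) = p (g * z * g⁻¹) := by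
  have key : ∀ x : Perm (Fin 6), Perm.sign x = 1 → x * x = 1 → SP (x 4) (x 5) 4 5 →
      R.ρ (ι x) (p (g * z * g⁻¹)) = p (g * z * g⁻¹) := by
    intro x hx hxx hxs
    set T := p (g * z * g⁻¹) with hT
    have hxT : ∀ σ ∈ V56, R.ρ (ι σ) (R.ρ (ι x) T) = R.ρ (ι x) T := by
      intro σ hσ
      have hσ' := stab_norm x hx hxs σ hσ
      have e : σ * x = x * (x⁻¹ * σ * x) := by group
      rw [← R.ι_act_mul (V56_facts σ hσ).1 hx, e, R.ι_act_mul hx (V56_facts _ hσ').1, F.V_fix hσ']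
    have hne : R.ρ (ι x) T ≠ 0 := fun e =>
      F.T_ne (R.act_inj (R.ι_mem hx) (e.trans (map_zero _).symm))
    have h2 : R.ρ (ι x) (R.ρ (ι x) T) = T := by rw [← R.ι_act_mul hx hx, hxx, R.ι_one]
    obtain ⟨d1, d2, d3⟩ := F.orb_distinct F.T_ne
    have hcomm := fun w => (R.a_comm (one_mem_Hin hx) w).symm
    rcases (F.plane hxT).resolve_left hne with e | e | e
    · exact e
    · exfalso
      rw [e, hcomm, e] at h2
      exact d2 h2
    · exfalso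
      rw [e, hcomm, hcomm, e, F.pow3] at h2
      exact d1 h2
  obtain ⟨x, hx, hxx, hxs, hyy⟩ := stab_gen σ hσ hst
  have hys : SP ((x * σ) 4) ((x * σ) 5) 4 5 := by
    rcases hst with ⟨a, b⟩ | ⟨a, b⟩ <;> rcases hxs with ⟨c, d⟩ | ⟨c, d⟩ <;>
      simp [SP, Perm.mul_apply, a, b, c, d]
  have hxy : Perm.sign (x * σ) = 1 := by simp [hx, hσ]
  have e : σ = x * (x * σ) := by rw [← mul_assoc, hxx, one_mul]
  rw [e, R.ι_act_mul hx hxy, key (x * σ) hxy hyy hys, key x hx hxx hxs]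

/-- An inner element fixing the vector stabilises the pair. -/
theorem fix_stab {h : A3} (hh : h ∈ Hin)
    (hfix : R.ρ h (p (g * z * g⁻¹)) = p (g * z * g⁻¹)) : SP (h.2 4) (h.2 5) 4 5 := by
  obtain ⟨A, hmem, -, -, hsq, h4, -, -, -⟩ := inner_part F.S F.B F.tQ F.tne
  refine norm_stab h.2 (mem_Hin.mp hh).2 fun x hx => ?_
  obtain ⟨m, hm, rfl⟩ := F.S.surj h (Hin_le hh)
  set t := g * z * g⁻¹ with ht
  have htQ : t ∈ Q := F.tQ
  have hmt : m * t * m⁻¹ ∈ Q := F.S.h.norm m hm t htQ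
  have hpt : p (m * t * m⁻¹) = p t := by rw [F.B.act m hm t htQ]; exact hfix
  obtain ⟨n, hn, hπn, hnt⟩ : ∃ n, n * z = z * n ∧ π n = π m ∧ n * t * n⁻¹ = t := by
    rcases (F.B.eq_iff F.S.h.mem htQ hmt).mp hpt.symm with e | e
    · exact ⟨m, hm, rfl, e⟩
    · obtain ⟨q, hq, eq⟩ := F.S.h.partner t htQ
        (fun e' => F.T_ne (by rw [← ht, e', F.B.map_one])) F.tne
      refine ⟨q * m, (Commute.mul_left (F.S.h.comm q hq) hm).eq,
        by rw [F.S.mul q m (F.S.h.comm q hq) hm, F.S.of_Q hq, one_mul], ?_⟩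
      calc q * m * t * (q * m)⁻¹ = q * (m * t * m⁻¹) * q⁻¹ := by group
        _ = q * t * q⁻¹ * (q * z * q⁻¹) := by rw [e]; group
        _ = t := by
          rw [eq, F.S.h.comm q hq, mul_inv_cancel_right, mul_assoc z t z, F.S.h.comm t htQ,
            ← mul_assoc, F.S.h.zz, one_mul]
  obtain ⟨y, hy, hyz, e⟩ := F.hV x hx
  have h' := (F.S.map_conj g).h
  have hmem' : π m * ι x * (π m)⁻¹ ∈ A := by
    refine (hmem _).mpr ⟨n * y * n⁻¹, h'.norm n (mul_inv_eq_iff_eq_mul.mp hnt) y hy,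
      ((Commute.mul_left hn hyz).mul_left (Commute.inv_left hn)).eq, ?_⟩
    rw [F.S.conj hn hyz, hπn, e]
  have hin : π m * ι x * (π m)⁻¹ ∈ Hin :=
    Hin.mul_mem (Hin.mul_mem hh (one_mem_Hin (V56_facts x hx).1)) (Hin.inv_mem hh)
  obtain ⟨σ, hσ, eσ⟩ := inner_set h4 hsq card_V56 (fun σ hσ => (hmem _).mpr (F.hV σ hσ))
    (fun σ hσ => (V56_facts σ hσ).1) hmem' hin
  have e2 : (π m).2 * x * (π m).2⁻¹ = σ := congrArg Prod.snd eσ
  rwa [e2]

theorem exists_alpha : ∃ s : Perm (Fin 3), Perm.sign s ≠ 1 ∧ Im Q z π g (s, swap 4 5) := by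
  obtain ⟨A, hmem, hA, hab, hsq, -, ⟨α, hα, hαn⟩, -, -⟩ := inner_part F.S F.B F.tQ F.tne
  obtain ⟨-, h1⟩ := outer_inverts (hA hα) hαn
  have h2 : Perm.sign α.2 ≠ 1 := by rw [← mem_H0.mp (hA hα)]; exact h1
  obtain ⟨v, hv, e⟩ := outer_cent α.2 h2 (congrArg Prod.snd (hsq α hα)) fun x hx =>
    congrArg Prod.snd (hab α hα (ι x) ((hmem _).mpr (F.hV x hx)))
  refine ⟨α.1, h1, ?_⟩
  have := (hmem _).mp (A.mul_mem hα ((hmem _).mpr (F.hV v hv)))
  rwa [show α * ι v = (α.1, swap 4 5) from Prod.ext (mul_one _) e] at this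

/-- The transposition in the first coordinate that goes with odd permutations. -/
noncomputable def s0 : Perm (Fin 3) := F.exists_alpha.choose

theorem s0_spec : Perm.sign F.s0 ≠ 1 ∧ Im Q z π g (F.s0, swap 4 5) := F.exists_alpha.choose_spec

/-- The twisted symmetric group. -/
noncomputable def tw (σ : Perm (Fin 6)) : A3 := (if Perm.sign σ = 1 then 1 else F.s0, σ)

theorem tw_even {σ : Perm (Fin 6)} (hσ : Perm.sign σ = 1) : F.tw σ = ι σ := by simp [tw, hσ]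

theorem tw_H0 (σ : Perm (Fin 6)) : F.tw σ ∈ H0 := by
  rcases Int.units_eq_one_or (Perm.sign σ) with h | h
  · rw [F.tw_even h]; exact one_mem_H0 h
  · rw [mem_H0]
    have : Perm.sign F.s0 = -1 := (Int.units_eq_one_or _).resolve_left F.s0_spec.1
    simp [tw, h, this]

theorem tw45_not_Hin : F.tw (swap 4 5) ∉ Hin := fun e => by
  have := (mem_Hin.mp e).2
  simp [tw] at this

theorem tw45_fix : R.ρ (F.tw (swap 4 5)) (p (g * z * g⁻¹)) = p (g * z * g⁻¹) := by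
  obtain ⟨A, hmem, -, -, -, -, -, hfix, -⟩ := inner_part F.S F.B F.tQ F.tne
  refine hfix _ ((hmem _).mpr ?_)
  have : F.tw (swap 4 5) = (F.s0, swap 4 5) := by simp [tw]
  rw [this]; exact F.s0_spec.2

theorem tw45_a (v : V) : R.ρ (F.tw (swap 4 5)) (R.ρ a0 v) =
    R.ρ a0 (R.ρ a0 (R.ρ (F.tw (swap 4 5)) v)) :=
  R.outer_a (F.tw_H0 _) F.tw45_not_Hin v

/-- The vector of a pair. -/
noncomputable def f (_F : Frame Q z π g R p) (i j : Fin 6) : V :=
  if h : i ≠ j then R.ρ (ι (exists_pick i j h).choose) (p (g * z * g⁻¹)) else 0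

theorem f_even {σ : Perm (Fin 6)} (hσ : Perm.sign σ = 1) :
    R.ρ (ι σ) (p (g * z * g⁻¹)) = F.f (σ 4) (σ 5) := by
  have h : σ 4 ≠ σ 5 := σ.injective.ne (by decide)
  unfold f
  rw [dif_pos h]
  obtain ⟨h1, h2, h3⟩ := (exists_pick _ _ h).choose_spec
  set ω := (exists_pick _ _ h).choose
  have hi : Perm.sign (ω⁻¹ * σ) = 1 := by simp [h1, hσ]
  have e : σ = ω * (ω⁻¹ * σ) := by group
  rw [show R.ρ (ι σ) _ = R.ρ (ι (ω * (ω⁻¹ * σ))) _ from congrArg (fun s => R.ρ (ι s) _) e,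
    R.ι_act_mul h1 hi, F.stab_fix hi]
  refine Or.inl ⟨?_, ?_⟩ <;> rw [Perm.mul_apply, Perm.inv_eq_iff_eq]
  exacts [h2.symm, h3.symm]

theorem f45 : F.f 4 5 = p (g * z * g⁻¹) := by
  have := F.f_even (σ := 1) (map_one _)
  rw [R.ι_one] at this
  exact this.symm

theorem f_symm {i j : Fin 6} (h : i ≠ j) : F.f j i = F.f i j := by
  obtain ⟨ω, h1, rfl, rfl⟩ := exists_pick i j h
  have hx : Perm.sign (swap (4 : Fin 6) 5 * swap 0 1) = 1 := by decide +kernel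
  rw [← F.f_even h1]
  have e := F.f_even (σ := ω * (swap 4 5 * swap 0 1)) (by rw [map_mul, h1, hx, one_mul])
  rw [R.ι_act_mul h1 hx, F.stab_fix hx (by decide +kernel)] at e
  rw [e]
  congr 1

theorem f_sp {i j k l : Fin 6} (hij : i ≠ j) (h : SP k l i j) : F.f k l = F.f i j := by
  rcases h with ⟨rfl, rfl⟩ | ⟨rfl, rfl⟩
  · rfl
  · exact F.f_symm hij

theorem f_tw (σ : Perm (Fin 6)) {i j : Fin 6} (h : i ≠ j) :
    R.ρ (F.tw σ) (F.f i j) = F.f (σ i) (σ j) := by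
  obtain ⟨ω, h1, rfl, rfl⟩ := exists_pick i j h
  rw [← F.f_even h1]
  rcases Int.units_eq_one_or (Perm.sign σ) with hs | hs
  · rw [F.tw_even hs, ← R.ι_act_mul hs h1, F.f_even (by simp [hs, h1])]; rfl
  · have h2 : Perm.sign (σ * ω * swap 4 5) = 1 := by simp [hs, h1]
    have e : F.tw σ * ι ω = ι (σ * ω * swap 4 5) * F.tw (swap 4 5) := by
      have e1 : F.tw σ = (F.s0, σ) := by simp [tw, hs]
      have e2 : F.tw (swap 4 5) = (F.s0, swap 4 5) := by simp [tw]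
      rw [e1, e2]
      exact Prod.ext (by simp) (by simp [mul_assoc])
    rw [← R.act_mul (F.tw_H0 σ) (R.ι_mem h1), e, R.act_mul (R.ι_mem h2) (F.tw_H0 _), F.tw45_fix,
      F.f_even h2]
    simp only [Perm.mul_apply, Equiv.swap_apply_left, Equiv.swap_apply_right]
    exact F.f_symm (σ.injective.ne h)

theorem f_ι {σ : Perm (Fin 6)} (hσ : Perm.sign σ = 1) {i j : Fin 6} (h : i ≠ j) :
    R.ρ (ι σ) (F.f i j) = F.f (σ i) (σ j) := by
  rw [← F.tw_even hσ]; exact F.f_tw σ h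

theorem f_ne {i j : Fin 6} (h : i ≠ j) : F.f i j ≠ 0 := by
  obtain ⟨ω, h1, rfl, rfl⟩ := exists_pick i j h
  rw [← F.f_even h1]
  exact fun e => F.T_ne (R.act_inj (R.ι_mem h1) (e.trans (map_zero _).symm))

theorem f_base {i j : Fin 6} (h : i ≠ j) (ho : Orb R (p (g * z * g⁻¹)) (F.f i j)) :
    SP i j 4 5 := by
  obtain ⟨ω, h1, rfl, rfl⟩ := exists_pick i j h
  rw [← F.f_even h1] at ho
  have hω := one_mem_Hin h1
  have ha := R.a0_H0
  rcases ho with e | e | e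
  · exact F.fix_stab hω e
  · have := F.fix_stab (h := a0 * a0 * ι ω) (Hin.mul_mem (Hin.mul_mem a0_mem a0_mem) hω) (by
      rw [R.act_mul (H0.mul_mem ha ha) (Hin_le hω), R.act_mul ha ha, e, F.pow3])
    simpa [a0] using this
  · have := F.fix_stab (h := a0 * ι ω) (Hin.mul_mem a0_mem hω) (by
      rw [R.act_mul ha (Hin_le hω), e, F.pow3])
    simpa [a0] using this

theorem orb_pair {i j k l : Fin 6} (hij : i ≠ j) (hkl : k ≠ l) {x : V}
    (h1 : Orb R (F.f i j) x) (h2 : Orb R (F.f k l) x) : SP i j k l := by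
  have h3 : Orb R (F.f k l) (F.f i j) := by
    rcases h1 with rfl | rfl | rfl
    · exact h2
    · have := F.orb_shift (F.orb_shift h2); rwa [F.pow3] at this
    · have := F.orb_shift h2; rwa [F.pow3] at this
  obtain ⟨ω, h1', rfl, rfl⟩ := exists_pick k l hkl
  have hi : Perm.sign ω⁻¹ = 1 := by simp [h1']
  have h4 : Orb R (p (g * z * g⁻¹)) (F.f (ω⁻¹ i) (ω⁻¹ j)) := by
    rw [← F.f_ι hi hij]
    have hb : R.ρ (ι ω⁻¹) (F.f (ω 4) (ω 5)) = p (g * z * g⁻¹) := by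
      rw [F.f_ι hi hkl, ← F.f45]; simp
    have hc := fun w => (R.a_comm (one_mem_Hin hi) w).symm
    rcases h3 with e | e | e <;> rw [e]
    · exact Or.inl hb
    · exact Or.inr (Or.inl (by rw [hc, hb]))
    · exact Or.inr (Or.inr (by rw [hc, hc, hb]))
  rcases F.f_base (ω⁻¹.injective.ne hij) h4 with ⟨a, b⟩ | ⟨a, b⟩
  · exact Or.inl ⟨(Perm.inv_eq_iff_eq.mp a), (Perm.inv_eq_iff_eq.mp b)⟩
  · exact Or.inr ⟨(Perm.inv_eq_iff_eq.mp a), (Perm.inv_eq_iff_eq.mp b)⟩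

theorem f_pair {i j k l : Fin 6} (hij : i ≠ j) (hkl : k ≠ l) (e : F.f i j = F.f k l) :
    SP i j k l := F.orb_pair hij hkl (Or.inl rfl) (Or.inl e)

theorem base_disjoint : F.f 0 1 + F.f 2 3 = F.f 4 5 := by
  have hfix : ∀ σ ∈ V56, R.ρ (ι σ) (F.f 0 1 + F.f 2 3) = F.f 0 1 + F.f 2 3 := by
    intro σ hσ
    have hdec : ∀ σ ∈ V56, (SP (σ 0) (σ 1) 0 1 ∧ SP (σ 2) (σ 3) 2 3) ∨
        (SP (σ 0) (σ 1) 2 3 ∧ SP (σ 2) (σ 3) 0 1) := by decide +kernel
    rw [map_add, F.f_ι (V56_facts σ hσ).1 (by decide), F.f_ι (V56_facts σ hσ).1 (by decide)]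
    rcases hdec σ hσ with ⟨a, b⟩ | ⟨a, b⟩ <;> rw [F.f_sp (by decide) a, F.f_sp (by decide) b]
    exact add_comm _ _
  have hα : R.ρ (F.tw (swap 4 5)) (F.f 0 1 + F.f 2 3) = F.f 0 1 + F.f 2 3 := by
    rw [map_add, F.f_tw _ (by decide), F.f_tw _ (by decide)]
    rfl
  have hne : F.f 0 1 + F.f 2 3 ≠ 0 := fun e => by
    have e' : F.f 0 1 = F.f 2 3 := by
      rw [← zz_add (F.f 0 1) (F.f 2 3), e, zero_add]
    exact absurd (F.f_pair (by decide) (by decide) e') (by decide)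
  rw [F.f45]
  obtain ⟨d1, d2, d3⟩ := F.orb_distinct F.T_ne
  rcases (F.plane hfix).resolve_left hne with e | e | e
  · exact e
  · exfalso
    rw [e, F.tw45_a, F.tw45_fix] at hα
    exact d3 hα
  · exfalso
    rw [e, F.tw45_a, F.tw45_a, F.tw45_fix, F.pow3] at hα
    exact d3 hα.symm

theorem disjoint (σ : Perm (Fin 6)) :
    F.f (σ 0) (σ 1) + F.f (σ 2) (σ 3) = F.f (σ 4) (σ 5) := by
  rw [← F.f_tw σ (by decide), ← F.f_tw σ (by decide), ← F.f_tw σ (by decide), ← map_add,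
    F.base_disjoint]

theorem base_share : F.f 0 4 + F.f 0 5 = F.f 4 5 := by
  -- `f(k4) + f(k5)` does not depend on `k`
  have hind : ∀ k : Fin 6, k ≠ 4 → k ≠ 5 → F.f k 4 + F.f k 5 = F.f 0 4 + F.f 0 5 := by
    intro k h4 h5
    rcases eq_or_ne k 0 with rfl | h0
    · rfl
    obtain ⟨m, n, hm⟩ : ∃ m n : Fin 6, m ≠ n ∧ m ≠ 0 ∧ m ≠ k ∧ m ≠ 4 ∧ m ≠ 5 ∧
        n ≠ 0 ∧ n ≠ k ∧ n ≠ 4 ∧ n ≠ 5 := by
      clear * - h0 h4 h5; revert k; decide +kernel
    obtain ⟨hmn, m0, mk', m4, m5, n0, nk, n4, n5⟩ := hm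
    have hsix : ∀ a b : Fin 6, ∀ σ : Perm (Fin 6),
        σ 0 = k → σ 1 = a → σ 2 = m → σ 3 = n →
        a ≠ k → a ≠ m → a ≠ n → b ≠ k → b ≠ m → b ≠ n → a ≠ b → b ≠ 0 → a ≠ 0 →
        F.f 0 b = F.f k a + F.f m n := by
      intro a b σ e0 e1 e2 e3 ak am an bk bm bn hab b0 a0
      have h := F.disjoint σ
      rw [e0, e1, e2, e3] at h
      rw [h]
      have hsp : SP (σ 4) (σ 5) 0 b := by
        have hcov : ∀ x : Fin 6, x = k ∨ x = a ∨ x = m ∨ x = n ∨ x = 0 ∨ x = b := by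
          have hc : ({k, a, m, n, 0, b} : Finset (Fin 6)).card = 6 := by
            simp [ak, am, an, bk, bm, bn, hab, b0, a0, m0, n0, mk', nk, hmn, h0, Ne.symm ak,
              Ne.symm bk, Ne.symm m0, Ne.symm n0, Ne.symm mk', Ne.symm nk, Ne.symm b0, Ne.symm a0,
              Ne.symm am, Ne.symm an, Ne.symm bm, Ne.symm bn]
          intro x
          have : x ∈ ({k, a, m, n, 0, b} : Finset (Fin 6)) := by
            rw [Finset.eq_univ_of_card _ (hc.trans (Fintype.card_fin 6).symm)]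
            exact Finset.mem_univ x
          simpa using this
        have h45 : σ 4 ≠ σ 5 := σ.injective.ne (by decide)
        have ex : ∀ x : Fin 6, x ≠ 0 → x ≠ 1 → x ≠ 2 → x ≠ 3 → σ x = 0 ∨ σ x = b := by
          intro x x0 x1 x2 x3
          rcases hcov (σ x) with e | e | e | e | e | e
          · exact absurd (σ.injective (e.trans e0.symm)) x0
          · exact absurd (σ.injective (e.trans e1.symm)) x1
          · exact absurd (σ.injective (e.trans e2.symm)) x2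
          · exact absurd (σ.injective (e.trans e3.symm)) x3
          · exact Or.inl e
          · exact Or.inr e
        rcases ex 4 (by decide) (by decide) (by decide) (by decide) with a1 | a1 <;>
          rcases ex 5 (by decide) (by decide) (by decide) (by decide) with a2 | a2
        · exact absurd (a1.trans a2.symm) h45
        · exact Or.inl ⟨a1, a2⟩
        · exact Or.inr ⟨a1, a2⟩
        · exact absurd (a1.trans a2.symm) h45
      exact (F.f_sp b0.symm hsp).symm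
    obtain ⟨p0, p1, p2, p3⟩ := place4_spec k 4 m n h4 hmn mk'.symm nk.symm m4.symm n4.symm
    obtain ⟨q0, q1, q2, q3⟩ := place4_spec k 5 m n h5 hmn mk'.symm nk.symm m5.symm n5.symm
    rw [hsix 4 5 _ p0 p1 p2 p3 h4.symm m4.symm n4.symm h5.symm m5.symm n5.symm (by decide)
        (by decide) (by decide),
      hsix 5 4 _ q0 q1 q2 q3 h5.symm m5.symm n5.symm h4.symm m4.symm n4.symm (by decide)
        (by decide) (by decide)]
    calc F.f k 4 + F.f k 5 = F.f k 4 + F.f k 5 + (F.f m n + F.f m n) := by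
          rw [ZModModule.add_self, add_zero]
      _ = F.f k 5 + F.f m n + (F.f k 4 + F.f m n) := by abel
  have hfix : ∀ σ ∈ V56, R.ρ (ι σ) (F.f 0 4 + F.f 0 5) = F.f 0 4 + F.f 0 5 := by
    intro σ hσ
    have hdec : ∀ σ ∈ V56, σ 4 = 4 ∧ σ 5 = 5 ∧ σ 0 ≠ 4 ∧ σ 0 ≠ 5 := by decide +kernel
    obtain ⟨a, b, c, d⟩ := hdec σ hσ
    rw [map_add, F.f_ι (V56_facts σ hσ).1 (by decide), F.f_ι (V56_facts σ hσ).1 (by decide), a, b,
      hind _ c d]
  have hα : R.ρ (F.tw (swap 4 5)) (F.f 0 4 + F.f 0 5) = F.f 0 4 + F.f 0 5 := by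
    rw [map_add, F.f_tw _ (by decide), F.f_tw _ (by decide)]
    rw [show (swap (4 : Fin 6) 5) 0 = 0 by decide, Equiv.swap_apply_left, Equiv.swap_apply_right,
      add_comm]
  have hne : F.f 0 4 + F.f 0 5 ≠ 0 := fun e => by
    have e' : F.f 0 4 = F.f 0 5 := by
      rw [← zz_add (F.f 0 4) (F.f 0 5), e, zero_add]
    exact absurd (F.f_pair (by decide) (by decide) e') (by decide)
  rw [F.f45]
  obtain ⟨d1, d2, d3⟩ := F.orb_distinct F.T_ne
  rcases (F.plane hfix).resolve_left hne with e | e | e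
  · exact e
  · exfalso
    rw [e, F.tw45_a, F.tw45_fix] at hα
    exact d3 hα
  · exfalso
    rw [e, F.tw45_a, F.tw45_a, F.tw45_fix, F.pow3] at hα
    exact d3 hα.symm

theorem share {i j k : Fin 6} (hij : i ≠ j) (hik : i ≠ k) (hjk : j ≠ k) :
    F.f i j + F.f i k = F.f j k := by
  obtain ⟨e0, e4, e5⟩ := place3_spec i j k hij hik hjk
  have h := congrArg (R.ρ (F.tw (place3 i j k))) F.base_share
  rwa [map_add, F.f_tw _ (by decide), F.f_tw _ (by decide), F.f_tw _ (by decide), e0, e4, e5] at h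

theorem add_f {i j k l : Fin 6} (hij : i ≠ j) (hkl : k ≠ l) :
    F.f i j + F.f k l = 0 ∨ ∃ m n, m ≠ n ∧ F.f i j + F.f k l = F.f m n := by
  by_cases hsp : SP k l i j
  · exact Or.inl (by rw [F.f_sp hij hsp, ZModModule.add_self])
  right
  by_cases hik : i = k
  · subst hik
    have hjl : j ≠ l := fun e => hsp (Or.inl ⟨rfl, e.symm⟩)
    exact ⟨j, l, hjl, F.share hij hkl hjl⟩
  by_cases hil : i = l
  · subst hil
    have hjk : j ≠ k := fun e => hsp (Or.inr ⟨e.symm, rfl⟩)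
    exact ⟨j, k, hjk, by rw [F.f_symm hkl.symm]; exact F.share hij hkl.symm hjk⟩
  by_cases hjk : j = k
  · subst hjk
    exact ⟨i, l, hil, by rw [← F.f_symm hij]; exact F.share hij.symm hkl hil⟩
  by_cases hjl : j = l
  · subst hjl
    exact ⟨i, k, hik, by rw [← F.f_symm hij, F.f_symm hkl.symm]; exact F.share hij.symm hkl.symm hik⟩
  obtain ⟨e0, e1, e2, e3⟩ := place4_spec i j k l hij hkl hik hil hjk hjl
  have h := F.disjoint (place4 i j k l)
  rw [e0, e1, e2, e3] at h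
  exact ⟨_, _, (place4 i j k l).injective.ne (by decide), h⟩

/-- The vectors of the conjugates of `z`. -/
def O1 (v : V) : Prop := ∃ i j, i ≠ j ∧ Orb R (F.f i j) v

/-- Every conjugate of `z` in `Q` other than `z` has its vector in `O1`. -/
theorem conj_O1 {k : G} (hk : k * z * k⁻¹ ∈ Q) (hkne : k * z * k⁻¹ ≠ z) :
    F.O1 (p (k * z * k⁻¹)) := by
  obtain ⟨m, hm, ⟨γ, hγ, hπ⟩, hQ, hne, hcl⟩ := exists_normal_form F.S F.B hk hkne
  obtain ⟨A, hmem, -, -, hsq, h4, -, -, hpl⟩ := inner_part F.S F.B hQ hne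
  have hv : p ((m * k) * z * (m * k)⁻¹) = R.ρ (ι γ) (p (k * z * k⁻¹)) := by
    rw [← hπ, ← F.B.act m hm _ hk]; congr 1; group
  set T := p (g * z * g⁻¹) with hT
  have hplane : ∀ {S' : Finset (Perm (Fin 6))}, S'.card = 4 → (∀ σ ∈ S', Perm.sign σ = 1) →
      (∀ σ ∈ S', Im Q z π (m * k) (ι σ)) → ∀ v, (∀ σ ∈ S', R.ρ (ι σ) v = v) →
      v = 0 ∨ Orb R (p ((m * k) * z * (m * k)⁻¹)) v := by
    intro S' hc he hS v hvv
    refine hpl v fun a ha ha' => ?_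
    obtain ⟨σ, hσ, rfl⟩ := inner_set h4 hsq hc (fun σ hσ => (hmem _).mpr (hS σ hσ)) he ha ha'
    exact hvv σ hσ
  rcases hcl with h | h
  · have h1 := (hplane card_V56 (fun σ hσ => (V56_facts σ hσ).1) h T fun σ hσ =>
      F.V_fix hσ).resolve_left F.T_ne
    have hi : Perm.sign γ⁻¹ = 1 := by simp [hγ]
    have hback : p (k * z * k⁻¹) = R.ρ (ι γ⁻¹) (p ((m * k) * z * (m * k)⁻¹)) := by
      rw [hv, ← R.ι_act_mul hi hγ, inv_mul_cancel, R.ι_one]
    refine ⟨γ⁻¹ 4, γ⁻¹ 5, γ⁻¹.injective.ne (by decide), ?_⟩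
    rw [← F.f_even hi, hback, show p (g * z * g⁻¹) = T from rfl]
    have hc := fun w => (R.a_comm (one_mem_Hin hi) w).symm
    rcases h1 with e | e | e <;> rw [e]
    · exact Or.inl rfl
    · refine Or.inr (Or.inr ?_)
      rw [← hc, ← hc, F.pow3]
    · refine Or.inr (Or.inl ?_)
      rw [← hc, F.pow3]
  · exfalso
    set T' := p ((m * k) * z * (m * k)⁻¹)
    have f1 : ∀ σ ∈ VB, R.ρ (ι σ) T = T := fun σ hσ =>
      F.stab_fix (VB_facts σ hσ).1 (VB_facts σ hσ).2.1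
    have f2 : ∀ σ ∈ VB, R.ρ (ι σ) (F.f 0 1) = F.f 0 1 := fun σ hσ => by
      rw [F.f_ι (VB_facts σ hσ).1 (by decide), F.f_sp (by decide) (VB_facts σ hσ).2.2]
    have m1 := (hplane card_VB (fun σ hσ => (VB_facts σ hσ).1) h T f1).resolve_left F.T_ne
    have m2 := (hplane card_VB (fun σ hσ => (VB_facts σ hσ).1) h _ f2).resolve_left (F.f_ne (by decide))
    have h3 : Orb R T (F.f 0 1) := by
      rcases m1 with e | e | e <;> rw [e]
      · exact m2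
      · rcases m2 with e' | e' | e' <;> rw [e']
        · exact Or.inr (Or.inr (F.pow3 _).symm)
        · exact Or.inl rfl
        · exact Or.inr (Or.inl rfl)
      · rcases m2 with e' | e' | e' <;> rw [e']
        · exact Or.inr (Or.inl (F.pow3 _).symm)
        · exact Or.inr (Or.inr (by rw [F.pow3]))
        · exact Or.inl rfl
    exact absurd (F.f_base (by decide) h3) (by decide)

/-- A vector of `O1` is moved to the base vector by `C(z)`. -/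
theorem exists_mover {v : V} (hv : F.O1 v) :
    ∃ m, m * z = z * m ∧ p (m * (g * z * g⁻¹) * m⁻¹) = v := by
  obtain ⟨i, j, hij, ho⟩ := hv
  obtain ⟨ω, h1, rfl, rfl⟩ := exists_pick i j hij
  rw [← F.f_even h1] at ho
  have key : ∀ k ∈ H0, ∃ m, m * z = z * m ∧
      p (m * (g * z * g⁻¹) * m⁻¹) = R.ρ k (p (g * z * g⁻¹)) := fun k hk => by
    obtain ⟨m, hm, rfl⟩ := F.S.surj k hk
    exact ⟨m, hm, F.B.act m hm _ F.tQ⟩
  have hω := R.ι_mem h1
  have ha := R.a0_H0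
  rcases ho with rfl | rfl | rfl
  · exact key _ hω
  · rw [← R.act_mul ha hω]; exact key _ (H0.mul_mem ha hω)
  · rw [← R.act_mul ha hω, ← R.act_mul ha (H0.mul_mem ha hω)]
    exact key _ (H0.mul_mem ha (H0.mul_mem ha hω))

/-- Exact mover. -/
theorem exists_conj_t {q : G} (hq : q ∈ Q) (hv : F.O1 (p q)) :
    ∃ m, m * z = z * m ∧ m * (g * z * g⁻¹) * m⁻¹ = q := by
  obtain ⟨m, hm, e⟩ := F.exists_mover hv
  have hmt := F.S.h.norm m hm _ F.tQ
  rcases (F.B.eq_iff F.S.h.mem hmt hq).mp e with e1 | e1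
  · exact ⟨m, hm, e1.symm⟩
  · obtain ⟨r, hr, er⟩ := F.S.h.partner _ hmt (fun e' => F.T_ne (by
      rw [conj_eq_one_iff.mp e', F.B.map_one])) (fun e' => F.tne (by
      rw [mul_inv_eq_iff_eq_mul, ← hm] at e'; exact mul_left_cancel e'))
    refine ⟨r * m, (Commute.mul_left (F.S.h.comm r hr) hm).eq, ?_⟩
    rw [e1, F.S.h.comm _ hmt, ← er]
    group

end Frame

end Cfsg.Agent.S3284Labels23
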