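import Cfsg.Agent.Lib.S3284Outside23
import Cfsg.Agent.Lib.S3284Labels23
import Cfsg.Agent.Lib.S3284Cent23
import Cfsg.Agent.Lib.ZStarTheorem

/-!
# The final contradiction (for S3284)
-/

set_option autoImplicit false

namespace Cfsg.Agent.S3284Final23

open Cfsg.Agent.S3284Group23 Cfsg.Agent.S3284Model23 Cfsg.Agent.S3284Setting23
open Cfsg.Agent.LargeExtraspecial Cfsg.Agent.S3284Inside23 Cfsg.Agent.S3284Labels23
open Cfsg.Agent.S3284Cent23
open Equiv (Perm swap)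

universe u

theorem tri_facts : ∀ x ∈ V56, x ≠ 1 → ∃ γ w : Perm (Fin 6), Perm.sign γ = 1 ∧
    γ * (γ * γ) = 1 ∧ γ ≠ 1 ∧ SP (γ 4) (γ 5) 4 5 ∧ Perm.sign w = 1 ∧ w * w = 1 ∧ w ≠ 1 ∧
    w * (γ * x * γ⁻¹) * w⁻¹ = γ * γ * x * (γ * γ)⁻¹ ∧
    γ * γ * x * (γ * γ)⁻¹ * (γ * x * γ⁻¹) = x := by decide +kernel

variable {G : Type u} [Group G] [Finite G] {Q : Subgroup G} {z : G} {π : G → A3}
  {V : Type u} [AddCommGroup V] [Module (ZMod 2) V] {R : Rep V} {p : G → V} {g : G}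

/-- An element exchanging `z` and `t`. -/
theorem exists_h (F : Frame Q z π g R p) : ∃ h : G, h * z * h⁻¹ = g * z * g⁻¹ ∧
    h * (g * z * g⁻¹) * h⁻¹ = z ∧
    (∀ x ∈ Q, h * x * h⁻¹ ∈ Q.map (MulAut.conj g).toMonoidHom) ∧
    (∀ x ∈ Q.map (MulAut.conj g).toMonoidHom, h⁻¹ * x * h ∈ Q) ∧
    (∀ x ∈ Q, h⁻¹ * x * h ∈ Q.map (MulAut.conj g).toMonoidHom) := by
  obtain ⟨y, hy, e⟩ := (in_of_conj F.S F.tQ F.tne).zQ'
  simp only [MulEquiv.coe_toMonoidHom, MulAut.conj_apply] at e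
  have ey : g⁻¹ * z * g⁻¹⁻¹ = y := by rw [← e]; group
  have hne : g⁻¹ * z * g⁻¹⁻¹ ≠ z := fun h => F.tne (by
    calc g * z * g⁻¹ = g * (g⁻¹ * z * g⁻¹⁻¹) * g⁻¹ := by rw [h]
      _ = z := by group)
  have hO := F.conj_O1 (k := g⁻¹) (ey ▸ hy) hne
  rw [ey] at hO
  obtain ⟨m, hm, em⟩ := F.exists_conj_t hy hO
  have hz : g * m * z * (g * m)⁻¹ = g * z * g⁻¹ := by
    calc g * m * z * (g * m)⁻¹ = g * (m * z) * m⁻¹ * g⁻¹ := by group
      _ = g * (z * m) * m⁻¹ * g⁻¹ := by rw [hm]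
      _ = _ := by group
  have ht : g * m * (g * z * g⁻¹) * (g * m)⁻¹ = z := by
    calc g * m * (g * z * g⁻¹) * (g * m)⁻¹ = g * (m * (g * z * g⁻¹) * m⁻¹) * g⁻¹ := by group
      _ = z := by rw [em, e]
  refine ⟨g * m, hz, ht, fun x hx => ⟨m * x * m⁻¹, F.S.h.norm m hm x hx, ?_⟩, ?_, fun x hx => ?_⟩
  · simp only [MulEquiv.coe_toMonoidHom, MulAut.conj_apply]; group
  · rintro _ ⟨x, hx, rfl⟩
    have := F.S.h.norm m⁻¹ (Commute.inv_left hm).eq x hx
    rw [inv_inv] at this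
    simp only [MulEquiv.coe_toMonoidHom, MulAut.conj_apply]
    rwa [show (g * m)⁻¹ * (g * x * g⁻¹) * (g * m) = m⁻¹ * x * m by group]
  · refine F.S.h.map_conj_congr (a := (g * m)⁻¹) (b := g) ?_ ⟨x, hx, ?_⟩
    · calc (g * m)⁻¹ * z * (g * m)⁻¹⁻¹
          = (g * m)⁻¹ * (g * m * (g * z * g⁻¹) * (g * m)⁻¹) * (g * m)⁻¹⁻¹ := by rw [ht]
        _ = g * z * g⁻¹ := by group
    · simp only [MulEquiv.coe_toMonoidHom, MulAut.conj_apply]; group

theorem swap45_fix : ∀ i : Fin 6, i ≠ 4 → i ≠ 5 → swap (4 : Fin 6) 5 i = i := by decide +kernel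

/-- A vector `a f(ij)` is never sent to `Q ∩ Q'`. -/
theorem not_Eb (F : Frame Q z π g R p) {i j : Fin 6} (hij : i ≠ j) (i4 : i ≠ 4) (i5 : i ≠ 5)
    (j4 : j ≠ 4) (j5 : j ≠ 5) {r : G} (hr : r ∈ Q) (hr' : r ∈ Q.map (MulAut.conj g).toMonoidHom) :
    p r ≠ R.ρ a0 (F.f i j) := by
  intro e
  have I := in_of_conj F.S F.tQ F.tne
  obtain ⟨x, hx, hxz, hxπ⟩ := F.s0_spec.2
  have hπ : π x = F.tw (swap 4 5) := by simp [Frame.tw, hxπ]
  have h := I.move_Eb F.B (x := x) (I.mem_C'.mpr ⟨hx, hxz⟩) (v := R.ρ a0 (F.f i j))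
    ⟨r, hr, hr', e⟩
  rw [hπ, F.tw45_a, F.f_tw _ hij, swap45_fix i i4 i5, swap45_fix j j4 j5] at h
  have hs := F.orb_sum (F.f i j)
  have e1 : R.ρ a0 (R.ρ a0 (F.f i j)) + R.ρ a0 (F.f i j) = F.f i j := by
    rw [← zz_add (R.ρ a0 (R.ρ a0 (F.f i j)) + R.ρ a0 (F.f i j)) (F.f i j),
      show R.ρ a0 (R.ρ a0 (F.f i j)) + R.ρ a0 (F.f i j) + F.f i j =
        F.f i j + R.ρ a0 (F.f i j) + R.ρ a0 (R.ρ a0 (F.f i j)) by abel, hs, zero_add]
  rw [e1] at h
  rcases h with h | h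
  · exact F.f_ne hij h
  · rw [← F.f45] at h
    rcases F.f_pair hij (by decide) h with ⟨a, b⟩ | ⟨a, b⟩
    · exact i4 a
    · exact i5 a

/-- The base vector is orthogonal to `a f(ij)`. -/
theorem perp (F : Frame Q z π g R p) : R.b (R.ρ a0 (F.f 0 1)) (p (g * z * g⁻¹)) = 0 ∧
    R.b (R.ρ a0 (F.f 1 2)) (p (g * z * g⁻¹)) = 0 ∧ R.b (R.ρ a0 (F.f 2 0)) (p (g * z * g⁻¹)) = 0 := by
  set c : Perm (Fin 6) := swap 0 1 * swap 1 2 with hc
  have hcs : Perm.sign c = 1 ∧ SP (c 4) (c 5) 4 5 ∧ c 0 = 1 ∧ c 1 = 2 ∧ c 2 = 0 := by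
    rw [hc]; decide +kernel
  obtain ⟨h1, h2, c0, c1, c2⟩ := hcs
  have key : ∀ i j : Fin 6, i ≠ j → R.b (R.ρ a0 (F.f i j)) (p (g * z * g⁻¹)) =
      R.b (R.ρ a0 (F.f (c i) (c j))) (p (g * z * g⁻¹)) := by
    intro i j hij
    conv_lhs => rw [← R.b_act (R.ι_mem h1)]
    rw [← R.a_comm (one_mem_Hin h1), F.f_ι h1 hij, F.stab_fix h1 h2]
  have k1 := key 0 1 (by decide)
  have k2 := key 1 2 (by decide)
  rw [c0, c1] at k1
  rw [c1, c2] at k2
  have hs : F.f 0 1 + F.f 0 2 = F.f 1 2 := F.share (by decide) (by decide) (by decide)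
  have e := congrArg (fun v => R.b (R.ρ a0 v) (p (g * z * g⁻¹))) hs
  simp only [map_add, LinearMap.add_apply] at e
  rw [F.f_symm (show (2 : Fin 6) ≠ 0 by decide), ← k2, k1, ZModModule.add_self] at e
  exact ⟨k1.trans e.symm, e.symm, k2.symm.trans e.symm⟩

theorem O1_conj (F : Frame Q z π g R p) {q : G} (hq : q ∈ Q) (hv : F.O1 (p q)) :
    ∃ k : G, k * z * k⁻¹ = q := by
  obtain ⟨m, -, e⟩ := F.exists_conj_t hq hv
  exact ⟨m * g, by rw [← e]; group⟩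

theorem O1_ι (F : Frame Q z π g R p) {σ : Perm (Fin 6)} (hσ : Perm.sign σ = 1) {v : V}
    (hv : F.O1 v) : F.O1 (R.ρ (ι σ) v) := by
  obtain ⟨i, j, hij, ho⟩ := hv
  refine ⟨σ i, σ j, σ.injective.ne hij, ?_⟩
  rw [← F.f_ι hσ hij]
  have hc := fun w => (R.a_comm (one_mem_Hin hσ) w).symm
  rcases ho with rfl | rfl | rfl
  · exact Or.inl rfl
  · exact Or.inr (Or.inl (hc _))
  · exact Or.inr (Or.inr (by rw [hc, hc]))

theorem sum_not_O1 (F : Frame Q z π g R p) :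
    ¬ F.O1 (R.ρ a0 (F.f 0 1) + p (g * z * g⁻¹)) := by
  rintro ⟨i, j, hij, ho⟩
  set T := p (g * z * g⁻¹) with hT
  set x : Perm (Fin 6) := swap 0 1 * swap 2 3 with hx
  have hxs : Perm.sign x = 1 ∧ x * x = 1 ∧ SP (x 4) (x 5) 4 5 ∧ SP (x 0) (x 1) 0 1 ∧
      ∀ a b : Fin 6, a ≠ b → SP (x a) (x b) a b → SP a b 0 1 ∨ SP a b 2 3 ∨ SP a b 4 5 := by
    rw [hx]; decide +kernel
  obtain ⟨h1, -, h2, h3, h4⟩ := hxs
  have hc := fun w => (R.a_comm (one_mem_Hin h1) w).symm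
  have hfix : R.ρ (ι x) (R.ρ a0 (F.f 0 1) + T) = R.ρ a0 (F.f 0 1) + T := by
    rw [map_add, hc, F.f_ι h1 (by decide), F.f_sp (by decide) h3, hT, F.stab_fix h1 h2]
  have h5 : Orb R (F.f (x i) (x j)) (R.ρ a0 (F.f 0 1) + T) := by
    rw [← hfix, ← F.f_ι h1 hij]
    rcases ho with e | e | e <;> rw [e]
    · exact Or.inl rfl
    · exact Or.inr (Or.inl (hc _))
    · exact Or.inr (Or.inr (by rw [hc, hc]))
  have hsp := h4 i j hij (F.orb_pair (x.injective.ne hij) hij h5 ho)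
  have h01 : (0 : Fin 6) ≠ 1 := by decide
  rcases hsp with hsp | hsp | hsp <;> rw [F.f_sp (by decide) hsp] at ho
  · -- `T` would be in the plane of `{0,1}`
    rcases F.orb_add (Or.inr (Or.inl rfl) : Orb R (F.f 0 1) (R.ρ a0 (F.f 0 1))) ho with e | e <;>
      rw [← add_assoc, ZModModule.add_self, zero_add] at e
    · exact F.T_ne e
    · exact absurd (F.orb_pair h01 (by decide) e (Or.inl F.f45.symm)) (by decide)
  · -- the third pair
    have hd : F.f 0 1 + F.f 2 3 = T := by rw [F.base_disjoint, F.f45]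
    have e23 : F.f 2 3 = F.f 0 1 + T := by
      rw [← hd, ← add_assoc, ZModModule.add_self, zero_add]
    rcases F.orb_add (Or.inr (Or.inl rfl) : Orb R (F.f 2 3) (R.ρ a0 (F.f 2 3))) ho with e | e
    all_goals
      have e2 : R.ρ a0 (F.f 2 3) + (R.ρ a0 (F.f 0 1) + T) = R.ρ a0 T + T := by
        rw [e23, map_add]
        calc R.ρ a0 (F.f 0 1) + R.ρ a0 T + (R.ρ a0 (F.f 0 1) + T)
            = R.ρ a0 T + T + (R.ρ a0 (F.f 0 1) + R.ρ a0 (F.f 0 1)) := by abel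
          _ = _ := by rw [ZModModule.add_self, add_zero]
      rw [e2] at e
    · exact (F.orb_distinct F.T_ne).1 (by
        rw [← zz_add (R.ρ a0 T) T, e, zero_add])
    · have h6 : Orb R (F.f 4 5) (R.ρ a0 T + T) := by
        rw [F.f45]
        rcases F.orb_add (Or.inr (Or.inl rfl) : Orb R T (R.ρ a0 T)) (Or.inl rfl) with e' | e'
        · exact absurd (zz_add (R.ρ a0 T) T ▸ (by rw [e', zero_add] : R.ρ a0 T + T + T = T))
            (F.orb_distinct F.T_ne).1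
        · exact e'
      exact absurd (F.orb_pair (by decide) (by decide) e h6) (by decide)
  · rw [F.f45] at ho
    rcases F.orb_add ho (Or.inl rfl : Orb R T T) with e | e <;> rw [zz_add] at e
    · exact F.f_ne h01 (R.act_inj R.a0_H0 (e.trans (map_zero _).symm))
    · rw [← F.f45] at e
      exact absurd (F.orb_pair h01 (by decide) (Or.inr (Or.inl rfl)) e) (by decide)

/-- The key involution: a conjugate of `z` in `C_{Q'}(z)` with inner image. -/
theorem exists_key (F : Frame Q z π g R p) : ∃ u x : _,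
    u ∈ Q.map (MulAut.conj g).toMonoidHom ∧ u * z = z * u ∧ x ∈ V56 ∧ x ≠ 1 ∧ π u = ι x ∧
    (∃ k : G, k * z * k⁻¹ = u) ∧ ∀ k : G, k * z * k⁻¹ ≠ u * z := by
  obtain ⟨p01, p12, p20⟩ := perp F
  obtain ⟨h, hz, ht, hQ, hQ', hQ''⟩ := exists_h F
  set t := g * z * g⁻¹ with htdef
  have lift : ∀ i j : Fin 6, i ≠ j → R.b (R.ρ a0 (F.f i j)) (p t) = 0 →
      ∃ r ∈ Q, p r = R.ρ a0 (F.f i j) ∧ r * t = t * r := by
    intro i j _ hb
    obtain ⟨r, hr, e⟩ := F.B.surj (R.ρ a0 (F.f i j))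
    exact ⟨r, hr, e, (F.B.comm r hr t F.tQ).mp (e.symm ▸ hb)⟩
  obtain ⟨r1, hr1, e1, c1⟩ := lift 0 1 (by decide) p01
  obtain ⟨r2, hr2, e2, c2⟩ := lift 2 0 (by decide) p20
  have e3 : p (r1 * r2) = R.ρ a0 (F.f 1 2) := by
    rw [F.B.map_mul r1 hr1 r2 hr2, e1, e2, ← map_add, F.f_symm (show (0 : Fin 6) ≠ 2 by decide),
      F.share (by decide) (by decide) (by decide)]
  have hcz : ∀ r, r * t = t * r → h * r * h⁻¹ * z = z * (h * r * h⁻¹) := fun r hr => by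
    rw [← ht]
    calc h * r * h⁻¹ * (h * t * h⁻¹) = h * (r * t) * h⁻¹ := by group
      _ = h * (t * r) * h⁻¹ := by rw [hr]
      _ = _ := by group
  have c3 : r1 * r2 * t = t * (r1 * r2) := (Commute.mul_left c1 c2).eq
  have hπ : π (h * (r1 * r2) * h⁻¹) = π (h * r1 * h⁻¹) * π (h * r2 * h⁻¹) := by
    rw [← F.S.mul _ _ (hcz r1 c1) (hcz r2 c2)]; congr 1; group
  have hex : ∃ i j : Fin 6, ∃ r : G, ((i = 0 ∧ j = 1) ∨ (i = 2 ∧ j = 0) ∨ (i = 1 ∧ j = 2)) ∧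
      r ∈ Q ∧ p r = R.ρ a0 (F.f i j) ∧ r * t = t * r ∧ π (h * r * h⁻¹) ∈ Hin := by
    by_cases a1 : π (h * r1 * h⁻¹) ∈ Hin
    · exact ⟨0, 1, r1, Or.inl ⟨rfl, rfl⟩, hr1, e1, c1, a1⟩
    by_cases a2 : π (h * r2 * h⁻¹) ∈ Hin
    · exact ⟨2, 0, r2, Or.inr (Or.inl ⟨rfl, rfl⟩), hr2, e2, c2, a2⟩
    exact ⟨1, 2, r1 * r2, Or.inr (Or.inr ⟨rfl, rfl⟩), Q.mul_mem hr1 hr2, e3, c3,
      hπ ▸ inner_of_mul (F.S.img _ (hcz r1 c1)) (F.S.img _ (hcz r2 c2)) a1 a2⟩
  obtain ⟨i, j, r, hij, hr, er, cr, hin⟩ := hex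
  have hd : i ≠ j ∧ i ≠ 4 ∧ i ≠ 5 ∧ j ≠ 4 ∧ j ≠ 5 := by
    rcases hij with ⟨rfl, rfl⟩ | ⟨rfl, rfl⟩ | ⟨rfl, rfl⟩ <;> decide
  obtain ⟨hne, i4, i5, j4, j5⟩ := hd
  set u := h * r * h⁻¹ with hu
  have huQ' := hQ r hr
  have huz := hcz r cr
  have hu1 : π u ≠ 1 := fun e => by
    have h1 := hQ'' u ((F.S.ker u huz).mp e)
    rw [hu, show h⁻¹ * (h * r * h⁻¹) * h = r by group] at h1
    exact not_Eb F hne i4 i5 j4 j5 hr h1 er
  obtain ⟨A, hmem, -, -, hsq, h4, -, -, -⟩ := inner_part F.S F.B F.tQ F.tne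
  obtain ⟨x, hx, ex⟩ := inner_set h4 hsq card_V56 (fun σ hσ => (hmem _).mpr (F.hV σ hσ))
    (fun σ hσ => (V56_facts σ hσ).1) ((hmem _).mpr ⟨u, huQ', huz, rfl⟩) hin
  refine ⟨u, x, huQ', huz, hx, fun e => hu1 (by rw [ex, e]; rfl), ex, ?_, ?_⟩
  · obtain ⟨k, hk⟩ := O1_conj F hr ⟨i, j, hne, Or.inr (Or.inl er)⟩
    exact ⟨h * k, by rw [hu, ← hk]; group⟩
  · intro k hk
    have hrt : h⁻¹ * k * z * (h⁻¹ * k)⁻¹ = r * t := by
      calc h⁻¹ * k * z * (h⁻¹ * k)⁻¹ = h⁻¹ * (k * z * k⁻¹) * h := by group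
        _ = h⁻¹ * (u * z) * h := by rw [hk]
        _ = h⁻¹ * (h * r * h⁻¹ * (h * t * h⁻¹)) * h := by rw [hu, ht]
        _ = r * t := by group
    have hrtQ := Q.mul_mem hr F.tQ
    have hp : p (r * t) = R.ρ a0 (F.f i j) + p t := by rw [F.B.map_mul r hr t F.tQ, er]
    have hrtz : h⁻¹ * k * z * (h⁻¹ * k)⁻¹ ≠ z := by
      rw [hrt]
      intro e
      have h0 : R.ρ a0 (F.f i j) + p t = 0 := by rw [← hp, e, F.B.map_z F.S.h.mem]
      have h1 : R.ρ a0 (F.f i j) = p t := by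
        rw [← zz_add (R.ρ a0 (F.f i j)) (p t), h0, zero_add]
      rw [← F.f45] at h1
      rcases F.orb_pair hne (by decide) (Or.inr (Or.inl rfl)) (Or.inl h1) with ⟨a, b⟩ | ⟨a, b⟩
      exacts [i4 a, i5 a]
    have hO := F.conj_O1 (hrt.symm ▸ hrtQ) hrtz
    rw [hrt, hp] at hO
    set c : Perm (Fin 6) := swap 0 1 * swap 1 2 with hc
    have hcs : Perm.sign c = 1 ∧ SP (c 4) (c 5) 4 5 ∧ c 0 = 1 ∧ c 1 = 2 ∧ c 2 = 0 := by
      rw [hc]; decide +kernel
    obtain ⟨h1, h2, k0, k1, k2⟩ := hcs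
    have step : ∀ i j : Fin 6, i ≠ j → F.O1 (R.ρ a0 (F.f i j) + p t) →
        F.O1 (R.ρ a0 (F.f (c i) (c j)) + p t) := by
      intro i j hij ho
      have := O1_ι F h1 ho
      rwa [map_add, ← R.a_comm (one_mem_Hin h1), F.f_ι h1 hij, htdef, F.stab_fix h1 h2] at this
    rcases hij with ⟨rfl, rfl⟩ | ⟨rfl, rfl⟩ | ⟨rfl, rfl⟩
    · exact sum_not_O1 F hO
    · have := step 2 0 (by decide) hO
      rw [k2, k0] at this
      exact sum_not_O1 F this
    · have := step 1 2 (by decide) hO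
      rw [k1, k2] at this
      have := step 2 0 (by decide) this
      rw [k2, k0] at this
      exact sum_not_O1 F this

theorem false_of_normal {a u : G} {x : Perm (Fin 6)} (F : Frame Q z π g R p)
    (E : AEl Q z π R p a) (huQ' : u ∈ Q.map (MulAut.conj g).toMonoidHom) (huz : u * z = z * u)
    (hua : u * a = a * u) (hx : x ∈ V56) (hx1 : x ≠ 1) (hπu : π u = ι x)
    (hconj : ∃ k : G, k * z * k⁻¹ = u) (hno : ∀ k : G, k * z * k⁻¹ ≠ u * z) : False := by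
  obtain ⟨k, hk⟩ := hconj
  obtain ⟨hxs, hxx, -⟩ := V56_facts x hx
  have hzz := F.S.h.zz
  have huu : u * u = 1 := by
    rw [← hk, show k * z * k⁻¹ * (k * z * k⁻¹) = k * (z * z) * k⁻¹ by group, hzz]; group
  have huz2 : (u * z) * (u * z) = 1 := by
    calc u * z * (u * z) = u * (z * u) * z := by group
      _ = u * (u * z) * z := by rw [huz]
      _ = u * u * (z * z) := by group
      _ = 1 := by rw [huu, hzz, one_mul]
  have hinv : ∀ l, l * z = z * l → l * a = a * l → π l * π l = 1 → π l ≠ 1 → l * l = 1 := by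
    intro l hl hla h2 h1
    obtain ⟨e, h22⟩ := inner_inv (E.inner_of_cent hl hla) h2
    have hls := (mem_Hin.mp (E.inner_of_cent hl hla)).2
    obtain ⟨d1, hd1, e1⟩ := conj_x0 (π l).2 hls h22 fun e' => h1 (by rw [e, e']; rfl)
    obtain ⟨d2, hd2, e2⟩ := conj_x0 x hxs hxx hx1
    have hd : Perm.sign (d2⁻¹ * d1) = 1 := by simp [hd1, hd2]
    obtain ⟨d, hdz, hda, hdπ⟩ := E.exists_cent (k := ι (d2⁻¹ * d1)) (one_mem_Hin hd)
    have hcz : d * l * d⁻¹ * z = z * (d * l * d⁻¹) :=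
      ((Commute.mul_left hdz hl).mul_left (Commute.inv_left hdz)).eq
    have hca : d * l * d⁻¹ * a = a * (d * l * d⁻¹) :=
      ((Commute.mul_left hda hla).mul_left (Commute.inv_left hda)).eq
    have heq : π u = π (d * l * d⁻¹) := by
      rw [F.S.conj hdz hl, hdπ, hπu, e, show ((1, (π l).2) : A3) = ι (π l).2 from rfl, ← ι_inv,
        ← ι_mul, ← ι_mul]
      congr 1
      calc x = d2⁻¹ * (d2 * x * d2⁻¹) * d2 := by group
        _ = d2⁻¹ * (d1 * (π l).2 * d1⁻¹) * d2 := by rw [e1, e2]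
        _ = _ := by group
    have hsq : d * l * d⁻¹ * (d * l * d⁻¹) = 1 := by
      rcases E.cent_unique huz hua hcz hca heq with e3 | e3 <;> rw [e3]
      exacts [huu, huz2]
    rw [show d * l * d⁻¹ * (d * l * d⁻¹) = d * (l * l) * d⁻¹ by group] at hsq
    exact conj_eq_one_iff.mp hsq
  obtain ⟨γ, w, hγ, hγ3, -, hγst, hw, hww, hw1, hwx, hprod⟩ := tri_facts x hx hx1
  set t := g * z * g⁻¹ with htdef
  -- a lift of `γ` of order three
  obtain ⟨s, hsz, hsa, hsπ, hs3⟩ : ∃ s, s * z = z * s ∧ s * a = a * s ∧ π s = ι γ ∧ s ^ 3 = 1 := by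
    obtain ⟨l, hl, hla, hlπ⟩ := E.exists_cent (k := ι γ) (one_mem_Hin hγ)
    have h3Q : l ^ 3 ∈ Q := (F.S.ker _ (Commute.pow_left hl 3).eq).mp (by
      rw [F.S.pow hl, hlπ, pow_succ, pow_two, ← ι_mul, ← ι_mul, mul_assoc, hγ3]; rfl)
    rcases E.cQ h3Q (Commute.pow_left hla 3).eq with e | e
    · exact ⟨l, hl, hla, hlπ, e⟩
    · refine ⟨l * z, (Commute.mul_left hl (Commute.refl z)).eq,
        (Commute.mul_left hla E.az.symm).eq, ?_, ?_⟩
      · rw [F.S.mul l z hl rfl, F.S.z_one, mul_one, hlπ]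
      · rw [(show Commute l z from hl).mul_pow, e, pow_succ, pow_two, hzz, one_mul, hzz]
  have hst : s * t = t * s := by
    have hpt : p (s * t * s⁻¹) = p t := by
      rw [F.B.act s hsz t F.tQ, hsπ, htdef, F.stab_fix hγ hγst]
    have hstQ := F.S.h.norm s hsz t F.tQ
    rcases (F.B.eq_iff F.S.h.mem F.tQ hstQ).mp hpt.symm with e | e
    · exact mul_inv_eq_iff_eq_mul.mp e
    · exfalso
      apply F.S.h.ne_one
      have hsz' : s * z * s⁻¹ = z := mul_inv_eq_iff_eq_mul.mpr hsz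
      have h2 : s * s * t * (s * s)⁻¹ = t := by
        calc s * s * t * (s * s)⁻¹ = s * (s * t * s⁻¹) * s⁻¹ := by group
          _ = s * (t * z) * s⁻¹ := by rw [e]
          _ = s * t * s⁻¹ * (s * z * s⁻¹) := by group
          _ = t := by rw [e, hsz', mul_assoc, hzz, mul_one]
      have h3 : s ^ 3 * t * (s ^ 3)⁻¹ = t * z := by
        calc s ^ 3 * t * (s ^ 3)⁻¹ = s * (s * s * t * (s * s)⁻¹) * s⁻¹ := by
              simp only [pow_succ, pow_zero, one_mul, mul_assoc, mul_inv_rev]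
          _ = t * z := by rw [h2, e]
      rw [hs3, one_mul, inv_one, mul_one] at h3
      exact left_eq_mul.mp h3
  obtain ⟨lw, hwz, hwa, hwπ⟩ := E.exists_cent (k := ι w) (one_mem_Hin hw)
  have hlw2 : lw * lw = 1 := hinv lw hwz hwa (by rw [hwπ, ← ι_mul, hww]; rfl)
    (by rw [hwπ]; exact fun e => hw1 (congrArg Prod.snd e))
  set u2 := s * u * s⁻¹ with hu2
  set u3 := s * u2 * s⁻¹ with hu3
  have hu2z : u2 * z = z * u2 := ((Commute.mul_left hsz huz).mul_left (Commute.inv_left hsz)).eq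
  have hu2a : u2 * a = a * u2 := ((Commute.mul_left hsa hua).mul_left (Commute.inv_left hsa)).eq
  have hu3z : u3 * z = z * u3 := ((Commute.mul_left hsz hu2z).mul_left (Commute.inv_left hsz)).eq
  have hu3a : u3 * a = a * u3 := ((Commute.mul_left hsa hu2a).mul_left (Commute.inv_left hsa)).eq
  have hπ2 : π u2 = ι (γ * x * γ⁻¹) := by
    rw [hu2, F.S.conj hsz huz, hsπ, hπu, ← ι_inv, ← ι_mul, ← ι_mul]
  have hπ3 : π u3 = ι (γ * γ * x * (γ * γ)⁻¹) := by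
    rw [hu3, F.S.conj hsz hu2z, hsπ, hπ2, ← ι_inv, ← ι_mul, ← ι_mul]
    congr 1
  have hwu : lw * u2 * lw⁻¹ = u3 := by
    have e : π u3 = π (lw * u2 * lw⁻¹) := by
      rw [hπ3, F.S.conj hwz hu2z, hwπ, hπ2, ← ι_inv, ← ι_mul, ← ι_mul, hwx]
    rcases E.cent_unique hu3z hu3a ((Commute.mul_left hwz hu2z).mul_left (Commute.inv_left hwz)).eq
        ((Commute.mul_left hwa hu2a).mul_left (Commute.inv_left hwa)).eq e with e1 | e1
    · exact e1
    · exfalso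
      apply hno ((s * s)⁻¹ * lw * s * k)
      have hss : (s * s)⁻¹ * z * (s * s) = z := by
        rw [mul_assoc, ← (Commute.mul_left hsz hsz).eq, inv_mul_cancel_left]
      calc (s * s)⁻¹ * lw * s * k * z * ((s * s)⁻¹ * lw * s * k)⁻¹
          = (s * s)⁻¹ * (lw * (s * (k * z * k⁻¹) * s⁻¹) * lw⁻¹) * (s * s) := by
            simp only [mul_inv_rev, inv_inv, mul_assoc]
        _ = (s * s)⁻¹ * (u3 * z) * (s * s) := by rw [hk, ← hu2, e1]
        _ = ((s * s)⁻¹ * u3 * (s * s)) * ((s * s)⁻¹ * z * (s * s)) := by group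
        _ = u * z := by rw [hss, hu3, hu2]; group
  set y := lw * u2 with hy
  have hyz : y * z = z * y := (Commute.mul_left hwz hu2z).eq
  have hya : y * a = a * y := (Commute.mul_left hwa hu2a).eq
  have hyy : y * y = u3 * u2 := by
    calc y * y = lw * u2 * lw * u2 := by rw [hy]; group
      _ = lw * u2 * lw⁻¹ * u2 := by rw [inv_eq_of_mul_eq_one_right hlw2]
      _ = _ := by rw [hwu]
  have hyyz : (y * y) * z = z * (y * y) := (Commute.mul_left hyz hyz).eq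
  have hyya : (y * y) * a = a * (y * y) := (Commute.mul_left hya hya).eq
  have hπyy : π u = π (y * y) := by
    rw [hyy, F.S.mul u3 u2 hu3z hu2z, hπ3, hπ2, ← ι_mul, hprod, hπu]
  -- `y²` is a conjugate of `z`
  have hconj2 : ∃ k' : G, k' * z * k'⁻¹ = y * y := by
    obtain ⟨h, hz', ht', hQ, hQ', -⟩ := exists_h F
    set r := h⁻¹ * u * h with hr
    have hrQ : r ∈ Q := hQ' u huQ'
    have hhtz : h⁻¹ * z * h = t := by
      calc h⁻¹ * z * h = h⁻¹ * (h * t * h⁻¹) * h := by rw [ht']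
        _ = t := by group
    have hhzt : h⁻¹ * t * h = z := by
      calc h⁻¹ * t * h = h⁻¹ * (h * z * h⁻¹) * h := by rw [hz']
        _ = z := by group
    set σ' := h⁻¹ * s * h with hσ'
    have hσz : σ' * z = z * σ' := by
      rw [← hhzt, hσ']
      calc h⁻¹ * s * h * (h⁻¹ * t * h) = h⁻¹ * (s * t) * h := by group
        _ = h⁻¹ * (t * s) * h := by rw [hst]
        _ = _ := by group
    have hσt : σ' * t * σ'⁻¹ = t := by
      rw [mul_inv_eq_iff_eq_mul, ← hhtz, hσ']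
      calc h⁻¹ * s * h * (h⁻¹ * z * h) = h⁻¹ * (s * z) * h := by group
        _ = h⁻¹ * (z * s) * h := by rw [hsz]
        _ = _ := by group
    have hσ3 : σ' ^ 3 = 1 := by
      rw [hσ', show h⁻¹ * s * h = h⁻¹ * s * h⁻¹⁻¹ by group, conj_pow, hs3]; group
    have hk3 : π σ' ^ 3 = 1 := by rw [← F.S.pow hσz, hσ3, F.S.one]
    have hkH := F.S.img σ' hσz
    have hkin : π σ' ∈ Hin := by
      by_contra hn
      have h1 := sq_inner hkH
      have e : π σ' = (π σ' * π σ')⁻¹ := by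
        rw [eq_inv_iff_mul_eq_one, ← mul_assoc, ← pow_two, ← pow_succ]; exact hk3
      exact hn (e.symm ▸ Hin.inv_mem h1)
    have hkT : R.ρ (π σ') (p t) = p t := by rw [← F.B.act σ' hσz t F.tQ, hσt]
    set γ' := (π σ').2 with hγ'
    have hγ's : Perm.sign γ' = 1 := (mem_Hin.mp hkin).2
    have hfst : π σ' = ι γ' := by
      have hst' := F.fix_stab hkin (htdef ▸ hkT)
      have hT := F.stab_fix hγ's hst'
      obtain ⟨d1, d2, -⟩ := F.orb_distinct F.T_ne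
      have ha := R.a0_H0
      rcases fst_inner _ (mem_Hin.mp hkin).1 with e | e | e
      · exact Prod.ext e rfl
      · exfalso
        have e' : π σ' = a0 * ι γ' := Prod.ext (by simp [a0, e]) (by simp [a0, hγ'])
        rw [e', R.act_mul ha (R.ι_mem hγ's), htdef, hT] at hkT
        exact d1 hkT
      · exfalso
        have e' : π σ' = a0 * a0 * ι γ' := Prod.ext (by simp [a0, e]) (by simp [a0, hγ'])
        rw [e', R.act_mul (H0.mul_mem ha ha) (R.ι_mem hγ's), htdef, hT, R.act_mul ha ha] at hkT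
        exact d2 hkT
    set r2 := σ' * r * σ'⁻¹ with hr2
    set r3 := σ' * r2 * σ'⁻¹ with hr3
    have hr2Q : r2 ∈ Q := F.S.h.norm σ' hσz r hrQ
    have hr3Q : r3 ∈ Q := F.S.h.norm σ' hσz r2 hr2Q
    have hrr : r3 * r2 = h⁻¹ * (y * y) * h := by
      rw [hyy, hr3, hr2, hu3, hu2, hσ', hr]; group
    have hrne : r ≠ z := by
      intro e
      have hut : u = t := by
        calc u = h * r * h⁻¹ := by rw [hr]; group
          _ = t := by rw [e, hz']
      rw [hut, F.S.of_Q F.tQ] at hπu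
      exact hx1 (congrArg Prod.snd hπu).symm
    have hrk : h⁻¹ * k * z * (h⁻¹ * k)⁻¹ = r := by rw [hr, ← hk]; group
    have hO := F.conj_O1 (hrk.symm ▸ hrQ) (hrk.symm ▸ hrne)
    rw [hrk] at hO
    obtain ⟨i, j, hij, ho⟩ := hO
    have hsum : p (r3 * r2) = R.ρ (ι γ') (R.ρ (ι γ') (p r) + p r) := by
      rw [F.B.map_mul r3 hr3Q r2 hr2Q, hr3, F.B.act σ' hσz r2 hr2Q, hr2, F.B.act σ' hσz r hrQ, hfst,
        map_add]
    have hlin : ∀ v, R.ρ (ι γ') (R.ρ a0 v) = R.ρ a0 (R.ρ (ι γ') v) :=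
      fun v => (R.a_comm (one_mem_Hin hγ's) v).symm
    have hgoal : p (r3 * r2) = 0 ∨ F.O1 (p (r3 * r2)) := by
      rw [hsum]
      have h1 : R.ρ (ι γ') (p r) + p r = 0 ∨ F.O1 (R.ρ (ι γ') (p r) + p r) := by
        rcases F.add_f (γ'.injective.ne hij) hij with e0 | ⟨m, n, hmn, e0⟩
        · left
          rcases ho with e | e | e <;> simp only [e, hlin, F.f_ι hγ's hij, ← map_add, e0, map_zero]
        · right
          refine ⟨m, n, hmn, ?_⟩
          rcases ho with e | e | e <;> simp only [e, hlin, F.f_ι hγ's hij, ← map_add, e0]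
          exacts [Or.inl rfl, Or.inr (Or.inl rfl), Or.inr (Or.inr rfl)]
      rcases h1 with e | e
      · exact Or.inl (by rw [e, map_zero])
      · exact Or.inr (O1_ι F hγ's e)
    have hback : y * y = h * (r3 * r2) * h⁻¹ := by rw [hrr]; group
    rcases hgoal with e | e
    · exfalso
      rcases (F.B.eq_zero _ (Q.mul_mem hr3Q hr2Q)).mp e with e1 | e1 <;> rw [e1] at hback
      · rw [mul_one, mul_inv_cancel] at hback
        rw [hback, F.S.one, hπu] at hπyy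
        exact hx1 (congrArg Prod.snd hπyy)
      · rw [hz'] at hback
        rw [hback, F.S.of_Q F.tQ, hπu] at hπyy
        exact hx1 (congrArg Prod.snd hπyy)
    · obtain ⟨k', hk'⟩ := O1_conj F (Q.mul_mem hr3Q hr2Q) e
      exact ⟨h * k', by rw [hback, ← hk']; group⟩
  have hyu : y * y = u := by
    rcases E.cent_unique huz hua hyyz hyya hπyy with e | e
    · exact e
    · obtain ⟨k', hk'⟩ := hconj2
      exact absurd (hk'.trans e) (hno k')
  exact E.square_false hk.symm hno hyz hya hyu hπu hx1 hinv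

theorem false_of_frame (F : Frame Q z π g R p) : False := by
  haveI := R.findim
  obtain ⟨a, haz, haπ, ha3⟩ := exists_a F.S
  have E : AEl Q z π R p a := ⟨F.S, F.B, F.u0, haz, haπ, ha3⟩
  obtain ⟨u, x, huQ', huz, hx, hx1, hπu, ⟨k, hk⟩, hno⟩ := exists_key F
  have hzz := F.S.h.zz
  obtain ⟨hxs, hxx, -⟩ := V56_facts x hx
  have hxin : ι x ∈ Hin := one_mem_Hin hxs
  have hxH := R.ι_mem hxs
  have hxi : ι x * ι x = 1 := by rw [← ι_mul, hxx]; rfl
  obtain ⟨l, hl, hla, hlπ⟩ := E.exists_cent hxin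
  set w := l⁻¹ * u with hw
  have hwz : w * z = z * w := ((Commute.inv_left hl).mul_left huz).eq
  have hwQ : w ∈ Q := (F.S.ker w hwz).mp (by
    rw [hw, F.S.mul _ _ (Commute.inv_left hl).eq huz, F.S.inv hl, hlπ, hπu, inv_mul_cancel])
  have huu : u * u = 1 := by
    rw [← hk, show k * z * k⁻¹ * (k * z * k⁻¹) = k * (z * z) * k⁻¹ by group, hzz]; group
  -- the vector of `w` lies in the commutator space
  have hll : p (l * l) = 0 := by
    refine (F.B.eq_zero _ ((F.S.ker _ (Commute.mul_left hl hl).eq).mp ?_)).mpr ?_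
    · rw [F.S.mul l l hl hl, hlπ, hxi]
    · refine E.cQ ((F.S.ker _ (Commute.mul_left hl hl).eq).mp ?_) (Commute.mul_left hla hla).eq
      rw [F.S.mul l l hl hl, hlπ, hxi]
  have hli : l⁻¹ * z = z * l⁻¹ := (Commute.inv_left hl).eq
  have hwl := F.S.h.norm l⁻¹ hli w hwQ
  have hfix : R.ρ (ι x) (p w) = p w := by
    have e : u * u = (l * l) * (l⁻¹ * w * l⁻¹⁻¹ * w) := by rw [hw]; group
    have hllQ : l * l ∈ Q :=
      (F.S.ker _ (Commute.mul_left hl hl).eq).mp (by rw [F.S.mul l l hl hl, hlπ, hxi])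
    have e2 := congrArg p e
    rw [huu, F.B.map_one, F.B.map_mul _ hllQ _ (Q.mul_mem hwl hwQ), hll, zero_add,
      F.B.map_mul _ hwl _ hwQ, F.B.act _ hli w hwQ, F.S.inv hl, hlπ,
      inv_eq_of_mul_eq_one_right hxi] at e2
    rw [← zz_add (R.ρ (ι x) (p w)) (p w), ← e2, zero_add]
  have hrng : p w ∈ R.rng (ι x) := by
    have h4 := R.inner_fix_four F.u0 hxin hxi fun e => hx1 (congrArg Prod.snd e)
    have heq : R.rng (ι x) = R.fix (ι x) :=
      Submodule.eq_of_le_of_finrank_le (R.rng_le_fix hxH hxi) (by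
        have := R.finrank_rng_add_fix (ι x)
        omega)
    rw [heq]; exact R.mem_fix.mpr hfix
  obtain ⟨v, hv⟩ := hrng
  have hv' : R.ρ (ι x) v + v = p w := hv
  obtain ⟨q, hq, rfl⟩ := F.B.surj v
  have hqz := F.S.h.comm q hq
  have hqiz : q⁻¹ * z = z * q⁻¹ := (Commute.inv_left hqz).eq
  have hd : (l⁻¹ * q * l⁻¹⁻¹) * q⁻¹ ∈ Q := Q.mul_mem (F.S.h.norm _ hli q hq) (Q.inv_mem hq)
  have hpd : p ((l⁻¹ * q * l⁻¹⁻¹) * q⁻¹) = p w := by
    rw [F.B.map_mul _ (F.S.h.norm _ hli q hq) _ (Q.inv_mem hq), F.B.act _ hli q hq, F.S.inv hl,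
      hlπ, inv_eq_of_mul_eq_one_right hxi, F.B.map_inv hq, hv']
  set u0 := q⁻¹ * u * q with hu0
  have hu0a : u0 * a = a * u0 := by
    have hul : u = q * l * q⁻¹ ∨ u = q * l * q⁻¹ * z := by
      rcases (F.B.eq_iff F.S.h.mem hd hwQ).mp hpd with e | e
      · left
        calc u = l * w := by rw [hw, mul_inv_cancel_left]
          _ = _ := by rw [e]; group
      · right
        calc u = l * w := by rw [hw, mul_inv_cancel_left]
          _ = _ := by rw [e]; group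
    rcases hul with e | e
    · rw [hu0, e, show q⁻¹ * (q * l * q⁻¹) * q = l by group]; exact hla
    · rw [hu0, e, show q⁻¹ * (q * l * q⁻¹ * z) * q = l * (q⁻¹ * z * q) by group,
        show q⁻¹ * z * q = z by rw [mul_assoc, ← hqz, inv_mul_cancel_left]]
      exact (Commute.mul_left hla E.az.symm).eq
  have htQ' : q⁻¹ * g * z * (q⁻¹ * g)⁻¹ ∈ Q := by
    rw [show q⁻¹ * g * z * (q⁻¹ * g)⁻¹ = q⁻¹ * (g * z * g⁻¹) * q by group]
    exact Q.mul_mem (Q.mul_mem (Q.inv_mem hq) F.tQ) hq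
  have htne : q⁻¹ * g * z * (q⁻¹ * g)⁻¹ ≠ z := fun e => F.tne (by
    calc g * z * g⁻¹ = q * (q⁻¹ * g * z * (q⁻¹ * g)⁻¹) * q⁻¹ := by group
      _ = z := by rw [e, hqz, mul_inv_cancel_right])
  have F' : Frame Q z π (q⁻¹ * g) R p := ⟨F.S, F.B, htQ', htne, fun σ hσ => by
    have := im_move F.S hqiz (F.hV σ hσ)
    rwa [F.S.of_Q (Q.inv_mem hq), inv_one, mul_one, one_mul] at this⟩
  obtain ⟨y, hy, ey⟩ := huQ'
  simp only [MulEquiv.coe_toMonoidHom, MulAut.conj_apply] at ey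
  refine false_of_normal F' E (u := u0) ⟨y, hy, ?_⟩ ?_ hu0a hx hx1 ?_ ⟨q⁻¹ * k, ?_⟩ ?_
  · simp only [MulEquiv.coe_toMonoidHom, MulAut.conj_apply]
    rw [hu0, ← ey]; group
  · exact (((Commute.inv_left hqz).mul_left huz).mul_left hqz).eq
  · rw [hu0, show q⁻¹ * u * q = q⁻¹ * u * q⁻¹⁻¹ by group, F.S.conj hqiz huz,
      F.S.of_Q (Q.inv_mem hq), inv_one, mul_one, one_mul, hπu]
  · rw [hu0, ← hk]; group
  · intro k' hk'
    apply hno (q * k')
    calc q * k' * z * (q * k')⁻¹ = q * (k' * z * k'⁻¹) * q⁻¹ := by group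
      _ = q * (u0 * z) * q⁻¹ := by rw [hk']
      _ = u * (q * z * q⁻¹) := by rw [hu0]; group
      _ = u * z := by rw [hqz, mul_inv_cancel_right]

omit [Finite G] in
theorem VB_onto : ∃ γ : Perm (Fin 6), Perm.sign γ = 1 ∧
    ∀ σ ∈ V56, ∃ τ ∈ VB, γ * outerHom τ * γ⁻¹ = σ := by
  classical
  obtain ⟨γ, hγ, h⟩ := outerHom_VB
  refine ⟨γ, hγ, fun σ hσ => ?_⟩
  let φ : VB → V56 := fun τ => ⟨γ * outerHom (τ : Perm (Fin 6)) * γ⁻¹, h _ τ.2⟩
  have hinj : Function.Injective φ := fun a b e => Subtype.ext (outerHom_bijective.1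
    (mul_left_cancel (mul_right_cancel (congrArg Subtype.val e))))
  have hb := hinj.bijective_of_nat_card_le
    (by rw [Nat.card_eq_finsetCard, Nat.card_eq_finsetCard, card_V56, card_VB])
  obtain ⟨τ, hτ⟩ := hb.2 ⟨σ, hσ⟩
  exact ⟨τ, τ.2, congrArg Subtype.val hτ⟩

theorem false_of_sett {Q : Subgroup G} {z : G} {π : G → A3} (S : Sett Q z π) {g : G}
    (hQ : g * z * g⁻¹ ∈ Q) (hne : g * z * g⁻¹ ≠ z) : False := by
  obtain ⟨V, iA, iM, R, p, B⟩ := exists_rep S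
  obtain ⟨m, hm, -, hQ1, hne1, h1 | h1⟩ := exists_normal_form S B hQ hne
  · exact false_of_frame (F := ⟨S, B, hQ1, hne1, h1⟩)
  · have S2 := S.swap
    obtain ⟨V2, iA2, iM2, R2, p2, B2⟩ := exists_rep S2
    obtain ⟨γ, hγ, hon⟩ := VB_onto
    obtain ⟨n, hn, hnπ⟩ := S2.surj _ (one_mem_H0 hγ)
    have hc : n * (m * g) * z * (n * (m * g))⁻¹ = n * (m * g * z * (m * g)⁻¹) * n⁻¹ := by group
    refine false_of_frame (F := (⟨S2, B2, hc ▸ S.h.norm n hn _ hQ1, ?_, ?_⟩ :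
      Frame Q z (fun x => swapAut (π x)) (n * (m * g)) R2 p2))
    · rw [hc]
      intro e
      apply hne1
      rw [mul_inv_eq_iff_eq_mul, ← hn] at e
      exact mul_left_cancel e
    · intro σ hσ
      obtain ⟨τ, hτ, e⟩ := hon σ hσ
      obtain ⟨y, hy, hyz, hyπ⟩ := h1 τ hτ
      have h2 : Im Q z (fun x => swapAut (π x)) (m * g) (ι (outerHom τ)) :=
        ⟨y, hy, hyz, by simp [hyπ, swapAut_apply]⟩
      have h3 := im_move S2 hn h2
      rw [hnπ, show ((1, γ) : A3) = ι γ from rfl, ← ι_inv, ← ι_mul, ← ι_mul, e] at h3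
      exact h3

/-- The theorem: no such group is simple non-abelian. -/
theorem not_simple [IsSimpleGroup G] (hG : ¬ IsMulCommutative G) {Q : Subgroup G} {z : G}
    {π : G → A3} (S : Sett Q z π) : False := by
  have hz := S.h.toExt.orderOf_z
  have hiso : Cfsg.IsIsolatedInvolution z := by
    refine ⟨hz, fun g hg => ?_⟩
    by_cases hex : ∃ k : G, k * z * k⁻¹ ∈ Q ∧ k * z * k⁻¹ ≠ z
    · obtain ⟨k, h1, h2⟩ := hex
      exact (false_of_sett S h1 h2).elim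
    · push Not at hex
      exact S3284Outside23.no_conj S hex g hg.symm.eq
  obtain ⟨N, hN, hodd, hcomm⟩ := ZStarTheorem.exists_odd_normal hiso
  rcases hN.eq_bot_or_eq_top with e | e
  · subst e
    have hcen : z ∈ Subgroup.center G := Subgroup.mem_center_iff.mpr fun x => by
      exact (mul_inv_eq_iff_eq_mul.mp (mul_inv_eq_one.mp (Subgroup.mem_bot.mp (hcomm x)))).symm
    rcases (inferInstance : (Subgroup.center G).Normal).eq_bot_or_eq_top with e' | e'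
    · rw [e', Subgroup.mem_bot] at hcen
      exact S.h.ne_one hcen
    · exact hG ⟨⟨fun x y =>
        Subgroup.mem_center_iff.mp (e'.symm ▸ Subgroup.mem_top y : y ∈ Subgroup.center G) x⟩⟩
  · rw [e, Subgroup.card_top] at hodd
    have h2 : 2 ∣ Nat.card G := hz ▸ orderOf_dvd_natCard z
    rw [Nat.odd_iff] at hodd
    omega

end Cfsg.Agent.S3284Final23
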