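import Mathlib

/-!
# Finite group facts on `H0 = {(σ, τ) ∈ S₃ × S₆ | sign σ = sign τ}` (for S3284)
-/

set_option autoImplicit false

namespace Cfsg.Agent.S3284Group23

open Equiv

abbrev A3 : Type := Perm (Fin 3) × Perm (Fin 6)

/-- The subgroup of pairs with equal sign. -/
def H0 : Subgroup A3 :=
  MonoidHom.ker (Equiv.Perm.sign.comp (MonoidHom.fst (Perm (Fin 3)) (Perm (Fin 6))) *
    Equiv.Perm.sign.comp (MonoidHom.snd (Perm (Fin 3)) (Perm (Fin 6))))

/-- The inner part `A₃ × A₆`. -/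
def Hin : Subgroup A3 :=
  (alternatingGroup (Fin 3)).prod (alternatingGroup (Fin 6))

theorem mem_H0 {h : A3} : h ∈ H0 ↔ Perm.sign h.1 = Perm.sign h.2 := by
  show Perm.sign h.1 * Perm.sign h.2 = 1 ↔ _
  rcases Int.units_eq_one_or (Perm.sign h.1) with e | e <;>
    rcases Int.units_eq_one_or (Perm.sign h.2) with e' | e' <;> rw [e, e'] <;> decide

theorem mem_Hin {h : A3} : h ∈ Hin ↔ Perm.sign h.1 = 1 ∧ Perm.sign h.2 = 1 := Iff.rfl

theorem Hin_le : Hin ≤ H0 := fun _ hh => mem_H0.mpr ((mem_Hin.mp hh).1.trans (mem_Hin.mp hh).2.symm)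

theorem one_mem_Hin {σ : Perm (Fin 6)} (hσ : Perm.sign σ = 1) : ((1, σ) : A3) ∈ Hin :=
  mem_Hin.mpr ⟨map_one _, hσ⟩

theorem one_mem_H0 {σ : Perm (Fin 6)} (hσ : Perm.sign σ = 1) : ((1, σ) : A3) ∈ H0 :=
  Hin_le (one_mem_Hin hσ)

/-- The central element of order three. -/
def a0 : A3 := (finRotate 3, 1)

theorem a0_mem : a0 ∈ Hin := by rw [mem_Hin]; decide +kernel

theorem a0_cube : a0 ^ 3 = 1 := by decide +kernel

theorem a0_ne : a0 ≠ 1 := by decide +kernel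

theorem fst_inner : ∀ s : Perm (Fin 3), Perm.sign s = 1 →
    s = 1 ∨ s = finRotate 3 ∨ s = finRotate 3 * finRotate 3 := by decide +kernel

theorem fst_inner_cube : ∀ s : Perm (Fin 3), Perm.sign s = 1 → s ^ 3 = 1 := by decide +kernel

theorem fst_outer : ∀ s : Perm (Fin 3), Perm.sign s ≠ 1 →
    s * s = 1 ∧ s * finRotate 3 * s⁻¹ = finRotate 3 * finRotate 3 := by decide +kernel

theorem a0_comm {h : A3} (hh : h ∈ Hin) : a0 * h = h * a0 := by
  rcases fst_inner h.1 (mem_Hin.mp hh).1 with e | e | e <;> ext1 <;>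
    simp [a0, e, mul_assoc]

theorem inner_decomp {h : A3} (hh : h ∈ Hin) :
    ∃ k : ℕ, h = a0 ^ k * (1, h.2) := by
  rcases fst_inner h.1 (mem_Hin.mp hh).1 with e | e | e
  · exact ⟨0, by ext1 <;> simp [e]⟩
  · exact ⟨1, by ext1 <;> simp [a0, e]⟩
  · exact ⟨2, by ext1 <;> simp [a0, e, pow_two]⟩

theorem outer_inverts {h : A3} (hh : h ∈ H0) (hn : h ∉ Hin) :
    h * a0 * h⁻¹ = a0 * a0 ∧ Perm.sign h.1 ≠ 1 := by
  have h1 : Perm.sign h.1 ≠ 1 := fun e => hn (mem_Hin.mpr ⟨e, (mem_H0.mp hh).symm.trans e⟩)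
  refine ⟨?_, h1⟩
  ext1
  · simpa [a0] using (fst_outer h.1 h1).2
  · simp [a0]

theorem inner_of_mul {h k : A3} (hh : h ∈ H0) (hk : k ∈ H0) (hn : h ∉ Hin) (kn : k ∉ Hin) :
    h * k ∈ Hin := by
  have h1 := (outer_inverts hh hn).2
  have k1 := (outer_inverts hk kn).2
  have e1 := mem_H0.mp hh
  have e2 := mem_H0.mp hk
  rw [mem_Hin, Prod.fst_mul, Prod.snd_mul, map_mul, map_mul, ← e1, ← e2,
    (Int.units_eq_one_or _).resolve_left h1, (Int.units_eq_one_or _).resolve_left k1]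
  decide

theorem sq_inner {h : A3} (hh : h ∈ H0) : h * h ∈ Hin := by
  by_cases hn : h ∈ Hin
  · exact Hin.mul_mem hn hn
  · exact inner_of_mul hh hh hn hn

theorem fst_eq_one {h : A3} (hh : h ∈ Hin) {n : ℕ} (hn : h ^ 2 ^ n = 1) : h.1 = 1 := by
  have h3 : orderOf h.1 ∣ 3 := orderOf_dvd_of_pow_eq_one (fst_inner_cube _ (mem_Hin.mp hh).1)
  have h2 : orderOf h.1 ∣ 2 ^ n := orderOf_dvd_of_pow_eq_one (congrArg Prod.fst hn)
  have hc : (3 : ℕ).Coprime (2 ^ n) := Nat.Coprime.pow_right n (by norm_num)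
  exact orderOf_eq_one_iff.mp (Nat.eq_one_of_dvd_coprimes hc h3 h2)

theorem inner_inv {h : A3} (hh : h ∈ Hin) (h2 : h * h = 1) :
    h = (1, h.2) ∧ h.2 * h.2 = 1 := by
  refine ⟨?_, congrArg Prod.snd h2⟩
  ext1
  · exact fst_eq_one hh (n := 1) (by rw [pow_one, pow_two, h2])
  · rfl

/-! ### Elements of `A₆` -/

def x0 : Perm (Fin 6) := swap 0 1 * swap 2 3

def V56 : Finset (Perm (Fin 6)) :=
  {1, swap 0 1 * swap 2 3, swap 0 2 * swap 1 3, swap 0 3 * swap 1 2}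

def VB : Finset (Perm (Fin 6)) :=
  {1, swap 0 1 * swap 2 3, swap 0 1 * swap 4 5, swap 2 3 * swap 4 5}

theorem conj_x0 : ∀ σ : Perm (Fin 6), Perm.sign σ = 1 → σ * σ = 1 → σ ≠ 1 →
    ∃ g : Perm (Fin 6), Perm.sign g = 1 ∧ g * σ * g⁻¹ = x0 := by decide +kernel

theorem real_three : ∀ σ : Perm (Fin 6), Perm.sign σ = 1 → σ * (σ * σ) = 1 → σ ≠ 1 →
    ∃ x : Perm (Fin 6), Perm.sign x = 1 ∧ x * x = 1 ∧ x ≠ 1 ∧ x * σ * x = σ * σ := by
  decide +kernel

set_option synthInstance.maxSize 4000 in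
theorem no_inv_comm_three : ∀ σ : Perm (Fin 6), Perm.sign σ = 1 → σ * (σ * σ) = 1 → σ ≠ 1 →
    ∀ τ : Perm (Fin 6), Perm.sign τ = 1 → τ * τ = 1 → σ * τ = τ * σ → τ = 1 := by decide +kernel

set_option synthInstance.maxSize 4000 in
theorem four_pair : ∀ y : Perm (Fin 6), Perm.sign y = 1 → y * y = 1 → y * x0 = x0 * y →
    ∀ w : Perm (Fin 6), Perm.sign w = 1 → w * w = 1 → w * x0 = x0 * w → w * y = y * w →
    y ∈ VB ∨ w ∈ V56 := by decide +kernel

theorem cen_x0_card :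
    (Finset.univ.filter fun σ : Perm (Fin 6) => Perm.sign σ = 1 ∧ σ * x0 = x0 * σ).card = 8 := by
  decide +kernel

theorem cen_x0_noncomm : ∃ σ τ : Perm (Fin 6), Perm.sign σ = 1 ∧ σ * x0 = x0 * σ ∧
    Perm.sign τ = 1 ∧ τ * x0 = x0 * τ ∧ σ * τ ≠ τ * σ :=
  ⟨swap 0 2 * swap 1 3, swap 0 1 * swap 4 5, by decide +kernel⟩

/-! ### An outer automorphism of `S₆` from the six totals -/

def tot : Fin 6 → Finset (Perm (Fin 6)) :=
  ![{swap 0 1 * swap 2 3 * swap 4 5, swap 0 2 * swap 1 4 * swap 3 5, swap 0 3 * swap 1 5 * swap 2 4, swap 0 4 * swap 1 3 * swap 2 5, swap 0 5 * swap 1 2 * swap 3 4},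
    {swap 0 1 * swap 2 3 * swap 4 5, swap 0 2 * swap 1 5 * swap 3 4, swap 0 3 * swap 1 4 * swap 2 5, swap 0 4 * swap 1 2 * swap 3 5, swap 0 5 * swap 1 3 * swap 2 4},
    {swap 0 1 * swap 2 4 * swap 3 5, swap 0 2 * swap 1 3 * swap 4 5, swap 0 3 * swap 1 4 * swap 2 5, swap 0 4 * swap 1 5 * swap 2 3, swap 0 5 * swap 1 2 * swap 3 4},
    {swap 0 1 * swap 2 4 * swap 3 5, swap 0 2 * swap 1 5 * swap 3 4, swap 0 3 * swap 1 2 * swap 4 5, swap 0 4 * swap 1 3 * swap 2 5, swap 0 5 * swap 1 4 * swap 2 3},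
    {swap 0 1 * swap 2 5 * swap 3 4, swap 0 2 * swap 1 3 * swap 4 5, swap 0 3 * swap 1 5 * swap 2 4, swap 0 4 * swap 1 2 * swap 3 5, swap 0 5 * swap 1 4 * swap 2 3},
    {swap 0 1 * swap 2 5 * swap 3 4, swap 0 2 * swap 1 4 * swap 3 5, swap 0 3 * swap 1 2 * swap 4 5, swap 0 4 * swap 1 5 * swap 2 3, swap 0 5 * swap 1 3 * swap 2 4}]


theorem tot_inj : ∀ i j : Fin 6, tot i = tot j → i = j := by decide +kernel

/-- `σ` maps total `i` to total `p i`. -/
def Maps (σ p : Perm (Fin 6)) : Prop :=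
  ∀ i, (tot i).image (fun x => σ * x * σ⁻¹) = tot (p i)

instance (σ p : Perm (Fin 6)) : Decidable (Maps σ p) := by unfold Maps; infer_instance

theorem maps_unique {σ p q : Perm (Fin 6)} (hp : Maps σ p) (hq : Maps σ q) : p = q :=
  Equiv.ext fun i => tot_inj _ _ ((hp i).symm.trans (hq i))

theorem maps_mul {σ τ p q : Perm (Fin 6)} (hp : Maps σ p) (hq : Maps τ q) :
    Maps (σ * τ) (p * q) := by
  intro i
  rw [Perm.mul_apply, ← hp (q i), ← hq i, Finset.image_image]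
  congr 1

def imgSwap : Perm (Fin 6) := swap 0 1 * swap 2 3 * swap 4 5

def imgRot : Perm (Fin 6) := swap 1 2 * (swap 3 4 * swap 4 5)

theorem maps_gen : Maps (swap 0 1) imgSwap ∧ Maps (finRotate 6) imgRot := by decide +kernel

theorem gen_top : Subgroup.closure ({finRotate 6, swap 0 1} : Set (Perm (Fin 6))) = ⊤ := by
  have h := Equiv.Perm.closure_cycle_adjacent_swap (σ := finRotate 6) isCycle_finRotate
    (support_finRotate) (0 : Fin 6)
  have e : finRotate 6 (0 : Fin 6) = 1 := by decide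
  rwa [e] at h

theorem maps_exists (σ : Perm (Fin 6)) : ∃ p, Maps σ p := by
  have h : σ ∈ Subgroup.closure ({finRotate 6, swap 0 1} : Set (Perm (Fin 6))) := by
    rw [gen_top]; trivial
  have hg : ∀ τ ∈ ({finRotate 6, swap 0 1} : Set (Perm (Fin 6))), ∃ p, Maps τ p := by
    rintro τ (rfl | rfl)
    exacts [⟨_, maps_gen.2⟩, ⟨_, maps_gen.1⟩]
  induction h using Subgroup.closure_induction with
  | mem τ hτ => exact hg τ hτ
  | one => exact ⟨1, fun i => by simp⟩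
  | mul a b _ _ ha hb => exact ⟨_, maps_mul ha.choose_spec hb.choose_spec⟩
  | inv a _ ha =>
    obtain ⟨p, hp⟩ := ha
    refine ⟨p⁻¹, fun i => ?_⟩
    have h1 := hp (p⁻¹ i)
    rw [show p (p⁻¹ i) = i from p.apply_symm_apply i] at h1
    rw [← h1, Finset.image_image]
    simp [Function.comp_def, mul_assoc]

noncomputable def outerHom : Perm (Fin 6) →* Perm (Fin 6) :=
  MonoidHom.mk' (fun σ => (maps_exists σ).choose) fun σ τ =>
    maps_unique (maps_exists _).choose_spec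
      (maps_mul (maps_exists σ).choose_spec (maps_exists τ).choose_spec)

theorem outerHom_eq {σ p : Perm (Fin 6)} (h : Maps σ p) : outerHom σ = p :=
  maps_unique (maps_exists σ).choose_spec h

theorem outerHom_sign (σ : Perm (Fin 6)) : Perm.sign (outerHom σ) = Perm.sign σ := by
  have h : Perm.sign.comp outerHom = (Perm.sign : Perm (Fin 6) →* ℤˣ) := by
    refine MonoidHom.eq_of_eqOn_dense gen_top ?_
    rintro τ (rfl | rfl)
    · show Perm.sign (outerHom _) = _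
      rw [outerHom_eq maps_gen.2]; decide +kernel
    · show Perm.sign (outerHom _) = _
      rw [outerHom_eq maps_gen.1]; decide +kernel
  exact DFunLike.congr_fun h σ

theorem outerHom_bijective : Function.Bijective outerHom := by
  refine (Finite.surjective_iff_bijective).mp ?_
  rw [← MonoidHom.range_eq_top, eq_top_iff, ← gen_top, Subgroup.closure_le]
  have h1 : Maps imgSwap (swap 0 1) := by decide +kernel
  have h2 : Maps (swap 0 4 * (swap 2 5 * swap 5 3)) (finRotate 6) := by decide +kernel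
  rintro τ (rfl | rfl)
  exacts [⟨_, outerHom_eq h2⟩, ⟨_, outerHom_eq h1⟩]

/-- The automorphism of `S₃ × S₆` exchanging the two classes of four-subgroups of `A₆`. -/
noncomputable def swapAut : A3 ≃* A3 :=
  (MulEquiv.refl _).prodCongr (MulEquiv.ofBijective outerHom outerHom_bijective)

theorem swapAut_apply (h : A3) : swapAut h = (h.1, outerHom h.2) := rfl

theorem swapAut_mem_H0 {h : A3} : swapAut h ∈ H0 ↔ h ∈ H0 := by
  rw [mem_H0, mem_H0, swapAut_apply, outerHom_sign]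

theorem swapAut_mem_Hin {h : A3} : swapAut h ∈ Hin ↔ h ∈ Hin := by
  rw [mem_Hin, mem_Hin, swapAut_apply, outerHom_sign]

theorem outerHom_VB : ∃ g : Perm (Fin 6), Perm.sign g = 1 ∧
    ∀ σ ∈ VB, g * outerHom σ * g⁻¹ ∈ V56 := by
  have e1 : Maps (swap 0 1 * swap 2 3) (swap 2 4 * swap 3 5) := by decide +kernel
  have e2 : Maps (swap 0 1 * swap 4 5) (swap 2 5 * swap 3 4) := by decide +kernel
  have e3 : Maps (swap 2 3 * swap 4 5) (swap 2 3 * swap 4 5) := by decide +kernel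
  refine ⟨swap 0 4 * swap 1 5, by decide +kernel, fun σ hσ => ?_⟩
  simp only [VB, Finset.mem_insert, Finset.mem_singleton] at hσ
  rcases hσ with rfl | rfl | rfl | rfl
  · rw [map_one]; decide +kernel
  · rw [outerHom_eq e1]; decide +kernel
  · rw [outerHom_eq e2]; decide +kernel
  · rw [outerHom_eq e3]; decide +kernel

/-! ### 2-subgroups -/

theorem card_H0 : Nat.card H0 * 2 = 4320 := by
  set f : A3 →* ℤˣ := Equiv.Perm.sign.comp (MonoidHom.fst (Perm (Fin 3)) (Perm (Fin 6))) *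
    Equiv.Perm.sign.comp (MonoidHom.snd (Perm (Fin 3)) (Perm (Fin 6))) with hf
  have hs : Function.Surjective f := by
    intro u
    rcases Int.units_eq_one_or u with rfl | rfl
    · exact ⟨1, map_one _⟩
    · exact ⟨(1, swap 0 1), by rw [hf]; simp⟩
  have h1 := Subgroup.card_mul_index f.ker
  rw [Subgroup.index_ker, MonoidHom.range_eq_top.mpr hs, Subgroup.card_top,
    Nat.card_eq_fintype_card (α := ℤˣ), Fintype.card_units_int, Nat.card_eq_fintype_card (α := A3),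
    Fintype.card_prod, Fintype.card_perm, Fintype.card_perm, Fintype.card_fin, Fintype.card_fin] at h1
  exact h1

theorem two_card_le {A : Subgroup A3} (hA : A ≤ H0) (h2 : IsPGroup 2 A) : Nat.card A ≤ 16 := by
  obtain ⟨n, hn⟩ := h2.exists_card_eq
  have h := Subgroup.card_dvd_of_le hA
  have hc : Nat.card H0 = 2160 := by have := card_H0; omega
  rw [hn, hc] at h
  rw [hn]
  have : n < 5 := by
    by_contra hc
    have : 2 ^ 5 ∣ 2160 := dvd_trans (pow_dvd_pow 2 (by omega)) h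
    norm_num at this
  calc 2 ^ n ≤ 2 ^ 4 := Nat.pow_le_pow_right (by norm_num) (by omega)
    _ = 16 := by norm_num

/-- An abelian 2-subgroup of `A₃ × A₆` has at most four elements. -/
theorem inner_abelian_le {A : Subgroup A3} (hA : A ≤ Hin) (h2 : IsPGroup 2 A)
    (hc : ∀ a ∈ A, ∀ b ∈ A, a * b = b * a) : Nat.card A ≤ 4 := by
  rcases eq_or_ne A ⊥ with rfl | hne
  · simp
  haveI : Nontrivial A := (Subgroup.nontrivial_iff_ne_bot A).mpr hne
  haveI : Fact (Nat.Prime 2) := ⟨Nat.prime_two⟩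
  obtain ⟨n, hn0, hn⟩ := h2.nontrivial_iff_card.mp inferInstance
  obtain ⟨⟨x, hxA⟩, hx⟩ := exists_prime_orderOf_dvd_card' (G := A) 2
    (hn ▸ dvd_pow_self 2 (by omega))
  replace hx : orderOf x = 2 := by rwa [← Subgroup.orderOf_coe] at hx
  have hxx : x * x = 1 := by rw [← pow_two, ← hx, pow_orderOf_eq_one]
  have hx1 : x ≠ 1 := fun e => by rw [e, orderOf_one] at hx; norm_num at hx
  obtain ⟨ex, hx2⟩ := inner_inv (hA hxA) hxx
  obtain ⟨g, hg, hgx⟩ := conj_x0 x.2 (mem_Hin.mp (hA hxA)).2 hx2 fun e => hx1 (by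
    rw [ex, e]; rfl)
  let S : Finset (Perm (Fin 6)) :=
    Finset.univ.filter fun σ : Perm (Fin 6) => Perm.sign σ = 1 ∧ σ * x0 = x0 * σ
  let F : A → S := fun a => ⟨g * (a : A3).2 * g⁻¹, by
    refine Finset.mem_filter.mpr ⟨Finset.mem_univ _, ?_, ?_⟩
    · simp [(mem_Hin.mp (hA a.2)).2, hg]
    · rw [← hgx]
      have e : (a : A3).2 * x.2 = x.2 * (a : A3).2 := congrArg Prod.snd (hc a a.2 x hxA)
      calc g * (a : A3).2 * g⁻¹ * (g * x.2 * g⁻¹) = g * ((a : A3).2 * x.2) * g⁻¹ := by group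
        _ = g * (x.2 * (a : A3).2) * g⁻¹ := by rw [e]
        _ = _ := by group⟩
  have hF : Function.Injective F := by
    intro a b e
    have e2 : (a : A3).2 = (b : A3).2 :=
      mul_left_cancel (mul_right_cancel (congrArg Subtype.val e))
    have h1 : ∀ c : A, (c : A3).1 = 1 := by
      intro c
      obtain ⟨k, hk⟩ := h2 c
      exact fst_eq_one (hA c.2) (n := k) (by simpa using congrArg Subtype.val hk)
    exact Subtype.ext (Prod.ext ((h1 a).trans (h1 b).symm) e2)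
  have hle : Nat.card A ≤ 8 := by
    have := Nat.card_le_card_of_injective F hF
    rwa [Nat.card_eq_finsetCard, cen_x0_card] at this
  by_contra hgt
  have h8 : Nat.card A = 8 := by
    rw [hn] at hle hgt ⊢
    have : n < 4 := by
      by_contra hh
      have := Nat.pow_le_pow_right (show 0 < 2 by norm_num) (show 4 ≤ n by omega)
      omega
    interval_cases n <;> omega
  have hbij : Function.Bijective F :=
    hF.bijective_of_nat_card_le (by rw [Nat.card_eq_finsetCard, cen_x0_card, h8])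
  obtain ⟨σ, τ, s1, s2, t1, t2, hne'⟩ := cen_x0_noncomm
  obtain ⟨a, ha⟩ := hbij.2 ⟨σ, Finset.mem_filter.mpr ⟨Finset.mem_univ _, s1, s2⟩⟩
  obtain ⟨b, hb⟩ := hbij.2 ⟨τ, Finset.mem_filter.mpr ⟨Finset.mem_univ _, t1, t2⟩⟩
  apply hne'
  have e : (a : A3).2 * (b : A3).2 = (b : A3).2 * (a : A3).2 := congrArg Prod.snd (hc a a.2 b b.2)
  rw [← show g * (a : A3).2 * g⁻¹ = σ from congrArg Subtype.val ha,
    ← show g * (b : A3).2 * g⁻¹ = τ from congrArg Subtype.val hb]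
  calc g * (a : A3).2 * g⁻¹ * (g * (b : A3).2 * g⁻¹) = g * ((a : A3).2 * (b : A3).2) * g⁻¹ := by group
    _ = g * ((b : A3).2 * (a : A3).2) * g⁻¹ := by rw [e]
    _ = _ := by group

/-- A subgroup of `H0` is covered by two cosets of its inner part. -/
theorem card_le_inner {A : Subgroup A3} (hA : A ≤ H0) :
    Nat.card A ≤ 2 * Nat.card (A ⊓ Hin : Subgroup A3) := by
  by_cases h : ∃ α ∈ A, α ∉ Hin
  · obtain ⟨α, hα, hn⟩ := h
    have hsub : (A : Set A3) ⊆ ((A ⊓ Hin : Subgroup A3) : Set A3) ∪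
        (fun x => α * x) '' ((A ⊓ Hin : Subgroup A3) : Set A3) := by
      intro x hx
      by_cases hxi : x ∈ Hin
      · exact Or.inl ⟨hx, hxi⟩
      · exact Or.inr ⟨α⁻¹ * x, ⟨A.mul_mem (A.inv_mem hα) hx,
          inner_of_mul (hA (A.inv_mem hα)) (hA hx) (fun e => hn (by simpa using Hin.inv_mem e)) hxi⟩,
          by simp⟩
    have h1 := Set.ncard_le_ncard hsub (Set.toFinite _)
    have h2 := Set.ncard_union_le ((A ⊓ Hin : Subgroup A3) : Set A3)
      ((fun x => α * x) '' ((A ⊓ Hin : Subgroup A3) : Set A3))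
    have h3 := Set.ncard_image_le (f := fun x => α * x)
      (Set.toFinite ((A ⊓ Hin : Subgroup A3) : Set A3))
    simp only [← Nat.card_coe_set_eq, SetLike.coe_sort_coe] at h1 h2 h3
    omega
  · push Not at h
    rw [inf_eq_left.mpr h]
    omega

theorem abelian_two_le {A : Subgroup A3} (hA : A ≤ H0) (h2 : IsPGroup 2 A)
    (hc : ∀ a ∈ A, ∀ b ∈ A, a * b = b * a) : Nat.card A ≤ 8 := by
  have h1 := card_le_inner hA
  have h3 := inner_abelian_le (A := A ⊓ Hin) inf_le_right (h2.to_le inf_le_left)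
    fun a ha b hb => hc a ha.1 b hb.1
  omega

theorem abelian_eight {A : Subgroup A3} (hA : A ≤ H0) (h2 : IsPGroup 2 A)
    (hc : ∀ a ∈ A, ∀ b ∈ A, a * b = b * a) (h8 : 8 ≤ Nat.card A) :
    Nat.card (A ⊓ Hin : Subgroup A3) = 4 ∧ ∃ α ∈ A, α ∉ Hin := by
  have h1 := card_le_inner hA
  have h3 := inner_abelian_le (A := A ⊓ Hin) inf_le_right (h2.to_le inf_le_left)
    fun a ha b hb => hc a ha.1 b hb.1
  refine ⟨by omega, ?_⟩
  by_contra h
  push Not at h
  rw [inf_eq_left.mpr h] at h3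
  omega

/-- The two classes of four-subgroups of `A₆`. -/
theorem four_class {S : Subgroup (Perm (Fin 6))} (he : ∀ σ ∈ S, Perm.sign σ = 1)
    (hs : ∀ σ ∈ S, σ * σ = 1) {x : Perm (Fin 6)} (hx : x ∈ S) (hx1 : x ≠ 1) :
    ∃ g : Perm (Fin 6), Perm.sign g = 1 ∧
      ((∀ σ ∈ S, g * σ * g⁻¹ ∈ V56) ∨ (∀ σ ∈ S, g * σ * g⁻¹ ∈ VB)) := by
  obtain ⟨g, hg, hgx⟩ := conj_x0 x (he x hx) (hs x hx) hx1
  refine ⟨g, hg, ?_⟩
  have hcomm : ∀ σ ∈ S, ∀ τ ∈ S, σ * τ = τ * σ := by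
    intro σ h1 τ h2
    calc σ * τ = (σ * τ)⁻¹ := (inv_eq_of_mul_eq_one_right (hs _ (S.mul_mem h1 h2))).symm
      _ = τ * σ := by
        rw [mul_inv_rev, inv_eq_of_mul_eq_one_right (hs _ h1), inv_eq_of_mul_eq_one_right (hs _ h2)]
  have hcj : ∀ σ τ : Perm (Fin 6), σ * τ = τ * σ →
      g * σ * g⁻¹ * (g * τ * g⁻¹) = g * τ * g⁻¹ * (g * σ * g⁻¹) := by
    intro σ τ e
    calc g * σ * g⁻¹ * (g * τ * g⁻¹) = g * (σ * τ) * g⁻¹ := by group
      _ = g * (τ * σ) * g⁻¹ := by rw [e]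
      _ = _ := by group
  have hsign : ∀ σ ∈ S, Perm.sign (g * σ * g⁻¹) = 1 := fun σ h => by simp [he σ h, hg]
  have hsq : ∀ σ ∈ S, g * σ * g⁻¹ * (g * σ * g⁻¹) = 1 := fun σ h => by
    rw [show g * σ * g⁻¹ * (g * σ * g⁻¹) = g * (σ * σ) * g⁻¹ by group, hs σ h]; group
  by_cases hall : ∀ σ ∈ S, g * σ * g⁻¹ ∈ VB
  · exact Or.inr hall
  · push Not at hall
    obtain ⟨y, hy, hyn⟩ := hall
    refine Or.inl fun w hw => ?_
    refine (four_pair _ (hsign y hy) (hsq y hy) ?_ _ (hsign w hw) (hsq w hw) ?_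
      (hcj w y (hcomm w hw y hy))).resolve_left hyn
    · rw [← hgx]; exact hcj y x (hcomm y hy x hx)
    · rw [← hgx]; exact hcj w x (hcomm w hw x hx)

end Cfsg.Agent.S3284Group23
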