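import Cfsg.Agent.Lib.S3284Bridge23

/-!
# A conjugate of `z` inside `Q`: the shape of its stabiliser (for S3284)
-/

set_option autoImplicit false

namespace Cfsg.Agent.S3284Inside23

open Cfsg.Agent.S3284Group23 Cfsg.Agent.S3284Model23 Cfsg.Agent.S3284Setting23
open Cfsg.Agent.LargeExtraspecial

universe u

variable {G : Type u} [Group G] [Finite G]

theorem zz_add {V : Type u} [AddCommGroup V] [Module (ZMod 2) V] (x y : V) : x + y + y = x := by
  rw [add_assoc, ZModModule.add_self, add_zero]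

/-- Two centres, each in the other extraspecial group. -/
structure In (Q Q' : Subgroup G) (z t : G) (π π' : G → A3) : Prop where
  S : Sett Q z π
  S' : Sett Q' t π'
  tQ : t ∈ Q
  zQ' : z ∈ Q'
  ne : t ≠ z

/-- The conjugate of `z` by `g` gives such a pair. -/
theorem in_of_conj {Q : Subgroup G} {z : G} {π : G → A3} (S : Sett Q z π) {g : G}
    (hQ : g * z * g⁻¹ ∈ Q) (hne : g * z * g⁻¹ ≠ z) :
    In Q (Q.map (MulAut.conj g).toMonoidHom) z (g * z * g⁻¹) π (fun x => π (g⁻¹ * x * g)) :=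
  ⟨S, S.map_conj g, hQ, S.h.z_mem_conj hQ hne S.card32, hne⟩

namespace In

variable {Q Q' : Subgroup G} {z t : G} {π π' : G → A3} (I : In Q Q' z t π π')
include I

/-- `C_{Q'}(z)`. -/
def C' (_I : In Q Q' z t π π') : Subgroup G := Q' ⊓ Subgroup.centralizer ({z} : Set G)

theorem mem_C' {x : G} : x ∈ I.C' ↔ x ∈ Q' ∧ x * z = z * x := by
  rw [C', Subgroup.mem_inf, Subgroup.mem_centralizer_singleton_iff]

theorem one_of {x : G} (h1 : x = 1 ∨ x = z) (h2 : x = 1 ∨ x = t) : x = 1 := by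
  rcases h1 with e | e
  · exact e
  · exact h2.resolve_right fun e' => I.ne (e'.symm.trans e)

theorem E_sq {e : G} (he : e ∈ Q) (he' : e ∈ Q') : e * e = 1 :=
  I.one_of (I.S.h.sq e he) (I.S'.h.sq e he')

theorem E_comm {a b : G} (ha : a ∈ Q) (ha' : a ∈ Q') (hb : b ∈ Q) (hb' : b ∈ Q') :
    a * b = b * a := by
  refine mul_inv_eq_iff_eq_mul.mp ((I.S.h.conj a ha b hb).resolve_right fun e => ?_)
  rcases I.S'.h.conj a ha' b hb' with e' | e'
  · exact I.S.h.z_mul_ne b (e.symm.trans e')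
  · exact I.ne (mul_right_cancel (e'.symm.trans e))

theorem card_C' : 256 ≤ Nat.card I.C' := by
  have hQ' := I.S'.card
  by_cases hall : ∀ x ∈ Q', x * z = z * x
  · have e : I.C' = Q' := le_antisymm (fun x hx => (I.mem_C'.mp hx).1)
      fun x hx => I.mem_C'.mpr ⟨hx, hall x hx⟩
    rw [e, hQ']; norm_num
  push Not at hall
  obtain ⟨w, hw, hwz⟩ := hall
  have hsub : (Q' : Set G) ⊆ (I.C' : Set G) ∪ (fun x => w⁻¹ * x) '' (I.C' : Set G) := by
    intro q hq
    by_cases hqz : q * z = z * q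
    · exact Or.inl (I.mem_C'.mpr ⟨hq, hqz⟩)
    · refine Or.inr ⟨w * q, I.mem_C'.mpr ⟨Q'.mul_mem hw hq, ?_⟩, by simp⟩
      exact mul_inv_eq_iff_eq_mul.mp (I.S'.h.mul_fix hw ((I.S'.h.not_comm_iff I.zQ' hw).mp hwz)
        ((I.S'.h.not_comm_iff I.zQ' hq).mp hqz))
  have h1 := Set.ncard_le_ncard hsub (Set.toFinite _)
  have h2 := Set.ncard_union_le (I.C' : Set G) ((fun x => w⁻¹ * x) '' (I.C' : Set G))
  have h3 := Set.ncard_image_le (f := fun x => w⁻¹ * x) (Set.toFinite (I.C' : Set G))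
  simp only [← Nat.card_coe_set_eq, SetLike.coe_sort_coe] at h1 h2 h3
  omega

variable {V : Type u} [AddCommGroup V] [Module (ZMod 2) V] {R : Rep V} {p : G → V}
  (B : Bridge Q z π R p)
include B

/-- The image of `Q ∩ Q'` in the module. -/
def Eb (_I : In Q Q' z t π π') : Submodule (ZMod 2) V :=
  AddSubgroup.toZModSubmodule 2
    { carrier := {v | ∃ x ∈ Q, x ∈ Q' ∧ p x = v}
      zero_mem' := ⟨1, Q.one_mem, Q'.one_mem, B.map_one⟩
      add_mem' := by
        rintro _ _ ⟨x, hx, hx', rfl⟩ ⟨y, hy, hy', rfl⟩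
        exact ⟨x * y, Q.mul_mem hx hy, Q'.mul_mem hx' hy', B.map_mul x hx y hy⟩
      neg_mem' := by
        intro v hv
        rwa [ZModModule.neg_eq_self] }

theorem mem_Eb {v : V} : v ∈ I.Eb B ↔ ∃ x ∈ Q, x ∈ Q' ∧ p x = v := Iff.rfl

theorem pre_Eb : B.pre (I.Eb B) = Q ⊓ Q' := by
  apply le_antisymm
  · rintro x ⟨hx, y, hy, hy', e⟩
    rcases (B.eq_iff I.S.h.mem hy hx).mp e with h | h
    · exact ⟨hx, h ▸ hy'⟩
    · exact ⟨hx, h ▸ Q'.mul_mem hy' I.zQ'⟩
  · rintro x ⟨hx, hx'⟩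
    exact ⟨hx, x, hx, hx', rfl⟩

theorem Eb_sing {v : V} (hv : v ∈ I.Eb B) : R.q v = 0 := by
  obtain ⟨x, hx, hx', rfl⟩ := hv
  exact (B.sq x hx).mpr (I.E_sq hx hx')

theorem Eb_perp {v w : V} (hv : v ∈ I.Eb B) (hw : w ∈ I.Eb B) : R.b v w = 0 := by
  obtain ⟨x, hx, hx', rfl⟩ := hv
  obtain ⟨y, hy, hy', rfl⟩ := hw
  exact (B.comm x hx y hy).mpr (I.E_comm hx hx' hy hy')

theorem pt_mem : p t ∈ I.Eb B := ⟨t, I.tQ, I.S'.h.mem, rfl⟩

theorem pt_ne : p t ≠ 0 := fun e =>
  ((B.eq_zero t I.tQ).mp e).elim I.S'.h.ne_one I.ne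

omit B in
/-- `π (C_{Q'}(z))`. -/
theorem exists_im : ∃ A : Subgroup A3, A ≤ H0 ∧ (∀ k, k ∈ A ↔ ∃ x ∈ I.C', π x = k) ∧
    Nat.card I.C' = Nat.card A * Nat.card (Q ⊓ Q' : Subgroup G) ∧ IsPGroup 2 A ∧
    (∀ a ∈ A, ∀ b ∈ A, a * b = b * a) ∧ ∀ a ∈ A, a * a = 1 := by
  have hC : ∀ x ∈ I.C', x * z = z * x := fun x hx => (I.mem_C'.mp hx).2
  obtain ⟨A, hA, hmem, hc⟩ := I.S.exists_image I.C' hC
  have he : I.C' ⊓ Q = Q ⊓ Q' := le_antisymm (fun x hx => ⟨hx.2, (I.mem_C'.mp hx.1).1⟩)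
    fun x hx => ⟨I.mem_C'.mpr ⟨hx.2, I.S.h.comm x hx.1⟩, hx.1⟩
  rw [he] at hc
  have ht1 : π t = 1 := I.S.of_Q I.tQ
  refine ⟨A, hA, hmem, hc, I.S.image_isPGroup hC hmem
    (I.S'.h.toExt.isPGroup.to_le fun x hx => (I.mem_C'.mp hx).1), ?_, ?_⟩
  · intro a ha b hb
    obtain ⟨x, hx, rfl⟩ := (hmem a).mp ha
    obtain ⟨y, hy, rfl⟩ := (hmem b).mp hb
    rcases I.S'.h.conj x (I.mem_C'.mp hx).1 y (I.mem_C'.mp hy).1 with e | e <;>
      have e2 := congrArg π e <;> rw [I.S.conj (hC x hx) (hC y hy)] at e2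
    · exact mul_inv_eq_iff_eq_mul.mp e2
    · rw [I.S.mul t y (I.S.h.comm t I.tQ) (hC y hy), ht1, one_mul] at e2
      exact mul_inv_eq_iff_eq_mul.mp e2
  · intro a ha
    obtain ⟨x, hx, rfl⟩ := (hmem a).mp ha
    rw [← I.S.mul x x (hC x hx) (hC x hx)]
    rcases I.S'.h.sq x (I.mem_C'.mp hx).1 with e | e <;> rw [e]
    exacts [I.S.one, ht1]

theorem Eb_dim : Module.finrank (ZMod 2) (I.Eb B) = 4 := by
  haveI := R.findim
  have hle : I.Eb B ≤ R.b.orthogonal (I.Eb B) := fun v hv w hw => I.Eb_perp B hw hv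
  have h1 := Submodule.finrank_mono hle
  rw [LinearMap.BilinForm.finrank_orthogonal R.b_nondeg, R.dim] at h1
  obtain ⟨A, hA, -, hc, h2, hab, -⟩ := I.exists_im
  have h8 := abelian_two_le hA h2 hab
  have h256 := I.card_C'
  rw [hc, ← I.pre_Eb B, B.card_pre I.S.h.mem I.S.h.ne_one] at h256
  by_contra hne
  have h16 : 2 ^ (Module.finrank (ZMod 2) (I.Eb B) + 1) ≤ 16 :=
    (Nat.pow_le_pow_right (show 0 < 2 by norm_num)
      (show Module.finrank (ZMod 2) (I.Eb B) + 1 ≤ 4 by omega)).trans_eq (by norm_num)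
  have := Nat.mul_le_mul h8 h16
  omega

theorem mem_Eb_of_perp {v : V} (hv : ∀ e ∈ I.Eb B, R.b e v = 0) : v ∈ I.Eb B := by
  haveI := R.findim
  have heq : I.Eb B = R.b.orthogonal (I.Eb B) := by
    refine Submodule.eq_of_le_of_finrank_le (fun v hv w hw => I.Eb_perp B hw hv) ?_
    rw [LinearMap.BilinForm.finrank_orthogonal R.b_nondeg, R.dim, I.Eb_dim B]
  rw [heq]
  exact hv

omit B in
theorem im_facts (B : Bridge Q z π R p) {A : Subgroup A3} (hA : A ≤ H0)
    (hc : Nat.card I.C' = Nat.card A * Nat.card (Q ⊓ Q' : Subgroup G)) (h2 : IsPGroup 2 A)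
    (hab : ∀ a ∈ A, ∀ b ∈ A, a * b = b * a) :
    Nat.card (A ⊓ Hin : Subgroup A3) = 4 ∧ ∃ α ∈ A, α ∉ Hin := by
  refine abelian_eight hA h2 hab ?_
  have h256 := I.card_C'
  rw [hc, ← I.pre_Eb B, B.card_pre I.S.h.mem I.S.h.ne_one, I.Eb_dim B] at h256
  omega

theorem fix_pt {x : G} (hx : x ∈ I.C') : R.ρ (π x) (p t) = p t := by
  obtain ⟨hx1, hx2⟩ := I.mem_C'.mp hx
  rw [← B.act x hx2 t I.tQ, I.S'.h.comm x hx1, mul_inv_cancel_right]

theorem move_Eb {x : G} (hx : x ∈ I.C') {v : V} (hv : v ∈ I.Eb B) :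
    R.ρ (π x) v + v = 0 ∨ R.ρ (π x) v + v = p t := by
  obtain ⟨hx1, hx2⟩ := I.mem_C'.mp hx
  obtain ⟨e, he, he', rfl⟩ := hv
  rw [← B.act x hx2 e he]
  rcases I.S'.h.conj x hx1 e he' with h | h <;> rw [h]
  · exact Or.inl (ZModModule.add_self _)
  · right
    rw [B.map_mul t I.tQ e he, add_assoc, ZModModule.add_self, add_zero]

theorem move_perp {x : G} (hx : x ∈ I.C') {v : V} (hv : R.b v (p t) = 0) :
    R.ρ (π x) v + v ∈ I.Eb B := by
  obtain ⟨hx1, hx2⟩ := I.mem_C'.mp hx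
  obtain ⟨q, hq, rfl⟩ := B.surj v
  have hqt : q * t = t * q := (B.comm q hq t I.tQ).mp hv
  have h1 : x * q * x⁻¹ * q⁻¹ ∈ Q := Q.mul_mem (I.S.h.norm x hx2 q hq) (Q.inv_mem hq)
  have h2 : x * q * x⁻¹ * q⁻¹ ∈ Q' := by
    have e : x * q * x⁻¹ * q⁻¹ = x * (q * x⁻¹ * q⁻¹) := by group
    rw [e]
    exact Q'.mul_mem hx1 (I.S'.h.norm q hqt _ (Q'.inv_mem hx1))
  refine ⟨_, h1, h2, ?_⟩
  rw [B.map_mul _ (I.S.h.norm x hx2 q hq) _ (Q.inv_mem hq), B.act x hx2 q hq, B.map_inv hq]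

/-- The case in which `a0` has fixed points is impossible. -/
theorem k1_false (hk : R.K1) : False := by
  haveI := R.findim
  obtain ⟨A, hA, hmem, hc, h2, hab, hsq⟩ := I.exists_im
  obtain ⟨h4, α, hα, hαn⟩ := I.im_facts B hA hc h2 hab
  have hαH := hA hα
  -- some element of `Eb` has a moved component
  obtain ⟨r, hr, ur, hur, wr, hwr, hr_eq, hwne⟩ : ∃ r ∈ I.Eb B, ∃ ur ∈ R.U, ∃ wr ∈ R.W,
      ur + wr = r ∧ R.ρ α wr ≠ wr := by
    by_contra hno
    push Not at hno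
    have hWf := R.outer_half hαH hαn (hsq α hα) (R.inv_W hαH) (R.inner_inv_W a0_mem)
      fun v hv => R.W_free hv
    rw [hk.2.1] at hWf
    obtain ⟨w0, hw0, hw00⟩ := Submodule.exists_mem_ne_zero_of_ne_bot
      (p := R.W ⊓ R.fix α) (fun e => by rw [e, finrank_bot] at hWf; omega)
    have h1 : w0 ∈ I.Eb B := by
      refine I.mem_Eb_of_perp B fun e he => ?_
      obtain ⟨u, hu, w, hw, rfl⟩ := R.UW_split e
      have hwf : R.ρ α w = w := hno _ he u hu w hw rfl
      have hw' : w ∈ R.W ⊓ R.fix α := ⟨hw, R.mem_fix.mpr hwf⟩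
      have hd : Module.finrank (ZMod 2) (R.W ⊓ R.fix α : Submodule _ V) = 1 := by omega
      rw [map_add, LinearMap.add_apply, R.U_perp_W hu hw0.1, zero_add]
      obtain ⟨c, hc⟩ := (finrank_eq_one_iff_of_nonzero' (⟨w0, hw0⟩ :
        (R.W ⊓ R.fix α : Submodule _ V)) (fun e => hw00 (congrArg Subtype.val e))).mp hd ⟨w, hw'⟩
      have hcw : c • w0 = w := congrArg Subtype.val hc
      rw [← hcw, map_smul, LinearMap.smul_apply, R.b_self, smul_zero]
    have h2' := I.Eb_sing B h1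
    rw [R.W_q hk hw0.1 hw00] at h2'
    exact one_ne_zero h2'
  obtain ⟨xα, hxα, rfl⟩ := (hmem α).mp hα
  -- the W-projection
  let P : Module.End (ZMod 2) V := R.ρ a0 + R.ρ a0 * R.ρ a0
  have hPU : ∀ u ∈ R.U, P u = 0 := fun u hu => by
    show R.ρ a0 u + R.ρ a0 (R.ρ a0 u) = 0
    rw [R.mem_fix.mp hu, R.mem_fix.mp hu, ZModModule.add_self]
  have hPW : ∀ w ∈ R.W, P w = w := fun w hw => by
    have e := R.mem_W.mp hw
    show R.ρ a0 w + R.ρ a0 (R.ρ a0 w) = w
    calc R.ρ a0 w + R.ρ a0 (R.ρ a0 w)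
        = w + R.ρ a0 w + R.ρ a0 (R.ρ a0 w) + w := by
          rw [add_comm _ w, ← add_assoc, ← add_assoc, ZModModule.add_self, zero_add]
      _ = w := by rw [e, zero_add]
  have hPs : ∀ u ∈ R.U, ∀ w ∈ R.W, P (u + w) = w := fun u hu w hw => by
    rw [map_add, hPU u hu, hPW w hw, zero_add]
  have hcomp : R.ρ (π xα) wr + wr ≠ 0 := fun e => hwne (by
    calc R.ρ (π xα) wr = R.ρ (π xα) wr + wr + wr := (zz_add _ _).symm
      _ = wr := by rw [e, zero_add])
  have hkey : P (R.ρ (π xα) r + r) = R.ρ (π xα) wr + wr := by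
    rw [← hr_eq, map_add (R.ρ (π xα))]
    have e : R.ρ (π xα) ur + R.ρ (π xα) wr + (ur + wr) =
        (R.ρ (π xα) ur + ur) + (R.ρ (π xα) wr + wr) := by abel
    rw [e]
    exact hPs _ (R.U.add_mem (R.inv_U hαH ur hur) hur) _ (R.W.add_mem (R.inv_W hαH wr hwr) hwr)
  have hrt : R.ρ (π xα) r + r = p t :=
    (I.move_Eb B hxα hr).resolve_left fun e => hcomp (by rw [← hkey, e, map_zero])
  have hPt : P (p t) = R.ρ (π xα) wr + wr := by rw [← hrt, hkey]
  have hPtne : P (p t) ≠ 0 := hPt ▸ hcomp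
  -- the map onto W is surjective
  have hPr : P r = wr := by rw [← hr_eq]; exact hPs ur hur wr hwr
  have hwr0 : wr ≠ 0 := fun e => hwne (by rw [e, map_zero])
  have hsurj : R.W ≤ (I.Eb B).map P := by
    intro w hw
    have hne' : wr ≠ P (p t) := by
      rw [hPt]
      intro e
      exact hwne (by
        have e2 : R.ρ (π xα) wr = 0 := by
          calc R.ρ (π xα) wr = R.ρ (π xα) wr + wr + wr := (zz_add _ _).symm
            _ = 0 := by rw [← e, ZModModule.add_self]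
        exact absurd (R.act_inj hαH (e2.trans (map_zero _).symm)) hwr0)
    have m1 : wr ∈ (I.Eb B).map P := ⟨r, hr, hPr⟩
    have m2 : P (p t) ∈ (I.Eb B).map P := ⟨_, I.pt_mem B, rfl⟩
    have hPtW : P (p t) ∈ R.W := hPt ▸ R.W.add_mem (R.inv_W hαH wr hwr) hwr
    rcases Rep.mem_of_dim_two hk.2.1 hwr hPtW hwr0 hPtne hne' hw with e | e | e | e <;> rw [e]
    exacts [zero_mem _, m1, m2, add_mem m1 m2]
  have hY : Module.finrank (ZMod 2) (I.Eb B ⊓ R.U : Submodule _ V) ≤ 2 := by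
    have h1 := R.finrank_split (X := I.Eb B) P
    have h3 := Submodule.finrank_mono hsurj
    have h5 : I.Eb B ⊓ R.U ≤ I.Eb B ⊓ LinearMap.ker P := fun v hv => ⟨hv.1, hPU v hv.2⟩
    have h6 := Submodule.finrank_mono h5
    rw [I.Eb_dim B] at h1
    rw [hk.2.1] at h3
    omega
  -- inner elements
  have hinner : ∀ a ∈ A, a ∈ Hin → a ≠ 1 →
      R.rng a = I.Eb B ⊓ R.U ∧ ∀ v, R.b v (R.ρ a v + v) = 0 := by
    intro a ha hai ha1
    have haa := hsq a ha
    have haH := hA ha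
    have hrngU : R.rng a ≤ R.U := by
      rintro _ ⟨v, rfl⟩
      obtain ⟨u, hu, w, hw, rfl⟩ := R.UW_split v
      show R.ρ a (u + w) + (u + w) ∈ R.U
      rw [map_add, R.W_trivial_inner hk hai haa hw]
      have e : R.ρ a u + w + (u + w) = R.ρ a u + u + (w + w) := by abel
      rw [e, ZModModule.add_self, add_zero]
      exact R.U.add_mem (R.inv_U haH u hu) hu
    obtain ⟨x, hx, rfl⟩ := (hmem a).mp ha
    have hfix : I.Eb B ≤ R.fix (π x) := by
      intro e he
      rw [R.mem_fix]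
      rcases I.move_Eb B hx he with h | h
      · calc R.ρ (π x) e = R.ρ (π x) e + e + e := (zz_add _ _).symm
          _ = e := by rw [h, zero_add]
      · exfalso
        apply hPtne
        rw [← h]
        exact hPU _ (hrngU ⟨e, rfl⟩)
    have hle : R.rng (π x) ≤ I.Eb B ⊓ R.U := fun v hv =>
      ⟨I.mem_Eb_of_perp B fun e he => (R.b_symm e v).trans (R.b_rng_fix haH haa hv (hfix he)),
        hrngU hv⟩
    have hb : ∀ v, R.b v (R.ρ (π x) v + v) = 0 := by
      intro v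
      have h0 := I.Eb_sing B (hle ⟨v, rfl⟩).1
      have e : R.q (R.ρ (π x) v + v) = R.q (R.ρ (π x) v) + R.q v + R.b (R.ρ (π x) v) v := R.polar _ _
      rw [show R.q ((R.ρ (π x) + 1) v) = R.q (R.ρ (π x) v + v) from rfl, e, R.hq _ haH,
        ZModModule.add_self, zero_add] at h0
      rw [map_add, R.b_self, add_zero, R.b_symm, h0]
    refine ⟨Submodule.eq_of_le_of_finrank_le hle ?_, hb⟩
    by_contra hlt
    have h1 : Module.finrank (ZMod 2) (R.rng (π x)) ≠ 0 := by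
      intro e
      refine ha1 (R.faith _ haH (LinearMap.ext fun v => ?_))
      have h0 : R.ρ (π x) v + v = 0 := by
        have : R.ρ (π x) v + v ∈ R.rng (π x) := ⟨v, rfl⟩
        rwa [Submodule.finrank_eq_zero.mp e, Submodule.mem_bot] at this
      show R.ρ (π x) v = v
      calc R.ρ (π x) v = R.ρ (π x) v + v + v := (zz_add _ _).symm
        _ = v := by rw [h0, zero_add]
    obtain ⟨⟨d, hd⟩, hd0, hd'⟩ := finrank_eq_one_iff'.mp
      (show Module.finrank (ZMod 2) (R.rng (π x)) = 1 by omega)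
    refine hd0 (Subtype.ext (R.nondeg d fun v => ?_))
    obtain ⟨c, hc⟩ := hd' ⟨R.ρ (π x) v + v, ⟨v, rfl⟩⟩
    have hc' : c • d = R.ρ (π x) v + v := congrArg Subtype.val hc
    have hbit : ∀ r : ZMod 2, r = 0 ∨ r = 1 := by decide
    rcases hbit c with rfl | rfl
    · rw [zero_smul] at hc'
      refine R.b_rng_fix haH haa hd (R.mem_fix.mpr ?_)
      calc R.ρ (π x) v = R.ρ (π x) v + v + v := (zz_add _ _).symm
        _ = v := by rw [← hc', zero_add]
    · rw [one_smul] at hc'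
      rw [hc', R.b_symm]
      exact hb v
  -- two distinct inner involutions act equally
  obtain ⟨⟨x, hx⟩, hx1⟩ : ∃ x : (A ⊓ Hin : Subgroup A3), x ≠ 1 := by
    haveI : Nontrivial (A ⊓ Hin : Subgroup A3) := Finite.one_lt_card_iff_nontrivial.mp (by omega)
    exact exists_ne 1
  obtain ⟨y, hy, hy'⟩ : ∃ y ∈ A ⊓ Hin, y ∉ ({1, x} : Set A3) := by
    by_contra hno
    push Not at hno
    have := Set.ncard_le_ncard (s := ((A ⊓ Hin : Subgroup A3) : Set A3)) hno (Set.toFinite _)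
    rw [← Nat.card_coe_set_eq, SetLike.coe_sort_coe, h4] at this
    have h3 := Set.ncard_insert_le (1 : A3) {x}
    rw [Set.ncard_singleton] at h3
    omega
  simp only [Set.mem_insert_iff, Set.mem_singleton_iff, not_or] at hy'
  have hx1' : x ≠ 1 := fun e => hx1 (Subtype.ext e)
  obtain ⟨hX, hXb⟩ := hinner x hx.1 hx.2 hx1'
  obtain ⟨hY', hYb⟩ := hinner y hy.1 hy.2 hy'.1
  have hxy : R.ρ x = R.ρ y := by
    refine LinearMap.ext fun v => ?_
    by_contra hne
    have hfix : ∀ a ∈ A, a ∈ Hin → a ≠ 1 → (∀ d ∈ I.Eb B ⊓ R.U, R.b v d = 0) →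
        R.ρ a v = v := by
      intro a ha hai ha1 hperp
      obtain ⟨hrng, -⟩ := hinner a ha hai ha1
      have h0 : R.ρ a v + v = 0 := by
        refine R.nondeg _ fun w => ?_
        have hw : R.b v (R.ρ a w + w) = 0 := hperp _ (hrng ▸ ⟨w, rfl⟩)
        rw [map_add, LinearMap.add_apply, R.b_adj (hA ha), inv_eq_of_mul_eq_one_right (hsq a ha),
          ← map_add]
        exact hw
      calc R.ρ a v = R.ρ a v + v + v := (zz_add _ _).symm
        _ = v := by rw [h0, zero_add]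
    set d1 := R.ρ x v + v with hd1
    set d2 := R.ρ y v + v with hd2
    have m1 : d1 ∈ I.Eb B ⊓ R.U := hX ▸ ⟨v, rfl⟩
    have m2 : d2 ∈ I.Eb B ⊓ R.U := hY' ▸ ⟨v, rfl⟩
    have hd12 : d1 ≠ d2 := fun e => hne (add_right_cancel e)
    have hperp : ∀ d ∈ I.Eb B ⊓ R.U, R.b v d = 0 := by
      intro d hd
      have hb1 : R.b v d1 = 0 := hXb v
      have hb2 : R.b v d2 = 0 := hYb v
      -- one of them may vanish
      by_cases h10 : d1 = 0
      · exfalso
        have hxv : R.ρ x v = v := by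
          calc R.ρ x v = R.ρ x v + v + v := (zz_add _ _).symm
            _ = v := by rw [← hd1, h10, zero_add]
        refine hne (hxv.trans (hfix y hy.1 hy.2 hy'.1 fun d' hd' => ?_).symm)
        rw [← hX] at hd'
        exact (R.b_symm v d').trans
          (R.b_rng_fix (hA hx.1) (hsq x hx.1) hd' (R.mem_fix.mpr hxv))
      by_cases h20 : d2 = 0
      · exfalso
        have hyv : R.ρ y v = v := by
          calc R.ρ y v = R.ρ y v + v + v := (zz_add _ _).symm
            _ = v := by rw [← hd2, h20, zero_add]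
        refine hne ((hfix x hx.1 hx.2 hx1' fun d' hd' => ?_).trans hyv.symm)
        rw [← hY'] at hd'
        exact (R.b_symm v d').trans
          (R.b_rng_fix (hA hy.1) (hsq y hy.1) hd' (R.mem_fix.mpr hyv))
      have hd2' : Module.finrank (ZMod 2) (I.Eb B ⊓ R.U : Submodule _ V) = 2 := by
        refine le_antisymm hY ?_
        by_contra hlt
        have hne0 : Module.finrank (ZMod 2) (I.Eb B ⊓ R.U : Submodule _ V) ≠ 0 := fun e => h10 (by
          rw [Submodule.finrank_eq_zero.mp e, Submodule.mem_bot] at m1; exact m1)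
        have hone : Module.finrank (ZMod 2) (I.Eb B ⊓ R.U : Submodule _ V) = 1 := by omega
        obtain ⟨c, hc⟩ := (finrank_eq_one_iff_of_nonzero' (⟨d1, m1⟩ :
          (I.Eb B ⊓ R.U : Submodule _ V)) (fun e => h10 (congrArg Subtype.val e))).mp hone
          ⟨d2, m2⟩
        have hc' : c • d1 = d2 := congrArg Subtype.val hc
        have hbit : ∀ r : ZMod 2, r = 0 ∨ r = 1 := by decide
        rcases hbit c with rfl | rfl
        · exact h20 (by rw [← hc', zero_smul])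
        · exact hd12 (by rw [← hc', one_smul])
      rcases Rep.mem_of_dim_two hd2' m1 m2 h10 h20 hd12 hd with e | e | e | e <;>
        simp [e, hb1, hb2]
    exact hne ((hfix x hx.1 hx.2 hx1' hperp).trans (hfix y hy.1 hy.2 hy'.1 hperp).symm)
  refine hy'.2 (mul_inv_eq_one.mp (R.faith (y * x⁻¹)
    (H0.mul_mem (hA hy.1) (H0.inv_mem (hA hx.1))) (LinearMap.ext fun v => ?_)))
  show R.ρ (y * x⁻¹) v = v
  rw [R.act_mul (hA hy.1) (H0.inv_mem (hA hx.1)), ← hxy, R.act_inv' (hA hx.1)]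

theorem u0 : R.U0 := R.dichotomy.resolve_right (I.k1_false B)

/-- The inner part of `π (C_{Q'}(z))` fixes exactly the plane of `t`. -/
theorem plane {A : Subgroup A3} (hA : A ≤ H0) (hmem : ∀ k, k ∈ A ↔ ∃ x ∈ I.C', π x = k)
    (hc : Nat.card I.C' = Nat.card A * Nat.card (Q ⊓ Q' : Subgroup G)) (h2 : IsPGroup 2 A)
    (hab : ∀ a ∈ A, ∀ b ∈ A, a * b = b * a) (hsq : ∀ a ∈ A, a * a = 1)
    {v : V} (hv : ∀ k ∈ A, k ∈ Hin → R.ρ k v = v) :
    v = 0 ∨ v = p t ∨ v = R.ρ a0 (p t) ∨ v = R.ρ a0 (R.ρ a0 (p t)) := by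
  haveI := R.findim
  have hu := I.u0 B
  obtain ⟨h4, α, hα, hαn⟩ := I.im_facts B hA hc h2 hab
  obtain ⟨⟨x, hx⟩, hx1⟩ : ∃ x : (A ⊓ Hin : Subgroup A3), x ≠ 1 := by
    haveI : Nontrivial (A ⊓ Hin : Subgroup A3) := Finite.one_lt_card_iff_nontrivial.mp (by omega)
    exact exists_ne 1
  obtain ⟨y, hy, hy'⟩ : ∃ y ∈ A ⊓ Hin, y ∉ ({1, x} : Set A3) := by
    by_contra hno
    push Not at hno
    have := Set.ncard_le_ncard (s := ((A ⊓ Hin : Subgroup A3) : Set A3)) hno (Set.toFinite _)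
    rw [← Nat.card_coe_set_eq, SetLike.coe_sort_coe, h4] at this
    have h3 := Set.ncard_insert_le (1 : A3) {x}
    rw [Set.ncard_singleton] at h3
    omega
  simp only [Set.mem_insert_iff, Set.mem_singleton_iff, not_or] at hy'
  have hx1' : x ≠ 1 := fun e => hx1 (Subtype.ext e)
  set X := R.fix x ⊓ R.fix y with hX
  have hpt : ∀ k ∈ A, R.ρ k (p t) = p t := fun k hk => by
    obtain ⟨m, hm, rfl⟩ := (hmem k).mp hk
    exact I.fix_pt B hm
  have hptX : p t ∈ X := ⟨R.mem_fix.mpr (hpt x hx.1), R.mem_fix.mpr (hpt y hy.1)⟩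
  have hXa : R.Inv a0 X := fun w hw =>
    ⟨R.a_inv_fix hx.2 w hw.1, R.a_inv_fix hy.2 w hw.2⟩
  obtain ⟨m, hm⟩ := R.even_dim R.a0_H0 Rep.a0_three hXa fun w _ => hu w
  have hfx := R.inner_fix_four hu hx.2 (hsq x hx.1) hx1'
  have hfy := R.inner_fix_four hu hy.2 (hsq y hy.1) hy'.1
  have hle : Module.finrank (ZMod 2) X ≤ 4 :=
    (Submodule.finrank_mono inf_le_left).trans hfx.le
  have hpos : Module.finrank (ZMod 2) X ≠ 0 := fun e => I.pt_ne B (by
    rw [Submodule.finrank_eq_zero.mp e, Submodule.mem_bot] at hptX; exact hptX)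
  have hdim : Module.finrank (ZMod 2) X = 2 := by
    by_contra hne
    have hd4 : Module.finrank (ZMod 2) X = 4 := by omega
    have hXx : X = R.fix x := Submodule.eq_of_le_of_finrank_le inf_le_left (by omega)
    have hXy : X = R.fix y := Submodule.eq_of_le_of_finrank_le inf_le_right (by omega)
    have hxH := hA hx.1
    have hyH := hA hy.1
    have hrx : R.rng x = X := by
      rw [hXx]
      refine Submodule.eq_of_le_of_finrank_le (R.rng_le_fix hxH (hsq x hx.1)) ?_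
      have := R.finrank_rng_add_fix x
      omega
    have hry : R.rng y = X := by
      rw [hXy]
      refine Submodule.eq_of_le_of_finrank_le (R.rng_le_fix hyH (hsq y hy.1)) ?_
      have := R.finrank_rng_add_fix y
      omega
    -- `Eb` is not `X`
    have hH : Module.finrank (ZMod 2) (I.Eb B ⊓ X : Submodule _ V) ≤ 3 := by
      by_contra hc'
      have h1 := Submodule.finrank_mono (inf_le_left : I.Eb B ⊓ X ≤ I.Eb B)
      rw [I.Eb_dim B] at h1
      have e1 : I.Eb B ⊓ X = I.Eb B :=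
        Submodule.eq_of_le_of_finrank_le inf_le_left (by rw [I.Eb_dim B]; omega)
      have e2 : I.Eb B ⊓ X = X := Submodule.eq_of_le_of_finrank_le inf_le_right (by omega)
      have hEX : I.Eb B = X := e1.symm.trans e2
      obtain ⟨xα, hxα, rfl⟩ := (hmem α).mp hα
      have hinv : R.Inv (π xα) X := fun w hw => by
        have w1 : R.ρ x w = w := R.mem_fix.mp (Submodule.mem_inf.mp hw).1
        have w2 : R.ρ y w = w := R.mem_fix.mp (Submodule.mem_inf.mp hw).2
        exact ⟨R.mem_fix.mpr (by rw [R.act_comm hxH (hA hα) (hab x hx.1 _ hα), w1]),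
          R.mem_fix.mpr (by rw [R.act_comm hyH (hA hα) (hab y hy.1 _ hα), w2])⟩
      have hhalf := R.outer_half (hA hα) hαn (hsq _ hα) hinv hXa fun w _ => hu w
      have hs := R.finrank_split (X := X) (R.ρ (π xα) + 1)
      have hsp : X.map (R.ρ (π xα) + 1) ≤ Submodule.span (ZMod 2) {p t} := by
        rintro _ ⟨w, hw, rfl⟩
        rcases I.move_Eb B hxα (hEX ▸ hw : w ∈ I.Eb B) with h | h
        · show R.ρ (π xα) w + w ∈ _
          rw [h]; exact zero_mem _
        · show R.ρ (π xα) w + w ∈ _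
          rw [h]; exact Submodule.mem_span_singleton_self _
      have h5 := Submodule.finrank_mono hsp
      rw [finrank_span_singleton (I.pt_ne B)] at h5
      have h6 : Module.finrank (ZMod 2) (X ⊓ R.fix (π xα) : Submodule _ V) =
        Module.finrank (ZMod 2) (X ⊓ LinearMap.ker (R.ρ (π xα) + 1) : Submodule _ V) := rfl
      omega
    -- the image of the orthogonal of `t`
    have hexv : ∃ w, R.b w (p t) = 1 := by
      by_contra hno
      push Not at hno
      refine I.pt_ne B (R.nondeg _ fun w => ?_)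
      have hbit : ∀ r : ZMod 2, r ≠ 1 → r = 0 := by decide
      rw [R.b_symm]; exact hbit _ (hno w)
    obtain ⟨w, hw⟩ := hexv
    let T : Submodule (ZMod 2) V := LinearMap.ker (R.b (p t))
    have memT : ∀ q, q ∈ T ↔ R.b q (p t) = 0 := fun q => by
      rw [R.b_symm]; rfl
    have hT : 7 ≤ Module.finrank (ZMod 2) T := by
      have h1 := LinearMap.finrank_range_add_finrank_ker (R.b (p t))
      have h3 := Submodule.finrank_le (LinearMap.range (R.b (p t)))
      rw [Module.finrank_self] at h3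
      rw [R.dim] at h1
      change Module.finrank (ZMod 2) _ + Module.finrank (ZMod 2) T = 8 at h1
      omega
    have hXT : ∀ a, R.rng a = X → R.fix a = X → a * a = 1 → a ∈ H0 → ∀ q ∈ X, q ∈ T :=
      fun a ha ha' haa haH q hq => (memT q).mpr ((R.b_symm q _).trans
        (R.b_rng_fix haH haa (ha.symm ▸ hptX) (ha'.symm ▸ hq)))
    have hout : ∀ a ∈ A, R.rng a = X → R.fix a = X → R.ρ a w + w ∈ X ∧ R.ρ a w + w ∉ I.Eb B := by
      intro a ha hr' hf'
      obtain ⟨xa, hxa, rfl⟩ := (hmem a).mp ha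
      refine ⟨hr' ▸ ⟨w, rfl⟩, fun hE => ?_⟩
      have hmap : T.map (R.ρ (π xa) + 1) = I.Eb B ⊓ X := by
        refine Submodule.eq_of_le_of_finrank_le ?_ ?_
        · rintro _ ⟨q, hq, rfl⟩
          exact ⟨I.move_perp B hxa ((memT q).mp hq), hr' ▸ ⟨q, rfl⟩⟩
        · have hs := R.finrank_split (X := T) (R.ρ (π xa) + 1)
          have h6 : Module.finrank (ZMod 2) (T ⊓ LinearMap.ker (R.ρ (π xa) + 1) : Submodule _ V) ≤ 4 := by
            refine (Submodule.finrank_mono inf_le_right).trans ?_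
            rw [show LinearMap.ker (R.ρ (π xa) + 1) = X from hf']
            omega
          omega
      obtain ⟨q, hq, e⟩ : R.ρ (π xa) w + w ∈ T.map (R.ρ (π xa) + 1) :=
        hmap.symm ▸ ⟨hE, hr' ▸ ⟨w, rfl⟩⟩
      have hwq : w + q ∈ X := by
        rw [← hf', R.mem_fix, map_add]
        have e' : R.ρ (π xa) q + q = R.ρ (π xa) w + w := e
        calc R.ρ (π xa) w + R.ρ (π xa) q
            = (R.ρ (π xa) w + w) + (R.ρ (π xa) q + q) + (w + q) := by
              rw [show R.ρ (π xa) w + w + (R.ρ (π xa) q + q) + (w + q) =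
                R.ρ (π xa) w + R.ρ (π xa) q + (w + w) + (q + q) by abel,
                ZModModule.add_self, ZModModule.add_self, add_zero, add_zero]
          _ = w + q := by rw [e', ZModModule.add_self, zero_add]
      have hwT : w ∈ T := by
        rw [← zz_add w q]
        exact T.add_mem (hXT _ hr' hf' (hsq _ ha) (hA ha) _ hwq) hq
      rw [(memT w).mp hwT] at hw
      exact zero_ne_one hw
    obtain ⟨ax, bx⟩ := hout x hx.1 hrx hXx.symm
    obtain ⟨ay, b_y⟩ := hout y hy.1 hry hXy.symm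
    have hxyA : x * y ∈ A := A.mul_mem hx.1 hy.1
    have hxy1 : x * y ≠ 1 := fun e => hy'.2 (by
      rw [eq_inv_of_mul_eq_one_right e, inv_eq_of_mul_eq_one_right (hsq x hx.1)])
    have hfxy : R.fix (x * y) = X := by
      refine (Submodule.eq_of_le_of_finrank_le ?_ ?_).symm
      · intro q hq
        rw [R.mem_fix, R.act_mul hxH hyH, R.mem_fix.mp hq.2, R.mem_fix.mp hq.1]
      · rw [R.inner_fix_four hu (Hin.mul_mem hx.2 hy.2) (hsq _ hxyA) hxy1, hd4]
    have hrxy : R.rng (x * y) = X := by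
      rw [← hfxy]
      refine Submodule.eq_of_le_of_finrank_le (R.rng_le_fix (hA hxyA) (hsq _ hxyA)) ?_
      have := R.finrank_rng_add_fix (x * y)
      have := R.inner_fix_four hu (Hin.mul_mem hx.2 hy.2) (hsq _ hxyA) hxy1
      omega
    obtain ⟨-, bxy⟩ := hout (x * y) hxyA hrxy hfxy
    apply bxy
    have esum : R.ρ (x * y) w + w = (R.ρ x w + w) + (R.ρ y w + w) := by
      have e1 : R.ρ x (R.ρ y w + w) = R.ρ y w + w := R.mem_fix.mp (ay.1)
      rw [map_add] at e1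
      rw [R.act_mul hxH hyH]
      calc R.ρ x (R.ρ y w) + w = R.ρ x (R.ρ y w) + R.ρ x w + (R.ρ x w + w) := by
            rw [show R.ρ x (R.ρ y w) + R.ρ x w + (R.ρ x w + w) =
              R.ρ x (R.ρ y w) + w + (R.ρ x w + R.ρ x w) by abel, ZModModule.add_self, add_zero]
        _ = _ := by rw [e1]; abel
    -- a hyperplane misses two vectors, so contains their sum
    have hsup : (I.Eb B ⊓ X) ⊔ Submodule.span (ZMod 2) {R.ρ x w + w} = X := by
      refine Submodule.eq_of_le_of_finrank_le (sup_le inf_le_right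
        ((Submodule.span_singleton_le_iff_mem _ _).mpr ax)) ?_
      have hne0 : R.ρ x w + w ≠ 0 := fun e => bx (e ▸ zero_mem _)
      have h := Submodule.finrank_sup_add_finrank_inf_eq (I.Eb B ⊓ X)
        (Submodule.span (ZMod 2) {R.ρ x w + w})
      have hi : (I.Eb B ⊓ X) ⊓ Submodule.span (ZMod 2) {R.ρ x w + w} = ⊥ := by
        rw [Submodule.eq_bot_iff]
        rintro q ⟨hq1, hq2⟩
        obtain ⟨c, rfl⟩ := Submodule.mem_span_singleton.mp hq2
        have hbit : ∀ r : ZMod 2, r = 0 ∨ r = 1 := by decide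
        rcases hbit c with rfl | rfl
        · rw [zero_smul]
        · rw [one_smul] at hq1; exact absurd hq1.1 bx
      rw [hi, finrank_bot, finrank_span_singleton hne0] at h
      have hs := R.finrank_split (X := T) (R.ρ x + 1)
      have h6 : Module.finrank (ZMod 2) (T ⊓ LinearMap.ker (R.ρ x + 1) : Submodule _ V) ≤ 4 := by
        refine (Submodule.finrank_mono inf_le_right).trans ?_
        rw [show LinearMap.ker (R.ρ x + 1) = X from hXx.symm]
        omega
      have h7 : T.map (R.ρ x + 1) ≤ I.Eb B ⊓ X := by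
        rintro _ ⟨q, hq, rfl⟩
        obtain ⟨m', hm', rfl⟩ := (hmem x).mp hx.1
        exact ⟨I.move_perp B hm' ((memT q).mp hq), hrx ▸ ⟨q, rfl⟩⟩
      have := Submodule.finrank_mono h7
      omega
    obtain ⟨h', hh', s, hs', e⟩ := Submodule.mem_sup.mp (hsup.symm ▸ ay :
      R.ρ y w + w ∈ (I.Eb B ⊓ X) ⊔ Submodule.span (ZMod 2) {R.ρ x w + w})
    obtain ⟨c, rfl⟩ := Submodule.mem_span_singleton.mp hs'
    have hbit : ∀ r : ZMod 2, r = 0 ∨ r = 1 := by decide
    rcases hbit c with rfl | rfl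
    · rw [zero_smul, add_zero] at e
      exact absurd (e ▸ hh'.1) b_y
    · rw [one_smul] at e
      rw [esum, ← e, add_comm h', ← add_assoc, ZModModule.add_self, zero_add]
      exact hh'.1
  have hat : R.ρ a0 (p t) ∈ X := hXa _ hptX
  have hne1 : R.ρ a0 (p t) ≠ p t := fun e => I.pt_ne B (hu _ e)
  have hat0 : R.ρ a0 (p t) ≠ 0 := fun e =>
    I.pt_ne B (R.act_inj R.a0_H0 (e.trans (map_zero _).symm))
  have hsum : p t + R.ρ a0 (p t) = R.ρ a0 (R.ρ a0 (p t)) := by
    have e : p t + R.ρ a0 (p t) + R.ρ a0 (R.ρ a0 (p t)) = 0 := hu _ (R.a_sum_fix _)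
    calc p t + R.ρ a0 (p t)
        = p t + R.ρ a0 (p t) + R.ρ a0 (R.ρ a0 (p t)) + R.ρ a0 (R.ρ a0 (p t)) := (zz_add _ _).symm
      _ = _ := by rw [e, zero_add]
  have hvX : v ∈ X :=
    ⟨R.mem_fix.mpr (hv x hx.1 hx.2), R.mem_fix.mpr (hv y hy.1 hy.2)⟩
  rw [← hsum]
  exact Rep.mem_of_dim_two hdim hptX hat (I.pt_ne B) hat0 hne1.symm hvX

end In

end Cfsg.Agent.S3284Inside23
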