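import Cfsg.Agent.Lib.S3284Group23

/-!
# The eight-dimensional orthogonal module of `H0` (for S3284)
-/

set_option autoImplicit false

namespace Cfsg.Agent.S3284Model23

open Cfsg.Agent.S3284Group23
open Equiv (Perm swap)

/-- A faithful orthogonal representation of `H0` on an 8-dimensional space. -/
structure Rep (V : Type*) [AddCommGroup V] [Module (ZMod 2) V] where
  q : V → ZMod 2
  b : LinearMap.BilinForm (ZMod 2) V
  polar : ∀ x y, q (x + y) = q x + q y + b x y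
  nondeg : ∀ x, (∀ y, b x y = 0) → x = 0
  ρ : A3 → Module.End (ZMod 2) V
  hone : ρ 1 = 1
  hmul : ∀ h ∈ H0, ∀ k ∈ H0, ρ (h * k) = ρ h * ρ k
  hq : ∀ h ∈ H0, ∀ v, q (ρ h v) = q v
  faith : ∀ h ∈ H0, ρ h = 1 → h = 1
  dim : Module.finrank (ZMod 2) V = 8

/-- `σ ↦ (1, σ)`. -/
abbrev ι (σ : Perm (Fin 6)) : A3 := (1, σ)

theorem ι_mul (σ τ : Perm (Fin 6)) : ι (σ * τ) = ι σ * ι τ := Prod.ext (mul_one _).symm rfl

theorem ι_inv (σ : Perm (Fin 6)) : ι σ⁻¹ = (ι σ)⁻¹ := Prod.ext inv_one.symm rfl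

def c1 : Perm (Fin 6) := swap 0 1 * swap 1 2

def c2 : Perm (Fin 6) := swap 3 4 * swap 4 5

def x9 : Perm (Fin 6) := swap 0 1 * swap 3 4

def sg : Fin 4 → Perm (Fin 6) := ![c1, c2, c1 * c2, c1 * (c2 * c2)]

theorem sg_facts : ∀ k, Perm.sign (sg k) = 1 ∧ sg k * (sg k * sg k) = 1 ∧ sg k ≠ 1 ∧
    x9 * sg k * x9 = sg k * sg k ∧ c1 * sg k = sg k * c1 ∧ c2 * sg k = sg k * c2 := by
  decide +kernel

theorem sg_gen : ∀ i j, i ≠ j → (∃ m n : Fin 3, sg i ^ m.1 * sg j ^ n.1 = c1) ∧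
    ∃ m n : Fin 3, sg i ^ m.1 * sg j ^ n.1 = c2 := by
  decide +kernel

theorem x9_facts : Perm.sign x9 = 1 ∧ x9 * x9 = 1 ∧ x9 ≠ 1 := by decide +kernel

theorem c1_sign : Perm.sign c1 = 1 := (sg_facts 0).1
theorem c2_sign : Perm.sign c2 = 1 := (sg_facts 1).1

theorem cube_mem {h : A3} (h3 : h * (h * h) = 1) : h⁻¹ = h * h :=
  inv_eq_of_mul_eq_one_right h3

namespace Rep

variable {V : Type*} [AddCommGroup V] [Module (ZMod 2) V] (R : Rep V)
include R

theorem findim : Module.Finite (ZMod 2) V :=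
  Module.finite_of_finrank_pos (by rw [R.dim]; norm_num)

theorem act_mul {h k : A3} (hh : h ∈ H0) (hk : k ∈ H0) (v : V) :
    R.ρ (h * k) v = R.ρ h (R.ρ k v) := by rw [R.hmul h hh k hk]; rfl

theorem act_one (v : V) : R.ρ 1 v = v := by rw [R.hone]; rfl

theorem act_inv {h : A3} (hh : h ∈ H0) (v : V) : R.ρ h⁻¹ (R.ρ h v) = v := by
  rw [← R.act_mul (H0.inv_mem hh) hh, inv_mul_cancel, R.act_one]

theorem act_inv' {h : A3} (hh : h ∈ H0) (v : V) : R.ρ h (R.ρ h⁻¹ v) = v := by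
  rw [← R.act_mul hh (H0.inv_mem hh), mul_inv_cancel, R.act_one]

theorem act_inj {h : A3} (hh : h ∈ H0) : Function.Injective (R.ρ h) :=
  Function.LeftInverse.injective (R.act_inv hh)

theorem act_inv2 {h : A3} (hh : h ∈ H0) (h2 : h * h = 1) (v : V) : R.ρ h (R.ρ h v) = v := by
  rw [← R.act_mul hh hh, h2, R.act_one]

theorem act_comm {h k : A3} (hh : h ∈ H0) (hk : k ∈ H0) (e : h * k = k * h) (v : V) :
    R.ρ h (R.ρ k v) = R.ρ k (R.ρ h v) := by
  rw [← R.act_mul hh hk, e, R.act_mul hk hh]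

theorem b_act {h : A3} (hh : h ∈ H0) (v w : V) : R.b (R.ρ h v) (R.ρ h w) = R.b v w := by
  have e := R.polar (R.ρ h v) (R.ρ h w)
  rw [← map_add, R.hq h hh, R.hq h hh, R.hq h hh, R.polar v w] at e
  exact (add_left_cancel e).symm

theorem b_symm (v w : V) : R.b v w = R.b w v := by
  have e := R.polar v w
  rw [add_comm, R.polar w v, add_comm (R.q w)] at e
  exact (add_left_cancel e).symm

theorem q_zero : R.q 0 = 0 := by
  have e := R.polar 0 0
  simp only [add_zero, map_zero, LinearMap.zero_apply] at e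
  exact add_eq_left.mp e.symm

theorem b_self (v : V) : R.b v v = 0 := by
  have e := R.polar v v
  rw [ZModModule.add_self, R.q_zero] at e
  have h2 : R.q v + R.q v = 0 := ZModModule.add_self _
  rw [h2, zero_add] at e
  exact e.symm

theorem b_adj {h : A3} (hh : h ∈ H0) (v w : V) : R.b (R.ρ h v) w = R.b v (R.ρ h⁻¹ w) := by
  have e := R.b_act hh v (R.ρ h⁻¹ w)
  rwa [R.act_inv' hh] at e

theorem b_nondeg : R.b.Nondegenerate :=
  ⟨fun v hv => R.nondeg v hv, fun w hw => R.nondeg w fun v => (R.b_symm w v).trans (hw v)⟩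

theorem b_refl : R.b.IsRefl := fun v w h => (R.b_symm w v).trans h

/-- Fixed space. -/
def fix (h : A3) : Submodule (ZMod 2) V := LinearMap.ker (R.ρ h + 1)

/-- Commutator space. -/
def rng (h : A3) : Submodule (ZMod 2) V := LinearMap.range (R.ρ h + 1)

theorem mem_fix {h : A3} {v : V} : v ∈ R.fix h ↔ R.ρ h v = v := by
  show R.ρ h v + v = 0 ↔ _
  constructor
  · intro e
    calc R.ρ h v = R.ρ h v + (v + v) := by rw [ZModModule.add_self, add_zero]
      _ = v := by rw [← add_assoc, e, zero_add]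
  · intro e; rw [e, ZModModule.add_self]

theorem mem_rng {h : A3} {w : V} : w ∈ R.rng h ↔ ∃ v, R.ρ h v + v = w := Iff.rfl

theorem finrank_rng_add_fix (h : A3) :
    Module.finrank (ZMod 2) (R.rng h) + Module.finrank (ZMod 2) (R.fix h) = 8 := by
  haveI := R.findim
  rw [← R.dim]
  exact LinearMap.finrank_range_add_finrank_ker (R.ρ h + 1)

theorem rng_le_fix {h : A3} (hh : h ∈ H0) (h2 : h * h = 1) : R.rng h ≤ R.fix h := by
  rintro _ ⟨v, rfl⟩
  rw [R.mem_fix]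
  show R.ρ h (R.ρ h v + v) = R.ρ h v + v
  rw [map_add, R.act_inv2 hh h2, add_comm]

theorem b_rng_fix {h : A3} (hh : h ∈ H0) (h2 : h * h = 1) {w c : V} (hw : w ∈ R.rng h)
    (hc : c ∈ R.fix h) : R.b w c = 0 := by
  obtain ⟨v, rfl⟩ := hw
  show R.b (R.ρ h v + v) c = 0
  rw [map_add, LinearMap.add_apply, R.b_adj hh, inv_eq_of_mul_eq_one_right h2, R.mem_fix.mp hc,
    ZModModule.add_self]

/-- The orthogonal complement of the fixed space of an involution is its commutator space. -/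
theorem mem_rng_of_perp {h : A3} (hh : h ∈ H0) (h2 : h * h = 1) {w : V}
    (hw : ∀ c ∈ R.fix h, R.b w c = 0) : w ∈ R.rng h := by
  haveI := R.findim
  have hle : R.rng h ≤ R.b.orthogonal (R.fix h) := fun v hv c hc =>
    (R.b_symm c v).trans (R.b_rng_fix hh h2 hv hc)
  have heq : R.rng h = R.b.orthogonal (R.fix h) := by
    refine Submodule.eq_of_le_of_finrank_le hle ?_
    rw [LinearMap.BilinForm.finrank_orthogonal R.b_nondeg, R.dim]
    have := R.finrank_rng_add_fix h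
    omega
  rw [heq]
  exact fun c hc => (R.b_symm c w).trans (hw c hc)

/-- An invariant subspace. -/
def Inv (h : A3) (X : Submodule (ZMod 2) V) : Prop := ∀ v ∈ X, R.ρ h v ∈ X

theorem even_dim {h : A3} (hh : h ∈ H0) (h3 : h * (h * h) = 1) {X : Submodule (ZMod 2) V}
    (hX : R.Inv h X) (hfree : ∀ v ∈ X, R.ρ h v = v → v = 0) :
    Even (Module.finrank (ZMod 2) X) := by
  classical
  haveI := R.findim
  haveI : Finite V := Module.finite_of_finite (ZMod 2)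
  letI : Fintype X := Fintype.ofFinite X
  haveI : Fact (Nat.Prime 3) := ⟨by norm_num⟩
  let f : Function.End X := fun v => ⟨R.ρ h v, hX v v.2⟩
  have hf : f ^ 3 ^ 1 = 1 := by
    funext v
    apply Subtype.ext
    show R.ρ h (R.ρ h (R.ρ h v)) = v
    rw [← R.act_mul hh hh, ← R.act_mul (H0.mul_mem hh hh) hh, mul_assoc, h3, R.act_one]
  have h1 := Equiv.Perm.card_fixedPoints_modEq hf
  have hfix : Function.fixedPoints f = {0} := by
    ext v
    simp only [Set.mem_singleton_iff]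
    constructor
    · intro hv
      exact Subtype.ext (hfree v v.2 (congrArg Subtype.val hv))
    · rintro rfl
      exact Subtype.ext (map_zero (R.ρ h))
  have c1' : Fintype.card (Function.fixedPoints f) = 1 := by
    rw [← Nat.card_eq_fintype_card, Nat.card_coe_set_eq, hfix, Set.ncard_singleton]
  have c2' : Fintype.card X = 2 ^ Module.finrank (ZMod 2) X := by
    rw [← Nat.card_eq_fintype_card, Module.natCard_eq_pow_finrank (K := ZMod 2), Nat.card_zmod]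
  rw [c2', c1'] at h1
  by_contra hodd
  obtain ⟨m, hm⟩ := Nat.not_even_iff_odd.mp hodd
  unfold Nat.ModEq at h1
  rw [hm, pow_succ, pow_mul, Nat.mul_mod, Nat.pow_mod] at h1
  norm_num at h1

theorem finrank_split {X : Submodule (ZMod 2) V} (f : Module.End (ZMod 2) V) :
    Module.finrank (ZMod 2) (X.map f) + Module.finrank (ZMod 2) (X ⊓ LinearMap.ker f : Submodule _ V) =
      Module.finrank (ZMod 2) X := by
  haveI := R.findim
  have h := LinearMap.finrank_range_add_finrank_ker (f.domRestrict X)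
  have e : LinearMap.range (f.domRestrict X) = X.map f := by
    ext w
    exact ⟨fun ⟨⟨v, hv⟩, e⟩ => ⟨v, hv, e⟩, fun ⟨v, hv, e⟩ => ⟨⟨v, hv⟩, e⟩⟩
  have e2 : LinearMap.ker (f.domRestrict X) = (X ⊓ LinearMap.ker f).comap X.subtype := by
    ext ⟨v, hv⟩
    exact ⟨fun e => ⟨hv, e⟩, fun e => e.2⟩
  rw [e, e2, LinearEquiv.finrank_eq (Submodule.comapSubtypeEquivOfLe inf_le_left)] at h
  exact h

theorem half_le {h : A3} (hh : h ∈ H0) (h2 : h * h = 1) {X : Submodule (ZMod 2) V}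
    (hX : R.Inv h X) : Module.finrank (ZMod 2) X ≤
      2 * Module.finrank (ZMod 2) (X ⊓ R.fix h : Submodule _ V) := by
  haveI := R.findim
  have h1 := R.finrank_split (X := X) (R.ρ h + 1)
  have h3 : X.map (R.ρ h + 1) ≤ X ⊓ R.fix h := by
    rintro _ ⟨v, hv, rfl⟩
    exact ⟨X.add_mem (hX v hv) hv, R.rng_le_fix hh h2 ⟨v, rfl⟩⟩
  have h4 := Submodule.finrank_mono h3
  show _ ≤ 2 * Module.finrank (ZMod 2) (X ⊓ LinearMap.ker (R.ρ h + 1) : Submodule _ V)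
  have h5 : Module.finrank (ZMod 2) (X ⊓ R.fix h : Submodule _ V) =
    Module.finrank (ZMod 2) (X ⊓ LinearMap.ker (R.ρ h + 1) : Submodule _ V) := rfl
  omega

/-! ### The element `a0` -/

theorem a0_H0 : a0 ∈ H0 := Hin_le a0_mem

omit R in
theorem a0_three : a0 * (a0 * a0) = 1 := by rw [← a0_cube, pow_succ, pow_two, mul_assoc]

theorem a_comm {h : A3} (hh : h ∈ Hin) (v : V) : R.ρ a0 (R.ρ h v) = R.ρ h (R.ρ a0 v) :=
  R.act_comm R.a0_H0 (Hin_le hh) (a0_comm hh) v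

theorem outer_a {h : A3} (hh : h ∈ H0) (hn : h ∉ Hin) (v : V) :
    R.ρ h (R.ρ a0 v) = R.ρ a0 (R.ρ a0 (R.ρ h v)) := by
  have e : h * a0 = a0 * a0 * h := mul_inv_eq_iff_eq_mul.mp (outer_inverts hh hn).1
  rw [← R.act_mul hh R.a0_H0, e, R.act_mul (H0.mul_mem R.a0_H0 R.a0_H0) hh,
    R.act_mul R.a0_H0 R.a0_H0]

theorem a_sum_fix (v : V) : R.ρ a0 (v + R.ρ a0 v + R.ρ a0 (R.ρ a0 v)) =
    v + R.ρ a0 v + R.ρ a0 (R.ρ a0 v) := by
  rw [map_add, map_add, ← R.act_mul R.a0_H0 R.a0_H0,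
    ← R.act_mul R.a0_H0 (H0.mul_mem R.a0_H0 R.a0_H0), a0_three, R.act_one]
  abel

theorem a_inv_fix {h : A3} (hh : h ∈ Hin) : R.Inv a0 (R.fix h) := fun v hv => by
  rw [R.mem_fix] at hv ⊢
  rw [← R.a_comm hh, hv]

theorem a_inv_rng {h : A3} (hh : h ∈ Hin) : R.Inv a0 (R.rng h) := by
  rintro _ ⟨v, rfl⟩
  refine ⟨R.ρ a0 v, ?_⟩
  show R.ρ h (R.ρ a0 v) + R.ρ a0 v = R.ρ a0 (R.ρ h v + v)
  rw [map_add, R.a_comm hh]

/-- An outer involution fixes exactly half of an invariant subspace free for `a0`. -/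
theorem outer_half {h : A3} (hh : h ∈ H0) (hn : h ∉ Hin) (h2 : h * h = 1)
    {X : Submodule (ZMod 2) V} (hX : R.Inv h X) (hXa : R.Inv a0 X)
    (hfree : ∀ v ∈ X, R.ρ a0 v = v → v = 0) :
    2 * Module.finrank (ZMod 2) (X ⊓ R.fix h : Submodule _ V) = Module.finrank (ZMod 2) X := by
  haveI := R.findim
  have h1 := R.half_le hh h2 hX
  set F : Submodule (ZMod 2) V := X ⊓ R.fix h
  have hinf : F ⊓ F.map (R.ρ a0) = ⊥ := by
    rw [Submodule.eq_bot_iff]
    rintro _ ⟨h3, w, ⟨hw, hwf⟩, rfl⟩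
    have e1 := R.mem_fix.mp h3.2
    rw [R.outer_a hh hn, R.mem_fix.mp hwf] at e1
    have e2 : R.ρ a0 w = w := R.act_inj R.a0_H0 e1
    rw [hfree w hw e2, map_zero]
  have h4 := Submodule.finrank_sup_add_finrank_inf_eq F (F.map (R.ρ a0))
  rw [hinf, finrank_bot, add_zero] at h4
  have h5 : F ⊔ F.map (R.ρ a0) ≤ X := sup_le inf_le_left (by
    rintro _ ⟨w, hw, rfl⟩
    exact hXa w hw.1)
  have h6 := Submodule.finrank_mono h5
  have h7 : Module.finrank (ZMod 2) (F.map (R.ρ a0)) = Module.finrank (ZMod 2) F :=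
    (LinearEquiv.finrank_eq (Submodule.equivMapOfInjective _ (R.act_inj R.a0_H0) F)).symm
  omega

/-- Invariance under the alternating factor. -/
def InvA (X : Submodule (ZMod 2) V) : Prop :=
  ∀ σ : Perm (Fin 6), Perm.sign σ = 1 → R.Inv (ι σ) X

/-- The alternating factor is trivial on `X`. -/
def TrivA (X : Submodule (ZMod 2) V) : Prop :=
  ∀ σ : Perm (Fin 6), Perm.sign σ = 1 → ∀ v ∈ X, R.ρ (ι σ) v = v

theorem ι_mem {σ : Perm (Fin 6)} (hσ : Perm.sign σ = 1) : ι σ ∈ H0 := one_mem_H0 hσ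

theorem ι_act_mul {σ τ : Perm (Fin 6)} (hσ : Perm.sign σ = 1) (hτ : Perm.sign τ = 1) (v : V) :
    R.ρ (ι (σ * τ)) v = R.ρ (ι σ) (R.ρ (ι τ) v) := by
  rw [ι_mul, R.act_mul (R.ι_mem hσ) (R.ι_mem hτ)]

theorem ι_one (v : V) : R.ρ (ι 1) v = v := R.act_one v

theorem ι_cube {σ : Perm (Fin 6)} (hσ : Perm.sign σ = 1) (h3 : σ * (σ * σ) = 1) (v : V) :
    R.ρ (ι σ) (R.ρ (ι σ) (R.ρ (ι σ) v)) = v := by
  rw [← R.ι_act_mul hσ hσ, ← R.ι_act_mul (by simp [hσ]) hσ, mul_assoc, h3, R.ι_one]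

/-- The stabilizer of a vector in the alternating group. -/
def stab (v : V) : Subgroup (alternatingGroup (Fin 6)) where
  carrier := {σ | R.ρ (ι σ.1) v = v}
  one_mem' := R.ι_one v
  mul_mem' {σ τ} hσ hτ := by
    show R.ρ (ι (σ.1 * τ.1)) v = v
    rw [R.ι_act_mul σ.2 τ.2, hτ, hσ]
  inv_mem' {σ} hσ := by
    show R.ρ (ι σ.1⁻¹) v = v
    have e : R.ρ (ι σ.1) v = v := hσ
    conv_lhs => rw [← e]
    rw [← R.ι_act_mul (by simp [Perm.sign_inv, show Perm.sign σ.1 = 1 from σ.2]) σ.2,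
      inv_mul_cancel, R.ι_one]

theorem triv_of_one {X : Submodule (ZMod 2) V} (hX : R.InvA X) {σ : Perm (Fin 6)}
    (hσ : Perm.sign σ = 1) (h1 : σ ≠ 1) (ht : ∀ v ∈ X, R.ρ (ι σ) v = v) : R.TrivA X := by
  haveI : IsSimpleGroup (alternatingGroup (Fin 6)) := alternatingGroup.isSimpleGroup (by simp)
  let K : Subgroup (alternatingGroup (Fin 6)) := ⨅ v : X, R.stab v
  have hn : K.Normal := ⟨fun k hk g => by
    rw [Subgroup.mem_iInf] at hk ⊢
    intro v
    show R.ρ (ι (g.1 * k.1 * g.1⁻¹)) v = v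
    have hg' : Perm.sign g.1⁻¹ = 1 := by simp [show Perm.sign g.1 = 1 from g.2]
    rw [R.ι_act_mul ((alternatingGroup _).mul_mem g.2 k.2) hg', R.ι_act_mul g.2 k.2]
    have e : R.ρ (ι k.1) (R.ρ (ι g.1⁻¹) v) = R.ρ (ι g.1⁻¹) v := hk ⟨_, hX _ hg' v v.2⟩
    rw [e, ← R.ι_act_mul g.2 hg', mul_inv_cancel, R.ι_one]⟩
  rcases hn.eq_bot_or_eq_top with e | e
  · have : (⟨σ, hσ⟩ : alternatingGroup (Fin 6)) ∈ K :=
      Subgroup.mem_iInf.mpr fun v => ht v v.2
    rw [e, Subgroup.mem_bot] at this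
    exact absurd (congrArg Subtype.val this) h1
  · intro τ hτ v hv
    have : (⟨τ, hτ⟩ : alternatingGroup (Fin 6)) ∈ K := e ▸ Subgroup.mem_top _
    exact Subgroup.mem_iInf.mp this ⟨v, hv⟩

/-! ### The decomposition under the Sylow 3-subgroup of the alternating factor -/

/-- The projection `1 + σ + σ²`. -/
def eo (σ : Perm (Fin 6)) : Module.End (ZMod 2) V :=
  1 + R.ρ (ι σ) + R.ρ (ι σ) * R.ρ (ι σ)

theorem eo_apply (σ : Perm (Fin 6)) (v : V) :
    R.eo σ v = v + R.ρ (ι σ) v + R.ρ (ι σ) (R.ρ (ι σ) v) := rfl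

theorem eo_fix {σ : Perm (Fin 6)} (hσ : Perm.sign σ = 1) (h3 : σ * (σ * σ) = 1) (v : V) :
    R.ρ (ι σ) (R.eo σ v) = R.eo σ v := by
  have hs : Perm.sign (σ * σ) = 1 := by simp [hσ]
  rw [eo_apply, map_add, map_add, ← R.ι_act_mul hσ hσ, ← R.ι_act_mul hσ hs, h3, R.ι_one]
  abel

theorem eo_self {σ : Perm (Fin 6)} {v : V} (hv : R.ρ (ι σ) v = v) : R.eo σ v = v := by
  rw [eo_apply, hv, hv, ZModModule.add_self, zero_add]

theorem eo_comm {σ τ : Perm (Fin 6)} (hσ : Perm.sign σ = 1) (hτ : Perm.sign τ = 1)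
    (e : τ * σ = σ * τ) (v : V) : R.ρ (ι τ) (R.eo σ v) = R.eo σ (R.ρ (ι τ) v) := by
  have h : ∀ w, R.ρ (ι τ) (R.ρ (ι σ) w) = R.ρ (ι σ) (R.ρ (ι τ) w) := fun w => by
    rw [← R.ι_act_mul hτ hσ, e, R.ι_act_mul hσ hτ]
  simp only [eo_apply, map_add, h]

/-- The projection on the fixed space of the Sylow 3-subgroup. -/
def e0 : Module.End (ZMod 2) V := R.eo c1 * R.eo c2

theorem e0_apply (v : V) : R.e0 v = R.eo c1 (R.eo c2 v) := rfl

omit R in
theorem c_facts : c1 * (c1 * c1) = 1 ∧ c2 * (c2 * c2) = 1 ∧ c2 * c1 = c1 * c2 :=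
  ⟨(sg_facts 0).2.1, (sg_facts 1).2.1, (sg_facts 0).2.2.2.2.2⟩

theorem e0_fix (v : V) : R.ρ (ι c1) (R.e0 v) = R.e0 v ∧ R.ρ (ι c2) (R.e0 v) = R.e0 v := by
  refine ⟨R.eo_fix c1_sign c_facts.1 _, ?_⟩
  rw [e0_apply, R.eo_comm c1_sign c2_sign c_facts.2.2, R.eo_fix c2_sign c_facts.2.1]

theorem e0_c (v : V) : R.e0 (R.ρ (ι c1) v) = R.e0 v ∧ R.e0 (R.ρ (ι c2) v) = R.e0 v := by
  constructor
  · rw [e0_apply, ← R.eo_comm c2_sign c1_sign c_facts.2.2.symm,
      ← R.eo_comm c1_sign c1_sign rfl, R.eo_fix c1_sign c_facts.1]; rfl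
  · rw [e0_apply, ← R.eo_comm c2_sign c2_sign rfl, R.eo_fix c2_sign c_facts.2.1]; rfl

theorem e0_sg (k : Fin 4) (v : V) : R.e0 (R.ρ (ι (sg k)) v) = R.e0 v := by
  have h12 : Perm.sign (c2 * c2) = 1 := by simp [c2_sign]
  fin_cases k
  · exact (R.e0_c v).1
  · exact (R.e0_c v).2
  · show R.e0 (R.ρ (ι (c1 * c2)) v) = _
    rw [R.ι_act_mul c1_sign c2_sign, (R.e0_c _).1, (R.e0_c _).2]
  · show R.e0 (R.ρ (ι (c1 * (c2 * c2))) v) = _
    rw [R.ι_act_mul c1_sign h12, R.ι_act_mul c2_sign c2_sign, (R.e0_c _).1, (R.e0_c _).2,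
      (R.e0_c _).2]

theorem e0_eo (k : Fin 4) (v : V) : R.e0 (R.eo (sg k) v) = R.e0 v := by
  rw [eo_apply, map_add, map_add, R.e0_sg, R.e0_sg, R.e0_sg, ZModModule.add_self, zero_add]

theorem fix_two {i j : Fin 4} (hij : i ≠ j) {v : V} (hi : R.ρ (ι (sg i)) v = v)
    (hj : R.ρ (ι (sg j)) v = v) : R.e0 v = v := by
  have key : ∀ σ : Perm (Fin 6), ∀ hσ : Perm.sign σ = 1,
      (∃ m n : Fin 3, sg i ^ m.1 * sg j ^ n.1 = σ) → R.ρ (ι σ) v = v := by
    rintro σ hσ ⟨m, n, e⟩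
    have h1 : (⟨sg i, (sg_facts i).1⟩ : alternatingGroup (Fin 6)) ∈ R.stab v := hi
    have h2 : (⟨sg j, (sg_facts j).1⟩ : alternatingGroup (Fin 6)) ∈ R.stab v := hj
    have h3 := (R.stab v).mul_mem ((R.stab v).pow_mem h1 m.1) ((R.stab v).pow_mem h2 n.1)
    have h4 : R.ρ (ι (sg i ^ m.1 * sg j ^ n.1)) v = v := h3
    rwa [e] at h4
  rw [e0_apply, R.eo_self (key c2 c2_sign (sg_gen i j hij).2),
    R.eo_self (key c1 c1_sign (sg_gen i j hij).1)]

theorem decomp (v : V) : R.e0 v + ∑ k, (R.eo (sg k) v + R.e0 v) = v := by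
  have h12 : Perm.sign (c2 * c2) = 1 := by simp [c2_sign]
  have hc : ∀ w, R.ρ (ι c2) (R.ρ (ι c1) w) = R.ρ (ι c1) (R.ρ (ι c2) w) := fun w => by
    rw [← R.ι_act_mul c2_sign c1_sign, c_facts.2.2, R.ι_act_mul c1_sign c2_sign]
  have hq1 : ∀ w, R.ρ (ι c2) (R.ρ (ι c2) (R.ρ (ι c2) w)) = w :=
    R.ι_cube c2_sign c_facts.2.1
  have hu : ∀ w, R.ρ (ι (c1 * c2)) w = R.ρ (ι c1) (R.ρ (ι c2) w) :=
    R.ι_act_mul c1_sign c2_sign
  have hw : ∀ w, R.ρ (ι (c1 * (c2 * c2))) w = R.ρ (ι c1) (R.ρ (ι c2) (R.ρ (ι c2) w)) := fun w => by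
    rw [R.ι_act_mul c1_sign h12, R.ι_act_mul c2_sign c2_sign]
  rw [Fin.sum_univ_four]
  show R.e0 v + ((R.eo c1 v + R.e0 v) + (R.eo c2 v + R.e0 v) + (R.eo (c1 * c2) v + R.e0 v) +
    (R.eo (c1 * (c2 * c2)) v + R.e0 v)) = v
  simp only [e0_apply, eo_apply, map_add, hu, hw, hc, hq1]
  abel_nf
  simp [two_smul, ← Nat.cast_smul_eq_nsmul (ZMod 2), ← Int.cast_smul_eq_zsmul (ZMod 2),
    show (2 : ZMod 2) = 0 from rfl, show (4 : ZMod 2) = 0 from rfl, show (5 : ZMod 2) = 1 from rfl,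
    show (3 : ZMod 2) = 1 from rfl, show (6 : ZMod 2) = 0 from rfl, show (9 : ZMod 2) = 1 from rfl]

/-- The eigenspaces. -/
def D (X : Submodule (ZMod 2) V) (k : Fin 4) : Submodule (ZMod 2) V :=
  X ⊓ R.fix (ι (sg k)) ⊓ LinearMap.ker R.e0

/-- The common fixed space. -/
def C0 (X : Submodule (ZMod 2) V) : Submodule (ZMod 2) V :=
  X ⊓ R.fix (ι c1) ⊓ R.fix (ι c2)

theorem mem_D {X : Submodule (ZMod 2) V} {k : Fin 4} {v : V} :
    v ∈ R.D X k ↔ v ∈ X ∧ R.ρ (ι (sg k)) v = v ∧ R.e0 v = 0 := by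
  show (v ∈ X ∧ v ∈ R.fix _) ∧ R.e0 v = 0 ↔ _
  rw [R.mem_fix, and_assoc]

theorem eo_mem {X : Submodule (ZMod 2) V} (hX : R.InvA X) {σ : Perm (Fin 6)}
    (hσ : Perm.sign σ = 1) {v : V} (hv : v ∈ X) : R.eo σ v ∈ X :=
  X.add_mem (X.add_mem hv (hX σ hσ v hv)) (hX σ hσ _ (hX σ hσ v hv))

theorem proj_mem_D {X : Submodule (ZMod 2) V} (hX : R.InvA X) (k : Fin 4) {v : V} (hv : v ∈ X) :
    R.eo (sg k) v + R.e0 v ∈ R.D X k := by
  refine R.mem_D.mpr ⟨X.add_mem (R.eo_mem hX (sg_facts k).1 hv)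
    (R.eo_mem hX c1_sign (R.eo_mem hX c2_sign hv)), ?_, ?_⟩
  · rw [map_add, R.eo_fix (sg_facts k).1 (sg_facts k).2.1]
    congr 1
    have h1 := R.e0_fix v
    fin_cases k
    · exact h1.1
    · exact h1.2
    · show R.ρ (ι (c1 * c2)) _ = _
      rw [R.ι_act_mul c1_sign c2_sign, h1.2, h1.1]
    · show R.ρ (ι (c1 * (c2 * c2))) _ = _
      rw [R.ι_act_mul c1_sign (by simp [c2_sign]), R.ι_act_mul c2_sign c2_sign, h1.2, h1.2, h1.1]
  · have e : R.e0 (R.e0 v) = R.e0 v :=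
      R.fix_two (i := 0) (j := 1) (by decide) (R.e0_fix v).1 (R.e0_fix v).2
    rw [map_add, R.e0_eo, e, ZModModule.add_self]

theorem D_inv_sg {X : Submodule (ZMod 2) V} (hX : R.InvA X) (k j : Fin 4) :
    R.Inv (ι (sg j)) (R.D X k) := by
  intro v hv
  obtain ⟨h1, h2, h3⟩ := R.mem_D.mp hv
  refine R.mem_D.mpr ⟨hX _ (sg_facts j).1 v h1, ?_, by rw [R.e0_sg, h3]⟩
  have e : sg k * sg j = sg j * sg k := by fin_cases k <;> fin_cases j <;> decide +kernel
  rw [← R.ι_act_mul (sg_facts k).1 (sg_facts j).1, e,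
    R.ι_act_mul (sg_facts j).1 (sg_facts k).1, h2]

theorem D_free {X : Submodule (ZMod 2) V} {k j : Fin 4} (hjk : j ≠ k) {v : V}
    (hv : v ∈ R.D X k) (hj : R.ρ (ι (sg j)) v = v) : v = 0 := by
  obtain ⟨-, h2, h3⟩ := R.mem_D.mp hv
  rw [← R.fix_two hjk hj h2, h3]

theorem D_even {X : Submodule (ZMod 2) V} (hX : R.InvA X) (k : Fin 4) :
    Even (Module.finrank (ZMod 2) (R.D X k)) := by
  obtain ⟨j, hj⟩ := exists_ne k
  refine R.even_dim (R.ι_mem (sg_facts j).1) ?_ (R.D_inv_sg hX k j) fun v hv => R.D_free hj hv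
  rw [← ι_mul, ← ι_mul, (sg_facts j).2.1]; rfl

theorem two_D {X : Submodule (ZMod 2) V} (hX : R.InvA X) (hne : ¬ R.TrivA X) :
    ∃ i j, i ≠ j ∧ 2 ≤ Module.finrank (ZMod 2) (R.D X i) ∧
      2 ≤ Module.finrank (ZMod 2) (R.D X j) := by
  haveI := R.findim
  have hpos : ∀ k, R.D X k ≠ ⊥ → 2 ≤ Module.finrank (ZMod 2) (R.D X k) := by
    intro k hk
    have h1 : Module.finrank (ZMod 2) (R.D X k) ≠ 0 := fun e => hk (Submodule.finrank_eq_zero.mp e)
    obtain ⟨m, hm⟩ := R.D_even hX k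
    omega
  by_contra hno
  push Not at hno
  obtain ⟨k, hk⟩ : ∃ k, ∀ j, j ≠ k → R.D X j = ⊥ := by
    by_cases h : ∃ k, R.D X k ≠ ⊥
    · obtain ⟨k, hk⟩ := h
      refine ⟨k, fun j hj => ?_⟩
      by_contra hj'
      have := hno k j hj.symm (hpos k hk)
      have := hpos j hj'
      omega
    · push Not at h
      exact ⟨0, fun j _ => h j⟩
  apply hne
  refine R.triv_of_one hX (sg_facts k).1 (sg_facts k).2.2.1 fun v hv => ?_
  have hterm : ∀ j, j ≠ k → R.eo (sg j) v + R.e0 v = 0 := fun j hj => by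
    have := R.proj_mem_D hX j hv
    rw [hk j hj] at this
    exact this
  have e := R.decomp v
  rw [Finset.sum_eq_single k (fun j _ hj => hterm j hj) (fun h => absurd (Finset.mem_univ k) h),
    ← add_assoc, add_comm (R.e0 v), add_assoc, ZModModule.add_self, add_zero] at e
  rw [← e]
  exact R.eo_fix (sg_facts k).1 (sg_facts k).2.1 v

theorem dim_sum {X : Submodule (ZMod 2) V} :
    Module.finrank (ZMod 2) (R.C0 X) + ∑ k, Module.finrank (ZMod 2) (R.D X k) ≤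
      Module.finrank (ZMod 2) X := by
  haveI := R.findim
  have hCX : ∀ c : R.C0 X, (c : V) ∈ X := fun c => c.2.1.1
  have hDX : ∀ (k : Fin 4) (d : R.D X k), (d : V) ∈ X := fun k d => (R.mem_D.mp d.2).1
  let Φ : (R.C0 X × ((k : Fin 4) → R.D X k)) →ₗ[ZMod 2] X :=
    { toFun := fun p => ⟨(p.1 : V) + ∑ k, ((p.2 k : V)),
        X.add_mem (hCX p.1) (X.sum_mem fun k _ => hDX k _)⟩
      map_add' := fun p p' => Subtype.ext (by
        simp only [Prod.fst_add, Prod.snd_add, Pi.add_apply, Submodule.coe_add,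
          Finset.sum_add_distrib]
        abel)
      map_smul' := fun r p => Subtype.ext (by
        simp only [Prod.smul_fst, Prod.smul_snd, Pi.smul_apply, SetLike.val_smul, RingHom.id_apply,
          ← Finset.smul_sum, smul_add]) }
  have hinj : Function.Injective Φ := by
    rw [← LinearMap.ker_eq_bot, LinearMap.ker_eq_bot']
    rintro ⟨c, d⟩ h
    have h0 : (c : V) + ∑ k, ((d k : V)) = 0 := congrArg Subtype.val h
    have hc0 : (c : V) = 0 := by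
      have e := congrArg R.e0 h0
      have hc : R.e0 (c : V) = c :=
        R.fix_two (i := 0) (j := 1) (by decide) (R.mem_fix.mp c.2.1.2) (R.mem_fix.mp c.2.2)
      simp only [map_add, map_sum, map_zero, hc, (fun k => (R.mem_D.mp (d k).2).2.2),
        Finset.sum_const_zero, add_zero] at e
      exact e
    rw [hc0, zero_add] at h0
    have hd : ∀ k, (d k : V) = 0 := by
      intro k
      have e := congrArg (R.eo (sg k)) h0
      rw [map_sum, map_zero, Finset.sum_eq_single k ?_ (fun h => absurd (Finset.mem_univ k) h),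
        R.eo_self (R.mem_D.mp (d k).2).2.1] at e
      · exact e
      · intro j _ hj
        obtain ⟨-, hj2, hj3⟩ := R.mem_D.mp (d j).2
        have e1 := R.eo_fix (sg_facts k).1 (sg_facts k).2.1 (d j : V)
        have ec : sg j * sg k = sg k * sg j := by fin_cases k <;> fin_cases j <;> decide +kernel
        have e2 : R.ρ (ι (sg j)) (R.eo (sg k) (d j : V)) = R.eo (sg k) (d j : V) := by
          rw [R.eo_comm (sg_facts k).1 (sg_facts j).1 ec, hj2]
        rw [← R.fix_two hj e2 e1, R.e0_eo, hj3]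
    exact Prod.ext (Subtype.ext hc0) (funext fun k => Subtype.ext (hd k))
  have := LinearMap.finrank_le_finrank_of_injective hinj
  rwa [Module.finrank_prod, Module.finrank_pi_fintype] at this

theorem dim_two {X : Submodule (ZMod 2) V} {i j : Fin 4} (hij : i ≠ j) :
    Module.finrank (ZMod 2) (R.C0 X) + Module.finrank (ZMod 2) (R.D X i) +
      Module.finrank (ZMod 2) (R.D X j) ≤ Module.finrank (ZMod 2) X := by
  have h1 := R.dim_sum (X := X)
  have h2 : ∑ k ∈ ({i, j} : Finset (Fin 4)), Module.finrank (ZMod 2) (R.D X k) ≤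
      ∑ k, Module.finrank (ZMod 2) (R.D X k) :=
    Finset.sum_le_sum_of_subset (Finset.subset_univ _)
  rw [Finset.sum_pair hij] at h2
  omega

/-- If `a0` is free on `X`, no eigenspace has dimension two. -/
theorem D_ne_two {X : Submodule (ZMod 2) V} (hX : R.InvA X) (hXa : R.Inv a0 X)
    (hfree : ∀ v ∈ X, R.ρ a0 v = v → v = 0) (k : Fin 4) :
    Module.finrank (ZMod 2) (R.D X k) ≠ 2 := by
  intro h2
  haveI := R.findim
  obtain ⟨hx, hxx, -⟩ := x9_facts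
  have hxH := R.ι_mem hx
  have hxs : ι x9 * ι x9 = 1 := by rw [← ι_mul, hxx]; rfl
  have hxσ : ∀ j v, R.ρ (ι x9) (R.ρ (ι (sg j)) v) =
      R.ρ (ι (sg j)) (R.ρ (ι (sg j)) (R.ρ (ι x9) v)) := by
    intro j v
    obtain ⟨hj, -, -, hje, -, -⟩ := sg_facts j
    have e : x9 * sg j = sg j * sg j * x9 := by
      rw [← hje, mul_assoc _ x9, hxx, mul_one]
    rw [← R.ι_act_mul hx hj, e, R.ι_act_mul (by simp [hj]) hx, R.ι_act_mul hj hj]
  have hxe : ∀ j v, R.ρ (ι x9) (R.eo (sg j) v) = R.eo (sg j) (R.ρ (ι x9) v) := by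
    intro j v
    obtain ⟨hj, hj3, -, -, -, -⟩ := sg_facts j
    have h3 : ∀ w, R.ρ (ι (sg j)) (R.ρ (ι (sg j)) (R.ρ (ι (sg j)) w)) = w := R.ι_cube hj hj3
    simp only [eo_apply, map_add, hxσ, h3]
    abel
  have hDx : R.Inv (ι x9) (R.D X k) := by
    intro v hv
    obtain ⟨v1, v2, v3⟩ := R.mem_D.mp hv
    refine R.mem_D.mpr ⟨hX _ hx v v1, ?_, ?_⟩
    · have e := hxσ k v
      rw [v2] at e
      conv_lhs => rw [e]
      exact R.ι_cube (sg_facts k).1 (sg_facts k).2.1 _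
    · have e1 : R.e0 (R.ρ (ι x9) v) = R.ρ (ι x9) (R.e0 v) := by
        show R.eo (sg 0) (R.eo (sg 1) _) = R.ρ (ι x9) (R.eo (sg 0) (R.eo (sg 1) v))
        rw [hxe, hxe]
      rw [e1, v3, map_zero]
  have hDa : R.Inv a0 (R.D X k) := by
    intro v hv
    obtain ⟨v1, v2, v3⟩ := R.mem_D.mp hv
    refine R.mem_D.mpr ⟨hXa v v1, ?_, ?_⟩
    · rw [← R.a_comm (one_mem_Hin (sg_facts k).1), v2]
    · have : ∀ σ, Perm.sign σ = 1 → ∀ w, R.ρ a0 (R.eo σ w) = R.eo σ (R.ρ a0 w) := fun σ hσ w => by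
        simp only [eo_apply, map_add, R.a_comm (one_mem_Hin hσ)]
      have e1 : R.e0 (R.ρ a0 v) = R.ρ a0 (R.e0 v) := by
        rw [e0_apply, e0_apply, this c1 c1_sign, this c2 c2_sign]
      rw [e1, v3, map_zero]
  have hF : R.Inv a0 (R.D X k ⊓ R.fix (ι x9) : Submodule _ V) := fun v hv =>
    ⟨hDa v hv.1, R.a_inv_fix (one_mem_Hin hx) v hv.2⟩
  have h3 := R.half_le hxH hxs hDx
  obtain ⟨m, hm⟩ := R.even_dim R.a0_H0 a0_three hF fun v hv =>
    hfree v (R.mem_D.mp hv.1).1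
  have heq : R.D X k ⊓ R.fix (ι x9) = R.D X k :=
    Submodule.eq_of_le_of_finrank_le inf_le_left (by omega)
  obtain ⟨j, hj⟩ := exists_ne k
  have hbot : R.D X k = ⊥ := by
    rw [Submodule.eq_bot_iff]
    intro v hv
    refine R.D_free hj hv ?_
    have f1 : ∀ w ∈ R.D X k, R.ρ (ι x9) w = w := fun w hw =>
      R.mem_fix.mp ((heq.symm ▸ hw : w ∈ R.D X k ⊓ R.fix (ι x9)).2)
    have e := hxσ j v
    rw [f1 v hv, f1 _ (R.D_inv_sg hX k j v hv)] at e
    exact (R.act_inj (R.ι_mem (sg_facts j).1) e).symm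
  rw [hbot, finrank_bot] at h2
  omega

theorem triv_of_small {X : Submodule (ZMod 2) V} (hX : R.InvA X) (hXa : R.Inv a0 X)
    (hfree : ∀ v ∈ X, R.ρ a0 v = v → v = 0) (h6 : Module.finrank (ZMod 2) X ≤ 6) :
    R.TrivA X := by
  by_contra hne
  obtain ⟨i, j, hij, hi, hj⟩ := R.two_D hX hne
  have := R.dim_two (X := X) hij
  have := R.D_ne_two hX hXa hfree i
  have := R.D_ne_two hX hXa hfree j
  obtain ⟨m, hm⟩ := R.D_even hX i
  obtain ⟨n, hn⟩ := R.D_even hX j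
  omega

end Rep

end Cfsg.Agent.S3284Model23
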