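import Cfsg.Agent.Lib.S3284Bridge23

/-!
# No conjugate of `z` outside `Q` when `z` is weakly closed in `Q` (for S3284)
-/

set_option autoImplicit false

namespace Cfsg.Agent.S3284Outside23

open Cfsg.Agent.S3284Group23 Cfsg.Agent.S3284Model23 Cfsg.Agent.S3284Setting23
open Cfsg.Agent.LargeExtraspecial

universe u

variable {G : Type u} [Group G] [Finite G]

/-- Two commuting central involutions, neither in the other extraspecial group. -/
structure Out (Q Q' : Subgroup G) (z u : G) (π π' : G → A3) : Prop where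
  S : Sett Q z π
  S' : Sett Q' u π'
  comm : u * z = z * u
  uQ : u ∉ Q
  zQ' : z ∉ Q'
  closed : ∀ q ∈ Q, q * u * q⁻¹ ∈ Q' → q * u * q⁻¹ = u
  closed' : ∀ q ∈ Q', q * z * q⁻¹ ∈ Q → q * z * q⁻¹ = z

namespace Out

variable {Q Q' : Subgroup G} {z u : G} {π π' : G → A3} (O : Out Q Q' z u π π')
include O

theorem symm : Out Q' Q u z π' π :=
  ⟨O.S', O.S, O.comm.symm, O.zQ', O.uQ, O.closed', O.closed⟩

theorem uu : u * u = 1 := O.S'.h.zz

theorem h2 : π u * π u = 1 := by rw [← O.S.mul u u O.comm O.comm, O.uu, O.S.one]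

theorem h_ne : π u ≠ 1 := fun e => O.uQ ((O.S.ker u O.comm).mp e)

/-- `C_Q(u)`. -/
def BU (_O : Out Q Q' z u π π') : Subgroup G := Q ⊓ Subgroup.centralizer ({u} : Set G)

theorem mem_BU {x : G} : x ∈ O.BU ↔ x ∈ Q ∧ x * u = u * x := by
  rw [BU, Subgroup.mem_inf, Subgroup.mem_centralizer_singleton_iff]

/-- The commutator with `u`. -/
def cm (_O : Out Q Q' z u π π') (q : G) : G := q * u * q⁻¹ * u

theorem cm_mem {q : G} (hq : q ∈ Q) : O.cm q ∈ Q := by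
  have h1 := O.S.h.norm u O.comm q⁻¹ (Q.inv_mem hq)
  rw [inv_eq_of_mul_eq_one_right O.uu] at h1
  have e : O.cm q = q * (u * q⁻¹ * u) := by simp [cm, mul_assoc]
  rw [e]; exact Q.mul_mem hq h1

theorem cm_eq_one {q : G} (hq : q ∈ Q) (h : O.cm q ∈ Q') : O.cm q = 1 := by
  have h1 : q * u * q⁻¹ ∈ Q' := by
    have e : q * u * q⁻¹ = O.cm q * u := by
      rw [cm, mul_assoc _ u u, O.uu, mul_one]
    rw [e]; exact Q'.mul_mem h O.S'.h.mem
  rw [cm, O.closed q hq h1, O.uu]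

theorem cm_inverted (q : G) : u * O.cm q * u = (O.cm q)⁻¹ := by
  have hi := inv_eq_of_mul_eq_one_right O.uu
  simp only [cm, mul_inv_rev, inv_inv, hi, mul_assoc, O.uu, mul_one]

theorem cm_mul (x y : G) : O.cm (x * y) = x * O.cm y * x⁻¹ * O.cm x := by
  simp only [cm, mul_assoc, inv_mul_cancel_left, mul_inv_rev]
  rw [← mul_assoc u u, O.uu, one_mul]

theorem card_B : ∀ {X : Subgroup G}, X ≤ O.BU →
    Nat.card X ≤ 16 * Nat.card (X ⊓ Q' : Subgroup G) ∧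
      ((∀ a ∈ X, ∀ b ∈ X, a * b = b * a) → Nat.card X ≤ 8 * Nat.card (X ⊓ Q' : Subgroup G)) := by
  intro X hX
  have hXu : ∀ x ∈ X, x * u = u * x := fun x hx => (O.mem_BU.mp (hX hx)).2
  obtain ⟨A, hA, hmem, hc⟩ := O.S'.exists_image X hXu
  have h2 : IsPGroup 2 X := O.S.h.toExt.isPGroup.to_le (hX.trans inf_le_left)
  have hA2 := O.S'.image_isPGroup hXu hmem h2
  rw [hc]
  exact ⟨Nat.mul_le_mul_right _ (two_card_le hA hA2),
    fun hab => Nat.mul_le_mul_right _ (abelian_two_le hA hA2 (O.S'.image_comm hXu hmem hab))⟩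

variable {V : Type u} [AddCommGroup V] [Module (ZMod 2) V] {R : Rep V} {p : G → V}
  (B : Bridge Q z π R p)
include B

theorem p_cm {q : G} (hq : q ∈ Q) : p (O.cm q) = R.ρ (π u) (p q) + p q := by
  have hi := inv_eq_of_mul_eq_one_right O.uu
  have e : O.cm q = q * (u * q⁻¹ * u⁻¹) := by simp [cm, hi, mul_assoc]
  rw [e, B.map_mul q hq _ (O.S.h.norm u O.comm _ (Q.inv_mem hq)), B.act u O.comm _ (Q.inv_mem hq),
    B.map_inv hq, add_comm]

theorem K_facts {k : G} (hk : k ∈ Q) (hk' : k ∈ Q') :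
    k * k = 1 ∧ k ∈ O.BU ∧ p k ∈ R.fix (π u) ∧ ∀ b ∈ O.BU, b * k = k * b := by
  have hB : k ∈ O.BU := O.mem_BU.mpr ⟨hk, O.S'.h.comm k hk'⟩
  refine ⟨?_, hB, ?_, ?_⟩
  · rcases O.S.h.sq k hk with e | e
    · exact e
    · exact absurd (e ▸ Q'.mul_mem hk' hk') O.zQ'
  · rw [R.mem_fix, ← B.act u O.comm k hk, ← (O.mem_BU.mp hB).2, mul_inv_cancel_right]
  · intro b hb
    obtain ⟨hbQ, hbu⟩ := O.mem_BU.mp hb
    rcases O.S.h.conj b hbQ k hk with e | e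
    · exact mul_inv_eq_iff_eq_mul.mp e
    · exfalso
      apply O.zQ'
      have h1 : b * k * b⁻¹ * k⁻¹ ∈ Q' := Q'.mul_mem (O.S'.h.norm b hbu k hk') (Q'.inv_mem hk')
      rwa [e, mul_inv_cancel_right] at h1

theorem rng_perp {v w : V} (hv : v ∈ R.rng (π u)) (hw : w ∈ R.fix (π u)) : R.b v w = 0 :=
  R.b_rng_fix (O.S.img u O.comm) O.h2 hv hw

theorem cm_of_rng {j : G} (hj : j ∈ Q) (hp : p j ∈ R.rng (π u)) :
    ∃ q ∈ Q, j = O.cm q ∨ j = O.cm q * z := by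
  obtain ⟨v, hv⟩ := hp
  obtain ⟨q, hq, rfl⟩ := B.surj v
  refine ⟨q, hq, (B.eq_iff O.S.h.mem (O.cm_mem hq) hj).mp ?_⟩
  rw [O.p_cm B hq]; exact hv

/-- No commutator equals `z`. -/
theorem cm_ne_z {q₀ : G} (hq₀ : q₀ ∈ Q) : O.cm q₀ ≠ z := by
  intro h0
  haveI := R.findim
  have hz := O.S.h.mem
  have hi := inv_eq_of_mul_eq_one_right O.uu
  have hp0 : p q₀ ∈ R.fix (π u) := by
    have e := O.p_cm B hq₀
    rw [h0, B.map_z hz] at e
    exact e.symm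
  -- elements over the fixed space
  have hC : ∀ q ∈ B.pre (R.fix (π u)), O.cm q = 1 ∨ O.cm q = z := by
    intro q hq
    refine (B.eq_zero _ (O.cm_mem hq.1)).mp ?_
    rw [O.p_cm B hq.1, R.mem_fix.mp hq.2, ZModModule.add_self]
  have hB : ∀ q ∈ Q, O.cm q = 1 → q ∈ O.BU := by
    intro q hq e
    refine O.mem_BU.mpr ⟨hq, ?_⟩
    have e1 : q * u * q⁻¹ = u := by
      calc q * u * q⁻¹ = O.cm q * u := by rw [cm, mul_assoc _ u u, O.uu, mul_one]
        _ = u := by rw [e, one_mul]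
    exact mul_inv_eq_iff_eq_mul.mp e1
  have hcov : ∀ X ≤ B.pre (R.fix (π u)), ∀ j ∈ B.pre (R.fix (π u)), O.cm j = z →
      ∀ q ∈ X, q ∈ O.BU ∨ j * q ∈ O.BU := by
    intro X hX j hj hjz q hq
    rcases hC q (hX hq) with e | e
    · exact Or.inl (hB q (hX hq).1 e)
    · refine Or.inr (hB _ (Q.mul_mem hj.1 (hX hq).1) ?_)
      rw [O.cm_mul, e, hjz, O.S.h.comm j hj.1, mul_inv_cancel_right, O.S.h.zz]
  have hhalf : ∀ X ≤ B.pre (R.fix (π u)), Nat.card X ≤ 2 * Nat.card (X ⊓ O.BU : Subgroup G) := by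
    intro X hX
    by_cases hall : X ≤ O.BU
    · rw [inf_eq_left.mpr hall]; omega
    obtain ⟨j, hjX, hjB⟩ := SetLike.not_le_iff_exists.mp hall
    have hjz : O.cm j = z := (hC j (hX hjX)).resolve_left fun e => hjB (hB j (hX hjX).1 e)
    have hsub : (X : Set G) ⊆ ((X ⊓ O.BU : Subgroup G) : Set G) ∪
        (fun x => j⁻¹ * x) '' ((X ⊓ O.BU : Subgroup G) : Set G) := by
      intro q hq
      rcases hcov X hX j (hX hjX) hjz q hq with h | h
      · exact Or.inl ⟨hq, h⟩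
      · exact Or.inr ⟨j * q, ⟨X.mul_mem hjX hq, h⟩, by simp⟩
    have h1 := Set.ncard_le_ncard hsub (Set.toFinite _)
    have h2 := Set.ncard_union_le ((X ⊓ O.BU : Subgroup G) : Set G)
      ((fun x => j⁻¹ * x) '' ((X ⊓ O.BU : Subgroup G) : Set G))
    have h3 := Set.ncard_image_le (f := fun x => j⁻¹ * x)
      (Set.toFinite ((X ⊓ O.BU : Subgroup G) : Set G))
    simp only [← Nat.card_coe_set_eq, SetLike.coe_sort_coe] at h1 h2 h3
    omega
  -- commutator space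
  set J := B.pre (R.rng (π u)) with hJ
  have hJC : J ≤ B.pre (R.fix (π u)) := fun x hx =>
    ⟨hx.1, R.rng_le_fix (O.S.img u O.comm) O.h2 hx.2⟩
  have hJab : ∀ a ∈ J, ∀ b ∈ J, a * b = b * a := fun a ha b hb =>
    (B.comm a ha.1 b hb.1).mp (O.rng_perp B ha.2 (hJC hb).2)
  have hJQ : ∀ j ∈ J, j ∈ Q' → j = 1 := by
    intro j hj hj'
    obtain ⟨q, hq, e | e⟩ := O.cm_of_rng B hj.1 hj.2
    · subst e; exact O.cm_eq_one hq hj'
    · have e2 : O.cm (q₀ * q) = j := by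
        rw [O.cm_mul, h0, e]
        have : Commute q₀ (O.cm q) := by
          refine (B.comm q₀ hq₀ _ (O.cm_mem hq)).mp ?_
          rw [R.b_symm]
          refine O.rng_perp B ?_ hp0
          rw [O.p_cm B hq]; exact ⟨p q, rfl⟩
        rw [this.eq, mul_inv_cancel_right]
      rw [← e2] at hj' ⊢
      exact O.cm_eq_one (Q.mul_mem hq₀ hq) hj'
  have hJB := O.card_B (X := J ⊓ O.BU) inf_le_right
  have hbot : (J ⊓ O.BU) ⊓ Q' = ⊥ := by
    rw [Subgroup.eq_bot_iff_forall]; exact fun x hx => hJQ x hx.1.1 hx.2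
  rw [hbot, Subgroup.card_bot, mul_one, mul_one] at hJB
  have h8 := hJB.2 fun a ha b hb => hJab a ha.1 b hb.1
  have hJhalf := hhalf J hJC
  rw [hJ, B.card_pre hz O.S.h.ne_one] at hJhalf
  rw [hJ] at h8
  have hr : Module.finrank (ZMod 2) (R.rng (π u)) ≤ 3 := by
    by_contra hc
    have := Nat.pow_le_pow_right (show 0 < 2 by norm_num)
      (show 5 ≤ Module.finrank (ZMod 2) (R.rng (π u)) + 1 by omega)
    omega
  have hsum := R.finrank_rng_add_fix (π u)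
  have hBle := hhalf (B.pre (R.fix (π u))) le_rfl
  rw [B.card_pre hz O.S.h.ne_one] at hBle
  have hBK := (O.card_B (X := B.pre (R.fix (π u)) ⊓ O.BU) inf_le_right).1
  -- a non-trivial element of the intersection
  obtain ⟨k, hk, hk', hk1⟩ : ∃ k ∈ Q, k ∈ Q' ∧ k ≠ 1 := by
    by_contra hno
    push Not at hno
    have : (B.pre (R.fix (π u)) ⊓ O.BU) ⊓ Q' = ⊥ := by
      rw [Subgroup.eq_bot_iff_forall]; exact fun x hx => hno x hx.1.1.1 hx.2
    rw [this, Subgroup.card_bot, mul_one] at hBK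
    have := Nat.pow_le_pow_right (show 0 < 2 by norm_num)
      (show 6 ≤ Module.finrank (ZMod 2) (R.fix (π u)) + 1 by omega)
    omega
  have hnotperp : ∀ k ∈ Q, k ∈ Q' → k ≠ 1 →
      ∀ j ∈ B.pre (R.fix (π u)), O.cm j = z → ¬ j * k = k * j := by
    intro k hk hk' hk1 j hj hjz hcomm
    obtain ⟨-, -, hkC, hkB⟩ := O.K_facts B hk hk'
    apply hk1
    refine hJQ k ⟨hk, R.mem_rng_of_perp (O.S.img u O.comm) O.h2 fun c hc => ?_⟩ hk'
    obtain ⟨q, hq, rfl⟩ := B.surj c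
    rw [B.comm k hk q hq]
    rcases hcov _ le_rfl j hj hjz q ⟨hq, hc⟩ with h | h
    · exact (hkB q h).symm
    · have e1 : Commute k (j * q) := (hkB _ h).symm
      have e2 : Commute k (j⁻¹ * (j * q)) := (Commute.inv_right hcomm.symm).mul_right e1
      rwa [inv_mul_cancel_left] at e2
  have hJsub : J ≤ O.BU := by
    intro j hj
    rcases hC j (hJC hj) with e | e
    · exact hB j hj.1 e
    · refine absurd ?_ (hnotperp k hk hk' hk1 j (hJC hj) e)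
      exact (B.comm j hj.1 k hk).mp (O.rng_perp B hj.2 (O.K_facts B hk hk').2.2.1)
  have hJ8 := (O.card_B (X := J) hJsub).2 hJab
  have hbot' : J ⊓ Q' = ⊥ := by
    rw [Subgroup.eq_bot_iff_forall]; exact fun x hx => hJQ x hx.1 hx.2
  rw [hbot', Subgroup.card_bot, hJ, B.card_pre hz O.S.h.ne_one] at hJ8
  have hr2 : Module.finrank (ZMod 2) (R.rng (π u)) ≤ 2 := by
    by_contra hc
    have := Nat.pow_le_pow_right (show 0 < 2 by norm_num)
      (show 4 ≤ Module.finrank (ZMod 2) (R.rng (π u)) + 1 by omega)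
    omega
  have hK2 : Nat.card ((B.pre (R.fix (π u)) ⊓ O.BU) ⊓ Q' : Subgroup G) ≤ 2 := by
    have hsub : (((B.pre (R.fix (π u)) ⊓ O.BU) ⊓ Q' : Subgroup G) : Set G) ⊆ {1, k} := by
      intro x hx
      by_contra hne
      simp only [Set.mem_insert_iff, Set.mem_singleton_iff, not_or] at hne
      have hj : q₀ ∈ B.pre (R.fix (π u)) := ⟨hq₀, hp0⟩
      have m1 := (O.S.h.not_comm_iff hk hq₀).mp (hnotperp k hk hk' hk1 q₀ hj h0)
      have m2 := (O.S.h.not_comm_iff hx.1.1.1 hq₀).mp (hnotperp x hx.1.1.1 hx.2 hne.1 q₀ hj h0)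
      have hfix : q₀ * (x * k) * q₀⁻¹ = x * k := by
        calc q₀ * (x * k) * q₀⁻¹ = q₀ * x * q₀⁻¹ * (q₀ * k * q₀⁻¹) := by group
          _ = x * k := by
            rw [m1, m2, ← O.S.h.comm x hx.1.1.1, mul_assoc, O.S.h.z_mul_z_mul]
      have hxk : x * k ≠ 1 := fun e => hne.2 (by
        rw [mul_eq_one_iff_eq_inv.mp e, inv_eq_of_mul_eq_one_right (O.K_facts B hk hk').1])
      exact hnotperp _ (Q.mul_mem hx.1.1.1 hk) (Q'.mul_mem hx.2 hk') hxk q₀ hj h0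
        (mul_inv_eq_iff_eq_mul.mp hfix)
    have := Set.ncard_le_ncard hsub (Set.toFinite _)
    rw [← Nat.card_coe_set_eq, Set.ncard_pair hk1.symm] at this
    exact this
  have := Nat.pow_le_pow_right (show 0 < 2 by norm_num)
    (show 7 ≤ Module.finrank (ZMod 2) (R.fix (π u)) + 1 by omega)
  omega

theorem pre_fix : B.pre (R.fix (π u)) = O.BU := by
  apply le_antisymm
  · intro q hq
    have e : O.cm q = 1 := by
      refine ((B.eq_zero _ (O.cm_mem hq.1)).mp ?_).resolve_right (O.cm_ne_z B hq.1)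
      rw [O.p_cm B hq.1, R.mem_fix.mp hq.2, ZModModule.add_self]
    refine O.mem_BU.mpr ⟨hq.1, mul_inv_eq_iff_eq_mul.mp ?_⟩
    calc q * u * q⁻¹ = O.cm q * u := by rw [cm, mul_assoc _ u u, O.uu, mul_one]
      _ = u := by rw [e, one_mul]
  · intro q hq
    obtain ⟨hq, hu⟩ := O.mem_BU.mp hq
    refine ⟨hq, ?_⟩
    rw [R.mem_fix, ← B.act u O.comm q hq, ← hu, mul_inv_cancel_right]

theorem pre_rng_le : B.pre (R.rng (π u)) ≤ O.BU := by
  rw [← O.pre_fix B]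
  exact fun x hx => ⟨hx.1, R.rng_le_fix (O.S.img u O.comm) O.h2 hx.2⟩

theorem q_rng {v : V} (hv : v ∈ R.rng (π u)) : R.q v = 0 := by
  obtain ⟨w, rfl⟩ := hv
  obtain ⟨q, hq, rfl⟩ := B.surj w
  show R.q (R.ρ (π u) (p q) + p q) = 0
  rw [← O.p_cm B hq, B.sq _ (O.cm_mem hq)]
  have hm : O.cm q ∈ O.BU := O.pre_rng_le B ⟨O.cm_mem hq, by rw [O.p_cm B hq]; exact ⟨p q, rfl⟩⟩
  have e := O.cm_inverted q
  rw [← (O.mem_BU.mp hm).2, mul_assoc, O.uu, mul_one] at e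
  exact mul_eq_one_iff_eq_inv.mpr e

theorem K_cm {k : G} (hk : k ∈ Q) (hk' : k ∈ Q') (hk1 : k ≠ 1) :
    ∃ q ∈ Q, k = O.cm q * z := by
  obtain ⟨-, -, -, hkB⟩ := O.K_facts B hk hk'
  have hp : p k ∈ R.rng (π u) := R.mem_rng_of_perp (O.S.img u O.comm) O.h2 fun c hc => by
    obtain ⟨b, hb, rfl⟩ := B.surj c
    exact (B.comm k hk b hb).mpr (hkB b ((O.pre_fix B) ▸ (⟨hb, hc⟩ : b ∈ B.pre (R.fix (π u))))).symm
  obtain ⟨q, hq, e | e⟩ := O.cm_of_rng B hk hp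
  · exact absurd (e.trans (O.cm_eq_one hq (e ▸ hk'))) hk1
  · exact ⟨q, hq, e⟩

theorem K_move {q₁ k₂ : G} (hq₁ : q₁ ∈ Q) (hk₂ : k₂ ∈ Q) (hk₂' : k₂ ∈ Q') (h₂ : k₂ ≠ 1)
    (h₁ : O.cm q₁ * z ∈ Q') (hne : k₂ ≠ O.cm q₁ * z) : q₁ * k₂ * q₁⁻¹ = z * k₂ := by
  refine (O.S.h.conj q₁ hq₁ k₂ hk₂).resolve_left fun e => ?_
  obtain ⟨q₂, hq₂, e₂⟩ := O.K_cm B hk₂ hk₂' h₂
  have hzc := O.S.h.comm
  have hk1Q : O.cm q₁ * z ∈ Q := Q.mul_mem (O.cm_mem hq₁) O.S.h.mem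
  have hprod : O.cm (q₁ * q₂) = k₂ * (O.cm q₁ * z) := by
    have e3 : q₁ * O.cm q₂ * q₁⁻¹ = O.cm q₂ := by
      have h4 : O.cm q₂ = k₂ * z := by rw [e₂, mul_assoc, O.S.h.zz, mul_one]
      rw [h4]
      calc q₁ * (k₂ * z) * q₁⁻¹ = q₁ * k₂ * q₁⁻¹ * (q₁ * z * q₁⁻¹) := by group
        _ = k₂ * z := by rw [e, hzc q₁ hq₁, mul_inv_cancel_right]
    rw [O.cm_mul, e3, e₂, mul_assoc (O.cm q₂) z, ← mul_assoc z (O.cm q₁),
      ← hzc _ (O.cm_mem hq₁), mul_assoc (O.cm q₁), O.S.h.zz, mul_one]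
  have hQ' : O.cm (q₁ * q₂) ∈ Q' := by rw [hprod]; exact Q'.mul_mem hk₂' h₁
  have h5 := O.cm_eq_one (Q.mul_mem hq₁ hq₂) hQ'
  rw [hprod] at h5
  exact hne ((mul_eq_one_iff_eq_inv.mp h5).trans
    (inv_eq_of_mul_eq_one_right (O.K_facts B hk1Q h₁).1))

theorem card_K : Nat.card (Q ⊓ Q' : Subgroup G) ≤ 4 := by
  by_contra hc
  obtain ⟨k₁, hk₁, h₁⟩ : ∃ k ∈ Q ⊓ Q', k ≠ (1 : G) := by
    by_contra hno
    push Not at hno
    rw [(Subgroup.eq_bot_iff_forall _).mpr hno, Subgroup.card_bot] at hc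
    omega
  obtain ⟨q₁, hq₁, e₁⟩ := O.K_cm B hk₁.1 hk₁.2 h₁
  obtain ⟨k₂, hk₂, h₂⟩ : ∃ k ∈ Q ⊓ Q', k ∉ ({1, k₁} : Set G) := by
    by_contra hno
    push Not at hno
    have := Set.ncard_le_ncard (s := ((Q ⊓ Q' : Subgroup G) : Set G)) hno (Set.toFinite _)
    rw [← Nat.card_coe_set_eq, Set.ncard_pair h₁.symm, SetLike.coe_sort_coe] at this
    omega
  simp only [Set.mem_insert_iff, Set.mem_singleton_iff, not_or] at h₂
  obtain ⟨k₃, hk₃, h₃⟩ : ∃ k ∈ Q ⊓ Q', k ∉ ({1, k₁, k₂, k₂ * k₁} : Set G) := by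
    by_contra hno
    push Not at hno
    have h := Set.ncard_le_ncard (s := ((Q ⊓ Q' : Subgroup G) : Set G)) hno (Set.toFinite _)
    have h4 : ({1, k₁, k₂, k₂ * k₁} : Set G).ncard ≤ 4 := by
      refine (Set.ncard_insert_le _ _).trans ?_
      refine (Nat.add_le_add_right (Set.ncard_insert_le _ _) _).trans ?_
      refine (Nat.add_le_add_right (Nat.add_le_add_right (Set.ncard_insert_le _ _) _) _).trans ?_
      rw [Set.ncard_singleton]
    rw [← Nat.card_coe_set_eq, SetLike.coe_sort_coe] at h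
    omega
  simp only [Set.mem_insert_iff, Set.mem_singleton_iff, not_or] at h₃
  have m2 := O.K_move B hq₁ hk₂.1 hk₂.2 h₂.1 (e₁ ▸ hk₁.2) (e₁ ▸ h₂.2)
  have m3 := O.K_move B hq₁ hk₃.1 hk₃.2 h₃.1 (e₁ ▸ hk₁.2) (e₁ ▸ h₃.2.1)
  have s2 := (O.K_facts B hk₂.1 hk₂.2).1
  have hm : k₂ * k₃ ∈ Q ⊓ Q' := mul_mem hk₂ hk₃
  have ne1 : k₂ * k₃ ≠ 1 := fun e => h₃.2.2.1 (by
    calc k₃ = k₂ * k₂ * k₃ := by rw [s2, one_mul]
      _ = k₂ := by rw [mul_assoc, e, mul_one])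
  have ne2 : k₂ * k₃ ≠ O.cm q₁ * z := by
    rw [← e₁]
    intro e
    exact h₃.2.2.2 (by rw [← e, ← mul_assoc, s2, one_mul])
  have m23 := O.K_move B hq₁ hm.1 hm.2 ne1 (e₁ ▸ hk₁.2) ne2
  have hfix : q₁ * (k₂ * k₃) * q₁⁻¹ = k₂ * k₃ := by
    calc q₁ * (k₂ * k₃) * q₁⁻¹ = q₁ * k₂ * q₁⁻¹ * (q₁ * k₃ * q₁⁻¹) := by group
      _ = k₂ * k₃ := by
        rw [m2, m3, ← O.S.h.comm k₂ hk₂.1, mul_assoc, O.S.h.z_mul_z_mul]
  exact O.S.h.z_mul_ne _ (m23.symm.trans hfix)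

theorem counts :
    2 ^ (Module.finrank (ZMod 2) (R.fix (π u)) + 1) ≤ 16 * Nat.card (Q ⊓ Q' : Subgroup G) ∧
      2 ^ (Module.finrank (ZMod 2) (R.rng (π u)) + 1) ≤ 8 * Nat.card (Q ⊓ Q' : Subgroup G) := by
  have hz := O.S.h.mem
  constructor
  · have h1 := (O.card_B (X := O.BU) le_rfl).1
    have e : O.BU ⊓ Q' = Q ⊓ Q' := le_antisymm (fun x hx => ⟨hx.1.1, hx.2⟩)
      fun x hx => ⟨O.mem_BU.mpr ⟨hx.1, O.S'.h.comm x hx.2⟩, hx.2⟩
    rwa [e, ← O.pre_fix B, B.card_pre hz O.S.h.ne_one] at h1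
  · have h1 := (O.card_B (X := B.pre (R.rng (π u))) (O.pre_rng_le B)).2 fun a ha b hb =>
      (B.comm a ha.1 b hb.1).mp (O.rng_perp B ha.2 (R.rng_le_fix (O.S.img u O.comm) O.h2 hb.2))
    rw [B.card_pre hz O.S.h.ne_one] at h1
    exact h1.trans (Nat.mul_le_mul_left _ (Subgroup.card_le_of_le fun x hx => ⟨hx.1.1, hx.2⟩))

theorem dims : Module.finrank (ZMod 2) (R.fix (π u)) ≤ 5 := by
  have h1 := (O.counts B).1
  have h2 := O.card_K B
  by_contra hc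
  have := Nat.pow_le_pow_right (show 0 < 2 by norm_num)
    (show 7 ≤ Module.finrank (ZMod 2) (R.fix (π u)) + 1 by omega)
  omega

/-- The case in which `a0` has fixed points is impossible. -/
theorem k1_false (hk : R.K1) : False := by
  have hd := R.finrank_rng_add_fix (π u)
  have hc := O.dims B
  by_cases hin : π u ∈ Hin
  · have := R.rank_k1 hk hin O.h2
    omega
  · obtain ⟨v, -, hW, hne⟩ := R.outer_W hk (O.S.img u O.comm) hin
    have h1 := R.W_q hk hW hne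
    rw [O.q_rng B (v := R.ρ (π u) v + v) ⟨v, rfl⟩] at h1
    exact zero_ne_one h1

theorem fix_four (hu : R.U0) : Module.finrank (ZMod 2) (R.fix (π u)) = 4 := by
  by_cases hin : π u ∈ Hin
  · exact R.inner_fix_four hu hin O.h2 O.h_ne
  · exact R.outer_fix_four hu (O.S.img u O.comm) hin O.h2

theorem fix_eq_rng (hu : R.U0) : R.rng (π u) = R.fix (π u) := by
  haveI := R.findim
  refine Submodule.eq_of_le_of_finrank_le (R.rng_le_fix (O.S.img u O.comm) O.h2) ?_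
  have := R.finrank_rng_add_fix (π u)
  have := O.fix_four B hu
  omega

theorem BU_facts (hu : R.U0) : Nat.card O.BU = 32 ∧ (∀ a ∈ O.BU, ∀ b ∈ O.BU, a * b = b * a) ∧
    Nat.card (Q ⊓ Q' : Subgroup G) = 4 := by
  have h4 := O.fix_four B hu
  have hr := O.fix_eq_rng B hu
  have hc := O.counts B
  have hK := O.card_K B
  rw [hr, h4] at hc
  refine ⟨?_, ?_, by omega⟩
  · rw [← O.pre_fix B, B.card_pre O.S.h.mem O.S.h.ne_one, h4]; norm_num
  · intro a ha b hb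
    rw [← O.pre_fix B] at ha hb
    exact (B.comm a ha.1 b hb.1).mp (O.rng_perp B (hr.symm ▸ ha.2) hb.2)

end Out

variable {Q Q' : Subgroup G} {z u : G} {π π' : G → A3}

/-- Two such conjugates cannot exist. -/
theorem false_of_out (O : Out Q Q' z u π π') : False := by
  obtain ⟨V, iA, iM, R, p, B⟩ := exists_rep O.S
  obtain ⟨V', iA', iM', R', p', B'⟩ := exists_rep O.S'
  rcases R.dichotomy with hu | hk
  swap
  · exact O.k1_false B hk
  rcases R'.dichotomy with hu' | hk'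
  swap
  · exact O.symm.k1_false B' hk'
  haveI := R.findim
  obtain ⟨hB32, hBab, hK⟩ := O.BU_facts B hu
  obtain ⟨hI32, hIab, -⟩ := O.symm.BU_facts B' hu'
  set I := O.symm.BU with hI
  have hIz : ∀ x ∈ I, x * z = z * x := fun x hx => (O.symm.mem_BU.mp hx).2
  have hIu : ∀ x ∈ I, x * u = u * x := fun x hx => O.S'.h.comm x (O.symm.mem_BU.mp hx).1
  obtain ⟨A, hA, hmem, hcard⟩ := O.S.exists_image I hIz
  have hIQ : I ⊓ Q = Q ⊓ Q' := le_antisymm (fun x hx => ⟨hx.2, (O.symm.mem_BU.mp hx.1).1⟩)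
    fun x hx => ⟨O.symm.mem_BU.mpr ⟨hx.2, O.S.h.comm x hx.1⟩, hx.1⟩
  rw [hI32, hIQ, hK] at hcard
  have hA2 := O.S.image_isPGroup hIz hmem
    (O.S'.h.toExt.isPGroup.to_le fun x hx => (O.symm.mem_BU.mp hx).1)
  have hAab := O.S.image_comm hIz hmem hIab
  obtain ⟨h4, α, hα, hαn⟩ := abelian_eight hA hA2 hAab (by omega)
  -- the image fixes the fixed space of `u` pointwise
  have hfix : ∀ a ∈ A, ∀ v ∈ R.fix (π u), R.ρ a v = v := by
    intro a ha v hv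
    obtain ⟨x, hx, rfl⟩ := (hmem a).mp ha
    have hxz := hIz x hx
    have hxu := hIu x hx
    have hxK : ∀ k ∈ Q ⊓ Q', x * k * x⁻¹ = k := fun k hk =>
      mul_inv_eq_iff_eq_mul.mpr (hIab x hx k (O.symm.mem_BU.mpr ⟨hk.2, O.S.h.comm k hk.1⟩))
    rw [← O.fix_eq_rng B hu] at hv
    obtain ⟨w, rfl⟩ := hv
    obtain ⟨q, hq, rfl⟩ := B.surj w
    show R.ρ (π x) (R.ρ (π u) (p q) + p q) = R.ρ (π u) (p q) + p q
    rw [← O.p_cm B hq, ← B.act x hxz _ (O.cm_mem hq)]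
    congr 1
    have hq' : x * q * x⁻¹ ∈ Q := O.S.h.norm x hxz q hq
    have ecm : x * O.cm q * x⁻¹ = O.cm (x * q * x⁻¹) := by
      have e : x * u * x⁻¹ = u := mul_inv_eq_iff_eq_mul.mpr hxu
      calc x * O.cm q * x⁻¹ = (x * q * x⁻¹) * (x * u * x⁻¹) * (x * q * x⁻¹)⁻¹ * (x * u * x⁻¹) := by
            rw [Out.cm]; group
        _ = O.cm (x * q * x⁻¹) := by rw [e]; rfl
    have hj : O.cm q ∈ O.BU := O.pre_rng_le B ⟨O.cm_mem hq, by rw [O.p_cm B hq]; exact ⟨p q, rfl⟩⟩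
    have hju := (O.mem_BU.mp hj).2
    set k := x * O.cm q * x⁻¹ * (O.cm q)⁻¹ with hkdef
    have hk : k ∈ Q ⊓ Q' := by
      refine ⟨Q.mul_mem (O.S.h.norm x hxz _ (O.cm_mem hq)) (Q.inv_mem (O.cm_mem hq)), ?_⟩
      have e : k = x * (O.cm q * x⁻¹ * (O.cm q)⁻¹) := by rw [hkdef]; group
      rw [e]
      exact Q'.mul_mem (O.symm.mem_BU.mp hx).1
        (O.S'.h.norm _ hju _ (Q'.inv_mem (O.symm.mem_BU.mp hx).1))
    by_contra hne
    have hk1 : k ≠ 1 := fun e => hne (mul_inv_eq_one.mp e)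
    obtain ⟨q₁, hq₁, e₁⟩ := O.K_cm B hk.1 hk.2 hk1
    obtain ⟨k₂, hk₂, h₂⟩ : ∃ l ∈ Q ⊓ Q', l ∉ ({1, k} : Set G) := by
      by_contra hno
      push Not at hno
      have := Set.ncard_le_ncard (s := ((Q ⊓ Q' : Subgroup G) : Set G)) hno (Set.toFinite _)
      rw [← Nat.card_coe_set_eq, Set.ncard_pair hk1.symm, SetLike.coe_sort_coe] at this
      omega
    simp only [Set.mem_insert_iff, Set.mem_singleton_iff, not_or] at h₂
    have hmove := O.K_move B hq₁ hk₂.1 hk₂.2 h₂.1 (e₁ ▸ hk.2) (e₁ ▸ h₂.2)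
    -- the same element is fixed
    have hr : q₁⁻¹ * (q⁻¹ * (x * q * x⁻¹)) ∈ O.BU := by
      rw [← O.pre_fix B]
      have m1 := Q.mul_mem (Q.inv_mem hq₁) (Q.mul_mem (Q.inv_mem hq) hq')
      refine ⟨m1, ?_⟩
      have e2 : p (x * O.cm q * x⁻¹) = p (O.cm q₁) + p (O.cm q) := by
        have : x * O.cm q * x⁻¹ = k * O.cm q := by rw [hkdef]; group
        rw [this, B.map_mul k hk.1 _ (O.cm_mem hq), e₁, B.map_mul _ (O.cm_mem hq₁) z O.S.h.mem,
          B.map_z O.S.h.mem, add_zero]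
      rw [ecm, O.p_cm B hq', O.p_cm B hq₁, O.p_cm B hq] at e2
      rw [R.mem_fix, B.map_mul _ (Q.inv_mem hq₁) _ (Q.mul_mem (Q.inv_mem hq) hq'),
        B.map_mul _ (Q.inv_mem hq) _ hq', B.map_inv hq₁, B.map_inv hq, map_add, map_add]
      set a1 := R.ρ (π u) (p q₁)
      set a2 := R.ρ (π u) (p q)
      set a3 := R.ρ (π u) (p (x * q * x⁻¹))
      calc a1 + (a2 + a3) = a1 + a2 + ((a3 + p (x * q * x⁻¹)) + p (x * q * x⁻¹)) := by
            rw [add_assoc a3, ZModModule.add_self, add_zero, add_assoc]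
        _ = a1 + a2 + ((a1 + p q₁ + (a2 + p q)) + p (x * q * x⁻¹)) := by rw [e2]
        _ = (a1 + a1) + (a2 + a2) + (p q₁ + (p q + p (x * q * x⁻¹))) := by abel
        _ = _ := by rw [ZModModule.add_self, ZModModule.add_self, zero_add, zero_add]
    have hxK' : x⁻¹ * k₂ * x = k₂ := by
      calc x⁻¹ * k₂ * x = x⁻¹ * (x * k₂ * x⁻¹) * x := by rw [hxK k₂ hk₂]
        _ = k₂ := by group
    have hkB := (O.K_facts B hk₂.1 hk₂.2).2.2.2 _ hr
    have h3 : q⁻¹ * (x * q * x⁻¹) * k₂ * (q⁻¹ * (x * q * x⁻¹))⁻¹ = k₂ := by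
      rcases O.S.h.conj q hq k₂ hk₂.1 with e | e
      · have e' : x * q * x⁻¹ * k₂ * (x * q * x⁻¹)⁻¹ = k₂ := by
          calc x * q * x⁻¹ * k₂ * (x * q * x⁻¹)⁻¹
              = x * (q * (x⁻¹ * k₂ * x) * q⁻¹) * x⁻¹ := by group
            _ = x * (q * k₂ * q⁻¹) * x⁻¹ := by
              rw [hxK']
            _ = k₂ := by rw [e, hxK k₂ hk₂]
        calc q⁻¹ * (x * q * x⁻¹) * k₂ * (q⁻¹ * (x * q * x⁻¹))⁻¹
            = q⁻¹ * (x * q * x⁻¹ * k₂ * (x * q * x⁻¹)⁻¹) * q := by group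
          _ = q⁻¹ * (q * k₂ * q⁻¹) * q := by rw [e', e]
          _ = k₂ := by group
      · have hzx : x * z * x⁻¹ = z := mul_inv_eq_iff_eq_mul.mpr hxz
        have e' : x * q * x⁻¹ * k₂ * (x * q * x⁻¹)⁻¹ = z * k₂ := by
          calc x * q * x⁻¹ * k₂ * (x * q * x⁻¹)⁻¹
              = x * (q * (x⁻¹ * k₂ * x) * q⁻¹) * x⁻¹ := by group
            _ = x * (q * k₂ * q⁻¹) * x⁻¹ := by
              rw [hxK']
            _ = (x * z * x⁻¹) * (x * k₂ * x⁻¹) := by rw [e]; group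
            _ = z * k₂ := by rw [hzx, hxK k₂ hk₂]
        calc q⁻¹ * (x * q * x⁻¹) * k₂ * (q⁻¹ * (x * q * x⁻¹))⁻¹
            = q⁻¹ * (x * q * x⁻¹ * k₂ * (x * q * x⁻¹)⁻¹) * q := by group
          _ = q⁻¹ * (q * k₂ * q⁻¹) * q := by rw [e', e]
          _ = k₂ := by group
    have hfix2 : q₁ * k₂ * q₁⁻¹ = k₂ := by
      have e5 : q₁ = q⁻¹ * (x * q * x⁻¹) * (q₁⁻¹ * (q⁻¹ * (x * q * x⁻¹)))⁻¹ := by group
      rw [e5]
      set r := q₁⁻¹ * (q⁻¹ * (x * q * x⁻¹))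
      set s := q⁻¹ * (x * q * x⁻¹)
      calc s * r⁻¹ * k₂ * (s * r⁻¹)⁻¹ = s * (r⁻¹ * k₂ * r) * s⁻¹ := by group
        _ = s * k₂ * s⁻¹ := by rw [mul_assoc r⁻¹, ← hkB, inv_mul_cancel_left]
        _ = k₂ := h3
    exact O.S.h.z_mul_ne k₂ (hmove.symm.trans hfix2)
  have hfour := O.fix_four B hu
  by_cases hin : π u ∈ Hin
  · -- an outer element cannot fix an invariant subspace pointwise
    obtain ⟨v, hv, hv0⟩ := Submodule.exists_mem_ne_zero_of_ne_bot (p := R.fix (π u))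
      (fun e => by rw [e, finrank_bot] at hfour; omega)
    have e := R.outer_a (hA hα) hαn v
    rw [hfix α hα _ (R.a_inv_fix hin v hv), hfix α hα v hv] at e
    exact hv0 (hu v (R.act_inj R.a0_H0 e).symm)
  · obtain ⟨⟨y, hy⟩, hy1⟩ : ∃ y : (A ⊓ Hin : Subgroup A3), y ≠ 1 := by
      haveI : Nontrivial (A ⊓ Hin : Subgroup A3) := Finite.one_lt_card_iff_nontrivial.mp (by omega)
      exact exists_ne 1
    have hyH : y ∈ H0 := Hin_le hy.2
    have hu_mem : π u ∈ A := (hmem _).mpr ⟨u, O.symm.mem_BU.mpr ⟨O.S'.h.mem, O.comm⟩, rfl⟩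
    have hle : R.fix (π u) ≤ R.fix y := fun v hv => R.mem_fix.mpr (hfix y hy.1 v hv)
    have hinv : R.Inv (π u) (R.fix y) := fun v hv => by
      rw [R.mem_fix] at hv ⊢
      rw [R.act_comm hyH (O.S.img u O.comm) (hAab y hy.1 _ hu_mem), hv]
    have h8 := R.outer_half (O.S.img u O.comm) hin O.h2 hinv (R.a_inv_fix hy.2) fun v _ => hu v
    rw [inf_eq_right.mpr hle, hfour] at h8
    have htop : R.fix y = ⊤ := Submodule.eq_top_of_finrank_eq (by rw [R.dim]; omega)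
    refine hy1 (Subtype.ext (R.faith y hyH (LinearMap.ext fun v => ?_)))
    exact R.mem_fix.mp (htop ▸ Submodule.mem_top)

/-- If `z` is weakly closed in `Q`, it commutes with none of its other conjugates. -/
theorem no_conj {Q : Subgroup G} {z : G} {π : G → A3} (S : Sett Q z π)
    (hno : ∀ k : G, k * z * k⁻¹ ∈ Q → k * z * k⁻¹ = z) (g : G)
    (hcomm : g * z * g⁻¹ * z = z * (g * z * g⁻¹)) : g * z * g⁻¹ = z := by
  by_contra hne
  have hzQ' : z ∉ Q.map (MulAut.conj g).toMonoidHom := by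
    rintro ⟨y, hy, e⟩
    simp only [MulEquiv.coe_toMonoidHom, MulAut.conj_apply] at e
    have ey : y = g⁻¹ * z * g⁻¹⁻¹ := by rw [← e]; group
    have := hno g⁻¹ (ey ▸ hy)
    apply hne
    calc g * z * g⁻¹ = g * (g⁻¹ * z * g⁻¹⁻¹) * g⁻¹ := by rw [this]
      _ = z := by group
  refine false_of_out (O := ⟨S, S.map_conj g, hcomm, fun h => hne (hno g h), hzQ', ?_, ?_⟩)
  · rintro q - ⟨y, hy, e⟩
    simp only [MulEquiv.coe_toMonoidHom, MulAut.conj_apply] at e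
    have ey : y = (g⁻¹ * q * g) * z * (g⁻¹ * q * g)⁻¹ := by
      calc y = g⁻¹ * (g * y * g⁻¹) * g := by group
        _ = _ := by rw [e]; group
    rw [← e, show y = z from ey.trans (hno _ (ey ▸ hy))]
  · intro q _ hq
    exact hno q hq

end Cfsg.Agent.S3284Outside23
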