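import Cfsg.Agent.Lib.S3284Shape23
import Cfsg.Agent.Lib.LargeExtraspecial

/-!
# The local setting and its module (for S3284)
-/

set_option autoImplicit false

namespace Cfsg.Agent.S3284Setting23

open Cfsg.Agent.S3284Group23 Cfsg.Agent.S3284Model23 Cfsg.Agent.LargeExtraspecial

universe u

variable {G : Type u} [Group G]

/-- `C(z)/Q ≅ H0` through `π`, with `Q` extraspecial of order `2⁹`. -/
structure Sett (Q : Subgroup G) (z : G) (π : G → A3) : Prop where
  h : LHyp Q z
  card : Nat.card Q = 512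
  mul : ∀ x y, x * z = z * x → y * z = z * y → π (x * y) = π x * π y
  ker : ∀ x, x * z = z * x → (π x = 1 ↔ x ∈ Q)
  img : ∀ x, x * z = z * x → π x ∈ H0
  surj : ∀ k ∈ H0, ∃ x, x * z = z * x ∧ π x = k

namespace Sett

variable {Q : Subgroup G} {z : G} {π : G → A3} (S : Sett Q z π)
include S

theorem one : π 1 = 1 := (S.ker 1 (by simp)).mpr (one_mem _)

theorem z_one : π z = 1 := (S.ker z rfl).mpr S.h.mem

theorem of_Q {x : G} (hx : x ∈ Q) : π x = 1 := (S.ker x (S.h.comm x hx)).mpr hx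

theorem inv {x : G} (hx : x * z = z * x) : π x⁻¹ = (π x)⁻¹ := by
  refine eq_inv_of_mul_eq_one_left ?_
  rw [← S.mul x⁻¹ x (Commute.inv_left hx).eq hx, inv_mul_cancel, S.one]

theorem conj {x y : G} (hx : x * z = z * x) (hy : y * z = z * y) :
    π (x * y * x⁻¹) = π x * π y * (π x)⁻¹ := by
  rw [S.mul _ _ ((Commute.mul_left hx hy).eq) (Commute.inv_left hx).eq, S.mul x y hx hy, S.inv hx]

theorem pow {x : G} (hx : x * z = z * x) (n : ℕ) : π (x ^ n) = π x ^ n := by
  induction n with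
  | zero => rw [pow_zero, pow_zero, S.one]
  | succ n ih => rw [pow_succ, pow_succ, S.mul _ _ (Commute.pow_left hx n).eq hx, ih]

theorem card32 : 32 ≤ Nat.card Q := by rw [S.card]; norm_num

/-- Transport by conjugation. -/
theorem map_conj (g : G) : Sett (Q.map (MulAut.conj g).toMonoidHom) (g * z * g⁻¹)
    (fun x => π (g⁻¹ * x * g)) := by
  have hc : ∀ x, x * (g * z * g⁻¹) = g * z * g⁻¹ * x → g⁻¹ * x * g * z = z * (g⁻¹ * x * g) := by
    intro x hx
    calc g⁻¹ * x * g * z = g⁻¹ * (x * (g * z * g⁻¹)) * g := by group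
      _ = g⁻¹ * (g * z * g⁻¹ * x) * g := by rw [hx]
      _ = z * (g⁻¹ * x * g) := by group
  refine ⟨S.h.map_conj g, ?_, ?_, ?_, fun x hx => S.img _ (hc x hx), ?_⟩
  · exact (Nat.card_congr (Subgroup.equivMapOfInjective Q _ (MulAut.conj g).injective).toEquiv).symm.trans S.card
  · intro x y hx hy
    rw [← S.mul _ _ (hc x hx) (hc y hy)]
    congr 1; group
  · intro x hx
    refine (S.ker _ (hc x hx)).trans ⟨fun hm => ⟨_, hm, ?_⟩, ?_⟩
    · simp only [MulEquiv.coe_toMonoidHom, MulAut.conj_apply]; group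
    · rintro ⟨y, hy, rfl⟩
      simp only [MulEquiv.coe_toMonoidHom, MulAut.conj_apply]
      rwa [show g⁻¹ * (g * y * g⁻¹) * g = y by group]
  · intro k hk
    obtain ⟨x, hx, rfl⟩ := S.surj k hk
    refine ⟨g * x * g⁻¹, ?_, congrArg π (by group)⟩
    calc g * x * g⁻¹ * (g * z * g⁻¹) = g * (x * z) * g⁻¹ := by group
      _ = g * (z * x) * g⁻¹ := by rw [hx]
      _ = _ := by group

/-- Composition with the outer automorphism. -/
theorem swap : Sett Q z (fun x => swapAut (π x)) := by
  refine ⟨S.h, S.card, fun x y hx hy => by simp only [S.mul x y hx hy, map_mul],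
    fun x hx => (by rw [← S.ker x hx]; exact swapAut.map_eq_one_iff),
    fun x hx => swapAut_mem_H0.mpr (S.img x hx), fun k hk => ?_⟩
  obtain ⟨x, hx, e⟩ := S.surj (swapAut.symm k) (swapAut_mem_H0.mp (by simpa using hk))
  exact ⟨x, hx, by simp [e]⟩

end Sett

/-- The link between `Q` and its module. -/
structure Bridge (Q : Subgroup G) (z : G) (π : G → A3) {V : Type u} [AddCommGroup V]
    [Module (ZMod 2) V] (R : Rep V) (p : G → V) : Prop where
  surj : ∀ v, ∃ x ∈ Q, p x = v
  map_mul : ∀ x ∈ Q, ∀ y ∈ Q, p (x * y) = p x + p y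
  eq_zero : ∀ x ∈ Q, (p x = 0 ↔ x = 1 ∨ x = z)
  sq : ∀ x ∈ Q, (R.q (p x) = 0 ↔ x * x = 1)
  comm : ∀ x ∈ Q, ∀ y ∈ Q, (R.b (p x) (p y) = 0 ↔ x * y = y * x)
  act : ∀ g, g * z = z * g → ∀ x ∈ Q, p (g * x * g⁻¹) = R.ρ (π g) (p x)

theorem exists_rep [Finite G] {Q : Subgroup G} {z : G} {π : G → A3} (S : Sett Q z π) :
    ∃ (V : Type u) (_ : AddCommGroup V) (_ : Module (ZMod 2) V) (R : Rep V) (p : G → V),
      Bridge Q z π R p := by
  classical
  set C := Subgroup.center Q with hC
  have hmem : ∀ c : Q, c ∈ C ↔ (c : G) = 1 ∨ (c : G) = z := by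
    intro c
    constructor
    · exact fun hc => S.h.central c.2 fun y hy =>
        congrArg Subtype.val (Subgroup.mem_center_iff.mp hc ⟨y, hy⟩)
    · intro hc
      refine Subgroup.mem_center_iff.mpr fun y => Subtype.ext ?_
      rcases hc with e | e <;> simp [e, S.h.comm y y.2]
  letI : CommGroup (Q ⧸ C) :=
    { (inferInstance : Group (Q ⧸ C)) with
      mul_comm := by
        intro u v
        induction u using QuotientGroup.induction_on with | _ x => ?_
        induction v using QuotientGroup.induction_on with | _ y => ?_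
        rw [← QuotientGroup.mk_mul, ← QuotientGroup.mk_mul, QuotientGroup.eq, hmem]
        rcases S.h.conj (y : G)⁻¹ (Q.inv_mem y.2) (x : G)⁻¹ (Q.inv_mem x.2) with e | e
        · left
          push_cast
          rw [inv_inv] at e
          rw [mul_inv_rev, ← mul_assoc, e, inv_mul_cancel]
        · right
          push_cast
          rw [inv_inv] at e
          rw [mul_inv_rev, ← mul_assoc, e, inv_mul_cancel_right] }
  let V := Additive (Q ⧸ C)
  letI : AddCommGroup V := Additive.addCommGroup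
  let mk : Q → V := fun x => Additive.ofMul (QuotientGroup.mk x)
  have mk_mul : ∀ x y : Q, mk (x * y) = mk x + mk y := fun x y => rfl
  have mk_surj : Function.Surjective mk :=
    fun v => (QuotientGroup.mk_surjective (Additive.toMul v)).imp fun x hx => congrArg Additive.ofMul hx
  have mk_zero : ∀ x : Q, mk x = 0 ↔ (x : G) = 1 ∨ (x : G) = z := fun x =>
    (QuotientGroup.eq_one_iff x).trans (hmem x)
  have h2 : ∀ v : V, 2 • v = 0 := fun v => by
    obtain ⟨x, rfl⟩ := mk_surj v
    rw [two_nsmul, ← mk_mul, mk_zero]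
    exact S.h.sq x x.2
  letI : Module (ZMod 2) V := AddCommGroup.zmodModule h2
  have mk_eq : ∀ x y : Q, mk x = mk y → (y : G) = x ∨ (y : G) = z * x := by
    intro x y e
    have : mk (y * x⁻¹) = 0 := by
      have e0 : mk (x * x⁻¹) = 0 := by rw [mul_inv_cancel]; rfl
      rw [mk_mul, ← e, ← mk_mul]; exact e0
    rcases (mk_zero _).mp this with e1 | e1
    · exact Or.inl (mul_inv_eq_one.mp e1)
    · exact Or.inr (mul_inv_eq_iff_eq_mul.mp e1)
  let sec : V → Q := fun v => (mk_surj v).choose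
  have hsec : ∀ v, mk (sec v) = v := fun v => (mk_surj v).choose_spec
  -- commutator indicator
  let e : G → G → ZMod 2 := fun x y => if x * y = y * x then 0 else 1
  have zc : ∀ x ∈ Q, Commute z x := fun x hx => (S.h.comm x hx).symm
  have e_left : ∀ x1 ∈ Q, ∀ x2 ∈ Q, ∀ y ∈ Q, e (x1 * x2) y = e x1 y + e x2 y := by
    intro x1 h1 x2 h2' y hy
    have key : ∀ x ∈ Q, (e x y = 0 ∧ x * y * x⁻¹ = y) ∨ (e x y = 1 ∧ x * y * x⁻¹ = z * y) := by
      intro x hx
      by_cases hxy : x * y = y * x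
      · exact Or.inl ⟨if_pos hxy, mul_inv_eq_iff_eq_mul.mpr hxy⟩
      · exact Or.inr ⟨if_neg hxy, (S.h.not_comm_iff hy hx).mp hxy⟩
    have hm : x1 * x2 * y * (x1 * x2)⁻¹ = x1 * (x2 * y * x2⁻¹) * x1⁻¹ := by group
    have hcomm : ∀ w, x1 * x2 * y * (x1 * x2)⁻¹ = w → (e (x1 * x2) y = 0 ↔ w = y) := by
      intro w hw
      rw [← hw, mul_inv_eq_iff_eq_mul]
      by_cases hxy : x1 * x2 * y = y * (x1 * x2)
      · simp [e, hxy]
      · simp [e, hxy]
    have hbit : ∀ r : ZMod 2, r ≠ 0 → r = 1 := by decide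
    rcases key x1 h1 with ⟨a1, b1⟩ | ⟨a1, b1⟩ <;> rcases key x2 h2' with ⟨a2, b2⟩ | ⟨a2, b2⟩ <;>
      rw [a1, a2]
    · rw [add_zero, (hcomm y (by rw [hm, b2, b1])).mpr rfl]
    · rw [zero_add]
      refine hbit _ fun h0 => S.h.z_mul_ne y ((hcomm (z * y) ?_).mp h0)
      rw [hm, b2]
      calc x1 * (z * y) * x1⁻¹ = z * (x1 * y * x1⁻¹) := by
            rw [← mul_assoc, ← (zc x1 h1).eq]; group
        _ = z * y := by rw [b1]
    · rw [add_zero]
      exact hbit _ fun h0 => S.h.z_mul_ne y ((hcomm (z * y) (by rw [hm, b2, b1])).mp h0)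
    · rw [(hcomm y ?_).mpr rfl]; · decide
      rw [hm, b2]
      calc x1 * (z * y) * x1⁻¹ = z * (x1 * y * x1⁻¹) := by
            rw [← mul_assoc, ← (zc x1 h1).eq]; group
        _ = y := by rw [b1, S.h.z_mul_z_mul]
  have e_symm : ∀ x y, e x y = e y x := fun x y => if_congr eq_comm rfl rfl
  have e_z : ∀ y ∈ Q, e z y = 0 := fun y hy => if_pos (zc y hy).eq
  have e_ext : ∀ x x' y : Q, mk x = mk x' → e x' y = e x y := by
    intro x x' y h
    rcases mk_eq x x' h with h1 | h1
    · rw [h1]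
    · rw [h1, e_left z S.h.mem x x.2 y y.2, e_z y y.2, zero_add]
  let bb : V → V → ZMod 2 := fun v w => e (sec v) (sec w)
  have bb_mk : ∀ x y : Q, bb (mk x) (mk y) = e x y := by
    intro x y
    show e (sec (mk x)) (sec (mk y)) = _
    rw [← e_ext _ x _ (hsec (mk x)), e_symm, ← e_ext _ y _ (hsec (mk y)), e_symm]
  have bb_symm : ∀ v w, bb v w = bb w v := fun v w => e_symm _ _
  have bb_add : ∀ u v w, bb (u + v) w = bb u w + bb v w := by
    intro u v w
    obtain ⟨x, rfl⟩ := mk_surj u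
    obtain ⟨y, rfl⟩ := mk_surj v
    obtain ⟨r, rfl⟩ := mk_surj w
    rw [← mk_mul, bb_mk, bb_mk, bb_mk]
    exact e_left x x.2 y y.2 r r.2
  let bl : V → V →ₗ[ZMod 2] ZMod 2 := fun v =>
    (AddMonoidHom.mk' (bb v) fun u w => by
      rw [bb_symm, bb_add, bb_symm u, bb_symm w]).toZModLinearMap 2
  let b : LinearMap.BilinForm (ZMod 2) V :=
    (AddMonoidHom.mk' bl fun u v => LinearMap.ext fun w => bb_add u v w).toZModLinearMap 2
  have b_mk : ∀ x y : Q, b (mk x) (mk y) = e x y := bb_mk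
  let qq : G → ZMod 2 := fun x => if x * x = 1 then 0 else 1
  have q_z : ∀ x ∈ Q, qq (z * x) = qq x := by
    intro x hx
    have : z * x * (z * x) = x * x := by
      rw [show z * x * (z * x) = z * (x * z) * x by group, S.h.comm x hx, ← mul_assoc z z, S.h.zz,
        one_mul]
    show (if z * x * (z * x) = 1 then (0 : ZMod 2) else 1) = _
    rw [this]
  let q : V → ZMod 2 := fun v => qq (sec v)
  have q_mk : ∀ x : Q, q (mk x) = qq x := by
    intro x
    rcases mk_eq _ x (hsec (mk x)) with h1 | h1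
    · show qq _ = _; rw [h1]
    · show qq _ = _; rw [h1, q_z _ (sec _).2]
  have polar : ∀ u v, q (u + v) = q u + q v + b u v := by
    intro u v
    obtain ⟨x, rfl⟩ := mk_surj u
    obtain ⟨y, rfl⟩ := mk_surj v
    rw [← mk_mul, q_mk, q_mk, q_mk, b_mk]
    have hsq : ∀ r ∈ Q, r * r = 1 ∧ qq r = 0 ∨ r * r = z ∧ qq r = 1 := by
      intro r hr
      rcases S.h.sq r hr with h1 | h1
      · exact Or.inl ⟨h1, if_pos h1⟩
      · exact Or.inr ⟨h1, if_neg (h1 ▸ S.h.ne_one)⟩
    have hz1 := S.h.ne_one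
    have hzz := S.h.zz
    have hexp : (x : G) * y = y * x ∧ e x y = 0 ∨ (x : G) * y = z * (y * x) ∧ e x y = 1 := by
      by_cases hxy : (x : G) * y = y * x
      · exact Or.inl ⟨hxy, if_pos hxy⟩
      · refine Or.inr ⟨?_, if_neg hxy⟩
        rw [← mul_assoc]
        exact mul_inv_eq_iff_eq_mul.mp ((S.h.not_comm_iff y.2 x.2).mp hxy)
    have hxy2 : ∀ c : G, (∀ r ∈ Q, Commute c r) → (x : G) * y = c * (y * x) →
        ((x : G) * y) * (x * y) = c * ((y : G) * y) * ((x : G) * x) := by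
      intro c hc hxy
      have hx2 : Commute ((x : G) * x) (y : G) := by
        rcases S.h.sq x x.2 with h1 | h1 <;> rw [h1]
        exacts [Commute.one_left _, zc y y.2]
      calc ((x : G) * y) * (x * y) = c * (y * x) * (x * y) := by rw [← hxy]
        _ = c * (y * ((x : G) * x * y)) := by group
        _ = _ := by rw [hx2.eq]; group
    show qq ((x : G) * y) = _
    have hxyQ := Q.mul_mem x.2 y.2
    rcases hexp with ⟨h1, h1'⟩ | ⟨h1, h1'⟩
    · have h0 := hxy2 1 (fun r _ => Commute.one_left r) (by rw [one_mul, h1])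
      rcases hsq _ x.2 with ⟨a1, a2⟩ | ⟨a1, a2⟩ <;> rcases hsq _ y.2 with ⟨c1, c2⟩ | ⟨c1, c2⟩ <;>
        rw [h1', a2, c2] <;> simp [qq, h0, a1, c1, hz1, hzz, show (1 : ZMod 2) + 1 = 0 from rfl]
    · have h0 := hxy2 z zc h1
      rcases hsq _ x.2 with ⟨a1, a2⟩ | ⟨a1, a2⟩ <;> rcases hsq _ y.2 with ⟨c1, c2⟩ | ⟨c1, c2⟩ <;>
        rw [h1', a2, c2] <;> simp [qq, h0, a1, c1, hz1, hzz, show (1 : ZMod 2) + 1 = 0 from rfl]
  have nondeg : ∀ u, (∀ w, b u w = 0) → u = 0 := by
    intro u hu
    obtain ⟨x, rfl⟩ := mk_surj u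
    rw [mk_zero]
    refine S.h.central x.2 fun y hy => ?_
    have := hu (mk ⟨y, hy⟩)
    rw [b_mk] at this
    by_contra hne
    rw [show e x y = 1 from if_neg (Ne.symm hne)] at this
    exact one_ne_zero this
  have bnd : b.Nondegenerate :=
    ⟨nondeg, fun w hw => nondeg w fun u => (bb_symm w u).trans (hw u)⟩
  haveI : Finite V := Finite.of_surjective mk mk_surj
  -- the action
  have cj : ∀ m : G, m * z = z * m → ∀ x : Q, m * x * m⁻¹ ∈ Q := fun m hm x => S.h.norm m hm x x.2
  let cq : ∀ m : G, m * z = z * m → Q → V := fun m hm x => mk ⟨_, cj m hm x⟩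
  have cq_mul : ∀ m hm x y, cq m hm (x * y) = cq m hm x + cq m hm y := by
    intro m hm x y
    refine (congrArg mk (Subtype.ext ?_)).trans (mk_mul _ _)
    show m * ((x : G) * y) * m⁻¹ = m * x * m⁻¹ * (m * y * m⁻¹)
    group
  have cq_ext : ∀ m hm x x', mk x = mk x' → cq m hm x' = cq m hm x := by
    intro m hm x x' h
    rcases mk_eq x x' h with h1 | h1
    · rw [Subtype.ext h1]
    · have : x' = ⟨z, S.h.mem⟩ * x := Subtype.ext h1
      rw [this, cq_mul m hm]
      have hz0 : cq m hm ⟨z, S.h.mem⟩ = 0 := (mk_zero _).mpr (Or.inr (by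
        show m * z * m⁻¹ = z
        exact mul_inv_eq_iff_eq_mul.mpr hm))
      rw [hz0, zero_add]
  let L : ∀ m : G, m * z = z * m → Module.End (ZMod 2) V := fun m hm =>
    (AddMonoidHom.mk' (fun v => cq m hm (sec v)) fun u v => by
      rw [← cq_mul m hm]
      exact (cq_ext m hm _ _ (by rw [mk_mul, hsec, hsec, hsec]))).toZModLinearMap 2
  have L_mk : ∀ m hm x, L m hm (mk x) = cq m hm x := fun m hm x =>
    cq_ext m hm x (sec (mk x)) (hsec _).symm
  have L_ext : ∀ m hm m' hm', π m = π m' → L m hm = L m' hm' := by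
    intro m hm m' hm' h
    refine LinearMap.ext fun v => ?_
    obtain ⟨x, rfl⟩ := mk_surj v
    rw [L_mk m hm, L_mk m' hm']
    have hr : m' * m⁻¹ ∈ Q := (S.ker _ (Commute.mul_left hm' (Commute.inv_left hm)).eq).mp (by
      rw [S.mul _ _ hm' (Commute.inv_left hm).eq, S.inv hm, ← h, mul_inv_cancel])
    have e1 : m' * x * m'⁻¹ = (m' * m⁻¹) * (m * x * m⁻¹) * (m' * m⁻¹)⁻¹ := by group
    rcases S.h.conj _ hr _ (cj m hm x) with h1 | h1
    · exact (congrArg mk (Subtype.ext (e1.trans h1))).symm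
    · refine (Eq.trans (congrArg mk (Subtype.ext (e1.trans h1) :
        (⟨_, cj m' hm' x⟩ : Q) = ⟨z, S.h.mem⟩ * ⟨_, cj m hm x⟩)) ?_).symm
      rw [mk_mul, (mk_zero ⟨z, S.h.mem⟩).mpr (Or.inr rfl), zero_add]
  let ρ : A3 → Module.End (ZMod 2) V := fun k =>
    if hk : k ∈ H0 then L _ (S.surj k hk).choose_spec.1 else 1
  have ρ_eq : ∀ m hm, ρ (π m) = L m hm := fun m hm => by
    show dite _ _ _ = _
    rw [dif_pos (S.img m hm)]
    exact L_ext _ (S.surj _ (S.img m hm)).choose_spec.1 _ hm (S.surj _ (S.img m hm)).choose_spec.2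
  let p : G → V := fun x => if hx : x ∈ Q then mk ⟨x, hx⟩ else 0
  have p_mk : ∀ x : Q, p x = mk x := fun x => dif_pos x.2
  let R : Rep V :=
    { q := q
      b := b
      polar := polar
      nondeg := nondeg
      ρ := ρ
      hone := by
        rw [← S.one, ρ_eq 1 (by simp)]
        refine LinearMap.ext fun v => ?_
        obtain ⟨x, rfl⟩ := mk_surj v
        rw [L_mk 1 (by simp)]
        exact congrArg mk (Subtype.ext (by simp))
      hmul := by
        intro k hk k' hk'
        obtain ⟨m, hm, rfl⟩ := S.surj k hk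
        obtain ⟨m', hm', rfl⟩ := S.surj k' hk'
        have hmm : m * m' * z = z * (m * m') := (Commute.mul_left hm hm').eq
        rw [← S.mul m m' hm hm', ρ_eq _ hmm, ρ_eq m hm, ρ_eq m' hm']
        refine LinearMap.ext fun v => ?_
        obtain ⟨x, rfl⟩ := mk_surj v
        show _ = L m hm (L m' hm' (mk x))
        rw [L_mk (m * m') hmm, L_mk m' hm', show cq m' hm' x = mk ⟨_, cj m' hm' x⟩ from rfl, L_mk m hm]
        exact congrArg mk (Subtype.ext (by group))
      hq := by
        intro k hk v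
        obtain ⟨m, hm, rfl⟩ := S.surj k hk
        obtain ⟨x, rfl⟩ := mk_surj v
        rw [ρ_eq m hm, L_mk m hm, show cq m hm x = mk ⟨_, cj m hm x⟩ from rfl, q_mk, q_mk]
        show (if m * x * m⁻¹ * (m * x * m⁻¹) = 1 then (0 : ZMod 2) else 1) = _
        rw [show m * (x : G) * m⁻¹ * (m * x * m⁻¹) = m * (x * x) * m⁻¹ by group]
        exact if_congr conj_eq_one_iff rfl rfl
      faith := by
        intro k hk h1
        obtain ⟨m, hm, rfl⟩ := S.surj k hk
        rw [ρ_eq m hm] at h1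
        have hcases : ∀ x : Q, m * x * m⁻¹ = x ∨ m * x * m⁻¹ = z * x := by
          intro x
          have h3 := LinearMap.congr_fun h1 (mk x)
          rw [L_mk m hm] at h3
          exact mk_eq x ⟨_, cj m hm x⟩ h3.symm
        let ν : Q → ZMod 2 := fun x => if m * x * m⁻¹ = x then 0 else 1
        have hν : ∀ x : Q, m * x * m⁻¹ = x ∧ ν x = 0 ∨ m * x * m⁻¹ = z * x ∧ ν x = 1 := by
          intro x
          rcases hcases x with h3 | h3
          · exact Or.inl ⟨h3, if_pos h3⟩
          · exact Or.inr ⟨h3, if_neg (h3 ▸ S.h.z_mul_ne x)⟩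
        have ν_mul : ∀ x y : Q, ν (x * y) = ν x + ν y := by
          intro x y
          have h3 : m * ((x * y : Q) : G) * m⁻¹ = m * x * m⁻¹ * (m * y * m⁻¹) := by
            push_cast; group
          have hzx : (x : G) * (z * y) = z * (x * y) := by
            rw [← mul_assoc, S.h.comm x x.2, mul_assoc]
          have h11 : (1 : ZMod 2) + 1 = 0 := rfl
          have hne := S.h.z_mul_ne ((x : G) * y)
          rcases hν (x * y) with ⟨d1, d2⟩ | ⟨d1, d2⟩ <;> rw [d1] at h3 <;> push_cast at h3 <;>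
            rcases hν x with ⟨a1, a2⟩ | ⟨a1, a2⟩ <;> rcases hν y with ⟨c1, c2⟩ | ⟨c1, c2⟩ <;>
            simp only [a1, c1, mul_assoc, hzx, S.h.z_mul_z_mul] at h3 <;> rw [d2, a2, c2] <;>
            first | rfl | exact absurd h3.symm hne | exact absurd h3 hne | simp [h11]
        have ν_ext : ∀ x x', mk x = mk x' → ν x' = ν x := by
          intro x x' h3
          rcases mk_eq x x' h3 with h4 | h4
          · rw [Subtype.ext h4]
          · rw [show x' = ⟨z, S.h.mem⟩ * x from Subtype.ext h4, ν_mul,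
              show ν ⟨z, S.h.mem⟩ = 0 from if_pos (mul_inv_eq_iff_eq_mul.mpr hm), zero_add]
        let φ : V →ₗ[ZMod 2] ZMod 2 :=
          (AddMonoidHom.mk' (fun v => ν (sec v)) fun u v => by
            rw [← ν_mul]
            exact ν_ext _ _ (by rw [mk_mul, hsec, hsec, hsec])).toZModLinearMap 2
        obtain ⟨r, hr⟩ := mk_surj ((b.toDual bnd).symm φ)
        have hb : ∀ x : Q, e r x = ν x := by
          intro x
          rw [← b_mk, hr, LinearMap.BilinForm.apply_toDual_symm_apply]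
          exact ν_ext x (sec (mk x)) (hsec _).symm
        have hc : ∀ x ∈ Q, (r : G)⁻¹ * m * x = x * ((r : G)⁻¹ * m) := by
          intro x hx
          have h4 : m * x * m⁻¹ = r * x * (r : G)⁻¹ := by
            rcases hν ⟨x, hx⟩ with ⟨a1, a2⟩ | ⟨a1, a2⟩ <;> rw [← hb] at a2
            · rw [a1]
              by_cases hrx : (r : G) * x = x * r
              · exact (mul_inv_eq_iff_eq_mul.mpr hrx).symm
              · exact absurd ((show e r x = 1 from if_neg hrx).symm.trans a2) one_ne_zero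
            · rw [a1]
              by_cases hrx : (r : G) * x = x * r
              · exact absurd ((show e r x = 0 from if_pos hrx).symm.trans a2) zero_ne_one
              · exact ((S.h.not_comm_iff hx r.2).mp hrx).symm
          calc (r : G)⁻¹ * m * x = (r : G)⁻¹ * (m * x * m⁻¹) * m := by group
            _ = (r : G)⁻¹ * (r * x * (r : G)⁻¹) * m := by rw [h4]
            _ = _ := by group
        refine (S.ker m hm).mpr ?_
        have hmr : m = (r : G) * ((r : G)⁻¹ * m) := by group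
        rw [hmr]
        refine Q.mul_mem r.2 ?_
        rcases S.h.cent _ hc with h5 | h5 <;> rw [h5]
        exacts [one_mem _, S.h.mem]
      dim := by
        have h1 : Nat.card V * 2 = 512 := by
          have hcard := Subgroup.card_eq_card_quotient_mul_card_subgroup C
          have hC2 : Nat.card C = 2 := by
            refine (Nat.card_eq_two_iff' (1 : C)).mpr
              ⟨⟨⟨z, S.h.mem⟩, (hmem _).mpr (Or.inr rfl)⟩, ?_, ?_⟩
            · exact fun h3 => S.h.ne_one (congrArg (fun c : C => ((c : Q) : G)) h3)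
            · intro c hc
              rcases (hmem c).mp c.2 with h3 | h3
              · exact absurd (Subtype.ext (Subtype.ext h3)) hc
              · exact Subtype.ext (Subtype.ext h3)
          rw [S.card, hC2] at hcard
          exact hcard.symm
        rw [Module.natCard_eq_pow_finrank (K := ZMod 2), Nat.card_zmod] at h1
        have h3 : 2 ^ Module.finrank (ZMod 2) V = 2 ^ 8 := by norm_num; omega
        exact Nat.pow_right_injective le_rfl h3 }
  refine ⟨V, inferInstance, inferInstance, R, p, ⟨?_, ?_, ?_, ?_, ?_, ?_⟩⟩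
  · intro v
    exact ⟨sec v, (sec v).2, (p_mk _).trans (hsec v)⟩
  · intro x hx y hy
    exact (p_mk ⟨_, Q.mul_mem hx hy⟩).trans
      ((mk_mul ⟨x, hx⟩ ⟨y, hy⟩).trans (congrArg₂ _ (p_mk ⟨x, hx⟩).symm (p_mk ⟨y, hy⟩).symm))
  · intro x hx
    rw [p_mk ⟨x, hx⟩]; exact mk_zero _
  · intro x hx
    rw [p_mk ⟨x, hx⟩]
    show q _ = 0 ↔ _
    rw [q_mk]
    show (if x * x = 1 then (0 : ZMod 2) else 1) = 0 ↔ _
    by_cases h : x * x = 1 <;> simp [h]
  · intro x hx y hy
    rw [p_mk ⟨x, hx⟩, p_mk ⟨y, hy⟩]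
    show b _ _ = 0 ↔ _
    rw [b_mk]
    show (if x * y = y * x then (0 : ZMod 2) else 1) = 0 ↔ _
    by_cases h : x * y = y * x <;> simp [h]
  · intro g hg x hx
    rw [p_mk ⟨x, hx⟩]
    show _ = ρ (π g) _
    rw [ρ_eq g hg, L_mk g hg]
    exact p_mk ⟨_, cj g hg ⟨x, hx⟩⟩

end Cfsg.Agent.S3284Setting23
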