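import Cfsg.Agent.Lib.S3284Model23

/-!
# The two shapes of the module (for S3284)
-/

set_option autoImplicit false

namespace Cfsg.Agent.S3284Model23

open Cfsg.Agent.S3284Group23
open Equiv (Perm swap)

def g5 : Perm (Fin 6) := swap 0 1 * swap 1 2 * swap 2 3 * swap 3 4

theorem g5_facts : Perm.sign g5 = 1 ∧ g5 * (g5 * (g5 * (g5 * g5))) = 1 ∧ g5 ≠ 1 := by decide +kernel

def y0 : Perm (Fin 6) := swap 0 2 * swap 2 1 * swap 1 3 * swap 4 5

theorem y0_facts : Perm.sign y0 = 1 ∧ y0 * y0 = x0 := by decide +kernel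

theorem exists_sqrt {σ : Perm (Fin 6)} (hσ : Perm.sign σ = 1) (h2 : σ * σ = 1) (h1 : σ ≠ 1) :
    ∃ y : Perm (Fin 6), Perm.sign y = 1 ∧ y * y = σ := by
  obtain ⟨g, hg, hgx⟩ := conj_x0 σ hσ h2 h1
  refine ⟨g⁻¹ * y0 * g, by simp [hg, y0_facts.1], ?_⟩
  calc g⁻¹ * y0 * g * (g⁻¹ * y0 * g) = g⁻¹ * (y0 * y0) * g := by group
    _ = g⁻¹ * (g * σ * g⁻¹) * g := by rw [y0_facts.2, hgx]
    _ = σ := by group

namespace Rep

variable {V : Type*} [AddCommGroup V] [Module (ZMod 2) V] (R : Rep V)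
include R

/-- `a0` is fixed-point-free. -/
def U0 : Prop := ∀ v, R.ρ a0 v = v → v = 0

/-- The fixed space of `a0`. -/
def U : Submodule (ZMod 2) V := R.fix a0

/-- The commutator space of `a0`. -/
def W : Submodule (ZMod 2) V := LinearMap.ker (1 + R.ρ a0 + R.ρ a0 * R.ρ a0)

/-- `a0` has a six-dimensional fixed space and the alternating factor is trivial on the rest. -/
def K1 : Prop :=
  Module.finrank (ZMod 2) R.U = 6 ∧ Module.finrank (ZMod 2) R.W = 2 ∧ R.TrivA R.W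

theorem mem_W {v : V} : v ∈ R.W ↔ v + R.ρ a0 v + R.ρ a0 (R.ρ a0 v) = 0 := Iff.rfl

theorem a_cube (v : V) : R.ρ a0 (R.ρ a0 (R.ρ a0 v)) = v := by
  rw [← R.act_mul R.a0_H0 R.a0_H0, ← R.act_mul (H0.mul_mem R.a0_H0 R.a0_H0) R.a0_H0,
    mul_assoc, a0_three, R.act_one]

theorem W_free {v : V} (hv : v ∈ R.W) (hf : R.ρ a0 v = v) : v = 0 := by
  have e := R.mem_W.mp hv
  rwa [hf, hf, ZModModule.add_self, zero_add] at e

theorem inner_inv_U {h : A3} (hh : h ∈ Hin) : R.Inv h R.U := fun v hv => by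
  have e : R.ρ a0 v = v := R.mem_fix.mp hv
  refine R.mem_fix.mpr ?_
  rw [R.a_comm hh, e]

theorem inner_inv_W {h : A3} (hh : h ∈ Hin) : R.Inv h R.W := fun v hv => by
  rw [R.mem_W] at hv ⊢
  rw [R.a_comm hh, R.a_comm hh, ← map_add, ← map_add, hv, map_zero]

theorem inv_U {h : A3} (hh : h ∈ H0) : R.Inv h R.U := fun v hv => by
  by_cases hn : h ∈ Hin
  · exact R.inner_inv_U hn v hv
  · have e : R.ρ a0 v = v := R.mem_fix.mp hv
    refine R.mem_fix.mpr (R.act_inj R.a0_H0 ?_)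
    have h2 := R.outer_a hh hn v
    rw [e] at h2
    have h3 := congrArg (R.ρ a0) h2
    rw [R.a_cube] at h3
    exact congrArg (R.ρ a0) h3

theorem inv_W {h : A3} (hh : h ∈ H0) : R.Inv h R.W := fun v hv => by
  by_cases hn : h ∈ Hin
  · exact R.inner_inv_W hn v hv
  · rw [R.mem_W] at hv ⊢
    have c3 := R.a_cube
    have e := congrArg (R.ρ h) hv
    rw [map_zero, map_add, map_add, R.outer_a hh hn, R.outer_a hh hn, R.outer_a hh hn, c3] at e
    rw [← e]; abel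

theorem U_perp_W {u w : V} (hu : u ∈ R.U) (hw : w ∈ R.W) : R.b u w = 0 := by
  have hu' : R.ρ a0 u = u := R.mem_fix.mp hu
  have e1 : ∀ x, R.b u (R.ρ a0 x) = R.b u x := fun x => by
    conv_lhs => rw [← hu']
    rw [R.b_act R.a0_H0]
  have e := congrArg (R.b u) (R.mem_W.mp hw)
  rwa [map_zero, map_add, map_add, e1, e1, e1, ZModModule.add_self, zero_add] at e

theorem UW_split (v : V) : ∃ u ∈ R.U, ∃ w ∈ R.W, u + w = v := by
  obtain ⟨u, hu⟩ : ∃ u, u = v + R.ρ a0 v + R.ρ a0 (R.ρ a0 v) := ⟨_, rfl⟩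
  have hfix : R.ρ a0 u = u := hu ▸ R.a_sum_fix v
  refine ⟨u, R.mem_fix.mpr hfix, v + u, ?_, by rw [add_comm v, ← add_assoc, ZModModule.add_self, zero_add]⟩
  rw [R.mem_W, map_add, map_add, hfix, hfix]
  calc v + u + (R.ρ a0 v + u) + (R.ρ a0 (R.ρ a0 v) + u)
      = u + (u + (u + u)) := by rw [hu]; abel
    _ = 0 := by rw [ZModModule.add_self, add_zero, ZModModule.add_self]

theorem UW_inf : R.U ⊓ R.W = ⊥ := by
  rw [Submodule.eq_bot_iff]
  exact fun v hv => R.W_free hv.2 (R.mem_fix.mp hv.1)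

theorem UW_dim : Module.finrank (ZMod 2) R.U + Module.finrank (ZMod 2) R.W = 8 := by
  haveI := R.findim
  have h := Submodule.finrank_sup_add_finrank_inf_eq R.U R.W
  have hs : R.U ⊔ R.W = ⊤ := by
    rw [eq_top_iff]
    intro v _
    obtain ⟨u, hu, w, hw, e⟩ := R.UW_split v
    exact Submodule.mem_sup.mpr ⟨u, hu, w, hw, e⟩
  rw [hs, R.UW_inf, finrank_top, finrank_bot, add_zero, R.dim] at h
  omega

omit R in
theorem mem_of_dim_two [Module.Finite (ZMod 2) V] {X : Submodule (ZMod 2) V}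
    (h2 : Module.finrank (ZMod 2) X = 2) {x y : V} (hx : x ∈ X) (hy : y ∈ X) (hx0 : x ≠ 0)
    (hy0 : y ≠ 0) (hxy : x ≠ y) {v : V} (hv : v ∈ X) : v = 0 ∨ v = x ∨ v = y ∨ v = x + y := by
  haveI : Finite V := Module.finite_of_finite (ZMod 2)
  have hne : x + y ≠ 0 := fun e => hxy (by
    calc x = x + y + y := by rw [add_assoc, ZModModule.add_self, add_zero]
      _ = y := by rw [e, zero_add])
  have hsub : ({0, x, y, x + y} : Set V) ⊆ (X : Set V) := by
    rintro w (rfl | rfl | rfl | rfl)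
    exacts [X.zero_mem, hx, hy, X.add_mem hx hy]
  have hX : (X : Set V).ncard = 4 := by
    rw [← Nat.card_coe_set_eq, SetLike.coe_sort_coe, Module.natCard_eq_pow_finrank (K := ZMod 2),
      Nat.card_zmod, h2]
    rfl
  have h4 : ({0, x, y, x + y} : Set V).ncard = 4 := by
    rw [Set.ncard_insert_of_notMem, Set.ncard_insert_of_notMem, Set.ncard_pair]
    · exact fun e => hx0 (add_eq_right.mp e.symm)
    · simp only [Set.mem_insert_iff, Set.mem_singleton_iff, not_or]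
      exact ⟨hxy, fun e => hy0 (left_eq_add.mp e)⟩
    · simp only [Set.mem_insert_iff, Set.mem_singleton_iff, not_or]
      exact ⟨Ne.symm hx0, Ne.symm hy0, Ne.symm hne⟩
  have heq := Set.eq_of_subset_of_ncard_le hsub (by rw [hX, h4]) (Set.toFinite _)
  have : v ∈ ({0, x, y, x + y} : Set V) := heq ▸ hv
  simpa using this

/-- A non-degenerate plane with a fixed-point-free isometry of order three is anisotropic. -/
theorem tri {X : Submodule (ZMod 2) V} (h2 : Module.finrank (ZMod 2) X = 2) {h : A3} (hh : h ∈ H0)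
    (h3 : ∀ v, R.ρ h (R.ρ h (R.ρ h v)) = v) (hX : R.Inv h X)
    (hfree : ∀ v ∈ X, R.ρ h v = v → v = 0)
    (hnd : ∀ d ∈ X, (∀ x ∈ X, R.b d x = 0) → d = 0) :
    ∀ x ∈ X, x ≠ 0 → R.q x = 1 ∧ ∀ y ∈ X, y ≠ 0 → y ≠ x → R.b x y = 1 := by
  haveI := R.findim
  intro x hx hx0
  set y := R.ρ h x with hy
  have hyX : y ∈ X := hX x hx
  have hy0 : y ≠ 0 := fun e => hx0 (R.act_inj hh (by rw [← hy, e, map_zero]))
  have hxy : x ≠ y := fun e => hx0 (hfree x hx e.symm)
  have hz : R.ρ h y = x + y := by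
    rcases mem_of_dim_two h2 hx hyX hx0 hy0 hxy (hX y hyX) with e | e | e | e
    · exact absurd (R.act_inj hh (e.trans (map_zero _).symm)) hy0
    · exfalso
      have e1 := h3 x
      rw [← hy, e] at e1
      exact hxy e1.symm
    · exact absurd (hfree y hyX e) hy0
    · exact e
  have hq : R.q x = R.b x y := by
    have e1 : R.q (x + y) = R.q x := by rw [← hz, R.hq h hh, hy, R.hq h hh]
    rw [R.polar, hy, R.hq h hh, ZModModule.add_self (R.q x), zero_add] at e1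
    exact e1.symm
  have hb : R.b x y = 1 := by
    have : ∀ r : ZMod 2, r = 0 ∨ r = 1 := by decide
    refine (this _).resolve_left fun e => hx0 (hnd x hx fun v hv => ?_)
    rcases mem_of_dim_two h2 hx hyX hx0 hy0 hxy hv with e' | e' | e' | e' <;> rw [e']
    · exact map_zero _
    · exact R.b_self x
    · exact e
    · rw [map_add, R.b_self, e, add_zero]
  refine ⟨hq.trans hb, fun w hw hw0 hwx => ?_⟩
  rcases mem_of_dim_two h2 hx hyX hx0 hy0 hxy hw with e' | e' | e' | e'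
  · exact absurd e' hw0
  · exact absurd e' hwx
  · rw [e']; exact hb
  · rw [e', map_add, R.b_self, hb, zero_add]

omit R in
theorem five_fix [Module.Finite (ZMod 2) V] {X : Submodule (ZMod 2) V}
    (h2 : Module.finrank (ZMod 2) X = 2) (f : Module.End (ZMod 2) V) (hf : ∀ x ∈ X, f x ∈ X)
    (hinj : Function.Injective f) (h5 : ∀ v, f (f (f (f (f v)))) = v) {d : V} (hd : d ∈ X) :
    f d = d := by
  by_contra hne
  have hd0 : d ≠ 0 := fun e => hne (by rw [e, map_zero])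
  have hy0 : f d ≠ 0 := fun e => hd0 (hinj (e.trans (map_zero f).symm))
  have e5 := h5 d
  rcases mem_of_dim_two h2 hd (hf d hd) hd0 hy0 (Ne.symm hne) (hf _ (hf d hd)) with e | e | e | e
  · exact hy0 (hinj (e.trans (map_zero f).symm))
  · rw [e, e] at e5; exact hne e5
  · exact hne (hinj e)
  · rw [e, map_add, e, ← add_assoc, add_comm (f d), add_assoc, ZModModule.add_self, add_zero, e] at e5
    exact hy0 (add_eq_left.mp e5)

theorem eo_adj {σ : Perm (Fin 6)} (hσ : Perm.sign σ = 1) (h3 : σ * (σ * σ) = 1) (v w : V) :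
    R.b (R.eo σ v) w = R.b v (R.eo σ w) := by
  have hi : (ι σ)⁻¹ = ι (σ * σ) := by
    rw [← ι_inv, inv_eq_of_mul_eq_one_right h3]
  have ha : ∀ x y, R.b (R.ρ (ι σ) x) y = R.b x (R.ρ (ι σ) (R.ρ (ι σ) y)) := fun x y => by
    rw [R.b_adj (R.ι_mem hσ), hi, R.ι_act_mul hσ hσ]
  simp only [eo_apply, map_add, LinearMap.add_apply, ha, R.ι_cube hσ h3]
  abel

theorem no_four (hW : R.TrivA R.W) (hU : Module.finrank (ZMod 2) R.U = 4)
    (hne : ¬ R.TrivA R.U) : False := by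
  haveI := R.findim
  have hUA : R.InvA R.U := fun σ hσ => R.inner_inv_U (one_mem_Hin hσ)
  obtain ⟨i, j, hij, hi, hj⟩ := R.two_D hUA hne
  have hsum := R.dim_two (X := R.U) hij
  have hinf : R.D R.U i ⊓ R.D R.U j = ⊥ := by
    rw [Submodule.eq_bot_iff]
    exact fun v hv => R.D_free hij hv.2 (R.mem_D.mp hv.1).2.1
  have hsup : R.D R.U i ⊔ R.D R.U j = R.U := by
    have h := Submodule.finrank_sup_add_finrank_inf_eq (R.D R.U i) (R.D R.U j)
    rw [hinf, finrank_bot, add_zero] at h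
    exact Submodule.eq_of_le_of_finrank_le
      (sup_le (fun v hv => (R.mem_D.mp hv).1) fun v hv => (R.mem_D.mp hv).1) (by omega)
  have hperp : ∀ k l, k ≠ l → ∀ x ∈ R.D R.U k, ∀ y ∈ R.D R.U l, R.b x y = 0 := by
    intro k l hkl x hx y hy
    obtain ⟨-, x2, -⟩ := R.mem_D.mp hx
    obtain ⟨-, y2, y3⟩ := R.mem_D.mp hy
    obtain ⟨sk, sk3, -, -, -, -⟩ := sg_facts k
    have f1 := R.eo_fix sk sk3 y
    have f2 : R.ρ (ι (sg l)) (R.eo (sg k) y) = R.eo (sg k) y := by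
      rw [R.eo_comm sk (sg_facts l).1 (by fin_cases k <;> fin_cases l <;> decide +kernel), y2]
    have f3 := R.fix_two hkl f1 f2
    rw [R.e0_eo, y3] at f3
    rw [← R.eo_self x2, R.eo_adj sk sk3, ← f3, map_zero]
  have hnd : ∀ k l, k ≠ l → R.D R.U k ⊔ R.D R.U l = R.U →
      ∀ d ∈ R.D R.U k, (∀ x ∈ R.D R.U k, R.b d x = 0) → d = 0 := by
    intro k l hkl hkl' d hd hx
    refine R.nondeg d fun v => ?_
    obtain ⟨u, hu, w, hw, rfl⟩ := R.UW_split v
    rw [← hkl'] at hu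
    obtain ⟨p, hp, r, hr, rfl⟩ := Submodule.mem_sup.mp hu
    rw [map_add, map_add, hx p hp, hperp k l hkl d hd r hr,
      R.U_perp_W (R.mem_D.mp hd).1 hw, add_zero, add_zero]
  have hd2 : ∀ k, k = i ∨ k = j → Module.finrank (ZMod 2) (R.D R.U k) = 2 := by
    rintro k (rfl | rfl) <;> omega
  have htri : ∀ k l, (k = i ∧ l = j) ∨ (k = j ∧ l = i) → ∀ x ∈ R.D R.U k, x ≠ 0 →
      R.q x = 1 ∧ ∀ y ∈ R.D R.U k, y ≠ 0 → y ≠ x → R.b x y = 1 := by
    intro k l hkl
    have hne' : k ≠ l := by rcases hkl with ⟨rfl, rfl⟩ | ⟨rfl, rfl⟩ <;> [exact hij; exact hij.symm]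
    have hs : R.D R.U k ⊔ R.D R.U l = R.U := by
      rcases hkl with ⟨rfl, rfl⟩ | ⟨rfl, rfl⟩
      · exact hsup
      · rw [sup_comm]; exact hsup
    exact R.tri (hd2 k (hkl.imp And.left And.left)) (R.ι_mem (sg_facts l).1)
      (R.ι_cube (sg_facts l).1 (sg_facts l).2.1) (R.D_inv_sg hUA k l)
      (fun v hv e => R.D_free hne'.symm hv e) (hnd k l hne' hs)
  obtain ⟨hg, hg5, hg1⟩ := g5_facts
  set f := R.ρ (ι g5) with hf
  have finj : Function.Injective f := R.act_inj (R.ι_mem hg)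
  have f5 : ∀ v, f (f (f (f (f v)))) = v := by
    intro v
    have e : ι g5 * (ι g5 * (ι g5 * (ι g5 * ι g5))) = 1 := by simp only [← ι_mul, hg5]; rfl
    have hm := R.ι_mem hg
    show R.ρ _ (R.ρ _ (R.ρ _ (R.ρ _ (R.ρ _ v)))) = v
    have hk : ∀ n : ℕ, (R.ρ (ι g5))^[n] v = R.ρ (ι g5 ^ n) v := by
      intro n
      induction n with
      | zero => rw [pow_zero, R.act_one]; rfl
      | succ n ih => rw [Function.iterate_succ_apply', ih, pow_succ', R.act_mul hm (H0.pow_mem hm n)]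
    refine (hk 5).trans ?_
    rw [show ι g5 ^ 5 = 1 by simpa [pow_succ', mul_assoc] using e, R.act_one]
  -- a plane goes into one plane
  have hcomp : ∀ k l, (k = i ∧ l = j) ∨ (k = j ∧ l = i) →
      (∀ x ∈ R.D R.U k, f x ∈ R.D R.U i) ∨ (∀ x ∈ R.D R.U k, f x ∈ R.D R.U j) := by
    intro k l hkl
    have hsplit : ∀ x ∈ R.D R.U k, x ≠ 0 → f x ∈ R.D R.U i ∨ f x ∈ R.D R.U j := by
      intro x hx hx0
      have hfx : f x ∈ R.U := hUA _ hg x (R.mem_D.mp hx).1
      rw [← hsup] at hfx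
      obtain ⟨p, hp, r, hr, e⟩ := Submodule.mem_sup.mp hfx
      rcases eq_or_ne p 0 with rfl | hp0
      · rw [zero_add] at e; exact Or.inr (e ▸ hr)
      rcases eq_or_ne r 0 with rfl | hr0
      · rw [add_zero] at e; exact Or.inl (e ▸ hp)
      exfalso
      have e2 : R.q (p + r) = 1 := by rw [e, hf, R.hq _ (R.ι_mem hg)]; exact (htri k l hkl x hx hx0).1
      rw [R.polar, hperp i j hij p hp r hr, (htri i j (Or.inl ⟨rfl, rfl⟩) p hp hp0).1,
        (htri j i (Or.inr ⟨rfl, rfl⟩) r hr hr0).1] at e2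
      exact absurd e2 (by decide)
    by_cases hall : ∀ x ∈ R.D R.U k, f x ∈ R.D R.U i
    · exact Or.inl hall
    push Not at hall
    obtain ⟨x, hx, hxi⟩ := hall
    have hx0 : x ≠ 0 := fun e => hxi (by rw [e, map_zero]; exact zero_mem _)
    have hxj := (hsplit x hx hx0).resolve_left hxi
    refine Or.inr fun y hy => ?_
    rcases eq_or_ne y 0 with rfl | hy0
    · rw [map_zero]; exact zero_mem _
    rcases eq_or_ne y x with rfl | hyx
    · exact hxj
    refine (hsplit y hy hy0).resolve_left fun hyi => ?_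
    have e := hperp i j hij _ hyi _ hxj
    rw [hf, R.b_act (R.ι_mem hg), (htri k l hkl y hy hy0).2 x hx hx0 hyx.symm] at e
    exact one_ne_zero e
  have hU0 : ∀ x ∈ R.U, ∀ k, (∀ p ∈ R.D R.U i, f p ∈ R.D R.U k) → (∀ p ∈ R.D R.U j, f p ∈ R.D R.U k) →
      f x ∈ R.D R.U k := by
    intro x hx k h1 h2
    rw [← hsup] at hx
    obtain ⟨p, hp, r, hr, rfl⟩ := Submodule.mem_sup.mp hx
    rw [map_add]; exact add_mem (h1 p hp) (h2 r hr)
  have hnot : ∀ k, (k = i ∨ k = j) → (∀ p ∈ R.D R.U i, f p ∈ R.D R.U k) →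
      (∀ p ∈ R.D R.U j, f p ∈ R.D R.U k) → False := by
    intro k hk h1 h2
    have h4 : R.U.map f ≤ R.D R.U k := by
      rintro _ ⟨x, hx, rfl⟩
      exact hU0 x hx k h1 h2
    have h5 := Submodule.finrank_mono h4
    rw [← LinearEquiv.finrank_eq (Submodule.equivMapOfInjective _ finj R.U), hd2 k hk, hU] at h5
    omega
  have hkeep : (∀ x ∈ R.D R.U i, f x ∈ R.D R.U i) ∧ (∀ x ∈ R.D R.U j, f x ∈ R.D R.U j) := by
    rcases hcomp i j (Or.inl ⟨rfl, rfl⟩) with h1 | h1 <;> rcases hcomp j i (Or.inr ⟨rfl, rfl⟩) with h2 | h2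
    · exact (hnot i (Or.inl rfl) h1 h2).elim
    · exact ⟨h1, h2⟩
    · exfalso
      obtain ⟨d, hd, hd0⟩ := Submodule.exists_mem_ne_zero_of_ne_bot
        (p := R.D R.U i) (fun e => by rw [e, finrank_bot] at hi; omega)
      have := h1 _ (h2 _ (h1 _ (h2 _ (h1 d hd))))
      rw [f5] at this
      exact hd0 (R.D_free hij this (R.mem_D.mp hd).2.1)
    · exact (hnot j (Or.inr rfl) h1 h2).elim
  apply hne
  refine R.triv_of_one hUA hg hg1 fun x hx => ?_
  rw [← hsup] at hx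
  obtain ⟨p, hp, r, hr, rfl⟩ := Submodule.mem_sup.mp hx
  rw [map_add, five_fix (hd2 i (Or.inl rfl)) f hkeep.1 finj f5 hp,
    five_fix (hd2 j (Or.inr rfl)) f hkeep.2 finj f5 hr]

theorem dichotomy : R.U0 ∨ R.K1 := by
  haveI := R.findim
  have hd := R.UW_dim
  by_cases hU : R.U = ⊥
  · refine Or.inl fun v hv => ?_
    have : v ∈ R.U := R.mem_fix.mpr hv
    rwa [hU, Submodule.mem_bot] at this
  refine Or.inr ?_
  have hUpos : Module.finrank (ZMod 2) R.U ≠ 0 := fun e => hU (Submodule.finrank_eq_zero.mp e)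
  have hWA : R.InvA R.W := fun σ hσ => R.inner_inv_W (one_mem_Hin hσ)
  have hUA : R.InvA R.U := fun σ hσ => R.inner_inv_U (one_mem_Hin hσ)
  obtain ⟨m, hm⟩ := R.even_dim R.a0_H0 a0_three (R.inner_inv_W a0_mem) fun v hv => R.W_free hv
  have hW : R.TrivA R.W :=
    R.triv_of_small hWA (R.inner_inv_W a0_mem) (fun v hv => R.W_free hv) (by omega)
  have hUn : ¬ R.TrivA R.U := by
    intro hU'
    obtain ⟨hx, -, hx1⟩ := x9_facts
    refine hx1 (congrArg Prod.snd (R.faith _ (R.ι_mem hx) (LinearMap.ext fun v => ?_)))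
    obtain ⟨u, hu, w, hw, rfl⟩ := R.UW_split v
    show R.ρ (ι x9) (u + w) = u + w
    rw [map_add, hU' _ hx u hu, hW _ hx w hw]
  have hW0 : Module.finrank (ZMod 2) R.W ≠ 0 := by
    intro e
    refine a0_ne (R.faith _ R.a0_H0 (LinearMap.ext fun v => ?_))
    obtain ⟨u, hu, w, hw, rfl⟩ := R.UW_split v
    rw [Submodule.finrank_eq_zero.mp e, Submodule.mem_bot] at hw
    show R.ρ a0 (u + w) = u + w
    rw [hw, add_zero, R.mem_fix.mp hu]
  obtain ⟨i, j, hij, hi, hj⟩ := R.two_D hUA hUn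
  have h2 := R.dim_two (X := R.U) hij
  have h4 : Module.finrank (ZMod 2) R.U ≠ 4 := fun e => R.no_four hW e hUn
  exact ⟨by omega, by omega, hW⟩

theorem W_q (hk : R.K1) {w : V} (hw : w ∈ R.W) (hw0 : w ≠ 0) : R.q w = 1 := by
  have c3 := R.a_cube
  refine (R.tri hk.2.1 R.a0_H0 c3 (R.inner_inv_W a0_mem) (fun v hv => R.W_free hv) ?_ w hw hw0).1
  intro d hd hx
  refine R.nondeg d fun v => ?_
  obtain ⟨u, hu, x, hx', rfl⟩ := R.UW_split v
  rw [map_add, hx x hx', R.b_symm d u, R.U_perp_W hu hd, add_zero]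

theorem outer_W (hk : R.K1) {h : A3} (hh : h ∈ H0) (hn : h ∉ Hin) :
    ∃ v ∈ R.W, R.ρ h v + v ∈ R.W ∧ R.ρ h v + v ≠ 0 := by
  by_contra hno
  push Not at hno
  have hfix : ∀ v ∈ R.W, R.ρ h v = v := fun v hv => by
    have e := hno v hv (R.W.add_mem (R.inv_W hh v hv) hv)
    calc R.ρ h v = R.ρ h v + v + v := by rw [add_assoc, ZModModule.add_self, add_zero]
      _ = v := by rw [e, zero_add]
  obtain ⟨w, hw, hw0⟩ := Submodule.exists_mem_ne_zero_of_ne_bot
    (p := R.W) (fun e => by have := hk.2.1; rw [e, finrank_bot] at this; omega)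
  have e := R.outer_a hh hn w
  rw [hfix _ (R.inner_inv_W a0_mem w hw), hfix w hw] at e
  exact hw0 (R.W_free hw (R.act_inj R.a0_H0 e).symm)

theorem W_trivial_inner (hk : R.K1) {h : A3} (hh : h ∈ Hin) (h2 : h * h = 1) {w : V}
    (hw : w ∈ R.W) : R.ρ h w = w := by
  rw [(inner_inv hh h2).1]
  exact hk.2.2 h.2 (mem_Hin.mp hh).2 w hw

theorem rank_k1 (hk : R.K1) {h : A3} (hh : h ∈ Hin) (h2 : h * h = 1) :
    Module.finrank (ZMod 2) (R.rng h) ≤ 2 := by
  haveI := R.findim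
  obtain ⟨e, h22⟩ := inner_inv hh h2
  rcases eq_or_ne h.2 1 with h1 | h1
  · have : R.rng h = ⊥ := by
      rw [Submodule.eq_bot_iff]
      rintro _ ⟨v, rfl⟩
      show R.ρ h v + v = 0
      rw [e, h1, show ((1, 1) : A3) = 1 from rfl, R.act_one, ZModModule.add_self]
    rw [this, finrank_bot]; omega
  obtain ⟨y, hy, hyy⟩ := exists_sqrt (mem_Hin.mp hh).2 h22 h1
  set N : Module.End (ZMod 2) V := R.ρ (ι y) + 1 with hN
  have hNapp : ∀ v, N v = R.ρ (ι y) v + v := fun v => rfl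
  have hNN : ∀ v, N (N v) = R.ρ h v + v := by
    intro v
    rw [hNapp, hNapp, map_add, ← R.ι_act_mul hy hy, hyy, show ι h.2 = h from e.symm]
    calc R.ρ h v + R.ρ (ι y) v + (R.ρ (ι y) v + v)
        = R.ρ h v + v + (R.ρ (ι y) v + R.ρ (ι y) v) := by abel
      _ = _ := by rw [ZModModule.add_self, add_zero]
  let S : ℕ → Submodule (ZMod 2) V := fun n => Nat.rec (motive := fun _ => Submodule (ZMod 2) V) R.U (fun _ X => X.map N) n
  have hS : ∀ n, S (n + 1) ≤ S n := by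
    intro n
    induction n with
    | zero =>
      rintro _ ⟨v, hv, rfl⟩
      exact R.U.add_mem (R.inner_inv_U (one_mem_Hin hy) v hv) hv
    | succ n ih => exact Submodule.map_mono ih
  have hsplit : ∀ n, Module.finrank (ZMod 2) (S (n + 1)) +
      Module.finrank (ZMod 2) (S n ⊓ LinearMap.ker N : Submodule _ V) =
      Module.finrank (ZMod 2) ↥(S n : Submodule (ZMod 2) V) := fun n => R.finrank_split (X := S n) N
  have hmono : ∀ n, Module.finrank (ZMod 2) (S (n + 1) ⊓ LinearMap.ker N : Submodule _ V) ≤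
      Module.finrank (ZMod 2) (S n ⊓ LinearMap.ker N : Submodule _ V) := fun n =>
    Submodule.finrank_mono (inf_le_inf_right _ (hS n))
  have h4 : Module.finrank (ZMod 2) (S 4) = 0 := by
    rw [Submodule.finrank_eq_zero, Submodule.eq_bot_iff]
    rintro _ ⟨_, ⟨_, ⟨_, ⟨v, -, rfl⟩, rfl⟩, rfl⟩, rfl⟩
    rw [hNN, hNN, map_add, R.act_inv2 (Hin_le hh) h2, add_comm v, ZModModule.add_self]
  have hle : R.rng h ≤ S 2 := by
    rintro _ ⟨v, rfl⟩
    obtain ⟨u, hu, w, hw, rfl⟩ := R.UW_split v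
    refine ⟨N u, ⟨u, hu, rfl⟩, ?_⟩
    rw [hNN]
    show R.ρ h u + u = R.ρ h (u + w) + (u + w)
    rw [map_add, R.W_trivial_inner hk hh h2 hw]
    calc R.ρ h u + u = R.ρ h u + u + (w + w) := by rw [ZModModule.add_self, add_zero]
      _ = _ := by abel
  have := Submodule.finrank_mono hle
  have h0 : Module.finrank (ZMod 2) (S 0) = 6 := hk.1
  have := hsplit 0; have := hsplit 1; have := hsplit 2; have := hsplit 3
  have := hmono 0; have := hmono 1; have := hmono 2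
  simp only [Nat.reduceAdd] at *
  omega

theorem outer_fix_four (hu : R.U0) {h : A3} (hh : h ∈ H0) (hn : h ∉ Hin) (h2 : h * h = 1) :
    Module.finrank (ZMod 2) (R.fix h) = 4 := by
  have e := R.outer_half hh hn h2 (X := ⊤) (fun _ _ => trivial) (fun _ _ => trivial)
    (fun v _ => hu v)
  rw [top_inf_eq, finrank_top, R.dim] at e
  omega

theorem finrank_fix_conj {g h : A3} (hg : g ∈ H0) (hh : h ∈ H0) :
    Module.finrank (ZMod 2) (R.fix h) = Module.finrank (ZMod 2) (R.fix (g * h * g⁻¹)) := by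
  haveI := R.findim
  have key : ∀ g h : A3, g ∈ H0 → h ∈ H0 →
      Module.finrank (ZMod 2) (R.fix h) ≤ Module.finrank (ZMod 2) (R.fix (g * h * g⁻¹)) := by
    intro g h hg hh
    rw [LinearEquiv.finrank_eq (Submodule.equivMapOfInjective _ (R.act_inj hg) (R.fix h))]
    refine Submodule.finrank_mono ?_
    rintro _ ⟨v, hv, rfl⟩
    rw [R.mem_fix, ← R.act_mul (H0.mul_mem (H0.mul_mem hg hh) (H0.inv_mem hg)) hg,
      inv_mul_cancel_right, R.act_mul hg hh, R.mem_fix.mp hv]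
  refine le_antisymm (key g h hg hh) ?_
  have e := key g⁻¹ (g * h * g⁻¹) (H0.inv_mem hg) (H0.mul_mem (H0.mul_mem hg hh) (H0.inv_mem hg))
  rwa [show g⁻¹ * (g * h * g⁻¹) * g⁻¹⁻¹ = h by group] at e

theorem x9_fix_four (hu : R.U0) : Module.finrank (ZMod 2) (R.fix (ι x9)) = 4 := by
  haveI := R.findim
  obtain ⟨hx, hxx, hx1⟩ := x9_facts
  have hxH := R.ι_mem hx
  have hxs : ι x9 * ι x9 = 1 := by rw [← ι_mul, hxx]; rfl
  have hA : R.InvA ⊤ := fun _ _ _ _ => trivial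
  have hne : ¬ R.TrivA ⊤ := fun h =>
    hx1 (congrArg Prod.snd (R.faith _ hxH (LinearMap.ext fun v => h _ hx v trivial)))
  obtain ⟨i, j, hij, hi, hj⟩ := R.two_D hA hne
  have hd := fun k => R.D_ne_two hA (fun _ _ => trivial) (fun v _ => hu v) k
  have hi' := hd i; have hj' := hd j
  obtain ⟨m, hm⟩ := R.D_even hA i
  obtain ⟨n, hn⟩ := R.D_even hA j
  obtain ⟨k, hki, hkj⟩ : ∃ k : Fin 4, k ≠ i ∧ k ≠ j := by
    clear * - ; revert i j; decide
  have h3 : Module.finrank (ZMod 2) (R.C0 (⊤ : Submodule (ZMod 2) V)) = 0 ∧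
      Module.finrank (ZMod 2) (R.D (⊤ : Submodule (ZMod 2) V) k) = 0 := by
    have h1 := R.dim_sum (X := (⊤ : Submodule (ZMod 2) V))
    have h2 : ∑ l ∈ ({i, j, k} : Finset (Fin 4)), Module.finrank (ZMod 2) (R.D ⊤ l) ≤
        ∑ l, Module.finrank (ZMod 2) (R.D ⊤ l) :=
      Finset.sum_le_sum_of_subset (Finset.subset_univ _)
    rw [Finset.sum_insert (by simp [hij, hki.symm]), Finset.sum_pair hkj.symm] at h2
    rw [finrank_top, R.dim] at h1
    omega
  obtain ⟨sk, sk3, -, hje, -, -⟩ := sg_facts k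
  have hzero : ∀ v, R.ρ (ι (sg k)) v = v → v = 0 := by
    intro v hv
    have e0m : R.e0 v ∈ R.C0 ⊤ :=
      ⟨⟨trivial, R.mem_fix.mpr (R.e0_fix v).1⟩, R.mem_fix.mpr (R.e0_fix v).2⟩
    rw [Submodule.finrank_eq_zero.mp h3.1, Submodule.mem_bot] at e0m
    have hm' : v ∈ R.D ⊤ k := R.mem_D.mpr ⟨trivial, hv, e0m⟩
    rwa [Submodule.finrank_eq_zero.mp h3.2, Submodule.mem_bot] at hm'
  set F := R.fix (ι x9) with hF
  have hinf : F ⊓ F.map (R.ρ (ι (sg k))) = ⊥ := by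
    rw [Submodule.eq_bot_iff]
    rintro _ ⟨h4, w, hw, rfl⟩
    have e : x9 * sg k = sg k * sg k * x9 := by rw [← hje, mul_assoc _ x9, hxx, mul_one]
    have e1 := R.mem_fix.mp h4
    rw [← R.ι_act_mul hx sk, e, R.ι_act_mul (by simp [sk]) hx, R.mem_fix.mp hw,
      R.ι_act_mul sk sk] at e1
    rw [hzero w (R.act_inj (R.ι_mem sk) e1), map_zero]
  have h4 := Submodule.finrank_sup_add_finrank_inf_eq F (F.map (R.ρ (ι (sg k))))
  rw [hinf, finrank_bot, add_zero,
    ← LinearEquiv.finrank_eq (Submodule.equivMapOfInjective _ (R.act_inj (R.ι_mem sk)) F)] at h4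
  have h5 := Submodule.finrank_le (F ⊔ F.map (R.ρ (ι (sg k))))
  rw [R.dim] at h5
  have h6 := R.half_le hxH hxs (X := ⊤) (fun _ _ => trivial)
  rw [top_inf_eq, finrank_top, R.dim, ← hF] at h6
  omega

/-- In the fixed-point-free case every inner involution fixes a four-dimensional space. -/
theorem inner_fix_four (hu : R.U0) {h : A3} (hh : h ∈ Hin) (h2 : h * h = 1) (h1 : h ≠ 1) :
    Module.finrank (ZMod 2) (R.fix h) = 4 := by
  obtain ⟨e, h22⟩ := inner_inv hh h2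
  obtain ⟨g, hg, hgx⟩ := conj_x0 h.2 (mem_Hin.mp hh).2 h22 fun e' => h1 (by rw [e, e']; rfl)
  obtain ⟨k, hk, hkx⟩ := conj_x0 x9 x9_facts.1 x9_facts.2.1 x9_facts.2.2
  have e1 : ι g * h * (ι g)⁻¹ = ι x0 := by
    rw [e, ← ι_inv, ← ι_mul, ← ι_mul, hgx]
  have e2 : ι k * ι x9 * (ι k)⁻¹ = ι x0 := by
    rw [← ι_inv, ← ι_mul, ← ι_mul, hkx]
  rw [R.finrank_fix_conj (R.ι_mem hg) (Hin_le hh), e1, ← e2,
    ← R.finrank_fix_conj (R.ι_mem hk) (R.ι_mem x9_facts.1)]
  exact R.x9_fix_four hu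

/-- An element of order three of the alternating factor does not fix exactly a plane. -/
theorem three_fix_ne_two (hu : R.U0) {σ : Perm (Fin 6)} (hσ : Perm.sign σ = 1)
    (h3 : σ * (σ * σ) = 1) (h1 : σ ≠ 1) :
    Module.finrank (ZMod 2) (R.fix (ι σ)) ≠ 2 := by
  intro h2
  haveI := R.findim
  obtain ⟨x, hx, hxx, -, hxs⟩ := real_three σ hσ h3 h1
  set Y : Submodule (ZMod 2) V := LinearMap.ker (R.eo σ) with hYdef
  have hrange : LinearMap.range (R.eo σ) = R.fix (ι σ) := by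
    apply le_antisymm
    · rintro _ ⟨v, rfl⟩; exact R.mem_fix.mpr (R.eo_fix hσ h3 v)
    · exact fun v hv => ⟨v, R.eo_self (R.mem_fix.mp hv)⟩
  have hY := LinearMap.finrank_range_add_finrank_ker (R.eo σ)
  rw [hrange, h2, R.dim, ← hYdef] at hY
  have hxe : x * σ = σ * σ * x := by rw [← hxs, mul_assoc _ x, hxx, mul_one]
  have hxσ : ∀ v, R.ρ (ι x) (R.ρ (ι σ) v) = R.ρ (ι σ) (R.ρ (ι σ) (R.ρ (ι x) v)) := fun v => by
    rw [← R.ι_act_mul hx hσ, hxe, R.ι_act_mul (by simp [hσ]) hx, R.ι_act_mul hσ hσ]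
  have hYx : R.Inv (ι x) Y := fun v hv => by
    have e : R.eo σ v = 0 := hv
    show R.eo σ (R.ρ (ι x) v) = 0
    have e2 : R.ρ (ι x) (R.eo σ v) = R.eo σ (R.ρ (ι x) v) := by
      simp only [eo_apply, map_add, hxσ, R.ι_cube hσ h3]; abel
    rw [← e2, e, map_zero]
  have hYσ : R.Inv (ι σ) Y := fun v hv => by
    have e : R.eo σ v = 0 := hv
    show R.eo σ (R.ρ (ι σ) v) = 0
    rw [← R.eo_comm hσ hσ rfl, e, map_zero]
  have hYa : R.Inv a0 Y := fun v hv => by
    have e : R.eo σ v = 0 := hv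
    show R.eo σ (R.ρ a0 v) = 0
    have e2 : R.ρ a0 (R.eo σ v) = R.eo σ (R.ρ a0 v) := by
      simp only [eo_apply, map_add, R.a_comm (one_mem_Hin hσ)]
    rw [← e2, e, map_zero]
  set F := Y ⊓ R.fix (ι x) with hF
  obtain ⟨m, hm⟩ := R.even_dim R.a0_H0 a0_three (X := F)
    (fun v hv => ⟨hYa v hv.1, R.a_inv_fix (one_mem_Hin hx) v hv.2⟩) fun v _ => hu v
  have hxs2 : ι x * ι x = 1 := by rw [← ι_mul, hxx]; rfl
  have h6 := R.half_le (R.ι_mem hx) hxs2 hYx
  rw [← hF] at h6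
  have hinf : F ⊓ F.map (R.ρ (ι σ)) = ⊥ := by
    rw [Submodule.eq_bot_iff]
    rintro _ ⟨h4, w, hw, rfl⟩
    have e1 := R.mem_fix.mp h4.2
    rw [hxσ, R.mem_fix.mp hw.2] at e1
    have e2 : R.ρ (ι σ) w = w := R.act_inj (R.ι_mem hσ) e1
    have e3 : R.eo σ w = 0 := hw.1
    rw [R.eo_self e2] at e3
    rw [e3, map_zero]
  have h4 := Submodule.finrank_sup_add_finrank_inf_eq F (F.map (R.ρ (ι σ)))
  rw [hinf, finrank_bot, add_zero,
    ← LinearEquiv.finrank_eq (Submodule.equivMapOfInjective _ (R.act_inj (R.ι_mem hσ)) F)] at h4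
  have h5 : Module.finrank (ZMod 2) (F ⊔ F.map (R.ρ (ι σ)) : Submodule _ V) ≤
      Module.finrank (ZMod 2) Y :=
    Submodule.finrank_mono (sup_le inf_le_left (by
      rintro _ ⟨w, hw, rfl⟩; exact hYσ w hw.1))
  omega

end Rep

end Cfsg.Agent.S3284Model23
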