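import Cfsg.Agent.Lib.S4FreeFactor
import Cfsg.Agent.Lib.ConjFunctorMain

/-!
Control of 2-fusion in an `S₄`-free group by the functors `Ω₁(Z(Ĵ))` and `J`, and the strongly
closed abelian subgroup it yields.
-/

set_option autoImplicit false
set_option linter.style.haveILetI false

namespace Cfsg.Agent.S4FreeFusion

open Subgroup GlaubermanZJ EGroupJHat S4FreeFactor S4FreeFactorMin S4FreeFactorTools
  ConjFunctorBasic ConjFunctorControl ConjFunctorSection
open SylowTwoNormKGroup (CompK)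

universe u

/-- `Ω₁(Z(Ĵ(Q)))` of a group. -/
def wFun : ∀ (Q : Type u) [Group Q], Subgroup Q := fun Q _ => jW (⊤ : Subgroup Q)

/-- The Thompson subgroup of a group. -/
def jFun : ∀ (Q : Type u) [Group Q], Subgroup Q := fun Q _ => thomJ 2 (⊤ : Subgroup Q)

/-- The pair. -/
def pair : Set (∀ (Q : Type u) [Group Q], Subgroup Q) := {wFun, jFun}

variable {G : Type u} [Group G] [Finite G]

omit [Finite G] in
theorem wFun_induced (P : Subgroup G) : Cfsg.inducedFunctor (G := G) wFun P = jW P := by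
  rw [Cfsg.inducedFunctor, wFun, ← jW_map P.subtype_injective, ← MonoidHom.range_eq_map, range_subtype]

omit [Finite G] in
theorem jFun_induced (P : Subgroup G) : Cfsg.inducedFunctor (G := G) jFun P = thomJ 2 P := by
  rw [Cfsg.inducedFunctor, jFun, ← thomJ_map P.subtype_injective, ← MonoidHom.range_eq_map, range_subtype]

/-- A central element of order dividing 2 lies in `J`. -/
theorem mem_thomJ_of_central {P : Subgroup G} {z : G} (hz : z ∈ P) (hc : z ∈ centralizer (P : Set G))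
    (h2 : z ^ 2 = 1) : z ∈ thomJ 2 P := by
  obtain ⟨B, hB⟩ := exists_maxFam 2 P
  exact le_thomJ hB (mem_of_commute hB hz h2 fun a ha => hc a (hB.1.le ha))

theorem mem_jW_of_central {P : Subgroup G} {z : G} (hz : z ∈ P) (hc : z ∈ centralizer (P : Set G))
    (h2 : z ^ 2 = 1) : z ∈ jW P :=
  mem_jW (thomJ_le_jT P (mem_thomJ_of_central hz hc h2)) (centralizer_le (jT_le P) hc) h2

theorem isChar_pair : ∀ W ∈ pair.{u}, Cfsg.IsCharPFunctor.{u} 2 W := by
  haveI : Fact (Nat.Prime 2) := ⟨Nat.prime_two⟩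
  have hz : ∀ (Q : Type u) [Group Q] [Finite Q], IsPGroup 2 Q → Nontrivial Q →
      ∃ z : Q, z ≠ 1 ∧ z ∈ centralizer ((⊤ : Subgroup Q) : Set Q) ∧ z ^ 2 = 1 := by
    intro Q _ _ hQ hn
    haveI := hn
    haveI := hQ.center_nontrivial
    obtain ⟨n, hn0, hcard⟩ := (hQ.to_subgroup (center Q)).nontrivial_iff_card.mp inferInstance
    obtain ⟨t, ht⟩ := exists_prime_orderOf_dvd_card' (G := center Q) 2 (hcard ▸ dvd_pow_self 2 hn0.ne')
    refine ⟨(t : Q), fun h => ?_, fun a _ => mem_center_iff.mp t.2 a, ?_⟩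
    · rw [show t = 1 from Subtype.ext h, orderOf_one] at ht
      omega
    · exact congrArg Subtype.val (ht ▸ pow_orderOf_eq_one t : t ^ 2 = 1)
  intro W hW
  rcases hW with rfl | rfl
  · refine ⟨fun Q _ _ hQ hn h => ?_, fun Q R _ _ _ _ φ => ?_⟩
    · obtain ⟨z, h1, h2, h3⟩ := hz Q hQ hn
      exact h1 (mem_bot.mp (h ▸ mem_jW_of_central (mem_top z) h2 h3 : z ∈ (⊥ : Subgroup Q)))
    · show (jW (⊤ : Subgroup Q)).map φ.toMonoidHom = jW (⊤ : Subgroup R)
      rw [← jW_map φ.injective, map_top_of_surjective _ φ.surjective]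
  · refine ⟨fun Q _ _ hQ hn h => ?_, fun Q R _ _ _ _ φ => ?_⟩
    · obtain ⟨z, h1, h2, h3⟩ := hz Q hQ hn
      exact h1 (mem_bot.mp (h ▸ mem_thomJ_of_central (mem_top z) h2 h3 : z ∈ (⊥ : Subgroup Q)))
    · show (thomJ 2 (⊤ : Subgroup Q)).map φ.toMonoidHom = thomJ 2 (⊤ : Subgroup R)
      rw [← thomJ_map φ.injective, map_top_of_surjective _ φ.surjective]

/-- The pair controls fusion in a group of characteristic 2. -/
theorem controls_of_char (hchar : centralizer (Cfsg.pCore 2 G : Set G) ≤ Cfsg.pCore 2 G)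
    (hfree : ¬ Cfsg.Involves (Equiv.Perm (Fin 4)) G) (hK : CompK G) :
    Cfsg.FamilyControlsStrongFusionIn 2 (img pair G) ⊤ := by
  haveI : Fact (Nat.Prime 2) := ⟨Nat.prime_two⟩
  obtain ⟨S⟩ : Nonempty (Sylow 2 G) := inferInstance
  refine famControls_iff.mpr ⟨(S : Subgroup G), isSylowIn_top S, fun Q hQ g _ hgQ => ?_⟩
  have hgood := good_of_char S hchar hfree hK
  set C := centralizer (clo S : Set G) with hC
  haveI : C.Normal := inferInstance
  have hJC : thomJ 2 (S : Subgroup G) ≤ C :=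
    le_centralizer_iff.mp ((clo_le_iff S).mpr fun a => le_centralizer_iff.mp (hgood a))
  have hWC : C ≤ centralizer (jW (S : Subgroup G) : Set G) := centralizer_le subset_normalClosure
  obtain ⟨n, hn, k, hk, hgk⟩ := exists_frattini S C g
  set k' := n * k * n⁻¹ with hk'
  have hk'C : k' ∈ C := Normal.conj_mem inferInstance k hk n
  have hg : g = k' * n := by rw [hgk, hk']; group
  set D := (S : Subgroup G) ⊓ C with hD
  have hSD : (S : Subgroup G) ≤ normalizer (D : Set G) := fun s hs => by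
    refine mem_normalizer_of_cmap_le (cmap_le_iff.mpr fun x hx => mem_inf.mpr ⟨?_, Normal.conj_mem inferInstance x hx.2 s⟩)
    exact mul_mem (mul_mem hs hx.1) (inv_mem hs)
  set L := (C ⊔ (S : Subgroup G)) ⊓ normalizer (D : Set G) with hL
  have hSL : IsSylowIn 2 (S : Subgroup G) L := (isSylowIn_top S).mono (le_inf le_sup_right hSD) le_top
  have hnQ : cmap n Q ≤ L := by
    refine cmap_le_iff.mpr fun x hx => mem_inf.mpr ⟨?_, mul_mem (mul_mem hn (hSD (hQ hx))) (inv_mem hn)⟩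
    have h1 : g * x * g⁻¹ ∈ C ⊔ (S : Subgroup G) := mem_sup_right (hgQ (conj_mem_cmap hx))
    have h2 : k' ∈ C ⊔ (S : Subgroup G) := mem_sup_left hk'C
    rw [show n * x * n⁻¹ = k'⁻¹ * (g * x * g⁻¹) * k' by rw [hg]; group]
    exact mul_mem (mul_mem (inv_mem h2) h1) h2
  obtain ⟨y, hy, hyQ⟩ := hSL.exists_conj_le (isPGroup_cmap (isPGroup_mono S.isPGroup' hQ)) hnQ
  obtain ⟨s, hs, x, hx, hyx⟩ : ∃ s ∈ (S : Subgroup G), ∃ x ∈ C, y = s * x := by
    have h1 : y ∈ (S : Subgroup G) ⊔ C := sup_comm C (S : Subgroup G) ▸ hy.1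
    obtain ⟨a, ha, b, hb, h⟩ := mem_sup_of_normal_right.mp h1
    exact ⟨a, ha, b, hb, h.symm⟩
  have hxQ : cmap x (cmap n Q) ≤ (S : Subgroup G) := cmap_le_iff.mpr fun q hq => by
    have h1 : y * q * y⁻¹ ∈ (S : Subgroup G) := hyQ (conj_mem_cmap hq)
    rw [show x * q * x⁻¹ = s⁻¹ * (y * q * y⁻¹) * s by rw [hyx]; group]
    exact mul_mem (mul_mem (inv_mem hs) h1) hs
  rw [← cmap_mul] at hxQ
  have hxD : x ∈ normalizer (D : Set G) := by
    rw [show x = s⁻¹ * y by rw [hyx]; group]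
    exact mul_mem (inv_mem (hSD hs)) hy.2
  have hxnJ : x * n ∈ normalizer (thomJ 2 (S : Subgroup G) : Set G) := by
    have h := normalizer_le_thomJ (n := 2) _ (mul_mem hxD hn)
    rwa [thomJ_eq_of_le inf_le_left (le_inf (thomJ_le _) hJC)] at h
  refine ⟨g, (Relation.ReflTransGen.single (b := x * n) ⟨⟨_, ⟨jFun, Or.inr rfl, rfl⟩, mem_inf.mpr ⟨mem_top _, ?_⟩⟩,
    by rwa [cmap_one], hxQ⟩).tail ⟨⟨_, ⟨wFun, Or.inl rfl, rfl⟩, mem_inf.mpr ⟨mem_top _, ?_⟩⟩, hxQ, hgQ⟩,
    fun _ _ => rfl⟩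
  · show g * (x * n)⁻¹ ∈ normalizer ((Cfsg.inducedFunctor (G := G) wFun (S : Subgroup G) : Subgroup G) : Set G)
    rw [wFun_induced, show g * (x * n)⁻¹ = k' * x⁻¹ by rw [hg]; group]
    exact centralizer_le_normalizer _ (hWC (mul_mem hk'C (inv_mem hx)))
  · show x * n * 1⁻¹ ∈ normalizer ((Cfsg.inducedFunctor (G := G) jFun (S : Subgroup G) : Subgroup G) : Set G)
    simpa [jFun_induced] using hxnJ

variable (hfree : ¬ Cfsg.Involves (Equiv.Perm (Fin 4)) G)
  (hsec : ∀ (K R : Subgroup G) [(R.subgroupOf K).Normal],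
    centralizer (Cfsg.pCore 2 (K ⧸ R.subgroupOf K) : Set (K ⧸ R.subgroupOf K)) ≤
      Cfsg.pCore 2 (K ⧸ R.subgroupOf K) → CompK (K ⧸ R.subgroupOf K))
  (S : Sylow 2 G)

include hfree hsec

/-- The pair controls fusion in the whole group. -/
theorem controls : Cfsg.FamilyControlsStrongFusionIn 2 (img pair G) ⊤ := by
  haveI : Fact (Nat.Prime 2) := ⟨Nat.prime_two⟩
  refine ConjFunctorMain.fusion_main isChar_pair fun K R _ hc => controls_of_char hc (fun h => ?_)
    (hsec K R hc)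
  exact hfree (involves_subgroup K (involves_quotient _ h))

/-- `Ω₁(Z(S))` is moved by `N(J(S))` inside `Ω₁(Z(Ĵ(S)))`. -/
theorem conj_mem_jW {z g : G} (hz : z ∈ (S : Subgroup G)) (hzc : z ∈ centralizer ((S : Subgroup G) : Set G))
    (hz2 : z ^ 2 = 1) (hg : g ∈ normalizer (thomJ 2 (S : Subgroup G) : Set G)) :
    g * z * g⁻¹ ∈ jW (S : Subgroup G) := by
  haveI : Fact (Nat.Prime 2) := ⟨Nat.prime_two⟩
  set J := thomJ 2 (S : Subgroup G) with hJ
  set N := normalizer (J : Set G) with hN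
  set C := centralizer (J : Set G) with hC
  set T := (S : Subgroup G) ⊓ C with hT
  have hzJ : z ∈ J := mem_thomJ_of_central hz hzc hz2
  have hSN : (S : Subgroup G) ≤ N := le_normalizer.trans (normalizer_le_thomJ _)
  have hNC : N ≤ normalizer (C : Set G) := fun a ha =>
    mem_normalizer_of_cmap_le (cmap_le_iff.mpr fun c hc b hb => by
      have h1 : a⁻¹ * b * a ∈ J := by
        simpa using (mem_normalizer_iff.mp (inv_mem ha) b).mp hb
      calc b * (a * c * a⁻¹) = a * ((a⁻¹ * b * a) * c) * a⁻¹ := by group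
        _ = a * (c * (a⁻¹ * b * a)) * a⁻¹ := by rw [hc _ h1]
        _ = _ := by group)
  have hTC : IsSylowIn 2 T C := by
    refine ⟨inf_le_right, isPGroup_mono S.isPGroup' inf_le_left, ?_⟩
    have hCN : C ≤ N := centralizer_le_normalizer _
    have h1 : IsSylowIn 2 ((S : Subgroup G).subgroupOf N) ⊤ := by
      have := isSylowIn_top (S.subtype hSN)
      rwa [Sylow.coe_subtype] at this
    haveI : (C.subgroupOf N).Normal := normal_subgroupOf_of_le_normalizer hNC
    have h2 := CentralSylow.not_dvd_relIndex_normal (S.subtype hSN) (C.subgroupOf N)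
    have h3 := relIndex_map_map_of_injective ((S.subtype hSN : Subgroup N) ⊓ C.subgroupOf N)
      (C.subgroupOf N) N.subtype_injective
    rw [← h3, Subgroup.map_inf _ _ _ N.subtype_injective, Sylow.coe_subtype, subgroupOf_map_subtype,
      subgroupOf_map_subtype, inf_eq_left.mpr hSN, inf_eq_left.mpr hCN] at h2
    exact h2
  obtain ⟨c, hc, m, hm, hgm⟩ := ConjFunctorMaster.frattini_split hTC hNC hg
  have hmN : m ∈ N := by
    rw [show m = c⁻¹ * g by rw [hgm]; group]
    exact mul_mem (inv_mem (centralizer_le_normalizer _ hc)) hg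
  have hmzJ : m * z * m⁻¹ ∈ J := (mem_normalizer_iff.mp hmN z).mp hzJ
  have hgz : g * z * g⁻¹ = m * z * m⁻¹ := by
    calc g * z * g⁻¹ = c * (m * z * m⁻¹) * c⁻¹ := by rw [hgm]; group
      _ = (m * z * m⁻¹) * c * c⁻¹ := by rw [hc _ hmzJ]
      _ = _ := mul_inv_cancel_right _ _
  rw [hgz]
  -- the group `M` and its quotient by the odd core
  set M := N ⊓ normalizer (T : Set G) with hM
  have hSC : (S : Subgroup G) ≤ normalizer (T : Set G) := fun s hs =>
    mem_normalizer_of_cmap_le (cmap_le_iff.mpr fun x hx =>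
      mem_inf.mpr ⟨mul_mem (mul_mem hs hx.1) (inv_mem hs), (mem_normalizer_iff.mp (hNC (hSN hs)) x).mp hx.2⟩)
  have hSM : (S : Subgroup G) ≤ M := le_inf hSN hSC
  set O := Cfsg.pPrimeCore 2 M with hO
  haveI : O.Normal := inferInstance
  set π := QuotientGroup.mk' O with hπ
  set SM := S.subtype hSM with hSMdef
  have hinj : ∀ a ∈ (SM : Subgroup M), π a = 1 → a = 1 := fun a ha h => by
    have h1 : a ∈ (SM : Subgroup M) ⊓ O := ⟨ha, (QuotientGroup.eq_one_iff a).mp h⟩
    rwa [inf_eq_bot_of_pGroup SM.isPGroup' (HallCore.coprime_card_pPrimeCore 2 M), mem_bot] at h1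
  set Sb := SM.mapSurjective (QuotientGroup.mk'_surjective O) with hSb
  -- the normal 2-subgroup
  set R := (T ⊔ J).subgroupOf M with hR
  have hRS : T ⊔ J ≤ (S : Subgroup G) := sup_le inf_le_left (thomJ_le _)
  haveI : R.Normal := normal_subgroupOf_of_le_normalizer
    (LocalBasics.le_normalizer_sup inf_le_right inf_le_left)
  have hRp : IsPGroup 2 R := (S.isPGroup'.to_le hRS).comap_subtype
  have hcharM : centralizer (Cfsg.pCore 2 (M ⧸ O) : Set (M ⧸ O)) ≤ Cfsg.pCore 2 (M ⧸ O) := by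
    haveI : (R.map π).Normal := Normal.map inferInstance _ (QuotientGroup.mk'_surjective O)
    have hRQ : R.map π ≤ Cfsg.pCore 2 (M ⧸ O) := HallCore.le_pCore (hRp.map π)
    refine ConjFunctorMaster.centralizer_pCore_le (S := Sb) (HallCore.pPrimeCore_quotient_self 2 M) ?_
    rintro _ ⟨⟨a, ha, rfl⟩, hac⟩
    refine hRQ ⟨a, mem_subgroupOf.mpr (mem_sup_left ⟨ha, fun b hb => ?_⟩), rfl⟩
    have hbM : b ∈ M := hSM (thomJ_le _ hb)
    have hbS : (⟨b, hbM⟩ : M) ∈ (SM : Subgroup M) := show b ∈ (S : Subgroup G) from thomJ_le _ hb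
    have h1 : π ⟨b, hbM⟩ * π a = π a * π ⟨b, hbM⟩ :=
      hac _ (hRQ (mem_map_of_mem π (mem_subgroupOf.mpr (mem_sup_right hb))))
    have h2 := hinj _ (mul_mem (mul_mem hbS ha) (inv_mem (mul_mem ha hbS))) (by
      rw [map_mul, map_inv, map_mul, map_mul, h1, mul_inv_cancel])
    exact congrArg Subtype.val (mul_inv_eq_one.mp h2)
  have hKM : CompK (M ⧸ O) := by
    have hsub : (O.map M.subtype).subgroupOf M = O := comap_map_eq_self_of_injective M.subtype_injective O
    haveI : ((O.map M.subtype).subgroupOf M).Normal := by rw [hsub]; infer_instance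
    have e := QuotientGroup.quotientMulEquivOfEq hsub
    exact SylowTwoNormKGroup.compK_equiv e.symm
      (hsec M (O.map M.subtype) (ConjFunctorMain.constr_congr e.symm hcharM))
  obtain ⟨-, h2⟩ := first_second Sb hcharM (fun h => hfree (involves_subgroup M (involves_quotient O h))) hKM
  have hzM : z ∈ M := hSM hz
  obtain ⟨c', hc', n, hn, he⟩ := h2 (π (⟨m, hmN, hm⟩ : M))⁻¹
  set zb := π ⟨z, hzM⟩ with hzb
  have hzS : zb ∈ (Sb : Subgroup (M ⧸ O)) := ⟨⟨z, hzM⟩, hz, rfl⟩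
  have hzC : zb ∈ centralizer ((Sb : Subgroup (M ⧸ O)) : Set (M ⧸ O)) := by
    rintro _ ⟨a, ha, rfl⟩
    rw [hzb, ← map_mul, ← map_mul]
    exact congrArg π (Subtype.ext (hzc (a : G) ha))
  have hzb2 : zb ^ 2 = 1 := by
    rw [hzb, ← map_pow, show (⟨z, hzM⟩ : M) ^ 2 = 1 from Subtype.ext hz2, map_one]
  have hzT : zb ∈ jT (Sb : Subgroup (M ⧸ O)) := thomJ_le_jT _ (mem_thomJ_of_central hzS hzC hzb2)
  have hfix : c'⁻¹ * zb * c' = zb := by
    rw [mul_assoc, hc' _ ⟨hzS, hzC⟩, inv_mul_cancel_left]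
  have hmz : π (⟨m, hmN, hm⟩ : M) * zb * (π (⟨m, hmN, hm⟩ : M))⁻¹ = n⁻¹ * zb * n := by
    calc π (⟨m, hmN, hm⟩ : M) * zb * (π (⟨m, hmN, hm⟩ : M))⁻¹ = (c' * n)⁻¹ * zb * (c' * n) := by
          rw [← he, inv_inv]
      _ = n⁻¹ * (c'⁻¹ * zb * c') * n := by group
      _ = _ := by rw [hfix]
  have hW : n⁻¹ * zb * n ∈ jW (Sb : Subgroup (M ⧸ O)) := by
    refine mem_jW ?_ (fun a ha => ?_) ?_
    · simpa using (mem_normalizer_iff.mp (inv_mem hn) zb).mp hzT
    · have h1 : n * a * n⁻¹ ∈ jT (Sb : Subgroup (M ⧸ O)) := (mem_normalizer_iff.mp hn a).mp ha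
      have h3 := hzC _ (jT_le _ h1)
      calc a * (n⁻¹ * zb * n) = n⁻¹ * ((n * a * n⁻¹) * zb) * n := by group
        _ = n⁻¹ * (zb * (n * a * n⁻¹)) * n := by rw [h3]
        _ = _ := by group
    · rw [show n⁻¹ * zb * n = n⁻¹ * zb * n⁻¹⁻¹ by rw [inv_inv], conj_pow, hzb2]; group
  let f : ↥(SM : Subgroup M) →* M ⧸ O := π.comp (SM : Subgroup M).subtype
  have hf : Function.Injective f := (injective_iff_map_eq_one f).mpr fun a h => Subtype.ext (hinj _ a.2 h)
  rw [show (Sb : Subgroup (M ⧸ O)) = (⊤ : Subgroup ↥(SM : Subgroup M)).map f by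
    rw [← MonoidHom.range_eq_map, MonoidHom.range_comp, range_subtype]; rfl, jW_map hf] at hW
  obtain ⟨w, hw, hwe⟩ := hW
  let ι : ↥(SM : Subgroup M) →* G := M.subtype.comp (SM : Subgroup M).subtype
  have hι : Function.Injective ι := M.subtype_injective.comp (SM : Subgroup M).subtype_injective
  have hιS : (⊤ : Subgroup ↥(SM : Subgroup M)).map ι = (S : Subgroup G) := by
    rw [← MonoidHom.range_eq_map, MonoidHom.range_comp, range_subtype, Sylow.coe_subtype,
      subgroupOf_map_subtype, inf_eq_left.mpr hSM]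
  have hmzM : m * z * m⁻¹ ∈ M := hSM (thomJ_le _ hmzJ)
  have hweq : (w : M) = ⟨m * z * m⁻¹, hmzM⟩ := by
    refine mul_inv_eq_one.mp (hinj _ (mul_mem w.2 (inv_mem (show (⟨m * z * m⁻¹, hmzM⟩ : M) ∈ (SM : Subgroup M) from
      show m * z * m⁻¹ ∈ (S : Subgroup G) from thomJ_le _ hmzJ))) ?_)
    rw [map_mul, map_inv, show π (w : M) = _ from hwe, ← hmz, mul_inv_eq_one, hzb, ← map_inv, ← map_mul,
      ← map_mul]
    rfl
  rw [← hιS, jW_map hι]
  exact ⟨w, hw, congrArg Subtype.val hweq⟩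

/-- The normal closure of `Ω₁(Z(S))` in `N(J(S))`. -/
theorem strongly_closed (N : Subgroup G) (hN : N = normalizer (thomJ 2 (S : Subgroup G) : Set G))
    (A : Subgroup G)
    (hA : A = (normalClosure (((Cfsg.omegaOne 2 ((S : Subgroup G) ⊓
      centralizer ((S : Subgroup G) : Set G))).subgroupOf N : Subgroup N) : Set N)).map N.subtype) :
    A ≤ (S : Subgroup G) ∧ Cfsg.IsElementaryAbelian 2 A ∧ Cfsg.IsStronglyClosed A (S : Subgroup G) ∧
      Cfsg.ControlsStrongFusion 2 A := by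
  haveI : Fact (Nat.Prime 2) := ⟨Nat.prime_two⟩
  set Z := (S : Subgroup G) ⊓ centralizer ((S : Subgroup G) : Set G) with hZ
  have hΩ : ∀ x ∈ Cfsg.omegaOne 2 Z, x ∈ Z ∧ x ^ 2 = 1 := by
    intro x hx
    rw [Cfsg.omegaOne] at hx
    induction hx using closure_induction with
    | mem y hy => exact hy
    | one => exact ⟨one_mem _, one_pow _⟩
    | mul y z _ _ ihy ihz => exact ⟨mul_mem ihy.1 ihz.1, by
        rw [Commute.mul_pow (ihz.1.2 y ihy.1.1), ihy.2, ihz.2, one_mul]⟩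
    | inv y _ ihy => exact ⟨inv_mem ihy.1, by rw [inv_pow, ihy.2, inv_one]⟩
  set W := jW (S : Subgroup G) with hW
  have hWfam := isFam_jW (S : Subgroup G)
  have hAW : A ≤ W := by
    rw [hA, map_le_iff_le_comap, normalClosure, closure_le]
    intro y hy
    obtain ⟨a, ha, hay⟩ := Group.mem_conjugatesOfSet_iff.mp hy
    obtain ⟨g, rfl⟩ := isConj_iff.mp hay
    obtain ⟨⟨haS, hac⟩, ha2⟩ := hΩ _ (mem_subgroupOf.mp ha)
    exact conj_mem_jW hfree hsec S haS hac ha2 (hN ▸ g.2)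
  have hNA : normalizer (thomJ 2 (S : Subgroup G) : Set G) ≤ normalizer (A : Set G) := by
    rw [← hN, hA]
    refine le_trans (le_of_eq ?_) (le_normalizer_map N.subtype)
    rw [normalizer_eq_top_iff.mpr normalClosure_normal, ← MonoidHom.range_eq_map, range_subtype]
  have hCA : centralizer (W : Set G) ≤ normalizer (A : Set G) :=
    (centralizer_le hAW).trans (centralizer_le_normalizer _)
  have hWA : normalizer (W : Set G) ≤ normalizer (A : Set G) := by
    intro g hg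
    set C := centralizer (W : Set G) ⊓ normalizer (W : Set G) with hC
    set L := normalizer (W : Set G) with hL
    have hSL : (S : Subgroup G) ≤ L := le_normalizer.trans (normalizer_le_jW _)
    have hLC : L ≤ normalizer (C : Set G) := fun a ha =>
      mem_normalizer_of_cmap_le (cmap_le_iff.mpr fun c hc => mem_inf.mpr ⟨fun b hb => by
        have h1 : a⁻¹ * b * a ∈ W := by simpa using (mem_normalizer_iff.mp (inv_mem ha) b).mp hb
        calc b * (a * c * a⁻¹) = a * ((a⁻¹ * b * a) * c) * a⁻¹ := by group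
          _ = a * (c * (a⁻¹ * b * a)) * a⁻¹ := by rw [hc.1 _ h1]
          _ = _ := by group, mul_mem (mul_mem ha hc.2) (inv_mem ha)⟩)
    have hTC : IsSylowIn 2 ((S : Subgroup G) ⊓ C) C := by
      refine ⟨inf_le_right, isPGroup_mono S.isPGroup' inf_le_left, ?_⟩
      haveI : (C.subgroupOf L).Normal := normal_subgroupOf_of_le_normalizer hLC
      have h2 := CentralSylow.not_dvd_relIndex_normal (S.subtype hSL) (C.subgroupOf L)
      have h3 := relIndex_map_map_of_injective ((S.subtype hSL : Subgroup L) ⊓ C.subgroupOf L)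
        (C.subgroupOf L) L.subtype_injective
      rw [← h3, Subgroup.map_inf _ _ _ L.subtype_injective, Sylow.coe_subtype, subgroupOf_map_subtype,
        subgroupOf_map_subtype, inf_eq_left.mpr hSL, inf_eq_left.mpr (inf_le_right : C ≤ L)] at h2
      exact h2
    obtain ⟨c, hc, m, hm, rfl⟩ := ConjFunctorMaster.frattini_split hTC hLC hg
    refine mul_mem (hCA hc.1) (hNA ?_)
    have h := normalizer_le_thomJ (n := 2) _ hm
    rwa [thomJ_eq_of_le inf_le_left (le_inf (thomJ_le _) (le_inf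
      ((thomJ_le_jT _).trans (jT_le_centralizer_jW _)) ((thomJ_le _).trans hSL)))] at h
  have hAS : A ≤ (S : Subgroup G) := hAW.trans hWfam.le
  have hfus : ∀ Q ≤ (S : Subgroup G), ∀ g : G, cmap g Q ≤ (S : Subgroup G) →
      ∃ x ∈ normalizer (A : Set G), ∀ q ∈ Q, x * q * x⁻¹ = g * q * g⁻¹ := by
    intro Q hQ g hgQ
    obtain ⟨c, hc, he⟩ := reach_of_controls (isConjugacyFunctor_img isChar_pair) (controls hfree hsec)
      (isSylowIn_top S) Q hQ g (mem_top g) hgQ
    refine ⟨c, ?_, he⟩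
    clear he
    induction hc with
    | refl => exact one_mem _
    | @tail b b' _ hb ih =>
      obtain ⟨⟨_, ⟨V, hV, rfl⟩, hm⟩, -⟩ := hb
      have h1 : b' * b⁻¹ ∈ normalizer (A : Set G) := by
        rcases hV with rfl | rfl
        · exact hWA (by simpa [wFun_induced] using (mem_inf.mp hm).2)
        · exact hNA (by simpa [jFun_induced] using (mem_inf.mp hm).2)
      simpa using mul_mem h1 ih
  refine ⟨hAS, ⟨⟨⟨fun a b => Subtype.ext (hWfam.comm a (hAW a.2) b (hAW b.2))⟩⟩,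
    fun a ha => hWfam.pow a (hAW ha)⟩, ⟨hAS, fun x hx g hgx => ?_⟩, S, hAS, fun B hB => ⟨hB, fun g hg => ?_⟩⟩
  · obtain ⟨c, hc, he⟩ := hfus (zpowers x) (zpowers_le.mpr (hAS hx)) g (by
      rw [cmap, MonoidHom.map_zpowers, zpowers_le]; exact hgx)
    rw [← he x (mem_zpowers x)]
    exact (mem_normalizer_iff.mp hc x).mp hx
  · obtain ⟨c, hc, he⟩ := hfus (closure B) ((closure_le _).mpr hB) g (subset_cmap_iff.mp hg)
    exact ⟨c, hc, fun a ha => (he a (subset_closure ha)).symm⟩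

end Cfsg.Agent.S4FreeFusion
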