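import Cfsg.Agent.Lib.S4FreeFusion
import Cfsg.Agent.Lib.S4FreeWrap34

/-!
A saturated `Qd(2)`-free system is solvable, given the factorisations of the `S₄`-free groups of
characteristic 2: the closure of `Ω₁(Z(S))` under `Aut(J(S))` is strongly closed and abelian.
-/

set_option autoImplicit false
set_option linter.style.haveILetI false

universe u

namespace Cfsg.Agent.S4FreeFusionSys34

open Cfsg Cfsg.FusionSystem Cfsg.Agent.FusionSysBasic Cfsg.Agent.FusionSysSaturated
  Cfsg.Agent.FusionSysNormal Cfsg.Agent.FusionNilReduction Cfsg.Agent.FusionInduct88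
  Cfsg.Agent.FusionFunctorLocal

open S4FreeFusion (wFun jFun)

/-- What is used of the groups of characteristic 2. -/
def Factor : Prop :=
  ∀ (G : Type u) [Group G] [Finite G] (S : Sylow 2 G),
    Subgroup.centralizer ((Cfsg.pCore 2 G : Subgroup G) : Set G) ≤ Cfsg.pCore 2 G →
    ¬ Cfsg.Involves (Equiv.Perm (Fin 4)) G →
    S4FreeFactorMin.Good S ∧
      ∀ g : G, ∃ c ∈ Subgroup.centralizer
          (((S : Subgroup G) ⊓ Subgroup.centralizer ((S : Subgroup G) : Set G) : Subgroup G) : Set G),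
        ∃ n ∈ Subgroup.normalizer (EGroupJHat.jT (S : Subgroup G) : Set G), g = c * n

section Group

open Subgroup GlaubermanZJ EGroupJHat S4FreeFactor S4FreeFactorMin S4FreeFactorTools
  ConjFunctorBasic ConjFunctorControl ConjFunctorSection

variable {G : Type u} [Group G] [Finite G]

/-- A fusing element splits into a part normalising `J` and a part centralising `jW`. -/
theorem split (S : Sylow 2 G) (hgood : Good S) {Q : Subgroup G} (hQ : Q ≤ (S : Subgroup G)) {g : G}
    (hgQ : cmap g Q ≤ (S : Subgroup G)) :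
    ∃ a ∈ normalizer (thomJ 2 (S : Subgroup G) : Set G), cmap a Q ≤ (S : Subgroup G) ∧
      g * a⁻¹ ∈ centralizer (jW (S : Subgroup G) : Set G) := by
  haveI : Fact (Nat.Prime 2) := ⟨Nat.prime_two⟩
  set C := centralizer (clo S : Set G) with hC
  haveI : C.Normal := inferInstance
  have hJC : thomJ 2 (S : Subgroup G) ≤ C :=
    le_centralizer_iff.mp ((clo_le_iff S).mpr fun a => le_centralizer_iff.mp (hgood a))
  have hWC : C ≤ centralizer (jW (S : Subgroup G) : Set G) := centralizer_le subset_normalClosure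
  obtain ⟨n, hn, k, hk, hgk⟩ := exists_frattini S C g
  set k' := n * k * n⁻¹ with hk'
  have hk'C : k' ∈ C := Normal.conj_mem inferInstance k hk n
  have hg : g = k' * n := by rw [hgk, hk']; group
  set D := (S : Subgroup G) ⊓ C with hD
  have hSD : (S : Subgroup G) ≤ normalizer (D : Set G) := fun s hs => by
    refine mem_normalizer_of_cmap_le (cmap_le_iff.mpr fun x hx =>
      mem_inf.mpr ⟨?_, Normal.conj_mem inferInstance x hx.2 s⟩)
    exact mul_mem (mul_mem hs hx.1) (inv_mem hs)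
  set L := (C ⊔ (S : Subgroup G)) ⊓ normalizer (D : Set G) with hL
  have hSL : IsSylowIn 2 (S : Subgroup G) L := (isSylowIn_top S).mono (le_inf le_sup_right hSD) le_top
  have hnQ : cmap n Q ≤ L := by
    refine cmap_le_iff.mpr fun x hx => mem_inf.mpr ⟨?_, mul_mem (mul_mem hn (hSD (hQ hx))) (inv_mem hn)⟩
    have h1 : g * x * g⁻¹ ∈ C ⊔ (S : Subgroup G) := mem_sup_right (hgQ (conj_mem_cmap hx))
    have h2 : k' ∈ C ⊔ (S : Subgroup G) := mem_sup_left hk'C
    rw [show n * x * n⁻¹ = k'⁻¹ * (g * x * g⁻¹) * k' by rw [hg]; group]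
    exact mul_mem (mul_mem (inv_mem h2) h1) h2
  obtain ⟨y, hy, hyQ⟩ := hSL.exists_conj_le (isPGroup_cmap (isPGroup_mono S.isPGroup' hQ)) hnQ
  obtain ⟨s, hs, x, hx, hyx⟩ : ∃ s ∈ (S : Subgroup G), ∃ x ∈ C, y = s * x := by
    have h1 : y ∈ (S : Subgroup G) ⊔ C := sup_comm C (S : Subgroup G) ▸ hy.1
    obtain ⟨a, ha, b, hb, h⟩ := mem_sup_of_normal_right.mp h1
    exact ⟨a, ha, b, hb, h.symm⟩
  have hxQ : cmap x (cmap n Q) ≤ (S : Subgroup G) := cmap_le_iff.mpr fun q hq => by
    have h1 : y * q * y⁻¹ ∈ (S : Subgroup G) := hyQ (conj_mem_cmap hq)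
    rw [show x * q * x⁻¹ = s⁻¹ * (y * q * y⁻¹) * s by rw [hyx]; group]
    exact mul_mem (mul_mem (inv_mem hs) h1) hs
  rw [← cmap_mul] at hxQ
  have hxD : x ∈ normalizer (D : Set G) := by
    rw [show x = s⁻¹ * y by rw [hyx]; group]
    exact mul_mem (inv_mem (hSD hs)) hy.2
  have hxnJ : x * n ∈ normalizer (thomJ 2 (S : Subgroup G) : Set G) := by
    have h := normalizer_le_thomJ (n := 2) _ (mul_mem hxD hn)
    rwa [thomJ_eq_of_le inf_le_left (le_inf (thomJ_le _) hJC)] at h
  refine ⟨x * n, hxnJ, hxQ, ?_⟩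
  rw [show g * (x * n)⁻¹ = k' * x⁻¹ by rw [hg]; group]
  exact hWC (mul_mem hk'C (inv_mem hx))

/-- The conjugates of a central involution lie in `jW`. -/
theorem conj_mem_jW (S : Sylow 2 G)
    (h2 : ∀ g : G, ∃ c ∈ centralizer
        (((S : Subgroup G) ⊓ centralizer ((S : Subgroup G) : Set G) : Subgroup G) : Set G),
      ∃ n ∈ normalizer (jT (S : Subgroup G) : Set G), g = c * n)
    {z : G} (hz : z ∈ (S : Subgroup G)) (hzc : z ∈ centralizer ((S : Subgroup G) : Set G))
    (hz2 : z ^ 2 = 1) (g : G) : g * z * g⁻¹ ∈ jW (S : Subgroup G) := by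
  obtain ⟨c, hc, n, hn, he⟩ := h2 g⁻¹
  have hfix : c⁻¹ * z * c = z := by rw [mul_assoc, hc _ ⟨hz, hzc⟩, inv_mul_cancel_left]
  have e : g * z * g⁻¹ = n⁻¹ * z * n := by
    calc g * z * g⁻¹ = (c * n)⁻¹ * z * (c * n) := by rw [← he, inv_inv]
      _ = n⁻¹ * (c⁻¹ * z * c) * n := by group
      _ = _ := by rw [hfix]
  rw [e]
  have hzT : z ∈ jT (S : Subgroup G) :=
    thomJ_le_jT _ (S4FreeFusion.mem_thomJ_of_central hz hzc hz2)
  refine mem_jW ?_ (fun a ha => ?_) ?_
  · simpa using (mem_normalizer_iff.mp (inv_mem hn) z).mp hzT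
  · have h1 : n * a * n⁻¹ ∈ jT (S : Subgroup G) := (mem_normalizer_iff.mp hn a).mp ha
    have h3 := hzc _ (jT_le _ h1)
    calc a * (n⁻¹ * z * n) = n⁻¹ * ((n * a * n⁻¹) * z) * n := by group
      _ = n⁻¹ * (z * (n * a * n⁻¹)) * n := by rw [h3]
      _ = _ := by group
  · rw [show n⁻¹ * z * n = n⁻¹ * z * n⁻¹⁻¹ by rw [inv_inv], conj_pow, hz2]; group

end Group

local instance : Fact (Nat.Prime 2) := ⟨Nat.prime_two⟩

theorem fn_wFun : Fn.{u} 2 wFun :=
  ⟨(S4FreeFusion.isChar_pair wFun (Or.inl rfl)).1, (S4FreeFusion.isChar_pair wFun (Or.inl rfl)).2⟩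

theorem fn_jFun : Fn.{u} 2 jFun :=
  ⟨(S4FreeFusion.isChar_pair jFun (Or.inr rfl)).1, (S4FreeFusion.isChar_pair jFun (Or.inr rfl)).2⟩

variable {Ω : Type u} [Group Ω] {S : Subgroup Ω} [Finite S] {F : FusionSystem S}

theorem map_Ws {W : ∀ (Q : Type u) [Group Q], Subgroup Q} (hW : Fn 2 W) (hS : IsPGroup 2 S)
    {G : Type u} [Group G] {ι : S →* G} (hι : Function.Injective ι) {P : Subgroup G}
    (hP : P = ι.range) : FusionRealized87.upS ι (Ws W S) = (W ↥P).map P.subtype := by
  subst hP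
  rw [← hW.nat _ _ hS (MonoidHom.ofInjective hι), Subgroup.map_map]
  show ((Ws W S).subgroupOf S).map ι = _
  rw [Ws, Subgroup.subgroupOf, Subgroup.comap_map_eq_self_of_injective S.subtype_injective]
  rfl

/-- A constrained system: models and their Sylow subgroups. -/
theorem exists_model (hS : IsPGroup 2 S) (hF : F.IsConstrained 2)
    (hfree : FusionFree.AutFree 2 F) :
    ∃ (G : Type u) (_ : Group G) (_ : Finite G) (ι : S →* G) (P : Sylow 2 G),
      F.IsRealizedBy ι ∧ (P : Subgroup G) = ι.range ∧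
        Subgroup.centralizer ((Cfsg.pCore 2 G : Subgroup G) : Set G) ≤ Cfsg.pCore 2 G ∧
        ¬ Cfsg.Involves (Equiv.Perm (Fin 4)) G := by
  obtain ⟨hFs, Q, hn, hc⟩ := id hF
  have h : FusionSysModel.Hyp 2 F Q := ⟨hS, hFs, hn, hc⟩
  haveI := FusionSysModel.k0_normal h
  have hM := FusionSysModel.isModel h
  obtain ⟨hfin, hι, ⟨P, hP⟩, hC⟩ := id hM
  refine ⟨_, inferInstance, hfin, FusionSysModel.iota h, P, hι, hP, hC, fun hi => ?_⟩
  haveI := hfin
  obtain ⟨e⟩ := S2761.result
  exact FusionFree.not_involves_model hS hF hfree hM (FusionFree.involves_congr_left e.symm hi)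

/-- The maps of a constrained system split along `J` and `jW`. -/
theorem exists_split (hFac : Factor.{u}) (hS : IsPGroup 2 S) (hF : F.IsConstrained 2)
    (hfree : FusionFree.AutFree 2 F) {P : Subgroup Ω} {f : Ω → Ω} (hf : Mor F P f) :
    ∃ f₁ f₂ : Ω → Ω, Mor F (P ⊔ Ws jFun S) f₁ ∧ im (Ws jFun S) f₁ = Ws jFun S ∧
      Mor F (im P f₁ ⊔ Ws wFun S) f₂ ∧ (∀ x ∈ Ws wFun S, f₂ x = x) ∧
        ∀ x ∈ P, f₂ (f₁ x) = f x := by
  obtain ⟨G, _, _, ι, T, hι, hT, hC, hfree'⟩ := exists_model hS hF hfree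
  obtain ⟨hP, hfS, g, hg⟩ := (FusionRealized87.mor_iff hι).1 hf
  have hgQ : ConjFunctorBasic.cmap g (FusionRealized87.upS ι P) ≤ (T : Subgroup G) := by
    refine ConjFunctorBasic.cmap_le_iff.mpr fun y hy => ?_
    obtain ⟨x, hx, _, rfl⟩ := (FusionRealized87.mem_upS ι).1 hy
    have := hg x hx
    rw [cj_apply] at this
    rw [← this, hT]
    exact FusionRealized87.up_mem_range ι (hfS x hx)
  obtain ⟨a, haJ, haQ, hca⟩ := split T (hFac G T hC hfree').1
    (hT ▸ FusionRealized87.upS_le ι P) hgQ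
  set J := Ws jFun S with hJdef
  set W := Ws wFun S with hWdef
  have hJS : J ≤ S := Ws_le S
  have hWS : W ≤ S := Ws_le S
  have hJup : FusionRealized87.upS ι J = GlaubermanZJ.thomJ 2 (T : Subgroup G) :=
    (map_Ws fn_jFun hS hι.1 hT).trans (S4FreeFusion.jFun_induced _)
  have hWup : FusionRealized87.upS ι W = EGroupJHat.jW (T : Subgroup G) :=
    (map_Ws fn_wFun hS hι.1 hT).trans (S4FreeFusion.wFun_induced _)
  have ha : ∀ x ∈ P ⊔ J, cj a (FusionRealized87.up ι x) ∈ ι.range := by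
    intro x hx
    have h1 := FusionRealized87.up_mem_upS ι (sup_le hP hJS) hx
    rw [FusionRealized87.upS_sup ι hP hJS, hJup] at h1
    rw [← hT]
    refine (Subgroup.map_le_iff_le_comap.mp ?_ :
      _ ≤ (T : Subgroup G).comap (MulAut.conj a).toMonoidHom) h1
    rw [Subgroup.map_sup]
    refine sup_le haQ ?_
    rintro _ ⟨j, hj, rfl⟩
    exact GlaubermanZJ.thomJ_le _ ((Subgroup.mem_normalizer_iff.mp haJ j).mp hj)
  set f₁ := fun x => FusionRealized87.down ι (cj a (FusionRealized87.up ι x)) with hf₁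
  have hm₁ : Mor F (P ⊔ J) f₁ := FusionRealized87.mor_of_conj hι (sup_le hP hJS) ha
  have hup₁ : ∀ x ∈ P ⊔ J, FusionRealized87.up ι (f₁ x) = cj a (FusionRealized87.up ι x) :=
    fun x hx => FusionRealized87.up_down ι (ha x hx)
  have him : im P f₁ ≤ S := im_le_iff.mpr fun x _ => FusionRealized87.down_mem ι _
  set c := g * a⁻¹ with hcdef
  have hc : ∀ y ∈ W, cj c (FusionRealized87.up ι y) = FusionRealized87.up ι y := by
    intro y hy
    have h1 := FusionRealized87.up_mem_upS ι hWS hy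
    rw [hWup] at h1
    rw [cj_apply, ← hca _ h1, mul_inv_cancel_right]
  have hcP : ∀ y ∈ im P f₁ ⊔ W, cj c (FusionRealized87.up ι y) ∈ ι.range := by
    intro y hy
    have h1 := FusionRealized87.up_mem_upS ι (sup_le him hWS) hy
    rw [FusionRealized87.upS_sup ι him hWS] at h1
    refine (Subgroup.map_le_iff_le_comap.mp ?_ : _ ≤ ι.range.comap (MulAut.conj c).toMonoidHom) h1
    rw [Subgroup.map_sup]
    refine sup_le ?_ ?_
    · rintro _ ⟨_, hz0, rfl⟩
      obtain ⟨z, hz, _, rfl⟩ := (FusionRealized87.mem_upS ι).1 hz0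
      obtain ⟨x, hx, rfl⟩ := (hm₁.restrict_to le_sup_left).mem_im.mp hz
      show cj c (FusionRealized87.up ι (f₁ x)) ∈ ι.range
      rw [hup₁ x (Subgroup.mem_sup_left hx),
        show cj c (cj a (FusionRealized87.up ι x)) = cj g (FusionRealized87.up ι x) by
          simp only [cj_apply, hcdef]; group, ← hg x hx]
      exact FusionRealized87.up_mem_range ι (hfS x hx)
    · rintro _ ⟨_, hz0, rfl⟩
      obtain ⟨z, hz, hzS, rfl⟩ := (FusionRealized87.mem_upS ι).1 hz0
      show cj c (FusionRealized87.up ι z) ∈ ι.range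
      rw [hc z hz]
      exact FusionRealized87.up_mem_range ι hzS
  refine ⟨f₁, fun x => FusionRealized87.down ι (cj c (FusionRealized87.up ι x)), hm₁, ?_,
    FusionRealized87.mor_of_conj hι (sup_le him hWS) hcP, fun y hy => ?_, fun x hx => ?_⟩
  · refine (hm₁.restrict_to le_sup_right).im_self fun x hx => ?_
    have h1 := FusionRealized87.up_mem_upS ι hJS hx
    rw [hJup] at h1
    have h2 : FusionRealized87.up ι (f₁ x) ∈ FusionRealized87.upS ι J := by
      rw [hJup, hup₁ x (Subgroup.mem_sup_right hx), cj_apply]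
      exact (Subgroup.mem_normalizer_iff.mp haJ _).mp h1
    obtain ⟨z, hz, hzS, he⟩ := (FusionRealized87.mem_upS ι).1 h2
    have e := FusionRealized87.up_inj hι hzS (FusionRealized87.down_mem ι _) he
    rw [e] at hz
    exact hz
  · show FusionRealized87.down ι (cj c (FusionRealized87.up ι y)) = y
    rw [hc y hy, FusionRealized87.down_up hι (hWS hy)]
  · show FusionRealized87.down ι (cj c (FusionRealized87.up ι (f₁ x))) = f x
    rw [hup₁ x (Subgroup.mem_sup_left hx),
      show cj c (cj a (FusionRealized87.up ι x)) = cj g (FusionRealized87.up ι x) by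
        simp only [cj_apply, hcdef]; group, ← hg x hx, FusionRealized87.down_up hι (hfS x hx)]

/-- Maps preserving a functor value at `T < S`. -/
theorem transport {W : ∀ (Q : Type u) [Group Q], Subgroup Q} (hW : Fn 2 W)
    {Φ : Subgroup Ω → (Ω → Ω) → Prop} (hΦ : Closed F (U := S) Φ) (hS : IsPGroup 2 S)
    (hF : F.IsSaturated 2) {T : Subgroup Ω} [Finite T] (hT : T < S) (hTne : T ≠ ⊥)
    (hrec : ∀ U : Subgroup Ω, F.IsFullyNormalized U → U ≠ ⊥ →
      Nat.card T < Nat.card (normalizerIn S U) → OnNormalizer F U Φ)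
    {P : Subgroup Ω} {g' : Ω → Ω} (hg'F : Mor F (P ⊔ Ws W T) g') (hP : P ≤ T)
    (hg'T : ∀ x ∈ P ⊔ Ws W T, g' x ∈ T) (him : im (Ws W T) g' = Ws W T) : Φ P g' := by
  have hTp : IsPGroup 2 T := hS.to_le hT.le
  set U₀ := Ws W T
  have hU₀T : U₀ ≤ T := Ws_le T
  have hU₀S : U₀ ≤ S := hU₀T.trans hT.le
  have hU₀ : U₀ ≠ ⊥ := Ws_ne_bot hW hTp hTne
  set D := normalizerIn S U₀ with hD
  haveI := finite_normalizerIn (S := S) U₀
  have hTD : Nat.card T < Nat.card D := by
    refine lt_of_lt_of_le (FusionWeakAlperin.card_lt_normalizerIn hS hT) (Subgroup.card_le_of_le ?_)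
    exact le_inf inf_le_left fun x hx => mem_normalizer_of_cj_le hU₀S fun y hy =>
      cj_mem_Ws hW hTp hx.2 hy
  obtain ⟨U, hconj, hUfn⟩ := exists_fullyNormalized (F := F) hU₀S
  obtain ⟨θ, hθ, hθv, hθU⟩ := exists_map_to_fullyNormalized hS hF hUfn hconj
  have hUne : U ≠ ⊥ := fun e => hU₀ (by
    have hc := isConj_card hconj
    haveI := finite_of_le hU₀S
    rw [e, Subgroup.card_bot] at hc
    exact Subgroup.card_eq_one.mp hc)
  have hcardU : Nat.card D ≤ Nat.card (normalizerIn S U) := hUfn.2 U₀ (isConj_symm hconj)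
  have hθΦ : Φ D θ := by
    refine (FusionInduct88.induction hS hF (closed_large hΦ (Nat.card T))
      (fun R' hR' α hα hn => ?_) hθ : Large (Nat.card T) Φ D θ) hTD
    haveI := finite_normalizerIn (S := S) R'
    have hle : Nat.card R' ≤ Nat.card (normalizerIn S R') :=
      Subgroup.card_le_of_le (le_normalizerIn hR'.1)
    have hR'1 : R' ≠ ⊥ := fun e => by
      rw [e, Subgroup.card_bot] at hn
      haveI : Nonempty T := ⟨1⟩
      exact absurd hn (not_lt.mpr Nat.card_pos)
    have hm := (mem_autGroup hR'.1).mp hα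
    exact hrec R' hR' hR'1 (hn.trans_le hle) R' (afun α) hm (le_normalizerIn hR'.1)
      (fun x hx => le_normalizerIn hR'.1 (afun_mem α hx))
      ⟨afun α, by rwa [sup_idem], fun _ _ => rfl, im_afun α⟩
  have hU : OnNormalizer F U Φ := hrec U hUfn hUne (hTD.trans_le hcardU)
  set P' := P ⊔ U₀
  have hP'T : P' ≤ T := sup_le hP hU₀T
  obtain ⟨j, hj, hjl, -, hjv⟩ := hθ.exists_inv
  have hjΦ : Φ (im D θ) j := hΦ.inv hθ hj hθ.le hjl hθΦ
  have hTle : T ≤ D := le_inf hT.le fun x hx => mem_normalizer_of_cj_le hU₀S fun y hy =>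
    cj_mem_Ws hW hTp (Subgroup.le_normalizer hx) hy
  have hP'D : P' ≤ D := hP'T.trans hTle
  have hθP := hθ.restrict_to hP'D
  have hjP : Mor F (im P' θ) j := hj.restrict_to (im_mono hP'D)
  have h1 : Mor F (im P' θ) (g' ∘ j) := hjP.comp hg'F fun y hy => by
    obtain ⟨x, hx, rfl⟩ := hθP.mem_im.mp hy
    rw [hjl x (hP'D hx)]; exact hx
  have h1D : ∀ y ∈ im P' θ, (g' ∘ j) y ∈ D := fun y hy => by
    obtain ⟨x, hx, rfl⟩ := hθP.mem_im.mp hy
    rw [Function.comp_apply, hjl x (hP'D hx)]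
    exact hTle (hg'T x hx)
  have hh : Mor F (im P' θ) (θ ∘ (g' ∘ j)) := h1.comp hθ h1D
  have hUP' : U ≤ im P' θ := hθU ▸ im_mono le_sup_right
  have hhU : Φ (im P' θ) (θ ∘ (g' ∘ j)) := by
    refine hU _ _ hh (im_le_iff.mpr fun x hx => hθv x (hP'D hx)) (fun y hy => hθv _ (h1D y hy))
      ⟨θ ∘ (g' ∘ j), by rwa [sup_eq_left.mpr hUP'], fun _ _ => rfl, ?_⟩
    refine (hh.restrict_to hUP').im_self fun y hy => ?_
    rw [← hθU] at hy
    obtain ⟨x, hx, rfl⟩ := (hθP.restrict_to le_sup_right).mem_im.mp hy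
    rw [Function.comp_apply, Function.comp_apply, hjl x (hP'D (Subgroup.mem_sup_right hx)), ← hθU]
    exact apply_mem_im (him ▸ (hg'F.restrict_to le_sup_right).mem_im.mpr ⟨x, hx, rfl⟩)
  have h2 : Φ P' ((θ ∘ (g' ∘ j)) ∘ θ) :=
    hΦ.comp hθP hh hθP.le hh.le (fun x hx => apply_mem_im hx)
      (closed_mor_restrict hΦ hθ hP'D hθΦ) hhU
  have hcomp : Mor F P' ((θ ∘ (g' ∘ j)) ∘ θ) := hθP.comp hh fun x hx => apply_mem_im hx
  have hval : ∀ x ∈ P', ((θ ∘ (g' ∘ j)) ∘ θ) x = θ (g' x) := fun x hx => by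
    simp only [Function.comp_apply, hjl x (hP'D hx)]
  have h3 : Φ P' (j ∘ ((θ ∘ (g' ∘ j)) ∘ θ)) :=
    hΦ.comp hcomp hj hcomp.le hj.le
      (fun x hx => by rw [hval x hx]; exact apply_mem_im (hTle (hg'T x hx))) h2 hjΦ
  have h4 : Φ P' g' := hΦ.congr h3 fun x hx => by
    rw [Function.comp_apply, hval x hx, hjl _ (hTle (hg'T x hx))]
  exact closed_mor_restrict hΦ hg'F le_sup_left h4

/-- The system is solvable, through a chain. -/
def Sol {Ω : Type u} [Group Ω] {S : Subgroup Ω} [Finite S] (F : FusionSystem S) : Prop :=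
  FusionFree.AutFree 2 F → FusionSolvable88.Chain F ⊥ S

section Step

variable (hFac : Factor.{u}) (hS : IsPGroup 2 S) (hF : F.IsSaturated 2)
  (hfree : FusionFree.AutFree 2 F) (hcore : F.core = ⊥)
  (IH : ∀ {Ω' : Type u} [Group Ω'] {S' : Subgroup Ω'} [Finite S'] (E : FusionSystem S'),
    IsPGroup 2 S' → E.IsSaturated 2 → Less E F → Sol E)

include hS hF hfree hcore IH

/-- The local systems are constrained. -/
theorem local_constrained {R : Subgroup Ω} (hR : F.IsFullyNormalized R) (hR1 : R ≠ ⊥) :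
    (normalizerSystem F R hR.1).IsConstrained 2 ∧
      FusionFree.AutFree 2 (normalizerSystem F R hR.1) := by
  have hG := isNormalizerSystem_normalizerSystem (F := F) R hR.1
  haveI := finite_normalizerIn (S := S) R
  have hsat := FusionSysNormalizer.normalizerSystem_saturated hS hF hR hG
  have hfree' := FusionFree.autFree_sub inf_le_left (normalizerSystem_sub hG) hfree
  have hTS : normalizerIn S R ≤ S := fun x hx => hx.1
  have hp : IsPGroup 2 (normalizerIn S R) := hS.to_le hTS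
  have hless : Less (normalizerSystem F R hR.1) F := by
    rcases hTS.eq_or_lt with hT | hT
    · obtain ⟨R', hR', hne⟩ := exists_aut_not_mem hS hF hR.1 hT hG
        fun hN => hR1 (eq_bot_iff.mpr (hcore ▸ le_core hN))
      exact Or.inr ⟨congrArg (fun H : Subgroup Ω => Nat.card H) hT,
        sysCard_lt hT (normalizerSystem_sub hG) hR' hne⟩
    · exact Or.inl (lt_of_le_of_ne (Subgroup.card_le_of_le hT.le)
        fun e => hT.ne (eq_of_le_of_card_ge le_rfl hT.le e.ge))
  exact ⟨FusionSolvable88.constrained_of_chain hp hsat (IH _ hp hsat hless hfree'), hfree'⟩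

include hFac

/-- Generation by the maps preserving `J(S)` and those fixing `jW(S)`. -/
theorem generate {Φ : Subgroup Ω → (Ω → Ω) → Prop} (hΦ : Closed F (U := S) Φ)
    (hJ : ∀ P f, Mor F (P ⊔ Ws jFun S) f → im (Ws jFun S) f = Ws jFun S → Φ P f)
    (hW : ∀ P f, Mor F (P ⊔ Ws wFun S) f → (∀ x ∈ Ws wFun S, f x = x) → Φ P f)
    {P : Subgroup Ω} {f : Ω → Ω} (hf : Mor F P f) : Φ P f := by
  suffices key : ∀ n, ∀ R : Subgroup Ω, F.IsFullyNormalized R → R ≠ ⊥ →
      Nat.card S ≤ Nat.card (normalizerIn S R) + n → OnNormalizer F R Φ by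
    refine FusionInduct88.induction hS hF hΦ (fun R hR α hα => ?_) hf
    by_cases hb : R = ⊥
    · subst hb
      refine hΦ.congr (hΦ.conj bot_le S.one_mem) fun x hx => ?_
      have hy := afun_mem α hx
      rw [Subgroup.mem_bot] at hx hy
      rw [hy, cj_one, hx]
    have hm := (mem_autGroup hR.1).mp hα
    exact key _ R hR hb (Nat.le_add_left _ _) R (afun α) hm (le_normalizerIn hR.1)
      (fun x hx => le_normalizerIn hR.1 (afun_mem α hx))
      ⟨afun α, by rwa [sup_idem], fun _ _ => rfl, im_afun α⟩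
  intro n
  induction n using Nat.strong_induction_on with
  | _ n IHn =>
    intro R hR hR1 hcard P f hf hP hfv hx
    haveI := finite_normalizerIn (S := S) R
    set T := normalizerIn S R with hTdef
    have hTS : T ≤ S := fun x hx => hx.1
    obtain ⟨hc, hfr⟩ := local_constrained hS hF hfree hcore IH hR hR1
    have hG := isNormalizerSystem_normalizerSystem (F := F) R hR.1
    have hTp : IsPGroup 2 T := hS.to_le hTS
    obtain ⟨f₁, f₂, h1, h1J, h2, h2W, he⟩ := exists_split hFac hTp hc hfr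
      ((mor_normalizerSystem_iff hG).mpr ⟨hf, hP, hfv, hx⟩)
    have h1F := ((mor_normalizerSystem_iff hG).mp h1).1
    have h2F := ((mor_normalizerSystem_iff hG).mp h2).1
    have h1v : ∀ x ∈ P ⊔ Ws jFun T, f₁ x ∈ T := fun x hx => h1.apply_mem hx
    have h2v : ∀ x ∈ im P f₁ ⊔ Ws wFun T, f₂ x ∈ T := fun x hx => h2.apply_mem hx
    have him : im P f₁ ≤ T := im_le_iff.mpr fun x hx => h1v x (Subgroup.mem_sup_left hx)
    suffices Φ P f₁ ∧ Φ (im P f₁) f₂ from
      hΦ.congr (hΦ.comp (h1F.restrict_to le_sup_left) (h2F.restrict_to le_sup_left)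
        (hP.trans hTS) (him.trans hTS) (fun x hx => apply_mem_im hx) this.1 this.2) he
    rcases hTS.eq_or_lt with hT | hT
    · refine ⟨hJ P f₁ ?_ ?_, hW _ f₂ ?_ ?_⟩
      · rwa [hT] at h1F
      · rwa [hT] at h1J
      · rwa [hT] at h2F
      · rwa [hT] at h2W
    have hTne : T ≠ ⊥ := fun e => hR1 (eq_bot_iff.mpr (e ▸ le_normalizerIn hR.1))
    have hrec : ∀ U : Subgroup Ω, F.IsFullyNormalized U → U ≠ ⊥ →
        Nat.card T < Nat.card (normalizerIn S U) → OnNormalizer F U Φ := fun U hU hU1 hlt => by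
      have hUS : normalizerIn S U ≤ S := fun x hx => hx.1
      have := Subgroup.card_le_of_le hUS
      exact IHn (Nat.card S - Nat.card (normalizerIn S U)) (by omega) U hU hU1 (by omega)
    exact ⟨transport fn_jFun hΦ hS hF hT hTne hrec h1F hP h1v h1J,
      transport fn_wFun hΦ hS hF hT hTne hrec h2F him h2v
        ((h2F.restrict_to le_sup_right).im_self fun x hx => (h2W x hx).symm ▸ hx)⟩

/-- A system with trivial core is trivial. -/
theorem eq_bot : S = ⊥ := by
  by_contra hne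
  set J := Ws jFun S with hJdef
  set W := Ws wFun S with hWdef
  have hJS : J ≤ S := Ws_le S
  have hWS : W ≤ S := Ws_le S
  have hJ1 : J ≠ ⊥ := Ws_ne_bot fn_jFun hS hne
  have hJn : S ≤ Subgroup.normalizer (J : Set Ω) := fun g hg =>
    mem_normalizer_of_cj_le hJS fun y hy => cj_mem_Ws fn_jFun hS (Subgroup.le_normalizer hg) hy
  have hJfn : F.IsFullyNormalized J := FusionWeakAlperin.fullyNormalized_of_normal hJS
    fun g hg x hx => cj_mem_of_normalizer (hJn hg) hx
  set X : Set Ω := {y | ∃ f, Mor F J f ∧ im J f = J ∧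
    ∃ z ∈ J, (∀ s ∈ S, s * z = z * s) ∧ z ^ 2 = 1 ∧ f z = y} with hX
  -- the conjugates of `Ω₁(Z(S))` under `Aut(J)` lie in `jW(S)`
  have hXW : X ⊆ W := by
    rintro _ ⟨f, hf, himJ, z, hzJ, hzc, hz2, rfl⟩
    have hT : normalizerIn S J = S := inf_eq_left.mpr hJn
    haveI := finite_normalizerIn (S := S) J
    have hTp : IsPGroup 2 (normalizerIn S J) := hS.to_le fun x hx => hx.1
    obtain ⟨hc, hfr⟩ := local_constrained hS hF hfree hcore IH hJfn hJ1
    have hG := isNormalizerSystem_normalizerSystem (F := F) J hJS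
    have hfE : Mor (normalizerSystem F J hJS) J f :=
      (mor_normalizerSystem_iff hG).mpr ⟨hf, le_normalizerIn hJS,
        fun x hx => le_normalizerIn hJS (himJ ▸ apply_mem_im hx),
        f, by rwa [sup_idem], fun _ _ => rfl, himJ⟩
    obtain ⟨G, _, _, ι, P, hι, hP, hC, hfree'⟩ := exists_model hTp hc hfr
    obtain ⟨hJT, hfT, g, hg⟩ := (FusionRealized87.mor_iff hι).1 hfE
    have hzT : z ∈ normalizerIn S J := hJT hzJ
    have hzP : FusionRealized87.up ι z ∈ (P : Subgroup G) :=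
      hP ▸ FusionRealized87.up_mem_range ι hzT
    have h := conj_mem_jW P (hFac G P hC hfree').2 hzP (fun w hw => by
      rw [SetLike.mem_coe, hP] at hw
      obtain ⟨⟨s, hs⟩, rfl⟩ := hw
      rw [FusionRealized87.up_apply ι hzT, ← map_mul, ← map_mul]
      exact congrArg ι (Subtype.ext (hzc s hs.1)))
      (by rw [FusionRealized87.up_apply ι hzT, ← map_pow]
          convert map_one ι
          exact Subtype.ext hz2) g
    rw [← cj_apply, ← hg z hzJ, ← (map_Ws fn_wFun hTp hι.1 hP).trans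
      (S4FreeFusion.wFun_induced _)] at h
    obtain ⟨w, hw, hwS, he⟩ := (FusionRealized87.mem_upS ι).1 h
    rw [← FusionRealized87.up_inj hι hwS (hfT z hzJ) he, hWdef]
    rwa [hT] at hw
  set A := Subgroup.closure X with hA
  have hAW : A ≤ W := (Subgroup.closure_le _).mpr hXW
  have hAS : A ≤ S := hAW.trans hWS
  have hXJ : X ⊆ J := fun y hy => by
    obtain ⟨f, _, himJ, z, hz, -, -, rfl⟩ := hy
    exact himJ ▸ apply_mem_im hz
  have hAJ : A ≤ J := (Subgroup.closure_le _).mpr hXJ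
  -- maps preserving `J` preserve `A`
  have hinv : ∀ f, Mor F J f → im J f = J → ∀ y ∈ A, f y ∈ A := by
    intro f hf himJ y hy
    induction hy using Subgroup.closure_induction with
    | mem w hw =>
      obtain ⟨f', hf', himJ', z, hz, hzc, hz2, rfl⟩ := hw
      refine Subgroup.subset_closure ⟨f ∘ f', hf'.comp hf fun x hx => himJ' ▸ apply_mem_im hx, ?_,
        z, hz, hzc, hz2, rfl⟩
      rw [← hf'.im_comp, himJ', himJ]
    | one => rw [hf.map_one]; exact one_mem A
    | mul a b ha hb iha ihb => rw [hf.map_mul (hAJ ha) (hAJ hb)]; exact mul_mem iha ihb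
    | inv a ha iha => rw [hf.map_inv (hAJ ha)]; exact inv_mem iha
  have hcjA : ∀ g ∈ S, ∀ x ∈ A, cj g x ∈ A := fun g hg =>
    hinv (cj g) (mor_cj hJS hg) (mem_normalizer_iff_im_cj.mp (hJn hg))
  have hΦ := FusionInduct88.closed_keeps (F := F) (Y := A) hcjA
  have hclosed : F.StronglyClosed A := by
    refine stronglyClosed_iff.mpr ⟨hAS, fun P f hPA hf x hx => ?_⟩
    refine (generate hFac hS hF hfree hcore IH hΦ (fun P' f' hf' him' => ?_)
      (fun P' f' hf' hfix => ?_) hf x hx).1 (hPA hx)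
    · obtain ⟨j, hj, hjl, -, -⟩ := hf'.exists_inv
      intro y hy
      refine ⟨fun hyA => hinv f' (hf'.restrict_to le_sup_right) him' y hyA, fun hyA => ?_⟩
      have hle : J ≤ im (P' ⊔ J) f' := him'.symm.le.trans (im_mono le_sup_right)
      have himj : im J j = J := (hj.restrict_to hle).im_self fun w hw => by
        obtain ⟨v, hv, rfl⟩ := (hf'.restrict_to le_sup_right).mem_im.mp (him'.symm.le hw)
        rw [hjl v (Subgroup.mem_sup_right hv)]
        exact hv
      have h := hinv j (hj.restrict_to hle) himj _ hyA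
      rwa [hjl y (Subgroup.mem_sup_left hy)] at h
    · intro y hy
      refine ⟨fun hyA => (hfix y (hAW hyA)).symm ▸ hyA, fun hyA => ?_⟩
      have e := hfix _ (hAW hyA)
      have hy' := hf'.injOn (Subgroup.mem_sup_right (hAW hyA)) (Subgroup.mem_sup_left hy) e
      rwa [hy'] at hyA
  have hab : IsMulCommutative A := ⟨⟨fun a b => Subtype.ext (by
    obtain ⟨a', ha', hae⟩ := hAW a.2
    obtain ⟨b', hb', hbe⟩ := hAW b.2
    show (a : Ω) * b = b * a
    rw [← hae, ← hbe, ← map_mul, ← map_mul]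
    exact congrArg S.subtype ((EGroupJHat.isFam_jW (⊤ : Subgroup S)).comm a' ha' b' hb'))⟩⟩
  -- a central involution
  haveI : Nontrivial S := (Subgroup.nontrivial_iff_ne_bot S).mpr hne
  haveI := hS.center_nontrivial
  obtain ⟨c, hc⟩ := exists_ne (1 : Subgroup.center S)
  obtain ⟨k, hk⟩ := (hS.to_subgroup (Subgroup.center S)).exists_card_eq
  obtain ⟨z, hz⟩ := exists_prime_orderOf_dvd_card' (G := Subgroup.center S) 2 (by
    rw [hk]
    rcases k with _ | k
    · rw [pow_zero, Nat.card_eq_one_iff_unique] at hk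
      exact absurd (hk.1.elim c 1) hc
    · exact dvd_pow_self 2 k.succ_ne_zero)
  have hz2 : ((z : S) : Ω) ^ 2 = 1 := by
    rw [← Subgroup.coe_pow, ← Subgroup.coe_pow, ← hz, pow_orderOf_eq_one]; rfl
  have hzc : ∀ s ∈ S, s * ((z : S) : Ω) = ((z : S) : Ω) * s := fun s hs =>
    congrArg Subtype.val (Subgroup.mem_center_iff.mp z.2 ⟨s, hs⟩)
  have hzJ : ((z : S) : Ω) ∈ J := ⟨(z : S), S4FreeFusion.mem_thomJ_of_central trivial
    (fun s _ => Subgroup.mem_center_iff.mp z.2 s) (Subtype.ext hz2), rfl⟩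
  have hzA : ((z : S) : Ω) ∈ A := Subgroup.subset_closure
    ⟨id, mor_id hJS, im_id J, _, hzJ, hzc, hz2, rfl⟩
  have := le_core (FusionSysChain.isNormal_of_abelian hS hF hab hclosed) hzA
  rw [hcore, Subgroup.mem_bot] at this
  have h1 : z = 1 := Subtype.ext (Subtype.ext this)
  rw [h1, orderOf_one] at hz
  exact absurd hz (by norm_num)

end Step

/-- A free system is solvable. -/
theorem chain (hFac : Factor.{u}) (hS : IsPGroup 2 S) (hF : F.IsSaturated 2)
    (hfree : FusionFree.AutFree 2 F) : FusionSolvable88.Chain F ⊥ S := by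
  refine induction_less (M := fun {Ω} _ {S} _ E => Sol E) (fun {Ω} _ {S} _ F₀ h₀ h₁ IH hfr => ?_)
    F hS hF hfree
  by_cases hcore : F₀.core = ⊥
  · have e := eq_bot hFac h₀ h₁ hfr hcore IH
    subst e
    exact FusionSolvable88.Chain.refl (stronglyClosed_of_normal normal_bot)
  obtain ⟨Z, hZ1, hZc, hZn⟩ := FusionSysChain.exists_abelian_normal h₀ core_isNormal hcore
  obtain ⟨Ω', _, S', _, θ, E, hE, hsurj, hS', hEs, hlt⟩ :=
    FusionNilTools.exists_quotient h₀ h₁ hZn hZ1
  have hE' := (IH E hS' hEs (Or.inl hlt) (FusionFree.autFree_quotient h₀ h₁ hfr hZn hE)).preimage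
    hsurj.1
  have hker : (θ.ker).map S.subtype = Z := (FusionMorph88.factor_stronglyClosed hE).symm
  have hbot : preimageAlong θ (⊥ : Subgroup Ω') = Z := by
    rw [← hker]; rfl
  have htop : preimageAlong θ S' = S := le_antisymm (FusionMorph88.preimageAlong_le θ S')
    fun x hx => FusionMorph88.mem_preimageAlong.mpr ⟨hx, by
      rw [FusionMorph88.app_apply θ hx, ← hE.2.2.1]; exact ⟨_, rfl⟩⟩
  rw [hbot, htop] at hE'
  refine (FusionSolvable88.Chain.snoc (FusionSolvable88.Chain.refl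
    (stronglyClosed_of_normal normal_bot)) (stronglyClosed_of_normal hZn) bot_le ?_).trans hE'
  refine Subgroup.commutator_le.mpr fun a ha b hb => ?_
  rw [Subgroup.mem_bot, commutatorElement_eq_one_iff_mul_comm]
  exact congrArg Subtype.val (hZc.is_comm.comm ⟨a, ha⟩ ⟨b, hb⟩)

/-- At every prime a free system is realizable and solvable. -/
theorem realizable_solvable (hFac : Factor.{u}) {p : ℕ} [Fact p.Prime] (hS : IsPGroup p S)
    (hF : F.IsSaturated p) (hfree : F.IsSectionFree p ↥(Cfsg.qd p)) :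
    F.IsRealizable p ∧ F.IsSolvableSystem := by
  have ha := FusionFree.autFree_of_sectionFree hS hF ⟨MulEquiv.refl _⟩ hfree
  have hsol : F.IsSolvableSystem := by
    by_cases hp : p = 2
    · subst hp
      exact (FusionSolvable88.solvable_iff_chain hS hF).2 (chain hFac hS hF ha)
    · exact FusionFreeOdd.solvable_of_autFree hp hS hF ha
  refine ⟨?_, hsol⟩
  obtain ⟨G, hG, ι, hfin, hι, hT, -⟩ := S5090.result p hS F
    (FusionSolvable88.constrained_of_chain hS hF ((FusionSolvable88.solvable_iff_chain hS hF).1 hsol))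
  exact ⟨G, hG, hfin, ι, hι, hT⟩

/-- A system without `S₃` in its automisers is constrained. -/
theorem constrained_of_noS3 (hFac : Factor.{u}) (hS : IsPGroup 2 S) (hF : F.IsSaturated 2)
    (h3 : ∀ U : Subgroup Ω, U ≤ S → ¬ Cfsg.Involves (Equiv.Perm (Fin 3)) ↥(F.autGroup U)) :
    F.IsConstrained 2 :=
  FusionSolvable88.constrained_of_chain hS hF
    (chain hFac hS hF (S4FreeWrap34.autFree_of_noS3 h3))

end Cfsg.Agent.S4FreeFusionSys34
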