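import Mathlib

/-! Finite facts about `Z₂ × S₄`, by evaluation. -/

set_option autoImplicit false

namespace Cfsg.Agent.S6Model62

open Equiv

/-- The model of the centralizer. -/
abbrev H0 := Multiplicative (ZMod 2) × Equiv.Perm (Fin 4)

def t0 : H0 := (Multiplicative.ofAdd 1, 1)
def p0 : Equiv.Perm (Fin 4) := swap 0 1 * swap 2 3
def z0 : H0 := (1, p0)
def s0 : H0 := (1, swap 0 1)

set_option maxRecDepth 20000

theorem t0_facts : t0 * t0 = 1 ∧ t0 ≠ 1 ∧ z0 * z0 = 1 ∧ z0 ≠ 1 ∧ Commute t0 z0 ∧ Commute s0 z0 ∧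
    s0 * s0 = 1 := by
  unfold Commute SemiconjBy; decide +kernel

theorem central : ∀ c : H0, (∀ y : H0, c * y = y * c) → c = 1 ∨ c = t0 := by decide +kernel

theorem t0_central : ∀ y : H0, t0 * y = y * t0 := by decide +kernel

theorem three_comm_z0 : ∀ a : H0, a * z0 = z0 * a → a ^ 3 = 1 → a = 1 := by decide +kernel

theorem exists_three : ∃ a : H0, a ^ 3 = 1 ∧ a ≠ 1 := by decide +kernel

theorem comm_of_comm : ∀ a b : H0, a * z0 = z0 * a → b * z0 = z0 * b →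
    a * b * a⁻¹ * b⁻¹ = 1 ∨ a * b * a⁻¹ * b⁻¹ = z0 := by decide +kernel

theorem exists_comm_z0 : ∃ a b : H0, a * z0 = z0 * a ∧ b * z0 = z0 * b ∧ a * b * a⁻¹ * b⁻¹ = z0 := by
  decide +kernel

theorem involution_cases : ∀ a : H0, a * a = 1 → a = 1 ∨ a = t0 ∨ ∃ c : H0,
    a = c * z0 * c⁻¹ ∨ a = c * (t0 * z0) * c⁻¹ ∨ a = c * s0 * c⁻¹ ∨ a = c * (t0 * s0) * c⁻¹ := by
  decide +kernel

theorem inner_cases : ∀ a : H0, a * a = 1 → a.1 = 1 → a ≠ 1 →
    ∃ c : H0, a = c * z0 * c⁻¹ ∨ a = c * s0 * c⁻¹ := by decide +kernel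

theorem four_group : ∃ c : H0, Commute c t0 ∧ z0 * (c * z0 * c⁻¹) ≠ 1 ∧ ∃ d : H0,
    d * z0 * d⁻¹ = z0 * (c * z0 * c⁻¹) := by
  unfold Commute SemiconjBy; decide +kernel

theorem six_abelian : ∀ a : H0, a * a = 1 → a ≠ 1 → a ≠ t0 → ∀ b : H0, b ^ 3 = 1 → a * b = b * a → b = 1 := by
  decide +kernel

/-- `(a, p) ↦ (a + parity p, p)`. -/
def sgn (p : Equiv.Perm (Fin 4)) : Multiplicative (ZMod 2) :=
  if Perm.sign p = 1 then 1 else Multiplicative.ofAdd 1

theorem sgn_mul : ∀ p q : Equiv.Perm (Fin 4), sgn (p * q) = sgn p * sgn q := by decide +kernel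

def twist : H0 →* H0 where
  toFun a := (a.1 * sgn a.2, a.2)
  map_one' := by decide +kernel
  map_mul' a b := by
    refine Prod.ext ?_ rfl
    show a.1 * b.1 * sgn (a.2 * b.2) = a.1 * sgn a.2 * (b.1 * sgn b.2)
    rw [sgn_mul]
    exact mul_mul_mul_comm _ _ _ _

theorem twist_twist : ∀ a : H0, twist (twist a) = a := by decide +kernel

theorem twist_facts : twist t0 = t0 ∧ twist z0 = z0 ∧ twist s0 = t0 * s0 := by decide +kernel

theorem fst_index : ∀ b : H0, b * z0 = z0 * b → ((b * t0).1 = 1 ↔ ¬ b.1 = 1) := by decide +kernel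

theorem card_centralizer : Nat.card {a : H0 // a * z0 = z0 * a} = 16 := by
  rw [Nat.card_eq_fintype_card]; decide +kernel

theorem card_H0 : Nat.card H0 = 48 := by
  rw [Nat.card_eq_fintype_card]; decide +kernel

theorem snd_kernel : ∀ a : H0, a.2 = 1 → a = 1 ∨ a = t0 := by decide +kernel

def rot : Equiv.Perm (Fin 4) := swap 0 2 * swap 0 1 * swap 0 3

def d8Fun : DihedralGroup 4 → Equiv.Perm (Fin 4)
  | .r i => rot ^ i.val
  | .sr i => swap 0 1 * rot ^ i.val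

theorem d8_mul : ∀ x y : DihedralGroup 4, d8Fun (x * y) = d8Fun x * d8Fun y := by decide +kernel

def d8 : DihedralGroup 4 →* Equiv.Perm (Fin 4) := MonoidHom.mk' d8Fun d8_mul

theorem d8_inj : Function.Injective d8 := by
  rw [injective_iff_map_eq_one]; decide +kernel

theorem d8_range : ∀ p : Equiv.Perm (Fin 4), p * p0 = p0 * p ↔ ∃ x, d8 x = p := by decide +kernel

end Cfsg.Agent.S6Model62
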