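import Cfsg.Agent.S5945
import Cfsg.Agent.S4231
import Cfsg.Agent.S2929
import Cfsg.Agent.S3035
import Cfsg.Agent.Lib.TransferThompson
import Cfsg.Agent.Lib.HallCore
import Cfsg.Agent.Lib.S6Model62

/-! Groups with a `2`-central involution whose centralizer is `Z₂ × S₄`. -/

set_option autoImplicit false

namespace Cfsg.Agent.S6Char62

open Cfsg Cfsg.Agent.S6Model62
open Equiv (Perm)

variable {G : Type*} [Group G]

/-- The hypotheses, transported to the model. -/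
structure Dat (ι : H0 →* G) : Prop where
  inj : Function.Injective ι
  cent_t : ∀ g, Commute g (ι t0) → ∃ a, ι a = g
  cent_z : ∀ g, Commute g (ι z0) → ∃ a, ι a = g ∧ Commute a z0
  two_part : ∀ n : ℕ, 16 * n = Nat.card G → Odd n

variable {ι : H0 →* G}

lemma Dat.twisted (h : Dat ι) : Dat (ι.comp twist) := by
  obtain ⟨ht, hz, -⟩ := twist_facts
  refine ⟨h.inj.comp (Function.LeftInverse.injective twist_twist), fun g hg => ?_, fun g hg => ?_,
    h.two_part⟩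
  · rw [MonoidHom.comp_apply, ht] at hg
    obtain ⟨a, ha⟩ := h.cent_t g hg
    exact ⟨twist a, by rw [MonoidHom.comp_apply, twist_twist, ha]⟩
  · rw [MonoidHom.comp_apply, hz] at hg
    obtain ⟨a, ha, hc⟩ := h.cent_z g hg
    refine ⟨twist a, by rw [MonoidHom.comp_apply, twist_twist, ha], ?_⟩
    have := hc.map twist
    rwa [hz] at this

lemma Dat.t_not_z (h : Dat ι) (g : G) : g * ι z0 * g⁻¹ ≠ ι t0 := by
  intro hg
  obtain ⟨a, ha, ha1⟩ := exists_three
  have hca : Commute (g⁻¹ * ι a * g) (ι z0) := by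
    have h1 : Commute (ι a) (ι t0) := (show Commute a t0 from (t0_central a).symm).map ι
    show g⁻¹ * ι a * g * ι z0 = ι z0 * (g⁻¹ * ι a * g)
    calc g⁻¹ * ι a * g * ι z0 = g⁻¹ * (ι a * (g * ι z0 * g⁻¹)) * g := by group
      _ = g⁻¹ * ((g * ι z0 * g⁻¹) * ι a) * g := by rw [hg, h1.eq]
      _ = ι z0 * (g⁻¹ * ι a * g) := by group
  obtain ⟨b, hb, hbz⟩ := h.cent_z _ hca
  have hb3 : b ^ 3 = 1 := h.inj (by
    rw [map_pow, hb, map_one, pow_succ, pow_two]
    calc g⁻¹ * ι a * g * (g⁻¹ * ι a * g) * (g⁻¹ * ι a * g) = g⁻¹ * (ι a * ι a * ι a) * g := by group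
      _ = 1 := by rw [← map_mul, ← map_mul, show a * a * a = a ^ 3 by rw [pow_succ, pow_two], ha,
        map_one, mul_one, inv_mul_cancel])
  have hb1 := three_comm_z0 b hbz hb3
  rw [hb1, map_one] at hb
  refine ha1 (h.inj ?_)
  rw [map_one]
  calc ι a = g * (g⁻¹ * ι a * g) * g⁻¹ := by group
    _ = 1 := by rw [← hb, mul_one, mul_inv_cancel]

lemma Dat.tz_not_z (h : Dat ι) (g : G) : g * ι z0 * g⁻¹ ≠ ι (t0 * z0) := by
  intro hg
  have key : ∀ a : H0, Commute a z0 → ∃ a' : H0, ι a' = g⁻¹ * ι a * g ∧ Commute a' z0 := by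
    intro a ha
    refine h.cent_z _ ?_
    have h1 : Commute (ι a) (ι (t0 * z0)) :=
      ((show Commute a t0 from (t0_central a).symm).mul_right ha).map ι
    show g⁻¹ * ι a * g * ι z0 = ι z0 * (g⁻¹ * ι a * g)
    calc g⁻¹ * ι a * g * ι z0 = g⁻¹ * (ι a * (g * ι z0 * g⁻¹)) * g := by group
      _ = g⁻¹ * ((g * ι z0 * g⁻¹) * ι a) * g := by rw [hg, h1.eq]
      _ = ι z0 * (g⁻¹ * ι a * g) := by group
  obtain ⟨a, b, ha, hb, hab⟩ := exists_comm_z0
  obtain ⟨a', ha', haz⟩ := key a ha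
  obtain ⟨b', hb', hbz⟩ := key b hb
  have e : ι (a' * b' * a'⁻¹ * b'⁻¹) = g⁻¹ * ι z0 * g := by
    rw [← hab, map_mul, map_mul, map_mul, map_inv, map_inv, ha', hb', map_mul, map_mul, map_mul,
      map_inv, map_inv]
    group
  rcases comm_of_comm a' b' haz hbz with h1 | h1 <;> rw [h1] at e
  · refine t0_facts.2.2.2.1 (h.inj ?_)
    rw [map_one] at e ⊢
    calc ι z0 = g * (g⁻¹ * ι z0 * g) * g⁻¹ := by group
      _ = 1 := by rw [← e, mul_one, mul_inv_cancel]
  · have : g * ι z0 * g⁻¹ = ι z0 := by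
      conv_lhs => rw [e]
      group
    rw [hg] at this
    exact t0_facts.2.1 (mul_eq_right.1 (h.inj this))

/-- `s` and `t s` are not both conjugate to `t`. -/
lemma Dat.not_both (h : Dat ι) : (∀ g : G, g * ι s0 * g⁻¹ ≠ ι t0) ∨
    (∀ g : G, g * ι (t0 * s0) * g⁻¹ ≠ ι t0) := by
  by_contra hh
  push Not at hh
  obtain ⟨⟨g, hg⟩, ⟨k, hk⟩⟩ := hh
  have hz2 : z0 * z0 = 1 := t0_facts.2.2.1
  have hsz : Commute (ι s0) (ι z0) := t0_facts.2.2.2.2.2.1.map ι
  have hw : Commute (g * ι z0 * g⁻¹) (ι t0) := by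
    rw [← hg]
    exact ((hsz.symm).map (MulAut.conj g).toMonoidHom)
  obtain ⟨a, ha⟩ := h.cent_t _ hw
  have ha2 : a * a = 1 := h.inj (by
    rw [map_mul, ha, map_one, show g * ι z0 * g⁻¹ * (g * ι z0 * g⁻¹) = g * (ι z0 * ι z0) * g⁻¹ by group,
      ← map_mul, hz2, map_one, mul_one, mul_inv_cancel])
  rcases involution_cases a ha2 with rfl | rfl | ⟨c, rfl | rfl | rfl | rfl⟩
  · rw [map_one] at ha
    exact t0_facts.2.2.2.1 (h.inj (by rw [map_one]; exact conj_eq_one_iff.1 ha.symm))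
  · exact h.t_not_z g ha.symm
  · have hfix : ((ι c)⁻¹ * g) * ι z0 * ((ι c)⁻¹ * g)⁻¹ = ι z0 := by
      rw [show ((ι c)⁻¹ * g) * ι z0 * ((ι c)⁻¹ * g)⁻¹ = (ι c)⁻¹ * (g * ι z0 * g⁻¹) * ι c by group, ← ha,
        map_mul, map_mul, map_inv]
      group
    obtain ⟨d, hd, -⟩ := h.cent_z _ (mul_inv_eq_iff_eq_mul.1 hfix)
    have hdt : ι t0 = ι (d * s0 * d⁻¹) := by
      rw [map_mul, map_mul, map_inv, hd,
        show ((ι c)⁻¹ * g) * ι s0 * ((ι c)⁻¹ * g)⁻¹ = (ι c)⁻¹ * (g * ι s0 * g⁻¹) * ι c by group, hg,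
        ← map_inv, ← map_mul, ← map_mul, ← t0_central c⁻¹]
      simp [mul_assoc]
    have h2 : s0 = t0 := by
      have := h.inj hdt
      calc s0 = d⁻¹ * (d * s0 * d⁻¹) * d := by group
        _ = d⁻¹ * t0 * d := by rw [← this]
        _ = t0 := by rw [mul_assoc, t0_central d, inv_mul_cancel_left]
    revert h2; decide
  · refine h.tz_not_z ((ι c)⁻¹ * g) ?_
    rw [show ((ι c)⁻¹ * g) * ι z0 * ((ι c)⁻¹ * g)⁻¹ = (ι c)⁻¹ * (g * ι z0 * g⁻¹) * ι c by group, ← ha]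
    simp [mul_assoc]
  · refine h.t_not_z (g * (ι c)⁻¹ * g) ?_
    rw [show g * (ι c)⁻¹ * g * ι z0 * (g * (ι c)⁻¹ * g)⁻¹ =
      g * ((ι c)⁻¹ * (g * ι z0 * g⁻¹) * ι c) * g⁻¹ by group, ← ha, map_mul, map_mul, map_inv]
    conv_rhs => rw [← hg]
    group
  · refine h.t_not_z (k * (ι c)⁻¹ * g) ?_
    rw [show k * (ι c)⁻¹ * g * ι z0 * (k * (ι c)⁻¹ * g)⁻¹ =
      k * ((ι c)⁻¹ * (g * ι z0 * g⁻¹) * ι c) * k⁻¹ by group, ← ha]
    conv_rhs => rw [← hk]
    simp only [map_mul, map_inv]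
    group

lemma Dat.odd_normal_eq_bot [Finite G] (h : Dat ι) (O : Subgroup G) [O.Normal]
    (hO : Odd (Nat.card O)) : O = ⊥ := by
  have hfpf : ∀ x ∈ O, Commute x (ι z0) → x = 1 := by
    intro x hx hc
    obtain ⟨a, rfl, ha⟩ := h.cent_z x hc
    have h16 : orderOf a ∣ 16 := by
      let C : Subgroup H0 := Subgroup.centralizer {z0}
      have hC : Nat.card C = 16 := by
        rw [← card_centralizer]
        exact Nat.card_congr (Equiv.subtypeEquivRight fun b => Subgroup.mem_centralizer_singleton_iff)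
      rw [← hC, ← Subgroup.orderOf_mk a (show a ∈ C from Subgroup.mem_centralizer_singleton_iff.2 ha.eq)]
      exact orderOf_dvd_natCard _
    have hodd : Odd (orderOf (ι a)) := by
      rw [← Subgroup.orderOf_mk (ι a) hx]
      exact hO.of_dvd_nat (orderOf_dvd_natCard _)
    rw [orderOf_injective ι h.inj] at hodd
    obtain ⟨i, -, hi⟩ := (Nat.dvd_prime_pow Nat.prime_two).1 (show orderOf a ∣ 2 ^ 4 from h16)
    rw [hi] at hodd
    rcases Nat.eq_zero_or_pos i with rfl | hi0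
    · rw [orderOf_eq_one_iff.1 hi, map_one]
    · exact absurd hodd (Nat.not_odd_iff_even.2 ((Nat.even_pow).2 ⟨even_two, hi0.ne'⟩))
  have inv_of : ∀ d : H0, ∀ x ∈ O, ι (d * z0 * d⁻¹) * x * (ι (d * z0 * d⁻¹))⁻¹ = x⁻¹ := by
    intro d x hx
    set w := ι (d * z0 * d⁻¹) with hw
    let f : ↥O →* ↥O := (MulAut.conjNormal (H := O) w).toMonoidHom
    have hff : MonoidHom.FixedPointFree f := by
      intro y hy
      have hy' : w * (y : G) * w⁻¹ = y := congrArg Subtype.val hy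
      have hy2 : ι d⁻¹ * (y : G) * (ι d⁻¹)⁻¹ ∈ O := Subgroup.Normal.conj_mem inferInstance _ y.2 _
      have := hfpf _ hy2 ?_
      · exact Subtype.ext (conj_eq_one_iff.1 this)
      · show _ * _ = _ * _
        have e : w * (y : G) = y * w := mul_inv_eq_iff_eq_mul.1 hy'
        rw [hw, map_mul, map_mul, map_inv] at e
        calc ι d⁻¹ * (y : G) * (ι d⁻¹)⁻¹ * ι z0
            = (ι d)⁻¹ * ((y : G) * (ι d * ι z0 * (ι d)⁻¹)) * ι d := by rw [map_inv]; group
          _ = (ι d)⁻¹ * ((ι d * ι z0 * (ι d)⁻¹) * (y : G)) * ι d := by rw [e]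
          _ = ι z0 * (ι d⁻¹ * (y : G) * (ι d⁻¹)⁻¹) := by rw [map_inv]; group
    have hw2 : w * w = 1 := by
      rw [hw, ← map_mul, show d * z0 * d⁻¹ * (d * z0 * d⁻¹) = d * (z0 * z0) * d⁻¹ by group,
        t0_facts.2.2.1, mul_one, mul_inv_cancel, map_one]
    have hinv : Function.Involutive f := fun y => Subtype.ext (by
      show w * (w * (y : G) * w⁻¹) * w⁻¹ = y
      calc w * (w * (y : G) * w⁻¹) * w⁻¹ = (w * w) * y * (w * w)⁻¹ := by group
        _ = y := by rw [hw2, inv_one, one_mul, mul_one])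
    exact congrArg Subtype.val (congrFun (hff.coe_eq_inv_of_involutive hinv) ⟨x, hx⟩)
  obtain ⟨c, -, -, d, hd⟩ := four_group
  rw [eq_bot_iff]
  intro x hx
  have h1 := inv_of 1 x hx
  rw [one_mul, inv_one, mul_one] at h1
  have h2 := inv_of c x⁻¹ (inv_mem hx)
  have h2' := inv_of c x hx
  have h3 := inv_of d x hx
  rw [hd, map_mul] at h3
  have e : x = x⁻¹ := by
    conv_rhs => rw [← h3]
    calc x = ι z0 * x⁻¹ * (ι z0)⁻¹ := by
          have := congrArg (fun y => y⁻¹) h1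
          simp only [mul_inv_rev, inv_inv] at this
          rw [← mul_assoc] at this
          exact this.symm
      _ = ι z0 * (ι (c * z0 * c⁻¹) * x * (ι (c * z0 * c⁻¹))⁻¹) * (ι z0)⁻¹ := by rw [h2']
      _ = _ := by group
  have hx2 : x * x = 1 := by
    nth_rw 2 [e]
    exact mul_inv_cancel x
  have hodd : Odd (orderOf x) := by
    rw [← Subgroup.orderOf_mk x hx]
    exact hO.of_dvd_nat (orderOf_dvd_natCard _)
  have hdvd : orderOf x ∣ 2 := orderOf_dvd_of_pow_eq_one (by rw [pow_two]; exact hx2)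
  rcases (Nat.dvd_prime Nat.prime_two).1 hdvd with h4 | h4
  · exact Subgroup.mem_bot.2 (orderOf_eq_one_iff.1 h4)
  · rw [h4] at hodd; exact absurd hodd (by decide)

/-- A normal subgroup meeting a subgroup of index two trivially is trivial, unless `t` is central. -/
lemma Dat.bot_of_disjoint [Finite G] (h : Dat ι) (N : Subgroup G) [N.Normal] (hN : N.index = 2)
    (K : Subgroup G) [K.Normal] (hK : K ⊓ N = ⊥) :
    K = ⊥ ∨ Subgroup.centralizer ({ι t0} : Set G) = ⊤ := by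
  by_cases hb : K = ⊥
  · exact Or.inl hb
  right
  obtain ⟨k, hk, hk1⟩ := (K.ne_bot_iff_exists_ne_one).1 hb |> fun ⟨⟨k, hk⟩, h1⟩ =>
    (⟨k, hk, fun e => h1 (Subtype.ext e)⟩ : ∃ k, k ∈ K ∧ k ≠ 1)
  have hkN : k ∉ N := fun hh => hk1 (by rw [← Subgroup.mem_bot, ← hK]; exact ⟨hk, hh⟩)
  have hcen : ∀ g, g * k * g⁻¹ = k := fun g => by
    have hgk : g * k * g⁻¹ ∈ K := Subgroup.Normal.conj_mem inferInstance k hk g
    have hgkN : g * k * g⁻¹ ∉ N := fun hh => hkN (by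
      simpa [mul_assoc] using Subgroup.Normal.conj_mem (H := N) inferInstance _ hh g⁻¹)
    have hN' : g * k * g⁻¹ * k⁻¹ ∈ N := by
      rw [Subgroup.mul_mem_iff_of_index_two hN, inv_mem_iff]
      exact iff_of_false hgkN hkN
    have : g * k * g⁻¹ * k⁻¹ ∈ K ⊓ N := Subgroup.mem_inf.2 ⟨mul_mem hgk (inv_mem hk), hN'⟩
    rw [hK, Subgroup.mem_bot] at this
    exact mul_inv_eq_one.1 this
  have hkc : ∀ g, k * g = g * k := fun g => (mul_inv_eq_iff_eq_mul.1 (hcen g)).symm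
  obtain ⟨a, rfl⟩ := h.cent_t k (hkc _)
  rcases central a (fun y => h.inj (by rw [map_mul, map_mul]; exact hkc _)) with rfl | rfl
  · exact absurd (map_one ι) hk1
  · rw [eq_top_iff]
    intro g _
    exact Subgroup.mem_centralizer_singleton_iff.2 (hkc g).symm

lemma Dat.card_centralizer_t (h : Dat ι) :
    Nat.card (Subgroup.centralizer ({ι t0} : Set G)) = 48 := by
  rw [← card_H0]
  refine Nat.card_congr (Equiv.ofBijective (fun a => (⟨ι a, Subgroup.mem_centralizer_singleton_iff.2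
    (by rw [← map_mul, ← map_mul, t0_central a])⟩ : ↥(Subgroup.centralizer ({ι t0} : Set G))))
    ⟨fun a b hab => h.inj (congrArg Subtype.val hab), fun g => ?_⟩).symm
  obtain ⟨a, ha⟩ := h.cent_t g.1 (Subgroup.mem_centralizer_singleton_iff.1 g.2)
  exact ⟨a, Subtype.ext ha⟩

end Cfsg.Agent.S6Char62
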