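import Cfsg.Agent.Lib.S9Bound37Tab

/-!
The sums over the local group of order 324 (S3343, character bound).
-/

set_option autoImplicit false

namespace Cfsg.Agent.S9Bound37

def vX : X := evX 1

def invs : Finset X := Finset.univ.filter fun x => x ≠ oneX ∧ mulX x x = oneX

theorem dv_support : ∀ x : X, dv x ≠ (0, 0) →
    (isBase x ∧ x ≠ oneX) ∨ (isBase (cubeX x) ∧ cubeX x ≠ oneX) := by
  decide +kernel

theorem dv_sum : ∑ x : X, dv x = (-324, 0) := by decide +kernel

theorem dv_norm : ∑ x : X, ((dv x).1 ^ 2 - (dv x).1 * (dv x).2 + (dv x).2 ^ 2) = 972 := by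
  decide +kernel

theorem invs_conj : ∀ x ∈ invs, ∃ y : X, ∀ t : Fin 9, act x (act y t) = act y (act vX t) := by
  decide +kernel

theorem invs_sum : ∑ x ∈ invs, ∑ y ∈ invs, dv (mulX x y) = (-972, 0) := by decide +kernel

theorem small_centralizer : ∀ x : X, ¬ isBase x → cubeX x = oneX →
    (Finset.univ.filter fun y : X => ∀ t : Fin 9, act x (act y t) = act y (act x t)).card < 27 := by
  decide +kernel

end Cfsg.Agent.S9Bound37
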