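import Cfsg.Agent.Lib.S9Bound37W
import Cfsg.Agent.Lib.S9Bound37Tab2
import Cfsg.Agent.Lib.ClassAlgebraVal

/-!
The character bound `m = 1` in the branch with automiser `A₄` (S3343).
-/

set_option autoImplicit false

namespace Cfsg.Agent.S9Bound37

open S9Model37
open scoped ComplexConjugate

universe u

set_option linter.unusedSectionVars false

/-! ### The local group -/

theorem toW_cube_eq_one (x : X) : toW x ^ 3 = 1 ↔ cubeX x = oneX := by
  rw [← toW_cube, toW_eq_one_iff]

theorem mem_invs (x : X) : x ∈ invs ↔ toW x ≠ 1 ∧ toW x * toW x = 1 := by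
  simp [invs, ← toW_mul, toW_eq_one_iff]

theorem card_baseW : Nat.card (base.subgroupOf W0) = 27 := by
  rw [← base_card, ← Fintype.card_subtype, ← Nat.card_eq_fintype_card]
  exact (Nat.card_congr (toW.subtypeEquiv fun x => (mem_base_iff x).symm)).symm

theorem base_cube {w : W0} (hw : w ∈ base.subgroupOf W0) : w ^ 3 = 1 := by
  obtain ⟨x, rfl⟩ := toW.surjective w
  rw [toW_cube_eq_one]
  have h : ∀ y : X, isBase y → cubeX y = oneX := by decide +kernel
  exact h x ((mem_base_iff x).1 hw)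

theorem base_comm {a b : W0} (ha : a ∈ base.subgroupOf W0) (hb : b ∈ base.subgroupOf W0) :
    a * b = b * a := by
  obtain ⟨x, rfl⟩ := toW.surjective a
  obtain ⟨y, rfl⟩ := toW.surjective b
  rw [← toW_mul, ← toW_mul]
  have h : ∀ y : X, isBase y → ∀ x : X, isBase x → mulX x y = mulX y x := by decide +kernel
  rw [h y ((mem_base_iff y).1 hb) x ((mem_base_iff x).1 ha)]

theorem few_commuting {a : W0} (ha : a ∉ base.subgroupOf W0) (h3 : a ^ 3 = 1) :
    Nat.card {w : W0 // a * w = w * a} < 27 := by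
  obtain ⟨x, rfl⟩ := toW.surjective a
  refine lt_of_eq_of_lt ?_ (small_centralizer x (fun h => ha ((mem_base_iff x).2 h))
    ((toW_cube_eq_one x).1 h3))
  rw [← Fintype.card_subtype, ← Nat.card_eq_fintype_card]
  exact (Nat.card_congr (toW.subtypeEquiv fun y => (toW_comm_iff x y).symm)).symm

section

variable [Fintype W0]

theorem dW_support {w : W0} (hw : dW w ≠ 0) :
    (w ∈ base.subgroupOf W0 ∧ w ≠ 1) ∨ (w ^ 3 ∈ base.subgroupOf W0 ∧ w ^ 3 ≠ 1) := by
  obtain ⟨x, rfl⟩ := toW.surjective w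
  rw [dW_apply] at hw
  rcases dv_support x fun h => hw (by rw [h, val_zero]) with ⟨h1, h2⟩ | ⟨h1, h2⟩
  · exact Or.inl ⟨(mem_base_iff x).2 h1, fun h => h2 ((toW_eq_one_iff x).1 h)⟩
  · rw [← toW_cube]
    exact Or.inr ⟨(mem_base_iff _).2 h1, fun h => h2 ((toW_eq_one_iff _).1 h)⟩

theorem dW_one : dW 1 = 0 := by
  by_contra h
  rcases dW_support h with ⟨-, h⟩ | ⟨-, h⟩ <;> simp at h

theorem sum_dW : ∑ w : W0, dW w = -324 := by
  rw [← toW.sum_comp, Finset.sum_congr rfl fun x _ => dW_apply x, ← val_sum, dv_sum]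
  simp [val]

theorem sum_norm_dW : ∑ w : W0, dW w * conj (dW w) = 972 := by
  rw [← toW.sum_comp, Finset.sum_congr rfl fun x _ => by rw [dW_apply, val_mul_conj],
    ← Int.cast_sum, dv_norm]
  norm_num

theorem card_W0 : Nat.card W0 = 324 := by
  rw [← Nat.card_congr toW]
  simp

theorem inner_dW_one : Cfsg.classInner dW (fun _ => (1 : ℂ)) = -1 := by
  simp only [Cfsg.classInner, map_one, mul_one, sum_dW, card_W0]
  norm_num

theorem inner_dW_self : Cfsg.classInner dW dW = 3 := by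
  simp only [Cfsg.classInner, sum_norm_dW, card_W0]
  norm_num

end

/-! ### The ambient group -/

variable {M : Type u} [Group M] [Finite M] {J : Subgroup M} {φ : W0 →* M}

/-- The hypotheses. -/
structure Hyp (J : Subgroup M) (φ : W0 →* M) : Prop where
  inj : Function.Injective φ
  range_eq : φ.range = Subgroup.normalizer (J : Set M)
  base_eq : (base.subgroupOf W0).map φ = J
  loc : ∀ j, j ∈ J → j ≠ 1 → Subgroup.centralizer {j} ≤ Subgroup.normalizer (J : Set M)

theorem Hyp.mem_range_of_commute (h : Hyp J φ) {j g : M} (hj : j ∈ J) (hj1 : j ≠ 1)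
    (hg : g * j = j * g) : g ∈ φ.range := by
  rw [h.range_eq]
  exact h.loc j hj hj1 (Subgroup.mem_centralizer_singleton_iff.2 hg)

theorem Hyp.comm (h : Hyp J φ) {a b : M} (ha : a ∈ J) (hb : b ∈ J) : a * b = b * a := by
  rw [← h.base_eq] at ha hb
  obtain ⟨a, ha, rfl⟩ := ha
  obtain ⟨b, hb, rfl⟩ := hb
  rw [← map_mul, base_comm ha hb, map_mul]

/-- Fusion of the nontrivial elements of `J` is controlled by the normaliser. -/
theorem Hyp.fusion (h : Hyp J φ) {j g : M} (hj : j ∈ J) (hj1 : j ≠ 1) (hgj : g * j * g⁻¹ ∈ J) :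
    g ∈ φ.range := by
  have hne : g * j * g⁻¹ ≠ 1 := by simpa using hj1
  have hsub : ∀ k ∈ J, g * k * g⁻¹ ∈ φ.range := fun k hk => by
    refine h.mem_range_of_commute hgj hne ?_
    calc g * k * g⁻¹ * (g * j * g⁻¹) = g * (k * j) * g⁻¹ := by group
      _ = g * (j * k) * g⁻¹ := by rw [h.comm hk hj]
      _ = _ := by group
  have hJ : ∀ k ∈ J, g * k * g⁻¹ ∈ J := by
    intro k hk
    by_contra hk'
    obtain ⟨a, ha⟩ := hsub k hk
    have ha3 : a ^ 3 = 1 := h.inj (by
      rw [map_pow, ha, conj_pow, map_one]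
      rw [← h.base_eq] at hk
      obtain ⟨k, hk, rfl⟩ := hk
      rw [← map_pow, base_cube hk, map_one, mul_one, mul_inv_cancel])
    have hab : a ∉ base.subgroupOf W0 := fun hm => hk' (by
      rw [← ha, ← h.base_eq]; exact ⟨a, hm, rfl⟩)
    refine absurd (few_commuting hab ha3) (not_lt.2 ?_)
    rw [← card_baseW]
    have hmem : ∀ k : base.subgroupOf W0, φ k ∈ J := fun k => h.base_eq ▸ ⟨k, k.2, rfl⟩
    choose f hf using fun k : base.subgroupOf W0 => hsub (φ k) (hmem k)
    refine Nat.card_le_card_of_injective (fun k => ⟨f k, h.inj ?_⟩) fun k l hkl => ?_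
    · rw [map_mul, map_mul, ha, hf, conj_mul, conj_mul, h.comm hk (hmem _)]
    · have e := congrArg φ (congrArg Subtype.val hkl)
      simp only [hf] at e
      exact Subtype.ext (h.inj (by simpa using e))
  rw [h.range_eq]
  refine Subgroup.mem_normalizer_iff.2 fun k => ⟨hJ k, fun hk => ?_⟩
  let f : J → J := fun k => ⟨g * k * g⁻¹, hJ k k.2⟩
  have hf : Function.Injective f :=
    fun a b hab => Subtype.ext (by simpa [f] using congrArg Subtype.val hab)
  obtain ⟨⟨l, hl⟩, hlk⟩ := Finite.injective_iff_surjective.1 hf ⟨g * k * g⁻¹, hk⟩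
  have : l = k := by simpa [f] using congrArg Subtype.val hlk
  rwa [← this]

section

variable [Fintype W0]

theorem Hyp.dfusion (h : Hyp J φ) {a b : W0} {g : M} (ha : dW a ≠ 0) (hb : dW b ≠ 0)
    (hg : g * φ a * g⁻¹ = φ b) : g ∈ φ.range := by
  have hJ : ∀ w ∈ base.subgroupOf W0, φ w ∈ J := fun w hw => h.base_eq ▸ ⟨w, hw, rfl⟩
  have h1 : ∀ w : W0, w ≠ 1 → φ w ≠ 1 := fun w hw e => hw (h.inj (by rw [e, map_one]))
  have h3 : g * φ (a ^ 3) * g⁻¹ = φ (b ^ 3) := by rw [map_pow, map_pow, ← hg, conj_pow]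
  rcases dW_support ha with ⟨hab, ha1⟩ | ⟨ha3, ha1⟩
  · rcases dW_support hb with ⟨hbb, -⟩ | ⟨-, hb1⟩
    · exact h.fusion (hJ a hab) (h1 a ha1) (hg ▸ hJ b hbb)
    · rw [base_cube hab, map_one, mul_one, mul_inv_cancel] at h3
      exact absurd h3.symm (h1 _ hb1)
  · rcases dW_support hb with ⟨hbb, -⟩ | ⟨hb3, -⟩
    · rw [base_cube hbb, map_one, conj_eq_one_iff] at h3
      exact absurd h3 (h1 _ ha1)
    · exact h.fusion (hJ _ ha3) (h1 _ ha1) (h3 ▸ hJ _ hb3)

/-- An involution inverting an element of the support lies in the normaliser. -/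
theorem Hyp.invert_mem (h : Hyp J φ) {w : W0} {p : M} (hw : dW w ≠ 0)
    (hp : p * φ w * p⁻¹ = (φ w)⁻¹) : p ∈ φ.range := by
  have hJ : ∀ w ∈ base.subgroupOf W0, φ w ∈ J := fun w hw => h.base_eq ▸ ⟨w, hw, rfl⟩
  have h1 : ∀ w : W0, w ≠ 1 → φ w ≠ 1 := fun w hw e => hw (h.inj (by rw [e, map_one]))
  rcases dW_support hw with ⟨hb, hw1⟩ | ⟨hb, hw1⟩
  · exact h.fusion (hJ w hb) (h1 w hw1) (hp ▸ J.inv_mem (hJ w hb))
  · refine h.fusion (hJ _ hb) (h1 _ hw1) ?_
    rw [map_pow, ← conj_pow, hp, inv_pow, ← map_pow]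
    exact J.inv_mem (hJ _ hb)

variable [Fintype M]
set_option linter.unusedSectionVars false

/-- The transported virtual character. -/
noncomputable def dN (hinj : Function.Injective φ) : φ.range → ℂ :=
  dW ∘ (MonoidHom.ofInjective hinj).symm

theorem dN_apply (hinj : Function.Injective φ) {w : W0} {n : φ.range} (hn : φ w = n) :
    dN hinj n = dW w := by
  obtain rfl : n = MonoidHom.ofInjective hinj w := Subtype.ext hn.symm
  rw [dN, Function.comp_apply, MulEquiv.symm_apply_apply]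

theorem ext_dN (hinj : Function.Injective φ) (w : W0) :
    Cfsg.extendByZero φ.range (dN hinj) (φ w) = dW w := by
  rw [CharInduced.ext_zero_of_mem _ (MonoidHom.mem_range.2 ⟨w, rfl⟩)]
  exact dN_apply hinj rfl

theorem exists_of_ext_ne_zero (hinj : Function.Injective φ) {g : M}
    (hg : Cfsg.extendByZero φ.range (dN hinj) g ≠ 0) : ∃ w, φ w = g ∧ dW w ≠ 0 := by
  by_cases hm : g ∈ φ.range
  · obtain ⟨w, rfl⟩ := hm
    exact ⟨w, rfl, by rwa [ext_dN] at hg⟩
  · exact absurd (CharInduced.ext_zero_of_not_mem _ hm) hg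

/-- The induced virtual character. -/
noncomputable def theta (hinj : Function.Injective φ) : M → ℂ := Cfsg.indFun φ.range (dN hinj)

theorem theta_isGen (hinj : Function.Injective φ) :
    Cfsg.IsGeneralizedCharacter M (theta hinj) :=
  CharInduced.isGenChar_ind _
    (CharBasicDecomp.isGeneralizedCharacter_comap (MonoidHom.ofInjective hinj).symm.toMonoidHom
      dW_isGen)

theorem theta_one (hinj : Function.Injective φ) : theta hinj 1 = 0 := by
  rw [theta, CharInduced.ind_one_apply, dN_apply hinj (w := 1) (by simp), dW_one, mul_zero]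

theorem theta_inner_one (hinj : Function.Injective φ) :
    Cfsg.classInner (theta hinj) (fun _ => (1 : ℂ)) = -1 := by
  classical
  rw [theta, CharInduced.inner_ind_left φ.range (dN hinj) (fun _ _ => rfl), ← inner_dW_one]
  exact CharBasicOrth.classInner_congr_equiv (MonoidHom.ofInjective hinj).symm dW (fun _ => (1 : ℂ))

theorem Hyp.theta_inner_self (h : Hyp J φ) :
    Cfsg.classInner (theta h.inj) (theta h.inj) = 3 := by
  classical
  let T : Set M := {g | ∃ w, φ w = g ∧ dW w ≠ 0}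
  have hTI : ∀ g : M, g ∉ φ.range → ∀ t ∈ T, g * t * g⁻¹ ∈ T → t = 1 := by
    rintro g hg _ ⟨a, rfl, ha⟩ ⟨b, hb, hb0⟩
    exact absurd (h.dfusion ha hb0 hb.symm) hg
  have hv : ∀ x : φ.range, (x : M) ∉ T → dN h.inj x = 0 := by
    intro n hx
    obtain ⟨w, hw⟩ := n.2
    rw [dN_apply h.inj hw]
    by_contra hne
    exact hx ⟨w, hw, hne⟩
  have h1 : dN h.inj 1 = 0 := by
    rw [dN_apply h.inj (w := 1) (by simp), dW_one]
  have hcl : Cfsg.IsClassFunction φ.range (dN h.inj) :=
    CharBasicDecomp.isClassFunction_of_isGeneralizedCharacter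
      (CharBasicDecomp.isGeneralizedCharacter_comap
        (MonoidHom.ofInjective h.inj).symm.toMonoidHom dW_isGen)
  rw [theta, CharInduced.classInner_ind_of_ti T φ.range hTI _ _ hcl hv hv h1, ← inner_dW_self]
  exact CharBasicOrth.classInner_congr_equiv (MonoidHom.ofInjective h.inj).symm dW dW

theorem theta_involution (hinj : Function.Injective φ) {v : M} (hv : v * v = 1) :
    theta hinj v = 0 := by
  refine CharInduced.ind_eq_zero_of_vanish _ _ v fun x n hn => ?_
  obtain ⟨w, hwn⟩ := n.2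
  rw [dN_apply hinj hwn]
  by_contra hne
  have hw : w * w = 1 := hinj (by
    have e : φ w = x⁻¹ * v * x := hwn.trans hn.symm
    rw [map_mul, map_one, e]
    calc x⁻¹ * v * x * (x⁻¹ * v * x) = x⁻¹ * (v * v) * x := by group
      _ = 1 := by rw [hv]; group)
  have h3 : w ^ 3 = w := by rw [pow_three, hw, mul_one]
  rcases dW_support hne with ⟨hb, h1⟩ | ⟨hb, h1⟩
  · exact h1 (by rw [← h3, base_cube hb])
  · rw [h3] at hb h1
    exact h1 (by rw [← h3, base_cube hb])

/-- Conjugates of the involution `v` in the normaliser: a sum over them. -/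
theorem Hyp.sum_conjugates (h : Hyp J φ) {v : W0} (hv : v = toW vX) (F : M → ℂ)
    (hF : ∀ y : M, F (y⁻¹ * φ v * y) ≠ 0 → y⁻¹ * φ v * y ∈ φ.range) :
    ∑ y : M, F (y⁻¹ * φ v * y) =
      (Nat.card (Subgroup.centralizer {φ v}) : ℂ) * ∑ x ∈ invs, F (φ (toW x)) := by
  classical
  have hex : ∀ x ∈ invs, ∃ g : M, g⁻¹ * φ v * g = φ (toW x) := by
    intro x hx
    obtain ⟨y, hy⟩ := invs_conj x hx
    have e : toW x * toW y = toW y * toW vX := by
      refine Subtype.ext (Equiv.ext fun t => ?_)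
      simp only [Subgroup.coe_mul, Equiv.Perm.mul_apply, coe_toW, toP_apply]
      exact hy t
    refine ⟨(φ (toW y))⁻¹, ?_⟩
    rw [inv_inv, ← map_inv, ← map_mul, ← map_mul, hv, ← e, mul_inv_cancel_right]
  choose! g hg using hex
  have hC : ∀ c : Subgroup.centralizer {φ v}, ∀ x ∈ invs,
      ((c : M) * g x)⁻¹ * φ v * ((c : M) * g x) = φ (toW x) := by
    intro c x hx
    have e : (c : M)⁻¹ * φ v * c = φ v := by
      rw [mul_assoc, ← Subgroup.mem_centralizer_singleton_iff.1 c.2, ← mul_assoc, inv_mul_cancel,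
        one_mul]
    calc ((c : M) * g x)⁻¹ * φ v * ((c : M) * g x) = (g x)⁻¹ * ((c : M)⁻¹ * φ v * c) * g x := by group
      _ = _ := by rw [e, hg x hx]
  have hrhs : (Nat.card (Subgroup.centralizer {φ v}) : ℂ) * ∑ x ∈ invs, F (φ (toW x)) =
      ∑ p ∈ (Finset.univ : Finset (Subgroup.centralizer {φ v})) ×ˢ invs,
        F (((p.1 : M) * g p.2)⁻¹ * φ v * ((p.1 : M) * g p.2)) := by
    rw [Finset.sum_product, Finset.sum_congr rfl fun c _ => Finset.sum_congr rfl fun x hx =>
      congrArg F (hC c x hx), Finset.sum_const, Finset.card_univ, nsmul_eq_mul,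
      Nat.card_eq_fintype_card]
  rw [hrhs, ← Finset.sum_filter_of_ne (s := Finset.univ)
    (p := fun y : M => y⁻¹ * φ v * y ∈ φ.range) (fun y _ => hF y)]
  symm
  refine Finset.sum_bij (fun p _ => (p.1 : M) * g p.2) ?_ ?_ ?_ (fun _ _ => rfl)
  · intro p hp
    rw [Finset.mem_filter, hC _ _ (Finset.mem_product.1 hp).2]
    exact ⟨Finset.mem_univ _, ⟨_, rfl⟩⟩
  · rintro ⟨c, x⟩ hp ⟨c', x'⟩ hp' e
    have h1 := hC c x (Finset.mem_product.1 hp).2
    simp only at e
    rw [e, hC c' x' (Finset.mem_product.1 hp').2] at h1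
    obtain rfl : x' = x := toW.injective (h.inj h1)
    exact Prod.ext (Subtype.ext (mul_right_cancel e)) rfl
  · intro y hy
    obtain ⟨w, hw⟩ := (Finset.mem_filter.1 hy).2
    obtain ⟨x, rfl⟩ := toW.surjective w
    have hv2 : toW vX * toW vX = 1 := by rw [← toW_mul, toW_eq_one_iff]; decide +kernel
    have hv1 : toW vX ≠ 1 := by rw [Ne, toW_eq_one_iff]; decide
    have hx : x ∈ invs := by
      refine (mem_invs x).2 ⟨fun e => hv1 ?_, h.inj ?_⟩
      · apply h.inj
        rw [e, map_one, hv] at hw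
        rw [map_one]
        calc φ (toW vX) = y * (y⁻¹ * φ (toW vX) * y) * y⁻¹ := by group
          _ = 1 := by rw [← hw]; group
      · rw [map_mul, map_one, hw, hv]
        calc y⁻¹ * φ (toW vX) * y * (y⁻¹ * φ (toW vX) * y)
            = y⁻¹ * φ (toW vX * toW vX) * y := by rw [map_mul]; group
          _ = 1 := by rw [hv2, map_one]; group
    have hc : y * (g x)⁻¹ ∈ Subgroup.centralizer {φ v} := by
      rw [Subgroup.mem_centralizer_singleton_iff]
      have e : y⁻¹ * φ v * y = (g x)⁻¹ * φ v * g x := by rw [← hw, hg x hx]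
      calc y * (g x)⁻¹ * φ v = y * ((g x)⁻¹ * φ v * g x) * (g x)⁻¹ := by group
        _ = φ v * (y * (g x)⁻¹) := by rw [← e]; group
    exact ⟨(⟨_, hc⟩, x), Finset.mem_product.2 ⟨Finset.mem_univ _, hx⟩, by simp⟩

theorem Hyp.sum_theta (h : Hyp J φ) {v : W0} (hv : v = toW vX) :
    ∑ x : M, theta h.inj (φ v * (x * φ v * x⁻¹)) =
      -3 * (Nat.card (Subgroup.centralizer {φ v}) : ℂ) ^ 2 := by
  classical
  set E := Cfsg.extendByZero φ.range (dN h.inj) with hE
  set P : M → M := fun y => y⁻¹ * φ v * y with hP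
  have hv2 : φ v * φ v = 1 := by
    rw [hv, ← map_mul, ← toW_mul, (toW_eq_one_iff _).2 (by decide +kernel), map_one]
  have hP2 : ∀ y, P y * P y = 1 := fun y => by
    calc y⁻¹ * φ v * y * (y⁻¹ * φ v * y) = y⁻¹ * (φ v * φ v) * y := by group
      _ = 1 := by rw [hv2]; group
  have hmem : ∀ {p q : M}, p * p = 1 → q * q = 1 → E (p * q) ≠ 0 →
      p ∈ φ.range ∧ q ∈ φ.range := by
    intro p q hp hq hne
    obtain ⟨w, hw, hw0⟩ := exists_of_ext_ne_zero h.inj hne
    have hqn : q ∈ φ.range := h.invert_mem (p := q) hw0 (by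
      rw [hw, inv_eq_of_mul_eq_one_right hq, mul_inv_rev, inv_eq_of_mul_eq_one_right hp,
        inv_eq_of_mul_eq_one_right hq, mul_assoc, mul_assoc, hq, mul_one])
    refine ⟨?_, hqn⟩
    have e : p = φ w * q := by rw [hw, mul_assoc, hq, mul_one]
    rw [e]; exact φ.range.mul_mem ⟨w, rfl⟩ hqn
  have hswap : ∑ x : M, ∑ y : M, E (y⁻¹ * (φ v * (x * φ v * x⁻¹)) * y) =
      ∑ y : M, ∑ z : M, E (P y * P z) := by
    rw [Finset.sum_comm]
    refine Finset.sum_congr rfl fun y _ => ?_
    refine Fintype.sum_equiv ((Equiv.inv M).trans (Equiv.mulRight y)) _ _ fun x => congrArg E ?_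
    simp only [hP, Equiv.trans_apply, Equiv.inv_apply, Equiv.coe_mulRight]
    group
  have hinner : ∀ y : M, ∑ z : M, E (P y * P z) =
      (Nat.card (Subgroup.centralizer {φ v}) : ℂ) * ∑ x ∈ invs, E (P y * φ (toW x)) := fun y =>
    h.sum_conjugates hv (fun p => E (P y * p)) fun z hz => (hmem (hP2 y) (hP2 z) hz).2
  have houter : ∀ x ∈ invs, ∑ y : M, E (P y * φ (toW x)) =
      (Nat.card (Subgroup.centralizer {φ v}) : ℂ) * ∑ x' ∈ invs, E (φ (toW x') * φ (toW x)) := by
    intro x hx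
    exact h.sum_conjugates hv (fun p => E (p * φ (toW x))) fun y hy =>
      (hmem (hP2 y) (by rw [← map_mul, ((mem_invs x).1 hx).2, map_one]) hy).1
  have hS : ∑ x ∈ invs, ∑ x' ∈ invs, E (φ (toW x') * φ (toW x)) = -972 := by
    rw [Finset.sum_comm, Finset.sum_congr rfl fun x _ => Finset.sum_congr rfl fun x' _ => by
      rw [hE, ← map_mul, ext_dN, ← toW_mul, dW_apply]]
    simp only [← val_sum, invs_sum]
    simp [val]
  have hcard : (Nat.card φ.range : ℂ) = 324 := by
    rw [← Nat.card_congr (MonoidHom.ofInjective h.inj).toEquiv, card_W0]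
    norm_num
  simp only [theta, CharInduced.indFun_apply, ← Finset.mul_sum, ← hE, hswap, hinner]
  rw [Finset.sum_comm, Finset.sum_congr rfl houter, ← Finset.mul_sum, hS, hcard]
  ring

end

/-! ### The degree equation -/

theorem arith {a b x y : ℝ} {m : ℕ} (hb : 1 ≤ b) (ha : a = b + 1) (hx : x = y + 1) (hy : |y| ≤ b)
    (hm : Odd m) (hQ : -1 + x ^ 2 / a - y ^ 2 / b = -(4 * (m : ℝ) ^ 2) / (2 * m + 1)) : m = 1 := by
  subst ha hx
  have hy1 := abs_le.1 hy
  have hm0 : (0 : ℝ) ≤ m := Nat.cast_nonneg m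
  field_simp at hQ
  have h1 : (b - y) ^ 2 ≤ 4 * (b * b) := by nlinarith
  have h2 : (m : ℝ) ^ 2 < 2 * m + 1 := by nlinarith [sq_nonneg (b - y), mul_pos (show (0:ℝ) < b by linarith) (show (0:ℝ) < b + 1 by linarith)]
  have h3 : m < 3 := by
    by_contra h
    have h' : (3 : ℝ) ≤ m := by exact_mod_cast not_lt.1 h
    nlinarith
  obtain ⟨k, rfl⟩ := hm
  omega

/-- The character bound. -/
theorem eq_one {M : Type u} [Group M] [Finite M] {J : Subgroup M} {phi : W0 →* M}
    (inj : Function.Injective phi) (hrange : phi.range = Subgroup.normalizer (J : Set M))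
    (hbase : (base.subgroupOf W0).map phi = J)
    (hloc : ∀ j, j ∈ J → j ≠ 1 → Subgroup.centralizer {j} ≤ Subgroup.normalizer (J : Set M))
    (v : W0) (hv : (v : P9) = d1 * d2) (m : ℕ) (hm : Odd m)
    (hC : Nat.card (Subgroup.centralizer {phi v}) = 12 * m ^ 2)
    (hM : Nat.card M = 108 * m ^ 2 * (2 * m + 1)) : m = 1 := by
  classical
  have : Fintype M := Fintype.ofFinite M
  have : Fintype W0 := Fintype.ofFinite _
  have h : Hyp J phi := ⟨inj, hrange, hbase, hloc⟩
  have hvX : v = toW vX := Subtype.ext (by rw [hv, coe_toW]; decide +kernel)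
  have hv2 : phi v * phi v = 1 := by
    rw [hvX, ← map_mul, ← toW_mul, (toW_eq_one_iff _).2 (by decide +kernel), map_one]
  obtain ⟨c, hc, hθ⟩ := CharBasicDecomp.exists_int_coeff (theta_isGen (φ := phi) inj)
  let one := CharBasicDecomp.trivIrr M
  have hc1 : c one = -1 := by
    have := hc one
    rw [show ((one : Cfsg.IrrCharacter M) : M → ℂ) = fun _ => 1 from rfl, theta_inner_one inj] at this
    exact_mod_cast this.symm
  have hsq : ∑ χ, c χ * c χ = 3 := by
    have h3 := CharBasicOrth.classInner_eq_sum (φ := theta inj)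
      (CharBasicDecomp.isClassFunction_of_isGeneralizedCharacter (theta_isGen (φ := phi) inj))
    rw [h.theta_inner_self] at h3
    simp only [hc, map_intCast] at h3
    exact_mod_cast h3.symm
  have hrest : ∑ χ ∈ Finset.univ.erase one, c χ * c χ = 2 := by
    rw [← Finset.add_sum_erase _ _ (Finset.mem_univ one), hc1] at hsq
    linarith
  have hle : ∀ χ ∈ Finset.univ.erase one, c χ ≠ 0 → c χ * c χ = 1 := by
    intro χ hχ hne
    have h4 : c χ * c χ ≤ 2 :=
      hrest ▸ Finset.single_le_sum (f := fun χ => c χ * c χ) (fun _ _ => mul_self_nonneg _) hχ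
    rcases lt_trichotomy (c χ) 0 with h5 | h5 | h5
    · have : c χ = -1 := by nlinarith
      rw [this]; norm_num
    · exact absurd h5 hne
    · have : c χ = 1 := by nlinarith
      rw [this]; norm_num
  obtain ⟨α, β, hαβ, hS⟩ : ∃ α β, α ≠ β ∧
      (Finset.univ.erase one).filter (fun χ => c χ ≠ 0) = {α, β} := by
    refine Finset.card_eq_two.1 ?_
    have : ((((Finset.univ.erase one).filter fun χ => c χ ≠ 0)).card : ℤ) = 2 := by
      rw [← hrest, ← Finset.sum_filter_of_ne (p := fun χ => c χ ≠ 0)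
        (fun χ _ hne e => hne (by rw [e, mul_zero]))]
      rw [Finset.sum_congr rfl fun χ hχ =>
        hle χ (Finset.mem_filter.1 hχ).1 (Finset.mem_filter.1 hχ).2]
      simp
    exact_mod_cast this
  have hsum : ∀ f : Cfsg.IrrCharacter M → ℂ,
      ∑ χ, (c χ : ℂ) * f χ = -f one + ((c α : ℂ) * f α + (c β : ℂ) * f β) := by
    intro f
    rw [← Finset.add_sum_erase _ _ (Finset.mem_univ one), hc1,
      ← Finset.sum_filter_of_ne (p := fun χ => c χ ≠ 0)
        (fun χ _ hne e => hne (by rw [e, Int.cast_zero, zero_mul])), hS, Finset.sum_pair hαβ]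
    push_cast
    ring
  have hθg : ∀ g, theta inj g = ∑ χ, (c χ : ℂ) * (χ : M → ℂ) g := fun g => by
    conv_lhs => rw [hθ]
    simp
  -- the values
  have hreal : ∀ χ : Cfsg.IrrCharacter M, ∃ X : ℝ, (χ : M → ℂ) (phi v) = (X : ℂ) ∧
      |X| ≤ (Cfsg.charDegree (χ : M → ℂ) : ℝ) := by
    intro χ
    have hch := ClassAlgebraVal.irr_isCharacter χ
    have hinv := CharBasic.isCharacter_inv hch (phi v)
    rw [inv_eq_of_mul_eq_one_right hv2] at hinv
    obtain ⟨X, hX⟩ := Complex.conj_eq_iff_real.1 hinv.symm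
    refine ⟨X, hX, ?_⟩
    have := CharBasic.isCharacter_norm_le hch (phi v)
    rw [hX, ClassAlgebraVal.apply_one_eq_charDegree, Complex.norm_real, Complex.natCast_re] at this
    exact this
  obtain ⟨x, hx, hxa⟩ := hreal α
  obtain ⟨y, hy, hyb⟩ := hreal β
  have hA : (1 : ℝ) ≤ Cfsg.charDegree (α : M → ℂ) := by exact_mod_cast ClassAlgebraVal.charDegree_pos α
  have hB : (1 : ℝ) ≤ Cfsg.charDegree (β : M → ℂ) := by exact_mod_cast ClassAlgebraVal.charDegree_pos β
  set a : ℝ := (Cfsg.charDegree (α : M → ℂ) : ℝ) with ha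
  set b : ℝ := (Cfsg.charDegree (β : M → ℂ) : ℝ) with hb
  have hone : ∀ g, ((one : Cfsg.IrrCharacter M) : M → ℂ) g = 1 := fun g => rfl
  have e1 : (c α : ℝ) * a + (c β : ℝ) * b = 1 := by
    have := (hθg 1).symm.trans (theta_one inj)
    rw [hsum, hone, ClassAlgebraVal.apply_one_eq_charDegree,
      ClassAlgebraVal.apply_one_eq_charDegree] at this
    have h' : (((c α : ℝ) * a + (c β : ℝ) * b : ℝ) : ℂ) = ((1 : ℝ) : ℂ) := by
      push_cast [ha, hb]; linear_combination this
    exact_mod_cast h'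
  have e2 : (c α : ℝ) * x + (c β : ℝ) * y = 1 := by
    have := (hθg (phi v)).symm.trans (theta_involution inj hv2)
    rw [hsum, hone, hx, hy] at this
    have h' : (((c α : ℝ) * x + (c β : ℝ) * y : ℝ) : ℂ) = ((1 : ℝ) : ℂ) := by
      push_cast; linear_combination this
    exact_mod_cast h'
  have e3 : -1 + ((c α : ℝ) * (x ^ 2 / a) + (c β : ℝ) * (y ^ 2 / b)) =
      -(4 * (m : ℝ) ^ 2) / (2 * m + 1) := by
    have hs := h.sum_theta hvX
    have key : ∀ χ : Cfsg.IrrCharacter M, ∑ g : M, (χ : M → ℂ) (phi v * (g * phi v * g⁻¹)) =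
        (Nat.card M : ℂ) * ((χ : M → ℂ) (phi v) * (χ : M → ℂ) (phi v) / (χ : M → ℂ) 1) := by
      intro χ
      have := ClassAlgebraVal.sum_apply_mul_conj χ.2 (phi v) (phi v)
      rw [mul_div_assoc', ← this, mul_div_cancel_left₀ _ (CharBasic.isIrrCharacter_apply_one_ne_zero χ.2)]
    simp only [hθg] at hs
    rw [Finset.sum_comm] at hs
    simp only [← Finset.mul_sum, key, hsum, hone, hx, hy, hC, hM,
      ClassAlgebraVal.apply_one_eq_charDegree] at hs
    have hm1 : (m : ℝ) ≠ 0 := Nat.cast_ne_zero.2 (Nat.odd_iff.1 hm |> fun h e => by simp [e] at h)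
    have hs' : (108 * (m : ℝ) ^ 2 * (2 * m + 1)) *
        (-1 + ((c α : ℝ) * (x ^ 2 / a) + (c β : ℝ) * (y ^ 2 / b))) = -3 * (12 * (m : ℝ) ^ 2) ^ 2 := by
      have h' : ((((108 * (m : ℝ) ^ 2 * (2 * m + 1)) *
          (-1 + ((c α : ℝ) * (x ^ 2 / a) + (c β : ℝ) * (y ^ 2 / b)))) : ℝ) : ℂ) =
          ((-3 * (12 * (m : ℝ) ^ 2) ^ 2 : ℝ) : ℂ) := by
        rw [← ClassAlgebraVal.apply_one_eq_charDegree, hone] at hs
        push_cast [ha, hb] at hs ⊢
        linear_combination hs
      exact_mod_cast h'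
    rw [eq_div_iff (by positivity)]
    have h108 : (108 * (m : ℝ) ^ 2) ≠ 0 := by positivity
    apply mul_left_cancel₀ h108
    linear_combination hs'
  have hmem : ∀ χ ∈ ({α, β} : Finset (Cfsg.IrrCharacter M)), (c χ : ℝ) = 1 ∨ (c χ : ℝ) = -1 := by
    intro χ hχ
    rw [← hS, Finset.mem_filter] at hχ
    rcases mul_self_eq_one_iff.1 (hle χ hχ.1 hχ.2) with e | e <;> simp [e]
  rcases hmem α (by simp) with eα | eα <;> rcases hmem β (by simp) with eβ | eβ <;>
    simp only [eα, eβ] at e1 e2 e3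
  · linarith
  · exact arith (a := a) (x := x) (y := y) hB (by linarith) (by linarith) hyb hm (by linear_combination e3)
  · exact arith (a := b) (x := y) (y := x) hA (by linarith) (by linarith) hxa hm (by linear_combination e3)
  · linarith

end Cfsg.Agent.S9Bound37
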