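import Cfsg.Agent.Lib.S9Model37

/-!
Finite tables for the local group of order 324 (S3343, character bound).
-/

set_option autoImplicit false

namespace Cfsg.Agent.S9Bound37

open Equiv S9Model37

abbrev X := Fin 3 × Fin 3 × Fin 3 × Fin 4 × Fin 3

def ev : Fin 4 → P9 := ![1, d1 * d2, d2 * d3, d1 * d3]

def flip (v : ℕ) (b : ℕ) : Bool :=
  match v, b with
  | 1, 0 => true | 1, 1 => true
  | 2, 1 => true | 2, 2 => true
  | 3, 0 => true | 3, 2 => true
  | _, _ => false

def actN (a b c v i t : ℕ) : ℕ :=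
  let bl := (t / 3 + i) % 3
  let o := t % 3
  let o' := if flip v bl then (if o = 0 then 1 else if o = 1 then 0 else o) else o
  let e := if bl = 0 then a else if bl = 1 then b else c
  3 * bl + (o' + e) % 3

def act : X → Fin 9 → Fin 9 := fun ⟨a, b, c, v, i⟩ t => ⟨actN a.1 b.1 c.1 v.1 i.1 t.1, by
  simp only [actN]; omega⟩

def toP : X → P9 := fun ⟨a, b, c, v, i⟩ =>
  c1 ^ a.1 * c2 ^ b.1 * c3 ^ c.1 * ev v * rot ^ i.1

/-- The position inside its block. -/
def pos (t : Fin 9) : Fin 3 := ⟨t.1 % 3, Nat.mod_lt _ (by norm_num)⟩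

def ofF (p : Fin 9 → Fin 9) : X :=
  let i : Fin 3 := ⟨(p 0).1 / 3, by omega⟩
  let src : Fin 3 → Fin 9 := fun b => ⟨3 * (b - i).1, by omega⟩
  let fl : Fin 3 → Bool := fun b => pos (p (src b + 1)) != pos (p (src b)) + 1
  let e : Fin 3 → Fin 3 := fun b => if fl b then pos (p (src b + 1)) else pos (p (src b))
  let v : Fin 4 := if fl 0 then (if fl 1 then 1 else 3) else (if fl 1 then 2 else 0)
  (e 0, e 1, e 2, v, i)

def mulX (x y : X) : X := ofF fun t => act x (act y t)

def oneX : X := (0, 0, 0, 0, 0)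
def zX : X := (1, 1, 1, 0, 0)
def evX (v : Fin 4) : X := (0, 0, 0, v, 0)

def cubeX (x : X) : X := mulX x (mulX x x)

def inK (x : X) : Prop := ∀ t : Fin 9, act x (act zX t) = act zX (act x t)

instance (x : X) : Decidable (inK x) := inferInstanceAs (Decidable (∀ _, _))

def ex (x : X) : Fin 3 := pos (act x 0) + pos (act x 3) + pos (act x 6)

/-- Values in the Eisenstein integers, by coordinates. -/
abbrev Eis := ℤ × ℤ

def tab : Fin 3 → Eis := ![(0, 0), (-1, 1), (-2, -1)]

def cv (x : X) : Eis := if inK x then tab (ex x) else (0, 0)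

def evc (v : Fin 4) (x : X) : X := mulX (evX v) (mulX x (evX v))

def dv (x : X) : Eis := cv (evc 0 x) + cv (evc 1 x) + cv (evc 2 x) + cv (evc 3 x)

def isBase (x : X) : Prop := x.2.2.2.1 = 0 ∧ x.2.2.2.2 = 0

instance (x : X) : Decidable (isBase x) := inferInstanceAs (Decidable (_ ∧ _))

theorem pow_c1 : ∀ a : Fin 3, ∀ t : Fin 9, (c1 ^ a.1) t = act (a, 0, 0, 0, 0) t := by
  decide +kernel
theorem pow_c2 : ∀ a : Fin 3, ∀ t : Fin 9, (c2 ^ a.1) t = act (0, a, 0, 0, 0) t := by
  decide +kernel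
theorem pow_c3 : ∀ a : Fin 3, ∀ t : Fin 9, (c3 ^ a.1) t = act (0, 0, a, 0, 0) t := by
  decide +kernel
theorem ev_apply : ∀ v : Fin 4, ∀ t : Fin 9, ev v t = act (evX v) t := by decide +kernel
theorem pow_rot : ∀ i : Fin 3, ∀ t : Fin 9, (rot ^ i.1) t = act (0, 0, 0, 0, i) t := by
  decide +kernel

theorem act_factor : ∀ a b c : Fin 3, ∀ v : Fin 4, ∀ i : Fin 3, ∀ t : Fin 9,
    act (a, 0, 0, 0, 0) (act (0, b, 0, 0, 0) (act (0, 0, c, 0, 0)
      (act (evX v) (act (0, 0, 0, 0, i) t)))) = act (a, b, c, v, i) t := by decide +kernel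

theorem ofF_act : ∀ x : X, ofF (act x) = x := by decide +kernel

def gens : List X :=
  [(1, 0, 0, 0, 0), (0, 1, 0, 0, 0), (0, 0, 1, 0, 0), (0, 0, 0, 0, 1), evX 1, evX 2]

theorem gen_mul : ∀ g ∈ gens, ∀ x : X, ∀ t : Fin 9, act (mulX g x) t = act g (act x t) := by
  decide +kernel

theorem base_gen : ∀ g ∈ gens.take 3, ∀ x : X, isBase x → isBase (mulX g x) := by decide +kernel

theorem base_card : (Finset.univ.filter fun x : X => isBase x).card = 27 := by decide +kernel

theorem ev_coset : ∀ x : X, ∃ v : Fin 4, inK (mulX (evX v) x) := by decide +kernel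
theorem ev_inj : ∀ u v : Fin 4, inK (mulX (evX v) (evX u)) → u = v := by decide +kernel
theorem ev_sq : ∀ v : Fin 4, mulX (evX v) (evX v) = oneX := by decide +kernel

theorem ex_mul : ∀ x : X, inK x → ∀ y : X, inK y → ex (mulX x y) = ex x + ex y := by
  decide +kernel

end Cfsg.Agent.S9Bound37
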