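import Cfsg.Agent.Lib.S9Bound37Tab
import Cfsg.Agent.Lib.CharInducedTI
import Cfsg.Agent.Lib.CharBasicLinear

/-!
The virtual character `d` of the local group of order 324 (S3343, character bound).
-/

set_option autoImplicit false

namespace Cfsg.Agent.S9Bound37

open Equiv S9Model37
open scoped ComplexConjugate Pointwise

theorem toP_apply (x : X) (t : Fin 9) : toP x t = act x t := by
  obtain ⟨a, b, c, v, i⟩ := x
  simp only [toP, Perm.mul_apply, pow_c1, pow_c2, pow_c3, ev_apply, pow_rot]
  exact act_factor a b c v i t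

theorem toP_injective : Function.Injective toP := fun x y h => by
  rw [← ofF_act x, ← ofF_act y]
  exact congrArg ofF (funext fun t => by rw [← toP_apply, ← toP_apply, h])

theorem c1_mem : c1 ∈ W0 := Subgroup.subset_closure (by simp)
theorem c2_mem : c2 ∈ W0 := Subgroup.subset_closure (by simp)
theorem c3_mem : c3 ∈ W0 := Subgroup.subset_closure (by simp)
theorem rot_mem : rot ∈ W0 := Subgroup.subset_closure (by simp)
theorem d12_mem : d1 * d2 ∈ W0 := Subgroup.subset_closure (by simp)
theorem d23_mem : d2 * d3 ∈ W0 := Subgroup.subset_closure (by simp)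

theorem ev_three : ev 3 = d1 * d2 * (d2 * d3) := by
  decide +kernel

theorem ev_mem : ∀ v : Fin 4, ev v ∈ W0 := by
  have h3 : ev 3 ∈ W0 := ev_three ▸ W0.mul_mem d12_mem d23_mem
  intro v
  fin_cases v
  · exact W0.one_mem
  · exact d12_mem
  · exact d23_mem
  · exact h3

theorem toP_mem (x : X) : toP x ∈ W0 := by
  obtain ⟨a, b, c, v, i⟩ := x
  exact W0.mul_mem (W0.mul_mem (W0.mul_mem (W0.mul_mem (W0.pow_mem c1_mem _) (W0.pow_mem c2_mem _))
    (W0.pow_mem c3_mem _)) (ev_mem v)) (W0.pow_mem rot_mem _)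

theorem toP_gen_mul {g : X} (hg : g ∈ gens) (x : X) : toP (mulX g x) = toP g * toP x := by
  ext t
  rw [Perm.mul_apply, toP_apply, toP_apply, toP_apply, gen_mul g hg x t]

theorem gen_mem_range {p : P9} (hp : p ∈ ({c1, c2, c3, rot, d1 * d2, d2 * d3} : Set P9)) :
    ∃ g ∈ gens, toP g = p := by
  rcases hp with rfl | rfl | rfl | rfl | rfl | hp
  · exact ⟨(1, 0, 0, 0, 0), by decide, by decide +kernel⟩
  · exact ⟨(0, 1, 0, 0, 0), by decide, by decide +kernel⟩
  · exact ⟨(0, 0, 1, 0, 0), by decide, by decide +kernel⟩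
  · exact ⟨(0, 0, 0, 0, 1), by decide, by decide +kernel⟩
  · exact ⟨evX 1, by decide, by decide +kernel⟩
  · exact ⟨evX 2, by decide, (Set.mem_singleton_iff.1 hp) ▸ by decide +kernel⟩

theorem exists_toP {p : P9} (hp : p ∈ W0) : ∃ x, toP x = p := by
  have h : W0 ≤ MulAction.stabilizer P9 (Set.range toP) := (Subgroup.closure_le _).2 fun q hq => by
    refine (MulAction.mem_stabilizer_set' (Set.finite_range toP)).2 ?_
    rintro _ ⟨x, rfl⟩
    obtain ⟨g, hg, rfl⟩ := gen_mem_range hq
    exact ⟨mulX g x, toP_gen_mul hg x⟩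
  have h1 : (1 : P9) ∈ Set.range toP := ⟨oneX, by decide +kernel⟩
  have := (MulAction.mem_stabilizer_set' (Set.finite_range toP)).1 (h hp) h1
  obtain ⟨x, hx⟩ := this
  exact ⟨x, by rw [hx, smul_eq_mul, mul_one]⟩

/-- The parameterisation of `W₀`. -/
noncomputable def toW : X ≃ W0 :=
  Equiv.ofBijective (fun x => ⟨toP x, toP_mem x⟩)
    ⟨fun _ _ h => toP_injective (congrArg Subtype.val h), fun w =>
      (exists_toP w.2).imp fun _ hx => Subtype.ext hx⟩

theorem coe_toW (x : X) : (toW x : P9) = toP x := rfl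

theorem toW_mul (x y : X) : toW (mulX x y) = toW x * toW y := by
  obtain ⟨z, hz⟩ := toW.surjective (toW x * toW y)
  rw [← hz]
  congr 1
  rw [← ofF_act z]
  refine congrArg ofF (funext fun t => ?_)
  rw [← toP_apply z, ← coe_toW, hz, Subgroup.coe_mul, Perm.mul_apply, coe_toW, coe_toW, toP_apply,
    toP_apply]

theorem toW_one : toW oneX = 1 := Subtype.ext (by rw [coe_toW]; decide +kernel)

theorem toW_comm_iff (x y : X) :
    toW x * toW y = toW y * toW x ↔ ∀ t : Fin 9, act x (act y t) = act y (act x t) := by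
  rw [Subtype.ext_iff, Equiv.ext_iff]
  simp only [Subgroup.coe_mul, Perm.mul_apply, coe_toW, toP_apply]

theorem toW_cube (x : X) : toW (cubeX x) = toW x ^ 3 := by
  rw [cubeX, toW_mul, toW_mul, pow_three]

theorem toW_eq_one_iff (x : X) : toW x = 1 ↔ x = oneX := by
  rw [← toW_one]; exact toW.injective.eq_iff

theorem toP_isBase {x : X} (hx : isBase x) : toP x ∈ base := by
  obtain ⟨a, b, c, v, i⟩ := x
  obtain ⟨hv, hi⟩ := hx
  simp only at hv hi
  subst hv hi
  simp only [toP, Fin.val_zero, pow_zero, mul_one]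
  show c1 ^ a.1 * c2 ^ b.1 * c3 ^ c.1 * 1 ∈ base
  rw [mul_one]
  exact base.mul_mem (base.mul_mem (base.pow_mem (Subgroup.subset_closure (by simp)) _)
    (base.pow_mem (Subgroup.subset_closure (by simp)) _))
    (base.pow_mem (Subgroup.subset_closure (by simp)) _)

theorem mem_base_iff (x : X) : toW x ∈ base.subgroupOf W0 ↔ isBase x := by
  rw [Subgroup.mem_subgroupOf, coe_toW]
  refine ⟨fun h => ?_, toP_isBase⟩
  have hs : base ≤ MulAction.stabilizer P9 (toP '' {y | isBase y}) :=
    (Subgroup.closure_le _).2 fun q hq => by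
      refine (MulAction.mem_stabilizer_set' (Set.toFinite _)).2 ?_
      rintro _ ⟨y, hy, rfl⟩
      obtain ⟨g, hg, rfl⟩ : ∃ g ∈ gens.take 3, toP g = q := by
        rcases hq with rfl | rfl | hq
        · exact ⟨(1, 0, 0, 0, 0), by decide, by decide +kernel⟩
        · exact ⟨(0, 1, 0, 0, 0), by decide, by decide +kernel⟩
        · exact ⟨(0, 0, 1, 0, 0), by decide, (Set.mem_singleton_iff.1 hq) ▸ by decide +kernel⟩
      exact ⟨mulX g y, base_gen g hg y hy, toP_gen_mul (List.mem_of_mem_take hg) y⟩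
  have h1 := (MulAction.mem_stabilizer_set' (Set.toFinite _)).1 (hs h)
    (⟨oneX, ⟨rfl, rfl⟩, by decide +kernel⟩ : (1 : P9) ∈ toP '' {y | isBase y})
  obtain ⟨y, hy, hyx⟩ := h1
  rw [smul_eq_mul, mul_one] at hyx
  rwa [← toP_injective hyx]

/-- The subgroup `J⟨rot⟩`. -/
noncomputable def K0 : Subgroup W0 := Subgroup.centralizer {toW zX}

theorem mem_K0 (x : X) : toW x ∈ K0 ↔ inK x := by
  rw [K0, Subgroup.mem_centralizer_singleton_iff, toW_comm_iff]
  rfl

noncomputable def omega : ℂ := ⟨-1 / 2, Real.sqrt 3 / 2⟩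

theorem omega_sq : omega ^ 2 = -1 - omega := by
  have h : Real.sqrt 3 * Real.sqrt 3 = 3 := Real.mul_self_sqrt (by norm_num)
  apply Complex.ext <;> simp [omega, sq] <;> nlinarith

theorem omega_cube : omega ^ 3 = 1 := by
  linear_combination (omega - 1) * omega_sq

theorem conj_omega : conj omega = -1 - omega := by
  apply Complex.ext <;> simp [omega] <;> ring

theorem omega_ne : omega ≠ 0 := fun h => by simpa [h] using omega_cube

noncomputable def val (a : Eis) : ℂ := (a.1 : ℂ) + (a.2 : ℂ) * omega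

theorem val_zero : val (0, 0) = 0 := by simp [val]

theorem val_add (a b : Eis) : val (a + b) = val a + val b := by
  simp [val]; ring

theorem val_sum {ι : Type*} (s : Finset ι) (f : ι → Eis) :
    val (∑ i ∈ s, f i) = ∑ i ∈ s, val (f i) :=
  map_sum (AddMonoidHom.mk' val val_add) f s

theorem val_mul_conj (a : Eis) :
    val a * conj (val a) = ((a.1 ^ 2 - a.1 * a.2 + a.2 ^ 2 : ℤ) : ℂ) := by
  simp only [val, map_add, map_mul, map_intCast, conj_omega]
  push_cast
  linear_combination (-(a.2 : ℂ) ^ 2) * omega_sq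

theorem val_tab (e : Fin 3) : val (tab e) = omega ^ e.1 - 1 := by
  fin_cases e <;> simp [val, tab]
  · ring
  · rw [omega_sq]; ring

noncomputable def unitOmega : ℂˣ := Units.mk0 omega omega_ne

theorem omega_pow_add (a b : Fin 3) : omega ^ (a + b).1 = omega ^ a.1 * omega ^ b.1 := by
  have h4 : omega ^ 4 = omega := by rw [pow_succ, omega_cube, one_mul]
  fin_cases a <;> fin_cases b <;> simp <;> ring_nf <;> simp [omega_cube, h4]

/-- The linear character of `J⟨rot⟩`. -/
noncomputable def lam : K0 →* ℂˣ :=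
  MonoidHom.mk' (fun k => unitOmega ^ (ex (toW.symm (k : W0))).1) fun a b => by
    ext
    have ha : inK (toW.symm (a : W0)) := (mem_K0 _).1 (by simp)
    have hb : inK (toW.symm (b : W0)) := (mem_K0 _).1 (by simp)
    have hab : toW.symm ((a * b : K0) : W0) = mulX (toW.symm a) (toW.symm b) :=
      toW.injective (by simp [toW_mul])
    simp only [Units.val_mul, Units.val_pow_eq_pow_val, hab, ex_mul _ ha _ hb, omega_pow_add,
      unitOmega, Units.val_mk0]

noncomputable def lin : K0 → ℂ := (fun k => (lam k : ℂ)) - fun _ => 1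

theorem lin_isGen : Cfsg.IsGeneralizedCharacter K0 lin :=
  ⟨_, _, CharBasicDecomp.isCharacter_linear lam, CharBasicDecomp.isCharacter_one, rfl⟩

theorem ext_lin (x : X) : Cfsg.extendByZero K0 lin (toW x) = val (cv x) := by
  unfold cv
  split_ifs with h
  · rw [CharInduced.ext_zero_of_mem lin ((mem_K0 x).2 h), val_tab]
    simp [lin, lam, unitOmega]
  · rw [CharInduced.ext_zero_of_not_mem lin fun h' => h ((mem_K0 x).1 h'), val_zero]

theorem toW_evX_inv (v : Fin 4) : (toW (evX v))⁻¹ = toW (evX v) :=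
  inv_eq_of_mul_eq_one_right (by rw [← toW_mul, ev_sq, toW_one])

/-- The coset bijection. -/
noncomputable def cosetEquiv : K0 × Fin 4 ≃ W0 :=
  Equiv.ofBijective (fun p => toW (evX p.2) * (p.1 : W0)) ⟨by
    rintro ⟨k, u⟩ ⟨k', v⟩ h
    simp only at h
    have hm : toW (mulX (evX v) (evX u)) ∈ K0 := by
      have e : toW (evX v) * toW (evX u) = (k' : W0) * (k : W0)⁻¹ := by
        rw [eq_mul_inv_iff_mul_eq, mul_assoc, h, ← mul_assoc]
        nth_rw 1 [← toW_evX_inv v]
        rw [inv_mul_cancel, one_mul]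
      rw [toW_mul, e]
      exact K0.mul_mem k'.2 (K0.inv_mem k.2)
    obtain rfl := ev_inj u v ((mem_K0 _).1 hm)
    exact Prod.ext (Subtype.ext (mul_left_cancel h)) rfl, fun w => by
    obtain ⟨v, hv⟩ := ev_coset (toW.symm w)
    have hm := (mem_K0 _).2 hv
    rw [toW_mul, Equiv.apply_symm_apply] at hm
    refine ⟨(⟨_, hm⟩, v), ?_⟩
    show toW (evX v) * (toW (evX v) * w) = w
    nth_rw 1 [← toW_evX_inv v]
    rw [inv_mul_cancel_left]⟩

variable [Fintype W0]

/-- The virtual character. -/
noncomputable def dW : W0 → ℂ := Cfsg.indFun K0 lin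

theorem dW_isGen : Cfsg.IsGeneralizedCharacter W0 dW := CharInduced.isGenChar_ind K0 lin_isGen

theorem dW_apply (x : X) : dW (toW x) = val (dv x) := by
  classical
  have : Fintype K0 := Fintype.ofFinite _
  have hl : Cfsg.IsClassFunction K0 lin :=
    CharBasicDecomp.isClassFunction_of_isGeneralizedCharacter lin_isGen
  have key : ∀ p : K0 × Fin 4, Cfsg.extendByZero K0 lin
      ((cosetEquiv p)⁻¹ * toW x * cosetEquiv p) = val (cv (evc p.2 x)) := by
    rintro ⟨k, v⟩
    have h1 := CharInduced.ext_zero_conj_inv hl (K0.inv_mem k.2) (toW (evc v x))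
    rw [ext_lin, inv_inv] at h1
    rw [← h1]
    congr 1
    show (toW (evX v) * (k : W0))⁻¹ * toW x * (toW (evX v) * (k : W0)) = _
    rw [evc, toW_mul, toW_mul, mul_inv_rev, toW_evX_inv]
    group
  rw [dW, CharInduced.indFun_apply, ← cosetEquiv.sum_comp, Finset.sum_congr rfl fun p _ => key p,
    Fintype.sum_prod_type]
  simp only [Finset.sum_const, Finset.card_univ, nsmul_eq_mul, ← Nat.card_eq_fintype_card,
    Fin.sum_univ_four]
  simp only [dv, val_add]
  have := CharInduced.card_subgroup_ne_zero K0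
  field_simp

end Cfsg.Agent.S9Bound37
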