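import Mathlib
import Cfsg.Agent.Lib.SelfCentNineReduce64

/-!
A self-centralising Sylow subgroup of order nine with local centralisers and a normaliser of order
at most eighteen is normal.
-/

set_option autoImplicit false

namespace Cfsg.Agent.S9Nine37

open Cfsg.Agent.SelfCentNineLoc64 Cfsg.Agent.SelfCentNineReduce64

theorem normal_of_small {Q : Type*} [Group Q] [Finite Q] (P : Sylow 3 Q) (hcard : Nat.card P = 9)
    (hexp : ∀ a ∈ (P : Subgroup Q), a ^ 3 = 1)
    (hC : Subgroup.centralizer ((P : Subgroup Q) : Set Q) = P)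
    (hloc : ∀ t ∈ (P : Subgroup Q), t ≠ 1 →
      Subgroup.centralizer ({t} : Set Q) ≤ Subgroup.normalizer ((P : Subgroup Q) : Set Q))
    (hN : Nat.card (Subgroup.normalizer ((P : Subgroup Q) : Set Q)) ≤ 18) :
    (P : Subgroup Q).Normal := by
  classical
  by_contra hnn
  set N := Subgroup.normalizer ((P : Subgroup Q) : Set Q) with hNdef
  have hcomm : ∀ a ∈ (P : Subgroup Q), ∀ b ∈ (P : Subgroup Q), a * b = b * a := fun a ha b hb =>
    (Subgroup.mem_centralizer_iff.1 (hC.ge ha) b hb).symm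
  have h := Loc.of_sylow P rfl hcomm hexp hcard hC hloc
  obtain ⟨c, hc⟩ : 9 ∣ Nat.card N := hcard ▸ Subgroup.card_dvd_of_le Subgroup.le_normalizer
  have hc2 : c = 1 ∨ c = 2 := by
    have hpos : 0 < Nat.card N := Nat.card_pos
    rw [hc] at hpos
    have : c ≤ 2 := by omega
    omega
  obtain ⟨M, hMn, hTM, hMs, hMc⟩ := exists_simple h P rfl hnn
    (by rw [← hNdef, hc]; rcases hc2 with rfl | rfl <;> norm_num)
    (by rw [← hNdef, hc]; rcases hc2 with rfl | rfl <;> norm_num)
  haveI := hMs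
  have h' := h.subgroupOf hTM
  have hk := card_normalizer_subgroupOf (S := (P : Subgroup Q)) hTM
  obtain ⟨e, he⟩ : 9 ∣ Nat.card (N ⊓ M : Subgroup Q) :=
    hcard ▸ Subgroup.card_dvd_of_le (le_inf Subgroup.le_normalizer hTM)
  have hle : Nat.card (N ⊓ M : Subgroup Q) ≤ 18 :=
    (Subgroup.card_le_of_le inf_le_left).trans hN
  have hpos : 0 < Nat.card (N ⊓ M : Subgroup Q) := Nat.card_pos
  have he2 : e = 1 ∨ e = 2 := by rw [he] at hle hpos; omega
  have hcases : Nat.card (N ⊓ M : Subgroup Q) = 9 ∨ Nat.card (N ⊓ M : Subgroup Q) = 18 ∨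
      Nat.card (N ⊓ M : Subgroup Q) = 36 := by
    rw [he]; rcases he2 with rfl | rfl <;> norm_num
  rw [← hk] at hcases
  obtain ⟨-, h36, -⟩ := simple_small hMc h' (P.subtype hTM) (Sylow.coe_subtype P hTM).symm hcases
  rw [hk, ← hNdef] at h36
  omega

end Cfsg.Agent.S9Nine37
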