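import Mathlib
import Cfsg.Agent.Lib.S9Base37
import Cfsg.Agent.Lib.S9Nine37
import Cfsg.Agent.S3805
import Cfsg.Agent.S3333

/-!
Centralisers of the elements of the base.
-/

set_option autoImplicit false

namespace Cfsg.Agent.S9Local37

open S9Model37 S9Base37

variable {G : Type*} [Group G] [Finite G] {U : Subgroup P9} {J : Subgroup G} {φ : U →* G}

theorem exists_pre (h : Base U J φ) {a : G} (ha : a ∈ J) :
    ∃ (u : U) (b : Fin 3 × Fin 3 × Fin 3), bel b = (u : P9) ∧ φ u = a := by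
  rw [← h.base_eq] at ha
  obtain ⟨u, hu, rfl⟩ := Subgroup.mem_map.1 ha
  obtain ⟨b, hb⟩ := mem_base_iff.1 (Subgroup.mem_subgroupOf.1 hu)
  exact ⟨u, b, hb, rfl⟩

theorem comm (h : Base U J φ) {a b : G} (ha : a ∈ J) (hb : b ∈ J) : a * b = b * a := by
  obtain ⟨u, p, hp, rfl⟩ := exists_pre h ha
  obtain ⟨v, q, hq, rfl⟩ := exists_pre h hb
  rw [← map_mul, ← map_mul]
  congr 1
  apply Subtype.ext
  simp only [Subgroup.coe_mul, ← hp, ← hq]
  exact bel_facts.1 p q

theorem exp (h : Base U J φ) {a : G} (ha : a ∈ J) : a ^ 3 = 1 := by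
  obtain ⟨u, p, hp, rfl⟩ := exists_pre h ha
  have : u ^ 3 = 1 := Subtype.ext (by simp [← hp, bel_facts.2.1 p])
  rw [← map_pow, this, map_one]

theorem card_J (h : Base U J φ) (hU : base ≤ U) : Nat.card J = 27 := by
  rw [← h.base_eq, Subgroup.card_map_of_injective h.inj,
    Nat.card_congr (Subgroup.subgroupOfEquivOfLe hU).toEquiv, card_base]

theorem orderOf_eq (h : Base U J φ) {a : G} (ha : a ∈ J) (ha1 : a ≠ 1) : orderOf a = 3 :=
  haveI : Fact (Nat.Prime 3) := ⟨Nat.prime_three⟩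
  orderOf_eq_prime (exp h ha) ha1

theorem le_cent (h : Base U J φ) {j : G} (hj : j ∈ J) :
    J ≤ Subgroup.centralizer ({j} : Set G) := fun a ha =>
  Subgroup.mem_centralizer_singleton_iff.2 (comm h ha hj)

/-- A `3`-element of `C(j) ⊓ N(J)` lies in `J`. -/
theorem mem_of_pow (h : Base U J φ) (hU : base ≤ U) {j : G} (hj : j ∈ J)
    (h81 : ¬ 81 ∣ Nat.card ↥(Subgroup.centralizer ({j} : Set G) ⊓ Subgroup.normalizer (J : Set G)))
    {g : G} (hgC : g ∈ Subgroup.centralizer ({j} : Set G))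
    (hgN : g ∈ Subgroup.normalizer (J : Set G)) {k : ℕ} (hg : g ^ (3 ^ k) ∈ J) : g ∈ J := by
  set M := Subgroup.centralizer ({j} : Set G) ⊓ Subgroup.normalizer (J : Set G) with hM
  have hJM : J ≤ M := le_inf (le_cent h hj) Subgroup.le_normalizer
  haveI : (J.subgroupOf M).Normal :=
    Subgroup.normal_subgroupOf_iff_le_normalizer hJM |>.2 inf_le_right
  set q := (QuotientGroup.mk (⟨g, hgC, hgN⟩ : M) : M ⧸ J.subgroupOf M) with hq
  have h1 : q ^ (3 ^ k) = 1 := by
    rw [hq, ← QuotientGroup.mk_pow, QuotientGroup.eq_one_iff, Subgroup.mem_subgroupOf]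
    exact hg
  have hd : orderOf q ∣ Nat.card (M ⧸ J.subgroupOf M) := orderOf_dvd_natCard q
  have hcard := Subgroup.card_eq_card_quotient_mul_card_subgroup (J.subgroupOf M)
  rw [Nat.card_congr (Subgroup.subgroupOfEquivOfLe hJM).toEquiv, card_J h hU] at hcard
  have h3 : ¬ 3 ∣ Nat.card (M ⧸ J.subgroupOf M) := fun ⟨c, hc⟩ => h81 ⟨c, by rw [hcard, hc]; ring⟩
  obtain ⟨i, -, hi⟩ := (Nat.dvd_prime_pow Nat.prime_three).1 (orderOf_dvd_of_pow_eq_one h1)
  have h0 : i = 0 := by
    by_contra h0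
    exact h3 (((dvd_pow_self 3 h0).trans (hi ▸ dvd_refl _)).trans hd)
  rw [h0, pow_zero, orderOf_eq_one_iff, hq, QuotientGroup.eq_one_iff, Subgroup.mem_subgroupOf] at hi
  exact hi

theorem card_map_mul {A B : Type*} [Group A] [Finite A] [Group B] (f : A →* B) (H : Subgroup A)
    (hH : f.ker ≤ H) : Nat.card (H.map f) * Nat.card f.ker = Nat.card H := by
  have h1 := Subgroup.card_eq_card_quotient_mul_card_subgroup (f.subgroupMap H).ker
  have h2 : Nat.card (H ⧸ (f.subgroupMap H).ker) = Nat.card (H.map f) :=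
    Nat.card_congr (QuotientGroup.quotientKerEquivOfSurjective _
      (f.subgroupMap_surjective H)).toEquiv
  have h3 : (f.subgroupMap H).ker = f.ker.subgroupOf H := by
    ext a
    rw [MonoidHom.mem_ker, Subgroup.mem_subgroupOf, MonoidHom.mem_ker, Subtype.ext_iff]
    rfl
  rw [h2, h3, Nat.card_congr (Subgroup.subgroupOfEquivOfLe hH).toEquiv] at h1
  exact h1.symm

instance zpowers_normal (j : G) :
    ((Subgroup.zpowers j).subgroupOf (Subgroup.centralizer ({j} : Set G))).Normal := by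
  constructor
  intro n hn g
  rw [Subgroup.mem_subgroupOf] at hn ⊢
  obtain ⟨k, hk⟩ := Subgroup.mem_zpowers_iff.1 hn
  have hc : Commute (g : G) j := Subgroup.mem_centralizer_singleton_iff.1 g.2
  refine Subgroup.mem_zpowers_iff.2 ⟨k, ?_⟩
  simp only [Subgroup.coe_mul, Subgroup.coe_inv, ← hk]
  rw [(hc.zpow_right k).eq, mul_assoc, mul_inv_cancel, mul_one]

/-- The centraliser of `j` modulo `⟨j⟩`. -/
abbrev Quo (j : G) :=
  ↥(Subgroup.centralizer ({j} : Set G)) ⧸
    (Subgroup.zpowers j).subgroupOf (Subgroup.centralizer ({j} : Set G))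

/-- The image of `J` in the centraliser of `j` modulo `⟨j⟩`. -/
def img (J : Subgroup G) (j : G) : Subgroup (Quo j) :=
  (J.subgroupOf (Subgroup.centralizer ({j} : Set G))).map (QuotientGroup.mk' _)

/-- What the reduction modulo `⟨j⟩` gives. -/
structure Red (J : Subgroup G) (j : G) : Prop where
  sylow : ∃ P : Sylow 3 (Quo j), (P : Subgroup (Quo j)) = img J j
  card : Nat.card (img J j) = 9
  exp : ∀ a ∈ img J j, a ^ 3 = 1
  self : Subgroup.centralizer (img J j : Set (Quo j)) = img J j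
  loc : ∀ t ∈ img J j, t ≠ 1 →
    Subgroup.centralizer ({t} : Set (Quo j)) ≤ Subgroup.normalizer (img J j : Set (Quo j))
  norm : Subgroup.normalizer (img J j : Set (Quo j)) =
    ((Subgroup.normalizer (J : Set G)).subgroupOf (Subgroup.centralizer ({j} : Set G))).map
      (QuotientGroup.mk' _)
  card_norm : 3 * Nat.card (Subgroup.normalizer (img J j : Set (Quo j))) =
    Nat.card ↥(Subgroup.centralizer ({j} : Set G) ⊓ Subgroup.normalizer (J : Set G))
  concl : (img J j).Normal → Subgroup.centralizer ({j} : Set G) ≤ Subgroup.normalizer (J : Set G)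

theorem red (h : Base U J φ) (hU : base ≤ U) {j : G} (hj : j ∈ J) (hj1 : j ≠ 1)
    (h81 : ¬ 81 ∣ Nat.card ↥(Subgroup.centralizer ({j} : Set G) ⊓ Subgroup.normalizer (J : Set G))) :
    Red J j := by
  set C := Subgroup.centralizer ({j} : Set G) with hCdef
  set Z := (Subgroup.zpowers j).subgroupOf C with hZdef
  set π : C →* Quo j := QuotientGroup.mk' Z with hπ
  set N := Subgroup.normalizer (J : Set G) with hNdef
  have hjC : j ∈ C := le_cent h hj hj
  have hJC : J ≤ C := le_cent h hj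
  have hZJ : Subgroup.zpowers j ≤ J := Subgroup.zpowers_le.2 hj
  have hcom : ∀ g ∈ C, ∀ i : ℤ, g * j ^ i = j ^ i * g := fun g hg i =>
    ((show Commute g j from Subgroup.mem_centralizer_singleton_iff.1 hg).zpow_right i).eq
  have hker : ∀ a : C, π a = 1 ↔ (a : G) ∈ Subgroup.zpowers j := fun a => by
    rw [hπ, QuotientGroup.mk'_apply, QuotientGroup.eq_one_iff, hZdef, Subgroup.mem_subgroupOf]
  have hsurj : Function.Surjective π := QuotientGroup.mk'_surjective Z
  have himg : ∀ a : C, π a ∈ img J j ↔ (a : G) ∈ J := fun a => by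
    refine ⟨fun ha => ?_, fun ha => Subgroup.mem_map.2 ⟨a, ha, rfl⟩⟩
    obtain ⟨b, hb, hba⟩ := Subgroup.mem_map.1 ha
    have e := (hker (b⁻¹ * a)).1 (by rw [map_mul, map_inv]; simp [hπ] at hba ⊢; rw [hba, inv_mul_cancel])
    have := J.mul_mem (Subgroup.mem_subgroupOf.1 hb) (hZJ e)
    simpa using this
  have hcardZ : Nat.card π.ker = 3 := by
    rw [hπ, QuotientGroup.ker_mk', hZdef,
      Nat.card_congr (Subgroup.subgroupOfEquivOfLe (Subgroup.zpowers_le.2 hjC)).toEquiv,
      Nat.card_zpowers, orderOf_eq h hj hj1]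
  have hkerle : ∀ H : Subgroup G, J ≤ H → π.ker ≤ H.subgroupOf C := fun H hH a ha =>
    Subgroup.mem_subgroupOf.2 (hH (hZJ ((hker a).1 ha)))
  have hcard : Nat.card (img J j) = 9 := by
    have := card_map_mul π (J.subgroupOf C) (hkerle J le_rfl)
    rw [hcardZ, Nat.card_congr (Subgroup.subgroupOfEquivOfLe hJC).toEquiv, card_J h hU] at this
    change Nat.card ((J.subgroupOf C).map π) = 9
    omega
  have hexp : ∀ a ∈ img J j, a ^ 3 = 1 := by
    intro a ha
    obtain ⟨b, rfl⟩ := hsurj a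
    rw [← map_pow, hker]
    simp [exp h ((himg b).1 ha)]
  have hnorm : Subgroup.normalizer (img J j : Set (Quo j)) = (N.subgroupOf C).map π := by
    ext a
    obtain ⟨g, rfl⟩ := hsurj a
    constructor
    · intro hg
      refine Subgroup.mem_map.2 ⟨g, Subgroup.mem_subgroupOf.2 (Subgroup.mem_normalizer_iff.2 fun s => ?_), rfl⟩
      constructor
      · intro hs
        have := (Subgroup.mem_normalizer_iff.1 hg (π ⟨s, hJC hs⟩)).1 ((himg _).2 hs)
        rw [← map_inv, ← map_mul, ← map_mul, himg] at this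
        simpa using this
      · intro hs
        have hsC : s ∈ C := by
          have := C.mul_mem (C.mul_mem (C.inv_mem g.2) (hJC hs)) g.2
          simpa [mul_assoc] using this
        have := (Subgroup.mem_normalizer_iff.1 hg (π ⟨s, hsC⟩)).2 (by
          rw [← map_inv, ← map_mul, ← map_mul, himg]; simpa using hs)
        exact (himg _).1 this
    · intro hg
      obtain ⟨g', hg', he⟩ := Subgroup.mem_map.1 hg
      rw [← he]
      refine Subgroup.mem_normalizer_iff.2 fun a => ?_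
      obtain ⟨b, rfl⟩ := hsurj a
      rw [← map_inv, ← map_mul, ← map_mul, himg, himg]
      simpa using Subgroup.mem_normalizer_iff.1 (Subgroup.mem_subgroupOf.1 hg') b
  have h27 : ¬ 81 ∣ Nat.card C := fun hd => by
    haveI : Fact (Nat.Prime 3) := ⟨Nat.prime_three⟩
    have hJ' : Nat.card (J.subgroupOf C) = 3 ^ 3 := by
      rw [Nat.card_congr (Subgroup.subgroupOfEquivOfLe hJC).toEquiv, card_J h hU]; norm_num
    have := Sylow.prime_pow_dvd_card_normalizer (p := 3) (n := 3) (by simpa using hd) hJ'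
    refine h81 (dvd_trans (by norm_num : (81 : ℕ) ∣ 3 ^ (3 + 1)) (this.trans ?_))
    rw [← Subgroup.card_map_of_injective C.subtype_injective]
    refine Subgroup.card_dvd_of_le ?_
    rintro _ ⟨g, hg, rfl⟩
    refine ⟨g.2, Subgroup.mem_normalizer_iff.2 fun s => ?_⟩
    constructor
    · intro hs
      simpa [Subgroup.mem_subgroupOf] using (Subgroup.mem_normalizer_iff.1 hg ⟨s, hJC hs⟩).1 hs
    · intro hs
      have hsC : s ∈ C := by
        have := C.mul_mem (C.mul_mem (C.inv_mem g.2) (hJC hs)) g.2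
        simpa [mul_assoc] using this
      exact (Subgroup.mem_normalizer_iff.1 hg ⟨s, hsC⟩).2 (by simpa [Subgroup.mem_subgroupOf] using hs)
  refine ⟨?_, hcard, hexp, ?_, ?_, hnorm, ?_, ?_⟩
  · haveI : Fact (Nat.Prime 3) := ⟨Nat.prime_three⟩
    have hp : IsPGroup 3 (img J j) := IsPGroup.of_card (n := 2) (by rw [hcard]; norm_num)
    have hidx : ¬ 3 ∣ (img J j).index := fun ⟨c, hc⟩ => by
      have h1 := Subgroup.card_mul_index (img J j)
      have h2 := Subgroup.card_eq_card_quotient_mul_card_subgroup Z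
      have h3 : Nat.card Z = 3 := by rw [← hcardZ, hπ, QuotientGroup.ker_mk']
      rw [hcard, hc] at h1
      exact h27 ⟨c, by rw [h2, h3, ← h1]; ring⟩
    exact ⟨hp.toSylow hidx, rfl⟩
  · refine le_antisymm ?_ ?_
    · intro a ha
      obtain ⟨g, rfl⟩ := hsurj a
      rw [himg]
      have hmov : ∀ t ∈ J, ∃ i : ℤ, (g : G) * t * (g : G)⁻¹ = t * j ^ i := fun t ht => by
        have e := Subgroup.mem_centralizer_iff.1 ha (π ⟨t, hJC ht⟩) ((himg _).2 ht)
        have e' : π (⟨t, hJC ht⟩⁻¹ * (g * ⟨t, hJC ht⟩ * g⁻¹)) = 1 := by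
          simp only [map_mul, map_inv, ← e]
          group
        obtain ⟨i, hi⟩ := Subgroup.mem_zpowers_iff.1 ((hker _).1 e')
        simp only [Subgroup.coe_mul, Subgroup.coe_inv] at hi
        exact ⟨i, by rw [hi]; group⟩
      have hgN : (g : G) ∈ N := by
        refine Subgroup.mem_normalizer_fintype fun t ht => ?_
        obtain ⟨i, hi⟩ := hmov t ht
        rw [SetLike.mem_coe, hi]
        exact J.mul_mem ht (zpow_mem hj i)
      refine mem_of_pow h hU hj h81 g.2 hgN (k := 1) ?_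
      rw [← h.cJ, pow_one]
      refine Subgroup.mem_centralizer_iff.2 fun t ht => ?_
      obtain ⟨i, hi⟩ := hmov t ht
      have e1 : (g : G) * j ^ i * (g : G)⁻¹ = j ^ i := by rw [hcom g g.2 i]; group
      have ej : (j ^ i) * (j ^ i) * (j ^ i) = 1 := by
        rw [← pow_three', exp h (zpow_mem hj i)]
      have step : ∀ s : G, (g : G) * (s * j ^ i) * (g : G)⁻¹ = (g * s * (g : G)⁻¹) * j ^ i := fun s => by
        conv_rhs => rw [← e1]
        group
      have e3 : (g : G) ^ 3 * t * ((g : G) ^ 3)⁻¹ = t := by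
        calc (g : G) ^ 3 * t * ((g : G) ^ 3)⁻¹
            = g * (g * (g * t * (g : G)⁻¹) * (g : G)⁻¹) * (g : G)⁻¹ := by rw [pow_three]; group
          _ = t * j ^ i * j ^ i * j ^ i := by rw [hi, step, hi, step, step, hi]
          _ = t := by rw [mul_assoc t, mul_assoc t, ej, mul_one]
      exact (mul_inv_eq_iff_eq_mul.1 e3).symm
    · intro a ha
      obtain ⟨g, rfl⟩ := hsurj a
      refine Subgroup.mem_centralizer_iff.2 fun b hb => ?_
      obtain ⟨b, rfl⟩ := hsurj b
      rw [← map_mul, ← map_mul]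
      exact congrArg π (Subtype.ext (comm h ((himg b).1 hb) ((himg g).1 ha)))
  · intro t ht ht1 a ha
    obtain ⟨t, rfl⟩ := hsurj t
    obtain ⟨g, rfl⟩ := hsurj a
    have htJ : (t : G) ∈ J := (himg t).1 ht
    have e := (Subgroup.mem_centralizer_singleton_iff.1 ha)
    obtain ⟨i, hi⟩ : ∃ i : ℤ, (g : G) * t * (g : G)⁻¹ = t * j ^ i := by
      have e' : π (t⁻¹ * (g * t * g⁻¹)) = 1 := by
        simp only [map_mul, map_inv, e]
        group
      obtain ⟨i, hi⟩ := Subgroup.mem_zpowers_iff.1 ((hker _).1 e')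
      simp only [Subgroup.coe_mul, Subgroup.coe_inv] at hi
      exact ⟨i, by rw [hi]; group⟩
    set Q := (Subgroup.zpowers t ⊔ Z).map C.subtype with hQ
    have hQJ : Q ≤ J := by
      rw [hQ, Subgroup.map_le_iff_le_comap, sup_le_iff]
      exact ⟨Subgroup.zpowers_le.2 htJ, fun z hz => hZJ hz⟩
    have hQ9 : Nat.card Q = 9 := by
      rw [hQ, Subgroup.card_map_of_injective C.subtype_injective]
      have hle : π.ker ≤ Subgroup.zpowers t ⊔ Z := by rw [hπ, QuotientGroup.ker_mk']; exact le_sup_right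
      have h1 := card_map_mul π (Subgroup.zpowers t ⊔ Z) hle
      have h2 : (Subgroup.zpowers t ⊔ Z).map π = Subgroup.zpowers (π t) := by
        rw [Subgroup.map_sup, MonoidHom.map_zpowers,
          (Subgroup.map_eq_bot_iff Z).2 (by rw [hπ, QuotientGroup.ker_mk']), sup_bot_eq]
      haveI : Fact (Nat.Prime 3) := ⟨Nat.prime_three⟩
      rw [h2, Nat.card_zpowers, orderOf_eq_prime (hexp _ ht) ht1, hcardZ] at h1
      omega
    rw [hnorm]
    refine Subgroup.mem_map.2 ⟨g, Subgroup.mem_subgroupOf.2 ?_, rfl⟩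
    refine Subgroup.mem_normalizer_fintype fun s hs => ?_
    rw [SetLike.mem_coe] at hs ⊢
    have hsC : (g : G) * s * (g : G)⁻¹ ∈ C := C.mul_mem (C.mul_mem g.2 (hJC hs)) (C.inv_mem g.2)
    have hsQ : (g : G) * s * (g : G)⁻¹ ∈ Subgroup.centralizer (Q : Set G) := by
      rw [hQ, Subgroup.map_sup]
      refine Subgroup.le_centralizer_iff.1 (sup_le ?_ ?_) (Subgroup.mem_zpowers _)
      · rw [MonoidHom.map_zpowers, Subgroup.zpowers_le, Subgroup.mem_centralizer_iff]
        intro u hu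
        obtain ⟨k, rfl⟩ := Subgroup.mem_zpowers_iff.1 hu
        refine ((show Commute ((g : G) * s * (g : G)⁻¹) t from ?_).zpow_left k).eq
        have hc1 : Commute ((g : G) * s * (g : G)⁻¹) ((g : G) * t * (g : G)⁻¹) :=
          (show Commute s t from comm h hs htJ).map (MulAut.conj (g : G)).toMonoidHom
        have hc2 : Commute ((g : G) * s * (g : G)⁻¹) (j ^ i) := hcom _ hsC i
        have : (t : G) = ((g : G) * t * (g : G)⁻¹) * (j ^ i)⁻¹ := by rw [hi]; group
        rw [this]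
        exact hc1.mul_right hc2.inv_right
      · rintro _ ⟨z, hz, rfl⟩
        rw [Subgroup.mem_centralizer_iff]
        intro u hu
        obtain ⟨k, rfl⟩ := Subgroup.mem_zpowers_iff.1 hu
        obtain ⟨l, hl⟩ := Subgroup.mem_zpowers_iff.1 (Subgroup.mem_subgroupOf.1 hz)
        rw [Subgroup.coe_subtype, ← hl]
        exact ((show Commute ((g : G) * s * (g : G)⁻¹) (j ^ l) from hcom _ hsC l).zpow_left k).eq
    refine mem_of_pow h hU hj h81 hsC (h.plane Q hQJ hQ9 hsQ) (k := 1) ?_
    rw [pow_one, conj_pow, exp h hs, mul_one, mul_inv_cancel]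
    exact J.one_mem
  · have h1 := card_map_mul π (N.subgroupOf C) (hkerle N Subgroup.le_normalizer)
    rw [hcardZ] at h1
    rw [hnorm, mul_comm, h1, inf_comm, Nat.card_congr (Subgroup.subgroupOfEquivOfLe
      (inf_le_right : N ⊓ C ≤ C)).toEquiv.symm]
    rw [Subgroup.inf_subgroupOf_right]
  · intro hn g hg
    have h1 : Subgroup.normalizer (img J j : Set (Quo j)) = ⊤ := Subgroup.normalizer_eq_top_iff.2 hn
    rw [hnorm] at h1
    obtain ⟨g', hg', he⟩ := Subgroup.mem_map.1 (h1.ge (Subgroup.mem_top (π ⟨g, hg⟩)))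
    have e := (hker (g'⁻¹ * ⟨g, hg⟩)).1 (by rw [map_mul, map_inv, he, inv_mul_cancel])
    have := N.mul_mem (Subgroup.mem_subgroupOf.1 hg') (Subgroup.le_normalizer (hZJ e))
    simpa using this

theorem cent_le_small (h : Base U J φ) (hU : base ≤ U) {j : G} (hj : j ∈ J) (hj1 : j ≠ 1)
    (hN : Nat.card ↥(Subgroup.centralizer ({j} : Set G) ⊓ Subgroup.normalizer (J : Set G)) ≤ 54) :
    Subgroup.centralizer ({j} : Set G) ≤ Subgroup.normalizer (J : Set G) := by
  have R := red h hU hj hj1 fun hd => by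
    have := Nat.le_of_dvd Nat.card_pos hd
    omega
  obtain ⟨P, hP⟩ := R.sylow
  refine R.concl (hP ▸ S9Nine37.normal_of_small P ?_ ?_ ?_ ?_ ?_)
  · simpa only [← hP] using R.card
  · simpa only [hP] using R.exp
  · simpa only [hP] using R.self
  · simpa only [hP] using R.loc
  · rw [hP]
    have := R.card_norm
    omega

theorem cent_le_klein (h : Base U J φ) (hU : base ≤ U) {j : G} (hj : j ∈ J) (hj1 : j ≠ 1)
    (hN : Nat.card ↥(Subgroup.centralizer ({j} : Set G) ⊓ Subgroup.normalizer (J : Set G)) ≤ 108)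
    (h81 : ¬ 81 ∣ Nat.card ↥(Subgroup.centralizer ({j} : Set G) ⊓ Subgroup.normalizer (J : Set G)))
    (hsq : ∀ g ∈ Subgroup.centralizer ({j} : Set G), g ∈ Subgroup.normalizer (J : Set G) → g ^ 2 ∈ J) :
    Subgroup.centralizer ({j} : Set G) ≤ Subgroup.normalizer (J : Set G) := by
  classical
  set M := Subgroup.centralizer ({j} : Set G) ⊓ Subgroup.normalizer (J : Set G) with hM
  rcases le_or_gt (Nat.card M) 54 with hle | hlt
  · exact cent_le_small h hU hj hj1 hle
  have R := red h hU hj hj1 h81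
  obtain ⟨P, hP⟩ := R.sylow
  refine R.concl (hP ▸ ?_)
  have hcP : Nat.card P = 9 := by simpa only [← hP] using R.card
  set NP := Subgroup.normalizer ((P : Subgroup (Quo j)) : Set (Quo j)) with hNP
  haveI : ((P : Subgroup (Quo j)).subgroupOf NP).Normal := Subgroup.normal_in_normalizer
  have hcard : Nat.card NP = 36 := by
    have h1 := R.card_norm
    rw [← hM, ← hP, ← hNP] at h1
    obtain ⟨c, hc⟩ : 9 ∣ Nat.card NP := hcP ▸ Subgroup.card_dvd_of_le Subgroup.le_normalizer
    have h3 : c ≠ 3 := fun e => h81 ⟨1, by rw [← h1, hc, e]⟩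
    omega
  have hq4 : Nat.card (NP ⧸ (P : Subgroup (Quo j)).subgroupOf NP) = 4 := by
    have := Subgroup.card_eq_card_quotient_mul_card_subgroup ((P : Subgroup (Quo j)).subgroupOf NP)
    rw [Nat.card_congr (Subgroup.subgroupOfEquivOfLe Subgroup.le_normalizer).toEquiv, hcP, hcard] at this
    omega
  have hK : IsKleinFour (NP ⧸ (P : Subgroup (Quo j)).subgroupOf NP) := by
    refine ⟨hq4, ?_⟩
    haveI : Nontrivial (NP ⧸ (P : Subgroup (Quo j)).subgroupOf NP) :=
      Finite.one_lt_card_iff_nontrivial.1 (by rw [hq4]; norm_num)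
    refine (Monoid.exponent_eq_prime_iff Nat.prime_two).2 fun q hq => orderOf_eq_prime ?_ hq
    obtain ⟨⟨a, ha⟩, rfl⟩ := QuotientGroup.mk_surjective q
    rw [← QuotientGroup.mk_pow, QuotientGroup.eq_one_iff, Subgroup.mem_subgroupOf]
    rw [hNP, hP, R.norm] at ha
    obtain ⟨g, hg, rfl⟩ := Subgroup.mem_map.1 ha
    rw [hP]
    refine Subgroup.mem_map.2 ⟨g ^ 2, ?_, by simp⟩
    simpa [Subgroup.mem_subgroupOf] using hsq g g.2 (Subgroup.mem_subgroupOf.1 hg)
  refine Subgroup.normalizer_eq_top_iff.1 (S3805.result P ?_ hcP ?_ hK ?_)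
  · refine ⟨⟨⟨fun a b => Subtype.ext ?_⟩⟩, fun a ha => R.exp a (hP ▸ ha)⟩
    exact (Subgroup.mem_centralizer_iff.1 (R.self.ge (hP ▸ a.2)) b (hP ▸ b.2)).symm
  · simpa only [hP] using R.self
  · simpa only [hP] using R.loc

end Cfsg.Agent.S9Local37
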