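import Mathlib
import Cfsg.Agent.Lib.S9Base37
import Cfsg.Agent.Lib.S9Local37
import Cfsg.Agent.S3333

/-!
The centralisers of the base elements for the two large automisers.
-/

set_option autoImplicit false
set_option Elab.async false

namespace Cfsg.Agent.S9Branch37

open Equiv S9Model37 S9Base37

/-- The coordinates of an element of the base. -/
def belp (b : Fin 3 × Fin 3 × Fin 3) : Par := (1, ![cyc ^ b.1.val, cyc ^ b.2.1.val, cyc ^ b.2.2.val])

set_option maxRecDepth 100000 in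
theorem belp_eq : ∀ b, toP9 (belp b) = bel b := by decide +kernel

theorem toP9_inj : Function.Injective toP9 := by
  intro a b e
  have e' : ∀ q r, pt (a.1 q) (a.2 q r) = pt (b.1 q) (b.2 q r) := fun q r => by
    have := congrArg (fun σ : P9 => σ (pt q r)) e
    simpa [toP9_apply, qq_pt, rr_pt] using this
  refine Prod.ext ?_ (funext fun q => ?_)
  · ext q : 1
    simpa [qq_pt] using congrArg qq (e' q 0)
  · ext r : 1
    simpa [rr_pt] using congrArg rr (e' q r)

/-- The coordinates in `P` commuting with a base element. -/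
abbrev cset (P : Par → Prop) [DecidablePred P] (b : Fin 3 × Fin 3 × Fin 3) : Finset Par :=
  Finset.univ.filter fun a => P a ∧ pmul a (belp b) = pmul (belp b) a

variable {G : Type*} [Group G] [Finite G] {U : Subgroup P9} {J : Subgroup G} {φ : U →* G}
  {P : Par → Prop} [DecidablePred P] {b : Fin 3 × Fin 3 × Fin 3} {u : U}

theorem exists_param (h : Base U J φ) (hP : ∀ σ ∈ U, ∃ a, P a ∧ toP9 a = σ) (hu : bel b = (u : P9))
    {g : G} (hC : g ∈ Subgroup.centralizer ({φ u} : Set G))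
    (hN : g ∈ Subgroup.normalizer (J : Set G)) :
    ∃ (a : Par) (v : U), a ∈ cset P b ∧ toP9 a = (v : P9) ∧ φ v = g := by
  rw [← h.range_eq] at hN
  obtain ⟨v, rfl⟩ := hN
  rw [Subgroup.mem_centralizer_singleton_iff, ← map_mul, ← map_mul] at hC
  have e := congrArg (Subtype.val : U → P9) (h.inj hC)
  obtain ⟨a, ha, hav⟩ := hP v v.2
  refine ⟨a, v, Finset.mem_filter.2 ⟨Finset.mem_univ _, ha, toP9_inj ?_⟩, hav, rfl⟩
  rw [← toP9_mul, ← toP9_mul, belp_eq, hu, hav]
  simpa using e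

theorem card_le (h : Base U J φ) (hP : ∀ σ ∈ U, ∃ a, P a ∧ toP9 a = σ) (hu : bel b = (u : P9)) :
    Nat.card ↥(Subgroup.centralizer ({φ u} : Set G) ⊓ Subgroup.normalizer (J : Set G)) ≤
      (cset P b).card := by
  classical
  have hex := fun g : ↥(Subgroup.centralizer ({φ u} : Set G) ⊓ Subgroup.normalizer (J : Set G)) =>
    exists_param h hP hu g.2.1 g.2.2
  choose fa fv h1 h2 h3 using hex
  refine le_trans (Nat.card_le_card_of_injective (fun g => (⟨fa g, h1 g⟩ : {a // a ∈ cset P b})) ?_)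
    (le_of_eq (by rw [Nat.card_eq_fintype_card, Fintype.card_coe]))
  intro g g' e
  have e2 : fv g = fv g' :=
    Subtype.ext (by rw [← h2 g, ← h2 g', show fa g = fa g' from congrArg Subtype.val e])
  exact Subtype.ext (by rw [← h3 g, ← h3 g', e2])

theorem mem_J_of_eq (h : Base U J φ) {v : U} {c : Fin 3 × Fin 3 × Fin 3}
    (hv : (v : P9) = bel c) : φ v ∈ J := by
  rw [← h.base_eq]
  exact Subgroup.mem_map.2 ⟨v, Subgroup.mem_subgroupOf.2 (mem_base_iff.2 ⟨c, hv.symm⟩), rfl⟩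

theorem sq_mem (h : Base U J φ) (hP : ∀ σ ∈ U, ∃ a, P a ∧ toP9 a = σ) (hu : bel b = (u : P9))
    (hS : ∀ a ∈ cset P b, ∃ c, pmul a a = belp c) :
    ∀ g ∈ Subgroup.centralizer ({φ u} : Set G), g ∈ Subgroup.normalizer (J : Set G) →
      g ^ 2 ∈ J := by
  intro g hC hN
  obtain ⟨a, v, ha, hav, rfl⟩ := exists_param h hP hu hC hN
  obtain ⟨c, hc⟩ := hS a ha
  rw [← map_pow]
  refine mem_J_of_eq h (c := c) ?_
  rw [Subgroup.coe_pow, pow_two, ← hav, toP9_mul, hc, belp_eq]

theorem four_mem (h : Base U J φ) (hP : ∀ σ ∈ U, ∃ a, P a ∧ toP9 a = σ) (hu : bel b = (u : P9))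
    (hS : ∀ a ∈ cset P b, ∃ c, pmul (pmul a a) (pmul a a) = belp c) :
    ∀ g ∈ Subgroup.centralizer ({φ u} : Set G), g ∈ Subgroup.normalizer (J : Set G) →
      g ^ 4 ∈ J := by
  intro g hC hN
  obtain ⟨a, v, ha, hav, rfl⟩ := exists_param h hP hu hC hN
  obtain ⟨c, hc⟩ := hS a ha
  rw [← map_pow]
  refine mem_J_of_eq h (c := c) ?_
  rw [Subgroup.coe_pow, show 4 = 2 + 2 from rfl, pow_add, pow_two, ← hav, toP9_mul, toP9_mul, hc,
    belp_eq]

theorem not_81 (h : Base U J φ) (hU : base ≤ U) {j : G}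
    (h4 : ∀ g ∈ Subgroup.centralizer ({j} : Set G), g ∈ Subgroup.normalizer (J : Set G) →
      g ^ 4 ∈ J) :
    ¬ 81 ∣ Nat.card ↥(Subgroup.centralizer ({j} : Set G) ⊓ Subgroup.normalizer (J : Set G)) := by
  intro hd
  haveI : Fact (Nat.Prime 3) := ⟨Nat.prime_three⟩
  set M := Subgroup.centralizer ({j} : Set G) ⊓ Subgroup.normalizer (J : Set G)
  obtain ⟨K, hK⟩ := Sylow.exists_subgroup_card_pow_prime (G := M) 3 (n := 4) (by simpa using hd)
  have hle : K.map M.subtype ≤ J := by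
    rintro _ ⟨g, hg, rfl⟩
    have h1 : (g : G) ^ 81 = 1 := by
      have := pow_card_eq_one' (x := (⟨g, hg⟩ : K))
      rw [hK] at this
      simpa using congrArg (fun t : K => ((t : M) : G)) this
    have h2 : (g : G) = ((g : G) ^ 4) ^ 61 := by
      rw [← pow_mul, show 4 * 61 = 81 * 3 + 1 by norm_num, pow_succ, pow_mul, h1, one_pow, one_mul]
    rw [Subgroup.coe_subtype, h2]
    exact pow_mem (h4 g g.2.1 g.2.2) _
  have := Subgroup.card_le_of_le hle
  rw [Subgroup.card_map_of_injective M.subtype_injective, hK, S9Local37.card_J h hU] at this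
  norm_num at this

theorem cent_le_of_cset (h : Base U J φ) (hU : base ≤ U) (hP : ∀ σ ∈ U, ∃ a, P a ∧ toP9 a = σ)
    (hu : bel b = (u : P9)) (hb : b ≠ (0, 0, 0)) (hc : (cset P b).card ≤ 108)
    (hS : ∀ a ∈ cset P b, ∃ c, pmul a a = belp c) :
    Subgroup.centralizer ({φ u} : Set G) ≤ Subgroup.normalizer (J : Set G) := by
  have hj : φ u ∈ J := mem_J_of_eq h hu.symm
  have hj1 : φ u ≠ 1 := fun e => hb (bel_facts.2.2 (by
    rw [hu, show u = 1 from h.inj (by rw [e, map_one])]; rfl))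
  have hsq := sq_mem h hP hu hS
  refine S9Local37.cent_le_klein h hU hj hj1 ((card_le h hP hu).trans hc) ?_ hsq
  exact not_81 h hU fun g hC hN => by
    rw [show 4 = 2 * 2 from rfl, pow_mul]
    exact pow_mem (hsq g hC hN) 2

/-- The three representatives. -/
def rep : Fin 3 → Fin 3 × Fin 3 × Fin 3 := ![(0, 0, 1), (1, 1, 0), (1, 1, 1)]

/-- The conjugating words. -/
def word (i : Fin 3) (k l : Fin 2) : P9 := rot ^ i.val * (d1 * d2) ^ k.val * (d2 * d3) ^ l.val

set_option maxRecDepth 100000 in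
theorem classes : ∀ b, b ≠ (0, 0, 0) → ∃ (r : Fin 3) (i : Fin 3) (k l : Fin 2),
    bel b = word i k l * bel (rep r) * (word i k l)⁻¹ ∨
      (bel b)⁻¹ = word i k l * bel (rep r) * (word i k l)⁻¹ := by
  decide +kernel

theorem cent_inv (a : G) :
    Subgroup.centralizer ({a⁻¹} : Set G) = Subgroup.centralizer ({a} : Set G) := by
  ext g
  simp only [Subgroup.mem_centralizer_singleton_iff]
  exact ⟨fun e => by simpa using ((show Commute g a⁻¹ from e).inv_right).eq,
    fun e => ((show Commute g a from e).inv_right).eq⟩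

theorem local_all (h : Base U J φ) (hU : base ≤ U) (hr : rot ∈ U) (h12 : d1 * d2 ∈ U)
    (h23 : d2 * d3 ∈ U)
    (H : ∀ r, ∀ v : U, (v : P9) = bel (rep r) →
      Subgroup.centralizer ({φ v} : Set G) ≤ Subgroup.normalizer (J : Set G))
    {j : G} (hj : j ∈ J) (hj1 : j ≠ 1) :
    Subgroup.centralizer ({j} : Set G) ≤ Subgroup.normalizer (J : Set G) := by
  obtain ⟨u, b, hb, rfl⟩ := S9Local37.exists_pre h hj
  have hb0 : b ≠ (0, 0, 0) := fun e => hj1 (by
    rw [show u = 1 from Subtype.ext (by rw [← hb, e]; rfl), map_one])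
  obtain ⟨r, i, k, l, hc⟩ := classes b hb0
  set w : U := ⟨word i k l, mul_mem (mul_mem (pow_mem hr _) (pow_mem h12 _)) (pow_mem h23 _)⟩
  set v : U := ⟨bel (rep r), hU (mem_base_iff.2 ⟨_, rfl⟩)⟩
  have hv := H r v rfl
  have key : Subgroup.centralizer ({φ (w * v * w⁻¹)} : Set G) ≤
      Subgroup.normalizer (J : Set G) := by
    intro g hg
    have hwN : φ w ∈ Subgroup.normalizer (J : Set G) := h.range_eq ▸ ⟨w, rfl⟩
    have h1 : (φ w)⁻¹ * g * φ w ∈ Subgroup.normalizer (J : Set G) := by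
      refine hv (Subgroup.mem_centralizer_singleton_iff.2 ?_)
      have e := Subgroup.mem_centralizer_singleton_iff.1 hg
      rw [map_mul, map_mul, map_inv] at e
      calc (φ w)⁻¹ * g * φ w * φ v = (φ w)⁻¹ * (g * (φ w * φ v * (φ w)⁻¹)) * φ w := by group
        _ = φ v * ((φ w)⁻¹ * g * φ w) := by rw [e]; group
    simpa [mul_assoc] using mul_mem (mul_mem hwN h1) (inv_mem hwN)
  rcases hc with hc | hc
  · rwa [show u = w * v * w⁻¹ from Subtype.ext (by rw [← hb, hc]; rfl)]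
  · rw [← cent_inv, ← map_inv]
    rwa [show u⁻¹ = w * v * w⁻¹ from Subtype.ext (by rw [Subgroup.coe_inv, ← hb, hc]; rfl)]

/-- The six permutations of three points. -/
def p6 : Fin 6 → Equiv.Perm (Fin 3) :=
  ![1, cyc, cyc ^ 2, swap 0 1, swap 0 1 * cyc, swap 0 1 * cyc ^ 2]

def act6 : Fin 6 → Fin 3 → Fin 3 :=
  ![![0, 1, 2], ![1, 2, 0], ![2, 0, 1], ![1, 0, 2], ![0, 2, 1], ![2, 1, 0]]

def m6 (i j : Fin 6) : Fin 6 :=
  Fin.ofNat 6 (3 * ((i.val / 3 + j.val / 3) % 2) +
    ((if j.val / 3 = 1 then 3 - i.val % 3 else i.val % 3) + j.val % 3) % 3)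

/-- Numbered coordinates. -/
abbrev T := Fin 6 × Fin 6 × Fin 6 × Fin 6

def get (a : Fin 6 × Fin 6 × Fin 6) (q : Fin 3) : Fin 6 :=
  if q = 0 then a.1 else if q = 1 then a.2.1 else a.2.2

def ofT (t : T) : Par := (p6 t.1, fun q => p6 (get t.2 q))

def tmul (t t' : T) : T :=
  (m6 t.1 t'.1, m6 (get t.2 (act6 t'.1 0)) t'.2.1, m6 (get t.2 (act6 t'.1 1)) t'.2.2.1,
    m6 (get t.2 (act6 t'.1 2)) t'.2.2.2)

def belT (b : Fin 3 × Fin 3 × Fin 3) : T :=
  (0, Fin.castLE (by norm_num) b.1, Fin.castLE (by norm_num) b.2.1, Fin.castLE (by norm_num) b.2.2)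

/-- Even signs. -/
abbrev tEven (t : T) : Prop := (t.2.1.val / 3 + t.2.2.1.val / 3 + t.2.2.2.val / 3) % 2 = 0

set_option maxRecDepth 100000 in
theorem p6_facts : Function.Injective p6 ∧ (∀ σ, ∃ i, p6 i = σ) ∧
    (∀ i j, p6 i * p6 j = p6 (m6 i j)) ∧ (∀ i q, p6 i q = act6 i q) ∧
    ∀ x y z, (Equiv.Perm.sign (p6 x) * Equiv.Perm.sign (p6 y) * Equiv.Perm.sign (p6 z) = 1 ↔
      (x.val / 3 + y.val / 3 + z.val / 3) % 2 = 0) := by
  refine ⟨?_, ?_, ?_, ?_, ?_⟩ <;> decide +kernel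

theorem ofT_inj : Function.Injective ofT := by
  rintro ⟨i, a, b, c⟩ ⟨i', a', b', c'⟩ e
  have e2 : ∀ q, p6 (get (a, b, c) q) = p6 (get (a', b', c') q) := congrFun (congrArg Prod.snd e)
  obtain rfl := p6_facts.1 (congrArg Prod.fst e : p6 i = p6 i')
  obtain rfl : a = a' := p6_facts.1 (e2 0)
  obtain rfl : b = b' := p6_facts.1 (e2 1)
  obtain rfl : c = c' := p6_facts.1 (e2 2)
  rfl

theorem ofT_surj (a : Par) : ∃ t, ofT t = a := by
  obtain ⟨i, hi⟩ := p6_facts.2.1 a.1
  obtain ⟨x, hx⟩ := p6_facts.2.1 (a.2 0)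
  obtain ⟨y, hy⟩ := p6_facts.2.1 (a.2 1)
  obtain ⟨z, hz⟩ := p6_facts.2.1 (a.2 2)
  refine ⟨(i, x, y, z), Prod.ext hi (funext fun q => ?_)⟩
  fin_cases q <;> assumption

theorem ofT_mul (t t' : T) : pmul (ofT t) (ofT t') = ofT (tmul t t') := by
  refine Prod.ext (p6_facts.2.2.1 _ _) (funext fun q => ?_)
  change p6 (get t.2 (p6 t'.1 q)) * p6 (get t'.2 q) = _
  rw [p6_facts.2.2.2.1, p6_facts.2.2.1]
  fin_cases q <;> rfl

theorem belT_eq : ∀ b, ofT (belT b) = belp b := by decide +kernel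

theorem ofT_even (t : T) : sprod (ofT t) = 1 ↔ tEven t :=
  p6_facts.2.2.2.2 t.2.1 t.2.2.1 t.2.2.2

/-- The possible entries in block `q` above the block permutation `i`. -/
abbrev cand (b : Fin 3 × Fin 3 × Fin 3) (i : Fin 6) (q : Fin 3) : List (Fin 6) :=
  (List.finRange 6).filter fun x =>
    m6 x (get (belT b).2 q) = m6 (get (belT b).2 (act6 i q)) x

/-- A list of the numbered coordinates commuting with a base element. -/
abbrev tlist (Q : T → Prop) [DecidablePred Q] (b : Fin 3 × Fin 3 × Fin 3) : List T :=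
  ((List.finRange 6).flatMap fun i => (cand b i 0).flatMap fun x => (cand b i 1).flatMap fun y =>
    (cand b i 2).map fun z => (i, x, y, z)).filter fun t => Q t

theorem cset_mem {P : Par → Prop} [DecidablePred P] {Q : T → Prop} [DecidablePred Q]
    (hQ : ∀ t, P (ofT t) ↔ Q t) {b : Fin 3 × Fin 3 × Fin 3} {a : Par} (ha : a ∈ cset P b) :
    ∃ t ∈ tlist Q b, ofT t = a := by
  obtain ⟨t, rfl⟩ := ofT_surj a
  obtain ⟨-, h1, h2⟩ := Finset.mem_filter.1 ha
  rw [← belT_eq, ofT_mul, ofT_mul] at h2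
  obtain ⟨i, x, y, z⟩ := t
  have e := congrArg Prod.snd (ofT_inj h2)
  simp only [tmul, Prod.mk.injEq] at e
  refine ⟨(i, x, y, z), List.mem_filter.2 ⟨?_, decide_eq_true ((hQ _).1 h1)⟩, rfl⟩
  simp only [List.mem_flatMap, List.mem_map, List.mem_filter, List.mem_finRange, true_and,
    decide_eq_true_eq]
  exact ⟨i, x, e.1, y, e.2.1, z, e.2.2, rfl⟩

theorem card_cset {P : Par → Prop} [DecidablePred P] {Q : T → Prop} [DecidablePred Q]
    (hQ : ∀ t, P (ofT t) ↔ Q t) (b : Fin 3 × Fin 3 × Fin 3) :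
    (cset P b).card ≤ (tlist Q b).length := by
  refine ((Finset.card_le_card (t := (tlist Q b).toFinset.image ofT) fun a ha => ?_).trans
    Finset.card_image_le).trans (List.toFinset_card_le _)
  obtain ⟨t, ht, e⟩ := cset_mem hQ ha
  exact Finset.mem_image.2 ⟨t, List.mem_toFinset.2 ht, e⟩

/-- Numbered coordinates of a base element. -/
abbrev tBase (t : T) : Prop :=
  t.1 = 0 ∧ t.2.1.val < 3 ∧ t.2.2.1.val < 3 ∧ t.2.2.2.val < 3

theorem exists_belT {t : T} (h : tBase t) : ∃ c, t = belT c :=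
  ⟨(⟨t.2.1.val, h.2.1⟩, ⟨t.2.2.1.val, h.2.2.1⟩, ⟨t.2.2.2.val, h.2.2.2⟩), Prod.ext h.1 rfl⟩

set_option maxRecDepth 100000 in
theorem tcount_W4 : ∀ r : Fin 2, (tlist tEven (rep r.castSucc)).length ≤ 108 ∧
    ∀ t ∈ tlist tEven (rep r.castSucc), tBase (tmul t t) := by
  decide +kernel

set_option maxRecDepth 100000 in
theorem tcount_W : (tlist (fun _ => True) (rep 1)).length ≤ 108 ∧
    ∀ t ∈ tlist (fun _ => True) (rep 1), tBase (tmul t t) := by
  decide +kernel

set_option maxRecDepth 100000 in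
theorem tcount_W_one : (tlist (fun _ => True) (rep 0)).length ≤ 216 ∧
    ∀ t ∈ tlist (fun _ => True) (rep 0), tBase (tmul (tmul t t) (tmul t t)) := by
  decide +kernel

theorem count_W4 : ∀ r : Fin 2,
    (cset (fun a => sprod a = 1) (rep r.castSucc)).card ≤ 108 ∧
    ∀ a ∈ cset (fun a => sprod a = 1) (rep r.castSucc), ∃ c, pmul a a = belp c := by
  refine fun r => ⟨(card_cset ofT_even _).trans (tcount_W4 r).1, fun a ha => ?_⟩
  obtain ⟨t, ht, rfl⟩ := cset_mem ofT_even ha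
  obtain ⟨c, hc⟩ := exists_belT ((tcount_W4 r).2 t ht)
  exact ⟨c, by rw [ofT_mul, hc, belT_eq]⟩

theorem count_W : (cset (fun _ => True) (rep 1)).card ≤ 108 ∧
    ∀ a ∈ cset (fun _ => True) (rep 1), ∃ c, pmul a a = belp c := by
  refine ⟨(card_cset (fun _ => Iff.rfl) _).trans tcount_W.1, fun a ha => ?_⟩
  obtain ⟨t, ht, rfl⟩ := cset_mem (Q := fun _ => True) (fun _ => Iff.rfl) ha
  obtain ⟨c, hc⟩ := exists_belT (tcount_W.2 t ht)
  exact ⟨c, by rw [ofT_mul, hc, belT_eq]⟩

theorem count_W_one : (cset (fun _ => True) (rep 0)).card ≤ 216 ∧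
    ∀ a ∈ cset (fun _ => True) (rep 0), ∃ c, pmul (pmul a a) (pmul a a) = belp c := by
  refine ⟨(card_cset (fun _ => Iff.rfl) _).trans tcount_W_one.1, fun a ha => ?_⟩
  obtain ⟨t, ht, rfl⟩ := cset_mem (Q := fun _ => True) (fun _ => Iff.rfl) ha
  obtain ⟨c, hc⟩ := exists_belT (tcount_W_one.2 t ht)
  exact ⟨c, by rw [ofT_mul, ofT_mul, hc, belT_eq]⟩

theorem rep_ne : ∀ r, rep r ≠ (0, 0, 0) := by decide

theorem rep_x : bel (rep 2) = c1 * c2 * c3 := by decide +kernel

theorem bel_rep : bel (rep 0) = c3 ∧ bel (rep 1) = c1 * c2 := by decide +kernel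

theorem local_even {J : Subgroup G} {φ : W4 →* G} (h : Base W4 J φ) {j : G} (hj : j ∈ J)
    (hj1 : j ≠ 1) :
    Subgroup.centralizer ({j} : Set G) ≤ Subgroup.normalizer (J : Set G) := by
  refine local_all h base_le_W4 (Subgroup.subset_closure (by simp))
    (Subgroup.subset_closure (by simp)) (Subgroup.subset_closure (by simp)) ?_ hj hj1
  intro r v hv
  induction r using Fin.lastCases with
  | last => exact h.cx v (hv.trans rep_x)
  | cast r =>
    exact cent_le_of_cset (P := fun a => sprod a = 1) h base_le_W4 (fun σ hσ => mem_W4 hσ) hv.symm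
      (rep_ne _) (count_W4 r).1 (count_W4 r).2

theorem mem_W' : ∀ σ ∈ W, ∃ a, (fun _ : Par => True) a ∧ toP9 a = σ := fun _ hσ =>
  let ⟨a, ha⟩ := mem_W hσ
  ⟨a, trivial, ha⟩

theorem cw {J : Subgroup G} {φ : W →* G} (h : Base W J φ) :
    Subgroup.centralizer ({φ (C1 * C2)} : Set G) ≤ Subgroup.normalizer (J : Set G) :=
  cent_le_of_cset (P := fun _ => True) h base_le_W mem_W' (b := rep 1) bel_rep.2 (rep_ne _)
    count_W.1 count_W.2

theorem W_words : rot ∈ W ∧ d1 * d2 ∈ W ∧ d2 * d3 ∈ W :=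
  ⟨Rot.2, (D1 * D2).2, (D2 * D3).2⟩

theorem local_full {J : Subgroup G} {φ : W →* G} (h : Base W J φ)
    (h3 : Subgroup.centralizer ({φ C3} : Set G) ≤ Subgroup.normalizer (J : Set G)) {j : G}
    (hj : j ∈ J) (hj1 : j ≠ 1) :
    Subgroup.centralizer ({j} : Set G) ≤ Subgroup.normalizer (J : Set G) := by
  refine local_all h base_le_W W_words.1 W_words.2.1 W_words.2.2 ?_ hj hj1
  intro r v hv
  fin_cases r
  · rwa [show v = C3 from Subtype.ext (hv.trans bel_rep.1)]
  · rw [show v = C1 * C2 from Subtype.ext (hv.trans bel_rep.2)]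
    exact cw h
  · exact h.cx v (hv.trans rep_x)

/-- The dihedral group fixing the third block, as a map into `W`. -/
def dfun : DihedralGroup 4 → W
  | DihedralGroup.r i => (D1 * Tau) ^ i.val
  | DihedralGroup.sr i => Tau * (D1 * Tau) ^ i.val

set_option maxRecDepth 100000 in
theorem dfun_mul : ∀ a b, dfun (a * b) = dfun a * dfun b := by decide +kernel

def dhom : DihedralGroup 4 →* W := MonoidHom.mk' dfun dfun_mul

set_option maxRecDepth 100000 in
theorem dfun_facts : (∀ a, dfun a * C3 = C3 * dfun a) ∧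
    ∀ a b, ((dfun a : W) : P9) = bel b → a = 1 := by
  refine ⟨?_, ?_⟩ <;> decide +kernel

/-- If the centraliser of the third cycle is not local, it is `3 × S₆` modulo the cycle. -/
theorem six_quot {J : Subgroup G} {φ : W →* G} (h : Base W J φ)
    (hn : ¬ Subgroup.centralizer ({φ C3} : Set G) ≤ Subgroup.normalizer (J : Set G)) :
    ∃ f : ↥(Subgroup.centralizer ({φ C3} : Set G)) →* Equiv.Perm (Fin 6), Function.Surjective f ∧
      f.ker = (Subgroup.zpowers (φ C3)).subgroupOf (Subgroup.centralizer ({φ C3} : Set G)) := by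
  classical
  have hu : bel (rep 0) = ((C3 : W) : P9) := bel_rep.1
  have hj : φ C3 ∈ J := mem_J_of_eq h hu.symm
  have hj1 : φ C3 ≠ 1 := fun e => rep_ne 0 (bel_facts.2.2 (by
    rw [hu, show C3 = 1 from h.inj (by rw [e, map_one])]; rfl))
  have R := S9Local37.red h base_le_W hj hj1 (not_81 h base_le_W
    (four_mem (P := fun _ => True) h mem_W' hu count_W_one.2))
  obtain ⟨P, hP⟩ := R.sylow
  set S := S9Local37.img J (φ C3) with hS
  set NS := Subgroup.normalizer (S : Set (S9Local37.Quo (φ C3))) with hNS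
  haveI : (S.subgroupOf NS).Normal := Subgroup.normal_in_normalizer
  let g0 : DihedralGroup 4 →* ↥(Subgroup.centralizer ({φ C3} : Set G)) :=
    (φ.comp dhom).codRestrict _ fun d => Subgroup.mem_centralizer_singleton_iff.2 (by
      change φ (dfun d) * φ C3 = φ C3 * φ (dfun d)
      rw [← map_mul, ← map_mul, dfun_facts.1])
  let g1 : DihedralGroup 4 →* S9Local37.Quo (φ C3) := (QuotientGroup.mk' _).comp g0
  have hg1 : ∀ d, g1 d ∈ NS := fun d => by
    rw [hNS, hS, R.norm]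
    exact Subgroup.mem_map.2 ⟨g0 d, Subgroup.mem_subgroupOf.2 (h.range_eq ▸ ⟨dfun d, rfl⟩), rfl⟩
  let g2 : DihedralGroup 4 →* NS ⧸ S.subgroupOf NS :=
    (QuotientGroup.mk' _).comp (g1.codRestrict NS hg1)
  have hinj : Function.Injective g2 := by
    rw [injective_iff_map_eq_one]
    intro d hd
    have hm : g1 d ∈ S := Subgroup.mem_subgroupOf.1 ((QuotientGroup.eq_one_iff _).1 hd)
    obtain ⟨c, hc, hce⟩ := Subgroup.mem_map.1 hm
    have e : (c⁻¹ * g0 d : ↥(Subgroup.centralizer ({φ C3} : Set G))) ∈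
        (Subgroup.zpowers (φ C3)).subgroupOf _ := by
      rw [← QuotientGroup.eq]
      exact hce
    have hdJ : φ (dfun d) ∈ J := by
      have := J.mul_mem (Subgroup.mem_subgroupOf.1 hc)
        ((Subgroup.zpowers_le.2 hj) (Subgroup.mem_subgroupOf.1 e))
      simpa [g0, dhom] using this
    rw [← h.base_eq] at hdJ
    obtain ⟨v, hv, hve⟩ := Subgroup.mem_map.1 hdJ
    obtain ⟨b, hb⟩ := mem_base_iff.1 (Subgroup.mem_subgroupOf.1 hv)
    exact dfun_facts.2 d b (by rw [← h.inj hve, hb])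
  have hbij : Function.Bijective g2 := by
    refine Nat.bijective_iff_injective_and_card g2 |>.2 ⟨hinj, ?_⟩
    have h1 := Nat.card_le_card_of_injective g2 hinj
    have h2 := Subgroup.card_eq_card_quotient_mul_card_subgroup (S.subgroupOf NS)
    rw [Nat.card_congr (Subgroup.subgroupOfEquivOfLe Subgroup.le_normalizer).toEquiv, hS, R.card]
      at h2
    have h3 : 3 * Nat.card NS ≤ 216 := by
      rw [hNS, hS, R.card_norm]
      exact (card_le (P := fun _ => True) h mem_W' hu).trans count_W_one.1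
    rw [DihedralGroup.nat_card] at h1 ⊢
    rw [← hS] at h2
    omega
  rcases S3333.result P S hP.symm R.card R.self (MulEquiv.ofBijective g2 hbij).symm R.loc with
    hnor | ⟨⟨e⟩⟩
  · exact absurd (R.concl hnor) hn
  · refine ⟨e.toMonoidHom.comp (QuotientGroup.mk' _), ?_, ?_⟩
    · exact e.surjective.comp (QuotientGroup.mk'_surjective _)
    · ext a
      simp [MonoidHom.mem_ker]

end Cfsg.Agent.S9Branch37
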