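import Cfsg.Agent.Lib.S9Chain44Braid
import Cfsg.Agent.Lib.CoxeterTypeA

/-!
The chain piece of the degree nine recognition: a copy of `Perm (Fin 9)` extending `φ`.
-/

set_option autoImplicit false

namespace Cfsg.Agent.S9Chain37

open Equiv Cfsg.Agent.S9Model37 Cfsg.Agent.S9Chain44W Cfsg.Agent.S9Chain44Fus Cfsg.Agent.S9Chain44X
open Cfsg.Agent.S9Chain44Braid

universe u

variable {G : Type u} [Group G]

/-- The permutations of the points `0..5`. -/
def e6 : P6 →* P9 :=
  (((finSumFinEquiv (m := 6) (n := 3)).permCongrHom.toMonoidHom).comp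
    (Equiv.Perm.sumCongrHom (Fin 6) (Fin 3))).comp (MonoidHom.inl P6 (Perm (Fin 3)))

/-- The permutations of the points `3..8`. -/
def e36 : P6 →* P9 :=
  (((finSumFinEquiv (m := 3) (n := 6)).permCongrHom.toMonoidHom).comp
    (Equiv.Perm.sumCongrHom (Fin 3) (Fin 6))).comp (MonoidHom.inr (Perm (Fin 3)) P6)

/-- The eight Coxeter generators in `G`. -/
def gen (φ : W →* G) (ι : P6 →* G) : Fin 8 → G :=
  ![φ D1, φ S12, ι (swap 2 3), φ D2, φ S45, i1 φ ι (swap 2 3), φ D3, φ S78]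

variable {J : Subgroup G} {φ : W →* G} {ι : P6 →* G}

/-- The `W`-values of the generators, with junk in places two and five. -/
def wgen : Fin 8 → W := ![D1, S12, 1, D2, S45, 1, D3, S78]

theorem gen_W : ∀ i : Fin 8, i ≠ 2 → i ≠ 5 → gen φ ι i = φ (wgen i) := by
  intro i h2 h5
  fin_cases i <;> first | rfl | exact absurd rfl h2 | exact absurd rfl h5

theorem gen_low (h6 : Six φ ι) (i : Fin 5) :
    gen φ ι (i.castLE (by norm_num)) = ι (swap i.castSucc i.succ) := by
  fin_cases i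
  exacts [(v_01 h6).symm, (v_12 h6).symm, rfl, (v_34 h6).symm, (v_45 h6).symm]

theorem gen_high (h6 : Six φ ι) (i : Fin 5) :
    gen φ ι (i.natAdd 3) = i1 φ ι (swap i.castSucc i.succ) := by
  fin_cases i
  exacts [(w1_01 h6).symm, (w1_12 h6).symm, rfl, (w1_34 h6).symm, (w1_45 h6).symm]

theorem rel_of_commute {a b : G} (h : Commute a b) (ha : a * a = 1) (hb : b * b = 1) :
    (a * b) ^ 2 = 1 := by
  rw [h.mul_pow, pow_two, pow_two, ha, hb, one_mul]

set_option synthInstance.maxSize 2048 in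
theorem liftable [Finite G] (hF : Full J φ) (h6 : Six φ ι) :
    CoxeterMatrix.IsLiftable (CoxeterMatrix.A 8) (gen φ ι) := by
  have hsq : ∀ i, gen φ ι i * gen φ ι i = 1 := by
    intro i
    by_cases h2 : i = 2
    · subst h2
      show ι (swap 2 3) * ι (swap 2 3) = 1
      rw [← map_mul, swap_mul_self, map_one]
    by_cases h5 : i = 5
    · subst h5
      show i1 φ ι (swap 2 3) * i1 φ ι (swap 2 3) = 1
      rw [← map_mul, swap_mul_self, map_one]
    rw [gen_W i h2 h5, ← map_mul]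
    have hd : ∀ i : Fin 8, wgen i * wgen i = 1 := by decide +kernel
    rw [hd, map_one]
  have hc25 : Commute (gen φ ι 2) (gen φ ι 5) := commute_ab hF h6
  have hc26 : Commute (gen φ ι 2) (gen φ ι 6) := (comm_D3 h6 _).symm
  have hc27 : Commute (gen φ ι 2) (gen φ ι 7) := (comm_S78 h6 _).symm
  have hc05 : Commute (gen φ ι 0) (gen φ ι 5) := comm1_D1 h6 _
  have hc15 : Commute (gen φ ι 1) (gen φ ι 5) := comm1_S12 h6 _
  intro i j
  by_cases hlo : (i : ℕ) < 5 ∧ (j : ℕ) < 5
  · obtain ⟨hi, hj⟩ := hlo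
    have ei : i = (⟨i, hi⟩ : Fin 5).castLE (by norm_num) := rfl
    have ej : j = (⟨j, hj⟩ : Fin 5).castLE (by norm_num) := rfl
    have hd : ∀ i j : Fin 5, (swap i.castSucc i.succ * swap j.castSucc j.succ : P6) ^
        (CoxeterMatrix.A 8).M (i.castLE (by norm_num)) (j.castLE (by norm_num)) = 1 := by
      decide +kernel
    rw [ei, ej, gen_low h6, gen_low h6, ← map_mul, ← map_pow, hd, map_one]
  by_cases hhi : 3 ≤ (i : ℕ) ∧ 3 ≤ (j : ℕ)
  · obtain ⟨hi, hj⟩ := hhi
    have ei : i = (⟨(i : ℕ) - 3, by omega⟩ : Fin 5).natAdd 3 := by ext; simp; omega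
    have ej : j = (⟨(j : ℕ) - 3, by omega⟩ : Fin 5).natAdd 3 := by ext; simp; omega
    have hd : ∀ i j : Fin 5, (swap i.castSucc i.succ * swap j.castSucc j.succ : P6) ^
        (CoxeterMatrix.A 8).M (i.natAdd 3) (j.natAdd 3) = 1 := by
      decide +kernel
    rw [ei, ej, gen_high h6, gen_high h6, ← map_mul, ← map_pow, hd, map_one]
  have hM : ∀ i j : Fin 8, (((i : ℕ) < 5 ∧ (j : ℕ) < 5) ∨ (3 ≤ (i : ℕ) ∧ 3 ≤ (j : ℕ))) ∨
      (i ≠ j ∧ (j : ℕ) + 1 ≠ i ∧ (i : ℕ) + 1 ≠ j ∧ (i < 3 ∧ 5 ≤ j ∨ j < 3 ∧ 5 ≤ i)) := by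
    decide +kernel
  obtain ⟨e1, e2, e3, hij⟩ := (hM i j).resolve_left (fun h => h.elim hlo hhi)
  have e : (CoxeterMatrix.A 8).M i j = 2 := by
    show (if i = j then 1 else (if (j : ℕ) + 1 = i ∨ (i : ℕ) + 1 = j then 3 else 2)) = 2
    rw [if_neg e1, if_neg (by omega)]
  show _ ^ (CoxeterMatrix.A 8).M i j = 1
  rw [e]
  refine rel_of_commute ?_ (hsq i) (hsq j)
  clear e hlo hhi
  have key : ∀ i j : Fin 8, i < 3 → 5 ≤ j → Commute (gen φ ι i) (gen φ ι j) := by
    intro i j hi hj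
    by_cases h : i = 2 ∨ j = 5
    · fin_cases i <;> fin_cases j <;> first
        | exact hc25 | exact hc26 | exact hc27 | exact hc05 | exact hc15
        | exact absurd hi (by decide) | exact absurd hj (by decide) | exact absurd h (by decide)
    · rw [not_or] at h
      rw [gen_W i h.1 (by omega), gen_W j (by omega) h.2]
      have hd : ∀ i j : Fin 8, i < 3 → 5 ≤ j → i ≠ 2 → j ≠ 5 → wgen i * wgen j = wgen j * wgen i := by
        decide +kernel
      exact commute_map (hd i j hi hj h.1 h.2)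
  rcases hij with ⟨hi, hj⟩ | ⟨hj, hi⟩
  · exact key i j hi hj
  · exact (key j i hj hi).symm

theorem center_nine (σ : P9) (h : ∀ τ : P9, σ * τ = τ * σ) : σ = 1 := by
  ext1 a
  by_contra hne
  obtain ⟨b, hb1, hb2⟩ : ∃ b : Fin 9, b ≠ a ∧ b ≠ σ a := by
    have hd : ∀ x y : Fin 9, ∃ b : Fin 9, b ≠ x ∧ b ≠ y := by decide
    exact hd a (σ a)
  have := Equiv.congr_fun (h (swap a b)) a
  simp only [Perm.mul_apply, swap_apply_left] at this
  have hne' : σ a ≠ a := hne
  rw [swap_apply_of_ne_of_ne hne' hb2.symm] at this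
  exact hb1 (σ.injective this)

theorem hom_facts [Finite G] (hF : Full J φ) (h6 : Six φ ι) :
    ∃ ψ : P9 →* G, (∀ w : W, ψ w = φ w) ∧ (∀ σ, ψ (e6 σ) = ι σ) ∧
      ∀ σ, ψ (e36 σ) = i1 φ ι σ := by
  obtain ⟨cs, hcs⟩ := CoxeterTypeA.exists_coxeterSystem 8
  let ψ : P9 →* G := cs.lift ⟨gen φ ι, liftable hF h6⟩
  have hψ : ∀ i : Fin 8, ψ (swap i.castSucc i.succ) = gen φ ι i := fun i => by
    rw [← hcs i]
    exact cs.lift_apply_simple (liftable hF h6) i
  have he6 : ψ.comp e6 = ι := by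
    refine MonoidHom.eq_of_eqOn_dense closure_swaps ?_
    have key : ∀ i : Fin 5, ψ (e6 (swap i.castSucc i.succ)) = ι (swap i.castSucc i.succ) := fun i => by
      have hd : ∀ i : Fin 5, e6 (swap i.castSucc i.succ) =
          swap (Fin.castSucc (i.castLE (show 5 ≤ 8 by norm_num))) (i.castLE (show 5 ≤ 8 by norm_num)).succ := by
        decide +kernel
      rw [hd, hψ, gen_low h6]
    intro τ hτ
    simp only [Set.mem_insert_iff, Set.mem_singleton_iff] at hτ
    rcases hτ with rfl | rfl | rfl | rfl | rfl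
    exacts [key 0, key 1, key 2, key 3, key 4]
  have he36 : ψ.comp e36 = i1 φ ι := by
    refine MonoidHom.eq_of_eqOn_dense closure_swaps ?_
    have key : ∀ i : Fin 5, ψ (e36 (swap i.castSucc i.succ)) = i1 φ ι (swap i.castSucc i.succ) :=
      fun i => by
      have hd : ∀ i : Fin 5, e36 (swap i.castSucc i.succ) =
          swap (Fin.castSucc (i.natAdd 3)) (i.natAdd 3).succ := by
        decide +kernel
      rw [hd, hψ (i.natAdd 3), gen_high h6]
    intro τ hτ
    simp only [Set.mem_insert_iff, Set.mem_singleton_iff] at hτ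
    rcases hτ with rfl | rfl | rfl | rfl | rfl
    exacts [key 0, key 1, key 2, key 3, key 4]
  have h6' : ∀ σ, ψ (e6 σ) = ι σ := DFunLike.congr_fun he6
  have h36' : ∀ σ, ψ (e36 σ) = i1 φ ι σ := DFunLike.congr_fun he36
  refine ⟨ψ, fun w => ?_, h6', h36'⟩
  have fin : ∀ {y : P9} {hy : y ∈ W} (z : P9) (u : W), y = z → ψ z = φ u → (u : P9) = y →
      ψ y = φ ⟨y, hy⟩ := by
    intro y hy z u e1 e2 e3
    refine (congrArg ψ e1).trans (e2.trans ?_)
    exact congrArg φ (Subtype.ext e3)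
  have hgen : ∀ x (hx : x ∈ W), ψ x = φ ⟨x, hx⟩ := by
    intro x hx
    induction hx using Subgroup.closure_induction with
    | mem y hy =>
      simp only [Set.mem_insert_iff, Set.mem_singleton_iff] at hy
      rcases hy with rfl | rfl | rfl | rfl | rfl | rfl | rfl | rfl
      · exact fin (e6 a6) C1 (by decide +kernel) ((h6' _).trans (v_a h6)) rfl
      · exact fin (e6 b6) C2 (by decide +kernel) ((h6' _).trans (v_b h6)) rfl
      · exact fin (e36 b6) C3 (by decide +kernel) ((h36' _).trans (w1_b h6)) rfl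
      · exact fin (e6 (swap 0 1)) D1 (by decide +kernel) ((h6' _).trans (v_01 h6)) rfl
      · exact fin (e6 (swap 3 4)) D2 (by decide +kernel) ((h6' _).trans (v_34 h6)) rfl
      · exact fin (e36 (swap 3 4)) D3 (by decide +kernel) ((h36' _).trans (w1_34 h6)) rfl
      · have hi : i1 φ ι t6 = φ TauBC := i1_eq (v_t h6) rfl
        refine fin (e6 t6 * e36 t6) (Tau * TauBC) (by decide +kernel) ?_ (by decide +kernel)
        rw [map_mul, h6', h36', hi, v_t h6, ← map_mul]
      · exact fin (e6 t6) Tau (by decide +kernel) ((h6' _).trans (v_t h6)) rfl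
    | one => rw [map_one]; exact (map_one φ).symm
    | mul y z hy hz ihy ihz => rw [map_mul, ihy, ihz, ← map_mul]; rfl
    | inv y hy ihy => rw [map_inv, ihy, ← map_inv]; rfl
  exact hgen w w.2

theorem injective_of [Finite G] (hF : Full J φ) {ψ : P9 →* G} (hext : ∀ w : W, ψ w = φ w) :
    Function.Injective ψ := by
  rw [← MonoidHom.ker_eq_bot_iff]
  haveI : IsSimpleGroup (alternatingGroup (Fin 9)) := alternatingGroup.isSimpleGroup (by simp)
  rcases IsSimpleGroup.eq_bot_or_eq_top_of_normal (ψ.ker.subgroupOf (alternatingGroup (Fin 9)))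
    inferInstance with h | h
  · rw [eq_bot_iff]
    intro σ hσ
    refine Subgroup.mem_bot.2 (center_nine σ fun τ => ?_)
    have hmem : σ * (τ * σ⁻¹ * τ⁻¹) ∈ ψ.ker :=
      mul_mem hσ (ψ.normal_ker.conj_mem _ (inv_mem hσ) τ)
    have halt : σ * (τ * σ⁻¹ * τ⁻¹) ∈ alternatingGroup (Fin 9) := by
      rw [Equiv.Perm.mem_alternatingGroup, map_mul, map_mul, map_mul, map_inv, map_inv]
      simp [mul_comm, mul_left_comm]
    have h1 : (⟨_, halt⟩ : alternatingGroup (Fin 9)) ∈ (⊥ : Subgroup (alternatingGroup (Fin 9))) :=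
      h ▸ hmem
    have h2 : σ * (τ * σ⁻¹ * τ⁻¹) = 1 := congrArg Subtype.val (Subgroup.mem_bot.1 h1)
    calc σ * τ = σ * (τ * σ⁻¹ * τ⁻¹) * (τ * σ) := by group
      _ = τ * σ := by rw [h2, one_mul]
  · exfalso
    rw [Subgroup.subgroupOf_eq_top] at h
    have h1 : ψ (C1 : W) = 1 := h (show (C1 : P9) ∈ alternatingGroup (Fin 9) by
      rw [Equiv.Perm.mem_alternatingGroup]; decide +kernel)
    rw [hext] at h1
    exact absurd (hF.inj (h1.trans (map_one φ).symm)) (by decide +kernel)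

theorem type_c3 : c3.cycleType = {3} := by
  rw [show c3 = swap 7 6 * swap 7 8 by decide +kernel]
  exact (Equiv.Perm.isThreeCycle_swap_mul_swap_same (by decide) (by decide) (by decide)).cycleType

theorem type_c1 : c1.cycleType = {3} := by
  rw [show c1 = swap 1 0 * swap 1 2 by decide +kernel]
  exact (Equiv.Perm.isThreeCycle_swap_mul_swap_same (by decide) (by decide) (by decide)).cycleType

theorem type_c2 : c2.cycleType = {3} := by
  rw [show c2 = swap 4 3 * swap 4 5 by decide +kernel]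
  exact (Equiv.Perm.isThreeCycle_swap_mul_swap_same (by decide) (by decide) (by decide)).cycleType

theorem three_classes (σ : P9) (h : orderOf σ = 3) :
    IsConj c3 σ ∨ IsConj (c1 * c2) σ ∨ IsConj (c1 * c2 * c3) σ := by
  obtain ⟨n, hn⟩ := Equiv.Perm.cycleType_prime_order (σ := σ) (by rw [h]; exact Nat.prime_three)
  have hs := σ.sum_cycleType
  have hle : σ.support.card ≤ 9 := (Finset.card_le_univ _).trans (by simp)
  rw [hn, h, Multiset.sum_replicate, smul_eq_mul] at hs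
  have hd12 : Equiv.Perm.Disjoint c1 c2 := by
    show ∀ x, c1 x = x ∨ c2 x = x
    decide +kernel
  have hd123 : Equiv.Perm.Disjoint (c1 * c2) c3 := by
    show ∀ x, (c1 * c2) x = x ∨ c3 x = x
    decide +kernel
  simp only [Equiv.Perm.isConj_iff_cycleType_eq]
  rw [hd123.cycleType_mul, hd12.cycleType_mul, type_c1, type_c2, type_c3, hn, h]
  have hn2 : n ≤ 2 := by omega
  interval_cases n
  · left; rfl
  · right; left; rfl
  · right; right; rfl

theorem three_of [Finite G] (hF : Full J φ) (h6 : Six φ ι) {ψ : P9 →* G}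
    (hext : ∀ w : W, ψ w = φ w) (he6 : ∀ σ, ψ (e6 σ) = ι σ) (σ : P9) (h : orderOf σ = 3) :
    Subgroup.centralizer ({ψ σ} : Set G) ≤ ψ.range := by
  have hW : ∀ g, (∃ w, φ w = g) → g ∈ ψ.range := by
    rintro _ ⟨w, rfl⟩
    exact ⟨w, hext w⟩
  have key : ∀ u : W, (∀ g, Commute g (φ u) → g ∈ ψ.range) → IsConj (u : P9) σ →
      Subgroup.centralizer ({ψ σ} : Set G) ≤ ψ.range := by
    intro u hu hc g hg
    obtain ⟨τ, hτ⟩ := isConj_iff.1 hc
    have hg' : Commute g (ψ σ) := Subgroup.mem_centralizer_singleton_iff.1 hg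
    rw [← hτ, map_mul, map_mul, map_inv, hext] at hg'
    have h1 : Commute ((ψ τ)⁻¹ * g * ψ τ) (φ u) := by
      have := hg'.map (MulAut.conj (ψ τ)⁻¹).toMonoidHom
      simpa [mul_assoc] using this
    have hT : ψ τ ∈ ψ.range := ⟨τ, rfl⟩
    have := mul_mem (mul_mem hT (hu _ h1)) (inv_mem hT)
    simpa [mul_assoc] using this
  rcases three_classes σ h with hc | hc | hc
  · refine key C3 (fun g hg => ?_) hc
    obtain ⟨k, τ, rfl⟩ := cent3 h6 hg
    exact mul_mem (zpow_mem (hW _ ⟨C3, rfl⟩) k) ⟨e6 τ, he6 τ⟩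
  · exact key (C1 * C2) (fun g hg => hW g (range_cw hF hg)) hc
  · exact key (C1 * C2 * C3) (fun g hg => hW g (range_cx hF hg)) hc

theorem tri_of [Finite G] (hF : Full J φ) (h6 : Six φ ι) {ψ : P9 →* G}
    (hext : ∀ w : W, ψ w = φ w) (he6 : ∀ σ, ψ (e6 σ) = ι σ) (he36 : ∀ σ, ψ (e36 σ) = i1 φ ι σ) :
    Subgroup.centralizer ({ψ (swap 0 1), ψ (swap 3 4), ψ (swap 6 7)} : Set G) ≤ ψ.range := by
  have hX : X' φ ≤ ψ.range :=
    (six_facts hF h6).2 ψ.range (fun p => ⟨_, hext (vel p)⟩) ⟨_, he6 _⟩ ⟨_, he36 _⟩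
  intro g hg
  have e1 : ψ (swap 0 1) = φ D1 := hext D1
  have e2 : ψ (swap 3 4) = φ D2 := hext D2
  have e3 : ψ (swap 6 7) = φ D3 := hext D3
  rw [e1, e2, e3] at hg
  simp only [Subgroup.mem_centralizer_iff, Set.mem_insert_iff, Set.mem_singleton_iff,
    forall_eq_or_imp, forall_eq] at hg
  obtain ⟨h1, h2, h3⟩ := hg
  have hk : ∀ u v : W, C3 * u * C3⁻¹ = v → φ u * g = g * φ u →
      Commute (φ C3 * g * (φ C3)⁻¹) (φ v) := by
    intro u v huv h
    have := (show Commute g (φ u) from h.symm).map (MulAut.conj (φ C3)).toMonoidHom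
    rw [← huv, map_mul, map_mul, map_inv]
    exact this
  have hm : φ C3 * g * (φ C3)⁻¹ ∈ X' φ := mem_X'.2
    ⟨hk D1 D1 (by decide +kernel) h1, hk D3 S78 rfl h3, hk D2 D2 (by decide +kernel) h2⟩
  have hC : φ C3 ∈ ψ.range := ⟨_, hext C3⟩
  have := mul_mem (mul_mem (inv_mem hC) (hX hm)) hC
  simpa [mul_assoc] using this

/-- The chain piece: `Full` data with a `3 × S₆` centraliser give a copy of `Perm (Fin 9)`. -/
theorem exists_nine {G : Type u} [Group G] [Finite G] {J : Subgroup G} {phi : W →* G}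
    (hF : Full J phi) {iota : Equiv.Perm (Fin 6) →* G} (h6 : Six phi iota) :
    ∃ psi : P9 →* G, Nine J phi psi := by
  obtain ⟨ψ, hext, he6, he36⟩ := hom_facts hF h6
  exact ⟨ψ, injective_of hF hext, hext, three_of hF h6 hext he6, tri_of hF h6 hext he6 he36⟩

end Cfsg.Agent.S9Chain37
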