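import Cfsg.Agent.Lib.S9Chain44X

/-!
The two extra transpositions `(23)` and `(56)` commute.
-/

set_option autoImplicit false

namespace Cfsg.Agent.S9Chain44Braid

open Equiv Cfsg.Agent.S9Model37 Cfsg.Agent.S9Chain44W Cfsg.Agent.S9Chain44Fus Cfsg.Agent.S9Chain44X

universe u

variable {G : Type u} [Group G] {J : Subgroup G} {φ : W →* G} {ι : P6 →* G}

theorem commute_of_eq {H : Type*} [Mul H] {a b : H} (h : a * b = b * a) : Commute a b := h

/-- The centraliser of the three transpositions `(01)`, `(78)`, `(34)`. -/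
def X' (φ : W →* G) : Subgroup G := Subgroup.centralizer ({φ D1, φ S78, φ D2} : Set G)

theorem mem_X' {g : G} : g ∈ X' φ ↔
    Commute g (φ D1) ∧ Commute g (φ S78) ∧ Commute g (φ D2) := by
  simp only [X', Subgroup.mem_centralizer_iff, Set.mem_insert_iff, Set.mem_singleton_iff,
    forall_eq_or_imp, forall_eq]
  exact ⟨fun h => ⟨h.1.symm, h.2.1.symm, h.2.2.symm⟩, fun h => ⟨h.1.symm, h.2.1.symm, h.2.2.symm⟩⟩

/-- The elements of the elementary abelian group on `(01)`, `(78)`, `(34)`. -/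
def vel (p : Fin 2 × Fin 2 × Fin 2) : W := D1 ^ (p.1 : ℕ) * S78 ^ (p.2.1 : ℕ) * D2 ^ (p.2.2 : ℕ)

/-- Embedding of `S₂ × S₄` into `S₆`. -/
def e24 : Perm (Fin 2) × Perm (Fin 4) →* P6 :=
  ((finSumFinEquiv (m := 2) (n := 4)).permCongrHom.toMonoidHom).comp
    (Equiv.Perm.sumCongrHom (Fin 2) (Fin 4))

theorem six_three {Q : Type*} [Group Q] [Finite Q] (hQ : Nat.card Q = 6) {x y w : Q}
    (hx : x * x = 1) (hy : y * y = 1) (hw : w * w = 1) (hx1 : x ≠ 1) (hy1 : y ≠ 1) (hw1 : w ≠ 1)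
    (hxy : x ≠ y) (hxw : x ≠ w) (hyw : y ≠ w) :
    x * y * x = w ∧ ∀ q : Q, q = 1 ∨ q = x ∨ q = y ∨ q = w ∨ q = x * y ∨ q = y * x := by
  classical
  have hnc : x * y ≠ y * x := by
    intro hc
    set N := Subgroup.centralizer ({x} : Set Q)
    have hxN : x ∈ N := Subgroup.mem_centralizer_singleton_iff.2 rfl
    have hyN : y ∈ N := Subgroup.mem_centralizer_singleton_iff.2 hc.symm
    set H := (Subgroup.zpowers x).subgroupOf N
    haveI : H.Normal := ⟨fun h hh n => by
      have hh' : (h : Q) ∈ Subgroup.zpowers x := hh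
      show ((n * h * n⁻¹ : N) : Q) ∈ Subgroup.zpowers x
      push_cast
      obtain ⟨k, hk⟩ := Subgroup.mem_zpowers_iff.1 hh'
      have hn : Commute (n : Q) x := Subgroup.mem_centralizer_singleton_iff.1 n.2
      rw [← hk, (hn.zpow_right k).eq, mul_inv_cancel_right]
      exact zpow_mem (Subgroup.mem_zpowers x) k⟩
    have hH : Nat.card H = 2 := by
      rw [Nat.card_congr (Subgroup.subgroupOfEquivOfLe (Subgroup.zpowers_le.2 hxN)).toEquiv,
        Nat.card_zpowers, orderOf_eq_prime (by rwa [pow_two]) hx1]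
    have hd : 2 * H.index ∣ 6 := by
      rw [← hH, H.card_mul_index, ← hQ]
      exact N.card_subgroup_dvd_card
    have hd3 : H.index ∣ 3 := Nat.dvd_of_mul_dvd_mul_left (show 0 < 2 by norm_num) hd
    have h2 : (QuotientGroup.mk (⟨y, hyN⟩ : N) : N ⧸ H) ^ 2 = 1 := by
      rw [← QuotientGroup.mk_pow, show (⟨y, hyN⟩ : N) ^ 2 = 1 from Subtype.ext (by
        simpa [pow_two] using hy), QuotientGroup.mk_one]
    have h3 : (QuotientGroup.mk (⟨y, hyN⟩ : N) : N ⧸ H) ^ 3 = 1 := by
      obtain ⟨d, hd'⟩ := hd3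
      rw [show (3 : ℕ) = H.index * d from hd', pow_mul, Subgroup.index_eq_card, pow_card_eq_one',
        one_pow]
    rw [pow_succ, h2, one_mul, QuotientGroup.eq_one_iff] at h3
    obtain ⟨k, hk⟩ := Subgroup.mem_zpowers_iff.1 (show y ∈ Subgroup.zpowers x from h3)
    rcases Int.even_or_odd k with ⟨l, hl⟩ | ⟨l, hl⟩
    · apply hy1
      rw [← hk, hl, ← two_mul, zpow_mul, zpow_two, hx, one_zpow]
    · apply hxy
      rw [← hk, hl, zpow_add_one, zpow_mul, zpow_two, hx, one_zpow, one_mul]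
  haveI := Fintype.ofFinite Q
  have hxi : x⁻¹ = x := inv_eq_of_mul_eq_one_right hx
  have hyi : y⁻¹ = y := inv_eq_of_mul_eq_one_right hy
  have hwp : w ≠ x * y := fun e => hnc (by
    have h := inv_eq_of_mul_eq_one_right hw
    rw [e, mul_inv_rev, hxi, hyi] at h
    exact h.symm)
  have hwq : w ≠ y * x := fun e => hnc (by
    have h := inv_eq_of_mul_eq_one_right hw
    rw [e, mul_inv_rev, hxi, hyi] at h
    exact h)
  have a1 : x * y ≠ 1 := fun e => hxy (by rw [← mul_one x, ← hy, ← mul_assoc, e, one_mul])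
  have a2 : y * x ≠ 1 := fun e => hxy (by rw [← mul_one y, ← hx, ← mul_assoc, e, one_mul])
  have a3 : x * y ≠ x := fun e => hy1 (mul_eq_left.1 e)
  have a4 : x * y ≠ y := fun e => hx1 (mul_eq_right.1 e)
  have a5 : y * x ≠ x := fun e => hy1 (mul_eq_right.1 e)
  have a6 : y * x ≠ y := fun e => hx1 (mul_eq_left.1 e)
  have hall : ∀ q : Q, q = 1 ∨ q = x ∨ q = y ∨ q = w ∨ q = x * y ∨ q = y * x := by
    have hu : ({1, x, y, w, x * y, y * x} : Finset Q) = Finset.univ := by
      apply Finset.eq_univ_of_card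
      rw [← Nat.card_eq_fintype_card, hQ]
      rw [Finset.card_insert_of_notMem, Finset.card_insert_of_notMem,
        Finset.card_insert_of_notMem, Finset.card_insert_of_notMem,
        Finset.card_insert_of_notMem, Finset.card_singleton] <;>
        simp [hnc, hxy, hxw, hyw, hwp, hwq, hx1.symm, hy1.symm, hw1.symm, a1.symm, a2.symm,
          a3.symm, a4.symm, a5.symm, a6.symm]
    intro q
    have := hu ▸ Finset.mem_univ q
    simpa using this
  refine ⟨?_, hall⟩
  rcases hall (x * y * x) with e | e | e | e | e | e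
  · exfalso
    apply hy1
    calc y = (x * x) * y * (x * x) := by rw [hx, one_mul, mul_one]
      _ = x * (x * y * x) * x := by group
      _ = 1 := by rw [e, mul_one, hx]
  · exfalso
    have h1 : x * y = 1 := mul_eq_right.1 e
    exact a1 h1
  · exfalso
    apply hnc
    calc x * y = x * y * x * x := by rw [mul_assoc _ x, hx, mul_one]
      _ = y * x := by rw [e]
  · exact e
  · exfalso; exact hx1 (mul_eq_left.1 e)
  · exfalso
    rw [mul_assoc] at e
    exact hx1 (mul_eq_right.1 e)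

section Main

variable [Finite G] (hF : Full J φ) (h6 : Six φ ι)
include hF h6

theorem exists_move : ∃ n : G, n * i2 φ ι (swap 0 5) * n⁻¹ = φ D2 ∧
    Commute n (φ D1) ∧ Commute n (φ S78) := by
  classical
  haveI : Fact (Nat.Prime 2) := ⟨Nat.prime_two⟩
  set U := Subgroup.centralizer ({φ D1, φ S78} : Set G)
  have mem_U : ∀ {g : G}, g ∈ U ↔ Commute g (φ D1) ∧ Commute g (φ S78) := by
    intro g
    simp only [U, Subgroup.mem_centralizer_iff, Set.mem_insert_iff, Set.mem_singleton_iff,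
      forall_eq_or_imp, forall_eq]
    exact ⟨fun h => ⟨h.1.symm, h.2.symm⟩, fun h => ⟨h.1.symm, h.2.symm⟩⟩
  set w := i2 φ ι (swap 0 5)
  have hD2 : φ D2 ∈ XS φ ι := by
    rw [mem_XS, ← w2_34 h6, ← w2_12 h6]
    exact ⟨comm2_D2 h6 _, comm2_D2 h6 _, comm2_D2 h6 _⟩
  have hD2o : orderOf (φ D2) = 2 := orderOf_eq_prime
    (by rw [← map_pow, show D2 ^ 2 = 1 by decide +kernel, map_one])
    (fun e => absurd (hF.inj (e.trans (map_one φ).symm)) (by decide +kernel))
  let F : Subgroup G := VS φ ι ⊔ Subgroup.zpowers (φ D2)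
  have hFX : F ≤ XS φ ι := sup_le (VS_le h6) (Subgroup.zpowers_le.2 hD2)
  have hD2V : φ D2 ∉ VS φ ι := fun ⟨σ, _, hσ⟩ => by
    have hc : Commute (φ D2) (φ C2) := hσ ▸ (comm2_C2 h6 σ).symm
    exact absurd (hF.inj (by rw [map_mul, map_mul]; exact hc.eq : φ (D2 * C2) = φ (C2 * D2)))
      (by decide +kernel)
  let θ : VS φ ι × Subgroup.zpowers (φ D2) →* G :=
    (VS φ ι).subtype.noncommCoprod (Subgroup.zpowers (φ D2)).subtype fun v z =>
      (V_central h6 v.2 (Subgroup.zpowers_le.2 hD2 z.2)).symm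
  have hθr : θ.range = F := by
    exact (MonoidHom.noncommCoprod_range (VS φ ι).subtype (Subgroup.zpowers (φ D2)).subtype
      fun v z => (V_central h6 v.2 (Subgroup.zpowers_le.2 hD2 z.2)).symm).trans
        (by simp only [Subgroup.range_subtype]; rfl)
  have hdis : Disjoint (VS φ ι) (Subgroup.zpowers (φ D2)) := by
    rw [Subgroup.disjoint_def]
    intro g hg hz
    obtain ⟨k, rfl⟩ := Subgroup.mem_zpowers_iff.1 hz
    rw [← zpow_mod_orderOf, hD2o] at hg ⊢
    rcases Int.emod_two_eq_zero_or_one k with e | e <;>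
      rw [show ((2 : ℕ) : ℤ) = 2 from rfl, e] at hg ⊢
    · exact zpow_zero _
    · rw [zpow_one] at hg; exact absurd hg hD2V
  have hθi : Function.Injective θ := by
    refine (injective_iff_map_eq_one θ).2 fun ⟨v, z⟩ h => ?_
    have h1 : (v : G) = (z : G)⁻¹ := eq_inv_of_mul_eq_one_left h
    have hv : (v : G) = 1 := Subgroup.disjoint_def.1 hdis v.2 (h1 ▸ inv_mem z.2)
    rw [hv, eq_comm, inv_eq_one] at h1
    exact Prod.ext (Subtype.ext hv) (Subtype.ext h1)
  have hFc : Nat.card F = 16 := by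
    rw [← hθr, Nat.card_congr (MonoidHom.ofInjective hθi).toEquiv.symm, Nat.card_prod,
      card_VS h6, Nat.card_zpowers, hD2o]
  have hFU : F ≤ U := fun g hg => mem_U.2 ⟨(mem_XS.1 (hFX hg)).1, (mem_XS.1 (hFX hg)).2.1⟩
  have h96 : 32 ∣ Nat.card U := by
    let z := φ S78
    let ψ : (Perm (Fin 2) × Perm (Fin 4)) × Subgroup.zpowers z →* G :=
      (ι.comp e24).noncommCoprod (Subgroup.zpowers z).subtype fun p q => by
        obtain ⟨q, k, rfl⟩ := q
        exact ((comm_S78 h6 _).symm).zpow_right k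
    have he : ∀ p : Perm (Fin 2) × Perm (Fin 4), e24 p * swap 0 1 = swap 0 1 * e24 p := by
      decide +kernel
    have hz : orderOf z = 2 := orderOf_eq_prime
      (by rw [← map_pow, show S78 ^ 2 = 1 by decide +kernel, map_one])
      (fun e => absurd (hF.inj (e.trans (map_one φ).symm)) (by decide +kernel))
    have hr : ψ.range ≤ U := by
      rw [MonoidHom.noncommCoprod_range, Subgroup.range_subtype, sup_le_iff, Subgroup.zpowers_le,
        mem_U]
      refine ⟨?_, commute_map (by decide +kernel), Commute.refl _⟩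
      rintro _ ⟨p, rfl⟩
      rw [mem_U, ← v_01 h6]
      exact ⟨(show Commute (e24 p) _ from he p).map ι, (comm_S78 h6 _).symm⟩
    have hinj : Function.Injective ψ := by
      refine (injective_iff_map_eq_one ψ).2 fun ⟨p, q⟩ h => ?_
      have hp : ι (e24 p) = ((q : G))⁻¹ := eq_inv_of_mul_eq_one_left h
      have h1 : ∀ τ, e24 p * τ = τ * e24 p := fun τ => h6.inj (by
        obtain ⟨k, hk⟩ := Subgroup.mem_zpowers_iff.1 q.2
        rw [map_mul, map_mul, hp, ← hk]
        exact (((comm_S78 h6 τ).zpow_left k).inv_left).eq)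
      have h2 : e24 p = 1 := center_six _ (h1 _) (h1 _) (h1 _) (h1 _)
      rw [h2, map_one, eq_comm, inv_eq_one] at hp
      have h3 : p = 1 := by
        have : Function.Injective e24 :=
          ((finSumFinEquiv (m := 2) (n := 4)).permCongrHom.injective).comp
            Equiv.Perm.sumCongrHom_injective
        exact this (h2.trans (map_one _).symm)
      exact Prod.ext h3 (Subtype.ext hp)
    refine (dvd_trans ?_ (Subgroup.card_dvd_of_le hr))
    rw [Nat.card_congr (MonoidHom.ofInjective hinj).toEquiv.symm, Nat.card_prod, Nat.card_prod,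
      Nat.card_perm, Nat.card_perm, Nat.card_fin, Nat.card_fin, Nat.card_zpowers, hz]
    decide
  have hp : IsPGroup 2 (F.subgroupOf U) := by
    refine IsPGroup.of_equiv ?_ (Subgroup.subgroupOfEquivOfLe hFU).symm
    exact IsPGroup.of_card (n := 4) (by rw [hFc]; norm_num)
  obtain ⟨R, hR⟩ := hp.exists_le_sylow
  have hlt : (F.subgroupOf U).subgroupOf (R : Subgroup U) < ⊤ := by
    refine lt_of_le_of_ne le_top fun e => ?_
    rw [Subgroup.subgroupOf_eq_top] at e
    have hRc : Nat.card (R : Subgroup U) = 16 := by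
      rw [le_antisymm e hR, Nat.card_congr (Subgroup.subgroupOfEquivOfLe hFU).toEquiv, hFc]
    have := R.pow_dvd_card_of_pow_dvd_card (n := 5) (by norm_num; exact h96)
    rw [hRc] at this
    norm_num at this
  haveI : Group.IsNilpotent (R : Subgroup U) := R.2.isNilpotent
  obtain ⟨r, hr, hrF⟩ := SetLike.exists_of_lt (Group.normalizerCondition_of_isNilpotent _ hlt)
  set n : G := ((r : U) : G)
  obtain ⟨hn1, hn2⟩ := mem_U.1 (r : U).2
  have hwF : w ∈ F := (le_sup_left : VS φ ι ≤ F) ⟨swap 0 5, by rw [SetLike.mem_coe, mem_V0]; decide +kernel, rfl⟩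
  have hne : n * w * n⁻¹ ≠ w := by
    intro hc
    have hnX : n ∈ XS φ ι := mem_XS.2 ⟨hn1, hn2, mul_inv_eq_iff_eq_mul.1 hc⟩
    let S : Subgroup G := ((R : Subgroup U).map U.subtype) ⊓ XS φ ι
    have hFS : F ≤ S := le_inf (fun g hg => ⟨⟨g, hFU hg⟩, hR hg, rfl⟩) hFX
    obtain ⟨k, hk⟩ := IsPGroup.iff_card.1
      ((R.2.map U.subtype).to_le (inf_le_left : S ≤ _))
    have hd : Nat.card S ∣ 48 := (card_XS hF h6) ▸ Subgroup.card_dvd_of_le inf_le_right
    rw [hk] at hd
    have hk4 : k ≤ 4 := by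
      by_contra hk5
      have : 2 ^ 5 ∣ 48 := (pow_dvd_pow 2 (by omega)).trans hd
      norm_num at this
    have heq : F = S := Subgroup.eq_of_le_of_card_ge hFS (by
      rw [hFc, hk]; calc 2 ^ k ≤ 2 ^ 4 := Nat.pow_le_pow_right (by norm_num) hk4
        _ = 16 := rfl)
    exact hrF (show n ∈ F from heq ▸ ⟨⟨(r : U), r.2, rfl⟩, hnX⟩)
  have hmem : n * w * n⁻¹ ∈ F := by
    have hwR : (⟨w, hFU hwF⟩ : U) ∈ (R : Subgroup U) := hR hwF
    exact (Subgroup.mem_normalizer_iff.1 hr ⟨⟨w, hFU hwF⟩, hwR⟩).1 hwF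
  refine ⟨n, ?_, hn1, hn2⟩
  rw [← hθr] at hmem
  obtain ⟨⟨⟨v, hv⟩, ⟨z, hz⟩⟩, hvz⟩ := hmem
  have hvz' : v * z = n * w * n⁻¹ := hvz
  obtain ⟨σ, hσ, rfl⟩ := hv
  obtain ⟨l, rfl⟩ := Subgroup.mem_zpowers_iff.1 hz
  have hCE : CE φ (i2 φ ι σ * φ D2 ^ l) := hvz' ▸ (CE_swap2 hF h6 (by decide)).conj n
  rw [← zpow_mod_orderOf, hD2o] at hCE hvz'
  obtain ⟨i, j, k, hijk⟩ := cent_three_swaps σ (mem_V0.1 hσ).1 (mem_V0.1 hσ).2.1 (mem_V0.1 hσ).2.2
  rcases Int.emod_two_eq_zero_or_one l with e | e <;>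
    rw [show ((2 : ℕ) : ℤ) = 2 from rfl, e] at hCE hvz'
  · exfalso
    rw [zpow_zero, mul_one] at hCE hvz'
    obtain ⟨τ, hτ⟩ := class_zero hF h6 hCE
    have hd : ∀ i j k : Fin 2, Equiv.Perm.sign (swap (3 : Fin 6) 4 ^ (i : ℕ) * swap 1 2 ^ (j : ℕ) * swap 0 5 ^ (k : ℕ)) = -1 →
        (swap (3 : Fin 6) 4 ^ (i : ℕ) * swap 1 2 ^ (j : ℕ) * swap 0 5 ^ (k : ℕ)) = swap 3 4 ∨
        (swap (3 : Fin 6) 4 ^ (i : ℕ) * swap 1 2 ^ (j : ℕ) * swap 0 5 ^ (k : ℕ)) = swap 1 2 ∨
        (swap (3 : Fin 6) 4 ^ (i : ℕ) * swap 1 2 ^ (j : ℕ) * swap 0 5 ^ (k : ℕ)) = swap 0 5 ∨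
        (swap (3 : Fin 6) 4 ^ (i : ℕ) * swap 1 2 ^ (j : ℕ) * swap 0 5 ^ (k : ℕ)) = swap 3 4 * swap 1 2 * swap 0 5 := by
      decide +kernel
    have hs : Equiv.Perm.sign σ = -1 := by
      have := congrArg Equiv.Perm.sign hτ
      rw [map_mul, map_mul, map_inv, mul_right_comm, mul_inv_cancel, one_mul] at this
      rw [this]
      decide +kernel
    have htr : ∀ τ : P6, τ * (swap 3 4 * swap 1 2 * swap 0 5) * τ⁻¹ ≠ swap 0 1 := by decide +kernel
    rcases hijk ▸ hd i j k (hijk ▸ hs) with h | h | h | h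
    · rw [h, w2_34 h6] at hvz'
      exact absurd (i2_inj h6 (show i2 φ ι (swap 0 5) = i2 φ ι (swap 3 4) by
        rw [w2_34 h6]
        calc w = n⁻¹ * (n * w * n⁻¹) * n := by group
          _ = n⁻¹ * (φ D1 * n) := by rw [← hvz', mul_assoc]
          _ = φ D1 := by rw [← hn1.eq, inv_mul_cancel_left])) (by decide +kernel)
    · rw [h, w2_12 h6] at hvz'
      exact absurd (i2_inj h6 (show i2 φ ι (swap 0 5) = i2 φ ι (swap 1 2) by
        rw [w2_12 h6]
        calc w = n⁻¹ * (n * w * n⁻¹) * n := by group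
          _ = n⁻¹ * (φ S78 * n) := by rw [← hvz', mul_assoc]
          _ = φ S78 := by rw [← hn2.eq, inv_mul_cancel_left])) (by decide +kernel)
    · rw [h] at hvz'
      exact hne hvz'.symm
    · rw [h] at hτ
      exact htr τ hτ
  · rw [zpow_one] at hCE hvz'
    have hsq : σ * σ = 1 := by
      rw [hijk]
      clear hijk
      revert i j k
      decide +kernel
    rw [class_one hF h6 hsq hCE, map_one, one_mul] at hvz'
    exact hvz'.symm

theorem card_X' : Nat.card (X' φ) = 48 := by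
  obtain ⟨n, hn, hn1, hn2⟩ := exists_move hF h6
  rw [← card_XS hF h6, Nat.card_congr ((XS φ ι).equivMapOfInjective (MulAut.conj n).toMonoidHom
    (MulAut.conj n).injective).toEquiv]
  refine congrArg (fun S : Subgroup G => Nat.card S) ?_
  have he : n * φ D1 * n⁻¹ = φ D1 := by rw [hn1.eq, mul_inv_cancel_right]
  have hs : n * φ S78 * n⁻¹ = φ S78 := by rw [hn2.eq, mul_inv_cancel_right]
  ext g
  rw [Subgroup.mem_map_equiv, mem_XS, mem_X', ← hn]
  constructor
  · rintro ⟨h1, h2, h3⟩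
    refine ⟨?_, ?_, ?_⟩
    · have := h1.map (MulAut.conj n⁻¹).toMonoidHom
      rw [← he] at this
      simpa [mul_assoc] using this
    · have := h2.map (MulAut.conj n⁻¹).toMonoidHom
      rw [← hs] at this
      simpa [mul_assoc] using this
    · have := h3.map (MulAut.conj n⁻¹).toMonoidHom
      simpa [mul_assoc] using this
  · rintro ⟨h1, h2, h3⟩
    refine ⟨?_, ?_, ?_⟩
    · have := h1.map (MulAut.conj n).toMonoidHom
      simpa [he, mul_assoc] using this
    · have := h2.map (MulAut.conj n).toMonoidHom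
      simpa [hs, mul_assoc] using this
    · have := h3.map (MulAut.conj n).toMonoidHom
      simpa [mul_assoc] using this

theorem tau_i1 (σ : P6) : φ Tau * i1 φ ι σ * (φ Tau)⁻¹ = i2 φ ι (t6 * σ * t6⁻¹) := by
  have hW : Tau * Rot = Rot ^ 2 * Tau := by decide +kernel
  have e : φ Tau * φ Rot = φ (Rot ^ 2) * φ Tau :=
    (map_mul φ _ _).symm.trans ((congrArg (fun v => φ v) hW).trans (map_mul φ _ _))
  rw [i1_apply, i2_apply, map_mul, map_mul, map_inv, v_t h6]
  calc φ Tau * (φ Rot * ι σ * (φ Rot)⁻¹) * (φ Tau)⁻¹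
      = φ Tau * φ Rot * ι σ * (φ Tau * φ Rot)⁻¹ := by group
    _ = _ := by rw [e]; group

theorem eq_one_w (p : Fin 2 × Fin 2 × Fin 2)
    (h : CE φ (i2 φ ι (swap 0 5) * φ (vel p))) : p = 0 := by
  obtain ⟨i, j, k⟩ := p
  have e : φ (vel (i, j, k)) = i2 φ ι (swap 3 4 ^ (i : ℕ) * swap 1 2 ^ (j : ℕ)) * φ D2 ^ (k : ℕ) := by
    rw [map_mul, map_pow, map_pow, w2_34 h6, w2_12 h6, vel, map_mul, map_mul, map_pow, map_pow,
      map_pow]
  rw [e, ← mul_assoc, ← map_mul] at h
  set σ := swap (0 : Fin 6) 5 * (swap 3 4 ^ (i : ℕ) * swap 1 2 ^ (j : ℕ)) with hσ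
  fin_cases k
  · simp only [pow_zero, mul_one] at h
    obtain ⟨τ, hτ⟩ := class_zero hF h6 h
    have hd : ∀ i j : Fin 2,
        Equiv.Perm.sign (swap (0 : Fin 6) 5 * (swap 3 4 ^ (i : ℕ) * swap 1 2 ^ (j : ℕ))) = -1 →
        (i = 0 ∧ j = 0) ∨ swap (0 : Fin 6) 5 * (swap 3 4 ^ (i : ℕ) * swap 1 2 ^ (j : ℕ)) =
          swap 0 5 * (swap 3 4 * swap 1 2) := by decide +kernel
    have htr : ∀ τ : P6, τ * (swap 0 5 * (swap 3 4 * swap 1 2)) * τ⁻¹ ≠ swap 0 1 := by decide +kernel
    have hs : Equiv.Perm.sign σ = -1 := by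
      have := congrArg Equiv.Perm.sign hτ
      rw [map_mul, map_mul, map_inv, mul_right_comm, mul_inv_cancel, one_mul] at this
      rw [this]
      decide +kernel
    rcases hd i j hs with ⟨rfl, rfl⟩ | h'
    · rfl
    · rw [hσ, h'] at hτ
      exact absurd hτ (htr τ)
  · simp only [pow_one] at h
    have hσ2 : σ * σ = 1 := by
      rw [hσ]; clear hσ e h; clear σ; revert i j; decide +kernel
    have := class_one hF h6 hσ2 h
    rw [hσ] at this
    exfalso
    clear hσ e h hσ2; clear σ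
    revert this
    revert i j
    decide +kernel

theorem six_facts :
    i1 φ ι (swap 2 3) = ι (swap 2 5) * i2 φ ι (swap 0 5) * ι (swap 2 5) ∧
      ∀ H : Subgroup G, (∀ p, φ (vel p) ∈ H) → ι (swap 2 5) ∈ H → i1 φ ι (swap 2 3) ∈ H →
        X' φ ≤ H := by
  classical
  set x := ι (swap 2 5) with hxdef
  set y := i1 φ ι (swap 2 3) with hydef
  set w := i2 φ ι (swap 0 5) with hwdef
  set T := φ Tau with hTdef
  have hxm : x ∈ X' φ := by
    rw [mem_X', ← v_01 h6, ← v_34 h6]
    exact ⟨(commute_of_eq (show (swap (2 : Fin 6) 5) * (swap 0 1) = (swap 0 1) * (swap (2 : Fin 6) 5) by decide +kernel)).map ι,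
      (comm_S78 h6 _).symm,
      (commute_of_eq (show (swap (2 : Fin 6) 5) * (swap 3 4) = (swap 3 4) * (swap (2 : Fin 6) 5) by decide +kernel)).map ι⟩
  have hym : y ∈ X' φ := by
    rw [mem_X', ← w1_45 h6, ← w1_01 h6]
    exact ⟨(comm1_D1 h6 _).symm,
      (commute_of_eq (show (swap (2 : Fin 6) 3) * (swap 4 5) = (swap 4 5) * (swap (2 : Fin 6) 3) by decide +kernel)).map _,
      (commute_of_eq (show (swap (2 : Fin 6) 3) * (swap 0 1) = (swap 0 1) * (swap (2 : Fin 6) 3) by decide +kernel)).map _⟩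
  have hwm : w ∈ X' φ := by
    rw [mem_X', ← w2_34 h6, ← w2_12 h6]
    exact ⟨(commute_of_eq (show (swap (0 : Fin 6) 5) * (swap 3 4) = (swap 3 4) * (swap (0 : Fin 6) 5) by decide +kernel)).map _,
      (commute_of_eq (show (swap (0 : Fin 6) 5) * (swap 1 2) = (swap 1 2) * (swap (0 : Fin 6) 5) by decide +kernel)).map _,
      (comm2_D2 h6 _).symm⟩
  have hvm : ∀ p, φ (vel p) ∈ X' φ := by
    have hd : ∀ p, vel p * D1 = D1 * vel p ∧ vel p * S78 = S78 * vel p ∧ vel p * D2 = D2 * vel p := by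
      decide +kernel
    exact fun p => mem_X'.2
      ⟨commute_map (hd p).1, commute_map (hd p).2.1, commute_map (hd p).2.2⟩
  let V : Subgroup (X' φ) :=
    { carrier := {g | ∃ p, (g : G) = φ (vel p)}
      one_mem' := ⟨0, by simp [vel]⟩
      mul_mem' := by
        have hd : ∀ p q : Fin 2 × Fin 2 × Fin 2, vel p * vel q = vel (p + q) := by decide +kernel
        rintro g g' ⟨p, hp⟩ ⟨q, hq⟩
        exact ⟨p + q, by rw [Subgroup.coe_mul, hp, hq, ← map_mul, hd]⟩
      inv_mem' := by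
        have hd : ∀ p : Fin 2 × Fin 2 × Fin 2, (vel p)⁻¹ = vel p := by decide +kernel
        rintro g ⟨p, hp⟩
        exact ⟨p, by rw [Subgroup.coe_inv, hp, ← map_inv, hd]⟩ }
  have hVc : Nat.card V = 8 := by
    have hb : Function.Bijective (fun p => (⟨⟨φ (vel p), hvm p⟩, p, rfl⟩ : V)) := by
      refine ⟨fun p q h => ?_, fun v => ?_⟩
      · have h' : vel p = vel q := hF.inj (congrArg (fun v : V => ((v : X' φ) : G)) h)
        clear h
        revert h'
        revert p q
        decide +kernel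
      · obtain ⟨p, hp⟩ := v.2
        exact ⟨p, Subtype.ext (Subtype.ext hp.symm)⟩
    rw [← Nat.card_eq_of_bijective _ hb]
    simp
  haveI : V.Normal := ⟨fun v hv g => by
    obtain ⟨p, hp⟩ := hv
    refine ⟨p, ?_⟩
    obtain ⟨h1, h2, h3⟩ := mem_X'.1 g.2
    have hc : Commute (g : G) (φ (vel p)) := by
      rw [vel, map_mul, map_mul, map_pow, map_pow, map_pow]
      exact ((h1.pow_right _).mul_right (h2.pow_right _)).mul_right (h3.pow_right _)
    push_cast
    rw [hp, hc.eq, mul_inv_cancel_right]⟩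
  have hQ : Nat.card (X' φ ⧸ V) = 6 := by
    have h := Subgroup.card_eq_card_quotient_mul_card_subgroup V
    rw [card_X' hF h6, hVc] at h
    omega
  have hT2 : T⁻¹ = T := by
    rw [hTdef, ← map_inv]
    congr 1
    decide +kernel
  have hTy : T * y * T = w := by
    have := tau_i1 hF h6 (swap 2 3)
    rw [← hTdef, hT2, show t6 * swap 2 3 * t6⁻¹ = swap 0 5 by decide +kernel] at this
    exact this
  have hTx : T * x * T = x := by
    rw [hTdef, ← v_t h6, ← map_mul, ← map_mul]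
    congr 1
    decide +kernel
  have hTv : ∀ p : Fin 2 × Fin 2 × Fin 2, T * φ (vel p) * T = φ (vel (p.2.2, p.2.1, p.1)) := by
    have hd : ∀ p : Fin 2 × Fin 2 × Fin 2, Tau * vel p * Tau = vel (p.2.2, p.2.1, p.1) := by
      decide +kernel
    intro p
    rw [hTdef, ← map_mul, ← map_mul, hd]
  have hCEx : CE φ x := CE_swap hF h6 (by decide)
  have hCEy : CE φ y := CE_swap1 hF h6 (by decide)
  have hTT : T * T = 1 := by
    calc T * T = T * T⁻¹ := by rw [hT2]
      _ = 1 := mul_inv_cancel T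
  have hx_ne : ∀ p, x ≠ w * φ (vel p) := by
    intro p e
    have := eq_one_w hF h6 p (e ▸ hCEx)
    subst this
    rw [show vel 0 = 1 by decide +kernel, map_one, mul_one] at e
    have hc : Commute x (φ C2) := e ▸ (comm2_C2 h6 _).symm
    rw [← v_b h6] at hc
    exact absurd (h6.inj (by rw [map_mul, map_mul]; exact hc.eq :
      ι (swap 2 5 * b6) = ι (b6 * swap 2 5))) (by decide +kernel)
  have hy_ne : ∀ p, y ≠ w * φ (vel p) := by
    intro p e
    have := eq_one_w hF h6 p (e ▸ hCEy)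
    subst this
    rw [show vel 0 = 1 by decide +kernel, map_one, mul_one] at e
    have hc : Commute y (φ C2) := e ▸ (comm2_C2 h6 _).symm
    rw [← w1_a h6] at hc
    exact absurd (i1_inj h6 (by rw [map_mul, map_mul]; exact hc.eq :
      i1 φ ι (swap 2 3 * a6) = i1 φ ι (a6 * swap 2 3))) (by decide +kernel)
  have hxy_ne : ∀ p, x ≠ y * φ (vel p) := by
    intro p e
    refine hx_ne (p.2.2, p.2.1, p.1) ?_
    rw [← hTx, e, ← hTy, ← hTv]
    calc T * (y * φ (vel p)) * T = T * y * (T * T) * φ (vel p) * T := by rw [hTT]; group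
      _ = _ := by group
  have hx_nv : ∀ p, x ≠ φ (vel p) := by
    rintro ⟨i, j, k⟩ e
    have hc : Commute (φ (vel (i, j, k))) (φ C3) := e ▸ h6.comm _
    have hj : j = 0 := by
      have h := hF.inj (by rw [map_mul, map_mul]; exact hc.eq :
        φ (vel (i, j, k) * C3) = φ (C3 * vel (i, j, k)))
      clear hc e
      revert h
      revert i j k
      decide +kernel
    subst hj
    rw [vel, map_mul, map_mul, map_pow, map_pow, map_pow, Fin.val_zero, pow_zero, mul_one,
      ← v_01 h6, ← v_34 h6, ← map_pow, ← map_pow, ← map_mul] at e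
    have h := h6.inj e
    clear hc e
    revert h
    revert i k
    decide +kernel
  have hw_nv : ∀ p, w ≠ φ (vel p) := by
    rintro ⟨i, j, k⟩ e
    have hc : Commute (φ (vel (i, j, k))) (φ C2) := e ▸ (comm2_C2 h6 _).symm
    have hk : k = 0 := by
      have h := hF.inj (by rw [map_mul, map_mul]; exact hc.eq :
        φ (vel (i, j, k) * C2) = φ (C2 * vel (i, j, k)))
      clear hc e
      revert h
      revert i j k
      decide +kernel
    subst hk
    rw [vel, map_mul, map_mul, map_pow, map_pow, map_pow, Fin.val_zero, pow_zero, mul_one,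
      ← w2_34 h6, ← w2_12 h6, ← map_pow, ← map_pow, ← map_mul] at e
    have h := i2_inj h6 e
    clear hc e
    revert h
    revert i j
    decide +kernel
  have hy_nv : ∀ p, y ≠ φ (vel p) := by
    intro p e
    exact hw_nv _ (by rw [← hTy, e, hTv])
  let X : X' φ := ⟨x, hxm⟩
  let Y : X' φ := ⟨y, hym⟩
  let Z : X' φ := ⟨w, hwm⟩
  have hsq : ∀ (a : X' φ), (a : G) * a = 1 → (QuotientGroup.mk a : X' φ ⧸ V) * QuotientGroup.mk a = 1 := by
    intro a ha
    rw [← QuotientGroup.mk_mul, show a * a = 1 from Subtype.ext ha, QuotientGroup.mk_one]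
  have hne1 : ∀ (a : X' φ), (∀ p, (a : G) ≠ φ (vel p)) → (QuotientGroup.mk a : X' φ ⧸ V) ≠ 1 :=
    fun a ha e => by
      obtain ⟨p, hp⟩ := (QuotientGroup.eq_one_iff a).1 e
      exact ha p hp
  have hne2 : ∀ (a b : X' φ), (∀ p, (b : G) ≠ a * φ (vel p)) →
      (QuotientGroup.mk a : X' φ ⧸ V) ≠ QuotientGroup.mk b :=
    fun a b hab e => by
      obtain ⟨p, hp⟩ := QuotientGroup.eq.1 e
      exact hab p (by rw [← hp]; simp)
  have hxx : x * x = 1 := by
    rw [hxdef, ← map_mul, show swap (2 : Fin 6) 5 * swap 2 5 = 1 by decide +kernel, map_one]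
  have hyy : y * y = 1 := by
    rw [hydef, ← map_mul, show swap (2 : Fin 6) 3 * swap 2 3 = 1 by decide +kernel, map_one]
  have hww : w * w = 1 := by
    rw [hwdef, ← map_mul, show swap (0 : Fin 6) 5 * swap 0 5 = 1 by decide +kernel, map_one]
  obtain ⟨h3, hall⟩ := six_three hQ (hsq X hxx) (hsq Y hyy) (hsq Z hww) (hne1 X hx_nv)
    (hne1 Y hy_nv) (hne1 Z hw_nv) (hne2 Y X hxy_ne).symm (hne2 Z X hx_ne).symm
    (hne2 Z Y hy_ne).symm
  have hxyx : x * y * x = w := by
    obtain ⟨p, hp⟩ := QuotientGroup.eq.1 (show (QuotientGroup.mk Z : X' φ ⧸ V) = QuotientGroup.mk (X * Y * X) by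
      rw [QuotientGroup.mk_mul, QuotientGroup.mk_mul, h3])
    have h' : x * y * x = w * φ (vel p) := by
      rw [← hp]
      simp [X, Y, Z, mul_assoc]
    have hxi : x⁻¹ = x := inv_eq_of_mul_eq_one_right hxx
    have hc : CE φ (x * y * x) := by
      have := hCEy.conj x
      rwa [hxi] at this
    have := eq_one_w hF h6 p (h' ▸ hc)
    subst this
    rw [h', show vel 0 = 1 by decide +kernel, map_one, mul_one]
  refine ⟨?_, fun H hv hx hy g hg => ?_⟩
  · rw [← hxyx]
    calc y = x * x * y * (x * x) := by rw [hxx]; group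
      _ = _ := by group
  · have key : ∀ a : X' φ, (QuotientGroup.mk (⟨g, hg⟩ : X' φ) : X' φ ⧸ V) = QuotientGroup.mk a →
        (a : G) ∈ H → g ∈ H := by
      intro a ha haH
      obtain ⟨p, hp⟩ := QuotientGroup.eq.1 ha.symm
      have : g = a * φ (vel p) := by rw [← hp]; simp
      rw [this]
      exact mul_mem haH (hv p)
    rcases hall (QuotientGroup.mk ⟨g, hg⟩) with e | e | e | e | e | e
    · exact key 1 e (one_mem H)
    · exact key X e hx
    · exact key Y e hy
    · exact key Z e (show w ∈ H from hxyx ▸ mul_mem (mul_mem hx hy) hx)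
    · exact key (X * Y) (by rw [e, QuotientGroup.mk_mul]) (mul_mem hx hy)
    · exact key (Y * X) (by rw [e, QuotientGroup.mk_mul]) (mul_mem hy hx)

theorem commute_ab : Commute (ι (swap 2 3)) (i1 φ ι (swap 2 3)) := by
  set a := ι (swap 2 3) with hadef
  set x := ι (swap 2 5) with hxdef
  set y := i1 φ ι (swap 2 3) with hydef
  set w := i2 φ ι (swap 0 5) with hwdef
  obtain ⟨hy, -⟩ := six_facts hF h6
  rw [← hxdef, ← hydef, ← hwdef] at hy
  set h := φ C2 with hhdef
  have hcw : h * w * h⁻¹ = w := by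
    rw [hwdef, (comm2_C2 h6 _).eq, mul_inv_cancel_right]
  have hcx : h * x * h⁻¹ = a := by
    rw [hhdef, ← v_b h6, hxdef, ← map_inv, ← map_mul, ← map_mul, hadef]
    congr 1
    decide +kernel
  have hcy : h * y * h⁻¹ = i1 φ ι (swap 0 3) := by
    rw [hhdef, ← w1_a h6, hydef, ← map_inv, ← map_mul, ← map_mul]
    congr 1
    decide +kernel
  have haa : a * a = 1 := by
    rw [hadef, ← map_mul, show swap (2 : Fin 6) 3 * swap 2 3 = 1 by decide +kernel, map_one]
  have hz : i1 φ ι (swap 0 3) = a * w * a := by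
    rw [← hcy, hy]
    calc h * (x * w * x) * h⁻¹ = (h * x * h⁻¹) * (h * w * h⁻¹) * (h * x * h⁻¹) := by group
      _ = a * w * a := by rw [hcx, hcw]
  have hq : a * x * a = i1 φ ι (swap 0 2) := by
    rw [hxdef, hadef, ← map_mul, ← map_mul,
      show swap (2 : Fin 6) 3 * swap 2 5 * swap 2 3 = swap 4 5 * swap 3 4 * swap 4 5 by decide +kernel,
      show swap (0 : Fin 6) 2 = swap 1 2 * swap 0 1 * swap 1 2 by decide +kernel,
      map_mul, map_mul, map_mul, map_mul, v_45 h6, v_34 h6, w1_12 h6, w1_01 h6]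
  have hb : a * y * a = y := by
    have h1 : a * (x * w * x) * a = (a * x * a) * (a * w * a) * (a * x * a) := by
      calc a * (x * w * x) * a = a * x * (a * a) * w * (a * a) * x * a := by rw [haa]; group
        _ = _ := by group
    rw [hy] at hydef ⊢
    rw [h1, hq, ← hz, ← map_mul, ← map_mul, hydef]
    congr 1
    decide +kernel
  show a * y = y * a
  calc a * y = a * y * (a * a) := by rw [haa, mul_one]
    _ = a * y * a * a := by group
    _ = y * a := by rw [hb]

end Main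

end Cfsg.Agent.S9Chain44Braid
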