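import Cfsg.Agent.Lib.S9Chain44W

/-!
Fusion around a transposition in the degree nine recognition: block transpositions commute,
the Sylow three subgroup of the centraliser of a transposition, and the conjugates of a transposition.
-/

set_option autoImplicit false

namespace Cfsg.Agent.S9Chain44Fus

open Equiv Cfsg.Agent.S9Model37 Cfsg.Agent.S9Chain44W

def S12 : W := C1 * D1 * C1⁻¹
def S45 : W := C2 * D2 * C2⁻¹
def S78 : W := C3 * D3 * C3⁻¹
def TauAC : W := Rot ^ 2 * Tau * (Rot ^ 2)⁻¹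
def TauBC : W := Rot * Tau * Rot⁻¹

variable {G : Type*} [Group G] {J : Subgroup G} {φ : W →* G} {ι : P6 →* G}

/-- The copy of `Perm (Fin 6)` on the last two blocks. -/
def i1 (φ : W →* G) (ι : P6 →* G) : P6 →* G := (MulAut.conj (φ Rot)).toMonoidHom.comp ι

/-- The copy of `Perm (Fin 6)` on the third and first blocks. -/
def i2 (φ : W →* G) (ι : P6 →* G) : P6 →* G := (MulAut.conj (φ (Rot ^ 2))).toMonoidHom.comp ι

theorem i1_apply (σ : P6) : i1 φ ι σ = φ Rot * ι σ * (φ Rot)⁻¹ := rfl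

theorem i2_apply (σ : P6) : i2 φ ι σ = φ (Rot ^ 2) * ι σ * (φ (Rot ^ 2))⁻¹ := rfl

theorem i1_eq {σ : P6} {u v : W} (h : ι σ = φ u) (hv : Rot * u * Rot⁻¹ = v) :
    i1 φ ι σ = φ v := by
  rw [i1_apply, h, ← hv, map_mul, map_mul, map_inv]

theorem i2_eq {σ : P6} {u v : W} (h : ι σ = φ u) (hv : Rot ^ 2 * u * (Rot ^ 2)⁻¹ = v) :
    i2 φ ι σ = φ v := by
  rw [i2_apply, h, ← hv, map_mul, map_mul, map_inv]

theorem i1_inj (h6 : Six φ ι) : Function.Injective (i1 φ ι) :=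
  (MulAut.conj (φ Rot)).injective.comp h6.inj

theorem i2_inj (h6 : Six φ ι) : Function.Injective (i2 φ ι) :=
  (MulAut.conj (φ (Rot ^ 2))).injective.comp h6.inj

theorem commute_map {u v : W} (h : u * v = v * u) : Commute (φ u) (φ v) :=
  (show Commute u v from h).map φ

section Values

variable (h6 : Six φ ι)
include h6

theorem v_01 : ι (swap 0 1) = φ D1 := h6.map_d1

theorem v_34 : ι (swap 3 4) = φ D2 := h6.map_d2

theorem v_a : ι a6 = φ C1 := h6.map_c1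

theorem v_b : ι b6 = φ C2 := h6.map_c2

theorem v_t : ι t6 = φ Tau := h6.map_tau

theorem v_12 : ι (swap 1 2) = φ S12 := by
  rw [show swap 1 2 = a6 * swap 0 1 * a6⁻¹ by decide +kernel, map_mul, map_mul, map_inv,
    v_a h6, v_01 h6, S12, map_mul, map_mul, map_inv]

theorem v_45 : ι (swap 4 5) = φ S45 := by
  rw [show swap 4 5 = b6 * swap 3 4 * b6⁻¹ by decide +kernel, map_mul, map_mul, map_inv,
    v_b h6, v_34 h6, S45, map_mul, map_mul, map_inv]

theorem w1_01 : i1 φ ι (swap 0 1) = φ D2 := i1_eq (v_01 h6) (by decide +kernel)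

theorem w1_12 : i1 φ ι (swap 1 2) = φ S45 := i1_eq (v_12 h6) (by decide +kernel)

theorem w1_34 : i1 φ ι (swap 3 4) = φ D3 := i1_eq (v_34 h6) (by decide +kernel)

theorem w1_45 : i1 φ ι (swap 4 5) = φ S78 := i1_eq (v_45 h6) (by decide +kernel)

theorem w1_a : i1 φ ι a6 = φ C2 := i1_eq (v_a h6) (by decide +kernel)

theorem w1_b : i1 φ ι b6 = φ C3 := i1_eq (v_b h6) (by decide +kernel)

theorem w2_01 : i2 φ ι (swap 0 1) = φ D3 := i2_eq (v_01 h6) (by decide +kernel)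

theorem w2_12 : i2 φ ι (swap 1 2) = φ S78 := i2_eq (v_12 h6) (by decide +kernel)

theorem w2_34 : i2 φ ι (swap 3 4) = φ D1 := i2_eq (v_34 h6) (by decide +kernel)

theorem w2_45 : i2 φ ι (swap 4 5) = φ S12 := i2_eq (v_45 h6) (by decide +kernel)

theorem w2_a : i2 φ ι a6 = φ C3 := i2_eq (v_a h6) (by decide +kernel)

theorem w2_b : i2 φ ι b6 = φ C1 := i2_eq (v_b h6) (by decide +kernel)

theorem w2_t : i2 φ ι t6 = φ TauAC := i2_eq (v_t h6) (by decide +kernel)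

end Values

theorem pow_three_C : (φ C1) ^ 3 = 1 ∧ (φ C2) ^ 3 = 1 ∧ (φ C3) ^ 3 = 1 := by
  refine ⟨?_, ?_, ?_⟩ <;> rw [← map_pow, ← map_one φ] <;> congr 1 <;> decide +kernel

theorem zpow_three {x : G} (h : x ^ 3 = 1) (k : ℤ) : ∃ i : Fin 3, x ^ k = x ^ (i : ℕ) := by
  refine ⟨⟨(k % 3).toNat, by omega⟩, ?_⟩
  rw [← zpow_natCast, zpow_eq_zpow_emod' k h]
  congr 1
  show k % ((3 : ℕ) : ℤ) = ((k % 3).toNat : ℤ)
  rw [Int.toNat_of_nonneg (Int.emod_nonneg k (by norm_num))]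
  rfl

section Cent

variable (h6 : Six φ ι)
include h6

theorem cent3 {g : G} (hg : Commute g (φ C3)) : ∃ (k : ℤ) (σ : P6), g = φ C3 ^ k * ι σ := by
  let S : Subgroup G :=
    { carrier := {g | ∃ (k : ℤ) (σ : P6), g = φ C3 ^ k * ι σ}
      one_mem' := ⟨0, 1, by simp⟩
      mul_mem' := by
        rintro _ _ ⟨k, σ, rfl⟩ ⟨l, τ, rfl⟩
        refine ⟨k + l, σ * τ, ?_⟩
        rw [zpow_add, map_mul, mul_assoc, mul_assoc, ← mul_assoc (ι σ),
          ((h6.comm σ).zpow_right l).eq]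
        simp only [mul_assoc]
      inv_mem' := by
        rintro _ ⟨k, σ, rfl⟩
        refine ⟨-k, σ⁻¹, ?_⟩
        rw [mul_inv_rev, zpow_neg, map_inv, ((h6.comm σ).zpow_right k).inv_inv.eq] }
  have hle : Subgroup.zpowers (φ C3) ⊔ ι.range ≤ S := by
    refine sup_le (Subgroup.zpowers_le.2 ⟨1, 1, by simp⟩) ?_
    rintro _ ⟨σ, rfl⟩
    exact ⟨0, σ, by simp⟩
  exact hle (h6.cent ▸ Subgroup.mem_centralizer_singleton_iff.2 hg.eq)

theorem coord {k : ℤ} {σ : P6} (h : φ C3 ^ k * ι σ = 1) : φ C3 ^ k = 1 ∧ σ = 1 := by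
  have hs : ι σ = (φ C3 ^ k)⁻¹ := eq_inv_of_mul_eq_one_right h
  have hc : ∀ τ : P6, σ * τ = τ * σ := fun τ => h6.inj (by
    rw [map_mul, map_mul, hs]
    exact (((h6.comm τ).zpow_right k).inv_right).eq.symm)
  have h1 : σ = 1 := center_six σ (hc _) (hc _) (hc _) (hc _)
  rw [h1, map_one, mul_one] at h
  exact ⟨h, h1⟩

theorem cent3_commute (k : ℤ) (σ : P6) : Commute (φ C3 ^ k * ι σ) (φ C3) :=
  ((Commute.refl (φ C3)).zpow_left k).mul_left (h6.comm σ)

theorem conj_cent3 (k : ℤ) (σ τ : P6) :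
    φ C3 ^ k * ι τ * ι σ * (φ C3 ^ k * ι τ)⁻¹ = ι (τ * σ * τ⁻¹) := by
  rw [map_mul, map_mul, map_inv, mul_inv_rev]
  have h : Commute (φ C3 ^ k) (ι τ * ι σ * (ι τ)⁻¹) :=
    ((((h6.comm τ).mul_left (h6.comm σ)).mul_left (h6.comm τ).inv_left).zpow_right k).symm
  calc φ C3 ^ k * ι τ * ι σ * ((ι τ)⁻¹ * (φ C3 ^ k)⁻¹)
      = φ C3 ^ k * (ι τ * ι σ * (ι τ)⁻¹) * (φ C3 ^ k)⁻¹ := by group
    _ = ι τ * ι σ * (ι τ)⁻¹ := by rw [h.eq, mul_inv_cancel_right]

theorem comm_D3 (σ : P6) : Commute (φ D3) (ι σ) := by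
  let h : P6 →* G := (MulAut.conj (φ D3)).toMonoidHom.comp ι
  have hfix : ∀ {τ : P6} {u : W}, ι τ = φ u → D3 * u = u * D3 → h τ = ι τ := by
    intro τ u hu hc
    show φ D3 * ι τ * (φ D3)⁻¹ = ι τ
    rw [hu, (commute_map hc).eq, mul_inv_cancel_right]
  have h01 := hfix (v_01 h6) (by decide +kernel)
  have h12 := hfix (v_12 h6) (by decide +kernel)
  have h34 := hfix (v_34 h6) (by decide +kernel)
  have h45 := hfix (v_45 h6) (by decide +kernel)
  have ht := hfix (v_t h6) (by decide +kernel)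
  have hC : Commute (h (swap 2 3)) (φ C3) := by
    have hinv : (φ D3)⁻¹ * φ C3 * φ D3 = (φ C3)⁻¹ := by
      rw [← map_inv, ← map_inv, ← map_mul, ← map_mul]
      congr 1
      decide +kernel
    have h1 : Commute (ι (swap 2 3)) ((φ D3)⁻¹ * φ C3 * φ D3) := by
      rw [hinv]
      exact (h6.comm _).inv_right
    have h2 := h1.map (MulAut.conj (φ D3)).toMonoidHom
    have h2' : Commute (h (swap 2 3)) (φ D3 * ((φ D3)⁻¹ * φ C3 * φ D3) * (φ D3)⁻¹) := h2
    rwa [show φ D3 * ((φ D3)⁻¹ * φ C3 * φ D3) * (φ D3)⁻¹ = φ C3 by group] at h2'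
  obtain ⟨k, x, hx⟩ := cent3 h6 hC
  have hsq : h (swap 2 3) * h (swap 2 3) = 1 := by
    rw [← map_mul, show (swap (2 : Fin 6) 3 * swap 2 3) = 1 by decide +kernel, map_one]
  rw [hx] at hsq
  have hsq' : φ C3 ^ (k + k) * ι (x * x) = 1 := by
    rw [zpow_add, map_mul, ← hsq]
    have := ((h6.comm x).zpow_right k).eq
    simp only [mul_assoc]
    rw [← mul_assoc (ι x) (φ C3 ^ k), this, mul_assoc]
  obtain ⟨hk2, hxx⟩ := coord h6 hsq'
  have hk : φ C3 ^ k = 1 := by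
    have h3 : φ C3 ^ (3 * k) = 1 := by
      rw [zpow_mul]
      norm_cast
      rw [pow_three_C.2.2, one_zpow]
    rw [show k = 3 * k - (k + k) by ring, zpow_sub, h3, hk2, inv_one, mul_one]
  rw [hk, one_mul] at hx
  have key : x = swap 2 3 := by
    refine block_image x hxx ?_ ?_ ?_ ?_ ?_
    · apply h6.inj
      have := congrArg h (show swap (2 : Fin 6) 3 * swap 0 1 = swap 0 1 * swap 2 3 by decide +kernel)
      rw [map_mul, map_mul, hx, h01, ← map_mul, ← map_mul] at this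
      exact this
    · apply h6.inj
      have := congrArg h (show swap (2 : Fin 6) 3 * swap 4 5 = swap 4 5 * swap 2 3 by decide +kernel)
      rw [map_mul, map_mul, hx, h45, ← map_mul, ← map_mul] at this
      exact this
    · apply h6.inj
      have := congrArg h (show t6 * swap 2 3 * t6 * swap 2 3 = swap 2 3 * (t6 * swap 2 3 * t6) by
        decide +kernel)
      simp only [map_mul, hx, ht] at this
      simp only [map_mul]
      exact this
    · apply h6.inj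
      have := congrArg h (show (swap (2 : Fin 6) 3 * swap 1 2) ^ 3 = 1 by decide +kernel)
      rw [map_pow, map_mul, hx, h12, ← map_mul, ← map_pow, map_one] at this
      rw [this, map_one]
    · apply h6.inj
      have := congrArg h (show (swap (2 : Fin 6) 3 * swap 3 4) ^ 3 = 1 by decide +kernel)
      rw [map_pow, map_mul, hx, h34, ← map_mul, ← map_pow, map_one] at this
      rw [this, map_one]
  rw [key] at hx
  have heq : h = ι := by
    refine MonoidHom.eq_of_eqOn_dense closure_swaps ?_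
    intro τ hτ
    simp only [Set.mem_insert_iff, Set.mem_singleton_iff] at hτ
    rcases hτ with rfl | rfl | rfl | rfl | rfl <;> assumption
  have := DFunLike.congr_fun heq σ
  exact mul_inv_eq_iff_eq_mul.1 this

theorem comm_S78 (σ : P6) : Commute (φ S78) (ι σ) := by
  rw [S78, map_mul, map_mul, map_inv]
  exact (((h6.comm σ).symm).mul_left (comm_D3 h6 σ)).mul_left (h6.comm σ).symm.inv_left

theorem comm1_of {u v : W} (h : ∀ σ, Commute (φ u) (ι σ)) (hv : Rot * u * Rot⁻¹ = v) (σ : P6) :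
    Commute (φ v) (i1 φ ι σ) := by
  rw [← hv, map_mul, map_mul, map_inv, i1_apply]
  exact (h σ).map (MulAut.conj (φ Rot)).toMonoidHom

theorem comm2_of {u v : W} (h : ∀ σ, Commute (φ u) (ι σ))
    (hv : Rot ^ 2 * u * (Rot ^ 2)⁻¹ = v) (σ : P6) : Commute (φ v) (i2 φ ι σ) := by
  rw [← hv, map_mul, map_mul, map_inv, i2_apply]
  exact (h σ).map (MulAut.conj (φ (Rot ^ 2))).toMonoidHom

theorem comm1_D1 (σ : P6) : Commute (φ D1) (i1 φ ι σ) :=
  comm1_of h6 (comm_D3 h6) (by decide +kernel) σ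

theorem comm1_S12 (σ : P6) : Commute (φ S12) (i1 φ ι σ) :=
  comm1_of h6 (comm_S78 h6) (by decide +kernel) σ

theorem comm2_D2 (σ : P6) : Commute (φ D2) (i2 φ ι σ) :=
  comm2_of h6 (comm_D3 h6) (by decide +kernel) σ

theorem comm2_S45 (σ : P6) : Commute (φ S45) (i2 φ ι σ) :=
  comm2_of h6 (comm_S78 h6) (by decide +kernel) σ

theorem comm2_C2 (σ : P6) : Commute (φ C2) (i2 φ ι σ) :=
  comm2_of h6 (fun τ => (h6.comm τ).symm) (by decide +kernel) σ

theorem cent2 {g : G} (hg : Commute g (φ C2)) :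
    ∃ (k : ℤ) (σ : P6), g = φ C2 ^ k * i2 φ ι σ := by
  have hw : Rot ^ 2 * C3 * (Rot ^ 2)⁻¹ = C2 := by decide +kernel
  have hc := congrArg (fun v => φ v) hw
  simp only [map_mul, map_inv] at hc
  obtain ⟨r, hr⟩ : ∃ r, φ (Rot ^ 2) = r := ⟨_, rfl⟩
  rw [hr] at hc
  have h1 : Commute (r⁻¹ * g * r) (φ C3) := by
    have := hg.map (MulAut.conj r⁻¹).toMonoidHom
    simpa [← hc, mul_assoc] using this
  obtain ⟨k, σ, hk⟩ := cent3 h6 h1
  refine ⟨k, σ, ?_⟩
  rw [← hc, conj_zpow, i2_apply, hr]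
  calc g = r * (r⁻¹ * g * r) * r⁻¹ := by group
    _ = _ := by rw [hk]; group

end Cent

section Full

variable (hF : Full J φ)
include hF

theorem C_mem : φ C1 ∈ J ∧ φ C2 ∈ J ∧ φ C3 ∈ J := by
  rw [hF.base]
  exact ⟨Subgroup.subset_closure (by simp), Subgroup.subset_closure (by simp),
    Subgroup.subset_closure (by simp)⟩

theorem base_mem (i j k : ℕ) : φ (C1 ^ i * C2 ^ j * C3 ^ k) ∈ J := by
  rw [map_mul, map_mul, map_pow, map_pow, map_pow]
  exact mul_mem (mul_mem (pow_mem (C_mem hF).1 i) (pow_mem (C_mem hF).2.1 j))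
    (pow_mem (C_mem hF).2.2 k)

theorem J_comm {a b : G} (ha : a ∈ J) (hb : b ∈ J) : Commute a b := by
  rw [← hF.cJ, Subgroup.mem_centralizer_iff] at ha
  exact (ha b hb).symm

theorem J_cube {a : G} (ha : a ∈ J) : a ^ 3 = 1 := by
  have ha' := ha
  rw [hF.base] at ha'
  induction ha' using Subgroup.closure_induction with
  | mem x hx =>
    rcases hx with rfl | rfl | rfl
    exacts [pow_three_C.1, pow_three_C.2.1, pow_three_C.2.2]
  | one => simp
  | mul x y hx' hy' hx hy =>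
    rw [← hF.base] at hx' hy'
    rw [(J_comm hF hx' hy').mul_pow, hx hx', hy hy', one_mul]
  | inv x hx' hx =>
    rw [← hF.base] at hx'
    rw [inv_pow, hx hx', inv_one]

theorem range_iff {g : G} : (∃ w, φ w = g) ↔ g ∈ Subgroup.normalizer (J : Set G) := by
  rw [← hF.range_eq, MonoidHom.mem_range]

theorem conj_mem {g : G} (hg : ∃ w, φ w = g) {j : G} (hj : j ∈ J) : g * j * g⁻¹ ∈ J :=
  (Subgroup.mem_normalizer_iff.1 ((range_iff hF).1 hg) j).1 hj

theorem range_of_conj {u : W} (h : ∀ g, Commute g (φ u) → ∃ w, φ w = g) (v : W) {g : G}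
    (hg : Commute g (φ (v * u * v⁻¹))) : ∃ w, φ w = g := by
  have h1 : Commute ((φ v)⁻¹ * g * φ v) (φ u) := by
    have := hg.map (MulAut.conj (φ v)⁻¹).toMonoidHom
    simpa [map_mul, map_inv, mul_assoc] using this
  obtain ⟨w, hw⟩ := h _ h1
  refine ⟨v * w * v⁻¹, ?_⟩
  rw [map_mul, map_mul, hw, map_inv]
  group

theorem range_cw {g : G} (hg : Commute g (φ (C1 * C2))) : ∃ w, φ w = g :=
  (range_iff hF).2 (hF.cw (Subgroup.mem_centralizer_singleton_iff.2 hg.eq))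

theorem range_cx {g : G} (hg : Commute g (φ (C1 * C2 * C3))) : ∃ w, φ w = g :=
  (range_iff hF).2 (hF.cx (Subgroup.mem_centralizer_singleton_iff.2 hg.eq))

theorem range_c23 {g : G} (hg : Commute g (φ (C2 * C3))) : ∃ w, φ w = g :=
  range_of_conj hF (fun _ => range_cw hF) Rot
    (by rwa [show Rot * (C1 * C2) * Rot⁻¹ = C2 * C3 by decide +kernel])

theorem range_c13 {g : G} (hg : Commute g (φ (C1 * C3))) : ∃ w, φ w = g :=
  range_of_conj hF (fun _ => range_cw hF) (Rot ^ 2)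
    (by rwa [show Rot ^ 2 * (C1 * C2) * (Rot ^ 2)⁻¹ = C1 * C3 by decide +kernel])

end Full

theorem mem_normalizer_of_le {H : Subgroup G} [Finite G] {g : G}
    (h : ∀ x ∈ H, g * x * g⁻¹ ∈ H) : g ∈ Subgroup.normalizer (H : Set G) := by
  have hle : H.map (MulAut.conj g).toMonoidHom ≤ H := by
    rintro _ ⟨x, hx, rfl⟩
    exact h x hx
  have heq : H.map (MulAut.conj g).toMonoidHom = H := Subgroup.eq_of_le_of_card_ge hle
    (le_of_eq (Subgroup.card_map_of_injective (MulAut.conj g).injective).symm)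
  refine Subgroup.mem_normalizer_iff.2 fun x => ⟨h x, fun hx => ?_⟩
  rw [← heq] at hx
  obtain ⟨y, hy, hyx⟩ := hx
  exact (MulAut.conj g).injective hyx ▸ hy

theorem exists_conj_mem [Finite G] (P H : Subgroup G) (hP : P ≤ H) (hp : IsPGroup 3 P)
    (hmax : ∀ g ∈ H, (∃ k : ℕ, g ^ 3 ^ k = 1) → g ∈ Subgroup.normalizer (P : Set G) → g ∈ P)
    {q : G} (hq : q ∈ H) (hq3 : q ^ 3 = 1) : ∃ h ∈ H, h * q * h⁻¹ ∈ P := by
  haveI : Fact (Nat.Prime 3) := ⟨Nat.prime_three⟩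
  have hp' : IsPGroup 3 (P.subgroupOf H) := hp.of_equiv (Subgroup.subgroupOfEquivOfLe hP).symm
  obtain ⟨R, hR⟩ := hp'.exists_le_sylow
  have hRP : (R : Subgroup H) = P.subgroupOf H := by
    refine le_antisymm ?_ hR
    by_contra hne
    have hlt : (P.subgroupOf H).subgroupOf (R : Subgroup H) < ⊤ := by
      refine lt_of_le_of_ne le_top fun e => hne ?_
      rwa [Subgroup.subgroupOf_eq_top] at e
    haveI : Group.IsNilpotent (R : Subgroup H) := R.2.isNilpotent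
    have hgrow := Group.normalizerCondition_of_isNilpotent _ hlt
    obtain ⟨r, hr, hrP⟩ := SetLike.exists_of_lt hgrow
    obtain ⟨k, hk⟩ := R.2 r
    refine hrP ?_
    show ((r : H) : G) ∈ P
    refine hmax _ (r : H).2 ⟨k, by simpa using congrArg (fun z : (R : Subgroup H) => ((z : H) : G)) hk⟩
      (mem_normalizer_of_le fun x hx => ?_)
    have hxR : (⟨x, hP hx⟩ : H) ∈ (R : Subgroup H) := hR hx
    exact (Subgroup.mem_normalizer_iff.1 hr ⟨⟨x, hP hx⟩, hxR⟩).1 hx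
  have hz : IsPGroup 3 (Subgroup.zpowers (⟨q, hq⟩ : H)) := by
    rintro ⟨z, hz⟩
    obtain ⟨n, rfl⟩ := Subgroup.mem_zpowers_iff.1 hz
    refine ⟨1, Subtype.ext (Subtype.ext ?_)⟩
    show (q ^ n) ^ (3 ^ 1) = 1
    rw [pow_one, ← zpow_natCast, ← zpow_mul, mul_comm, zpow_mul, zpow_natCast, hq3, one_zpow]
  obtain ⟨S, hS⟩ := hz.exists_le_sylow
  obtain ⟨h, hh⟩ := MulAction.exists_smul_eq H S R
  refine ⟨(h : G), h.2, ?_⟩
  have hmem : MulAut.conj h ⟨q, hq⟩ ∈ ((h • S : Sylow 3 H) : Subgroup H) := by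
    rw [Sylow.coe_subgroup_smul]
    exact Subgroup.smul_mem_pointwise_smul _ _ _ (hS (Subgroup.mem_zpowers _))
  rw [hh, hRP] at hmem
  exact hmem

/-- The Sylow three subgroup of the centraliser of a transposition. -/
def P23 (φ : W →* G) : Subgroup G where
  carrier := {g | ∃ i j : Fin 3, g = φ (C2 ^ (i : ℕ) * C3 ^ (j : ℕ))}
  one_mem' := ⟨0, 0, by simp⟩
  mul_mem' := by
    have hmul : ∀ i j i' j' : Fin 3, C2 ^ (i : ℕ) * C3 ^ (j : ℕ) * (C2 ^ (i' : ℕ) * C3 ^ (j' : ℕ)) =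
        C2 ^ ((i + i' : Fin 3) : ℕ) * C3 ^ ((j + j' : Fin 3) : ℕ) := by decide +kernel
    rintro _ _ ⟨i, j, rfl⟩ ⟨i', j', rfl⟩
    exact ⟨i + i', j + j', by rw [← map_mul, hmul]⟩
  inv_mem' := by
    have hinv : ∀ i j : Fin 3, (C2 ^ (i : ℕ) * C3 ^ (j : ℕ))⁻¹ =
        C2 ^ ((-i : Fin 3) : ℕ) * C3 ^ ((-j : Fin 3) : ℕ) := by decide +kernel
    rintro _ ⟨i, j, rfl⟩
    exact ⟨-i, -j, by rw [← map_inv, hinv]⟩

theorem weight_aux : ∀ i j : Fin 3, (i = 0 ∧ j = 0) ∨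
    ∃ n ∈ ([1, D3, TauBC, TauBC * D2, D2, D2 * D3] : List W), n * D1 = D1 * n ∧
      (n * (C2 ^ (i : ℕ) * C3 ^ (j : ℕ)) * n⁻¹ = C3 ∨
        n * (C2 ^ (i : ℕ) * C3 ^ (j : ℕ)) * n⁻¹ = C2 * C3) := by
  decide +kernel

theorem x_comm_rot : (C1 * C2 * C3) * Rot = Rot * (C1 * C2 * C3) := by decide +kernel

/-- Conjugate to the transposition `φ D1`. -/
def CE (φ : W →* G) (x : G) : Prop := ∃ g, g * x * g⁻¹ = φ D1

theorem CE.conj {x : G} (h : CE φ x) (a : G) : CE φ (a * x * a⁻¹) := by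
  obtain ⟨g, hg⟩ := h
  exact ⟨g * a⁻¹, by rw [← hg]; group⟩

theorem CE.of_conj {x : G} (a : G) (h : CE φ (a * x * a⁻¹)) : CE φ x := by
  have := h.conj a⁻¹
  convert this using 1
  group

section Fusion

variable [Finite G] (hF : Full J φ) (h6 : Six φ ι)
include hF h6

theorem classify {q : G} (hq : Commute q (φ D1)) (hq3 : q ^ 3 = 1) (hne : q ≠ 1) :
    (∃ h, Commute h (φ D1) ∧ h * q * h⁻¹ = φ C3) ∨
      ∃ h, Commute h (φ D1) ∧ h * q * h⁻¹ = φ (C2 * C3) := by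
  have hPH : P23 φ ≤ Subgroup.centralizer ({φ D1} : Set G) := by
    have hd : ∀ i j : Fin 3, C2 ^ (i : ℕ) * C3 ^ (j : ℕ) * D1 = D1 * (C2 ^ (i : ℕ) * C3 ^ (j : ℕ)) := by
      decide +kernel
    rintro _ ⟨i, j, rfl⟩
    exact Subgroup.mem_centralizer_singleton_iff.2 (commute_map (hd i j)).eq
  have hp : IsPGroup 3 (P23 φ) := by
    have hc : ∀ i j : Fin 3, (C2 ^ (i : ℕ) * C3 ^ (j : ℕ)) ^ 3 = 1 := by decide +kernel
    rintro ⟨_, i, j, rfl⟩
    refine ⟨1, Subtype.ext ?_⟩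
    show φ _ ^ (3 ^ 1) = 1
    rw [pow_one, ← map_pow, hc, map_one]
  have hsub : P23 φ ≤ J := by
    rintro _ ⟨i, j, rfl⟩
    simpa using base_mem hF 0 i j
  have hmax : ∀ g ∈ Subgroup.centralizer ({φ D1} : Set G), (∃ k : ℕ, g ^ 3 ^ k = 1) →
      g ∈ Subgroup.normalizer (P23 φ : Set G) → g ∈ P23 φ := by
    intro g hg ⟨k, hk⟩ hn
    have hnorm : ∀ j ∈ J, g * j * g⁻¹ ∈ J := by
      intro j hj
      have hcm : ∀ u : W, φ u ∈ P23 φ → Commute (g * j * g⁻¹) (φ u) := by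
        intro u hu
        have h1 : g⁻¹ * φ u * g ∈ P23 φ := by
          simpa using (Subgroup.mem_normalizer_iff.1 (inv_mem hn) _).1 hu
        have h2 := (J_comm hF hj (hsub h1)).map (MulAut.conj g).toMonoidHom
        simpa [mul_assoc] using h2
      obtain ⟨l, σ, hl⟩ := cent3 h6 (hcm C3 ⟨0, 1, by simp⟩)
      have h3 : (g * j * g⁻¹) ^ 3 = 1 := by
        rw [conj_pow, J_cube hF hj, mul_one, mul_inv_cancel]
      rw [hl, (((h6.comm σ).zpow_right l).symm).mul_pow, ← zpow_natCast (φ C3 ^ l), ← zpow_mul,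
        ← map_pow] at h3
      have hs3 := (coord h6 h3).2
      have hb : σ * b6 = b6 * σ := by
        apply h6.inj
        have h4 := hcm C2 ⟨1, 0, by simp⟩
        rw [hl] at h4
        have h5 : Commute (φ C3 ^ l) (φ C2) := (commute_map (by decide +kernel)).zpow_left l
        rw [map_mul, map_mul, v_b h6]
        have h6' := h5.inv_left.mul_left h4
        rw [inv_mul_cancel_left] at h6'
        exact h6'.eq
      obtain ⟨a, b, hab⟩ := cent_b6 σ hs3 hb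
      rw [hl, hab, map_mul, map_pow, map_pow, v_a h6, v_b h6]
      exact mul_mem (zpow_mem (C_mem hF).2.2 l)
        (mul_mem (pow_mem (C_mem hF).1 _) (pow_mem (C_mem hF).2.1 _))
    obtain ⟨w, rfl⟩ := (range_iff hF).2 (mem_normalizer_of_le hnorm)
    obtain ⟨i, j, hij⟩ := cent_d1 (w := w) (k := k)
      (hF.inj (by simpa using Subgroup.mem_centralizer_singleton_iff.1 hg))
      (hF.inj (by simpa using hk))
    exact ⟨i, j, by rw [hij]⟩
  obtain ⟨h, hh, hm⟩ := exists_conj_mem (P23 φ) _ hPH hp hmax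
    (Subgroup.mem_centralizer_singleton_iff.2 hq.eq) hq3
  obtain ⟨i, j, hij⟩ := hm
  have hh' : Commute h (φ D1) := Subgroup.mem_centralizer_singleton_iff.1 hh
  rcases weight_aux i j with ⟨rfl, rfl⟩ | ⟨n, -, hn, hw⟩
  · refine absurd ?_ hne
    have : h * q * h⁻¹ = 1 := by rw [hij]; simp
    exact conj_eq_one_iff.1 this
  · have hcn : Commute (φ n * h) (φ D1) := (commute_map hn).mul_left hh'
    have heq : φ n * h * q * (φ n * h)⁻¹ = φ (n * (C2 ^ (i : ℕ) * C3 ^ (j : ℕ)) * n⁻¹) := by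
      rw [map_mul, map_mul φ n, map_inv, ← hij]
      group
    rcases hw with hw | hw <;> rw [hw] at heq
    exacts [Or.inl ⟨_, hcn, heq⟩, Or.inr ⟨_, hcn, heq⟩]

theorem not_conj_weight (g : G) : g * φ C3 * g⁻¹ ≠ φ (C2 * C3) := by
  intro hg
  let s : P6 := swap 0 1 * swap 1 2 * swap 2 3 * swap 3 4
  have hc : Commute (g * ι s * g⁻¹) (φ (C2 * C3)) := by
    rw [← hg]
    exact (h6.comm s).map (MulAut.conj g).toMonoidHom
  obtain ⟨w, hw⟩ := range_c23 hF hc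
  have h5 : w ^ 5 = 1 := hF.inj (by
    rw [map_pow, hw, conj_pow, ← map_pow, show s ^ 5 = 1 by decide +kernel, map_one, map_one]
    group)
  rw [eq_one_of_pow (Or.inl rfl) h5, map_one] at hw
  have : s = 1 := h6.inj (by rw [map_one]; exact conj_eq_one_iff.1 hw.symm)
  exact absurd this (by decide +kernel)

theorem rot_key {g t : G} (hg : g * φ Rot * g⁻¹ = t)
    (hex : ∀ y, Commute y t → y ^ 3 = 1 →
      ∃ h, ∀ j ∈ J, Commute (h * j * h⁻¹) t ∧ Commute (h * j * h⁻¹) y) : False := by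
  subst hg
  set x := φ (C1 * C2 * C3)
  have hy : Commute (g * x * g⁻¹) (g * φ Rot * g⁻¹) :=
    (commute_map x_comm_rot).map (MulAut.conj g).toMonoidHom
  have hy3 : (g * x * g⁻¹) ^ 3 = 1 := by
    rw [conj_pow, ← map_pow, show (C1 * C2 * C3) ^ 3 = 1 by decide +kernel, map_one, mul_one,
      mul_inv_cancel]
  obtain ⟨h, hh⟩ := hex _ hy hy3
  have hz : ∀ p : Fin 3 × Fin 3 × Fin 3, ∃ q : Fin 3 × Fin 3,
      φ (Rot ^ (q.1 : ℕ) * (C1 * C2 * C3) ^ (q.2 : ℕ)) =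
        g⁻¹ * (h * φ (C1 ^ (p.1 : ℕ) * C2 ^ (p.2.1 : ℕ) * C3 ^ (p.2.2 : ℕ)) * h⁻¹) * g := by
    intro p
    obtain ⟨hr, hx⟩ := hh _ (base_mem hF p.1 p.2.1 p.2.2)
    set z := h * φ (C1 ^ (p.1 : ℕ) * C2 ^ (p.2.1 : ℕ) * C3 ^ (p.2.2 : ℕ)) * h⁻¹
    have hr' : Commute (g⁻¹ * z * g) (φ Rot) := by
      have := hr.map (MulAut.conj g⁻¹).toMonoidHom
      simpa [mul_assoc] using this
    have hx' : Commute (g⁻¹ * z * g) x := by
      have := hx.map (MulAut.conj g⁻¹).toMonoidHom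
      simpa [mul_assoc] using this
    obtain ⟨u, hu⟩ := range_cx hF hx'
    rw [← hu] at hr' hx'
    obtain ⟨i, j, hij⟩ := cent_rot (w := u) (hF.inj (by simpa using hr'.eq))
      (hF.inj (by rw [map_mul, map_mul φ (C1 * C2 * C3)]; exact hx'.eq))
    exact ⟨(i, j), by rw [← hij, hu]⟩
  choose F hFp using hz
  have hinj : Function.Injective F := by
    rintro ⟨i, j, k⟩ ⟨i', j', k'⟩ he
    have h1 := hFp (i, j, k)
    rw [he, hFp (i', j', k')] at h1
    simp only [mul_left_inj, mul_right_inj] at h1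
    exact base_inj i j k i' j' k' (hF.inj h1).symm
  have := Fintype.card_le_of_injective F hinj
  simp at this

theorem rot_not_cent (g : G) : ¬ Commute (g * φ Rot * g⁻¹) (φ D1) := by
  intro hc
  have h3 : (g * φ Rot * g⁻¹) ^ 3 = 1 := by
    rw [conj_pow, ← map_pow, show Rot ^ 3 = 1 by decide +kernel, map_one, mul_one, mul_inv_cancel]
  have hne : g * φ Rot * g⁻¹ ≠ 1 := fun h => by
    have : Rot = 1 := hF.inj (by rw [conj_eq_one_iff.1 h, map_one])
    exact absurd this (by decide +kernel)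
  rcases classify hF h6 hc h3 hne with ⟨h, -, hh⟩ | ⟨h, -, hh⟩
  · refine rot_key hF h6 (g := h * g) (t := φ C3) (by rw [← hh]; group) fun y hy hy3 => ?_
    obtain ⟨l, σ, rfl⟩ := cent3 h6 hy
    rw [(((h6.comm σ).zpow_right l).symm).mul_pow, ← zpow_natCast (φ C3 ^ l), ← zpow_mul,
      ← map_pow] at hy3
    obtain ⟨i, j, τ, hτ⟩ := three_conj σ (coord h6 hy3).2
    refine ⟨ι τ⁻¹, fun z hz => ⟨?_, ?_⟩⟩
    · have h1 : Commute z (φ C3) := J_comm hF hz (C_mem hF).2.2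
      exact ((h6.comm _).mul_left h1).mul_left (h6.comm _).inv_left
    · have hm : φ C3 ^ l * ι (τ * σ * τ⁻¹) ∈ J := by
        rw [hτ, map_mul, map_pow, map_pow, v_a h6, v_b h6]
        exact mul_mem (zpow_mem (C_mem hF).2.2 l)
          (mul_mem (pow_mem (C_mem hF).1 _) (pow_mem (C_mem hF).2.1 _))
      have h1 := (J_comm hF hz hm).map (MulAut.conj (ι τ⁻¹)).toMonoidHom
      have e : ι τ⁻¹ * (φ C3 ^ l * ι (τ * σ * τ⁻¹)) * (ι τ⁻¹)⁻¹ = φ C3 ^ l * ι σ := by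
        rw [← mul_assoc, ((h6.comm τ⁻¹).zpow_right l).eq, mul_assoc, mul_assoc, ← map_inv,
          ← map_mul, ← map_mul]
        congr 2
        group
      rw [← e]
      exact h1
  · refine rot_key hF h6 (g := h * g) (t := φ (C2 * C3)) (by rw [← hh]; group) fun y hy hy3 => ?_
    obtain ⟨w, rfl⟩ := range_c23 hF hy
    obtain ⟨i, j, k, hw⟩ := cent_c23 (w := w) (hF.inj (by rw [map_mul, map_mul φ (C2 * C3)]; exact hy.eq))
      (hF.inj (by simpa using hy3))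
    refine ⟨1, fun z hz => ?_⟩
    simp only [one_mul, inv_one, mul_one]
    refine ⟨J_comm hF hz ?_, J_comm hF hz ?_⟩
    · simpa using base_mem hF 0 1 1
    · rw [hw]; exact base_mem hF i j k

theorem swap_of_CE {σ : P6} (h : CE φ (ι σ)) : ∃ τ : P6, τ * σ * τ⁻¹ = swap 0 1 := by
  obtain ⟨g, hg⟩ := h
  have hc : Commute (g * φ C3 * g⁻¹) (φ D1) := by
    rw [← hg]
    exact (h6.comm σ).symm.map (MulAut.conj g).toMonoidHom
  have h3 : (g * φ C3 * g⁻¹) ^ 3 = 1 := by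
    rw [conj_pow, pow_three_C.2.2, mul_one, mul_inv_cancel]
  have hne : g * φ C3 * g⁻¹ ≠ 1 := fun e => by
    have : C3 = 1 := hF.inj (by rw [conj_eq_one_iff.1 e, map_one])
    exact absurd this (by decide +kernel)
  rcases classify hF h6 hc h3 hne with ⟨k, hk, hk'⟩ | ⟨k, -, hk'⟩
  swap
  · exact absurd (by rw [← hk']; group) (not_conj_weight hF h6 (k * g))
  have hcc : Commute (k * g) (φ C3) := by
    show k * g * φ C3 = φ C3 * (k * g)
    conv_rhs => rw [← hk']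
    group
  obtain ⟨l, τ, hτ⟩ := cent3 h6 hcc
  refine ⟨τ, h6.inj ?_⟩
  rw [← conj_cent3 h6 l σ τ, ← hτ, v_01 h6]
  calc k * g * ι σ * (k * g)⁻¹ = k * (g * ι σ * g⁻¹) * k⁻¹ := by group
    _ = _ := by rw [hg, hk.eq, mul_inv_cancel_right]

theorem swap_of_CE1 {σ : P6} (h : CE φ (i1 φ ι σ)) : ∃ τ : P6, τ * σ * τ⁻¹ = swap 0 1 :=
  swap_of_CE hF h6 (CE.of_conj (φ Rot) h)

theorem swap_of_CE2 {σ : P6} (h : CE φ (i2 φ ι σ)) : ∃ τ : P6, τ * σ * τ⁻¹ = swap 0 1 :=
  swap_of_CE hF h6 (CE.of_conj (φ (Rot ^ 2)) h)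

theorem not_CE_D : ¬ CE φ (φ (D1 * D2 * D3)) := by
  rintro ⟨g, hg⟩
  apply rot_not_cent hF h6 g
  rw [← hg]
  exact (commute_map (by decide +kernel)).map (MulAut.conj g).toMonoidHom

theorem not_CE_Q : ¬ CE φ (φ (TauAC * D2)) := by
  rintro ⟨g, hg⟩
  have hc : Commute (g * φ (C1 * C3) * g⁻¹) (φ D1) := by
    rw [← hg]
    exact (commute_map (by decide +kernel)).map (MulAut.conj g).toMonoidHom
  have h3 : (g * φ (C1 * C3) * g⁻¹) ^ 3 = 1 := by
    rw [conj_pow, ← map_pow, show (C1 * C3) ^ 3 = 1 by decide +kernel, map_one, mul_one,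
      mul_inv_cancel]
  have hne : g * φ (C1 * C3) * g⁻¹ ≠ 1 := fun e => by
    have : C1 * C3 = 1 := hF.inj (by rw [conj_eq_one_iff.1 e, map_one])
    exact absurd this (by decide +kernel)
  rcases classify hF h6 hc h3 hne with ⟨k, -, hk⟩ | ⟨k, hk, hk'⟩
  · refine not_conj_weight hF h6 (φ Tau * (k * g)⁻¹) ?_
    rw [show C2 * C3 = Tau * (C1 * C3) * Tau⁻¹ by decide +kernel, map_mul φ (Tau * (C1 * C3)),
      map_mul φ Tau, map_inv, ← hk]
    group
  · have hcc : Commute ((φ Tau)⁻¹ * k * g) (φ (C1 * C3)) := by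
      have e : (φ Tau)⁻¹ * φ (C2 * C3) * φ Tau = φ (C1 * C3) := by
        rw [← map_inv, ← map_mul, ← map_mul]
        congr 1
        decide +kernel
      show (φ Tau)⁻¹ * k * g * φ (C1 * C3) = φ (C1 * C3) * ((φ Tau)⁻¹ * k * g)
      conv_rhs => rw [← e, ← hk']
      group
    obtain ⟨w, hw⟩ := range_c13 hF hcc
    have hcon : φ (w * (TauAC * D2) * w⁻¹) = φ (Tau⁻¹ * D1 * Tau) := by
      rw [map_mul, map_mul φ w, map_inv, hw, map_mul φ (Tau⁻¹ * D1), map_mul φ Tau⁻¹, map_inv]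
      calc _ = (φ Tau)⁻¹ * (k * (g * φ (TauAC * D2) * g⁻¹) * k⁻¹) * φ Tau := by group
        _ = _ := by rw [hg, hk.eq, mul_inv_cancel_right]
    have := congrArg (fun v : W => Equiv.Perm.sign (v : P9)) (hF.inj hcon)
    have hs1 : Equiv.Perm.sign ((TauAC * D2 : W) : P9) = 1 := by decide +kernel
    have hs2 : Equiv.Perm.sign ((Tau⁻¹ * D1 * Tau : W) : P9) = -1 := by decide +kernel
    simp only [hs2] at this
    push_cast at this
    rw [map_mul, map_mul, map_inv] at this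
    push_cast at hs1
    rw [hs1, mul_one, mul_inv_cancel] at this
    exact absurd this (by decide)

theorem class_zero {σ : P6} (h : CE φ (i2 φ ι σ)) : ∃ τ : P6, τ * σ * τ⁻¹ = swap 0 1 :=
  swap_of_CE2 hF h6 h

theorem class_one {σ : P6} (hs : σ * σ = 1) (h : CE φ (i2 φ ι σ * φ D2)) : σ = 1 := by
  obtain ⟨τ, hτ⟩ := two_conj σ hs
  have h' : CE φ (i2 φ ι (τ * σ * τ⁻¹) * φ D2) := by
    have := h.conj (i2 φ ι τ)
    convert this using 1
    rw [map_mul, map_mul, map_inv, ← mul_assoc (i2 φ ι τ),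
      mul_assoc _ (φ D2) (i2 φ ι τ)⁻¹, (comm2_D2 h6 τ).inv_right.eq]
    group
  rcases hτ with e | e | e | e <;> rw [e] at h'
  · exact conj_eq_one_iff.1 e
  · exfalso
    rw [w2_12 h6] at h'
    have e2 : φ S78 * φ D2 = i1 φ ι (swap 0 1 * swap 4 5) := by
      rw [map_mul, w1_01 h6, w1_45 h6, ← map_mul, ← map_mul]
      congr 1
      decide +kernel
    rw [e2] at h'
    obtain ⟨τ', hτ'⟩ := swap_of_CE1 hF h6 h'
    exact double_not_swap τ' hτ'
  · exfalso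
    rw [map_mul, w2_12 h6, w2_34 h6, ← map_mul, ← map_mul] at h'
    refine not_CE_D hF h6 (CE.of_conj (φ C3) ?_)
    convert h' using 1
    rw [← map_inv, ← map_mul, ← map_mul]
    congr 1
    decide +kernel
  · exfalso
    rw [w2_t h6, ← map_mul] at h'
    exact not_CE_Q hF h6 h'

theorem CE_swap {a b : Fin 6} (hab : a ≠ b) : CE φ (ι (swap a b)) := by
  obtain ⟨τ, hτ⟩ := isConj_iff.1 (Equiv.Perm.isConj_swap hab (show (0 : Fin 6) ≠ 1 by decide))
  exact ⟨ι τ, by rw [← map_inv, ← map_mul, ← map_mul, hτ, v_01 h6]⟩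

theorem CE_swap1 {a b : Fin 6} (hab : a ≠ b) : CE φ (i1 φ ι (swap a b)) :=
  (CE_swap hF h6 hab).conj (φ Rot)

theorem CE_swap2 {a b : Fin 6} (hab : a ≠ b) : CE φ (i2 φ ι (swap a b)) :=
  (CE_swap hF h6 hab).conj (φ (Rot ^ 2))

end Fusion

end Cfsg.Agent.S9Chain44Fus
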