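import Cfsg.Agent.Lib.S9Model37

/-!
Finite facts about `W = S₃ ≀ S₃` inside `Perm (Fin 9)` and about `Perm (Fin 6)`,
used for the chain piece of the degree nine recognition.
-/

set_option autoImplicit false

namespace Cfsg.Agent.S9Chain44W

open Equiv Cfsg.Agent.S9Model37

/-- The element of the wreath product with block permutation `π` and inner permutations `a`. -/
def mk (π : Perm (Fin 3)) (a : Fin 3 → Perm (Fin 3)) : P9 :=
  finProdFinEquiv.permCongr (Equiv.prodShear π a)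

theorem mk_mul (π π' : Perm (Fin 3)) (a a' : Fin 3 → Perm (Fin 3)) :
    mk π a * mk π' a' = mk (π * π') (fun k => a (π' k) * a' k) := by
  ext i
  simp [mk]

theorem mk_inv (π : Perm (Fin 3)) (a : Fin 3 → Perm (Fin 3)) :
    (mk π a)⁻¹ = mk π⁻¹ (fun k => (a (π⁻¹ k))⁻¹) := by
  symm
  rw [eq_inv_iff_mul_eq_one, mk_mul]
  ext i
  simp [mk]

theorem exists_mk {w : P9} (hw : w ∈ W) :
    ∃ (π a b c : Perm (Fin 3)), w = mk π ![a, b, c] := by
  have key : ∀ π a, ∃ (a0 a1 a2 : Perm (Fin 3)), mk π a = mk π ![a0, a1, a2] := fun π a =>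
    ⟨a 0, a 1, a 2, congrArg (mk π) (funext fun k => by fin_cases k <;> rfl)⟩
  induction hw using Subgroup.closure_induction with
  | mem x hx =>
    simp only [Set.mem_insert_iff, Set.mem_singleton_iff] at hx
    rcases hx with rfl | rfl | rfl | rfl | rfl | rfl | rfl | rfl <;> decide +kernel
  | one => exact ⟨1, 1, 1, 1, by decide +kernel⟩
  | mul x y _ _ hx hy =>
    obtain ⟨π, a, b, c, rfl⟩ := hx
    obtain ⟨π', a', b', c', rfl⟩ := hy
    rw [mk_mul]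
    exact ⟨_, key _ _⟩
  | inv x _ hx =>
    obtain ⟨π, a, b, c, rfl⟩ := hx
    rw [mk_inv]
    exact ⟨_, key _ _⟩

/-- The three cycle of `Perm (Fin 3)`. -/
def c : Perm (Fin 3) := swap 0 1 * swap 1 2

theorem mk_inj {π π' : Perm (Fin 3)} {a a' : Fin 3 → Perm (Fin 3)} (h : mk π a = mk π' a') :
    π = π' ∧ a = a' := by
  have h' : Equiv.prodShear π a = Equiv.prodShear π' a' := finProdFinEquiv.permCongr.injective h
  refine ⟨Equiv.ext fun k => ?_, funext fun k => Equiv.ext fun r => ?_⟩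
  · simpa using congrArg Prod.fst (Equiv.ext_iff.1 h' (k, 0))
  · simpa using congrArg Prod.snd (Equiv.ext_iff.1 h' (k, r))

theorem mk_one : mk 1 (fun _ => 1) = 1 := by
  decide +kernel

theorem mk_one_pow (a : Fin 3 → Perm (Fin 3)) (n : ℕ) : mk 1 a ^ n = mk 1 fun k => a k ^ n := by
  induction n with
  | zero => simp [mk_one]
  | succ n ih => rw [pow_succ, ih, mk_mul]; simp [pow_succ]

theorem fst_pow (π : Perm (Fin 3)) (a : Fin 3 → Perm (Fin 3)) (n : ℕ) :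
    ∃ a' : Fin 3 → Perm (Fin 3), mk π a ^ n = mk (π ^ n) a' := by
  induction n with
  | zero => exact ⟨fun _ => 1, by simp [mk_one]⟩
  | succ n ih =>
    obtain ⟨a', h⟩ := ih
    exact ⟨_, by rw [pow_succ, h, mk_mul, pow_succ]⟩

theorem pow_components {π : Perm (Fin 3)} {a : Fin 3 → Perm (Fin 3)} {n : ℕ}
    (h : mk π a ^ n = 1) (hπ : π ^ n = 1 → π = 1) : π = 1 ∧ ∀ k, a k ^ n = 1 := by
  obtain ⟨a', ha'⟩ := fst_pow π a n
  rw [ha', ← mk_one] at h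
  have h1 := hπ (mk_inj h).1
  subst h1
  rw [← ha', mk_one_pow] at h
  exact ⟨rfl, fun k => congrFun (mk_inj h).2 k⟩

theorem d1_eq : d1 = mk 1 ![swap 0 1, 1, 1] := by decide +kernel

theorem c23_eq : c2 * c3 = mk 1 ![1, c, c] := by decide +kernel

theorem rot_eq : rot = mk c ![1, 1, 1] := by decide +kernel

theorem x_eq : c1 * c2 * c3 = mk 1 ![c, c, c] := by decide +kernel

theorem base_eq : ∀ i j k : Fin 3,
    c1 ^ (i : ℕ) * c2 ^ (j : ℕ) * c3 ^ (k : ℕ) = mk 1 ![c ^ (i : ℕ), c ^ (j : ℕ), c ^ (k : ℕ)] := by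
  decide +kernel

theorem rot_pow_eq : ∀ i j : Fin 3, rot ^ (i : ℕ) * (c1 * c2 * c3) ^ (j : ℕ) =
    mk (c ^ (i : ℕ)) ![c ^ (j : ℕ), c ^ (j : ℕ), c ^ (j : ℕ)] := by
  decide +kernel

theorem three_aux : ∀ a : Perm (Fin 3), (a ^ 3 = 1 ∨ a ^ 81 = 1) → ∃ i : Fin 3, a = c ^ (i : ℕ) := by
  decide +kernel

theorem fix_aux : ∀ π : Perm (Fin 3), π 0 = 0 → (π ^ 3 = 1 ∨ π ^ 81 = 1) → π = 1 := by
  decide +kernel

theorem swap_aux : ∀ a : Perm (Fin 3), a ^ 81 = 1 → a * swap 0 1 = swap 0 1 * a → a = 1 := by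
  decide +kernel

theorem five_seven : ∀ a : Perm (Fin 3), (a ^ 5 = 1 ∨ a ^ 7 = 1) → a = 1 := by
  decide +kernel

theorem comm_c : ∀ a : Perm (Fin 3), a * c = c * a → ∃ i : Fin 3, a = c ^ (i : ℕ) := by
  decide +kernel

theorem c_pow_inj : ∀ i i' : Fin 3, c ^ (i : ℕ) = c ^ (i' : ℕ) → i = i' := by
  decide +kernel

/-- A `3`-element of `W` centralising `d1` lies in `⟨c2, c3⟩`. -/
theorem cent_d1 {w : W} (hw : w * D1 = D1 * w) {k : ℕ} (h3 : w ^ 3 ^ k = 1) :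
    ∃ i j : Fin 3, w = C2 ^ (i : ℕ) * C3 ^ (j : ℕ) := by
  have h81 : (w : P9) ^ 81 = 1 := by
    have hg : (w : P9) ^ Nat.gcd (3 ^ k) (81 * 4480) = 1 := by
      refine pow_gcd_eq_one.2 ⟨?_, ?_⟩
      · simpa using congrArg Subtype.val h3
      · have : Nat.card P9 = 81 * 4480 := by
          rw [Nat.card_perm, Nat.card_fin]; rfl
        rw [← this]
        exact pow_card_eq_one'
    obtain ⟨d, hd⟩ : Nat.gcd (3 ^ k) (81 * 4480) ∣ 81 := by
      rw [Nat.Coprime.gcd_mul_right_cancel_right]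
      · exact Nat.gcd_dvd_right _ _
      · exact Nat.Coprime.pow_right _ (by norm_num)
    rw [hd, pow_mul, hg, one_pow]
  obtain ⟨π, a0, a1, a2, hπ⟩ := exists_mk w.2
  have hc : (w : P9) * d1 = d1 * (w : P9) := congrArg Subtype.val hw
  rw [hπ, d1_eq, mk_mul, mk_mul] at hc
  have hc' := congrFun (mk_inj hc).2
  have h0 : π 0 = 0 := by
    by_contra hne
    have hp : π.symm 0 ≠ 0 := fun e => hne (by rw [Equiv.symm_apply_eq] at e; exact e.symm)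
    have h1 := hc' (π.symm 0)
    have : ∀ k : Fin 3, k ≠ 0 → (![swap 0 1, 1, 1] : Fin 3 → Perm (Fin 3)) k = 1 := by decide
    simp only [Perm.one_apply, Equiv.apply_symm_apply] at h1
    rw [this _ hp, mul_one] at h1
    simp at h1
  obtain ⟨a', ha'⟩ := fst_pow π ![a0, a1, a2] 81
  rw [hπ] at h81
  have h81' := h81
  rw [ha', ← mk_one] at h81'
  have hπ1 : π = 1 := fix_aux π h0 (Or.inr (mk_inj h81').1)
  obtain ⟨-, hak⟩ := pow_components h81 (fun _ => hπ1)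
  subst hπ1
  have e0 : a0 = 1 := swap_aux a0 (hak 0) (by simpa using hc' 0)
  obtain ⟨i, e1⟩ := three_aux a1 (Or.inr (hak 1))
  obtain ⟨j, e2⟩ := three_aux a2 (Or.inr (hak 2))
  refine ⟨i, j, Subtype.ext ?_⟩
  rw [hπ, e0, e1, e2]
  show _ = c2 ^ (i : ℕ) * c3 ^ (j : ℕ)
  simpa using (base_eq 0 i j).symm

theorem eq_one_of_pow {w : W} {p : ℕ} (hp : p = 5 ∨ p = 7) (hw : w ^ p = 1) : w = 1 := by
  obtain ⟨π, a0, a1, a2, hπ⟩ := exists_mk w.2
  have h : (w : P9) ^ p = 1 := congrArg Subtype.val hw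
  rw [hπ] at h
  have hf : ∀ a : Perm (Fin 3), a ^ p = 1 → a = 1 := fun a ha =>
    five_seven a (by rcases hp with rfl | rfl <;> simp [ha])
  obtain ⟨e, hk⟩ := pow_components h (hf π)
  apply Subtype.ext
  rw [hπ, e]
  show mk 1 _ = 1
  rw [← mk_one]
  exact congrArg (mk 1) (funext fun k => hf _ (hk k))

theorem cent_c23 {w : W} (hw : w * (C2 * C3) = C2 * C3 * w) (h3 : w ^ 3 = 1) :
    ∃ i j k : Fin 3, w = C1 ^ (i : ℕ) * C2 ^ (j : ℕ) * C3 ^ (k : ℕ) := by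
  obtain ⟨π, a0, a1, a2, hπ⟩ := exists_mk w.2
  have hc : (w : P9) * (c2 * c3) = c2 * c3 * (w : P9) := congrArg Subtype.val hw
  have h : (w : P9) ^ 3 = 1 := congrArg Subtype.val h3
  rw [hπ] at h hc
  rw [c23_eq, mk_mul, mk_mul] at hc
  have hc0 := congrFun (mk_inj hc).2 0
  have h0 : π 0 = 0 := by
    have hne : ∀ k : Fin 3, (![1, c, c] : Fin 3 → Perm (Fin 3)) k = 1 → k = 0 := by decide +kernel
    apply hne
    simpa using hc0
  obtain ⟨a', ha'⟩ := fst_pow π ![a0, a1, a2] 3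
  have h' := h
  rw [ha', ← mk_one] at h'
  have hπ1 : π = 1 := fix_aux π h0 (Or.inl (mk_inj h').1)
  obtain ⟨-, hak⟩ := pow_components h (fun _ => hπ1)
  subst hπ1
  obtain ⟨i, e0⟩ := three_aux a0 (Or.inl (hak 0))
  obtain ⟨j, e1⟩ := three_aux a1 (Or.inl (hak 1))
  obtain ⟨l, e2⟩ := three_aux a2 (Or.inl (hak 2))
  refine ⟨i, j, l, Subtype.ext ?_⟩
  rw [hπ, e0, e1, e2]
  exact (base_eq i j l).symm

theorem cent_rot {w : W} (hw : w * Rot = Rot * w)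
    (hx : w * (C1 * C2 * C3) = C1 * C2 * C3 * w) :
    ∃ i j : Fin 3, w = Rot ^ (i : ℕ) * (C1 * C2 * C3) ^ (j : ℕ) := by
  obtain ⟨π, a0, a1, a2, hπ⟩ := exists_mk w.2
  have hc : (w : P9) * rot = rot * (w : P9) := congrArg Subtype.val hw
  have hd : (w : P9) * (c1 * c2 * c3) = c1 * c2 * c3 * (w : P9) := congrArg Subtype.val hx
  rw [hπ, rot_eq, mk_mul, mk_mul] at hc
  rw [hπ, x_eq, mk_mul, mk_mul] at hd
  obtain ⟨i, hi⟩ := comm_c π (mk_inj hc).1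
  have he := congrFun (mk_inj hc).2
  have hone : ∀ k : Fin 3, (![1, 1, 1] : Fin 3 → Perm (Fin 3)) k = 1 := by decide +kernel
  have e1 : a1 = a0 := by simpa [hone, c, Equiv.swap_apply_def] using he 0
  have e2 : a2 = a1 := by simpa [hone, c, Equiv.swap_apply_def] using he 1
  have hcon : ∀ k : Fin 3, (![c, c, c] : Fin 3 → Perm (Fin 3)) k = c := by decide +kernel
  have hd0 := congrFun (mk_inj hd).2 0
  simp only [hcon] at hd0
  obtain ⟨j, hj⟩ := comm_c a0 (by simpa using hd0)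
  refine ⟨i, j, Subtype.ext ?_⟩
  rw [hπ, e2, e1, hi, hj]
  exact (rot_pow_eq i j).symm

theorem base_inj (i j k i' j' k' : Fin 3)
    (h : C1 ^ (i : ℕ) * C2 ^ (j : ℕ) * C3 ^ (k : ℕ) = C1 ^ (i' : ℕ) * C2 ^ (j' : ℕ) * C3 ^ (k' : ℕ)) :
    (i, j, k) = (i', j', k') := by
  have h' : c1 ^ (i : ℕ) * c2 ^ (j : ℕ) * c3 ^ (k : ℕ) =
      c1 ^ (i' : ℕ) * c2 ^ (j' : ℕ) * c3 ^ (k' : ℕ) := congrArg Subtype.val h
  rw [base_eq, base_eq] at h'
  have h2 := congrFun (mk_inj h').2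
  rw [c_pow_inj i i' (h2 0), c_pow_inj j j' (h2 1), c_pow_inj k k' (h2 2)]

abbrev P6 := Perm (Fin 6)

/-- The first three cycle of `Perm (Fin 6)`. -/
def a6 : P6 := swap 0 1 * swap 1 2
/-- The second three cycle of `Perm (Fin 6)`. -/
def b6 : P6 := swap 3 4 * swap 4 5
/-- The exchange of the two blocks. -/
def t6 : P6 := swap 0 3 * swap 1 4 * swap 2 5

theorem three_conj_aux : ∀ σ : P6, σ ^ 3 = 1 →
    ∃ τ ∈ ([1, swap 2 3, swap 2 3 * swap 3 4, swap 2 3 * swap 3 4 * swap 4 5, swap 1 3 * swap 2 3, swap 1 3 * swap 2 3 * swap 3 4, swap 1 3 * swap 2 3 * swap 3 4 * swap 4 5, swap 1 3 * swap 2 4, swap 1 3 * swap 2 4 * swap 4 5, swap 1 3 * swap 2 4 * swap 3 5 * swap 4 5] : List P6),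
      ∃ i j : Fin 3, τ * σ * τ⁻¹ = a6 ^ (i : ℕ) * b6 ^ (j : ℕ) := by
  decide +kernel

theorem three_conj (σ : P6) (h : σ ^ 3 = 1) :
    ∃ i j : Fin 3, ∃ τ : P6, τ * σ * τ⁻¹ = a6 ^ (i : ℕ) * b6 ^ (j : ℕ) := by
  obtain ⟨τ, -, i, j, hτ⟩ := three_conj_aux σ h
  exact ⟨i, j, τ, hτ⟩

set_option maxHeartbeats 1600000 in
theorem two_conj_aux : ∀ σ : P6, σ * σ = 1 →
    ∃ τ ∈ ([1, swap 2 3, swap 2 3 * swap 3 4, swap 2 4 * swap 4 5, swap 1 3 * swap 2 3 * swap 3 4 * swap 4 5, swap 1 3 * swap 2 3 * swap 3 5 * swap 4 5, swap 1 3 * swap 2 4 * swap 3 5 * swap 4 5, swap 1 4 * swap 2 3 * swap 4 5, swap 1 4 * swap 2 5 * swap 3 4 * swap 4 5, swap 1 5 * swap 2 5 * swap 3 5 * swap 4 5, swap 0 1 * swap 3 4 * swap 4 5, swap 0 1 * swap 2 3, swap 0 1 * swap 2 3 * swap 3 5 * swap 4 5, swap 0 1 * swap 1 2, swap 2 5 * swap 3 5, swap 0 1 * swap 2 3 * swap 3 4 * swap 4 5, swap 2 3 * swap 3 5 * swap 4 5, swap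 2 5 * swap 4 5, swap 1 5 * swap 2 5 * swap 4 5, swap 1 5 * swap 2 5, swap 0 1, swap 0 1 * swap 3 5 * swap 4 5, swap 0 1 * swap 2 3 * swap 4 5, swap 0 1 * swap 2 3 * swap 3 4, swap 0 1 * swap 2 3 * swap 3 5, swap 0 1 * swap 2 5 * swap 3 5 * swap 4 5, swap 0 1 * swap 2 5 * swap 4 5, swap 0 1 * swap 2 5, swap 0 1 * swap 1 2 * swap 4 5, swap 0 1 * swap 1 2 * swap 3 5 * swap 4 5, swap 0 1 * swap 1 2 * swap 2 3, swap 0 1 * swap 1 2 * swap 2 3 * swap 4 5, swap 0 1 * swap 1 2 * swap 2 3 * swap 3 4, swap 0 1 * swap 1 3 * swap 2 3, swap 0 1 * swap 1 3 * swap 2 3 * swap 4 5, swap 0 1 * swap 1 3 * swap 2 3 * swap 3 4, swap 0 1 * swap 1 3 * swap 2 3 * swap 3 4 * swap 4 5, swap 0 1 * swap 1 3 * swap 2 3 * swap 3 5 * swap 4 5, swap 0 1 * swap 1 3 * swap 2 3 * swap 3 5, swap 0 1 * swap 1 3, swap 0 1 * swap 1 3 * swap 4 5, swap 0 1 * swap 1 3 * swap 3 4, swap 0 1 * swap 1 3 * swap 2 4, swap 0 1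 * swap 1 3 * swap 2 4 * swap 4 5, swap 0 1 * swap 1 3 * swap 2 4 * swap 3 4] : List P6),
    τ * σ * τ⁻¹ = 1 ∨ τ * σ * τ⁻¹ = swap 1 2 ∨ τ * σ * τ⁻¹ = swap 1 2 * swap 3 4 ∨
      τ * σ * τ⁻¹ = t6 := by
  decide +kernel

theorem two_conj (σ : P6) (h : σ * σ = 1) : ∃ τ : P6,
    τ * σ * τ⁻¹ = 1 ∨ τ * σ * τ⁻¹ = swap 1 2 ∨ τ * σ * τ⁻¹ = swap 1 2 * swap 3 4 ∨
      τ * σ * τ⁻¹ = t6 := by
  obtain ⟨τ, -, hτ⟩ := two_conj_aux σ h
  exact ⟨τ, hτ⟩

theorem cent_b6 : ∀ σ : P6, σ ^ 3 = 1 → σ * b6 = b6 * σ →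
    ∃ i j : Fin 3, σ = a6 ^ (i : ℕ) * b6 ^ (j : ℕ) := by
  decide +kernel

theorem block_image : ∀ x : P6, x * x = 1 → x * swap 0 1 = swap 0 1 * x →
    x * swap 4 5 = swap 4 5 * x → t6 * x * t6 * x = x * (t6 * x * t6) →
    (x * swap 1 2) ^ 3 = 1 → (x * swap 3 4) ^ 3 = 1 → x = swap 2 3 := by
  decide +kernel

theorem center_six : ∀ σ : P6, σ * swap 0 1 = swap 0 1 * σ → σ * swap 1 2 = swap 1 2 * σ →
    σ * swap 2 3 = swap 2 3 * σ → σ * swap 3 4 = swap 3 4 * σ → σ = 1 := by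
  decide +kernel

theorem cent_three_swaps : ∀ σ : P6, σ * swap 3 4 = swap 3 4 * σ →
    σ * swap 1 2 = swap 1 2 * σ → σ * swap 0 5 = swap 0 5 * σ →
    ∃ i j k : Fin 2, σ = swap 3 4 ^ (i : ℕ) * swap 1 2 ^ (j : ℕ) * swap 0 5 ^ (k : ℕ) := by
  decide +kernel

theorem double_not_swap : ∀ τ : P6, τ * (swap 0 1 * swap 4 5) * τ⁻¹ ≠ swap 0 1 := by
  decide +kernel

/-- The fixed-point-free element commuting with the three transpositions up to order. -/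
def f6 : P6 := swap 3 1 * swap 1 5 * (swap 4 2 * swap 2 0)

theorem f6_conj : ∃ τ : P6, τ * f6 * τ⁻¹ = a6 * b6 := by
  decide +kernel

theorem closure_swaps : Subgroup.closure
    ({swap 0 1, swap 1 2, swap 2 3, swap 3 4, swap 4 5} : Set P6) = ⊤ := by
  rw [eq_top_iff]
  intro σ hσ
  clear hσ
  have h : σ ∈ Submonoid.closure (Set.range fun i : Fin 5 => swap i.castSucc i.succ) := by
    rw [Equiv.Perm.mclosure_swap_castSucc_succ]
    trivial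
  induction h using Submonoid.closure_induction with
  | mem x hx =>
    obtain ⟨i, rfl⟩ := hx
    apply Subgroup.subset_closure
    fin_cases i <;> simp [Fin.castSucc, Fin.succ]
  | one => exact one_mem _
  | mul x y _ _ hx hy => exact mul_mem hx hy

end Cfsg.Agent.S9Chain44W
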