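import Cfsg.Agent.Lib.S9Chain44Fus
import Cfsg.Agent.Lib.SelfCentThreeMain
import Cfsg.Agent.Lib.CoprimeGen

/-!
The centraliser of a triple of commuting transpositions has order `48`.
-/

set_option autoImplicit false

namespace Cfsg.Agent.S9Chain44X

open Equiv Cfsg.Agent.S9Model37 Cfsg.Agent.S9Chain44W Cfsg.Agent.S9Chain44Fus
open Cfsg.Agent.SelfCentThreeBase Cfsg.Agent.SelfCentThreeMain Cfsg.Agent.CoprimeGen
open scoped Pointwise

universe u

variable {G : Type u} [Group G] {J : Subgroup G} {φ : W →* G} {ι : P6 →* G}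

/-- The group of the three transpositions of `Perm (Fin 6)`. -/
def V0 : Subgroup P6 := Subgroup.centralizer ({swap 3 4, swap 1 2, swap 0 5} : Set P6)

/-- The centraliser of three commuting transpositions. -/
def XS (φ : W →* G) (ι : P6 →* G) : Subgroup G :=
  Subgroup.centralizer ({φ D1, φ S78, i2 φ ι (swap 0 5)} : Set G)

/-- The group generated by three commuting transpositions. -/
def VS (φ : W →* G) (ι : P6 →* G) : Subgroup G := V0.map (i2 φ ι)

theorem mem_V0 {σ : P6} : σ ∈ V0 ↔ σ * swap 3 4 = swap 3 4 * σ ∧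
    σ * swap 1 2 = swap 1 2 * σ ∧ σ * swap 0 5 = swap 0 5 * σ := by
  simp only [V0, Subgroup.mem_centralizer_iff, Set.mem_insert_iff, Set.mem_singleton_iff,
    forall_eq_or_imp, forall_eq]
  exact ⟨fun h => ⟨h.1.symm, h.2.1.symm, h.2.2.symm⟩, fun h => ⟨h.1.symm, h.2.1.symm, h.2.2.symm⟩⟩

theorem card_V0 : Nat.card V0 = 8 := by
  let F : Fin 2 × Fin 2 × Fin 2 → P6 := fun p =>
    swap 3 4 ^ (p.1 : ℕ) * swap 1 2 ^ (p.2.1 : ℕ) * swap 0 5 ^ (p.2.2 : ℕ)
  have hF : ∀ p, F p ∈ V0 := by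
    intro p
    rw [mem_V0]
    revert p
    decide +kernel
  have hb : Function.Bijective (fun p => (⟨F p, hF p⟩ : V0)) := by
    refine ⟨fun p q h => ?_, fun v => ?_⟩
    · have h' : F p = F q := congrArg Subtype.val h
      clear h
      revert h'
      revert p q
      decide +kernel
    · obtain ⟨h1, h2, h3⟩ := mem_V0.1 v.2
      obtain ⟨i, j, k, h⟩ := cent_three_swaps _ h1 h2 h3
      exact ⟨(i, j, k), Subtype.ext h.symm⟩
  rw [← Nat.card_eq_of_bijective _ hb]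
  simp

theorem mem_XS {g : G} : g ∈ XS φ ι ↔
    Commute g (φ D1) ∧ Commute g (φ S78) ∧ Commute g (i2 φ ι (swap 0 5)) := by
  simp only [XS, Subgroup.mem_centralizer_iff, Set.mem_insert_iff, Set.mem_singleton_iff,
    forall_eq_or_imp, forall_eq]
  exact ⟨fun h => ⟨h.1.symm, h.2.1.symm, h.2.2.symm⟩, fun h => ⟨h.1.symm, h.2.1.symm, h.2.2.symm⟩⟩

section Six

variable (h6 : Six φ ι)
include h6

theorem card_VS : Nat.card (VS φ ι) = 8 := by
  rw [VS, Subgroup.card_map_of_injective (i2_inj h6), card_V0]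

theorem i2_mem_XS {σ : P6} (hσ : σ ∈ V0) : i2 φ ι σ ∈ XS φ ι := by
  obtain ⟨h1, h2, h3⟩ := mem_V0.1 hσ
  rw [mem_XS, ← w2_34 h6, ← w2_12 h6]
  exact ⟨(show Commute σ _ from h1).map _, (show Commute σ _ from h2).map _,
    (show Commute σ _ from h3).map _⟩

theorem VS_le : VS φ ι ≤ XS φ ι := by
  rintro _ ⟨σ, hσ, rfl⟩
  exact i2_mem_XS h6 hσ

theorem V_central {v g : G} (hv : v ∈ VS φ ι) (hg : g ∈ XS φ ι) : Commute g v := by
  obtain ⟨σ, hσ, rfl⟩ := hv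
  obtain ⟨i, j, k, h⟩ := cent_three_swaps σ (mem_V0.1 hσ).1 (mem_V0.1 hσ).2.1 (mem_V0.1 hσ).2.2
  obtain ⟨h1, h2, h3⟩ := mem_XS.1 hg
  rw [h, map_mul, map_mul, map_pow, map_pow, map_pow, w2_34 h6, w2_12 h6]
  exact ((h1.pow_right _).mul_right (h2.pow_right _)).mul_right (h3.pow_right _)

theorem V_sq {v : G} (hv : v ∈ VS φ ι) : v * v = 1 := by
  obtain ⟨σ, hσ, rfl⟩ := hv
  obtain ⟨i, j, k, h⟩ := cent_three_swaps σ (mem_V0.1 hσ).1 (mem_V0.1 hσ).2.1 (mem_V0.1 hσ).2.2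
  have hd : ∀ i j k : Fin 2, (swap (3 : Fin 6) 4 ^ (i : ℕ) * swap 1 2 ^ (j : ℕ) * swap 0 5 ^ (k : ℕ)) *
      (swap 3 4 ^ (i : ℕ) * swap 1 2 ^ (j : ℕ) * swap 0 5 ^ (k : ℕ)) = 1 := by decide +kernel
  rw [← map_mul, h, hd, map_one]

theorem C2_mem : φ C2 ∈ XS φ ι := by
  rw [mem_XS, ← w2_34 h6, ← w2_12 h6]
  exact ⟨comm2_C2 h6 _, comm2_C2 h6 _, comm2_C2 h6 _⟩

theorem XS_cent_C2 {g : G} (hg : g ∈ XS φ ι) (hc : Commute g (φ C2)) :
    ∃ (k : ℤ) (v : G), v ∈ VS φ ι ∧ g = φ C2 ^ k * v := by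
  obtain ⟨k, σ, rfl⟩ := cent2 h6 hc
  refine ⟨k, i2 φ ι σ, ⟨σ, ?_, rfl⟩, rfl⟩
  have hi : i2 φ ι σ ∈ XS φ ι := by
    have := mul_mem (inv_mem (zpow_mem (C2_mem h6) k)) hg
    simpa using this
  obtain ⟨h1, h2, h3⟩ := mem_XS.1 hi
  rw [← w2_34 h6] at h1
  rw [← w2_12 h6] at h2
  rw [SetLike.mem_coe, mem_V0]
  refine ⟨?_, ?_, ?_⟩ <;> apply i2_inj h6 <;> rw [map_mul, map_mul]
  exacts [h1.eq, h2.eq, h3.eq]

theorem pow_six {g : G} (hg : g ∈ XS φ ι) (hc : Commute g (φ C2)) : g ^ 6 = 1 := by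
  obtain ⟨k, v, hv, rfl⟩ := XS_cent_C2 h6 hg hc
  have hcv : Commute (φ C2 ^ k) v := V_central h6 hv (zpow_mem (C2_mem h6) k)
  have h1 : (φ C2 ^ k) ^ 3 = 1 := by
    rw [← zpow_natCast, ← zpow_mul, mul_comm, zpow_mul, zpow_natCast, pow_three_C.2.1, one_zpow]
  have h2 : v ^ 2 = 1 := by rw [pow_two, V_sq h6 hv]
  rw [hcv.mul_pow, show (6 : ℕ) = 3 * 2 from rfl, pow_mul, h1, one_pow, one_mul,
    show (3 : ℕ) * 2 = 2 * 3 from rfl, pow_mul, h2, one_pow]

theorem f_mem [Finite G] : i2 φ ι f6 ∈ Subgroup.normalizer (XS φ ι : Set G) := by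
  refine mem_normalizer_of_le fun g hg => ?_
  obtain ⟨h1, h2, h3⟩ := mem_XS.1 hg
  rw [← w2_34 h6] at h1
  rw [← w2_12 h6] at h2
  rw [mem_XS, ← w2_34 h6, ← w2_12 h6]
  have key : ∀ σ τ : P6, f6 * σ * f6⁻¹ = τ → Commute g (i2 φ ι σ) →
      Commute (i2 φ ι f6 * g * (i2 φ ι f6)⁻¹) (i2 φ ι τ) := by
    intro σ τ hστ hc
    rw [← hστ, map_mul, map_mul, map_inv]
    exact hc.map (MulAut.conj (i2 φ ι f6)).toMonoidHom
  exact ⟨key _ _ (by decide +kernel) h3, key _ _ (by decide +kernel) h1,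
    key _ _ (by decide +kernel) h2⟩

theorem f_comm : Commute (i2 φ ι f6) (φ C2) := (comm2_C2 h6 f6).symm

theorem f_cube : i2 φ ι f6 ^ 3 = 1 := by
  rw [← map_pow, show f6 ^ 3 = 1 by decide +kernel, map_one]

end Six

theorem exists_common_fixed {α : Type*} [Finite α] (σ τ : Perm α) (hσ : σ ^ 3 = 1) (hτ : τ ^ 3 = 1)
    (hc : σ * τ = τ * σ) (h3 : ¬ 3 ∣ Nat.card α) : ∃ x, σ x = x ∧ τ x = x := by
  classical
  haveI : Fact (Nat.Prime 3) := ⟨Nat.prime_three⟩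
  haveI := Fintype.ofFinite α
  have hP : ∀ x, σ (τ x) = τ x ↔ σ x = x := fun x => by
    rw [show σ (τ x) = τ (σ x) from Equiv.congr_fun hc x, τ.injective.eq_iff]
  have hcard : ¬ 3 ∣ Fintype.card {x // σ x = x} := by
    have h1 := Equiv.Perm.card_compl_support_modEq (p := 3) (n := 1) (σ := σ) (by rwa [pow_one])
    have h2 : σ.supportᶜ.card = Fintype.card {x // σ x = x} := by
      rw [Fintype.card_subtype]
      congr 1
      ext x
      simp
    rw [h2, ← Nat.card_eq_fintype_card (α := α)] at h1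
    exact fun hd => h3 (Nat.modEq_zero_iff_dvd.1 (h1.symm.trans (Nat.modEq_zero_iff_dvd.2 hd)))
  obtain ⟨⟨x, hx⟩, hfix⟩ := Equiv.Perm.exists_fixed_point_of_prime (p := 3) (n := 1)
    hcard (σ := τ.subtypePerm hP) (by
      rw [pow_one, Equiv.Perm.subtypePerm_pow]
      ext y
      simp [hτ])
  exact ⟨x, hx, congrArg Subtype.val hfix⟩

/-- The conjugation action of the normaliser. -/
abbrev act (X : Subgroup G) : Subgroup.normalizer (X : Set G) →* MulAut X := X.normalizerMonoidHom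

theorem act_coe (X : Subgroup G) (u : Subgroup.normalizer (X : Set G)) (r : X) :
    ((act X u r : X) : G) = (u : G) * r * (u : G)⁻¹ := rfl

theorem act_pow_apply {X : Subgroup G} {a : MulAut X} {r : X} {k : ℕ} (h : a r = r ^ k) :
    ∀ n : ℕ, (a ^ n) r = r ^ k ^ n := by
  intro n
  induction n with
  | zero => simp
  | succ n ih =>
    rw [pow_succ' a, MulAut.mul_apply, ih, map_pow, h, ← pow_mul, pow_succ' k]

theorem exists_gen {H : Type*} [Group H] {p : ℕ} [Fact p.Prime] (P : Subgroup H)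
    (hP : Nat.card P = p) : ∃ r : H, orderOf r = p ∧ P = Subgroup.zpowers r := by
  haveI : Finite P := Nat.finite_of_card_ne_zero (by rw [hP]; exact (Fact.out : p.Prime).ne_zero)
  obtain ⟨r, hr⟩ := exists_prime_orderOf_dvd_card' (G := P) p (by rw [hP])
  refine ⟨r, by rw [Subgroup.orderOf_coe, hr], ?_⟩
  exact (Subgroup.eq_of_le_of_card_ge (Subgroup.zpowers_le.2 r.2)
    (by rw [Nat.card_zpowers, Subgroup.orderOf_coe, hr, hP])).symm

theorem fix_pow {H : Type*} [Group H] [Finite H] {p : ℕ} [Fact p.Prime] (a : MulAut H) (P : Sylow p H)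
    {r : H} (hr : (P : Subgroup H) = Subgroup.zpowers r) (ha : a • P = P) :
    ∃ k : ℕ, a r = r ^ k := by
  have hm : a r ∈ ((a • P : Sylow p H) : Subgroup H) := by
    rw [Sylow.pointwise_smul_def]
    exact Subgroup.smul_mem_pointwise_smul r a _ (hr ▸ Subgroup.mem_zpowers r)
  rw [ha, hr, ← mem_powers_iff_mem_zpowers, Submonoid.mem_powers_iff] at hm
  obtain ⟨k, hk⟩ := hm
  exact ⟨k, hk.symm⟩

theorem mod_five : ∀ k < 5, k ^ 3 % 5 = 1 → k = 1 := by decide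

theorem mod_seven_aux : ∀ k l : Fin 7, (k : ℕ) ^ 3 % 7 = 1 → (l : ℕ) ^ 3 % 7 = 1 →
    ∃ m n : Fin 3, ¬(m = 0 ∧ n = 0) ∧ (k : ℕ) ^ (m : ℕ) * (l : ℕ) ^ (n : ℕ) % 7 = 1 := by
  decide +kernel

theorem mod_seven (k : ℕ) (hk : k < 7) (l : ℕ) (hl : l < 7) (h : k ^ 3 % 7 = 1)
    (h' : l ^ 3 % 7 = 1) :
    ∃ m n : Fin 3, ¬(m = 0 ∧ n = 0) ∧ k ^ (m : ℕ) * l ^ (n : ℕ) % 7 = 1 :=
  mod_seven_aux ⟨k, hk⟩ ⟨l, hl⟩ h h' 

theorem weight_f : ∀ i j : Fin 3, i ≠ 0 → ∃ n : W,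
    (n * (C1 * C2 * C3) * n⁻¹ = C1 ^ (i : ℕ) * C2 ^ (j : ℕ) * C3 ^ (i : ℕ) ∨
      n * (C1 * C3) * n⁻¹ = C1 ^ (i : ℕ) * C2 ^ (j : ℕ) * C3 ^ (i : ℕ)) := by
  have : ∀ i j : Fin 3, i ≠ 0 → ∃ n ∈ ([1, D2, D1 * D3, D1 * D2 * D3] : List W),
    (n * (C1 * C2 * C3) * n⁻¹ = C1 ^ (i : ℕ) * C2 ^ (j : ℕ) * C3 ^ (i : ℕ) ∨
      n * (C1 * C3) * n⁻¹ = C1 ^ (i : ℕ) * C2 ^ (j : ℕ) * C3 ^ (i : ℕ)) := by decide +kernel
  intro i j h
  obtain ⟨n, -, hn⟩ := this i j h
  exact ⟨n, hn⟩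

section Main

variable [Finite G] (hF : Full J φ) (h6 : Six φ ι)
include hF h6

theorem exists_k : ∃ k : G, Commute k (φ C2) ∧ ∀ (m n : ℕ) (o : G), ¬ 3 ∣ m →
    Commute o (i2 φ ι f6 ^ m * φ C2 ^ n) → ∃ w, φ w = k * o * k⁻¹ := by
  obtain ⟨τ, hτ⟩ := f6_conj
  refine ⟨i2 φ ι τ, (comm2_C2 h6 τ).symm, fun m n o hm ho => ?_⟩
  set k := i2 φ ι τ
  have hf : k * i2 φ ι f6 * k⁻¹ = φ (C1 * C3) := by
    rw [← map_inv, ← map_mul, ← map_mul, hτ, map_mul, w2_a h6, w2_b h6, ← map_mul]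
    congr 1
    decide +kernel
  have h1 : Commute (k * o * k⁻¹) (φ (C1 * C3) ^ m * φ C2 ^ n) := by
    have := ho.map (MulAut.conj k).toMonoidHom
    have e : k * (i2 φ ι f6 ^ m * φ C2 ^ n) * k⁻¹ = φ (C1 * C3) ^ m * φ C2 ^ n := by
      have h' : Commute (φ C2 ^ n) k := (comm2_C2 h6 τ).pow_left n
      rw [← hf, conj_pow, show k * (i2 φ ι f6 ^ m * φ C2 ^ n) * k⁻¹ =
        k * i2 φ ι f6 ^ m * k⁻¹ * (k * φ C2 ^ n * k⁻¹) by group, h'.symm.eq, mul_inv_cancel_right]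
    rw [← e]
    exact this
  have hred : φ (C1 * C3) ^ m * φ C2 ^ n =
      φ (C1 ^ (m % 3) * C2 ^ (n % 3) * C3 ^ (m % 3)) := by
    rw [pow_eq_pow_mod m (show φ (C1 * C3) ^ 3 = 1 by
      rw [← map_pow, show (C1 * C3) ^ 3 = 1 by decide +kernel, map_one]),
      pow_eq_pow_mod n pow_three_C.2.1, ← map_pow, ← map_pow, ← map_mul]
    congr 1
    have hd : ∀ i j : Fin 3, (C1 * C3) ^ (i : ℕ) * C2 ^ (j : ℕ) =
        C1 ^ (i : ℕ) * C2 ^ (j : ℕ) * C3 ^ (i : ℕ) := by decide +kernel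
    exact hd ⟨m % 3, by omega⟩ ⟨n % 3, by omega⟩
  rw [hred] at h1
  obtain ⟨w, hw⟩ := weight_f ⟨m % 3, by omega⟩ ⟨n % 3, by omega⟩ (by simp [Fin.ext_iff]; omega)
  rcases hw with hw | hw <;> dsimp at hw <;> rw [← hw] at h1
  · exact range_of_conj hF (fun _ => range_cx hF) w h1
  · exact range_of_conj hF (fun _ => range_c13 hF) w h1

theorem no_cent {p : ℕ} (hp : p = 5 ∨ p = 7) {r : G} (hr : r ∈ XS φ ι) (hrp : r ^ p = 1) (m n : ℕ)
    (hmn : ¬ (3 ∣ m ∧ 3 ∣ n)) (hc : Commute r (i2 φ ι f6 ^ m * φ C2 ^ n)) : r = 1 := by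
  by_cases hm : 3 ∣ m
  · obtain ⟨m', rfl⟩ := hm
    rw [pow_mul, f_cube h6, one_pow, one_mul, pow_eq_pow_mod n pow_three_C.2.1] at hc
    have hn : n % 3 = 1 ∨ n % 3 = 2 := by
      have : ¬ 3 ∣ n := fun h => hmn ⟨dvd_mul_right _ _, h⟩
      omega
    have hc2 : Commute r (φ C2) := by
      rcases hn with e | e <;> rw [e] at hc
      · simpa using hc
      · have h4 := hc.pow_right 2
        rwa [← pow_mul, pow_succ, pow_three_C.2.1, one_mul] at h4
    have h1 := pow_gcd_eq_one.2 ⟨hrp, pow_six h6 hr hc2⟩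
    rcases hp with rfl | rfl <;> simpa using h1
  · obtain ⟨k, -, hk⟩ := exists_k hF h6
    obtain ⟨w, hw⟩ := hk m n r hm hc
    have hwp : w ^ p = 1 := hF.inj (by
      rw [map_pow, hw, conj_pow, hrp, mul_one, mul_inv_cancel, map_one])
    rw [eq_one_of_pow hp hwp, map_one] at hw
    exact conj_eq_one_iff.1 hw.symm

theorem comm_cube {m n : ℕ} (hm : ¬ 3 ∣ m) {o : G}
    (ho : Commute o (i2 φ ι f6 ^ m * φ C2 ^ n)) : (o * φ C2 * o⁻¹ * (φ C2)⁻¹) ^ 3 = 1 := by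
  obtain ⟨k, hk2, hk⟩ := exists_k hF h6
  obtain ⟨w, hw⟩ := hk m n o hm ho
  have hJ : φ w * φ C2 * (φ w)⁻¹ * (φ C2)⁻¹ ∈ J :=
    mul_mem (conj_mem hF ⟨w, rfl⟩ (C_mem hF).2.1) (inv_mem (C_mem hF).2.1)
  have e : φ w * φ C2 * (φ w)⁻¹ * (φ C2)⁻¹ = k * (o * φ C2 * o⁻¹ * (φ C2)⁻¹) * k⁻¹ := by
    have e1 : k⁻¹ * φ C2 * k = φ C2 := by rw [mul_assoc, ← hk2.eq, inv_mul_cancel_left]
    have e2 : k⁻¹ * (φ C2)⁻¹ = (φ C2)⁻¹ * k⁻¹ := (hk2.inv_inv).eq
    rw [hw]
    calc _ = k * o * (k⁻¹ * φ C2 * k) * o⁻¹ * (k⁻¹ * (φ C2)⁻¹) := by group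
      _ = _ := by rw [e1, e2]; group
  have h3 := J_cube hF hJ
  rw [e, conj_pow] at h3
  exact conj_eq_one_iff.1 h3

theorem f_not_zpowers : i2 φ ι f6 ∉ Subgroup.zpowers (φ C2) := by
  intro hf
  obtain ⟨k, hk⟩ := Subgroup.mem_zpowers_iff.1 hf
  have hc : Commute (i2 φ ι f6) (i2 φ ι (swap 3 4)) := by
    rw [← hk]
    exact (comm2_C2 h6 _).zpow_left k
  have := i2_inj h6 (by rw [map_mul, map_mul]; exact hc.eq : i2 φ ι (f6 * swap 3 4) = i2 φ ι (swap 3 4 * f6))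
  exact absurd this (by decide +kernel)

theorem core_le : ∀ {M : Subgroup (XS φ ι)}, M.Normal → ¬ 3 ∣ Nat.card M →
    M.map (XS φ ι).subtype ≤ VS φ ι := by
  classical
  set X := XS φ ι with hX
  have hX2 := f_mem (G := G) h6
  rw [← hX] at hX2
  haveI : Nonempty {N : Subgroup X // N.Normal ∧ ¬ 3 ∣ Nat.card N} :=
    ⟨⟨⊥, inferInstance, by simp⟩⟩
  obtain ⟨⟨O, hO, hO3⟩, hmax⟩ := Finite.exists_max
    fun N : {N : Subgroup X // N.Normal ∧ ¬ 3 ∣ Nat.card N} => Nat.card N.1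
  have hall : ∀ N : Subgroup X, N.Normal → ¬ 3 ∣ Nat.card N → N ≤ O := by
    intro N hN hN3
    have hsup : ¬ 3 ∣ Nat.card (N ⊔ O : Subgroup X) := by
      rw [← Subgroup.card_mul_index (O.subgroupOf (N ⊔ O)),
        Nat.card_congr (Subgroup.subgroupOfEquivOfLe (le_sup_right : O ≤ N ⊔ O)).toEquiv,
        Nat.prime_three.dvd_mul, not_or]
      refine ⟨hO3, fun hd => hN3 (hd.trans ?_)⟩
      show O.relIndex (N ⊔ O) ∣ _
      rw [Subgroup.relIndex_sup_right]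
      exact (O.subgroupOf N).index_dvd_card
    have hle := hmax ⟨N ⊔ O, Subgroup.sup_normal N O, hsup⟩
    exact le_sup_left.trans (Subgroup.eq_of_le_of_card_ge le_sup_right hle).ge
  have hfO : ∀ o ∈ O.map X.subtype, i2 φ ι f6 * o * (i2 φ ι f6)⁻¹ ∈ O.map X.subtype := by
    rintro _ ⟨o, ho, rfl⟩
    let a : MulAut X := act X ⟨_, hX2⟩
    have h1 : (O.map a.toMonoidHom).Normal := hO.map _ a.surjective
    have h2 : ¬ 3 ∣ Nat.card (O.map a.toMonoidHom) := by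
      rw [Nat.card_congr (O.equivMapOfInjective a.toMonoidHom a.injective).symm.toEquiv]
      exact hO3
    exact ⟨a o, hall _ h1 h2 ⟨o, ho, rfl⟩, rfl⟩
  have hcO : ∀ o ∈ O.map X.subtype, φ C2 * o * (φ C2)⁻¹ ∈ O.map X.subtype := by
    rintro _ ⟨o, ho, rfl⟩
    exact ⟨_, hO.conj_mem o ho ⟨φ C2, C2_mem h6⟩, rfl⟩
  have hcard : Nat.card (O.map X.subtype) = Nat.card O :=
    Subgroup.card_map_of_injective X.subtype_injective
  have hone : ∀ c ∈ O.map X.subtype, c ^ 3 = 1 → c = 1 := by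
    intro c hc hc3
    by_contra hne
    have := Subgroup.orderOf_dvd_natCard _ hc
    rw [hcard, orderOf_eq_prime hc3 hne] at this
    exact hO3 this
  haveI : Fact (Nat.Prime 3) := ⟨Nat.prime_three⟩
  have hpair : IsPairAction 3 (i2 φ ι f6) (φ C2) (O.map X.subtype) :=
    { comm := f_comm h6
      pow_left := f_cube h6
      pow_right := pow_three_C.2.1
      right_ne := fun e => absurd (hF.inj (e.trans (map_one φ).symm)) (by decide +kernel)
      left_not_mem := f_not_zpowers hF h6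
      mem_left := mem_normalizer_of_le hfO
      mem_right := mem_normalizer_of_le hcO }
  have hle : O.map X.subtype ≤ Subgroup.centralizer ({φ C2} : Set G) := by
    refine le_of_pair_centralizers hpair (by rw [hcard]; exact hO3) fun e he he1 o ho => ?_
    obtain ⟨hoO, hoc⟩ := Subgroup.mem_inf.1 ho
    have hoc' : Commute o e := Subgroup.mem_centralizer_singleton_iff.1 hoc
    obtain ⟨m, n, rfl⟩ := mem_pairSubgroup_iff.1 he
    obtain ⟨i, hi⟩ := zpow_three (f_cube h6) m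
    obtain ⟨j, hj⟩ := zpow_three ((pow_three_C (φ := φ)).2.1) n
    rw [hi, hj] at hoc' he1
    rw [Subgroup.mem_centralizer_singleton_iff]
    by_cases hm : 3 ∣ (i : ℕ)
    · have hi0 : (i : ℕ) = 0 := by omega
      rw [hi0, pow_zero, one_mul] at hoc' he1
      have hj' : (j : ℕ) = 1 ∨ (j : ℕ) = 2 := by
        rcases eq_or_ne (j : ℕ) 0 with e | e
        · rw [e, pow_zero] at he1; exact absurd rfl he1
        · omega
      rcases hj' with e | e <;> rw [e] at hoc'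
      · simpa using hoc'.eq
      · have h4 := hoc'.pow_right 2
        rw [← pow_mul, pow_succ, pow_three_C.2.1, one_mul] at h4
        exact h4.eq
    · have hc3 := comm_cube hF h6 hm hoc'
      have hm' : o * φ C2 * o⁻¹ * (φ C2)⁻¹ ∈ O.map X.subtype := by
        have := mul_mem hoO (hcO _ (inv_mem hoO))
        simpa [mul_assoc] using this
      have h1 := hone _ hm' hc3
      rwa [mul_inv_eq_one, mul_inv_eq_iff_eq_mul] at h1
  intro M hM h3
  refine (Subgroup.map_mono (hall M hM h3)).trans fun o ho => ?_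
  have hoX : o ∈ X := Subgroup.map_subtype_le O ho
  obtain ⟨k, v, hv, rfl⟩ := XS_cent_C2 h6 hoX (Subgroup.mem_centralizer_singleton_iff.1 (hle ho))
  have hcv : Commute (φ C2 ^ k) v := V_central h6 hv (zpow_mem (C2_mem h6) k)
  have h2 : (φ C2 ^ k) ^ 2 ∈ O.map X.subtype := by
    have := pow_mem ho 2
    rwa [hcv.mul_pow, pow_two v, V_sq h6 hv, mul_one] at this
  have h1 : (φ C2 ^ k) ^ 3 = 1 := by
    rw [← zpow_natCast, ← zpow_mul, mul_comm, zpow_mul, zpow_natCast, pow_three_C.2.1, one_zpow]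
  have h6' := hone _ h2 (by rw [← pow_mul, mul_comm, pow_mul, h1, one_pow])
  rw [pow_succ, h6', one_mul] at h1
  rwa [h1, one_mul]

theorem no_large {p c : ℕ} (hpc : p = 5 ∧ c = 60 ∨ p = 7 ∧ c = 168)
    (hcard : Nat.card (XS φ ι) = 8 * c) : False := by
  classical
  have hp : p.Prime := by rcases hpc with ⟨rfl, -⟩ | ⟨rfl, -⟩ <;> norm_num
  haveI := Fact.mk hp
  set X := XS φ ι with hX
  obtain ⟨P⟩ : Nonempty (Sylow p X) := inferInstance
  have hPp : Nat.card P = p := by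
    obtain ⟨k, hk⟩ := IsPGroup.iff_card.1 P.isPGroup'
    have h1 : p ∣ Nat.card (P : Subgroup X) :=
      P.dvd_card_of_dvd_card (by rw [hcard]; rcases hpc with ⟨rfl, rfl⟩ | ⟨rfl, rfl⟩ <;> norm_num)
    have h2 := (P : Subgroup X).card_subgroup_dvd_card
    rw [hcard] at h2
    rw [hk] at h1 h2 ⊢
    rcases k with _ | _ | k
    · exact absurd (Nat.le_of_dvd one_pos h1) (by have := hp.two_le; omega)
    · simp
    · exfalso
      have h3 : p ^ 2 ∣ 8 * c := (pow_dvd_pow p (by omega)).trans h2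
      rcases hpc with ⟨rfl, rfl⟩ | ⟨rfl, rfl⟩ <;> norm_num at h3
  have hn1 := card_sylow_modEq_one p X
  set N := Subgroup.normalizer ((P : Subgroup X) : Set X)
  have hnN : Nat.card (Sylow p X) * Nat.card N = 8 * c := by
    rw [← hcard, P.card_eq_index_normalizer, mul_comm]
    exact N.card_mul_index
  have hd1 : p ∣ Nat.card N := hPp ▸ Subgroup.card_dvd_of_le Subgroup.le_normalizer
  have hd8 : 8 ∣ Nat.card N := by
    have hle : (VS φ ι).subgroupOf X ≤ N := fun v hv => by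
      refine Subgroup.mem_normalizer_iff.2 fun x => ?_
      have : v * x * v⁻¹ = x := Subtype.ext (by
        have hvG : (v : G) ∈ VS φ ι := hv
        show (v : G) * x * (v : G)⁻¹ = x
        rw [← (V_central h6 hvG x.2).eq, mul_inv_cancel_right])
      rw [this]
    have := Subgroup.card_dvd_of_le hle
    rwa [Nat.card_congr (Subgroup.subgroupOfEquivOfLe (VS_le h6)).toEquiv, card_VS h6] at this
  have hd : 8 * p ∣ Nat.card N := Nat.Coprime.mul_dvd_of_dvd_of_dvd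
    (by rcases hpc with ⟨rfl, -⟩ | ⟨rfl, -⟩ <;> norm_num) hd8 hd1
  obtain ⟨q, hq⟩ := hd
  have hn : Nat.card (Sylow p X) ≤ 8 ∧ (p = 7 → ¬ 3 ∣ Nat.card (Sylow p X)) := by
    rw [hq] at hnN
    unfold Nat.ModEq at hn1
    rcases hpc with ⟨rfl, rfl⟩ | ⟨rfl, rfl⟩
    · have hdv : Nat.card (Sylow 5 X) ∣ 12 := ⟨q, by
        refine Nat.eq_of_mul_eq_mul_left (show 0 < 40 by norm_num) ?_
        calc 40 * 12 = 8 * 60 := by norm_num
          _ = _ := hnN.symm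
          _ = _ := by ring⟩
      have hle := Nat.le_of_dvd (by norm_num) hdv
      interval_cases Nat.card (Sylow 5 X) <;> omega
    · have hdv : Nat.card (Sylow 7 X) ∣ 24 := ⟨q, by
        refine Nat.eq_of_mul_eq_mul_left (show 0 < 56 by norm_num) ?_
        calc 56 * 24 = 8 * 168 := by norm_num
          _ = _ := hnN.symm
          _ = _ := by ring⟩
      have hle := Nat.le_of_dvd (by norm_num) hdv
      interval_cases Nat.card (Sylow 7 X) <;> omega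
  let f' : Subgroup.normalizer (X : Set G) := ⟨_, f_mem h6⟩
  let c' : Subgroup.normalizer (X : Set G) := ⟨φ C2, Subgroup.le_normalizer (C2_mem h6)⟩
  have hfc : Commute f' c' := Subtype.ext (f_comm h6).eq
  have hf3 : f' ^ 3 = 1 := Subtype.ext (f_cube h6)
  have hc3 : c' ^ 3 = 1 := Subtype.ext pow_three_C.2.1
  have finish : ∀ (m n : ℕ) (r : X), orderOf r = p → ¬ (3 ∣ m ∧ 3 ∣ n) →
      act X (f' ^ m * c' ^ n) r = r → False := by
    intro m n r hr hmn he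
    have h1 : Commute (r : G) (i2 φ ι f6 ^ m * φ C2 ^ n) := by
      have he' : (i2 φ ι f6 ^ m * φ C2 ^ n) * r * (i2 φ ι f6 ^ m * φ C2 ^ n)⁻¹ = r :=
        congrArg Subtype.val he
      exact (mul_inv_eq_iff_eq_mul.1 he').symm
    have hrp : (r : G) ^ p = 1 := by
      rw [← hr, ← Subgroup.orderOf_coe, pow_orderOf_eq_one]
    have h2 := no_cent hF h6 (by rcases hpc with ⟨h, -⟩ | ⟨h, -⟩ <;> simp [h]) r.2 hrp m n hmn h1
    rw [show r = 1 from Subtype.ext h2, orderOf_one] at hr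
    exact hp.ne_one hr.symm
  have hsyl : ∀ R : Sylow p X, ∃ r : X, orderOf r = p ∧ (R : Subgroup X) = Subgroup.zpowers r := by
    intro R
    refine exists_gen _ ?_
    rw [Sylow.card_eq_multiplicity, ← P.card_eq_multiplicity, hPp]
  have hkey : ∀ (u : Subgroup.normalizer (X : Set G)), u ^ 3 = 1 → ∀ (R : Sylow p X) (r : X),
      orderOf r = p → (R : Subgroup X) = Subgroup.zpowers r → act X u • R = R →
      ∃ k < p, act X u r = r ^ k ∧ k ^ 3 % p = 1 := by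
    intro u hu R r hr hR he
    obtain ⟨k, hk⟩ := fix_pow _ R hR he
    refine ⟨k % p, Nat.mod_lt _ hp.pos, by rw [hk, ← hr, pow_mod_orderOf], ?_⟩
    have h3 := act_pow_apply hk 3
    rw [← map_pow, hu, map_one, MulAut.one_apply] at h3
    have h4 : r ^ 1 = r ^ k ^ 3 := by rw [pow_one]; exact h3
    rw [pow_eq_pow_iff_modEq, hr] at h4
    rw [← Nat.pow_mod, ← h4, Nat.mod_eq_of_lt hp.one_lt]
  rcases hpc with ⟨rfl, rfl⟩ | ⟨rfl, rfl⟩
  · haveI := Fintype.ofFinite (Sylow 5 X)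
    obtain ⟨⟨i, j⟩, ⟨i', j'⟩, hne, he⟩ := Fintype.exists_ne_map_eq_of_card_lt
      (fun q : Fin 3 × Fin 3 => act X (f' ^ (q.1 : ℕ) * c' ^ (q.2 : ℕ)) • P) (by
        rw [← Nat.card_eq_fintype_card]
        simp only [Fintype.card_prod, Fintype.card_fin]
        omega)
    obtain ⟨m, hm⟩ : ∃ m, m = (i : ℕ) + (3 - (i' : ℕ)) := ⟨_, rfl⟩
    obtain ⟨n, hn'⟩ : ∃ n, n = (j : ℕ) + (3 - (j' : ℕ)) := ⟨_, rfl⟩
    have hu : (f' ^ (i' : ℕ) * c' ^ (j' : ℕ))⁻¹ * (f' ^ (i : ℕ) * c' ^ (j : ℕ)) = f' ^ m * c' ^ n := by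
      rw [inv_mul_eq_iff_eq_mul, mul_assoc, ← mul_assoc (c' ^ (j' : ℕ)), (hfc.symm.pow_pow _ m).eq,
        mul_assoc, ← pow_add, ← mul_assoc, ← pow_add, show (i' : ℕ) + m = i + 3 by omega,
        show (j' : ℕ) + n = j + 3 by omega, pow_add, hf3, mul_one, pow_add, hc3, mul_one]
    have hfix : act X (f' ^ m * c' ^ n) • P = P := by
      rw [← hu, map_mul, mul_smul, map_inv, inv_smul_eq_iff]
      exact he
    have hu3 : (f' ^ m * c' ^ n) ^ 3 = 1 := by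
      rw [(hfc.pow_pow m n).mul_pow, ← pow_mul, mul_comm m, pow_mul, hf3, ← pow_mul, mul_comm n,
        pow_mul, hc3, one_pow, one_pow, one_mul]
    obtain ⟨r, hr, hR⟩ := hsyl P
    obtain ⟨k, hk, hk', hk3⟩ := hkey _ hu3 P r hr hR hfix
    rw [mod_five k hk hk3, pow_one] at hk'
    refine finish m n r hr (fun h => hne ?_) hk'
    obtain ⟨h1, h2⟩ := h
    have := i.2; have := i'.2; have := j.2; have := j'.2
    simp only [Prod.mk.injEq, Fin.ext_iff]
    omega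
  · haveI := Fintype.ofFinite (Sylow 7 X)
    let g := (MulAction.toPermHom (MulAut X) (Sylow 7 X)).comp (act X)
    obtain ⟨R, hRf, hRc⟩ := exists_common_fixed (g f') (g c') (by rw [← map_pow, hf3, map_one])
      (by rw [← map_pow, hc3, map_one]) (by rw [← map_mul, ← map_mul, hfc.eq]) (hn.2 rfl)
    obtain ⟨r, hr, hR⟩ := hsyl R
    obtain ⟨k, hk, hk', hk3⟩ := hkey f' hf3 R r hr hR hRf
    obtain ⟨l, hl, hl', hl3⟩ := hkey c' hc3 R r hr hR hRc
    obtain ⟨m, n, hmn, hkl⟩ := mod_seven k hk l hl hk3 hl3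
    refine finish m n r hr ?_ ?_
    · rintro ⟨h1, h2⟩
      have := m.2; have := n.2
      exact hmn ⟨Fin.ext (by simp; omega), Fin.ext (by simp; omega)⟩
    · rw [map_mul, MulAut.mul_apply, map_pow, map_pow, act_pow_apply hl' n, map_pow,
        act_pow_apply hk' m, ← pow_mul, ← pow_mod_orderOf, hr, hkl, pow_one]

theorem card_XS : Nat.card (XS φ ι) = 48 := by
  classical
  set X := XS φ ι with hX
  let V : Subgroup X := (VS φ ι).subgroupOf X
  have hVc : Nat.card V = 8 := by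
    rw [Nat.card_congr (Subgroup.subgroupOfEquivOfLe (VS_le h6)).toEquiv, card_VS h6]
  haveI : V.Normal := ⟨fun v hv x => by
    show ((x * v * x⁻¹ : X) : G) ∈ VS φ ι
    push_cast
    have hvG : (v : G) ∈ VS φ ι := hv
    rw [(V_central h6 hvG x.2).eq, mul_inv_cancel_right]
    exact hvG⟩
  have hXQ : Nat.card X = Nat.card (X ⧸ V) * 8 := by
    rw [← hVc]
    exact Subgroup.card_eq_card_quotient_mul_card_subgroup V
  set c : X := ⟨φ C2, C2_mem h6⟩
  set x : X ⧸ V := QuotientGroup.mk c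
  have hC3 : φ C2 ^ 3 = 1 := pow_three_C.2.1
  have hx3 : x ^ 3 = 1 := by
    rw [← QuotientGroup.mk_pow, show c ^ 3 = 1 from Subtype.ext hC3, QuotientGroup.mk_one]
  have hx1 : x ≠ 1 := fun e => by
    have h1 : φ C2 ∈ VS φ ι := (QuotientGroup.eq_one_iff c).1 e
    have h2 := V_sq h6 h1
    rw [pow_succ, pow_two, h2, one_mul] at hC3
    exact absurd (hF.inj (hC3.trans (map_one φ).symm)) (by decide +kernel)
  have hsc : SC3 x := by
    refine ⟨orderOf_eq_prime hx3 hx1, fun q hq => ?_⟩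
    obtain ⟨g, rfl⟩ := QuotientGroup.mk_surjective q
    have hv : ((g * c * g⁻¹ * c⁻¹ : X) : G) ∈ VS φ ι :=
      (QuotientGroup.eq_one_iff (N := V) (g * c * g⁻¹ * c⁻¹)).1 (by
        simp only [QuotientGroup.mk_mul, QuotientGroup.mk_inv]
        rw [hq.eq]
        show x * _ * _ * x⁻¹ = 1
        group)
    push_cast at hv
    set v := (g : G) * φ C2 * (g : G)⁻¹ * (φ C2)⁻¹ with hvdef
    have h1 : (g : G) * φ C2 * (g : G)⁻¹ = v * φ C2 := by rw [hvdef]; group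
    have h2 : (v * φ C2) ^ 3 = 1 := by rw [← h1, conj_pow, hC3, mul_one, mul_inv_cancel]
    rw [(V_central h6 hv (C2_mem h6)).symm.mul_pow, hC3, mul_one, pow_succ, pow_two,
      V_sq h6 hv, one_mul] at h2
    rw [h2, one_mul, mul_inv_eq_iff_eq_mul] at h1
    obtain ⟨k, v', hv', hk⟩ := XS_cent_C2 h6 g.2 h1
    have hg : (QuotientGroup.mk g : X ⧸ V) = x ^ k := by
      rw [← QuotientGroup.mk_zpow, QuotientGroup.eq]
      show ((g⁻¹ * c ^ k : X) : G) ∈ VS φ ι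
      push_cast
      rw [hk, mul_inv_rev, inv_mul_cancel_right]
      exact inv_mem hv'
    rw [hg]
    obtain ⟨i, hi⟩ := zpow_three hx3 k
    rw [hi]
    fin_cases i
    · exact Or.inl (pow_zero x)
    · exact Or.inr (Or.inl (pow_one x))
    · refine Or.inr (Or.inr (eq_inv_of_mul_eq_one_left ?_))
      show x ^ 2 * x = 1
      rw [← pow_succ, hx3]
  have hN1 : ∀ N : Subgroup (X ⧸ V), N.Normal → ¬ 3 ∣ Nat.card N → N = ⊥ := by
    intro N hN h3
    let M := N.comap (QuotientGroup.mk' V)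
    have hM : Nat.card M = 8 * Nat.card N := by
      have h1 := M.card_mul_index
      rw [show M.index = N.index from
          Subgroup.index_comap_of_surjective _ (QuotientGroup.mk'_surjective V),
        hXQ, ← N.card_mul_index] at h1
      have h2 : 0 < N.index := Nat.pos_of_ne_zero Subgroup.index_ne_zero_of_finite
      exact Nat.eq_of_mul_eq_mul_right h2 (by rw [h1]; ring)
    have hle := core_le hF h6 (hN.comap _) (by
      rw [hM, Nat.prime_three.dvd_mul, not_or]; exact ⟨by norm_num, h3⟩)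
    rw [eq_bot_iff]
    intro q hq
    obtain ⟨g, rfl⟩ := QuotientGroup.mk_surjective q
    exact Subgroup.mem_bot.2 ((QuotientGroup.eq_one_iff g).2 (hle ⟨g, hq, rfl⟩))
  have hne : Nat.card (X ⧸ V) ≠ 3 := fun h => by
    have hd : φ D2 ∈ X := by
      rw [hX, mem_XS, ← w2_34 h6, ← w2_12 h6]
      exact ⟨comm2_D2 h6 _, comm2_D2 h6 _, comm2_D2 h6 _⟩
    have hz : Subgroup.zpowers x = ⊤ := Subgroup.eq_top_of_card_eq _ (by
      rw [Nat.card_zpowers, hsc.ord, h])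
    obtain ⟨k, hk⟩ := Subgroup.mem_zpowers_iff.1
      (hz.ge (Subgroup.mem_top (QuotientGroup.mk (⟨φ D2, hd⟩ : X))))
    rw [← QuotientGroup.mk_zpow, QuotientGroup.eq] at hk
    have hv : ((c ^ k : X) : G)⁻¹ * φ D2 ∈ VS φ ι := hk
    push_cast at hv
    have hc : Commute (φ D2) (φ C2) := by
      have := ((Commute.refl (φ C2)).zpow_left k).mul_left (V_central h6 hv (C2_mem h6)).symm
      rwa [show (c : G) = φ C2 from rfl, mul_inv_cancel_left] at this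
    exact absurd (hF.inj (by rw [map_mul, map_mul]; exact hc.eq : φ (D2 * C2) = φ (C2 * D2)))
      (by decide +kernel)
  rcases tri _ (X ⧸ V) x rfl hsc with ⟨N, hN, hNi, hc⟩ | ⟨N, T, hN, hNT, hT, -, hc, -⟩ | ⟨-, hc⟩
  · rw [hN1 N hN hNi.cop, Subgroup.card_bot] at hc
    rcases hc with hc | hc
    · exact absurd hc hne
    · rw [hXQ, hc]
  · rw [hN1 N hN (fun h => hT.cop (h.trans (Subgroup.card_dvd_of_le hNT.le))),
      Subgroup.card_bot] at hc
    exact (no_large hF h6 (Or.inl ⟨rfl, rfl⟩) (by rw [hXQ, hc])).elim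
  · exact (no_large hF h6 (Or.inr ⟨rfl, rfl⟩) (by rw [hXQ, hc])).elim

end Main

end Cfsg.Agent.S9Chain44X
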