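import Mathlib
import Cfsg.Agent.Lib.S9Model37

/-!
Kernel-evaluated facts on `3 × 3` matrices over the field of three elements and on the nine points,
for the coordinate step of the three-local characterisation of the symmetric group of degree nine.
-/

set_option autoImplicit false
set_option maxRecDepth 100000

namespace Cfsg.Agent.S9CoordMat37

open Equiv S9Model37

abbrev V3 := ZMod 3 × ZMod 3 × ZMod 3
/-- A matrix by its columns. -/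
abbrev M3 := V3 × V3 × V3

def sm (s : ZMod 3) (v : V3) : V3 := (s * v.1, s * v.2.1, s * v.2.2)
def mv (M : M3) (v : V3) : V3 := sm v.1 M.1 + sm v.2.1 M.2.1 + sm v.2.2 M.2.2
def mm (M N : M3) : M3 := (mv M N.1, mv M N.2.1, mv M N.2.2)
def one3 : M3 := ((1, 0, 0), (0, 1, 0), (0, 0, 1))
def diagVec : V3 := (1, 1, 1)

theorem mv_add (M : M3) (u v : V3) : mv M (u + v) = mv M u + mv M v := by
  unfold mv sm
  refine Prod.ext ?_ (Prod.ext ?_ ?_) <;> simp only [Prod.fst_add, Prod.snd_add] <;> ring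

theorem mv_mm (M N : M3) (v : V3) : mv (mm M N) v = mv M (mv N v) := by
  unfold mm mv sm
  refine Prod.ext ?_ (Prod.ext ?_ ?_) <;> simp only [Prod.fst_add, Prod.snd_add] <;> ring

theorem mm_assoc (L M N : M3) : mm (mm L M) N = mm L (mm M N) := by
  refine Prod.ext (mv_mm _ _ _) (Prod.ext (mv_mm _ _ _) (mv_mm _ _ _))

theorem mv_one (v : V3) : mv one3 v = v := by
  unfold mv sm one3
  refine Prod.ext ?_ (Prod.ext ?_ ?_) <;> simp only [Prod.fst_add, Prod.snd_add] <;> ring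

theorem one_mm (M : M3) : mm one3 M = M := Prod.ext (mv_one _) (Prod.ext (mv_one _) (mv_one _))

theorem mm_one (M : M3) : mm M one3 = M := by
  unfold mm mv sm one3
  refine Prod.ext ?_ (Prod.ext ?_ ?_) <;> refine Prod.ext ?_ (Prod.ext ?_ ?_) <;>
    simp only [Prod.fst_add, Prod.snd_add] <;> ring

/-- The six permutations of the frame. -/
def p3 : Fin 6 → M3 := ![((1, 0, 0), (0, 1, 0), (0, 0, 1)), ((0, 1, 0), (0, 0, 1), (1, 0, 0)),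
  ((0, 0, 1), (1, 0, 0), (0, 1, 0)), ((0, 1, 0), (1, 0, 0), (0, 0, 1)),
  ((1, 0, 0), (0, 0, 1), (0, 1, 0)), ((0, 0, 1), (0, 1, 0), (1, 0, 0))]

/-- The same six as permutations of the nine points. -/
def p9 : Fin 6 → P9 := ![1, rot, rot ^ 2, tau, tau * rot, tau * rot ^ 2]

abbrev K := Bool × Bool × Bool × Fin 6

def sg (b : Bool) : ZMod 3 := if b then -1 else 1
def dg (a b c : Bool) : M3 := ((sg a, 0, 0), (0, sg b, 0), (0, 0, sg c))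
def matK (k : K) : M3 := mm (dg k.1 k.2.1 k.2.2.1) (p3 k.2.2.2)
def perK (k : K) : P9 :=
  (if k.1 then d1 else 1) * (if k.2.1 then d2 else 1) * (if k.2.2.1 then d3 else 1) * p9 k.2.2.2

def idx (M : M3) : K :=
  (decide (M.1.1 + M.2.1.1 + M.2.2.1 = 2), decide (M.1.2.1 + M.2.1.2.1 + M.2.2.2.1 = 2),
    decide (M.1.2.2 + M.2.1.2.2 + M.2.2.2.2 = 2),
    if M.1.1 ≠ 0 then (if M.2.1.2.1 ≠ 0 then 0 else 4)
    else if M.1.2.1 ≠ 0 then (if M.2.1.1 ≠ 0 then 3 else 1)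
    else (if M.2.1.1 ≠ 0 then 2 else 5))

/-- The frame `eᵢ + b (e₁ + e₂ + e₃)`. -/
def fr (b : ZMod 3) : M3 := ((1 + b, b, b), (b, 1 + b, b), (b, b, 1 + b))

def inMon (b : ZMod 3) (M : M3) : Bool :=
  matK (idx (mm (fr (-b)) (mm M (fr b)))) == mm (fr (-b)) (mm M (fr b))

def inU (M : M3) : Bool := inMon 0 M || inMon 1 M || inMon 2 M

def bad (M : M3) : Bool := mv M diagVec == diagVec && !((List.finRange 6).any fun p => p3 p == M)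

/-- The six block permutations as functions. -/
def pF : Fin 6 → Fin 9 → Fin 9 :=
  ![![0, 1, 2, 3, 4, 5, 6, 7, 8],
    ![3, 4, 5, 6, 7, 8, 0, 1, 2],
    ![6, 7, 8, 0, 1, 2, 3, 4, 5],
    ![3, 4, 5, 0, 1, 2, 6, 7, 8],
    ![0, 1, 2, 6, 7, 8, 3, 4, 5],
    ![6, 7, 8, 3, 4, 5, 0, 1, 2]]

/-- The sign change on one point. -/
def rfl01 : Fin 9 → Fin 9 := ![1, 0, 2, 4, 3, 5, 7, 6, 8]

def perF (k : K) (i : Fin 9) : Fin 9 :=
  let j := pF k.2.2.2 i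
  if (![k.1, k.2.1, k.2.2.1] (Fin.ofNat 3 (j.val / 3))) then rfl01 j else j

def shF (v : V3) (i : Fin 9) : Fin 9 :=
  Fin.ofNat 9 (3 * (i.val / 3) + (i.val + (![v.1, v.2.1, v.2.2] (Fin.ofNat 3 (i.val / 3))).val) % 3)

theorem perK_apply : ∀ k : K, ∀ i, perK k i = perF k i := by decide +kernel

theorem idx_matK : ∀ k : K, idx (matK k) = k := by decide +kernel

theorem mulK (k l : K) : mm (matK k) (matK l) = matK (idx (mm (matK k) (matK l))) ∧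
    ∀ i, perK (idx (mm (matK k) (matK l))) i = perK k (perK l i) := by
  simp only [perK_apply]
  revert k l
  decide +kernel

/-- The element of the base with given coordinates. -/
def bv (v : V3) : P9 := c1 ^ v.1.val * c2 ^ v.2.1.val * c3 ^ v.2.2.val

theorem bv_apply : ∀ v : V3, ∀ i, bv v i = shF v i := by decide +kernel

theorem bv_add : ∀ u v : V3, ∀ i, bv (u + v) i = bv u (bv v i) := by
  simp only [bv_apply]
  decide +kernel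

theorem bv_inj : ∀ u v : V3, (∀ i, bv u i = bv v i) → u = v := by
  simp only [bv_apply]
  decide +kernel

theorem perK_bv : ∀ k : K, ∀ v : V3, ∀ i, perK k (bv v i) = bv (mv (matK k) v) (perK k i) := by
  simp only [bv_apply, perK_apply]
  decide +kernel

theorem bv_perK_one : ∀ k : K, ∀ v : V3, (∀ i, bv v (perK k i) = i) →
    k = (false, false, false, 0) ∧ v = 0 := by
  simp only [bv_apply, perK_apply]
  decide +kernel

theorem fr_inv : ∀ b : ZMod 3, mm (fr b) (fr (-b)) = one3 ∧ mm (fr (-b)) (fr b) = one3 ∧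
    mv (fr b) diagVec = diagVec ∧ ∀ p, mm (fr (-b)) (mm (p3 p) (fr b)) = p3 p := by decide +kernel

def conjK (b : ZMod 3) (k : K) : M3 := mm (fr b) (mm (matK k) (fr (-b)))

theorem conjK_meet : ∀ b c : ZMod 3, b ≠ c → ∀ k, inMon c (conjK b k) = true →
    inMon 0 (conjK b k) = true := by decide +kernel

theorem conjK_pair : ∀ b c : ZMod 3, b ≠ c → ∀ x y z : Bool,
    inMon c (conjK b (x, y, z, 0)) = false → ∀ x' y' z' : Bool,
    inMon b (conjK c (x', y', z', 0)) = false →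
    inU (mm (conjK b (x, y, z, 0)) (conjK c (x', y', z', 0))) = false := by decide +kernel

/-- There are no transvections among the monomial matrices. -/
theorem no_transvection : ∀ k : K, mm (matK k) (mm (matK k) (matK k)) = one3 →
    8 < (Finset.univ.filter fun v => mv (matK k) v = v).card → matK k = one3 := by decide +kernel

theorem p3_table : ∀ p : Fin 6, p3 p = matK (false, false, false, p) ∧
    perK (false, false, false, p) = p9 p := fun p => by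
  refine ⟨by revert p; decide +kernel, ?_⟩
  simp [perK]

def vOf (n : ℕ) : V3 := ((n : ZMod 3), ((n / 3 : ℕ) : ZMod 3), ((n / 9 : ℕ) : ZMod 3))

theorem vOf_surj : ∀ v : V3, ∃ n : Fin 27, vOf n = v := by decide +kernel

/-- Evaluation of the word with code `n`: letters are digits in base seven. -/
def wordVal (M : M3) : ℕ → ℕ → M3 → M3
  | 0, _, g => g
  | fuel + 1, n, g =>
    if n = 0 then g else wordVal M fuel (n / 7) (mm (mm g (p3 (Fin.ofNat 6 (n % 7 - 1)))) M)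

def check1 (M : M3) (c : ℕ) : Bool :=
  if c = 0 then inU M
  else if c < 27 then (vOf c != 0) && (mv M (vOf c) == 0)
  else bad (wordVal M 6 (c - 27) M)

def rows (i : ℕ) : List M3 :=
  ((List.range 27).filter (fun j => i < j)).flatMap fun j =>
    ((List.range 27).filter (fun k => j < k)).map fun k => (vOf i, vOf j, vOf k)

/-- One witness for every matrix with increasing columns. -/
def table : List (List ℕ) :=
[
  [1, 1, 1, 1, 1, 1, 1, 1, 1, 1, 1, 1, 1, 1, 1, 1, 1, 1, 1, 1, 1, 1, 1, 1, 1, 1, 1, 1, 1, 1, 1, 1, 1, 1, 1, 1, 1, 1, 1, 1, 1, 1, 1, 1, 1, 1, 1, 1, 1, 1, 1, 1, 1, 1, 1, 1, 1, 1, 1, 1, 1, 1, 1, 1, 1, 1, 1, 1, 1, 1, 1, 1, 1, 1, 1, 1, 1, 1, 1, 1, 1, 1, 1, 1, 1, 1, 1, 1, 1, 1, 1, 1, 1, 1, 1, 1, 1, 1, 1, 1, 1, 1, 1, 1, 1, 1, 1, 1, 1, 1, 1, 1, 1, 1, 1, 1, 1, 1, 1, 1, 1, 1, 1, 1, 1, 1, 1, 1, 1, 1, 1, 1, 1, 1, 1, 1, 1, 1, 1, 1, 1, 1, 1, 1, 1, 1, 1, 1,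 1, 1, 1, 1, 1, 1, 1, 1, 1, 1, 1, 1, 1, 1, 1, 1, 1, 1, 1, 1, 1, 1, 1, 1, 1, 1, 1, 1, 1, 1, 1, 1, 1, 1, 1, 1, 1, 1, 1, 1, 1, 1, 1, 1, 1, 1, 1, 1, 1, 1, 1, 1, 1, 1, 1, 1, 1, 1, 1, 1, 1, 1, 1, 1, 1, 1, 1, 1, 1, 1, 1, 1, 1, 1, 1, 1, 1, 1, 1, 1, 1, 1, 1, 1, 1, 1, 1, 1, 1, 1, 1, 1, 1, 1, 1, 1, 1, 1, 1, 1, 1, 1, 1, 1, 1, 1, 1, 1, 1, 1, 1, 1, 1, 1, 1, 1, 1, 1, 1, 1, 1, 1, 1, 1, 1, 1, 1, 1, 1, 1, 1, 1, 1, 1, 1, 1, 1, 1, 1, 1, 1, 1, 1, 1, 1, 1, 1, 1, 1, 1, 1, 1, 1, 1, 1, 1, 1, 1, 1, 1, 1, 1, 1, 1, 1, 1, 1, 1, 1, 1, 1, 1, 1, 1, 1, 1, 1],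
  [4, 4, 4, 4, 4, 4, 4, 4, 4, 4, 4, 4, 4, 4, 4, 4, 4, 4, 4, 4, 4, 4, 4, 4, 17, 16, 12, 14, 13, 0, 63, 63, 70, 99, 72, 70, 64, 189, 0, 33, 50, 32, 29, 32, 57, 33, 0, 17, 14, 13, 12, 63, 99, 27, 56, 50, 70, 38, 56, 70, 53, 281, 42, 28, 28, 28, 46, 51, 64, 13, 12, 14, 63, 27, 189, 53, 70, 56, 56, 70, 40, 64, 186, 37, 28, 28, 28, 53, 71, 43, 17, 16, 0, 46, 65, 33, 245, 94, 27, 35, 35, 0, 29, 32, 36, 288, 101, 49, 204, 238, 17, 31, 282, 137, 162, 31, 247, 35, 35, 27, 29, 0, 32, 58, 100, 50, 42, 45, 140, 71, 49, 36, 36, 49, 50, 35, 27, 35, 32, 32, 29, 252, 31, 182, 31, 252, 182, 17, 16, 51, 133, 70, 28, 28, 28, 12, 14, 13, 51, 49, 85, 71, 30, 0, 17, 44, 70, 53, 28, 28, 28, 14, 13, 12, 64, 44, 38, 56, 70, 38, 70, 50, 52, 28, 28, 28, 13, 12, 14, 38, 50, 65, 70, 50, 56, 17, 16, 140, 203, 183, 31, 212, 37, 196, 231, 329, 12, 14, 13, 17, 135, 184, 91, 336, 33, 42, 231,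 329, 147, 14, 13, 12, 40, 29, 53, 103, 337, 64, 44, 31, 42, 13, 12, 14, 17, 16, 37, 71, 364, 12, 14, 13, 238, 70, 134, 17, 296, 92, 33, 14, 13, 12, 30, 140, 183, 96, 36, 133, 13, 12, 14, 98, 106, 70, 17, 16, 27, 63, 63, 39, 168, 155, 17, 63, 63, 27, 45, 57, 183, 63, 27, 63, 29, 309, 190, 17, 16, 329, 36, 231, 17, 33, 231, 329, 231, 329, 50, 17, 16, 17],
  [16, 17, 12, 13, 14, 0, 32, 27, 54, 238, 35, 71, 101, 35, 0, 37, 42, 29, 345, 239, 33, 94, 245, 16, 13, 14, 12, 32, 27, 32, 31, 182, 252, 252, 182, 31, 50, 184, 134, 771, 1127, 29, 65, 57, 64, 14, 12, 13, 27, 32, 0, 52, 35, 57, 52, 57, 35, 31, 137, 282, 72, 29, 57, 162, 247, 31, 16, 17, 0, 71, 33, 50, 0, 33, 32, 32, 27, 0, 189, 99, 147, 189, 70, 93, 63, 99, 16, 36, 134, 186, 65, 149, 36, 28, 27, 28, 147, 189, 28, 39, 70, 532, 63, 45, 93, 49, 184, 281, 49, 46, 142, 27, 28, 28, 93, 28, 99, 70, 39, 147, 532,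 40, 63, 16, 17, 37, 155, 65, 28, 239, 239, 12, 13, 14, 49, 288, 65, 30, 288, 169, 16, 29, 190, 309, 1136, 1316, 28, 13, 14, 12, 309, 190, 29, 35, 35, 35, 71, 64, 45, 50, 28, 44, 14, 12, 13, 71, 49, 64, 232, 138, 29, 16, 17, 343, 91, 29, 64, 64, 42, 231, 329, 31, 12, 13, 14, 16, 71, 49, 58, 0, 190, 53, 50, 72, 42, 13, 14, 12, 49, 134, 196, 31, 50, 197, 71, 231, 329, 14, 12, 13, 16, 17, 189, 45, 56, 12, 13, 14, 196, 36, 183, 16, 189, 56, 52, 13, 14, 12, 64, 36, 98, 56, 490, 189, 14, 12, 13, 168, 30, 58, 16, 17, 28, 28, 27, 182, 49, 133, 16, 28, 27, 28, 49, 50, 296, 27, 28, 28, 532, 65, 49, 16, 17, 140, 52, 329, 16, 36, 45, 189, 329, 33, 44, 16, 17, 16],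
  [13, 10, 17, 12, 51, 36, 56, 182, 56, 36, 27, 45, 45, 37, 28, 36, 205, 30, 65, 71, 30, 54, 10, 12, 17, 28, 343, 58, 205, 28, 58, 345, 102, 27, 28, 39, 52, 0, 99, 70, 30, 63, 147, 4, 4, 4, 4, 4, 4, 4, 4, 4, 4, 4, 4, 4, 4, 4, 4, 4, 4, 4, 4, 14, 51, 57, 38, 27, 42, 42, 86, 38, 57, 49, 30, 65, 296, 30, 42, 57, 28, 72, 64, 56, 70, 63, 63, 27, 56, 72, 70, 30, 252, 28, 30, 28, 252, 28, 133, 133, 65, 31, 17, 189, 28, 16, 64, 31, 12, 65, 70, 14, 56, 32, 13, 135, 0, 329, 42, 17, 280, 56, 16, 296, 28, 280, 12, 295, 231, 14, 57, 147, 13, 28, 182, 17, 30, 54, 16, 58, 12, 190, 47, 14, 49, 140, 13, 184, 42, 30, 17, 65, 30, 14, 46, 38, 13, 72, 43, 12, 56, 56, 184, 36, 17, 246, 169, 190, 14, 29, 134, 13, 71, 330, 12, 30, 29, 17, 337, 14, 32, 147, 13, 183, 29, 12, 296, 63, 28, 13, 42, 45, 12, 65, 63, 14, 53, 35, 57, 239, 53, 13, 152, 28, 12, 65, 45, 14, 239, 13, 189, 71,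 12, 231, 92, 14, 42, 27, 44, 17, 51, 168, 16, 51, 331, 294, 58, 17, 56, 64, 16, 231, 52, 33, 17, 29, 183, 16, 51, 40, 17, 27, 86, 99, 27, 17, 147, 140, 239, 17, 36, 149, 65],
  [17, 12, 10, 140, 203, 93, 93, 203, 98, 38, 27, 38, 294, 98, 28, 71, 49, 58, 42, 134, 189, 14, 10, 33, 31, 252, 27, 133, 133, 33, 252, 31, 57, 1115, 71, 134, 777, 50, 184, 29, 72, 10, 196, 231, 49, 280, 280, 27, 231, 189, 49, 329, 43, 71, 329, 64, 231, 28, 36, 280, 4, 4, 4, 4, 4, 4, 4, 4, 4, 4, 4, 4, 4, 4, 4, 4, 4, 4, 58, 112, 36, 17, 239, 245, 134, 16, 12, 46, 49, 64, 14, 247, 63, 99, 13, 134, 28, 135, 17, 16, 71, 33, 30, 183, 12, 14, 70, 33, 86, 13, 133, 17, 57, 28, 133, 16, 183, 40, 12, 50, 42, 238, 14, 13, 72, 30, 85, 49, 210, 17, 29, 32, 14, 183, 280, 43, 13, 12, 29, 196, 50, 70, 63, 17, 14, 329, 58, 134, 13, 29, 37, 28, 12, 17, 182, 39, 91, 70, 14, 13, 791, 49, 182, 12, 140, 28,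 148, 57, 52, 13, 12, 99, 43, 63, 14, 29, 44, 280, 13, 182, 42, 777, 12, 14, 64, 329, 13, 50, 287, 47, 12, 28, 133, 31, 14, 45, 36, 70, 17, 33, 39, 29, 16, 27, 85, 50, 17, 16, 1218, 70, 17, 135, 93, 85, 16, 57, 63, 1365, 27, 17, 42, 37, 182, 57, 17, 17, 27, 239, 231, 37, 247],
  [10, 14, 37, 71, 28, 184, 190, 27, 138, 50, 28, 189, 46, 70, 189, 63, 52, 28, 490, 99, 4, 4, 4, 4, 4, 4, 4, 4, 4, 4, 4, 4, 4, 4, 4, 4, 4, 4, 4, 336, 56, 337, 27, 147, 147, 91, 106, 56, 196, 36, 190, 71, 42, 91, 154, 28, 72, 52, 51, 28, 190, 17, 40, 16, 50, 12, 42, 36, 30, 54, 14, 308, 13, 184, 247, 17, 63, 28, 36, 281, 16, 197, 52, 12, 92, 14, 189, 13, 72, 30, 86, 17, 133, 16, 58, 149, 28, 12, 247, 14, 65, 100, 182, 182, 13, 231, 65, 98, 56, 17, 1115, 53, 14, 43, 13, 623, 12, 50, 44, 309, 17, 1141, 35, 44, 14, 574, 13, 31, 134, 28, 588, 12, 190, 17, 196, 14, 50, 37, 182, 630, 13, 231,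 12, 203, 50, 287, 38, 13, 63, 12, 49, 39, 36, 52, 14, 28, 13, 49, 40, 92, 147, 12, 204, 14, 56, 36, 39, 13, 184, 12, 70, 14, 337, 32, 45, 27, 42, 36, 17, 42, 16, 135, 184, 17, 133, 231, 45, 44, 16, 140, 17, 70, 16, 72, 231, 190, 196, 42, 184, 17, 280, 17, 27, 57, 27, 17, 140, 287, 1171, 50],
  [13, 27, 63, 63, 30, 56, 44, 0, 40, 56, 28, 42, 343, 345, 28, 102, 205, 36, 28, 38, 38, 27, 184, 72, 30, 205, 135, 30, 182, 42, 1169, 28, 50, 57, 182, 337, 49, 46, 28, 16, 331, 288, 17, 51, 329, 12, 63, 32, 13, 194, 187, 14, 51, 338, 182, 29, 16, 183, 49, 17, 33, 43, 182, 12, 54, 184, 13, 45, 28, 14, 791, 71, 16, 36, 42, 17, 196, 12, 329, 49, 13, 47, 42, 14, 93, 149, 826, 16, 196, 28, 13, 196, 57, 14, 149, 70, 12, 33, 56, 64, 57, 16, 37, 0, 63, 13, 189, 44, 14, 65, 71, 12, 28, 217, 16, 85, 13, 49, 38, 14, 46, 49, 12, 245, 70, 70, 14, 47, 105, 12, 70, 337, 13, 51, 33,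 189, 28, 36, 14, 57, 231, 12, 93, 147, 13, 49, 14, 337, 1141, 12, 32, 280, 13, 36, 31, 183, 16, 31, 43, 17, 27, 189, 119, 30, 16, 49, 27, 17, 182, 49, 50, 16, 623, 280, 17, 27, 53, 16, 30, 183, 49, 30, 16, 287, 56, 33, 16, 30, 63, 71],
  [280, 27, 280, 37, 329, 231, 231, 329, 37, 140, 42, 329, 47, 52, 28, 231, 147, 43, 28, 57, 63, 135, 16, 65, 17, 64, 12, 30, 196, 52, 36, 13, 56, 14, 134, 189, 16, 231, 37, 140, 49, 17, 1184, 70, 12, 50, 13, 40, 14, 1120, 71, 42, 16, 47, 17, 231, 133, 49, 12, 40, 13, 38, 63, 52, 37, 14, 49, 287, 93, 28, 16, 308, 147, 13, 49, 14, 43, 12, 134, 29, 490, 16, 196, 57, 72, 13, 29, 14, 28, 539, 525, 329, 12, 63, 16, 28, 13, 147, 280, 45, 140, 14, 50, 12, 35, 196, 190, 28, 14, 147, 12, 50, 147, 239, 92, 13, 112, 14, 190, 148, 54, 1127, 12, 57, 13, 280, 54, 184, 14, 64, 12, 147, 13, 42, 30, 71, 57, 70, 70, 16, 27, 17, 190, 70, 16, 149,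 134, 86, 133, 17, 38, 16, 281, 17, 27, 897, 287, 53, 329, 182, 16, 27, 16, 231, 37, 70, 16, 65, 44, 231, 364],
  [39, 42, 36, 16, 29, 38, 33, 17, 12, 46, 31, 72, 13, 191, 28, 189, 14, 28, 85, 50, 16, 17, 93, 135, 35, 50, 12, 13, 239, 280, 140, 14, 63, 16, 1218, 56, 85, 17, 71, 42, 12, 135, 45, 42, 13, 14, 72, 329, 65, 231, 28, 16, 135, 57, 13, 183, 57, 182, 14, 12, 336, 49, 35, 476, 57, 16, 13, 29, 196, 28, 14, 280, 190, 119, 12, 16, 28, 134, 37, 217, 13, 14, 30, 64, 33, 12, 29, 37, 42, 56, 70, 14, 12, 38, 44, 190, 13, 154, 329, 58, 14, 29, 288, 32, 12, 13, 51, 30, 14, 238, 1171, 91, 12, 49, 897, 63, 13, 112, 476, 245, 16, 134, 1169, 239, 17, 134, 133, 183, 16, 17, 27, 546, 16, 33, 504, 27, 17, 135, 148, 27, 231, 16, 1113, 49, 33, 45, 16, 16, 196, 56, 1171, 85, 38],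
  [13, 147, 37, 64, 338, 29, 35, 10, 17, 12, 27, 57, 57, 50, 29, 72, 336, 32, 43, 0, 133, 53, 10, 12, 17, 194, 280, 27, 33, 42, 197, 57, 29, 13, 49, 57, 10, 27, 63, 17, 40, 29, 12, 46, 46, 329, 31, 134, 13, 10, 49, 63, 64, 17, 336, 50, 336, 12, 149, 13, 189, 10, 49, 27, 29, 31, 17, 31, 12, 93, 71, 65, 10, 288, 29, 12, 192, 71, 17, 27, 93, 147, 10, 29, 28, 64, 28, 12, 27, 17, 239, 10, 49, 364, 63, 12, 329, 140, 154, 17, 4, 4, 4, 4, 4, 4, 4, 4, 14, 183, 64, 45, 42, 28, 51, 44, 70, 49, 28, 92, 92, 39, 28, 14, 70, 64, 45, 49, 70, 14, 190, 14, 57, 71, 100, 37],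
  [183, 337, 99, 51, 72, 44, 17, 12, 10, 36, 27, 36, 63, 288, 147, 189, 70, 93, 63, 13, 27, 280, 10, 329, 17, 31, 12, 31, 190, 56, 217, 13, 29, 182, 280, 10, 36, 49, 17, 63, 30, 12, 13, 532, 72, 182, 27, 10, 17, 140, 49, 245, 12, 105, 37, 525, 184, 231, 10, 12, 49, 52, 27, 17, 57, 65, 1127, 65, 10, 295, 1127, 12, 183, 42, 17, 71, 329, 10, 51, 12, 28, 17, 27, 280, 14, 10, 30, 140, 29, 184, 28, 51, 10, 147, 134, 38, 28, 63, 99, 4, 4, 4, 4, 4, 4, 28, 280, 37, 14, 28, 47, 14, 36, 280, 133, 29, 14, 182, 65, 296],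
  [134, 36, 57, 13, 476, 134, 10, 27, 231, 42, 17, 12, 45, 58, 252, 13, 29, 280, 149, 10, 189, 17, 1127, 65, 30, 777, 12, 100, 483, 13, 27, 10, 189, 133, 17, 329, 184, 12, 231, 182, 190, 189, 10, 58, 12, 92, 134, 57, 184, 17, 112, 63, 10, 49, 42, 189, 12, 17, 27, 42, 39, 10, 98, 39, 12, 56, 27, 17, 140, 10, 14, 247, 64, 30, 28, 448, 280, 4, 4, 4, 4, 4, 4, 4, 147, 329, 42, 239, 28, 51, 52, 190, 45, 71, 14, 28, 168, 14, 49, 14, 196, 28, 91, 499, 70],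
  [13, 168, 42, 28, 190, 56, 50, 204, 64, 30, 10, 17, 12, 70, 1162, 50, 1267, 232, 93, 50, 1169, 70, 10, 12, 17, 238, 71, 17, 54, 50, 12, 27, 280, 10, 46, 140, 44, 190, 17, 337, 27, 190, 12, 10, 52, 231, 35, 65, 17, 280, 12, 27, 10, 31, 329, 32, 134, 14, 197, 28, 10, 33, 64, 70, 135, 28, 14, 10, 91, 28, 28, 14, 93, 10, 238, 50, 343, 49, 10, 56, 183, 56, 10, 36, 196, 10, 29, 337, 4, 4, 14],
  [31, 85, 44, 49, 1134, 71, 29, 135, 63, 17, 12, 10, 252, 329, 190, 17, 29, 12, 777, 1127, 147, 71, 10, 70, 65, 33, 17, 1127, 140, 12, 43, 36, 10, 17, 686, 112, 777, 12, 99, 196, 182, 10, 51, 39, 63, 14, 44, 58, 70, 10, 85, 14, 197, 63, 532, 134, 10, 1855, 63, 14, 182, 196, 10, 140, 210, 231, 51, 10, 49, 58, 71, 10, 329, 147, 10, 14, 10, 10],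
  [679, 119, 70, 49, 17, 12, 147, 27, 42, 10, 49, 99, 17, 147, 31, 189, 27, 12, 31, 10, 92, 36, 17, 51, 27, 12, 92, 36, 10, 63, 56, 30, 28, 280, 14, 50, 10, 295, 203, 57, 14, 28, 49, 10, 43, 14, 29, 280, 33, 10, 28, 1127, 196, 53, 10, 71, 133, 29, 10, 147, 52, 10, 49, 10, 14, 4],
  [13, 27, 133, 183, 10, 17, 12, 288, 231, 231, 50, 44, 27, 10, 12, 17, 99, 36, 364, 102, 28, 10, 42, 1162, 14, 30, 189, 49, 10, 42, 53, 337, 343, 14, 10, 337, 147, 329, 14, 771, 4, 4, 4, 4, 4, 14, 239, 28, 63, 28, 99, 42, 72, 64, 31],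
  [53, 27, 47, 17, 12, 10, 65, 189, 49, 28, 53, 44, 288, 10, 30, 14, 232, 50, 64, 1267, 10, 14, 140, 44, 37, 29, 10, 33, 39, 14, 14, 10, 280, 28, 57, 10, 28, 189, 182, 4, 4, 4, 184, 28, 63],
  [239, 54, 103, 10, 29, 64, 33, 14, 28, 133, 10, 329, 71, 14, 58, 71, 10, 65, 14, 197, 56, 10, 14, 28, 147, 36, 4, 4, 4, 4, 140, 28, 135, 49, 38, 85],
  [13, 0, 65, 43, 336, 65, 32, 338, 196, 29, 147, 183, 71, 53, 49, 13, 72, 30, 85, 86, 239, 13, 99, 13, 63, 29, 36, 49],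
  [247, 183, 64, 135, 287, 56, 190, 182, 280, 133, 13, 280, 42, 13, 113, 13, 57, 33, 57, 134, 197],
  [64, 58, 280, 13, 239, 184, 13, 72, 30, 770, 36, 13, 1135, 189, 64],
  [13, 99, 140, 134, 134, 70, 197, 50, 35, 29],
  [35, 133, 71, 134, 29, 36],
  [70, 64, 189],
  [13],
  [],
  []]

def rowOk (i : ℕ) : Bool :=
  (rows i).length == (table.getD i []).length &&
    ((rows i).zip (table.getD i [])).all fun p => check1 p.1 p.2

theorem rowOk_all : ∀ i : Fin 27, rowOk i = true := by decide +kernel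

end Cfsg.Agent.S9CoordMat37
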