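import Mathlib
import Cfsg.Agent.Lib.S9CoordMat37

/-!
A set of matrices closed under products, containing the six frame permutations and meeting the
stabiliser of the diagonal vector in them only, is monomial in one of three frames.
-/

set_option autoImplicit false
set_option maxRecDepth 10000

namespace Cfsg.Agent.S9CoordMat37

/-- The properties of an automiser. -/
structure IsAut (A : M3 → Prop) : Prop where
  mul : ∀ {M N}, A M → A N → A (mm M N)
  perm : ∀ p, A (p3 p)
  stab : ∀ {M}, A M → mv M diagVec = diagVec → ∃ p, p3 p = M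
  inj : ∀ {M}, A M → ∀ v, mv M v = 0 → v = 0

theorem isK_iff {M : M3} : (matK (idx M) == M) = true ↔ matK (idx M) = M := beq_iff_eq

theorem inMon_iff (b : ZMod 3) (M : M3) :
    inMon b M = true ↔ ∃ k, M = conjK b k := by
  obtain ⟨h1, h2, -, -⟩ := fr_inv b
  constructor
  · intro h
    refine ⟨idx (mm (fr (-b)) (mm M (fr b))), ?_⟩
    have he : matK (idx (mm (fr (-b)) (mm M (fr b)))) = mm (fr (-b)) (mm M (fr b)) := by
      simpa [inMon] using h
    rw [conjK, he]
    calc M = mm (mm (mm (fr b) (fr (-b))) M) (mm (fr b) (fr (-b))) := by rw [h1, one_mm, mm_one]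
      _ = _ := by simp only [mm_assoc]
  · rintro ⟨k, rfl⟩
    have he : mm (fr (-b)) (mm (conjK b k) (fr b)) = matK k := by
      calc _ = mm (mm (mm (fr (-b)) (fr b)) (matK k)) (mm (fr (-b)) (fr b)) := by
            simp only [conjK, mm_assoc]
        _ = _ := by rw [h2, one_mm, mm_one]
    simp [inMon, he, idx_matK]

theorem inMon_mul {b : ZMod 3} {M N : M3} (hM : inMon b M = true) (hN : inMon b N = true) :
    inMon b (mm M N) = true := by
  obtain ⟨k, rfl⟩ := (inMon_iff b M).1 hM
  obtain ⟨l, rfl⟩ := (inMon_iff b N).1 hN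
  refine (inMon_iff b _).2 ⟨idx (mm (matK k) (matK l)), ?_⟩
  obtain ⟨h1, h2, -, -⟩ := fr_inv b
  have e := (mulK k l).1
  calc mm (conjK b k) (conjK b l)
      = mm (fr b) (mm (mm (mm (matK k) (mm (fr (-b)) (fr b))) (matK l)) (fr (-b))) := by
        simp only [conjK, mm_assoc]
    _ = _ := by rw [h2, mm_one, conjK, ← e]

theorem inMon_p3 (b : ZMod 3) (p : Fin 6) : inMon b (p3 p) = true := by
  obtain ⟨-, -, -, h⟩ := fr_inv b
  have := (p3_table p).1
  simp only [inMon, h p]
  rw [this, idx_matK]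
  simp

theorem p3_inv : ∀ p : Fin 6, ∃ q, mm (p3 p) (p3 q) = one3 := by decide +kernel

theorem inU_iff (M : M3) : inU M = true ↔ ∃ b, inMon b M = true := by
  constructor
  · intro h
    simp only [inU, Bool.or_eq_true] at h
    rcases h with (h | h) | h <;> exact ⟨_, h⟩
  · rintro ⟨b, hb⟩
    have hb3 : b = 0 ∨ b = 1 ∨ b = 2 := (by decide : ∀ b : ZMod 3, b = 0 ∨ b = 1 ∨ b = 2) b
    rcases hb3 with rfl | rfl | rfl <;> simp [inU, hb]

variable {A : M3 → Prop}

theorem word_mem (h : IsAut A) {M : M3} (hM : A M) :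
    ∀ (fuel n : ℕ) (g : M3), A g → A (wordVal M fuel n g)
  | 0, _, _, hg => hg
  | fuel + 1, n, g, hg => by
    unfold wordVal
    split
    · exact hg
    · exact word_mem h hM fuel _ _ (h.mul (h.mul hg (h.perm _)) hM)

theorem inU_of_sorted (h : IsAut A) {i j k : Fin 27} (hij : i < j) (hjk : j < k)
    (hM : A (vOf i, vOf j, vOf k)) : inU (vOf i, vOf j, vOf k) = true := by
  set M : M3 := (vOf i, vOf j, vOf k) with hMdef
  have hmem : M ∈ rows i := by
    simp only [rows, List.mem_flatMap, List.mem_filter, List.mem_range, List.mem_map,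
      decide_eq_true_eq]
    exact ⟨j, ⟨j.2, hij⟩, k, ⟨k.2, hjk⟩, rfl⟩
  have hok := rowOk_all i
  simp only [rowOk, Bool.and_eq_true, beq_iff_eq, List.all_eq_true] at hok
  obtain ⟨n, hn, hne⟩ := List.getElem_of_mem hmem
  have hnt : n < (table.getD (i : ℕ) []).length := hok.1 ▸ hn
  have hz : n < ((rows i).zip (table.getD (i : ℕ) [])).length := by
    rw [List.length_zip]; omega
  have hc := hok.2 _ (List.getElem_mem hz)
  rw [List.getElem_zip] at hc
  simp only [hne] at hc
  generalize (table.getD (i : ℕ) [])[n] = c at hc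
  unfold check1 at hc
  split at hc
  · exact hc
  split at hc
  · simp only [Bool.and_eq_true, bne_iff_ne, ne_eq, beq_iff_eq] at hc
    exact absurd (h.inj hM _ hc.2) hc.1
  · simp only [bad, Bool.and_eq_true, beq_iff_eq, Bool.not_eq_true', List.any_eq_false,
      List.mem_finRange, forall_const] at hc
    obtain ⟨p, hp⟩ := h.stab (word_mem h hM 6 (c - 27) M hM) hc.1
    exact absurd hp (hc.2 p)

theorem exists_inMon (h : IsAut A) {M : M3} (hM : A M) : ∃ b, inMon b M = true := by
  obtain ⟨i, hi⟩ := vOf_surj M.1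
  obtain ⟨j, hj⟩ := vOf_surj M.2.1
  obtain ⟨k, hk⟩ := vOf_surj M.2.2
  have hne : ∀ u : V3, mv M u = 0 → u ≠ 0 → False := fun u hu h0 => h0 (h.inj hM u hu)
  have hij : i ≠ j := by
    rintro rfl
    refine hne (1, -1, 0) ?_ (by decide)
    show sm 1 M.1 + sm (-1) M.2.1 + sm 0 M.2.2 = 0
    rw [← hi, ← hj]
    refine Prod.ext ?_ (Prod.ext ?_ ?_) <;> simp [sm]
  have hik : i ≠ k := by
    rintro rfl
    refine hne (1, 0, -1) ?_ (by decide)
    show sm 1 M.1 + sm 0 M.2.1 + sm (-1) M.2.2 = 0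
    rw [← hi, ← hk]
    refine Prod.ext ?_ (Prod.ext ?_ ?_) <;> simp [sm]
  have hjk : j ≠ k := by
    rintro rfl
    refine hne (0, 1, -1) ?_ (by decide)
    show sm 0 M.1 + sm 1 M.2.1 + sm (-1) M.2.2 = 0
    rw [← hj, ← hk]
    refine Prod.ext ?_ (Prod.ext ?_ ?_) <;> simp [sm]
  have key : ∀ (p : Fin 6) (a b c : Fin 27), a < b → b < c →
      mm M (p3 p) = (vOf a, vOf b, vOf c) → ∃ b, inMon b M = true := by
    intro p a b c hab hbc he
    have hA : A (mm M (p3 p)) := h.mul hM (h.perm p)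
    rw [he] at hA
    obtain ⟨f, hf⟩ := (inU_iff _).1 (inU_of_sorted h hab hbc hA)
    rw [← he] at hf
    obtain ⟨q, hq⟩ := p3_inv p
    refine ⟨f, ?_⟩
    have := inMon_mul hf (inMon_p3 f q)
    rwa [mm_assoc, hq, mm_one] at this
  have hM3 : M = (vOf i, vOf j, vOf k) := by rw [hi, hj, hk]
  rcases lt_trichotomy i j with a | a | a
  · rcases lt_trichotomy j k with b | b | b
    · exact key 0 i j k a b (by rw [hM3]; simp [mm, mv, sm, p3, Prod.ext_iff])
    · exact absurd b hjk
    · rcases lt_trichotomy i k with c | c | c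
      · exact key 4 i k j c b (by rw [hM3]; simp [mm, mv, sm, p3, Prod.ext_iff])
      · exact absurd c hik
      · exact key 2 k i j c a (by rw [hM3]; simp [mm, mv, sm, p3, Prod.ext_iff])
  · exact absurd a hij
  · rcases lt_trichotomy i k with b | b | b
    · exact key 3 j i k a b (by rw [hM3]; simp [mm, mv, sm, p3, Prod.ext_iff])
    · exact absurd b hik
    · rcases lt_trichotomy j k with c | c | c
      · exact key 1 j k i c b (by rw [hM3]; simp [mm, mv, sm, p3, Prod.ext_iff])
      · exact absurd c hjk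
      · exact key 5 k j i c a (by rw [hM3]; simp [mm, mv, sm, p3, Prod.ext_iff])

theorem diag_split : ∀ k : K, ∃ q, mm (matK k) (p3 q) = matK (k.1, k.2.1, k.2.2.1, 0) := by
  decide +kernel

/-- Move to the sign part, keeping outside a second frame. -/
theorem exists_diag (h : IsAut A) {b c : ZMod 3} {M : M3} (hM : A M) (hb : inMon b M = true)
    (hc : ¬ inMon c M = true) : ∃ M', A M' ∧ inMon b M' = true ∧ inMon c M' = false ∧
      ∃ x y z, M' = conjK b (x, y, z, 0) := by
  obtain ⟨k, rfl⟩ := (inMon_iff b M).1 hb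
  obtain ⟨q, hq⟩ := diag_split k
  refine ⟨mm (conjK b k) (p3 q), h.mul hM (h.perm q), inMon_mul hb (inMon_p3 b q), ?_,
    k.1, k.2.1, k.2.2.1, ?_⟩
  · refine Bool.eq_false_iff.2 fun hcq => hc ?_
    obtain ⟨r, hr⟩ := p3_inv q
    have := inMon_mul hcq (inMon_p3 c r)
    rwa [mm_assoc, hr, mm_one] at this
  · obtain ⟨h1, h2, -, h4⟩ := fr_inv b
    have hp : p3 q = mm (fr b) (mm (p3 q) (fr (-b))) := by
      conv_rhs => rw [← h4 q]
      calc p3 q = mm (mm (fr b) (fr (-b))) (mm (p3 q) (mm (fr b) (fr (-b)))) := by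
            rw [h1, one_mm, mm_one]
        _ = _ := by simp only [mm_assoc]
    rw [conjK, hp, conjK, ← hq]
    calc _ = mm (fr b) (mm (mm (matK k) (mm (fr (-b)) (fr b))) (mm (p3 q) (fr (-b)))) := by
          simp only [mm_assoc]
      _ = _ := by rw [h2, mm_one]; simp only [mm_assoc]

/-- An automiser is monomial in one of the three frames. -/
theorem exists_frame (h : IsAut A) : ∃ b, ∀ M, A M → inMon b M = true := by
  by_contra hne
  push Not at hne
  obtain ⟨M, hM, hM0⟩ := hne 0
  obtain ⟨b, hb⟩ := exists_inMon h hM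
  obtain ⟨N, hN, hNb⟩ := hne b
  obtain ⟨c, hc⟩ := exists_inMon h hN
  have hbc : b ≠ c := fun e => hNb (e ▸ hc)
  have hMc : inMon c M = false := by
    refine Bool.eq_false_iff.2 fun hMc => hM0 ?_
    obtain ⟨k, rfl⟩ := (inMon_iff b M).1 hb
    exact conjK_meet b c hbc k hMc
  obtain ⟨M', hM', hb', hc', x, y, z, rfl⟩ := exists_diag h hM hb (fun e => by rw [hMc] at e; simp at e)
  obtain ⟨N', hN', hcN, hbN, x', y', z', rfl⟩ := exists_diag h hN hc hNb
  obtain ⟨d, hd⟩ := exists_inMon h (h.mul hM' hN')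
  have := conjK_pair b c hbc x y z hc' x' y' z' hbN
  rw [(inU_iff _).2 ⟨d, hd⟩] at this
  exact Bool.noConfusion this

end Cfsg.Agent.S9CoordMat37
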