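import Mathlib
import Cfsg.Agent.Lib.S9Model37
import Cfsg.Agent.Lib.S9CoordMat37
import Cfsg.Agent.Lib.S9CoordAut37

/-!
Coordinates on the elementary abelian subgroup of order `27` and the complement in its normaliser.
-/

set_option autoImplicit false
set_option maxRecDepth 20000

namespace Cfsg.Agent.S9CoordLin37

open Equiv S9Model37 S9CoordMat37

variable {G : Type*} [Group G]

/-- Conjugation by `n` has matrix `M` in the coordinates `vec`. -/
def Mat (vec : V3 → G) (n : G) (M : M3) : Prop := ∀ v, n * vec v * n⁻¹ = vec (mv M v)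

/-- Coordinates on `J` adapted to the centraliser of `x`. -/
structure Coord (J : Subgroup G) (x : G) (vec : V3 → G) : Prop where
  add : ∀ u v, vec (u + v) = vec u * vec v
  inj : Function.Injective vec
  mem : ∀ g, g ∈ J ↔ ∃ v, vec v = g
  diag : vec diagVec = x
  stab : ∀ n ∈ Subgroup.centralizer ({x} : Set G), ∃ p, Mat vec n (p3 p)
  compl : ∃ H ≤ Subgroup.centralizer ({x} : Set G), H ⊓ J = ⊥ ∧ ∀ p, ∃ n ∈ H, Mat vec n (p3 p)
  cJ : Subgroup.centralizer (J : Set G) = J
  cx : Subgroup.centralizer ({x} : Set G) ≤ Subgroup.normalizer (J : Set G)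

variable {J : Subgroup G} {x : G} {vec : V3 → G}

theorem vec_zero (co : Coord J x vec) : vec 0 = 1 := by
  have h := co.add 0 0
  rw [add_zero] at h
  exact mul_eq_left.1 h.symm

theorem decomp (v : V3) :
    sm v.1 (1, 0, 0) + sm v.2.1 (0, 1, 0) + sm v.2.2 (0, 0, 1) = v := by
  refine Prod.ext ?_ (Prod.ext ?_ ?_) <;> simp [sm]

theorem add_eq_mv (f : V3 → V3) (hf : ∀ u v, f (u + v) = f u + f v) (v : V3) :
    f v = mv (f (1, 0, 0), f (0, 1, 0), f (0, 0, 1)) v := by
  have h0 : f 0 = 0 := by simpa using hf 0 0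
  have hs : ∀ (s : ZMod 3) (w : V3), f (sm s w) = sm s (f w) := by
    intro s w
    have hs3 : s = 0 ∨ s = 1 ∨ s = 2 := by revert s; decide
    have e0 : ∀ w : V3, sm 0 w = 0 := fun w => by simp [sm]
    have e1 : ∀ w : V3, sm 1 w = w := fun w => by simp [sm]
    have e2 : ∀ w : V3, sm 2 w = w + w := fun w => by
      refine Prod.ext ?_ (Prod.ext ?_ ?_) <;> simp only [sm, Prod.fst_add, Prod.snd_add] <;> ring
    rcases hs3 with rfl | rfl | rfl
    · rw [e0, e0, h0]
    · rw [e1, e1]
    · rw [e2, e2, hf]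
  conv_lhs => rw [← decomp v]
  rw [hf, hf, hs, hs, hs]
  rfl

theorem exists_mat (co : Coord J x vec) {n : G} (hn : n ∈ Subgroup.normalizer (J : Set G)) :
    ∃ M, Mat vec n M := by
  have h : ∀ v, ∃ w, vec w = n * vec v * n⁻¹ := fun v =>
    (co.mem _).1 ((Subgroup.mem_normalizer_iff.1 hn _).1 ((co.mem _).2 ⟨v, rfl⟩))
  choose f hf using h
  have hadd : ∀ u v, f (u + v) = f u + f v := fun u v => co.inj (by
    rw [co.add, hf, hf, hf, co.add]; group)
  exact ⟨_, fun v => by rw [← hf v, ← add_eq_mv f hadd v]⟩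

theorem mat_eq (co : Coord J x vec) {n : G} {M N : M3} (hM : Mat vec n M) (hN : Mat vec n N) :
    M = N := by
  have h : ∀ v, mv M v = mv N v := fun v => co.inj ((hM v).symm.trans (hN v))
  calc M = mm M one3 := (mm_one M).symm
    _ = mm N one3 := by simp only [mm, h]
    _ = N := mm_one N

theorem mat_one (vec : V3 → G) : Mat vec 1 one3 := fun v => by simp [mv_one]

theorem mat_mul {n m : G} {M N : M3} (hM : Mat vec n M) (hN : Mat vec m N) :
    Mat vec (n * m) (mm M N) := fun v => by
  rw [mv_mm, ← hM, ← hN]; group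

/-- The automiser as a set of matrices. -/
def Aut (J : Subgroup G) (vec : V3 → G) (M : M3) : Prop :=
  ∃ n ∈ Subgroup.normalizer (J : Set G), Mat vec n M

theorem isAut (co : Coord J x vec) : IsAut (Aut J vec) where
  mul := by
    rintro M N ⟨n, hn, hM⟩ ⟨m, hm, hN⟩
    exact ⟨n * m, mul_mem hn hm, mat_mul hM hN⟩
  perm p := by
    obtain ⟨H, hH, -, hp⟩ := co.compl
    obtain ⟨n, hn, hM⟩ := hp p
    exact ⟨n, co.cx (hH hn), hM⟩
  stab := by
    rintro M ⟨n, -, hM⟩ hd
    have hnx : n ∈ Subgroup.centralizer ({x} : Set G) := by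
      refine Subgroup.mem_centralizer_singleton_iff.2 ?_
      have := hM diagVec
      rw [hd, co.diag, mul_inv_eq_iff_eq_mul] at this
      exact this
    obtain ⟨p, hp⟩ := co.stab n hnx
    exact ⟨p, mat_eq co hp hM⟩
  inj := by
    rintro M ⟨n, -, hM⟩ v hv
    have := hM v
    rw [hv, vec_zero co, conj_eq_one_iff, ← vec_zero co] at this
    exact co.inj this

/-- Change of frame. -/
theorem frame (co : Coord J x vec) (b : ZMod 3) : Coord J x (fun v => vec (mv (fr b) v)) := by
  obtain ⟨h1, h2, h3, h4⟩ := fr_inv b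
  have hcomm : ∀ p, mm (p3 p) (fr b) = mm (fr b) (p3 p) := fun p => by
    conv_rhs => rw [← h4 p, ← mm_assoc, h1, one_mm]
  have hback : ∀ v, mv (fr b) (mv (fr (-b)) v) = v := fun v => by rw [← mv_mm, h1, mv_one]
  have hconv : ∀ (n : G) (p : Fin 6), Mat vec n (p3 p) →
      Mat (fun v => vec (mv (fr b) v)) n (p3 p) := fun n p h v => by
    show n * vec (mv (fr b) v) * n⁻¹ = vec (mv (fr b) (mv (p3 p) v))
    rw [h, ← mv_mm, ← mv_mm, hcomm p]
  refine ⟨fun u v => by simp only [mv_add, co.add], ?_, fun g => ?_, by simp only [h3, co.diag],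
    fun n hn => (co.stab n hn).imp fun p h => hconv n p h, ?_, co.cJ, co.cx⟩
  · intro u v h
    have := congrArg (mv (fr (-b))) (co.inj h)
    rwa [← mv_mm, ← mv_mm, h2, mv_one, mv_one] at this
  · rw [co.mem g]
    exact ⟨fun ⟨v, hv⟩ => ⟨mv (fr (-b)) v, by simp only [hback, hv]⟩, fun ⟨v, hv⟩ => ⟨_, hv⟩⟩
  · obtain ⟨H, hH, hHJ, hp⟩ := co.compl
    exact ⟨H, hH, hHJ, fun p => (hp p).imp fun n hn => ⟨hn.1, hconv n p hn.2⟩⟩

/-- Some frame makes the whole automiser monomial. -/
theorem exists_monomial (co : Coord J x vec) : ∃ vec' : V3 → G, Coord J x vec' ∧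
    ∀ n ∈ Subgroup.normalizer (J : Set G), ∃ k : K, Mat vec' n (matK k) := by
  obtain ⟨b, hb⟩ := exists_frame (isAut co)
  obtain ⟨h1, h2, -, -⟩ := fr_inv b
  refine ⟨_, frame co b, fun n hn => ?_⟩
  obtain ⟨M, hM⟩ := exists_mat co hn
  obtain ⟨k, rfl⟩ := (inMon_iff b M).1 (hb M ⟨n, hn, hM⟩)
  refine ⟨k, fun v => ?_⟩
  show n * vec (mv (fr b) v) * n⁻¹ = vec (mv (fr b) (mv (matK k) v))
  rw [hM, ← mv_mm, ← mv_mm, conjK, mm_assoc, mm_assoc, h2, mm_one]

/-- The permutation of the frame vectors. -/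
def kp (k : K) : Equiv.Perm (Fin 3) :=
  ![1, swap 0 1 * swap 1 2, swap 1 2 * swap 0 1, swap 0 1, swap 1 2, swap 0 2] k.2.2.2

theorem kp_mul : ∀ k l : K, ∀ i, kp (idx (mm (matK k) (matK l))) i = kp k (kp l i) := by
  decide +kernel

theorem kp_one : ∀ k : K, (∀ i, kp k i = i) → k.2.2.2 = 0 := by decide +kernel

theorem diag_sq : ∀ a b c : Bool, mm (matK (a, b, c, 0)) (matK (a, b, c, 0)) = one3 := by decide +kernel

theorem matK_one : matK (false, false, false, 0) = one3 ∧ perK (false, false, false, 0) = 1 := by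
  refine ⟨by decide +kernel, ?_⟩
  simp [perK, p9]

/-- `-1`. -/
def negM : M3 := matK (true, true, true, 0)
/-- An even sign change. -/
def evM : M3 := matK (true, true, false, 0)

set_option synthInstance.maxSize 4000 in
set_option synthInstance.maxHeartbeats 400000 in
theorem sign_gen : ∀ a b c : Bool, (a, b, c) = (false, false, false) ∨
    matK (a, b, c, 0) = negM ∨
    (∃ p q, mm (p3 p) (mm (matK (a, b, c, 0)) (p3 q)) = evM) ∨
    ((∃ p q r t, mm (p3 r) (mm (mm (matK (a, b, c, 0)) (mm (p3 p) (mm (matK (a, b, c, 0)) (p3 q)))) (p3 t)) = evM) ∧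
      ∃ p q r s, mm (mm (mm (matK (a, b, c, 0)) (mm (p3 p) (mm (matK (a, b, c, 0)) (p3 q)))) (p3 r))
        (mm (matK (a, b, c, 0)) (p3 s)) = negM) := by decide +kernel

theorem sign_split : ∀ k : K, ∃ q, mm (matK k) (p3 q) = matK (k.1, k.2.1, k.2.2.1, 0) := by
  decide +kernel

theorem neg_fix : ∀ v : V3, mv negM v = v → v = 0 := by decide +kernel

theorem ev_fix : ∀ v : V3, mv evM v = v → mv (mm (p3 1) (mm evM (p3 2))) v = v → v = 0 := by
  decide +kernel

theorem ev_conj_diag : mm (p3 1) (mm evM (p3 2)) = matK (false, true, true, 0) := by decide +kernel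

variable [Finite G]

/-- A complement to `J` in its normaliser. -/
theorem exists_compl (co : Coord J x vec)
    (hk : ∀ n ∈ Subgroup.normalizer (J : Set G), ∃ k : K, Mat vec n (matK k)) :
    ∃ H ≤ Subgroup.normalizer (J : Set G), H ⊓ J = ⊥ ∧
      ∀ n ∈ Subgroup.normalizer (J : Set G), ∃ h ∈ H, n * h⁻¹ ∈ J := by
  classical
  set N := Subgroup.normalizer (J : Set G) with hNdef
  choose kf hkf using hk
  have kf_one_iff : ∀ (n : G) (hn : n ∈ N), matK (kf n hn) = one3 → n ∈ J := by
    intro n hn h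
    rw [← co.cJ, Subgroup.mem_centralizer_iff]
    intro g hg
    obtain ⟨v, rfl⟩ := (co.mem g).1 hg
    have := hkf n hn v
    rw [h, mv_one, mul_inv_eq_iff_eq_mul] at this
    exact this.symm
  have A := isAut co
  by_cases hex : Aut J vec negM ∨ Aut J vec evM
  swap
  · obtain ⟨hneg, hev⟩ := not_or.1 hex
    obtain ⟨H, hH, hHJ, hp⟩ := co.compl
    refine ⟨H, hH.trans co.cx, hHJ, fun n hn => ?_⟩
    have hAk : Aut J vec (matK (kf n hn)) := ⟨n, hn, hkf n hn⟩
    obtain ⟨q, hq⟩ := sign_split (kf n hn)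
    set s := kf n hn with hs
    have hAs : Aut J vec (matK (s.1, s.2.1, s.2.2.1, 0)) := hq ▸ A.mul hAk (A.perm q)
    rcases sign_gen s.1 s.2.1 s.2.2.1 with e | e | ⟨p, r, e⟩ | ⟨⟨p, r, r', t, e⟩, -⟩
    · obtain ⟨h, hh, hhm⟩ := hp s.2.2.2
      refine ⟨h, hh, ?_⟩
      have hs' : s = (false, false, false, s.2.2.2) := by
        obtain ⟨a, b, c, d⟩ := s
        simp only [Prod.mk.injEq] at e
        simp [e.1, e.2.1, e.2.2]
      obtain ⟨q', hq'⟩ := p3_inv s.2.2.2
      have hh' : h ∈ N := co.cx (hH hh)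
      obtain ⟨Mi, hMi⟩ := exists_mat co (inv_mem hh')
      have h2 : mm (p3 s.2.2.2) Mi = one3 := mat_eq co (mat_mul hhm hMi)
        (by rw [mul_inv_cancel]; exact mat_one vec)
      refine kf_one_iff _ (mul_mem hn (inv_mem hh')) (mat_eq co (hkf _ _) ?_)
      rw [← h2]
      refine mat_mul ?_ hMi
      have := hkf n hn
      rw [← hs, hs', ← (p3_table s.2.2.2).1] at this
      exact this
    · exact absurd (e ▸ hAs) hneg
    · exact absurd (e ▸ A.mul (A.perm p) (A.mul hAs (A.perm r))) hev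
    · exact absurd (e ▸ A.mul (A.perm r') (A.mul (A.mul hAs (A.mul (A.perm p) (A.mul hAs (A.perm r)))) (A.perm t))) hev
  · have kf_eq : ∀ (n : G) (hn : n ∈ N) {k : K}, Mat vec n (matK k) → kf n hn = k := by
      intro n hn k h
      have := congrArg idx (mat_eq co (hkf n hn) h)
      rwa [idx_matK, idx_matK] at this
    let β : N →* Equiv.Perm (Fin 3) :=
      MonoidHom.mk' (fun n => kp (kf n n.2)) (fun n m => by
        refine Equiv.ext fun i => ?_
        have e := (mulK (kf n n.2) (kf m m.2)).1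
        have := kf_eq (n * m : G) (n * m).2 (k := idx (mm (matK (kf n n.2)) (matK (kf m m.2))))
          (by rw [← e]; exact mat_mul (hkf n n.2) (hkf m m.2))
        show kp (kf ((n : G) * m) _) i = _
        rw [this, kp_mul]
        rfl)
    set D := β.ker with hD
    have memD : ∀ (n : G) (hn : n ∈ N), (⟨n, hn⟩ : N) ∈ D ↔ (kf n hn).2.2.2 = 0 := by
      intro n hn
      rw [hD, MonoidHom.mem_ker]
      constructor
      · intro h
        exact kp_one _ fun i => by
          have := congrArg (fun σ : Equiv.Perm (Fin 3) => σ i) h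
          simpa [β] using this
      · intro h
        show kp (kf n hn) = 1
        simp [kp, h]
    let JD : Subgroup D := J.comap (N.subtype.comp D.subtype)
    have hJN : J ≤ N := Subgroup.le_normalizer
    have hJD : ∀ g, g ∈ J → ∀ hg : g ∈ N, (⟨g, hg⟩ : N) ∈ D := by
      intro g hgJ hg
      rw [memD]
      have : Mat vec g (matK (false, false, false, 0)) := fun v => by
        rw [matK_one.1, mv_one]
        have hc : g ∈ Subgroup.centralizer (J : Set G) := co.cJ.symm ▸ hgJ
        rw [← Subgroup.mem_centralizer_iff.1 hc _ ((co.mem _).2 ⟨v, rfl⟩), mul_inv_cancel_right]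
      rw [kf_eq g hg this]
    haveI hJDn : JD.Normal := ⟨fun a ha b => by
      show ((b : N) : G) * ((a : N) : G) * ((b : N) : G)⁻¹ ∈ J
      exact (Subgroup.mem_normalizer_iff.1 (b : N).2 _).1 ha⟩
    have hsq : ∀ d : D, d * d ∈ JD := by
      intro d
      show ((d : N) : G) * ((d : N) : G) ∈ J
      have h0 : (kf _ (d : N).2).2.2.2 = 0 := (memD _ (d : N).2).1 d.2
      refine kf_one_iff _ (mul_mem (d : N).2 (d : N).2) (mat_eq co (hkf _ _) ?_)
      set k := kf ((d : N) : G) (d : N).2 with hkdef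
      rw [← diag_sq k.1 k.2.1 k.2.2.1]
      have hkk : (k.1, k.2.1, k.2.2.1, (0 : Fin 6)) = k := by
        rw [← h0]
      rw [hkk]
      exact mat_mul (hkf _ _) (hkf _ _)
    haveI : Fact (Nat.Prime 2) := ⟨Nat.prime_two⟩
    obtain ⟨P⟩ : Nonempty (Sylow 2 D) := inferInstance
    have hQ : IsPGroup 2 (D ⧸ JD) := by
      intro q
      induction q using QuotientGroup.induction_on with
      | _ d => exact ⟨1, by rw [pow_one, pow_two, ← QuotientGroup.mk_mul, QuotientGroup.eq_one_iff]; exact hsq d⟩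
    have htop : JD ⊔ (P : Subgroup D) = ⊤ := by
      rw [← Subgroup.index_eq_one]
      obtain ⟨k, hk⟩ := hQ.exists_card_eq
      have h1 : (JD ⊔ (P : Subgroup D)).index ∣ 2 ^ k := by
        rw [← hk]; exact Subgroup.index_dvd_of_le le_sup_left
      have h2 : (JD ⊔ (P : Subgroup D)).index ∣ (P : Subgroup D).index :=
        Subgroup.index_dvd_of_le le_sup_right
      obtain ⟨j, -, hj⟩ := (Nat.dvd_prime_pow Nat.prime_two).1 h1
      rcases Nat.eq_zero_or_pos j with h0 | h0
      · rw [hj, h0, pow_zero]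
      · exact absurd ((dvd_pow_self 2 h0.ne').trans (hj ▸ h2)) P.not_dvd_index
    have hfr := Sylow.normalizer_sup_eq_top P
    set P' : Subgroup N := (P : Subgroup D).map D.subtype with hP'
    refine ⟨(Subgroup.normalizer (P' : Set N)).map N.subtype, Subgroup.map_subtype_le _, ?_, ?_⟩
    · rw [Subgroup.eq_bot_iff_forall]
      intro u hu
      obtain ⟨hu, huJ⟩ := Subgroup.mem_inf.1 hu
      obtain ⟨u', hu', rfl⟩ := Subgroup.mem_map.1 hu
      have hfixP : ∀ p ∈ P', (u' : G) * (p : G) = (p : G) * (u' : G) := by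
        intro p hp
        have hc : u' * p * u'⁻¹ * p⁻¹ ∈ P' :=
          mul_mem ((Subgroup.mem_normalizer_iff.1 hu' p).1 hp) (inv_mem hp)
        have hJc : ((u' * p * u'⁻¹ * p⁻¹ : N) : G) ∈ J := by
          show (u' : G) * p * (u' : G)⁻¹ * (p : G)⁻¹ ∈ J
          rw [mul_assoc, mul_assoc]
          refine mul_mem huJ ?_
          rw [← mul_assoc]
          exact (Subgroup.mem_normalizer_iff.1 p.2 _).1 (inv_mem huJ)
        obtain ⟨d, hd, hde⟩ := Subgroup.mem_map.1 hc
        have hd1 : d = 1 := by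
          obtain ⟨k, hk⟩ := P.2 ⟨d, hd⟩
          have hk' : d ^ 2 ^ k = 1 := congrArg Subtype.val hk
          obtain ⟨v, hv⟩ := (co.mem _).1 hJc
          have h3 : (d : N) ^ 3 = 1 := by
            refine Subtype.ext ?_
            show ((d : N) : G) ^ 3 = 1
            have : ((d : N) : G) = vec v := by rw [hv]; exact congrArg Subtype.val hde
            rw [this, pow_succ, pow_two, ← co.add, ← co.add, ← vec_zero co]
            congr 1
            exact (by decide : ∀ v : V3, v + v + v = 0) v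
          have h3' : d ^ 3 = 1 := Subtype.ext (by simpa using h3)
          have := Nat.Coprime.pow_left k (show Nat.Coprime 2 3 by norm_num)
          have := pow_gcd_eq_one.2 ⟨hk', h3'⟩
          rwa [Nat.Coprime.gcd_eq_one (by assumption), pow_one] at this
        have e : u' * p * u'⁻¹ * p⁻¹ = 1 := by rw [← hde, hd1]; simp
        have e' : u' * p = p * u' := by
          rw [mul_inv_eq_one, mul_inv_eq_iff_eq_mul] at e; exact e
        exact congrArg Subtype.val e'
      have hfixD : ∀ d : D, ((d : N) : G) * (u' : G) = (u' : G) * ((d : N) : G) := by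
        intro d
        have hd : d ∈ JD ⊔ (P : Subgroup D) := htop ▸ Subgroup.mem_top d
        obtain ⟨a, ha, p, hp, rfl⟩ := Subgroup.mem_sup_of_normal_left.1 hd
        have haJ : ((a : N) : G) ∈ J := ha
        have hcomm : ((a : N) : G) * (u' : G) = (u' : G) * ((a : N) : G) := by
          have hc : (u' : G) ∈ Subgroup.centralizer (J : Set G) := by rw [co.cJ]; exact huJ
          exact Subgroup.mem_centralizer_iff.1 hc _ haJ
        show ((a : N) : G) * ((p : N) : G) * _ = _ * (((a : N) : G) * ((p : N) : G))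
        have hp' : ((p : N) : G) * (u' : G) = (u' : G) * ((p : N) : G) :=
          (hfixP _ (Subgroup.mem_map_of_mem _ hp)).symm
        rw [mul_assoc, hp', ← mul_assoc, hcomm, mul_assoc]
      obtain ⟨v, hv⟩ := (co.mem _).1 huJ
      have hfix : ∀ a b c : Bool, Aut J vec (matK (a, b, c, 0)) → mv (matK (a, b, c, 0)) v = v := by
        rintro a b c ⟨n, hn, hM⟩
        refine co.inj ?_
        rw [← hM v, hv]
        have := hfixD ⟨⟨n, hn⟩, (memD n hn).2 (by rw [kf_eq n hn hM])⟩
        show n * (u' : G) * n⁻¹ = (u' : G)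
        rw [mul_inv_eq_iff_eq_mul]
        exact this
      show (u' : G) = 1
      have hv0 : v = 0 := by
        rcases hex with h | h
        · exact neg_fix v (hfix _ _ _ h)
        · refine ev_fix v (hfix _ _ _ h) ?_
          rw [ev_conj_diag]
          refine hfix _ _ _ ?_
          rw [← ev_conj_diag]
          exact A.mul (A.perm 1) (A.mul h (A.perm 2))
      rw [← vec_zero co, ← hv0, hv]
      rfl
    · intro n hn
      have h : (⟨n, hn⟩ : N) ∈ Subgroup.normalizer (P' : Set N) ⊔ D := hfr ▸ Subgroup.mem_top _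
      obtain ⟨a, ha, d, hd, he⟩ := Subgroup.mem_sup_of_normal_right.1 h
      have hd' : (⟨d, hd⟩ : D) ∈ JD ⊔ (P : Subgroup D) := htop ▸ Subgroup.mem_top _
      obtain ⟨j, hj, p, hp, hjp⟩ := Subgroup.mem_sup_of_normal_left.1 hd'
      have hjJ : ((j : N) : G) ∈ J := hj
      have hpN : (p : N) ∈ Subgroup.normalizer (P' : Set N) :=
        Subgroup.le_normalizer (Subgroup.mem_map_of_mem _ hp)
      refine ⟨((a * (p : N) : N) : G), Subgroup.mem_map_of_mem _ (mul_mem ha hpN), ?_⟩
      have e : n = (a : G) * (((j : N) : G) * ((p : N) : G)) := by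
        have h1 := congrArg Subtype.val he
        have h2 := congrArg (fun t : D => ((t : N) : G)) hjp
        simp only [Subgroup.coe_mul] at h1 h2
        rw [← h1, ← h2]
      rw [e, Subgroup.coe_mul]
      have : (a : G) * (((j : N) : G) * ((p : N) : G)) * ((a : G) * ((p : N) : G))⁻¹ =
          (a : G) * ((j : N) : G) * (a : G)⁻¹ := by group
      rw [this]
      exact (Subgroup.mem_normalizer_iff.1 a.2 _).1 hjJ

end Cfsg.Agent.S9CoordLin37
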