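import Mathlib
import Cfsg.Agent.Lib.S9Model37
import Cfsg.Agent.Lib.S9CoordMat37
import Cfsg.Agent.Lib.S9CoordAut37
import Cfsg.Agent.Lib.S9CoordLin37

/-!
The embedding of the normaliser of `J` into the permutations of nine points.
-/

set_option autoImplicit false
set_option maxRecDepth 20000

namespace Cfsg.Agent.S9CoordBase37

open Equiv S9Model37 S9CoordMat37 S9CoordLin37

variable {G : Type*} [Group G] [Finite G] {J : Subgroup G} {x : G} {vec : V3 → G}

/-- The raw output: an injective map of the normaliser, sending coordinates to the base. -/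
theorem exists_theta (co : Coord J x vec)
    (hk : ∀ n ∈ Subgroup.normalizer (J : Set G), ∃ k : K, Mat vec n (matK k)) :
    ∃ θ : Subgroup.normalizer (J : Set G) →* P9, Function.Injective θ ∧
      (∀ v (hv : vec v ∈ Subgroup.normalizer (J : Set G)), θ ⟨vec v, hv⟩ = bv v) ∧
      (∀ k : K, Aut J vec (matK k) → ∃ n, θ n = perK k) ∧
      ∀ n, ∃ v k, Aut J vec (matK k) ∧ θ n = bv v * perK k := by
  classical
  set N := Subgroup.normalizer (J : Set G)
  obtain ⟨H, hHN, hHJ, hsurj⟩ := exists_compl co hk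
  choose hf hfH hfJ using fun n : N => hsurj n n.2
  choose kf hkf using hk
  choose jf hjf using fun n : N => (co.mem _).1 (hfJ n)
  let k0 (n : N) : K := kf n n.2
  have hvec : ∀ v w, vec w * vec v * (vec w)⁻¹ = vec v := fun v w => by
    rw [← co.add, add_comm, co.add, mul_inv_cancel_right]
  have hmatJ : ∀ g ∈ J, Mat vec g one3 := by
    intro g hg v
    obtain ⟨w, rfl⟩ := (co.mem g).1 hg
    rw [mv_one, hvec]
  have uniq : ∀ (n : N) (h : G), h ∈ H → (n : G) * h⁻¹ ∈ J → h = hf n := by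
    intro n h hh hn
    have h1 : h * (hf n)⁻¹ ∈ H ⊓ J := by
      refine Subgroup.mem_inf.2 ⟨mul_mem hh (inv_mem (hfH n)), ?_⟩
      have : h * (hf n)⁻¹ = ((n : G) * h⁻¹)⁻¹ * ((n : G) * (hf n)⁻¹) := by group
      rw [this]; exact mul_mem (inv_mem hn) (hfJ n)
    rw [hHJ, Subgroup.mem_bot, mul_inv_eq_one] at h1
    exact h1
  have hk0 : ∀ (n : N) {k : K}, Mat vec (n : G) (matK k) → k0 n = k := fun n k h => by
    have := congrArg idx (mat_eq co (hkf n n.2) h)
    rwa [idx_matK, idx_matK] at this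
  have hmath : ∀ n : N, Mat vec (hf n) (matK (k0 n)) := by
    intro n
    have e : hf n = ((n : G) * (hf n)⁻¹)⁻¹ * (n : G) := by group
    rw [e, ← one_mm (matK (k0 n))]
    exact mat_mul (hmatJ _ (inv_mem (hfJ n))) (hkf n n.2)
  let θ : N →* P9 := MonoidHom.mk' (fun n => bv (jf n) * perK (k0 n)) (fun n m => by
    have hh : hf n * hf m = hf (n * m) := by
      refine uniq (n * m) _ (mul_mem (hfH n) (hfH m)) ?_
      have : ((n * m : N) : G) * (hf n * hf m)⁻¹ =
          ((n : G) * (hf n)⁻¹) * (hf n * ((m : G) * (hf m)⁻¹) * (hf n)⁻¹) := by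
        rw [Subgroup.coe_mul]; group
      rw [this]
      exact mul_mem (hfJ n) ((Subgroup.mem_normalizer_iff.1 (hHN (hfH n)) _).1 (hfJ m))
    have hk' : k0 (n * m) = idx (mm (matK (k0 n)) (matK (k0 m))) := by
      refine hk0 _ ?_
      rw [← (mulK _ _).1]
      exact mat_mul (hkf n n.2) (hkf m m.2)
    have hj : jf (n * m) = jf n + mv (matK (k0 n)) (jf m) := co.inj (by
      rw [co.add, hjf, hjf, ← hmath n (jf m), hjf, ← hh, Subgroup.coe_mul]; group)
    have hperk : perK (idx (mm (matK (k0 n)) (matK (k0 m)))) = perK (k0 n) * perK (k0 m) :=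
      Equiv.ext fun i => (mulK _ _).2 i
    have hconj : perK (k0 n) * bv (jf m) = bv (mv (matK (k0 n)) (jf m)) * perK (k0 n) :=
      Equiv.ext fun i => perK_bv _ _ i
    have hbv : bv (jf n + mv (matK (k0 n)) (jf m)) = bv (jf n) * bv (mv (matK (k0 n)) (jf m)) :=
      Equiv.ext fun i => bv_add _ _ i
    show bv (jf (n * m)) * perK (k0 (n * m)) = _
    rw [hk', hj, hperk, hbv]
    calc _ = bv (jf n) * (bv (mv (matK (k0 n)) (jf m)) * perK (k0 n)) * perK (k0 m) := by group
      _ = _ := by rw [← hconj]; group)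
  refine ⟨θ, ?_, fun v hv => ?_, ?_, fun n => ⟨jf n, k0 n, ⟨n, n.2, hkf n n.2⟩, rfl⟩⟩
  · rw [injective_iff_map_eq_one]
    intro n hn
    obtain ⟨hk1, hv0⟩ := bv_perK_one (k0 n) (jf n) fun i => by
      have := congrArg (fun σ : P9 => σ i) hn
      simpa [θ] using this
    have hnJ : (n : G) ∈ J := by
      rw [← co.cJ, Subgroup.mem_centralizer_iff]
      intro g hg
      obtain ⟨v, rfl⟩ := (co.mem g).1 hg
      have := hkf n n.2 v
      rw [show kf n n.2 = _ from hk1, matK_one.1, mv_one, mul_inv_eq_iff_eq_mul] at this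
      exact this.symm
    have h1 : (1 : G) = hf n := uniq n 1 (one_mem _) (by simpa using hnJ)
    refine Subtype.ext ?_
    have := hjf n
    rw [hv0, vec_zero co, ← h1] at this
    simpa using this.symm
  · have hvJ : vec v ∈ J := (co.mem _).2 ⟨v, rfl⟩
    have h1 : (1 : G) = hf ⟨vec v, hv⟩ := uniq _ 1 (one_mem _) (by simpa using hvJ)
    have hk1 : k0 ⟨vec v, hv⟩ = (false, false, false, 0) :=
      hk0 _ (by rw [matK_one.1]; exact hmatJ _ hvJ)
    have hj : jf ⟨vec v, hv⟩ = v := co.inj (by rw [hjf, ← h1]; simp)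
    show bv (jf ⟨vec v, hv⟩) * perK (k0 ⟨vec v, hv⟩) = bv v
    rw [hk1, hj, matK_one.2, mul_one]
  · rintro k ⟨n, hn, hM⟩
    set h := hf ⟨n, hn⟩
    have hh : h ∈ N := hHN (hfH _)
    refine ⟨⟨h, hh⟩, ?_⟩
    have h1 : h = hf ⟨h, hh⟩ := uniq _ h (hfH _) (by simp)
    have hk1 : k0 ⟨h, hh⟩ = k := hk0 _ (by
      have := hmath ⟨n, hn⟩
      rwa [hk0 ⟨n, hn⟩ hM] at this)
    have hj : jf ⟨h, hh⟩ = 0 := co.inj (by rw [hjf, ← h1, vec_zero co]; simp)
    show bv (jf ⟨h, hh⟩) * perK (k0 ⟨h, hh⟩) = perK k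
    rw [hk1, hj]
    simp [bv]

theorem bv_mem {U : Subgroup P9} (h1 : c1 ∈ U) (h2 : c2 ∈ U) (h3 : c3 ∈ U) (v : V3) : bv v ∈ U :=
  mul_mem (mul_mem (pow_mem h1 _) (pow_mem h2 _)) (pow_mem h3 _)

theorem exists_bv {σ : P9} (h : σ ∈ base) : ∃ v, bv v = σ := by
  have hg : ∀ v, ∀ i, bv (-v) (bv v i) = i := by decide +kernel
  refine Subgroup.closure_induction (p := fun σ _ => ∃ v, bv v = σ) ?_ ⟨0, by simp [bv]⟩ ?_ ?_ h
  · intro σ hσ
    simp only [Set.mem_insert_iff, Set.mem_singleton_iff] at hσ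
    rcases hσ with rfl | rfl | rfl
    exacts [⟨(1, 0, 0), by simp [bv, ZMod.val_one]⟩, ⟨(0, 1, 0), by simp [bv, ZMod.val_one]⟩,
      ⟨(0, 0, 1), by simp [bv, ZMod.val_one]⟩]
  · rintro a b _ _ ⟨u, rfl⟩ ⟨v, rfl⟩
    exact ⟨u + v, Equiv.ext fun i => bv_add u v i⟩
  · rintro a _ ⟨u, rfl⟩
    exact ⟨-u, eq_inv_of_mul_eq_one_left (Equiv.ext (hg u))⟩

theorem base_le_mem {σ : P9} (v : V3) (h : bv v = σ) : σ ∈ base := by
  rw [← h]
  exact bv_mem (Subgroup.subset_closure (by simp)) (Subgroup.subset_closure (by simp))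
    (Subgroup.subset_closure (by simp)) v

theorem p9_mem {U : Subgroup P9} (hr : rot ∈ U) (ht : tau ∈ U) (p : Fin 6) : p9 p ∈ U := by
  fin_cases p <;> simp [p9, one_mem, hr, ht, mul_mem, pow_mem]

set_option synthInstance.maxSize 4000 in
set_option synthInstance.maxHeartbeats 400000 in
theorem no_single : ∀ a b c : Bool, (a, b, c) = (false, false, false) ∨ (a, b, c) = (true, true, true) ∨
    (∃ p q, mm (p3 p) (mm (matK (a, b, c, 0)) (p3 q)) = evM) ∨
    ((∃ p q r t, mm (p3 r) (mm (mm (matK (a, b, c, 0)) (mm (p3 p) (mm (matK (a, b, c, 0)) (p3 q)))) (p3 t)) = evM) ∧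
      ∃ p q r s, mm (mm (mm (matK (a, b, c, 0)) (mm (p3 p) (mm (matK (a, b, c, 0)) (p3 q)))) (p3 r))
        (mm (matK (a, b, c, 0)) (p3 s)) = negM) := by decide +kernel

theorem ev_neg_single : mm evM negM = matK (false, false, true, 0) ∧
    mm (p3 1) (mm (matK (false, false, true, 0)) (p3 2)) = matK (true, false, false, 0) ∧
    mm (p3 2) (mm (matK (false, false, true, 0)) (p3 1)) = matK (false, true, false, 0) := by
  decide +kernel

theorem ev_all : mm (p3 1) (mm evM (p3 2)) = matK (false, true, true, 0) ∧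
    mm evM (mm (p3 1) (mm evM (p3 2))) = matK (true, false, true, 0) := by decide +kernel

/-- The normaliser is one of the four model groups. -/
theorem exists_cases (co : Coord J x vec)
    (hk : ∀ n ∈ Subgroup.normalizer (J : Set G), ∃ k : K, Mat vec n (matK k)) :
    ∃ U : Subgroup P9, (U = W1 ∨ U = W2 ∨ U = W4 ∨ U = W) ∧ ∃ φ : U →* G,
      Function.Injective φ ∧ φ.range = Subgroup.normalizer (J : Set G) ∧
      (base.subgroupOf U).map φ = J ∧ ∀ u : U, (u : P9) = c1 * c2 * c3 → φ u = x := by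
  classical
  obtain ⟨θ, hinj, hbase, hin, hout⟩ := exists_theta co hk
  let N := Subgroup.normalizer (J : Set G)
  have hvN : ∀ v, vec v ∈ N := fun v => Subgroup.le_normalizer ((co.mem _).2 ⟨v, rfl⟩)
  have A := isAut co
  have hsign : ∀ k : K, Aut J vec (matK k) → Aut J vec (matK (k.1, k.2.1, k.2.2.1, 0)) := fun k h => by
    obtain ⟨q, hq⟩ := sign_split k
    exact hq ▸ A.mul h (A.perm q)
  have hperm : ∀ p, Aut J vec (matK (false, false, false, p)) := fun p =>
    (p3_table p).1 ▸ A.perm p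
  have hc : c1 ∈ θ.range ∧ c2 ∈ θ.range ∧ c3 ∈ θ.range := by
    refine ⟨⟨⟨_, hvN (1, 0, 0)⟩, ?_⟩, ⟨⟨_, hvN (0, 1, 0)⟩, ?_⟩, ⟨⟨_, hvN (0, 0, 1)⟩, ?_⟩⟩ <;>
      rw [hbase] <;> simp [bv, ZMod.val_one]
  have hrt : rot ∈ θ.range ∧ tau ∈ θ.range := by
    refine ⟨?_, ?_⟩
    · obtain ⟨n, hn⟩ := hin _ (hperm 1)
      exact ⟨n, by rw [hn]; simp [perK, p9]⟩
    · obtain ⟨n, hn⟩ := hin _ (hperm 3)
      exact ⟨n, by rw [hn]; simp [perK, p9]⟩
  have hd : ∀ a b c : Bool, Aut J vec (matK (a, b, c, 0)) →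
      (if a then d1 else 1) * (if b then d2 else 1) * (if c then d3 else 1) ∈ θ.range := by
    intro a b c h
    obtain ⟨n, hn⟩ := hin _ h
    exact ⟨n, by rw [hn]; simp [perK, p9]⟩
  -- the four cases
  suffices hU : ∃ U : Subgroup P9, (U = W1 ∨ U = W2 ∨ U = W4 ∨ U = W) ∧ θ.range = U by
    obtain ⟨U, hU4, rfl⟩ := hU
    let ψ : θ.range →* G := N.subtype.comp (MonoidHom.ofInjective hinj).symm.toMonoidHom
    have hψ : ∀ n : N, ψ ⟨θ n, n, rfl⟩ = (n : G) := fun n => by
      show (((MonoidHom.ofInjective hinj).symm ⟨θ n, n, rfl⟩ : N) : G) = n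
      rw [show (⟨θ n, n, rfl⟩ : θ.range) = MonoidHom.ofInjective hinj n from Subtype.ext rfl,
        MulEquiv.symm_apply_apply]
    refine ⟨_, hU4, ψ, Subtype.val_injective.comp (MulEquiv.injective _), ?_, ?_, ?_⟩
    · refine le_antisymm ?_ fun n hn => ⟨⟨θ ⟨n, hn⟩, _, rfl⟩, hψ _⟩
      rintro _ ⟨u, rfl⟩
      exact Subtype.coe_prop _
    · ext g
      constructor
      · rintro ⟨⟨σ, n, rfl⟩, hσ, rfl⟩
        obtain ⟨v, hv⟩ := exists_bv (Subgroup.mem_subgroupOf.1 hσ)
        rw [hψ, hinj ((hbase v (hvN v)).trans hv).symm]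
        exact (co.mem _).2 ⟨v, rfl⟩
      · intro hg
        obtain ⟨v, rfl⟩ := (co.mem g).1 hg
        refine ⟨⟨θ ⟨_, hvN v⟩, _, rfl⟩, ?_, hψ _⟩
        show θ ⟨_, hvN v⟩ ∈ base
        exact base_le_mem v (hbase v _).symm
    · rintro ⟨σ, n, rfl⟩ hσ
      change θ n = c1 * c2 * c3 at hσ
      rw [hψ]
      have : θ ⟨_, hvN diagVec⟩ = θ n := by
        rw [hbase, hσ]
        simp [bv, diagVec, ZMod.val_one]
      rw [← hinj this]
      exact co.diag
  have hle : ∀ U : Subgroup P9, c1 ∈ U → c2 ∈ U → c3 ∈ U → rot ∈ U → tau ∈ U →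
      (∀ a b c : Bool, Aut J vec (matK (a, b, c, 0)) →
        (if a then d1 else 1) * (if b then d2 else 1) * (if c then d3 else 1) ∈ U) →
      θ.range ≤ U := by
    rintro U h1 h2 h3 hr ht hs σ ⟨n, rfl⟩
    obtain ⟨v, k, hk', e⟩ := hout n
    rw [e]
    refine mul_mem (bv_mem h1 h2 h3 v) ?_
    exact mul_mem (hs _ _ _ (hsign k hk')) (p9_mem hr ht _)
  by_cases hneg : Aut J vec negM <;> by_cases hev : Aut J vec evM
  · refine ⟨W, by simp, le_antisymm (hle W ?_ ?_ ?_ ?_ ?_ ?_) ?_⟩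
    iterate 5 exact Subgroup.subset_closure (by simp)
    · intro a b c _
      refine mul_mem (mul_mem ?_ ?_) ?_ <;> split_ifs <;>
        first | exact one_mem _ | exact Subgroup.subset_closure (by simp)
    · obtain ⟨e3, e1, e2⟩ := ev_neg_single
      have h3 : Aut J vec (matK (false, false, true, 0)) := e3 ▸ A.mul hev hneg
      have h1 := hd _ _ _ (e1 ▸ A.mul (A.perm 1) (A.mul h3 (A.perm 2)))
      have h2 := hd _ _ _ (e2 ▸ A.mul (A.perm 2) (A.mul h3 (A.perm 1)))
      have h3' := hd _ _ _ h3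
      simp only [Bool.false_eq_true, if_true, if_false, one_mul, mul_one] at h1 h2 h3'
      rw [W, Subgroup.closure_le]
      simp only [Set.insert_subset_iff, Set.singleton_subset_iff, SetLike.mem_coe]
      exact ⟨hc.1, hc.2.1, hc.2.2, h1, h2, h3', hrt.1, hrt.2⟩
  · refine ⟨W2, by simp, le_antisymm (hle W2 ?_ ?_ ?_ ?_ ?_ ?_) ?_⟩
    iterate 5 exact Subgroup.subset_closure (by simp)
    · intro a b c h
      rcases no_single a b c with e | e | ⟨p, q, e⟩ | ⟨⟨p, q, r, t, e⟩, -⟩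
      · simp only [Prod.mk.injEq] at e
        simp [e.1, e.2.1, e.2.2, one_mem]
      · simp only [Prod.mk.injEq] at e
        simp only [e.1, e.2.1, e.2.2, if_true]
        exact Subgroup.subset_closure (by simp)
      · exact absurd (e ▸ A.mul (A.perm p) (A.mul h (A.perm q))) hev
      · exact absurd (e ▸ A.mul (A.perm r) (A.mul (A.mul h (A.mul (A.perm p) (A.mul h (A.perm q)))) (A.perm t))) hev
    · have h := hd _ _ _ hneg
      simp only [if_true] at h
      rw [W2, Subgroup.closure_le]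
      simp only [Set.insert_subset_iff, Set.singleton_subset_iff, SetLike.mem_coe]
      exact ⟨hc.1, hc.2.1, hc.2.2, hrt.1, hrt.2, h⟩
  · refine ⟨W4, by simp, le_antisymm (hle W4 ?_ ?_ ?_ ?_ ?_ ?_) ?_⟩
    iterate 5 exact Subgroup.subset_closure (by simp)
    · intro a b c h
      have h12 : d1 * d2 ∈ W4 := Subgroup.subset_closure (by simp)
      have h23 : d2 * d3 ∈ W4 := Subgroup.subset_closure (by simp)
      have h13 : d1 * d3 = d1 * d2 * (d2 * d3) := by decide +kernel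
      rcases no_single a b c with e | e | ⟨p, q, e⟩ | ⟨-, p, q, r, s, e⟩
      · simp only [Prod.mk.injEq] at e
        simp [e.1, e.2.1, e.2.2, one_mem]
      · simp only [Prod.mk.injEq] at e
        exact absurd (by rw [e.1, e.2.1, e.2.2] at h; exact h) hneg
      · have : ∀ a b c : Bool, (∃ p q, mm (p3 p) (mm (matK (a, b, c, 0)) (p3 q)) = evM) →
            (a, b, c) = (true, true, false) ∨ (a, b, c) = (true, false, true) ∨
              (a, b, c) = (false, true, true) := by decide +kernel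
        rcases this a b c ⟨p, q, e⟩ with e' | e' | e' <;> simp only [Prod.mk.injEq] at e' <;>
          simp [e'.1, e'.2.1, e'.2.2, h12, h23, h13, mul_mem]
      · exact absurd (e ▸ A.mul (A.mul (A.mul h (A.mul (A.perm p) (A.mul h (A.perm q)))) (A.perm r))
          (A.mul h (A.perm s))) hneg
    · have h12 := hd _ _ _ hev
      have h23 := hd _ _ _ (ev_all.1 ▸ A.mul (A.perm 1) (A.mul hev (A.perm 2)))
      simp only [Bool.false_eq_true, if_true, if_false, one_mul, mul_one] at h12 h23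
      rw [W4, Subgroup.closure_le]
      simp only [Set.insert_subset_iff, Set.singleton_subset_iff, SetLike.mem_coe]
      exact ⟨hc.1, hc.2.1, hc.2.2, hrt.1, hrt.2, h12, h23⟩
  · refine ⟨W1, by simp, le_antisymm (hle W1 ?_ ?_ ?_ ?_ ?_ ?_) ?_⟩
    iterate 5 exact Subgroup.subset_closure (by simp)
    · intro a b c h
      rcases no_single a b c with e | e | ⟨p, q, e⟩ | ⟨⟨p, q, r, t, e⟩, -⟩
      · simp only [Prod.mk.injEq] at e
        simp [e.1, e.2.1, e.2.2, one_mem]
      · simp only [Prod.mk.injEq] at e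
        exact absurd (by rw [e.1, e.2.1, e.2.2] at h; exact h) hneg
      · exact absurd (e ▸ A.mul (A.perm p) (A.mul h (A.perm q))) hev
      · exact absurd (e ▸ A.mul (A.perm r) (A.mul (A.mul h (A.mul (A.perm p) (A.mul h (A.perm q)))) (A.perm t))) hev
    · rw [W1, Subgroup.closure_le]
      simp only [Set.insert_subset_iff, Set.singleton_subset_iff, SetLike.mem_coe]
      exact ⟨hc.1, hc.2.1, hc.2.2, hrt.1, hrt.2⟩

end Cfsg.Agent.S9CoordBase37
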