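import Mathlib
import Cfsg.Agent.Lib.S9Model37
import Cfsg.Agent.Lib.S9CoordMat37
import Cfsg.Agent.Lib.S9CoordLin37
import Cfsg.Agent.S3331

/-!
The Sylow three-subgroup and the centralisers of the planes of `J`.
-/

set_option autoImplicit false
set_option maxRecDepth 20000

namespace Cfsg.Agent.S9CoordPlane37

open S9CoordMat37 S9CoordLin37

universe u
variable {G : Type u} [Group G] [Finite G] {J : Subgroup G} {x : G} {vec : V3 → G}

theorem card_J (co : Coord J x vec) : Nat.card J = 27 := by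
  classical
  have h : (J : Set G) = Set.range vec := Set.ext fun g => co.mem g
  rw [← SetLike.coe_sort_coe, h, Nat.card_range_of_injective co.inj, Nat.card_eq_fintype_card]
  rfl

theorem exp_J (co : Coord J x vec) {g : G} (hg : g ∈ J) : g ^ 3 = 1 := by
  obtain ⟨v, rfl⟩ := (co.mem g).1 hg
  rw [pow_succ, pow_two, ← co.add, ← co.add, ← vec_zero co]
  congr 1
  exact (by decide : ∀ v : V3, v + v + v = 0) v

theorem comm_J (co : Coord J x vec) {g h : G} (hg : g ∈ J) (hh : h ∈ J) : g * h = h * g := by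
  obtain ⟨v, rfl⟩ := (co.mem g).1 hg
  obtain ⟨w, rfl⟩ := (co.mem h).1 hh
  rw [← co.add, ← co.add, add_comm]

/-- An element of the normaliser of order three modulo `J` fixes at most three elements of `J`. -/
theorem no_large_fix (co : Coord J x vec)
    (hk : ∀ n ∈ Subgroup.normalizer (J : Set G), ∃ k : K, Mat vec n (matK k))
    {n : G} (hn : n ∈ Subgroup.normalizer (J : Set G)) (h3 : n ^ 3 ∈ J) {Q : Subgroup G} (hQJ : Q ≤ J)
    (hQ : 9 ≤ Nat.card Q) (hfix : ∀ q ∈ Q, n * q = q * n) : n ∈ J := by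
  classical
  obtain ⟨k, hM⟩ := hk n hn
  have hid : Mat vec (n ^ 3) one3 := fun v => by
    rw [mv_one, comm_J co h3 ((co.mem _).2 ⟨v, rfl⟩), mul_inv_cancel_right]
  have h3' : mm (matK k) (mm (matK k) (matK k)) = one3 :=
    mat_eq co (by rw [pow_succ', pow_two]; exact mat_mul hM (mat_mul hM hM)) hid
  have hcard : 8 < (Finset.univ.filter fun v => mv (matK k) v = v).card := by
    choose f hf using fun q : Q => (co.mem _).1 (hQJ q.2)
    letI := Fintype.ofFinite Q
    have hinj : Function.Injective f := fun a b e => Subtype.ext (by rw [← hf a, ← hf b, e])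
    have := Finset.card_le_card_of_injOn (s := (Finset.univ : Finset Q)) f
      (t := Finset.univ.filter fun v => mv (matK k) v = v) (fun q _ => by
        refine Finset.mem_filter.2 ⟨Finset.mem_univ _, co.inj ?_⟩
        rw [← hM, hf, hfix _ q.2, mul_inv_cancel_right]) hinj.injOn
    rw [Finset.card_univ, ← Nat.card_eq_fintype_card] at this
    omega
  have hk1 := no_transvection k h3' hcard
  rw [← co.cJ, Subgroup.mem_centralizer_iff]
  intro g hg
  obtain ⟨v, rfl⟩ := (co.mem g).1 hg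
  have := hM v
  rw [hk1, mv_one, mul_inv_eq_iff_eq_mul] at this
  exact this.symm

theorem card_rel {A B : Subgroup G} (h : A ≤ B) : Nat.card A * A.relIndex B = Nat.card B := by
  rw [← Subgroup.relIndex_bot_left, ← Subgroup.relIndex_bot_left,
    Subgroup.relIndex_mul_relIndex _ _ _ bot_le h]

theorem pgroup_J (co : Coord J x vec) : IsPGroup 3 J := fun g =>
  ⟨1, Subtype.ext (by rw [pow_one]; exact exp_J co g.2)⟩

/-- The automiser as a permutation group of order dividing `48`. -/
theorem exists_quot (co : Coord J x vec)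
    (hk : ∀ n ∈ Subgroup.normalizer (J : Set G), ∃ k : K, Mat vec n (matK k)) :
    ∃ θ : Subgroup.normalizer (J : Set G) →* Equiv.Perm (Fin 9),
      θ.ker ≤ J.subgroupOf (Subgroup.normalizer (J : Set G)) ∧ Nat.card θ.range ∣ 48 := by
  classical
  set N := Subgroup.normalizer (J : Set G) with hN
  choose kf hkf using hk
  let Φ (n : N) : K := kf n n.2
  let M48 : Subgroup (Equiv.Perm (Fin 9)) :=
    { carrier := Set.range perK
      one_mem' := ⟨_, matK_one.2⟩
      mul_mem' := by
        rintro _ _ ⟨k, rfl⟩ ⟨l, rfl⟩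
        exact ⟨_, Equiv.ext fun i => (mulK k l).2 i⟩
      inv_mem' := by
        rintro _ ⟨k, rfl⟩
        have hi : ∀ k : K, ∃ l : K, mm (matK k) (matK l) = one3 := by decide +kernel
        obtain ⟨l, hl⟩ := hi k
        refine ⟨l, eq_inv_of_mul_eq_one_right (Equiv.ext fun i => ?_)⟩
        rw [Equiv.Perm.mul_apply, ← (mulK k l).2, hl, ← matK_one.1, idx_matK, matK_one.2] }
  refine ⟨MonoidHom.mk' (fun n => perK (Φ n)) (fun a b => Equiv.ext fun i => ?_), ?_, ?_⟩
  · have e : Φ (a * b) = idx (mm (matK (Φ a)) (matK (Φ b))) := by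
      have := congrArg idx (mat_eq co (hkf _ (a * b).2) (mat_mul (hkf a a.2) (hkf b b.2)))
      rwa [idx_matK] at this
    show perK (Φ (a * b)) i = _
    rw [e, (mulK _ _).2]
    rfl
  · intro n hn
    have h1 : perK (Φ n) = 1 := hn
    obtain ⟨hk1, -⟩ := bv_perK_one (Φ n) 0 fun i => by simp [h1, bv]
    rw [Subgroup.mem_subgroupOf, ← co.cJ, Subgroup.mem_centralizer_iff]
    intro g hg
    obtain ⟨v, rfl⟩ := (co.mem g).1 hg
    have := hkf n n.2 v
    rw [show kf n n.2 = _ from hk1, matK_one.1, mv_one, mul_inv_eq_iff_eq_mul] at this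
    exact this.symm
  · have hperinj : Function.Injective perK := fun a b e => by
      have hi : ∀ a b : K, (∀ i, perK a i = perK b i) → a = b := by
        simp only [perK_apply]; decide +kernel
      exact hi a b fun i => by rw [e]
    have hc48 : Nat.card M48 = 48 := by
      show Nat.card (Set.range perK) = 48
      rw [Nat.card_range_of_injective hperinj, Nat.card_eq_fintype_card]; rfl
    rw [← hc48]
    refine Subgroup.card_dvd_of_le ?_
    rintro _ ⟨n, rfl⟩
    exact ⟨_, rfl⟩

theorem card_N_dvd (co : Coord J x vec)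
    (hk : ∀ n ∈ Subgroup.normalizer (J : Set G), ∃ k : K, Mat vec n (matK k)) :
    Nat.card (Subgroup.normalizer (J : Set G)) ∣ 27 * 48 := by
  obtain ⟨θ, hker, hr⟩ := exists_quot co hk
  rw [← Subgroup.card_mul_index θ.ker, Subgroup.index_ker]
  refine Nat.mul_dvd_mul ((Subgroup.card_dvd_of_le hker).trans ?_) hr
  rw [Nat.card_congr (Subgroup.subgroupOfEquivOfLe Subgroup.le_normalizer).toEquiv, card_J co]

/-- `3⁴` is the full three-part of the order. -/
theorem sylow (co : Coord J x vec)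
    (hk : ∀ n ∈ Subgroup.normalizer (J : Set G), ∃ k : K, Mat vec n (matK k)) :
    ¬ 3 ^ 5 ∣ Nat.card G := by
  classical
  intro h5
  haveI : Fact (Nat.Prime 3) := ⟨Nat.prime_three⟩
  set N := Subgroup.normalizer (J : Set G) with hN
  obtain ⟨θ, hker, hrange⟩ := exists_quot co hk
  obtain ⟨S0⟩ : Nonempty (Sylow 3 N) := inferInstance
  set S := (S0 : Subgroup N).map N.subtype with hS
  have hSp : IsPGroup 3 S := S0.2.map _
  have hSN : S ≤ N := Subgroup.map_subtype_le _
  have hJN : J ≤ N := Subgroup.le_normalizer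
  -- the Sylow subgroup of the normaliser contains `J`
  have hJS : J ≤ S := by
    haveI : (J.subgroupOf N).Normal := Subgroup.normal_subgroupOf_of_le_normalizer le_rfl
    have hJp : IsPGroup 3 (J.subgroupOf N) :=
      (pgroup_J co).comap_of_injective N.subtype Subtype.val_injective
    have hle := S0.3 (S0.2.to_sup_of_normal_right hJp) le_sup_left
    intro j hj
    exact ⟨⟨j, hJN hj⟩, hle.le (Subgroup.mem_sup_right hj), rfl⟩
  have hcube : ∀ s ∈ S, s ^ 3 ∈ J := by
    intro s hs
    obtain ⟨e, he⟩ := hSp ⟨s, hs⟩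
    have he' : (⟨s, hSN hs⟩ : N) ^ 3 ^ e = 1 := Subtype.ext (by
      have := congrArg Subtype.val he
      simpa using this)
    set σ := θ ⟨s, hSN hs⟩ with hσ
    have h1 : σ ^ 3 ^ e = 1 := by rw [hσ, ← map_pow, he', map_one]
    have h2 : σ ^ 48 = 1 := by
      have h : (⟨σ, ⟨_, rfl⟩⟩ : θ.range) ^ Nat.card θ.range = 1 := pow_card_eq_one'
      obtain ⟨c, hc⟩ := hrange
      rw [hc, pow_mul, show σ ^ Nat.card θ.range = 1 by simpa using congrArg Subtype.val h, one_pow]
    have hdiv : Nat.gcd 48 (3 ^ e) ∣ 3 := by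
      rw [show (48 : ℕ) = 3 * 2 ^ 4 from rfl,
        Nat.Coprime.gcd_mul_right_cancel 3 (Nat.Coprime.pow 4 e (by norm_num : Nat.Coprime 2 3))]
      exact Nat.gcd_dvd_left _ _
    obtain ⟨c, hc⟩ := hdiv
    have h3 : σ ^ 3 = 1 := by rw [hc, pow_mul, pow_gcd_eq_one.2 ⟨h2, h1⟩, one_pow]
    have hk3 : (⟨s, hSN hs⟩ : N) ^ 3 ∈ θ.ker := by rw [MonoidHom.mem_ker, map_pow, ← hσ, h3]
    simpa [Subgroup.mem_subgroupOf] using hker hk3
  -- a larger three-group would move `J` inside `S`
  obtain ⟨T, hT⟩ := hSp.exists_le_sylow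
  have hlt : S < (T : Subgroup G) := by
    refine lt_of_le_of_ne hT fun he => ?_
    have hd : 3 ^ 5 ∣ Nat.card (T : Subgroup G) := T.pow_dvd_card_of_pow_dvd_card h5
    rw [← he] at hd
    exact (by norm_num : ¬ 3 ^ 5 ∣ 27 * 48) ((hd.trans (Subgroup.card_dvd_of_le hSN)).trans
      (card_N_dvd co hk))
  obtain ⟨t, htT, htn, htS⟩ : ∃ t ∈ (T : Subgroup G), t ∈ Subgroup.normalizer (S : Set G) ∧ t ∉ S := by
    have hnil : Group.IsNilpotent (T : Subgroup G) := T.2.isNilpotent
    have hne : S.subgroupOf (T : Subgroup G) < ⊤ := by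
      rw [lt_top_iff_ne_top, Ne, Subgroup.subgroupOf_eq_top]
      exact hlt.not_ge
    obtain ⟨t, ht, htS⟩ := SetLike.exists_of_lt (normalizerCondition_of_isNilpotent _ hne)
    refine ⟨t, t.2, ?_, fun h => htS h⟩
    refine Subgroup.mem_normalizer_fintype fun s hs => ?_
    exact (Subgroup.mem_normalizer_iff.1 ht ⟨s, hT hs⟩).1 hs
  refine htS ?_
  -- `t` normalises `J`
  have htN : t ∈ N := by
    refine Subgroup.mem_normalizer_fintype fun j hj => ?_
    by_contra hjJ
    have haS : t * j * t⁻¹ ∈ S := (Subgroup.mem_normalizer_iff.1 htn j).1 (hJS hj)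
    set J' := J.map (MulAut.conj t).toMonoidHom with hJ'
    have hJ'S : J' ≤ S := by
      rintro _ ⟨g, hg, rfl⟩
      exact (Subgroup.mem_normalizer_iff.1 htn g).1 (hJS hg)
    have hJ'c : Nat.card J' = 27 := by
      rw [hJ', Nat.card_congr (J.equivMapOfInjective _ (MulAut.conj t).injective).symm.toEquiv, card_J co]
    refine hjJ (no_large_fix co (fun n hn => hk n hn) (hSN haS) (hcube _ haS) (Q := J' ⊓ J) inf_le_right ?_ ?_)
    · -- the index of `J` in `S` is three
      have hS81 : Nat.card S ∣ 81 := by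
        obtain ⟨e, he⟩ := hSp.exists_card_eq
        have hdS : 3 ^ e ∣ 3 ^ 4 * 16 := he ▸ (Subgroup.card_dvd_of_le hSN).trans (card_N_dvd co hk)
        rw [he]
        exact (Nat.Coprime.pow_left e (by norm_num : Nat.Coprime 3 16)).dvd_of_dvd_mul_right hdS
      have h1 : J.relIndex J' ∣ Nat.card J' := Subgroup.relIndex_dvd_card _ _
      have h2 : J.relIndex J' ≤ J.relIndex S :=
        Subgroup.relIndex_le_of_le_right hJ'S (Nat.pos_of_dvd_of_pos (Subgroup.relIndex_dvd_card _ _) Nat.card_pos).ne'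
      have h3 : J.relIndex S * 27 = Nat.card S := by
        rw [← card_J co, mul_comm, card_rel hJS]
      have h4 : Nat.card (J' ⊓ J : Subgroup G) * J.relIndex J' = 27 := by
        rw [← hJ'c, ← Subgroup.inf_relIndex_left, card_rel inf_le_left]
      have h5 := Nat.le_of_dvd (by norm_num) hS81
      nlinarith
    · intro q hq
      obtain ⟨⟨g, hg, rfl⟩, -⟩ := Subgroup.mem_inf.1 hq
      show t * j * t⁻¹ * (t * g * t⁻¹) = t * g * t⁻¹ * (t * j * t⁻¹)
      rw [show t * j * t⁻¹ * (t * g * t⁻¹) = t * (j * g) * t⁻¹ by group, comm_J co hj hg]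
      group
  -- a three-element of the normaliser normalising `S` lies in it
  obtain ⟨e, he⟩ := T.2 ⟨t, htT⟩
  have htS' : (⟨t, htN⟩ : N) ∈ Subgroup.normalizer ((S0 : Subgroup N) : Set N) := by
    refine Subgroup.mem_normalizer_fintype fun s hs => ?_
    obtain ⟨s', hs', hse⟩ := Subgroup.mem_map.1
      ((Subgroup.mem_normalizer_iff.1 htn _).1 (Subgroup.mem_map_of_mem N.subtype hs))
    have : s' = ⟨t, htN⟩ * s * (⟨t, htN⟩ : N)⁻¹ := Subtype.ext hse
    exact this ▸ hs'
  have hp' : IsPGroup 3 (Subgroup.zpowers (⟨t, htN⟩ : N)) := by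
    rintro ⟨g, hg⟩
    obtain ⟨i, rfl⟩ := Subgroup.mem_zpowers_iff.1 hg
    refine ⟨e, Subtype.ext (Subtype.ext ?_)⟩
    have he' : t ^ 3 ^ e = 1 := congrArg Subtype.val he
    simp only [SubmonoidClass.coe_pow, Subgroup.coe_zpow, Subgroup.coe_one]
    rw [← zpow_natCast, ← zpow_mul, mul_comm, zpow_mul, zpow_natCast, he', one_zpow]
  have hle : Subgroup.zpowers (⟨t, htN⟩ : N) ⊔ (S0 : Subgroup N) = S0 :=
    S0.3 (hp'.to_sup_of_normal_right' S0.2 (Subgroup.zpowers_le.2 htS')) le_sup_right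
  exact ⟨⟨t, htN⟩, hle.le (Subgroup.mem_sup_left (Subgroup.mem_zpowers _)), rfl⟩

end Cfsg.Agent.S9CoordPlane37
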