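import Mathlib
import Cfsg.Agent.Lib.S9Model37
import Cfsg.Agent.Lib.S9CoordMat37
import Cfsg.Agent.Lib.S9CoordAut37
import Cfsg.Agent.Lib.S9CoordLin37

/-!
The coordinates coming from the centraliser of a product of three disjoint three-cycles.
-/

set_option autoImplicit false
set_option maxRecDepth 100000

namespace Cfsg.Agent.S9CoordPts37

open Equiv S9Model37 S9CoordMat37 S9CoordLin37

/-- The product of the three cycles. -/
def cc : P9 := c1 * c2 * c3

def cyc : Fin 3 → P9 := ![c1, c2, c3]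
def blk (i : Fin 9) : Fin 3 := Fin.ofNat 3 (i.val / 3)
def pt (j : Fin 3) : Fin 9 := Fin.ofNat 9 (3 * j.val)
def colv : Fin 3 → V3 := ![(1, 0, 0), (0, 1, 0), (0, 0, 1)]

theorem blk_cc : ∀ i, blk (cc i) = blk i := by decide +kernel
theorem orbit : ∀ i, ∃ m : Fin 3, (cc ^ (m : ℕ)) (pt (blk i)) = i := by decide +kernel
theorem blk_orbit : ∀ (j : Fin 3) (m : Fin 3), blk ((cc ^ (m : ℕ)) (pt j)) = j := by decide +kernel
theorem cyc_apply : ∀ j i, cyc j i = if blk i = j then cc i else i := by decide +kernel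
theorem bv_pt : ∀ v : V3, ∀ j m : Fin 3,
    bv v ((cc ^ (m : ℕ)) (pt j)) = (cc ^ (m : ℕ)) ((cc ^ (![v.1, v.2.1, v.2.2] j).val) (pt j)) := by
  decide +kernel
theorem bv_col : ∀ j, ∀ i, bv (colv j) i = cyc j i := by decide +kernel
theorem perm_p3 : ∀ a b c : Fin 3, a ≠ b → a ≠ c → b ≠ c →
    ∃ p, p3 p = (colv a, colv b, colv c) := by decide +kernel
theorem gen_comm : ∀ v : V3, ∀ i, cc (bv v i) = bv v (cc i) := by decide +kernel
theorem p9_comm : ∀ p, ∀ i, cc (p9 p i) = p9 p (cc i) := by decide +kernel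
theorem p9_mul : ∀ p q, ∃ r, ∀ i, p9 r i = p9 p (p9 q i) := by decide +kernel
theorem p9_inv : ∀ p, ∃ q, ∀ i, p9 p (p9 q i) = i := by decide +kernel
theorem p9_bv : ∀ p, ∀ v, (∀ i, bv v i = p9 p i) → v = 0 := by decide +kernel
theorem sm_comm : ∀ s : ZMod 3, ∀ p, ∀ v, mv (p3 p) (sm s v) = sm s (mv (p3 p) v) := by
  decide +kernel
theorem sm_sm : ∀ s : ZMod 3, s ≠ 0 → ∀ v, sm s (sm s v) = v := by decide +kernel
theorem sm_diag : ∀ v : V3, mv (p3 1) v = v → v ≠ 0 → ∃ s : ZMod 3, s ≠ 0 ∧ v = sm s diagVec := by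
  decide +kernel
theorem sm_add : ∀ s : ZMod 3, ∀ u v, sm s (u + v) = sm s u + sm s v := by decide +kernel
theorem cube_p3 : ∀ p, mm (p3 p) (mm (p3 p) (p3 p)) = one3 → p = 0 ∨ p = 1 ∨ p = 2 := by
  decide +kernel
theorem few_fixed : ∀ p : Fin 6, p = 1 ∨ p = 2 →
    ((Finset.univ : Finset (Fin 6 × V3)).filter
      fun q => (q.1 = 0 ∨ q.1 = 1 ∨ q.1 = 2) ∧ mv (p3 p) q.2 = q.2).card = 9 := by decide +kernel

theorem mv_col : ∀ (M : M3) (a b c : Fin 3), M = (colv a, colv b, colv c) →
    mv M (colv 0) = colv a ∧ mv M (colv 1) = colv b ∧ mv M (colv 2) = colv c := by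
  rintro M a b c rfl
  refine ⟨?_, ?_, ?_⟩ <;> simp [mv, colv, sm, show ((0 : ZMod 3), (0 : ZMod 3), (0 : ZMod 3)) = (0 : V3) from rfl]

theorem bv_zero : bv 0 = 1 := by simp [bv]

theorem bv_mul (u v : V3) : bv (u + v) = bv u * bv v :=
  Equiv.ext fun i => by rw [bv_add, Equiv.Perm.mul_apply]

theorem p9_conj (p : Fin 6) (v : V3) : p9 p * bv v = bv (mv (p3 p) v) * p9 p := by
  obtain ⟨h1, h2⟩ := p3_table p
  refine Equiv.ext fun i => ?_
  rw [← h2, h1]
  exact perK_bv (false, false, false, p) v i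

/-- An element commuting with `cc` permutes the three cycles. -/
theorem exists_perm {σ : P9} (hσ : Commute σ cc) :
    ∃ p, (∀ v, σ * bv v = bv (mv (p3 p) v) * σ) ∧ (p = 0 → ∃ v, σ = bv v) := by
  have hs : ∀ i, σ (cc i) = cc (σ i) := fun i => congrArg (fun τ : P9 => τ i) hσ.eq
  have hpw : ∀ (m : ℕ) i, σ ((cc ^ m) i) = (cc ^ m) (σ i) := fun m i =>
    congrArg (fun τ : P9 => τ i) (hσ.pow_right m).eq
  set π : Fin 3 → Fin 3 := fun j => blk (σ (pt j)) with hπ
  have hblk : ∀ i, blk (σ i) = π (blk i) := by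
    intro i
    obtain ⟨m, hm⟩ := orbit i
    conv_lhs => rw [← hm, hpw]
    obtain ⟨m', hm'⟩ := orbit (σ (pt (blk i)))
    rw [← hm']
    show blk ((cc ^ (m : ℕ)) ((cc ^ (m' : ℕ)) (pt (blk (σ (pt (blk i))))))) = _
    rw [← Equiv.Perm.mul_apply, ← pow_add]
    have h3 : ∀ k : ℕ, ∀ j, blk ((cc ^ k) (pt j)) = j := by
      intro k j
      induction k with
      | zero => simpa using blk_orbit j 0
      | succ k ih => rw [pow_succ', Equiv.Perm.mul_apply, blk_cc, ih]
    rw [h3]
  have hinj : Function.Injective π := by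
    intro a b hab
    have : ∀ j : Fin 3, ∀ m : Fin 3, blk ((cc ^ (m : ℕ)) (σ (pt j))) = π j := by
      intro j m
      rw [← hpw, hblk, blk_orbit]
    obtain ⟨m, hm⟩ := orbit (σ (pt a))
    obtain ⟨m', hm'⟩ := orbit (σ (pt b))
    change blk (σ (pt a)) = blk (σ (pt b)) at hab
    rw [hab] at hm
    -- both points are in the orbit of one base point
    have h1 : σ (pt a) = (cc ^ ((m : ℕ) + 2 * (m' : ℕ))) (σ (pt b)) := by
      conv_rhs => rw [← hm', ← Equiv.Perm.mul_apply, ← pow_add]
      conv_lhs => rw [← hm]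
      have hc : cc ^ 3 = 1 := Equiv.ext (by decide +kernel)
      rw [show (m : ℕ) + 2 * (m' : ℕ) + (m' : ℕ) = (m : ℕ) + 3 * (m' : ℕ) by ring, pow_add, pow_mul,
        hc, one_pow, mul_one]
    rw [← hpw] at h1
    have h2 := σ.injective h1
    have h3 : ∀ k : ℕ, blk ((cc ^ k) (pt b)) = b := by
      intro k
      induction k with
      | zero => simpa using blk_orbit b 0
      | succ k ih => rw [pow_succ', Equiv.Perm.mul_apply, blk_cc, ih]
    have := blk_orbit a 0
    simp only [Fin.val_zero, pow_zero, Equiv.Perm.one_apply] at this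
    rw [← this, h2, h3]
  obtain ⟨p, hp⟩ := perm_p3 (π 0) (π 1) (π 2) (hinj.ne (by decide)) (hinj.ne (by decide))
    (hinj.ne (by decide))
  obtain ⟨hc0, hc1, hc2⟩ := mv_col _ _ _ _ hp
  have hcol : ∀ j, mv (p3 p) (colv j) = colv (π j) := by
    intro j; fin_cases j
    exacts [hc0, hc1, hc2]
  have hcyc : ∀ j, σ * cyc j = cyc (π j) * σ := by
    intro j
    refine Equiv.ext fun i => ?_
    rw [Equiv.Perm.mul_apply, Equiv.Perm.mul_apply, cyc_apply, cyc_apply, hblk]
    by_cases h : blk i = j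
    · rw [if_pos h, if_pos (by rw [h]), hs]
    · rw [if_neg h, if_neg fun e => h (hinj e)]
  have hcolv : ∀ j, σ * bv (colv j) = bv (mv (p3 p) (colv j)) * σ := fun j => by
    rw [hcol, Equiv.ext (bv_col j), Equiv.ext (bv_col (π j)), hcyc]
  refine ⟨p, fun v => ?_, fun hp0 => ?_⟩
  · have hz : σ * bv 0 = bv (mv (p3 p) 0) * σ := by
      have : mv (p3 p) 0 = 0 := by simp [mv, sm]
      rw [this, bv_zero, one_mul, mul_one]
    have hadd : ∀ u w, σ * bv u = bv (mv (p3 p) u) * σ → σ * bv w = bv (mv (p3 p) w) * σ →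
        σ * bv (u + w) = bv (mv (p3 p) (u + w)) * σ := fun u w hu hw => by
      rw [bv_mul, mv_add, bv_mul, ← mul_assoc, hu, mul_assoc, hw, mul_assoc]
    have hsm : ∀ (s : ZMod 3) (j : Fin 3), σ * bv (sm s (colv j)) = bv (mv (p3 p) (sm s (colv j))) * σ := by
      intro s j
      have hs3 : s = 0 ∨ s = 1 ∨ s = 2 := by revert s; decide
      rcases hs3 with rfl | rfl | rfl
      · rw [show sm (0 : ZMod 3) (colv j) = 0 by simp [sm]]; exact hz
      · rw [show sm (1 : ZMod 3) (colv j) = colv j by simp [sm]]; exact hcolv j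
      · rw [show sm (2 : ZMod 3) (colv j) = colv j + colv j by
          refine Prod.ext ?_ (Prod.ext ?_ ?_) <;> simp only [sm, Prod.fst_add, Prod.snd_add] <;> ring]
        exact hadd _ _ (hcolv j) (hcolv j)
    rw [← decomp v]
    exact hadd _ _ (hadd _ _ (hsm v.1 0) (hsm v.2.1 1)) (hsm v.2.2 2)
  · subst hp0
    have hπ1 : ∀ j, π j = j := by
      intro j
      have h := hcol j
      rw [show p3 0 = one3 from rfl, mv_one] at h
      have : ∀ a b : Fin 3, colv a = colv b → a = b := by decide +kernel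
      exact (this _ _ h).symm
    have hk : ∀ j, ∃ m : Fin 3, (cc ^ (m : ℕ)) (pt j) = σ (pt j) := by
      intro j
      obtain ⟨m, hm⟩ := orbit (σ (pt j))
      rw [show blk (σ (pt j)) = j from hπ1 j] at hm
      exact ⟨m, hm⟩
    choose m hm using hk
    refine ⟨(((m 0).val : ℕ), ((m 1).val : ℕ), ((m 2).val : ℕ)), Equiv.ext fun i => ?_⟩
    obtain ⟨l, hl⟩ := orbit i
    rw [← hl, hpw, bv_pt]
    congr 1
    have hval : ∀ a : Fin 3, ((a.val : ℕ) : ZMod 3).val = a.val := by decide
    generalize blk i = j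
    rw [← hm j]
    fin_cases j <;> simp [hval]

variable {G : Type*} [Group G] [Finite G]

/-- The starting coordinates. -/
theorem exists_coord (x : G) (hx : orderOf x = 3)
    (eC : Subgroup.centralizer ({x} : Set G) ≃* Subgroup.centralizer ({cc} : Set P9))
    (J : Subgroup G) (hJC : J ≤ Subgroup.centralizer ({x} : Set G)) (hJcomm : IsMulCommutative J)
    (hJexp : ∀ j ∈ J, j ^ 3 = 1) (hJcard : Nat.card J = 27) :
    ∃ vec : V3 → G, Coord J x vec := by
  classical
  set C := Subgroup.centralizer ({x} : Set G) with hC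
  set T := Subgroup.centralizer ({cc} : Set P9) with hT
  have memT : ∀ σ : P9, σ ∈ T ↔ Commute σ cc := fun σ => by
    rw [hT, Subgroup.mem_centralizer_singleton_iff]; rfl
  have hbT : ∀ v, bv v ∈ T := fun v => (memT _).2 (Equiv.ext fun i => (gen_comm v i).symm)
  have hpT : ∀ p, p9 p ∈ T := fun p => (memT _).2 (Equiv.ext fun i => (p9_comm p i).symm)
  let e (v : V3) : C := eC.symm ⟨bv v, hbT v⟩
  have eadd : ∀ u v, e (u + v) = e u * e v := fun u v => by
    rw [← map_mul]; exact congrArg eC.symm (Subtype.ext (bv_mul u v))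
  have einj : Function.Injective e := fun u v h =>
    bv_inj u v fun i => by
      have := congrArg Subtype.val (eC.symm.injective h)
      exact congrArg (fun τ : P9 => τ i) this
  have hperm : ∀ g : C, ∃ p, (∀ v, g * e v = e (mv (p3 p) v) * g) ∧ (p = 0 → ∃ v, e v = g) := by
    intro g
    obtain ⟨p, hp, hp0⟩ := exists_perm ((memT _).1 (eC g).2)
    refine ⟨p, fun v => eC.injective (Subtype.ext ?_), fun h => ?_⟩
    · simp only [map_mul, e, MulEquiv.apply_symm_apply, Subgroup.coe_mul]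
      exact hp v
    · obtain ⟨v, hv⟩ := hp0 h
      refine ⟨v, eC.injective (Subtype.ext ?_)⟩
      simp only [e, MulEquiv.apply_symm_apply]
      exact hv.symm
  -- `x` is a diagonal element of the base
  let xC : C := ⟨x, Subgroup.mem_centralizer_singleton_iff.2 rfl⟩
  have hxc : ∀ g : C, xC * g = g * xC := fun g => Subtype.ext
    (Subgroup.mem_centralizer_singleton_iff.1 g.2).symm
  obtain ⟨p0, hp0, hp0'⟩ := hperm xC
  have hp00 : p3 p0 = one3 := by
    have h : ∀ v, mv (p3 p0) v = v := fun v => einj (by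
      have := hp0 v
      rw [hxc] at this
      exact (mul_right_cancel this).symm)
    calc p3 p0 = mm (p3 p0) one3 := (mm_one _).symm
      _ = one3 := by simp only [mm, h]
  obtain ⟨v0, hv0⟩ := hp0' ((by decide +kernel : ∀ q, p3 q = one3 → q = 0) p0 hp00)
  have hv0d : mv (p3 1) v0 = v0 := by
    refine einj ?_
    have h1 := congrArg eC.symm (Subtype.ext (p9_conj 1 v0) :
      (⟨p9 1, hpT 1⟩ : T) * ⟨bv v0, hbT v0⟩ = ⟨bv (mv (p3 1) v0), hbT _⟩ * ⟨p9 1, hpT 1⟩)
    rw [map_mul, map_mul] at h1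
    change eC.symm ⟨p9 1, hpT 1⟩ * e v0 = e (mv (p3 1) v0) * eC.symm ⟨p9 1, hpT 1⟩ at h1
    rw [hv0, ← hxc] at h1
    exact (hv0.trans (mul_right_cancel h1)).symm
  have hv00 : v0 ≠ 0 := by
    rintro rfl
    have h0 : e 0 = 1 := by
      have := eadd 0 0
      rw [add_zero] at this
      exact mul_eq_left.1 this.symm
    rw [h0] at hv0
    have : x = 1 := (congrArg Subtype.val hv0).symm
    rw [this, orderOf_one] at hx
    omega
  obtain ⟨s, hs0, hs⟩ := sm_diag v0 hv0d hv00
  -- the base is `J`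
  have hJB : ∀ g, g ∈ J ↔ ∃ v, (e v : G) = g := by
    choose pf hpf hpf0 using hperm
    let toC (g : J) : C := ⟨g, hJC g.2⟩
    by_cases hall : ∀ g : J, pf (toC g) = 0
    · have hsub : ∀ g ∈ J, ∃ v, (e v : G) = g := fun g hg => by
        obtain ⟨v, hv⟩ := hpf0 _ (hall ⟨g, hg⟩)
        exact ⟨v, congrArg Subtype.val hv⟩
      let S : Set G := Set.range fun v => (e v : G)
      have hS : (J : Set G) ⊆ S := fun g hg => hsub g hg
      have heq : (J : Set G) = S := by
        refine Set.eq_of_subset_of_ncard_le hS ?_ (Set.toFinite _)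
        rw [Set.ncard_range_of_injective (fun u v h => einj (Subtype.ext h))]
        rw [← Nat.card_coe_set_eq]
        simp [hJcard, Nat.card_eq_fintype_card]
      exact fun g => by
        constructor
        · exact fun hg => hsub g hg
        · rintro ⟨v, rfl⟩
          exact (heq.symm ▸ ⟨v, rfl⟩ : (e v : G) ∈ (J : Set G))
    · exfalso
      push Not at hall
      obtain ⟨g1, hg1⟩ := hall
      have hmat : ∀ g h : C, mm (p3 (pf g)) (p3 (pf h)) = p3 (pf (g * h)) := by
        intro g h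
        have hv : ∀ v, mv (mm (p3 (pf g)) (p3 (pf h))) v = mv (p3 (pf (g * h))) v := fun v => by
          refine einj (mul_right_cancel (b := g * h) ?_)
          rw [← hpf (g * h) v, mv_mm, ← mul_assoc, ← hpf g, mul_assoc, ← hpf h, mul_assoc]
        calc mm (p3 (pf g)) (p3 (pf h)) = mm (mm (p3 (pf g)) (p3 (pf h))) one3 := (mm_one _).symm
          _ = mm (p3 (pf (g * h))) one3 := by simp only [mm] at hv ⊢; simp only [hv]
          _ = _ := mm_one _
      have h3 : ∀ g : J, pf (toC g) = 0 ∨ pf (toC g) = 1 ∨ pf (toC g) = 2 := by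
        intro g
        refine cube_p3 _ ?_
        rw [hmat, hmat]
        have hcube : toC g * (toC g * toC g) = 1 := Subtype.ext (by
          show (g : G) * ((g : G) * (g : G)) = 1
          rw [← hJexp g g.2, pow_succ', pow_two])
        rw [hcube]
        have : ∀ v, mv (p3 (pf (1 : C))) v = v := fun v => einj (by
          have := hpf 1 v
          rwa [one_mul, mul_one, eq_comm] at this)
        calc p3 (pf (1 : C)) = mm (p3 (pf (1 : C))) one3 := (mm_one _).symm
          _ = one3 := by simp only [mm, this]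
      -- a representative for each value, and the difference lies in the fixed part of the base
      let rep (g : J) : J := Function.invFun (fun h : J => pf (toC h)) (pf (toC g))
      have hrep : ∀ g : J, pf (toC (rep g)) = pf (toC g) := fun g =>
        Function.invFun_eq (f := fun h : J => pf (toC h)) ⟨g, rfl⟩
      have hdiff : ∀ g : J, ∃ v, e v = (toC (rep g))⁻¹ * toC g := by
        intro g
        refine hpf0 _ ?_
        have h := hmat (toC (rep g)) ((toC (rep g))⁻¹ * toC g)
        rw [mul_inv_cancel_left, hrep] at h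
        obtain ⟨q, hq⟩ := p3_inv (pf (toC g))
        have hcan : ∀ p a b, mm (p3 p) (p3 a) = p3 b → p = b → a = 0 := by decide +kernel
        exact hcan _ _ _ h rfl
      choose df hdf using hdiff
      let Φ (g : J) : Fin 6 × V3 := (pf (toC g), df g)
      have hΦ : Function.Injective Φ := by
        intro g h he
        simp only [Φ, Prod.mk.injEq] at he
        have hr : rep g = rep h := by simp only [rep, he.1]
        have := hdf g
        rw [he.2, hdf h, hr] at this
        exact Subtype.ext (congrArg (fun t : C => (t : G)) (mul_left_cancel this)).symm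
      have hmaps : ∀ g : J, Φ g ∈ (Finset.univ : Finset (Fin 6 × V3)).filter
          fun q => (q.1 = 0 ∨ q.1 = 1 ∨ q.1 = 2) ∧ mv (p3 (pf (toC g1))) q.2 = q.2 := by
        intro g
        simp only [Finset.mem_filter, Finset.mem_univ, true_and, Φ]
        refine ⟨h3 g, einj ?_⟩
        have hc : toC g1 * e (df g) = e (df g) * toC g1 := by
          rw [hdf g]
          refine Subtype.ext ?_
          show (g1 : G) * ((rep g : G)⁻¹ * (g : G)) = (rep g : G)⁻¹ * (g : G) * (g1 : G)
          exact congrArg Subtype.val (mul_comm' g1 ((rep g)⁻¹ * g) : g1 * _ = _)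
        rw [hpf] at hc
        exact mul_right_cancel hc
      letI := Fintype.ofFinite J
      have hle := Finset.card_le_card_of_injOn (s := (Finset.univ : Finset J)) Φ (fun g _ => hmaps g)
        hΦ.injOn
      rw [Finset.card_univ, ← Nat.card_eq_fintype_card, hJcard,
        few_fixed _ ((h3 g1).resolve_left hg1)] at hle
      omega
  let vec (v : V3) : G := (e (sm s v) : G)
  have hconv : ∀ (n : C) (p : Fin 6), (∀ v, n * e v = e (mv (p3 p) v) * n) →
      Mat vec (n : G) (p3 p) := fun n p h v => by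
    show (n : G) * (e (sm s v) : G) * (n : G)⁻¹ = (e (sm s (mv (p3 p) v)) : G)
    rw [mul_inv_eq_iff_eq_mul, ← sm_comm]
    exact congrArg Subtype.val (h _)
  have hinj : Function.Injective vec := fun u v h => by
    have := congrArg (sm s) (einj (Subtype.ext h))
    rwa [sm_sm s hs0, sm_sm s hs0] at this
  refine ⟨vec, fun u v => ?_, hinj, fun g => ?_, ?_, fun n hn => ?_, ?_, ?_, ?_⟩
  · show ((e (sm s (u + v)) : C) : G) = _
    rw [sm_add, eadd]; rfl
  · rw [hJB g]
    exact ⟨fun ⟨v, hv⟩ => ⟨sm s v, by show (e (sm s (sm s v)) : G) = g; rw [sm_sm s hs0, hv]⟩,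
      fun ⟨v, hv⟩ => ⟨_, hv⟩⟩
  · show ((e (sm s diagVec) : C) : G) = x
    rw [← hs, hv0]
  · obtain ⟨p, hp, -⟩ := hperm ⟨n, hn⟩
    exact ⟨p, hconv ⟨n, hn⟩ p hp⟩
  · let Hs : Subgroup T :=
      { carrier := {σ | ∃ p, p9 p = (σ : P9)}
        one_mem' := ⟨0, rfl⟩
        mul_mem' := by
          rintro a b ⟨p, hp⟩ ⟨q, hq⟩
          obtain ⟨r, hr⟩ := p9_mul p q
          exact ⟨r, Equiv.ext fun i => by rw [hr, hp, hq]; rfl⟩
        inv_mem' := by
          rintro a ⟨p, hp⟩
          obtain ⟨q, hq⟩ := p9_inv p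
          refine ⟨q, ?_⟩
          rw [Subgroup.coe_inv, ← hp]
          exact eq_inv_of_mul_eq_one_right (Equiv.ext hq) }
    refine ⟨(Hs.map eC.symm.toMonoidHom).map C.subtype, Subgroup.map_subtype_le _, ?_, fun p => ?_⟩
    · rw [Subgroup.eq_bot_iff_forall]
      intro u hu
      obtain ⟨hu, huJ⟩ := Subgroup.mem_inf.1 hu
      obtain ⟨u1, hu1, rfl⟩ := Subgroup.mem_map.1 hu
      obtain ⟨σ, ⟨p, hp⟩, rfl⟩ := Subgroup.mem_map.1 hu1
      obtain ⟨v, hv⟩ := (hJB _).1 huJ
      have hσ : (⟨bv v, hbT v⟩ : T) = σ := eC.symm.injective (Subtype.ext hv)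
      have := p9_bv p v fun i => by rw [hp, ← hσ]
      subst this
      have : σ = 1 := hσ ▸ Subtype.ext bv_zero
      rw [this]
      simp
    · refine ⟨_, Subgroup.mem_map_of_mem _ (Subgroup.mem_map_of_mem _
        (show (⟨p9 p, hpT p⟩ : T) ∈ Hs from ⟨p, rfl⟩)), hconv _ p fun v => ?_⟩
      show eC.symm _ * e v = e _ * eC.symm _
      rw [← map_mul, ← map_mul]
      exact congrArg eC.symm (Subtype.ext (p9_conj p v))
  · refine le_antisymm (fun g hg => ?_) (Subgroup.le_centralizer_iff_isMulCommutative.2 hJcomm)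
    have hxJ : x ∈ J := (hJB x).2 ⟨v0, by rw [hv0]⟩
    have hgC : g ∈ C := Subgroup.mem_centralizer_singleton_iff.2
      (Subgroup.mem_centralizer_iff.1 hg x hxJ).symm
    obtain ⟨p, hp, hp'⟩ := hperm ⟨g, hgC⟩
    have hfix : ∀ v, mv (p3 p) v = v := fun v => einj (by
      have h1 := hp v
      have h2 : (⟨g, hgC⟩ : C) * e v = e v * ⟨g, hgC⟩ := Subtype.ext
        (Subgroup.mem_centralizer_iff.1 hg _ ((hJB _).2 ⟨v, rfl⟩)).symm
      rw [h2] at h1
      exact (mul_right_cancel h1).symm)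
    have hp1 : p3 p = one3 := by
      calc p3 p = mm (p3 p) one3 := (mm_one _).symm
        _ = one3 := by simp only [mm, hfix]
    have hp0 : ∀ q, p3 q = one3 → q = 0 := by decide +kernel
    obtain ⟨v, hv⟩ := hp' (hp0 p hp1)
    exact (hJB g).2 ⟨v, congrArg Subtype.val hv⟩
  · intro g hg
    obtain ⟨p, hp, -⟩ := hperm ⟨g, hg⟩
    refine Subgroup.mem_normalizer_fintype fun j hj => ?_
    obtain ⟨v, rfl⟩ := (hJB j).1 hj
    refine (hJB _).2 ⟨mv (p3 p) v, ?_⟩
    rw [eq_mul_inv_iff_mul_eq]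
    exact (congrArg Subtype.val (hp v)).symm

end Cfsg.Agent.S9CoordPts37
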