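import Mathlib
import Cfsg.Agent.Lib.S9Model37
import Cfsg.Agent.Lib.S9CoordMat37
import Cfsg.Agent.Lib.S9CoordLin37
import Cfsg.Agent.Lib.S9CoordPts37
import Cfsg.Agent.Lib.S9CoordBase37
import Cfsg.Agent.Lib.S9CoordPlane37
import Cfsg.Agent.S3331

/-!
Coordinates for the three-local characterisation of the symmetric group of degree nine (S3343).
-/

set_option autoImplicit false
set_option maxRecDepth 20000

namespace Cfsg.Agent.S9Coord37

open S9Model37 S9CoordMat37 S9CoordLin37 S9CoordPlane37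

universe u
variable {G : Type u} [Group G] [Finite G]

theorem coprime_of_sq {H : Type*} [Group H] [Finite H] (h : ∀ a : H, a ^ 2 = 1) :
    (Nat.card H).Coprime 3 := by
  haveI : Fact (Nat.Prime 2) := ⟨Nat.prime_two⟩
  obtain ⟨n, hn⟩ := IsPGroup.exists_card_eq (p := 2) (G := H) fun a => ⟨1, by rw [pow_one]; exact h a⟩
  rw [hn]
  exact Nat.Coprime.pow_left n (by norm_num)

theorem alt_five_loc : ∃ (a : alternatingGroup (Fin 5)) (V : Subgroup (alternatingGroup (Fin 5))),
    orderOf a = 3 ∧ V ≠ ⊥ ∧ (Nat.card V).Coprime 3 ∧ a ∈ Subgroup.normalizer (V : Set _) := by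
  let a : alternatingGroup (Fin 5) := ⟨Equiv.swap 0 1 * Equiv.swap 1 2, Equiv.Perm.mem_alternatingGroup.2 (by decide +kernel)⟩
  let b : alternatingGroup (Fin 5) := ⟨Equiv.swap 0 1 * Equiv.swap 2 3, Equiv.Perm.mem_alternatingGroup.2 (by decide +kernel)⟩
  let c : alternatingGroup (Fin 5) := ⟨Equiv.swap 0 2 * Equiv.swap 1 3, Equiv.Perm.mem_alternatingGroup.2 (by decide +kernel)⟩
  let V : Subgroup (alternatingGroup (Fin 5)) :=
    { carrier := {1, b, c, b * c}
      one_mem' := by simp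
      mul_mem' := by
        intro p q hp hq
        simp only [Set.mem_insert_iff, Set.mem_singleton_iff] at hp hq ⊢
        rcases hp with rfl | rfl | rfl | rfl <;> rcases hq with rfl | rfl | rfl | rfl <;>
          decide +kernel
      inv_mem' := by
        intro p hp
        simp only [Set.mem_insert_iff, Set.mem_singleton_iff] at hp ⊢
        rcases hp with rfl | rfl | rfl | rfl <;> decide +kernel }
  haveI : Fact (Nat.Prime 3) := ⟨Nat.prime_three⟩
  refine ⟨a, V, orderOf_eq_prime (by decide +kernel) (by decide +kernel), ?_, ?_, ?_⟩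
  · intro h
    have hb : b ∈ V := show b ∈ ({1, b, c, b * c} : Set _) by simp
    rw [h, Subgroup.mem_bot] at hb
    revert hb
    decide +kernel
  · refine coprime_of_sq fun p => Subtype.ext ?_
    obtain ⟨p, hp⟩ := p
    change p ∈ ({1, b, c, b * c} : Set _) at hp
    simp only [Set.mem_insert_iff, Set.mem_singleton_iff] at hp
    show p ^ 2 = 1
    rcases hp with rfl | rfl | rfl | rfl <;> decide +kernel
  · refine Subgroup.mem_normalizer_fintype fun p hp => ?_
    change p ∈ ({1, b, c, b * c} : Set _) at hp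
    show a * p * a⁻¹ ∈ ({1, b, c, b * c} : Set _)
    simp only [Set.mem_insert_iff, Set.mem_singleton_iff] at hp ⊢
    rcases hp with rfl | rfl | rfl | rfl <;> decide +kernel

theorem psl_seven_loc : ∃ (a : Matrix.ProjectiveSpecialLinearGroup (Fin 2) (ZMod 7))
    (V : Subgroup (Matrix.ProjectiveSpecialLinearGroup (Fin 2) (ZMod 7))),
    orderOf a = 3 ∧ V ≠ ⊥ ∧ (Nat.card V).Coprime 3 ∧ a ∈ Subgroup.normalizer (V : Set _) := by
  let A : Matrix.SpecialLinearGroup (Fin 2) (ZMod 7) := ⟨!![2, 0; 0, 4], by decide +kernel⟩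
  let U : Matrix.SpecialLinearGroup (Fin 2) (ZMod 7) := ⟨!![1, 1; 0, 1], by decide +kernel⟩
  haveI : Fact (Nat.Prime 3) := ⟨Nat.prime_three⟩
  haveI : Fact (Nat.Prime 7) := ⟨by norm_num⟩
  let π := QuotientGroup.mk' (Subgroup.center (Matrix.SpecialLinearGroup (Fin 2) (ZMod 7)))
  have hcen : ∀ g, π g = 1 → ∀ h, h * g = g * h := fun g hg h =>
    Subgroup.mem_center_iff.1 ((QuotientGroup.eq_one_iff g).1 hg) h
  have hne : U * A ≠ A * U := by decide +kernel
  have hU : orderOf (π U) = 7 := orderOf_eq_prime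
    (by rw [← map_pow, show U ^ 7 = 1 by decide +kernel, map_one]) fun h => hne (hcen U h A).symm
  refine ⟨π A, Subgroup.zpowers (π U), orderOf_eq_prime
    (by rw [← map_pow, show A ^ 3 = 1 by decide +kernel, map_one]) fun h => hne (hcen A h U), ?_, ?_, ?_⟩
  · rw [Ne, Subgroup.zpowers_eq_bot]
    exact fun h => hne (hcen U h A).symm
  · rw [Nat.card_zpowers, hU]
    norm_num
  · have hconj : π A * π U * (π A)⁻¹ = π U ^ 4 := by
      rw [← map_inv, ← map_mul, ← map_mul, ← map_pow]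
      exact congrArg π (by decide +kernel)
    refine Subgroup.mem_normalizer_fintype fun p hp => ?_
    obtain ⟨i, rfl⟩ := Subgroup.mem_zpowers_iff.1 hp
    show π A * π U ^ i * (π A)⁻¹ ∈ Subgroup.zpowers (π U)
    rw [← conj_zpow, hconj]
    exact zpow_mem (pow_mem (Subgroup.mem_zpowers _) _) _

variable {J : Subgroup G} {x : G} {vec : V3 → G}

/-- Moving a three-element with an invariant three-prime subgroup onto a Sylow three-subgroup of order
three which is its own centraliser. -/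
theorem lift_loc {H : Type*} [Group H] [Finite H] {L : Type*} [Group L] (Jb : Subgroup H)
    (hJb3 : Nat.card Jb = 3) (hC : Subgroup.centralizer (Jb : Set H) = Jb)
    (hno : ∀ M : Subgroup H, (Nat.card M).Coprime 3 → (∀ j ∈ Jb, ∀ m ∈ M, j * m * j⁻¹ ∈ M) → M = ⊥)
    (e : H ≃* L) (a : L) (V : Subgroup L) (ha : orderOf a = 3) (hV : V ≠ ⊥)
    (hVc : (Nat.card V).Coprime 3) (haV : a ∈ Subgroup.normalizer (V : Set L)) : False := by
  haveI : Fact (Nat.Prime 3) := ⟨Nat.prime_three⟩
  obtain ⟨P, hP⟩ := (IsPGroup.of_card (n := 1) (by rw [pow_one]; exact hJb3) : IsPGroup 3 Jb).exists_le_sylow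
  have hPJ : (P : Subgroup H) = Jb := by
    refine le_antisymm ?_ hP
    haveI : Nontrivial (P : Subgroup H) := by
      rw [Subgroup.nontrivial_iff_ne_bot]
      intro h
      rw [h, le_bot_iff] at hP
      rw [hP, Subgroup.card_bot] at hJb3
      omega
    haveI := P.2.center_nontrivial
    obtain ⟨⟨z, hz⟩, hz1⟩ := exists_ne (1 : Subgroup.center (P : Subgroup H))
    have hzJ : ((z : (P : Subgroup H)) : H) ∈ Jb := by
      rw [← hC, Subgroup.mem_centralizer_iff]
      intro j hj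
      exact congrArg Subtype.val (Subgroup.mem_center_iff.1 hz ⟨j, hP hj⟩)
    have hgen : Subgroup.zpowers ((z : (P : Subgroup H)) : H) = Jb := by
      refine Subgroup.eq_of_le_of_card_ge (Subgroup.zpowers_le.2 hzJ) ?_
      rw [hJb3, Nat.card_zpowers]
      have hd := Subgroup.orderOf_dvd_natCard Jb hzJ
      rw [hJb3] at hd
      rcases (Nat.dvd_prime Nat.prime_three).1 hd with e1 | e1
      · exact absurd (Subtype.ext (Subtype.ext (orderOf_eq_one_iff.1 e1))) hz1
      · omega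
    intro p hp
    rw [← hC, ← hgen, Subgroup.mem_centralizer_iff]
    intro j hj
    obtain ⟨i, rfl⟩ := Subgroup.mem_zpowers_iff.1 hj
    have hc : Commute (z : (P : Subgroup H)).1 p :=
      (congrArg Subtype.val (Subgroup.mem_center_iff.1 hz ⟨p, hp⟩)).symm
    exact (hc.zpow_left i).eq
  have ha' : orderOf (e.symm a) = 3 := by rw [MulEquiv.orderOf_eq, ha]
  obtain ⟨P', hP'⟩ := (IsPGroup.of_card (n := 1) (by rw [pow_one, Nat.card_zpowers, ha']) :
    IsPGroup 3 (Subgroup.zpowers (e.symm a))).exists_le_sylow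
  obtain ⟨g, hg⟩ := MulAction.exists_smul_eq H P' P
  have hmem : ∀ j ∈ Jb, g⁻¹ * j * g ∈ Subgroup.zpowers (e.symm a) := by
    intro j hj
    have hP'3 : Nat.card (P' : Subgroup H) = 3 := by
      rw [P'.card_eq_multiplicity, ← P.card_eq_multiplicity, hPJ, hJb3]
    have hz : Subgroup.zpowers (e.symm a) = (P' : Subgroup H) :=
      Subgroup.eq_of_le_of_card_ge hP' (by rw [hP'3, Nat.card_zpowers, ha'])
    rw [hz]
    have hj' : j ∈ (P : Subgroup H) := hPJ.symm ▸ hj
    rw [← hg, Sylow.smul_def, Sylow.pointwise_smul_def,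
      Subgroup.mem_pointwise_smul_iff_inv_smul_mem] at hj'
    simpa [MulAut.smul_def, mul_assoc] using hj'
  let V' : Subgroup H := (V.comap e.toMonoidHom).comap (MulAut.conj g⁻¹).toMonoidHom
  have hbij : Nat.card V' = Nat.card V :=
    Nat.card_congr ((((MulAut.conj g⁻¹).trans e).toEquiv).subtypeEquiv fun q => Iff.rfl)
  have hV'bot : V' = ⊥ := by
    refine hno V' (hbij ▸ hVc) fun j hj m hm => ?_
    obtain ⟨i, hi⟩ := Subgroup.mem_zpowers_iff.1 (hmem j hj)
    show e (g⁻¹ * (j * m * j⁻¹) * g⁻¹⁻¹) ∈ V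
    have : e (g⁻¹ * (j * m * j⁻¹) * g⁻¹⁻¹) = a ^ i * e (g⁻¹ * m * g⁻¹⁻¹) * (a ^ i)⁻¹ := by
      rw [show g⁻¹ * (j * m * j⁻¹) * g⁻¹⁻¹ = (g⁻¹ * j * g) * (g⁻¹ * m * g⁻¹⁻¹) * (g⁻¹ * j * g)⁻¹ by
        group, ← hi, map_mul, map_mul, map_inv, map_zpow, MulEquiv.apply_symm_apply]
    rw [this]
    exact (Subgroup.mem_normalizer_iff.1 (zpow_mem haV i) _).1 hm
  rw [hV'bot, Subgroup.card_bot] at hbij
  exact hV (Subgroup.card_eq_one.1 hbij.symm)

/-- The centraliser of a plane of `J` normalises `J`. -/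
theorem plane (co : Coord J x vec)
    (hk : ∀ n ∈ Subgroup.normalizer (J : Set G), ∃ k : K, Mat vec n (matK k))
    (hsig : ∀ K : Subgroup G, (Nat.card K).Coprime 3 →
      (∀ j ∈ J, K.map (MulAut.conj j).toMonoidHom = K) → K = ⊥)
    (Q : Subgroup G) (hQJ : Q ≤ J) (hQ : Nat.card Q = 9) :
    Subgroup.centralizer (Q : Set G) ≤ Subgroup.normalizer (J : Set G) := by
  classical
  haveI : Fact (Nat.Prime 3) := ⟨Nat.prime_three⟩
  set X := Subgroup.centralizer (Q : Set G) with hX
  have hJX : J ≤ X := fun j hj => Subgroup.mem_centralizer_iff.2 fun q hq => comm_J co (hQJ hq) hj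
  have hQX : Q ≤ X := hQJ.trans hJX
  have hcen : ∀ q ∈ Q, ∀ g ∈ X, g * q = q * g := fun q hq g hg =>
    (Subgroup.mem_centralizer_iff.1 hg q hq).symm
  set Qx := Q.subgroupOf X with hQx
  set Jx := J.subgroupOf X with hJx
  haveI hQn : Qx.Normal := ⟨fun q hq g => by
    show (g : G) * (q : G) * (g : G)⁻¹ ∈ Q
    rw [hcen (q : G) hq _ g.2, mul_inv_cancel_right]
    exact hq⟩
  set Jb := Jx.map (QuotientGroup.mk' Qx) with hJb
  have hJb3 : Nat.card Jb = 3 := by
    have h1 := Subgroup.relIndex_ker Jx (QuotientGroup.mk' Qx)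
    rw [QuotientGroup.ker_mk'] at h1
    have h2 : Qx.relIndex Jx = 3 := by
      have h := card_rel hQJ
      rw [hQ, card_J co] at h
      rw [hQx, hJx, Subgroup.relIndex_subgroupOf hJX]
      omega
    rw [← h2, h1]
  have memJb : ∀ g : X, (g : G) ∈ J → (QuotientGroup.mk' Qx g) ∈ Jb := fun g hg =>
    Subgroup.mem_map_of_mem _ hg
  have hC : Subgroup.centralizer (Jb : Set (X ⧸ Qx)) = Jb := by
    refine le_antisymm (fun q hq => ?_) ?_
    · obtain ⟨g, rfl⟩ := QuotientGroup.mk'_surjective Qx q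
      refine memJb g ?_
      have hmove : ∀ j ∈ J, ∃ q ∈ Q, (g : G) * j * (g : G)⁻¹ = j * q := by
        intro j hj
        have h := Subgroup.mem_centralizer_iff.1 hq _ (memJb ⟨j, hJX hj⟩ hj)
        rw [← map_mul, ← map_mul] at h
        have h' : ((⟨j, hJX hj⟩ * g : X))⁻¹ * (g * ⟨j, hJX hj⟩) ∈ Qx := QuotientGroup.eq.1 h
        refine ⟨_, h', ?_⟩
        have hq' : (g : G) * (((⟨j, hJX hj⟩ * g : X))⁻¹ * (g * ⟨j, hJX hj⟩) : X) =
            (((⟨j, hJX hj⟩ * g : X))⁻¹ * (g * ⟨j, hJX hj⟩) : X) * (g : G) := hcen _ h' _ g.2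
        simp only [Subgroup.coe_mul, Subgroup.coe_inv] at hq' ⊢
        calc (g : G) * j * (g : G)⁻¹ = j * ((g : G) * ((j * g)⁻¹ * (g * j)) * (g : G)⁻¹) := by group
          _ = _ := by rw [hq', mul_inv_cancel_right]; rfl
      have hgN : (g : G) ∈ Subgroup.normalizer (J : Set G) := by
        refine Subgroup.mem_normalizer_fintype fun j hj => ?_
        obtain ⟨q, hq, e⟩ := hmove j hj
        show (g : G) * j * (g : G)⁻¹ ∈ J
        rw [e]
        exact mul_mem hj (hQJ hq)
      refine no_large_fix co hk hgN ?_ hQJ hQ.ge fun q hq => hcen q hq _ g.2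
      rw [← co.cJ, Subgroup.mem_centralizer_iff]
      intro j hj
      obtain ⟨q, hq, e⟩ := hmove j hj
      have hgq : (g : G) * q = q * (g : G) := hcen q hq _ g.2
      have hq3 : q * q * q = 1 := by rw [← exp_J co (hQJ hq), pow_succ, pow_two]
      have e1 : (g : G) * j = j * q * (g : G) := by rw [← e, inv_mul_cancel_right]
      have hpow : ∀ n : ℕ, (g : G) ^ n * j = j * q ^ n * (g : G) ^ n := by
        intro n
        induction n with
        | zero => simp
        | succ n ih =>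
          have hc : (g : G) * q ^ n = q ^ n * (g : G) := (Commute.pow_right hgq n).eq
          calc (g : G) ^ (n + 1) * j = (g : G) * j * q ^ n * (g : G) ^ n := by
                rw [pow_succ', mul_assoc, ih]; group
            _ = j * q * ((g : G) * q ^ n) * (g : G) ^ n := by rw [e1]; group
            _ = _ := by rw [hc, pow_succ' q, pow_succ' (g : G)]; group
      rw [hpow, exp_J co (hQJ hq), mul_one]
    · rintro _ ⟨a, ha, rfl⟩
      rw [Subgroup.mem_centralizer_iff]
      rintro _ ⟨b, hb, rfl⟩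
      rw [← map_mul, ← map_mul]
      exact congrArg _ (Subtype.ext (comm_J co hb ha))
  -- no nontrivial three-prime subgroup is normalised by the image of `J`
  have no_loc : ∀ M : Subgroup (X ⧸ Qx), (Nat.card M).Coprime 3 →
      (∀ j ∈ Jb, ∀ m ∈ M, j * m * j⁻¹ ∈ M) → M = ⊥ := by
    intro M hM hinv
    set Mx := M.comap (QuotientGroup.mk' Qx) with hMx
    have hQM : Qx ≤ Mx := fun q hq => by
      show QuotientGroup.mk' Qx q ∈ M
      rw [show QuotientGroup.mk' Qx q = 1 from (QuotientGroup.eq_one_iff q).2 hq]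
      exact M.one_mem
    set Qm := Qx.subgroupOf Mx with hQm
    haveI : Qm.Normal := hQn.comap _
    have hQm9 : Nat.card Qm = 9 := by
      rw [hQm, Nat.card_congr (Subgroup.subgroupOfEquivOfLe hQM).toEquiv,
        Nat.card_congr (Subgroup.subgroupOfEquivOfLe hQX).toEquiv, hQ]
    have hidx : Qm.index = Nat.card M := by
      have h := Subgroup.relIndex_ker Mx (QuotientGroup.mk' Qx)
      rw [QuotientGroup.ker_mk'] at h
      show Qx.relIndex Mx = _
      rw [h, hMx, Subgroup.map_comap_eq_self_of_surjective (QuotientGroup.mk'_surjective Qx)]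
    have hcop : (Nat.card Qm).Coprime Qm.index := by
      rw [hQm9, hidx]
      exact (Nat.Coprime.pow_left 2 hM.symm : (3 ^ 2).Coprime _)
    obtain ⟨O, hO⟩ := Subgroup.exists_right_complement'_of_coprime hcop
    have hcen' : ∀ q ∈ Qm, ∀ m : Mx, m * q = q * m := fun q hq m =>
      Subtype.ext (Subtype.ext (hcen _ hq _ (m : X).2))
    have hOcard : Nat.card O = Nat.card M := by rw [← hidx, hO.symm.index_eq_card]
    have hOpow : ∀ m : Mx, m ^ Nat.card O = 1 → m ∈ O := by
      intro m hm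
      obtain ⟨⟨q, o⟩, hqo⟩ := hO.2 m
      simp only at hqo
      have hc : Commute (o : Mx) (q : Mx) := hcen' _ q.2 _
      have ho : (o : Mx) ^ Nat.card O = 1 :=
        orderOf_dvd_iff_pow_eq_one.1 (Subgroup.orderOf_dvd_natCard O o.2)
      have hq1 : (q : Mx) ^ Nat.card O = 1 := by
        rw [← hqo, hc.symm.mul_pow, ho, mul_one] at hm
        exact hm
      have hq9 : (q : Mx) ^ Nat.card Qm = 1 :=
        orderOf_dvd_iff_pow_eq_one.1 (Subgroup.orderOf_dvd_natCard Qm q.2)
      have := pow_gcd_eq_one.2 ⟨hq9, hq1⟩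
      rw [hOcard, ← hidx, hcop.gcd_eq_one, pow_one] at this
      rw [← hqo, this, one_mul]
      exact o.2
    let Og : Subgroup G := O.map (X.subtype.comp Mx.subtype)
    have hinj : Function.Injective (X.subtype.comp Mx.subtype) :=
      Subtype.val_injective.comp Subtype.val_injective
    have hOg : Og = ⊥ := by
      refine hsig Og ?_ fun j hj => ?_
      · rw [Nat.card_congr (O.equivMapOfInjective _ hinj).symm.toEquiv, hOcard]
        exact hM
      · refine Subgroup.eq_of_le_of_card_ge ?_ ?_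
        · rintro _ ⟨_, ⟨m, hm, rfl⟩, rfl⟩
          have hmem : (⟨j, hJX hj⟩ : X) * (m : X) * (⟨j, hJX hj⟩ : X)⁻¹ ∈ Mx := by
            show QuotientGroup.mk' Qx _ ∈ M
            rw [map_mul, map_mul, map_inv]
            exact hinv _ (memJb ⟨j, hJX hj⟩ hj) _ m.2
          refine ⟨⟨_, hmem⟩, hOpow _ (Subtype.ext ?_), rfl⟩
          show ((⟨j, hJX hj⟩ : X) * (m : X) * (⟨j, hJX hj⟩ : X)⁻¹) ^ Nat.card O = 1
          rw [conj_pow]
          have hm1 : (m : X) ^ Nat.card O = 1 := congrArg Subtype.val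
            (orderOf_dvd_iff_pow_eq_one.1 (Subgroup.orderOf_dvd_natCard O hm))
          rw [hm1, mul_one, mul_inv_cancel]
        · rw [Nat.card_congr (Og.equivMapOfInjective _ (MulAut.conj j).injective).symm.toEquiv]
    have hObot : O = ⊥ := (Subgroup.map_eq_bot_iff_of_injective O hinj).1 hOg
    rw [hObot, Subgroup.card_bot] at hOcard
    exact Subgroup.card_eq_one.1 hOcard.symm
  have hfinish : (Jb : Subgroup (X ⧸ Qx)).Normal → X ≤ Subgroup.normalizer (J : Set G) := by
    intro hn g hg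
    refine Subgroup.mem_normalizer_fintype fun j hj => ?_
    obtain ⟨a, ha, e⟩ := hn.conj_mem _ (memJb ⟨j, hJX hj⟩ hj) (QuotientGroup.mk' Qx ⟨g, hg⟩)
    rw [← map_inv, ← map_mul, ← map_mul] at e
    have h' : ((a : X))⁻¹ * (⟨g, hg⟩ * ⟨j, hJX hj⟩ * (⟨g, hg⟩ : X)⁻¹) ∈ Qx := QuotientGroup.eq.1 e
    have h'' : (a : G)⁻¹ * (g * j * g⁻¹) ∈ J := hQJ h'
    have := mul_mem (show (a : G) ∈ J from ha) h''
    rwa [mul_inv_cancel_left] at this
  rcases S3331.result Jb hJb3 hC with ⟨N, hN, -, hNc, hq⟩ | ⟨N, hN, -, hN2, ⟨e⟩⟩ | he3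
  · haveI := hN
    have hbot := no_loc N hNc fun j _ m hm => hN.conj_mem m hm j
    subst hbot
    refine hfinish ?_
    have hcard : Nat.card (X ⧸ Qx) = 3 ∨ Nat.card (X ⧸ Qx) = 6 := by
      have he : Nat.card ((X ⧸ Qx) ⧸ (⊥ : Subgroup (X ⧸ Qx))) = Nat.card (X ⧸ Qx) :=
        Nat.card_congr (QuotientGroup.quotientBot (G := X ⧸ Qx)).toEquiv
      rcases hq with h | ⟨⟨e⟩⟩
      · exact Or.inl (he ▸ h)
      · right
        rw [← he, Nat.card_congr e.toEquiv, Nat.card_perm, Nat.card_eq_fintype_card]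
        rfl
    have hidx := Jb.card_mul_index
    rw [hJb3] at hidx
    rcases hcard with h | h <;> rw [h] at hidx
    · rw [Subgroup.index_eq_one.1 (show Jb.index = 1 by omega)]
      infer_instance
    · exact Subgroup.normal_of_index_eq_two (show Jb.index = 2 by omega)
  · haveI := hN
    have hbot := no_loc N (coprime_of_sq fun n => Subtype.ext (hN2 n n.2)) fun j _ m hm =>
      hN.conj_mem m hm j
    subst hbot
    obtain ⟨a, V, ha, hV, hVc, haV⟩ := alt_five_loc
    exact (lift_loc Jb hJb3 hC no_loc ((QuotientGroup.quotientBot (G := X ⧸ Qx)).symm.trans e) a V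
      ha hV hVc haV).elim
  · obtain ⟨e⟩ := he3
    obtain ⟨a, V, ha, hV, hVc, haV⟩ := psl_seven_loc
    exact (lift_loc Jb hJb3 hC no_loc e a V ha hV hVc haV).elim

/-- Coordinates on the normaliser of `J`: it is one of the four model groups. -/
theorem exists_base (x : G) (hx : orderOf x = 3)
    (eC : Subgroup.centralizer ({x} : Set G) ≃*
      Subgroup.centralizer ({Equiv.swap (0 : Fin 9) 1 * Equiv.swap 1 2 * Equiv.swap 3 4 * Equiv.swap 4 5 *
        Equiv.swap 6 7 * Equiv.swap 7 8} : Set (Equiv.Perm (Fin 9))))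
    (J : Subgroup G) (hJC : J ≤ Subgroup.centralizer ({x} : Set G)) (hJcomm : IsMulCommutative J)
    (hJexp : ∀ j ∈ J, j ^ 3 = 1) (hJcard : Nat.card J = 27)
    (hJsig : ∀ K : Subgroup G, (Nat.card K).Coprime 3 →
      (∀ j ∈ J, K.map (MulAut.conj j).toMonoidHom = K) → K = ⊥) :
    (∃ φ : W1 →* G, Base W1 J φ) ∨ (∃ φ : W2 →* G, Base W2 J φ) ∨ (∃ φ : W4 →* G, Base W4 J φ) ∨
      (∃ φ : W →* G, Base W J φ) := by
  classical
  have hlit : (Equiv.swap (0 : Fin 9) 1 * Equiv.swap 1 2 * Equiv.swap 3 4 * Equiv.swap 4 5 *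
      Equiv.swap 6 7 * Equiv.swap 7 8) = S9CoordPts37.cc := by
    simp only [S9CoordPts37.cc, c1, c2, c3, mul_assoc]
  obtain ⟨vec0, co0⟩ := S9CoordPts37.exists_coord x hx
    (eC.trans (MulEquiv.subgroupCongr (by rw [hlit]))) J hJC hJcomm hJexp hJcard
  obtain ⟨vec, co, hk⟩ := exists_monomial co0
  obtain ⟨U, hU, φ, hinj, hrange, hbase, hcx⟩ := S9CoordBase37.exists_cases co hk
  have key : Base U J φ :=
    { inj := hinj
      range_eq := hrange
      base_eq := hbase
      cJ := co.cJ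
      sylow := sylow co hk
      cx := fun v hv => by rw [hcx v hv]; exact co.cx
      plane := fun Q hQJ hQ => plane co hk hJsig Q hQJ hQ
      sig := hJsig }
  rcases hU with rfl | rfl | rfl | rfl
  exacts [Or.inl ⟨φ, key⟩, Or.inr (Or.inl ⟨φ, key⟩), Or.inr (Or.inr (Or.inl ⟨φ, key⟩)),
    Or.inr (Or.inr (Or.inr ⟨φ, key⟩))]

end Cfsg.Agent.S9Coord37
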