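import Cfsg.Agent.Lib.S9End52Double

/-!
The endgame of S3343: the copy of the symmetric group of degree nine is the whole group.
-/

set_option autoImplicit false

namespace Cfsg.Agent.S9End37

open Equiv Cfsg.Agent.S9Model37

universe u

variable {G : Type u} [Group G] [Finite G] {J : Subgroup G} {φ : W →* G} {ψ : P9 →* G}

theorem sq_of_order {σ : P9} (h : orderOf σ = 2) : σ * σ = 1 := by
  rw [← sq, ← h, pow_orderOf_eq_one]

theorem ne_one_of_order {H : Type*} [Monoid H] {x : H} (h : orderOf x = 2) : x ≠ 1 := fun e => by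
  rw [e, orderOf_one] at h
  norm_num at h

/-- The centraliser of a triple transposition. -/
theorem Setting.goodK_six (S : Setting J φ ψ) : GoodK ψ 6 := by
  have ho : ∀ σ : P9, σ ^ 2 = 1 → σ ≠ 1 → orderOf σ = 2 := fun σ h1 h2 => orderOf_eq_prime h1 h2
  have h4 := S.goodK_four
  refine goodK_of_rep (ρ := trP) (ho _ (by decide +kernel) (by decide +kernel)) ?_
    (by decide +kernel)
  intro g hg
  have hgt : g * ψ trP = ψ trP * g := hg _ rfl
  set r : P9 := swap 6 7 with hr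
  have hr2 : orderOf r = 2 := ho _ (by decide +kernel) (by decide +kernel)
  have hs2 : orderOf sP = 2 := ho _ (by decide +kernel) (by decide +kernel)
  have hrt2 : orderOf (r * trP) = 2 := ho _ (by decide +kernel) (by decide +kernel)
  set K := Subgroup.centralizer ({ψ trP} : Set G) with hK
  have memK : ∀ x : G, x ∈ K ↔ x * ψ trP = ψ trP * x := fun x =>
    Subgroup.mem_centralizer_singleton_iff
  set f := g * ψ r * g⁻¹ with hf
  have hfK : f ∈ K := mul_mem (mul_mem ((memK _).2 hgt)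
    ((memK _).2 (by rw [← map_mul, ← map_mul]; congr 1; decide +kernel)))
    (inv_mem ((memK _).2 hgt))
  have hsK : ψ sP ∈ K := (memK _).2 (by rw [← map_mul, ← map_mul]; congr 1; decide +kernel)
  have hconj : ∀ c : G, c ∈ K → ∀ x : P9,
      c * g * ψ (x * trP) * (c * g)⁻¹ = c * g * ψ x * (c * g)⁻¹ * ψ trP := by
    intro c hc x
    have h := (memK _).1 (mul_mem hc ((memK _).2 hgt))
    rw [map_mul]
    calc c * g * (ψ x * ψ trP) * (c * g)⁻¹
        = c * g * ψ x * (c * g)⁻¹ * (c * g * ψ trP) * (c * g)⁻¹ := by group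
      _ = c * g * ψ x * (c * g)⁻¹ * ψ trP := by rw [h]; group
  -- it suffices that `f` lies in the copy
  have finish : f ∈ ψ.range → g ∈ ψ.range := by
    intro hfH
    refine S.mem_of_conj hrt2 (k := 4) (by decide +kernel) h4 ?_
    have h := hconj 1 (one_mem _) r
    rw [one_mul] at h
    rw [h]
    exact mul_mem hfH ⟨trP, rfl⟩
  apply finish
  obtain ⟨j, hjK, hj2, hja, hjb, c, hcK, hc⟩ := exists_central (K := K) hfK hsK
    (by rw [hf, oconj, S.orderOf_map, hr2]) (by rw [S.orderOf_map, hs2]) (fun c _ e => by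
      have e' : c * g * ψ r * (c * g)⁻¹ = ψ sP := by
        rw [← e, hf]; group
      exact absurd (S.sz_eq_of_conj hr2 e') (by decide +kernel))
  obtain ⟨ρ, rfl⟩ : j ∈ ψ.range := h4 sP hs2 (by decide +kernel) j fun τ hτ => by
    rw [Set.mem_singleton_iff] at hτ
    subst hτ
    exact hjb.eq
  have hρ2 : orderOf ρ = 2 := (S.orderOf_map ρ).symm.trans hj2
  have hρt : ρ * trP = trP * ρ := S.nine.inj (by rw [map_mul, map_mul]; exact (memK _).1 hjK)
  have hρs : ρ * sP = sP * ρ := S.nine.inj (by rw [map_mul, map_mul]; exact hjb.eq)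
  obtain ⟨d, hd⟩ : ∃ d, d = ρ * sP := ⟨_, rfl⟩
  have hss : sP * sP = 1 := sq_of_order hs2
  have hρρ : ρ * ρ = 1 := sq_of_order hρ2
  have hds : d * sP = ρ := by rw [hd, mul_assoc, hss, mul_one]
  have hdd : d * d = 1 := by
    calc d * d = ρ * (sP * ρ) * sP := by rw [hd]; group
      _ = (ρ * ρ) * (sP * sP) := by rw [← hρs]; group
      _ = 1 := by rw [hρρ, hss, one_mul]
  have hdt : d * trP = trP * d := by
    rw [hd, mul_assoc, show sP * trP = trP * sP by decide +kernel, ← mul_assoc, hρt, mul_assoc]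
  have htype : (sz d = 2 ∧ sz (d * trP) = 4) ∨
      (sz d = 4 ∧ (∀ i, trP i = i → d i = i) ∧ ∀ i, d i = trP i → d i = i) := by
    rcases hc with hc | hc
    · left
      rw [← map_mul] at hc
      have e : c * g * ψ r * (c * g)⁻¹ = ψ d := by rw [hd, hc, hf]; group
      have e' : c * g * ψ (r * trP) * (c * g)⁻¹ = ψ (d * trP) := by
        rw [hconj c hcK r, e, map_mul]
      exact ⟨by rw [S.sz_eq_of_conj hr2 e]; decide +kernel,
        by rw [S.sz_eq_of_conj hrt2 e']; decide +kernel⟩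
    · right
      rw [← map_mul] at hc
      have hcH : c ∈ ψ.range :=
        S.mem_of_conj hs2 (k := 4) (by decide +kernel) h4 ⟨ρ * sP, hc⟩
      obtain ⟨π, rfl⟩ := hcH
      have hπt : π * trP = trP * π := S.nine.inj (by rw [map_mul, map_mul]; exact (memK _).1 hcK)
      have e : d = π * sP * π⁻¹ := S.nine.inj (by rw [hd, hc, map_mul, map_mul, map_inv])
      have hπi : ∀ i, trP (π⁻¹ i) = π⁻¹ (trP i) := fun i => by
        apply π.injective
        have := congrArg (fun f : P9 => f (π⁻¹ i)) hπt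
        simpa using this
      refine ⟨by rw [e, sz_conj]; decide +kernel, fun i hi => ?_, fun i hi => ?_⟩
      · have h1 : trP (π⁻¹ i) = π⁻¹ i := by rw [hπi, hi]
        have h2 : ∀ y : Fin 9, trP y = y → sP y = y := by decide +kernel
        rw [e]
        show π (sP (π⁻¹ i)) = i
        rw [h2 _ h1]
        simp
      · have hi' : π (sP (π⁻¹ i)) = trP i := by
          rw [e] at hi
          exact hi
        have h1 : sP (π⁻¹ i) = trP (π⁻¹ i) := by
          rw [hπi, ← hi']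
          simp
        have h2 : ∀ y : Fin 9, sP y = trP y → sP y = y := by decide +kernel
        rw [e]
        show π (sP (π⁻¹ i)) = i
        rw [h2 _ h1]
        simp
  have hne : d ≠ sP := by
    intro e
    apply ne_one_of_order hρ2
    rw [← hds, e, hss]
  have hfρ : f * ψ ρ = ψ ρ * f := hja.eq.symm
  rcases tri_facts hdd hdt (by rw [hds, hρρ]) hne htype with h | h
  · rw [hds] at h
    exact h4 ρ hρ2 h f fun τ hτ => by
      rw [Set.mem_singleton_iff] at hτ
      subst hτ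
      exact hfρ
  · rw [hds] at h
    refine h4 (ρ * trP) (orderOf_eq_prime ?_ ?_) h f fun τ hτ => ?_
    · rw [(show Commute ρ trP from hρt).mul_pow, sq, hρρ, one_mul]
      decide +kernel
    · intro e
      rw [e] at h
      exact absurd h (by decide +kernel)
    · rw [Set.mem_singleton_iff] at hτ
      subst hτ
      rw [map_mul, ← mul_assoc, hfρ, mul_assoc, (memK _).1 hfK, mul_assoc]

/-- The centraliser of a transposition. -/
theorem Setting.goodK_two (S : Setting J φ ψ) : GoodK ψ 2 := by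
  have ho : ∀ σ : P9, σ ^ 2 = 1 → σ ≠ 1 → orderOf σ = 2 := fun σ h1 h2 => orderOf_eq_prime h1 h2
  have h4 := S.goodK_four
  have h6 := S.goodK_six
  set e : P9 := swap 0 1 with he
  refine goodK_of_rep (ρ := e) (ho _ (by decide +kernel) (by decide +kernel)) ?_
    (by decide +kernel)
  intro g hg
  have hge : g * ψ e = ψ e * g := hg _ rfl
  set t : P9 := swap 2 3 with ht
  set i : P9 := swap 2 3 * swap 4 5 with hi
  have ht2 : orderOf t = 2 := ho _ (by decide +kernel) (by decide +kernel)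
  have hi2 : orderOf i = 2 := ho _ (by decide +kernel) (by decide +kernel)
  set K := Subgroup.centralizer ({ψ e} : Set G) with hK
  have memK : ∀ x : G, x ∈ K ↔ x * ψ e = ψ e * x := fun x =>
    Subgroup.mem_centralizer_singleton_iff
  set f := g * ψ t * g⁻¹ with hf
  have hfK : f ∈ K := mul_mem (mul_mem ((memK _).2 hge)
    ((memK _).2 (by rw [← map_mul, ← map_mul]; congr 1; decide +kernel)))
    (inv_mem ((memK _).2 hge))
  have hiK : ψ i ∈ K := (memK _).2 (by rw [← map_mul, ← map_mul]; congr 1; decide +kernel)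
  have finish : f ∈ ψ.range → g ∈ ψ.range := by
    intro hfH
    refine S.mem_of_conj (σ := t * e) (ho _ (by decide +kernel) (by decide +kernel)) (k := 4)
      (by decide +kernel) h4 ?_
    have : g * ψ (t * e) * g⁻¹ = f * ψ e := by
      rw [hf, map_mul]
      calc g * (ψ t * ψ e) * g⁻¹ = g * ψ t * g⁻¹ * (g * ψ e) * g⁻¹ := by group
        _ = g * ψ t * g⁻¹ * ψ e := by rw [hge]; group
    rw [this]
    exact mul_mem hfH ⟨e, rfl⟩
  apply finish
  obtain ⟨j, hjK, hj2, hja, hjb, c, hcK, hc⟩ := exists_central (K := K) hfK hiK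
    (by rw [hf, oconj, S.orderOf_map, ht2]) (by rw [S.orderOf_map, hi2]) (fun c _ e' => by
      have e'' : c * g * ψ t * (c * g)⁻¹ = ψ i := by rw [← e', hf]; group
      exact absurd (S.sz_eq_of_conj ht2 e'') (by decide +kernel))
  obtain ⟨ρ, rfl⟩ : j ∈ ψ.range := h4 i hi2 (by decide +kernel) j fun τ hτ => by
    rw [Set.mem_singleton_iff] at hτ
    subst hτ
    exact hjb.eq
  have hρ2 : orderOf ρ = 2 := (S.orderOf_map ρ).symm.trans hj2
  have hρe : ρ * e = e * ρ := S.nine.inj (by rw [map_mul, map_mul]; exact (memK _).1 hjK)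
  have hfρ : f * ψ ρ = ψ ρ * f := hja.eq.symm
  have hfρe : f * ψ (ρ * e) = ψ (ρ * e) * f := by
    rw [map_mul, ← mul_assoc, hfρ, mul_assoc, (memK _).1 hfK, mul_assoc]
  have hρe2 : ∀ k, sz (ρ * e) = k → k ≠ 0 → orderOf (ρ * e) = 2 := by
    intro k hk hk0
    refine ho _ ?_ fun h => hk0 (by rw [← hk, sz_eq_zero.2 h])
    rw [(show Commute ρ e from hρe).mul_pow, sq, sq_of_order hρ2, one_mul]
    decide +kernel
  rcases trans_facts (sq_of_order hρ2) (ne_one_of_order hρ2) hρe with h | h | h | h | h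
  · exfalso
    rw [h, ← map_mul] at hc
    rcases hc with hc | hc
    · exact absurd (S.sz_eq_of_conj ht2 (g := c * g) (σ' := e * i) (by rw [hc, hf]; group))
        (by decide +kernel)
    · exact absurd (S.sz_eq_of_conj hi2 (g := c) (σ' := e * i) hc.symm) (by decide +kernel)
  · exact h4 ρ hρ2 h f fun τ hτ => by rw [Set.mem_singleton_iff] at hτ; subst hτ; exact hfρ
  · exact h6 ρ hρ2 h f fun τ hτ => by rw [Set.mem_singleton_iff] at hτ; subst hτ; exact hfρ
  · exact h4 _ (hρe2 4 h (by norm_num)) h f fun τ hτ => by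
      rw [Set.mem_singleton_iff] at hτ; subst hτ; exact hfρe
  · exact h6 _ (hρe2 6 h (by norm_num)) h f fun τ hτ => by
      rw [Set.mem_singleton_iff] at hτ; subst hτ; exact hfρe

theorem orderOf_of_sz {σ : P9} {k : ℕ} (h1 : σ * σ = 1) (h : sz σ = k) (hk : k ≠ 0) :
    orderOf σ = 2 :=
  orderOf_eq_prime ((sq σ).trans h1) fun e => hk (by rw [← h, sz_eq_zero.2 e])

/-- A quadruple commuting with `vP`, with a conjugate commuting with a given triple. -/
theorem Setting.exists_quad (S : Setting J φ ψ) {g : G} (hg : g ∉ ψ.range) {τ : P9}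
    (hτ : orderOf τ = 2) (hτs : sz τ = 6) :
    ∃ ρ : P9, ρ * ρ = 1 ∧ ρ * vP = vP * ρ ∧ sz ρ = 8 ∧
      ∃ ρ' : P9, ρ' * ρ' = 1 ∧ sz ρ' = 8 ∧ τ * ρ' = ρ' * τ ∧ g * ψ ρ' * g⁻¹ = ψ ρ := by
  have hv2 : orderOf vP = 2 := orderOf_eq_prime (by decide +kernel) (by decide +kernel)
  obtain ⟨j, -, hj2, hja, hjb, -, -, -⟩ := exists_central (K := (⊤ : Subgroup G))
    (Subgroup.mem_top (ψ vP)) (Subgroup.mem_top (g * ψ τ * g⁻¹))
    (by rw [S.orderOf_map, hv2]) (by rw [oconj, S.orderOf_map, hτ]) (fun c _ e => by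
      have e' : g⁻¹ * c * ψ vP * (g⁻¹ * c)⁻¹ = ψ τ := by
        calc g⁻¹ * c * ψ vP * (g⁻¹ * c)⁻¹ = g⁻¹ * (c * ψ vP * c⁻¹) * g := by group
          _ = ψ τ := by rw [e]; group
      have h := S.sz_eq_of_conj hv2 e'
      rw [hτs] at h
      exact absurd h (by decide +kernel))
  obtain ⟨ρ, rfl⟩ : j ∈ ψ.range := S.goodK_four vP hv2 (by decide +kernel) j fun σ hσ => by
    rw [Set.mem_singleton_iff] at hσ
    subst hσ
    exact hja.eq
  have hρ2 : orderOf ρ = 2 := (S.orderOf_map ρ).symm.trans hj2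
  have hcommb : g * ψ τ * g⁻¹ * ψ ρ = ψ ρ * (g * ψ τ * g⁻¹) := hjb.eq.symm
  have hnot : ∀ k, GoodK ψ k → sz ρ ≠ k := fun k hk h =>
    hg (S.mem_of_conj hτ hτs S.goodK_six (hk ρ hρ2 h _ fun σ hσ => by
      rw [Set.mem_singleton_iff] at hσ
      subst hσ
      exact hcommb))
  have hρ8 : sz ρ = 8 := by
    rcases sz_inv hρ2 with h | h | h | h
    · exact absurd h (hnot 2 S.goodK_two)
    · exact absurd h (hnot 4 S.goodK_four)
    · exact absurd h (hnot 6 S.goodK_six)
    · exact h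
  obtain ⟨ρ', hρ'⟩ : g⁻¹ * ψ ρ * g ∈ ψ.range := S.goodK_six τ hτ hτs _ fun σ hσ => by
    rw [Set.mem_singleton_iff] at hσ
    subst hσ
    calc g⁻¹ * ψ ρ * g * ψ σ = g⁻¹ * (ψ ρ * (g * ψ σ * g⁻¹)) * g := by group
      _ = g⁻¹ * (g * ψ σ * g⁻¹ * ψ ρ) * g := by rw [hcommb]
      _ = ψ σ * (g⁻¹ * ψ ρ * g) := by group
  have hρ'2 : orderOf ρ' = 2 := by
    rw [← S.orderOf_map, hρ', show g⁻¹ * ψ ρ * g = g⁻¹ * ψ ρ * g⁻¹⁻¹ by rw [inv_inv], oconj,
      S.orderOf_map, hρ2]
  have hg' : g * ψ ρ' * g⁻¹ = ψ ρ := by rw [hρ']; group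
  refine ⟨ρ, sq_of_order hρ2, S.nine.inj (by rw [map_mul, map_mul]; exact hja.eq), hρ8, ρ',
    sq_of_order hρ'2, ?_, S.nine.inj ?_, hg'⟩
  · rw [← S.sz_eq_of_conj hρ'2 hg', hρ8]
  · rw [map_mul, map_mul, hρ']
    calc ψ τ * (g⁻¹ * ψ ρ * g) = g⁻¹ * (g * ψ τ * g⁻¹ * ψ ρ) * g := by group
      _ = g⁻¹ * (ψ ρ * (g * ψ τ * g⁻¹)) * g := by rw [hcommb]
      _ = g⁻¹ * ψ ρ * g * ψ τ := by group

theorem triples_cycleType {τ : P9} (h : τ.cycleType = Multiset.replicate 3 2) :
    orderOf τ = 2 ∧ sz τ = 6 := by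
  refine ⟨?_, ?_⟩
  · rw [← Equiv.Perm.lcm_cycleType, h]
    rfl
  · unfold sz
    rw [← Equiv.Perm.sum_cycleType, h]
    rfl

/-- Every quadruple commuting with `vP` lies in all conjugates of the copy. -/
theorem Setting.quad_conj (S : Setting J φ ψ) {q : P9} (hq : q * q = 1) (hqv : q * vP = vP * q)
    (hq8 : sz q = 8) (g : G) : g⁻¹ * ψ q * g ∈ ψ.range := by
  classical
  by_contra hcon
  have hg : g ∉ ψ.range := fun h => hcon (mul_mem (mul_mem (inv_mem h) ⟨q, rfl⟩) h)
  set T : Finset P9 := Finset.univ.filter fun ρ : P9 => ρ.cycleType = Multiset.replicate 3 2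
    with hT
  have hex : ∀ τ ∈ T, ∃ ρ : P9, ρ * ρ = 1 ∧ ρ * vP = vP * ρ ∧ sz ρ = 8 ∧
      ∃ ρ' : P9, ρ' * ρ' = 1 ∧ sz ρ' = 8 ∧ τ * ρ' = ρ' * τ ∧ g * ψ ρ' * g⁻¹ = ψ ρ := by
    intro τ hτ
    obtain ⟨h1, h2⟩ := triples_cycleType (Finset.mem_filter.1 hτ).2
    exact S.exists_quad hg h1 h2
  set F : P9 → P9 := fun τ => if h : τ ∈ T then (hex τ h).choose else 1 with hF
  have hFspec : ∀ τ ∈ T, F τ * F τ = 1 ∧ F τ * vP = vP * F τ ∧ sz (F τ) = 8 ∧
      ∃ ρ' : P9, ρ' * ρ' = 1 ∧ sz ρ' = 8 ∧ τ * ρ' = ρ' * τ ∧ g * ψ ρ' * g⁻¹ = ψ (F τ) := by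
    intro τ hτ
    simp only [hF, dif_pos hτ]
    exact (hex τ hτ).choose_spec
  have hne : ∀ τ ∈ T, F τ ≠ q := by
    intro τ hτ e
    obtain ⟨-, -, -, ρ', -, -, -, h⟩ := hFspec τ hτ
    rw [e] at h
    exact hcon ⟨ρ', by rw [← h]; group⟩
  have him : (insert q (T.image F)).card ≤ 45 := card_quad_vP fun ρ hρ => by
    rcases Finset.mem_insert.1 hρ with rfl | h
    · exact ⟨hq, hqv, hq8⟩
    · obtain ⟨τ, hτ, rfl⟩ := Finset.mem_image.1 h
      obtain ⟨a, b, c, -⟩ := hFspec τ hτ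
      exact ⟨a, b, c⟩
  rw [Finset.card_insert_of_notMem (fun h => by
    obtain ⟨τ, hτ, e⟩ := Finset.mem_image.1 h
    exact hne τ hτ e)] at him
  have hfib : ∀ b ∈ T.image F, (T.filter fun τ => F τ = b).card ≤ 28 := by
    intro b hb
    obtain ⟨τ₀, hτ₀, rfl⟩ := Finset.mem_image.1 hb
    obtain ⟨-, -, -, ρ', h1', h8', -, he'⟩ := hFspec τ₀ hτ₀
    obtain ⟨π, hπ⟩ := conj_of_sz (orderOf_of_sz h1' h8' (by norm_num))
      (τ := quP) (orderOf_eq_prime (by decide +kernel) (by decide +kernel))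
      (h8'.trans (by decide +kernel))
    rw [← Finset.card_map (MulAut.conj π).toEquiv.toEmbedding]
    refine card_triple_quP fun x hx => ?_
    obtain ⟨τ, hτ, rfl⟩ := Finset.mem_map.1 hx
    obtain ⟨hτT, hτF⟩ := Finset.mem_filter.1 hτ
    obtain ⟨h1, h2⟩ := triples_cycleType (Finset.mem_filter.1 hτT).2
    obtain ⟨-, -, -, ρ'', -, -, hc'', he''⟩ := hFspec τ hτT
    have hsame : ρ'' = ρ' := by
      apply S.nine.inj
      rw [hτF, ← he'] at he''
      simpa using he''
    rw [hsame] at hc''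
    change (π * τ * π⁻¹) * (π * τ * π⁻¹) = 1 ∧
      (π * τ * π⁻¹) * quP = quP * (π * τ * π⁻¹) ∧ sz (π * τ * π⁻¹) = 6
    refine ⟨?_, ?_, by rw [sz_conj]; exact h2⟩
    · rw [show π * τ * π⁻¹ * (π * τ * π⁻¹) = π * (τ * τ) * π⁻¹ by group, sq_of_order h1]
      group
    · rw [← hπ]
      calc π * τ * π⁻¹ * (π * ρ' * π⁻¹) = π * (τ * ρ') * π⁻¹ := by group
        _ = π * (ρ' * τ) * π⁻¹ := by rw [hc'']
        _ = π * ρ' * π⁻¹ * (π * τ * π⁻¹) := by group
  have h := Finset.card_le_mul_card_image (f := F) T 28 hfib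
  have hT' : 1260 ≤ T.card := card_triple
  omega

/-- The endgame. -/
theorem bijective_of_nine {G : Type u} [Group G] [Finite G] {J : Subgroup G} {phi : W →* G}
    (hF : Full J phi) {psi : P9 →* G} (h : Nine J phi psi) : Function.Bijective psi := by
  refine ⟨h.inj, fun g => ?_⟩
  have S : Setting J phi psi := ⟨hF, h⟩
  let N : Subgroup G := (psi.range).normalCore
  set q : P9 := swap 0 1 * swap 3 4 * swap 2 5 * swap 6 7 with hq
  have hqN : psi q ∈ N := fun b => by
    have := S.quad_conj (q := q) (by decide +kernel) (by decide +kernel) (by decide +kernel) b⁻¹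
    rwa [inv_inv] at this
  have : (N.comap psi).Normal := Subgroup.Normal.comap (Subgroup.normalCore_normal _) psi
  have : IsSimpleGroup (alternatingGroup (Fin 9)) :=
    alternatingGroup.isSimpleGroup (by simp)
  have hqa : Equiv.Perm.sign q = 1 := by decide +kernel
  have hc1 : Equiv.Perm.sign c1 = 1 := by decide +kernel
  have htop : c1 ∈ N.comap psi := by
    rcases IsSimpleGroup.eq_bot_or_eq_top_of_normal _
      (inferInstance : ((N.comap psi).comap (alternatingGroup (Fin 9)).subtype).Normal) with e | e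
    · exfalso
      have h1 : (⟨q, Equiv.Perm.mem_alternatingGroup.2 hqa⟩ : alternatingGroup (Fin 9)) ∈
          (N.comap psi).comap (alternatingGroup (Fin 9)).subtype := hqN
      rw [e, Subgroup.mem_bot] at h1
      exact absurd (congrArg Subtype.val h1) (show q ≠ 1 by decide +kernel)
    · have h1 : (⟨c1, Equiv.Perm.mem_alternatingGroup.2 hc1⟩ : alternatingGroup (Fin 9)) ∈
          (N.comap psi).comap (alternatingGroup (Fin 9)).subtype := e ▸ Subgroup.mem_top _
      exact h1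
  have hcore : g * psi c1 * g⁻¹ ∈ psi.range := htop g
  have h3 : orderOf (psi c1) = 3 := by
    haveI : Fact (Nat.Prime 3) := ⟨by norm_num⟩
    rw [S.orderOf_map]
    exact orderOf_eq_prime (by decide +kernel) (by decide +kernel)
  exact S.mem_of_conj_three ⟨c1, rfl⟩ h3 hcore

end Cfsg.Agent.S9End37
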