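import Cfsg.Agent.Lib.S9End52Pair
import Cfsg.Agent.Lib.ZStarTheorem

/-!
The centraliser of a double transposition lies in the copy of the symmetric group of degree nine.
-/

set_option autoImplicit false

namespace Cfsg.Agent.S9End37

open Equiv Cfsg.Agent.S9Model37

theorem fixed_of_odd {A : Type*} [Group A] [Finite A] (hodd : Odd (Nat.card A)) (f : MulAut A)
    {a : A} (h : f (a ^ 4) = a ^ 4) : f a = a := by
  have h4 : (Nat.card A).Coprime 4 :=
    Nat.Coprime.pow_right (k := Nat.card A) 2 (Nat.coprime_two_right.2 hodd)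
  apply (powCoprime h4).injective
  simp only [powCoprime_apply]
  rw [← map_pow, h]

/-- An abelian group of odd order on which all elements of order three of the symmetric group of
degree five act without fixed points is trivial. -/
theorem trivial_of_fpf {A : Type*} [CommGroup A] [Finite A] (hodd : Odd (Nat.card A))
    (φ : P5 →* MulAut A) (hfpf : ∀ r : P5, r ^ 3 = 1 → r ≠ 1 → ∀ a, φ r a = a → a = 1) :
    ∀ a : A, a = 1 := by
  have orbit : ∀ r : P5, r ^ 3 = 1 → r ≠ 1 → ∀ a, a * φ r a * φ (r * r) a = 1 := by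
    intro r h3 h1 a
    refine hfpf r h3 h1 _ ?_
    have e1 : φ r (φ r a) = φ (r * r) a := by rw [map_mul φ]; rfl
    have e2 : φ r (φ (r * r) a) = a := by
      have : φ r * φ (r * r) = 1 := by
        rw [← map_mul φ, ← pow_three, h3, map_one]
      exact congrArg (fun f : MulAut A => f a) this
    rw [map_mul (φ r), map_mul (φ r), e1, e2]
    simp [mul_comm, mul_left_comm]
  have key : ∀ φ' : P5 →* MulAut A, (∀ r : P5, r ^ 3 = 1 → r ≠ 1 →
      ∀ a, a * φ' r a * φ' (r * r) a = 1) → (∀ r : P5, r ^ 3 = 1 → r ≠ 1 → ∀ a, φ' r a = a → a = 1) →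
      ∀ a, φ' (swap 0 1 * swap 2 3) a = a := by
    intro φ' horb hf a
    set r1 : P5 := swap 0 1 * swap 1 2
    set r2 : P5 := swap 0 1 * swap 1 3
    set r3 : P5 := swap 0 2 * swap 2 3
    set r4 : P5 := swap 1 2 * swap 2 3
    set k1 : P5 := swap 0 1 * swap 2 3
    set k2 : P5 := swap 0 2 * swap 1 3
    set k3 : P5 := swap 0 3 * swap 1 2
    set R : List P5 := [r1, r1 * r1, r2, r2 * r2, r3, r3 * r3, r4, r4 * r4] with hR
    set K : List P5 := [1, k1, k2, k3] with hK
    have mapP : ∀ (q : P5) (L : List P5),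
        φ' q ((L.map fun p => φ' p a).prod) = ((L.map (q * ·)).map fun p => φ' p a).prod := by
      intro q L
      induction L with
      | nil => simp
      | cons x L ih => simp [ih, map_mul, MulAut.mul_apply]
    have hperm : ((K ++ R).map (r1 * ·)).Perm (K ++ R) := by decide +kernel
    have hpermK : (K.map (k1 * ·)).Perm K := by decide +kernel
    have hall : ((K ++ R).map fun p => φ' p a).prod = 1 := by
      refine hf r1 (by decide +kernel) (by decide +kernel) _ ?_
      rw [mapP]
      exact (hperm.map _).prod_eq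
    have hRprod : (R.map fun p => φ' p a).prod = (a ^ 4)⁻¹ := by
      have e : ∀ r : P5, r ^ 3 = 1 → r ≠ 1 → φ' r a * φ' (r * r) a = a⁻¹ := fun r h3 h1 =>
        eq_inv_of_mul_eq_one_right (by rw [← mul_assoc]; exact horb r h3 h1 a)
      simp only [hR, List.map_cons, List.map_nil, List.prod_cons, List.prod_nil, mul_one]
      rw [e r4 (by decide +kernel) (by decide +kernel), ← mul_assoc (φ' r3 a),
        e r3 (by decide +kernel) (by decide +kernel), ← mul_assoc (φ' r2 a),
        e r2 (by decide +kernel) (by decide +kernel), ← mul_assoc (φ' r1 a),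
        e r1 (by decide +kernel) (by decide +kernel)]
      simp [pow_succ, mul_assoc]
    have hKprod : (K.map fun p => φ' p a).prod = a ^ 4 := by
      rw [List.map_append, List.prod_append, hRprod, mul_inv_eq_one] at hall
      exact hall
    refine fixed_of_odd hodd (φ' k1) ?_
    rw [← hKprod, mapP]
    exact (hpermK.map _).prod_eq
  intro a
  have conjfix : ∀ h : P5, φ (h * (swap 0 1 * swap 2 3) * h⁻¹) a = a := fun h => by
    have h3 : ∀ r : P5, r ^ 3 = 1 → r ≠ 1 → (h * r * h⁻¹) ^ 3 = 1 ∧ h * r * h⁻¹ ≠ 1 :=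
      fun r h3 h1 => ⟨by rw [conj_pow, h3, mul_one, mul_inv_cancel], fun e => h1 (by
        rwa [mul_inv_eq_one, mul_eq_left] at e)⟩
    have h4 := key (φ.comp (MulAut.conj h).toMonoidHom)
      (fun r r3 r1 b => by
        have := orbit _ (h3 r r3 r1).1 (h3 r r3 r1).2 b
        simpa [MulAut.conj_apply, mul_assoc] using this)
      (fun r r3 r1 b hb => hfpf _ (h3 r r3 r1).1 (h3 r r3 r1).2 b (by simpa using hb)) a
    simpa using h4
  refine hfpf r5 (by decide +kernel) (by decide +kernel) a ?_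
  have e : r5 = ((swap 2 3 * swap 3 4) * (swap 0 1 * swap 2 3) * (swap 2 3 * swap 3 4)⁻¹) *
      ((swap 0 1 * swap 1 2 * swap 2 3 * swap 3 4) * (swap 0 1 * swap 2 3) *
        (swap 0 1 * swap 1 2 * swap 2 3 * swap 3 4)⁻¹) := by decide +kernel
  rw [e, map_mul, MulAut.mul_apply, conjfix, conjfix]

/-- A fixed point free involutive automorphism of a group of odd order inverts it. -/
theorem inverts_of_fpf {A : Type*} [Group A] [Finite A] (f : MulAut A)
    (hf2 : ∀ a, f (f a) = a) (hfix : ∀ a, f a = a → a = 1) : ∀ a, f a = a⁻¹ := by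
  have hinj : Function.Injective fun n : A => n⁻¹ * f n := by
    intro n q h
    simp only at h
    have h1 : f (n * q⁻¹) = n * q⁻¹ := by
      rw [map_mul, map_inv]
      calc f n * (f q)⁻¹ = n * (n⁻¹ * f n) * (q⁻¹ * f q)⁻¹ * q⁻¹ := by group
        _ = n * q⁻¹ := by rw [h]; group
    exact mul_inv_eq_one.1 (hfix _ h1)
  intro a
  obtain ⟨n, rfl⟩ := Finite.injective_iff_surjective.1 hinj a
  simp only [map_mul, map_inv, hf2, mul_inv_rev, inv_inv]

/-- The move of `⟨(01),(78)⟩` to `⟨(01),(34)⟩`. -/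
def shift : P9 := swap 3 7 * swap 4 8

theorem iota_comm_vP : ∀ π : P5, shift * iota π * shift⁻¹ * vP = vP * (shift * iota π * shift⁻¹) := by
  decide +kernel

theorem sP_iota : ∀ π : P5,
    sP * (shift * iota π * shift⁻¹) = shift * iota π * shift⁻¹ * sP := by decide +kernel

theorem sz_two_vP {σ : P9} (hσ : σ * σ = 1) (hσv : σ * vP = vP * σ) (h1 : sz σ = 2)
    (h2 : sz (σ * vP) = 2) : σ = swap 0 1 ∨ σ = swap 3 4 :=
  forall_inv (c := vP) (P := fun σ => sz σ = 2 → sz (σ * vP) = 2 →
    σ = swap 0 1 ∨ σ = swap 3 4) (by decide +kernel) (by decide +kernel) hσ hσv h1 h2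

theorem cent_vP_split {σ : P9} (hσv : σ * vP = vP * σ) :
    ∃ π : P5, ∃ w : P9, (w * w = 1 ∨ w * w = vP) ∧ σ = shift * iota π * shift⁻¹ * w ∧
      w * (shift * iota π * shift⁻¹) = shift * iota π * shift⁻¹ * w := by
  have split : ∀ τ : P9, τ * (swap 0 1 : P9) = (swap 0 1 : P9) * τ → τ * (swap 3 4 : P9) = (swap 3 4 : P9) * τ →
      ∃ π : P5, ∃ v ∈ E9, τ = shift * iota π * shift⁻¹ * (shift * v * shift⁻¹) := by
    intro τ h1 h2
    obtain ⟨π, v, hv, e⟩ := exists_split (σ := shift⁻¹ * τ * shift) (by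
        have e0 : pa = shift⁻¹ * (swap 0 1 : P9) * shift := by decide +kernel
        rw [e0]
        calc shift⁻¹ * τ * shift * (shift⁻¹ * (swap 0 1 : P9) * shift) = shift⁻¹ * (τ * (swap 0 1 : P9)) * shift := by group
          _ = shift⁻¹ * ((swap 0 1 : P9) * τ) * shift := by rw [h1]
          _ = shift⁻¹ * (swap 0 1 : P9) * shift * (shift⁻¹ * τ * shift) := by group) (by
        have e0 : pb = shift⁻¹ * (swap 3 4 : P9) * shift := by decide +kernel
        rw [e0]
        calc shift⁻¹ * τ * shift * (shift⁻¹ * (swap 3 4 : P9) * shift) = shift⁻¹ * (τ * (swap 3 4 : P9)) * shift := by group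
          _ = shift⁻¹ * ((swap 3 4 : P9) * τ) * shift := by rw [h2]
          _ = shift⁻¹ * (swap 3 4 : P9) * shift * (shift⁻¹ * τ * shift) := by group)
    refine ⟨π, v, hv, ?_⟩
    calc τ = shift * (shift⁻¹ * τ * shift) * shift⁻¹ := by group
      _ = _ := by rw [e]; group
  have hcase : (σ * (swap 0 1 : P9) = (swap 0 1 : P9) * σ ∧ σ * (swap 3 4 : P9) = (swap 3 4 : P9) * σ) ∨
      (sP * σ * (swap 0 1 : P9) = (swap 0 1 : P9) * (sP * σ) ∧ sP * σ * (swap 3 4 : P9) = (swap 3 4 : P9) * (sP * σ)) := by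
    have hbs : (swap 0 1 : P9) * sP = sP * (swap 3 4 : P9) := by decide +kernel
    have hcs : (swap 3 4 : P9) * sP = sP * (swap 0 1 : P9) := by decide +kernel
    have hbσ : σ * (swap 0 1 : P9) * σ⁻¹ = (swap 0 1 : P9) ∨ σ * (swap 0 1 : P9) * σ⁻¹ = (swap 3 4 : P9) := by
      rcases sz_two_vP
          (σ := σ * (swap 0 1 : P9) * σ⁻¹) (by
          calc σ * (swap 0 1 : P9) * σ⁻¹ * (σ * (swap 0 1 : P9) * σ⁻¹) = σ * ((swap 0 1 : P9) * (swap 0 1 : P9)) * σ⁻¹ := by group
            _ = 1 := by rw [show (swap 0 1 : P9) * (swap 0 1 : P9) = 1 by decide +kernel]; group) (by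
          calc σ * (swap 0 1 : P9) * σ⁻¹ * vP = σ * (swap 0 1 : P9) * (σ⁻¹ * vP) := by group
            _ = σ * (swap 0 1 : P9) * (vP * σ⁻¹) := by
              rw [(show Commute σ⁻¹ vP from
                (show Commute σ vP from hσv).inv_left).eq]
            _ = σ * (vP * (swap 0 1 : P9)) * σ⁻¹ := by
              rw [show vP * (swap 0 1 : P9) = (swap 0 1 : P9) * vP by decide +kernel]; group
            _ = vP * σ * (swap 0 1 : P9) * σ⁻¹ := by rw [← mul_assoc, hσv]
            _ = vP * (σ * (swap 0 1 : P9) * σ⁻¹) := by group)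
        (by rw [sz_conj]; decide +kernel) (by
          have e : σ * (swap 0 1 : P9) * σ⁻¹ * vP = σ * ((swap 0 1 : P9) * vP) * σ⁻¹ := by
            calc σ * (swap 0 1 : P9) * σ⁻¹ * vP = σ * (swap 0 1 : P9) * (σ⁻¹ * vP) := by group
              _ = σ * (swap 0 1 : P9) * (vP * σ⁻¹) := by
                rw [(show Commute σ⁻¹ vP from
                  (show Commute σ vP from hσv).inv_left).eq]
              _ = σ * ((swap 0 1 : P9) * vP) * σ⁻¹ := by group
          rw [e, sz_conj]; decide +kernel) with h | h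
      exacts [Or.inl h, Or.inr h]
    have hcb : (swap 3 4 : P9) = (swap 0 1 : P9) * vP := by decide +kernel
    rcases hbσ with h | h
    · have h1 : σ * (swap 0 1 : P9) = (swap 0 1 : P9) * σ := mul_inv_eq_iff_eq_mul.1 h
      exact Or.inl ⟨h1, by rw [hcb, ← mul_assoc, h1, mul_assoc, hσv, ← mul_assoc]⟩
    · have h1 : σ * (swap 0 1 : P9) = (swap 3 4 : P9) * σ := mul_inv_eq_iff_eq_mul.1 h
      have h2 : σ * (swap 3 4 : P9) = (swap 0 1 : P9) * σ := by
        rw [hcb, ← mul_assoc, h1, mul_assoc, hσv, ← mul_assoc]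
        congr 1
        decide +kernel
      exact Or.inr ⟨by rw [mul_assoc, h1, ← mul_assoc, ← hbs, mul_assoc],
        by rw [mul_assoc, h2, ← mul_assoc, ← hcs, mul_assoc]⟩
  have hE : ∀ v ∈ E9, ∀ π : P5, shift * v * shift⁻¹ * (shift * iota π * shift⁻¹) =
      shift * iota π * shift⁻¹ * (shift * v * shift⁻¹) := by
    intro v hv π
    have hvπ : iota π * v = v * iota π :=
      forall_E9 (p := fun v => iota π * v = v * iota π) (by simp) (iota_comm π).1
        (iota_comm π).2
        (by rw [← mul_assoc, (iota_comm π).1, mul_assoc, (iota_comm π).2, ← mul_assoc]) v hv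
    calc shift * v * shift⁻¹ * (shift * iota π * shift⁻¹)
        = shift * (v * iota π) * shift⁻¹ := by group
      _ = shift * (iota π * v) * shift⁻¹ := by rw [hvπ]
      _ = _ := by group
  have hsq : ∀ v ∈ E9, (shift * v * shift⁻¹ * (shift * v * shift⁻¹) = 1 ∨
        shift * v * shift⁻¹ * (shift * v * shift⁻¹) = vP) ∧
      (sP * (shift * v * shift⁻¹) * (sP * (shift * v * shift⁻¹)) = 1 ∨
        sP * (shift * v * shift⁻¹) * (sP * (shift * v * shift⁻¹)) = vP) :=
    forall_E9 (by decide +kernel) (by decide +kernel) (by decide +kernel) (by decide +kernel)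
  rcases hcase with ⟨h1, h2⟩ | ⟨h1, h2⟩
  · obtain ⟨π, v, hv, e⟩ := split σ h1 h2
    exact ⟨π, shift * v * shift⁻¹, (hsq v hv).1, e, hE v hv π⟩
  · obtain ⟨π, v, hv, e⟩ := split (sP * σ) h1 h2
    refine ⟨π, sP * (shift * v * shift⁻¹), (hsq v hv).2, ?_, ?_⟩
    · calc σ = sP * (sP * σ) := by
            rw [← mul_assoc, show sP * sP = 1 by decide +kernel, one_mul]
        _ = _ := by rw [e, ← mul_assoc, sP_iota, mul_assoc]
    · rw [mul_assoc, hE v hv π, ← mul_assoc, sP_iota, mul_assoc]

variable {G : Type*} [Group G] [Finite G] {J : Subgroup G} {φ : W →* G} {ψ : P9 →* G}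

set_option maxHeartbeats 1000000 in
-- long local argument
theorem Setting.goodK_four (S : Setting J φ ψ) : GoodK ψ 4 := by
  classical
  have ho : ∀ σ : P9, σ ^ 2 = 1 → σ ≠ 1 → orderOf σ = 2 := fun σ h1 h2 => orderOf_eq_prime h1 h2
  refine goodK_of_rep (ρ := vP) (ho _ (by decide +kernel) (by decide +kernel)) ?_
    (by decide +kernel)
  set K : Subgroup G := Subgroup.centralizer ({ψ vP} : Set G) with hK
  have memK : ∀ g : G, g ∈ K ↔ g * ψ vP = ψ vP * g := fun g =>
    Subgroup.mem_centralizer_singleton_iff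
  set b : P9 := swap 0 1 with hb
  set c : P9 := swap 3 4 with hc
  have hbc : b * c = vP := rfl
  have hvv : vP * vP = 1 := by decide +kernel
  have hgoodV : Good ψ {b, c} := S.good_pair.transfer shift fun σ hσ =>
    Subgroup.subset_closure (by
      have e1 : shift * pa * shift⁻¹ = b := by decide +kernel
      have e2 : shift * pb * shift⁻¹ = c := by decide +kernel
      rcases hσ with rfl | rfl <;> simp [e1, e2])
  have hbK : ψ b ∈ K := (memK _).2 (by rw [← map_mul, ← map_mul]; congr 1; decide +kernel)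
  have hsK : ψ sP ∈ K := (memK _).2 (by rw [← map_mul, ← map_mul]; congr 1; decide +kernel)
  have hιK : ∀ π, ψ (shift * iota π * shift⁻¹) ∈ K := fun π => (memK _).2 (by
    rw [← map_mul, ← map_mul, iota_comm_vP π])
  set V : Subgroup K := ((Subgroup.zpowers vP).map ψ).subgroupOf K with hV
  have memV : ∀ k : K, k ∈ V ↔ (k : G) = 1 ∨ (k : G) = ψ vP := by
    intro k
    constructor
    · intro hk
      obtain ⟨w, hw, e⟩ : ∃ w ∈ Subgroup.zpowers vP, ψ w = (k : G) := hk
      obtain ⟨n, rfl⟩ := Subgroup.mem_zpowers_iff.1 hw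
      rcases Int.even_or_odd n with ⟨m, rfl⟩ | ⟨m, rfl⟩
      · left
        rw [← e, ← two_mul, zpow_mul, show vP ^ (2 : ℤ) = 1 from by rw [zpow_two, hvv], one_zpow,
          map_one]
      · right
        rw [← e, zpow_add, zpow_mul, show vP ^ (2 : ℤ) = 1 from by rw [zpow_two, hvv], one_zpow,
          one_mul, zpow_one]
    · rintro (h | h)
      · exact ⟨1, Subgroup.one_mem _, by rw [map_one]; exact h.symm⟩
      · exact ⟨vP, Subgroup.mem_zpowers _, h.symm⟩
  haveI hVn : V.Normal := ⟨fun n hn k => by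
    rcases (memV n).1 hn with h | h <;> refine (memV _).2 ?_
    · left; simp [h]
    · right
      simp only [Subgroup.coe_mul, Subgroup.coe_inv, h]
      rw [(memK _).1 k.2, mul_inv_cancel_right]⟩
  set q := QuotientGroup.mk' V with hq
  set B : K ⧸ V := q ⟨ψ b, hbK⟩ with hB
  -- images of the copy
  set Hbar : Subgroup (K ⧸ V) := (ψ.range.subgroupOf K).map q with hH
  have memH : ∀ k : K, q k ∈ Hbar → (k : G) ∈ ψ.range := by
    rintro k ⟨w, hw, e⟩
    obtain ⟨z, hz, ez⟩ := (QuotientGroup.mk'_eq_mk' V).1 e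
    rw [← ez, Subgroup.coe_mul]
    refine mul_mem hw ?_
    rcases (memV z).1 hz with h | h <;> rw [h]
    · exact one_mem _
    · exact ⟨vP, rfl⟩
  -- conjugation modulo `V`
  have lift : ∀ (k : K) (x y : P9) (hx : ψ x ∈ K) (hy : ψ y ∈ K),
      q k * q ⟨ψ x, hx⟩ * (q k)⁻¹ = q ⟨ψ y, hy⟩ →
      (k : G) * ψ x * (k : G)⁻¹ = ψ y ∨ (k : G) * ψ x * (k : G)⁻¹ = ψ (y * vP) := by
    intro k x y hx hy h
    rw [← map_mul, ← map_inv, ← map_mul] at h
    obtain ⟨z, hz, ez⟩ := (QuotientGroup.mk'_eq_mk' V).1 h.symm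
    have := congrArg Subtype.val ez
    simp only [Subgroup.coe_mul, Subgroup.coe_inv] at this
    rcases (memV z).1 hz with e | e
    · left; rw [← this, e, mul_one]
    · right; rw [← this, e, map_mul]
  -- the centraliser of `B`
  have centB : ∀ t, t * B = B * t → t ∈ Hbar := by
    intro t ht
    obtain ⟨k, rfl⟩ := QuotientGroup.mk'_surjective V t
    refine ⟨k, ?_, rfl⟩
    rw [SetLike.mem_coe, Subgroup.mem_subgroupOf]
    have base : ∀ k' : G, k' * ψ vP = ψ vP * k' → k' * ψ b * k'⁻¹ = ψ b → k' ∈ ψ.range := by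
      intro k' h1 h2
      have h3 : k' * ψ b = ψ b * k' := by
        calc k' * ψ b = k' * ψ b * k'⁻¹ * k' := by group
          _ = ψ b * k' := by rw [h2]
      refine hgoodV k' ?_
      rintro τ (rfl | rfl)
      · exact h3
      · have e : c = b * vP := by decide +kernel
        rw [e, map_mul, ← mul_assoc, h3, mul_assoc, h1, ← mul_assoc]
    rcases lift k b b hbK hbK (by rw [← hB, ht, mul_inv_cancel_right]) with e | e
    · exact base k ((memK _).1 k.2) e
    · have h1 := base (ψ sP * k) ((memK _).1 (mul_mem hsK k.2)) (by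
        rw [mul_inv_rev, show ψ sP * (k : G) * ψ b * ((k : G)⁻¹ * (ψ sP)⁻¹) =
          ψ sP * ((k : G) * ψ b * (k : G)⁻¹) * (ψ sP)⁻¹ by group, e, ← map_inv, ← map_mul,
          ← map_mul]
        congr 1
        decide +kernel)
      have h2 := mul_mem (inv_mem (⟨sP, rfl⟩ : ψ sP ∈ ψ.range)) h1
      rwa [inv_mul_cancel_left] at h2
  have hbne : B ≠ 1 := by
    intro h
    rcases (memV _).1 ((QuotientGroup.eq_one_iff _).1 h) with e | e
    · exact absurd (S.nine.inj (e.trans (map_one ψ).symm)) (by decide +kernel)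
    · exact absurd (S.nine.inj e) (by decide +kernel)
  have hB2 : orderOf B = 2 := by
    refine orderOf_eq_prime ?_ hbne
    rw [hB, ← map_pow, show (⟨ψ b, hbK⟩ : K) ^ 2 = 1 from Subtype.ext (by
      simp only [SubmonoidClass.coe_pow, Subgroup.coe_one]
      rw [← map_pow, show b ^ 2 = 1 by decide +kernel, map_one]), map_one]
  have hiso : IsIsolatedInvolution B := by
    refine ⟨hB2, fun t ht => ?_⟩
    obtain ⟨k, rfl⟩ := QuotientGroup.mk'_surjective V t
    have h1 := memH (k * ⟨ψ b, hbK⟩ * k⁻¹) (centB _ (by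
      rw [map_mul, map_mul, map_inv]
      exact ht.symm.eq))
    obtain ⟨σ, hσ⟩ := h1
    simp only [Subgroup.coe_mul, Subgroup.coe_inv] at hσ
    have hvc := (memK _).1 k.2
    have hσ2 : orderOf σ = 2 := by
      rw [← S.orderOf_map, hσ, oconj, S.orderOf_map]
      exact ho _ (by decide +kernel) (by decide +kernel)
    have hs1 : sz σ = 2 := by
      rw [S.sz_eq_of_conj (ho b (by decide +kernel) (by decide +kernel)) hσ.symm]
      decide +kernel
    have hs2 : sz (σ * vP) = 2 := by
      rw [S.sz_eq_of_conj (σ := b * vP) (g := (k : G))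
        (ho _ (by decide +kernel) (by decide +kernel))
        (by
          rw [map_mul ψ σ, hσ, map_mul]
          calc (k : G) * (ψ b * ψ vP) * (k : G)⁻¹
              = (k : G) * ψ b * (k : G)⁻¹ * ((k : G) * ψ vP) * (k : G)⁻¹ := by group
            _ = (k : G) * ψ b * (k : G)⁻¹ * ψ vP := by rw [hvc]; group)]
      decide +kernel
    have hσv : σ * vP = vP * σ := S.nine.inj (by
      rw [map_mul, map_mul, hσ]
      have := (memK _).1 (mul_mem (mul_mem k.2 hbK) (inv_mem k.2))
      exact this)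
    have hσσ : σ * σ = 1 := by rw [← sq, ← hσ2, pow_orderOf_eq_one]
    rcases sz_two_vP hσσ hσv hs1 hs2
      with rfl | rfl
    · rw [hB, ← map_inv, ← map_mul, ← map_mul]
      congr 1
      exact Subtype.ext hσ.symm
    · rw [hB, ← map_inv, ← map_mul, ← map_mul, QuotientGroup.mk'_eq_mk']
      refine ⟨⟨ψ vP, (memK _).2 rfl⟩, (memV _).2 (Or.inr rfl), Subtype.ext ?_⟩
      simp only [Subgroup.coe_mul, Subgroup.coe_inv]
      rw [← hσ, ← map_mul]
      congr 1
      decide +kernel
  obtain ⟨N, hN, hodd, hcomm⟩ := ZStarTheorem.exists_odd_normal hiso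
  let μ : P5 →* K ⧸ V := q.comp
    ((ψ.comp ((MulAut.conj shift).toMonoidHom.comp iota)).codRestrict K (fun π => by
      simpa [MulAut.conj_apply] using hιK π))
  have hμv : ∀ π, μ π = q ⟨ψ (shift * iota π * shift⁻¹), hιK π⟩ := fun π => by
    show q _ = q _
    congr 1
  -- the odd normal subgroup meets the copy trivially
  haveI := hN
  have hNodd : ∀ n ∈ N, Odd (orderOf n) := fun n hn =>
    hodd.of_dvd_nat (Subgroup.orderOf_dvd_natCard N hn)
  have hNμ : ∀ π, μ π ∈ N → π = 1 := by
    intro π hπ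
    have hμinj : Function.Injective μ := by
      rw [← MonoidHom.ker_eq_bot_iff, eq_bot_iff]
      intro p hp
      rw [MonoidHom.mem_ker, hμv] at hp
      rcases (memV _).1 ((QuotientGroup.eq_one_iff _).1 hp) with e | e
      · have e' : shift * iota p * shift⁻¹ = 1 := S.nine.inj (e.trans (map_one ψ).symm)
        rw [mul_inv_eq_one, mul_eq_left] at e'
        rw [Subgroup.mem_bot]
        exact iota_injective (e'.trans (map_one iota).symm)
      · have e' : iota p = pa * pb := by
          have e'' : shift * iota p * shift⁻¹ = vP := S.nine.inj e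
          calc iota p = shift⁻¹ * (shift * iota p * shift⁻¹) * shift := by group
            _ = pa * pb := by rw [e'']; decide +kernel
        rw [Subgroup.mem_bot]
        exact iota_E9 p (Or.inr (Or.inr (Or.inr e')))
    have hoddπ : Odd (orderOf π) := by
      rw [← orderOf_injective μ hμinj]
      exact hNodd _ hπ
    have hsign : Equiv.Perm.sign π = 1 := by
      rcases Int.units_eq_one_or (Equiv.Perm.sign π) with h | h
      · exact h
      · have h1 := congrArg Equiv.Perm.sign (pow_orderOf_eq_one π)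
        rw [map_pow, h, map_one, hoddπ.neg_one_pow] at h1
        exact absurd h1 (by decide)
    haveI : IsSimpleGroup (alternatingGroup (Fin 5)) := alternatingGroup.isSimpleGroup_five
    set f := μ.comp (alternatingGroup (Fin 5)).subtype with hf
    rcases IsSimpleGroup.eq_bot_or_eq_top_of_normal _ (inferInstance : (N.comap f).Normal) with
      h | h
    · have : (⟨π, Equiv.Perm.mem_alternatingGroup.2 hsign⟩ : alternatingGroup (Fin 5)) ∈
          N.comap f := hπ
      rw [h, Subgroup.mem_bot] at this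
      exact congrArg Subtype.val this
    · exfalso
      have hd : (⟨a5 * b5, Equiv.Perm.mem_alternatingGroup.2 (by decide +kernel)⟩ :
          alternatingGroup (Fin 5)) ∈ N.comap f := h ▸ Subgroup.mem_top _
      have := hNodd _ hd
      rw [orderOf_injective f (hμinj.comp Subtype.val_injective), Subgroup.orderOf_mk,
        orderOf_eq_prime (p := 2) (by decide +kernel) (by decide +kernel)] at this
      exact absurd this (by decide)
  have hNH : ∀ n ∈ N, n ∈ Hbar → n = 1 := by
    rintro n hn ⟨k, hk, rfl⟩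
    obtain ⟨σ, hσ⟩ := (Subgroup.mem_subgroupOf.1 hk)
    have hσv : σ * vP = vP * σ := S.nine.inj (by rw [map_mul, map_mul, hσ]; exact (memK _).1 k.2)
    -- split off the part on the five points
    obtain ⟨π, w, hw, hσw, hwc⟩ := cent_vP_split hσv
    have hsq : q k * q k = μ (π * π) := by
      rw [hμv, ← map_mul, QuotientGroup.mk'_eq_mk']
      rcases hw with e | e
      · refine ⟨1, one_mem _, Subtype.ext ?_⟩
        simp only [Subgroup.coe_mul, Subgroup.coe_one, mul_one, ← hσ, ← map_mul]
        congr 1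
        rw [hσw, map_mul]
        calc shift * iota π * shift⁻¹ * w * (shift * iota π * shift⁻¹ * w)
            = shift * iota π * shift⁻¹ * (w * (shift * iota π * shift⁻¹)) * w := by group
          _ = shift * (iota π * iota π) * shift⁻¹ * (w * w) := by rw [hwc]; group
          _ = _ := by rw [e, mul_one]
      · refine ⟨⟨ψ vP, (memK _).2 rfl⟩, (memV _).2 (Or.inr rfl), Subtype.ext ?_⟩
        simp only [Subgroup.coe_mul, ← hσ, ← map_mul]
        congr 1
        rw [hσw, map_mul]
        calc shift * iota π * shift⁻¹ * w * (shift * iota π * shift⁻¹ * w) * vP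
            = shift * iota π * shift⁻¹ * (w * (shift * iota π * shift⁻¹)) * (w * vP) := by group
          _ = shift * (iota π * iota π) * shift⁻¹ * (w * w * vP) := by rw [hwc]; group
          _ = _ := by rw [e, hvv, mul_one]
    have h1 : μ (π * π) ∈ N := hsq ▸ mul_mem hn hn
    have h2 := hNμ _ h1
    rw [h2, map_one, ← sq] at hsq
    have h3 := orderOf_dvd_of_pow_eq_one hsq
    rcases (Nat.dvd_prime Nat.prime_two).1 h3 with h | h
    · exact orderOf_eq_one_iff.1 h
    · have := hNodd _ hn
      rw [h] at this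
      exact absurd this (by decide)
  -- the involution inverts the odd normal subgroup
  set fB : MulAut N := MulAut.conjNormal B with hfB
  have hfBv : ∀ n : N, ((fB n : N) : K ⧸ V) = B * n * B⁻¹ := fun n => MulAut.conjNormal_apply _ _
  have hfB2 : ∀ n, fB (fB n) = n := by
    intro n
    have hBB : B * B = 1 := by rw [← sq, ← hB2, pow_orderOf_eq_one]
    apply Subtype.ext
    rw [hfBv, hfBv, inv_eq_of_mul_eq_one_right hBB]
    calc B * (B * (n : K ⧸ V) * B) * B = (B * B) * n * (B * B) := by group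
      _ = n := by rw [hBB, one_mul, mul_one]
  have hfBfix : ∀ n, fB n = n → n = 1 := by
    intro n hn
    apply Subtype.ext
    have h := congrArg Subtype.val hn
    rw [hfBv] at h
    refine hNH _ n.2 (centB _ ?_)
    calc (n : K ⧸ V) * B = B * n * B⁻¹ * B := by rw [h]
      _ = B * n := by group
  have hinv := inverts_of_fpf fB hfB2 hfBfix
  haveI : IsMulCommutative N := ⟨⟨fun x y => by
    apply inv_injective
    rw [← hinv, map_mul, hinv, hinv, mul_inv_rev]⟩⟩
  letI : CommGroup N :=
    { (inferInstance : Group N) with mul_comm := fun x y => mul_comm' x y }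
  have hN1 := trivial_of_fpf hodd ((MulAut.conjNormal).comp μ) (fun r r3 r1 a ha => by
    apply Subtype.ext
    have h := congrArg Subtype.val ha
    rw [MonoidHom.comp_apply, MulAut.conjNormal_apply] at h
    refine hNH _ a.2 ?_
    obtain ⟨k, hk⟩ := QuotientGroup.mk'_surjective V (a : K ⧸ V)
    rw [← hk]
    refine ⟨k, ?_, rfl⟩
    rw [SetLike.mem_coe, Subgroup.mem_subgroupOf]
    rw [← hk, hμv] at h
    set ρ : P9 := shift * iota r * shift⁻¹ with hρ
    have hρ3 : orderOf ρ = 3 := by
      haveI : Fact (Nat.Prime 3) := ⟨by norm_num⟩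
      refine orderOf_eq_prime (by rw [hρ, conj_pow, ← map_pow, r3, map_one]; group) fun e => r1 ?_
      rw [hρ, mul_inv_eq_one, mul_eq_left] at e
      exact iota_injective (e.trans (map_one iota).symm)
    have h' : q k * q ⟨ψ ρ, hιK r⟩ * (q k)⁻¹ = q ⟨ψ ρ, hιK r⟩ := by
      have h2 : q ⟨ψ ρ, hιK r⟩ * q k = q k * q ⟨ψ ρ, hιK r⟩ := mul_inv_eq_iff_eq_mul.1 h
      rw [← h2, mul_inv_cancel_right]
    rcases lift k ρ ρ (hιK r) (hιK r) h' with e | e
    · exact S.good_three hρ3 _ fun τ hτ => by
        rw [Set.mem_singleton_iff] at hτ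
        subst hτ
        calc (k : G) * ψ ρ = (k : G) * ψ ρ * (k : G)⁻¹ * k := by group
          _ = ψ ρ * k := by rw [e]
    · exfalso
      have h3 : orderOf (ρ * vP) = 3 := by rw [← S.orderOf_map, ← e, oconj, S.orderOf_map, hρ3]
      have hc' : Commute ρ vP := iota_comm_vP r
      have h4 := pow_orderOf_eq_one (ρ * vP)
      rw [h3, hc'.mul_pow, ← hρ3, pow_orderOf_eq_one, hρ3, one_mul] at h4
      exact absurd h4 (by decide +kernel))
  intro g hg
  have hgK : g ∈ K := (memK g).2 (hg _ rfl)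
  refine memH ⟨g, hgK⟩ (centB _ ?_)
  have h1 := hN1 ⟨_, hcomm (q ⟨g, hgK⟩)⟩
  have h2 : B * q ⟨g, hgK⟩ * B⁻¹ * (q ⟨g, hgK⟩)⁻¹ = 1 := congrArg Subtype.val h1
  calc q ⟨g, hgK⟩ * B = (B * q ⟨g, hgK⟩ * B⁻¹ * (q ⟨g, hgK⟩)⁻¹) * q ⟨g, hgK⟩ * B := by
        rw [h2, one_mul]
    _ = B * q ⟨g, hgK⟩ := by group

end Cfsg.Agent.S9End37
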