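import Cfsg.Agent.Lib.S9End52Fus
import Cfsg.Agent.Lib.S9End52Five

/-!
The centraliser of two disjoint transpositions lies in the copy of the symmetric group of degree
nine.
-/

set_option autoImplicit false

namespace Cfsg.Agent.S9End37

open Equiv Cfsg.Agent.S9Model37

/-- The five points `2, …, 6`. -/
def mid : Fin 5 ≃ {x : Fin 9 // 2 ≤ x.val ∧ x.val ≤ 6} where
  toFun i := ⟨⟨i.val + 2, by omega⟩, by simp; omega⟩
  invFun x := ⟨x.1.val - 2, by have := x.2; omega⟩
  left_inv i := by ext; simp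
  right_inv x := by
    obtain ⟨⟨x, hx⟩, h1, h2⟩ := x
    simp at h1 h2
    ext
    simp
    omega

/-- The symmetric group on `2, …, 6`. -/
def iota : P5 →* P9 := Equiv.Perm.extendDomainHom mid

theorem iota_injective : Function.Injective iota := Equiv.Perm.extendDomainHom_injective mid

theorem exists_iota {σ : P9} (h : ∀ i : Fin 9, ¬ (2 ≤ i.val ∧ i.val ≤ 6) → σ i = i) :
    ∃ π, iota π = σ := by
  have hp : ∀ x : Fin 9, (2 ≤ (σ x).val ∧ (σ x).val ≤ 6) ↔ (2 ≤ x.val ∧ x.val ≤ 6) := by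
    intro x
    by_cases hx : 2 ≤ x.val ∧ x.val ≤ 6
    · refine iff_of_true ?_ hx
      by_contra hc
      have := h _ hc
      rw [σ.injective this] at hc
      exact hc hx
    · rw [h x hx]
  refine ⟨mid.trans ((σ.subtypePerm hp).trans mid.symm), Equiv.ext fun i => ?_⟩
  show Equiv.Perm.extendDomain _ mid i = σ i
  by_cases hi : 2 ≤ i.val ∧ i.val ≤ 6
  · rw [Equiv.Perm.extendDomain_apply_subtype (p := fun x : Fin 9 => 2 ≤ x.val ∧ x.val ≤ 6) _ _ hi]
    simp
  · rw [Equiv.Perm.extendDomain_apply_not_subtype (p := fun x : Fin 9 => 2 ≤ x.val ∧ x.val ≤ 6) _ _ hi, h i hi]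

def pa : P9 := swap 0 1
def pb : P9 := swap 7 8

/-- The four group `⟨(01), (78)⟩`. -/
def E9 : Subgroup P9 where
  carrier := {1, pa, pb, pa * pb}
  one_mem' := Or.inl rfl
  mul_mem' := by
    intro x y hx hy
    simp only [Set.mem_insert_iff, Set.mem_singleton_iff] at hx hy ⊢
    rcases hx with rfl | rfl | rfl | rfl <;> rcases hy with rfl | rfl | rfl | rfl <;> decide +kernel
  inv_mem' := by
    intro x hx
    simp only [Set.mem_insert_iff, Set.mem_singleton_iff] at hx ⊢
    rcases hx with rfl | rfl | rfl | rfl <;> decide +kernel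

theorem mem_E9 {x : P9} : x ∈ E9 ↔ x = 1 ∨ x = pa ∨ x = pb ∨ x = pa * pb := Iff.rfl

theorem forall_E9 {p : P9 → Prop} (h1 : p 1) (h2 : p pa) (h3 : p pb) (h4 : p (pa * pb)) :
    ∀ v ∈ E9, p v := by
  intro v hv
  rcases mem_E9.1 hv with rfl | rfl | rfl | rfl <;> assumption

theorem iota_comm : ∀ π : P5, iota π * pa = pa * iota π ∧ iota π * pb = pb * iota π := by
  decide +kernel

theorem iota_E9 : ∀ π : P5, (iota π = 1 ∨ iota π = pa ∨ iota π = pb ∨ iota π = pa * pb) → π = 1 := by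
  decide +kernel

/-- The centraliser of `⟨(01), (78)⟩` in the symmetric group. -/
theorem exists_split {σ : P9} (ha : σ * pa = pa * σ) (hb : σ * pb = pb * σ) :
    ∃ π : P5, ∃ v ∈ E9, σ = iota π * v := by
  have pts : ∀ τ : P9, τ * pa = pa * τ → τ * pb = pb * τ →
      τ 0 = 0 → τ 7 = 7 → ∃ π, iota π = τ := by
    intro τ hta htb h0 h7
    refine exists_iota fun i hi => ?_
    have h1 : τ 1 = 1 := by
      have := congrArg (fun f : P9 => f 0) hta
      simpa [pa, h0] using this
    have h8 : τ 8 = 8 := by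
      have := congrArg (fun f : P9 => f 7) htb
      simpa [pb, h7] using this
    fin_cases i <;> simp at hi ⊢ <;> assumption
  have h0 : σ 0 = 0 ∨ σ 0 = 1 := by
    by_contra hc
    push Not at hc
    have := congrArg (fun f : P9 => f 0) ha
    simp [pa, Equiv.swap_apply_of_ne_of_ne hc.1 hc.2] at this
  have h7 : σ 7 = 7 ∨ σ 7 = 8 := by
    by_contra hc
    push Not at hc
    have := congrArg (fun f : P9 => f 7) hb
    simp [pb, Equiv.swap_apply_of_ne_of_ne hc.1 hc.2] at this
  have hpab : pa * pb = pb * pa := by decide +kernel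
  have key : ∀ v ∈ E9, (v * σ) 0 = 0 → (v * σ) 7 = 7 → ∃ π : P5, ∃ v ∈ E9, σ = iota π * v := by
    intro v hv e0 e7
    have hva : v * pa = pa * v :=
      forall_E9 (p := fun v => v * pa = pa * v) (by simp) rfl hpab.symm
        (by rw [mul_assoc, ← hpab]) v hv
    have hvb : v * pb = pb * v :=
      forall_E9 (p := fun v => v * pb = pb * v) (by simp) hpab rfl
        (by rw [← mul_assoc, hpab]) v hv
    obtain ⟨π, hπ⟩ := pts (v * σ) (by rw [mul_assoc, ha, ← mul_assoc, hva, mul_assoc])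
      (by rw [mul_assoc, hb, ← mul_assoc, hvb, mul_assoc]) e0 e7
    refine ⟨π, v⁻¹, E9.inv_mem hv, ?_⟩
    have hvπ : iota π * v = v * iota π :=
      forall_E9 (p := fun v => iota π * v = v * iota π) (by simp) (iota_comm π).1 (iota_comm π).2
        (by rw [← mul_assoc, (iota_comm π).1, mul_assoc, (iota_comm π).2, ← mul_assoc]) v hv
    rw [(show Commute (iota π) v⁻¹ from (show Commute (iota π) v from hvπ).inv_right).eq, hπ,
      inv_mul_cancel_left]
  rcases h0 with e0 | e0 <;> rcases h7 with e7 | e7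
  · exact key 1 E9.one_mem (by simp [e0]) (by simp [e7])
  · exact key pb (mem_E9.2 (Or.inr (Or.inr (Or.inl rfl)))) (by simp [pb, e0]; decide)
      (by simp [pb, e7])
  · exact key pa (mem_E9.2 (Or.inr (Or.inl rfl))) (by simp [pa, e0]) (by simp [pa, e7]; decide)
  · exact key (pa * pb) (mem_E9.2 (Or.inr (Or.inr (Or.inr rfl))))
      (by simp [pa, pb, e0]; decide) (by simp [pa, pb, e7]; decide)

variable {G : Type*} [Group G] [Finite G] {J : Subgroup G} {φ : W →* G} {ψ : P9 →* G}

/-- The centraliser of two disjoint transpositions. -/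
theorem Setting.good_pair (S : Setting J φ ψ) : Good ψ {pa, pb} := by
  classical
  set K : Subgroup G := Subgroup.centralizer ({ψ pa, ψ pb} : Set G) with hK
  have memK : ∀ g : G, g ∈ K ↔ (g * ψ pa = ψ pa * g ∧ g * ψ pb = ψ pb * g) := by
    intro g
    rw [hK, Subgroup.mem_centralizer_iff]
    constructor
    · intro h
      exact ⟨(h _ (by simp)).symm, (h _ (by simp)).symm⟩
    · rintro ⟨h1, h2⟩ y (rfl | rfl)
      exacts [h1.symm, h2.symm]
  have hiota : ∀ π, ψ (iota π) ∈ K := fun π => (memK _).2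
    ⟨by rw [← map_mul, ← map_mul, (iota_comm π).1], by rw [← map_mul, ← map_mul, (iota_comm π).2]⟩
  set V : Subgroup K := (E9.map ψ).subgroupOf K with hV
  have memV : ∀ k : K, k ∈ V ↔ ∃ v ∈ E9, ψ v = (k : G) := fun k => Iff.rfl
  have centV : ∀ (k : K) (v : P9), v ∈ E9 → (k : G) * ψ v = ψ v * k := by
    intro k v hv
    obtain ⟨h1, h2⟩ := (memK _).1 k.2
    exact forall_E9 (p := fun v => (k : G) * ψ v = ψ v * k) (by simp) h1 h2
      (by rw [map_mul, ← mul_assoc, h1, mul_assoc, h2, ← mul_assoc]) v hv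
  haveI hVn : V.Normal := ⟨fun n hn k => by
    obtain ⟨v, hv, e⟩ := (memV n).1 hn
    refine (memV _).2 ⟨v, hv, ?_⟩
    simp only [Subgroup.coe_mul, Subgroup.coe_inv, ← e]
    rw [centV k v hv, mul_inv_cancel_right]⟩
  let μ : P5 →* K ⧸ V := (QuotientGroup.mk' V).comp ((ψ.comp iota).codRestrict K hiota)
  have hμ : Function.Injective μ := by
    rw [← MonoidHom.ker_eq_bot_iff, eq_bot_iff]
    intro π hπ
    obtain ⟨v, hv, e⟩ := (memV _).1 ((QuotientGroup.eq_one_iff _).1 hπ)
    rw [Subgroup.mem_bot]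
    have e' : v = iota π := S.nine.inj e
    exact iota_E9 π (by rw [← e']; exact mem_E9.1 hv)
  -- an element centralising modulo `V`
  have lift : ∀ (k : K) (p q : P5),
      (QuotientGroup.mk' V k) * μ p * (QuotientGroup.mk' V k)⁻¹ = μ q →
      ∃ v ∈ E9, (k : G) * ψ (iota p) * (k : G)⁻¹ = ψ (iota q * v) := by
    intro k p q h
    have h1 : QuotientGroup.mk' V (k * ⟨_, hiota p⟩ * k⁻¹) =
        QuotientGroup.mk' V ⟨_, hiota q⟩ := by rw [map_mul, map_mul, map_inv]; exact h
    obtain ⟨w, hw, e⟩ := (QuotientGroup.mk'_eq_mk' V).1 h1.symm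
    obtain ⟨v, hv, ev⟩ := (memV w).1 hw
    refine ⟨v, hv, ?_⟩
    have := congrArg Subtype.val e
    simp only [Subgroup.coe_mul, Subgroup.coe_inv] at this
    rw [← this, map_mul, ev]
  -- centralisers inside
  have inRange : ∀ (σ : P9) (k : K), ψ σ = (k : G) → QuotientGroup.mk' V k ∈ μ.range := by
    intro σ k e
    obtain ⟨h1, h2⟩ := (memK _).1 k.2
    rw [← e, ← map_mul, ← map_mul] at h1 h2
    obtain ⟨π, v, hv, rfl⟩ := exists_split (S.nine.inj h1) (S.nine.inj h2)
    refine ⟨π, (QuotientGroup.mk'_eq_mk' V).2 ⟨⟨ψ v, ?_⟩, (memV _).2 ⟨v, hv, rfl⟩, ?_⟩⟩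
    · have := mul_mem (inv_mem (hiota π)) k.2
      rwa [← e, map_mul, inv_mul_cancel_left] at this
    · exact Subtype.ext (by simp [← e, map_mul])
  have hgood3 : Good ψ {pa, pb, iota a5} := by
    refine S.good_tri.transfer (swap 3 7 * (swap 4 8 * swap 8 6 * swap 6 2)) fun σ hσ =>
      Subgroup.subset_closure ?_
    have e1 : (swap 3 7 * (swap 4 8 * swap 8 6 * swap 6 2) : P9) * swap 0 1 *
        (swap 3 7 * (swap 4 8 * swap 8 6 * swap 6 2))⁻¹ = pa := by decide +kernel
    have e2 : (swap 3 7 * (swap 4 8 * swap 8 6 * swap 6 2) : P9) * swap 3 4 *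
        (swap 3 7 * (swap 4 8 * swap 8 6 * swap 6 2))⁻¹ = pb := by decide +kernel
    have e3 : (swap 3 7 * (swap 4 8 * swap 8 6 * swap 6 2) : P9) * swap 6 7 *
        (swap 3 7 * (swap 4 8 * swap 8 6 * swap 6 2))⁻¹ = iota a5 := by decide +kernel
    rcases hσ with rfl | rfl | rfl
    · rw [e1]; simp
    · rw [e2]; simp
    · rw [e3]; simp
  have hcomm : ∀ (k : K) (p : P5) (v : P9), v = 1 →
      (k : G) * ψ (iota p) * (k : G)⁻¹ = ψ (iota p * v) → (k : G) * ψ (iota p) = ψ (iota p) * k := by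
    intro k p v hv e
    rw [hv, mul_one] at e
    calc (k : G) * ψ (iota p) = (k : G) * ψ (iota p) * (k : G)⁻¹ * k := by group
      _ = ψ (iota p) * k := by rw [e]
  have hz : ∀ t, t * μ a5 = μ a5 * t → t ∈ μ.range := by
    intro t ht
    obtain ⟨k, rfl⟩ := QuotientGroup.mk'_surjective V t
    obtain ⟨v, hv, e⟩ := lift k a5 a5 (by rw [ht, mul_inv_cancel_right])
    have hs := S.sz_eq_of_conj (orderOf_eq_prime (by decide +kernel) (by decide +kernel)) e
    have hv1 : v = 1 := forall_E9 (p := fun v => sz (iota a5 * v) = sz (iota a5) → v = 1)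
      (by decide +kernel) (by decide +kernel) (by decide +kernel) (by decide +kernel) v hv hs
    obtain ⟨h1, h2⟩ := (memK _).1 k.2
    obtain ⟨σ, hσ⟩ := hgood3 (k : G) (by
      rintro τ (rfl | rfl | rfl)
      exacts [h1, h2, hcomm k a5 v hv1 e])
    exact inRange σ k hσ
  have hr : ∀ t, t * μ r5 = μ r5 * t → t ∈ μ.range := by
    intro t ht
    obtain ⟨k, rfl⟩ := QuotientGroup.mk'_surjective V t
    obtain ⟨v, hv, e⟩ := lift k r5 r5 (by rw [ht, mul_inv_cancel_right])
    have hr3 : orderOf (iota r5) = 3 :=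
      haveI : Fact (Nat.Prime 3) := ⟨by norm_num⟩
      orderOf_eq_prime (by decide +kernel) (by decide +kernel)
    have h3 : (iota r5 * v) ^ 3 = 1 := by
      apply S.nine.inj
      rw [map_pow, ← e, map_one, conj_pow, ← map_pow, ← hr3, pow_orderOf_eq_one, map_one]
      simp
    have hv1 : v = 1 := forall_E9 (p := fun v => (iota r5 * v) ^ 3 = 1 → v = 1)
      (by decide +kernel) (by decide +kernel) (by decide +kernel) (by decide +kernel) v hv h3
    obtain ⟨σ, hσ⟩ := S.good_three hr3 (k : G) fun τ hτ => by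
      rw [Set.mem_singleton_iff] at hτ
      subst hτ
      exact hcomm k r5 v hv1 e
    exact inRange σ k hσ
  have hne : ∀ t, t * μ a5 * t⁻¹ ≠ μ (a5 * b5) := by
    intro t ht
    obtain ⟨k, rfl⟩ := QuotientGroup.mk'_surjective V t
    obtain ⟨v, hv, e⟩ := lift k a5 (a5 * b5) ht
    have hs := S.sz_eq_of_conj (orderOf_eq_prime (by decide +kernel) (by decide +kernel)) e
    exact forall_E9 (p := fun v => sz (iota (a5 * b5) * v) ≠ sz (iota a5))
      (by decide +kernel) (by decide +kernel) (by decide +kernel) (by decide +kernel) v hv hs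
  intro g hg
  have hgK : g ∈ K := (memK g).2 ⟨hg _ (by simp), hg _ (by simp)⟩
  obtain ⟨π, hπ⟩ := five_of_local μ hμ hz hr hne (QuotientGroup.mk' V ⟨g, hgK⟩)
  obtain ⟨w, hw, e⟩ := (QuotientGroup.mk'_eq_mk' V).1 hπ
  obtain ⟨v, hv, ev⟩ := (memV w).1 hw
  refine ⟨iota π * v, ?_⟩
  have := congrArg Subtype.val e
  simp only [Subgroup.coe_mul] at this
  rw [map_mul, ev]
  exact this

end Cfsg.Agent.S9End37
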