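import Mathlib
import Cfsg.Agent.Lib.S9Model37

/-!
Coordinates in the three-local group `W` of order `1296`, by kernel evaluation.
-/

set_option autoImplicit false

namespace Cfsg.Agent.S9Full37

open Equiv S9Model37

abbrev K := (Fin 3 × Fin 3 × Fin 3) × (Fin 2 × Fin 2 × Fin 2) × Fin 2 × Fin 3

def bel : Fin 3 × Fin 3 × Fin 3 → P9
  | (a, b, c) => c1 ^ (a : ℕ) * c2 ^ (b : ℕ) * c3 ^ (c : ℕ)

def sgn : Fin 2 × Fin 2 × Fin 2 → P9
  | (x, y, z) => d1 ^ (x : ℕ) * d2 ^ (y : ℕ) * d3 ^ (z : ℕ)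

def el : K → P9
  | (a, s, t, r) => bel a * sgn s * tau ^ (t : ℕ) * rot ^ (r : ℕ)

/-- The coordinates of an element of `W`. -/
def dec (σ : P9) : K :=
  let b0 : ℕ := (σ 0).val / 3
  let b1 : ℕ := (σ 3).val / 3
  -- orientation of the block with image `b`
  let o : ℕ → Bool := fun b =>
    let i : Fin 9 := if b0 = b then 0 else if b1 = b then 3 else 6
    (((σ (i + 1)).val + 3 - (σ i).val % 3) % 3) == 2
  let shift : ℕ → Fin 3 := fun b =>
    let i : Fin 9 := if b0 = b then 0 else if b1 = b then 3 else 6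
    let x := (σ i).val % 3
    -- `d` exchanges `0` and `1`
    if o b then Fin.ofNat 3 (x + 2) else Fin.ofNat 3 x
  let tr : Fin 2 × Fin 3 := if b0 = 0 then (if b1 = 1 then (0, 0) else (1, 1))
    else if b0 = 1 then (if b1 = 2 then (0, 1) else (1, 0))
    else (if b1 = 0 then (0, 2) else (1, 2))
  ((shift 0, shift 1, shift 2), (if o 0 then 1 else 0, if o 1 then 1 else 0, if o 2 then 1 else 0), tr.1, tr.2)

set_option maxRecDepth 100000

/-- The block permutation with coordinates `q`. -/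
def qel (q : Fin 2 × Fin 3) : P9 := tau ^ (q.1 : ℕ) * rot ^ (q.2 : ℕ)

/-- The action of the block permutations on coordinates. -/
def qperm {α : Type} (q : Fin 2 × Fin 3) (a : α × α × α) : α × α × α :=
  let b := if q.2 = 0 then a else if q.2 = 1 then (a.2.2, a.1, a.2.1) else (a.2.1, a.2.2, a.1)
  if q.1 = 0 then b else (b.2.1, b.1, b.2.2)

/-- The action of the signs on the base. -/
def sact (s : Fin 2 × Fin 2 × Fin 2) (a : Fin 3 × Fin 3 × Fin 3) : Fin 3 × Fin 3 × Fin 3 :=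
  (if s.1 = 0 then a.1 else -a.1, if s.2.1 = 0 then a.2.1 else -a.2.1,
    if s.2.2 = 0 then a.2.2 else -a.2.2)

def qmul (q q' : Fin 2 × Fin 3) : Fin 2 × Fin 3 :=
  (q.1 + q'.1, q'.2 + if q'.1 = 0 then q.2 else -q.2)

/-- The product law in coordinates. -/
def kmul : K → K → K
  | (a, s, q), (a', s', q') => (a + sact s (qperm q a'), s + qperm q s', qmul q q')

theorem el_eq : ∀ (a : Fin 3 × Fin 3 × Fin 3) (s : Fin 2 × Fin 2 × Fin 2) (q : Fin 2 × Fin 3),
    el (a, s, q) = bel a * sgn s * qel q := fun _ _ q => by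
  obtain ⟨t, r⟩ := q
  simp [el, qel, mul_assoc]

theorem bel_mul : ∀ a a', bel a * bel a' = bel (a + a') := by decide +kernel

theorem sgn_mul : ∀ s s', sgn s * sgn s' = sgn (s + s') := by decide +kernel

theorem sgn_bel : ∀ s a, sgn s * bel a = bel (sact s a) * sgn s := by decide +kernel

theorem qel_bel : ∀ q a, qel q * bel a = bel (qperm q a) * qel q := by decide +kernel

theorem qel_sgn : ∀ q s, qel q * sgn s = sgn (qperm q s) * qel q := by decide +kernel

theorem qel_mul : ∀ q q', qel q * qel q' = qel (qmul q q') := by decide +kernel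

theorem el_mul (k l : K) : el k * el l = el (kmul k l) := by
  obtain ⟨a, s, q⟩ := k
  obtain ⟨a', s', q'⟩ := l
  simp only [kmul, el_eq, mul_assoc]
  rw [← mul_assoc (qel q) (bel a'), qel_bel, mul_assoc, ← mul_assoc (sgn s) (bel (qperm q a')),
    sgn_bel, mul_assoc, ← mul_assoc (bel a), bel_mul, ← mul_assoc (qel q) (sgn s'), qel_sgn, mul_assoc,
    ← mul_assoc (sgn s), sgn_mul, qel_mul]

theorem as_block : ∀ a s (i : Fin 9), ((bel a * sgn s) i).val / 3 = i.val / 3 := by decide +kernel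

theorem qel_block : ∀ q q' : Fin 2 × Fin 3,
    (∀ i : Fin 9, (qel q i).val / 3 = (qel q' i).val / 3) → q = q' := by decide +kernel

theorem dec_as : ∀ a s, dec (bel a * sgn s) = (a, s, ((0, 0) : Fin 2 × Fin 3)) := by decide +kernel

theorem el_injective : Function.Injective el := by
  rintro ⟨a, s, q⟩ ⟨a', s', q'⟩ h
  rw [el_eq, el_eq] at h
  have key : ∀ a s q i, ((bel a * sgn s * qel q) i).val / 3 = (qel q i).val / 3 :=
    fun a s q i => as_block a s (qel q i)
  obtain rfl : q = q' := qel_block q q' fun i => by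
    rw [← key a s q i, h, key]
  have h' := congrArg dec (mul_right_cancel h)
  rw [dec_as, dec_as] at h'
  simp only [Prod.mk.injEq] at h'
  obtain ⟨rfl, rfl, -⟩ := h'
  rfl

theorem el_one : el ((0, 0, 0), (0, 0, 0), 0, 0) = 1 := by decide +kernel

theorem gens_el : el ((1, 0, 0), (0, 0, 0), 0, 0) = c1 ∧ el ((0, 1, 0), (0, 0, 0), 0, 0) = c2 ∧
    el ((0, 0, 1), (0, 0, 0), 0, 0) = c3 ∧ el ((0, 0, 0), (1, 0, 0), 0, 0) = d1 ∧
    el ((0, 0, 0), (0, 1, 0), 0, 0) = d2 ∧ el ((0, 0, 0), (0, 0, 1), 0, 0) = d3 ∧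
    el ((0, 0, 0), (0, 0, 0), 0, 1) = rot ∧ el ((0, 0, 0), (0, 0, 0), 1, 0) = tau := by
  decide +kernel

theorem el_mem (k : K) : el k ∈ W := by
  obtain ⟨⟨a, b, c⟩, ⟨x, y, z⟩, t, r⟩ := k
  refine mul_mem (mul_mem (mul_mem (mul_mem (mul_mem ?_ ?_) ?_)
    (mul_mem (mul_mem ?_ ?_) ?_)) ?_) ?_ <;>
    exact pow_mem (Subgroup.subset_closure (by simp)) _

theorem exists_el {u : P9} (hu : u ∈ W) : ∃ k, el k = u := by
  have step : ∀ x ∈ ({c1, c2, c3, d1, d2, d3, rot, tau} : Set P9), ∀ k, ∃ k', el k' = x * el k := by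
    intro x hx k
    obtain ⟨e1, e2, e3, e4, e5, e6, e7, e8⟩ := gens_el
    have hg : ∃ kx, el kx = x := by
      simp only [Set.mem_insert_iff, Set.mem_singleton_iff] at hx
      rcases hx with rfl | rfl | rfl | rfl | rfl | rfl | rfl | rfl
      exacts [⟨_, e1⟩, ⟨_, e2⟩, ⟨_, e3⟩, ⟨_, e4⟩, ⟨_, e5⟩, ⟨_, e6⟩, ⟨_, e7⟩, ⟨_, e8⟩]
    obtain ⟨kx, rfl⟩ := hg
    exact ⟨kmul kx k, (el_mul kx k).symm⟩
  refine Subgroup.closure_induction_left (p := fun x _ => ∃ k, el k = x)
    ⟨((0, 0, 0), (0, 0, 0), 0, 0), by decide +kernel⟩ ?_ ?_ hu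
  · rintro x hx y _ ⟨k, rfl⟩
    exact step x hx k
  · rintro x hx y _ ⟨k, rfl⟩
    -- every generator has finite order, so its inverse is a positive power
    have key : ∀ m : ℕ, ∃ k', el k' = x ^ m * el k := by
      intro m
      induction m with
      | zero => exact ⟨k, by simp⟩
      | succ m ih =>
        obtain ⟨k', hk'⟩ := ih
        obtain ⟨k'', hk''⟩ := step x hx k'
        exact ⟨k'', by rw [hk'', hk', pow_succ', mul_assoc]⟩
    obtain ⟨k', hk'⟩ := key (orderOf x - 1)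
    refine ⟨k', ?_⟩
    rw [hk', inv_eq_of_mul_eq_one_left (a := x ^ (orderOf x - 1)) (b := x)]
    rw [← pow_succ, Nat.sub_add_cancel (orderOf_pos x), pow_orderOf_eq_one]

/-- The element of `W` with given coordinates. -/
def elW (k : K) : W := ⟨el k, el_mem k⟩

theorem elW_bijective : Function.Bijective elW :=
  ⟨fun _ _ h => el_injective (congrArg Subtype.val h), fun u => by
    obtain ⟨k, hk⟩ := exists_el u.2
    exact ⟨k, Subtype.ext hk⟩⟩

theorem card_W : Nat.card W = 1296 := by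
  rw [← Nat.card_congr (Equiv.ofBijective elW elW_bijective)]
  simp [K]

end Cfsg.Agent.S9Full37
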