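import Mathlib
import Cfsg.Agent.Lib.S9FullCoord37

/-!
Facts inside the three-local group `W4` of order `648`, by kernel evaluation.
-/

set_option autoImplicit false

namespace Cfsg.Agent.S9Even37

open Equiv S9Model37

abbrev K4 := Fin 3 × Fin 3 × Fin 3 × Fin 4 × Fin 2 × Fin 3

def sgn : Fin 4 → P9 := ![1, d1 * d2, d2 * d3, d1 * d3]

def el : K4 → P9
  | (a, b, c, s, t, r) =>
      c1 ^ (a : ℕ) * c2 ^ (b : ℕ) * c3 ^ (c : ℕ) * sgn s * tau ^ (t : ℕ) * rot ^ (r : ℕ)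

set_option maxRecDepth 100000

/-- The coordinates in the monomial group. -/
def toF : K4 → S9Full37.K
  | (a, b, c, s, t, r) => ((a, b, c), ![(0, 0, 0), (1, 1, 0), (0, 1, 1), (1, 0, 1)] s, t, r)

/-- The coordinates in `W4` of an even element. -/
def ofF : S9Full37.K → K4
  | ((a, b, c), (x, y, z), t, r) =>
    (a, b, c, if x = 1 then (if y = 1 then 1 else 3) else (if y = 1 then 2 else 0), t, r)

/-- Even signs. -/
def evn (k : S9Full37.K) : Prop := k.2.1.1 + k.2.1.2.1 + k.2.1.2.2 = 0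

theorem sgn_eq : ∀ s, sgn s = S9Full37.sgn (![(0, 0, 0), (1, 1, 0), (0, 1, 1), (1, 0, 1)] s) := by
  decide +kernel

theorem el_toF (k : K4) : el k = S9Full37.el (toF k) := by
  obtain ⟨a, b, c, s, t, r⟩ := k
  simp only [el, toF, S9Full37.el, S9Full37.bel, sgn_eq]

theorem sign_facts : (∀ s : Fin 4, (fun x : Fin 2 × Fin 2 × Fin 2 => x.1 + x.2.1 + x.2.2 = 0 ∧
      (if x.1 = 1 then (if x.2.1 = 1 then (1 : Fin 4) else 3) else (if x.2.1 = 1 then 2 else 0)) = s)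
        (![(0, 0, 0), (1, 1, 0), (0, 1, 1), (1, 0, 1)] s)) ∧
    (∀ x : Fin 2 × Fin 2 × Fin 2, x.1 + x.2.1 + x.2.2 = 0 →
      ![(0, 0, 0), (1, 1, 0), (0, 1, 1), (1, 0, 1)]
        (if x.1 = 1 then (if x.2.1 = 1 then (1 : Fin 4) else 3) else (if x.2.1 = 1 then 2 else 0)) = x) ∧
    ∀ (q : Fin 2 × Fin 3) (x y : Fin 2 × Fin 2 × Fin 2), x.1 + x.2.1 + x.2.2 = 0 →
      y.1 + y.2.1 + y.2.2 = 0 →
      (fun u : Fin 2 × Fin 2 × Fin 2 => u.1 + u.2.1 + u.2.2 = 0) (x + S9Full37.qperm q y) := by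
  decide +kernel

theorem ofF_toF (k : K4) : ofF (toF k) = k := by
  obtain ⟨a, b, c, s, t, r⟩ := k
  exact congrArg (fun u => (a, b, c, u, t, r)) (sign_facts.1 s).2

theorem toF_ofF (k : S9Full37.K) (h : evn k) : toF (ofF k) = k := by
  obtain ⟨⟨a, b, c⟩, x, t, r⟩ := k
  exact congrArg (fun u => ((a, b, c), u, t, r)) (sign_facts.2.1 x h)

theorem evn_toF (k : K4) : evn (toF k) := by
  obtain ⟨a, b, c, s, t, r⟩ := k
  exact (sign_facts.1 s).1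

/-- The product law in coordinates. -/
def kmul4 (k l : K4) : K4 := ofF (S9Full37.kmul (toF k) (toF l))

theorem el_mul (k l : K4) : el k * el l = el (kmul4 k l) := by
  rw [el_toF, el_toF, el_toF, S9Full37.el_mul, kmul4, toF_ofF]
  obtain ⟨a, b, c, s, t, r⟩ := k
  obtain ⟨a', b', c', s', t', r'⟩ := l
  exact sign_facts.2.2 (t, r) _ _ (sign_facts.1 s).1 (sign_facts.1 s').1

theorem el_injective : Function.Injective el := fun a b h => by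
  rw [el_toF, el_toF] at h
  rw [← ofF_toF a, ← ofF_toF b, S9Full37.el_injective h]

theorem gens_el : el (1, 0, 0, 0, 0, 0) = c1 ∧ el (0, 1, 0, 0, 0, 0) = c2 ∧
    el (0, 0, 1, 0, 0, 0) = c3 ∧ el (0, 0, 0, 0, 0, 1) = rot ∧ el (0, 0, 0, 0, 1, 0) = tau ∧
    el (0, 0, 0, 1, 0, 0) = d1 * d2 ∧ el (0, 0, 0, 2, 0, 0) = d2 * d3 := by
  decide +kernel

theorem step {x : P9} (hx : x ∈ ({c1, c2, c3, rot, tau, d1 * d2, d2 * d3} : Set P9)) (k : K4) :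
    ∃ k', el k' = x * el k := by
  obtain ⟨e1, e2, e3, e4, e5, e6, e7⟩ := gens_el
  have hg : ∃ kx, el kx = x := by
    simp only [Set.mem_insert_iff, Set.mem_singleton_iff] at hx
    rcases hx with rfl | rfl | rfl | rfl | rfl | rfl | rfl
    exacts [⟨_, e1⟩, ⟨_, e2⟩, ⟨_, e3⟩, ⟨_, e4⟩, ⟨_, e5⟩, ⟨_, e6⟩, ⟨_, e7⟩]
  obtain ⟨kx, rfl⟩ := hg
  exact ⟨kmul4 kx k, (el_mul kx k).symm⟩

theorem gen_mem : c1 ∈ W4 ∧ c2 ∈ W4 ∧ c3 ∈ W4 ∧ rot ∈ W4 ∧ tau ∈ W4 ∧ d1 * d2 ∈ W4 ∧ d2 * d3 ∈ W4 := by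
  refine ⟨?_, ?_, ?_, ?_, ?_, ?_, ?_⟩ <;> exact Subgroup.subset_closure (by simp)

theorem d13_eq : d1 * d3 = d1 * d2 * (d2 * d3) := by decide +kernel

theorem el_mem (k : K4) : el k ∈ W4 := by
  obtain ⟨h1, h2, h3, hr, ht, ha, hb⟩ := gen_mem
  obtain ⟨a, b, c, s, t, r⟩ := k
  have hs : sgn s ∈ W4 := by
    fin_cases s
    · exact one_mem _
    · exact ha
    · exact hb
    · show d1 * d3 ∈ W4
      rw [d13_eq]; exact mul_mem ha hb
  exact mul_mem (mul_mem (mul_mem (mul_mem (mul_mem (pow_mem h1 _) (pow_mem h2 _)) (pow_mem h3 _)) hs)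
    (pow_mem ht _)) (pow_mem hr _)

theorem exists_el {u : P9} (hu : u ∈ W4) : ∃ k, el k = u := by
  refine Subgroup.closure_induction_left (p := fun x _ => ∃ k, el k = x)
    ⟨(0, 0, 0, 0, 0, 0), by decide +kernel⟩ ?_ ?_ hu
  · rintro x hx y _ ⟨k, rfl⟩
    exact step hx k
  · rintro x hx y _ ⟨k, rfl⟩
    -- every generator has finite order, so its inverse is a positive power
    have key : ∀ m : ℕ, ∃ k', el k' = x ^ m * el k := by
      intro m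
      induction m with
      | zero => exact ⟨k, by simp⟩
      | succ m ih =>
        obtain ⟨k', hk'⟩ := ih
        obtain ⟨k'', hk''⟩ := step hx k'
        exact ⟨k'', by rw [hk'', hk', pow_succ', mul_assoc]⟩
    obtain ⟨k', hk'⟩ := key (orderOf x - 1)
    refine ⟨k', ?_⟩
    rw [hk', inv_eq_of_mul_eq_one_left (a := x ^ (orderOf x - 1)) (b := x)]
    rw [← pow_succ, Nat.sub_add_cancel (orderOf_pos x), pow_orderOf_eq_one]

/-- The element of `W4` with given coordinates. -/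
def elW (k : K4) : W4 := ⟨el k, el_mem k⟩

theorem elW_bijective : Function.Bijective elW :=
  ⟨fun _ _ h => el_injective (congrArg Subtype.val h), fun u => by
    obtain ⟨k, hk⟩ := exists_el u.2
    exact ⟨k, Subtype.ext hk⟩⟩

theorem card_W4 : Nat.card W4 = 648 := by
  rw [← Nat.card_congr (Equiv.ofBijective elW elW_bijective)]
  simp [K4]

def E1 : W4 := elW (1, 0, 0, 0, 0, 0)
def E2 : W4 := elW (0, 1, 0, 0, 0, 0)
def E3 : W4 := elW (0, 0, 1, 0, 0, 0)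
def E12 : W4 := elW (1, 1, 0, 0, 0, 0)
def Vs : W4 := elW (0, 0, 0, 1, 0, 0)
def Vt : W4 := elW (0, 0, 0, 2, 0, 0)
def Ta : W4 := elW (0, 0, 0, 0, 1, 0)
def Rt : W4 := elW (0, 0, 0, 0, 0, 1)

theorem cent_tau : ∀ k : K4, el k * tau = tau * el k →
    k.1 = k.2.1 ∧ (k.2.2.2.1 = 0 ∨ k.2.2.2.1 = 1) ∧ k.2.2.2.2.2 = 0 := by
  decide +kernel

theorem cent_c3_v : ∀ k : K4, el k * c3 = c3 * el k → el k * (d1 * d2) = d1 * d2 * el k →
    k.1 = 0 ∧ k.2.1 = 0 ∧ (k.2.2.2.1 = 0 ∨ k.2.2.2.1 = 1) ∧ k.2.2.2.2.2 = 0 := by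
  decide +kernel

theorem cent_plane : ∀ k : K4, el k * c3 = c3 * el k → el k * (c1 * c2) = c1 * c2 * el k →
    k.2.2.2.1 = 0 ∧ k.2.2.2.2.2 = 0 := by
  decide +kernel

theorem cent_tau_v : ∀ k : K4, el k * tau = tau * el k → el k * (d1 * d2) = d1 * d2 * el k →
    k.1 = 0 ∧ k.2.1 = 0 ∧ (k.2.2.2.1 = 0 ∨ k.2.2.2.1 = 1) ∧ k.2.2.2.2.2 = 0 := by
  decide +kernel

/-- The elements of order dividing two of the centraliser of `tau`. -/
theorem cent_tau_sq : ∀ k : K4, el k * tau = tau * el k → el k * el k = 1 →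
    el k = 1 ∨ el k = tau ∨
    (∃ a : Fin 3, el k = c1 ^ (a : ℕ) * c2 ^ (a : ℕ) * (d1 * d2)) ∨
    (∃ a : Fin 3, el k = c1 ^ (a : ℕ) * c2 ^ (a : ℕ) * (d1 * d2) * tau) := by
  decide +kernel

theorem identities :
    tau * tau = 1 ∧ d1 * d2 * (d1 * d2) = 1 ∧ d2 * d3 * (d2 * d3) = 1 ∧
    tau * (d1 * d2) = d1 * d2 * tau ∧
    d1 * d2 * (d2 * d3) = d2 * d3 * (d1 * d2) ∧
    d2 * d3 * tau * (d2 * d3) = tau * (d1 * d2) ∧
    rot * (d1 * d2) * rot⁻¹ = d2 * d3 ∧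
    d2 * d3 * c3 * (d2 * d3) = c3⁻¹ ∧ d1 * d2 * c3 = c3 * (d1 * d2) ∧ tau * c3 = c3 * tau ∧
    c1 * c2 * tau = tau * (c1 * c2) ∧ c3 * (c1 * c2) = c1 * c2 * c3 ∧
    d1 * d2 * (c1 * c2) * (d1 * d2) = (c1 * c2)⁻¹ ∧
    (c1 * c2) ^ 3 = 1 ∧ c3 ^ 3 = 1 ∧ c3 ≠ 1 ∧ tau ≠ 1 ∧ d1 * d2 ≠ 1 ∧ tau * (d1 * d2) ≠ 1 := by
  decide +kernel

theorem cards :
    Fintype.card {k : K4 // el k * tau = tau * el k} = 36 ∧
    Fintype.card {k : K4 // el k * c3 = c3 * el k ∧ el k * (d1 * d2) = d1 * d2 * el k} = 12 := by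
  decide +kernel

theorem base_le : base ≤ W4 := by
  rw [base, Subgroup.closure_le]
  obtain ⟨h1, h2, h3, -⟩ := gen_mem
  rintro x (rfl | rfl | rfl)
  exacts [h1, h2, h3]

end Cfsg.Agent.S9Even37
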