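import Mathlib
import Cfsg.Agent.S3224
import Cfsg.Agent.Lib.TransferThompson

/-!
Sylow `2`-subgroups with an involution whose centraliser is a four-group, and odd elements
centralising the central involution.
-/

set_option autoImplicit false

namespace Cfsg.Agent.S9Even37

open Subgroup

universe u

variable {G : Type u} [Group G]

/-- An element moving `f` by an element it centralises, of coprime order, fixes `f`. -/
theorem commute_of_moved {y f d : G} (hd : y * d = d * y) (hf : y * f * y⁻¹ = d * f)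
    (ho : Odd (orderOf y)) (k : ℕ) (hd2 : d ^ (2 ^ k) = 1) : y * f = f * y := by
  have h : ∀ i : ℕ, y ^ i * f * (y ^ i)⁻¹ = d ^ i * f := by
    intro i
    induction i with
    | zero => simp
    | succ i ih =>
      have hdi : y * d ^ i * y⁻¹ = d ^ i := by
        rw [((Commute.pow_right hd i)).eq, mul_inv_cancel_right]
      calc y ^ (i + 1) * f * (y ^ (i + 1))⁻¹ = y * (y ^ i * f * (y ^ i)⁻¹) * y⁻¹ := by
            rw [pow_succ']; group
        _ = y * d ^ i * y⁻¹ * (y * f * y⁻¹) := by rw [ih]; group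
        _ = d ^ (i + 1) * f := by rw [hdi, hf, ← mul_assoc, ← pow_succ]
  have h1 := h (orderOf y)
  rw [pow_orderOf_eq_one, one_mul, inv_one, mul_one, eq_comm, mul_eq_right] at h1
  have hd1 : orderOf d = 1 :=
    Nat.eq_one_of_dvd_coprimes ((ho.coprime_two_right).pow_right k) (orderOf_dvd_of_pow_eq_one h1)
      (orderOf_dvd_of_pow_eq_one hd2)
  rw [orderOf_eq_one_iff.1 hd1, one_mul] at hf
  exact mul_inv_eq_iff_eq_mul.1 hf

/-- The shape of a dihedral Sylow `2`-subgroup needed here. -/
structure DihShape (T : Subgroup G) (a v : G) : Prop where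
  mem : a ∈ T
  v_mem : v ∈ zpowers a
  invol : ∀ x ∈ zpowers a, x * x = 1 → x = 1 ∨ x = v
  two : ∀ x ∈ T, ∀ y ∈ T, x ∉ zpowers a → y ∉ zpowers a → x * y ∈ zpowers a
  outside : ∀ x ∈ T, x ∉ zpowers a → x * x = 1

theorem DihShape.conj {T : Subgroup G} {a v : G} (h : DihShape T a v) (g : G) :
    DihShape (T.map (MulAut.conj g).toMonoidHom) (g * a * g⁻¹) (g * v * g⁻¹) := by
  have hz : zpowers (g * a * g⁻¹) = (zpowers a).map (MulAut.conj g).toMonoidHom := by
    rw [MonoidHom.map_zpowers]; rfl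
  have hmem : ∀ (H : Subgroup G) (x : G), MulAut.conj g x ∈ H.map (MulAut.conj g).toMonoidHom ↔ x ∈ H :=
    fun H x => mem_map_iff_mem (MulAut.conj g).injective
  refine ⟨(hmem T a).2 h.mem, ?_, ?_, ?_, ?_⟩
  · rw [hz]; exact (hmem _ v).2 h.v_mem
  · rw [hz]
    rintro _ ⟨x, hx, rfl⟩ hsq
    have hxx : x * x = 1 := (MulAut.conj g).injective (by rw [map_mul, map_one]; exact hsq)
    rcases h.invol x hx hxx with rfl | rfl
    · exact Or.inl (by simp)
    · exact Or.inr (by simp)
  · rw [hz]
    rintro _ ⟨x, hx, rfl⟩ _ ⟨y, hy, rfl⟩ hxn hyn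
    rw [← map_mul]
    exact mem_map_of_mem _ (h.two x hx y hy (fun e => hxn (mem_map_of_mem _ e)) fun e => hyn (mem_map_of_mem _ e))
  · rw [hz]
    rintro _ ⟨x, hx, rfl⟩ hxn
    rw [← map_mul, h.outside x hx (fun e => hxn (mem_map_of_mem _ e)), map_one]

/-- An element of odd order centralising `v` centralises every element of a cyclic `2`-group
containing `v` that it moves inside that group. -/
theorem commute_cyclic [Finite G] {b v y : G} (hinvol : ∀ x ∈ zpowers b, x * x = 1 → x = 1 ∨ x = v)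
    (hb : ∃ k : ℕ, b ^ (2 ^ k) = 1) (hyv : y * v = v * y) (ho : Odd (orderOf y)) :
    ∀ n : ℕ, ∀ f ∈ zpowers b, orderOf f = n →
      (∀ i : ℕ, y * f ^ i * y⁻¹ ∈ zpowers b) → y * f = f * y := by
  intro n
  induction n using Nat.strong_induction_on with
  | _ n ih =>
  intro f hf hn hnorm
  obtain ⟨k, hk⟩ := hb
  obtain ⟨i, rfl⟩ := mem_zpowers_iff.1 hf
  have hfk : (b ^ i) ^ (2 ^ k) = 1 := by
    rw [← zpow_natCast, ← zpow_mul, mul_comm, zpow_mul, zpow_natCast, hk, one_zpow]
  obtain ⟨j, hj, hjn⟩ := (Nat.dvd_prime_pow Nat.prime_two).1 (orderOf_dvd_of_pow_eq_one hfk)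
  rw [hn] at hjn
  rcases Nat.eq_zero_or_pos j with rfl | hj0
  · rw [orderOf_eq_one_iff.1 (hn.trans hjn)]; simp
  have h2 : orderOf ((b ^ i) ^ 2) < n := by
    rw [orderOf_pow, hn, hjn]
    have : (2 ^ j).gcd 2 = 2 := Nat.gcd_eq_right (dvd_pow_self 2 (by omega))
    rw [this]
    exact Nat.div_lt_self (by positivity) one_lt_two
  have hsq : y * (b ^ i) ^ 2 = (b ^ i) ^ 2 * y :=
    ih _ h2 _ (pow_mem hf 2) rfl fun m => by rw [← pow_mul]; exact hnorm _
  set f := b ^ i with hfdef
  have hc : y * f * y⁻¹ ∈ zpowers b := by simpa using hnorm 1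
  set d := y * f * y⁻¹ * f⁻¹ with hd
  have hdm : d ∈ zpowers b := mul_mem hc (inv_mem hf)
  have hcomm : ∀ p ∈ zpowers b, ∀ q ∈ zpowers b, p * q = q * p := by
    intro p hp q hq
    obtain ⟨s, rfl⟩ := mem_zpowers_iff.1 hp
    obtain ⟨t, rfl⟩ := mem_zpowers_iff.1 hq
    rw [← zpow_add, ← zpow_add, add_comm]
  have hd2 : d * d = 1 := by
    have e1 : (y * f * y⁻¹) ^ 2 = f ^ 2 := by
      rw [conj_pow, hsq, mul_inv_cancel_right]
    have e2 : Commute (y * f * y⁻¹) f⁻¹ := hcomm _ hc _ (inv_mem hf)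
    rw [← pow_two, hd, e2.mul_pow, e1, inv_pow, mul_inv_cancel]
  refine commute_of_moved (d := d) ?_ (by rw [hd]; group) ho 1 (by rw [pow_one, pow_two]; exact hd2)
  rcases hinvol d hdm hd2 with e | e <;> rw [e]
  · simp
  · exact hyv

/-- In a group with dihedral Sylow `2`-subgroups, elements of odd order in the centraliser of the
central involution act trivially on the `2`-subgroups they normalise there. -/
theorem odd_centralizes [Finite G] (T : Sylow 2 G) {a v : G} (hT : DihShape (T : Subgroup G) a v)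
    (hv : v * v = 1) (hTv : (T : Subgroup G) ≤ centralizer ({v} : Set G))
    (F : Subgroup G) (hF : IsPGroup 2 F) (hFv : F ≤ centralizer ({v} : Set G))
    {y : G} (hy : y * v = v * y) (ho : Odd (orderOf y)) (hnorm : ∀ f ∈ F, y * f * y⁻¹ ∈ F) :
    ∀ f ∈ F, y * f = f * y := by
  classical
  have : Fact (Nat.Prime 2) := ⟨Nat.prime_two⟩
  set C := centralizer ({v} : Set G) with hC
  obtain ⟨k, hk⟩ : ∃ k, Nat.card F = 2 ^ k := IsPGroup.iff_card.1 hF
  have hvC : v ∈ C := mem_centralizer_singleton_iff.2 rfl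
  -- a Sylow subgroup of `C` above `F` and `v`
  set F' := F ⊔ zpowers v with hF'
  have hF'C : F' ≤ C := sup_le hFv (zpowers_le.2 hvC)
  have hv2 : IsPGroup 2 (zpowers v) := by
    rintro ⟨x, hx⟩
    obtain ⟨i, rfl⟩ := mem_zpowers_iff.1 hx
    refine ⟨1, Subtype.ext ?_⟩
    show (v ^ i) ^ (2 ^ 1) = 1
    rw [pow_one, pow_two, ← (Commute.refl v).mul_zpow, hv, one_zpow]
  have hF'2 : IsPGroup 2 F' := hF.to_sup_of_normal_left' hv2 (by
    rw [zpowers_le, mem_normalizer_iff]
    intro x
    have hvx : ∀ z ∈ F, v * z * v⁻¹ = z := fun z hz => by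
      rw [← mem_centralizer_singleton_iff.1 (hFv hz), mul_inv_cancel_right]
    refine ⟨fun hx => by rwa [hvx x hx], fun hx => ?_⟩
    have h := hvx _ hx
    have : v * x * v⁻¹ = x := by
      have := congrArg (fun w => v⁻¹ * w * v) h
      simpa [mul_assoc] using this
    rwa [this] at hx)
  obtain ⟨g, hg, hFg⟩ : ∃ g ∈ C, F' ≤ (T : Subgroup G).map (MulAut.conj g).toMonoidHom := by
    let TC : Sylow 2 C := T.subtype hTv
    obtain ⟨P, hP⟩ := IsPGroup.exists_le_sylow (hF'2.comap_subtype (K := C))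
    obtain ⟨g, hg⟩ := MulAction.exists_smul_eq C TC P
    refine ⟨g, g.2, fun x hx => ?_⟩
    have hx' : (⟨x, hF'C hx⟩ : C) ∈ (P : Subgroup C) := hP (mem_subgroupOf.2 hx)
    rw [← hg, Sylow.coe_subgroup_smul] at hx'
    obtain ⟨t, ht, ht'⟩ := mem_smul_pointwise_iff_exists _ _ _ |>.1 hx'
    exact ⟨(t : G), ht, congrArg Subtype.val ht'⟩
  have hgv : g * v * g⁻¹ = v := by
    rw [mem_centralizer_singleton_iff.1 hg, mul_inv_cancel_right]
  have hS := hT.conj g
  rw [hgv] at hS
  set b := g * a * g⁻¹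
  set S := (T : Subgroup G).map (MulAut.conj g).toMonoidHom
  have hnorm' : ∀ f ∈ F', y * f * y⁻¹ ∈ F' := by
    have hle : F' ≤ F'.comap (MulAut.conj y).toMonoidHom := by
      refine sup_le (fun f hf => le_sup_left (a := F) (hnorm f hf)) (zpowers_le.2 ?_)
      show y * v * y⁻¹ ∈ F'
      rw [hy, mul_inv_cancel_right]
      exact le_sup_right (a := F) (mem_zpowers v)
    exact fun f hf => hle hf
  have hb : ∃ k : ℕ, b ^ (2 ^ k) = 1 := by
    obtain ⟨k, hk⟩ := T.2 ⟨a, hT.mem⟩
    have hk' : a ^ (2 ^ k) = 1 := congrArg Subtype.val hk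
    exact ⟨k, by rw [show b = g * a * g⁻¹ from rfl, conj_pow, hk', mul_one, mul_inv_cancel]⟩
  have hR : ∀ f ∈ F', f ∈ zpowers b → y * f = f * y := by
    intro f hf hfb
    refine commute_cyclic hS.invol hb hy ho _ f hfb rfl fun i => ?_
    by_contra hc
    have h1 := hS.outside _ (hFg (hnorm' _ (pow_mem hf i))) hc
    have h2 : f ^ i * f ^ i = 1 := by
      have : y * (f ^ i * f ^ i) * y⁻¹ = 1 := by rw [← h1]; group
      rwa [mul_inv_eq_one, mul_eq_left] at this
    rcases hS.invol _ (pow_mem hfb i) h2 with e | e <;> rw [e] at hc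
    · exact hc (by simp)
    · exact hc (by rw [hy, mul_inv_cancel_right]; exact hS.v_mem)
  intro f hf
  have hfF : f ∈ F' := le_sup_left (a := F) hf
  by_cases hfb : f ∈ zpowers b
  · exact hR f hfF hfb
  by_cases hgb : y * f * y⁻¹ ∈ zpowers b
  · -- a conjugate inside the cyclic part is fixed, so `f` would be inside
    have h := hR _ (hnorm' f hfF) hgb
    have : y * f * y⁻¹ = f := by
      have h2 := congrArg (fun w => y⁻¹ * w) h
      simpa [mul_assoc] using h2
    rw [this] at hgb
    exact absurd hgb hfb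
  set d := y * f * y⁻¹ * f⁻¹ with hd
  have hdF : d ∈ F' := mul_mem (hnorm' f hfF) (inv_mem hfF)
  have hdb : d ∈ zpowers b := hS.two _ (hFg (hnorm' f hfF)) _ (hFg (inv_mem hfF)) hgb
    (fun e => hfb (inv_mem_iff.1 e))
  obtain ⟨j, hj⟩ := hF'2 ⟨d, hdF⟩
  exact commute_of_moved (hR d hdF hdb) (by rw [hd]; group) ho j (congrArg Subtype.val hj)

/-- The Sylow `2`-subgroup through `⟨t, w⟩`, when `C(t)` meets it in `⟨t, v⟩`: the transfer and the
dihedral shape. -/
theorem transfer_dihedral [Finite G] (T : Sylow 2 G) {t v w : G} (ht : orderOf t = 2) (hv : orderOf v = 2)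
    (hw : w * w = 1) (htT : t ∈ (T : Subgroup G)) (hvT : v ∈ (T : Subgroup G)) (hwT : w ∈ (T : Subgroup G))
    (hwv : w * v = v * w) (htv : t * v = v * t) (hwt : w * t * w = t * v)
    (hC : ∀ x ∈ (T : Subgroup G), x * t = t * x → x = 1 ∨ x = t ∨ x = v ∨ x = t * v)
    (hne : ¬ IsConj t v) :
    ∃ M : Subgroup G, M.Normal ∧ M.index = 2 ∧ t ∉ M ∧ (T : Subgroup G) ≤ centralizer ({v} : Set G) ∧
      (w ∈ M → ∃ a : G, DihShape (T : Subgroup G) a v) := by
  classical
  have : Fact (Nat.Prime 2) := ⟨Nat.prime_two⟩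
  have ht2 : t * t = 1 := by rw [← pow_two, ← ht, pow_orderOf_eq_one]
  have hv2 : v * v = 1 := by rw [← pow_two, ← hv, pow_orderOf_eq_one]
  have htne : t ≠ 1 := fun e => by rw [e, orderOf_one] at ht; omega
  have hvne : v ≠ 1 := fun e => by rw [e, orderOf_one] at hv; omega
  have hvt : v ≠ t := fun e => hne (e ▸ IsConj.refl t)
  have htvne : t * v ≠ 1 := fun e => hvt (by
    have := congrArg (t * ·) e
    rwa [← mul_assoc, ht2, one_mul, mul_one] at this)
  have hwne : w * t ≠ t * w := by
    intro e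
    rw [e, mul_assoc, hw, mul_one, eq_comm, mul_eq_left] at hwt
    exact hvne hwt
  let x : (T : Subgroup G) := ⟨t, htT⟩
  have hx : orderOf x = 2 := by rwa [← Subgroup.orderOf_coe]
  have hcard : Nat.card (centralizer ({x} : Set (T : Subgroup G))) = 4 := by
    have e : Nat.card (centralizer ({x} : Set (T : Subgroup G))) =
        ({1, t, v, t * v} : Finset G).card := by
      rw [← Nat.card_eq_finsetCard]
      refine Nat.card_congr (Equiv.ofBijective (fun y => ⟨((y : (T : Subgroup G)) : G), ?_⟩) ⟨?_, ?_⟩)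
      · have := mem_centralizer_singleton_iff.1 y.2
        simpa using hC _ y.1.2 (congrArg Subtype.val this)
      · intro y z hyz
        exact Subtype.ext (Subtype.ext (Subtype.mk.inj hyz))
      · rintro ⟨z, hz⟩
        simp only [Finset.mem_insert, Finset.mem_singleton] at hz
        have hzT : z ∈ (T : Subgroup G) := by
          rcases hz with rfl | rfl | rfl | rfl
          exacts [one_mem _, htT, hvT, mul_mem htT hvT]
        refine ⟨⟨⟨z, hzT⟩, mem_centralizer_singleton_iff.2 (Subtype.ext ?_)⟩, rfl⟩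
        show z * t = t * z
        rcases hz with rfl | rfl | rfl | rfl
        · simp
        · rfl
        · exact htv.symm
        · rw [mul_assoc, ← htv]
    rw [e]
    have h1 : t ≠ t * v := fun h => hvne (by simpa using h.symm)
    have h2 : v ≠ t * v := fun h => htne (by simpa using h.symm)
    rw [Finset.card_insert_of_notMem, Finset.card_insert_of_notMem, Finset.card_insert_of_notMem,
      Finset.card_singleton] <;>
      simp [Ne.symm htne, Ne.symm hvne, Ne.symm htvne, Ne.symm hvt, h1, h2]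
  rcases S3224.good _ (T : Subgroup G) rfl T.2 x hx hcard with h4 | ⟨n, a', hn, hTcard, ha, hxa, hact⟩
  · -- of order four the subgroup would be abelian
    exfalso
    have htop : centralizer ({x} : Set (T : Subgroup G)) = ⊤ :=
      (Subgroup.card_eq_iff_eq_top _).1 (hcard.trans h4.symm)
    have : (⟨w, hwT⟩ : (T : Subgroup G)) ∈ centralizer ({x} : Set (T : Subgroup G)) := htop ▸ mem_top _
    exact hwne (congrArg Subtype.val (mem_centralizer_singleton_iff.1 this))
  set a : G := (a' : G) with hadef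
  have hao : orderOf a = 2 ^ n := by rw [hadef, Subgroup.orderOf_coe, ha]
  have haT : a ∈ (T : Subgroup G) := a'.2
  have hmapz : (zpowers a').map (T : Subgroup G).subtype = zpowers a := MonoidHom.map_zpowers _ _
  have htA : t ∉ zpowers a := by
    rw [← hmapz]
    rintro ⟨y, hy, hy'⟩
    exact hxa ((Subtype.ext hy' : y = x) ▸ hy)
  have hQ : (zpowers a').index = 2 := by
    have h' := (zpowers a').card_mul_index
    rw [Nat.card_zpowers, ha, hTcard, pow_succ] at h'
    exact Nat.eq_of_mul_eq_mul_left (by positivity) h'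
  have hin : ∀ (y : G) (hy : y ∈ (T : Subgroup G)), y ∈ zpowers a ↔ (⟨y, hy⟩ : (T : Subgroup G)) ∈ zpowers a' := by
    intro y hy
    rw [← hmapz]
    exact ⟨fun ⟨z, hz, hz'⟩ => (Subtype.ext hz' : z = ⟨y, hy⟩) ▸ hz, fun h => ⟨_, h, rfl⟩⟩
  have htwo : ∀ y ∈ (T : Subgroup G), ∀ z ∈ (T : Subgroup G), y ∉ zpowers a → z ∉ zpowers a →
      y * z ∈ zpowers a := by
    intro y hy z hz hy' hz'
    rw [hin _ (mul_mem hy hz)]
    exact (mul_mem_iff_of_index_two hQ (a := ⟨y, hy⟩) (b := ⟨z, hz⟩)).2
      (iff_of_false (fun e => hy' ((hin _ hy).2 e)) fun e => hz' ((hin _ hz).2 e))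
  -- the involution of the cyclic part is `v`
  set z := a ^ (2 ^ (n - 1)) with hz
  have hzo : orderOf z = 2 := by
    rw [hz, orderOf_pow, hao, Nat.gcd_eq_right (pow_dvd_pow 2 (by omega)),
      Nat.pow_div (by omega) two_pos, show n - (n - 1) = 1 by omega, pow_one]
  have hinvol : ∀ y ∈ zpowers a, y * y = 1 → y = 1 ∨ y = z := by
    intro y hy hy2
    obtain ⟨i, rfl⟩ := mem_zpowers_iff.1 hy
    rw [← zpow_add, ← orderOf_dvd_iff_zpow_eq_one, hao] at hy2
    obtain ⟨m, rfl⟩ : ∃ m, n = m + 1 := ⟨n - 1, by omega⟩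
    obtain ⟨c, hc⟩ := hy2
    have hi : i = (2 ^ m : ℕ) * c := by
      push_cast at hc ⊢
      rw [pow_succ] at hc
      linarith
    rcases Int.even_or_odd c with ⟨e, rfl⟩ | ⟨e, rfl⟩
    · left
      rw [← orderOf_dvd_iff_zpow_eq_one, hao, hi]
      exact ⟨e, by push_cast; ring⟩
    · right
      rw [hz, hi, Nat.add_sub_cancel, ← zpow_natCast, zpow_eq_zpow_iff_modEq, hao, Int.modEq_iff_dvd]
      exact ⟨-e, by push_cast; ring⟩
  have hxt : x * x = 1 := Subtype.ext ht2
  have hzt : z * t = t * z := by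
    have hz2 : z * z = 1 := by rw [← pow_two, ← hzo, pow_orderOf_eq_one]
    have hconj : t * z * t ∈ zpowers a ∧ t * z * t ≠ 1 := by
      refine ⟨?_, fun e => ?_⟩
      · have hzT : z ∈ (T : Subgroup G) := pow_mem haT _
        have h := (normal_of_index_eq_two hQ).conj_mem ⟨z, hzT⟩ ((hin _ hzT).1 (pow_mem (mem_zpowers a) _)) x
        rw [inv_eq_of_mul_eq_one_right hxt] at h
        exact (hin _ (mul_mem (mul_mem htT hzT) htT)).2 h
      · have h1 : z = 1 := by
          have h := congrArg (fun w => t * w * t) e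
          simpa [← mul_assoc, ht2, mul_assoc z t t] using h
        rw [h1, orderOf_one] at hzo
        omega
    have hsq : t * z * t * (t * z * t) = 1 := by
      rw [show t * z * t * (t * z * t) = t * z * (t * t) * z * t by group, ht2, mul_one, mul_assoc t z z, hz2,
        mul_one, ht2]
    rcases hinvol _ hconj.1 hsq with e | e
    · exact absurd e hconj.2
    · have h := congrArg (fun w => t * w) e
      simpa [← mul_assoc, ht2] using h
  have hzv : z = v := by
    have hzne : z ≠ 1 := fun e => by rw [e, orderOf_one] at hzo; omega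
    rcases hC z (pow_mem haT _) hzt with h | h | h | h
    · exact absurd h hzne
    · exact absurd (h ▸ pow_mem (mem_zpowers a) _) htA
    · exact h
    · -- `t * v` is not central
      exfalso
      have hza : z * a = a * z := (Commute.pow_self a _).eq
      have hwz : w * z = z * w := by
        by_cases hwA : w ∈ zpowers a
        · obtain ⟨i, rfl⟩ := mem_zpowers_iff.1 hwA
          exact (((Commute.refl a).pow_right _).zpow_left i).eq
        · have hwt' := htwo w hwT t htT hwA htA
          obtain ⟨i, hi⟩ := mem_zpowers_iff.1 hwt'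
          have hw' : w = a ^ i * t := by rw [hi, mul_assoc, ht2, mul_one]
          rw [hw', mul_assoc, ← hzt, ← mul_assoc, ← mul_assoc,
            (((Commute.refl a).pow_right _).zpow_left i).eq]
      rw [h] at hwz
      apply hwne
      have h3 : w * t * v = t * w * v := by rw [mul_assoc, hwz, mul_assoc, ← hwv, ← mul_assoc]
      exact mul_right_cancel h3
  have hTv : (T : Subgroup G) ≤ centralizer ({v} : Set G) := by
    intro y hy
    rw [mem_centralizer_singleton_iff, ← hzv]
    by_cases hyA : y ∈ zpowers a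
    · obtain ⟨i, rfl⟩ := mem_zpowers_iff.1 hyA
      exact (((Commute.refl a).pow_right _).zpow_left i).eq
    · obtain ⟨i, hi⟩ := mem_zpowers_iff.1 (htwo y hy t htT hyA htA)
      have hy' : y = a ^ i * t := by rw [hi, mul_assoc, ht2, mul_one]
      rw [hy', mul_assoc, ← hzt, ← mul_assoc, ← mul_assoc, (((Commute.refl a).pow_right _).zpow_left i).eq]
  have hQle : zpowers a ≤ (T : Subgroup G) := zpowers_le.2 haT
  have hrel : (zpowers a).relIndex (T : Subgroup G) = 2 := by
    have : (zpowers a).subgroupOf (T : Subgroup G) = zpowers a' := by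
      ext ⟨y, hy⟩; exact hin y hy
    rw [relIndex, this, hQ]
  obtain ⟨M, hMn, hMi, htM⟩ := TransferThompson.thompson_transfer T (zpowers a) hQle hrel ht htT
    fun g hg => by
      have hsq : g * t * g⁻¹ * (g * t * g⁻¹) = 1 := by
        rw [show g * t * g⁻¹ * (g * t * g⁻¹) = g * (t * t) * g⁻¹ by group, ht2, mul_one, mul_inv_cancel]
      rcases hinvol _ hg hsq with e | e
      · rw [mul_inv_eq_one, mul_eq_left] at e
        exact htne e
      · exact hne (hzv ▸ e ▸ isConj_iff.2 ⟨g, rfl⟩)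
  refine ⟨M, hMn, hMi, htM, hTv, fun hwM => ⟨a, haT, ?_, ?_, htwo, ?_⟩⟩
  · rw [← hzv]; exact pow_mem (mem_zpowers a) _
  · rw [← hzv]; exact hinvol
  -- dihedral and not semidihedral
  have hinv : t * a * t = a⁻¹ := by
    rcases hact with h | ⟨hn3, h⟩
    · exact congrArg Subtype.val h
    exfalso
    have h' : t * a * t = a ^ (2 ^ (n - 1) - 1) := congrArg Subtype.val h
    have hsemi : t * a * t = z * a⁻¹ := by
      rw [h', hz, pow_sub a Nat.one_le_two_pow, pow_one]
    have hwA : w ∉ zpowers a := by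
      intro e
      rcases hinvol w e hw with e' | e'
      · exact hwne (by simp [e'])
      · exact hwne (by rw [e', hzv]; exact htv.symm)
    obtain ⟨i, hi⟩ := mem_zpowers_iff.1 (htwo w hwT t htT hwA htA)
    have hw' : w = a ^ i * t := by rw [hi, mul_assoc, ht2, mul_one]
    have hconj : t * a ^ i * t = z ^ i * (a⁻¹) ^ i := by
      have htinv : t⁻¹ = t := inv_eq_of_mul_eq_one_right ht2
      have e1 : (t * a * t⁻¹) ^ i = t * a ^ i * t⁻¹ := conj_zpow
      rw [htinv, hsemi] at e1
      rw [← e1, (((Commute.refl a).pow_left _).inv_right : Commute z a⁻¹).mul_zpow]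
    have hsq : z ^ i = 1 := by
      rw [← hw, hw', show a ^ i * t * (a ^ i * t) = a ^ i * (t * a ^ i * t) by group, hconj, inv_zpow,
        ((((Commute.refl a).pow_left _).zpow_left i).zpow_right i).inv_right.eq, ← mul_assoc,
        mul_inv_cancel, one_mul]
    rw [← orderOf_dvd_iff_zpow_eq_one, hzo] at hsq
    obtain ⟨c, rfl⟩ : Even i := even_iff_two_dvd.2 (by exact_mod_cast hsq)
    apply htM
    have hsqM : ∀ g : G, g * g ∈ M := fun g => by rw [mul_mem_iff_of_index_two hMi]
    have : a ^ (c + c) ∈ M := by rw [zpow_add]; exact hsqM _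
    have h2 := mul_mem (inv_mem this) hwM
    rwa [hw', inv_mul_cancel_left] at h2
  intro y hy hyA
  obtain ⟨i, hi⟩ := mem_zpowers_iff.1 (htwo y hy t htT hyA htA)
  have hy' : y = a ^ i * t := by rw [hi, mul_assoc, ht2, mul_one]
  have htinv : t⁻¹ = t := inv_eq_of_mul_eq_one_right ht2
  have e1 : (t * a * t⁻¹) ^ i = t * a ^ i * t⁻¹ := conj_zpow
  rw [htinv, hinv, inv_zpow] at e1
  rw [hy', show a ^ i * t * (a ^ i * t) = a ^ i * (t * a ^ i * t) by group, ← e1, mul_inv_cancel]

end Cfsg.Agent.S9Even37
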