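import Mathlib
import Cfsg.Agent.Lib.S9EvenModel37
import Cfsg.Agent.Lib.S9EvenSyl37

/-!
The images of the distinguished elements of `W4`.
-/

set_option autoImplicit false
set_option maxRecDepth 100000

namespace Cfsg.Agent.S9Even37

open Equiv S9Model37

universe u

variable {G : Type u} [Group G]

/-- The hypotheses of the even case. -/
structure Ev (J : Subgroup G) (φ : W4 →* G) : Prop where
  b : Base W4 J φ
  loc : ∀ j ∈ J, j ≠ 1 → Subgroup.centralizer ({j} : Set G) ≤ Subgroup.normalizer (J : Set G)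

variable {J : Subgroup G} {φ : W4 →* G}

theorem Ev.map_elW (h : Ev J φ) {g : G} (hg : g ∈ Subgroup.normalizer (J : Set G)) :
    ∃ k : K4, φ (elW k) = g := by
  obtain ⟨u, rfl⟩ : g ∈ φ.range := h.b.range_eq ▸ hg
  obtain ⟨k, rfl⟩ := elW_bijective.2 u
  exact ⟨k, rfl⟩

theorem Ev.mem_N (h : Ev J φ) (u : W4) : φ u ∈ Subgroup.normalizer (J : Set G) :=
  h.b.range_eq ▸ ⟨u, rfl⟩

theorem Ev.mul_iff (h : Ev J φ) (k : K4) (u : W4) :
    φ (elW k) * φ u = φ u * φ (elW k) ↔ el k * (u : P9) = (u : P9) * el k := by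
  rw [← map_mul, ← map_mul, h.b.inj.eq_iff, Subtype.ext_iff]
  rfl

theorem el_gens : el (1, 0, 0, 0, 0, 0) = c1 ∧ el (0, 1, 0, 0, 0, 0) = c2 ∧ el (0, 0, 1, 0, 0, 0) = c3 ∧
    el (1, 1, 0, 0, 0, 0) = c1 * c2 ∧ el (0, 0, 0, 1, 0, 0) = d1 * d2 ∧
    el (0, 0, 0, 2, 0, 0) = d2 * d3 ∧ el (0, 0, 0, 0, 1, 0) = tau ∧ el (0, 0, 0, 0, 0, 1) = rot := by
  decide +kernel

theorem val_E3 : (E3 : P9) = c3 := el_gens.2.2.1
theorem val_E12 : (E12 : P9) = c1 * c2 := el_gens.2.2.2.1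
theorem val_Vs : (Vs : P9) = d1 * d2 := el_gens.2.2.2.2.1
theorem val_Vt : (Vt : P9) = d2 * d3 := el_gens.2.2.2.2.2.1
theorem val_Ta : (Ta : P9) = tau := el_gens.2.2.2.2.2.2.1
theorem val_Rt : (Rt : P9) = rot := el_gens.2.2.2.2.2.2.2

theorem Ev.base_mem (h : Ev J φ) {u : W4} (hu : (u : P9) ∈ base) : φ u ∈ J := by
  rw [← h.b.base_eq]
  exact ⟨u, hu, rfl⟩

theorem mem_base : c1 ∈ base ∧ c2 ∈ base ∧ c3 ∈ base := by
  refine ⟨?_, ?_, ?_⟩ <;> exact Subgroup.subset_closure (by simp)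

theorem Ev.e3_mem (h : Ev J φ) : φ E3 ∈ J := h.base_mem (val_E3 ▸ mem_base.2.2)

theorem Ev.e12_mem (h : Ev J φ) : φ E12 ∈ J :=
  h.base_mem (val_E12 ▸ mul_mem mem_base.1 mem_base.2.1)

theorem Ev.ne_one (h : Ev J φ) {u : W4} (hu : (u : P9) ≠ 1) : φ u ≠ 1 := fun e =>
  hu (by rw [(h.b.inj (e.trans (map_one φ).symm) : u = 1)]; rfl)

theorem Ev.cent_e3 (h : Ev J φ) :
    Subgroup.centralizer ({φ E3} : Set G) ≤ Subgroup.normalizer (J : Set G) :=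
  h.loc _ h.e3_mem (h.ne_one (by rw [val_E3]; decide +kernel))

theorem el_add : ∀ a b c a' b' c' : Fin 3,
    el (a + a', b + b', c + c', 0, 0, 0) = el (a, b, c, 0, 0, 0) * el (a', b', c', 0, 0, 0) := by
  decide +kernel

theorem el_neg : ∀ a b c : Fin 3, el (-a, -b, -c, 0, 0, 0) = (el (a, b, c, 0, 0, 0))⁻¹ := by
  decide +kernel

theorem el_cube : ∀ a b c : Fin 3, el (a, b, c, 0, 0, 0) ^ 3 = 1 := by decide +kernel

theorem base_exp : ∀ u ∈ base, u ^ 3 = 1 := by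
  intro u hu
  obtain ⟨a, b, c, rfl⟩ : ∃ a b c : Fin 3, el (a, b, c, 0, 0, 0) = u := by
    refine Subgroup.closure_induction (p := fun x _ => ∃ a b c : Fin 3, el (a, b, c, 0, 0, 0) = x)
      ?_ ⟨0, 0, 0, by decide +kernel⟩ ?_ ?_ hu
    · rintro x (rfl | rfl | rfl)
      exacts [⟨1, 0, 0, el_gens.1⟩, ⟨0, 1, 0, el_gens.2.1⟩, ⟨0, 0, 1, el_gens.2.2.1⟩]
    · rintro _ _ _ _ ⟨a, b, c, rfl⟩ ⟨a', b', c', rfl⟩
      exact ⟨a + a', b + b', c + c', el_add a b c a' b' c'⟩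
    · rintro _ _ ⟨a, b, c, rfl⟩
      exact ⟨-a, -b, -c, el_neg a b c⟩
  exact el_cube a b c

theorem el_base (a b c : Fin 3) : el (a, b, c, 0, 0, 0) ∈ base := by
  rw [show el (a, b, c, 0, 0, 0) = c1 ^ (a : ℕ) * c2 ^ (b : ℕ) * c3 ^ (c : ℕ) by simp [el, sgn]]
  exact mul_mem (mul_mem (pow_mem mem_base.1 _) (pow_mem mem_base.2.1 _)) (pow_mem mem_base.2.2 _)

theorem odd_coset : ∀ a b c : Fin 3, el (a, b, c, 0, 1, 0) ^ 3 ≠ 1 := by decide +kernel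

theorem split_tau : ∀ (a c : Fin 3) (i : Fin 2),
    (el (a, a, c, 0, 0, 0))⁻¹ * el (a, a, c, 0, i, 0) = 1 ∨
    (el (a, a, c, 0, 0, 0))⁻¹ * el (a, a, c, 0, i, 0) = tau := by
  decide +kernel

/-- Elements centralising `φ E3` and `φ Vs`: a group of order twelve. -/
theorem Ev.cent_e3_v (h : Ev J φ) {g : G} (h1 : g * φ E3 = φ E3 * g) (h2 : g * φ Vs = φ Vs * g) :
    ∃ (c : Fin 3) (s : Fin 4) (t : Fin 2), (s = 0 ∨ s = 1) ∧ g = φ (elW (0, 0, c, s, t, 0)) := by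
  obtain ⟨⟨a, b, c, s, t, r⟩, rfl⟩ :=
    h.map_elW (h.cent_e3 (Subgroup.mem_centralizer_singleton_iff.2 h1))
  have e1 := (h.mul_iff _ _).1 h1
  have e2 := (h.mul_iff _ _).1 h2
  rw [val_E3] at e1
  rw [val_Vs] at e2
  obtain ⟨ha, hb, hs, hr⟩ := cent_c3_v _ e1 e2
  simp only at ha hb hs hr
  subst ha hb hr
  exact ⟨c, s, t, hs, rfl⟩

/-- `Vs` is central in the copy of the dihedral group of signs and `Ta`. -/
def signSub : Subgroup P9 where
  carrier := {x | ∃ (s : Fin 4) (t : Fin 2), el (0, 0, 0, s, t, 0) = x}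
  one_mem' := ⟨0, 0, by decide +kernel⟩
  mul_mem' := by
    rintro _ _ ⟨s, t, rfl⟩ ⟨s', t', rfl⟩
    revert s t s' t'
    decide +kernel
  inv_mem' := by
    rintro _ ⟨s, t, rfl⟩
    revert s t
    decide +kernel

theorem signSub_le : signSub ≤ W4 := by
  rintro _ ⟨s, t, rfl⟩
  exact el_mem _

theorem card_signSub : Nat.card signSub = 8 := by
  rw [← Nat.card_congr (Equiv.ofBijective
    (fun p : Fin 4 × Fin 2 => (⟨el (0, 0, 0, p.1, p.2, 0), p.1, p.2, rfl⟩ : signSub)) ⟨?_, ?_⟩)]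
  · simp
  · intro p q hpq
    have h' := @el_injective (0, 0, 0, p.1, p.2, 0) (0, 0, 0, q.1, q.2, 0) (congrArg Subtype.val hpq)
    simp only [Prod.mk.injEq, true_and, and_true] at h'
    exact Prod.ext h'.1 h'.2
  · rintro ⟨x, s, t, hst⟩
    exact ⟨(s, t), Subtype.ext hst⟩

/-- The dihedral group of order eight generated by the signs and `Ta`. -/
def eight (φ : W4 →* G) : Subgroup G := (signSub.subgroupOf W4).map φ

theorem Ev.card_eight (h : Ev J φ) : Nat.card (eight φ) = 8 := by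
  rw [eight, Subgroup.card_map_of_injective h.b.inj,
    Nat.card_congr (Subgroup.subgroupOfEquivOfLe signSub_le).toEquiv, card_signSub]

theorem mem_eight (s : Fin 4) (t : Fin 2) : φ (elW (0, 0, 0, s, t, 0)) ∈ eight φ :=
  ⟨elW (0, 0, 0, s, t, 0), ⟨s, t, rfl⟩, rfl⟩

end Cfsg.Agent.S9Even37
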