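import Mathlib
import Cfsg.Agent.Lib.S9EvenBase37
import Cfsg.Agent.Lib.S9Nine37

/-!
The centraliser of `Ta`, and the transfer.
-/

set_option autoImplicit false
set_option maxRecDepth 100000

namespace Cfsg.Agent.S9Even37

open Equiv S9Model37

universe u

/-- The criterion for groups with a self-centralising Sylow `3`-subgroup of order nine. -/
def SmallNine : Prop :=
  ∀ {Q : Type u} [Group Q] [Finite Q] (P : Sylow 3 Q), Nat.card (P : Subgroup Q) = 9 →
    (∀ x ∈ (P : Subgroup Q), x ^ 3 = 1) →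
    Subgroup.centralizer ((P : Subgroup Q) : Set Q) = (P : Subgroup Q) →
    (∀ x ∈ (P : Subgroup Q), x ≠ 1 →
      Subgroup.centralizer ({x} : Set Q) ≤ Subgroup.normalizer ((P : Subgroup Q) : Set Q)) →
    Nat.card (Subgroup.normalizer ((P : Subgroup Q) : Set Q)) ≤ 18 → (P : Subgroup Q).Normal

variable {G : Type u} [Group G] {J : Subgroup G} {φ : W4 →* G}

/-- In a finite group a map into itself by conjugation gives a normalising element. -/
theorem mem_norm {G : Type*} [Group G] [Finite G] (H : Subgroup G) {g : G}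
    (h : ∀ x ∈ H, g * x * g⁻¹ ∈ H) : g ∈ Subgroup.normalizer (H : Set G) := by
  refine Subgroup.mem_normalizer_iff.2 fun x => ⟨h x, fun hx => ?_⟩
  let f : H → H := fun a => ⟨g * a * g⁻¹, h a a.2⟩
  have hf : Function.Injective f := fun a b e => Subtype.ext (by simpa [f] using e)
  obtain ⟨⟨a, ha⟩, e⟩ := Finite.surjective_of_injective hf ⟨_, hx⟩
  have e' : g * a * g⁻¹ = g * x * g⁻¹ := congrArg Subtype.val e
  rw [mul_left_inj, mul_right_inj] at e'
  exact e' ▸ ha

/-- The plane `⟨e₁e₂, e₃⟩`. -/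
def planeSub : Subgroup P9 where
  carrier := {x | ∃ a c : Fin 3, el (a, a, c, 0, 0, 0) = x}
  one_mem' := ⟨0, 0, by decide +kernel⟩
  mul_mem' := by
    rintro _ _ ⟨s, t, rfl⟩ ⟨s', t', rfl⟩
    revert s t s' t'
    decide +kernel
  inv_mem' := by
    rintro _ ⟨s, t, rfl⟩
    revert s t
    decide +kernel

theorem planeSub_le : planeSub ≤ W4 := by
  rintro _ ⟨s, t, rfl⟩
  exact el_mem _

theorem card_planeSub : Nat.card planeSub = 9 := by
  rw [← Nat.card_congr (Equiv.ofBijective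
    (fun p : Fin 3 × Fin 3 => (⟨el (p.1, p.1, p.2, 0, 0, 0), p.1, p.2, rfl⟩ : planeSub)) ⟨?_, ?_⟩)]
  · simp
  · intro p q hpq
    have h' := @el_injective (p.1, p.1, p.2, 0, 0, 0) (q.1, q.1, q.2, 0, 0, 0) (congrArg Subtype.val hpq)
    simp only [Prod.mk.injEq, and_true, and_self_left] at h'
    exact Prod.ext h'.1 h'.2
  · rintro ⟨x, s, t, hst⟩
    exact ⟨(s, t), Subtype.ext hst⟩

/-- The image of the plane. -/
def plane (φ : W4 →* G) : Subgroup G := (planeSub.subgroupOf W4).map φ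

theorem Ev.card_plane (h : Ev J φ) : Nat.card (plane φ) = 9 := by
  rw [plane, Subgroup.card_map_of_injective h.b.inj,
    Nat.card_congr (Subgroup.subgroupOfEquivOfLe planeSub_le).toEquiv, card_planeSub]

theorem plane_facts :
    (∀ a c : Fin 3, el (a, a, c, 0, 0, 0) ∈ ({1} : Set P9) ∨ el (a, a, c, 0, 0, 0) ^ 3 = 1) ∧
    (∀ a c : Fin 3, el (a, a, c, 0, 0, 0) * tau = tau * el (a, a, c, 0, 0, 0)) ∧
    (∀ a c : Fin 3, el (a, a, c, 0, 0, 0) = c1 ^ (a : ℕ) * c2 ^ (a : ℕ) * c3 ^ (c : ℕ)) := by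
  decide +kernel

theorem Ev.plane_le (h : Ev J φ) : plane φ ≤ J := by
  rintro _ ⟨⟨u, hu⟩, ⟨a, c, hac⟩, rfl⟩
  refine h.base_mem ?_
  show u ∈ base
  rw [← (show el (a, a, c, 0, 0, 0) = u from hac), plane_facts.2.2]
  exact mul_mem (mul_mem (pow_mem mem_base.1 _) (pow_mem mem_base.2.1 _)) (pow_mem mem_base.2.2 _)

/-- The elements of the centraliser of `Ta` inside the normaliser normalise the plane. -/
theorem tau_norm_plane : ∀ k : K4, el k * tau = tau * el k → ∀ a c : Fin 3, ∃ a' c' : Fin 3,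
    el k * el (a, a, c, 0, 0, 0) = el (a', a', c', 0, 0, 0) * el k := by
  intro k hk
  obtain ⟨hab, hs, hr⟩ := cent_tau k hk
  obtain ⟨a, b, c, s, t, r⟩ := k
  simp only at hab hs hr
  subst hab hr
  rcases hs with rfl | rfl <;> revert a c t <;> decide +kernel

theorem cent_tau_sqrt : ∀ k : K4, el k * tau = tau * el k → el k * el k ≠ tau := by
  intro k hk
  obtain ⟨hab, hs, hr⟩ := cent_tau k hk
  obtain ⟨a, b, c, s, t, r⟩ := k
  simp only at hab hs hr
  subst hab hr
  rcases hs with rfl | rfl <;> revert a c t <;> decide +kernel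

variable [Finite G]

/-- `C(Ta)` lies in the normaliser of `J`. -/
theorem Ev.cent_tau (h : Ev J φ) (hsmall : SmallNine.{u}) :
    Subgroup.centralizer ({φ Ta} : Set G) ≤ Subgroup.normalizer (J : Set G) := by
  classical
  have : Fact (Nat.Prime 3) := ⟨Nat.prime_three⟩
  set N := Subgroup.normalizer (J : Set G)
  set t := φ Ta with ht
  set C := Subgroup.centralizer ({t} : Set G) with hC
  set P := plane φ with hP
  have ht2 : t * t = 1 := by
    rw [ht, ← map_mul, (Subtype.ext (by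
      show (Ta : P9) * (Ta : P9) = 1
      rw [val_Ta]; exact identities.1) : Ta * Ta = 1), map_one]
  have htC : t ∈ C := Subgroup.mem_centralizer_singleton_iff.2 rfl
  have hPJ : P ≤ J := h.plane_le
  have hPC : P ≤ C := by
    rintro _ ⟨⟨u, hu⟩, ⟨a, c, hac⟩, rfl⟩
    rw [hC, Subgroup.mem_centralizer_singleton_iff, ht, ← map_mul, ← map_mul]
    congr 1
    refine Subtype.ext ?_
    show u * (Ta : P9) = (Ta : P9) * u
    rw [val_Ta, ← (show el (a, a, c, 0, 0, 0) = u from hac)]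
    exact plane_facts.2.1 a c
  have hPcard : Nat.card P = 9 := h.card_plane
  have hP3 : ∀ p ∈ P, p ^ 3 = 1 := by
    rintro _ ⟨⟨u, hu⟩, ⟨a, c, hac⟩, rfl⟩
    have hu3 : u ^ 3 = 1 := by
      rw [← (show el (a, a, c, 0, 0, 0) = u from hac)]
      rcases plane_facts.1 a c with e | e
      · rw [Set.mem_singleton_iff.1 e, one_pow]
      · exact e
    rw [← map_pow, (Subtype.ext hu3 : (⟨u, hu⟩ : W4) ^ 3 = 1), map_one]
  have he3P : φ E3 ∈ P := ⟨E3, ⟨0, 1, rfl⟩, rfl⟩
  have he12P : φ E12 ∈ P := ⟨E12, ⟨1, 0, rfl⟩, rfl⟩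
  -- the normaliser of the plane inside `C`
  have hnormP : ∀ y ∈ C, y ∈ N → ∀ p ∈ P, y * p * y⁻¹ ∈ P := by
    intro y hy hyN p hp
    obtain ⟨k, rfl⟩ := h.map_elW hyN
    obtain ⟨⟨u, hu⟩, ⟨a, c, hac⟩, rfl⟩ := hp
    have hk := (h.mul_iff _ _).1 (Subgroup.mem_centralizer_singleton_iff.1 hy)
    rw [val_Ta] at hk
    obtain ⟨a', c', e⟩ := tau_norm_plane k hk a c
    refine ⟨elW k * ⟨u, hu⟩ * (elW k)⁻¹, ⟨a', c', ?_⟩, by simp⟩
    show el (a', a', c', 0, 0, 0) = el k * u * (el k)⁻¹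
    rw [← (show el (a, a, c, 0, 0, 0) = u from hac), e, mul_inv_cancel_right]
  -- the centraliser of the plane
  have hcentP : ∀ y : G, (∀ p ∈ P, y * p = p * y) →
      ∃ (a b c : Fin 3) (i : Fin 2), y = φ (elW (a, b, c, 0, i, 0)) := by
    intro y hy
    obtain ⟨k, rfl⟩ := h.map_elW (h.cent_e3 (Subgroup.mem_centralizer_singleton_iff.2 (hy _ he3P)))
    have e1 := (h.mul_iff _ _).1 (hy _ he3P)
    have e2 := (h.mul_iff _ _).1 (hy _ he12P)
    rw [val_E3] at e1
    rw [val_E12] at e2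
    obtain ⟨hs, hr⟩ := cent_plane k e1 e2
    obtain ⟨a, b, c, s, i, r⟩ := k
    simp only at hs hr
    subst hs hr
    exact ⟨a, b, c, i, rfl⟩
  have hcardCN : Nat.card (C ⊓ N : Subgroup G) = 36 := by
    rw [← cards.1, ← Nat.card_eq_fintype_card]
    refine (Nat.card_congr (Equiv.ofBijective (fun k : {k : K4 // el k * tau = tau * el k} =>
      (⟨φ (elW k.1), ?_, h.mem_N _⟩ : (C ⊓ N : Subgroup G))) ⟨?_, ?_⟩)).symm
    · show φ (elW k.1) ∈ Subgroup.centralizer ({t} : Set G)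
      rw [Subgroup.mem_centralizer_singleton_iff, ht, h.mul_iff, val_Ta]
      exact k.2
    · intro k k' e
      exact Subtype.ext (el_injective (congrArg Subtype.val (h.b.inj (congrArg Subtype.val e))))
    · rintro ⟨y, hy, hyN⟩
      obtain ⟨k, rfl⟩ := h.map_elW hyN
      have hk := (h.mul_iff _ _).1 (Subgroup.mem_centralizer_singleton_iff.1 hy)
      rw [val_Ta] at hk
      exact ⟨⟨k, hk⟩, rfl⟩
  -- the quotient by `⟨t⟩`
  set Z := (Subgroup.zpowers t).subgroupOf C with hZ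
  have : Z.Normal := ⟨fun z hz g => by
    obtain ⟨i, hi⟩ := Subgroup.mem_zpowers_iff.1 hz
    show ((g * z * g⁻¹ : C) : G) ∈ Subgroup.zpowers t
    have hgt : (g : G) * t = t * (g : G) := Subgroup.mem_centralizer_singleton_iff.1 g.2
    rw [Subgroup.coe_mul, Subgroup.coe_mul, ← (show t ^ i = (z : G) from hi), Subgroup.coe_inv,
      (Commute.zpow_right hgt i).eq, mul_inv_cancel_right]
    exact ⟨i, rfl⟩⟩
  let π : C →* C ⧸ Z := QuotientGroup.mk' Z
  have hker : ∀ c : C, π c = 1 ↔ (c : G) = 1 ∨ (c : G) = t := by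
    intro c
    rw [show π c = (c : C ⧸ Z) from rfl, QuotientGroup.eq_one_iff]
    refine ⟨fun hc => ?_, ?_⟩
    · obtain ⟨i, hi⟩ := Subgroup.mem_zpowers_iff.1 hc
      rcases Int.even_or_odd i with ⟨m, rfl⟩ | ⟨m, rfl⟩
      · left
        rw [show (c : G) = t ^ (m + m) from hi.symm, zpow_add, ← (Commute.refl t).mul_zpow, ht2, one_zpow]
      · right
        rw [show (c : G) = t ^ (2 * m + 1) from hi.symm, zpow_add_one, zpow_mul,
          show t ^ (2 : ℤ) = 1 by rw [zpow_two, ht2], one_zpow, one_mul]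
    · rintro (e | e) <;> show (c : G) ∈ Subgroup.zpowers t <;> rw [e]
      · exact one_mem _
      · exact Subgroup.mem_zpowers t
  -- an element of the plane is not moved to its product with `t`
  have hodd : ∀ p ∈ P, ∀ p' ∈ P, (p' = p ∨ p' = p * t) → p' = p := by
    rintro p hp p' hp' (e | e)
    · exact e
    · exfalso
      have htP : t ∈ P := by
        have := mul_mem (inv_mem hp) (e ▸ hp')
        rwa [inv_mul_cancel_left] at this
      have h3 := hP3 t htP
      rw [pow_succ, pow_two, ht2, one_mul] at h3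
      exact h.ne_one (by rw [val_Ta]; decide +kernel) h3
  let Pb : Subgroup (C ⧸ Z) := (P.subgroupOf C).map π
  have hPb_card : Nat.card Pb = 9 := by
    have hinj : Function.Injective (fun p : P.subgroupOf C =>
        (⟨π p, p, p.2, rfl⟩ : Pb)) := by
      intro p q hpq
      have h1 : π ((p : C)⁻¹ * q) = 1 := by
        rw [map_mul, map_inv, show π p = π q from congrArg Subtype.val hpq, inv_mul_cancel]
      refine Subtype.ext (Subtype.ext ?_)
      rcases (hker _).1 h1 with e | e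
      · exact inv_mul_eq_one.1 e
      · exact (hodd _ p.2 _ q.2 (Or.inr (inv_mul_eq_iff_eq_mul.1 e))).symm
    rw [← hPcard, ← Nat.card_congr (Subgroup.subgroupOfEquivOfLe hPC).toEquiv]
    refine (Nat.card_congr (Equiv.ofBijective _ ⟨hinj, ?_⟩)).symm
    rintro ⟨_, p, hp, rfl⟩
    exact ⟨⟨p, hp⟩, rfl⟩
  -- lifts
  have hlift : ∀ (y : C) (p : G) (hp : p ∈ P), Commute (π y) (π ⟨p, hPC hp⟩) → (y : G) * p = p * y := by
    intro y p hp hcomm
    have h1 : π (y * ⟨p, hPC hp⟩ * y⁻¹ * (⟨p, hPC hp⟩ : C)⁻¹) = 1 := by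
      rw [map_mul, map_mul, map_mul, map_inv, map_inv, hcomm.eq, mul_inv_cancel_right, mul_inv_cancel]
    rcases (hker _).1 h1 with e | e
    · exact mul_inv_eq_iff_eq_mul.1 (mul_inv_eq_one.1 e)
    · exfalso
      have hc : (y : G) * p * (y : G)⁻¹ = t * p := by
        rw [← mul_inv_eq_iff_eq_mul]
        exact e
      have h3 : ((y : G) * p * (y : G)⁻¹) ^ 3 = 1 := by rw [conj_pow, hP3 p hp, mul_one, mul_inv_cancel]
      have htp : Commute t p := (Subgroup.mem_centralizer_singleton_iff.1 (hPC hp)).symm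
      rw [hc, htp.mul_pow, hP3 p hp, mul_one, pow_succ, pow_two, ht2, one_mul] at h3
      exact h.ne_one (by rw [val_Ta]; decide +kernel) h3
  -- the normaliser of the image
  have hnb : ∀ y : C, π y ∈ Subgroup.normalizer (Pb : Set (C ⧸ Z)) → ∀ p ∈ P, (y : G) * p * (y : G)⁻¹ ∈ P := by
    intro y hy p hp
    obtain ⟨q, hq, hqe⟩ := (Subgroup.mem_normalizer_iff.1 hy (π ⟨p, hPC hp⟩)).1 ⟨_, hp, rfl⟩
    have h1 : π (y * ⟨p, hPC hp⟩ * y⁻¹ * q⁻¹) = 1 := by
      rw [map_mul, map_mul, map_mul, map_inv, map_inv, ← hqe, mul_inv_cancel]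
    rcases (hker _).1 h1 with e | e
    · rw [show (y : G) * p * (y : G)⁻¹ = (q : G) from mul_inv_eq_one.1 e]
      exact hq
    · exfalso
      have hc : (y : G) * p * (y : G)⁻¹ = t * q := by
        rw [← mul_inv_eq_iff_eq_mul]
        exact e
      have h3 : ((y : G) * p * (y : G)⁻¹) ^ 3 = 1 := by rw [conj_pow, hP3 p hp, mul_one, mul_inv_cancel]
      have htq : Commute t q := (Subgroup.mem_centralizer_singleton_iff.1 q.2).symm
      rw [hc, htq.mul_pow, (show (q : G) ^ 3 = 1 from hP3 _ hq), mul_one, pow_succ, pow_two, ht2, one_mul] at h3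
      exact h.ne_one (by rw [val_Ta]; decide +kernel) h3
  -- elements normalising the plane lie in `N`
  have hinN : ∀ y : G, (∀ p ∈ P, y * p * y⁻¹ ∈ P) → y ∈ N := by
    intro y hy
    refine mem_norm J fun j hj => ?_
    have hcomm : ∀ p ∈ P, y * j * y⁻¹ * p = p * (y * j * y⁻¹) := by
      intro p hp
      have hsur : ∃ q ∈ P, y * q * y⁻¹ = p := by
        let f : P → P := fun q => ⟨y * q * y⁻¹, hy q q.2⟩
        have hf : Function.Injective f := fun a b e => Subtype.ext (by simpa [f] using e)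
        obtain ⟨q, hq⟩ := (Finite.surjective_of_injective hf) ⟨p, hp⟩
        exact ⟨q, q.2, congrArg Subtype.val hq⟩
      obtain ⟨q, hq, rfl⟩ := hsur
      have hjq : j * q = q * j := by
        have := (h.b.cJ.symm ▸ hj : j ∈ Subgroup.centralizer (J : Set G))
        exact (Subgroup.mem_centralizer_iff.1 this q (hPJ hq)).symm
      rw [show y * j * y⁻¹ * (y * q * y⁻¹) = y * (j * q) * y⁻¹ by group, hjq]
      group
    obtain ⟨a, b, c, i, e⟩ := hcentP _ hcomm
    rw [e]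
    have hi : i = 0 := by
      by_contra hi
      have hi1 : i = 1 := by omega
      subst hi1
      have hjs : j ^ 3 = 1 := by
        obtain ⟨u, hu, rfl⟩ := (h.b.base_eq.symm ▸ hj : j ∈ (base.subgroupOf W4).map φ)
        rw [← map_pow, (Subtype.ext (base_exp (u : P9) hu) : u ^ 3 = 1), map_one]
      have h3 : (y * j * y⁻¹) ^ 3 = 1 := by rw [conj_pow, hjs, mul_one, mul_inv_cancel]
      rw [e, ← map_pow] at h3
      exact odd_coset a b c (congrArg Subtype.val (h.b.inj (h3.trans (map_one φ).symm)))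
    subst hi
    exact h.base_mem (el_base a b c)
  obtain ⟨Qs, hQs⟩ : ∃ Qs : Sylow 3 (C ⧸ Z), (Qs : Subgroup (C ⧸ Z)) = Pb := by
    obtain ⟨Qs, hQs⟩ := IsPGroup.exists_le_sylow (IsPGroup.of_card (n := 2) (hPb_card.trans (by norm_num)) : IsPGroup 3 Pb)
    refine ⟨Qs, ?_⟩
    by_contra hne
    have hlt : Pb < (Qs : Subgroup _) := lt_of_le_of_ne hQs (Ne.symm hne)
    have : Group.IsNilpotent (Qs : Subgroup (C ⧸ Z)) := Qs.2.isNilpotent
    have h1 : Pb.subgroupOf Qs < ⊤ := lt_top_iff_ne_top.2 fun e =>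
      hlt.ne (le_antisymm hlt.le (Subgroup.subgroupOf_eq_top.1 e))
    obtain ⟨y, hyn, hynot⟩ := SetLike.exists_of_lt (Group.normalizerCondition_of_isNilpotent _ h1)
    obtain ⟨c, hc⟩ := QuotientGroup.mk'_surjective Z (y : C ⧸ Z)
    have hyN : π c ∈ Subgroup.normalizer (Pb : Set (C ⧸ Z)) := by
      rw [show π c = (y : C ⧸ Z) from hc]
      refine mem_norm Pb fun p hp => ?_
      exact (Subgroup.mem_normalizer_iff.1 hyn ⟨p, hlt.le hp⟩).1 hp
    have hcN : (c : G) ∈ C ⊓ N := ⟨c.2, hinN _ (hnb c hyN)⟩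
    -- the element `π c` is a `3`-element normalising `Pb`
    have hbig : (Subgroup.closure ({π c} ∪ (Pb : Set (C ⧸ Z)))) ≤ (Qs : Subgroup _) := by
      rw [Subgroup.closure_le]
      rintro x (rfl | hx)
      · rw [show π c = (y : C ⧸ Z) from hc]; exact y.2
      · exact hlt.le hx
    set L := Subgroup.closure ({π c} ∪ (Pb : Set (C ⧸ Z))) with hL
    have hLimg : L ≤ ((C ⊓ N).subgroupOf C).map π := by
      rw [hL, Subgroup.closure_le]
      rintro x (rfl | ⟨p, hp, rfl⟩)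
      · exact ⟨c, hcN, rfl⟩
      · exact ⟨p, ⟨p.2, J.le_normalizer (hPJ hp)⟩, rfl⟩
    have hd1 : Nat.card L ∣ 36 := by
      refine (Subgroup.card_dvd_of_le hLimg).trans ((Subgroup.card_map_dvd _ _).trans ?_)
      rw [Nat.card_congr (Subgroup.subgroupOfEquivOfLe inf_le_left).toEquiv, hcardCN]
    obtain ⟨m, hm⟩ := IsPGroup.iff_card.1 (Qs.2.to_le hbig)
    have hPL : Pb < L := by
      refine lt_of_le_of_ne (fun x hx => Subgroup.subset_closure (Or.inr hx)) fun e => hynot ?_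
      show (y : C ⧸ Z) ∈ Pb
      rw [e, ← hc]
      exact Subgroup.subset_closure (Or.inl rfl)
    have hle : Nat.card L ≤ 9 := by
      rw [hm] at hd1 ⊢
      have hm2 : m ≤ 2 := by
        by_contra hc'
        have h27 : 3 ^ 3 ∣ 36 := (pow_dvd_pow 3 (by omega : 3 ≤ m)).trans hd1
        norm_num at h27
      calc 3 ^ m ≤ 3 ^ 2 := Nat.pow_le_pow_right (by norm_num) hm2
        _ = 9 := by norm_num
    exact hPL.ne (Subgroup.eq_of_le_of_card_ge hPL.le (by rw [hPb_card]; exact hle))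
  have hnormal : (Qs : Subgroup (C ⧸ Z)).Normal := by
    refine hsmall Qs (by rw [hQs, hPb_card]) ?_ ?_ ?_ ?_
    · rw [hQs]
      rintro _ ⟨p, hp, rfl⟩
      rw [← map_pow, (Subtype.ext (hP3 p hp) : p ^ 3 = 1), map_one]
    · rw [hQs]
      refine le_antisymm ?_ ?_
      · intro x hx
        obtain ⟨c, rfl⟩ := QuotientGroup.mk'_surjective Z x
        have hcc : ∀ p ∈ P, (c : G) * p = p * c := fun p hp =>
          hlift c p hp (Subgroup.mem_centralizer_iff.1 hx _ ⟨_, hp, rfl⟩).symm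
        obtain ⟨a, b, e, i, hcge⟩ := hcentP _ hcc
        have hk := (h.mul_iff (a, b, e, 0, i, 0) Ta).1
          (by rw [← hcge]; exact Subgroup.mem_centralizer_singleton_iff.1 c.2)
        rw [val_Ta] at hk
        have hab : a = b := (S9Even37.cent_tau _ hk).1
        subst hab
        have hp : φ (elW (a, a, e, 0, 0, 0)) ∈ P := ⟨_, ⟨a, e, rfl⟩, rfl⟩
        refine ⟨⟨_, hPC hp⟩, hp, ?_⟩
        rw [← inv_mul_eq_one, ← map_inv, ← map_mul]
        refine (hker _).2 ?_
        show (φ (elW (a, a, e, 0, 0, 0)))⁻¹ * (c : G) = 1 ∨ (φ (elW (a, a, e, 0, 0, 0)))⁻¹ * (c : G) = t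
        rw [hcge, ← map_inv, ← map_mul, ht]
        rcases split_tau a e i with e' | e'
        · left; rw [(Subtype.ext e' : (elW (a, a, e, 0, 0, 0))⁻¹ * elW (a, a, e, 0, i, 0) = 1), map_one]
        · right; rw [(Subtype.ext (e'.trans val_Ta.symm) : (elW (a, a, e, 0, 0, 0))⁻¹ * elW (a, a, e, 0, i, 0) = Ta)]
      · intro x hx
        rw [Subgroup.mem_centralizer_iff]
        intro y hy
        obtain ⟨p, hp, rfl⟩ := hx
        obtain ⟨q, hq, rfl⟩ := hy
        rw [← map_mul, ← map_mul]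
        congr 1
        refine Subtype.ext ?_
        have := (h.b.cJ.symm ▸ hPJ hp : (p : G) ∈ Subgroup.centralizer (J : Set G))
        exact Subgroup.mem_centralizer_iff.1 this q (hPJ hq)
    · rw [hQs]
      intro x hx hx1 y hy
      obtain ⟨p, hp, rfl⟩ := hx
      obtain ⟨c, rfl⟩ := QuotientGroup.mk'_surjective Z y
      have hcp : (c : G) * p = p * c := hlift c p hp (Subgroup.mem_centralizer_singleton_iff.1 hy)
      have hp1 : (p : G) ≠ 1 := fun e => hx1 (by rw [(Subtype.ext e : p = 1), map_one])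
      have hcN : (c : G) ∈ N := h.loc _ (hPJ hp) hp1 (Subgroup.mem_centralizer_singleton_iff.2 hcp)
      refine mem_norm Pb ?_
      rintro _ ⟨q, hq, rfl⟩
      exact ⟨c * q * c⁻¹, hnormP _ c.2 hcN q hq, by simp [π]⟩
    · rw [hQs]
      have hle : Subgroup.normalizer (Pb : Set (C ⧸ Z)) ≤ ((C ⊓ N).subgroupOf C).map π := by
        intro y hy
        obtain ⟨c, rfl⟩ := QuotientGroup.mk'_surjective Z y
        exact ⟨c, ⟨c.2, hinN _ (hnb c hy)⟩, rfl⟩
      have h2 : Nat.card (((C ⊓ N).subgroupOf C).map π) * 2 = 36 := by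
        have hk := (π.comp ((C ⊓ N).subgroupOf C).subtype).ker.card_mul_index
        rw [Subgroup.index_ker, mul_comm] at hk
        rw [MonoidHom.range_comp, Subgroup.range_subtype,
          Nat.card_congr (Subgroup.subgroupOfEquivOfLe inf_le_left).toEquiv, hcardCN] at hk
        have hkc : Nat.card (π.comp ((C ⊓ N).subgroupOf C).subtype).ker = 2 := by
          rw [Nat.card_eq_two_iff]
          let x : (C ⊓ N).subgroupOf C := ⟨⟨t, htC⟩, htC, h.mem_N _⟩
          refine ⟨⟨1, one_mem _⟩, ⟨x, (hker _).2 (Or.inr rfl)⟩, fun e => ?_, ?_⟩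
          · exact h.ne_one (by rw [val_Ta]; decide +kernel)
              (congrArg Subtype.val (congrArg Subtype.val (congrArg Subtype.val e))).symm
          · rw [Set.eq_univ_iff_forall]
            rintro ⟨z, hz⟩
            rcases (hker _).1 hz with e | e
            · exact Or.inl (Subtype.ext (Subtype.ext (Subtype.ext e)))
            · exact Or.inr (Subtype.ext (Subtype.ext (Subtype.ext e)))
        rw [hkc] at hk
        exact hk
      have := Nat.le_of_dvd (by omega) (Subgroup.card_dvd_of_le hle)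
      omega
  intro g hg
  refine hinN g fun p hp => ?_
  have hmem : π ⟨g, hg⟩ ∈ Subgroup.normalizer (Pb : Set (C ⧸ Z)) := by
    rw [Subgroup.normalizer_eq_top_iff.2 (hQs ▸ hnormal)]
    exact Subgroup.mem_top _
  exact hnb ⟨g, hg⟩ hmem p hp

theorem Ev.cent_t (h : Ev J φ) :
    Subgroup.centralizer ({φ Ta} : Set G) ≤ Subgroup.normalizer (J : Set G) :=
  h.cent_tau fun P h1 h2 h3 h4 h5 => S9Nine37.normal_of_small P h1 h2 h3 h4 h5

theorem Ev.coords_t (h : Ev J φ) {y : G} (hy : y * φ Ta = φ Ta * y) :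
    ∃ k : K4, el k * tau = tau * el k ∧ φ (elW k) = y := by
  obtain ⟨k, rfl⟩ := h.map_elW (h.cent_t (Subgroup.mem_centralizer_singleton_iff.2 hy))
  exact ⟨k, val_Ta ▸ (h.mul_iff _ _).1 hy, rfl⟩

theorem Ev.card_cent_t (h : Ev J φ) : Nat.card (Subgroup.centralizer ({φ Ta} : Set G)) = 36 := by
  rw [← cards.1, ← Nat.card_eq_fintype_card]
  refine (Nat.card_congr (Equiv.ofBijective (fun k : {k : K4 // el k * tau = tau * el k} =>
    (⟨φ (elW k.1), ?_⟩ : Subgroup.centralizer ({φ Ta} : Set G))) ⟨?_, ?_⟩)).symm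
  · rw [Subgroup.mem_centralizer_singleton_iff, h.mul_iff, val_Ta]
    exact k.2
  · intro k k' e
    exact Subtype.ext (el_injective (congrArg Subtype.val (h.b.inj (congrArg Subtype.val e))))
  · rintro ⟨y, hy⟩
    obtain ⟨k, hk, rfl⟩ := h.coords_t (Subgroup.mem_centralizer_singleton_iff.1 hy)
    exact ⟨⟨k, hk⟩, rfl⟩

theorem W4_identities : Ta * Ta = 1 ∧ Vs * Vs = 1 ∧ Vt * Vt = 1 ∧ Ta * Vs = Vs * Ta ∧ Vs * Vt = Vt * Vs ∧
    Vt * Ta * Vt = Ta * Vs ∧ Rt * Vs * Rt⁻¹ = Vt ∧ E3 ^ 3 = 1 ∧ Vt * E3 * Vt = E3⁻¹ ∧ Vs * E3 = E3 * Vs ∧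
    Ta * E3 = E3 * Ta ∧ Vt * Ta * (Vt * Ta) = Vs ∧ elW (0, 0, 0, 1, 1, 0) = Ta * Vs := by
  decide +kernel

theorem Ev.not_conj (h : Ev J φ) : ¬ IsConj (φ Ta) (φ Vs) := by
  intro hc
  obtain ⟨g, hg⟩ := isConj_iff.1 hc.symm
  obtain ⟨-, -, -, htv, hvw, -, -, -, -, -, -, hwt, -⟩ := W4_identities
  have hu : g * φ (Vt * Ta) * g⁻¹ * φ Ta = φ Ta * (g * φ (Vt * Ta) * g⁻¹) := by
    have e : φ (Vt * Ta) * φ Vs = φ Vs * φ (Vt * Ta) := by
      rw [← map_mul, ← map_mul, mul_assoc, htv, ← mul_assoc, ← hvw, mul_assoc]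
    rw [← hg, show g * φ (Vt * Ta) * g⁻¹ * (g * φ Vs * g⁻¹) = g * (φ (Vt * Ta) * φ Vs) * g⁻¹ by group, e]
    group
  obtain ⟨k, hk, hke⟩ := h.coords_t hu
  apply cent_tau_sqrt k hk
  have hsq : φ (elW k * elW k) = φ Ta := by
    rw [map_mul, hke, ← hg, show g * φ (Vt * Ta) * g⁻¹ * (g * φ (Vt * Ta) * g⁻¹) =
      g * (φ (Vt * Ta) * φ (Vt * Ta)) * g⁻¹ by group, ← map_mul, hwt]
  rw [← val_Ta]
  exact congrArg Subtype.val (h.b.inj hsq)

/-- The transfer: a normal subgroup of index two without `Ta`, and dihedral Sylow `2`-subgroups. -/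
theorem Ev.exists_transfer (h : Ev J φ) :
    ∃ (M : Subgroup G) (T : Sylow 2 G) (a : G), M.Normal ∧ M.index = 2 ∧ φ Ta ∉ M ∧ φ Vt ∈ M ∧
      φ Vs ∈ M ∧ φ E3 ∈ M ∧ φ Rt ∈ M ∧ DihShape (T : Subgroup G) a (φ Vs) ∧
      (T : Subgroup G) ≤ Subgroup.centralizer ({φ Vs} : Set G) ∧
      eight φ ≤ (T : Subgroup G) := by
  classical
  have : Fact (Nat.Prime 2) := ⟨Nat.prime_two⟩
  obtain ⟨htt, hvv, hww, htv, hvw, hwtw, hrot, -, -, -, -, -, hel⟩ := W4_identities
  have h8 : IsPGroup 2 (eight φ) := IsPGroup.of_card (n := 3) (h.card_eight.trans (by norm_num))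
  obtain ⟨T, hT⟩ := h8.exists_le_sylow
  have hTa : φ Ta ∈ (T : Subgroup G) := hT (mem_eight 0 1)
  have hVs : φ Vs ∈ (T : Subgroup G) := hT (mem_eight 1 0)
  have hVt : φ Vt ∈ (T : Subgroup G) := hT (mem_eight 2 0)
  have hord : ∀ u : W4, u * u = 1 → (u : P9) ≠ 1 → orderOf (φ u) = 2 := fun u hu hne =>
    orderOf_eq_prime (by rw [pow_two, ← map_mul, hu, map_one]) (h.ne_one hne)
  have hto : orderOf (φ Ta) = 2 := hord Ta htt (by rw [val_Ta]; decide +kernel)
  have hvo : orderOf (φ Vs) = 2 := hord Vs hvv (by rw [val_Vs]; decide +kernel)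
  have hC : ∀ x ∈ (T : Subgroup G), x * φ Ta = φ Ta * x →
      x = 1 ∨ x = φ Ta ∨ x = φ Vs ∨ x = φ Ta * φ Vs := by
    intro x hxT hx
    set F := (T : Subgroup G) ⊓ Subgroup.centralizer ({φ Ta} : Set G) with hF
    obtain ⟨m, hm⟩ := IsPGroup.iff_card.1 (T.2.to_le (inf_le_left : F ≤ (T : Subgroup G)))
    have hd : 2 ^ m ∣ 36 := by
      rw [← hm, ← h.card_cent_t]; exact Subgroup.card_dvd_of_le inf_le_right
    have hm2 : m ≤ 2 := by
      by_contra hc'
      have h27 : 2 ^ 3 ∣ 36 := (pow_dvd_pow 2 (by omega : 3 ≤ m)).trans hd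
      norm_num at h27
    let four : Finset G := {1, φ Ta, φ Vs, φ Ta * φ Vs}
    have hsub : ∀ y ∈ four, y ∈ F := by
      intro y hy
      simp only [four, Finset.mem_insert, Finset.mem_singleton] at hy
      rcases hy with rfl | rfl | rfl | rfl
      · exact one_mem _
      · exact ⟨hTa, Subgroup.mem_centralizer_singleton_iff.2 rfl⟩
      · exact ⟨hVs, Subgroup.mem_centralizer_singleton_iff.2 (by rw [← map_mul, ← map_mul, htv])⟩
      · refine ⟨mul_mem hTa hVs, Subgroup.mem_centralizer_singleton_iff.2 ?_⟩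
        rw [← map_mul, ← map_mul, ← map_mul, mul_assoc, ← htv]
    have hcard : four.card = 4 := by
      have hinj : Function.Injective (fun u : W4 => φ u) := h.b.inj
      have e : four = ({1, Ta, Vs, Ta * Vs} : Finset W4).image (fun u => φ u) := by
        simp [four, Finset.image_insert, map_mul]
      rw [e, Finset.card_image_of_injective _ hinj]
      decide +kernel
    have hxF : x ∈ four := by
      by_contra hxn
      have h5 : (insert x four).card ≤ Nat.card F := by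
        rw [← Nat.card_eq_finsetCard]
        refine Nat.card_le_card_of_injective (fun y => (⟨y.1, ?_⟩ : F)) fun p q e =>
          Subtype.ext (Subtype.mk.inj e)
        rcases Finset.mem_insert.1 y.2 with e | e
        · rw [e]; exact ⟨hxT, Subgroup.mem_centralizer_singleton_iff.2 hx⟩
        · exact hsub _ e
      rw [Finset.card_insert_of_notMem hxn, hcard, hm] at h5
      have := Nat.pow_le_pow_right (show 0 < 2 by norm_num) hm2
      omega
    simpa [four] using hxF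
  obtain ⟨M, hMn, hMi, htM, hTv, hdih⟩ := transfer_dihedral T hto hvo (by rw [← map_mul, hww, map_one])
    hTa hVs hVt (by rw [← map_mul, ← map_mul, hvw]) (by rw [← map_mul, ← map_mul, htv])
    (by rw [← map_mul, ← map_mul, hwtw, map_mul]) hC h.not_conj
  have hodd : ∀ u : W4, u ^ 3 = 1 → φ u ∈ M := by
    intro u hu
    have h1 : φ u * φ u ∈ M := by rw [Subgroup.mul_mem_iff_of_index_two hMi]
    have h2 : φ u ^ 3 = 1 := by rw [← map_pow, hu, map_one]
    have h3 : φ u ^ 3 = φ u * (φ u * φ u) := by rw [pow_succ', pow_two]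
    rw [h3] at h2
    rw [eq_inv_of_mul_eq_one_left h2]
    exact inv_mem h1
  have hvM : φ Vs ∈ M := by
    have h2 : φ Vt * φ Ta * φ Vt ∉ M := by
      intro hh
      refine htM ?_
      have := hMn.conj_mem _ hh (φ Vt)
      rwa [show φ Vt * (φ Vt * φ Ta * φ Vt) * (φ Vt)⁻¹ = φ Vt * φ Vt * φ Ta by group, ← map_mul, hww,
        map_one, one_mul] at this
    rw [← map_mul, ← map_mul, hwtw, map_mul] at h2
    by_contra hc'
    exact h2 ((Subgroup.mul_mem_iff_of_index_two hMi).2 (iff_of_false htM hc'))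
  have hrM : φ Rt ∈ M := hodd Rt (by decide +kernel)
  have hwM : φ Vt ∈ M := by
    rw [← hrot, map_mul, map_mul, map_inv]
    exact mul_mem (mul_mem hrM hvM) (inv_mem hrM)
  obtain ⟨a, ha⟩ := hdih hwM
  exact ⟨M, T, a, hMn, hMi, htM, hwM, hvM, hodd E3 W4_identities.2.2.2.2.2.2.2.1, hrM, ha, hTv, hT⟩

end Cfsg.Agent.S9Even37
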