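import Mathlib
import Cfsg.Agent.Lib.S9EvenTau37
import Cfsg.Agent.Lib.PSL2Proj52
import Cfsg.Agent.S3331

/-!
The centraliser of `Vs`.
-/

set_option autoImplicit false
set_option maxRecDepth 100000
set_option linter.unusedSectionVars false
set_option linter.style.haveILetI false

namespace Cfsg.Agent.S9Even37

open Equiv S9Model37

universe u

section witness

/-- An element of order three moving an involution of a four-group. -/
def A4Witness (X : Type*) [Group X] : Prop :=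
  ∃ w y : X, w * w = 1 ∧ y * y * y = 1 ∧ Commute w (y * w * y⁻¹) ∧
    y * (y * w * y⁻¹) * y⁻¹ = w * (y * w * y⁻¹) ∧ y * w ≠ w * y

theorem A4Witness.of_equiv {X Y : Type*} [Group X] [Group Y] (e : X ≃* Y) (h : A4Witness Y) :
    A4Witness X := by
  obtain ⟨w, y, h1, h2, h3, h4, h5⟩ := h
  refine ⟨e.symm w, e.symm y, ?_, ?_, ?_, ?_, fun hh => h5 ?_⟩
  · rw [← map_mul, h1, map_one]
  · rw [← map_mul, ← map_mul, h2, map_one]
  · rw [← map_inv, ← map_mul, ← map_mul]; exact h3.map e.symm.toMonoidHom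
  · rw [← map_inv, ← map_mul, ← map_mul, ← map_mul, ← map_mul, ← map_mul, h4]
  · exact e.symm.injective (by rw [map_mul, map_mul, hh])

open scoped MatrixGroups in
/-- Lifts of the witness. -/
def wi : SL(2, ZMod 7) := ⟨!![0, 6; 1, 0], by decide +kernel⟩

open scoped MatrixGroups in
/-- Lifts of the witness. -/
def wy : SL(2, ZMod 7) := ⟨!![0, 5; 4, 6], by decide +kernel⟩

open scoped MatrixGroups in
theorem wit_facts : (wi * wi = 1 ∨ wi * wi = -1) ∧ (wy * wy * wy = 1 ∨ wy * wy * wy = -1) ∧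
    (wi * (wy * wi * wy⁻¹) = wy * wi * wy⁻¹ * wi ∨ wi * (wy * wi * wy⁻¹) = -(wy * wi * wy⁻¹ * wi)) ∧
    (wy * (wy * wi * wy⁻¹) * wy⁻¹ = wi * (wy * wi * wy⁻¹) ∨
      wy * (wy * wi * wy⁻¹) * wy⁻¹ = -(wi * (wy * wi * wy⁻¹))) ∧
    ¬ (wy * wi = wi * wy ∨ wy * wi = -(wi * wy)) := by
  decide +kernel

theorem alt5_witness : A4Witness (alternatingGroup (Fin 5)) := by
  refine ⟨⟨swap 0 1 * swap 2 3, Equiv.Perm.mem_alternatingGroup.2 (by decide +kernel)⟩,
    ⟨swap 0 1 * swap 1 2, Equiv.Perm.mem_alternatingGroup.2 (by decide +kernel)⟩, ?_, ?_, ?_, ?_, ?_⟩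
  all_goals first
    | (exact Subtype.ext (by decide +kernel))
    | (exact fun e => absurd (congrArg Subtype.val e) (by decide +kernel))

open scoped MatrixGroups in
theorem psl7_witness : A4Witness (Matrix.ProjectiveSpecialLinearGroup (Fin 2) (ZMod 7)) := by
  have : Fact (Nat.Prime 7) := ⟨by norm_num⟩
  have hc : ∀ A B : SL(2, ZMod 7), A = B ∨ A = -B → PSL2Proj52.π A = PSL2Proj52.π B :=
    fun A B => (PSL2Proj52.π_eq_iff A B).2
  refine ⟨PSL2Proj52.π wi, PSL2Proj52.π wy, ?_, ?_, ?_, ?_, ?_⟩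
  · rw [← map_mul, ← map_one PSL2Proj52.π]
    exact hc _ _ wit_facts.1
  · rw [← map_mul, ← map_mul, ← map_one PSL2Proj52.π]
    exact hc _ _ wit_facts.2.1
  · rw [← map_inv, ← map_mul, ← map_mul]
    show PSL2Proj52.π wi * _ = _ * PSL2Proj52.π wi
    rw [← map_mul, ← map_mul]
    exact hc _ _ wit_facts.2.2.1
  · rw [← map_inv, ← map_mul, ← map_mul, ← map_mul, ← map_mul, ← map_mul]
    exact hc _ _ wit_facts.2.2.2.1
  · intro e
    rw [← map_mul, ← map_mul, PSL2Proj52.π_eq_iff] at e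
    exact wit_facts.2.2.2.2 e

end witness

/-- The elements `e₃ᶜ · signs · Taⁱ`. -/
def cvSub : Subgroup P9 where
  carrier := {x | ∃ (c : Fin 3) (s : Fin 4) (t : Fin 2), el (0, 0, c, s, t, 0) = x}
  one_mem' := ⟨0, 0, 0, by decide +kernel⟩
  mul_mem' := by
    rintro _ _ ⟨c, s, t, rfl⟩ ⟨c', s', t', rfl⟩
    revert c s t c' s' t'
    decide +kernel
  inv_mem' := by
    rintro _ ⟨c, s, t, rfl⟩
    revert c s t
    decide +kernel

theorem cvSub_le : cvSub ≤ W4 := by
  rintro _ ⟨c, s, t, rfl⟩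
  exact el_mem _

theorem card_cvSub : Nat.card cvSub = 24 := by
  rw [← Nat.card_congr (Equiv.ofBijective
    (fun p : Fin 3 × Fin 4 × Fin 2 =>
      (⟨el (0, 0, p.1, p.2.1, p.2.2, 0), p.1, p.2.1, p.2.2, rfl⟩ : cvSub)) ⟨?_, ?_⟩)]
  · simp
  · intro p q hpq
    have h' := @el_injective (0, 0, p.1, p.2.1, p.2.2, 0) (0, 0, q.1, q.2.1, q.2.2, 0)
      (congrArg Subtype.val hpq)
    simp only [Prod.mk.injEq, true_and, and_true] at h'
    exact Prod.ext h'.1 (Prod.ext h'.2.1 h'.2.2)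
  · rintro ⟨x, c, s, t, hx⟩
    exact ⟨(c, s, t), Subtype.ext hx⟩

theorem cvSub_fix_v : ∀ (c : Fin 3) (s : Fin 4) (t : Fin 2),
    el (0, 0, c, s, t, 0) * (d1 * d2) = d1 * d2 * el (0, 0, c, s, t, 0) := by
  decide +kernel

theorem cv_split : ∀ (c : Fin 3) (s : Fin 4) (t : Fin 2),
    el (0, 0, c, s, t, 0) = c3 ^ (c : ℕ) * el (0, 0, 0, s, t, 0) ∧
    el (0, 0, 0, s, t, 0) = el (0, 0, 0, s, 0, 0) * tau ^ (t : ℕ) := by
  decide +kernel

theorem tau_v_small : ∀ (c : Fin 3) (s : Fin 4) (t : Fin 2), (s = 0 ∨ s = 1) →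
    el (0, 0, c, s, t, 0) ^ 6 = 1 := by
  decide +kernel

theorem small_parity : ∀ (c : Fin 3) (s : Fin 4) (t : Fin 2), (s = 0 ∨ s = 1) →
    t = 0 ∨ el (0, 0, c, s, 0, 0) * tau = el (0, 0, c, s, t, 0) := by
  decide +kernel

theorem small_elW : ∀ c : Fin 3, elW (0, 0, c, 0, 0, 0) = E3 ^ (c : ℕ) ∧
    elW (0, 0, c, 1, 0, 0) = E3 ^ (c : ℕ) * Vs := by
  decide +kernel

variable {G : Type u} [Group G] [Finite G] {J : Subgroup G} {φ : W4 →* G}

/-- The group `⟨e₃⟩ · eight`. -/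
def cvImg (φ : W4 →* G) : Subgroup G := (cvSub.subgroupOf W4).map φ

theorem Ev.card_cvImg (h : Ev J φ) : Nat.card (cvImg φ) = 24 := by
  rw [cvImg, Subgroup.card_map_of_injective h.b.inj,
    Nat.card_congr (Subgroup.subgroupOfEquivOfLe cvSub_le).toEquiv, card_cvSub]

theorem mem_cvImg (c : Fin 3) (s : Fin 4) (t : Fin 2) : φ (elW (0, 0, c, s, t, 0)) ∈ cvImg φ :=
  ⟨elW (0, 0, c, s, t, 0), ⟨c, s, t, rfl⟩, rfl⟩

/-- The structure of `C(Vs)`. -/
structure CV (φ : W4 →* G) (O : Subgroup G) (m : ℕ) : Prop where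
  le : O ≤ Subgroup.centralizer ({φ Vs} : Set G)
  cop : ∀ o ∈ O, o ^ 24 = 1 → o = 1
  inv : ∀ o ∈ O, φ Ta * o * φ Ta = o⁻¹
  norm : ∀ g ∈ Subgroup.centralizer ({φ Vs} : Set G), ∀ o ∈ O, g * o * g⁻¹ ∈ O
  fpf : ∀ o ∈ O, o * φ E3 = φ E3 * o → o = 1
  split : ∀ g ∈ Subgroup.centralizer ({φ Vs} : Set G), ∃ o ∈ O, ∃ y ∈ cvImg φ, g = o * y
  card_O : Nat.card O = m ^ 2
  card_A : Nat.card (O ⊓ Subgroup.centralizer ({φ Vt} : Set G) : Subgroup G) = m
  modd : Odd m

set_option maxHeartbeats 1600000 in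
/-- The odd part of `C(Vs)` and its shape. -/
theorem Ev.exists_cv (h : Ev J φ) {M : Subgroup G} (hMn : M.Normal) (hMi : M.index = 2)
    (htM : φ Ta ∉ M) (hwM : φ Vt ∈ M) (hvM : φ Vs ∈ M) (heM : φ E3 ∈ M)
    {T : Sylow 2 G} {a : G} (hT : DihShape (T : Subgroup G) a (φ Vs))
    (hTv : (T : Subgroup G) ≤ Subgroup.centralizer ({φ Vs} : Set G)) :
    ∃ (O : Subgroup G) (m : ℕ), CV φ O m ∧ O ≤ M := by
  classical
  obtain ⟨htt, hvv, hww, htv, hvw, hwtw, hrot, he3, hwe, hve, hte, -, -⟩ := W4_identities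
  have : Fact (Nat.Prime 2) := ⟨Nat.prime_two⟩
  have : Fact (Nat.Prime 3) := ⟨Nat.prime_three⟩
  set v := φ Vs with hv
  set t := φ Ta with ht
  set e := φ E3 with he
  set w := φ Vt with hw
  have hv2 : v * v = 1 := by rw [hv, ← map_mul, hvv, map_one]
  have ht2 : t * t = 1 := by rw [ht, ← map_mul, htt, map_one]
  have hw2 : w * w = 1 := by rw [hw, ← map_mul, hww, map_one]
  have he1 : e ≠ 1 := h.ne_one (by rw [val_E3]; decide +kernel)
  have hv1 : v ≠ 1 := h.ne_one (by rw [val_Vs]; decide +kernel)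
  have he3' : e ^ 3 = 1 := by rw [he, ← map_pow, he3, map_one]
  have hev : e * v = v * e := by rw [he, hv, ← map_mul, ← map_mul, hve]
  set C := Subgroup.centralizer ({v} : Set G) with hC
  have hcvC : cvImg φ ≤ C := by
    rintro _ ⟨⟨u, hu⟩, ⟨c, s, i, hcs⟩, rfl⟩
    rw [hC, Subgroup.mem_centralizer_singleton_iff, hv, ← map_mul, ← map_mul]
    refine congrArg φ (Subtype.ext ?_)
    show u * (Vs : P9) = (Vs : P9) * u
    rw [val_Vs, ← (show el (0, 0, c, s, i, 0) = u from hcs)]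
    exact cvSub_fix_v c s i
  set D := C ⊓ M with hD
  have heC : e ∈ C := Subgroup.mem_centralizer_singleton_iff.2 hev
  have hvC : v ∈ C := Subgroup.mem_centralizer_singleton_iff.2 rfl
  have heD : e ∈ D := ⟨heC, heM⟩
  have hvD : v ∈ D := ⟨hvC, hvM⟩
  have hwC : w ∈ C := Subgroup.mem_centralizer_singleton_iff.2 (by rw [hw, hv, ← map_mul, ← map_mul, hvw])
  have htC : t ∈ C := Subgroup.mem_centralizer_singleton_iff.2 (by rw [ht, hv, ← map_mul, ← map_mul, htv])
  -- elements of `D` commuting with `e`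
  have hDe : ∀ g ∈ D, g * e = e * g → ∃ c : Fin 3, g = φ (elW (0, 0, c, 0, 0, 0)) ∨
      g = φ (elW (0, 0, c, 1, 0, 0)) := by
    intro g hg hge
    obtain ⟨c, s, i, hs, rfl⟩ := h.cent_e3_v hge (Subgroup.mem_centralizer_singleton_iff.1 hg.1)
    rcases small_parity c s i hs with rfl | hpar
    · rcases hs with rfl | rfl
      · exact ⟨c, Or.inl rfl⟩
      · exact ⟨c, Or.inr rfl⟩
    · exfalso
      have hx : φ (elW (0, 0, c, s, 0, 0)) * t = φ (elW (0, 0, c, s, i, 0)) := by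
        rw [ht, ← map_mul]
        exact congrArg φ (Subtype.ext (by
          show el (0, 0, c, s, 0, 0) * (Ta : P9) = el (0, 0, c, s, i, 0)
          rw [val_Ta, hpar]))
      have hin : φ (elW (0, 0, c, s, 0, 0)) ∈ M := by
        rcases hs with rfl | rfl
        · rw [show elW (0, 0, c, 0, 0, 0) = E3 ^ (c : ℕ) from (small_elW c).1, map_pow]
          exact pow_mem heM _
        · rw [show elW (0, 0, c, 1, 0, 0) = E3 ^ (c : ℕ) * Vs from (small_elW c).2, map_mul, map_pow]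
          exact mul_mem (pow_mem heM _) hvM
      apply htM
      have := mul_mem (inv_mem hin) (hx.symm ▸ hg.2)
      rwa [inv_mul_cancel_left] at this
  have hsmall : ∀ c : Fin 3, φ (elW (0, 0, c, 0, 0, 0)) = e ^ (c : ℕ) ∧
      φ (elW (0, 0, c, 1, 0, 0)) = e ^ (c : ℕ) * v := by
    intro c
    rw [he, hv, ← map_pow, ← map_mul]
    exact ⟨congrArg φ ((small_elW c).1), congrArg φ ((small_elW c).2)⟩
  -- the quotient `X = D / ⟨v⟩`
  set Z := (Subgroup.zpowers v).subgroupOf D with hZ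
  have : Z.Normal := ⟨fun z hz g => by
    obtain ⟨i, hi⟩ := Subgroup.mem_zpowers_iff.1 hz
    show ((g * z * g⁻¹ : D) : G) ∈ Subgroup.zpowers v
    have hgv : (g : G) * v = v * (g : G) := Subgroup.mem_centralizer_singleton_iff.1 g.2.1
    rw [Subgroup.coe_mul, Subgroup.coe_mul, ← (show v ^ i = (z : G) from hi), Subgroup.coe_inv,
      (Commute.zpow_right hgv i).eq, mul_inv_cancel_right]
    exact ⟨i, rfl⟩⟩
  let π : D →* D ⧸ Z := QuotientGroup.mk' Z
  have hzv : ∀ x : G, x ∈ Subgroup.zpowers v ↔ x = 1 ∨ x = v := by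
    intro x
    refine ⟨fun hx => ?_, ?_⟩
    · obtain ⟨i, rfl⟩ := Subgroup.mem_zpowers_iff.1 hx
      rcases Int.even_or_odd i with ⟨k, rfl⟩ | ⟨k, rfl⟩
      · left; rw [zpow_add, ← (Commute.refl v).mul_zpow, hv2, one_zpow]
      · right; rw [zpow_add_one, zpow_mul, zpow_two, hv2, one_zpow, one_mul]
    · rintro (rfl | rfl)
      · exact one_mem _
      · exact Subgroup.mem_zpowers v
  have hker : ∀ c : D, π c = 1 ↔ (c : G) = 1 ∨ (c : G) = v := fun c => by
    rw [show π c = (c : D ⧸ Z) from rfl, QuotientGroup.eq_one_iff]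
    exact hzv c
  set ē := π ⟨e, heD⟩ with hē
  have hvcomm : ∀ g ∈ C, g * v = v * g := fun g hg => Subgroup.mem_centralizer_singleton_iff.1 hg
  -- lifting a commutation with `e`
  have hlift : ∀ g : D, π g * ē = ē * π g → (g : G) * e = e * g := by
    intro g hg
    have h1 : π (g * ⟨e, heD⟩ * g⁻¹ * (⟨e, heD⟩ : D)⁻¹) = 1 := by
      rw [map_mul, map_mul, map_mul, map_inv, map_inv, ← hē, hg, mul_inv_cancel_right, mul_inv_cancel]
    rcases (hker _).1 h1 with e' | e'
    · exact mul_inv_eq_iff_eq_mul.1 (mul_inv_eq_one.1 e')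
    · exfalso
      have hc : (g : G) * e * (g : G)⁻¹ = v * e := by
        rw [← mul_inv_eq_iff_eq_mul]
        exact e'
      have h3 : ((g : G) * e * (g : G)⁻¹) ^ 3 = 1 := by rw [conj_pow, he3', mul_one, mul_inv_cancel]
      rw [hc, (show Commute v e from hev.symm).mul_pow, he3', mul_one, pow_succ, pow_two, hv2, one_mul] at h3
      exact hv1 h3
  have hē1 : ē ≠ 1 := by
    intro h1
    rcases (hker _).1 h1 with e' | e'
    · exact he1 e'
    · exact hv1 (by
        have h3 := he3'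
        rw [show e = v from e', pow_succ, pow_two, hv2, one_mul] at h3
        exact h3)
  have hē3 : ē ^ 3 = 1 := by
    rw [hē, ← map_pow, (Subtype.ext he3' : (⟨e, heD⟩ : D) ^ 3 = 1), map_one]
  have hX3 : Nat.card (Subgroup.zpowers ē) = 3 := by
    rw [Nat.card_zpowers]; exact orderOf_eq_prime hē3 hē1
  have hXC : Subgroup.centralizer ((Subgroup.zpowers ē : Subgroup (D ⧸ Z)) : Set (D ⧸ Z)) =
      Subgroup.zpowers ē := by
    refine le_antisymm (fun x hx => ?_) (fun x hx => ?_)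
    · obtain ⟨g, rfl⟩ := QuotientGroup.mk'_surjective Z x
      have hge := hlift g (Subgroup.mem_centralizer_iff.1 hx ē (Subgroup.mem_zpowers ē)).symm
      obtain ⟨c, hc | hc⟩ := hDe g g.2 hge
      · rw [(hsmall c).1] at hc
        rw [(Subtype.ext hc : g = ⟨e, heD⟩ ^ (c : ℕ)), map_pow]
        exact pow_mem (Subgroup.mem_zpowers ē) _
      · rw [(hsmall c).2] at hc
        rw [(Subtype.ext hc : g = ⟨e, heD⟩ ^ (c : ℕ) * ⟨v, hvD⟩), map_mul, map_pow,
          (hker ⟨v, hvD⟩).2 (Or.inr rfl), mul_one]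
        exact pow_mem (Subgroup.mem_zpowers ē) _
    · rw [Subgroup.mem_centralizer_iff]
      intro z hz
      obtain ⟨i, rfl⟩ := Subgroup.mem_zpowers_iff.1 hx
      obtain ⟨k, rfl⟩ := Subgroup.mem_zpowers_iff.1 hz
      rw [← zpow_add, ← zpow_add, add_comm]
  -- no odd element acts on a `2`-subgroup of `X`
  have htriv : ∀ (F : Subgroup (D ⧸ Z)), IsPGroup 2 F → ∀ y : D, Odd (orderOf (y : G)) →
      (∀ f ∈ F, π y * f * (π y)⁻¹ ∈ F) → ∀ f ∈ F, π y * f = f * π y := by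
    intro F hF y hy hn
    set F' := (F.comap π).map D.subtype with hF'
    have hF'2 : IsPGroup 2 F' := by
      refine IsPGroup.map ?_ D.subtype
      refine hF.comap_of_ker_isPGroup π ?_
      rintro ⟨z, hz⟩
      refine ⟨1, Subtype.ext (Subtype.ext ?_)⟩
      rw [pow_one]
      show (z : G) ^ 2 = 1
      rcases (hker z).1 hz with e' | e' <;> rw [e']
      · simp
      · rw [pow_two, hv2]
    have hF'v : F' ≤ C := by
      rintro _ ⟨z, -, rfl⟩; exact z.2.1
    have hconj : ∀ f ∈ F', (y : G) * f * (y : G)⁻¹ ∈ F' := by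
      rintro _ ⟨z, hz, rfl⟩
      refine ⟨y * z * y⁻¹, ?_, rfl⟩
      show π (y * z * y⁻¹) ∈ F
      rw [map_mul, map_mul, map_inv]
      exact hn _ hz
    intro f hf
    obtain ⟨z, rfl⟩ := QuotientGroup.mk'_surjective Z f
    have := odd_centralizes T hT hv2 hTv F' hF'2 hF'v (hvcomm _ y.2.1) hy hconj (z : G) ⟨z, hf, rfl⟩
    rw [show QuotientGroup.mk' Z z = π z from rfl, ← map_mul, ← map_mul]
    exact congrArg π (Subtype.ext this)
  have hno : ¬ A4Witness (D ⧸ Z) := by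
    rintro ⟨a₁, y₁, ha, hy3, hcomm, hrel, hne⟩
    obtain ⟨y, rfl⟩ := QuotientGroup.mk'_surjective Z y₁
    have hy' : π (y ^ 4) = π y := by rw [map_pow, pow_succ, pow_succ, pow_two, hy3, one_mul]
    have hodd : Odd (orderOf ((y ^ 4 : D) : G)) := by
      have h6 : ((y : G) ^ 3) ^ 2 = 1 := by
        have : π (y ^ 3) = 1 := by rw [map_pow, pow_succ, pow_two]; exact hy3
        rcases (hker _).1 this with e' | e' <;> rw [SubmonoidClass.coe_pow] at e' <;> rw [e']
        · simp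
        · rw [pow_two, hv2]
      have h3 : orderOf ((y ^ 4 : D) : G) ∣ 3 := by
        apply orderOf_dvd_of_pow_eq_one
        rw [SubmonoidClass.coe_pow, ← pow_mul, show 4 * 3 = 6 * 2 by norm_num, pow_mul,
          show (6 : ℕ) = 3 * 2 by norm_num, pow_mul, h6, one_pow]
      rcases (Nat.dvd_prime Nat.prime_three).1 h3 with h3 | h3 <;> rw [h3] <;> decide
    set b₁ := π y * a₁ * (π y)⁻¹ with hb₁
    have hb : b₁ * b₁ = 1 := by
      rw [hb₁, show π y * a₁ * (π y)⁻¹ * (π y * a₁ * (π y)⁻¹) = π y * (a₁ * a₁) * (π y)⁻¹ by group, ha,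
        mul_one, mul_inv_cancel]
    let F : Subgroup (D ⧸ Z) :=
      { carrier := {1, a₁, b₁, a₁ * b₁}
        one_mem' := by simp
        mul_mem' := by
          have e1 : ∀ x, a₁ * (a₁ * x) = x := fun x => by rw [← mul_assoc, ha, one_mul]
          have e2 : ∀ x, b₁ * (b₁ * x) = x := fun x => by rw [← mul_assoc, hb, one_mul]
          have e3 : ∀ x, b₁ * (a₁ * x) = a₁ * (b₁ * x) := fun x => by
            rw [← mul_assoc, ← hcomm.eq, mul_assoc]
          rintro p q (rfl | rfl | rfl | rfl) (rfl | rfl | rfl | rfl) <;>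
            simp [mul_assoc, e1, e3, ha, hb, hcomm.eq.symm]
        inv_mem' := by
          rintro p (rfl | rfl | rfl | rfl)
          · simp
          · simp [inv_eq_of_mul_eq_one_right ha]
          · simp [inv_eq_of_mul_eq_one_right hb]
          · simp [inv_eq_of_mul_eq_one_right ha, inv_eq_of_mul_eq_one_right hb, hcomm.eq.symm] }
    have hmem : ∀ x, x ∈ F ↔ x = 1 ∨ x = a₁ ∨ x = b₁ ∨ x = a₁ * b₁ := fun x => Iff.rfl
    have hF2 : IsPGroup 2 F := by
      rintro ⟨x, hx⟩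
      refine ⟨1, Subtype.ext ?_⟩
      show x ^ (2 ^ 1) = 1
      rw [pow_one, pow_two]
      rcases (hmem x).1 hx with rfl | rfl | rfl | rfl
      · simp
      · exact ha
      · exact hb
      · calc a₁ * b₁ * (a₁ * b₁) = a₁ * (b₁ * a₁) * b₁ := by group
          _ = a₁ * (a₁ * b₁) * b₁ := by rw [hcomm.eq]
          _ = (a₁ * a₁) * (b₁ * b₁) := by group
          _ = 1 := by rw [ha, hb, one_mul]
    refine hne ?_
    have := htriv F hF2 (y ^ 4) hodd (fun f hf => ?_) a₁ ((hmem _).2 (Or.inr (Or.inl rfl)))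
    · rwa [hy'] at this
    rw [hy', hmem]
    rcases (hmem f).1 hf with rfl | rfl | rfl | rfl
    · simp
    · exact Or.inr (Or.inr (Or.inl rfl))
    · exact Or.inr (Or.inr (Or.inr hrel))
    · refine Or.inr (Or.inl ?_)
      rw [show π y * (a₁ * b₁) * (π y)⁻¹ = b₁ * (π y * b₁ * (π y)⁻¹) by rw [hb₁]; group,
        show π y * b₁ * (π y)⁻¹ = a₁ * b₁ from hrel, ← mul_assoc, ← hcomm.eq, mul_assoc, hb, mul_one]
  -- `ē` centralises a normal `2`-subgroup, which is then trivial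
  have hnor2 : ∀ F : Subgroup (D ⧸ Z), IsPGroup 2 F → F.Normal → F = ⊥ := by
    intro F hF hFn
    rw [Subgroup.eq_bot_iff_forall]
    intro f hf
    have h1 : f ∈ Subgroup.zpowers ē := by
      rw [← hXC, Subgroup.mem_centralizer_iff]
      intro z hz
      have heodd : Odd (orderOf (((⟨e, heD⟩ : D) : D) : G)) := by
        rw [orderOf_eq_prime he3' he1]; decide
      have hc := htriv F hF ⟨e, heD⟩ heodd (fun g hg => hFn.conj_mem g hg _) f hf
      obtain ⟨k, rfl⟩ := Subgroup.mem_zpowers_iff.1 hz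
      exact (Commute.zpow_left hc k).eq
    have h3 : orderOf f ∣ 3 := by
      rw [← hX3]; exact Subgroup.orderOf_dvd_natCard _ h1
    obtain ⟨k, hk⟩ := hF ⟨f, hf⟩
    have h2 : orderOf f ∣ 2 ^ k := orderOf_dvd_of_pow_eq_one (congrArg Subtype.val hk)
    exact orderOf_eq_one_iff.1 (Nat.eq_one_of_dvd_coprimes ((by norm_num : Nat.Coprime 3 2).pow_right k) h3 h2)
  obtain ⟨N, hN, hN3, hNodd, hquot⟩ : ∃ N : Subgroup (D ⧸ Z), ∃ _ : N.Normal, (Nat.card N).Coprime 3 ∧
      Odd (Nat.card N) ∧ N.index = 6 := by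
    rcases S3331.result (Subgroup.zpowers ē) hX3 hXC with ⟨N, hN, hnil, hcop, hq⟩ | ⟨E, hEn, -, hE2, ⟨iso⟩⟩ | ⟨⟨iso⟩⟩
    · refine ⟨N, hN, hcop, ?_, ?_⟩
      · rw [← Nat.not_even_iff_odd, even_iff_two_dvd]
        intro h2
        haveI := hnil
        obtain ⟨S⟩ : Nonempty (Sylow 2 N) := inferInstance
        haveI hSn : (S : Subgroup N).Normal := S.normal_of_normalizerCondition Group.normalizerCondition_of_isNilpotent
        haveI : (S : Subgroup N).Characteristic := S.characteristic_of_normal hSn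
        have hbot := hnor2 ((S : Subgroup N).map N.subtype) (S.2.map _) inferInstance
        rw [Subgroup.map_eq_bot_iff_of_injective _ N.subtype_injective] at hbot
        exact S.ne_bot_of_dvd_card h2 hbot
      · rcases hq with hq | ⟨⟨iso⟩⟩
        · exfalso
          have hwD : w ∈ D := ⟨hwC, hwM⟩
          have habel : ∀ x y : (D ⧸ Z) ⧸ N, x * y = y * x := fun x y => by
            haveI : IsCyclic ((D ⧸ Z) ⧸ N) := isCyclic_of_prime_card hq
            obtain ⟨g, hg⟩ := IsCyclic.exists_generator (α := (D ⧸ Z) ⧸ N)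
            obtain ⟨i, rfl⟩ := Subgroup.mem_zpowers_iff.1 (hg x)
            obtain ⟨k, rfl⟩ := Subgroup.mem_zpowers_iff.1 (hg y)
            rw [← zpow_add, ← zpow_add, add_comm]
          have hinv : π ⟨w, hwD⟩ * ē * (π ⟨w, hwD⟩)⁻¹ = ē⁻¹ := by
            rw [hē, ← map_inv, ← map_mul, ← map_mul, ← map_inv]
            refine congrArg π (Subtype.ext ?_)
            show w * e * w⁻¹ = e⁻¹
            rw [inv_eq_of_mul_eq_one_right hw2, hw, he, ← map_mul, ← map_mul, hwe, map_inv]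
          have h1 : (QuotientGroup.mk' N) ē = (QuotientGroup.mk' N) ē⁻¹ := by
            rw [← hinv, map_mul, map_mul, map_inv, habel (QuotientGroup.mk' N (π ⟨w, hwD⟩)),
              mul_inv_cancel_right]
          have h2 : ē * ē ∈ N := by
            have := QuotientGroup.eq.1 h1.symm
            simpa using this
          have h3 : ē ∈ N := by
            have := mul_mem h2 h2
            rwa [show ē * ē * (ē * ē) = ē ^ 3 * ē by rw [pow_succ, pow_two]; simp only [mul_assoc], hē3, one_mul] at this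
          have h4 : 3 ∣ Nat.card N := by
            rw [← orderOf_eq_prime hē3 hē1]
            exact Subgroup.orderOf_dvd_natCard _ h3
          exact (Nat.prime_three.coprime_iff_not_dvd.1 hcop.symm) h4
        · rw [Subgroup.index, Nat.card_congr iso.toEquiv, Nat.card_eq_fintype_card, Fintype.card_perm,
            Fintype.card_fin]
          rfl
    · exfalso
      have hEbot : E = ⊥ := hnor2 E (fun x => ⟨1, Subtype.ext (by simpa using hE2 x x.2)⟩) hEn
      subst hEbot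
      exact hno (A4Witness.of_equiv (QuotientGroup.quotientBot.symm.trans iso) alt5_witness)
    · exact (hno (A4Witness.of_equiv iso psl7_witness)).elim
  -- the odd complement
  set n := Nat.card N with hn
  set H := N.comap π with hH
  have hHmem : ∀ x : D, x ∈ H ↔ π x ∈ N := fun x => Iff.rfl
  have hHn : H.Normal := Subgroup.Normal.comap hN π
  have hvH : (⟨v, hvD⟩ : D) ∈ H := by
    rw [hHmem, (hker ⟨v, hvD⟩).2 (Or.inr rfl)]
    exact one_mem _
  set Z' := Z.subgroupOf H with hZ'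
  have hZH : Z ≤ H := fun z hz => by
    rw [hHmem, (show π z = 1 from (QuotientGroup.eq_one_iff z).2 hz)]; exact one_mem _
  have hcardZ : Nat.card Z = 2 := by
    rw [hZ, Nat.card_congr (Subgroup.subgroupOfEquivOfLe (Subgroup.zpowers_le.2 hvD)).toEquiv,
      Nat.card_zpowers]
    exact orderOf_eq_prime (by rw [pow_two, hv2]) hv1
  have hcardD : Nat.card D = 2 * (6 * n) := by
    rw [Subgroup.card_eq_card_quotient_mul_card_subgroup Z, hcardZ, ← N.card_mul_index, hquot, hn]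
    ring
  have hidxH : H.index = 6 := by
    rw [hH, Subgroup.index_comap_of_surjective _ (QuotientGroup.mk'_surjective Z), hquot]
  have hcardH : Nat.card H = 2 * n := by
    have := H.card_mul_index
    rw [hidxH, hcardD] at this
    omega
  have hcardZ' : Nat.card Z' = 2 := by
    rw [hZ', Nat.card_congr (Subgroup.subgroupOfEquivOfLe hZH).toEquiv, hcardZ]
  have hidxZ' : Z'.index = n := by
    have := Z'.card_mul_index
    rw [hcardZ', hcardH] at this
    omega
  haveI : Z'.Normal := Subgroup.Normal.subgroupOf inferInstance H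
  obtain ⟨O', hO'⟩ := Subgroup.exists_right_complement'_of_coprime (N := Z')
    (by rw [hcardZ', hidxZ']; exact (Nat.coprime_two_left.2 hNodd))
  have hcardO' : Nat.card O' = n := by
    have := hO'.card_mul_card
    rw [hcardZ', hcardH] at this
    omega
  set O := (O'.map H.subtype).map D.subtype with hO
  have hcardO : Nat.card O = n := by
    rw [hO, Subgroup.card_map_of_injective D.subtype_injective,
      Subgroup.card_map_of_injective H.subtype_injective, hcardO']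
  have hOD : O ≤ D := by rintro _ ⟨x, -, rfl⟩; exact x.2
  have hOn : ∀ o ∈ O, o ^ n = 1 := by
    intro o ho
    rw [← hcardO]
    exact congrArg Subtype.val (pow_card_eq_one' (x := (⟨o, ho⟩ : O)))
  have hn6 : Nat.Coprime n 24 := by
    rw [show (24 : ℕ) = 3 * 2 ^ 3 by norm_num]
    exact Nat.Coprime.mul_right hN3 (Nat.Coprime.pow_right 3 (Nat.coprime_two_right.2 hNodd))
  have hcop : ∀ o ∈ O, o ^ 24 = 1 → o = 1 := fun o ho h24 =>
    orderOf_eq_one_iff.1 (Nat.eq_one_of_dvd_coprimes hn6 (orderOf_dvd_of_pow_eq_one (hOn o ho))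
      (orderOf_dvd_of_pow_eq_one h24))
  -- `O` is the set of odd elements of the preimage
  have hOmem : ∀ x : D, x ∈ H → (x : G) ^ n = 1 → (x : G) ∈ O := by
    intro x hx hxn
    obtain ⟨⟨⟨z, hz⟩, ⟨o, ho⟩⟩, hzo⟩ := hO'.2 ⟨x, hx⟩
    have hzo' : ((z : D) : G) * ((o : D) : G) = (x : G) := congrArg (fun y : H => ((y : D) : G)) hzo
    have hoO : ((o : D) : G) ∈ O := ⟨(o : D), ⟨o, ho, rfl⟩, rfl⟩
    rcases (hzv _).1 (show ((z : D) : G) ∈ Subgroup.zpowers v from hz) with e' | e'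
    · rw [e', one_mul] at hzo'
      rw [← hzo']; exact hoO
    · exfalso
      rw [e'] at hzo'
      have hco : Commute v ((o : D) : G) := (hvcomm _ (o : D).2.1).symm
      rw [← hzo', hco.mul_pow, hOn _ hoO, mul_one] at hxn
      obtain ⟨k, hk⟩ := hNodd
      rw [hk, pow_succ, pow_mul, pow_two, hv2, one_pow, one_mul] at hxn
      exact hv1 hxn
  have hOH : ∀ o ∈ O, ∃ x : D, x ∈ H ∧ (x : G) = o := by
    rintro _ ⟨x, ⟨y, -, rfl⟩, rfl⟩; exact ⟨y, y.2, rfl⟩
  -- elements of `C` normalise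
  have hCdec : ∀ g ∈ C, g ∈ D ∨ g * t ∈ D := by
    intro g hg
    by_cases hgM : g ∈ M
    · exact Or.inl ⟨hg, hgM⟩
    · exact Or.inr ⟨mul_mem hg htC, (Subgroup.mul_mem_iff_of_index_two hMi).2 (iff_of_false hgM htM)⟩
  have hnormD : ∀ g ∈ D, ∀ o ∈ O, g * o * g⁻¹ ∈ O := by
    intro g hg o ho
    obtain ⟨x, hx, rfl⟩ := hOH o ho
    exact hOmem (⟨g, hg⟩ * x * ⟨g, hg⟩⁻¹) (hHn.conj_mem x hx _)
      (by show (g * (x : G) * g⁻¹) ^ n = 1; rw [conj_pow, hOn _ ho, mul_one, mul_inv_cancel])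
  -- `Ta` normalises `O`: the odd part is characteristic
  have hnormt : ∀ o ∈ O, t * o * t⁻¹ ∈ O := by
    intro o ho
    obtain ⟨x, hx, rfl⟩ := hOH o ho
    have hxn : (t * (x : G) * t⁻¹) ^ n = 1 := by rw [conj_pow, hOn _ ho, mul_one, mul_inv_cancel]
    have hxD : t * (x : G) * t⁻¹ ∈ D :=
      ⟨C.mul_mem (C.mul_mem htC x.2.1) (C.inv_mem htC), hMn.conj_mem _ x.2.2 t⟩
    refine hOmem ⟨_, hxD⟩ ?_ hxn
    -- an element of order prime to six lies in the preimage of `N`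
    rw [hHmem]
    have h1 : (QuotientGroup.mk' N) (π ⟨_, hxD⟩) ^ n = 1 := by
      rw [← map_pow, ← map_pow, (Subtype.ext hxn : (⟨_, hxD⟩ : D) ^ n = 1), map_one, map_one]
    have h2 : (QuotientGroup.mk' N) (π ⟨_, hxD⟩) ^ 6 = 1 := by
      have : Nat.card ((D ⧸ Z) ⧸ N) = 6 := hquot
      rw [← this]
      exact pow_card_eq_one'
    have h6 : Nat.Coprime n 6 := Nat.Coprime.coprime_dvd_right (by norm_num) hn6
    exact (QuotientGroup.eq_one_iff _).1 (orderOf_eq_one_iff.1 (Nat.eq_one_of_dvd_coprimes h6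
      (orderOf_dvd_of_pow_eq_one h1) (orderOf_dvd_of_pow_eq_one h2)))
  have hti : t⁻¹ = t := inv_eq_of_mul_eq_one_right ht2
  have htfix : ∀ o ∈ O, o * t = t * o → o = 1 := by
    intro o ho hot
    obtain ⟨⟨a', b', c', s', i', r'⟩, rfl⟩ := h.map_elW (h.cent_t (Subgroup.mem_centralizer_singleton_iff.2 hot))
    have e1 := (h.mul_iff _ _).1 hot
    have e2 := (h.mul_iff _ _).1 (hvcomm _ (hOD ho).1)
    rw [val_Ta] at e1
    rw [val_Vs] at e2
    obtain ⟨ha, hb, hs, hr⟩ := cent_tau_v _ e1 e2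
    simp only at ha hb hs hr
    subst ha hb hr
    refine hcop _ ho ?_
    rw [← map_pow, show (elW (0, 0, c', s', i', 0)) ^ 24 = 1 from Subtype.ext (by
      show el (0, 0, c', s', i', 0) ^ 24 = 1
      rw [show 24 = 6 * 4 by norm_num, pow_mul, tau_v_small c' s' i' hs, one_pow]), map_one]
  have hinvO : ∀ o ∈ O, t * o * t = o⁻¹ := by
    let f : O → O := fun o => ⟨(o : G)⁻¹ * (t * o * t⁻¹), mul_mem (inv_mem o.2) (hnormt o o.2)⟩
    have hf : Function.Injective f := by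
      intro a b hab
      have h1 : (a : G)⁻¹ * (t * a * t⁻¹) = (b : G)⁻¹ * (t * b * t⁻¹) := congrArg Subtype.val hab
      rw [hti] at h1
      have h1' : (a : G)⁻¹ * t * a = (b : G)⁻¹ * t * b := mul_right_cancel (b := t) (by
        simpa only [mul_assoc] using h1)
      have h2 : (b : G) * (a : G)⁻¹ * t = t * ((b : G) * (a : G)⁻¹) :=
        calc (b : G) * (a : G)⁻¹ * t = (b : G) * ((a : G)⁻¹ * t * a) * (a : G)⁻¹ := by group
          _ = (b : G) * ((b : G)⁻¹ * t * b) * (a : G)⁻¹ := by rw [h1']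
          _ = _ := by group
      have := htfix _ (mul_mem b.2 (inv_mem a.2)) h2
      exact Subtype.ext (mul_inv_eq_one.1 this).symm
    intro o ho
    obtain ⟨a, ha⟩ := Finite.surjective_of_injective hf ⟨o, ho⟩
    have ha' : (a : G)⁻¹ * (t * a * t⁻¹) = o := congrArg Subtype.val ha
    rw [← ha', hti, mul_inv_rev, inv_inv, mul_inv_rev, mul_inv_rev, hti]
    simp only [mul_assoc]
    rw [ht2, mul_one]
  have hfpf : ∀ o ∈ O, o * e = e * o → o = 1 := by
    intro o ho hoe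
    obtain ⟨c, s, i, hs, rfl⟩ := h.cent_e3_v hoe (hvcomm _ (hOD ho).1)
    refine hcop _ ho ?_
    rw [← map_pow, show (elW (0, 0, c, s, i, 0)) ^ 24 = 1 from Subtype.ext (by
      show el (0, 0, c, s, i, 0) ^ 24 = 1
      rw [show 24 = 6 * 4 by norm_num, pow_mul, tau_v_small c s i hs, one_pow]), map_one]
  have hnorm : ∀ g ∈ C, ∀ o ∈ O, g * o * g⁻¹ ∈ O := by
    intro g hg o ho
    rcases hCdec g hg with hgD | hgD
    · exact hnormD g hgD o ho
    · have := hnormD _ hgD _ (hnormt o ho)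
      rwa [show g * t * (t * o * t⁻¹) * (g * t)⁻¹ = g * (t * t) * o * (t * t)⁻¹ * g⁻¹ by group, ht2, inv_one,
        mul_one, mul_one] at this
  -- `C = O · cvImg`
  have hinj : Function.Injective (fun p : O × cvImg φ => (⟨(p.1 : G) * p.2,
      mul_mem (hOD p.1.2).1 (hcvC p.2.2)⟩ : C)) := by
    rintro ⟨o, y⟩ ⟨o', y'⟩ hp
    have h1 : (o : G) * y = (o' : G) * y' := congrArg Subtype.val hp
    have h2 : (o' : G)⁻¹ * o = (y' : G) * (y : G)⁻¹ := by
      rw [eq_mul_inv_iff_mul_eq, mul_assoc, h1, inv_mul_cancel_left]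
    have h3 : (o' : G)⁻¹ * o = 1 := by
      refine hcop _ (mul_mem (inv_mem o'.2) o.2) ?_
      rw [h2, ← h.card_cvImg]
      exact congrArg Subtype.val (pow_card_eq_one' (x := y' * y⁻¹))
    refine Prod.ext (Subtype.ext (inv_mul_eq_one.1 h3).symm) (Subtype.ext ?_)
    rw [h3] at h2
    exact (mul_inv_eq_one.1 h2.symm).symm
  have hcardC : Nat.card C = 2 * Nat.card D := by
    have hrel : D.relIndex C = 2 := by
      rw [hD, inf_comm, Subgroup.inf_relIndex_right]
      have hd : M.relIndex C ∣ 2 := by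
        rw [← hMi]; exact Subgroup.relIndex_dvd_index_of_normal _ _
      rcases (Nat.dvd_prime Nat.prime_two).1 hd with h1 | h2
      · exact absurd (Subgroup.relIndex_eq_one.1 h1 htC) htM
      · exact h2
    rw [← Subgroup.relIndex_bot_left, ← Subgroup.relIndex_mul_relIndex ⊥ D C bot_le inf_le_left, hrel,
      Subgroup.relIndex_bot_left, mul_comm]
  have hsurj : ∀ g ∈ C, ∃ o ∈ O, ∃ y ∈ cvImg φ, g = o * y := by
    have hbij : Function.Bijective (fun p : O × cvImg φ => (⟨(p.1 : G) * p.2,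
        mul_mem (hOD p.1.2).1 (hcvC p.2.2)⟩ : C)) :=
      (Nat.bijective_iff_injective_and_card _).2 ⟨hinj, by
        rw [Nat.card_prod, hcardO, h.card_cvImg, hcardC, hcardD]; ring⟩
    intro g hg
    obtain ⟨⟨o, y⟩, hoy⟩ := hbij.2 ⟨g, hg⟩
    exact ⟨o, o.2, y, y.2, (congrArg Subtype.val hoy).symm⟩
  -- `|O|` is a square
  set A := O ⊓ Subgroup.centralizer ({w} : Set G) with hA
  have hwi : w⁻¹ = w := inv_eq_of_mul_eq_one_right hw2
  have hcommO : ∀ x ∈ O, ∀ y ∈ O, x * y = y * x := by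
    intro x hx y hy
    have h1 := hinvO _ (mul_mem hx hy)
    rw [show t * (x * y) * t = (t * x * t) * (t * y * t) by
      simp only [mul_assoc]; rw [← mul_assoc t t, ht2, one_mul], hinvO x hx, hinvO y hy] at h1
    simpa [mul_inv_rev] using (congrArg (·⁻¹) h1).symm
  have hecon : w * e * w⁻¹ = e⁻¹ := by rw [hwi, hw, he, ← map_mul, ← map_mul, hwe, map_inv]
  have hsq : Nat.card O = Nat.card A * Nat.card A := by
    rw [← Nat.card_prod]
    refine (Nat.card_congr (Equiv.ofBijective (fun p : A × A => (⟨(p.1 : G) * (e * p.2 * e⁻¹),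
      mul_mem p.1.2.1 (hnorm e heC _ p.2.2.1)⟩ : O)) ⟨?_, ?_⟩)).symm
    · rintro ⟨a₁, b₁⟩ ⟨a₂, b₂⟩ hp
      have h1 : (a₁ : G) * (e * b₁ * e⁻¹) = (a₂ : G) * (e * b₂ * e⁻¹) := congrArg Subtype.val hp
      have hb : e * ((b₁ : G) * (b₂ : G)⁻¹) * e⁻¹ ∈ A := by
        rw [show e * ((b₁ : G) * (b₂ : G)⁻¹) * e⁻¹ = e * b₁ * e⁻¹ * (e * b₂ * e⁻¹)⁻¹ by group,
          show e * (b₁ : G) * e⁻¹ = (a₁ : G)⁻¹ * a₂ * (e * b₂ * e⁻¹) by rw [mul_assoc (a₁ : G)⁻¹, ← h1, inv_mul_cancel_left],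
          mul_inv_cancel_right]
        exact mul_mem (inv_mem a₁.2) a₂.2
      have hfix : ∀ z ∈ A, w * z * w⁻¹ = z := fun z hz => by
        rw [← Subgroup.mem_centralizer_singleton_iff.1 hz.2, mul_inv_cancel_right]
      set b := (b₁ : G) * (b₂ : G)⁻¹ with hbdef
      have hbA : b ∈ A := mul_mem b₁.2 (inv_mem b₂.2)
      have h2 : e⁻¹ * b * e = e * b * e⁻¹ := by
        have := hfix _ hb
        rw [show w * (e * b * e⁻¹) * w⁻¹ = (w * e * w⁻¹) * (w * b * w⁻¹) * (w * e * w⁻¹)⁻¹ by group,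
          hecon, hfix b hbA, inv_inv] at this
        exact this
      have h2e : b * e = e * b := by
        have e3' : e⁻¹ = e * e := inv_eq_of_mul_eq_one_right (by rw [← mul_assoc, ← pow_two, ← pow_succ, he3'])
        have h4 : e * e * b = b * (e * e) := by
          calc e * e * b = e * (e * b * e⁻¹) * e := by group
            _ = e * (e⁻¹ * b * e) * e := by rw [h2]
            _ = _ := by group
        rw [← e3'] at h4
        exact (Commute.inv_left_iff.1 (h4 : Commute e⁻¹ b)).eq.symm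
      have hb1 := hfpf b hbA.1 h2e
      have hbb : b₁ = b₂ := Subtype.ext (mul_inv_eq_one.1 hb1)
      subst hbb
      exact Prod.ext (Subtype.ext (mul_right_cancel h1)) rfl
    · rintro ⟨z, hz⟩
      let g : O → O := fun x => ⟨(e * x * e⁻¹) * (e⁻¹ * x * e)⁻¹,
        mul_mem (hnorm e heC x x.2) (inv_mem (by simpa using hnorm e⁻¹ (inv_mem heC) x x.2))⟩
      have hem : ∀ x ∈ O, e⁻¹ * x * e ∈ O := fun x hx => by simpa using hnorm e⁻¹ (inv_mem heC) x hx
      have hg : Function.Injective g := by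
        intro x y hxy
        have h1 : e * x * e⁻¹ * (e⁻¹ * x * e)⁻¹ = e * y * e⁻¹ * (e⁻¹ * y * e)⁻¹ := congrArg Subtype.val hxy
        set u := (y : G)⁻¹ * x with hu
        have huO : u ∈ O := mul_mem (inv_mem y.2) x.2
        have h2 : e * u * e⁻¹ = e⁻¹ * u * e := by
          have c1 := hcommO _ (hnorm e heC _ y.2) _ (inv_mem (hem _ y.2))
          calc e * u * e⁻¹ = (e * y * e⁻¹)⁻¹ * (e * x * e⁻¹ * (e⁻¹ * x * e)⁻¹) * (e⁻¹ * x * e) := by
                rw [hu]; group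
            _ = (e * y * e⁻¹)⁻¹ * (e * y * e⁻¹ * (e⁻¹ * y * e)⁻¹) * (e⁻¹ * x * e) := by rw [h1]
            _ = _ := by rw [hu]; group
        have h3 : u * e = e * u := by
          have e3' : e⁻¹ = e * e := inv_eq_of_mul_eq_one_right (by rw [← mul_assoc, ← pow_two, ← pow_succ, he3'])
          have h4 : e * e * u = u * (e * e) := by
            calc e * e * u = e * (e * u * e⁻¹) * e := by group
              _ = e * (e⁻¹ * u * e) * e := by rw [h2]
              _ = _ := by group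
          rw [← e3'] at h4
          exact (Commute.inv_left_iff.1 (h4 : Commute e⁻¹ u)).eq.symm
        exact Subtype.ext (inv_mul_eq_one.1 (hfpf u huO h3)).symm
      have hwz : w * z * w⁻¹ ∈ O := hnorm w hwC z hz
      obtain ⟨b, hb⟩ := Finite.surjective_of_injective hg ⟨z * (w * z * w⁻¹)⁻¹, mul_mem hz (inv_mem hwz)⟩
      have hb' : e * b * e⁻¹ * (e⁻¹ * b * e)⁻¹ = z * (w * z * w⁻¹)⁻¹ := congrArg Subtype.val hb
      set b' := w * (b : G) * w⁻¹ with hb'def
      have hb'O : b' ∈ O := hnorm w hwC b b.2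
      have hflip : ∀ x ∈ O, w * (e * x * e⁻¹) * w⁻¹ = e⁻¹ * (w * x * w⁻¹) * e := fun x _ => by
        rw [show w * (e * x * e⁻¹) * w⁻¹ = (w * e * w⁻¹) * (w * x * w⁻¹) * (w * e * w⁻¹)⁻¹ by group,
          hecon, inv_inv]
      have hflip' : ∀ x ∈ O, w * (e⁻¹ * x * e) * w⁻¹ = e * (w * x * w⁻¹) * e⁻¹ := fun x _ => by
        rw [show w * (e⁻¹ * x * e) * w⁻¹ = (w * e * w⁻¹)⁻¹ * (w * x * w⁻¹) * (w * e * w⁻¹) by group,
          hecon, inv_inv]
      have hww' : w * (w * z * w⁻¹) * w⁻¹ = z := by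
        rw [show w * (w * z * w⁻¹) * w⁻¹ = (w * w) * z * (w * w)⁻¹ by group, hw2]; group
      have hconj : e⁻¹ * b' * e * (e * b' * e⁻¹)⁻¹ = (w * z * w⁻¹) * z⁻¹ := by
        rw [hb'def, ← hflip b b.2, ← hflip' b b.2,
          show w * (e * b * e⁻¹) * w⁻¹ * (w * (e⁻¹ * b * e) * w⁻¹)⁻¹ =
            w * (e * b * e⁻¹ * (e⁻¹ * b * e)⁻¹) * w⁻¹ by group, hb',
          show w * (z * (w * z * w⁻¹)⁻¹) * w⁻¹ = (w * z * w⁻¹) * (w * (w * z * w⁻¹) * w⁻¹)⁻¹ by group, hww']
      have hgeq : g ⟨b', hb'O⟩ = g b := by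
        refine Subtype.ext ?_
        show e * b' * e⁻¹ * (e⁻¹ * b' * e)⁻¹ = e * b * e⁻¹ * (e⁻¹ * b * e)⁻¹
        rw [hb']
        simpa [mul_inv_rev, mul_assoc] using congrArg (·⁻¹) hconj
      have hbfix : w * (b : G) * w⁻¹ = b := congrArg Subtype.val (hg hgeq)
      have hbA : (b : G) ∈ A :=
        ⟨b.2, Subgroup.mem_centralizer_singleton_iff.2 (mul_inv_eq_iff_eq_mul.1 hbfix).symm⟩
      have haO : z * (e * b * e⁻¹)⁻¹ ∈ O := mul_mem hz (inv_mem (hnorm e heC _ b.2))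
      have haA : z * (e * b * e⁻¹)⁻¹ ∈ A := by
        refine ⟨haO, Subgroup.mem_centralizer_singleton_iff.2 (mul_inv_eq_iff_eq_mul.1 ?_).symm⟩
        rw [show w * (z * (e * b * e⁻¹)⁻¹) * w⁻¹ = (w * z * w⁻¹) * (w * (e * b * e⁻¹) * w⁻¹)⁻¹ by group,
          hflip b b.2, hbfix]
        have c2 := hcommO _ (inv_mem hwz) _ (hnorm e heC _ b.2)
        have h5 : e * b * e⁻¹ * (e⁻¹ * b * e)⁻¹ * (w * z * w⁻¹) = z := by rw [hb', inv_mul_cancel_right]
        have c3 := hcommO _ (inv_mem (hem _ b.2)) _ hwz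
        rw [mul_assoc, c3] at h5
        calc w * z * w⁻¹ * (e⁻¹ * b * e)⁻¹
            = (e * b * e⁻¹)⁻¹ * (e * b * e⁻¹ * (w * z * w⁻¹ * (e⁻¹ * b * e)⁻¹)) := by group
          _ = (e * b * e⁻¹)⁻¹ * z := by rw [h5]
          _ = _ := hcommO _ (inv_mem (hnorm e heC _ b.2)) _ hz
      refine ⟨(⟨_, haA⟩, ⟨b, hbA⟩), Subtype.ext ?_⟩
      show z * (e * (b : G) * e⁻¹)⁻¹ * (e * (b : G) * e⁻¹) = z
      rw [inv_mul_cancel_right]
  refine ⟨O, Nat.card A, ⟨fun o ho => (hOD ho).1, hcop, hinvO, hnorm, hfpf, hsurj, by rw [hsq, pow_two], rfl, ?_⟩,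
    fun o ho => (hOD ho).2⟩
  rw [hcardO] at hsq
  rw [hsq] at hNodd
  exact (Nat.odd_mul.1 hNodd).1

end Cfsg.Agent.S9Even37
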