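import Mathlib
import Cfsg.Agent.Lib.S9EvenCent37
import Cfsg.Agent.Lib.L34Syl83Klein

/-!
Pair counting in the even case: the order of the group.
-/

set_option autoImplicit false
set_option maxRecDepth 100000
set_option linter.unusedSectionVars false

namespace Cfsg.Agent.S9Even37

open Equiv S9Model37 L34Syl83Klein

universe u

theorem tau_list_aux : ∀ (a c : Fin 3) (s : Fin 4) (t : Fin 2), (s = 0 ∨ s = 1) →
    el (a, a, c, s, t, 0) * el (a, a, c, s, t, 0) = 1 →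
    el (a, a, c, s, t, 0) = 1 ∨ el (a, a, c, s, t, 0) = tau ∨ (c = 0 ∧ s = 1) := by
  decide +kernel

theorem tau_list : ∀ k : K4, el k * tau = tau * el k → el k * el k = 1 →
    el k = 1 ∨ el k = tau ∨
    (∃ a : Fin 3, k = (a, a, 0, 1, 0, 0)) ∨ (∃ a : Fin 3, k = (a, a, 0, 1, 1, 0)) := by
  intro k hk h2
  obtain ⟨hab, hs, hr⟩ := cent_tau k hk
  obtain ⟨a, b, c, s, t, r⟩ := k
  simp only at hab hs hr
  subst hab hr
  rcases tau_list_aux a c s t hs h2 with e | e | ⟨rfl, rfl⟩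
  · exact Or.inl e
  · exact Or.inr (Or.inl e)
  · rcases (show t = 0 ∨ t = 1 by omega) with rfl | rfl
    · exact Or.inr (Or.inr (Or.inl ⟨a, rfl⟩))
    · exact Or.inr (Or.inr (Or.inr ⟨a, rfl⟩))

theorem conj_v : ∀ a : Fin 3,
    elW (a, a, 0, 0, 0, 0) * elW (a, a, 0, 1, 0, 0) = Vs * elW (a, a, 0, 0, 0, 0) := by
  decide +kernel

theorem conj_t : ∀ a : Fin 3,
    elW (0, 0, 0, 2, 0, 0) * elW (a, a, 0, 0, 0, 0) * elW (a, a, 0, 1, 1, 0) =
      Ta * (elW (0, 0, 0, 2, 0, 0) * elW (a, a, 0, 0, 0, 0)) := by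
  decide +kernel

theorem tau_prod : ∀ a b : Fin 3,
    (elW (a, a, 0, 1, 1, 0) * elW (b, b, 0, 1, 0, 0)) ^ 3 = Ta ∧
    Ta * elW (b, b, 0, 1, 0, 0) ≠ Ta ∧
    (Ta * elW (b, b, 0, 1, 0, 0)) ^ 2 = 1 ∧
    elW (a, a, 0, 1, 1, 0) * Ta = Ta * elW (a, a, 0, 1, 1, 0) ∧
    elW (b, b, 0, 1, 0, 0) * Ta = Ta * elW (b, b, 0, 1, 0, 0) := by
  decide +kernel

theorem cv_invol_out : ∀ (c : Fin 3) (s : Fin 4), el (0, 0, c, s, 1, 0) * el (0, 0, c, s, 1, 0) = 1 →
    c = 0 ∧ (s = 0 ∨ s = 1) := by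
  decide +kernel

theorem cv_invol_in : ∀ (c : Fin 3) (s : Fin 4), el (0, 0, c, s, 0, 0) * el (0, 0, c, s, 0, 0) = 1 →
    (c = 0 ∧ (s = 0 ∨ s = 1)) ∨ s = 2 ∨ s = 3 := by
  decide +kernel

theorem cv_six : ∀ (c : Fin 3) (b : Bool),
    let y := elW (0, 0, c, if b then 3 else 2, 0, 0)
    (∀ (i : Bool), ((elW (0, 0, 0, if i then 1 else 0, 1, 0) * y) ^ 2 = Vs)) ∧
    ∃ (j : Fin 3) (i : Fin 2), elW (0, 0, j, 0, i, 0) * Vt = y * elW (0, 0, j, 0, i, 0) := by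
  decide +kernel

theorem cv_parity : ∀ (c : Fin 3) (s : Fin 4) (i : Fin 2),
    i = 0 ∨ elW (0, 0, c, s, i, 0) = elW (0, 0, c, s, 0, 0) * Ta := by
  decide +kernel

theorem cv_gens : ∀ (c : Fin 3) (s : Fin 4),
    elW (0, 0, c, s, 0, 0) = E3 ^ (c : ℕ) * (if s = 1 ∨ s = 3 then Vs else 1) *
      (if s = 2 ∨ s = 3 then Vt else 1) := by
  decide +kernel

theorem cv_small_el : elW (0, 0, 0, 0, 0, 0) = 1 ∧ elW (0, 0, 0, 1, 0, 0) = Vs ∧
    elW (0, 0, 0, 0, 1, 0) = Ta ∧ elW (0, 0, 0, 1, 1, 0) = Vs * Ta ∧ elW (0, 0, 0, 2, 0, 0) = Vt := by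
  decide +kernel

theorem pel_inj : ∀ i i' : Bool, elW (0, 0, 0, if i then 1 else 0, 1, 0) =
    elW (0, 0, 0, if i' then 1 else 0, 1, 0) → i = i' := by
  decide +kernel

theorem qel_inj : ∀ cb cb' : Fin 3 × Bool, elW (0, 0, cb.1, if cb.2 then 3 else 2, 0, 0) =
    elW (0, 0, cb'.1, if cb'.2 then 3 else 2, 0, 0) → cb = cb' := by
  decide +kernel

variable {G : Type u} [Group G] [Finite G] {J : Subgroup G} {φ : W4 →* G}

theorem orderOf_invol (h : Ev J φ) (u : W4) (hu : u * u = 1) (hne : (u : P9) ≠ 1) : orderOf (φ u) = 2 :=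
  orderOf_eq_prime (hp := ⟨Nat.prime_two⟩) (by rw [pow_two, ← map_mul, hu, map_one]) (h.ne_one hne)

theorem sq_of_conj {t p : G} (ht : t * t = 1) (hp : IsConj t p) : p * p = 1 := by
  obtain ⟨g, rfl⟩ := isConj_iff.1 hp
  rw [show g * t * g⁻¹ * (g * t * g⁻¹) = g * (t * t) * g⁻¹ by group, ht, mul_one, mul_inv_cancel]

theorem Ev.t_sq (_h : Ev J φ) : φ Ta * φ Ta = 1 := by rw [← map_mul, W4_identities.1, map_one]

theorem Ev.v_sq (_h : Ev J φ) : φ Vs * φ Vs = 1 := by rw [← map_mul, W4_identities.2.1, map_one]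

theorem Ev.w_sq (_h : Ev J φ) : φ Vt * φ Vt = 1 := by rw [← map_mul, W4_identities.2.2.1, map_one]

/-- Every involution commuting with a conjugate of `Ta` is conjugate to `Ta` or `Vs`. -/
theorem Ev.invol_t (h : Ev J φ) {x : G} (hx : x * x = 1) (hx1 : x ≠ 1) (hc : x * φ Ta = φ Ta * x) :
    x = φ Ta ∨ (∃ a : Fin 3, x = φ (elW (a, a, 0, 1, 0, 0))) ∨
      (∃ a : Fin 3, x = φ (elW (a, a, 0, 1, 1, 0))) := by
  obtain ⟨k, hk, rfl⟩ := h.coords_t hc
  have h2 : el k * el k = 1 := by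
    rw [← map_mul, ← map_one φ] at hx
    exact congrArg Subtype.val (h.b.inj hx)
  rcases tau_list k hk h2 with e | e | ⟨a, rfl⟩ | ⟨a, rfl⟩
  · exact absurd (by rw [(Subtype.ext e : elW k = 1), map_one]) hx1
  · exact Or.inl (by rw [(Subtype.ext (e.trans val_Ta.symm) : elW k = Ta)])
  · exact Or.inr (Or.inl ⟨a, rfl⟩)
  · exact Or.inr (Or.inr ⟨a, rfl⟩)

theorem Ev.conj_av (_h : Ev J φ) (a : Fin 3) : IsConj (φ Vs) (φ (elW (a, a, 0, 1, 0, 0))) := by
  refine (isConj_iff.2 ⟨φ (elW (a, a, 0, 0, 0, 0)), ?_⟩).symm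
  rw [← map_mul, conj_v a, map_mul, mul_inv_cancel_right]

theorem Ev.conj_avt (_h : Ev J φ) (a : Fin 3) : IsConj (φ Ta) (φ (elW (a, a, 0, 1, 1, 0))) := by
  refine (isConj_iff.2 ⟨φ (elW (0, 0, 0, 2, 0, 0) * elW (a, a, 0, 0, 0, 0)), ?_⟩).symm
  rw [← map_mul, conj_t a, map_mul φ Ta, mul_inv_cancel_right]

theorem Ev.ctr_facts (h : Ev J φ) {p q : G} (hp : IsConj (φ Ta) p) (hq : IsConj (φ Vs) q) :
    p * p = 1 ∧ q * q = 1 ∧ Even (orderOf (p * q)) := by
  have h1 := sq_of_conj h.t_sq hp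
  have h2 := sq_of_conj h.v_sq hq
  exact ⟨h1, h2, even_order h1 h2 fun e => h.not_conj ((hp.trans e).trans hq.symm)⟩

theorem Ev.two_classes (h : Ev J φ) : ∀ p q : G, IsConj (φ Ta) p → IsConj (φ Vs) q →
    IsConj (φ Ta) (ctr p q) ∨ IsConj (φ Vs) (ctr p q) := by
  intro p q hp hq
  obtain ⟨hp2, hq2, he⟩ := h.ctr_facts hp hq
  obtain ⟨g, hg⟩ := isConj_iff.1 hp
  have hx2 : ctr p q * ctr p q = 1 := ctr_sq he
  have hx1 : ctr p q ≠ 1 := fun e => by
    have := orderOf_ctr he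
    rw [e, orderOf_one] at this
    omega
  set x := g⁻¹ * ctr p q * g with hx
  have hxx : x * x = 1 := by
    rw [hx, show g⁻¹ * ctr p q * g * (g⁻¹ * ctr p q * g) = g⁻¹ * (ctr p q * ctr p q) * g by group, hx2,
      mul_one, inv_mul_cancel]
  have hxne : x ≠ 1 := fun e => hx1 (by
    have := congrArg (fun y => g * y * g⁻¹) e
    simpa [hx, mul_assoc] using this)
  have hxc : x * φ Ta = φ Ta * x := by
    have h1 := ctr_comm_left hp2 hq2 he
    rw [← hg] at h1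
    rw [hx]
    calc g⁻¹ * ctr p q * g * φ Ta = g⁻¹ * (ctr (g * φ Ta * g⁻¹) q * (g * φ Ta * g⁻¹)) * g := by
          rw [hg]; subst hg; group
      _ = g⁻¹ * (g * φ Ta * g⁻¹ * ctr (g * φ Ta * g⁻¹) q) * g := by rw [h1]
      _ = _ := by rw [hg]; subst hg; group
  have hconj : IsConj x (ctr p q) := isConj_iff.2 ⟨g, by rw [hx]; group⟩
  rcases h.invol_t hxx hxne hxc with e | ⟨a, e⟩ | ⟨a, e⟩ <;> rw [e] at hconj
  · exact Or.inl hconj
  · exact Or.inr ((h.conj_av a).trans hconj)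
  · exact Or.inl ((h.conj_avt a).trans hconj)

theorem Ev.pairs_t (h : Ev J φ) : pairs (φ Ta) (φ Vs) (φ Ta) = 9 := by
  have hne1 : ∀ p : G, IsConj (φ Ta) p → p ≠ 1 := by
    intro p hp e
    obtain ⟨g, hg⟩ := isConj_iff.1 hp
    rw [e, mul_inv_eq_one, mul_eq_left] at hg
    exact h.ne_one (by rw [val_Ta]; decide +kernel) hg
  have hne2 : ∀ q : G, IsConj (φ Vs) q → q ≠ 1 := by
    intro p hp e
    obtain ⟨g, hg⟩ := isConj_iff.1 hp
    rw [e, mul_inv_eq_one, mul_eq_left] at hg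
    exact h.ne_one (by rw [val_Vs]; decide +kernel) hg
  have hctr : ∀ a b : Fin 3, ctr (φ (elW (a, a, 0, 1, 1, 0))) (φ (elW (b, b, 0, 1, 0, 0))) = φ Ta := by
    intro a b
    obtain ⟨-, -, he⟩ := h.ctr_facts (h.conj_avt a) (h.conj_av b)
    set z := φ (elW (a, a, 0, 1, 1, 0)) * φ (elW (b, b, 0, 1, 0, 0)) with hz
    have h3 : z ^ 3 = φ Ta := by rw [hz, ← map_mul, ← map_pow, (tau_prod a b).1]
    have h6 : z ^ 6 = 1 := by rw [show 6 = 3 * 2 by norm_num, pow_mul, h3, pow_two, h.t_sq]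
    have hdvd : orderOf z ∣ 6 := orderOf_dvd_of_pow_eq_one h6
    have hmem := Nat.mem_divisors.2 ⟨hdvd, (by norm_num : (6 : ℕ) ≠ 0)⟩
    rw [show Nat.divisors 6 = {1, 2, 3, 6} by decide +kernel] at hmem
    simp only [Finset.mem_insert, Finset.mem_singleton] at hmem
    show z ^ (orderOf z / 2) = φ Ta
    rcases hmem with e | e | e | e
    · exact absurd he (by rw [e]; decide)
    · rw [e, ← h3, pow_succ z 2, show z ^ 2 = 1 from e ▸ pow_orderOf_eq_one z, one_mul]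
      simp
    · exact absurd he (by rw [e]; decide)
    · rw [e]; exact h3
  refine (Nat.card_congr (Equiv.ofBijective (fun ab : Fin 3 × Fin 3 =>
    (⟨(φ (elW (ab.1, ab.1, 0, 1, 1, 0)), φ (elW (ab.2, ab.2, 0, 1, 0, 0))),
      h.conj_avt _, h.conj_av _, hctr _ _⟩ :
      {pq : G × G // IsConj (φ Ta) pq.1 ∧ IsConj (φ Vs) pq.2 ∧ ctr pq.1 pq.2 = φ Ta})) ⟨?_, ?_⟩)).symm.trans ?_
  · intro x y hxy
    have h1 := Subtype.mk.inj hxy
    rw [Prod.mk.injEq] at h1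
    have e1 := @el_injective (x.1, x.1, 0, 1, 1, 0) (y.1, y.1, 0, 1, 1, 0) (congrArg Subtype.val (h.b.inj h1.1))
    have e2 := @el_injective (x.2, x.2, 0, 1, 0, 0) (y.2, y.2, 0, 1, 0, 0) (congrArg Subtype.val (h.b.inj h1.2))
    simp only [Prod.mk.injEq, and_true, and_self] at e1 e2
    exact Prod.ext e1 e2
  · rintro ⟨⟨p, q⟩, hp, hq, hpq⟩
    simp only at hp hq hpq
    obtain ⟨hp2, hq2, he⟩ := h.ctr_facts hp hq
    have hpc := ctr_comm_left hp2 hq2 he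
    have hqc := ctr_comm_right hp2 hq2 he
    rw [hpq] at hpc hqc
    obtain ⟨b, rfl⟩ : ∃ b : Fin 3, q = φ (elW (b, b, 0, 1, 0, 0)) := by
      rcases h.invol_t hq2 (hne2 q hq) hqc.symm with e | e | ⟨a, e⟩
      · exact absurd (e ▸ hq).symm h.not_conj
      · exact e
      · exact absurd ((e ▸ hq).trans (h.conj_avt a).symm).symm h.not_conj
    rcases h.invol_t hp2 (hne1 p hp) hpc.symm with e | ⟨a, e⟩ | ⟨a, e⟩
    · exfalso
      subst e
      have hz : (φ Ta * φ (elW (b, b, 0, 1, 0, 0))) ^ 2 = 1 := by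
        rw [← map_mul, ← map_pow, (tau_prod 0 b).2.2.1, map_one]
      have ho : orderOf (φ Ta * φ (elW (b, b, 0, 1, 0, 0))) = 2 := by
        rcases (Nat.dvd_prime Nat.prime_two).1 (orderOf_dvd_of_pow_eq_one hz) with e1 | e1
        · exact absurd he (by rw [e1]; decide)
        · exact e1
      rw [ctr, ho, show 2 / 2 = 1 from rfl, pow_one, ← map_mul] at hpq
      exact (tau_prod 0 b).2.1 (h.b.inj hpq)
    · exact absurd ((e ▸ hp).trans (h.conj_av a).symm) h.not_conj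
    · exact ⟨(a, b), Subtype.ext (Prod.ext e.symm rfl)⟩
  · simp

/-! ## Inside `C(Vs)` -/

variable {O : Subgroup G} {m : ℕ}

theorem Ev.cvImg_le (_h : Ev J φ) : cvImg φ ≤ Subgroup.centralizer ({φ Vs} : Set G) := by
  rintro _ ⟨⟨u, hu⟩, ⟨c, s, i, hcs⟩, rfl⟩
  rw [Subgroup.mem_centralizer_singleton_iff, ← map_mul, ← map_mul]
  refine congrArg φ (Subtype.ext ?_)
  show u * (Vs : P9) = (Vs : P9) * u
  rw [val_Vs, ← (show el (0, 0, c, s, i, 0) = u from hcs)]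
  exact cvSub_fix_v c s i

theorem Ev.img_pow (h : Ev J φ) {y : G} (hy : y ∈ cvImg φ) : y ^ 24 = 1 := by
  rw [← h.card_cvImg]
  exact congrArg Subtype.val (pow_card_eq_one' (x := (⟨y, hy⟩ : cvImg φ)))

theorem Ev.card_cent_v (h : Ev J φ) (hcv : CV φ O m) :
    Nat.card (Subgroup.centralizer ({φ Vs} : Set G)) = 24 * m ^ 2 := by
  rw [mul_comm, ← hcv.card_O, ← h.card_cvImg, ← Nat.card_prod]
  refine (Nat.card_congr (Equiv.ofBijective (fun p : O × cvImg φ =>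
    (⟨(p.1 : G) * p.2, mul_mem (hcv.le p.1.2) (h.cvImg_le p.2.2)⟩ :
      Subgroup.centralizer ({φ Vs} : Set G))) ⟨?_, ?_⟩)).symm
  · rintro ⟨o, y⟩ ⟨o', y'⟩ hp
    have h1 : (o : G) * y = (o' : G) * y' := congrArg Subtype.val hp
    have h2 : (o' : G)⁻¹ * o = (y' : G) * (y : G)⁻¹ := by
      rw [eq_mul_inv_iff_mul_eq, mul_assoc, h1, inv_mul_cancel_left]
    have h3 : (o' : G)⁻¹ * o = 1 :=
      hcv.cop _ (mul_mem (inv_mem o'.2) o.2) (by rw [h2]; exact h.img_pow (mul_mem y'.2 (inv_mem y.2)))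
    refine Prod.ext (Subtype.ext (inv_mul_eq_one.1 h3).symm) (Subtype.ext ?_)
    rw [h3] at h2
    exact (mul_inv_eq_one.1 h2.symm).symm
  · rintro ⟨g, hg⟩
    obtain ⟨o, ho, y, hy, rfl⟩ := hcv.split g hg
    exact ⟨(⟨o, ho⟩, ⟨y, hy⟩), rfl⟩

theorem CV.comm (hcv : CV φ O m) (ht2 : φ Ta * φ Ta = 1) {x y : G} (hx : x ∈ O) (hy : y ∈ O) :
    x * y = y * x := by
  have h1 := hcv.inv _ (mul_mem hx hy)
  have e : φ Ta * (x * y) * φ Ta = (φ Ta * x * φ Ta) * (φ Ta * y * φ Ta) := by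
    simp only [mul_assoc]; rw [← mul_assoc (φ Ta) (φ Ta), ht2, one_mul]
  rw [e, hcv.inv x hx, hcv.inv y hy] at h1
  simpa [mul_inv_rev] using (congrArg (·⁻¹) h1).symm

theorem CV.odd_sq (hcv : CV φ O m) {o : G} (ho : o ∈ O) : o * o = 1 → o = 1 := fun h2 =>
  hcv.cop o ho (by rw [show 24 = 2 * 12 by norm_num, pow_mul, pow_two, h2, one_pow])

theorem CV.exists_sqrt (hcv : CV φ O m) {o : G} (ho : o ∈ O) : ∃ u ∈ O, o = u * u ∧ Commute u o := by
  have hodd : Odd (Nat.card O) := by rw [hcv.card_O]; exact hcv.modd.pow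
  obtain ⟨k, hk⟩ := hodd
  refine ⟨o ^ (k + 1), pow_mem ho _, ?_, Commute.pow_self o _⟩
  rw [← pow_add, show k + 1 + (k + 1) = Nat.card O + 1 by omega, pow_succ]
  have : o ^ Nat.card O = 1 := congrArg Subtype.val (pow_card_eq_one' (x := (⟨o, ho⟩ : O)))
  rw [this, one_mul]

/-- The elements of `O` inverted by `y`. -/
def invSet (O : Subgroup G) (y : G) : Type u := {o : G // o ∈ O ∧ y * o * y⁻¹ = o⁻¹}

instance (O : Subgroup G) (y : G) : Finite (invSet O y) := Subtype.finite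

theorem CV.card_inv_w (h : Ev J φ) (hcv : CV φ O m) : Nat.card (invSet O (φ Vt)) = m := by
  classical
  set w := φ Vt with hw
  have hw2 : w * w = 1 := h.w_sq
  have hwC : w ∈ Subgroup.centralizer ({φ Vs} : Set G) := Subgroup.mem_centralizer_singleton_iff.2
    (by rw [hw, ← map_mul, ← map_mul, W4_identities.2.2.2.2.1])
  have ht2 := h.t_sq
  set A := O ⊓ Subgroup.centralizer ({w} : Set G) with hA
  have hAfix : ∀ a ∈ A, w * a * w⁻¹ = a := fun a ha => by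
    rw [← Subgroup.mem_centralizer_singleton_iff.1 ha.2, mul_inv_cancel_right]
  have hprod : Nat.card A * Nat.card (invSet O w) = Nat.card O := by
    rw [← Nat.card_prod]
    refine Nat.card_congr (Equiv.ofBijective (fun p : A × invSet O w =>
      (⟨(p.1 : G) * p.2.1, mul_mem p.1.2.1 p.2.2.1⟩ : O)) ⟨?_, ?_⟩)
    · rintro ⟨a, i⟩ ⟨a', i'⟩ hp
      have h1 : (a : G) * i.1 = (a' : G) * i'.1 := congrArg Subtype.val hp
      have h2 : (a' : G)⁻¹ * a = i'.1 * i.1⁻¹ := by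
        rw [eq_mul_inv_iff_mul_eq, mul_assoc, h1, inv_mul_cancel_left]
      have hz : i'.1 * i.1⁻¹ ∈ A := h2 ▸ mul_mem (inv_mem a'.2) a.2
      have h3 := hAfix _ hz
      rw [show w * (i'.1 * i.1⁻¹) * w⁻¹ = (w * i'.1 * w⁻¹) * (w * i.1 * w⁻¹)⁻¹ by group, i'.2.2, i.2.2,
        inv_inv] at h3
      have h4 : i'.1 * i.1⁻¹ = 1 := by
        refine hcv.odd_sq hz.1 ?_
        nth_rewrite 2 [← h3]
        rw [show i'.1 * i.1⁻¹ * (i'.1⁻¹ * i.1) = i'.1 * (i.1⁻¹ * i'.1⁻¹) * i.1 by group,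
          hcv.comm ht2 (inv_mem i.2.1) (inv_mem i'.2.1)]
        group
      refine Prod.ext (Subtype.ext ?_) (Subtype.ext (mul_inv_eq_one.1 h4).symm)
      rw [h4] at h2
      exact (inv_mul_eq_one.1 h2).symm
    · rintro ⟨o, ho⟩
      obtain ⟨z, hz, hzo, -⟩ := hcv.exists_sqrt ho
      have hwz : w * z * w⁻¹ ∈ O := hcv.norm w hwC z hz
      have hinv2 : w * (w * z * w⁻¹) * w⁻¹ = z := by
        rw [show w * (w * z * w⁻¹) * w⁻¹ = (w * w) * z * (w * w)⁻¹ by group, hw2]; group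
      have hc := hcv.comm ht2 hwz hz
      refine ⟨(⟨z * (w * z * w⁻¹), mul_mem hz hwz, Subgroup.mem_centralizer_singleton_iff.2
        (mul_inv_eq_iff_eq_mul.1 ?_).symm⟩, ⟨z * (w * z * w⁻¹)⁻¹, mul_mem hz (inv_mem hwz), ?_⟩), ?_⟩
      · rw [show w * (z * (w * z * w⁻¹)) * w⁻¹ = (w * z * w⁻¹) * (w * (w * z * w⁻¹) * w⁻¹) by group, hinv2, hc]
      · rw [show w * (z * (w * z * w⁻¹)⁻¹) * w⁻¹ = (w * z * w⁻¹) * (w * (w * z * w⁻¹) * w⁻¹)⁻¹ by group,
          hinv2, mul_inv_rev, inv_inv]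
      · refine Subtype.ext ?_
        show z * (w * z * w⁻¹) * (z * (w * z * w⁻¹)⁻¹) = o
        rw [hzo, show z * (w * z * w⁻¹) * (z * (w * z * w⁻¹)⁻¹) = z * ((w * z * w⁻¹) * z) * (w * z * w⁻¹)⁻¹ by group,
          hc]
        group
  rw [hcv.card_O, hcv.card_A, pow_two] at hprod
  exact Nat.eq_of_mul_eq_mul_left (Nat.pos_of_ne_zero fun e => by simpa [e] using hcv.modd) hprod

theorem CV.card_inv_conj (hcv : CV φ O m) {g : G} (hg : g ∈ Subgroup.centralizer ({φ Vs} : Set G)) (y : G) :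
    Nat.card (invSet O (g * y * g⁻¹)) = Nat.card (invSet O y) := by
  refine Nat.card_congr (Equiv.ofBijective (fun o : invSet O (g * y * g⁻¹) =>
    (⟨g⁻¹ * o.1 * g, by simpa using hcv.norm g⁻¹ (inv_mem hg) o.1 o.2.1, ?_⟩ : invSet O y)) ⟨?_, ?_⟩)
  · have := o.2.2
    calc y * (g⁻¹ * o.1 * g) * y⁻¹ = g⁻¹ * (g * y * g⁻¹ * o.1 * (g * y * g⁻¹)⁻¹) * g := by group
      _ = g⁻¹ * o.1⁻¹ * g := by rw [this]
      _ = _ := by group
  · intro a b hab
    have : g⁻¹ * a.1 * g = g⁻¹ * b.1 * g := congrArg Subtype.val hab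
    exact Subtype.ext (by simpa using this)
  · rintro ⟨o, ho, hoy⟩
    refine ⟨⟨g * o * g⁻¹, hcv.norm g hg o ho, ?_⟩, Subtype.ext (by show g⁻¹ * (g * o * g⁻¹) * g = o; group)⟩
    calc g * y * g⁻¹ * (g * o * g⁻¹) * (g * y * g⁻¹)⁻¹ = g * (y * o * y⁻¹) * g⁻¹ := by group
      _ = g * o⁻¹ * g⁻¹ := by rw [hoy]
      _ = _ := by group

theorem Ev.pairs_v (h : Ev J φ) {M : Subgroup G} (hMn : M.Normal) (htM : φ Ta ∉ M) (hwM : φ Vt ∈ M)
    (hvM : φ Vs ∈ M) (heM : φ E3 ∈ M) (hcv : CV φ O m) (hOM : O ≤ M) :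
    pairs (φ Ta) (φ Vs) (φ Vs) = 12 * m ^ 3 := by
  classical
  have ht2 := h.t_sq
  have hv2 := h.v_sq
  set C := Subgroup.centralizer ({φ Vs} : Set G) with hC
  have hvC : φ Vs ∈ C := Subgroup.mem_centralizer_singleton_iff.2 rfl
  have himgC := h.cvImg_le
  have hvcomm : ∀ g ∈ C, g * φ Vs = φ Vs * g := fun g hg => Subgroup.mem_centralizer_singleton_iff.1 hg
  have hinM : ∀ (c : Fin 3) (s : Fin 4), φ (elW (0, 0, c, s, 0, 0)) ∈ M := by
    intro c s
    rw [cv_gens c s, map_mul, map_mul, map_pow]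
    refine mul_mem (mul_mem (pow_mem heM _) ?_) ?_
    · split_ifs
      · exact hvM
      · rw [map_one]; exact one_mem _
    · split_ifs
      · exact hwM
      · rw [map_one]; exact one_mem _
  have hconjM : ∀ x p : G, IsConj x p → (p ∈ M ↔ x ∈ M) := by
    intro x p hp
    obtain ⟨g, rfl⟩ := isConj_iff.1 hp
    refine ⟨fun hx => ?_, fun hx => hMn.conj_mem x hx g⟩
    have h2 := hMn.conj_mem _ hx g⁻¹
    rwa [show g⁻¹ * (g * x * g⁻¹) * g⁻¹⁻¹ = x by group] at h2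
  let pel : Bool → W4 := fun i => elW (0, 0, 0, if i then 1 else 0, 1, 0)
  let qel : Fin 3 × Bool → W4 := fun cb => elW (0, 0, cb.1, if cb.2 then 3 else 2, 0, 0)
  have hqimg : ∀ cb, φ (qel cb) ∈ cvImg φ := fun cb => mem_cvImg _ _ _
  have hpimg : ∀ i, φ (pel i) ∈ cvImg φ := fun i => mem_cvImg _ _ _
  have hqconj : ∀ cb : Fin 3 × Bool, ∃ g ∈ C, φ (qel cb) = g * φ Vt * g⁻¹ := by
    intro cb
    obtain ⟨j, i, e⟩ := (cv_six cb.1 cb.2).2
    refine ⟨φ (elW (0, 0, j, 0, i, 0)), himgC (mem_cvImg _ _ _), ?_⟩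
    rw [← map_mul, e, map_mul, mul_inv_cancel_right]
  have hwv : IsConj (φ Vs) (φ Vt) := isConj_iff.2 ⟨φ Rt, by
    rw [← map_inv, ← map_mul, ← map_mul, W4_identities.2.2.2.2.2.2.1]⟩
  -- an element times a fixed involution
  have htwist : ∀ (y o : G), y ∈ C → o ∈ O → y * y = 1 → y * o * y⁻¹ = o⁻¹ → IsConj y (o * y) := by
    intro y o hy ho hy2 hyo
    obtain ⟨u, hu, hou, -⟩ := hcv.exists_sqrt ho
    have hyu : y * u * y⁻¹ = u⁻¹ := by
      refine mul_eq_one_iff_eq_inv.1 ?_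
      refine hcv.odd_sq (mul_mem (hcv.norm y hy u hu) hu) ?_
      have hc := hcv.comm ht2 (hcv.norm y hy u hu) hu
      rw [show y * u * y⁻¹ * u * (y * u * y⁻¹ * u) = y * u * y⁻¹ * (u * (y * u * y⁻¹)) * u by group, ← hc,
        show y * u * y⁻¹ * (y * u * y⁻¹ * u) * u = y * (u * u) * y⁻¹ * (u * u) by group, ← hou, hyo,
        inv_mul_cancel]
    refine isConj_iff.2 ⟨u, ?_⟩
    have h1 : u * (y * u * y⁻¹)⁻¹ = o := by rw [hyu, inv_inv, hou]
    rw [← h1]; group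
  have hpinv : ∀ (i : Bool) (o : G), o ∈ O → φ (pel i) * o * (φ (pel i))⁻¹ = o⁻¹ := by
    intro i o ho
    have hti : (φ Ta)⁻¹ = φ Ta := inv_eq_of_mul_eq_one_right ht2
    have hvo : φ Vs * o⁻¹ * (φ Vs)⁻¹ = o⁻¹ := by
      rw [← hvcomm _ (inv_mem (hcv.le ho)), mul_inv_cancel_right]
    cases i
    · simp only [pel, if_false, Bool.false_eq_true, cv_small_el.2.2.1]
      rw [hti]; exact hcv.inv o ho
    · simp only [pel, if_true, cv_small_el.2.2.2.1, map_mul]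
      rw [show φ Vs * φ Ta * o * (φ Vs * φ Ta)⁻¹ = φ Vs * (φ Ta * o * (φ Ta)⁻¹) * (φ Vs)⁻¹ by group, hti,
        hcv.inv o ho, hvo]
  have hpsq : ∀ i, φ (pel i) * φ (pel i) = 1 := by
    intro i
    rw [← map_mul, show pel i * pel i = 1 by cases i <;> decide +kernel, map_one]
  have hqsq : ∀ cb, φ (qel cb) * φ (qel cb) = 1 := by
    intro cb
    obtain ⟨g, -, e⟩ := hqconj cb
    rw [e, show g * φ Vt * g⁻¹ * (g * φ Vt * g⁻¹) = g * (φ Vt * φ Vt) * g⁻¹ by group, h.w_sq, mul_one,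
      mul_inv_cancel]
  have hpconj : ∀ (i : Bool) (o : G), o ∈ O → IsConj (φ Ta) (o * φ (pel i)) := by
    intro i o ho
    refine IsConj.trans ?_ (htwist _ o (himgC (hpimg i)) ho (hpsq i) (hpinv i o ho))
    cases i
    · simp only [pel, if_false, Bool.false_eq_true, cv_small_el.2.2.1]; exact IsConj.refl _
    · simp only [pel, if_true]; exact h.conj_avt 0
  have hqok : ∀ (cb : Fin 3 × Bool) (o : invSet O (φ (qel cb))), IsConj (φ Vs) (o.1 * φ (qel cb)) := by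
    intro cb o
    refine IsConj.trans ?_ (htwist _ o.1 (himgC (hqimg cb)) o.2.1 (hqsq cb) o.2.2)
    obtain ⟨g, -, e⟩ := hqconj cb
    exact hwv.trans (isConj_iff.2 ⟨g, e.symm⟩)
  have hctr : ∀ (i : Bool) (o : G) (cb : Fin 3 × Bool) (o' : invSet O (φ (qel cb))), o ∈ O →
      ctr (o * φ (pel i)) (o'.1 * φ (qel cb)) = φ Vs := by
    intro i o cb o' ho
    obtain ⟨hp2, hq2, he⟩ := h.ctr_facts (hpconj i o ho) (hqok cb o')
    set Y := φ (pel i) * φ (qel cb) with hY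
    have hYimg : Y ∈ cvImg φ := mul_mem (hpimg i) (hqimg cb)
    have hY2 : Y * Y = φ Vs := by
      rw [hY, ← map_mul, ← map_mul, ← pow_two]
      exact congrArg φ ((cv_six cb.1 cb.2).1 i)
    set z := o * φ (pel i) * (o'.1 * φ (qel cb)) with hz
    set o₁ := o * (φ (pel i) * o'.1 * (φ (pel i))⁻¹) with ho₁
    have ho₁O : o₁ ∈ O := mul_mem ho (hcv.norm _ (himgC (hpimg i)) _ o'.2.1)
    have hzY : z = o₁ * Y := by rw [hz, ho₁, hY]; group
    set o₂ := o₁ * (Y * o₁ * Y⁻¹) with ho₂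
    have ho₂O : o₂ ∈ O := mul_mem ho₁O (hcv.norm Y (himgC hYimg) _ ho₁O)
    have hz2 : z ^ 2 = o₂ * φ Vs := by
      rw [pow_two, hzY, ho₂, ← hY2]; group
    have hov : Commute o₂ (φ Vs) := hvcomm _ (hcv.le ho₂O)
    have hk : o₂ ^ Nat.card O = 1 := congrArg Subtype.val (pow_card_eq_one' (x := (⟨o₂, ho₂O⟩ : O)))
    have hoddO : Odd (Nat.card O) := by rw [hcv.card_O]; exact hcv.modd.pow
    set k := Nat.card O
    have hzk : z ^ (2 * k) = φ Vs := by
      rw [pow_mul, hz2, hov.mul_pow, hk, one_mul]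
      obtain ⟨l, hl⟩ := hoddO
      rw [hl, pow_succ, pow_mul, pow_two, hv2, one_pow, one_mul]
    have hn4 : orderOf z ∣ 4 * k := orderOf_dvd_of_pow_eq_one (by
      rw [show 4 * k = 2 * k * 2 by ring, pow_mul, hzk, pow_two, hv2])
    have hn2 : ¬ orderOf z ∣ 2 * k := fun hd => h.ne_one (by rw [val_Vs]; decide +kernel)
      (hzk.symm.trans (orderOf_dvd_iff_pow_eq_one.1 hd))
    obtain ⟨d, hd⟩ : 4 ∣ orderOf z := by
      obtain ⟨a, ha, hn'⟩ := (Nat.dvd_prime_pow Nat.prime_two).1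
        (Nat.gcd_dvd_right (orderOf z) (2 ^ 2))
      by_contra h4
      apply hn2
      obtain ⟨j, hj⟩ := he
      have hjk : j ∣ k := by
        have h2j : 2 * j ∣ 2 * (2 * k) := by
          rw [show 2 * j = j + j by ring, ← hj, show 2 * (2 * k) = 4 * k by ring]; exact hn4
        have hj2 : j ∣ 2 * k := Nat.dvd_of_mul_dvd_mul_left (by norm_num) h2j
        refine (Nat.Coprime.dvd_of_dvd_mul_left ?_ hj2)
        rw [Nat.coprime_two_right, ← Nat.not_even_iff_odd]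
        rintro ⟨l, rfl⟩
        exact h4 ⟨l, by omega⟩
      rw [hj, show j + j = 2 * j by ring]
      exact mul_dvd_mul_left 2 hjk
    have hdk : d ∣ k := Nat.dvd_of_mul_dvd_mul_left (by norm_num : 0 < 4) (hd ▸ hn4)
    have hdodd : Odd d := hoddO.of_dvd_nat hdk
    have hvd : φ Vs ^ d = φ Vs := by
      obtain ⟨l, hl⟩ := hdodd
      rw [hl, pow_succ, pow_mul, pow_two, hv2, one_pow, one_mul]
    have hdd : (o₂ ^ d) * (o₂ ^ d) = 1 := by
      have h4 : z ^ (2 * d) * z ^ (2 * d) = 1 := by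
        rw [← pow_add, show 2 * d + 2 * d = 4 * d by ring, ← hd, pow_orderOf_eq_one]
      rw [pow_mul, hz2, hov.mul_pow, hvd] at h4
      have hc : Commute (φ Vs) (o₂ ^ d) := (hov.pow_left d).symm
      rwa [show o₂ ^ d * φ Vs * (o₂ ^ d * φ Vs) = o₂ ^ d * (φ Vs * o₂ ^ d) * φ Vs by group, hc.eq,
        show o₂ ^ d * (o₂ ^ d * φ Vs) * φ Vs = o₂ ^ d * o₂ ^ d * (φ Vs * φ Vs) by group, hv2, mul_one] at h4
    show z ^ (orderOf z / 2) = φ Vs
    rw [hd, show 4 * d / 2 = 2 * d by omega, pow_mul, hz2, hov.mul_pow, hvd,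
      hcv.odd_sq (pow_mem ho₂O d) hdd, one_mul]
  -- decomposition is unique
  have huniq : ∀ o ∈ O, ∀ o' ∈ O, ∀ y y' : W4, φ y ∈ cvImg φ → φ y' ∈ cvImg φ →
      o * φ y = o' * φ y' → o = o' ∧ y = y' := by
    intro o ho o' ho' y y' hy hy' e
    have h2 : o'⁻¹ * o = φ y' * (φ y)⁻¹ := by
      rw [eq_mul_inv_iff_mul_eq, mul_assoc, e, inv_mul_cancel_left]
    have h3 : o'⁻¹ * o = 1 :=
      hcv.cop _ (mul_mem (inv_mem ho') ho) (by rw [h2]; exact h.img_pow (mul_mem hy' (inv_mem hy)))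
    rw [h3] at h2
    exact ⟨(inv_mul_eq_one.1 h3).symm, h.b.inj (mul_inv_eq_one.1 h2.symm).symm⟩
  -- all pairs
  let S := (Bool × O) × (Σ cb : Fin 3 × Bool, invSet O (φ (qel cb)))
  let F : S → {pq : G × G // IsConj (φ Ta) pq.1 ∧ IsConj (φ Vs) pq.2 ∧ ctr pq.1 pq.2 = φ Vs} := fun x =>
    ⟨((x.1.2 : G) * φ (pel x.1.1), x.2.2.1 * φ (qel x.2.1)),
      hpconj _ _ x.1.2.2, hqok _ _, hctr _ _ _ _ x.1.2.2⟩
  have hF : Function.Bijective F := by
    refine ⟨?_, ?_⟩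
    · rintro ⟨⟨i, o⟩, ⟨cb, u⟩⟩ ⟨⟨i', o'⟩, ⟨cb', u'⟩⟩ e
      have e0 := Subtype.mk.inj e
      rw [Prod.mk.injEq] at e0
      obtain ⟨e1, e2⟩ := huniq _ o.2 _ o'.2 _ _ (hpimg i) (hpimg i') e0.1
      obtain ⟨e3, e4⟩ := huniq _ u.2.1 _ u'.2.1 _ _ (hqimg cb) (hqimg cb') e0.2
      have hi : i = i' := pel_inj i i' e2
      have hcb : cb = cb' := qel_inj cb cb' e4
      subst hi hcb
      rw [Subtype.ext e1, Subtype.ext e3]
    · rintro ⟨⟨p, q⟩, hp, hq, hpq⟩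
      simp only at hp hq hpq
      obtain ⟨hp2, hq2, he⟩ := h.ctr_facts hp hq
      have hpc := ctr_comm_left hp2 hq2 he
      have hqc := ctr_comm_right hp2 hq2 he
      rw [hpq] at hpc hqc
      obtain ⟨o, ho, y, hy, rfl⟩ := hcv.split p (Subgroup.mem_centralizer_singleton_iff.2 hpc.symm)
      obtain ⟨o', ho', y', hy', rfl⟩ := hcv.split q (Subgroup.mem_centralizer_singleton_iff.2 hqc.symm)
      -- squares of the two parts
      have hsplit : ∀ o ∈ O, ∀ y ∈ cvImg φ, o * y * (o * y) = 1 → y * y = 1 ∧ y * o * y⁻¹ = o⁻¹ := by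
        intro o ho y hy e
        have h1 : o * (y * o * y⁻¹) = (y * y)⁻¹ := by
          rw [eq_inv_iff_mul_eq_one, ← e]; group
        have h2 : o * (y * o * y⁻¹) = 1 := hcv.cop _ (mul_mem ho (hcv.norm y (himgC hy) o ho))
          (by rw [h1, inv_pow, h.img_pow (mul_mem hy hy), inv_one])
        refine ⟨?_, (mul_eq_one_iff_inv_eq.1 h2).symm⟩
        rw [h2] at h1
        exact inv_eq_one.1 h1.symm
      obtain ⟨hy2, -⟩ := hsplit o ho y hy hp2
      obtain ⟨hy2', hyinv⟩ := hsplit o' ho' y' hy' hq2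
      have hform : ∀ y ∈ cvImg φ, ∃ c s i, y = φ (elW (0, 0, c, s, i, 0)) := by
        rintro _ ⟨⟨u, hu⟩, ⟨c, s, i, hcs⟩, rfl⟩
        exact ⟨c, s, i, congrArg φ (Subtype.ext hcs.symm)⟩
      obtain ⟨c, s, i, rfl⟩ := hform y hy
      obtain ⟨c', s', i', rfl⟩ := hform y' hy'
      have hi : i = 1 := by
        by_contra hi
        have hi0 : i = 0 := by omega
        subst hi0
        exact htM ((hconjM _ _ hp).1 (mul_mem (hOM ho) (hinM c s)))
      have hi' : i' = 0 := by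
        by_contra hne
        rcases cv_parity c' s' i' with e | e
        · exact hne e
        · apply htM
          have hqM : o' * φ (elW (0, 0, c', s', i', 0)) ∈ M := (hconjM _ _ hq).2 hvM
          rw [e, map_mul, ← mul_assoc] at hqM
          have h2 := mul_mem (inv_mem (mul_mem (hOM ho') (hinM c' s'))) hqM
          rwa [inv_mul_cancel_left] at h2
      subst hi hi'
      have hpl : el (0, 0, c, s, 1, 0) * el (0, 0, c, s, 1, 0) = 1 := by
        rw [← map_mul, ← map_one φ] at hy2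
        exact congrArg Subtype.val (h.b.inj hy2)
      obtain ⟨rfl, hs⟩ := cv_invol_out c s hpl
      have hql : el (0, 0, c', s', 0, 0) * el (0, 0, c', s', 0, 0) = 1 := by
        rw [← map_mul, ← map_one φ] at hy2'
        exact congrArg Subtype.val (h.b.inj hy2')
      obtain ⟨i₀, hi₀⟩ : ∃ i₀ : Bool, pel i₀ = elW (0, 0, 0, s, 1, 0) := by
        rcases hs with rfl | rfl
        · exact ⟨false, rfl⟩
        · exact ⟨true, rfl⟩
      rcases cv_invol_in c' s' hql with ⟨rfl, hs'⟩ | hs'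
      · exfalso
        have ho'1 : o' = 1 := by
          refine hcv.odd_sq ho' ?_
          have hfix : φ (elW (0, 0, 0, s', 0, 0)) * o' * (φ (elW (0, 0, 0, s', 0, 0)))⁻¹ = o' := by
            rcases hs' with rfl | rfl
            · rw [cv_small_el.1, map_one]; group
            · rw [cv_small_el.2.1, ← hvcomm _ (hcv.le ho'), mul_inv_cancel_right]
          rw [hfix] at hyinv
          nth_rewrite 1 [hyinv]
          exact inv_mul_cancel o'
        subst ho'1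
        rw [one_mul] at hq hpq hqc
        rcases hs' with rfl | rfl
        · rw [cv_small_el.1, map_one] at hq
          obtain ⟨g, hg⟩ := isConj_iff.1 hq
          rw [mul_inv_eq_one, mul_eq_left] at hg
          exact h.ne_one (by rw [val_Vs]; decide +kernel) hg
        · rw [cv_small_el.2.1] at hpq hq
          set P := o * φ (elW (0, 0, 0, s, 1, 0))
          have hPC : P * φ Vs = φ Vs * P := hvcomm _ (mul_mem (hcv.le ho) (himgC (mem_cvImg _ _ _)))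
          obtain ⟨-, -, he'⟩ := h.ctr_facts hp (IsConj.refl (φ Vs))
          have hsq2 : (P * φ Vs) ^ 2 = 1 := by
            rw [pow_two, show P * φ Vs * (P * φ Vs) = P * (φ Vs * P) * φ Vs by group, ← hPC,
              show P * (P * φ Vs) * φ Vs = (P * P) * (φ Vs * φ Vs) by group, hp2, hv2, mul_one]
          have ho2 : orderOf (P * φ Vs) = 2 := by
            rcases (Nat.dvd_prime Nat.prime_two).1 (orderOf_dvd_of_pow_eq_one hsq2) with e1 | e1
            · exact absurd he' (by rw [e1]; decide)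
            · exact e1
          rw [ctr, ho2, show 2 / 2 = 1 from rfl, pow_one, mul_eq_right] at hpq
          rw [hpq] at hp
          obtain ⟨g, hg⟩ := isConj_iff.1 hp
          rw [mul_inv_eq_one, mul_eq_left] at hg
          exact h.ne_one (by rw [val_Ta]; decide +kernel) hg
      · obtain ⟨b, hb⟩ : ∃ b : Bool, qel (c', b) = elW (0, 0, c', s', 0, 0) := by
          rcases hs' with rfl | rfl
          · exact ⟨false, rfl⟩
          · exact ⟨true, rfl⟩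
        refine ⟨((i₀, ⟨o, ho⟩), ⟨(c', b), ⟨o', ho', ?_⟩⟩), Subtype.ext (Prod.ext ?_ ?_)⟩
        · rw [hb]; exact hyinv
        · show o * φ (pel i₀) = _
          rw [hi₀]
        · show o' * φ (qel (c', b)) = _
          rw [hb]
  refine (Nat.card_congr (Equiv.ofBijective F hF)).symm.trans ?_
  show Nat.card ((Bool × O) × (Σ cb : Fin 3 × Bool, invSet O (φ (qel cb)))) = 12 * m ^ 3
  rw [Nat.card_prod, Nat.card_prod, Nat.card_sigma, hcv.card_O]
  have hcb : ∀ cb : Fin 3 × Bool, Nat.card (invSet O (φ (qel cb))) = m := by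
    intro cb
    obtain ⟨g, hg, e⟩ := hqconj cb
    rw [e, hcv.card_inv_conj hg, hcv.card_inv_w h]
  simp only [hcb, Finset.sum_const, Finset.card_univ, Fintype.card_prod, Fintype.card_fin, Fintype.card_bool,
    Nat.card_eq_fintype_card, smul_eq_mul]
  ring

theorem Ev.card_group (h : Ev J φ) {M : Subgroup G} (hMn : M.Normal) (htM : φ Ta ∉ M) (hwM : φ Vt ∈ M)
    (hvM : φ Vs ∈ M) (heM : φ E3 ∈ M) (hcv : CV φ O m) (hOM : O ≤ M) :
    Nat.card G = 216 * m ^ 2 * (2 * m + 1) := by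
  have h1 := pair_count (u := φ Ta) (v := φ Vs) h.not_conj h.two_classes
  rw [h.pairs_t, h.pairs_v hMn htM hwM hvM heM hcv hOM] at h1
  have ht := card_class (φ Ta)
  have hv := card_class (φ Vs)
  rw [h.card_cent_t] at ht
  rw [h.card_cent_v hcv] at hv
  set g := Nat.card G
  set a := Nat.card {x // IsConj (φ Ta) x}
  set b := Nat.card {x // IsConj (φ Vs) x}
  have h2 : g * g = g * (216 * m ^ 2 * (2 * m + 1)) := by
    calc g * g = (a * 36) * (b * (24 * m ^ 2)) := by rw [ht, hv]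
      _ = (a * b) * (36 * (24 * m ^ 2)) := by ring
      _ = (9 * a + 12 * m ^ 3 * b) * (36 * (24 * m ^ 2)) := by rw [h1]
      _ = 9 * (a * 36) * (24 * m ^ 2) + 12 * m ^ 3 * (b * (24 * m ^ 2)) * 36 := by ring
      _ = _ := by rw [ht, hv]; ring
  exact Nat.eq_of_mul_eq_mul_left Nat.card_pos h2

end Cfsg.Agent.S9Even37
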