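import Mathlib
import Cfsg.Agent.Lib.S9EvenCount37
import Cfsg.Agent.Lib.S9Bound37

/-!
The case of the automiser `S₄` in the three-local characterisation of the symmetric group of degree nine
(S3343): `J` is normal.
-/

set_option autoImplicit false
set_option maxRecDepth 100000
set_option linter.unusedSectionVars false

namespace Cfsg.Agent.S9Even37

open Equiv S9Model37

universe u

theorem W0_le_W4 : W0 ≤ W4 := by
  rw [W0, Subgroup.closure_le]
  intro x hx
  simp only [Set.mem_insert_iff, Set.mem_singleton_iff] at hx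
  obtain ⟨h1, h2, h3, hr, -, ha, hb⟩ := gen_mem
  rcases hx with rfl | rfl | rfl | rfl | rfl | rfl
  exacts [h1, h2, h3, hr, ha, hb]

theorem base_le_W0 : base ≤ W0 := by
  rw [base, W0]
  refine Subgroup.closure_mono ?_
  intro x hx
  simp only [Set.mem_insert_iff, Set.mem_singleton_iff] at hx ⊢
  tauto

theorem el_mem_W0 (a b c : Fin 3) (s : Fin 4) (r : Fin 3) : el (a, b, c, s, 0, r) ∈ W0 := by
  have g : ∀ x ∈ ({c1, c2, c3, rot, d1 * d2, d2 * d3} : Set P9), x ∈ W0 := fun x hx =>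
    Subgroup.subset_closure hx
  have hs : sgn s ∈ W0 := by
    fin_cases s
    · exact one_mem _
    · show d1 * d2 ∈ W0
      exact g _ (by simp)
    · show d2 * d3 ∈ W0
      exact g _ (by simp)
    · show d1 * d3 ∈ W0
      rw [d13_eq]; exact mul_mem (g _ (by simp)) (g _ (by simp))
  exact mul_mem (mul_mem (mul_mem (mul_mem (mul_mem (pow_mem (g _ (by simp)) _) (pow_mem (g _ (by simp)) _))
    (pow_mem (g _ (by simp)) _)) hs) (one_mem _)) (pow_mem (g _ (by simp)) _)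

theorem el_split (a b c : Fin 3) (s : Fin 4) (r : Fin 3) :
    el (a, b, c, s, 1, r) = el (a, b, c, s, 0, 0) * tau * rot ^ (r : ℕ) := by
  simp only [el, Fin.val_one, Fin.val_zero, pow_one, pow_zero, mul_one]

theorem tau_split (k : K4) : k.2.2.2.2.1 = 0 ∨
    elW k = elW (k.1, k.2.1, k.2.2.1, k.2.2.2.1, 0, 0) * Ta * Rt ^ (k.2.2.2.2.2 : ℕ) := by
  obtain ⟨a, b, c, s, t, r⟩ := k
  rcases (show t = 0 ∨ t = 1 by omega) with rfl | rfl
  · exact Or.inl rfl
  · refine Or.inr (Subtype.ext ?_)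
    simp only [Subgroup.coe_mul, SubgroupClass.coe_pow, val_Ta, val_Rt]
    exact el_split a b c s r

variable {G : Type u} [Group G] [Finite G] {J : Subgroup G} {φ : W4 →* G}

theorem three_mem {M : Subgroup G} (hMi : M.index = 2) (g : G) (hg : g ^ 3 = 1) : g ∈ M := by
  have h1 : g * g ∈ M := by rw [Subgroup.mul_mem_iff_of_index_two hMi]
  rw [pow_succ', pow_two] at hg
  rw [eq_inv_of_mul_eq_one_left hg]
  exact inv_mem h1

theorem base_mem_M (φ : W4 →* G) {M : Subgroup G} (hMi : M.index = 2) (u : W4)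
    (hu : (u : P9) ∈ base) : φ u ∈ M := by
  refine three_mem hMi _ ?_
  rw [← map_pow, show u ^ 3 = 1 from Subtype.ext (by
    rw [SubgroupClass.coe_pow, OneMemClass.coe_one]; exact base_exp _ hu), map_one]

theorem W0_mem_M (φ : W4 →* G) {M : Subgroup G} (hMi : M.index = 2) (hrM : φ Rt ∈ M)
    (hvM : φ Vs ∈ M) (hwM : φ Vt ∈ M) (u : W4) (hu : (u : P9) ∈ W0) : φ u ∈ M := by
  have key : W0 ≤ ((M.comap φ).map W4.subtype) := by
    rw [W0, Subgroup.closure_le]
    intro x hx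
    simp only [Set.mem_insert_iff, Set.mem_singleton_iff] at hx
    obtain ⟨h1, h2, h3, hr, -, ha, hb⟩ := gen_mem
    rcases hx with rfl | rfl | rfl | rfl | rfl | rfl
    · exact Subgroup.mem_map.2 ⟨⟨c1, h1⟩, base_mem_M φ hMi _ mem_base.1, Subgroup.subtype_apply _⟩
    · exact Subgroup.mem_map.2 ⟨⟨c2, h2⟩, base_mem_M φ hMi _ mem_base.2.1, Subgroup.subtype_apply _⟩
    · exact Subgroup.mem_map.2 ⟨⟨c3, h3⟩, base_mem_M φ hMi _ mem_base.2.2, Subgroup.subtype_apply _⟩
    · exact Subgroup.mem_map.2 ⟨Rt, hrM, (Subgroup.subtype_apply _).trans val_Rt⟩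
    · exact Subgroup.mem_map.2 ⟨Vs, hvM, (Subgroup.subtype_apply _).trans val_Vs⟩
    · exact Subgroup.mem_map.2 ⟨Vt, hwM, (Subgroup.subtype_apply _).trans val_Vt⟩
  obtain ⟨y, hy, hye⟩ := Subgroup.mem_map.1 (key hu)
  have e : y = u := Subtype.ext ((Subgroup.subtype_apply y).symm.trans hye)
  rw [← e]
  exact hy

theorem val_elW (k : K4) : ((elW k : W4) : P9) = el k := rfl

theorem elW_mem_W0 (a b c : Fin 3) (s : Fin 4) (r : Fin 3) :
    ((elW (a, b, c, s, 0, r) : W4) : P9) ∈ W0 := by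
  rw [val_elW]; exact el_mem_W0 a b c s r

theorem Ev.N_inf (h : Ev J φ) {M : Subgroup G} (hMi : M.index = 2) (htM : φ Ta ∉ M)
    (hrM : φ Rt ∈ M) (hvM : φ Vs ∈ M) (hwM : φ Vt ∈ M) :
    ∀ g ∈ Subgroup.normalizer (J : Set G), g ∈ M → ∃ u : W4, (u : P9) ∈ W0 ∧ φ u = g := by
  intro g hg hgM
  obtain ⟨⟨a, b, c, s, t, r⟩, rfl⟩ := h.map_elW hg
  rcases tau_split (a, b, c, s, t, r) with e | e
  · rw [show t = 0 from e]
    exact ⟨_, elW_mem_W0 a b c s r, rfl⟩
  · exfalso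
    apply htM
    rw [e, map_mul, map_mul, map_pow] at hgM
    have h1 := mul_mem hgM (inv_mem (pow_mem hrM (r : ℕ)))
    rw [mul_inv_cancel_right] at h1
    have h2 := mul_mem (inv_mem (W0_mem_M φ hMi hrM hvM hwM _ (elW_mem_W0 a b c s 0))) h1
    rwa [inv_mul_cancel_left] at h2

theorem card_cent_sub {M : Subgroup G} (x : M) :
    Nat.card (Subgroup.centralizer ({x} : Set M)) =
      Nat.card (Subgroup.centralizer ({(x : G)} : Set G) ⊓ M : Subgroup G) := by
  refine Nat.card_congr (Equiv.ofBijective (fun y => ⟨((y : M) : G), ?_, (y : M).2⟩) ⟨?_, ?_⟩)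
  · exact Subgroup.mem_centralizer_singleton_iff.2
      (congrArg Subtype.val (Subgroup.mem_centralizer_singleton_iff.1 y.2))
  · intro y z e
    exact Subtype.ext (Subtype.ext (Subtype.mk.inj e))
  · rintro ⟨g, hgC, hgM⟩
    exact ⟨⟨⟨g, hgM⟩, Subgroup.mem_centralizer_singleton_iff.2
      (Subtype.ext (Subgroup.mem_centralizer_singleton_iff.1 hgC))⟩, rfl⟩

theorem card_half {M : Subgroup G} [M.Normal] (hMi : M.index = 2) {C : Subgroup G} {t : G}
    (htC : t ∈ C) (htM : t ∉ M) {n : ℕ} (hn : Nat.card C = 2 * n) :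
    Nat.card (C ⊓ M : Subgroup G) = n := by
  have hd : M.relIndex C ∣ 2 := by
    rw [← hMi]; exact Subgroup.relIndex_dvd_index_of_normal _ _
  have hrel : (C ⊓ M).relIndex C = 2 := by
    rw [inf_comm, Subgroup.inf_relIndex_right]
    rcases (Nat.dvd_prime Nat.prime_two).1 hd with h1 | h2
    · exact absurd (Subgroup.relIndex_eq_one.1 h1 htC) htM
    · exact h2
  have h2 := Subgroup.relIndex_mul_relIndex ⊥ (C ⊓ M) C bot_le inf_le_left
  rw [Subgroup.relIndex_bot_left, Subgroup.relIndex_bot_left, hrel, hn] at h2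
  exact Nat.eq_of_mul_eq_mul_right two_pos (h2.trans (mul_comm _ _))

theorem Ta_comm_Vs (φ : W4 →* G) : φ Ta ∈ Subgroup.centralizer ({φ Vs} : Set G) :=
  Subgroup.mem_centralizer_singleton_iff.2 (by rw [← map_mul, ← map_mul, W4_identities.2.2.2.1])

theorem normalizer_sub {M : Subgroup G} (hMn : M.Normal) (hJM : J ≤ M) :
    Subgroup.normalizer (J.subgroupOf M : Set M) = (Subgroup.normalizer (J : Set G)).subgroupOf M := by
  ext x
  rw [Subgroup.mem_subgroupOf, Subgroup.mem_normalizer_iff, Subgroup.mem_normalizer_iff]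
  refine ⟨fun hx y => ?_, fun hx y => hx y⟩
  constructor
  · intro hy
    exact (hx ⟨y, hJM hy⟩).1 hy
  · intro hy
    have hyM : y ∈ M := by
      have h2 := hMn.conj_mem _ (hJM hy) (x : G)⁻¹
      rwa [show (x : G)⁻¹ * ((x : G) * y * (x : G)⁻¹) * (x : G)⁻¹⁻¹ = y by group] at h2
    exact (hx ⟨y, hyM⟩).2 hy

theorem val_incl {H K : Subgroup P9} (hle : H ≤ K) (u : H) :
    ((Subgroup.inclusion hle u : K) : P9) = (u : P9) := rfl

theorem incl_mem (u : W0) : ((Subgroup.inclusion W0_le_W4 u : W4) : P9) ∈ W0 :=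
  (val_incl W0_le_W4 u).symm ▸ u.2

theorem incl_base (u : W0) (hu : (u : P9) ∈ base) :
    ((Subgroup.inclusion W0_le_W4 u : W4) : P9) ∈ base :=
  (val_incl W0_le_W4 u).symm ▸ hu

theorem gen_incl {Q : Type} [Group Q] {H K : Subgroup Q} (hle : H ≤ K) (x : Q) (hH : x ∈ H) (u : K)
    (hu : (u : Q) = x) : Subgroup.inclusion hle ⟨x, hH⟩ = u :=
  Subtype.ext hu.symm

theorem incl_mkW0 (u : W4) (hu : (u : P9) ∈ W0) :
    Subgroup.inclusion W0_le_W4 ⟨(u : P9), hu⟩ = u :=
  gen_incl W0_le_W4 (u : P9) hu u (Eq.refl (u : P9))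

theorem incl_v (hv : d1 * d2 ∈ W0) : Subgroup.inclusion W0_le_W4 ⟨d1 * d2, hv⟩ = Vs :=
  gen_incl W0_le_W4 (d1 * d2) hv Vs val_Vs

theorem Ev.main (h : Ev J φ) : J.Normal := by
  classical
  obtain ⟨M, T, a, hMn, hMi, htM, hwM, hvM, heM, hrM, hT, hTv, -⟩ := h.exists_transfer
  obtain ⟨O, m, hcv, hOM⟩ := h.exists_cv hMn hMi htM hwM hvM heM hT hTv
  have hg := h.card_group hMn htM hwM hvM heM hcv hOM
  have hbaseW4 : ∀ u : W4, (u : P9) ∈ base → φ u ∈ M := base_mem_M φ hMi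
  have h0M : ∀ u : W4, (u : P9) ∈ W0 → φ u ∈ M := W0_mem_M φ hMi hrM hvM hwM
  have hJM : J ≤ M := by
    rw [← h.b.base_eq]
    rintro _ ⟨u, hu, rfl⟩
    exact hbaseW4 u hu
  have hN0 := h.N_inf hMi htM hrM hvM hwM
  -- the character bound inside `M`
  let ι : W0 →* W4 := Subgroup.inclusion W0_le_W4
  let φ₀ : W0 →* M := (φ.comp ι).codRestrict M fun u => h0M (ι u) (incl_mem u)
  set J₀ := J.subgroupOf M with hJ₀
  have hinj : Function.Injective φ₀ := fun x y e => by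
    have := h.b.inj (congrArg Subtype.val e)
    exact Subgroup.inclusion_injective W0_le_W4 this
  have hnorm := normalizer_sub (J := J) hMn hJM
  have hrange : φ₀.range = Subgroup.normalizer (J₀ : Set M) := by
    rw [hnorm]
    refine le_antisymm ?_ ?_
    · rintro _ ⟨u, rfl⟩
      exact h.mem_N (ι u)
    · rintro ⟨g, hgM⟩ hg
      obtain ⟨u, hu, rfl⟩ := hN0 g hg hgM
      exact ⟨⟨(u : P9), hu⟩, Subtype.ext (congrArg φ (incl_mkW0 u hu))⟩
  have hbase : (base.subgroupOf W0).map φ₀ = J₀ := by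
    refine le_antisymm ?_ ?_
    · rintro _ ⟨u, hu, rfl⟩
      show φ (ι u) ∈ J
      exact h.base_mem (incl_base u (Subgroup.mem_subgroupOf.1 hu))
    · rintro ⟨g, hgM⟩ hg
      obtain ⟨u, hu, rfl⟩ := (h.b.base_eq.symm ▸ hg : g ∈ (base.subgroupOf W4).map φ)
      have hu' : (u : P9) ∈ base := Subgroup.mem_subgroupOf.1 hu
      exact ⟨⟨(u : P9), base_le_W0 hu'⟩, Subgroup.mem_subgroupOf.2 hu',
        Subtype.ext (congrArg φ (incl_mkW0 u _))⟩
  have hloc : ∀ j, j ∈ J₀ → j ≠ 1 → Subgroup.centralizer {j} ≤ Subgroup.normalizer (J₀ : Set M) := by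
    intro j hj hj1 x hx
    rw [hnorm]
    refine h.loc (j : G) hj (fun e => hj1 (Subtype.ext e)) ?_
    exact Subgroup.mem_centralizer_singleton_iff.2
      (congrArg Subtype.val (Subgroup.mem_centralizer_singleton_iff.1 hx))
  have hv0 : d1 * d2 ∈ W0 := Subgroup.subset_closure (by simp)
  have hφv : ((φ₀ ⟨d1 * d2, hv0⟩ : M) : G) = φ Vs := congrArg φ (incl_v hv0)
  have hC : Nat.card (Subgroup.centralizer {φ₀ ⟨d1 * d2, hv0⟩}) = 12 * m ^ 2 := by
    have : M.Normal := hMn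
    rw [card_cent_sub, hφv]
    refine card_half hMi (Ta_comm_Vs φ) htM ?_
    rw [h.card_cent_v hcv]
    ring
  have hM : Nat.card M = 108 * m ^ 2 * (2 * m + 1) := by
    have h2 := M.card_mul_index
    rw [hMi, hg] at h2
    exact Nat.eq_of_mul_eq_mul_right two_pos (h2.trans (by ring))
  have hm := S9Bound37.eq_one hinj hrange hbase hloc ⟨d1 * d2, hv0⟩ rfl m hcv.modd hC hM
  rw [hm] at hg
  -- `G` is the normaliser
  have hN : Subgroup.normalizer (J : Set G) = ⊤ := by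
    refine Subgroup.eq_top_of_card_eq _ ?_
    rw [← h.b.range_eq, ← Nat.card_congr (MonoidHom.ofInjective h.b.inj).toEquiv, card_W4, hg]
    norm_num
  exact Subgroup.normalizer_eq_top_iff.1 hN

/-- **The even case.** -/
theorem even_normal {G : Type u} [Group G] [Finite G] {J : Subgroup G} {phi : W4 →* G}
    (h : Base W4 J phi)
    (hloc : ∀ j, j ∈ J → j ≠ 1 → Subgroup.centralizer ({j} : Set G) ≤ Subgroup.normalizer (J : Set G)) :
    J.Normal :=
  (⟨h, hloc⟩ : Ev J phi).main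

end Cfsg.Agent.S9Even37
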