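import Mathlib
import Cfsg.Agent.Lib.S9FullCoord37

/-!
Facts inside the three-local group `W` of order `1296`, by kernel evaluation.
-/

set_option autoImplicit false

namespace Cfsg.Agent.S9Full37

open Equiv S9Model37

set_option maxRecDepth 100000

/-- Coordinates of the base. -/
def IsB (k : K) : Prop := k.2 = ((0, 0, 0), 0, 0)

instance : DecidablePred IsB := fun _ => inferInstanceAs (Decidable (_ = _))

/-- Even signs. -/
def IsEv (k : K) : Prop := ((k.2.1.1 : ℕ) + k.2.1.2.1 + k.2.1.2.2) % 2 = 0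

instance : DecidablePred IsEv := fun _ => inferInstanceAs (Decidable (_ = _))

theorem base_left : ∀ a : Fin 3 × Fin 3 × Fin 3,
    (∃ a', ∀ i, bel a' i = (c1 * bel a) i) ∧ (∃ a', ∀ i, bel a' i = (c2 * bel a) i) ∧
      (∃ a', ∀ i, bel a' i = (c3 * bel a) i) := by
  decide +kernel

theorem el_base : ∀ a : Fin 3 × Fin 3 × Fin 3, el (a, (0, 0, 0), 0, 0) = bel a := by decide +kernel

theorem mem_base_iff (k : K) : el k ∈ base ↔ IsB k := by
  constructor
  · intro hk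
    have step : ∀ x ∈ ({c1, c2, c3} : Set P9), ∀ a, ∃ a', bel a' = x * bel a := by
      intro x hx a
      obtain ⟨⟨a1, h1⟩, ⟨a2, h2⟩, a3, h3⟩ := base_left a
      simp only [Set.mem_insert_iff, Set.mem_singleton_iff] at hx
      rcases hx with rfl | rfl | rfl
      exacts [⟨a1, Equiv.ext h1⟩, ⟨a2, Equiv.ext h2⟩, ⟨a3, Equiv.ext h3⟩]
    obtain ⟨a, ha⟩ : ∃ a, bel a = el k := by
      refine Subgroup.closure_induction_left (p := fun x _ => ∃ a, bel a = x)
        ⟨(0, 0, 0), by decide +kernel⟩ ?_ ?_ hk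
      · rintro x hx y _ ⟨a, rfl⟩
        exact step x hx a
      · rintro x hx y _ ⟨a, rfl⟩
        obtain ⟨a', ha'⟩ := step x hx a
        obtain ⟨a'', ha''⟩ := step x hx a'
        refine ⟨a'', ?_⟩
        have h3 : x ^ 3 = 1 := by
          simp only [Set.mem_insert_iff, Set.mem_singleton_iff] at hx
          rcases hx with rfl | rfl | rfl <;> decide +kernel
        rw [ha'', ha', ← mul_assoc, eq_inv_of_mul_eq_one_left (a := x * x) (b := x) (by
          rw [← h3, pow_succ, pow_two])]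
    rw [← el_base] at ha
    rw [← el_injective ha]
    rfl
  · intro hk
    obtain ⟨⟨a, b, c⟩, s⟩ := k
    obtain rfl : s = ((0, 0, 0), 0, 0) := hk
    rw [el_base]
    refine mul_mem (mul_mem ?_ ?_) ?_ <;> exact pow_mem (Subgroup.subset_closure (by simp)) _

theorem ev_kmul (k l : K) (hk : IsEv k) (hl : IsEv l) : IsEv (kmul k l) := by
  obtain ⟨a, ⟨x, y, z⟩, t, r⟩ := k
  obtain ⟨a', ⟨x', y', z'⟩, q'⟩ := l
  have key : ∀ (t : Fin 2) (r : Fin 3) (x y z x' y' z' : Fin 2),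
      ((x : ℕ) + y + z) % 2 = 0 → ((x' : ℕ) + y' + z') % 2 = 0 →
      (let u := (x, y, z) + qperm (t, r) (x', y', z'); ((u.1 : ℕ) + u.2.1 + u.2.2) % 2 = 0) := by
    decide +kernel
  exact key t r x y z x' y' z' hk hl

theorem sgn_ev : ∀ s : Fin 2 × Fin 2 × Fin 2, ((s.1 : ℕ) + s.2.1 + s.2.2) % 2 = 0 →
    sgn s = 1 ∨ sgn s = d1 * d2 ∨ sgn s = d2 * d3 ∨ sgn s = d1 * d2 * (d2 * d3) := by
  decide +kernel

theorem W4_le : W4 ≤ W := by
  rw [W4, Subgroup.closure_le]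
  have h : ∀ x ∈ ({c1, c2, c3, d1, d2, d3, rot, tau} : Set P9), x ∈ W := fun x hx =>
    Subgroup.subset_closure hx
  rintro x (rfl | rfl | rfl | rfl | rfl | rfl | rfl)
  exacts [h _ (by simp), h _ (by simp), h _ (by simp), h _ (by simp), h _ (by simp),
    mul_mem (h _ (by simp)) (h _ (by simp)), mul_mem (h _ (by simp)) (h _ (by simp))]

theorem mem_W4_iff (k : K) : el k ∈ W4 ↔ IsEv k := by
  constructor
  · intro hk
    have step : ∀ x ∈ ({c1, c2, c3, rot, tau, d1 * d2, d2 * d3} : Set P9), ∀ k, IsEv k →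
        ∃ k', IsEv k' ∧ el k' = x * el k := by
      intro x hx k hk
      obtain ⟨e1, e2, e3, e4, e5, e6, e7, e8⟩ := gens_el
      have hg : ∃ kx, IsEv kx ∧ el kx = x := by
        simp only [Set.mem_insert_iff, Set.mem_singleton_iff] at hx
        rcases hx with rfl | rfl | rfl | rfl | rfl | rfl | rfl
        exacts [⟨_, by decide, e1⟩, ⟨_, by decide, e2⟩, ⟨_, by decide, e3⟩, ⟨_, by decide, e7⟩,
          ⟨_, by decide, e8⟩, ⟨((0, 0, 0), (1, 1, 0), 0, 0), by decide, by decide +kernel⟩,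
          ⟨((0, 0, 0), (0, 1, 1), 0, 0), by decide, by decide +kernel⟩]
      obtain ⟨kx, hkx, rfl⟩ := hg
      exact ⟨kmul kx k, ev_kmul _ _ hkx hk, (el_mul kx k).symm⟩
    obtain ⟨k', hk', e⟩ : ∃ k', IsEv k' ∧ el k' = el k := by
      refine Subgroup.closure_induction_left (p := fun x _ => ∃ k', IsEv k' ∧ el k' = x)
        ⟨((0, 0, 0), (0, 0, 0), 0, 0), by decide, by decide +kernel⟩ ?_ ?_ hk
      · rintro x hx y _ ⟨a, ha, rfl⟩
        exact step x hx a ha
      · rintro x hx y _ ⟨a, ha, rfl⟩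
        have key : ∀ m : ℕ, ∃ k', IsEv k' ∧ el k' = x ^ m * el a := by
          intro m
          induction m with
          | zero => exact ⟨a, ha, by simp⟩
          | succ m ih =>
            obtain ⟨k1, hk1, e1⟩ := ih
            obtain ⟨k2, hk2, e2⟩ := step x hx k1 hk1
            exact ⟨k2, hk2, by rw [e2, e1, pow_succ', mul_assoc]⟩
        obtain ⟨k1, hk1, e1⟩ := key (orderOf x - 1)
        refine ⟨k1, hk1, ?_⟩
        rw [e1, inv_eq_of_mul_eq_one_left (a := x ^ (orderOf x - 1)) (b := x)]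
        rw [← pow_succ, Nat.sub_add_cancel (orderOf_pos x), pow_orderOf_eq_one]
    rwa [← el_injective e]
  · intro hk
    obtain ⟨⟨a, b, c⟩, s, t, r⟩ := k
    have hs : sgn s ∈ W4 := by
      rcases sgn_ev s hk with e | e | e | e <;> rw [e]
      · exact one_mem _
      · exact Subgroup.subset_closure (by simp)
      · exact Subgroup.subset_closure (by simp)
      · exact mul_mem (Subgroup.subset_closure (by simp)) (Subgroup.subset_closure (by simp))
    refine mul_mem (mul_mem (mul_mem (mul_mem (mul_mem ?_ ?_) ?_) hs) ?_) ?_ <;>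
      exact pow_mem (Subgroup.subset_closure (by simp)) _

/-- Named coordinates. -/
def kc1 : K := ((1, 0, 0), (0, 0, 0), 0, 0)
def kc2 : K := ((0, 1, 0), (0, 0, 0), 0, 0)
def kc3 : K := ((0, 0, 1), (0, 0, 0), 0, 0)
def kj : K := ((1, 1, 0), (0, 0, 0), 0, 0)
def kx : K := ((1, 1, 1), (0, 0, 0), 0, 0)
def kd1 : K := ((0, 0, 0), (1, 0, 0), 0, 0)
def kd3 : K := ((0, 0, 0), (0, 0, 1), 0, 0)
def kv : K := ((0, 0, 0), (1, 1, 0), 0, 0)
def kt : K := ((0, 0, 0), (0, 0, 0), 1, 0)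
def ktv : K := ((0, 0, 0), (1, 1, 0), 1, 0)
def kte : K := ((0, 0, 0), (0, 0, 1), 1, 0)
def ktz : K := ((0, 0, 0), (1, 1, 1), 1, 0)
def krot : K := ((0, 0, 0), (0, 0, 0), 0, 1)

/-- Commuting in the model. -/
def Cm (k l : K) : Prop := el k * el l = el l * el k

theorem cm_kmul (k l : K) : Cm k l ↔ kmul k l = kmul l k := by
  rw [Cm, el_mul, el_mul, el_injective.eq_iff]

instance (k l : K) : Decidable (Cm k l) := decidable_of_iff _ (cm_kmul k l).symm
instance (k : K) : DecidablePred (Cm k) := fun l => inferInstanceAs (Decidable (Cm k l))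

/-- The neutral coordinates. -/
def kone : K := ((0, 0, 0), (0, 0, 0), 0, 0)

theorem el_sq (k : K) : el k ^ 2 = 1 ↔ kmul k k = kone := by
  rw [pow_two, el_mul, ← el_one, el_injective.eq_iff]; rfl

theorem el_cube (k : K) : el k ^ 3 = 1 ↔ kmul k (kmul k k) = kone := by
  rw [pow_three, el_mul, el_mul, ← el_one, el_injective.eq_iff]; rfl

theorem el_ne_one (k : K) : el k ≠ 1 ↔ k ≠ kone := by
  rw [ne_eq, ← el_one, el_injective.eq_iff]; rfl

/-- Elements of order three outside the base centralise at most three elements of the base. -/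
theorem cube_diag : ∀ k : K, el k ^ 3 = 1 → ¬ IsB k →
    Fintype.card {a : Fin 3 × Fin 3 × Fin 3 // Cm k (a, (0, 0, 0), 0, 0)} ≤ 3 := by
  simp only [el_cube]
  decide +kernel

theorem cube_cent_j : ∀ k : K, el k ^ 3 = 1 → Cm k kj → IsB k := by
  simp only [el_cube]
  decide +kernel

/-- Weight one against weight two. -/
theorem not_conj_weight : ∀ k : K, ∀ i ∈ [kc1, kc2, kc3],
    el k * el i ≠ el kj * el k ∧ el k * el i ≠ el kj * el kj * el k := by
  simp only [el_mul, ne_eq, el_injective.eq_iff]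
  decide +kernel

theorem cards :
    Fintype.card {k : K // Cm k kt} = 72 ∧
    Fintype.card {k : K // Cm k kt ∧ Cm k kj ∧ Cm k kc3} = 18 ∧
    Fintype.card {k : K // IsB k ∧ Cm k kt} = 9 ∧
    Fintype.card {k : K // Cm k kte ∧ Cm k kj} = 12 ∧
    Fintype.card {k : K // Cm k kv ∧ Cm k kc3} = 24 ∧
    Fintype.card {k : K // Cm k kd3 ∧ Cm k kv} = 16 ∧
    Fintype.card {k : K // IsB k ∧ Cm k kd3} = 9 ∧
    Fintype.card {k : K // (Cm k kd3 ∧ Cm k kv) ∧ IsEv k} = 8 ∧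
    Fintype.card {k : K // (Cm k kd3 ∧ Cm k kv) ∧ k.2.2.1 = 0} = 8 ∧
    Fintype.card {k : K // IsB k} = 27 ∧
    Fintype.card {k : K // IsEv k} = 648 := by
  decide +kernel

set_option synthInstance.maxSize 2000 in
set_option synthInstance.maxHeartbeats 200000 in
/-- The involutions of `U₀`. -/
theorem invol_U : ∀ k : K, Cm k kd3 → Cm k kv → el k ^ 2 = 1 → el k ≠ 1 →
    (k.1 = ((0, 0, 0) : Fin 3 × Fin 3 × Fin 3) ∧ k.2.2 = ((0, 0) : Fin 2 × Fin 3)) ∨ k = kt ∨ k = ktv ∨ k = kte ∨ k = ktz := by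
  simp only [el_sq, el_ne_one]
  decide +kernel

/-- Every sign element has centraliser divisible by sixteen. -/
theorem sign_sixteen : ∀ s : Fin 2 × Fin 2 × Fin 2, s ≠ (0, 0, 0) →
    16 ∣ Fintype.card {k : K // Cm k ((0, 0, 0), s, 0, 0)} := by
  decide +kernel

/-- Every sign element centralises an element of weight one or the block rotation. -/
theorem sign_three : ∀ s : Fin 2 × Fin 2 × Fin 2,
    ∃ i ∈ [kc1, kc2, kc3, krot], Cm i ((0, 0, 0), s, 0, 0) := by
  decide +kernel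

theorem square_cent_tau : ∀ k : K, Cm k kt → IsB (kmul k k) := by
  decide +kernel

theorem conj_te : el kd1 * el kte * el kd1 = el ktz ∧ el kd1 * el kt * el kd1 = el ktv ∧
    el kd1 * el kd1 = 1 := by
  decide +kernel

theorem small : el kj * el kj * el kj = 1 ∧ el kc3 ≠ 1 ∧ el kj ≠ 1 ∧ el kt ^ 2 = 1 ∧ el kt ≠ 1 ∧
    el kte ^ 2 = 1 ∧ el kte ≠ 1 ∧ el kd3 ^ 2 = 1 ∧ el kd3 ≠ 1 ∧ el krot ^ 3 = 1 ∧ el krot ≠ 1 ∧
    el kc1 ^ 3 = 1 ∧ el kc2 ^ 3 = 1 ∧ el kc3 ^ 3 = 1 ∧ el kc1 ≠ 1 ∧ el kc2 ≠ 1 ∧ el kx ≠ 1 := by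
  decide +kernel

set_option synthInstance.maxSize 2000 in
set_option synthInstance.maxHeartbeats 200000 in
/-- The sign elements inside `U₀`. -/
theorem signs_U : Fintype.card {k : K // Cm k kd1 ∧ Cm k kd3 ∧ Cm k kv} = 8 ∧
    ∀ k : K, Cm k kd1 → Cm k kd3 → Cm k kv → k.1 = ((0, 0, 0) : Fin 3 × Fin 3 × Fin 3) ∧
      k.2.2 = ((0, 0) : Fin 2 × Fin 3) := by
  decide +kernel

/-- The even sign elements are conjugates of `d₁d₂`. -/
theorem even_sign : ∀ s : Fin 2 × Fin 2 × Fin 2, ((s.1 : ℕ) + s.2.1 + s.2.2) % 2 = 0 → s ≠ (0, 0, 0) →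
    ∃ r : Fin 3, el ((0, 0, 0), (0, 0, 0), 0, r) * el kv = el ((0, 0, 0), s, 0, 0) * el ((0, 0, 0), (0, 0, 0), 0, r) := by
  decide +kernel

theorem gen_facts : el kt = tau ∧ el kd3 = d3 ∧ el kd1 = d1 ∧ el krot = rot ∧ el kte = el kt * el kd3 ∧
    rot * d3 * rot⁻¹ = d1 ∧ rot * d1 * rot⁻¹ = d2 ∧ ¬ IsEv kd3 ∧ ¬ IsEv kte ∧ ¬ IsEv ktz := by
  decide +kernel

end Cfsg.Agent.S9Full37
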