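import Mathlib
import Cfsg.Agent.Lib.S9FullModel37

/-!
The monomial automiser in the local case: coordinates, fusion in the base and small Sylow subgroups of
involution centralisers.
-/

set_option autoImplicit false
set_option linter.unusedSectionVars false

namespace Cfsg.Agent.S9Full37

open Subgroup S9Model37

universe u

variable {G : Type u} [Group G]

theorem base_cube : ∀ a : Fin 3 × Fin 3 × Fin 3, el (a, (0, 0, 0), 0, 0) ^ 3 = 1 := by decide +kernel

/-- Two-element version of membership in a cyclic group of order three. -/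
theorem zpowers_cases {x y : G} (hx : x ^ 3 = 1) (hy : y ∈ zpowers x) : y = 1 ∨ y = x ∨ y = x * x := by
  obtain ⟨k, rfl⟩ := mem_zpowers_iff.1 hy
  have h : x ^ k = x ^ (k % 3) := by
    conv_lhs => rw [← Int.emod_add_mul_ediv k 3, zpow_add, zpow_mul]
    norm_cast
    rw [hx, one_zpow, mul_one]
  rw [h]
  have h1 := Int.emod_nonneg k (by norm_num : (3 : ℤ) ≠ 0)
  have h2 := Int.emod_lt_of_pos k (by norm_num : (0 : ℤ) < 3)
  interval_cases h3 : k % 3
  · exact Or.inl (zpow_zero _)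
  · exact Or.inr (Or.inl (zpow_one _))
  · exact Or.inr (Or.inr (by rw [zpow_two]))

theorem card_centralizer_conj (g x : G) :
    Nat.card ↥(centralizer ({g * x * g⁻¹} : Set G)) = Nat.card ↥(centralizer ({x} : Set G)) := by
  refine (Nat.card_congr ((MulAut.conj g).toEquiv.subtypeEquiv (fun y => ?_))).symm
  show y ∈ centralizer {x} ↔ g * y * g⁻¹ ∈ centralizer {g * x * g⁻¹}
  simp only [mem_centralizer_singleton_iff]
  constructor
  · intro h
    calc g * y * g⁻¹ * (g * x * g⁻¹) = g * (y * x) * g⁻¹ := by group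
      _ = g * x * g⁻¹ * (g * y * g⁻¹) := by rw [h]; group
  · intro h
    calc y * x = g⁻¹ * (g * y * g⁻¹ * (g * x * g⁻¹)) * g := by group
      _ = x * y := by rw [h]; group

/-- The image in the group of a coordinate. -/
def e (φ : W →* G) (k : K) : G := φ (elW k)

variable [Finite G] {J : Subgroup G} {φ : W →* G} (h : Base W J φ)
include h

local notation "𝐍" => Subgroup.normalizer (J : Set G)

theorem e_inj : Function.Injective (e φ) := h.inj.comp elW_bijective.1

theorem mem_N_iff {g : G} : g ∈ 𝐍 ↔ ∃ k, e φ k = g := by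
  rw [← h.range_eq]
  constructor
  · rintro ⟨w, rfl⟩
    obtain ⟨k, rfl⟩ := elW_bijective.2 w
    exact ⟨k, rfl⟩
  · rintro ⟨k, rfl⟩
    exact ⟨_, rfl⟩

theorem e_mem (k : K) : e φ k ∈ 𝐍 := (mem_N_iff h).2 ⟨k, rfl⟩

theorem mul_eq_iff (k l m n : K) : e φ k * e φ l = e φ m * e φ n ↔ el k * el l = el m * el n := by
  simp only [e, ← map_mul]
  rw [h.inj.eq_iff, Subtype.ext_iff]
  rfl

theorem mul3_eq_iff (k l m n o : K) :
    e φ k * e φ l = e φ m * e φ n * e φ o ↔ el k * el l = el m * el n * el o := by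
  simp only [e, ← map_mul]
  rw [h.inj.eq_iff, Subtype.ext_iff]
  rfl

theorem cm_iff (k l : K) : e φ k * e φ l = e φ l * e φ k ↔ Cm k l := mul_eq_iff h k l l k

theorem mem_cent_iff (k l : K) : e φ k ∈ centralizer ({e φ l} : Set G) ↔ Cm k l :=
  mem_centralizer_singleton_iff.trans (cm_iff h k l)

theorem pow_eq_one_iff' (k : K) (n : ℕ) : e φ k ^ n = 1 ↔ el k ^ n = 1 := by
  rw [e, ← map_pow, ← map_one φ, h.inj.eq_iff, Subtype.ext_iff]
  rfl

theorem eq_one_iff' (k : K) : e φ k = 1 ↔ el k = 1 := by simpa using pow_eq_one_iff' h k 1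

theorem mem_J_iff (k : K) : e φ k ∈ J ↔ IsB k := by
  rw [← mem_base_iff k]
  constructor
  · intro hk
    rw [← h.base_eq] at hk
    obtain ⟨u, hu, hu'⟩ := Subgroup.mem_map.1 hk
    obtain rfl := h.inj hu'
    exact hu
  · intro hk
    rw [← h.base_eq]
    exact Subgroup.mem_map_of_mem φ (Subgroup.mem_subgroupOf.2 hk)

theorem exists_J {g : G} (hg : g ∈ J) : ∃ k, IsB k ∧ e φ k = g := by
  obtain ⟨k, rfl⟩ := (mem_N_iff h).1 (le_normalizer hg)
  exact ⟨k, (mem_J_iff h k).1 hg, rfl⟩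

theorem card_of_model (H : Subgroup G) (hH : H ≤ 𝐍) (p : K → Prop) [DecidablePred p]
    (hp : ∀ k, e φ k ∈ H ↔ p k) : Nat.card H = Fintype.card {k : K // p k} := by
  rw [← Nat.card_eq_fintype_card]
  refine (Nat.card_congr (Equiv.ofBijective (fun k => (⟨e φ k.1, (hp _).2 k.2⟩ : H)) ⟨?_, ?_⟩)).symm
  · exact fun a b hab => Subtype.ext (e_inj h (congrArg Subtype.val hab))
  · rintro ⟨g, hg⟩
    obtain ⟨k, rfl⟩ := (mem_N_iff h).1 (hH hg)
    exact ⟨⟨k, (hp k).1 hg⟩, rfl⟩

theorem card_N : Nat.card 𝐍 = 1296 := by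
  rw [← h.range_eq, ← Nat.card_congr (MonoidHom.ofInjective h.inj).toEquiv, card_W]

theorem card_J : Nat.card J = 27 :=
  (card_of_model h J le_normalizer IsB (mem_J_iff h)).trans cards.2.2.2.2.2.2.2.2.2.1

theorem J_comm {a b : G} (ha : a ∈ J) (hb : b ∈ J) : a * b = b * a :=
  (Subgroup.mem_centralizer_iff.1 (h.cJ.ge ha) b hb).symm

theorem J_cube {a : G} (ha : a ∈ J) : a ^ 3 = 1 := by
  obtain ⟨k, hk, rfl⟩ := exists_J h ha
  rw [pow_eq_one_iff' h]
  obtain ⟨k1, k2⟩ := k
  obtain rfl : k2 = ((0, 0, 0), 0, 0) := hk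
  exact base_cube k1

/-- An element conjugating a nontrivial element of the base into the base normalises it. -/
theorem tight (hloc : ∀ j ∈ J, j ≠ 1 → centralizer ({j} : Set G) ≤ 𝐍) {a g : G} (ha : a ∈ J)
    (ha1 : a ≠ 1) (hg : g * a * g⁻¹ ∈ J) : g ∈ 𝐍 := by
  classical
  set c := MulAut.conj g with hc
  set A := J.map c.toMonoidHom with hA
  have hAJ : Nat.card A = 27 := (Subgroup.card_map_of_injective c.injective).trans (card_J h)
  have hAcomm : ∀ x ∈ A, ∀ y ∈ A, x * y = y * x := by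
    rintro _ ⟨x, hx, rfl⟩ _ ⟨y, hy, rfl⟩
    rw [← map_mul, ← map_mul, J_comm h hx hy]
  have hb1 : g * a * g⁻¹ ≠ 1 := fun e1 => ha1 (by simpa using e1)
  have hAN : A ≤ 𝐍 := fun x hx => hloc _ hg hb1
    (mem_centralizer_singleton_iff.2 (hAcomm x hx _ (Subgroup.mem_map_of_mem _ ha)))
  have hAle : A ≤ J := by
    intro x hx
    by_contra hxJ
    obtain ⟨k, rfl⟩ := (mem_N_iff h).1 (hAN hx)
    have hk3 : el k ^ 3 = 1 := by
      rw [← pow_eq_one_iff' h]
      obtain ⟨y, hy, hy'⟩ := Subgroup.mem_map.1 hx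
      rw [← hy', ← map_pow, J_cube h hy, map_one]
    have h3 := cube_diag k hk3 fun hB => hxJ ((mem_J_iff h k).2 hB)
    -- the intersection is small
    have hle : Nat.card ↥(A ⊓ J) ≤ 3 := by
      refine le_trans ?_ h3
      rw [← Nat.card_eq_fintype_card]
      choose l hl hl' using fun y : ↥(A ⊓ J) => exists_J h y.2.2
      refine Nat.card_le_card_of_injective (fun y => ⟨(l y).1, ?_⟩) ?_
      · have e1 : ((l y).1, (0, 0, 0), (0 : Fin 2), (0 : Fin 3)) = l y := Prod.ext rfl (hl y).symm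
        rw [e1, ← cm_iff h, hl' y]
        exact hAcomm _ hx _ y.2.1
      · intro y z hyz
        have e1 : l y = l z := Prod.ext (congrArg Subtype.val hyz) ((hl y).trans (hl z).symm)
        exact Subtype.ext (by rw [← hl' y, ← hl' z, e1])
    -- and large
    have h1 := (J.subgroupOf A).card_mul_index
    have hsub : Nat.card ↥(J.subgroupOf A) = Nat.card ↥(A ⊓ J) := by
      rw [← Subgroup.inf_subgroupOf_right J A,
        Nat.card_congr (Subgroup.subgroupOfEquivOfLe inf_le_right).toEquiv, inf_comm]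
    rw [hsub, hAJ] at h1
    have h2 : (J.subgroupOf A).index ∣ 48 := by
      haveI : (J.subgroupOf 𝐍).Normal := Subgroup.normal_in_normalizer
      have hidx : (J.subgroupOf 𝐍).index = 48 := by
        have := (J.subgroupOf 𝐍).card_mul_index
        rw [Nat.card_congr (Subgroup.subgroupOfEquivOfLe le_normalizer).toEquiv, card_J h, card_N h] at this
        omega
      have := Subgroup.relIndex_dvd_index_of_normal (J.subgroupOf 𝐍) (A.subgroupOf 𝐍)
      rwa [hidx, Subgroup.relIndex_subgroupOf hAN] at this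
    have h48 : (J.subgroupOf A).index ≤ 3 := by
      have : (J.subgroupOf A).index ∣ Nat.gcd 27 48 :=
        Nat.dvd_gcd ⟨_, (mul_comm _ _).trans h1 |>.symm⟩ h2
      exact Nat.le_of_dvd (by norm_num) this
    nlinarith [hle, h48, h1]
  have hAeq : A = J := Subgroup.eq_of_le_of_card_ge hAle (by rw [hAJ, card_J h])
  rw [mem_normalizer_iff]
  intro x
  have := Subgroup.mem_map_iff_mem (K := J) (x := x) (f := c.toMonoidHom) c.injective
  rw [← hA, hAeq] at this
  exact this.symm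

/-- Weight one, and the block rotation, are not fused to weight two. -/
theorem not_conj (hloc : ∀ j ∈ J, j ≠ 1 → centralizer ({j} : Set G) ≤ 𝐍) {i : K}
    (hi : i ∈ [kc1, kc2, kc3, krot]) (g : G) : g * e φ i * g⁻¹ ∉ zpowers (e φ kj) := by
  intro hg
  have hjJ : e φ kj ∈ J := (mem_J_iff h kj).2 rfl
  obtain ⟨s1, -, -, -, -, -, -, -, -, sr3, sr1, s13, s23, s33, s11, s21, sx⟩ := small
  have hi1 : el i ≠ 1 := by
    simp only [List.mem_cons, List.not_mem_nil, or_false] at hi
    rcases hi with rfl | rfl | rfl | rfl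
    exacts [s11, s21, small.2.1, sr1]
  have hne : g * e φ i * g⁻¹ ≠ 1 := fun e1 => hi1 ((eq_one_iff' h i).1 (by simpa using e1))
  have hmemJ : g * e φ i * g⁻¹ ∈ J := (Subgroup.zpowers_le.2 hjJ) hg
  have hgN : g ∈ 𝐍 := by
    simp only [List.mem_cons, List.not_mem_nil, or_false] at hi
    rcases hi with rfl | rfl | rfl | rfl
    · exact tight h hloc ((mem_J_iff h kc1).2 rfl) (fun e1 => s11 ((eq_one_iff' h _).1 e1)) hmemJ
    · exact tight h hloc ((mem_J_iff h kc2).2 rfl) (fun e1 => s21 ((eq_one_iff' h _).1 e1)) hmemJ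
    · exact tight h hloc ((mem_J_iff h kc3).2 rfl) (fun e1 => small.2.1 ((eq_one_iff' h _).1 e1)) hmemJ
    · -- the element of weight three commutes with the rotation
      set x := e φ kx with hx
      have hxJ : x ∈ J := (mem_J_iff h kx).2 rfl
      set y := g * x * g⁻¹ with hy
      have hxr : x * e φ krot = e φ krot * x := (cm_iff h kx krot).2 (by decide +kernel)
      have hyr : y * (g * e φ krot * g⁻¹) = (g * e φ krot * g⁻¹) * y := by
        rw [hy, show g * x * g⁻¹ * (g * e φ krot * g⁻¹) = g * (x * e φ krot) * g⁻¹ by group, hxr]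
        group
      have hyN : y ∈ 𝐍 := hloc _ hmemJ hne (mem_centralizer_singleton_iff.2 hyr)
      have hyj : y * e φ kj = e φ kj * y := by
        rcases zpowers_cases (J_cube h hjJ) hg with e1 | e1 | e1
        · exact absurd e1 hne
        · rwa [e1] at hyr
        · rw [e1] at hyr
          have h4 : e φ kj * e φ kj * (e φ kj * e φ kj) = e φ kj := by
            have h3 := J_cube h hjJ
            rw [pow_succ, pow_two] at h3
            rw [← mul_assoc, h3, one_mul]
          have := ((show Commute y (e φ kj * e φ kj) from hyr).mul_right hyr)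
          rw [h4] at this
          exact this
      obtain ⟨k, hk⟩ := (mem_N_iff h).1 hyN
      rw [← hk] at hyj
      have hkB : IsB k := cube_cent_j k ((pow_eq_one_iff' h k 3).1 (by
        rw [hk, hy, conj_pow, J_cube h hxJ]; group)) ((cm_iff h _ _).1 hyj)
      exact tight h hloc hxJ (fun e1 => sx ((eq_one_iff' h _).1 e1)) (hy ▸ hk ▸ (mem_J_iff h k).2 hkB)
  have hiJ : e φ i ∈ J := (mem_normalizer_iff.1 hgN _).2 hmemJ
  obtain ⟨k, hk⟩ := (mem_N_iff h).1 hgN
  simp only [List.mem_cons, List.not_mem_nil, or_false] at hi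
  have hnc : ∀ i ∈ [kc1, kc2, kc3], i ∈ [kc1, kc2, kc3] → g * e φ i * g⁻¹ ∈ zpowers (e φ kj) → el i ≠ 1 → False := by
    intro i _ hi hg hi1
    rcases zpowers_cases (J_cube h hjJ) hg with e1 | e1 | e1
    · exact hi1 ((eq_one_iff' h i).1 (by simpa using e1))
    · rw [← hk, mul_inv_eq_iff_eq_mul] at e1
      exact (not_conj_weight k i hi).1 ((mul_eq_iff h _ _ _ _).1 e1)
    · rw [← hk, mul_inv_eq_iff_eq_mul] at e1
      exact (not_conj_weight k i hi).2 ((mul3_eq_iff h _ _ _ _ _).1 e1)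
  rcases hi with rfl | rfl | rfl | rfl
  · exact hnc _ (by simp) (by simp) hg hi1
  · exact hnc _ (by simp) (by simp) hg hi1
  · exact hnc _ (by simp) (by simp) hg hi1
  · exact absurd ((mem_J_iff h krot).1 hiJ) (by decide +kernel)

/-- A small centraliser: the element of weight one or two generates a Sylow `3`-subgroup. -/
theorem three_small (hloc : ∀ j ∈ J, j ≠ 1 → centralizer ({j} : Set G) ≤ 𝐍) {s j : G} (hj : j ∈ J)
    (hj1 : j ≠ 1) (hsj : j * s = s * j)
    (h9 : ¬ 9 ∣ Nat.card ↥(centralizer ({s} : Set G) ⊓ (centralizer ({j} : Set G) ⊓ 𝐍))) :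
    ¬ 9 ∣ Nat.card ↥(centralizer ({s} : Set G)) ∧
      ∀ r : G, r * s = s * r → r ^ 3 = 1 → ∃ g : G, g * r * g⁻¹ ∈ zpowers j := by
  classical
  haveI : Fact (Nat.Prime 3) := ⟨Nat.prime_three⟩
  set C := centralizer ({s} : Set G) with hC
  have hjC : j ∈ C := mem_centralizer_singleton_iff.2 hsj
  set H : Subgroup C := zpowers ⟨j, hjC⟩ with hH
  have hH3 : Nat.card H = 3 ^ 1 := by
    rw [hH, Nat.card_zpowers, Subgroup.orderOf_mk, orderOf_eq_prime (J_cube h hj) hj1, pow_one]
  have h9C : ¬ 9 ∣ Nat.card C := by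
    intro hd
    obtain ⟨R, hR, hHR⟩ := Sylow.exists_subgroup_card_pow_succ (p := 3) (n := 1) (by simpa using hd) hH3
    apply h9
    have hRc : ∀ x y : R, x * y = y * x := fun x y => (IsPGroup.isMulCommutative_of_card_eq_prime_sq hR).is_comm.comm x y
    have hle : R.map C.subtype ≤ C ⊓ (centralizer ({j} : Set G) ⊓ 𝐍) := by
      rintro _ ⟨x, hx, rfl⟩
      have hxj : (x : G) * j = j * x := congrArg (fun y : R => ((y : C) : G))
        (hRc ⟨x, hx⟩ ⟨⟨j, hjC⟩, hHR (mem_zpowers _)⟩)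
      exact ⟨x.2, mem_centralizer_singleton_iff.2 hxj, hloc j hj hj1 (mem_centralizer_singleton_iff.2 hxj)⟩
    have := Subgroup.card_dvd_of_le hle
    rw [Subgroup.card_map_of_injective C.subtype_injective, hR] at this
    simpa using this
  refine ⟨h9C, fun r hr hr3 => ?_⟩
  have hrC : r ∈ C := mem_centralizer_singleton_iff.2 hr
  obtain ⟨P, hP⟩ := (IsPGroup.of_card hH3).exists_le_sylow
  have hPH : (P : Subgroup C) = H := by
    obtain ⟨n, hn⟩ := IsPGroup.iff_card.1 P.2
    have hn1 : n ≤ 1 := by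
      by_contra hn1
      exact h9C ((show (9 : ℕ) ∣ 3 ^ n from ⟨3 ^ (n - 2), by
        rw [show (9 : ℕ) = 3 ^ 2 by norm_num, ← pow_add]; congr 1; omega⟩).trans
        (hn ▸ Subgroup.card_subgroup_dvd_card _))
    exact (Subgroup.eq_of_le_of_card_ge hP (by rw [hn, hH3]; exact Nat.pow_le_pow_right (by norm_num) hn1)).symm
  have hr' : IsPGroup 3 (zpowers (⟨r, hrC⟩ : C)) := by
    rintro ⟨x, hx⟩
    refine ⟨1, Subtype.ext ?_⟩
    obtain ⟨i, rfl⟩ := mem_zpowers_iff.1 hx
    show ((⟨r, hrC⟩ : C) ^ i) ^ (3 ^ 1) = 1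
    rw [pow_one, ← zpow_natCast, zpow_comm, zpow_natCast,
      show (⟨r, hrC⟩ : C) ^ 3 = 1 from Subtype.ext hr3, one_zpow]
  obtain ⟨Q, hQ⟩ := hr'.exists_le_sylow
  obtain ⟨c, hc⟩ := MulAction.exists_smul_eq C Q P
  refine ⟨c, ?_⟩
  have hm : c * ⟨r, hrC⟩ * c⁻¹ ∈ (P : Subgroup C) := by
    rw [← hc, Sylow.coe_subgroup_smul]
    exact ⟨⟨r, hrC⟩, hQ (mem_zpowers _), rfl⟩
  rw [hPH, hH] at hm
  obtain ⟨i, hi⟩ := mem_zpowers_iff.1 hm
  exact mem_zpowers_iff.2 ⟨i, by simpa using congrArg Subtype.val hi⟩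

end Cfsg.Agent.S9Full37
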