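import Mathlib
import Cfsg.Agent.Lib.S9FullBase37
import Cfsg.Agent.S3805

/-!
The monomial automiser in the local case: the centraliser of the exchange of two blocks.
-/

set_option autoImplicit false
set_option linter.unusedSectionVars false
set_option linter.style.haveILetI false

namespace Cfsg.Agent.S9Full37

open Subgroup S9Model37

universe u

variable {G : Type u} [Group G] [Finite G] {J : Subgroup G} {φ : W →* G}

local notation "𝐍" => Subgroup.normalizer (J : Set G)

theorem e_tau (h : Base W J φ) : e φ kt * e φ kt = 1 ∧ e φ kt ≠ 1 := by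
  obtain ⟨-, -, -, s2, s1, -⟩ := small
  refine ⟨?_, fun e1 => s1 ((eq_one_iff' h kt).1 e1)⟩
  rw [← pow_two, pow_eq_one_iff' h]
  exact s2

/-- The centraliser of the exchange of two blocks lies in the normaliser of the base. -/
theorem cent_tau_le (h : Base W J φ) (hloc : ∀ j ∈ J, j ≠ 1 → centralizer ({j} : Set G) ≤ 𝐍) :
    centralizer ({e φ kt} : Set G) ≤ 𝐍 := by
  classical
  haveI : Fact (Nat.Prime 3) := ⟨Nat.prime_three⟩
  obtain ⟨ht2, ht1⟩ := e_tau h
  obtain ⟨c72, c18, c9, -⟩ := cards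
  set t := e φ kt with htdef
  set C := centralizer ({t} : Set G) with hC
  have htC : t ∈ C := mem_centralizer_singleton_iff.2 rfl
  have hZn : ((zpowers t).subgroupOf C).Normal := by
    constructor
    intro n hn g
    rw [mem_subgroupOf] at hn ⊢
    obtain ⟨i, hi⟩ := mem_zpowers_iff.1 hn
    refine mem_zpowers_iff.2 ⟨i, ?_⟩
    have hg : Commute (g : G) t := mem_centralizer_singleton_iff.1 g.2
    simp only [Subgroup.coe_mul, Subgroup.coe_inv, ← hi]
    rw [(hg.zpow_right i).eq, mul_inv_cancel_right]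
  set π : C →* C ⧸ (zpowers t).subgroupOf C := QuotientGroup.mk' _ with hπ
  have hsurj : Function.Surjective π := QuotientGroup.mk'_surjective _
  have hker : ∀ a : C, π a = 1 ↔ (a : G) = 1 ∨ (a : G) = t := by
    intro a
    rw [hπ, QuotientGroup.mk'_apply, QuotientGroup.eq_one_iff, mem_subgroupOf, mem_zpowers_iff]
    constructor
    · rintro ⟨i, hi⟩
      have hsq : t ^ (2 : ℤ) = 1 := by rw [zpow_two, ht2]
      have : t ^ i = t ^ (i % 2) := by
        conv_lhs => rw [← Int.emod_add_mul_ediv i 2, zpow_add, zpow_mul, hsq, one_zpow, mul_one]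
      rcases Int.emod_two_eq_zero_or_one i with e0 | e0 <;> rw [e0] at this
      · exact Or.inl (hi ▸ by rw [this, zpow_zero])
      · exact Or.inr (hi ▸ by rw [this, zpow_one])
    · rintro (e0 | e0)
      · exact ⟨0, by rw [e0, zpow_zero]⟩
      · exact ⟨1, by rw [e0, zpow_one]⟩
  have hkercard : Nat.card π.ker = 2 := by
    rw [hπ, QuotientGroup.ker_mk', Nat.card_congr (Subgroup.subgroupOfEquivOfLe (zpowers_le.2 htC)).toEquiv,
      Nat.card_zpowers, orderOf_eq_prime (by rw [pow_two, ht2]) ht1]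
  have hkerle : ∀ H : Subgroup G, t ∈ H → π.ker ≤ H.subgroupOf C := by
    intro H hH a ha
    rcases (hker a).1 ha with e0 | e0 <;> rw [mem_subgroupOf, e0]
    exacts [one_mem _, hH]
  have hmapcard : ∀ H : Subgroup G, H ≤ C → t ∈ H →
      Nat.card ((H.subgroupOf C).map π) * 2 = Nat.card H := by
    intro H hH hHt
    have h1 := Subgroup.card_mul_index (π.ker.subgroupOf (H.subgroupOf C))
    rw [Nat.card_congr (Subgroup.subgroupOfEquivOfLe (hkerle H hHt)).toEquiv, hkercard] at h1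
    have h2 : (π.ker.subgroupOf (H.subgroupOf C)).index = Nat.card ((H.subgroupOf C).map π) := by
      rw [← Subgroup.relIndex, ← MonoidHom.comap_bot, Subgroup.relIndex_comap, Subgroup.relIndex_bot_left]
    rw [h2, Nat.card_congr (Subgroup.subgroupOfEquivOfLe hH).toEquiv, mul_comm] at h1
    exact h1
  -- the plane
  set P := J ⊓ C with hP
  have hP9 : Nat.card P = 9 :=
    (card_of_model h P (inf_le_left.trans le_normalizer) (fun k => IsB k ∧ Cm k kt) fun k =>
      and_congr (mem_J_iff h k) (mem_cent_iff h k kt)).trans c9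
  set Pq := (P.subgroupOf C).map π with hPq
  have hcube : ∀ x : C, (x : G) ^ 3 = 1 → π x ∈ Pq → (x : G) ∈ P := by
    intro x hx hxq
    obtain ⟨p, hp, hpx⟩ := Subgroup.mem_map.1 hxq
    have h1 : π (p⁻¹ * x) = 1 := by rw [map_mul, map_inv, hpx, inv_mul_cancel]
    have hp3 : ((p : C) : G) ^ 3 = 1 := J_cube h (mem_subgroupOf.1 hp).1
    rcases (hker _).1 h1 with e0 | e0 <;> rw [Subgroup.coe_mul, Subgroup.coe_inv, inv_mul_eq_iff_eq_mul] at e0
    · rw [e0, mul_one]; exact mem_subgroupOf.1 hp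
    · exfalso
      have hc : Commute ((p : C) : G) t := mem_centralizer_singleton_iff.1 p.2
      rw [e0, hc.mul_pow, hp3, one_mul, pow_succ, pow_two, ht2, one_mul] at hx
      exact ht1 hx
  -- elements normalising the image of the plane
  have hc3P : e φ kc3 ∈ P := ⟨(mem_J_iff h kc3).2 rfl, (mem_cent_iff h kc3 kt).2 (by decide +kernel)⟩
  have hc31 : e φ kc3 ≠ 1 := fun e1 => small.2.1 ((eq_one_iff' h _).1 e1)
  have hnormN : ∀ g : C, (∀ x ∈ Pq, π g * x * (π g)⁻¹ ∈ Pq) → (g : G) ∈ 𝐍 := by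
    intro g hg
    have hm : π (g * ⟨e φ kc3, hc3P.2⟩ * g⁻¹) ∈ Pq := by
      rw [map_mul, map_mul, map_inv]
      exact hg _ (Subgroup.mem_map_of_mem π (mem_subgroupOf.2 hc3P))
    have hP' := hcube _ (by
      simp only [Subgroup.coe_mul, Subgroup.coe_inv, conj_pow, J_cube h hc3P.1]
      group) hm
    exact tight h hloc hc3P.1 hc31 hP'.1
  set M := C ⊓ 𝐍 with hM
  have htM : t ∈ M := ⟨htC, e_mem h kt⟩
  have hM72 : Nat.card M = 72 :=
    (card_of_model h M inf_le_right (fun k => Cm k kt) fun k =>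
      ⟨fun hk => (mem_cent_iff h k kt).1 hk.1, fun hk => ⟨(mem_cent_iff h k kt).2 hk, e_mem h k⟩⟩).trans c72
  have hMnorm : ∀ g ∈ M, ∀ x ∈ P, g * x * g⁻¹ ∈ P := fun g hg x hx =>
    ⟨(mem_normalizer_iff.1 hg.2 x).1 hx.1, C.mul_mem (C.mul_mem hg.1 hx.2) (C.inv_mem hg.1)⟩
  have hNeq : normalizer (Pq : Set (C ⧸ (zpowers t).subgroupOf C)) = (M.subgroupOf C).map π := by
    ext q
    obtain ⟨g, rfl⟩ := hsurj q
    constructor
    · intro hg
      exact Subgroup.mem_map_of_mem π (mem_subgroupOf.2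
        ⟨g.2, hnormN g fun x hx => (mem_normalizer_iff.1 hg x).1 hx⟩)
    · intro hg
      obtain ⟨m, hm, hme⟩ := Subgroup.mem_map.1 hg
      rw [← hme]
      have hfor : ∀ m : C, (m : G) ∈ M → ∀ x ∈ Pq, π m * x * (π m)⁻¹ ∈ Pq := by
        rintro m hm _ ⟨p, hp, rfl⟩
        rw [← map_inv, ← map_mul, ← map_mul]
        exact Subgroup.mem_map_of_mem π (mem_subgroupOf.2 (hMnorm _ hm _ (mem_subgroupOf.1 hp)))
      rw [mem_normalizer_iff]
      intro x
      refine ⟨hfor m hm x, fun hx => ?_⟩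
      have := hfor m⁻¹ (M.inv_mem hm) _ hx
      rwa [map_inv, inv_inv, mul_assoc, mul_assoc, inv_mul_cancel, mul_one, inv_mul_cancel_left] at this
  have hPqcard : Nat.card Pq = 9 := by
    rw [← hP9]
    refine (Nat.card_congr (Equiv.ofBijective
      (fun p : P => (⟨π ⟨p, p.2.2⟩, Subgroup.mem_map_of_mem π (mem_subgroupOf.2 p.2)⟩ : Pq)) ⟨?_, ?_⟩)).symm
    · intro a b hab
      have h1 : π (⟨a, a.2.2⟩⁻¹ * ⟨b, b.2.2⟩) = 1 := by
        rw [map_mul, map_inv, Subtype.mk.inj hab, inv_mul_cancel]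
      rcases (hker _).1 h1 with e0 | e0
      · exact Subtype.ext (inv_mul_eq_one.1 e0)
      · exfalso
        have h3 : ((a : G)⁻¹ * b) ^ 3 = 1 := J_cube h (mul_mem (inv_mem a.2.1) b.2.1)
        rw [show (a : G)⁻¹ * b = t from e0, pow_succ, pow_two, ht2, one_mul] at h3
        exact ht1 h3
    · rintro ⟨_, p, hp, rfl⟩
      exact ⟨⟨p, mem_subgroupOf.1 hp⟩, rfl⟩
  have hPqexp : ∀ x ∈ Pq, x ^ 3 = 1 := by
    rintro _ ⟨p, hp, rfl⟩
    rw [← map_pow, show (p : C) ^ 3 = 1 from Subtype.ext (J_cube h (mem_subgroupOf.1 hp).1), map_one]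
  have h27 : ¬ 27 ∣ Nat.card C := by
    intro hd
    have hPC : Nat.card (P.subgroupOf C) = 3 ^ 2 := by
      rw [Nat.card_congr (Subgroup.subgroupOfEquivOfLe inf_le_right).toEquiv, hP9]; norm_num
    obtain ⟨R, hR, hPR⟩ := Sylow.exists_subgroup_card_pow_succ (p := 3) (n := 2) (by simpa using hd) hPC
    have hnR : ((P.subgroupOf C).subgroupOf R).Normal := by
      haveI : Group.IsNilpotent R := (IsPGroup.of_card hR).isNilpotent
      refine Subgroup.NormalizerCondition.normal_of_coatom _ Group.normalizerCondition_of_isNilpotent ?_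
      have hi : ((P.subgroupOf C).subgroupOf R).index = 3 := by
        have := ((P.subgroupOf C).subgroupOf R).card_mul_index
        rw [Nat.card_congr (Subgroup.subgroupOfEquivOfLe hPR).toEquiv, hPC, hR] at this
        omega
      refine ⟨fun e0 => by rw [e0, Subgroup.index_top] at hi; omega, fun K hK => ?_⟩
      have hd' := Subgroup.relIndex_mul_index hK.le
      rw [hi] at hd'
      rcases (Nat.dvd_prime Nat.prime_three).1 ⟨_, hd'.symm⟩ with e0 | e0
      · exact absurd (Subgroup.relIndex_eq_one.1 e0) hK.not_ge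
      · rw [e0] at hd'
        exact Subgroup.index_eq_one.1 (by omega)
    have hRM : R.map C.subtype ≤ M := by
      rintro _ ⟨g, hg, rfl⟩
      refine ⟨g.2, hnormN g ?_⟩
      rintro _ ⟨p, hp, rfl⟩
      rw [← map_inv, ← map_mul, ← map_mul]
      exact Subgroup.mem_map_of_mem π (hnR.conj_mem ⟨p, hPR hp⟩ hp ⟨g, hg⟩)
    have := Subgroup.card_dvd_of_le hRM
    rw [Subgroup.card_map_of_injective C.subtype_injective, hR, hM72] at this
    norm_num at this
  have hindex : ¬ 3 ∣ Pq.index := by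
    intro hd
    apply h27
    obtain ⟨c, hc⟩ := hd
    have h1 := Subgroup.card_eq_card_quotient_mul_card_subgroup ((zpowers t).subgroupOf C)
    have h2 := Pq.card_mul_index
    rw [hPqcard, hc] at h2
    exact ⟨c * Nat.card ((zpowers t).subgroupOf C), by rw [h1, ← h2]; ring⟩
  set T : Sylow 3 (C ⧸ (zpowers t).subgroupOf C) :=
    (IsPGroup.of_card (hPqcard.trans (by norm_num : 9 = 3 ^ 2))).toSylow hindex with hT
  have hTP : (T : Subgroup (C ⧸ (zpowers t).subgroupOf C)) = Pq := rfl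
  have hcomm : ∀ x ∈ Pq, ∀ y ∈ Pq, x * y = y * x := by
    rintro _ ⟨a, ha, rfl⟩ _ ⟨b, hb, rfl⟩
    rw [← map_mul, ← map_mul]
    exact congrArg π (Subtype.ext (J_comm h (mem_subgroupOf.1 ha).1 (mem_subgroupOf.1 hb).1))
  -- self-centralising
  have hfix : ∀ g : C, ∀ p : G, ∀ hp : p ∈ P, π g * π ⟨p, hp.2⟩ = π ⟨p, hp.2⟩ * π g →
      (g : G) * p = p * g := by
    intro g p hp hg
    have h1 : π (g * ⟨p, hp.2⟩ * g⁻¹ * (⟨p, hp.2⟩ : C)⁻¹) = 1 := by
      rw [map_mul, map_mul, map_mul, map_inv, map_inv, hg]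
      group
    rcases (hker _).1 h1 with e0 | e0 <;>
      simp only [Subgroup.coe_mul, Subgroup.coe_inv, mul_inv_eq_iff_eq_mul] at e0
    · simpa using e0
    · exfalso
      have hc : Commute t p := (mem_centralizer_singleton_iff.1 hp.2).symm
      have h3 := congrArg (fun x => x ^ 3) (mul_inv_eq_iff_eq_mul.2 e0)
      simp only [conj_pow, J_cube h hp.1, hc.mul_pow, mul_one, mul_inv_cancel, pow_succ t 2, pow_two t, ht2,
        one_mul] at h3
      exact ht1 h3.symm
  set M' := C ⊓ (centralizer ({e φ kj} : Set G) ⊓ (centralizer ({e φ kc3} : Set G) ⊓ 𝐍)) with hM'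
  have hM'18 : Nat.card M' = 18 :=
    (card_of_model h M' (inf_le_right.trans (inf_le_right.trans inf_le_right))
      (fun k => Cm k kt ∧ Cm k kj ∧ Cm k kc3) fun k =>
      ⟨fun hk => ⟨(mem_cent_iff h k kt).1 hk.1, (mem_cent_iff h k kj).1 hk.2.1,
          (mem_cent_iff h k kc3).1 hk.2.2.1⟩,
        fun hk => ⟨(mem_cent_iff h k kt).2 hk.1, (mem_cent_iff h k kj).2 hk.2.1,
          (mem_cent_iff h k kc3).2 hk.2.2, e_mem h k⟩⟩).trans c18
  have hjP : e φ kj ∈ P := ⟨(mem_J_iff h kj).2 rfl, (mem_cent_iff h kj kt).2 (by decide +kernel)⟩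
  have hcent : centralizer (Pq : Set (C ⧸ (zpowers t).subgroupOf C)) = Pq := by
    refine le_antisymm ?_ fun x hx => mem_centralizer_iff.2 fun y hy => hcomm y hy x hx
    have htM' : t ∈ M' := ⟨htC, (mem_cent_iff h kt kj).2 (by decide +kernel),
      (mem_cent_iff h kt kc3).2 (by decide +kernel), e_mem h kt⟩
    have hM'eq : Pq = (M'.subgroupOf C).map π := by
      refine Subgroup.eq_of_le_of_card_ge ?_ ?_
      · refine Subgroup.map_mono fun x hx => ?_
        rw [mem_subgroupOf] at hx ⊢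
        exact ⟨x.2, mem_centralizer_singleton_iff.2 (J_comm h hx.1 hjP.1),
          mem_centralizer_singleton_iff.2 (J_comm h hx.1 hc3P.1), le_normalizer hx.1⟩
      · have := hmapcard M' inf_le_left htM'
        rw [hPqcard]
        omega
    intro q hq
    obtain ⟨g, rfl⟩ := hsurj q
    rw [hM'eq]
    have hcom : ∀ p : G, ∀ hp : p ∈ P, (g : G) * p = p * g := fun p hp =>
      hfix g p hp (mem_centralizer_iff.1 hq _ (Subgroup.mem_map_of_mem π (mem_subgroupOf.2 hp))).symm
    exact Subgroup.mem_map_of_mem π (mem_subgroupOf.2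
      ⟨g.2, mem_centralizer_singleton_iff.2 (hcom _ hjP), mem_centralizer_singleton_iff.2 (hcom _ hc3P),
        hloc _ hjP.1 (fun e1 => small.2.2.1 ((eq_one_iff' h _).1 e1))
          (mem_centralizer_singleton_iff.2 (hcom _ hjP))⟩)
  have hNcard : Nat.card (normalizer (Pq : Set (C ⧸ (zpowers t).subgroupOf C))) = 36 := by
    rw [hNeq]
    have := hmapcard M inf_le_left htM
    omega
  haveI hn : ((T : Subgroup (C ⧸ (zpowers t).subgroupOf C)).subgroupOf
      (normalizer ((T : Subgroup (C ⧸ (zpowers t).subgroupOf C)) : Set _))).Normal :=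
    Subgroup.normal_in_normalizer
  set NP := normalizer ((T : Subgroup (C ⧸ (zpowers t).subgroupOf C)) : Set (C ⧸ (zpowers t).subgroupOf C))
    with hNP
  have hq4 : Nat.card (NP ⧸ (T : Subgroup (C ⧸ (zpowers t).subgroupOf C)).subgroupOf NP) = 4 := by
    have := Subgroup.card_eq_card_quotient_mul_card_subgroup
      ((T : Subgroup (C ⧸ (zpowers t).subgroupOf C)).subgroupOf NP)
    rw [Nat.card_congr (Subgroup.subgroupOfEquivOfLe le_normalizer).toEquiv, hNP, hTP, hPqcard, hNcard] at this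
    rw [hNP, hTP]
    omega
  have hK : IsKleinFour (NP ⧸ (T : Subgroup (C ⧸ (zpowers t).subgroupOf C)).subgroupOf NP) := by
    refine ⟨hq4, ?_⟩
    haveI : Nontrivial (NP ⧸ (T : Subgroup (C ⧸ (zpowers t).subgroupOf C)).subgroupOf NP) :=
      Finite.one_lt_card_iff_nontrivial.1 (by rw [hq4]; norm_num)
    refine (Monoid.exponent_eq_prime_iff Nat.prime_two).2 fun q hq => orderOf_eq_prime ?_ hq
    obtain ⟨⟨a, ha⟩, rfl⟩ := QuotientGroup.mk_surjective q
    rw [← QuotientGroup.mk_pow, QuotientGroup.eq_one_iff, Subgroup.mem_subgroupOf]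
    rw [hNP, hTP, hNeq] at ha
    obtain ⟨g, hg, rfl⟩ := Subgroup.mem_map.1 ha
    show π g ^ 2 ∈ Pq
    rw [← map_pow]
    refine Subgroup.mem_map_of_mem π (mem_subgroupOf.2 ⟨?_, (g ^ 2).2⟩)
    obtain ⟨k, hk⟩ := (mem_N_iff h).1 (mem_subgroupOf.1 hg).2
    obtain ⟨k', hk'⟩ := exists_el (mul_mem (el_mem k) (el_mem k))
    have hB : IsB (kmul k k) :=
      square_cent_tau k ((mem_cent_iff h k kt).1 (hk ▸ (mem_subgroupOf.1 hg).1))
    rw [← el_injective (hk'.trans (el_mul k k))] at hB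
    have hkk : (g : G) * g = e φ k' := by
      rw [← hk, e, e, ← map_mul]
      exact congrArg φ (Subtype.ext hk'.symm)
    rw [Subgroup.coe_pow, pow_two, hkk]
    exact (mem_J_iff h k').2 hB
  have hTall := S3805.result T ⟨⟨⟨fun a b => Subtype.ext (hcomm _ a.2 _ b.2)⟩⟩, fun a ha => hPqexp a ha⟩
    hPqcard hcent hK (fun x hx hx1 q hq => by
      obtain ⟨g, rfl⟩ := hsurj q
      obtain ⟨p, hp, rfl⟩ := Subgroup.mem_map.1 hx
      have hp' := mem_subgroupOf.1 hp
      have hgp := hfix g p hp' (mem_centralizer_singleton_iff.1 hq)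
      have hp1 : (p : G) ≠ 1 := fun e1 => hx1 (by rw [show p = 1 from Subtype.ext e1, map_one])
      show π g ∈ normalizer (Pq : Set (C ⧸ (zpowers t).subgroupOf C))
      rw [hNeq]
      exact Subgroup.mem_map_of_mem π (mem_subgroupOf.2
        ⟨g.2, hloc _ hp'.1 hp1 (mem_centralizer_singleton_iff.2 hgp)⟩))
  intro g hg
  refine hnormN ⟨g, hg⟩ fun x hx => ?_
  have := (mem_normalizer_iff.1 (show π ⟨g, hg⟩ ∈ normalizer (Pq : Set (C ⧸ (zpowers t).subgroupOf C)) by
    rw [show normalizer (Pq : Set (C ⧸ (zpowers t).subgroupOf C)) = ⊤ from hTall]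
    exact mem_top _) x).1 hx
  exact this

theorem card_cent_tau (h : Base W J φ) (hloc : ∀ j ∈ J, j ≠ 1 → centralizer ({j} : Set G) ≤ 𝐍) :
    Nat.card ↥(centralizer ({e φ kt} : Set G)) = 72 :=
  (card_of_model h _ (cent_tau_le h hloc) (fun k => Cm k kt) fun k => mem_cent_iff h k kt).trans cards.1

end Cfsg.Agent.S9Full37
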