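import Mathlib
import Cfsg.Agent.Lib.S9FullTau37
import Cfsg.Agent.Lib.TransferThompson

/-!
The monomial automiser in the local case: a Sylow `2`-subgroup, two transfers and the half group.
-/

set_option autoImplicit false
set_option linter.unusedSectionVars false
set_option linter.style.haveILetI false

namespace Cfsg.Agent.S9Full37

open Subgroup S9Model37

universe u

variable {G : Type u} [Group G] [Finite G] {J : Subgroup G} {φ : W →* G}

local notation "𝐍" => Subgroup.normalizer (J : Set G)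

/-- The sign coordinate. -/
abbrev ksg (s : Fin 2 × Fin 2 × Fin 2) : K := ((0, 0, 0), s, 0, 0)

/-- The sixteen elements around the exchange. -/
def U0 (φ : W →* G) (J : Subgroup G) : Subgroup G :=
  centralizer ({e φ kd3} : Set G) ⊓ (centralizer ({e φ kv} : Set G) ⊓ Subgroup.normalizer (J : Set G))

theorem mem_U0 (h : Base W J φ) (k : K) : e φ k ∈ U0 φ J ↔ Cm k kd3 ∧ Cm k kv :=
  ⟨fun hk => ⟨(mem_cent_iff h _ _).1 hk.1, (mem_cent_iff h _ _).1 hk.2.1⟩,
    fun hk => ⟨(mem_cent_iff h _ _).2 hk.1, (mem_cent_iff h _ _).2 hk.2, e_mem h k⟩⟩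

theorem card_U0 (h : Base W J φ) : Nat.card (U0 φ J) = 16 :=
  (card_of_model h _ (inf_le_right.trans inf_le_right) (fun k => Cm k kd3 ∧ Cm k kv) (mem_U0 h)).trans
    cards.2.2.2.2.2.1

theorem ne_tv (h : Base W J φ) : e φ kt ≠ e φ ktv := fun e1 =>
  absurd (e_inj h e1) (by decide)

variable (hloc : ∀ j ∈ J, j ≠ 1 → centralizer ({j} : Set G) ≤ Subgroup.normalizer (J : Set G))
include hloc

/-- The exchange is not fused to a sign element. -/
theorem tau_not_sign (h : Base W J φ) {s : Fin 2 × Fin 2 × Fin 2} (hs : s ≠ (0, 0, 0)) (g : G) :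
    g * e φ kt * g⁻¹ ≠ e φ (ksg s) := by
  intro hg
  have h16 : 16 ∣ Nat.card ↥(centralizer ({e φ (ksg s)} : Set G)) := by
    refine (sign_sixteen s hs).trans ?_
    rw [← card_of_model h (centralizer ({e φ (ksg s)} : Set G) ⊓ 𝐍) inf_le_right (fun k => Cm k (ksg s))
      fun k => ⟨fun hk => (mem_cent_iff h _ _).1 hk.1, fun hk => ⟨(mem_cent_iff h _ _).2 hk, e_mem h k⟩⟩]
    exact Subgroup.card_dvd_of_le inf_le_left
  rw [← hg, card_centralizer_conj, card_cent_tau h hloc] at h16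
  exact absurd h16 (by decide)

/-- The exchange times the third sign is fused neither to a sign element nor to the exchange. -/
theorem te_sep (h : Base W J φ) {i k : K} (hi : i ∈ [kc1, kc2, kc3, krot]) (hik : Cm i k) (g : G) :
    g * e φ kte * g⁻¹ ≠ e φ k := by
  intro hg
  have hjJ : e φ kj ∈ J := (mem_J_iff h kj).2 rfl
  have hj1 : e φ kj ≠ 1 := fun e1 => small.2.2.1 ((eq_one_iff' h _).1 e1)
  have h12 : Nat.card ↥(centralizer ({e φ kte} : Set G) ⊓ (centralizer ({e φ kj} : Set G) ⊓ 𝐍)) = 12 :=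
    (card_of_model h _ (inf_le_right.trans inf_le_right) (fun k => Cm k kte ∧ Cm k kj) fun k =>
      ⟨fun hk => ⟨(mem_cent_iff h _ _).1 hk.1, (mem_cent_iff h _ _).1 hk.2.1⟩,
        fun hk => ⟨(mem_cent_iff h _ _).2 hk.1, (mem_cent_iff h _ _).2 hk.2, e_mem h k⟩⟩).trans cards.2.2.2.1
  obtain ⟨-, hsyl⟩ := three_small h hloc hjJ hj1 ((cm_iff h kj kte).2 (by decide +kernel))
    (by rw [h12]; norm_num)
  have hi3 : el i ^ 3 = 1 := by
    simp only [List.mem_cons, List.not_mem_nil, or_false] at hi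
    rcases hi with rfl | rfl | rfl | rfl <;> decide +kernel
  have hte : e φ kte = g⁻¹ * e φ k * g := by rw [← hg]; group
  obtain ⟨g', hg'⟩ := hsyl (g⁻¹ * e φ i * g) (by
      rw [hte, show g⁻¹ * e φ i * g * (g⁻¹ * e φ k * g) = g⁻¹ * (e φ i * e φ k) * g by group,
        (cm_iff h i k).2 hik]
      group)
    (by
      have : (g⁻¹ * e φ i * g⁻¹⁻¹) ^ 3 = g⁻¹ * e φ i ^ 3 * g⁻¹⁻¹ := conj_pow
      rw [inv_inv, (pow_eq_one_iff' h i 3).2 hi3, mul_one, inv_mul_cancel] at this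
      exact this)
  refine not_conj h hloc hi (g' * g⁻¹) ?_
  rwa [show g' * g⁻¹ * e φ i * (g' * g⁻¹)⁻¹ = g' * (g⁻¹ * e φ i * g) * g'⁻¹ by group]

theorem te_not_sign (h : Base W J φ) (s : Fin 2 × Fin 2 × Fin 2) (g : G) :
    g * e φ kte * g⁻¹ ≠ e φ (ksg s) := by
  obtain ⟨i, hi, hc⟩ := sign_three s
  exact te_sep hloc h hi hc g

/-- The third sign is not fused to the product of the first two. -/
theorem d3_not_v (h : Base W J φ) (g : G) : g * e φ kd3 * g⁻¹ ≠ e φ kv := by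
  intro hg
  have hcJ : e φ kc3 ∈ J := (mem_J_iff h kc3).2 rfl
  have hc1 : e φ kc3 ≠ 1 := fun e1 => small.2.1 ((eq_one_iff' h _).1 e1)
  have h24 : Nat.card ↥(centralizer ({e φ kv} : Set G) ⊓ (centralizer ({e φ kc3} : Set G) ⊓ 𝐍)) = 24 :=
    (card_of_model h _ (inf_le_right.trans inf_le_right) (fun k => Cm k kv ∧ Cm k kc3) fun k =>
      ⟨fun hk => ⟨(mem_cent_iff h _ _).1 hk.1, (mem_cent_iff h _ _).1 hk.2.1⟩,
        fun hk => ⟨(mem_cent_iff h _ _).2 hk.1, (mem_cent_iff h _ _).2 hk.2, e_mem h k⟩⟩).trans cards.2.2.2.2.1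
  obtain ⟨h9, -⟩ := three_small h hloc hcJ hc1 ((cm_iff h kc3 kv).2 (by decide +kernel))
    (by rw [h24]; norm_num)
  apply h9
  rw [← hg, card_centralizer_conj, ← cards.2.2.2.2.2.2.1,
    ← card_of_model h (J ⊓ centralizer ({e φ kd3} : Set G)) (inf_le_left.trans le_normalizer)
      (fun k => IsB k ∧ Cm k kd3) fun k => and_congr (mem_J_iff h k) (mem_cent_iff h k kd3)]
  exact Subgroup.card_dvd_of_le inf_le_right

/-- The conjugates of an involution inside `U₀`. -/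
theorem U0_cases (h : Base W J φ) {x : G} (hx : x ∈ U0 φ J) (hx2 : x ^ 2 = 1) (hx1 : x ≠ 1) :
    ∃ k : K, e φ k = x ∧ (Cm k kd3 ∧ Cm k kv) ∧
      ((∃ s, s ≠ (0, 0, 0) ∧ k = ksg s) ∨ k = kt ∨ k = ktv ∨ k = kte ∨ k = ktz) := by
  obtain ⟨k, rfl⟩ := (mem_N_iff h).1 hx.2.2
  have hk := (mem_U0 h k).1 hx
  have hk1 : el k ≠ 1 := fun e1 => hx1 ((eq_one_iff' h k).2 e1)
  refine ⟨k, rfl, hk, ?_⟩
  rcases invol_U k hk.1 hk.2 ((pow_eq_one_iff' h k 2).1 hx2) hk1 with ⟨h1, h2⟩ | h1 | h1 | h1 | h1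
  · obtain ⟨a, s, r⟩ := k
    obtain rfl : a = (0, 0, 0) := h1
    obtain rfl : r = (0, 0) := h2
    refine Or.inl ⟨s, fun hs => hk1 ?_, rfl⟩
    subst hs
    decide +kernel
  · exact Or.inr (Or.inl h1)
  · exact Or.inr (Or.inr (Or.inl h1))
  · exact Or.inr (Or.inr (Or.inr (Or.inl h1)))
  · exact Or.inr (Or.inr (Or.inr (Or.inr h1)))

theorem U0_sylow (h : Base W J φ) (T : Sylow 2 G) (hUT : U0 φ J ≤ (T : Subgroup G)) :
    (T : Subgroup G) = U0 φ J := by
  classical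
  haveI : Fact (Nat.Prime 2) := ⟨Nat.prime_two⟩
  by_contra hne
  have hlt : U0 φ J < (T : Subgroup G) := lt_of_le_of_ne hUT (Ne.symm hne)
  haveI : Group.IsNilpotent (T : Subgroup G) := T.2.isNilpotent
  have hlt' : (U0 φ J).subgroupOf (T : Subgroup G) < ⊤ :=
    lt_top_iff_ne_top.2 fun e1 => hlt.not_ge (Subgroup.subgroupOf_eq_top.1 e1)
  obtain ⟨⟨g, hgT⟩, hgn, hgU⟩ := SetLike.exists_of_lt (Group.normalizerCondition_of_isNilpotent _ hlt')
  set R := (T : Subgroup G) ⊓ normalizer (U0 φ J : Set G) with hR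
  have hUR : U0 φ J ≤ R := le_inf hUT le_normalizer
  have hgR : g ∈ R := by
    refine ⟨hgT, mem_normalizer_iff.2 fun x => ⟨fun hx => ?_, fun hx => ?_⟩⟩
    · exact (mem_normalizer_iff.1 hgn ⟨x, hUT hx⟩).1 hx
    · have hxT : x ∈ (T : Subgroup G) := by
        have := mul_mem (mul_mem (inv_mem hgT) (hUT hx)) hgT
        simpa [mul_assoc] using this
      exact (mem_normalizer_iff.1 hgn ⟨x, hxT⟩).2 hx
  have h16 : 16 < Nat.card R := by
    rw [← card_U0 h]
    refine lt_of_le_of_ne (Subgroup.card_le_of_le hUR) fun e1 => ?_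
    exact hgU (mem_subgroupOf.2 ((Subgroup.eq_of_le_of_card_ge hUR e1.ge).ge hgR))
  set t := e φ kt with ht
  have htU : t ∈ U0 φ J := (mem_U0 h kt).2 (by decide +kernel)
  obtain ⟨ht2, ht1⟩ := e_tau h
  -- the orbit of the exchange
  have horb : ∀ x ∈ R, x * t * x⁻¹ = t ∨ x * t * x⁻¹ = e φ ktv := by
    intro x hx
    obtain ⟨k, hk, -, hcase⟩ := U0_cases hloc h ((mem_normalizer_iff.1 hx.2 t).1 htU)
      (by rw [pow_two, show x * t * x⁻¹ * (x * t * x⁻¹) = x * (t * t) * x⁻¹ by group, ht2]; group)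
      (fun e1 => ht1 (by simpa using e1))
    rcases hcase with ⟨s, hs, rfl⟩ | rfl | rfl | rfl | rfl
    · exact absurd hk.symm (tau_not_sign hloc h hs x)
    · exact Or.inl hk.symm
    · exact Or.inr hk.symm
    · exfalso
      refine te_sep hloc h (i := kc3) (k := kt) (by simp) (by decide +kernel) x⁻¹ ?_
      rw [hk, ← ht]
      group
    · exfalso
      refine te_sep hloc h (i := kc3) (k := kt) (by simp) (by decide +kernel) (x⁻¹ * e φ kd1) ?_
      have e2 : e φ kd1 * e φ kte * (e φ kd1)⁻¹ = e φ ktz := by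
        rw [mul_inv_eq_iff_eq_mul, mul_eq_iff h]
        decide +kernel
      rw [show x⁻¹ * e φ kd1 * e φ kte * (x⁻¹ * e φ kd1)⁻¹ = x⁻¹ * (e φ kd1 * e φ kte * (e φ kd1)⁻¹) * x by
        group, e2, hk]
      group
      rfl
  set D := centralizer ({t} : Set G) ⊓ R with hD
  have hD8 : Nat.card D ≤ 8 := by
    obtain ⟨n, hn⟩ := IsPGroup.iff_card.1 (T.2.to_le (inf_le_right.trans inf_le_left : D ≤ (T : Subgroup G)))
    have h72 : Nat.card D ∣ 72 := card_cent_tau h hloc ▸ Subgroup.card_dvd_of_le inf_le_left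
    rw [hn] at h72 ⊢
    have : n ≤ 3 := by
      by_contra hc
      have : 16 ∣ 72 := dvd_trans (pow_dvd_pow 2 (by omega : 4 ≤ n)) h72
      norm_num at this
    calc 2 ^ n ≤ 2 ^ 3 := Nat.pow_le_pow_right (by norm_num) this
      _ = 8 := by norm_num
  have hidx : (D.subgroupOf R).index ≤ 2 := by
    refine le_trans (Nat.card_le_card_of_injective
      (fun q : R ⧸ D.subgroupOf R => decide ((q.out : G) * t * (q.out : G)⁻¹ = t)) ?_) (by simp)
    intro a b hab
    rw [← QuotientGroup.out_eq' a, ← QuotientGroup.out_eq' b, QuotientGroup.eq, mem_subgroupOf]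
    refine ⟨?_, (a.out⁻¹ * b.out).2⟩
    show ((a.out⁻¹ * b.out : R) : G) ∈ centralizer ({t} : Set G)
    rw [mem_centralizer_singleton_iff]
    have e1 : (a.out : G) * t * (a.out : G)⁻¹ = (b.out : G) * t * (b.out : G)⁻¹ := by
      rcases horb _ a.out.2 with ha | ha <;> rcases horb _ b.out.2 with hb | hb
      · rw [ha, hb]
      · simp only [ha, decide_true] at hab
        exact absurd (of_decide_eq_true hab.symm) (fun e => ne_tv h (e.symm.trans hb))
      · simp only [hb, decide_true] at hab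
        exact absurd (of_decide_eq_true hab) (fun e => ne_tv h (e.symm.trans ha))
      · rw [ha, hb]
    push_cast
    calc (a.out : G)⁻¹ * (b.out : G) * t = (a.out : G)⁻¹ * ((b.out : G) * t * (b.out : G)⁻¹) * b.out := by group
      _ = t * ((a.out : G)⁻¹ * (b.out : G)) := by rw [← e1]; group
  have hcard := (D.subgroupOf R).card_mul_index
  rw [Nat.card_congr (Subgroup.subgroupOfEquivOfLe (inf_le_right : D ≤ R)).toEquiv] at hcard
  nlinarith

/-- The half of the group: index two, containing the even part of the normaliser. -/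
theorem exists_half (h : Base W J φ) :
    ∃ H : Subgroup G, H.index = 2 ∧ e φ kd3 ∉ H ∧ ∀ u : W, (u : P9) ∈ W4 → φ u ∈ H := by
  classical
  haveI : Fact (Nat.Prime 2) := ⟨Nat.prime_two⟩
  obtain ⟨T, hUT⟩ := (IsPGroup.of_card (show Nat.card (U0 φ J) = 2 ^ 4 by rw [card_U0 h]; norm_num)).exists_le_sylow
  have hT := U0_sylow hloc h T hUT
  have hconj2 : ∀ (k : K) (g : G), el k ^ 2 = 1 → el k ≠ 1 →
      (g * e φ k * g⁻¹) ^ 2 = 1 ∧ g * e φ k * g⁻¹ ≠ 1 := by
    intro k g hk hk1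
    refine ⟨?_, fun e1 => hk1 ((eq_one_iff' h k).1 (by simpa using e1))⟩
    rw [conj_pow, (pow_eq_one_iff' h k 2).2 hk]
    group
  obtain ⟨-, -, -, -, -, ste2, ste1, sd2, sd1, -⟩ := small
  have hord : ∀ k : K, el k ^ 2 = 1 → el k ≠ 1 → orderOf (e φ k) = 2 := fun k hk hk1 =>
    orderOf_eq_prime ((pow_eq_one_iff' h k 2).2 hk) fun e1 => hk1 ((eq_one_iff' h k).1 e1)
  have hrel : ∀ Q : Subgroup G, Q ≤ U0 φ J → Nat.card Q = 8 → Q.relIndex (T : Subgroup G) = 2 := by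
    intro Q hQ hQ8
    rw [hT]
    have h1 := (Q.subgroupOf (U0 φ J)).card_mul_index
    rw [Nat.card_congr (Subgroup.subgroupOfEquivOfLe hQ).toEquiv, hQ8, card_U0 h] at h1
    show (Q.subgroupOf (U0 φ J)).index = 2
    omega
  -- first transfer
  obtain ⟨M₂, hM₂n, hM₂i, hd3M⟩ : ∃ M : Subgroup G, M.Normal ∧ M.index = 2 ∧ e φ kd3 ∉ M := by
    set Q := U0 φ J ⊓ (W4.subgroupOf W).map φ with hQ
    have hev : ∀ k : K, e φ k ∈ (W4.subgroupOf W).map φ ↔ IsEv k := fun k =>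
      (Subgroup.mem_map_iff_mem (K := W4.subgroupOf W) (x := elW k) h.inj).trans (mem_W4_iff k)
    have hQ8 : Nat.card Q = 8 :=
      (card_of_model h Q (inf_le_left.trans (inf_le_right.trans inf_le_right))
        (fun k => (Cm k kd3 ∧ Cm k kv) ∧ IsEv k) fun k => and_congr (mem_U0 h k) (hev k)).trans
        cards.2.2.2.2.2.2.2.1
    refine TransferThompson.thompson_transfer T Q (hT ▸ inf_le_left) (hrel Q inf_le_left hQ8)
      (hord kd3 sd2 sd1) (hT ▸ (mem_U0 h kd3).2 (by decide +kernel)) fun g hg => ?_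
    obtain ⟨k, hk, hkU, hcase⟩ := U0_cases hloc h hg.1 (hconj2 kd3 g sd2 sd1).1 (hconj2 kd3 g sd2 sd1).2
    have hkev : IsEv k := (hev k).1 (hk ▸ hg.2)
    rcases hcase with ⟨s, hs, rfl⟩ | rfl | rfl | rfl | rfl
    · obtain ⟨r, hr⟩ := even_sign s hkev hs
      apply d3_not_v hloc h ((e φ ((0, 0, 0), (0, 0, 0), 0, r))⁻¹ * g)
      have e2 := (mul_eq_iff h _ _ (ksg s) _).2 hr
      rw [show (e φ ((0, 0, 0), (0, 0, 0), 0, r))⁻¹ * g * e φ kd3 * ((e φ ((0, 0, 0), (0, 0, 0), 0, r))⁻¹ * g)⁻¹ =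
        (e φ ((0, 0, 0), (0, 0, 0), 0, r))⁻¹ * (g * e φ kd3 * g⁻¹) * e φ ((0, 0, 0), (0, 0, 0), 0, r) by group,
        ← hk, mul_assoc, ← e2, inv_mul_cancel_left]
    · refine tau_not_sign hloc h (s := (0, 0, 1)) (by decide) g⁻¹ ?_
      rw [hk]
      show g⁻¹ * (g * e φ kd3 * g⁻¹) * g⁻¹⁻¹ = e φ kd3
      group
    · refine tau_not_sign hloc h (s := (0, 0, 1)) (by decide) (g⁻¹ * e φ kd1) ?_
      have e2 : e φ kd1 * e φ kt * (e φ kd1)⁻¹ = e φ ktv := by
        rw [mul_inv_eq_iff_eq_mul, mul_eq_iff h]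
        decide +kernel
      rw [show g⁻¹ * e φ kd1 * e φ kt * (g⁻¹ * e φ kd1)⁻¹ = g⁻¹ * (e φ kd1 * e φ kt * (e φ kd1)⁻¹) * g by group,
        e2, hk]
      show g⁻¹ * (g * e φ kd3 * g⁻¹) * g = e φ kd3
      group
    · exact gen_facts.2.2.2.2.2.2.2.2.1 hkev
    · exact gen_facts.2.2.2.2.2.2.2.2.2 hkev
  -- second transfer
  obtain ⟨M₁, hM₁n, hM₁i, hteM⟩ : ∃ M : Subgroup G, M.Normal ∧ M.index = 2 ∧ e φ kte ∉ M := by
    set Q := centralizer ({e φ kd1} : Set G) ⊓ U0 φ J with hQ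
    have hQ8 : Nat.card Q = 8 :=
      (card_of_model h Q (inf_le_right.trans (inf_le_right.trans inf_le_right))
        (fun k => Cm k kd1 ∧ Cm k kd3 ∧ Cm k kv) fun k =>
          and_congr (mem_cent_iff h k kd1) (mem_U0 h k)).trans signs_U.1
    refine TransferThompson.thompson_transfer T Q (hT ▸ inf_le_right) (hrel Q inf_le_right hQ8)
      (hord kte ste2 ste1) (hT ▸ (mem_U0 h kte).2 (by decide +kernel)) fun g hg => ?_
    obtain ⟨k, hk⟩ := (mem_N_iff h).1 hg.2.2.2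
    rw [← hk] at hg
    obtain ⟨h1, h2⟩ := signs_U.2 k ((mem_cent_iff h _ _).1 hg.1) ((mem_U0 h k).1 hg.2).1
      ((mem_U0 h k).1 hg.2).2
    obtain ⟨a, s, r⟩ := k
    obtain rfl : a = (0, 0, 0) := h1
    obtain rfl : r = (0, 0) := h2
    exact te_not_sign hloc h s g hk.symm
  set t := e φ kt with ht
  have hte : e φ kte = t * e φ kd3 := by
    rw [ht, e, e, e, ← map_mul]
    exact congrArg φ (Subtype.ext gen_facts.2.2.2.2.1)
  obtain ⟨H, hHi, hdH, htH⟩ : ∃ H : Subgroup G, H.index = 2 ∧ e φ kd3 ∉ H ∧ t ∈ H := by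
    by_cases ht₂ : t ∈ M₂
    · exact ⟨M₂, hM₂i, hd3M, ht₂⟩
    by_cases ht₁ : t ∈ M₁
    · exact ⟨M₁, hM₁i, fun hd => hteM (hte ▸ mul_mem ht₁ hd), ht₁⟩
    have hd1 : e φ kd3 ∈ M₁ := by
      by_contra hd
      exact hteM (hte ▸ (mul_mem_iff_of_index_two hM₁i).2 (iff_of_false ht₁ hd))
    let H : Subgroup G :=
      { carrier := {g | g ∈ M₁ ↔ g ∈ M₂}
        mul_mem' := fun {a b} ha hb => by
          simp only [Set.mem_ofPred_eq] at ha hb ⊢
          rw [mul_mem_iff_of_index_two hM₁i, mul_mem_iff_of_index_two hM₂i, ha, hb]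
        one_mem' := by simp
        inv_mem' := fun {a} ha => by
          simp only [Set.mem_ofPred_eq, inv_mem_iff] at ha ⊢
          exact ha }
    have hmemH : ∀ g, g ∈ H ↔ (g ∈ M₁ ↔ g ∈ M₂) := fun g => Iff.rfl
    refine ⟨H, ?_, fun hd => hd3M (((hmemH _).1 hd).1 hd1), (hmemH _).2 (iff_of_false ht₁ ht₂)⟩
    refine Subgroup.index_eq_two_iff.2 ⟨e φ kd3, fun b => ?_⟩
    have e1 : b * e φ kd3 ∈ M₁ ↔ b ∈ M₁ := mul_mem_cancel_right hd1
    have e2 : b * e φ kd3 ∈ M₂ ↔ ¬ b ∈ M₂ := by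
      rw [mul_mem_iff_of_index_two hM₂i]
      simp [hd3M]
    rw [hmemH, hmemH, e1, e2]
    by_cases b1 : b ∈ M₁ <;> by_cases b2 : b ∈ M₂ <;> simp [b1, b2]
  haveI hHn : H.Normal := normal_of_index_eq_two hHi
  have h3 : ∀ u : W, (u : P9) ^ 3 = 1 → φ u ∈ H := by
    intro u hu
    have h3' : φ u ^ 3 = 1 := by
      rw [← map_pow, show u ^ 3 = 1 from Subtype.ext hu, map_one]
    have h2' : φ u * φ u ∈ H := by rw [mul_mem_iff_of_index_two hHi]
    have : φ u * φ u * φ u = 1 := by rw [← h3', pow_succ, pow_two]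
    have h4 := (mul_mem_cancel_left h2' (y := φ u)).1 (by rw [this]; exact one_mem H)
    exact h4
  refine ⟨H, hHi, hdH, fun u hu => ?_⟩
  have hle : W4 ≤ (H.comap φ).map W.subtype := by
    rw [W4, Subgroup.closure_le]
    have hmk : ∀ x (hx : x ∈ W), φ ⟨x, hx⟩ ∈ H → x ∈ (H.comap φ).map W.subtype := fun x hx hm =>
      ⟨⟨x, hx⟩, hm, rfl⟩
    obtain ⟨et, ed3, ed1, erot, -, eA, eB, -⟩ := gen_facts
    have hW : ∀ x ∈ ({c1, c2, c3, d1, d2, d3, rot, tau} : Set P9), x ∈ W := fun x hx =>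
      Subgroup.subset_closure hx
    have hd3' : φ D3 ∉ H := by
      rwa [show D3 = elW kd3 from Subtype.ext ed3.symm]
    have hd1' : φ D1 ∉ H := fun hm => hd3' (by
      have := hHn.conj_mem _ hm (φ Rot)⁻¹
      rwa [← map_inv, ← map_inv, ← map_mul, ← map_mul,
        show Rot⁻¹ * D1 * Rot⁻¹⁻¹ = D3 from Subtype.ext (by
          show rot⁻¹ * d1 * rot⁻¹⁻¹ = d3
          rw [← eA]; group)] at this)
    have hd2' : φ D2 ∉ H := fun hm => hd1' (by
      have := hHn.conj_mem _ hm (φ Rot)⁻¹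
      rwa [← map_inv, ← map_inv, ← map_mul, ← map_mul,
        show Rot⁻¹ * D2 * Rot⁻¹⁻¹ = D1 from Subtype.ext (by
          show rot⁻¹ * d2 * rot⁻¹⁻¹ = d1
          rw [← eB]; group)] at this)
    rintro x (rfl | rfl | rfl | rfl | rfl | rfl | rfl)
    · exact hmk _ C1.2 (h3 C1 (by decide +kernel))
    · exact hmk _ C2.2 (h3 C2 (by decide +kernel))
    · exact hmk _ C3.2 (h3 C3 (by decide +kernel))
    · exact hmk _ Rot.2 (h3 Rot (by decide +kernel))
    · exact hmk _ Tau.2 (by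
        change φ Tau ∈ H
        rw [show Tau = elW kt from Subtype.ext et.symm]
        exact htH)
    · exact hmk _ (D1 * D2).2 (by
        change φ (D1 * D2) ∈ H
        rw [map_mul, mul_mem_iff_of_index_two hHi]
        exact iff_of_false hd1' hd2')
    · exact hmk _ (D2 * D3).2 (by
        change φ (D2 * D3) ∈ H
        rw [map_mul, mul_mem_iff_of_index_two hHi]
        exact iff_of_false hd2' hd3')
  obtain ⟨u', hu', he⟩ := Subgroup.mem_map.1 (hle hu)
  rw [show u = u' from Subtype.ext he.symm]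
  exact hu'

end Cfsg.Agent.S9Full37
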