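import Mathlib
import Cfsg.Agent.Lib.S9FullHalf37

/-!
The monomial automiser in the local case, reduced to the even automiser.
-/

set_option autoImplicit false

namespace Cfsg.Agent.S9Full37

open Subgroup S9Model37

universe u

theorem card_ev : Nat.card {k : K // IsEv k} = 648 := by
  rw [Nat.card_eq_fintype_card]
  exact cards.2.2.2.2.2.2.2.2.2.2

theorem mem_even {G : Type u} [Group G] [Finite G] {J : Subgroup G} {φ : W →* G} (h : Base W J φ) (k : K) :
    e φ k ∈ (W4.subgroupOf W).map φ ↔ el k ∈ W4 :=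
  Subgroup.mem_map_iff_mem (K := W4.subgroupOf W) (x := elW k) h.inj

theorem mem_even' {G : Type u} [Group G] [Finite G] {J : Subgroup G} {φ : W →* G} (h : Base W J φ) (k : K) :
    e φ k ∈ (W4.subgroupOf W).map φ ↔ IsEv k :=
  (mem_even h k).trans (mem_W4_iff k)

theorem card_even {G : Type u} [Group G] [Finite G] {J : Subgroup G} {φ : W →* G} (h : Base W J φ) :
    Nat.card ↥((W4.subgroupOf W).map φ) = 648 := by
  have hle : (W4.subgroupOf W).map φ ≤ Subgroup.normalizer (J : Set G) := by
    rintro _ ⟨u, -, rfl⟩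
    exact h.range_eq.le ⟨u, rfl⟩
  refine (card_of_model h _ hle IsEv (mem_even' h)).trans ?_
  rw [← Nat.card_eq_fintype_card]
  exact card_ev

theorem mk_mem {A : Type*} [Group A] {S T : Subgroup A} {x : A} (hx : x ∈ S) (hxT : x ∈ T) :
    ((⟨x, hx⟩ : S) : A) ∈ T := hxT

/-- The monomial case follows from the even case. -/
theorem full_normal_of
    (heven : ∀ {H : Type u} [Group H] [Finite H] {J : Subgroup H} {φ : W4 →* H}, Base W4 J φ →
      (∀ j, j ∈ J → j ≠ 1 → centralizer ({j} : Set H) ≤ Subgroup.normalizer (J : Set H)) → J.Normal)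
    {G : Type u} [Group G] [Finite G] {J : Subgroup G} {φ : W →* G} (h : Base W J φ)
    (hloc : ∀ j, j ∈ J → j ≠ 1 → centralizer ({j} : Set G) ≤ Subgroup.normalizer (J : Set G)) :
    J.Normal := by
  obtain ⟨H, hHi, hdH, h4⟩ := exists_half hloc h
  set N := Subgroup.normalizer (J : Set G) with hN
  have hJH : J ≤ H := by
    intro x hx
    obtain ⟨k, hk, rfl⟩ := exists_J h hx
    exact h4 _ ((mem_W4_iff k).2 (by
      obtain ⟨k1, k2⟩ := k
      obtain rfl : k2 = ((0, 0, 0), 0, 0) := hk
      rfl))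
  set N4 := (W4.subgroupOf W).map φ with hN4
  have hN4le : N4 ≤ N ⊓ H := by
    rintro _ ⟨u, hu, rfl⟩
    exact ⟨h.range_eq.le ⟨u, rfl⟩, h4 u hu⟩
  have hN4card : Nat.card N4 = 648 := card_even h
  have hNH : N ⊓ H = N4 := by
    refine (Subgroup.eq_of_le_of_card_ge hN4le ?_).symm
    rw [hN4card]
    obtain ⟨c, hc⟩ := Subgroup.card_dvd_of_le (inf_le_left : N ⊓ H ≤ N)
    rw [card_N h] at hc
    have hc1 : c ≠ 1 := fun e1 => hdH
      ((Subgroup.eq_of_le_of_card_ge (inf_le_left : N ⊓ H ≤ N) (by rw [card_N h, hc, e1, mul_one])).ge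
        (e_mem h kd3)).2
    have hc0 : c ≠ 0 := fun e1 => by rw [e1] at hc; omega
    have : Nat.card ↥(N ⊓ H) * 2 ≤ Nat.card ↥(N ⊓ H) * c := Nat.mul_le_mul_left _ (by omega)
    omega
  set inc : W4 →* W := Subgroup.inclusion W4_le with hinc
  have hincv : ∀ u : W4, ((inc u : W) : P9) = (u : P9) := fun u => Subgroup.coe_inclusion W4_le u
  have hincmk : ∀ (u : W) (hu : (u : P9) ∈ W4), inc ⟨(u : P9), hu⟩ = u := fun u hu =>
    Subtype.ext (hincv ⟨(u : P9), hu⟩)
  have h4' : ∀ u : W4, φ (inc u) ∈ H := fun u => h4 _ (by rw [hincv]; exact u.2)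
  set φ4 : W4 →* H := (φ.comp inc).codRestrict H h4' with hφ4
  have hφ4v : ∀ u : W4, ((φ4 u : H) : G) = φ (inc u) := fun u => rfl
  set J' := J.subgroupOf H with hJ'
  have hJ'norm : ∀ g : H, g ∈ Subgroup.normalizer (J' : Set H) ↔ (g : G) ∈ N := by
    intro g
    simp only [hN, mem_normalizer_iff, hJ', mem_subgroupOf, Subgroup.coe_mul, Subgroup.coe_inv]
    refine ⟨fun hg x => ⟨fun hx => (hg ⟨x, hJH hx⟩).1 hx, fun hx => ?_⟩, fun hg x => hg _⟩
    have hxH : x ∈ H := by
      have := mul_mem (mul_mem (inv_mem g.2) (hJH hx)) g.2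
      simpa [mul_assoc] using this
    exact (hg ⟨x, hxH⟩).2 hx
  have hcentle : ∀ (j : H), j ∈ J' → j ≠ 1 →
      centralizer ({j} : Set H) ≤ Subgroup.normalizer (J' : Set H) := by
    intro j hj hj1 g hg
    rw [hJ'norm]
    exact hloc _ hj (fun e1 => hj1 (Subtype.ext e1))
      (mem_centralizer_singleton_iff.2 (congrArg Subtype.val (mem_centralizer_singleton_iff.1 hg)))
  have hbase : Base W4 J' φ4 := by
    refine ⟨?_, ?_, ?_, ?_, ?_, ?_, ?_, ?_⟩
    · intro a b hab
      have hab' := congrArg Subtype.val hab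
      rw [hφ4v, hφ4v] at hab'
      exact Subgroup.inclusion_injective W4_le (h.inj hab')
    · ext g
      rw [hJ'norm]
      constructor
      · rintro ⟨u, rfl⟩
        rw [hφ4v]
        exact h.range_eq.le ⟨inc u, rfl⟩
      · intro hg
        have : (g : G) ∈ N4 := hNH ▸ ⟨hg, g.2⟩
        obtain ⟨u, hu, hug⟩ := Subgroup.mem_map.1 this
        have hu' : (u : P9) ∈ W4 := mem_subgroupOf.1 hu
        exact ⟨⟨(u : P9), hu'⟩, Subtype.ext (by rw [hφ4v, hincmk u hu', hug])⟩
    · ext g
      simp only [hJ', mem_subgroupOf, Subgroup.mem_map]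
      constructor
      · rintro ⟨u, hu, rfl⟩
        rw [← h.base_eq, hφ4v]
        exact Subgroup.mem_map_of_mem φ (mem_subgroupOf.2 (by rw [hincv]; exact hu))
      · intro hg
        rw [← h.base_eq] at hg
        obtain ⟨u, hu, hug⟩ := Subgroup.mem_map.1 hg
        have hu4 : (u : P9) ∈ W4 := by
          have hb : base ≤ W4 := (Subgroup.closure_le _).2 (by
            rintro x (rfl | rfl | rfl) <;> exact Subgroup.subset_closure (by simp))
          exact hb (mem_subgroupOf.1 hu)
        exact ⟨⟨(u : P9), hu4⟩, mk_mem hu4 (mem_subgroupOf.1 hu), Subtype.ext (by rw [hφ4v, hincmk u hu4, hug])⟩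
    · ext g
      constructor
      · intro hg
        have : (g : G) ∈ centralizer (J : Set G) := mem_centralizer_iff.2 fun x hx =>
          congrArg Subtype.val (mem_centralizer_iff.1 hg ⟨x, hJH hx⟩ hx)
        rwa [h.cJ] at this
      · exact fun hg => mem_centralizer_iff.2 fun x hx => Subtype.ext (J_comm h hx hg)
    · exact fun hd => h.sylow (hd.trans (Subgroup.card_subgroup_dvd_card H))
    · intro u hu g hg
      rw [hJ'norm]
      refine h.cx (inc u) (by rw [hincv]; exact hu) (mem_centralizer_singleton_iff.2 ?_)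
      have hgu := congrArg Subtype.val (mem_centralizer_singleton_iff.1 hg)
      rw [Subgroup.coe_mul, Subgroup.coe_mul, hφ4v] at hgu
      exact hgu
    · intro Q hQ hQ9 g hg
      rw [hJ'norm]
      refine h.plane (Q.map H.subtype) ?_ (by rw [Subgroup.card_map_of_injective H.subtype_injective, hQ9]) ?_
      · rintro _ ⟨x, hx, rfl⟩
        exact hQ hx
      · refine mem_centralizer_iff.2 ?_
        rintro _ ⟨x, hx, rfl⟩
        exact congrArg Subtype.val (mem_centralizer_iff.1 hg x hx)
    · intro S hS hinv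
      rw [← Subgroup.map_eq_bot_iff_of_injective S H.subtype_injective]
      refine h.sig _ (by rwa [Subgroup.card_map_of_injective H.subtype_injective]) fun j hj => ?_
      conv_rhs => rw [← hinv ⟨j, hJH hj⟩ hj]
      rw [Subgroup.map_map, Subgroup.map_map]
      rfl
  have hn := heven hbase hcentle
  have hHN : H ≤ N := fun g hg => (hJ'norm ⟨g, hg⟩).1 (by
    rw [Subgroup.normalizer_eq_top_iff.2 hn]
    exact mem_top _)
  have hle : H ≤ N4 := hNH ▸ le_inf hHN le_rfl
  have hG : Nat.card G ≤ 1296 := by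
    rw [← H.card_mul_index, hHi]
    have := Subgroup.card_le_of_le hle
    omega
  refine Subgroup.normalizer_eq_top_iff.1 (Subgroup.eq_top_of_card_eq _ ?_)
  exact le_antisymm (Subgroup.card_le_card_group _) (by rw [card_N h]; exact hG)

end Cfsg.Agent.S9Full37
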