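import Mathlib
import Cfsg.Agent.Lib.S9FullMain37
import Cfsg.Agent.Lib.S9Even37

/-!
The monomial automiser in the local case.
-/

set_option autoImplicit false

namespace Cfsg.Agent.S9Full37

open Subgroup S9Model37

universe u

/-- With local centralizers, a monomial automiser forces normality. -/
theorem full_normal {G : Type u} [Group G] [Finite G] {J : Subgroup G} {φ : W →* G} (h : Base W J φ)
    (hloc : ∀ j, j ∈ J → j ≠ 1 → centralizer ({j} : Set G) ≤ Subgroup.normalizer (J : Set G)) :
    J.Normal :=
  full_normal_of (fun h4 hloc4 => S9Even37.even_normal h4 hloc4) h hloc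

end Cfsg.Agent.S9Full37
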