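import Cfsg.Agent.Lib.S9Small37Add

/-!
Decided facts for the automiser `S₃ × ⟨-1⟩` of S3343: the centraliser of `e = c₁c₂⁻¹` and of the
sign `c = -τ`, and two by two matrices over the field of three elements.
-/

set_option autoImplicit false
set_option maxRecDepth 100000

namespace Cfsg.Agent.S9Small37

open Cfsg.Agent.S9Model37

abbrev V2 := ZMod 3 × ZMod 3

/-- A matrix, given by the images of the two basis vectors. -/
abbrev Mat := V2 × V2

/-- The element `x^i ρ^j`. -/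
def coP (v : V2) : P9 := xx ^ v.1.val * rot ^ v.2.val

/-- Application of a matrix. -/
def ap (M : Mat) (v : V2) : V2 := (v.1 * M.1.1 + v.2 * M.2.1, v.1 * M.1.2 + v.2 * M.2.2)

/-- Product of matrices. -/
def mm (M N : Mat) : Mat := (ap M N.1, ap M N.2)

def idM : Mat := ((1, 0), (0, 1))
def negM : Mat := ((2, 0), (0, 2))
def dM : Mat := ((1, 0), (0, 2))
def upM (i : ZMod 3) : Mat := ((1, 0), (i, 1))
def loM (i : ZMod 3) : Mat := ((1, i), (0, 1))
def swM (a b : ZMod 3) : Mat := ((0, a), (b, 0))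

theorem coP_add : ∀ v w, coP (v + w) = coP v * coP w := by
  decide +kernel

theorem coP_inj : ∀ v w, coP v = coP w → v = w := by
  decide +kernel

theorem coP_basis : coP (1, 0) = xx ∧ coP (2, 0) = xx⁻¹ ∧ coP (0, 1) = rot ∧ coP (0, 2) = rot⁻¹ ∧
    coP (1, 1) = rot * xx ∧ coP (2, 1) = rot * (xx * xx) := by
  decide +kernel

theorem cent_e_cc : ∀ p : Par, el p * ee = ee * el p → el p * cc = cc * el p →
    (el p = 1 ∨ el p = ee ∨ el p = ee⁻¹) ∨ el p ^ 3 = cc := by
  decide +kernel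

theorem rels_two : rot * cc ≠ cc * rot ∧ zz * ee * zz = ee⁻¹ ∧ cc * tau = tau * cc ∧
    cc * zz = zz * cc ∧ tau * cc = zz ∧ zz * cc = tau ∧ zz ≠ 1 ∧ cc * xx * cc⁻¹ = xx⁻¹ ∧
    cc * rot * cc⁻¹ = rot⁻¹ ∧ tau * xx * tau⁻¹ = xx ∧ tau * rot * tau⁻¹ = rot⁻¹ ∧
    ee * xx * ee⁻¹ = xx ∧ cc * c3 * cc⁻¹ * c3⁻¹ = c3 ∧ rot ≠ 1 := by
  decide +kernel

theorem upM_cover : ∀ s : ZMod 3, s ≠ 0 → ∀ i,
    upM i = idM ∨ upM i = upM s ∨ upM i = mm (upM s) (upM s) := by
  decide +kernel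

theorem loM_cover : ∀ a b a' b' : ZMod 3, mm (swM a b) (swM a' b') = idM →
    ∀ j, ∃ i, mm (mm (swM a b) (upM i)) (swM a' b') = loM j := by
  decide +kernel

/-- The word in the unit triangular matrices. -/
def word (i j k l : ZMod 3) : Mat := mm (mm (mm (upM i) (loM j)) (upM k)) (loM l)

set_option synthInstance.maxSize 4096 in
theorem invol_word : ∀ M : Mat, mm M M = idM → M ≠ idM → M ≠ negM →
    ∃ i j k l, mm (word i j k l) dM = mm M (word i j k l) := by
  decide +kernel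

end Cfsg.Agent.S9Small37
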