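import Cfsg.Agent.Lib.S9Small37Base
import Cfsg.Agent.Lib.S9Small37TwoModel
import Cfsg.Agent.Lib.ZStarTheorem

/-!
S3343, the automiser `S₃ × ⟨-1⟩`: the sign `c = -τ` is an isolated involution, so by the Z*-theorem
the base lies in the odd core and is normal.
-/

set_option autoImplicit false

namespace Cfsg.Agent.S9Small37

open Cfsg.Agent.S9Model37

universe u

namespace Ctx

variable {G : Type u} [Group G] [Finite G] {J : Subgroup G} {φ : W2 →* G} (h : Ctx W2 J φ)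
include h

theorem zz_mem : zz ∈ W2 := Subgroup.subset_closure (by simp [zz])

theorem cc_mem : cc ∈ W2 := W2.mul_mem h.zz_mem h.mem_gens.2.2.2.2

theorem xx_mem : xx ∈ W2 := (h.named_mem bb_named.2.2.2.2.1).1

theorem ee_mem : ee ∈ W2 := (h.named_mem bb_named.2.2.2.1).1

theorem coP_mem (v : V2) : coP v ∈ W2 :=
  W2.mul_mem (W2.pow_mem h.xx_mem _) (W2.pow_mem h.mem_gens.2.2.2.1 _)

theorem rot_notin : im φ rot ∉ J ∧ (im φ rot)⁻¹ ∉ J := by
  have hr := h.mem_gens.2.2.2.1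
  constructor <;> intro hm <;> obtain ⟨b, hb⟩ := h.mem_J.1 hm
  · exact (base_ne_rot b).1 (h.inj (h.bb_mem b) hr hb)
  · rw [← im_inv hr] at hb
    exact (base_ne_rot b).2 (h.inj (h.bb_mem b) (W2.inv_mem hr) hb)

/-- The centraliser of `⟨τ, -1⟩`. -/
theorem cent_four_G {g : G} (ht : g * im φ tau = im φ tau * g) (hz : g * im φ zz = im φ zz * g) :
    g = 1 ∨ g = im φ tau ∨ g = im φ zz ∨ g = im φ cc := by
  obtain ⟨p, hp, rfl⟩ := h.exists_im (h.cent_tau_le (Subgroup.mem_centralizer_singleton_iff.2 ht))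
  rcases cent_four p ((h.comm_iff hp h.mem_gens.2.2.2.2).1 ht) ((h.comm_iff hp h.zz_mem).1 hz)
    with e | e | e | e <;> rw [e]
  · exact Or.inl im_one
  · exact Or.inr (Or.inl rfl)
  · exact Or.inr (Or.inr (Or.inl rfl))
  · exact Or.inr (Or.inr (Or.inr rfl))

theorem cent_four_tc {g : G} (ht : g * im φ tau = im φ tau * g) (hc : g * im φ cc = im φ cc * g) :
    g = 1 ∨ g = im φ tau ∨ g = im φ zz ∨ g = im φ cc := by
  refine h.cent_four_G ht ?_
  rw [← rels_two.2.2.2.2.1, im_mul h.mem_gens.2.2.2.2 h.cc_mem]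
  exact (Commute.mul_right ht hc).eq

/-- The three-elements of `C(c) ∩ C(e)`. -/
theorem three_ce : ∀ (k : ℕ) (g : G), g * im φ ee = im φ ee * g → g * im φ cc = im φ cc * g →
    g ^ 3 ^ k = 1 → g = 1 ∨ g = im φ ee ∨ g = (im φ ee)⁻¹ := by
  intro k g hge hgc hg
  obtain ⟨p, hp, rfl⟩ := h.exists_im (h.cent_ee (Subgroup.mem_centralizer_singleton_iff.2 hge))
  rcases cent_e_cc p ((h.comm_iff hp h.ee_mem).1 hge) ((h.comm_iff hp h.cc_mem).1 hgc)
    with (e | e | e) | e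
  · exact Or.inl (by rw [e, im_one])
  · exact Or.inr (Or.inl (by rw [e]))
  · exact Or.inr (Or.inr (by rw [e, im_inv h.ee_mem]))
  · exfalso
    have h1 : el p ^ 3 ^ k = 1 := h.eq_one (W2.pow_mem hp _) (by rw [im_pow hp, hg])
    have h2 : cc ^ 3 ^ k = 1 := by rw [← e, ← pow_mul, mul_comm, pow_mul, h1, one_pow]
    obtain ⟨m, hm⟩ := (show Odd 3 by decide).pow (n := k)
    rw [hm, pow_succ, pow_mul, pow_two, rels.2.2.2.2.1, one_pow, one_mul] at h2
    exact rels.2.2.2.2.2.1 h2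

/-- The Sylow 3-subgroups of `C(c)` have order three and are conjugate to `⟨e⟩`. -/
theorem three_cc : ∀ R : Subgroup G, IsPGroup 3 R → (∀ r ∈ R, r * im φ cc = im φ cc * r) →
    ∃ m : G, m * im φ cc = im φ cc * m ∧
      ∀ r ∈ R, m * r * m⁻¹ = 1 ∨ m * r * m⁻¹ = im φ ee ∨ m * r * m⁻¹ = (im φ ee)⁻¹ := by
  intro R hR hRc
  haveI : Fact (Nat.Prime 3) := ⟨Nat.prime_three⟩
  set C := Subgroup.centralizer ({im φ cc} : Set G) with hC
  have memC : ∀ {g : G}, g ∈ C ↔ g * im φ cc = im φ cc * g := fun {g} => by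
    rw [hC, Subgroup.mem_centralizer_singleton_iff]
  have heC : im φ ee ∈ C := memC.2 ((h.comm_iff h.ee_mem h.cc_mem).2
    rels.2.2.2.2.2.2.2.2.2.2.2.1)
  set e' : C := ⟨im φ ee, heC⟩ with he'
  have he3 : orderOf e' = 3 := by
    refine orderOf_eq_prime (Subtype.ext ?_) fun e => ?_
    · rw [SubgroupClass.coe_pow]
      exact h.cube_J (h.named_mem bb_named.2.2.2.1).2
    · exact rels.2.2.2.2.2.2.2.2.2.2.2.2.2.2.2.2.2.2.1 (h.eq_one h.ee_mem (congrArg Subtype.val e))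
  obtain ⟨P, hP⟩ := (IsPGroup.of_card (G := Subgroup.zpowers e') (p := 3) (n := 1)
    (by rw [Nat.card_zpowers, he3, pow_one])).exists_le_sylow
  have heP : e' ∈ (P : Subgroup C) := hP (Subgroup.mem_zpowers e')
  haveI : Nontrivial (P : Subgroup C) :=
    (Subgroup.nontrivial_iff_ne_bot _).2 fun e => by
      have h1 := e ▸ heP
      rw [Subgroup.mem_bot] at h1
      rw [h1, orderOf_one] at he3
      omega
  haveI := P.isPGroup'.center_nontrivial
  obtain ⟨z, hz⟩ := exists_ne (1 : Subgroup.center (P : Subgroup C))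
  have hzc : ∀ x ∈ (P : Subgroup C), x * ((z : (P : Subgroup C)) : C) = z * x := fun x hx =>
    congrArg Subtype.val (Subgroup.mem_center_iff.1 z.2 ⟨x, hx⟩)
  have hce : ∀ g : C, g * e' = e' * g → g ∈ (P : Subgroup C) →
      (g : G) = 1 ∨ (g : G) = im φ ee ∨ (g : G) = (im φ ee)⁻¹ := fun g hg hgP => by
    obtain ⟨k, hk⟩ := P.isPGroup' ⟨g, hgP⟩
    exact h.three_ce k g (congrArg Subtype.val hg) (memC.1 g.2)
      (by simpa using congrArg (fun x : (P : Subgroup C) => ((x : C) : G)) hk)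
  have hzval := hce _ (hzc e' heP).symm (z : (P : Subgroup C)).2
  have hPe : ∀ x ∈ (P : Subgroup C),
      (x : G) = 1 ∨ (x : G) = im φ ee ∨ (x : G) = (im φ ee)⁻¹ := fun x hx => by
    refine hce x (Subtype.ext ?_) hx
    have hc : Commute (x : G) (((z : (P : Subgroup C)) : C) : G) :=
      congrArg Subtype.val (hzc x hx)
    rcases hzval with e | e | e
    · exact absurd (Subtype.ext (Subtype.ext (Subtype.ext e))) hz
    · rw [e] at hc; exact hc.eq
    · rw [e] at hc; exact (Commute.inv_right_iff.1 hc).eq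
  have hRC : R ≤ C := fun r hr => memC.2 (hRc r hr)
  have hR' : IsPGroup 3 (R.subgroupOf C) := hR.comap_subtype
  obtain ⟨Q, hQ⟩ := hR'.exists_le_sylow
  obtain ⟨m, hm⟩ := MulAction.exists_smul_eq C Q P
  refine ⟨m, memC.1 m.2, fun r hr => ?_⟩
  have hmem : m * (⟨r, hRC hr⟩ : C) * m⁻¹ ∈ (P : Subgroup C) := by
    rw [← hm]
    exact Subgroup.smul_mem_pointwise_smul _ (MulAut.conj m) (Q : Subgroup C)
      (hQ (Subgroup.mem_subgroupOf.2 hr))
  exact hPe _ hmem

/-- `τ` is not conjugate to `c`. -/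
theorem tau_not_cc (g : G) : g * im φ tau * g⁻¹ ≠ im φ cc := by
  intro hg
  haveI : Fact (Nat.Prime 3) := ⟨Nat.prime_three⟩
  have htU := h.mem_gens.2.2.2.2
  obtain ⟨P, hPJ, hPc, memP⟩ := h.exists_plane
  have hPp : IsPGroup 3 P := IsPGroup.of_card (n := 2) (by rw [hPc]; norm_num)
  obtain ⟨m, -, hm⟩ := h.three_cc (P.map (MulAut.conj g).toMonoidHom) (hPp.map _) (by
    rintro _ ⟨r, hr, rfl⟩
    obtain ⟨a, rfl⟩ := (memP r).1 hr
    rw [← hg]
    show g * im φ (pp a) * g⁻¹ * (g * im φ tau * g⁻¹) =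
      g * im φ tau * g⁻¹ * (g * im φ (pp a) * g⁻¹)
    calc g * im φ (pp a) * g⁻¹ * (g * im φ tau * g⁻¹)
        = g * (im φ (pp a) * im φ tau) * g⁻¹ := by group
      _ = g * (im φ tau * im φ (pp a)) * g⁻¹ := by
          rw [(h.comm_iff (h.pp_mem a) htU).2 (pp_tau a)]
      _ = _ := by group)
  classical
  have hsub : ((P.map (MulAut.conj g).toMonoidHom).map (MulAut.conj m).toMonoidHom : Set G) ⊆
      ↑({1, im φ ee, (im φ ee)⁻¹} : Finset G) := by
    rintro _ ⟨r, hr, rfl⟩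
    simpa using hm r hr
  classical
  have h3 := Nat.card_mono (Finset.finite_toSet _) hsub
  rw [Nat.card_coe_set_eq, Nat.card_coe_set_eq, Set.ncard_coe_finset] at h3
  have hc9 : Nat.card ((P.map (MulAut.conj g).toMonoidHom).map (MulAut.conj m).toMonoidHom) = 9 := by
    rw [Subgroup.card_map_of_injective (MulAut.conj m).injective,
      Subgroup.card_map_of_injective (MulAut.conj g).injective, hPc]
  rw [← Nat.card_coe_set_eq] at h3
  have := h3.trans Finset.card_le_three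
  rw [show Nat.card (((P.map (MulAut.conj g).toMonoidHom).map (MulAut.conj m).toMonoidHom : Subgroup G) :
    Set G) = 9 from hc9] at this
  omega

/-- `-1` is not conjugate to `c`. -/
theorem zz_not_cc (g : G) : g * im φ zz * g⁻¹ ≠ im φ cc := by
  intro hg
  haveI : Fact (Nat.Prime 3) := ⟨Nat.prime_three⟩
  have hrU := h.mem_gens.2.2.2.1
  set r := im φ rot with hr
  have hr1 : r ≠ 1 := fun e => rels_two.2.2.2.2.2.2.2.2.2.2.2.2.2 (h.eq_one hrU e)
  have hr3 : r ^ 3 = 1 := by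
    rw [hr, ← im_pow hrU, rels.2.2.2.2.2.2.2.2.2.2.2.2.2.2.2.2.1, im_one]
  have hrz : r * im φ zz = im φ zz * r :=
    (h.comm_iff hrU h.zz_mem).2 rels.2.2.2.2.2.2.2.2.2.2.1.symm
  obtain ⟨m, -, hm⟩ := h.three_cc (Subgroup.zpowers (g * r * g⁻¹))
    (IsPGroup.of_card (n := 1) (by
      rw [Nat.card_zpowers, pow_one]
      refine orderOf_eq_prime ?_ (fun e => hr1 (conj_eq_one_iff.1 e))
      rw [conj_pow, hr3, mul_one, mul_inv_cancel]))
    (fun x hx => by
      obtain ⟨n, rfl⟩ := Subgroup.mem_zpowers_iff.1 hx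
      refine (Commute.zpow_left ?_ n).eq
      rw [← hg]
      show g * r * g⁻¹ * (g * im φ zz * g⁻¹) = g * im φ zz * g⁻¹ * (g * r * g⁻¹)
      calc g * r * g⁻¹ * (g * im φ zz * g⁻¹) = g * (r * im φ zz) * g⁻¹ := by group
        _ = g * (im φ zz * r) * g⁻¹ := by rw [hrz]
        _ = _ := by group)
  have hw : (m * g) * r * (m * g)⁻¹ = 1 ∨ (m * g) * r * (m * g)⁻¹ = im φ ee ∨
      (m * g) * r * (m * g)⁻¹ = (im φ ee)⁻¹ := by
    rw [show (m * g) * r * (m * g)⁻¹ = m * (g * r * g⁻¹) * m⁻¹ by group]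
    exact hm _ (Subgroup.mem_zpowers _)
  set n := m * g with hn
  have heJ := (h.named_mem bb_named.2.2.2.1).2
  have hwJ : n * r * n⁻¹ ∈ J ∧ n * r * n⁻¹ ≠ 1 := by
    refine ⟨?_, fun e => hr1 (conj_eq_one_iff.1 e)⟩
    rcases hw with e | e | e <;> rw [e]
    exacts [J.one_mem, heJ, J.inv_mem heJ]
  have hxr : im φ xx * r = r * im φ xx := (h.comm_iff h.xx_mem hrU).2
    rels.2.2.2.2.2.2.2.2.2.2.2.2.2.2.2.1.symm
  set v := n * im φ xx * n⁻¹ with hv
  have hv3 : v ^ 3 = 1 := by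
    rw [hv, conj_pow, h.cube_J (h.named_mem bb_named.2.2.2.2.1).2, mul_one, mul_inv_cancel]
  have hvw : v * (n * r * n⁻¹) = n * r * n⁻¹ * v := by
    rw [hv]
    calc n * im φ xx * n⁻¹ * (n * r * n⁻¹) = n * (im φ xx * r) * n⁻¹ := by group
      _ = n * (r * im φ xx) * n⁻¹ := by rw [hxr]
      _ = _ := by group
  have hve : v * im φ ee = im φ ee * v := by
    rcases hw with e | e | e
    · exact absurd e hwJ.2
    · rwa [e] at hvw
    · rw [e] at hvw
      exact (Commute.inv_right_iff.1 (show Commute v (im φ ee)⁻¹ from hvw)).eq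
  have hvJ : v ∈ J := h.mem_J_of_cent bb_named.2.2.2.1 h.cent_ee cent_e
    (fun b => (tau_bb_cube b).2) hve hv3
  have hnN : n⁻¹ ∈ Subgroup.normalizer (J : Set G) := h.mem_of_conj_mem hvJ (by
    rw [show n⁻¹ * v * n⁻¹⁻¹ = im φ xx by rw [hv]; group]
    exact h.cent_xx)
  refine h.rot_notin.1 ?_
  have := (Subgroup.mem_normalizer_iff.1 hnN _).1 hwJ.1
  simpa [mul_assoc] using this

/-- An element of `C(c)` carrying `τ` to `-1` carries `x` into `⟨ρ⟩`. -/
theorem swap_xx {y : G} (hy : y * im φ cc = im φ cc * y) (hyt : y * im φ tau * y⁻¹ = im φ zz) :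
    y * im φ xx * y⁻¹ = im φ rot ∨ y * im φ xx * y⁻¹ = (im φ rot)⁻¹ := by
  have hrU := h.mem_gens.2.2.2.1
  have htU := h.mem_gens.2.2.2.2
  have hrz : im φ rot * im φ zz = im φ zz * im φ rot :=
    (h.comm_iff hrU h.zz_mem).2 rels.2.2.2.2.2.2.2.2.2.2.1.symm
  set w := y⁻¹ * im φ rot * y with hw
  have hwt : w * im φ tau = im φ tau * w := by
    rw [← hyt] at hrz
    rw [hw]
    calc y⁻¹ * im φ rot * y * im φ tau = y⁻¹ * (im φ rot * (y * im φ tau * y⁻¹)) * y := by group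
      _ = y⁻¹ * (y * im φ tau * y⁻¹ * im φ rot) * y := by rw [hrz]
      _ = _ := by group
  have hr3 : im φ rot ^ 3 = 1 := by
    rw [← im_pow hrU, rels.2.2.2.2.2.2.2.2.2.2.2.2.2.2.2.2.1, im_one]
  have hw3 : w ^ 3 = 1 := by
    rw [hw, show y⁻¹ * im φ rot * y = y⁻¹ * im φ rot * y⁻¹⁻¹ by group, conj_pow, hr3]
    group
  obtain ⟨p, hp, hpw⟩ := h.exists_im (h.cent_tau_le (Subgroup.mem_centralizer_singleton_iff.2 hwt))
  obtain ⟨a, ha⟩ := cent_tau_three p ((h.comm_iff hp htU).1 (by rw [hpw]; exact hwt))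
    (h.eq_one (W2.pow_mem hp 3) (by rw [im_pow hp, hpw, hw3]))
  have hpa : im φ (pp a) = w := by rw [ha, hpw]
  have hrot : im φ rot = y * w * y⁻¹ := by rw [hw]; group
  have hbad : ∀ (j uu : P9), (∃ b, bb b = j) →
      Subgroup.centralizer ({im φ j} : Set G) ≤ Subgroup.normalizer (J : Set G) →
      (∀ p, el p * j = j * el p → inB p ∨ ∃ b, uu⁻¹ * el p = bb b) →
      (∀ b, (uu * bb b) ^ 3 ≠ 1) → w = im φ j ∨ w = (im φ j)⁻¹ → False := by
    intro j uu hj hC hcase hu hwj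
    set v := y⁻¹ * im φ xx * y with hv
    have hxr : im φ xx * im φ rot = im φ rot * im φ xx := (h.comm_iff h.xx_mem hrU).2
      rels.2.2.2.2.2.2.2.2.2.2.2.2.2.2.2.1.symm
    have hvw : Commute v w := by
      show y⁻¹ * im φ xx * y * (y⁻¹ * im φ rot * y) = y⁻¹ * im φ rot * y * (y⁻¹ * im φ xx * y)
      calc y⁻¹ * im φ xx * y * (y⁻¹ * im φ rot * y) = y⁻¹ * (im φ xx * im φ rot) * y := by group
        _ = y⁻¹ * (im φ rot * im φ xx) * y := by rw [hxr]
        _ = _ := by group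
    have hv3 : v ^ 3 = 1 := by
      rw [hv, show y⁻¹ * im φ xx * y = y⁻¹ * im φ xx * y⁻¹⁻¹ by group, conj_pow,
        h.cube_J (h.named_mem bb_named.2.2.2.2.1).2]
      group
    have hvj : v * im φ j = im φ j * v := by
      rcases hwj with e | e <;> rw [e] at hvw
      · exact hvw.eq
      · exact (Commute.inv_right_iff.1 hvw).eq
    have hvJ := h.mem_J_of_cent hj hC hcase hu hvj hv3
    have hyN : y ∈ Subgroup.normalizer (J : Set G) := h.mem_of_conj_mem hvJ (by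
      rw [show y * v * y⁻¹ = im φ xx by rw [hv]; group]
      exact h.cent_xx)
    refine h.rot_notin.1 ?_
    rw [hrot]
    refine (Subgroup.mem_normalizer_iff.1 hyN w).1 ?_
    rw [← hpa]
    exact h.im_pp a
  rcases pp_cases a with e | (e | e) | (e | e) | (e | e) | (e | e) <;> rw [e] at hpa
  · exfalso
    rw [im_one] at hpa
    rw [← hpa, mul_one, mul_inv_cancel] at hrot
    exact rels_two.2.2.2.2.2.2.2.2.2.2.2.2.2 (h.eq_one hrU hrot)
  · exact Or.inl (by rw [hrot, hpa])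
  · refine Or.inr ?_
    rw [hrot, ← hpa, im_inv h.xx_mem]
    group
  · exact absurd (Or.inl hpa.symm) (hbad _ _ bb_named.1 h.cent_c3 cent_three fun b => (tau_bb_cube b).1)
  · exact absurd (Or.inr (by rw [← hpa, im_inv (h.named_mem bb_named.1).1]))
      (hbad _ _ bb_named.1 h.cent_c3 cent_three fun b => (tau_bb_cube b).1)
  · exact absurd (Or.inl hpa.symm) (hbad _ _ bb_named.2.1 h.cent_qq cent_q fun b => (tau_bb_cube b).1)
  · exact absurd (Or.inr (by rw [← hpa, im_inv (h.named_mem bb_named.2.1).1]))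
      (hbad _ _ bb_named.2.1 h.cent_qq cent_q fun b => (tau_bb_cube b).1)
  · exact absurd (Or.inl hpa.symm) (hbad _ _ bb_named.2.2.1 h.cent_ff cent_f fun b => (tau_bb_cube b).1)
  · exact absurd (Or.inr (by rw [← hpa, im_inv (h.named_mem bb_named.2.2.1).1]))
      (hbad _ _ bb_named.2.2.1 h.cent_ff cent_f fun b => (tau_bb_cube b).1)

omit [Finite G] in
omit h in
theorem act_ap_aux {g : G} {M : Mat} (hadd : ∀ v w, im φ (coP (v + w)) = im φ (coP v) * im φ (coP w))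
    (h1 : g * im φ (coP (1, 0)) * g⁻¹ = im φ (coP M.1))
    (h2 : g * im φ (coP (0, 1)) * g⁻¹ = im φ (coP M.2)) (v : V2) :
    g * im φ (coP v) * g⁻¹ = im φ (coP (ap M v)) := by
  have hzero : im φ (coP 0) = 1 := by simp [coP, im_one]
  have hpow : ∀ (w : V2) (n : ℕ), im φ (coP w) ^ n = im φ (coP (n • w)) := by
    intro w n
    induction n with
    | zero => simp [hzero]
    | succ n ih => rw [pow_succ, ih, succ_nsmul, hadd]
  have hv : v = v.1.val • ((1 : ZMod 3), (0 : ZMod 3)) + v.2.val • ((0 : ZMod 3), (1 : ZMod 3)) := by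
    simp [nsmul_eq_mul, ZMod.natCast_zmod_val]
  have hap : ap M v = v.1.val • M.1 + v.2.val • M.2 := by
    simp [ap, nsmul_eq_mul, ZMod.natCast_zmod_val, Prod.ext_iff]
  conv_lhs => rw [hv]
  rw [hap, hadd, hadd, ← hpow, ← hpow, ← hpow, ← hpow, ← h1, ← h2, conj_pow, conj_pow]
  group

/-- The elements of `C(c)` that act linearly on `⟨x, ρ⟩`, as a subgroup, with the transitivity
forced by a swapper. -/
theorem exists_lin {y : G} (hy : y * im φ cc = im φ cc * y)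
    (hyt : y * im φ tau * y⁻¹ = im φ zz) :
    ∃ L : Subgroup G, (∀ g ∈ L, g * im φ cc = im φ cc * g) ∧ im φ tau ∈ L ∧
      (∀ g, g * im φ cc = im φ cc * g → g * im φ tau * g⁻¹ ∈ L → g ∈ L) ∧
      (∀ w ∈ L, w * w = 1 → w ≠ 1 → w ≠ im φ cc →
        ∃ g, g * im φ tau * g⁻¹ = w ∨ g * im φ zz * g⁻¹ = w) := by
  have hrU := h.mem_gens.2.2.2.1
  have htU := h.mem_gens.2.2.2.2
  have hadd : ∀ v w, im φ (coP (v + w)) = im φ (coP v) * im φ (coP w) := fun v w => by
    rw [coP_add, im_mul (h.coP_mem v) (h.coP_mem w)]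
  have hinj : ∀ v w, im φ (coP v) = im φ (coP w) → v = w := fun v w e =>
    coP_inj v w (h.inj (h.coP_mem v) (h.coP_mem w) e)
  let Act : G → Mat → Prop := fun g M => ∀ v, g * im φ (coP v) * g⁻¹ = im φ (coP (ap M v))
  have hbasis : ∀ g M, g * im φ xx * g⁻¹ = im φ (coP M.1) →
      g * im φ rot * g⁻¹ = im φ (coP M.2) → Act g M := fun g M h1 h2 =>
    act_ap_aux hadd (by rwa [coP_basis.1]) (by rwa [coP_basis.2.2.1])
  have hactm : ∀ g k M N, Act g M → Act k N → Act (g * k) (mm M N) := fun g k M N hg hk =>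
    hbasis _ _
      (by
        rw [show g * k * im φ xx * (g * k)⁻¹ = g * (k * im φ xx * k⁻¹) * g⁻¹ by group,
          ← coP_basis.1, hk, hg]
        simp [mm, ap])
      (by
        rw [show g * k * im φ rot * (g * k)⁻¹ = g * (k * im φ rot * k⁻¹) * g⁻¹ by group,
          ← coP_basis.2.2.1, hk, hg]
        simp [mm, ap])
  have hactu : ∀ g M N, Act g M → Act g N → M = N := fun g M N hM hN => by
    have e1 := hinj _ _ ((hM (1, 0)).symm.trans (hN (1, 0)))
    have e2 := hinj _ _ ((hM (0, 1)).symm.trans (hN (0, 1)))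
    simp [ap] at e1 e2
    exact Prod.ext e1 e2
  have hact1 : Act 1 idM := fun v => by simp [idM, ap]
  -- faithfulness
  have hfaith : ∀ g k M, g * im φ cc = im φ cc * g → k * im φ cc = im φ cc * k →
      Act g M → Act k M → g = k := by
    intro g k M hgc hkc hg hk
    have hfix : ∀ v, Commute (k⁻¹ * g) (im φ (coP v)) := fun v => by
      show k⁻¹ * g * im φ (coP v) = im φ (coP v) * (k⁻¹ * g)
      calc k⁻¹ * g * im φ (coP v) = k⁻¹ * (g * im φ (coP v) * g⁻¹) * g := by group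
        _ = k⁻¹ * (k * im φ (coP v) * k⁻¹) * g := by rw [hg v, hk v]
        _ = _ := by group
    have hx := hfix (1, 0)
    have hr := hfix (0, 1)
    rw [coP_basis.1] at hx
    rw [coP_basis.2.2.1] at hr
    have hc : Commute (k⁻¹ * g) (im φ cc) :=
      (show Commute k (im φ cc) from hkc).inv_left.mul_left hgc
    obtain ⟨p, hp, hpu⟩ := h.exists_im (h.cent_xx (Subgroup.mem_centralizer_singleton_iff.2 hx.eq))
    rw [← hpu] at hx hr hc
    have := cent_frame p ((h.comm_iff hp h.xx_mem).1 hx.eq) ((h.comm_iff hp hrU).1 hr.eq)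
      ((h.comm_iff hp h.cc_mem).1 hc.eq)
    rw [this, im_one] at hpu
    exact (inv_mul_eq_one.1 hpu.symm).symm
  -- actions
  have hact_c : Act (im φ cc) negM := hbasis _ _
    (by rw [h.conj_eq h.cc_mem h.xx_mem rels_two.2.2.2.2.2.2.2.1, ← coP_basis.2.1]; rfl)
    (by rw [h.conj_eq h.cc_mem hrU rels_two.2.2.2.2.2.2.2.2.1, ← coP_basis.2.2.2.1]; rfl)
  have hact_t : Act (im φ tau) dM := hbasis _ _
    (by rw [h.conj_eq htU h.xx_mem rels_two.2.2.2.2.2.2.2.2.2.1]; exact congrArg _ coP_basis.1.symm)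
    (by rw [h.conj_eq htU hrU rels_two.2.2.2.2.2.2.2.2.2.2.1, ← coP_basis.2.2.2.1]; rfl)
  have htc : im φ tau * im φ cc = im φ cc * im φ tau :=
    (h.comm_iff htU h.cc_mem).2 rels_two.2.2.1.symm
  have hec : im φ ee * im φ cc = im φ cc * im φ ee :=
    (h.comm_iff h.ee_mem h.cc_mem).2 rels.2.2.2.2.2.2.2.2.2.2.2.1
  obtain ⟨s, hs0, hact_e⟩ : ∃ s : ZMod 3, s ≠ 0 ∧ Act (im φ ee) (upM s) := by
    have h1 : im φ ee * im φ xx * (im φ ee)⁻¹ = im φ (coP (1, 0)) := by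
      rw [h.conj_eq h.ee_mem h.xx_mem rels_two.2.2.2.2.2.2.2.2.2.2.2.1, coP_basis.1]
    rcases ee_rot with e | e
    · exact ⟨1, by decide, hbasis _ _ h1 (by
        rw [h.conj_eq h.ee_mem hrU e, ← coP_basis.2.2.2.2.1]; rfl)⟩
    · exact ⟨2, by decide, hbasis _ _ h1 (by
        rw [h.conj_eq h.ee_mem hrU e, ← coP_basis.2.2.2.2.2]; rfl)⟩
  -- the swapper and its inverse
  have hz : im φ zz = im φ cc * im φ tau := by
    rw [← im_mul h.cc_mem htU, rels_two.2.2.1, rels_two.2.2.2.2.1]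
  have hyz : y * im φ zz * y⁻¹ = im φ tau := by
    rw [hz, show y * (im φ cc * im φ tau) * y⁻¹ = y * im φ cc * y⁻¹ * (y * im φ tau * y⁻¹) by group,
      hy, mul_inv_cancel_right, hyt, hz, ← mul_assoc, ← im_mul h.cc_mem h.cc_mem, rels.2.2.2.2.1,
      im_one, one_mul]
  have hyi : y⁻¹ * im φ cc = im φ cc * y⁻¹ := (show Commute y (im φ cc) from hy).inv_left.eq
  have hyit : y⁻¹ * im φ tau * y⁻¹⁻¹ = im φ zz := by
    rw [← hyz]
    group
  have hswap : ∀ q : G, q * im φ cc = im φ cc * q → q * im φ tau * q⁻¹ = im φ zz →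
      q⁻¹ * im φ cc = im φ cc * q⁻¹ → q⁻¹ * im φ tau * q⁻¹⁻¹ = im φ zz →
      ∃ a b, Act q (swM a b) := by
    intro q hq hqt hqi hqit
    obtain ⟨a, ha⟩ : ∃ a : ZMod 3, q * im φ xx * q⁻¹ = im φ (coP (0, a)) := by
      rcases h.swap_xx hq hqt with e | e
      · exact ⟨1, by rw [e, coP_basis.2.2.1]⟩
      · exact ⟨2, by rw [e, coP_basis.2.2.2.1, im_inv hrU]⟩
    obtain ⟨b, hb⟩ : ∃ b : ZMod 3, q * im φ rot * q⁻¹ = im φ (coP (b, 0)) := by
      rcases h.swap_xx hqi hqit with e | e <;> rw [inv_inv] at e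
      · exact ⟨1, by rw [← e, coP_basis.1]; group⟩
      · refine ⟨2, ?_⟩
        have e' : im φ rot = (q⁻¹ * im φ xx * q)⁻¹ := by rw [e, inv_inv]
        rw [e', coP_basis.2.1, im_inv h.xx_mem]
        group
    exact ⟨a, b, hbasis _ _ ha hb⟩
  obtain ⟨a, b, hY⟩ := hswap y hy hyt hyi hyit
  obtain ⟨a', b', hY'⟩ := hswap y⁻¹ hyi hyit (by rwa [inv_inv]) (by rw [inv_inv]; exact hyt)
  have hYY : mm (swM a b) (swM a' b') = idM := by
    have := hactm _ _ _ _ hY hY'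
    rw [mul_inv_cancel] at this
    exact hactu 1 _ _ this hact1
  -- the subgroup
  let Ls : Set G := {g | g * im φ cc = im φ cc * g ∧ ∃ M, Act g M}
  let L : Subgroup G := ofMul Ls ⟨by simp, idM, hact1⟩ (by
    rintro g ⟨hgc, M, hM⟩ k ⟨hkc, N, hN⟩
    exact ⟨((show Commute g (im φ cc) from hgc).mul_left hkc).eq, _, hactm _ _ _ _ hM hN⟩)
  have htL : im φ tau ∈ L := ⟨htc, dM, hact_t⟩
  have hyL : y ∈ L := ⟨hy, _, hY⟩
  have heL : im φ ee ∈ L := ⟨hec, _, hact_e⟩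
  have hup : ∀ i, ∃ k ∈ L, Act k (upM i) := fun i => by
    rcases upM_cover s hs0 i with e | e | e <;> rw [e]
    · exact ⟨1, L.one_mem, hact1⟩
    · exact ⟨_, heL, hact_e⟩
    · exact ⟨_, L.mul_mem heL heL, hactm _ _ _ _ hact_e hact_e⟩
  have hlo : ∀ j, ∃ k ∈ L, Act k (loM j) := fun j => by
    obtain ⟨i, hi⟩ := loM_cover a b a' b' hYY j
    obtain ⟨k, hk, hkA⟩ := hup i
    exact ⟨y * k * y⁻¹, L.mul_mem (L.mul_mem hyL hk) (L.inv_mem hyL),
      hi ▸ hactm _ _ _ _ (hactm _ _ _ _ hY hkA) hY'⟩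
  have hconj : ∀ w ∈ L, w * w = 1 → w ≠ 1 → w ≠ im φ cc →
      ∃ k ∈ L, k * im φ tau * k⁻¹ = w := by
    rintro w ⟨hwc, M, hM⟩ hw2 hw1 hwcc
    have hMM : mm M M = idM := by
      have := hactm _ _ _ _ hM hM
      rw [hw2] at this
      exact hactu 1 _ _ this hact1
    have hMid : M ≠ idM := fun e => hw1 (hfaith w 1 M hwc (by simp) hM (e ▸ hact1))
    have hMneg : M ≠ negM := fun e => hwcc (hfaith w _ M hwc rfl hM (e ▸ hact_c))
    obtain ⟨i, j, k, l, hW⟩ := invol_word M hMM hMid hMneg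
    obtain ⟨k₁, hk₁, hA₁⟩ := hup i
    obtain ⟨k₂, hk₂, hA₂⟩ := hlo j
    obtain ⟨k₃, hk₃, hA₃⟩ := hup k
    obtain ⟨k₄, hk₄, hA₄⟩ := hlo l
    set q := k₁ * k₂ * k₃ * k₄ with hq
    have hqL : q ∈ L := L.mul_mem (L.mul_mem (L.mul_mem hk₁ hk₂) hk₃) hk₄
    have hqA : Act q (word i j k l) :=
      hactm _ _ _ _ (hactm _ _ _ _ (hactm _ _ _ _ hA₁ hA₂) hA₃) hA₄
    refine ⟨q, hqL, mul_inv_eq_iff_eq_mul.2 ?_⟩
    refine hfaith _ _ _ ?_ ?_ (hW ▸ hactm _ _ _ _ hqA hact_t) (hactm _ _ _ _ hM hqA)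
    · exact ((show Commute q (im φ cc) from hqL.1).mul_left htc).eq
    · exact ((show Commute w (im φ cc) from hwc).mul_left hqL.1).eq
  refine ⟨L, fun g hg => hg.1, htL, fun g hgc hg => ?_, fun w hw h1 h2 h3 => ?_⟩
  · have hne1 : g * im φ tau * g⁻¹ ≠ 1 := fun e =>
      rels.2.1 (h.eq_one htU (conj_eq_one_iff.1 e))
    have hsq : g * im φ tau * g⁻¹ * (g * im φ tau * g⁻¹) = 1 := by
      rw [show g * im φ tau * g⁻¹ * (g * im φ tau * g⁻¹) = g * (im φ tau * im φ tau) * g⁻¹ by group,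
        ← im_mul htU htU, rels.1, im_one, mul_one, mul_inv_cancel]
    obtain ⟨k, hkL, hk⟩ := hconj _ hg hsq hne1 (h.tau_not_cc g)
    have hu : (k⁻¹ * g) * im φ tau = im φ tau * (k⁻¹ * g) := by
      calc (k⁻¹ * g) * im φ tau = k⁻¹ * (g * im φ tau * g⁻¹) * g := by group
        _ = k⁻¹ * (k * im φ tau * k⁻¹) * g := by rw [hk]
        _ = _ := by group
    have huc : (k⁻¹ * g) * im φ cc = im φ cc * (k⁻¹ * g) :=
      ((show Commute k (im φ cc) from hkL.1).inv_left.mul_left hgc).eq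
    have huL : k⁻¹ * g ∈ L := by
      have hcL : im φ cc ∈ L := ⟨rfl, negM, hact_c⟩
      rcases h.cent_four_tc hu huc with e | e | e | e <;> rw [e]
      · exact L.one_mem
      · exact htL
      · rw [hz]; exact L.mul_mem hcL htL
      · exact hcL
    simpa using L.mul_mem hkL huL
  · obtain ⟨k, -, hk⟩ := hconj w hw h1 h2 h3
    exact ⟨k, Or.inl hk⟩

/-- A subgroup of `C(c)` containing a Sylow 2-subgroup, all whose involutions other than `c` are
conjugate to `τ` or `-1`. -/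
theorem exists_control :
    ∃ K : Subgroup G, (∀ g ∈ K, g * im φ cc = im φ cc * g) ∧ im φ tau ∈ K ∧
      (∀ g, g * im φ cc = im φ cc * g → g * im φ tau * g⁻¹ ∈ K → g ∈ K) ∧
      (∀ w ∈ K, w * w = 1 → w ≠ 1 → w ≠ im φ cc →
        ∃ g, g * im φ tau * g⁻¹ = w ∨ g * im φ zz * g⁻¹ = w) := by
  have htU := h.mem_gens.2.2.2.2
  by_cases hsw : ∃ y, y * im φ cc = im φ cc * y ∧ y * im φ tau * y⁻¹ = im φ zz
  · obtain ⟨y, hy, hyt⟩ := hsw
    exact h.exists_lin hy hyt
  let V : Subgroup G :=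
    Subgroup.centralizer ({im φ tau} : Set G) ⊓ Subgroup.centralizer ({im φ cc} : Set G)
  have memV : ∀ g, g ∈ V ↔ g * im φ tau = im φ tau * g ∧ g * im φ cc = im φ cc * g := fun g => by
    simp only [V, Subgroup.mem_inf, Subgroup.mem_centralizer_singleton_iff]
  refine ⟨V, fun g hg => ((memV g).1 hg).2,
    (memV _).2 ⟨rfl, (h.comm_iff htU h.cc_mem).2 rels_two.2.2.1.symm⟩, fun g hgc hg => ?_,
    fun w hw _ h1 hc => ?_⟩
  · rcases h.cent_four_tc ((memV _).1 hg).1 ((memV _).1 hg).2 with e | e | e | e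
    · exact absurd (h.eq_one htU (conj_eq_one_iff.1 e)) rels.2.1
    · exact (memV g).2 ⟨mul_inv_eq_iff_eq_mul.1 e, hgc⟩
    · exact absurd ⟨g, hgc, e⟩ hsw
    · exact absurd e (h.tau_not_cc g)
  · rcases h.cent_four_tc ((memV _).1 hw).1 ((memV _).1 hw).2 with e | e | e | e
    · exact absurd e h1
    · exact ⟨1, Or.inl (by simp [e])⟩
    · exact ⟨1, Or.inr (by simp [e])⟩
    · exact absurd e hc

/-- `c` is an isolated involution. -/
theorem isolated : Cfsg.IsIsolatedInvolution (im φ cc) := by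
  haveI : Fact (Nat.Prime 2) := ⟨Nat.prime_two⟩
  have htU := h.mem_gens.2.2.2.2
  set c := im φ cc with hcdef
  have hc2 : orderOf c = 2 := orderOf_eq_prime
    (by rw [hcdef, ← im_pow h.cc_mem, pow_two, rels.2.2.2.2.1, im_one])
    fun e => rels.2.2.2.2.2.1 (h.eq_one h.cc_mem e)
  refine ⟨hc2, fun g hg => ?_⟩
  by_contra hne
  set w := g * c * g⁻¹ with hw
  obtain ⟨K, -, htK, hctrl, hconj⟩ := h.exists_control
  set C := Subgroup.centralizer ({c} : Set G) with hC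
  have memC : ∀ {k : G}, k ∈ C ↔ k * c = c * k := fun {k} => by
    rw [hC, Subgroup.mem_centralizer_singleton_iff]
  have htC : im φ tau ∈ C := memC.2 ((h.comm_iff htU h.cc_mem).2 rels_two.2.2.1.symm)
  have hwC : w ∈ C := memC.2 hg.eq.symm
  set t' : C := ⟨im φ tau, htC⟩ with ht'
  have hot : orderOf t' = 2 := by
    refine orderOf_eq_prime (Subtype.ext ?_) fun e => ?_
    · rw [SubgroupClass.coe_pow]
      show im φ tau ^ 2 = 1
      rw [← im_pow htU, pow_two, rels.1, im_one]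
    · exact rels.2.1 (h.eq_one htU (congrArg Subtype.val e))
  obtain ⟨T, hT⟩ := (IsPGroup.of_card (G := Subgroup.zpowers t') (p := 2) (n := 1)
    (by rw [Nat.card_zpowers, hot, pow_one])).exists_le_sylow
  have htT : t' ∈ (T : Subgroup C) := hT (Subgroup.mem_zpowers t')
  have hTK : (T : Subgroup C) ⊓ K.subgroupOf C = T :=
    eq_of_normalizer_le inf_le_left T.isPGroup' fun k hk hnorm => by
      have := hnorm t' ⟨htT, Subgroup.mem_subgroupOf.2 htK⟩
      exact ⟨hk, Subgroup.mem_subgroupOf.2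
        (hctrl k (memC.1 k.2) (Subgroup.mem_subgroupOf.1 this.2))⟩
  set w' : C := ⟨w, hwC⟩ with hw'
  have how : orderOf w' = 2 := by
    rw [← orderOf_injective C.subtype C.subtype_injective w']
    show orderOf ((MulAut.conj g).toMonoidHom c) = 2
    rw [orderOf_injective _ (MulAut.conj g).injective, hc2]
  obtain ⟨T', hT'⟩ := (IsPGroup.of_card (G := Subgroup.zpowers w') (p := 2) (n := 1)
    (by rw [Nat.card_zpowers, how, pow_one])).exists_le_sylow
  obtain ⟨k, hk⟩ := MulAction.exists_smul_eq C T' T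
  have hmem : k * w' * k⁻¹ ∈ (T : Subgroup C) := by
    rw [← hk]
    exact Subgroup.smul_mem_pointwise_smul _ (MulAut.conj k) (T' : Subgroup C)
      (hT' (Subgroup.mem_zpowers w'))
  have hmK : (k : G) * w * (k : G)⁻¹ ∈ K := by
    rw [← hTK] at hmem
    exact Subgroup.mem_subgroupOf.1 hmem.2
  have hcc : c * c = 1 := by rw [← pow_two, ← hc2, pow_orderOf_eq_one]
  have hc1 : c ≠ 1 := fun e => by rw [e, orderOf_one] at hc2; omega
  have hnew : (k : G) * w * (k : G)⁻¹ ≠ c := fun e => hne (by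
    have := memC.1 k.2
    calc w = (k : G)⁻¹ * ((k : G) * w * (k : G)⁻¹) * k := by group
      _ = (k : G)⁻¹ * (c * k) := by rw [e]; group
      _ = c := by rw [← this, inv_mul_cancel_left])
  obtain ⟨q, hq⟩ := hconj _ hmK
    (by rw [hw, show (k : G) * (g * c * g⁻¹) * (k : G)⁻¹ * ((k : G) * (g * c * g⁻¹) * (k : G)⁻¹) =
      (k : G) * g * (c * c) * ((k : G) * g)⁻¹ by group, hcc, mul_one, mul_inv_cancel])
    (fun e => hc1 (conj_eq_one_iff.1 (conj_eq_one_iff.1 e)))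
    hnew
  rcases hq with e | e
  · refine h.tau_not_cc (((k : G) * g)⁻¹ * q) ?_
    calc ((k : G) * g)⁻¹ * q * im φ tau * (((k : G) * g)⁻¹ * q)⁻¹
        = ((k : G) * g)⁻¹ * (q * im φ tau * q⁻¹) * ((k : G) * g) := by group
      _ = c := by rw [e, hw]; group
  · refine h.zz_not_cc (((k : G) * g)⁻¹ * q) ?_
    calc ((k : G) * g)⁻¹ * q * im φ zz * (((k : G) * g)⁻¹ * q)⁻¹
        = ((k : G) * g)⁻¹ * (q * im φ zz * q⁻¹) * ((k : G) * g) := by group
      _ = c := by rw [e, hw]; group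

end Ctx

variable {G : Type u} [Group G] [Finite G] {J : Subgroup G}

/-- The case of automiser `S₃ × ⟨-1⟩`. -/
theorem normal_two {φ : W2 →* G} (hb : Base W2 J φ) : J.Normal := by
  have hle : W1 ≤ W2 := Subgroup.closure_mono fun x hx => by
    simp only [Set.mem_insert_iff, Set.mem_singleton_iff] at hx ⊢
    tauto
  have h : Ctx W2 J φ := ⟨hb, hle, le_rfl⟩
  set O := Cfsg.pPrimeCore 2 G with hO
  haveI : O.Normal := HallCore.pPrimeCore_normal 2 G
  refine h.normal_of_odd O ZStarTheorem.odd_card_pPrimeCore ?_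
  obtain ⟨h1, h2, h3, h4, -⟩ := h.mem_gens
  have e3 : im φ c3 ∈ O := by
    have := ZStarTheorem.commutator_mem h.isolated (im φ c3)
    rwa [h.conj_eq h.cc_mem h3 rfl, ← im_inv h3,
      ← im_mul (W2.mul_mem (W2.mul_mem h.cc_mem h3) (W2.inv_mem h.cc_mem)) (W2.inv_mem h3),
      rels_two.2.2.2.2.2.2.2.2.2.2.2.2.1] at this
  have e1 : im φ c1 ∈ O := h.conj_eq h4 h3 rels_c3.1 ▸ Subgroup.Normal.conj_mem ‹_› _ e3 _
  have e2 : im φ c2 ∈ O := h.conj_eq h4 h1 rels_c3.2.1 ▸ Subgroup.Normal.conj_mem ‹_› _ e1 _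
  intro j hj
  obtain ⟨b, rfl⟩ := h.mem_J.1 hj
  rw [bb, im_mul (W2.mul_mem (W2.pow_mem h1 _) (W2.pow_mem h2 _)) (W2.pow_mem h3 _),
    im_mul (W2.pow_mem h1 _) (W2.pow_mem h2 _), im_pow h1, im_pow h2, im_pow h3]
  exact O.mul_mem (O.mul_mem (O.pow_mem e1 _) (O.pow_mem e2 _)) (O.pow_mem e3 _)

end Cfsg.Agent.S9Small37
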