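import Cfsg.Agent.Lib.S9Small37One
import Cfsg.Agent.Lib.S9Small37Two

/-! Piece P4 of S3343: the automisers S₃ and S₃ × ⟨-1⟩ force a normal base. -/
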