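import Cfsg.Agent.Lib.S9Small37Model

/-!
Further decided facts inside `S₃ ≀ S₃` for the small automiser cases of S3343.
-/

set_option autoImplicit false
set_option maxRecDepth 100000

namespace Cfsg.Agent.S9Small37

open Cfsg.Agent.S9Model37

theorem bb_add : ∀ a b : Idx, bb (a.1 + b.1, a.2.1 + b.2.1, a.2.2 + b.2.2) = bb a * bb b := by
  decide +kernel

theorem bb_cube : ∀ b : Idx, bb b ^ 3 = 1 := by
  decide +kernel

theorem tau_bb_cube : ∀ b : Idx, (tau * bb b) ^ 3 ≠ 1 ∧ (cc * bb b) ^ 3 ≠ 1 := by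
  decide +kernel

/-- The elements of `P × ⟨τ⟩`. -/
def pt (q : (Fin 3 × Fin 3) × Fin 2) : P9 := pp q.1 * tau ^ q.2.val

theorem pt_mul : ∀ q q', ∃ s, pt s = pt q * pt q' := by
  decide +kernel

theorem pt_comm : ∀ q q', pt q * pt q' = pt q' * pt q := by
  decide +kernel

theorem pt_inj : ∀ q q', pt q = pt q' → q = q' := by
  decide +kernel

theorem pt_cube : ∀ q, (pt q ^ 3 = 1 ∧ pt q = pp q.1) ∨ pt q ^ 3 = tau := by
  decide +kernel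

theorem bb_cc : ∀ b : Idx, bb b * cc = cc * bb b → bb b = 1 ∨ bb b = ee ∨ bb b = ee⁻¹ := by
  decide +kernel

theorem tau_no_sq : ∀ p : Par, el p * tau = tau * el p → p.2.2.2 = 0 → el p ^ 2 ≠ tau := by
  decide +kernel

theorem rels_c3 : rot * c3 * rot⁻¹ = c1 ∧ rot * c1 * rot⁻¹ = c2 ∧ c1 ^ 3 = 1 ∧ c2 ^ 3 = 1 := by
  decide +kernel

theorem rels_named : xx * qq ≠ 1 ∧ qq ≠ 1 ∧ ff ≠ 1 ∧ qq ^ 3 = 1 ∧ ff ^ 3 = 1 ∧ xx ^ 3 = 1 ∧
    tau ≠ zz ∧ tau * zz ≠ 1 ∧ cc = zz * tau := by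
  decide +kernel

end Cfsg.Agent.S9Small37
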