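import Cfsg.Agent.Lib.S9Small37Add
import Cfsg.Agent.Lib.S9Small37Gen
import Cfsg.Agent.S0205

/-!
S3343, small automisers: the transfer of model facts to `G`, the centralisers of the elements of
the base and of `τ`, and the closing argument from an odd normal subgroup containing the base.
-/

set_option autoImplicit false

namespace Cfsg.Agent.S9Small37

open Cfsg.Agent.S9Model37

universe u

variable {G : Type u} [Group G] {U : Subgroup P9} {J : Subgroup G} {φ : U →* G}

/-- The data with an automiser between `W₁` and `W₂`. -/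
structure Ctx (U : Subgroup P9) (J : Subgroup G) (φ : U →* G) : Prop where
  hb : Base U J φ
  lo : W1 ≤ U
  hi : U ≤ W2

open Classical in
/-- The image in `G` of a permutation of `U`. -/
noncomputable def im (φ : U →* G) (x : P9) : G := if h : x ∈ U then φ ⟨x, h⟩ else 1

theorem im_of {x : P9} (h : x ∈ U) : im φ x = φ ⟨x, h⟩ := dif_pos h

theorem im_mul {x y : P9} (hx : x ∈ U) (hy : y ∈ U) : im φ (x * y) = im φ x * im φ y := by
  rw [im_of hx, im_of hy, im_of (U.mul_mem hx hy), ← map_mul]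
  rfl

theorem im_one : im φ (1 : P9) = 1 := by
  rw [im_of U.one_mem]
  exact map_one φ

theorem im_inv {x : P9} (hx : x ∈ U) : im φ x⁻¹ = (im φ x)⁻¹ := by
  rw [im_of hx, im_of (U.inv_mem hx), ← map_inv]
  rfl

theorem im_pow {x : P9} (hx : x ∈ U) (n : ℕ) : im φ (x ^ n) = im φ x ^ n := by
  rw [im_of hx, im_of (U.pow_mem hx n), ← map_pow]
  rfl

namespace Ctx

variable (h : Ctx U J φ)
include h

theorem inj {x y : P9} (hx : x ∈ U) (hy : y ∈ U) (e : im φ x = im φ y) : x = y := by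
  rw [im_of hx, im_of hy] at e
  exact congrArg Subtype.val (h.hb.inj e)

theorem eq_one {x : P9} (hx : x ∈ U) (e : im φ x = 1) : x = 1 :=
  h.inj hx U.one_mem (e.trans im_one.symm)

theorem mem_gens : c1 ∈ U ∧ c2 ∈ U ∧ c3 ∈ U ∧ rot ∈ U ∧ tau ∈ U := by
  refine ⟨?_, ?_, ?_, ?_, ?_⟩ <;> exact h.lo (Subgroup.subset_closure (by simp))

theorem bb_mem (b : Idx) : bb b ∈ U :=
  U.mul_mem (U.mul_mem (U.pow_mem h.mem_gens.1 _) (U.pow_mem h.mem_gens.2.1 _))
    (U.pow_mem h.mem_gens.2.2.1 _)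

theorem pt_mem (q : (Fin 3 × Fin 3) × Fin 2) : pt q ∈ U := by
  obtain ⟨b, hb⟩ := pp_base q.1
  exact U.mul_mem (hb ▸ h.bb_mem b) (U.pow_mem h.mem_gens.2.2.2.2 _)

theorem pp_mem (a : Fin 3 × Fin 3) : pp a ∈ U := by
  obtain ⟨b, hb⟩ := pp_base a
  exact hb ▸ h.bb_mem b

theorem im_mem {x : P9} (hx : x ∈ U) : im φ x ∈ Subgroup.normalizer (J : Set G) := by
  rw [im_of hx, ← h.hb.range_eq]
  exact ⟨_, rfl⟩

omit h in
theorem exists_el {x : P9} (hx : x ∈ W2) : ∃ p, el p = x := by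
  have hx' : x ∈ Submonoid.closure ({c1, c2, c3, rot, tau, d1 * d2 * d3} : Set P9) := by
    rw [← Subgroup.closure_toSubmonoid_of_finite]
    exact hx
  clear hx
  induction hx' using Submonoid.closure_induction_right with
  | one => exact ⟨((0, 0, 0), 0, 0, 0), by simp [el, bb]⟩
  | mul_right x hx y hy ih =>
    obtain ⟨p, rfl⟩ := ih
    simp only [Set.mem_insert_iff, Set.mem_singleton_iff] at hy
    rcases hy with rfl | rfl | rfl | rfl | rfl | rfl
    · exact ⟨_, closed_c1 p⟩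
    · exact ⟨_, closed_c2 p⟩
    · exact ⟨_, closed_c3 p⟩
    · exact ⟨_, closed_rot p⟩
    · exact ⟨_, closed_tau p⟩
    · exact ⟨_, closed_zz p⟩

theorem exists_im {g : G} (hg : g ∈ Subgroup.normalizer (J : Set G)) :
    ∃ p, el p ∈ U ∧ im φ (el p) = g := by
  rw [← h.hb.range_eq] at hg
  obtain ⟨⟨x, hx⟩, rfl⟩ := hg
  obtain ⟨p, rfl⟩ := exists_el (h.hi hx)
  exact ⟨p, hx, im_of hx⟩

omit h in
theorem mem_base_iff {x : P9} : x ∈ base ↔ ∃ b, bb b = x := by
  constructor
  · intro hx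
    have hx' : x ∈ Submonoid.closure ({c1, c2, c3} : Set P9) := by
      rw [← Subgroup.closure_toSubmonoid_of_finite]
      exact hx
    clear hx
    induction hx' using Submonoid.closure_induction_right with
    | one => exact ⟨(0, 0, 0), by simp [bb]⟩
    | mul_right x hx y hy ih =>
      obtain ⟨b, rfl⟩ := ih
      simp only [Set.mem_insert_iff, Set.mem_singleton_iff] at hy
      rcases hy with rfl | rfl | rfl
      · exact ⟨_, (closed_base b).1⟩
      · exact ⟨_, (closed_base b).2.1⟩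
      · exact ⟨_, (closed_base b).2.2⟩
  · rintro ⟨b, rfl⟩
    refine Subgroup.mul_mem _ (Subgroup.mul_mem _ ?_ ?_) ?_ <;>
      exact Subgroup.pow_mem _ (Subgroup.subset_closure (by simp)) _

theorem mem_J {g : G} : g ∈ J ↔ ∃ b, im φ (bb b) = g := by
  constructor
  · intro hg
    rw [← h.hb.base_eq, Subgroup.mem_map] at hg
    obtain ⟨⟨x, hx⟩, hxb, rfl⟩ := hg
    rw [Subgroup.mem_subgroupOf] at hxb
    obtain ⟨b, rfl⟩ := mem_base_iff.1 hxb
    exact ⟨b, im_of hx⟩
  · rintro ⟨b, rfl⟩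
    rw [im_of (h.bb_mem b)]
    have hmem : (⟨bb b, h.bb_mem b⟩ : U) ∈ base.subgroupOf U :=
      Subgroup.mem_subgroupOf.2 (mem_base_iff.2 ⟨b, rfl⟩)
    have := Subgroup.mem_map_of_mem φ hmem
    rwa [h.hb.base_eq] at this

theorem im_bb (b : Idx) : im φ (bb b) ∈ J := h.mem_J.2 ⟨b, rfl⟩

theorem im_pp (a : Fin 3 × Fin 3) : im φ (pp a) ∈ J := by
  obtain ⟨b, hb⟩ := pp_base a
  exact hb ▸ h.im_bb b

theorem commute_J {a b : G} (ha : a ∈ J) (hb : b ∈ J) : a * b = b * a :=
  (Subgroup.mem_centralizer_iff.1 (h.hb.cJ.ge ha) b hb).symm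

theorem cube_J {a : G} (ha : a ∈ J) : a ^ 3 = 1 := by
  obtain ⟨b, rfl⟩ := h.mem_J.1 ha
  rw [← im_pow (h.bb_mem b), bb_cube, im_one]

theorem card_J : Nat.card J = 27 := by
  have hbij : Function.Bijective (fun b : Idx => (⟨im φ (bb b), h.im_bb b⟩ : J)) := by
    constructor
    · intro a b e
      exact bb_inj a b (h.inj (h.bb_mem a) (h.bb_mem b) (congrArg Subtype.val e))
    · rintro ⟨g, hg⟩
      obtain ⟨b, rfl⟩ := h.mem_J.1 hg
      exact ⟨b, rfl⟩
  rw [← Nat.card_congr (Equiv.ofBijective _ hbij)]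
  simp [Idx]

/-- Commutation in `G` of elements of `U` comes from the model. -/
theorem comm_iff {x y : P9} (hx : x ∈ U) (hy : y ∈ U) :
    im φ x * im φ y = im φ y * im φ x ↔ x * y = y * x := by
  rw [← im_mul hx hy, ← im_mul hy hx]
  exact ⟨fun e => h.inj (U.mul_mem hx hy) (U.mul_mem hy hx) e, fun e => by rw [e]⟩

theorem conj_eq {x y w : P9} (hx : x ∈ U) (hy : y ∈ U) (e : x * y * x⁻¹ = w) :
    im φ x * im φ y * (im φ x)⁻¹ = im φ w := by
  rw [← im_inv hx, ← im_mul hx hy, ← im_mul (U.mul_mem hx hy) (U.inv_mem hx), e]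

variable [Finite G]

/-- A conjugate of `J` inside `N(J)` is `J`. -/
theorem mem_of_conj_le {g : G} (hg : ∀ j ∈ J, g * j * g⁻¹ ∈ Subgroup.normalizer (J : Set G)) :
    g ∈ Subgroup.normalizer (J : Set G) := by
  haveI : Fact (Nat.Prime 3) := ⟨Nat.prime_three⟩
  set A : Subgroup G := J.map (MulAut.conj g).toMonoidHom with hA
  have hAc : Nat.card A = 27 := by
    rw [← h.card_J]
    exact Nat.card_congr (J.equivMapOfInjective _ (MulAut.conj g).injective).symm.toEquiv
  by_cases hle : A ≤ J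
  · exact mem_normalizer_of_conj fun j hj => hle (Subgroup.mem_map_of_mem _ hj)
  exfalso
  obtain ⟨y, hyA, hyJ⟩ := SetLike.not_le_iff_exists.1 hle
  have hAN : A ≤ Subgroup.normalizer (J : Set G) := by
    rintro _ ⟨j, hj, rfl⟩
    exact hg j hj
  have hAcomm : ∀ a ∈ A, ∀ b ∈ A, a * b = b * a := by
    rintro _ ⟨a, ha, rfl⟩ _ ⟨b, hb, rfl⟩
    rw [← map_mul, ← map_mul, h.commute_J ha hb]
  have hA3 : ∀ a ∈ A, a ^ 3 = 1 := by
    rintro _ ⟨a, ha, rfl⟩
    rw [← map_pow, h.cube_J ha, map_one]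
  obtain ⟨p, hp, rfl⟩ := h.exists_im (hAN hyA)
  have hnB : ¬ inB p := fun hB => hyJ (by rw [el_of_inB hB]; exact h.im_bb _)
  have hp3 : el p ^ 3 = 1 := h.eq_one (U.pow_mem hp 3) (by rw [im_pow hp, hA3 _ hyA])
  -- the intersection is fixed by an element outside, hence of order at most three
  have hsmall : Nat.card (A ⊓ J : Subgroup G) ≤ 3 := by
    have hsub : ((A ⊓ J : Subgroup G) : Set G) ⊆
        Set.range (fun i : Fin 3 => im φ xx ^ i.val) := by
      rintro a ⟨haA, haJ⟩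
      obtain ⟨b, rfl⟩ := h.mem_J.1 haJ
      have hxU : xx ∈ U := by
        obtain ⟨b, hb⟩ := bb_named.2.2.2.2.1
        exact hb ▸ h.bb_mem b
      rcases fix_base p hnB hp3 b ((h.comm_iff hp (h.bb_mem b)).1 (hAcomm _ hyA _ haA))
        with e | e | e <;> rw [e]
      · exact ⟨0, by simp [im_one]⟩
      · exact ⟨1, by simp⟩
      · exact ⟨2, by simp [im_mul hxU hxU, pow_two]⟩
    calc Nat.card (A ⊓ J : Subgroup G) ≤ Nat.card (Set.range (fun i : Fin 3 => im φ xx ^ i.val)) :=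
          Nat.card_mono (Set.toFinite _) hsub
      _ ≤ Nat.card (Fin 3) := Finite.card_range_le _
      _ = 3 := by simp
  have hAp : IsPGroup 3 A := IsPGroup.of_card (n := 3) (by rw [hAc]; norm_num)
  have hJp : IsPGroup 3 J := IsPGroup.of_card (n := 3) (by rw [h.card_J]; norm_num)
  obtain ⟨k, hk⟩ := IsPGroup.iff_card.1 (hAp.to_sup_of_normal_right' hJp hAN)
  have hk4 : k ≤ 4 := by
    by_contra hc
    exact h.hb.sylow ((pow_dvd_pow 3 (by omega : 5 ≤ k)).trans
      (hk ▸ Subgroup.card_subgroup_dvd_card _))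
  -- product formula
  have hinj : Function.Injective
      (fun q : (A ⧸ (A ⊓ J).subgroupOf A) × J =>
        (⟨(q.1.out : G) * q.2, Subgroup.mul_mem_sup q.1.out.2 q.2.2⟩ : (A ⊔ J : Subgroup G))) := by
    rintro ⟨a, j⟩ ⟨a', j'⟩ e
    have e' : (a.out : G) * j = (a'.out : G) * j' := congrArg Subtype.val e
    have hd : (a.out : G)⁻¹ * (a'.out : G) = (j : G) * (j' : G)⁻¹ := by
      rw [eq_mul_inv_iff_mul_eq, mul_assoc, ← e', inv_mul_cancel_left]
    have ha : a = a' := by
      rw [← QuotientGroup.out_eq' a, ← QuotientGroup.out_eq' a', QuotientGroup.eq]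
      refine Subgroup.mem_subgroupOf.2 ⟨(a.out⁻¹ * a'.out).2, ?_⟩
      simp only [Subgroup.coe_mul, InvMemClass.coe_inv]
      rw [hd]
      exact J.mul_mem j.2 (J.inv_mem j'.2)
    subst ha
    exact Prod.ext rfl (Subtype.ext (mul_left_cancel e'))
  have hle' := Nat.card_le_card_of_injective _ hinj
  rw [Nat.card_prod, h.card_J, hk] at hle'
  have hidx := Subgroup.card_mul_index ((A ⊓ J).subgroupOf A)
  rw [Nat.card_congr (Subgroup.subgroupOfEquivOfLe inf_le_left).toEquiv, hAc] at hidx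
  have hpow : 3 ^ k ≤ 81 := (Nat.pow_le_pow_right (by norm_num) hk4).trans (by norm_num)
  rw [← Subgroup.index] at hle'
  nlinarith

/-- The normaliser of a subgroup of order nine of `J` is inside `N(J)`. -/
theorem plane_norm {Q : Subgroup G} (hQ : Q ≤ J) (hc : Nat.card Q = 9) {g : G}
    (hg : ∀ q ∈ Q, g * q * g⁻¹ ∈ Q) : g ∈ Subgroup.normalizer (J : Set G) := by
  refine h.mem_of_conj_le fun j hj => h.hb.plane Q hQ hc (Subgroup.mem_centralizer_iff.2 fun q hq => ?_)
  have hn := mem_normalizer_of_conj hg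
  have hq' := (Subgroup.mem_normalizer_iff''.1 hn q).1 hq
  have e := h.commute_J (hQ hq') hj
  calc q * (g * j * g⁻¹) = g * (g⁻¹ * q * g * j) * g⁻¹ := by group
    _ = g * (j * (g⁻¹ * q * g)) * g⁻¹ := by rw [e]
    _ = g * j * g⁻¹ * q := by group

/-- An element conjugated into `J` whose conjugate is centralised only inside `N(J)`. -/
theorem mem_of_conj_mem {g w : G} (hw : w ∈ J)
    (hC : Subgroup.centralizer ({g * w * g⁻¹} : Set G) ≤ Subgroup.normalizer (J : Set G)) :
    g ∈ Subgroup.normalizer (J : Set G) := by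
  refine h.mem_of_conj_le fun j hj => hC (Subgroup.mem_centralizer_singleton_iff.2 ?_)
  calc g * j * g⁻¹ * (g * w * g⁻¹) = g * (j * w) * g⁻¹ := by group
    _ = g * (w * j) * g⁻¹ := by rw [h.commute_J hj hw]
    _ = g * w * g⁻¹ * (g * j * g⁻¹) := by group

/-- The centraliser of an element of `J` whose centraliser in `N(J)` is at most `J ∪ uJ`. -/
theorem cent_le {j : P9} (hj : ∃ b, bb b = j) (hj1 : j ≠ 1) {u : P9}
    (hcase : ∀ p, el p * j = j * el p → inB p ∨ ∃ b, u⁻¹ * el p = bb b) :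
    Subgroup.centralizer ({im φ j} : Set G) ≤ Subgroup.normalizer (J : Set G) := by
  haveI : Fact (Nat.Prime 3) := ⟨Nat.prime_three⟩
  obtain ⟨b₀, rfl⟩ := hj
  have hjU := h.bb_mem b₀
  set a := im φ (bb b₀) with ha
  have haJ : a ∈ J := h.im_bb b₀
  have ho : orderOf a = 3 :=
    orderOf_eq_prime (h.cube_J haJ) fun e => hj1 (h.eq_one hjU e)
  have htwo : ∀ g, g * a = a * g → g ∈ Subgroup.normalizer (J : Set G) →
      g ∈ J ∨ (im φ u)⁻¹ * g ∈ J := by
    intro g hga hg
    obtain ⟨p, hp, rfl⟩ := h.exists_im hg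
    rcases hcase p ((h.comm_iff hp hjU).1 hga) with hB | ⟨b, hb⟩
    · exact Or.inl (by rw [el_of_inB hB]; exact h.im_bb _)
    · have hu : u ∈ U := by
        have : u = el p * (bb b)⁻¹ := by rw [← hb]; group
        rw [this]
        exact U.mul_mem hp (U.inv_mem (h.bb_mem b))
      exact Or.inr (by rw [← im_inv hu, ← im_mul (U.inv_mem hu) hp, hb]; exact h.im_bb b)
  refine cent_le_of_engine _ J haJ (fun r hr => h.commute_J hr haJ)
    (fun r hr s hs => h.commute_J hr hs) (by rw [h.card_J, ho])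
    (fun r hr => by rw [h.cube_J hr]; exact one_mem _) (fun g _ hg => mem_normalizer_of_conj hg)
    (fun g _ hg r hr => (Subgroup.mem_normalizer_iff.1 hg r).1 hr) (im φ u) htwo ?_ ?_
  · intro g hga hgN hgr
    have hfix : ∀ z ∈ Subgroup.zpowers a, g * z * g⁻¹ = z := fun z hz => by
      obtain ⟨n, rfl⟩ := Subgroup.mem_zpowers_iff.1 hz
      have hc : Commute g (a ^ n) := Commute.zpow_right hga n
      rw [hc.eq, mul_inv_cancel_right]
    have h3 : g ^ 3 ∈ J := by
      rw [← h.hb.cJ]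
      refine Subgroup.mem_centralizer_iff.2 fun r hr => ?_
      have hz := hgr r hr
      set z := g * r * g⁻¹ * r⁻¹ with hzdef
      have hzJ : z ∈ J := Subgroup.zpowers_le.2 haJ hz
      have e1 : g * r * g⁻¹ = z * r := by rw [hzdef]; group
      have step : ∀ w, g * (z * w) * g⁻¹ = z * (g * w * g⁻¹) := fun w => by
        calc g * (z * w) * g⁻¹ = g * z * g⁻¹ * (g * w * g⁻¹) := by group
          _ = z * (g * w * g⁻¹) := by rw [hfix z hz]
      have e3 : g ^ 3 * r * (g ^ 3)⁻¹ = z ^ 3 * r := by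
        calc g ^ 3 * r * (g ^ 3)⁻¹ = g * (g * (g * r * g⁻¹) * g⁻¹) * g⁻¹ := by
              rw [pow_three']; group
          _ = z * (z * (z * r)) := by rw [e1, step, step, e1, step, e1]
          _ = z ^ 3 * r := by rw [pow_three']; group
      rw [h.cube_J hzJ, one_mul] at e3
      exact (mul_inv_eq_iff_eq_mul.1 e3).symm
    by_contra hgJ
    have h1 := (htwo g hga hgN).resolve_left hgJ
    have hc2 : g ^ 2 * a = a * g ^ 2 := (Commute.pow_left hga 2).eq
    have h2 : g ^ 2 ∈ J := (htwo (g ^ 2) hc2 (Subgroup.pow_mem _ hgN 2)).resolve_right fun h2 => by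
      refine hgJ ?_
      have := J.mul_mem (J.inv_mem h1) h2
      simpa [pow_two, mul_assoc] using this
    refine hgJ ?_
    have := J.mul_mem (J.inv_mem h2) h3
    rwa [pow_succ g 2, inv_mul_cancel_left] at this
  · intro g hga r hr hrZ hgr
    have hzpow : ∀ n : ℤ, a ^ n = a ^ (n % 3).toNat := fun n => by
      rw [← zpow_natCast, Int.toNat_of_nonneg (Int.emod_nonneg _ (by norm_num)),
        ← zpow_mod_orderOf a n, ho]
      norm_num
    have har : Commute a r := h.commute_J haJ hr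
    have hr3 : ∀ n, r ^ (n % 3) = r ^ n := fun n => by
      conv_rhs => rw [← Nat.div_add_mod n 3, pow_add, pow_mul, h.cube_J hr, one_pow, one_mul]
    have ha3 : ∀ n, a ^ (n % 3) = a ^ n := fun n => by
      conv_rhs => rw [← Nat.div_add_mod n 3, pow_add, pow_mul, h.cube_J haJ, one_pow, one_mul]
    set Qs : Set G := Set.range (fun q : Fin 3 × Fin 3 => a ^ q.1.val * r ^ q.2.val) with hQs
    have hmk : ∀ i k : ℕ, a ^ i * r ^ k ∈ Qs := fun i k =>
      ⟨(⟨i % 3, Nat.mod_lt _ (by norm_num)⟩, ⟨k % 3, Nat.mod_lt _ (by norm_num)⟩),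
        by simp [hr3, ha3]⟩
    have hclosed : ∀ x ∈ Qs, ∀ y ∈ Qs, x * y ∈ Qs := by
      rintro _ ⟨q, rfl⟩ _ ⟨q', rfl⟩
      have e : a ^ q.1.val * r ^ q.2.val * (a ^ q'.1.val * r ^ q'.2.val) =
          a ^ (q.1.val + q'.1.val) * r ^ (q.2.val + q'.2.val) := by
        rw [pow_add, pow_add, Commute.mul_mul_mul_comm (har.symm.pow_pow _ _)]
      show a ^ q.1.val * r ^ q.2.val * (a ^ q'.1.val * r ^ q'.2.val) ∈ Qs
      rw [e]
      exact hmk _ _
    let Q : Subgroup G := ofMul Qs (by simpa using hmk 0 0) hclosed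
    have hQJ : Q ≤ J := by
      rintro _ ⟨q, rfl⟩
      exact J.mul_mem (J.pow_mem haJ _) (J.pow_mem hr _)
    have hQc : Nat.card Q = 9 := by
      have hi : Function.Injective (fun q : Fin 3 × Fin 3 => a ^ q.1.val * r ^ q.2.val) := by
        have hor : orderOf r = 3 :=
          orderOf_eq_prime (h.cube_J hr) fun e => hrZ (e ▸ one_mem _)
        rintro ⟨i, k⟩ ⟨i', k'⟩ e
        have e' : a ^ i.val * r ^ k.val = a ^ i'.val * r ^ k'.val := e
        have hk : k = k' := by
          by_contra hne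
          have hmem : r ^ ((k.val : ℤ) - k'.val) ∈ Subgroup.zpowers a := by
            refine Subgroup.mem_zpowers_iff.2 ⟨(i'.val : ℤ) - i.val, ?_⟩
            rw [zpow_sub, zpow_sub, zpow_natCast, zpow_natCast, zpow_natCast, zpow_natCast]
            rw [(har.pow_pow _ _).eq, (har.pow_pow _ _).eq] at e'
            have e2 : r ^ k.val = r ^ k'.val * a ^ i'.val * (a ^ i.val)⁻¹ := eq_mul_inv_of_mul_eq e'
            have hc1 : Commute (r ^ k'.val) (a ^ i'.val * (a ^ i.val)⁻¹) :=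
              ((har.symm.pow_pow _ _).mul_right (har.symm.pow_pow _ _).inv_right)
            rw [e2, mul_assoc (r ^ k'.val), hc1.eq, mul_inv_cancel_right]
          refine hrZ ?_
          have hd : (((k.val : ℤ) - k'.val) % 3 = 1 ∨ ((k.val : ℤ) - k'.val) % 3 = 2) := by
            have : k.val ≠ k'.val := fun e => hne (Fin.ext e)
            omega
          rw [← zpow_mod_orderOf, hor] at hmem
          rcases hd with hd | hd <;> rw [show ((3 : ℕ) : ℤ) = 3 from rfl, hd] at hmem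
          · simpa using hmem
          · have := Subgroup.inv_mem _ hmem
            rw [show r ^ (2 : ℤ) = r ^ 2 from zpow_natCast r 2] at this
            rwa [inv_eq_of_mul_eq_one_left (a := r) (by rw [← pow_succ']; exact h.cube_J hr)] at this
        subst hk
        have hi' := mul_right_cancel e'
        exact Prod.ext (Fin.ext (pow_injOn_Iio_orderOf (by simpa [ho] using i.2)
          (by simpa [ho] using i'.2) hi')) rfl
      show Nat.card (Set.range fun q : Fin 3 × Fin 3 => a ^ q.1.val * r ^ q.2.val) = 9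
      rw [Nat.card_range_of_injective hi]
      simp
    refine h.plane_norm hQJ hQc ?_
    rintro _ ⟨q, rfl⟩
    obtain ⟨n, hn⟩ := Subgroup.mem_zpowers_iff.1 hgr
    rw [hzpow] at hn
    have e1 : g * r * g⁻¹ = a ^ (n % 3).toNat * r := by rw [hn]; group
    have e2 : g * a * g⁻¹ = a := by rw [hga, mul_inv_cancel_right]
    have e : g * (a ^ q.1.val * r ^ q.2.val) * g⁻¹ =
        a ^ (q.1.val + (n % 3).toNat * q.2.val) * r ^ q.2.val := by
      calc g * (a ^ q.1.val * r ^ q.2.val) * g⁻¹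
          = (g * a * g⁻¹) ^ q.1.val * (g * r * g⁻¹) ^ q.2.val := by
            rw [conj_pow, conj_pow]; group
        _ = a ^ q.1.val * (a ^ (n % 3).toNat * r) ^ q.2.val := by rw [e1, e2]
        _ = _ := by
            rw [(har.pow_left _).mul_pow, ← pow_mul, pow_add, mul_assoc]
    rw [e]
    exact hmk _ _

theorem named_mem {x : P9} (hx : ∃ b, bb b = x) : x ∈ U ∧ im φ x ∈ J := by
  obtain ⟨b, rfl⟩ := hx
  exact ⟨h.bb_mem b, h.im_bb b⟩

theorem cent_xx : Subgroup.centralizer ({im φ xx} : Set G) ≤ Subgroup.normalizer (J : Set G) := by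
  have hx := (h.named_mem bb_named.2.2.2.2.1).1
  rw [im_of hx]
  exact h.hb.cx _ rfl

omit [Finite G] in
omit h in
theorem cent_inv {N : Subgroup G} {x : P9} (hx : x ∈ U)
    (hC : Subgroup.centralizer ({im φ x} : Set G) ≤ N) :
    Subgroup.centralizer ({im φ x⁻¹} : Set G) ≤ N := fun g hg => by
  rw [im_inv hx, Subgroup.mem_centralizer_singleton_iff] at hg
  exact hC (Subgroup.mem_centralizer_singleton_iff.2
    (Commute.inv_right_iff.1 (show Commute g (im φ x)⁻¹ from hg)).eq)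

theorem cent_c3 : Subgroup.centralizer ({im φ c3} : Set G) ≤ Subgroup.normalizer (J : Set G) :=
  h.cent_le bb_named.1 rels.2.2.2.2.2.2.2.2.2.2.2.2.2.2.2.2.2.2.2.2.2.1 cent_three

theorem cent_qq : Subgroup.centralizer ({im φ qq} : Set G) ≤ Subgroup.normalizer (J : Set G) :=
  h.cent_le bb_named.2.1 rels_named.2.1 cent_q

theorem cent_ff : Subgroup.centralizer ({im φ ff} : Set G) ≤ Subgroup.normalizer (J : Set G) :=
  h.cent_le bb_named.2.2.1 rels_named.2.2.1 cent_f

theorem cent_ee : Subgroup.centralizer ({im φ ee} : Set G) ≤ Subgroup.normalizer (J : Set G) :=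
  h.cent_le bb_named.2.2.2.1
    rels.2.2.2.2.2.2.2.2.2.2.2.2.2.2.2.2.2.2.1 cent_e

/-- Every non-trivial element of `C_J(τ)` has centraliser inside `N(J)`. -/
theorem cent_pp {a : Fin 3 × Fin 3} (ha : pp a ≠ 1) :
    Subgroup.centralizer ({im φ (pp a)} : Set G) ≤ Subgroup.normalizer (J : Set G) := by
  rcases pp_cases a with e | (e | e) | (e | e) | (e | e) | (e | e)
  · exact absurd e ha
  · rw [e]; exact h.cent_xx
  · rw [e]; exact cent_inv (h.named_mem bb_named.2.2.2.2.1).1 h.cent_xx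
  · rw [e]; exact h.cent_c3
  · rw [e]; exact cent_inv (h.named_mem bb_named.1).1 h.cent_c3
  · rw [e]; exact h.cent_qq
  · rw [e]; exact cent_inv (h.named_mem bb_named.2.1).1 h.cent_qq
  · rw [e]; exact h.cent_ff
  · rw [e]; exact cent_inv (h.named_mem bb_named.2.2.1).1 h.cent_ff

/-- The subgroup `C_J(τ)` of order nine. -/
theorem exists_plane : ∃ P : Subgroup G, P ≤ J ∧ Nat.card P = 9 ∧
    ∀ x, x ∈ P ↔ ∃ a, im φ (pp a) = x := by
  have hcl : ∀ x ∈ Set.range (fun a => im φ (pp a)), ∀ y ∈ Set.range (fun a => im φ (pp a)),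
      x * y ∈ Set.range (fun a => im φ (pp a)) := by
    rintro _ ⟨a, rfl⟩ _ ⟨b, rfl⟩
    obtain ⟨c, hc⟩ := pp_mul a b
    exact ⟨c, show im φ (pp c) = _ by rw [hc, im_mul (h.pp_mem a) (h.pp_mem b)]⟩
  refine ⟨ofMul (Set.range fun a => im φ (pp a)) ⟨(0, 0), by simp [pp, im_one]⟩ hcl, ?_, ?_,
    fun x => Iff.rfl⟩
  · rintro _ ⟨a, rfl⟩
    exact h.im_pp a
  · show Nat.card (Set.range fun a => im φ (pp a)) = 9
    rw [Nat.card_range_of_injective fun a b e => pp_inj a b (h.inj (h.pp_mem a) (h.pp_mem b) e)]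
    simp

/-- The centraliser of `τ` is inside `N(J)`. -/
theorem cent_tau_le :
    Subgroup.centralizer ({im φ tau} : Set G) ≤ Subgroup.normalizer (J : Set G) := by
  haveI : Fact (Nat.Prime 2) := ⟨Nat.prime_two⟩
  have htU := h.mem_gens.2.2.2.2
  have ho : orderOf (im φ tau) = 2 := orderOf_eq_prime
    (by rw [← im_pow htU, pow_two, rels.1, im_one]) fun e => rels.2.1 (h.eq_one htU e)
  have hcl : ∀ x ∈ Set.range (fun q => im φ (pt q)), ∀ y ∈ Set.range (fun q => im φ (pt q)),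
      x * y ∈ Set.range (fun q => im φ (pt q)) := by
    rintro _ ⟨a, rfl⟩ _ ⟨b, rfl⟩
    obtain ⟨c, hc⟩ := pt_mul a b
    exact ⟨c, show im φ (pt c) = _ by rw [hc, im_mul (h.pt_mem a) (h.pt_mem b)]⟩
  let R : Subgroup G := ofMul (Set.range fun q => im φ (pt q))
    ⟨((0, 0), 0), by simp [pt, pp, im_one]⟩ hcl
  have memR : ∀ x, x ∈ R ↔ ∃ q, im φ (pt q) = x := fun x => Iff.rfl
  have hpt0 : ∀ a, pt (a, 0) = pp a := fun a => by simp [pt]
  have htR : im φ tau ∈ R := ⟨((0, 0), 1), by simp [pt, pp]⟩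
  have hZ : ∀ z ∈ Subgroup.zpowers (im φ tau), z = 1 ∨ z = im φ tau := fun z hz => by
    obtain ⟨n, rfl⟩ := Subgroup.mem_zpowers_iff.1 hz
    rw [← zpow_mod_orderOf, ho]
    rcases Int.emod_two_eq_zero_or_one n with e | e <;>
      simp [show ((2 : ℕ) : ℤ) = 2 from rfl, e]
  have htau_pp : ∀ a, Commute (im φ tau) (im φ (pp a)) := fun a =>
    ((h.comm_iff htU (h.pp_mem a)).2 (pp_tau a).symm)
  -- conjugation by an element of `C(τ)` sending `pp a` into `R` sends it into `P`
  have hP : ∀ g, ∀ a, g * im φ (pp a) * g⁻¹ ∈ R → ∃ b, im φ (pp b) = g * im φ (pp a) * g⁻¹ := by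
    intro g a hm
    obtain ⟨q, hq⟩ := (memR _).1 hm
    have hc : im φ (pt q ^ 3) = 1 := by
      rw [im_pow (h.pt_mem q), hq, conj_pow, h.cube_J (h.im_pp a), mul_one, mul_inv_cancel]
    rcases pt_cube q with ⟨-, e⟩ | e
    · exact ⟨q.1, by rw [← e, hq]⟩
    · exact absurd (h.eq_one (U.pow_mem (h.pt_mem q) 3) hc) (e.symm ▸ rels.2.1)
  obtain ⟨P, hPJ, hPc, memP⟩ := h.exists_plane
  have htwo : ∀ g, g * im φ tau = im φ tau * g → g ∈ Subgroup.normalizer (J : Set G) →
      g ∈ R ∨ (im φ zz)⁻¹ * g ∈ R := by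
    intro g hga hg
    obtain ⟨p, hp, rfl⟩ := h.exists_im hg
    rcases cent_tau p ((h.comm_iff hp htU).1 hga) with ⟨a, i, e⟩ | ⟨a, i, e⟩
    · exact Or.inl ⟨(a, i), show im φ (pt (a, i)) = _ by rw [show pt (a, i) = el p from e.symm]⟩
    · have hz : zz ∈ U := by
        have : zz = el p * (pt (a, i))⁻¹ := by rw [show pt (a, i) = zz⁻¹ * el p from e.symm]; group
        rw [this]
        exact U.mul_mem hp (U.inv_mem (h.pt_mem _))
      exact Or.inr ⟨(a, i), show im φ (pt (a, i)) = _ by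
        rw [← im_inv hz, ← im_mul (U.inv_mem hz) hp, show pt (a, i) = zz⁻¹ * el p from e.symm]⟩
  refine cent_le_of_engine _ R htR ?_ ?_ ?_ ?_ ?_ ?_ (im φ zz) htwo ?_ ?_
  · rintro _ ⟨q, rfl⟩
    refine (h.comm_iff (h.pt_mem q) htU).2 ?_
    show pp q.1 * tau ^ q.2.val * tau = tau * (pp q.1 * tau ^ q.2.val)
    rw [mul_assoc, ← pow_succ, pow_succ', ← mul_assoc, pp_tau, mul_assoc]
  · rintro _ ⟨q, rfl⟩ _ ⟨q', rfl⟩
    exact (h.comm_iff (h.pt_mem q) (h.pt_mem q')).2 (pt_comm q q')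
  · show Nat.card (Set.range fun q => im φ (pt q)) = 9 * orderOf (im φ tau)
    rw [Nat.card_range_of_injective fun a b e => pt_inj a b (h.inj (h.pt_mem a) (h.pt_mem b) e), ho]
    simp
  · rintro _ ⟨q, rfl⟩
    rw [← im_pow (h.pt_mem q)]
    rcases pt_cube q with ⟨e, -⟩ | e <;> rw [e]
    · rw [im_one]; exact one_mem _
    · exact Subgroup.mem_zpowers _
  · intro g _ hg
    refine h.plane_norm hPJ hPc fun x hx => ?_
    obtain ⟨a, rfl⟩ := (memP x).1 hx
    exact (memP _).2 (hP g a (hg (im φ (pp a)) ⟨(a, 0), by simp only [hpt0]⟩))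
  · intro g hga hg r hr
    obtain ⟨q, rfl⟩ := (memR r).1 hr
    obtain ⟨p, hp, rfl⟩ := h.exists_im hg
    have hpt := (h.comm_iff hp htU).1 hga
    obtain ⟨b, hb⟩ := cent_tau_norm p hpt q.1
    refine ⟨(b, q.2), ?_⟩
    show im φ (pt (b, q.2)) = _
    refine (h.conj_eq hp (h.pt_mem q) ?_).symm
    show el p * (pp q.1 * tau ^ q.2.val) * (el p)⁻¹ = pp b * tau ^ q.2.val
    rw [← hb]
    have hc : Commute (el p) (tau ^ q.2.val) := (show Commute (el p) tau from hpt).pow_right _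
    calc el p * (pp q.1 * tau ^ q.2.val) * (el p)⁻¹
        = el p * pp q.1 * (el p)⁻¹ * (el p * tau ^ q.2.val * (el p)⁻¹) := by group
      _ = el p * pp q.1 * (el p)⁻¹ * tau ^ q.2.val := by rw [hc.eq, mul_inv_cancel_right]
  · intro g hga hgN hgr
    have hc3 : ∃ a, pp a = c3 := ⟨(0, 1), by simp [pp]⟩
    obtain ⟨a, ha⟩ := hc3
    have hm := hgr (im φ (pp a)) ⟨(a, 0), by simp only [hpt0]⟩
    have hfix : g * im φ (pp a) * g⁻¹ = im φ (pp a) := by
      rcases hZ _ hm with e | e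
      · exact mul_inv_eq_one.1 e
      · exfalso
        have e' : g * im φ (pp a) * g⁻¹ = im φ tau * im φ (pp a) := by rw [← e]; group
        have h3 : (im φ tau * im φ (pp a)) ^ 3 = 1 := by
          rw [← e', conj_pow, h.cube_J (h.im_pp a), mul_one, mul_inv_cancel]
        rw [(htau_pp a).mul_pow, h.cube_J (h.im_pp a), mul_one, pow_succ, ← im_pow htU, pow_two,
          rels.1, im_one, one_mul] at h3
        exact rels.2.1 (h.eq_one htU h3)
    obtain ⟨p, hp, rfl⟩ := h.exists_im hgN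
    have hpc : el p * pp a = pp a * el p :=
      (h.comm_iff hp (h.pp_mem a)).1 (mul_inv_eq_iff_eq_mul.1 hfix)
    rw [ha] at hpc
    obtain ⟨b, i, e⟩ := cent_tau_plane p ((h.comm_iff hp htU).1 hga) hpc
    exact ⟨(b, i), show im φ (pt (b, i)) = _ by rw [show pt (b, i) = el p from e.symm]⟩
  · intro g hga r hr hrZ hgr
    obtain ⟨⟨a, i⟩, rfl⟩ := (memR r).1 hr
    have ha1 : pp a ≠ 1 := fun e => hrZ (by
      rw [show pt (a, i) = tau ^ i.val by simp [pt, e], im_pow htU]
      exact Subgroup.pow_mem _ (Subgroup.mem_zpowers _) _)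
    have hspl : im φ (pt (a, i)) = im φ (pp a) * im φ tau ^ i.val := by
      show im φ (pp a * tau ^ i.val) = _
      rw [im_mul (h.pp_mem a) (U.pow_mem htU _), im_pow htU]
    have hgt : Commute g (im φ tau ^ i.val) := (show Commute g (im φ tau) from hga).pow_right _
    have e1 : g * im φ (pt (a, i)) * g⁻¹ * (im φ (pt (a, i)))⁻¹ =
        g * im φ (pp a) * g⁻¹ * (im φ (pp a))⁻¹ := by
      rw [hspl]
      calc g * (im φ (pp a) * im φ tau ^ i.val) * g⁻¹ * (im φ (pp a) * im φ tau ^ i.val)⁻¹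
          = g * im φ (pp a) * g⁻¹ * (g * im φ tau ^ i.val * g⁻¹) * (im φ tau ^ i.val)⁻¹ *
              (im φ (pp a))⁻¹ := by group
        _ = _ := by rw [hgt.eq, mul_inv_cancel_right, mul_inv_cancel_right]
    rw [e1] at hgr
    have hfix : g * im φ (pp a) * g⁻¹ = im φ (pp a) := by
      rcases hZ _ hgr with e | e
      · exact mul_inv_eq_one.1 e
      · exfalso
        have e' : g * im φ (pp a) * g⁻¹ = im φ tau * im φ (pp a) := by rw [← e]; group
        have h3 : (im φ tau * im φ (pp a)) ^ 3 = 1 := by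
          rw [← e', conj_pow, h.cube_J (h.im_pp a), mul_one, mul_inv_cancel]
        rw [(htau_pp a).mul_pow, h.cube_J (h.im_pp a), mul_one, pow_succ, ← im_pow htU, pow_two,
          rels.1, im_one, one_mul] at h3
        exact rels.2.1 (h.eq_one htU h3)
    exact h.cent_pp ha1 (Subgroup.mem_centralizer_singleton_iff.2 (mul_inv_eq_iff_eq_mul.1 hfix))

/-- The elements of order dividing three centralising `c₃`, `c₁c₂` or `c₁c₂c₃⁻¹` lie in `J`. -/
theorem mem_J_of_cent {w u : P9} (hw : ∃ b, bb b = w)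
    (hC : Subgroup.centralizer ({im φ w} : Set G) ≤ Subgroup.normalizer (J : Set G))
    (hcase : ∀ p, el p * w = w * el p → inB p ∨ ∃ b, u⁻¹ * el p = bb b)
    (hu : ∀ b, (u * bb b) ^ 3 ≠ 1) {g : G} (hg : g * im φ w = im φ w * g) (h3 : g ^ 3 = 1) :
    g ∈ J := by
  obtain ⟨p, hp, rfl⟩ := h.exists_im (hC (Subgroup.mem_centralizer_singleton_iff.2 hg))
  rcases hcase p ((h.comm_iff hp (h.named_mem hw).1).1 hg) with hB | ⟨b, hb⟩
  · rw [el_of_inB hB]; exact h.im_bb _
  · refine absurd ?_ (hu b)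
    rw [← hb, mul_inv_cancel_left]
    exact h.eq_one (U.pow_mem hp 3) (by rw [im_pow hp, h3])

/-- The closing argument: an odd normal subgroup containing `J` forces `J` to be normal. -/
theorem normal_of_odd (O : Subgroup G) [O.Normal] (hodd : Odd (Nat.card O)) (hJO : J ≤ O) :
    J.Normal := by
  haveI : Fact (Nat.Prime 3) := ⟨Nat.prime_three⟩
  have hO : O ≠ ⊥ := fun e => by
    have := Subgroup.card_dvd_of_le hJO
    rw [e, Subgroup.card_bot, h.card_J] at this
    norm_num at this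
  obtain ⟨M₀, hM₀n, hM₀O, hM₀1, hmin⟩ := SelfCentNineReduce64.exists_minimal_normal O hO
  haveI := hM₀n
  have hM₀sol : Group.IsSolvable M₀ :=
    Cfsg.Agent.S0205.result (hodd.of_dvd_nat (Subgroup.card_dvd_of_le hM₀O))
  haveI : Nontrivial M₀ := (Subgroup.nontrivial_iff_ne_bot M₀).2 hM₀1
  have hcomm0 : ⁅M₀, M₀⁆ = ⊥ := by
    refine (hmin _ inferInstance ((Subgroup.commutator_le_inf M₀ M₀).trans inf_le_left)).resolve_right
      fun e => ?_
    have hlt := IsSolvable.commutator_lt_top_of_nontrivial (G := M₀)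
    refine hlt.ne ?_
    have hmap := Subgroup.map_commutator (⊤ : Subgroup M₀) ⊤ M₀.subtype
    rw [← MonoidHom.range_eq_map, Subgroup.range_subtype, e] at hmap
    refine Subgroup.map_injective M₀.subtype_injective ?_
    rw [commutator_def, hmap, ← MonoidHom.range_eq_map, Subgroup.range_subtype]
  have hab : ∀ a ∈ M₀, ∀ b ∈ M₀, a * b = b * a := fun a ha b hb => by
    have := (Subgroup.eq_bot_iff_forall _).1 hcomm0 _ (Subgroup.commutator_mem_commutator ha hb)
    exact commutatorElement_eq_one_iff_mul_comm.1 this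
  -- the elements of cube one
  let M : Subgroup G := ofMul {g | g ∈ M₀ ∧ g ^ 3 = 1} ⟨M₀.one_mem, one_pow _⟩
    fun x hx y hy => ⟨M₀.mul_mem hx.1 hy.1, by
      rw [(show Commute x y from hab x hx.1 y hy.1).mul_pow, hx.2, hy.2, one_mul]⟩
  have hMn : M.Normal := ⟨fun x hx g => ⟨hM₀n.conj_mem x hx.1 g, by
    rw [conj_pow, hx.2, mul_one, mul_inv_cancel]⟩⟩
  haveI := hMn
  have hM1 : M ≠ ⊥ := fun e => hM₀1 (h.hb.sig M₀ (by
    rw [Nat.coprime_comm, Nat.Prime.coprime_iff_not_dvd Nat.prime_three]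
    intro hd
    obtain ⟨x, hx⟩ := exists_prime_orderOf_dvd_card' 3 hd
    have hxG : (x : G) ∈ M := ⟨x.2, by
      rw [← SubgroupClass.coe_pow, ← hx, pow_orderOf_eq_one]; rfl⟩
    rw [e, Subgroup.mem_bot] at hxG
    have : x = 1 := Subtype.ext hxG
    rw [this, orderOf_one] at hx
    exact absurd hx (by norm_num)) fun j _ => Subgroup.Normal.map_conj_eq (H := M₀) j)
  have hMN : M ≤ Subgroup.normalizer (J : Set G) := by
    have hMp : IsPGroup 3 M := fun x => ⟨1, Subtype.ext (by simpa using x.2.2)⟩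
    have hJp : IsPGroup 3 J := IsPGroup.of_card (n := 3) (by rw [h.card_J]; norm_num)
    have hT := hJp.to_sup_of_normal_right' hMp
      (by rw [Subgroup.normalizer_eq_top_iff.2 hMn]; exact le_top)
    obtain ⟨k, hk⟩ := IsPGroup.iff_card.1 hT
    have hk4 : k ≤ 4 := by
      by_contra hc
      exact h.hb.sylow ((pow_dvd_pow 3 (by omega : 5 ≤ k)).trans
        (hk ▸ Subgroup.card_subgroup_dvd_card _))
    by_cases hle : M ≤ J
    · exact hle.trans Subgroup.le_normalizer
    set N' := Subgroup.normalizer (J : Set G) ⊓ (J ⊔ M) with hN'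
    have hne : J ≠ N' := fun e => by
      refine hle ((le_sup_right (a := J)).trans (le_of_eq ?_))
      refine (eq_of_normalizer_le le_sup_left hT fun g hg hgn => ?_).symm
      rw [e]
      exact ⟨mem_normalizer_of_conj hgn, hg⟩
    have hlt : J < N' := lt_of_le_of_ne (le_inf Subgroup.le_normalizer le_sup_left) hne
    have hd : Nat.card N' ∣ 3 ^ k := hk ▸ Subgroup.card_dvd_of_le inf_le_right
    obtain ⟨i, hi, hi'⟩ := (Nat.dvd_prime_pow Nat.prime_three).1 hd
    have hi4 : 4 ≤ i := by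
      by_contra hc
      refine hne (Subgroup.eq_of_le_of_card_ge hlt.le ?_)
      rw [hi', h.card_J]
      calc 3 ^ i ≤ 3 ^ 3 := Nat.pow_le_pow_right (by norm_num) (by omega)
        _ = 27 := by norm_num
    have : N' = J ⊔ M := Subgroup.eq_of_le_of_card_ge inf_le_right (by
      rw [hi', hk]; exact Nat.pow_le_pow_right (by norm_num) (by omega))
    exact (le_sup_right (a := J)).trans (this.ge.trans inf_le_left)
  have hMab : ∀ a ∈ M, ∀ b ∈ M, a * b = b * a := fun a ha b hb => hab a ha.1 b hb.1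
  have hMJ : M ≤ J := fun y hy => by
    by_contra hyJ
    obtain ⟨p, hp, rfl⟩ := h.exists_im (hMN hy)
    have hnB : ¬ inB p := fun hB => hyJ (by rw [el_of_inB hB]; exact h.im_bb _)
    have hc1 := h.mem_gens.1
    have hp3 : el p ^ 3 = 1 := h.eq_one (U.pow_mem hp 3) (by rw [im_pow hp]; exact hy.2)
    refine no_commute_comm p hnB hp3 ((h.comm_iff hp ?_).1 (hMab _ hy _ ?_))
    · exact U.mul_mem (U.mul_mem (U.mul_mem hc1 hp) (U.inv_mem hc1)) (U.inv_mem hp)
    · rw [im_mul (U.mul_mem (U.mul_mem hc1 hp) (U.inv_mem hc1)) (U.inv_mem hp), im_inv hp,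
        ← h.conj_eq hc1 hp rfl]
      exact M.mul_mem (hMn.conj_mem _ hy _) (M.inv_mem hy)
  obtain ⟨m, hmM, hm1⟩ : ∃ m ∈ M, m ≠ 1 := by
    by_contra hc
    push Not at hc
    exact hM1 ((Subgroup.eq_bot_iff_forall _).2 hc)
  obtain ⟨b, rfl⟩ := h.mem_J.1 (hMJ hmM)
  have hrU := h.mem_gens.2.2.2.1
  have hdr : ∀ x, x ∈ U → im φ x ∈ M → dr x ∈ U ∧ im φ (dr x) ∈ M := fun x hx hxM => by
    refine ⟨U.mul_mem (U.mul_mem (U.mul_mem hrU hx) (U.inv_mem hrU)) (U.inv_mem hx), ?_⟩
    rw [show dr x = rot * x * rot⁻¹ * x⁻¹ from rfl,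
      im_mul (U.mul_mem (U.mul_mem hrU hx) (U.inv_mem hrU)) (U.inv_mem hx), im_inv hx,
      ← h.conj_eq hrU hx rfl]
    exact M.mul_mem (hMn.conj_mem _ hxM _) (M.inv_mem hxM)
  have hxU := (h.named_mem bb_named.2.2.2.2.1).1
  have hxM : im φ xx ∈ M := by
    have key : ∀ y, y ∈ U → im φ y ∈ M → y = xx ∨ y = xx * xx → im φ xx ∈ M := by
      rintro y hy hyM (rfl | rfl)
      · exact hyM
      · rw [im_mul hxU hxU] at hyM
        have := M.mul_mem hyM hyM
        rwa [show im φ xx * im φ xx * (im φ xx * im φ xx) = im φ xx by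
          rw [← mul_assoc, ← pow_three', h.cube_J (h.named_mem bb_named.2.2.2.2.1).2, one_mul]]
          at this
    have h1 := hdr _ (h.bb_mem b) hmM
    have h2 := hdr _ h1.1 h1.2
    rcases reach_x b (fun e => hm1 (by rw [e, im_one])) with e | e | e
    · exact key _ (h.bb_mem b) hmM e
    · exact key _ h1.1 h1.2 e
    · exact key _ h2.1 h2.2 e
  -- the centraliser of `M` is normal, inside `N(J)`, and contains `J`
  have hall : ∀ g : G, g ∈ Subgroup.normalizer (J : Set G) := fun g => by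
    refine h.mem_of_conj_le fun j hj => h.cent_xx (Subgroup.mem_centralizer_singleton_iff.2 ?_)
    have hy : g⁻¹ * im φ xx * g ∈ J := hMJ (by simpa using hMn.conj_mem _ hxM g⁻¹)
    calc g * j * g⁻¹ * im φ xx = g * (j * (g⁻¹ * im φ xx * g)) * g⁻¹ := by group
      _ = g * (g⁻¹ * im φ xx * g * j) * g⁻¹ := by rw [h.commute_J hj hy]
      _ = im φ xx * (g * j * g⁻¹) := by group
  exact ⟨fun j hj g => (Subgroup.mem_normalizer_iff.1 (hall g) j).1 hj⟩

end Ctx

end Cfsg.Agent.S9Small37
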