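import Cfsg.Agent.Lib.S9Model37

/-!
The finite facts inside `S₃ ≀ S₃` that the small automiser cases of S3343 use: a parametrisation of
`W₂` (which contains `W₁`) and statements decided over it.
-/

set_option autoImplicit false
set_option maxRecDepth 100000

namespace Cfsg.Agent.S9Small37

open Cfsg.Agent.S9Model37

/-- The central sign. -/
def zz : P9 := d1 * d2 * d3
/-- The elements of the centraliser of `τ` in the base. -/
def qq : P9 := c1 * c2
def xx : P9 := c1 * c2 * c3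
def ff : P9 := c1 * c2 * (c3 * c3)
def ee : P9 := c1 * (c2 * c2)
def cc : P9 := zz * tau

abbrev Idx := Fin 3 × Fin 3 × Fin 3

/-- The base element with the given exponents. -/
def bb (p : Idx) : P9 := c1 ^ p.1.val * c2 ^ p.2.1.val * c3 ^ p.2.2.val

abbrev Par := Idx × Fin 3 × Fin 2 × Fin 2

/-- The parametrised element. -/
def el (p : Par) : P9 := bb p.1 * rot ^ p.2.1.val * tau ^ p.2.2.1.val * zz ^ p.2.2.2.val

/-- The base membership of a parametrised element. -/
def inB (p : Par) : Prop := p.2.1 = 0 ∧ p.2.2.1 = 0 ∧ p.2.2.2 = 0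

instance (p : Par) : Decidable (inB p) := by unfold inB; infer_instance

theorem el_of_inB {p : Par} (h : inB p) : el p = bb p.1 := by
  obtain ⟨a, b, c⟩ := h
  simp [el, a, b, c]

/-- The block after moving by the parametrised element. -/
def blk (p : Par) (i : Fin 3) : Fin 3 :=
  (if p.2.2.1 = 0 then i else if i = 0 then 1 else if i = 1 then 0 else 2) + p.2.1

/-- Right multiplication by the cycle of a block. -/
def addC (p : Par) (i : Fin 3) : Par :=
  let v : Fin 3 := if p.2.2.2 = 0 then 1 else 2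
  ((if blk p i = 0 then (p.1.1 + v, p.1.2.1, p.1.2.2)
    else if blk p i = 1 then (p.1.1, p.1.2.1 + v, p.1.2.2) else (p.1.1, p.1.2.1, p.1.2.2 + v)), p.2)

/-- Right multiplication by the block permutation. -/
def addR (p : Par) : Par :=
  (p.1, (if p.2.2.1 = 0 then p.2.1 + 1 else p.2.1 + 2), p.2.2)

theorem closed_c1 : ∀ p : Par, el (addC p 0) = el p * c1 := by
  decide +kernel

theorem closed_c2 : ∀ p : Par, el (addC p 1) = el p * c2 := by
  decide +kernel

theorem closed_c3 : ∀ p : Par, el (addC p 2) = el p * c3 := by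
  decide +kernel

theorem closed_rot : ∀ p : Par, el (addR p) = el p * rot := by
  decide +kernel

theorem closed_tau : ∀ p : Par, el (p.1, p.2.1, p.2.2.1 + 1, p.2.2.2) = el p * tau := by
  decide +kernel

theorem closed_zz : ∀ p : Par, el (p.1, p.2.1, p.2.2.1, p.2.2.2 + 1) = el p * zz := by
  decide +kernel

theorem closed_base : ∀ b : Idx, bb (b.1 + 1, b.2.1, b.2.2) = bb b * c1 ∧
    bb (b.1, b.2.1 + 1, b.2.2) = bb b * c2 ∧ bb (b.1, b.2.1, b.2.2 + 1) = bb b * c3 := by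
  decide +kernel

theorem fix_base : ∀ p : Par, ¬ inB p → el p ^ 3 = 1 → ∀ b : Idx,
    el p * bb b = bb b * el p → bb b = 1 ∨ bb b = xx ∨ bb b = xx * xx := by
  decide +kernel

theorem no_commute_comm : ∀ p : Par, ¬ inB p → el p ^ 3 = 1 →
    el p * (c1 * el p * c1⁻¹ * (el p)⁻¹) ≠ c1 * el p * c1⁻¹ * (el p)⁻¹ * el p := by
  decide +kernel

/-- The commutator with the block permutation. -/
def dr (b : P9) : P9 := rot * b * rot⁻¹ * b⁻¹

theorem reach_x : ∀ b : Idx, bb b ≠ 1 → (bb b = xx ∨ bb b = xx * xx) ∨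
    (dr (bb b) = xx ∨ dr (bb b) = xx * xx) ∨ (dr (dr (bb b)) = xx ∨ dr (dr (bb b)) = xx * xx) := by
  decide +kernel

theorem cent_three : ∀ p : Par, el p * c3 = c3 * el p →
    inB p ∨ ∃ b, tau⁻¹ * el p = bb b := by
  decide +kernel

theorem cent_q : ∀ p : Par, el p * qq = qq * el p → inB p ∨ ∃ b, tau⁻¹ * el p = bb b := by
  decide +kernel

theorem cent_f : ∀ p : Par, el p * ff = ff * el p → inB p ∨ ∃ b, tau⁻¹ * el p = bb b := by
  decide +kernel

theorem cent_e : ∀ p : Par, el p * ee = ee * el p → inB p ∨ ∃ b, cc⁻¹ * el p = bb b := by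
  decide +kernel

/-- The part of the base centralised by `τ`. -/
def pp (a : Fin 3 × Fin 3) : P9 := qq ^ a.1.val * c3 ^ a.2.val

theorem pp_cases : ∀ a, pp a = 1 ∨ (pp a = xx ∨ pp a = xx⁻¹) ∨ (pp a = c3 ∨ pp a = c3⁻¹) ∨
    (pp a = qq ∨ pp a = qq⁻¹) ∨ (pp a = ff ∨ pp a = ff⁻¹) := by
  decide +kernel

theorem pp_mul : ∀ a b, ∃ c, pp c = pp a * pp b := by
  decide +kernel

theorem pp_inj : ∀ a b, pp a = pp b → a = b := by
  decide +kernel

theorem pp_tau : ∀ a, pp a * tau = tau * pp a := by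
  decide +kernel

theorem pp_base : ∀ a, ∃ b, pp a = bb b := by
  decide +kernel

theorem bb_tau : ∀ b, bb b * tau = tau * bb b → ∃ a, pp a = bb b := by
  decide +kernel

theorem cent_tau : ∀ p : Par, el p * tau = tau * el p →
    (∃ a, ∃ i : Fin 2, el p = pp a * tau ^ i.val) ∨
      ∃ a, ∃ i : Fin 2, zz⁻¹ * el p = pp a * tau ^ i.val := by
  decide +kernel

theorem cent_tau_plane : ∀ p : Par, el p * tau = tau * el p → el p * c3 = c3 * el p →
    ∃ a, ∃ i : Fin 2, el p = pp a * tau ^ i.val := by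
  decide +kernel

theorem cent_tau_norm : ∀ p : Par, el p * tau = tau * el p → ∀ a,
    ∃ b, el p * pp a * (el p)⁻¹ = pp b := by
  decide +kernel

theorem cent_tau_three : ∀ p : Par, el p * tau = tau * el p → el p ^ 3 = 1 → ∃ a, pp a = el p := by
  decide +kernel

theorem cent_tau_sq : ∀ p : Par, el p * tau = tau * el p → p.2.2.2 = 0 →
    el p * el p = 1 → el p = 1 ∨ el p = tau := by
  decide +kernel

theorem cent_four : ∀ p : Par, el p * tau = tau * el p → el p * zz = zz * el p →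
    el p = 1 ∨ el p = tau ∨ el p = zz ∨ el p = cc := by
  decide +kernel

theorem cent_frame : ∀ p : Par, el p * xx = xx * el p → el p * rot = rot * el p →
    el p * cc = cc * el p → el p = 1 := by
  decide +kernel

theorem rels : tau * tau = 1 ∧ tau ≠ 1 ∧ zz * zz = 1 ∧ zz * tau = tau * zz ∧ cc * cc = 1 ∧ cc ≠ 1 ∧
    tau * xx = xx * tau ∧ tau * rot * tau = rot⁻¹ ∧ cc * xx * cc = xx⁻¹ ∧ cc * rot * cc = rot⁻¹ ∧
    zz * rot = rot * zz ∧ ee * cc = cc * ee ∧ ee * xx = xx * ee ∧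
    ee * rot * ee⁻¹ * rot⁻¹ ≠ 1 ∧ xx ≠ 1 ∧ rot * xx = xx * rot ∧ rot ^ 3 = 1 ∧
    ee ^ 3 = 1 ∧ ee ≠ 1 ∧ cc * c3 * cc = c3⁻¹ ∧ cc * c1 * cc = c2⁻¹ ∧ c3 ≠ 1 ∧ c3 ^ 3 = 1 := by
  decide +kernel

theorem ee_rot : ee * rot * ee⁻¹ = rot * xx ∨ ee * rot * ee⁻¹ = rot * (xx * xx) := by
  decide +kernel

theorem base_ne_rot : ∀ b : Idx, bb b ≠ rot ∧ bb b ≠ rot⁻¹ := by
  decide +kernel

theorem tau_notin : ∀ b : Idx, bb b ≠ tau ∧ bb b ≠ cc := by
  decide +kernel

theorem bb_inj : ∀ a b : Idx, bb a = bb b → a = b := by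
  decide +kernel

theorem bb_named : (∃ b, bb b = c3) ∧ (∃ b, bb b = qq) ∧ (∃ b, bb b = ff) ∧ (∃ b, bb b = ee) ∧
    (∃ b, bb b = xx) ∧ ∃ b, bb b = c1 := by
  decide +kernel

end Cfsg.Agent.S9Small37
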