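import Cfsg.Agent.Lib.S9Small37Base

/-!
S3343, the automiser `S₃`: the centraliser of `τ` has a cyclic Sylow 2-subgroup, so Burnside's
transfer gives a normal subgroup of odd order containing the base, and the base is normal.
-/

set_option autoImplicit false

namespace Cfsg.Agent.S9Small37

open Cfsg.Agent.S9Model37

universe u

variable {G : Type u} [Group G] [Finite G] {J : Subgroup G}

theorem mem_W1_el {x : P9} (hx : x ∈ W1) : ∃ p, p.2.2.2 = 0 ∧ el p = x := by
  have hx' : x ∈ Submonoid.closure ({c1, c2, c3, rot, tau} : Set P9) := by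
    rw [← Subgroup.closure_toSubmonoid_of_finite]
    exact hx
  clear hx
  induction hx' using Submonoid.closure_induction_right with
  | one => exact ⟨((0, 0, 0), 0, 0, 0), rfl, by simp [el, bb]⟩
  | mul_right x hx y hy ih =>
    obtain ⟨p, h0, rfl⟩ := ih
    simp only [Set.mem_insert_iff, Set.mem_singleton_iff] at hy
    rcases hy with rfl | rfl | rfl | rfl | rfl
    · exact ⟨addC p 0, h0, closed_c1 p⟩
    · exact ⟨addC p 1, h0, closed_c2 p⟩
    · exact ⟨addC p 2, h0, closed_c3 p⟩
    · exact ⟨addR p, h0, closed_rot p⟩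
    · exact ⟨(p.1, p.2.1, p.2.2.1 + 1, p.2.2.2), h0, closed_tau p⟩

theorem W1_le_W2 : W1 ≤ W2 :=
  Subgroup.closure_mono fun x hx => by
    simp only [Set.mem_insert_iff, Set.mem_singleton_iff] at hx ⊢
    tauto

/-- The case of automiser `S₃`. -/
theorem normal_one {φ : W1 →* G} (hb : Base W1 J φ) : J.Normal := by
  haveI : Fact (Nat.Prime 2) := ⟨Nat.prime_two⟩
  have h : Ctx W1 J φ := ⟨hb, le_rfl, W1_le_W2⟩
  have htU := h.mem_gens.2.2.2.2
  set t := im φ tau with ht
  have ho : orderOf t = 2 := orderOf_eq_prime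
    (by rw [ht, ← im_pow htU, pow_two, rels.1, im_one]) fun e => rels.2.1 (h.eq_one htU e)
  -- two-elements of the centraliser of `τ`
  have hsq : ∀ g, g * t = t * g → g * g = 1 → g = 1 ∨ g = t := by
    intro g hg h2
    obtain ⟨p, hp, rfl⟩ := h.exists_im (h.cent_tau_le (Subgroup.mem_centralizer_singleton_iff.2 hg))
    obtain ⟨p', hp0, he⟩ := mem_W1_el hp
    rw [← he] at hp hg h2 ⊢
    rw [← im_mul hp hp] at h2
    rcases cent_tau_sq p' ((h.comm_iff hp htU).1 hg) hp0 (h.eq_one (W1.mul_mem hp hp) h2)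
      with e | e
    · exact Or.inl (by rw [e, im_one])
    · exact Or.inr (by rw [e])
  have htwo : ∀ (k : ℕ) g, g * t = t * g → g ^ 2 ^ k = 1 → g = 1 ∨ g = t := by
    intro k
    induction k with
    | zero => intro g _ h1; exact Or.inl (by simpa using h1)
    | succ k ih =>
      intro g hg h1
      rw [pow_succ' 2 k, pow_mul] at h1
      rcases ih (g ^ 2) (Commute.pow_left hg 2).eq h1 with e | e
      · exact hsq g hg (by rw [← pow_two, e])
      · exfalso
        -- `τ` is no square in its centraliser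
        obtain ⟨p, hp, rfl⟩ :=
          h.exists_im (h.cent_tau_le (Subgroup.mem_centralizer_singleton_iff.2 hg))
        obtain ⟨p', hp0, he⟩ := mem_W1_el hp
        rw [← he] at hp hg e
        rw [← im_pow hp] at e
        exact tau_no_sq p' ((h.comm_iff hp htU).1 hg) hp0 (h.inj (W1.pow_mem hp 2) htU e)
  -- a Sylow 2-subgroup through `τ`
  obtain ⟨P, hP⟩ := (IsPGroup.of_card (G := Subgroup.zpowers t) (p := 2) (n := 1)
    (by rw [Nat.card_zpowers, ho, pow_one])).exists_le_sylow
  have htP : t ∈ (P : Subgroup G) := hP (Subgroup.mem_zpowers t)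
  haveI : Nontrivial (P : Subgroup G) :=
    (Subgroup.nontrivial_iff_ne_bot _).2 fun e => by
      have h1 := e ▸ htP
      rw [Subgroup.mem_bot] at h1
      rw [h1, orderOf_one] at ho
      omega
  haveI := P.isPGroup'.center_nontrivial
  obtain ⟨z, hz⟩ := exists_ne (1 : Subgroup.center (P : Subgroup G))
  have hzc : ∀ x ∈ (P : Subgroup G), x * ((z : (P : Subgroup G)) : G) = z * x := fun x hx =>
    congrArg Subtype.val (Subgroup.mem_center_iff.1 z.2 ⟨x, hx⟩)
  obtain ⟨k, hk⟩ := P.isPGroup' (z : (P : Subgroup G))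
  have hzt : ((z : (P : Subgroup G)) : G) = t := by
    rcases htwo k _ (hzc t htP).symm (by rw [← SubgroupClass.coe_pow, hk]; rfl) with e | e
    · exact absurd (Subtype.ext (Subtype.ext e)) hz
    · exact e
  have hPeq : ∀ x ∈ (P : Subgroup G), x = 1 ∨ x = t := fun x hx => by
    obtain ⟨k, hk⟩ := P.isPGroup' ⟨x, hx⟩
    exact htwo k x (hzt ▸ hzc x hx) (by simpa using congrArg Subtype.val hk)
  have hPc : Subgroup.normalizer ((P : Subgroup G) : Set G) ≤
      Subgroup.centralizer ((P : Subgroup G) : Set G) := fun g hg => by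
    refine Subgroup.mem_centralizer_iff.2 fun x hx => ?_
    rcases hPeq x hx with rfl | rfl
    · simp
    · rcases hPeq _ ((Subgroup.mem_normalizer_iff.1 hg t).1 htP) with e | e
      · exfalso
        rw [mul_inv_eq_one, mul_eq_left] at e
        rw [e, orderOf_one] at ho
        omega
      · exact (mul_inv_eq_iff_eq_mul.1 e).symm
  set K := (MonoidHom.transferSylow P hPc).ker with hK
  have hKodd : Odd (Nat.card K) := by
    rw [← Nat.not_even_iff_odd, even_iff_two_dvd]
    exact MonoidHom.not_dvd_card_ker_transferSylow P hPc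
  refine h.normal_of_odd K hKodd fun j hj => MonoidHom.mem_ker.2 (Subtype.ext ?_)
  have h3 : (MonoidHom.transferSylow P hPc j : G) ^ 3 = 1 := by
    rw [← SubgroupClass.coe_pow, ← map_pow, h.cube_J hj, map_one]
    rfl
  rcases hPeq _ (MonoidHom.transferSylow P hPc j).2 with e | e
  · rw [e]; rfl
  · rw [e] at h3
    exfalso
    have := orderOf_dvd_of_pow_eq_one h3
    rw [ho] at this
    norm_num at this

end Cfsg.Agent.S9Small37
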