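import Mathlib
import Cfsg.Prelude.Def_Blocks
import Cfsg.Agent.S4757
import Cfsg.Agent.S4574
import Cfsg.Agent.Lib.CharAverage
import Cfsg.Agent.Lib.CharKernel

/-!
Characters with `χ 1 - χ u = 4` or `χ u = 0` (helper83): bookkeeping of constituents.
-/

set_option autoImplicit false

namespace Cfsg.Agent.SAD4Base

open scoped ComplexConjugate
open Cfsg.Agent.CharBasic Cfsg.Agent.CharBasicOrth Cfsg.Agent.CharBasicDecomp
open Cfsg.Agent.CharAverage

universe w

variable {G : Type w} [Group G] [Fintype G]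

/-- The hypothesis on `u`. -/
def Hyp (u : G) : Prop :=
  u ≠ 1 ∧ ∀ χ : Cfsg.IrrCharacter G, χ ≠ trivIrr G →
    ((χ : G → ℂ) 1 - (χ : G → ℂ) u = 4 ∨ (χ : G → ℂ) u = 0)

/-- Degree three, value `-1`. -/
def Neg (u : G) (χ : Cfsg.IrrCharacter G) : Prop := (χ : G → ℂ) 1 = 3 ∧ (χ : G → ℂ) u = -1

/-- Degree five, value `1`. -/
def Five (u : G) (χ : Cfsg.IrrCharacter G) : Prop := (χ : G → ℂ) 1 = 5 ∧ (χ : G → ℂ) u = 1

/-- Degree six, value `2`. -/
def Six (u : G) (χ : Cfsg.IrrCharacter G) : Prop := (χ : G → ℂ) 1 = 6 ∧ (χ : G → ℂ) u = 2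

/-- Inner product with the trivial character vanishes. -/
def NoTriv (f : G → ℂ) : Prop := Cfsg.classInner f (trivIrr G : G → ℂ) = 0

theorem perfect {u : G} (h : Hyp u) : commutator G = ⊤ := by
  by_contra hc
  have := (S4757.main_facts u h.1 4 (fun χ hχ => h.2 χ fun e => hχ (by rw [e]; rfl)) hc).1
  norm_num at this

theorem two_le_degree {u : G} (h : Hyp u) {χ : Cfsg.IrrCharacter G} (hχ : χ ≠ trivIrr G) :
    2 ≤ Cfsg.charDegree (χ : G → ℂ) := by
  by_contra hlt
  have h1 : Cfsg.charDegree (χ : G → ℂ) = 1 := by have := irr_degree_pos χ; omega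
  refine S4757.not_perfect_iff.2 ⟨χ, hχ, ?_⟩ (perfect h)
  rw [irr_apply_one, h1, Nat.cast_one]

/-- A constituent of a character with value equal to the degree has the same property. -/
theorem apply_eq_degree_of_constituent {f : G → ℂ} (hf : Cfsg.IsCharacter G f) {g : G}
    (hg : f g = f 1) {ψ : Cfsg.IrrCharacter G} (hψ : Cfsg.classInner f (ψ : G → ℂ) ≠ 0) :
    (ψ : G → ℂ) g = (ψ : G → ℂ) 1 := by
  obtain ⟨m, hm, hsum⟩ := exists_mult hf
  have hre : ∀ φ : Cfsg.IrrCharacter G, ((φ : G → ℂ) g).re ≤ ((φ : G → ℂ) 1).re := fun φ => by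
    rw [irr_apply_one, Complex.natCast_re]
    exact (Complex.re_le_norm _).trans (irr_norm_le φ g)
  rw [hsum] at hg
  have h2 := congrArg Complex.re hg
  simp only [Finset.sum_apply, Pi.smul_apply, smul_eq_mul, Complex.re_sum, Complex.mul_re,
    Complex.natCast_re, Complex.natCast_im, zero_mul, sub_zero] at h2
  have h3 := (Finset.sum_eq_sum_iff_of_le fun φ _ =>
    mul_le_mul_of_nonneg_left (hre φ) (Nat.cast_nonneg _)).1 h2 ψ (Finset.mem_univ ψ)
  have hm0 : (m ψ : ℝ) ≠ 0 := Nat.cast_ne_zero.2 fun e => hψ (by rw [hm, e, Nat.cast_zero])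
  have h4 : ((ψ : G → ℂ) g).re = (Cfsg.charDegree (ψ : G → ℂ) : ℝ) := by
    rw [mul_left_cancel₀ hm0 h3, irr_apply_one, Complex.natCast_re]
  have h5 := irr_norm_le ψ g
  have h6 : ((ψ : G → ℂ) g).im = 0 := by
    have h7 : ‖(ψ : G → ℂ) g‖ ^ 2 ≤ (Cfsg.charDegree (ψ : G → ℂ) : ℝ) ^ 2 :=
      pow_le_pow_left₀ (norm_nonneg _) h5 2
    rw [← Complex.normSq_eq_norm_sq, Complex.normSq_apply, h4] at h7
    nlinarith [mul_self_nonneg ((ψ : G → ℂ) g).im]
  rw [irr_apply_one]
  exact Complex.ext (by rw [h4, Complex.natCast_re]) (by rw [h6, Complex.natCast_im])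

/-- No nontrivial character of degree two takes the value `-2`. -/
theorem not_two {u : G} (h : Hyp u) {χ : Cfsg.IrrCharacter G} (h1 : (χ : G → ℂ) 1 = 2)
    (hu : (χ : G → ℂ) u = -2) : False := by
  set f : G → ℂ := (χ : G → ℂ) * fun g => conj ((χ : G → ℂ) g) with hf
  have hfc : Cfsg.IsCharacter G f :=
    isCharacter_mul (irr_isCharacter χ) (isCharacter_conj (irr_isCharacter χ))
  have hfu : f u = f 1 := by simp [hf, h1, hu, Complex.conj_ofNat]
  obtain ⟨m, hm, hsum⟩ := exists_mult hfc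
  have hzero : ∀ ψ : Cfsg.IrrCharacter G, ψ ≠ trivIrr G → m ψ = 0 := by
    intro ψ hψ
    by_contra hne
    have := apply_eq_degree_of_constituent hfc hfu (ψ := ψ)
      (by rw [hm]; exact Nat.cast_ne_zero.2 hne)
    rcases h.2 ψ hψ with e | e
    · rw [this, sub_self] at e
      norm_num at e
    · exact irr_one_ne_zero ψ (this ▸ e)
  have hcst : ∀ g, f g = m (trivIrr G) := by
    intro g
    rw [hsum, Finset.sum_apply, Finset.sum_eq_single (trivIrr G)]
    · simp [trivIrr]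
    · intro ψ _ hψ; simp [hzero ψ hψ]
    · simp
  have h4 : (m (trivIrr G) : ℂ) = 4 := by
    rw [← hcst 1]; simp [hf, h1, Complex.conj_ofNat]; norm_num
  have h5 : Cfsg.classInner f (trivIrr G : G → ℂ) = 1 := by
    rw [← classInner_irr_self (χ := (χ : G → ℂ)) χ.2]
    simp [Cfsg.classInner, hf, trivIrr]
  rw [hm, h4] at h5
  norm_num at h5

/-- The possible values at `u`. -/
theorem cases_val {u : G} (h : Hyp u) (χ : Cfsg.IrrCharacter G) (hχ : χ ≠ trivIrr G) :
    (χ : G → ℂ) u = 0 ∨ Neg u χ ∨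
      ∃ d : ℕ, 5 ≤ d ∧ (χ : G → ℂ) 1 = d ∧ (χ : G → ℂ) u = d - 4 := by
  rcases h.2 χ hχ with e | e
  · have h2 := two_le_degree h hχ
    have h1 := irr_apply_one χ
    generalize Cfsg.charDegree (χ : G → ℂ) = d at h1 h2
    have hu : (χ : G → ℂ) u = (d : ℂ) - 4 := by rw [h1] at e; linear_combination -e
    by_cases h5 : 5 ≤ d
    · exact Or.inr (Or.inr ⟨d, h5, h1, hu⟩)
    · interval_cases d
      · exact (not_two h (by rw [h1]; norm_num) (by rw [hu]; norm_num)).elim
      · exact Or.inr (Or.inl ⟨by rw [h1]; norm_num, by rw [hu]; norm_num⟩)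
      · exact Or.inl (by rw [hu]; norm_num)
  · exact Or.inl e

/-- Subtracting a constituent. -/
theorem sub_irr {f : G → ℂ} (hf : Cfsg.IsCharacter G f) {ψ : Cfsg.IrrCharacter G}
    (hψ : Cfsg.classInner f (ψ : G → ℂ) ≠ 0) : Cfsg.IsCharacter G (f - (ψ : G → ℂ)) := by
  classical
  refine isCharacter_iff.2 ⟨fun a b => ?_, fun φ => ?_⟩
  · simp only [Pi.sub_apply]
    rw [isClassFunction_of_isCharacter hf a b,
      isClassFunction_of_isCharacter (irr_isCharacter ψ) a b]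
  · obtain ⟨n, hn⟩ := classInner_isCharacter hf (irr_isCharacter φ)
    rw [classInner_sub_left, hn]
    by_cases he : ψ = φ
    · subst he
      rw [classInner_irr_self ψ.2]
      refine ⟨n - 1, ?_⟩
      have : 1 ≤ n := Nat.one_le_iff_ne_zero.2 fun e => hψ (by rw [hn, e, Nat.cast_zero])
      rw [Nat.cast_sub this, Nat.cast_one]
    · rw [classInner_irr_ne ψ.2 φ.2 (fun e => he (Subtype.ext e)), sub_zero]
      exact ⟨n, rfl⟩

theorem inner_irr_ne {ψ φ : Cfsg.IrrCharacter G} (h : ψ ≠ φ) :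
    Cfsg.classInner (ψ : G → ℂ) (φ : G → ℂ) = 0 :=
  classInner_irr_ne ψ.2 φ.2 fun e => h (Subtype.ext e)

theorem noTriv_sub {f : G → ℂ} (h0 : NoTriv f) {ψ : Cfsg.IrrCharacter G} (hψ : ψ ≠ trivIrr G) :
    NoTriv (f - (ψ : G → ℂ)) := by
  rw [NoTriv, classInner_sub_left, h0, inner_irr_ne hψ, sub_zero]

/-- The real part of the value at `u` decomposed. -/
theorem exists_pos {u : G} (h : Hyp u) {f : G → ℂ} (hf : Cfsg.IsCharacter G f) (h0 : NoTriv f)
    (hpos : 0 < (f u).re) : ∃ (Y : Cfsg.IrrCharacter G) (d : ℕ), 5 ≤ d ∧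
      Cfsg.classInner f (Y : G → ℂ) ≠ 0 ∧ Y ≠ trivIrr G ∧
      (Y : G → ℂ) 1 = d ∧ (Y : G → ℂ) u = d - 4 := by
  obtain ⟨m, hm, hsum⟩ := exists_mult hf
  rw [hsum] at hpos
  simp only [Finset.sum_apply, Pi.smul_apply, smul_eq_mul, Complex.re_sum, Complex.mul_re,
    Complex.natCast_re, Complex.natCast_im, zero_mul, sub_zero] at hpos
  obtain ⟨Y, hY⟩ : ∃ Y : Cfsg.IrrCharacter G, 0 < (m Y : ℝ) * ((Y : G → ℂ) u).re := by
    by_contra hc
    push Not at hc
    exact absurd (Finset.sum_nonpos fun Y _ => hc Y) (not_le.2 hpos)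
  have hm0 : m Y ≠ 0 := fun e => by simp [e] at hY
  have hne : Y ≠ trivIrr G := by
    rintro rfl
    have := hm (trivIrr G)
    rw [h0] at this
    exact hm0 (by exact_mod_cast this.symm)
  rcases cases_val h Y hne with e | e | ⟨d, hd, h1, hu⟩
  · simp [e] at hY
  · rw [e.2] at hY
    have : (0 : ℝ) ≤ (m Y : ℝ) := Nat.cast_nonneg _
    simp at hY
    linarith
  · exact ⟨Y, d, hd, by rw [hm]; exact Nat.cast_ne_zero.2 hm0, hne, h1, hu⟩

/-- A character of degree at most two without trivial constituent vanishes at `u`. -/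
theorem val_small {u : G} (h : Hyp u) {f : G → ℂ} (hf : Cfsg.IsCharacter G f) (h0 : NoTriv f)
    {n : ℕ} (h1 : f 1 = n) (hn : n ≤ 2) : f u = 0 := by
  obtain ⟨m, hm, hsum⟩ := exists_mult hf
  rw [hsum, Finset.sum_apply]
  refine Finset.sum_eq_zero fun ψ _ => ?_
  by_cases hm0 : m ψ = 0
  · simp [hm0]
  have hne : ψ ≠ trivIrr G := by
    rintro rfl
    have := hm (trivIrr G)
    rw [h0] at this
    exact hm0 (by exact_mod_cast this.symm)
  have hc := sub_irr hf (ψ := ψ) (by rw [hm]; exact Nat.cast_ne_zero.2 hm0)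
  obtain ⟨k, hk⟩ := isCharacter_apply_one hc
  have hle : Cfsg.charDegree (ψ : G → ℂ) ≤ 2 := by
    rw [Pi.sub_apply, h1, irr_apply_one, sub_eq_iff_eq_add] at hk
    have : n = k + Cfsg.charDegree (ψ : G → ℂ) := by exact_mod_cast hk
    omega
  rcases cases_val h ψ hne with e | e | ⟨d, hd, hd1, -⟩
  · simp [e]
  · exfalso
    have := e.1
    rw [irr_apply_one] at this
    have : Cfsg.charDegree (ψ : G → ℂ) = 3 := by exact_mod_cast this
    omega
  · exfalso
    rw [irr_apply_one] at hd1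
    have : Cfsg.charDegree (ψ : G → ℂ) = d := by exact_mod_cast hd1
    omega

/-- Extract a constituent with positive value. -/
theorem extract_pos {u : G} (h : Hyp u) {f : G → ℂ} (hf : Cfsg.IsCharacter G f) (h0 : NoTriv f)
    {n : ℕ} {w : ℝ} (h1 : f 1 = n) (hu : f u = w) (hw : 0 < w) :
    ∃ (Y : Cfsg.IrrCharacter G) (d : ℕ), 5 ≤ d ∧ d ≤ n ∧
      Cfsg.classInner f (Y : G → ℂ) ≠ 0 ∧ (Y : G → ℂ) 1 = d ∧ (Y : G → ℂ) u = d - 4 ∧
      Cfsg.IsCharacter G (f - (Y : G → ℂ)) ∧ NoTriv (f - (Y : G → ℂ)) ∧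
      (f - (Y : G → ℂ)) 1 = ((n - d : ℕ) : ℂ) ∧ (n - d ≤ 2 → w = d - 4) := by
  obtain ⟨Y, d, hd, hm, hne, hY1, hYu⟩ := exists_pos h hf h0 (by rw [hu, Complex.ofReal_re]; exact hw)
  have hc := sub_irr hf hm
  obtain ⟨k, hk⟩ := isCharacter_apply_one hc
  have hnk : n = k + d := by
    rw [Pi.sub_apply, h1, hY1, sub_eq_iff_eq_add] at hk
    exact_mod_cast hk
  have hk' : (f - (Y : G → ℂ)) 1 = ((n - d : ℕ) : ℂ) := by rw [hk, hnk, Nat.add_sub_cancel]
  refine ⟨Y, d, hd, by omega, hm, hY1, hYu, hc, noTriv_sub h0 hne, hk', fun hle => ?_⟩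
  have := val_small h hc (noTriv_sub h0 hne) hk' hle
  rw [Pi.sub_apply, hu, hYu, sub_eq_zero] at this
  exact_mod_cast this

/-- A character with degree at most four and no trivial constituent is not positive at `u`. -/
theorem not_pos_small {u : G} (h : Hyp u) {f : G → ℂ} (hf : Cfsg.IsCharacter G f) (h0 : NoTriv f)
    {n : ℕ} {w : ℝ} (h1 : f 1 = n) (hu : f u = w) (hw : 0 < w) (hn : n ≤ 4) : False := by
  obtain ⟨Y, d, hd, hdn, -⟩ := extract_pos h hf h0 h1 hu hw
  omega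

/-- The `(5,1)` and `(6,2)` characters without trivial constituent are irreducible. -/
theorem irr_five_six {u : G} (h : Hyp u) {f : G → ℂ} (hf : Cfsg.IsCharacter G f) (h0 : NoTriv f)
    {n : ℕ} (h1 : f 1 = n) (hn : n = 5 ∨ n = 6) (hu : f u = n - 4) :
    ∃ Y : Cfsg.IrrCharacter G, f = (Y : G → ℂ) := by
  obtain ⟨Y, d, hd, hdn, -, -, -, hc, -, hk, hw⟩ :=
    extract_pos h hf h0 (w := (n : ℝ) - 4) h1 (by rw [hu]; push_cast; ring)
      (by rcases hn with rfl | rfl <;> norm_num)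
  have := hw (by omega)
  have hnd : n = d := by
    have : (n : ℝ) = d := by linarith
    exact_mod_cast this
  refine ⟨Y, sub_eq_zero.1 (isCharacter_eq_zero_of_apply_one hc ?_)⟩
  rw [hk, hnd, Nat.sub_self, Nat.cast_zero]

/-- There is no irreducible character of degree nine with value one at `u`. -/
theorem not_nine {u : G} (h : Hyp u) (χ : Cfsg.IrrCharacter G) (h1 : (χ : G → ℂ) 1 = 9)
    (hu : (χ : G → ℂ) u = 1) : False := by
  have hne : χ ≠ trivIrr G := by
    rintro rfl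
    simp [trivIrr] at h1
  rcases cases_val h χ hne with e | e | ⟨d, hd, hd1, hdu⟩
  · rw [hu] at e; exact one_ne_zero e
  · rw [e.1] at h1; norm_num at h1
  · rw [h1] at hd1
    rw [hu] at hdu
    have : (d : ℂ) = 5 := by linear_combination -hdu
    rw [this] at hd1
    norm_num at hd1

/-- A `(9,1)` character without trivial constituent contains a character of type five or six. -/
theorem nine_one {u : G} (h : Hyp u) {f : G → ℂ} (hf : Cfsg.IsCharacter G f) (h0 : NoTriv f)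
    (h1 : f 1 = 9) (hu : f u = 1) :
    ∃ Y : Cfsg.IrrCharacter G, (Five u Y ∨ Six u Y) ∧ Cfsg.classInner f (Y : G → ℂ) ≠ 0 := by
  obtain ⟨Y, d, hd, hdn, hm, hY1, hYu, -, -, -, hw⟩ :=
    extract_pos h hf h0 (n := 9) (w := 1) (by rw [h1]; norm_num) (by rw [hu]; norm_num) one_pos
  refine ⟨Y, ?_, hm⟩
  interval_cases d
  · exact Or.inl ⟨by rw [hY1]; norm_num, by rw [hYu]; norm_num⟩
  · exact Or.inr ⟨by rw [hY1]; norm_num, by rw [hYu]; norm_num⟩
  all_goals norm_num at hw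

/-- Norms of characters are naturals. -/
theorem norm_sub {f : G → ℂ} (hf : Cfsg.IsCharacter G f) {ψ : Cfsg.IrrCharacter G}
    (hψ : Cfsg.classInner f (ψ : G → ℂ) ≠ 0) {k : ℕ} (hk : Cfsg.classInner f f = k) :
    ∃ k' : ℕ, k' + 1 ≤ k ∧
      Cfsg.classInner (f - (ψ : G → ℂ)) (f - (ψ : G → ℂ)) = k' := by
  obtain ⟨n, hn⟩ := classInner_isCharacter hf (irr_isCharacter ψ)
  have hn' : Cfsg.classInner (ψ : G → ℂ) f = n := by
    rw [← conj_classInner, hn, Complex.conj_natCast]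
  obtain ⟨k', hk'⟩ := classInner_isCharacter (sub_irr hf hψ) (sub_irr hf hψ)
  refine ⟨k', ?_, hk'⟩
  rw [classInner_sub_left, classInner_sub_right, classInner_sub_right, hk, hn, hn',
    classInner_irr_self ψ.2] at hk'
  have hn1 : 1 ≤ n := Nat.one_le_iff_ne_zero.2 fun e => hψ (by rw [hn, e, Nat.cast_zero])
  have : (k : ℤ) = k' + 2 * n - 1 := by
    have h' : (k : ℂ) = k' + 2 * n - 1 := by linear_combination hk'
    exact_mod_cast h'
  omega

/-- A `(9,1)` character of norm at most one is impossible. -/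
theorem not_nine_norm {u : G} (h : Hyp u) {f : G → ℂ} (hf : Cfsg.IsCharacter G f) (h1 : f 1 = 9)
    (hu : f u = 1) {k : ℕ} (hk : Cfsg.classInner f f = k) (hk1 : k ≤ 1) : False := by
  interval_cases k
  · rw [eq_zero_of_classInner_self (a := f) (by rw [hk, Nat.cast_zero]), Pi.zero_apply] at h1
    norm_num at h1
  · exact not_nine h ⟨f, isIrrCharacter_iff.2 ⟨hf, by rw [hk, Nat.cast_one]⟩⟩ h1 hu

/-- Moving a factor across the inner product. -/
theorem inner_mul_left (a b c : G → ℂ) :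
    Cfsg.classInner (a * b) c = Cfsg.classInner a ((fun x => conj (b x)) * c) := by
  unfold Cfsg.classInner
  congr 1
  refine Finset.sum_congr rfl fun g _ => ?_
  simp only [Pi.mul_apply, map_mul, Complex.conj_conj]
  ring

end Cfsg.Agent.SAD4Base
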