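import Mathlib
import Cfsg.Prelude.Def_Blocks
import Cfsg.Agent.Lib.CharBasicOrth
import Cfsg.Agent.Lib.CharBasicDecomp
import Cfsg.Agent.Lib.CharAverage

/-!
Characters of degree three of perfect groups (helper83): `χ (g²)`, power recurrence, `conj χ ⊆ χ χ`.
-/

set_option autoImplicit false

namespace Cfsg.Agent.SAD4Cube

open scoped ComplexConjugate Kronecker
open Matrix
open Cfsg.Agent.CharBasic Cfsg.Agent.CharBasicOrth Cfsg.Agent.CharBasicDecomp
open Cfsg.Agent.CharAverage

universe w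

variable {G : Type w} [Group G]

/-- Cayley-Hamilton for `3 × 3` matrices of determinant one. -/
theorem cube_eq (A : Matrix (Fin 3) (Fin 3) ℂ) (hA : A.det = 1) :
    A * A * A = A.trace • (A * A) - A.adjugate.trace • A + 1 := by
  rw [Matrix.det_fin_three] at hA
  rw [Matrix.adjugate_fin_three]
  ext i j
  fin_cases i <;> fin_cases j <;>
    simp [Matrix.trace_fin_three, Matrix.mul_apply, Fin.sum_univ_three] <;>
    first
      | linear_combination hA
      | ring

/-- The trace of the square. -/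
theorem trace_sq (A : Matrix (Fin 3) (Fin 3) ℂ) :
    (A * A).trace = A.trace ^ 2 - 2 * A.adjugate.trace := by
  rw [Matrix.adjugate_fin_three]
  simp [Matrix.trace_fin_three, Matrix.mul_apply, Fin.sum_univ_three]
  ring

/-- The alternating symbol on `Fin 3`. -/
noncomputable def eps (p : (Fin 3 × Fin 3) × Fin 3) : ℂ :=
  ((p.1.2.val : ℂ) - p.1.1.val) * ((p.2.val : ℂ) - p.1.1.val) * ((p.2.val : ℂ) - p.1.2.val) / 2

theorem eps_fixed (A : Matrix (Fin 3) (Fin 3) ℂ) (hA : A.det = 1) :
    ((A ⊗ₖ A) ⊗ₖ A) *ᵥ eps = eps := by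
  rw [Matrix.det_fin_three] at hA
  ext ⟨⟨i, j⟩, k⟩
  fin_cases i <;> fin_cases j <;> fin_cases k <;>
    simp [eps, Matrix.mulVec, dotProduct, Fintype.sum_prod_type, Fin.sum_univ_three,
      Matrix.kroneckerMap_apply] <;>
    first
      | linear_combination hA
      | linear_combination -hA
      | ring

/-- Facts on a character of degree three of a perfect group. -/
theorem main [Fintype G] (hG : commutator G = ⊤) (χ : Cfsg.IrrCharacter G)
    (h3 : (χ : G → ℂ) 1 = 3) :
    (∀ g : G, (χ : G → ℂ) (g ^ 2) = (χ : G → ℂ) g ^ 2 - 2 * conj ((χ : G → ℂ) g)) ∧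
    (∀ (g : G) (k : ℕ), (χ : G → ℂ) (g ^ (k + 3)) =
      (χ : G → ℂ) g * (χ : G → ℂ) (g ^ (k + 2)) - conj ((χ : G → ℂ) g) * (χ : G → ℂ) (g ^ (k + 1))
        + (χ : G → ℂ) (g ^ k)) ∧
    Cfsg.classInner ((χ : G → ℂ) * (χ : G → ℂ)) (fun g => conj ((χ : G → ℂ) g)) ≠ 0 := by
  obtain ⟨n, ρ, hi, hρ⟩ := χ.2
  have hn : n = 3 := by
    have h1 := congrFun hρ 1
    rw [Representation.char_one, Module.finrank_fin_fun, h3] at h1
    exact_mod_cast h1
  subst hn
  let M : G →* Matrix (Fin 3) (Fin 3) ℂ :=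
    (LinearMap.toMatrixAlgEquiv' : ((Fin 3 → ℂ) →ₗ[ℂ] (Fin 3 → ℂ)) ≃ₐ[ℂ] _).toMulEquiv.toMonoidHom.comp ρ
  have htr : ∀ g, (χ : G → ℂ) g = (M g).trace := by
    intro g
    rw [← hρ]
    show LinearMap.trace ℂ _ (ρ g) = _
    rw [LinearMap.trace_eq_matrix_trace ℂ (Pi.basisFun ℂ (Fin 3))]
    rfl
  have hdet : ∀ g, (M g).det = 1 := by
    intro g
    let f : G →* ℂˣ := MonoidHom.toHomUnits
      ((Matrix.detMonoidHom : Matrix (Fin 3) (Fin 3) ℂ →* ℂ).comp M)
    have h : g ∈ f.ker :=
      Abelianization.commutator_subset_ker f (by rw [hG]; exact Subgroup.mem_top g)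
    simpa [f] using congrArg Units.val (MonoidHom.mem_ker.1 h)
  have hadj : ∀ g, (M g).adjugate.trace = conj ((χ : G → ℂ) g) := by
    intro g
    have h1 : (M g).adjugate = M g⁻¹ := by
      calc (M g).adjugate = (M g).adjugate * (M g * M g⁻¹) := by
            rw [← map_mul, mul_inv_cancel, map_one, mul_one]
        _ = M g⁻¹ := by rw [← mul_assoc, Matrix.adjugate_mul, hdet, one_smul, one_mul]
    rw [h1, ← htr, isCharacter_inv (irr_isCharacter χ)]
  refine ⟨fun g => ?_, fun g k => ?_, ?_⟩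
  · rw [htr (g ^ 2), pow_two, map_mul, trace_sq, ← htr, hadj]
  · have h := cube_eq (M g) (hdet g)
    rw [← htr, hadj] at h
    rw [htr (g ^ (k + 3)), htr (g ^ (k + 2)), htr (g ^ (k + 1)), htr (g ^ k)]
    have e : M (g ^ (k + 3)) = M (g ^ k) * (M g * M g * M g) := by
      simp only [← map_mul, mul_assoc]
      congr 1
      group
    rw [e, h]
    have e2 : M (g ^ (k + 2)) = M (g ^ k) * (M g * M g) := by
      simp only [← map_mul, mul_assoc]
      congr 1
      group
    have e1 : M (g ^ (k + 1)) = M (g ^ k) * M g := by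
      rw [← map_mul, pow_succ]
    rw [e2, e1]
    simp only [mul_add, mul_sub, mul_smul, mul_one, Matrix.mul_smul, Matrix.trace_add,
      Matrix.trace_sub, Matrix.trace_smul, smul_eq_mul]
  · let K : G →* Matrix ((Fin 3 × Fin 3) × Fin 3) ((Fin 3 × Fin 3) × Fin 3) ℂ :=
      { toFun := fun g => (M g ⊗ₖ M g) ⊗ₖ M g
        map_one' := by simp
        map_mul' := fun a b => by simp [Matrix.mul_kronecker_mul] }
    let σ : Representation ℂ G ((Fin 3 × Fin 3) × Fin 3 → ℂ) :=
      (Matrix.toLinAlgEquiv' : Matrix _ _ ℂ ≃ₐ[ℂ] _).toMulEquiv.toMonoidHom.comp K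
    have hσ : ∀ g, σ.character g = (χ : G → ℂ) g * (χ : G → ℂ) g * (χ : G → ℂ) g := by
      intro g
      show LinearMap.trace ℂ _ (Matrix.toLin' (K g)) = _
      rw [Matrix.trace_toLin'_eq]
      show ((M g ⊗ₖ M g) ⊗ₖ M g).trace = _
      rw [Matrix.trace_kronecker, Matrix.trace_kronecker, ← htr]
    have hfix : eps ∈ σ.invariants := fun g => by
      show Matrix.toLin' (K g) eps = eps
      rw [Matrix.toLin'_apply]
      exact eps_fixed (M g) (hdet g)
    have hne : σ.invariants ≠ ⊥ := by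
      intro h
      have h0 : eps = 0 := by rw [h] at hfix; exact (Submodule.mem_bot ℂ).1 hfix
      have := congrFun h0 ((0, 1), 2)
      norm_num [eps] at this
    have hG0 : (Nat.card G : ℂ) ≠ 0 := Nat.cast_ne_zero.2 Nat.card_pos.ne'
    have : Invertible (Fintype.card G : ℂ) :=
      invertibleOfNonzero (by rw [← Nat.card_eq_fintype_card]; exact hG0)
    have h2 : (Nat.card G : ℂ)⁻¹ * ∑ g : G, σ.character g =
        (Module.finrank ℂ σ.invariants : ℂ) := by
      rw [← (Representation.isProj_averageMap σ).trace]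
      simp [Representation.character, GroupAlgebra.average, map_sum, Nat.card_eq_fintype_card]
    intro h0
    have h1 : (Nat.card G : ℂ)⁻¹ * ∑ g : G, σ.character g = 0 := by
      rw [← h0]
      simp [Cfsg.classInner, hσ]
    rw [h2, Nat.cast_eq_zero] at h1
    exact hne (Submodule.finrank_eq_zero.1 h1)

end Cfsg.Agent.SAD4Cube
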