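import Mathlib
import Cfsg.Prelude.Def_Blocks
import Cfsg.Agent.Lib.SAD4Base
import Cfsg.Agent.Lib.SAD4Cube

/-!
Characters with `χ 1 - χ u = 4` or `χ u = 0` (helper83): the characters of degree three and value `-1`.
-/

set_option autoImplicit false

namespace Cfsg.Agent.SAD4Char

open scoped ComplexConjugate
open Cfsg.Agent.CharBasic Cfsg.Agent.CharBasicOrth Cfsg.Agent.CharBasicDecomp
open Cfsg.Agent.CharAverage Cfsg.Agent.SAD4Base

universe w

variable {G : Type w} [Group G] [Fintype G]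

/-- The complex conjugate character. -/
def conjIrr (χ : Cfsg.IrrCharacter G) : Cfsg.IrrCharacter G :=
  ⟨fun g => conj ((χ : G → ℂ) g), isIrrCharacter_conj χ.2⟩

theorem conjIrr_apply (χ : Cfsg.IrrCharacter G) (g : G) :
    (conjIrr χ : G → ℂ) g = conj ((χ : G → ℂ) g) := rfl

theorem neg_ne_triv {u : G} {V : Cfsg.IrrCharacter G} (hV : Neg u V) : V ≠ trivIrr G := by
  rintro rfl
  have := hV.1
  norm_num [trivIrr] at this

theorem ne_of_degree {χ ψ : Cfsg.IrrCharacter G} {a b : ℂ} (hχ : (χ : G → ℂ) 1 = a)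
    (hψ : (ψ : G → ℂ) 1 = b) (hab : a ≠ b) : χ ≠ ψ := fun e => hab (by rw [← hχ, e, hψ])

theorem neg_conjIrr {u : G} {V : Cfsg.IrrCharacter G} (hV : Neg u V) : Neg u (conjIrr V) := by
  refine ⟨?_, ?_⟩ <;> rw [conjIrr_apply]
  · rw [hV.1, Complex.conj_ofNat]
  · rw [hV.2, map_neg, map_one]

theorem inner_mul_triv (V V' : Cfsg.IrrCharacter G) :
    Cfsg.classInner ((V : G → ℂ) * (V' : G → ℂ)) (trivIrr G : G → ℂ) =
      Cfsg.classInner (V : G → ℂ) (conjIrr V' : G → ℂ) := by
  rw [inner_mul_left]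
  congr 1
  funext g
  simp [conjIrr, trivIrr]

theorem noTriv_mul {V V' : Cfsg.IrrCharacter G} (h : V ≠ conjIrr V') :
    NoTriv ((V : G → ℂ) * (V' : G → ℂ)) := by
  rw [NoTriv, inner_mul_triv, inner_irr_ne h]

theorem inner_swap {f : G → ℂ} {ψ : Cfsg.IrrCharacter G}
    (h : Cfsg.classInner f (ψ : G → ℂ) ≠ 0) : Cfsg.classInner (ψ : G → ℂ) f ≠ 0 := fun e =>
  h (by rw [← conj_classInner, e, map_zero])

/-- The square of a non-real character of type `Neg`. -/
theorem nonreal_decomp {u : G} (h : Hyp u) {V : Cfsg.IrrCharacter G} (hV : Neg u V)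
    (hnr : conjIrr V ≠ V) :
    ∃ W η : Cfsg.IrrCharacter G, Six u W ∧
      (η : G → ℂ) 1 = 8 ∧ (η : G → ℂ) u = 0 ∧
      (V : G → ℂ) * (V : G → ℂ) = (conjIrr V : G → ℂ) + (W : G → ℂ) ∧
      (V : G → ℂ) * (conjIrr V : G → ℂ) = (trivIrr G : G → ℂ) + (η : G → ℂ) := by
  have hVV : Cfsg.IsCharacter G ((V : G → ℂ) * (V : G → ℂ)) :=
    isCharacter_mul (irr_isCharacter V) (irr_isCharacter V)
  have hc : Cfsg.classInner ((V : G → ℂ) * (V : G → ℂ)) (conjIrr V : G → ℂ) ≠ 0 :=
    (SAD4Cube.main (perfect h) V hV.1).2.2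
  have h0 : NoTriv ((V : G → ℂ) * (V : G → ℂ) - (conjIrr V : G → ℂ)) :=
    noTriv_sub (noTriv_mul (fun e => hnr e.symm)) (neg_ne_triv (neg_conjIrr hV))
  obtain ⟨W, hW⟩ := irr_five_six h (sub_irr hVV hc) h0 (n := 6)
    (by simp [hV.1, (neg_conjIrr hV).1]; norm_num) (Or.inr rfl)
    (by simp [hV.2, (neg_conjIrr hV).2]; norm_num)
  have hW6 : Six u W := by
    rw [Six, ← hW]
    simp [hV.1, hV.2, (neg_conjIrr hV).1, (neg_conjIrr hV).2]
    norm_num
  have hVVeq : (V : G → ℂ) * (V : G → ℂ) = (conjIrr V : G → ℂ) + (W : G → ℂ) := by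
    rw [← hW]; abel
  set P : G → ℂ := (V : G → ℂ) * (conjIrr V : G → ℂ) with hP
  have hPc : Cfsg.IsCharacter G P :=
    isCharacter_mul (irr_isCharacter V) (irr_isCharacter (conjIrr V))
  have hPt : Cfsg.classInner P (trivIrr G : G → ℂ) = 1 := by
    rw [hP, inner_mul_triv]
    have : conjIrr (conjIrr V) = V := Subtype.ext (funext fun g => by simp [conjIrr])
    rw [this, classInner_irr_self V.2]
  have hPP : Cfsg.classInner P P = 2 := by
    have e : Cfsg.classInner P P =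
        Cfsg.classInner ((V : G → ℂ) * (V : G → ℂ)) ((V : G → ℂ) * (V : G → ℂ)) := by
      rw [hP]
      unfold Cfsg.classInner
      congr 1
      refine Finset.sum_congr rfl fun g _ => ?_
      simp only [Pi.mul_apply, map_mul, conjIrr_apply, Complex.conj_conj]
      ring
    have hne : conjIrr V ≠ W := ne_of_degree (neg_conjIrr hV).1 hW6.1 (by norm_num)
    rw [e, hVVeq, classInner_add_left, classInner_add_right, classInner_add_right,
      classInner_irr_self (conjIrr V).2, classInner_irr_self W.2, inner_irr_ne hne,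
      inner_irr_ne hne.symm]
    norm_num
  have hηc := sub_irr hPc (ψ := trivIrr G) (by rw [hPt]; exact one_ne_zero)
  have hη1 : Cfsg.classInner (P - (trivIrr G : G → ℂ)) (P - (trivIrr G : G → ℂ)) = 1 := by
    rw [classInner_sub_left, classInner_sub_right, classInner_sub_right, hPP, hPt,
      classInner_irr_self (trivIrr G).2, ← conj_classInner P (trivIrr G : G → ℂ), hPt, map_one]
    norm_num
  refine ⟨W, ⟨_, isIrrCharacter_iff.2 ⟨hηc, hη1⟩⟩, hW6, ?_, ?_, hVVeq, ?_⟩
  · simp [hP, hV.1, (neg_conjIrr hV).1, trivIrr]; norm_num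
  · simp [hP, hV.2, (neg_conjIrr hV).2, trivIrr]
  · show P = _ + (P - _)
    abel

/-- Subtracting all copies of a constituent. -/
theorem sub_smul_irr {f : G → ℂ} (hf : Cfsg.IsCharacter G f) {ψ : Cfsg.IrrCharacter G} {e : ℕ}
    (he : Cfsg.classInner f (ψ : G → ℂ) = e) :
    Cfsg.IsCharacter G (f - (e : ℂ) • (ψ : G → ℂ)) := by
  classical
  refine isCharacter_iff.2 ⟨fun a b => ?_, fun φ => ?_⟩
  · simp only [Pi.sub_apply, Pi.smul_apply]
    rw [isClassFunction_of_isCharacter hf a b,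
      isClassFunction_of_isCharacter (irr_isCharacter ψ) a b]
  · obtain ⟨n, hn⟩ := classInner_isCharacter hf (irr_isCharacter φ)
    rw [classInner_sub_left, classInner_smul_left]
    by_cases heq : ψ = φ
    · subst heq
      rw [classInner_irr_self ψ.2, he]
      exact ⟨0, by simp⟩
    · rw [inner_irr_ne heq, mul_zero, sub_zero, hn]
      exact ⟨n, rfl⟩

/-- A zero of a character of degree three. -/
theorem exists_zero {u : G} {V : Cfsg.IrrCharacter G} (hV : Neg u V) :
    ∃ g, (V : G → ℂ) g = 0 := by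
  classical
  have hd : Cfsg.charDegree (V : G → ℂ) = 3 := by
    have := hV.1
    rw [irr_apply_one] at this
    exact_mod_cast this
  have hz := (S4574.result (V : G → ℂ) V.2).1
  rw [hd] at hz
  have h1 : (1 : G) ∈ Finset.univ.filter fun g : G => ‖(V : G → ℂ) g‖ = ((3 : ℕ) : ℝ) := by
    simp [hV.1]
  have h2 := Finset.card_pos.2 ⟨_, h1⟩
  obtain ⟨g, hg⟩ := Finset.card_pos.1
    (show 0 < (Finset.univ.filter fun g : G => (V : G → ℂ) g = 0).card by omega)
  exact ⟨g, (Finset.mem_filter.1 hg).2⟩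

/-- The product used in the fibre bounds. -/
theorem fibre_aux {u : G} {V η Y : Cfsg.IrrCharacter G}
    (hη : (V : G → ℂ) * (conjIrr V : G → ℂ) = (trivIrr G : G → ℂ) + (η : G → ℂ))
    (hη0 : η ≠ trivIrr G) {d : ℕ} {v : ℂ} (hY1 : (Y : G → ℂ) 1 = d) (hYu : (Y : G → ℂ) u = v)
    (hv : conj v = v) :
    ∃ (e : ℕ) (r : G → ℂ),
      Cfsg.classInner ((Y : G → ℂ) * (conjIrr V : G → ℂ)) ((Y : G → ℂ) * (conjIrr V : G → ℂ)) =
        ((1 + e : ℕ) : ℂ) ∧
      Cfsg.IsCharacter G r ∧ NoTriv r ∧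
      r 1 = (d : ℂ) ^ 2 - 1 - e * (η : G → ℂ) 1 ∧ r u = v ^ 2 - 1 - e * (η : G → ℂ) u ∧
      (r = 0 → ∀ g, (Y : G → ℂ) g * conj ((Y : G → ℂ) g) - 1 =
        e * ((V : G → ℂ) g * conj ((V : G → ℂ) g) - 1)) := by
  set Q : G → ℂ := (Y : G → ℂ) * (conjIrr Y : G → ℂ) with hQ
  have hQc : Cfsg.IsCharacter G Q :=
    isCharacter_mul (irr_isCharacter Y) (irr_isCharacter (conjIrr Y))
  have hQt : Cfsg.classInner Q (trivIrr G : G → ℂ) = 1 := by
    rw [hQ, inner_mul_triv]
    have : conjIrr (conjIrr Y) = Y := Subtype.ext (funext fun g => by simp [conjIrr])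
    rw [this, classInner_irr_self Y.2]
  have hr1 := sub_irr hQc (ψ := trivIrr G) (by rw [hQt]; exact one_ne_zero)
  obtain ⟨e, he⟩ := classInner_isCharacter hr1 (irr_isCharacter η)
  refine ⟨e, _, ?_, sub_smul_irr hr1 he, ?_, ?_, ?_, ?_⟩
  · have e1 : Cfsg.classInner ((Y : G → ℂ) * (conjIrr V : G → ℂ))
        ((Y : G → ℂ) * (conjIrr V : G → ℂ)) =
        Cfsg.classInner Q ((V : G → ℂ) * (conjIrr V : G → ℂ)) := by
      rw [hQ]
      unfold Cfsg.classInner
      congr 1
      refine Finset.sum_congr rfl fun g _ => ?_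
      simp only [Pi.mul_apply, map_mul, conjIrr_apply, Complex.conj_conj]
      ring
    rw [classInner_sub_left, inner_irr_ne hη0.symm, sub_zero] at he
    rw [e1, hη, classInner_add_right, hQt, he, Nat.cast_add, Nat.cast_one]
  · rw [NoTriv, classInner_sub_left, classInner_sub_left, classInner_smul_left, hQt,
      classInner_irr_self (trivIrr G).2, inner_irr_ne hη0, mul_zero, sub_zero, sub_self]
  · simp [hQ, conjIrr, trivIrr, hY1, pow_two]
  · simp [hQ, conjIrr, trivIrr, hYu, hv, pow_two]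
  · intro h0 g
    have h1 := congrFun h0 g
    have h2 := congrFun hη g
    simp [hQ, conjIrr, trivIrr] at h1 h2
    linear_combination h1 - (e : ℂ) * h2

theorem inner_transfer {V V' Y : Cfsg.IrrCharacter G}
    (h : Cfsg.classInner ((V : G → ℂ) * (V' : G → ℂ)) (Y : G → ℂ) ≠ 0) :
    Cfsg.classInner ((Y : G → ℂ) * (conjIrr V : G → ℂ)) (V' : G → ℂ) ≠ 0 := by
  rw [inner_mul_left]
  have : ((fun x => conj ((conjIrr V : G → ℂ) x)) * (V' : G → ℂ)) =
      (V : G → ℂ) * (V' : G → ℂ) := by funext g; simp [conjIrr]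
  rw [this]
  exact inner_swap h

/-- Subtracting a constituent keeps the others. -/
theorem inner_sub_ne {f : G → ℂ} {ψ φ : Cfsg.IrrCharacter G} (h : ψ ≠ φ)
    (hf : Cfsg.classInner f (φ : G → ℂ) ≠ 0) :
    Cfsg.classInner (f - (ψ : G → ℂ)) (φ : G → ℂ) ≠ 0 := by
  rwa [classInner_sub_left, inner_irr_ne h, sub_zero]

theorem fibre_five {u : G} (h : Hyp u) {V η Y V1 V2 : Cfsg.IrrCharacter G} (hV : Neg u V)
    (hη8 : (η : G → ℂ) 1 = 8) (hηu : (η : G → ℂ) u = 0)
    (hη : (V : G → ℂ) * (conjIrr V : G → ℂ) = (trivIrr G : G → ℂ) + (η : G → ℂ))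
    (hY : Five u Y) (h1 : Neg u V1) (h2 : Neg u V2) (hne : V1 ≠ V2)
    (i1 : Cfsg.classInner ((V : G → ℂ) * (V1 : G → ℂ)) (Y : G → ℂ) ≠ 0)
    (i2 : Cfsg.classInner ((V : G → ℂ) * (V2 : G → ℂ)) (Y : G → ℂ) ≠ 0) : False := by
  have hη0 : η ≠ trivIrr G := ne_of_degree hη8 (b := 1) rfl (by norm_num)
  obtain ⟨e, r, hX, hrc, hr0, hr1, hru, hrz⟩ := fibre_aux (u := u) (d := 5) (v := 1) hη hη0
    (by rw [hY.1]; norm_num) hY.2 (map_one _)
  rw [hη8] at hr1
  obtain ⟨k, hk⟩ := isCharacter_apply_one hrc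
  have hk' : 8 * e + k = 24 := by
    have : ((8 * e + k : ℕ) : ℂ) = 24 := by push_cast; rw [← hk, hr1]; push_cast; ring
    exact_mod_cast this
  have he : e ≤ 2 := by
    by_contra hc
    have he3 : e = 3 := by omega
    subst he3
    have hr' : r = 0 := isCharacter_eq_zero_of_apply_one hrc (by rw [hr1]; norm_num)
    obtain ⟨g, hg⟩ := exists_zero hV
    have h3 := hrz hr' g
    rw [hg, Complex.mul_conj] at h3
    have h4 := congrArg Complex.re h3
    simp at h4
    linarith [Complex.normSq_nonneg ((Y : G → ℂ) g)]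
  set X : G → ℂ := (Y : G → ℂ) * (conjIrr V : G → ℂ) with hXdef
  have hXc : Cfsg.IsCharacter G X :=
    isCharacter_mul (irr_isCharacter Y) (irr_isCharacter (conjIrr V))
  have j1 := inner_transfer i1
  have j2 := inner_sub_ne hne (inner_transfer i2)
  obtain ⟨k1, hk1, hX1⟩ := norm_sub hXc j1 hX
  obtain ⟨k2, hk2, hX2⟩ := norm_sub (sub_irr hXc j1) j2 hX1
  refine not_nine_norm h (sub_irr (sub_irr hXc j1) j2) ?_ ?_ hX2 (by omega)
  · simp [hXdef, conjIrr, hY.1, hV.1, h1.1, h2.1, Complex.conj_ofNat]; norm_num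
  · simp [hXdef, conjIrr, hY.2, hV.2, h1.2, h2.2]

theorem fibre_six {u : G} (h : Hyp u) {V η Y V1 V2 V3 : Cfsg.IrrCharacter G} (hV : Neg u V)
    (hη8 : (η : G → ℂ) 1 = 8) (hηu : (η : G → ℂ) u = 0)
    (hη : (V : G → ℂ) * (conjIrr V : G → ℂ) = (trivIrr G : G → ℂ) + (η : G → ℂ))
    (hY : Six u Y) (h1 : Neg u V1) (h2 : Neg u V2) (h3 : Neg u V3)
    (h12 : V1 ≠ V2) (h13 : V1 ≠ V3) (h23 : V2 ≠ V3)
    (i1 : Cfsg.classInner ((V : G → ℂ) * (V1 : G → ℂ)) (Y : G → ℂ) ≠ 0)
    (i2 : Cfsg.classInner ((V : G → ℂ) * (V2 : G → ℂ)) (Y : G → ℂ) ≠ 0)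
    (i3 : Cfsg.classInner ((V : G → ℂ) * (V3 : G → ℂ)) (Y : G → ℂ) ≠ 0) : False := by
  have hη0 : η ≠ trivIrr G := ne_of_degree hη8 (b := 1) rfl (by norm_num)
  obtain ⟨e, r, hX, hrc, hr0, hr1, hru, -⟩ := fibre_aux (u := u) (d := 6) (v := 2) hη hη0
    (by rw [hY.1]; norm_num) hY.2 (Complex.conj_ofNat 2)
  rw [hη8] at hr1
  rw [hηu] at hru
  obtain ⟨k, hk⟩ := isCharacter_apply_one hrc
  have hk' : 8 * e + k = 35 := by
    have : ((8 * e + k : ℕ) : ℂ) = 35 := by push_cast; rw [← hk, hr1]; push_cast; ring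
    exact_mod_cast this
  have he : e ≤ 3 := by
    by_contra hc
    exact not_pos_small h hrc hr0 (n := k) (w := 3) hk (by rw [hru]; norm_num) three_pos (by omega)
  set X : G → ℂ := (Y : G → ℂ) * (conjIrr V : G → ℂ) with hXdef
  have hXc : Cfsg.IsCharacter G X :=
    isCharacter_mul (irr_isCharacter Y) (irr_isCharacter (conjIrr V))
  have j1 := inner_transfer i1
  have j2 := inner_sub_ne h12 (inner_transfer i2)
  have j3 := inner_sub_ne h23 (inner_sub_ne h13 (inner_transfer i3))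
  obtain ⟨k1, hk1, hX1⟩ := norm_sub hXc j1 hX
  obtain ⟨k2, hk2, hX2⟩ := norm_sub (sub_irr hXc j1) j2 hX1
  obtain ⟨k3, hk3, hX3⟩ := norm_sub (sub_irr (sub_irr hXc j1) j2) j3 hX2
  refine not_nine_norm h (sub_irr (sub_irr (sub_irr hXc j1) j2) j3) ?_ ?_ hX3 (by omega)
  · simp [hXdef, conjIrr, hY.1, hV.1, h1.1, h2.1, h3.1, Complex.conj_ofNat]; norm_num
  · simp [hXdef, conjIrr, hY.2, hV.2, h1.2, h2.2, h3.2]; norm_num

/-- The characters of type `Neg`. -/
noncomputable def negs (u : G) : Finset (Cfsg.IrrCharacter G) := by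
  classical exact Finset.univ.filter (Neg u)

/-- The characters of type `Five`. -/
noncomputable def fives (u : G) : Finset (Cfsg.IrrCharacter G) := by
  classical exact Finset.univ.filter (Five u)

/-- The characters of type `Six`. -/
noncomputable def sixes (u : G) : Finset (Cfsg.IrrCharacter G) := by
  classical exact Finset.univ.filter (Six u)

theorem mem_negs {u : G} {χ : Cfsg.IrrCharacter G} : χ ∈ negs u ↔ Neg u χ := by simp [negs]

theorem mem_fives {u : G} {χ : Cfsg.IrrCharacter G} : χ ∈ fives u ↔ Five u χ := by simp [fives]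

theorem mem_sixes {u : G} {χ : Cfsg.IrrCharacter G} : χ ∈ sixes u ↔ Six u χ := by simp [sixes]

open Classical in
/-- The lower bound for a term of the column relation. -/
noncomputable def lb (u : G) (χ : Cfsg.IrrCharacter G) : ℝ :=
  (if χ = trivIrr G then 1 else 0) - (if Neg u χ then 3 else 0) + (if Five u χ then 5 else 0) +
    (if Six u χ then 12 else 0)

theorem lb_sum (u : G) :
    ∑ χ : Cfsg.IrrCharacter G, lb u χ =
      1 - 3 * (negs u).card + 5 * (fives u).card + 12 * (sixes u).card := by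
  classical
  unfold lb negs fives sixes
  rw [Finset.sum_add_distrib, Finset.sum_add_distrib, Finset.sum_sub_distrib,
    Finset.sum_ite_eq' Finset.univ (trivIrr G), if_pos (Finset.mem_univ _),
    ← Finset.sum_filter, ← Finset.sum_filter, ← Finset.sum_filter]
  simp only [Finset.sum_const, nsmul_eq_mul]
  ring

theorem lb_le {u : G} (h : Hyp u) (χ : Cfsg.IrrCharacter G) :
    lb u χ ≤ ((χ : G → ℂ) u * conj ((χ : G → ℂ) 1)).re ∧
      (χ ≠ trivIrr G → ¬ Neg u χ → ¬ Five u χ → ¬ Six u χ →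
        lb u χ = ((χ : G → ℂ) u * conj ((χ : G → ℂ) 1)).re → (χ : G → ℂ) u = 0) := by
  classical
  unfold lb
  by_cases ht : χ = trivIrr G
  · subst ht
    refine ⟨?_, fun hne => absurd rfl hne⟩
    simp [trivIrr, SAD4Base.Neg, Five, Six]
  simp only [if_neg ht, zero_sub]
  rcases cases_val h χ ht with e | e | ⟨d, hd, h1, hu⟩
  · have hn : ¬ Neg u χ := fun hN => by have := hN.2; rw [e] at this; norm_num at this
    have h5 : ¬ Five u χ := fun hN => by have := hN.2; rw [e] at this; norm_num at this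
    have h6 : ¬ Six u χ := fun hN => by have := hN.2; rw [e] at this; norm_num at this
    simp [hn, h5, h6, e]
  · have h5 : ¬ Five u χ := fun hN => by rw [Five, e.1] at hN; norm_num at hN
    have h6 : ¬ Six u χ := fun hN => by rw [Six, e.1] at hN; norm_num at hN
    simp [e, h5, h6, e.1, e.2]
  · have hn : ¬ Neg u χ := fun hN => by
      rw [SAD4Base.Neg, h1] at hN
      have h3 : d = 3 := by exact_mod_cast hN.1
      omega
    have hre : ((χ : G → ℂ) u * conj ((χ : G → ℂ) 1)).re = ((d : ℝ) - 4) * d := by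
      rw [h1, hu, Complex.conj_natCast]
      simp
    rw [hre]
    simp only [if_neg hn, neg_zero, zero_add]
    have h5' : Five u χ ↔ d = 5 := by
      rw [Five, h1, hu]
      constructor
      · rintro ⟨a, -⟩; exact_mod_cast a
      · rintro rfl; norm_num
    have h6' : Six u χ ↔ d = 6 := by
      rw [Six, h1, hu]
      constructor
      · rintro ⟨a, -⟩; exact_mod_cast a
      · rintro rfl; norm_num
    have hd' : (5 : ℝ) ≤ d := by exact_mod_cast hd
    refine ⟨?_, fun _ _ g5 g6 he => ?_⟩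
    · by_cases g5 : d = 5
      · rw [if_pos (h5'.2 g5), if_neg (fun g => by have := h6'.1 g; omega), g5]; norm_num
      · by_cases g6 : d = 6
        · rw [if_neg (fun g => g5 (h5'.1 g)), if_pos (h6'.2 g6), g6]; norm_num
        · rw [if_neg (fun g => g5 (h5'.1 g)), if_neg (fun g => g6 (h6'.1 g))]; nlinarith
    · rw [if_neg g5, if_neg g6] at he
      nlinarith

theorem col_zero {u : G} (h : Hyp u) :
    ∑ χ : Cfsg.IrrCharacter G, ((χ : G → ℂ) u * conj ((χ : G → ℂ) 1)).re = 0 := by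
  classical
  rw [← Complex.re_sum, sum_irr_mul_conj u 1, if_neg (fun e => h.1 (isConj_one_left.1 e)),
    Complex.zero_re]

/-- The budget. -/
theorem budget {u : G} (h : Hyp u) :
    5 * (fives u).card + 12 * (sixes u).card + 1 ≤ 3 * (negs u).card ∧
    (5 * (fives u).card + 12 * (sixes u).card + 1 = 3 * (negs u).card →
      ∀ χ : Cfsg.IrrCharacter G, χ ≠ trivIrr G → ¬ Neg u χ → ¬ Five u χ → ¬ Six u χ →
        (χ : G → ℂ) u = 0) := by
  have hs := lb_sum u
  have hle := Finset.sum_le_sum (s := Finset.univ) fun χ _ => (lb_le h χ).1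
  rw [hs, col_zero h] at hle
  refine ⟨?_, fun heq χ a b c d => (lb_le h χ).2 a b c d ?_⟩
  · have : ((5 * (fives u).card + 12 * (sixes u).card + 1 : ℕ) : ℝ) ≤
        ((3 * (negs u).card : ℕ) : ℝ) := by push_cast; linarith
    exact_mod_cast this
  · refine (Finset.sum_eq_sum_iff_of_le fun χ _ => (lb_le h χ).1).1 ?_ χ (Finset.mem_univ χ)
    rw [hs, col_zero h]
    have : ((5 * (fives u).card + 12 * (sixes u).card + 1 : ℕ) : ℝ) =
        ((3 * (negs u).card : ℕ) : ℝ) := by rw [heq]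
    push_cast at this
    linarith

/-- All characters of type `Neg` are real. -/
theorem all_real {u : G} (h : Hyp u) {V : Cfsg.IrrCharacter G} (hV : Neg u V) :
    conjIrr V = V := by
  classical
  by_contra hnr
  obtain ⟨W, η, hW, hη8, hηu, -, hη⟩ := nonreal_decomp h hV hnr
  let R : Cfsg.IrrCharacter G → Cfsg.IrrCharacter G → Prop := fun Y V' =>
    Cfsg.classInner ((V : G → ℂ) * (V' : G → ℂ)) (Y : G → ℂ) ≠ 0
  have hsub : (negs u).erase (conjIrr V) ⊆
      (fives u).biUnion (fun Y => (negs u).filter (R Y)) ∪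
        (sixes u).biUnion (fun Y => (negs u).filter (R Y)) := by
    intro V' hV'
    obtain ⟨hne, hN⟩ := Finset.mem_erase.1 hV'
    have hN' := mem_negs.1 hN
    have h0 : V ≠ conjIrr V' := fun e => hne (by
      rw [e]; exact Subtype.ext (funext fun g => by simp [conjIrr]))
    obtain ⟨Y, hY, hi⟩ := nine_one h
      (isCharacter_mul (irr_isCharacter V) (irr_isCharacter V')) (noTriv_mul h0)
      (by simp [hV.1, hN'.1]; norm_num) (by simp [hV.2, hN'.2])
    rcases hY with hY | hY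
    · exact Finset.mem_union_left _ (Finset.mem_biUnion.2
        ⟨Y, mem_fives.2 hY, Finset.mem_filter.2 ⟨hN, hi⟩⟩)
    · exact Finset.mem_union_right _ (Finset.mem_biUnion.2
        ⟨Y, mem_sixes.2 hY, Finset.mem_filter.2 ⟨hN, hi⟩⟩)
  have h5 : ((fives u).biUnion fun Y => (negs u).filter (R Y)).card ≤ (fives u).card * 1 := by
    refine Finset.card_biUnion_le_card_mul _ _ _ fun Y hY => Finset.card_le_one.2 ?_
    intro a ha b hb
    by_contra hab
    obtain ⟨ha1, ha2⟩ := Finset.mem_filter.1 ha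
    obtain ⟨hb1, hb2⟩ := Finset.mem_filter.1 hb
    exact fibre_five h hV hη8 hηu hη (mem_fives.1 hY) (mem_negs.1 ha1) (mem_negs.1 hb1) hab ha2 hb2
  have h6 : ((sixes u).biUnion fun Y => (negs u).filter (R Y)).card ≤ (sixes u).card * 2 := by
    refine Finset.card_biUnion_le_card_mul _ _ _ fun Y hY => ?_
    by_contra hc
    obtain ⟨a, ha, b, hb, c, hc', hab, hac, hbc⟩ := Finset.two_lt_card.1 (not_le.1 hc)
    obtain ⟨ha1, ha2⟩ := Finset.mem_filter.1 ha
    obtain ⟨hb1, hb2⟩ := Finset.mem_filter.1 hb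
    obtain ⟨hc1, hc2⟩ := Finset.mem_filter.1 hc'
    exact fibre_six h hV hη8 hηu hη (mem_sixes.1 hY) (mem_negs.1 ha1) (mem_negs.1 hb1)
      (mem_negs.1 hc1) hab hac hbc ha2 hb2 hc2
  have h7 := (Finset.card_le_card hsub).trans (Finset.card_union_le _ _)
  have h8 := Finset.card_erase_add_one (mem_negs.2 (neg_conjIrr hV))
  have hW6 : 1 ≤ (sixes u).card := Finset.card_pos.2 ⟨W, mem_sixes.2 hW⟩
  have := (budget h).1
  omega

theorem conj_eq {u : G} (h : Hyp u) {V : Cfsg.IrrCharacter G} (hV : Neg u V) (g : G) :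
    conj ((V : G → ℂ) g) = (V : G → ℂ) g := by
  rw [← conjIrr_apply, all_real h hV]

/-- The square of a real character of type `Neg`. -/
theorem real_decomp {u : G} (h : Hyp u) {V : Cfsg.IrrCharacter G} (hV : Neg u V) :
    ∃ Z : Cfsg.IrrCharacter G, Five u Z ∧
      (V : G → ℂ) * (V : G → ℂ) = (trivIrr G : G → ℂ) + (V : G → ℂ) + (Z : G → ℂ) := by
  have hVV : Cfsg.IsCharacter G ((V : G → ℂ) * (V : G → ℂ)) :=
    isCharacter_mul (irr_isCharacter V) (irr_isCharacter V)
  have ht : Cfsg.classInner ((V : G → ℂ) * (V : G → ℂ)) (trivIrr G : G → ℂ) = 1 := by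
    rw [inner_mul_triv, all_real h hV, classInner_irr_self V.2]
  have hc : Cfsg.classInner ((V : G → ℂ) * (V : G → ℂ)) (V : G → ℂ) ≠ 0 := by
    have := (SAD4Cube.main (perfect h) V hV.1).2.2
    have e : (fun g => conj ((V : G → ℂ) g)) = (V : G → ℂ) := funext (conj_eq h hV)
    rwa [e] at this
  have j1 : Cfsg.classInner ((V : G → ℂ) * (V : G → ℂ)) (trivIrr G : G → ℂ) ≠ 0 := by
    rw [ht]; exact one_ne_zero
  have hne := (neg_ne_triv hV).symm
  have j2 := inner_sub_ne hne hc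
  have h0 : NoTriv ((V : G → ℂ) * (V : G → ℂ) - (trivIrr G : G → ℂ) - (V : G → ℂ)) := by
    rw [NoTriv, classInner_sub_left, classInner_sub_left, ht,
      classInner_irr_self (trivIrr G).2, inner_irr_ne hne.symm]
    norm_num
  obtain ⟨Z, hZ⟩ := irr_five_six h (sub_irr (sub_irr hVV j1) j2) h0 (n := 5)
    (by simp [hV.1, trivIrr]; norm_num) (Or.inl rfl) (by simp [hV.2, trivIrr]; norm_num)
  refine ⟨Z, ?_, by rw [← hZ]; abel⟩
  rw [Five, ← hZ]
  simp [hV.1, hV.2, trivIrr]
  norm_num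

theorem two_le_card {u : G} (h : Hyp u) : 2 ≤ (negs u).card := by
  have h0 := (budget h).1
  obtain ⟨V, hV⟩ := Finset.card_pos.1 (show 0 < (negs u).card by omega)
  obtain ⟨Z, hZ, -⟩ := real_decomp h (mem_negs.1 hV)
  have : 0 < (fives u).card := Finset.card_pos.2 ⟨Z, mem_fives.2 hZ⟩
  omega

/-- Two such characters agree or sum to one, pointwise. -/
theorem pair {u : G} (h : Hyp u) {V V' : Cfsg.IrrCharacter G} (hV : Neg u V) (hV' : Neg u V')
    (g : G) : (V : G → ℂ) g = (V' : G → ℂ) g ∨ (V : G → ℂ) g + (V' : G → ℂ) g = 1 := by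
  by_cases hne : V = V'
  · exact Or.inl (by rw [hne])
  obtain ⟨Z, hZ, hVV⟩ := real_decomp h hV
  obtain ⟨Z', hZ', hVV'⟩ := real_decomp h hV'
  have hZZ : Z = Z' := by
    by_contra hzz
    have h0 : NoTriv ((V : G → ℂ) * (V' : G → ℂ)) :=
      noTriv_mul (by rw [all_real h hV']; exact hne)
    have hc := isCharacter_mul (irr_isCharacter V) (irr_isCharacter V')
    obtain ⟨k, hk⟩ := classInner_isCharacter hc hc
    have e : Cfsg.classInner ((V : G → ℂ) * (V' : G → ℂ)) ((V : G → ℂ) * (V' : G → ℂ)) =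
        Cfsg.classInner ((V : G → ℂ) * (V : G → ℂ)) ((V' : G → ℂ) * (V' : G → ℂ)) := by
      unfold Cfsg.classInner
      congr 1
      refine Finset.sum_congr rfl fun g _ => ?_
      simp only [Pi.mul_apply, map_mul, conj_eq h hV, conj_eq h hV']
      ring
    have hk1 : (k : ℂ) = 1 := by
      rw [← hk, e, hVV, hVV']
      simp only [classInner_add_left, classInner_add_right]
      rw [classInner_irr_self (trivIrr G).2,
        inner_irr_ne (neg_ne_triv hV), inner_irr_ne hne, inner_irr_ne hzz,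
        inner_irr_ne (neg_ne_triv hV').symm,
        inner_irr_ne (ne_of_degree (a := 5) (b := 3) hZ.1 hV'.1 (by norm_num)),
        inner_irr_ne (ne_of_degree (a := 3) (b := 5) hV.1 hZ'.1 (by norm_num)),
        inner_irr_ne (ne_of_degree (a := 5) (b := 1) hZ.1 (ψ := trivIrr G) rfl (by norm_num)),
        inner_irr_ne (ne_of_degree (a := 1) (b := 5) (χ := trivIrr G) rfl hZ'.1 (by norm_num))]
      norm_num
    exact not_nine_norm h hc (by simp [hV.1, hV'.1]; norm_num) (by simp [hV.2, hV'.2]) hk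
      (by rw [Nat.cast_eq_one] at hk1; omega)
  subst hZZ
  have e1 := congrFun hVV g
  have e2 := congrFun hVV' g
  simp only [Pi.mul_apply, Pi.add_apply] at e1 e2
  have e3 : ((V : G → ℂ) g - (V' : G → ℂ) g) * ((V : G → ℂ) g + (V' : G → ℂ) g - 1) = 0 := by
    linear_combination e1 - e2
  rcases mul_eq_zero.1 e3 with e4 | e4
  · exact Or.inl (sub_eq_zero.1 e4)
  · exact Or.inr (sub_eq_zero.1 e4)

theorem sq_apply {u : G} (h : Hyp u) {V : Cfsg.IrrCharacter G} (hV : Neg u V) (g : G) :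
    (V : G → ℂ) (g ^ 2) = (V : G → ℂ) g ^ 2 - 2 * (V : G → ℂ) g := by
  rw [(SAD4Cube.main (perfect h) V hV.1).1 g, conj_eq h hV]

/-- Where two such characters differ. -/
theorem differ {u : G} (h : Hyp u) {V V' : Cfsg.IrrCharacter G} (hV : Neg u V) (hV' : Neg u V')
    {g : G} (hne : (V : G → ℂ) g ≠ (V' : G → ℂ) g) :
    (V : G → ℂ) g ^ 2 = (V : G → ℂ) g + 1 ∧ (V' : G → ℂ) g = 1 - (V : G → ℂ) g ∧
      (V : G → ℂ) (g ^ 2) = 1 - (V : G → ℂ) g ∧ (V : G → ℂ) (g ^ 5) = 3 := by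
  have hs : (V : G → ℂ) g + (V' : G → ℂ) g = 1 := (pair h hV hV' g).resolve_left hne
  have h2 := sq_apply h hV g
  have hsq : (V : G → ℂ) g ^ 2 = (V : G → ℂ) g + 1 := by
    have h2' := sq_apply h hV' g
    rcases pair h hV hV' (g ^ 2) with e | e
    · exfalso
      have e3 : ((V : G → ℂ) g - (V' : G → ℂ) g) * ((V : G → ℂ) g + (V' : G → ℂ) g - 2) = 0 := by
        linear_combination e - h2 + h2'
      rcases mul_eq_zero.1 e3 with e4 | e4
      · exact hne (sub_eq_zero.1 e4)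
      · rw [hs] at e4; norm_num at e4
    · have hb : (V' : G → ℂ) g = 1 - (V : G → ℂ) g := by linear_combination hs
      rw [hb] at h2'
      linear_combination (1 / 2 : ℂ) * e - (1 / 2 : ℂ) * h2 - (1 / 2 : ℂ) * h2'
  refine ⟨hsq, by linear_combination hs, by linear_combination h2 + hsq, ?_⟩
  have hrec := (SAD4Cube.main (perfect h) V hV.1).2.1 g
  have r0 := hrec 0
  have r1 := hrec 1
  have r2 := hrec 2
  simp only [conj_eq h hV, zero_add, pow_zero, hV.1, pow_one, Nat.reduceAdd] at r0 r1 r2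
  set a := (V : G → ℂ) g with ha
  have p2 : (V : G → ℂ) (g ^ 2) = 1 - a := by linear_combination h2 + hsq
  rw [p2] at r0 r1 r2
  have p3 : (V : G → ℂ) (g ^ 3) = 1 - a := by linear_combination r0 - 2 * hsq
  rw [p3] at r1 r2
  have p4 : (V : G → ℂ) (g ^ 4) = a := by linear_combination r1
  rw [p4] at r2
  linear_combination r2 + 2 * hsq

theorem same_kernel {u : G} (h : Hyp u) {V V' : Cfsg.IrrCharacter G} (hV : Neg u V)
    (hV' : Neg u V') {g : G} (hg : (V : G → ℂ) g = 3) : (V' : G → ℂ) g = 3 := by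
  by_contra hne
  have := (differ h hV hV' (g := g) (by rw [hg]; exact Ne.symm hne)).1
  rw [hg] at this
  norm_num at this

/-- At most two such characters, when they are faithful. -/
theorem card_le_two {u : G} (h : Hyp u)
    (hf : ∀ V : Cfsg.IrrCharacter G, Neg u V → ∀ g, (V : G → ℂ) g = 3 → g = 1) :
    (negs u).card ≤ 2 := by
  classical
  by_contra hc
  obtain ⟨A, hA, B, hB, C, hC, hAB, hAC, hBC⟩ := Finset.two_lt_card.1 (not_le.1 hc)
  rw [mem_negs] at hA hB hC
  let r : Cfsg.IrrCharacter G → G → ℝ := fun V g => ((V : G → ℂ) g).re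
  have hre : ∀ {V : Cfsg.IrrCharacter G}, Neg u V → ∀ g, ((r V g : ℂ)) = (V : G → ℂ) g :=
    fun {V} hV g => Complex.conj_eq_iff_re.1 (conj_eq h hV g)
  have horth : ∀ {V V' : Cfsg.IrrCharacter G}, Neg u V → Neg u V' →
      ∑ g, r V g * r V' g = if V = V' then (Nat.card G : ℝ) else 0 := by
    intro V V' hV hV'
    have e := card_mul_classInner (V : G → ℂ) (V' : G → ℂ)
    have e' : (∑ g, r V g * r V' g : ℝ) = (∑ g, (V : G → ℂ) g * conj ((V' : G → ℂ) g) : ℂ) := by
      push_cast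
      exact Finset.sum_congr rfl fun g _ => by rw [hre hV, hre hV', conj_eq h hV']
    rw [← e] at e'
    by_cases hVV : V = V'
    · subst hVV
      rw [if_pos rfl]
      rw [classInner_irr_self V.2, mul_one] at e'
      exact_mod_cast e'
    · rw [if_neg hVV]
      rw [inner_irr_ne hVV, mul_zero] at e'
      exact_mod_cast e'
  have hmean : ∀ {V : Cfsg.IrrCharacter G}, Neg u V → ∑ g, r V g = 0 := by
    intro V hV
    have e := card_mul_classInner (V : G → ℂ) (trivIrr G : G → ℂ)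
    rw [inner_irr_ne (neg_ne_triv hV), mul_zero] at e
    have := congrArg Complex.re e
    simp [trivIrr, Complex.re_sum] at this
    exact this.symm
  let F : Finset G := Finset.univ.filter fun g =>
    ¬ ((A : G → ℂ) g = (B : G → ℂ) g ∧ (B : G → ℂ) g = (C : G → ℂ) g)
  let T : G → ℝ := fun g => r A g + r B g + r C g
  let Q : G → ℝ := fun g => r A g ^ 2 + r B g ^ 2 + r C g ^ 2
  have hF : ∀ g ∈ F, Q g = T g + 3 ∧ 3 * Q g - T g ^ 2 = 10 ∧ T (g ^ 2) = 3 - T g ∧
      g ^ 5 = 1 ∧ g ^ 2 ∈ F := by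
    intro g hg
    obtain ⟨V, V', hV, hV', hne⟩ : ∃ V V', Neg u V ∧ Neg u V' ∧
        (V : G → ℂ) g ≠ (V' : G → ℂ) g := by
      by_cases hab : (A : G → ℂ) g = (B : G → ℂ) g
      · exact ⟨B, C, hB, hC, fun e => (Finset.mem_filter.1 hg).2 ⟨hab, e⟩⟩
      · exact ⟨A, B, hA, hB, hab⟩
    obtain ⟨hsq, hb, -, h5⟩ := differ h hV hV' hne
    have hall : ∀ {W : Cfsg.IrrCharacter G}, Neg u W →
        ((W : G → ℂ) g = (V : G → ℂ) g ∨ (W : G → ℂ) g = 1 - (V : G → ℂ) g) ∧
        (W : G → ℂ) g ^ 2 = (W : G → ℂ) g + 1 ∧ (W : G → ℂ) (g ^ 2) = 1 - (W : G → ℂ) g := by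
      intro W hW
      have h1 : (W : G → ℂ) g = (V : G → ℂ) g ∨ (W : G → ℂ) g = 1 - (V : G → ℂ) g := by
        rcases pair h hW hV g with e | e
        · exact Or.inl e
        · exact Or.inr (by linear_combination e)
      have h2 : (W : G → ℂ) g ^ 2 = (W : G → ℂ) g + 1 := by
        rcases h1 with e | e <;> rw [e] <;> linear_combination hsq
      exact ⟨h1, h2, by rw [sq_apply h hW]; linear_combination h2⟩
    obtain ⟨cA, sA, tA⟩ := hall hA
    obtain ⟨cB, sB, tB⟩ := hall hB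
    obtain ⟨cC, sC, tC⟩ := hall hC
    have hnot := (Finset.mem_filter.1 hg).2
    refine ⟨?_, ?_, ?_, hf V hV _ h5, ?_⟩
    · apply Complex.ofReal_injective
      simp only [T, Q]; push_cast; rw [hre hA, hre hB, hre hC]
      linear_combination sA + sB + sC
    · apply Complex.ofReal_injective
      simp only [T, Q]; push_cast; rw [hre hA, hre hB, hre hC]
      rcases cA with eA | eA <;> rcases cB with eB | eB <;> rcases cC with eC | eC <;>
        first
          | (rw [eA, eB, eC]; linear_combination 8 * hsq)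
          | exact absurd ⟨eA.trans eB.symm, eB.trans eC.symm⟩ hnot
    · apply Complex.ofReal_injective
      simp only [T]; push_cast; simp only [hre hA, hre hB, hre hC]
      linear_combination tA + tB + tC
    · refine Finset.mem_filter.2 ⟨Finset.mem_univ _, fun e => hnot ?_⟩
      rw [tA, tB, tC] at e
      exact ⟨sub_right_injective e.1, sub_right_injective e.2⟩
  have hbij : ∑ g ∈ F, T (g ^ 2) = ∑ g ∈ F, T g := by
    refine Finset.sum_bij (fun g _ => g ^ 2) (fun g hg => (hF g hg).2.2.2.2)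
      (fun a ha b hb e => ?_) ?_ (fun _ _ => rfl)
    · calc a = (a ^ 2) ^ 3 := by rw [← pow_mul, pow_succ, (hF a ha).2.2.2.1, one_mul]
        _ = (b ^ 2) ^ 3 := by rw [e]
        _ = b := by rw [← pow_mul, pow_succ, (hF b hb).2.2.2.1, one_mul]
    · intro b hb
      obtain ⟨hb5, hb2⟩ := (hF b hb).2.2.2
      obtain ⟨-, hb4⟩ := (hF _ hb2).2.2.2
      obtain ⟨-, hb8⟩ := (hF _ hb4).2.2.2
      refine ⟨((b ^ 2) ^ 2) ^ 2, hb8, ?_⟩
      calc (((b ^ 2) ^ 2) ^ 2) ^ 2 = (b ^ 5) ^ 3 * b := by group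
        _ = b := by rw [hb5, one_pow, one_mul]
  have hTF : ∑ g ∈ F, T g = 3 * F.card / 2 := by
    rw [Finset.sum_congr rfl fun g hg => (hF g hg).2.2.1, Finset.sum_sub_distrib,
      Finset.sum_const, nsmul_eq_mul] at hbij
    linarith
  have hQF : ∑ g ∈ F, Q g = ∑ g ∈ F, T g + 3 * F.card := by
    rw [Finset.sum_congr rfl fun g hg => (hF g hg).1, Finset.sum_add_distrib,
      Finset.sum_const, nsmul_eq_mul]
    ring
  have hDF : (∑ g ∈ F, (3 * Q g - T g ^ 2) : ℝ) = 10 * (F.card : ℝ) := by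
    rw [Finset.sum_congr rfl fun g hg => (hF g hg).2.1, Finset.sum_const, nsmul_eq_mul]
    ring
  have hout : ∀ g ∈ Fᶜ, T g = 3 * r A g ∧ Q g = 3 * r A g ^ 2 ∧ 3 * Q g - T g ^ 2 = 0 := by
    intro g hg
    have : (A : G → ℂ) g = (B : G → ℂ) g ∧ (B : G → ℂ) g = (C : G → ℂ) g := by
      by_contra hh
      exact Finset.mem_compl.1 hg (Finset.mem_filter.2 ⟨Finset.mem_univ g, hh⟩)
    simp only [T, Q, r, ← this.2, ← this.1]
    refine ⟨?_, ?_, ?_⟩ <;> ring
  have hT : ∑ g, T g = 0 := by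
    simp only [T, Finset.sum_add_distrib, hmean hA, hmean hB, hmean hC, add_zero]
  have hQ : ∑ g, Q g = 3 * Nat.card G := by
    simp only [Q, Finset.sum_add_distrib, pow_two, horth hA hA, horth hB hB, horth hC hC, if_true]
    ring
  have hD : (∑ g, (3 * Q g - T g ^ 2) : ℝ) = 6 * (Nat.card G : ℝ) := by
    have e : ∀ g, 3 * Q g - T g ^ 2 = 2 * (r A g * r A g + r B g * r B g + r C g * r C g
        - r A g * r B g - r A g * r C g - r B g * r C g) := fun g => by simp only [T, Q]; ring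
    rw [Finset.sum_congr rfl fun g _ => e g]
    simp only [← Finset.mul_sum, Finset.sum_sub_distrib, Finset.sum_add_distrib,
      horth hA hA, horth hB hB, horth hC hC, horth hA hB, horth hA hC, horth hB hC, if_true,
      if_neg hAB, if_neg hAC, if_neg hBC]
    ring
  rw [← Finset.sum_add_sum_compl F, hDF, Finset.sum_eq_zero fun g hg => (hout g hg).2.2] at hD
  rw [← Finset.sum_add_sum_compl F, Finset.sum_congr rfl fun g hg => (hout g hg).1,
    ← Finset.mul_sum, hTF] at hT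
  rw [← Finset.sum_add_sum_compl F, Finset.sum_congr rfl fun g hg => (hout g hg).2.1,
    ← Finset.mul_sum, hQF, hTF] at hQ
  have hm : (Fᶜ.card : ℝ) = Nat.card G - F.card := by
    rw [Nat.card_eq_fintype_card, eq_sub_iff_add_eq, ← Nat.cast_add, Finset.card_compl_add_card]
  have hcs := sq_sum_le_card_mul_sum_sq (s := Fᶜ) (f := fun g => r A g)
  rw [hm] at hcs
  have hN : (0 : ℝ) < Nat.card G := Nat.cast_pos.2 Nat.card_pos
  have e1 : (∑ g ∈ Fᶜ, r A g) = -(3 / 10) * Nat.card G := by linarith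
  have e2 : (∑ g ∈ Fᶜ, r A g ^ 2) = (1 / 10) * Nat.card G := by linarith
  have e3 : (F.card : ℝ) = (3 / 5) * Nat.card G := by linarith
  rw [e1, e2, e3] at hcs
  nlinarith

/-- The profile of the values at `u` when there are at most two characters of type `Neg`. -/
theorem profile {u : G} (h : Hyp u) (hn : (negs u).card ≤ 2) :
    ∃ V V' Z : Cfsg.IrrCharacter G, V ≠ V' ∧ Neg u V ∧ Neg u V' ∧ Five u Z ∧
      ∀ (F : Cfsg.IrrCharacter G → ℂ), (∀ χ : Cfsg.IrrCharacter G, (χ : G → ℂ) u = 0 → F χ = 0) →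
        ∑ χ, F χ = F (trivIrr G) + F V + F V' + F Z := by
  classical
  have h2 : (negs u).card = 2 := le_antisymm hn (two_le_card h)
  obtain ⟨V, V', hne, hS⟩ := Finset.card_eq_two.1 h2
  have hV : Neg u V := mem_negs.1 (by rw [hS]; simp)
  have hV' : Neg u V' := mem_negs.1 (by rw [hS]; simp)
  obtain ⟨Z, hZ, -⟩ := real_decomp h hV
  have h5 : 0 < (fives u).card := Finset.card_pos.2 ⟨Z, mem_fives.2 hZ⟩
  have hb := (budget h).1
  have h50 : (fives u).card = 1 := by omega
  have h60 : (sixes u).card = 0 := by omega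
  have hz := (budget h).2 (by omega)
  obtain ⟨Z', hZ'⟩ := Finset.card_eq_one.1 h50
  have hZZ : Z = Z' := Finset.mem_singleton.1 (hZ' ▸ mem_fives.2 hZ)
  subst hZZ
  refine ⟨V, V', Z, hne, hV, hV', hZ, fun F hF => ?_⟩
  have ht : trivIrr G ∉ ({V, V', Z} : Finset (Cfsg.IrrCharacter G)) := by
    simp only [Finset.mem_insert, Finset.mem_singleton, not_or]
    exact ⟨(neg_ne_triv hV).symm, (neg_ne_triv hV').symm,
      ne_of_degree (a := 1) (b := 5) (χ := trivIrr G) rfl hZ.1 (by norm_num)⟩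
  rw [← Finset.sum_subset (Finset.subset_univ (insert (trivIrr G) ({V, V', Z} : Finset _)))]
  · rw [Finset.sum_insert ht, Finset.sum_insert, Finset.sum_pair]
    · ring
    · exact ne_of_degree (a := 3) (b := 5) hV'.1 hZ.1 (by norm_num)
    · simp only [Finset.mem_insert, Finset.mem_singleton, not_or]
      exact ⟨hne, ne_of_degree (a := 3) (b := 5) hV.1 hZ.1 (by norm_num)⟩
  · intro χ _ hχ
    simp only [Finset.mem_insert, Finset.mem_singleton, not_or] at hχ
    refine hF χ (hz χ hχ.1 (fun hN => ?_) (fun hN => ?_) (fun hN => ?_))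
    · have := mem_negs.2 hN
      rw [hS, Finset.mem_insert, Finset.mem_singleton] at this
      tauto
    · have := mem_fives.2 hN
      rw [hZ', Finset.mem_singleton] at this
      exact hχ.2.2.2 this
    · exact absurd (mem_sixes.2 hN) (by rw [Finset.card_eq_zero.1 h60]; exact Finset.notMem_empty _)

theorem card_centralizer {u : G} (h : Hyp u) (hn : (negs u).card ≤ 2) :
    Nat.card (Subgroup.centralizer ({u} : Set G)) = 4 := by
  classical
  obtain ⟨V, V', Z, -, hV, hV', hZ, hsum⟩ := profile h hn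
  have e := sum_irr_mul_conj u u
  rw [if_pos (IsConj.refl u), hsum _ (fun χ hχ => by rw [hχ, zero_mul])] at e
  simp [trivIrr, hV.2, hV'.2, hZ.2] at e
  norm_num at e
  rw [Nat.card_eq_fintype_card]
  exact_mod_cast e.symm

end Cfsg.Agent.SAD4Char
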