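import Mathlib
import Cfsg.Prelude.Def_Blocks
import Cfsg.Agent.Lib.SAD4Char
import Cfsg.Agent.S3378

/-!
The quotient by the kernel of a character of type `Neg` (helper83): a simple group of order `60`.
-/

set_option autoImplicit false

namespace Cfsg.Agent.SAD4Quot

open scoped ComplexConjugate
open Cfsg.Agent.CharBasic Cfsg.Agent.CharBasicOrth Cfsg.Agent.CharBasicDecomp
open Cfsg.Agent.CharAverage Cfsg.Agent.SAD4Base Cfsg.Agent.SAD4Char Cfsg.Agent.CharKernel

universe w

variable {G : Type w} [Group G] [Fintype G]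

/-- The faithful case. -/
theorem faithful {t : G} (h : Hyp t)
    (hf : ∀ V : Cfsg.IrrCharacter G, SAD4Base.Neg t V → ∀ g, (V : G → ℂ) g = 3 → g = 1) :
    Nat.card G = 60 ∧ t ^ 2 = 1 ∧ Nat.card (Subgroup.centralizer ({t} : Set G)) = 4 ∧
      (∀ x : G, x ≠ 1 → x ^ 2 = 1 → IsConj t x) ∧
      ∀ y ∈ Subgroup.centralizer ({t} : Set G), y ^ 2 = 1 := by
  classical
  have hn := card_le_two h hf
  obtain ⟨V, V', Z, -, hV, hV', hZ, hsum⟩ := profile h hn
  have hC := card_centralizer h hn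
  have ht2 : t ^ 2 = 1 := hf V hV _ (by rw [sq_apply h hV, hV.2]; norm_num)
  set A : Finset G := Finset.univ.filter fun a => IsConj t (a * t * a⁻¹ * t) with hA
  have hcount : (15 * A.card : ℕ) = 2 * Nat.card G := by
    have h1 : ∑ χ : Cfsg.IrrCharacter G, conj ((χ : G → ℂ) t) *
        ∑ a : G, (χ : G → ℂ) (a * t * a⁻¹ * t) = 4 * (A.card : ℂ) := by
      simp only [Finset.mul_sum]
      rw [Finset.sum_comm, Finset.card_filter, Nat.cast_sum, Finset.mul_sum]
      refine Finset.sum_congr rfl fun a _ => ?_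
      rw [Finset.sum_congr rfl fun χ _ => mul_comm _ _, sum_irr_mul_conj]
      by_cases hc : IsConj t (a * t * a⁻¹ * t)
      · rw [if_pos hc, if_pos hc.symm, Nat.cast_one, mul_one]
        have hc4 : Nat.card (Subgroup.centralizer ({a * t * a⁻¹ * t} : Set G)) = 4 := by
          have h1 := card_conj_mul_card_centralizer (a * t * a⁻¹ * t)
          have h2 := card_conj_mul_card_centralizer t
          rw [hC] at h2
          have h3 : Nat.card {x : G // IsConj (a * t * a⁻¹ * t) x} = Nat.card {x : G // IsConj t x} :=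
            Nat.card_congr (Equiv.subtypeEquivRight fun x =>
              ⟨fun e => hc.trans e, fun e => hc.symm.trans e⟩)
          rw [h3, ← h2] at h1
          have : Nonempty {x : G // IsConj t x} := ⟨⟨t, IsConj.refl t⟩⟩
          exact Nat.eq_of_mul_eq_mul_left Nat.card_pos h1
        rw [hc4, Nat.cast_ofNat]
      · rw [if_neg hc, if_neg fun e => hc e.symm, Nat.cast_zero, mul_zero]
    rw [Finset.sum_congr rfl fun χ _ => by rw [sum_conj_mul χ t t],
      hsum _ (fun χ hχ => by rw [hχ]; simp)] at h1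
    simp [trivIrr, hV.1, hV.2, hV'.1, hV'.2, hZ.1, hZ.2] at h1
    have h2 : ((15 * A.card : ℕ) : ℂ) = ((2 * Nat.card G : ℕ) : ℂ) := by
      rw [Nat.card_eq_fintype_card]
      push_cast
      linear_combination (-15 / 4 : ℂ) * h1
    exact_mod_cast h2
  let C : Subgroup G := Subgroup.centralizer ({t} : Set G)
  have hsC : ∀ a ∈ A, a * t * a⁻¹ ∈ C ∧ a * t * a⁻¹ ≠ 1 ∧ a * t * a⁻¹ ≠ t := by
    intro a ha
    obtain ⟨c, hc⟩ := isConj_iff.1 (Finset.mem_filter.1 ha).2
    have hs2 : (a * t * a⁻¹) ^ 2 = 1 := by rw [conj_pow, ht2, mul_one, mul_inv_cancel]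
    have hne1 : t ≠ 1 := h.1
    have hst : (a * t * a⁻¹ * t) ^ 2 = 1 := by
      rw [← hc, conj_pow, ht2, mul_one, mul_inv_cancel]
    refine ⟨Subgroup.mem_centralizer_singleton_iff.2 ?_, fun e => hne1 (by simpa using e),
      fun e => ?_⟩
    · rw [pow_two, mul_eq_one_iff_eq_inv] at hs2 hst ht2
      rw [mul_inv_rev, ← hs2, ← ht2] at hst
      exact hst
    · apply hne1
      rw [e, ← pow_two, ht2] at hc
      simpa using hc
  let Cf : Finset G := Finset.univ.filter fun x => x ∈ C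
  have htC : t ∈ C := Subgroup.mem_centralizer_singleton_iff.2 rfl
  have hCf : Cf.card = 4 := by
    rw [← hC, Nat.card_eq_fintype_card]
    exact (Fintype.card_subtype _).symm
  set R := (Cf.erase 1).erase t with hR
  have hR2 : R.card = 2 := by
    rw [hR, Finset.card_erase_of_mem, Finset.card_erase_of_mem, hCf]
    · simp [Cf]
    · simp [Cf, htC, h.1]
  have hfib : ∀ s ∈ R, (A.filter fun a => a * t * a⁻¹ = s).card ≤ 4 := by
    intro s _
    rcases (A.filter fun a => a * t * a⁻¹ = s).eq_empty_or_nonempty with he | ⟨a0, ha0⟩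
    · simp [he]
    rw [← hCf]
    refine Finset.card_le_card_of_injOn (fun a => a0⁻¹ * a) (fun a ha => ?_)
      (fun a _ b _ e => mul_left_cancel e)
    have e1 := (Finset.mem_filter.1 ha0).2
    have e2 := (Finset.mem_filter.1 ha).2
    refine Finset.mem_filter.2 ⟨Finset.mem_univ _, Subgroup.mem_centralizer_singleton_iff.2 ?_⟩
    calc a0⁻¹ * a * t = a0⁻¹ * (a * t * a⁻¹) * a := by group
      _ = a0⁻¹ * (a0 * t * a0⁻¹) * a := by rw [e2, e1]
      _ = t * (a0⁻¹ * a) := by group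
  have hAsum : A.card = ∑ s ∈ R, (A.filter fun a => a * t * a⁻¹ = s).card :=
    Finset.card_eq_sum_card_fiberwise fun a ha => by
      obtain ⟨h1, h2, h3⟩ := hsC a ha
      simp [hR, Cf, h1, h2, h3]
  have hA8 : A.card ≤ 8 := by
    rw [hAsum]
    refine (Finset.sum_le_sum hfib).trans ?_
    rw [Finset.sum_const, hR2, smul_eq_mul]
  have h4 : 4 ∣ Nat.card G := hC ▸ Subgroup.card_subgroup_dvd_card _
  have h60 : Nat.card G = 60 := by
    have := Nat.card_pos (α := G)
    omega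
  have hA8' : A.card = 8 := by omega
  have hCt : ∀ y ∈ C, y ≠ 1 → IsConj t y := by
    intro y hy hy1
    by_cases hyt : y = t
    · rw [hyt]
    have hyR : y ∈ R := by simp [hR, Cf, hy, hy1, hyt]
    by_contra hnc
    have hlt : ∑ s ∈ R, (A.filter fun a => a * t * a⁻¹ = s).card < ∑ s ∈ R, 4 := by
      refine Finset.sum_lt_sum hfib ⟨y, hyR, ?_⟩
      rw [Finset.filter_eq_empty_iff.2 fun a _ e => hnc (isConj_iff.2 ⟨a, e⟩), Finset.card_empty]
      norm_num
    rw [← hAsum, Finset.sum_const, hR2, hA8'] at hlt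
    exact absurd hlt (by norm_num)
  refine ⟨h60, ht2, hC, fun x hx hx2 => ?_, fun y hy => ?_⟩
  rotate_left
  · by_cases hy1 : y = 1
    · rw [hy1, one_pow]
    · obtain ⟨c, hc⟩ := isConj_iff.1 (hCt y hy hy1)
      rw [← hc, conj_pow, ht2, mul_one, mul_inv_cancel]
  have : Fact (Nat.Prime 2) := ⟨Nat.prime_two⟩
  have hfac : (Nat.card G).factorization 2 = 2 := by
    rw [h60]; decide +kernel
  let S : Sylow 2 G := Sylow.ofCard C (by rw [hfac]; exact hC)
  have hp : IsPGroup 2 (Subgroup.zpowers x) := by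
    refine IsPGroup.of_card (n := 1) ?_
    rw [Nat.card_zpowers, orderOf_eq_prime hx2 hx, pow_one]
  obtain ⟨T, hT⟩ := hp.exists_le_sylow
  obtain ⟨g, hg⟩ := MulAction.exists_smul_eq G S T
  have hxT : x ∈ (g • S : Sylow 2 G) := hg ▸ hT (Subgroup.mem_zpowers x)
  rw [← SetLike.mem_coe, Sylow.coe_smul, Set.mem_smul_set] at hxT
  obtain ⟨y, hy, hyx⟩ := hxT
  have hyx' : g * y * g⁻¹ = x := hyx
  refine (hCt y hy fun e => hx ?_).trans (isConj_iff.2 ⟨g, hyx'⟩)
  rw [← hyx', e, mul_one, mul_inv_cancel]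

/-- The quotient by the kernel. -/
theorem main {u : G} (h : Hyp u) :
    ∃ (K : Subgroup G) (_ : K.Normal), u ∉ K ∧
      Nat.card (Subgroup.centralizer ({u} : Set G)) = 4 ∧
      Nat.card (G ⧸ K) = 60 ∧ IsSimpleGroup (G ⧸ K) ∧ u ^ 2 ∈ K ∧
      Nat.card (Subgroup.centralizer ({(u : G ⧸ K)} : Set (G ⧸ K))) = 4 ∧
      (∀ x : G ⧸ K, x ≠ 1 → x ^ 2 = 1 → IsConj (u : G ⧸ K) x) ∧
      ∀ y ∈ Subgroup.centralizer ({(u : G ⧸ K)} : Set (G ⧸ K)), y ^ 2 = 1 := by
  classical
  obtain ⟨V0, hV0'⟩ := Finset.card_pos.1 (lt_of_lt_of_le two_pos (two_le_card h))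
  have hV0 := mem_negs.1 hV0'
  set K := irrKer V0 with hKdef
  have hK : K.Normal := irrKer_normal V0
  have hmem : ∀ g, g ∈ K ↔ (V0 : G → ℂ) g = 3 := fun g => by
    rw [hKdef, mem_irrKer, hV0.1]
  have huK : u ∉ K := fun e => by
    rw [hmem, hV0.2] at e
    norm_num at e
  have := Fintype.ofFinite (G ⧸ K)
  let pull : Cfsg.IrrCharacter (G ⧸ K) → Cfsg.IrrCharacter G := fun ψ =>
    ⟨(ψ : G ⧸ K → ℂ) ∘ QuotientGroup.mk' K,
      isIrrCharacter_comap (QuotientGroup.mk' K) (QuotientGroup.mk'_surjective K) ψ.2⟩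
  have hq : Hyp (u : G ⧸ K) := by
    refine ⟨fun e => huK ((QuotientGroup.eq_one_iff u).1 e), fun ψ hψ => ?_⟩
    refine h.2 (pull ψ) fun e => hψ (Subtype.ext (funext fun q => ?_))
    obtain ⟨g, rfl⟩ := QuotientGroup.mk'_surjective K q
    exact congrArg (fun z : Cfsg.IrrCharacter G => (z : G → ℂ) g) e
  have hf : ∀ ψ : Cfsg.IrrCharacter (G ⧸ K), SAD4Base.Neg (u : G ⧸ K) ψ →
      ∀ q, (ψ : G ⧸ K → ℂ) q = 3 → q = 1 := by
    intro ψ hψ q hq3
    obtain ⟨g, rfl⟩ := QuotientGroup.mk'_surjective K q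
    refine (QuotientGroup.eq_one_iff g).2 ((hmem g).2 ?_)
    exact same_kernel h (V := pull ψ) ⟨hψ.1, hψ.2⟩ hV0 hq3
  have hn : (negs u).card ≤ 2 := by
    refine le_trans ?_ (card_le_two hq hf)
    have hd : ∀ V : Cfsg.IrrCharacter G, V ∈ negs u →
        ∃ ψ : Cfsg.IrrCharacter (G ⧸ K), ∀ g : G, (V : G → ℂ) g = (ψ : G ⧸ K → ℂ) (g : G ⧸ K) :=
      fun V hV => exists_quot_irr K V fun n hn => by
        rw [(mem_negs.1 hV).1]
        exact same_kernel h hV0 (mem_negs.1 hV) ((hmem n).1 hn)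
    refine Finset.card_le_card_of_injOn
      (fun V => if hV : V ∈ negs u then (hd V hV).choose else trivIrr (G ⧸ K)) ?_ ?_
    · intro V hV
      simp only [dif_pos (Finset.mem_coe.1 hV)]
      have hs := (hd V hV).choose_spec
      refine mem_negs.2 ⟨?_, ?_⟩
      · rw [← (mem_negs.1 hV).1, hs 1]; rfl
      · rw [← (mem_negs.1 hV).2, hs u]
    · intro a ha b hb e
      simp only [dif_pos (Finset.mem_coe.1 ha), dif_pos (Finset.mem_coe.1 hb)] at e
      exact Subtype.ext (funext fun g => by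
        rw [(hd a ha).choose_spec g, (hd b hb).choose_spec g, e])
  obtain ⟨h60, ht2, hC, hinv, hexp⟩ := faithful hq hf
  refine ⟨K, hK, huK, card_centralizer h hn, h60, ?_, ?_, hC, hinv, hexp⟩
  · have hperf := perfect hq
    have : Nontrivial (G ⧸ K) := Finite.one_lt_card_iff_nontrivial.1 (by omega)
    refine (S3378.nonsolvable_small 60 (G ⧸ K) h60 (fun hs => ?_) (by norm_num)).1
    have := Group.IsSolvable.commutator_lt_top_of_nontrivial (G ⧸ K)
    rw [hperf] at this
    exact lt_irrefl _ this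
  · rw [← QuotientGroup.eq_one_iff, QuotientGroup.mk_pow]
    exact ht2

end Cfsg.Agent.SAD4Quot
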