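import Mathlib
import Cfsg.Agent.Lib.QdStability56
import Cfsg.Agent.Lib.ConjFunctorKMain

/-!
Groups without `SL(2, p)` in the automizers of `p`-subgroups, `p` odd: fusion is controlled by the normalizer
of the least centric radical subgroup.
-/

set_option autoImplicit false
set_option linter.style.haveILetI false

open Subgroup

namespace Cfsg.Agent.SL2FreeAutomizers45

open Cfsg.Agent Cfsg.Agent.QuadraticMain

universe u

variable {G : Type u} [Group G] [Finite G] {p : ℕ} [Fact p.Prime]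

/-- A homomorphism from a subgroup of `N(Q)` killing the part that centralises `Q` gives an automizer section. -/
theorem automizer_lift {L : Type*} [Group L] (Q N : Subgroup G)
    (hN : N ≤ normalizer (Q : Set G)) (φ : ↥N →* L) (hφ : Function.Surjective φ)
    (hC : ∀ x : ↥N, (x : G) ∈ centralizer (Q : Set G) → φ x = 1) :
    ∃ (H K : Subgroup G) (_ : (K.subgroupOf H).Normal),
      centralizer (Q : Set G) ≤ K ∧ K ≤ H ∧ H ≤ normalizer (Q : Set G) ∧
      Nonempty ((↥H ⧸ K.subgroupOf H) ≃* L) := by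
  set NG := normalizer (Q : Set G)
  set C' : Subgroup ↥NG := (centralizer (Q : Set G)).subgroupOf NG
  haveI : C'.Normal :=
    (inferInstance : ((centralizer (Q : Set G)).subgroupOf (normalizer (Q : Set G))).Normal)
  let f : ↥N →* ↥NG ⧸ C' := (QuotientGroup.mk' C').comp (Subgroup.inclusion hN)
  have hker : ∀ x, f x = 1 → φ x = 1 := fun x hx =>
    hC x (mem_subgroupOf.mp ((QuotientGroup.eq_one_iff (N := C') (Subgroup.inclusion hN x)).mp hx) :)
  let θ : ↥f.range →* L :=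
    MonoidHom.liftOfSurjective f.rangeRestrict f.rangeRestrict_surjective
      ⟨φ, fun x hx => hker x (congrArg Subtype.val hx)⟩
  have hθ : ∀ x, θ (f.rangeRestrict x) = φ x := fun x =>
    MonoidHom.liftOfRightInverse_comp_apply _ _ _ _ _
  set H' : Subgroup ↥NG := f.range.comap (QuotientGroup.mk' C')
  set H : Subgroup G := H'.map NG.subtype
  have hHle : H ≤ NG := map_subtype_le _
  have hmem : ∀ x : ↥H, QuotientGroup.mk' C' ⟨x, hHle x.2⟩ ∈ f.range := by
    rintro ⟨_, y, hy, rfl⟩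
    exact hy
  let ψ : ↥H →* ↥f.range :=
    ((QuotientGroup.mk' C').comp (Subgroup.inclusion hHle)).codRestrict _ hmem
  have hψ : Function.Surjective ψ := by
    rintro ⟨z, w, rfl⟩
    refine ⟨⟨(w : G), ⟨Subgroup.inclusion hN w, ?_, rfl⟩⟩, rfl⟩
    exact ⟨w, rfl⟩
  have hθs : Function.Surjective θ := fun l => by
    obtain ⟨x, rfl⟩ := hφ l
    exact ⟨_, hθ x⟩
  let χ : ↥H →* L := θ.comp ψ
  have e : (χ.ker.map H.subtype).subgroupOf H = χ.ker :=
    Subgroup.comap_map_eq_self_of_injective H.subtype_injective _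
  haveI hn : ((χ.ker.map H.subtype).subgroupOf H).Normal := by
    rw [e]; exact MonoidHom.normal_ker χ
  refine ⟨H, χ.ker.map H.subtype, hn, fun c hc => ?_, map_subtype_le _, hHle,
    ⟨(QuotientGroup.quotientMulEquivOfEq e).trans
      (QuotientGroup.quotientKerEquivOfSurjective χ (hθs.comp hψ))⟩⟩
  have hcN : c ∈ NG := centralizer_le_normalizer _ hc
  have h1 : QuotientGroup.mk' C' (⟨c, hcN⟩ : ↥NG) = 1 := (QuotientGroup.eq_one_iff _).mpr hc
  have hcH : c ∈ H := ⟨⟨c, hcN⟩, by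
    show QuotientGroup.mk' C' (⟨c, hcN⟩ : ↥NG) ∈ f.range
    rw [h1]; exact one_mem _, rfl⟩
  refine ⟨⟨c, hcH⟩, ?_, rfl⟩
  have hψc : ψ ⟨c, hcH⟩ = 1 := Subtype.ext h1
  show θ (ψ ⟨c, hcH⟩) = 1
  rw [hψc, map_one]

/-- A section isomorphic to `Qd(p)` gives a `p`-subgroup with `SL(2, p)` in its automizer. -/
theorem exists_sl2_automizer (h : Cfsg.Involves ↥(Cfsg.qd p) G) :
    ∃ Q : Subgroup G, IsPGroup p ↥Q ∧ ∃ (H K : Subgroup G) (_ : (K.subgroupOf H).Normal),
      centralizer (Q : Set G) ≤ K ∧ K ≤ H ∧ H ≤ normalizer (Q : Set G) ∧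
      Nonempty ((↥H ⧸ K.subgroupOf H) ≃* Matrix.SpecialLinearGroup (Fin 2) (ZMod p)) := by
  obtain ⟨K₀, R, hR, ⟨e⟩⟩ := h
  let ψ : ↥K₀ →* QdStructure56.Qd (ZMod p) :=
    (e.trans QdStability56.qdEquiv.symm).toMonoidHom.comp (QuotientGroup.mk' (R.subgroupOf K₀))
  have hψ : Function.Surjective ψ :=
    (e.trans QdStability56.qdEquiv.symm).surjective.comp (QuotientGroup.mk'_surjective _)
  set M : Subgroup ↥K₀ := (QdStructure56.transl (ZMod p)).comap ψ
  haveI : M.Normal := inferInstance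
  obtain ⟨P0⟩ : Nonempty (Sylow p ↥M) := inferInstance
  set Q0 : Subgroup ↥K₀ := (P0 : Subgroup ↥M).map M.subtype
  have hfr : normalizer (Q0 : Set ↥K₀) ⊔ M = ⊤ := Sylow.normalizer_sup_eq_top P0
  let f : ↥M →* ↥(QdStructure56.transl (ZMod p)) := ψ.subgroupComap _
  have hf : Function.Surjective f := MonoidHom.subgroupComap_surjective_of_surjective ψ _ hψ
  set P1 : Sylow p ↥(QdStructure56.transl (ZMod p)) := Sylow.mapSurjective hf P0 with hP1
  have htop : P1.toSubgroup = ⊤ := by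
    refine (P1.3 ?_ le_top).symm
    exact (QdStructure56.transl_isPGroup (F := ZMod p) (p := p)).of_equiv Subgroup.topEquiv.symm
  have hcov : ∀ t ∈ QdStructure56.transl (ZMod p), ∃ q ∈ Q0, ψ q = t := by
    intro t ht
    have : (⟨t, ht⟩ : ↥(QdStructure56.transl (ZMod p))) ∈
        P1.toSubgroup := by rw [htop]; exact mem_top _
    obtain ⟨m, hm, hmt⟩ := this
    exact ⟨_, mem_map_of_mem _ hm, congrArg Subtype.val hmt⟩
  set Q := Q0.map K₀.subtype
  refine ⟨Q, (P0.2.map M.subtype).map K₀.subtype, ?_⟩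
  set NK := normalizer (Q0 : Set ↥K₀)
  have hNle : NK.map K₀.subtype ≤ normalizer (Q : Set G) := le_normalizer_map _
  let eN := NK.equivMapOfInjective K₀.subtype K₀.subtype_injective
  refine automizer_lift Q _ hNle
    ((QdStructure56.blk.comp (ψ.comp NK.subtype)).comp eN.symm.toMonoidHom) ?_ ?_
  · intro l
    obtain ⟨x, hx⟩ := QdStructure56.blk_surjective l
    obtain ⟨k, rfl⟩ := hψ x
    obtain ⟨n, hn, m, hm, rfl⟩ := Subgroup.mem_sup_of_normal_right.mp (hfr ▸ mem_top k : k ∈ NK ⊔ M)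
    refine ⟨eN ⟨n, hn⟩, ?_⟩
    have hm1 : QdStructure56.blk (ψ m) = 1 := QdStructure56.mem_transl.mp hm
    rw [map_mul, map_mul, hm1, mul_one] at hx
    simpa using hx
  · intro x hx
    set k : ↥K₀ := (eN.symm x : ↥K₀)
    have hk : (k : G) = x := congrArg Subtype.val (eN.apply_symm_apply x)
    show QdStructure56.blk (ψ k) = 1
    refine QdStructure56.eq_one_of_mulVec fun v _ => ?_
    obtain ⟨q, hq, hqt⟩ := hcov (QdStructure56.trn (Multiplicative.ofAdd v))
      (QdStructure56.mem_transl.mpr (by simp [QdStructure56.trn]))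
    have hcq : k * q = q * k := Subtype.ext (by
      rw [Subgroup.coe_mul, Subgroup.coe_mul, hk]
      exact ((mem_centralizer_iff.mp hx) _ (mem_map_of_mem _ hq)).symm)
    have ht : ψ q ∈ QdStructure56.transl (ZMod p) := by
      rw [hqt]; exact QdStructure56.mem_transl.mpr (by simp [QdStructure56.trn])
    have h1 := QdStructure56.conj_transl (ψ k) ht
    rw [← map_mul, hcq, map_mul, mul_inv_cancel_right, hqt] at h1
    simpa [QdStructure56.trn] using h1.symm

theorem hasSection_trans_equiv {X Y Z : Type*} [Group X] [Group Y] [Group Z] (e : X ≃* Y)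
    (h : HasSection Y Z) : HasSection X Z :=
  QuadraticQd.hasSection_lift (f := e.toMonoidHom) e.surjective h

/-- `K∞` of a Sylow subgroup controls strong fusion in that very Sylow subgroup when `Qd(p)` is not involved. -/
theorem kInf_controls (hp : p ≠ 2) (h : ¬ Cfsg.Involves ↥(Cfsg.qd p) G) (P : Sylow p G) (A : Set G)
    (hA : A ⊆ (P : Subgroup G)) (g : G) (hgA : (fun a => g * a * g⁻¹) '' A ⊆ (P : Subgroup G)) :
    ∃ x ∈ normalizer ((Cfsg.inducedFunctor (G := G) Cfsg.kInfLower (P : Subgroup G) : Subgroup G) : Set G),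
      ∀ a ∈ A, g * a * g⁻¹ = x * a * x⁻¹ := by
  refine ConjFunctorMain.controlsStrongFusion_of_family ConjFunctorKMain.isCharPFunctor_kInfLower ?_ P A hA g hgA
  refine ConjFunctorMaster.fusion_master (G := G) (p := p) (𝓦 := {Cfsg.kInfLower})
    (by simpa using ConjFunctorKMain.isCharPFunctor_kInfLower) (Set.singleton_nonempty _)
    fun H _ _ hH hc => ?_
  obtain ⟨T⟩ : Nonempty (Sylow p H) := inferInstance
  have hn : (Cfsg.inducedFunctor (G := H) Cfsg.kInfLower (T : Subgroup H)).Normal := by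
    by_contra hnn
    obtain ⟨w, -, -, -, -, hw⟩ := ConjFunctorKMain.witness T (Or.inl hnn)
    obtain ⟨N, hN, hns⟩ := hw hc
    haveI := hN
    refine hns (QdStability56.isNormalizerPStable_of_free hp fun hs => h ?_)
    obtain ⟨K', R', hR', ⟨e'⟩⟩ :=
      ConjFunctorSection.involves_trans (ConjFunctorSection.involves_quotient N) hH
    exact QuadraticQd.exists_section (QdStability56.hasSection_of_quotient (R'.subgroupOf K')
      (hasSection_trans_equiv e' hs))
  refine ConjFunctorControl.famControls_iff.mpr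
    ⟨(T : Subgroup H), ConjFunctorBasic.isSylowIn_top T, fun A hA g _ hgA => ?_⟩
  refine ConjFunctorControl.reach_single
    (show Cfsg.inducedFunctor (G := H) Cfsg.kInfLower ∈ ConjFunctorSection.img {Cfsg.kInfLower} H from
      ⟨Cfsg.kInfLower, Set.mem_singleton _, rfl⟩) ⟨mem_top g, ?_⟩ hA hgA
  rw [@normalizer_eq_top _ _ _ hn]; exact mem_top g

variable (P : Sylow p G)

/-- Normal in the Sylow subgroup, centric, with a normalizer controlling strong fusion. -/
def Good (Q : Subgroup G) : Prop :=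
  Q ≤ (P : Subgroup G) ∧ (P : Subgroup G) ≤ normalizer (Q : Set G) ∧
    (P : Subgroup G) ⊓ centralizer (Q : Set G) ≤ Q ∧
    ∀ (A : Set G) (g : G), A ⊆ (P : Subgroup G) → (fun a => g * a * g⁻¹) '' A ⊆ (P : Subgroup G) →
      ∃ x ∈ normalizer (Q : Set G), ∀ a ∈ A, g * a * g⁻¹ = x * a * x⁻¹

theorem good_kInf (hp : p ≠ 2) (h : ¬ Cfsg.Involves ↥(Cfsg.qd p) G) :
    Good P (Cfsg.inducedFunctor (G := G) Cfsg.kInfLower (P : Subgroup G)) := by
  refine ⟨map_subtype_le _, ?_, ?_, fun A g hA hg => kInf_controls hp h P A hA g hg⟩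
  · haveI := ConjFunctorKInf.kInfLower_characteristic ↥(P : Subgroup G)
    refine (normal_subgroupOf_iff_le_normalizer (map_subtype_le _)).mp ?_
    show (((Cfsg.kInfLower ↥(P : Subgroup G)).map (P : Subgroup G).subtype).comap (P : Subgroup G).subtype).Normal
    rw [comap_map_eq_self_of_injective (P : Subgroup G).subtype_injective]
    infer_instance
  · rintro x ⟨hxP, hxc⟩
    refine ⟨⟨x, hxP⟩, (ConjFunctorKInf.centralizer_kInf _ P.2).1 ?_, rfl⟩
    exact mem_centralizer_iff.mpr fun y hy => Subtype.ext (mem_centralizer_iff.mp hxc _ (mem_map_of_mem _ hy))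

open ConjFunctorBasic

omit [Fact p.Prime] in
theorem exists_mul_eq {A B : Subgroup G} (h : A ≤ normalizer (B : Set G)) {x : G} (hx : x ∈ A ⊔ B) :
    ∃ a ∈ A, ∃ b ∈ B, a * b = x := by
  rw [← SetLike.mem_coe, coe_mul_of_left_le_normalizer_right A B h] at hx
  exact Set.mem_mul.mp hx

/-- A Sylow subgroup of `G` in `N` meets every subgroup normalised by `N` in a Sylow subgroup. -/
theorem sylow_inf {N X : Subgroup G} (hPN : (P : Subgroup G) ≤ N) (hXN : X ≤ N)
    (hinv : N ≤ normalizer (X : Set G)) : IsSylowIn p ((P : Subgroup G) ⊓ X) X := by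
  obtain ⟨R, hR, -⟩ := exists_isSylowIn p (isPGroup_mono P.isPGroup' inf_le_left :
    IsPGroup p ↥((P : Subgroup G) ⊓ X)) inf_le_right
  obtain ⟨n, hn, hle⟩ :=
    ((isSylowIn_top P).mono hPN le_top).exists_conj_le hR.2.1 (hR.1.trans hXN)
  refine hR.of_card_le (isPGroup_mono P.isPGroup' inf_le_left) inf_le_right ?_
  rw [← card_cmap n R]
  exact Subgroup.card_le_of_le (le_inf hle
    ((cmap_mono n hR.1).trans (mem_normalizer_iff_cmap.mp (hinv hn)).le))

/-- Centric subgroups normal in `P`: the Sylow subgroup of the centraliser. -/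
theorem isSylowIn_cent {Q : Subgroup G} (hQP : Q ≤ (P : Subgroup G))
    (hPN : (P : Subgroup G) ≤ normalizer (Q : Set G))
    (hc : (P : Subgroup G) ⊓ centralizer (Q : Set G) ≤ Q) :
    IsSylowIn p (Q ⊓ centralizer (Q : Set G)) (centralizer (Q : Set G)) := by
  have h : (P : Subgroup G) ⊓ centralizer (Q : Set G) = Q ⊓ centralizer (Q : Set G) :=
    le_antisymm (le_inf hc inf_le_right) (inf_le_inf_right _ hQP)
  rw [← h]
  exact sylow_inf P hPN (centralizer_le_normalizer _)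
    (le_normalizer_of_normal_subgroupOf
      (hK := (inferInstance : ((centralizer (Q : Set G)).subgroupOf (normalizer (Q : Set G))).Normal))
      (centralizer_le_normalizer _))

/-- The centraliser of a centric subgroup is its centre times the elements of order prime to `p`. -/
theorem exists_complement {Q : Subgroup G}
    (hR : IsSylowIn p (Q ⊓ centralizer (Q : Set G)) (centralizer (Q : Set G))) :
    ∃ D : Subgroup G, (∀ x, x ∈ D ↔ x ∈ centralizer (Q : Set G) ∧ ¬ p ∣ orderOf x) ∧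
      ¬ p ∣ Nat.card D ∧
      ∀ x ∈ centralizer (Q : Set G), ∃ z ∈ Q ⊓ centralizer (Q : Set G), ∃ d ∈ D, x = z * d := by
  set C := centralizer (Q : Set G)
  set R : Sylow p ↥C := hR.toSylow
  have hRc : ∀ r ∈ (R : Subgroup ↥C), ∀ x : ↥C, x * r = r * x := by
    intro r hr x
    have h1 : (r : G) ∈ Q ⊓ C := hR.map_toSylow.le (mem_map_of_mem _ hr)
    exact Subtype.ext (mem_centralizer_iff.mp x.2 _ h1.1).symm
  have hN : normalizer ((R : Subgroup ↥C) : Set ↥C) ≤ centralizer ((R : Subgroup ↥C) : Set ↥C) :=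
    fun x _ => mem_centralizer_iff.mpr fun r hr => (hRc r hr x).symm
  set τ := MonoidHom.transferSylow R hN
  have hcard : ¬ p ∣ Nat.card ↥τ.ker := MonoidHom.not_dvd_card_ker_transferSylow R hN
  have hcomp := MonoidHom.ker_transferSylow_isComplement' R hN
  refine ⟨τ.ker.map C.subtype, fun x => ⟨?_, ?_⟩, ?_, fun x hx => ?_⟩
  · rintro ⟨y, hy, rfl⟩
    refine ⟨y.2, fun hd => hcard (hd.trans ?_)⟩
    show orderOf (y : G) ∣ _
    rw [Subgroup.orderOf_coe, ← orderOf_mk y hy]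
    exact orderOf_dvd_natCard _
  · rintro ⟨hxC, hord⟩
    refine ⟨⟨x, hxC⟩, ?_, rfl⟩
    rw [SetLike.mem_coe, MonoidHom.mem_ker]
    obtain ⟨k, hk⟩ := IsPGroup.iff_orderOf.mp R.isPGroup' (τ ⟨x, hxC⟩)
    have hd := orderOf_map_dvd τ (⟨x, hxC⟩ : ↥C)
    rw [hk, ← Subgroup.orderOf_coe] at hd
    rcases Nat.eq_zero_or_pos k with rfl | hk0
    · rw [pow_zero, orderOf_eq_one_iff] at hk
      exact hk
    · exact absurd ((dvd_pow_self p hk0.ne').trans hd) hord
  · rwa [Subgroup.card_map_of_injective C.subtype_injective]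
  · obtain ⟨⟨d, r⟩, hdr⟩ := (isComplement'_comm.mp hcomp).2 ⟨x, hx⟩
    exact ⟨(d : ↥C), hR.map_toSylow.le (mem_map_of_mem _ d.2), (r : ↥C), mem_map_of_mem _ r.2,
      (congrArg Subtype.val hdr).symm⟩

/-- A part of a conjugation by an element centralising `Q` can be moved into `N(Q')`. -/
theorem exists_normalizing {Q Q' B : Subgroup G} (hQQ : Q ≤ Q') (hQ' : IsPGroup p Q')
    (hQ'N : Q' ≤ normalizer (Q : Set G))
    (hR : IsSylowIn p (Q ⊓ centralizer (Q : Set G)) (centralizer (Q : Set G)))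
    (hB : IsPGroup p B) (hBN : B ≤ normalizer (Q : Set G)) (hBN' : B ≤ normalizer (Q' : Set G))
    {d : G} (hd : d ∈ centralizer (Q : Set G))
    (hdB : ∀ b ∈ B, d * b * d⁻¹ ∈ normalizer (Q' : Set G)) :
    ∃ e ∈ normalizer (Q' : Set G), e ∈ normalizer (Q : Set G) ∧
      ∀ b ∈ B, d * b * d⁻¹ = e * b * e⁻¹ := by
  obtain ⟨D, hD, hDp, hCD⟩ := exists_complement hR
  obtain ⟨z, hz, d₀, hd₀, rfl⟩ := hCD d hd
  set C := centralizer (Q : Set G)
  have hCn : ∀ n ∈ normalizer (Q : Set G), ∀ c ∈ C, n * c * n⁻¹ ∈ C := fun n hn c hc =>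
    ((mem_normalizer_iff_cmap.mp ((le_normalizer_of_normal_subgroupOf
      (hK := (inferInstance : (C.subgroupOf (normalizer (Q : Set G))).Normal))
      (centralizer_le_normalizer _)) hn)).le (conj_mem_cmap hc) : _)
  have hDn : ∀ n ∈ normalizer (Q : Set G), ∀ c ∈ D, n * c * n⁻¹ ∈ D := fun n hn c hc => by
    obtain ⟨hc1, hc2⟩ := (hD c).mp hc
    refine (hD _).mpr ⟨hCn n hn c hc1, ?_⟩
    rwa [show n * c * n⁻¹ = (MulAut.conj n) c from rfl, MulEquiv.orderOf_eq]
  have hzN : z ∈ normalizer (Q' : Set G) := le_normalizer (hQQ hz.1)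
  set E := D ⊓ normalizer (Q' : Set G)
  have hcomm : ∀ b ∈ B, b * d₀ * b⁻¹ * d₀⁻¹ ∈ E := by
    intro b hb
    refine mem_inf.mpr ⟨mul_mem (hDn b (hBN hb) d₀ hd₀) (inv_mem hd₀), ?_⟩
    have h1 : d₀ * b⁻¹ * d₀⁻¹ ∈ normalizer (Q' : Set G) := by
      have h2 := hdB _ (inv_mem hb)
      rw [show d₀ * b⁻¹ * d₀⁻¹ = z⁻¹ * (z * d₀ * b⁻¹ * (z * d₀)⁻¹) * z by group]
      exact mul_mem (mul_mem (inv_mem hzN) h2) hzN
    rw [show b * d₀ * b⁻¹ * d₀⁻¹ = b * (d₀ * b⁻¹ * d₀⁻¹) by group]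
    exact mul_mem (hBN' hb) h1
  let α := {x : G // x * d₀⁻¹ ∈ E}
  have hact : ∀ (b : ↥B) (x : α), (b : G) * x * (b : G)⁻¹ * d₀⁻¹ ∈ E := by
    rintro ⟨b, hb⟩ ⟨x, hx⟩
    rw [show b * x * b⁻¹ * d₀⁻¹ = (b * (x * d₀⁻¹) * b⁻¹) * (b * d₀ * b⁻¹ * d₀⁻¹) by group]
    exact mul_mem (mem_inf.mpr
      ⟨hDn b (hBN hb) _ hx.1, mul_mem (mul_mem (hBN' hb) hx.2) (inv_mem (hBN' hb))⟩)
      (hcomm b hb)
  letI : MulAction ↥B α :=
    { smul := fun b x => ⟨(b : G) * x * (b : G)⁻¹, hact b x⟩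
      one_smul := fun x => Subtype.ext (by show ((1 : ↥B) : G) * _ * _ = _; simp)
      mul_smul := fun a b x => Subtype.ext (by
        show ((a * b : ↥B) : G) * x * ((a * b : ↥B) : G)⁻¹ = a * (b * x * (b : G)⁻¹) * (a : G)⁻¹
        simp [mul_assoc]) }
  have hα : ¬ p ∣ Nat.card α := by
    rw [Nat.card_congr (Equiv.subtypeEquiv (Equiv.mulRight d₀⁻¹) (fun _ => Iff.rfl) :
      α ≃ {x : G // x ∈ E})]
    exact fun h => hDp (h.trans (card_dvd_of_le inf_le_left))
  obtain ⟨⟨f, hf⟩, hfix⟩ := hB.nonempty_fixed_point_of_prime_not_dvd_card α hα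
  refine ⟨z * (f * d₀⁻¹)⁻¹, mul_mem hzN (inv_mem hf.2), ?_, fun b hb => ?_⟩
  · exact centralizer_le_normalizer _ (mul_mem hz.2 (inv_mem ((hD _).mp hf.1).1))
  · have h1 : b * f * b⁻¹ = f := congrArg Subtype.val (hfix ⟨b, hb⟩)
    have h2 : f * b * f⁻¹ = b := by
      calc f * b * f⁻¹ = b * f * b⁻¹ * b * f⁻¹ := by rw [h1]
        _ = b := by group
    calc z * d₀ * b * (z * d₀)⁻¹ = z * d₀ * (f⁻¹ * (f * b * f⁻¹) * f) * (z * d₀)⁻¹ := by group
      _ = z * d₀ * (f⁻¹ * b * f) * (z * d₀)⁻¹ := by rw [h2]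
      _ = _ := by group

/-- A normal `p`-subgroup of the automizer of a good subgroup enlarges it to a good subgroup. -/
theorem good_enlarge {Q X : Subgroup G} (hQ : Good P Q) (hXN : X ≤ normalizer (Q : Set G))
    (hinv : normalizer (Q : Set G) ≤ normalizer (X : Set G))
    (hQX : Q ⊔ centralizer (Q : Set G) ≤ X) {k : ℕ}
    (hk : (Q ⊔ centralizer (Q : Set G)).relIndex X = p ^ k) :
    Good P ((P : Subgroup G) ⊓ X) ∧ X = ((P : Subgroup G) ⊓ X) ⊔ centralizer (Q : Set G) := by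
  obtain ⟨hQP, hPN, hc, hctl⟩ := hQ
  set Q' := (P : Subgroup G) ⊓ X
  set C := centralizer (Q : Set G)
  have hsyl : IsSylowIn p Q' X := sylow_inf P hPN hXN hinv
  have hQQ : Q ≤ Q' := le_inf hQP (le_sup_left.trans hQX)
  have hle : Q' ⊔ C ≤ X := sup_le inf_le_right (le_sup_right.trans hQX)
  have hXeq : X = Q' ⊔ C := by
    refine le_antisymm ?_ hle
    rw [← relIndex_eq_one]
    have h1 : (Q' ⊔ C).relIndex X ∣ p ^ k :=
      hk ▸ relIndex_dvd_of_le_left X (sup_le_sup_right hQQ C)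
    have h2 : (Q' ⊔ C).relIndex X ∣ Q'.relIndex X := relIndex_dvd_of_le_left X le_sup_left
    obtain ⟨i, -, hi⟩ := (Nat.dvd_prime_pow Fact.out).mp h1
    rcases Nat.eq_zero_or_pos i with rfl | hi0
    · simpa using hi
    · exact absurd ((hi ▸ dvd_pow_self p hi0.ne').trans h2) hsyl.2.2
  have hPN' : (P : Subgroup G) ≤ normalizer (Q' : Set G) := fun x hx =>
    mem_normalizer_of_cmap_le (by
      rw [cmap_inf]
      exact inf_le_inf (mem_normalizer_iff_cmap.mp (le_normalizer hx)).le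
        (mem_normalizer_iff_cmap.mp (hinv (hPN hx))).le)
  have hCnorm : Q' ≤ normalizer (C : Set G) :=
    (inf_le_left.trans hPN).trans (le_normalizer_of_normal_subgroupOf
      (hK := (inferInstance : (C.subgroupOf (normalizer (Q : Set G))).Normal))
      (centralizer_le_normalizer _))
  refine ⟨⟨inf_le_left, hPN', ?_, fun A g hA hgA => ?_⟩, hXeq⟩
  · exact (le_trans (inf_le_inf_left _ (centralizer_le hQQ)) hc).trans hQQ
  obtain ⟨h, hhN, hh⟩ := hctl A g hA hgA
  obtain ⟨x, hx, m, hm, rfl⟩ := ConjFunctorMaster.frattini_split hsyl hinv hhN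
  rw [hXeq, sup_comm] at hx
  obtain ⟨d, hd, q, hq, rfl⟩ : ∃ d ∈ C, ∃ q ∈ Q', d * q = x := by
    obtain ⟨a, ha, b, hb, hab⟩ := exists_mul_eq hCnorm (sup_comm C Q' ▸ hx)
    exact ⟨a * b * a⁻¹, (mem_normalizer_iff.mp (hCnorm ha) b).mp hb, a, ha, by rw [← hab]; group⟩
  set n := q * m with hn
  have hnQ' : n ∈ normalizer (Q' : Set G) := mul_mem (le_normalizer hq) hm
  have hnQ : n ∈ normalizer (Q : Set G) := by
    rw [show n = d⁻¹ * (d * q * m) by rw [hn]; group]
    exact mul_mem (inv_mem (centralizer_le_normalizer _ hd)) hhN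
  set A₀ := Subgroup.closure A
  have hA₀ : A₀ ≤ (P : Subgroup G) := (closure_le _).mpr hA
  obtain ⟨e, he, -, heq⟩ := exists_normalizing (B := cmap n A₀) hQQ
    (isPGroup_mono P.isPGroup' inf_le_left) (inf_le_left.trans hPN) (isSylowIn_cent P hQP hPN hc)
    (isPGroup_cmap (isPGroup_mono P.isPGroup' hA₀))
    (cmap_le_iff.mpr fun a ha => mul_mem (mul_mem hnQ (hPN (hA₀ ha))) (inv_mem hnQ))
    (cmap_le_iff.mpr fun a ha => mul_mem (mul_mem hnQ' (hPN' (hA₀ ha))) (inv_mem hnQ'))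
    hd (by
      intro b hb
      obtain ⟨a, ha, rfl⟩ := hb
      show d * (n * a * n⁻¹) * d⁻¹ ∈ _
      refine (show A₀ ≤ (normalizer (Q' : Set G)).comap
        ((MulAut.conj d).toMonoidHom.comp (MulAut.conj n).toMonoidHom) from ?_) ha
      refine (closure_le _).mpr fun y hy => hPN' ?_
      show d * (n * y * n⁻¹) * d⁻¹ ∈ (P : Subgroup G)
      rw [show d * (n * y * n⁻¹) * d⁻¹ = d * q * m * y * (d * q * m)⁻¹ by rw [hn]; group, ← hh y hy]
      exact hgA ⟨y, hy, rfl⟩)
  refine ⟨e * n, mul_mem he hnQ', fun a ha => ?_⟩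
  calc g * a * g⁻¹ = d * q * m * a * (d * q * m)⁻¹ := hh a ha
    _ = d * (n * a * n⁻¹) * d⁻¹ := by rw [hn]; group
    _ = e * (n * a * n⁻¹) * e⁻¹ := heq _ (conj_mem_cmap (subset_closure ha))
    _ = e * n * a * (e * n)⁻¹ := by group

/-- A good subgroup lies in every centric radical subgroup. -/
theorem good_le_cr {Q R : Subgroup G} (hQ : Good P Q) (hRP : R ≤ (P : Subgroup G))
    (hS : IsSylowIn p (R ⊓ centralizer (R : Set G)) (centralizer (R : Set G)))
    (hrad : ∀ X : Subgroup G, X ≤ normalizer (R : Set G) →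
      (∀ n ∈ normalizer (R : Set G), X.map (MulAut.conj n).toMonoidHom = X) →
      R ⊔ centralizer (R : Set G) ≤ X →
      (∃ k : ℕ, (R ⊔ centralizer (R : Set G)).relIndex X = p ^ k) →
      X = R ⊔ centralizer (R : Set G)) : Q ≤ R := by
  obtain ⟨hQP, hPN, -, hctl⟩ := hQ
  set C := centralizer (R : Set G)
  set NR := normalizer (R : Set G)
  set W := Q ⊓ NR
  set X := R ⊔ C ⊔ W
  have hXN : X ≤ NR := sup_le (sup_le le_normalizer (centralizer_le_normalizer _)) inf_le_right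
  have hCn : NR ≤ normalizer (C : Set G) := le_normalizer_of_normal_subgroupOf
    (hK := (inferInstance : (C.subgroupOf NR).Normal)) (centralizer_le_normalizer _)
  have hXinv : ∀ n ∈ NR, cmap n X = X := by
    intro n hn
    refine mem_normalizer_iff_cmap.mp (mem_normalizer_of_cmap_le ?_)
    have hR' : cmap n R ≤ X := (mem_normalizer_iff_cmap.mp hn).le.trans (le_sup_left.trans le_sup_left)
    have hC' : cmap n C ≤ X :=
      (mem_normalizer_iff_cmap.mp (hCn hn)).le.trans (le_sup_right.trans le_sup_left)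
    show cmap n (R ⊔ C ⊔ W) ≤ X
    rw [cmap, Subgroup.map_sup, Subgroup.map_sup]
    refine sup_le (sup_le hR' hC') (cmap_le_iff.mpr fun w hw => ?_)
    obtain ⟨h, hhN, hh⟩ := hctl (R : Set G) n hRP (by
      rintro _ ⟨r, hr, rfl⟩
      exact hRP ((mem_normalizer_iff.mp hn r).mp hr))
    have hhR : h ∈ NR := mem_normalizer_of_cmap_le (cmap_le_iff.mpr fun r hr => by
      rw [← hh r hr]; exact (mem_normalizer_iff.mp hn r).mp hr)
    have hc : h⁻¹ * n ∈ C := mem_centralizer_iff.mpr fun r hr => by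
      have h1 := hh r hr
      calc r * (h⁻¹ * n) = h⁻¹ * (h * r * h⁻¹) * n := by group
        _ = h⁻¹ * (n * r * n⁻¹) * n := by rw [← h1]
        _ = h⁻¹ * n * r := by group
    have hhX : cmap h X ≤ X := by
      show cmap h (R ⊔ C ⊔ W) ≤ _
      rw [cmap, Subgroup.map_sup, Subgroup.map_sup]
      exact sup_le (sup_le ((mem_normalizer_iff_cmap.mp hhR).le.trans (le_sup_left.trans le_sup_left))
        ((mem_normalizer_iff_cmap.mp (hCn hhR)).le.trans (le_sup_right.trans le_sup_left)))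
        (le_trans (le_of_eq (by
          show cmap h (Q ⊓ NR) = W
          rw [cmap_inf, mem_normalizer_iff_cmap.mp hhN, mem_normalizer_iff_cmap.mp (le_normalizer hhR)]))
          le_sup_right)
    have hcX : h⁻¹ * n ∈ X := le_sup_left (a := R ⊔ C) (le_sup_right (a := R) hc)
    have h3 : h⁻¹ * n * w * (h⁻¹ * n)⁻¹ ∈ X :=
      mul_mem (mul_mem hcX (le_sup_right (a := R ⊔ C) hw)) (inv_mem hcX)
    have h4 := cmap_le_iff.mp hhX _ h3
    rwa [show h * (h⁻¹ * n * w * (h⁻¹ * n)⁻¹) * h⁻¹ = n * w * n⁻¹ by group] at h4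
  have hWn : W ≤ normalizer ((R ⊔ C : Subgroup G) : Set G) := fun w hw => mem_normalizer_of_cmap_le (by
    rw [cmap, Subgroup.map_sup]
    exact sup_le_sup (mem_normalizer_iff_cmap.mp hw.2).le (mem_normalizer_iff_cmap.mp (hCn hw.2)).le)
  have hW : IsPGroup p W := isPGroup_mono P.isPGroup' (inf_le_left.trans hQP)
  have hidx : ∃ k : ℕ, (R ⊔ C).relIndex X = p ^ k := by
    haveI : ((R ⊔ C).subgroupOf X).Normal := (normal_subgroupOf_iff_le_normalizer le_sup_left).mpr
      (sup_le le_normalizer hWn)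
    rw [relIndex, index_eq_card]
    refine IsPGroup.iff_card.mp (hW.of_surjective
      ((QuotientGroup.mk' ((R ⊔ C).subgroupOf X)).comp (Subgroup.inclusion le_sup_right)) fun x => ?_)
    induction x using QuotientGroup.induction_on with
    | H x =>
      obtain ⟨w, hw, b, hb, hwb⟩ := exists_mul_eq hWn (x := (x : G))
        ((sup_comm (R ⊔ C) W).le x.2)
      refine ⟨⟨w, hw⟩, ?_⟩
      show QuotientGroup.mk _ = QuotientGroup.mk _
      rw [QuotientGroup.eq, mem_subgroupOf]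
      simpa [← hwb] using hb
  have hXeq := hrad X hXN hXinv le_sup_left hidx
  have hWR : W ≤ R := by
    intro w hw
    have hwX : w ∈ R ⊔ C := hXeq ▸ (le_sup_right (a := R ⊔ C) hw)
    obtain ⟨r, hr, c, hc, hrc⟩ := exists_mul_eq
      (le_normalizer.trans hCn : R ≤ normalizer (C : Set G)) hwX
    have hcP : c ∈ (P : Subgroup G) := by
      rw [show c = r⁻¹ * w by rw [← hrc]; group]
      exact mul_mem (inv_mem (hRP hr)) (hQP hw.1)
    have h2 := hS.eq_of_le (isPGroup_mono P.isPGroup' inf_le_left :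
      IsPGroup p ↥((P : Subgroup G) ⊓ C)) inf_le_right (inf_le_inf_right _ hRP)
    have hcR : c ∈ R := (h2.le ⟨hcP, hc⟩).1
    exact hrc ▸ mul_mem hr hcR
  by_contra hne
  set M := R ⊔ Q
  haveI : Group.IsNilpotent ↥M := (isPGroup_mono P.isPGroup' (sup_le hRP hQP)).isNilpotent
  have hlt : R.subgroupOf M < ⊤ := lt_top_iff_ne_top.mpr fun h =>
    hne (le_sup_right.trans (subgroupOf_eq_top.mp h))
  obtain ⟨⟨x, hxM⟩, hx, hxR⟩ :=
    SetLike.exists_of_lt (normalizerCondition_of_isNilpotent _ hlt)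
  have hxN : x ∈ NR := mem_normalizer_of_cmap_le (cmap_le_iff.mpr fun r hr => by
    exact (mem_subgroupOf (K := M) (H := R)).mp
      ((mem_normalizer_iff.mp hx ⟨r, le_sup_left (b := Q) hr⟩).mp (mem_subgroupOf.mpr hr)))
  obtain ⟨r, hr, q, hq, hrq⟩ := exists_mul_eq ((hRP.trans hPN) : R ≤ normalizer (Q : Set G)) hxM
  refine hxR (mem_subgroupOf.mpr ?_)
  show x ∈ R
  rw [← hrq]
  refine mul_mem hr (hWR (mem_inf.mpr ⟨hq, ?_⟩))
  rw [show q = r⁻¹ * x by rw [← hrq]; group]
  exact mul_mem (inv_mem (le_normalizer hr)) hxN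

end Cfsg.Agent.SL2FreeAutomizers45
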