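import Mathlib

/-!
The unipotent part of short presentations of `SL₂(q)`: an element `u` whose conjugates under the
powers of `h` commute, with one relation for a power basis, gives a copy of the additive group of
the field on which `h` acts by multiplication by the generator.
-/

set_option autoImplicit false

namespace Cfsg.Agent.SL2PresAbel

variable {G H : Type*} [Group G] [Group H]

/-- `h ^ i * u * (h ^ i)⁻¹` -/
def cj (h u : G) (i : ℕ) : G := h ^ i * u * (h ^ i)⁻¹

theorem cj_zero (h u : G) : cj h u 0 = u := by simp [cj]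

theorem conj_cj (h u : G) (i j : ℕ) : MulAut.conj (h ^ i) (cj h u j) = cj h u (i + j) := by
  rw [MulAut.conj_apply]
  simp [cj, pow_add, mul_assoc]

theorem commute_conj_cj {h u : G} {i j : ℕ} (c : Commute (cj h u i) (cj h u j)) (n : ℕ) :
    Commute (cj h u (n + i)) (cj h u (n + j)) := by
  rw [← conj_cj, ← conj_cj]
  exact c.map (MulAut.conj (h ^ n)).toMonoidHom

theorem map_cj (f : G →* H) (h u : G) (i : ℕ) : f (cj h u i) = cj (f h) (f u) i := by
  simp [cj]

theorem closure_commute {S : Set G} (hS : ∀ a ∈ S, ∀ b ∈ S, Commute a b) {a b : G}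
    (ha : a ∈ Subgroup.closure S) (hb : b ∈ Subgroup.closure S) : Commute a b := by
  have h1 : ∀ a ∈ S, Subgroup.closure S ≤ Subgroup.centralizer {a} := fun a ha =>
    (Subgroup.closure_le _).mpr fun c hc => Subgroup.mem_centralizer_singleton_iff.mpr (hS c hc a ha).eq
  have h2 : Subgroup.closure S ≤ Subgroup.centralizer {b} := (Subgroup.closure_le _).mpr fun c hc =>
    Subgroup.mem_centralizer_singleton_iff.mpr ((Subgroup.mem_centralizer_singleton_iff.mp (h1 c hc hb)).symm)
  exact Subgroup.mem_centralizer_singleton_iff.mp (h2 ha)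

/-- two commuting conjugations `x`, `y` with `u ^ x = u * u ^ y` and `u` commuting with `u ^ y` make
all `u ^ (x ^ i)` commute -/
theorem commute_cj_of_pair {x y u : G} (hxy : Commute x y) (hrel : MulAut.conj x u = u * MulAut.conj y u)
    (hcom : Commute u (MulAut.conj y u)) : ∀ n, Commute u (cj x u n) := by
  have hy : MulAut.conj y u = u⁻¹ * cj x u 1 := by
    rw [cj, pow_one, ← MulAut.conj_apply, hrel, inv_mul_cancel_left]
  have h1 : Commute u (cj x u 1) := by
    rw [cj, pow_one, ← MulAut.conj_apply, hrel]; exact (Commute.refl u).mul_right hcom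
  have hshift : ∀ i j n, Commute (cj x u i) (cj x u j) → Commute (cj x u (n + i)) (cj x u (n + j)) :=
    fun i j n c => commute_conj_cj c n
  have hyi : ∀ i, MulAut.conj y (cj x u i) = (cj x u i)⁻¹ * cj x u (i + 1) := by
    intro i
    have e : MulAut.conj y (cj x u i) = MulAut.conj (x ^ i) (MulAut.conj y u) := by
      rw [cj, ← MulAut.conj_apply, ← MulAut.mul_apply, ← MulAut.mul_apply, ← map_mul, ← map_mul, (hxy.pow_left i).eq]
    rw [e, hy, map_mul, map_inv, conj_cj]
    rfl
  intro n
  induction n using Nat.strong_induction_on with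
  | _ n ih =>
    match n with
    | 0 => rw [cj_zero]
    | 1 => exact h1
    | m + 2 =>
      have hc := (ih (m + 1) (by omega)).map (MulAut.conj y).toMonoidHom
      simp only [MulEquiv.coe_toMonoidHom, hy, hyi] at hc
      set A := u⁻¹
      set B := cj x u 1
      set C := (cj x u (m + 1))⁻¹
      set D := cj x u (m + 1 + 1)
      have hBD : Commute B D := by
        have := hshift 0 (m + 1) 1 (by simpa [cj_zero] using ih (m + 1) (by omega))
        simpa [B, D, add_comm] using this
      have hBC : Commute B C := by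
        have := hshift 0 m 1 (by simpa [cj_zero] using ih m (by omega))
        simpa [B, C, add_comm] using this
      have hAC : Commute A C := (ih (m + 1) (by omega)).inv_left.inv_right
      have hAD : Commute A D := by
        apply mul_right_cancel (b := B)
        apply mul_left_cancel (a := C)
        calc C * (A * D * B) = A * C * (B * D) := by rw [hBD.eq, hAC.eq]; simp [mul_assoc]
          _ = A * B * (C * D) := by simp only [mul_assoc]; rw [← mul_assoc C B, ← hBC.eq, mul_assoc B C]
          _ = C * D * (A * B) := hc.eq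
          _ = C * (D * A * B) := by simp [mul_assoc]
      simpa [A] using hAD.inv_left

theorem commute_cj_of_zero {h u : G} (hz : ∀ n, Commute u (cj h u n)) (i j : ℕ) :
    Commute (cj h u i) (cj h u j) := by
  rcases le_total i j with hle | hle
  · have := commute_conj_cj ((cj_zero h u).symm ▸ hz (j - i) : Commute (cj h u 0) (cj h u (j - i))) i
    rwa [Nat.add_zero, Nat.add_sub_cancel' hle] at this
  · have := commute_conj_cj ((cj_zero h u).symm ▸ hz (i - j) : Commute (cj h u 0) (cj h u (i - j))) j
    rw [Nat.add_zero, Nat.add_sub_cancel' hle] at this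
    exact this.symm

/-- a commutative subgroup containing `u` and stable under `h` -/
theorem commute_cj_of_stable {h u : G} (S : Set G) (hS : ∀ a ∈ S, ∀ b ∈ S, Commute a b)
    (hu : u ∈ Subgroup.closure S) (hst : ∀ a ∈ S, MulAut.conj h a ∈ Subgroup.closure S) (n : ℕ) :
    Commute u (cj h u n) := by
  refine closure_commute hS hu ?_
  induction n with
  | zero => rwa [cj_zero]
  | succ n ih =>
    have hle : Subgroup.closure S ≤ (Subgroup.closure S).comap (MulAut.conj h).toMonoidHom :=
      (Subgroup.closure_le _).mpr hst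
    have := hle ih
    simpa [cj, pow_succ', mul_assoc] using this

variable {F : Type*} [Field F] {p : ℕ} [Fact p.Prime] [Algebra (ZMod p) F]

/-- the word for a field element in a power basis -/
noncomputable def word (pb : PowerBasis (ZMod p) F) (h u : G) (r : F) : G :=
  (List.ofFn fun i : Fin pb.dim => cj h u i ^ (pb.basis.repr r i).val).prod

theorem map_word (f : G →* H) (pb : PowerBasis (ZMod p) F) (h u : G) (r : F) :
    f (word pb h u r) = word pb (f h) (f u) r := by
  simp only [word, map_list_prod, List.map_ofFn]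
  congr 2
  funext i
  simp [map_cj]

theorem word_mem {K : Subgroup G} (pb : PowerBasis (ZMod p) F) {h u : G} (r : F)
    (hK : ∀ i < pb.dim, cj h u i ∈ K) : word pb h u r ∈ K :=
  K.list_prod_mem fun x hx => by
    obtain ⟨i, rfl⟩ := List.mem_ofFn.mp hx
    exact K.pow_mem (hK i i.2) _

/-- homomorphisms from the additive group agreeing on a basis agree -/
theorem hom_ext (pb : PowerBasis (ZMod p) F) {f g : Multiplicative F →* G}
    (h : ∀ i : ℕ, i < pb.dim → f (Multiplicative.ofAdd (pb.gen ^ i)) = g (Multiplicative.ofAdd (pb.gen ^ i))) :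
    f = g := by
  let S : AddSubgroup F :=
    { carrier := {r | f (Multiplicative.ofAdd r) = g (Multiplicative.ofAdd r)}
      zero_mem' := by simp
      add_mem' := fun {a b} ha hb => by
        simp only [Set.mem_setOf_eq, ofAdd_add, map_mul] at *
        rw [ha, hb]
      neg_mem' := fun {a} ha => by
        simp only [Set.mem_setOf_eq, ofAdd_neg, map_inv] at *
        rw [ha] }
  have hS : AddSubgroup.toZModSubmodule p S = ⊤ := by
    rw [eq_top_iff, ← pb.basis.span_eq, Submodule.span_le]
    rintro _ ⟨i, rfl⟩
    show pb.basis i ∈ S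
    rw [PowerBasis.coe_basis]
    exact h i i.2
  ext r
  have : Multiplicative.toAdd r ∈ AddSubgroup.toZModSubmodule p S := hS ▸ Submodule.mem_top
  exact this

/-- the copy of the field -/
theorem exists_hom (pb : PowerBasis (ZMod p) F) {h u : G} (hp : u ^ p = 1)
    (hcomm : ∀ n, Commute u (cj h u n)) (hrel : cj h u pb.dim = word pb h u (pb.gen ^ pb.dim)) :
    ∃ φ : Multiplicative F →* G, φ (Multiplicative.ofAdd 1) = u ∧
      (∀ r, h * φ (Multiplicative.ofAdd r) * h⁻¹ = φ (Multiplicative.ofAdd (pb.gen * r))) ∧
      ∀ r, φ (Multiplicative.ofAdd r) = word pb h u r := by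
  classical
  let K := Subgroup.closure (Set.range (cj h u))
  haveI : IsMulCommutative K := ⟨⟨fun a b => Subtype.ext
    (closure_commute (by rintro _ ⟨i, rfl⟩ _ ⟨j, rfl⟩; exact commute_cj_of_zero hcomm i j) a.2 b.2).eq⟩⟩
  letI : CommGroup K := IsMulCommutative.instCommGroup
  let e : Fin pb.dim → K := fun i => ⟨cj h u i, Subgroup.subset_closure ⟨i, rfl⟩⟩
  have he : ∀ i, e i ^ p = 1 := fun i => Subtype.ext (by
    simp only [SubgroupClass.coe_pow, OneMemClass.coe_one, e, cj, conj_pow, hp, mul_one, mul_inv_cancel])
  let ψ : Multiplicative F →* K :=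
    { toFun := fun r => ∏ i, e i ^ (pb.basis.repr (Multiplicative.toAdd r) i).val
      map_one' := by simp
      map_mul' := fun r s => by
        rw [← Finset.prod_mul_distrib]
        refine Finset.prod_congr rfl fun i _ => ?_
        rw [toAdd_mul, map_add, Finsupp.add_apply, ZMod.val_add, ← pow_eq_pow_mod _ (he i), pow_add] }
  let φ : Multiplicative F →* G := K.subtype.comp ψ
  have hw : ∀ r, φ (Multiplicative.ofAdd r) = word pb h u r := fun r => by
    show K.subtype (∏ i, _) = _
    rw [← Fin.prod_ofFn, map_list_prod, List.map_ofFn]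
    rfl
  have hgen : ∀ i : ℕ, i < pb.dim → φ (Multiplicative.ofAdd (pb.gen ^ i)) = cj h u i := by
    intro i hi
    show ((ψ _ : K) : G) = _
    have hb : pb.gen ^ i = pb.basis ⟨i, hi⟩ := by rw [PowerBasis.coe_basis]
    simp only [ψ, MonoidHom.coe_mk, OneHom.coe_mk, toAdd_ofAdd]
    rw [hb, pb.basis.repr_self, Finset.prod_eq_single ⟨i, hi⟩]
    · simp [e, ZMod.val_one]
    · intro j _ hj
      simp [Finsupp.single_eq_of_ne hj, Ne.symm hj]
    · simp
  have h1 : φ (Multiplicative.ofAdd 1) = u := by
    have := hgen 0 pb.dim_pos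
    rwa [pow_zero, cj_zero] at this
  refine ⟨φ, h1, ?_, hw⟩
  let L : Multiplicative F →* G := (MulAut.conj h).toMonoidHom.comp φ
  let M : Multiplicative F →* G := φ.comp
    (AddMonoidHom.toMultiplicative (AddMonoidHom.mulLeft pb.gen))
  have hLM : L = M := by
    refine hom_ext pb fun i hi => ?_
    show MulAut.conj h (φ _) = φ (Multiplicative.ofAdd (pb.gen * pb.gen ^ i))
    have hs : MulAut.conj h (cj h u i) = cj h u (i + 1) := by
      have := conj_cj h u 1 i
      rwa [pow_one, add_comm] at this
    rw [hgen i hi, hs, ← pow_succ']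
    rcases Nat.lt_or_ge (i + 1) pb.dim with hlt | hge
    · rw [hgen _ hlt]
    · rw [show i + 1 = pb.dim by omega, hrel, hw]
  intro r
  have := congrArg (fun f : Multiplicative F →* G => f (Multiplicative.ofAdd r)) hLM
  simpa [L, M] using this

end Cfsg.Agent.SL2PresAbel
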