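import Cfsg.Agent.Lib.SL2PresURels

/-!
Characteristic two: five relators on three letters.
-/

set_option autoImplicit false

namespace Cfsg.Agent.SL2PresTwo

open SL2PresAbel SL2PresURels
open Multiplicative (ofAdd)

variable {F : Type*} [Field F] [Algebra (ZMod 2) F]

/-- five relators; the long word is placed on the braid relation -/
noncomputable def twoRels (pb : PowerBasis (ZMod 2) F) (b e : ℕ) : List FG :=
  [gU * gU, cj gH gU 1 * (gU * cj gH gU b)⁻¹, gH * gT * (gH * gT), gT * gT * (gH ^ (3 * e))⁻¹,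
    (gT * gU) ^ 3 * (word pb gH gU (pb.gen ^ pb.dim) * (cj gH gU pb.dim)⁻¹)⁻¹]

/-- consequences of the five relators -/
theorem two_complete (pb : PowerBasis (ZMod 2) F) (b e : ℕ) (he : Odd e) (hgen : pb.gen ^ e = 1)
    {G : Type*} [Group G] {u h t : G} (hgenG : Subgroup.closure ({u, h, t} : Set G) = ⊤)
    (hs : Sat (twoRels pb b e) u h t) :
    ∃ φ : Multiplicative F →* G, φ (ofAdd 1) = u ∧ (∀ r, h * φ (ofAdd r) * h⁻¹ = φ (ofAdd (pb.gen * r))) ∧
      h * t * h = t ∧ t * t = 1 ∧ h ^ e = 1 ∧ (t * u) ^ 3 = 1 := by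
  simp only [Sat, twoRels, List.forall_mem_cons, List.not_mem_nil, false_imp_iff, implies_true, and_true,
    map_mul, map_inv, map_pow, map_cj, map_word, lift_gU, lift_gH, lift_gT, mul_inv_eq_one] at hs
  obtain ⟨h1, h2, h4, h5, h6⟩ := hs
  have hu2 : u⁻¹ = u := inv_eq_of_mul_eq_one_right h1
  have hsq : ∀ i, cj h u i * cj h u i = 1 := fun i => by
    rw [cj, ← MulAut.conj_apply, ← map_mul, h1, map_one]
  have hcom : Commute u (cj h u b) := by
    have := hsq 1
    rw [h2] at this
    have h3 := inv_eq_of_mul_eq_one_right this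
    rw [mul_inv_rev, hu2, inv_eq_of_mul_eq_one_right (hsq b)] at h3
    exact h3.symm
  have hrel : MulAut.conj h u = u * MulAut.conj (h ^ b) u := by
    have := h2
    rwa [cj, pow_one, ← MulAut.conj_apply] at this
  have hz : ∀ n, Commute u (cj h u n) := commute_cj_of_pair (Commute.self_pow h b) hrel hcom
  have hcc := commute_cj_of_zero hz
  set K := Subgroup.closure (Set.range (cj h u))
  have hKc : ∀ x ∈ K, ∀ y ∈ K, Commute x y := fun x hx y hy =>
    closure_commute (by rintro _ ⟨i, rfl⟩ _ ⟨j, rfl⟩; exact hcc i j) hx hy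
  have hcjK : ∀ i, cj h u i ∈ K := fun i => Subgroup.subset_closure ⟨i, rfl⟩
  have huK : u ∈ K := cj_zero h u ▸ hcjK 0
  set V := word pb h u (pb.gen ^ pb.dim) * (cj h u pb.dim)⁻¹
  have hVK : V ∈ K := K.mul_mem (word_mem pb _ fun i _ => hcjK i) (K.inv_mem (hcjK _))
  have hshift : ∀ n : ℕ, ∀ x ∈ K, MulAut.conj (h ^ n) x ∈ K := fun n =>
    show K ≤ K.comap (MulAut.conj (h ^ n)).toMonoidHom from
      (Subgroup.closure_le _).mpr (by rintro _ ⟨j, rfl⟩; exact Subgroup.subset_closure ⟨n + j, (conj_cj h u n j).symm⟩)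
  have huV : ∀ i : ℤ, Commute u (MulAut.conj (h ^ i) V) := by
    intro i
    obtain ⟨n, rfl | rfl⟩ := i.eq_nat_or_neg
    · rw [zpow_natCast]; exact hKc _ huK _ (hshift n _ hVK)
    · have := (hKc _ (hshift n _ huK) _ hVK).map (MulAut.conj (h ^ (-(n : ℤ)))).toMonoidHom
      have e : MulAut.conj (h ^ (-(n : ℤ))) (MulAut.conj (h ^ n) u) = u := by
        rw [← MulAut.mul_apply, ← map_mul, ← zpow_natCast, ← zpow_add, neg_add_cancel, zpow_zero, map_one,
          MulAut.one_apply]
      simp only [MulEquiv.coe_toMonoidHom, e] at this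
      exact this
  have hVt : Commute t V := by
    have c1 : Commute (t * u) V := h6 ▸ (Commute.self_pow (t * u) 3)
    have c2 : Commute u V := by simpa using huV 0
    have := c1.mul_left c2.inv_left
    rwa [mul_inv_cancel_right] at this
  set z := h ^ (3 * e) with hzdef
  have ht_inv : t⁻¹ = z⁻¹ * t := by
    rw [eq_inv_mul_iff_mul_eq, ← h5, mul_inv_cancel_right]
  have htht : t * h * t = h⁻¹ := (inv_eq_of_mul_eq_one_right (by simpa [mul_assoc] using h4)).symm
  set N : ℤ := -(3 * e + 1 : ℕ)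
  have htc : MulAut.conj t h = h ^ N := by
    rw [MulAut.conj_apply, ht_inv, hzdef, ← inv_pow]
    have : Commute (h⁻¹ ^ (3 * e)) t := by
      rw [inv_pow, ← hzdef, ← h5]
      exact ((Commute.refl t).mul_left (Commute.refl t)).inv_left
    rw [this.eq, ← mul_assoc, htht, zpow_neg, zpow_natCast, pow_succ', mul_inv_rev, ← inv_pow]
    exact ((Commute.refl h⁻¹).pow_right _).eq
  have htci : ∀ i : ℤ, MulAut.conj t (h ^ i) = h ^ (N * i) := fun i => by
    rw [map_zpow, htc, zpow_mul]
  -- the orbit of `V`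
  set S : Set G := Set.range fun i : ℤ => MulAut.conj (h ^ i) V
  have hS_h : ∀ (k : ℤ), ∀ x ∈ S, MulAut.conj (h ^ k) x ∈ S := by
    rintro k _ ⟨i, rfl⟩
    exact ⟨k + i, by simp only [zpow_add, map_mul, MulAut.mul_apply]⟩
  have hS_t : ∀ x ∈ S, MulAut.conj t x ∈ S := by
    rintro _ ⟨i, rfl⟩
    refine ⟨N * i, ?_⟩
    have e : t * h ^ i = h ^ (N * i) * t := by rw [← htci i, MulAut.conj_apply, inv_mul_cancel_right]
    have eV : MulAut.conj t V = V := by rw [MulAut.conj_apply, hVt.eq, mul_inv_cancel_right]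
    show MulAut.conj (h ^ (N * i)) V = MulAut.conj t (MulAut.conj (h ^ i) V)
    rw [← MulAut.mul_apply, ← map_mul MulAut.conj, e, map_mul MulAut.conj, MulAut.mul_apply, eV]
  let C := Subgroup.centralizer S
  have hS_g : ∀ g : G, (∀ x ∈ S, MulAut.conj g x ∈ S) ∧ (∀ x ∈ S, MulAut.conj g⁻¹ x ∈ S) := by
    intro g
    induction (hgenG ▸ Subgroup.mem_top g : g ∈ Subgroup.closure ({u, h, t} : Set G)) using
      Subgroup.closure_induction with
    | one => simp
    | mul a b _ _ ha hb =>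
      exact ⟨fun x hx => by rw [map_mul, MulAut.mul_apply]; exact ha.1 _ (hb.1 x hx),
        fun x hx => by rw [mul_inv_rev, map_mul, MulAut.mul_apply]; exact hb.2 _ (ha.2 x hx)⟩
    | inv a _ ha => exact ⟨ha.2, fun x hx => by rw [inv_inv]; exact ha.1 x hx⟩
    | mem a ha =>
      rcases ha with rfl | rfl | rfl
      · constructor <;> rintro x ⟨i, rfl⟩ <;> refine ⟨i, ?_⟩ <;> simp only [MulAut.conj_apply]
        · have := (huV i).eq
          simp only [MulAut.conj_apply] at this
          rw [this, mul_inv_cancel_right]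
        · have := (huV i).inv_left.eq
          simp only [MulAut.conj_apply] at this
          rw [this, inv_inv, inv_mul_cancel_right]
      · exact ⟨fun x hx => by simpa using hS_h 1 x hx, fun x hx => by simpa using hS_h (-1) x hx⟩
      · refine ⟨hS_t, fun x hx => ?_⟩
        rw [ht_inv, map_mul, MulAut.mul_apply]
        have := hS_h (-((3 * e : ℕ) : ℤ)) _ (hS_t x hx)
        rwa [zpow_neg, zpow_natCast] at this
  haveI hCn : C.Normal := by
    refine ⟨fun c hc g => Subgroup.mem_centralizer_iff.mpr fun x hx => ?_⟩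
    have := (Subgroup.mem_centralizer_iff.mp hc) _ ((hS_g g).2 x hx)
    simp only [MulAut.conj_apply, inv_inv] at this
    have h' := congrArg (fun w => g * w * g⁻¹) this
    simpa [mul_assoc] using h'
  let π : G →* G ⧸ C := QuotientGroup.mk' C
  have hπu : π u = 1 := by
    refine (QuotientGroup.eq_one_iff u).mpr (Subgroup.mem_centralizer_iff.mpr ?_)
    rintro _ ⟨i, rfl⟩
    exact (huV i).symm.eq
  have hK1 : K ≤ π.ker := (Subgroup.closure_le _).mpr (by
    rintro _ ⟨i, rfl⟩
    simp [MonoidHom.mem_ker, map_cj, hπu, cj])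
  set H := π h with hH
  set T := π t with hT
  have q4 : H * T * (H * T) = 1 := by simpa [hH, hT] using congrArg π h4
  have q5 : T * T = H ^ (3 * e) := by simpa [hH, hT, hzdef] using congrArg π h5
  have q6 : T ^ 3 = 1 := by
    have := congrArg π h6
    rw [map_pow, map_mul, hπu, mul_one, hK1 hVK] at this
    exact this
  have qT : T = (H ^ (3 * e))⁻¹ := by
    rw [← q5, eq_inv_iff_mul_eq_one, ← q6, pow_succ, pow_two, mul_assoc]
  have q7 : H ^ (9 * e) = 1 := by
    rw [show 9 * e = 3 * e * 3 by ring, pow_mul, ← inv_inj, inv_one, ← inv_pow, ← qT, q6]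
  have q8 : H ^ (2 + 3 * e) = 1 := by
    have c : Commute H T := by rw [qT]; exact ((Commute.refl H).pow_right _).inv_right
    rw [pow_add, ← q5, pow_two, c.mul_mul_mul_comm]; exact q4
  have qH : H = 1 := by
    obtain ⟨j, rfl⟩ := he
    have d1 : orderOf H ∣ 9 * (2 * j + 1) := orderOf_dvd_of_pow_eq_one q7
    have d2 : orderOf H ∣ 2 + 3 * (2 * j + 1) := orderOf_dvd_of_pow_eq_one q8
    have d6 : orderOf H ∣ 6 := by
      have h3 := Nat.dvd_sub (d2.mul_left 3) d1
      rwa [show 3 * (2 + 3 * (2 * j + 1)) - 9 * (2 * j + 1) = 6 by omega] at h3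
    have d5 : orderOf H ∣ 5 := by
      have h3 := Nat.dvd_sub d2 (dvd_mul_of_dvd_left d6 j)
      rwa [show 2 + 3 * (2 * j + 1) - 6 * j = 5 by omega] at h3
    have d1' := Nat.dvd_gcd d5 d6
    rw [show Nat.gcd 5 6 = 1 from rfl, Nat.dvd_one] at d1'
    exact orderOf_eq_one_iff.mp d1'
  have hhV : MulAut.conj h V = V := by
    have hC : h ∈ C := (QuotientGroup.eq_one_iff h).mp qH
    have := (Subgroup.mem_centralizer_iff.mp hC) V ⟨0, by simp⟩
    rw [MulAut.conj_apply, ← this, mul_inv_cancel_right]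
  have hker : ∀ x ∈ K, MulAut.conj h x = x * MulAut.conj (h ^ b) x := by
    intro x hx
    refine (Subgroup.closure_induction (p := fun x _ => x ∈ K ∧ MulAut.conj h x = x * MulAut.conj (h ^ b) x)
      ?_ ?_ ?_ ?_ hx).2
    · rintro _ ⟨i, rfl⟩
      refine ⟨hcjK i, ?_⟩
      have := congrArg (MulAut.conj (h ^ i)) h2
      rw [map_mul, conj_cj, conj_cj,
        show MulAut.conj (h ^ i) u = cj h u i from MulAut.conj_apply _ _] at this
      rw [MulAut.conj_apply h, ← cj_succ, conj_cj, add_comm b i]; exact this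
    · exact ⟨K.one_mem, by simp⟩
    · rintro x y _ _ ⟨hxK, hx⟩ ⟨hyK, hy⟩
      refine ⟨K.mul_mem hxK hyK, ?_⟩
      rw [map_mul, map_mul, hx, hy, mul_assoc x, ← mul_assoc _ y, (hKc _ (hshift b x hxK) _ hyK).eq]
      simp only [mul_assoc]
    · rintro x _ ⟨hxK, hx⟩
      refine ⟨K.inv_mem hxK, ?_⟩
      rw [map_inv, map_inv, hx, mul_inv_rev]
      exact (hKc _ (K.inv_mem (hshift b x hxK)) _ (K.inv_mem hxK)).eq
  have hV1 : V = 1 := by
    have hb' : ∀ n : ℕ, MulAut.conj (h ^ n) V = V := fun n => by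
      induction n with
      | zero => simp
      | succ n ih => rw [pow_succ, map_mul MulAut.conj, MulAut.mul_apply, hhV, ih]
    have hb := hb' b
    have := hker V hVK
    rwa [hhV, hb, eq_comm, mul_eq_left] at this
  have hp : u ^ 2 = 1 := by rw [pow_two, h1]
  obtain ⟨φ, hφ1, hφ, -⟩ := exists_hom (p := 2) pb hp hz (mul_inv_eq_one.mp hV1).symm
  refine ⟨φ, hφ1, hφ, ?_⟩
  rw [hV1] at h6
  have hμ0 : pb.gen ≠ 0 := by
    intro h0
    rw [h0, zero_pow (by obtain ⟨j, rfl⟩ := he; omega)] at hgen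
    exact zero_ne_one hgen
  have hcu : ∀ i : ℤ, pb.gen ^ i = 1 → Commute (h ^ i) u := fun i hi => by
    have := SL2PresWeyl.conj_zpow hμ0 hφ i 1
    rw [hi, one_mul, hφ1] at this
    exact this
  have hge : pb.gen ^ (e : ℤ) = 1 := by rw [zpow_natCast, hgen]
  have zu : Commute z u := by
    have := hcu (3 * e : ℕ) (by rw [zpow_natCast, mul_comm, pow_mul, hgen, one_pow])
    rwa [zpow_natCast] at this
  have zt : Commute z t := by rw [← h5]; exact (Commute.refl t).mul_left (Commute.refl t)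
  have z3 : z ^ 3 = 1 := by
    have a1 : t * u * t = z⁻¹ * (u * t * u) := by
      calc t * u * t = (t * u) ^ 3 * (u⁻¹ * t⁻¹ * u⁻¹) := by
            simp only [pow_succ, pow_zero, one_mul, mul_assoc, mul_inv_cancel_left, mul_inv_cancel, mul_one]
        _ = u * (z⁻¹ * t) * u := by rw [h6, one_mul, hu2, ht_inv]
        _ = z⁻¹ * (u * t * u) := by
            rw [← mul_assoc u z⁻¹ t, ← zu.inv_left.eq]; simp only [mul_assoc]
    have a2 : z * (u * t) = z⁻¹ * (z⁻¹ * (u * t)) := by
      calc z * (u * t) = t * (t * u * t) := by rw [← h5]; simp only [mul_assoc]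
        _ = z⁻¹ * ((t * u * t) * u) := by
            rw [a1, ← mul_assoc t, ← zt.inv_left.eq, ← a1]; simp only [mul_assoc]
        _ = z⁻¹ * (z⁻¹ * (u * t)) := by rw [a1]; simp only [mul_assoc, h1, mul_one]
    rw [← mul_assoc z⁻¹, mul_right_cancel_iff, ← mul_inv_rev, eq_inv_iff_mul_eq_one] at a2
    rw [pow_succ, pow_two, mul_assoc, a2]
  have z1 : z = 1 := by
    have f1 : h ^ (N * (3 * e : ℕ)) = h ^ ((3 * e : ℕ) : ℤ) := by
      rw [← htci, zpow_natCast, MulAut.conj_apply, ← hzdef, zt.symm.eq, mul_inv_cancel_right]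
    have f2 : h ^ (((9 * e : ℕ) : ℤ)) = 1 := by
      rw [zpow_natCast, show 9 * e = 3 * e * 3 by ring, pow_mul, ← hzdef, z3]
    have f3 : h ^ (((3 * e : ℕ) : ℤ) - N * (3 * e : ℕ)) = 1 := by rw [zpow_sub, f1, mul_inv_cancel]
    have : ((3 * e : ℕ) : ℤ) = ((9 * e : ℕ) : ℤ) * (e + 1) - (((3 * e : ℕ) : ℤ) - N * (3 * e : ℕ)) := by
      simp only [N]; push_cast; ring
    rw [hzdef, ← zpow_natCast, this, zpow_sub, f3, zpow_mul, f2, one_zpow, inv_one, mul_one]
  have ht1 : t * t = 1 := by rw [h5]; exact z1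
  have hti : t⁻¹ = t := inv_eq_of_mul_eq_one_right ht1
  have hth : h * t * h = t := by
    have : h * t * h * t = 1 := by simpa [mul_assoc] using h4
    exact (eq_inv_of_mul_eq_one_left this).trans hti
  refine ⟨hth, ht1, ?_, h6⟩
  set w := h ^ ((2 * e : ℕ) : ℤ) with hwdef
  have wu : Commute w u := hcu _ (by rw [zpow_natCast, mul_comm, pow_mul, hgen, one_pow])
  have eu : Commute (h ^ (e : ℤ)) u := hcu _ hge
  have sc := SL2PresWeyl.semiconj_zpow hth
  have e1 : h ^ (e : ℤ) * (t * u) * (h ^ (e : ℤ))⁻¹ = w * t * u := by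
    rw [mul_assoc, mul_assoc t u, ← eu.inv_left.eq, ← mul_assoc t, ← zpow_neg, sc, hwdef,
      ← mul_assoc, ← mul_assoc, ← zpow_add]
    congr 3
    push_cast; ring
  have e2 : (w * t * u) ^ 3 = 1 := by rw [← e1, conj_pow, h6, mul_one, mul_inv_cancel]
  have tw : t * w = w⁻¹ * t := by
    have := sc (-((2 * e : ℕ) : ℤ))
    rwa [neg_neg, zpow_neg, ← hwdef] at this
  have e3 : w * t * u * (w * t * u) = t * u * (t * u) := by
    calc w * t * u * (w * t * u) = w * t * (u * w) * (t * u) := by simp only [mul_assoc]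
      _ = w * (t * w) * u * (t * u) := by rw [← wu.eq]; simp only [mul_assoc]
      _ = t * u * (t * u) := by rw [tw, mul_inv_cancel_left]
  have e4 : Commute (t * u * (t * u)) w := by
    have q1 : u * w = w * u := wu.eq.symm
    have q2 : t * w⁻¹ = w * t := by
      have := sc ((2 * e : ℕ) : ℤ)
      rwa [zpow_neg, ← hwdef] at this
    show t * u * (t * u) * w = w * (t * u * (t * u))
    calc t * u * (t * u) * w = t * u * (t * (u * w)) := by simp only [mul_assoc]
      _ = t * u * ((t * w) * u) := by rw [q1]; simp only [mul_assoc]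
      _ = t * (u * w⁻¹) * (t * u) := by rw [tw]; simp only [mul_assoc]
      _ = (t * w⁻¹) * u * (t * u) := by rw [← wu.inv_left.eq]; simp only [mul_assoc]
      _ = w * (t * u * (t * u)) := by rw [q2]; simp only [mul_assoc]
  have w1 : w = 1 := by
    calc w = w * (t * u) ^ 3 := by rw [h6, mul_one]
      _ = t * u * (t * u) * w * (t * u) := by
        rw [pow_succ, pow_two, ← mul_assoc, ← e4.eq]
      _ = (w * t * u) ^ 3 := by rw [pow_succ, pow_two, e3]; simp only [mul_assoc]
      _ = 1 := e2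
  have : h ^ (3 * e) = h ^ e * w := by rw [hwdef, zpow_natCast, ← pow_add]; congr 1; omega
  rw [w1, mul_one, ← hzdef, z1] at this
  exact this.symm

end Cfsg.Agent.SL2PresTwo
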