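import Cfsg.Agent.Lib.SL2PresData

/-!
Relators for the unipotent part of short presentations of `SL(2, q)`, and the assembly lemma that
turns relators into an isomorphism with a target group.
-/

set_option autoImplicit false

namespace Cfsg.Agent.SL2PresURels

open SL2PresAbel SL2PresData
open Multiplicative (ofAdd)

/-- words in three letters -/
abbrev FG := FreeGroup (Fin 3)

/-- first letter -/
def gU : FG := FreeGroup.of 0
/-- second letter -/
def gH : FG := FreeGroup.of 1
/-- third letter -/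
def gT : FG := FreeGroup.of 2

/-- all relators of `L` vanish at the triple -/
def Sat {G : Type*} [Group G] (L : List FG) (U H T : G) : Prop :=
  ∀ r ∈ L, FreeGroup.lift ![U, H, T] r = 1

variable {G : Type*} [Group G]

theorem lift_gU (U H T : G) : FreeGroup.lift ![U, H, T] gU = U := by simp [gU]
theorem lift_gH (U H T : G) : FreeGroup.lift ![U, H, T] gH = H := by simp [gH]
theorem lift_gT (U H T : G) : FreeGroup.lift ![U, H, T] gT = T := by simp [gT]

theorem Sat.left {L M : List FG} {U H T : G} (h : Sat (L ++ M) U H T) : Sat L U H T :=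
  fun r hr => h r (List.mem_append_left M hr)

theorem Sat.right {L M : List FG} {U H T : G} (h : Sat (L ++ M) U H T) : Sat M U H T :=
  fun r hr => h r (List.mem_append_right L hr)

theorem Sat.append {L M : List FG} {U H T : G} (h : Sat L U H T) (h' : Sat M U H T) : Sat (L ++ M) U H T :=
  fun r hr => (List.mem_append.mp hr).elim (h r) (h' r)

/-- relators and injectivity give a presentation -/
theorem pres {Q : Type*} [Group Q] (L : List FG) (n : ℕ) (hn : L.length ≤ n) (U H T : Q)
    (hsat : Sat L U H T) (hsurj : ∀ K : Subgroup Q, U ∈ K → H ∈ K → T ∈ K → K = ⊤)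
    (hinj : ∀ (G : Type) [Group G] (u h t : G) (π : G →* Q), π u = U → π h = H → π t = T →
      Subgroup.closure ({u, h, t} : Set G) = ⊤ → Sat L u h t → Function.Injective π) :
    ∃ rels : Finset FG, rels.card ≤ n ∧ Nonempty (PresentedGroup (↑rels : Set FG) ≃* Q) := by
  classical
  refine ⟨L.toFinset, (List.toFinset_card_le L).trans hn, ?_⟩
  set R : Set FG := ↑L.toFinset
  let π : PresentedGroup R →* Q := PresentedGroup.toGroup (f := ![U, H, T])
    (fun r hr => hsat r (by simpa [R] using hr))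
  have hπ : ∀ x, π (PresentedGroup.of x) = ![U, H, T] x := fun x => PresentedGroup.toGroup.of _
  refine ⟨MulEquiv.ofBijective π ⟨hinj _ (.of 0) (.of 1) (.of 2) π (hπ 0) (hπ 1) (hπ 2) ?_ ?_, ?_⟩⟩
  · rw [eq_top_iff, ← PresentedGroup.closure_range_of R]
    refine Subgroup.closure_mono ?_
    rintro _ ⟨x, rfl⟩
    fin_cases x <;> simp
  · intro r hr
    have e : FreeGroup.lift ![(PresentedGroup.of 0 : PresentedGroup R), PresentedGroup.of 1, PresentedGroup.of 2] =
        PresentedGroup.mk R := FreeGroup.ext_hom _ _ fun x => by fin_cases x <;> simp [PresentedGroup.of]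
    rw [e]
    exact PresentedGroup.one_of_mem (by simpa [R] using hr)
  · rw [← MonoidHom.range_eq_top]
    exact hsurj _ ⟨_, hπ 0⟩ ⟨_, hπ 1⟩ ⟨_, hπ 2⟩

variable {F : Type*} [Field F] {p : ℕ} [Fact p.Prime] [Algebra (ZMod p) F]

theorem cj_succ (h u : G) (n : ℕ) : cj h u (n + 1) = h * cj h u n * h⁻¹ := by
  simp [cj, pow_succ', mul_assoc]

theorem cj_hom {φ : Multiplicative F →* G} {h : G} {μ : F}
    (hφ : ∀ r, h * φ (ofAdd r) * h⁻¹ = φ (ofAdd (μ * r))) (i : ℕ) (r : F) :
    cj h (φ (ofAdd r)) i = φ (ofAdd (μ ^ i * r)) := by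
  induction i with
  | zero => simp [cj_zero]
  | succ i ih => rw [cj_succ, ih, hφ, pow_succ', mul_assoc]

theorem word_eq (pb : PowerBasis (ZMod p) F) {φ : Multiplicative F →* G} {h : G}
    (hφ : ∀ r, h * φ (ofAdd r) * h⁻¹ = φ (ofAdd (pb.gen * r))) (r : F) :
    word pb h (φ (ofAdd 1)) r = φ (ofAdd r) := by
  have e : ∀ i : Fin pb.dim, cj h (φ (ofAdd 1)) i ^ (pb.basis.repr r i).val =
      φ (ofAdd ((pb.basis.repr r i) • pb.basis i)) := by
    intro i
    rw [cj_hom hφ, mul_one, ← map_pow, ← ofAdd_nsmul, PowerBasis.coe_basis,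
      ← Nat.cast_smul_eq_nsmul (ZMod p), ZMod.natCast_zmod_val]
  simp only [word, e]
  rw [← Function.comp_def φ, ← List.map_ofFn, ← map_list_prod, List.prod_ofFn, ← ofAdd_sum, pb.basis.sum_repr]

theorem pow_p_eq_one (φ : Multiplicative F →* G) (r : F) : φ (ofAdd r) ^ p = 1 := by
  haveI : CharP F p := charP_of_injective_algebraMap (algebraMap (ZMod p) F).injective p
  rw [← map_pow, ← ofAdd_nsmul, nsmul_eq_mul, CharP.cast_eq_zero, zero_mul, ofAdd_zero, map_one]

theorem exists_pb [Fintype F] {x : F} (hx : Algebra.adjoin (ZMod p) {x} = ⊤) :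
    ∃ pb : PowerBasis (ZMod p) F, pb.gen = x ∧ Fintype.card F = p ^ pb.dim := by
  haveI : Module.Finite (ZMod p) F := Module.Finite.of_finite
  refine ⟨PowerBasis.ofAdjoinEqTop (IsIntegral.of_finite (ZMod p) x) hx, PowerBasis.ofAdjoinEqTop_gen _ _, ?_⟩
  rw [← Nat.card_eq_fintype_card, Module.natCard_eq_pow_finrank (K := ZMod p), Nat.card_zmod,
    PowerBasis.finrank]

/-- relators `L` force a copy of the field with `h` acting as multiplication by `μ` -/
def Complete (μ : F) (L : List FG) : Prop :=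
  ∀ (G : Type) [Group G] (u h t : G), Sat L u h t → ∃ φ : Multiplicative F →* G,
    φ (ofAdd 1) = u ∧ ∀ r, h * φ (ofAdd r) * h⁻¹ = φ (ofAdd (μ * r))

/-- relators for small degree -/
noncomputable def smallRels (pb : PowerBasis (ZMod p) F) : List FG :=
  [gU ^ p, gU * cj gH gU 1 * (cj gH gU 1 * gU)⁻¹, cj gH gU pb.dim * (word pb gH gU (pb.gen ^ pb.dim))⁻¹]

theorem small_complete (pb : PowerBasis (ZMod p) F) (hd : pb.dim ≤ 2) :
    Complete pb.gen (smallRels pb) := by
  intro G _ u h t hs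
  simp only [Sat, smallRels, List.forall_mem_cons, List.not_mem_nil, false_imp_iff, implies_true, and_true,
    map_mul, map_inv, map_pow, map_cj, map_word, lift_gU, lift_gH, mul_inv_eq_one] at hs
  obtain ⟨h1, h2, h3⟩ := hs
  have hpos := pb.dim_pos
  have hcomm : ∀ n, Commute u (cj h u n) := by
    refine commute_cj_of_stable ((cj h u) '' {i | i < pb.dim}) ?_ ?_ ?_
    · rintro _ ⟨i, hi, rfl⟩ _ ⟨j, hj, rfl⟩
      rw [Set.mem_setOf_eq] at hi hj
      have c : Commute (cj h u 0) (cj h u 1) := by rw [cj_zero]; exact h2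
      have hi2 : i < 2 := by omega
      have hj2 : j < 2 := by omega
      interval_cases i <;> interval_cases j <;>
        first
          | exact Commute.refl _
          | exact c
          | exact c.symm
    · exact Subgroup.subset_closure ⟨0, hpos, cj_zero h u⟩
    · rintro _ ⟨i, hi, rfl⟩
      rw [MulAut.conj_apply, ← cj_succ]
      rw [Set.mem_setOf_eq] at hi
      rcases Nat.lt_or_ge (i + 1) pb.dim with hlt | hge
      · exact Subgroup.subset_closure ⟨i + 1, hlt, rfl⟩
      · rw [show i + 1 = pb.dim by omega, h3]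
        exact word_mem pb _ fun j hj => Subgroup.subset_closure ⟨j, hj, rfl⟩
  obtain ⟨φ, hφ1, hφ, -⟩ := exists_hom pb h1 hcomm h3
  exact ⟨φ, hφ1, hφ⟩

/-- relators from a pair of torus powers -/
noncomputable def pairRels (pb pb' : PowerBasis (ZMod p) F) (a b : ℕ) : List FG :=
  [gU ^ p, cj gH gU a * (gU * cj gH gU b)⁻¹, gU * cj gH gU b * (cj gH gU b * gU)⁻¹,
    cj gH gU 1 * (word pb' (gH ^ a) gU pb.gen)⁻¹, cj gH gU pb.dim * (word pb gH gU (pb.gen ^ pb.dim))⁻¹]

theorem pair_complete (pb pb' : PowerBasis (ZMod p) F) (a b : ℕ) :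
    Complete pb.gen (pairRels pb pb' a b) := by
  intro G _ u h t hs
  simp only [Sat, pairRels, List.forall_mem_cons, List.not_mem_nil, false_imp_iff, implies_true, and_true,
    map_mul, map_inv, map_pow, map_cj, map_word, lift_gU, lift_gH, mul_inv_eq_one] at hs
  obtain ⟨h1, h2, h2', h4, h5⟩ := hs
  have hxy : Commute (h ^ a) (h ^ b) := (Commute.refl h).pow_pow a b
  have hz := commute_cj_of_pair (u := u) hxy h2 h2'
  have hx := commute_cj_of_zero hz
  have hcomm : ∀ n, Commute u (cj h u n) := by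
    refine commute_cj_of_stable (Set.range (cj (h ^ a) u)) ?_ ?_ ?_
    · rintro _ ⟨i, rfl⟩ _ ⟨j, rfl⟩; exact hx i j
    · exact Subgroup.subset_closure ⟨0, cj_zero _ u⟩
    · rintro _ ⟨i, rfl⟩
      have e : MulAut.conj h (cj (h ^ a) u i) = MulAut.conj ((h ^ a) ^ i) (MulAut.conj h u) := by
        rw [cj, ← MulAut.conj_apply, ← MulAut.mul_apply, ← MulAut.mul_apply, ← map_mul, ← map_mul,
          (((Commute.refl h).pow_right a).pow_right i).eq]
      have hw : MulAut.conj h u ∈ Subgroup.closure (Set.range (cj (h ^ a) u)) := by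
        rw [show MulAut.conj h u = cj h u 1 by simp [cj], h4]
        exact word_mem pb' _ fun j _ => Subgroup.subset_closure ⟨j, rfl⟩
      rw [e]
      have hle : Subgroup.closure (Set.range (cj (h ^ a) u)) ≤
          (Subgroup.closure (Set.range (cj (h ^ a) u))).comap (MulAut.conj ((h ^ a) ^ i)).toMonoidHom :=
        (Subgroup.closure_le _).mpr (by
          rintro _ ⟨j, rfl⟩
          exact Subgroup.subset_closure ⟨i + j, (conj_cj _ u i j).symm⟩)
      exact hle hw
  obtain ⟨φ, hφ1, hφ, -⟩ := exists_hom pb h1 hcomm h5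
  exact ⟨φ, hφ1, hφ⟩

/-- at most five relators for the unipotent part, odd characteristic -/
theorem uRels [Fintype F] {ζ : Fˣ} (hζ : ∀ y, y ∈ Subgroup.zpowers ζ) (hodd : Odd (Fintype.card F))
    (h2 : (2 : F) ≠ 0) (pb : PowerBasis (ZMod p) F) (hgen : pb.gen = (ζ : F) ^ 2)
    (hcard : Fintype.card F = p ^ pb.dim) {Q : Type*} [Group Q] {φ : Multiplicative F →* Q} {H T : Q}
    (hφ : ∀ r, H * φ (ofAdd r) * H⁻¹ = φ (ofAdd (pb.gen * r))) :
    ∃ L : List FG, L.length ≤ 5 ∧ Sat L (φ (ofAdd 1)) H T ∧ Complete pb.gen L := by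
  have hcd : ∀ r s : F, φ (ofAdd r) * φ (ofAdd s) = φ (ofAdd s) * φ (ofAdd r) := fun r s =>
    ((Commute.all (ofAdd r) (ofAdd s)).map φ).eq
  by_cases hd : pb.dim ≤ 2
  · refine ⟨smallRels pb, by simp [smallRels], ?_, small_complete pb hd⟩
    simp only [Sat, smallRels, List.forall_mem_cons, List.not_mem_nil, false_imp_iff, implies_true, and_true,
      map_mul, map_inv, map_pow, map_cj, map_word, lift_gU, lift_gH, mul_inv_eq_one]
    refine ⟨pow_p_eq_one φ 1, ?_, ?_⟩
    · rw [cj_hom hφ]; exact hcd _ _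
    · rw [word_eq pb hφ, cj_hom hφ, mul_one]
  · have hp3 : 3 ≤ p := by
      obtain ⟨j, hj⟩ := hodd.of_dvd_nat (show p ∣ Fintype.card F by rw [hcard]; exact dvd_pow_self _ (by omega))
      have := (Fact.out : p.Prime).two_le
      omega
    have h9 : 9 < Fintype.card F := by
      rw [hcard]
      calc 9 < 3 ^ 3 := by norm_num
        _ ≤ p ^ 3 := Nat.pow_le_pow_left hp3 3
        _ ≤ p ^ pb.dim := Nat.pow_le_pow_right (by omega) (by omega)
    obtain ⟨a, b, hab, hy⟩ := exists_pair (p := p) hζ hodd h9 h2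
    obtain ⟨pb', hgen', -⟩ := exists_pb hy
    refine ⟨pairRels pb pb' a b, by simp [pairRels], ?_, pair_complete pb pb' a b⟩
    simp only [Sat, pairRels, List.forall_mem_cons, List.not_mem_nil, false_imp_iff, implies_true, and_true,
      map_mul, map_inv, map_pow, map_cj, map_word, lift_gU, lift_gH, mul_inv_eq_one]
    refine ⟨pow_p_eq_one φ 1, ?_, ?_, ?_, ?_⟩
    · rw [cj_hom hφ, cj_hom hφ, ← map_mul, ← ofAdd_add, mul_one, mul_one, hgen, hab]
    · rw [cj_hom hφ]; exact hcd _ _
    · have hy' : ∀ r, H ^ a * φ (ofAdd r) * (H ^ a)⁻¹ = φ (ofAdd (pb'.gen * r)) := fun r => by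
        rw [hgen', ← hgen]; exact cj_hom hφ a r
      rw [word_eq pb' hy', cj_hom hφ, pow_one, mul_one]
    · rw [word_eq pb hφ, cj_hom hφ, mul_one]

end Cfsg.Agent.SL2PresURels
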