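import Mathlib
import Cfsg.Agent.Lib.ChevalleySL2

/-!
Irreducible quadratic modules for `SL₂(F)` in the defining characteristic are natural.
-/

set_option autoImplicit false

namespace Cfsg.Agent.SL2QuadraticModule

open Matrix
open scoped MatrixGroups
open ChevalleySL2 (upper lower wel)

variable {F : Type*} [Field F]

/-- The torus element. -/
def tor (t : F) (ht : t ≠ 0) : SL(2, F) := ⟨!![t, 0; 0, t⁻¹], by simp [det_fin_two_of, ht]⟩

theorem ext' {g h : SL(2, F)} (e : (g : Matrix (Fin 2) (Fin 2) F) = (h : Matrix (Fin 2) (Fin 2) F)) :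
    g = h := Subtype.ext e

theorem coe_mul' (g h : SL(2, F)) : ((g * h : SL(2, F)) : Matrix (Fin 2) (Fin 2) F) =
    (g : Matrix (Fin 2) (Fin 2) F) * (h : Matrix (Fin 2) (Fin 2) F) := rfl

theorem coe_one' : ((1 : SL(2, F)) : Matrix (Fin 2) (Fin 2) F) = 1 := rfl

theorem upper_coe (t : F) : (upper t : Matrix (Fin 2) (Fin 2) F) = !![1, t; 0, 1] := rfl
theorem lower_coe (t : F) : (lower t : Matrix (Fin 2) (Fin 2) F) = !![1, 0; t, 1] := rfl
theorem wel_coe : ((wel : SL(2, F)) : Matrix (Fin 2) (Fin 2) F) = !![0, 1; -1, 0] := rfl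
theorem tor_coe (t : F) (ht : t ≠ 0) :
    (tor t ht : Matrix (Fin 2) (Fin 2) F) = !![t, 0; 0, t⁻¹] := rfl

theorem upper_add (a b : F) : upper a * upper b = upper (a + b) := by
  apply ext'
  rw [coe_mul', upper_coe, upper_coe, upper_coe]
  ext i j
  fin_cases i <;> fin_cases j <;> simp [Matrix.mul_apply, Fin.sum_univ_two, add_comm]

theorem upper_zero : upper (0 : F) = 1 := by
  apply ext'
  rw [upper_coe, coe_one']
  ext i j
  fin_cases i <;> fin_cases j <;> simp

theorem wel_upper (t : F) : wel * upper t = lower (-t) * wel := by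
  apply ext'
  simp only [coe_mul', upper_coe, lower_coe, wel_coe]
  ext i j
  fin_cases i <;> fin_cases j <;> simp [Matrix.mul_apply, Fin.sum_univ_two]

theorem wel_lower (t : F) : wel * lower t = upper (-t) * wel := by
  apply ext'
  simp only [coe_mul', upper_coe, lower_coe, wel_coe]
  ext i j
  fin_cases i <;> fin_cases j <;> simp [Matrix.mul_apply, Fin.sum_univ_two]

theorem tor_upper (t : F) (ht : t ≠ 0) (a : F) : upper (t * t * a) * tor t ht = tor t ht * upper a := by
  apply ext'
  simp only [coe_mul', upper_coe, tor_coe]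
  ext i j
  fin_cases i <;> fin_cases j <;> simp [Matrix.mul_apply, Fin.sum_univ_two] <;> field_simp

theorem tor_lower (t : F) (ht : t ≠ 0) (a : F) :
    lower (a * (t⁻¹ * t⁻¹)) * tor t ht = tor t ht * lower a := by
  apply ext'
  simp only [coe_mul', lower_coe, tor_coe]
  ext i j
  fin_cases i <;> fin_cases j <;> simp [Matrix.mul_apply, Fin.sum_univ_two] <;> field_simp

theorem tor_wel (t : F) (ht : t ≠ 0) :
    upper t * lower (-t⁻¹) * upper t = tor t ht * wel := by
  apply ext'
  simp only [coe_mul', upper_coe, lower_coe, tor_coe, wel_coe]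
  ext i j
  fin_cases i <;> fin_cases j <;> simp [Matrix.mul_apply, Fin.sum_univ_two, ht]

theorem tor_mul (s t : F) (hs : s ≠ 0) (ht : t ≠ 0) :
    tor s hs * tor t ht = tor (s * t) (mul_ne_zero hs ht) := by
  apply ext'
  simp only [coe_mul', tor_coe]
  ext i j
  fin_cases i <;> fin_cases j <;> simp [Matrix.mul_apply, Fin.sum_univ_two, mul_comm]

theorem tor_one : tor (1 : F) one_ne_zero = 1 := by
  apply ext'
  rw [tor_coe, coe_one']
  ext i j
  fin_cases i <;> fin_cases j <;> simp

section Action

variable {M : Type*} [AddCommGroup M] (π : SL(2, F) →* AddMonoid.End M)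

theorem act_mul (g h : SL(2, F)) (v : M) : π (g * h) v = π g (π h v) := by
  rw [map_mul]; rfl

theorem act_one (v : M) : π 1 v = v := by rw [map_one]; rfl

theorem act_injective (g : SL(2, F)) : Function.Injective (π g) := by
  intro a b h
  have := congrArg (π g⁻¹) h
  rwa [← act_mul, ← act_mul, inv_mul_cancel, act_one, act_one] at this

/-- Fixed points of the upper root group. -/
def fixU : AddSubgroup M where
  carrier := {v | ∀ t : F, π (upper t) v = v}
  zero_mem' := fun _ => map_zero _
  add_mem' := fun ha hb t => by rw [map_add, ha t, hb t]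
  neg_mem' := fun ha t => by rw [map_neg, ha t]

/-- Fixed points of the lower root group. -/
def fixL : AddSubgroup M where
  carrier := {v | ∀ t : F, π (lower t) v = v}
  zero_mem' := fun _ => map_zero _
  add_mem' := fun ha hb t => by rw [map_add, ha t, hb t]
  neg_mem' := fun ha t => by rw [map_neg, ha t]

theorem wel_fixU {v : M} (hv : v ∈ fixU π) : π wel v ∈ fixL π := fun t => by
  have h := wel_upper (-t : F)
  rw [neg_neg] at h
  rw [← act_mul, ← h, act_mul, hv]

theorem wel_fixL {v : M} (hv : v ∈ fixL π) : π wel v ∈ fixU π := fun t => by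
  have h := wel_lower (-t : F)
  rw [neg_neg] at h
  rw [← act_mul, ← h, act_mul, hv]

theorem tor_fixU {v : M} (hv : v ∈ fixU π) (t : F) (ht : t ≠ 0) : π (tor t ht) v ∈ fixU π := fun a => by
  have h := tor_upper t ht ((t⁻¹ * t⁻¹) * a)
  rw [show t * t * (t⁻¹ * t⁻¹ * a) = a by field_simp] at h
  rw [← act_mul, h, act_mul, hv]

theorem tor_fixL {v : M} (hv : v ∈ fixL π) (t : F) (ht : t ≠ 0) : π (tor t ht) v ∈ fixL π := fun a => by
  have h := tor_lower t ht (a * (t * t))
  rw [show a * (t * t) * (t⁻¹ * t⁻¹) = a by field_simp] at h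
  rw [← act_mul, h, act_mul, hv]

/-- The Weyl elements exchange the two fixed spaces. -/
theorem weyl_fixU {v : M} (hv : v ∈ fixU π) (t : F) (ht : t ≠ 0) :
    π (tor t ht * wel) v ∈ fixL π := by
  rw [act_mul]; exact tor_fixL π (wel_fixU π hv) t ht

theorem weyl_fixL {v : M} (hv : v ∈ fixL π) (t : F) (ht : t ≠ 0) :
    π (tor t ht * wel) v ∈ fixU π := by
  rw [act_mul]; exact tor_fixU π (wel_fixL π hv) t ht

/-- An additive subgroup invariant under the generators is invariant. -/
theorem inv_of_gens {W : AddSubgroup M} (hu : ∀ t, ∀ v ∈ W, π (upper t) v ∈ W)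
    (hw : ∀ v ∈ W, π wel v ∈ W) (g : SL(2, F)) : ∀ v ∈ W, π g v ∈ W := by
  have hg : g ∈ Submonoid.closure (Set.range (upper : F → SL(2, F)) ∪ {wel}) := by
    rw [ChevalleySL2.gen_top]; exact Submonoid.mem_top _
  induction hg using Submonoid.closure_induction with
  | mem a ha =>
    rcases ha with ⟨t, rfl⟩ | rfl
    · exact hu t
    · exact hw
  | one => intro v hv; rw [act_one]; exact hv
  | mul a b _ _ ha hb => intro v hv; rw [act_mul]; exact ha _ (hb v hv)

/-- Quadratic behaviour of a root element on a vector fixed by the opposite root group. -/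
theorem weyl_value (hdis : ∀ v, v ∈ fixU π → v ∈ fixL π → v = 0)
    (hsum : ∀ v : M, ∃ a ∈ fixU π, ∃ b ∈ fixL π, v = a + b) {v : M} (hv : v ∈ fixL π) (t : F) (ht : t ≠ 0)
    (hq : π (upper t) v - v ∈ fixU π) :
    π (upper t) v - v = π (tor t ht * wel) v ∧ π (tor t ht * wel) (π (upper t) v - v) = -v := by
  set x := π (upper t) v - v with hx
  have hux : π (upper t) x = x := hq t
  have huv : π (upper t) v = v + x := by rw [hx, add_sub_cancel]
  obtain ⟨y, hy, z, hz, hyz⟩ := hsum (π (lower (-t⁻¹)) x)
  have hwv : π (tor t ht * wel) v = v + x + y + π (upper t) z := by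
    rw [← tor_wel t ht, act_mul, act_mul, huv, map_add, hv, hyz, map_add, map_add, huv, hy t]
    abel
  have h1 := weyl_fixL π hv t ht
  rw [hwv] at h1
  have h2 : π (upper t) (v + z) ∈ fixU π := by
    have h3 := sub_mem h1 hy
    rw [map_add, huv]
    convert h3 using 1
    abel
  have h4 : v + z ∈ fixU π := by
    have e : π (upper (-t)) (π (upper t) (v + z)) = v + z := by
      rw [← act_mul, upper_add, neg_add_cancel, upper_zero, act_one]
    rw [← e, h2 (-t)]
    exact h2
  have hzv : z = -v := eq_neg_of_add_eq_zero_right (hdis _ h4 (add_mem hv hz))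
  have hwv' : π (tor t ht * wel) v = y := by
    rw [hwv, hzv, map_neg, huv]; abel
  have hwx : π (tor t ht * wel) x = y - x - v := by
    rw [← tor_wel t ht, act_mul, act_mul, hux, hyz, map_add, hy t, hzv, map_neg, huv]
    abel
  have hyx : y = x := by
    have h5 := weyl_fixU π hq t ht
    rw [hwx] at h5
    have h6 : y - x ∈ fixL π := by simpa using add_mem h5 hv
    exact sub_eq_zero.1 (hdis _ (sub_mem hy hq) h6)
  refine ⟨by rw [hwv', hyx], ?_⟩
  rw [hwx, hyx, sub_self, zero_sub]

/-- The main theorem. -/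
theorem natural [Fintype F] [Finite M] {p : ℕ} [Fact p.Prime] (hchar : ∃ n, Fintype.card F = p ^ n)
    (hM : ∀ v : M, p • v = 0)
    (hirr : ∀ W : AddSubgroup M, (∀ g, ∀ v ∈ W, π g v ∈ W) → W = ⊥ ∨ W = ⊤)
    (hnt : ∃ g, ∃ v, π g v ≠ v)
    (hyp : (∀ (v : M) (s t : F), π (upper s) (π (upper t) v - v) = π (upper t) v - v) ∨
      Nat.card M ≤ Nat.card (fixU π) ^ 2) :
    ∃ Φ : (Fin 2 → F) → M, Function.Bijective Φ ∧ (∀ a b, Φ (a + b) = Φ a + Φ b) ∧
      ∀ (g : SL(2, F)) (a : Fin 2 → F), π g (Φ a) = Φ ((g : Matrix (Fin 2) (Fin 2) F) *ᵥ a) := by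
  classical
  -- the root groups together fix nothing
  have hdis : ∀ v, v ∈ fixU π → v ∈ fixL π → v = 0 := by
    intro v hv hv'
    have hwel : ∀ x : M, x ∈ fixU π → x ∈ fixL π → π wel x = x := by
      intro x hx hx'
      have h := tor_wel (1 : F) one_ne_zero
      rw [tor_one, one_mul] at h
      rw [← h, act_mul, act_mul, hx, hx', hx]
    let W : AddSubgroup M := fixU π ⊓ fixL π
    have hinv : ∀ g, ∀ x ∈ W, π g x ∈ W := inv_of_gens π
      (fun t x hx => by rw [hx.1 t]; exact hx) (fun x hx => by rw [hwel x hx.1 hx.2]; exact hx)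
    rcases hirr W hinv with h | h
    · exact (AddSubgroup.eq_bot_iff_forall _).1 h v ⟨hv, hv'⟩
    · exfalso
      obtain ⟨g, x, hx⟩ := hnt
      apply hx
      have hall : ∀ y : M, y ∈ W := fun y => by rw [h]; trivial
      clear hx
      have hg : g ∈ Submonoid.closure (Set.range (upper : F → SL(2, F)) ∪ {wel}) := by
        rw [ChevalleySL2.gen_top]; exact Submonoid.mem_top _
      induction hg using Submonoid.closure_induction generalizing x with
      | mem a ha =>
        rcases ha with ⟨t, rfl⟩ | rfl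
        · exact (hall x).1 t
        · exact hwel x (hall x).1 (hall x).2
      | one => exact act_one π x
      | mul a b _ _ ha hb => rw [act_mul, hb, ha]
  -- the two fixed spaces span
  have hsum : ∀ v : M, ∃ a ∈ fixU π, ∃ b ∈ fixL π, v = a + b := by
    rcases hyp with hq | hc
    · have hcomm : ∀ (v : M) (t : F), π (upper t) v - v ∈ fixU π := fun v t s => hq v s t
      have hcommL : ∀ (v : M) (t : F), π (lower t) v - v ∈ fixL π := by
        intro v t
        obtain ⟨u, rfl⟩ : ∃ u, π wel u = v := Finite.injective_iff_surjective.1 (act_injective π wel) v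
        have h := wel_upper (-t : F)
        rw [neg_neg] at h
        have := wel_fixU π (hcomm u (-t))
        rwa [map_sub, ← act_mul, h, act_mul] at this
      let W : AddSubgroup M := fixU π ⊔ fixL π
      have hinv : ∀ g, ∀ x ∈ W, π g x ∈ W := by
        refine inv_of_gens π (fun t x hx => ?_) (fun x hx => ?_)
        · have := add_mem hx (AddSubgroup.mem_sup_left (T := fixL π) (hcomm x t))
          rwa [add_sub_cancel] at this
        · obtain ⟨a, ha, b, hb, rfl⟩ := AddSubgroup.mem_sup.1 hx
          rw [map_add]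
          exact add_mem (AddSubgroup.mem_sup_right (wel_fixU π ha))
            (AddSubgroup.mem_sup_left (wel_fixL π hb))
      rcases hirr W hinv with h | h
      · exfalso
        obtain ⟨g, x, hx⟩ := hnt
        have hu : ∀ (y : M) (t : F), π (upper t) y = y := fun y t => sub_eq_zero.1
          ((AddSubgroup.eq_bot_iff_forall _).1 h _ (AddSubgroup.mem_sup_left (hcomm y t)))
        exact hx (sub_eq_zero.1 (sub_eq_zero.2 (by
          have : x = 0 := (AddSubgroup.eq_bot_iff_forall _).1 h x
            (AddSubgroup.mem_sup_left (fun t => hu x t))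
          rw [this, map_zero])))
      · intro v
        obtain ⟨a, ha, b, hb, rfl⟩ := AddSubgroup.mem_sup.1 (show v ∈ W by rw [h]; trivial)
        exact ⟨a, ha, b, hb, rfl⟩
    · -- counting
      let f : fixU π × fixU π → M := fun x => (x.1 : M) + π wel (x.2 : M)
      have hf : Function.Injective f := by
        intro x y hxy
        have he : (x.1 : M) - y.1 = π wel ((y.2 : M) - x.2) := by
          simp only [f] at hxy
          rw [map_sub, sub_eq_sub_iff_add_eq_add, hxy]; abel
        have h0 := hdis _ (sub_mem x.1.2 y.1.2) (he ▸ wel_fixU π (sub_mem y.2.2 x.2.2))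
        have h2 : (y.2 : M) - x.2 = 0 := act_injective π wel (by rw [← he, h0, map_zero])
        exact Prod.ext (Subtype.ext (sub_eq_zero.1 h0)) (Subtype.ext (sub_eq_zero.1 h2).symm)
      have := Fintype.ofFinite M
      have := Fintype.ofFinite (fixU π)
      have hbij : Function.Bijective f := (Fintype.bijective_iff_injective_and_card f).2 ⟨hf, by
        refine le_antisymm (Fintype.card_le_of_injective f hf) ?_
        rw [Fintype.card_prod, ← pow_two, ← Nat.card_eq_fintype_card, ← Nat.card_eq_fintype_card]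
        exact hc⟩
      intro v
      obtain ⟨x, rfl⟩ := hbij.2 v
      exact ⟨_, x.1.2, _, wel_fixU π x.2.2, rfl⟩
  -- vectors of `fixL` moved by `U` into `fixU` only
  let K : AddSubgroup M :=
    { carrier := {v | v ∈ fixL π ∧ ∀ t, π (upper t) v - v ∈ fixU π}
      zero_mem' := ⟨zero_mem _, fun t => by rw [map_zero, sub_zero]; exact zero_mem _⟩
      add_mem' := fun {a b} ha hb => ⟨add_mem ha.1 hb.1, fun t => by
        rw [map_add, add_sub_add_comm]; exact add_mem (ha.2 t) (hb.2 t)⟩
      neg_mem' := fun {a} ha => ⟨neg_mem ha.1, fun t => by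
        rw [map_neg, neg_sub_neg, ← neg_sub]; exact neg_mem (ha.2 t)⟩ }
  -- the values lie in the image of `K` under `wel`
  have himg : ∀ v ∈ K, ∀ t (ht : t ≠ 0), ∃ k ∈ K, π wel k = π (upper t) v - v := by
    intro v hv t ht
    have hk : π (tor t⁻¹ (inv_ne_zero ht)) v ∈ K := by
      refine ⟨tor_fixL π hv.1 _ _, fun a => ?_⟩
      have h := tor_upper t⁻¹ (inv_ne_zero ht) (t * t * a)
      rw [show t⁻¹ * t⁻¹ * (t * t * a) = a by field_simp] at h
      rw [← act_mul, h, act_mul, ← map_sub]
      exact tor_fixU π (hv.2 _) _ _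
    refine ⟨_, hk, ?_⟩
    rw [(weyl_value π hdis hsum hv.1 t ht (hv.2 t)).1, ← act_mul]
    congr 2
    apply ext'
    simp only [coe_mul', tor_coe, wel_coe]
    ext i j
    fin_cases i <;> fin_cases j <;> simp [Matrix.mul_apply, Fin.sum_univ_two]
  have hKall : ∀ v ∈ fixL π, ∀ t, π (upper t) v - v ∈ fixU π := by
    let W : AddSubgroup M := K ⊔ K.map (π wel)
    have hmem : ∀ x ∈ W, ∃ k ∈ K, ∃ l ∈ K, x = k + π wel l := by
      intro x hx
      obtain ⟨k, hk, y, ⟨l, hl, rfl⟩, rfl⟩ := AddSubgroup.mem_sup.1 hx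
      exact ⟨k, hk, l, hl, rfl⟩
    have hinv : ∀ g, ∀ x ∈ W, π g x ∈ W := by
      refine inv_of_gens π (fun t x hx => ?_) (fun x hx => ?_)
      · obtain ⟨k, hk, l, hl, rfl⟩ := hmem x hx
        rw [map_add, wel_fixL π hl.1 t]
        refine add_mem ?_ (AddSubgroup.mem_sup_right ⟨l, hl, rfl⟩)
        by_cases ht : t = 0
        · rw [ht, upper_zero, act_one]; exact AddSubgroup.mem_sup_left hk
        · obtain ⟨m, hm, he⟩ := himg k hk t ht
          rw [← add_sub_cancel k (π (upper t) k), ← he]
          exact add_mem (AddSubgroup.mem_sup_left hk) (AddSubgroup.mem_sup_right ⟨m, hm, rfl⟩)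
      · obtain ⟨k, hk, l, hl, rfl⟩ := hmem x hx
        rw [map_add]
        refine add_mem (AddSubgroup.mem_sup_right ⟨k, hk, rfl⟩) (AddSubgroup.mem_sup_left ?_)
        have e : π wel (π wel l) = π (tor (-1 : F) (neg_ne_zero.2 one_ne_zero)) l := by
          rw [← act_mul]
          congr 2
          apply ext'
          simp only [coe_mul', tor_coe, wel_coe]
          ext i j
          fin_cases i <;> fin_cases j <;> simp [Matrix.mul_apply, Fin.sum_univ_two]
        rw [e]
        refine ⟨tor_fixL π hl.1 _ _, fun a => ?_⟩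
        have h := tor_upper (-1 : F) (neg_ne_zero.2 one_ne_zero) a
        rw [show (-1 : F) * -1 * a = a by ring] at h
        rw [← act_mul, h, act_mul, ← map_sub]
        exact tor_fixU π (hl.2 a) _ _
    rcases hirr W hinv with h | h
    · -- a fixed point of the p-group `U` on `M / fixU`
      exfalso
      obtain ⟨n, hn⟩ := hchar
      have hUp : IsPGroup p (Multiplicative F) :=
        IsPGroup.of_card (n := n) (by rw [Nat.card_eq_fintype_card, Fintype.card_multiplicative, hn])
      let q := QuotientAddGroup.mk' (fixU π)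
      let act : Multiplicative F → M ⧸ fixU π → M ⧸ fixU π := fun t =>
        QuotientAddGroup.map (fixU π) (fixU π) (π (upper t.toAdd)) (fun x hx => by
          show π (upper t.toAdd) x ∈ fixU π
          rw [hx t.toAdd]; exact hx)
      letI : MulAction (Multiplicative F) (M ⧸ fixU π) :=
        { smul := act
          one_smul := fun x => by
            obtain ⟨v, rfl⟩ := QuotientAddGroup.mk_surjective x
            show ((π (upper 0) v : M) : M ⧸ fixU π) = v
            rw [upper_zero, act_one]
          mul_smul := fun s t x => by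
            obtain ⟨v, rfl⟩ := QuotientAddGroup.mk_surjective x
            show ((π (upper (s.toAdd + t.toAdd)) v : M) : M ⧸ fixU π) = (π (upper s.toAdd) (π (upper t.toAdd) v) : M)
            rw [← act_mul, upper_add] }
      have hne : ∃ v : M, v ∉ fixU π := by
        by_contra h'
        push_neg at h'
        obtain ⟨g, x, hx⟩ := hnt
        have h0 : ∀ y, y ∈ fixL π → y = 0 := fun y hy => hdis y (h' y) hy
        have hz : ∀ y : M, y = 0 := fun y => act_injective π wel (by
          rw [map_zero]; exact h0 _ (wel_fixU π (h' y)))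
        exact hx ((hz _).trans (hz x).symm)
      have hdvd : p ∣ Nat.card (M ⧸ fixU π) := by
        obtain ⟨v, hv⟩ := hne
        have h1 : addOrderOf (v : M ⧸ fixU π) = p :=
          addOrderOf_eq_prime (by rw [← QuotientAddGroup.mk_nsmul, hM]; rfl)
            (fun h => hv ((QuotientAddGroup.eq_zero_iff v).1 h))
        exact h1 ▸ addOrderOf_dvd_natCard _
      obtain ⟨x, hx, hx0⟩ := hUp.exists_fixed_point_of_prime_dvd_card_of_fixed_point (M ⧸ fixU π) hdvd
        (a := 0) (fun t => by
          show act t ((0 : M) : M ⧸ fixU π) = _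
          exact map_zero _)
      obtain ⟨v, rfl⟩ := QuotientAddGroup.mk_surjective x
      obtain ⟨a, ha, b, hb, rfl⟩ := hsum v
      have hbK : b ∈ K := by
        refine ⟨hb, fun t => ?_⟩
        have h1 := hx (Multiplicative.ofAdd t)
        change ((π (upper t) (a + b) : M) : M ⧸ fixU π) = ((a + b : M) : M ⧸ fixU π) at h1
        rw [QuotientAddGroup.eq_iff_sub_mem, map_add, ha t, add_sub_add_left_eq_sub] at h1
        exact h1
      have hb0 : b = 0 := (AddSubgroup.eq_bot_iff_forall _).1 h b (AddSubgroup.mem_sup_left hbK)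
      refine hx0 ?_
      rw [hb0, add_zero, eq_comm, QuotientAddGroup.eq_zero_iff]
      exact ha
    · intro v hv t
      obtain ⟨k, hk, l, hl, rfl⟩ := hmem v (show v ∈ W by rw [h]; trivial)
      have hl0 : π wel l = 0 := hdis _ (wel_fixL π hl.1) (by
        have := sub_mem hv hk.1
        rwa [add_sub_cancel_left] at this)
      rw [hl0, add_zero]
      exact hk.2 t
  -- the field acting on `fixU`
  have hval : ∀ v ∈ fixL π, ∀ t (ht : t ≠ 0), π (upper t) v - v = π (tor t ht) (π wel v) := by
    intro v hv t ht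
    rw [(weyl_value π hdis hsum hv t ht (hKall v hv t)).1, act_mul]
  have hsq : ∀ v ∈ fixL π, π wel (π wel v) = -v := by
    intro v hv
    have h := weyl_value π hdis hsum hv 1 one_ne_zero (hKall v hv 1)
    rw [h.1, tor_one, one_mul] at h
    exact h.2
  have hsqU : ∀ x ∈ fixU π, π wel (π wel x) = -x := by
    intro x hx
    apply act_injective π wel
    rw [map_neg, hsq _ (wel_fixU π hx)]
  let μ : F → M → M := fun t x => if ht : t = 0 then 0 else π (tor t ht) x
  have μmem : ∀ t, ∀ x ∈ fixU π, μ t x ∈ fixU π := by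
    intro t x hx
    by_cases ht : t = 0
    · simp only [μ, dif_pos ht]; exact zero_mem _
    · simp only [μ, dif_neg ht]; exact tor_fixU π hx t ht
  have μval : ∀ t, ∀ x ∈ fixU π, μ t x = π (upper t) (-π wel x) - -π wel x := by
    intro t x hx
    by_cases ht : t = 0
    · simp only [μ, dif_pos ht]; rw [ht, upper_zero, act_one, sub_self]
    · simp only [μ, dif_neg ht]
      rw [hval _ (neg_mem (wel_fixU π hx)) t ht, map_neg, hsqU x hx, neg_neg]
  have μadd : ∀ a b, ∀ x ∈ fixU π, μ (a + b) x = μ a x + μ b x := by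
    intro a b x hx
    rw [μval _ x hx, μval a x hx, μval b x hx, ← upper_add, act_mul]
    set v := -π wel x with hv
    have : π (upper a) (π (upper b) v - v) = π (upper b) v - v :=
      hKall v (neg_mem (wel_fixU π hx)) b a
    rw [map_sub] at this
    calc π (upper a) (π (upper b) v) - v
        = (π (upper a) (π (upper b) v) - π (upper a) v) + (π (upper a) v - v) := by abel
      _ = (π (upper b) v - v) + (π (upper a) v - v) := by rw [this]
      _ = _ := by abel
  have μlin : ∀ t x y, μ t (x + y) = μ t x + μ t y := by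
    intro t x y
    by_cases ht : t = 0
    · simp [μ, dif_pos ht]
    · simp only [μ, dif_neg ht, map_add]
  have μmul : ∀ a b x, μ (a * b) x = μ a (μ b x) := by
    intro a b x
    by_cases ha : a = 0
    · simp [μ, ha]
    by_cases hb : b = 0
    · simp [μ, hb]
    simp only [μ, dif_neg ha, dif_neg hb, dif_neg (mul_ne_zero ha hb)]
    rw [← act_mul, tor_mul]
  obtain ⟨x0, hx0, hx0ne⟩ : ∃ x, x ∈ fixU π ∧ x ≠ 0 := by
    by_contra h
    push_neg at h
    obtain ⟨g, x, hx⟩ := hnt
    obtain ⟨a, ha, b, hb, rfl⟩ := hsum x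
    apply hx
    rw [h a ha, show b = 0 from act_injective π wel (by rw [map_zero]; exact h _ (wel_fixL π hb)), add_zero,
      map_zero]
  let Φ : (Fin 2 → F) → M := fun a => μ (a 0) x0 + -π wel (μ (a 1) x0)
  have Φadd : ∀ a b, Φ (a + b) = Φ a + Φ b := by
    intro a b
    simp only [Φ, Pi.add_apply, μadd _ _ x0 hx0, map_add]
    abel
  have equp : ∀ t a, π (upper t) (Φ a) = Φ (!![1, t; 0, 1] *ᵥ a) := by
    intro t a
    have h1 := μval t _ (μmem (a 1) x0 hx0)
    have hrw : Φ (!![1, t; 0, 1] *ᵥ a) = μ (a 0 + t * a 1) x0 + -π wel (μ (a 1) x0) := by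
      simp [Φ, Matrix.mulVec, dotProduct, Fin.sum_univ_two]
    rw [hrw, μadd _ _ x0 hx0, μmul, h1]
    simp only [Φ, map_add, μmem (a 0) x0 hx0 t]
    abel
  have eqw : ∀ a, π wel (Φ a) = Φ (!![0, 1; -1, 0] *ᵥ a) := by
    intro a
    have hrw : Φ (!![0, 1; -1, 0] *ᵥ a) = μ (a 1) x0 + -π wel (μ (-a 0) x0) := by
      simp [Φ, Matrix.mulVec, dotProduct, Fin.sum_univ_two]
    have hneg : μ (-a 0) x0 = -μ (a 0) x0 := by
      have h := μadd (a 0) (-a 0) x0 hx0
      rw [add_neg_cancel] at h
      simp only [μ, dif_pos] at h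
      exact eq_neg_of_add_eq_zero_right h.symm
    rw [hrw, hneg]
    simp only [Φ, map_add, map_neg, neg_neg, hsqU _ (μmem (a 1) x0 hx0)]
    abel
  have hequiv : ∀ (g : SL(2, F)) (a : Fin 2 → F),
      π g (Φ a) = Φ ((g : Matrix (Fin 2) (Fin 2) F) *ᵥ a) := by
    intro g
    have hg : g ∈ Submonoid.closure (Set.range (upper : F → SL(2, F)) ∪ {wel}) := by
      rw [ChevalleySL2.gen_top]; exact Submonoid.mem_top _
    induction hg using Submonoid.closure_induction with
    | mem a ha =>
      rcases ha with ⟨t, rfl⟩ | rfl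
      · exact equp t
      · exact eqw
    | one => intro a; rw [act_one, coe_one', Matrix.one_mulVec]
    | mul a b _ _ ha hb =>
      intro v; rw [act_mul, hb, ha, coe_mul', Matrix.mulVec_mulVec]
  let f : (Fin 2 → F) →+ M := AddMonoidHom.mk' Φ Φadd
  refine ⟨Φ, ⟨?_, ?_⟩, Φadd, hequiv⟩
  · suffices h : Function.Injective f from h
    refine (injective_iff_map_eq_zero f).2 fun a ha => ?_
    have ha' : μ (a 0) x0 + -π wel (μ (a 1) x0) = 0 := ha
    have e1 : μ (a 0) x0 = 0 := hdis _ (μmem _ x0 hx0) (by
      rw [eq_neg_of_add_eq_zero_left ha', neg_neg]; exact wel_fixU π (μmem _ x0 hx0))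
    rw [e1, zero_add, neg_eq_zero] at ha'
    have e2 : μ (a 1) x0 = 0 := act_injective π wel (by rw [ha', map_zero])
    have hz : ∀ t, μ t x0 = 0 → t = 0 := by
      intro t ht
      by_contra h
      simp only [μ, dif_neg h] at ht
      exact hx0ne (act_injective π _ (by rw [ht, map_zero]))
    ext i
    fin_cases i
    · exact hz _ e1
    · exact hz _ e2
  · have hinv : ∀ g, ∀ x ∈ f.range, π g x ∈ f.range := by
      rintro g _ ⟨a, rfl⟩
      exact ⟨_, (hequiv g a).symm⟩
    rcases hirr f.range hinv with h | h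
    · exfalso
      apply hx0ne
      have h1 : f ![1, 0] = 0 := (AddSubgroup.eq_bot_iff_forall _).1 h _ ⟨_, rfl⟩
      simpa [f, Φ, μ, tor_one, act_one] using h1
    · exact AddMonoidHom.range_eq_top.1 h

end Action

end Cfsg.Agent.SL2QuadraticModule
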