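import Mathlib
import Cfsg.Agent.Lib.PSL2Sylow
import Cfsg.Agent.Lib.PSL2SylowTwo
import Cfsg.Agent.Lib.PSLCard

/-!
Which elements of `SL(2,q)` lie in more than one Sylow subgroup.
-/

set_option autoImplicit false

namespace Cfsg.Agent.SL2SylowCover

open Matrix Cfsg.Agent.PSL2Elements
open scoped MatrixGroups Pointwise

variable {F : Type*} [Field F]

theorem not_center_of_tr {A : SL(2, F)} (h : tr A ^ 2 ≠ 4) : A ∉ Subgroup.center SL(2, F) :=
  fun hc => h (tr_sq_eq_four_of_mem_center hc)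

/-- An element inverting `c` inverts everything commuting with `c`. -/
theorem inv_on_centralizer {c y t : SL(2, F)} (hc : c ∉ Subgroup.center SL(2, F))
    (hy : y * c * y⁻¹ = c⁻¹) (ht : t ∈ Subgroup.centralizer ({c} : Set SL(2, F))) :
    y * t * y⁻¹ = t⁻¹ := by
  obtain ⟨a, b, hab⟩ := exists_eq_of_commute (A := c) hc (B := t.1)
    (congrArg (fun g : SL(2, F) => g.1) (Subgroup.mem_centralizer_singleton_iff.1 ht))
  have hyy : y.1 * (y⁻¹ : SL(2, F)).1 = 1 := by rw [← coe_mul', mul_inv_cancel, coe_one']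
  have hyc : y.1 * c.1 * (y⁻¹ : SL(2, F)).1 = (c⁻¹ : SL(2, F)).1 := by
    rw [← coe_mul', ← coe_mul', hy]
  have e00 : t.1 0 0 = a + b * c.1 0 0 := by rw [hab]; simp
  have e11 : t.1 1 1 = a + b * c.1 1 1 := by rw [hab]; simp
  have e01 : t.1 0 1 = b * c.1 0 1 := by rw [hab]; simp
  have e10 : t.1 1 0 = b * c.1 1 0 := by rw [hab]; simp
  apply Subtype.ext
  rw [coe_mul', coe_mul', hab, Matrix.mul_add, Matrix.add_mul, mul_smul_comm, smul_mul_assoc,
    mul_smul_comm, smul_mul_assoc, mul_one, hyy, hyc]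
  rw [Matrix.SpecialLinearGroup.coe_inv, Matrix.SpecialLinearGroup.coe_inv,
    Matrix.adjugate_fin_two, Matrix.adjugate_fin_two]
  ext i j
  fin_cases i <;> fin_cases j <;> simp [e00, e01, e10, e11]

/-- The elements of the centraliser of `c` with the trace of `c` are `c` and `c⁻¹`. -/
theorem eq_or_eq_inv {c t : SL(2, F)} (hc : tr c ^ 2 ≠ 4)
    (ht : t ∈ Subgroup.centralizer ({c} : Set SL(2, F))) (htr : tr t = tr c) :
    t = c ∨ t = c⁻¹ := by
  obtain ⟨a, b, hab⟩ := exists_eq_of_commute (A := c) (not_center_of_tr hc) (B := t.1)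
    (congrArg (fun g : SL(2, F) => g.1) (Subgroup.mem_centralizer_singleton_iff.1 ht))
  have e00 : t.1 0 0 = a + b * c.1 0 0 := by rw [hab]; simp
  have e11 : t.1 1 1 = a + b * c.1 1 1 := by rw [hab]; simp
  have e01 : t.1 0 1 = b * c.1 0 1 := by rw [hab]; simp
  have e10 : t.1 1 0 = b * c.1 1 0 := by rw [hab]; simp
  have hd := det_eq c
  have hdt := det_eq t
  rw [e00, e11, e01, e10] at hdt
  simp only [tr] at htr hc
  rw [e00, e11] at htr
  have hb : (b - 1) * (b + 1) * ((c.1 0 0 + c.1 1 1) ^ 2 - 4) = 0 := by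
    linear_combination (2 * a + b * (c.1 0 0 + c.1 1 1) + (c.1 0 0 + c.1 1 1)) * htr - 4 * hdt +
      4 * b ^ 2 * hd
  have h2a : (2 : F) * a = (1 - b) * (c.1 0 0 + c.1 1 1) := by linear_combination htr
  by_cases h2 : (2 : F) = 0
  · -- characteristic 2
    have hs : (c.1 0 0 + c.1 1 1) ≠ 0 := fun h => hc (by rw [h]; linear_combination (-2 : F) * h2)
    have hb1 : b = 1 := by
      have : (1 - b) * (c.1 0 0 + c.1 1 1) = 0 := by rw [← h2a, h2, zero_mul]
      exact (sub_eq_zero.1 ((mul_eq_zero.1 this).resolve_right hs)).symm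
    subst hb1
    have : a * (a + (c.1 0 0 + c.1 1 1)) = 0 := by linear_combination hdt - hd
    rcases mul_eq_zero.1 this with h | h
    · left; apply ext2 <;> simp [e00, e01, e10, e11, h]
    · right
      apply ext2 <;>
        simp [e00, e01, e10, e11, Matrix.SpecialLinearGroup.coe_inv, Matrix.adjugate_fin_two]
      · linear_combination h - c.1 1 1 * h2
      · linear_combination c.1 0 1 * h2
      · linear_combination c.1 1 0 * h2
      · linear_combination h - c.1 0 0 * h2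
  rcases mul_eq_zero.1 hb with h | h
  rcases mul_eq_zero.1 h with h | h
  · left
    obtain rfl : b = 1 := sub_eq_zero.1 h
    have : a = 0 := by simpa [h2] using h2a
    apply ext2 <;> simp [e00, e01, e10, e11, this]
  · right
    obtain rfl : b = -1 := eq_neg_of_add_eq_zero_left h
    have : a = c.1 0 0 + c.1 1 1 := mul_left_cancel₀ h2 (by linear_combination h2a)
    apply ext2 <;>
      simp [e00, e01, e10, e11, this, Matrix.SpecialLinearGroup.coe_inv, Matrix.adjugate_fin_two]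
  · exact absurd (sub_eq_zero.1 h) hc

/-- A cyclic Sylow subgroup has an element lying in no other one. -/
theorem unique_of_isCyclic {G : Type*} [Group G] {r : ℕ} (Q : Sylow r G)
    (h : IsCyclic (Q : Subgroup G)) :
    ∃ x ∈ (Q : Subgroup G), ∀ P : Sylow r G, x ∈ P → P = Q := by
  obtain ⟨⟨x, hx⟩, hg⟩ := h.exists_generator
  refine ⟨x, hx, fun P hP => Sylow.ext (Q.3 P.2 fun y hy => ?_)⟩
  obtain ⟨n, hn⟩ := hg ⟨y, hy⟩
  have : y = x ^ n := (congrArg Subtype.val hn).symm.trans (by simp)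
  rw [this]
  exact zpow_mem hP n

variable [Finite F]

/-- In the defining characteristic a Sylow subgroup has an element in no other one. -/
theorem unique_of_char (p : ℕ) [Fact p.Prime] [CharP F p] (Q : Sylow p SL(2, F)) :
    ∃ x ∈ (Q : Subgroup SL(2, F)), ∀ P : Sylow p SL(2, F), x ∈ P → P = Q := by
  obtain ⟨g, hg⟩ := PSL2Sylow.sylow_eq_conj p Q
  refine ⟨g * u 1 * g⁻¹, hg ▸ ⟨u 1, PSL2Sylow.mem_uSub.2 ⟨1, rfl⟩, rfl⟩, fun P hP => ?_⟩
  obtain ⟨h, hh⟩ := PSL2Sylow.sylow_eq_conj p P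
  replace hP : g * u 1 * g⁻¹ ∈ (P : Subgroup SL(2, F)) := hP
  rw [hh] at hP
  obtain ⟨z, hz, e⟩ := hP
  obtain ⟨y, rfl⟩ := PSL2Sylow.mem_uSub.1 hz
  replace e : h * u y * h⁻¹ = g * u 1 * g⁻¹ := e
  have hk : (h⁻¹ * g) * u 1 = u y * (h⁻¹ * g) := by
    calc (h⁻¹ * g) * u 1 = h⁻¹ * (g * u 1 * g⁻¹) * g := by group
      _ = h⁻¹ * (h * u y * h⁻¹) * g := by rw [e]
      _ = u y * (h⁻¹ * g) := by group
  have hb : h⁻¹ * g ∈ Subgroup.normalizer (PSL2Sylow.uSub F : Set SL(2, F)) := by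
    rw [PSL2Sylow.normalizer_uSub]; exact PSL2Sylow.mem_borel_of_conj one_ne_zero hk
  apply Sylow.ext
  rw [hg, hh]
  conv_rhs => rw [show g = h * (h⁻¹ * g) by group, map_mul, mul_smul]
  congr 1
  ext x
  rw [Subgroup.mem_pointwise_smul_iff_inv_smul_mem, ← map_inv, MulAut.smul_def,
    MulAut.conj_apply, inv_inv]
  have := Subgroup.mem_normalizer_iff.1 (inv_mem hb) x
  simpa [mul_assoc] using this

/-- Generators of a Sylow 2-subgroup, `q` odd. -/
theorem two_gens (hq : Odd (Nat.card F)) (S : Sylow 2 SL(2, F)) :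
    ∃ (k : ℕ) (c y : SL(2, F)), 1 ≤ k ∧ c ∈ S ∧ y ∈ S ∧ tr c ^ 2 ≠ 4 ∧
      orderOf c = 2 ^ (k + 1) ∧ y * c * y⁻¹ = c⁻¹ ∧ Nat.card S = 2 ^ (k + 2) ∧
      ∀ s ∈ S, (∃ i : ℕ, s = c ^ i) ∨ orderOf s = 4 := by
  have h2 := PSL2SylowTwo.two_ne_zero_of_odd hq
  obtain ⟨k, hk, ⟨e⟩⟩ := PSL2SylowTwo.sylow_two_quaternion hq S
  haveI : NeZero (2 ^ k) := ⟨by positivity⟩
  let φ : QuaternionGroup (2 ^ k) →* SL(2, F) :=
    (S : Subgroup SL(2, F)).subtype.comp e.symm.toMonoidHom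
  have hφ : Function.Injective φ := Subtype.val_injective.comp e.symm.injective
  have hmem : ∀ q, φ q ∈ S := fun q => (e.symm q).2
  set c := φ (QuaternionGroup.a 1) with hc
  set y := φ (QuaternionGroup.xa 0) with hy
  have hoc : orderOf c = 2 ^ (k + 1) := by
    rw [hc, orderOf_injective φ hφ, QuaternionGroup.orderOf_a_one, pow_succ']
  have hsq : c ^ 2 ≠ 1 := fun h => by
    have h' := orderOf_dvd_of_pow_eq_one h
    rw [hoc] at h'
    have := (Nat.pow_dvd_pow_iff_le_right (x := 2) (by norm_num) (l := 1)).1 (by simpa using h')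
    omega
  obtain ⟨p, hp⟩ := CharP.exists F
  haveI : Fact p.Prime := ⟨CharP.char_is_prime F p⟩
  have hp2 : p ≠ 2 := fun h => h2 (by subst h; exact CharP.cast_eq_zero F 2)
  have hone : ∀ g : SL(2, F), g ^ (2 ^ (k + 1)) = 1 → tr g = 2 → g = 1 := fun g hg ht => by
    have := pow_gcd_eq_one.2 ⟨pow_char p ht, hg⟩
    rwa [(Nat.Coprime.pow_right _ ((Nat.coprime_primes Fact.out Nat.prime_two).2 hp2) :
      Nat.gcd p (2 ^ (k + 1)) = 1), pow_one] at this
  have hz : tr c ^ 2 ≠ 4 := by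
    intro h
    have h4 : (tr c - 2) * (tr c + 2) = 0 := by linear_combination h
    rcases mul_eq_zero.1 h4 with h | h
    · exact hsq (by rw [hone c (hoc ▸ pow_orderOf_eq_one c) (sub_eq_zero.1 h), one_pow])
    · refine hsq ?_
      have := hone (-c) (by
        rw [neg_pow, (show c ^ 2 ^ (k + 1) = 1 by rw [← hoc, pow_orderOf_eq_one]), mul_one,
          (Even.neg_one_pow (Nat.even_pow.2 ⟨even_two, by omega⟩))])
        (by rw [tr_neg]; linear_combination -h)
      rw [neg_eq_iff_eq_neg] at this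
      rw [this, neg_one_sq]
  refine ⟨k, c, y, hk, hmem _, hmem _, hz, hoc, ?_, ?_, fun s hs => ?_⟩
  · rw [mul_inv_eq_iff_eq_mul, eq_inv_mul_iff_mul_eq, hc, hy, ← map_mul, ← map_mul]
    congr 1
    simp
  · rw [show Nat.card S = Nat.card (QuaternionGroup (2 ^ k)) from Nat.card_congr e.toEquiv,
      Nat.card_eq_fintype_card, QuaternionGroup.card]
    ring
  · obtain ⟨q, rfl⟩ : ∃ q, φ q = s := ⟨e ⟨s, hs⟩, by simp [φ]⟩
    rcases q with i | i
    · refine Or.inl ⟨i.val, ?_⟩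
      rw [hc, ← map_pow, QuaternionGroup.a_one_pow, ZMod.natCast_zmod_val]
    · exact Or.inr (by rw [orderOf_injective φ hφ, QuaternionGroup.orderOf_xa])

/-- If `q - 1` or `q + 1` is a power of two, a Sylow 2-subgroup has an element in no other one. -/
theorem unique_of_pow (hq : Odd (Nat.card F))
    (hpow : (∃ m, Nat.card F + 1 = 2 ^ m) ∨ ∃ m, Nat.card F = 2 ^ m + 1) (S : Sylow 2 SL(2, F)) :
    ∃ x ∈ (S : Subgroup SL(2, F)), ∀ P : Sylow 2 SL(2, F), x ∈ P → P = S := by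
  obtain ⟨k, c, y, hk, hc, hy, hz, hoc, hyc, hcard, -⟩ := two_gens hq S
  obtain ⟨hcyc, hT⟩ := centralizer_semisimple hz
  set T := Subgroup.centralizer ({c} : Set SL(2, F)) with hTdef
  have hcT : c ∈ T := Subgroup.mem_centralizer_singleton_iff.2 rfl
  have hdvd : 2 ^ (k + 1) ∣ Nat.card T := hoc ▸ Subgroup.orderOf_dvd_natCard T hcT
  have h4 : 4 ∣ Nat.card T :=
    (pow_dvd_pow 2 (show 2 ≤ k + 1 by omega)).trans hdvd
  have hq3 : 3 ≤ Nat.card F := by
    have := PSLCard.one_lt_card F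
    rw [Nat.odd_iff] at hq; omega
  obtain ⟨m, hm⟩ : ∃ m, Nat.card T = 2 ^ m := by
    rcases hpow with ⟨m, hm⟩ | ⟨m, hm⟩
    · rcases hT with ⟨-, hT⟩ | ⟨-, hT⟩
      · exfalso
        have hm2 : 2 ≤ m := by
          by_contra hlt
          interval_cases m <;> omega
        obtain ⟨j, rfl⟩ := Nat.exists_eq_add_of_le hm2
        rw [pow_add] at hm
        omega
      · exact ⟨m, hT.trans hm⟩
    · rcases hT with ⟨-, hT⟩ | ⟨-, hT⟩
      · exact ⟨m, by omega⟩
      · rcases Nat.lt_or_ge m 2 with hlt | hge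
        · interval_cases m
          · rw [Nat.odd_iff] at hq; omega
          · exact ⟨2, by omega⟩
        · exfalso
          obtain ⟨j, rfl⟩ := Nat.exists_eq_add_of_le hge
          rw [pow_add] at hm
          omega
  have hcS : ∀ P : Sylow 2 SL(2, F), c ∈ P →
      (P : Subgroup SL(2, F)) ≤ Subgroup.normalizer (T : Set SL(2, F)) ∧ T ≤ P := by
    intro P hP
    have hTp : IsPGroup 2 T := IsPGroup.of_card hm
    obtain ⟨g, hg⟩ := hcyc.exists_ofOrder_eq_natCard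
    have hle : m ≤ k + 1 := by
      obtain ⟨R, hR⟩ := hTp.exists_le_sylow
      have h1 : orderOf (g : SL(2, F)) ∣ Nat.card (R : Subgroup SL(2, F)) :=
        Subgroup.orderOf_dvd_natCard _ (hR g.2)
      obtain ⟨k', c', y', -, -, -, -, hoc', -, hcard', hS'⟩ := two_gens hq R
      rw [show Nat.card (R : Subgroup SL(2, F)) = Nat.card S from
        (Nat.card_congr (Sylow.equiv R S).toEquiv)] at h1
      have hk' : k' = k := by
        have : 2 ^ (k' + 2) = 2 ^ (k + 2) := by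
          rw [← hcard', ← hcard]; exact Nat.card_congr (Sylow.equiv R S).toEquiv
        have := Nat.pow_right_injective le_rfl this
        omega
      have horder : orderOf (g : SL(2, F)) = 2 ^ m := by rw [Subgroup.orderOf_coe, hg, hm]
      rcases hS' _ (hR g.2) with ⟨i, hi⟩ | ho
      · have : orderOf (g : SL(2, F)) ∣ orderOf c' := hi ▸ orderOf_pow_dvd i
        rw [horder, hoc', hk'] at this
        exact (Nat.pow_dvd_pow_iff_le_right (by norm_num)).1 this
      · rw [horder, show (4 : ℕ) = 2 ^ 2 by norm_num] at ho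
        have := Nat.pow_right_injective le_rfl ho
        omega
    have hTc : T = Subgroup.zpowers c := by
      refine (Subgroup.eq_of_le_of_card_ge (Subgroup.zpowers_le.2 hcT) ?_).symm
      rw [Nat.card_zpowers, hoc, hm]
      exact Nat.pow_le_pow_right two_pos hle
    refine ⟨?_, hTc ▸ Subgroup.zpowers_le.2 hP⟩
    have hidx : (T.subgroupOf (P : Subgroup SL(2, F))).index = 2 := by
      have h1 : T ≤ P := hTc ▸ Subgroup.zpowers_le.2 hP
      have h2 := (T.subgroupOf (P : Subgroup SL(2, F))).card_mul_index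
      rw [Nat.card_congr (Subgroup.subgroupOfEquivOfLe h1).toEquiv, hTc, Nat.card_zpowers, hoc,
        show Nat.card (P : Subgroup SL(2, F)) = Nat.card S from
          Nat.card_congr (Sylow.equiv P S).toEquiv, hcard, show k + 2 = (k + 1) + 1 by omega,
        pow_succ _ (k + 1)] at h2
      rw [hTc]; exact Nat.eq_of_mul_eq_mul_left (Nat.two_pow_pos (k + 1)) h2
    haveI := Subgroup.normal_of_index_eq_two hidx
    exact Subgroup.normal_subgroupOf_iff_le_normalizer (hTc ▸ Subgroup.zpowers_le.2 hP) |>.1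
      inferInstance
  refine ⟨c, hc, fun P hP => ?_⟩
  obtain ⟨hPN, hTP⟩ := hcS P hP
  obtain ⟨-, hTS⟩ := hcS S hc
  -- the normaliser of `T` lies in `S`
  have hN : ∀ h ∈ Subgroup.normalizer (T : Set SL(2, F)), h ∈ S := by
    intro h hh
    have h1 : h * c * h⁻¹ ∈ T := (Subgroup.mem_normalizer_iff.1 hh c).1 hcT
    rcases eq_or_eq_inv hz h1 (tr_conj h c) with e | e
    · exact hTS (Subgroup.mem_centralizer_singleton_iff.2 (mul_inv_eq_iff_eq_mul.1 e))
    · have e' : (y⁻¹ * h) * c * (y⁻¹ * h)⁻¹ = c := by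
        rw [_root_.mul_inv_rev, inv_inv, show y⁻¹ * h * c * (h⁻¹ * y) = y⁻¹ * (h * c * h⁻¹) * y by group,
          e, ← hyc]
        group
      have := mul_mem hy (hTS (Subgroup.mem_centralizer_singleton_iff.2
        (mul_inv_eq_iff_eq_mul.1 e')))
      rwa [mul_inv_cancel_left] at this
  have hle : (P : Subgroup SL(2, F)) ≤ S := fun h hh => hN h (hPN hh)
  exact Sylow.ext (P.3 S.2 hle).symm

/-- Otherwise every 2-element lies in two Sylow 2-subgroups. -/
theorem exists_ne_of_not_pow (hq : Odd (Nat.card F))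
    (h1 : ¬ ∃ m, Nat.card F + 1 = 2 ^ m) (h2' : ¬ ∃ m, Nat.card F = 2 ^ m + 1)
    (x : SL(2, F)) (hx : ∃ i, orderOf x = 2 ^ i) (Q : Sylow 2 SL(2, F)) :
    ∃ P : Sylow 2 SL(2, F), P ≠ Q ∧ x ∈ P := by
  have h2 := PSL2SylowTwo.two_ne_zero_of_odd hq
  obtain ⟨i, hi⟩ := hx
  obtain ⟨S, hxS⟩ := (IsPGroup.of_card (p := 2) (n := i) (G := Subgroup.zpowers x)
    (by rw [Nat.card_zpowers, hi])).exists_le_sylow
  replace hxS : x ∈ S := hxS (Subgroup.mem_zpowers x)
  obtain ⟨k, c, y, hk, hc, hy, hz, hoc, hyc, hcard, hS⟩ := two_gens hq S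
  obtain ⟨hcyc, hT⟩ := centralizer_semisimple hz
  set T := Subgroup.centralizer ({c} : Set SL(2, F)) with hTdef
  have hnp : ¬ ∃ m, Nat.card T = 2 ^ m := by
    rintro ⟨m, hm⟩
    rcases hT with ⟨-, hT⟩ | ⟨-, hT⟩
    · exact h2' ⟨m, by have := PSLCard.one_lt_card F; omega⟩
    · exact h1 ⟨m, hT.symm.trans hm⟩
  obtain ⟨r, hr, hrd, hr2⟩ : ∃ r, r.Prime ∧ r ∣ Nat.card T ∧ r ≠ 2 := by
    by_contra hcon
    exact hnp ⟨_, Nat.eq_prime_pow_of_unique_prime_dvd Nat.card_pos.ne'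
      (fun hd h => by by_contra hne; exact hcon ⟨_, hd, h, hne⟩)⟩
  haveI : Fact r.Prime := ⟨hr⟩
  obtain ⟨⟨g, hgT⟩, hg⟩ := exists_prime_orderOf_dvd_card' (G := T) r hrd
  rw [← Subgroup.orderOf_coe] at hg
  have hgN : g ∉ Subgroup.normalizer ((S : Subgroup SL(2, F)) : Set SL(2, F)) := by
    intro h
    have h3 : g * y * g⁻¹ * y⁻¹ ∈ S :=
      mul_mem ((Subgroup.mem_normalizer_iff.1 h y).1 hy) (inv_mem hy)
    have e : g * y * g⁻¹ * y⁻¹ = g * g := by
      have := inv_on_centralizer (not_center_of_tr hz) hyc (inv_mem hgT)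
      rw [inv_inv] at this
      rw [mul_assoc, mul_assoc, ← mul_assoc y, this]
    rw [e] at h3
    obtain ⟨j, hj⟩ := S.2 ⟨g * g, h3⟩
    have h4 : (g * g) ^ 2 ^ j = 1 := congrArg Subtype.val hj
    rw [← sq, ← pow_mul, ← pow_succ'] at h4
    have := orderOf_dvd_of_pow_eq_one h4
    rw [hg] at this
    exact hr2 ((Nat.prime_dvd_prime_iff_eq hr Nat.prime_two).1 (hr.dvd_of_dvd_pow this))
  have key : ∀ a : SL(2, F), a ∈ S → g * a * g⁻¹ = a → ∃ P₁ P₂ : Sylow 2 SL(2, F),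
      P₁ ≠ P₂ ∧ a ∈ P₁ ∧ a ∈ P₂ := by
    intro a ha hga
    refine ⟨S, g • S, fun h => hgN (Sylow.smul_eq_iff_mem_normalizer.1 h.symm), ha, ?_⟩
    show a ∈ ((g • S : Sylow 2 SL(2, F)) : Subgroup SL(2, F))
    rw [Sylow.coe_subgroup_smul]
    exact ⟨a, ha, hga⟩
  suffices ∃ P₁ P₂ : Sylow 2 SL(2, F), P₁ ≠ P₂ ∧ x ∈ P₁ ∧ x ∈ P₂ by
    obtain ⟨P₁, P₂, hne, hx1, hx2⟩ := this
    by_cases h : P₁ = Q
    · exact ⟨P₂, fun h' => hne (h.trans h'.symm), hx2⟩
    · exact ⟨P₁, h, hx1⟩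
  have hgc : g * c * g⁻¹ = c :=
    mul_inv_eq_iff_eq_mul.2 (Subgroup.mem_centralizer_singleton_iff.1 hgT)
  have hgpow : ∀ n : ℕ, g * c ^ n * g⁻¹ = c ^ n := fun n => by rw [← conj_pow, hgc]
  rcases hS x hxS with ⟨n, rfl⟩ | ho
  · exact key _ hxS (hgpow n)
  -- an element of order 4 is conjugate to a power of `c`
  set c4 := c ^ 2 ^ (k - 1) with hc4
  have hoc4 : orderOf c4 = 4 := by
    rw [hc4, orderOf_pow' _ (by positivity), hoc,
      Nat.gcd_eq_right (pow_dvd_pow 2 (show k - 1 ≤ k + 1 by omega)),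
      Nat.pow_div (by omega) two_pos, show k + 1 - (k - 1) = 2 by omega]
    norm_num
  have htr : ∀ a : SL(2, F), orderOf a = 4 → tr a = 0 := by
    intro a ha
    refine (sq_eq_neg_one_iff a h2).1 ?_
    refine (eq_one_or_neg_one_of_sq_eq_one h2 ?_).resolve_left fun h => ?_
    · rw [← pow_mul, show (2 : ℕ) * 2 = orderOf a by omega]
      exact pow_orderOf_eq_one a
    · have := Nat.le_of_dvd two_pos (orderOf_dvd_of_pow_eq_one h)
      omega
  obtain ⟨w', hw⟩ := isConj_iff.1 ((isConj_w_of_tr_zero h2 (htr _ hoc4)).trans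
    (isConj_w_of_tr_zero h2 (htr _ ho)).symm)
  obtain ⟨P₁, P₂, hne, ha1, ha2⟩ := key c4 (pow_mem hc _) (hgpow _)
  refine ⟨w' • P₁, w' • P₂, fun h => hne ((MulAction.injective w') h), ?_, ?_⟩
  · show x ∈ ((w' • P₁ : Sylow 2 SL(2, F)) : Subgroup SL(2, F))
    rw [Sylow.coe_subgroup_smul]; exact ⟨c4, ha1, hw⟩
  · show x ∈ ((w' • P₂ : Sylow 2 SL(2, F)) : Subgroup SL(2, F))
    rw [Sylow.coe_subgroup_smul]; exact ⟨c4, ha2, hw⟩

theorem odd_of_not_two_pow (h : ¬ ∃ k, Nat.card F = 2 ^ k) : Odd (Nat.card F) := by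
  obtain ⟨p, hp⟩ := CharP.exists F
  haveI : Fact p.Prime := ⟨CharP.char_is_prime F p⟩
  obtain ⟨n, -, hn⟩ := PSL2Sylow.card_field_eq (F := F) p
  by_cases h2 : p = 2
  · exact absurd ⟨n, h2 ▸ hn⟩ h
  · rw [hn]; exact ((Fact.out : p.Prime).odd_of_ne_two h2).pow

/-- The general criterion. -/
theorem unique_elt (r : ℕ) [Fact r.Prime]
    (h : ¬ (r = 2 ∧ (¬ ∃ k, Nat.card F + 1 = 2 ^ k) ∧ (¬ ∃ k, Nat.card F = 2 ^ k) ∧
      ¬ ∃ k, Nat.card F = 2 ^ k + 1)) (Q : Sylow r SL(2, F)) :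
    ∃ x ∈ (Q : Subgroup SL(2, F)), ∀ P : Sylow r SL(2, F), x ∈ P → P = Q := by
  obtain ⟨p, hp⟩ := CharP.exists F
  haveI : Fact p.Prime := ⟨CharP.char_is_prime F p⟩
  by_cases hrp : r = p
  · subst hrp; exact unique_of_char r Q
  by_cases h2 : r = 2
  · subst h2
    have hq : Odd (Nat.card F) := by
      obtain ⟨n, -, hn⟩ := PSL2Sylow.card_field_eq (F := F) p
      rw [hn]
      exact ((Fact.out : p.Prime).odd_of_ne_two (Ne.symm hrp)).pow
    refine unique_of_pow hq ?_ Q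
    by_contra hcon
    push Not at hcon
    refine h ⟨rfl, fun ⟨k, hk⟩ => hcon.1 k hk, fun ⟨k, hk⟩ => ?_, fun ⟨k, hk⟩ => hcon.2 k hk⟩
    rcases Nat.eq_zero_or_pos k with rfl | hk0
    · exact absurd hk (by have := PSLCard.one_lt_card F; norm_num; omega)
    · rw [hk, Nat.odd_iff] at hq
      have := dvd_pow_self 2 hk0.ne'
      omega
  · exact unique_of_isCyclic Q (PSL2Sylow.isCyclic_sylow (p := p) r h2 hrp Q)

end Cfsg.Agent.SL2SylowCover
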