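import Cfsg.Agent.Lib.SL3PresDatum

/-!
Three charts of cosets of a parabolic subgroup, and injectivity onto `SL(3, q)`.
-/

set_option autoImplicit false

namespace Cfsg.Agent.SL3PresChart

open PSL2Elements SL2PresData SL3PresModel SL3PresDatum
open Multiplicative (ofAdd)
open scoped MatrixGroups

variable {G : Type} [Group G] {F : Type*} [Field F] [Fintype F] {ζ : Fˣ}

/-- the commutator relations imposed -/
structure Rels (D : Datum G F ζ) : Prop where
  r1 : D.A 1 * D.B 1 = D.A02 (1 * 1) * D.B 1 * D.A 1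
  r1z : Fintype.card F ≠ 4 ∨ D.A 1 * D.B (ζ : F) = D.A02 (1 * (ζ : F)) * D.B (ζ : F) * D.A 1
  r3 : D.B 1 * D.A02 1 = D.A02 1 * D.B 1
  r3z : Fintype.card F ≠ 4 ∨ D.B 1 * D.A02 (ζ : F) = D.A02 (ζ : F) * D.B 1
  r2 : CharP F 2 ∨ (Fintype.card F ≠ 4 ∧ D.A 1 * D.A02 1 = D.A02 1 * D.A 1)

section
variable {D : Datum G F ζ} (R : Rels D)
include R

theorem one_eig (s : G) (w : ℤ) : D.Eig s (fun _ => (1 : G)) w := Datum.Eig.mk' D fun _ => by simp

theorem B_A02 (a b : F) : D.B a * D.A02 b = D.A02 b * D.B a := by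
  have := D.rel_extend (X := D.B) (Y := D.A02) (Z := fun _ => (1 : G)) D.B_add D.A02_add (fun _ _ => (mul_one _).symm)
    (fun r _ => Commute.one_right _) (g := D.h * D.e) (D.eig_mul D.hB D.eB) (D.eig_mul D.h02 D.e02)
    (one_eig R _ 3) D.eB D.e02 (one_eig R _ _) (by simpa using R.r3) (by simpa using R.r3z) a b
  simpa using this

theorem A_B (a b : F) : D.A a * D.B b = D.A02 (a * b) * D.B b * D.A a :=
  D.rel_extend (X := D.A) (Y := D.B) (Z := D.A02) D.A_add D.B_add D.A02_add (fun r s => B_A02 R r s)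
    (g := (D.h * D.e⁻¹ * D.e⁻¹)⁻¹) (D.eig_inv (D.eig_mul (D.eig_mul D.hA (D.eig_inv D.eA)) (D.eig_inv D.eA)))
    (D.eig_inv (D.eig_mul (D.eig_mul D.hB (D.eig_inv D.eB)) (D.eig_inv D.eB)))
    (D.eig_inv (D.eig_mul (D.eig_mul D.h02 (D.eig_inv D.e02)) (D.eig_inv D.e02)))
    D.eA D.eB D.e02 R.r1 R.r1z a b

theorem A_A02 (a b : F) : D.A a * D.A02 b = D.A02 b * D.A a := by
  rcases R.r2 with hc | ⟨h4, hr⟩
  · rcases eq_or_ne a 0 with rfl | ha
    · simp [D.A_zero]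
    have hsq : ∀ {X : F → G}, (∀ r s, X (r + s) = X r * X s) → ∀ r, X r * X r = 1 := fun hX r => by
      rw [← hX, CharTwo.add_self_eq_zero, Datum.map_zero_of_add hX]
    have e : D.A a * D.B (b / a) * (D.A a * D.B (b / a)) = D.A02 b := by
      calc D.A a * D.B (b / a) * (D.A a * D.B (b / a))
          = D.A02 (a * (b / a)) * D.B (b / a) * D.A a * (D.A a * D.B (b / a)) := by rw [← A_B R]
        _ = D.A02 (a * (b / a)) * D.B (b / a) * (D.A a * D.A a) * D.B (b / a) := by simp only [mul_assoc]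
        _ = D.A02 b := by rw [hsq D.A_add, mul_one, mul_assoc, hsq D.B_add, mul_one, mul_div_cancel₀ _ ha]
    have c1 : Commute (D.A a * D.B (b / a)) (D.A02 b) := e ▸ (Commute.refl _).mul_right (Commute.refl _)
    have c2 : Commute (D.B (b / a)) (D.A02 b) := B_A02 R _ _
    have := c1.mul_left c2.inv_left
    rwa [mul_inv_cancel_right] at this
  · have := D.rel_extend (X := D.A) (Y := D.A02) (Z := fun _ => (1 : G)) D.A_add D.A02_add (fun _ _ => (mul_one _).symm)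
      (fun r _ => Commute.one_right _) (g := (D.h * D.e⁻¹ * D.e⁻¹)⁻¹)
      (D.eig_inv (D.eig_mul (D.eig_mul D.hA (D.eig_inv D.eA)) (D.eig_inv D.eA)))
      (D.eig_inv (D.eig_mul (D.eig_mul D.h02 (D.eig_inv D.e02)) (D.eig_inv D.e02)))
      (one_eig R _ _) D.eA D.e02 (one_eig R _ _) (by simpa using hr) (Or.inl h4) a b
    simpa using this

theorem A10_B (a b : F) : D.A10 a * D.B b = D.B b * D.A10 a := by
  have := congrArg (fun x => D.c * x * D.c⁻¹) (A_A02 R b (-a))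
  simp only [conj_mul_eq D.c] at this
  rw [D.c_A, D.c_A02, neg_neg] at this
  exact this.symm
where
  conj_mul_eq (g : G) {x y : G} : g * (x * y) * g⁻¹ = (g * x * g⁻¹) * (g * y * g⁻¹) := by group

end

theorem conj2 (g x y : G) : g * (x * y) * g⁻¹ = (g * x * g⁻¹) * (g * y * g⁻¹) := by group

theorem conj3 (g x y z : G) : g * (x * y * z) * g⁻¹ = (g * x * g⁻¹) * (g * y * g⁻¹) * (g * z * g⁻¹) := by group

section
variable {D : Datum G F ζ} (R : Rels D)
include R

/-- `[x₁₀, x₀₂] = x₁₂` -/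
theorem A10_A02 (a b : F) : D.A10 a * D.A02 b = D.B (a * b) * D.A02 b * D.A10 a := by
  have := congrArg (fun x => D.t * x * D.t⁻¹) (A_B R (-a) b)
  simp only [conj2, D.t_A, D.t_B, D.t_A02, neg_neg, neg_mul] at this
  exact this

/-- `[x₁₂, x₂₀] = x₁₀` -/
theorem B_A20 (a b : F) : D.B a * D.A20 b = D.A10 (a * b) * D.A20 b * D.B a := by
  have := congrArg (fun x => D.c * x * D.c⁻¹) (A_B R a (-b))
  simp only [conj2, D.c_A, D.c_B, D.c_A02, neg_neg, mul_neg] at this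
  exact this

theorem A20_A (a b : F) : D.A20 a * D.A b = D.A21 (a * b) * D.A b * D.A20 a := by
  have := congrArg (fun x => D.c * x * D.c⁻¹) (B_A20 R (-a) (-b))
  simp only [conj2, D.c_B, D.c_A20, D.c_A10, neg_neg, neg_mul_neg] at this
  exact this

theorem A_A21 (a b : F) : D.A a * D.A21 b = D.A21 b * D.A a := by
  have := congrArg (fun x => D.c * (D.c * x * D.c⁻¹) * D.c⁻¹) (B_A02 R a (-b))
  simp only [conj2, D.c_B, D.c_A02, D.c_A20, D.c_A10, neg_neg] at this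
  exact this

theorem A20_A21 (a b : F) : D.A20 a * D.A21 b = D.A21 b * D.A20 a := by
  have := congrArg (fun x => D.c * x * D.c⁻¹) (A10_B R b (-a))
  simp only [conj2, D.c_B, D.c_A10, neg_neg] at this
  exact this.symm

/-- the parabolic subgroup -/
def P (_ : Rels D) : Subgroup G :=
  Subgroup.closure (Set.range D.A20 ∪ Set.range D.A21 ∪ (D.L : Set G) ∪ {D.e})

theorem mem_L {g : G} (hg : g ∈ D.L) : g ∈ P R := Subgroup.subset_closure (Or.inl (Or.inr hg))
theorem mem_A20 (r : F) : D.A20 r ∈ P R := Subgroup.subset_closure (Or.inl (Or.inl (Or.inl ⟨r, rfl⟩)))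
theorem mem_e : D.e ∈ P R := Subgroup.subset_closure (Or.inr rfl)
theorem mem_hp : D.hp ∈ P R := by
  rw [show D.hp = D.h⁻¹ * D.e by rw [D.e_eq, inv_mul_cancel_left]]
  exact (P R).mul_mem ((P R).inv_mem (mem_L R D.h_mem)) (mem_e R)

theorem e_L {l : G} (hl : l ∈ D.L) : D.e * l * D.e⁻¹ ∈ D.L ∧ D.e⁻¹ * l * D.e ∈ D.L := by
  induction hl using Subgroup.closure_induction with
  | one => simp
  | mul a b _ _ ha hb =>
    exact ⟨by rw [conj2]; exact D.L.mul_mem ha.1 hb.1,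
      by rw [show D.e⁻¹ * (a * b) * D.e = (D.e⁻¹ * a * D.e) * (D.e⁻¹ * b * D.e) by group]
         exact D.L.mul_mem ha.2 hb.2⟩
  | inv a _ ha =>
    exact ⟨by rw [show D.e * a⁻¹ * D.e⁻¹ = (D.e * a * D.e⁻¹)⁻¹ by group]; exact D.L.inv_mem ha.1,
      by rw [show D.e⁻¹ * a⁻¹ * D.e = (D.e⁻¹ * a * D.e)⁻¹ by group]; exact D.L.inv_mem ha.2⟩
  | mem a ha =>
    rcases ha with ⟨x, rfl⟩ | rfl | rfl
    · refine ⟨?_, ?_⟩
      · rw [show D.φ x = D.A x.toAdd from rfl, D.eA.2]; exact D.A_mem _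
      · have := (D.eig_inv D.eA).2 x.toAdd
        rw [inv_inv] at this
        rw [show D.φ x = D.A x.toAdd from rfl, this]; exact D.A_mem _
    · refine ⟨?_, ?_⟩
      · rw [D.e_h.eq, mul_inv_cancel_right]; exact D.h_mem
      · rw [mul_assoc, ← D.e_h.eq, inv_mul_cancel_left]; exact D.h_mem
    · have et : D.e * D.t = D.t * D.hp := by simp only [Datum.hp]; group
      refine ⟨?_, ?_⟩
      · rw [et, show D.t * D.hp * D.e⁻¹ = D.t * D.h⁻¹ by simp [Datum.h, mul_assoc]]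
        exact D.L.mul_mem D.t_mem (D.L.inv_mem D.h_mem)
      · have : D.e⁻¹ * D.t = D.t * D.hp⁻¹ := by simp only [Datum.hp]; group
        rw [this, mul_assoc, show D.hp⁻¹ * D.e = D.h by rw [← D.e_hp.inv_right.eq]; rfl]
        exact D.L.mul_mem D.t_mem D.h_mem

theorem scale_V {s : G} {w w' : ℤ} (h20 : D.Eig s D.A20 w) (h21 : D.Eig s D.A21 w') (a b : F) :
    s * (D.A20 a * D.A21 b) = D.A20 ((ζ : F) ^ w * a) * D.A21 ((ζ : F) ^ w' * b) * s := by
  rw [← h20.2, ← h21.2]; group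

theorem L_V {l : G} (hl : l ∈ D.L) :
    ∀ a b : F, ∃ a' b', l * (D.A20 a * D.A21 b) = D.A20 a' * D.A21 b' * l := by
  have key : ∀ g y : G, (∀ a b : F, ∃ a' b', g * (D.A20 a * D.A21 b) = D.A20 a' * D.A21 b' * g) →
      (∀ a b : F, ∃ a' b', y * (D.A20 a * D.A21 b) = D.A20 a' * D.A21 b' * y) →
      ∀ a b : F, ∃ a' b', g * y * (D.A20 a * D.A21 b) = D.A20 a' * D.A21 b' * (g * y) := by
    intro g y hg hy a b
    obtain ⟨a1, b1, h1⟩ := hy a b
    obtain ⟨a2, b2, h2⟩ := hg a1 b1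
    exact ⟨a2, b2, by rw [mul_assoc g y, h1, ← mul_assoc g _ y, h2]; group⟩
  have hh : ∀ i : ℤ, ∀ a b : F, ∃ a' b', D.h ^ i * (D.A20 a * D.A21 b) = D.A20 a' * D.A21 b' * D.h ^ i :=
    fun i a b => ⟨_, _, scale_V R (D.eig_zpow D.h20 i) (D.eig_zpow D.h21 i) a b⟩
  have hA : ∀ r a b : F, ∃ a' b', D.A r * (D.A20 a * D.A21 b) = D.A20 a' * D.A21 b' * D.A r := by
    intro r a b
    refine ⟨a, b + -(a * r), ?_⟩
    have h2 : D.A r * D.A20 a = D.A20 a * D.A21 (-(a * r)) * D.A r := by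
      calc D.A r * D.A20 a = (D.A21 (a * r))⁻¹ * (D.A21 (a * r) * D.A r * D.A20 a) := by group
        _ = (D.A21 (a * r))⁻¹ * (D.A20 a * D.A r) := by rw [A20_A R]
        _ = _ := by rw [A20_A21 R, Datum.map_neg_of_add D.A21_add, mul_assoc]
    rw [← mul_assoc, h2, mul_assoc _ (D.A r), A_A21 R, ← mul_assoc, mul_assoc _ _ (D.A21 b), ← D.A21_add,
      add_comm]
  have ht : ∀ a b : F, ∃ a' b', D.t * (D.A20 a * D.A21 b) = D.A20 a' * D.A21 b' * D.t := by
    intro a b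
    refine ⟨b, -a, ?_⟩
    calc D.t * (D.A20 a * D.A21 b) = (D.t * D.A20 a * D.t⁻¹) * (D.t * D.A21 b * D.t⁻¹) * D.t := by group
      _ = _ := by rw [D.t_A20, D.t_A21, ← A20_A21 R]
  induction hl using Subgroup.closure_induction_left with
  | one => exact fun a b => ⟨a, b, by simp⟩
  | mul_left x hx y _ ih =>
    refine key x y ?_ ih
    rcases hx with ⟨r, rfl⟩ | rfl | rfl
    · exact hA r.toAdd
    · simpa using hh 1
    · exact ht
  | inv_mul_cancel x hx y _ ih =>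
    refine key x⁻¹ y ?_ ih
    rcases hx with ⟨r, rfl⟩ | rfl | rfl
    · rw [← map_inv]; exact hA r⁻¹.toAdd
    · simpa using hh (-1)
    · rw [show D.t⁻¹ = D.h ^ (-(D.k : ℤ)) * D.t by rw [zpow_neg, ← D.ht2']; group]
      exact key _ _ (hh _) ht

theorem P_form {g : G} (hg : g ∈ P R) :
    ∃ a b : F, ∃ l ∈ D.L, ∃ i : ℤ, g = D.A20 a * D.A21 b * l * D.e ^ i := by
  induction hg using Subgroup.closure_induction_left with
  | one => exact ⟨0, 0, 1, D.L.one_mem, 0, by simp [Datum.map_zero_of_add D.A20_add, Datum.map_zero_of_add D.A21_add]⟩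
  | mul_left x hx y _ ih =>
    obtain ⟨a, b, l, hl, i, rfl⟩ := ih
    rcases hx with ((⟨r, rfl⟩ | ⟨r, rfl⟩) | hx) | rfl
    · exact ⟨r + a, b, l, hl, i, by rw [D.A20_add]; group⟩
    · exact ⟨a, r + b, l, hl, i, by
        rw [D.A21_add, ← mul_assoc (D.A20 a) (D.A21 r), A20_A21 R a r]; group⟩
    · obtain ⟨a', b', h'⟩ := L_V R hx a b
      exact ⟨a', b', x * l, D.L.mul_mem hx hl, i, by rw [← mul_assoc, ← mul_assoc, h']; group⟩
    · refine ⟨(ζ : F) ^ (-2 : ℤ) * a, (ζ : F) ^ (-1 : ℤ) * b, D.e * l * D.e⁻¹, (e_L R hl).1, 1 + i, ?_⟩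
      rw [← mul_assoc, ← mul_assoc, scale_V R D.e20 D.e21 a b]; group
  | inv_mul_cancel x hx y _ ih =>
    obtain ⟨a, b, l, hl, i, rfl⟩ := ih
    rcases hx with ((⟨r, rfl⟩ | ⟨r, rfl⟩) | hx) | rfl
    · exact ⟨-r + a, b, l, hl, i, by rw [D.A20_add, Datum.map_neg_of_add D.A20_add]; group⟩
    · exact ⟨a, -r + b, l, hl, i, by
        rw [← Datum.map_neg_of_add D.A21_add, D.A21_add, ← mul_assoc (D.A20 a) (D.A21 (-r)), A20_A21 R a (-r)]; group⟩
    · obtain ⟨a', b', h'⟩ := L_V R (D.L.inv_mem hx) a b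
      exact ⟨a', b', x⁻¹ * l, D.L.mul_mem (D.L.inv_mem hx) hl, i, by rw [← mul_assoc, ← mul_assoc, h']; group⟩
    · refine ⟨(ζ : F) ^ (-(-2 : ℤ)) * a, (ζ : F) ^ (-(-1 : ℤ)) * b, D.e⁻¹ * l * D.e, (e_L R hl).2, -1 + i, ?_⟩
      rw [← mul_assoc, ← mul_assoc, scale_V R (D.eig_inv D.e20) (D.eig_inv D.e21) a b]; group

/-- the union of the charts -/
def Ω : Set G := {g | ∃ (j : ℕ) (a b : F), ∃ p ∈ P R, g = D.c ^ j * (D.A02 a * D.B b * p)}

/-- left multiplication preserves the charts -/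
def Pres (g : G) : Prop := ∀ x ∈ Ω R, g * x ∈ Ω R

theorem Pres.mul {g g' : G} (h : Pres R g) (h' : Pres R g') : Pres R (g * g') := fun x hx => by
  rw [mul_assoc]; exact h _ (h' x hx)

theorem pres_c : Pres R D.c := by
  rintro _ ⟨j, a, b, p, hp, rfl⟩
  exact ⟨j + 1, a, b, p, hp, by rw [pow_succ']; group⟩

theorem pres_cinv : Pres R D.c⁻¹ := by rw [← D.cc]; exact (pres_c R).mul R (pres_c R)

theorem cell_mem {a b : F} {p : G} (hp : p ∈ P R) : D.A02 a * D.B b * p ∈ Ω R :=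
  ⟨0, a, b, p, hp, by simp⟩

theorem c_pow_mem (j : ℕ) {x : G} (hx : x ∈ Ω R) : D.c ^ j * x ∈ Ω R := by
  induction j with
  | zero => simpa using hx
  | succ n ih => rw [pow_succ', mul_assoc]; exact pres_c R _ ih

/-- reduction of a left multiplication to the big cell -/
theorem pres_of {g g1 g2 : G} (h1 : g * D.c = D.c * g1) (h2 : g * D.c⁻¹ = D.c⁻¹ * g2)
    (k0 : ∀ a b : F, ∀ p ∈ P R, g * (D.A02 a * D.B b * p) ∈ Ω R)
    (k1 : ∀ a b : F, ∀ p ∈ P R, g1 * (D.A02 a * D.B b * p) ∈ Ω R)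
    (k2 : ∀ a b : F, ∀ p ∈ P R, g2 * (D.A02 a * D.B b * p) ∈ Ω R) : Pres R g := by
  rintro _ ⟨j, a, b, p, hp, rfl⟩
  rw [show D.c ^ j = D.c ^ (j % 3) by
    conv_lhs => rw [← Nat.mod_add_div j 3, pow_add, pow_mul, D.c3, one_pow, mul_one]]
  have : j % 3 = 0 ∨ j % 3 = 1 ∨ j % 3 = 2 := by omega
  rcases this with h | h | h <;> rw [h]
  · rw [pow_zero, one_mul]; exact k0 a b p hp
  · rw [pow_one, ← mul_assoc, h1, mul_assoc]; exact pres_c R _ (k1 a b p hp)
  · rw [pow_two, D.cc, ← mul_assoc, h2, mul_assoc]; exact pres_cinv R _ (k2 a b p hp)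

theorem torus_cell {s : G} (hs : s ∈ P R) {w w' : ℤ} (h02 : D.Eig s D.A02 w) (hB : D.Eig s D.B w')
    (a b : F) (p : G) (hp : p ∈ P R) : s * (D.A02 a * D.B b * p) ∈ Ω R := by
  have : s * (D.A02 a * D.B b * p) = D.A02 ((ζ : F) ^ w * a) * D.B ((ζ : F) ^ w' * b) * (s * p) := by
    rw [← h02.2, ← hB.2]; group
  rw [this]; exact cell_mem R ((P R).mul_mem hs hp)

theorem hp02 : D.Eig D.hp D.A02 ((-1) + 2) := by
  rw [show D.hp = D.h⁻¹ * D.e by rw [D.e_eq, inv_mul_cancel_left]]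
  exact D.eig_mul (D.eig_inv D.h02) D.e02

theorem hpB : D.Eig D.hp D.B (-(-1) + 1) := by
  rw [show D.hp = D.h⁻¹ * D.e by rw [D.e_eq, inv_mul_cancel_left]]
  exact D.eig_mul (D.eig_inv D.hB) D.eB

theorem pres_e : Pres R D.e := by
  refine pres_of R (g1 := D.hp⁻¹) (g2 := D.h⁻¹) ?_ ?_ ?_ ?_ ?_
  · rw [← D.ci_e]; group
  · rw [← D.c_e]; group
  · exact torus_cell R (mem_e R) D.e02 D.eB
  · exact torus_cell R ((P R).inv_mem (mem_hp R)) (D.eig_inv (hp02 R)) (D.eig_inv (hpB R))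
  · exact torus_cell R ((P R).inv_mem (mem_L R D.h_mem)) (D.eig_inv D.h02) (D.eig_inv D.hB)

theorem pres_einv : Pres R D.e⁻¹ := by
  refine pres_of R (g1 := D.hp) (g2 := D.h) ?_ ?_ ?_ ?_ ?_
  · rw [show D.hp = (D.c⁻¹ * D.e * D.c)⁻¹ by rw [D.ci_e, inv_inv]]; group
  · rw [show D.h = (D.c * D.e * D.c⁻¹)⁻¹ by rw [D.c_e, inv_inv]]; group
  · exact torus_cell R ((P R).inv_mem (mem_e R)) (D.eig_inv D.e02) (D.eig_inv D.eB)
  · exact torus_cell R (mem_hp R) (hp02 R) (hpB R)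
  · exact torus_cell R (mem_L R D.h_mem) D.h02 D.hB

theorem A20_cell (s a b : F) (p : G) (hp : p ∈ P R) : D.A20 s * (D.A02 a * D.B b * p) ∈ Ω R := by
  have hsb : D.A20 s * D.B b = D.A10 (-(b * s)) * D.B b * D.A20 s := by
    have := B_A20 R b s
    calc D.A20 s * D.B b = (D.A10 (b * s))⁻¹ * (D.A10 (b * s) * D.A20 s * D.B b) := by group
      _ = (D.A10 (b * s))⁻¹ * (D.B b * D.A20 s) := by rw [this]
      _ = _ := by rw [Datum.map_neg_of_add D.A10_add, mul_assoc]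
  have e0 : D.A20 s * (D.A02 a * D.B b * p) = D.A10 (-(b * s)) * D.B b * (D.A20 s * D.A02 a) * p := by
    rw [← B_A02 R b a, ← mul_assoc, ← mul_assoc, hsb]; group
  rw [e0]
  have eL : D.A20 s * D.A02 a = D.c⁻¹ * (D.A (-s) * D.A10 (-a)) * D.c := by
    simp only [Datum.A20, Datum.A02]; group
  have eci : ∀ i : ℤ, D.c⁻¹ * D.h ^ i * D.c = D.e ^ (-i) := fun i => by
    have := (MulAut.conj D.c⁻¹).toMonoidHom.map_zpow D.h i
    simp only [MulEquiv.coe_toMonoidHom, MulAut.conj_apply, inv_inv] at this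
    rw [this, D.ci_h, inv_zpow']
  rcases eq_or_ne (1 + s * a) 0 with hδ | hδ
  · have hs : s ≠ 0 := by rintro rfl; simp at hδ
    have ha : a ≠ 0 := by rintro rfl; simp at hδ
    obtain ⟨m, hm⟩ := exists_pow D.hζ ha
    have eq1 : D.A (-s) * D.A10 (-a) = D.t * D.h ^ (m : ℤ) * D.A s := by
      refine D.L_eq (D.L.mul_mem (D.A_mem _) (D.A10_mem _))
        (D.L.mul_mem (D.L.mul_mem D.t_mem (D.L.zpow_mem D.h_mem _)) (D.A_mem _)) ?_
      rw [map_mul, map_mul, map_mul, map_zpow, D.π_A, D.π_A, D.π_A10, D.π_h, D.πt, ← map_zpow, d_zpow,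
        ← conj_W, ← blk_u, ← blk_u, ← blk_u, ← map_inv, ← map_mul, ← map_mul, ← map_mul, ← map_mul, ← map_mul]
      congr 1
      have hm' : ((ζ ^ (m : ℤ) : Fˣ) : F) = a := by rw [zpow_natCast, Units.val_pow_eq_pow_val, hm]
      rw [← mul_assoc (u (-s)) _ W⁻¹, mul_inv_eq_iff_eq_mul]
      apply ext2 <;> simp [u, W, d, mul_apply2, hm', zpow_natCast, hm]
      all_goals field_simp
      all_goals first | linear_combination hδ | linear_combination -hδ

    have e1 : D.A20 s * D.A02 a = D.c * (D.t⁻¹ * D.e ^ (-(m : ℤ)) * D.A20 (-s)) := by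
      rw [eL, eq1, ← eci]
      have hct : D.c⁻¹ * D.t * D.c = D.c * D.t⁻¹ := by
        calc D.c⁻¹ * D.t * D.c = D.c * D.c * D.t * D.c := by rw [D.cc]
          _ = D.c * (D.c * D.t * (D.c * D.t)) * D.t⁻¹ := by group
          _ = _ := by rw [D.ct, mul_one]
      rw [← mul_assoc D.c, ← mul_assoc D.c, ← hct]
      simp only [Datum.A20, neg_neg]; group
    rw [e1]
    set q := D.t⁻¹ * D.e ^ (-(m : ℤ)) * D.A20 (-s)
    have hq : q ∈ P R := (P R).mul_mem ((P R).mul_mem ((P R).inv_mem (mem_L R D.t_mem))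
      ((P R).zpow_mem (mem_e R) _)) (mem_A20 R _)
    refine ⟨1, b * s, 0, D.A b * q * p, (P R).mul_mem ((P R).mul_mem (mem_L R (D.A_mem _)) hq) hp, ?_⟩
    rw [pow_one, Datum.map_zero_of_add D.B_add, mul_one]
    simp only [Datum.A02, Datum.B]
    group
  · obtain ⟨m, hm⟩ := exists_pow D.hζ hδ
    have eq1 : D.A (-s) * D.A10 (-a) =
        D.A10 (-(a / (1 + s * a))) * D.h ^ (m : ℤ) * D.A (-(s / (1 + s * a))) := by
      refine D.L_eq (D.L.mul_mem (D.A_mem _) (D.A10_mem _))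
        (D.L.mul_mem (D.L.mul_mem (D.A10_mem _) (D.L.zpow_mem D.h_mem _)) (D.A_mem _)) ?_
      rw [map_mul, map_mul, map_mul, map_zpow, D.π_A, D.π_A, D.π_A10, D.π_A10, D.π_h, ← map_zpow, d_zpow]
      have hm' : ((ζ ^ (m : ℤ) : Fˣ) : F) = 1 + s * a := by rw [zpow_natCast, Units.val_pow_eq_pow_val, hm]
      apply ext3 <;> simp [x01, x10, blk_coe, d, mul_apply3, hm', zpow_natCast, hm]
      all_goals have hδ' : 1 + a * s ≠ 0 := by rwa [mul_comm]
      all_goals field_simp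
      all_goals ring
    have e1 : D.A20 s * D.A02 a =
        D.A02 (a / (1 + s * a)) * (D.e ^ (-(m : ℤ)) * D.A20 (s / (1 + s * a))) := by
      rw [eL, eq1, ← eci]
      simp only [Datum.A20, Datum.A02]; group
    rw [e1]
    set a' := a / (1 + s * a)
    set q := D.e ^ (-(m : ℤ)) * D.A20 (s / (1 + s * a))
    have hq : q ∈ P R := (P R).mul_mem ((P R).zpow_mem (mem_e R) _) (mem_A20 R _)
    have e2 : D.A10 (-(b * s)) * D.B b * (D.A02 a' * q) * p =
        D.A02 a' * D.B (b + -(b * s) * a') * (D.A10 (-(b * s)) * q * p) := by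
      calc D.A10 (-(b * s)) * D.B b * (D.A02 a' * q) * p
          = (D.A10 (-(b * s)) * D.B b) * D.A02 a' * q * p := by group
        _ = D.B b * (D.A10 (-(b * s)) * D.A02 a') * q * p := by rw [A10_B R]; group
        _ = D.B b * D.B (-(b * s) * a') * D.A02 a' * (D.A10 (-(b * s)) * q * p) := by rw [A10_A02 R]; group
        _ = _ := by rw [← D.B_add, B_A02 R]
    rw [e2]
    exact cell_mem R ((P R).mul_mem ((P R).mul_mem (mem_L R (D.A10_mem _)) hq) hp)

theorem pres_A (r : F) : Pres R (D.A r) := by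
  refine pres_of R (g1 := D.A20 (-r)) (g2 := D.B r) ?_ ?_ ?_ ?_ ?_
  · simp only [Datum.A20, neg_neg]; group
  · simp only [Datum.B]; group
  · intro a b p hp
    have : D.A r * (D.A02 a * D.B b * p) = D.A02 (a + r * b) * D.B b * (D.A r * p) := by
      calc D.A r * (D.A02 a * D.B b * p) = (D.A r * D.A02 a) * D.B b * p := by group
        _ = D.A02 a * (D.A r * D.B b) * p := by rw [A_A02 R]; group
        _ = _ := by rw [A_B R, D.A02_add]; group
    rw [this]; exact cell_mem R ((P R).mul_mem (mem_L R (D.A_mem r)) hp)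
  · exact A20_cell R (-r)
  · intro a b p hp
    have : D.B r * (D.A02 a * D.B b * p) = D.A02 a * D.B (r + b) * p := by
      rw [← mul_assoc, ← mul_assoc, B_A02 R, mul_assoc _ (D.B r), ← D.B_add]
    rw [this]; exact cell_mem R hp

theorem pres_t : Pres R D.t ∧ Pres R D.t⁻¹ := by
  have hB : ∀ r, Pres R (D.B r) := fun r => ((pres_c R).mul R (pres_A R r)).mul R (pres_cinv R)
  have h02 : ∀ r, Pres R (D.A02 r) := fun r => by
    have e : D.A02 r = D.A 1 * D.B r * D.A (-1) * D.B (-r) := by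
      rw [A_B R, one_mul, D.A_neg, Datum.map_neg_of_add D.B_add]; group
    rw [e]; exact (((pres_A R 1).mul R (hB r)).mul R (pres_A R _)).mul R (hB _)
  have h10 : ∀ r, Pres R (D.A10 r) := fun r => by
    rw [← neg_neg r, ← D.c_A02]; exact ((pres_c R).mul R (h02 _)).mul R (pres_cinv R)
  have et : D.t = D.A 1 * D.A10 (-1) * D.A 1 := by
    refine D.L_eq D.t_mem (D.L.mul_mem (D.L.mul_mem (D.A_mem _) (D.A10_mem _)) (D.A_mem _)) ?_
    rw [map_mul, map_mul, D.π_A, D.π_A10, D.πt]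
    apply ext3 <;> simp [x01, x10, blk_coe, W, mul_apply3]
  refine ⟨et ▸ ((pres_A R 1).mul R (h10 _)).mul R (pres_A R 1), ?_⟩
  rw [et, mul_inv_rev, mul_inv_rev, ← D.A_neg, ← Datum.map_neg_of_add D.A10_add, ← mul_assoc]
  exact ((pres_A R _).mul R (h10 _)).mul R (pres_A R _)

theorem charts (g : G) : g ∈ Ω R := by
  suffices h : Pres R g by
    have h1 : (1 : G) ∈ Ω R := ⟨0, 0, 0, 1, (P R).one_mem, by
      simp [Datum.map_zero_of_add D.A02_add, Datum.map_zero_of_add D.B_add]⟩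
    simpa using h 1 h1
  induction (D.hgen ▸ Subgroup.mem_top g : g ∈ Subgroup.closure ({D.φ (ofAdd 1), D.e, D.t, D.c} : Set G)) using
    Subgroup.closure_induction_left with
  | one => exact fun x hx => by simpa using hx
  | mul_left x hx y _ ih =>
    refine Pres.mul R ?_ ih
    rcases hx with rfl | rfl | rfl | rfl
    exacts [pres_A R 1, pres_e R, (pres_t R).1, pres_c R]
  | inv_mul_cancel x hx y _ ih =>
    refine Pres.mul R ?_ ih
    rcases hx with rfl | rfl | rfl | rfl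
    · rw [show D.φ (ofAdd 1) = D.A 1 from rfl, ← D.A_neg]; exact pres_A R _
    exacts [pres_einv R, (pres_t R).2, pres_cinv R]

theorem injective : Function.Injective D.π := by
  refine (injective_iff_map_eq_one D.π).mpr fun g hg => ?_
  obtain ⟨j, a, b, p, hp, rfl⟩ := charts R g
  rw [show D.c ^ j = D.c ^ (j % 3) by
    conv_lhs => rw [← Nat.mod_add_div j 3, pow_add, pow_mul, D.c3, one_pow, mul_one]] at hg ⊢
  obtain ⟨a1, b1, l, hl, i, rfl⟩ := P_form R hp
  obtain ⟨g2, hg2⟩ : ∃ g2, blk g2 = D.π l := by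
    have : D.L ≤ (blk : SL(2, F) →* SL(3, F)).range.comap D.π := by
      rw [Datum.L, Subgroup.closure_le]
      rintro x (⟨y, rfl⟩ | rfl | rfl)
      · exact ⟨u y.toAdd, by rw [blk_u]; exact (D.π_A _).symm⟩
      · exact ⟨d ζ, D.π_h.symm⟩
      · exact ⟨W, D.πt.symm⟩
    exact this hl
  simp only [map_mul, map_pow, map_zpow, D.π_A02, D.π_B, D.π_A20, D.π_A21, D.πc, D.πe, E_zpow, ← hg2] at hg
  set x : Fˣ := ζ ^ i with hx
  set M : SL(3, F) := x20 a1 * x21 b1 * blk g2 * E x with hM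
  have m02 : M.1 0 2 = 0 := by simp [hM, x20, x21, blk_coe, E, mul_apply3]
  have m12 : M.1 1 2 = 0 := by simp [hM, x20, x21, blk_coe, E, mul_apply3]
  have m22 : M.1 2 2 = ((x⁻¹ : Fˣ) : F) := by simp [hM, x20, x21, blk_coe, E, mul_apply3]
  have hxne : ((x⁻¹ : Fˣ) : F) ≠ 0 := Units.ne_zero _
  have : j % 3 = 0 ∨ j % 3 = 1 ∨ j % 3 = 2 := by omega
  rcases this with h | h | h <;> rw [h] at hg ⊢
  · rw [pow_zero, one_mul] at hg
    have e02 := congrArg (fun A : SL(3, F) => A.1 0 2) hg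
    have e12 := congrArg (fun A : SL(3, F) => A.1 1 2) hg
    have e22 := congrArg (fun A : SL(3, F) => A.1 2 2) hg
    simp [x02, x12, mul_apply3, m02, m12, m22] at e02 e12 e22
    have hx1 : x = 1 := e22
    rw [hx1, inv_one, Units.val_one] at m22
    have ha : a = 0 := by rcases e02 with h | h <;> simp_all
    have hb : b = 0 := by rcases e12 with h | h <;> simp_all
    subst ha hb
    have hM1 : M = 1 := by
      rw [show (x02 (0 : F) : SL(3, F)) = 1 by apply ext3 <;> simp [x02],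
        show (x12 (0 : F) : SL(3, F)) = 1 by apply ext3 <;> simp [x12], one_mul, one_mul] at hg
      exact hg
    rw [hM, hx1] at hM1
    have g00 := congrArg (fun A : SL(3, F) => A.1 0 0) hM1
    have g01 := congrArg (fun A : SL(3, F) => A.1 0 1) hM1
    have g10 := congrArg (fun A : SL(3, F) => A.1 1 0) hM1
    have g11 := congrArg (fun A : SL(3, F) => A.1 1 1) hM1
    have g20 := congrArg (fun A : SL(3, F) => A.1 2 0) hM1
    have g21 := congrArg (fun A : SL(3, F) => A.1 2 1) hM1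
    simp [x20, x21, blk_coe, E, mul_apply3] at g00 g01 g10 g11 g20 g21
    have hg21 : g2 = 1 := by apply ext2 <;> simp [g00, g01, g10, g11]
    subst hg21
    simp at g20 g21
    subst g20 g21
    have hl1 : l = 1 := D.L_inj hl (by rw [← hg2, map_one])
    obtain ⟨n, rfl⟩ := dvd_of_zpow_eq_one D.hζ (hx ▸ hx1)
    have he : D.e ^ (Fintype.card F - 1) = 1 := by
      have : D.e = D.c⁻¹ * D.h⁻¹ * D.c⁻¹⁻¹ := by rw [← D.c_e]; group
      rw [this, conj_pow, inv_pow, D.h_pow, inv_one, mul_one, mul_inv_cancel]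
    simp [hl1, Datum.map_zero_of_add D.A02_add, Datum.map_zero_of_add D.B_add, Datum.map_zero_of_add D.A20_add,
      Datum.map_zero_of_add D.A21_add, zpow_mul, he]
  · exfalso
    have e02 := congrArg (fun A : SL(3, F) => A.1 0 2) hg
    simp [Cm, x02, x12, mul_apply3, m02, m12, m22] at e02
  · exfalso
    have e12 := congrArg (fun A : SL(3, F) => A.1 1 2) hg
    simp [pow_two, Cm, x02, x12, mul_apply3, m02, m12, m22] at e12

end

end Cfsg.Agent.SL3PresChart
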