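import Cfsg.Agent.Lib.SL3PresModel
import Cfsg.Agent.S2286
import Cfsg.Agent.S2278

/-!
Consequences of the relations of a short presentation of `SL(3, q)`: torus weights on the six root
groups, the commutator formulas for all field elements, and the faithful block subgroup.
-/

set_option autoImplicit false

namespace Cfsg.Agent.SL3PresDatum

open PSL2Elements SL2PresData SL3PresModel
open Multiplicative (ofAdd)
open scoped MatrixGroups

/-- derived data of the relations -/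
structure Datum (G : Type) [Group G] (F : Type*) [Field F] [Fintype F] (ζ : Fˣ) where
  φ : Multiplicative F →* G
  e : G
  t : G
  c : G
  k : ℕ
  hζ : ∀ y : Fˣ, y ∈ Subgroup.zpowers ζ
  hk : 2 * k = Fintype.card F - 1 ∨ (k = 0 ∧ ∃ l : ℕ, 2 * l + 1 = Fintype.card F - 1)
  k0 : (ζ : F) ^ k = -1
  hgen : Subgroup.closure ({φ (ofAdd 1), e, t, c} : Set G) = ⊤
  he : ∀ r, e * φ (ofAdd r) * e⁻¹ = φ (ofAdd ((ζ : F) * r))
  hT : Commute e (t⁻¹ * e * t)
  hHP : (t⁻¹ * e * t) * φ (ofAdd 1) * (t⁻¹ * e * t)⁻¹ = φ (ofAdd ((ζ : F)⁻¹))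
  ht2 : t * t = (e * (t⁻¹ * e * t)⁻¹) ^ k
  h3 : (t * φ (ofAdd 1)) ^ 3 = 1
  c3 : c ^ 3 = 1
  ct : c * t * (c * t) = 1
  hQ : c * e * c⁻¹ = (e * (t⁻¹ * e * t)⁻¹)⁻¹
  π : G →* SL(3, F)
  πu : π (φ (ofAdd 1)) = x01 1
  πe : π e = E ζ
  πt : π t = blk W
  πc : π c = Cm

variable {G : Type} [Group G] {F : Type*} [Field F] [Fintype F] {ζ : Fˣ} (D : Datum G F ζ)

namespace Datum

/-- root subgroup -/
def A (r : F) : G := D.φ (ofAdd r)
/-- root subgroup -/
def B (r : F) : G := D.c * D.A r * D.c⁻¹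
/-- root subgroup -/
def A20 (r : F) : G := D.c⁻¹ * D.A (-r) * D.c
/-- root subgroup -/
def A10 (r : F) : G := D.t * D.A (-r) * D.t⁻¹
/-- root subgroup -/
def A21 (r : F) : G := D.c * D.A10 r * D.c⁻¹
/-- root subgroup -/
def A02 (r : F) : G := D.c⁻¹ * D.A10 (-r) * D.c
/-- torus element -/
def hp : G := D.t⁻¹ * D.e * D.t
/-- torus element -/
def h : G := D.e * D.hp⁻¹

/-- `s` multiplies the parameter by `ζ ^ w` -/
def Eig (s : G) (X : F → G) (w : ℤ) : Prop :=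
  D.φ = D.φ ∧ ∀ r, s * X r * s⁻¹ = X ((ζ : F) ^ w * r)

theorem A_add (r s : F) : D.A (r + s) = D.A r * D.A s := by simp [A, ofAdd_add]
theorem A_zero : D.A 0 = 1 := by simp [A]
theorem A_neg (r : F) : D.A (-r) = (D.A r)⁻¹ := by simp [A]

theorem conj_add {X : F → G} (hX : ∀ r s, X (r + s) = X r * X s) (g : G) (r s : F) :
    g * X (r + s) * g⁻¹ = g * X r * g⁻¹ * (g * X s * g⁻¹) := by
  rw [hX]; group

theorem B_add (r s : F) : D.B (r + s) = D.B r * D.B s := conj_add (X := D.A) D.A_add D.c r s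
theorem A10_add (r s : F) : D.A10 (r + s) = D.A10 r * D.A10 s := by
  simp only [A10, neg_add, D.A_add]; group
theorem A21_add (r s : F) : D.A21 (r + s) = D.A21 r * D.A21 s := conj_add (X := D.A10) D.A10_add D.c r s
theorem A20_add (r s : F) : D.A20 (r + s) = D.A20 r * D.A20 s := by
  simp only [A20, neg_add, D.A_add]; group
theorem A02_add (r s : F) : D.A02 (r + s) = D.A02 r * D.A02 s := by
  simp only [A02, neg_add, D.A10_add]; group

theorem Eig.mk' {s : G} {X : F → G} {w : ℤ} (hs : ∀ r, s * X r * s⁻¹ = X ((ζ : F) ^ w * r)) :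
    D.Eig s X w := ⟨rfl, hs⟩

theorem eig_mul {s s' : G} {X : F → G} {w w' : ℤ} (h1 : D.Eig s X w) (h2 : D.Eig s' X w') :
    D.Eig (s * s') X (w + w') := Eig.mk' D fun r => by
  rw [zpow_add₀ ζ.ne_zero, mul_assoc ((ζ : F) ^ w), ← h1.2, ← h2.2]; group

theorem eig_inv {s : G} {X : F → G} {w : ℤ} (h1 : D.Eig s X w) : D.Eig s⁻¹ X (-w) := Eig.mk' D fun r => by
  have := h1.2 ((ζ : F) ^ (-w) * r)
  rw [← mul_assoc, ← zpow_add₀ ζ.ne_zero, add_neg_cancel, zpow_zero, one_mul] at this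
  conv_lhs => rw [← this]
  group

theorem eig_one (X : F → G) : D.Eig 1 X 0 := Eig.mk' D fun r => by simp

theorem eig_pow {s : G} {X : F → G} {w : ℤ} (h1 : D.Eig s X w) (n : ℕ) : D.Eig (s ^ n) X (n * w) := by
  induction n with
  | zero => simpa using D.eig_one X
  | succ n ih =>
    rw [pow_succ, show ((n + 1 : ℕ) : ℤ) * w = n * w + w by push_cast; ring]
    exact D.eig_mul ih h1

theorem eig_zpow {s : G} {X : F → G} {w : ℤ} (h1 : D.Eig s X w) (n : ℤ) : D.Eig (s ^ n) X (n * w) := by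
  obtain ⟨m, rfl | rfl⟩ := n.eq_nat_or_neg
  · rw [zpow_natCast]; exact D.eig_pow h1 m
  · rw [zpow_neg, zpow_natCast, neg_mul]; exact D.eig_inv (D.eig_pow h1 m)

theorem eig_conj {s s' g : G} {X : F → G} {w : ℤ} (h1 : D.Eig s' X w) (hs : g * s' * g⁻¹ = s) :
    D.Eig s (fun r => g * X r * g⁻¹) w := Eig.mk' D fun r => by
  show s * (g * X r * g⁻¹) * s⁻¹ = g * X _ * g⁻¹
  rw [← hs, ← h1.2]; group

theorem eig_neg {s : G} {X : F → G} {w : ℤ} (h1 : D.Eig s X w) : D.Eig s (fun r => X (-r)) w :=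
  Eig.mk' D fun r => by
    show s * X (-r) * s⁻¹ = X (-((ζ : F) ^ w * r))
    rw [h1.2, mul_neg]

/-- torus elements commute -/
theorem e_hp : Commute D.e D.hp := D.hT

theorem eA : D.Eig D.e D.A 1 := Eig.mk' D fun r => by rw [zpow_one]; exact D.he r

theorem hpA : D.Eig D.hp D.A (-1) := Eig.mk' D fun r => by
  rw [zpow_neg_one]
  rcases eq_or_ne r 0 with rfl | hr
  · simp [D.A_zero]
  · obtain ⟨n, rfl⟩ := exists_pow D.hζ hr
    have e1 := (D.eig_pow D.eA n).2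
    simp only [mul_one, zpow_natCast] at e1
    have e2 : D.hp * D.A 1 * D.hp⁻¹ = D.A ((ζ : F)⁻¹) := D.hHP
    rw [show D.A ((ζ : F) ^ n) = D.e ^ n * D.A 1 * (D.e ^ n)⁻¹ by rw [e1, mul_one],
      show D.A ((ζ : F)⁻¹ * (ζ : F) ^ n) = D.e ^ n * D.A ((ζ : F)⁻¹) * (D.e ^ n)⁻¹ by rw [e1, mul_comm],
      ← e2]
    have c := (D.e_hp.pow_left n).eq
    calc D.hp * (D.e ^ n * D.A 1 * (D.e ^ n)⁻¹) * D.hp⁻¹
        = (D.hp * D.e ^ n) * D.A 1 * (D.hp * D.e ^ n)⁻¹ := by group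
      _ = _ := by rw [← c]; group

theorem hA : D.Eig D.h D.A 2 := by
  have := D.eig_mul D.eA (D.eig_inv D.hpA)
  exact this

theorem ht2' : D.t * D.t = D.h ^ (D.k : ℤ) := by rw [zpow_natCast]; exact D.ht2

theorem e_h : Commute D.e D.h := (Commute.refl _).mul_right D.e_hp.inv_right
theorem hp_h : Commute D.hp D.h := D.e_hp.symm.mul_right (Commute.refl _).inv_right

theorem e_eq : D.e = D.h * D.hp := by simp [h]

theorem t_hp : D.t⁻¹ * D.hp * D.t = D.e := by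
  have c : Commute (D.t * D.t) D.e := by rw [D.ht2']; exact (D.e_h.symm).zpow_left _
  calc D.t⁻¹ * D.hp * D.t = (D.t * D.t)⁻¹ * (D.e * (D.t * D.t)) := by simp only [hp]; group
    _ = D.e := by rw [← c.eq, inv_mul_cancel_left]

theorem t_h : D.t⁻¹ * D.h * D.t = D.h⁻¹ := by
  calc D.t⁻¹ * D.h * D.t = (D.t⁻¹ * D.e * D.t) * (D.t⁻¹ * D.hp * D.t)⁻¹ := by simp only [h]; group
    _ = D.hp * D.e⁻¹ := by rw [D.t_hp]; rfl
    _ = _ := by simp [h]

theorem hth : D.h * D.t * D.h = D.t := by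
  calc D.h * D.t * D.h = D.t * (D.t⁻¹ * D.h * D.t) * D.h := by group
    _ = D.t := by rw [D.t_h]; group

theorem t_h' : D.t * D.h * D.t⁻¹ = D.h⁻¹ := by
  calc D.t * D.h * D.t⁻¹ = D.h⁻¹ * (D.h * D.t * D.h) * D.t⁻¹ := by group
    _ = _ := by rw [D.hth]; group

theorem t_hp' : D.t * D.hp * D.t⁻¹ = D.e := by simp only [hp]; group

theorem t_e' : D.t * D.e * D.t⁻¹ = D.hp := by
  calc D.t * D.e * D.t⁻¹ = D.t * D.h * D.t⁻¹ * (D.t * D.hp * D.t⁻¹) := by rw [D.e_eq]; group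
    _ = D.hp := by rw [D.t_h', D.t_hp', D.e_eq, inv_mul_cancel_left]

theorem tc : D.t * D.c = D.c⁻¹ * D.t⁻¹ := by
  calc D.t * D.c = D.c⁻¹ * (D.c * D.t * (D.c * D.t)) * D.t⁻¹ := by group
    _ = _ := by rw [D.ct, mul_one]

theorem tci : D.t * D.c⁻¹ = D.t * D.t * (D.c * D.t) := by
  have : D.c⁻¹ = D.t * (D.c * D.t) := by
    rw [← mul_assoc, D.tc, inv_mul_cancel_right]
  rw [this]; group

theorem c_e : D.c * D.e * D.c⁻¹ = D.h⁻¹ := D.hQ

theorem ci_h : D.c⁻¹ * D.h * D.c = D.e⁻¹ := by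
  have := congrArg (fun x => D.c⁻¹ * x⁻¹ * D.c) D.c_e
  simp only [inv_inv] at this
  rw [← this]; group

theorem ci_hp : D.c⁻¹ * D.hp * D.c = D.h := by
  have h1 : D.t * (D.c * D.e * D.c⁻¹) * D.t⁻¹ = D.h := by
    rw [D.c_e]
    calc D.t * D.h⁻¹ * D.t⁻¹ = (D.t * D.h * D.t⁻¹)⁻¹ := by group
      _ = D.h := by rw [D.t_h', inv_inv]
  calc D.c⁻¹ * D.hp * D.c = (D.c⁻¹ * D.t⁻¹) * D.e * (D.t * D.c) := by simp only [hp]; group
    _ = D.t * D.c * D.e * (D.c⁻¹ * D.t⁻¹) := by rw [← D.tc]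
    _ = D.h := by rw [← h1]; group

theorem c_h : D.c * D.h * D.c⁻¹ = D.hp := by rw [← D.ci_hp]; group

theorem c_hp : D.c * D.hp * D.c⁻¹ = D.e⁻¹ := by
  calc D.c * D.hp * D.c⁻¹ = (D.c * D.h * D.c⁻¹)⁻¹ * (D.c * D.e * D.c⁻¹) := by
        rw [D.e_eq]; group
    _ = _ := by rw [D.c_h, D.c_e, D.e_eq, mul_inv_rev]

theorem ci_e : D.c⁻¹ * D.e * D.c = D.hp⁻¹ := by
  have := congrArg (fun x => D.c⁻¹ * x⁻¹ * D.c) D.c_hp
  simp only [inv_inv] at this
  rw [← this]; group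

theorem eig_conj' {s s' g : G} {X : F → G} {w : ℤ} (h1 : D.Eig s' X w) (hs : g⁻¹ * s * g = s') :
    D.Eig s (fun r => g * X r * g⁻¹) w := D.eig_conj h1 (by rw [← hs]; group)

theorem eig_conji {s s' g : G} {X : F → G} {w : ℤ} (h1 : D.Eig s' X w) (hs : g * s * g⁻¹ = s') :
    D.Eig s (fun r => g⁻¹ * X r * g) w := Eig.mk' D fun r => by
  show s * (g⁻¹ * X r * g) * s⁻¹ = g⁻¹ * X _ * g
  rw [← h1.2, ← hs]; group

theorem hB : D.Eig D.h D.B (-1) := D.eig_conj' (D.eig_inv D.eA) D.ci_h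
theorem eB : D.Eig D.e D.B 1 := by
  have := D.eig_conj' (D.eig_inv D.hpA) D.ci_e
  exact this
theorem h20 : D.Eig D.h D.A20 (-1) := D.eig_conji (D.eig_neg D.hpA) D.c_h
theorem e20 : D.Eig D.e D.A20 (-2) := D.eig_conji (D.eig_neg (D.eig_inv D.hA)) D.c_e
theorem h10 : D.Eig D.h D.A10 (-2) := D.eig_conj' (D.eig_neg (D.eig_inv D.hA)) D.t_h
theorem e10 : D.Eig D.e D.A10 (-1) := D.eig_conj' (D.eig_neg D.hpA) rfl
theorem hp10 : D.Eig D.hp D.A10 1 := D.eig_conj' (D.eig_neg D.eA) D.t_hp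
theorem h21 : D.Eig D.h D.A21 1 := by
  have := D.eig_conj' (D.eig_inv D.e10) D.ci_h
  rwa [neg_neg] at this
theorem e21 : D.Eig D.e D.A21 (-1) := D.eig_conj' (D.eig_inv D.hp10) D.ci_e
theorem h02 : D.Eig D.h D.A02 1 := D.eig_conji (D.eig_neg D.hp10) D.c_h
theorem e02 : D.Eig D.e D.A02 2 := by
  have := D.eig_conji (D.eig_neg (D.eig_inv D.h10)) D.c_e
  rwa [neg_neg] at this

theorem zeta_k2 : (ζ : F) ^ ((D.k : ℤ) * 2) = 1 := by
  rw [zpow_mul, zpow_natCast, D.k0, show ((2 : ℤ)) = ((2 : ℕ) : ℤ) from rfl, zpow_natCast]; norm_num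

theorem z_eig {X : F → G} {w : ℤ} (h1 : D.Eig D.h X w) (r : F) :
    D.t * D.t * X r * (D.t * D.t)⁻¹ = X ((ζ : F) ^ ((D.k : ℤ) * w) * r) := by
  rw [D.ht2']; exact (D.eig_zpow h1 D.k).2 r

theorem A10_eq (r : F) : D.A10 r = D.t⁻¹ * D.A (-r) * D.t := by
  have := D.z_eig D.hA (-r)
  rw [D.zeta_k2, one_mul] at this
  calc D.A10 r = D.t⁻¹ * (D.t * D.t * D.A (-r) * (D.t * D.t)⁻¹) * D.t := by simp only [A10]; group
    _ = _ := by rw [this]

theorem t_A (r : F) : D.t * D.A r * D.t⁻¹ = D.A10 (-r) := by simp [A10]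

theorem t_B (r : F) : D.t * D.B r * D.t⁻¹ = D.A02 r := by
  calc D.t * D.B r * D.t⁻¹ = D.t * D.c * D.A r * (D.t * D.c)⁻¹ := by simp only [B]; group
    _ = D.c⁻¹ * (D.t⁻¹ * D.A r * D.t) * D.c := by rw [D.tc]; group
    _ = _ := by rw [A02, D.A10_eq, neg_neg]

theorem sign_neg {X : F → G} {w : ℤ} (h1 : D.Eig D.h X w) (hw : w = 1 ∨ w = -1) (r : F) :
    D.t * D.t * X r * (D.t * D.t)⁻¹ = X (-r) := by
  rw [D.z_eig h1]
  rcases hw with rfl | rfl
  · rw [mul_one, zpow_natCast, D.k0, neg_one_mul]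
  · rw [mul_neg_one, zpow_neg, zpow_natCast, D.k0, inv_neg_one, neg_one_mul]

theorem t_A02 (r : F) : D.t * D.A02 r * D.t⁻¹ = D.B (-r) := by
  rw [← D.sign_neg D.hB (Or.inr rfl), ← D.t_B]; group

theorem t_A20 (r : F) : D.t * D.A20 r * D.t⁻¹ = D.A21 (-r) := by
  rw [← D.sign_neg D.h21 (Or.inl rfl)]
  calc D.t * D.A20 r * D.t⁻¹ = D.t * D.c⁻¹ * D.A (-r) * (D.t * D.c⁻¹)⁻¹ := by simp only [A20]; group
    _ = _ := by rw [D.tci]; simp only [A21, A10]; group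

theorem t_A21 (r : F) : D.t * D.A21 r * D.t⁻¹ = D.A20 r := by
  have h1 := D.t_A20 (-r)
  rw [neg_neg] at h1
  calc D.t * D.A21 r * D.t⁻¹ = D.t * D.t * D.A20 (-r) * (D.t * D.t)⁻¹ := by rw [← h1]; group
    _ = _ := by rw [D.sign_neg D.h20 (Or.inr rfl), neg_neg]

theorem cc : D.c * D.c = D.c⁻¹ := by
  rw [eq_inv_iff_mul_eq_one, ← D.c3, pow_succ, pow_two]

theorem c_A (r : F) : D.c * D.A r * D.c⁻¹ = D.B r := rfl
theorem c_A10 (r : F) : D.c * D.A10 r * D.c⁻¹ = D.A21 r := rfl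

theorem c_B (r : F) : D.c * D.B r * D.c⁻¹ = D.A20 (-r) := by
  calc D.c * D.B r * D.c⁻¹ = D.c * D.c * D.A r * (D.c * D.c)⁻¹ := by simp only [B]; group
    _ = _ := by rw [D.cc, A20, neg_neg, inv_inv]

theorem c_A20 (r : F) : D.c * D.A20 r * D.c⁻¹ = D.A (-r) := by simp only [A20]; group

theorem c_A21 (r : F) : D.c * D.A21 r * D.c⁻¹ = D.A02 (-r) := by
  calc D.c * D.A21 r * D.c⁻¹ = D.c * D.c * D.A10 r * (D.c * D.c)⁻¹ := by simp only [A21]; group
    _ = _ := by rw [D.cc, A02, neg_neg, inv_inv]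

theorem c_A02 (r : F) : D.c * D.A02 r * D.c⁻¹ = D.A10 (-r) := by simp only [A02]; group

/-! ### extension of commutator relations -/

theorem map_zero_of_add {X : F → G} (hX : ∀ r s, X (r + s) = X r * X s) : X 0 = 1 := by
  have := hX 0 0
  rwa [add_zero, left_eq_mul] at this

theorem map_neg_of_add {X : F → G} (hX : ∀ r s, X (r + s) = X r * X s) (r : F) : X (-r) = (X r)⁻¹ := by
  rw [eq_inv_iff_mul_eq_one, ← hX, neg_add_cancel, map_zero_of_add hX]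

theorem rel_extend {X Y Z : F → G} (hX : ∀ r s, X (r + s) = X r * X s)
    (hY : ∀ r s, Y (r + s) = Y r * Y s) (hZ : ∀ r s, Z (r + s) = Z r * Z s)
    (hYZ : ∀ r s, Commute (Y r) (Z s)) {g : G} (gX : D.Eig g X 0) (gY : D.Eig g Y 3) (gZ : D.Eig g Z 3)
    {wy : ℤ} (eX : D.Eig D.e X 1) (eY : D.Eig D.e Y wy) (eZ : D.Eig D.e Z (1 + wy))
    (h1 : X 1 * Y 1 = Z (1 * 1) * Y 1 * X 1)
    (hs : Fintype.card F ≠ 4 ∨ X 1 * Y (ζ : F) = Z (1 * (ζ : F)) * Y (ζ : F) * X 1) (a b : F) :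
    X a * Y b = Z (a * b) * Y b * X a := by
  have scale : ∀ (s : G) (wx wy' : ℤ), D.Eig s X wx → D.Eig s Y wy' → D.Eig s Z (wx + wy') → ∀ a b : F,
      X a * Y b = Z (a * b) * Y b * X a →
      X ((ζ : F) ^ wx * a) * Y ((ζ : F) ^ wy' * b) =
        Z (((ζ : F) ^ wx * a) * ((ζ : F) ^ wy' * b)) * Y ((ζ : F) ^ wy' * b) * X ((ζ : F) ^ wx * a) := by
    intro s wx wy' sX sY sZ a b h
    rw [show ((ζ : F) ^ wx * a) * ((ζ : F) ^ wy' * b) = (ζ : F) ^ (wx + wy') * (a * b) by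
      rw [zpow_add₀ ζ.ne_zero]; ring, ← sX.2, ← sY.2, ← sZ.2]
    calc s * X a * s⁻¹ * (s * Y b * s⁻¹) = s * (X a * Y b) * s⁻¹ := by group
      _ = _ := by rw [h]; group
  let S : AddSubgroup F :=
    { carrier := {b | X 1 * Y b = Z b * Y b * X 1}
      zero_mem' := by simp [map_zero_of_add hY, map_zero_of_add hZ]
      add_mem' := fun {b b'} hb hb' => by
        simp only [Set.mem_setOf_eq] at *
        rw [hY, hZ, ← mul_assoc, hb, mul_assoc _ (X 1), hb']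
        calc Z b * Y b * (Z b' * Y b' * X 1) = Z b * (Y b * Z b') * Y b' * X 1 := by group
          _ = _ := by rw [(hYZ b b').eq]; group
      neg_mem' := fun {b} hb => by
        simp only [Set.mem_setOf_eq] at *
        rw [map_neg_of_add hY, map_neg_of_add hZ]
        calc X 1 * (Y b)⁻¹ = (Z b * Y b)⁻¹ * (Z b * Y b * X 1) * (Y b)⁻¹ := by group
          _ = (Z b * Y b)⁻¹ * (X 1 * Y b) * (Y b)⁻¹ := by rw [hb]
          _ = (Y b)⁻¹ * (Z b)⁻¹ * X 1 := by group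
          _ = _ := by rw [((hYZ b b).inv_inv).eq] }
  have h1' : (1 : F) ∈ S := by show X 1 * Y 1 = Z 1 * Y 1 * X 1; simpa using h1
  have hmul : ∀ b ∈ S, (ζ : F) ^ 3 * b ∈ S := by
    intro b hb
    have hb' : X 1 * Y b = Z (1 * b) * Y b * X 1 := by rw [one_mul]; exact hb
    have := scale g 0 3 gX gY (by simpa using gZ) 1 b hb'
    simp only [zpow_zero, one_mul] at this
    show _ = _
    simpa using this
  have hall : ∀ b, b ∈ S := by
    by_cases h4 : Fintype.card F = 4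
    · have hz : (ζ : F) ∈ S := by
        rcases hs with h | h
        · exact absurd h4 h
        · show _ = _; simpa using h
      have hz1 : (ζ : F) ≠ 1 := fun h => by
        have := orderOf_gen D.hζ
        rw [show ζ = 1 from Units.ext h, orderOf_one, h4] at this
        omega
      classical
      haveI : CharP F 2 := by
        obtain ⟨p, hp⟩ := CharP.exists F
        haveI : Fact p.Prime := ⟨CharP.char_is_prime F p⟩
        have hd : p ∣ 4 := by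
          rw [← CharP.cast_eq_zero_iff F p, ← h4]; exact Nat.cast_card_eq_zero F
        have hp2 := (Nat.prime_dvd_prime_iff_eq (Fact.out : p.Prime) Nat.prime_two).mp
          ((Fact.out : p.Prime).dvd_of_dvd_pow (show p ∣ 2 ^ 2 from hd))
        exact hp2 ▸ hp
      have hn : (ζ : F) + 1 ≠ 0 := fun h => hz1 (by rw [eq_neg_of_add_eq_zero_left h, CharTwo.neg_eq])
      have huniv : ({0, 1, (ζ : F), (ζ : F) + 1} : Finset F) = Finset.univ := by
        apply Finset.eq_univ_of_card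
        rw [h4, Finset.card_insert_of_notMem (by simp [Ne.symm ζ.ne_zero, Ne.symm hn]),
          Finset.card_insert_of_notMem (by simp [hz1, eq_comm, ζ.ne_zero]),
          Finset.card_pair (by simp)]
      intro b
      have hb := Finset.mem_univ b
      rw [← huniv] at hb
      simp only [Finset.mem_insert, Finset.mem_singleton] at hb
      rcases hb with rfl | rfl | rfl | rfl
      · exact S.zero_mem
      · exact h1'
      · exact hz
      · exact S.add_mem hz h1'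
    · let K : Subring F :=
        { carrier := {c | ∀ b ∈ S, c * b ∈ S}
          one_mem' := fun b hb => by rwa [one_mul]
          mul_mem' := fun {x y} hx hy b hb => by rw [mul_assoc]; exact hx _ (hy b hb)
          zero_mem' := fun b _ => by rw [zero_mul]; exact S.zero_mem
          add_mem' := fun {x y} hx hy b hb => by rw [add_mul]; exact S.add_mem (hx b hb) (hy b hb)
          neg_mem' := fun {x} hx b hb => by rw [neg_mul]; exact S.neg_mem (hx b hb) }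
      intro b
      simpa using S2278.subring_cube h4 ζ D.hζ K hmul b 1 h1'
  rcases eq_or_ne a 0 with rfl | ha
  · simp [map_zero_of_add hX, map_zero_of_add hZ]
  obtain ⟨n, rfl⟩ := exists_pow D.hζ ha
  have hb0 : X 1 * Y ((ζ : F) ^ (-((n : ℤ) * wy)) * b) =
      Z (1 * ((ζ : F) ^ (-((n : ℤ) * wy)) * b)) * Y ((ζ : F) ^ (-((n : ℤ) * wy)) * b) * X 1 := by
    rw [one_mul]; exact hall _
  have := scale (D.e ^ n) n (n * wy) (by simpa using D.eig_pow eX n) (D.eig_pow eY n)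
    (by have := D.eig_pow eZ n; rwa [mul_add, mul_one] at this) 1 _ hb0
  rw [← mul_assoc _ _ b, ← zpow_add₀ ζ.ne_zero, add_neg_cancel, zpow_zero, one_mul, mul_one,
    zpow_natCast] at this
  exact this

/-! ### the block subgroup -/

/-- the block subgroup -/
def L : Subgroup G := Subgroup.closure (Set.range D.φ ∪ {D.h, D.t})

theorem A_mem (r : F) : D.A r ∈ D.L := Subgroup.subset_closure (Or.inl ⟨ofAdd r, rfl⟩)
theorem h_mem : D.h ∈ D.L := Subgroup.subset_closure (Or.inr (Or.inl rfl))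
theorem t_mem : D.t ∈ D.L := Subgroup.subset_closure (Or.inr (Or.inr rfl))
theorem A10_mem (r : F) : D.A10 r ∈ D.L := D.L.mul_mem (D.L.mul_mem D.t_mem (D.A_mem _)) (D.L.inv_mem D.t_mem)

theorem braid_zeta : D.t * D.A ((ζ : F)⁻¹) * D.t = D.A (-(ζ : F)) * D.h ^ (1 - (D.k : ℤ)) * D.t * D.A (-(ζ : F)) := by
  have b1 : D.t * D.A 1 * D.t = D.A (-1) * D.h ^ (-(D.k : ℤ)) * D.t * D.A (-1) := by
    have := SL2PresWeyl.braid_one D.ht2' D.h3
    rwa [div_one] at this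
  have et : D.e * D.t * D.e⁻¹ = D.t * D.h⁻¹ := by
    have : D.e * D.t = D.t * D.hp := by simp only [hp]; group
    rw [this]; simp only [h, mul_inv_rev, inv_inv, mul_assoc]
  have eA1 : ∀ r, D.e * D.A r * D.e⁻¹ = D.A ((ζ : F) * r) := D.he
  have ez : D.e * D.h ^ (-(D.k : ℤ)) * D.e⁻¹ = D.h ^ (-(D.k : ℤ)) := by
    rw [(D.e_h.zpow_right _).eq, mul_inv_cancel_right]
  have hh : D.h⁻¹ * D.t * D.h⁻¹ = D.t := by
    calc D.h⁻¹ * D.t * D.h⁻¹ = D.h⁻¹ * (D.h * D.t * D.h) * D.h⁻¹ := by rw [D.hth]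
      _ = D.t := by group
  have hhA : D.h⁻¹ * D.A ((ζ : F) * 1) = D.A ((ζ : F)⁻¹) * D.h⁻¹ := by
    have := (D.eig_inv D.hA).2 ((ζ : F) * 1)
    rw [show (ζ : F)⁻¹ = (ζ : F) ^ (-(2 : ℤ)) * ((ζ : F) * 1) by
      rw [mul_one, ← zpow_add_one₀ ζ.ne_zero]; norm_num, ← this]
    group
  have c := congrArg (fun x => D.e * x * D.e⁻¹) b1
  have l : D.e * (D.t * D.A 1 * D.t) * D.e⁻¹ = D.t * D.A ((ζ : F)⁻¹) * D.t := by
    calc D.e * (D.t * D.A 1 * D.t) * D.e⁻¹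
        = (D.e * D.t * D.e⁻¹) * (D.e * D.A 1 * D.e⁻¹) * (D.e * D.t * D.e⁻¹) := by group
      _ = D.t * (D.h⁻¹ * D.A ((ζ : F) * 1)) * (D.t * D.h⁻¹) := by rw [et, eA1]; group
      _ = D.t * D.A ((ζ : F)⁻¹) * (D.h⁻¹ * D.t * D.h⁻¹) := by rw [hhA]; group
      _ = _ := by rw [hh]
  rw [← l, c]
  have th : D.t * D.h⁻¹ = D.h * D.t := by
    calc D.t * D.h⁻¹ = D.h * D.t * D.h * D.h⁻¹ := by rw [D.hth]
      _ = D.h * D.t := by group
  calc D.e * (D.A (-1) * D.h ^ (-(D.k : ℤ)) * D.t * D.A (-1)) * D.e⁻¹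
      = (D.e * D.A (-1) * D.e⁻¹) * (D.e * D.h ^ (-(D.k : ℤ)) * D.e⁻¹) * (D.e * D.t * D.e⁻¹) *
          (D.e * D.A (-1) * D.e⁻¹) := by group
    _ = _ := by
      rw [eA1, ez, et, th, mul_neg_one, sub_eq_add_neg, add_comm (1 : ℤ), zpow_add_one]
      simp only [mul_assoc]

theorem hA' (r : F) : D.h * D.φ (ofAdd r) * D.h⁻¹ = D.φ (ofAdd ((ζ : F) ^ 2 * r)) := by
  simpa [A, zpow_ofNat] using D.hA.2 r

theorem h_pow : D.h ^ (Fintype.card F - 1) = 1 := by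
  rcases D.hk with hk | ⟨hk, l, hl⟩
  · have h0 : D.h ^ (D.k : ℤ) * D.t = D.t * D.h ^ (D.k : ℤ) := by
      rw [← D.ht2']; group
    have s := SL2PresWeyl.semiconj_zpow D.hth (D.k : ℤ)
    rw [h0] at s
    have := mul_left_cancel s
    rw [zpow_neg, inv_eq_iff_mul_eq_one, ← zpow_add, ← two_mul] at this
    rw [← hk, ← zpow_natCast]
    push_cast
    exact this
  · have b1 := SL2PresWeyl.braid_one D.ht2' D.h3
    have s := SL2PresWeyl.braid_shift (pow_ne_zero 2 ζ.ne_zero) D.hA' D.hth b1 (l : ℤ)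
    have hz : ((ζ : F) ^ 2) ^ (l : ℤ) * 1 = (ζ : F)⁻¹ := by
      rw [mul_one, zpow_natCast, ← pow_mul]
      refine eq_inv_of_mul_eq_one_left ?_
      rw [← pow_succ, hl]
      simpa using congrArg Units.val (pow_card_sub_one D.hζ)
    rw [hz, show (-1 : F) / (ζ : F)⁻¹ = -(ζ : F) by rw [div_inv_eq_mul, neg_one_mul]] at s
    have b := D.braid_zeta
    simp only [A] at b
    rw [s] at b
    simp only [mul_left_inj, mul_right_inj, hk, Nat.cast_zero, neg_zero, zero_sub, sub_zero, zpow_one] at b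
    rw [← hl, ← zpow_natCast]
    push_cast
    rw [zpow_add_one]
    nth_rw 2 [← b]
    rw [← zpow_add, add_neg_cancel, zpow_zero]

theorem braids (a : F) (ha : a ≠ 0) : ∃ j : ℤ, D.t * D.φ (ofAdd a) * D.t =
    D.φ (ofAdd (-1 / a)) * D.h ^ j * D.t * D.φ (ofAdd (-1 / a)) := by
  refine S2286.cover D.hζ D.hA' D.hth 1 odd_one ⟨_, SL2PresWeyl.braid_one D.ht2' D.h3⟩ ?_ a ha
  have bz : D.t * D.φ (ofAdd ((ζ : F)⁻¹)) * D.t =
      D.φ (ofAdd (-1 / (ζ : F)⁻¹)) * D.h ^ (1 - (D.k : ℤ)) * D.t * D.φ (ofAdd (-1 / (ζ : F)⁻¹)) := by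
    rw [show (-1 : F) / (ζ : F)⁻¹ = -(ζ : F) by rw [div_inv_eq_mul, neg_one_mul]]
    exact D.braid_zeta
  have := SL2PresWeyl.braid_shift (pow_ne_zero 2 ζ.ne_zero) D.hA' D.hth bz (1 : ℤ)
  have e : ((ζ : F) ^ 2) ^ (1 : ℤ) * (ζ : F)⁻¹ = (ζ : F) ^ 1 := by
    rw [zpow_one, pow_one, pow_two, mul_assoc, mul_inv_cancel₀ ζ.ne_zero, mul_one]
  rw [e] at this
  exact ⟨_, this⟩

theorem π_A (r : F) : D.π (D.A r) = x01 r := by
  rcases eq_or_ne r 0 with rfl | hr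
  · rw [D.A_zero, map_one, ← blk_u, u_zero, map_one]
  · obtain ⟨n, rfl⟩ := exists_pow D.hζ hr
    have e1 := (D.eig_pow D.eA n).2 1
    simp only [mul_one, zpow_natCast] at e1
    rw [← e1, map_mul, map_mul, map_inv, map_pow, D.πe, show D.π (D.A 1) = x01 1 from D.πu, E_pow, E_x01,
      Units.val_pow_eq_pow_val, mul_one]

theorem π_hp : D.π D.hp = blk (d ζ⁻¹) * E ζ := by
  simp only [hp, map_mul, map_inv, D.πe, D.πt, hp_eq]

theorem π_h : D.π D.h = blk (d ζ) := by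
  rw [h, map_mul, map_inv, D.π_hp, D.πe, mul_inv_rev, mul_inv_cancel_left, ← map_inv]
  congr 1
  exact inv_eq_of_mul_eq_one_right (by rw [d_mul, inv_mul_cancel, d_one])

theorem L_inj {g : G} (hg : g ∈ D.L) (h1 : D.π g = 1) : g = 1 := by
  let φL : Multiplicative F →* D.L := D.φ.codRestrict D.L fun x => Subgroup.subset_closure (Or.inl ⟨x, rfl⟩)
  have hφL : ∀ x, ((φL x : D.L) : G) = D.φ x := fun _ => rfl
  have hgenL : Subgroup.closure (Set.range φL ∪ {(⟨D.h, D.h_mem⟩ : D.L), ⟨D.t, D.t_mem⟩}) = ⊤ := by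
    rw [eq_top_iff]
    refine le_of_eq_of_le Subgroup.closure_closure_coe_preimage.symm (Subgroup.closure_mono ?_)
    rintro ⟨x, hx⟩ (⟨y, rfl⟩ | rfl | rfl)
    · exact Or.inl ⟨y, rfl⟩
    · exact Or.inr (Or.inl rfl)
    · exact Or.inr (Or.inr rfl)
  have nf := SL2PresWeyl.normal_form (φ := φL) (h := ⟨D.h, D.h_mem⟩) (t := ⟨D.t, D.t_mem⟩) (n0 := (D.k : ℤ))
    (pow_ne_zero 2 ζ.ne_zero) hgenL (fun r => Subtype.ext (D.hA' r)) (Subtype.ext D.hth)
    (Subtype.ext (by simpa using D.ht2'))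
    (fun a ha => by
      obtain ⟨j, hj⟩ := D.braids a ha
      exact ⟨j, Subtype.ext (by simpa [hφL] using hj)⟩) ⟨g, hg⟩
  rcases nf with ⟨r, i, hgi⟩ | ⟨r, s, i, hgi⟩
  · have hv : g = D.A r * D.h ^ i := by simpa [hφL, A] using congrArg Subtype.val hgi
    rw [hv, map_mul, map_zpow, D.π_A, D.π_h, ← blk_u, ← map_zpow, d_zpow, ← map_mul, ← map_one blk,
      blk_injective.eq_iff] at h1
    have h00 := congrArg (fun M : SL(2, F) => M.1 0 0) h1
    have h01 := congrArg (fun M : SL(2, F) => M.1 0 1) h1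
    simp [u, d, mul_apply2] at h00 h01
    rcases h01 with h01 | h01
    · have hi : ζ ^ i = 1 := Units.ext (by simpa [h01] using h00)
      obtain ⟨l, rfl⟩ := dvd_of_zpow_eq_one D.hζ hi
      rw [hv, h01, D.A_zero, one_mul, zpow_mul, zpow_natCast, D.h_pow, one_zpow]
    · exact absurd h01 (zpow_ne_zero _ ζ.ne_zero)
  · exfalso
    have hv : g = D.A r * D.h ^ i * D.t * D.A s := by simpa [hφL, A] using congrArg Subtype.val hgi
    rw [hv, map_mul, map_mul, map_mul, map_zpow, D.π_A, D.π_A, D.π_h, D.πt, ← blk_u, ← blk_u, ← map_zpow,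
      d_zpow, ← map_mul, ← map_mul, ← map_mul, ← map_one blk, blk_injective.eq_iff] at h1
    have h10 := congrArg (fun M : SL(2, F) => M.1 1 0) h1
    rw [form_apply] at h10
    simp at h10
    exact zpow_ne_zero _ ζ.ne_zero h10

theorem L_eq {g g' : G} (hg : g ∈ D.L) (hg' : g' ∈ D.L) (h1 : D.π g = D.π g') : g = g' := by
  rw [← mul_inv_eq_one]
  exact D.L_inj (D.L.mul_mem hg (D.L.inv_mem hg')) (by rw [map_mul, map_inv, h1, mul_inv_cancel])

theorem π_A10 (r : F) : D.π (D.A10 r) = x10 r := by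
  rw [A10, map_mul, map_mul, map_inv, D.π_A, D.πt, conj_W]
theorem π_B (r : F) : D.π (D.B r) = x12 r := by
  rw [B, map_mul, map_mul, map_inv, D.π_A, D.πc, Cm_x01]
theorem π_A21 (r : F) : D.π (D.A21 r) = x21 r := by
  rw [A21, map_mul, map_mul, map_inv, D.π_A10, D.πc, Cm_x10]
theorem π_A20 (r : F) : D.π (D.A20 r) = x20 r := by
  rw [A20, map_mul, map_mul, map_inv, D.π_A, D.πc, Cm'_x01]
theorem π_A02 (r : F) : D.π (D.A02 r) = x02 r := by
  rw [A02, map_mul, map_mul, map_inv, D.π_A10, D.πc, Cm'_x10]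

end Datum

end Cfsg.Agent.SL3PresDatum
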