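import Cfsg.Agent.Lib.SL2PresData

/-!
The concrete matrices for short presentations of `SL(3, q)`.
-/

set_option autoImplicit false

namespace Cfsg.Agent.SL3PresModel

open PSL2Elements SL2PresData
open scoped MatrixGroups

variable {F : Type*} [Field F]

/-- element with the given entries -/
def mk3 (M : Matrix (Fin 3) (Fin 3) F) (h : M.det = 1) : SL(3, F) := ⟨M, h⟩

@[simp] theorem mk3_coe (M : Matrix (Fin 3) (Fin 3) F) (h : M.det = 1) : (mk3 M h).1 = M := rfl

theorem ext3 {A B : SL(3, F)} (h00 : A.1 0 0 = B.1 0 0) (h01 : A.1 0 1 = B.1 0 1) (h02 : A.1 0 2 = B.1 0 2)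
    (h10 : A.1 1 0 = B.1 1 0) (h11 : A.1 1 1 = B.1 1 1) (h12 : A.1 1 2 = B.1 1 2)
    (h20 : A.1 2 0 = B.1 2 0) (h21 : A.1 2 1 = B.1 2 1) (h22 : A.1 2 2 = B.1 2 2) : A = B := by
  refine Subtype.ext (funext fun i => funext fun j => ?_)
  fin_cases i <;> fin_cases j <;> assumption

theorem mul_apply3 (A B : SL(3, F)) (i j : Fin 3) :
    (A * B).1 i j = A.1 i 0 * B.1 0 j + A.1 i 1 * B.1 1 j + A.1 i 2 * B.1 2 j := by
  rw [Matrix.SpecialLinearGroup.coe_mul, Matrix.mul_apply, Fin.sum_univ_three]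

/-- the upper left block -/
def blk : SL(2, F) →* SL(3, F) where
  toFun g := mk3 !![g.1 0 0, g.1 0 1, 0; g.1 1 0, g.1 1 1, 0; 0, 0, 1]
    (by simp [Matrix.det_fin_three]; exact det_eq g)
  map_one' := by apply ext3 <;> simp
  map_mul' g g' := by
    apply ext3 <;> simp [mul_apply2, mul_apply3, Matrix.mul_apply, Fin.sum_univ_three]

theorem blk_coe (g : SL(2, F)) :
    (blk g).1 = !![g.1 0 0, g.1 0 1, 0; g.1 1 0, g.1 1 1, 0; 0, 0, 1] := rfl

theorem blk_injective : Function.Injective (blk : SL(2, F) →* SL(3, F)) := fun g g' h => by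
  apply ext2
  · simpa [blk_coe] using congrArg (fun A : SL(3, F) => A.1 0 0) h
  · simpa [blk_coe] using congrArg (fun A : SL(3, F) => A.1 0 1) h
  · simpa [blk_coe] using congrArg (fun A : SL(3, F) => A.1 1 0) h
  · simpa [blk_coe] using congrArg (fun A : SL(3, F) => A.1 1 1) h

/-- the signed three-cycle -/
def Cm : SL(3, F) := mk3 !![0, 0, 1; -1, 0, 0; 0, -1, 0] (by simp [Matrix.det_fin_three])

/-- its inverse -/
def Cm' : SL(3, F) := mk3 !![0, -1, 0; 0, 0, -1; 1, 0, 0] (by simp [Matrix.det_fin_three])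

theorem Cm_inv : (Cm : SL(3, F))⁻¹ = Cm' := inv_eq_of_mul_eq_one_right (by
  apply ext3 <;> simp [Cm, Cm', mul_apply3, Matrix.mul_apply, Fin.sum_univ_three])

/-- transvections -/
def x01 (r : F) : SL(3, F) := mk3 !![1, r, 0; 0, 1, 0; 0, 0, 1] (by simp [Matrix.det_fin_three])
/-- transvections -/
def x12 (r : F) : SL(3, F) := mk3 !![1, 0, 0; 0, 1, r; 0, 0, 1] (by simp [Matrix.det_fin_three])
/-- transvections -/
def x20 (r : F) : SL(3, F) := mk3 !![1, 0, 0; 0, 1, 0; r, 0, 1] (by simp [Matrix.det_fin_three])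
/-- transvections -/
def x10 (r : F) : SL(3, F) := mk3 !![1, 0, 0; r, 1, 0; 0, 0, 1] (by simp [Matrix.det_fin_three])
/-- transvections -/
def x21 (r : F) : SL(3, F) := mk3 !![1, 0, 0; 0, 1, 0; 0, r, 1] (by simp [Matrix.det_fin_three])
/-- transvections -/
def x02 (r : F) : SL(3, F) := mk3 !![1, 0, r; 0, 1, 0; 0, 0, 1] (by simp [Matrix.det_fin_three])

/-- torus element -/
def E (a : Fˣ) : SL(3, F) := mk3 !![(a : F), 0, 0; 0, 1, 0; 0, 0, (a⁻¹ : Fˣ)] (by simp [Matrix.det_fin_three])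

/-- `E` as a homomorphism -/
def EHom : Fˣ →* SL(3, F) where
  toFun := E
  map_one' := by apply ext3 <;> simp [E]
  map_mul' a b := by apply ext3 <;> simp [E, mul_apply3, Matrix.mul_apply, Fin.sum_univ_three, mul_comm]

theorem E_zpow (a : Fˣ) (i : ℤ) : E a ^ i = E (a ^ i) := (map_zpow EHom a i).symm

theorem E_pow (a : Fˣ) (i : ℕ) : E a ^ i = E (a ^ i) := (map_pow EHom a i).symm

theorem blk_u (r : F) : blk (u r) = x01 r := by apply ext3 <;> simp [blk_coe, u, x01]

theorem conj_W (r : F) : blk W * x01 (-r) * (blk W)⁻¹ = (x10 r : SL(3, F)) := by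
  rw [mul_inv_eq_iff_eq_mul]
  apply ext3 <;> simp [blk_coe, W, x01, x10, mul_apply3]

theorem Cm_x01 (r : F) : Cm * x01 r * Cm⁻¹ = (x12 r : SL(3, F)) := by
  rw [Cm_inv]; apply ext3 <;> simp [Cm, Cm', x01, x12, mul_apply3]

theorem Cm_x10 (r : F) : Cm * x10 r * Cm⁻¹ = (x21 r : SL(3, F)) := by
  rw [Cm_inv]; apply ext3 <;> simp [Cm, Cm', x10, x21, mul_apply3]

theorem Cm'_x01 (r : F) : Cm⁻¹ * x01 (-r) * Cm = (x20 r : SL(3, F)) := by
  rw [Cm_inv]; apply ext3 <;> simp [Cm, Cm', x01, x20, mul_apply3]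

theorem Cm'_x10 (r : F) : Cm⁻¹ * x10 (-r) * Cm = (x02 r : SL(3, F)) := by
  rw [Cm_inv]; apply ext3 <;> simp [Cm, Cm', x10, x02, mul_apply3]

theorem comm_01_12 (a b : F) : x01 a * x12 b = x02 (a * b) * x12 b * (x01 a : SL(3, F)) := by
  apply ext3 <;> simp [x01, x12, x02, mul_apply3, add_comm]

theorem comm_01_02 (a b : F) : x01 a * x02 b = x02 b * (x01 a : SL(3, F)) := by
  apply ext3 <;> simp [x01, x02, mul_apply3]

theorem comm_02_12 (a b : F) : x02 a * x12 b = x12 b * (x02 a : SL(3, F)) := by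
  apply ext3 <;> simp [x12, x02, mul_apply3]

theorem E_x01 (a : Fˣ) (r : F) : E a * x01 r * (E a)⁻¹ = (x01 ((a : F) * r) : SL(3, F)) := by
  rw [mul_inv_eq_iff_eq_mul]
  apply ext3 <;> simp [E, x01, mul_apply3]

theorem hp_eq (a : Fˣ) : (blk W)⁻¹ * E a * blk W = blk (d a⁻¹) * E a := by
  rw [mul_assoc, inv_mul_eq_iff_eq_mul]
  apply ext3 <;> simp [E, blk_coe, W, d, mul_apply3]

theorem E_hp_commute (a : Fˣ) : Commute (E a : SL(3, F)) (blk (d a⁻¹) * E a) := by
  show E a * _ = _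
  apply ext3 <;> simp [E, blk_coe, d, mul_apply3, mul_comm, mul_left_comm]

theorem hp_x01 (a : Fˣ) (r : F) :
    blk (d a⁻¹) * E a * x01 r * (blk (d a⁻¹) * E a)⁻¹ = (x01 (((a⁻¹ : Fˣ) : F) * r) : SL(3, F)) := by
  rw [mul_inv_eq_iff_eq_mul]
  apply ext3 <;> simp [E, blk_coe, d, x01, mul_apply3] <;> field_simp

theorem Cm_E (a : Fˣ) : Cm * E a * Cm⁻¹ = (blk (d a))⁻¹ := by
  rw [Cm_inv, eq_comm, inv_eq_iff_mul_eq_one]
  apply ext3 <;> simp [Cm, Cm', E, blk_coe, d, mul_apply3]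

theorem Cm_cube : (Cm : SL(3, F)) ^ 3 = 1 := by
  rw [pow_succ, pow_two]
  apply ext3 <;> simp [Cm, mul_apply3]

theorem Cm_W : (Cm * blk W) * (Cm * blk W) = (1 : SL(3, F)) := by
  apply ext3 <;> simp [Cm, blk_coe, W, mul_apply3]

theorem eq_top_of_mem (H : Subgroup SL(3, F)) (h01 : ∀ r, x01 r ∈ H) (hc : Cm ∈ H) (hw : blk W ∈ H) :
    H = ⊤ := by
  have h10 : ∀ r, x10 r ∈ H := fun r => by
    rw [← conj_W]; exact H.mul_mem (H.mul_mem hw (h01 _)) (H.inv_mem hw)
  have h12 : ∀ r, x12 r ∈ H := fun r => by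
    rw [← Cm_x01]; exact H.mul_mem (H.mul_mem hc (h01 _)) (H.inv_mem hc)
  have h21 : ∀ r, x21 r ∈ H := fun r => by
    rw [← Cm_x10]; exact H.mul_mem (H.mul_mem hc (h10 _)) (H.inv_mem hc)
  have h20 : ∀ r, x20 r ∈ H := fun r => by
    rw [← Cm'_x01]; exact H.mul_mem (H.mul_mem (H.inv_mem hc) (h01 _)) hc
  have h02 : ∀ r, x02 r ∈ H := fun r => by
    rw [← Cm'_x10]; exact H.mul_mem (H.mul_mem (H.inv_mem hc) (h10 _)) hc
  refine PSLSimple.eq_top_of_transvection_mem H fun i j hij r => ?_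
  fin_cases i <;> fin_cases j
  all_goals first
    | exact absurd rfl hij
    | (convert h01 r using 1
       apply ext3 <;> simp [x01, Matrix.SpecialLinearGroup.transvection_coe, Matrix.one_apply, Matrix.single_apply] <;> done)
    | (convert h12 r using 1
       apply ext3 <;> simp [x12, Matrix.SpecialLinearGroup.transvection_coe, Matrix.one_apply, Matrix.single_apply] <;> done)
    | (convert h20 r using 1
       apply ext3 <;> simp [x20, Matrix.SpecialLinearGroup.transvection_coe, Matrix.one_apply, Matrix.single_apply] <;> done)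
    | (convert h10 r using 1
       apply ext3 <;> simp [x10, Matrix.SpecialLinearGroup.transvection_coe, Matrix.one_apply, Matrix.single_apply] <;> done)
    | (convert h21 r using 1
       apply ext3 <;> simp [x21, Matrix.SpecialLinearGroup.transvection_coe, Matrix.one_apply, Matrix.single_apply] <;> done)
    | (convert h02 r using 1
       apply ext3 <;> simp [x02, Matrix.SpecialLinearGroup.transvection_coe, Matrix.one_apply, Matrix.single_apply] <;> done)

end Cfsg.Agent.SL3PresModel
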