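import Cfsg.Agent.Lib.PSLUnipotent
import Cfsg.Agent.Lib.GLUnipotentDC

/-!
Monomial elements, an embedded `SL 2` and the double cosets of the unitriangular group in `SL n F`.
-/

set_option autoImplicit false
set_option linter.unusedSectionVars false

namespace Cfsg.Agent.SLCells

open Matrix Matrix.SpecialLinearGroup Cfsg.Agent.PSLUnipotent
open scoped MatrixGroups

variable {F : Type*} [Field F] {n : ℕ}

local notation "SLn" => Matrix.SpecialLinearGroup (Fin n) F

/-- monomial elements with a given permutation -/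
def IsMon (g : Matrix.SpecialLinearGroup (Fin n) F) (σ : Equiv.Perm (Fin n)) : Prop :=
  ∀ j r, r ≠ σ j → g.1 r j = 0

theorem isMon_mul_right {g : SLn} {σ : Equiv.Perm (Fin n)} (h : IsMon g σ) (A : Matrix (Fin n) (Fin n) F)
    (j l : Fin n) : (g.1 * A) (σ j) l = g.1 (σ j) j * A j l := by
  rw [Matrix.mul_apply, Finset.sum_eq_single j]
  · intro k _ hk
    rw [h k (σ j) (fun e => hk (σ.injective e.symm)), zero_mul]
  · simp

theorem isMon_mul_left {g : SLn} {σ : Equiv.Perm (Fin n)} (h : IsMon g σ) (A : Matrix (Fin n) (Fin n) F)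
    (r l : Fin n) : (A * g.1) r l = A r (σ l) * g.1 (σ l) l := by
  rw [Matrix.mul_apply, Finset.sum_eq_single (σ l)]
  · intro k _ hk
    rw [h l k hk, mul_zero]
  · simp

theorem isMon_ne_zero {g : SLn} {σ : Equiv.Perm (Fin n)} (h : IsMon g σ) (j : Fin n) : g.1 (σ j) j ≠ 0 := by
  intro h0
  have := g.2
  rw [Matrix.det_eq_zero_of_column_eq_zero j fun r => ?_] at this
  · exact zero_ne_one this
  · rcases eq_or_ne r (σ j) with rfl | hr
    · exact h0
    · exact h j r hr

theorem IsMon.mul {g g' : SLn} {σ σ' : Equiv.Perm (Fin n)} (h : IsMon g σ) (h' : IsMon g' σ') :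
    IsMon (g * g') (σ * σ') := by
  intro j r hr
  rw [PSLUnipotent.cmul, isMon_mul_left h']
  rw [h (σ' j) r (by simpa using hr), zero_mul]

theorem isMon_one : IsMon (1 : SLn) 1 := fun j r hr => Matrix.one_apply_ne (by simpa using hr)

theorem IsMon.inv {g : SLn} {σ : Equiv.Perm (Fin n)} (h : IsMon g σ) : IsMon g⁻¹ σ⁻¹ := by
  intro j r hr
  have h1 : (g.1 * (g⁻¹).1) (σ r) j = 0 := by
    rw [← PSLUnipotent.cmul, mul_inv_cancel, PSLUnipotent.cone, Matrix.one_apply_ne]
    intro e
    exact hr (by rw [← e]; simp)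
  rw [isMon_mul_right h] at h1
  exact (mul_eq_zero.1 h1).resolve_left (isMon_ne_zero h r)

/-- conjugation by a monomial element permutes and scales the entries -/
theorem conj_apply {g v v' : SLn} {σ : Equiv.Perm (Fin n)} (h : IsMon g σ) (hv : g * v' = v * g)
    (j l : Fin n) : g.1 (σ j) j * v'.1 j l = v.1 (σ j) (σ l) * g.1 (σ l) l := by
  have := congrArg (fun X : SLn => X.1 (σ j) l) hv
  simpa only [PSLUnipotent.cmul, isMon_mul_right h, isMon_mul_left h] using this

theorem conj_unitri {g : SLn} {σ : Equiv.Perm (Fin n)} (h : IsMon g σ) {v : SLn} (hv : IsUnitri v.1)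
    (hlow : ∀ j l, l < j → v.1 (σ j) (σ l) = 0) : IsUnitri (g⁻¹ * v * g).1 := by
  have e : g * (g⁻¹ * v * g) = v * g := by group
  refine ⟨fun i => ?_, fun i j hij => ?_⟩
  · have := conj_apply h e i i
    rw [hv.1, one_mul] at this
    exact mul_left_cancel₀ (isMon_ne_zero h i) (by rw [this, mul_one])
  · have := conj_apply h e i j
    rw [hlow i j hij, zero_mul] at this
    exact (mul_eq_zero.1 this).resolve_left (isMon_ne_zero h i)

/-- the diagonal elements normalise the unitriangular matrices -/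
theorem conj_unitri_diag {g : SLn} (h : IsMon g 1) {v : SLn} (hv : IsUnitri v.1) :
    IsUnitri (g⁻¹ * v * g).1 :=
  conj_unitri h hv fun j l hlj => hv.2 j l hlj

/-- a transvection carried across a monomial element -/
theorem mon_transvection {g : SLn} {σ : Equiv.Perm (Fin n)} (h : IsMon g σ) {i j : Fin n} (hij : i ≠ j) (c : F) :
    g * Matrix.SpecialLinearGroup.transvection hij c =
      Matrix.SpecialLinearGroup.transvection (fun e => hij (σ.injective e))
        (c * g.1 (σ i) i / g.1 (σ j) j) * g := by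
  refine Subtype.ext ?_
  rw [PSLUnipotent.cmul, PSLUnipotent.cmul, SpecialLinearGroup.transvection_coe,
    SpecialLinearGroup.transvection_coe, mul_add, mul_one, add_mul, one_mul]
  congr 1
  ext r l
  rw [isMon_mul_left h]
  rcases eq_or_ne l j with rfl | hl
  · rw [Matrix.mul_single_apply_same]
    rcases eq_or_ne r (σ i) with rfl | hr
    · rw [Matrix.single_apply_same, div_mul_cancel₀ _ (isMon_ne_zero h l)]
      ring
    · rw [h i r hr, zero_mul, Matrix.single_apply_of_row_ne hr.symm, zero_mul]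
  · rw [Matrix.mul_single_apply_of_ne _ _ _ _ _ hl, Matrix.single_apply_of_col_ne _ _ (fun e => hl (σ.injective e).symm), zero_mul]

/-- every element is unitriangular times monomial times unitriangular -/
theorem exists_cell [Fintype F] (g : SLn) :
    ∃ (u m u' : SLn) (σ : Equiv.Perm (Fin n)), IsUnitri u.1 ∧ IsUnitri u'.1 ∧ IsMon m σ ∧ g = u * m * u' := by
  obtain ⟨b, hb, b', hb', σ, he⟩ := GLUnipotentDC.bruhat (Matrix.SpecialLinearGroup.toGL g)
  have hdiag : ∀ c : GL (Fin n) F, c ∈ Cfsg.upperTriangularGL n F → ∀ i, c.1 i i ≠ 0 := by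
    intro c hc i h0
    have := ((Matrix.isUnit_iff_isUnit_det _).1 c.isUnit).ne_zero
    rw [Matrix.det_of_isUpperTriangular (fun r l hrl => hc hrl)] at this
    exact this (Finset.prod_eq_zero (Finset.mem_univ i) h0)
  have hu : IsUnitri (Matrix.of fun i j => b.1 i j * (b.1 j j)⁻¹) :=
    ⟨fun i => by simp [mul_inv_cancel₀ (hdiag b hb i)], fun i j hij => by simp [hb hij]⟩
  have hu' : IsUnitri (Matrix.of fun i j => (b'.1 i i)⁻¹ * b'.1 i j) :=
    ⟨fun i => by simp [inv_mul_cancel₀ (hdiag b' hb' i)], fun i j hij => by simp [hb' hij]⟩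
  set mm : Matrix (Fin n) (Fin n) F :=
    Matrix.of fun r j => if r = σ j then b.1 r r * b'.1 j j else 0 with hmm
  have hg : g.1 = (Matrix.of fun i j => b.1 i j * (b.1 j j)⁻¹) * mm *
      (Matrix.of fun i j => (b'.1 i i)⁻¹ * b'.1 i j) := by
    ext i l
    have e1 : g.1 i l = ((b.1 * (GLUnipotentDC.permGL n F σ).1) * b'.1) i l := by
      rw [← Units.val_mul, ← Units.val_mul, ← he]; rfl
    rw [e1, Matrix.mul_apply, Matrix.mul_apply]
    refine Finset.sum_congr rfl fun j _ => ?_
    rw [GLUnipotentDC.mul_permGL_apply, Matrix.mul_apply, Finset.sum_eq_single (σ j)]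
    · have := hdiag b hb (σ j)
      have := hdiag b' hb' j
      simp only [hmm, Matrix.of_apply, if_pos]
      field_simp
    · intro k _ hk
      simp [hmm, hk]
    · simp
  have hdet : mm.det = 1 := by
    have := g.2
    rwa [hg, Matrix.det_mul, Matrix.det_mul, isUnitri_det hu, isUnitri_det hu', one_mul, mul_one] at this
  exact ⟨⟨_, isUnitri_det hu⟩, ⟨mm, hdet⟩, ⟨_, isUnitri_det hu'⟩, σ, hu, hu',
    fun j r hr => by simp [hmm, hr], Subtype.ext hg⟩

section Two

variable {i j : Fin n}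

/-- inclusion of the coordinates `i`, `j` -/
def incl (F : Type*) [Field F] {n : ℕ} (i j : Fin n) : Matrix (Fin n) (Fin 2) F :=
  Matrix.of fun r a => if r = ![i, j] a then 1 else 0

theorem incl_orth (hij : i ≠ j) : (incl F i j)ᵀ * incl F i j = 1 := by
  ext a b
  rw [Matrix.mul_apply, Finset.sum_eq_single (![i, j] a)]
  · fin_cases a <;> fin_cases b <;> simp [incl, hij, hij.symm]
  · intro r _ hr
    simp [incl, hr]
  · simp

/-- `SL 2` on the coordinates `i`, `j` -/
noncomputable def two (hij : i ≠ j) : Matrix.SpecialLinearGroup (Fin 2) F →* SLn where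
  toFun A := ⟨1 + incl F i j * (A.1 - 1) * (incl F i j)ᵀ, by
    rw [Matrix.mul_assoc, Matrix.det_one_add_mul_comm, Matrix.mul_assoc, incl_orth hij, Matrix.mul_one,
      add_sub_cancel, A.2]⟩
  map_one' := Subtype.ext (by simp)
  map_mul' A B := by
    refine Subtype.ext ?_
    show 1 + incl F i j * ((A * B).1 - 1) * (incl F i j)ᵀ =
      (1 + incl F i j * (A.1 - 1) * (incl F i j)ᵀ) * (1 + incl F i j * (B.1 - 1) * (incl F i j)ᵀ)
    have key : ∀ X Y : Matrix (Fin 2) (Fin 2) F,
        incl F i j * X * (incl F i j)ᵀ * (incl F i j * Y * (incl F i j)ᵀ) =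
          incl F i j * (X * Y) * (incl F i j)ᵀ := by
      intro X Y
      rw [show incl F i j * X * (incl F i j)ᵀ * (incl F i j * Y * (incl F i j)ᵀ) =
        incl F i j * X * ((incl F i j)ᵀ * incl F i j) * Y * (incl F i j)ᵀ by simp only [Matrix.mul_assoc],
        incl_orth hij, Matrix.mul_one, Matrix.mul_assoc (incl F i j) X Y]
    rw [add_mul, one_mul, mul_add, mul_one, key, show (A * B).1 - 1 = (A.1 - 1) + (B.1 - 1) + (A.1 - 1) * (B.1 - 1) by
      rw [sub_mul, mul_sub, mul_sub, PSLUnipotent.cmul]; simp only [mul_one, one_mul]; abel]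
    rw [Matrix.mul_add, Matrix.mul_add, Matrix.add_mul, Matrix.add_mul]
    abel

theorem two_apply (hij : i ≠ j) (A : Matrix.SpecialLinearGroup (Fin 2) F) (r l : Fin n) :
    (two hij A).1 r l =
      if r = i then (if l = i then A.1 0 0 else if l = j then A.1 0 1 else 0)
      else if r = j then (if l = i then A.1 1 0 else if l = j then A.1 1 1 else 0)
      else if r = l then 1 else 0 := by
  show (1 + incl F i j * (A.1 - 1) * (incl F i j)ᵀ : Matrix (Fin n) (Fin n) F) r l = _
  have e : (incl F i j * (A.1 - 1) * (incl F i j)ᵀ : Matrix (Fin n) (Fin n) F) r l =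
      ∑ b : Fin 2, (∑ a : Fin 2, (if r = ![i, j] a then 1 else 0) * (A.1 - 1) a b) *
        (if l = ![i, j] b then 1 else 0) := by
    simp only [Matrix.mul_apply, Matrix.transpose_apply, incl, Matrix.of_apply]
  rw [Matrix.add_apply, Matrix.one_apply, e, Fin.sum_univ_two, Fin.sum_univ_two, Fin.sum_univ_two]
  have hji : j ≠ i := hij.symm
  have cls : ∀ x : Fin n, x = i ∨ x = j ∨ (x ≠ i ∧ x ≠ j) := fun x => by tauto
  obtain hr | hr | ⟨hr, hr'⟩ := cls r <;> obtain hl | hl | ⟨hl, hl'⟩ := cls l <;>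
    simp [*, Ne.symm, Matrix.sub_apply]

end Two

/-- the element `(0 1; -1 0)` -/
def w2 (F : Type*) [Field F] : Matrix.SpecialLinearGroup (Fin 2) F :=
  ⟨!![0, 1; -1, 0], by simp [Matrix.det_fin_two]⟩

/-- the element `(1 t; 0 1)` -/
def x2 (t : F) : Matrix.SpecialLinearGroup (Fin 2) F := ⟨!![1, t; 0, 1], by simp [Matrix.det_fin_two]⟩

/-- the element `diag (a, a⁻¹)` -/
def h2 (a : Fˣ) : Matrix.SpecialLinearGroup (Fin 2) F :=
  ⟨!![(a : F), 0; 0, (a : F)⁻¹], by simp [Matrix.det_fin_two]⟩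

theorem x2_mul (s t : F) : x2 s * x2 t = x2 (s + t) := by
  refine Subtype.ext ?_
  rw [Matrix.SpecialLinearGroup.coe_mul]
  ext a b; fin_cases a <;> fin_cases b <;> simp [x2, Matrix.mul_apply, Fin.sum_univ_two, add_comm]

theorem h2_mul (a b : Fˣ) : h2 a * h2 b = h2 (a * b) := by
  refine Subtype.ext ?_
  rw [Matrix.SpecialLinearGroup.coe_mul]
  ext r l; fin_cases r <;> fin_cases l <;> simp [h2, Matrix.mul_apply, Fin.sum_univ_two, mul_comm]

/-- the fundamental identity -/
theorem w2_x2_w2 {a : F} (ha : a ≠ 0) (t : F) :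
    x2 t * w2 F * (x2 a * w2 F) =
      h2 (Units.mk0 (-a⁻¹) (neg_ne_zero.2 (inv_ne_zero ha))) * (x2 (a ^ 2 * t - a) * w2 F * x2 (-a⁻¹)) := by
  refine Subtype.ext ?_
  simp only [Matrix.SpecialLinearGroup.coe_mul]
  ext r l
  fin_cases r <;> fin_cases l <;> simp [h2, x2, w2, Matrix.mul_apply, Fin.sum_univ_two] <;>
    field_simp <;> ring

theorem w2_sq : w2 F * w2 F = h2 (-1) := by
  refine Subtype.ext ?_
  rw [Matrix.SpecialLinearGroup.coe_mul]
  ext r l; fin_cases r <;> fin_cases l <;> simp [h2, w2, Matrix.mul_apply, Fin.sum_univ_two]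

end Cfsg.Agent.SLCells
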