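import Cfsg.Agent.Lib.SLCommCyclic34

/-!
Orbit chains of a vector and the unipotent partner of an invertible endomorphism.
-/

set_option autoImplicit false

namespace Cfsg.Agent.SLComm34

open Polynomial Module

variable {K V : Type*} [Field K] [AddCommGroup V] [Module K V]

/-- The orbit of `z`. -/
def orb (g : Module.End K V) (z : V) (i : ℕ) : V := (g ^ i) z

theorem orb_zero (g : Module.End K V) (z : V) : orb g z 0 = z := by simp [orb]

theorem orb_succ (g : Module.End K V) (z : V) (i : ℕ) : orb g z (i + 1) = g (orb g z i) := by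
  simp [orb, pow_succ']

theorem orb_one (g : Module.End K V) (z : V) : orb g z 1 = g z := by simp [orb]

/-- The span of the orbit members between `1` and `j`. -/
def seg (g : Module.End K V) (z : V) (j : ℕ) : Submodule K V :=
  Submodule.span K (orb g z '' Set.Icc 1 j)

theorem orb_mem_seg {g : Module.End K V} {z : V} {i j : ℕ} (h1 : 1 ≤ i) (h2 : i ≤ j) :
    orb g z i ∈ seg g z j := Submodule.subset_span ⟨i, ⟨h1, h2⟩, rfl⟩

theorem seg_mono {g : Module.End K V} {z : V} {i j : ℕ} (h : i ≤ j) : seg g z i ≤ seg g z j :=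
  Submodule.span_mono (Set.image_mono (Set.Icc_subset_Icc_right h))

theorem seg_zero (g : Module.End K V) (z : V) : seg g z 0 = ⊥ := by simp [seg]

theorem seg_succ (g : Module.End K V) (z : V) (j : ℕ) :
    seg g z (j + 1) = seg g z j ⊔ K ∙ orb g z (j + 1) := by
  rw [seg, seg, ← Submodule.span_union]
  congr 1
  rw [← Set.image_singleton, ← Set.image_union]
  congr 1
  ext x; simp only [Set.mem_union, Set.mem_Icc, Set.mem_singleton_iff]; omega

/-- A downward shift along the segment. -/
structure Shift (g : Module.End K V) (z : V) (S : Module.End K V) (k : ℕ) : Prop where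
  first : 2 ≤ k → S (orb g z 1) = 0
  next : ∀ i, 1 ≤ i → i + 1 < k → S (orb g z (i + 1)) = orb g z i

theorem Shift.apply_seg {g S : Module.End K V} {z : V} {k : ℕ} (hS : Shift g z S k) :
    ∀ j, j < k → ∀ x ∈ seg g z j, S x ∈ seg g z (j - 1) := by
  intro j hj x hx
  suffices h : (seg g z j).map S ≤ seg g z (j - 1) from h ⟨x, hx, rfl⟩
  rw [seg, Submodule.map_span, Submodule.span_le]
  rintro _ ⟨_, ⟨i, ⟨h1, h2⟩, rfl⟩, rfl⟩
  rcases Nat.exists_eq_add_of_le h1 with ⟨i, rfl⟩
  rcases i with _ | i
  · rw [hS.first (by omega)]; exact zero_mem _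
  · rw [show 1 + (i + 1) = (i + 1) + 1 by ring, hS.next (i + 1) (by omega) (by omega)]
    exact orb_mem_seg (by omega) (by omega)

theorem Shift.pow_eq_zero {g S : Module.End K V} {z : V} {k : ℕ} (hS : Shift g z S k) :
    ∀ j, j < k → ∀ x ∈ seg g z j, (S ^ j) x = 0 := by
  intro j
  induction j with
  | zero => intro _ x hx; simpa [seg_zero] using hx
  | succ j ih =>
    intro hj x hx
    rw [pow_succ, Module.End.mul_apply]
    exact ih (by omega) _ (by simpa using hS.apply_seg (j + 1) hj x hx)

theorem Shift.le_of_mem {g S : Module.End K V} {z : V} {k : ℕ} (hS : Shift g z S k)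
    {W : Submodule K V} (hW : ∀ x ∈ W, S x ∈ W) :
    ∀ j, j < k → ∀ (c : K) (x : V), c ≠ 0 → x ∈ seg g z (j - 1) →
      c • orb g z j + x ∈ W → seg g z j ≤ W := by
  intro j
  induction j with
  | zero => intro _ c x _ _ _; simp [seg_zero]
  | succ j ih =>
    intro hj c x hc hx hmem
    rw [Nat.add_sub_cancel] at hx
    have hlow : seg g z j ≤ W := by
      rcases j with _ | j
      · simp [seg_zero]
      · refine ih (by omega) c (S x) hc (hS.apply_seg (j + 1) (by omega) x hx) ?_
        have := hW _ hmem
        rwa [map_add, map_smul, hS.next (j + 1) (by omega) (by omega)] at this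
    rw [seg_succ]
    refine sup_le hlow ((Submodule.span_singleton_le_iff_mem _ _).2 ?_)
    have h := Submodule.smul_mem W c⁻¹ (Submodule.sub_mem W hmem (hlow hx))
    rwa [add_sub_cancel_right, inv_smul_smul₀ hc] at h

/-- The orbit of `z` first closes up at `k`, and `U` is a complement of its span. -/
structure Split (g : Module.End K V) (z : V) (k : ℕ) (U : Submodule K V) : Prop where
  pos : 1 ≤ k
  li : LinearIndependent K fun i : Fin k => orb g z i
  closed : orb g z k ∈ Submodule.span K (Set.range fun i : Fin k => orb g z i)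
  compl : IsCompl (Submodule.span K (Set.range fun i : Fin k => orb g z i)) U

variable {g : Module.End K V} {z : V} {k : ℕ} {U : Submodule K V}

/-- The span of the orbit. -/
abbrev span' (g : Module.End K V) (z : V) (k : ℕ) : Submodule K V :=
  Submodule.span K (Set.range fun i : Fin k => orb g z i)

theorem orb_mem_span {i : ℕ} (h : i < k) : orb g z i ∈ span' g z k :=
  Submodule.subset_span ⟨⟨i, h⟩, rfl⟩

theorem seg_le_span {j : ℕ} (h : j < k) : seg g z j ≤ span' g z k := by
  rw [seg, Submodule.span_le]
  rintro _ ⟨i, ⟨-, h2⟩, rfl⟩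
  exact orb_mem_span (by omega)

theorem span_le_sup : span' g z k ≤ (K ∙ z) ⊔ seg g z (k - 1) := by
  rw [span', Submodule.span_le]
  rintro _ ⟨i, rfl⟩
  rcases Nat.eq_zero_or_pos (i : ℕ) with h | h
  · refine Submodule.mem_sup_left ?_
    show orb g z i ∈ _
    rw [h, orb_zero]
    exact Submodule.mem_span_singleton_self z
  · exact Submodule.mem_sup_right (orb_mem_seg h (by omega))

theorem exists_split [FiniteDimensional K V] (g : Module.End K V) {z : V} (hz : z ≠ 0) :
    ∃ k U, Split g z k U := by
  classical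
  have hex : ∃ j, orb g z j ∈ span' g z j := by
    by_contra h
    push Not at h
    have hli : ∀ j, LinearIndependent K fun i : Fin j => orb g z i := by
      intro j
      induction j with
      | zero => exact linearIndependent_empty_type
      | succ j ih =>
        have : (fun i : Fin (j + 1) => orb g z i) = Fin.snoc (fun i : Fin j => orb g z i) (orb g z j) := by
          funext i
          refine Fin.lastCases ?_ ?_ i <;> simp
        rw [this, linearIndependent_finSnoc]
        exact ⟨ih, h j⟩
    have := (hli (finrank K V + 1)).fintype_card_le_finrank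
    simp at this
  have hli : ∀ j, j ≤ Nat.find hex → LinearIndependent K fun i : Fin j => orb g z i := by
    intro j
    induction j with
    | zero => exact fun _ => linearIndependent_empty_type
    | succ j ih =>
      intro hj
      have : (fun i : Fin (j + 1) => orb g z i) = Fin.snoc (fun i : Fin j => orb g z i) (orb g z j) := by
        funext i
        refine Fin.lastCases ?_ ?_ i <;> simp
      rw [this, linearIndependent_finSnoc]
      exact ⟨ih (by omega), Nat.find_min hex (by omega)⟩
  obtain ⟨U, hU⟩ := Submodule.exists_isCompl (span' g z (Nat.find hex))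
  refine ⟨Nat.find hex, U, ⟨?_, hli _ le_rfl, Nat.find_spec hex, hU⟩⟩
  by_contra h0
  have hs := Nat.find_spec hex
  rw [show Nat.find hex = 0 by omega, orb_zero] at hs
  simp [span'] at hs
  exact hz hs

theorem Split.finrank_eq [FiniteDimensional K V] (hs : Split g z k U) :
    k + finrank K U = finrank K V := by
  rw [← Submodule.finrank_add_eq_of_isCompl hs.compl, finrank_span_eq_card hs.li, Fintype.card_fin]

theorem Split.map_span (hs : Split g z k U) {x : V} (hx : x ∈ span' g z k) : g x ∈ span' g z k := by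
  suffices h : (span' g z k).map g ≤ span' g z k from h ⟨x, hx, rfl⟩
  rw [span', Submodule.map_span, Submodule.span_le]
  rintro _ ⟨_, ⟨i, rfl⟩, rfl⟩
  show g (orb g z i) ∈ _
  rw [← orb_succ]
  rcases Nat.lt_or_ge ((i : ℕ) + 1) k with h | h
  · exact orb_mem_span h
  · rw [show (i : ℕ) + 1 = k by omega]; exact hs.closed

theorem Split.notMem_seg (hs : Split g z k U) : z ∉ seg g z (k - 1) := by
  intro h
  have h0 := hs.li.notMem_span_image (s := {i : Fin k | 1 ≤ (i : ℕ)}) (x := ⟨0, hs.pos⟩) (by simp)
  refine h0 ?_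
  show orb g z ((⟨0, hs.pos⟩ : Fin k) : ℕ) ∈ _
  rw [orb_zero]
  refine Submodule.span_mono ?_ h
  rintro _ ⟨i, ⟨h1, h2⟩, rfl⟩
  exact ⟨⟨i, by have := hs.pos; omega⟩, h1, rfl⟩

/-- The orbit closes up through `z`. -/
theorem Split.exists_closed [FiniteDimensional K V] (hs : Split g z k U) (hg : Function.Injective g) :
    ∃ (c : K), ∃ x ∈ seg g z (k - 1), c ≠ 0 ∧ orb g z k = c • z + x := by
  obtain ⟨a, ha, x, hx, he⟩ := Submodule.mem_sup.1 (span_le_sup hs.closed)
  obtain ⟨c, rfl⟩ := Submodule.mem_span_singleton.1 ha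
  refine ⟨c, x, hx, ?_, he.symm⟩
  rintro rfl
  rw [zero_smul, zero_add] at he
  have hle : (seg g z (k - 1)).map g ≤ seg g z (k - 1) := by
    rw [seg, Submodule.map_span, Submodule.span_le]
    rintro _ ⟨_, ⟨i, ⟨h1, h2⟩, rfl⟩, rfl⟩
    rw [← orb_succ]
    rcases Nat.lt_or_ge (i + 1) k with h | h
    · exact orb_mem_seg (by omega) (by omega)
    · rw [show i + 1 = k by omega, ← he]; exact hx
  have heq : (seg g z (k - 1)).map g = seg g z (k - 1) :=
    Submodule.eq_of_le_of_finrank_eq hle (Submodule.equivMapOfInjective g hg _).finrank_eq.symm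
  have h1 : g z ∈ seg g z (k - 1) := by
    rcases Nat.lt_or_ge 1 k with h | h
    · rw [← orb_one]; exact orb_mem_seg le_rfl (by omega)
    · have hk : k = 1 := by have := hs.pos; omega
      subst hk
      rw [← orb_one, ← he]; exact hx
  rw [← heq] at h1
  obtain ⟨t, ht, hgt⟩ := h1
  exact hs.notMem_seg (hg hgt ▸ ht)

theorem exists_end (hs : Split g z k U) (cols : ℕ → V) (h : U →ₗ[K] V) :
    ∃ Y : Module.End K V, (∀ i, i < k → Y (orb g z i) = cols i) ∧ ∀ u : U, Y u = h u := by
  let φ : span' g z k →ₗ[K] V := (Basis.span hs.li).constr K fun i : Fin k => cols i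
  refine ⟨LinearMap.ofIsCompl hs.compl φ h, fun i hi => ?_, fun u => LinearMap.ofIsCompl_apply_right hs.compl u⟩
  have e : (Basis.span hs.li ⟨i, hi⟩ : span' g z k) = ⟨orb g z i, orb_mem_span hi⟩ :=
    Basis.span_apply hs.li ⟨i, hi⟩
  have h1 := LinearMap.ofIsCompl_apply_left hs.compl (φ := φ) (ψ := h) (Basis.span hs.li ⟨i, hi⟩)
  have h2 : φ (Basis.span hs.li ⟨i, hi⟩) = cols i := Basis.constr_basis _ _ _ _
  rw [h2, e] at h1
  exact h1

/-- The induced map on the complement. -/
noncomputable def induced (g : Module.End K V) (hs : Split g z k U) : Module.End K U :=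
  (U.projectionOnto _ hs.compl.symm).comp (g.comp U.subtype)

theorem induced_spec (hs : Split g z k U) (u : U) :
    ∃ x ∈ span' g z k, g u = (induced g hs u : V) + x := by
  refine ⟨g u - (induced g hs u : V), ?_, by abel⟩
  have h : U.projectionOnto _ hs.compl.symm (g u - (induced g hs u : V)) = 0 := by
    rw [map_sub, Submodule.projectionOnto_apply_left]
    simp [induced]
  exact (Submodule.projectionOnto_apply_eq_zero_iff hs.compl.symm).1 h

theorem induced_injective (hs : Split g z k U) [FiniteDimensional K V] (hg : Function.Injective g) :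
    Function.Injective (induced g hs) := by
  refine (injective_iff_map_eq_zero _).2 fun u hu => ?_
  obtain ⟨x, hx, he⟩ := induced_spec hs u
  rw [hu, Submodule.coe_zero, zero_add] at he
  have heq : (span' g z k).map g = span' g z k :=
    Submodule.eq_of_le_of_finrank_eq (by rintro _ ⟨y, hy, rfl⟩; exact hs.map_span hy)
      (Submodule.equivMapOfInjective g hg _).finrank_eq.symm
  obtain ⟨y, hy, hgy⟩ := (show g u ∈ (span' g z k).map g by rw [heq, he]; exact hx)
  have hmem : (u : V) ∈ span' g z k := hg hgy ▸ hy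
  exact Subtype.ext (Submodule.disjoint_def.1 hs.compl.disjoint _ hmem u.2)

/-- A unipotent partner. -/
def Good (g : Module.End K V) : Prop :=
  ∃ (Y : Module.End K V) (z : V),
    (Y - 1) ^ finrank K V = 0 ∧ Cyc (Y - 1) z ∧ Cyc (g * Y) (g z)

/-- Shared behaviour of `g * Y` on the chain. -/
theorem seg_le_of_invariant {Y : Module.End K V} {τ : K} (hτ : τ ≠ 0) (h1 : 2 ≤ k → Y (orb g z 1) = τ • orb g z 1)
    (hY : ∀ i, 1 ≤ i → i + 1 < k → Y (orb g z (i + 1)) = τ • orb g z (i + 1) + orb g z i)
    {W : Submodule K V} (hW : ∀ x ∈ W, (g * Y) x ∈ W) (hgz : g z ∈ W) :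
    ∀ i, 1 ≤ i → i ≤ k → orb g z i ∈ W := by
  intro i
  induction i with
  | zero => omega
  | succ i ih =>
    intro _ hi
    rcases i with _ | i
    · rwa [zero_add, orb_one]
    have hW' := hW _ (ih (by omega) (by omega))
    rw [Module.End.mul_apply] at hW'
    rcases i with _ | i
    · rw [zero_add, h1 (by omega), map_smul, ← orb_succ] at hW'
      have := W.smul_mem τ⁻¹ hW'
      rwa [inv_smul_smul₀ hτ] at this
    · rw [hY (i + 1) (by omega) (by omega), map_add, map_smul, ← orb_succ, ← orb_succ] at hW'
      have := W.smul_mem τ⁻¹ (W.sub_mem hW' (ih (by omega) (by omega)))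
      rwa [add_sub_cancel_right, inv_smul_smul₀ hτ] at this

theorem Split.top_le (hs : Split g z k U) {W : Submodule K V} (hz : z ∈ W)
    (hseg : seg g z (k - 1) ≤ W) (hU : ∀ u : U, (u : V) ∈ W) : W = ⊤ := by
  refine eq_top_iff.2 ?_
  rw [← hs.compl.sup_eq_top]
  exact sup_le (span_le_sup.trans (sup_le ((Submodule.span_singleton_le_iff_mem _ _).2 hz) hseg))
    fun x hx => hU ⟨x, hx⟩

theorem good_step [FiniteDimensional K V] (hs : Split g z k U) (hg : Function.Injective g)
    (hU : Good (induced g hs)) : Good g := by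
  classical
  obtain ⟨Y', z', hnil, hcN, hcD⟩ := hU
  set N' : Module.End K U := Y' - 1 with hN'
  set m := finrank K U with hm
  set w : V := if 2 ≤ k then orb g z (k - 1) else 0 with hw
  set χ : K := if m = 0 then 1 else 0 with hχ
  obtain ⟨ψ, hψ⟩ : ∃ ψ : U →ₗ[K] K, m ≠ 0 → ψ ((N' ^ (m - 1)) z') = 1 := by
    by_cases hm0 : m = 0
    · exact ⟨0, fun h => absurd hm0 h⟩
    have hne : (N' ^ (m - 1)) z' ≠ 0 := by
      intro h
      have := hcN.eq_zero (p := X ^ (m - 1)) (by rw [degree_X_pow]; exact_mod_cast (by omega))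
        (by simpa using h)
      simp at this
    obtain ⟨f, hf⟩ : ∃ f : Module.Dual K U, f ((N' ^ (m - 1)) z') ≠ 0 := by
      by_contra h
      push Not at h
      exact hne ((Module.forall_dual_apply_eq_zero_iff K _).1 h)
    exact ⟨(f ((N' ^ (m - 1)) z'))⁻¹ • f, fun _ => by simp [inv_mul_cancel₀ hf]⟩
  obtain ⟨Y, hYe, hYu⟩ := exists_end hs
    (fun i => if i = 0 then z + (z' : V) + χ • w else if i = 1 then orb g z i
      else orb g z i + orb g z (i - 1))
    (U.subtype.comp Y' + ψ.smulRight w)
  set N := Y - 1 with hN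
  have hYz : Y z = z + (z' : V) + χ • w := by
    have := hYe 0 hs.pos
    rwa [orb_zero, if_pos rfl] at this
  have hY1 : 2 ≤ k → Y (orb g z 1) = orb g z 1 := fun h => by
    rw [hYe 1 (by omega)]; simp
  have hYi : ∀ i, 1 ≤ i → i + 1 < k → Y (orb g z (i + 1)) = orb g z (i + 1) + orb g z i := fun i h1 h2 => by
    rw [hYe (i + 1) h2, if_neg (by omega), if_neg (by omega), Nat.add_sub_cancel]
  have hshift : Shift g z N k :=
    ⟨fun h => by simp [hN, hY1 h], fun i h1 h2 => by simp [hN, hYi i h1 h2]⟩
  have hNu : ∀ u : U, N u = (N' u : V) + ψ u • w := fun u => by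
    simp [hN, hN', hYu]
    abel
  have hwseg : w ∈ seg g z (k - 1) := by
    by_cases h : 2 ≤ k
    · rw [hw, if_pos h]; exact orb_mem_seg (by omega) le_rfl
    · rw [hw, if_neg h]; exact zero_mem _
  have hNpow : ∀ j (u : U), ∃ x ∈ seg g z (k - 1), (N ^ j) u = ((N' ^ j) u : V) + x := by
    intro j
    induction j with
    | zero => exact fun u => ⟨0, zero_mem _, by simp⟩
    | succ j ih =>
      intro u
      obtain ⟨x, hx, he⟩ := ih u
      refine ⟨ψ ((N' ^ j) u) • w + N x, add_mem (Submodule.smul_mem _ _ hwseg)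
        (seg_mono (by omega) (hshift.apply_seg (k - 1) (by have := hs.pos; omega) x hx)), ?_⟩
      rw [pow_succ', Module.End.mul_apply, he, map_add, hNu, pow_succ', Module.End.mul_apply]
      abel
  have hNz : N z = (z' : V) + χ • w := by simp [hN, hYz]; abel
  refine ⟨Y, z, ?_, cyc_of_invariant fun W hzW hW => ?_, cyc_of_invariant fun W hgzW hW => ?_⟩
  · rw [← hs.finrank_eq, ← hN]
    have hk := hs.pos
    have hsegz : ∀ x ∈ seg g z (k - 1), ∀ j, k - 1 ≤ j → (N ^ j) x = 0 := fun x hx j hj => by
      rw [show j = (j - (k - 1)) + (k - 1) by omega, pow_add, Module.End.mul_apply,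
        hshift.pow_eq_zero _ (by omega) x hx, map_zero]
    have hUz : ∀ (u : U) j, m + (k - 1) ≤ j → (N ^ j) u = 0 := fun u j hj => by
      obtain ⟨x, hx, he⟩ := hNpow m u
      rw [show j = (j - m) + m by omega, pow_add, Module.End.mul_apply, he, hnil,
        LinearMap.zero_apply, Submodule.coe_zero, zero_add, hsegz x hx _ (by omega)]
    rw [← hm, ← LinearMap.ker_eq_top]
    refine hs.top_le ?_ (fun x hx => LinearMap.mem_ker.2 (hsegz x hx _ (by omega)))
      (fun u => LinearMap.mem_ker.2 (hUz u _ (by omega)))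
    rw [LinearMap.mem_ker, show k + m = (k + m - 1) + 1 by omega, pow_succ, Module.End.mul_apply,
      hNz, map_add, map_smul, hUz z' _ (by omega), hsegz w hwseg _ (by omega)]
    simp
  · have hlead : seg g z (k - 1) ≤ W := by
      by_cases h : 2 ≤ k
      swap
      · rw [show k - 1 = 0 by omega, seg_zero]; exact bot_le
      have hw' : w = orb g z (k - 1) := by rw [hw, if_pos h]
      by_cases hm0 : m = 0
      · have : (z' : V) = 0 := by
          have := (finrank_zero_iff (R := K)).1 (hm ▸ hm0 : finrank K U = 0)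
          rw [Subsingleton.elim z' 0, Submodule.coe_zero]
        have h1 := hW z hzW
        rw [← hN, hNz, this, zero_add, hχ, if_pos hm0, hw'] at h1
        exact hshift.le_of_mem hW (k - 1) (by omega) 1 0 one_ne_zero (zero_mem _) (by simpa using h1)
      · have h1 : ∀ j, (N ^ j) (N z) ∈ W := by
          intro j
          induction j with
          | zero => rw [pow_zero, Module.End.one_apply]; exact hW z hzW
          | succ j ih => rw [pow_succ', Module.End.mul_apply]; exact hW _ ih
        obtain ⟨x, hx, he⟩ := hNpow (m - 1) z'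
        have h2 := h1 (m - 1 + 1)
        rw [hNz, hχ, if_neg hm0, zero_smul, add_zero, pow_succ', Module.End.mul_apply, he, map_add,
          hNu, hψ hm0, one_smul, ← Module.End.mul_apply, ← pow_succ',
          show m - 1 + 1 = m by omega, hnil, LinearMap.zero_apply, Submodule.coe_zero, zero_add, hw'] at h2
        exact hshift.le_of_mem hW (k - 1) (by omega) 1 (N x) one_ne_zero
          (hshift.apply_seg (k - 1) (by omega) x hx) (by simpa using h2)
    refine hs.top_le hzW hlead fun u => ?_
    refine hcN.mem (W := W.comap U.subtype) ?_ (fun v hv => ?_) u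
    · have := W.sub_mem (hW z hzW) (W.smul_mem χ (hlead hwseg))
      rwa [← hN, hNz, add_sub_cancel_right] at this
    · have := W.sub_mem (hW _ hv) (W.smul_mem (ψ v) (hlead hwseg))
      rwa [Submodule.subtype_apply, ← hN, hNu, add_sub_cancel_right] at this
  · have horb := seg_le_of_invariant (τ := 1) one_ne_zero (fun h => by rw [hY1 h, one_smul])
      (fun i h1 h2 => by rw [hYi i h1 h2, one_smul]) hW hgzW
    have hseg : seg g z k ≤ W := by
      rw [seg, Submodule.span_le]
      rintro _ ⟨i, ⟨h1, h2⟩, rfl⟩
      exact horb i h1 h2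
    obtain ⟨c, x, hx, hc, he⟩ := hs.exists_closed hg
    have hzW : z ∈ W := by
      have h1 := W.smul_mem c⁻¹ (W.sub_mem (horb k hs.pos le_rfl) (hseg (seg_mono (by omega) hx)))
      rwa [he, add_sub_cancel_right, inv_smul_smul₀ hc] at h1
    have hE : span' g z k ≤ W := span_le_sup.trans
      (sup_le ((Submodule.span_singleton_le_iff_mem _ _).2 hzW) ((seg_mono (by omega)).trans hseg))
    refine hs.top_le hzW ((seg_mono (by omega)).trans hseg) fun u => ?_
    refine hcD.mem (W := W.comap U.subtype) ?_ (fun v hv => ?_) u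
    · obtain ⟨t, ht, het⟩ := induced_spec hs z'
      have h1 := W.sub_mem (W.sub_mem (W.sub_mem (hW z hzW) hgzW)
        (hE (hs.map_span (seg_le_span (by have := hs.pos; omega) (Submodule.smul_mem _ χ hwseg))))) (hE ht)
      rw [Module.End.mul_apply, hYz, map_add, map_add, het] at h1
      show ((induced g hs z' : U) : V) ∈ W
      convert h1 using 1
      abel
    · obtain ⟨t, ht, het⟩ := induced_spec hs (Y' v)
      have h1 := W.sub_mem (W.sub_mem (hW _ hv)
        (hE (hs.map_span (seg_le_span (by have := hs.pos; omega) (Submodule.smul_mem _ (ψ v) hwseg))))) (hE ht)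
      rw [Submodule.subtype_apply, Module.End.mul_apply, hYu] at h1
      simp only [LinearMap.add_apply, LinearMap.comp_apply, Submodule.subtype_apply, LinearMap.smulRight_apply,
        map_add, het] at h1
      show (((induced g hs * Y') v : U) : V) ∈ W
      rw [Module.End.mul_apply]
      convert h1 using 1
      abel

theorem good_aux.{v} (n : ℕ) : ∀ (V : Type v) [AddCommGroup V] [Module K V] [FiniteDimensional K V]
    (g : Module.End K V), Function.Injective g → finrank K V ≤ n → Good g := by
  induction n with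
  | zero =>
    intro V _ _ _ g _ hn
    have : Subsingleton V := (finrank_zero_iff (R := K)).1 (by omega)
    exact ⟨1, 0, Subsingleton.elim _ _, fun v => ⟨0, Subsingleton.elim _ _⟩, fun v => ⟨0, Subsingleton.elim _ _⟩⟩
  | succ n ih =>
    intro V _ _ _ g hg hn
    rcases subsingleton_or_nontrivial V with h | h
    · exact ⟨1, 0, Subsingleton.elim _ _, fun v => ⟨0, Subsingleton.elim _ _⟩, fun v => ⟨0, Subsingleton.elim _ _⟩⟩
    obtain ⟨z, hz⟩ := exists_ne (0 : V)
    obtain ⟨k, U, hs⟩ := exists_split g hz
    have := hs.finrank_eq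
    have := hs.pos
    exact good_step hs hg (ih U _ (induced_injective hs hg) (by omega))

theorem good [FiniteDimensional K V] {g : Module.End K V} (hg : Function.Injective g) : Good g :=
  good_aux _ V g hg le_rfl

end Cfsg.Agent.SLComm34
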