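import Mathlib

/-!
Cyclic endomorphisms and the criterion for an element to be a commutator in `SL`.
-/

set_option autoImplicit false

namespace Cfsg.Agent.SLComm34

open Polynomial Module

variable {K V : Type*} [Field K] [AddCommGroup V] [Module K V]

/-- `z` is a cyclic vector of `M`. -/
def Cyc (M : Module.End K V) (z : V) : Prop := ∀ v : V, ∃ p : K[X], aeval M p z = v

/-- Equal elements `g * b` and `b` up to conjugation by determinant one. -/
def Solved (g : Module.End K V) : Prop :=
  ∃ a b : Module.End K V, LinearMap.det a = 1 ∧ LinearMap.det b = 1 ∧ g * b * a = a * b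

theorem aeval_apply_mul (M : Module.End K V) (p q : K[X]) (z : V) :
    aeval M (p * q) z = aeval M p (aeval M q z) := by
  rw [map_mul]; rfl

theorem aeval_apply_X_mul (M : Module.End K V) (q : K[X]) (z : V) :
    aeval M (X * q) z = M (aeval M q z) := by
  rw [aeval_apply_mul, aeval_X]

theorem cyc_of_invariant {M : Module.End K V} {z : V}
    (h : ∀ W : Submodule K V, z ∈ W → (∀ w ∈ W, M w ∈ W) → W = ⊤) : Cyc M z := by
  let L : K[X] →ₗ[K] V := (LinearMap.applyₗ z).comp (aeval M).toLinearMap
  have hL : L.range = ⊤ := h _ ⟨1, by simp [L]⟩ (by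
    rintro w ⟨p, rfl⟩
    exact ⟨X * p, aeval_apply_X_mul M p z⟩)
  intro v
  obtain ⟨p, hp⟩ := (show v ∈ L.range from hL ▸ Submodule.mem_top)
  exact ⟨p, hp⟩

theorem Cyc.mem {M : Module.End K V} {z : V} (hc : Cyc M z) {W : Submodule K V} (hz : z ∈ W)
    (hW : ∀ w ∈ W, M w ∈ W) (v : V) : v ∈ W := by
  obtain ⟨p, rfl⟩ := hc v
  induction p using Polynomial.induction_on' with
  | add p q hp hq => rw [map_add]; exact add_mem hp hq
  | monomial i a =>
    rw [← Polynomial.C_mul_X_pow_eq_monomial, map_mul, aeval_C, Polynomial.aeval_X_pow]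
    refine W.smul_mem a ?_
    clear hc
    induction i with
    | zero => simpa using hz
    | succ i ih => rw [pow_succ', Module.End.mul_apply]; exact hW _ ih

variable [FiniteDimensional K V] {M : Module.End K V} {z : V}

theorem natDegree_charpoly (M : Module.End K V) : M.charpoly.natDegree = finrank K V :=
  LinearMap.charpoly_natDegree M

/-- Small polynomials act faithfully on a cyclic vector. -/
theorem Cyc.injective (hc : Cyc M z) :
    Function.Injective (fun p : degreeLT K (finrank K V) => aeval M (p : K[X]) z) := by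
  let L : degreeLT K (finrank K V) →ₗ[K] V :=
    ((LinearMap.applyₗ z).comp (aeval M).toLinearMap).comp (degreeLT K (finrank K V)).subtype
  have hsurj : Function.Surjective L := by
    intro v
    obtain ⟨p, hp⟩ := hc v
    refine ⟨⟨p %ₘ M.charpoly, mem_degreeLT.2 ?_⟩, ?_⟩
    · have h := degree_modByMonic_lt p (LinearMap.charpoly_monic M)
      rwa [degree_eq_natDegree (LinearMap.charpoly_monic M).ne_zero, natDegree_charpoly] at h
    · change aeval M (p %ₘ M.charpoly) z = v
      rw [aeval_modByMonic_eq_self_of_root (LinearMap.aeval_self_charpoly M), hp]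
  have hd : finrank K (degreeLT K (finrank K V)) = finrank K V := by
    rw [(degreeLTEquiv K (finrank K V)).finrank_eq, finrank_fin_fun]
  have : FiniteDimensional K (degreeLT K (finrank K V)) :=
    Module.Finite.equiv (degreeLTEquiv K (finrank K V)).symm
  exact (LinearMap.injective_iff_surjective_of_finrank_eq_finrank hd).2 hsurj

theorem Cyc.eq_zero (hc : Cyc M z) {p : K[X]} (hp : p.degree < finrank K V)
    (h : aeval M p z = 0) : p = 0 :=
  congrArg Subtype.val (hc.injective (a₁ := ⟨p, mem_degreeLT.2 hp⟩) (a₂ := 0) (by simpa using h))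

theorem Cyc.charpoly_eq (hc : Cyc M z) {f : K[X]} (hf : f.Monic) (hd : f.natDegree = finrank K V)
    (h : aeval M f z = 0) : M.charpoly = f := by
  refine sub_eq_zero.1 (hc.eq_zero ?_ (by rw [map_sub, LinearMap.sub_apply, h, LinearMap.aeval_self_charpoly]; simp))
  have h1 : M.charpoly.degree = finrank K V := by
    rw [degree_eq_natDegree (LinearMap.charpoly_monic M).ne_zero, natDegree_charpoly]
  have h2 : f.degree = finrank K V := by rw [degree_eq_natDegree hf.ne_zero, hd]
  exact h1 ▸ degree_sub_lt (h1.trans h2.symm) (LinearMap.charpoly_monic M).ne_zero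
    ((LinearMap.charpoly_monic M).leadingCoeff.trans hf.leadingCoeff.symm)

theorem det_eq (M : Module.End K V) :
    LinearMap.det M = (-1) ^ finrank K V * M.charpoly.coeff 0 :=
  LinearMap.det_eq_sign_charpoly_coeff M

/-- Cyclic endomorphisms with one characteristic polynomial are similar. -/
theorem exists_intertwine {M' : Module.End K V} {z' : V} (hc : Cyc M z) (hc' : Cyc M' z')
    (h : M.charpoly = M'.charpoly) :
    ∃ a : V ≃ₗ[K] V, (∀ v, a (M v) = M' (a v)) ∧ ∀ p : K[X], a (aeval M p z) = aeval M' p z' := by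
  have hsurj : Function.Surjective ((LinearMap.applyₗ z).comp (aeval M).toLinearMap) := hc
  set L : K[X] →ₗ[K] V := (LinearMap.applyₗ z).comp (aeval M).toLinearMap with hL
  set L' : K[X] →ₗ[K] V := (LinearMap.applyₗ z').comp (aeval M').toLinearMap with hL'
  have key : ∀ {N : Module.End K V} {y : V}, Cyc N y → ∀ p : K[X],
      aeval N p y = 0 ↔ p %ₘ N.charpoly = 0 := by
    intro N y hN p
    rw [← aeval_modByMonic_eq_self_of_root (LinearMap.aeval_self_charpoly N) (p := p)]
    refine ⟨fun h => hN.eq_zero ?_ h, fun h => by rw [h, map_zero]; rfl⟩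
    have := degree_modByMonic_lt p (LinearMap.charpoly_monic N)
    rwa [degree_eq_natDegree (LinearMap.charpoly_monic N).ne_zero, natDegree_charpoly] at this
  have hker : LinearMap.ker L = LinearMap.ker L' := by
    ext p
    change aeval M p z = 0 ↔ aeval M' p z' = 0
    rw [key hc, key hc', h]
  let a := (LinearMap.quotKerEquivOfSurjective L hsurj).symm.trans
    ((Submodule.quotEquivOfEq _ _ hker).trans (LinearMap.quotKerEquivOfSurjective L' hc'))
  have ha : ∀ p : K[X], a (L p) = L' p := fun p => by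
    simp only [a, LinearEquiv.trans_apply]
    rw [show (LinearMap.quotKerEquivOfSurjective L hsurj).symm (L p) = Submodule.Quotient.mk p from
      (LinearEquiv.symm_apply_eq _).2 rfl]
    rfl
  refine ⟨a, fun v => ?_, ha⟩
  obtain ⟨p, rfl⟩ := hc v
  rw [← aeval_apply_X_mul, show a (aeval M (X * p) z) = aeval M' (X * p) z' from ha _,
    show a (aeval M p z) = aeval M' p z' from ha _, aeval_apply_X_mul]

/-- A quadratic simple factor makes the determinant on the centraliser surjective. -/
theorem exists_commuting_det [Finite K] (hc : Cyc M z) {P : K[X]} {t δ : K}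
    (hP : P.Monic) (hcop : IsCoprime P (X ^ 2 - C t * X + C δ))
    (hdisc : t ^ 2 - 4 * δ ≠ 0) (hd : P.natDegree + 2 = finrank K V)
    (h : aeval M (P * (X ^ 2 - C t * X + C δ)) z = 0)
    (hrep : ∀ k : K, k ≠ 0 → ∃ x y : K, x ^ 2 + t * x * y + δ * y ^ 2 = k) {k : K} (hk : k ≠ 0) :
    ∃ c : Module.End K V, c * M = M * c ∧ LinearMap.det c = k := by
  obtain ⟨x, y, hxy⟩ := hrep k hk
  set Q : K[X] := X ^ 2 - C t * X + C δ with hQ
  have hQd : Q.natDegree = 2 := by rw [hQ]; compute_degree!
  have hQ0 : Q ≠ 0 := fun e => by rw [e] at hQd; simp at hQd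
  obtain ⟨α, β, hαβ⟩ := id hcop
  set c : Module.End K V := 1 + aeval M ((C x + C y * X - 1) * (α * P)) with hcdef
  refine ⟨c, ?_, ?_⟩
  · rw [hcdef, add_mul, mul_add, one_mul, mul_one]
    congr 1
    conv_lhs => arg 2; rw [← aeval_X (R := K) M]
    conv_rhs => arg 1; rw [← aeval_X (R := K) M]
    rw [← map_mul, ← map_mul, mul_comm]
  set m := P.natDegree
  let φ : (degreeLT K m × (Fin 2 → K)) →ₗ[K] K[X] :=
    ((LinearMap.mulRight K Q).comp (degreeLT K m).subtype).coprod
      ((LinearMap.mulRight K P).comp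
        ((LinearMap.proj 0).smulRight (1 : K[X]) + (LinearMap.proj 1).smulRight X))
  have hφ : ∀ r (v : Fin 2 → K), φ (r, v) = (r : K[X]) * Q + (C (v 0) + C (v 1) * X) * P := by
    intro r v
    simp [φ, Polynomial.smul_eq_C_mul]
  let L : (degreeLT K m × (Fin 2 → K)) →ₗ[K] V :=
    ((LinearMap.applyₗ z).comp (aeval M).toLinearMap).comp φ
  have hdim : finrank K (degreeLT K m × (Fin 2 → K)) = finrank K V := by
    have : FiniteDimensional K (degreeLT K m) := Module.Finite.equiv (degreeLTEquiv K m).symm
    rw [finrank_prod, (degreeLTEquiv K m).finrank_eq, finrank_fin_fun, finrank_fin_fun, hd]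
  have hfd : FiniteDimensional K (degreeLT K m) := Module.Finite.equiv (degreeLTEquiv K m).symm
  have hinj : Function.Injective L := by
    rw [← LinearMap.ker_eq_bot, LinearMap.ker_eq_bot']
    rintro ⟨r, v⟩ hrv
    have hr : (r : K[X]).degree < m := mem_degreeLT.1 r.2
    have hlin : (C (v 0) + C (v 1) * X).natDegree ≤ 1 := by compute_degree!
    have h0 : φ (r, v) = 0 := by
      refine hc.eq_zero ?_ hrv
      rw [hφ]
      by_cases h1 : (r : K[X]) * Q + (C (v 0) + C (v 1) * X) * P = 0
      · rw [h1, degree_zero]; exact WithBot.bot_lt_coe _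
      rw [degree_eq_natDegree h1, Nat.cast_lt]
      have e1 : ((r : K[X]) * Q).natDegree < m + 2 := by
        by_cases hr0 : (r : K[X]) = 0
        · rw [hr0, zero_mul, natDegree_zero]; omega
        · rw [natDegree_mul hr0 hQ0, hQd]
          rw [degree_eq_natDegree hr0, Nat.cast_lt] at hr
          omega
      have e2 : ((C (v 0) + C (v 1) * X) * P).natDegree < m + 2 :=
        lt_of_le_of_lt natDegree_mul_le (by omega)
      have := natDegree_add_le ((r : K[X]) * Q) ((C (v 0) + C (v 1) * X) * P)
      omega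
    rw [hφ] at h0
    have hdvd : Q ∣ C (v 0) + C (v 1) * X := hcop.symm.dvd_of_dvd_mul_right
      ⟨-(r : K[X]), by linear_combination h0⟩
    have hv : C (v 0) + C (v 1) * X = 0 := eq_zero_of_dvd_of_natDegree_lt hdvd (by omega)
    rw [hv, zero_mul, add_zero, mul_eq_zero, or_iff_left hQ0] at h0
    refine Prod.ext (Subtype.ext h0) (funext fun i => ?_)
    have h00 := congrArg (fun p : K[X] => p.coeff 0) hv
    have h01 := congrArg (fun p : K[X] => p.coeff 1) hv
    fin_cases i
    · simpa using h00
    · simpa [coeff_C] using h01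
  let e := LinearEquiv.ofBijective L
    ⟨hinj, (LinearMap.injective_iff_surjective_of_finrank_eq_finrank hdim).1 hinj⟩
  let B : Module.End K (Fin 2 → K) := Matrix.toLin' !![x, -(δ * y); y, x + t * y]
  have hcomm : ∀ w, c (e w) = e (LinearMap.prodMap LinearMap.id B w) := by
    rintro ⟨r, v⟩
    set v0 := v 0
    set v1 := v 1
    have hB : ∀ i, B v i = ![x * v0 - δ * y * v1, y * v0 + (x + t * y) * v1] i := by
      intro i
      fin_cases i <;> simp [B, Matrix.toLin'_apply, Matrix.mulVec, dotProduct, Fin.sum_univ_two, v0, v1] <;> ring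
    have hzero : ∀ A : K[X], aeval M (A * (P * Q)) z = 0 := fun A => by
      rw [aeval_apply_mul, h, map_zero]
    change c (aeval M (φ (r, v)) z) = aeval M (φ (r, B v)) z
    rw [hφ, hφ, hB, hB]
    simp only [Matrix.cons_val_zero, Matrix.cons_val_one, hcdef, LinearMap.add_apply,
      Module.End.one_apply]
    rw [← aeval_apply_mul, ← LinearMap.add_apply, ← map_add, ← sub_eq_zero, ← LinearMap.sub_apply,
      ← map_sub]
    convert hzero ((C x + C y * X - 1) * α * (r : K[X]) -
      (C x + C y * X - 1) * β * (C v0 + C v1 * X) + C (y * v1)) using 3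
    simp only [map_add, map_sub, map_mul, hQ]
    linear_combination ((C x + C y * X - 1) * (C v0 + C v1 * X) * P) * hαβ
  have hdet : LinearMap.det c = LinearMap.det (LinearMap.prodMap LinearMap.id B :
      Module.End K (degreeLT K m × (Fin 2 → K))) := by
    rw [← LinearMap.det_conj _ e]
    congr 1
    ext v
    obtain ⟨w, rfl⟩ := e.surjective v
    simp only [LinearMap.comp_apply, LinearEquiv.coe_coe, LinearEquiv.symm_apply_apply]
    exact hcomm w
  rw [hdet, LinearMap.det_prodMap, LinearMap.det_id, one_mul, LinearMap.det_toLin', Matrix.det_fin_two_of]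
  linear_combination hxy

/-- The criterion. -/
theorem solved_of_cyclic [Finite K] {g Y : Module.End K V} {z₁ z₂ : V} (hg : LinearMap.det g = 1)
    (hY : Cyc Y z₁) (hM : Cyc (g * Y) z₂) {P : K[X]} {t δ : K} (hP : P.Monic)
    (hcop : IsCoprime P (X ^ 2 - C t * X + C δ)) (hdisc : t ^ 2 - 4 * δ ≠ 0)
    (hd : P.natDegree + 2 = finrank K V)
    (hY0 : aeval Y (P * (X ^ 2 - C t * X + C δ)) z₁ = 0)
    (hM0 : aeval (g * Y) (P * (X ^ 2 - C t * X + C δ)) z₂ = 0)
    (hconst : P.coeff 0 * δ = (-1) ^ finrank K V)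
    (hrep : ∀ k : K, k ≠ 0 → ∃ x y : K, x ^ 2 + t * x * y + δ * y ^ 2 = k) : Solved g := by
  set f := P * (X ^ 2 - C t * X + C δ)
  have hQm : (X ^ 2 - C t * X + C δ : K[X]).Monic := by monicity!
  have hfm : f.Monic := hP.mul hQm
  have hfd : f.natDegree = finrank K V := by
    rw [hP.natDegree_mul hQm, show (X ^ 2 - C t * X + C δ : K[X]).natDegree = 2 by compute_degree!, hd]
  have e1 := hY.charpoly_eq hfm hfd hY0
  have e2 := hM.charpoly_eq hfm hfd hM0
  have hdetY : LinearMap.det Y = 1 := by
    rw [det_eq, e1]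
    simp only [f, mul_coeff_zero]
    rw [show (X ^ 2 - C t * X + C δ : K[X]).coeff 0 = δ by simp, hconst, ← mul_pow]
    simp
  obtain ⟨a, ha, -⟩ := exists_intertwine hY hM (e1.trans e2.symm)
  have ha0 : LinearMap.det (a : Module.End K V) ≠ 0 := (LinearEquiv.isUnit_det' a).ne_zero
  obtain ⟨c, hc, hdc⟩ := exists_commuting_det hY hP hcop hdisc hd hY0 hrep (inv_ne_zero ha0)
  refine ⟨(a : Module.End K V) * c, Y, ?_, hdetY, ?_⟩
  · rw [map_mul, hdc, mul_inv_cancel₀ ha0]
  · have hga : g * Y * (a : Module.End K V) = (a : Module.End K V) * Y := by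
      ext v
      exact (ha v).symm
    rw [← mul_assoc (g * Y), hga, mul_assoc _ Y, ← hc, mul_assoc]

end Cfsg.Agent.SLComm34
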