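import Cfsg.Agent.Lib.SLCommPartner34

/-!
The case of an orbit spanning the whole space.
-/

set_option autoImplicit false

namespace Cfsg.Agent.SLComm34

open Polynomial Module

variable {K V : Type*} [Field K] [AddCommGroup V] [Module K V] [FiniteDimensional K V]
  {g : Module.End K V} {z : V} {k : ℕ} {U : Submodule K V}

/-- An orbit that is a basis. -/
theorem solved_full [Finite K] (hs : Split g z k U) (hdet : LinearMap.det g = 1)
    (hm : finrank K U = 0) (hk : 3 ≤ k) : Solved g := by
  classical
  have hg : Function.Injective g :=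
    LinearMap.ker_eq_bot.1 (by_contra fun hne => one_ne_zero (hdet.symm.trans
      (LinearMap.det_eq_zero_iff_ker_ne_bot.2 hne)))
  have hn : k = finrank K V := by have := hs.finrank_eq; omega
  have : Subsingleton U := (finrank_zero_iff (R := K)).1 hm
  have hU : ∀ (W : Submodule K V) (u : U), (u : V) ∈ W := fun W u => by
    rw [Subsingleton.elim u 0, Submodule.coe_zero]; exact zero_mem _
  obtain ⟨t, hroot, hdisc, hrep⟩ := exists_quad (one_ne_zero : (1 : K) ≠ 0)
  set d := t - 1 with hd
  set κ := t - 2 with hκ
  have hκ0 : κ ≠ 0 := fun h => hroot 1 (by linear_combination -h)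
  set e := orb g z
  let asum : (Fin (k - 2) → K) → V := fun a => ∑ i, a i • e ((i : ℕ) + 1)
  have hasum : ∀ a, asum a ∈ seg g z (k - 2) := fun a =>
    Submodule.sum_mem _ fun i _ => Submodule.smul_mem _ _ (orb_mem_seg (by omega) (by omega))
  let Par := K × (Fin (k - 2) → K)
  choose Y hYe _hYu using fun p : Par => exists_end hs
    (fun i => if i = 0 then d • z + κ • e (k - 1) + asum p.2
      else if i = k - 1 then e i + p.1 • e (k - 2) + z
      else if i = 1 then e i else e i + e (i - 1)) (0 : U →ₗ[K] V)
  have hYz : ∀ p, Y p z = d • z + κ • e (k - 1) + asum p.2 := fun p => by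
    have := hYe p 0 hs.pos
    rwa [orb_zero, if_pos rfl] at this
  have hY1 : ∀ p, Y p (e 1) = e 1 := fun p => by
    rw [hYe p 1 (by omega), if_neg (by omega), if_neg (by omega), if_pos rfl]
  have hYi : ∀ p i, 1 ≤ i → i + 1 < k - 1 → Y p (e (i + 1)) = e (i + 1) + e i := fun p i h1 h2 => by
    rw [hYe p (i + 1) (by omega), if_neg (by omega), if_neg (by omega), if_neg (by omega), Nat.add_sub_cancel]
  have hYl : ∀ p, Y p (e (k - 1)) = e (k - 1) + p.1 • e (k - 2) + z := fun p => by
    rw [hYe p (k - 1) (by omega), if_neg (by omega), if_pos rfl]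
  set P : K[X] := (X - C 1) ^ (k - 2) with hP
  have hPm : P.Monic := (monic_X_sub_C 1).pow _
  have hPd : P.natDegree + 2 = finrank K V := by
    rw [hP, natDegree_pow, natDegree_X_sub_C]; omega
  set Q : K[X] := X ^ 2 - C t * X + C (1 : K) with hQ
  have hconst : P.coeff 0 * 1 = (-1) ^ finrank K V := by
    rw [hP, coeff_zero_eq_eval_zero]
    simp only [eval_pow, eval_sub, eval_X, eval_C, zero_sub]
    rw [← hn, show k = k - 2 + 2 by omega, pow_add, show k - 2 + 2 - 2 = k - 2 by omega]
    ring
  -- the behaviour of `Y`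
  have hY0 : ∀ p, ∃ z₁, Cyc (Y p) z₁ ∧ aeval (Y p) (P * Q) z₁ = 0 := by
    intro p
    set N := Y p - (1 : K) • (1 : Module.End K V) with hN
    have hNapp : ∀ v, N v = Y p v - v := fun v => by simp [hN]
    have hshift : Shift g z N (k - 1) :=
      ⟨fun _ => by simp [hN, hY1, e], fun i h1 h2 => by
        rw [hNapp, show Y p (orb g z (i + 1)) = e (i + 1) + e i from hYi p i h1 h2, add_sub_cancel_left]⟩
    have hP0 : ∀ x ∈ seg g z (k - 2), aeval (Y p) P x = 0 := fun x hx => by
      rw [hP, aeval_X_sub_C_pow]; exact hshift.pow_eq_zero _ (by omega) x hx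
    set A := asum p.2 with hA
    set x0 := N A with hx0
    have hx0m : x0 ∈ seg g z (k - 2 - 1) := hshift.apply_seg _ (by omega) _ (hasum p.2)
    have hQz : aeval (Y p) Q z = κ • p.1 • e (k - 2) + x0 := by
      simp only [hQ, map_add, map_sub, map_mul, aeval_X, aeval_C, LinearMap.add_apply,
        LinearMap.sub_apply, Module.End.mul_apply, pow_two, Algebra.algebraMap_eq_smul_one,
        LinearMap.smul_apply, Module.End.one_apply]
      rw [hYz p]
      simp only [map_add, map_smul, hYz p, hYl, hx0, hNapp, ← hA, one_smul, hd, hκ]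
      module
    have hQe : aeval (Y p) Q (e (k - 2)) =
        -κ • e (k - 2) + (N (N (e (k - 2))) + -κ • N (e (k - 2))) := by
      simp only [hQ, map_add, map_sub, map_mul, aeval_X, aeval_C, LinearMap.add_apply,
        LinearMap.sub_apply, Module.End.mul_apply, pow_two, Algebra.algebraMap_eq_smul_one,
        LinearMap.smul_apply, Module.End.one_apply, hNapp, map_sub, hκ, one_smul]
      module
    have hNe : N (e (k - 2)) ∈ seg g z (k - 2 - 1) :=
      hshift.apply_seg _ (by omega) _ (orb_mem_seg (by omega) le_rfl)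
    have hxe : N (N (e (k - 2))) + -κ • N (e (k - 2)) ∈ seg g z (k - 2 - 1) :=
      add_mem (seg_mono (by omega) (hshift.apply_seg _ (by omega) _ hNe)) (Submodule.smul_mem _ _ hNe)
    set ε := p.1 - 1 with hε
    obtain ⟨x, hx, hQv⟩ : ∃ x ∈ seg g z (k - 2 - 1),
        aeval (Y p) Q (z + ε • e (k - 2)) = κ • e (k - 2) + x := by
      refine ⟨x0 + ε • (N (N (e (k - 2))) + -κ • N (e (k - 2))),
        add_mem hx0m (Submodule.smul_mem _ _ hxe), ?_⟩
      rw [map_add, map_smul, hQz, hQe, hε]
      module
    refine ⟨z + ε • e (k - 2), cyc_of_invariant fun W hz hW => ?_, ?_⟩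
    · have hseg : seg g z (k - 2) ≤ W := by
        refine hshift.le_of_mem (fun y hy => ?_) (k - 2) (by omega) κ x hκ0 hx ?_
        · rw [hNapp]; exact W.sub_mem (hW y hy) hy
        · rw [← hQv]; exact aeval_mem hW Q _ hz
      have hzW : z ∈ W := by
        have := W.sub_mem hz (W.smul_mem ε (hseg (orb_mem_seg (by omega) le_rfl)))
        rwa [add_sub_cancel_right] at this
      have hlast : e (k - 1) ∈ W := by
        have h1 := W.smul_mem κ⁻¹ (W.sub_mem (W.sub_mem (hW z hzW) (W.smul_mem d hzW)) (hseg (hasum p.2)))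
        rw [hYz] at h1
        rwa [add_assoc, add_sub_cancel_left, add_sub_cancel_right, inv_smul_smul₀ hκ0] at h1
      refine hs.top_le hzW ?_ (hU W)
      rw [show k - 1 = k - 2 + 1 by omega, seg_succ]
      refine sup_le hseg ((Submodule.span_singleton_le_iff_mem _ _).2 ?_)
      rwa [show k - 2 + 1 = k - 1 by omega]
    · rw [aeval_apply_mul, hQv]
      exact hP0 _ (add_mem (Submodule.smul_mem _ _ (orb_mem_seg (by omega) le_rfl))
        (seg_mono (by omega) hx))
  -- the behaviour of `g * Y`
  have hge : ∀ i, g (e i) = e (i + 1) := fun i => (orb_succ g z i).symm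
  have hgz : g z = e 1 := (orb_one g z).symm
  have hM1 : ∀ p, (g * Y p) (e 1) = e 2 := fun p => by rw [Module.End.mul_apply, hY1, hge]
  have hMi : ∀ p i, 1 ≤ i → i + 1 < k - 1 → (g * Y p) (e (i + 1)) = e (i + 2) + e (i + 1) :=
    fun p i h1 h2 => by rw [Module.End.mul_apply, hYi p i h1 h2, map_add, hge, hge]
  have hMl : ∀ p, (g * Y p) (e (k - 1)) = e k + (p.1 • e (k - 1) + e 1) := fun p => by
    rw [Module.End.mul_apply, hYl, map_add, map_add, map_smul, hge, hge, hgz, add_assoc,
      show k - 1 + 1 = k by omega, show k - 2 + 1 = k - 1 by omega]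
  obtain ⟨c, xc, hxc, hc0, hclosed⟩ := hs.exists_closed hg
  change e k = c • z + xc at hclosed
  have hMcyc : ∀ p, Cyc (g * Y p) (e 1) := fun p => cyc_of_invariant fun W h1W hW => by
    have horb : ∀ i, 1 ≤ i → i ≤ k - 1 → e i ∈ W := by
      intro i
      induction i with
      | zero => omega
      | succ i ih =>
        intro _ hi
        rcases i with _ | i
        · exact h1W
        have h := hW _ (ih (by omega) (by omega))
        rcases i with _ | i
        · rwa [hM1] at h
        · rw [hMi p (i + 1) (by omega) (by omega)] at h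
          exact (add_mem_cancel_right (ih (by omega) (by omega))).1 h
    have hk1 : e k ∈ W := by
      have h := hW _ (horb (k - 1) (by omega) le_rfl)
      rw [hMl] at h
      exact (add_mem_cancel_right (add_mem (Submodule.smul_mem _ _ (horb _ (by omega) le_rfl)) h1W)).1 h
    have hseg : seg g z (k - 1) ≤ W := by
      rw [seg, Submodule.span_le]
      rintro _ ⟨i, ⟨h1, h2⟩, rfl⟩
      exact horb i h1 h2
    have hzW : z ∈ W := by
      have h1 := W.smul_mem c⁻¹ (W.sub_mem hk1 (hseg hxc))
      rwa [hclosed, add_sub_cancel_right, inv_smul_smul₀ hc0] at h1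
    exact hs.top_le hzW hseg (hU W)
  -- different parameters give different polynomials
  have hinj : Function.Injective fun p : Par => (g * Y p).charpoly := by
    intro p q hpq
    obtain ⟨a, ha, haz⟩ := exists_intertwine (hMcyc p) (hMcyc q) hpq
    have hafix : ∀ i, 1 ≤ i → i ≤ k - 1 → a (e i) = e i := by
      intro i
      induction i with
      | zero => omega
      | succ i ih =>
        intro _ hi
        rcases i with _ | i
        · have := haz 1
          simpa using this
        have h1 := ha (e (i + 1))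
        rw [ih (by omega) (by omega)] at h1
        rcases i with _ | i
        · rwa [hM1, hM1] at h1
        · rw [hMi p (i + 1) (by omega) (by omega), hMi q (i + 1) (by omega) (by omega), map_add,
            ih (by omega) (by omega), add_left_inj] at h1
          exact h1
    have hafixseg : ∀ x ∈ seg g z (k - 1), a x = x := fun x hx => by
      have : seg g z (k - 1) ≤ LinearMap.eqLocus (a : V →ₗ[K] V) LinearMap.id := by
        rw [seg, Submodule.span_le]
        rintro _ ⟨i, ⟨h1, h2⟩, rfl⟩
        exact hafix i h1 h2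
      exact this hx
    set δs := q.1 - p.1 with hδs
    have hak : a (e k) = e k + δs • e (k - 1) := by
      have h := ha (e (k - 1))
      rw [hafix _ (by omega) le_rfl, hMl, hMl, map_add, map_add, map_smul, hafix _ (by omega) le_rfl,
        hafix 1 le_rfl (by omega)] at h
      rw [hδs, sub_smul, eq_sub_of_add_eq h]
      abel
    set μ := c⁻¹ * δs with hμ
    have haz' : a z = z + μ • e (k - 1) := by
      have h : c • (a z - z) = δs • e (k - 1) := by
        rw [smul_sub, ← map_smul, show c • z = e k - xc by rw [hclosed, add_sub_cancel_right], map_sub,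
          hak, hafixseg xc hxc]
        abel
      rw [hμ, mul_smul, ← h, inv_smul_smul₀ hc0]
      abel
    have hgA : ∀ r : Par, g (asum r.2) ∈ seg g z (k - 1) := fun r => by
      simp only [asum, map_sum, map_smul, hge]
      exact Submodule.sum_mem _ fun i _ => Submodule.smul_mem _ _ (orb_mem_seg (by omega) (by omega))
    have hMz : ∀ r : Par, (g * Y r) z = d • e 1 + κ • e k + g (asum r.2) := fun r => by
      rw [Module.End.mul_apply, hYz, map_add, map_add, map_smul, map_smul, hgz, hge,
        show k - 1 + 1 = k by omega]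
    have h := ha z
    rw [haz', map_add (g * Y q), map_smul (g * Y q), hMl, hMz, hMz, map_add, map_add, map_smul, map_smul,
      hafix 1 le_rfl (by omega), hak, hafixseg _ (hgA p)] at h
    have hμ0 : μ = 0 := by
      by_contra hne
      have hmem : μ • e k ∈ seg g z (k - 1) := by
        have heq : μ • e k = κ • δs • e (k - 1) + g (asum p.2) - g (asum q.2) -
            μ • (q.1 • e (k - 1) + e 1) := by
          linear_combination (norm := module) -h
        rw [heq]
        exact sub_mem (sub_mem (add_mem (Submodule.smul_mem _ _ (Submodule.smul_mem _ _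
          (orb_mem_seg (by omega) le_rfl))) (hgA p)) (hgA q)) (Submodule.smul_mem _ _ (add_mem
          (Submodule.smul_mem _ _ (orb_mem_seg (by omega) le_rfl)) (orb_mem_seg le_rfl (by omega))))
      have hk2 := (Submodule.smul_mem_iff _ hne).1 hmem
      refine hs.notMem_seg ?_
      have h2 := Submodule.smul_mem _ c⁻¹ (Submodule.sub_mem _ hk2 hxc)
      rwa [hclosed, add_sub_cancel_right, inv_smul_smul₀ hc0] at h2
    have hs0 : δs = 0 := (mul_eq_zero.1 (hμ.symm.trans hμ0)).resolve_left (inv_ne_zero hc0)
    refine Prod.ext (sub_eq_zero.1 (hδs.symm.trans hs0)).symm ?_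
    rw [hμ0, hs0] at h
    simp only [zero_smul, smul_zero, add_zero, add_right_inj] at h
    have h2 : ∑ i : Fin (k - 2), (p.2 i - q.2 i) • e ((i : ℕ) + 1) = 0 := by
      simp only [sub_smul, Finset.sum_sub_distrib, sub_eq_zero]
      exact hg h
    have hli : LinearIndependent K fun i : Fin (k - 2) => e ((i : ℕ) + 1) :=
      hs.li.comp (fun i : Fin (k - 2) => (⟨(i : ℕ) + 1, by omega⟩ : Fin k)) fun i j h => by
        simpa [Fin.ext_iff] using h
    funext i
    exact sub_eq_zero.1 (Fintype.linearIndependent_iff.1 hli _ h2 i)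
  -- conclusion
  have hQm : Q.Monic := by rw [hQ]; monicity!
  have hfd : (P * Q).natDegree = finrank K V := by
    rw [hPm.natDegree_mul hQm, show Q.natDegree = 2 by rw [hQ]; compute_degree!, hPd]
  have hdetY : ∀ p, LinearMap.det (Y p) = 1 := fun p => by
    obtain ⟨z₁, hc, h0⟩ := hY0 p
    rw [det_eq, hc.charpoly_eq (hPm.mul hQm) hfd h0, mul_coeff_zero,
      show Q.coeff 0 = 1 by simp [hQ], hconst, ← mul_pow]
    simp
  have hc0' : ∀ p, (g * Y p).charpoly.coeff 0 = (P * Q).coeff 0 := fun p => by
    have h := det_eq (g * Y p)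
    rw [map_mul, hdet, hdetY, one_mul] at h
    rw [mul_coeff_zero, show Q.coeff 0 = 1 by simp [hQ], hconst]
    have h1 : ((-1 : K) ^ finrank K V) * (-1) ^ finrank K V = 1 := by rw [← mul_pow]; simp
    linear_combination (g * Y p).charpoly.coeff 0 * (-h1) + (-(-1 : K) ^ finrank K V) * h
  have hcard : Nat.card Par = Nat.card K ^ (finrank K V - 1) := by
    rw [Nat.card_prod, Nat.card_fun, Nat.card_fin, ← pow_succ',
      show k - 2 + 1 = finrank K V - 1 by omega]
  obtain ⟨p, hp⟩ := exists_param (by omega) hcard hinj (fun p => LinearMap.charpoly_monic _)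
    (fun p => natDegree_charpoly _) hc0' (hPm.mul hQm) hfd rfl
  obtain ⟨z₁, hc, h0⟩ := hY0 p
  refine solved_of_cyclic hdet hc (hMcyc p) hPm ?_ hdisc hPd h0 ?_ hconst hrep
  · have := isCoprime_pow_mul hroot 1 1 (k - 2) 0
    rwa [pow_zero, mul_one] at this
  have h := LinearMap.congr_fun (LinearMap.aeval_self_charpoly (g * Y p)) (e 1)
  rwa [show (g * Y p).charpoly = P * Q from hp, LinearMap.zero_apply] at h

end Cfsg.Agent.SLComm34
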