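import Cfsg.Agent.Lib.SLCommPartner34

/-!
Dimension two, and the field with two elements.
-/

set_option autoImplicit false

namespace Cfsg.Agent.SLComm34

open Polynomial Module

variable {K V : Type*} [Field K] [AddCommGroup V] [Module K V] [FiniteDimensional K V]
  {g : Module.End K V} {z : V} {U : Submodule K V}

/-- The plane with more than three scalars. -/
theorem solved_two [Fintype K] (hK : 4 ≤ Fintype.card K) (hs : Split g z 2 U)
    (hm : finrank K U = 0) (hdet : LinearMap.det g = 1) : Solved g := by
  classical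
  have hg : Function.Injective g :=
    LinearMap.ker_eq_bot.1 (by_contra fun hne => one_ne_zero (hdet.symm.trans
      (LinearMap.det_eq_zero_iff_ker_ne_bot.2 hne)))
  have hn : finrank K V = 2 := by have := hs.finrank_eq; omega
  have : Subsingleton U := (finrank_zero_iff (R := K)).1 hm
  have hseg : seg g z (2 - 1) = K ∙ g z := by simp [seg, orb_one]
  have htop : ∀ W : Submodule K V, z ∈ W → g z ∈ W → W = ⊤ := fun W h1 h2 =>
    hs.top_le h1 (hseg.le.trans ((Submodule.span_singleton_le_iff_mem _ _).2 h2)) fun u => by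
      rw [Subsingleton.elim u 0, Submodule.coe_zero]; exact zero_mem _
  obtain ⟨c, x, hx, -, he⟩ := hs.exists_closed hg
  obtain ⟨b, rfl⟩ := Submodule.mem_span_singleton.1 (hseg ▸ hx)
  rw [orb_succ, orb_one] at he
  have hgcyc : Cyc g z := cyc_of_invariant fun W hz hW => htop W hz (hW z hz)
  have hc : c = -1 := by
    have hf : (X ^ 2 - C b * X + C (-c) : K[X]).natDegree = 2 := by compute_degree!
    have h := det_eq g
    rw [hdet, hgcyc.charpoly_eq (f := X ^ 2 - C b * X + C (-c)) (by monicity!) (hf.trans hn.symm) (by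
      simp [pow_two, he, Algebra.algebraMap_eq_smul_one]), hn] at h
    simp at h
    linear_combination h
  obtain ⟨α, hα⟩ : ∃ α : K, α ∉ ({0, 1, -1} : Finset K) := by
    by_contra h
    push Not at h
    have := Finset.card_le_card (fun x _ => h x : Finset.univ ⊆ ({0, 1, -1} : Finset K))
    have := (Finset.card_le_three (a := (0 : K)) (b := 1) (c := -1))
    rw [Finset.card_univ] at *
    omega
  simp only [Finset.mem_insert, Finset.mem_singleton, not_or] at hα
  obtain ⟨hα0, hα1, hα2⟩ := hα
  set s := α + α⁻¹ with hs'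
  have hαne : α ≠ α⁻¹ := fun h => by
    have h1 : α * α = 1 := by
      calc α * α = α * α⁻¹ := congrArg (α * ·) h
        _ = 1 := mul_inv_cancel₀ hα0
    rcases mul_eq_zero.1 (show (α - 1) * (α + 1) = 0 by linear_combination h1) with h | h
    · exact hα1 (sub_eq_zero.1 h)
    · exact hα2 (eq_neg_of_add_eq_zero_left h)
  obtain ⟨Y, hYe, -⟩ := exists_end hs
    (fun i => if i = 0 then s • z + (-α⁻¹) • g z else α • z) (0 : U →ₗ[K] V)
  have hYz : Y z = s • z + (-α⁻¹) • g z := by simpa [orb_zero] using hYe 0 (by omega)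
  have hYg : Y (g z) = α • z := by simpa [orb_one] using hYe 1 (by omega)
  have hMz : (g * Y) z = α⁻¹ • z + (s - b * α⁻¹) • g z := by
    rw [Module.End.mul_apply, hYz, map_add, map_smul, map_smul, he, hc]
    module
  have hMg : (g * Y) (g z) = α • g z := by rw [Module.End.mul_apply, hYg, map_smul]
  set Q : K[X] := X ^ 2 - C s * X + C (1 : K) with hQ
  have hQY : aeval Y Q z = 0 := by
    simp [hQ, pow_two, hYz, hYg, Algebra.algebraMap_eq_smul_one]
    match_scalars <;> field_simp <;> ring
  have hQMz : aeval (g * Y) Q z = 0 := by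
    simp only [hQ, map_add, map_sub, map_mul, aeval_X, aeval_C, LinearMap.add_apply,
      LinearMap.sub_apply, Module.End.mul_apply (f := g * Y) (g := g * Y), pow_two,
      Algebra.algebraMap_eq_smul_one, LinearMap.smul_apply, Module.End.one_apply,
      Module.End.mul_apply (f := s • (1 : Module.End K V)) (g := g * Y)]
    rw [hMz, map_add, map_smul, map_smul, hMz, hMg, hs']
    match_scalars <;> field_simp <;> ring
  have hQMg : aeval (g * Y) Q (g z) = 0 := by
    rw [Module.End.aeval_apply_of_hasEigenvector (μ := α) ⟨Module.End.mem_eigenspace_iff.2 hMg, by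
      simpa [orb_one] using hs.li.ne_zero (1 : Fin 2)⟩]
    simp [hQ, hs']
    left
    field_simp
    ring
  have hYcyc : Cyc Y z := cyc_of_invariant fun W hz hW => htop W hz (by
    have h := W.smul_mem (-α⁻¹)⁻¹ (W.sub_mem (hW z hz) (W.smul_mem s hz))
    rw [hYz, add_sub_cancel_left, inv_smul_smul₀ (neg_ne_zero.2 (inv_ne_zero hα0))] at h
    exact h)
  have hd : (1 : K[X]).natDegree + 2 = finrank K V := by rw [natDegree_one, hn]
  have hconst : (1 : K[X]).coeff 0 * 1 = (-1) ^ finrank K V := by simp [hn]
  have hdisc : s ^ 2 - 4 * 1 ≠ 0 := by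
    intro h
    refine hαne (sub_eq_zero.1 ((pow_eq_zero_iff two_ne_zero).1 ?_ : α - α⁻¹ = 0))
    rw [← h, hs']
    field_simp
    ring
  have hrep : ∀ k : K, k ≠ 0 → ∃ x y : K, x ^ 2 + s * x * y + 1 * y ^ 2 = k := fun k hk => by
    obtain ⟨x, y, h⟩ := PSL2Elements.exists_rep 1 s 1 k (fun h => hdisc (by linear_combination h)) hk
    exact ⟨x, y, by linear_combination h⟩
  obtain ⟨w, hw, hw0⟩ : ∃ w, Cyc (g * Y) w ∧ aeval (g * Y) Q w = 0 := by
    by_cases hb : s - b * α⁻¹ = 0
    · refine ⟨z + g z, cyc_of_invariant fun W hz hW => ?_, by rw [map_add, hQMz, hQMg, add_zero]⟩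
      have h1 := hW _ hz
      rw [map_add, hMz, hMg, hb, zero_smul, add_zero] at h1
      have h2 := W.sub_mem h1 (W.smul_mem α⁻¹ hz)
      rw [smul_add, add_sub_add_left_eq_sub, ← sub_smul] at h2
      have hgz := (Submodule.smul_mem_iff _ (sub_ne_zero.2 hαne)).1 h2
      exact htop W ((add_mem_cancel_right hgz).1 hz) hgz
    · refine ⟨z, cyc_of_invariant fun W hz hW => htop W hz ?_, hQMz⟩
      have h := W.sub_mem (hW z hz) (W.smul_mem α⁻¹ hz)
      rw [hMz, add_sub_cancel_left] at h
      exact (Submodule.smul_mem_iff _ hb).1 h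
  exact solved_of_cyclic hdet hYcyc hw monic_one isCoprime_one_left hdisc hd (by rwa [one_mul])
    (by rwa [one_mul]) hconst hrep

theorem eq_one_of_card_two [Fintype K] (hK : Fintype.card K = 2) {x : K} (hx : x ≠ 0) : x = 1 := by
  classical
  by_contra h
  have h3 : ({0, 1, x} : Finset K).card ≤ 2 := hK ▸ Finset.card_le_univ _
  rw [Finset.card_eq_three.2 ⟨0, 1, x, zero_ne_one, Ne.symm hx, Ne.symm h, rfl⟩] at h3
  omega

theorem det_eq_one_of_injective [Fintype K] (hK : Fintype.card K = 2) {a : Module.End K V}
    (ha : Function.Injective a) : LinearMap.det a = 1 :=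
  eq_one_of_card_two hK fun h =>
    LinearMap.det_eq_zero_iff_ker_ne_bot.1 h (LinearMap.ker_eq_bot.2 ha)

/-- An element of order three without fixed vectors. -/
theorem solved_order_three [Fintype K] (hK : Fintype.card K = 2) (h : g * g + g + 1 = 0) :
    Solved g := by
  classical
  have h2 : (2 : K) = 0 := by
    by_contra hne
    have := eq_one_of_card_two hK hne
    exact one_ne_zero (show (1 : K) = 0 by linear_combination this)
  set f : K[X] := X ^ 2 + X + 1 with hf
  have hfd : f.natDegree = 2 := by rw [hf]; compute_degree!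
  have hirr : Irreducible f := by
    refine irreducible_of_degree_le_three_of_not_isRoot (by simp [hfd]) fun x hx => ?_
    rw [IsRoot, hf] at hx
    simp at hx
    by_cases hx0 : x = 0
    · simp [hx0] at hx
    · rw [eq_one_of_card_two hK hx0] at hx
      exact one_ne_zero (show (1 : K) = 0 by linear_combination hx - h2)
  have : Fact (Irreducible f) := ⟨hirr⟩
  let φ : AdjoinRoot f →+* Module.End K V :=
    (Ideal.Quotient.lift (Ideal.span {f}) (aeval g).toRingHom fun p hp => by
      obtain ⟨r, rfl⟩ := Ideal.mem_span_singleton'.1 hp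
      change aeval g (r * f) = 0
      rw [map_mul, show aeval g f = 0 by simpa [hf, pow_two] using h, mul_zero])
  have hφ : ∀ p : K[X], φ (AdjoinRoot.mk f p) = aeval g p := fun p => rfl
  letI : Module (AdjoinRoot f) V := Module.compHom V φ
  have hsm : ∀ (r : AdjoinRoot f) (v : V), r • v = φ r v := fun _ _ => rfl
  let b := Basis.ofVectorSpace (AdjoinRoot f) V
  have h2' : (2 : AdjoinRoot f) = 0 := by
    rw [← map_ofNat (algebraMap K (AdjoinRoot f)) 2, h2, map_zero]
  have hadd : ∀ x y : AdjoinRoot f, (x + y) ^ 2 = x ^ 2 + y ^ 2 := fun x y => by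
    linear_combination (x * y) * h2'
  let σ : AdjoinRoot f →+ AdjoinRoot f := AddMonoidHom.mk' (fun x => x ^ 2) hadd
  have hσinj : Function.Injective σ := (injective_iff_map_eq_zero σ).2 fun x hx =>
    (pow_eq_zero_iff two_ne_zero).1 hx
  let s0 : V →+ V :=
    b.repr.symm.toAddMonoidHom.comp ((Finsupp.mapRange.addMonoidHom σ).comp b.repr.toAddMonoidHom)
  let s : Module.End K V :=
    { toFun := s0
      map_add' := map_add s0
      map_smul' := fun c v => by
        by_cases hc : c = 0
        · simp [hc]
        · simp [eq_one_of_card_two hK hc] }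
  have hsemi : ∀ (r : AdjoinRoot f) (v : V), s (r • v) = r ^ 2 • s v := fun r v => by
    apply b.repr.injective
    ext i
    simp [s, s0, σ, mul_pow]
  have hsinj : Function.Injective s := by
    have hm : Function.Injective (Finsupp.mapRange σ (map_zero σ) :
        (Basis.ofVectorSpaceIndex (AdjoinRoot f) V →₀ AdjoinRoot f) → _) :=
      Finsupp.mapRange_injective _ _ hσinj
    exact b.repr.symm.injective.comp (hm.comp b.repr.injective)
  have hroot : ∀ v, g v = AdjoinRoot.root f • v := fun v => by
    rw [hsm, show AdjoinRoot.root f = AdjoinRoot.mk f X from rfl, hφ, aeval_X]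
  have hginj : Function.Injective g := (injective_iff_map_eq_zero g).2 fun v hv => by
    have := LinearMap.congr_fun h v
    simpa [hv] using this
  refine ⟨s, g, det_eq_one_of_injective hK hsinj, det_eq_one_of_injective hK hginj, ?_⟩
  ext v
  simp only [Module.End.mul_apply]
  rw [hroot v, hsemi, pow_two, mul_smul, ← hroot, ← hroot]

/-- A root-free companion on a space over the field with two elements. -/
theorem exists_fixed_point_free [Fintype K] (hK : Fintype.card K = 2) {W : Type*} [AddCommGroup W]
    [Module K W] [FiniteDimensional K W] (hW : 2 ≤ finrank K W) :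
    ∃ T T' : Module.End K W, Function.Injective T ∧ (T - 1) * T' = 1 := by
  classical
  set r := finrank K W
  set p : K[X] := X ^ r + (X + 1) with hp
  have hpd : p.natDegree = r := by
    rw [hp, natDegree_add_eq_left_of_natDegree_lt] <;> rw [natDegree_X_pow]
    rw [show (X + 1 : K[X]).natDegree = 1 by compute_degree!]
    omega
  have hpm : p.Monic := monic_X_pow_add (by
    refine lt_of_le_of_lt degree_le_natDegree (Nat.cast_lt.2 ?_)
    rw [show (X + 1 : K[X]).natDegree = 1 by compute_degree!]
    omega)
  have hev : ∀ x : K, p.eval x ≠ 0 := by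
    intro x hx
    simp [hp] at hx
    by_cases hx0 : x = 0
    · simp [hx0, show r ≠ 0 by omega] at hx
    · rw [eq_one_of_card_two hK hx0, one_pow] at hx
      have h2 : (2 : K) = 0 := by
        by_contra hne
        exact one_ne_zero (show (1 : K) = 0 by linear_combination eq_one_of_card_two hK hne)
      exact one_ne_zero (show (1 : K) = 0 by linear_combination hx - h2)
  have hunit : ∀ x : K, IsUnit (AdjoinRoot.mk p (X - C x)) := fun x => by
    obtain ⟨u, v, huv⟩ := (irreducible_X_sub_C x).coprime_iff_not_dvd.2 fun hd =>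
      hev x (dvd_iff_isRoot.1 hd : p.IsRoot x)
    refine IsUnit.of_mul_eq_one (AdjoinRoot.mk p u) ?_
    rw [← map_mul, mul_comm, ← map_one (AdjoinRoot.mk p), ← huv]
    simp
  have : Module.Finite K (AdjoinRoot p) := hpm.finite_adjoinRoot
  have hdim : finrank K (AdjoinRoot p) = finrank K W := by
    rw [(AdjoinRoot.powerBasis hpm.ne_zero).finrank, AdjoinRoot.powerBasis_dim, hpd]
  let e := LinearEquiv.ofFinrankEq (AdjoinRoot p) W hdim
  let ψ := e.conjAlgEquiv K
  obtain ⟨u0, hu0⟩ := hunit 0
  obtain ⟨u1, hu1⟩ := hunit 1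
  refine ⟨ψ (Algebra.lmul K _ (AdjoinRoot.root p)), ψ (Algebra.lmul K _ (↑u1⁻¹ : AdjoinRoot p)), ?_, ?_⟩
  · have hr : IsUnit (ψ (Algebra.lmul K _ (AdjoinRoot.root p))) := by
      have hr := ((hunit 0).map (Algebra.lmul K (AdjoinRoot p))).map ψ
      rwa [C_0, sub_zero, AdjoinRoot.mk_X] at hr
    exact ((Module.End.isUnit_iff _).1 hr).1
  · rw [← map_one ψ, ← map_sub, ← map_mul]
    congr 1
    rw [← map_one (Algebra.lmul K (AdjoinRoot p)), ← map_sub, ← map_mul]
    congr 1
    rw [show AdjoinRoot.root p - 1 = (u1 : AdjoinRoot p) by simp [hu1], Units.mul_inv]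

/-- A unipotent element of class two. -/
theorem solved_square_zero [Fintype K] (hK : Fintype.card K = 2) (hn : 3 ≤ finrank K V)
    {N : Module.End K V} (hN : N * N = 0) : Solved (1 + N) := by
  classical
  have hinj : ∀ A : Module.End K V, A * A = 0 → Function.Injective (1 + A : Module.End K V) := by
    intro A hA
    refine (injective_iff_map_eq_zero _).2 fun v hv => ?_
    rw [LinearMap.add_apply, Module.End.one_apply] at hv
    have h1 := congrArg A hv
    rw [map_add, map_zero, ← Module.End.mul_apply, hA, LinearMap.zero_apply, add_zero] at h1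
    rwa [h1, add_zero] at hv
  have hNN : ∀ v, N (N v) = 0 := fun v => LinearMap.congr_fun hN v
  rcases Nat.lt_or_ge (finrank K (LinearMap.range N)) 2 with hr | hr
  · by_cases hN0 : N = 0
    · refine ⟨1, 1, LinearMap.det.map_one, LinearMap.det.map_one, ?_⟩
      simp [hN0]
    obtain ⟨v0, hv0⟩ : ∃ v, N v ≠ 0 := by
      by_contra h
      push Not at h
      exact hN0 (LinearMap.ext h)
    set e := N v0 with he
    have hrange : ∀ v, ∃ c : K, c • e = N v := fun v => by
      refine Submodule.mem_span_singleton.1 ?_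
      rw [show K ∙ e = LinearMap.range N from Submodule.eq_of_le_of_finrank_le
        ((Submodule.span_singleton_le_iff_mem _ _).2 ⟨v0, rfl⟩) (by rw [finrank_span_singleton hv0]; omega)]
      exact ⟨v, rfl⟩
    have hker : 2 ≤ finrank K (LinearMap.ker N) := by
      have := LinearMap.finrank_range_add_finrank_ker N
      omega
    obtain ⟨w, hw, hwe⟩ : ∃ w ∈ LinearMap.ker N, w ∉ K ∙ e := by
      by_contra h
      push Not at h
      have := Submodule.finrank_mono (show LinearMap.ker N ≤ K ∙ e from h)
      rw [finrank_span_singleton hv0] at this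
      omega
    obtain ⟨f, hf1, hf2⟩ := Submodule.exists_dual_map_eq_bot_of_notMem hwe inferInstance
    set φ' : V →ₗ[K] K := (f w)⁻¹ • f with hφ'
    have hφw : φ' w = 1 := by simp [hφ', inv_mul_cancel₀ hf1]
    have hφe : φ' e = 0 := by
      have : f e ∈ (K ∙ e).map f := ⟨e, Submodule.mem_span_singleton_self e, rfl⟩
      rw [hf2, Submodule.mem_bot] at this
      simp [hφ', this]
    obtain ⟨fe, hfe⟩ : ∃ fe : V →ₗ[K] K, fe e = 1 := by
      obtain ⟨f0, hf0⟩ : ∃ f0 : Module.Dual K V, f0 e ≠ 0 := by
        by_contra h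
        push Not at h
        exact hv0 ((Module.forall_dual_apply_eq_zero_iff K _).1 h)
      exact ⟨(f0 e)⁻¹ • f0, by simp [inv_mul_cancel₀ hf0]⟩
    set φ : V →ₗ[K] K := fe.comp N with hφ
    have hNφ : ∀ v, N v = φ v • e := fun v => by
      obtain ⟨c, hc⟩ := hrange v
      simp [hφ, ← hc, hfe]
    have hew : φ w = 0 := by simp [hφ, LinearMap.mem_ker.1 hw]
    have hee : φ e = 0 := by simp [hφ, he, hNN]
    set A : Module.End K V := φ'.smulRight e with hA
    set B : Module.End K V := φ.smulRight w with hB
    have hAA : A * A = 0 := by ext v; simp [hA, hφe]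
    have hBB : B * B = 0 := by ext v; simp [hB, hew]
    refine ⟨1 + A, 1 + B, det_eq_one_of_injective hK (hinj A hAA),
      det_eq_one_of_injective hK (hinj B hBB), ?_⟩
    ext v
    simp [hA, hB, hNφ, hee, hew, hφw]
    module
  · set I := LinearMap.range N
    obtain ⟨T, T', hT, hTT⟩ := exists_fixed_point_free hK hr
    obtain ⟨C, hC⟩ := Submodule.exists_isCompl I
    set π := I.projectionOnto C hC
    set x : Module.End K V := 1 + I.subtype.comp ((T - 1).comp π) with hx
    set M : Module.End K V := I.subtype.comp (T'.comp N.rangeRestrict) with hM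
    have hNI : ∀ i : I, N i = 0 := by
      rintro ⟨_, v, rfl⟩
      exact hNN v
    have hrI : ∀ i : I, N.rangeRestrict i = 0 := fun i => Subtype.ext (hNI i)
    have hMI : ∀ i : I, M i = 0 := fun i => by simp [hM, hrI]
    have hxI : ∀ i : I, x i = (T i : V) := fun i => by
      simp [hx, π, Submodule.projectionOnto_apply_left]
    have hxinj : Function.Injective x := by
      refine (injective_iff_map_eq_zero _).2 fun v hv => ?_
      have hvI : v ∈ I := by
        rw [hx, LinearMap.add_apply, Module.End.one_apply] at hv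
        rw [eq_neg_of_add_eq_zero_left hv]
        exact neg_mem ((T - 1) (π v)).2
      have := hxI ⟨v, hvI⟩
      rw [hv] at this
      have hT0 : T ⟨v, hvI⟩ = 0 := Subtype.ext this.symm
      have h0 := hT (a₁ := ⟨v, hvI⟩) (a₂ := 0) (hT0.trans (map_zero _).symm)
      exact congrArg Subtype.val h0
    have hMM : M * M = 0 := by
      ext v
      exact hMI ⟨M v, Subtype.coe_prop _⟩
    refine ⟨x, 1 + M, det_eq_one_of_injective hK hxinj, det_eq_one_of_injective hK (hinj M hMM), ?_⟩
    ext v
    have hxv : ∀ u, ∃ i : I, x u = u + i := fun u => ⟨(T - 1) (π u), by simp [hx]⟩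
    obtain ⟨i, hi⟩ := hxv v
    set j : I := T' (N.rangeRestrict v) with hj
    have hMv : M v = j := rfl
    have hNj : (T - 1) j = N.rangeRestrict v := by
      rw [hj, ← Module.End.mul_apply, hTT, Module.End.one_apply]
    have hTj : (T j : V) = N v + j := by
      have := congrArg Subtype.val hNj
      rw [LinearMap.sub_apply, Module.End.one_apply, Submodule.coe_sub] at this
      exact sub_eq_iff_eq_add.1 this
    simp only [Module.End.mul_apply, LinearMap.add_apply, Module.End.one_apply]
    rw [map_add x, hMv, hxI, hTj, hi]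
    simp [hMI, hNI, hMv]
    abel

end Cfsg.Agent.SLComm34
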