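import Cfsg.Agent.Lib.SLCommFull34
import Cfsg.Agent.Lib.SLCommSmall34

/-!
Every element of determinant one is a commutator.
-/

set_option autoImplicit false

namespace Cfsg.Agent.SLComm34

open Polynomial Module

variable {K V : Type*} [Field K] [AddCommGroup V] [Module K V] [FiniteDimensional K V]

section Scalar

open Matrix

theorem solved_of_matrix {ι : Type*} [Fintype ι] [DecidableEq ι] (b₀ : Basis ι K V) {a b : Matrix ι ι K}
    {lam : K} (ha : a.det = 1) (hb : b.det = 1) (h : a * b = lam • (b * a)) :
    Solved (lam • (1 : Module.End K V)) := by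
  refine ⟨Matrix.toLinAlgEquiv b₀ a, Matrix.toLinAlgEquiv b₀ b, ?_, ?_, ?_⟩
  · exact (LinearMap.det_toLin b₀ a).trans ha
  · exact (LinearMap.det_toLin b₀ b).trans hb
  · rw [smul_mul_assoc, one_mul, smul_mul_assoc, ← map_mul, ← map_mul, h, map_smul]

theorem solved_scalar_block {m : Type*} [Fintype m] [DecidableEq m] {r : ℕ}
    (hd : finrank K V = Fintype.card m * (r + 1)) {lam : K} {R A : Matrix m m K}
    (hAR : A * R = lam ^ (r + 1) • (R * A))
    (hR : (((-1 : ℤˣ) ^ r) ^ Fintype.card m : ℤˣ) * R.det = 1)
    (hA : ∏ i : Fin (r + 1), (lam ^ (r - (i : ℕ)) • A).det = 1) :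
    Solved (lam • (1 : Module.End K V)) := by
  classical
  let b₀ : Basis (m × Fin (r + 1)) K V :=
    (Module.finBasisOfFinrankEq K V hd).reindex (Fintype.equivOfCardEq (by simp))
  set σ := finRotate (r + 1) with hσ
  let π : Equiv.Perm (m × Fin (r + 1)) := Equiv.prodCongrRight fun _ => σ
  let B : Fin (r + 1) → Matrix m m K := fun i => if i = 0 then R else 1
  let A' : Fin (r + 1) → Matrix m m K := fun i => lam ^ (r - (i : ℕ)) • A
  let a : Matrix (m × Fin (r + 1)) (m × Fin (r + 1)) K := blockDiagonal A'
  let b : Matrix (m × Fin (r + 1)) (m × Fin (r + 1)) K := (blockDiagonal B).submatrix π id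
  have hsub : a = (blockDiagonal fun i => A' (σ.symm i)).submatrix π π := by
    ext ⟨x, i⟩ ⟨y, j⟩
    simp [a, π, blockDiagonal_apply]
  have hkey : ∀ i, A' (σ.symm i) * B i = lam • (B i * A' i) := by
    intro i
    obtain ⟨j, rfl⟩ := σ.surjective i
    rw [Equiv.symm_apply_apply]
    have hj : σ j = j + 1 := by rw [hσ, finRotate_succ_apply]
    rcases eq_or_ne j (Fin.last r) with rfl | hne
    · have h0 : σ (Fin.last r) = 0 := by rw [hj, Fin.last_add_one]
      simp only [h0, A', B, if_true, Fin.val_last, Nat.sub_self, pow_zero, one_smul, Fin.val_zero,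
        Nat.sub_zero, Matrix.mul_smul, smul_smul]
      rw [← pow_succ']
      exact hAR
    · have hlt : (j : ℕ) < r := Fin.val_lt_last hne
      have hv : ((j + 1 : Fin (r + 1)) : ℕ) = (j : ℕ) + 1 := Fin.val_add_one_of_lt (Fin.lt_last_iff_ne_last.2 hne)
      have h0 : j + 1 ≠ 0 := fun h => by rw [h] at hv; simp at hv
      simp only [hj, A', B, if_neg h0, hv, one_mul, mul_one, smul_smul]
      rw [← pow_succ', show r - ((j : ℕ) + 1) + 1 = r - (j : ℕ) by omega]
  refine solved_of_matrix b₀ (a := a) (b := b) ?_ ?_ ?_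
  · rw [det_blockDiagonal]; exact hA
  · rw [det_permute, det_blockDiagonal]
    rw [Finset.prod_eq_single (0 : Fin (r + 1)) (fun i _ hi => by simp [B, hi]) (fun h => absurd (Finset.mem_univ _) h)]
    simp only [B, if_true]
    rw [Equiv.Perm.sign_prodCongrRight, Finset.prod_const, Finset.card_univ, hσ, sign_finRotate]
    exact hR
  · have hab : a * b = (blockDiagonal fun i => A' (σ.symm i) * B i).submatrix π id := by
      rw [hsub, blockDiagonal_mul]
      exact submatrix_mul_equiv _ _ _ _ _
    have hba : b * a = (blockDiagonal fun i => B i * A' i).submatrix π id := by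
      rw [blockDiagonal_mul]
      exact submatrix_mul_equiv (blockDiagonal B) (blockDiagonal A') π (Equiv.refl _) id
    rw [hab, hba, show (fun i => A' (σ.symm i) * B i) = lam • fun i => B i * A' i from funext hkey,
      blockDiagonal_smul, submatrix_smul]
    rfl

theorem solved_scalar [Finite K] (hn : 1 ≤ finrank K V) {lam : K} (hlam : lam ^ finrank K V = 1) :
    Solved (lam • (1 : Module.End K V)) := by
  classical
  obtain ⟨r, hr | hr⟩ := Nat.even_or_odd' (finrank K V)
  · obtain ⟨s, rfl⟩ : ∃ s, r = s + 1 := ⟨r - 1, by omega⟩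
    have hε : (lam ^ (s + 1) - 1) * (lam ^ (s + 1) + 1) = 0 := by
      rw [← sub_eq_zero_of_eq hlam, hr]; ring
    have hpow : lam ^ (2 * ∑ i : Fin (s + 1), (s - (i : ℕ))) = (lam ^ (s + 1)) ^ s := by
      rw [← pow_mul]
      congr 1
      rw [Fin.sum_univ_eq_sum_range (fun i => s - i) (s + 1)]
      have h1 := Finset.sum_range_reflect (fun i => i) (s + 1)
      simp only [Nat.add_sub_cancel] at h1
      rw [h1, mul_comm 2, Finset.sum_range_id_mul_two, Nat.add_sub_cancel]
    have hprod : ∀ A : Matrix (Fin 2) (Fin 2) K,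
        ∏ i : Fin (s + 1), (lam ^ (s - (i : ℕ)) • A).det = (lam ^ (s + 1)) ^ s * A.det ^ (s + 1) := by
      intro A
      simp only [det_smul, Fintype.card_fin, ← pow_mul, Finset.prod_mul_distrib, Finset.prod_const,
        Finset.card_univ, Finset.prod_pow_eq_pow_sum, ← Finset.sum_mul]
      rw [mul_comm _ 2, hpow, pow_mul]
    have hsign : ∀ R : Matrix (Fin 2) (Fin 2) K, R.det = 1 →
        ((((-1 : ℤˣ) ^ s) ^ Fintype.card (Fin 2) : ℤˣ) : K) * R.det = 1 := fun R hR => by
      rw [hR, Fintype.card_fin, Int.units_sq]; simp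
    rcases mul_eq_zero.1 hε with h | h
    · refine solved_scalar_block (m := Fin 2) (r := s) (by rw [hr, Fintype.card_fin]) (R := 1) (A := 1) ?_
        (hsign 1 det_one) ?_
      · simp [sub_eq_zero.1 h]
      · rw [hprod, det_one, sub_eq_zero.1 h, one_pow, one_pow, one_mul]
    · obtain ⟨x, y, hxy⟩ : ∃ x y : K, x ^ 2 + y ^ 2 = lam := by
        have := Fintype.ofFinite K
        have hne : lam ≠ 0 := fun h0 => by rw [h0, zero_pow (by omega)] at hlam; exact zero_ne_one hlam
        by_cases h4 : (4 : K) = 0
        · have h2 : (2 : K) = 0 := (pow_eq_zero_iff two_ne_zero).1 (by linear_combination h4)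
          have := CharTwo.of_one_ne_zero_of_two_eq_zero (one_ne_zero : (1 : K) ≠ 0) h2
          obtain ⟨x, hx⟩ := FiniteField.isSquare_of_char_two (ringChar.eq K 2) lam
          exact ⟨x, 0, by rw [hx]; ring⟩
        · obtain ⟨x, y, h⟩ := PSL2Elements.exists_rep 1 (0 : K) 1 lam
            (fun h => h4 (by linear_combination -h)) hne
          exact ⟨x, y, by linear_combination h⟩
      have he : lam ^ (s + 1) = -1 := eq_neg_of_add_eq_zero_left h
      refine solved_scalar_block (m := Fin 2) (r := s) (by rw [hr, Fintype.card_fin])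
        (R := !![0, -1; 1, 0]) (A := !![x, y; y, -x]) ?_ (hsign _ (by simp [det_fin_two_of])) ?_
      · rw [he]
        ext i j
        fin_cases i <;> fin_cases j <;> simp
      · rw [hprod, det_fin_two_of, show x * -x - y * y = -1 * lam by rw [← hxy]; ring, mul_pow, he]
        rw [← pow_succ, mul_comm, ← pow_add, Even.neg_one_pow ⟨s + 1, by ring⟩]
  · refine solved_scalar_block (m := Fin 1) (r := 2 * r) (by rw [hr, Fintype.card_fin, one_mul])
      (R := 1) (A := 1) ?_ ?_ ?_
    · simp [← hr, hlam]
    · simp [pow_mul]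
    · simp only [det_smul, det_one, mul_one, Fintype.card_fin, pow_one, Finset.prod_pow_eq_pow_sum]
      rw [Fin.sum_univ_eq_sum_range (fun i => 2 * r - i) (2 * r + 1)]
      have h1 := Finset.sum_range_reflect (fun i => i) (2 * r + 1)
      simp only [Nat.add_sub_cancel] at h1
      have h2 : ∑ i ∈ Finset.range (2 * r + 1), i = (2 * r + 1) * r := by
        refine Nat.eq_of_mul_eq_mul_right two_pos ?_
        rw [Finset.sum_range_id_mul_two, Nat.add_sub_cancel]; ring
      rw [h1, h2, ← hr, pow_mul, hlam, one_pow]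

end Scalar

variable {g : Module.End K V}

theorem exists_scalar_or_moved [Nontrivial V] (g : Module.End K V) :
    (∃ lam : K, g = lam • 1) ∨ ∃ z : V, g z ∉ K ∙ z := by
  by_cases h : ∃ z : V, g z ∉ K ∙ z
  · exact Or.inr h
  push Not at h
  refine Or.inl ?_
  have hc : ∀ v, ∃ c : K, c • v = g v := fun v => Submodule.mem_span_singleton.1 (h v)
  choose c hc using hc
  obtain ⟨v, hv⟩ := exists_ne (0 : V)
  refine ⟨c v, LinearMap.ext fun w => ?_⟩
  rw [LinearMap.smul_apply, Module.End.one_apply]
  by_cases hw : w ∈ K ∙ v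
  · obtain ⟨a, rfl⟩ := Submodule.mem_span_singleton.1 hw
    rw [map_smul, ← hc v, smul_comm]
  · have hli : LinearIndependent K ![v, w] := (LinearIndependent.pair_iff' hv).2 fun a ha =>
      hw (Submodule.mem_span_singleton.2 ⟨a, ha⟩)
    have h0 := LinearIndependent.pair_iff.1 hli (c (v + w) - c v) (c (v + w) - c w) (by
      have h1 := hc (v + w)
      rw [map_add, ← hc v, ← hc w, smul_add] at h1
      rw [sub_smul, sub_smul, sub_add_sub_comm, h1, sub_self])
    rw [← hc w, ← sub_eq_zero.1 h0.2, sub_eq_zero.1 h0.1]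

/-- The theorem for linear maps. -/
theorem solved [Fintype K] (hn : 2 ≤ finrank K V) (hex : finrank K V = 2 → 4 ≤ Fintype.card K)
    (hdet : LinearMap.det g = 1) : Solved g := by
  classical
  have : Nontrivial V := Module.nontrivial_of_finrank_pos (R := K) (by omega)
  have hg : Function.Injective g :=
    LinearMap.ker_eq_bot.1 (by_contra fun hne => one_ne_zero (hdet.symm.trans
      (LinearMap.det_eq_zero_iff_ker_ne_bot.2 hne)))
  rcases exists_scalar_or_moved g with ⟨lam, rfl⟩ | ⟨z₀, hz₀⟩
  · refine solved_scalar (by omega) ?_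
    rwa [LinearMap.det_smul, map_one, mul_one] at hdet
  have hk2 : ∀ (z : V) k U, Split g z k U → g z ∉ K ∙ z → 2 ≤ k := fun z k U hs hz => by
    by_contra hlt
    have hk : k = 1 := by have := hs.pos; omega
    subst hk
    refine hz ?_
    have h := hs.closed
    rw [orb_one] at h
    simpa [Set.range_unique, orb_zero] using h
  by_cases hA : ∃ z : V, g (g z) ∉ Submodule.span K {z, g z}
  · obtain ⟨z, hz⟩ := hA
    obtain ⟨k, U, hs⟩ := exists_split g (z := z) (fun h => hz (by simp [h]))
    have hzz : g z ∉ K ∙ z := fun h => hz (by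
      obtain ⟨c, hc⟩ := Submodule.mem_span_singleton.1 h
      rw [← hc, map_smul]
      exact Submodule.smul_mem _ _ (Submodule.subset_span (by simp [hc])))
    have hk : 3 ≤ k := by
      by_contra hlt
      have hk : k = 2 := by have := hk2 z k U hs hzz; omega
      subst hk
      refine hz ?_
      have h := hs.closed
      rw [orb_succ, orb_one] at h
      refine Submodule.span_mono ?_ h
      rintro _ ⟨i, rfl⟩
      fin_cases i <;> simp [orb_zero, orb_one]
    by_cases hm : finrank K U = 0
    · exact solved_full hs hdet hm hk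
    · exact solved_split hs hdet (by omega) one_ne_zero (Or.inl ⟨rfl, hk⟩)
  push Not at hA
  obtain ⟨k, U, hs⟩ := exists_split g (z := z₀) (fun h => hz₀ (by simp [h]))
  have hk : k = 2 := by
    refine le_antisymm ?_ (hk2 z₀ k U hs hz₀)
    by_contra hlt
    have hli := hs.li.notMem_span_image (s := {i : Fin k | (i : ℕ) < 2}) (x := ⟨2, by omega⟩) (by simp)
    refine hli ?_
    change orb g z₀ 2 ∈ _
    rw [orb_succ, orb_one]
    refine Submodule.span_mono ?_ (hA z₀)
    rintro x (rfl | rfl)
    · exact ⟨⟨0, by omega⟩, by simp, by simp [orb_zero]⟩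
    · exact ⟨⟨1, by omega⟩, by simp, by simp [orb_one]⟩
  subst hk
  have hfr := hs.finrank_eq
  by_cases hm : finrank K U = 0
  · exact solved_two (hex (by omega)) hs hm hdet
  by_cases hK : 3 ≤ Fintype.card K
  · obtain ⟨τ, hτ0, hτ1⟩ : ∃ τ : K, τ ≠ 0 ∧ τ ≠ 1 := by
      by_contra h
      push Not at h
      have := Finset.card_le_card (fun x _ => by
        by_cases hx : x = 0
        · simp [hx]
        · simp [h x hx] : Finset.univ ⊆ ({0, 1} : Finset K))
      have := Finset.card_le_two (a := (0 : K)) (b := 1)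
      rw [Finset.card_univ] at *
      omega
    exact solved_split hs hdet (by omega) hτ0 (Or.inr ⟨hτ1, rfl⟩)
  have hK2 : Fintype.card K = 2 := by
    have := Fintype.one_lt_card (α := K)
    omega
  have h2 : (2 : K) = 0 := by
    by_contra hne
    exact one_ne_zero (show (1 : K) = 0 by linear_combination eq_one_of_card_two hK2 hne)
  set W1 := LinearMap.ker (g * g - 1)
  set W2 := LinearMap.ker (g * g + g + 1)
  have hcover : ∀ v, v ∈ W1 ∨ v ∈ W2 := by
    intro v
    obtain ⟨a, b, hab⟩ := Submodule.mem_span_pair.1 (hA v)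
    by_cases hb : b = 0
    · left
      rw [hb, zero_smul, add_zero] at hab
      by_cases ha : a = 0
      · have : v = 0 := hg (hg (by simp [← hab, ha]))
        simp [W1, this]
      · rw [eq_one_of_card_two hK2 ha, one_smul] at hab
        simp [W1, ← hab]
    · rw [eq_one_of_card_two hK2 hb, one_smul] at hab
      by_cases ha : a = 0
      · left
        rw [ha, zero_smul, zero_add] at hab
        have h1 := hg hab
        simp [W1, ← h1]
      · right
        rw [eq_one_of_card_two hK2 ha, one_smul] at hab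
        simp only [W2, LinearMap.mem_ker, LinearMap.add_apply, Module.End.mul_apply, Module.End.one_apply,
          ← hab]
        linear_combination (norm := module) h2 • (v + g v)
  by_cases h1 : W1 = ⊤
  · have hN : (g - 1) * (g - 1) = 0 := by
      ext v
      have := h1.ge (Submodule.mem_top (x := v))
      simp [W1, sub_eq_zero] at this
      simp [this]
      linear_combination (norm := module) h2 • (v - g v)
    have := solved_square_zero hK2 (by omega) hN
    rwa [add_sub_cancel] at this
  · refine solved_order_three hK2 (LinearMap.ker_eq_top.1 (eq_top_iff.2 fun v _ => ?_))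
    by_contra hv
    obtain ⟨u, -, hu⟩ := SetLike.exists_of_lt (lt_top_iff_ne_top.2 h1)
    have hv1 := (hcover v).resolve_right hv
    have hu2 := (hcover u).resolve_left hu
    rcases hcover (u + v) with h | h
    · exact hu ((Submodule.add_mem_iff_left _ hv1).1 h)
    · exact hv ((Submodule.add_mem_iff_right _ hu2).1 h)

end Cfsg.Agent.SLComm34
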