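import Cfsg.Agent.Lib.SLCommChain34
import Cfsg.Agent.Lib.PSL2Elements

/-!
Partners with a prescribed characteristic polynomial.
-/

set_option autoImplicit false

namespace Cfsg.Agent.SLComm34

open Polynomial Module

variable {K : Type*} [Field K]

/-- An anisotropic quadratic with given constant term. -/
theorem exists_quad [Finite K] {δ : K} (hδ : δ ≠ 0) :
    ∃ t : K, (∀ x : K, x ^ 2 - t * x + δ ≠ 0) ∧ t ^ 2 - 4 * δ ≠ 0 ∧
      ∀ k : K, k ≠ 0 → ∃ x y : K, x ^ 2 + t * x * y + δ * y ^ 2 = k := by
  classical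
  have := Fintype.ofFinite K
  obtain ⟨t, ht⟩ : ∃ t : K, ∀ x : Kˣ, (x : K) + δ / x ≠ t := by
    by_contra h
    push Not at h
    have := Fintype.card_le_of_surjective (fun x : Kˣ => (x : K) + δ / x) h
    have := Fintype.card_pos (α := K)
    rw [Fintype.card_units] at *
    omega
  have hroot : ∀ x : K, x ^ 2 - t * x + δ ≠ 0 := by
    intro x hx
    by_cases hx0 : x = 0
    · subst hx0; simp at hx; exact hδ hx
    refine ht (Units.mk0 x hx0) ?_
    simp only [Units.val_mk0]
    field_simp
    linear_combination hx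
  have hdisc : t ^ 2 - 4 * δ ≠ 0 := by
    intro h
    by_cases h2 : (2 : K) = 0
    · have := CharTwo.of_one_ne_zero_of_two_eq_zero (one_ne_zero : (1 : K) ≠ 0) h2
      obtain ⟨x, hx⟩ : ∃ x : K, x ^ 2 = δ := by
        obtain ⟨x, hx⟩ := FiniteField.isSquare_of_char_two (ringChar.eq K 2) δ
        exact ⟨x, by rw [pow_two]; exact hx.symm⟩
      refine hroot x ?_
      have ht0 : t = 0 := (pow_eq_zero_iff two_ne_zero).1 (by linear_combination h + 2 * δ * h2)
      linear_combination hx - x * ht0 + δ * h2
    · refine hroot (t / 2) ?_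
      field_simp
      linear_combination -h
  exact ⟨t, hroot, hdisc, fun k hk => by
    obtain ⟨x, y, h⟩ := PSL2Elements.exists_rep 1 t δ k (fun h => hdisc (by linear_combination h)) hk
    exact ⟨x, y, by linear_combination h⟩⟩

theorem isCoprime_pow_mul {δ t : K} (h : ∀ x : K, x ^ 2 - t * x + δ ≠ 0) (r s : K) (a b : ℕ) :
    IsCoprime ((X - C r) ^ a * (X - C s) ^ b) (X ^ 2 - C t * X + C δ) := by
  have key : ∀ r : K, IsCoprime (X - C r) (X ^ 2 - C t * X + C δ) := fun r => by
    refine (irreducible_X_sub_C r).coprime_iff_not_dvd.2 fun hd => h r ?_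
    have := dvd_iff_isRoot.1 hd
    simpa [IsRoot] using this
  exact IsCoprime.mul_left (key r).pow_left (key s).pow_left

/-- An injective family of monic polynomials hits every target. -/
theorem exists_param [Finite K] {n : ℕ} (hn : 1 ≤ n) {P : Type*} [Finite P]
    (hP : Nat.card P = Nat.card K ^ (n - 1)) {χ : P → K[X]} (hχ : Function.Injective χ) {c0 : K}
    (hm : ∀ p, (χ p).Monic) (hd : ∀ p, (χ p).natDegree = n) (h0 : ∀ p, (χ p).coeff 0 = c0)
    {f : K[X]} (hfm : f.Monic) (hfd : f.natDegree = n) (hf0 : f.coeff 0 = c0) : ∃ p, χ p = f := by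
  let co : K[X] → (Fin (n - 1) → K) := fun g i => g.coeff ((i : ℕ) + 1)
  have key : ∀ g g' : K[X], g.Monic → g.natDegree = n → g'.Monic → g'.natDegree = n →
      g.coeff 0 = g'.coeff 0 → co g = co g' → g = g' := by
    intro g g' hgm hgd hgm' hgd' hz hco
    ext i
    rcases Nat.eq_zero_or_pos i with rfl | hi
    · exact hz
    rcases lt_trichotomy i n with h | rfl | h
    · have := congrFun hco ⟨i - 1, by omega⟩
      simpa [co, Nat.sub_add_cancel hi] using this
    · rw [show g.coeff i = 1 by rw [← hgd]; exact hgm, show g'.coeff i = 1 by rw [← hgd']; exact hgm']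
    · rw [coeff_eq_zero_of_natDegree_lt (by omega), coeff_eq_zero_of_natDegree_lt (by omega)]
  have hinj : Function.Injective (co ∘ χ) := fun p q h =>
    hχ (key _ _ (hm p) (hd p) (hm q) (hd q) ((h0 p).trans (h0 q).symm) h)
  have hbij := hinj.bijective_of_nat_card_le (by rw [hP, Nat.card_fun, Nat.card_fin])
  obtain ⟨p, hp⟩ := hbij.2 (co f)
  exact ⟨p, key _ _ (hm p) (hd p) hfm hfd ((h0 p).trans hf0.symm) hp⟩

/-- Degrees strictly increase along the recursion. -/
theorem recursion_zero {R : ℕ → K[X]} {γ μ : ℕ → K} (h0 : (R 0).coeff 0 = 0)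
    (hrec : ∀ l, R (l + 1) = X * R l + C (γ l) * X) {m : ℕ}
    (hsum : R m + ∑ l ∈ Finset.range m, C (μ l) * R l = 0) :
    R 0 = 0 ∧ ∀ l, l < m → γ l = 0 := by
  have hc : ∀ l, (R l).coeff 0 = 0 := fun l => by
    rcases l with _ | l
    · exact h0
    · rw [hrec]; simp
  have hpos : ∀ l, R l ≠ 0 → 1 ≤ (R l).natDegree := fun l hl => by
    by_contra h
    exact hl (by rw [eq_C_of_natDegree_eq_zero (by omega : (R l).natDegree = 0), hc, map_zero])
  have hstep : ∀ l, R l ≠ 0 → R (l + 1) ≠ 0 ∧ (R (l + 1)).natDegree = (R l).natDegree + 1 := fun l hl => by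
    have hd : (R (l + 1)).natDegree = (R l).natDegree + 1 := by
      have h1 : (X * R l).natDegree = (R l).natDegree + 1 := by rw [natDegree_X_mul hl]
      have h2 : (C (γ l) * X).natDegree < (X * R l).natDegree := by
        have := hpos l hl
        exact lt_of_le_of_lt (natDegree_C_mul_le _ _) (by rw [h1, natDegree_X]; omega)
      rw [hrec, natDegree_add_eq_left_of_natDegree_lt h2, h1]
    exact ⟨fun e => by rw [e, natDegree_zero] at hd; omega, hd⟩
  have hmono : ∀ l j, R l ≠ 0 → R (l + j) ≠ 0 ∧ (R (l + j)).natDegree = (R l).natDegree + j := by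
    intro l j hl
    induction j with
    | zero => exact ⟨hl, rfl⟩
    | succ j ih =>
      obtain ⟨h1, h2⟩ := hstep _ ih.1
      exact ⟨h1, by rw [← Nat.add_assoc, h2, ih.2, ← Nat.add_assoc]⟩
  have hRm : R m = 0 := by
    by_contra hm
    have hp := hpos m hm
    have hlt : (∑ l ∈ Finset.range m, C (μ l) * R l).natDegree ≤ (R m).natDegree - 1 := by
      refine natDegree_sum_le_of_forall_le _ _ fun l hl => ?_
      rw [Finset.mem_range] at hl
      refine (natDegree_C_mul_le _ _).trans ?_
      by_cases h : R l = 0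
      · rw [h, natDegree_zero]; omega
      · obtain ⟨-, h2⟩ := hmono l (m - l) h
        rw [show l + (m - l) = m by omega] at h2
        omega
    have := natDegree_add_eq_left_of_natDegree_lt (p := R m)
      (q := ∑ l ∈ Finset.range m, C (μ l) * R l) (by omega)
    rw [hsum, natDegree_zero] at this
    omega
  have hall : ∀ l, l ≤ m → R l = 0 := fun l hl => by
    by_contra h
    exact ((hmono l (m - l) h).1) (by rwa [show l + (m - l) = m by omega])
  refine ⟨hall 0 (Nat.zero_le _), fun l hl => ?_⟩
  have := hrec l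
  rw [hall (l + 1) hl, hall l hl.le, mul_zero, zero_add] at this
  simpa using congrArg (fun p : K[X] => p.coeff 1) this.symm

variable {V : Type*} [AddCommGroup V] [Module K V]

theorem Cyc.aeval_eq_zero {M : Module.End K V} {z : V} (hc : Cyc M z) {p : K[X]}
    (h : aeval M p z = 0) (v : V) : aeval M p v = 0 := by
  obtain ⟨q, rfl⟩ := hc v
  rw [← aeval_apply_mul, mul_comm, aeval_apply_mul, h, map_zero]

theorem aeval_mem {M : Module.End K V} {W : Submodule K V} (hW : ∀ w ∈ W, M w ∈ W) (p : K[X]) :
    ∀ w ∈ W, aeval M p w ∈ W := by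
  induction p using Polynomial.induction_on with
  | C a => intro w hw; rw [aeval_C]; exact W.smul_mem a hw
  | add p q hp hq => intro w hw; rw [map_add]; exact W.add_mem (hp w hw) (hq w hw)
  | monomial i a ih =>
    intro w hw
    rw [pow_succ, ← mul_assoc, aeval_apply_mul, aeval_X]
    exact ih _ (hW w hw)

theorem aeval_X_sub_C_pow (M : Module.End K V) (r : K) (j : ℕ) :
    aeval M ((X - C r) ^ j) = (M - r • 1) ^ j := by
  simp [Algebra.algebraMap_eq_smul_one]

variable [FiniteDimensional K V] {g : Module.End K V} {z : V} {k : ℕ} {U : Submodule K V}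

/-- The main construction. -/
theorem solved_split [Finite K] (hs : Split g z k U) (hdet : LinearMap.det g = 1)
    (hm : 1 ≤ finrank K U) {τ : K} (hτ : τ ≠ 0) (hcase : τ = 1 ∧ 3 ≤ k ∨ τ ≠ 1 ∧ k = 2) :
    Solved g := by
  classical
  have hk : 2 ≤ k := by rcases hcase with ⟨-, h⟩ | ⟨-, h⟩ <;> omega
  have hg : Function.Injective g :=
    LinearMap.ker_eq_bot.1 (by_contra fun hne => one_ne_zero (hdet.symm.trans
      (LinearMap.det_eq_zero_iff_ker_ne_bot.2 hne)))
  obtain ⟨Y', z', hnil, hcN, hcD⟩ := good (induced_injective hs hg)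
  set N' : Module.End K U := Y' - 1 with hN'
  set m := finrank K U with hmdef
  set bottom := (N' ^ (m - 1)) z' with hbot
  have hne : bottom ≠ 0 := by
    intro h
    have := hcN.eq_zero (p := X ^ (m - 1)) (by rw [degree_X_pow]; exact_mod_cast (by omega))
      (by simpa using h)
    simp at this
  obtain ⟨ψ, hψ⟩ : ∃ ψ : U →ₗ[K] K, ψ bottom = 1 := by
    obtain ⟨f, hf⟩ : ∃ f : Module.Dual K U, f bottom ≠ 0 := by
      by_contra h
      push Not at h
      exact hne ((Module.forall_dual_apply_eq_zero_iff K _).1 h)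
    exact ⟨(f bottom)⁻¹ • f, by simp [inv_mul_cancel₀ hf]⟩
  obtain ⟨φ, hφ1, hφ0⟩ : ∃ φ : U →ₗ[K] K, φ z' = 1 ∧ ∀ u : U, φ (N' u) = 0 := by
    have hni : z' ∉ LinearMap.range N' := by
      rintro ⟨y, hy⟩
      obtain ⟨p, hp⟩ := hcN y
      have hzero : ∀ v : U, (N' ^ m) v = 0 := fun v => by rw [hnil]; rfl
      refine hne ?_
      rw [hbot]
      conv_lhs => arg 2; rw [← hy]
      rw [← Module.End.mul_apply, ← pow_succ, show m - 1 + 1 = m by omega, hzero]
    obtain ⟨f, hf1, hf2⟩ := Submodule.exists_dual_map_eq_bot_of_notMem hni inferInstance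
    refine ⟨(f z')⁻¹ • f, by simp [inv_mul_cancel₀ hf1], fun u => ?_⟩
    have : f (N' u) ∈ (LinearMap.range N').map f := ⟨N' u, ⟨u, rfl⟩, rfl⟩
    rw [hf2, Submodule.mem_bot] at this
    simp [this]
  set δ : K := (τ ^ (k - 1))⁻¹ with hδ
  obtain ⟨t, hroot, hdisc, hrep⟩ := exists_quad (show δ ≠ 0 from inv_ne_zero (pow_ne_zero _ hτ))
  set d := t - 1 with hd
  set κ := t - 1 - δ with hκ
  have hκ0 : κ ≠ 0 := fun h => hroot 1 (by linear_combination -h)
  set e := orb g z
  let asum : (Fin (k - 1) → K) → V := fun a => ∑ i, a i • e ((i : ℕ) + 1)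
  have hasum : ∀ a, asum a ∈ seg g z (k - 1) := fun a =>
    Submodule.sum_mem _ fun i _ => Submodule.smul_mem _ _ (orb_mem_seg (by omega) (by omega))
  let Par := (Fin (k - 1) → K) × (U →ₗ[K] K)
  choose Y hYe hYu using fun p : Par => exists_end hs
    (fun i => if i = 0 then d • z + κ • (z' : V) + asum p.1 else if i = 1 then τ • e i
      else τ • e i + e (i - 1))
    (U.subtype.comp Y' + φ.smulRight z + ψ.smulRight (e (k - 1)) + p.2.smulRight (e 1))
  have hYz : ∀ p, Y p z = d • z + κ • (z' : V) + asum p.1 := fun p => by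
    have := hYe p 0 hs.pos
    rwa [orb_zero, if_pos rfl] at this
  have hY1 : ∀ p, Y p (e 1) = τ • e 1 := fun p => by rw [hYe p 1 (by omega)]; simp
  have hYi : ∀ p i, 1 ≤ i → i + 1 < k → Y p (e (i + 1)) = τ • e (i + 1) + e i := fun p i h1 h2 => by
    rw [hYe p (i + 1) h2, if_neg (by omega), if_neg (by omega), Nat.add_sub_cancel]
  have hYu' : ∀ p (u : U), Y p u = (Y' u : V) + φ u • z + ψ u • e (k - 1) + p.2 u • e 1 := fun p u => by
    simp [hYu]
  set P : K[X] := (X - C τ) ^ (k - 1) * (X - C 1) ^ (m - 1) with hP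
  have hPm : P.Monic := ((monic_X_sub_C τ).pow _).mul ((monic_X_sub_C 1).pow _)
  have hn : k + m = finrank K V := hs.finrank_eq
  have hPd : P.natDegree + 2 = finrank K V := by
    rw [hP, ((monic_X_sub_C τ).pow _).natDegree_mul ((monic_X_sub_C 1).pow _), natDegree_pow,
      natDegree_pow, natDegree_X_sub_C, natDegree_X_sub_C]
    omega
  set Q : K[X] := X ^ 2 - C t * X + C δ with hQ
  have hconst : P.coeff 0 * δ = (-1) ^ finrank K V := by
    rw [hP, mul_coeff_zero, coeff_zero_eq_eval_zero, coeff_zero_eq_eval_zero]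
    simp only [eval_pow, eval_sub, eval_X, eval_C, zero_sub]
    rw [neg_pow τ, hδ, ← hn, show k + m = (k - 1) + (m - 1) + 2 by omega, pow_add, pow_add]
    have : τ ^ (k - 1) ≠ 0 := pow_ne_zero _ hτ
    field_simp
  -- the behaviour of `Y`
  have hY0 : ∀ p, ∃ z₁, Cyc (Y p) z₁ ∧ aeval (Y p) (P * Q) z₁ = 0 := by
    intro p
    set S := Y p - τ • (1 : Module.End K V) with hS
    set N := Y p - (1 : K) • (1 : Module.End K V) with hN
    have hNapp : ∀ v, N v = Y p v - v := fun v => by simp [hN]
    have hshift : Shift g z S k :=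
      ⟨fun _ => by simp [hS, hY1, e], fun i h1 h2 => by
        simp [hS]; rw [hYi p i h1 h2]; simp [e]⟩
    have hNseg : ∀ x ∈ seg g z (k - 1), N x ∈ seg g z (k - 1) := fun x hx => by
      have h := hshift.apply_seg (k - 1) (by omega) x hx
      rw [show N x = S x + (τ - 1) • x by simp [hS, hN, sub_smul]]
      exact add_mem (seg_mono (by omega) h) (Submodule.smul_mem _ _ hx)
    have hNrange : ∀ (j : ℕ) (u : U), φ u = 0 → ∃ x ∈ seg g z (k - 1), (N ^ j) u = ((N' ^ j) u : V) + x := by
      intro j
      induction j with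
      | zero => exact fun u _ => ⟨0, zero_mem _, by simp⟩
      | succ j ih =>
        intro u hu
        obtain ⟨x, hx, he⟩ := ih u hu
        have hφj : φ ((N' ^ j) u) = 0 := by
          rcases j with _ | j
          · simpa using hu
          · rw [pow_succ', Module.End.mul_apply]; exact hφ0 _
        refine ⟨ψ ((N' ^ j) u) • e (k - 1) + p.2 ((N' ^ j) u) • e 1 + N x, add_mem (add_mem
          (Submodule.smul_mem _ _ (orb_mem_seg (by omega) le_rfl))
          (Submodule.smul_mem _ _ (orb_mem_seg le_rfl (by omega)))) (hNseg x hx), ?_⟩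
        rw [pow_succ', Module.End.mul_apply, he, map_add, hNapp _, hYu', hφj, zero_smul, add_zero,
          pow_succ', Module.End.mul_apply]
        simp only [hN', LinearMap.sub_apply, Module.End.one_apply, Submodule.coe_sub]
        abel
    have hQz : aeval (Y p) Q z = κ • (N' z' : V) + (κ • ψ z' • e (k - 1) + (κ • p.2 z' • e 1 + N (asum p.1))) := by
      simp only [hQ, map_add, map_sub, map_mul, map_pow, aeval_X, aeval_C, LinearMap.add_apply,
        LinearMap.sub_apply, Module.End.mul_apply, pow_two, Algebra.algebraMap_eq_smul_one,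
        LinearMap.smul_apply, Module.End.one_apply]
      rw [hYz p]
      simp only [map_add, map_smul, hYz p, hYu', hφ1, one_smul, hNapp, hN', LinearMap.sub_apply,
        Module.End.one_apply, Submodule.coe_sub, hd, hκ]
      module
    set P2 : K[X] := (X - C 1) ^ (m - 1) * Q
    have hP2z : aeval (Y p) P2 z = (N ^ (m - 1)) (aeval (Y p) Q z) := by
      rw [aeval_apply_mul, aeval_X_sub_C_pow]
    obtain ⟨xz, hxz, hxe⟩ : ∃ x ∈ seg g z (k - 1), aeval (Y p) P2 z = x ∧
        (τ = 1 → 3 ≤ k → x - κ • e (k - 1) ∈ seg g z (k - 2)) := by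
      set x0 := κ • ψ z' • e (k - 1) + (κ • p.2 z' • e 1 + N (asum p.1)) with hx0
      have hx0mem : x0 ∈ seg g z (k - 1) := add_mem
        (Submodule.smul_mem _ _ (Submodule.smul_mem _ _ (orb_mem_seg (by omega) le_rfl)))
        (add_mem (Submodule.smul_mem _ _ (Submodule.smul_mem _ _ (orb_mem_seg le_rfl (by omega))))
          (hNseg _ (hasum p.1)))
      by_cases hm1 : m = 1
      · refine ⟨x0, hx0mem, ?_, fun h1 h3 => ?_⟩
        · rw [hP2z, hQz, show m - 1 = 0 by omega, pow_zero, Module.End.one_apply]
          have : N' z' = 0 := by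
            have := hnil
            rw [hm1, pow_one] at this
            rw [this, LinearMap.zero_apply]
          rw [this, Submodule.coe_zero, smul_zero, zero_add]
        · have hb : ψ z' = 1 := by
            rw [← hψ, hbot, show m - 1 = 0 by omega, pow_zero, Module.End.one_apply]
          rw [hx0, hb, one_smul, add_sub_cancel_left]
          refine add_mem (Submodule.smul_mem _ _ (Submodule.smul_mem _ _ (orb_mem_seg le_rfl (by omega)))) ?_
          rw [show N = S by rw [hN, hS, h1]]
          exact hshift.apply_seg (k - 1) (by omega) _ (hasum p.1)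
      · obtain ⟨x, hx, he⟩ := hNrange (m - 2) (N' z') (hφ0 z')
        have e1 : (N' ^ (m - 2)) (N' z') = bottom := by
          rw [← Module.End.mul_apply, ← pow_succ, hbot, show m - 2 + 1 = m - 1 by omega]
        have hb0 : φ bottom = 0 := by
          rw [hbot, show m - 1 = (m - 2) + 1 by omega, pow_succ', Module.End.mul_apply]
          exact hφ0 _
        have e2 : N' bottom = 0 := by
          rw [hbot, ← Module.End.mul_apply, ← pow_succ', show m - 1 + 1 = m by omega, hnil,
            LinearMap.zero_apply]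
        have hNpow : ∀ j, ∀ y ∈ seg g z (k - 1), (N ^ j) y ∈ seg g z (k - 1) := fun j => by
          induction j with
          | zero => exact fun y hy => by simpa using hy
          | succ j ih => exact fun y hy => by rw [pow_succ', Module.End.mul_apply]; exact hNseg _ (ih y hy)
        set x' := κ • x + (N ^ (m - 2)) x0
        have hx' : x' ∈ seg g z (k - 1) := add_mem (Submodule.smul_mem _ _ hx) (hNpow _ _ hx0mem)
        refine ⟨κ • e (k - 1) + (κ • p.2 bottom • e 1 + N x'), add_mem
          (Submodule.smul_mem _ _ (orb_mem_seg (by omega) le_rfl))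
          (add_mem (Submodule.smul_mem _ _ (Submodule.smul_mem _ _ (orb_mem_seg le_rfl (by omega))))
            (hNseg _ hx')), ?_, fun h1 h3 => ?_⟩
        · rw [hP2z, hQz, show m - 1 = (m - 2) + 1 by omega, pow_succ', Module.End.mul_apply,
            map_add, map_smul, he, e1, smul_add, add_assoc]
          change N (κ • (bottom : V) + x') = _
          rw [map_add, map_smul, hNapp, hYu', hb0, hψ, zero_smul, add_zero, one_smul]
          have hY'b : (Y' bottom : V) - (bottom : V) = 0 := by
            rw [← Submodule.coe_sub, show Y' bottom - bottom = 0 by simpa [hN'] using e2, Submodule.coe_zero]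
          rw [show (Y' bottom : V) + e (k - 1) + p.2 bottom • e 1 - (bottom : V) =
            ((Y' bottom : V) - (bottom : V)) + (e (k - 1) + p.2 bottom • e 1) by abel, hY'b, zero_add,
            smul_add, add_assoc]
        · rw [add_sub_cancel_left]
          refine add_mem (Submodule.smul_mem _ _ (Submodule.smul_mem _ _ (orb_mem_seg le_rfl (by omega)))) ?_
          rw [show N = S by rw [hN, hS, h1]]
          exact hshift.apply_seg (k - 1) (by omega) _ hx'
    have hP1 : ∀ x ∈ seg g z (k - 1), aeval (Y p) ((X - C τ) ^ (k - 1)) x = 0 := fun x hx => by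
      rw [aeval_X_sub_C_pow]; exact hshift.pow_eq_zero _ (by omega) x hx
    have hsplit : P * Q = (X - C τ) ^ (k - 1) * P2 := mul_assoc _ _ _
    have hfz : aeval (Y p) (P * Q) z = 0 := by
      rw [hsplit, aeval_apply_mul, hxe.1]; exact hP1 _ hxz
    have hfe : aeval (Y p) (P * Q) (e 1) = 0 := by
      rw [hsplit, mul_comm, aeval_apply_mul, hP1 _ (orb_mem_seg le_rfl (by omega)), map_zero]
    obtain ⟨ε, hε⟩ : ∃ ε : K, ∀ W : Submodule K V, (∀ w ∈ W, Y p w ∈ W) → z + ε • e 1 ∈ W →
        seg g z (k - 1) ≤ W := by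
      rcases hcase with ⟨h1, h3⟩ | ⟨h1, h2⟩
      · refine ⟨0, fun W hW hz => ?_⟩
        rw [zero_smul, add_zero] at hz
        have hmem := aeval_mem hW P2 z hz
        rw [hxe.1] at hmem
        refine hshift.le_of_mem (fun x hx => W.sub_mem (hW x hx) (W.smul_mem τ hx)) (k - 1) (by omega) κ
          (xz - κ • e (k - 1)) hκ0 (hxe.2 h1 h3) ?_
        rwa [add_sub_cancel]
      · subst h2
        have hseg : seg g z (2 - 1) = K ∙ e 1 := by simp [seg, e]
        obtain ⟨γ, hγ⟩ := Submodule.mem_span_singleton.1 (hseg ▸ hxz)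
        have hev : ∀ q : K[X], aeval (Y p) q (e 1) = q.eval τ • e 1 := fun q => by
          have hvec : Module.End.HasEigenvector (Y p) τ (e 1) := ⟨Module.End.mem_eigenspace_iff.2 (hY1 p), by
            simpa using hs.li.ne_zero (⟨1, by omega⟩ : Fin 2)⟩
          exact Module.End.aeval_apply_of_hasEigenvector hvec
        have hP2τ : P2.eval τ ≠ 0 := by
          simp only [P2, hQ, eval_mul, eval_pow, eval_sub, eval_add, eval_X, eval_C]
          exact mul_ne_zero (pow_ne_zero _ (sub_ne_zero.2 h1)) (hroot τ)
        obtain ⟨ε, hne'⟩ : ∃ ε : K, γ + ε * P2.eval τ ≠ 0 := by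
          by_cases hγ0 : γ = 0
          · exact ⟨1, by simp [hγ0, hP2τ]⟩
          · exact ⟨0, by simp [hγ0]⟩
        refine ⟨ε, fun W hW hz => ?_⟩
        have hmem := aeval_mem hW P2 _ hz
        rw [map_add, map_smul, hxe.1, hev, ← hγ, smul_smul, ← add_smul] at hmem
        rw [hseg, Submodule.span_singleton_le_iff_mem]
        simpa [smul_smul, inv_mul_cancel₀ hne'] using W.smul_mem (γ + ε * P2.eval τ)⁻¹ hmem
    refine ⟨z + ε • e 1, cyc_of_invariant fun W hz hW => ?_, by rw [map_add, map_smul, hfz, hfe]; simp⟩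
    have hseg := hε W hW hz
    have hzW : z ∈ W := by
      have := W.sub_mem hz (W.smul_mem ε (hseg (orb_mem_seg le_rfl (by omega))))
      rwa [add_sub_cancel_right] at this
    refine hs.top_le hzW hseg fun u => ?_
    refine hcN.mem (W := W.comap U.subtype) ?_ (fun v hv => ?_) u
    · have h1 := W.smul_mem κ⁻¹ (W.sub_mem (W.sub_mem (hW z hzW) (W.smul_mem d hzW)) (hseg (hasum p.1)))
      rw [hYz] at h1
      rwa [add_assoc, add_sub_cancel_left, add_sub_cancel_right, inv_smul_smul₀ hκ0] at h1
    · rw [Submodule.mem_comap, Submodule.subtype_apply] at hv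
      have h1 := W.sub_mem (W.sub_mem (W.sub_mem (W.sub_mem (hW _ hv) hv) (W.smul_mem (φ v) hzW))
        (W.smul_mem (ψ v) (hseg (orb_mem_seg (by omega) le_rfl))))
        (W.smul_mem (p.2 v) (hseg (orb_mem_seg le_rfl (by omega : 1 ≤ k - 1))))
      rw [hYu'] at h1
      show ((N' v : U) : V) ∈ W
      rw [hN', LinearMap.sub_apply, Module.End.one_apply, Submodule.coe_sub]
      convert h1 using 1
      abel
  -- the behaviour of `g * Y`
  set D : Module.End K U := induced g hs * Y' with hD
  set u0 : U := induced g hs z' with hu0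
  have hge : ∀ i, g (e i) = e (i + 1) := fun i => (orb_succ g z i).symm
  have hgz : g z = e 1 := (orb_one g z).symm
  have hE : ∀ {W : Submodule K V}, (∀ i, 1 ≤ i → i ≤ k → e i ∈ W) → span' g z k ≤ W := by
    intro W hW
    obtain ⟨c, x, hx, hc, he⟩ := hs.exists_closed hg
    have hseg : seg g z (k - 1) ≤ W := by
      rw [seg, Submodule.span_le]
      rintro _ ⟨i, ⟨h1, h2⟩, rfl⟩
      exact hW i h1 (by omega)
    have hz : z ∈ W := by
      have h1 := W.smul_mem c⁻¹ (W.sub_mem (hW k hs.pos le_rfl) (hseg hx))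
      change c⁻¹ • (orb g z k - x) ∈ W at h1
      rwa [he, add_sub_cancel_right, inv_smul_smul₀ hc] at h1
    exact span_le_sup.trans (sup_le ((Submodule.span_singleton_le_iff_mem _ _).2 hz) hseg)
  have he1E : e 1 ∈ span' g z k := orb_mem_span (by omega)
  have hMz : ∀ p, ∃ x ∈ span' g z k, (g * Y p) z = κ • (u0 : V) + x := fun p => by
    obtain ⟨x, hx, he⟩ := induced_spec hs z'
    refine ⟨d • e 1 + κ • x + g (asum p.1), add_mem (add_mem (Submodule.smul_mem _ _ he1E)
      (Submodule.smul_mem _ _ hx)) (hs.map_span (seg_le_span (by omega) (hasum p.1))), ?_⟩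
    rw [Module.End.mul_apply, hYz, map_add, map_add, map_smul, map_smul, hgz, he, smul_add, hu0]
    abel
  have hMu : ∀ p (v : U), ∃ x ∈ span' g z k, (g * Y p) v = (D v : V) + x := fun p v => by
    obtain ⟨x, hx, he⟩ := induced_spec hs (Y' v)
    refine ⟨x + φ v • e 1 + ψ v • g (e (k - 1)) + p.2 v • g (e 1), add_mem (add_mem (add_mem hx
      (Submodule.smul_mem _ _ he1E))
      (Submodule.smul_mem _ _ (hs.map_span (orb_mem_span (by omega)))))
      (Submodule.smul_mem _ _ (hs.map_span he1E)), ?_⟩
    rw [Module.End.mul_apply, hYu', map_add, map_add, map_add, map_smul, map_smul, map_smul, he, hgz,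
      hD, Module.End.mul_apply]
    abel
  have hMcyc : ∀ p, Cyc (g * Y p) (e 1) := fun p => cyc_of_invariant fun W h1W hW => by
    have horb := seg_le_of_invariant hτ (fun _ => hY1 p) (hYi p) hW (hgz ▸ h1W)
    have hEW := hE horb
    have hzW : z ∈ W := hEW (by simpa [orb_zero] using (orb_mem_span hs.pos : orb g z 0 ∈ span' g z k))
    refine hs.top_le hzW ((seg_le_span (by omega)).trans hEW) fun u => ?_
    refine hcD.mem (W := W.comap U.subtype) ?_ (fun v hv => ?_) u
    · obtain ⟨x, hx, he⟩ := hMz p
      have h2 := W.smul_mem κ⁻¹ (W.sub_mem (hW z hzW) (hEW hx))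
      rwa [he, add_sub_cancel_right, inv_smul_smul₀ hκ0] at h2
    · obtain ⟨x, hx, he⟩ := hMu p v
      have h2 := W.sub_mem (hW _ hv) (hEW hx)
      rwa [Submodule.subtype_apply, he, add_sub_cancel_right] at h2
  -- different parameters give different polynomials
  have hinj : Function.Injective fun p : Par => (g * Y p).charpoly := by
    intro p q hpq
    obtain ⟨a, ha, haz⟩ := exists_intertwine (hMcyc p) (hMcyc q) hpq
    set M := g * Y p with hM
    set M' := g * Y q with hM'
    have hsame : ∀ i, 1 ≤ i → i < k → M (e i) = M' (e i) := fun i h1 h2 => by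
      rcases i with _ | i
      · omega
      rcases i with _ | i
      · rw [hM, hM', Module.End.mul_apply, Module.End.mul_apply, hY1, hY1]
      · rw [hM, hM', Module.End.mul_apply, Module.End.mul_apply, hYi p (i + 1) (by omega) (by omega),
          hYi q (i + 1) (by omega) (by omega)]
    have hMe : ∀ i, 1 ≤ i → i < k → M (e i) = τ • e (i + 1) + (if i = 1 then 0 else e i) := fun i h1 h2 => by
      rcases i with _ | i
      · omega
      rcases i with _ | i
      · rw [hM, Module.End.mul_apply, hY1, map_smul, hge]; simp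
      · rw [hM, Module.End.mul_apply, hYi p (i + 1) (by omega) (by omega), map_add, map_smul, hge, hge]
        simp
    have hafix : ∀ i, 1 ≤ i → i ≤ k → a (e i) = e i := by
      intro i
      induction i with
      | zero => omega
      | succ i ih =>
        intro _ hi
        rcases Nat.eq_zero_or_pos i with rfl | hi0
        · have := haz 1
          simpa using this
        have h1 := ha (e i)
        rw [ih hi0 (by omega), ← hsame i hi0 (by omega), hMe i hi0 (by omega), map_add, map_smul] at h1
        by_cases hi1 : i = 1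
        · rw [if_pos hi1, map_zero, add_zero, add_zero] at h1
          exact smul_right_injective V hτ h1
        · rw [if_neg hi1, ih hi0 (by omega), add_left_inj] at h1
          exact smul_right_injective V hτ h1
    have hafixE : ∀ x ∈ span' g z k, a x = x := fun x hx =>
      hE (W := LinearMap.eqLocus (a : V →ₗ[K] V) LinearMap.id) (fun i h1 h2 => hafix i h1 h2) hx
    have hS : ∀ j, j + 2 ≤ k → ∃ R : K[X], R.coeff 0 = 0 ∧ aeval M' R (e 1) = e (j + 2) := by
      intro j
      induction j with
      | zero =>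
        refine fun _ => ⟨C τ⁻¹ * X, by simp, ?_⟩
        rw [aeval_apply_mul, aeval_X, ← hsame 1 le_rfl (by omega), hMe 1 le_rfl (by omega), if_pos rfl,
          add_zero, aeval_C]
        simp [smul_smul, mul_inv_cancel₀ hτ]
      | succ j ih =>
        intro hj
        obtain ⟨R, hR0, hR⟩ := ih (by omega)
        refine ⟨C τ⁻¹ * (X * R - R), by simp [hR0], ?_⟩
        rw [aeval_apply_mul, map_sub, LinearMap.sub_apply, aeval_apply_X_mul, hR,
          ← hsame (j + 2) (by omega) (by omega), hMe (j + 2) (by omega) (by omega), if_neg (by omega),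
          add_sub_cancel_right, aeval_C]
        simp [smul_smul, mul_inv_cancel₀ hτ]
    have hdeg : ∀ R : K[X], ∃ R' : K[X], R'.degree < finrank K V ∧ aeval M' R' (e 1) = aeval M' R (e 1) :=
      fun R => ⟨R %ₘ M'.charpoly, by
        have := degree_modByMonic_lt R (LinearMap.charpoly_monic M')
        rwa [degree_eq_natDegree (LinearMap.charpoly_monic M').ne_zero, natDegree_charpoly] at this,
        by rw [aeval_modByMonic_eq_self_of_root (LinearMap.aeval_self_charpoly M')]⟩
    have hS' : ∀ j, j + 2 ≤ k → ∃ R : K[X], R.coeff 0 = 0 ∧ R.natDegree ≤ j + 1 ∧ aeval M' R (e 1) = e (j + 2) := by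
      intro j
      induction j with
      | zero =>
        intro h
        refine ⟨C τ⁻¹ * X, by simp, (natDegree_C_mul_le _ _).trans natDegree_X_le, ?_⟩
        rw [aeval_apply_mul, aeval_X, ← hsame 1 le_rfl (by omega), hMe 1 le_rfl (by omega), if_pos rfl,
          add_zero, aeval_C]
        simp [smul_smul, mul_inv_cancel₀ hτ]
      | succ j ih =>
        intro hj
        obtain ⟨R, hR0, hRd, hR⟩ := ih (by omega)
        refine ⟨C τ⁻¹ * (X * R - R), by simp [hR0], ?_, ?_⟩
        · refine (natDegree_C_mul_le _ _).trans ((natDegree_sub_le _ _).trans (max_le ?_ (by omega)))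
          exact natDegree_mul_le.trans (by rw [natDegree_X]; omega)
        rw [aeval_apply_mul, map_sub, LinearMap.sub_apply, aeval_apply_X_mul, hR,
          ← hsame (j + 2) (by omega) (by omega), hMe (j + 2) (by omega) (by omega), if_neg (by omega),
          add_sub_cancel_right, aeval_C]
        simp [smul_smul, mul_inv_cancel₀ hτ]
    choose S hS0 hSd hSe using fun i : Fin (k - 1) => hS' i (by have := i.2; omega)
    set R0 : K[X] := ∑ i, C ((q.1 i - p.1 i) / κ) * S i with hR0
    let R : ℕ → K[X] := fun l => Nat.rec R0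
      (fun l r => X * r + C ((q.2 - p.2) ((D ^ l) u0) / τ) * X) l
    have hdiff : g (asum q.1) - g (asum p.1) = κ • aeval M' R0 (e 1) := by
      simp only [hR0, asum, map_sum, LinearMap.sum_apply, Finset.smul_sum, ← Finset.sum_sub_distrib,
        aeval_apply_mul, hSe, aeval_C, Algebra.algebraMap_eq_smul_one, LinearMap.smul_apply,
        Module.End.one_apply, smul_smul, map_smul, hge, mul_div_cancel₀ _ hκ0, sub_smul]
    have hΔ0 : a (u0 : V) - (u0 : V) = aeval M' R0 (e 1) := by
      obtain ⟨x, hx, he⟩ := hMz p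
      have h1 := ha z
      rw [hafixE z (by simpa [orb_zero] using (orb_mem_span hs.pos : orb g z 0 ∈ span' g z k)), he,
        map_add, map_smul, hafixE x hx] at h1
      refine smul_right_injective V hκ0 ?_
      show κ • (a (u0 : V) - (u0 : V)) = κ • aeval M' R0 (e 1)
      rw [← hdiff, smul_sub]
      calc κ • a (u0 : V) - κ • (u0 : V) = M' z - M z := by rw [← h1, he]; abel
        _ = g (asum q.1) - g (asum p.1) := by
          rw [hM, hM', Module.End.mul_apply, Module.End.mul_apply, hYz, hYz, ← map_sub, ← map_sub]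
          congr 1
          abel
    have hΔ : ∀ l, a ((D ^ l) u0 : U) - ((D ^ l) u0 : V) = aeval M' (R l) (e 1) := by
      intro l
      induction l with
      | zero => simpa [R] using hΔ0
      | succ l ih =>
        set v := (D ^ l) u0 with hv
        obtain ⟨x, hx, he⟩ := hMu p v
        have h1 := ha (v : V)
        rw [show a (v : V) = (a (v : V) - (v : V)) + (v : V) by abel, ih, map_add, ← aeval_apply_X_mul,
          he, map_add, hafixE x hx] at h1
        show a (((D ^ (l + 1)) u0 : U) : V) - _ = aeval M' (X * R l + C ((q.2 - p.2) v / τ) * X) (e 1)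
        rw [pow_succ', Module.End.mul_apply, ← hv, map_add, LinearMap.add_apply,
          eq_sub_of_add_eq h1]
        have h2 : M' (v : V) - M (v : V) = aeval M' (C ((q.2 - p.2) v / τ) * X) (e 1) := by
          rw [aeval_apply_mul, aeval_X, ← hsame 1 le_rfl (by omega), hMe 1 le_rfl (by omega), if_pos rfl,
            add_zero, aeval_C, hM, hM', Module.End.mul_apply, Module.End.mul_apply, hYu', hYu']
          simp [smul_smul, mul_div_cancel₀ _ hτ, sub_smul, hge]
        rw [← h2, he]
        abel
    have hdm : R0.natDegree ≤ k - 1 := natDegree_sum_le_of_forall_le _ _ fun i _ =>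
      (natDegree_C_mul_le _ _).trans ((hSd i).trans (by have := i.2; omega))
    have hRd : ∀ l, (R l).natDegree ≤ k - 1 + l := by
      intro l
      induction l with
      | zero => simpa [R] using hdm
      | succ l ih =>
        refine natDegree_add_le_of_degree_le (natDegree_mul_le.trans ?_)
          ((natDegree_C_mul_le _ _).trans ?_) <;> simp only [natDegree_X]
        · change 1 + (R l).natDegree ≤ _; omega
        · omega
    set χ := D.charpoly with hχ
    have hχd : χ.natDegree = m := natDegree_charpoly D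
    have hrel : (D ^ m) u0 + ∑ l ∈ Finset.range m, χ.coeff l • (D ^ l) u0 = 0 := by
      have h := LinearMap.congr_fun (LinearMap.aeval_self_charpoly D) u0
      rw [← hχ, aeval_eq_sum_range, hχd, Finset.sum_range_succ, LinearMap.add_apply,
        show χ.coeff m = 1 by rw [← hχd]; exact LinearMap.charpoly_monic D, one_smul,
        LinearMap.sum_apply] at h
      rw [add_comm]
      simpa using h
    have hsum : R m + ∑ l ∈ Finset.range m, C (χ.coeff l) * R l = 0 := by
      refine (hMcyc q).eq_zero ?_ ?_
      · refine lt_of_le_of_lt degree_le_natDegree (Nat.cast_lt.2 ?_)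
        refine lt_of_le_of_lt (natDegree_add_le_of_degree_le (n := k - 1 + m) (hRd m)
          (natDegree_sum_le_of_forall_le _ _ fun l hl => (natDegree_C_mul_le _ _).trans ?_)) (by omega)
        have := hRd l
        rw [Finset.mem_range] at hl
        omega
      · simp only [map_add, map_sum, LinearMap.add_apply, LinearMap.sum_apply, aeval_apply_mul, aeval_C,
          Algebra.algebraMap_eq_smul_one, LinearMap.smul_apply, Module.End.one_apply]
        show aeval M' (R m) (e 1) + ∑ l ∈ Finset.range m, χ.coeff l • aeval M' (R l) (e 1) = 0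
        simp only [← hΔ, smul_sub, Finset.sum_sub_distrib, sub_add_sub_comm]
        have h := congrArg (fun u : U => a (u : V) - (u : V)) hrel
        simpa [Submodule.coe_sum, map_sum] using h
    have hR0c : (R 0).coeff 0 = 0 := by simp [R, hR0, finsetSum_coeff, hS0]
    obtain ⟨hz0, hγ⟩ := recursion_zero hR0c (γ := fun l => (q.2 - p.2) ((D ^ l) u0) / τ)
      (fun l => rfl) hsum
    refine Prod.ext ?_ ?_
    · have h1 : g (asum q.1) = g (asum p.1) := by
        rw [← sub_eq_zero, hdiff, show R0 = 0 from hz0]; simp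
      have h2 : ∑ i : Fin (k - 1), (q.1 i - p.1 i) • e ((i : ℕ) + 1) = 0 := by
        simp only [sub_smul, Finset.sum_sub_distrib, sub_eq_zero]
        exact hg h1
      have hli : LinearIndependent K fun i : Fin (k - 1) => e ((i : ℕ) + 1) :=
        hs.li.comp (fun i : Fin (k - 1) => (⟨(i : ℕ) + 1, by omega⟩ : Fin k)) fun i j h => by
          simpa [Fin.ext_iff] using h
      funext i
      exact (sub_eq_zero.1 (Fintype.linearIndependent_iff.1 hli _ h2 i)).symm
    · have hz : ∀ l, l < m → (q.2 - p.2) ((D ^ l) u0) = 0 := fun l hl => by simpa [hτ] using hγ l hl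
      have hk0 : q.2 - p.2 = 0 := by
        ext v
        obtain ⟨P', hP'⟩ := hcD v
        rw [← hP', ← aeval_modByMonic_eq_self_of_root (LinearMap.aeval_self_charpoly D),
          aeval_eq_sum_range' (n := m) (by
            by_cases h0 : P' %ₘ D.charpoly = 0
            · rw [h0, natDegree_zero]; omega
            · have := natDegree_modByMonic_lt P' (LinearMap.charpoly_monic D) (fun e => by
                rw [← hχ] at e; rw [e, natDegree_one] at hχd; omega)
              rwa [← hχ, hχd] at this)]
        simp only [LinearMap.sum_apply, LinearMap.smul_apply, map_sum, map_smul, LinearMap.zero_apply]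
        refine Finset.sum_congr rfl fun l hl => ?_
        simp [hz l (Finset.mem_range.1 hl)]
      exact (sub_eq_zero.1 hk0).symm
  -- conclusion
  have hQm : Q.Monic := by rw [hQ]; monicity!
  have hfd : (P * Q).natDegree = finrank K V := by
    rw [hPm.natDegree_mul hQm, show Q.natDegree = 2 by rw [hQ]; compute_degree!, hPd]
  have hdetY : ∀ p, LinearMap.det (Y p) = 1 := fun p => by
    obtain ⟨z₁, hc, h0⟩ := hY0 p
    rw [det_eq, hc.charpoly_eq (hPm.mul hQm) hfd h0, mul_coeff_zero,
      show Q.coeff 0 = δ by simp [hQ], hconst, ← mul_pow]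
    simp
  have hc0 : ∀ p, (g * Y p).charpoly.coeff 0 = (P * Q).coeff 0 := fun p => by
    have h := det_eq (g * Y p)
    rw [map_mul, hdet, hdetY, one_mul] at h
    rw [mul_coeff_zero, show Q.coeff 0 = δ by simp [hQ], hconst]
    have h1 : ((-1 : K) ^ finrank K V) * (-1) ^ finrank K V = 1 := by rw [← mul_pow]; simp
    linear_combination (g * Y p).charpoly.coeff 0 * (-h1) + (-(-1 : K) ^ finrank K V) * h
  have : Finite (U →ₗ[K] K) := Module.finite_of_finite K
  have hcard : Nat.card Par = Nat.card K ^ (finrank K V - 1) := by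
    rw [Nat.card_prod, Nat.card_fun, Nat.card_fin, Module.natCard_eq_pow_finrank (K := K) (V := U →ₗ[K] K),
      show finrank K (U →ₗ[K] K) = m from Subspace.dual_finrank_eq, ← pow_add,
      show k - 1 + m = finrank K V - 1 by omega]
  obtain ⟨p, hp⟩ := exists_param (by omega) hcard hinj (fun p => LinearMap.charpoly_monic _)
    (fun p => natDegree_charpoly _) hc0 (hPm.mul hQm) hfd rfl
  obtain ⟨z₁, hc, h0⟩ := hY0 p
  refine solved_of_cyclic hdet hc (hMcyc p) hPm (isCoprime_pow_mul hroot τ 1 (k - 1) (m - 1)) hdisc hPd h0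
    ?_ hconst hrep
  have h := LinearMap.congr_fun (LinearMap.aeval_self_charpoly (g * Y p)) (e 1)
  rwa [show (g * Y p).charpoly = P * Q from hp, LinearMap.zero_apply] at h

end Cfsg.Agent.SLComm34
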