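import Cfsg.Agent.Lib.SLCells
import Cfsg.Agent.Lib.DefectZeroReduction

/-!
`SL n F` has at most one irreducible character of defect zero in the defining characteristic: in a reduction
the fixed vectors of the unitriangular group are acted on by every operator `U g` through a scalar not depending
on the reduction.
-/

set_option autoImplicit false
set_option linter.unusedSectionVars false

namespace Cfsg.Agent.SLDefectZeroUnique

open Matrix Matrix.SpecialLinearGroup Cfsg.Agent.PSLUnipotent Cfsg.Agent.SLCells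
  Cfsg.Agent.DefectZeroReduction
open scoped MatrixGroups Classical

/-- a sum over a group split along the left cosets of a subgroup -/
theorem sum_cosets {U M : Type*} [Group U] [Fintype U] [AddCommMonoid M] (Z : Subgroup U) (f : U → M) :
    ∑ u, f u = ∑ q : U ⧸ Z, ∑ z : Z, f (q.out * z) := by
  rw [← Finset.sum_product', Finset.univ_product_univ]
  refine (Fintype.sum_bijective (fun a : (U ⧸ Z) × Z => a.1.out * (a.2 : U)) ⟨?_, ?_⟩ _ _ fun _ => rfl).symm
  · rintro ⟨q, z⟩ ⟨q', z'⟩ h
    simp only at h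
    have hq : q = q' := by
      rw [← QuotientGroup.out_eq' q, ← QuotientGroup.out_eq' q', QuotientGroup.eq]
      have : q.out⁻¹ * q'.out = (z : U) * (z' : U)⁻¹ := by
        rw [eq_mul_inv_iff_mul_eq, mul_assoc, ← h, inv_mul_cancel_left]
      rw [this]; exact mul_mem z.2 (inv_mem z'.2)
    subst hq
    exact Prod.ext rfl (Subtype.ext (mul_left_cancel h))
  · intro u
    obtain ⟨z, hz⟩ := QuotientGroup.mk_out_eq_mul Z u
    exact ⟨((u : U ⧸ Z), z⁻¹), by simp [hz]⟩

/-- a sum over the range of an injective homomorphism -/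
theorem sum_range_hom {A U M : Type*} [Group A] [Fintype A] [Group U] [AddCommMonoid M] (ψ : A →* U)
    [Fintype ψ.range] (h : Function.Injective ψ) (f : U → M) : ∑ z : ψ.range, f z = ∑ a, f (ψ a) :=
  (Fintype.sum_equiv (MonoidHom.ofInjective h).toEquiv (fun a => f (ψ a)) (fun z => f z) fun _ => rfl).symm

/-- a function invariant under right translation by an element of order `p` sums to zero in characteristic `p` -/
theorem sum_eq_zero_of_invariant {U k M : Type*} [Group U] [Fintype U] [Field k] [AddCommGroup M] [Module k M]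
    (p : ℕ) [Fact p.Prime] [CharP k p] (f : U → M) (u₀ : U) (h1 : u₀ ^ p = 1) (h2 : u₀ ≠ 1)
    (hf : ∀ u, f (u * u₀) = f u) : ∑ u, f u = 0 := by
  rw [sum_cosets (Subgroup.zpowers u₀)]
  refine Finset.sum_eq_zero fun q _ => ?_
  have hpow : ∀ m : ℕ, ∀ u, f (u * u₀ ^ m) = f u := by
    intro m
    induction m with
    | zero => simp
    | succ m ih => intro u; rw [pow_succ, ← mul_assoc, hf, ih]
  have hz : ∀ z : Subgroup.zpowers u₀, f (q.out * z) = f q.out := fun z => by
    obtain ⟨m, hm⟩ := (IsOfFinOrder.mem_powers_iff_mem_zpowers (isOfFinOrder_of_finite u₀)).2 z.2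
    rw [← hm]; exact hpow m _
  rw [Finset.sum_congr rfl fun z _ => hz z, Finset.sum_const, Finset.card_univ, Fintype.card_zpowers,
    orderOf_eq_prime h1 h2, ← Nat.cast_smul_eq_nsmul k, CharP.cast_eq_zero k p, zero_smul]

variable {F : Type*} [Field F] [Fintype F] {n : ℕ}

local notation "SLn" => Matrix.SpecialLinearGroup (Fin n) F
local notation "Un" => PSLUnipotent.U F n

noncomputable local instance instFintypeSL : Fintype (Matrix.SpecialLinearGroup (Fin n) F) :=
  Fintype.ofFinite _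

variable {k : Type} [Field k] {d : ℕ} (R : Red (Matrix.SpecialLinearGroup (Fin n) F) k d)

/-- fixed by the unitriangular subgroup -/
def Fixed (x : Fin d → k) : Prop := ∀ u ∈ PSLUnipotent.U F n, R.rep u *ᵥ x = x

/-- the sum over `U` of translates -/
noncomputable def SU (g : SLn) (x : Fin d → k) : Fin d → k := ∑ u : Un, R.rep ((u : SLn) * g) *ᵥ x

theorem rep_mul (a b : SLn) (x : Fin d → k) : R.rep (a * b) *ᵥ x = R.rep a *ᵥ (R.rep b *ᵥ x) := by
  rw [map_mul, Matrix.mulVec_mulVec]

/-- irreducibility -/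
theorem span_orbit {x : Fin d → k} (hx : x ≠ 0) (y : Fin d → k) :
    ∃ a : SLn → k, y = ∑ g, a g • R.rep g *ᵥ x := by
  obtain ⟨i, hi⟩ := Function.ne_iff.1 hx
  let φ : Fin d → k := Pi.single i (x i)⁻¹
  refine ⟨fun g => R.c * (φ ⬝ᵥ (R.rep g⁻¹ *ᵥ y)), ?_⟩
  have h := congrArg (fun M : Matrix (Fin d) (Fin d) k => M *ᵥ y) (R.avg (Matrix.vecMulVec x φ))
  have htr : (Matrix.vecMulVec x φ).trace = 1 := by
    rw [Matrix.trace_vecMulVec, dotProduct_single, mul_inv_cancel₀ hi]
  rw [htr, one_smul, Matrix.one_mulVec, Matrix.smul_mulVec, Matrix.sum_mulVec] at h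
  refine h.symm.trans ?_
  rw [Finset.smul_sum, ← Equiv.sum_comp (Equiv.inv _)]
  refine Finset.sum_congr rfl fun g _ => ?_
  simp only [Equiv.inv_apply, inv_inv, ← Matrix.mulVec_mulVec, Matrix.vecMulVec_mulVec, smul_smul,
    op_smul_eq_smul, Matrix.mulVec_smul]

/-- relative projectivity over `U` -/
theorem exists_norm : ∃ B : (Fin d → k) →ₗ[k] (Fin d → k), ∀ x, Fixed R x →
    x = ∑ u : Un, R.rep (u : SLn) *ᵥ B x := by
  obtain ⟨i₀⟩ : Nonempty (Fin d) := ⟨⟨0, R.dpos⟩⟩
  set A : Matrix (Fin d) (Fin d) k := Matrix.single i₀ i₀ 1 with hA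
  refine ⟨(∑ q : SLn ⧸ Un, R.c • (R.rep q.out⁻¹ * A * R.rep q.out)).mulVecLin, fun x hx => ?_⟩
  have h := congrArg (fun M : Matrix (Fin d) (Fin d) k => M *ᵥ x) (R.avg A)
  rw [hA, Matrix.trace_single_eq_same, one_smul, Matrix.one_mulVec, ← hA, Matrix.smul_mulVec, Matrix.sum_mulVec,
    Finset.smul_sum] at h
  refine h.symm.trans ?_
  rw [sum_cosets Un, Finset.sum_comm, ← Equiv.sum_comp (Equiv.inv ↥Un)]
  refine Fintype.sum_congr _ _ fun u => ?_
  rw [Matrix.mulVecLin_apply, Matrix.sum_mulVec, Matrix.mulVec_sum]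
  refine Fintype.sum_congr _ _ fun q => ?_
  show R.c • (R.rep (q.out * (u : SLn)⁻¹)⁻¹ * A * R.rep (q.out * (u : SLn)⁻¹)) *ᵥ x = _
  rw [Matrix.smul_mulVec, Matrix.mulVec_smul, _root_.mul_inv_rev, inv_inv, map_mul, map_mul]
  simp only [← Matrix.mulVec_mulVec, hx _ (inv_mem u.2)]

/-- the fixed vectors as a submodule -/
noncomputable def fixedSub : Submodule k (Fin d → k) where
  carrier := {x | Fixed R x}
  zero_mem' := fun u _ => Matrix.mulVec_zero _
  add_mem' := fun {x y} hx hy u hu => by rw [Matrix.mulVec_add, hx u hu, hy u hu]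
  smul_mem' := fun a x hx u hu => by rw [Matrix.mulVec_smul, hx u hu]

variable (p : ℕ) [hp : Fact p.Prime] [CharP F p] [CharP k p]

include p hp in
/-- some vector is fixed by `U` -/
theorem exists_fixed : ∃ x : Fin d → k, x ≠ 0 ∧ Fixed R x := by
  let v : Fin d → k := Pi.single ⟨0, R.dpos⟩ 1
  let ψ : (↥Un → ZMod p) →+ (Fin d → k) :=
    { toFun := fun f => ∑ u : ↥Un, ((ZMod.castHom (dvd_refl p) k) (f u)) • R.rep (u : SLn) *ᵥ v
      map_zero' := by simp
      map_add' := fun f g => by simp [add_smul, Finset.sum_add_distrib] }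
  have : NeZero p := ⟨hp.out.ne_zero⟩
  have hψ : ∀ f, ψ f = ∑ u : ↥Un, ((ZMod.castHom (dvd_refl p) k) (f u)) • R.rep (u : SLn) *ᵥ v := fun f => rfl
  clear_value ψ
  set W := ψ.range
  have : Finite W := Finite.of_surjective ψ.rangeRestrict ψ.rangeRestrict_surjective
  have hst : ∀ u : ↥Un, ∀ y ∈ W, R.rep (u : SLn) *ᵥ y ∈ W := by
    rintro u _ ⟨f, rfl⟩
    refine ⟨fun a => f (u⁻¹ * a), ?_⟩
    simp only [hψ, Matrix.mulVec_sum, Matrix.mulVec_smul]
    rw [← Equiv.sum_comp (Equiv.mulLeft u)]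
    refine Fintype.sum_congr _ _ fun a => ?_
    simp only [Equiv.coe_mulLeft, inv_mul_cancel_left, Subgroup.coe_mul, rep_mul]
  let _ : MulAction ↥Un W :=
    { smul := fun u y => ⟨R.rep (u : SLn) *ᵥ y.1, hst u y.1 y.2⟩
      one_smul := fun y => Subtype.ext (by show R.rep 1 *ᵥ y.1 = y.1; rw [map_one, Matrix.one_mulVec])
      mul_smul := fun a b y => Subtype.ext (rep_mul R a b y.1) }
  have hv : v ∈ W := ⟨Pi.single 1 1, by
    rw [hψ, Finset.sum_eq_single 1]
    · simp
    · intro b _ hb; rw [Pi.single_eq_of_ne hb, map_zero, zero_smul]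
    · simp⟩
  have hne : (⟨v, hv⟩ : W) ≠ 0 := fun h => by
    have := congrFun (congrArg Subtype.val h : v = 0) ⟨0, R.dpos⟩
    simp [v] at this
  have hord : addOrderOf (⟨v, hv⟩ : W) = p := by
    refine addOrderOf_eq_prime (Subtype.ext ?_) hne
    show p • v = 0
    rw [← Nat.cast_smul_eq_nsmul k, CharP.cast_eq_zero k p, zero_smul]
  have hdvd : p ∣ Nat.card W := hord ▸ addOrderOf_dvd_natCard (⟨v, hv⟩ : W)
  have h0 : (0 : W) ∈ MulAction.fixedPoints ↥Un W := fun u => Subtype.ext (show R.rep (u : SLn) *ᵥ (0 : Fin d → k) = 0 from Matrix.mulVec_zero _)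
  obtain ⟨y, hy, hy0⟩ := (isPGroup_U (F := F) (n := n) p).exists_fixed_point_of_prime_dvd_card_of_fixed_point W hdvd h0
  exact ⟨y.1, fun h => hy0 (Subtype.ext h.symm), fun u hu => congrArg Subtype.val (hy ⟨u, hu⟩)⟩

omit [CharP F p] [CharP k p] in
theorem SU_left {v g : SLn} (hv : v ∈ Un) (x : Fin d → k) : SU R (v * g) x = SU R g x := by
  refine Fintype.sum_bijective _ (Equiv.mulRight (⟨v, hv⟩ : ↥Un)).bijective _ _ fun u => ?_
  simp [mul_assoc]

omit [CharP F p] [CharP k p] in
theorem SU_fixed (g : SLn) (x : Fin d → k) : Fixed R (SU R g x) := by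
  intro v hv
  rw [SU, Matrix.mulVec_sum]
  refine Fintype.sum_bijective _ (Equiv.mulLeft (⟨v, hv⟩ : ↥Un)).bijective _ _ fun u => ?_
  rw [← rep_mul]; simp [mul_assoc]

omit [CharP F p] [CharP k p] in
theorem fixed_diag {h : SLn} (hh : IsMon h 1) {x : Fin d → k} (hx : Fixed R x) : Fixed R (R.rep h *ᵥ x) := by
  intro u hu
  rw [← rep_mul, show u * h = h * (h⁻¹ * u * h) by group, rep_mul, hx _ (conj_unitri_diag hh hu)]

omit [CharP F p] [CharP k p] in
theorem SU_diag {h g : SLn} (hh : IsMon h 1) (x : Fin d → k) : SU R (h * g) x = R.rep h *ᵥ SU R g x := by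
  simp only [SU, Matrix.mulVec_sum, ← rep_mul]
  let e : Un ≃ Un :=
    { toFun := fun u => ⟨h⁻¹ * u * h, conj_unitri_diag hh u.2⟩
      invFun := fun u => ⟨h * u * h⁻¹, by
        have := conj_unitri_diag (v := (u : SLn)) hh.inv u.2
        rw [inv_inv] at this
        exact this⟩
      left_inv := fun u => Subtype.ext (by simp [mul_assoc])
      right_inv := fun u => Subtype.ext (by simp [mul_assoc]) }
  refine Fintype.sum_equiv e _ _ fun u => ?_
  simp [e, mul_assoc]

include p hp in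
/-- the double cosets other than the big one act as zero -/
theorem SU_eq_zero {m : SLn} {σ : Equiv.Perm (Fin n)} (hm : IsMon m σ) (hσ : σ ≠ Fin.revPerm)
    {x : Fin d → k} (hx : Fixed R x) : SU R m x = 0 := by
  obtain ⟨j₁, j₂, hj, hσj⟩ : ∃ j₁ j₂, j₁ < j₂ ∧ σ j₁ < σ j₂ := by
    by_contra! hall
    apply hσ
    have hmono : StrictMono (fun j => Fin.rev (σ j)) := fun a b hab =>
      Fin.rev_lt_rev.2 (lt_of_le_of_ne (hall a b hab) fun e => hab.ne (σ.injective e).symm)
    refine Equiv.ext fun j => ?_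
    have := StrictMono.range_inj (f := fun j => Fin.rev (σ j)) (g := id) hmono strictMono_id |>.1
      (by rw [Set.range_id]; exact Function.Surjective.range_eq (Fin.rev_surjective.comp σ.surjective))
    rw [Fin.revPerm_apply, ← Fin.rev_rev (σ j)]
    exact congrArg Fin.rev (congrFun this j)
  set c := m.1 (σ j₂) j₂ / m.1 (σ j₁) j₁
  have hc : c * m.1 (σ j₁) j₁ / m.1 (σ j₂) j₂ = 1 := by
    have := isMon_ne_zero hm j₁
    have := isMon_ne_zero hm j₂
    simp only [c]; field_simp
  refine sum_eq_zero_of_invariant (k := k) p _ (⟨_, transvection_mem_U hσj (1 : F)⟩ : ↥Un) ?_ ?_ fun u => ?_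
  · apply Subtype.ext
    show (Matrix.SpecialLinearGroup.transvection hσj.ne (1 : F)) ^ p = 1
    refine Subtype.ext ?_
    rw [PSLUnipotent.cpow, SpecialLinearGroup.transvection_coe, PSLUnipotent.cone, add_comm,
      (Commute.one_right _).add_pow]
    have hsq : ∀ j : ℕ, 2 ≤ j → (Matrix.single (σ j₁) (σ j₂) (1 : F)) ^ j = 0 := by
      intro j hj
      refine pow_eq_zero_of_le hj ?_
      rw [sq, Matrix.single_mul_single_of_ne _ _ _ _ hσj.ne']
    rw [Finset.sum_eq_single 0]
    · simp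
    · intro j hj hj0
      rcases eq_or_ne j 1 with rfl | hj1
      · rw [Nat.choose_one_right, ← nsmul_eq_mul', ← Nat.cast_smul_eq_nsmul F, CharP.cast_eq_zero F p, zero_smul]
      · rw [hsq j (by omega)]; simp
    · simp
  · intro h
    have := congrArg (fun u : ↥Un => u.1.1 (σ j₁) (σ j₂)) h
    simp [SpecialLinearGroup.transvection_coe, hσj.ne] at this
  · have key := mon_transvection hm hj.ne c
    rw [hc] at key
    simp only [Subgroup.coe_mul]
    rw [mul_assoc, ← key, ← mul_assoc, rep_mul, hx _ (transvection_mem_U hj c)]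

/-- lying in the big cell -/
def Big (g : SLn) : Prop :=
  ∃ u m u' : SLn, u ∈ Un ∧ u' ∈ Un ∧ IsMon m Fin.revPerm ∧ g = u * m * u'

omit [CharP F p] [CharP k p] in
theorem SU_cell {u m u' : SLn} (hu : u ∈ Un) (hu' : u' ∈ Un) {x : Fin d → k} (hx : Fixed R x) :
    SU R (u * m * u') x = SU R m x := by
  rw [mul_assoc, SU_left R hu]
  refine Fintype.sum_congr _ _ fun v => ?_
  rw [← mul_assoc, rep_mul, hx _ hu']

include p hp in
theorem SU_not_big {g : SLn} (hg : ¬ Big g) {x : Fin d → k} (hx : Fixed R x) : SU R g x = 0 := by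
  obtain ⟨u, m, u', σ, hu, hu', hm, rfl⟩ := exists_cell g
  rw [SU_cell R hu hu' hx]
  refine SU_eq_zero R p hm (fun e => hg ⟨u, m, u', hu, hu', ?_, rfl⟩) hx
  rw [← e]; exact hm

include p hp in
/-- some big element survives -/
theorem exists_SU_ne {x : Fin d → k} (hx : Fixed R x) (h0 : x ≠ 0) :
    ∃ m : SLn, IsMon m Fin.revPerm ∧ SU R m x ≠ 0 := by
  by_contra! hc
  obtain ⟨B, hB⟩ := exists_norm R
  obtain ⟨a, ha⟩ := span_orbit R h0 (B x)
  apply h0
  rw [hB x hx, ha]
  simp only [Matrix.mulVec_sum, Matrix.mulVec_smul, ← rep_mul]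
  rw [Finset.sum_comm]
  refine Finset.sum_eq_zero fun g _ => ?_
  rw [← Finset.smul_sum]
  have : SU R g x = 0 := by
    by_cases hg : Big g
    · obtain ⟨u, m, u', hu, hu', hm, rfl⟩ := hg
      rw [SU_cell R hu hu' hx, hc m hm]
    · exact SU_not_big R p hg hx
  exact smul_eq_zero_of_right _ this

section Simple

variable {i i' : Fin n} (hi : (i : ℕ) + 1 = i')

include hi in
theorem ne_succ : i ≠ i' := fun e => by rw [e] at hi; omega

/-- the operator of an adjacent transposition -/
noncomputable def T (x : Fin d → k) : Fin d → k :=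
  ∑ t : F, R.rep (two (ne_succ hi) (x2 t * w2 F)) *ᵥ x

include hi in
theorem two_w2_mon : IsMon (two (ne_succ hi) (w2 F)) (Equiv.swap i i') := by
  intro j r hr
  rw [two_apply]
  rcases eq_or_ne j i with rfl | hji
  · rw [Equiv.swap_apply_left] at hr
    split_ifs <;> simp_all [w2, (ne_succ hi)]
  rcases eq_or_ne j i' with rfl | hji'
  · rw [Equiv.swap_apply_right] at hr
    split_ifs <;> simp_all [w2, (ne_succ hi).symm]
  rw [Equiv.swap_apply_of_ne_of_ne hji hji'] at hr
  split_ifs <;> simp_all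

include hi in
theorem two_h2_mon (a : Fˣ) : IsMon (two (ne_succ hi) (h2 a)) 1 := by
  intro j r hr
  rw [two_apply]
  simp only [Equiv.Perm.coe_one, id_eq] at hr
  split_ifs <;> simp_all [h2]

include hi in
theorem two_x2_eq (t : F) : two (ne_succ hi) (x2 t) = Matrix.SpecialLinearGroup.transvection (ne_succ hi) t := by
  refine Subtype.ext (Matrix.ext fun r l => ?_)
  rw [two_apply, SpecialLinearGroup.transvection_coe, Matrix.add_apply, Matrix.one_apply, Matrix.single_apply]
  have := ne_succ hi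
  by_cases hr : r = i <;> by_cases hr' : r = i' <;> by_cases hl : l = i <;> by_cases hl' : l = i' <;>
    simp_all [x2, Ne.symm]

include hi in
theorem two_x2_mem (t : F) : two (ne_succ hi) (x2 t) ∈ Un := by
  rw [two_x2_eq hi]; exact transvection_mem_U (Fin.lt_def.2 (by omega)) t

omit [CharP F p] [CharP k p] in
theorem T_fixed {x : Fin d → k} (hx : Fixed R x) : Fixed R (T R hi x) := by
  intro u hu
  have hlt : i < i' := Fin.lt_def.2 (by omega)
  rw [T, Matrix.mulVec_sum]
  refine Fintype.sum_bijective _ (Equiv.addLeft (u.1 i i')).bijective _ _ fun t => ?_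
  set φ := two (F := F) (ne_succ hi)
  set v := φ (x2 (-(u.1 i i' + t))) * u * φ (x2 t)
  have hvU : v ∈ Un := mul_mem (mul_mem (two_x2_mem hi _) hu) (two_x2_mem hi _)
  have hv0 : v.1 i i' = 0 := by
    simp only [v, φ, two_x2_eq hi, PSLUnipotent.cmul, SpecialLinearGroup.transvection_coe, add_mul, mul_add,
      one_mul, mul_one, Matrix.add_apply, Matrix.single_mul_apply_same, Matrix.mul_single_apply_same,
      Matrix.single_mul_apply_same, hu.1, hu.2 i' i hlt]
    ring
  have hconj : (φ (w2 F))⁻¹ * v * φ (w2 F) ∈ Un := by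
    refine conj_unitri (two_w2_mon hi) hvU fun j l hlj => ?_
    rcases eq_or_ne (Equiv.swap i i' j) i with hj | hj
    · rcases eq_or_ne (Equiv.swap i i' l) i' with hl | hl
      · rw [hj, hl, hv0]
      · refine hvU.2 _ _ ?_
        rw [hj]
        rw [Equiv.swap_apply_eq_iff, Equiv.swap_apply_left] at hj
        subst hj
        rcases eq_or_ne l i with rfl | hl'
        · exact absurd (Equiv.swap_apply_left l j) hl
        · rw [Equiv.swap_apply_of_ne_of_ne hl' hlj.ne]
          have : (l : ℕ) < (j : ℕ) := hlj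
          have : (l : ℕ) ≠ (i : ℕ) := fun e => hl' (Fin.ext e)
          exact Fin.lt_def.2 (by omega)
    · refine hvU.2 _ _ (Fin.lt_def.2 ?_)
      have hlj' : (l : ℕ) < (j : ℕ) := hlj
      rcases eq_or_ne j i with rfl | hji
      · rw [Equiv.swap_apply_left, Equiv.swap_apply_of_ne_of_ne hlj.ne (fun e => by rw [e] at hlj'; omega)]
        omega
      · rcases eq_or_ne j i' with rfl | hji'
        · exact absurd (Equiv.swap_apply_right i j) hj
        · rw [Equiv.swap_apply_of_ne_of_ne hji hji']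
          have h1 : (j : ℕ) ≠ i := fun e => hji (Fin.ext e)
          have h2 : (j : ℕ) ≠ i' := fun e => hji' (Fin.ext e)
          rw [Equiv.swap_apply_def]
          split_ifs with e1 e2 <;> [subst e1; subst e2; skip] <;> omega
  rw [← rep_mul, show u * φ (x2 t * w2 F) =
      φ (x2 (u.1 i i' + t) * w2 F) * ((φ (w2 F))⁻¹ * v * φ (w2 F)) from ?_, rep_mul, hx _ hconj]
  · rfl
  · have e : φ (x2 (u.1 i i' + t)) * φ (x2 (-(u.1 i i' + t))) = 1 := by
      rw [← map_mul, x2_mul, add_neg_cancel, show x2 (0 : F) = 1 from Subtype.ext (by simp [x2, Matrix.one_fin_two]), map_one]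
    simp only [v, map_mul, mul_assoc, mul_inv_cancel_left]
    rw [← mul_assoc (φ (x2 (u.1 i i' + t))) (φ (x2 (-(u.1 i i' + t)))), e, one_mul]

include p hp in
theorem T_injective {x : Fin d → k} (hx : Fixed R x) (hT : T R hi x = 0) : x = 0 := by
  by_contra h0
  obtain ⟨m, hm, hm0⟩ := exists_SU_ne R p hx h0
  apply hm0
  set φ := two (F := F) (ne_succ hi)
  set w := φ (w2 F)
  have hw := two_w2_mon (F := F) hi
  set m' := m * w⁻¹ with hm'
  have hmon : IsMon m' (Fin.revPerm * (Equiv.swap i i')⁻¹) := hm.mul hw.inv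
  set σ := Fin.revPerm * (Equiv.swap i i')⁻¹ with hσ
  have hlt : σ i < σ i' := by
    simp only [hσ, Equiv.swap_inv, Equiv.Perm.mul_apply, Equiv.swap_apply_left, Equiv.swap_apply_right,
      Fin.revPerm_apply]
    exact Fin.rev_lt_rev.2 (Fin.lt_def.2 (by omega))
  have hconj : ∀ t : F, m' * φ (x2 t) * m'⁻¹ ∈ Un := by
    intro t
    rw [two_x2_eq hi, mon_transvection hmon, mul_inv_cancel_right]
    exact transvection_mem_U hlt _
  let ψ : Multiplicative F →* ↥Un :=
    MonoidHom.mk' (fun t => ⟨m' * φ (x2 t.toAdd) * m'⁻¹, hconj _⟩) fun a b => Subtype.ext (by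
      show m' * φ (x2 (a.toAdd + b.toAdd)) * m'⁻¹ = _ * (m' * φ (x2 b.toAdd) * m'⁻¹)
      rw [← x2_mul, map_mul]; group)
  have hinj : Function.Injective ψ := by
    intro a b h
    have h' : φ (x2 a.toAdd) = φ (x2 b.toAdd) := mul_left_cancel (mul_right_cancel (congrArg Subtype.val h))
    have := congrArg (fun g : SLn => g.1 i i') h'
    simp only [φ, two_apply] at this
    exact Multiplicative.toAdd.injective (by simpa [x2, (ne_succ hi).symm] using this)
  rw [SU, sum_cosets ψ.range]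
  refine Finset.sum_eq_zero fun q _ => ?_
  refine Eq.trans (Eq.trans ?_ (sum_range_hom ψ hinj (fun z : ↥Un => R.rep (((q.out * z : ↥Un) : SLn) * m) *ᵥ x))) ?_
  · exact Finset.sum_congr (Finset.ext fun z => iff_of_true (@Finset.mem_univ _ (_) z) (@Finset.mem_univ _ (_) z)) fun _ _ => rfl
  rw [show (0 : Fin d → k) = R.rep ((q.out : SLn) * m') *ᵥ T R hi x by rw [hT, Matrix.mulVec_zero],
    T, Matrix.mulVec_sum]
  refine Fintype.sum_equiv (Multiplicative.toAdd (α := F)) _ _ fun t => ?_
  rw [← rep_mul]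
  congr 2
  show (q.out : SLn) * (m' * φ (x2 t.toAdd) * m'⁻¹) * m = _
  rw [hm', map_mul]
  simp only [φ, w]
  group

omit [CharP F p] [CharP k p] in
theorem T_add (a b : Fin d → k) : T R hi (a + b) = T R hi a + T R hi b := by
  simp only [T, Matrix.mulVec_add, Finset.sum_add_distrib]

omit [CharP F p] [CharP k p] in
theorem T_smul (a : k) (b : Fin d → k) : T R hi (a • b) = a • T R hi b := by
  simp only [T, Matrix.mulVec_smul, Finset.smul_sum]

include p hp in
theorem T_T {x : Fin d → k} (hx : Fixed R x) :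
    T R hi (T R hi x) = ∑ b : Fˣ, R.rep (two (ne_succ hi) (h2 b)) *ᵥ T R hi x := by
  set φ := two (F := F) (ne_succ hi)
  have e1 : T R hi (T R hi x) = ∑ a : F, ∑ t : F, R.rep (φ (x2 t * w2 F * (x2 a * w2 F))) *ᵥ x := by
    rw [Finset.sum_comm, T]
    refine Fintype.sum_congr _ _ fun t => ?_
    rw [T, Matrix.mulVec_sum]
    refine Fintype.sum_congr _ _ fun a => ?_
    rw [← rep_mul, ← map_mul]
  have h0 : ∑ t : F, R.rep (φ (x2 t * w2 F * (x2 (0 : F) * w2 F))) *ᵥ x = 0 := by
    have hfix : ∀ t : F, R.rep (φ (x2 t * w2 F * (x2 (0 : F) * w2 F))) *ᵥ x = R.rep (φ (h2 (-1))) *ᵥ x := by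
      intro t
      rw [show x2 t * w2 F * (x2 (0 : F) * w2 F) = x2 t * h2 (-1) by
        rw [show x2 (0 : F) = 1 from Subtype.ext (by simp [x2, Matrix.one_fin_two]), one_mul, mul_assoc, w2_sq],
        map_mul, rep_mul, fixed_diag R (two_h2_mon hi _) hx _ (two_x2_mem hi t)]
    rw [Finset.sum_congr rfl fun t _ => hfix t, Finset.sum_const, Finset.card_univ, ← Nat.cast_smul_eq_nsmul k]
    obtain ⟨e, -, he⟩ := FiniteField.card F p
    rw [he, Nat.cast_pow, CharP.cast_eq_zero k p, zero_pow e.pos.ne', zero_smul]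
  rw [e1, ← Finset.sum_erase (s := Finset.univ) (a := (0 : F))
    (f := fun a => ∑ t : F, R.rep (φ (x2 t * w2 F * (x2 a * w2 F))) *ᵥ x) h0]
  refine Finset.sum_bij (fun a ha => Units.mk0 (-a⁻¹) (neg_ne_zero.2 (inv_ne_zero (Finset.mem_erase.1 ha).1)))
    (fun _ _ => Finset.mem_univ _) (fun a _ b _ h => ?_) (fun b _ => ?_) fun a ha => ?_
  · simpa using congrArg Units.val h
  · exact ⟨-(b : F)⁻¹, Finset.mem_erase.2 ⟨by simp, Finset.mem_univ _⟩, Units.ext (by simp [inv_neg])⟩
  · have ha0 := (Finset.mem_erase.1 ha).1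
    rw [T, Matrix.mulVec_sum]
    refine Fintype.sum_bijective (fun t => a ^ 2 * t - a)
      ((Equiv.mulLeft₀ (a ^ 2) (pow_ne_zero 2 ha0)).trans (Equiv.subRight a)).bijective _ _ fun t => ?_
    rw [w2_x2_w2 ha0, map_mul, map_mul φ (x2 (a ^ 2 * t - a) * w2 F), rep_mul, rep_mul,
      hx _ (two_x2_mem hi _)]

include p hp in
theorem hfix (b : Fˣ) {x : Fin d → k} (hx : Fixed R x) : R.rep (two (ne_succ hi) (h2 b)) *ᵥ x = x := by
  let L : fixedSub R →ₗ[k] fixedSub R :=
    { toFun := fun y => ⟨T R hi y.1, T_fixed R hi y.2⟩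
      map_add' := fun a b => Subtype.ext (T_add R hi a.1 b.1)
      map_smul' := fun a b => Subtype.ext (T_smul R hi a b.1) }
  have hinj : Function.Injective L := by
    rw [injective_iff_map_eq_zero]
    exact fun y hy => Subtype.ext (T_injective R p hi y.2 (congrArg Subtype.val hy))
  have hTC : ∀ y, Fixed R y → T R hi y = ∑ c : Fˣ, R.rep (two (ne_succ hi) (h2 c)) *ᵥ y := by
    intro y hy
    obtain ⟨z, hz⟩ := LinearMap.injective_iff_surjective.1 hinj ⟨y, hy⟩
    have e : T R hi z.1 = y := congrArg Subtype.val hz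
    rw [← e]
    exact T_T R p hi z.2
  have hd : Fixed R (R.rep (two (ne_succ hi) (h2 b)) *ᵥ x - x) :=
    (fixedSub R).sub_mem (fixed_diag R (two_h2_mon hi b) hx) hx
  refine sub_eq_zero.1 (T_injective R p hi hd ?_)
  rw [hTC _ hd]
  simp only [Matrix.mulVec_sub, Finset.sum_sub_distrib, ← rep_mul, ← map_mul, h2_mul]
  rw [sub_eq_zero]
  exact Fintype.sum_equiv (Equiv.mulRight b) _ _ fun c => rfl

end Simple

include p hp in
/-- the diagonal elements fix the fixed vectors -/
theorem torus_fix {h : SLn} (hh : IsMon h 1) {x : Fin d → k} (hx : Fixed R x) : R.rep h *ᵥ x = x := by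
  suffices key : ∀ m : ℕ, ∀ g : SLn, IsMon g 1 → (∀ j : Fin n, m ≤ j → g.1 j j = 1) → R.rep g *ᵥ x = x from
    key n h hh fun j hj => absurd j.2 (by omega)
  intro m
  induction m with
  | zero =>
    intro g hg h1
    have : g = 1 := Subtype.ext (Matrix.ext fun r l => by
      rcases eq_or_ne r l with rfl | hrl
      · rw [h1 r (Nat.zero_le _)]; simp
      · rw [hg l r (by simpa using hrl)]; simp [hrl])
    rw [this, map_one, Matrix.one_mulVec]
  | succ m ih =>
    intro g hg h1
    by_cases hm : m < n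
    swap
    · exact ih g hg fun j hj => absurd j.2 (by omega)
    set j₀ : Fin n := ⟨m, hm⟩
    have hdiag : ∏ j, g.1 j j = 1 := by
      have := g.2
      rwa [Matrix.det_of_isUpperTriangular (fun r l hlr => hg l r (by simpa using (ne_of_gt hlr)))] at this
    rcases Nat.eq_zero_or_pos m with rfl | hm0
    · refine ih g hg fun j _ => ?_
      rcases eq_or_ne j j₀ with rfl | hj
      · rwa [Fintype.prod_eq_single j₀ (fun l hl => h1 l (by
          have : (l : ℕ) ≠ 0 := fun e => hl (Fin.ext e)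
          omega))] at hdiag
      · exact h1 j (by
          have : (j : ℕ) ≠ 0 := fun e => hj (Fin.ext e)
          omega)
    set i : Fin n := ⟨m - 1, by omega⟩
    have hi : (i : ℕ) + 1 = j₀ := by show m - 1 + 1 = m; omega
    set b : Fˣ := Units.mk0 (g.1 j₀ j₀) (by simpa using isMon_ne_zero hg j₀)
    set h' := two (ne_succ hi) (h2 b)
    have hg' : IsMon (h' * g) 1 := by simpa using (two_h2_mon hi b).mul hg
    have e := ih (h' * g) hg' fun j hj => by
      rw [PSLUnipotent.cmul, isMon_mul_left hg, Equiv.Perm.coe_one, id_eq, two_apply]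
      rcases eq_or_ne j j₀ with rfl | hj'
      · simp [b, h2, (ne_succ hi).symm, inv_mul_cancel₀ (show g.1 j₀ j₀ ≠ 0 by simpa using isMon_ne_zero hg j₀)]
      · have : (j : ℕ) ≠ m := fun e => hj' (Fin.ext e)
        have hji : j ≠ i := fun e => by
          have : (j : ℕ) = m - 1 := congrArg Fin.val e
          omega
        simp [hji, hj', h1 j (by omega)]
    rwa [rep_mul, hfix R p hi b (fixed_diag R hg hx)] at e

include p hp in
/-- elements of the big cell all act alike -/
theorem SU_big {g w : SLn} (hw : IsMon w Fin.revPerm) (hg : Big g) {x : Fin d → k} (hx : Fixed R x) :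
    SU R g x = SU R w x := by
  obtain ⟨u, m, u', hu, hu', hm, rfl⟩ := hg
  have h1 : IsMon (m * w⁻¹) 1 := by simpa using hm.mul hw.inv
  rw [SU_cell R hu hu' hx, show m = m * w⁻¹ * w by group, SU_diag R h1, torus_fix R p h1 (SU_fixed R w x)]

/-- the scalar by which `U g` acts on fixed vectors -/
noncomputable def scal (k : Type) [Field k] (w g : SLn) : k :=
  if Big g then ((Finset.univ.filter fun v : Un => Big (w * (v : SLn) * w)).card : k) else 0

include p hp in
theorem SU_scal {w : SLn} (hw : IsMon w Fin.revPerm) (g : SLn) {x : Fin d → k} (hx : Fixed R x) :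
    SU R g x = scal k w g • x := by
  unfold scal
  by_cases hg : Big g
  swap
  · rw [if_neg hg, zero_smul, SU_not_big R p hg hx]
  rw [if_pos hg]
  set N := ((Finset.univ.filter fun v : Un => Big (w * (v : SLn) * w)).card : k)
  rw [SU_big R p hw hg hx]
  have hlin : SU R w (SU R w x) = N • SU R w x := by
    have e : SU R w (SU R w x) = ∑ v : Un, SU R (w * (v : SLn) * w) x := by
      simp only [SU, Matrix.mulVec_sum, ← rep_mul]
      rw [Finset.sum_comm]
      simp only [mul_assoc]
    rw [e]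
    have : ∀ v : Un, SU R (w * (v : SLn) * w) x = if Big (w * (v : SLn) * w) then SU R w x else 0 := by
      intro v
      by_cases h : Big (w * (v : SLn) * w)
      · rw [if_pos h, SU_big R p hw h hx]
      · rw [if_neg h, SU_not_big R p h hx]
    rw [Finset.sum_congr rfl fun v _ => this v, ← Finset.sum_filter, Finset.sum_const, ← Nat.cast_smul_eq_nsmul k]
  set y := SU R w x - N • x with hy
  have hyf : Fixed R y := (fixedSub R).sub_mem (SU_fixed R w x) ((fixedSub R).smul_mem N hx)
  have hy0 : SU R w y = 0 := by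
    have : SU R w y = SU R w (SU R w x) - N • SU R w x := by
      simp only [hy, SU, Matrix.mulVec_sub, Matrix.mulVec_smul, Finset.sum_sub_distrib, Finset.smul_sum]
    rw [this, hlin, sub_self]
  by_contra hne
  obtain ⟨m, hm, hm0⟩ := exists_SU_ne R p hyf (sub_ne_zero.2 hne)
  refine hm0 ?_
  rw [SU_big R p hw ⟨1, m, 1, one_mem _, one_mem _, hm, by simp⟩ hyf, hy0]

include p hp in
/-- two reductions are related: relations of one orbit hold in the other -/
theorem transfer {d' : ℕ} (R' : Red SLn k d') {w : SLn} (hw : IsMon w Fin.revPerm) {x : Fin d → k}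
    {x' : Fin d' → k} (hx : Fixed R x) (h0 : x ≠ 0) (hx' : Fixed R' x') (h0' : x' ≠ 0) {a : SLn → k}
    (h : ∑ g, a g • R.rep g *ᵥ x = 0) : ∑ g, a g • R'.rep g *ᵥ x' = 0 := by
  by_contra hne
  obtain ⟨B, hB⟩ := exists_norm R'
  obtain ⟨b, hb⟩ := span_orbit R' hne (B x')
  apply h0'
  rw [hB x' hx', hb]
  simp only [Matrix.mulVec_sum, Matrix.mulVec_smul]
  rw [Finset.sum_comm]
  refine Finset.sum_eq_zero fun g _ => ?_
  rw [← Finset.smul_sum]
  have key : ∀ {e : ℕ} (Q : Red SLn k e) (z : Fin e → k), Fixed Q z →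
      ∑ u : Un, Q.rep (u : SLn) *ᵥ (Q.rep g *ᵥ ∑ g', a g' • Q.rep g' *ᵥ z) =
        (∑ g', a g' * scal k w (g * g')) • z := by
    intro e Q z hz
    simp only [Matrix.mulVec_sum, Matrix.mulVec_smul, ← rep_mul]
    rw [Finset.sum_comm, Finset.sum_smul]
    refine Finset.sum_congr rfl fun g' _ => ?_
    rw [← Finset.smul_sum, mul_smul, ← SU_scal Q p hw (g * g') hz]
    simp only [SU]
  have h1 := key R x hx
  rw [h] at h1
  simp only [Matrix.mulVec_zero, Finset.sum_const_zero] at h1
  have hz : ∑ g', a g' * scal k w (g * g') = 0 := (smul_eq_zero.1 h1.symm).resolve_right h0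
  have h2 := key R' x' hx'
  rw [hz, zero_smul] at h2
  simp only [Matrix.mulVec_sum, Matrix.mulVec_smul] at h2
  rw [h2, smul_zero]

include p hp in
/-- two reductions of defect zero are not orthogonal -/
theorem not_orth {d' : ℕ} (R' : Red SLn k d') : ¬ Orth R R' := by
  intro horth
  obtain ⟨x, h0, hx⟩ := exists_fixed R p
  obtain ⟨x', h0', hx'⟩ := exists_fixed R' p
  obtain ⟨w, hw, -⟩ := exists_SU_ne R p hx h0
  obtain ⟨i, hi⟩ := Function.ne_iff.1 h0
  let φ : Fin d → k := Pi.single i (x i)⁻¹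
  have hφ : φ ⬝ᵥ x = 1 := by rw [single_dotProduct, inv_mul_cancel₀ hi]
  set a : SLn → k := fun g => R.c * (φ ⬝ᵥ (R.rep g⁻¹ *ᵥ x)) with ha
  have h1 : ∑ g, a g • R.rep g *ᵥ x = x := by
    have h := congrArg (fun M : Matrix (Fin d) (Fin d) k => M *ᵥ x) (R.avg (Matrix.vecMulVec x φ))
    rw [Matrix.trace_vecMulVec, dotProduct_comm, hφ, one_smul, Matrix.one_mulVec, Matrix.smul_mulVec,
      Matrix.sum_mulVec] at h
    refine Eq.trans ?_ h
    rw [Finset.smul_sum, ← Equiv.sum_comp (Equiv.inv _)]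
    refine Finset.sum_congr rfl fun g _ => ?_
    simp only [ha, Equiv.inv_apply, inv_inv, ← Matrix.mulVec_mulVec, Matrix.vecMulVec_mulVec, smul_smul,
      op_smul_eq_smul, Matrix.mulVec_smul]
  have h2 : ∑ g, a g • R'.rep g *ᵥ x' = 0 := by
    have h := congrArg (fun M : Matrix (Fin d') (Fin d) k => R.c • (M *ᵥ x)) (horth (Matrix.vecMulVec x' φ))
    rw [Matrix.zero_mulVec, smul_zero, Matrix.sum_mulVec, Finset.smul_sum, ← Equiv.sum_comp (Equiv.inv _)] at h
    refine Eq.trans ?_ h
    refine Finset.sum_congr rfl fun g _ => ?_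
    simp only [ha, Equiv.inv_apply, inv_inv, ← Matrix.mulVec_mulVec, Matrix.vecMulVec_mulVec, smul_smul,
      op_smul_eq_smul, Matrix.mulVec_smul]
  set b : SLn → k := fun g => a g - (if g = 1 then 1 else 0)
  have hb : ∀ {e : ℕ} (Q : Red SLn k e) (z : Fin e → k),
      ∑ g, b g • Q.rep g *ᵥ z = (∑ g, a g • Q.rep g *ᵥ z) - z := by
    intro e Q z
    simp [b, sub_smul, Finset.sum_sub_distrib, ite_smul]
  have h3 := transfer R p R' hw hx h0 hx' h0' (a := b) (by rw [hb, h1, sub_self])
  rw [hb, h2, zero_sub, neg_eq_zero] at h3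
  exact h0' h3

end Cfsg.Agent.SLDefectZeroUnique
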