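import Cfsg.Agent.Lib.SLDefiningFlag
import Cfsg.Agent.Lib.BlockContribBounds
import Cfsg.Agent.Lib.BlockTheoryFirstMain
import Cfsg.Agent.S0914

/-!
Blocks of `SL n F` in the defining characteristic: every block has defect zero or full defect, and the
blocks of full defect correspond to the linear characters of the centre.
-/

set_option autoImplicit false
set_option linter.unusedSectionVars false

namespace Cfsg.Agent.SLDefiningBlocks

open Cfsg Cfsg.Agent.BlockTheoryLocalRing Cfsg.Agent.BlockTheoryCentre Cfsg.Agent.BlockTheoryIdem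
  Cfsg.Agent.BlockTheoryBrauer Cfsg.Agent.BlockTheoryDefect Cfsg.Agent.SLDefiningFlag

attribute [local instance] Classical.propDecidable

variable {F : Type*} [Field F] [Fintype F] {n : ℕ} [NeZero n] {p : ℕ} [hp : Fact p.Prime] [CharP F p]
  {M : Ideal AlgInt}

local notation "SLn" => Matrix.SpecialLinearGroup (Fin n) F

omit [CharP F p] in
/-- what centralises a defect group centralises the radical, which is the defect group itself -/
theorem radical_eq [CharP F p] (hM : IsPModular p M) {B : Set (IrrCharacter SLn)} (hB : IsPBlock M B)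
    {D : Subgroup SLn} (hD : IsDefectGroup p M B D) : radical D = D := by
  have := Fintype.ofFinite SLn
  have hDp := isPGroup_of_isDefectGroup hD
  set N := Subgroup.normalizer (D : Set SLn) with hN
  have : Fintype N := Fintype.ofFinite N
  have hDN : D ≤ N := Subgroup.le_normalizer
  obtain ⟨b, hind⟩ := BlockTheoryFirstMain.exists_inducing hM hB hDp N hDN
    (Subgroup.centralizer_le_normalizer _) le_rfl (not_small_cut_defect hM hB hD)
  obtain ⟨E, hE⟩ := exists_defectGroup (G := N) hM hind.1
  rw [BlockTheoryFirstMain.defect_eq_of_induced hM hD N hDN le_rfl hind hE] at hE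
  have : ((radical D).subgroupOf N).Normal := ⟨fun a ha x => by
    rw [Subgroup.mem_subgroupOf] at ha ⊢
    simpa using radical_conj x.2 ha⟩
  have hle := normal_le_defectGroup hM hind.1 hE ((radical D).subgroupOf N)
    ((isPGroup_radical p hDp).comap_subtype)
  by_contra hne
  set R := radical D
  have hDR : D ≤ R := le_radical D
  have : Group.IsNilpotent R := (isPGroup_radical p hDp).isNilpotent
  have hltop : D.subgroupOf R < ⊤ := by
    refine lt_top_iff_ne_top.2 fun h => hne (le_antisymm ?_ hDR)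
    exact Subgroup.subgroupOf_eq_top.1 h
  obtain ⟨y, hy, hyD⟩ := SetLike.exists_of_lt (Group.normalizerCondition_of_isNilpotent _ hltop)
  have hyN : (y : SLn) ∈ N := by
    refine Subgroup.mem_normalizer_iff.2 fun h => ⟨fun hh => ?_, fun hh => ?_⟩
    · have := (Subgroup.mem_normalizer_iff.1 hy ⟨h, hDR hh⟩).1 (Subgroup.mem_subgroupOf.2 hh)
      simpa [Subgroup.mem_subgroupOf] using this
    · have hhR : h ∈ R := by
        have := mul_mem (mul_mem (inv_mem y.2) (hDR hh)) y.2
        simpa [mul_assoc] using this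
      have := (Subgroup.mem_normalizer_iff.1 hy ⟨h, hhR⟩).2 (by simpa [Subgroup.mem_subgroupOf] using hh)
      simpa [Subgroup.mem_subgroupOf] using this
  exact hyD (Subgroup.mem_subgroupOf.2 (hle (x := ⟨y, hyN⟩) y.2))

/-- an element of order prime to `p` centralising a nontrivial defect group is central -/
theorem mem_center (hM : IsPModular p M) {B : Set (IrrCharacter SLn)} (hB : IsPBlock M B)
    {D : Subgroup SLn} (hD : IsDefectGroup p M B D) (hne : D ≠ ⊥) {g : SLn} (hreg : ¬ p ∣ orderOf g)
    (hg : g ∈ Subgroup.centralizer (D : Set SLn)) : g ∈ Subgroup.center SLn := by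
  refine mem_center_of_comm p (isPGroup_of_isDefectGroup hD) hne hreg fun r hr => ?_
  rw [radical_eq hM hB hD] at hr
  exact Subgroup.mem_centralizer_iff.1 hg r hr

theorem defect_full (hM : IsPModular p M) {B : Set (IrrCharacter SLn)} (hB : IsPBlock M B) :
    blockDefect p B = 0 ∨ blockDefect p B = (Nat.card SLn).factorization p := by
  have := Fintype.ofFinite SLn
  obtain ⟨D, hD⟩ := exists_defectGroup (G := SLn) hM hB
  have hcard := BlockContribBounds.card_defectGroup hM hB hD
  rcases eq_or_ne D ⊥ with rfl | hne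
  · left
    rw [Subgroup.card_bot] at hcard
    rcases Nat.pow_eq_one.1 hcard.symm with h | h
    · exact absurd h hp.out.ne_one
    · exact h
  right
  obtain ⟨g, hg, S, hS⟩ := id hD
  have hreg : ¬ p ∣ orderOf g := fun h => hg.2.1 (by rw [blockCoeff_eq_zero_of_dvd hM hB h]; exact ideal_zero hM)
  have hgC : g ∈ Subgroup.centralizer (D : Set SLn) := by
    rw [hS]; exact mem_centralizer_sylowIn S
  have htop : Subgroup.centralizer ({g} : Set SLn) = ⊤ := by
    refine Subgroup.centralizer_eq_top_iff_subset.2 ?_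
    simpa using mem_center hM hB hD hne hreg hgC
  rw [hS, Subgroup.card_map_of_injective Subtype.val_injective, Sylow.card_eq_multiplicity, htop,
    Subgroup.card_top] at hcard
  exact (Nat.pow_right_injective hp.out.two_le hcard).symm

theorem dvd_card (hn : 2 ≤ n) : p ∣ Nat.card SLn := by
  obtain ⟨b, -, hb⟩ := PSLUnipotent.card_SL_factor (F := F) (n := n) p
  obtain ⟨e, he0, he⟩ := PSLUnipotent.card_eq_prime_pow (F := F) p
  rw [hb, PSLUnipotent.card_U, he, ← pow_mul]
  refine dvd_mul_of_dvd_left (dvd_pow_self p (Nat.mul_ne_zero he0.ne' ?_)) _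
  intro h
  have := (Finset.sum_eq_zero_iff.1 h) ⟨1, hn⟩ (Finset.mem_univ _)
  simp at this

theorem factorization_pos (hn : 2 ≤ n) : 0 < (Nat.card SLn).factorization p :=
  hp.out.factorization_pos_of_dvd Nat.card_pos.ne' (dvd_card hn)

theorem not_dvd_card_center : ¬ p ∣ Nat.card (Subgroup.center SLn) := by
  intro h
  rw [PSLCard.card_center_SL] at h
  obtain ⟨e, he0, he⟩ := PSLUnipotent.card_eq_prime_pow (F := F) p
  have h1 : p ∣ Nat.card F - 1 := h.trans (Nat.gcd_dvd_right _ _)
  have h2 : p ∣ Nat.card F := by rw [he]; exact dvd_pow_self p he0.ne'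
  have := Nat.dvd_sub h2 h1
  rw [Nat.sub_sub_self Nat.card_pos] at this
  exact hp.out.not_dvd_one this

omit [CharP F p] in
/-- roots of unity of order prime to `p` are determined by their residue -/
theorem root_unity_eq (hM : IsPModular p M) {m : ℕ} (hm : ¬ p ∣ m) {a b : ℂ} (ha : a ^ m = 1)
    (hb : b ^ m = 1) (h : MemLocalIdeal M (a - b)) : a = b := by
  have hm0 : m ≠ 0 := by rintro rfl; exact hm (dvd_zero p)
  have hR : ∀ {z : ℂ}, z ^ m = 1 → MemLocalRing M z := fun hz =>
    of_isIntegral hM ((IsIntegral.of_pow (Nat.pos_of_ne_zero hm0)) (by rw [hz]; exact isIntegral_one))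
  have hb' : b * b ^ (m - 1) = 1 := by rw [← pow_succ', Nat.sub_add_cancel (Nat.pos_of_ne_zero hm0), hb]
  set ζ := a * b ^ (m - 1) with hζ
  have hζm : ζ ^ m = 1 := by rw [hζ, mul_pow, ha, one_mul, ← pow_mul, mul_comm, pow_mul, hb, one_pow]
  have hζ1 : MemLocalIdeal M (ζ - 1) := by
    rw [show ζ - 1 = (a - b) * b ^ (m - 1) by rw [sub_mul, hb', hζ]]
    exact ideal_mul_right hM h ((localRing hM).pow_mem (hR hb) _)
  by_contra hne
  have hne1 : ζ ≠ 1 := fun e => hne (by
    calc a = a * (b * b ^ (m - 1)) := by rw [hb', mul_one]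
      _ = ζ * b := by rw [hζ]; ring
      _ = b := by rw [e, one_mul])
  have hgeom : (m : ℂ) = -∑ i ∈ Finset.range m, (ζ ^ i - 1) := by
    rw [Finset.sum_sub_distrib, geom_sum_eq hne1, hζm]
    simp
  refine hm ((natCast_mem_iff hM).1 ?_)
  rw [hgeom]
  refine ideal_neg (ideal_sum hM fun i _ => ?_)
  rw [← geom_sum_mul ζ i, mul_comm]
  exact ideal_mul_right hM hζ1 ((localRing hM).sum_mem fun j _ => (localRing hM).pow_mem (hR hζm) j)

section Theta

noncomputable local instance instFintypeSL : Fintype (Matrix.SpecialLinearGroup (Fin n) F) :=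
  Fintype.ofFinite _

theorem classSum_center {z : SLn} (hz : z ∈ Subgroup.center SLn) :
    classSum z = MonoidAlgebra.single z 1 := by
  refine MonoidAlgebra.ext ?_
  refine Finsupp.ext fun y => ?_
  rw [classSum, coeff_ofFun, MonoidAlgebra.coeff_single, Finsupp.single_apply]
  have hiff : IsConj z y ↔ z = y := by
    constructor
    · intro h
      obtain ⟨c, hc⟩ := isConj_iff.1 h
      rw [← hc, Subgroup.mem_center_iff.1 hz c, mul_inv_cancel_right]
    · intro h
      exact isConj_iff.2 ⟨1, by rw [one_mul, inv_one, mul_one, h]⟩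
  by_cases h : z = y
  · rw [if_pos (hiff.2 h), if_pos h]
  · rw [if_neg (fun hc => h (hiff.1 hc)), if_neg h]

theorem centralChar_eq (χ : IrrCharacter SLn) (z : SLn) :
    centralChar (χ : SLn → ℂ) z = omega (χ : SLn → ℂ) (classSum z) :=
  (omega_classSum (irr_classFun χ) z).symm

theorem centralChar_mul (χ : IrrCharacter SLn) {z w : SLn} (hz : z ∈ Subgroup.center SLn)
    (hw : w ∈ Subgroup.center SLn) :
    centralChar (χ : SLn → ℂ) (z * w) = centralChar (χ : SLn → ℂ) z * centralChar (χ : SLn → ℂ) w := by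
  rw [centralChar_eq, centralChar_eq, centralChar_eq, ← omega_mul χ (isCen_classSum z), classSum_center hz,
    classSum_center hw, classSum_center (mul_mem hz hw), MonoidAlgebra.single_mul_single, mul_one]

theorem centralChar_one (χ : IrrCharacter SLn) : centralChar (χ : SLn → ℂ) 1 = 1 := by
  rw [centralChar_eq, classSum_center (one_mem _), ← MonoidAlgebra.one_def, omega_one]

/-- the central character on the centre -/
noncomputable def theta (χ : IrrCharacter SLn) : Subgroup.center SLn →* ℂˣ :=
  MonoidHom.toHomUnits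
    { toFun := fun z => centralChar (χ : SLn → ℂ) z
      map_one' := centralChar_one χ
      map_mul' := fun z w => centralChar_mul χ z.2 w.2 }

theorem coe_theta (χ : IrrCharacter SLn) (z : Subgroup.center SLn) :
    (theta χ z : ℂ) = centralChar (χ : SLn → ℂ) z := rfl

theorem theta_pow (θ : Subgroup.center SLn →* ℂˣ) (z : Subgroup.center SLn) :
    (θ z : ℂ) ^ Nat.card (Subgroup.center SLn) = 1 := by
  rw [← Units.val_pow_eq_pow_val, ← map_pow, pow_card_eq_one', map_one, Units.val_one]

theorem theta_eq_of_sameBlock (hM : IsPModular p M) {χ ψ : IrrCharacter SLn}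
    (h : SameBlock M (χ : SLn → ℂ) (ψ : SLn → ℂ)) : theta χ = theta ψ :=
  MonoidHom.ext fun z => Units.ext <|
    root_unity_eq hM (not_dvd_card_center (F := F) (n := n)) (theta_pow _ z) (theta_pow _ z) (h z)

/-- the idempotent attached to a character of the centre -/
theorem blockCoeff_fiber (θ : Subgroup.center SLn →* ℂˣ) :
    blockCoeff {χ : IrrCharacter SLn | theta χ = θ} 1 = (Nat.card (Subgroup.center SLn) : ℂ)⁻¹ := by
  let Z := Subgroup.center SLn
  have hZ : (Nat.card Z : ℂ) ≠ 0 := Nat.cast_ne_zero.2 Nat.card_pos.ne'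
  set e : MonoidAlgebra ℂ SLn := (Nat.card Z : ℂ)⁻¹ • ∑ z : Z, ((θ z⁻¹ : ℂˣ) : ℂ) • classSum (z : SLn) with he
  have hec : IsCen e := IsCen.smul (Finset.sum_induction _ IsCen (fun a b ha hb => ha.add hb) isCen_zero
    fun z _ => (isCen_classSum _).smul _) _
  have key : idem {χ : IrrCharacter SLn | theta χ = θ} = e := ext_omega (isCen_idem _) hec fun χ => by
    rw [omega_idem, he, map_smul, map_sum, smul_eq_mul]
    simp only [map_smul, smul_eq_mul, omega_classSum (irr_classFun χ), ← coe_theta, ← Units.val_mul,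
      map_inv]
    set ψ : Z →* ℂˣ := θ⁻¹ * theta χ
    have hψ : ∀ z, (θ z)⁻¹ * theta χ z = ψ z := fun z => rfl
    simp only [hψ]
    by_cases h : theta χ = θ
    · rw [if_pos (show χ ∈ {χ : IrrCharacter SLn | theta χ = θ} from h)]
      have : ∀ z, ψ z = 1 := fun z => by simp [ψ, h]
      simp [this, ← Nat.card_eq_fintype_card]
    · rw [if_neg (show χ ∉ {χ : IrrCharacter SLn | theta χ = θ} from h)]
      obtain ⟨w, hw⟩ : ∃ w, ψ w ≠ 1 := by
        by_contra! hall
        refine h (MonoidHom.ext fun z => ?_)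
        have := hall z
        rw [← hψ, inv_mul_eq_one] at this
        exact this.symm
      have hs : (ψ w : ℂ) * ∑ z, (ψ z : ℂ) = ∑ z, (ψ z : ℂ) := by
        rw [Finset.mul_sum]
        exact Fintype.sum_equiv (Equiv.mulLeft w) _ _ fun z => by simp
      rcases eq_or_ne (∑ z, (ψ z : ℂ)) 0 with h0 | h0
      · rw [h0, mul_zero]
      · exact absurd (Units.ext ((mul_eq_right₀ h0).1 hs)) hw
  rw [← coeff_idem, key, he, MonoidAlgebra.coeff_smul_apply, MonoidAlgebra.coeff_sum, Finset.sum_apply',
    smul_eq_mul, Finset.sum_eq_single 1]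
  · simp [classSum_center (one_mem _)]; rfl
  · intro z _ hz
    rw [MonoidAlgebra.coeff_smul_apply, classSum_center z.2, MonoidAlgebra.coeff_single,
      Finsupp.single_apply, if_neg (fun e : ((z : SLn) = 1) => hz (Subtype.ext e)), smul_zero]
  · simp

/-- blocks of positive defect with the same central character coincide -/
theorem eq_of_theta (hM : IsPModular p M) {B B' : Set (IrrCharacter SLn)} (hB : IsPBlock M B)
    (hB' : IsPBlock M B') (hd : blockDefect p B ≠ 0) (hd' : blockDefect p B' ≠ 0) {χ ψ : IrrCharacter SLn}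
    (hχ : χ ∈ B) (hψ : ψ ∈ B') (h : theta χ = theta ψ) : B = B' := by
  have hnc : ∀ (A : Set (IrrCharacter SLn)), IsPBlock M A → blockDefect p A ≠ 0 → ∀ ξ ∈ A, ∀ g : SLn,
      ¬ p ∣ orderOf g → g ∉ Subgroup.center SLn → MemLocalIdeal M (centralChar (ξ : SLn → ℂ) g) := by
    intro A hA hdA ξ hξ g hreg hgc
    by_contra hni
    obtain ⟨D, hD⟩ := exists_defectGroup (G := SLn) hM hA
    have hne : D ≠ ⊥ := by
      rintro rfl
      have hc := BlockContribBounds.card_defectGroup hM hA hD
      rw [Subgroup.card_bot] at hc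
      rcases Nat.pow_eq_one.1 hc.symm with h | h
      · exact hp.out.ne_one h
      · exact hdA h
    obtain ⟨x, hx, hxC⟩ := exists_conj_centralizes hM hA hD ⟨ξ, hξ, hni⟩
    obtain ⟨c, rfl⟩ := isConj_iff.1 hx
    have hz := mem_center hM hA hD hne
      (by rwa [show c * g * c⁻¹ = MulAut.conj c g from rfl, MulEquiv.orderOf_eq]) hxC
    have := Subgroup.Normal.conj_mem inferInstance _ hz c⁻¹
    rw [show c⁻¹ * (c * g * c⁻¹) * c⁻¹⁻¹ = g by group] at this
    exact hgc this
  have hdiff : MemLocalIdeal M (omega (χ : SLn → ℂ) (idem B') - omega (ψ : SLn → ℂ) (idem B')) := by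
    rw [(isCen_idem B').eq_sum_classSum, map_sum, map_sum, ← Finset.sum_sub_distrib]
    refine ideal_sum hM fun C _ => ?_
    simp only [map_smul, smul_eq_mul, omega_classSum (irr_classFun _), ← mul_sub, coeff_idem]
    by_cases hreg : p ∣ orderOf C.out
    · rw [blockCoeff_eq_zero_of_dvd hM hB' hreg, zero_mul]; exact ideal_zero hM
    refine ideal_mul_left hM (blockCoeff_mem hM hB' _) ?_
    by_cases hc : C.out ∈ Subgroup.center SLn
    · rw [← coe_theta χ ⟨_, hc⟩, ← coe_theta ψ ⟨_, hc⟩, h, sub_self]; exact ideal_zero hM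
    · exact ideal_sub hM (hnc B hB hd χ hχ _ hreg hc) (hnc B' hB' hd' ψ hψ _ hreg hc)
  rw [omega_idem, omega_idem, if_pos hψ] at hdiff
  by_cases hmem : χ ∈ B'
  · exact block_eq_of_mem hM hB hB' hχ hmem
  · rw [if_neg hmem, zero_sub] at hdiff
    exact absurd (by simpa using ideal_neg hdiff) (one_not_ideal hM)

theorem charDegree_spec (χ : IrrCharacter SLn) : ∃ d : ℕ, 0 < d ∧ (χ : SLn → ℂ) 1 = d ∧
    charDegree (χ : SLn → ℂ) = d ∧ d ∣ Nat.card SLn := by
  obtain ⟨d, hd, he, hdvd⟩ := CharBasicInt.exists_apply_one_dvd_card χ.2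
  exact ⟨d, hd, he, by simp [charDegree, he], hdvd⟩

/-- a block has defect zero iff it consists of one character of degree divisible by the `p`-part -/
theorem defect_zero_iff (hM : IsPModular p M) {χ : IrrCharacter SLn} :
    blockDefect p (blockOf M (χ : SLn → ℂ)) = 0 ↔
      p ^ (Nat.card SLn).factorization p ∣ charDegree (χ : SLn → ℂ) := by
  obtain ⟨d, hd0, -, hd, hdvd⟩ := charDegree_spec χ
  rw [hd, hp.out.pow_dvd_iff_le_factorization hd0.ne']
  constructor
  · intro h
    have h1 := BlockContribBounds.eq_singleton_of_defect_zero hM (isPBlock_blockOf χ) h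
    have : Subsingleton (blockOf M (χ : SLn → ℂ)) := (Nat.card_eq_one_iff_unique.1 h1).1
    have hs : blockOf M (χ : SLn → ℂ) = {χ} := Set.eq_singleton_iff_unique_mem.2
      ⟨self_mem_blockOf hM χ, fun ψ hψ => congrArg Subtype.val
        (Subsingleton.elim (⟨ψ, hψ⟩ : blockOf M (χ : SLn → ℂ)) ⟨χ, self_mem_blockOf hM χ⟩)⟩
    rw [hs, blockDefect, Set.image_singleton, csInf_singleton, hd] at h
    omega
  · intro h
    have hs : blockOf M (χ : SLn → ℂ) = {χ} := by
      refine (S0914.result p M hM χ).1 ?_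
      rw [hd]
      intro hdiv
      obtain ⟨c, hc⟩ := hdvd
      rw [hc, Nat.mul_div_cancel_left _ hd0] at hdiv
      have hc0 : c ≠ 0 := by
        rintro rfl
        exact Nat.card_pos.ne' (by rw [hc, mul_zero])
      have := congrArg (fun k => k.factorization p) hc
      simp only [Nat.factorization_mul hd0.ne' hc0, Finsupp.add_apply] at this
      have hpos := hp.out.factorization_pos_of_dvd hc0 hdiv
      omega
    rw [hs, blockDefect, Set.image_singleton, csInf_singleton, hd]
    omega

/-- above every character of the centre lies a block of positive defect -/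
theorem exists_block (hM : IsPModular p M) (hn : 2 ≤ n) (θ : Subgroup.center SLn →* ℂˣ) :
    ∃ χ : IrrCharacter SLn, theta χ = θ ∧ blockDefect p (blockOf M (χ : SLn → ℂ)) ≠ 0 := by
  by_contra! hall
  have h := blockCoeff_fiber θ
  have hid : MemLocalIdeal M (blockCoeff {χ : IrrCharacter SLn | theta χ = θ} 1) := by
    rw [blockCoeff_eq_sum, Finset.mul_sum]
    refine ideal_sum hM fun χ _ => ?_
    split_ifs with hχ
    swap
    · rw [mul_zero]; exact ideal_zero hM
    obtain ⟨d, hd0, he, hdeg, -⟩ := charDegree_spec χ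
    have hdvd := (defect_zero_iff hM).1 (hall χ hχ)
    rw [hdeg] at hdvd
    obtain ⟨k, hk⟩ := hdvd
    set N := (Nat.card SLn).factorization p
    have hN : 0 < N := factorization_pos hn
    obtain ⟨r, hr⟩ := Nat.ordProj_dvd (Nat.card SLn) p
    have hr0 : r ≠ 0 := by rintro rfl; exact Nat.card_pos.ne' (by rw [hr, mul_zero])
    have hpr : ¬ p ∣ r := by
      intro hpr
      have := congrArg (fun k => k.factorization p) hr
      simp only [Nat.factorization_mul (pow_ne_zero _ hp.out.ne_zero) hr0, Finsupp.add_apply,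
        hp.out.factorization_pow, Finsupp.single_eq_same] at this
      have hpos := hp.out.factorization_pos_of_dvd hr0 hpr
      omega
    have hp0 : (p : ℂ) ^ N ≠ 0 := pow_ne_zero _ (Nat.cast_ne_zero.2 hp.out.ne_zero)
    rw [he, Complex.conj_natCast, hk, show (Nat.card SLn : ℂ) = ((p ^ N * r : ℕ) : ℂ) by rw [← hr]]
    rw [show ((p ^ N * r : ℕ) : ℂ)⁻¹ * (((p ^ N * k : ℕ) : ℂ) * ((p ^ N * k : ℕ) : ℂ)) =
      (p : ℂ) * ((r : ℂ)⁻¹ * ((p : ℂ) ^ (N - 1) * (k : ℂ) * (k : ℂ))) by
        have hr0' : (r : ℂ) ≠ 0 := Nat.cast_ne_zero.2 hr0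
        have hpp : (p : ℂ) * (p : ℂ) ^ (N - 1) = (p : ℂ) ^ N := by rw [← pow_succ', Nat.sub_add_cancel hN]
        push_cast
        field_simp
        linear_combination (-(k : ℂ) ^ 2) * hpp]
    refine ideal_mul_right hM (natCast_p_mem hM) ((localRing hM).mul_mem (inv_natCast_mem hM hpr) ?_)
    refine of_isIntegral hM ?_
    exact_mod_cast isIntegral_algebraMap (R := ℤ) (A := ℂ) (x := ((p ^ (N - 1) * k * k : ℕ) : ℤ))
  rw [h] at hid
  have := ideal_mul_left hM (of_isIntegral hM (isIntegral_natCast (R := ℤ) (B := ℂ)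
    (Nat.card (Subgroup.center SLn)))) hid
  rw [mul_inv_cancel₀ (Nat.cast_ne_zero.2 Nat.card_pos.ne')] at this
  exact one_not_ideal hM this

/-- the blocks of positive defect are as many as the central elements -/
theorem card_positive (hM : IsPModular p M) (hn : 2 ≤ n) :
    Nat.card {B : Set (IrrCharacter SLn) // IsPBlock M B ∧ blockDefect p B ≠ 0} =
      Nat.card (Subgroup.center SLn) := by
  letI : CommGroup (Subgroup.center SLn) :=
    { (inferInstance : Group (Subgroup.center SLn)) with
      mul_comm := fun a b => Subtype.ext (Subgroup.mem_center_iff.1 b.2 a) }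
  rw [← CommGroup.card_monoidHom_of_hasEnoughRootsOfUnity (Subgroup.center SLn) ℂ]
  choose c hc using fun B : {B : Set (IrrCharacter SLn) // IsPBlock M B ∧ blockDefect p B ≠ 0} =>
    block_nonempty hM B.2.1
  refine Nat.card_congr (Equiv.ofBijective (fun B => theta (c B)) ⟨fun B B' h => Subtype.ext ?_, fun θ => ?_⟩)
  · exact eq_of_theta hM B.2.1 B'.2.1 B.2.2 B'.2.2 (hc B) (hc B') h
  · obtain ⟨χ, hχ, hd⟩ := exists_block hM hn θ
    refine ⟨⟨_, isPBlock_blockOf χ, hd⟩, ?_⟩
    show theta (c _) = θ
    rw [← hχ]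
    exact (theta_eq_of_sameBlock hM (hc ⟨_, isPBlock_blockOf χ, hd⟩)).symm

end Theta

end Cfsg.Agent.SLDefiningBlocks
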