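import Cfsg.Agent.Lib.GLUnipotentChars
import Cfsg.Agent.Lib.CharBasicOrth
import Cfsg.Agent.Lib.CharBasicInt
import Cfsg.Agent.Lib.CharBasicDecomp
import Cfsg.Agent.S2421
import Cfsg.Agent.S2424

/-!
The Steinberg character of `GL n F` stays irreducible on `SL n F` and has degree `q ^ (n choose 2)`.
-/

set_option autoImplicit false
set_option linter.unusedSectionVars false

namespace Cfsg.Agent.SLSteinbergRes

open scoped MatrixGroups ComplexConjugate
open Cfsg

attribute [local instance] Classical.propDecidable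

variable {F : Type*} [Field F] [Fintype F] {n : ℕ}

local notation "SLn" => Matrix.SpecialLinearGroup (Fin n) F
local notation "toG" => (Matrix.SpecialLinearGroup.toGL : Matrix.SpecialLinearGroup (Fin n) F →* GL (Fin n) F)

noncomputable local instance instFintypeSL : Fintype (Matrix.SpecialLinearGroup (Fin n) F) :=
  Fintype.ofFinite _

/-- the orbits of `SL` on pairs of partial flags are those of `GL` -/
theorem orbit_SL [NeZero n] (μ μ' : Fin n → ℕ) (x y : (GL (Fin n) F ⧸ parabolicGL n F μ) × (GL (Fin n) F ⧸ parabolicGL n F μ'))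
    (g : GL (Fin n) F) (hg : g • y = x) : ∃ s : SLn, toG s • y = x := by
  obtain ⟨yH, yK⟩ := y
  induction yH using Quotient.inductionOn' with
  | _ a =>
  induction yK using Quotient.inductionOn' with
  | _ c =>
  obtain ⟨b, hb, b', hb', σ, he⟩ := GLUnipotentDC.bruhat (a⁻¹ * c)
  have hδ : (g : Matrix (Fin n) (Fin n) F).det ≠ 0 :=
    ((Matrix.isUnit_iff_isUnit_det _).1 g.isUnit).ne_zero
  set δ := (g : Matrix (Fin n) (Fin n) F).det
  set v : Fin n → F := Function.update 1 0 δ⁻¹
  have hv : (Matrix.diagonal v).det = δ⁻¹ := by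
    rw [Matrix.det_diagonal, Finset.prod_update_of_mem (Finset.mem_univ _)]
    simp
  set t : GL (Fin n) F := Matrix.GeneralLinearGroup.mkOfDetNeZero (Matrix.diagonal v) (by rw [hv]; exact inv_ne_zero hδ)
  have ht : (t : Matrix (Fin n) (Fin n) F) = Matrix.diagonal v := rfl
  have htU : t ∈ upperTriangularGL n F := fun i j hij => by
    rw [ht]; exact Matrix.diagonal_apply_ne _ (ne_of_gt hij)
  set π := GLUnipotentDC.permGL n F σ
  have htU' : π⁻¹ * t * π ∈ upperTriangularGL n F := fun i j hij => by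
    rw [Units.val_mul, Units.val_mul, GLUnipotentDC.mul_permGL_apply, ← map_inv, GLUnipotentDC.permGL_mul_apply, ht]
    refine Matrix.diagonal_apply_ne _ fun e => ne_of_gt hij ?_
    simpa using e
  set r := g * (a * b) * t * (a * b)⁻¹
  have hr : (r : Matrix (Fin n) (Fin n) F).det = 1 := by
    simp only [r, Units.val_mul, Matrix.det_mul, ht, hv]
    have : (a : Matrix (Fin n) (Fin n) F).det * (b : Matrix (Fin n) (Fin n) F).det *
        (((a * b)⁻¹ : GL (Fin n) F) : Matrix (Fin n) (Fin n) F).det = 1 := by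
      rw [← Matrix.det_mul, ← Matrix.det_mul, ← Units.val_mul, ← Units.val_mul, mul_inv_cancel, Units.val_one, Matrix.det_one]
    linear_combination (δ * δ⁻¹) * this + mul_inv_cancel₀ hδ
  refine ⟨⟨r, hr⟩, ?_⟩
  rw [show toG ⟨r, hr⟩ = r from Units.ext rfl, ← hg]
  show (((r * a : GL (Fin n) F) : GL (Fin n) F ⧸ parabolicGL n F μ), ((r * c : GL (Fin n) F) : GL (Fin n) F ⧸ parabolicGL n F μ')) =
    (((g * a : GL (Fin n) F) : GL (Fin n) F ⧸ parabolicGL n F μ), ((g * c : GL (Fin n) F) : GL (Fin n) F ⧸ parabolicGL n F μ'))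
  have e1 : g * a = r * a * (b * t⁻¹ * b⁻¹) := by simp only [r]; group
  have e2 : g * c = r * c * (b'⁻¹ * (π⁻¹ * t * π)⁻¹ * b') := by
    rw [show c = a * (b * π * b') by rw [← he]; group]
    simp only [r]; group
  rw [e1, e2, Prod.mk.injEq]
  have hP := fun μ => GLUnipotentDC.upperTriangular_le_parabolic (F := F) (n := n) μ
  refine ⟨(QuotientGroup.mk_mul_of_mem _ ?_).symm, (QuotientGroup.mk_mul_of_mem _ ?_).symm⟩
  · exact mul_mem (mul_mem (hP μ hb) (inv_mem (hP μ htU))) (inv_mem (hP μ hb))
  · exact mul_mem (mul_mem (inv_mem (hP μ' hb')) (inv_mem (hP μ' htU'))) (hP μ' hb')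

/-- products of two permutation characters have the same average on `SL` as on `GL` -/
theorem avg_SL [NeZero n] (μ μ' : Fin n → ℕ) :
    (Nat.card SLn : ℂ)⁻¹ * ∑ s : SLn,
        fixedPointCharacter (parabolicGL n F μ) (toG s) * fixedPointCharacter (parabolicGL n F μ') (toG s) =
      (Nat.card (GL (Fin n) F) : ℂ)⁻¹ * ∑ g : GL (Fin n) F,
        fixedPointCharacter (parabolicGL n F μ) g * fixedPointCharacter (parabolicGL n F μ') g := by
  rw [GLUnipotentDC.avg_fixed_mul, Nat.card_congr (GLUnipotentDC.dcEquivOrbits _ _)]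
  set X := (GL (Fin n) F ⧸ parabolicGL n F μ) × (GL (Fin n) F ⧸ parabolicGL n F μ')
  let _ : MulAction SLn X := MulAction.compHom X toG
  have hsmul : ∀ (s : SLn) (x : X), s • x = toG s • x := fun _ _ => rfl
  have hiff : ∀ a b : X, a ∈ MulAction.orbit SLn b ↔ a ∈ MulAction.orbit (GL (Fin n) F) b := by
    intro a b
    constructor
    · rintro ⟨s, rfl⟩
      exact ⟨toG s, rfl⟩
    · rintro ⟨g, hg⟩
      obtain ⟨s, hs⟩ := orbit_SL μ μ' a b g hg
      exact ⟨s, hs⟩
  rw [← Nat.card_congr (Quotient.congr (Equiv.refl X) (ra := MulAction.orbitRel SLn X)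
      (rb := MulAction.orbitRel (GL (Fin n) F) X) fun a b => hiff a b),
    Nat.card_eq_fintype_card, Nat.card_eq_fintype_card]
  have hB := MulAction.sum_card_fixedBy_eq_card_orbits_mul_card_group SLn X
  have hfix : ∀ s : SLn, fixedPointCharacter (parabolicGL n F μ) (toG s) * fixedPointCharacter (parabolicGL n F μ') (toG s) =
      (Fintype.card (MulAction.fixedBy X s) : ℂ) := by
    intro s
    rw [fixedPointCharacter, fixedPointCharacter, ← Nat.cast_mul, ← Nat.card_prod, ← Nat.card_eq_fintype_card]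
    congr 1
    exact Nat.card_congr
      { toFun := fun q => ⟨(q.1.1, q.2.1), (hsmul s _).trans (Prod.ext q.1.2 q.2.2)⟩
        invFun := fun q => (⟨q.1.1, congrArg Prod.fst ((hsmul s _).symm.trans q.2)⟩,
          ⟨q.1.2, congrArg Prod.snd ((hsmul s _).symm.trans q.2)⟩)
        left_inv := fun q => rfl
        right_inv := fun q => rfl }
  simp only [hfix, ← Nat.cast_sum, hB, Nat.cast_mul]
  have hne : (Fintype.card SLn : ℂ) ≠ 0 := Nat.cast_ne_zero.2 Fintype.card_ne_zero
  field_simp

/-- the Steinberg character of `GL` restricted to `SL` -/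
noncomputable def st (F : Type*) [Field F] (n : ℕ) : Matrix.SpecialLinearGroup (Fin n) F → ℂ :=
  fun s => unipotentCharacterGL n F (fun _ => 1) (Matrix.SpecialLinearGroup.toGL s)

theorem inner_st [NeZero n] : classInner (st F n) (st F n) = 1 := by
  have h1 : classInner (unipotentCharacterGL n F fun _ => 1) (unipotentCharacterGL n F fun _ => 1) = 1 := by
    rw [GLUnipotentChars.inner_unipotent _ _ monotone_const (by simp) monotone_const (by simp), if_pos rfl]
  rw [← h1]
  simp only [classInner, st, GLUnipotentChars.conj_unipotent]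
  simp only [unipotentCharacterGL, Finset.sum_mul, Finset.mul_sum]
  rw [Finset.sum_comm]
  conv_rhs => rw [Finset.sum_comm]
  refine Finset.sum_congr rfl fun κ _ => ?_
  rw [Finset.sum_comm]
  conv_rhs => rw [Finset.sum_comm]
  refine Finset.sum_congr rfl fun κ' _ => ?_
  rw [← Finset.mul_sum, ← Finset.mul_sum]
  by_cases h : ∀ i : Fin n, (κ i).val ≤ 1 + i.val
  swap
  · simp [if_neg h]
  by_cases h' : ∀ i : Fin n, (κ' i).val ≤ 1 + i.val
  swap
  · simp [if_neg h']
  simp only [if_pos h, if_pos h', mul_mul_mul_comm _ (fixedPointCharacter _ _), ← Finset.mul_sum]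
  rw [mul_left_comm, mul_left_comm (Nat.card (GL (Fin n) F) : ℂ)⁻¹, avg_SL]

theorem st_one : ∀ {n : ℕ}, st F n 1 = unipotentCharacterGL n F (fun _ => 1) 1 := by
  intro n; rw [st, map_one]

/-- the `q`-integer -/
def qint (q r : ℕ) : ℕ := ∑ l ∈ Finset.range r, q ^ l

theorem qint_pos {q r : ℕ} (hr : 0 < r) : 0 < qint q r :=
  Finset.sum_pos' (fun _ _ => Nat.zero_le _) ⟨0, Finset.mem_range.2 hr, by simp⟩

theorem qint_sub (q i d : ℕ) : (qint q (i + d) : ℂ) - qint q i = (q : ℂ) ^ i * qint q d := by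
  rw [qint, Finset.sum_range_add, ← qint]
  push_cast [qint, Finset.mul_sum, pow_add]
  ring

theorem sum_succ_choose (n : ℕ) :
    ∑ j ∈ Finset.range n, ∑ i ∈ Finset.range j, (i + 1) = n.choose 3 + n.choose 2 := by
  induction n with
  | zero => simp
  | succ n ih =>
    rw [Finset.sum_range_succ, ih]
    have h2 : ∑ i ∈ Finset.range n, (i + 1) = (n + 1).choose 2 := by
      clear ih
      induction n with
      | zero => simp
      | succ m im => rw [Finset.sum_range_succ, im, Nat.choose_succ_succ' (m + 1) 1, Nat.choose_one_right, add_comm]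
    rw [h2, Nat.choose_succ_succ' n 2]
    ring

theorem st_degree : st F n 1 = ((Fintype.card F ^ n.choose 2 : ℕ) : ℂ) := by
  rw [st_one]
  set q := Fintype.card F
  have hq : (q : ℂ) ≠ 0 := Nat.cast_ne_zero.2 Fintype.card_ne_zero
  have h := S2424.result (F := F) (q := q) rfl (fun _ : Fin n => 1) monotone_const (by simp)
  have hqi : ∀ r, (∑ l ∈ Finset.range r, q ^ l) = qint q r := fun r => rfl
  simp only [hqi] at h
  have hc3 : n * (n - 1) * (n - 2) / 6 = n.choose 3 := by
    rw [Nat.choose_eq_descFactorial_div_factorial]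
    simp [Nat.descFactorial_succ, Nat.factorial]
    ring_nf
  set f : ℕ → ℂ := fun m => ∏ j ∈ Finset.range m, (qint q (j + 1) : ℂ) with hf
  have hf0 : ∀ m, f m ≠ 0 := fun m => Finset.prod_ne_zero_iff.2 fun j _ =>
    Nat.cast_ne_zero.2 (qint_pos (Nat.succ_pos j)).ne'
  have hpair : ∏ i : Fin n, ∏ j ∈ Finset.univ.filter (fun j : Fin n => i < j),
      ((qint q (1 + j.val) : ℂ) - qint q (1 + i.val)) =
      (q : ℂ) ^ (n.choose 3 + n.choose 2) * ∏ j ∈ Finset.range n, f j := by
    rw [Finset.prod_comm' (t' := Finset.univ) (s' := fun j : Fin n => Finset.univ.filter fun i : Fin n => i < j)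
      (by simp)]
    have hin : ∀ j : Fin n, ∏ i ∈ Finset.univ.filter (fun i : Fin n => i < j),
        ((qint q (1 + j.val) : ℂ) - qint q (1 + i.val)) =
        (q : ℂ) ^ (∑ i ∈ Finset.range j, (i + 1)) * f j := by
      intro j
      have e : ∏ i ∈ Finset.univ.filter (fun i : Fin n => i < j), ((qint q (1 + j.val) : ℂ) - qint q (1 + i.val)) =
          ∏ i ∈ Finset.range j, ((qint q (1 + j.val) : ℂ) - qint q (1 + i)) := by
        refine Finset.prod_bij (fun i _ => i.val) ?_ ?_ ?_ fun _ _ => rfl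
        · intro i hi; simpa using hi
        · intro a _ b _ hab; exact Fin.ext hab
        · intro i hi
          exact ⟨⟨i, (Finset.mem_range.1 hi).trans j.isLt⟩, Finset.mem_filter.2 ⟨Finset.mem_univ _, Fin.lt_def.2 (Finset.mem_range.1 hi)⟩, rfl⟩
      rw [e, Finset.prod_congr rfl fun i hi => by
        rw [show 1 + j.val = (i + 1) + (j.val - i) by have := Finset.mem_range.1 hi; omega, add_comm 1 i, qint_sub],
        Finset.prod_mul_distrib, Finset.prod_pow_eq_pow_sum]
      congr 1
      rw [hf, ← Finset.prod_range_reflect]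
      refine Finset.prod_congr rfl fun i hi => ?_
      have := Finset.mem_range.1 hi
      congr 2
      omega
    rw [Finset.prod_congr rfl fun j _ => hin j, Finset.prod_mul_distrib, Finset.prod_pow_eq_pow_sum,
      Fin.prod_univ_eq_prod_range f n, Fin.sum_univ_eq_sum_range (fun j => ∑ i ∈ Finset.range j, (i + 1)) n,
      sum_succ_choose]
  have hl : ∏ i : Fin n, f (1 + i.val) = f n * ∏ j ∈ Finset.range n, f j := by
    rw [Fin.prod_univ_eq_prod_range (fun i => f (1 + i)) n, ← Finset.prod_range_succ_comm, Finset.prod_range_succ']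
    simp [hf, add_comm]
  rw [hpair, hc3] at h
  change _ * ∏ i : Fin n, f (1 + i.val) = f n * _ at h
  rw [hl, pow_add] at h
  have hne : f n * ∏ j ∈ Finset.range n, f j ≠ 0 := mul_ne_zero (hf0 n) (Finset.prod_ne_zero_iff.2 fun j _ => hf0 j)
  refine mul_right_cancel₀ (pow_ne_zero (n.choose 3) hq) (mul_right_cancel₀ hne ?_)
  rw [h]
  push_cast
  ring

theorem isIrr_st [NeZero n] : IsIrrCharacter SLn (st F n) := by
  have hgen : IsGeneralizedCharacter SLn (st F n) := by
    obtain ⟨m, ρ, -, hρ⟩ := S2421.result (F := F) (fun _ : Fin n => 1) monotone_const (by simp)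
    have : st F n = Representation.character (ρ.comp toG : Representation ℂ SLn (Fin m → ℂ)) := by
      funext s
      rw [st, ← hρ]
      rfl
    rw [this]
    exact CharBasicDecomp.isGeneralizedCharacter_of_isCharacter (CharBasic.isCharacter_of_rep _)
  obtain ⟨ψ, hψ, e | e⟩ := CharBasicDecomp.eq_or_neg_irr_of_norm_one hgen inner_st
  · rw [e]; exact hψ
  · exfalso
    obtain ⟨d, hd, hd'⟩ : ∃ d : ℕ, 0 < d ∧ ψ 1 = d := by
      obtain ⟨d, hd, he, -⟩ := CharBasicInt.exists_apply_one_dvd_card hψ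
      exact ⟨d, hd, he⟩
    have h1 := congrFun e 1
    rw [st_degree, Pi.neg_apply, hd'] at h1
    have := congrArg Complex.re h1
    simp only [Complex.neg_re, Complex.natCast_re] at this
    have h2 : (0 : ℝ) < d := by exact_mod_cast hd
    have h3 : (0 : ℝ) ≤ ((Fintype.card F ^ n.choose 2 : ℕ) : ℝ) := Nat.cast_nonneg _
    linarith

end Cfsg.Agent.SLSteinbergRes
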