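import Cfsg.Agent.Lib.SLDefiningBlocks
import Cfsg.Agent.Lib.SLDefectZeroUnique
import Cfsg.Agent.Lib.SLSteinbergRes

/-!
Counting the blocks of `SL n F` in the defining characteristic.
-/

set_option autoImplicit false
set_option linter.unusedSectionVars false

namespace Cfsg.Agent.SLDefiningCount

open Cfsg Cfsg.Agent.BlockTheoryIdem Cfsg.Agent.SLDefiningBlocks

variable {F : Type*} [Field F] [Fintype F] {n : ℕ} [NeZero n] {p : ℕ} [hp : Fact p.Prime] [CharP F p]
  {M : Ideal AlgInt}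

local notation "SLn" => Matrix.SpecialLinearGroup (Fin n) F

theorem sylow_exponent : p ^ (Nat.card SLn).factorization p = Fintype.card F ^ n.choose 2 := by
  obtain ⟨b, hb, hcard⟩ := PSLUnipotent.card_SL_factor (F := F) (n := n) p
  obtain ⟨e, -, he⟩ := PSLUnipotent.card_eq_prime_pow (F := F) p
  have hsum : ∑ i : Fin n, (i : ℕ) = n.choose 2 := by
    rw [Fin.sum_univ_eq_sum_range (fun i => i) n, Finset.sum_range_id, Nat.choose_two_right]
  have hb0 : b ≠ 0 := by rintro rfl; exact hb (dvd_zero p)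
  rw [hcard, PSLUnipotent.card_U, hsum, he, ← pow_mul,
    Nat.factorization_mul (pow_ne_zero _ hp.out.ne_zero) hb0, Finsupp.add_apply, hp.out.factorization_pow,
    Finsupp.single_eq_same, Nat.factorization_eq_zero_of_not_dvd hb, add_zero, ← Nat.card_eq_fintype_card, he,
    ← pow_mul]

/-- exactly one character has degree divisible by the full `p`-part -/
theorem existsUnique_defectZero :
    ∃! χ : IrrCharacter SLn, p ^ (Nat.card SLn).factorization p ∣ charDegree (χ : SLn → ℂ) := by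
  classical
  have hst := SLSteinbergRes.isIrr_st (F := F) (n := n)
  refine ⟨⟨_, hst⟩, ?_, fun χ hχ => ?_⟩
  · show _ ∣ charDegree (SLSteinbergRes.st F n)
    rw [charDegree, SLSteinbergRes.st_degree, Complex.natCast_re, Nat.floor_natCast, sylow_exponent]
  have hdeg : ∀ ψ : IrrCharacter SLn, p ^ (Nat.card SLn).factorization p ∣ charDegree (ψ : SLn → ℂ) →
      ∃ (d : ℕ) (ρ : Representation ℂ SLn (Fin d → ℂ)), ρ.IsIrreducible ∧ ρ.character = (ψ : SLn → ℂ) ∧
        p ^ (Nat.card SLn).factorization p ∣ d := by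
    intro ψ hψ
    obtain ⟨d, ρ, hρ, e⟩ := ψ.2
    refine ⟨d, ρ, hρ, e, ?_⟩
    have : charDegree (ψ : SLn → ℂ) = d := by
      rw [charDegree, ← e, Representation.char_one]
      simp
    rwa [this] at hψ
  obtain ⟨d, ρ, hρ, e, hd⟩ := hdeg χ hχ
  obtain ⟨d', ρ', hρ', e', hd'⟩ := hdeg ⟨_, hst⟩ (by
    show _ ∣ charDegree (SLSteinbergRes.st F n)
    rw [charDegree, SLSteinbergRes.st_degree, Complex.natCast_re, Nat.floor_natCast, sylow_exponent])
  refine Subtype.ext ?_
  by_contra hne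
  have hne' : ρ.character ≠ ρ'.character := by rw [e, e']; exact hne
  let _ : Fintype SLn := Fintype.ofFinite SLn
  obtain ⟨b, hb, hb'⟩ : ∃ b, Fintype.card SLn = p ^ (Nat.card SLn).factorization p * b ∧ ¬ p ∣ b := by
    rw [← Nat.card_eq_fintype_card]
    exact ⟨_, (Nat.ordProj_mul_ordCompl_eq_self (Nat.card SLn) p).symm,
      Nat.not_dvd_ordCompl hp.out Nat.card_pos.ne'⟩
  obtain ⟨k, _, _, R, R', hR, -⟩ := DefectZeroReduction.exists_red_pair p _ b hb hb' ρ ρ' hd hd' hne'
  exact SLDefectZeroUnique.not_orth R p R' hR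

theorem card_defect_zero (hM : IsPModular p M) :
    Nat.card {B : Set (IrrCharacter SLn) // IsPBlock M B ∧ blockDefect p B = 0} = 1 := by
  have := Fintype.ofFinite SLn
  obtain ⟨χ, hχ, huniq⟩ := existsUnique_defectZero (F := F) (n := n) (p := p)
  rw [Nat.card_eq_one_iff_unique]
  refine ⟨⟨fun B B' => Subtype.ext ?_⟩, ⟨⟨_, isPBlock_blockOf χ, (defect_zero_iff hM).2 hχ⟩⟩⟩
  have key : ∀ C : {B : Set (IrrCharacter SLn) // IsPBlock M B ∧ blockDefect p B = 0}, C.1 = blockOf M (χ : SLn → ℂ) := by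
    rintro ⟨C, ⟨ψ, rfl⟩, hC⟩
    show blockOf M (ψ : SLn → ℂ) = _
    rw [huniq ψ ((defect_zero_iff hM).1 hC)]
  rw [key B, key B']

theorem card_blocks (hM : IsPModular p M) (hn : 2 ≤ n) :
    Nat.card {B : Set (IrrCharacter SLn) // IsPBlock M B} =
      Nat.gcd n (Nat.card F - 1) + 1 := by
  classical
  have := Fintype.ofFinite SLn
  rw [← Nat.card_congr (Equiv.sumCompl fun B : {B : Set (IrrCharacter SLn) // IsPBlock M B} =>
      blockDefect p B.1 ≠ 0), Nat.card_sum,
    Nat.card_congr (Equiv.subtypeSubtypeEquivSubtypeInter (IsPBlock M) fun B => blockDefect p B ≠ 0),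
    Nat.card_congr (Equiv.subtypeSubtypeEquivSubtypeInter (IsPBlock M) fun B => ¬ blockDefect p B ≠ 0),
    card_positive hM hn, PSLCard.card_center_SL]
  simp only [not_not]
  rw [card_defect_zero hM]

end Cfsg.Agent.SLDefiningCount
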