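import Cfsg.Agent.Lib.SubspaceStab
import Cfsg.Agent.Lib.LinFourSymp44
import Cfsg.Agent.S5886

/-! SL_4(q): subspace stabilisers, quadratic subfield normalisers, symplectic similarities. -/

set_option autoImplicit false
open Cfsg

namespace Cfsg.Agent.SLFourEasy44

theorem maximal_subspace {F : Type*} [Field F] [Fintype F] :
    (∀ W : Submodule F (Fin 4 → F), W ≠ ⊥ → W ≠ ⊤ → Cfsg.Geo.IsMaximalIn (Cfsg.Geo.specialLinear (Fin 4) F) (Cfsg.Geo.subspaceStabilizer W ⊓ Cfsg.Geo.specialLinear (Fin 4) F)) :=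
  fun W h0 h1 => SubspaceStab.isMaximalIn_stab h0 h1

theorem maximal_ext {F : Type*} [Field F] [Fintype F] :
    (∀ K : Subalgebra F (Matrix (Fin 4) (Fin 4) F), Cfsg.Geo.IsFieldSubalgebra 2 K → Cfsg.Geo.IsMaximalIn (Cfsg.Geo.specialLinear (Fin 4) F) (Cfsg.Geo.subalgebraNormalizer K ⊓ Cfsg.Geo.specialLinear (Fin 4) F)) :=
  fun K hK => (S5886.result 4 2 (by norm_num) (by norm_num) (by norm_num) K hK).2

theorem maximal_symp {F : Type*} [Field F] [Fintype F] :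
    (∀ f : (Fin 4 → F) → (Fin 4 → F) → F, Cfsg.Geo.IsSymplecticForm f → Cfsg.Geo.IsMaximalIn (Cfsg.Geo.specialLinear (Fin 4) F) (Cfsg.Geo.similarityGroup f ⊓ Cfsg.Geo.specialLinear (Fin 4) F)) :=
  fun f hf => LinFourSymp44.isMaximalIn_stab 4 le_rfl f hf

end Cfsg.Agent.SLFourEasy44
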