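import Mathlib
import Cfsg.Agent.Lib.CharBasicPerm

/-!
The nontrivial constituent of the permutation representation of `SL n q` on the points of the
projective space.
-/

set_option autoImplicit false

namespace Cfsg.Agent.SLMinDegree32Exist

open Cfsg.Agent.CharBasic Cfsg.Agent.CharBasicOrth Cfsg.Agent.CharBasicPerm
open scoped MatrixGroups LinearAlgebra.Projectivization

universe u v

/-- The nontrivial constituent of a 2-transitive permutation representation. -/
theorem exists_irreducible {G : Type u} [Group G] [Finite G] (X : Type v) [MulAction G X]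
    [Finite X] (h2 : MulAction.IsMultiplyPretransitive G X 2) (hX : 2 ≤ Nat.card X) :
    ∃ ρ : Representation ℂ G (Fin (Nat.card X - 1) → ℂ), ρ.IsIrreducible := by
  classical
  haveI := Fintype.ofFinite X
  haveI := Fintype.ofFinite G
  haveI : Nontrivial X := Finite.one_lt_card_iff_nontrivial.1 hX
  haveI := h2
  haveI : MulAction.IsPretransitive G X := MulAction.isPretransitive_of_is_two_pretransitive
  let U : Subrepresentation (permRep G X) :=
    ⟨ℂ ∙ (fun _ => (1 : ℂ) : X → ℂ), fun g v hv => by
      obtain ⟨c, rfl⟩ := Submodule.mem_span_singleton.1 hv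
      exact Submodule.mem_span_singleton.2 ⟨c, funext fun x => rfl⟩⟩
  obtain ⟨U', hU⟩ := CharBasic.exists_isCompl U
  have hne : (fun _ => (1 : ℂ) : X → ℂ) ≠ 0 := fun e =>
    one_ne_zero (congrFun e (Classical.arbitrary X))
  have hU1 : Module.finrank ℂ U.toSubmodule = 1 := finrank_span_singleton hne
  have hUc : U.toRepresentation.character = fun _ => (1 : ℂ) := by
    funext g
    have : U.toRepresentation g = 1 := LinearMap.ext fun v => Subtype.ext (by
      obtain ⟨c, hc⟩ := Submodule.mem_span_singleton.1 v.2
      show permRep G X g (v : X → ℂ) = (v : X → ℂ)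
      rw [← hc]
      rfl)
    rw [Representation.character, this, LinearMap.trace_one, hU1, Nat.cast_one]
  set π : G → ℂ := fun g => (Nat.card (MulAction.fixedBy X g) : ℂ) with hπ
  have hU'c : U'.toRepresentation.character = π - fun _ => (1 : ℂ) := by
    rw [hπ, ← character_permRep, character_of_isCompl U U' hU, hUc]
    funext g
    simp
  have horb1 : Nat.card (MulAction.orbitRel.Quotient G X) = 1 := by
    rw [Nat.card_eq_one_iff_unique]
    exact ⟨MulAction.pretransitive_iff_subsingleton_quotient G X |>.1 inferInstance,
      ⟨Quotient.mk'' (Classical.arbitrary X)⟩⟩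
  have horb2 : Nat.card (MulAction.orbitRel.Quotient G (X × X)) = 2 := by
    let φ : MulAction.orbitRel.Quotient G (X × X) → Bool := fun o =>
      Quotient.liftOn' o (fun p => decide (p.1 = p.2)) (by
        rintro p p' ⟨g, rfl⟩
        simp)
    have hφ : Function.Bijective φ := by
      constructor
      · intro o o'
        induction o using Quotient.inductionOn' with
        | h p =>
          induction o' using Quotient.inductionOn' with
          | h p' =>
            intro h
            have h' : (p.1 = p.2) ↔ (p'.1 = p'.2) := decide_eq_decide.1 h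
            refine Quotient.sound' ?_
            by_cases he : p.1 = p.2
            · obtain ⟨g, hg⟩ := MulAction.exists_smul_eq G p'.1 p.1
              exact ⟨g, Prod.ext hg (show g • p'.2 = p.2 by rw [← h'.1 he, hg, he])⟩
            · obtain ⟨g, hg1, hg2⟩ := MulAction.is_two_pretransitive_iff.1 h2
                (fun e => he (h'.2 e)) he
              exact ⟨g, Prod.ext hg1 hg2⟩
      · intro b
        obtain ⟨x, y, hxy⟩ := exists_pair_ne X
        cases b
        · exact ⟨Quotient.mk'' (x, y), by simp [φ, hxy]⟩
        · exact ⟨Quotient.mk'' (x, x), by simp [φ]⟩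
    rw [Nat.card_congr (Equiv.ofBijective φ hφ), Nat.card_eq_fintype_card, Fintype.card_bool]
  have hππ : Cfsg.classInner π π = 2 := by
    rw [hπ, classInner_fixedBy_self, horb2]; norm_num
  have hπ1 : Cfsg.classInner π (fun _ => 1) = 1 := by
    rw [hπ, classInner_fixedBy_one, horb1]; norm_num
  have h1π : Cfsg.classInner (fun _ => 1) π = 1 := by rw [← conj_classInner, hπ1, map_one]
  have h11 : Cfsg.classInner (fun _ : G => (1 : ℂ)) (fun _ => 1) = 1 := by
    simp [Cfsg.classInner]
  have hirr : U'.toRepresentation.IsIrreducible := by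
    rw [CharBasicDecomp.isIrreducible_iff_classInner, hU'c, classInner_sub_left,
      classInner_sub_right, classInner_sub_right, hππ, hπ1, h1π, h11]
    norm_num
  have hdim : Module.finrank ℂ U'.toSubmodule = Nat.card X - 1 := by
    have := Submodule.finrank_add_eq_of_isCompl hU
    rw [hU1, Module.finrank_fintype_fun_eq_card, ← Nat.card_eq_fintype_card] at this
    omega
  let e : U'.toSubmodule ≃ₗ[ℂ] (Fin (Nat.card X - 1) → ℂ) :=
    LinearEquiv.ofFinrankEq _ _ (by rw [hdim, Module.finrank_fin_fun])
  let ρ : Representation ℂ G (Fin (Nat.card X - 1) → ℂ) :=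
    { toFun := fun g => e.conj (U'.toRepresentation g)
      map_one' := by rw [map_one]; exact LinearMap.ext fun x => e.apply_symm_apply x
      map_mul' := fun g h => by
        rw [map_mul]
        exact LinearMap.ext fun x => by simp [LinearEquiv.conj_apply] }
  refine ⟨ρ, ?_⟩
  have hc : ρ.character = U'.toRepresentation.character :=
    (Representation.char_iso (Representation.Equiv.mk e fun g => LinearMap.ext fun x => by
      simp [ρ, LinearEquiv.conj_apply])).symm
  rw [CharBasicDecomp.isIrreducible_iff_classInner, hc,
    ← CharBasicDecomp.isIrreducible_iff_classInner]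
  exact hirr

/-- The number of points of the projective space. -/
theorem exists_rep {F : Type*} [Field F] [Finite F] (n : ℕ) (hn : 2 ≤ n) :
    ∃ ρ : Representation ℂ SL(n, F) (Fin (Nat.card (ℙ F (Fin n → F)) - 1) → ℂ),
      ρ.IsIrreducible := by
  haveI : Nontrivial (Fin n) := Fin.nontrivial_iff_two_le.2 hn
  refine exists_irreducible (ℙ F (Fin n → F)) inferInstance ?_
  have h := Projectivization.card' F (Fin n → F)
  rw [Nat.card_fun, Nat.card_eq_fintype_card (α := Fin n), Fintype.card_fin] at h
  have hq : 2 ≤ Nat.card F := Finite.one_lt_card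
  by_contra hlt
  have : Nat.card F ^ 2 ≤ Nat.card F ^ n := Nat.pow_le_pow_right (by omega) hn
  have : 2 * Nat.card F ≤ Nat.card F ^ 2 := by rw [sq]; exact Nat.mul_le_mul_right _ hq
  interval_cases hc : Nat.card (ℙ F (Fin n → F))
  · omega
  · omega

end Cfsg.Agent.SLMinDegree32Exist
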