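import Cfsg.Agent.Lib.SL2PresAbel

/-!
Bounding the unipotent part of a short presentation of `SU(3, q)`: a centre spanned by conjugates of one
element, and an elementary abelian quotient spanned by conjugates of another.
-/

set_option autoImplicit false

namespace Cfsg.Agent.SU3PresBorel78

open SL2PresAbel

variable {G : Type*} [Group G]

theorem cj_succ' (h u : G) (n : ℕ) : cj h u (n + 1) = h * cj h u n * h⁻¹ := by
  simp [cj, pow_succ', mul_assoc]

theorem cj_pow (h u : G) (k i : ℕ) : cj (h ^ k) u i = cj h u (k * i) := by simp [cj, pow_mul]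

theorem cj_mul_left (h u v : G) (n : ℕ) : cj h (u * v) n = cj h u n * cj h v n := by simp [cj, mul_assoc]

theorem conj_stable {h : G} {S : Set G} (hst : ∀ a ∈ S, h * a * h⁻¹ ∈ Subgroup.closure S) {x : G}
    (hx : x ∈ Subgroup.closure S) (n : ℕ) : cj h x n ∈ Subgroup.closure S := by
  induction n with
  | zero => rwa [cj_zero]
  | succ n ih =>
    have hle : Subgroup.closure S ≤ (Subgroup.closure S).comap (MulAut.conj h).toMonoidHom :=
      (Subgroup.closure_le _).2 hst
    rw [cj_succ']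
    exact hle ih

theorem conj_zpow_mem {h : G} {N : ℕ} (hN0 : 0 < N) (hN : h ^ N = 1) {K : Subgroup G}
    (hK : ∀ x ∈ K, ∀ n : ℕ, cj h x n ∈ K) {x : G} (hx : x ∈ K) (i : ℤ) : h ^ i * x * h ^ (-i) ∈ K := by
  obtain ⟨n, hn⟩ : ∃ n : ℕ, h ^ n = h ^ i := by
    refine ⟨(i % N).toNat, ?_⟩
    rw [← zpow_natCast, Int.toNat_of_nonneg (Int.emod_nonneg _ (by omega)), Int.emod_def, zpow_sub, zpow_mul,
      zpow_natCast, hN, one_zpow, inv_one, mul_one]
  rw [zpow_neg, ← hn]
  exact hK x hx n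

theorem mem_normalizer_of {h : G} {N : ℕ} (hN0 : 0 < N) (hN : h ^ N = 1) {K : Subgroup G}
    (hK : ∀ x ∈ K, ∀ n : ℕ, cj h x n ∈ K) : h ∈ Subgroup.normalizer (K : Set G) := by
  rw [Subgroup.mem_normalizer_iff]
  intro x
  refine ⟨fun hx => by simpa using conj_zpow_mem hN0 hN hK hx 1, fun hx => ?_⟩
  have := conj_zpow_mem hN0 hN hK hx (-1)
  simpa [mul_assoc] using this

/-- the subgroup generated by `d` commuting elements of exponent `p` -/
theorem card_closure_le {p : ℕ} [Fact p.Prime] : ∀ {d : ℕ} (x : Fin d → G),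
    (∀ i j, Commute (x i) (x j)) → (∀ i, x i ^ p = 1) →
      Finite (Subgroup.closure (Set.range x)) ∧ Nat.card (Subgroup.closure (Set.range x)) ≤ p ^ d := by
  intro d
  induction d with
  | zero =>
    intro x _ _
    rw [show Set.range x = ∅ from Set.range_eq_empty x, Subgroup.closure_empty]
    exact ⟨inferInstance, by simp⟩
  | succ d ih =>
    intro x hc hp
    obtain ⟨hfin, hcard⟩ := ih (fun i => x i.succ) (fun i j => hc _ _) (fun i => hp _)
    set B := Subgroup.closure (Set.range fun i : Fin d => x i.succ)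
    set A := Subgroup.zpowers (x 0)
    have hpp : 0 < p := (Fact.out : p.Prime).pos
    have : Finite A := finite_zpowers.2 (isOfFinOrder_iff_pow_eq_one.2 ⟨p, hpp, hp 0⟩)
    have hA : Nat.card A ≤ p := by
      rw [Nat.card_zpowers]; exact orderOf_le_of_pow_eq_one hpp (hp 0)
    have comm : ∀ (a : A) (b : B), Commute (A.subtype a) (B.subtype b) := by
      intro a b
      refine closure_commute (S := Set.range x) (by rintro _ ⟨i, rfl⟩ _ ⟨j, rfl⟩; exact hc i j) ?_ ?_
      · exact (Subgroup.zpowers_le.2 (Subgroup.subset_closure (k := Set.range x) (Set.mem_range_self 0))) a.2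
      · exact Subgroup.closure_mono (by rintro _ ⟨i, rfl⟩; exact ⟨_, rfl⟩) b.2
    let f := MonoidHom.noncommCoprod A.subtype B.subtype comm
    have hle : Subgroup.closure (Set.range x) ≤ f.range := by
      rw [Subgroup.closure_le]
      rintro _ ⟨i, rfl⟩
      refine Fin.cases ?_ (fun j => ?_) i
      · exact ⟨((⟨x 0, Subgroup.mem_zpowers _⟩ : A), 1), by simp [f]⟩
      · exact ⟨(1, (⟨x j.succ, Subgroup.subset_closure ⟨j, rfl⟩⟩ : B)), by simp [f]⟩
    have : Finite f.range := Finite.of_surjective f.rangeRestrict f.rangeRestrict_surjective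
    refine ⟨Finite.of_injective (Subgroup.inclusion hle) (Subgroup.inclusion_injective hle), ?_⟩
    calc Nat.card (Subgroup.closure (Set.range x)) ≤ Nat.card f.range :=
          Nat.card_le_card_of_injective _ (Subgroup.inclusion_injective hle)
      _ ≤ Nat.card (A × B) := Nat.card_le_card_of_surjective _ f.rangeRestrict_surjective
      _ ≤ p * p ^ d := by rw [Nat.card_prod]; exact Nat.mul_le_mul hA hcard
      _ = p ^ (d + 1) := by rw [pow_succ']

/-- the subgroup spanned by the first `d` conjugates -/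
def Sp (h w : G) (d : ℕ) : Subgroup G := Subgroup.closure (Set.range fun i : Fin d => cj h w i)

theorem sp_stable {h w : G} {d : ℕ} (hd : cj h w d ∈ Sp h w d) :
    ∀ a ∈ Set.range (fun i : Fin d => cj h w i), h * a * h⁻¹ ∈ Sp h w d := by
  rintro _ ⟨i, rfl⟩
  rw [← cj_succ']
  rcases Nat.lt_or_ge ((i : ℕ) + 1) d with hlt | hge
  · exact Subgroup.subset_closure ⟨⟨_, hlt⟩, rfl⟩
  · rw [show (i : ℕ) + 1 = d by omega]; exact hd

/-- the centre -/
theorem z_part {p : ℕ} [Fact p.Prime] {h w : G} {b d : ℕ} (hd0 : 0 < d) (hp : w ^ p = 1)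
    (hrel : h * w * h⁻¹ = w * cj h w b) (hcom : Commute w (cj h w b)) (hd : cj h w d ∈ Sp h w d) :
    w ∈ Sp h w d ∧ (∀ x ∈ Sp h w d, ∀ n, cj h x n ∈ Sp h w d) ∧
      (∀ x ∈ Sp h w d, ∀ y ∈ Sp h w d, Commute x y) ∧ Finite (Sp h w d) ∧ Nat.card (Sp h w d) ≤ p ^ d := by
  have hz : ∀ n, Commute w (cj h w n) := commute_cj_of_pair (x := h) (y := h ^ b)
    ((Commute.refl h).pow_right b) (by simpa [cj, ← map_pow] using hrel) (by simpa [cj, ← map_pow] using hcom)
  have hc : ∀ i j : Fin d, Commute (cj h w i) (cj h w j) := fun i j => commute_cj_of_zero hz i j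
  obtain ⟨h1, h2⟩ := card_closure_le (p := p) (fun i : Fin d => cj h w i) hc
    (fun i => by simp [cj, conj_pow, hp])
  refine ⟨Subgroup.subset_closure ⟨⟨0, hd0⟩, cj_zero h w⟩, fun x hx n => conj_stable (sp_stable hd) hx n,
    fun x hx y hy => closure_commute ?_ hx hy, h1, h2⟩
  rintro _ ⟨i, rfl⟩ _ ⟨j, rfl⟩
  exact hc i j

/-- centrality from the first conjugates -/
theorem cent_small {h u w : G} {d : ℕ} (hu : ∀ i, i < d → Commute u (cj h w i)) :
    ∀ x ∈ Sp h w d, Commute u x := by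
  intro x hx
  have hle : Sp h w d ≤ Subgroup.centralizer {u} := (Subgroup.closure_le _).2 (by
    rintro _ ⟨i, rfl⟩
    exact Subgroup.mem_centralizer_singleton_iff.2 (hu i i.2).eq.symm)
  exact (Subgroup.mem_centralizer_singleton_iff.1 (hle hx)).symm

/-- centrality from one commutator, through an element of the torus fixing the centre -/
theorem cent_big {h u w : G} {d k N : ℕ} (hd0 : 0 < d) (hN0 : 0 < N) (hN : h ^ N = 1)
    (hab : ∀ x ∈ Sp h w d, ∀ y ∈ Sp h w d, Commute x y) (hst : ∀ x ∈ Sp h w d, ∀ n, cj h x n ∈ Sp h w d)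
    (huw : Commute u w) (hkw : Commute (h ^ k) w)
    (hspan : h * u * h⁻¹ ∈ Subgroup.closure (Set.range (cj (h ^ k) u) ∪ (Sp h w d : Set G))) :
    ∀ x ∈ Sp h w d, Commute u x := by
  set S : Set G := Set.range (cj (h ^ k) u) ∪ (Sp h w d : Set G)
  have hw : w ∈ Sp h w d := Subgroup.subset_closure ⟨⟨0, hd0⟩, cj_zero h w⟩
  have hS : Subgroup.closure S ≤ Subgroup.centralizer {w} := by
    rw [Subgroup.closure_le]
    rintro a (⟨i, rfl⟩ | ha)
    · refine Subgroup.mem_centralizer_singleton_iff.2 ?_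
      have h1 : (h ^ k) ^ i * w * ((h ^ k) ^ i)⁻¹ = w := by rw [(hkw.pow_left i).eq, mul_inv_cancel_right]
      have := huw.map (MulAut.conj ((h ^ k) ^ i)).toMonoidHom
      simp only [MulEquiv.coe_toMonoidHom, MulAut.conj_apply, h1] at this
      exact this.eq
    · exact Subgroup.mem_centralizer_singleton_iff.2 (hab a ha w hw).eq
  have hkS : ∀ x ∈ Subgroup.closure S, ∀ i, cj (h ^ k) x i ∈ Subgroup.closure S := by
    intro x hx i
    refine conj_stable ?_ hx i
    rintro a (⟨j, rfl⟩ | ha)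
    · rw [← cj_succ']; exact Subgroup.subset_closure (Or.inl ⟨_, rfl⟩)
    · refine Subgroup.subset_closure (Or.inr ?_)
      have := hst a ha k
      simpa [cj] using this
  have hst' : ∀ a ∈ S, h * a * h⁻¹ ∈ Subgroup.closure S := by
    rintro a (⟨i, rfl⟩ | ha)
    · have := hkS _ hspan i
      have e : h * cj (h ^ k) u i * h⁻¹ = cj (h ^ k) (h * u * h⁻¹) i := by
        have c : Commute h ((h ^ k) ^ i) := ((Commute.refl h).pow_right k).pow_right i
        calc h * ((h ^ k) ^ i * u * ((h ^ k) ^ i)⁻¹) * h⁻¹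
            = (h * (h ^ k) ^ i) * u * (h * (h ^ k) ^ i)⁻¹ := by simp [mul_assoc, mul_inv_rev]
          _ = ((h ^ k) ^ i * h) * u * ((h ^ k) ^ i * h)⁻¹ := by rw [c.eq]
          _ = _ := by simp [cj, mul_assoc, mul_inv_rev]
      rw [e]; exact this
    · refine Subgroup.subset_closure (Or.inr ?_)
      have := hst a ha 1
      simpa [cj] using this
  refine cent_small fun j hj => ?_
  -- move `u` instead of `w`
  have hn : N * (j + 1) - j + j = N * (j + 1) := Nat.sub_add_cancel (by nlinarith)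
  set n := N * (j + 1) - j
  have hu : u ∈ Subgroup.closure S := Subgroup.subset_closure (Or.inl ⟨0, cj_zero _ _⟩)
  have hc : Commute (cj h u n) w :=
    (Subgroup.mem_centralizer_singleton_iff.1 (hS (conj_stable hst' hu n)))
  have e : cj h (cj h u n) j = u := by
    rw [cj, cj, ← mul_assoc, ← mul_assoc, ← pow_add, mul_assoc, ← mul_inv_rev, ← pow_add, add_comm, hn, pow_mul, hN,
      one_pow]
    simp
  have := hc.map (MulAut.conj (h ^ j)).toMonoidHom
  simp only [MulEquiv.coe_toMonoidHom, MulAut.conj_apply] at this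
  have e' : h ^ j * cj h u n * (h ^ j)⁻¹ = u := e
  rwa [e'] at this

/-- relations making the quotient by the centre abelian -/
def Quot (Z : Subgroup G) (h u : G) (d : ℕ) : Prop :=
  (∀ i, i < d → u * cj h u i * (cj h u i * u)⁻¹ ∈ Z) ∨
  ∃ a b : ℕ, cj h u a * (u * cj h u b)⁻¹ ∈ Z ∧ u * cj h u b * (cj h u b * u)⁻¹ ∈ Z ∧
    h * u * h⁻¹ ∈ Subgroup.closure (Set.range (cj (h ^ a) u) ∪ (Z : Set G))

/-- the whole unipotent part -/
theorem u_part {p : ℕ} [Fact p.Prime] {h u : G} {d N : ℕ} (Z : Subgroup G) [Finite Z] (hd0 : 0 < d)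
    (hN0 : 0 < N) (hN : h ^ N = 1) (hst : ∀ x ∈ Z, ∀ n, cj h x n ∈ Z) (hcent : ∀ x ∈ Z, Commute u x)
    (hp : u ^ p ∈ Z) (hd : cj h u d ∈ Subgroup.closure (Set.range (fun i : Fin d => cj h u i) ∪ (Z : Set G)))
    (hquot : Quot Z h u d) :
    let W := Subgroup.closure (Set.range (fun i : Fin d => cj h u i) ∪ (Z : Set G))
    u ∈ W ∧ Z ≤ W ∧ (∀ x ∈ W, ∀ i : ℤ, h ^ i * x * h ^ (-i) ∈ W) ∧ Finite W ∧ Nat.card W ≤ p ^ d * Nat.card Z := by
  intro W
  have hWst : ∀ x ∈ W, ∀ n, cj h x n ∈ W := by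
    intro x hx n
    refine conj_stable ?_ hx n
    rintro a (⟨i, rfl⟩ | ha)
    · rw [← cj_succ']
      rcases Nat.lt_or_ge ((i : ℕ) + 1) d with hlt | hge
      · exact Subgroup.subset_closure (Or.inl ⟨⟨_, hlt⟩, rfl⟩)
      · rw [show (i : ℕ) + 1 = d by omega]; exact hd
    · refine Subgroup.subset_closure (Or.inr ?_)
      simpa [cj] using hst a ha 1
  have huW : u ∈ W := Subgroup.subset_closure (Or.inl ⟨⟨0, hd0⟩, cj_zero h u⟩)
  set K := Subgroup.normalizer (Z : Set G)
  have huK : u ∈ K := by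
    rw [Subgroup.mem_normalizer_iff]
    intro x
    refine ⟨fun hx => by rw [(hcent x hx).eq, mul_inv_cancel_right]; exact hx, fun hx => ?_⟩
    have hx' : u * x * u⁻¹ ∈ Z := hx
    have h1 := hcent _ hx'
    have e : x = u * x * u⁻¹ := by
      calc x = u⁻¹ * ((u * x * u⁻¹) * u) := by group
        _ = u⁻¹ * (u * (u * x * u⁻¹)) := by rw [h1.eq]
        _ = _ := by group
    show x ∈ Z
    rw [e]; exact hx'
  have hhK : h ∈ K := mem_normalizer_of hN0 hN hst
  have hcK : ∀ n, cj h u n ∈ K := fun n => mul_mem (mul_mem (pow_mem hhK n) huK) (inv_mem (pow_mem hhK n))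
  have hZK : Z ≤ K := Subgroup.le_normalizer
  have hWK : W ≤ K := by
    rw [Subgroup.closure_le]
    rintro a (⟨i, rfl⟩ | ha)
    · exact hcK i
    · exact hZK ha
  have : (Z.subgroupOf K).Normal := Subgroup.normal_in_normalizer
  let ψ : K →* K ⧸ Z.subgroupOf K := QuotientGroup.mk' _
  set hb := ψ ⟨h, hhK⟩
  set ub := ψ ⟨u, huK⟩
  have ecj : ∀ n, ψ ⟨cj h u n, hcK n⟩ = cj hb ub n := fun n => by
    rw [← map_cj]; rfl
  have hker : ∀ (x : G) (hx : x ∈ K), x ∈ Z → ψ ⟨x, hx⟩ = 1 := fun x hx hz =>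
    (QuotientGroup.eq_one_iff _).2 hz
  have hzero : ∀ {x y : G} (hx : x ∈ K) (hy : y ∈ K), x * y⁻¹ ∈ Z → ψ ⟨x, hx⟩ = ψ ⟨y, hy⟩ := by
    intro x y hx hy hz
    have := hker _ (mul_mem hx (inv_mem hy)) hz
    rwa [show (⟨x * y⁻¹, mul_mem hx (inv_mem hy)⟩ : K) = ⟨x, hx⟩ * ⟨y, hy⟩⁻¹ from rfl, map_mul, map_inv,
      mul_inv_eq_one] at this
  have hcl : ∀ {ι : Type} (f : ι → ℕ) {y : G}, y ∈ Subgroup.closure (Set.range (fun i => cj h u (f i)) ∪ (Z : Set G)) →
      ∃ hy : y ∈ K, ψ ⟨y, hy⟩ ∈ Subgroup.closure (Set.range fun i => cj hb ub (f i)) := by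
    intro ι f y hy
    induction hy using Subgroup.closure_induction with
    | mem a ha =>
      rcases ha with ⟨i, rfl⟩ | ha
      · exact ⟨hcK _, by rw [ecj]; exact Subgroup.subset_closure ⟨i, rfl⟩⟩
      · exact ⟨hZK ha, by rw [hker a _ ha]; exact one_mem _⟩
    | one => exact ⟨one_mem _, by rw [show (⟨1, one_mem K⟩ : K) = 1 from rfl, map_one]; exact one_mem _⟩
    | mul a b _ _ iha ihb =>
      obtain ⟨ha, ha'⟩ := iha
      obtain ⟨hb', hb''⟩ := ihb
      exact ⟨mul_mem ha hb', by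
        rw [show (⟨a * b, mul_mem ha hb'⟩ : K) = ⟨a, ha⟩ * ⟨b, hb'⟩ from rfl, map_mul]; exact mul_mem ha' hb''⟩
    | inv a _ iha =>
      obtain ⟨ha, ha'⟩ := iha
      exact ⟨inv_mem ha, by
        rw [show (⟨a⁻¹, inv_mem ha⟩ : K) = ⟨a, ha⟩⁻¹ from rfl, map_inv]; exact inv_mem ha'⟩
  have hcomm : ∀ n, Commute ub (cj hb ub n) := by
    rcases hquot with hsm | ⟨a, b, h1, h2, h3⟩
    · have hc0 : ∀ i, i < d → Commute ub (cj hb ub i) := by
        intro i hi
        rw [← ecj]
        have := hzero (mul_mem huK (hcK i)) (mul_mem (hcK i) huK) (hsm i hi)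
        rw [show (⟨u * cj h u i, mul_mem huK (hcK i)⟩ : K) = ⟨u, huK⟩ * ⟨_, hcK i⟩ from rfl,
          show (⟨cj h u i * u, mul_mem (hcK i) huK⟩ : K) = ⟨_, hcK i⟩ * ⟨u, huK⟩ from rfl, map_mul, map_mul] at this
        exact this
      refine commute_cj_of_stable (Set.range fun i : Fin d => cj hb ub i) ?_
        (Subgroup.subset_closure ⟨⟨0, hd0⟩, cj_zero _ _⟩) ?_
      · rintro _ ⟨i, rfl⟩ _ ⟨j, rfl⟩
        rcases le_total (i : ℕ) j with hle | hle
        · have := commute_conj_cj ((cj_zero hb ub).symm ▸ hc0 (j - i) (by omega) :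
            Commute (cj hb ub 0) (cj hb ub (j - i))) i
          rwa [Nat.add_zero, Nat.add_sub_cancel' hle] at this
        · have := commute_conj_cj ((cj_zero hb ub).symm ▸ hc0 (i - j) (by omega) :
            Commute (cj hb ub 0) (cj hb ub (i - j))) j
          rw [Nat.add_zero, Nat.add_sub_cancel' hle] at this
          exact this.symm
      · rintro _ ⟨i, rfl⟩
        rw [MulAut.conj_apply, ← cj_succ']
        rcases Nat.lt_or_ge ((i : ℕ) + 1) d with hlt | hge
        · exact Subgroup.subset_closure ⟨⟨_, hlt⟩, rfl⟩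
        · obtain ⟨_, h'⟩ := hcl (fun i : Fin d => (i : ℕ)) hd
          rw [show (i : ℕ) + 1 = d by omega, ← ecj]
          exact h'
    · have e1 := hzero (hcK a) (mul_mem huK (hcK b)) h1
      have e2 := hzero (mul_mem huK (hcK b)) (mul_mem (hcK b) huK) h2
      rw [show (⟨u * cj h u b, mul_mem huK (hcK b)⟩ : K) = ⟨u, huK⟩ * ⟨_, hcK b⟩ from rfl, map_mul, ecj, ecj] at e1
      rw [show (⟨u * cj h u b, mul_mem huK (hcK b)⟩ : K) = ⟨u, huK⟩ * ⟨_, hcK b⟩ from rfl,
        show (⟨cj h u b * u, mul_mem (hcK b) huK⟩ : K) = ⟨_, hcK b⟩ * ⟨u, huK⟩ from rfl, map_mul, map_mul, ecj] at e2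
      have hz : ∀ n, Commute ub (cj (hb ^ a) ub n) :=
        commute_cj_of_pair (x := hb ^ a) (y := hb ^ b) ((Commute.refl hb).pow_pow a b)
          (by rw [MulAut.conj_apply, MulAut.conj_apply]; exact e1)
          (by rw [MulAut.conj_apply]; exact e2)
      refine commute_cj_of_stable (Set.range (cj (hb ^ a) ub)) ?_ (Subgroup.subset_closure ⟨0, cj_zero _ _⟩) ?_
      · rintro _ ⟨i, rfl⟩ _ ⟨j, rfl⟩; exact commute_cj_of_zero hz i j
      · rintro _ ⟨i, rfl⟩
        have h3' : h * u * h⁻¹ ∈ Subgroup.closure (Set.range (fun i : ℕ => cj h u (a * i)) ∪ (Z : Set G)) := by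
          have : (fun i : ℕ => cj h u (a * i)) = cj (h ^ a) u := funext fun i => (cj_pow h u a i).symm
          rw [this]; exact h3
        obtain ⟨hy, h'⟩ := hcl (fun i : ℕ => a * i) h3'
        have hr : Set.range (fun i : ℕ => cj hb ub (a * i)) = Set.range (cj (hb ^ a) ub) :=
          congrArg Set.range (funext fun i => (cj_pow hb ub a i).symm)
        rw [hr, show ψ ⟨h * u * h⁻¹, hy⟩ = MulAut.conj hb ub from rfl] at h'
        have hle : Subgroup.closure (Set.range (cj (hb ^ a) ub)) ≤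
            (Subgroup.closure (Set.range (cj (hb ^ a) ub))).comap (MulAut.conj ((hb ^ a) ^ i)).toMonoidHom :=
          (Subgroup.closure_le _).2 (by
            rintro _ ⟨j, rfl⟩
            exact Subgroup.subset_closure ⟨i + j, (conj_cj _ ub i j).symm⟩)
        have e : MulAut.conj hb (cj (hb ^ a) ub i) = MulAut.conj ((hb ^ a) ^ i) (MulAut.conj hb ub) := by
          rw [cj, ← MulAut.conj_apply, ← MulAut.mul_apply, ← MulAut.mul_apply, ← map_mul, ← map_mul,
            (((Commute.refl hb).pow_right a).pow_right i).eq]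
        rw [e]; exact hle h'
  have hub : ub ^ p = 1 := by rw [← map_pow]; exact hker _ (pow_mem huK p) hp
  obtain ⟨hfin, hcard⟩ := card_closure_le (p := p) (fun i : Fin d => cj hb ub i)
    (fun i j => commute_cj_of_zero hcomm i j) (fun i => by simp [cj, conj_pow, hub])
  let f : W →* K ⧸ Z.subgroupOf K := ψ.comp (Subgroup.inclusion hWK)
  have hr : f.range ≤ Subgroup.closure (Set.range fun i : Fin d => cj hb ub i) := by
    rintro _ ⟨⟨y, hy⟩, rfl⟩
    exact (hcl (fun i : Fin d => (i : ℕ)) hy).2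
  have hk : ∀ x : f.ker, ((x : W) : G) ∈ Z := fun x => (QuotientGroup.eq_one_iff (Subgroup.inclusion hWK (x : W))).1 x.2
  have hinj : Function.Injective fun x : f.ker => (⟨((x : W) : G), hk x⟩ : Z) := fun x y e =>
    Subtype.ext (Subtype.ext (congrArg (fun z : Z => (z : G)) e))
  have : Finite f.ker := Finite.of_injective _ hinj
  have : Finite f.range := Finite.of_injective _ (Subgroup.inclusion_injective hr)
  have : Finite (W ⧸ f.ker) := Finite.of_equiv _ (QuotientGroup.quotientKerEquivRange f).symm.toEquiv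
  have hWfin : Finite W := Finite.of_equiv _ (Subgroup.groupEquivQuotientProdSubgroup (s := f.ker)).symm
  refine ⟨huW, fun x hx => Subgroup.subset_closure (Or.inr hx), fun x hx i => conj_zpow_mem hN0 hN hWst hx i,
    hWfin, ?_⟩
  rw [← Subgroup.card_mul_index f.ker, Subgroup.index_ker, mul_comm]
  exact Nat.mul_le_mul ((Nat.card_le_card_of_injective _ (Subgroup.inclusion_injective hr)).trans hcard)
    (Nat.card_le_card_of_injective _ hinj)

end Cfsg.Agent.SU3PresBorel78
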