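import Cfsg.Agent.Lib.SU3PresField78

/-!
One exchange relation on the centre of the unipotent group and one off it force all exchange relations
of `SU(3, q)`.
-/

set_option autoImplicit false
set_option linter.unusedSectionVars false

namespace Cfsg.Agent.SU3PresClose78

open Cfsg.Agent.OrthUnitaryHerm Cfsg.Agent.OrthUnitaryTransvection Cfsg.Agent.SL2PresData
  Cfsg.Agent.SU3PresModel78 Cfsg.Agent.SU3PresField78

variable {F : Type*} [Field F] [Fintype F] {q : ℕ}

/-- a group over `SU(3, q)` containing a copy of the Borel subgroup and a Weyl element -/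
structure Datum (hF : Fintype.card F = q ^ 2) (ζ : Fˣ) {H : Type*} [Group H] (π : H →* SUJ q F)
    (W : Subgroup H) (h t : H) : Prop where
  hgen : ∀ y, y ∈ Subgroup.zpowers ζ
  pih : π h = hel hF ζ
  pit : π t = tel hF
  img : ∀ v ∈ W, ∃ (a b : F) (hv : Val q a b), π v = xel hF hv
  surj : ∀ (a b : F) (hv : Val q a b), ∃ v ∈ W, π v = xel hF hv
  inj : ∀ v ∈ W, π v = 1 → v = 1
  norm : ∀ v ∈ W, ∀ i : ℤ, h ^ i * v * h ^ (-i) ∈ W
  hord : h ^ (q ^ 2 - 1) = 1
  tsq : t * t = 1
  tht : t * h * t = h ^ (-(q : ℤ))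
  gen : Subgroup.closure ((W : Set H) ∪ {h, t}) = ⊤

variable {hF : Fintype.card F = q ^ 2} {ζ : Fˣ} {H : Type*} [Group H] {π : H →* SUJ q F} {W : Subgroup H} {h t : H}

/-- the exchange relation at `v` holds -/
def Exch (W : Subgroup H) (h t : H) (v : H) : Prop :=
  ∃ v₁ ∈ W, ∃ v₂ ∈ W, ∃ i : ℤ, t * v * t = v₁ * h ^ i * t * v₂

/-- the exchange relation holds at the parameters -/
def Good (hF : Fintype.card F = q ^ 2) (π : H →* SUJ q F) (W : Subgroup H) (h t : H) (a b : F) : Prop :=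
  ∃ v ∈ W, ∃ hv : Val q a b, π v = xel hF hv ∧ Exch W h t v

section

variable (D : Datum hF ζ π W h t)
include D

theorem Datum.eq_of_image {v v' : H} (hv : v ∈ W) (hv' : v' ∈ W) (e : π v = π v') : v = v' := by
  have := D.inj (v⁻¹ * v') (mul_mem (inv_mem hv) hv') (by rw [map_mul, map_inv, e, inv_mul_cancel])
  exact inv_mul_eq_one.1 this

theorem Datum.pih_zpow (i : ℤ) : π (h ^ i) = hel hF (ζ ^ i) := by rw [map_zpow, D.pih, hel_zpow]

theorem Datum.t_inv : t⁻¹ = t := inv_eq_of_mul_eq_one_right D.tsq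

theorem Datum.t_conj (i : ℤ) : t * h ^ i * t = h ^ (-(q : ℤ) * i) := by
  have e := conj_zpow (a := t) (b := h) (i := i)
  rw [D.t_inv] at e
  rw [zpow_mul, ← D.tht, e]

theorem Datum.t_mul (i : ℤ) : t * h ^ i = h ^ (-(q : ℤ) * i) * t := by
  rw [← D.t_conj i, mul_assoc, D.tsq, mul_one]

theorem Datum.params {v : H} (hv : v ∈ W) (he : Exch W h t v) {a b : F} {hab : Val q a b}
    (e : π v = xel hF hab) : ∃ v₁ ∈ W, ∃ v₂ ∈ W, ∃ i : ℤ, t * v * t = v₁ * h ^ i * t * v₂ ∧ b ≠ 0 ∧
      (∃ h1 : Val q (-a / b) (1 / b), π v₁ = xel hF h1) ∧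
      ∃ h2 : Val q (-a / b ^ q) (1 / b), π v₂ = xel hF h2 := by
  obtain ⟨v₁, h1, v₂, h2, i, he⟩ := he
  obtain ⟨a₁, b₁, hv₁, e1⟩ := D.img v₁ h1
  obtain ⟨a₂, b₂, hv₂, e2⟩ := D.img v₂ h2
  have := congrArg π he
  simp only [map_mul, D.pit, e, e1, e2, D.pih_zpow] at this
  obtain ⟨hb, rfl, rfl, rfl, rfl⟩ := exchange_unique hF hab hv₁ hv₂ _ this
  exact ⟨v₁, h1, v₂, h2, i, he, hb, ⟨hv₁, e1⟩, ⟨hv₂, e2⟩⟩

theorem Datum.exch_conj {v : H} (he : Exch W h t v) (j : ℤ) : Exch W h t (h ^ j * v * h ^ (-j)) := by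
  obtain ⟨v₁, h1, v₂, h2, i, he⟩ := he
  set k : ℤ := -(q : ℤ) * j with hk
  refine ⟨h ^ k * v₁ * h ^ (-k), D.norm _ h1 k, h ^ k * v₂ * h ^ (-k), D.norm _ h2 k,
    k + i + -(q : ℤ) * (-k), ?_⟩
  calc t * (h ^ j * v * h ^ (-j)) * t
      = (t * h ^ j) * v * (h ^ (-j) * t) := by simp only [mul_assoc]
    _ = h ^ k * (t * v * t) * (t * h ^ (-j) * t) := by
        rw [D.t_mul, ← hk]
        simp only [mul_assoc]
        rw [← mul_assoc t t, D.tsq, one_mul]
    _ = (h ^ k * v₁ * h ^ (-k)) * h ^ (k + i) * t * (v₂ * h ^ (-k)) := by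
        rw [he, D.t_conj, hk, mul_neg, zpow_add, zpow_neg]
        simp only [mul_assoc, inv_mul_cancel_left]
    _ = (h ^ k * v₁ * h ^ (-k)) * h ^ (k + i) * (t * h ^ (-k)) * (h ^ k * v₂ * h ^ (-k)) := by
        rw [zpow_neg]; simp only [mul_assoc, inv_mul_cancel_left]
    _ = _ := by rw [D.t_mul, zpow_add _ (k + i)]; simp only [mul_assoc]

theorem Datum.exch_inv {v : H} (he : Exch W h t v) : Exch W h t v⁻¹ := by
  obtain ⟨v₁, h1, v₂, h2, i, he⟩ := he
  refine ⟨v₂⁻¹, inv_mem h2, v₁⁻¹, inv_mem h1, -(q : ℤ) * -i, ?_⟩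
  have e := congrArg (·⁻¹) he
  simp only [mul_inv_rev, D.t_inv] at e
  rw [← mul_assoc] at e
  rw [e, ← zpow_neg, ← mul_assoc, ← mul_assoc, mul_assoc v₂⁻¹ t, D.t_mul, ← mul_assoc]

theorem Datum.exch_second {v : H} {v₁ v₂ : H} (hv : v ∈ W) (h1 : v₁ ∈ W) (i : ℤ)
    (he : t * v * t = v₁ * h ^ i * t * v₂) : Exch W h t v₂ := by
  refine ⟨h ^ (-i) * v₁⁻¹ * h ^ i, by simpa using D.norm _ (inv_mem h1) (-i), v, hv, -i, ?_⟩
  have e : v₂ = t * h ^ (-i) * v₁⁻¹ * (t * v * t) := by
    rw [he, ← zpow_neg_one v₁]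
    simp only [mul_assoc, zpow_neg_one, inv_mul_cancel_left]
    rw [← mul_assoc (h ^ (-i)) (h ^ i), ← zpow_add, neg_add_cancel, zpow_zero, one_mul, ← mul_assoc, D.tsq,
      one_mul]
  rw [e]
  simp only [mul_assoc, D.tsq, mul_one]
  rw [← mul_assoc t t, D.tsq, one_mul, ← mul_assoc (h ^ i) (h ^ (-i)), ← zpow_add, add_neg_cancel, zpow_zero,
    one_mul]

theorem Datum.exch_mul {v z v₁ v₂ z₁ z₂ : H} {i k : ℤ} (h1 : v₁ ∈ W) (h3 : z₂ ∈ W)
    (he : t * v * t = v₁ * h ^ i * t * v₂) (hk : t * z * t = z₁ * h ^ k * t * z₂)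
    (hw : Exch W h t (v₂ * z₁)) : Exch W h t (v * z) := by
  obtain ⟨x₁, hx1, x₂, hx2, l, hw⟩ := hw
  set k' : ℤ := -(q : ℤ) * k with hk'
  refine ⟨v₁ * (h ^ i * x₁ * h ^ (-i)), mul_mem h1 (D.norm _ hx1 i), (h ^ (-k') * x₂ * h ^ k') * z₂,
    mul_mem (by simpa using D.norm _ hx2 (-k')) h3, i + l + -(q : ℤ) * k', ?_⟩
  calc t * (v * z) * t = (t * v * t) * (t * z * t) := by
        simp only [mul_assoc]; rw [← mul_assoc t t, D.tsq, one_mul]
    _ = v₁ * h ^ i * (t * (v₂ * z₁) * t) * (t * h ^ k * t) * z₂ := by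
        rw [he, hk]; simp only [mul_assoc]; rw [← mul_assoc t t, D.tsq, one_mul]
    _ = v₁ * (h ^ i * x₁ * h ^ (-i)) * h ^ (i + l) * (t * h ^ k') * ((h ^ (-k') * x₂ * h ^ k') * z₂) := by
        rw [hw, D.t_conj, ← hk', zpow_add, zpow_neg, zpow_neg]
        simp only [mul_assoc, inv_mul_cancel_left, mul_inv_cancel_left]
    _ = _ := by rw [D.t_mul, zpow_add _ (i + l)]; simp only [mul_assoc]

theorem Good.conj {a b : F} (g : Good hF π W h t a b) :
    Good hF π W h t ((rh q ζ : F) * a) ((ζ : F) ^ (q + 1) * b) := by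
  obtain ⟨v, hv, hab, e, he⟩ := g
  refine ⟨_, D.norm v hv 1, val_conj hF hab ζ, ?_, D.exch_conj he 1⟩
  rw [map_mul, map_mul, D.pih_zpow, D.pih_zpow, e, zpow_one, ← hel_conj hF hab ζ, ← hel_zpow, zpow_neg_one]

theorem Good.inv {a b : F} (g : Good hF π W h t a b) : Good hF π W h t (-a) (b ^ q) := by
  obtain ⟨v, hv, hab, e, he⟩ := g
  exact ⟨v⁻¹, inv_mem hv, val_inv hF hab, by rw [map_inv, e, xel_inv], D.exch_inv he⟩

theorem Good.second {a b : F} (g : Good hF π W h t a b) : Good hF π W h t (-a / b ^ q) (1 / b) := by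
  obtain ⟨v, hv, hab, e, he⟩ := g
  obtain ⟨v₁, h1, v₂, h2, i, he, -, -, hab₂, e2⟩ := D.params hv he e
  exact ⟨v₂, h2, hab₂, e2, D.exch_second hv h1 i he⟩

theorem Good.mul {a b c : F} (g : Good hF π W h t a b) (gz : Good hF π W h t 0 c)
    (gw : Good hF π W h t (-a / b ^ q) (1 / b + 1 / c)) : Good hF π W h t a (b + c) := by
  obtain ⟨v, hv, hab, e, he⟩ := g
  obtain ⟨z, hz, hc, ez, hez⟩ := gz
  obtain ⟨w, hw, hwv, ew, hew⟩ := gw
  obtain ⟨v₁, h1, v₂, h2, i, he, -, -, hab₂, e2⟩ := D.params hv he e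
  obtain ⟨z₁, k1, z₂, k2, k, hk, -, ⟨hz1, ez1⟩, -⟩ := D.params hz hez ez
  have hval : Val q a (b + c) := by
    have := val_mul hF hab hc
    simpa using this
  refine ⟨v * z, mul_mem hv hz, hval, ?_, D.exch_mul h1 k2 he hk ?_⟩
  · rw [map_mul, e, ez, xel_mul]
    exact xel_congr hF _ _ (add_zero a) (by simp)
  · have : v₂ * z₁ = w := by
      refine D.eq_of_image (mul_mem h2 k1) hw ?_
      rw [map_mul, e2, ez1, ew, xel_mul]
      exact xel_congr hF _ _ (by simp) (by simp)
    rw [this]; exact hew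

/-- all exchange relations on the centre -/
theorem good_centre {c : F} (hc0 : c ≠ 0) (g : Good hF π W h t 0 c) {d : F} (hd0 : d ≠ 0) (hd : d + d ^ q = 0) :
    Good hF π W h t 0 d := by
  have hc : c + c ^ q = 0 := (val_skew hF).1 (by obtain ⟨_, _, hv, -⟩ := g; exact hv)
  obtain ⟨i, hi⟩ := fixed_pow hF D.hgen (x := d / c) (div_ne_zero hd0 hc0) (by
    rw [div_pow, show d ^ q = -d by linear_combination hd, show c ^ q = -c by linear_combination hc, neg_div_neg_eq])
  have key : ∀ n : ℕ, Good hF π W h t 0 ((((ζ ^ (q + 1) : Fˣ) : F)) ^ n * c) := by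
    intro n
    induction n with
    | zero => simpa using g
    | succ n ih =>
      have := ih.conj D
      rwa [mul_zero, ← Units.val_pow_eq_pow_val ζ, ← mul_assoc, ← pow_succ'] at this
  have := key i
  rwa [← hi, div_mul_cancel₀ _ hc0] at this

/-- the parameters of one class -/
theorem good_class_one {c β : F} (hc : c + c ^ q = 0) (hβ : β = c * (ζ : F)) (g : Good hF π W h t 1 β) {a : F}
    (ha : a ≠ 0) : Good hF π W h t a (β * (a ^ q * a)) := by
  have hβ0 : β ≠ 0 := by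
    obtain ⟨v, hv, hab, e, he⟩ := g
    obtain ⟨-, -, -, -, -, -, hb, -⟩ := D.params hv he e
    exact hb
  set A : Set Fˣ := {x | Good hF π W h t (x : F) (β * ((x : F) ^ q * x))}
  set r := rh q ζ
  set B : Fˣ := (Units.mk0 β hβ0 ^ q)⁻¹
  have h1 : (1 : Fˣ) ∈ A := by
    show Good hF π W h t ((1 : Fˣ) : F) _
    simpa using g
  have hr : ∀ x ∈ A, r * x ∈ A := by
    intro x hx
    have := (show Good hF π W h t (x : F) _ from hx).conj D
    show Good hF π W h t ((r * x : Fˣ) : F) _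
    convert this using 1
    · simp [r]
    · have e := congrArg (fun y : Fˣ => (y : F)) (rh_pow_succ hF D.hgen)
      simp only [Units.val_pow_eq_pow_val] at e
      rw [pow_succ] at e
      simp only [r, Units.val_mul, mul_pow]
      linear_combination β * (x : F) ^ q * (x : F) * e
  have hrn : ∀ (n : ℕ), ∀ x ∈ A, r ^ n * x ∈ A := by
    intro n
    induction n with
    | zero => simp
    | succ n ih => intro x hx; rw [pow_succ', mul_assoc]; exact hr _ (ih x hx)
  have hB : ∀ x ∈ A, B * x ∈ A := by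
    intro x hx
    have := ((show Good hF π W h t (x : F) _ from hx).second D).inv D
    set N : Fˣ := (x ^ q * x) ^ q
    have hNf : ((x ^ q * x : Fˣ) : F) ^ q = ((x ^ q * x : Fˣ) : F) := by
      simp [mul_pow, pow_q_q hF, mul_comm]
    obtain ⟨n, hn⟩ : ∃ n : ℕ, r ^ n = x ^ q * x :=
      mem_powers_iff_mem_zpowers.mpr (fixed_mem hF D.hgen hNf)
    have e : B * x = r ^ n * (B * N⁻¹ * x) := by
      have hN : N = x ^ q * x := Units.ext (by simpa [N] using hNf)
      rw [hn, hN, ← mul_assoc, mul_comm _ (B * (x ^ q * x)⁻¹), inv_mul_cancel_right]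
    rw [e]
    refine hrn n _ ?_
    show Good hF π W h t ((B * N⁻¹ * x : Fˣ) : F) _
    convert this using 1
    · simp [B, N, mul_pow]
      field_simp
    · have hx0 : (x : F) ≠ 0 := x.ne_zero
      have hxq : (x : F) ^ q ≠ 0 := pow_ne_zero _ hx0
      have hbq : β ^ q ≠ 0 := pow_ne_zero _ hβ0
      simp [B, N, mul_pow, inv_pow, div_pow, pow_q_q hF]
      field_simp
  let S : Submonoid Fˣ :=
    { carrier := {s | ∀ x ∈ A, s * x ∈ A}
      mul_mem' := fun {s s'} hs hs' x hx => by rw [mul_assoc]; exact hs _ (hs' x hx)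
      one_mem' := fun x hx => by rwa [one_mul] }
  let S' : Subgroup Fˣ := Subgroup.closure {r, B}
  have hle : ∀ y ∈ S', y ∈ S := by
    intro y hy
    induction hy using Subgroup.closure_induction with
    | mem z hz =>
      rcases hz with rfl | rfl
      · exact hr
      · exact hB
    | one => exact S.one_mem
    | mul z z' _ _ hz hz' => exact S.mul_mem hz hz'
    | inv z _ hz =>
      have : z⁻¹ = z ^ (orderOf z - 1) := inv_eq_of_mul_eq_one_right (by
        rw [← pow_succ', Nat.sub_add_cancel (orderOf_pos z), pow_orderOf_eq_one])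
      rw [this]; exact pow_mem hz _
  have htop : S' = ⊤ := by
    refine gen_all hF D.hgen (Subgroup.subset_closure (Set.mem_insert _ _)) (β := Units.mk0 β hβ0) ?_ hc hβ
    have hb : B ∈ S' := Subgroup.subset_closure (Set.mem_insert_of_mem _ rfl)
    have e : Units.mk0 β hβ0 = (B⁻¹) ^ q := by
      refine Units.ext ?_
      simp [B, pow_q_q hF]
    rw [e]; exact pow_mem (inv_mem hb) q
  have := hle (Units.mk0 a ha) (htop ▸ Subgroup.mem_top _) 1 h1
  simpa [A] using this

/-- every exchange relation -/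
theorem good_all {c0 c β : F} (hc0 : c0 ≠ 0) (gz : Good hF π W h t 0 c0) (hc : c + c ^ q = 0)
    (hβ : β = c * (ζ : F)) (g : Good hF π W h t 1 β) {a b : F} (hab : Val q a b) (hb : b ≠ 0) :
    Good hF π W h t a b := by
  by_cases ha : a = 0
  · subst ha
    exact good_centre D hc0 gz hb ((val_skew hF).1 hab)
  have hβ0 : β ≠ 0 := by
    obtain ⟨v, hv, hab, e, he⟩ := g
    obtain ⟨-, -, -, -, -, -, hb, -⟩ := D.params hv he e
    exact hb
  have hc' : c ≠ 0 := fun h0 => hβ0 (by rw [hβ, h0, zero_mul])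
  have hcq : c ^ q = -c := by linear_combination hc
  have hN : ∀ x : F, (x ^ q * x) ^ q = x ^ q * x := fun x => by rw [mul_pow, pow_q_q hF, mul_comm]
  have hg := g
  obtain ⟨-, -, hβv, -⟩ := hg
  have hβ1 : β + β ^ q + 1 = 0 := by simpa [Val] using hβv
  -- the class of `β`
  have one : ∀ a b s : F, Val q a b → a ≠ 0 → s + s ^ q = 0 → b = s * (ζ : F) → Good hF π W h t a b := by
    intro a b s hab ha hs hb
    have hr : b / β = s / c := by rw [hb, hβ, mul_div_mul_right _ _ ζ.ne_zero]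
    have hrf : (b / β) ^ q = b / β := by
      rw [hr, div_pow, hcq, show s ^ q = -s by linear_combination hs, neg_div_neg_eq]
    have e : b = β * (a ^ q * a) := by
      have h1 : b = b / β * β := (div_mul_cancel₀ b hβ0).symm
      have h2 : b ^ q = b / β * β ^ q := by
        conv_lhs => rw [h1]
        rw [mul_pow, hrf]
      unfold Val at hab
      have h3 : b / β = a ^ q * a := by linear_combination h1 + h2 - hab + (b / β) * hβ1
      rw [← h3, mul_comm, div_mul_cancel₀ _ hβ0]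
    rw [e]
    exact good_class_one D hc hβ g ha
  have key : ∀ n : ℕ, ∀ a b s : F, Val q a b → a ≠ 0 → s + s ^ q = 0 → b = s * (ζ : F) ^ n →
      Good hF π W h t a b := by
    intro n
    induction n with
    | zero =>
      intro a b s hab ha hs hb
      rw [pow_zero, mul_one] at hb
      subst hb
      exfalso
      unfold Val at hab
      have := (mul_eq_zero.1 (show a ^ q * a = 0 by linear_combination hab - hs)).resolve_right ha
      exact ha (pow_eq_zero_iff (q_ne_zero hF) |>.1 this)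
    | succ n ih =>
      intro a b s hab ha hs hb
      by_cases hn : q + 1 ∣ n
      · refine one a b (s * (ζ : F) ^ n) hab ha ?_ (by rw [hb, pow_succ, mul_assoc])
        obtain ⟨j, rfl⟩ := hn
        have := sigma_fixed hF D.hgen
        rw [Units.val_pow_eq_pow_val] at this
        rw [pow_mul, mul_pow, ← pow_mul ((ζ : F) ^ (q + 1)) j q, mul_comm j q, pow_mul ((ζ : F) ^ (q + 1)) q j,
          this]
        linear_combination ((ζ : F) ^ (q + 1)) ^ j * hs
      have hT := tr_ne hF D.hgen hc' hc hn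
      set T := c * (ζ : F) ^ n + (c * (ζ : F) ^ n) ^ q
      have hTf : T ^ q = T := by simp only [T, add_pow_q hF, pow_q_q hF]; ring
      set s₀ := -(a ^ q * a) / T * c with hs₀
      have hsk : s₀ + s₀ ^ q = 0 := by
        rw [hs₀, mul_pow, div_pow, neg_pow_q hF, hN, hTf, hcq]; ring
      have ha' : a ^ q * a ≠ 0 := mul_ne_zero (pow_ne_zero _ ha) ha
      have hs0 : s₀ ≠ 0 := mul_ne_zero (div_ne_zero (neg_ne_zero.2 ha') hT) hc'
      set b₀ := s₀ * (ζ : F) ^ n with hb₀
      have hb0 : b₀ ≠ 0 := mul_ne_zero hs0 (pow_ne_zero _ ζ.ne_zero)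
      have hv0 : Val q a b₀ := by
        have e : b₀ + b₀ ^ q = -(a ^ q * a) / T * T := by
          have e1 : b₀ = -(a ^ q * a) / T * (c * (ζ : F) ^ n) := by rw [hb₀, hs₀, mul_assoc]
          rw [e1, mul_pow, div_pow, neg_pow_q hF, hN, hTf, ← mul_add]
        rw [div_mul_cancel₀ _ hT] at e
        unfold Val; linear_combination e
      have g0 := ih a b₀ s₀ hv0 ha hsk hb₀
      set d := b - b₀ with hd
      have hdk : d + d ^ q = 0 := by
        unfold Val at hab hv0
        rw [hd, sub_pow_q hF]; linear_combination hab - hv0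
      have hd0 : d ≠ 0 := by
        intro h0
        rw [hd, hb, hb₀, pow_succ, sub_eq_zero] at h0
        have hζ1 : s₀ = s * (ζ : F) :=
          mul_right_cancel₀ (pow_ne_zero n ζ.ne_zero) (by linear_combination -h0)
        have hs1 : s ≠ 0 := fun h1 => hs0 (by rw [hζ1, h1, zero_mul])
        have h2 : (ζ : F) ^ q = ζ := by
          have := hsk
          rw [hζ1, mul_pow, show s ^ q = -s by linear_combination hs] at this
          have h3 := (mul_eq_zero.1 (show s * ((ζ : F) - (ζ : F) ^ q) = 0 by linear_combination this)).resolve_left hs1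
          exact (sub_eq_zero.1 h3).symm
        have hq := two_le_q hF
        exact tr_ne hF D.hgen hc' hc (n := 1) (by rw [Nat.dvd_one]; omega)
          (by rw [pow_one, mul_pow, h2, hcq]; ring)
      have gd := good_centre D hc0 gz hd0 hdk
      obtain ⟨v, hv, hab₀, e, he⟩ := g0
      obtain ⟨v₁, h1, v₂, h2, i, he', -, -, hab₂, e2⟩ := D.params hv he e
      have hw : Val q (-a / b₀ ^ q) (1 / b₀ + 1 / d) := by
        have hv' : Val q (0 : F) (1 / d) := by
          rw [val_skew hF, div_pow, one_pow, show d ^ q = -d by linear_combination hdk, div_neg]; ring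
        have := val_mul hF hab₂ hv'
        simpa using this
      have gw : Good hF π W h t (-a / b₀ ^ q) (1 / b₀ + 1 / d) := by
        refine one _ _ (s / (s₀ * d)) hw
          (div_ne_zero (neg_ne_zero.2 ha) (pow_ne_zero _ hb0)) ?_ ?_
        · rw [div_pow, mul_pow, show s₀ ^ q = -s₀ by linear_combination hsk,
            show d ^ q = -d by linear_combination hdk, show s ^ q = -s by linear_combination hs, neg_mul_neg, neg_div]
          ring
        · have hz : (ζ : F) ^ n ≠ 0 := pow_ne_zero _ ζ.ne_zero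
          rw [hb₀]
          field_simp
          rw [hd, hb₀, hb, pow_succ]
          ring
      have := Good.mul D ⟨v, hv, hab₀, e, he⟩ gd gw
      rwa [hd, add_sub_cancel] at this
  obtain ⟨k, hk⟩ := exists_pow D.hgen (a := b / c) (div_ne_zero hb hc')
  exact key k a b c hab ha hc (by rw [hk, mul_div_cancel₀ _ hc'])

/-- with all exchange relations the map is injective -/
theorem injective {c0 c β : F} (hc0 : c0 ≠ 0) (gz : Good hF π W h t 0 c0) (hc : c + c ^ q = 0)
    (hβ : β = c * (ζ : F)) (g : Good hF π W h t 1 β) : Function.Injective π := by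
  have exch : ∀ v ∈ W, v ≠ 1 → Exch W h t v := by
    intro v hv hne
    obtain ⟨a, b, hab, e⟩ := D.img v hv
    have hne' : a ≠ 0 ∨ b ≠ 0 := by
      by_contra hcon
      push Not at hcon
      refine hne (D.inj v hv ?_)
      rw [e, ← xel_zero hF]
      exact xel_congr hF _ _ hcon.1 hcon.2
    obtain ⟨v', hv', hab', e', he⟩ := good_all D hc0 gz hc hβ g hab (val_ne_zero hF hab hne')
    rwa [D.eq_of_image hv hv' (by rw [e, e'])]
  let P : H → Prop := fun x => (∃ v ∈ W, ∃ i : ℤ, x = v * h ^ i) ∨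
    ∃ v ∈ W, ∃ v' ∈ W, ∃ i : ℤ, x = v * h ^ i * t * v'
  have hW : ∀ x, P x → ∀ y ∈ W, P (x * y) := by
    rintro x (⟨v, hv, i, rfl⟩ | ⟨v, hv, v', hv', i, rfl⟩) y hy
    · refine Or.inl ⟨v * (h ^ i * y * h ^ (-i)), mul_mem hv (D.norm y hy i), i, ?_⟩
      rw [zpow_neg]; simp [mul_assoc]
    · exact Or.inr ⟨v, hv, v' * y, mul_mem hv' hy, i, by simp [mul_assoc]⟩
  have hh : ∀ x, P x → ∀ k : ℤ, P (x * h ^ k) := by
    rintro x (⟨v, hv, i, rfl⟩ | ⟨v, hv, v', hv', i, rfl⟩) k
    · exact Or.inl ⟨v, hv, i + k, by rw [zpow_add, mul_assoc]⟩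
    · refine Or.inr ⟨v, hv, h ^ (-k) * v' * h ^ k, by simpa using D.norm v' hv' (-k), i + -(q : ℤ) * k, ?_⟩
      calc v * h ^ i * t * v' * h ^ k = v * h ^ i * (t * h ^ k) * (h ^ (-k) * v' * h ^ k) := by
            rw [zpow_neg]; simp [mul_assoc]
        _ = _ := by rw [D.t_mul, zpow_add]; simp only [mul_assoc]
  have ht : ∀ x, P x → P (x * t) := by
    rintro x (⟨v, hv, i, rfl⟩ | ⟨v, hv, v', hv', i, rfl⟩)
    · exact Or.inr ⟨v, hv, 1, one_mem W, i, by simp⟩
    · rcases eq_or_ne v' 1 with rfl | hne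
      · exact Or.inl ⟨v, hv, i, by simp [mul_assoc, D.tsq]⟩
      · obtain ⟨x₁, h1, x₂, h2, l, e⟩ := exch v' hv' hne
        refine Or.inr ⟨v * (h ^ i * x₁ * h ^ (-i)), mul_mem hv (D.norm _ h1 i), x₂, h2, i + l, ?_⟩
        calc v * h ^ i * t * v' * t = v * h ^ i * (t * v' * t) := by simp only [mul_assoc]
          _ = _ := by rw [e, zpow_add, zpow_neg]; simp [mul_assoc]
  have all : ∀ x, P x := by
    intro x
    induction (D.gen ▸ Subgroup.mem_top x : x ∈ Subgroup.closure ((W : Set H) ∪ {h, t})) using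
      Subgroup.closure_induction_right with
    | one => exact Or.inl ⟨1, one_mem W, 0, by simp⟩
    | mul_right x _ y hy ih =>
      rcases hy with hy | rfl | rfl
      · exact hW x ih y hy
      · simpa using hh x ih 1
      · exact ht x ih
    | mul_inv_cancel x _ y hy ih =>
      rcases hy with hy | rfl | rfl
      · exact hW x ih _ (inv_mem hy)
      · simpa using hh x ih (-1)
      · rw [D.t_inv]; exact ht x ih
  refine (injective_iff_map_eq_one π).2 fun x hx => ?_
  rcases all x with ⟨v, hv, i, rfl⟩ | ⟨v, hv, v', hv', i, rfl⟩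
  · obtain ⟨a, b, hab, e⟩ := D.img v hv
    rw [map_mul, e, D.pih_zpow] at hx
    obtain ⟨rfl, rfl, hi⟩ := borel_eq_one hF hab hx
    have h1 : v = 1 := D.inj v hv (by rw [e, ← xel_zero hF])
    have hdvd := dvd_of_zpow_eq_one D.hgen hi
    rw [hF] at hdvd
    obtain ⟨m, rfl⟩ := hdvd
    rw [h1, one_mul, zpow_mul, zpow_natCast, D.hord, one_zpow]
  · obtain ⟨a, b, hab, e⟩ := D.img v hv
    obtain ⟨a', b', hab', e'⟩ := D.img v' hv'
    rw [map_mul, map_mul, map_mul, e, e', D.pih_zpow, D.pit] at hx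
    exact absurd hx (big_cell_ne hF hab hab' _)

end

end Cfsg.Agent.SU3PresClose78
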