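import Cfsg.Agent.Lib.SU3PresModel78
import Cfsg.Agent.Lib.SL2PresData

/-!
Field facts for short presentations of `SU(3, q)`.
-/

set_option autoImplicit false
set_option linter.unusedSectionVars false

namespace Cfsg.Agent.SU3PresField78

open Cfsg.Agent.OrthUnitaryHerm Cfsg.Agent.SL2PresData Cfsg.Agent.SU3PresModel78

variable {F : Type*} [Field F] [Fintype F] {q : ℕ}

section gen

variable {ζ : Fˣ} (hF : Fintype.card F = q ^ 2) (hζ : ∀ y, y ∈ Subgroup.zpowers ζ)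

theorem sq_split (q : ℕ) : q ^ 2 - 1 = (q + 1) * (q - 1) := by
  simpa using Nat.sq_sub_sq q 1

include hF hζ

theorem zeta_pow_eq_one {k : ℕ} : ζ ^ k = 1 ↔ q ^ 2 - 1 ∣ k := by
  rw [← orderOf_dvd_iff_pow_eq_one, orderOf_gen hζ, hF]

theorem zeta_top : ζ ^ (q ^ 2 - 1) = 1 := (zeta_pow_eq_one hF hζ).2 dvd_rfl

/-- the generator of the fixed field -/
theorem fixed_pow {x : F} (hx0 : x ≠ 0) (hx : x ^ q = x) : ∃ i : ℕ, x = ((ζ ^ (q + 1) : Fˣ) : F) ^ i := by
  obtain ⟨k, hk⟩ := exists_pow hζ hx0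
  have hq := two_le_q hF
  have h1 : ζ ^ (k * (q - 1)) = 1 := by
    refine Units.ext ?_
    rw [Units.val_pow_eq_pow_val, Units.val_one, pow_mul, hk]
    refine mul_right_cancel₀ hx0 ?_
    rw [← pow_succ, Nat.sub_add_cancel (by omega), hx, one_mul]
  have h2 := (zeta_pow_eq_one hF hζ).1 h1
  rw [sq_split] at h2
  obtain ⟨i, rfl⟩ := Nat.dvd_of_mul_dvd_mul_right (by omega) h2
  exact ⟨i, by rw [← hk, Units.val_pow_eq_pow_val, pow_mul]⟩

theorem sigma_fixed : (((ζ ^ (q + 1) : Fˣ) : F)) ^ q = ((ζ ^ (q + 1) : Fˣ) : F) := by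
  rw [Units.val_pow_eq_pow_val, pow_succ, mul_pow, pow_q_q hF, mul_comm]

theorem rh_pow_succ : rh q ζ ^ (q + 1) = ζ ^ (q + 1) := by
  have h := zeta_top hF hζ
  have hq := two_le_q hF
  have e : (ζ ^ q) ^ q = ζ := by
    rw [← pow_mul, ← sq, show q ^ 2 = (q ^ 2 - 1) + 1 by
      have := Nat.one_le_pow 2 q (by omega); omega, pow_succ, h, one_mul]
  rw [rh, mul_pow, pow_succ ((ζ ^ q) ^ 2), ← pow_mul (ζ ^ q) 2 q, mul_comm 2 q, pow_mul (ζ ^ q) q 2, e,
    pow_succ ζ⁻¹, inv_pow]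
  rw [pow_succ ζ q]
  calc ζ ^ 2 * (ζ ^ q) ^ 2 * ((ζ ^ q)⁻¹ * ζ⁻¹) = ζ * (ζ ^ q) * (ζ * (ζ ^ q) * (ζ * ζ ^ q)⁻¹) := by
        simp only [sq, mul_inv_rev]; ac_rfl
    _ = ζ ^ q * ζ := by rw [mul_inv_cancel, mul_one, mul_comm]

theorem sigma_mem : ζ ^ (q + 1) ∈ Subgroup.zpowers (rh q ζ) := by
  rw [← rh_pow_succ hF hζ]; exact Subgroup.npow_mem_zpowers _ _

theorem cube_mem : ζ ^ 3 ∈ Subgroup.zpowers (rh q ζ) := by
  have hq := two_le_q hF
  have e : (ζ ^ q) ^ q = ζ := by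
    rw [← pow_mul, ← sq, show q ^ 2 = (q ^ 2 - 1) + 1 by
      have := Nat.one_le_pow 2 q (by omega); omega, pow_succ, zeta_top hF hζ, one_mul]
  have : ζ ^ 3 = rh q ζ ^ q * ζ ^ (q + 1) := by
    rw [rh, mul_pow, ← pow_mul (ζ ^ q) 2 q, mul_comm 2 q, pow_mul (ζ ^ q) q 2, e, inv_pow, pow_succ ζ q,
      mul_assoc, inv_mul_cancel_left, pow_succ]
  rw [this]
  exact mul_mem (Subgroup.npow_mem_zpowers _ _) (sigma_mem hF hζ)

theorem fixed_mem {x : Fˣ} (hx : (x : F) ^ q = x) : x ∈ Subgroup.zpowers (rh q ζ) := by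
  obtain ⟨i, hi⟩ := fixed_pow hF hζ x.ne_zero hx
  have : x = (ζ ^ (q + 1)) ^ i := Units.ext (by rw [hi, ← Units.val_pow_eq_pow_val])
  rw [this]; exact pow_mem (sigma_mem hF hζ) i

/-- the rule for `a`-parameters generates all scalars -/
theorem gen_all {S : Subgroup Fˣ} (hr : rh q ζ ∈ S) {β : Fˣ} (hb : β ∈ S) {c : F} (hc : c + c ^ q = 0)
    (e : (β : F) = c * (ζ : F)) : S = ⊤ := by
  have hle : Subgroup.zpowers (rh q ζ) ≤ S := Subgroup.zpowers_le.2 hr
  have h3 : ζ ^ 3 ∈ S := hle (cube_mem hF hζ)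
  have hc0 : c ≠ 0 := fun h => β.ne_zero (by rw [e, h, zero_mul])
  have hc2 : (c ^ 2) ^ q = c ^ 2 := by
    rw [← pow_mul, mul_comm, pow_mul, show c ^ q = -c by linear_combination hc, neg_sq]
  have h2 : ζ ^ 2 ∈ S := by
    have : ζ ^ 2 = (Units.mk0 (c ^ 2) (pow_ne_zero _ hc0))⁻¹ * β ^ 2 := by
      rw [eq_inv_mul_iff_mul_eq]
      refine Units.ext ?_
      simp [e, mul_pow]
    rw [this]
    exact mul_mem (inv_mem (hle (fixed_mem hF hζ hc2))) (pow_mem hb 2)
  have h1 : ζ ∈ S := by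
    have : ζ = (ζ ^ 2)⁻¹ * ζ ^ 3 := by rw [pow_succ ζ 2, inv_mul_cancel_left]
    rw [this]; exact mul_mem (inv_mem h2) h3
  exact eq_top_iff.2 fun y _ => Subgroup.zpowers_le.2 h1 (hζ y)

theorem tr_ne {c : F} (hc0 : c ≠ 0) (hc : c + c ^ q = 0) {n : ℕ} (hn : ¬ q + 1 ∣ n) :
    c * (ζ : F) ^ n + (c * (ζ : F) ^ n) ^ q ≠ 0 := by
  intro h
  rw [mul_pow, show c ^ q = -c by linear_combination hc] at h
  have h1 : ((ζ : F) ^ n) ^ q = (ζ : F) ^ n := by
    have := (mul_eq_zero.1 (show c * ((ζ : F) ^ n - ((ζ : F) ^ n) ^ q) = 0 by linear_combination h)).resolve_left hc0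
    exact (sub_eq_zero.1 this).symm
  have hq := two_le_q hF
  have h2 : ζ ^ (n * (q - 1)) = 1 := by
    refine Units.ext ?_
    rw [Units.val_pow_eq_pow_val, Units.val_one, pow_mul]
    refine mul_right_cancel₀ (pow_ne_zero n ζ.ne_zero) ?_
    rw [← pow_succ, Nat.sub_add_cancel (by omega), h1, one_mul]
  have h3 := (zeta_pow_eq_one hF hζ).1 h2
  rw [sq_split] at h3
  exact hn (Nat.dvd_of_mul_dvd_mul_right (by omega) h3)

variable {p : ℕ} [Fact p.Prime] [Algebra (ZMod p) F]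

theorem adjoin_top {x : F}
    (h : ∀ r, 2 ≤ r → r ≤ q → r ∣ q → x ^ r = x → False) : Algebra.adjoin (ZMod p) {x} = ⊤ := by
  rcases subalgebra_cases (Algebra.adjoin (ZMod p) {x}) with e | ⟨r, h2, hle, hd, -, hfix⟩
  · exact e
  exfalso
  rw [hF] at hle hd
  have hrq : r ≤ q := Nat.mul_self_le_mul_self_iff.1 (by rw [← sq q]; exact hle)
  obtain ⟨l, e, hl, -, -, hq⟩ := exists_prime_pow hF
  have hd' : r ∣ l ^ (e * 2) := by rw [pow_mul, ← hq]; exact hd
  obtain ⟨i, -, rfl⟩ := (Nat.dvd_prime_pow hl).1 hd'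
  refine h _ h2 hrq ?_ (hfix x (Algebra.self_mem_adjoin_singleton _ _))
  rw [hq] at hrq ⊢
  exact pow_dvd_pow l ((Nat.pow_le_pow_iff_right hl.one_lt).1 hrq)

theorem pow_pred_eq_one {x : Fˣ} {r : ℕ} (h2 : 2 ≤ r) (h : (x : F) ^ r = x) : x ^ (r - 1) = 1 := by
  have : x ^ (r - 1) * x = 1 * x := by
    rw [← pow_succ, Nat.sub_add_cancel (by omega), one_mul]
    exact Units.ext (by simpa using h)
  exact mul_right_cancel this

theorem rh_adjoin (hq3 : 3 ≤ q) : Algebra.adjoin (ZMod p) {(rh q ζ : F)} = ⊤ := by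
  refine adjoin_top hF hζ fun r h2 hle _ hfix => ?_
  have h := pow_pred_eq_one hF hζ h2 hfix
  have e : rh q ζ ^ (2 * q + 1) = ζ ^ 3 := by
    have e1 : rh q ζ ^ (2 * q + 1) * ζ ^ (2 * q + 1) = (ζ ^ q) ^ (2 * (2 * q + 1)) := by
      rw [rh, mul_pow, inv_pow, inv_mul_cancel_right, ← pow_mul]
    have e2 : (ζ ^ q) ^ (2 * (2 * q + 1)) = (ζ ^ (q ^ 2 - 1)) ^ 4 * (ζ ^ (2 * q + 1) * ζ ^ 3) := by
      rw [← pow_mul, ← pow_mul, ← pow_add, ← pow_add]
      have := Nat.one_le_pow 2 q (by omega)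
      congr 1
      zify [this]
      ring
    rw [e2, zeta_top hF hζ, one_pow, one_mul, mul_comm _ (ζ ^ 3)] at e1
    exact mul_right_cancel e1
  have h3 : ζ ^ (3 * (r - 1)) = 1 := by
    rw [pow_mul, ← e, ← pow_mul, mul_comm, pow_mul, h, one_pow]
  have h4 := Nat.le_of_dvd (by omega) ((zeta_pow_eq_one hF hζ).1 h3)
  have : 3 * (r - 1) < q ^ 2 - 1 := by
    rw [sq_split]
    calc 3 * (r - 1) ≤ 3 * (q - 1) := by omega
      _ < (q + 1) * (q - 1) := Nat.mul_lt_mul_of_pos_right (by omega) (by omega)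
  omega

end gen

/-- the arithmetic behind the generic case -/
theorem no_divisor {q r : ℕ} (h2 : 2 ≤ r) (hle : r ≤ q) (hd : r ∣ q) (hq2 : q ≠ 2) (hq5 : q ≠ 5) (hq8 : q ≠ 8)
    (h : q + 1 ∣ 3 * (r - 1)) : False := by
  obtain ⟨s, rfl⟩ := hd
  obtain ⟨k, hk⟩ := h
  rcases Nat.eq_or_lt_of_le (show 1 ≤ s from Nat.pos_of_ne_zero fun h0 => by subst h0; simp at hle; omega) with hs | hs
  · subst hs
    simp only [mul_one] at *
    have : k < 3 := by
      by_contra hc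
      have : (r + 1) * 3 ≤ (r + 1) * k := Nat.mul_le_mul_left _ (by omega)
      omega
    interval_cases k <;> omega
  · have h1 : r * 2 ≤ r * s := Nat.mul_le_mul_left r hs
    have : k < 2 := by
      by_contra hc
      have : (r * s + 1) * 2 ≤ (r * s + 1) * k := Nat.mul_le_mul_left _ (by omega)
      omega
    interval_cases k
    · omega
    · have hs3 : s < 3 := by
        by_contra hc
        have : r * 3 ≤ r * s := Nat.mul_le_mul_left r (by omega)
        omega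
      interval_cases s
      omega

section generic

variable {ζ : Fˣ} (hF : Fintype.card F = q ^ 2) (hζ : ∀ y, y ∈ Subgroup.zpowers ζ) (hq2 : q ≠ 2)
  (hq5 : q ≠ 5) (hq8 : q ≠ 8) {p : ℕ} [Fact p.Prime] [Algebra (ZMod p) F]

include hF hζ hq2 hq5 hq8

theorem rh_pred_adjoin : Algebra.adjoin (ZMod p) {(rh q ζ : F) ^ (q - 1)} = ⊤ := by
  refine adjoin_top hF hζ fun r h2 hle hd hfix => ?_
  rw [← Units.val_pow_eq_pow_val] at hfix
  have h := pow_pred_eq_one hF hζ h2 hfix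
  have hq := two_le_q hF
  set m := (q - 1) * (r - 1)
  have h3 : ζ ^ (3 * m) = 1 := by
    rw [← pow_mul] at h
    have e : rh q ζ ^ m * ζ ^ (3 * m) = (ζ ^ (q + 1)) ^ (2 * m) := by
      rw [rh, mul_pow, inv_pow, ← pow_mul, ← pow_mul, ← pow_mul, show 3 * m = m + 2 * m by ring, pow_add]
      rw [mul_assoc, inv_mul_cancel_left, ← pow_add]
      congr 1
      ring
    rw [h, one_mul, ← pow_mul, show (q + 1) * (2 * m) = (q ^ 2 - 1) * (2 * (r - 1)) by
      rw [sq_split]; ring] at e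
    exact e.trans (by rw [pow_mul, zeta_top hF hζ, one_pow])
  have h4 := (zeta_pow_eq_one hF hζ).1 h3
  rw [sq_split, show 3 * m = 3 * (r - 1) * (q - 1) by ring] at h4
  exact no_divisor h2 hle hd hq2 hq5 hq8 (Nat.dvd_of_mul_dvd_mul_right (by omega) h4)

/-- a pair of powers `ρ ^ a = 1 + ρ ^ b` with a generating first member -/
theorem exists_pair_rh : ∃ a b : ℕ, (rh q ζ : F) ^ a = 1 + (rh q ζ : F) ^ b ∧
    Algebra.adjoin (ZMod p) {(rh q ζ : F) ^ a} = ⊤ := by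
  have hq := two_le_q hF
  set v : F := (ζ : F) ^ 3 with hv
  have hv0 : v ≠ 0 := pow_ne_zero _ ζ.ne_zero
  set N : F := v * v ^ q with hN
  set T : F := v + v ^ q with hT
  have hN0 : N ≠ 0 := mul_ne_zero hv0 (pow_ne_zero _ hv0)
  have hNf : N ^ q = N := by rw [hN, mul_pow, pow_q_q hF, mul_comm]
  have hTf : T ^ q = T := by rw [hT, add_pow_q hF, pow_q_q hF, add_comm]
  have hT0 : T ≠ 0 := by
    intro h
    have hvq : v ^ q = -v := by linear_combination h
    have hneg : v ^ (q - 1) = -1 := by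
      refine mul_right_cancel₀ hv0 ?_
      rw [← pow_succ, Nat.sub_add_cancel (by omega), hvq]; ring
    have h1 : ζ ^ (6 * (q - 1)) = 1 := by
      refine Units.ext ?_
      rw [Units.val_pow_eq_pow_val, Units.val_one, show 6 * (q - 1) = 3 * ((q - 1) * 2) by ring, pow_mul, ← hv,
        pow_mul, hneg]
      ring
    have h2 := (zeta_pow_eq_one hF hζ).1 h1
    rw [sq_split] at h2
    have h3 := Nat.dvd_of_mul_dvd_mul_right (by omega) h2
    have := Nat.le_of_dvd (by norm_num) h3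
    have : q = 3 ∨ q = 4 := by omega
    rcases this with rfl | rfl <;> norm_num at h3
  have hTm : ∀ x : F, x ^ q = x → ∀ hx : x ≠ 0, Units.mk0 x hx ∈ Subgroup.zpowers (rh q ζ) := fun x hx hx0 =>
    fixed_mem hF hζ (x := Units.mk0 x hx0) hx
  obtain ⟨a, ha⟩ : ∃ a : ℕ, rh q ζ ^ a = Units.mk0 T hT0 * (Units.mk0 N hN0)⁻¹ * ζ ^ 3 :=
    mem_powers_iff_mem_zpowers.mpr (mul_mem (mul_mem (hTm T hTf hT0) (inv_mem (hTm N hNf hN0))) (cube_mem hF hζ))
  obtain ⟨b, hb⟩ : ∃ b : ℕ, rh q ζ ^ b = (Units.mk0 N hN0)⁻¹ * (ζ ^ 3) ^ 2 :=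
    mem_powers_iff_mem_zpowers.mpr (mul_mem (inv_mem (hTm N hNf hN0)) (pow_mem (cube_mem hF hζ) 2))
  have ha' : (rh q ζ : F) ^ a = T / N * v := by
    rw [← Units.val_pow_eq_pow_val, ha]; simp [hv, div_eq_mul_inv]
  have hb' : (rh q ζ : F) ^ b = v ^ 2 / N := by
    rw [← Units.val_pow_eq_pow_val, hb]; simp [hv, div_eq_mul_inv, mul_comm]
  refine ⟨a, b, ?_, ?_⟩
  · rw [ha', hb']
    field_simp
    rw [hT, hN]
    ring
  · refine adjoin_top hF hζ fun r h2 hle hd hfix => ?_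
    rw [← Units.val_pow_eq_pow_val] at hfix
    have h := pow_pred_eq_one hF hζ h2 hfix
    have hm : ((rh q ζ ^ a : Fˣ) : F) ^ (q - 1) = v ^ (q - 1) := by
      rw [Units.val_pow_eq_pow_val, ha', mul_pow]
      have hl0 : T / N ≠ 0 := div_ne_zero hT0 hN0
      have : (T / N) ^ (q - 1) = 1 := by
        refine mul_right_cancel₀ hl0 ?_
        rw [← pow_succ, Nat.sub_add_cancel (by omega), div_pow, hTf, hNf, one_mul]
      rw [this, one_mul]
    have h3 : ζ ^ (3 * (r - 1) * (q - 1)) = 1 := by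
      refine Units.ext ?_
      rw [Units.val_pow_eq_pow_val, Units.val_one, show 3 * (r - 1) * (q - 1) = 3 * ((q - 1) * (r - 1)) by ring,
        pow_mul, ← hv, pow_mul, ← hm, ← pow_mul, mul_comm (q - 1) (r - 1), pow_mul, ← Units.val_pow_eq_pow_val, h,
        Units.val_one, one_pow]
    have h4 := (zeta_pow_eq_one hF hζ).1 h3
    rw [sq_split] at h4
    exact no_divisor h2 hle hd hq2 hq5 hq8 (Nat.dvd_of_mul_dvd_mul_right (by omega) h4)

end generic

/-- a power basis in additive form -/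
theorem exists_dim {p : ℕ} [Fact p.Prime] [Algebra (ZMod p) F] (x : F) :
    ∃ d : ℕ, p ^ d = Nat.card (Algebra.adjoin (ZMod p) {x}) ∧ 0 < d ∧
      ∀ y ∈ Algebra.adjoin (ZMod p) {x}, y ∈ AddSubgroup.closure ((fun i => x ^ i) '' {i | i < d}) := by
  classical
  have : Module.Finite (ZMod p) F := Module.Finite.of_finite
  let pb := Algebra.adjoin.powerBasis (IsIntegral.of_finite (ZMod p) x)
  refine ⟨pb.dim, ?_, pb.dim_pos, fun y hy => ?_⟩
  · have : Module.Finite (ZMod p) (Algebra.adjoin (ZMod p) {x}) := Module.Finite.of_finite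
    rw [Module.natCard_eq_pow_finrank (K := ZMod p) (V := Algebra.adjoin (ZMod p) {x}), Nat.card_zmod,
      pb.finrank]
  · have h := congrArg (Subalgebra.val _) (pb.basis.sum_repr ⟨y, hy⟩)
    rw [map_sum] at h
    have hy' : (Subalgebra.val (Algebra.adjoin (ZMod p) {x})) ⟨y, hy⟩ = y := rfl
    rw [hy'] at h
    rw [← h]
    refine AddSubgroup.sum_mem _ fun i _ => ?_
    rw [map_smul, ← ZMod.natCast_zmod_val (pb.basis.repr ⟨y, hy⟩ i), Nat.cast_smul_eq_nsmul]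
    refine AddSubgroup.nsmul_mem _ ?_ _
    refine AddSubgroup.subset_closure ⟨(i : ℕ), i.2, ?_⟩
    rw [PowerBasis.coe_basis]
    simp [pb]

theorem card_fixed_le (hF : Fintype.card F = q ^ 2) : Nat.card {y : F // y ^ q = y} ≤ q := by
  classical
  have hq := two_le_q hF
  rw [Nat.card_eq_fintype_card, Fintype.card_subtype]
  refine (Polynomial.card_le_degree_of_subset_roots (p := (Polynomial.X ^ q - Polynomial.X : Polynomial F)) ?_).trans
    (le_of_eq (FiniteField.X_pow_card_sub_X_natDegree_eq F hq))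
  intro y hy
  simp only [Finset.mem_val, Finset.mem_filter, Finset.mem_univ, true_and] at hy
  rw [Polynomial.mem_roots (FiniteField.X_pow_card_sub_X_ne_zero F hq)]
  simp [hy]

theorem card_adjoin_fixed (hF : Fintype.card F = q ^ 2) {p : ℕ} [Fact p.Prime] [Algebra (ZMod p) F] {x : F}
    (hx : x ^ q = x) : Nat.card (Algebra.adjoin (ZMod p) {x}) ≤ q := by
  obtain ⟨s, hs⟩ := exists_frobHom hF
  have h : ∀ y ∈ Algebra.adjoin (ZMod p) {x}, y ^ q = y := by
    intro y hy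
    rw [← hs]
    induction hy using Algebra.adjoin_induction with
    | mem z hz => rw [Set.mem_singleton_iff.1 hz, hs, hx]
    | algebraMap r => exact RingHom.congr_fun (RingHom.ext_zmod (s.comp (algebraMap (ZMod p) F)) _) r
    | add a b _ _ ha hb => rw [map_add, ha, hb]
    | mul a b _ _ ha hb => rw [map_mul, ha, hb]
  exact (Nat.card_le_card_of_injective (fun y : Algebra.adjoin (ZMod p) {x} => (⟨y.1, h y.1 y.2⟩ : {y : F // y ^ q = y}))
    fun a b e => Subtype.ext (congrArg (fun z : {y : F // y ^ q = y} => z.1) e)).trans (card_fixed_le hF)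

theorem card_skew_ge (hF : Fintype.card F = q ^ 2) : q ≤ Nat.card {c : F // c + c ^ q = 0} := by
  classical
  obtain ⟨s, hs⟩ := exists_frobHom hF
  let τ : F →+ F := AddMonoidHom.id F + s.toAddMonoidHom
  have hτ : ∀ y, τ y = y + y ^ q := fun y => by simp [τ, hs]
  have hr : Nat.card τ.range ≤ q := by
    refine (Nat.card_le_card_of_injective (fun y : τ.range => (⟨y.1, ?_⟩ : {y : F // y ^ q = y}))
      fun a b e => Subtype.ext (congrArg (fun z : {y : F // y ^ q = y} => z.1) e)).trans (card_fixed_le hF)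
    obtain ⟨z, hz⟩ := y.2
    rw [← hz, hτ, add_pow_q hF, pow_q_q hF, add_comm]
  have hk : Nat.card τ.ker = Nat.card {c : F // c + c ^ q = 0} :=
    Nat.card_congr (Equiv.subtypeEquivRight fun y => by rw [AddMonoidHom.mem_ker, hτ])
  have hm := τ.ker.card_mul_index
  rw [AddSubgroup.index_ker, Nat.card_eq_fintype_card (α := F), hF, hk, sq] at hm
  by_contra hc
  have := Nat.mul_lt_mul_of_lt_of_le (not_le.1 hc) hr (by have := two_le_q hF; omega)
  omega

end Cfsg.Agent.SU3PresField78
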