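import Cfsg.Agent.Lib.ShortPresTools

/-!
Dropping a redundant letter, changing to a prescribed generating pair, and passing to
`PresentedGroup`.
-/

set_option autoImplicit false

namespace Cfsg.Agent.ShortPres

universe u

variable {G : Type u} [Group G]

theorem Pres.elim {a b c : G} {R : List (FreeGroup (Fin 3))} (h : Pres ![a, b, c] R)
    (hab : Subgroup.closure ({a, b} : Set G) = ⊤) :
    ∃ R' : List (FreeGroup (Fin 2)), R'.length ≤ R.length ∧ Pres ![a, b] R' := by
  have hr : Set.range ![a, b] = {a, b} := by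
    simp [Matrix.range_cons, Matrix.range_empty, Set.pair_comm]
  obtain ⟨A0, hA0⟩ := exists_word (x := ![a, b]) (hr ▸ hab) c
  let σ : Fin 3 → FreeGroup (Fin 2) := ![FreeGroup.of 0, FreeGroup.of 1, A0]
  have e : ∀ r, FreeGroup.lift ![a, b] (FreeGroup.lift σ r) = FreeGroup.lift ![a, b, c] r := fun r =>
    map_word (FreeGroup.lift ![a, b]) (fun i => by fin_cases i <;> simp [σ, hA0]) r
  refine ⟨R.map (FreeGroup.lift σ), (List.length_map ..).le, Pres.of_inj ?_ (hr ▸ hab) ?_⟩
  · intro r hr
    obtain ⟨r', hr', rfl⟩ := List.mem_map.mp hr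
    rw [e]; exact h.sat r' hr'
  · intro H _ y π hπ hgen hy
    obtain ⟨f, hf⟩ := h.univ (fun i => FreeGroup.lift y (σ i)) fun r hr => by
      rw [← map_word (FreeGroup.lift y) (x := σ) (fun _ => rfl)]
      exact hy _ (List.mem_map.mpr ⟨r, hr, rfl⟩)
    have hf' : ∀ i, f (![a, b] i) = y i := fun i => by
      fin_cases i
      · simpa [σ] using hf 0
      · simpa [σ] using hf 1
    refine (injective_iff_map_eq_one π).mpr fun g hg => ?_
    obtain ⟨w, rfl⟩ := exists_word hgen g
    rw [map_word π hπ] at hg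
    rw [← map_word f hf', hg, map_one]

theorem Pres.change {ι : Type} {x : ι → G} {R : List (FreeGroup ι)} (h : Pres x R) {k : ℕ}
    (y : Fin k → G) (hy : Subgroup.closure (Set.range y) = ⊤) :
    ∃ L : List (FreeGroup (Fin k)), L.length ≤ R.length + k ∧ Pres y L := by
  choose w hw using fun i => exists_word hy (x i)
  choose W hW using fun j => exists_word h.gen (y j)
  have e : ∀ r, FreeGroup.lift y (FreeGroup.lift w r) = FreeGroup.lift x r := fun r =>
    map_word (FreeGroup.lift y) hw r
  refine ⟨R.map (FreeGroup.lift w) ++ List.ofFn (fun j => (FreeGroup.of j)⁻¹ * FreeGroup.lift w (W j)),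
    by simp, Pres.of_inj ?_ hy ?_⟩
  · intro r hr
    simp only [List.mem_append, List.mem_map, List.mem_ofFn] at hr
    rcases hr with ⟨r, hr, rfl⟩ | ⟨j, rfl⟩
    · rw [e]; exact h.sat r hr
    · simp [e, hW]
  · intro H _ y' π hπ hgen hy'
    have e' : ∀ r, FreeGroup.lift y' (FreeGroup.lift w r) = FreeGroup.lift (fun i => FreeGroup.lift y' (w i)) r :=
      fun r => map_word (FreeGroup.lift y') (fun _ => rfl) r
    obtain ⟨f, hf⟩ := h.univ (fun i => FreeGroup.lift y' (w i)) fun r hr => by
      rw [← e']; exact hy' _ (List.mem_append_left _ (List.mem_map.mpr ⟨r, hr, rfl⟩))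
    have hf' : ∀ j, f (y j) = y' j := fun j => by
      have := hy' _ (List.mem_append_right _ (List.mem_ofFn.mpr ⟨j, rfl⟩))
      rw [map_mul, map_inv, FreeGroup.lift_apply_of, inv_mul_eq_one, e', ← map_word f hf, hW] at this
      exact this.symm
    refine (injective_iff_map_eq_one π).mpr fun g hg => ?_
    obtain ⟨v, rfl⟩ := exists_word hgen g
    rw [map_word π hπ] at hg
    rw [← map_word f hf', hg, map_one]

theorem Pres.presented {ι : Type} [DecidableEq ι] {x : ι → G} {R : List (FreeGroup ι)} (h : Pres x R)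
    {N : ℕ} (hN : R.length ≤ N) :
    ∃ rels : Finset (FreeGroup ι), rels.card ≤ N ∧
      ∃ e : PresentedGroup (↑rels : Set (FreeGroup ι)) ≃* G, ∀ i, e (PresentedGroup.of i) = x i := by
  refine ⟨R.toFinset, (List.toFinset_card_le R).trans hN, ?_⟩
  set S : Set (FreeGroup ι) := ↑R.toFinset
  let π : PresentedGroup S →* G := PresentedGroup.toGroup (f := x) fun r hr => h.sat r (by simpa [S] using hr)
  have e : FreeGroup.lift (fun i => (PresentedGroup.of i : PresentedGroup S)) = PresentedGroup.mk S :=
    FreeGroup.ext_hom _ _ fun i => by simp [PresentedGroup.of]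
  obtain ⟨f, hf⟩ := h.univ (H := PresentedGroup S) PresentedGroup.of fun r hr => by
    rw [e]; exact PresentedGroup.one_of_mem (by simpa [S] using hr)
  refine ⟨MonoidHom.toMulEquiv π f (PresentedGroup.ext fun i => ?_) ?_, fun i => show π (PresentedGroup.of i) = x i by simp [π]⟩
  · simp [π, hf]
  · refine MonoidHom.eq_of_eqOn_dense h.gen ?_
    rintro _ ⟨i, rfl⟩
    simp [π, hf]

end Cfsg.Agent.ShortPres
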