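import Cfsg.Agent.Lib.SU3PresClose78
import Cfsg.Agent.Lib.SU3PresBorel78
import Cfsg.Agent.Lib.ShortPresPairs23

/-!
`SU(3, q)` has a presentation with four letters and at most twenty relators.
-/

set_option autoImplicit false
set_option linter.unusedSectionVars false

namespace Cfsg.Agent.SU3PresMain78

open Cfsg.Agent.OrthUnitaryHerm Cfsg.Agent.SL2PresData Cfsg.Agent.SL2PresAbel Cfsg.Agent.ShortPres
  Cfsg.Agent.SU3PresModel78 Cfsg.Agent.SU3PresField78 Cfsg.Agent.SU3PresBorel78 Cfsg.Agent.SU3PresClose78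

variable {F : Type*} [Field F] [Fintype F] {q : ℕ}

theorem cj_xel (hF : Fintype.card F = q ^ 2) (ζ : Fˣ) {a b : F} (h : Val q a b) (n : ℕ) :
    ∃ h' : Val q ((rh q ζ : F) ^ n * a) (((ζ : F) ^ (q + 1)) ^ n * b),
      cj (hel hF ζ) (xel hF h) n = xel hF h' := by
  induction n with
  | zero =>
    exact ⟨by simpa using h, by rw [cj_zero]; exact xel_congr hF _ _ (by simp) (by simp)⟩
  | succ n ih =>
    obtain ⟨h', e⟩ := ih
    refine ⟨?_, ?_⟩
    · have := val_conj hF h' ζ
      rwa [← mul_assoc, ← mul_assoc, ← pow_succ', ← pow_succ'] at this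
    · rw [SU3PresBorel78.cj_succ', e, hel_conj]
      exact xel_congr hF _ _ (by rw [← mul_assoc, ← pow_succ']) (by rw [← mul_assoc, ← pow_succ'])

theorem xel_pow (hF : Fintype.card F = q ^ 2) {a b : F} (h : Val q a b) (n : ℕ) :
    ∃ (b' : F) (h' : Val q ((n : F) * a) b'), xel hF h ^ n = xel hF h' := by
  induction n with
  | zero =>
    exact ⟨0, by simpa using val_zero (q := q) hF, by
      rw [pow_zero, ← xel_zero hF]; exact xel_congr hF _ _ (by simp) rfl⟩
  | succ n ih =>
    obtain ⟨b', h', e⟩ := ih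
    have hv := val_mul hF h' h
    refine ⟨b' + b - ((n : F) * a) ^ q * a, ?_, ?_⟩
    · convert hv using 1; push_cast; ring
    · rw [pow_succ, e, xel_mul]
      exact xel_congr hF _ _ (by push_cast; ring) rfl

/-- a subgroup of the model containing all central root elements and a spanning set of `a`-parameters -/
theorem all_mem (hF : Fintype.card F = q ^ 2) (T : Subgroup (SUJ q F))
    (hz : ∀ c (hc : Val q (0 : F) c), xel hF hc ∈ T) (S : Set F)
    (hS : ∀ a ∈ S, ∃ (b : F) (h : Val q a b), xel hF h ∈ T) (htop : ∀ a, a ∈ AddSubgroup.closure S) :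
    ∀ a b (h : Val q a b), xel hF h ∈ T := by
  have key : ∀ a, ∃ (b : F) (h : Val q a b), xel hF h ∈ T := by
    intro a
    induction (htop a) using AddSubgroup.closure_induction with
    | mem x hx => exact hS x hx
    | zero => exact ⟨0, val_zero hF, hz _ _⟩
    | add x y _ _ hx hy =>
      obtain ⟨b, h, e⟩ := hx
      obtain ⟨b', h', e'⟩ := hy
      exact ⟨_, val_mul hF h h', by rw [← xel_mul hF h h']; exact mul_mem e e'⟩
    | neg x _ hx =>
      obtain ⟨b, h, e⟩ := hx
      exact ⟨_, val_inv hF h, by rw [← xel_inv hF h]; exact inv_mem e⟩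
  intro a b h
  obtain ⟨b', h', e'⟩ := key a
  have hc : Val q (0 : F) (b - b') := by
    rw [val_skew hF, sub_pow_q hF]
    unfold Val at h h'
    linear_combination h - h'
  have : xel hF h = xel hF h' * xel hF hc := by
    rw [xel_mul]; exact xel_congr hF _ _ (by simp) (by simp)
  rw [this]
  exact mul_mem e' (hz _ hc)

theorem centre_mem (hF : Fintype.card F = q ^ 2) {ζ : Fˣ} (hζ : ∀ y, y ∈ Subgroup.zpowers ζ) {c0 : F}
    (hc0 : c0 ≠ 0) (hc : c0 + c0 ^ q = 0) (T : Subgroup (SUJ q F)) {S : Set F}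
    (hS : ∀ r ∈ S, ∃ h : Val q 0 (r * c0), xel hF h ∈ T)
    (htop : ∀ i : ℕ, ((ζ : F) ^ (q + 1)) ^ i ∈ AddSubgroup.closure S) :
    ∀ c (h : Val q (0 : F) c), xel hF h ∈ T := by
  have key : ∀ r ∈ AddSubgroup.closure S, ∃ h : Val q 0 (r * c0), xel hF h ∈ T := by
    intro r hr
    induction hr using AddSubgroup.closure_induction with
    | mem x hx => exact hS x hx
    | zero =>
      refine ⟨by rw [zero_mul]; exact val_zero hF, ?_⟩
      rw [xel_congr hF _ (val_zero hF) rfl (zero_mul _), xel_zero]; exact one_mem T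
    | add x y _ _ hx hy =>
      obtain ⟨h, e⟩ := hx
      obtain ⟨h', e'⟩ := hy
      have hv := val_mul hF h h'
      refine ⟨by simpa [zero_pow_q hF, add_mul] using hv, ?_⟩
      have := mul_mem e e'
      rw [xel_mul] at this
      rwa [xel_congr hF _ hv (by simp) (by simp [zero_pow_q hF, add_mul])]
    | neg x _ hx =>
      obtain ⟨h, e⟩ := hx
      have hv := val_inv hF h
      have hx' : (x * c0) ^ q = -(x * c0) := by linear_combination (val_skew hF).1 h
      refine ⟨by simpa [hx', neg_mul] using hv, ?_⟩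
      have := inv_mem e
      rw [xel_inv] at this
      rwa [xel_congr hF _ hv (by simp) (by rw [hx', neg_mul])]
  intro c h
  rcases eq_or_ne c 0 with rfl | hc'
  · rw [xel_congr hF h (val_zero hF) rfl rfl, xel_zero]; exact one_mem T
  have hck := (val_skew hF).1 h
  obtain ⟨i, hi⟩ := fixed_pow hF hζ (x := c / c0) (div_ne_zero hc' hc0) (by
    rw [div_pow, show c ^ q = -c by linear_combination hck, show c0 ^ q = -c0 by linear_combination hc, neg_div_neg_eq])
  rw [Units.val_pow_eq_pow_val] at hi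
  obtain ⟨h', e⟩ := key _ (htop i)
  rwa [xel_congr hF h h' rfl (by rw [← hi, div_mul_cancel₀ _ hc0])]

/-- a small subgroup covering a large set -/
theorem inj_of_card {H Q : Type*} [Group H] [Group Q] (π : H →* Q) (K : Subgroup H) [Finite K] {S : Type*} [Finite S]
    (g : S → Q) (hg : Function.Injective g) (hcard : Nat.card K ≤ Nat.card S)
    (hcov : ∀ s, ∃ v ∈ K, π v = g s) :
    (∀ v ∈ K, π v = 1 → v = 1) ∧ ∀ v ∈ K, ∃ s, π v = g s := by
  choose e heK hee using hcov
  have hinj : Function.Injective (fun s => (⟨e s, heK s⟩ : K)) := fun a b hab =>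
    hg (by rw [← hee, ← hee, show e a = e b from congrArg (fun x : K => (x : H)) hab])
  have hsurj := ((Nat.bijective_iff_injective_and_card _).2
    ⟨hinj, le_antisymm (Nat.card_le_card_of_injective _ hinj) hcard⟩).2
  have himg : ∀ v ∈ K, ∃ s, π v = g s := by
    intro v hv
    obtain ⟨s, hs⟩ := hsurj ⟨v, hv⟩
    exact ⟨s, by rw [← hee, show e s = v from congrArg (fun x : K => (x : H)) hs]⟩
  refine ⟨fun v hv h1 => ?_, himg⟩
  obtain ⟨s, hs⟩ := hsurj ⟨v, hv⟩
  obtain ⟨s', hs'⟩ := hsurj ⟨1, one_mem K⟩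
  have hs1 : e s = v := congrArg (fun x : K => (x : H)) hs
  have hs2 : e s' = 1 := congrArg (fun x : K => (x : H)) hs'
  have : s = s' := hg (by rw [← hee, ← hee, hs1, hs2, h1, map_one])
  rw [← hs1, this, hs2]

theorem card_val_ge (hF : Fintype.card F = q ^ 2) : q ^ 2 * q ≤ Nat.card {x : F × F // Val q x.1 x.2} := by
  have hb : ∀ a : F, ∃ b, Val q a b := by
    intro a
    obtain ⟨b, hb⟩ := OrthUnitaryTransvection.exists_trace hF (a := -(a ^ q * a))
      (by rw [neg_pow_q hF, mul_pow, pow_q_q hF, mul_comm])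
    exact ⟨b, by unfold Val; linear_combination hb⟩
  choose b hb using hb
  let f : F × {c : F // c + c ^ q = 0} → {x : F × F // Val q x.1 x.2} := fun x =>
    ⟨(x.1, b x.1 + x.2), by
      have h1 : b x.1 + b x.1 ^ q + x.1 ^ q * x.1 = 0 := hb x.1
      show (b x.1 + (x.2 : F)) + (b x.1 + (x.2 : F)) ^ q + x.1 ^ q * x.1 = 0
      rw [add_pow_q hF]
      linear_combination h1 + x.2.2⟩
  have hf : Function.Injective f := by
    rintro ⟨a, c⟩ ⟨a', c'⟩ e
    have e' := congrArg (fun z : {x : F × F // Val q x.1 x.2} => z.1) e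
    simp only [f, Prod.mk.injEq] at e'
    obtain ⟨rfl, e2⟩ := e'
    exact Prod.ext rfl (Subtype.ext (add_left_cancel e2))
  refine le_trans ?_ (Nat.card_le_card_of_injective f hf)
  rw [Nat.card_prod, Nat.card_eq_fintype_card (α := F), hF]
  exact Nat.mul_le_mul_left _ (card_skew_ge hF)

/-- words in four letters -/
abbrev FG4 := FreeGroup (Fin 4)

/-- first letter -/
def gu : FG4 := FreeGroup.of 0
/-- second letter -/
def gw : FG4 := FreeGroup.of 1
/-- third letter -/
def gh : FG4 := FreeGroup.of 2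
/-- fourth letter -/
def gt : FG4 := FreeGroup.of 3

theorem exists_in {ι : Type} {G : Type*} [Group G] {x : ι → G} {S : Set (FreeGroup ι)} {g : G}
    (hg : g ∈ Subgroup.closure (FreeGroup.lift x '' S)) : ∃ r ∈ Subgroup.closure S, FreeGroup.lift x r = g := by
  rw [← MonoidHom.map_closure] at hg
  exact hg

theorem mem_in {ι : Type} {G : Type*} [Group G] {x : ι → G} {S : Set (FreeGroup ι)} {r : FreeGroup ι}
    (hr : r ∈ Subgroup.closure S) : FreeGroup.lift x r ∈ Subgroup.closure (FreeGroup.lift x '' S) := by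
  rw [← MonoidHom.map_closure]
  exact ⟨r, hr, rfl⟩

variable {G : Type*} [Group G] (z : Fin 4 → G)

theorem lift_gu : FreeGroup.lift z gu = z 0 := by simp [gu]
theorem lift_gw : FreeGroup.lift z gw = z 1 := by simp [gw]
theorem lift_gh : FreeGroup.lift z gh = z 2 := by simp [gh]
theorem lift_gt : FreeGroup.lift z gt = z 3 := by simp [gt]

theorem image_Zf (d : ℕ) : FreeGroup.lift z '' Set.range (fun i : Fin d => cj gh gw i) =
    Set.range fun i : Fin d => cj (z 2) (z 1) i := by
  rw [← Set.range_comp]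
  exact congrArg Set.range (funext fun i => by simp [Function.comp, map_cj, lift_gh, lift_gw])

theorem image_sp (d : ℕ) :
    FreeGroup.lift z '' (Subgroup.closure (Set.range fun i : Fin d => cj gh gw i) : Set FG4) = (Sp (z 2) (z 1) d : Set G) := by
  rw [← Subgroup.coe_map, MonoidHom.map_closure, image_Zf]; rfl

theorem image_Wf (du d : ℕ) :
    FreeGroup.lift z '' (Set.range (fun i : Fin du => cj gh gu i) ∪
      (Subgroup.closure (Set.range fun i : Fin d => cj gh gw i) : Set FG4)) =
    Set.range (fun i : Fin du => cj (z 2) (z 0) i) ∪ (Sp (z 2) (z 1) d : Set G) := by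
  rw [Set.image_union, image_sp, ← Set.range_comp]
  exact congrArg (fun s : Set G => s ∪ _)
    (congrArg Set.range (funext fun i => by simp [Function.comp, map_cj, lift_gh, lift_gu]))

theorem image_Kf (k d : ℕ) :
    FreeGroup.lift z '' (Set.range (cj (gh ^ k) gu) ∪
      (Subgroup.closure (Set.range fun i : Fin d => cj gh gw i) : Set FG4)) =
    Set.range (cj (z 2 ^ k) (z 0)) ∪ (Sp (z 2) (z 1) d : Set G) := by
  rw [Set.image_union, image_sp, ← Set.range_comp]
  exact congrArg (fun s : Set G => s ∪ _)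
    (congrArg Set.range (funext fun i => by simp [Function.comp, map_cj, lift_gh, lift_gu]))

end Cfsg.Agent.SU3PresMain78
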