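import Cfsg.Agent.Lib.UnitaryThreeRegular87

/-!
The antidiagonal model of `SU(3, q)`: unitriangular elements, torus, Weyl element, the exchange
identity on the big cell and generation.
-/

set_option autoImplicit false
set_option linter.unusedSectionVars false

namespace Cfsg.Agent.SU3PresModel78

open Matrix Cfsg
open Cfsg.Agent.OrthUnitaryHerm Cfsg.Agent.OrthUnitaryTransvection Cfsg.Agent.UnitaryThreeRegular87
open scoped MatrixGroups

variable {F : Type*} [Field F] [Fintype F] {q : ℕ}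

/-- the antidiagonal hermitian form -/
def jForm (q : ℕ) (x y : Fin 3 → F) : F := x 0 * y 2 ^ q + x 1 * y 1 ^ q + x 2 * y 0 ^ q

/-- the special unitary group of the antidiagonal form -/
def SUJ (q : ℕ) (F : Type*) [Field F] : Subgroup SL(3, F) := preserving (slToMat 3 F) (jForm q)

/-- parameters of unitriangular elements -/
def Val (q : ℕ) (a b : F) : Prop := b + b ^ q + a ^ q * a = 0

/-- matrix of a unitriangular element -/
def xm (q : ℕ) (a b : F) : Matrix (Fin 3) (Fin 3) F := !![1, -a ^ q, b; 0, 1, a; 0, 0, 1]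

/-- matrix of a torus element -/
def hm (q : ℕ) (l : Fˣ) : Matrix (Fin 3) (Fin 3) F :=
  !![(l : F), 0, 0; 0, (l : F) ^ q / l, 0; 0, 0, ((l : F) ^ q)⁻¹]

/-- matrix of the Weyl element -/
def tm (F : Type*) [Field F] : Matrix (Fin 3) (Fin 3) F := !![0, 0, 1; 0, -1, 0; 1, 0, 0]

theorem mem_iff {g : SL(3, F)} :
    g ∈ SUJ q F ↔ ∀ u v, jForm q ((g : Matrix (Fin 3) (Fin 3) F) *ᵥ u) ((g : Matrix (Fin 3) (Fin 3) F) *ᵥ v) =
      jForm q u v := Iff.rfl

/-- matrix entries -/
def mt (g : SUJ q F) : Matrix (Fin 3) (Fin 3) F := ((g : SL(3, F)) : Matrix (Fin 3) (Fin 3) F)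

theorem mt_mul (g k : SUJ q F) : mt (g * k) = mt g * mt k := rfl

theorem mt_one : mt (1 : SUJ q F) = 1 := rfl

theorem mt_inj {g k : SUJ q F} (h : mt g = mt k) : g = k := Subtype.ext (Subtype.ext h)

theorem mulVec3 (A : Matrix (Fin 3) (Fin 3) F) (u : Fin 3 → F) (i : Fin 3) :
    (A *ᵥ u) i = A i 0 * u 0 + A i 1 * u 1 + A i 2 * u 2 := by
  simp [Matrix.mulVec, dotProduct, Fin.sum_univ_three]

theorem one_pow_q (hF : Fintype.card F = q ^ 2) : (1 : F) ^ q = 1 ∧ (0 : F) ^ q = 0 :=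
  ⟨one_pow q, zero_pow_q hF⟩

theorem pow_q_ne_zero {l : F} (hl : l ≠ 0) : l ^ q ≠ 0 := pow_ne_zero _ hl

theorem xm_pres (hF : Fintype.card F = q ^ 2) {a b : F} (h : Val q a b) (u v : Fin 3 → F) :
    jForm q (xm q a b *ᵥ u) (xm q a b *ᵥ v) = jForm q u v := by
  simp only [jForm, mulVec3]
  simp [xm, add_pow_q hF, mul_pow, neg_pow_q hF, pow_q_q hF]
  unfold Val at h
  linear_combination (u 2 * v 2 ^ q) * h

theorem det_xm (a b : F) : (xm q a b).det = 1 := by
  simp [xm, Matrix.det_fin_three]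

theorem hm_pres (hF : Fintype.card F = q ^ 2) (l : Fˣ) (u v : Fin 3 → F) :
    jForm q (hm q l *ᵥ u) (hm q l *ᵥ v) = jForm q u v := by
  simp only [jForm, mulVec3]
  have hl : (l : F) ≠ 0 := l.ne_zero
  have hl' : (l : F) ^ q ≠ 0 := pow_ne_zero _ hl
  simp [hm, mul_pow, div_pow, inv_pow, pow_q_q hF]
  field_simp

theorem det_hm (l : Fˣ) : (hm q l).det = 1 := by
  have hl : (l : F) ≠ 0 := l.ne_zero
  simp [hm, Matrix.det_fin_three]
  field_simp

theorem tm_pres (hF : Fintype.card F = q ^ 2) (u v : Fin 3 → F) :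
    jForm q (tm F *ᵥ u) (tm F *ᵥ v) = jForm q u v := by
  simp only [jForm, mulVec3]
  simp [tm, neg_pow_q hF]
  ring

theorem det_tm : (tm F).det = 1 := by simp [tm, Matrix.det_fin_three]

/-- the Weyl element -/
def tel (hF : Fintype.card F = q ^ 2) : SUJ q F := ⟨⟨tm F, det_tm⟩, tm_pres hF⟩

/-- torus elements -/
def hel (hF : Fintype.card F = q ^ 2) (l : Fˣ) : SUJ q F := ⟨⟨hm q l, det_hm l⟩, hm_pres hF l⟩

/-- unitriangular elements -/
def xel (hF : Fintype.card F = q ^ 2) {a b : F} (h : Val q a b) : SUJ q F :=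
  ⟨⟨xm q a b, det_xm a b⟩, xm_pres hF h⟩

theorem mt_tel (hF : Fintype.card F = q ^ 2) : mt (tel hF) = tm F := rfl

theorem mt_hel (hF : Fintype.card F = q ^ 2) (l : Fˣ) : mt (hel hF l) = hm q l := rfl

theorem mt_xel (hF : Fintype.card F = q ^ 2) {a b : F} (h : Val q a b) : mt (xel hF h) = xm q a b := rfl

theorem val_zero (hF : Fintype.card F = q ^ 2) : Val q (0 : F) 0 := by
  simp [Val, zero_pow_q hF]

theorem val_skew (hF : Fintype.card F = q ^ 2) {c : F} : Val q 0 c ↔ c + c ^ q = 0 := by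
  simp [Val, zero_pow_q hF]

theorem val_mul (hF : Fintype.card F = q ^ 2) {a b a' b' : F} (h : Val q a b) (h' : Val q a' b') :
    Val q (a + a') (b + b' - a ^ q * a') := by
  unfold Val at *
  rw [sub_pow_q hF, add_pow_q hF, add_pow_q hF, mul_pow, pow_q_q hF]
  linear_combination h + h'

theorem val_inv (hF : Fintype.card F = q ^ 2) {a b : F} (h : Val q a b) : Val q (-a) (b ^ q) := by
  unfold Val at *
  rw [pow_q_q hF, neg_pow_q hF]
  linear_combination h

theorem xm_mul (hF : Fintype.card F = q ^ 2) (a b a' b' : F) :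
    xm q a b * xm q a' b' = xm q (a + a') (b + b' - a ^ q * a') := by
  ext i j
  fin_cases i <;> fin_cases j <;> simp [xm, Matrix.mul_apply, Fin.sum_univ_three, add_pow_q hF] <;> ring

theorem xel_mul (hF : Fintype.card F = q ^ 2) {a b a' b' : F} (h : Val q a b) (h' : Val q a' b') :
    xel hF h * xel hF h' = xel hF (val_mul hF h h') :=
  mt_inj (xm_mul hF a b a' b')

theorem xel_congr (hF : Fintype.card F = q ^ 2) {a b a' b' : F} (h : Val q a b) (h' : Val q a' b')
    (ea : a = a') (eb : b = b') : xel hF h = xel hF h' := by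
  subst ea eb; rfl

theorem xel_zero (hF : Fintype.card F = q ^ 2) : xel hF (val_zero (q := q) hF) = 1 := by
  apply mt_inj
  rw [mt_xel, mt_one]
  ext i j
  fin_cases i <;> fin_cases j <;> simp [xm, zero_pow_q hF]

theorem xel_inj (hF : Fintype.card F = q ^ 2) {a b a' b' : F} {h : Val q a b} {h' : Val q a' b'}
    (e : xel hF h = xel hF h') : a = a' ∧ b = b' := by
  have e' : xm q a b = xm q a' b' := congrArg mt e
  exact ⟨by simpa [xm] using congrFun (congrFun e' 1) 2, by simpa [xm] using congrFun (congrFun e' 0) 2⟩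

theorem xel_inv (hF : Fintype.card F = q ^ 2) {a b : F} (h : Val q a b) :
    (xel hF h)⁻¹ = xel hF (val_inv hF h) := by
  refine inv_eq_of_mul_eq_one_right ?_
  rw [xel_mul, ← xel_zero hF]
  refine xel_congr hF _ _ (by ring) ?_
  unfold Val at h
  linear_combination h

theorem hel_mul (hF : Fintype.card F = q ^ 2) (l k : Fˣ) : hel hF l * hel hF k = hel hF (l * k) := by
  apply mt_inj
  rw [mt_mul, mt_hel, mt_hel, mt_hel]
  ext i j
  fin_cases i <;> fin_cases j <;> simp [hm, Matrix.mul_apply, Fin.sum_univ_three, mul_pow] <;> field_simp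

/-- the torus as a homomorphism -/
def helHom (hF : Fintype.card F = q ^ 2) : Fˣ →* SUJ q F :=
  MonoidHom.mk' (hel hF) fun l k => (hel_mul hF l k).symm

theorem hel_zpow (hF : Fintype.card F = q ^ 2) (l : Fˣ) (i : ℤ) : hel hF l ^ i = hel hF (l ^ i) :=
  (map_zpow (helHom hF) l i).symm

theorem hel_pow (hF : Fintype.card F = q ^ 2) (l : Fˣ) (i : ℕ) : hel hF l ^ i = hel hF (l ^ i) :=
  (map_pow (helHom hF) l i).symm

theorem hel_one (hF : Fintype.card F = q ^ 2) : hel hF 1 = (1 : SUJ q F) := map_one (helHom hF)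

theorem hel_inj (hF : Fintype.card F = q ^ 2) {l k : Fˣ} (e : hel hF l = hel hF k) : l = k := by
  have e' : hm q l = hm q k := congrArg mt e
  exact Units.ext (by simpa [hm] using congrFun (congrFun e' 0) 0)

/-- the eigenvalue on the `a`-parameter -/
def rh (q : ℕ) (l : Fˣ) : Fˣ := (l ^ q) ^ 2 * l⁻¹

theorem val_conj (hF : Fintype.card F = q ^ 2) {a b : F} (h : Val q a b) (l : Fˣ) :
    Val q ((rh q l : F) * a) ((l : F) ^ (q + 1) * b) := by
  have hl : (l : F) ≠ 0 := l.ne_zero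
  unfold Val at *
  have e : (((l : F) ^ q) ^ 2) ^ q = (l : F) ^ 2 := by
    rw [← pow_mul _ 2 q, mul_comm, pow_mul, pow_q_q hF]
  simp only [rh, Units.val_mul, Units.val_pow_eq_pow_val, Units.val_inv_eq_inv_val, mul_pow, inv_pow,
    pow_add, pow_one, pow_q_q hF, e]
  field_simp
  linear_combination ((l : F) * (l : F) ^ q) * h

theorem hel_conj (hF : Fintype.card F = q ^ 2) {a b : F} (h : Val q a b) (l : Fˣ) :
    hel hF l * xel hF h * (hel hF l)⁻¹ = xel hF (val_conj hF h l) := by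
  rw [mul_inv_eq_iff_eq_mul]
  apply mt_inj
  rw [mt_mul, mt_mul, mt_hel, mt_xel, mt_xel]
  have hl : (l : F) ≠ 0 := l.ne_zero
  have hl' : (l : F) ^ q ≠ 0 := pow_ne_zero _ hl
  have e : (((l : F) ^ q) ^ 2) ^ q = (l : F) ^ 2 := by
    rw [← pow_mul _ 2 q, mul_comm, pow_mul, pow_q_q hF]
  ext i j
  fin_cases i <;> fin_cases j <;>
    simp [hm, xm, rh, Matrix.mul_apply, Fin.sum_univ_three, mul_pow, inv_pow, pow_add, pow_q_q hF, e] <;>
    field_simp

theorem tel_sq (hF : Fintype.card F = q ^ 2) : tel hF * tel hF = (1 : SUJ q F) := by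
  apply mt_inj
  rw [mt_mul, mt_tel, mt_one]
  ext i j
  fin_cases i <;> fin_cases j <;> simp [tm, Matrix.mul_apply, Fin.sum_univ_three]

theorem tel_hel (hF : Fintype.card F = q ^ 2) (l : Fˣ) :
    tel hF * hel hF l * tel hF = hel hF ((l ^ q)⁻¹) := by
  apply mt_inj
  rw [mt_mul, mt_mul, mt_hel, mt_hel, mt_tel]
  have hl : (l : F) ≠ 0 := l.ne_zero
  have hl' : (l : F) ^ q ≠ 0 := pow_ne_zero _ hl
  ext i j
  fin_cases i <;> fin_cases j <;>
    simp [tm, hm, Matrix.mul_apply, Fin.sum_univ_three, inv_pow, pow_q_q hF] <;> field_simp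

theorem val_ne_zero (hF : Fintype.card F = q ^ 2) {a b : F} (h : Val q a b) (hne : a ≠ 0 ∨ b ≠ 0) : b ≠ 0 := by
  rintro rfl
  unfold Val at h
  simp [zero_pow_q hF, q_ne_zero hF] at h
  exact hne.elim (fun ha => ha h) (fun hb => hb rfl)

theorem exchange_val (hF : Fintype.card F = q ^ 2) {a b : F} (h : Val q a b) (hb : b ≠ 0) :
    Val q (-a / b) (1 / b) ∧ Val q (-a / b ^ q) (1 / b) := by
  have hb' : b ^ q ≠ 0 := pow_ne_zero _ hb
  unfold Val at *
  constructor <;>
  · simp only [div_pow, neg_pow_q hF, one_pow, pow_q_q hF]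
    field_simp
    linear_combination h

/-- the exchange identity -/
theorem exchange (hF : Fintype.card F = q ^ 2) {a b : F} (h : Val q a b) (hb : b ≠ 0) :
    tel hF * xel hF h * tel hF = xel hF (exchange_val hF h hb).1 * hel hF ((Units.mk0 b hb ^ q)⁻¹) * tel hF *
      xel hF (exchange_val hF h hb).2 := by
  apply mt_inj
  rw [mt_mul, mt_mul, mt_mul, mt_mul, mt_mul, mt_tel, mt_xel, mt_hel, mt_xel, mt_xel]
  have hb' : b ^ q ≠ 0 := pow_ne_zero _ hb
  unfold Val at h
  ext i j
  fin_cases i <;> fin_cases j <;>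
    simp [tm, hm, xm, Matrix.mul_apply, Fin.sum_univ_three, div_pow, neg_pow_q hF, inv_pow, pow_q_q hF] <;>
    field_simp <;>
    first
      | linear_combination h
      | linear_combination -h
      | ring

/-- the parameters in an exchange identity are determined -/
theorem exchange_unique (hF : Fintype.card F = q ^ 2) {a b a₁ b₁ a₂ b₂ : F} (h : Val q a b) (h₁ : Val q a₁ b₁)
    (h₂ : Val q a₂ b₂) (l : Fˣ)
    (e : tel hF * xel hF h * tel hF = xel hF h₁ * hel hF l * tel hF * xel hF h₂) :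
    b ≠ 0 ∧ a₁ = -a / b ∧ b₁ = 1 / b ∧ a₂ = -a / b ^ q ∧ b₂ = 1 / b := by
  have e' := congrArg mt e
  rw [mt_mul, mt_mul, mt_mul, mt_mul, mt_mul, mt_tel, mt_xel, mt_hel, mt_xel, mt_xel] at e'
  have hl : (l : F) ≠ 0 := l.ne_zero
  have hl' : (l : F) ^ q ≠ 0 := pow_ne_zero _ hl
  have ev : ∀ i j, (tm F * xm q a b * tm F) i j = (xm q a₁ b₁ * hm q l * tm F * xm q a₂ b₂) i j :=
    fun i j => by rw [e']
  have e20 : b = ((l : F) ^ q)⁻¹ := by
    simpa [tm, hm, xm, Matrix.mul_apply, Fin.sum_univ_three] using ev 2 0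
  have e00 : 1 = b₁ * ((l : F) ^ q)⁻¹ := by
    simpa [tm, hm, xm, Matrix.mul_apply, Fin.sum_univ_three] using ev 0 0
  have e10 : -a = a₁ * ((l : F) ^ q)⁻¹ := by
    simpa [tm, hm, xm, Matrix.mul_apply, Fin.sum_univ_three] using ev 1 0
  have e21 : a ^ q = ((l : F) ^ q)⁻¹ * -a₂ ^ q := by
    simpa [tm, hm, xm, Matrix.mul_apply, Fin.sum_univ_three] using ev 2 1
  have e22 : 1 = ((l : F) ^ q)⁻¹ * b₂ := by
    simpa [tm, hm, xm, Matrix.mul_apply, Fin.sum_univ_three] using ev 2 2
  have hb : b ≠ 0 := by rw [e20]; exact inv_ne_zero hl'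
  have hb' : b ^ q ≠ 0 := pow_ne_zero _ hb
  rw [← e20] at e00 e10 e21 e22
  refine ⟨hb, by field_simp; linear_combination -e10, by field_simp; linear_combination -e00, ?_,
    by field_simp; linear_combination -e22⟩
  have e3 := congrArg (· ^ q) e21
  simp only [mul_pow, neg_pow_q hF, pow_q_q hF] at e3
  field_simp
  linear_combination e3

theorem big_cell_ne (hF : Fintype.card F = q ^ 2) {a b a' b' : F} (h : Val q a b) (h' : Val q a' b') (l : Fˣ) :
    xel hF h * hel hF l * tel hF * xel hF h' ≠ 1 := by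
  intro e
  have e' := congrFun (congrFun (congrArg mt e) 2) 0
  rw [mt_mul, mt_mul, mt_mul, mt_tel, mt_xel, mt_hel, mt_xel, mt_one] at e'
  simp [tm, hm, xm, Matrix.mul_apply, Fin.sum_univ_three] at e'

theorem borel_eq_one (hF : Fintype.card F = q ^ 2) {a b : F} (h : Val q a b) {l : Fˣ}
    (e : xel hF h * hel hF l = 1) : a = 0 ∧ b = 0 ∧ l = 1 := by
  have e' : xm q a b * hm q l = 1 := congrArg mt e
  have hl : (l : F) ≠ 0 := l.ne_zero
  have h00 : (l : F) = 1 := by
    simpa [hm, xm, Matrix.mul_apply, Fin.sum_univ_three] using congrFun (congrFun e' 0) 0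
  have hl1 : l = 1 := Units.ext h00
  subst hl1
  have h12 := congrFun (congrFun e' 1) 2
  have h02 := congrFun (congrFun e' 0) 2
  simp [hm, xm, Matrix.mul_apply, Fin.sum_univ_three] at h12 h02
  exact ⟨h12, h02, rfl⟩

/-- every element is in the Borel subgroup or in the big cell -/
theorem generate (hF : Fintype.card F = q ^ 2) {K : Subgroup (SUJ q F)}
    (hx : ∀ (a b : F) (h : Val q a b), xel hF h ∈ K) (hh : ∀ l, hel hF l ∈ K) (ht : tel hF ∈ K) : K = ⊤ := by
  rw [eq_top_iff]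
  intro g _
  -- elements fixing the first line
  have fix : ∀ g : SUJ q F, mt g 1 0 = 0 → mt g 2 0 = 0 → g ∈ K := by
    intro g h1 h2
    have hd : (mt g).det = 1 := (g : SL(3, F)).2
    have hp : ∀ i j : Fin 3, jForm q (fun k => mt g k i) (fun k => mt g k j) =
        jForm q (Pi.single i 1) (Pi.single j 1) := fun i j => by
      have := g.2 (Pi.single i 1) (Pi.single j 1)
      change jForm q (mt g *ᵥ Pi.single i 1) (mt g *ᵥ Pi.single j 1) = _ at this
      rw [Matrix.mulVec_single_one, Matrix.mulVec_single_one] at this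
      exact this
    have e01 := hp 0 1
    have e02 := hp 0 2
    have e11 := hp 1 1
    have e12 := hp 1 2
    have e22 := hp 2 2
    simp [jForm, h1, h2, zero_pow_q hF, q_ne_zero hF] at e01 e02 e11 e12 e22
    have hx0 : mt g 0 0 ≠ 0 := fun h => by simp [h] at e02
    have h21 : mt g 2 1 = 0 := e01.resolve_left hx0
    let l : Fˣ := Units.mk0 _ hx0
    have h22 : mt g 2 2 = ((mt g 0 0) ^ q)⁻¹ := by
      have := congrArg (· ^ q) e02
      simp only [mul_pow, pow_q_q hF, one_pow] at this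
      exact eq_inv_of_mul_eq_one_right this
    have h11 : mt g 1 1 = (mt g 0 0) ^ q / mt g 0 0 := by
      rw [Matrix.det_fin_three, h1, h2, h21, h22] at hd
      field_simp at hd ⊢
      linear_combination hd
    simp [h21, zero_pow_q hF] at e11 e12 e22
    have hz : (mt g 0 0) ^ q ≠ 0 := pow_ne_zero _ hx0
    set A := mt g 1 2 * (mt g 0 0) ^ q with hA
    set B := mt g 0 2 * (mt g 0 0) ^ q with hB
    have hval : Val q A B := by
      rw [Val, hA, hB, mul_pow, mul_pow, pow_q_q hF]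
      rw [h22, inv_pow, pow_q_q hF] at e22
      field_simp at e22
      linear_combination e22
    have h01 : mt g 0 1 = -A ^ q * mt g 1 1 := by
      rw [hA, mul_pow, pow_q_q hF]
      rw [h22, inv_pow, pow_q_q hF] at e12
      field_simp at e12
      linear_combination e12
    have e : g = xel hF hval * hel hF l := by
      apply mt_inj
      rw [mt_mul, mt_xel, mt_hel]
      ext i j
      fin_cases i <;> fin_cases j <;>
        simp [xm, hm, l, Matrix.mul_apply, Fin.sum_univ_three, h1, h2, h21, h22, h11] <;>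
        first
          | (rw [h01, h11]; ring)
          | (rw [hA]; field_simp)
          | (rw [hB]; field_simp)
    rw [e]; exact mul_mem (hx _ _ _) (hh _)
  by_cases hw : mt g 2 0 = 0
  · refine fix g ?_ hw
    have := g.2 (Pi.single 0 1) (Pi.single 0 1)
    simp [jForm, Matrix.mulVec_single_one, Matrix.col_apply, Pi.single_apply, zero_pow_q hF] at this
    change mt g 0 0 * mt g 2 0 ^ q + mt g 1 0 * mt g 1 0 ^ q + mt g 2 0 * mt g 0 0 ^ q = 0 at this
    rw [hw] at this
    simp [zero_pow_q hF, q_ne_zero hF] at this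
    exact this
  · have iso := g.2 (Pi.single 0 1) (Pi.single 0 1)
    simp [jForm, Matrix.mulVec_single_one, Matrix.col_apply, Pi.single_apply, zero_pow_q hF] at iso
    change mt g 0 0 * mt g 2 0 ^ q + mt g 1 0 * mt g 1 0 ^ q + mt g 2 0 * mt g 0 0 ^ q = 0 at iso
    have hwq : mt g 2 0 ^ q ≠ 0 := pow_ne_zero _ hw
    have hval : Val q (mt g 1 0 / mt g 2 0) (mt g 0 0 / mt g 2 0) := by
      rw [Val, div_pow, div_pow]
      field_simp
      linear_combination iso
    have hk : tel hF * (xel hF hval)⁻¹ * g ∈ K := by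
      have e2 : mt (tel hF * (xel hF hval)⁻¹ * g) 2 0 = 0 ∧ mt (tel hF * (xel hF hval)⁻¹ * g) 1 0 = 0 := by
        rw [xel_inv, mt_mul, mt_mul, mt_tel, mt_xel]
        unfold Val at hval
        constructor
        · simp [tm, xm, Matrix.mul_apply, Fin.sum_univ_three, neg_pow_q hF]
          field_simp at hval ⊢
          simp only [div_pow] at hval ⊢
          field_simp at hval ⊢
          linear_combination iso
        · simp [tm, xm, Matrix.mul_apply, Fin.sum_univ_three]
          field_simp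
          ring
      exact fix _ e2.2 e2.1
    have : g = xel hF hval * tel hF * (tel hF * (xel hF hval)⁻¹ * g) := by
      rw [mul_assoc (xel hF hval), mul_assoc (tel hF) (xel hF hval)⁻¹ g, ← mul_assoc (tel hF) (tel hF),
        tel_sq, one_mul, mul_inv_cancel_left]
    rw [this]
    exact mul_mem (mul_mem (hx _ _ _) ht) hk

/-- the model is the unitary group of the standard form -/
theorem exists_equiv (hF : Fintype.card F = q ^ 2) : Nonempty (SUJ q F ≃* SU 3 F q) := by
  classical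
  obtain ⟨Φ⟩ := exists_frame (m := 1) (n := 3) hF rfl
  let P : Matrix (Fin 3) (Fin 3) F := Matrix.of fun i j => (![Φ.e 0, Φ.z, Φ.f 0] j) i
  let Q : Matrix (Fin 3) (Fin 3) F := Matrix.of fun i j => (![Φ.f 0, Φ.z, Φ.e 0] i) j ^ q
  have hP : ∀ x, P *ᵥ x = x 0 • Φ.e 0 + x 1 • Φ.z + x 2 • Φ.f 0 := fun x => by
    funext i
    simp [mulVec3, P, mul_comm]
  have hQ : ∀ x, Q *ᵥ x = ![hermForm 3 F q x (Φ.f 0), hermForm 3 F q x Φ.z, hermForm 3 F q x (Φ.e 0)] := fun x => by
    funext i
    fin_cases i <;> simp [mulVec3, Q, hermForm, Fin.sum_univ_three] <;> ring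
  have hPQ : P * Q = 1 := by
    refine Matrix.ext_of_mulVec_single fun i => ?_
    rw [← Matrix.mulVec_mulVec, hP, hQ, Matrix.one_mulVec]
    conv_rhs => rw [Φ.expand (Pi.single i 1)]
    simp only [Finset.range_one, Finset.sum_singleton, Matrix.cons_val_zero, Matrix.cons_val_one,
      Matrix.cons_val_two, Matrix.head_cons, Matrix.tail_cons]
    abel
  have hQP : Q * P = 1 := mul_eq_one_comm.1 hPQ
  have hform : ∀ x y, hermForm 3 F q (P *ᵥ x) (P *ᵥ y) = jForm q x y := fun x y => by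
    simp only [hP, herm_add_left, herm_add_right hF, herm_smul_left, herm_smul_right, Φ.ee, Φ.ff, Φ.ze,
      Φ.zf, Φ.ez, Φ.fz, Φ.zz, Φ.ef, Φ.fe]
    simp [jForm]
    ring
  have hdet : P.det * Q.det = 1 := by rw [← Matrix.det_mul, hPQ, Matrix.det_one]
  let up (g : SUJ q F) : SU 3 F q :=
    ⟨⟨P * mt g * Q, by rw [Matrix.det_mul, Matrix.det_mul, show (mt g).det = 1 from (g : SL(3, F)).2, mul_one, hdet]⟩,
      fun u v => by
        show hermForm 3 F q ((P * mt g * Q) *ᵥ u) ((P * mt g * Q) *ᵥ v) = hermForm 3 F q u v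
        rw [← Matrix.mulVec_mulVec, ← Matrix.mulVec_mulVec, ← Matrix.mulVec_mulVec, ← Matrix.mulVec_mulVec,
          hform, show jForm q (mt g *ᵥ (Q *ᵥ u)) (mt g *ᵥ (Q *ᵥ v)) = _ from g.2 _ _, ← hform,
          Matrix.mulVec_mulVec, Matrix.mulVec_mulVec, hPQ, Matrix.one_mulVec, Matrix.one_mulVec]⟩
  let down (g : SU 3 F q) : SUJ q F :=
    ⟨⟨Q * (g : SL(3, F)).1 * P, by
        rw [Matrix.det_mul, Matrix.det_mul, show (g : SL(3, F)).1.det = 1 from (g : SL(3, F)).2, mul_one,
          mul_comm, hdet]⟩,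
      fun u v => by
        show jForm q ((Q * (g : SL(3, F)).1 * P) *ᵥ u) ((Q * (g : SL(3, F)).1 * P) *ᵥ v) = jForm q u v
        rw [← hform, Matrix.mulVec_mulVec, Matrix.mulVec_mulVec, ← mul_assoc, ← mul_assoc, hPQ, one_mul,
          ← Matrix.mulVec_mulVec, ← Matrix.mulVec_mulVec,
          show hermForm 3 F q ((g : SL(3, F)).1 *ᵥ (P *ᵥ u)) ((g : SL(3, F)).1 *ᵥ (P *ᵥ v)) = _ from g.2 _ _, hform]⟩
  refine ⟨⟨⟨up, down, fun g => ?_, fun g => ?_⟩, fun g k => ?_⟩⟩
  · refine Subtype.ext (Subtype.ext ?_)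
    show Q * (P * mt g * Q) * P = mt g
    rw [← mul_assoc, ← mul_assoc, hQP, one_mul, mul_assoc, hQP, mul_one]
  · refine Subtype.ext (Subtype.ext ?_)
    show P * (Q * (g : SL(3, F)).1 * P) * Q = _
    rw [← mul_assoc, ← mul_assoc, hPQ, one_mul, mul_assoc, hPQ, mul_one]
  · refine Subtype.ext (Subtype.ext ?_)
    show P * (mt g * mt k) * Q = (P * mt g * Q) * (P * mt k * Q)
    rw [show (P * mt g * Q) * (P * mt k * Q) = P * mt g * (Q * P) * mt k * Q by simp only [mul_assoc], hQP,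
      mul_one, ← mul_assoc P]

end Cfsg.Agent.SU3PresModel78
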