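import Cfsg.Agent.Lib.SU3PresMain78

/-!
The presentation of `SU(3, q)` in four letters, and its central quotient.
-/

set_option autoImplicit false
set_option linter.unusedSectionVars false
set_option maxHeartbeats 1600000

namespace Cfsg.Agent.SU3PresShort78

open Cfsg.Agent.OrthUnitaryHerm Cfsg.Agent.SL2PresData Cfsg.Agent.SL2PresAbel Cfsg.Agent.ShortPres
  Cfsg.Agent.SU3PresModel78 Cfsg.Agent.SU3PresField78 Cfsg.Agent.SU3PresBorel78 Cfsg.Agent.SU3PresClose78
  Cfsg.Agent.SU3PresMain78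

variable {F : Type*} [Field F] [Fintype F] {q : ℕ}

/-- a relator of the shape `lhs * rhs⁻¹` read in a group -/
theorem rel_iff {G : Type*} [Group G] (z : Fin 4 → G) (a b : FG4) :
    FreeGroup.lift z (a * b⁻¹) = 1 ↔ FreeGroup.lift z a = FreeGroup.lift z b := by
  rw [map_mul, map_inv, mul_inv_eq_one]

/-- `SU(3, q)`, `q ≥ 3`, in four letters with twenty relators -/
theorem pres_four (hF : Fintype.card F = q ^ 2) (hq3 : 3 ≤ q) :
    ∃ (U W : SUJ q F) (Hh Tt : SUJ q F) (R : List FG4), R.length ≤ 20 ∧ Pres ![U, W, Hh, Tt] R ∧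
      Subgroup.closure ({U, Hh, Tt} : Set (SUJ q F)) = ⊤ := by
  classical
  obtain ⟨p, f, hp, hchar, -, hqp⟩ := exists_prime_pow hF
  have : Fact p.Prime := ⟨hp⟩
  letI : Algebra (ZMod p) F := ZMod.algebra F p
  obtain ⟨ζ, hζ⟩ := IsCyclic.exists_generator (α := Fˣ)
  obtain ⟨c0, hc0, hc0s⟩ := exists_skew hF
  have hc0q : c0 ^ q = -c0 := by linear_combination hc0s
  -- the seed
  have hT0 := tr_ne hF hζ hc0 hc0s (n := 1) (by rw [Nat.dvd_one]; omega)
  rw [pow_one] at hT0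
  set T0 := c0 * (ζ : F) + (c0 * (ζ : F)) ^ q with hT0d
  have hT0f : T0 ^ q = T0 := by simp only [hT0d, add_pow_q hF, pow_q_q hF]; ring
  set c := -(1 / T0) * c0 with hcd
  have hc : c + c ^ q = 0 := by
    rw [hcd, mul_pow, neg_pow_q hF, div_pow, one_pow, hT0f, hc0q]; ring
  set β := c * (ζ : F) with hβd
  have hβ : Val q (1 : F) β := by
    have e : β = -(1 / T0) * (c0 * (ζ : F)) := by rw [hβd, hcd, mul_assoc]
    unfold Val
    rw [e, mul_pow, neg_pow_q hF, div_pow, one_pow, hT0f, ← mul_add, ← hT0d]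
    field_simp
    ring
  have hw : Val q (0 : F) c0 := (val_skew hF).2 hc0s
  set Uq := xel hF hβ with hUq
  set Wq := xel hF hw with hWq
  set Hq := hel hF ζ with hHq
  set Tq := tel (F := F) hF with hTq
  set x : Fin 4 → SUJ q F := ![Uq, Wq, Hq, Tq] with hxd
  -- dimensions
  set σ : F := (ζ : F) ^ (q + 1) with hσd
  set ρ : F := (rh q ζ : F) with hρd
  have hσf : σ ^ q = σ := by
    have := sigma_fixed hF hζ
    rwa [Units.val_pow_eq_pow_val] at this
  obtain ⟨dz, hdz, hdz0, hzspan⟩ := exists_dim (p := p) σ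
  have hdzle : p ^ dz ≤ q := hdz ▸ card_adjoin_fixed hF hσf
  obtain ⟨du, hdu, hdu0, huspan⟩ := exists_dim (p := p) ρ
  have hρtop : Algebra.adjoin (ZMod p) {ρ} = ⊤ := rh_adjoin hF hζ hq3
  have hduq : p ^ du = q ^ 2 := by
    rw [hdu, hρtop, Nat.card_congr (Subalgebra.topEquiv (R := ZMod p) (A := F)).toEquiv, Nat.card_eq_fintype_card, hF]
  -- central root elements in the span
  have hcjW : ∀ n, ∃ h : Val q (0 : F) (σ ^ n * c0), cj Hq Wq n = xel hF h := fun n => by
    obtain ⟨h', e⟩ := cj_xel hF ζ hw n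
    exact ⟨by simpa using h', e.trans (xel_congr hF _ _ (mul_zero _) rfl)⟩
  have hQz : ∀ c' (h : Val q (0 : F) c'), xel hF h ∈ Sp Hq Wq dz := by
    refine centre_mem hF hζ hc0 hc0s _ (S := (fun i => σ ^ i) '' {i | i < dz}) ?_
      (fun i => hzspan _ (pow_mem (Algebra.self_mem_adjoin_singleton _ _) i))
    rintro _ ⟨i, hi, rfl⟩
    obtain ⟨h, e⟩ := hcjW i
    exact ⟨h, e ▸ Subgroup.subset_closure ⟨⟨i, hi⟩, rfl⟩⟩
  have hQz' : ∀ g : SUJ q F, (∃ (b : F) (h : Val q 0 b), g = xel hF h) → g ∈ Sp Hq Wq dz := by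
    rintro g ⟨b, h, rfl⟩; exact hQz b h
  have hcjU : ∀ n, ∃ (b : F) (h : Val q (ρ ^ n) b), cj Hq Uq n = xel hF h := fun n => by
    obtain ⟨h', e⟩ := cj_xel hF ζ hβ n
    exact ⟨_, by simpa using h', e.trans (xel_congr hF _ _ (mul_one _) rfl)⟩
  have hQW : ∀ a b (h : Val q a b),
      xel hF h ∈ Subgroup.closure (Set.range (fun i : Fin du => cj Hq Uq i) ∪ (Sp Hq Wq dz : Set (SUJ q F))) := by
    refine all_mem hF _ (fun c' h => Subgroup.subset_closure (Or.inr (hQz c' h)))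
      ((fun i => ρ ^ i) '' {i | i < du}) ?_ (fun a => huspan a (hρtop ▸ Algebra.mem_top))
    rintro _ ⟨i, hi, rfl⟩
    obtain ⟨b, h, e⟩ := hcjU i
    exact ⟨b, h, e ▸ Subgroup.subset_closure (Or.inl ⟨⟨i, hi⟩, rfl⟩)⟩
  have hQK : ∀ k : ℕ, Algebra.adjoin (ZMod p) {ρ ^ k} = ⊤ → ∀ a b (h : Val q a b),
      xel hF h ∈ Subgroup.closure (Set.range (cj (Hq ^ k) Uq) ∪ (Sp Hq Wq dz : Set (SUJ q F))) := by
    intro k hk
    obtain ⟨d', -, -, hspan⟩ := exists_dim (p := p) (ρ ^ k)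
    refine all_mem hF _ (fun c' h => Subgroup.subset_closure (Or.inr (hQz c' h)))
      ((fun i => (ρ ^ k) ^ i) '' {i | i < d'}) ?_ (fun a => hspan a (hk ▸ Algebra.mem_top))
    rintro _ ⟨i, -, rfl⟩
    obtain ⟨b, h, e⟩ := hcjU (k * i)
    refine ⟨b, by simpa [← pow_mul] using h, ?_⟩
    rw [xel_congr hF _ h (by simp [← pow_mul]) rfl, ← e, ← SU3PresBorel78.cj_pow]
    exact Subgroup.subset_closure (Or.inl ⟨i, rfl⟩)
  -- commutators are central
  have hcomm : ∀ n, Uq * cj Hq Uq n * (cj Hq Uq n * Uq)⁻¹ ∈ Sp Hq Wq dz := fun n => by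
    obtain ⟨b, h, e⟩ := hcjU n
    refine hQz' _ ?_
    rw [e, hUq, xel_mul, xel_mul, xel_inv, xel_mul]
    exact ⟨_, _, xel_congr hF _ (by convert val_mul hF (val_mul hF hβ h) (val_inv hF (val_mul hF h hβ)) using 1; ring) (by ring) rfl⟩
  have hlift : ∀ w : FG4, FreeGroup.lift x w = FreeGroup.lift ![Uq, Wq, Hq, Tq] w := fun w => rfl
  have x0 : x 0 = Uq := rfl
  have x1 : x 1 = Wq := rfl
  have x2 : x 2 = Hq := rfl
  have x3 : x 3 = Tq := rfl
  let Zf : Set FG4 := Set.range fun i : Fin dz => cj gh gw i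
  let Wf : Set FG4 := Set.range (fun i : Fin du => cj gh gu i) ∪ (Subgroup.closure Zf : Set FG4)
  have inZ : ∀ g, g ∈ Sp Hq Wq dz → ∃ r ∈ Subgroup.closure Zf, FreeGroup.lift x r = g := fun g hg =>
    exists_in (by rw [image_Zf, x1, x2]; exact hg)
  have inW : ∀ g, g ∈ Subgroup.closure (Set.range (fun i : Fin du => cj Hq Uq i) ∪ (Sp Hq Wq dz : Set (SUJ q F))) →
      ∃ r ∈ Subgroup.closure Wf, FreeGroup.lift x r = g := fun g hg =>
    exists_in (by rw [image_Wf, x0, x1, x2]; exact hg)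
  have inK : ∀ k g, g ∈ Subgroup.closure (Set.range (cj (Hq ^ k) Uq) ∪ (Sp Hq Wq dz : Set (SUJ q F))) →
      ∃ r ∈ Subgroup.closure (Set.range (cj (gh ^ k) gu) ∪ (Subgroup.closure Zf : Set FG4)), FreeGroup.lift x r = g :=
    fun k g hg => exists_in (by rw [image_Kf, x0, x1, x2]; exact hg)
  -- the extra relators
  obtain ⟨C, hClen, hCsat, hCuse⟩ : ∃ C : List FG4, C.length ≤ 9 ∧ (∀ r ∈ C, FreeGroup.lift x r = 1) ∧
      ∀ (G : Type) [Group G] (y : Fin 4 → G), (∀ r ∈ C, FreeGroup.lift y r = 1) →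
        ((∀ a ∈ Sp (y 2) (y 1) dz, ∀ b ∈ Sp (y 2) (y 1) dz, Commute a b) →
          (∀ a ∈ Sp (y 2) (y 1) dz, ∀ n, cj (y 2) a n ∈ Sp (y 2) (y 1) dz) → y 2 ^ (q ^ 2 - 1) = 1 →
          Commute (y 2 ^ (q - 1)) (y 1) → ∀ a ∈ Sp (y 2) (y 1) dz, Commute (y 0) a) ∧
        Quot (Sp (y 2) (y 1) dz) (y 2) (y 0) du := by
    by_cases hs : q = 5 ∨ q = 8
    · have hdu6 : du ≤ 6 := by
        by_contra hc7
        have h1 : 2 ^ 7 ≤ p ^ du := (Nat.pow_le_pow_left hp.two_le 7).trans (Nat.pow_le_pow_right hp.pos (by omega))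
        rw [hduq] at h1
        rcases hs with rfl | rfl <;> norm_num at h1
      have hdz3 : dz ≤ 3 := by
        by_contra hc4
        have h1 : 2 ^ 4 ≤ p ^ dz := (Nat.pow_le_pow_left hp.two_le 4).trans (Nat.pow_le_pow_right hp.pos (by omega))
        rcases hs with rfl | rfl <;> norm_num at h1 <;> omega
      choose z hz hz' using fun i => inZ _ (hcomm i)
      refine ⟨(List.range du).map (fun i => (gu * cj gh gu i * (cj gh gu i * gu)⁻¹) * (z i)⁻¹) ++
        (List.range dz).map (fun i => gu * cj gh gw i * (cj gh gw i * gu)⁻¹), by simp; omega, ?_, ?_⟩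
      · intro r hr
        simp only [List.mem_append, List.mem_map] at hr
        rcases hr with ⟨i, -, rfl⟩ | ⟨i, -, rfl⟩
        · rw [rel_iff, hz']
          simp only [map_mul, map_inv, map_cj, lift_gu, lift_gh, x0, x2]
        · rw [rel_iff]
          simp only [map_mul, map_cj, lift_gu, lift_gh, lift_gw, x0, x1, x2]
          obtain ⟨h, e⟩ := hcjW i
          rw [e, hUq, xel_mul, xel_mul]
          exact xel_congr hF _ _ (by ring) (by simp [zero_pow_q hF]; ring)
      · intro G _ y hy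
        refine ⟨fun _ _ _ _ => cent_small fun i hi => ?_, Or.inl fun i hi => ?_⟩
        · have := hy _ (List.mem_append_right _ (List.mem_map.2 ⟨i, List.mem_range.2 hi, rfl⟩))
          rw [rel_iff] at this
          simpa [map_cj, lift_gu, lift_gh, lift_gw, Commute, SemiconjBy] using this
        · have := hy _ (List.mem_append_left _ (List.mem_map.2 ⟨i, List.mem_range.2 hi, rfl⟩))
          rw [rel_iff] at this
          simp only [map_mul, map_inv, map_cj, lift_gu, lift_gh] at this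
          rw [this]
          have hm := mem_in (x := y) (hz i)
          rwa [image_Zf] at hm
    · push Not at hs
      have hq2 : q ≠ 2 := by omega
      obtain ⟨a, b, hab, hagen⟩ := exists_pair_rh (p := p) hF hζ hq2 hs.1 hs.2
      have h0 := rh_pred_adjoin (p := p) hF hζ hq2 hs.1 hs.2
      have e1 : cj Hq Uq a * (Uq * cj Hq Uq b)⁻¹ ∈ Sp Hq Wq dz := by
        obtain ⟨ba, ha, ea⟩ := hcjU a
        obtain ⟨bb, hb, eb⟩ := hcjU b
        refine hQz' _ ?_
        rw [ea, eb, hUq, xel_mul, xel_inv, xel_mul]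
        exact ⟨_, _, xel_congr hF _ (by
          convert val_mul hF ha (val_inv hF (val_mul hF hβ hb)) using 1
          rw [hρd] at *; linear_combination -hab) (by rw [hρd] at *; linear_combination hab) rfl⟩
      have hh1 : Hq * Uq * Hq⁻¹ = cj Hq Uq 1 := by simp [cj]
      obtain ⟨b1, h1, eh1⟩ := hcjU 1
      have hmem : ∀ k : ℕ, Algebra.adjoin (ZMod p) {ρ ^ k} = ⊤ →
          Hq * Uq * Hq⁻¹ ∈ Subgroup.closure (Set.range (cj (Hq ^ k) Uq) ∪ (Sp Hq Wq dz : Set (SUJ q F))) :=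
        fun k hk => by rw [hh1, eh1]; exact hQK k hk _ _ h1
      obtain ⟨z1, hz1, hz1'⟩ := inZ _ e1
      obtain ⟨z2, hz2, hz2'⟩ := inZ _ (hcomm b)
      obtain ⟨k1, hk1, hk1'⟩ := inK a _ (hmem a hagen)
      obtain ⟨k2, hk2, hk2'⟩ := inK (q - 1) _ (hmem (q - 1) h0)
      refine ⟨[cj gh gu a * (gu * cj gh gu b)⁻¹ * z1⁻¹, gu * cj gh gu b * (cj gh gu b * gu)⁻¹ * z2⁻¹,
        gh * gu * gh⁻¹ * k1⁻¹, gh * gu * gh⁻¹ * k2⁻¹, gu * gw * (gw * gu)⁻¹], by simp, ?_, ?_⟩
      · simp only [List.forall_mem_cons, List.not_mem_nil, false_imp_iff, implies_true, and_true, rel_iff]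
        simp only [hz1', hz2', hk1', hk2']
        simp only [map_mul, map_inv, map_cj, lift_gu, lift_gh, lift_gw, x0, x1, x2, true_and]
        rw [hUq, hWq, xel_mul, xel_mul]
        exact xel_congr hF _ _ (by ring) (by simp [zero_pow_q hF]; ring)
      · intro G _ y hy
        simp only [List.forall_mem_cons, List.not_mem_nil, false_imp_iff, implies_true, and_true, rel_iff] at hy
        simp only [map_mul, map_inv, map_cj, lift_gu, lift_gh, lift_gw] at hy
        obtain ⟨r1, r2, r3, r4, r5⟩ := hy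
        have hkc : ∀ k r, r ∈ Subgroup.closure (Set.range (cj (gh ^ k) gu) ∪ (Subgroup.closure Zf : Set FG4)) →
            FreeGroup.lift y r ∈ Subgroup.closure (Set.range (cj (y 2 ^ k) (y 0)) ∪ (Sp (y 2) (y 1) dz : Set G)) :=
          fun k r hr => by rw [← image_Kf]; exact mem_in hr
        have hzc : ∀ r, r ∈ Subgroup.closure Zf → FreeGroup.lift y r ∈ Sp (y 2) (y 1) dz := fun r hr => by
          have := mem_in (x := y) hr
          rwa [image_Zf] at this
        refine ⟨fun hab' hst hord hkw => ?_, Or.inr ⟨a, b, r1 ▸ hzc _ hz1, r2 ▸ hzc _ hz2, r3 ▸ hkc a _ hk1⟩⟩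
        exact cent_big hdz0 (N := q ^ 2 - 1)
          (by have := Nat.pow_le_pow_left (show 2 ≤ q by omega) 2; omega) hord hab' hst r5 hkw (r4 ▸ hkc _ _ hk2)
  -- the other relators
  have hσ1 : σ ≠ 1 := by
    intro h1
    have h2 : ζ ^ (q + 1) = 1 := Units.ext (by rw [Units.val_pow_eq_pow_val, Units.val_one]; exact h1)
    have h3 := (zeta_pow_eq_one hF hζ).1 h2
    rw [sq_split] at h3
    have := Nat.le_of_dvd (by omega) h3
    have : (q + 1) * 2 ≤ (q + 1) * (q - 1) := Nat.mul_le_mul_left _ (by omega)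
    omega
  obtain ⟨bz, hbz⟩ := fixed_pow hF hζ (sub_ne_zero.2 hσ1) (by rw [sub_pow_q hF, hσf, one_pow])
  rw [Units.val_pow_eq_pow_val, ← hσd] at hbz
  obtain ⟨zd, hzd, hzd'⟩ := inZ (cj Hq Wq dz) (by obtain ⟨h, e⟩ := hcjW dz; rw [e]; exact hQz _ h)
  obtain ⟨zp, hzp, hzp'⟩ := inZ (Uq ^ p) (by
    obtain ⟨b', h', e⟩ := xel_pow hF hβ p
    have hp0 : (p : F) * 1 = 0 := by simp [CharP.cast_eq_zero F p]
    rw [e]
    exact hQz' _ ⟨b', hp0 ▸ h', xel_congr hF _ _ hp0 rfl⟩)
  obtain ⟨ud, hud, hud'⟩ := inW (cj Hq Uq du) (by obtain ⟨b, h, e⟩ := hcjU du; rw [e]; exact hQW _ _ h)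
  have exch : ∀ (a b : F) (h : Val q a b) (hb : b ≠ 0), ∃ r1 ∈ Subgroup.closure Wf, ∃ r2 ∈ Subgroup.closure Wf,
      ∃ i : ℕ, Tq * xel hF h * Tq = FreeGroup.lift x r1 * Hq ^ i * Tq * FreeGroup.lift x r2 := by
    intro a b h hb
    obtain ⟨r1, hr1, hr1'⟩ := inW _ (hQW _ _ (exchange_val hF h hb).1)
    obtain ⟨r2, hr2, hr2'⟩ := inW _ (hQW _ _ (exchange_val hF h hb).2)
    obtain ⟨i, hi⟩ : ∃ i : ℕ, ζ ^ i = (Units.mk0 b hb ^ q)⁻¹ := mem_powers_iff_mem_zpowers.mpr (hζ _)
    exact ⟨r1, hr1, r2, hr2, i, by rw [hr1', hr2', hHq, hel_pow, hi, hTq]; exact exchange hF h hb⟩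
  obtain ⟨rz1, hrz1, rz2, hrz2, iz, hiz⟩ := exch _ _ hw hc0
  have hβ0 : β ≠ 0 := val_ne_zero hF hβ (Or.inl one_ne_zero)
  obtain ⟨ru1, hru1, ru2, hru2, iu, hiu⟩ := exch _ _ hβ hβ0
  set Base : List FG4 := [gw ^ p * (1 : FG4)⁻¹, gh * gw * gh⁻¹ * (gw * cj gh gw bz)⁻¹,
    gw * cj gh gw bz * (cj gh gw bz * gw)⁻¹, cj gh gw dz * zd⁻¹, gu ^ p * zp⁻¹, cj gh gu du * ud⁻¹,
    gh ^ (q ^ 2 - 1) * (1 : FG4)⁻¹, gt * gt * (1 : FG4)⁻¹, gt * gh * gt * ((gh ^ q)⁻¹)⁻¹,
    gt * gw * gt * (rz1 * gh ^ iz * gt * rz2)⁻¹, gt * gu * gt * (ru1 * gh ^ iu * gt * ru2)⁻¹] with hBase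
  have hgenU : Subgroup.closure ({Uq, Hq, Tq} : Set (SUJ q F)) = ⊤ := by
    set K := Subgroup.closure ({Uq, Hq, Tq} : Set (SUJ q F))
    have hu : Uq ∈ K := Subgroup.subset_closure (by simp)
    have hh : Hq ∈ K := Subgroup.subset_closure (by simp)
    have hcj : ∀ {g : SUJ q F}, g ∈ K → ∀ n, cj Hq g n ∈ K := fun hg n =>
      mul_mem (mul_mem (pow_mem hh n) hg) (inv_mem (pow_mem hh n))
    obtain ⟨b, h, e⟩ := hcjU 1
    have hne : ρ ^ q - ρ ≠ 0 := by
      intro h0
      have := card_adjoin_fixed (p := p) hF (sub_eq_zero.1 h0)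
      rw [← hdu, hduq] at this
      nlinarith
    have hmem : Uq * cj Hq Uq 1 * (cj Hq Uq 1 * Uq)⁻¹ ∈ K :=
      mul_mem (mul_mem hu (hcj hu 1)) (inv_mem (mul_mem (hcj hu 1) hu))
    rw [e, hUq, xel_mul, xel_mul, xel_inv, xel_mul] at hmem
    set c1 : F := (β + b - (1 : F) ^ q * ρ ^ 1) + (b + β - (ρ ^ 1) ^ q * 1) ^ q - (1 + ρ ^ 1) ^ q * -(ρ ^ 1 + 1) with hc1
    have hv1 : Val q (0 : F) c1 := by
      convert val_mul hF (val_mul hF hβ h) (val_inv hF (val_mul hF h hβ)) using 1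
      ring
    have hmem' : xel hF hv1 ∈ K := by
      rwa [xel_congr hF hv1 _ (show (0 : F) = 1 + ρ ^ 1 + -(ρ ^ 1 + 1) by ring) rfl]
    have hc1' : c1 = ρ ^ q - ρ := by
      unfold Val at hβ h
      rw [hc1]
      simp only [pow_one, one_pow, one_mul, mul_one, sub_pow_q hF, add_pow_q hF, pow_q_q hF]
      simp only [pow_one, one_pow, one_mul, mul_one] at hβ h
      linear_combination hβ + h
    have hc1n : c1 ≠ 0 := hc1' ▸ hne
    have hcen : ∀ c' (h : Val q (0 : F) c'), xel hF h ∈ K := by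
      refine centre_mem hF hζ hc1n ((val_skew hF).1 hv1) K (S := (fun i => σ ^ i) '' {i | i < dz}) ?_
        (fun i => hzspan _ (pow_mem (Algebra.self_mem_adjoin_singleton _ _) i))
      rintro _ ⟨i, -, rfl⟩
      obtain ⟨h', e'⟩ := cj_xel hF ζ hv1 i
      have := hcj hmem' i
      rw [hHq, e'] at this
      refine ⟨by simpa using h', ?_⟩
      rwa [xel_congr hF _ h' (by simp) rfl]
    refine generate hF (all_mem hF K hcen ((fun i => ρ ^ i) '' {i | i < du}) ?_
      (fun a => huspan a (hρtop ▸ Algebra.mem_top))) (fun l => ?_) (Subgroup.subset_closure (by simp [hTq]))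
    · rintro _ ⟨i, -, rfl⟩
      obtain ⟨b', h', e'⟩ := hcjU i
      exact ⟨b', h', e' ▸ hcj hu i⟩
    · obtain ⟨k, hk⟩ : ∃ k : ℕ, ζ ^ k = l := mem_powers_iff_mem_zpowers.mpr (hζ l)
      rw [← hk, ← hel_pow]
      exact pow_mem hh k
  refine ⟨Uq, Wq, Hq, Tq, Base ++ C, by simp [hBase]; omega, Pres.of_inj ?_ ?_ ?_, hgenU⟩
  · intro r hr
    rcases List.mem_append.1 hr with hr | hr
    swap
    · exact hCsat r hr
    suffices hb : ∀ r ∈ Base, FreeGroup.lift x r = 1 from hb r hr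
    simp only [hBase, List.forall_mem_cons, List.not_mem_nil, false_imp_iff, implies_true, and_true, rel_iff,
      ← hlift, hzd', hzp', hud']
    simp only [map_mul, map_inv, map_pow, map_one, map_cj, lift_gu, lift_gh, lift_gw, lift_gt, x0, x1, x2, x3]
    refine ⟨?_, ?_, ?_, trivial, trivial, trivial, ?_, tel_sq hF, ?_, hiz, hiu⟩
    · obtain ⟨b', h', e⟩ := xel_pow hF hw p
      rw [hWq, e, ← xel_zero hF]
      have : b' = 0 := by
        have hz : ∀ n : ℕ, ∃ h : Val q (0 : F) ((n : F) * c0), xel hF hw ^ n = xel hF h := by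
          intro n
          induction n with
          | zero =>
            exact ⟨by simpa using val_zero (q := q) hF, by
              rw [pow_zero, ← xel_zero hF]; exact xel_congr hF _ _ rfl (by simp)⟩
          | succ n ih =>
            obtain ⟨hn, en⟩ := ih
            have hv := val_mul hF hn hw
            refine ⟨by simpa [zero_pow_q hF, add_mul] using hv, ?_⟩
            rw [pow_succ, en, xel_mul]
            exact xel_congr hF _ _ (add_zero 0) (by simp [zero_pow_q hF, add_mul])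
        obtain ⟨hn, en⟩ := hz p
        rw [e] at en
        rw [(xel_inj hF en).2, CharP.cast_eq_zero F p, zero_mul]
      exact xel_congr hF _ _ (by simp [CharP.cast_eq_zero F p]) this
    · obtain ⟨h1, e1⟩ := hcjW 1
      obtain ⟨hb, eb⟩ := hcjW bz
      rw [show Hq * Wq * Hq⁻¹ = cj Hq Wq 1 by simp [cj], e1, eb, hWq, xel_mul]
      exact xel_congr hF _ _ (by simp) (by simp [zero_pow_q hF]; linear_combination c0 * hbz)
    · obtain ⟨hb, eb⟩ := hcjW bz
      rw [eb, hWq, xel_mul, xel_mul]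
      exact xel_congr hF _ _ rfl (by simp [zero_pow_q hF]; ring)
    · rw [hHq, hel_pow, zeta_top hF hζ, hel_one]
    · rw [hHq, hTq, tel_hel, hel_pow]
      exact (map_inv (helHom hF) _)
  · rw [eq_top_iff, ← hgenU]
    refine Subgroup.closure_mono ?_
    rintro g (rfl | rfl | rfl)
    · exact ⟨0, rfl⟩
    · exact ⟨2, rfl⟩
    · exact ⟨3, rfl⟩
  · intro G _ y π hπ hgen hy
    have hC := hCuse G y fun r hr => hy r (List.mem_append_right _ hr)
    have hB : ∀ r ∈ Base, FreeGroup.lift y r = 1 := fun r hr => hy r (List.mem_append_left _ hr)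
    simp only [hBase, List.forall_mem_cons, List.not_mem_nil, false_imp_iff, implies_true, and_true, rel_iff] at hB
    simp only [map_mul, map_inv, map_pow, map_one, map_cj, lift_gu, lift_gh, lift_gw, lift_gt] at hB
    obtain ⟨b1, b2, b3, b4, b5, b6, b7, b8, b9, b10, b11⟩ := hB
    set u := y 0 with hu
    set w := y 1 with hwy
    set h := y 2 with hh
    set t := y 3 with ht
    have p0 : π u = Uq := hπ 0
    have p1 : π w = Wq := hπ 1
    have p2 : π h = Hq := hπ 2
    have p3 : π t = Tq := hπ 3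
    have hzc : ∀ r, r ∈ Subgroup.closure Zf → FreeGroup.lift y r ∈ Sp h w dz := fun r hr => by
      have := mem_in (x := y) hr
      rwa [image_Zf] at this
    have hwc : ∀ r, r ∈ Subgroup.closure Wf →
        FreeGroup.lift y r ∈ Subgroup.closure (Set.range (fun i : Fin du => cj h u i) ∪ (Sp h w dz : Set G)) :=
      fun r hr => by rw [hu, hwy, hh, ← image_Wf]; exact mem_in hr
    have hN0 : 0 < q ^ 2 - 1 := by
      have := Nat.pow_le_pow_left (show 2 ≤ q by omega) 2; omega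
    obtain ⟨-, hst, hab, hfinz, hcardz⟩ := z_part (p := p) hdz0 b1 b2 b3 (b4 ▸ hzc _ hzd)
    have hmap : ∀ g, g ∈ Sp Hq Wq dz → ∃ v ∈ Sp h w dz, π v = g := by
      intro g hg
      obtain ⟨r, hr, hr'⟩ := inZ g hg
      exact ⟨_, hzc r hr, by rw [map_word π hπ]; exact hr'⟩
    let Sk := {c : F // c + c ^ q = 0}
    let gk : Sk → SUJ q F := fun s => xel hF ((val_skew hF).2 s.2)
    have hgk : Function.Injective gk := fun a b e => Subtype.ext (xel_inj hF e).2
    obtain ⟨hinjz, himgz⟩ := inj_of_card π (Sp h w dz) gk hgk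
      ((hcardz.trans hdzle).trans (card_skew_ge hF)) (fun s => hmap _ (hQz _ _))
    have hw1 : w ∈ Sp h w dz := Subgroup.subset_closure ⟨⟨0, hdz0⟩, cj_zero h w⟩
    have hkw : Commute (h ^ (q - 1)) w := by
      have hm := hst w hw1 (q - 1)
      have e : cj h w (q - 1) = w := by
        have := hinjz (w⁻¹ * cj h w (q - 1)) (mul_mem (inv_mem hw1) hm) (by
          rw [map_mul, map_inv, map_cj, p1, p2]
          obtain ⟨h', e'⟩ := hcjW (q - 1)
          rw [e', hWq, inv_mul_eq_one]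
          refine xel_congr hF _ _ rfl ?_
          have : σ ^ (q - 1) = 1 := by
            have h0 : σ ≠ 0 := pow_ne_zero _ ζ.ne_zero
            refine mul_right_cancel₀ h0 ?_
            rw [← pow_succ, Nat.sub_add_cancel (by omega), hσf, one_mul]
          rw [this, one_mul])
        exact (inv_mul_eq_one.1 this).symm
      exact mul_inv_eq_iff_eq_mul.1 e
    have hcent := hC.1 hab hst b7 hkw
    obtain ⟨huW, hZW, hnorm, hWfin, hWcard⟩ :=
      u_part (p := p) (Sp h w dz) hdu0 hN0 b7 hst hcent (b5 ▸ hzc _ hzp) (b6 ▸ hwc _ hud) hC.2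
    set W := Subgroup.closure (Set.range (fun i : Fin du => cj h u i) ∪ (Sp h w dz : Set G)) with hWd
    let Sv := {z : F × F // Val q z.1 z.2}
    let gv : Sv → SUJ q F := fun s => xel hF s.2
    have hgv : Function.Injective gv := fun a b e => Subtype.ext (Prod.ext (xel_inj hF e).1 (xel_inj hF e).2)
    have hcardW : Nat.card W ≤ Nat.card Sv := by
      refine (hWcard.trans ?_).trans (card_val_ge hF)
      rw [hduq]; exact Nat.mul_le_mul_left _ (hcardz.trans hdzle)
    obtain ⟨hinj, himg⟩ := inj_of_card π W gv hgv hcardW (fun s => by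
      obtain ⟨r, hr, hr'⟩ := inW _ (hQW _ _ s.2)
      exact ⟨_, hwc r hr, by rw [map_word π hπ]; exact hr'⟩)
    have D : Datum hF ζ π W h t :=
      { hgen := hζ
        pih := p2
        pit := p3
        img := fun v hv => by
          obtain ⟨s, hs⟩ := himg v hv
          exact ⟨_, _, s.2, hs⟩
        surj := fun a b hv => by
          obtain ⟨r, hr, hr'⟩ := inW _ (hQW _ _ hv)
          exact ⟨_, hwc r hr, by rw [map_word π hπ]; exact hr'⟩
        inj := hinj
        norm := hnorm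
        hord := b7
        tsq := b8
        tht := by rw [b9, zpow_neg, zpow_natCast]
        gen := by
          rw [eq_top_iff, ← hgen, Subgroup.closure_le]
          rintro _ ⟨i, rfl⟩
          fin_cases i
          · exact Subgroup.subset_closure (Or.inl huW)
          · exact Subgroup.subset_closure (Or.inl (hZW hw1))
          · exact Subgroup.subset_closure (Or.inr (Or.inl rfl))
          · exact Subgroup.subset_closure (Or.inr (Or.inr rfl)) }
    have gz : Good hF π W h t 0 c0 := by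
      refine ⟨w, hZW hw1, hw, p1, _, hwc _ hrz1, _, hwc _ hrz2, (iz : ℤ), ?_⟩
      rw [zpow_natCast]; exact b10
    have gu' : Good hF π W h t 1 β := by
      refine ⟨u, huW, hβ, p0, _, hwc _ hru1, _, hwc _ hru2, (iu : ℤ), ?_⟩
      rw [zpow_natCast]; exact b11
    exact SU3PresClose78.injective D hc0 gz hc hβd gu'

end Cfsg.Agent.SU3PresShort78
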