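import Mathlib

/-!
A group `P:⟨d⟩` (`P` a 3-group, `d` an involution, `P` generated by its elements inverted by `d`)
acting faithfully on an elementary abelian 2-group such that the fixed points of each inverted
element are fixed by `d`: it has order 6 or is `3^{1+2}:2`.
-/

set_option autoImplicit false
set_option linter.all false

namespace Cfsg.Agent.TwoThreeTwo65

open Subgroup
open scoped commutatorElement

section Grid

variable {V : Type*} [CommGroup V]

/-- Two commuting maps of period three: if the fixed points of four maps covering the lines of the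
grid lie in `U`, everything does. -/
theorem grid (hV : ∀ v : V, v * v = 1) (W U : Subgroup V) (A B : V ≃* V)
    (hA3 : ∀ w ∈ W, A (A (A w)) = w) (hB3 : ∀ w ∈ W, B (B (B w)) = w)
    (hAB : ∀ w ∈ W, A (B w) = B (A w)) (hWA : ∀ w ∈ W, A w ∈ W) (hWB : ∀ w ∈ W, B w ∈ W)
    (h1 : ∀ w ∈ W, A w = w → w ∈ U) (h2 : ∀ w ∈ W, B w = w → w ∈ U)
    (h3 : ∀ w ∈ W, A (B w) = w → w ∈ U) (h4 : ∀ w ∈ W, A (A (B w)) = w → w ∈ U) :
    ∀ w ∈ W, w ∈ U := by
  intro w hw
  have a1 := hWA w hw
  have a2 := hWA _ a1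
  have b1 := hWB w hw
  have b2 := hWB _ b1
  have m11 := hWA _ b1
  have m21 := hWA _ m11
  have m12 := hWA _ b2
  have m22 := hWA _ m12
  have n1 : w * A w * A (A w) ∈ U := by
    refine h1 _ (mul_mem (mul_mem hw a1) a2) ?_
    rw [map_mul, map_mul, hA3 w hw]
    simp only [mul_comm, mul_left_comm]
  have n2 : w * B w * B (B w) ∈ U := by
    refine h2 _ (mul_mem (mul_mem hw b1) b2) ?_
    rw [map_mul, map_mul, hB3 w hw]
    simp only [mul_comm, mul_left_comm]
  have n3 : w * A (B w) * A (A (B (B w))) ∈ U := by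
    refine h3 _ (mul_mem (mul_mem hw m11) m22) ?_
    rw [map_mul, map_mul, map_mul, map_mul]
    rw [← hAB _ b1, ← hAB _ m12, ← hAB _ b2, hB3 w hw, hA3 w hw]
    simp only [mul_comm, mul_left_comm]
  have n4 : w * A (A (B w)) * A (B (B w)) ∈ U := by
    refine h4 _ (mul_mem (mul_mem hw m21) m12) ?_
    rw [map_mul, map_mul, map_mul, map_mul, map_mul, map_mul]
    rw [← hAB _ m11, ← hAB _ b1, ← hAB _ b2, hB3 w hw]
    rw [hA3 _ m12, hA3 w hw]
    simp only [mul_comm, mul_left_comm]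
  have n5 : (w * B w * B (B w)) * A (w * B w * B (B w)) * A (A (w * B w * B (B w))) ∈ U := by
    have hN : w * B w * B (B w) ∈ W := mul_mem (mul_mem hw b1) b2
    refine h1 _ (mul_mem (mul_mem hN (hWA _ hN)) (hWA _ (hWA _ hN))) ?_
    generalize hNd : w * B w * B (B w) = N at hN ⊢
    rw [map_mul, map_mul, hA3 _ hN]
    simp only [mul_comm, mul_left_comm]
  have sq : ∀ v r : V, v * (v * r) = r := fun v r => by rw [← mul_assoc, hV, one_mul]
  have hid : w = (w * A w * A (A w)) * (w * B w * B (B w)) * (w * A (B w) * A (A (B (B w)))) *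
      (w * A (A (B w)) * A (B (B w))) *
      ((w * B w * B (B w)) * A (w * B w * B (B w)) * A (A (w * B w * B (B w)))) := by
    simp only [map_mul]
    simp only [mul_comm, mul_left_comm, sq, hV, mul_one]
  rw [hid]
  exact mul_mem (mul_mem (mul_mem (mul_mem n1 n2) n3) n4) n5

end Grid

variable {X : Type*} [Group X]

theorem mem_of_sq_mem {K : Subgroup X} {x : X} (hx : Odd (orderOf x)) (h : x ^ 2 ∈ K) :
    x ∈ K := by
  obtain ⟨m, hm⟩ := exists_pow_eq_self_of_coprime (Nat.coprime_two_left.2 hx)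
  rw [← hm]
  exact pow_mem h m

theorem odd_orderOf [Finite X] {P : Subgroup X} (hP : IsPGroup 3 P) {x : X} (hx : x ∈ P) :
    Odd (orderOf x) := by
  obtain ⟨k, hk⟩ := hP ⟨x, hx⟩
  have hk' : x ^ 3 ^ k = 1 := congrArg Subtype.val hk
  exact Odd.of_dvd_nat ((by decide : Odd 3).pow) (orderOf_dvd_of_pow_eq_one hk')

theorem eq_one_of_inv_eq [Finite X] {P : Subgroup X} (hP : IsPGroup 3 P) {x : X} (hx : x ∈ P)
    (h : x⁻¹ = x) : x = 1 := by
  have h2 : x ^ 2 ∈ (⊥ : Subgroup X) := by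
    rw [mem_bot, pow_two]; nth_rw 1 [← h]; exact inv_mul_cancel x
  exact mem_bot.1 (mem_of_sq_mem (odd_orderOf hP hx) h2)

/-- The data of `3^{1+2}:2` with the involution inverting the two generators. -/
structure Data (X : Type*) [Group X] where
  x : X
  y : X
  z : X
  d : X
  hx : x ^ 3 = 1
  hy : y ^ 3 = 1
  hz : z ^ 3 = 1
  hd : d * d = 1
  xz : Commute x z
  yz : Commute y z
  dz : Commute d z
  rel : x * y = z * (y * x)
  dx : d * x * d = x⁻¹
  dy : d * y * d = y⁻¹
  ne : z ≠ 1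
  gen : closure ({x, y, d} : Set X) = ⊤

/-- The hypotheses: the abstract action. -/
structure Setting (X V : Type*) [Group X] [CommGroup V] where
  θ : X →* MulAut V
  inj : Function.Injective θ
  two : ∀ v : V, v * v = 1
  P : Subgroup X
  normal : P.Normal
  pGroup : IsPGroup 3 P
  d : X
  dd : d * d = 1
  dne : d ≠ 1
  cube : ∀ x ∈ P, d * x * d = x⁻¹ → x ^ 3 = 1
  gen : P ≤ closure {x | x ∈ P ∧ d * x * d = x⁻¹}
  top : P ⊔ zpowers d = ⊤
  key : ∀ x ∈ P, d * x * d = x⁻¹ → x ≠ 1 → ∀ v : V, θ x v = v → θ d v = v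

namespace Setting

variable {V : Type*} [CommGroup V] [Finite X] (T : Setting X V)

/-- The inverted elements. -/
def S : Set X := {x | x ∈ T.P ∧ T.d * x * T.d = x⁻¹}

theorem cancel (r : X) : T.d * (T.d * r) = r := by rw [← mul_assoc, T.dd, one_mul]

theorem dinv : T.d⁻¹ = T.d := inv_eq_of_mul_eq_one_left T.dd

theorem conj_mul (a b : X) : T.d * (a * b) * T.d = T.d * a * T.d * (T.d * b * T.d) := by
  simp only [mul_assoc, T.cancel]

theorem conj_inv (a : X) : T.d * a⁻¹ * T.d = (T.d * a * T.d)⁻¹ := by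
  simp only [mul_inv_rev, T.dinv, mul_assoc]

theorem conj_pow' (a : X) (n : ℕ) : T.d * a ^ n * T.d = (T.d * a * T.d) ^ n := by
  have h := conj_pow (i := n) (a := T.d) (b := a)
  rw [T.dinv] at h
  exact h.symm

theorem inv_mem_S {x : X} (hx : x ∈ T.S) : x⁻¹ ∈ T.S :=
  ⟨inv_mem hx.1, by rw [T.conj_inv, hx.2]⟩

theorem cube_apply {x : X} (hx : x ^ 3 = 1) (v : V) : T.θ x (T.θ x (T.θ x v)) = v := by
  have h : T.θ (x * (x * x)) v = v := by
    rw [show x * (x * x) = x ^ 3 by simp [pow_succ, mul_assoc], hx, map_one]; rfl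
  rwa [map_mul, map_mul] at h

theorem apply_mul (a b : X) (v : V) : T.θ (a * b) v = T.θ a (T.θ b v) := by
  rw [map_mul]; rfl

/-- The grid argument on an invariant subgroup. -/
theorem fixed_pair (W : Subgroup V) {g₁ g₂ g₃ g₄ : X} (h₁ : g₁ ∈ T.S) (h₂ : g₂ ∈ T.S)
    (h₃ : g₃ ∈ T.S) (h₄ : g₄ ∈ T.S) (n₁ : g₁ ≠ 1) (n₂ : g₂ ≠ 1) (n₃ : g₃ ≠ 1) (n₄ : g₄ ≠ 1)
    (hW₁ : ∀ w ∈ W, T.θ g₁ w ∈ W) (hW₂ : ∀ w ∈ W, T.θ g₂ w ∈ W)
    (hcomm : ∀ w ∈ W, T.θ g₁ (T.θ g₂ w) = T.θ g₂ (T.θ g₁ w))
    (e₃ : ∀ w ∈ W, T.θ g₁ (T.θ g₂ w) = T.θ g₃ w)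
    (e₄ : ∀ w ∈ W, T.θ g₁ (T.θ g₁ (T.θ g₂ w)) = T.θ g₄ w) :
    ∀ w ∈ W, T.θ g₁ w = w := by
  let U : Subgroup V :=
    { carrier := {v | T.θ T.d v = v}
      one_mem' := map_one _
      mul_mem' := fun {a b} ha hb => by simp_all
      inv_mem' := fun {a} ha => by simp_all }
  have hU := grid T.two W U (T.θ g₁) (T.θ g₂) (fun w _ => T.cube_apply (T.cube _ h₁.1 h₁.2) w)
    (fun w _ => T.cube_apply (T.cube _ h₂.1 h₂.2) w) hcomm hW₁ hW₂
    (fun w _ h => T.key _ h₁.1 h₁.2 n₁ w h) (fun w _ h => T.key _ h₂.1 h₂.2 n₂ w h)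
    (fun w hw h => T.key _ h₃.1 h₃.2 n₃ w ((e₃ w hw).symm.trans h))
    (fun w hw h => T.key _ h₄.1 h₄.2 n₄ w ((e₄ w hw).symm.trans h))
  intro w hw
  have hfix : T.θ T.d w = w := hU w hw
  have hfix' : T.θ T.d (T.θ g₁ w) = T.θ g₁ w := hU _ (hW₁ w hw)
  have e : T.θ g₁ (T.θ g₁ w) = w := by
    have h : T.θ g₁⁻¹ w = T.θ g₁ w := by rw [← h₁.2, T.apply_mul, T.apply_mul, hfix, hfix']
    rw [← h, ← T.apply_mul, mul_inv_cancel, map_one]; rfl
  have := T.cube_apply (T.cube _ h₁.1 h₁.2) w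
  rwa [e] at this

theorem theta_eq_one {x : X} (h : ∀ v, T.θ x v = v) : x = 1 :=
  T.inj (by rw [map_one]; exact MulEquiv.ext h)

/-- Commuting inverted elements generate a cyclic group. -/
theorem mem_zpowers_of_commute {x y : X} (hx : x ∈ T.S) (hy : y ∈ T.S) (h1 : x ≠ 1)
    (hc : Commute x y) : y ∈ zpowers x := by
  by_contra hn
  apply h1
  have p1 : x * y ∈ T.S := ⟨mul_mem hx.1 hy.1, by
    rw [T.conj_mul, hx.2, hy.2, ← mul_inv_rev, hc.eq]⟩
  have c2 : Commute x (x * y) := (Commute.refl x).mul_right hc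
  have p2 : x * (x * y) ∈ T.S := ⟨mul_mem hx.1 p1.1, by
    rw [T.conj_mul, hx.2, p1.2, ← mul_inv_rev, c2.eq]⟩
  have hy1 : y ≠ 1 := fun h => hn (h ▸ one_mem _)
  have hxy : x * y ≠ 1 := fun h => hn (by
    rw [eq_inv_of_mul_eq_one_right h]; exact inv_mem (mem_zpowers x))
  have hxxy : x * (x * y) ≠ 1 := fun h => hn (by
    rw [← mul_assoc] at h
    rw [eq_inv_of_mul_eq_one_right h]
    exact inv_mem (mul_mem (mem_zpowers x) (mem_zpowers x)))
  refine T.theta_eq_one fun v => T.fixed_pair ⊤ hx hy p1 p2 h1 hy1 hxy hxxy (fun _ _ => mem_top _)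
    (fun _ _ => mem_top _) ?_ ?_ ?_ v (mem_top _)
  · intro w _; rw [← T.apply_mul, hc.eq, T.apply_mul]
  · intro w _; rw [T.apply_mul]
  · intro w _; rw [T.apply_mul, T.apply_mul]

/-- Every element of `P` is an inverted one times one fixed by `d`. -/
theorem split {p : X} (hp : p ∈ T.P) :
    ∃ s c, s ∈ T.S ∧ c ∈ T.P ∧ T.d * c * T.d = c ∧ p = s * c := by
  haveI := T.normal
  have hd : T.d * p * T.d ∈ T.P := by
    have := T.normal.conj_mem p hp T.d
    rwa [T.dinv] at this
  set m := p * (T.d * p * T.d)⁻¹ with hm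
  have hmS : m ∈ T.S := ⟨mul_mem hp (inv_mem hd), by
    rw [hm, T.conj_mul, T.conj_inv]
    simp only [mul_assoc, T.cancel, T.dd, mul_one, mul_inv_rev, inv_inv]⟩
  have hm3 := T.cube _ hmS.1 hmS.2
  have hmm : m⁻¹ * m⁻¹ = m := by
    rw [← mul_inv_rev, inv_eq_iff_mul_eq_one]
    rw [show m * m * m = m ^ 3 by simp [pow_succ, mul_assoc]]; exact hm3
  have hs : m⁻¹ ∈ T.S := T.inv_mem_S hmS
  refine ⟨m⁻¹, m * p, hs, mul_mem hmS.1 hp, ?_, by rw [inv_mul_cancel_left]⟩
  rw [T.conj_mul, hmS.2]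
  have e : T.d * p * T.d = m⁻¹ * p := by rw [hm]; group
  rw [e, ← mul_assoc, hmm]

theorem S_generates {K : Subgroup X} (h : ∀ s ∈ T.S, s ∈ K) : T.P ≤ K :=
  T.gen.trans ((closure_le _).2 h)

theorem abelian_case (hne : T.P ≠ ⊥) (hab : ∀ a ∈ T.P, ∀ b ∈ T.P, Commute a b) :
    Nat.card T.P = 3 := by
  have hS : ∃ x ∈ T.S, x ≠ 1 := by
    by_contra h
    push Not at h
    exact hne (le_bot_iff.1 (T.S_generates fun s hs => by rw [mem_bot]; exact h s hs))
  obtain ⟨x, hx, h1⟩ := hS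
  have : T.P = zpowers x := le_antisymm
    (T.S_generates fun s hs => T.mem_zpowers_of_commute hx hs h1 (hab _ hx.1 _ hs.1))
    (zpowers_le.2 hx.1)
  rw [this, Nat.card_zpowers]
  haveI : Fact (Nat.Prime 3) := ⟨Nat.prime_three⟩
  exact orderOf_eq_prime (T.cube _ hx.1 hx.2) h1

theorem center_fixed (hnab : ¬ ∀ a ∈ T.P, ∀ b ∈ T.P, Commute a b) {z : X} (hz : z ∈ T.P)
    (hzc : ∀ p ∈ T.P, Commute z p) : T.d * z * T.d = z := by
  haveI := T.normal
  obtain ⟨s, c, hs, hc, hdc, e⟩ := T.split hz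
  have hd : T.d * z * T.d = s⁻¹ * c := by rw [e, T.conj_mul, hs.2, hdc]
  have hdz : ∀ p ∈ T.P, Commute (T.d * z * T.d) p := by
    intro p hp
    have hp' : T.d * p * T.d ∈ T.P := by
      have := T.normal.conj_mem p hp T.d
      rwa [T.dinv] at this
    show T.d * z * T.d * p = p * (T.d * z * T.d)
    have h : T.d * (z * (T.d * p * T.d)) * T.d = T.d * (T.d * p * T.d * z) * T.d := by
      rw [(hzc _ hp').eq]
    simpa only [mul_assoc, T.cancel, T.dd, mul_one] using h
  -- the quotient of the element by its image is central and inverted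
  have hs2 : ∀ p ∈ T.P, Commute (s * s) p := by
    intro p hp
    have e2 : s * s = z * (T.d * z * T.d)⁻¹ := by rw [hd, e]; group
    rw [e2]
    exact (hzc p hp).mul_left (hdz p hp).inv_left
  have hs3 : s * s = s⁻¹ := by
    refine eq_inv_of_mul_eq_one_left ?_
    rw [show s * s * s = s ^ 3 by simp [pow_succ, mul_assoc]]; exact T.cube _ hs.1 hs.2
  have hsc : ∀ p ∈ T.P, Commute s p := fun p hp => by
    have := hs2 p hp
    rw [hs3] at this
    simpa using this.inv_left
  by_cases h1 : s = 1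
  · rw [hd, e, h1]; simp
  exfalso
  apply hnab
  have hP : T.P ≤ zpowers s :=
    T.S_generates fun t ht => T.mem_zpowers_of_commute hs ht h1 (hsc t ht.1)
  intro a ha b hb
  obtain ⟨i, rfl⟩ := mem_zpowers_iff.1 (hP ha)
  obtain ⟨j, rfl⟩ := mem_zpowers_iff.1 (hP hb)
  exact (Commute.refl s).zpow_zpow i j

/-- An inverted element whose commutators with `P` are central. -/
theorem exists_second (hnab : ¬ ∀ a ∈ T.P, ∀ b ∈ T.P, Commute a b) :
    ∃ x ∈ T.S, (∀ p ∈ T.P, ∀ r ∈ T.P, Commute ⁅x, p⁆ r) ∧ ∃ p ∈ T.P, ¬ Commute x p := by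
  haveI := T.normal
  haveI : Fact (Nat.Prime 3) := ⟨Nat.prime_three⟩
  let Z := center T.P
  haveI : Nontrivial (↥T.P ⧸ Z) := by
    rw [QuotientGroup.nontrivial_iff]
    intro h
    apply hnab
    intro a ha b hb
    have : (⟨a, ha⟩ : T.P) ∈ Z := by rw [h]; exact mem_top _
    exact (congrArg Subtype.val (mem_center_iff.1 this ⟨b, hb⟩)).symm
  haveI := (T.pGroup.to_quotient Z).center_nontrivial
  obtain ⟨⟨w, hw⟩, hw1⟩ := exists_ne (1 : center (↥T.P ⧸ Z))
  obtain ⟨⟨u, hu⟩, rfl⟩ := QuotientGroup.mk_surjective w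
  have hu1 : (⟨u, hu⟩ : T.P) ∉ Z := fun h => hw1 (Subtype.ext ((QuotientGroup.eq_one_iff _).2 h))
  -- commutators with u are central
  have huZ : ∀ p ∈ T.P, ∀ r ∈ T.P, Commute ⁅u, p⁆ r := by
    intro p hp r hr
    have h : ((⁅(⟨u, hu⟩ : T.P), ⟨p, hp⟩⁆ : T.P) : ↥T.P ⧸ Z) = 1 := by
      rw [← QuotientGroup.mk'_apply, map_commutatorElement, commutatorElement_eq_one_iff_mul_comm]
      exact ((mem_center_iff.1 hw) _).symm
    have h2 := mem_center_iff.1 ((QuotientGroup.eq_one_iff _).1 h) ⟨r, hr⟩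
    exact (by simpa [commutatorElement_def] using congrArg Subtype.val h2 :
      r * ⁅u, p⁆ = ⁅u, p⁆ * r).symm
  obtain ⟨s, c, hs, hc, hdc, e⟩ := T.split hu
  have hdu : T.d * u * T.d = s⁻¹ * c := by rw [e, T.conj_mul, hs.2, hdc]
  have hdP : ∀ p ∈ T.P, T.d * p * T.d ∈ T.P := fun p hp => by
    have := T.normal.conj_mem p hp T.d
    rwa [T.dinv] at this
  have hcomm : ∀ a b : X, T.d * ⁅a, b⁆ * T.d = ⁅T.d * a * T.d, T.d * b * T.d⁆ := fun a b => by
    simp only [commutatorElement_def, T.conj_mul, T.conj_inv]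
  by_cases hsc : ∀ p ∈ T.P, Commute s p
  · exfalso
    apply hu1
    have hcu : ∀ t ∈ T.S, Commute u t := by
      intro t ht
      have h1 : ⁅u, t⁆ ∈ T.P := by
        rw [commutatorElement_def]
        exact mul_mem (mul_mem (mul_mem hu ht.1) (inv_mem hu)) (inv_mem ht.1)
      have hds : T.d * s * T.d = s := T.center_fixed hnab hs.1 hsc
      have hdu' : T.d * u * T.d = u := by rw [e, T.conj_mul, hds, hdc]
      have hfix := T.center_fixed hnab h1 (huZ t ht.1)
      rw [hcomm, hdu', ht.2] at hfix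
      have hcen : Commute ⁅u, t⁆ t := huZ t ht.1 t ht.1
      have hinv : ⁅u, t⁻¹⁆ = (⁅u, t⁆)⁻¹ := by
        have e1 : ⁅u, t⁻¹⁆ = t⁻¹ * (⁅u, t⁆)⁻¹ * t := by simp only [commutatorElement_def]; group
        rw [e1, mul_assoc, hcen.inv_left.eq, inv_mul_cancel_left]
      rw [hinv] at hfix
      exact commutatorElement_eq_one_iff_commute.1 (eq_one_of_inv_eq T.pGroup h1 hfix)
    have hle : T.P ≤ centralizer {u} := T.S_generates fun t ht =>
      mem_centralizer_singleton_iff.2 (hcu t ht).eq.symm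
    exact mem_center_iff.2 fun g => Subtype.ext (mem_centralizer_singleton_iff.1 (hle g.2))
  · push Not at hsc
    refine ⟨s, hs, fun p hp => ?_, hsc⟩
    -- `s * s` is the quotient of `u` by its image
    have hdu' : T.d * u * T.d ∈ T.P := hdP u hu
    have hduZ : ∀ p ∈ T.P, ∀ r ∈ T.P, Commute ⁅T.d * u * T.d, p⁆ r := by
      intro p hp r hr
      have h := huZ _ (hdP p hp) _ (hdP r hr)
      have h' : Commute (T.d * ⁅u, T.d * p * T.d⁆ * T.d⁻¹) (T.d * (T.d * r * T.d) * T.d⁻¹) :=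
        (Commute.conj_iff T.d).2 h
      rw [T.dinv, hcomm] at h'
      simpa only [mul_assoc, T.cancel, T.dd, mul_one] using h'
    have hs2 : s * s = u * (T.d * u * T.d)⁻¹ := by rw [hdu, e]; group
    have hs4 : s = (s * s) * (s * s) := by
      have := T.cube _ hs.1 hs.2
      rw [show (s * s) * (s * s) = s ^ 3 * s by simp [pow_succ, mul_assoc], this, one_mul]
    -- elements with central commutators form a subgroup
    let K : Subgroup T.P := (center (↥T.P ⧸ Z)).comap (QuotientGroup.mk' Z)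
    have hK : ∀ a : T.P, a ∈ K ↔ ∀ p ∈ T.P, ∀ r ∈ T.P, Commute ⁅(a : X), p⁆ r := by
      intro a
      constructor
      · intro ha p hp r hr
        have h : ((⁅a, ⟨p, hp⟩⁆ : T.P) : ↥T.P ⧸ Z) = 1 := by
          rw [← QuotientGroup.mk'_apply, map_commutatorElement,
            commutatorElement_eq_one_iff_mul_comm]
          exact ((mem_center_iff.1 ha) _).symm
        have h2 := mem_center_iff.1 ((QuotientGroup.eq_one_iff _).1 h) ⟨r, hr⟩
        exact (by simpa [commutatorElement_def] using congrArg Subtype.val h2 :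
          r * ⁅(a : X), p⁆ = ⁅(a : X), p⁆ * r).symm
      · intro ha
        rw [mem_comap, mem_center_iff]
        intro g
        obtain ⟨g, rfl⟩ := QuotientGroup.mk_surjective g
        refine Eq.symm (commutatorElement_eq_one_iff_mul_comm.1 ?_)
        show ⁅QuotientGroup.mk' Z a, QuotientGroup.mk' Z g⁆ = 1
        rw [← map_commutatorElement, QuotientGroup.mk'_apply, QuotientGroup.eq_one_iff]
        refine mem_center_iff.2 fun r => Subtype.ext ?_
        simpa [commutatorElement_def] using (ha g g.2 r r.2).eq.symm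
    have m1 : (⟨u, hu⟩ : T.P) ∈ K := (hK _).2 huZ
    have m2 : (⟨_, hdu'⟩ : T.P) ∈ K := (hK _).2 hduZ
    have m3 := mul_mem (mul_mem m1 (inv_mem m2)) (mul_mem m1 (inv_mem m2))
    refine fun r hr => (hK ⟨s, hs.1⟩).1 ?_ p hp r hr
    convert m3 using 1
    apply Subtype.ext
    show s = u * (T.d * u * T.d)⁻¹ * (u * (T.d * u * T.d)⁻¹)
    rw [← hs2]; exact hs4

theorem exists_data (hne : T.P ≠ ⊥) :
    Nat.card T.P = 3 ∨ Nonempty (Data X) := by
  haveI := T.normal
  by_cases hnab : ∀ a ∈ T.P, ∀ b ∈ T.P, Commute a b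
  · exact Or.inl (T.abelian_case hne hnab)
  right
  obtain ⟨x, hx, hxZ, p₀, hp₀, hxp₀⟩ := T.exists_second hnab
  have hcomm : ∀ a b : X, T.d * ⁅a, b⁆ * T.d = ⁅T.d * a * T.d, T.d * b * T.d⁆ := fun a b => by
    simp only [commutatorElement_def, T.conj_mul, T.conj_inv]
  have hmem : ∀ {p : X}, p ∈ T.P → ⁅x, p⁆ ∈ T.P := fun {p} hp => by
    rw [commutatorElement_def]
    exact mul_mem (mul_mem (mul_mem hx.1 hp) (inv_mem hx.1)) (inv_mem hp)
  have swap : ∀ {p : X}, x * p = ⁅x, p⁆ * (p * x) := fun {p} => by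
    simp only [commutatorElement_def]; group
  -- the commutator map
  have hmul : ∀ {p q : X}, p ∈ T.P → q ∈ T.P → ⁅x, p * q⁆ = ⁅x, p⁆ * ⁅x, q⁆ := fun {p q} hp hq => by
    have e : ⁅x, p * q⁆ = ⁅x, p⁆ * (p * ⁅x, q⁆ * p⁻¹) := by
      simp only [commutatorElement_def]; group
    rw [e, ← (hxZ q hq p hp).eq, mul_inv_cancel_right]
  have hfixd : ∀ {p : X}, p ∈ T.P → T.d * ⁅x, p⁆ * T.d = ⁅x, p⁆ := fun {p} hp =>
    T.center_fixed hnab (hmem hp) (hxZ p hp)
  have hx3 := T.cube _ hx.1 hx.2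
  have hcube : ∀ {p : X}, p ∈ T.P → ⁅x, p⁆ ^ 3 = 1 := fun {p} hp => by
    set a := ⁅x, p⁆
    have ha : Commute a x := hxZ p hp x hx.1
    have e1 : p * x * p⁻¹ = a⁻¹ * x := by
      simp only [a, commutatorElement_def]; group
    have e2 := conj_pow (i := 3) (a := p) (b := x)
    rw [e1, ha.inv_left.mul_pow, hx3, mul_one, mul_one, mul_inv_cancel, inv_pow, inv_eq_one] at e2
    exact e2
  have hfix0 : ∀ {c : X}, c ∈ T.P → T.d * c * T.d = c → Commute x c := fun {c} hc hdc => by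
    have h := hfixd hc
    rw [hcomm, hx.2, hdc] at h
    have e : ⁅x⁻¹, c⁆ = x⁻¹ * (⁅x, c⁆)⁻¹ * x := by simp only [commutatorElement_def]; group
    rw [e, mul_assoc, (hxZ c hc x hx.1).inv_left.eq, inv_mul_cancel_left] at h
    exact commutatorElement_eq_one_iff_commute.1 (eq_one_of_inv_eq T.pGroup (hmem hc) h)
  have hreal : ∀ {p : X}, p ∈ T.P → ∃ s ∈ T.S, ⁅x, s⁆ = ⁅x, p⁆ := fun {p} hp => by
    obtain ⟨s, c, hs, hc, hdc, rfl⟩ := T.split hp
    exact ⟨s, hs, by rw [hmul hs.1 hc, commutatorElement_eq_one_iff_commute.2 (hfix0 hc hdc),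
      mul_one]⟩
  have x1 : x ≠ 1 := fun h => hxp₀ (h ▸ Commute.one_left p₀)
  obtain ⟨y, hy, hy'⟩ := hreal hp₀
  set z := ⁅x, y⁆ with hz
  have hz1 : z ≠ 1 := fun h => hxp₀ (commutatorElement_eq_one_iff_commute.1 (hy'.symm.trans h))
  -- the commutators with x have order three
  have himage : ∀ {p : X}, p ∈ T.P → ⁅x, p⁆ ∈ zpowers z := by
    intro p hp
    by_contra hn
    apply x1
    refine T.theta_eq_one fun v => ?_
    -- x is trivial on the fixed points of each nontrivial commutator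
    have hline : ∀ {q : X}, q ∈ T.P → ⁅x, q⁆ ≠ 1 → ∀ w, T.θ ⁅x, q⁆ w = w → T.θ x w = w := by
      intro q hq hq1
      obtain ⟨s, hs, hsq⟩ := hreal hq
      rw [← hsq] at hq1 ⊢
      set a := ⁅x, s⁆ with ha
      have aP : ∀ r ∈ T.P, Commute a r := hxZ s hs.1
      have ad : T.d * a * T.d = a := hfixd hs.1
      have a3 : a ^ 3 = 1 := hcube hs.1
      have rel : x * s = a * (s * x) := swap
      have ax : Commute a x := aP x hx.1
      have as' : Commute a s := aP s hs.1
      let W : Subgroup V :=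
        { carrier := {w | T.θ a w = w}
          one_mem' := map_one _
          mul_mem' := fun {b c} hb hc => by simp_all
          inv_mem' := fun {b} hb => by simp_all }
      have hW : ∀ r ∈ T.P, ∀ w ∈ W, T.θ r w ∈ W := fun r hr w hw => by
        show T.θ a (T.θ r w) = T.θ r w
        rw [← T.apply_mul, (aP r hr).eq, T.apply_mul, show T.θ a w = w from hw]
      have hainv : ∀ w ∈ W, T.θ a⁻¹ w = w := fun w hw => by
        conv_lhs => rw [← show T.θ a w = w from hw]
        rw [← T.apply_mul, inv_mul_cancel, map_one]; rfl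
      have g₃ : x * s * a ∈ T.S := ⟨mul_mem (mul_mem hx.1 hs.1) (hmem hs.1), by
        rw [T.conj_mul, T.conj_mul, hx.2, hs.2, ad]
        refine eq_inv_of_mul_eq_one_right ?_
        calc x * s * a * (x⁻¹ * s⁻¹ * a) = x * s * (a * (x⁻¹ * s⁻¹)) * a := by group
          _ = x * s * ((x⁻¹ * s⁻¹) * a) * a := by rw [(ax.inv_right.mul_right as'.inv_right).eq]
          _ = a * a * a := by rw [ha, commutatorElement_def]; group
          _ = 1 := by rw [← a3]; simp [pow_succ, mul_assoc]⟩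
      have rel' : x⁻¹ * s = a⁻¹ * (s * x⁻¹) := by
        have : x⁻¹ * (x * s) * x⁻¹ = x⁻¹ * (a * (s * x)) * x⁻¹ := by rw [rel]
        rw [inv_mul_cancel_left] at this
        rw [this, ← mul_assoc x⁻¹ a, ← (ax.inv_right).eq]
        group
      have g₄ : x⁻¹ * s * a⁻¹ ∈ T.S :=
        ⟨mul_mem (mul_mem (inv_mem hx.1) hs.1) (inv_mem (hmem hs.1)), by
        rw [T.conj_mul, T.conj_mul, T.conj_inv, T.conj_inv, hx.2, hs.2, ad, inv_inv]
        refine eq_inv_of_mul_eq_one_right ?_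
        calc x⁻¹ * s * a⁻¹ * (x * s⁻¹ * a⁻¹)
            = x⁻¹ * s * (a⁻¹ * (x * s⁻¹)) * a⁻¹ := by group
          _ = x⁻¹ * s * ((x * s⁻¹) * a⁻¹) * a⁻¹ := by
              rw [(ax.inv_left.mul_right as'.inv_left.inv_right).eq]
          _ = a⁻¹ * a⁻¹ * a⁻¹ := by rw [rel']; group
          _ = 1 := by rw [← inv_one (G := X), ← a3]; simp [pow_succ, mul_assoc]⟩
      have ns : s ≠ 1 := fun h => hq1 (by rw [ha, h, commutatorElement_one_right])
      have nc : ∀ {g : X}, Commute x g → g = s → False := fun {g} hg e => hq1 (by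
        rw [ha, ← e]; exact commutatorElement_eq_one_iff_commute.2 hg)
      have n₃ : x * s * a ≠ 1 := fun h => nc (g := x⁻¹ * a⁻¹)
        ((Commute.refl x).inv_right.mul_right ax.symm.inv_right) (by
          rw [mul_assoc, (as'.symm).eq, ← mul_assoc] at h
          rw [← inv_inv s, ← eq_inv_of_mul_eq_one_left h, mul_inv_rev, (ax.inv_left.inv_right).eq])
      have n₄ : x⁻¹ * s * a⁻¹ ≠ 1 := fun h => nc (g := x * a)
        ((Commute.refl x).mul_right ax.symm) (by
          have e : s = x * (x⁻¹ * s * a⁻¹) * a := by group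
          rw [e, h, mul_one])
      refine T.fixed_pair W hx hs g₃ g₄ x1 ns n₃ n₄ (hW x hx.1) (hW s hs.1) ?_ ?_ ?_
      · intro w hw
        rw [← T.apply_mul, ← T.apply_mul, rel, T.apply_mul, T.apply_mul]
        exact hW s hs.1 _ (hW x hx.1 w hw)
      · intro w hw
        rw [T.apply_mul (x * s), show T.θ a w = w from hw, T.apply_mul]
      · intro w hw
        rw [T.apply_mul (x⁻¹ * s), hainv w hw, T.apply_mul]
        rw [← T.apply_mul x x,
          show x * x = x⁻¹ from eq_inv_of_mul_eq_one_left (by rw [← hx3]; simp [pow_succ])]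
    -- the grid of two independent commutators
    set b := ⁅x, p⁆ with hb
    have hzP : ∀ r ∈ T.P, Commute z r := hxZ y hy.1
    have hbP : ∀ r ∈ T.P, Commute b r := hxZ p hp
    let U : Subgroup V :=
      { carrier := {w | T.θ x w = w}
        one_mem' := map_one _
        mul_mem' := fun {c e} hc he => by simp_all
        inv_mem' := fun {c} hc => by simp_all }
    have e11 : ⁅x, y * p⁆ = z * b := hmul hy.1 hp
    have e21 : ⁅x, y * (y * p)⁆ = z * (z * b) := by rw [hmul hy.1 (mul_mem hy.1 hp), e11]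
    have hb1 : b ≠ 1 := fun h => hn (h ▸ one_mem _)
    have hzb : z * b ≠ 1 := fun h => hn (by
      rw [eq_inv_of_mul_eq_one_right h]; exact inv_mem (mem_zpowers z))
    have hzzb : z * (z * b) ≠ 1 := fun h => hn (by
      rw [← mul_assoc] at h
      rw [eq_inv_of_mul_eq_one_right h]
      exact inv_mem (mul_mem (mem_zpowers z) (mem_zpowers z)))
    refine grid T.two ⊤ U (T.θ z) (T.θ b) (fun w _ => T.cube_apply (hcube hy.1) w)
      (fun w _ => T.cube_apply (hcube hp) w)
      (fun w _ => by rw [← T.apply_mul, (hzP b (hmem hp)).eq, T.apply_mul])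
      (fun _ _ => mem_top _) (fun _ _ => mem_top _) (fun w _ h => hline hy.1 hz1 w h)
      (fun w _ h => hline hp hb1 w h) ?_ ?_ v (mem_top _)
    · intro w _ h
      refine hline (mul_mem hy.1 hp) (e11 ▸ hzb) w ?_
      rw [e11, T.apply_mul]; exact h
    · intro w _ h
      refine hline (mul_mem hy.1 (mul_mem hy.1 hp)) (e21 ▸ hzzb) w ?_
      rw [e21, T.apply_mul, T.apply_mul]; exact h
  have hy3 := T.cube _ hy.1 hy.2
  have zc : ∀ r ∈ T.P, Commute z r := hxZ y hy.1
  -- x and y generate P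
  set K := closure ({x, y} : Set X) with hK
  have xK : x ∈ K := subset_closure (by simp)
  have yK : y ∈ K := subset_closure (by simp)
  have zK : z ∈ K := by
    rw [hz, commutatorElement_def]
    exact mul_mem (mul_mem (mul_mem xK yK) (inv_mem xK)) (inv_mem yK)
  have hSK : ∀ s ∈ T.S, s ∈ K := by
    intro s hs
    obtain ⟨j, hj⟩ := mem_zpowers_iff.1 (himage hs.1)
    have hxyj : ⁅x, y ^ j⁆ = z ^ j := by
      let φ : T.P →* X :=
        { toFun := fun q => ⁅x, (q : X)⁆
          map_one' := commutatorElement_one_right x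
          map_mul' := fun q r => hmul q.2 r.2 }
      have := map_zpow φ ⟨y, hy.1⟩ j
      simpa [φ] using this
    -- remove the power of y
    set s' := s * (y ^ j)⁻¹ with hs'
    have hs'P : s' ∈ T.P := mul_mem hs.1 (inv_mem (zpow_mem hy.1 j))
    have hxs' : Commute x s' := by
      rw [← commutatorElement_eq_one_iff_commute]
      have := hmul hs'P (zpow_mem hy.1 j)
      rw [hs', inv_mul_cancel_right, hxyj, ← hj] at this
      rw [hs']
      exact mul_eq_right.1 this.symm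
    obtain ⟨t, c, ht, hc, hdc, e⟩ := T.split hs'P
    have hxt : Commute x t := by
      have : t = s' * c⁻¹ := by rw [e, mul_inv_cancel_right]
      rw [this]
      exact hxs'.mul_right (hfix0 hc hdc).inv_right
    obtain ⟨i, hi⟩ := mem_zpowers_iff.1 (T.mem_zpowers_of_commute hx ht x1 hxt)
    suffices hcK : c ∈ K by
      rw [show s = s' * y ^ j by rw [hs', inv_mul_cancel_right], e, ← hi]
      exact mul_mem (mul_mem (zpow_mem xK i) hcK) (zpow_mem yK j)
    have hsdec : s = t * c * y ^ j := by rw [← e, hs', inv_mul_cancel_right]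
    have hdy : T.d * y ^ j * T.d = (y ^ j)⁻¹ := by
      have h := conj_zpow (i := j) (a := T.d) (b := y)
      rw [T.dinv, hy.2] at h
      rw [← h, inv_zpow]
    set Y := y ^ j with hY
    have h0 : t⁻¹ * c * Y⁻¹ = Y⁻¹ * (c⁻¹ * t⁻¹) := by
      have := hs.2
      rw [hsdec, T.conj_mul, T.conj_mul, ht.2, hdc, hdy] at this
      rw [this]; group
    -- conjugation of c by Y
    set w := ⁅t, Y⁻¹⁆ with hw
    have hw' : ∀ r ∈ T.P, Commute w r := by
      have hcx : ∀ q ∈ T.P, ⁅x ^ i, q⁆ = ⁅x, q⁆ ^ i := by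
        intro q hq
        have e1 : q * x * q⁻¹ = (⁅x, q⁆)⁻¹ * x := by
          simp only [commutatorElement_def]; group
        have e2 := conj_zpow (i := i) (a := q) (b := x)
        rw [e1, (hxZ q hq x hx.1).inv_left.mul_zpow] at e2
        rw [commutatorElement_def, mul_assoc (x ^ i), mul_assoc (x ^ i)]
        rw [show q * (x ^ i)⁻¹ * q⁻¹ = (q * x ^ i * q⁻¹)⁻¹ by group, ← e2, mul_inv_rev,
          mul_inv_cancel_left, inv_zpow, inv_inv]
      have hxi : ⁅t, Y⁻¹⁆ ∈ zpowers z := by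
        rw [← hi, hcx _ (inv_mem (zpow_mem hy.1 j))]
        exact zpow_mem (himage (inv_mem (zpow_mem hy.1 j))) i
      intro r hr
      obtain ⟨l, hl⟩ := mem_zpowers_iff.1 hxi
      rw [hw, ← hl]
      exact (zc r hr).zpow_left l
    have hwK : w ∈ K := by
      rw [hw, commutatorElement_def, ← hi, hY]
      exact mul_mem (mul_mem (mul_mem (zpow_mem xK i) (inv_mem (zpow_mem yK j)))
        (inv_mem (zpow_mem xK i))) (inv_mem (inv_mem (zpow_mem yK j)))
    have hct : Commute c t := by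
      rw [← hi]; exact ((hfix0 hc hdc).symm).zpow_right i
    have h1 : Y * c * Y⁻¹ = w * c⁻¹ := by
      have e1 : c * Y⁻¹ = t * Y⁻¹ * t⁻¹ * c⁻¹ := by
        have := congrArg (fun r => t * r) h0
        simp only [← mul_assoc, mul_inv_cancel, one_mul] at this
        rw [this]
        simp only [mul_assoc, hct.inv_inv.eq]
      rw [mul_assoc, e1]
      rw [show Y * (t * Y⁻¹ * t⁻¹ * c⁻¹) = Y * (⁅t, Y⁻¹⁆ * Y⁻¹) * c⁻¹ by
        simp only [commutatorElement_def]; group, ← hw,
        ← mul_assoc, ← (hw' Y (zpow_mem hy.1 j)).eq, mul_inv_cancel_right]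
    have hwd : T.d * w * T.d = w := T.center_fixed hnab (by
      rw [hw, commutatorElement_def]
      exact mul_mem (mul_mem (mul_mem ht.1 (inv_mem (zpow_mem hy.1 j))) (inv_mem ht.1))
        (inv_mem (inv_mem (zpow_mem hy.1 j)))) hw'
    have h2 : Y⁻¹ * c * Y = w * c⁻¹ := by
      have := congrArg (fun r => T.d * r * T.d) h1
      simpa only [T.conj_mul, T.conj_inv, hdy, hdc, hwd, inv_inv] using this
    have h3 : Commute (Y * Y) c := by
      show Y * Y * c = c * (Y * Y)
      have h4 : Y⁻¹ * c * Y = Y * c * Y⁻¹ := h2.trans h1.symm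
      calc Y * Y * c = Y * (Y * c * Y⁻¹) * Y := by group
        _ = Y * (Y⁻¹ * c * Y) * Y := by rw [h4]
        _ = c * (Y * Y) := by group
    have hY3 : Y ^ 3 = 1 := by
      rw [hY, ← zpow_natCast, ← zpow_mul, mul_comm, zpow_mul, zpow_natCast, hy3, one_zpow]
    have h5 : Commute Y c := by
      have : Y⁻¹ = Y * Y := inv_eq_of_mul_eq_one_right (by rw [← hY3]; simp [pow_succ, mul_assoc])
      rw [← this] at h3
      simpa using h3.inv_left
    rw [h5.eq, mul_inv_cancel_right] at h1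
    refine mem_of_sq_mem (odd_orderOf T.pGroup hc) ?_
    have : c ^ 2 = w := by rw [pow_two]; nth_rw 1 [h1]; rw [inv_mul_cancel_right]
    rw [this]; exact hwK
  refine ⟨⟨x, y, z, T.d, hx3, hy3, hcube hy.1, T.dd, (zc x hx.1).symm, (zc y hy.1).symm, ?_, swap,
    hx.2, hy.2, hz1, ?_⟩⟩
  · have := hfixd hy.1
    show T.d * z = z * T.d
    calc T.d * z = T.d * z * T.d * T.d := by rw [mul_assoc (T.d * z), T.dd, mul_one]
      _ = z * T.d := by rw [show T.d * z * T.d = z from this]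
  · rw [eq_top_iff, ← T.top, sup_le_iff]
    constructor
    · exact (T.S_generates hSK).trans (closure_mono (by intro a; simp; tauto))
    · rw [zpowers_le]; exact subset_closure (by simp)

end Setting

namespace Data

variable {Y : Type*} [Group Y]

/-- A power with exponent in `ZMod 3`. -/
def pz (g : X) (i : ZMod 3) : X := g ^ i.val

theorem pz_add {g : X} (hg : g ^ 3 = 1) (i j : ZMod 3) : pz g (i + j) = pz g i * pz g j := by
  rw [pz, pz, pz, ← pow_add, ZMod.val_add]
  exact (pow_eq_pow_mod _ hg).symm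

theorem pz_zero (g : X) : pz g 0 = 1 := by simp [pz]

theorem pz_one (g : X) : pz g 1 = g := by simp [pz, ZMod.val_one]

theorem pz_neg {g : X} (hg : g ^ 3 = 1) (i : ZMod 3) : pz g (-i) = (pz g i)⁻¹ :=
  eq_inv_of_mul_eq_one_left (by rw [← pz_add hg, neg_add_cancel, pz_zero])

/-- The index set of normal forms. -/
abbrev Idx := ZMod 3 × ZMod 3 × ZMod 3 × Bool

/-- Sign of the last coordinate. -/
def sgn (l : Bool) (i : ZMod 3) : ZMod 3 := if l then -i else i

/-- The multiplication of normal forms. -/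
def mulIdx (a b : Idx) : Idx :=
  (a.1 + sgn a.2.2.2 b.1, a.2.1 + sgn a.2.2.2 b.2.1,
    a.2.2.1 + b.2.2.1 - a.2.1 * sgn a.2.2.2 b.1, Bool.xor a.2.2.2 b.2.2.2)

theorem mulIdx_injective (c : Idx) : Function.Injective (mulIdx c) := by
  rintro ⟨i, j, k, l⟩ ⟨i', j', k', l'⟩ h
  obtain ⟨a, b, e, f⟩ := c
  simp only [mulIdx, Prod.mk.injEq] at h ⊢
  obtain ⟨h1, h2, h3, h4⟩ := h
  cases f <;> cases l <;> cases l' <;> simp_all [sgn]

variable (D : Data X)

/-- Normal form. -/
def nf (a : Idx) : X :=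
  pz D.x a.1 * pz D.y a.2.1 * pz D.z a.2.2.1 * (if a.2.2.2 then D.d else 1)

theorem swap_y (j i : ZMod 3) :
    pz D.y j * pz D.x i = pz D.z (-(j * i)) * (pz D.x i * pz D.y j) := by
  have cz : ∀ k, Commute D.x (pz D.z k) := fun k => D.xz.pow_right _
  have cy : ∀ k, Commute D.y (pz D.z k) := fun k => D.yz.pow_right _
  have base : D.y * D.x = pz D.z (-1) * (D.x * D.y) := by
    rw [pz_neg D.hz, pz_one, D.rel, inv_mul_cancel_left]
  have one : ∀ n : ℕ, D.y ^ n * D.x = pz D.z (-(n : ZMod 3)) * (D.x * D.y ^ n) := by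
    intro n
    induction n with
    | zero => simp [pz_zero]
    | succ n ih =>
      rw [pow_succ', mul_assoc, ih, ← mul_assoc D.y, (cy _).eq, mul_assoc,
        ← mul_assoc D.y D.x, base, Nat.cast_succ, neg_add, pz_add D.hz]
      simp only [mul_assoc]
  have two : ∀ n m : ℕ, D.y ^ n * D.x ^ m =
      pz D.z (-((n : ZMod 3) * m)) * (D.x ^ m * D.y ^ n) := by
    intro n m
    induction m with
    | zero => simp [pz_zero]
    | succ m ih =>
      rw [pow_succ, ← mul_assoc, ih, mul_assoc, mul_assoc, one n, ← mul_assoc (D.x ^ m),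
        (((cz _).pow_left m)).eq, Nat.cast_succ, mul_add, mul_one, neg_add, pz_add D.hz]
      simp only [mul_assoc]
  have := two j.val i.val
  rwa [ZMod.natCast_zmod_val, ZMod.natCast_zmod_val] at this

theorem d_pz {g : X} (hg3 : g ^ 3 = 1) (hg : D.d * g * D.d = g⁻¹) (i : ZMod 3) :
    D.d * pz g i = pz g (-i) * D.d := by
  have di : D.d⁻¹ = D.d := inv_eq_of_mul_eq_one_left D.hd
  have h := conj_pow (i := i.val) (a := D.d) (b := g)
  rw [di, hg, inv_pow] at h
  rw [pz_neg hg3]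
  show D.d * g ^ i.val = (g ^ i.val)⁻¹ * D.d
  rw [h, mul_assoc, D.hd, mul_one]

theorem nf_mul (a b : Idx) : D.nf a * D.nf b = D.nf (mulIdx a b) := by
  obtain ⟨i, j, k, l⟩ := a
  obtain ⟨i', j', k', l'⟩ := b
  set e : Bool → X := fun b => if b then D.d else 1 with he
  have move : e l * (pz D.x i' * pz D.y j' * pz D.z k') =
      pz D.x (sgn l i') * pz D.y (sgn l j') * pz D.z k' * e l := by
    cases l
    · simp [he, sgn]
    · simp only [he, sgn, if_true]
      rw [← mul_assoc, ← mul_assoc, D.d_pz D.hx D.dx, mul_assoc (pz D.x (-i')),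
        D.d_pz D.hy D.dy, ← mul_assoc, mul_assoc (pz D.x (-i') * pz D.y (-j')),
        (show Commute D.d (pz D.z k') from D.dz.pow_right _).eq, ← mul_assoc]
  have ee : e l * e l' = e (Bool.xor l l') := by
    cases l <;> cases l' <;> simp [he, D.hd]
  show pz D.x i * pz D.y j * pz D.z k * e l * (pz D.x i' * pz D.y j' * pz D.z k' * e l') = _
  rw [mul_assoc _ (e l), ← mul_assoc (e l), move, mul_assoc _ (e l) (e l'), ee]
  show _ = pz D.x (i + sgn l i') * pz D.y (j + sgn l j') *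
    pz D.z (k + k' - j * sgn l i') * e (Bool.xor l l')
  rw [← mul_assoc _ _ (e _)]
  congr 1
  set I := sgn l i'
  set J := sgn l j'
  have cx : ∀ u v, Commute (pz D.z u) (pz D.x v) := fun u v => D.xz.symm.pow_pow _ _
  have cy : ∀ u v, Commute (pz D.z u) (pz D.y v) := fun u v => D.yz.symm.pow_pow _ _
  calc pz D.x i * pz D.y j * pz D.z k * (pz D.x I * pz D.y J * pz D.z k')
      = pz D.x i * (pz D.y j * (pz D.z k * pz D.x I) * pz D.y J) * pz D.z k' := by
        simp only [mul_assoc]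
    _ = pz D.x i * ((pz D.y j * pz D.x I) * (pz D.z k * pz D.y J)) * pz D.z k' := by
        rw [(cx k I).eq]; simp only [mul_assoc]
    _ = pz D.x i * ((pz D.x I * pz D.y j * pz D.z (-(j * I))) * (pz D.y J * pz D.z k)) *
          pz D.z k' := by
        rw [D.swap_y, ((cx _ I).mul_right (cy _ j)).eq, (cy k J).eq]
    _ = pz D.x i * pz D.x I * (pz D.y j * pz D.y J) *
          (pz D.z (-(j * I)) * pz D.z k * pz D.z k') := by
        rw [mul_assoc (pz D.x I * pz D.y j), ← mul_assoc (pz D.z _) (pz D.y J), (cy _ J).eq]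
        simp only [mul_assoc]
    _ = _ := by
        rw [← pz_add D.hx, ← pz_add D.hy, ← pz_add D.hz, ← pz_add D.hz,
          show -(j * I) + k + k' = k + k' - j * I by ring]

theorem nf_x : D.nf (1, 0, 0, false) = D.x := by simp [nf, pz_zero, pz_one]

theorem nf_y : D.nf (0, 1, 0, false) = D.y := by simp [nf, pz_zero, pz_one]

theorem nf_d : D.nf (0, 0, 0, true) = D.d := by simp [nf, pz_zero]

theorem nf_one : D.nf (0, 0, 0, false) = 1 := by simp [nf, pz_zero]

theorem pz_z_inj {k k' : ZMod 3} (h : pz D.z k = pz D.z k') : k = k' := by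
  have hm : pz D.z (k - k') = 1 := by
    rw [sub_eq_add_neg, pz_add D.hz, pz_neg D.hz, h, mul_inv_cancel]
  have h3 := orderOf_eq_prime (p := 3) (hp := ⟨Nat.prime_three⟩) D.hz D.ne
  have hd : orderOf D.z ∣ (k - k').val := orderOf_dvd_of_pow_eq_one hm
  rw [h3] at hd
  exact sub_eq_zero.1 ((ZMod.val_eq_zero _).1 (Nat.eq_zero_of_dvd_of_lt hd (ZMod.val_lt _)))

theorem nf_injective : Function.Injective D.nf := by
  have inv : ∀ a : Idx, ∃ b : Idx, mulIdx b a = (0, 0, 0, false) := by decide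
  have key : ∀ a, D.nf a = 1 → a = (0, 0, 0, false) := by
    rintro ⟨i, j, k, l⟩ h
    have comm : ∀ b : Idx, D.nf (mulIdx (i, j, k, l) b) = D.nf (mulIdx b (i, j, k, l)) :=
      fun b => by rw [← D.nf_mul, ← D.nf_mul, h, one_mul, mul_one]
    have ey := comm (0, 1, 0, false)
    cases l
    · have ex := comm (1, 0, 0, false)
      simp only [nf, mulIdx, sgn, Bool.false_eq_true, if_false, Bool.xor_false, mul_one, mul_zero,
        add_zero, zero_add, sub_zero, one_mul] at ex ey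
      rw [add_comm 1 i, zero_mul, sub_zero] at ex
      rw [add_comm 1 j] at ey
      have hi := D.pz_z_inj (mul_left_cancel ey)
      have hj := D.pz_z_inj (mul_left_cancel ex)
      have i0 : i = 0 := by linear_combination hi
      have j0 : j = 0 := by linear_combination -hj
      subst i0 j0
      have h' : pz D.z k = pz D.z 0 := by
        rw [pz_zero]; simpa [nf, pz_zero] using h
      rw [D.pz_z_inj h']
    · exfalso
      simp only [nf, mulIdx, sgn, if_true, Bool.xor_false, Bool.false_xor, neg_zero, mul_zero,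
        add_zero, zero_add, sub_zero, one_mul, if_false, Bool.false_eq_true] at ey
      have e1 := mul_right_cancel ey
      rw [show 1 + j = j + -1 + 2 by ring, pz_add D.hy (j + -1)] at e1
      simp only [mul_assoc] at e1
      have e2 := mul_left_cancel (mul_left_cancel e1)
      rw [sub_eq_add_neg, pz_add D.hz, ← mul_assoc,
        (show Commute (pz D.y 2) (pz D.z k) from D.yz.pow_pow _ _).eq, mul_assoc] at e2
      have e3 : pz D.y 2 = pz D.z i := by
        have := mul_eq_left.1 e2.symm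
        rwa [pz_neg D.hz, mul_inv_eq_one] at this
      have hy : D.y = pz D.z i * pz D.z i := by
        rw [← e3, ← pz_add D.hy, show (2 : ZMod 3) + 2 = 1 by decide, pz_one]
      have hc : Commute D.x D.y := by
        rw [hy]; exact (D.xz.pow_right i.val).mul_right (D.xz.pow_right i.val)
      apply D.ne
      have := D.rel
      rw [hc.eq] at this
      exact mul_eq_right.1 this.symm
  intro a b hab
  obtain ⟨c, hc⟩ := inv a
  have h1 : D.nf (mulIdx c b) = 1 := by rw [← D.nf_mul, ← hab, D.nf_mul, hc, D.nf_one]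
  exact mulIdx_injective c (hc.trans (key _ h1).symm)

theorem nf_surjective : Function.Surjective D.nf := by
  have inv : ∀ a : Idx, ∃ b : Idx, mulIdx a b = (0, 0, 0, false) := by decide
  let K : Subgroup X :=
    { carrier := Set.range D.nf
      one_mem' := ⟨_, D.nf_one⟩
      mul_mem' := by rintro _ _ ⟨a, rfl⟩ ⟨b, rfl⟩; exact ⟨_, (D.nf_mul a b).symm⟩
      inv_mem' := by
        rintro _ ⟨a, rfl⟩
        obtain ⟨b, hb⟩ := inv a
        exact ⟨b, eq_inv_of_mul_eq_one_right (by rw [D.nf_mul, hb, D.nf_one])⟩ }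
  have hK : K = ⊤ := top_le_iff.1 (D.gen ▸ (closure_le _).2 (by
    intro g hg
    simp only [Set.mem_insert_iff, Set.mem_singleton_iff] at hg
    rcases hg with rfl | rfl | rfl
    exacts [⟨_, D.nf_x⟩, ⟨_, D.nf_y⟩, ⟨_, D.nf_d⟩]))
  intro g
  exact (hK ▸ mem_top g : g ∈ K)

theorem nonempty_mulEquiv (D : Data X) (E : Data Y) : Nonempty (X ≃* Y) := by
  let eD := Equiv.ofBijective D.nf ⟨D.nf_injective, D.nf_surjective⟩
  let eE := Equiv.ofBijective E.nf ⟨E.nf_injective, E.nf_surjective⟩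
  refine ⟨{ (eD.symm.trans eE) with map_mul' := fun a b => ?_ }⟩
  obtain ⟨a, rfl⟩ := eD.surjective a
  obtain ⟨b, rfl⟩ := eD.surjective b
  have : eD a * eD b = eD (mulIdx a b) := D.nf_mul a b
  simp only [Equiv.toFun_as_coe, Equiv.trans_apply, this, Equiv.symm_apply_apply]
  exact (E.nf_mul a b).symm

end Data

/-- A nonabelian group of order six. -/
theorem nonempty_perm_three [Finite X] (hcard : Nat.card X = 6) {x d : X} (hdd : d * d = 1)
    (hd : d ≠ 1) (hdx : ¬ Commute d x) : Nonempty (X ≃* Equiv.Perm (Fin 3)) := by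
  haveI : Fact (Nat.Prime 2) := ⟨Nat.prime_two⟩
  set K := zpowers d with hK
  have hK2 : Nat.card K = 2 := by
    rw [hK, Nat.card_zpowers]
    exact orderOf_eq_prime (by rw [pow_two]; exact hdd) hd
  have hidx : K.index = 3 := by
    have := K.card_mul_index
    rw [hK2, hcard] at this; omega
  let f := MulAction.toPermHom X (X ⧸ K)
  have hinj : Function.Injective f := by
    rw [← MonoidHom.ker_eq_bot_iff, ← normalCore_eq_ker, eq_bot_iff]
    intro g hg
    have hgK : g ∈ K := normalCore_le K hg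
    obtain ⟨n, rfl⟩ := mem_zpowers_iff.1 hgK
    rcases Int.even_or_odd n with ⟨m, rfl⟩ | ⟨m, rfl⟩
    · rw [mem_bot, zpow_add, ← (Commute.refl d).mul_zpow, hdd, one_zpow]
    exfalso
    have e : d ^ (2 * m + 1) = d := by
      rw [zpow_add_one, zpow_mul, zpow_ofNat, pow_two, hdd, one_zpow, one_mul]
    rw [e] at hg
    apply hdx
    have hc : x * d * x⁻¹ ∈ K := hg x
    obtain ⟨k, hk⟩ := mem_zpowers_iff.1 hc
    rcases Int.even_or_odd k with ⟨m', rfl⟩ | ⟨m', rfl⟩
    · rw [zpow_add, ← (Commute.refl d).mul_zpow, hdd, one_zpow] at hk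
      exact absurd (mul_inv_eq_one.1 hk.symm) (by simpa using hd)
    · rw [zpow_add_one, zpow_mul, zpow_ofNat, pow_two, hdd, one_zpow, one_mul] at hk
      exact (mul_inv_eq_iff_eq_mul.1 hk.symm).symm
  have h3 : Nat.card (X ⧸ K) = 3 := hidx
  let e3 : X ⧸ K ≃ Fin 3 := (Finite.equivFin _).trans (finCongr h3)
  have hbij : Function.Bijective f := by
    refine (Nat.bijective_iff_injective_and_card f).2 ⟨hinj, ?_⟩
    rw [hcard, Nat.card_perm, h3]; rfl
  exact ⟨(MulEquiv.ofBijective f hbij).trans e3.permCongrHom⟩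

end Cfsg.Agent.TwoThreeTwo65
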