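import Cfsg.Agent.Lib.UnitaryF4Geo
import Cfsg.Agent.Lib.SU3TwoHeisEmbed
import Cfsg.Agent.Lib.TwoThreeTwo65

/-!
The derived group of `SU(3, 2)` is `3^{1+2}:2`, the monomial matrices.
-/

set_option autoImplicit false
set_option linter.all false
set_option maxHeartbeats 4000000

namespace Cfsg.Agent.SU3TwoDerived65

open Cfsg.Agent.UnitaryF4Geo Matrix
open scoped commutatorElement

variable {F : Type} [Field F] [Fintype F] [hF : FourField F]

/-- The special unitary group. -/
abbrev SU32 (F : Type) [Field F] : Type := ↥(Cfsg.SU 3 F 2)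

/-- The matrix of an element. -/
def mat (g : (SU32 F)) : Matrix (Fin 3) (Fin 3) F := Cfsg.slToMat 3 F g.1

omit [Fintype F] hF in
theorem mat_mul (g k : (SU32 F)) : mat (g * k) = mat g * mat k := by
  rw [mat, mat, mat, Subgroup.coe_mul, map_mul]

omit [Fintype F] hF in
theorem mat_one : mat (1 : (SU32 F)) = 1 := by rw [mat, OneMemClass.coe_one, map_one]

omit [Fintype F] hF in
theorem mat_ext {g k : (SU32 F)} (e : mat g = mat k) : g = k :=
  Subtype.ext (Subtype.ext e)

theorem preserves (M : Matrix (Fin 3) (Fin 3) F)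
    (e : ∀ i j, M 0 i * M 0 j ^ 2 + M 1 i * M 1 j ^ 2 + M 2 i * M 2 j ^ 2 = if i = j then 1 else 0)
    (u v : Fin 3 → F) : Cfsg.hermForm 3 F 2 (M *ᵥ u) (M *ᵥ v) = Cfsg.hermForm 3 F 2 u v := by
  simp only [Cfsg.hermForm, Matrix.mulVec, dotProduct, Fin.sum_univ_three, sq_add, mul_pow]
  have e00 := e 0 0; have e01 := e 0 1; have e02 := e 0 2
  have e10 := e 1 0; have e11 := e 1 1; have e12 := e 1 2
  have e20 := e 2 0; have e21 := e 2 1; have e22 := e 2 2
  simp at e00 e01 e02 e10 e11 e12 e20 e21 e22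
  linear_combination u 0 * v 0 ^ 2 * e00 + u 0 * v 1 ^ 2 * e01 + u 0 * v 2 ^ 2 * e02 +
    u 1 * v 0 ^ 2 * e10 + u 1 * v 1 ^ 2 * e11 + u 1 * v 2 ^ 2 * e12 +
    u 2 * v 0 ^ 2 * e20 + u 2 * v 1 ^ 2 * e21 + u 2 * v 2 ^ 2 * e22

omit [Fintype F] hF in
theorem exists_el (M : Matrix (Fin 3) (Fin 3) F) (hd : M.det = 1)
    (hp : ∀ u v, Cfsg.hermForm 3 F 2 (M *ᵥ u) (M *ᵥ v) = Cfsg.hermForm 3 F 2 u v) :
    ∃ g : (SU32 F), mat g = M :=
  ⟨⟨⟨M, hd⟩, hp⟩, rfl⟩

/-- Monomial elements: basis vectors go to multiples of basis vectors. -/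
def Mon (g : (SU32 F)) : Prop :=
  ∀ i : Fin 3, ∃ (j : Fin 3) (c : F), mat g *ᵥ Pi.single i 1 = c • Pi.single j 1

omit [Fintype F] hF in
theorem Mon.mul {g k : (SU32 F)} (hg : Mon g) (hk : Mon k) : Mon (g * k) := by
  intro i
  obtain ⟨j, c, e⟩ := hk i
  obtain ⟨l, c', e'⟩ := hg j
  exact ⟨l, c * c', by rw [mat_mul, ← Matrix.mulVec_mulVec, e, Matrix.mulVec_smul, e', smul_smul]⟩

omit [Fintype F] hF in
theorem not_mon_of {g : (SU32 F)} (h0 : mat g 0 0 ≠ 0) (h1 : mat g 1 0 ≠ 0) : ¬ Mon g := by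
  intro h
  obtain ⟨j, c, e⟩ := h 0
  have e0 := congrFun e 0
  have e1 := congrFun e 1
  simp at e0 e1
  fin_cases j <;> simp_all

theorem exists_derived_data :
    Nonempty (TwoThreeTwo65.Data ↥(commutator (SU32 F))) := by
  classical
  obtain ⟨w, hw⟩ := exists_omega (F := F)
  have two : (2 : F) = 0 := two_eq_zero
  have hw3 : w ^ 3 = 1 := cube (omega_ne hw).1
  let MX : Matrix (Fin 3) (Fin 3) F := !![1, 0, 0; 0, w, 0; 0, 0, w ^ 2]
  let MY : Matrix (Fin 3) (Fin 3) F := !![0, 1, 0; 0, 0, 1; 1, 0, 0]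
  let MD : Matrix (Fin 3) (Fin 3) F := !![1, 0, 0; 0, 0, 1; 0, 1, 0]
  let MA : Matrix (Fin 3) (Fin 3) F := !![1, 1, 1; 1, w, w ^ 2; 1, w ^ 2, w]
  let MB : Matrix (Fin 3) (Fin 3) F := !![1, 1, w ^ 2; 1, w, w; w, 1, w]
  have h2 : w ^ 2 = w + 1 := hw
  have h4 : w ^ 4 = w := pow_four w
  have hm1 : (-1 : F) = 1 := neg_eq 1
  obtain ⟨x, hx⟩ := exists_el MX (by
      simp [MX, Matrix.det_fin_three]; linear_combination hw3)
    (preserves MX (by intro i j; fin_cases i <;> fin_cases j <;> simp [MX] <;> (clear * - two h2 hw3; grind)))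
  obtain ⟨y, hy⟩ := exists_el MY (by simp [MY, Matrix.det_fin_three])
    (preserves MY (by intro i j; fin_cases i <;> fin_cases j <;> simp [MY]))
  obtain ⟨d, hd⟩ := exists_el MD (by simp [MD, Matrix.det_fin_three, hm1])
    (preserves MD (by intro i j; fin_cases i <;> fin_cases j <;> simp [MD]))
  obtain ⟨a, ha⟩ := exists_el MA (by simp [MA, Matrix.det_fin_three]; grind)
    (preserves MA (by intro i j; fin_cases i <;> fin_cases j <;> simp [MA] <;> (clear * - two h2 hw3; grind)))
  obtain ⟨b, hb⟩ := exists_el MB (by simp [MB, Matrix.det_fin_three]; grind)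
    (preserves MB (by intro i j; fin_cases i <;> fin_cases j <;> simp [MB] <;> (clear * - two h2 hw3; grind)))
  -- the relations
  have x3 : x ^ 3 = 1 := mat_ext (by
    rw [pow_succ, pow_two, mat_mul, mat_mul, hx, mat_one]
    ext i j; fin_cases i <;> fin_cases j <;> simp [MX, Matrix.mul_apply, Fin.sum_univ_three] <;>
      (clear * - two h2 hw3; grind))
  have y3 : y ^ 3 = 1 := mat_ext (by
    rw [pow_succ, pow_two, mat_mul, mat_mul, hy, mat_one]
    ext i j; fin_cases i <;> fin_cases j <;> simp [MY, Matrix.mul_apply, Fin.sum_univ_three])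
  have dd : d * d = 1 := mat_ext (by
    rw [mat_mul, hd, mat_one]
    ext i j; fin_cases i <;> fin_cases j <;> simp [MD, Matrix.mul_apply, Fin.sum_univ_three])
  have xi : x⁻¹ = x * x := inv_eq_of_mul_eq_one_left (by rw [← x3]; simp [pow_succ, mul_assoc])
  have yi : y⁻¹ = y * y := inv_eq_of_mul_eq_one_left (by rw [← y3]; simp [pow_succ, mul_assoc])
  have dx : d * x * d = x⁻¹ := mat_ext (by
    rw [xi, mat_mul, mat_mul, mat_mul, hd, hx]
    ext i j; fin_cases i <;> fin_cases j <;>
      simp [MX, MD, Matrix.mul_apply, Fin.sum_univ_three] <;> (clear * - two h2 hw3; grind))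
  have dy : d * y * d = y⁻¹ := mat_ext (by
    rw [yi, mat_mul, mat_mul, mat_mul, hd, hy]
    ext i j; fin_cases i <;> fin_cases j <;>
      simp [MY, MD, Matrix.mul_apply, Fin.sum_univ_three] <;> (clear * - two h2 hw3; grind))
  obtain ⟨z, hz⟩ : ∃ z, z = x * y * x⁻¹ * y⁻¹ := ⟨_, rfl⟩
  have hzm : mat z = w ^ 2 • (1 : Matrix (Fin 3) (Fin 3) F) := by
    rw [hz, xi, yi]
    simp only [mat_mul, hx, hy]
    ext i j; fin_cases i <;> fin_cases j <;>
      simp [MX, MY, Matrix.mul_apply, Fin.sum_univ_three] <;> (clear * - two h2 hw3; grind)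
  have zc : ∀ g : (SU32 F), Commute g z := fun g => mat_ext (by
    rw [mat_mul, mat_mul, hzm, Matrix.smul_mul, Matrix.mul_smul, one_mul, mul_one])
  have z3 : z ^ 3 = 1 := mat_ext (by
    rw [pow_succ, pow_two, mat_mul, mat_mul, hzm, mat_one]
    simp only [Matrix.smul_mul, one_mul, smul_smul]
    rw [show w ^ 2 * w ^ 2 * w ^ 2 = (w ^ 3) ^ 2 by ring, hw3, one_pow, one_smul])
  have zne : z ≠ 1 := fun h => by
    have := congrFun (congrFun (hzm.symm.trans ((congrArg mat h).trans mat_one)) 0) 0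
    simp at this
    rcases this with h | h
    · exact (omega_ne hw).2 h
    · exact (omega_ne hw).2 (by grind)
  -- the monomial group
  set K := Subgroup.closure ({x, y, d} : Set (SU32 F)) with hK
  have xK : x ∈ K := Subgroup.subset_closure (by simp)
  have yK : y ∈ K := Subgroup.subset_closure (by simp)
  have dK : d ∈ K := Subgroup.subset_closure (by simp)
  have zK : z ∈ K := hz ▸ mul_mem (mul_mem (mul_mem xK yK) (inv_mem xK)) (inv_mem yK)
  let DK : TwoThreeTwo65.Data K :=
    { x := ⟨x, xK⟩, y := ⟨y, yK⟩, z := ⟨z, zK⟩, d := ⟨d, dK⟩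
      hx := Subtype.ext x3, hy := Subtype.ext y3, hz := Subtype.ext z3, hd := Subtype.ext dd
      xz := Subtype.ext (zc x), yz := Subtype.ext (zc y), dz := Subtype.ext (zc d)
      rel := Subtype.ext (show x * y = z * (y * x) by rw [hz]; group)
      dx := Subtype.ext dx, dy := Subtype.ext dy
      ne := fun h => zne (congrArg Subtype.val h)
      gen := by
        rw [eq_top_iff]
        rintro ⟨g, hg⟩ -
        suffices h : g ∈ (Subgroup.closure
            ({⟨x, xK⟩, ⟨y, yK⟩, ⟨d, dK⟩} : Set K)).map K.subtype by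
          obtain ⟨g', hg', rfl⟩ := h
          exact hg'
        refine (Subgroup.closure_le _).2 ?_ hg
        intro g hg'
        simp only [Set.mem_insert_iff, Set.mem_singleton_iff] at hg'
        rcases hg' with rfl | rfl | rfl <;>
          exact ⟨⟨_, Subgroup.subset_closure (by simp [*])⟩,
            Subgroup.subset_closure (by simp), rfl⟩ }
  have hcardK : Nat.card K = 54 := by
    rw [← Nat.card_eq_of_bijective DK.nf ⟨DK.nf_injective, DK.nf_surjective⟩]
    simp
  have hcard : Nat.card (SU32 F) = 216 := by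
    rw [SU3TwoHeisEmbed.card_SU_three (by rw [hF.card_eq]; rfl)]; rfl
  have hmon : ∀ g ∈ K, Mon g := by
    intro g hg
    rw [← Subgroup.mem_toSubmonoid, hK, Subgroup.closure_toSubmonoid_of_finite] at hg
    induction hg using Submonoid.closure_induction with
    | mem g hg =>
      simp only [Set.mem_insert_iff, Set.mem_singleton_iff] at hg
      rcases hg with rfl | rfl | rfl <;> intro i <;> fin_cases i
      · exact ⟨0, 1, by rw [hx]; funext k; fin_cases k <;> simp [MX]⟩
      · exact ⟨1, w, by rw [hx]; funext k; fin_cases k <;> simp [MX]⟩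
      · exact ⟨2, w ^ 2, by rw [hx]; funext k; fin_cases k <;> simp [MX]⟩
      · exact ⟨2, 1, by rw [hy]; funext k; fin_cases k <;> simp [MY]⟩
      · exact ⟨0, 1, by rw [hy]; funext k; fin_cases k <;> simp [MY]⟩
      · exact ⟨1, 1, by rw [hy]; funext k; fin_cases k <;> simp [MY]⟩
      · exact ⟨0, 1, by rw [hd]; funext k; fin_cases k <;> simp [MD]⟩
      · exact ⟨2, 1, by rw [hd]; funext k; fin_cases k <;> simp [MD]⟩
      · exact ⟨1, 1, by rw [hd]; funext k; fin_cases k <;> simp [MD]⟩
    | one => exact fun i => ⟨i, 1, by rw [mat_one, Matrix.one_mulVec, one_smul]⟩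
    | mul g k _ _ hg hk => exact hg.mul hk
  have hw0 : w ≠ 0 := (omega_ne hw).1
  have aK : a ∉ K := fun h => not_mon_of (by simp [ha, MA]) (by simp [ha, MA]) (hmon a h)
  have bK : b ∉ K := fun h => not_mon_of (by simp [hb, MB]) (by simp [hb, MB]) (hmon b h)
  have abK : b * a ∉ K := fun h => not_mon_of
    (by simp [mat_mul, ha, hb, MA, MB, Matrix.mul_apply, Fin.sum_univ_three]; (clear * - two h2 hw3 hw0; grind))
    (by simp [mat_mul, ha, hb, MA, MB, Matrix.mul_apply, Fin.sum_univ_three]; (clear * - two h2 hw3 hw0; grind))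
    (hmon _ h)
  have aa : a * a = d := mat_ext (by
    rw [mat_mul, ha, hd]
    ext i j; fin_cases i <;> fin_cases j <;>
      simp [MA, MD, Matrix.mul_apply, Fin.sum_univ_three] <;> (clear * - two h2 hw3; grind))
  have ax : a * x = y * a := mat_ext (by
    rw [mat_mul, mat_mul, ha, hx, hy]
    ext i j; fin_cases i <;> fin_cases j <;>
      simp [MA, MX, MY, Matrix.mul_apply, Fin.sum_univ_three] <;> (clear * - two h2 hw3; grind))
  have ay : a * y = x⁻¹ * a := mat_ext (by
    rw [xi, mat_mul, mat_mul, mat_mul, ha, hx, hy]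
    ext i j; fin_cases i <;> fin_cases j <;>
      simp [MA, MX, MY, Matrix.mul_apply, Fin.sum_univ_three] <;> (clear * - two h2 hw3; grind))
  have bx : b * x = x⁻¹ * y * b := mat_ext (by
    rw [xi, mat_mul, mat_mul, mat_mul, mat_mul, hb, hx, hy]
    ext i j; fin_cases i <;> fin_cases j <;>
      simp [MB, MX, MY, Matrix.mul_apply, Fin.sum_univ_three] <;> (clear * - two h2 hw3; grind))
  have bxy : b * (x⁻¹ * y) = x⁻¹ * b := mat_ext (by
    rw [xi]; simp only [mat_mul, hb, hx, hy]
    ext i j; fin_cases i <;> fin_cases j <;>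
      simp [MB, MX, MY, Matrix.mul_apply, Fin.sum_univ_three] <;> (clear * - two h2 hw3; grind))
  have bxd : b * (x⁻¹ * d) = x⁻¹ * d * b := mat_ext (by
    rw [xi]; simp only [mat_mul, hb, hx, hd]
    ext i j; fin_cases i <;> fin_cases j <;>
      simp [MB, MX, MD, Matrix.mul_apply, Fin.sum_univ_three] <;> (clear * - two h2 hw3; grind))
  set R := Subgroup.normalizer (K : Set (SU32 F)) with hR
  have hnorm : ∀ g : (SU32 F), g * x * g⁻¹ ∈ K → g * y * g⁻¹ ∈ K → g * d * g⁻¹ ∈ K → g ∈ R := by
    intro g h1 h2 h3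
    have hle : K.map (MulAut.conj g).toMonoidHom ≤ K := by
      rw [Subgroup.map_le_iff_le_comap, hK, Subgroup.closure_le, ← hK]
      intro k hk
      simp only [Set.mem_insert_iff, Set.mem_singleton_iff] at hk
      rcases hk with rfl | rfl | rfl <;> simpa using ‹_›
    have heq : K.map (MulAut.conj g).toMonoidHom = K :=
      Subgroup.eq_of_le_of_card_ge hle (Nat.le_of_eq
        (Subgroup.card_map_of_injective (MulAut.conj g).injective).symm)
    rw [hR, Subgroup.mem_normalizer_iff]
    intro k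
    constructor
    · intro hk; exact hle ⟨k, hk, by simp⟩
    · intro hk
      rw [← heq] at hk
      obtain ⟨k', hk', e⟩ := hk
      simp at e
      rwa [← e]
  have aR : a ∈ R := by
    refine hnorm a ?_ ?_ ?_
    · rw [ax, mul_inv_cancel_right]; exact yK
    · rw [ay, mul_inv_cancel_right]; exact inv_mem xK
    · rw [← aa, show a * (a * a) * a⁻¹ = a * a by group, aa]; exact dK
  have bR : b ∈ R := by
    have c1 : b * x * b⁻¹ ∈ K := by
      rw [bx, mul_inv_cancel_right]; exact mul_mem (inv_mem xK) yK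
    have c2 : b * (x⁻¹ * y) * b⁻¹ ∈ K := by
      rw [bxy, mul_inv_cancel_right]; exact inv_mem xK
    have c3 : b * (x⁻¹ * d) * b⁻¹ ∈ K := by
      rw [bxd, mul_inv_cancel_right]; exact mul_mem (inv_mem xK) dK
    refine hnorm b c1 ?_ ?_
    · have := mul_mem c1 c2
      rwa [show b * x * b⁻¹ * (b * (x⁻¹ * y) * b⁻¹) = b * y * b⁻¹ by group] at this
    · have := mul_mem c1 c3
      rwa [show b * x * b⁻¹ * (b * (x⁻¹ * d) * b⁻¹) = b * d * b⁻¹ by group] at this
  have hKR : K ≤ R := Subgroup.le_normalizer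
  have hRtop : R = ⊤ := by
    have h1 := Subgroup.card_subgroup_dvd_card R
    rw [hcard] at h1
    -- the subgroup generated by K and a
    let L : Subgroup (SU32 F) :=
      { carrier := {g | g ∈ K ∨ g * a ∈ K}
        one_mem' := Or.inl (one_mem K)
        mul_mem' := by
          have hsw : ∀ k ∈ K, a * k * a⁻¹ ∈ K := fun k hk =>
            (Subgroup.mem_normalizer_iff.1 aR k).1 hk
          have hws : ∀ k ∈ K, a⁻¹ * k * a ∈ K := fun k hk => by
            have := (Subgroup.mem_normalizer_iff.1 (inv_mem aR) k).1 hk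
            rwa [inv_inv] at this
          rintro g k (hg | hg) (hk | hk)
          · exact Or.inl (mul_mem hg hk)
          · exact Or.inr (by rw [mul_assoc]; exact mul_mem hg hk)
          · refine Or.inr ?_
            have := mul_mem hg (hws k hk)
            rwa [show g * a * (a⁻¹ * k * a) = g * k * a by group] at this
          · refine Or.inl ?_
            have := mul_mem hg (mul_mem (hws _ hk) (inv_mem dK))
            rwa [← aa, show g * a * (a⁻¹ * (k * a) * a * (a * a)⁻¹) = g * k by group] at this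
        inv_mem' := by
          rintro g (hg | hg)
          · exact Or.inl (inv_mem hg)
          · refine Or.inr ?_
            have := (Subgroup.mem_normalizer_iff.1 aR _).1 (mul_mem (inv_mem hg) dK)
            rwa [← aa, show a * ((g * a)⁻¹ * (a * a)) * a⁻¹ = g⁻¹ * a by group] at this }
    have aL : a ∈ L := Or.inr (by rw [aa]; exact dK)
    have bL : b ∉ L := by rintro (h | h); exacts [bK h, abK h]
    have hKL : K < L := lt_of_le_of_ne (fun g hg => Or.inl hg) (fun h => aK (h.symm ▸ aL))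
    have hLR : L < R := by
      refine lt_of_le_of_ne (fun g hg => ?_) (fun h => bL (h ▸ bR))
      rcases hg with hg | hg
      · exact hKR hg
      · have := mul_mem (hKR hg) (inv_mem aR)
        rwa [mul_inv_cancel_right] at this
    have d1 := Subgroup.card_dvd_of_le hKL.le
    have d2 := Subgroup.card_dvd_of_le hLR.le
    have l1 : Nat.card K < Nat.card L := by
      by_contra h
      exact hKL.ne (Subgroup.eq_of_le_of_card_ge hKL.le (not_lt.1 h))
    have l2 : Nat.card L < Nat.card R := by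
      by_contra h
      exact hLR.ne (Subgroup.eq_of_le_of_card_ge hLR.le (not_lt.1 h))
    refine Subgroup.eq_top_of_card_eq _ ?_
    rw [hcard]
    rw [hcardK] at d1 l1
    obtain ⟨m, hm⟩ := d1
    obtain ⟨n, hn⟩ := d2
    have hle := Nat.le_of_dvd (by norm_num) h1
    rw [hm] at hn l1 l2
    have hm2 : 2 ≤ m := by omega
    have hn2 : 2 ≤ n := by
      by_contra hlt
      interval_cases n <;> omega
    nlinarith
  haveI hKn : K.Normal := Subgroup.normalizer_eq_top_iff.1 hRtop
  have hidx : K.index = 2 ^ 2 := by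
    have := K.card_mul_index
    rw [hcardK, hcard] at this; omega
  haveI : Fact (Nat.Prime 2) := ⟨Nat.prime_two⟩
  have hquot : ∀ p q : (SU32 F) ⧸ K, p * q = q * p := by
    haveI := IsPGroup.commGroupOfCardEqPrimeSq (p := 2) (G := (SU32 F) ⧸ K) hidx
    intro p q
    exact (IsPGroup.isMulCommutative_of_card_eq_prime_sq (p := 2) hidx).is_comm.comm p q
  have hle : commutator (SU32 F) ≤ K := by
    rw [commutator_def, Subgroup.commutator_le]
    intro g _ k _
    rw [← QuotientGroup.eq_one_iff, ← QuotientGroup.mk'_apply, map_commutatorElement,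
      commutatorElement_eq_one_iff_mul_comm]
    exact hquot _ _
  have mem : ∀ g k : (SU32 F), g * k * g⁻¹ * k⁻¹ ∈ commutator (SU32 F) := fun g k =>
    Subgroup.commutator_mem_commutator (Subgroup.mem_top g) (Subgroup.mem_top k)
  have di : d⁻¹ = d := inv_eq_of_mul_eq_one_left dd
  have xC : x ∈ commutator (SU32 F) := by
    have := mem d x
    rwa [di, dx, xi, show x * x * (x * x) = x ^ 3 * x by simp [pow_succ, mul_assoc], x3,
      one_mul] at this
  have yC : y ∈ commutator (SU32 F) := by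
    have := mem d y
    rwa [di, dy, yi, show y * y * (y * y) = y ^ 3 * y by simp [pow_succ, mul_assoc], y3,
      one_mul] at this
  have zC : z ∈ commutator (SU32 F) := hz ▸ mem x y
  -- a Sylow 2-subgroup is nonabelian
  obtain ⟨_, σ, hinv, hσ, -, -, -, hiso, -⟩ :=
    SU3TwoHeisEmbed.exists_model (F := F) (n := 1) le_rfl (by rw [hF.card_eq]; rfl)
  let P : Sylow 2 (SU32 F) := default
  obtain ⟨e⟩ := hiso P
  have hσw : σ w = w ^ 2 := hσ w
  let p' : SU3TwoHeis.HU σ := ⟨(1, w), by
    show w + σ w = 1 * σ 1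
    rw [map_one, one_mul, hσw]; grind⟩
  let q' : SU3TwoHeis.HU σ := ⟨(w, w), by
    show w + σ w = w * σ w
    rw [hσw]; grind⟩
  have hpq : ¬ Commute p' q' := fun h => by
    have := (SU3TwoHeis.commute_iff p' q').1 h
    simp [p', q', hσw] at this
    exact (omega_ne hw).2 (by grind)
  set p := e.symm p'
  set q := e.symm q'
  have hne : ⁅(p : (SU32 F)), (q : (SU32 F))⁆ ≠ 1 := fun h => hpq (by
    have h' : ⁅p, q⁆ = 1 := Subtype.ext (by simpa [commutatorElement_def] using h)
    have := congrArg e h'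
    rw [map_commutatorElement, map_one] at this
    simpa [p, q] using commutatorElement_eq_one_iff_commute.1 this)
  have hcP : ⁅(p : (SU32 F)), (q : (SU32 F))⁆ ∈ (P : Subgroup (SU32 F)) := (⁅p, q⁆).2
  have hcC : ⁅(p : (SU32 F)), (q : (SU32 F))⁆ ∈ commutator (SU32 F) := mem _ _
  obtain ⟨⟨i, j, k, l⟩, hnf⟩ := DK.nf_surjective ⟨_, hle hcC⟩
  have h333 : ∀ i j k : ZMod 3, TwoThreeTwo65.Data.mulIdx (TwoThreeTwo65.Data.mulIdx (i, j, k, false)
      (i, j, k, false)) (i, j, k, false) = (0, 0, 0, false) := by decide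
  have hl : l = true := by
    cases l
    · exfalso
      apply hne
      have h3 : DK.nf (i, j, k, false) ^ 3 = 1 := by
        rw [pow_succ, pow_two, DK.nf_mul, DK.nf_mul]
        rw [h333 i j k, DK.nf_one]
      rw [hnf] at h3
      have h3' : ⁅(p : (SU32 F)), (q : (SU32 F))⁆ ^ 3 = 1 := congrArg Subtype.val h3
      obtain ⟨n, hn⟩ := P.isPGroup' ⟨_, hcP⟩
      have hn' : ⁅(p : (SU32 F)), (q : (SU32 F))⁆ ^ 2 ^ n = 1 := congrArg Subtype.val hn
      have hg := pow_gcd_eq_one.mpr ⟨h3', hn'⟩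
      simpa [Nat.Coprime.gcd_eq_one (Nat.Coprime.pow_right n (by decide : Nat.Coprime 3 2))]
        using hg
    · rfl
  subst hl
  have dC : d ∈ commutator (SU32 F) := by
    have hv := congrArg Subtype.val hnf
    have hform : x ^ i.val * y ^ j.val * z ^ k.val * d = ⁅(p : (SU32 F)), (q : (SU32 F))⁆ := by
      simpa [DK, TwoThreeTwo65.Data.nf, TwoThreeTwo65.Data.pz] using hv
    have := mul_mem (inv_mem (mul_mem (mul_mem (pow_mem xC i.val) (pow_mem yC j.val))
      (pow_mem zC k.val))) hcC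
    rwa [← hform, inv_mul_cancel_left] at this
  have heq : commutator (SU32 F) = K := le_antisymm hle ((Subgroup.closure_le _).2 (by
    intro g hg
    simp only [Set.mem_insert_iff, Set.mem_singleton_iff] at hg
    rcases hg with rfl | rfl | rfl <;> assumption))
  rw [heq]
  exact ⟨DK⟩

end Cfsg.Agent.SU3TwoDerived65
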