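import Cfsg.Agent.Lib.SU3TwoHeis
import Cfsg.Prelude.Def_Solvable
import Cfsg.Prelude.Def_Transfer

/-!
Automorphisms of the unitary Heisenberg 2-group: central automorphisms extended by the semilinear
maps of the line over the field with `q ^ 2` elements.
-/

set_option autoImplicit false
set_option linter.unusedSectionVars false
set_option linter.style.haveILetI false

namespace Cfsg.Agent.SU3TwoHeisAut

open Cfsg.Agent.SU3TwoHeis
open scoped commutatorElement

variable {K : Type*} [Field K] [CharP K 2] {σ : K →+* K} [Fact (Function.Involutive σ)]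
variable (hne : ∃ c : K, σ c ≠ c)
include hne

/-- A section. -/
noncomputable def lift (a : K) : HU σ := (exists_fA hne a).choose

theorem fA_lift (a : K) : fA (lift hne a) = a := (exists_fA hne a).choose_spec

theorem fA_map_eq_zero (φ : MulAut (HU σ)) {x : HU σ} (h : fA x = 0) : fA (φ x) = 0 := by
  rw [← SU3TwoHeis.sq_eq_one_iff, ← map_mul, (SU3TwoHeis.sq_eq_one_iff x).2 h, map_one]

theorem fA_map_congr (φ : MulAut (HU σ)) {x y : HU σ} (h : fA x = fA y) : fA (φ x) = fA (φ y) := by
  have h1 : fA (y⁻¹ * x) = 0 := by simp [h, CharTwo.add_self_eq_zero]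
  have h2 := fA_map_eq_zero hne φ h1
  rw [map_mul, map_inv, fA_mul, fA_inv] at h2
  exact (CharTwo.add_eq_zero.1 h2).symm

/-- The action on the first coordinate. -/
noncomputable def linPart (φ : MulAut (HU σ)) (a : K) : K := fA (φ (lift hne a))

theorem fA_map (φ : MulAut (HU σ)) (x : HU σ) : fA (φ x) = linPart hne φ (fA x) :=
  fA_map_congr hne φ (fA_lift hne (fA x)).symm

theorem linPart_add (φ : MulAut (HU σ)) (a b : K) :
    linPart hne φ (a + b) = linPart hne φ a + linPart hne φ b := by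
  have h := fA_map_congr hne φ (x := lift hne (a + b)) (y := lift hne a * lift hne b)
    (by simp [fA_lift])
  rw [map_mul, fA_mul] at h
  exact h

/-- The action on the centre. -/
noncomputable def cenPart (φ : MulAut (HU σ)) (c : fixd σ) : K := fB (φ (zc c.1 c.2))

theorem map_zc (φ : MulAut (HU σ)) (c : K) (hc : σ c = c) :
    fA (φ (zc c hc)) = 0 ∧ fB (φ (zc c hc)) = cenPart φ ⟨c, hc⟩ :=
  ⟨fA_map_eq_zero hne φ rfl, rfl⟩

theorem cenPart_norm (φ : MulAut (HU σ)) (a : K) :
    cenPart φ ⟨a * σ a, norm_mem a⟩ = linPart hne φ a * σ (linPart hne φ a) := by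
  have e : zc (a * σ a) (norm_mem a) = lift hne a * lift hne a :=
    ext' (sq_fA _).symm (by rw [sq_fB, fA_lift]; rfl)
  rw [cenPart, e, map_mul, sq_fB, linPart]

theorem cenPart_trace (φ : MulAut (HU σ)) (a b : K) (h : σ (a * σ b + b * σ a) = a * σ b + b * σ a) :
    cenPart φ ⟨_, h⟩ =
      linPart hne φ a * σ (linPart hne φ b) + linPart hne φ b * σ (linPart hne φ a) := by
  have e : zc _ h = ⁅lift hne a, lift hne b⁆ :=
    ext' (commutator_fA _ _).symm (by rw [commutator_fB, fA_lift, fA_lift]; rfl)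
  rw [cenPart, e, map_commutatorElement, commutator_fB]
  rfl

theorem cenPart_eq_zero (φ : MulAut (HU σ)) (c : fixd σ) (h : cenPart φ c = 0) : (c : K) = 0 := by
  have e : φ (zc c.1 c.2) = 1 := ext' (fA_map_eq_zero hne φ rfl) h
  rw [← map_one φ] at e
  exact congrArg fB (φ.injective e)

theorem cenPart_zero (φ : MulAut (HU σ)) (c : fixd σ) (h : (c : K) = 0) : cenPart φ c = 0 := by
  have e : zc c.1 c.2 = (1 : HU σ) := ext' rfl h
  rw [cenPart, e, map_one]; rfl

theorem linPart_injective (φ : MulAut (HU σ)) {a b : K} (h : linPart hne φ a = linPart hne φ b) :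
    a = b := by
  have h' : linPart hne φ (a + b) = 0 := by rw [linPart_add, h, CharTwo.add_self_eq_zero]
  have : fA (lift hne (a + b)) = 0 := by
    rw [← SU3TwoHeis.sq_eq_one_iff]
    apply φ.injective
    rw [map_mul, map_one, SU3TwoHeis.sq_eq_one_iff]
    exact h'
  rw [fA_lift] at this
  exact CharTwo.add_eq_zero.1 this

theorem linPart_zero (φ : MulAut (HU σ)) : linPart hne φ 0 = 0 := by
  have := linPart_add hne φ 0 0
  rw [add_zero, CharTwo.add_self_eq_zero] at this
  exact this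

/-- The action on the first coordinate is semilinear. -/
theorem exists_semilinear [Finite K] (φ : MulAut (HU σ)) :
    ∃ (μ : Kˣ) (τ : K ≃+* K), (∀ a, linPart hne φ a = μ * τ a) ∧
      ∀ c : fixd σ, cenPart φ c = μ * σ μ * τ c := by
  classical
  obtain ⟨θ, hθ⟩ := exists_theta hne
  obtain ⟨f, hf⟩ : ∃ f : K → K, f = linPart hne φ := ⟨_, rfl⟩
  have hfa : ∀ a b, f (a + b) = f a + f b := by rw [hf]; exact linPart_add hne φ
  rw [← hf]
  have hf1 : f 1 ≠ 0 := fun h => one_ne_zero
    (linPart_injective hne φ (a := (1 : K)) (b := 0) (by rw [linPart_zero, ← hf, h]))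
  have hθk : σ θ ≠ θ := fun h => by
    rw [h, CharTwo.add_self_eq_zero] at hθ; exact zero_ne_one hθ
  -- lines go to lines
  have hline : ∀ a c : K, a ≠ 0 → σ c = c → ∃ r, σ r = r ∧ f (c * a) = r * f a := by
    intro a c ha hc
    have hfa0 : f a ≠ 0 := fun h => ha (linPart_injective hne φ (by rw [linPart_zero, ← hf, h]))
    refine ⟨f (c * a) / f a, ?_, (div_mul_cancel₀ _ hfa0).symm⟩
    have hz : a * σ (c * a) + c * a * σ a = 0 := by
      rw [map_mul, hc]; linear_combination c * a * σ a * two_zero (K := K)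
    have h := cenPart_trace hne φ a (c * a) (by rw [hz, map_zero])
    rw [cenPart_zero hne φ _ hz, ← hf, eq_comm, CharTwo.add_eq_zero] at h
    have hσ0 : σ (f a) ≠ 0 := (map_ne_zero σ).2 hfa0
    rw [map_div₀, div_eq_div_iff hσ0 hfa0]
    linear_combination h
  have hindep : ∀ a r s : K, σ a ≠ a → σ r = r → σ s = s → r * f a + s * f 1 = 0 → r = 0 ∧ s = 0 := by
    intro a r s ha hr hs h
    have hr0 : r = 0 := by
      by_contra hr0
      have hT : σ (a * σ 1 + 1 * σ a) = a * σ 1 + 1 * σ a := by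
        rw [map_one, mul_one, one_mul]; exact trace_mem a
      have e := cenPart_trace hne φ a 1 hT
      have hfa : f a = s / r * f 1 := by
        field_simp
        linear_combination h - s * f 1 * two_zero (K := K)
      have hsr : σ (s / r) = s / r := by rw [map_div₀, hr, hs]
      have e0 : cenPart φ ⟨_, hT⟩ = 0 := by
        rw [e, ← hf, hfa, map_mul, hsr]
        linear_combination s / r * f 1 * σ (f 1) * two_zero (K := K)
      have := cenPart_eq_zero hne φ _ e0
      simp only [map_one, mul_one, one_mul] at this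
      exact ha (CharTwo.add_eq_zero.1 this).symm
    rw [hr0, zero_mul, zero_add] at h
    exact ⟨hr0, (mul_eq_zero.1 h).resolve_right hf1⟩
  let α : K → K := fun c => f c / f 1
  have hfα : ∀ c, f c = α c * f 1 := fun c => (div_mul_cancel₀ _ hf1).symm
  have hαadd : ∀ a b, α (a + b) = α a + α b := fun a b => by simp only [α, hfa, add_div]
  have hαk : ∀ c, σ c = c → σ (α c) = α c := by
    intro c hc
    obtain ⟨r, hr, e⟩ := hline 1 c one_ne_zero hc
    rw [mul_one] at e
    have : α c = r := by rw [show α c = f c / f 1 from rfl, e, mul_div_cancel_right₀ _ hf1]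
    rw [this, hr]
  have hgen : ∀ a c, σ a ≠ a → σ c = c → f (c * a) = α c * f a := by
    intro a c ha hc
    have ha0 : a ≠ 0 := fun h => ha (by rw [h, map_zero])
    have ha1 : a + 1 ≠ 0 := fun h => ha (by rw [CharTwo.add_eq_zero.1 h, map_one])
    obtain ⟨r, hr, e⟩ := hline a c ha0 hc
    obtain ⟨r', hr', e'⟩ := hline (a + 1) c ha1 hc
    rw [mul_add, mul_one, hfa, e, hfa, hfα c] at e'
    have h0 : (r + r') * f a + (α c + r') * f 1 = 0 := by
      linear_combination e' + (r' * f a + r' * f 1) * two_zero (K := K)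
    obtain ⟨h1, h2⟩ := hindep a _ _ ha (by rw [map_add, hr, hr'])
      (by rw [map_add, hαk c hc, hr']) h0
    rw [e, CharTwo.add_eq_zero.1 h1, CharTwo.add_eq_zero.1 h2]
  have hall : ∀ a c, σ c = c → f (c * a) = α c * f a := by
    intro a c hc
    by_cases ha : σ a = a
    · have h1 : σ (a + θ) ≠ a + θ := fun h => hθk (by
        rw [map_add, ha] at h; exact add_left_cancel h)
      have e : a = (a + θ) + θ := by rw [add_assoc, CharTwo.add_self_eq_zero, add_zero]
      rw [e, mul_add, hfa, hfa, hgen _ c h1 hc, hgen _ c hθk hc, mul_add]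
    · exact hgen a c ha hc
  have hαmul : ∀ c a, σ c = c → α (c * a) = α c * α a := fun c a hc => by
    rw [show α (c * a) = f (c * a) / f 1 from rfl, hall a c hc, mul_div_assoc]
  have hα1 : α 1 = 1 := div_self hf1
  -- the centre
  have hcen : ∀ e : fixd σ, cenPart φ e = f 1 * σ (f 1) * α e := by
    intro e
    have hsurj : Function.Surjective fun c : fixd σ => (⟨c.1 * σ c.1, norm_mem c.1⟩ : fixd σ) := by
      refine Finite.injective_iff_surjective.1 fun a b h => ?_
      have h' : a.1 * σ a.1 = b.1 * σ b.1 := congrArg Subtype.val h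
      rw [mem_fixd.1 a.2, mem_fixd.1 b.2] at h'
      have : (a.1 + b.1) * (a.1 + b.1) = 0 := by
        linear_combination h' + (b.1 * b.1 + a.1 * b.1) * two_zero (K := K)
      exact Subtype.ext (CharTwo.add_eq_zero.1 (mul_self_eq_zero.1 this))
    obtain ⟨c, rfl⟩ := hsurj e
    show cenPart φ ⟨c.1 * σ c.1, _⟩ = f 1 * σ (f 1) * α (c.1 * σ c.1)
    rw [cenPart_norm hne φ c.1, hαmul c.1 _ c.2, mem_fixd.1 c.2, ← hf, hfα c.1, map_mul, hαk c.1 c.2]
    ring
  have hN1 : f 1 * σ (f 1) ≠ 0 := mul_ne_zero hf1 ((map_ne_zero σ).2 hf1)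
  have hT' : α θ + σ (α θ) = 1 := by
    have hTc : σ (θ * σ 1 + 1 * σ θ) = θ * σ 1 + 1 * σ θ := by
      rw [map_one, mul_one, one_mul]; exact trace_mem θ
    have e := cenPart_trace hne φ θ 1 hTc
    have e1 := hcen ⟨_, hTc⟩
    rw [e, ← hf, hfα θ, map_mul] at e1
    simp only [map_one, mul_one, one_mul, hθ, hα1] at e1
    apply mul_left_cancel₀ hN1
    rw [mul_one]
    linear_combination e1
  have hN' : α θ * σ (α θ) = α (θ * σ θ) := by
    have e := cenPart_norm hne φ θ
    rw [hcen, ← hf, hfα θ, map_mul] at e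
    apply mul_left_cancel₀ hN1
    linear_combination -e
  have hαθ : α (θ * θ) = α θ * α θ := by
    have e : θ * θ = θ + θ * σ θ := by
      linear_combination θ * hθ - θ * σ θ * two_zero (K := K)
    rw [e, hαadd, ← hN']
    linear_combination -(α θ) * hT' + α θ * σ (α θ) * two_zero (K := K)
  have hdec : ∀ a : K, ∃ c d, σ c = c ∧ σ d = d ∧ a = c + d * θ := by
    intro a
    refine ⟨a + (a + σ a) * θ, a + σ a, ?_, trace_mem a, ?_⟩
    · rw [map_add, map_mul, mem_fixd.1 (trace_mem a)]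
      linear_combination (a + σ a) * hθ + ((a + σ a) - (a + (a + σ a) * θ)) * two_zero (K := K)
    · linear_combination -((a + σ a) * θ) * two_zero (K := K)
  let τ₀ : K →+* K :=
    { toFun := α
      map_one' := hα1
      map_zero' := by show f 0 / f 1 = 0; rw [hf, linPart_zero, zero_div]
      map_add' := hαadd
      map_mul' := fun x y => by
        obtain ⟨c, d, hc, hd, rfl⟩ := hdec x
        obtain ⟨c', d', hc', hd', rfl⟩ := hdec y
        have hm : ∀ u v, σ u = u → σ v = v → σ (u * v) = u * v := fun u v hu hv => by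
          rw [map_mul, hu, hv]
        rw [show (c + d * θ) * (c' + d' * θ) = c * c' + (c * d') * θ + ((d * c') * θ + (d * d') * (θ * θ)) by ring]
        rw [hαadd, hαadd, hαadd, hαadd, hαadd, hαmul c c' hc, hαmul (c * d') θ (hm _ _ hc hd'),
          hαmul (d * c') θ (hm _ _ hd hc'), hαmul (d * d') _ (hm _ _ hd hd'), hαθ,
          hαmul c d' hc, hαmul d c' hd, hαmul d d' hd, hαmul d θ hd, hαmul d' θ hd']
        ring }
  let τ : K ≃+* K := RingEquiv.ofBijective τ₀
    (Finite.injective_iff_bijective.1 τ₀.injective)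
  refine ⟨Units.mk0 (f 1) hf1, τ, fun a => ?_, fun c => hcen c⟩
  exact (hfα a).trans (mul_comm _ _)

omit hne in
theorem reflComm (x : K) : RingEquiv.refl K (σ x) = σ (RingEquiv.refl K x) := rfl

omit hne in
/-- The automorphism with given parameters. -/
noncomputable def mkAut [Finite K] (μ : Kˣ) (τ : K ≃+* K) (hτ : ∀ x, τ (σ x) = σ (τ x))
    (h : K →+ fixd σ) : MulAut (HU σ) :=
  MulEquiv.ofBijective
    ({ toFun := fun x => ⟨(μ * τ (fA x), μ * σ μ * τ (fB x) + h (fA x)), by
        show μ * σ μ * τ (fB x) + h (fA x) + σ (μ * σ μ * τ (fB x) + h (fA x)) =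
          μ * τ (fA x) * σ (μ * τ (fA x))
        rw [map_add, map_mul, map_mul, invol, mem_fixd.1 (h (fA x)).2, map_mul, ← hτ, ← hτ]
        have e := congrArg τ (rel x)
        rw [map_add, map_mul] at e
        linear_combination ((μ : K) * σ μ) * e + (h (fA x) : K) * two_zero (K := K)⟩
       map_one' := ext' (by show (μ : K) * τ 0 = 0; simp) (by
        show (μ : K) * σ μ * τ 0 + h 0 = 0; simp)
       map_mul' := fun x y => ext'
        (by show (μ : K) * τ (fA x + fA y) = μ * τ (fA x) + μ * τ (fA y); rw [map_add, mul_add])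
        (by
          show (μ : K) * σ μ * τ (fB x + fB y + fA x * σ (fA y)) + h (fA x + fA y) =
            μ * σ μ * τ (fB x) + h (fA x) + (μ * σ μ * τ (fB y) + h (fA y)) +
              μ * τ (fA x) * σ (μ * τ (fA y))
          rw [map_add, map_add, map_add h, AddSubgroup.coe_add, map_mul, map_mul, hτ]
          ring) } : HU σ →* HU σ)
    (Finite.injective_iff_bijective.1 (fun x y e => by
      have h1 : (μ : K) * τ (fA x) = μ * τ (fA y) := congrArg fA e
      have h2 : (μ : K) * σ μ * τ (fB x) + h (fA x) = μ * σ μ * τ (fB y) + h (fA y) := congrArg fB e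
      have h1' := τ.injective (mul_left_cancel₀ μ.ne_zero h1)
      rw [h1'] at h2
      exact ext' h1' (τ.injective (mul_left_cancel₀ (mul_ne_zero μ.ne_zero ((map_ne_zero σ).2 μ.ne_zero))
        (add_right_cancel h2)))))

omit hne in
theorem fA_mkAut [Finite K] (μ : Kˣ) (τ : K ≃+* K) (hτ : ∀ x, τ (σ x) = σ (τ x)) (h : K →+ fixd σ)
    (x : HU σ) : fA (mkAut μ τ hτ h x) = μ * τ (fA x) := rfl

omit hne in
theorem fB_mkAut [Finite K] (μ : Kˣ) (τ : K ≃+* K) (hτ : ∀ x, τ (σ x) = σ (τ x)) (h : K →+ fixd σ)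
    (x : HU σ) : fB (mkAut μ τ hτ h x) = μ * σ μ * τ (fB x) + h (fA x) := rfl

omit hne in
theorem ringEquiv_comm {q : ℕ} (hσq : ∀ x, σ x = x ^ q) (τ : K ≃+* K) (x : K) : τ (σ x) = σ (τ x) := by
  rw [hσq, hσq, map_pow]

theorem exists_mkAut [Finite K] {q : ℕ} (hσq : ∀ x, σ x = x ^ q) (φ : MulAut (HU σ)) :
    ∃ μ τ h, φ = mkAut μ τ (ringEquiv_comm hσq τ) h := by
  obtain ⟨μ, τ, hlin, hcen⟩ := exists_semilinear hne φ
  have hA : ∀ x, fA (φ x) = μ * τ (fA x) := fun x => by rw [fA_map hne, hlin]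
  have hindep : ∀ x y : HU σ, fA x = fA y →
      fB (φ x) + μ * σ μ * τ (fB x) = fB (φ y) + μ * σ μ * τ (fB y) := by
    intro x y hxy
    have hz : σ (fB x + fB y) = fB x + fB y := by
      rw [map_add]
      have h1 := rel x; have h2 := rel y
      rw [hxy] at h1
      linear_combination h1 - h2 + (fB y - fB x) * two_zero (K := K) + (σ (fB y) - fB y) * two_zero (K := K)
    have e : x = y * zc (fB x + fB y) hz := ext' (by simp [hxy]) (by
      simp only [fB_mul, fB_zc, fA_zc, map_zero, mul_zero, add_zero]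
      linear_combination -(fB y) * two_zero (K := K))
    conv_lhs => rw [e, map_mul, fB_mul, (map_zc hne φ _ hz).1, (map_zc hne φ _ hz).2, map_zero,
      mul_zero, add_zero, hcen]
    simp only [fB_mul, fB_zc, fA_zc, map_zero, mul_zero, add_zero, map_add]
    linear_combination ((μ : K) * σ μ * (τ (fB x) + τ (fB y))) * two_zero (K := K)
  have hmem : ∀ x, σ (fB (φ x) + μ * σ μ * τ (fB x)) = fB (φ x) + μ * σ μ * τ (fB x) := by
    intro x
    have h1 := rel (φ x)
    have h2 := congrArg τ (rel x)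
    rw [hA, map_mul, ← ringEquiv_comm hσq τ] at h1
    rw [map_add, map_mul] at h2
    rw [map_add, map_mul, map_mul, invol, ← ringEquiv_comm hσq τ]
    linear_combination h1 + ((μ : K) * σ μ) * h2 -
      (fB (φ x) + (μ : K) * σ μ * τ (fB x)) * two_zero (K := K) +
      ((μ : K) * τ (fA x) * (σ μ * τ (σ (fA x)))) * two_zero (K := K)
  let h : K →+ fixd σ := AddMonoidHom.mk'
    (fun a => ⟨_, hmem (lift hne a)⟩) fun a b => by
    refine Subtype.ext ?_
    show fB (φ (lift hne (a + b))) + μ * σ μ * τ (fB (lift hne (a + b))) =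
      fB (φ (lift hne a)) + μ * σ μ * τ (fB (lift hne a)) +
        (fB (φ (lift hne b)) + μ * σ μ * τ (fB (lift hne b)))
    rw [hindep (lift hne (a + b)) (lift hne a * lift hne b) (by simp [fA_lift]), map_mul, fB_mul,
      fB_mul, hA, hA, fA_lift, fA_lift, map_mul, ← ringEquiv_comm hσq τ, map_add, map_add, map_mul]
    linear_combination ((μ : K) * σ μ * (τ a * τ (σ b))) * two_zero (K := K)
  refine ⟨μ, τ, h, MulEquiv.ext fun x => ext' (hA x) ?_⟩
  show fB (φ x) = μ * σ μ * τ (fB x) + (fB (φ (lift hne (fA x))) + μ * σ μ * τ (fB (lift hne (fA x))))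
  rw [← hindep x (lift hne (fA x)) (fA_lift hne _).symm]
  linear_combination -((μ : K) * σ μ * τ (fB x)) * two_zero (K := K)

theorem mkAut_inj [Finite K] {μ μ' : Kˣ} {τ τ' : K ≃+* K} {hτ hτ'} {h h' : K →+ fixd σ}
    (e : mkAut μ τ hτ h = mkAut μ' τ' hτ' h') : μ = μ' ∧ τ = τ' ∧ h = h' := by
  have hA : ∀ a, (μ : K) * τ a = μ' * τ' a := fun a => by
    have := congrArg (fun φ : MulAut (HU σ) => fA (φ (lift hne a))) e
    simpa [fA_mkAut, fA_lift] using this
  have hμ : μ = μ' := Units.ext (by simpa using hA 1)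
  subst hμ
  have hτ2 : τ = τ' := RingEquiv.ext fun a => mul_left_cancel₀ μ.ne_zero (hA a)
  subst hτ2
  refine ⟨rfl, rfl, AddMonoidHom.ext fun a => Subtype.ext ?_⟩
  have := congrArg (fun φ : MulAut (HU σ) => fB (φ (lift hne a))) e
  simpa [fB_mkAut, fA_lift] using this

theorem card_mulAut [Finite K] {q : ℕ} (hσq : ∀ x, σ x = x ^ q) :
    Nat.card (MulAut (HU σ)) = Nat.card Kˣ * Nat.card (K ≃+* K) * Nat.card (K →+ fixd σ) := by
  rw [← Nat.card_prod, ← Nat.card_prod]
  refine (Nat.card_congr (Equiv.ofBijective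
    (fun p : (Kˣ × (K ≃+* K)) × (K →+ fixd σ) => mkAut p.1.1 p.1.2 (ringEquiv_comm hσq p.1.2) p.2)
    ⟨fun p p' e => ?_, fun φ => ?_⟩)).symm
  · obtain ⟨h1, h2, h3⟩ := mkAut_inj hne e
    exact Prod.ext (Prod.ext h1 h2) h3
  · obtain ⟨μ, τ, h, rfl⟩ := exists_mkAut hne hσq φ
    exact ⟨((μ, τ), h), rfl⟩

omit hne in
theorem card_addHom [Fintype K] {n : ℕ} (hK : Fintype.card K = 4 ^ n)
    (hk : Nat.card (fixd σ) = 2 ^ n) : Nat.card (K →+ fixd σ) = 2 ^ (2 * n ^ 2) := by
  letI : Algebra (ZMod 2) K := ZMod.algebra K 2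
  letI : Module (ZMod 2) (fixd σ) := AddCommGroup.zmodModule (fun x => by
    rw [two_nsmul]; exact Subtype.ext (CharTwo.add_self_eq_zero _))
  have hd : Module.finrank (ZMod 2) K = 2 * n := by
    have h := Module.card_eq_pow_finrank (K := ZMod 2) (V := K)
    rw [ZMod.card, hK, show (4 : ℕ) = 2 ^ 2 by rfl, ← pow_mul] at h
    exact (Nat.pow_right_injective le_rfl h).symm
  let e1 : (K →+ fixd σ) ≃ (K →ₗ[ZMod 2] fixd σ) :=
    { toFun := fun f => f.toZModLinearMap 2
      invFun := fun l => l.toAddMonoidHom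
      left_inv := fun f => rfl
      right_inv := fun l => rfl }
  rw [Nat.card_congr (e1.trans ((Module.finBasis (ZMod 2) K).constr (ZMod 2)).toEquiv.symm),
    Nat.card_fun, hk, Nat.card_fin, hd, ← pow_mul]
  ring_nf

omit hne in
/-- Field automorphisms over the prime field. -/
noncomputable def ringAutEquiv [Algebra (ZMod 2) K] : (K ≃+* K) ≃* (K ≃ₐ[ZMod 2] K) where
  toFun τ := AlgEquiv.ofRingEquiv (f := τ) fun x => by
    have : τ.toRingHom.comp (algebraMap (ZMod 2) K) = algebraMap (ZMod 2) K := Subsingleton.elim _ _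
    exact RingHom.congr_fun this x
  invFun τ := τ.toRingEquiv
  left_inv τ := rfl
  right_inv τ := rfl
  map_mul' τ τ' := rfl

omit hne in
theorem card_ringAut [Fintype K] {n : ℕ} (hK : Fintype.card K = 4 ^ n) :
    Nat.card (K ≃+* K) = 2 * n := by
  letI : Algebra (ZMod 2) K := ZMod.algebra K 2
  rw [Nat.card_congr ringAutEquiv.toEquiv, IsGalois.card_aut_eq_finrank]
  have h := Module.card_eq_pow_finrank (K := ZMod 2) (V := K)
  rw [ZMod.card, hK, show (4 : ℕ) = 2 ^ 2 by rfl, ← pow_mul] at h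
  exact (Nat.pow_right_injective le_rfl h).symm

omit hne in
theorem isCyclic_ringAut [Finite K] : IsCyclic (K ≃+* K) := by
  letI : Algebra (ZMod 2) K := ZMod.algebra K 2
  exact isCyclic_of_surjective (ringAutEquiv (K := K)).symm (ringAutEquiv (K := K)).symm.surjective

/-- The only involutive field automorphisms are `1` and `σ`. -/
theorem ringAut_involutive [Finite K] (τ : K ≃+* K) (h : ∀ a, τ (τ a) = a) :
    (∀ a, τ a = a) ∨ ∀ a, τ a = σ a := by
  classical
  haveI := isCyclic_ringAut (K := K)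
  haveI : Finite (K ≃+* K) := Finite.of_injective _ DFunLike.coe_injective
  haveI := Fintype.ofFinite (K ≃+* K)
  let s : K ≃+* K := RingEquiv.ofBijective σ (Fact.out : Function.Involutive σ).bijective
  by_cases h1 : τ = 1
  · left; intro a; rw [h1]; rfl
  right
  by_contra h2
  push Not at h2
  obtain ⟨a, ha⟩ := h2
  obtain ⟨c, hc⟩ := hne
  have hs1 : s ≠ 1 := fun e => hc (congrArg (fun t : K ≃+* K => t c) e)
  have hts : τ ≠ s := fun e => ha (congrArg (fun t : K ≃+* K => t a) e)
  have hsub : ({1, s, τ} : Finset (K ≃+* K)) ⊆ Finset.univ.filter (fun t => t ^ 2 = 1) := by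
    intro t ht
    simp only [Finset.mem_insert, Finset.mem_singleton] at ht
    simp only [Finset.mem_filter, Finset.mem_univ, true_and, sq]
    refine RingEquiv.ext fun x => ?_
    rcases ht with rfl | rfl | rfl
    · rfl
    · exact invol x
    · exact h x
  have hc3 : ({1, s, τ} : Finset (K ≃+* K)).card = 3 := by
    rw [Finset.card_insert_of_notMem (by simp [Ne.symm hs1, Ne.symm h1]), Finset.card_pair hts.symm]
  have := (Finset.card_le_card hsub).trans (IsCyclic.card_pow_eq_one_le (by norm_num))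
  omega

/-- Automorphisms of order dividing two modulo inner ones are trivial on the centre. -/
theorem center_fixed [Finite K] {q : ℕ} (hσq : ∀ x, σ x = x ^ q) (φ : MulAut (HU σ))
    (h : ∀ x, fA (φ (φ x)) = fA x) (c : K) (hc : σ c = c) : φ (zc c hc) = zc c hc := by
  obtain ⟨μ, τ, hh, rfl⟩ := exists_mkAut hne hσq φ
  have h' : ∀ a, (μ : K) * τ (μ * τ a) = a := fun a => by
    have := h (lift hne a)
    rwa [fA_mkAut, fA_mkAut, fA_lift] at this
  have h1 : (μ : K) * τ μ = 1 := by simpa using h' 1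
  have hinv : ∀ a, τ (τ a) = a := fun a => by
    have := h' a
    rwa [map_mul, ← mul_assoc, h1, one_mul] at this
  refine ext' ?_ ?_
  · rw [fA_mkAut, fA_zc, map_zero, mul_zero]
  rw [fB_mkAut, fA_zc, map_zero, fB_zc, AddSubgroup.coe_zero, add_zero]
  rcases ringAut_involutive hne τ hinv with ht | ht
  · rw [ht] at h1 ⊢
    have hμ : (μ : K) = 1 := by
      have e : ((μ : K) + 1) * ((μ : K) + 1) = 0 := by
        linear_combination h1 + ((μ : K) + 1) * two_zero (K := K)
      exact CharTwo.add_eq_zero.1 (mul_self_eq_zero.1 e)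
    rw [hμ, map_one, one_mul, one_mul]
  · rw [ht] at h1 ⊢
    rw [hc, h1, one_mul]

/-- The central automorphisms form the largest normal 2-subgroup. -/
theorem pCore_data [Finite K] {q : ℕ} (hσq : ∀ x, σ x = x ^ q) :
    ∃ N : Subgroup (MulAut (HU σ)), Cfsg.pCore 2 (MulAut (HU σ)) = N ∧
      Cfsg.IsElementaryAbelian 2 N ∧ Nat.card N = Nat.card (K →+ fixd σ) ∧
      ∀ φ, φ ∈ N ↔ ∀ x, fA (φ x) = fA x := by
  let N : Subgroup (MulAut (HU σ)) :=
    { carrier := {φ | ∀ x, fA (φ x) = fA x}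
      one_mem' := fun x => rfl
      mul_mem' := fun {a b} ha hb x => (ha (b x)).trans (hb x)
      inv_mem' := fun {a} ha x => by
        rw [← ha (a⁻¹ x)]
        exact congrArg fA (a.apply_symm_apply x) }
  have hform : ∀ φ ∈ N, ∃ h : K →+ fixd σ,
      φ = mkAut 1 (RingEquiv.refl K) reflComm h := by
    intro φ hφ
    obtain ⟨μ, τ, h, rfl⟩ := exists_mkAut hne hσq φ
    have hA : ∀ a, (μ : K) * τ a = a := fun a => by
      have := hφ (lift hne a)
      rwa [fA_mkAut, fA_lift] at this
    have hμ : μ = 1 := Units.ext (by simpa using hA 1)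
    subst hμ
    have hτ : τ = RingEquiv.refl K := RingEquiv.ext fun a => by simpa using hA a
    subst hτ
    exact ⟨h, rfl⟩
  have hmk : ∀ h : K →+ fixd σ, mkAut 1 (RingEquiv.refl K) reflComm h ∈ N := fun h x =>
    one_mul _
  have hcomp : ∀ h h' : K →+ fixd σ, ∀ x : HU σ,
      fB (mkAut 1 (RingEquiv.refl K) reflComm h (mkAut 1 (RingEquiv.refl K) reflComm h' x)) =
        fB x + h' (fA x) + h (fA x) := by
    intro h h' x
    rw [fB_mkAut, hmk h' x, fB_mkAut]
    simp
  have helem : Cfsg.IsElementaryAbelian 2 N := by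
    refine ⟨⟨⟨?_⟩⟩, ?_⟩
    · rintro ⟨a, ha⟩ ⟨b, hb⟩
      obtain ⟨h, rfl⟩ := hform a ha
      obtain ⟨h', rfl⟩ := hform b hb
      refine Subtype.ext (MulEquiv.ext fun x => ext' ?_ ?_)
      · exact ((hmk h _).trans (hmk h' x)).trans ((hmk h' _).trans (hmk h x)).symm
      · show fB (mkAut 1 (RingEquiv.refl K) reflComm h (mkAut 1 (RingEquiv.refl K) reflComm h' x)) = fB (mkAut 1 (RingEquiv.refl K) reflComm h' (mkAut 1 (RingEquiv.refl K) reflComm h x))
        rw [hcomp, hcomp]; ring
    · intro a ha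
      obtain ⟨h, rfl⟩ := hform a ha
      rw [sq]
      refine MulEquiv.ext fun x => ext' ((hmk h _).trans (hmk h x)) ?_
      show fB (mkAut 1 (RingEquiv.refl K) reflComm h (mkAut 1 (RingEquiv.refl K) reflComm h x)) = fB x
      rw [hcomp, add_assoc, CharTwo.add_self_eq_zero, add_zero]
  have hnorm : N.Normal := ⟨fun φ hφ ψ x => by
    show fA (ψ (φ (ψ⁻¹ x))) = fA x
    rw [fA_map_congr hne ψ (hφ (ψ⁻¹ x))]
    exact congrArg fA (ψ.apply_symm_apply x)⟩
  refine ⟨N, le_antisymm ?_ ?_, helem, ?_, fun φ => Iff.rfl⟩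
  · refine sSup_le ?_
    rintro P ⟨hPn, hP⟩ φ hφ
    obtain ⟨μ, τ, h, rfl⟩ := exists_mkAut hne hσq φ
    have hpow : ∀ (ψ : MulAut (HU σ)) (ν : K), (∀ x, fA (ψ x) = ν * fA x) →
        ∀ m x, fA ((ψ ^ m) x) = ν ^ m * fA x := by
      intro ψ ν hψ m
      induction m with
      | zero => intro x; rw [pow_zero, pow_zero, one_mul]; rfl
      | succ m ih =>
        intro x
        rw [pow_succ', pow_succ', MulAut.mul_apply, hψ, ih, mul_assoc]
    have hone : ∀ (ψ : MulAut (HU σ)) (ν : K), ψ ∈ P → (∀ x, fA (ψ x) = ν * fA x) → ν = 1 := by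
      intro ψ ν hψP hψ
      obtain ⟨j, hj⟩ := hP ⟨ψ, hψP⟩
      have hj' : ψ ^ 2 ^ j = 1 := congrArg Subtype.val hj
      have hpw := hpow ψ ν hψ (2 ^ j) (lift hne 1)
      rw [hj', MulAut.one_apply, fA_lift, mul_one] at hpw
      haveI : ExpChar K 2 := ExpChar.prime Nat.prime_two
      apply (iterateFrobenius K 2 j).injective
      rw [iterateFrobenius_def, iterateFrobenius_def, one_pow]
      exact hpw.symm
    have hτ1 : ∀ l : K, τ l = l := by
      intro l
      rcases eq_or_ne l 0 with rfl | hl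
      · exact map_zero τ
      set d : MulAut (HU σ) := mkAut (Units.mk0 l hl) (RingEquiv.refl K) reflComm 0
      set φ := mkAut μ τ (ringEquiv_comm hσq τ) h
      have hcP : d * φ * d⁻¹ * φ⁻¹ ∈ P := P.mul_mem (hPn.conj_mem φ hφ d) (P.inv_mem hφ)
      refine (eq_of_div_eq_one (hone _ (l / τ l) hcP fun x => ?_)).symm
      have e : (d * φ * d⁻¹ * φ⁻¹) (φ (d x)) = d (φ x) := by
        simp only [MulAut.mul_apply, MulAut.inv_apply_self]
      have hsurj := (φ.surjective.comp d.surjective) x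
      obtain ⟨z, rfl⟩ := hsurj
      show fA ((d * φ * d⁻¹ * φ⁻¹) (φ (d z))) = l / τ l * fA (φ (d z))
      simp only [MulAut.mul_apply, MulAut.inv_apply_self]
      show (l : K) * (μ * τ (fA z)) = l / τ l * (μ * τ (l * fA z))
      rw [map_mul]
      field_simp [(map_ne_zero τ).2 hl]
    have hμ : (μ : K) = 1 := hone _ μ hφ fun x => by rw [fA_mkAut, hτ1]
    intro x
    rw [fA_mkAut, hτ1, hμ, one_mul]
  · refine le_sSup ⟨hnorm, fun a => ⟨1, ?_⟩⟩
    rw [pow_one]
    exact Subtype.ext (helem.2 a.1 a.2)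
  · refine (Nat.card_congr (Equiv.ofBijective
      (fun h : K →+ fixd σ => (⟨_, hmk h⟩ : N)) ⟨fun h h' e => ?_, fun a => ?_⟩)).symm
    · exact (mkAut_inj hne (hτ := reflComm) (hτ' := reflComm) (congrArg Subtype.val e)).2.2
    · obtain ⟨h, hh⟩ := hform a.1 a.2
      exact ⟨h, Subtype.ext hh.symm⟩

end Cfsg.Agent.SU3TwoHeisAut
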