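import Cfsg.Agent.Lib.SpectrumPSU3

/-!
An element of prime order `r` of `SU(n, q)` commuting with a non-trivial nilpotent matrix: `r`
divides `q ^ i - (-1) ^ i` for some `i ≤ n - 2`.
-/

set_option autoImplicit false
set_option linter.unusedSectionVars false
set_option linter.style.haveILetI false

namespace Cfsg.Agent.SUCommutingUnipotent

open Matrix Polynomial Cfsg Cfsg.Agent.OrthUnitaryHerm Cfsg.Agent.SpectrumPSU61

theorem eq_zero_of_nodup {K : Type*} [Field K] {n : ℕ} (G N : Matrix (Fin n) (Fin n) K)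
    (hc : Commute G N) (hN : IsNilpotent N) (hnd : G.charpoly.roots.Nodup)
    (hcard : G.charpoly.roots.card = n) : N = 0 := by
  classical
  let s := G.charpoly.roots.toFinset
  have hs : s.card = n := by
    rw [Multiset.toFinset_card_of_nodup hnd, hcard]
  have hev : ∀ a : s, ∃ v : Fin n → K, v ≠ 0 ∧ G *ᵥ v = (a : K) • v := by
    intro a
    have ha := (mem_roots (charpoly_monic G).ne_zero).1 (Multiset.mem_toFinset.1 a.2)
    rw [IsRoot.def, eval_charpoly] at ha
    obtain ⟨v, hv, hv0⟩ := exists_mulVec_eq_zero_iff.2 ha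
    refine ⟨v, hv, ?_⟩
    rw [sub_mulVec, sub_eq_zero] at hv0
    rw [← hv0]
    ext i; simp [mulVec_diagonal]
  choose v hv hGv using hev
  have hli : LinearIndependent K v :=
    Module.End.eigenvectors_linearIndependent' (G.mulVecLin) (fun a : s => (a : K))
      Subtype.val_injective v fun a =>
        ⟨Module.End.mem_eigenspace_iff.2 (by simpa using hGv a), hv a⟩
  haveI : Nonempty (Fin n) ∨ n = 0 := by
    rcases Nat.eq_zero_or_pos n with h | h
    · exact Or.inr h
    · exact Or.inl ⟨⟨0, h⟩⟩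
  rcases Nat.eq_zero_or_pos n with rfl | hn
  · exact Subsingleton.elim _ _
  haveI : Nonempty s := by
    obtain ⟨a, ha⟩ := Finset.card_pos.1 (hs ▸ hn : 0 < s.card)
    exact ⟨⟨a, ha⟩⟩
  let b := basisOfLinearIndependentOfCardEqFinrank hli (by
    rw [Fintype.card_coe, hs, Module.finrank_fin_fun])
  have hb : ⇑b = v := coe_basisOfLinearIndependentOfCardEqFinrank _ _
  have hzero : ∀ a, N *ᵥ v a = 0 := by
    intro a
    have hexp := b.sum_repr (N *ᵥ v a)
    set c := b.repr (N *ᵥ v a) with hc'
    rw [hb] at hexp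
    have h1 : G *ᵥ (N *ᵥ v a) = (a : K) • (N *ᵥ v a) := by
      rw [mulVec_mulVec, hc.eq, ← mulVec_mulVec, hGv, mulVec_smul]
    have h2 : ∑ i, (c i * ((i : K) - a)) • v i = 0 := by
      calc ∑ i, (c i * ((i : K) - a)) • v i = ∑ i, (G *ᵥ (c i • v i) - (a : K) • (c i • v i)) := by
            refine Finset.sum_congr rfl fun i _ => ?_
            rw [mulVec_smul, hGv]; module
        _ = 0 := by
            rw [Finset.sum_sub_distrib, ← Finset.smul_sum, ← mulVec_sum, hexp, h1, sub_self]
    have h3 := Fintype.linearIndependent_iff.1 hli _ h2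
    have hca : N *ᵥ v a = c a • v a := by
      rw [← hexp, Finset.sum_eq_single a]
      · intro i _ hia
        rcases mul_eq_zero.1 (h3 i) with h | h
        · rw [h, zero_smul]
        · exact absurd (Subtype.ext (sub_eq_zero.1 h)) hia
      · simp
    obtain ⟨k, hk⟩ := hN
    have hpow : ∀ j, (N ^ j) *ᵥ v a = (c a) ^ j • v a := by
      intro j
      induction j with
      | zero => simp
      | succ j ih => rw [pow_succ', ← mulVec_mulVec, ih, mulVec_smul, hca, smul_smul, pow_succ]
    have h4 := hpow k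
    rw [hk, zero_mulVec] at h4
    have h5 : c a ^ k = 0 := (smul_eq_zero.1 h4.symm).resolve_right (hv a)
    rw [hca, eq_zero_of_pow_eq_zero h5, zero_smul]
  apply Matrix.toLin'.injective
  refine b.ext fun a => ?_
  rw [hb]
  simpa using hzero a

theorem exists_dvd {F : Type*} [Field F] [Fintype F] {p q n r : ℕ} [Fact p.Prime] [CharP F p]
    [Fact r.Prime] (hF : Fintype.card F = q ^ 2) (hrp : r ≠ p) (hrq : ¬ r ∣ q + 1) (g : SU n F q)
    (hg : g ^ r = 1) (hg1 : g ≠ 1) (N : Matrix (Fin n) (Fin n) F) (hN : IsNilpotent N) (hN0 : N ≠ 0)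
    (hc : Commute (mat g) N) :
    ∃ i, 2 ≤ i ∧ i + 2 ≤ n ∧ (r : ℤ) ∣ (q : ℤ) ^ i - (-1) ^ i := by
  classical
  have hr := (Fact.out : r.Prime)
  let K := AlgebraicClosure F
  let fK := (mat g).charpoly.map (algebraMap F K)
  let G := (mat g).map (algebraMap F K)
  let N' := N.map (algebraMap F K)
  have hfK : G.charpoly = fK := charpoly_map _ _
  set M := fK.roots with hM
  have hmon : fK.Monic := (charpoly_monic _).map _
  have hcard : M.card = n := by
    rw [hM, IsAlgClosed.card_roots_eq_natDegree, natDegree_map, charpoly_natDegree_eq_dim,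
      Fintype.card_fin]
  have hM1 : M.prod = 1 := by
    rw [hM, ← hfK, ← det_eq_prod_roots_charpoly]
    show ((algebraMap F K).mapMatrix (mat g)).det = 1
    rw [← RingHom.map_det, show (mat g).det = 1 from (g : SpecialLinearGroup (Fin n) F).2, map_one]
  have hnd : ¬ M.Nodup := fun h => hN0 (by
    have := eq_zero_of_nodup G N' (hc.map (algebraMap F K).mapMatrix)
      (hN.map (algebraMap F K).mapMatrix) (hfK ▸ h) (hfK ▸ hcard)
    exact Matrix.map_injective (algebraMap F K).injective (this.trans (by simp)))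
  have hGr : mat g ^ r = 1 := by rw [← mat_pow, hg]; rfl
  have hroot : ∀ z ∈ M, z ^ r = 1 := by
    intro z hz
    rw [hM, mem_roots hmon.ne_zero, ← hfK, IsRoot.def, eval_charpoly] at hz
    obtain ⟨v, hv, hv0⟩ := exists_mulVec_eq_zero_iff.2 hz
    rw [sub_mulVec, sub_eq_zero] at hv0
    have hGv : G *ᵥ v = z • v := by rw [← hv0]; ext i; simp [mulVec_diagonal]
    have hpow : ∀ j, (G ^ j) *ᵥ v = z ^ j • v := by
      intro j
      induction j with
      | zero => simp
      | succ j ih => rw [pow_succ', ← mulVec_mulVec, ih, mulVec_smul, hGv, smul_smul, pow_succ]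
    have h := hpow r
    rw [show G ^ r = 1 by
      show ((algebraMap F K).mapMatrix (mat g)) ^ r = 1
      rw [← map_pow, hGr, map_one], one_mulVec] at h
    exact smul_left_injective K hv (by simpa using h.symm)
  -- a root different from `1`
  obtain ⟨z, hz, hz1⟩ : ∃ z ∈ M, z ≠ 1 := by
    by_contra hno
    push Not at hno
    have h1 : fK = (X - C 1) ^ n := by
      rw [(IsAlgClosed.splits fK).eq_prod_roots_of_monic hmon, ← hM, Multiset.eq_replicate_of_mem hno,
        Multiset.map_replicate, Multiset.prod_replicate, hcard]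
    have h2 : (mat g).charpoly = (X - C 1) ^ n := by
      apply Polynomial.map_injective _ (algebraMap F K).injective
      simpa [fK] using h1
    have h3 : (mat g - 1) ^ n = 0 := by
      have := aeval_self_charpoly (mat g)
      rw [h2] at this
      simpa using this
    haveI : Nonempty (Fin n) := by
      by_contra he
      rw [not_nonempty_iff] at he
      exact hN0 (Subsingleton.elim _ _)
    haveI : CharP (Matrix (Fin n) (Fin n) F) p :=
      charP_of_injective_algebraMap (algebraMap F (Matrix (Fin n) (Fin n) F)).injective p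
    obtain ⟨e, he⟩ : ∃ e, n ≤ p ^ e := ⟨n, (Nat.lt_pow_self (Fact.out : p.Prime).one_lt).le⟩
    have h4 : mat g ^ p ^ e = 1 := by
      have := pow_eq_zero_of_le he h3
      rwa [sub_pow_char_pow_of_commute p e (Commute.one_right _), one_pow, sub_eq_zero] at this
    have h5 := pow_gcd_eq_one.2 ⟨hGr, h4⟩
    rw [Nat.Coprime.gcd_eq_one ((Nat.coprime_primes hr Fact.out).2 hrp |>.pow_right e), pow_one] at h5
    exact hg1 (Subtype.ext (Subtype.ext h5))
  have hzord : orderOf z = r := by
    exact orderOf_eq_prime (hroot z hz) hz1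
  -- `x ↦ (x ^ q)⁻¹` on exponents
  set u : ZMod r := -(q : ZMod r) with hu
  have hu0 : u ≠ 0 := by
    intro h
    rw [hu, neg_eq_zero, ZMod.natCast_eq_zero_iff] at h
    obtain ⟨f, hf⟩ := SpectrumPSU3.exists_exp (p := p) hF
    exact hrp ((Nat.prime_dvd_prime_iff_eq hr Fact.out).1 (hr.dvd_of_dvd_pow (hf ▸ h)))
  have hu1 : u ≠ 1 := by
    intro h
    apply hrq
    rw [← ZMod.natCast_eq_zero_iff]
    push_cast
    rw [← h, hu, add_neg_cancel]
  set d := orderOf u
  have hfin : IsOfFinOrder u := by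
    rw [isOfFinOrder_iff_pow_eq_one]
    exact ⟨r - 1, by have := hr.two_le; omega, ZMod.pow_card_sub_one_eq_one hu0⟩
  have hd0 : 0 < d := hfin.orderOf_pos
  have hd2 : 2 ≤ d := by
    rcases Nat.lt_or_ge d 2 with h | h
    · exact absurd (orderOf_eq_one_iff.1 (show orderOf u = 1 by omega)) hu1
    · exact h
  have hdvd : (r : ℤ) ∣ (q : ℤ) ^ d - (-1) ^ d := by
    rw [← ZMod.intCast_zmod_eq_zero_iff_dvd]
    push_cast
    have h := pow_orderOf_eq_one u
    rw [hu, neg_pow] at h
    have h1 : ((-1 : ZMod r)) ^ d * (-1) ^ d = 1 := by rw [← mul_pow, neg_one_mul, neg_neg, one_pow]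
    linear_combination ((-1 : ZMod r)) ^ d * h - (q : ZMod r) ^ d * h1
  refine ⟨d, hd2, ?_, hdvd⟩
  let orb : ℕ → K := fun i => z ^ (u ^ i).val
  have hinj : Set.InjOn orb (Finset.range d) := by
    intro i hi j hj h
    have h' : (u ^ i).val = (u ^ j).val :=
      pow_injOn_Iio_orderOf (hzord.symm ▸ ZMod.val_lt _ : (u ^ i).val < orderOf z)
        (hzord.symm ▸ ZMod.val_lt _ : (u ^ j).val < orderOf z) h
    exact pow_injOn_Iio_orderOf (Finset.mem_range.1 hi) (Finset.mem_range.1 hj) (ZMod.val_injective r h')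
  have horb : ∀ i, orb i ∈ M := by
    intro i
    induction i with
    | zero => simp only [orb, pow_zero, ZMod.val_one, pow_one]; exact hz
    | succ i ih =>
      rw [hM, mem_roots hmon.ne_zero] at ih ⊢
      have h := (SpectrumPSU3.root_inv_pow p hF g ih).2
      have e : ((orb i) ^ q)⁻¹ = orb (i + 1) := by
        refine inv_eq_of_mul_eq_one_left ?_
        simp only [orb]
        rw [← pow_mul, ← pow_add, ← orderOf_dvd_iff_pow_eq_one, hzord, ← ZMod.natCast_eq_zero_iff]
        push_cast
        rw [ZMod.natCast_zmod_val, ZMod.natCast_zmod_val, pow_succ, hu]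
        ring
      rwa [e] at h
  set O := (Multiset.range d).map orb with hO
  have hOnd : O.Nodup := (Multiset.nodup_range d).map_on fun i hi j hj h =>
    hinj (Finset.mem_range.2 (Multiset.mem_range.1 hi)) (Finset.mem_range.2 (Multiset.mem_range.1 hj)) h
  have hOM : O ≤ M := (Multiset.le_iff_subset hOnd).2 fun x hx => by
    obtain ⟨i, -, rfl⟩ := Multiset.mem_map.1 hx
    exact horb i
  have hOprod : O.prod = 1 := by
    have : O.prod = ∏ i ∈ Finset.range d, orb i := rfl
    rw [this, Finset.prod_pow_eq_pow_sum, ← orderOf_dvd_iff_pow_eq_one, hzord,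
      ← ZMod.natCast_eq_zero_iff]
    push_cast
    simp only [ZMod.natCast_zmod_val]
    have h := geom_sum_mul u d
    rw [pow_orderOf_eq_one, sub_self, mul_eq_zero] at h
    exact h.resolve_right (sub_ne_zero.2 hu1)
  have hOcard : O.card = d := by simp [hO]
  obtain ⟨R, hR⟩ := Multiset.le_iff_exists_add.1 hOM
  by_contra hlt
  apply hnd
  have hRc : R.card ≤ 1 := by
    have := congrArg Multiset.card hR
    rw [Multiset.card_add, hcard, hOcard] at this
    omega
  rw [hR]
  rcases Nat.le_one_iff_eq_zero_or_eq_one.1 hRc with h | h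
  · rw [Multiset.card_eq_zero.1 h, add_zero]; exact hOnd
  · obtain ⟨x, rfl⟩ := Multiset.card_eq_one.1 h
    rw [hR, Multiset.prod_add, hOprod, one_mul, Multiset.prod_singleton] at hM1
    rw [add_comm, Multiset.singleton_add, Multiset.nodup_cons]
    refine ⟨?_, hOnd⟩
    rw [hM1, hO, Multiset.mem_map]
    rintro ⟨i, -, hi⟩
    have : r ∣ (u ^ i).val := by
      exact (dvd_of_eq hzord.symm).trans (orderOf_dvd_of_pow_eq_one hi)
    rw [← ZMod.natCast_eq_zero_iff, ZMod.natCast_zmod_val] at this
    exact pow_ne_zero i hu0 this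

/-- Prime divisors of `|SU(k, q)|`. -/
theorem dvd_card_SU {F : Type*} [Field F] [Fintype F] {q k r : ℕ}
    (hF : Fintype.card F = q ^ 2) (hk : 2 ≤ k)
    (h : r ∣ q ∨ r ∣ q + 1 ∨ ∃ i, 2 ≤ i ∧ i ≤ k ∧ (r : ℤ) ∣ (q : ℤ) ^ i - (-1) ^ i) :
    r ∣ Nat.card (SU k F q) := by
  have hq := two_le_q hF
  have hGU := card_GU_eq_mul_card_SU (n := k) hF (by omega)
  rw [card_GU hF] at hGU
  obtain ⟨k', rfl⟩ : ∃ k', k = k' + 1 := ⟨k - 1, by omega⟩
  rw [Finset.prod_range_succ'] at hGU
  simp only [Even.zero, if_true, zero_add, pow_one] at hGU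
  rw [← mul_assoc, mul_comm (_ * _) (q + 1)] at hGU
  rw [Nat.eq_of_mul_eq_mul_left (by omega) hGU]
  rcases h with h | h | ⟨i, hi2, hik, h⟩
  · refine dvd_mul_of_dvd_left ?_ _
    refine h.trans (dvd_pow_self q ?_)
    have : 2 ≤ (k' + 1) * k' := Nat.mul_le_mul (show 2 ≤ k' + 1 by omega) (show 1 ≤ k' by omega)
    rw [Nat.add_sub_cancel]
    omega
  · refine dvd_mul_of_dvd_right (h.trans ?_) _
    refine dvd_trans ?_ (Finset.dvd_prod_of_mem _ (Finset.mem_range.2 (show 0 < k' by omega)))
    rw [if_neg (by decide)]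
    exact ⟨q - 1, by rw [← Nat.sq_sub_sq, one_pow]⟩
  · refine dvd_mul_of_dvd_right ?_ _
    refine dvd_trans ?_ (Finset.dvd_prod_of_mem _ (Finset.mem_range.2 (show i - 2 < k' by omega)))
    rw [show i - 2 + 1 + 1 = i by omega]
    rw [← Int.natCast_dvd_natCast]
    by_cases he : Even i
    · rw [if_neg (by rw [Nat.even_add_one]; simp [he, Nat.even_sub (show 2 ≤ i by omega)]),
        Nat.cast_sub (Nat.one_le_pow _ _ (by omega))]
      rw [he.neg_one_pow] at h
      simpa using h
    · rw [if_pos (by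
        rw [Nat.even_add_one]; simp [Nat.even_sub (show 2 ≤ i by omega), he])]
      rw [(Nat.not_even_iff_odd.1 he).neg_one_pow, sub_neg_eq_add] at h
      simpa using h

end Cfsg.Agent.SUCommutingUnipotent
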