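import Cfsg.Agent.Lib.TransvectionSymp
import Cfsg.Agent.Lib.TransvectionUnitaryGen

set_option autoImplicit false
open Cfsg

namespace Cfsg.Agent.UnitFourSymp44

open Cfsg.Agent.TransvectionMax
open scoped MatrixGroups Matrix


/-- See the source statement; bound lowered to n ≥ 4. -/
theorem maximal_symp {F : Type*} [Field F] [Fintype F] (n q : ℕ) (hF : Fintype.card F = q ^ 2) (hn : 4 ≤ n) (heven : Even n) (F₀ : Subfield F) (hcard : Fintype.card F = Nat.card F₀ ^ 2) (ζ : F) (hζ0 : ζ ≠ 0) (hζ : ζ + ζ ^ q = 0) (P : Matrix.GeneralLinearGroup (Fin n) F) (hP : Cfsg.Geo.IsFormRationalStructure (Cfsg.hermForm n F q) F₀ ζ P) (halt : ∀ u : Fin n → F, (∀ i, u i ∈ F₀) → Cfsg.hermForm n F q (Matrix.mulVec (P : Matrix (Fin n) (Fin n) F) u) (Matrix.mulVec (P : Matrix (Fin n) (Fin n) F) u) = 0) : Cfsg.Geo.IsMaximalIn (Cfsg.GU n F q ⊓ Cfsg.Geo.specialLinear (Fin n) F) (Cfsg.Geo.subfieldSubgroup F₀ P ⊓ (Cfsg.GU n F q ⊓ Cfsg.Geo.specialLinear (Fin n) F)) := by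
  obtain ⟨τ, hτ, hf⟩ := TransvectionUnitaryGen.herm_isUnitaryForm (n := n) hF
  set f := Cfsg.hermForm n F q
  have hq : Nat.card F₀ = q := by
    rw [hF] at hcard
    exact (Nat.pow_left_injective two_ne_zero hcard).symm
  have hfix : ∀ x : F, τ x = x ↔ x ∈ F₀ := by
    classical
    haveI : Fintype F₀ := Fintype.ofFinite F₀
    rw [Nat.card_eq_fintype_card] at hq
    have hin : ∀ x : F, x ∈ F₀ → τ x = x := fun x hx => by
      rw [hτ, ← hq]
      exact congrArg Subtype.val (FiniteField.pow_card (⟨x, hx⟩ : F₀))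
    have hq1 : 1 < q := hq ▸ Fintype.one_lt_card
    have hsub : (Finset.univ.image (fun x : F₀ => (x : F))) ⊆
        (Polynomial.X ^ q - Polynomial.X : Polynomial F).roots.toFinset := fun x hx => by
      obtain ⟨y, -, rfl⟩ := Finset.mem_image.mp hx
      rw [Multiset.mem_toFinset, Polynomial.mem_roots (FiniteField.X_pow_card_sub_X_ne_zero F hq1)]
      simp [← hτ, hin _ y.2]
    have hle : (Polynomial.X ^ q - Polynomial.X : Polynomial F).roots.toFinset.card ≤
        (Finset.univ.image (fun x : F₀ => (x : F))).card := by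
      rw [Finset.card_image_of_injective _ Subtype.val_injective, Finset.card_univ, hq]
      exact ((Multiset.toFinset_card_le _).trans (Polynomial.card_roots' _)).trans_eq
        (FiniteField.X_pow_card_sub_X_natDegree_eq F hq1)
    refine fun x => ⟨fun hx => ?_, hin x⟩
    have hm : x ∈ (Polynomial.X ^ q - Polynomial.X : Polynomial F).roots.toFinset := by
      rw [Multiset.mem_toFinset, Polynomial.mem_roots (FiniteField.X_pow_card_sub_X_ne_zero F hq1)]
      simp [← hτ, hx]
    rw [← Finset.eq_of_subset_of_card_le hsub hle] at hm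
    obtain ⟨y, -, rfl⟩ := Finset.mem_image.mp hm
    exact y.2
  have hζ' : τ ζ = -ζ := by rw [hτ]; linear_combination hζ
  let e : (Fin n → F₀) → (Fin n → F) := fun u i => (u i : F)
  have hex : ∀ (u : Fin n → F₀) i, τ (e u i) = e u i := fun u i => (hfix _).mpr (u i).2
  let R : (Fin n → F₀) → (Fin n → F) := fun u => (P : Matrix (Fin n) (Fin n) F) *ᵥ e u
  have he_add : ∀ u v, e (u + v) = e u + e v := fun u v => funext fun i => rfl
  have he_smul : ∀ (c : F₀) u, e (c • u) = (c : F) • e u := fun c u => funext fun i => rfl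
  have he_inj : Function.Injective e := fun u v h => funext fun i => Subtype.ext (congrFun h i)
  have hRadd : ∀ u v, R (u + v) = R u + R v := fun u v => by simp only [R, he_add, Matrix.mulVec_add]
  have hRsmul : ∀ (c : F₀) u, R (c • u) = (c : F) • R u := fun c u => by
    simp only [R, he_smul, Matrix.mulVec_smul]
  have hR0 : R 0 = 0 := by
    have h := hRsmul 0 0
    rw [zero_smul] at h
    rw [h, ZeroMemClass.coe_zero, zero_smul]
  have hRinj : Function.Injective R := fun u v h => he_inj (act_injective P h)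
  have hmem : ∀ u v, ζ * f (R u) (R v) ∈ F₀ := fun u v => hP _ _ (fun i => (u i).2) (fun i => (v i).2)
  have hskew : ∀ u v, τ (f (R u) (R v)) = - f (R u) (R v) := fun u v => by
    have h := (hfix _).mpr (hmem u v)
    rw [map_mul, hζ'] at h
    apply mul_left_cancel₀ hζ0
    linear_combination -h
  have hiso0 : ∀ u, f (R u) (R u) = 0 := fun u => halt _ fun i => (u i).2
  let f0 : (Fin n → F₀) → (Fin n → F₀) → F₀ := fun u v => ⟨ζ * f (R u) (R v), hmem u v⟩
  have hspan : ∀ y : Fin n → F, (P : Matrix (Fin n) (Fin n) F) *ᵥ y = ∑ i, y i • R (Pi.single i 1) := by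
    intro y
    have hy : y = ∑ i, y i • e (Pi.single i 1) := funext fun j => by
      simp [e, Pi.single_apply, Finset.sum_apply, apply_ite]
    conv_lhs => rw [hy]
    rw [Matrix.mulVec_sum]
    simp only [Matrix.mulVec_smul, R]
  have hgen : ∀ x, ∃ y : Fin n → F, x = (P : Matrix (Fin n) (Fin n) F) *ᵥ y := fun x =>
    ⟨_, (act_inv_act P x).symm⟩
  have hf0 : Cfsg.Geo.IsSymplecticForm f0 := by
    refine ⟨⟨?_, ?_, ?_, ?_⟩, ?_, fun u => ?_, ?_⟩
    · intro x y v; apply Subtype.ext
      change ζ * f (R (x + y)) (R v) = ζ * f (R x) (R v) + ζ * f (R y) (R v)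
      rw [hRadd, hf.add_left, mul_add]
    · intro c x v; apply Subtype.ext
      change ζ * f (R (c • x)) (R v) = c * (ζ * f (R x) (R v))
      rw [hRsmul, hf.smul_left]; ring
    · intro v x y; apply Subtype.ext
      change ζ * f (R v) (R (x + y)) = ζ * f (R v) (R x) + ζ * f (R v) (R y)
      rw [hRadd, TransvectionUnitary.add_right hf, mul_add]
    · intro c v x; apply Subtype.ext
      change ζ * f (R v) (R (c • x)) = c * (ζ * f (R v) (R x))
      rw [hRsmul, TransvectionUnitary.smul_right hf, (hfix _).mpr c.2]; ring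
    · intro v w; apply Subtype.ext
      change ζ * f (R v) (R w) = -(ζ * f (R w) (R v))
      rw [← TransvectionUnitary.sigma_f hf (R w) (R v), hskew]; ring
    · apply Subtype.ext
      change ζ * f (R u) (R u) = 0
      rw [hiso0, mul_zero]
    · intro v hv
      obtain ⟨i, hi⟩ : ∃ i, f (R (Pi.single i 1)) (R v) ≠ 0 := by
        by_contra! h
        refine hv (hRinj ?_)
        rw [hR0]
        by_contra h0
        obtain ⟨x, hx⟩ := (hf.nondegenerate _ h0).1
        obtain ⟨y, rfl⟩ := hgen x
        apply hx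
        change TransvectionUnitary.uLeft hf (R v) _ = 0
        rw [hspan, map_sum]
        refine Finset.sum_eq_zero fun i _ => ?_
        change f (y i • R (Pi.single i 1)) (R v) = 0
        rw [hf.smul_left, h i, mul_zero]
      refine ⟨⟨Pi.single i 1, fun h0 => ?_⟩, ⟨Pi.single i 1, fun h0 => ?_⟩⟩
      · exact hi ((mul_eq_zero.mp (congrArg Subtype.val h0)).resolve_left hζ0)
      · exact hi (TransvectionUnitary.skew_zero hf
          ((mul_eq_zero.mp (congrArg Subtype.val h0)).resolve_left hζ0))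
  have hb0 := hf0.bilinear
  -- scalar extension
  let φ : GL (Fin n) F₀ →* GL (Fin n) F :=
    (MulAut.conj P).toMonoidHom.comp (Matrix.GeneralLinearGroup.map (F₀.subtype : F₀ →+* F))
  have hφ : ∀ (h : GL (Fin n) F₀) u, (φ h : Matrix (Fin n) (Fin n) F) *ᵥ R u =
      R ((h : Matrix (Fin n) (Fin n) F₀) *ᵥ u) := by
    intro h u
    change ((P * Matrix.GeneralLinearGroup.map (F₀.subtype : F₀ →+* F) h * P⁻¹ : GL (Fin n) F) :
      Matrix (Fin n) (Fin n) F) *ᵥ R u = _
    rw [mul_act, mul_act, inv_act_act]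
    simp only [R]
    congr 1
    funext i
    exact (RingHom.map_mulVec (F₀.subtype : F₀ →+* F) (h : Matrix (Fin n) (Fin n) F₀) u i).symm
  have hφmem : ∀ h, φ h ∈ Cfsg.Geo.subfieldSubgroup F₀ P := fun h =>
    Subgroup.mem_map_of_mem (MulAut.conj P).toMonoidHom (Subgroup.mem_sup_left ⟨h, rfl⟩)
  have hRext : ∀ {g h : GL (Fin n) F},
      (∀ u, (g : Matrix (Fin n) (Fin n) F) *ᵥ R u = (h : Matrix (Fin n) (Fin n) F) *ᵥ R u) → g = h := by
    intro g h H
    refine gl_ext fun x => ?_
    obtain ⟨y, rfl⟩ := hgen x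
    rw [hspan, Matrix.mulVec_sum, Matrix.mulVec_sum]
    refine Finset.sum_congr rfl fun i _ => ?_
    rw [Matrix.mulVec_smul, Matrix.mulVec_smul, H]
  set K := Cfsg.GU n F q ⊓ Cfsg.Geo.specialLinear (Fin n) F
  set H := Cfsg.Geo.subfieldSubgroup F₀ P ⊓ K
  have hutK : ∀ {b} c, f b b = 0 → τ c = -c → ft f b (τ c • b) ∈ K := fun {b} c hb hc =>
    ⟨fun x y => TransvectionUnitary.ut_preserves hf hb hc x y, ft_mem_sl f b _⟩
  have hutH : ∀ u c, τ c = -c → ft f (R u) (τ c • R u) ∈ H := by
    intro u c hc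
    have hc' : c / ζ ∈ F₀ := (hfix _).mp (by rw [map_div₀, hc, hζ', neg_div_neg_eq])
    have heq : ft f (R u) (τ c • R u) = φ (st f0 u ⟨c / ζ, hc'⟩) := hRext fun x => by
      rw [TransvectionUnitary.ut_act hf (hiso0 u), hφ, st_act hf0, hRadd, hRsmul]
      congr 2
      change c * f (R x) (R u) = c / ζ * (ζ * f (R x) (R u))
      rw [← mul_assoc, div_mul_cancel₀ _ hζ0]
    exact ⟨heq ▸ hφmem _, hutK c (hiso0 u) hc⟩
  -- which elements lie in the subfield group
  have hsub : ∀ g : GL (Fin n) F, g ∈ Cfsg.Geo.subfieldSubgroup F₀ P ↔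
      ∀ u, ∃ k : F, ∃ w, (g : Matrix (Fin n) (Fin n) F) *ᵥ R u = k • R w := by
    intro g
    constructor
    · intro hg u
      obtain ⟨g', hg', rfl⟩ := Subgroup.mem_map.mp hg
      obtain ⟨a, ⟨h, rfl⟩, b, hb, rfl⟩ := Subgroup.mem_sup_of_normal_right.mp hg'
      obtain ⟨c, hc⟩ := (Cfsg.Geo.mem_scalars_iff b).mp hb
      refine ⟨c, (h : Matrix (Fin n) (Fin n) F₀) *ᵥ u, ?_⟩
      rw [map_mul, mul_act, ← hφ h u, ← Matrix.mulVec_smul]
      congr 1
      change ((P * b * P⁻¹ : GL (Fin n) F) : Matrix (Fin n) (Fin n) F) *ᵥ R u = _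
      rw [mul_act, mul_act, inv_act_act, hc, Matrix.smul_mulVec, Matrix.one_mulVec, Matrix.mulVec_smul]
    · intro hg
      set A : GL (Fin n) F := P⁻¹ * g * P
      have hA : ∀ u, ∃ k : F, ∃ w, (A : Matrix (Fin n) (Fin n) F) *ᵥ e u = k • e w := fun u => by
        obtain ⟨k, w, hw⟩ := hg u
        refine ⟨k, w, ?_⟩
        rw [mul_act, mul_act, hw, Matrix.mulVec_smul, inv_act_act]
      choose k w hkw using fun i => hA (Pi.single i 1)
      have hesingle : ∀ i, e (Pi.single i (1 : F₀)) = (Pi.single i (1 : F) : Fin n → F) := fun i =>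
        funext fun j => by simp [e, Pi.single_apply, apply_ite]
      have hk0 : ∀ i, k i ≠ 0 := fun i h => by
        have := hkw i
        rw [h, zero_smul, hesingle] at this
        exact act_ne_zero A (by simp) this
      set i0 : Fin n := ⟨0, by omega⟩
      have hratio : ∀ j, k j / k i0 ∈ F₀ := by
        intro j
        rcases eq_or_ne j i0 with rfl | hj
        · rw [div_self (hk0 _)]; exact F₀.one_mem
        obtain ⟨m, z, hz⟩ := hA (Pi.single i0 1 + Pi.single j 1)
        rw [he_add, Matrix.mulVec_add, hkw, hkw] at hz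
        have hindep : ∀ a b : F, a • e (w i0) + b • e (w j) = 0 → a = 0 ∧ b = 0 := by
          intro a b h
          have h' : (A : Matrix (Fin n) (Fin n) F) *ᵥ
              ((a / k i0) • e (Pi.single i0 1) + (b / k j) • e (Pi.single j 1)) = 0 := by
            rw [Matrix.mulVec_add, Matrix.mulVec_smul, Matrix.mulVec_smul, hkw, hkw, smul_smul, smul_smul,
              div_mul_cancel₀ _ (hk0 _), div_mul_cancel₀ _ (hk0 _), h]
          have h'' : (a / k i0) • e (Pi.single i0 1) + (b / k j) • e (Pi.single j 1) = 0 :=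
            act_injective A (by simpa using h')
          rw [hesingle, hesingle] at h''
          have h1 := congrFun h'' i0
          have h2 := congrFun h'' j
          simp only [Pi.add_apply, Pi.smul_apply, Pi.single_eq_same, Pi.single_eq_of_ne hj,
            Pi.single_eq_of_ne hj.symm, smul_eq_mul, mul_one, mul_zero, add_zero, zero_add, Pi.zero_apply,
            div_eq_zero_iff, hk0, or_false] at h1 h2
          exact ⟨h1, h2⟩
        have hm : m ≠ 0 := fun h0 => hk0 i0 (hindep _ _ (by rw [hz, h0, zero_smul])).1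
        obtain ⟨h1, h2⟩ := hindep (k i0 / m - τ (k i0 / m)) (k j / m - τ (k j / m)) (funext fun r => by
          have hr := congrFun hz r
          simp only [Pi.add_apply, Pi.smul_apply, smul_eq_mul] at hr
          have hr' : k i0 / m * e (w i0) r + k j / m * e (w j) r = e z r := by
            field_simp
            linear_combination hr
          have hr'' := congrArg τ hr'
          rw [map_add, map_mul, map_mul, hex, hex, hex] at hr''
          simp only [Pi.add_apply, Pi.smul_apply, smul_eq_mul, Pi.zero_apply]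
          linear_combination hr' - hr'')
        refine (hfix _).mp ?_
        rw [← div_div_div_cancel_right₀ hm (k j) (k i0), map_div₀, ← sub_eq_zero.mp h1, ← sub_eq_zero.mp h2]
      let B : Matrix (Fin n) (Fin n) F₀ := fun r c => ⟨k c / k i0, hratio c⟩ * w c r
      have hAB : (A : Matrix (Fin n) (Fin n) F) = k i0 • B.map (F₀.subtype : F₀ →+* F) := by
        refine Matrix.ext_of_mulVec_single fun c => ?_
        rw [← hesingle, hkw, Matrix.smul_mulVec, hesingle, Matrix.mulVec_single_one]
        funext r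
        change k c * (w c r : F) = k i0 * (k c / k i0 * (w c r : F))
        rw [← mul_assoc, mul_div_cancel₀ _ (hk0 i0)]
      have hBdet : B.det ≠ 0 := by
        intro h
        have h1 : (A : Matrix (Fin n) (Fin n) F).det = 0 := by
          rw [hAB, Matrix.det_smul,
            show B.map (F₀.subtype : F₀ →+* F) = (F₀.subtype : F₀ →+* F).mapMatrix B from rfl,
            ← RingHom.map_det, h, map_zero, mul_zero]
        exact A.det_ne_zero h1
      have hAeq : A = Matrix.GeneralLinearGroup.map (F₀.subtype : F₀ →+* F)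
          (Matrix.GeneralLinearGroup.mkOfDetNeZero B hBdet) *
          Units.map (Matrix.scalar (Fin n) : F →+* Matrix (Fin n) (Fin n) F).toMonoidHom
            (Units.mk0 (k i0) (hk0 i0)) := by
        apply Units.ext
        rw [hAB, Units.val_mul]
        simp [Matrix.smul_eq_mul_diagonal, Matrix.GeneralLinearGroup.mkOfDetNeZero,
          Matrix.GeneralLinearGroup.map]
      refine Subgroup.mem_map.mpr ⟨A, ?_, ?_⟩
      · rw [hAeq]
        exact Subgroup.mul_mem _ (Subgroup.mem_sup_left ⟨_, rfl⟩) (Subgroup.mem_sup_right ⟨_, rfl⟩)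
      · change P * A * P⁻¹ = g
        simp only [A]
        group
  -- decomposition of vectors
  obtain ⟨θ, hθ⟩ := TransvectionUnitary.exists_not_fixed hf.ne_refl
  have hdec : ∀ v, ∃ a b, v = R a + θ • R b := by
    intro v
    obtain ⟨y, rfl⟩ := hgen v
    have hθ' : θ - τ θ ≠ 0 := sub_ne_zero.mpr (Ne.symm hθ)
    have hb : ∀ i, (y i - τ (y i)) / (θ - τ θ) ∈ F₀ := fun i => (hfix _).mp (by
      rw [map_div₀, map_sub, map_sub, TransvectionUnitary.sigma_sigma hf,
        TransvectionUnitary.sigma_sigma hf, ← neg_sub (y i), ← neg_sub θ, neg_div_neg_eq])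
    have ha : ∀ i, y i - θ * ((y i - τ (y i)) / (θ - τ θ)) ∈ F₀ := fun i => (hfix _).mp (by
      rw [map_sub, map_mul, (hfix _).mpr (hb i)]
      field_simp
      ring)
    refine ⟨fun i => ⟨_, ha i⟩, fun i => ⟨_, hb i⟩, ?_⟩
    simp only [R]
    rw [← Matrix.mulVec_smul, ← Matrix.mulVec_add]
    congr 1
    funext i
    simp [e]
  have horth : ∀ a b, f (R a + θ • R b) (R a + θ • R b) = 0 → f0 a b = 0 := by
    intro a b h
    apply Subtype.ext
    change ζ * f (R a) (R b) = 0
    rw [hf.add_left, TransvectionUnitary.add_right hf, TransvectionUnitary.add_right hf, hf.smul_left,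
      hf.smul_left, TransvectionUnitary.smul_right hf, TransvectionUnitary.smul_right hf, hiso0, hiso0,
      ← TransvectionUnitary.sigma_f hf (R a) (R b), hskew] at h
    have h' : (τ θ - θ) * f (R a) (R b) = 0 := by linear_combination h
    rw [(mul_eq_zero.mp h').resolve_left (sub_ne_zero.mpr hθ), mul_zero]
  have hisov : ∀ {a b}, f0 a b = 0 → f (R a + θ • R b) (R a + θ • R b) = 0 := by
    intro a b h
    have h' : f (R a) (R b) = 0 := (mul_eq_zero.mp (congrArg Subtype.val h)).resolve_left hζ0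
    simp [hf.add_left, TransvectionUnitary.add_right hf, hf.smul_left, TransvectionUnitary.smul_right hf,
      hiso0, h', TransvectionUnitary.skew_zero hf h']
  obtain ⟨c0, hc0, hc0'⟩ := TransvectionUnitary.exists_tz hf
  refine ⟨lt_of_le_of_ne inf_le_right ?_, fun M hHM hMK => ?_⟩
  · intro he
    obtain ⟨a, ha0⟩ : ∃ a : Fin n → F₀, a ≠ 0 := ⟨Pi.single ⟨0, by omega⟩ 1, by simp⟩
    obtain ⟨b, hab, hba⟩ : ∃ b, f0 a b = 0 ∧ b ∉ Submodule.span F₀ {a} := by
      by_contra! h
      have h1 := Submodule.finrank_mono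
        (show LinearMap.ker (fRight hb0 a) ≤ Submodule.span F₀ {a} from fun b hb => h b hb)
      have h2 := LinearMap.finrank_range_add_finrank_ker (fRight hb0 a)
      have h3 : Module.finrank F₀ (LinearMap.range (fRight hb0 a)) ≤ 1 :=
        (Submodule.finrank_le _).trans_eq (Module.finrank_self F₀)
      rw [finrank_span_singleton ha0] at h1
      rw [Module.finrank_fin_fun] at h2
      omega
    have hb_ne : b ≠ 0 := fun h => hba (h ▸ Submodule.zero_mem _)
    have hab' : a ∉ Submodule.span F₀ {b} := fun h => by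
      obtain ⟨c, hc⟩ := Submodule.mem_span_singleton.mp h
      rcases eq_or_ne c 0 with rfl | hc'
      · exact ha0 (by simpa using hc.symm)
      · exact hba (Submodule.mem_span_singleton.mpr ⟨c⁻¹, by rw [← hc, smul_smul, inv_mul_cancel₀ hc', one_smul]⟩)
    obtain ⟨x, hxb, hxa⟩ := TransvectionSymp.exists_perp_ne hf0 hab'
    have hfxb : f (R x) (R b) = 0 := by
      have := TransvectionSymp.skew_zero hf0 (hxb b (Submodule.mem_span_singleton_self b))
      exact (mul_eq_zero.mp (congrArg Subtype.val this)).resolve_left hζ0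
    have hfxa : f (R x) (R a) ≠ 0 := fun h0 =>
      TransvectionSymp.skew_ne hf0 hxa (Subtype.ext (by change ζ * _ = 0; rw [h0, mul_zero]))
    have hfab : f (R a) (R b) = 0 := (mul_eq_zero.mp (congrArg Subtype.val hab)).resolve_left hζ0
    have hv := hisov hab
    set v := R a + θ • R b with hvdef
    have ht := hutK c0 hv hc0'
    rw [← he] at ht
    obtain ⟨k, w, hkw⟩ := (hsub _).mp ht.1 x
    rw [TransvectionUnitary.ut_act hf hv, hvdef, TransvectionUnitary.add_right hf,
      TransvectionUnitary.smul_right hf, hfxb, mul_zero, add_zero] at hkw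
    set d := c0 * f (R x) (R a) with hd
    have hd0 : d ≠ 0 := mul_ne_zero hc0 hfxa
    have hdfix : τ d = d := by rw [hd, map_mul, hc0', hskew]; ring
    have hk : k ≠ 0 := by
      intro h0
      rw [h0, zero_smul] at hkw
      have := congrArg (fun z => f z (R a)) hkw
      simp only [hf.add_left, hf.smul_left, hiso0, TransvectionUnitary.skew_zero hf hfab,
        TransvectionUnitary.zero_left hf, mul_zero, add_zero] at this
      exact hfxa this
    -- coordinates are fixed by τ
    have hcoord : (1 / k - τ (1 / k)) • R x + (d / k - τ (d / k)) • R a + (d * θ / k - τ (d * θ / k)) • R b = 0 := by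
      have h1 : (1 / k - τ (1 / k)) • e x + (d / k - τ (d / k)) • e a + (d * θ / k - τ (d * θ / k)) • e b = 0 := by
        have h2 : e x + d • (e a + θ • e b) = k • e w := act_injective P (by
          simpa only [Matrix.mulVec_add, Matrix.mulVec_smul] using hkw)
        funext i
        have h3 := congrFun h2 i
        simp only [Pi.add_apply, Pi.smul_apply, smul_eq_mul] at h3
        have h4 : (1 / k) * e x i + (d / k) * e a i + (d * θ / k) * e b i = e w i := by
          field_simp
          linear_combination h3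
        have h5 := congrArg τ h4
        simp only [map_add, map_mul, hex] at h5
        simp only [Pi.add_apply, Pi.smul_apply, smul_eq_mul, Pi.zero_apply]
        linear_combination h4 - h5
      have h6 := congrArg (fun z => (P : Matrix (Fin n) (Fin n) F) *ᵥ z) h1
      simpa only [Matrix.mulVec_add, Matrix.mulVec_smul, Matrix.mulVec_zero] using h6
    have hα : τ (1 / k) = 1 / k := by
      have := congrArg (fun z => f z (R a)) hcoord
      simp only [hf.add_left, hf.smul_left, hiso0, TransvectionUnitary.skew_zero hf hfab,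
        TransvectionUnitary.zero_left hf, mul_zero, add_zero] at this
      exact (sub_eq_zero.mp ((mul_eq_zero.mp this).resolve_right hfxa)).symm
    have hkfix : τ k = k := by
      rw [map_div₀, map_one, one_div, one_div] at hα
      exact inv_injective hα
    have hRb : R b ≠ 0 := fun h => hb_ne (hRinj (h.trans hR0.symm))
    rw [hα, sub_self, zero_smul, zero_add, map_div₀ τ d k, map_div₀ τ (d * θ) k, map_mul τ d θ, hdfix, hkfix, sub_self,
      zero_smul, zero_add] at hcoord
    have h7 := (smul_eq_zero.mp hcoord).resolve_right hRb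
    apply hθ
    field_simp at h7
    apply mul_left_cancel₀ hd0
    linear_combination -h7
  by_cases hMH : M ≤ Cfsg.Geo.subfieldSubgroup F₀ P
  · exact Or.inl (le_antisymm (le_inf hMH hMK) hHM)
  refine Or.inr (le_antisymm hMK ?_)
  obtain ⟨g, hgM, hgn⟩ := Set.not_subset.mp hMH
  let S : (Fin n → F) → Prop := fun v => f v v = 0 ∧ ∀ c, τ c = -c → ft f v (τ c • v) ∈ M
  have hSconj : ∀ {h : GL (Fin n) F}, h ∈ M → ∀ {v}, S v →
      S ((h : Matrix (Fin n) (Fin n) F) *ᵥ v) := by
    intro h hh v hv
    have hiso : ∀ x y, f ((h : Matrix (Fin n) (Fin n) F) *ᵥ x) ((h : Matrix (Fin n) (Fin n) F) *ᵥ y) = f x y :=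
      fun x y => (hMK hh).1 x y
    refine ⟨by rw [hiso, hv.1], fun c hc => ?_⟩
    have hvc : f v (τ c • v) = 0 := by rw [TransvectionUnitary.smul_right hf, hv.1, mul_zero]
    have := TransvectionUnitary.ft_conj hf hiso hvc
    rw [Matrix.mulVec_smul] at this
    rw [← this]
    exact M.mul_mem (M.mul_mem hh (hv.2 c hc)) (M.inv_mem hh)
  have hSsmul : ∀ (s : F) {v}, S v → S (s • v) := by
    intro s v hv
    have hz : f (s • v) (s • v) = 0 := by
      rw [hf.smul_left, TransvectionUnitary.smul_right hf, hv.1, mul_zero, mul_zero]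
    refine ⟨hz, fun c hc => ?_⟩
    have hc' : τ (c * τ s * s) = -(c * τ s * s) := by
      rw [map_mul, map_mul, hc, TransvectionUnitary.sigma_sigma hf]; ring
    have : ft f (s • v) (τ c • s • v) = ft f v (τ (c * τ s * s) • v) := gl_ext fun x => by
      rw [TransvectionUnitary.ut_act hf hz, TransvectionUnitary.ut_act hf hv.1,
        TransvectionUnitary.smul_right hf, smul_smul]
      congr 2
      ring
    rw [this]
    exact hv.2 _ hc'
  have hSrat : ∀ u, S (R u) := fun u => ⟨hiso0 u, fun c hc => hHM (hutH u c hc)⟩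
  -- a non-rational centre
  obtain ⟨v0, hv0, hv0n⟩ : ∃ v, S v ∧ ∀ k : F, ∀ w, v ≠ k • R w := by
    by_contra! hcon
    apply hgn
    exact (hsub g).mpr fun u => hcon _ (hSconj hgM (hSrat u))
  obtain ⟨a0, b0, hab0⟩ := hdec v0
  have horth0 : f0 a0 b0 = 0 := horth _ _ (hab0 ▸ hv0.1)
  have ha0 : a0 ≠ 0 := fun h => hv0n θ b0 (by rw [hab0, h, hR0, zero_add])
  have hb00 : b0 ∉ Submodule.span F₀ {a0} := fun h => by
    obtain ⟨c, hc⟩ := Submodule.mem_span_singleton.mp h
    exact hv0n (1 + θ * c) a0 (by rw [hab0, ← hc, hRsmul, smul_smul, add_smul, one_smul])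
  -- symplectic transitivity on orthogonal pairs
  let Pr : (Fin n → F₀) → (Fin n → F₀) → Prop := fun a b => S (R a + θ • R b)
  have hmove : ∀ u c {a b}, Pr a b → Pr ((st f0 u c : Matrix (Fin n) (Fin n) F₀) *ᵥ a)
      ((st f0 u c : Matrix (Fin n) (Fin n) F₀) *ᵥ b) := by
    intro u c a b h
    have hc : τ ((c : F) * ζ) = -((c : F) * ζ) := by rw [map_mul, (hfix _).mpr c.2, hζ']; ring
    have := hSconj (hHM (hutH u _ hc)) h
    rw [Matrix.mulVec_add, Matrix.mulVec_smul] at this
    have heq : ∀ x, (ft f (R u) (τ ((c : F) * ζ) • R u) : Matrix (Fin n) (Fin n) F) *ᵥ R x =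
        R ((st f0 u c : Matrix (Fin n) (Fin n) F₀) *ᵥ x) := fun x => by
      rw [TransvectionUnitary.ut_act hf (hiso0 u), st_act hf0, hRadd, hRsmul]
      congr 2
      change (c : F) * ζ * f (R x) (R u) = c * (ζ * f (R x) (R u))
      ring
    rwa [heq, heq] at this
  have hreach : ∀ a', a' ≠ 0 → ∃ b', f0 a' b' = 0 ∧ b' ∉ Submodule.span F₀ {a'} ∧ Pr a' b' := by
    have step : ∀ {a b}, f0 a b = 0 → b ∉ Submodule.span F₀ {a} → Pr a b → ∀ {a'}, f0 a a' ≠ 0 →
        ∃ b', f0 a' b' = 0 ∧ b' ∉ Submodule.span F₀ {a'} ∧ Pr a' b' := by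
      intro a b hab hb h a' ha'
      have e1 := st_move hf0 ha'
      refine ⟨(st f0 (a' - a) (f0 a a')⁻¹ : Matrix (Fin n) (Fin n) F₀) *ᵥ b, ?_, fun hs => ?_, ?_⟩
      · conv_lhs => arg 1; rw [← e1]
        rw [st_preserves hf0, hab]
      · obtain ⟨s, hs⟩ := Submodule.mem_span_singleton.mp hs
        refine hb (Submodule.mem_span_singleton.mpr ⟨s, act_injective (st f0 (a' - a) (f0 a a')⁻¹) ?_⟩)
        change _ *ᵥ (s • a) = _
        rw [Matrix.mulVec_smul, e1, hs]
      · have := hmove (a' - a) (f0 a a')⁻¹ h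
        rwa [e1] at this
    intro a' ha'
    obtain ⟨z, hz1, hz2⟩ := exists_common hf0 ha0 ha'
    obtain ⟨b1, h1, h2, h3⟩ := step horth0 hb00 (show Pr a0 b0 by rw [hab0] at hv0; exact hv0)
      (TransvectionSymp.skew_ne hf0 hz1)
    exact step h1 h2 h3 hz2
  have hpairs : ∀ a b, a ≠ 0 → f0 a b = 0 → b ∉ Submodule.span F₀ {a} → Pr a b := by
    intro a b ha hab hb
    obtain ⟨b1, hab1, hb1, h1⟩ := hreach a ha
    have step : ∀ {x y}, f0 a x = 0 → f0 a y = 0 → f0 x y ≠ 0 → Pr a x → Pr a y := by
      intro x y hx hy hxy h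
      have hfixa : (st f0 (y - x) (f0 x y)⁻¹ : Matrix (Fin n) (Fin n) F₀) *ᵥ a = a :=
        st_fix hf0 _ _ (by rw [TransvectionMax.sub_right hb0, hy, hx, sub_self])
      have := hmove (y - x) (f0 x y)⁻¹ h
      rwa [hfixa, st_move hf0 hxy] at this
    have hexist : ∀ {y}, y ∉ Submodule.span F₀ {a} →
        ∃ z ∈ LinearMap.ker (fRight hb0 a), f0 z y ≠ 0 := by
      intro y hy
      obtain ⟨z, hz, hyz⟩ := TransvectionSymp.exists_perp_ne hf0 hy
      exact ⟨z, hz a (Submodule.mem_span_singleton_self a), TransvectionSymp.skew_ne hf0 hyz⟩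
    obtain ⟨z, hza, hz1, hz2⟩ := TransvectionSymp.exists_common_on hf0 (hexist hb1) (hexist hb)
    exact step hza hab hz2 (step hab1 hza (TransvectionSymp.skew_ne hf0 hz1) h1)
  have hSall : ∀ v, f v v = 0 → S v := by
    intro v hv
    obtain ⟨a, b, rfl⟩ := hdec v
    by_cases ha : a = 0
    · subst ha
      simpa [hR0] using hSsmul θ (hSrat b)
    by_cases hb : b ∈ Submodule.span F₀ {a}
    · obtain ⟨c, rfl⟩ := Submodule.mem_span_singleton.mp hb
      have := hSsmul (1 + θ * c) (hSrat a)
      rwa [add_smul, one_smul, ← smul_smul, ← hRsmul] at this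
    exact hpairs a b ha (horth a b hv) hb
  intro g hg
  refine TransvectionUnitaryGen.su_mem_of_even hf ?_ (fun b c hb hc => (hSall b hb).2 c hc) hg.1 hg.2
  simpa using heven

end Cfsg.Agent.UnitFourSymp44
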