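import Cfsg.Agent.Lib.OrthUnitaryMaximal
import Cfsg.Agent.Lib.UnitFourSymp44

/-! SU_4(q): totally isotropic subspaces, non-degenerate points, symplectic subfield groups. -/

set_option autoImplicit false
open Cfsg

namespace Cfsg.Agent.SUFourEasy44

theorem maximal_isotropic {F : Type*} [Field F] [Fintype F] (q : ℕ) (hF : Fintype.card F = q ^ 2) :
    (∀ W : Submodule F (Fin 4 → F), W ≠ ⊥ → Cfsg.Geo.IsTotallySingularFor (Cfsg.hermForm 4 F q) W → Cfsg.Geo.IsMaximalIn (Cfsg.GU 4 F q ⊓ Cfsg.Geo.specialLinear (Fin 4) F) (Cfsg.Geo.subspaceStabilizer W ⊓ (Cfsg.GU 4 F q ⊓ Cfsg.Geo.specialLinear (Fin 4) F))) :=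
  fun W h0 hW => OrthUnitaryMaximal.max_isotropic hF le_rfl h0 hW

theorem maximal_nondeg {F : Type*} [Field F] [Fintype F] (q : ℕ) (hF : Fintype.card F = q ^ 2) :
    (∀ W : Submodule F (Fin 4 → F), W ≠ ⊥ → Cfsg.Geo.IsNondegenerateOn (Cfsg.hermForm 4 F q) W → 2 * Module.finrank F W < 4 → Cfsg.Geo.IsMaximalIn (Cfsg.GU 4 F q ⊓ Cfsg.Geo.specialLinear (Fin 4) F) (Cfsg.Geo.subspaceStabilizer W ⊓ (Cfsg.GU 4 F q ⊓ Cfsg.Geo.specialLinear (Fin 4) F))) := by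
  intro W hW0 hW hdim
  have hk : Module.finrank F W = 1 := by
    have : Module.finrank F W ≠ 0 := fun h => hW0 (Submodule.finrank_eq_zero.1 h)
    omega
  refine OrthUnitaryMaximal.max_nondeg (k := 1) (m := 3) hF le_rfl (by norm_num) le_rfl hk fun u hu h => ?_
  by_contra hu0
  obtain ⟨-, x, hx, hux⟩ := hW u hu hu0
  exact hux (h x hx)

theorem maximal_symp_subfield {F : Type*} [Field F] [Fintype F] (q : ℕ) (hF : Fintype.card F = q ^ 2) :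
    (∀ (F₀ : Subfield F) (P : Matrix.GeneralLinearGroup (Fin 4) F) (ζ : F), Fintype.card F = Nat.card F₀ ^ 2 → ζ ≠ 0 → ζ + ζ ^ q = 0 → Cfsg.Geo.IsFormRationalStructure (Cfsg.hermForm 4 F q) F₀ ζ P → (∀ u : Fin 4 → F, (∀ i, u i ∈ F₀) → (Cfsg.hermForm 4 F q) (Matrix.mulVec (P : Matrix (Fin 4) (Fin 4) F) u) (Matrix.mulVec (P : Matrix (Fin 4) (Fin 4) F) u) = 0) → Cfsg.Geo.IsMaximalIn (Cfsg.GU 4 F q ⊓ Cfsg.Geo.specialLinear (Fin 4) F) (Cfsg.Geo.subfieldSubgroup F₀ P ⊓ (Cfsg.GU 4 F q ⊓ Cfsg.Geo.specialLinear (Fin 4) F))) :=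
  fun F₀ P ζ hc hζ0 hζ hP halt =>
    UnitFourSymp44.maximal_symp 4 q hF le_rfl (by decide) F₀ hc ζ hζ0 hζ P hP halt

end Cfsg.Agent.SUFourEasy44
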