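import Cfsg.Agent.Lib.SUThree38MonoAct
import Cfsg.Agent.Lib.UnitaryFrameGlue84
import Cfsg.Agent.Lib.SU3InvolGeom
import Cfsg.Prelude.Def_GeometricClasses

/-!
The stabiliser of a frame of three orthogonal anisotropic lines is maximal in `SU_3(q)`, `q ≥ 3`, `q ≠ 5`.
-/

set_option autoImplicit false
set_option linter.unusedSectionVars false
set_option linter.unusedVariables false

namespace Cfsg.Agent.SUThree38Mono

open scoped Matrix MatrixGroups
open Cfsg Cfsg.Agent.OrthUnitaryHerm Cfsg.Agent.OrthUnitaryTransvection Cfsg.Agent.OrthUnitarySubspaces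
open Cfsg.Agent.OrthUnitaryMaximal Cfsg.Agent.UnitaryFrame84
open Cfsg.Agent.SUThree38MonoAct (Kw Pt J rr Scal Pair)

variable {F : Type*} [Field F] [Fintype F] {q : ℕ}

local notation "hh" => hermForm 3 F q

theorem cases3 {o k l : Fin 3} (h1 : o ≠ k) (h2 : o ≠ l) (h3 : k ≠ l) (i : Fin 3) :
    i = o ∨ i = k ∨ i = l := by
  revert o k l i; decide

theorem exists_third (o k : Fin 3) : ∃ l : Fin 3, l ≠ o ∧ l ≠ k := by
  revert o k; decide

theorem exists_others (o : Fin 3) : ∃ k l : Fin 3, o ≠ k ∧ o ≠ l ∧ k ≠ l := by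
  revert o; decide

theorem univ3 {o k l : Fin 3} (h1 : o ≠ k) (h2 : o ≠ l) (h3 : k ≠ l) :
    (Finset.univ : Finset (Fin 3)) = {o, k, l} := by
  revert o k l; decide

theorem sum3 {R : Type*} [AddCommMonoid R] {o k l : Fin 3} (h1 : o ≠ k) (h2 : o ≠ l) (h3 : k ≠ l)
    (f : Fin 3 → R) : ∑ i, f i = f o + f k + f l := by
  rw [univ3 h1 h2 h3, Finset.sum_insert (by simp [h1, h2]), Finset.sum_pair h3, add_assoc]

theorem vec3 {o k l : Fin 3} (h1 : o ≠ k) (h2 : o ≠ l) (h3 : k ≠ l) (v : Fin 3 → F) :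
    v = v o • e o + v k • e k + v l • e l := by
  funext i
  rcases cases3 h1 h2 h3 i with rfl | rfl | rfl <;> simp [e, h1, h1.symm, h2, h2.symm, h3, h3.symm]

theorem act_expand (g : SU 3 F q) {o k l : Fin 3} (h1 : o ≠ k) (h2 : o ≠ l) (h3 : k ≠ l) (v : Fin 3 → F) :
    act g v = v o • act g (e o) + v k • act g (e k) + v l • act g (e l) := by
  conv_lhs => rw [vec3 h1 h2 h3 v, act_add, act_add, act_smul, act_smul, act_smul]

theorem e_ne (a : Fin 3) : (e a : Fin 3 → F) ≠ 0 := fun h => by simpa [e] using congrFun h a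

theorem act_col_ne (g : SU 3 F q) (a : Fin 3) : act g (e a) ≠ 0 :=
  MinIndexPSU3Geo89.act_ne_zero g (e_ne a)

/-- A column with a single non-zero entry. -/
def Sgl (g : SU 3 F q) (a : Fin 3) : Prop :=
  ∀ i j, act g (e a) i ≠ 0 → act g (e a) j ≠ 0 → i = j

theorem isMon_iff_sgl (g : SU 3 F q) : IsMon g ↔ ∀ a, Sgl g a :=
  ⟨fun h a i j hi hj => h a a i j rfl hi hj, fun h a b i j hab hi hj => by
    obtain rfl : a = b := hab
    exact h a i j hi hj⟩

theorem sgl_of_smul {g : SU 3 F q} {a p : Fin 3} {c : F} (h : act g (e a) = c • e p) : Sgl g a := by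
  have key : ∀ i, act g (e a) i ≠ 0 → i = p := fun i hi => by
    by_contra hne
    exact hi (by rw [h]; simp [e, hne])
  exact fun i j hi hj => (key i hi).trans (key j hj).symm

theorem exists_of_sgl {g : SU 3 F q} {a : Fin 3} (h : Sgl g a) :
    ∃ (p : Fin 3) (c : F), c ≠ 0 ∧ act g (e a) = c • e p := by
  obtain ⟨p, hp⟩ := Function.ne_iff.1 (act_col_ne g a)
  refine ⟨p, act g (e a) p, hp, funext fun i => ?_⟩
  rcases eq_or_ne i p with rfl | hi
  · simp [e]
  · have : act g (e a) i = 0 := by_contra fun h0 => hi (h i p h0 hp)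
    simp [this, e, hi]

/-- A signed transposition. -/
theorem exists_swap (hF : Fintype.card F = q ^ 2) {a b : Fin 3} (hab : a ≠ b) :
    ∃ t : SU 3 F q, IsMon t ∧ ∀ (v : Fin 3 → F) i, act t v i = -v (Equiv.swap a b i) := by
  have hd : ∀ i : Fin 3, (fun _ : Fin 3 => (-1 : F)) i ^ (q + 1) = 1 := fun _ => by
    rw [pow_succ, neg_pow_q hF, one_pow]; ring
  have hdet : ((Equiv.Perm.sign (Equiv.swap a b) : ℤ) : F) * ∏ _i : Fin 3, (-1 : F) = 1 := by
    rw [Equiv.Perm.sign_swap hab, Finset.prod_const, Finset.card_univ, Fintype.card_fin]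
    norm_num
  refine ⟨monEl (Equiv.swap a b) (fun _ => -1) hd hdet,
    monEl_pres _ _ hd hdet fun x y h => (Equiv.swap a b).injective h, fun v i => ?_⟩
  rw [monEl_act]
  ring

theorem swap_col {t : SU 3 F q} {a b : Fin 3} (ht : ∀ (v : Fin 3 → F) i, act t v i = -v (Equiv.swap a b i))
    (c : Fin 3) : act t (e c) = (-1 : F) • e (Equiv.swap a b c) := by
  funext i
  rw [ht, Pi.smul_apply, smul_eq_mul, neg_one_mul]
  simp [e, Pi.single_apply, Equiv.swap_apply_eq_iff]

/-- A diagonal element. -/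
theorem exists_dia {o k l : Fin 3} (h1 : o ≠ k) (h2 : o ≠ l) (h3 : k ≠ l) {a b c : F}
    (ha : a ^ (q + 1) = 1) (hb : b ^ (q + 1) = 1) (hc : c ^ (q + 1) = 1) (habc : a * b * c = 1) :
    ∃ δ : SU 3 F q, IsMon δ ∧
      ∀ v : Fin 3 → F, act δ v = (a * v o) • e o + (b * v k) • e k + (c * v l) • e l := by
  let d : Fin 3 → F := fun i => if i = o then a else if i = k then b else c
  have hd : ∀ i, d i ^ (q + 1) = 1 := fun i => by simp only [d]; split_ifs <;> assumption
  have hdo : d o = a := if_pos rfl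
  have hdk : d k = b := by simp [d, h1.symm]
  have hdl : d l = c := by simp [d, h2.symm, h3.symm]
  have hp : ∏ i, d i = 1 := by
    rw [univ3 h1 h2 h3, Finset.prod_insert (by simp [h1, h2]), Finset.prod_pair h3, hdo, hdk, hdl, ← mul_assoc,
      habc]
  refine ⟨diagEl d hd hp, diagEl_pres id d hd hp, fun v => ?_⟩
  rw [vec3 h1 h2 h3 (act (diagEl d hd hp) v), diagEl_act, diagEl_act, diagEl_act, hdo, hdk, hdl]

theorem dia_col {δ : SU 3 F q} {o k l : Fin 3} (h1 : o ≠ k) (h2 : o ≠ l) (h3 : k ≠ l) {a b c : F}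
    (h : ∀ v : Fin 3 → F, act δ v = (a * v o) • e o + (b * v k) • e k + (c * v l) • e l) :
    act δ (e o) = a • e o ∧ act δ (e k) = b • e k ∧ act δ (e l) = c • e l := by
  refine ⟨?_, ?_, ?_⟩ <;> rw [h] <;> simp [e, h1, h1.symm, h2, h2.symm, h3, h3.symm]

/-- Entries of the inverse. -/
theorem ent_inv (hF : Fintype.card F = q ^ 2) (g : SU 3 F q) (i j : Fin 3) :
    act g⁻¹ (e j) i = act g (e i) j ^ q := by
  have h := herm_act g (act g⁻¹ (e j)) (e i)
  rw [act_act_inv, herm_single_left, herm_single_right hF] at h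
  exact h.symm

/-- An element of norm one whose sixth power is not one. -/
theorem exists_six (hF : Fintype.card F = q ^ 2) (hq : 3 ≤ q) (hq5 : q ≠ 5) :
    ∃ l : F, l ^ (q + 1) = 1 ∧ l ^ 6 ≠ 1 := by
  let K : Subgroup Fˣ := (powMonoidHom (q + 1) : Fˣ →* Fˣ).ker
  have hK : Nat.card K = q + 1 := card_normOne hF
  obtain ⟨⟨l, hl⟩, hgen⟩ := IsCyclic.exists_ofOrder_eq_natCard (α := K)
  have ho : orderOf l = q + 1 := by
    rw [← hK, ← hgen, ← Subgroup.orderOf_coe]
  refine ⟨l, by rw [← Units.val_pow_eq_pow_val, show l ^ (q + 1) = 1 from hl, Units.val_one], fun h => ?_⟩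
  have h6 : q + 1 ∣ 6 := ho ▸ orderOf_dvd_of_pow_eq_one (Units.ext (by simpa using h))
  have := Nat.le_of_dvd (by norm_num) h6
  have : q ≤ 5 := by omega
  interval_cases q <;> omega

theorem L_facts (hF : Fintype.card F = q ^ 2) {l : F} (hl : l ^ (q + 1) = 1) (hl6 : l ^ 6 ≠ 1) :
    l ≠ 0 ∧ ((l * l)⁻¹) ^ (q + 1) = 1 ∧ (l * l)⁻¹ * l * l = 1 ∧ (l * l)⁻¹ ≠ l ∧ l + (l * l)⁻¹ ≠ 0 := by
  have hl0 : l ≠ 0 := normOne_ne_zero hl
  refine ⟨hl0, normOne_inv (by rw [mul_pow, hl, mul_one]), by field_simp, fun h => hl6 ?_, fun h => hl6 ?_⟩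
  · field_simp at h
    calc l ^ 6 = (l ^ 3) ^ 2 := by ring
      _ = 1 := by rw [show l ^ 3 = 1 by linear_combination -h, one_pow]
  · field_simp at h
    calc l ^ 6 = (l ^ 3) ^ 2 := by ring
      _ = 1 := by rw [show l ^ 3 = -1 by linear_combination h]; ring

/-- A proper overgroup of the monomial group. -/
structure Over (M : Subgroup (SU 3 F q)) : Prop where
  card : Fintype.card F = q ^ 2
  three : 3 ≤ q
  five : q ≠ 5
  mon : ∀ g, IsMon g → g ∈ M
  ne : M ≠ ⊤

variable {M : Subgroup (SU 3 F q)} (hO : Over M)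
include hO

theorem hmove (v : Fin 3 → F) (hv : v ≠ 0) : ∃ g ∈ M, ∀ a : F, act g v ≠ a • v := by
  have hF := hO.card
  obtain ⟨i, hi⟩ := Function.ne_iff.1 hv
  by_cases h2 : ∃ j, j ≠ i ∧ v j ≠ 0
  · obtain ⟨j, hji, hj⟩ := h2
    obtain ⟨k, hki, hkj⟩ := exists_third i j
    obtain ⟨b, hb1, hb2⟩ := exists_normOne_sq_ne_one hF
    have hb : (b : F) ^ (q + 1) = 1 := by rw [← Units.val_pow_eq_pow_val, hb1, Units.val_one]
    obtain ⟨δ, hδ, hδv⟩ := exists_dia hji.symm hki.symm hkj.symm hb (normOne_inv hb) (one_pow (q + 1))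
      (by rw [mul_one, mul_inv_cancel₀ b.ne_zero])
    refine ⟨δ, hO.mon δ hδ, fun a ha => hb2 (Units.ext ?_)⟩
    rw [hδv] at ha
    have e1 := congrFun ha i
    have e2 := congrFun ha j
    simp [e, hji, hji.symm, hki, hki.symm, hkj, hkj.symm] at e1 e2
    have hi' : v i ≠ 0 := hi
    have ea : a = (b : F) := (e1.resolve_right hi').symm
    have eb : a = (b : F)⁻¹ := (e2.resolve_right hj).symm
    rw [Units.val_pow_eq_pow_val, Units.val_one, sq]
    calc (b : F) * b = b * (b : F)⁻¹ := by rw [← eb, ea]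
      _ = 1 := mul_inv_cancel₀ b.ne_zero
  · push Not at h2
    obtain ⟨j, k, hij, hik, hjk⟩ := exists_others i
    obtain ⟨t, ht, htv⟩ := exists_swap (q := q) hF hij
    refine ⟨t, hO.mon t ht, fun a ha => ?_⟩
    have := congrFun ha j
    rw [htv, Equiv.swap_apply_right, Pi.smul_apply, h2 j hij.symm, smul_zero, neg_eq_zero] at this
    exact hi this

theorem stab_small {w : Fin 3 → F} (hw : hh w w = 1) (x : Pt q w) :
    Nat.card (MulAction.stabilizer (J M w) x) < q := by
  by_contra h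
  exact hO.ne (SUThree38MonoAct.top_of_stab_large hO.card hw M hO.three (hmove hO) x (by omega))

/-- An element fixing a coordinate line permutes the other two. -/
theorem line_col {y : SU 3 F q} (hy : y ∈ M) {o k l : Fin 3} (h1 : o ≠ k) (h2 : o ≠ l) (h3 : k ≠ l) {c : F}
    (hc : act y (e o) = c • e o) : Sgl y k := by
  have hF := hO.card
  have hee : ∀ i j : Fin 3, hh (e i) (e j) = if j = i then 1 else 0 := fun i j => by
    rw [herm_single_right hF, e, Pi.single_apply]
  have hw : hh (e o) (e o) = 1 := by rw [hee, if_pos rfl]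
  have hP : Pair q (e o : Fin 3 → F) (e k) (e l) :=
    { ww := hw
      aw := by rw [hee, if_neg h1]
      bw := by rw [hee, if_neg h2]
      ab := by rw [hee, if_neg h3]
      aa := by rw [hee, if_pos rfl]; exact one_ne_zero
      bb := by rw [hee, if_pos rfl]; exact one_ne_zero
      span := fun v hv => ⟨v k, v l, by
        rw [herm_single_right hF] at hv
        conv_lhs => rw [vec3 h1 h2 h3 v, hv, zero_smul, zero_add]⟩ }
  set w : Fin 3 → F := e o with hwdef
  set E := SUThree38MonoAct.E (w := w) M (e k) with hE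
  have hmem : ∀ g : Kw M w, rr M w g ∈ E ↔ ∃ c : F, act g.1 (e k) = c • e k := fun g =>
    SUThree38MonoAct.mem_E hF M hP
  -- the torus
  have key : ∀ r : {r : Fˣ // r ^ (q + 1) = 1}, ∃ δ : Kw M w,
      act δ.1 (e k) = e k ∧ act δ.1 (e l) = (r.1 : F) • e l := by
    intro r
    have hr : (r.1 : F) ^ (q + 1) = 1 := by rw [← Units.val_pow_eq_pow_val, r.2, Units.val_one]
    obtain ⟨δ, hδ, hδv⟩ := exists_dia h1 h2 h3 (normOne_inv hr) (one_pow (q + 1)) hr
      (by rw [mul_one, inv_mul_cancel₀ r.1.ne_zero])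
    obtain ⟨d1, d2, d3⟩ := dia_col h1 h2 h3 hδv
    exact ⟨⟨δ, hO.mon δ hδ, r.1⁻¹, by rw [d1, Units.val_inv_eq_inv_val]⟩, by rw [d2, one_smul], d3⟩
  choose δ hδk hδl using key
  have hle : q + 1 ≤ Nat.card E := by
    rw [← card_normOne hF]
    refine Nat.card_le_card_of_injective
      (fun r => ⟨rr M w (δ r), (hmem _).2 ⟨1, by rw [hδk, one_smul]⟩⟩) fun r s hrs => ?_
    have hs : rr M w ((δ r)⁻¹ * δ s) = 1 := by
      rw [map_mul, map_inv, show rr M w (δ r) = rr M w (δ s) from congrArg Subtype.val hrs, inv_mul_cancel]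
    obtain ⟨a, ha⟩ := (SUThree38MonoAct.rr_eq_one hF hw M _).1 hs
    have e1 := congrArg (act (δ r).1) (ha (e k) hP.aw)
    have e2 := congrArg (act (δ r).1) (ha (e l) hP.bw)
    rw [Subgroup.coe_mul, Subgroup.coe_inv, act_mul, act_act_inv, act_smul] at e1 e2
    rw [hδk, hδk] at e1
    rw [hδl, hδl, smul_smul] at e2
    have ea : (1 : F) = a := by simpa [e] using congrFun e1 k
    have eb : (s.1 : F) = a * r.1 := by simpa [e] using congrFun e2 l
    exact Subtype.ext (Units.ext (by rw [eb, ← ea, one_mul]))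
  have hcardE : Nat.card E = q + 1 :=
    le_antisymm (Nat.le_of_dvd (by omega) (SUThree38MonoAct.card_E_dvd hF M hP)) hle
  have hX := SUThree38MonoAct.card_points hF hw
  haveI : Nonempty (Pt q w) := (Nat.card_pos_iff.1 (by omega : 0 < Nat.card (Pt q w))).1
  obtain ⟨x⟩ : Nonempty (Pt q w) := inferInstance
  have horb : MulAction.orbit (J M w) x = Set.univ := by
    have hinj : Function.Injective fun p : E => (p : J M w) • x := fun p p' h => by
      by_contra hne
      refine SUThree38MonoAct.E_free hF M hP ((p'⁻¹ * p : E) : J M w) (p'⁻¹ * p).2 (fun h1 => hne ?_) x ?_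
      · exact (inv_mul_eq_one.1 (Subtype.ext h1 : p'⁻¹ * p = 1)).symm
      · simp only at h
        rw [Subgroup.coe_mul, mul_smul, h, ← mul_smul, ← Subgroup.coe_mul, inv_mul_cancel, Subgroup.coe_one,
          one_smul]
    refine Set.eq_univ_of_forall fun y => ?_
    obtain ⟨p, hp⟩ := ((Nat.bijective_iff_injective_and_card _).2 ⟨hinj, by rw [hcardE, hX]⟩).2 y
    exact ⟨(p : J M w), hp⟩
  have hidx : E.index = Nat.card (MulAction.stabilizer (J M w) x) := by
    have e1 := E.index_mul_card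
    have e2 := (MulAction.stabilizer (J M w) x).index_mul_card
    rw [MulAction.index_stabilizer, horb, Set.ncard_univ, hX, ← e1, hcardE, mul_comm] at e2
    exact (Nat.eq_of_mul_eq_mul_right (by omega) e2).symm
  -- the transposition
  obtain ⟨t, ht, htv⟩ := exists_swap (q := q) hF h3
  have tk : act t (e k) = (-1 : F) • e l := by rw [swap_col htv, Equiv.swap_apply_left]
  have tl : act t (e l) = (-1 : F) • e k := by rw [swap_col htv, Equiv.swap_apply_right]
  have tki : act t⁻¹ (e l) = (-1 : F) • e k := by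
    have := congrArg (fun v => (-1 : F) • act t⁻¹ v) tk
    simp only [act_inv_act, act_smul, smul_smul] at this
    rw [this]; simp
  let T : Kw M w := ⟨t, hO.mon t ht, -1, by
    rw [hwdef, swap_col htv, Equiv.swap_apply_of_ne_of_ne h1 h2]; simp⟩
  have hT : rr M w T ∉ E := fun h => by
    obtain ⟨a, ha⟩ := (hmem T).1 h
    have := congrFun (tk.symm.trans ha) l
    simp [e, h3.symm] at this
  obtain ⟨hd, hge, hfin⟩ := SUThree38MonoPerm.two_cosets E (rr M w T) hT
    (fun p hp => by
      obtain ⟨g, rfl⟩ := SUThree38MonoAct.rr_surj M w p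
      obtain ⟨a, ha⟩ := (hmem g).1 hp
      obtain ⟨d, hd⟩ := SUThree38MonoAct.act_b hF M hP ha
      rw [← map_inv, ← map_mul, ← map_mul, hmem]
      refine ⟨d, ?_⟩
      show act (t⁻¹ * g.1 * t) (e k) = d • e k
      rw [act_mul, act_mul, tk, act_smul, hd, act_smul, act_smul, tki, smul_smul, smul_smul]
      congr 1; ring)
    (fun g p hp hp1 hc => by
      obtain ⟨g, rfl⟩ := SUThree38MonoAct.rr_surj M w g
      obtain ⟨p, rfl⟩ := SUThree38MonoAct.rr_surj M w p
      rcases SUThree38MonoAct.conj_E hF M hP hp hp1 hc with ⟨a, ha⟩ | ⟨a, ha⟩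
      · exact Or.inl ((hmem g).2 ⟨a, ha⟩)
      · right
        rw [← map_inv, ← map_mul, hmem]
        refine ⟨-a, ?_⟩
        show act (t⁻¹ * g.1) (e k) = -a • e k
        rw [act_mul, ha, act_smul, tki, smul_smul]
        congr 1; ring)
  rw [hcardE, hidx] at hd
  rw [hidx] at hge hfin
  have hs := stab_small hO hw x
  have hk2 : Nat.card (MulAction.stabilizer (J M w) x) = 2 := by
    rcases Nat.eq_zero_or_pos (Nat.card (MulAction.stabilizer (J M w) x) - 2) with h | h
    · omega
    · have := Nat.le_of_dvd h hd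
      omega
  have hc0 : c ≠ 0 := fun h => act_col_ne y o (by rw [hc, h, zero_smul])
  let Y : Kw M w := ⟨y, hy, Units.mk0 c hc0, hc⟩
  rcases hfin hk2 (rr M w Y) with h | h
  · obtain ⟨a, ha⟩ := (hmem Y).1 h
    exact sgl_of_smul ha
  · rw [← map_inv, ← map_mul, hmem] at h
    obtain ⟨a, ha⟩ := h
    have := congrArg (act t) ha
    change act t (act (t⁻¹ * y) (e k)) = _ at this
    rw [act_mul, act_act_inv, act_smul, tk, smul_smul] at this
    exact sgl_of_smul this

/-- An element with a column having a single entry is monomial. -/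
theorem line_mono {y : SU 3 F q} (hy : y ∈ M) {p : Fin 3} (h : Sgl y p) : IsMon y := by
  have hfix : ∀ {z : SU 3 F q}, z ∈ M → ∀ {o : Fin 3} {c : F}, act z (e o) = c • e o → ∀ a, Sgl z a := by
    intro z hz o c hc a
    rcases eq_or_ne o a with rfl | hoa
    · exact sgl_of_smul hc
    · obtain ⟨l, hlo, hla⟩ := exists_third o a
      exact line_col hO hz hoa hlo.symm hla.symm hc
  obtain ⟨o, c, hc0, hc⟩ := exists_of_sgl h
  rw [isMon_iff_sgl]
  intro a
  rcases eq_or_ne p o with rfl | hpo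
  · exact hfix hy hc a
  obtain ⟨t, ht, htv⟩ := exists_swap (q := q) hO.card hpo
  have hz : act (y * t) (e o) = (-c) • e o := by
    rw [act_mul, swap_col htv, Equiv.swap_apply_right, act_smul, hc, smul_smul, neg_one_mul]
  obtain ⟨r, d, -, hd⟩ := exists_of_sgl (hfix (M.mul_mem hy (hO.mon t ht)) hz (Equiv.swap p o a))
  rw [act_mul, swap_col htv, Equiv.swap_apply_self, act_smul] at hd
  refine sgl_of_smul (p := r) (c := -d) ?_
  rw [show act y (e a) = (-1 : F) • ((-1 : F) • act y (e a)) by simp, hd, smul_smul, neg_one_mul]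

/-- A non-monomial element has no zero entry. -/
theorem no_zero {g : SU 3 F q} (hg : g ∈ M) (hgm : ¬IsMon g) (z p : Fin 3) : act g (e p) z ≠ 0 := by
  intro hz
  have hF := hO.card
  obtain ⟨r, t, hzr, hzt, hrt⟩ := exists_others z
  obtain ⟨l, hl, hl6⟩ := exists_six hF hO.three hO.five
  obtain ⟨hl0, hLn, hLp, hLl, hs⟩ := L_facts hF hl hl6
  set L := (l * l)⁻¹ with hL
  obtain ⟨δ, hδ, hδv⟩ := exists_dia hzr hzt hrt hLn hl hl hLp
  set h := g⁻¹ * δ * g with hh'
  have hhM : h ∈ M := M.mul_mem (M.mul_mem (M.inv_mem hg) (hO.mon δ hδ)) hg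
  have hδz : ∀ v : Fin 3 → F, v z = 0 → act δ v = l • v := by
    intro v hv
    funext i
    rw [hδv]
    rcases cases3 hzr hzt hrt i with rfl | rfl | rfl <;> simp [e, hzr, hzr.symm, hzt, hzt.symm, hrt, hrt.symm, hv]
  have hfix : act h (e p) = l • e p := by
    rw [hh', act_mul, act_mul, hδz _ hz, act_smul, act_inv_act]
  have hm := (isMon_iff_sgl h).1 (line_mono hO hhM (sgl_of_smul hfix))
  have hquad : ∀ v, act h (act h v) - (l + L) • act h v + (l * L) • v = 0 := by
    intro v
    set u := act g v with hu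
    have e1 : act h v = act g⁻¹ (act δ u) := by rw [hh', act_mul, act_mul]
    have e2 : act h (act h v) = act g⁻¹ (act δ (act δ u)) := by
      rw [e1, hh', act_mul, act_mul, act_act_inv]
    rw [e2, e1, ← act_smul, ← act_sub, show (l * L) • v = act g⁻¹ ((l * L) • u) by rw [act_smul, hu, act_inv_act],
      ← act_add]
    suffices h0 : act δ (act δ u) - (l + L) • act δ u + (l * L) • u = 0 by
      rw [h0]; exact Matrix.mulVec_zero _
    funext i
    rw [hδv, hδv]
    rcases cases3 hzr hzt hrt i with rfl | rfl | rfl <;>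
      simp [e, hzr, hzr.symm, hzt, hzt.symm, hrt, hrt.symm] <;> ring
  have hdiag : ∀ j, ∃ d : F, act h (e j) = d • e j := by
    intro j
    obtain ⟨a, c, hc0, hc⟩ := exists_of_sgl (hm j)
    rcases eq_or_ne a j with rfl | haj
    · exact ⟨c, hc⟩
    exfalso
    obtain ⟨a', c', hc0', hc'⟩ := exists_of_sgl (hm a)
    have hne : a' ≠ a := by
      rintro rfl
      have h1 : act h (c' • e j - c • e a') = 0 := by
        rw [act_sub, act_smul, act_smul, hc, hc', smul_smul, smul_smul, mul_comm, sub_self]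
      have h2 : c' • (e j : Fin 3 → F) - c • e a' = 0 := by
        by_contra h0
        exact MinIndexPSU3Geo89.act_ne_zero h h0 h1
      have := congrFun h2 j
      simp [e, haj.symm, hc0'] at this
    have := congrFun (hquad (e j)) a
    rw [hc, act_smul, hc'] at this
    simp [e, hne.symm, haj, hc0, hs] at this
  obtain ⟨j, hj⟩ : ∃ j, act g (e j) z ≠ 0 := by
    by_contra! h0
    exact act_col_ne g⁻¹ z (funext fun i => by rw [ent_inv hF, h0, zero_pow_q hF]; rfl)
  obtain ⟨d, hd⟩ := hdiag j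
  have hd' := congrArg (act g) hd
  rw [hh', act_mul, act_mul, act_act_inv, act_smul, hδv] at hd'
  have ez := congrFun hd' z
  simp [e, hzr, hzr.symm, hzt, hzt.symm] at ez
  have hdL : L = d := ez.resolve_right hj
  have hcol : act g (e j) = act g (e j) z • e z := by
    funext i
    have ei := congrFun hd' i
    rw [← hdL] at ei
    rcases cases3 hzr hzt hrt i with rfl | rfl | rfl
    · simp [e]
    all_goals
      simp [e, hzr, hzr.symm, hzt, hzt.symm, hrt, hrt.symm] at ei ⊢
      rcases ei with ei | ei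
      · exact absurd ei.symm hLl
      · exact ei
  exact hgm (line_mono hO hg (sgl_of_smul hcol))

/-- Some non-monomial element has an entry not of norm one. -/
theorem exists_norm {g : SU 3 F q} (hg : g ∈ M) (hgm : ¬IsMon g) :
    ∃ g' ∈ M, ¬IsMon g' ∧ ∃ i z, act g' (e z) i ^ (q + 1) ≠ 1 := by
  have hF := hO.card
  by_cases hex : ∃ i z, act g (e z) i ^ (q + 1) ≠ 1
  · exact ⟨g, hg, hgm, hex⟩
  push Not at hex
  obtain ⟨b, hb, hb6⟩ := exists_six hF hO.three hO.five
  have hb0 : b ≠ 0 := normOne_ne_zero hb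
  have n1 : (0 : Fin 3) ≠ 1 := by decide
  have n2 : (0 : Fin 3) ≠ 2 := by decide
  have n3 : (1 : Fin 3) ≠ 2 := by decide
  have h2 : (2 : F) = 0 := by
    have h := congrFun (act_act_inv g (e 0)) 0
    rw [act_expand g n1 n2 n3] at h
    simp only [Pi.add_apply, Pi.smul_apply, smul_eq_mul, ent_inv hF, ← pow_succ, hex] at h
    simp [e] at h
    linear_combination h
  obtain ⟨δ, hδ, hδv⟩ := exists_dia n1 n2 n3 (one_pow (q + 1)) hb (normOne_inv hb)
    (by rw [one_mul, mul_inv_cancel₀ hb0])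
  set h := g * δ * g⁻¹ with hh'
  have hhM : h ∈ M := M.mul_mem (M.mul_mem hg (hO.mon δ hδ)) (M.inv_mem hg)
  set s : F := 1 + b + b⁻¹ with hs
  have hdiag : ∀ i, act h (e i) i = s := by
    intro i
    rw [hh', act_mul, act_mul, hδv, act_add, act_add, act_smul, act_smul, act_smul]
    simp only [Pi.add_apply, Pi.smul_apply, smul_eq_mul, ent_inv hF]
    have k0 : act g (e 0) i ^ q * act g (e 0) i = 1 := by rw [← pow_succ, hex]
    have k1 : act g (e 1) i ^ q * act g (e 1) i = 1 := by rw [← pow_succ, hex]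
    have k2 : act g (e 2) i ^ q * act g (e 2) i = 1 := by rw [← pow_succ, hex]
    rw [hs]
    linear_combination k0 + b * k1 + b⁻¹ * k2
  have hb3 : b ^ 3 ≠ 1 := fun h => hb6 (by rw [show b ^ 6 = (b ^ 3) ^ 2 by ring, h, one_pow])
  have hs0 : s ≠ 0 := fun h0 => hb3 (by
    rw [hs] at h0
    field_simp at h0
    linear_combination (b - 1) * h0)
  have hhm : ¬IsMon h := by
    intro hm
    have hm' := (isMon_iff_sgl h).1 hm 0
    obtain ⟨a, c, -, hc⟩ := exists_of_sgl hm'
    obtain rfl : a = 0 := by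
      by_contra hne
      have := congrFun hc 0
      rw [hdiag 0] at this
      simp [e, Ne.symm hne] at this
      exact hs0 this
    have hcol := congrArg (act g⁻¹) hc
    rw [hh', act_mul, act_mul, act_inv_act, act_smul, hδv] at hcol
    have e0 := congrFun hcol 0
    have e1 := congrFun hcol 1
    have hnz : ∀ i, act g (e i) 0 ^ q ≠ 0 := fun i => pow_ne_zero _ fun h0 => by
      have := hex 0 i
      rw [h0, zero_pow (Nat.succ_ne_zero q)] at this
      exact zero_ne_one this
    simp [e, n1, n1.symm, n2, n2.symm, n3, n3.symm] at e0 e1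
    rw [ent_inv hF] at e0 e1
    have ec : (1 : F) = c := mul_right_cancel₀ (hnz 0) (by linear_combination e0)
    have ebc : b = c := e1.resolve_right (hnz 1)
    exact hb3 (by rw [ebc, ← ec, one_pow])
  refine ⟨h, hhM, hhm, 0, 0, fun hn => ?_⟩
  rw [hdiag 0] at hn
  have hbq : b ^ q = b⁻¹ := normOne_pow_q hb
  have hsq : s ^ q = s := by
    rw [hs, add_pow_q hF, add_pow_q hF, one_pow, inv_pow, hbq, inv_inv]; ring
  rw [pow_succ, hsq, hs] at hn
  have hz : (b + b⁻¹) * (b + b⁻¹) = 0 := by linear_combination hn - (b + b⁻¹) * h2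
  have := mul_self_eq_zero.1 hz
  field_simp at this
  have hb2 : b ^ 2 = 1 := by linear_combination this - h2
  exact hb6 (by rw [show b ^ 6 = (b ^ 2) ^ 3 by ring, hb2, one_pow])

/-- There is no non-monomial element. -/
theorem mono_all {g₀ : SU 3 F q} (hg₀ : g₀ ∈ M) : IsMon g₀ := by
  by_contra hg₀m
  have hF := hO.card
  obtain ⟨g, hg, hgm, i, z, hiz⟩ := exists_norm hO hg₀ hg₀m
  obtain ⟨j, k, hij, hik, hjk⟩ := exists_others i
  set u := act g (e z) with hu
  have hui : u i ≠ 0 := no_zero hO hg hgm i z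
  have huj : u j ≠ 0 := no_zero hO hg hgm j z
  have huk : u k ≠ 0 := no_zero hO hg hgm k z
  have huu : hh u u = 1 := by rw [hu, herm_act, herm_single_right hF]; simp [e]
  have hsum : ∀ x y : Fin 3 → F, hh x y = x i * y i ^ q + x j * y j ^ q + x k * y k ^ q := fun x y => by
    rw [hermForm, sum3 hij hik hjk]
  have hN : u j * u j ^ q + u k * u k ^ q = 1 - u i ^ (q + 1) := by
    rw [hsum] at huu
    rw [pow_succ]
    linear_combination huu
  have hN0 : u j * u j ^ q + u k * u k ^ q ≠ 0 := by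
    rw [hN, sub_ne_zero]; exact Ne.symm hiz
  set w0 : Fin 3 → F := u k ^ q • e j - u j ^ q • e k with hw0
  have w0i : w0 i = 0 := by simp [hw0, e, hij, hik]
  have w0j : w0 j = u k ^ q := by simp [hw0, e, hjk]
  have w0k : w0 k = -(u j ^ q) := by simp [hw0, e, hjk.symm]
  have hw00 : hh w0 w0 ≠ 0 := by
    rw [hsum, w0i, w0j, w0k, neg_pow_q hF, pow_q_q hF, pow_q_q hF]
    convert hN0 using 1
    ring
  obtain ⟨β, hβ⟩ := SU3InvolGeom.exists_unit_vec hF hw00
  set w := β • w0 with hwdef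
  have hperp : ∀ v : Fin 3 → F, hh v w = β ^ q * (v j * u k - v k * u j) := fun v => by
    rw [hwdef, herm_smul_right, hsum, w0i, w0j, w0k, neg_pow_q hF, pow_q_q hF, pow_q_q hF, zero_pow_q hF]
    ring
  have hβ0 : β ≠ 0 := fun h => by rw [hwdef, h, zero_smul, herm_zero_left] at hβ; exact zero_ne_one hβ
  set e' : Fin 3 → F := u j • e j + u k • e k with he'
  have e'i : e' i = 0 := by simp [he', e, hij, hik]
  have e'j : e' j = u j := by simp [he', e, hjk]
  have e'k : e' k = u k := by simp [he', e, hjk.symm]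
  have hP : Pair q w (e i) e' :=
    { ww := hβ
      aw := by rw [hperp]; simp [e, hij.symm, hik.symm]
      bw := by rw [hperp, e'j, e'k]; ring
      ab := by rw [herm_single_right hF, e'i]
      aa := by rw [herm_single_right hF]; simp [e]
      bb := by rw [hsum, e'i, e'j, e'k, zero_mul, zero_add]; exact hN0
      span := fun v hv => ⟨v i, v j / u j, funext fun a => by
        rw [hperp] at hv
        have hv' := sub_eq_zero.1 ((mul_eq_zero.1 hv).resolve_left (pow_ne_zero _ hβ0))
        rcases cases3 hij hik hjk a with rfl | rfl | rfl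
        · simp [e, e'i]
        · simp [e, e'j, hij.symm]; field_simp
        · simp [e, e'k, hik.symm]; field_simp; linear_combination -hv'⟩ }
  set E := SUThree38MonoAct.E (w := w) M (e i) with hE
  have hmem : ∀ x : Kw M w, rr M w x ∈ E ↔ ∃ c : F, act x.1 (e i) = c • e i := fun x =>
    SUThree38MonoAct.mem_E hF M hP
  have hwi : w i = 0 := by rw [hwdef, Pi.smul_apply, w0i, smul_zero]
  -- a large torus inside
  have key : ∀ r : {r : Fˣ // r ^ (q + 1) = 1}, ∃ δ : Kw M w,
      act δ.1 (e i) = ((r.1 : F) * r.1)⁻¹ • e i ∧ act δ.1 e' = (r.1 : F) • e' := by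
    intro r
    have hr : (r.1 : F) ^ (q + 1) = 1 := by rw [← Units.val_pow_eq_pow_val, r.2, Units.val_one]
    have hr0 := r.1.ne_zero
    obtain ⟨δ, hδ, hδv⟩ := exists_dia hij hik hjk (normOne_inv (x := (r.1 : F) * r.1) (by rw [mul_pow, hr, mul_one]))
      hr hr (by field_simp)
    have hlin : ∀ v : Fin 3 → F, v i = 0 → act δ v = (r.1 : F) • v := fun v hv => by
      conv_rhs => rw [vec3 hij hik hjk v]
      rw [hδv, hv]
      simp [smul_smul]
    exact ⟨⟨δ, hO.mon δ hδ, r.1, hlin w hwi⟩, (dia_col hij hik hjk hδv).1, hlin e' e'i⟩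
  choose δ hδi hδe using key
  have h3E : q + 1 ≤ 3 * Nat.card E := by
    classical
    haveI : Fintype E := Fintype.ofFinite _
    rw [← card_normOne hF, Nat.card_eq_fintype_card, Nat.card_eq_fintype_card, ← Finset.card_univ,
      ← Finset.card_univ]
    refine (Finset.card_le_mul_card_image (f := fun r => (⟨rr M w (δ r), (hmem _).2 ⟨_, hδi r⟩⟩ : E))
      Finset.univ 3 fun p hp => ?_).trans (Nat.mul_le_mul_left 3 (Finset.card_le_univ _))
    obtain ⟨r, -, rfl⟩ := Finset.mem_image.1 hp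
    rw [← Finset.card_map ⟨fun s : {r : Fˣ // r ^ (q + 1) = 1} => (s.1 : F),
      fun a b h => Subtype.ext (Units.ext h)⟩]
    refine le_trans (Finset.card_le_card (t := (Polynomial.nthRoots 3 ((r.1 : F) ^ 3)).toFinset) fun x hx => ?_)
      ((Multiset.toFinset_card_le _).trans (Polynomial.card_nthRoots 3 _))
    obtain ⟨s, hs, rfl⟩ := Finset.mem_map.1 hx
    rw [Multiset.mem_toFinset, Polynomial.mem_nthRoots three_pos]
    show (s.1 : F) ^ 3 = (r.1 : F) ^ 3
    have hrs : rr M w ((δ r)⁻¹ * δ s) = 1 := by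
      rw [map_mul, map_inv, show rr M w (δ s) = rr M w (δ r) from congrArg Subtype.val (Finset.mem_filter.1 hs).2,
        inv_mul_cancel]
    obtain ⟨a, ha⟩ := (SUThree38MonoAct.rr_eq_one hF hP.ww M _).1 hrs
    have e1 := congrArg (act (δ r).1) (ha (e i) hP.aw)
    have e2 := congrArg (act (δ r).1) (ha e' hP.bw)
    rw [Subgroup.coe_mul, Subgroup.coe_inv, act_mul, act_act_inv, act_smul] at e1 e2
    rw [hδi, hδi, smul_smul] at e1
    rw [hδe, hδe, smul_smul] at e2
    have ea := congrFun e1 i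
    have eb := congrFun e2 j
    simp [e, e'j, huj] at ea eb
    have := r.1.ne_zero
    have := s.1.ne_zero
    field_simp at ea
    rw [eb] at ea ⊢
    first
      | linear_combination (r.1 : F) * ea
      | linear_combination -((r.1 : F)) * ea
      | linear_combination (r.1 : F) ^ 3 * ea
      | linear_combination -((r.1 : F) ^ 3) * ea
  have hX := SUThree38MonoAct.card_points hF hP.ww
  have hfix : ∀ p : J M w, p ≠ 1 → Nat.card (MulAction.fixedBy (Pt q w) p) ≤ 2 :=
    SUThree38MonoAct.fixed_le_two hF hP.ww M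
  obtain ⟨hmod, hB⟩ := SUThree38MonoPerm.malnormal_count E (SUThree38MonoAct.E_free hF M hP) hfix
    (fun x p hp hp1 hc => by
      obtain ⟨x, rfl⟩ := SUThree38MonoAct.rr_surj M w x
      obtain ⟨p, rfl⟩ := SUThree38MonoAct.rr_surj M w p
      rcases SUThree38MonoAct.conj_E hF M hP hp hp1 hc with ⟨a, ha⟩ | ⟨a, ha⟩
      · exact (hmem x).2 ⟨a, ha⟩
      exfalso
      have hxm : IsMon x.1 := by
        by_contra hxm
        refine no_zero hO x.2.1 hxm i i ?_
        rw [ha, Pi.smul_apply, e'i, smul_zero]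
      have ha0 : a ≠ 0 := fun h => act_col_ne x.1 i (by rw [ha, h, zero_smul])
      exact hjk ((isMon_iff_sgl x.1).1 hxm i j k (by rw [ha, Pi.smul_apply, e'j]; exact mul_ne_zero ha0 huj)
        (by rw [ha, Pi.smul_apply, e'k]; exact mul_ne_zero ha0 huk)))
  -- an element outside
  obtain ⟨r, t, hzr, hzt, hrt⟩ := exists_others z
  obtain ⟨l, hl, hl6⟩ := exists_six hF hO.three hO.five
  obtain ⟨hl0, hLn, hLp, hLl, -⟩ := L_facts hF hl hl6
  obtain ⟨d, hd, hdv⟩ := exists_dia hzr hzt hrt hLn hl hl hLp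
  set L := (l * l)⁻¹ with hL
  have hg0 : ∀ x : Fin 3 → F, act (g * d * g⁻¹) x = l • x + ((L - l) * hh x u) • u := by
    intro x
    have hcoord : act g⁻¹ x z = hh x u := by
      rw [hu, ← herm_act g (act g⁻¹ x) (e z) |>.trans (herm_single_right hF z _), act_act_inv]
    have hd' : act d (act g⁻¹ x) = l • act g⁻¹ x + ((L - l) * act g⁻¹ x z) • e z := by
      rw [hdv]
      funext a
      rcases cases3 hzr hzt hrt a with rfl | rfl | rfl <;>
        simp [e, hzr, hzr.symm, hzt, hzt.symm, hrt, hrt.symm] <;> ring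
    rw [act_mul, act_mul, hd', act_add, act_smul, act_smul, act_act_inv, hcoord]
  have hwu : hh w u = 0 := by
    refine herm_skew_zero hF ?_
    rw [hperp]; ring
  let G₀ : Kw M w := ⟨g * d * g⁻¹, M.mul_mem (M.mul_mem hg (hO.mon d hd)) (M.inv_mem hg), Units.mk0 l hl0, by
    rw [hg0, hwu, mul_zero, zero_smul, add_zero, Units.val_mk0]⟩
  have hout : rr M w G₀ ∉ E := fun h => by
    obtain ⟨c, hc⟩ := (hmem G₀).1 h
    have := congrFun hc j
    rw [show act G₀.1 (e i) = _ from hg0 (e i), herm_single_left] at this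
    simp [e, hij.symm, huj, sub_eq_zero, hLl, q_ne_zero hF, hui, ← hu] at this
  have hn : 2 ≤ E.index := by
    have h0 : E.index ≠ 0 := Subgroup.index_ne_zero_of_finite
    have h1 : E.index ≠ 1 := fun h => hout (by rw [Subgroup.index_eq_one.1 h]; exact Subgroup.mem_top _)
    omega
  haveI : Nonempty (Pt q w) := (Nat.card_pos_iff.1 (by omega : 0 < Nat.card (Pt q w))).1
  obtain ⟨x⟩ : Nonempty (Pt q w) := inferInstance
  have hO1 : 1 ≤ Nat.card (MulAction.orbitRel.Quotient (J M w) (Pt q w)) := by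
    haveI : Nonempty (MulAction.orbitRel.Quotient (J M w) (Pt q w)) := ⟨Quotient.mk'' x⟩
    exact Nat.card_pos
  refine SUThree38MonoPerm.no_solution (m := q + 1) (by linarith [hO.three]) (by have := hO.five; omega)
    (SUThree38MonoAct.card_E_dvd hF M hP) h3E hn hmod hO1 (hX ▸ hB) fun h1 => ?_
  rw [← hX, E.card_mul_index]
  exact SUThree38MonoPerm.dvd_card_of_transitive h1 x

omit hO in
/-- Clause 3 of S5777. -/
theorem maximal_frame {F : Type*} [Field F] [Fintype F] (q : ℕ) (hF : Fintype.card F = q ^ 2) (hq : 3 ≤ q) :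
    q ≠ 5 → ∀ D : Fin 3 → Submodule F (Fin 3 → F),
      Cfsg.Geo.IsNondegenerateMDecomposition (Cfsg.hermForm 3 F q) 1 D →
      Cfsg.Geo.IsMaximalIn (Cfsg.GU 3 F q ⊓ Cfsg.Geo.specialLinear (Fin 3) F)
        (Cfsg.Geo.decompositionStabilizer D ⊓ (Cfsg.GU 3 F q ⊓ Cfsg.Geo.specialLinear (Fin 3) F)) := by
  intro hq5 D hD
  classical
  have hnd : ∀ i, ∀ u ∈ D i, (∀ v ∈ D i, hermForm 3 F q u v = 0) → u = 0 := by
    intro i u hu h
    by_contra hu0
    obtain ⟨-, x, hx, hxu⟩ := hD.nondegenerate i u hu hu0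
    exact hxu (h x hx)
  choose f hfD hf using fun i => exists_onb hF 1 (D i) (hD.decomp.finrank_eq i) (hnd i)
  let b : Fin 3 → Fin 3 → F := fun i => f i 0
  have hb : ∀ i j, hermForm 3 F q (b i) (b j) = if i = j then 1 else 0 := by
    intro i j
    by_cases hij : i = j
    · subst hij
      simpa [b] using hf i 0 0
    · rw [if_neg hij]
      exact hD.orthogonal i j hij _ (hfD i 0) _ (hfD j 0)
  have hline : ∀ i, D i = Submodule.span F {b i} := fun i => by
    have hbi : b i ≠ 0 := fun h => by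
      have := hb i i
      rw [h, herm_zero_left, if_pos rfl] at this
      exact zero_ne_one this
    refine (Submodule.eq_of_le_of_finrank_eq ((Submodule.span_singleton_le_iff_mem _ _).2 (hfD i 0)) ?_).symm
    rw [finrank_span_singleton hbi, hD.decomp.finrank_eq]
  let P : Matrix (Fin 3) (Fin 3) F := (Matrix.of b)ᵀ
  have hP : IsU q P := isU_of_orthoN hF fun a c => hb a c
  have hPe : ∀ a, P *ᵥ (e a : Fin 3 → F) = b a := fun a => by
    rw [Matrix.mulVec_single_one]
    rfl
  have hsurj : ∀ y, ∃ x, P *ᵥ x = y := Matrix.mulVec_surjective_iff_isUnit.2 (hP.isUnit hF)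
  have hinj := Matrix.mulVec_injective_iff_isUnit.2 (hP.isUnit hF)
  let ψ := conjU hF P hP
  have hψ : ∀ (h : SU 3 F q) x, act (ψ h) (P *ᵥ x) = P *ᵥ act h x := fun h x => conjU_act hF P hP h x
  have hact : ∀ (h : SU 3 F q) (x : Fin 3 → F),
      Matrix.toLin' ((toGLn (ψ h) : GL (Fin 3) F) : Matrix (Fin 3) (Fin 3) F) (P *ᵥ x) = P *ᵥ act h x := fun h x => by
    rw [Matrix.toLin'_apply, toGLn_act, hψ]
  have hiff : ∀ h : SU 3 F q, IsMon h ↔ toGLn (ψ h) ∈ Geo.decompositionStabilizer D := by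
    intro h
    rw [isMon_iff_sgl]
    constructor
    · intro hh'
      choose s c hc0 hc using fun a => exists_of_sgl (hh' a)
      have hinjs : Function.Injective s := by
        intro a a' haa
        by_contra hne
        have h1 : act h (c a' • e a - c a • e a') = 0 := by
          rw [act_sub, act_smul, act_smul, hc, hc, haa, smul_smul, smul_smul, mul_comm, sub_self]
        have h2 : c a' • (e a : Fin 3 → F) - c a • e a' = 0 := by
          by_contra h0
          exact MinIndexPSU3Geo89.act_ne_zero h h0 h1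
        have := congrFun h2 a
        simp [e, hne, hc0 a'] at this
      refine ⟨Equiv.ofBijective s (Finite.injective_iff_bijective.1 hinjs), fun a => ?_⟩
      rw [hline, hline, Submodule.map_span, Set.image_singleton, ← hPe, hact, hc a, Matrix.mulVec_smul, hPe,
        Submodule.span_singleton_smul_eq (isUnit_iff_ne_zero.2 (hc0 a))]
      rfl
    · rintro ⟨σ, hσ⟩ a
      have h1 : P *ᵥ act h (e a) ∈ Submodule.span F {b (σ a)} := by
        rw [← hline, ← hσ, ← hact, hPe]
        exact Submodule.mem_map_of_mem (hline a ▸ Submodule.mem_span_singleton_self _)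
      obtain ⟨c, hc⟩ := Submodule.mem_span_singleton.1 h1
      rw [← hPe, ← Matrix.mulVec_smul] at hc
      exact sgl_of_smul (hinj hc).symm
  refine SUThree44Base.isMaximalIn_of3 hF _ ?_ fun N hN g hgN hg => ?_
  · obtain ⟨g, hg⟩ := exists_not_pres (E := (Equiv.prodUnique (Fin 3) (Fin 1)).symm) hF le_rfl (by omega) le_rfl
      (q := q)
    exact ⟨ψ g, fun h => hg ((isMon_iff _ rfl g).1 ((hiff g).2 h))⟩
  · by_contra hne
    have hψs : Function.Surjective ψ := by
      intro g
      refine ⟨conjU hF P⁻¹ (isU_inv hF hP) g, su_ext fun y => ?_⟩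
      obtain ⟨y, rfl⟩ := hsurj y
      rw [hψ]
      have h1 := conjU_act hF P⁻¹ (isU_inv hF hP) g (P *ᵥ y)
      have hdet := (Matrix.isUnit_iff_isUnit_det P).1 (hP.isUnit hF)
      rw [Matrix.mulVec_mulVec, Matrix.nonsing_inv_mul _ hdet, Matrix.one_mulVec] at h1
      rw [h1, Matrix.mulVec_mulVec, Matrix.mul_nonsing_inv _ hdet, Matrix.one_mulVec]
    obtain ⟨g', rfl⟩ := hψs g
    have hov : Over (N.comap ψ) :=
      { card := hF
        three := hq
        five := hq5
        mon := fun x hx => hN ((hiff x).1 hx)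
        ne := fun htop => hne (Subgroup.comap_injective hψs (htop.trans (Subgroup.comap_top ψ).symm)) }
    exact hg ((hiff g').1 (mono_all hov hgN))

end Cfsg.Agent.SUThree38Mono
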