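import Mathlib
import Cfsg.Agent.Lib.DicksonLine

/-!
Counting for permutation groups in which a non-identity element fixes at most two points.
-/

set_option autoImplicit false
set_option linter.unusedSectionVars false

namespace Cfsg.Agent.SUThree38MonoPerm

variable {P Y : Type*} [Group P] [Finite P] [MulAction P Y] [Finite Y]

/-- Burnside's count. -/
theorem burnside [Fintype P] :
    ∑ p : P, Nat.card (MulAction.fixedBy Y p) =
      Nat.card (MulAction.orbitRel.Quotient P Y) * Nat.card P := by
  classical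
  haveI : Fintype Y := Fintype.ofFinite _
  haveI : Fintype (MulAction.orbitRel.Quotient P Y) := Fintype.ofFinite _
  simp only [Nat.card_eq_fintype_card]
  exact MulAction.sum_card_fixedBy_eq_card_orbits_mul_card_group P Y

theorem card_fixed_one : Nat.card (MulAction.fixedBy Y (1 : P)) = Nat.card Y :=
  Nat.card_congr (Equiv.subtypeUnivEquiv fun y => one_smul P y)

/-- Fixed-point-free elements bound the number of orbits. -/
theorem upper (t : ℕ) (hfix : ∀ p : P, p ≠ 1 → Nat.card (MulAction.fixedBy Y p) ≤ t) (S : Set P)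
    (hS1 : (1 : P) ∉ S) (hS0 : ∀ p ∈ S, ∀ y : Y, p • y ≠ y) :
    Nat.card (MulAction.orbitRel.Quotient P Y) * Nat.card P + t * (S.ncard + 1) ≤
      Nat.card Y + t * Nat.card P := by
  classical
  haveI : Fintype P := Fintype.ofFinite _
  have hpt : ∀ p : P, Nat.card (MulAction.fixedBy Y p) + (if p ∈ insert 1 S.toFinset then t else 0) ≤
      t + (if p = 1 then Nat.card Y else 0) := by
    intro p
    by_cases h1 : p = 1
    · subst h1
      rw [card_fixed_one, if_pos (Finset.mem_insert_self _ _), if_pos rfl, add_comm]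
    by_cases hp : p ∈ S
    · haveI : IsEmpty (MulAction.fixedBy Y p) := ⟨fun y => hS0 p hp y.1 y.2⟩
      rw [Nat.card_of_isEmpty, if_neg h1, if_pos (by simp [hp])]
      omega
    · rw [if_neg h1, if_neg (by simp [hp, h1]), add_zero, add_zero]
      exact hfix p h1
  have h := Finset.sum_le_sum (s := Finset.univ) fun p _ => hpt p
  rw [Finset.sum_add_distrib, Finset.sum_add_distrib, burnside, Finset.sum_ite_mem, Finset.univ_inter,
    Finset.sum_const, Finset.sum_const, Finset.sum_ite_eq', if_pos (Finset.mem_univ _),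
    Finset.card_insert_of_notMem (by simpa using hS1), Finset.card_univ, smul_eq_mul, smul_eq_mul,
    ← Nat.card_eq_fintype_card, ← Set.ncard_eq_toFinset_card'] at h
  rw [mul_comm t, mul_comm t]
  omega

/-- In a large group fixing a point many elements fix no other point. -/
theorem fixed_point_many {q : ℕ} (x : Y) (hx : ∀ p : P, p • x = x)
    (hfix : ∀ p : P, p ≠ 1 → Nat.card (MulAction.fixedBy Y p) ≤ 2) (hY : Nat.card Y = q + 1) (hq : 1 ≤ q)
    (hk : q ≤ Nat.card P) : q ≤ Nat.card {p : P // p = 1 ∨ ∀ y : Y, p • y = y → y = x} := by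
  classical
  haveI : Fintype P := Fintype.ofFinite _
  have hup := upper 2 hfix ∅ (by simp) (by simp)
  rw [Set.ncard_empty, hY] at hup
  have hO : 2 ≤ Nat.card (MulAction.orbitRel.Quotient P Y) := by
    haveI : Nontrivial Y := Finite.one_lt_card_iff_nontrivial.1 (by omega)
    obtain ⟨y, hy⟩ := exists_ne x
    haveI : Nontrivial (MulAction.orbitRel.Quotient P Y) :=
      ⟨⟨Quotient.mk'' y, Quotient.mk'' x, fun h => hy (by
        obtain ⟨p, hp⟩ := (MulAction.orbitRel_apply.1 (Quotient.exact' h) : y ∈ MulAction.orbit P x)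
        exact hp.symm.trans (hx p))⟩⟩
    exact Finite.one_lt_card_iff_nontrivial.2 inferInstance
  set T := {p : P | p = 1 ∨ ∀ y : Y, p • y = y → y = x} with hT
  have hpt : ∀ p : P, 2 + (if p = 1 then Nat.card Y else 0) ≤
      Nat.card (MulAction.fixedBy Y p) + ((if p ∈ T.toFinset then 1 else 0) + (if p = 1 then 1 else 0)) := by
    intro p
    by_cases h1 : p = 1
    · subst h1
      rw [card_fixed_one, if_pos rfl, if_pos rfl, if_pos (by simp [hT])]
      omega
    rw [if_neg h1, if_neg h1]
    haveI : Nonempty (MulAction.fixedBy Y p) := ⟨⟨x, hx p⟩⟩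
    have hpos : 0 < Nat.card (MulAction.fixedBy Y p) := Nat.card_pos
    by_cases hp : p ∈ T
    · rw [if_pos (by simpa using hp)]
      omega
    · rw [if_neg (by simpa using hp)]
      simp only [hT, Set.mem_ofPred_eq, not_or] at hp
      push Not at hp
      obtain ⟨-, y, hy, hyx⟩ := hp
      haveI : Nontrivial (MulAction.fixedBy Y p) :=
        ⟨⟨⟨y, hy⟩, ⟨x, hx p⟩, fun h => hyx (congrArg Subtype.val h)⟩⟩
      have := Finite.one_lt_card_iff_nontrivial.2 (show Nontrivial (MulAction.fixedBy Y p) from inferInstance)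
      omega
  have h := Finset.sum_le_sum (s := Finset.univ) fun p _ => hpt p
  rw [Finset.sum_add_distrib, Finset.sum_add_distrib, Finset.sum_add_distrib, burnside, Finset.sum_ite_mem,
    Finset.univ_inter, Finset.sum_const, Finset.sum_const, Finset.sum_ite_eq', Finset.sum_ite_eq',
    if_pos (Finset.mem_univ _), if_pos (Finset.mem_univ _), Finset.card_univ, smul_eq_mul, smul_eq_mul,
    ← Nat.card_eq_fintype_card, mul_one, hY, ← Set.ncard_eq_toFinset_card'] at h
  rw [show Nat.card {p : P // p = 1 ∨ ∀ y : Y, p • y = y → y = x} = T.ncard from Nat.card_coe_set_eq T]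
  generalize hgO : Nat.card (MulAction.orbitRel.Quotient P Y) = O at hO hup h
  rcases Nat.lt_or_ge O 3 with hO3 | hO3
  · obtain rfl : O = 2 := by omega
    omega
  · have := Nat.mul_le_mul_right (Nat.card P) hO3
    omega

/-- A group acting freely off an invariant set. -/
theorem dvd_sub_of_free (A : Set Y) (hA : ∀ (p : P), ∀ y ∈ A, p • y ∈ A)
    (hfree : ∀ (p : P), ∀ y ∉ A, p • y = y → p = 1) : Nat.card P ∣ Nat.card Y - A.ncard := by
  letI : MulAction P (Aᶜ : Set Y) :=
    { smul := fun p y => ⟨p • y.1, fun h => y.2 (by simpa using hA p⁻¹ _ h)⟩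
      one_smul := fun y => Subtype.ext (one_smul P y.1)
      mul_smul := fun p p' y => Subtype.ext (mul_smul p p' y.1) }
  have h := DicksonLine.dvd_card_of_free (G := P) (Y := (Aᶜ : Set Y)) fun p y hy =>
    hfree p y.1 y.2 (congrArg Subtype.val hy)
  rwa [Nat.card_coe_set_eq, Set.ncard_compl] at h

/-- A transitive action. -/
theorem dvd_card_of_transitive (h : Nat.card (MulAction.orbitRel.Quotient P Y) = 1) (y : Y) :
    Nat.card Y ∣ Nat.card P := by
  haveI : Subsingleton (MulAction.orbitRel.Quotient P Y) := (Nat.card_eq_one_iff_unique.1 h).1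
  have ho : MulAction.orbit P y = Set.univ := Set.eq_univ_of_forall fun y' => by
    have := Quotient.exact' (Subsingleton.elim (Quotient.mk'' y' : MulAction.orbitRel.Quotient P Y)
      (Quotient.mk'' y))
    exact MulAction.orbitRel_apply.1 this
  refine ⟨Nat.card (MulAction.stabilizer P y), ?_⟩
  rw [← Subgroup.index_mul_card (MulAction.stabilizer P y), MulAction.index_stabilizer, ho, Set.ncard_univ]

/-- Subgroup without fixed points and malnormal. -/
theorem malnormal_count (E : Subgroup P) (hfree : ∀ p ∈ E, p ≠ 1 → ∀ y : Y, p • y ≠ y)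
    (hfix : ∀ p : P, p ≠ 1 → Nat.card (MulAction.fixedBy Y p) ≤ 2)
    (hmal : ∀ g p : P, p ∈ E → p ≠ 1 → g⁻¹ * p * g ∈ E → g ∈ E) :
    Nat.card E ∣ E.index - 1 ∧
      Nat.card (MulAction.orbitRel.Quotient P Y) * (Nat.card E * E.index) + 2 ≤ Nat.card Y + 2 * E.index := by
  classical
  constructor
  · have h := dvd_sub_of_free (P := E) (Y := P ⧸ E) {((1 : P) : P ⧸ E)}
      (fun p y hy => by
        rw [Set.mem_singleton_iff] at hy ⊢
        rw [hy]
        show (((p : P) * 1 : P) : P ⧸ E) = ((1 : P) : P ⧸ E)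
        rw [QuotientGroup.eq, mul_one, mul_one]
        exact E.inv_mem p.2)
      (fun p y hy hpy => by
        obtain ⟨g, rfl⟩ := QuotientGroup.mk_surjective y
        by_contra hp
        refine hy ?_
        rw [Set.mem_singleton_iff, QuotientGroup.eq, mul_one]
        refine E.inv_mem (hmal g p p.2 (fun h => hp (Subtype.ext h)) ?_)
        have h1 : (((p : P) * g : P) : P ⧸ E) = (g : P ⧸ E) := hpy
        rw [QuotientGroup.eq] at h1
        have h2 := E.inv_mem h1
        simpa [mul_assoc] using h2)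
    rwa [Set.ncard_singleton] at h
  let f : (P ⧸ E) × {p : E // p ≠ 1} → P := fun a => a.1.out * ((a.2.1 : E) : P) * a.1.out⁻¹
  have hinj : Function.Injective f := by
    rintro ⟨c, p⟩ ⟨c', p'⟩ h
    simp only [f] at h
    have h1 : (c.out⁻¹ * c'.out)⁻¹ * (p.1 : P) * (c.out⁻¹ * c'.out) = (p'.1 : P) :=
      calc (c.out⁻¹ * c'.out)⁻¹ * (p.1 : P) * (c.out⁻¹ * c'.out)
          = c'.out⁻¹ * (c.out * (p.1 : P) * c.out⁻¹) * c'.out := by group
        _ = (p'.1 : P) := by rw [h]; group
    have hc : c = c' := by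
      have := hmal _ _ p.1.2 (fun e => p.2 (Subtype.ext e)) (h1 ▸ p'.1.2)
      rw [← QuotientGroup.out_eq' c, ← QuotientGroup.out_eq' c', QuotientGroup.eq]
      exact this
    subst hc
    have h2 : (p.1 : P) = (p'.1 : P) := mul_left_cancel (mul_right_cancel h)
    exact Prod.ext rfl (Subtype.ext (Subtype.ext h2))
  have hup := upper 2 hfix (Set.range f) (by
      rintro ⟨⟨c, p⟩, h⟩
      simp only [f] at h
      rw [mul_inv_eq_one, mul_eq_left] at h
      exact p.2 (Subtype.ext h))
    (by
      rintro _ ⟨⟨c, p⟩, rfl⟩ y h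
      simp only [f, mul_smul] at h
      exact hfree _ p.1.2 (fun e => p.2 (Subtype.ext e)) (c.out⁻¹ • y) (smul_left_cancel c.out (by
        rw [h, smul_inv_smul])))
  have hpe : Nat.card {p : E // p ≠ 1} = Nat.card E - 1 := by
    haveI : Fintype E := Fintype.ofFinite _
    rw [Nat.card_eq_fintype_card, Fintype.card_subtype_compl, Fintype.card_subtype_eq,
      Nat.card_eq_fintype_card]
  rw [← Nat.card_coe_set_eq, Nat.card_range_of_injective hinj, Nat.card_prod, hpe, ← E.index_eq_card,
    ← E.card_mul_index] at hup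
  have hpos : 0 < Nat.card E := Nat.card_pos
  obtain ⟨e, he⟩ : ∃ e, Nat.card E = e + 1 := ⟨Nat.card E - 1, by omega⟩
  rw [he, Nat.add_sub_cancel] at hup
  rw [he]
  generalize Nat.card (MulAction.orbitRel.Quotient P Y) = O at hup
  rw [add_mul, one_mul] at hup ⊢
  rw [mul_comm e] at hup ⊢
  generalize E.index * e = x at hup ⊢
  generalize O * (x + E.index) = z at hup ⊢
  omega

/-- A subgroup normalised by an outside element and malnormal up to it. -/
theorem two_cosets (E : Subgroup P) (s : P) (hs : s ∉ E) (hnorm : ∀ p ∈ E, s⁻¹ * p * s ∈ E)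
    (hmal : ∀ g p : P, p ∈ E → p ≠ 1 → g⁻¹ * p * g ∈ E → g ∈ E ∨ s⁻¹ * g ∈ E) :
    Nat.card E ∣ E.index - 2 ∧ 2 ≤ E.index ∧ (E.index = 2 → ∀ g : P, g ∈ E ∨ s⁻¹ * g ∈ E) := by
  classical
  set A : Set (P ⧸ E) := {((1 : P) : P ⧸ E), (s : P ⧸ E)} with hA
  have hA2 : A.ncard = 2 := by
    refine Set.ncard_pair fun h => hs ?_
    rw [QuotientGroup.eq, inv_one, one_mul] at h
    exact h
  refine ⟨?_, hA2 ▸ Set.ncard_le_card A, fun h2 g => ?_⟩
  · have h := dvd_sub_of_free (P := E) (Y := P ⧸ E) A
      (fun p y hy => by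
        rw [hA, Set.mem_insert_iff, Set.mem_singleton_iff] at hy ⊢
        rcases hy with rfl | rfl
        · left
          show (((p : P) * 1 : P) : P ⧸ E) = ((1 : P) : P ⧸ E)
          rw [QuotientGroup.eq, mul_one, mul_one]
          exact E.inv_mem p.2
        · right
          show (((p : P) * s : P) : P ⧸ E) = (s : P ⧸ E)
          rw [QuotientGroup.eq, mul_inv_rev]
          exact hnorm _ (E.inv_mem p.2))
      (fun p y hy hpy => by
        obtain ⟨g, rfl⟩ := QuotientGroup.mk_surjective y
        by_contra hp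
        refine hy ?_
        have h1 : (((p : P) * g : P) : P ⧸ E) = (g : P ⧸ E) := hpy
        rw [QuotientGroup.eq] at h1
        rcases hmal g p p.2 (fun h => hp (Subtype.ext h)) (by simpa [mul_assoc] using E.inv_mem h1) with h | h
        · left
          rw [QuotientGroup.eq, mul_one]
          exact E.inv_mem h
        · right
          rw [Set.mem_singleton_iff, QuotientGroup.eq]
          simpa using E.inv_mem h)
    rwa [hA2] at h
  · have hu : A = Set.univ := Set.eq_univ_iff_ncard A |>.2 (hA2.trans h2.symm)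
    have hg : (g : P ⧸ E) ∈ A := hu ▸ Set.mem_univ _
    rw [hA, Set.mem_insert_iff, Set.mem_singleton_iff, QuotientGroup.eq, QuotientGroup.eq, mul_one] at hg
    rcases hg with h | h
    · exact Or.inl (inv_mem_iff.1 h)
    · exact Or.inr (by simpa using E.inv_mem h)

/-- The final arithmetic. -/
theorem no_solution {m e n O : ℕ} (hm : 4 ≤ m) (hm6 : m ≠ 6) (he : e ∣ m) (h3 : m ≤ 3 * e) (hn : 2 ≤ n)
    (hmod : e ∣ n - 1) (hO : 1 ≤ O) (hB : O * (e * n) + 2 ≤ m + 2 * n) (h1 : O = 1 → m ∣ e * n) : False := by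
  have hne : e + 1 ≤ n := by
    have := Nat.le_of_dvd (by omega) hmod
    omega
  have he2 : 2 ≤ e := by omega
  obtain ⟨k, rfl⟩ := Nat.exists_eq_add_of_le he2
  obtain ⟨r, rfl⟩ := Nat.exists_eq_add_of_le hne
  have hO1 : O = 1 := by
    by_contra hO1
    have hO2 : 2 ≤ O := by omega
    have := Nat.mul_le_mul_right ((2 + k) * (2 + k + 1 + r)) hO2
    nlinarith
  subst hO1
  rw [one_mul] at hB
  have hd := h1 rfl
  have hk : k ≤ 2 := by nlinarith
  interval_cases k
  · have : m ≤ 6 := by omega
    interval_cases m <;> omega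
  · have : r ≤ 3 := by omega
    have : m ≤ 9 := by omega
    interval_cases r <;> interval_cases m <;> omega
  · have : r ≤ 1 := by omega
    have : m ≤ 12 := by omega
    interval_cases r <;> interval_cases m <;> omega

end Cfsg.Agent.SUThree38MonoPerm
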