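import Cfsg.Agent.Lib.SUThree44Base
import Cfsg.Agent.Lib.SUThree38MonoPerm

/-!
The action of the stabiliser of an anisotropic point in an overgroup on the isotropic points of its polar line.
-/

set_option autoImplicit false
set_option linter.unusedSectionVars false
set_option linter.unusedVariables false

namespace Cfsg.Agent.SUThree38MonoAct

open Cfsg Cfsg.Agent.OrthUnitaryHerm Cfsg.Agent.OrthUnitaryTransvection Cfsg.Agent.OrthUnitaryMaximal
open Cfsg.Agent.MinIndexPSU3Geo89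

variable {F : Type*} [Field F] [Fintype F] {q : ℕ}

local notation "hh" => hermForm 3 F q

/-- The elements of `M` fixing the line of `w`. -/
def Kw (M : Subgroup (SU 3 F q)) (w : Fin 3 → F) : Subgroup (SU 3 F q) where
  carrier := {g | g ∈ M ∧ ∃ a : Fˣ, act g w = (a : F) • w}
  one_mem' := ⟨M.one_mem, 1, by rw [act_one, Units.val_one, one_smul]⟩
  mul_mem' := by
    rintro g k ⟨hg, a, ha⟩ ⟨hk, b, hb⟩
    exact ⟨M.mul_mem hg hk, b * a, by rw [act_mul, hb, act_smul, ha, smul_smul, Units.val_mul]⟩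
  inv_mem' := by
    rintro g ⟨hg, a, ha⟩
    refine ⟨M.inv_mem hg, a⁻¹, ?_⟩
    conv_rhs => rw [← act_inv_act g w, ha, act_smul, smul_smul, Units.inv_mul, one_smul]

/-- The isotropic points orthogonal to `w`. -/
abbrev Pt (q : ℕ) (w : Fin 3 → F) : Type _ :=
  {L : Line q F // ∀ v ∈ L.1, hermForm 3 F q v w = 0}

theorem perp_act {M : Subgroup (SU 3 F q)} {w : Fin 3 → F} (g : Kw M w) {v : Fin 3 → F}
    (hv : hh v w = 0) : hh (act g.1 v) w = 0 := by
  obtain ⟨-, a, ha⟩ := g.2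
  have h := herm_act g.1 v w
  rw [ha, herm_smul_right, hv] at h
  exact (mul_eq_zero.1 h).resolve_left (pow_ne_zero _ a.ne_zero)

noncomputable instance ptAction (M : Subgroup (SU 3 F q)) (w : Fin 3 → F) : MulAction (Kw M w) (Pt q w) where
  smul g x := ⟨g.1 • x.1, by
    rintro _ ⟨v, hv, rfl⟩
    exact perp_act g (x.2 v hv)⟩
  one_smul x := Subtype.ext (one_smul (SU 3 F q) x.1)
  mul_smul g k x := Subtype.ext (mul_smul g.1 k.1 x.1)

/-- The permutations induced. -/
noncomputable abbrev J (M : Subgroup (SU 3 F q)) (w : Fin 3 → F) : Subgroup (Equiv.Perm (Pt q w)) :=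
  (MulAction.toPermHom (Kw M w) (Pt q w)).range

/-- The induced permutation. -/
noncomputable def rr (M : Subgroup (SU 3 F q)) (w : Fin 3 → F) : Kw M w →* J M w :=
  (MulAction.toPermHom (Kw M w) (Pt q w)).rangeRestrict

theorem rr_surj (M : Subgroup (SU 3 F q)) (w : Fin 3 → F) : Function.Surjective (rr M w) :=
  MonoidHom.rangeRestrict_surjective _

theorem rr_smul {M : Subgroup (SU 3 F q)} {w : Fin 3 → F} (g : Kw M w) (x : Pt q w) : rr M w g • x = g • x :=
  rfl

/-- The point of a vector. -/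
def pt {w : Fin 3 → F} (v : Fin 3 → F) (hv0 : v ≠ 0) (hv : hh v v = 0) (hvw : hh v w = 0) : Pt q w :=
  ⟨mkLine v hv0 hv, by
    rintro _ ⟨a, -, rfl⟩
    rw [herm_smul_left, hvw, mul_zero]⟩

theorem smul_pt {M : Subgroup (SU 3 F q)} {w : Fin 3 → F} (g : Kw M w) (v : Fin 3 → F) (hv0 : v ≠ 0)
    (hv : hh v v = 0) (hvw : hh v w = 0) :
    g • pt v hv0 hv hvw = pt (act g.1 v) (act_ne_zero g.1 hv0) (by rw [herm_act, hv]) (perp_act g hvw) :=
  Subtype.ext (smul_mkLine g.1 v hv0 hv)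

theorem pt_eq {w v u : Fin 3 → F} {hv0 : v ≠ 0} {hv : hh v v = 0} {hvw : hh v w = 0} {hu0 : u ≠ 0}
    {hu : hh u u = 0} {huw : hh u w = 0} (h : pt v hv0 hv hvw = pt u hu0 hu huw) :
    ∃ a : F, a ≠ 0 ∧ v = a • u :=
  mkLine_eq (hv0 := hv0) (hv := hv) (hw0 := hu0) (hw := hu) (congrArg Subtype.val h)

theorem pt_congr {w v u : Fin 3 → F} {hv0 : v ≠ 0} {hv : hh v v = 0} {hvw : hh v w = 0} {hu0 : u ≠ 0}
    {hu : hh u u = 0} {huw : hh u w = 0} {a : F} (ha : a ≠ 0) (h : v = a • u) :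
    pt v hv0 hv hvw = pt u hu0 hu huw := by
  refine Subtype.ext (Subtype.ext ?_)
  show lineOf v = lineOf u
  rw [h, lineOf_smul ha]

theorem exists_pt {w : Fin 3 → F} (x : Pt q w) : ∃ v hv0 hv hvw, x = pt v hv0 hv hvw := by
  obtain ⟨v, hv0, hv, e⟩ := exists_rep x.1
  refine ⟨v, hv0, hv, x.2 v ?_, Subtype.ext e⟩
  rw [e]
  exact mem_lineOf_self v

/-- Scalar on the orthogonal of `w`. -/
def Scal (w : Fin 3 → F) (g : SU 3 F q) : Prop :=
  ∃ l : F, ∀ v : Fin 3 → F, hh v w = 0 → act g v = l • v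

theorem smul_eq_of_scal {M : Subgroup (SU 3 F q)} {w : Fin 3 → F} {g : Kw M w} (h : Scal w g.1) (x : Pt q w) :
    g • x = x := by
  obtain ⟨l, hl⟩ := h
  obtain ⟨v, hv0, hv, hvw, rfl⟩ := exists_pt x
  rw [smul_pt]
  refine pt_congr (fun hl0 => act_ne_zero g.1 hv0 ?_) (hl v hvw)
  rw [hl v hvw, hl0, zero_smul]

section Frame

variable (Φ : Frame q F)

theorem plane_eq {v : Fin 3 → F} (hv : hh v Φ.k = 0) : v = hh v Φ.f • Φ.e + hh v Φ.e • Φ.f := by
  conv_lhs => rw [Φ.span v, hv, zero_smul, add_zero]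

/-- The point of the frame. -/
def pte : Pt q Φ.k := pt Φ.e (e_ne_zero Φ) Φ.ee Φ.ek

theorem vc_ne (c : F) : c • Φ.e + Φ.f ≠ 0 := fun h => by
  have := congrArg (fun x => hh x Φ.e) h
  simp [herm_add_left, herm_smul_left, Φ.ee, Φ.fe, herm_zero_left] at this

theorem vc_perp (c : F) : hh (c • Φ.e + Φ.f) Φ.k = 0 := by
  rw [herm_add_left, herm_smul_left, Φ.ek, Φ.fk, mul_zero, add_zero]

variable (hF : Fintype.card F = q ^ 2)
include hF

theorem vc_iso {c : F} (hc : c + c ^ q = 0) : hh (c • Φ.e + Φ.f) (c • Φ.e + Φ.f) = 0 := by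
  simp only [herm_add_left, herm_add_right hF, herm_smul_left, herm_smul_right, Φ.ee, Φ.ef, Φ.fe, Φ.ff]
  linear_combination hc

omit hF in
/-- The other points. -/
def ptc (hF : Fintype.card F = q ^ 2) (c : F) (hc : c + c ^ q = 0) : Pt q Φ.k :=
  pt (c • Φ.e + Φ.f) (vc_ne Φ c) (vc_iso Φ hF hc) (vc_perp Φ c)

theorem pte_ne_ptc {c : F} (hc : c + c ^ q = 0) : pte Φ ≠ ptc Φ hF c hc := fun h => by
  obtain ⟨a, ha0, ha⟩ := pt_eq h
  have := congrArg (fun x => hh x Φ.e) ha
  simp [herm_add_left, herm_smul_left, Φ.ee, Φ.fe] at this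
  exact ha0 this.symm

theorem ptc_inj {c d : F} {hc : c + c ^ q = 0} {hd : d + d ^ q = 0}
    (h : ptc Φ hF c hc = ptc Φ hF d hd) : c = d := by
  obtain ⟨a, -, ha⟩ := pt_eq h
  have h1 := congrArg (fun x => hh x Φ.e) ha
  have h2 := congrArg (fun x => hh x Φ.f) ha
  simp [herm_add_left, herm_smul_left, Φ.ee, Φ.fe, Φ.ef, Φ.ff] at h1 h2
  rw [h2, ← h1, one_mul]

theorem pt_cases (x : Pt q Φ.k) : x = pte Φ ∨ ∃ c hc, x = ptc Φ hF c hc := by
  obtain ⟨v, hv0, hv, hvk, rfl⟩ := exists_pt x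
  have e1 := plane_eq Φ hvk
  generalize hh v Φ.f = a at e1
  generalize hh v Φ.e = b at e1
  by_cases hb : b = 0
  · left
    rw [hb, zero_smul, add_zero] at e1
    exact pt_congr (fun ha => hv0 (by rw [e1, ha, zero_smul])) e1
  · right
    have hc : a / b + (a / b) ^ q = 0 := by
      have h1 := hv
      rw [e1] at h1
      simp only [herm_add_left, herm_add_right hF, herm_smul_left, herm_smul_right, Φ.ee, Φ.ef, Φ.fe, Φ.ff] at h1
      rw [div_pow, div_add_div _ _ hb (pow_ne_zero _ hb)]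
      rw [show a * b ^ q + b * a ^ q = 0 by linear_combination h1, zero_div]
    refine ⟨a / b, hc, pt_congr hb ?_⟩
    rw [e1, smul_add, smul_smul, mul_div_cancel₀ a hb]

theorem card_Pt : Nat.card (Pt q Φ.k) = q + 1 := by
  let f : Option (MinIndexPSU3Stab89.skew hF) → Pt q Φ.k := fun o => match o with
    | none => pte Φ
    | some c => ptc Φ hF c.1 c.2
  have hb : Function.Bijective f := by
    refine ⟨?_, fun x => ?_⟩
    · rintro (_ | ⟨c, hc⟩) (_ | ⟨d, hd⟩) h
      · rfl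
      · exact absurd h (pte_ne_ptc Φ hF hd)
      · exact absurd h.symm (pte_ne_ptc Φ hF hc)
      · exact congrArg some (Subtype.ext (ptc_inj Φ hF h))
    · rcases pt_cases Φ hF x with rfl | ⟨c, hc, rfl⟩
      exacts [⟨none, rfl⟩, ⟨some ⟨c, hc⟩, rfl⟩]
  rw [← Nat.card_congr (Equiv.ofBijective f hb), Finite.card_option, MinIndexPSU3Stab89.card_skew]

theorem form_f {M : Subgroup (SU 3 F q)} (g : Kw M Φ.k) {a0 : F} (he : act g.1 Φ.e = a0 • Φ.e) :
    ∃ y x : F, act g.1 Φ.f = y • Φ.f + x • Φ.e ∧ a0 ^ q * y = 1 ∧ y * x ^ q + x * y ^ q = 0 := by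
  have e1 := plane_eq Φ (perp_act g Φ.fk)
  have h2 := herm_act g.1 Φ.f Φ.e
  rw [he, herm_smul_right, Φ.fe] at h2
  have h3 := herm_act g.1 Φ.f Φ.f
  rw [Φ.ff] at h3
  refine ⟨hh (act g.1 Φ.f) Φ.e, hh (act g.1 Φ.f) Φ.f, ?_, h2, ?_⟩
  · rw [add_comm]; exact e1
  · rw [e1] at h3
    simp only [herm_add_left, herm_add_right hF, herm_smul_left, herm_smul_right, Φ.ee, Φ.ef, Φ.fe, Φ.ff] at h3
    linear_combination h3

theorem smul_pte {M : Subgroup (SU 3 F q)} (g : Kw M Φ.k) (h : g • pte Φ = pte Φ) :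
    ∃ a0 : F, a0 ≠ 0 ∧ act g.1 Φ.e = a0 • Φ.e := by
  rw [pte, smul_pt] at h
  exact pt_eq h

theorem smul_ptc {M : Subgroup (SU 3 F q)} (g : Kw M Φ.k) {a0 y x : F} (he : act g.1 Φ.e = a0 • Φ.e)
    (hf : act g.1 Φ.f = y • Φ.f + x • Φ.e) (hy : y ≠ 0) {c d : F} (hc : c + c ^ q = 0) (hd : d + d ^ q = 0) :
    g • ptc Φ hF c hc = ptc Φ hF d hd ↔ c * a0 + x = y * d := by
  have e1 : act g.1 (c • Φ.e + Φ.f) = (c * a0 + x) • Φ.e + y • Φ.f := by
    rw [act_add, act_smul, he, hf, smul_smul, add_smul]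
    abel
  rw [ptc, smul_pt]
  constructor
  · intro h
    obtain ⟨a, -, ha⟩ := pt_eq h
    rw [e1] at ha
    have h1 := congrArg (fun v => hh v Φ.e) ha
    have h2 := congrArg (fun v => hh v Φ.f) ha
    simp [herm_add_left, herm_smul_left, Φ.ee, Φ.fe, Φ.ef, Φ.ff] at h1 h2
    rw [h2, h1]
  · intro h
    refine pt_congr hy ?_
    rw [e1, h, smul_add, smul_smul]

theorem scal_of_form {M : Subgroup (SU 3 F q)} (g : Kw M Φ.k) {a0 : F} (he : act g.1 Φ.e = a0 • Φ.e)
    (hf : act g.1 Φ.f = a0 • Φ.f) : Scal Φ.k g.1 := by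
  refine ⟨a0, fun v hv => ?_⟩
  rw [plane_eq Φ hv, act_add, act_smul, act_smul, he, hf, smul_add, smul_smul, smul_smul, smul_smul, smul_smul]
  simp only [mul_comm]

theorem scal_of_two {M : Subgroup (SU 3 F q)} (g : Kw M Φ.k) (h : g • pte Φ = pte Φ) {c d : F}
    (hcd : c ≠ d) {hc : c + c ^ q = 0} {hd : d + d ^ q = 0} (h1 : g • ptc Φ hF c hc = ptc Φ hF c hc)
    (h2 : g • ptc Φ hF d hd = ptc Φ hF d hd) : Scal Φ.k g.1 := by
  obtain ⟨a0, ha0, he⟩ := smul_pte Φ hF g h
  obtain ⟨y, x, hf, hy, -⟩ := form_f Φ hF g he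
  have hy0 : y ≠ 0 := fun h0 => by rw [h0, mul_zero] at hy; exact zero_ne_one hy
  rw [smul_ptc Φ hF g he hf hy0] at h1 h2
  have e : (c - d) * (a0 - y) = 0 := by linear_combination h1 - h2
  have hay : a0 = y := sub_eq_zero.1 ((mul_eq_zero.1 e).resolve_left (sub_ne_zero.2 hcd))
  have hx : x = 0 := by linear_combination h1 - c * hay
  refine scal_of_form Φ hF g he ?_
  rw [hf, hx, hay, zero_smul, add_zero]

end Frame

variable (hF : Fintype.card F = q ^ 2) {w : Fin 3 → F} (hw : hermForm 3 F q w w = 1) (M : Subgroup (SU 3 F q))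
include hF hw

theorem exists_frame_at (x : Pt q w) : ∃ Φ : Frame q F, Φ.k = w ∧ x.1 = Φ.line := by
  obtain ⟨v, hv0, hv, hvw, rfl⟩ := exists_pt x
  obtain ⟨Φ, he, hk⟩ := MinIndexPSU3Orbit89.exists_frame_k hF hv0 hv hw (herm_skew_zero hF hvw)
  refine ⟨Φ, hk, Subtype.ext ?_⟩
  show lineOf v = lineOf Φ.e
  rw [he]

theorem card_points : Nat.card (Pt q w) = q + 1 := by
  obtain ⟨Φ, rfl⟩ := MinIndexPSU3Orbit89.exists_frame_unit hF hw
  exact card_Pt Φ hF

theorem rr_eq_one (g : Kw M w) : rr M w g = 1 ↔ Scal w g.1 := by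
  constructor
  · intro h
    have hfix : ∀ x : Pt q w, g • x = x := fun x => by rw [← rr_smul, h, one_smul]
    obtain ⟨Φ, rfl⟩ := MinIndexPSU3Orbit89.exists_frame_unit hF hw
    obtain ⟨c, hc0, hc⟩ := exists_skew hF
    exact scal_of_two Φ hF g (hfix _) hc0 (hfix (ptc Φ hF c hc))
      (hfix (ptc Φ hF 0 (by rw [zero_pow_q hF, add_zero])))
  · intro h
    exact Subtype.ext (Equiv.ext fun x => smul_eq_of_scal h x)

theorem fixed_le_two (p : J M w) (hp : p ≠ 1) : Nat.card (MulAction.fixedBy (Pt q w) p) ≤ 2 := by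
  by_contra hlt
  push Not at hlt
  rw [Nat.card_coe_set_eq, Set.two_lt_ncard] at hlt
  obtain ⟨a, ha, b, hb, c, hc, hab, hac, hbc⟩ := hlt
  obtain ⟨g, rfl⟩ := rr_surj M w p
  obtain ⟨Φ, hk, hx⟩ := exists_frame_at hF hw a
  subst hk
  obtain rfl : a = pte Φ := Subtype.ext hx
  rcases pt_cases Φ hF b with rfl | ⟨s, hs, rfl⟩
  · exact hab rfl
  rcases pt_cases Φ hF c with rfl | ⟨t, ht, rfl⟩
  · exact hac rfl
  refine hp ((rr_eq_one hF hw M g).2 (scal_of_two Φ hF g ha (fun h => hbc ?_) hb hc))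
  subst h
  rfl

/-- A point stabiliser with at least `q` elements yields a root group. -/
theorem top_of_stab_large (hq : 3 ≤ q)
    (hmove : ∀ v : Fin 3 → F, v ≠ 0 → ∃ g ∈ M, ∀ a : F, act g v ≠ a • v) (x : Pt q w)
    (hk : q ≤ Nat.card (MulAction.stabilizer (J M w) x)) : M = ⊤ := by
  have hT := SUThree38MonoPerm.fixed_point_many (P := MulAction.stabilizer (J M w) x) x
    (fun p => p.2)
    (fun p hp => fixed_le_two hF hw M p.1 (fun h => hp (Subtype.ext h)))
    (card_points hF hw) (by omega) hk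
  obtain ⟨Φ, hk', hx⟩ := exists_frame_at hF hw x
  subst hk'
  obtain rfl : x = pte Φ := Subtype.ext hx
  have hq0 : ((q + 1 : ℕ) : F) = 1 := by
    have h : ((q : F)) ^ 2 = 0 := by rw [← Nat.cast_pow, ← hF]; exact FiniteField.cast_card_eq_zero F
    rw [Nat.cast_add, Nat.cast_one, pow_eq_zero_iff (two_ne_zero (α := ℕ)) |>.1 h, zero_add]
  have key : ∀ p : {p : MulAction.stabilizer (J M Φ.k) (pte Φ) // p = 1 ∨
      ∀ y : Pt q Φ.k, p • y = y → y = pte Φ}, ∃ c : MinIndexPSU3Stab89.rootAdd hF Φ M,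
      ∀ (c0 : F) (h0 : c0 + c0 ^ q = 0),
        p.1 • ptc Φ hF c0 h0 = ptc Φ hF (c0 + c.1) ((MinIndexPSU3Stab89.skew hF).add_mem h0
          (MinIndexPSU3Stab89.rootAdd_le hF Φ M c.2)) := by
    rintro ⟨p, hp⟩
    by_cases h1 : p = 1
    · refine ⟨0, fun c0 h0 => ?_⟩
      subst h1
      simp
    replace hp := hp.resolve_left h1
    obtain ⟨g, hg⟩ := rr_surj M Φ.k p.1
    have hsm : ∀ y : Pt q Φ.k, p • y = g • y := fun y => by
      show p.1 • y = g • y
      rw [← hg, rr_smul]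
    have hge : g • pte Φ = pte Φ := by rw [← hsm]; exact p.2
    obtain ⟨a0, ha0, he⟩ := smul_pte Φ hF g hge
    obtain ⟨y, x, hf, hy, hyx⟩ := form_f Φ hF g he
    have hy0 : y ≠ 0 := fun h0 => by rw [h0, mul_zero] at hy; exact zero_ne_one hy
    have hya : y = a0 := by
      by_contra hne
      have hd : y - a0 ≠ 0 := sub_ne_zero.2 hne
      have hy' : a0 * y ^ q = 1 := by
        have := congrArg (· ^ q) hy
        simpa [mul_pow, pow_q_q hF] using this
      have hc : x / (y - a0) + (x / (y - a0)) ^ q = 0 := by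
        rw [div_pow, sub_pow_q hF, div_add_div _ _ hd (by rw [← sub_pow_q hF]; exact pow_ne_zero _ hd)]
        rw [show x * (y ^ q - a0 ^ q) + (y - a0) * x ^ q = 0 from ?_, zero_div]
        refine mul_left_cancel₀ hy0 (mul_left_cancel₀ ha0 ?_)
        linear_combination (a0 * y - a0 * a0) * hyx + (-x * a0) * hy + (x * a0) * hy'
      have := hp (ptc Φ hF _ hc) (by
        rw [hsm, smul_ptc Φ hF g he hf hy0]
        field_simp
        ring)
      exact pte_ne_ptc Φ hF hc this.symm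
    subst hya
    have ha1 : y ^ (q + 1) = 1 := by rw [pow_succ]; exact hy
    obtain ⟨b, hb⟩ := g.2.2
    have hb1 : (b : F) ^ (q + 1) = 1 := by
      have h := herm_act g.1 Φ.k Φ.k
      rw [hb, herm_smul_left, herm_smul_right, Φ.kk, mul_one] at h
      rwa [pow_succ']
    have hpow : ∀ n : ℕ, act (g.1 ^ n) Φ.e = y ^ n • Φ.e ∧
        act (g.1 ^ n) Φ.f = y ^ n • Φ.f + ((n : F) * y ^ n * (x / y)) • Φ.e ∧
        act (g.1 ^ n) Φ.k = (b : F) ^ n • Φ.k := by
      intro n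
      induction n with
      | zero => simp [act_one]
      | succ n ih =>
        obtain ⟨i1, i2, i3⟩ := ih
        refine ⟨?_, ?_, ?_⟩
        · rw [pow_succ' g.1, act_mul, i1, act_smul, he, smul_smul, ← pow_succ]
        · rw [pow_succ' g.1, act_mul, i2, act_add, act_smul, act_smul, he, hf, smul_add, smul_smul, smul_smul,
            smul_smul, add_assoc, ← add_smul, ← pow_succ]
          congr 2
          push_cast
          field_simp
          ring
        · rw [pow_succ' g.1, act_mul, i3, act_smul, hb, smul_smul, ← pow_succ]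
    obtain ⟨i1, i2, i3⟩ := hpow (q + 1)
    rw [ha1, one_smul] at i1
    rw [ha1, one_smul, hq0, one_mul, one_mul] at i2
    rw [hb1, one_smul] at i3
    have hcs : x / y + (x / y) ^ q = 0 := by
      rw [div_pow, div_add_div _ _ hy0 (pow_ne_zero _ hy0)]
      rw [show x * y ^ q + y * x ^ q = 0 by linear_combination hyx, zero_div]
    have htv : g.1 ^ (q + 1) = tv hF Φ.e (x / y) Φ.ee hcs := by
      refine su_ext fun v => ?_
      conv_lhs => rw [Φ.span v, act_add, act_add, act_smul, act_smul, act_smul, i1, i2, i3]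
      conv_rhs => rw [tv_act]; arg 1; rw [Φ.span v]
      rw [smul_add, smul_smul, mul_comm (hh v Φ.e) (x / y)]
      abel
    refine ⟨⟨x / y, (MinIndexPSU3Stab89.tv_mem_iff hF Φ M hcs).1 (htv ▸ M.pow_mem g.2.1 _)⟩, fun c0 h0 => ?_⟩
    rw [hsm]
    refine (smul_ptc Φ hF g he hf hy0 h0 _).2 ?_
    simp only
    field_simp
  choose f hf using key
  have hinj : Function.Injective f := by
    intro p p' h
    refine Subtype.ext (Subtype.ext (Subtype.ext (Equiv.ext fun y => ?_)))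
    show p.1 • y = p'.1 • y
    rcases pt_cases Φ hF y with rfl | ⟨c0, h0, rfl⟩
    · exact p.1.2.trans p'.1.2.symm
    · rw [hf p c0 h0, hf p' c0 h0]
      simp only [h]
  have heq : MinIndexPSU3Stab89.rootAdd hF Φ M = MinIndexPSU3Stab89.skew hF :=
    AddSubgroup.eq_of_le_of_card_ge (MinIndexPSU3Stab89.rootAdd_le hF Φ M) (by
      rw [MinIndexPSU3Stab89.card_skew]
      exact hT.trans (Nat.card_le_card_of_injective f hinj))
  refine SUThree44Base.top_of_root hF hq (e_ne_zero Φ) ((centre_iff hF Φ.ee).2 fun c hc => ?_) hmove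
  rw [MinIndexPSU3Stab89.tv_mem_iff hF Φ M hc, heq]
  exact hc

omit hF hw in
/-- An orthogonal anisotropic basis of the orthogonal of `w`. -/
structure Pair (q : ℕ) (w a b : Fin 3 → F) : Prop where
  ww : hermForm 3 F q w w = 1
  aw : hermForm 3 F q a w = 0
  bw : hermForm 3 F q b w = 0
  ab : hermForm 3 F q b a = 0
  aa : hermForm 3 F q a a ≠ 0
  bb : hermForm 3 F q b b ≠ 0
  span : ∀ v : Fin 3 → F, hermForm 3 F q v w = 0 → ∃ s t : F, v = s • a + t • b

omit hw in
/-- The image of the stabiliser of the line of `a`. -/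
noncomputable def E (a : Fin 3 → F) : Subgroup (J M w) :=
  ({ carrier := {g : Kw M w | ∃ c : Fˣ, act g.1 a = (c : F) • a}
     one_mem' := ⟨1, by rw [OneMemClass.coe_one, act_one, Units.val_one, one_smul]⟩
     mul_mem' := by
       rintro g k ⟨c, hc⟩ ⟨d, hd⟩
       exact ⟨d * c, by rw [Subgroup.coe_mul, act_mul, hd, act_smul, hc, smul_smul, Units.val_mul]⟩
     inv_mem' := by
       rintro g ⟨c, hc⟩
       refine ⟨c⁻¹, ?_⟩
       conv_rhs => rw [← act_inv_act g.1 a, hc, act_smul, smul_smul, Units.inv_mul, one_smul]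
       rfl } : Subgroup (Kw M w)).map (rr M w)

section Pair

omit hw
variable {a b : Fin 3 → F} (hP : Pair q w a b)
include hF hP

theorem act_b {g : Kw M w} {c : F} (hc : act g.1 a = c • a) : ∃ d : F, act g.1 b = d • b := by
  have hc0 : c ≠ 0 := fun h => hP.aa (by
    have := herm_act g.1 a a
    rw [hc, h, zero_smul, herm_zero_left] at this
    exact this.symm)
  obtain ⟨s, t, hst⟩ := hP.span _ (perp_act g hP.bw)
  have h := herm_act g.1 b a
  rw [hst, hc, herm_smul_right, herm_add_left, herm_smul_left, herm_smul_left, hP.ab, mul_zero, add_zero] at h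
  have hs : s = 0 := by simpa [hc0, hP.aa, q_ne_zero hF] using h
  exact ⟨t, by rw [hst, hs, zero_smul, zero_add]⟩

theorem scal_of_eig {g : Kw M w} {c : F} (ha : act g.1 a = c • a) (hb : act g.1 b = c • b) : Scal w g.1 := by
  refine ⟨c, fun v hv => ?_⟩
  obtain ⟨s, t, rfl⟩ := hP.span v hv
  rw [act_add, act_smul, act_smul, ha, hb, smul_add, smul_smul, smul_smul, smul_smul, smul_smul, mul_comm s,
    mul_comm t]

theorem mem_E {g : Kw M w} : rr M w g ∈ E M a ↔ ∃ c : F, act g.1 a = c • a := by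
  constructor
  · rintro ⟨k, ⟨c, hc⟩, hk⟩
    obtain ⟨l, hl⟩ := (rr_eq_one hF hP.ww M (k⁻¹ * g)).1 (by rw [map_mul, map_inv, hk, inv_mul_cancel])
    have h := congrArg (act k.1) (hl a hP.aw)
    rw [Subgroup.coe_mul, Subgroup.coe_inv, act_mul, act_act_inv, act_smul, hc, smul_smul] at h
    exact ⟨_, h⟩
  · rintro ⟨c, hc⟩
    have hc0 : c ≠ 0 := fun h => hP.aa (by
      have := herm_act g.1 a a
      rw [hc, h, zero_smul, herm_zero_left] at this
      exact this.symm)
    exact ⟨g, ⟨Units.mk0 c hc0, hc⟩, rfl⟩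

theorem E_free (p : J M w) (hp : p ∈ E M a) (hp1 : p ≠ 1) (x : Pt q w) : p • x ≠ x := by
  obtain ⟨g, rfl⟩ := rr_surj M w p
  obtain ⟨c, hc⟩ := (mem_E hF M hP).1 hp
  obtain ⟨d, hd⟩ := act_b hF M hP hc
  obtain ⟨v, hv0, hv, hvw, rfl⟩ := exists_pt x
  intro h
  rw [rr_smul, smul_pt] at h
  obtain ⟨l, -, hl⟩ := pt_eq h
  obtain ⟨s, t, rfl⟩ := hP.span v hvw
  rw [act_add, act_smul, act_smul, hc, hd] at hl
  have hab := herm_skew_zero hF hP.ab
  have h1 := congrArg (fun u => hh u a) hl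
  have h2 := congrArg (fun u => hh u b) hl
  simp [herm_add_left, herm_smul_left, hP.ab, hab, hP.aa, hP.bb] at h1 h2
  simp [herm_add_left, herm_add_right hF, herm_smul_left, herm_smul_right, hP.ab, hab] at hv
  have hs : s ≠ 0 := fun h0 => by
    have ht : t = 0 := by simpa [h0, hP.bb, q_ne_zero hF] using hv
    exact hv0 (by rw [h0, ht, zero_smul, zero_smul, add_zero])
  have ht : t ≠ 0 := fun h0 => by
    exact hs (by simpa [h0, hP.aa, q_ne_zero hF] using hv)
  have hcl : c = l := mul_left_cancel₀ (mul_ne_zero hs hP.aa) (by linear_combination h1)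
  have hdl : d = l := mul_left_cancel₀ (mul_ne_zero ht hP.bb) (by linear_combination h2)
  rw [hcl] at hc
  rw [hdl] at hd
  exact hp1 ((rr_eq_one hF hP.ww M g).2 (scal_of_eig hF M hP hc hd))

theorem card_E_dvd : Nat.card (E (w := w) M a) ∣ q + 1 := by
  rw [← card_points hF hP.ww]
  exact DicksonLine.dvd_card_of_free fun p x h => by
    by_contra hp
    exact E_free hF M hP p.1 p.2 (fun e => hp (Subtype.ext e)) x h

theorem conj_E {g h : Kw M w} (hh1 : rr M w h ∈ E M a) (hne : rr M w h ≠ 1)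
    (hc : (rr M w g)⁻¹ * rr M w h * rr M w g ∈ E M a) :
    (∃ c : F, act g.1 a = c • a) ∨ (∃ c : F, act g.1 a = c • b) := by
  rw [← map_inv, ← map_mul, ← map_mul, mem_E hF M hP] at hc
  obtain ⟨μ, hμ⟩ := hc
  obtain ⟨c, hcc⟩ := (mem_E hF M hP).1 hh1
  obtain ⟨d, hd⟩ := act_b hF M hP hcc
  have hcd : c ≠ d := by
    rintro rfl
    exact hne ((rr_eq_one hF hP.ww M h).2 (scal_of_eig hF M hP hcc hd))
  have h2 := congrArg (act g.1) hμ
  rw [Subgroup.coe_mul, Subgroup.coe_mul, Subgroup.coe_inv, act_mul, act_mul, act_act_inv, act_smul] at h2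
  obtain ⟨s, t, hst⟩ := hP.span _ (perp_act g hP.aw)
  rw [hst, act_add, act_smul, act_smul, hcc, hd] at h2
  have hab := herm_skew_zero hF hP.ab
  have e1 := congrArg (fun u => hh u a) h2
  have e2 := congrArg (fun u => hh u b) h2
  simp [herm_add_left, herm_smul_left, hP.ab, hab, hP.aa, hP.bb] at e1 e2
  by_cases hs : s = 0
  · exact Or.inr ⟨t, by rw [hst, hs, zero_smul, zero_add]⟩
  · left
    refine ⟨s, ?_⟩
    have hcm : c = μ := mul_left_cancel₀ (mul_ne_zero hs hP.aa) (by linear_combination e1)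
    have ht : t = 0 := by
      by_contra ht
      exact hcd (hcm.trans (mul_left_cancel₀ (mul_ne_zero ht hP.bb) (by linear_combination e2)).symm)
    rw [hst, ht, zero_smul, add_zero]

end Pair

end Cfsg.Agent.SUThree38MonoAct
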