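import Cfsg.Agent.Lib.SUThree42SO3Base
import Cfsg.Agent.Lib.MinIndexPSU3Cases89
import Cfsg.Agent.Lib.MinIndexPGLLine89

/-!
Maximality of the orthogonal subfield groups of `SU_3(q)`.
-/

set_option autoImplicit false
set_option linter.unusedSectionVars false
set_option linter.unusedVariables false

namespace Cfsg.Agent.SUThree42SO3

open Cfsg Cfsg.Agent.OrthUnitaryHerm Cfsg.Agent.OrthUnitaryTransvection Cfsg.Agent.OrthUnitaryMaximal
open Cfsg.Agent.MinIndexPSU3Geo89 Cfsg.Agent.MinIndexPSU3Stab89 Cfsg.Agent.MinIndexPSU3Plane89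
open Cfsg.Agent.MinIndexPSU3Orbit89
open Cfsg.Agent.SubfieldRational (rat rat_add rat_smul rat_eq_zero)
open scoped Matrix MatrixGroups OnePoint

variable {F : Type*} [Field F] [Fintype F] {q : ℕ}

local notation "hh" => hermForm 3 F q

variable {F₀ : Subfield F} {P : GL (Fin 3) F} (S : Setup q F F₀ P)

include S in
theorem card_sub (hF : Fintype.card F = q ^ 2) : Nat.card F₀ = q :=
  (Nat.card_congr (Equiv.subtypeEquivRight S.fix)).trans (card_fixed hF)

include S in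
theorem card_sub_units (hF : Fintype.card F = q ^ 2) : Nat.card F₀ˣ = q - 1 := by
  rw [Nat.card_units, card_sub S hF]

theorem U_k (hF : Fintype.card F = q ^ 2) (s : F₀) :
    act (U S hF s) S.Φ.k = S.Φ.k + (-(S.lam * S.N * s)) • S.Φ.e := by
  rw [S.k_eq, act_smul, U_w, smul_add, smul_smul]
  congr 2
  ring

theorem U_P (hF : Fintype.card F = q ^ 2) (s : F₀) : U S hF s ∈ S.Φ.P := (mem_P S.Φ).2 (U_e S hF s)

theorem phi_U (hF : Fintype.card F = q ^ 2) (s : F₀) : phi S.Φ (U S hF s) = -(S.lam * S.N * s) := by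
  show hh (act (U S hF s) S.Φ.k) S.Φ.f = _
  rw [U_k, herm_add_left, herm_smul_left, S.Φ.kf, S.Φ.ef, mul_one, zero_add]

theorem nu_ne : S.lam * S.N ≠ 0 := mul_ne_zero S.lam_ne S.N_ne

/-- A scalar element. -/
noncomputable def zc (hF : Fintype.card F = q ^ 2) (c : F) (h3 : c ^ 3 = 1) (hq : c ^ (q + 1) = 1) : SU 3 F q :=
  mkSU (Matrix.diagonal fun _ : Fin 3 => c) (by simp [h3]) fun u v => by
    rw [show (Matrix.diagonal fun _ : Fin 3 => c) *ᵥ u = c • u from funext fun i => Matrix.mulVec_diagonal _ _ _,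
      show (Matrix.diagonal fun _ : Fin 3 => c) *ᵥ v = c • v from funext fun i => Matrix.mulVec_diagonal _ _ _,
      herm_smul_left, herm_smul_right, ← mul_assoc, ← pow_succ', hq, one_mul]

theorem zc_act (hF : Fintype.card F = q ^ 2) (c : F) (h3 : c ^ 3 = 1) (hq : c ^ (q + 1) = 1) (x : Fin 3 → F) :
    act (zc hF c h3 hq) x = c • x := funext fun i => Matrix.mulVec_diagonal _ _ _

theorem exists_gen (hF : Fintype.card F = q ^ 2) (S : Setup q F F₀ P) (h7 : 7 ≤ q) :
    ∃ a : F₀ˣ, ((a : F₀) : F) ^ 2 ≠ 1 := by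
  obtain ⟨a, ha⟩ := IsCyclic.exists_ofOrder_eq_natCard (α := F₀ˣ)
  refine ⟨a, fun h => ?_⟩
  have h2 : orderOf a ≤ 2 := orderOf_le_of_pow_eq_one (by norm_num) (Units.ext (Subtype.ext (by
    rw [Units.val_pow_eq_pow_val, SubmonoidClass.coe_pow, h]; rfl)))
  rw [ha, card_sub_units S hF] at h2
  omega

/-- No line is fixed. -/
theorem hmove (hF : Fintype.card F = q ^ 2) (S : Setup q F F₀ P) (h7 : 7 ≤ q) (v : Fin 3 → F) (hv : v ≠ 0) :
    ∃ g ∈ Hc q F₀ P, ∀ b : F, act g v ≠ b • v := by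
  by_contra! hall
  obtain ⟨a, ha⟩ := exists_gen hF S h7
  have ha0 : ((a : F₀) : F) ≠ 0 := fun h => a.ne_zero (Subtype.ext h)
  obtain ⟨l, hl⟩ := hall _ (T_mem S hF a)
  obtain ⟨t1, t2, t3⟩ := T_act S hF a
  set α := hh v S.Φ.f with hα
  set β := hh v S.Φ.e with hβ
  set γ := hh v S.Φ.k with hγ
  have hx := S.Φ.span v
  rw [← hα, ← hβ, ← hγ] at hx
  have e1 := congrArg (fun z => hh z S.Φ.f) hl
  have e2 := congrArg (fun z => hh z S.Φ.e) hl
  have e3 := congrArg (fun z => hh z S.Φ.k) hl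
  rw [hx] at e1 e2 e3
  simp [act_add, act_smul, t1, t2, t3, herm_add_left, herm_smul_left, S.Φ.ee, S.Φ.ef, S.Φ.fe, S.Φ.ff,
    S.Φ.ke, S.Φ.kf, S.Φ.ek, S.Φ.fk, S.Φ.kk] at e1 e2 e3
  obtain ⟨g, hg, m, hm, hgm⟩ := exists_swap S hF
  by_cases hγ0 : γ = 0
  · obtain ⟨b, hb⟩ := hall _ hg
    by_cases hα0 : α = 0
    · have hβ0 : β ≠ 0 := fun h => hv (by rw [hx, hγ0, hα0, h]; simp)
      rw [hx, hγ0, hα0, zero_smul, zero_smul, zero_add, add_zero, act_smul, smul_smul] at hb
      have h1 := congrArg (fun z => hh (act g⁻¹ z) S.Φ.e) hb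
      simp only [act_smul, act_inv_act, herm_smul_left, S.Φ.fe] at h1
      have h2 : act g⁻¹ S.Φ.f = m⁻¹ • S.Φ.e := by
        rw [eq_inv_smul_iff₀ hm, ← act_smul, ← hgm, act_inv_act]
      rw [h2, herm_smul_left, S.Φ.ee, mul_zero, mul_zero] at h1
      exact hβ0 (by simpa using h1)
    · have hlA : l = ((a : F₀) : F) := mul_right_cancel₀ hα0 (by linear_combination -e1)
      have hβ0 : β = 0 := by
        by_contra h
        have : l = ((a : F₀) : F)⁻¹ := mul_right_cancel₀ h (by linear_combination -e2)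
        rw [hlA] at this
        exact ha (by rw [sq]; nth_rewrite 2 [this]; exact mul_inv_cancel₀ ha0)
      rw [hx, hγ0, hβ0, zero_smul, zero_smul, add_zero, add_zero, act_smul, hgm, smul_smul, smul_smul] at hb
      have h1 := congrArg (fun z => hh z S.Φ.e) hb
      simp only [herm_smul_left, S.Φ.fe, S.Φ.ee, mul_one, mul_zero] at h1
      exact (mul_ne_zero hα0 hm) h1
  · have hl1 : l = 1 := mul_right_cancel₀ hγ0 (by linear_combination -e3)
    have hα0 : α = 0 := by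
      by_contra h
      exact ha (by rw [mul_right_cancel₀ h (show ((a : F₀) : F) * α = 1 * α by
        rw [hl1] at e1; linear_combination e1)]; simp)
    have hβ0 : β = 0 := by
      by_contra h
      have h1 := mul_right_cancel₀ h (show ((a : F₀) : F)⁻¹ * β = 1 * β by
        rw [hl1] at e2; linear_combination e2)
      exact ha (by rw [inv_eq_one.1 h1]; simp)
    obtain ⟨b, hb⟩ := hall _ (U_mem S hF 1)
    rw [hx, hα0, hβ0, zero_smul, zero_smul, zero_add, zero_add, act_smul, U_k, smul_add, smul_smul, smul_smul] at hb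
    have h1 := congrArg (fun z => hh z S.Φ.f) hb
    simp only [herm_add_left, herm_smul_left, S.Φ.kf, S.Φ.ef] at h1
    simp [hγ0, S.lam_ne, S.N_ne] at h1

/-- A root element is outside. -/
theorem not_all (hF : Fintype.card F = q ^ 2) (S : Setup q F F₀ P) : ∃ g : SU 3 F q, toGLn g ∉
    Geo.subfieldSubgroup F₀ P := by
  obtain ⟨c, hc0, hc⟩ := exists_skew (F := F) hF
  refine ⟨tv hF S.Φ.e c S.Φ.ee hc, fun h => ?_⟩
  obtain ⟨r, hr⟩ := S.f_rat
  obtain ⟨a, ha⟩ := S.e_rat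
  obtain ⟨k, z, hz⟩ := mem_Hc.1 (show tv hF S.Φ.e c S.Φ.ee hc ∈ Hc q F₀ P from h) r
  rw [← hr, tv_act, S.Φ.fe, mul_one] at hz
  have hk : k ≠ 0 := fun h0 => by
    have h1 := congrArg (fun y => hh y S.Φ.e) hz
    simp [h0, herm_add_left, herm_smul_left, S.Φ.fe, S.Φ.ee, herm_zero_left] at h1
  have ha0 : a ≠ 0 := fun h0 => e_ne_zero S.Φ (by rw [ha, h0, SubfieldRational.rat_zero])
  have hi : r ∉ Submodule.span F₀ {a} := fun h0 => by
    obtain ⟨s, rfl⟩ := Submodule.mem_span_singleton.1 h0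
    have := S.Φ.fe
    rw [hr, rat_smul, ← ha, herm_smul_left, S.Φ.ee, mul_zero] at this
    exact zero_ne_one this
  obtain ⟨m1, m2⟩ := SubfieldRational.rat_coeff_mem P ha0 hi (a := k⁻¹) (b := k⁻¹ * c) (z := z)
    (by rw [← hr, ← ha, ← smul_smul, ← smul_add, hz, smul_smul, inv_mul_cancel₀ hk, one_smul])
  have hcF : c ∈ F₀ := by
    rw [show c = k⁻¹ * c / k⁻¹ by field_simp]
    exact F₀.div_mem m2 m1
  rw [(S.fix c).1 hcF] at hc
  exact hc0 ((mul_eq_zero.1 (show (2 : F) * c = 0 by linear_combination hc)).resolve_left S.two)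

variable {M : Subgroup (SU 3 F q)} (hF : Fintype.card F = q ^ 2) (hM : Hc q F₀ P ≤ M)
include hF hM

/-- A root element in the group gives everything. -/
theorem top_of_root_mem (h7 : 7 ≤ q) {d : F} (hd : d ∈ rootAdd hF S.Φ M) (hd0 : d ≠ 0) : M = ⊤ := by
  have hsq : ∀ t : F₀ˣ, ((t : F₀) : F) ^ 2 * d ∈ rootAdd hF S.Φ M := fun t => by
    have h := root_smul_mem hF S.Φ M (hM (T_mem S hF t)) (fun h => t.ne_zero (Subtype.ext h)) (T_act S hF t).1 hd
    rwa [pow_succ, (S.fix _).1 (t : F₀).2, ← sq] at h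
  have hsq' : ∀ t : F₀, (t : F) ^ 2 * d ∈ rootAdd hF S.Φ M := fun t => by
    by_cases ht : t = 0
    · subst ht; simp
    · exact hsq (Units.mk0 t ht)
  have hd' : d + d ^ q = 0 := rootAdd_le hF S.Φ M hd
  refine SUThree44Base.top_of_root hF (by omega) (e_ne_zero S.Φ) ((centre_iff hF S.Φ.ee).2 fun c hc => ?_)
    fun v hv => ?_
  · rw [tv_mem_iff hF S.Φ M hc]
    have hdq : d ^ q = -d := by linear_combination hd'
    have hcq : c ^ q = -c := by linear_combination hc
    have hx : c / d ∈ F₀ := (S.fix _).2 (by rw [div_pow, hdq, hcq, neg_div_neg_eq])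
    set x : F₀ := ⟨_, hx⟩
    have h2 : (2 : F) ≠ 0 := S.two
    have e : c = (((x + 1) / 2 : F₀) : F) ^ 2 * d - (((x - 1) / 2 : F₀) : F) ^ 2 * d := by
      push_cast
      rw [show ((2 : F₀) : F) = 2 from map_ofNat F₀.subtype 2]
      show c = ((c / d + 1) / 2) ^ 2 * d - ((c / d - 1) / 2) ^ 2 * d
      field_simp
      ring
    rw [e]
    exact sub_mem (hsq' _) (hsq' _)
  · obtain ⟨g, hg, h⟩ := hmove hF S h7 v hv
    exact ⟨g, hM hg, h⟩

variable (hroot : rootAdd hF S.Φ M = ⊥)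
include hroot

theorem phi_fixed {x : F} (hx : x ∈ phiAdd hF S.Φ M) : x / (S.lam * S.N) ∈ F₀ := by
  have hν : -(S.lam * S.N) ∈ phiAdd hF S.Φ M :=
    ⟨U S hF 1, hM (U_mem S hF 1), U_P S hF 1, by rw [phi_U]; simp⟩
  have hν' := (phiAdd hF S.Φ M).neg_mem hν
  rw [neg_neg] at hν'
  have h := dd_mem_root hF S.Φ M hν' hx
  rw [hroot, AddSubgroup.mem_bot] at h
  refine (S.fix _).2 ?_
  rw [div_pow, div_eq_div_iff (pow_ne_zero _ (nu_ne S)) (nu_ne S)]
  simp only [dd] at h
  linear_combination -h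

theorem eq_of_phi {g h : SU 3 F q} (hg : g ∈ M) (hgP : g ∈ S.Φ.P) (hh' : h ∈ M) (hhP : h ∈ S.Φ.P)
    (e : phi S.Φ g = phi S.Φ h) : g = h := by
  set x := g⁻¹ * h with hx
  have hxP : x ∈ S.Φ.P := mul_mem (inv_mem hgP) hhP
  have h1 : phi S.Φ x = 0 := by
    have h2 := phi_mul hF S.Φ hgP hxP
    rw [hx, mul_inv_cancel_left, ← e] at h2
    linear_combination -h2
  have h2 : mu S.Φ x ∈ rootAdd hF S.Φ M := ⟨x, mul_mem (inv_mem hg) hh', hxP, h1, rfl⟩
  rw [hroot, AddSubgroup.mem_bot] at h2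
  have : x = 1 := eq_of_phi_mu hF S.Φ hxP (one_mem _) (by rw [h1, phi_one]) (by rw [h2, mu_one])
  exact inv_mul_eq_one.1 this

theorem card_phiAdd : Nat.card (phiAdd hF S.Φ M) = q := by
  refine Eq.trans ?_ (card_sub S hF)
  refine (Nat.card_congr ?_).symm
  refine Equiv.ofBijective (fun s : F₀ => ⟨_, ⟨U S hF s, hM (U_mem S hF s), U_P S hF s, phi_U S hF s⟩⟩) ⟨?_, ?_⟩
  · intro s t h
    have h' := congrArg Subtype.val h
    exact Subtype.ext (mul_left_cancel₀ (nu_ne S) (neg_inj.1 h'))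
  · rintro ⟨x, hx⟩
    refine ⟨⟨_, F₀.neg_mem (phi_fixed S hF hM hroot hx)⟩, Subtype.ext ?_⟩
    show -(S.lam * S.N * -(x / (S.lam * S.N))) = x
    field_simp [nu_ne S, S.lam_ne, S.N_ne]

/-- The structure of the stabiliser of the first singular line. -/
theorem stab_decomp {g : SU 3 F q} (hg : g ∈ M) {a : F} (ha : a ≠ 0) (h : act g S.Φ.e = a • S.Φ.e) :
    ∃ (c : F) (h3 : c ^ 3 = 1) (hc : c ^ (q + 1) = 1) (t : F₀ˣ) (s : F₀),
      a = c * ((t : F₀) : F) ∧ g = zc hF c h3 hc * (T S hF t * U S hF s) := by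
  have hν : -(S.lam * S.N) ∈ phiAdd hF S.Φ M :=
    ⟨U S hF 1, hM (U_mem S hF 1), U_P S hF 1, by rw [phi_U]; simp⟩
  have hσ := phi_fixed S hF hM hroot (phi_smul_mem hF S.Φ M hg ha h hν)
  rw [S.fix, mul_neg, neg_div, mul_div_cancel_right₀ _ (nu_ne S), neg_pow_q hF, neg_inj, div_pow, ← pow_mul,
    mul_comm 2, pow_mul, pow_q_q hF] at hσ
  set c := a ^ q / a with hcdef
  have haq : a ^ q ≠ 0 := pow_ne_zero _ ha
  have hc3 : c ^ 3 = 1 := by
    rw [hcdef, div_pow, div_eq_one_iff_eq (pow_ne_zero _ ha)]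
    field_simp at hσ
    linear_combination hσ
  have hcq : c ^ (q + 1) = 1 := by
    rw [hcdef, pow_succ, div_pow, pow_q_q hF]
    field_simp
  have hc0 : c ≠ 0 := div_ne_zero haq ha
  have hfix : a / c ∈ F₀ := (S.fix _).2 (by
    have hcq' : c ^ q = c ^ 2 := mul_right_cancel₀ hc0 (by rw [← pow_succ, hcq, ← pow_succ, hc3])
    rw [div_pow, hcq', div_eq_div_iff (pow_ne_zero _ hc0) hc0, show a ^ q = c * a by rw [hcdef, div_mul_cancel₀ _ ha]]
    ring)
  set t : F₀ˣ := Units.mk0 ⟨_, hfix⟩ (fun h0 => div_ne_zero ha hc0 (congrArg Subtype.val h0)) with ht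
  set z := zc hF c hc3 hcq with hz
  have hzM : z ∈ M := hM (scalar_mem_Hc (zc_act hF c hc3 hcq))
  set g' := (z * T S hF t)⁻¹ * g with hg'
  have hg'M : g' ∈ M := mul_mem (inv_mem (mul_mem hzM (hM (T_mem S hF t)))) hg
  have hg'P : g' ∈ S.Φ.P := by
    rw [mem_P, hg', act_mul, h]
    have e1 : act (z * T S hF t) S.Φ.e = a • S.Φ.e := by
      rw [act_mul, (T_act S hF t).1, zc_act, smul_smul]
      congr 1
      show c * (a / c) = a
      field_simp
    rw [← e1, act_inv_act]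
  refine ⟨c, hc3, hcq, t, ⟨_, F₀.neg_mem (phi_fixed S hF hM hroot ⟨g', hg'M, hg'P, rfl⟩)⟩, ?_, ?_⟩
  · show a = c * (a / c)
    field_simp
  · have e2 : g' = U S hF ⟨_, F₀.neg_mem (phi_fixed S hF hM hroot ⟨g', hg'M, hg'P, rfl⟩)⟩ :=
      eq_of_phi S hF hM hroot hg'M hg'P (hM (U_mem S hF _)) (U_P S hF _) (by
        rw [phi_U]
        show phi S.Φ g' = -(S.lam * S.N * -(phi S.Φ g' / (S.lam * S.N)))
        field_simp [nu_ne S, S.lam_ne, S.N_ne])
    rw [← e2, hg', ← hz]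
    group

theorem stab_eq : M ⊓ MulAction.stabilizer (SU 3 F q) S.Φ.line =
    Hc q F₀ P ⊓ MulAction.stabilizer (SU 3 F q) S.Φ.line := by
  refine le_antisymm (fun g hg => ⟨?_, hg.2⟩) (inf_le_inf_right _ hM)
  obtain ⟨a, ha, h⟩ := act_e_of_stab S.Φ hg.2
  obtain ⟨c, h3, hc, t, s, -, rfl⟩ := stab_decomp S hF hM hroot hg.1 ha h
  exact mul_mem (scalar_mem_Hc (zc_act hF c h3 hc)) (mul_mem (T_mem S hF t) (U_mem S hF s))

theorem units_le_eig :
    (Units.map (F₀.subtype : F₀ →+* F).toMonoidHom).range ≤ eigImg S.Φ M := by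
  rintro _ ⟨t, rfl⟩
  exact (mem_eigImg S.Φ M).2 ⟨_, hM (T_mem S hF t), (T_act S hF t).1⟩

theorem card_units_range : Nat.card (Units.map (F₀.subtype : F₀ →+* F).toMonoidHom).range = q - 1 := by
  rw [← card_sub_units S hF]
  exact (Nat.card_congr (MonoidHom.ofInjective (Units.map_injective F₀.subtype.injective)).toEquiv).symm

omit hF hM hroot

theorem card_orbit_mul (K : Subgroup (SU 3 F q)) (L : Line q F) :
    Nat.card (MulAction.orbit K L) * Nat.card (K ⊓ MulAction.stabilizer (SU 3 F q) L : Subgroup _) =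
      Nat.card K := by
  have e : Nat.card (K ⊓ MulAction.stabilizer (SU 3 F q) L : Subgroup _) =
      Nat.card (MulAction.stabilizer K L) :=
    Nat.card_congr ⟨fun g => ⟨⟨g.1, g.2.1⟩, g.2.2⟩, fun g => ⟨g.1.1, g.1.2, g.2⟩, fun g => rfl, fun g => rfl⟩
  rw [e, Nat.card_coe_set_eq, ← MulAction.index_stabilizer, Subgroup.index_mul_card]

theorem f_ne_zero (Φ : Frame q F) : Φ.f ≠ 0 := fun h => by
  have := Φ.fe; rw [h, herm_zero_left] at this; exact zero_ne_one this

/-- The conic. -/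
theorem card_orbit_Hc (hF : Fintype.card F = q ^ 2) :
    Nat.card (MulAction.orbit (Hc q F₀ P) S.Φ.line) = q + 1 := by
  classical
  let pt : F₀ → Line q F := fun s => U S hF s • mkLine S.Φ.f (f_ne_zero S.Φ) S.Φ.ff
  have horb : MulAction.orbit (Hc q F₀ P) S.Φ.line = insert S.Φ.line (Set.range pt) := by
    ext L
    constructor
    · rintro ⟨⟨g, hg⟩, rfl⟩
      show g • S.Φ.line ∈ _
      obtain ⟨a, ha⟩ := S.e_rat
      obtain ⟨l, u, hu⟩ := mem_Hc.1 hg a
      rw [← ha] at hu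
      have hl : l ≠ 0 := fun h0 => act_ne_zero g (e_ne_zero S.Φ) (by rw [hu, h0, zero_smul])
      have huu : hh (rat P u) (rat P u) = 0 := by
        have h1 := herm_act g S.Φ.e S.Φ.e
        rw [hu, S.Φ.ee, herm_smul_left, herm_smul_right] at h1
        exact (mul_eq_zero.1 ((mul_eq_zero.1 h1).resolve_left hl)).resolve_left (pow_ne_zero _ hl)
      rw [Frame.line, smul_mkLine]
      by_cases h : hh (rat P u) S.Φ.e = 0
      · obtain ⟨b, hb⟩ := SUThree44Base.dep_of_iso_orth hF (e_ne_zero S.Φ) S.Φ.ee huu h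
        refine Or.inl (Subtype.ext ?_)
        show lineOf (act g S.Φ.e) = lineOf S.Φ.e
        have hlb : l * b ≠ 0 := fun h0 => act_ne_zero g (e_ne_zero S.Φ) (by rw [hu, hb, smul_smul, h0, zero_smul])
        rw [hu, hb, smul_smul, lineOf_smul hlb]
      · obtain ⟨m, s, hm, hs⟩ := rat_iso S hF huu h
        refine Or.inr ⟨s, Subtype.ext ?_⟩
        show act (U S hF s) '' lineOf S.Φ.f = lineOf (act g S.Φ.e)
        rw [image_lineOf, hu, hs, smul_smul, lineOf_smul (mul_ne_zero hl hm)]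
    · rintro (rfl | ⟨s, rfl⟩)
      · exact MulAction.mem_orbit_self _
      · obtain ⟨g, hg, l, hl, hgl⟩ := exists_swap S hF
        refine ⟨⟨U S hF s * g, mul_mem (U_mem S hF s) hg⟩, Subtype.ext ?_⟩
        show act (U S hF s * g) '' lineOf S.Φ.e = act (U S hF s) '' lineOf S.Φ.f
        rw [image_lineOf, image_lineOf, act_mul, hgl, act_smul, lineOf_smul hl]
  have hne : ∀ s, pt s ≠ S.Φ.line := by
    intro s h
    rw [show pt s = mkLine _ _ _ from smul_mkLine _ _ _ _, Frame.line] at h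
    obtain ⟨b, -, hb⟩ := mkLine_eq h
    have h1 := congrArg (fun z => hh z S.Φ.e) hb
    simp only [U_f, herm_add_left, herm_smul_left, S.Φ.fe, S.Φ.ee, we S] at h1
    simp at h1
  have hinj : Function.Injective pt := by
    intro s t h
    have h' : ((U S hF t)⁻¹ * U S hF s) • mkLine S.Φ.f (f_ne_zero S.Φ) S.Φ.ff =
        mkLine S.Φ.f (f_ne_zero S.Φ) S.Φ.ff := by
      rw [mul_smul, show U S hF s • mkLine S.Φ.f _ S.Φ.ff = pt t from h]
      exact inv_smul_smul _ _
    have h1 := semiregular hF S.Φ (mul_mem (inv_mem (U_P S hF t)) (U_P S hF s))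
      (fun e => by
        obtain ⟨b, -, hb⟩ := mkLine_eq (show mkLine S.Φ.f (f_ne_zero S.Φ) S.Φ.ff = mkLine S.Φ.e _ S.Φ.ee from e)
        have := congrArg (fun z => hh z S.Φ.e) hb
        simp [herm_smul_left, S.Φ.fe, S.Φ.ee] at this) h'
    rw [inv_mul_eq_one] at h1
    have := congrArg (phi S.Φ) h1
    rw [phi_U, phi_U] at this
    exact Subtype.ext (mul_left_cancel₀ (nu_ne S) (neg_inj.1 this)).symm
  rw [horb, Nat.card_coe_set_eq, Set.ncard_insert_of_notMem (by rintro ⟨s, hs⟩; exact hne s hs) (Set.toFinite _),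
    ← Nat.card_coe_set_eq, Nat.card_range_of_injective hinj, card_sub S hF]

/-- An action with stabilisers of order at most two. -/
theorem dvd_two_mul {G X : Type*} [Group G] [Finite G] [MulAction G X] [Finite X]
    (h : ∀ x : X, Nat.card (MulAction.stabilizer G x) ∣ 2) : Nat.card G ∣ 2 * Nat.card X := by
  classical
  haveI : Fintype (Quotient (MulAction.orbitRel G X)) := Fintype.ofFinite _
  rw [Nat.card_congr (MulAction.selfEquivSigmaOrbitsQuotientStabilizer G X), Nat.card_sigma, Finset.mul_sum]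
  refine Finset.dvd_sum fun ω _ => ?_
  obtain ⟨c, hc⟩ := h (Quotient.out ω)
  refine ⟨c, ?_⟩
  rw [← (MulAction.stabilizer G (Quotient.out ω)).card_mul_index, hc, Subgroup.index]
  ring

theorem T_fix (hF : Fintype.card F = q ^ 2) (t : F₀ˣ) {v : Fin 3 → F} (hv0 : v ≠ 0) (hv : hh v v = 0)
    (he : ∀ b : F, v ≠ b • S.Φ.e) (hf : ∀ b : F, v ≠ b • S.Φ.f) {l : F} (hl : act (T S hF t) v = l • v) :
    ((t : F₀) : F) ^ 2 = 1 := by
  have ha0 : ((t : F₀) : F) ≠ 0 := fun h => t.ne_zero (Subtype.ext h)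
  obtain ⟨t1, t2, t3⟩ := T_act S hF t
  have hx := S.Φ.span v
  set α := hh v S.Φ.f with hα
  set β := hh v S.Φ.e with hβ
  set γ := hh v S.Φ.k with hγ
  have e1 := congrArg (fun z => hh z S.Φ.f) hl
  have e2 := congrArg (fun z => hh z S.Φ.e) hl
  have e3 := congrArg (fun z => hh z S.Φ.k) hl
  rw [hx] at e1 e2 e3
  simp [act_add, act_smul, t1, t2, t3, herm_add_left, herm_smul_left, S.Φ.ee, S.Φ.ef, S.Φ.fe, S.Φ.ff,
    S.Φ.ke, S.Φ.kf, S.Φ.ek, S.Φ.fk, S.Φ.kk] at e1 e2 e3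
  by_cases hγ0 : γ = 0
  · have hα0 : α ≠ 0 := fun h => hf β (by rw [hx, hγ0, h]; simp)
    have hβ0 : β ≠ 0 := fun h => he α (by rw [hx, hγ0, h]; simp)
    have hlA : l = ((t : F₀) : F) := mul_right_cancel₀ hα0 (by linear_combination -e1)
    have hlB : l = ((t : F₀) : F)⁻¹ := mul_right_cancel₀ hβ0 (by linear_combination -e2)
    rw [hlA] at hlB
    rw [sq]; nth_rewrite 2 [hlB]; exact mul_inv_cancel₀ ha0
  · have hl1 : l = 1 := mul_right_cancel₀ hγ0 (by linear_combination -e3)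
    rw [hl1] at e1 e2
    by_contra hne
    have hα0 : α = 0 := by
      by_contra h
      exact hne (by rw [mul_right_cancel₀ h (show ((t : F₀) : F) * α = 1 * α by linear_combination e1)]; simp)
    have hβ0 : β = 0 := by
      by_contra h
      have h1 := mul_right_cancel₀ h (show ((t : F₀) : F)⁻¹ * β = 1 * β by linear_combination e2)
      exact hne (by rw [inv_eq_one.1 h1]; simp)
    rw [hx, hα0, hβ0, zero_smul, zero_smul, zero_add, zero_add, herm_smul_left, herm_smul_right, S.Φ.kk,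
      mul_one, ← pow_succ'] at hv
    exact hγ0 ((pow_eq_zero_iff (Nat.succ_ne_zero q)).1 hv)

/-- The toral group is semiregular outside two lines, up to its involution. -/
theorem torus_dvd (hF : Fintype.card F = q ^ 2) (hM : Hc q F₀ P ≤ M) :
    q - 1 ∣ 2 * (Nat.card (MulAction.orbit M S.Φ.line) - 2) := by
  classical
  set e := S.Φ.line
  set f := mkLine S.Φ.f (f_ne_zero S.Φ) S.Φ.ff with hfdef
  let X := {L : Line q F // L ∈ MulAction.orbit M e \ {e, f}}
  have fixe : ∀ t : F₀ˣ, T S hF t • e = e := fun t => by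
    refine Subtype.ext ?_
    show act (T S hF t) '' lineOf S.Φ.e = lineOf S.Φ.e
    rw [image_lineOf, (T_act S hF t).1, lineOf_smul (fun h => t.ne_zero (Subtype.ext h))]
  have fixf : ∀ t : F₀ˣ, T S hF t • f = f := fun t => by
    refine Subtype.ext ?_
    show act (T S hF t) '' lineOf S.Φ.f = lineOf S.Φ.f
    rw [image_lineOf, (T_act S hF t).2.1, lineOf_smul (inv_ne_zero fun h => t.ne_zero (Subtype.ext h))]
  have hclosed : ∀ (t : F₀ˣ) (L : X), T S hF t • L.1 ∈ MulAction.orbit M e \ {e, f} := fun t L => by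
    obtain ⟨⟨g, hgL⟩, hne⟩ := L.2
    refine ⟨⟨⟨T S hF t * g.1, mul_mem (hM (T_mem S hF t)) g.2⟩, ?_⟩, ?_⟩
    · show (T S hF t * g.1) • e = T S hF t • L.1
      rw [mul_smul]; exact congrArg _ hgL
    · simp only [Set.mem_insert_iff, Set.mem_singleton_iff, not_or] at hne ⊢
      exact ⟨fun h => hne.1 (MulAction.injective _ (h.trans (fixe t).symm)),
        fun h => hne.2 (MulAction.injective _ (h.trans (fixf t).symm))⟩
  letI : MulAction F₀ˣ X :=
    { smul := fun t L => ⟨T S hF t • L.1, hclosed t L⟩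
      one_smul := fun L => Subtype.ext (by
        show T S hF 1 • L.1 = L.1
        rw [← torus_apply, map_one, one_smul])
      mul_smul := fun s t L => Subtype.ext (by
        show T S hF (s * t) • L.1 = T S hF s • T S hF t • L.1
        rw [← torus_apply, map_mul, torus_apply, torus_apply, mul_smul]) }
  have h2 : ∀ L : X, Nat.card (MulAction.stabilizer F₀ˣ L) ∣ 2 := by
    intro L
    have key : ∀ t ∈ MulAction.stabilizer F₀ˣ L, t ^ 2 = 1 := by
      intro t ht
      obtain ⟨v, hv0, hv, hL⟩ := exists_rep L.1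
      have h1 : T S hF t • L.1 = L.1 := congrArg Subtype.val ht
      rw [hL, smul_mkLine] at h1
      obtain ⟨l, -, hl⟩ := mkLine_eq h1
      obtain ⟨-, hne⟩ := L.2
      simp only [Set.mem_insert_iff, Set.mem_singleton_iff, not_or] at hne
      refine Units.ext (Subtype.ext ?_)
      rw [Units.val_pow_eq_pow_val, SubmonoidClass.coe_pow]
      refine T_fix S hF t hv0 hv (fun b hb => hne.1 ?_) (fun b hb => hne.2 ?_) hl
      · have hb0 : b ≠ 0 := fun h => hv0 (by rw [hb, h, zero_smul])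
        rw [hL]
        exact Subtype.ext (show lineOf v = lineOf S.Φ.e by rw [hb, lineOf_smul hb0])
      · have hb0 : b ≠ 0 := fun h => hv0 (by rw [hb, h, zero_smul])
        rw [hL]
        exact Subtype.ext (show lineOf v = lineOf S.Φ.f by rw [hb, lineOf_smul hb0])
    obtain ⟨g, hg⟩ := IsCyclic.exists_ofOrder_eq_natCard (α := MulAction.stabilizer F₀ˣ L)
    rw [← hg]
    exact orderOf_dvd_of_pow_eq_one (Subtype.ext (key g.1 g.2))
  have h := dvd_two_mul (G := F₀ˣ) (X := X) h2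
  rw [card_sub_units S hF] at h
  convert h using 2
  have hsub : ({e, f} : Set (Line q F)) ⊆ MulAction.orbit M e := by
    rintro L (rfl | rfl)
    · exact MulAction.mem_orbit_self _
    · obtain ⟨g, hg, l, hl, hgl⟩ := exists_swap S hF
      exact ⟨⟨g, hM hg⟩, Subtype.ext (show act g '' lineOf S.Φ.e = lineOf S.Φ.f by
        rw [image_lineOf, hgl, lineOf_smul hl])⟩
  have hef : e ≠ f := fun h => by
    obtain ⟨b, -, hb⟩ := mkLine_eq (show mkLine S.Φ.e _ S.Φ.ee = mkLine S.Φ.f (f_ne_zero S.Φ) S.Φ.ff from h)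
    have := congrArg (fun z => hh z S.Φ.f) hb
    simp [herm_smul_left, S.Φ.ef, S.Φ.ff] at this
  rw [Nat.card_coe_set_eq, show Nat.card X = (MulAction.orbit M e \ {e, f}).ncard from Nat.card_coe_set_eq _,
    Set.ncard_sdiff hsub, Set.ncard_pair hef]

section Orbit

include hF hM hroot

theorem card_M_P : Nat.card (M ⊓ S.Φ.P : Subgroup _) = q := by
  rw [card_inter_P hF, card_phiAdd S hF hM hroot, hroot, AddSubgroup.card_bot, mul_one]

theorem card_M_eq :
    Nat.card M = Nat.card (MulAction.orbit M S.Φ.line) * (Nat.card (eigImg S.Φ M) * q) := by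
  rw [← card_orbit_mul (F := F) M S.Φ.line, card_stab_inter, card_M_P S hF hM hroot]

theorem card_Hc_eq : Nat.card (Hc q F₀ P) = (q + 1) * (Nat.card (eigImg S.Φ M) * q) := by
  rw [← card_orbit_mul (F := F) (Hc q F₀ P) S.Φ.line, ← stab_eq S hF hM hroot, card_orbit_Hc S hF,
    card_stab_inter, card_M_P S hF hM hroot]

theorem sub_one_dvd_eig : q - 1 ∣ Nat.card (eigImg S.Φ M) :=
  card_units_range S hF hM hroot ▸ Subgroup.card_dvd_of_le (units_le_eig S hF hM hroot)

omit hF hM hroot in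
/-- The possible numbers of conics in an orbit. -/
theorem n_cases {q n : ℕ} (hq : 2 ≤ q) (hn : n ∣ q ^ 3 + 1) (hmod : n % q = 1)
    (hle : n + q ≤ q ^ 2 + 1) : n = 1 ∨ n = q + 1 ∨ n + q = q ^ 2 + 1 := by
  obtain ⟨m, hm⟩ := hn
  have hm1 : m % q = 1 := by
    have h := congrArg (· % q) hm
    simpa [Nat.add_mod, Nat.pow_mod, Nat.mul_mod, hmod, Nat.mod_eq_of_lt hq] using h.symm
  obtain ⟨j, rfl⟩ : ∃ j, n = j * q + 1 := ⟨n / q, by rw [← hmod, Nat.div_add_mod']⟩
  obtain ⟨k, rfl⟩ : ∃ k, m = k * q + 1 := ⟨m / q, by rw [← hm1, Nat.div_add_mod']⟩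
  have e : j + k + j * k * q = q ^ 2 := by
    refine Nat.eq_of_mul_eq_mul_right (show 0 < q by omega) ?_
    ring_nf at hm ⊢
    omega
  rcases Nat.eq_zero_or_pos j with rfl | hj
  · exact Or.inl (by simp)
  have hj' : j < q := by
    by_contra h
    have : q * q ≤ j * q := Nat.mul_le_mul_right q (not_lt.1 h)
    rw [sq] at hle
    omega
  rcases Nat.eq_zero_or_pos k with rfl | hk
  · exfalso; rw [sq] at e; simp at e; nlinarith
  have hjk : j * k < q := by
    by_contra h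
    have h1 : q * q ≤ j * k * q := Nat.mul_le_mul_right q (not_lt.1 h)
    rw [sq] at e
    omega
  have hsum : q ≤ j + k := by
    have : q ∣ j + k := (Nat.dvd_add_left (dvd_mul_left q (j * k))).1 (e ▸ dvd_pow_self q two_ne_zero)
    exact Nat.le_of_dvd (by omega) this
  rcases Nat.eq_or_lt_of_le (show 1 ≤ j by omega) with rfl | hj2
  · exact Or.inr (Or.inl (by ring))
  rcases Nat.eq_or_lt_of_le (show 1 ≤ k by omega) with rfl | hk2
  · refine Or.inr (Or.inr ?_)
    rw [← e]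
    have : j + 1 = q := by omega
    subst this
    ring
  nlinarith

theorem orbit_cases :
    Nat.card (MulAction.orbit M S.Φ.line) = q + 1 ∨
      Nat.card (MulAction.orbit M S.Φ.line) = (q + 1) * (q + 1) ∨
      Nat.card (MulAction.orbit M S.Φ.line) = q ^ 3 + 1 := by
  have hq2 := two_le_q hF
  set o := Nat.card (MulAction.orbit M S.Φ.line)
  set E := Nat.card (eigImg S.Φ M)
  have hE : 0 < E * q := Nat.mul_pos Nat.card_pos (by omega)
  have hdiv : q + 1 ∣ o := by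
    have h := Subgroup.card_dvd_of_le hM
    rw [card_Hc_eq S hF hM hroot, card_M_eq S hF hM hroot] at h
    exact Nat.dvd_of_mul_dvd_mul_right hE h
  haveI : Nonempty (MulAction.orbit M S.Φ.line) := ⟨⟨_, MulAction.mem_orbit_self _⟩⟩
  have ho0 : 0 < o := Nat.card_pos
  have hmod : q ∣ o - 1 := by
    have h := orbit_mod hF S.Φ M (M ⊓ S.Φ.P) inf_le_left inf_le_right
    rwa [card_M_P S hF hM hroot] at h
  have hcop : Nat.Coprime o q := Nat.coprime_of_dvd fun k hk hko hkq => hk.one_lt.ne'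
    (Nat.dvd_one.1 (by
      have h := Nat.dvd_sub hko (hkq.trans hmod)
      rwa [Nat.sub_sub_self ho0] at h))
  have hle : o ≤ q ^ 3 + 1 := card_Line (F := F) hF ▸ Nat.card_le_card_of_injective _ Subtype.val_injective
  have h1 : o * ((q - 1) * q) ∣ q ^ 3 * (q ^ 3 + 1) * (q ^ 2 - 1) := by
    refine (Nat.mul_dvd_mul_left o (Nat.mul_dvd_mul_right (sub_one_dvd_eig S hF hM hroot) q)).trans ?_
    have h := Subgroup.card_subgroup_dvd_card M
    rwa [card_SU_eq hF, card_M_eq S hF hM hroot] at h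
  have h2 : o ∣ (q ^ 3 + 1) * (q + 1) := by
    have h3 : o * ((q - 1) * q) ∣ (q ^ 2 * ((q ^ 3 + 1) * (q + 1))) * ((q - 1) * q) := by
      refine h1.trans (dvd_of_eq ?_)
      rw [MinIndexPSU3Cases89.sq_sub_one hF]
      ring
    exact (Nat.Coprime.pow_right 2 hcop).dvd_of_dvd_mul_left
      (Nat.dvd_of_mul_dvd_mul_right (Nat.mul_pos (by omega) (by omega)) h3)
  obtain ⟨n, hn⟩ := hdiv
  rw [hn, mul_comm _ (q + 1)] at h2
  have hn1 : n % q = 1 := by
    obtain ⟨j, hj⟩ := hmod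
    have e : n + n * q = q * j + 1 := by rw [← hj, Nat.sub_add_cancel ho0, hn]; ring
    have := congrArg (· % q) e
    simpa [Nat.add_mul_mod_self_right, Nat.mul_add_mod, Nat.mod_eq_of_lt hq2] using this
  have hnle : n + q ≤ q ^ 2 + 1 := by
    rw [hn] at hle
    by_contra h
    have h4 := Nat.mul_le_mul_left (q + 1) (show q ^ 2 + 2 ≤ n + q by omega)
    ring_nf at h4 hle
    omega
  rcases n_cases (by omega) (Nat.dvd_of_mul_dvd_mul_left (Nat.succ_pos q) h2) hn1 hnle with h | h | h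
  · exact Or.inl (by rw [hn, h, mul_one])
  · exact Or.inr (Or.inl (by rw [hn, h]))
  · refine Or.inr (Or.inr ?_)
    have h4 := congrArg ((q + 1) * ·) h
    rw [hn]
    ring_nf at h4 ⊢
    omega

theorem eig_eq_one (h3 : q % 3 ≠ 2) {g : SU 3 F q} (hg : g ∈ M) {a : F} (ha : a ≠ 0)
    (h : act g S.Φ.e = a • S.Φ.e) :
    ∃ (t : F₀ˣ) (s : F₀), a = ((t : F₀) : F) ∧ g = T S hF t * U S hF s := by
  obtain ⟨c, hc3, hcq, t, s, e1, e2⟩ := stab_decomp S hF hM hroot hg ha h
  have hc : c = 1 := by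
    have : c ^ Nat.gcd 3 (q + 1) = 1 := pow_gcd_eq_one.2 ⟨hc3, hcq⟩
    rwa [(Nat.prime_three.coprime_iff_not_dvd.2 (show ¬ 3 ∣ q + 1 by omega)).gcd_eq_one, pow_one] at this
  subst hc
  refine ⟨t, s, by rw [e1, one_mul], ?_⟩
  rw [e2, show zc hF (1 : F) hc3 hcq = 1 from OrthUnitaryTransvection.su_ext fun x => by
    rw [zc_act, one_smul, act_one], one_mul]

theorem seven_false (h7 : q = 7) (ho : Nat.card (MulAction.orbit M S.Φ.line) = q ^ 3 + 1) : False := by
  classical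
  have hE : Nat.card (eigImg S.Φ M) = 6 := by
    have he : eigImg S.Φ M ≤ (Units.map (F₀.subtype : F₀ →+* F).toMonoidHom).range := by
      intro a ha
      obtain ⟨g, hg, e⟩ := (mem_eigImg S.Φ M).1 ha
      obtain ⟨t, s, e1, -⟩ := eig_eq_one S hF hM hroot (by omega) hg a.ne_zero e
      exact ⟨t, Units.ext e1.symm⟩
    rw [le_antisymm he (units_le_eig S hF hM hroot), card_units_range S hF hM hroot, h7]
  have hcM : Nat.card M = 14448 := by rw [card_M_eq S hF hM hroot, ho, hE, h7]; norm_num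
  haveI : Fact (Nat.Prime 43) := ⟨by norm_num⟩
  obtain ⟨Q⟩ : Nonempty (Sylow 43 M) := inferInstance
  have hQ : Nat.card Q = 43 := by
    obtain ⟨i, hi⟩ := Q.2.exists_card_eq
    have h1 : Nat.card Q ∣ 14448 := hcM ▸ Subgroup.card_subgroup_dvd_card (Q : Subgroup M)
    have h2 : 43 ∣ Nat.card Q := Q.dvd_card_of_dvd_card (by rw [hcM]; norm_num)
    rw [hi] at h1 h2
    rw [hi]
    rcases i with _ | _ | i
    · norm_num at h2
    · rfl
    · exact absurd ((pow_dvd_pow 43 (show 2 ≤ i + 1 + 1 by omega)).trans h1) (by norm_num)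
  have hidx : (Q : Subgroup M).index = 336 := by
    have h := (Q : Subgroup M).card_mul_index
    rw [show Nat.card (Q : Subgroup M) = 43 from hQ, hcM] at h
    omega
  haveI : (Q : Subgroup M).Normal := by
    have h1 := Q.card_dvd_index
    rw [hidx] at h1
    have h2 : Nat.card (Sylow 43 M) % 43 = 1 := card_sylow_modEq_one 43 M
    have key : ∀ k < 337, k ∣ 336 → k % 43 = 1 → k = 1 := by decide +kernel
    haveI := (Nat.card_eq_one_iff_unique.1
      (key _ (Nat.lt_succ_of_le (Nat.le_of_dvd (by norm_num) h1)) h1 h2)).1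
    exact Q.normal_of_subsingleton
  haveI : IsCyclic (Q : Subgroup M) := isCyclic_of_prime_card hQ
  obtain ⟨x, hx⟩ := IsCyclic.exists_ofOrder_eq_natCard (α := (Q : Subgroup M))
  obtain ⟨a, ha⟩ := exists_gen hF S (by omega)
  let t : M := ⟨T S hF a, hM (T_mem S hF a)⟩
  let u : M := ⟨U S hF 1, hM (U_mem S hF 1)⟩
  let φ : M →* MulAut (Q : Subgroup M) := MulAut.conjNormal
  have hφ : φ (t * u * t⁻¹ * u⁻¹) = 1 := by
    have hcomm : Commute (φ t) (φ u) := by
      apply (IsCyclic.mulAutMulEquiv (Q : Subgroup M)).injective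
      rw [map_mul, map_mul, mul_comm]
    rw [map_mul, map_mul, map_mul, map_inv, map_inv, hcomm.eq]
    group
  have h1 : (t * u * t⁻¹ * u⁻¹) * (x : M) = (x : M) * (t * u * t⁻¹ * u⁻¹) := by
    have h := congrArg Subtype.val (DFunLike.congr_fun hφ x)
    rw [MulAut.conjNormal_apply] at h
    exact mul_inv_eq_iff_eq_mul.1 h
  set w : SU 3 F q := T S hF a * U S hF 1 * (T S hF a)⁻¹ * (U S hF 1)⁻¹
  have ha0 : ((a : F₀) : F) ≠ 0 := fun h => a.ne_zero (Subtype.ext h)
  have hwP : w ∈ S.Φ.P := mul_mem (conj_mem_P S.Φ ha0 (T_act S hF a).1 (U_P S hF 1)) (inv_mem (U_P S hF 1))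
  have hw1 : w ≠ 1 := by
    intro h
    rw [mul_inv_eq_one] at h
    have h2 := congrArg (phi S.Φ) h
    rw [phi_conj hF S.Φ ha0 (T_act S hF a).1 (U_P S hF 1), (S.fix _).1 (a : F₀).2, sq,
      mul_div_cancel_right₀ _ ha0] at h2
    have h3 : phi S.Φ (U S hF 1) ≠ 0 := by rw [phi_U]; simp [S.lam_ne, S.N_ne]
    have h4 : ((a : F₀) : F) = 1 := mul_right_cancel₀ h3 (by rw [one_mul]; exact h2)
    exact ha (by rw [h4, one_pow])
  have hfix : ((x : M) : SU 3 F q) • S.Φ.line = S.Φ.line :=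
    comm_P hF S.Φ hwP hw1 (congrArg Subtype.val h1)
  have hd := Subgroup.orderOf_dvd_natCard (M ⊓ MulAction.stabilizer (SU 3 F q) S.Φ.line)
    (x := ((x : M) : SU 3 F q)) ⟨(x : M).2, hfix⟩
  rw [Subgroup.orderOf_coe, Subgroup.orderOf_coe, hx, hQ, card_stab_inter, card_M_P S hF hM hroot, hE,
    h7] at hd
  norm_num at hd

theorem trans_of_card (ho : Nat.card (MulAction.orbit M S.Φ.line) = q ^ 3 + 1) :
    ∀ L L' : Line q F, ∃ g ∈ M, g • L = L' := by
  have hu : MulAction.orbit M S.Φ.line = Set.univ :=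
    Set.eq_of_subset_of_ncard_le (Set.subset_univ _)
      (by rw [Set.ncard_univ, card_Line hF, ← Nat.card_coe_set_eq, ho]) (Set.toFinite _)
  intro L L'
  obtain ⟨g, hg⟩ : L ∈ MulAction.orbit M S.Φ.line := hu ▸ Set.mem_univ L
  obtain ⟨k, hk⟩ : L' ∈ MulAction.orbit M S.Φ.line := hu ▸ Set.mem_univ L'
  refine ⟨k.1 * g.1⁻¹, mul_mem k.2 (inv_mem g.2), ?_⟩
  rw [← hg, ← hk]
  show (k.1 * g.1⁻¹) • g.1 • S.Φ.line = k.1 • S.Φ.line
  rw [mul_smul, inv_smul_smul]

theorem lineTrans (h3 : q % 3 ≠ 2) (htr : ∀ L L' : Line q F, ∃ g ∈ M, g • L = L') : LineTrans S.Φ M := by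
  intro v hv0 hvv hvk
  obtain ⟨g, hg, e⟩ := htr S.Φ.line (mkLine v hv0 hvv)
  rw [Frame.line, smul_mkLine] at e
  obtain ⟨a, ha, e'⟩ := mkLine_eq e
  set i := T S hF (-1)
  obtain ⟨i1, i2, i3⟩ := T_act S hF (-1)
  push_cast [Units.val_neg, Units.val_one, NegMemClass.coe_neg, OneMemClass.coe_one, inv_neg, inv_one] at i1 i2
  have hiv : act i v = (-1 : F) • v := by
    rw [decomp S.Φ hvk, act_add, act_smul, act_smul, i1, i2, smul_add, smul_comm (-1 : F), smul_comm (-1 : F)]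
  set j := g⁻¹ * i * g with hj
  have hje : act j S.Φ.e = (-1 : F) • S.Φ.e := by
    have h1 : act g⁻¹ v = a⁻¹ • S.Φ.e := by
      rw [eq_inv_smul_iff₀ ha, ← act_smul, ← e', act_inv_act]
    rw [hj, act_mul, act_mul, e', act_smul, act_smul, hiv, act_smul, h1, smul_smul, smul_smul]
    congr 1
    field_simp
  obtain ⟨t, s, ht, hts⟩ := eig_eq_one S hF hM hroot h3
    (mul_mem (mul_mem (inv_mem hg) (hM (T_mem S hF _))) hg) (neg_ne_zero.2 one_ne_zero) hje
  obtain ⟨t1, t2, t3⟩ := T_act S hF t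
  set y := act g⁻¹ S.Φ.k with hy
  have hjy : act j y = y := by rw [hy, hj, act_mul, act_mul, act_act_inv, i3]
  have hye : hh y S.Φ.e = 0 := by
    have h1 : hh S.Φ.k (act g S.Φ.e) = 0 := by
      rw [e', herm_smul_right, herm_skew_zero hF hvk, mul_zero]
    rw [← herm_act g y S.Φ.e, hy, act_act_inv]
    exact h1
  have hd := S.Φ.span y
  rw [hye, zero_smul, add_zero] at hd
  obtain ⟨α, hα⟩ : ∃ α, hh y S.Φ.f = α := ⟨_, rfl⟩
  obtain ⟨γ, hγd⟩ : ∃ γ, hh y S.Φ.k = γ := ⟨_, rfl⟩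
  rw [hα, hγd] at hd
  have hγ : γ ≠ 0 := fun h => by
    have h1 := S.Φ.kk
    rw [← herm_act g⁻¹ S.Φ.k S.Φ.k, ← hy, hd, h, zero_smul, add_zero, herm_smul_left, herm_smul_right,
      S.Φ.ee] at h1
    simp at h1
  rw [show j = T S hF t * U S hF s from hts, act_mul, hd, act_add, act_smul, act_smul, U_e, U_k] at hjy
  simp only [act_add, act_smul, t1, t3, ← ht] at hjy
  have h2 := congrArg (fun z => hh z S.Φ.f) hjy
  simp only [herm_add_left, herm_smul_left, S.Φ.ef, S.Φ.kf, mul_one, mul_zero, add_zero] at h2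
  set r : F₀ := -(s / 2) with hr
  have hrv : (r : F) = -((s : F) / 2) := by
    rw [hr]
    push_cast
    rw [show ((2 : F₀) : F) = 2 from map_ofNat F₀.subtype 2]
  refine ⟨g * U S hF r, mul_mem hg (hM (U_mem S hF r)), ⟨γ⁻¹, inv_ne_zero hγ, ?_⟩, a, ha, ?_⟩
  · have h4 : γ • act (U S hF r) S.Φ.k = y := by
      rw [U_k, hd, smul_add, smul_smul, add_comm, hrv]
      congr 2
      field_simp [S.two]
      linear_combination h2
    rw [act_mul, eq_inv_smul_iff₀ hγ, ← act_smul, h4, hy, act_act_inv]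
  · rw [act_mul, U_e, e']

theorem conic_false (h9 : 9 ≤ q) (h3 : q % 3 ≠ 2)
    (htr : ∀ L L' : Line q F, ∃ g ∈ M, g • L = L') : False := by
  classical
  obtain ⟨p, f, hp, hchar, hf, hqp⟩ := exists_prime_pow hF
  haveI := hchar
  haveI : Fact p.Prime := ⟨hp⟩
  have hTL : ∀ t, T S hF t ∈ lineStab S.Φ := fun t =>
    ⟨1, one_ne_zero, by rw [(T_act S hF t).2.2, one_smul]⟩
  let ψ : F₀ˣ →* Matrix.ProjGenLinGroup (Fin 2) F :=
    (toPGL S.Φ).comp ((torus S hF).codRestrict (lineStab S.Φ) hTL)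
  have hrange : stabImg S.Φ M = ψ.range := by
    ext x
    constructor
    · rintro ⟨⟨g, hgL⟩, ⟨hgM, hgS⟩, rfl⟩
      obtain ⟨a, ha, e⟩ := act_e_of_stab S.Φ hgS
      obtain ⟨t, s, -, rfl⟩ := eig_eq_one S hF hM hroot h3 hgM ha e
      obtain ⟨b, -, hb⟩ := hgL
      rw [act_mul, U_k, act_add, act_smul, (T_act S hF t).1, (T_act S hF t).2.2] at hb
      have h2 := congrArg (fun z => hh z S.Φ.f) hb
      have hs : s = 0 := by
        have ht0 : ((t : F₀) : F) ≠ 0 := fun h => t.ne_zero (Subtype.ext h)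
        simp only [herm_add_left, herm_smul_left, S.Φ.ef, S.Φ.kf] at h2
        simp [S.lam_ne, S.N_ne, ht0] at h2
        exact h2
      subst hs
      refine ⟨t, congrArg (toPGL S.Φ) (Subtype.ext (show T S hF t = T S hF t * U S hF 0 from ?_))⟩
      refine (mul_eq_left.2 (frame_ext (Φ := S.Φ) ?_ ?_ ?_)).symm <;>
        simp [U_e, U_f, U_k, act_one]
    · rintro ⟨t, rfl⟩
      exact Subgroup.mem_map_of_mem _ (show _ ∧ _ from ⟨hM (T_mem S hF t),
        mem_stab_of_act S.Φ (fun h => t.ne_zero (Subtype.ext h)) (T_act S hF t).1⟩)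
  have hker : Nat.card ψ.ker ≤ 2 := by
    obtain ⟨y, hy⟩ := IsCyclic.exists_ofOrder_eq_natCard (α := ψ.ker)
    rw [← hy]
    refine orderOf_le_of_pow_eq_one two_pos (Subtype.ext (Units.ext (Subtype.ext ?_)))
    have h := ker_norm hF S.Φ (fun h => y.1.ne_zero (Subtype.ext h)) (T_act S hF y.1).1 y.2
    rw [pow_succ, (S.fix _).1 (y.1 : F₀).2, ← sq] at h
    push_cast
    exact h
  have hmul : Nat.card ψ.range * Nat.card ψ.ker = q - 1 := by
    rw [← card_sub_units S hF, ← ψ.ker.index_mul_card, Subgroup.index_ker]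
  set Sz := Nat.card ψ.range with hSz
  have hS1 : q - 1 ≤ Sz * 2 := hmul ▸ Nat.mul_le_mul_left _ hker
  have hSd : Sz ∣ q - 1 := ⟨_, hmul.symm⟩
  have hlt := lineTrans S hF hM hroot h3 htr
  have hJ := card_lineImg hF S.Φ M hlt
  rw [hrange, ← hSz] at hJ
  have hp' : ¬ p ∣ Nat.card (lineImg S.Φ M) := by
    intro h
    rw [hJ] at h
    have hpq : p ∣ q := hqp ▸ dvd_pow_self p hf.ne'
    rcases hp.dvd_mul.1 h with h | h
    · exact hp.one_lt.ne' (Nat.dvd_one.1 ((Nat.dvd_add_right hpq).1 h))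
    · have h2 := Nat.dvd_sub hpq (h.trans hSd)
      rw [Nat.sub_sub_self (by omega)] at h2
      exact hp.one_lt.ne' (Nat.dvd_one.1 h2)
  have hcc := MinIndexPGLLine89.card_cases p (lineImg S.Φ M) hp' (X := pts S.Φ)
    (by rw [card_pts hF S.Φ]; omega) (line_trans S.Φ M hlt) (infty_mem S.Φ)
    (MulAction.stabilizer (lineImg S.Φ M) (∞ : OnePoint F))
    (fun g hg => MulAction.mem_stabilizer_iff.1 hg)
    (by rw [card_stabilizer_infty, hrange]; omega)
  rw [hJ] at hcc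
  have hq13 : q ≤ 12 := by
    by_contra h
    have := Nat.mul_le_mul (show 14 ≤ q + 1 by omega) (show 6 ≤ Sz by omega)
    omega
  have hS : Sz ≤ q - 1 := Nat.le_of_dvd (by omega) hSd
  have hq' : q = 9 ∨ q = 10 ∨ q = 11 ∨ q = 12 := by omega
  rcases hq' with h | h | h | h <;> rw [h] at hcc h3 hS hS1 hSd <;> try omega
  have : Sz = 6 := by omega
  rw [this] at hSd
  norm_num at hSd

/-- A subgroup without root elements containing the orthogonal group properly is everything. -/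
theorem top_of_proper (h7 : 7 ≤ q) (hout : ∃ g ∈ M, g ∉ Hc q F₀ P) : M = ⊤ := by
  rcases orbit_cases S hF hM hroot with ho | ho | ho
  · obtain ⟨g, hgM, hgH⟩ := hout
    refine absurd ?_ hgH
    rwa [Subgroup.eq_of_le_of_card_ge hM
      (by rw [card_M_eq S hF hM hroot, card_Hc_eq S hF hM hroot, ho])]
  · exfalso
    have h := torus_dvd S hF hM
    rw [ho] at h
    obtain ⟨m, rfl⟩ : ∃ m, q = m + 1 := ⟨q - 1, by omega⟩
    have e : 2 * ((m + 1 + 1) * (m + 1 + 1) - 2) = m * (2 * m + 8) + 4 := by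
      have : (m + 1 + 1) * (m + 1 + 1) = m * (m + 4) + 4 := by ring
      rw [this, show m * (2 * m + 8) = 2 * (m * (m + 4)) by ring]
      omega
    rw [e, Nat.add_sub_cancel] at h
    have := Nat.le_of_dvd (by norm_num) ((Nat.dvd_add_right (dvd_mul_right m _)).1 h)
    omega
  by_cases h3 : q % 3 = 2
  · by_contra hne
    obtain ⟨d, hd⟩ : q + 1 ∣ Nat.card Fˣ := by
      rw [card_units' hF, MinIndexPSU3Cases89.sq_sub_one hF]; exact dvd_mul_right _ _
    haveI : Fact (Nat.Prime 3) := ⟨Nat.prime_three⟩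
    obtain ⟨w, hw⟩ := exists_prime_orderOf_dvd_card' (G := Fˣ) 3
      ((show 3 ∣ q + 1 by omega).trans ⟨d, hd⟩)
    have hw3 : (w : F) ^ 3 = 1 := by
      rw [← Units.val_pow_eq_pow_val, ← hw, pow_orderOf_eq_one, Units.val_one]
    have hwq : (w : F) ^ (q + 1) = 1 := by
      obtain ⟨c, hc⟩ : 3 ∣ q + 1 := by omega
      rw [hc, pow_mul, hw3, one_pow]
    have hnot : w ∉ (Units.map (F₀.subtype : F₀ →+* F).toMonoidHom).range := by
      rintro ⟨t, ht⟩
      have h1 : (w : F) ^ q = w := (S.fix _).1 (ht ▸ (t : F₀).2)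
      rw [pow_succ, h1] at hwq
      have h2 := orderOf_dvd_of_pow_eq_one (show w ^ 2 = 1 from Units.ext (by
        rw [Units.val_pow_eq_pow_val, sq, hwq, Units.val_one]))
      rw [hw] at h2
      norm_num at h2
    have hmem : w ∈ eigImg S.Φ M := (mem_eigImg S.Φ M).2
      ⟨zc hF (w : F) hw3 hwq, hM (scalar_mem_Hc (zc_act hF _ hw3 hwq)), zc_act hF _ hw3 hwq _⟩
    have hlt : q - 1 < Nat.card (eigImg S.Φ M) := by
      rw [← card_units_range S hF hM hroot]
      by_contra hle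
      exact hnot ((Subgroup.eq_of_le_of_card_ge (units_le_eig S hF hM hroot) (not_lt.1 hle)) ▸ hmem)
    have h2 : 2 * (q - 1) ≤ Nat.card (eigImg S.Φ M) := by
      obtain ⟨k, hk⟩ := sub_one_dvd_eig S hF hM hroot
      rcases k with _ | _ | k
      · rw [hk] at hlt; simp at hlt
      · rw [hk] at hlt; simp at hlt
      · rw [hk, mul_comm 2]; exact Nat.mul_le_mul_left _ (by omega)
    have hidx := MinIndexPSU3Cases89.index_ge hF M (by omega) (by omega)
      ((center_le_Hc (F₀ := F₀) (P := P) hF).trans hM) hne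
    have hm := M.card_mul_index
    rw [card_SU_eq hF, card_M_eq S hF hM hroot, ho] at hm
    have h4 : q ^ 2 - 1 ≤ Nat.card (eigImg S.Φ M) * q := by
      refine le_trans ?_ (Nat.mul_le_mul_right q h2)
      rw [MinIndexPSU3Cases89.sq_sub_one hF, show 2 * (q - 1) * q = 2 * q * (q - 1) by ring]
      exact Nat.mul_le_mul_right _ (by omega)
    have h5 := Nat.mul_le_mul (Nat.mul_le_mul_left (q ^ 3 + 1) h4) hidx
    rw [hm] at h5
    have h6 : 0 < (q ^ 3 + 1) * (q ^ 2 - 1) := by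
      have : 1 < q ^ 2 := Nat.one_lt_pow two_ne_zero (by omega)
      exact Nat.mul_pos (by omega) (by omega)
    rw [show q ^ 3 * (q ^ 3 + 1) * (q ^ 2 - 1) = (q ^ 3 + 1) * (q ^ 2 - 1) * q ^ 3 by ring] at h5
    have := Nat.le_of_mul_le_mul_left h5 h6
    omega
  · exfalso
    by_cases h : q = 7
    · exact seven_false S hF hM hroot h ho
    · have h8 : q ≠ 8 := by omega
      exact conic_false S hF hM hroot (by omega) h3 (trans_of_card S hF hM hroot ho)

end Orbit

/-- Orthogonal subfield groups are maximal in `SU_3(q)`. -/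
theorem maximal_SO3 {F : Type*} [Field F] [Fintype F] (q : ℕ) (hF : Fintype.card F = q ^ 2) (hq : 3 ≤ q) :
    Odd q → 7 ≤ q → ∀ (F₀ : Subfield F) (P : Matrix.GeneralLinearGroup (Fin 3) F),
      Fintype.card F = Nat.card F₀ ^ 2 → Cfsg.Geo.IsFormRationalStructure (Cfsg.hermForm 3 F q) F₀ 1 P →
      Cfsg.Geo.IsMaximalIn (Cfsg.GU 3 F q ⊓ Cfsg.Geo.specialLinear (Fin 3) F)
        (Cfsg.Geo.subfieldSubgroup F₀ P ⊓ (Cfsg.GU 3 F q ⊓ Cfsg.Geo.specialLinear (Fin 3) F)) := by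
  intro hodd h7 F₀ P hc hP
  have hc' : Nat.card F₀ = q := Nat.pow_left_injective two_ne_zero (hc.symm.trans hF)
  obtain ⟨S⟩ := exists_setup hF hodd F₀ P hc' hP
  refine SUThree44Base.isMaximalIn_of3 hF _ (not_all hF S) fun M hM g hg hgL => ?_
  by_cases hroot : rootAdd hF S.Φ M = ⊥
  · exact top_of_proper S hF hM hroot h7 ⟨g, hg, hgL⟩
  · obtain ⟨⟨d, hd⟩, hd0⟩ : ∃ d : rootAdd hF S.Φ M, d ≠ 0 := by
      by_contra! h
      exact hroot ((AddSubgroup.eq_bot_iff_forall _).2 fun x hx => congrArg Subtype.val (h ⟨x, hx⟩))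
    exact top_of_root_mem S hF hM h7 hd fun h => hd0 (Subtype.ext h)

end Cfsg.Agent.SUThree42SO3
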