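import Cfsg.Agent.Lib.SUThree44Base
import Cfsg.Agent.Lib.SubfieldRational
import Cfsg.Agent.Lib.QuadClassify

/-!
The orthogonal subfield structure of a three-dimensional unitary space: a rational frame and the rational
unipotent, toral and exchanging elements.
-/

set_option autoImplicit false
set_option linter.unusedSectionVars false
set_option linter.unusedVariables false

namespace Cfsg.Agent.SUThree42SO3

open Cfsg Cfsg.Agent.OrthUnitaryHerm Cfsg.Agent.OrthUnitaryTransvection Cfsg.Agent.OrthUnitaryMaximal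
open Cfsg.Agent.MinIndexPSU3Geo89 Cfsg.Agent.MinIndexPSU3Stab89
open Cfsg.Agent.SubfieldRational (rat rat_add rat_smul rat_sub rat_eq_zero mem_subfieldSubgroup_iff)
open scoped Matrix

variable {F : Type*} [Field F] [Fintype F] {q : ℕ}

local notation "hh" => hermForm 3 F q

/-- The fixed field is the given subfield. -/
theorem mem_iff (hF : Fintype.card F = q ^ 2) (F₀ : Subfield F) (hc : Nat.card F₀ = q) (x : F) :
    x ∈ F₀ ↔ x ^ q = x := by
  haveI : Fintype F₀ := Fintype.ofFinite F₀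
  have hin : ∀ y ∈ F₀, y ^ q = y := fun y hy => by
    have h := congrArg Subtype.val (FiniteField.pow_card (⟨y, hy⟩ : F₀))
    rw [← Nat.card_eq_fintype_card, hc] at h
    simpa using h
  have he : (F₀ : Set F) = {y | y ^ q = y} := by
    refine Set.eq_of_subset_of_ncard_le (fun y hy => hin y hy) ?_ (Set.toFinite _)
    rw [← Nat.card_coe_set_eq, ← Nat.card_coe_set_eq]
    exact (card_fixed (F := F) hF).trans_le hc.symm.le
  exact Set.ext_iff.1 he x

/-- A hyperbolic pair and a perpendicular unit vector span. -/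
theorem span_of (hF : Fintype.card F = q ^ 2) {e f k : Fin 3 → F} (haa : hh e e = 0) (hrr : hh f f = 0)
    (her : hh e f = 1) (hre : hh f e = 1) (hke : hh k e = 0) (hkf : hh k f = 0) (hkk : hh k k = 1)
    (x : Fin 3 → F) : x = hh x f • e + hh x e • f + hh x k • k := by
  have hek := herm_skew_zero hF hke
  have hfk := herm_skew_zero hF hkf
  have lin : LinearIndependent F ![e, f, k] := by
    rw [Fintype.linearIndependent_iff]
    intro c hc
    simp [Fin.sum_univ_three] at hc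
    have a1 := congrArg (fun y => hh y f) hc
    have a2 := congrArg (fun y => hh y e) hc
    have a3 := congrArg (fun y => hh y k) hc
    simp [herm_add_left, herm_smul_left, herm_zero_left, haa, hrr, her, hre, hke, hkf, hek, hfk, hkk] at a1 a2 a3
    intro i; fin_cases i <;> assumption
  have hx : x ∈ Submodule.span F (Set.range ![e, f, k]) :=
    lin.span_eq_top_of_card_eq_finrank (by simp) ▸ Submodule.mem_top
  obtain ⟨c, hc⟩ := (Submodule.mem_span_range_iff_exists_fun F).1 hx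
  simp [Fin.sum_univ_three] at hc
  have a1 := congrArg (fun y => hh y f) hc
  have a2 := congrArg (fun y => hh y e) hc
  have a3 := congrArg (fun y => hh y k) hc
  simp [herm_add_left, herm_smul_left, haa, hrr, her, hre, hke, hkf, hek, hfk, hkk] at a1 a2 a3
  rw [← a1, ← a2, ← a3, hc]

/-- A rational frame for an orthogonal subfield structure. -/
structure Setup (q : ℕ) (F : Type*) [Field F] (F₀ : Subfield F) (P : GL (Fin 3) F) where
  Φ : Frame q F
  w : Fin 3 → F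
  N : F
  lam : F
  fix : ∀ x : F, x ∈ F₀ ↔ x ^ q = x
  two : (2 : F) ≠ 0
  e_rat : ∃ u : Fin 3 → F₀, Φ.e = rat P u
  f_rat : ∃ u : Fin 3 → F₀, Φ.f = rat P u
  w_rat : ∃ u : Fin 3 → F₀, w = rat P u
  ww : hermForm 3 F q w w = N
  N_mem : N ∈ F₀
  N_ne : N ≠ 0
  k_eq : Φ.k = lam • w
  lam_ne : lam ≠ 0
  form_mem : ∀ u v : Fin 3 → F₀, hermForm 3 F q (rat P u) (rat P v) ∈ F₀

theorem exists_setup (hF : Fintype.card F = q ^ 2) (hodd : Odd q) (F₀ : Subfield F) (P : GL (Fin 3) F)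
    (hc : Nat.card F₀ = q) (hP : Geo.IsFormRationalStructure hh F₀ 1 P) : Nonempty (Setup q F F₀ P) := by
  have hfix := mem_iff hF F₀ hc
  have h2 : (2 : F) ≠ 0 := SU3InvolGeom.two_ne_zero' hF hodd
  have h20 : (2 : F₀) ≠ 0 := fun h => h2 (congrArg Subtype.val h)
  have hval : ∀ u v : Fin 3 → F₀, hh (rat P u) (rat P v) ∈ F₀ := fun u v => by
    have h := hP _ _ (fun i => (u i).2) (fun i => (v i).2)
    rw [one_mul] at h
    exact h
  have hsym : ∀ u v : Fin 3 → F₀, hh (rat P u) (rat P v) = hh (rat P v) (rat P u) := fun u v => by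
    rw [herm_conj hF (rat P v) (rat P u), (hfix _).1 (hval v u)]
  let B : LinearMap.BilinMap F₀ (Fin 3 → F₀) F₀ := LinearMap.mk₂ F₀
    (fun u v => ⟨hh (rat P u) (rat P v), hval u v⟩)
    (fun u u' v => Subtype.ext (show hh (rat P (u + u')) (rat P v) = hh (rat P u) (rat P v) + hh (rat P u') (rat P v)
      by rw [rat_add, herm_add_left]))
    (fun c u v => Subtype.ext (show hh (rat P (c • u)) (rat P v) = c * hh (rat P u) (rat P v)
      by rw [rat_smul, herm_smul_left]))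
    (fun u v v' => Subtype.ext (show hh (rat P u) (rat P (v + v')) = hh (rat P u) (rat P v) + hh (rat P u) (rat P v')
      by rw [rat_add, herm_add_right hF]))
    (fun c u v => Subtype.ext (show hh (rat P u) (rat P (c • v)) = c * hh (rat P u) (rat P v)
      by rw [rat_smul, herm_smul_right, (hfix _).1 c.2]))
  obtain ⟨a, -, ha0, hQa⟩ := QuadClassify.exists_singular (LinearMap.BilinMap.toQuadraticMap B) ⊤ (by simp)
  have haa : hh (rat P a) (rat P a) = 0 := congrArg Subtype.val hQa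
  have hra0 : rat P a ≠ 0 := fun h => ha0 (rat_eq_zero P h)
  obtain ⟨b, hb⟩ : ∃ b : Fin 3 → F₀, hh (rat P b) (rat P a) ≠ 0 := by
    by_contra! hno
    exact hra0 (eq_zero_of_herm_eq_zero hF fun y => herm_skew_zero hF
      (SubfieldRational.eq_zero_of_rat (F₀ := F₀) P (hermL q (rat P a)) hno y))
  set t : F₀ := ⟨_, hval b a⟩ with ht
  set s : F₀ := ⟨_, hval b b⟩ with hs
  have ht0 : (t : F) ≠ 0 := hb
  set r : Fin 3 → F₀ := t⁻¹ • b - (s / (2 * t ^ 2)) • a with hr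
  have hre : hh (rat P r) (rat P a) = 1 := by
    rw [hr, rat_sub, rat_smul, rat_smul, herm_sub_left, herm_smul_left, herm_smul_left, haa, mul_zero, sub_zero]
    show (t : F)⁻¹ * (t : F) = 1
    exact inv_mul_cancel₀ ht0
  have hrr : hh (rat P r) (rat P r) = 0 := by
    rw [hr]
    simp only [rat_sub, rat_smul, herm_sub_left, herm_sub_right hF, herm_smul_left, herm_smul_right,
      (hfix _).1 (t⁻¹).2, (hfix _).1 (s / (2 * t ^ 2)).2, haa, hsym a b]
    show ((t⁻¹ : F₀) : F) * (((t⁻¹ : F₀) : F) * (s : F) - ((s / (2 * t ^ 2) : F₀) : F) * (t : F)) -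
      ((s / (2 * t ^ 2) : F₀) : F) * (((t⁻¹ : F₀) : F) * (t : F) - ((s / (2 * t ^ 2) : F₀) : F) * 0) = 0
    have e2 : ((2 : F₀) : F) = 2 := map_ofNat F₀.subtype 2
    push_cast [e2]
    have ht1 : t ≠ 0 := fun h => ht0 (by rw [h]; rfl)
    field_simp
    ring
  have her : hh (rat P a) (rat P r) = 1 := (hsym a r).trans hre
  obtain ⟨k, hk1, hk2, hk3⟩ := exists_perp2 hF (le_refl 3) haa hrr her hre (r := 1) (one_pow _)
  have hspan0 := span_of hF haa hrr her hre hk1 hk2 hk3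
  let proj : (Fin 3 → F₀) → (Fin 3 → F₀) := fun u =>
    u - (⟨_, hval u r⟩ : F₀) • a - (⟨_, hval u a⟩ : F₀) • r
  have hproj : ∀ u, hh (rat P (proj u)) (rat P a) = 0 ∧ hh (rat P (proj u)) (rat P r) = 0 := fun u => by
    constructor <;>
    · show hh (rat P (u - _ - _)) _ = 0
      rw [rat_sub, rat_sub, rat_smul, rat_smul, herm_sub_left, herm_sub_left, herm_smul_left, herm_smul_left]
      simp [haa, hrr, hre, her]
  obtain ⟨u₀, hu₀⟩ : ∃ u, proj u ≠ 0 := by
    by_contra! hno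
    have hk : ∀ u, hh (rat P u) k = 0 := fun u => by
      have h := congrArg (fun z => hh (rat P z) k) (hno u)
      simp only [proj, rat_sub, rat_smul, herm_sub_left, herm_smul_left, herm_skew_zero hF hk1,
        herm_skew_zero hF hk2, SubfieldRational.rat_zero, herm_zero_left, mul_zero, sub_zero] at h
      exact h
    have h0 : k = 0 := eq_zero_of_herm_eq_zero hF fun y =>
      herm_skew_zero hF (SubfieldRational.eq_zero_of_rat (F₀ := F₀) P (hermL q k) hk y)
    rw [h0, herm_zero_left] at hk3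
    exact zero_ne_one hk3
  set c := proj u₀
  obtain ⟨hca, hcr⟩ := hproj u₀
  have hN : hh (rat P c) (rat P c) ≠ 0 := by
    intro h0
    refine hu₀ (rat_eq_zero P ?_)
    have hx := hspan0 (rat P (proj u₀))
    rw [(hproj u₀).1, (hproj u₀).2, zero_smul, zero_smul, zero_add, zero_add] at hx
    replace h0 : hh (rat P (proj u₀)) (rat P (proj u₀)) = 0 := h0
    rw [hx, herm_smul_left, herm_smul_right, hk3, mul_one] at h0
    rcases mul_eq_zero.1 h0 with h | h
    · rw [hx, h, zero_smul]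
    · rw [hx, (pow_eq_zero_iff (q_ne_zero hF)).1 h, zero_smul]
  have hNq : (hh (rat P c) (rat P c))⁻¹ ^ q = (hh (rat P c) (rat P c))⁻¹ := by
    rw [inv_pow, (hfix _).1 (hval c c)]
  obtain ⟨l, hl⟩ := exists_norm_eq hF hNq
  have hl0 : l ≠ 0 := fun h => inv_ne_zero hN (by rw [← hl, h, zero_pow (Nat.succ_ne_zero q)])
  have hkk : hh (l • rat P c) (l • rat P c) = 1 := by
    rw [herm_smul_left, herm_smul_right, ← mul_assoc, ← pow_succ', hl, inv_mul_cancel₀ hN]
  have hke : hh (l • rat P c) (rat P a) = 0 := by rw [herm_smul_left, hca, mul_zero]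
  have hkf : hh (l • rat P c) (rat P r) = 0 := by rw [herm_smul_left, hcr, mul_zero]
  have hek := herm_skew_zero hF hke
  have hfk := herm_skew_zero hF hkf
  have hspan := span_of hF haa hrr her hre hke hkf hkk
  exact ⟨{
    Φ := { e := rat P a, f := rat P r, k := l • rat P c, ee := haa, ff := hrr, ef := her, fe := hre,
           ke := hke, kf := hkf, ek := hek, fk := hfk, kk := hkk, span := hspan }
    w := rat P c, N := hh (rat P c) (rat P c), lam := l, fix := hfix, two := h2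
    e_rat := ⟨a, rfl⟩, f_rat := ⟨r, rfl⟩, w_rat := ⟨c, rfl⟩, ww := rfl, N_mem := hval c c, N_ne := hN
    k_eq := rfl, lam_ne := hl0, form_mem := hval }⟩

variable {F₀ : Subfield F} {P : GL (Fin 3) F} (S : Setup q F F₀ P)

/-- The elements of `SU_3(q)` in the subfield group. -/
noncomputable def Hc (q : ℕ) (F₀ : Subfield F) (P : GL (Fin 3) F) : Subgroup (SU 3 F q) :=
  (Geo.subfieldSubgroup F₀ P).comap toGLn

theorem mem_Hc {g : SU 3 F q} :
    g ∈ Hc q F₀ P ↔ ∀ u : Fin 3 → F₀, ∃ l : F, ∃ z : Fin 3 → F₀, act g (rat P u) = l • rat P z := by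
  rw [Hc, Subgroup.mem_comap, mem_subfieldSubgroup_iff]
  exact forall_congr' fun u => exists_congr fun l => exists_congr fun z => by rw [toGLn_act]

/-- The scalar elements belong to it. -/
theorem scalar_mem_Hc {g : SU 3 F q} {c : F} (h : ∀ x, act g x = c • x) : g ∈ Hc q F₀ P :=
  mem_Hc.2 fun u => ⟨c, u, h _⟩

theorem center_le_Hc (hF : Fintype.card F = q ^ 2) : Subgroup.center (SU 3 F q) ≤ Hc q F₀ P := by
  intro g hg
  set c := ((g : Matrix.SpecialLinearGroup (Fin 3) F) : Matrix (Fin 3) (Fin 3) F) ⟨0, by omega⟩ ⟨0, by omega⟩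
  refine scalar_mem_Hc (c := c) fun x => funext fun i => ?_
  show (_ *ᵥ x) i = _
  simp only [Matrix.mulVec, dotProduct, center_SU_scalar hF (by norm_num : 2 ≤ 3) hg i, Pi.smul_apply, smul_eq_mul,
    ite_mul, zero_mul]
  rw [Finset.sum_ite_eq]
  simp [c]

include S in
/-- A map sending the frame to rational vectors is in the subfield group. -/
theorem mem_Hc_of (hF : Fintype.card F = q ^ 2) {g : SU 3 F q}
    (he : ∃ u : Fin 3 → F₀, act g S.Φ.e = rat P u)
    (hf : ∃ u : Fin 3 → F₀, act g S.Φ.f = rat P u) (hw : ∃ u : Fin 3 → F₀, act g S.w = rat P u) : g ∈ Hc q F₀ P := by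
  refine mem_Hc.2 fun u => ?_
  obtain ⟨u1, h1⟩ := he
  obtain ⟨u2, h2⟩ := hf
  obtain ⟨u3, h3⟩ := hw
  obtain ⟨a, ha⟩ := S.e_rat
  obtain ⟨r, hr⟩ := S.f_rat
  obtain ⟨c, hc⟩ := S.w_rat
  have k1 : hh (rat P u) S.Φ.f ∈ F₀ := hr ▸ S.form_mem u r
  have k2 : hh (rat P u) S.Φ.e ∈ F₀ := ha ▸ S.form_mem u a
  have k3 : hh (rat P u) S.w / S.N ∈ F₀ := F₀.div_mem (hc ▸ S.form_mem u c) S.N_mem
  have hl : S.lam ^ q * S.lam = S.N⁻¹ := by
    have h := S.Φ.kk
    rw [S.k_eq, herm_smul_left, herm_smul_right, S.ww] at h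
    refine eq_inv_of_mul_eq_one_left ?_
    linear_combination h
  have hx : rat P u = hh (rat P u) S.Φ.f • S.Φ.e + hh (rat P u) S.Φ.e • S.Φ.f +
      (hh (rat P u) S.w / S.N) • S.w := by
    conv_lhs => rw [S.Φ.span (rat P u)]
    congr 1
    rw [S.k_eq, herm_smul_right, smul_smul]
    congr 1
    rw [div_eq_mul_inv, ← hl]
    ring
  refine ⟨1, (⟨_, k1⟩ : F₀) • u1 + (⟨_, k2⟩ : F₀) • u2 + (⟨_, k3⟩ : F₀) • u3, ?_⟩
  rw [one_smul, rat_add, rat_add, rat_smul, rat_smul, rat_smul, ← h1, ← h2, ← h3, ← act_smul, ← act_smul,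
    ← act_smul, ← act_add, ← act_add, ← hx]

theorem frame_ext {Φ : Frame q F} {g h : SU 3 F q} (he : act g Φ.e = act h Φ.e) (hf : act g Φ.f = act h Φ.f)
    (hk : act g Φ.k = act h Φ.k) : g = h :=
  OrthUnitaryTransvection.su_ext fun x => by
    rw [Φ.span x]
    simp only [act_add, act_smul, he, hf, hk]

theorem two_mem (F₀ : Subfield F) : (2 : F) ∈ F₀ :=
  one_add_one_eq_two (R := F) ▸ F₀.add_mem F₀.one_mem F₀.one_mem

/-- The rational unipotent elements along a rational singular vector. -/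
noncomputable def uu (hF : Fintype.card F = q ^ 2) (S : Setup q F F₀ P) (e : Fin 3 → F) (hee : hh e e = 0)
    (hwe : hh S.w e = 0) (s : F) (hs : s ∈ F₀) : SU 3 F q :=
  eich hF e (s • S.w) (-(s ^ 2 * S.N / 2)) hee (by rw [herm_smul_left, hwe, mul_zero]) (by
    rw [neg_pow_q hF, (S.fix _).1 (F₀.div_mem (F₀.mul_mem (pow_mem hs 2) S.N_mem)
      (two_mem F₀)), herm_smul_left, herm_smul_right, (S.fix _).1 hs, S.ww]
    field_simp [S.two]
    ring)

theorem we (S : Setup q F F₀ P) : hh S.w S.Φ.e = 0 := by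
  have h := S.Φ.ke
  rw [S.k_eq, herm_smul_left] at h
  exact (mul_eq_zero.1 h).resolve_left S.lam_ne

theorem wf (S : Setup q F F₀ P) : hh S.w S.Φ.f = 0 := by
  have h := S.Φ.kf
  rw [S.k_eq, herm_smul_left] at h
  exact (mul_eq_zero.1 h).resolve_left S.lam_ne

/-- The unipotent elements fixing the first frame vector. -/
noncomputable def U (hF : Fintype.card F = q ^ 2) (s : F₀) : SU 3 F q := uu hF S S.Φ.e S.Φ.ee (we S) s s.2

/-- The opposite unipotent elements. -/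
noncomputable def V (hF : Fintype.card F = q ^ 2) (s : F₀) : SU 3 F q := uu hF S S.Φ.f S.Φ.ff (wf S) s s.2

theorem half_mem (s : F₀) : -((s : F) ^ 2 * S.N / 2) ∈ F₀ :=
  F₀.neg_mem (F₀.div_mem (F₀.mul_mem (pow_mem s.2 2) S.N_mem) (two_mem F₀))

theorem U_e (hF : Fintype.card F = q ^ 2) (s : F₀) : act (U S hF s) S.Φ.e = S.Φ.e := by
  unfold U uu
  rw [eich_self]

theorem U_f (hF : Fintype.card F = q ^ 2) (s : F₀) :
    act (U S hF s) S.Φ.f = S.Φ.f + (s : F) • S.w + (-((s : F) ^ 2 * S.N / 2)) • S.Φ.e := by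
  rw [U, uu, eich_act, S.Φ.fe, one_smul, herm_smul_right, herm_skew_zero hF (wf S), mul_zero, sub_zero, mul_one]

theorem U_w (hF : Fintype.card F = q ^ 2) (s : F₀) :
    act (U S hF s) S.w = S.w + (-((s : F) * S.N)) • S.Φ.e := by
  rw [U, uu, eich_act, we S, zero_smul, add_zero, herm_smul_right, S.ww, (S.fix _).1 s.2, mul_zero, zero_sub]

theorem U_mem (hF : Fintype.card F = q ^ 2) (s : F₀) : U S hF s ∈ Hc q F₀ P := by
  obtain ⟨a, ha⟩ := S.e_rat
  obtain ⟨r, hr⟩ := S.f_rat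
  obtain ⟨c, hc⟩ := S.w_rat
  refine mem_Hc_of S hF ⟨a, by rw [U_e, ha]⟩ ⟨r + s • c + (⟨_, half_mem S s⟩ : F₀) • a, ?_⟩
    ⟨c + (⟨_, F₀.neg_mem (F₀.mul_mem s.2 S.N_mem)⟩ : F₀) • a, ?_⟩
  · rw [U_f, rat_add, rat_add, rat_smul, rat_smul, ← ha, ← hr, ← hc]
  · rw [U_w, rat_add, rat_smul, ← ha, ← hc]

theorem V_f (hF : Fintype.card F = q ^ 2) (s : F₀) : act (V S hF s) S.Φ.f = S.Φ.f := by
  unfold V uu
  rw [eich_self]

theorem V_e (hF : Fintype.card F = q ^ 2) (s : F₀) :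
    act (V S hF s) S.Φ.e = S.Φ.e + (s : F) • S.w + (-((s : F) ^ 2 * S.N / 2)) • S.Φ.f := by
  rw [V, uu, eich_act, S.Φ.ef, one_smul, herm_smul_right, herm_skew_zero hF (we S), mul_zero, sub_zero, mul_one]

theorem V_w (hF : Fintype.card F = q ^ 2) (s : F₀) :
    act (V S hF s) S.w = S.w + (-((s : F) * S.N)) • S.Φ.f := by
  rw [V, uu, eich_act, wf S, zero_smul, add_zero, herm_smul_right, S.ww, (S.fix _).1 s.2, mul_zero, zero_sub]

theorem V_mem (hF : Fintype.card F = q ^ 2) (s : F₀) : V S hF s ∈ Hc q F₀ P := by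
  obtain ⟨a, ha⟩ := S.e_rat
  obtain ⟨r, hr⟩ := S.f_rat
  obtain ⟨c, hc⟩ := S.w_rat
  refine mem_Hc_of S hF ⟨a + s • c + (⟨_, half_mem S s⟩ : F₀) • r, ?_⟩ ⟨r, by rw [V_f, hr]⟩
    ⟨c + (⟨_, F₀.neg_mem (F₀.mul_mem s.2 S.N_mem)⟩ : F₀) • r, ?_⟩
  · rw [V_e, rat_add, rat_add, rat_smul, rat_smul, ← ha, ← hr, ← hc]
  · rw [V_w, rat_add, rat_smul, ← hr, ← hc]

/-- A Weyl element of the plane. -/
noncomputable def weyl (hF : Fintype.card F = q ^ 2) (c : F) (hc : c + c ^ q = 0) : SU 3 F q :=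
  tv hF S.Φ.e c S.Φ.ee hc * tv hF S.Φ.f (-c⁻¹) S.Φ.ff (by
    rw [neg_pow_q hF, inv_pow, show c ^ q = -c by linear_combination hc, inv_neg]; ring) *
    tv hF S.Φ.e c S.Φ.ee hc

theorem weyl_act (hF : Fintype.card F = q ^ 2) {c : F} (hc : c + c ^ q = 0) (hc0 : c ≠ 0) :
    act (weyl S hF c hc) S.Φ.e = (-c⁻¹) • S.Φ.f ∧ act (weyl S hF c hc) S.Φ.f = c • S.Φ.e ∧
      act (weyl S hF c hc) S.Φ.k = S.Φ.k := by
  refine ⟨?_, ?_, ?_⟩ <;>
    simp only [weyl, act_mul, tv_act, herm_add_left, herm_smul_left, S.Φ.ee, S.Φ.ef, S.Φ.fe, S.Φ.ff, S.Φ.ke,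
      S.Φ.kf, S.Φ.ek, S.Φ.fk, mul_zero, zero_smul, add_zero, zero_add, mul_one] <;>
    match_scalars <;> field_simp <;> ring

/-- The toral elements. -/
noncomputable def T (hF : Fintype.card F = q ^ 2) (a : F₀ˣ) : SU 3 F q :=
  weyl S hF (-((a : F₀) : F) * (exists_skew hF).choose) (by
    have h := (exists_skew (F := F) hF).choose_spec.2
    rw [mul_pow, neg_pow_q hF, (S.fix _).1 (a : F₀).2]
    linear_combination -((a : F₀) : F) * h) *
    weyl S hF (exists_skew hF).choose (exists_skew (F := F) hF).choose_spec.2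

theorem T_act (hF : Fintype.card F = q ^ 2) (a : F₀ˣ) :
    act (T S hF a) S.Φ.e = ((a : F₀) : F) • S.Φ.e ∧ act (T S hF a) S.Φ.f = ((a : F₀) : F)⁻¹ • S.Φ.f ∧
      act (T S hF a) S.Φ.k = S.Φ.k := by
  have ha : ((a : F₀) : F) ≠ 0 := fun h => a.ne_zero (Subtype.ext h)
  obtain ⟨hc0, hc⟩ := (exists_skew (F := F) hF).choose_spec
  obtain ⟨w1, w2, w3⟩ := weyl_act S hF hc hc0
  have hd : -((a : F₀) : F) * (exists_skew (F := F) hF).choose +
      (-((a : F₀) : F) * (exists_skew (F := F) hF).choose) ^ q = 0 := by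
    rw [mul_pow, neg_pow_q hF, (S.fix _).1 (a : F₀).2]
    linear_combination -((a : F₀) : F) * hc
  obtain ⟨v1, v2, v3⟩ := weyl_act S hF hd (mul_ne_zero (neg_ne_zero.2 ha) hc0)
  refine ⟨?_, ?_, ?_⟩
  · rw [T, act_mul, w1, act_smul, v2, smul_smul]
    congr 1
    field_simp
  · rw [T, act_mul, w2, act_smul, v1, smul_smul]
    congr 1
    field_simp
  · rw [T, act_mul, w3, v3]

theorem T_w (hF : Fintype.card F = q ^ 2) (a : F₀ˣ) : act (T S hF a) S.w = S.w := by
  have h := (T_act S hF a).2.2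
  rw [S.k_eq, act_smul] at h
  exact smul_right_injective _ S.lam_ne h

theorem T_mem (hF : Fintype.card F = q ^ 2) (a : F₀ˣ) : T S hF a ∈ Hc q F₀ P := by
  obtain ⟨a', ha⟩ := S.e_rat
  obtain ⟨r, hr⟩ := S.f_rat
  obtain ⟨c, hc⟩ := S.w_rat
  refine mem_Hc_of S hF ⟨(a : F₀) • a', by rw [(T_act S hF a).1, rat_smul, ← ha]⟩
    ⟨((a⁻¹ : F₀ˣ) : F₀) • r, ?_⟩ ⟨c, by rw [T_w, hc]⟩
  rw [(T_act S hF a).2.1, rat_smul, ← hr, Units.val_inv_eq_inv_val, Subfield.coe_inv]

/-- The toral elements form a homomorphic image. -/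
noncomputable def torus (hF : Fintype.card F = q ^ 2) : F₀ˣ →* SU 3 F q :=
  MonoidHom.mk' (T S hF) fun a b => by
    obtain ⟨a1, a2, a3⟩ := T_act S hF a
    obtain ⟨b1, b2, b3⟩ := T_act S hF b
    obtain ⟨c1, c2, c3⟩ := T_act S hF (a * b)
    refine frame_ext (Φ := S.Φ) ?_ ?_ ?_
    · rw [c1, act_mul, b1, act_smul, a1, smul_smul, Units.val_mul, Subfield.coe_mul, mul_comm]
    · rw [c2, act_mul, b2, act_smul, a2, smul_smul, Units.val_mul, Subfield.coe_mul, mul_inv, mul_comm]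
    · rw [c3, act_mul, b3, a3]

theorem torus_apply (hF : Fintype.card F = q ^ 2) (a : F₀ˣ) : torus S hF a = T S hF a := rfl

/-- A rational isotropic vector with a component along the second frame vector. -/
theorem rat_iso (hF : Fintype.card F = q ^ 2) {u : Fin 3 → F₀} (hu : hh (rat P u) (rat P u) = 0)
    (h : hh (rat P u) S.Φ.e ≠ 0) : ∃ (l : F) (s : F₀), l ≠ 0 ∧ rat P u = l • act (U S hF s) S.Φ.f := by
  obtain ⟨a, ha⟩ := S.e_rat
  obtain ⟨r, hr⟩ := S.f_rat
  obtain ⟨c, hc⟩ := S.w_rat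
  have k2 : hh (rat P u) S.Φ.e ∈ F₀ := ha ▸ S.form_mem u a
  have k1 : hh (rat P u) S.Φ.f ∈ F₀ := hr ▸ S.form_mem u r
  have k3 : hh (rat P u) S.w / S.N ∈ F₀ := F₀.div_mem (hc ▸ S.form_mem u c) S.N_mem
  set β := hh (rat P u) S.Φ.e
  set α := hh (rat P u) S.Φ.f
  set δ := hh (rat P u) S.w / S.N with hδ
  have hl : S.lam ^ q * S.lam = S.N⁻¹ := by
    have h := S.Φ.kk
    rw [S.k_eq, herm_smul_left, herm_smul_right, S.ww] at h
    refine eq_inv_of_mul_eq_one_left ?_
    linear_combination h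
  have hx : rat P u = α • S.Φ.e + β • S.Φ.f + δ • S.w := by
    conv_lhs => rw [S.Φ.span (rat P u)]
    congr 1
    rw [S.k_eq, herm_smul_right, smul_smul]
    congr 1
    rw [hδ, div_eq_mul_inv, ← hl]
    ring
  refine ⟨β, ⟨δ / β, F₀.div_mem k3 k2⟩, h, ?_⟩
  rw [U_f, hx]
  rw [hx] at hu
  simp only [herm_add_left, herm_add_right hF, herm_smul_left, herm_smul_right, S.Φ.ee, S.Φ.ef, S.Φ.fe, S.Φ.ff,
    we S, wf S, herm_skew_zero hF (we S), herm_skew_zero hF (wf S), S.ww, mul_zero, add_zero, zero_add, mul_one,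
    (S.fix _).1 k1, (S.fix _).1 k2, (S.fix _).1 k3] at hu
  have h2 := S.two
  match_scalars <;> field_simp
  linear_combination hu

/-- Some element of the group exchanges the two singular frame lines. -/
theorem exists_swap (hF : Fintype.card F = q ^ 2) :
    ∃ g ∈ Hc q F₀ P, ∃ l : F, l ≠ 0 ∧ act g S.Φ.e = l • S.Φ.f := by
  obtain ⟨a, ha⟩ := S.e_rat
  obtain ⟨r, hr⟩ := S.f_rat
  obtain ⟨c, hc⟩ := S.w_rat
  set u : Fin 3 → F₀ := a + (1 : F₀) • c + (⟨_, half_mem S 1⟩ : F₀) • r with hu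
  have hVe : act (V S hF 1) S.Φ.e = rat P u := by
    rw [V_e, hu, rat_add, rat_add, rat_smul, rat_smul, ← ha, ← hr, ← hc]
  have hne : hh (rat P u) S.Φ.e ≠ 0 := by
    rw [← hVe, V_e, herm_add_left, herm_add_left, herm_smul_left, herm_smul_left, S.Φ.ee, we S, S.Φ.fe]
    simp [S.N_ne, S.two]
  obtain ⟨l, s, hl, e⟩ := rat_iso S hF (u := u) (by rw [← hVe, herm_act, S.Φ.ee]) hne
  refine ⟨(U S hF s)⁻¹ * V S hF 1, mul_mem (inv_mem (U_mem S hF s)) (V_mem S hF 1), l, hl, ?_⟩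
  rw [act_mul, hVe, e, act_smul, act_inv_act]

end Cfsg.Agent.SUThree42SO3
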