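import Mathlib
import Cfsg.Prelude.Def_GeometricClasses

/-!
Elements of prime order in the normaliser of a field subalgebra of prime degree equal to the dimension.
-/

set_option autoImplicit false
set_option linter.style.haveILetI false
set_option synthInstance.maxHeartbeats 400000

namespace Cfsg.Agent.SingerPrime

open Matrix

variable {F : Type*} [Field F] [Fintype F] {n : ℕ} {K : Subalgebra F (Matrix (Fin n) (Fin n) F)}

/-- `K` acts simply transitively on non-zero vectors. -/
theorem act_bij (hn : 0 < n) (hK : Cfsg.Geo.IsFieldSubalgebra n K) {v : Fin n → F} (hv : v ≠ 0) :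
    Function.Bijective (fun a : K => (a : Matrix (Fin n) (Fin n) F) *ᵥ v) := by
  have hinj : ∀ a : K, (a : Matrix (Fin n) (Fin n) F) *ᵥ v = 0 → a = 0 := by
    intro a ha
    by_contra hne
    obtain ⟨b, hb, hab⟩ := hK.inv a a.2 fun e => hne (Subtype.ext e)
    apply hv
    rw [← one_mulVec v, ← hab, hK.comm a a.2 b hb, ← mulVec_mulVec, ha, mulVec_zero]
  let ev : K →ₗ[F] (Fin n → F) :=
    { toFun := fun a => (a : Matrix (Fin n) (Fin n) F) *ᵥ v
      map_add' := fun a b => by simp [add_mulVec]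
      map_smul' := fun c a => by simp [smul_mulVec] }
  have h1 : Function.Injective ev := (injective_iff_map_eq_zero ev).mpr hinj
  exact ⟨h1, (LinearMap.injective_iff_surjective_of_finrank_eq_finrank (by
    rw [hK.finrank_eq, Module.finrank_fin_fun])).mp h1⟩

theorem isField (hn : 0 < n) (hK : Cfsg.Geo.IsFieldSubalgebra n K) : IsField K := by
  haveI : Nonempty (Fin n) := ⟨⟨0, hn⟩⟩
  refine ⟨⟨0, 1, zero_ne_one⟩, fun x y => Subtype.ext (hK.comm _ x.2 _ y.2), fun {x} hx => ?_⟩
  obtain ⟨y, hy, hxy⟩ := hK.inv x x.2 fun h => hx (Subtype.ext h)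
  exact ⟨⟨y, hy⟩, Subtype.ext hxy⟩

/-- An element of the normaliser fixes at most a line, unless it is trivial. -/
theorem fixed_le (hn : n.Prime) (hK : Cfsg.Geo.IsFieldSubalgebra n K) {y : GL (Fin n) F}
    (hy : y ∈ Cfsg.Geo.subalgebraNormalizer K) (hy1 : y ≠ 1) {v w : Fin n → F} (hv : v ≠ 0)
    (hfv : (y : Matrix (Fin n) (Fin n) F) *ᵥ v = v) (hfw : (y : Matrix (Fin n) (Fin n) F) *ᵥ w = w) :
    ∃ t : F, w = t • v := by
  classical
  letI : CommRing K :=
    { (inferInstance : Ring K) with mul_comm := fun x y => Subtype.ext (hK.comm _ x.2 _ y.2) }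
  letI : Field K := (isField hn.pos hK).toField
  set Y := (y : Matrix (Fin n) (Fin n) F) with hY
  set Yi := ((y⁻¹ : GL (Fin n) F) : Matrix (Fin n) (Fin n) F) with hYi
  have hii : Yi * Y = 1 := y.inv_mul
  have hoo : Y * Yi = 1 := y.mul_inv
  let φ : K →ₐ[F] K :=
    { toFun := fun a => ⟨Y * (a : Matrix (Fin n) (Fin n) F) * Yi, (hy _).1 a.2⟩
      map_one' := Subtype.ext (by simp [hoo])
      map_mul' := fun a b => Subtype.ext (by
        simp only [Subalgebra.coe_mul, mul_assoc]
        rw [← mul_assoc Yi Y, hii, one_mul])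
      map_zero' := Subtype.ext (by simp)
      map_add' := fun a b => Subtype.ext (by simp [mul_add, add_mul])
      commutes' := fun c => Subtype.ext (by
        show Y * algebraMap F (Matrix (Fin n) (Fin n) F) c * Yi = algebraMap F (Matrix (Fin n) (Fin n) F) c
        rw [← Algebra.commutes c Y, mul_assoc, hoo, mul_one]) }
  have hφ : ∀ (a : K) u, (φ a : Matrix (Fin n) (Fin n) F) *ᵥ (Y *ᵥ u) =
      Y *ᵥ ((a : Matrix (Fin n) (Fin n) F) *ᵥ u) := fun a u => by
    show (Y * (a : Matrix (Fin n) (Fin n) F) * Yi) *ᵥ (Y *ᵥ u) = _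
    rw [mulVec_mulVec, mul_assoc, hii, mul_one, mulVec_mulVec]
  have hbij := act_bij hn.pos hK hv
  let E : IntermediateField F K :=
    (AlgHom.equalizer φ (AlgHom.id F K)).toIntermediateField fun a ha => by
      have ha' : φ a = a := ha
      show φ a⁻¹ = a⁻¹
      rw [map_inv₀, ha']
  haveI : IsSimpleOrder (IntermediateField F K) :=
    IntermediateField.isSimpleOrder_of_finrank_prime F K (by rw [hK.finrank_eq]; exact hn)
  rcases IsSimpleOrder.eq_bot_or_eq_top E with h | h
  · obtain ⟨a, ha⟩ := hbij.2 w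
    simp only at ha
    have haE : a ∈ E := by
      show φ a = a
      apply hbij.1
      simp only
      rw [ha]
      conv_lhs => rw [← hfv]
      rw [hφ, ha, hfw]
    rw [h, IntermediateField.mem_bot] at haE
    obtain ⟨t, ht⟩ := haE
    refine ⟨t, ?_⟩
    rw [← ha, ← ht]
    show (algebraMap F (Matrix (Fin n) (Fin n) F) t) *ᵥ v = t • v
    rw [Algebra.algebraMap_eq_smul_one, smul_mulVec, one_mulVec]
  · exfalso
    apply hy1
    have hfix : ∀ u, Y *ᵥ u = u := fun u => by
      obtain ⟨a, rfl⟩ := hbij.2 u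
      have ha : φ a = a := (h ▸ IntermediateField.mem_top : a ∈ E)
      simp only
      rw [← hφ a v, hfv, ha]
    exact Units.ext (Matrix.ext_of_mulVec_single fun j => by rw [hfix, Units.val_one, one_mulVec])

/-- The Frobenius element of the normaliser. -/
theorem exists_frob {q : ℕ} (hq : Fintype.card F = q) (hn : n.Prime)
    (hK : Cfsg.Geo.IsFieldSubalgebra n K) :
    ∃ y : GL (Fin n) F, y ∈ Cfsg.Geo.subalgebraNormalizer K ∧ y ^ n = 1 ∧ y ≠ 1 ∧
      ∃ v : Fin n → F, v ≠ 0 ∧ (y : Matrix (Fin n) (Fin n) F) *ᵥ v = v := by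
  classical
  letI : CommRing K :=
    { (inferInstance : Ring K) with mul_comm := fun x y => Subtype.ext (hK.comm _ x.2 _ y.2) }
  letI : Field K := (isField hn.pos hK).toField
  letI : Fintype K := Fintype.ofFinite K
  let v : Fin n → F := Pi.single ⟨0, hn.pos⟩ 1
  have hv : v ≠ 0 := by simp [v]
  let ev : K →ₗ[F] (Fin n → F) :=
    { toFun := fun a => (a : Matrix (Fin n) (Fin n) F) *ᵥ v
      map_add' := fun a b => by simp [add_mulVec]
      map_smul' := fun c a => by simp [smul_mulVec] }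
  let e : K ≃ₗ[F] (Fin n → F) := LinearEquiv.ofBijective ev (act_bij hn.pos hK hv)
  let φ := FiniteField.frobeniusAlgHom F K
  have hφa : ∀ a, φ a = a ^ q := fun a => by simp [φ, hq]
  let L : (Fin n → F) →ₗ[F] (Fin n → F) := e.toLinearMap ∘ₗ φ.toLinearMap ∘ₗ e.symm.toLinearMap
  have hcard : Fintype.card K = q ^ n := by
    rw [Module.card_eq_pow_finrank (K := F) (V := K), hq, hK.finrank_eq]
  have hpow : ∀ (i : ℕ) (a : K), (L ^ i) (e a) = e (a ^ q ^ i) := by
    intro i
    induction i with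
    | zero => intro a; simp
    | succ i ih =>
      intro a
      rw [pow_succ', Module.End.mul_apply, ih]
      show e (φ (e.symm (e _))) = _
      rw [e.symm_apply_apply, hφa, ← pow_mul, pow_succ]
  have hLn : L ^ n = 1 := LinearMap.ext fun u => by
    obtain ⟨a, rfl⟩ := e.surjective u
    rw [hpow, ← hcard, FiniteField.pow_card]; rfl
  let u := Units.ofPowEqOne L n hLn hn.ne_zero
  let y : GL (Fin n) F := Units.map (LinearMap.toMatrixAlgEquiv' : Module.End F (Fin n → F) ≃ₐ[F] _).toMonoidHom u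
  have hyv : ∀ w, (y : Matrix (Fin n) (Fin n) F) *ᵥ w = L w := fun w => by
    show LinearMap.toMatrix' L *ᵥ w = L w
    rw [← Matrix.toLin'_apply, Matrix.toLin'_toMatrix']
  have hyk : ∀ k : K, (y : Matrix (Fin n) (Fin n) F) * (k : Matrix (Fin n) (Fin n) F) =
      ((φ k : K) : Matrix (Fin n) (Fin n) F) * (y : Matrix (Fin n) (Fin n) F) := fun k => by
    refine Matrix.ext_of_mulVec_single fun j => ?_
    obtain ⟨a, ha⟩ := e.surjective (Pi.single j 1)
    rw [← ha, ← mulVec_mulVec, ← mulVec_mulVec, hyv, hyv]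
    have e1 : ∀ (k a : K), (k : Matrix (Fin n) (Fin n) F) *ᵥ e a = e (k * a) := fun k a =>
      mulVec_mulVec v (k : Matrix (Fin n) (Fin n) F) (a : Matrix (Fin n) (Fin n) F)
    have e2 : L (e a) = e (φ a) := by show e (φ (e.symm (e a))) = _; rw [e.symm_apply_apply]
    have e3 : L (e (k * a)) = e (φ (k * a)) := by show e (φ (e.symm (e _))) = _; rw [e.symm_apply_apply]
    rw [e1, e2, e3, map_mul, e1]
  refine ⟨y, fun k => ⟨fun hk => ?_, fun hk => ?_⟩, ?_, fun h1 => ?_, v, hv, ?_⟩
  · rw [hyk ⟨k, hk⟩, mul_assoc, Units.mul_inv, mul_one]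
    exact (φ ⟨k, hk⟩).2
  · obtain ⟨k'', hk''⟩ := (Finite.injective_iff_surjective.mp φ.toRingHom.injective) (⟨_, hk⟩ : K)
    have e1 := hyk k''
    have e2 : ((φ k'' : K) : Matrix (Fin n) (Fin n) F) =
        (y : Matrix (Fin n) (Fin n) F) * k * ((y⁻¹ : GL (Fin n) F) : Matrix (Fin n) (Fin n) F) :=
      congrArg Subtype.val hk''
    rw [e2, mul_assoc _ _ (y : Matrix (Fin n) (Fin n) F), Units.inv_mul, mul_one] at e1
    exact (y.isUnit.mul_right_inj.mp e1) ▸ k''.2
  · apply Units.ext
    rw [Units.val_pow_eq_pow_val, Units.val_one]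
    show LinearMap.toMatrixAlgEquiv' L ^ n = 1
    rw [← map_pow, hLn, map_one]
  · have hall : ∀ a : K, a ^ q = a := fun a => by
      apply e.injective
      have h2 := hyv (e a)
      rw [h1, Units.val_one, one_mulVec] at h2
      have h3 := hpow 1 a
      rw [pow_one, pow_one, ← h2] at h3
      exact h3.symm
    have hq1 : 1 < q := hq ▸ Fintype.one_lt_card
    have hle : Fintype.card K ≤ q := by
      have h0 : (Polynomial.X ^ q - Polynomial.X : Polynomial K) ≠ 0 :=
        FiniteField.X_pow_card_sub_X_ne_zero K hq1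
      rw [← Finset.card_univ, ← FiniteField.X_pow_card_sub_X_natDegree_eq K hq1]
      refine le_trans (Finset.card_le_card ?_) ((Multiset.toFinset_card_le _).trans
        (Polynomial.card_roots' _))
      intro a _
      simp [Polynomial.mem_roots h0, hall a]
    rw [hcard] at hle
    have : q ^ 1 < q ^ n := Nat.pow_lt_pow_right hq1 hn.one_lt
    rw [pow_one] at this
    omega
  · have e1 : e 1 = v := one_mulVec v
    rw [hyv, ← e1]
    show e (φ (e.symm (e 1))) = _
    rw [e.symm_apply_apply, map_one]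

/-- A non-scalar matrix with a two-dimensional eigenspace is not conjugate into the normaliser. -/
theorem not_conj (hn : n.Prime) (hK : Cfsg.Geo.IsFieldSubalgebra n K)
    (x : SpecialLinearGroup (Fin n) F) {c : F} (hc : c ≠ 0) {v w : Fin n → F} (hv : v ≠ 0)
    (hxv : (x : Matrix (Fin n) (Fin n) F) *ᵥ v = c • v) (hxw : (x : Matrix (Fin n) (Fin n) F) *ᵥ w = c • w)
    (hind : ∀ t : F, w ≠ t • v) (hns : (x : Matrix (Fin n) (Fin n) F) ≠ c • 1) :
    ¬ ∃ P : SpecialLinearGroup (Fin n) F, P⁻¹ * x * P ∈ (Cfsg.Geo.subalgebraNormalizer K).comap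
      (SpecialLinearGroup.toGL : SpecialLinearGroup (Fin n) F →* GL (Fin n) F) := by
  rintro ⟨P, hP⟩
  set y := SpecialLinearGroup.toGL (P⁻¹ * x * P) with hy
  let cu : GL (Fin n) F := Units.map (algebraMap F (Matrix (Fin n) (Fin n) F)).toMonoidHom (Units.mk0 c hc)
  have hcu : cu ∈ Cfsg.Geo.subalgebraNormalizer K := fun k => by
    have e : (cu : Matrix (Fin n) (Fin n) F) * k = k * (cu : Matrix (Fin n) (Fin n) F) := Algebra.commutes c k
    rw [e, mul_assoc, Units.mul_inv, mul_one]
  have hmem : cu⁻¹ * y ∈ Cfsg.Geo.subalgebraNormalizer K :=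
    Subgroup.mul_mem _ (Subgroup.inv_mem _ hcu) hP
  have hval : ((cu⁻¹ * y : GL (Fin n) F) : Matrix (Fin n) (Fin n) F) = c⁻¹ •
      ((↑(P⁻¹) : Matrix (Fin n) (Fin n) F) * (x : Matrix (Fin n) (Fin n) F) * (P : Matrix (Fin n) (Fin n) F)) := by
    show algebraMap F (Matrix (Fin n) (Fin n) F) c⁻¹ * _ = _
    rw [Algebra.algebraMap_eq_smul_one, smul_mul_assoc, one_mul]
    rfl
  set Q := ((P⁻¹ : SpecialLinearGroup (Fin n) F) : Matrix (Fin n) (Fin n) F) with hQ
  have hPQ : (P : Matrix (Fin n) (Fin n) F) * Q = 1 := by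
    exact (Matrix.SpecialLinearGroup.coe_mul P P⁻¹).symm.trans (congrArg Subtype.val (mul_inv_cancel P))
  have hQP : Q * (P : Matrix (Fin n) (Fin n) F) = 1 := by
    exact (Matrix.SpecialLinearGroup.coe_mul P⁻¹ P).symm.trans (congrArg Subtype.val (inv_mul_cancel P))
  have hfix : ∀ u, (x : Matrix (Fin n) (Fin n) F) *ᵥ u = c • u →
      ((cu⁻¹ * y : GL (Fin n) F) : Matrix (Fin n) (Fin n) F) *ᵥ (Q *ᵥ u) = Q *ᵥ u := fun u hu => by
    rw [hval, smul_mulVec, mulVec_mulVec, mul_assoc _ (P : Matrix (Fin n) (Fin n) F), hPQ, mul_one,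
      ← mulVec_mulVec, hu, mulVec_smul, smul_smul, inv_mul_cancel₀ hc, one_smul]
  have hy1 : cu⁻¹ * y ≠ 1 := fun e => by
    apply hns
    have h : ((cu⁻¹ * y : GL (Fin n) F) : Matrix (Fin n) (Fin n) F) = ((1 : GL (Fin n) F) : Matrix (Fin n) (Fin n) F) :=
      congrArg Units.val e
    rw [hval, Units.val_one, inv_smul_eq_iff₀ hc] at h
    calc (x : Matrix (Fin n) (Fin n) F) = (P : Matrix (Fin n) (Fin n) F) * (Q * x * P) * Q := by
          simp only [← mul_assoc]; rw [hPQ, one_mul, mul_assoc, hPQ, mul_one]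
      _ = _ := by rw [h, mul_smul_comm, mul_one, smul_mul_assoc, hPQ]
  have hinj : ∀ u, Q *ᵥ u = 0 → u = 0 := fun u hu => by
    rw [← one_mulVec u, ← hPQ, ← mulVec_mulVec, hu, mulVec_zero]
  obtain ⟨t, ht⟩ := fixed_le hn hK hmem hy1 (fun e => hv (hinj v e)) (hfix v hxv) (hfix w hxw)
  refine hind t (sub_eq_zero.mp (hinj _ ?_))
  rw [mulVec_sub, mulVec_smul, ← ht, sub_self]

/-- In dimension `n` with `q` of order `n - 1` modulo `n`, elements of order `n` have a cyclic basis. -/
theorem exists_cycle {q : ℕ} (hq : Fintype.card F = q) (hn : n.Prime) (h3 : 3 ≤ n)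
    (hord : orderOf (q : ZMod n) = n - 1) {g : GL (Fin n) F} (hg : g ^ n = 1) (hg1 : g ≠ 1) :
    ∃ v : Fin n → F, LinearIndependent F fun i : Fin n => ((g : Matrix (Fin n) (Fin n) F) ^ (i : ℕ)) *ᵥ v := by
  classical
  haveI : Fact n.Prime := ⟨hn⟩
  set X := (g : Matrix (Fin n) (Fin n) F)
  have hXn : X ^ n = 1 := by rw [← Units.val_pow_eq_pow_val, hg, Units.val_one]
  have hnF : (n : F) ≠ 0 := by
    intro h
    have hq0 : (q : ZMod n) = 0 := by
      obtain ⟨a, hp, h2⟩ := FiniteField.card F (ringChar F)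
      have : ringChar F ∣ n := (ringChar.spec F n).mp h
      rw [(Nat.prime_dvd_prime_iff_eq hp hn).mp this] at h2
      rw [← hq, h2, Nat.cast_pow, ZMod.natCast_self, zero_pow a.pos.ne']
    rw [hq0, orderOf_zero] at hord
    omega
  have hsemi : ∀ u, X *ᵥ (X *ᵥ u - u) = X *ᵥ u - u → X *ᵥ u = u := by
    intro u hu
    have hp : ∀ i : ℕ, (X ^ i) *ᵥ u = u + (i : F) • (X *ᵥ u - u) := by
      intro i
      induction i with
      | zero => simp
      | succ i ih =>
        rw [pow_succ', ← mulVec_mulVec, ih, mulVec_add, mulVec_smul, hu, Nat.cast_succ, add_smul, one_smul]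
        abel
    have := hp n
    rw [hXn, one_mulVec, left_eq_add] at this
    exact sub_eq_zero.mp ((smul_eq_zero.mp this).resolve_left hnF)
  -- invariant subspaces with a non-trivial action are large
  have hbig : ∀ W : Submodule F (Fin n → F), (∀ u ∈ W, X *ᵥ u ∈ W) → (∃ u ∈ W, X *ᵥ u ≠ u) →
      n - 1 ≤ Module.finrank F W := by
    intro W hW hne
    let R := (toLin' X).restrict (p := W) (q := W) fun u hu => by simpa using hW u hu
    have hR : ∀ (i : ℕ) (w : W), ((R ^ i) w : Fin n → F) = (X ^ i) *ᵥ (w : Fin n → F) := by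
      intro i
      induction i with
      | zero => simp
      | succ i ih =>
        intro w
        rw [pow_succ', Module.End.mul_apply, pow_succ', ← mulVec_mulVec, ← ih w]; rfl
    have hRn : R ^ n = 1 := LinearMap.ext fun w => Subtype.ext (by rw [hR, hXn, one_mulVec]; rfl)
    let u := Units.ofPowEqOne R n hRn hn.ne_zero
    have hu : orderOf u = n := orderOf_eq_prime (Units.ext (by simpa [u] using hRn)) fun e => by
      obtain ⟨w, hw, hwne⟩ := hne
      exact hwne (congrArg Subtype.val (LinearMap.congr_fun (congrArg Units.val e) ⟨w, hw⟩))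
    let b := Module.finBasis F W
    have hd : n ∣ Nat.card (GL (Fin (Module.finrank F W)) F) := by
      have h := orderOf_dvd_natCard u
      rw [hu] at h
      rw [← Nat.card_congr (Units.mapEquiv (LinearMap.toMatrixAlgEquiv b).toMulEquiv).toEquiv]
      exact h
    rw [Matrix.card_GL_field] at hd
    obtain ⟨i, -, hi⟩ := hn.prime.exists_mem_finset_dvd hd
    have hlt := i.2
    rw [hq, show q ^ Module.finrank F W = q ^ (i : ℕ) * q ^ (Module.finrank F W - i) by
      rw [← pow_add]; congr 1; omega, ← Nat.mul_sub_one] at hi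
    rcases hn.dvd_mul.mp hi with h | h
    · exfalso
      have : (q : ZMod n) = 0 := (ZMod.natCast_eq_zero_iff _ _).mpr (hn.dvd_of_dvd_pow h)
      rw [this, orderOf_zero] at hord
      omega
    · rw [← ZMod.natCast_eq_zero_iff, Nat.cast_sub (Nat.one_le_pow _ _ (hq ▸ Fintype.card_pos)), Nat.cast_pow,
        Nat.cast_one, sub_eq_zero, ← orderOf_dvd_iff_pow_eq_one, hord] at h
      exact le_trans (Nat.le_of_dvd (by omega) h) (Nat.sub_le _ _)
  have span_inv : ∀ v : Fin n → F, ∀ u ∈ Submodule.span F (Set.range fun i : Fin n => (X ^ (i : ℕ)) *ᵥ v),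
      X *ᵥ u ∈ Submodule.span F (Set.range fun i : Fin n => (X ^ (i : ℕ)) *ᵥ v) := by
    intro v u hu
    induction hu using Submodule.span_induction with
    | mem x hx =>
      obtain ⟨i, rfl⟩ := hx
      rw [mulVec_mulVec, ← pow_succ']
      by_cases h : (i : ℕ) + 1 < n
      · exact Submodule.subset_span ⟨⟨i + 1, h⟩, rfl⟩
      · rw [show (i : ℕ) + 1 = n by omega, hXn]
        exact Submodule.subset_span ⟨⟨0, hn.pos⟩, by simp⟩
    | zero => simp
    | add a b _ _ ha hb => rw [mulVec_add]; exact add_mem ha hb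
    | smul a b _ hb => rw [mulVec_smul]; exact Submodule.smul_mem _ a hb
  obtain ⟨u₀, hu₀⟩ : ∃ u, X *ᵥ u ≠ u := by
    by_contra h
    push Not at h
    exact hg1 (Units.ext (Matrix.ext_of_mulVec_single fun j => by rw [Units.val_one, one_mulVec]; exact h _))
  -- a fixed vector
  obtain ⟨f₀, hf₀, hf₀0⟩ : ∃ f, X *ᵥ f = f ∧ f ≠ 0 := by
    by_contra hno
    push Not at hno
    set U := Submodule.span F (Set.range fun i : Fin n => (X ^ (i : ℕ)) *ᵥ u₀) with hU
    have hu0 : u₀ ∈ U := Submodule.subset_span ⟨⟨0, hn.pos⟩, by simp⟩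
    have hsum : ∀ v : Fin n → F, ∑ i : Fin n, (X ^ (i : ℕ)) *ᵥ v = 0 := fun v => by
      refine hno _ ?_
      rw [mulVec_sum]
      simp only [mulVec_mulVec, ← pow_succ']
      obtain ⟨m, rfl⟩ : ∃ m, n = m + 1 := ⟨n - 1, by omega⟩
      rw [Fin.sum_univ_eq_sum_range (fun i => (X ^ (i + 1)) *ᵥ v),
        Fin.sum_univ_eq_sum_range (fun i => (X ^ i) *ᵥ v), Finset.sum_range_succ _ m,
        Finset.sum_range_succ' _ m, hXn, pow_zero]
    have hUn : Module.finrank F U ≤ n - 1 := by
      have hlt : Module.finrank F U ≠ n := by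
        intro h
        have hli := linearIndependent_iff_card_eq_finrank_span.mpr
          (show Fintype.card (Fin n) = Set.finrank F (Set.range fun i : Fin n => (X ^ (i : ℕ)) *ᵥ u₀) by
            rw [Fintype.card_fin]; exact h.symm)
        have := Fintype.linearIndependent_iff.mp hli (fun _ => 1) (by simpa using hsum u₀) ⟨0, hn.pos⟩
        exact one_ne_zero this
      have h2 := Submodule.finrank_le U
      rw [Module.finrank_fin_fun] at h2
      omega
    have hUeq : Module.finrank F U = n - 1 := le_antisymm hUn (hbig U (span_inv u₀) ⟨u₀, hu0, hu₀⟩)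
    obtain ⟨w, -, hw⟩ := SetLike.exists_of_lt (lt_top_iff_ne_top.mpr (fun e : U = ⊤ => by
      rw [e, finrank_top, Module.finrank_fin_fun] at hUeq; omega))
    have htop : U ⊔ Submodule.span F {w} = ⊤ := by
      apply Submodule.eq_top_of_finrank_eq
      have hlt : U < U ⊔ Submodule.span F {w} := lt_of_le_of_ne le_sup_left fun e =>
        hw (e.ge (Submodule.mem_sup_right (Submodule.mem_span_singleton_self w)))
      have := Submodule.finrank_lt_finrank_of_lt hlt
      have h2 := Submodule.finrank_le (U ⊔ Submodule.span F {w})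
      rw [Module.finrank_fin_fun] at h2 ⊢
      omega
    obtain ⟨a, ha, b, hb, hab⟩ := Submodule.mem_sup.mp (htop.ge (Submodule.mem_top (x := X *ᵥ w)))
    obtain ⟨c, rfl⟩ := Submodule.mem_span_singleton.mp hb
    have hstep : ∀ i : ℕ, (X ^ i) *ᵥ w - c ^ i • w ∈ U := by
      intro i
      induction i with
      | zero => simp
      | succ i ih =>
        have h1 : (X ^ (i + 1)) *ᵥ w - c ^ (i + 1) • w = X *ᵥ ((X ^ i) *ᵥ w - c ^ i • w) + c ^ i • a := by
          rw [mulVec_sub, mulVec_smul, ← hab, smul_add, smul_smul, pow_succ', ← mulVec_mulVec, pow_succ]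
          abel
        rw [h1]
        exact add_mem (span_inv u₀ _ ih) (U.smul_mem _ ha)
    have hcn : c ^ n = 1 := by
      by_contra hne
      have := hstep n
      rw [hXn, one_mulVec, show w - c ^ n • w = (1 - c ^ n) • w by rw [sub_smul, one_smul]] at this
      exact hw ((Submodule.smul_mem_iff _ (sub_ne_zero.mpr (Ne.symm hne))).mp this)
    have hc1 : c = 1 := by
      by_contra hc1
      have hc0 : c ≠ 0 := fun e => by simp [e, hn.ne_zero] at hcn
      have ho : orderOf (Units.mk0 c hc0) = n :=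
        orderOf_eq_prime (Units.ext (by simpa using hcn)) fun e => hc1 (congrArg Units.val e)
      have hdvd : n ∣ q - 1 := by
        rw [← ho, ← hq, ← Fintype.card_units]; exact orderOf_dvd_card
      have : (q : ZMod n) = 1 := by
        have e : q = (q - 1) + 1 := by have := hq ▸ Fintype.card_pos (α := F); omega
        rw [e, Nat.cast_add, (ZMod.natCast_eq_zero_iff _ _).mpr hdvd, zero_add, Nat.cast_one]
      rw [this, orderOf_one] at hord
      omega
    subst hc1
    rw [one_smul] at hab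
    -- `X - 1` maps everything into `U`, so it is not injective
    have himg : LinearMap.range (toLin' X - LinearMap.id) ≤ U := by
      rintro _ ⟨z, rfl⟩
      obtain ⟨a', ha', b', hb', rfl⟩ := Submodule.mem_sup.mp (htop.ge (Submodule.mem_top (x := z)))
      obtain ⟨t, rfl⟩ := Submodule.mem_span_singleton.mp hb'
      simp only [LinearMap.sub_apply, LinearMap.id_apply, toLin'_apply, mulVec_add, mulVec_smul, ← hab,
        smul_add]
      rw [show X *ᵥ a' + (t • a + t • w) - (a' + t • w) = (X *ᵥ a' - a') + t • a by abel]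
      exact add_mem (sub_mem (span_inv u₀ _ ha') ha') (U.smul_mem _ ha)
    have h1 := (toLin' X - LinearMap.id).finrank_range_add_finrank_ker
    rw [Module.finrank_fin_fun] at h1
    have h2 := Submodule.finrank_mono himg
    obtain ⟨z, hz, hz0⟩ := Submodule.exists_mem_ne_zero_of_ne_bot
      (p := LinearMap.ker (toLin' X - LinearMap.id)) fun e => by rw [e, finrank_bot] at h1; omega
    exact hz0 (hno z (sub_eq_zero.mp (by simpa using LinearMap.mem_ker.mp hz)))
  refine ⟨f₀ + (X *ᵥ u₀ - u₀), ?_⟩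
  set w := X *ᵥ u₀ - u₀ with hw
  set U := Submodule.span F (Set.range fun i : Fin n => (X ^ (i : ℕ)) *ᵥ (f₀ + w)) with hU
  have hv : f₀ + w ∈ U := Submodule.subset_span ⟨⟨0, hn.pos⟩, by simp⟩
  -- the orbit of the component in the image
  let R := LinearMap.range (toLin' X - LinearMap.id)
  have hRinv : ∀ u ∈ R, X *ᵥ u ∈ R := by
    rintro _ ⟨z, rfl⟩
    exact ⟨X *ᵥ z, by simp [mulVec_sub]⟩
  have hRfix : ∀ u ∈ R, X *ᵥ u = u → u = 0 := by
    rintro _ ⟨z, rfl⟩ hz
    simp only [LinearMap.sub_apply, LinearMap.id_apply, toLin'_apply] at hz ⊢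
    rw [hsemi z hz, sub_self]
  have hwR : w ∈ R := ⟨u₀, by simp [hw]⟩
  have hw0 : w ≠ 0 := sub_ne_zero.mpr hu₀
  have hR1 : Module.finrank F R = n - 1 := by
    have h1 := (toLin' X - LinearMap.id).finrank_range_add_finrank_ker
    rw [Module.finrank_fin_fun] at h1
    have h2 : 0 < Module.finrank F (LinearMap.ker (toLin' X - LinearMap.id)) :=
      Module.finrank_pos_iff_exists_ne_zero.mpr ⟨⟨f₀, by simp [hf₀]⟩, fun e => hf₀0 (congrArg Subtype.val e)⟩
    have h3 := hbig R hRinv ⟨w, hwR, fun e => hw0 (hRfix w hwR e)⟩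
    show Module.finrank F (LinearMap.range (toLin' X - LinearMap.id)) = n - 1
    have h3' : n - 1 ≤ Module.finrank F (LinearMap.range (toLin' X - LinearMap.id)) := h3
    omega
  have hUR : R ≤ U := by
    have hmem : X *ᵥ w - w ∈ U ⊓ R := by
      refine ⟨?_, sub_mem (hRinv w hwR) hwR⟩
      have := sub_mem (span_inv _ _ hv) hv
      rwa [mulVec_add, hf₀, add_sub_add_left_eq_sub] at this
    have hne : ∃ u ∈ U ⊓ R, X *ᵥ u ≠ u := ⟨_, hmem, fun e => by
      have hz := hRfix _ hmem.2 e
      exact hw0 (hRfix w hwR (sub_eq_zero.mp hz))⟩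
    have h1 := hbig (U ⊓ R) (fun u hu => ⟨span_inv _ u hu.1, hRinv u hu.2⟩) hne
    have h2 := Submodule.eq_of_le_of_finrank_le (inf_le_right : U ⊓ R ≤ R) (by omega)
    exact h2 ▸ inf_le_left
  have hf₀U : f₀ ∈ U := by
    have := sub_mem hv (hUR hwR)
    rwa [add_sub_cancel_right] at this
  have htop : U = ⊤ := by
    apply Submodule.eq_top_of_finrank_eq
    rw [Module.finrank_fin_fun]
    have hlt : R < U := lt_of_le_of_ne hUR fun e => hf₀0 (hRfix f₀ (e.ge hf₀U) hf₀)
    have h1 := Submodule.finrank_lt_finrank_of_lt hlt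
    have h2 := Submodule.finrank_le U
    rw [Module.finrank_fin_fun] at h2
    omega
  rw [linearIndependent_iff_card_eq_finrank_span, Fintype.card_fin]
  show n = Module.finrank F U
  rw [htop, finrank_top, Module.finrank_fin_fun]

/-- All such elements are conjugate to the Frobenius element by a matrix of determinant one. -/
theorem conj_all {q : ℕ} (hq : Fintype.card F = q) (hn : n.Prime) (h3 : 3 ≤ n)
    (hord : orderOf (q : ZMod n) = n - 1) (hK : Cfsg.Geo.IsFieldSubalgebra n K)
    (x : SpecialLinearGroup (Fin n) F) {z : F}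
    (hxz : ((x ^ n : SpecialLinearGroup (Fin n) F) : Matrix (Fin n) (Fin n) F) = z • 1)
    (hns : (x : Matrix (Fin n) (Fin n) F) ≠ 1) :
    ∃ P : SpecialLinearGroup (Fin n) F, P⁻¹ * x * P ∈ (Cfsg.Geo.subalgebraNormalizer K).comap
      (SpecialLinearGroup.toGL : SpecialLinearGroup (Fin n) F →* GL (Fin n) F) := by
  classical
  haveI : Fact n.Prime := ⟨hn⟩
  have hq1 : ¬ n ∣ q - 1 := fun h => by
    have e : (q : ZMod n) = 1 := by
      have e : q = (q - 1) + 1 := by have := hq ▸ Fintype.card_pos (α := F); omega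
      rw [e, Nat.cast_add, (ZMod.natCast_eq_zero_iff _ _).mpr h, zero_add, Nat.cast_one]
    rw [e, orderOf_one] at hord
    omega
  have hcop : (Nat.card Fˣ).Coprime n := by
    rw [Nat.card_units, Nat.card_eq_fintype_card, hq]
    exact (hn.coprime_iff_not_dvd.mpr hq1).symm
  have hz : z ^ n = 1 := by
    have := congrArg Matrix.det hxz
    rw [(x ^ n).2, det_smul, det_one, mul_one, Fintype.card_fin] at this
    exact this.symm
  have hz1 : z = 1 := by
    have hz0 : z ≠ 0 := fun e => by simp [e, hn.ne_zero] at hz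
    have h1 : Units.mk0 z hz0 = 1 := (powCoprime hcop).injective (Units.ext (by simp [powCoprime_apply, hz]))
    simpa using congrArg Units.val h1
  rw [hz1, one_smul] at hxz
  set g := SpecialLinearGroup.toGL x with hg
  have hgn : g ^ n = 1 := by
    rw [hg, ← map_pow]; exact Units.ext hxz
  have hg1 : g ≠ 1 := fun e => hns (congrArg Units.val e)
  obtain ⟨y, hyN, hyn, hy1, -⟩ := exists_frob hq hn hK
  obtain ⟨v, hv⟩ := exists_cycle hq hn h3 hord hgn hg1
  obtain ⟨v', hv'⟩ := exists_cycle hq hn h3 hord hyn hy1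
  let C : Matrix (Fin n) (Fin n) F :=
    Matrix.of fun i j => if i.1 = (j.1 + 1) % n then 1 else 0
  have hcol : ∀ (h : GL (Fin n) F) (v : Fin n → F), h ^ n = 1 →
      (h : Matrix (Fin n) (Fin n) F) *
          (Matrix.of fun i j : Fin n => (((h : Matrix (Fin n) (Fin n) F) ^ (j : ℕ)) *ᵥ v) i) =
        (Matrix.of fun i j : Fin n => (((h : Matrix (Fin n) (Fin n) F) ^ (j : ℕ)) *ᵥ v) i) * C := by
    intro h v hh
    ext i j
    have e1 : ∀ M : Matrix (Fin n) (Fin n) F, ((h : Matrix (Fin n) (Fin n) F) * M) i j =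
        ((h : Matrix (Fin n) (Fin n) F) *ᵥ M.col j) i := fun M => rfl
    rw [e1]
    show ((h : Matrix (Fin n) (Fin n) F) *ᵥ (((h : Matrix (Fin n) (Fin n) F) ^ (j : ℕ)) *ᵥ v)) i = _
    rw [mulVec_mulVec, ← pow_succ', mul_apply, Finset.sum_eq_single (⟨(j.1 + 1) % n, Nat.mod_lt _ hn.pos⟩ : Fin n)
      (fun k _ hk => by simp [C, show k.1 ≠ (j.1 + 1) % n from fun e => hk (Fin.ext e)])
      (fun h => absurd (Finset.mem_univ _) h)]
    have e2 : (h : Matrix (Fin n) (Fin n) F) ^ ((j.1 + 1) % n) = (h : Matrix (Fin n) (Fin n) F) ^ (j.1 + 1) := by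
      conv_rhs => rw [← Nat.mod_add_div (j.1 + 1) n, pow_add, pow_mul, ← Units.val_pow_eq_pow_val h n, hh,
        Units.val_one, one_pow, mul_one]
    simp [C, e2]
  obtain ⟨P, hP⟩ : ∃ P : GL (Fin n) F, (P : Matrix (Fin n) (Fin n) F) =
      Matrix.of fun i j : Fin n => (((g : Matrix (Fin n) (Fin n) F) ^ (j : ℕ)) *ᵥ v) i := by
    have : IsUnit (Matrix.of fun i j : Fin n => (((g : Matrix (Fin n) (Fin n) F) ^ (j : ℕ)) *ᵥ v) i) := by
      rw [← linearIndependent_cols_iff_isUnit]; exact hv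
    exact ⟨this.unit, this.unit_spec⟩
  obtain ⟨P', hP'⟩ : ∃ P : GL (Fin n) F, (P : Matrix (Fin n) (Fin n) F) =
      Matrix.of fun i j : Fin n => (((y : Matrix (Fin n) (Fin n) F) ^ (j : ℕ)) *ᵥ v') i := by
    have : IsUnit (Matrix.of fun i j : Fin n => (((y : Matrix (Fin n) (Fin n) F) ^ (j : ℕ)) *ᵥ v') i) := by
      rw [← linearIndependent_cols_iff_isUnit]; exact hv'
    exact ⟨this.unit, this.unit_spec⟩
  have h1 := hcol g v hgn
  have h2 := hcol y v' hyn
  rw [← hP] at h1
  rw [← hP'] at h2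
  have hconj : g * (P * P'⁻¹) = (P * P'⁻¹) * y := by
    apply Units.ext
    have h2' : C * ((P'⁻¹ : GL (Fin n) F) : Matrix (Fin n) (Fin n) F) =
        ((P'⁻¹ : GL (Fin n) F) : Matrix (Fin n) (Fin n) F) * (y : Matrix (Fin n) (Fin n) F) := by
      calc C * ((P'⁻¹ : GL (Fin n) F) : Matrix (Fin n) (Fin n) F)
          = ((P'⁻¹ : GL (Fin n) F) : Matrix (Fin n) (Fin n) F) * ((P' : Matrix (Fin n) (Fin n) F) * C) *
              ((P'⁻¹ : GL (Fin n) F) : Matrix (Fin n) (Fin n) F) := by rw [Units.inv_mul_cancel_left]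
        _ = _ := by rw [← h2, mul_assoc, Units.mul_inv_cancel_right]
    simp only [Units.val_mul]
    rw [← mul_assoc, h1, mul_assoc, h2', ← mul_assoc]
  obtain ⟨s, hs⟩ := (powCoprime hcop).surjective (GeneralLinearGroup.det (P * P'⁻¹))⁻¹
  rw [powCoprime_apply] at hs
  let M : Matrix (Fin n) (Fin n) F := (s : F) • ((P * P'⁻¹ : GL (Fin n) F) : Matrix (Fin n) (Fin n) F)
  have hM : M.det = 1 := by
    rw [det_smul, Fintype.card_fin, ← GeneralLinearGroup.val_det_apply, ← Units.val_pow_eq_pow_val, hs,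
      ← Units.val_mul, inv_mul_cancel, Units.val_one]
  let S : SpecialLinearGroup (Fin n) F := ⟨M, hM⟩
  refine ⟨S, ?_⟩
  have e : SpecialLinearGroup.toGL (S⁻¹ * x * S) = y := by
    rw [map_mul, map_mul, map_inv, mul_assoc, inv_mul_eq_iff_eq_mul]
    apply Units.ext
    show (x : Matrix (Fin n) (Fin n) F) * M = M * (y : Matrix (Fin n) (Fin n) F)
    have := congrArg Units.val hconj
    simp only [Units.val_mul] at this
    simp only [M, Units.val_mul, mul_smul_comm, smul_mul_assoc]
    exact congrArg ((s : F) • ·) this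
  rw [Subgroup.mem_comap]
  rw [e]
  exact hyN

end Cfsg.Agent.SingerPrime
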