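import Cfsg.Agent.Lib.OrthUnitaryMaximal
import Cfsg.Agent.Lib.SingerPrime
import Cfsg.Agent.Lib.AschPrimeUnitary
import Cfsg.Agent.Lib.OrthUnitaryPSU
import Cfsg.Agent.Lib.MinIndexPSU3Geo89

/-!
The torus of order `q² - q + 1` of `SU_3(q)` inside an adjoint-closed cubic field of matrices, and its normaliser.
-/

set_option autoImplicit false
set_option linter.unusedSectionVars false
set_option linter.unusedVariables false
set_option linter.style.haveILetI false
set_option synthInstance.maxHeartbeats 400000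
set_option maxHeartbeats 1000000

namespace Cfsg.Agent.SUThree44Field

open Cfsg Cfsg.Agent.OrthUnitaryHerm Cfsg.Agent.OrthUnitaryTransvection Cfsg.Agent.OrthUnitaryMaximal
open scoped Matrix

variable {F : Type*} [Field F] [Fintype F] {q : ℕ}

local notation "Mx" => Matrix (Fin 3) (Fin 3) F
local notation "G" => SU 3 F q
local notation "hh" => hermForm 3 F q

/-- The matrix of an element. -/
abbrev mat (g : SU 3 F q) : Matrix (Fin 3) (Fin 3) F :=
  ((toGLn g : GL (Fin 3) F) : Matrix (Fin 3) (Fin 3) F)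

theorem mat_mul (g k : G) : mat (g * k) = mat g * mat k := by rw [mat, map_mul, Units.val_mul]

theorem mat_one : mat (1 : G) = 1 := by rw [mat, map_one, Units.val_one]

theorem mat_mul_inv (g : G) : mat g * mat g⁻¹ = 1 := by rw [← mat_mul, mul_inv_cancel, mat_one]

theorem mat_inv_mul (g : G) : mat g⁻¹ * mat g = 1 := by rw [← mat_mul, inv_mul_cancel, mat_one]

theorem mat_pow (g : G) (n : ℕ) : mat (g ^ n) = mat g ^ n := by
  rw [mat, map_pow, Units.val_pow_eq_pow_val]

theorem mat_inj {g k : G} (h : mat g = mat k) : g = k :=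
  su_ext fun x => congrArg (fun A => A *ᵥ x) h

theorem mat_ne_zero (g : G) : mat g ≠ 0 := fun h => by
  have := mat_mul_inv g
  rw [h, zero_mul] at this
  exact zero_ne_one this

theorem det_mat (g : G) : (mat g).det = 1 := (g : Matrix.SpecialLinearGroup (Fin 3) F).2

theorem scalar_pow {g : G} {a : F} (h : mat g = a • 1) : a ^ 3 = 1 := by
  have := det_mat g
  rwa [h, Matrix.det_smul, Matrix.det_one, mul_one, Fintype.card_fin] at this

variable {K : Subalgebra F (Matrix (Fin 3) (Fin 3) F)} (hK : Cfsg.Geo.IsFieldSubalgebra 3 K)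

/-- The elements of the field. -/
def torus : Subgroup (SU 3 F q) where
  carrier := {g | mat g ∈ K}
  one_mem' := by rw [Set.mem_setOf_eq, mat_one]; exact K.one_mem
  mul_mem' {g k} hg hk := by rw [Set.mem_setOf_eq, mat_mul]; exact K.mul_mem hg hk
  inv_mem' {g} hg := by
    obtain ⟨y, hy, hgy⟩ := hK.inv _ hg (mat_ne_zero g)
    have : mat g⁻¹ = y := by rw [← mul_one (mat g⁻¹), ← hgy, ← mul_assoc, mat_inv_mul, one_mul]
    rw [Set.mem_setOf_eq, this]
    exact hy

/-- The normaliser of the field in `SU_3`. -/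
def normal (K : Subalgebra F (Matrix (Fin 3) (Fin 3) F)) : Subgroup (SU 3 F q) :=
  (Cfsg.Geo.subalgebraNormalizer K).comap toGLn

theorem mem_torus {g : G} : g ∈ torus hK ↔ mat g ∈ K := Iff.rfl

theorem mem_normal {g : G} : g ∈ normal K ↔ ∀ k : Mx, k ∈ K ↔ mat g * k * mat g⁻¹ ∈ K := by
  have e : ∀ g : G, ((toGLn g : GL (Fin 3) F)⁻¹ : GL (Fin 3) F).val = mat g⁻¹ := fun g => by
    rw [mat, map_inv]
  show (∀ k : Mx, k ∈ K ↔ mat g * k * ((toGLn g : GL (Fin 3) F)⁻¹ : GL (Fin 3) F).val ∈ K) ↔ _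
  rw [e]

theorem torus_comm {g k : G} (hg : g ∈ torus hK) (hk : k ∈ torus hK) : g * k = k * g := by
  apply mat_inj
  rw [mat_mul, mat_mul]
  exact hK.comm _ hg _ hk

theorem torus_le : torus (q := q) hK ≤ normal K := fun g hg => by
  rw [mem_normal]
  intro k
  constructor
  · intro hk; exact K.mul_mem (K.mul_mem hg hk) ((torus hK).inv_mem hg)
  · intro h
    have := K.mul_mem (K.mul_mem ((torus hK).inv_mem hg) h) hg
    rwa [← mul_assoc, ← mul_assoc, mat_inv_mul, one_mul, mul_assoc, mat_inv_mul, mul_one] at this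

include hK in
theorem scalar_of_eigen {x : Mx} (hx : x ∈ K) {v : Fin 3 → F} (hv : v ≠ 0) {a : F}
    (h : x *ᵥ v = a • v) : x = a • 1 := by
  have ha : (a • 1 : Mx) ∈ K := K.smul_mem K.one_mem a
  have := (SingerPrime.act_bij (by norm_num) hK hv).1 (a₁ := ⟨x, hx⟩) (a₂ := ⟨a • 1, ha⟩)
    (by simp only; rw [h, Matrix.smul_mulVec, Matrix.one_mulVec])
  exact congrArg Subtype.val this

include hK in
theorem comm_mem {X : Mx} (h : ∀ k ∈ K, X * k = k * X) : X ∈ K := by
  set v : Fin 3 → F := Pi.single 0 1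
  have hv : v ≠ 0 := by simp [v]
  have hb := SingerPrime.act_bij (by norm_num) hK hv
  obtain ⟨a, ha⟩ := hb.2 (X *ᵥ v)
  simp only at ha
  have : X = (a : Mx) := by
    refine Matrix.ext_of_mulVec_single fun j => ?_
    obtain ⟨k, hk⟩ := hb.2 (Pi.single j 1)
    simp only at hk
    rw [← hk, Matrix.mulVec_mulVec, h _ k.2, ← Matrix.mulVec_mulVec, ← ha, Matrix.mulVec_mulVec,
      hK.comm _ k.2 _ a.2, ← Matrix.mulVec_mulVec]
  rw [this]
  exact a.2

include hK in
theorem ti {x : G} (hx : x ∈ torus hK) (hns : ∀ a : F, mat x ≠ a • 1) {g : G}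
    (h : g * x * g⁻¹ ∈ torus hK) : g ∈ normal K := by
  letI : CommRing K :=
    { (inferInstance : Ring K) with mul_comm := fun x y => Subtype.ext (hK.comm _ x.2 _ y.2) }
  letI : Field K := (SingerPrime.isField (by norm_num) hK).toField
  haveI : IsSimpleOrder (Subalgebra F K) :=
    Subalgebra.isSimpleOrder_of_finrank_prime F K (by rw [hK.finrank_eq]; exact Nat.prime_three)
  let E : Subalgebra F K :=
    { carrier := {k | mat g * (k : Mx) * mat g⁻¹ ∈ K}
      mul_mem' := fun {a b} ha hb => by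
        have e := K.mul_mem (show mat g * (a : Mx) * mat g⁻¹ ∈ K from ha) hb
        show mat g * ((a : Mx) * (b : Mx)) * mat g⁻¹ ∈ K
        convert e using 1
        simp only [mul_assoc]
        rw [← mul_assoc (mat g⁻¹) (mat g), mat_inv_mul, one_mul]
      add_mem' := fun {a b} ha hb => by
        have e := K.add_mem (show mat g * (a : Mx) * mat g⁻¹ ∈ K from ha) hb
        show mat g * ((a : Mx) + (b : Mx)) * mat g⁻¹ ∈ K
        rwa [mul_add, add_mul]
      algebraMap_mem' := fun r => by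
        show mat g * algebraMap F Mx r * mat g⁻¹ ∈ K
        rw [← Algebra.commutes r (mat g), mul_assoc, mat_mul_inv, mul_one]
        exact K.algebraMap_mem r }
  have hall : ∀ k ∈ K, mat g * k * mat g⁻¹ ∈ K := by
    rcases IsSimpleOrder.eq_bot_or_eq_top E with hE | hE
    · exfalso
      have hxE : (⟨mat x, hx⟩ : K) ∈ E := by
        show mat g * mat x * mat g⁻¹ ∈ K
        rw [← mat_mul, ← mat_mul]
        exact h
      rw [hE, Algebra.mem_bot] at hxE
      obtain ⟨a, ha⟩ := hxE
      refine hns a ?_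
      rw [← Algebra.algebraMap_eq_smul_one]
      exact (congrArg Subtype.val ha).symm
    · intro k hk
      exact (hE ▸ Algebra.mem_top : (⟨k, hk⟩ : K) ∈ E)
  rw [mem_normal]
  refine fun k => ⟨hall k, fun hk => ?_⟩
  let ψ : K → K := fun a => ⟨mat g * (a : Mx) * mat g⁻¹, hall _ a.2⟩
  have hinj : Function.Injective ψ := fun a b e => by
    have e' := congrArg (fun z : K => mat g⁻¹ * (z : Mx) * mat g) e
    simp only [ψ, mul_assoc, mat_inv_mul, mul_one] at e'
    rw [← mul_assoc, mat_inv_mul, one_mul, ← mul_assoc, mat_inv_mul, one_mul] at e'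
    exact Subtype.ext e'
  obtain ⟨a, ha⟩ := (Finite.injective_iff_surjective.1 hinj) ⟨_, hk⟩
  have e' := congrArg (fun z : K => mat g⁻¹ * (z : Mx) * mat g) ha
  simp only [ψ, mul_assoc, mat_inv_mul, mul_one] at e'
  rw [← mul_assoc, mat_inv_mul, one_mul, ← mul_assoc, mat_inv_mul, one_mul] at e'
  rw [← e']
  exact a.2

variable (hF : Fintype.card F = q ^ 2) (hadj : Cfsg.Geo.IsAdjointClosedFor (hermForm 3 F q) K)

include hF hadj in
theorem star_mem {k : Mx} (hk : k ∈ K) : AschPrimeUnitary.star' hF k ∈ K := by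
  obtain ⟨k', hk', h⟩ := hadj k hk
  have : AschPrimeUnitary.star' hF k = k' := by
    refine Matrix.ext_of_mulVec_single fun j => sub_eq_zero.1 (eq_zero_of_herm_eq_zero hF fun x => ?_)
    refine herm_skew_zero hF ?_
    rw [herm_sub_right hF, ← AschPrimeUnitary.herm_adjoint hF, ← h, sub_self]
  rw [this]
  exact hk'

include hK hF hadj in
theorem torus_data {c : ℕ} (hc : c + q = q ^ 2 + 1) :
    (∀ x : torus (q := q) hK, x ^ c = 1) ∧
      ∀ d, d ∣ c → Nat.card {x : torus (q := q) hK // x ^ d = 1} = d := by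
  classical
  letI : CommRing K :=
    { (inferInstance : Ring K) with mul_comm := fun x y => Subtype.ext (hK.comm _ x.2 _ y.2) }
  letI : Field K := (SingerPrime.isField (by norm_num) hK).toField
  letI : Fintype K := Fintype.ofFinite K
  have hq2 := two_le_q hF
  have hcK : Nat.card K = q ^ 6 := by
    rw [Nat.card_eq_fintype_card, Module.card_eq_pow_finrank (K := F) (V := K), hF, hK.finrank_eq,
      ← pow_mul]
  have hpK : ∀ a : K, a ^ q ^ 6 = a := fun a => by
    rw [← hcK, Nat.card_eq_fintype_card, FiniteField.pow_card]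
  have hpF : ∀ a : F, a ^ q ^ 2 = a := fun a => by rw [← hF, FiniteField.pow_card]
  -- the adjoint is the power with exponent `q ^ 3`
  let s : K → K := fun a => ⟨AschPrimeUnitary.star' hF (a : Mx), star_mem hF hadj a.2⟩
  have s_mul : ∀ a b, s (a * b) = s a * s b := fun a b => Subtype.ext (by
    show AschPrimeUnitary.star' hF ((a : Mx) * (b : Mx)) = _
    rw [AschPrimeUnitary.star'_mul, hK.comm _ (s b).2 _ (s a).2]
    rfl)
  have s_add : ∀ a b, s (a + b) = s a + s b := fun a b => Subtype.ext (by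
    show AschPrimeUnitary.star' hF ((a : Mx) + (b : Mx)) = AschPrimeUnitary.star' hF a + AschPrimeUnitary.star' hF b
    ext i j
    simp [AschPrimeUnitary.star', Matrix.map_apply, add_pow_q hF])
  have s_s : ∀ a, s (s a) = a := fun a => Subtype.ext (AschPrimeUnitary.star'_star' hF _)
  have s_alg : ∀ r : F, s (algebraMap F K r) = algebraMap F K (r ^ q) := fun r => Subtype.ext (by
    show AschPrimeUnitary.star' hF (algebraMap F Mx r) = algebraMap F Mx (r ^ q)
    ext i j
    simp only [AschPrimeUnitary.star', Matrix.map_apply, Matrix.transpose_apply, Matrix.algebraMap_matrix_apply, apply_ite (AschPrimeUnitary.fr hF), map_zero, AschPrimeUnitary.fr_apply, Algebra.algebraMap_self, RingHom.id_apply]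
    rcases eq_or_ne i j with rfl | h
    · rfl
    · rw [if_neg h, if_neg (Ne.symm h)])
  have s_one : s 1 = 1 := by
    have := s_alg 1
    rwa [map_one, one_pow, map_one] at this
  have s_pow : ∀ (a : K) (n : ℕ), s (a ^ n) = s a ^ n := fun a n => by
    induction n with
    | zero => rw [pow_zero, pow_zero, s_one]
    | succ n ih => rw [pow_succ, pow_succ, s_mul, ih]
  obtain ⟨p, f, hp, hchar, hf0, hqp⟩ := exists_prime_pow hF
  haveI : Fact p.Prime := ⟨hp⟩
  haveI : CharP K p := charP_of_injective_algebraMap (algebraMap F K).injective p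
  have p_add : ∀ a b : K, (a + b) ^ q ^ 3 = a ^ q ^ 3 + b ^ q ^ 3 := fun a b => by
    rw [hqp, ← pow_mul, add_pow_char_pow]
  let τ : K →ₐ[F] K :=
    { toFun := fun a => s (a ^ q ^ 3)
      map_one' := by simp only [one_pow]; exact s_one
      map_mul' := fun a b => by simp only [mul_pow]; exact s_mul _ _
      map_zero' := by
        simp only [zero_pow (pow_ne_zero 3 (by omega : q ≠ 0))]
        exact Subtype.ext (by ext i j; simp [s, AschPrimeUnitary.star', Matrix.map_apply, show q ≠ 0 by omega])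
      map_add' := fun a b => by simp only [p_add]; exact s_add _ _
      commutes' := fun r => by
        simp only [← map_pow, s_alg]
        rw [← pow_mul, show q ^ 3 * q = q ^ 2 * q ^ 2 by ring, pow_mul, hpF, hpF] }
  haveI : Algebra.IsAlgebraic F K := Algebra.IsAlgebraic.of_finite F K
  let T : K ≃ₐ[F] K := AlgEquiv.ofBijective τ (Finite.injective_iff_bijective.1 τ.toRingHom.injective)
  have hT2 : T ^ 2 = 1 := AlgEquiv.ext fun a => by
    rw [pow_two, AlgEquiv.mul_apply]
    show s (s (a ^ q ^ 3) ^ q ^ 3) = a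
    rw [← s_pow, s_s, ← pow_mul, ← pow_add, hpK]
  have hT : T = 1 := by
    have h3 : Nat.card (K ≃ₐ[F] K) = 3 := by rw [IsGalois.card_aut_eq_finrank, hK.finrank_eq]
    rw [← orderOf_eq_one_iff]
    have h1 := orderOf_dvd_of_pow_eq_one hT2
    have h2 := orderOf_dvd_natCard T
    rw [h3] at h2
    exact Nat.dvd_one.1 (Nat.dvd_gcd h1 h2 : orderOf T ∣ Nat.gcd 2 3)
  have hs : ∀ a, s a = a ^ q ^ 3 := fun a => by
    have : T (a ^ q ^ 3) = a ^ q ^ 3 := by rw [hT]; rfl
    have e : s ((a ^ q ^ 3) ^ q ^ 3) = a ^ q ^ 3 := this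
    rwa [← pow_mul, ← pow_add, hpK] at e
  -- determinant is the norm
  have hdet : ∀ a : K, algebraMap F K (a : Mx).det = a ^ (q ^ 4 + q ^ 2 + 1) := by
    intro a
    set v : Fin 3 → F := Pi.single 0 1
    have hv : v ≠ 0 := by simp [v]
    let ev : K →ₗ[F] (Fin 3 → F) :=
      { toFun := fun b => (b : Mx) *ᵥ v
        map_add' := fun a b => by simp [Matrix.add_mulVec]
        map_smul' := fun c a => by simp [Matrix.smul_mulVec] }
    let e : K ≃ₗ[F] (Fin 3 → F) := LinearEquiv.ofBijective ev (SingerPrime.act_bij (by norm_num) hK hv)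
    have hconj : Matrix.toLin' (a : Mx) =
        e.toLinearMap ∘ₗ LinearMap.mulLeft F a ∘ₗ e.symm.toLinearMap := by
      refine LinearMap.ext fun u => ?_
      obtain ⟨b, rfl⟩ := e.surjective u
      simp only [LinearMap.comp_apply, LinearEquiv.coe_coe, LinearEquiv.symm_apply_apply,
        Matrix.toLin'_apply, LinearMap.mulLeft_apply]
      exact Matrix.mulVec_mulVec v (a : Mx) (b : Mx)
    have : (a : Mx).det = Algebra.norm F a := by
      rw [← LinearMap.det_toLin', hconj, LinearMap.det_conj, Algebra.norm_apply]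
      rfl
    rw [this, FiniteField.algebraMap_norm_eq_pow, hcK, Nat.card_eq_fintype_card (α := F), hF]
    congr 1
    refine Nat.div_eq_of_eq_mul_left (by have := Nat.pow_le_pow_left hq2 2; omega) ?_
    have h6 : 1 ≤ q ^ 6 := Nat.one_le_pow _ _ (by omega)
    have h2 : 1 ≤ q ^ 2 := Nat.one_le_pow _ _ (by omega)
    zify [h6, h2]
    ring
  have hcz : c * (q + 1) = q ^ 3 + 1 := by
    have : (c : ℤ) = (q : ℤ) ^ 2 - q + 1 := by
      have : ((c + q : ℕ) : ℤ) = ((q ^ 2 + 1 : ℕ) : ℤ) := by rw [hc]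
      push_cast at this; linarith
    zify; rw [this]; ring
  have hcn : c * (q ^ 2 + q + 1) = q ^ 4 + q ^ 2 + 1 := by
    have : (c : ℤ) = (q : ℤ) ^ 2 - q + 1 := by
      have : ((c + q : ℕ) : ℤ) = ((q ^ 2 + 1 : ℕ) : ℤ) := by rw [hc]
      push_cast at this; linarith
    zify; rw [this]; ring
  let f₀ : torus (q := q) hK →* Kˣ :=
    MonoidHom.toHomUnits
      { toFun := fun g => ⟨mat g.1, g.2⟩
        map_one' := Subtype.ext (mat_one (q := q))
        map_mul' := fun g k => Subtype.ext (mat_mul g.1 k.1) }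
  have f_inj : Function.Injective f₀ := fun g k h =>
    Subtype.ext (mat_inj (congrArg (fun u : Kˣ => ((u : K) : Mx)) h))
  have f_mem : ∀ g, f₀ g ^ c = 1 := by
    intro g
    set a : K := ⟨mat g.1, g.2⟩ with ha
    have h1 : a ^ (q ^ 3 + 1) = 1 := by
      rw [pow_succ, ← hs]
      refine Subtype.ext ?_
      show AschPrimeUnitary.star' hF (mat g.1) * mat g.1 = 1
      rw [mat, AschPrimeUnitary.star'_eq_inv hF (show toGLn g.1 ∈ GU 3 F q from (suToGU g.1).2)]
      exact Units.inv_mul _
    have h2 : a ^ (q ^ 4 + q ^ 2 + 1) = 1 := by rw [← hdet, ha, det_mat, map_one]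
    rw [← hcz] at h1
    rw [← hcn, show q ^ 2 + q + 1 = q * (q + 1) + 1 by ring, mul_add, mul_one, pow_add, mul_left_comm,
      pow_mul', h1, one_pow, one_mul] at h2
    exact Units.ext (by rw [Units.val_pow_eq_pow_val, Units.val_one]; exact h2)
  have f_surj : ∀ u : Kˣ, u ^ c = 1 → ∃ g, f₀ g = u := by
    intro u hu
    have hu' : (u : K) ^ c = 1 := by rw [← Units.val_pow_eq_pow_val, hu, Units.val_one]
    have hd1 : ((u : K) : Mx).det = 1 := by
      apply (algebraMap F K).injective
      rw [hdet, map_one, ← hcn, pow_mul, hu', one_pow]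
    have hsu : AschPrimeUnitary.star' hF ((u : K) : Mx) * ((u : K) : Mx) = 1 := by
      have : s (u : K) * (u : K) = 1 := by rw [hs, ← pow_succ, ← hcz, pow_mul, hu', one_pow]
      exact congrArg Subtype.val this
    refine ⟨⟨⟨⟨((u : K) : Mx), hd1⟩, fun x y => ?_⟩, (u : K).2⟩, Units.ext rfl⟩
    show hermForm 3 F q (((u : K) : Mx) *ᵥ x) (((u : K) : Mx) *ᵥ y) = _
    rw [AschPrimeUnitary.herm_adjoint hF, Matrix.mulVec_mulVec, hsu, Matrix.one_mulVec]
  refine ⟨fun g => f_inj (by rw [map_pow, f_mem, map_one]), fun d hd => ?_⟩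
  have hdK : d ∣ Nat.card Kˣ := by
    rw [Nat.card_units, hcK]
    refine hd.trans ⟨(q + 1) * (q ^ 3 - 1), ?_⟩
    rw [← mul_assoc, hcz, ← Nat.sq_sub_sq, one_pow, ← pow_mul]
  have hk : Nat.card (powMonoidHom d : Kˣ →* Kˣ).ker = d := by
    rw [IsCyclic.card_powMonoidHom_ker, Nat.gcd_eq_right hdK]
  refine Eq.trans ?_ hk
  refine Nat.card_congr (Equiv.ofBijective (fun x => ⟨f₀ x.1, by
    rw [MonoidHom.mem_ker, powMonoidHom_apply, ← map_pow, x.2, map_one]⟩) ⟨?_, ?_⟩)
  · intro x y h
    exact Subtype.ext (f_inj (congrArg Subtype.val h))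
  · rintro ⟨u, hu⟩
    rw [MonoidHom.mem_ker, powMonoidHom_apply] at hu
    obtain ⟨k, hk'⟩ := hd
    obtain ⟨g, hg⟩ := f_surj u (by rw [hk', pow_mul, hu, one_pow])
    exact ⟨⟨g, f_inj (by rw [map_pow, hg, hu, map_one])⟩, Subtype.ext hg⟩

include hK hF hadj in
theorem card_torus {c : ℕ} (hc : c + q = q ^ 2 + 1) : Nat.card (torus (q := q) hK) = c := by
  have h := (torus_data hK hF hadj hc).2 c dvd_rfl
  have hall : ∀ x : torus (q := q) hK, x ^ c = 1 := (torus_data hK hF hadj hc).1
  rw [← Nat.card_congr (Equiv.subtypeUnivEquiv hall), h]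

include hK in
/-- The normaliser modulo the torus embeds into the Galois group. -/
theorem relIndex_torus : (torus (q := q) hK).relIndex (normal K) ∣ 3 := by
  classical
  letI : CommRing K :=
    { (inferInstance : Ring K) with mul_comm := fun x y => Subtype.ext (hK.comm _ x.2 _ y.2) }
  letI : Field K := (SingerPrime.isField (by norm_num) hK).toField
  haveI : Algebra.IsAlgebraic F K := Algebra.IsAlgebraic.of_finite F K
  have hg' : ∀ g : normal (q := q) K, ∀ k : K, mat g.1 * (k : Mx) * mat g.1⁻¹ ∈ K :=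
    fun g k => ((mem_normal).1 g.2 _).1 k.2
  let φ : ∀ g : normal (q := q) K, K →ₐ[F] K := fun g =>
    { toFun := fun a => ⟨mat g.1 * (a : Mx) * mat g.1⁻¹, hg' g a⟩
      map_one' := Subtype.ext (by simp [mat_mul_inv])
      map_mul' := fun a b => Subtype.ext (by
        simp only [Subalgebra.coe_mul, mul_assoc]
        rw [← mul_assoc (mat g.1⁻¹) (mat g.1), mat_inv_mul, one_mul])
      map_zero' := Subtype.ext (by simp)
      map_add' := fun a b => Subtype.ext (by simp [mul_add, add_mul])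
      commutes' := fun c => Subtype.ext (by
        show mat g.1 * algebraMap F Mx c * mat g.1⁻¹ = algebraMap F Mx c
        rw [← Algebra.commutes c (mat g.1), mul_assoc, mat_mul_inv, mul_one]) }
  let ψ : normal (q := q) K →* (K ≃ₐ[F] K) := MonoidHom.mk'
    (fun g => AlgEquiv.ofBijective (φ g) (Finite.injective_iff_bijective.1 (φ g).toRingHom.injective))
    (fun g k => AlgEquiv.ext fun a => Subtype.ext (by
      show mat (g.1 * k.1) * (a : Mx) * mat (g.1 * k.1)⁻¹ =
        mat g.1 * (mat k.1 * (a : Mx) * mat k.1⁻¹) * mat g.1⁻¹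
      rw [mul_inv_rev, mat_mul, mat_mul]
      simp only [mul_assoc]))
  have hker : ψ.ker = (torus hK).subgroupOf (normal K) := by
    ext g
    rw [MonoidHom.mem_ker, Subgroup.mem_subgroupOf, mem_torus]
    constructor
    · intro h
      refine comm_mem hK fun k hk => ?_
      have : mat g.1 * k * mat g.1⁻¹ = k :=
        congrArg Subtype.val (AlgEquiv.congr_fun h ⟨k, hk⟩)
      conv_rhs => rw [← this]
      rw [mul_assoc _ (mat g.1⁻¹), mat_inv_mul, mul_one]
    · intro h
      refine AlgEquiv.ext fun a => Subtype.ext ?_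
      show mat g.1 * (a : Mx) * mat g.1⁻¹ = (a : Mx)
      rw [hK.comm _ h _ a.2, mul_assoc, mat_mul_inv, mul_one]
  show ((torus hK).subgroupOf (normal K)).index ∣ 3
  rw [← hker, Subgroup.index_ker]
  have h3 : Nat.card (K ≃ₐ[F] K) = 3 := by rw [IsGalois.card_aut_eq_finrank, hK.finrank_eq]
  exact (Subgroup.card_subgroup_dvd_card ψ.range).trans h3.dvd

end Cfsg.Agent.SUThree44Field
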