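import Cfsg.Agent.Lib.SUThree44Base
import Cfsg.Prelude.Def_GeometricClasses

/-!
The stabilisers of isotropic and of non-degenerate points are maximal in `SU_3(q)`.
-/

set_option autoImplicit false
set_option linter.unusedSectionVars false
set_option linter.unusedVariables false

namespace Cfsg.Agent.SUThree44Parabolic

open Cfsg Cfsg.Agent.OrthUnitaryHerm Cfsg.Agent.OrthUnitaryTransvection Cfsg.Agent.OrthUnitaryMaximal
open Cfsg.Agent.MinIndexPSU3Geo89 Cfsg.Agent.MinIndexPSU3Stab89 Cfsg.Agent.MinIndexPSU3Orbit89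
open scoped Matrix Classical

variable {F : Type*} [Field F] [Fintype F] {q : ℕ} (hF : Fintype.card F = q ^ 2)

local notation "hh" => hermForm 3 F q

/-- The stabiliser of the line of a vector, in coordinates. -/
theorem mem_stab_span {u : Fin 3 → F} (hu : u ≠ 0) {g : SU 3 F q} :
    toGLn g ∈ Cfsg.Geo.subspaceStabilizer (Submodule.span F {u}) ↔ ∃ a : F, act g u = a • u := by
  constructor
  · intro h
    have := (h u).1 (Submodule.mem_span_singleton_self u)
    obtain ⟨a, ha⟩ := Submodule.mem_span_singleton.1 this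
    exact ⟨a, ha.symm⟩
  · rintro ⟨a, ha⟩
    have ha0 : a ≠ 0 := fun h => act_ne_zero g hu (by rw [ha, h, zero_smul])
    intro v
    show v ∈ Submodule.span F {u} ↔ act g v ∈ Submodule.span F {u}
    rw [Submodule.mem_span_singleton, Submodule.mem_span_singleton]
    constructor
    · rintro ⟨b, rfl⟩
      exact ⟨b * a, by rw [act_smul, ha, smul_smul]⟩
    · rintro ⟨b, hb⟩
      refine ⟨b / a, ?_⟩
      have : act g⁻¹ u = a⁻¹ • u := by
        have h1 := congrArg (act g⁻¹) ha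
        rw [act_inv_act, act_smul] at h1
        rw [eq_inv_smul_iff₀ ha0]
        exact h1.symm
      rw [← act_inv_act g v, ← hb, act_smul, this, smul_smul, div_eq_mul_inv]

include hF in
theorem exists_skew_ne : ∃ c : F, c ≠ 0 ∧ c + c ^ q = 0 := by
  have h : skew hF ≠ ⊥ := fun h => by
    have := card_skew (F := F) hF
    rw [h, AddSubgroup.card_bot] at this
    have := two_le_q hF
    omega
  obtain ⟨c, hc, hc0⟩ := ((skew hF).bot_or_exists_ne_zero).resolve_left h
  exact ⟨c, hc0, hc⟩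

include hF in
theorem exists_phi_ne (Φ : Frame q F) : ∃ g ∈ Φ.P, phi Φ g ≠ 0 := by
  by_contra hall
  push Not at hall
  let m : Φ.P → skew hF := fun g => ⟨mu Φ g.1, (phi_zero hF Φ g.2 (hall _ g.2)).1⟩
  have hinj : Function.Injective m := fun g k h =>
    Subtype.ext (eq_of_phi_mu hF Φ g.2 k.2 (by rw [hall _ g.2, hall _ k.2]) (congrArg Subtype.val h))
  have h1 := Nat.card_le_card_of_injective m hinj
  rw [card_P hF Φ, card_skew hF] at h1
  have h2 : 2 ^ 2 ≤ q ^ 2 := Nat.pow_le_pow_left (two_le_q hF) 2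
  have h3 : q * 4 ≤ q ^ 3 := by rw [pow_succ' q 2]; exact Nat.mul_le_mul_left q h2
  have := two_le_q hF
  omega

include hF in
/-- A transvection fixing a line. -/
theorem tv_fix_line {e v : Fin 3 → F} (he : hh e e = 0) {c : F} (hc0 : c ≠ 0) (hc : c + c ^ q = 0) {a : F}
    (h : act (tv hF e c he hc) v = a • v) : hh v e = 0 ∨ ∃ b : F, v = b • e := by
  rw [tv_act] at h
  rcases eq_or_ne a 1 with rfl | ha
  · rw [one_smul, add_eq_left, smul_eq_zero] at h
    rcases h with h | h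
    · exact Or.inl ((mul_eq_zero.1 h).resolve_left hc0)
    · exact Or.inl (by rw [h, herm_zero_right hF])
  · refine Or.inr ⟨(a - 1)⁻¹ * (c * hh v e), ?_⟩
    rw [mul_smul, eq_inv_smul_iff₀ (sub_ne_zero.2 ha), sub_smul, one_smul, ← h]
    abel

/-- The isotropic clause. -/
theorem maximal_isotropic {F : Type*} [Field F] [Fintype F] (q : ℕ) (hF : Fintype.card F = q ^ 2) (hq : 3 ≤ q) :
    ∀ W : Submodule F (Fin 3 → F), W ≠ ⊥ → Cfsg.Geo.IsTotallySingularFor (Cfsg.hermForm 3 F q) W →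
      Cfsg.Geo.IsMaximalIn (Cfsg.GU 3 F q ⊓ Cfsg.Geo.specialLinear (Fin 3) F)
        (Cfsg.Geo.subspaceStabilizer W ⊓ (Cfsg.GU 3 F q ⊓ Cfsg.Geo.specialLinear (Fin 3) F)) := by
  intro W hW hsing
  obtain ⟨e, heW, he0⟩ := Submodule.exists_mem_ne_zero_of_ne_bot hW
  have he := hsing e heW e heW
  obtain ⟨Φ, hΦ⟩ := exists_frame hF he0 he
  subst hΦ
  have hWe : W = Submodule.span F {Φ.e} := by
    refine le_antisymm (fun v hv => ?_) ((Submodule.span_singleton_le_iff_mem _ _).2 heW)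
    obtain ⟨a, ha⟩ := SUThree44Base.dep_of_iso_orth hF he0 he (hsing v hv v hv) (hsing v hv _ heW)
    exact ha ▸ Submodule.smul_mem _ a (Submodule.mem_span_singleton_self _)
  subst hWe
  have hf0 : Φ.f ≠ 0 := fun h => by
    have := Φ.fe; rw [h, herm_zero_left] at this; exact zero_ne_one this
  refine SUThree44Base.isMaximalIn_of3 hF _ ?_ fun M hM g hg hgL => ?_
  · obtain ⟨g, hg⟩ := (transitive hF).exists_smul_eq Φ.line (mkLine Φ.f hf0 Φ.ff)
    refine ⟨g, fun h => ?_⟩
    obtain ⟨a, ha⟩ := (mem_stab_span he0).1 h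
    rw [Frame.line, smul_mkLine] at hg
    obtain ⟨b, hb, hb'⟩ := mkLine_eq hg
    rw [ha] at hb'
    have := congrArg (fun x => hermForm 3 F q x Φ.e) hb'
    simp only [herm_smul_left, Φ.ee, Φ.fe, mul_zero, mul_one] at this
    exact hb this.symm
  · have hin : ∀ y : SU 3 F q, (∃ a : F, act y Φ.e = a • Φ.e) → y ∈ M := fun y hy =>
      hM ((mem_stab_span he0).2 hy)
    refine SUThree44Base.top_of_root hF hq he0 ((centre_iff hF Φ.ee).2 fun c hc => hin _ ⟨1, by
      rw [one_smul]; exact (mem_P Φ).1 (tv_mem_P hF Φ c hc)⟩) fun v hv => ?_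
    by_cases hve : ∃ b : F, v = b • Φ.e
    · obtain ⟨b, rfl⟩ := hve
      have hb : b ≠ 0 := fun h => hv (by rw [h, zero_smul])
      refine ⟨g, hg, fun a ha => hgL ((mem_stab_span he0).2 ⟨a, ?_⟩)⟩
      rw [act_smul, smul_comm] at ha
      exact smul_right_injective _ hb ha
    obtain ⟨c, hc0, hc⟩ := exists_skew_ne (F := F) hF
    by_contra hfix
    push Not at hfix
    obtain ⟨a, ha⟩ := hfix _ (hin (tv hF Φ.e c Φ.ee hc) ⟨1, by
      rw [one_smul]; exact (mem_P Φ).1 (tv_mem_P hF Φ c hc)⟩)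
    have hv0 : hermForm 3 F q v Φ.e = 0 := (tv_fix_line hF Φ.ee hc0 hc ha).resolve_right hve
    obtain ⟨y, hy, hphi⟩ := exists_phi_ne hF Φ
    obtain ⟨b, hb⟩ := hfix y (hin y ⟨1, by rw [one_smul]; exact (mem_P Φ).1 hy⟩)
    have hx := Φ.span v
    rw [hv0, zero_smul, add_zero] at hx
    have hz : hermForm 3 F q v Φ.k ≠ 0 := fun h => hve ⟨hermForm 3 F q v Φ.f, by rw [h, zero_smul, add_zero] at hx; exact hx⟩
    rw [hx, act_add, act_smul, act_smul, (mem_P Φ).1 hy, act_k hF Φ hy] at hb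
    have e1 := congrArg (fun x => hermForm 3 F q x Φ.k) hb
    simp only [herm_add_left, herm_smul_left, Φ.ek, Φ.kk, mul_zero, mul_one, zero_add] at e1
    have hb1 : b = 1 := mul_right_cancel₀ hz (by rw [one_mul]; exact e1.symm)
    have e2 := congrArg (fun x => hermForm 3 F q x Φ.f) hb
    simp only [hb1, herm_add_left, herm_smul_left, Φ.ef, Φ.kf, mul_zero, mul_one, add_zero, one_mul] at e2
    exact mul_ne_zero hz hphi (by linear_combination e2)

/-- The non-degenerate clause. -/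
theorem maximal_nondegenerate {F : Type*} [Field F] [Fintype F] (q : ℕ) (hF : Fintype.card F = q ^ 2) (hq : 3 ≤ q) :
    ∀ W : Submodule F (Fin 3 → F), W ≠ ⊥ → Cfsg.Geo.IsNondegenerateOn (Cfsg.hermForm 3 F q) W →
      2 * Module.finrank F W < 3 →
      Cfsg.Geo.IsMaximalIn (Cfsg.GU 3 F q ⊓ Cfsg.Geo.specialLinear (Fin 3) F)
        (Cfsg.Geo.subspaceStabilizer W ⊓ (Cfsg.GU 3 F q ⊓ Cfsg.Geo.specialLinear (Fin 3) F)) := by
  intro W hW hnd hdim
  obtain ⟨u₀, hu₀W, hu₀⟩ := Submodule.exists_mem_ne_zero_of_ne_bot hW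
  have hWu : W = Submodule.span F {u₀} := by
    refine (Submodule.eq_of_le_of_finrank_le ((Submodule.span_singleton_le_iff_mem _ _).2 hu₀W) ?_).symm
    rw [finrank_span_singleton hu₀]; omega
  subst hWu
  have huu : hermForm 3 F q u₀ u₀ ≠ 0 := by
    obtain ⟨⟨x, hx, hxu⟩, -⟩ := hnd u₀ hu₀W hu₀
    obtain ⟨a, rfl⟩ := Submodule.mem_span_singleton.1 hx
    intro h
    exact hxu (by rw [herm_smul_left, h, mul_zero])
  obtain ⟨b, hb⟩ := SU3InvolGeom.exists_unit_vec hF huu
  obtain ⟨Φ, hk⟩ := exists_frame_unit hF hb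
  have hb0 : b ≠ 0 := fun h => by
    rw [h, zero_smul, herm_zero_left] at hb
    exact zero_ne_one hb
  have hk0 : Φ.k ≠ 0 := fun h => by
    have := Φ.kk; rw [h, herm_zero_left] at this; exact zero_ne_one this
  have hspan : Submodule.span F {u₀} = Submodule.span F {Φ.k} := by
    rw [hk, Submodule.span_singleton_smul_eq hb0.isUnit]
  rw [hspan]
  refine SUThree44Base.isMaximalIn_of3 hF _ ?_ fun M hM g hg hgL => ?_
  · obtain ⟨y, hy, hphi⟩ := exists_phi_ne hF Φ
    refine ⟨y, fun h => ?_⟩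
    obtain ⟨a, ha⟩ := (mem_stab_span hk0).1 h
    rw [act_k hF Φ hy] at ha
    have e := congrArg (fun x => hermForm 3 F q x Φ.f) ha
    simp only [herm_add_left, herm_smul_left, Φ.ef, Φ.kf, mul_zero, mul_one, add_zero] at e
    exact hphi e
  · obtain ⟨c, hc0, hc⟩ := exists_skew_ne (F := F) hF
    have hin : ∀ (e : Fin 3 → F) (he : hermForm 3 F q e e = 0), hermForm 3 F q Φ.k e = 0 → ∀ c (hc : c + c ^ q = 0),
        tv hF e c he hc ∈ M := fun e he hke c hc =>
      hM ((mem_stab_span hk0).2 ⟨1, by rw [tv_act, hke, mul_zero, zero_smul, add_zero, one_smul]⟩)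
    refine SUThree44Base.top_of_root hF hq (e_ne_zero Φ)
      ((centre_iff hF Φ.ee).2 (hin Φ.e Φ.ee Φ.ke)) fun v hv => ?_
    by_cases hvk : ∃ a : F, v = a • Φ.k
    · obtain ⟨a, rfl⟩ := hvk
      have ha : a ≠ 0 := fun h => hv (by rw [h, zero_smul])
      refine ⟨g, hg, fun a' ha' => hgL ((mem_stab_span hk0).2 ⟨a', ?_⟩)⟩
      rw [act_smul, smul_comm] at ha'
      exact smul_right_injective _ ha ha'
    by_contra hfix
    push Not at hfix
    obtain ⟨a, ha⟩ := hfix _ (hin Φ.e Φ.ee Φ.ke c hc)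
    obtain ⟨a', ha'⟩ := hfix _ (hin Φ.f Φ.ff Φ.kf c hc)
    rcases tv_fix_line hF Φ.ee hc0 hc ha with he | ⟨x, hx⟩ <;>
      rcases tv_fix_line hF Φ.ff hc0 hc ha' with hf | ⟨y, hy⟩
    · refine hvk ⟨hermForm 3 F q v Φ.k, ?_⟩
      conv_lhs => rw [Φ.span v, he, hf, zero_smul, zero_smul, zero_add, zero_add]
    · rw [hy, herm_smul_left, Φ.fe, mul_one] at he
      exact hv (by rw [hy, he, zero_smul])
    · rw [hx, herm_smul_left, Φ.ef, mul_one] at hf
      exact hv (by rw [hx, hf, zero_smul])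
    · have e := congrArg (fun z => hermForm 3 F q z Φ.f) (hx.symm.trans hy)
      simp only [herm_smul_left, Φ.ef, Φ.ff, mul_zero, mul_one] at e
      exact hv (by rw [hx, e, zero_smul])

end Cfsg.Agent.SUThree44Parabolic
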