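import Mathlib

/-!
Arithmetic for the overgroups of a cyclic torus of order `q² - q + 1` in `SU_3(q)`.
-/

set_option autoImplicit false
set_option linter.unusedVariables false

namespace Cfsg.Agent.SUThree44SingerArith

/-- The number `c = q² - q + 1 = d c'`, `d = gcd(3, q + 1)`. -/
def Param (q c c' d : ℕ) : Prop :=
  c + q = q ^ 2 + 1 ∧ c = d * c' ∧ ((d = 1 ∧ ¬ 3 ∣ q + 1) ∨ (d = 3 ∧ 3 ∣ q + 1))

theorem c_coprime_three {q c : ℕ} (hc : c + q = q ^ 2 + 1) (h3 : ¬ 3 ∣ q + 1) : ¬ 3 ∣ c := by
  intro h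
  have h1 : c % 3 = 0 := Nat.mod_eq_zero_of_dvd h
  have h2 : (q ^ 2 + 1) % 3 = q % 3 := by rw [← hc, Nat.add_mod, h1]; omega
  have h4 : q % 3 = 0 ∨ q % 3 = 1 := by omega
  have h5 : (q ^ 2 + 1) % 3 = ((q % 3) ^ 2 + 1) % 3 := by rw [Nat.add_mod, Nat.pow_mod]; omega
  rcases h4 with h4 | h4 <;> rw [h4] at h5 h2 <;> omega

/-- Overgroups whose `p`-part is at most `q`. -/
theorem small {q c c' d n m : ℕ} (hq4 : 4 ≤ q) (hq5 : q ≠ 5) (hP : Param q c c' d) (hn : 1 < n)
    (hmod : c' ∣ n - 1) (heq : 3 * n * m = q * ((q + 1) ^ 2 * (q - 1))) : False := by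
  obtain ⟨hc, hcd, hd⟩ := hP
  obtain ⟨k, hk⟩ := hmod
  have hk1 : 1 ≤ k := by
    rcases Nat.eq_zero_or_pos k with rfl | h
    · omega
    · exact h
  have hm1 : 1 ≤ m := by
    rcases Nat.eq_zero_or_pos m with rfl | h
    · have : 0 < q * ((q + 1) ^ 2 * (q - 1)) := by
        have : 0 < q - 1 := by omega
        positivity
      omega
    · exact h
  have hq1 : ((q - 1 : ℕ) : ℤ) = (q : ℤ) - 1 := by omega
  have hnk : (n : ℤ) = 1 + c' * k := by
    have : n = 1 + c' * k := by omega
    exact_mod_cast this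
  have hcz : (c : ℤ) = (q : ℤ) ^ 2 - q + 1 := by
    have : ((c + q : ℕ) : ℤ) = ((q ^ 2 + 1 : ℕ) : ℤ) := by rw [hc]
    push_cast at this
    linarith
  have heqz : 3 * (n : ℤ) * m = q * (((q : ℤ) + 1) ^ 2 * ((q : ℤ) - 1)) := by
    have := congrArg (fun x : ℕ => (x : ℤ)) heq
    simp only [Nat.cast_mul, Nat.cast_pow, Nat.cast_add, Nat.cast_one, hq1, Nat.cast_ofNat] at this
    exact this
  have hqz : (4 : ℤ) ≤ q := by exact_mod_cast hq4
  rcases hd with ⟨rfl, h3⟩ | ⟨rfl, h3⟩
  · rw [one_mul] at hcd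
    subst hcd
    have hdiv : (c : ℤ) ∣ 3 * ((m : ℤ) + q) := ⟨(q : ℤ) * (q + 2) - 3 * k * m, by
      rw [hnk] at heqz
      linear_combination heqz - (q : ℤ) * ((q : ℤ) + 2) * hcz⟩
    have hcop : IsCoprime (c : ℤ) 3 := by
      rw [Int.isCoprime_iff_gcd_eq_one]
      show Nat.gcd c 3 = 1
      exact ((Nat.Prime.coprime_iff_not_dvd Nat.prime_three).2 (c_coprime_three hc h3)).symm
    obtain ⟨j, hj⟩ := hcop.dvd_of_dvd_mul_left hdiv
    have hcpos : (0 : ℤ) < c := by rw [hcz]; nlinarith
    have hj1 : 1 ≤ j := by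
      by_contra hcon
      push Not at hcon
      have : (c : ℤ) * j ≤ 0 := mul_nonpos_of_nonneg_of_nonpos hcpos.le (by omega)
      omega
    have hm : (m : ℤ) = c * j - q := by omega
    rw [hnk, hm] at heqz
    have heq2 : 3 * ((k : ℤ) * j * c + j - k * q) = (q : ℤ) * (q + 2) := by
      apply mul_left_cancel₀ hcpos.ne'
      linear_combination heqz - (q : ℤ) * ((q : ℤ) + 2) * hcz
    have hkz : (1 : ℤ) ≤ k := by exact_mod_cast hk1
    have hkj : (k : ℤ) * (c - q) ≤ k * (j * c - q) := by
      apply mul_le_mul_of_nonneg_left _ (by omega)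
      nlinarith
    have hkc : (c : ℤ) - q ≤ k * (c - q) := by
      have : (0 : ℤ) ≤ c - q := by rw [hcz]; nlinarith
      nlinarith
    nlinarith
  · subst hcd
    have hc' : (3 : ℤ) * c' = (q : ℤ) ^ 2 - q + 1 := by push_cast at hcz; linarith
    have hdiv : (c' : ℤ) ∣ (m : ℤ) + q := ⟨(q : ℤ) * (q + 2) - k * m, by
      rw [hnk] at heqz
      refine mul_left_cancel₀ (three_ne_zero (α := ℤ)) ?_
      linear_combination heqz - (q : ℤ) * ((q : ℤ) + 2) * hc'⟩
    obtain ⟨j, hj⟩ := hdiv
    have hcpos : (0 : ℤ) < c' := by nlinarith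
    have hj1 : 1 ≤ j := by
      by_contra hcon
      push Not at hcon
      have : (c' : ℤ) * j ≤ 0 := mul_nonpos_of_nonneg_of_nonpos hcpos.le (by omega)
      omega
    have hm : (m : ℤ) = c' * j - q := by omega
    rw [hnk, hm] at heqz
    have heq2 : (k : ℤ) * j * ((q : ℤ) ^ 2 - q + 1) + 3 * j - 3 * k * q = 3 * (q * (q + 2)) := by
      apply mul_left_cancel₀ hcpos.ne'
      linear_combination heqz - ((q : ℤ) * ((q : ℤ) + 2) + k * j * c') * hc'
    have hkz : (1 : ℤ) ≤ k := by exact_mod_cast hk1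
    have hq8 : (8 : ℤ) ≤ q := by
      have hqz5 : q ≠ 4 := fun h => by subst h; norm_num at h3
      have : q ≠ 6 := fun h => by subst h; norm_num at h3
      have : q ≠ 7 := fun h => by subst h; norm_num at h3
      omega
    have hb : (0 : ℤ) ≤ (q : ℤ) ^ 2 - 4 * q + 1 := by nlinarith
    obtain hj5 | hj4 : 5 ≤ j ∨ j ≤ 4 := by omega
    · have e1 : (q : ℤ) ^ 2 * 5 - 5 * q + 5 - 3 * q ≤ j * ((q : ℤ) ^ 2 - q + 1) - 3 * q := by nlinarith
      have e2 : (j * ((q : ℤ) ^ 2 - q + 1) - 3 * q) * 1 ≤ (j * ((q : ℤ) ^ 2 - q + 1) - 3 * q) * k :=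
        mul_le_mul_of_nonneg_left hkz (by nlinarith)
      nlinarith
    · interval_cases j
      · obtain hk5 | hk4 : 5 ≤ (k : ℤ) ∨ (k : ℤ) ≤ 4 := by omega
        · have e2 : ((q : ℤ) ^ 2 - 4 * q + 1) * 5 ≤ ((q : ℤ) ^ 2 - 4 * q + 1) * k :=
            mul_le_mul_of_nonneg_left hk5 hb
          have hq12 : (q : ℤ) ≤ 12 := by nlinarith
          have hqn : q ≤ 12 := by exact_mod_cast hq12
          have hq8n : 8 ≤ q := by exact_mod_cast hq8
          interval_cases q <;> first | omega | (norm_num at heq2; omega) | (norm_num at h3)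
        · interval_cases hkk : (k : ℤ)
          · nlinarith
          · nlinarith
          · nlinarith
          · have h7 : (q : ℤ) ∣ 7 := ⟨22 - q, by linarith⟩
            have := Int.le_of_dvd (by norm_num) h7
            omega
      · obtain hk3 | hk2 : 3 ≤ (k : ℤ) ∨ (k : ℤ) ≤ 2 := by omega
        · have e2 : (2 * ((q : ℤ) ^ 2 - q + 1) - 3 * q) * 3 ≤ (2 * ((q : ℤ) ^ 2 - q + 1) - 3 * q) * k :=
            mul_le_mul_of_nonneg_left hk3 (by nlinarith)
          nlinarith
        · interval_cases hkk : (k : ℤ)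
          · nlinarith
          · have h7 : (q : ℤ) ∣ 10 := ⟨16 - q, by linarith⟩
            have := Int.le_of_dvd (by norm_num) h7
            nlinarith
      · obtain hk3 | hk2 : 2 ≤ (k : ℤ) ∨ (k : ℤ) ≤ 1 := by omega
        · have e2 : (3 * ((q : ℤ) ^ 2 - q + 1) - 3 * q) * 2 ≤ (3 * ((q : ℤ) ^ 2 - q + 1) - 3 * q) * k :=
            mul_le_mul_of_nonneg_left hk3 (by nlinarith)
          nlinarith
        · interval_cases hkk : (k : ℤ)
          nlinarith
      · obtain hk3 | hk2 : 2 ≤ (k : ℤ) ∨ (k : ℤ) ≤ 1 := by omega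
        · have e2 : (4 * ((q : ℤ) ^ 2 - q + 1) - 3 * q) * 2 ≤ (4 * ((q : ℤ) ^ 2 - q + 1) - 3 * q) * k :=
            mul_le_mul_of_nonneg_left hk3 (by nlinarith)
          nlinarith
        · interval_cases hkk : (k : ℤ)
          obtain h13 | h12 : (q : ℤ) ≤ 11 ∨ 12 ≤ (q : ℤ) := by omega
          · nlinarith
          · nlinarith

/-- A prime not dividing a number below. -/
theorem not_dvd_small {p a : ℕ} (hp : p.Prime) (h : p ∣ a) (h0 : 0 < a) : 2 ≤ a :=
  hp.two_le.trans (Nat.le_of_dvd h0 h)

/-- The orbit of the fixed point of a Sylow `p`-subgroup of order more than `q` is everything. -/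
theorem orbit_eq {q p f a c c' d D : ℕ} (hp : p.Prime) (hqp : q = p ^ f) (hf : 1 ≤ f) (hq4 : 4 ≤ q)
    (hq5 : q ≠ 5) (hP : Param q c c' d) (hc'D : c' ∣ D) (hD0 : 0 < D) (hDle : D ≤ q ^ 3 + 1)
    (hDG : D ∣ q ^ 3 * (q ^ 3 + 1) * (q ^ 2 - 1)) (hha : q < p ^ a) (hdvd : p ^ a ∣ D - 1) :
    D = q ^ 3 + 1 := by
  obtain ⟨hc, hcd, hd⟩ := hP
  obtain ⟨m, rfl⟩ := hc'D
  have hfa : f < a := by
    rw [hqp] at hha
    exact (Nat.pow_lt_pow_iff_right hp.one_lt).1 hha
  have hpq : p * q ∣ c' * m - 1 := by
    refine dvd_trans ?_ hdvd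
    rw [hqp, ← pow_succ']
    exact pow_dvd_pow p hfa
  have hcz : (c : ℤ) = (q : ℤ) ^ 2 - q + 1 := by
    have : ((c + q : ℕ) : ℤ) = ((q ^ 2 + 1 : ℕ) : ℤ) := by rw [hc]
    push_cast at this
    linarith
  have hpz : ((p : ℤ) * q) ∣ (c' : ℤ) * m - 1 := by
    have h := Int.natCast_dvd_natCast.2 hpq
    rwa [Nat.cast_sub (by omega : 1 ≤ c' * m), Nat.cast_mul, Nat.cast_mul, Nat.cast_one] at h
  have hDz : (c' : ℤ) * m ≤ (q : ℤ) ^ 3 + 1 := by exact_mod_cast hDle
  have hqz : (4 : ℤ) ≤ q := by exact_mod_cast hq4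
  have hm0 : 0 < m := Nat.pos_of_ne_zero (by rintro rfl; simp at hD0)
  have hq0 : (q : ℤ) ≠ 0 := by omega
  rcases hd with ⟨rfl, h3⟩ | ⟨rfl, h3⟩
  · rw [one_mul] at hcd
    subst hcd
    obtain ⟨t, ht⟩ := dvd_of_mul_left_dvd hpz
    set i : ℤ := t - (m : ℤ) * q + m with hi
    have hmi : (m : ℤ) = 1 + q * i := by rw [hi]; linear_combination ht - (m : ℤ) * hcz
    have hi0 : 0 ≤ i := by
      by_contra hcon
      push Not at hcon
      have : (q : ℤ) * i ≤ -q := by nlinarith
      omega
    have hi1 : i ≤ 1 := by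
      by_contra hcon
      push Not at hcon
      have hc2 : (c : ℤ) * m ≥ ((q : ℤ) ^ 2 - q + 1) * (1 + 2 * q) := by
        rw [hcz, hmi]
        exact mul_le_mul_of_nonneg_left (by nlinarith) (by nlinarith)
      nlinarith
    interval_cases i
    · exfalso
      rw [mul_zero, add_zero] at hmi
      have h1 : (p : ℤ) ∣ (q : ℤ) - 1 := by
        refine Int.dvd_of_mul_dvd_mul_left hq0 ?_
        rw [mul_comm (q : ℤ) p]
        refine hpz.trans (dvd_of_eq ?_)
        rw [hmi, hcz]; ring
      have h2 : (p : ℤ) ∣ (q : ℤ) := by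
        rw [hqp]; push_cast; exact dvd_pow_self _ (by omega)
      have h4 := Int.natCast_dvd_natCast.1 (by simpa using dvd_sub h2 h1 : ((p : ℕ) : ℤ) ∣ ((1 : ℕ) : ℤ))
      exact hp.one_lt.ne' (Nat.dvd_one.1 h4)
    · have : ((c * m : ℕ) : ℤ) = ((q ^ 3 + 1 : ℕ) : ℤ) := by push_cast; rw [hmi, hcz]; ring
      exact_mod_cast this
  · subst hcd
    have hc' : (3 : ℤ) * c' = (q : ℤ) ^ 2 - q + 1 := by push_cast at hcz; linarith
    have hpz3 : ((p : ℤ) * q) ∣ (m : ℤ) * ((q : ℤ) ^ 2 - q + 1) - 3 := by
      refine (hpz.mul_left 3).trans (dvd_of_eq ?_)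
      linear_combination (m : ℤ) * hc'
    obtain ⟨t, ht⟩ := dvd_of_mul_left_dvd hpz3
    set i : ℤ := t - (m : ℤ) * q + m with hi
    have hmi : (m : ℤ) = 3 + q * i := by rw [hi]; linear_combination ht
    have hq8 : (8 : ℤ) ≤ q := by
      have hqz5 : q ≠ 4 := fun h => by subst h; norm_num at h3
      have : q ≠ 6 := fun h => by subst h; norm_num at h3
      have : q ≠ 7 := fun h => by subst h; norm_num at h3
      omega
    have hi0 : 0 ≤ i := by
      by_contra hcon
      push Not at hcon
      have : (q : ℤ) * i ≤ -q := by nlinarith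
      omega
    have hi1 : i ≤ 3 := by
      by_contra hcon
      push Not at hcon
      have hc2 : (3 * c' : ℤ) * m ≥ ((q : ℤ) ^ 2 - q + 1) * (3 + 4 * q) := by
        rw [hc', hmi]
        exact mul_le_mul_of_nonneg_left (by nlinarith) (by nlinarith)
      nlinarith
    have hpq2 : (p : ℤ) ∣ (q : ℤ) := by
      rw [hqp]; push_cast; exact dvd_pow_self _ (by omega)
    have small : ∀ r : ℕ, 0 < r → (p : ℤ) ∣ (r : ℤ) → p ∣ r := fun r _ h => Int.natCast_dvd_natCast.1 h
    interval_cases i
    · exfalso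
      have h1 : (p : ℤ) ∣ 3 * ((q : ℤ) - 1) := by
        refine Int.dvd_of_mul_dvd_mul_left hq0 ?_
        rw [mul_comm (q : ℤ) p]
        refine hpz3.trans (dvd_of_eq ?_)
        rw [hmi]; ring
      have h2 : (p : ℤ) ∣ 3 := by
        have := dvd_sub (hpq2.mul_left 3) h1
        rwa [show 3 * (q : ℤ) - 3 * ((q : ℤ) - 1) = 3 by ring] at this
      have hp3 : p = 3 := (Nat.prime_dvd_prime_iff_eq hp Nat.prime_three).1 (small 3 (by omega) h2)
      subst hp3
      have hdq : 3 ∣ q := hqp ▸ dvd_pow_self 3 (by omega)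
      omega
    · exfalso
      have h1 : (p : ℤ) ∣ (q : ℤ) ^ 2 + 2 * q - 2 := by
        refine Int.dvd_of_mul_dvd_mul_left hq0 ?_
        rw [mul_comm (q : ℤ) p]
        refine hpz3.trans (dvd_of_eq ?_)
        rw [hmi]; ring
      have h2 : (p : ℤ) ∣ 2 := by
        have := dvd_sub (hpq2.mul_right ((q : ℤ) + 2)) h1
        rwa [show (q : ℤ) * ((q : ℤ) + 2) - ((q : ℤ) ^ 2 + 2 * q - 2) = 2 by ring] at this
      have hp2 : p = 2 := (Nat.prime_dvd_prime_iff_eq hp Nat.prime_two).1 (small 2 (by omega) h2)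
      have hmn : m = q + 3 := by
        have : (m : ℤ) = ((q + 3 : ℕ) : ℤ) := by push_cast; rw [hmi]; ring
        exact_mod_cast this
      subst hmn
      have hev : 2 ∣ q := by rw [hqp, hp2]; exact dvd_pow_self 2 (by omega)
      -- `q + 3` would divide three
      have hG : q ^ 3 * (q ^ 3 + 1) * (q ^ 2 - 1) = c' * (3 * (q ^ 3 * ((q + 1) * (q + 1) * (q - 1)))) := by
        have h1 : q ^ 2 - 1 = (q + 1) * (q - 1) := by rw [← Nat.sq_sub_sq, one_pow]
        have h2 : q ^ 3 + 1 = (q + 1) * (3 * c') := by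
          have : ((q ^ 3 + 1 : ℕ) : ℤ) = (((q + 1) * (3 * c') : ℕ) : ℤ) := by push_cast; rw [hc']; ring
          exact_mod_cast this
        rw [h1, h2]; ring
      rw [hG] at hDG
      have hD1 := Nat.dvd_of_mul_dvd_mul_left (Nat.pos_of_ne_zero fun h => by simp [h] at hD0) hDG
      have ho : Nat.Coprime (q + 3) 2 := (Nat.Prime.coprime_iff_not_dvd Nat.prime_two).2 (by omega) |>.symm
      have c1 : Nat.Coprime (q + 3) (q + 1) := by
        rw [show q + 3 = 2 + (q + 1) by ring, Nat.coprime_add_self_left]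
        exact (Nat.Prime.coprime_iff_not_dvd Nat.prime_two).2 (by omega)
      have c2 : Nat.Coprime (q + 3) (q - 1) := by
        rw [show q + 3 = 4 + (q - 1) by omega, Nat.coprime_add_self_left]
        exact Nat.Coprime.pow_left 2 ((Nat.Prime.coprime_iff_not_dvd Nat.prime_two).2 (by omega))
      have c3 : Nat.Coprime (q + 3) (q ^ 3) := by
        rw [hqp, hp2, ← pow_mul]
        rw [← hp2, ← hqp, hp2]
        exact Nat.Coprime.pow_right _ ho
      have h4 := Nat.Coprime.dvd_of_dvd_mul_right (c3.mul_right ((c1.mul_right c1).mul_right c2)) hD1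
      have := Nat.le_of_dvd (by norm_num) h4
      omega
    · exfalso
      have h1 : (p : ℤ) ∣ 2 * (q : ℤ) ^ 2 + q - 1 := by
        refine Int.dvd_of_mul_dvd_mul_left hq0 ?_
        rw [mul_comm (q : ℤ) p]
        refine hpz3.trans (dvd_of_eq ?_)
        rw [hmi]; ring
      have h2 : (p : ℤ) ∣ 1 := by
        have := dvd_sub (hpq2.mul_right (2 * (q : ℤ) + 1)) h1
        rwa [show (q : ℤ) * (2 * (q : ℤ) + 1) - (2 * (q : ℤ) ^ 2 + q - 1) = 1 by ring] at this
      exact hp.one_lt.ne' (Nat.dvd_one.1 (small 1 (by omega) h2))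
    · have : ((c' * m : ℕ) : ℤ) = ((q ^ 3 + 1 : ℕ) : ℤ) := by
        push_cast
        rw [hmi]
        linear_combination ((q : ℤ) + 1) * hc'
      exact_mod_cast this

/-- A multiple of `c` below `2 c`. -/
theorem one_time {c N : ℤ} (h : c ∣ N) (h0 : 0 < N) (h2 : N < 2 * c) : N = c := by
  obtain ⟨t, rfl⟩ := h
  rcases le_or_gt t 0 with ht | ht
  · nlinarith
  rcases eq_or_lt_of_le (show (1 : ℤ) ≤ t by omega) with rfl | ht1
  · rw [mul_one]
  · nlinarith

/-- A multiple of `c` below `3 c`. -/
theorem two_times {c N : ℤ} (h : c ∣ N) (h0 : 0 < N) (h2 : N < 3 * c) : N = c ∨ N = 2 * c := by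
  obtain ⟨t, rfl⟩ := h
  rcases le_or_gt t 0 with ht | ht
  · nlinarith
  rcases eq_or_lt_of_le (show (1 : ℤ) ≤ t by omega) with rfl | ht1
  · exact Or.inl (mul_one _)
  rcases eq_or_lt_of_le (show (2 : ℤ) ≤ t by omega) with rfl | ht2
  · exact Or.inr (mul_comm _ _)
  · nlinarith

/-- A divisor congruent to `i` modulo `q - 1`. -/
theorem dvd_succ {q G i T : ℤ} (hG : G ∣ q ^ 2 - 1) (he : G = i + (q - 1) * T) : G ∣ i * (q + 1) := by
  obtain ⟨u, hu⟩ := hG
  exact ⟨(q + 1) - T * u, by linear_combination (-(q + 1)) * he - T * hu⟩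

/-- The point stabiliser of a transitive overgroup. -/
theorem stab {q p f a c c' d g : ℕ} (hp : p.Prime) (hqp : q = p ^ f) (hf : 1 ≤ f) (hq4 : 4 ≤ q) (hq5 : q ≠ 5)
    (hP : Param q c c' d) (hfa : f < a) (ha3 : a ≤ 3 * f) (hg0 : 0 < g) (hg : g * d ∣ q ^ 2 - 1)
    (hsum : c' ∣ g + p ^ a) :
    (a = 3 * f ∧ g = 1) ∨ (q = 4 ∧ p ^ a = 8 ∧ g = 5) ∨ (q = 8 ∧ p ^ a = 16 ∧ g = 3) := by
  obtain ⟨hc, hcd, hd⟩ := hP
  have hd0 : 0 < d := by rcases hd with ⟨rfl, -⟩ | ⟨rfl, -⟩ <;> norm_num
  have hcz : (c : ℤ) = (q : ℤ) ^ 2 - q + 1 := by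
    have : ((c + q : ℕ) : ℤ) = ((q ^ 2 + 1 : ℕ) : ℤ) := by rw [hc]
    push_cast at this
    linarith
  have hqz : (4 : ℤ) ≤ q := by exact_mod_cast hq4
  set G : ℤ := ((g * d : ℕ) : ℤ) with hGdef
  have hG0 : 0 < G := by rw [hGdef]; exact_mod_cast Nat.mul_pos hg0 hd0
  have hGdvd : G ∣ (q : ℤ) ^ 2 - 1 := by
    have h := Int.natCast_dvd_natCast.2 hg
    rwa [Nat.cast_sub (Nat.one_le_pow _ _ (by omega)), Nat.cast_pow, Nat.cast_one, ← hGdef] at h
  have hGle : G ≤ (q : ℤ) ^ 2 - 1 := Int.le_of_dvd (by nlinarith) hGdvd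
  have hsumz : (c : ℤ) ∣ G + d * (p : ℤ) ^ a := by
    obtain ⟨t, ht⟩ := hsum
    refine ⟨t, ?_⟩
    have : ((g + p ^ a : ℕ) : ℤ) = ((c' * t : ℕ) : ℤ) := by rw [ht]
    push_cast at this
    rw [hGdef, hcd]
    push_cast
    linear_combination (d : ℤ) * this
  obtain ⟨b, rfl⟩ : ∃ b, a = f + b := ⟨a - f, by omega⟩
  rcases lt_or_ge b f with hbf | hbf
  · -- `h = q h₁` with `h₁ < q`
    set h1 : ℕ := p ^ b with hh1
    have hh1q : p * h1 ≤ q := by rw [hh1, hqp, ← pow_succ']; exact Nat.pow_le_pow_right hp.pos hbf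
    have hh1p : p ≤ h1 := by rw [hh1]; exact Nat.le_self_pow (by omega) p
    have hsplit : (p : ℤ) ^ (f + b) = q * h1 := by rw [hh1, hqp, pow_add]; push_cast; ring
    rw [hsplit] at hsumz
    have hh1z : 2 * (h1 : ℤ) ≤ q := by
      have : 2 * h1 ≤ q := (Nat.mul_le_mul_right _ hp.two_le).trans hh1q
      exact_mod_cast this
    have hh2 : (2 : ℤ) ≤ h1 := by exact_mod_cast hp.two_le.trans hh1p
    rcases hd with ⟨rfl, h3⟩ | ⟨rfl, h3⟩
    · rw [Nat.cast_one, one_mul] at hsumz
      have hN : G + (q : ℤ) * h1 < 2 * c := by rw [hcz]; nlinarith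
      have he := one_time hsumz (by nlinarith) hN
      obtain ⟨r, hr⟩ := hGdvd
      have hr0 : 0 < r := by
        by_contra hcon
        push Not at hcon
        nlinarith
      have hr4 : r ≤ 3 := by
        by_contra hcon
        push Not at hcon
        have : G * 4 ≤ G * r := mul_le_mul_of_nonneg_left (by omega) hG0.le
        nlinarith
      interval_cases r
      · exfalso; nlinarith
      · exfalso
        have h5 : (q : ℤ) * (2 * h1) = q * (q - 2) + 3 := by
          rw [hcz] at he; linear_combination 2 * he + hr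
        have h6 : (q : ℤ) ∣ 3 := ⟨2 * h1 - (q - 2), by linear_combination -h5⟩
        have := Int.le_of_dvd (by norm_num) h6
        omega
      · have h5 : (q : ℤ) * (3 * h1) = q * (2 * q - 3) + 4 := by
          rw [hcz] at he; linear_combination 3 * he + hr
        have h6 : (q : ℤ) ∣ 4 := ⟨3 * h1 - (2 * q - 3), by linear_combination -h5⟩
        have hq4' : (q : ℤ) = 4 := le_antisymm (Int.le_of_dvd (by norm_num) h6) hqz
        have hh : (h1 : ℤ) = 2 := by rw [hq4'] at h5; omega
        have hqq : q = 4 := by exact_mod_cast hq4'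
        have hhh : h1 = 2 := by exact_mod_cast hh
        refine Or.inr (Or.inl ⟨hqq, ?_, ?_⟩)
        · (rw [pow_add, ← hqp, ← hh1, hqq, hhh]) <;> norm_num
        · rw [hcz, hq4', hh] at he
          have : G = 5 := by omega
          rw [hGdef] at this
          omega
    · have hq8 : (8 : ℤ) ≤ q := by
        have hqz5 : q ≠ 4 := fun h => by subst h; norm_num at h3
        have : q ≠ 6 := fun h => by subst h; norm_num at h3
        have : q ≠ 7 := fun h => by subst h; norm_num at h3
        omega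
      have hp3 : p ≠ 3 := fun h => by
        have : 3 ∣ q := by rw [hqp, h]; exact dvd_pow_self 3 (by omega)
        omega
      push_cast at hsumz
      have hN : G + 3 * ((q : ℤ) * h1) < 3 * c := by rw [hcz]; nlinarith
      obtain ⟨r, hr⟩ := hGdvd
      have hpq : (p : ℤ) ∣ q := by rw [hqp]; push_cast; exact dvd_pow_self _ (by omega)
      have hph : (p : ℤ) ∣ h1 := by rw [hh1]; push_cast; exact dvd_pow_self _ (by omega)
      have key : ∀ i : ℤ, 0 < i → i ≤ 2 → G + 3 * ((q : ℤ) * h1) = i * c → q = 8 ∧ h1 = 2 ∧ G = 9 := by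
        intro i hi0 hi2 he
        set t := i * ((q : ℤ) - 1) - 3 * h1 with ht
        have hGi : G = i + q * t := by rw [ht]; rw [hcz] at he; linear_combination he
        have hri : (q : ℤ) ∣ r * i + 1 := ⟨q - t * r, by rw [hGi] at hr; linear_combination -hr⟩
        have hr0 : 0 < r := by
          by_contra hcon
          push Not at hcon
          nlinarith
        have hrq := Int.le_of_dvd (by nlinarith) hri
        have hr2 : (q : ℤ) - 1 ≤ 2 * r := by nlinarith
        have hG2 : G * ((q : ℤ) - 1) ≤ (2 * ((q : ℤ) + 1)) * ((q : ℤ) - 1) := by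
          have := mul_le_mul_of_nonneg_left hr2 hG0.le
          nlinarith
        have hG3 := le_of_mul_le_mul_right hG2 (by omega)
        have ht0 : 0 ≤ t := by
          by_contra hcon
          push Not at hcon
          have : (q : ℤ) * t ≤ -q := by nlinarith
          omega
        have ht2 : t ≤ 2 := by
          by_contra hcon
          push Not at hcon
          have : (q : ℤ) * 3 ≤ q * t := mul_le_mul_of_nonneg_left (by omega) (by omega)
          omega
        have hpt : (p : ℤ) ∣ t + i := by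
          have := dvd_sub (hpq.mul_left i) (hph.mul_left 3)
          rwa [show i * (q : ℤ) - 3 * h1 = t + i by rw [ht]; ring] at this
        obtain ⟨tn, htn⟩ := Int.eq_ofNat_of_zero_le ht0
        obtain ⟨iN, rfl⟩ := Int.eq_ofNat_of_zero_le hi0.le
        rw [htn] at hpt ht ht0 ht2 hGi
        have hptn : p ∣ tn + iN := Int.natCast_dvd_natCast.1 (by exact_mod_cast hpt)
        have hp2 : p = 2 := by
          have hle : p ≤ 4 := (Nat.le_of_dvd (by omega) hptn).trans (by omega)
          have := hp.two_le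
          interval_cases p
          · rfl
          · exact absurd rfl hp3
          · exact absurd hp (by norm_num)
        have h4q : 4 ∣ q := by
          rw [hqp, hp2]
          exact Dvd.dvd.trans (by norm_num) (pow_dvd_pow 2 (show 2 ≤ f by
            by_contra hcon
            push Not at hcon
            interval_cases f
            rw [hp2] at hqp; omega))
        have h4h : h1 = 2 ∨ 4 ∣ h1 := by
          rw [hh1, hp2]
          rcases Nat.lt_or_ge b 2 with hb | hb
          · left
            have : b = 1 := by omega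
            subst this; rfl
          · right
            exact Dvd.dvd.trans (by norm_num) (pow_dvd_pow 2 hb)
        subst hp2
        have hodd : G % 2 = 1 := by
          by_contra hev
          obtain ⟨s, hs⟩ : (2 : ℤ) ∣ G := by omega
          obtain ⟨u, hu⟩ : (2 : ℤ) ∣ q := by exact_mod_cast hpq
          have : 2 * (2 * (u * u)) - 1 = 2 * (s * r) := by rw [hu, hs] at hr; linear_combination hr
          omega
        have hiN : iN = 1 ∨ iN = 2 := by omega
        have htn3 : tn ≤ 2 := by omega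
        rcases hiN with rfl | rfl <;> interval_cases tn <;> omega
      rcases two_times hsumz (by nlinarith) hN with he | he
      · obtain ⟨hqq, hhh, hG9⟩ := key 1 one_pos one_le_two (by rw [he, one_mul])
        refine Or.inr (Or.inr ⟨hqq, ?_, ?_⟩)
        · (rw [pow_add, ← hqp, ← hh1, hqq, hhh]) <;> norm_num
        · rw [hGdef] at hG9; omega
      · obtain ⟨hqq, hhh, hG9⟩ := key 2 two_pos le_rfl he
        refine Or.inr (Or.inr ⟨hqq, ?_, ?_⟩)
        · (rw [pow_add, ← hqp, ← hh1, hqq, hhh]) <;> norm_num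
        · rw [hGdef] at hG9; omega
  · -- `h = q² h₂`
    obtain ⟨e, rfl⟩ : ∃ e, b = f + e := ⟨b - f, by omega⟩
    set h2 : ℕ := p ^ e with hh2
    have hsplit : (p : ℤ) ^ (f + (f + e)) = q ^ 2 * h2 := by rw [hh2, hqp, pow_add, pow_add]; push_cast; ring
    rw [hsplit] at hsumz
    have hred : (c : ℤ) ∣ G + d * (((q : ℤ) - 1) * h2) := by
      have := dvd_sub hsumz (dvd_mul_right (c : ℤ) (d * h2))
      refine this.trans (dvd_of_eq ?_)
      rw [hcz]; ring
    have hh1 : (1 : ℤ) ≤ h2 := by exact_mod_cast Nat.one_le_pow _ _ hp.pos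
    rcases eq_or_lt_of_le (show e ≤ f by omega) with hef | hef
    · have hh2q : (h2 : ℤ) = q := by rw [hh2, hef, ← hqp]
      rw [hh2q] at hred
      have h5 : (c : ℤ) ∣ G - d := by
        have := dvd_sub hred (dvd_mul_left (c : ℤ) (d : ℤ))
        refine this.trans (dvd_of_eq ?_)
        rw [hcz]; ring
      left
      refine ⟨by omega, ?_⟩
      rcases hd with ⟨rfl, h3⟩ | ⟨rfl, h3⟩
      · rcases eq_or_ne G 1 with h1 | h1
        · rw [hGdef] at h1; omega
        exfalso
        have he := one_time h5 (by push_cast; omega) (by push_cast; rw [hcz]; nlinarith)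
        obtain ⟨r, hr⟩ := hGdvd
        have hr0 : 0 < r := by
          by_contra hcon
          push Not at hcon
          nlinarith
        have hr1 : r = 1 := by
          by_contra hcon
          have : G * 2 ≤ G * r := mul_le_mul_of_nonneg_left (by omega) hG0.le
          push_cast at he
          rw [hcz] at he
          nlinarith
        subst hr1
        push_cast at he
        rw [hcz] at he
        nlinarith
      · rcases eq_or_ne G 3 with h1 | h1
        · rw [hGdef] at h1; omega
        exfalso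
        have hG3 : 3 < G := by
          rw [hGdef] at h1 ⊢
          omega
        have he := one_time h5 (by push_cast; omega) (by push_cast; rw [hcz]; nlinarith)
        obtain ⟨r, hr⟩ := hGdvd
        have hr0 : 0 < r := by
          by_contra hcon
          push Not at hcon
          nlinarith
        have hr1 : r = 1 := by
          by_contra hcon
          have : G * 2 ≤ G * r := mul_le_mul_of_nonneg_left (by omega) hG0.le
          push_cast at he
          rw [hcz] at he
          nlinarith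
        subst hr1
        push_cast at he
        rw [hcz] at he
        omega
    · have hh2q : p * h2 ≤ q := by rw [hh2, hqp, ← pow_succ']; exact Nat.pow_le_pow_right hp.pos hef
      have hh2z : 2 * (h2 : ℤ) ≤ q := by
        have : 2 * h2 ≤ q := (Nat.mul_le_mul_right _ hp.two_le).trans hh2q
        exact_mod_cast this
      exfalso
      rcases hd with ⟨rfl, h3⟩ | ⟨rfl, h3⟩
      · rw [Nat.cast_one, one_mul] at hred
        have he := one_time hred (by nlinarith) (by rw [hcz]; nlinarith)
        have hT : G = 1 + ((q : ℤ) - 1) * (q - h2) := by rw [hcz] at he; linear_combination he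
        have h6 := Int.le_of_dvd (by omega) (dvd_succ hGdvd hT)
        nlinarith
      · have hq8 : (8 : ℤ) ≤ q := by
          have hqz5 : q ≠ 4 := fun h => by subst h; norm_num at h3
          have : q ≠ 6 := fun h => by subst h; norm_num at h3
          have : q ≠ 7 := fun h => by subst h; norm_num at h3
          omega
        have hp3 : p ≠ 3 := fun h => by
          have : 3 ∣ q := by rw [hqp, h]; exact dvd_pow_self 3 (by omega)
          omega
        push_cast at hred
        have key : ∀ i : ℤ, 0 < i → i ≤ 2 → G + 3 * (((q : ℤ) - 1) * h2) = i * c → False := by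
          intro i hi0 hi2 he
          set T := i * (q : ℤ) - 3 * h2 with hTdef
          have hT : G = i + ((q : ℤ) - 1) * T := by rw [hTdef]; rw [hcz] at he; linear_combination he
          have hdv := dvd_succ hGdvd hT
          have h6 : G ≤ i * ((q : ℤ) + 1) := Int.le_of_dvd (by positivity) hdv
          have hT0 : 0 ≤ T := by
            by_contra hcon
            push Not at hcon
            nlinarith
          have hT2 : T ≤ 2 := by
            by_contra hcon
            push Not at hcon
            have : ((q : ℤ) - 1) * 3 ≤ ((q : ℤ) - 1) * T := mul_le_mul_of_nonneg_left (by omega) (by omega)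
            nlinarith
          rcases eq_or_ne T 0 with h0 | h0
          · rw [h0, mul_zero, add_zero] at hT
            have : (3 : ℤ) ∣ G := by rw [hGdef]; push_cast; exact dvd_mul_left 3 _
            omega
          rcases Nat.eq_zero_or_pos e with he0 | he0
          · have : (h2 : ℤ) = 1 := by rw [hh2, he0, pow_zero]; rfl
            rw [this] at hTdef
            nlinarith
          have hpT : (p : ℤ) ∣ T := by
            have hpq : (p : ℤ) ∣ q := by rw [hqp]; push_cast; exact dvd_pow_self _ (by omega)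
            have hph : (p : ℤ) ∣ h2 := by rw [hh2]; push_cast; exact dvd_pow_self _ (by omega)
            exact dvd_sub (hpq.mul_left i) (hph.mul_left 3)
          have hp2 : p = 2 := by
            have h7 := Int.le_of_dvd (by omega) hpT
            have := hp.two_le
            omega
          subst hp2
          have h4q : 4 ∣ q := by
            rw [hqp]
            exact Dvd.dvd.trans (by norm_num) (pow_dvd_pow 2 (show 2 ≤ f by omega))
          rcases Nat.lt_or_ge e 2 with he2 | he2
          · have : (h2 : ℤ) = 2 := by rw [hh2, show e = 1 by omega, pow_one]; rfl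
            rw [this] at hTdef
            have hi : i = 1 ∨ i = 2 := by omega
            rcases hi with rfl | rfl
            · have hqe : (q : ℤ) = 8 := by omega
              rw [hqe] at hGdvd hT
              have : T = 2 := by omega
              rw [this] at hT
              rw [hT] at hGdvd
              norm_num at hGdvd
            · omega
          · have h4h : 4 ∣ h2 := by rw [hh2]; exact Dvd.dvd.trans (by norm_num) (pow_dvd_pow 2 he2)
            have hi : i = 1 ∨ i = 2 := by omega
            rcases hi with rfl | rfl <;> omega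
        rcases two_times hred (by nlinarith) (by rw [hcz]; nlinarith) with he | he
        · exact key 1 one_pos one_le_two (by rw [he, one_mul])
        · exact key 2 two_pos le_rfl he

end Cfsg.Agent.SUThree44SingerArith
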