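import Cfsg.Agent.Lib.SUThree44Base
import Cfsg.Agent.Lib.SUThree44Field
import Cfsg.Agent.Lib.SUThree44SingerArith

/-!
The normalisers of adjoint-closed cubic fields are maximal in `SU_3(q)`, `q ≠ 3, 5`.
-/

set_option autoImplicit false
set_option linter.unusedSectionVars false
set_option linter.unusedVariables false
set_option linter.style.haveILetI false
set_option maxHeartbeats 1000000

namespace Cfsg.Agent.SUThree44Singer

open Cfsg Cfsg.Agent.OrthUnitaryHerm Cfsg.Agent.OrthUnitaryTransvection Cfsg.Agent.OrthUnitaryMaximal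
open Cfsg.Agent.MinIndexPSU3Geo89 Cfsg.Agent.MinIndexPSU3Stab89 Cfsg.Agent.MinIndexPSU3Orbit89
open Cfsg.Agent.SUThree44Field Cfsg.Agent.SUThree44SingerArith
open scoped Matrix Classical

variable {F : Type*} [Field F] [Fintype F] {q : ℕ}

local notation "GS" => SU 3 F q
local notation "hh" => hermForm 3 F q

/-- A subgroup acting freely on an orbit. -/
theorem free_all {Γ X : Type*} [Group Γ] [MulAction Γ X] [Finite X] (M A : Subgroup Γ) (hAM : A ≤ M)
    (x0 : X) (hfree : ∀ a ∈ A, ∀ g ∈ M, a • (g • x0) = g • x0 → a = 1) :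
    Nat.card A ∣ Nat.card (MulAction.orbit M x0) := by
  letI : MulAction A (MulAction.orbit M x0) := MulAction.compHom _ (Subgroup.inclusion hAM)
  refine DicksonLine.dvd_card_of_free fun a z hz => ?_
  obtain ⟨g, hg⟩ := z.2
  have h : (a : Γ) • z.1 = z.1 := congrArg Subtype.val hz
  rw [← hg] at h
  exact Subtype.ext (hfree a a.2 g g.2 h)

/-- A subgroup fixing the base point and acting freely on the rest of an orbit. -/
theorem free_rest {Γ X : Type*} [Group Γ] [MulAction Γ X] [Finite X] (M A : Subgroup Γ) (hAM : A ≤ M)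
    (x0 : X) (hfix : ∀ a ∈ A, a • x0 = x0)
    (hfree : ∀ a ∈ A, ∀ g ∈ M, a • (g • x0) = g • x0 → g • x0 ≠ x0 → a = 1) :
    Nat.card A ∣ Nat.card (MulAction.orbit M x0) - 1 := by
  set O := MulAction.orbit M x0
  let Y := {z : O // (z : X) ≠ x0}
  letI : MulAction A Y :=
    { smul := fun a z => ⟨⟨a.1 • z.1.1, by
          obtain ⟨g, hg⟩ := z.1.2
          exact ⟨⟨a.1 * g, mul_mem (hAM a.2) g.2⟩, by rw [← hg]; exact mul_smul a.1 (g : Γ) x0⟩⟩, fun e => z.2 (by
          have e' : a.1 • z.1.1 = a.1 • x0 := by rw [hfix a a.2]; exact e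
          exact MulAction.injective _ e')⟩
      one_smul := fun z => Subtype.ext (Subtype.ext (one_smul _ _))
      mul_smul := fun a b z => Subtype.ext (Subtype.ext (mul_smul a.1 b.1 z.1.1)) }
  have hY : Nat.card Y = Nat.card O - 1 := by
    haveI : Fintype O := Fintype.ofFinite _
    rw [Nat.card_eq_fintype_card, Nat.card_eq_fintype_card]
    have : Fintype.card Y = Fintype.card {z : O // z ≠ ⟨x0, MulAction.mem_orbit_self _⟩} :=
      Fintype.card_congr (Equiv.subtypeEquivRight fun z =>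
        ⟨fun h e => h (congrArg Subtype.val e), fun h e => h (Subtype.ext e)⟩)
    rw [this, Fintype.card_subtype_compl, Fintype.card_subtype_eq]
  rw [← hY]
  refine DicksonLine.dvd_card_of_free fun a z hz => ?_
  obtain ⟨g, hg⟩ := z.1.2
  have h : (a : Γ) • z.1.1 = z.1.1 := congrArg (fun w : Y => w.1.1) hz
  have h2 := z.2
  rw [← hg] at h h2
  exact Subtype.ext (hfree a a.2 g g.2 h h2)

/-- The size of an orbit. -/
theorem orbit_mul {Γ X : Type*} [Group Γ] [MulAction Γ X] (M : Subgroup Γ) (x0 : X) :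
    Nat.card (MulAction.orbit M x0) * Nat.card (M ⊓ MulAction.stabilizer Γ x0 : Subgroup Γ) = Nat.card M := by
  have e : Nat.card (M ⊓ MulAction.stabilizer Γ x0 : Subgroup Γ) = Nat.card (MulAction.stabilizer M x0) :=
    Nat.card_congr ⟨fun g => ⟨⟨g.1, g.2.1⟩, g.2.2⟩, fun g => ⟨g.1.1, g.1.2, g.2⟩, fun g => rfl, fun g => rfl⟩
  rw [e, Nat.card_coe_set_eq, ← MulAction.index_stabilizer, Subgroup.index_mul_card]

/-- Conjugation by an element with suitable eigenvalue has no fixed points in `P`. -/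
theorem no_fix (hF : Fintype.card F = q ^ 2) (Φ : Frame q F) {y x : GS} {b : F} (hb : b ≠ 0)
    (hy : act y Φ.e = b • Φ.e) (h1 : b ^ (q + 1) ≠ 1) (h2 : b ^ 2 ≠ b ^ q) (hx : x ∈ Φ.P)
    (he : y * x * y⁻¹ = x) : x = 1 := by
  have e1 := phi_conj hF Φ hb hy hx
  rw [he] at e1
  have hphi : phi Φ x = 0 := by
    by_contra h0
    refine h2 ?_
    have : b ^ 2 / b ^ q = 1 := mul_right_cancel₀ h0 (by rw [one_mul]; exact e1.symm)
    exact (div_eq_one_iff_eq (pow_ne_zero _ hb)).1 this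
  have e2 := mu_conj hF Φ hb hy hx hphi
  rw [he] at e2
  have hmu : mu Φ x = 0 := by
    by_contra h0
    exact h1 (mul_right_cancel₀ h0 (by rw [one_mul]; exact e2.symm))
  exact eq_of_phi_mu hF Φ hx Φ.P.one_mem (by rw [hphi, phi_one]) (by rw [hmu, mu_one])

variable {K : Subalgebra F (Matrix (Fin 3) (Fin 3) F)} (hK : Cfsg.Geo.IsFieldSubalgebra 3 K)
variable (hF : Fintype.card F = q ^ 2) (hadj : Cfsg.Geo.IsAdjointClosedFor (hermForm 3 F q) K)

include hK hF hadj in
theorem card_normal (hq : 4 ≤ q) {c c' d : ℕ} (hP : Param q c c' d) (hc1 : c' ≠ 1) :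
    Nat.card (normal (q := q) K) = 3 * c := by
  obtain ⟨hc, hcd, hd⟩ := hP
  set C := torus (q := q) hK with hC
  have hcard : Nat.card C = c := card_torus hK hF hadj hc
  have hle : C ≤ normal K := torus_le hK
  have hmul : C.relIndex (normal K) * c = Nat.card (normal (q := q) K) := by
    rw [← hcard, ← Nat.card_congr (Subgroup.subgroupOfEquivOfLe hle).toEquiv]
    exact Subgroup.index_mul_card _
  rcases (Nat.dvd_prime Nat.prime_three).1 (relIndex_torus (q := q) hK) with h1 | h3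
  swap
  · rw [← hmul, h3]
  exfalso
  have hHC : normal K ≤ C := Subgroup.relIndex_eq_one.1 h1
  obtain ⟨r, hr, hrc'⟩ := Nat.exists_prime_and_dvd hc1
  have hrc : r ∣ c := hcd ▸ Dvd.dvd.mul_left hrc' d
  have hq1 : (c : ℤ) = (q : ℤ) ^ 2 - q + 1 := by
    have : ((c + q : ℕ) : ℤ) = ((q ^ 2 + 1 : ℕ) : ℤ) := by rw [hc]
    push_cast at this; linarith
  have hrz : (r : ℤ) ∣ (c : ℤ) := Int.natCast_dvd_natCast.2 hrc
  have hr1 : ¬ (r : ℤ) ∣ 1 := fun h =>
    hr.one_lt.ne' (Nat.dvd_one.1 (Int.natCast_dvd_natCast.1 (by simpa using h)))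
  have hr3 : r ≠ 3 := by
    rintro rfl
    rcases hd with ⟨rfl, h⟩ | ⟨rfl, h⟩
    · exact c_coprime_three hc h hrc
    · obtain ⟨u, hu⟩ := h
      obtain ⟨w, hw⟩ := hrc'
      have : q = 3 * u - 1 := by omega
      have hu1 : (q : ℤ) = 3 * u - 1 := by omega
      have hc9 : (c : ℤ) = 9 * w := by rw [hcd, hw]; push_cast; ring
      rw [hq1, hu1] at hc9
      have : (9 : ℤ) * ((u : ℤ) * u - u - w) = -3 := by linear_combination hc9
      omega
  have hrq : ¬ r ∣ q := fun h => by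
    have hz : (r : ℤ) ∣ (q : ℤ) := Int.natCast_dvd_natCast.2 h
    refine hr1 ?_
    have := dvd_sub hrz (hz.mul_right ((q : ℤ) - 1))
    rwa [hq1, show (q : ℤ) ^ 2 - q + 1 - q * (q - 1) = 1 by ring] at this
  have hrq1 : ¬ r ∣ q + 1 := fun h => by
    have hz : (r : ℤ) ∣ (q : ℤ) + 1 := by exact_mod_cast Int.natCast_dvd_natCast.2 h
    have := dvd_sub hrz (hz.mul_right ((q : ℤ) - 2))
    rw [hq1, show (q : ℤ) ^ 2 - q + 1 - (q + 1) * (q - 2) = 3 by ring] at this
    exact hr3 ((Nat.prime_dvd_prime_iff_eq hr Nat.prime_three).1 (Int.natCast_dvd_natCast.1 this))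
  have hrq2 : ¬ r ∣ q - 1 := fun h => by
    have hz : (r : ℤ) ∣ (q : ℤ) - 1 := by
      have := Int.natCast_dvd_natCast.2 h
      rwa [Nat.cast_sub (by omega), Nat.cast_one] at this
    refine hr1 ?_
    have := dvd_sub hrz (hz.mul_right (q : ℤ))
    rwa [hq1, show (q : ℤ) ^ 2 - q + 1 - (q - 1) * q = 1 by ring] at this
  haveI : Fact r.Prime := ⟨hr⟩
  set U := q ^ 3 * ((q + 1) * ((q + 1) * (q - 1))) with hU
  have hG : Nat.card GS = U * c := by
    rw [card_SU_eq hF, hU]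
    have h1 : q ^ 2 - 1 = (q + 1) * (q - 1) := by rw [← Nat.sq_sub_sq, one_pow]
    have h2 : q ^ 3 + 1 = (q + 1) * c := by
      zify; rw [hq1]; ring
    rw [h1, h2]; ring
  have hrU : ¬ r ∣ U := fun h => by
    rcases hr.dvd_mul.1 h with h | h
    · exact hrq (hr.dvd_of_dvd_pow h)
    rcases hr.dvd_mul.1 h with h | h
    · exact hrq1 h
    rcases hr.dvd_mul.1 h with h | h
    · exact hrq1 h
    · exact hrq2 h
  have hU0 : U ≠ 0 := fun h => hrU (h ▸ dvd_zero r)
  have hc0 : c ≠ 0 := fun h => by rw [h] at hcard; exact Nat.card_pos.ne' hcard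
  obtain ⟨R0⟩ : Nonempty (Sylow r C) := inferInstance
  let R' : Subgroup GS := (R0 : Subgroup C).map C.subtype
  have hR'card : Nat.card R' = r ^ (Nat.card GS).factorization r := by
    rw [Subgroup.card_subtype, Sylow.card_eq_multiplicity, hcard, hG,
      Nat.factorization_mul hU0 hc0, Finsupp.add_apply, Nat.factorization_eq_zero_of_not_dvd hrU, zero_add]
  let P : Sylow r GS := Sylow.ofCard R' hR'card
  have hPC : (P : Subgroup GS) ≤ C := by
    intro x hx
    obtain ⟨y, -, rfl⟩ := (Sylow.coe_ofCard R' hR'card ▸ hx : x ∈ R')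
    exact y.2
  have hPne : (P : Subgroup GS) ≠ ⊥ :=
    P.ne_bot_of_dvd_card (hG ▸ Dvd.dvd.mul_left hrc U)
  obtain ⟨x, hxP, hx1⟩ := ((P : Subgroup GS).bot_or_exists_ne_one).resolve_left hPne
  have hns : ∀ a : F, mat x ≠ a • 1 := by
    intro a ha
    apply hx1
    obtain ⟨i, hi⟩ := P.2 ⟨x, hxP⟩
    have hx3 : x ^ 3 = 1 := mat_inj (by
      rw [mat_pow, ha, smul_pow, one_pow, scalar_pow ha, one_smul, mat_one])
    have hxr : x ^ r ^ i = 1 := congrArg Subtype.val hi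
    have := (pow_gcd_eq_one.2 ⟨hx3, hxr⟩ : x ^ _ = 1)
    rwa [Nat.Coprime.gcd_eq_one (Nat.Coprime.pow_right i
      ((Nat.coprime_primes Nat.prime_three hr).2 (Ne.symm hr3))), pow_one] at this
  have hN : Subgroup.normalizer ((P : Subgroup GS) : Set GS) ≤ Subgroup.centralizer ((P : Subgroup GS) : Set GS) := by
    intro g hg
    have hgC : g ∈ C := hHC (ti hK (hPC hxP) hns (hPC ((hg x).1 hxP)))
    exact fun y hy => (torus_comm hK hgC (hPC hy)).symm
  set f := MonoidHom.transferSylow P hN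
  have hkill : commutator GS ≤ f.ker := by
    rw [commutator_def, Subgroup.commutator_le]
    intro a _ b _
    rw [MonoidHom.mem_ker, map_commutatorElement, commutatorElement_eq_one_iff_mul_comm]
    exact Subtype.ext (torus_comm hK (hPC (f a).2) (hPC (f b).2))
  rw [OrthUnitaryPSU.commutator_eq_top hF (le_refl 3) (by omega), top_le_iff] at hkill
  have hcompl := MonoidHom.ker_transferSylow_isComplement' P hN
  rw [hkill] at hcompl
  exact hPne (Subgroup.isComplement'_top_left.1 hcompl)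

include hK hF hadj in
/-- Overgroups of the normaliser. -/
theorem overgroup (hq : 4 ≤ q) (hq5 : q ≠ 5) {M : Subgroup GS} (hHM : normal K ≤ M) {g₀ : GS} (hg₀ : g₀ ∈ M)
    (hg₀H : g₀ ∉ normal (q := q) K) : M = ⊤ := by
  obtain ⟨c, c', d, hP, hc1, hd0, hc'3⟩ : ∃ c c' d, Param q c c' d ∧ c' ≠ 1 ∧ 0 < d ∧ ¬ 3 ∣ c' := by
    have hqq : q ≤ q ^ 2 := Nat.le_self_pow two_ne_zero q
    have hq2 : 4 * q ≤ q ^ 2 := by rw [sq]; exact Nat.mul_le_mul_right _ hq
    set c := q ^ 2 + 1 - q with hcdef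
    have hc : c + q = q ^ 2 + 1 := by omega
    by_cases h3 : 3 ∣ q + 1
    · obtain ⟨u, hu⟩ := h3
      have h9 : ∃ w, c = 9 * w + 3 := by
        have hu1 : 1 ≤ u := by omega
        refine ⟨u * u - u, ?_⟩
        have : u ≤ u * u := Nat.le_mul_of_pos_left u hu1
        have hz : (c : ℤ) = (q : ℤ) ^ 2 - q + 1 := by
          have : ((c + q : ℕ) : ℤ) = ((q ^ 2 + 1 : ℕ) : ℤ) := by rw [hc]
          push_cast at this; linarith
        have hq' : (q : ℤ) = 3 * u - 1 := by omega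
        zify [this]
        rw [hz, hq']; ring
      obtain ⟨w, hw⟩ := h9
      exact ⟨c, 3 * w + 1, 3, ⟨hc, by omega, Or.inr ⟨rfl, ⟨u, hu⟩⟩⟩, by omega, by omega, by omega⟩
    · exact ⟨c, c, 1, ⟨hc, (one_mul c).symm, Or.inl ⟨rfl, h3⟩⟩, by omega, one_pos, c_coprime_three hc h3⟩
  have hP' := hP
  obtain ⟨hc, hcd, hd⟩ := hP'
  have hcardH := card_normal hK hF hadj hq hP hc1
  set C := torus (q := q) hK with hC
  have hCH : C ≤ normal K := torus_le hK
  -- the subgroup of exponent `c'`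
  let A : Subgroup GS :=
    { carrier := {g | g ∈ C ∧ g ^ c' = 1}
      one_mem' := ⟨C.one_mem, one_pow _⟩
      mul_mem' := fun {a b} ha hb => ⟨C.mul_mem ha.1 hb.1, by
        rw [(show Commute a b from torus_comm hK ha.1 hb.1).mul_pow, ha.2, hb.2, one_mul]⟩
      inv_mem' := fun {a} ha => ⟨C.inv_mem ha.1, by rw [inv_pow, ha.2, inv_one]⟩ }
  have hA : Nat.card A = c' := by
    rw [← (torus_data hK hF hadj hc).2 c' ⟨d, by rw [hcd, mul_comm]⟩]
    exact Nat.card_congr ⟨fun g => ⟨⟨g.1, g.2.1⟩, Subtype.ext g.2.2⟩,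
      fun g => ⟨g.1.1, g.1.2, congrArg Subtype.val g.2⟩, fun g => rfl, fun g => rfl⟩
  have hAns : ∀ x ∈ A, x ≠ 1 → ∀ a : F, mat x ≠ a • 1 := by
    intro x hx hx1 a ha
    apply hx1
    have hx3 : x ^ 3 = 1 := mat_inj (by
      rw [mat_pow, ha, smul_pow, one_pow, scalar_pow ha, one_smul, mat_one])
    have := (pow_gcd_eq_one.2 ⟨hx3, hx.2⟩ : x ^ _ = 1)
    rwa [Nat.Coprime.gcd_eq_one ((Nat.Prime.coprime_iff_not_dvd Nat.prime_three).2 hc'3), pow_one] at this
  -- cosets of the normaliser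
  haveI hCn : (C.subgroupOf (normal K)).Normal := by
    refine ⟨fun x hx g => ?_⟩
    show mat (g.1 * x.1 * g.1⁻¹) ∈ K
    rw [mat_mul, mat_mul]
    exact (mem_normal.1 g.2 _).1 hx
  have hcube : ∀ y ∈ normal (q := q) K, y ^ 3 ∈ C := by
    intro y hy
    have h := Subgroup.pow_index_mem (C.subgroupOf (normal K)) ⟨y, hy⟩
    obtain ⟨i, hi⟩ := relIndex_torus (q := q) hK
    have h2 := (C.subgroupOf (normal K)).pow_mem h i
    rw [← pow_mul, show (C.subgroupOf (normal K)).index * i = 3 from hi.symm] at h2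
    exact h2
  have hmod : ∀ M' : Subgroup GS, normal K ≤ M' →
      ∃ n, Nat.card M' = n * (3 * c) ∧ c' ∣ n - 1 := by
    intro M' hM'
    let x0 : GS ⧸ normal (q := q) K := QuotientGroup.mk 1
    have hst : MulAction.stabilizer GS x0 = normal K := by
      ext g
      show g • x0 = x0 ↔ _
      rw [MulAction.Quotient.smul_mk, QuotientGroup.eq, smul_eq_mul, mul_one, mul_one, inv_mem_iff]
    refine ⟨Nat.card (MulAction.orbit M' x0), ?_, ?_⟩
    · rw [← orbit_mul M' x0, hst, inf_eq_right.2 hM', hcardH]; rfl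
    · rw [← hA]
      refine free_rest M' A (fun a ha => hM' (hCH ha.1)) x0 (fun a ha => ?_) fun a ha g hg h hne => ?_
      · rw [← MulAction.mem_stabilizer_iff, hst]; exact hCH ha.1
      by_contra ha1
      apply hne
      rw [← MulAction.mem_stabilizer_iff, hst]
      have hy : g⁻¹ * a * g ∈ normal K := by
        rw [← hst, MulAction.mem_stabilizer_iff, mul_smul, mul_smul, h, inv_smul_smul]
      have h3 : (g⁻¹ * a * g) ^ 3 ∈ C := hcube _ hy
      rw [show g⁻¹ * a * g = g⁻¹ * a * (g⁻¹)⁻¹ by rw [inv_inv], conj_pow] at h3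
      have ha3 : a ^ 3 ∈ A := A.pow_mem ha 3
      have hne3 : a ^ 3 ≠ 1 := fun e => ha1 (by
        have := (pow_gcd_eq_one.2 ⟨e, ha.2⟩ : a ^ _ = 1)
        rwa [Nat.Coprime.gcd_eq_one ((Nat.Prime.coprime_iff_not_dvd Nat.prime_three).2 hc'3), pow_one] at this)
      exact inv_mem_iff.1 (ti hK ha3.1 (hAns _ ha3 hne3) h3)
  obtain ⟨n, hn, hn1⟩ := hmod M hHM
  obtain ⟨T, hT, hT1⟩ := hmod ⊤ le_top
  rw [Subgroup.card_top] at hT
  have hc0 : 0 < c := by rcases hd with ⟨rfl, -⟩ | ⟨rfl, -⟩ <;> omega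
  have hn2 : 1 < n := by
    by_contra hcon
    rcases (show n = 0 ∨ n = 1 by omega) with rfl | rfl
    · rw [zero_mul] at hn; exact Nat.card_pos.ne' hn
    · rw [one_mul, ← hcardH] at hn
      exact hg₀H ((Subgroup.eq_of_le_of_card_ge hHM hn.le) ▸ hg₀)
  have hkM : M.index * Nat.card M = Nat.card GS := M.index_mul_card
  have hkn : T = M.index * n := by
    rw [hn, hT, ← mul_assoc] at hkM
    exact (Nat.eq_of_mul_eq_mul_right (by omega) hkM).symm
  have hq2 : q ^ 2 - 1 = (q + 1) * (q - 1) := by rw [← Nat.sq_sub_sq, one_pow]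
  have hq3 : q ^ 3 + 1 = (q + 1) * c := by
    have : (c : ℤ) = (q : ℤ) ^ 2 - q + 1 := by
      have : ((c + q : ℕ) : ℤ) = ((q ^ 2 + 1 : ℕ) : ℤ) := by rw [hc]
      push_cast at this; linarith
    zify; rw [this]; ring
  have hGc : Nat.card GS = q ^ 3 * ((q + 1) ^ 2 * (q - 1)) * c := by
    rw [card_SU_eq hF, hq2, hq3]; ring
  obtain ⟨p, f, hp, hchar, hf, hqp⟩ := exists_prime_pow hF
  haveI : Fact p.Prime := ⟨hp⟩
  obtain ⟨R0⟩ : Nonempty (Sylow p M) := inferInstance
  set a := (Nat.card M).factorization p with ha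
  have hR0 : Nat.card R0 = p ^ a := Sylow.card_eq_multiplicity R0
  rcases Nat.lt_or_ge f a with hfa | hfa
  swap
  · -- a small Sylow subgroup
    exfalso
    have hdv : 3 * n ∣ q ^ 3 * ((q + 1) ^ 2 * (q - 1)) := by
      have h : n * (3 * c) ∣ Nat.card GS := hn ▸ Subgroup.card_subgroup_dvd_card M
      rw [hGc, ← mul_assoc, mul_comm n 3] at h
      exact Nat.dvd_of_mul_dvd_mul_right hc0 h
    have hsplit := Nat.ordProj_mul_ordCompl_eq_self (3 * n) p
    have hcop : Nat.Coprime (ordCompl[p] (3 * n)) (q ^ 3) := by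
      rw [hqp, ← pow_mul]
      exact Nat.Coprime.pow_right _ (Nat.coprime_ordCompl hp (by omega)).symm
    have hw : ordCompl[p] (3 * n) ∣ (q + 1) ^ 2 * (q - 1) :=
      hcop.dvd_of_dvd_mul_left ((Nat.ordCompl_dvd _ _).trans hdv)
    have hi : ordProj[p] (3 * n) ∣ q := by
      rw [hqp]
      refine pow_dvd_pow p (le_trans ?_ hfa)
      refine (Nat.factorization_le_iff_dvd (by omega) Nat.card_pos.ne').2 ?_ p
      rw [hn, ← mul_assoc, mul_comm n 3]
      exact dvd_mul_right _ _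
    obtain ⟨m, hm⟩ : 3 * n ∣ q * ((q + 1) ^ 2 * (q - 1)) := hsplit ▸ mul_dvd_mul hi hw
    exact small hq hq5 hP hn2 hn1 hm.symm
  -- the fixed line of a Sylow subgroup
  haveI : Fintype (Line q F) := Fintype.ofFinite _
  obtain ⟨L0, hL0⟩ : ∃ L : Line q F, ∀ g : (R0 : Subgroup M), (g : M) • L = L := by
    obtain ⟨L, hL⟩ := R0.2.nonempty_fixed_point_of_prime_not_dvd_card (Line q F) (by
      rw [card_Line hF, hqp]
      intro hd
      exact hp.one_lt.ne' (Nat.dvd_one.1 ((Nat.dvd_add_right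
        (dvd_pow (dvd_pow_self p hf.ne') three_ne_zero)).1 hd)))
    exact ⟨L, hL⟩
  obtain ⟨Φ, rfl⟩ := exists_frame_line hF L0
  let R : Subgroup GS := (R0 : Subgroup M).map M.subtype
  have hRcard : Nat.card R = p ^ a := by rw [Subgroup.card_subtype, hR0]
  have hRM : R ≤ M := Subgroup.map_subtype_le _
  have hRP : R ≤ Φ.P := by
    rintro _ ⟨y, hy, rfl⟩
    obtain ⟨i, hi⟩ := R0.2 ⟨y, hy⟩
    exact mem_P_of_pow hF Φ hp (n := i) (hL0 ⟨y, hy⟩) (by simpa using congrArg Subtype.val (congrArg Subtype.val hi))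
  set D := Nat.card (MulAction.orbit M Φ.line) with hDdef
  have hc'D : c' ∣ D := by
    rw [← hA]
    refine free_all M A (fun x hx => hHM (hCH hx.1)) Φ.line fun x hx g hg h => ?_
    by_contra hx1
    obtain ⟨v, hv0, hv, hL⟩ := exists_rep (g • Φ.line)
    rw [hL, smul_mkLine] at h
    obtain ⟨b, -, hb⟩ := mkLine_eq h
    exact hAns x hx hx1 b (scalar_of_eigen hK hx.1 hv0 hb)
  have hDle : D ≤ q ^ 3 + 1 := by
    rw [← card_Line hF]; exact Nat.card_le_card_of_injective _ Subtype.val_injective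
  have hmul := orbit_mul M Φ.line
  rw [← hDdef, card_stab_inter] at hmul
  have hDM : D ∣ Nat.card M := ⟨_, hmul.symm⟩
  have hdh : p ^ a ∣ D - 1 := hRcard ▸ orbit_mod hF Φ M R hRM hRP
  have hqa : q < p ^ a := by rw [hqp]; exact Nat.pow_lt_pow_right hp.one_lt hfa
  have hDq : D = q ^ 3 + 1 := orbit_eq hp hqp hf hq hq5 hP hc'D
    (Nat.pos_of_ne_zero fun h => by rw [h, zero_mul] at hmul; exact Nat.card_pos.ne' hmul.symm) hDle
    ((hDM.trans (Subgroup.card_subgroup_dvd_card M)).trans (card_SU_eq hF).dvd) hqa hdh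
  have hPc : Nat.card (M ⊓ Φ.P : Subgroup GS) = p ^ a := by
    obtain ⟨i, hi⟩ := (IsPGroup.to_le (isPGroup_P hF Φ p hp f hqp) (inf_le_right : M ⊓ Φ.P ≤ Φ.P)).exists_card_eq
    have h1 : p ^ a ∣ p ^ i := hi ▸ hRcard ▸ Subgroup.card_dvd_of_le (le_inf hRM hRP)
    have h2 : p ^ i ∣ Nat.card M := hi ▸ Subgroup.card_dvd_of_le inf_le_left
    have h3 := (Nat.Prime.pow_dvd_iff_le_factorization hp Nat.card_pos.ne').1 h2
    have h4 := (Nat.pow_dvd_pow_iff_le_right hp.one_lt).1 h1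
    rw [hi, show i = a by omega]
  have ha3 : a ≤ 3 * f := by
    have h := Subgroup.card_dvd_of_le (inf_le_right : M ⊓ Φ.P ≤ Φ.P)
    rw [hPc, card_P hF Φ, hqp, ← pow_mul, mul_comm f] at h
    exact (Nat.pow_dvd_pow_iff_le_right hp.one_lt).1 h
  rw [hPc, hDq] at hmul
  obtain ⟨g, hge⟩ := card_eigImg_dvd hF Φ M
  set e := Nat.card (eigImg Φ M)
  have he0 : 0 < e := Nat.card_pos
  have hg0 : 0 < g := Nat.pos_of_ne_zero fun h => by
    rw [h, mul_zero] at hge
    have : 4 ^ 2 ≤ q ^ 2 := Nat.pow_le_pow_left hq 2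
    omega
  have hkh : p ^ a * M.index = q ^ 3 * g := by
    rw [← hmul, card_SU_eq hF, hge] at hkM
    have hpos : 0 < (q ^ 3 + 1) * e := by positivity
    refine Nat.eq_of_mul_eq_mul_right hpos ?_
    calc p ^ a * M.index * ((q ^ 3 + 1) * e) = M.index * ((q ^ 3 + 1) * (e * p ^ a)) := by ring
      _ = q ^ 3 * (q ^ 3 + 1) * (e * g) := hkM
      _ = _ := by ring
  have hde : d ∣ e := by
    rcases hd with ⟨rfl, -⟩ | ⟨rfl, h3⟩
    · exact one_dvd _
    obtain ⟨ω, hω⟩ := exists_prime_orderOf_dvd_card' (G := Fˣ) 3 (by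
      rw [card_units' hF, hq2]; exact dvd_mul_of_dvd_left h3 _)
    have hω3 : (ω : F) ^ 3 = 1 := by
      rw [← Units.val_pow_eq_pow_val, ← hω, pow_orderOf_eq_one, Units.val_one]
    have hωq : (ω : F) ^ (q + 1) = 1 := by
      obtain ⟨u, hu⟩ := h3
      rw [hu, pow_mul, hω3, one_pow]
    let w : GS := ⟨⟨(ω : F) • (1 : Matrix (Fin 3) (Fin 3) F), by
      rw [Matrix.det_smul, Matrix.det_one, mul_one, Fintype.card_fin, hω3]⟩, fun x y => by
      show hh (((ω : F) • (1 : Matrix (Fin 3) (Fin 3) F)) *ᵥ x) (((ω : F) • (1 : Matrix (Fin 3) (Fin 3) F)) *ᵥ y) = _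
      rw [Matrix.smul_mulVec, Matrix.smul_mulVec, Matrix.one_mulVec, Matrix.one_mulVec, herm_smul_left,
        herm_smul_right, ← mul_assoc, ← pow_succ', hωq, one_mul]⟩
    have hwC : w ∈ C := K.smul_mem K.one_mem _
    have hmem : ω ∈ eigImg Φ M := (mem_eigImg Φ M).2 ⟨w, hHM (hCH hwC), by
      show ((ω : F) • (1 : Matrix (Fin 3) (Fin 3) F)) *ᵥ Φ.e = _
      rw [Matrix.smul_mulVec, Matrix.one_mulVec]⟩
    have := orderOf_dvd_natCard (⟨ω, hmem⟩ : eigImg Φ M)
    rwa [← Subgroup.orderOf_coe, hω] at this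
  have hsum : c' ∣ g + p ^ a := by
    have h1 : (c' : ℤ) ∣ (M.index : ℤ) - 1 := by
      have hn' : (c' : ℤ) ∣ (n : ℤ) - 1 := by
        have := Int.natCast_dvd_natCast.2 hn1
        rwa [Nat.cast_sub (by omega), Nat.cast_one] at this
      have hT' : (c' : ℤ) ∣ (T : ℤ) - 1 := by
        have hT0 : 1 ≤ T := Nat.pos_of_ne_zero fun h => by rw [h, zero_mul] at hT; exact Nat.card_pos.ne' hT
        have := Int.natCast_dvd_natCast.2 hT1
        rwa [Nat.cast_sub hT0, Nat.cast_one] at this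
      have := dvd_sub hT' (hn'.mul_left (M.index : ℤ))
      rwa [hkn, Nat.cast_mul, show (M.index : ℤ) * n - 1 - M.index * ((n : ℤ) - 1) = M.index - 1 by ring] at this
    have h2 : (c' : ℤ) ∣ (q : ℤ) ^ 3 + 1 := by
      refine ⟨(q + 1) * d, ?_⟩
      have : ((q ^ 3 + 1 : ℕ) : ℤ) = (((q + 1) * (d * c') : ℕ) : ℤ) := by rw [hq3, hcd]
      push_cast at this
      linear_combination this
    have hkz : ((p ^ a * M.index : ℕ) : ℤ) = ((q ^ 3 * g : ℕ) : ℤ) := by rw [hkh]
    push_cast at hkz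
    have h3 := dvd_sub (h2.mul_right (g : ℤ)) (h1.mul_left ((p : ℤ) ^ a))
    rw [show ((q : ℤ) ^ 3 + 1) * g - (p : ℤ) ^ a * ((M.index : ℤ) - 1) = ((g + p ^ a : ℕ) : ℤ) by
      push_cast; linear_combination -hkz] at h3
    exact Int.natCast_dvd_natCast.1 h3
  -- the exceptional cases
  have kill : ∀ r : ℕ, r.Prime → r ∣ e → ¬ r ∣ p ^ a →
      (∀ b : F, b ^ r = 1 → b ≠ 1 → b ^ (q + 1) ≠ 1 ∧ b ^ 2 ≠ b ^ q) → r ∣ p ^ a - 1 := by
    intro r hr hre hrh hcond
    haveI : Fact r.Prime := ⟨hr⟩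
    obtain ⟨⟨u, hu⟩, huo⟩ := exists_prime_orderOf_dvd_card' (G := eigImg Φ M) r hre
    rw [← Subgroup.orderOf_coe] at huo
    obtain ⟨y, hyM, hy⟩ := (mem_eigImg Φ M).1 hu
    have hpw : ∀ (z : GS) (b : F), act z Φ.e = b • Φ.e → ∀ i : ℕ, act (z ^ i) Φ.e = b ^ i • Φ.e := by
      intro z b hz i
      induction i with
      | zero => rw [pow_zero, pow_zero, one_smul, act_one]
      | succ i ih => rw [pow_succ', act_mul, ih, act_smul, hz, smul_smul, ← pow_succ]
    set t := y ^ p ^ a with ht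
    set b := (u : F) ^ p ^ a with hb
    have hte : act t Φ.e = b • Φ.e := hpw y _ hy _
    have hur : (u : F) ^ r = 1 := by
      rw [← Units.val_pow_eq_pow_val, ← huo, pow_orderOf_eq_one, Units.val_one]
    have hbr : b ^ r = 1 := by rw [hb, ← pow_mul, mul_comm, pow_mul, hur, one_pow]
    have hb1 : b ≠ 1 := fun h => by
      apply hrh
      rw [← huo]
      exact orderOf_dvd_of_pow_eq_one (Units.ext (by rw [Units.val_pow_eq_pow_val, Units.val_one]; exact h))
    have htr : t ^ r = 1 := by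
      have hm : y ^ r ∈ M ⊓ Φ.P := ⟨M.pow_mem hyM r, by
        show act (y ^ r) Φ.e = Φ.e
        rw [hpw y _ hy r, hur, one_smul]⟩
      have := congrArg Subtype.val (pow_card_eq_one' (G := (M ⊓ Φ.P : Subgroup GS)) (x := ⟨_, hm⟩))
      rw [hPc] at this
      rw [ht, ← pow_mul, mul_comm, pow_mul]
      exact this
    have ht1 : t ≠ 1 := fun h => hb1 (by
      rw [h, act_one] at hte
      exact smul_left_injective F (e_ne_zero Φ) (hte.symm.trans (one_smul F Φ.e).symm))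
    have hord : orderOf t = r := orderOf_eq_prime htr ht1
    let A' : Subgroup GS := Subgroup.zpowers t
    have hA'M : A' ≤ M := Subgroup.zpowers_le.2 (M.pow_mem hyM _)
    have hA'c : Nat.card A' = r := by rw [Nat.card_zpowers, hord]
    let Y := {x : (M ⊓ Φ.P : Subgroup GS) // x ≠ 1}
    have hpowA : ∀ z ∈ A', ∃ i : ℕ, t ^ i = z := fun z hz =>
      Submonoid.mem_powers_iff _ _ |>.1 (mem_powers_iff_mem_zpowers.2 hz)
    have hstab : ∀ z ∈ A', ∀ x ∈ (M ⊓ Φ.P : Subgroup GS), z * x * z⁻¹ ∈ (M ⊓ Φ.P : Subgroup GS) := by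
      intro z hz x hx
      obtain ⟨i, rfl⟩ := hpowA z hz
      refine ⟨mul_mem (mul_mem (hA'M hz) hx.1) (M.inv_mem (hA'M hz)), conj_mem_P Φ ?_ (hpw t b hte i) hx.2⟩
      exact pow_ne_zero _ (fun h => by rw [h, zero_pow hr.ne_zero] at hbr; exact zero_ne_one hbr)
    letI : MulAction A' Y :=
      { smul := fun z x => ⟨⟨z.1 * x.1.1 * z.1⁻¹, hstab z z.2 _ x.1.2⟩, fun h => x.2 (Subtype.ext
          (conj_eq_one_iff.1 (congrArg Subtype.val h)))⟩
        one_smul := fun x => Subtype.ext (Subtype.ext (by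
          show (1 : GS) * x.1.1 * (1 : GS)⁻¹ = x.1.1
          rw [inv_one, one_mul, mul_one]))
        mul_smul := fun z w x => Subtype.ext (Subtype.ext (by
          show (z.1 * w.1) * x.1.1 * (z.1 * w.1)⁻¹ = z.1 * (w.1 * x.1.1 * w.1⁻¹) * z.1⁻¹
          rw [mul_inv_rev]; simp only [mul_assoc])) }
    have hY : Nat.card Y = p ^ a - 1 := by
      rw [← hPc, Nat.card_eq_fintype_card, Nat.card_eq_fintype_card, Fintype.card_subtype_compl,
        Fintype.card_subtype_eq]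
    rw [← hY, ← hA'c]
    refine DicksonLine.dvd_card_of_free fun z x hzx => ?_
    obtain ⟨i, hi⟩ := hpowA z z.2
    have hfix : z.1 * x.1.1 * z.1⁻¹ = x.1.1 := congrArg (fun w : Y => w.1.1) hzx
    by_contra hz1
    refine x.2 (Subtype.ext ?_)
    rw [← hi] at hfix
    have hBr : (b ^ i) ^ r = 1 := by rw [← pow_mul, mul_comm, pow_mul, hbr, one_pow]
    have hB1 : b ^ i ≠ 1 := fun h => hz1 (Subtype.ext (by
      have hb0 : (Units.mk0 b (fun h => by rw [h, zero_pow hr.ne_zero] at hbr; exact zero_ne_one hbr)) ^ i = 1 :=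
        Units.ext (by rw [Units.val_pow_eq_pow_val, Units.val_one]; exact h)
      have hdi := orderOf_dvd_of_pow_eq_one hb0
      rw [orderOf_eq_prime (p := r) (Units.ext (by rw [Units.val_pow_eq_pow_val, Units.val_one]; exact hbr))
        (fun e => hb1 (congrArg Units.val e))] at hdi
      rw [← hi]
      show t ^ i = 1
      rw [← orderOf_dvd_iff_pow_eq_one, hord]
      exact hdi))
    obtain ⟨h1, h2⟩ := hcond _ hBr hB1
    exact no_fix hF Φ (pow_ne_zero i (fun h => by rw [h, zero_pow hr.ne_zero] at hbr; exact zero_ne_one hbr))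
      (hpw t b hte i) h1 h2 x.1.2.2 hfix
  rcases stab hp hqp hf hq hq5 hP hfa ha3 hg0 (hge ▸ mul_comm e g ▸ mul_dvd_mul_left g hde) hsum with
    ⟨haf, hg1⟩ | ⟨hq', hh', hg'⟩ | ⟨hq', hh', hg'⟩
  · have hq3' : q ^ 3 = p ^ (3 * f) := by rw [hqp, ← pow_mul, mul_comm]
    rw [hg1, mul_one, haf, hq3'] at hkh
    exact Subgroup.index_eq_one.1 (mul_left_cancel₀ (pow_ne_zero _ hp.ne_zero) (hkh.trans (mul_one _).symm))
  · exfalso
    rw [hq', hg'] at hge
    have h := kill 3 Nat.prime_three ⟨1, by omega⟩ (by rw [hh']; norm_num) fun b hb hb1 => by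
      have key : b ^ 2 ≠ 1 := fun h => hb1 (calc b = b ^ 2 * b := by rw [h, one_mul]
        _ = b ^ 3 := (pow_succ b 2).symm
        _ = 1 := hb)
      rw [hq']
      refine ⟨?_, fun h => hb1 ?_⟩
      · rwa [show b ^ (4 + 1) = b ^ 3 * b ^ 2 by ring, hb, one_mul]
      · rw [show b ^ 4 = b ^ 3 * b by ring, hb, one_mul] at h
        have hb0 : b ≠ 0 := fun h0 => by rw [h0] at hb; norm_num at hb
        exact mul_left_cancel₀ hb0 (by rw [mul_one, ← sq]; exact h)
    rw [hh'] at h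
    norm_num at h
  · exfalso
    rw [hq', hg'] at hge
    have h := kill 7 (by norm_num) ⟨3, by omega⟩ (by rw [hh']; norm_num) fun b hb hb1 => by
      rw [hq']
      have hb0 : b ≠ 0 := fun h0 => by rw [h0] at hb; norm_num at hb
      refine ⟨fun h => hb1 ?_, fun h => hb1 ?_⟩
      · rw [show b ^ (8 + 1) = b ^ 7 * b ^ 2 by ring, hb, one_mul] at h
        calc b = b ^ 7 * b := by rw [hb, one_mul]
          _ = (b ^ 2) ^ 4 := by ring
          _ = 1 := by rw [h, one_pow]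
      · rw [show b ^ 8 = b ^ 7 * b by ring, hb, one_mul] at h
        exact mul_left_cancel₀ hb0 (by rw [mul_one, ← sq]; exact h)
    rw [hh'] at h
    norm_num at h

/-- The Singer clause. -/
theorem maximal_singer {F : Type*} [Field F] [Fintype F] (q : ℕ) (hF : Fintype.card F = q ^ 2) (hq : 3 ≤ q) :
    q ≠ 3 → q ≠ 5 → ∀ K : Subalgebra F (Matrix (Fin 3) (Fin 3) F), Cfsg.Geo.IsFieldSubalgebra 3 K →
      Cfsg.Geo.IsAdjointClosedFor (Cfsg.hermForm 3 F q) K →
      Cfsg.Geo.IsMaximalIn (Cfsg.GU 3 F q ⊓ Cfsg.Geo.specialLinear (Fin 3) F)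
        (Cfsg.Geo.subalgebraNormalizer K ⊓ (Cfsg.GU 3 F q ⊓ Cfsg.Geo.specialLinear (Fin 3) F)) := by
  intro h3 h5 K hK hadj
  have hq4 : 4 ≤ q := by omega
  refine SUThree44Base.isMaximalIn_of3 hF _ ?_ fun M hM g hg hgL =>
    overgroup hK hF hadj hq4 h5 hM hg hgL
  by_contra hall
  push Not at hall
  have htop : normal (q := q) K = ⊤ := Subgroup.eq_top_iff' _ |>.2 hall
  have hc : (q ^ 2 + 1 - q) + q = q ^ 2 + 1 := by
    have : q ≤ q ^ 2 := Nat.le_self_pow two_ne_zero q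
    omega
  have hmul : (torus (q := q) hK).relIndex (normal K) * (q ^ 2 + 1 - q) = Nat.card (normal (q := q) K) := by
    rw [← card_torus hK hF hadj hc, ← Nat.card_congr (Subgroup.subgroupOfEquivOfLe (torus_le hK)).toEquiv]
    exact Subgroup.index_mul_card _
  rw [htop, Subgroup.card_top, card_SU_eq hF] at hmul
  have hr : (torus (q := q) hK).relIndex ⊤ ≤ 3 := htop ▸ Nat.le_of_dvd (by norm_num) (relIndex_torus hK)
  have h1 : (torus (q := q) hK).relIndex ⊤ * (q ^ 2 + 1 - q) ≤ 3 * (q ^ 2 + 1) :=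
    Nat.mul_le_mul hr (Nat.sub_le _ _)
  rw [hmul] at h1
  have h2 : 4 ^ 3 ≤ q ^ 3 := Nat.pow_le_pow_left hq4 3
  have h4 : 4 * q ^ 2 ≤ q ^ 3 + 1 := by
    have : 4 * q ^ 2 ≤ q * q ^ 2 := Nat.mul_le_mul_right _ hq4
    rw [pow_succ' q 2]
    omega
  have h5' : 4 * (q ^ 3 + 1) ≤ q ^ 3 * (q ^ 3 + 1) * (q ^ 2 - 1) := by
    have : 4 ^ 2 ≤ q ^ 2 := Nat.pow_le_pow_left hq4 2
    calc 4 * (q ^ 3 + 1) ≤ q ^ 3 * (q ^ 3 + 1) * 1 := by
          rw [mul_one]; exact Nat.mul_le_mul_right _ (by omega)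
      _ ≤ _ := Nat.mul_le_mul_left _ (by omega)
  omega

end Cfsg.Agent.SUThree44Singer
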