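import Cfsg.Agent.Lib.DicksonSubfieldMax
import Cfsg.Agent.Lib.QuadPairDickson
import Cfsg.Agent.Lib.SL2TwoUnipotent

/-!
A subgroup of `SL(2,K)` containing `SL(2,R)`, `R` a subfield of odd prime index, and one further element
contains all upper transvections.
-/

set_option autoImplicit false
set_option linter.unusedSectionVars false

open scoped MatrixGroups OnePoint

namespace Cfsg.Agent.SUThree49SL2

open Matrix Cfsg.Agent.QuadPairSL2
open Cfsg.Agent.QuadPairDickson (proj)
open Cfsg.Agent.DicksonPSL (dd)
open Cfsg.Agent.DicksonTorus Cfsg.Agent.DicksonDihedralMax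

variable {K : Type*} [Field K] [Finite K]

/-- The extension of scalars from a subfield. -/
def incl (R : Subfield K) : SL(2, R) →* SL(2, K) :=
  Matrix.SpecialLinearGroup.map (R.subtype : R →+* K)

theorem incl_coe (R : Subfield K) (A : SL(2, R)) (i j : Fin 2) :
    (incl R A).1 i j = (A.1 i j : K) := rfl

theorem incl_up (R : Subfield K) (x : R) : incl R (up x) = up (x : K) := by
  apply sl_ext <;> simp [incl_coe]

theorem incl_lo (R : Subfield K) (x : R) : incl R (lo x) = lo (x : K) := by
  apply sl_ext <;> simp [incl_coe]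

theorem proj_eq_iff (h2 : (2 : K) = 0) (a b : SL(2, K)) : proj a = proj b ↔ a = b := by
  refine ⟨fun h => ?_, fun h => h ▸ rfl⟩
  rcases SL2TwoUnipotent.toPGL_eq_iff (show SL2TwoUnipotent.toPGL a = SL2TwoUnipotent.toPGL b from h)
    with e | e
  · exact e
  · rw [e]
    apply Subtype.ext
    ext i j
    show -(b.1 i j) = b.1 i j
    linear_combination -(b.1 i j) * h2

theorem gen_big {r : ℕ} (R : Subfield K) (hr : r.Prime) (hodd : Odd r)
    (hcard : Nat.card R ^ r = Nat.card K) (h3 : 3 ≤ Nat.card R) (J : Subgroup SL(2, K))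
    (hR : ∀ A, incl R A ∈ J) {j : SL(2, K)} (hj : j ∈ J) (hjR : j ∉ (incl R).range) (x : K) :
    up x ∈ J := by
  classical
  obtain ⟨p, hp⟩ := CharP.exists K
  haveI : Fact p.Prime := ⟨CharP.char_is_prime K p⟩
  haveI : CharP R p := (RingHom.charP_iff (R.subtype : R →+* K) R.subtype.injective p).mpr hp
  haveI : Finite R := inferInstance
  set φ : SL(2, R) →* ProjectiveSpecialLinearGroup (Fin 2) K := PSL2Proj52.π.comp (incl R) with hφ
  have hneg : ∀ A : SL(2, R), incl R (-A) = -incl R A := fun A => by
    apply sl_ext <;> simp [incl_coe]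
  have hinj : Function.Injective (incl R) := fun A B h => by
    have hh : ∀ i l, A.1 i l = B.1 i l := fun i l =>
      Subtype.ext (congrArg (fun C : SL(2, K) => C.1 i l) h)
    exact sl_ext (hh 0 0) (hh 0 1) (hh 1 0) (hh 1 1)
  have hker : φ.ker = Subgroup.center SL(2, R) := by
    ext A
    rw [MonoidHom.mem_ker, PSL2Elements.mem_center_iff, hφ, MonoidHom.comp_apply,
      PSL2Proj52.π_eq_one, show (-1 : SL(2, K)) = incl R (-1) by rw [hneg, map_one]]
    conv_lhs => lhs; rw [← map_one (incl R)]
    simp only [hinj.eq_iff]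
  let e : ProjectiveSpecialLinearGroup (Fin 2) R ≃* φ.range :=
    (QuotientGroup.quotientMulEquivOfEq hker.symm).trans (QuotientGroup.quotientKerEquivRange φ)
  let ψ : ProjectiveSpecialLinearGroup (Fin 2) R →* ProjectiveSpecialLinearGroup (Fin 2) K :=
    φ.range.subtype.comp e.toMonoidHom
  have hψ : Function.Injective ψ := Subtype.val_injective.comp e.injective
  have hmem : ∀ y, ψ y ∈ φ.range := fun y => (e y).2
  have hco : IsCoatom φ.range := by
    refine DicksonSubfieldMax.coatom_of p (r := Nat.card R) h3 hr hcard ?_ ?_ ?_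
    · rw [← Nat.card_congr e.toEquiv]
      have hm := PSLCard.card_PSL2_mul (F := R)
      rcases arith_facts (F := R) with ⟨ho, hd, -⟩ | ⟨he, hd, -⟩
      · simp only [dd] at hd
        rw [hd] at hm
        exact Or.inr ⟨hm, ho, hodd⟩
      · simp only [dd] at hd
        rw [hd, one_mul] at hm
        exact Or.inl ⟨hm, Or.inr he⟩
    · refine ⟨_, hmem (PSL2Proj52.π (PSL2Elements.u 1)), _, hmem (PSL2Proj52.π PSL2Elements.w),
        fun h => ?_⟩
      simp only [← map_mul] at h
      have h' := hψ h
      rw [PSL2Proj52.π_eq_iff] at h'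
      rcases h' with h' | h' <;>
        have h1 := congrArg (fun A : Matrix.SpecialLinearGroup (Fin 2) R => A.1 0 0) h' <;>
        simp [PSL2Elements.u, PSL2Elements.w, PSL2Elements.mul_apply2] at h1
    · intro h4
      have hk : 3 ≤ (Nat.card R + 1) / dd R := by
        rcases arith_facts (F := R) with ⟨⟨j', hj'⟩, -, e1, -⟩ | ⟨-, -, e1, -⟩ <;> omega
      obtain ⟨g, h, hg, hgh, -, -⟩ := exists_torus p (F := R) (N := Nat.card R + 1) (Or.inr rfl)
        (by omega)
      refine ⟨_, hmem g, _, hmem h, by rw [← map_inv, ← map_mul, ← map_mul, hgh, map_inv],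
        ?_, ?_⟩
      all_goals rw [orderOf_injective ψ hψ, hg]
      · exact hk
      · exact not_dvd_torus p (F := R) (Or.inl dvd_rfl)
  have htop : J.map PSL2Proj52.π = ⊤ := by
    refine hco.2 _ (lt_of_le_of_ne ?_ fun h => ?_)
    · rintro _ ⟨A, rfl⟩
      exact ⟨_, hR A, rfl⟩
    · have : PSL2Proj52.π j ∈ φ.range := h.symm ▸ Subgroup.mem_map_of_mem _ hj
      obtain ⟨A, hA⟩ := this
      rcases (PSL2Proj52.π_eq_iff _ _).1 hA with e | e
      · exact hjR ⟨A, e⟩
      · exact hjR ⟨-A, by rw [hneg, e, neg_neg]⟩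
  have hall : ∀ y : K, up y ∈ J ∨ -up y ∈ J := fun y => by
    obtain ⟨g, hg, hgy⟩ := (htop ▸ Subgroup.mem_top (PSL2Proj52.π (up y)) :
      PSL2Proj52.π (up y) ∈ J.map PSL2Proj52.π)
    rcases (PSL2Proj52.π_eq_iff _ _).1 hgy with e | e
    · exact Or.inl (e ▸ hg)
    · exact Or.inr (e ▸ hg)
  by_cases h2 : (2 : K) = 0
  · rcases hall x with h | h
    · exact h
    · convert h using 1
      apply Subtype.ext
      ext i l
      show (up x).1 i l = -((up x).1 i l)
      linear_combination (up x).1 i l * h2
  · have key : up (x / 2) * up (x / 2) ∈ J := by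
      rcases hall (x / 2) with h | h
      · exact mul_mem h h
      · simpa using mul_mem h h
    rwa [up_mul, ← two_mul, mul_div_cancel₀ _ h2] at key

theorem gen_two {r : ℕ} (R : Subfield K) (hr : r.Prime) (hodd : Odd r)
    (hcard : Nat.card R ^ r = Nat.card K) (h2R : Nat.card R = 2) (J : Subgroup SL(2, K))
    (hu : up (1 : K) ∈ J) (hl : lo (1 : K) ∈ J) {l : K} (hl0 : l ≠ 0) (hl1 : l ≠ 1)
    (hlJ : up l ∈ J) (x : K) : up x ∈ J := by
  classical
  cases nonempty_fintype K
  have hKcard : Nat.card K = 2 ^ r := by rw [← hcard, h2R]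
  haveI : Fact (Nat.Prime 2) := ⟨Nat.prime_two⟩
  haveI hc2 : CharP K 2 := by
    obtain ⟨p, hp⟩ := CharP.exists K
    have hpp := CharP.char_is_prime K p
    obtain ⟨n, -, hn⟩ := FiniteField.card K p
    rw [← Nat.card_eq_fintype_card, hKcard] at hn
    have : p ∣ 2 ^ r := hn ▸ dvd_pow_self p n.ne_zero
    rwa [(Nat.prime_dvd_prime_iff_eq hpp Nat.prime_two).1 (hpp.dvd_of_dvd_pow this)] at hp
  have h2 : (2 : K) = 0 := by simpa using CharP.cast_eq_zero K 2
  set P := J.map proj with hP
  have hu' : proj (up (1 : K)) ∈ P := Subgroup.mem_map_of_mem _ hu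
  have hl' : proj (lo (1 : K)) ∈ P := Subgroup.mem_map_of_mem _ hl
  -- a four group
  have h4 : 4 ∣ Nat.card P := by
    let V : Subgroup SL(2, K) :=
      { carrier := {g | g = up 0 ∨ g = up 1 ∨ g = up l ∨ g = up (1 + l)}
        one_mem' := Or.inl up_zero.symm
        mul_mem' := by
          rintro a b (rfl | rfl | rfl | rfl) (rfl | rfl | rfl | rfl) <;>
            simp only [up_mul, Set.mem_setOf_eq]
          all_goals ring_nf
          all_goals simp [h2]
        inv_mem' := by
          intro a ha
          have : a⁻¹ = a := by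
            rcases ha with rfl | rfl | rfl | rfl <;> rw [inv_eq_iff_mul_eq_one, up_mul, ← up_zero] <;>
              congr 1 <;> ring_nf <;> simp [h2]
          rw [this]; exact ha }
    have hVJ : V ≤ J := by
      rintro g (rfl | rfl | rfl | rfl)
      · rw [up_zero]; exact one_mem _
      · exact hu
      · exact hlJ
      · rw [← up_mul]; exact mul_mem hu hlJ
    have hinj : Function.Injective (proj (F := K)) := fun a b h => (proj_eq_iff h2 a b).1 h
    have hV : Nat.card V = 4 := by
      let f : Fin 4 → V := ![⟨up 0, Or.inl rfl⟩, ⟨up 1, Or.inr (Or.inl rfl)⟩,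
        ⟨up l, Or.inr (Or.inr (Or.inl rfl))⟩, ⟨up (1 + l), Or.inr (Or.inr (Or.inr rfl))⟩]
      have hne : (1 : K) + l ≠ 0 := fun h => hl1 (by linear_combination h - h2)
      have key : Function.Injective (fun i => ![(0 : K), 1, l, 1 + l] i) := by
        intro i j hij
        fin_cases i <;> fin_cases j <;> simp at hij ⊢ <;>
          first
            | exact absurd hij hne
            | exact absurd hij.symm hne
            | exact absurd hij hl0
            | exact absurd hij.symm hl0
            | exact absurd hij hl1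
            | exact absurd hij.symm hl1
            | exact absurd hij (by simp [hl0])
      have hf : Function.Bijective f := by
        constructor
        · intro i j hij
          refine key ?_
          have := congrArg (fun g : V => g.1.1 0 1) hij
          fin_cases i <;> fin_cases j <;> simpa [f] using this
        · rintro ⟨g, hg⟩
          rcases hg with rfl | rfl | rfl | rfl
          · exact ⟨0, rfl⟩
          · exact ⟨1, rfl⟩
          · exact ⟨2, rfl⟩
          · exact ⟨3, rfl⟩
      rw [← Nat.card_eq_of_bijective f hf, Nat.card_fin]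
    rw [← hV, hP, ← Nat.card_congr (Subgroup.equivMapOfInjective J proj hinj).toEquiv]
    exact Subgroup.card_dvd_of_le hVJ
  have h2P : 2 ∣ Nat.card P := (dvd_mul_right 2 2).trans h4
  have hnc : proj (up (1 : K)) * proj (lo 1) ≠ proj (lo 1) * proj (up 1) := by
    rw [← map_mul, ← map_mul, Ne, proj_eq_iff h2]
    intro h
    have := congrArg (fun A : SL(2, K) => A.1 0 0) h
    simp [QuadPairSL2.mul_apply] at this
  have htop : P = ⊤ := by
    rcases Dickson.dickson_pgl_strong 2 P with ⟨hc, -⟩ | ⟨z, hz, -⟩ | ⟨C, -, hC, hidx, -⟩ | ⟨h, -⟩ |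
        ⟨h, -⟩ | ⟨h, -⟩ | ⟨R', hR3, -, hR'⟩
    · exfalso
      haveI := hc
      letI := hc.commGroup
      exact hnc (congrArg Subtype.val (mul_comm (⟨_, hu'⟩ : P) ⟨_, hl'⟩))
    · exfalso
      have e1 : proj (up (1 : K)) • z = z := hz hu'
      have e2 : proj (lo (1 : K)) • z = z := hz hl'
      cases z using OnePoint.rec with
      | infty =>
        rw [QuadPairDickson.proj_lo_smul_infty 1 one_ne_zero] at e2
        exact OnePoint.coe_ne_infty _ e2
      | coe y =>
        rw [QuadPairDickson.proj_up, DicksonLine.aff_smul_coe] at e1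
        simp at e1
    · exfalso
      have := C.card_mul_index
      rw [hidx] at this
      obtain ⟨c, hc⟩ := h4
      exact hC ⟨c, by omega⟩
    · exact absurd h2P h
    · exact absurd h2P h
    · rcases h with h | h
      · exact absurd h2P h
      · exact absurd h (by decide)
    · have hpgl : Nat.card P = Nat.card (Matrix.ProjGenLinGroup (Fin 2) R') := by
        rcases hR' with ⟨⟨e⟩⟩ | ⟨ho, -⟩
        · exact Nat.card_congr e.toEquiv
        · exfalso
          haveI : CharP R' 2 := (RingHom.charP_iff (R'.subtype : R' →+* K) R'.subtype.injective 2).mpr hc2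
          cases nonempty_fintype R'
          obtain ⟨n, -, hn⟩ := FiniteField.card R' 2
          rw [Nat.card_eq_fintype_card, hn] at ho
          exact absurd (Nat.even_pow.2 ⟨even_two, n.ne_zero⟩) (Nat.not_even_iff_odd.2 ho)
      have hfr : Nat.card R' = Nat.card K := by
        have hpow : Nat.card K = Nat.card R' ^ Module.finrank R' K :=
          Module.natCard_eq_pow_finrank (K := R') (V := K)
        obtain ⟨i, -, hi⟩ := (Nat.dvd_prime_pow Nat.prime_two).1 (show Nat.card R' ∣ 2 ^ r by
          rw [← hKcard, hpow]; exact dvd_pow_self _ (Module.finrank_pos (R := R') (M := K)).ne')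
        rw [hKcard, hi, ← pow_mul] at hpow
        have hir : i ∣ r := ⟨_, Nat.pow_right_injective le_rfl hpow⟩
        rcases hr.eq_one_or_self_of_dvd i hir with rfl | rfl
        · rw [hi] at hR3; norm_num at hR3
        · rw [hi, hKcard]
      refine Subgroup.eq_top_of_card_eq _ ?_
      rw [hpgl, PSLCard.card_PGL2, PSLCard.card_PGL2, hfr]
  obtain ⟨g, hg, hgx⟩ := (htop ▸ Subgroup.mem_top (proj (up x)) : proj (up x) ∈ P)
  exact ((proj_eq_iff h2 _ _).1 hgx) ▸ hg

end Cfsg.Agent.SUThree49SL2
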