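import Cfsg.Agent.Lib.SUThree49Frames
import Cfsg.Agent.Lib.SUThree49SL2

/-!
Elements of the subfield subgroup in a rational frame, and `SL(2)` on a hyperbolic plane.
-/

set_option autoImplicit false
set_option linter.unusedSectionVars false
set_option linter.unusedVariables false

namespace Cfsg.Agent.SUThree49

open Cfsg Cfsg.Agent.OrthUnitaryHerm Cfsg.Agent.OrthUnitaryTransvection Cfsg.Agent.OrthUnitaryMaximal
open Cfsg.Agent.MinIndexPSU3Geo89 Cfsg.Agent.MinIndexPSU3Stab89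
open Cfsg.Agent.SUThree44Base (vec)
open scoped Matrix MatrixGroups

variable {F : Type*} [Field F] [Fintype F] {q q0 r : ℕ} {F₀ : Subfield F}

local notation "hh" => hermForm 3 F q

variable (Φ : Frame q F)

/-- A rational element fixing `e` with given `phi`. -/
theorem exists_phi (S : Sub q q0 r F₀) {x : F} (hx : x ∈ F₀) :
    ∃ g, InX F₀ Φ g ∧ g ∈ Φ.P ∧ phi Φ g = x := by
  have hF := S.hF
  have hxn : x ^ (q + 1) ^ 1 ∈ F₀ := _root_.pow_mem hx _
  obtain ⟨μ, hμ0, hμ⟩ := S.exists_trace0 (a := -(x ^ (q + 1))) (neg_mem (_root_.pow_mem hx _))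
    (by rw [neg_pow_q hF, pow_succ, mul_pow, pow_q_q hF]; ring)
  have hw : hh ((-x ^ q) • Φ.k) Φ.e = 0 := by rw [herm_smul_left, Φ.ke, mul_zero]
  have hμ' : μ + μ ^ q + hh ((-x ^ q) • Φ.k) ((-x ^ q) • Φ.k) = 0 := by
    rw [herm_smul_left, herm_smul_right, Φ.kk, neg_pow_q hF, pow_q_q hF]
    linear_combination hμ
  refine ⟨eich hF Φ.e ((-x ^ q) • Φ.k) μ Φ.ee hw hμ', ⟨1, one_ne_zero, fun v hv => ?_⟩, ?_, ?_⟩
  · rw [one_smul, eich_act]
    have hw' : Rat F₀ Φ ((-x ^ q) • Φ.k) := (rat_k Φ).smul Φ (neg_mem (S.pow_mem hx))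
    refine (hv.add Φ (hw'.smul Φ (hv.herm Φ hF (rat_e Φ)))).add Φ ((rat_e Φ).smul Φ ?_)
    exact sub_mem (mul_mem hμ0 (hv.herm Φ hF (rat_e Φ))) (hv.herm Φ hF hw')
  · exact eich_self hF _ _ _ _ _ _
  · show hh (act _ Φ.k) Φ.f = x
    rw [eich_act, Φ.ke, herm_smul_right, Φ.kk, neg_pow_q hF, pow_q_q hF]
    simp [herm_add_left, herm_smul_left, Φ.kf, Φ.ef]

theorem inX_P (hF : Fintype.card F = q ^ 2) {g : SU 3 F q} (hg : g ∈ Φ.P) (h1 : phi Φ g ∈ F₀)
    (h2 : mu Φ g ∈ F₀) : InX F₀ Φ g := by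
  refine inX_of_rat Φ (one_ne_zero (α := F)) ?_ ?_ ?_ <;> rw [one_smul]
  · rw [(mem_P Φ).1 hg]; exact rat_e Φ
  · rw [act_f hF Φ hg]
    exact (((rat_e Φ).smul Φ h2).add Φ (rat_f Φ)).add Φ
      ((rat_k Φ).smul Φ (neg_mem (_root_.pow_mem h1 q)))
  · rw [act_k hF Φ hg]
    exact ((rat_e Φ).smul Φ h1).add Φ (rat_k Φ)

/-- A diagonal element. -/
theorem exists_torus' (hF : Fintype.card F = q ^ 2) {a : F} (ha : a ≠ 0) :
    ∃ t : SU 3 F q, act t Φ.e = a • Φ.e ∧ act t Φ.f = (a ^ q)⁻¹ • Φ.f ∧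
      act t Φ.k = (a ^ q / a) • Φ.k := by
  let w : Fin 3 → F := ![a, (a ^ q)⁻¹, a ^ q / a]
  have hd : (Matrix.diagonal w).det = 1 := by
    rw [Matrix.det_diagonal, Fin.prod_univ_three]
    simp [w]
    field_simp
  have hC : ∀ v u, hc q (Matrix.diagonal w *ᵥ v) (Matrix.diagonal w *ᵥ u) = hc q v u := by
    intro v u
    have haq := pow_ne_zero q ha
    simp only [hc, Matrix.mulVec_diagonal, w, Matrix.cons_val_zero, Matrix.cons_val_one,
      Matrix.cons_val, mul_pow, div_pow, inv_pow, pow_q_q hF]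
    field_simp
  refine ⟨build Φ hF _ hd hC, ?_, ?_, ?_⟩ <;>
    rw [act_build] <;>
    simp [coord, vof, vec, w, Matrix.mulVec_diagonal, Φ.ee, Φ.ef, Φ.ek, Φ.fe, Φ.ff, Φ.fk, Φ.ke,
      Φ.kf, Φ.kk]

/-- The coordinate matrix of a matrix acting on the basis `(d e, f)`. -/
def planeMat {hF : Fintype.card F = q ^ 2} (d : F) (A : SL(2, fixedF hF)) : Matrix (Fin 3) (Fin 3) F :=
  !![(A.1 0 0 : F), d * (A.1 0 1 : F), 0; (A.1 1 0 : F) / d, (A.1 1 1 : F), 0; 0, 0, 1]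

theorem planeMat_det {hF : Fintype.card F = q ^ 2} {d : F} (hd : d ≠ 0) (A : SL(2, fixedF hF)) :
    (planeMat d A).det = 1 := by
  have h : A.1 0 0 * A.1 1 1 - A.1 0 1 * A.1 1 0 = 1 := by
    rw [← Matrix.det_fin_two]; exact A.2
  have h' := congrArg Subtype.val h
  push_cast at h'
  rw [Matrix.det_fin_three]
  simp [planeMat]
  field_simp
  linear_combination h'

theorem planeMat_hc {hF : Fintype.card F = q ^ 2} {d : F} (hd : d ≠ 0) (hds : d + d ^ q = 0)
    (A : SL(2, fixedF hF)) (v w : Fin 3 → F) :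
    hc q (planeMat d A *ᵥ v) (planeMat d A *ᵥ w) = hc q v w := by
  have h : A.1 0 0 * A.1 1 1 - A.1 0 1 * A.1 1 0 = 1 := by
    rw [← Matrix.det_fin_two]; exact A.2
  have h' := congrArg Subtype.val h
  push_cast at h'
  have hfix : ∀ i j, (A.1 i j : F) ^ q = A.1 i j := fun i j => (A.1 i j).2
  have hdq : d ^ q = -d := by linear_combination hds
  simp [hc, planeMat, Matrix.mulVec, dotProduct, Fin.sum_univ_three, add_pow_q hF, mul_pow, div_pow,
    hfix, hdq]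
  field_simp
  linear_combination (d * (v 0 * w 1 ^ q + v 1 * w 0 ^ q)) * h'

/-- `SL(2)` over the fixed field acting on the plane of `e` and `f`. -/
noncomputable def rho (hF : Fintype.card F = q ^ 2) {d : F} (hd : d ≠ 0) (hds : d + d ^ q = 0) :
    SL(2, fixedF hF) →* SU 3 F q :=
  MonoidHom.mk' (fun A => build Φ hF (planeMat d A) (planeMat_det hd A) (planeMat_hc hd hds A))
    fun A B => by
      refine su_ext fun x => ?_
      rw [act_mul, act_build, act_build, act_build, coord_vof Φ hF, Matrix.mulVec_mulVec]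
      congr 2
      ext i j
      simp only [Matrix.mul_apply, Fin.sum_univ_three]
      fin_cases i <;> fin_cases j <;>
        simp [planeMat, QuadPairSL2.mul_apply] <;> field_simp

theorem act_rho_e (hF : Fintype.card F = q ^ 2) {d : F} (hd : d ≠ 0) (hds : d + d ^ q = 0)
    (A : SL(2, fixedF hF)) :
    act (rho Φ hF hd hds A) Φ.e = (A.1 0 0 : F) • Φ.e + ((A.1 1 0 : F) / d) • Φ.f := by
  show act (build Φ hF (planeMat d A) (planeMat_det hd A) (planeMat_hc hd hds A)) Φ.e = _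
  rw [act_build]
  simp [coord, vof, vec, planeMat, Matrix.mulVec, dotProduct, Fin.sum_univ_three, Φ.ee, Φ.ef, Φ.ek]

theorem act_rho_f (hF : Fintype.card F = q ^ 2) {d : F} (hd : d ≠ 0) (hds : d + d ^ q = 0)
    (A : SL(2, fixedF hF)) :
    act (rho Φ hF hd hds A) Φ.f = (d * (A.1 0 1 : F)) • Φ.e + (A.1 1 1 : F) • Φ.f := by
  show act (build Φ hF (planeMat d A) (planeMat_det hd A) (planeMat_hc hd hds A)) Φ.f = _
  rw [act_build]
  simp [coord, vof, vec, planeMat, Matrix.mulVec, dotProduct, Fin.sum_univ_three, Φ.fe, Φ.ff, Φ.fk]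

theorem act_rho_k (hF : Fintype.card F = q ^ 2) {d : F} (hd : d ≠ 0) (hds : d + d ^ q = 0)
    (A : SL(2, fixedF hF)) :
    act (rho Φ hF hd hds A) Φ.k = Φ.k := by
  show act (build Φ hF (planeMat d A) (planeMat_det hd A) (planeMat_hc hd hds A)) Φ.k = _
  rw [act_build]
  simp [coord, vof, vec, planeMat, Matrix.mulVec, dotProduct, Fin.sum_univ_three, Φ.ke, Φ.kf, Φ.kk]

theorem rho_up (hF : Fintype.card F = q ^ 2) {d : F} (hd : d ≠ 0) (hds : d + d ^ q = 0)
    (x : fixedF hF) (hx : d * (x : F) + (d * (x : F)) ^ q = 0) :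
    rho Φ hF hd hds (QuadPairSL2.up x) = tv hF Φ.e (d * (x : F)) Φ.ee hx := by
  refine act_ext Φ ?_ ?_ ?_
  · rw [act_rho_e, tv_act, Φ.ee]; simp
  · rw [act_rho_f, tv_act, Φ.fe]; simp [add_comm]
  · rw [act_rho_k, tv_act, Φ.ke]; simp

theorem rho_lo (hF : Fintype.card F = q ^ 2) {d : F} (hd : d ≠ 0) (hds : d + d ^ q = 0)
    (x : fixedF hF) (hx : (x : F) / d + ((x : F) / d) ^ q = 0) :
    rho Φ hF hd hds (QuadPairSL2.lo x) = tv hF Φ.f ((x : F) / d) Φ.ff hx := by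
  refine act_ext Φ ?_ ?_ ?_
  · rw [act_rho_e, tv_act, Φ.ef]; simp
  · rw [act_rho_f, tv_act, Φ.ff]; simp
  · rw [act_rho_k, tv_act, Φ.kf]; simp

theorem inX_rho (hF : Fintype.card F = q ^ 2) {d : F} (hd : d ≠ 0) (hds : d + d ^ q = 0)
    (hd0 : d ∈ F₀) (A : SL(2, small hF F₀)) :
    InX F₀ Φ (rho Φ hF hd hds (SUThree49SL2.incl (small hF F₀) A)) := by
  refine inX_build Φ hF (planeMat_det hd _) (planeMat_hc hd hds _) fun i j => ?_
  have hA : ∀ i j, ((SUThree49SL2.incl (small hF F₀) A).1 i j : F) ∈ F₀ := fun i j => (A.1 i j).2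
  fin_cases i <;> fin_cases j <;> simp [planeMat] <;>
    first
      | exact zero_mem _
      | exact one_mem _
      | exact hA _ _
      | exact mul_mem hd0 (hA _ _)
      | exact div_mem (hA _ _) hd0

theorem rho_mem_small (hF : Fintype.card F = q ^ 2) {A : SL(2, fixedF hF)}
    (h : ∀ i j, (A.1 i j : F) ∈ F₀) : A ∈ (SUThree49SL2.incl (small hF F₀)).range := by
  refine ⟨⟨Matrix.of fun i j => ⟨A.1 i j, h i j⟩, ?_⟩, Subtype.ext (by ext i j; rfl)⟩
  refine Subtype.ext ?_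
  have hA : A.1 0 0 * A.1 1 1 - A.1 0 1 * A.1 1 0 = 1 := by
    rw [← Matrix.det_fin_two]; exact A.2
  simp only [Matrix.det_fin_two, Matrix.of_apply]
  exact hA

/-- The coordinate matrix of an element. -/
def coordMat (g : SU 3 F q) : Matrix (Fin 3) (Fin 3) F :=
  Matrix.of fun i j => coord Φ (act g ((![Φ.e, Φ.f, Φ.k] : Fin 3 → Fin 3 → F) j)) i

theorem mat_coordMat (g : SU 3 F q) (x : Fin 3 → F) : mat Φ (coordMat Φ g) *ᵥ x = act g x := by
  rw [mat_mulVec]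
  conv_rhs => rw [Φ.span x, act_add, act_add, act_smul, act_smul, act_smul,
    ← vof_coord Φ (act g Φ.e), ← vof_coord Φ (act g Φ.f), ← vof_coord Φ (act g Φ.k)]
  simp [coordMat, vof, vec, coord, Matrix.mulVec, dotProduct, Fin.sum_univ_three]
  module

theorem det_coordMat (g : SU 3 F q) : (coordMat Φ g).det = 1 := by
  rw [← det_mat Φ, show mat Φ (coordMat Φ g) =
    ((g : Matrix.SpecialLinearGroup (Fin 3) F) : Matrix (Fin 3) (Fin 3) F) from
    Matrix.ext_of_mulVec_single fun i => mat_coordMat Φ g _]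
  exact g.1.2

end Cfsg.Agent.SUThree49
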