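import Cfsg.Agent.Lib.SUThree49Setup

/-!
Existence of rational frames, and the subfield subgroup in terms of a rational frame.
-/

set_option autoImplicit false
set_option linter.unusedSectionVars false
set_option linter.unusedVariables false

namespace Cfsg.Agent.SUThree49

open Cfsg Cfsg.Agent.OrthUnitaryHerm Cfsg.Agent.OrthUnitaryTransvection Cfsg.Agent.OrthUnitaryMaximal
open Cfsg.Agent.MinIndexPSU3Geo89
open Cfsg.Agent.SUThree44Base (vec dep_of_iso_orth)
open scoped Matrix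

variable {F : Type*} [Field F] [Fintype F] {q q0 r : ℕ} {F₀ : Subfield F}

local notation "hh" => hermForm 3 F q

theorem exists_mkFrame (hF : Fintype.card F = q ^ 2) {e f k : Fin 3 → F} (hee : hh e e = 0)
    (hff : hh f f = 0) (hfe : hh f e = 1) (hke : hh k e = 0) (hkf : hh k f = 0) (hkk : hh k k = 1) :
    ∃ Φ : Frame q F, Φ.e = e ∧ Φ.f = f ∧ Φ.k = k := by
  have hef : hh e f = 1 := by rw [herm_conj hF f e, hfe, one_pow]
  have hek := herm_skew_zero hF hke
  have hfk := herm_skew_zero hF hkf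
  have lin : LinearIndependent F ![e, f, k] := by
    rw [Fintype.linearIndependent_iff]
    intro g hg
    simp [Fin.sum_univ_three] at hg
    have a1 := congrArg (fun x => hh x f) hg
    have a2 := congrArg (fun x => hh x e) hg
    have a3 := congrArg (fun x => hh x k) hg
    simp only [herm_add_left, herm_smul_left, herm_zero_left, hef, hff, hkf, hee, hfe, hke, hek,
      hfk, hkk] at a1 a2 a3
    simp at a1 a2 a3
    intro i; fin_cases i <;> assumption
  refine ⟨⟨e, f, k, hee, hff, hef, hfe, hke, hkf, hek, hfk, hkk, fun x => ?_⟩, rfl, rfl, rfl⟩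
  have hx : x ∈ Submodule.span F (Set.range ![e, f, k]) :=
    lin.span_eq_top_of_card_eq_finrank (by simp) ▸ Submodule.mem_top
  obtain ⟨c, hc⟩ := (Submodule.mem_span_range_iff_exists_fun F).1 hx
  simp [Fin.sum_univ_three] at hc
  rw [← hc]
  simp only [herm_add_left, herm_smul_left, hef, hff, hkf, hee, hfe, hke, hek, hfk, hkk]
  simp

/-- A rational structure carrying the form. -/
structure RMap (q : ℕ) (L : (Fin 3 → F₀) →ₗ[F₀] (Fin 3 → F)) : Prop where
  inj : Function.Injective L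
  herm : ∀ u v, hermForm 3 F q (L u) (L v) ∈ F₀
  span : ∀ G : (Fin 3 → F) →ₗ[F] F, (∀ u, G (L u) = 0) → ∀ x, G x = 0

namespace RMap

variable {L : (Fin 3 → F₀) →ₗ[F₀] (Fin 3 → F)}

theorem smul_mem (hL : RMap q L) {c : F} (hc : c ∈ F₀) (u : Fin 3 → F₀) :
    ∃ w, L w = c • L u := ⟨(⟨c, hc⟩ : F₀) • u, by rw [map_smul]; rfl⟩

theorem exists_ker (hL : RMap q L) (c d : Fin 3 → F₀) :
    ∃ w : Fin 3 → F₀, w ≠ 0 ∧ hh (L w) (L c) = 0 ∧ hh (L w) (L d) = 0 := by
  let T : (Fin 3 → F₀) →ₗ[F₀] (Fin 2 → F₀) :=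
    { toFun := fun u => ![⟨_, hL.herm u c⟩, ⟨_, hL.herm u d⟩]
      map_add' := fun u v => by
        funext i
        fin_cases i <;> exact Subtype.ext (by simp [map_add, herm_add_left])
      map_smul' := fun a u => by
        funext i
        fin_cases i <;> exact Subtype.ext (by
          show hh (L (a • u)) _ = (a : F) * hh (L u) _
          rw [map_smul]; exact herm_smul_left _ _ _) }
  have : LinearMap.ker T ≠ ⊥ := LinearMap.ker_ne_bot_of_finrank_lt (by simp)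
  obtain ⟨w, hw, hw0⟩ := Submodule.exists_mem_ne_zero_of_ne_bot this
  rw [LinearMap.mem_ker] at hw
  exact ⟨w, hw0, congrArg Subtype.val (congrFun hw 0), congrArg Subtype.val (congrFun hw 1)⟩

theorem exists_iso_perp (hL : RMap q L) (S : Sub q q0 r F₀) (c : Fin 3 → F₀) :
    ∃ e : Fin 3 → F₀, L e ≠ 0 ∧ hh (L e) (L e) = 0 ∧ hh (L e) (L c) = 0 := by
  have hF := S.hF
  have hne : ∀ {u}, u ≠ 0 → L u ≠ 0 := fun hu h => hu (hL.inj (h.trans (map_zero L).symm))
  obtain ⟨u, hu0, huc, -⟩ := hL.exists_ker c c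
  by_cases hu : hh (L u) (L u) = 0
  · exact ⟨u, hne hu0, hu, huc⟩
  obtain ⟨v, hv0, hvc, hvu⟩ := hL.exists_ker c u
  by_cases hv : hh (L v) (L v) = 0
  · exact ⟨v, hne hv0, hv, hvc⟩
  obtain ⟨x, hx, hxn⟩ := S.exists_norm0 (a := -(hh (L v) (L v) / hh (L u) (L u)))
    (neg_mem (div_mem (hL.herm v v) (hL.herm u u)))
    (by rw [neg_pow_q hF, div_pow, herm_self_pow hF, herm_self_pow hF])
  obtain ⟨u', hu'⟩ := hL.smul_mem hx u
  have huv := herm_skew_zero hF hvu
  refine ⟨u' + v, fun h => hv ?_, ?_, ?_⟩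
  · have := congrArg (fun z => hh z (L v)) h
    simpa [map_add, hu', herm_add_left, herm_smul_left, huv, herm_zero_left] using this
  · simp only [map_add, hu', herm_add_left, herm_add_right hF, herm_smul_left, herm_smul_right, huv,
      hvu]
    rw [pow_succ'] at hxn
    have : x * x ^ q * hh (L u) (L u) = -hh (L v) (L v) := by
      rw [hxn, neg_mul, div_mul_cancel₀ _ hu]
    linear_combination this
  · rw [map_add, hu', herm_add_left, herm_smul_left, huc, hvc]; ring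

theorem exists_hyp (hL : RMap q L) (S : Sub q q0 r F₀) {e : Fin 3 → F₀} (he0 : L e ≠ 0)
    (he : hh (L e) (L e) = 0) (c : Fin 3 → F₀) (hc : hh (L c) (L c) = 1 ∨ L c = 0)
    (hce : hh (L c) (L e) = 0) :
    ∃ f : Fin 3 → F₀, hh (L f) (L f) = 0 ∧ hh (L f) (L e) = 1 ∧ hh (L f) (L c) = 0 := by
  have hF := S.hF
  obtain ⟨w, hw⟩ : ∃ w, hh (L w) (L e) ≠ 0 := by
    by_contra hn
    push Not at hn
    obtain ⟨z, hz⟩ := exists_herm_ne hF he0
    exact hz (hL.span (hermL q (L e)) hn z)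
  obtain ⟨w1, hw1⟩ := hL.smul_mem (inv_mem (hL.herm w e)) w
  obtain ⟨c1, hc1⟩ := hL.smul_mem (hL.herm w1 c) c
  have h2e : hh (L (w1 - c1)) (L e) = 1 := by
    rw [map_sub, herm_sub_left, hc1, hw1, herm_smul_left, herm_smul_left, hce, inv_mul_cancel₀ hw]
    ring
  have h2c : hh (L (w1 - c1)) (L c) = 0 := by
    rw [map_sub, herm_sub_left, hc1, herm_smul_left]
    rcases hc with h | h
    · rw [h]; ring
    · rw [h, herm_zero_right hF]; ring
  obtain ⟨t, ht, ht'⟩ := S.exists_trace0 (a := -hh (L (w1 - c1)) (L (w1 - c1)))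
    (neg_mem (hL.herm _ _)) (by rw [neg_pow_q hF, herm_self_pow hF])
  obtain ⟨e1, he1⟩ := hL.smul_mem ht e
  refine ⟨w1 - c1 + e1, ?_, ?_, ?_⟩
  · rw [map_add, he1]
    have h3 : hh (L e) (L (w1 - c1)) = 1 := by rw [herm_conj hF, h2e, one_pow]
    simp only [herm_add_left, herm_add_right hF, herm_smul_left, herm_smul_right, he, h2e, h3]
    linear_combination ht'
  · rw [map_add, he1, herm_add_left, herm_smul_left, he, h2e]; ring
  · rw [map_add, he1, herm_add_left, herm_smul_left, h2c, herm_skew_zero hF hce]; ring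

theorem exists_frame_at (hL : RMap q L) (S : Sub q q0 r F₀) {e : Fin 3 → F₀} (he0 : L e ≠ 0)
    (he : hh (L e) (L e) = 0) :
    ∃ (Φ : Frame q F) (f k : Fin 3 → F₀), Φ.e = L e ∧ Φ.f = L f ∧ Φ.k = L k := by
  have hF := S.hF
  obtain ⟨f, hff, hfe, -⟩ := hL.exists_hyp S he0 he 0 (Or.inr (map_zero L))
    (by rw [map_zero, herm_zero_left])
  obtain ⟨k, hk0, hke, hkf⟩ := hL.exists_ker e f
  have hkk : hh (L k) (L k) ≠ 0 := fun h => by
    obtain ⟨a, ha⟩ := dep_of_iso_orth hF he0 he h hke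
    have hef : hh (L e) (L f) = 1 := by rw [herm_conj hF, hfe, one_pow]
    rw [ha, herm_smul_left, hef, mul_one] at hkf
    rw [hkf, zero_smul] at ha
    exact hk0 (hL.inj (ha.trans (map_zero L).symm))
  obtain ⟨x, hx, hxn⟩ := S.exists_norm0 (a := (hh (L k) (L k))⁻¹) (inv_mem (hL.herm k k))
    (by rw [inv_pow, herm_self_pow hF])
  obtain ⟨k1, hk1⟩ := hL.smul_mem hx k
  obtain ⟨Φ, h1, h2, h3⟩ := exists_mkFrame hF (k := L k1) he hff hfe
    (by rw [hk1, herm_smul_left, hke, mul_zero]) (by rw [hk1, herm_smul_left, hkf, mul_zero])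
    (by rw [hk1, herm_smul_left, herm_smul_right, ← mul_assoc, ← pow_succ', hxn, inv_mul_cancel₀ hkk])
  exact ⟨Φ, f, k1, h1, h2, h3⟩

theorem exists_frame_unit (hL : RMap q L) (S : Sub q q0 r F₀) {c : Fin 3 → F₀}
    (hc : hh (L c) (L c) = 1) :
    ∃ (Φ : Frame q F) (e f : Fin 3 → F₀), Φ.e = L e ∧ Φ.f = L f ∧ Φ.k = L c := by
  obtain ⟨e, he0, he, hec⟩ := hL.exists_iso_perp S c
  have hce := herm_skew_zero S.hF hec
  obtain ⟨f, hff, hfe, hfc⟩ := hL.exists_hyp S he0 he c (Or.inl hc) hce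
  obtain ⟨Φ, h1, h2, h3⟩ := exists_mkFrame S.hF he hff hfe hce (herm_skew_zero S.hF hfc) hc
  exact ⟨Φ, e, f, h1, h2, h3⟩

end RMap

/-! ### The rational vectors of a frame -/

variable (F₀) (Φ : Frame q F)

/-- Scalar extension in a frame. -/
def frameMap : (Fin 3 → F₀) →ₗ[F₀] (Fin 3 → F) where
  toFun u := vof Φ fun i => (u i : F)
  map_add' u v := by
    show vec Φ _ _ _ = vec Φ _ _ _ + vec Φ _ _ _
    simp [vec, add_smul]; abel
  map_smul' a u := by
    show vec Φ _ _ _ = (a : F) • vec Φ _ _ _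
    simp [vec, smul_add, smul_smul]

variable {F₀}

theorem exists_frameMap {v : Fin 3 → F} (hv : Rat F₀ Φ v) : ∃ u, frameMap F₀ Φ u = v :=
  ⟨fun i => ⟨coord Φ v i, (rat_iff_coord Φ).1 hv i⟩, vof_coord Φ v⟩

theorem rat_frameMap (hF : Fintype.card F = q ^ 2) (u : Fin 3 → F₀) :
    Rat F₀ Φ (frameMap F₀ Φ u) := by
  show Rat F₀ Φ (vof Φ fun i => (u i : F))
  exact rat_vof Φ hF (c := fun i => (u i : F)) fun i => (u i).2

theorem frameMap_rmap (hF : Fintype.card F = q ^ 2) : RMap q (frameMap F₀ Φ) where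
  inj u v h := by
    funext i
    refine Subtype.ext ?_
    have := congrArg (fun x => coord Φ x i) h
    simpa [frameMap, coord_vof Φ hF] using this
  herm u v := (rat_frameMap Φ hF u).herm Φ hF (rat_frameMap Φ hF v)
  span G hG x := by
    have hz : ∀ v, Rat F₀ Φ v → G v = 0 := fun v hv => by
      obtain ⟨u, rfl⟩ := exists_frameMap Φ hv
      exact hG u
    rw [Φ.span x]
    simp [map_add, map_smul, hz _ (rat_e Φ), hz _ (rat_f Φ), hz _ (rat_k Φ)]

theorem exists_rframe_at (S : Sub q q0 r F₀) {v : Fin 3 → F} (hv : Rat F₀ Φ v) (hv0 : v ≠ 0)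
    (hvv : hh v v = 0) : ∃ Φ' : Frame q F, RFrame F₀ Φ Φ' ∧ Φ'.e = v := by
  obtain ⟨u, rfl⟩ := exists_frameMap Φ hv
  obtain ⟨Φ', f, k, h1, h2, h3⟩ := (frameMap_rmap Φ S.hF).exists_frame_at S hv0 hvv
  refine ⟨Φ', ⟨?_, ?_, ?_⟩, h1⟩
  · rw [h1]; exact rat_frameMap Φ S.hF _
  · rw [h2]; exact rat_frameMap Φ S.hF _
  · rw [h3]; exact rat_frameMap Φ S.hF _

theorem exists_rframe_unit (S : Sub q q0 r F₀) {v : Fin 3 → F} (hv : Rat F₀ Φ v)
    (hvv : hh v v = 1) : ∃ Φ' : Frame q F, RFrame F₀ Φ Φ' ∧ Φ'.k = v := by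
  obtain ⟨u, rfl⟩ := exists_frameMap Φ hv
  obtain ⟨Φ', e, f, h1, h2, h3⟩ := (frameMap_rmap Φ S.hF).exists_frame_unit S hvv
  refine ⟨Φ', ⟨?_, ?_, ?_⟩, h3⟩
  · rw [h1]; exact rat_frameMap Φ S.hF _
  · rw [h2]; exact rat_frameMap Φ S.hF _
  · rw [h3]; exact rat_frameMap Φ S.hF _

open SubfieldRational in
/-- A rational frame for a rational structure, with the subfield subgroup read in it. -/
theorem exists_ratFrame (S : Sub q q0 r F₀) (P : GL (Fin 3) F)
    (hP : Geo.IsFormRationalStructure hh F₀ 1 P) :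
    ∃ Φ : Frame q F, ∀ g : SU 3 F q, toGLn g ∈ Geo.subfieldSubgroup F₀ P ↔ InX F₀ Φ g := by
  let L : (Fin 3 → F₀) →ₗ[F₀] (Fin 3 → F) :=
    { toFun := rat P, map_add' := rat_add P, map_smul' := rat_smul P }
  have hL : RMap q L :=
    { inj := rat_injective P
      herm := fun u v => by
        have := hP (emb u) (emb v) (fun i => (u i).2) (fun i => (v i).2)
        rwa [one_mul] at this
      span := fun G hG => eq_zero_of_rat P G hG }
  obtain ⟨e, he0, he, -⟩ := hL.exists_iso_perp S 0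
  obtain ⟨Φ, f, k, h1, h2, h3⟩ := hL.exists_frame_at S he0 he
  have hto : ∀ u, Rat F₀ Φ (rat P u) := fun u => by
    unfold Rat
    rw [h1, h2, h3]
    exact ⟨hL.herm u f, hL.herm u e, hL.herm u k⟩
  have hfrom : ∀ v, Rat F₀ Φ v → ∃ u, rat P u = v := fun v hv => by
    obtain ⟨a, ha⟩ := hL.smul_mem hv.1 e
    obtain ⟨b, hb⟩ := hL.smul_mem hv.2.1 f
    obtain ⟨c, hc⟩ := hL.smul_mem hv.2.2 k
    refine ⟨a + b + c, ?_⟩
    change L _ = v
    rw [map_add, map_add, ha, hb, hc, ← h1, ← h2, ← h3]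
    exact (Φ.span v).symm
  refine ⟨Φ, fun g => ⟨fun hg => ?_, ?_⟩⟩
  · obtain ⟨g', hg', hgg⟩ := Subgroup.mem_map.mp hg
    obtain ⟨_, ⟨h, rfl⟩, b, hb, rfl⟩ := Subgroup.mem_sup_of_normal_right.mp hg'
    obtain ⟨c, hc⟩ := (Cfsg.Geo.mem_scalars_iff b).mp hb
    have key : ∀ u, act g (rat P u) = (c : F) • rat P ((h : Matrix (Fin 3) (Fin 3) F₀) *ᵥ u) := by
      intro u
      rw [← toGLn_act, ← hgg, map_mul, TransvectionMax.mul_act, ← lift_act P h u, ← Matrix.mulVec_smul]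
      congr 1
      change ((P * b * P⁻¹ : GL (Fin 3) F) : Matrix (Fin 3) (Fin 3) F) *ᵥ rat P u = _
      rw [rat, TransvectionMax.mul_act, TransvectionMax.mul_act, TransvectionMax.inv_act_act, hc,
        Matrix.smul_mulVec, Matrix.one_mulVec, Matrix.mulVec_smul]
    refine ⟨(c : F)⁻¹, inv_ne_zero c.ne_zero, fun v hv => ?_⟩
    obtain ⟨u, rfl⟩ := hfrom v hv
    rw [key, smul_smul, inv_mul_cancel₀ c.ne_zero, one_smul]
    exact hto _
  · rintro ⟨b, hb0, hb⟩
    rw [mem_subfieldSubgroup_iff]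
    intro u
    obtain ⟨w, hw⟩ := hfrom _ (hb _ (hto u))
    refine ⟨b⁻¹, w, ?_⟩
    rw [toGLn_act, hw, smul_smul, inv_mul_cancel₀ hb0, one_smul]

end Cfsg.Agent.SUThree49
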