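import Cfsg.Agent.Lib.SUThree49Keys

/-!
Fixed points of elements of prime order of the subfield subgroup.
-/

set_option autoImplicit false
set_option linter.unusedSectionVars false
set_option linter.unusedVariables false

namespace Cfsg.Agent.SUThree49

open Cfsg Cfsg.Agent.OrthUnitaryHerm Cfsg.Agent.OrthUnitaryTransvection Cfsg.Agent.OrthUnitaryMaximal
open Cfsg.Agent.MinIndexPSU3Geo89 Cfsg.Agent.MinIndexPSU3Stab89
open Cfsg.Agent.SUThree44Base (vec)
open scoped Matrix MatrixGroups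

variable {F : Type*} [Field F] [Fintype F] {q q0 r : ℕ} {F₀ : Subfield F}

local notation "hh" => hermForm 3 F q

variable {Φ : Frame q F} {M : Subgroup (SU 3 F q)}

theorem rat_pow_scaled {g : SU 3 F q} {b : F}
    (hb : ∀ v, Rat F₀ Φ v → Rat F₀ Φ (b • act g v)) :
    ∀ (n : ℕ) v, Rat F₀ Φ v → Rat F₀ Φ (b ^ n • act (g ^ n) v) := by
  intro n
  induction n with
  | zero => intro v hv; rw [pow_zero, pow_zero, one_smul, act_one]; exact hv
  | succ n ih =>
    intro v hv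
    rw [pow_succ' g, act_mul, pow_succ' b, ← smul_smul, ← act_smul]
    exact hb _ (ih v hv)

/-- An element of order the characteristic preserves the rational vectors themselves. -/
theorem rat_of_order_p (S : Sub q q0 r F₀) {p : ℕ} [Fact p.Prime] [CharP F p] {d : SU 3 F q}
    (hd : InX F₀ Φ d) (hdp : d ^ p = 1) {v : Fin 3 → F} (hv : Rat F₀ Φ v) :
    Rat F₀ Φ (act d v) := by
  obtain ⟨b, hb0, hb⟩ := hd
  have h := rat_pow_scaled hb p Φ.e (rat_e Φ)
  rw [hdp, act_one] at h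
  have hbF : b ∈ F₀ := S.mem_of_pow_prime ((rat_e Φ).of_smul Φ (e_ne_zero Φ) h)
  have := (hb v hv).smul Φ (inv_mem hbF)
  rwa [smul_smul, inv_mul_cancel₀ hb0, one_smul] at this

theorem eq_one_of_fix {g : SU 3 F q} (he : act g Φ.e = Φ.e) (hf : act g Φ.f = Φ.f)
    (hk : act g Φ.k = Φ.k) : g = 1 :=
  act_ext Φ (by rw [he, act_one]) (by rw [hf, act_one]) (by rw [hk, act_one])

/-- An element of order the characteristic fixes a rational isotropic vector. -/
theorem fix_of_p (S : Sub q q0 r F₀) {p : ℕ} [Fact p.Prime] [CharP F p] {d : SU 3 F q}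
    (hd : InX F₀ Φ d) (hdp : d ^ p = 1) (hd1 : d ≠ 1) :
    ∃ Φ' : Frame q F, RFrame F₀ Φ Φ' ∧ d ∈ Φ'.P := by
  classical
  have hF := S.hF
  obtain ⟨v0, hv0, hne⟩ : ∃ v, Rat F₀ Φ v ∧ act d v ≠ v := by
    by_contra h
    push Not at h
    exact hd1 (eq_one_of_fix (h _ (rat_e Φ)) (h _ (rat_f Φ)) (h _ (rat_k Φ)))
  set A : Matrix (Fin 3) (Fin 3) F :=
    ((d : Matrix.SpecialLinearGroup (Fin 3) F) : Matrix (Fin 3) (Fin 3) F) with hA
  haveI : CharP (Matrix (Fin 3) (Fin 3) F) p := inferInstance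
  have hnil : (A - 1) ^ p = 0 := by
    rw [sub_pow_char_of_commute p (Commute.one_right A), one_pow, sub_eq_zero]
    have := congrArg (fun g : SU 3 F q =>
      ((g : Matrix.SpecialLinearGroup (Fin 3) F) : Matrix (Fin 3) (Fin 3) F)) hdp
    simpa [hA] using this
  have hN : ∀ x, (A - 1) *ᵥ x = act d x - x := fun x => by
    rw [Matrix.sub_mulVec, Matrix.one_mulVec]; rfl
  have hrat : ∀ j : ℕ, Rat F₀ Φ ((A - 1) ^ j *ᵥ v0) := by
    intro j
    induction j with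
    | zero => rw [pow_zero, Matrix.one_mulVec]; exact hv0
    | succ j ih =>
      rw [pow_succ', ← Matrix.mulVec_mulVec, hN]
      exact (rat_of_order_p S hd hdp ih).sub Φ ih
  have hex : ∃ m : ℕ, (A - 1) ^ m *ᵥ v0 = 0 := ⟨p, by rw [hnil, Matrix.zero_mulVec]⟩
  have hm := Nat.find_spec hex
  have hm1 : 2 ≤ Nat.find hex := by
    by_contra h
    have hz : (A - 1) ^ 1 *ᵥ v0 = 0 := by
      obtain ⟨k, hk⟩ : ∃ k, 1 = k + Nat.find hex := ⟨1 - Nat.find hex, by omega⟩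
      rw [hk, pow_add, ← Matrix.mulVec_mulVec, hm, Matrix.mulVec_zero]
    rw [pow_one, hN, sub_eq_zero] at hz
    exact hne hz
  obtain ⟨j, hj⟩ : ∃ j, Nat.find hex = j + 2 := ⟨Nat.find hex - 2, by omega⟩
  rw [hj, pow_succ', ← Matrix.mulVec_mulVec, hN, sub_eq_zero] at hm
  have hw0 : (A - 1) ^ (j + 1) *ᵥ v0 ≠ 0 := Nat.find_min hex (by omega)
  have hwr := hrat (j + 1)
  have hwx : (A - 1) ^ (j + 1) *ᵥ v0 = act d ((A - 1) ^ j *ᵥ v0) - (A - 1) ^ j *ᵥ v0 := by
    rw [pow_succ', ← Matrix.mulVec_mulVec, hN]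
  generalize hwdef : (A - 1) ^ (j + 1) *ᵥ v0 = w at hm hw0 hwr hwx
  have hww : hh w w = 0 := by
    conv_lhs => arg 4; rw [hwx]
    rw [herm_sub_left]
    conv_lhs => arg 1; arg 5; rw [← hm]
    rw [herm_act, sub_self]
  obtain ⟨Φ', hΦ', he⟩ := exists_rframe_at Φ S hwr hw0 hww
  exact ⟨Φ', hΦ', by rw [mem_P, he]; exact hm⟩

/-- Conjugate elements of order the characteristic inside the subfield subgroup. -/
theorem Over.key_p (S : Sub q q0 r F₀) (hq : 3 ≤ q) (hM : Over F₀ Φ M) {p : ℕ} [Fact p.Prime]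
    [CharP F p] {g d : SU 3 F q} (hgM : g ∈ M) (hd : InX F₀ Φ d) (hd' : InX F₀ Φ (g⁻¹ * d * g))
    (hdp : d ^ p = 1) (hd1 : d ≠ 1) : InX F₀ Φ g := by
  have hF := S.hF
  obtain ⟨Φ1, h1, hd1P⟩ := fix_of_p S hd hdp hd1
  have hp' : (g⁻¹ * d * g) ^ p = 1 := by
    have := conj_pow (i := p) (a := g⁻¹) (b := d)
    rw [inv_inv] at this
    rw [this, hdp, mul_one, inv_mul_cancel]
  have hne : g⁻¹ * d * g ≠ 1 := fun h => hd1 (by
    have : g * (g⁻¹ * d * g) * g⁻¹ = 1 := by rw [h, mul_one, mul_inv_cancel]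
    rwa [show g * (g⁻¹ * d * g) * g⁻¹ = d by group] at this)
  obtain ⟨Φ2, h2, hd2P⟩ := fix_of_p S hd' hp' hne
  have hfix : act d (act g Φ2.e) = act g Φ2.e := by
    have := (mem_P Φ2).1 hd2P
    rw [act_mul, act_mul] at this
    have h3 := congrArg (act g) this
    rwa [act_act_inv] at h3
  have hline : mkLine (act g Φ2.e) (act_ne_zero g (e_ne_zero Φ2)) (by rw [herm_act, Φ2.ee]) = Φ1.line := by
    by_contra hne'
    refine hd1 (semiregular hF Φ1 hd1P hne' ?_)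
    rw [smul_mkLine]
    exact Subtype.ext (by show lineOf (act d (act g Φ2.e)) = _; rw [hfix]; rfl)
  obtain ⟨a, -, ha⟩ := mkLine_eq hline
  exact hM.key S hq hgM h2.1 (e_ne_zero Φ2) Φ2.ee h1.1 ha

/-- An involution of the subfield subgroup, the characteristic being odd, is a rational homology. -/
theorem hom_of_invol (S : Sub q q0 r F₀) (h2 : (2 : F) ≠ 0) {u : SU 3 F q} (hu : InX F₀ Φ u)
    (hu2 : u * u = 1) (hu1 : u ≠ 1) :
    ∃ Φ' : Frame q F, RFrame F₀ Φ Φ' ∧ act u Φ'.e = -Φ'.e ∧ act u Φ'.f = -Φ'.f ∧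
      act u Φ'.k = Φ'.k := by
  have hF := S.hF
  obtain ⟨b, hb0, hb⟩ := hu
  have huu : ∀ v, act u (act u v) = v := fun v => by rw [← act_mul, hu2, act_one]
  have hb2 : b ^ 2 ∈ F₀ := by
    have h := rat_pow_scaled hb 2 Φ.e (rat_e Φ)
    rw [sq u, hu2, act_one] at h
    exact (rat_e Φ).of_smul Φ (e_ne_zero Φ) h
  have hb3 : b ^ 3 ∈ F₀ := by
    have h0 : ∀ i j, b * coordMat Φ u i j ∈ F₀ := fun i j => by
      have hr : Rat F₀ Φ (b • act u ((![Φ.e, Φ.f, Φ.k] : Fin 3 → Fin 3 → F) j)) := by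
        refine hb _ ?_
        fin_cases j
        exacts [rat_e Φ, rat_f Φ, rat_k Φ]
      have := (rat_iff_coord Φ).1 hr i
      fin_cases i <;> simpa [coordMat, coord, herm_smul_left] using this
    have := det_coordMat Φ u
    rw [Matrix.det_fin_three] at this
    have e : b ^ 3 = b ^ 3 * 1 := (mul_one _).symm
    rw [← this] at e
    rw [e]
    have hm := fun i j k l m n => mul_mem (mul_mem (h0 i j) (h0 k l)) (h0 m n)
    have key := sub_mem (add_mem (add_mem (sub_mem (sub_mem (hm 0 0 1 1 2 2) (hm 0 0 1 2 2 1))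
      (hm 0 1 1 0 2 2)) (hm 0 1 1 2 2 0)) (hm 0 2 1 0 2 1)) (hm 0 2 1 1 2 0)
    convert key using 1
    ring
  have hbF : b ∈ F₀ := by
    have := div_mem hb3 hb2
    rwa [show b ^ 3 / b ^ 2 = b by field_simp] at this
  have hrat : ∀ v, Rat F₀ Φ v → Rat F₀ Φ (act u v) := fun v hv => by
    have := (hb v hv).smul Φ (inv_mem hbF)
    rwa [smul_smul, inv_mul_cancel₀ hb0, one_smul] at this
  have hfix : ∀ v, act u (v + act u v) = v + act u v := fun v => by rw [act_add, huu, add_comm]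
  obtain ⟨c, hc, hc0, hcu⟩ : ∃ c, Rat F₀ Φ c ∧ c ≠ 0 ∧ act u c = c := by
    by_contra h
    push Not at h
    have hneg : ∀ v, Rat F₀ Φ v → act u v = (-1 : F) • v := fun v hv => by
      rw [neg_one_smul]
      by_contra h'
      exact h (v + act u v) (hv.add Φ (hrat v hv))
        (fun h0 => h' (eq_neg_of_add_eq_zero_right h0)) (hfix v)
    have := det_coordMat Φ u
    rw [Matrix.det_fin_three] at this
    simp [coordMat, coord, hneg _ (rat_e Φ), hneg _ (rat_f Φ), hneg _ (rat_k Φ), -neg_smul,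
      herm_smul_left, Φ.ee, Φ.ef, Φ.ek, Φ.fe, Φ.ff, Φ.fk, Φ.ke, Φ.kf, Φ.kk] at this
    exact h2 (by linear_combination -this)
  obtain ⟨c', hc', hcu', hcc⟩ : ∃ c', Rat F₀ Φ c' ∧ act u c' = c' ∧ hh c' c' ≠ 0 := by
    by_cases hcc : hh c c = 0
    swap
    · exact ⟨c, hc, hcu, hcc⟩
    obtain ⟨z, hz, hzc⟩ : ∃ z, Rat F₀ Φ z ∧ hh c z ≠ 0 := by
      by_contra hn
      push Not at hn
      apply hc0
      rw [Φ.span c, hn _ (rat_f Φ), hn _ (rat_e Φ), hn _ (rat_k Φ)]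
      simp
    obtain ⟨z', hz'def⟩ : ∃ z', z' = z + act u z := ⟨_, rfl⟩
    have hz' : Rat F₀ Φ z' := hz'def ▸ hz.add Φ (hrat z hz)
    have hzu : act u z' = z' := hz'def ▸ hfix z
    have h3 : hh c z' = 2 * hh c z := by
      have h4 := herm_act u c z
      rw [hcu] at h4
      rw [hz'def, herm_add_right hF, h4]
      ring
    by_cases hzz : hh z' z' = 0
    swap
    · exact ⟨z', hz', hzu, hzz⟩
    obtain ⟨s, hs, hs1⟩ := S.exists_trace0 (one_mem F₀) (one_pow q)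
    have hne : hh z' c ≠ 0 := herm_skew_ne hF (by rw [h3]; exact mul_ne_zero h2 hzc)
    refine ⟨c + (s / hh z' c) • z', hc.add Φ (hz'.smul Φ (div_mem hs (hz'.herm Φ hF hc))),
      by rw [act_add, act_smul, hcu, hzu], ?_⟩
    simp only [herm_add_left, herm_add_right hF, herm_smul_left, herm_smul_right, hcc, hzz,
      mul_zero, add_zero, zero_add]
    rw [div_pow, ← herm_conj hF z' c, div_mul_cancel₀ _ hne,
      div_mul_cancel₀ _ (herm_skew_ne hF hne)]
    intro hz0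
    exact one_ne_zero (α := F) (by linear_combination hz0 - hs1)
  obtain ⟨x, hx, hxn⟩ := S.exists_norm0 (a := (hh c' c')⁻¹) (inv_mem (hc'.herm Φ hF hc'))
    (by rw [inv_pow, herm_self_pow hF])
  obtain ⟨Φ', hΦ', hk⟩ := exists_rframe_unit Φ S (hc'.smul Φ hx)
    (by rw [herm_smul_left, herm_smul_right, ← mul_assoc, ← pow_succ', hxn, inv_mul_cancel₀ hcc])
  have huk : act u Φ'.k = Φ'.k := by rw [hk, act_smul, hcu']
  have hek : hh (act u Φ'.e) Φ'.k = 0 := by rw [← huk, herm_act, Φ'.ek]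
  have hfk : hh (act u Φ'.f) Φ'.k = 0 := by rw [← huk, herm_act, Φ'.fk]
  have he := Φ'.span (act u Φ'.e)
  have hf := Φ'.span (act u Φ'.f)
  rw [hek, zero_smul, add_zero] at he
  rw [hfk, zero_smul, add_zero] at hf
  obtain ⟨a, ha⟩ : ∃ a, a = hh (act u Φ'.e) Φ'.f := ⟨_, rfl⟩
  obtain ⟨g, hg⟩ : ∃ g, g = hh (act u Φ'.e) Φ'.e := ⟨_, rfl⟩
  obtain ⟨β, hβ⟩ : ∃ β, β = hh (act u Φ'.f) Φ'.f := ⟨_, rfl⟩
  obtain ⟨δ, hδ⟩ : ∃ δ, δ = hh (act u Φ'.f) Φ'.e := ⟨_, rfl⟩
  rw [← ha, ← hg] at he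
  rw [← hβ, ← hδ] at hf
  have hdet : a * δ - β * g = 1 := by
    have := det_coordMat Φ' u
    rw [Matrix.det_fin_three] at this
    simp [coordMat, coord, hek, hfk, huk, ← ha, ← hg, ← hβ, ← hδ, Φ'.ke, Φ'.kf, Φ'.kk] at this
    linear_combination this
  have e2 : (a * a + g * β) • Φ'.e + (g * (a + δ)) • Φ'.f = Φ'.e := by
    have h := huu Φ'.e
    rw [he, act_add, act_smul, act_smul, he, hf] at h
    rw [← sub_eq_zero] at h ⊢
    rw [← h]; module
  have f2 : (β * (a + δ)) • Φ'.e + (g * β + δ * δ) • Φ'.f = Φ'.f := by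
    have h := huu Φ'.f
    rw [hf, act_add, act_smul, act_smul, he, hf] at h
    rw [← sub_eq_zero] at h ⊢
    rw [← h]; module
  have c1 := congrArg (fun z => hh z Φ'.f) e2
  have c2 := congrArg (fun z => hh z Φ'.e) e2
  have c3 := congrArg (fun z => hh z Φ'.f) f2
  simp only [herm_add_left, herm_smul_left, Φ'.ee, Φ'.ef, Φ'.fe, Φ'.ff, mul_one, mul_zero,
    add_zero, zero_add] at c1 c2 c3
  have hsum : a * (a + δ) = 2 := by linear_combination c1 + hdet
  have hne : a + δ ≠ 0 := fun h => h2 (by rw [← hsum, h, mul_zero])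
  have hg0 : g = 0 := (mul_eq_zero.1 c2).resolve_right hne
  have hβ0 : β = 0 := (mul_eq_zero.1 c3).resolve_right hne
  rw [hg0, zero_smul, add_zero] at he
  rw [hβ0, zero_smul, zero_add] at hf
  rw [hg0, mul_zero, sub_zero] at hdet
  rw [hg0, zero_mul, add_zero] at c1
  have hδa : δ = a := by linear_combination a * hdet - δ * c1
  rcases mul_self_eq_one_iff.1 c1 with h | h
  · exfalso
    refine hu1 (eq_one_of_fix (Φ := Φ') ?_ ?_ huk)
    · rw [he, h, one_smul]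
    · rw [hf, hδa, h, one_smul]
  · exact ⟨Φ', hΦ', by rw [he, h, neg_one_smul], by rw [hf, hδa, h, neg_one_smul], huk⟩

end Cfsg.Agent.SUThree49
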