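import Cfsg.Agent.Lib.SUThree49Elements

/-!
An overgroup of the subfield subgroup: its root groups at rational points are rational, and an element
moving a rational isotropic line to a rational line lies in the subfield subgroup.
-/

set_option autoImplicit false
set_option linter.unusedSectionVars false
set_option linter.unusedVariables false

namespace Cfsg.Agent.SUThree49

open Cfsg Cfsg.Agent.OrthUnitaryHerm Cfsg.Agent.OrthUnitaryTransvection Cfsg.Agent.OrthUnitaryMaximal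
open Cfsg.Agent.MinIndexPSU3Geo89 Cfsg.Agent.MinIndexPSU3Stab89
open Cfsg.Agent.SUThree44Base (vec)
open scoped Matrix MatrixGroups

variable {F : Type*} [Field F] [Fintype F] {q q0 r : ℕ} {F₀ : Subfield F}

local notation "hh" => hermForm 3 F q

/-- A proper overgroup of the subfield subgroup. -/
structure Over (F₀ : Subfield F) (Φ : Frame q F) (M : Subgroup (SU 3 F q)) : Prop where
  sub : ∀ g, InX F₀ Φ g → g ∈ M
  ne : M ≠ ⊤

variable {Φ : Frame q F} {M : Subgroup (SU 3 F q)}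

theorem Over.congr (hF : Fintype.card F = q ^ 2) (hM : Over F₀ Φ M) {Φ' : Frame q F}
    (h : RFrame F₀ Φ Φ') : Over F₀ Φ' M :=
  ⟨fun g hg => hM.sub g ((inX_congr hF h g).1 hg), hM.ne⟩

theorem InX.mul {g h : SU 3 F q} (hg : InX F₀ Φ g) (hh' : InX F₀ Φ h) : InX F₀ Φ (g * h) :=
  (xGroup F₀ Φ).mul_mem hg hh'

theorem InX.inv {g : SU 3 F q} (hg : InX F₀ Φ g) : InX F₀ Φ g⁻¹ := (xGroup F₀ Φ).inv_mem hg

theorem exists_fixed_notMem (S : Sub q q0 r F₀) : ∃ x : fixedF S.hF, x ∉ small S.hF F₀ := by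
  by_contra h
  push Not at h
  have h1 : Nat.card (small S.hF F₀) = Nat.card (fixedF S.hF) :=
    Nat.card_congr (Equiv.subtypeUnivEquiv h)
  rw [card_small S, card_fixedF] at h1
  exact absurd h1 S.lt.ne

theorem small_pow (S : Sub q q0 r F₀) : Nat.card (small S.hF F₀) ^ r = Nat.card (fixedF S.hF) := by
  rw [card_small S, card_fixedF, ← S.hqq]

/-- Root elements of a proper overgroup at a rational point are rational. -/
theorem Over.root_rat (S : Sub q q0 r F₀) (hq : 3 ≤ q) (hM : Over F₀ Φ M) {c : F}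
    (hc : c ∈ rootAdd S.hF Φ M) : c ∈ F₀ := by
  have hF := S.hF
  by_contra hc0
  obtain ⟨d, hd0, hd, hds⟩ := S.exists_skew0
  have hcs : c + c ^ q = 0 := rootAdd_le S.hF Φ M hc
  have hdq : d ^ q = -d := by linear_combination hds
  let x : fixedF hF := ⟨c / d, by
    show (c / d) ^ q = c / d
    rw [div_pow, hdq, show c ^ q = -c by linear_combination hcs, neg_div_neg_eq]⟩
  have hskew : ∀ y : fixedF hF, d * (y : F) + (d * (y : F)) ^ q = 0 := fun y => by
    rw [mul_pow, hdq, show (y : F) ^ q = y from y.2]; ring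
  let J := M.comap (rho Φ hF hd hds)
  have hR : ∀ A, SUThree49SL2.incl (small hF F₀) A ∈ J := fun A =>
    hM.sub _ (inX_rho Φ hF hd hds hd0 A)
  have hxJ : QuadPairSL2.up x ∈ J := by
    show rho Φ hF hd hds (QuadPairSL2.up x) ∈ M
    rw [rho_up Φ hF hd hds x (hskew x), tv_mem_iff hF Φ M (hskew x)]
    show d * (c / d) ∈ _
    rwa [mul_div_cancel₀ _ hd]
  have hx0 : x ∉ small hF F₀ := fun h => hc0 (by
    have := mul_mem hd0 (show c / d ∈ F₀ from h)
    rwa [mul_div_cancel₀ _ hd] at this)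
  have hall : ∀ y, QuadPairSL2.up y ∈ J := by
    intro y
    rcases Nat.lt_or_ge (Nat.card (small hF F₀)) 3 with h3 | h3
    · have h2 : Nat.card (small hF F₀) = 2 := by
        have := S.two_le
        rw [card_small S] at h3 ⊢; omega
      refine SUThree49SL2.gen_two (small hF F₀) S.prime S.odd (small_pow S) h2 J ?_ ?_
        (l := x) ?_ ?_ hxJ y
      · have := hR (QuadPairSL2.up 1); rwa [SUThree49SL2.incl_up] at this
      · have := hR (QuadPairSL2.lo 1); rwa [SUThree49SL2.incl_lo] at this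
      · exact fun h => hx0 (h ▸ zero_mem _)
      · exact fun h => hx0 (h ▸ one_mem _)
    · refine SUThree49SL2.gen_big (small hF F₀) S.prime S.odd (small_pow S) h3 J hR hxJ ?_ y
      rintro ⟨A, hA⟩
      have := congrArg (fun B : SL(2, fixedF hF) => B.1 0 1) hA
      simp [SUThree49SL2.incl_coe] at this
      exact hx0 (this ▸ (A.1 0 1).2)
  have hcen : Centre M Φ.e := by
    refine (centre_iff hF Φ.ee).2 fun c' hc' => ?_
    let y : fixedF hF := ⟨c' / d, by
      show (c' / d) ^ q = c' / d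
      rw [div_pow, hdq, show c' ^ q = -c' by linear_combination hc', neg_div_neg_eq]⟩
    have h := hall y
    change rho Φ hF hd hds (QuadPairSL2.up y) ∈ M at h
    rw [rho_up Φ hF hd hds y (hskew y)] at h
    convert h using 2
    show c' = d * (c' / d)
    rw [mul_div_cancel₀ _ hd]
  refine hM.ne (SUThree44Base.top_of_root hF hq (e_ne_zero Φ) hcen fun v hv => ?_)
  by_contra hfix
  push Not at hfix
  have hde : d + d ^ q = 0 := hds
  have hdf : d⁻¹ + d⁻¹ ^ q = 0 := by rw [inv_pow, hdq, inv_neg, add_neg_cancel]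
  have he' : InX F₀ Φ (tv hF Φ.e d Φ.ee hde) := inX_tv Φ hF (rat_e Φ) Φ.ee hde hd0
  have hf' : InX F₀ Φ (tv hF Φ.f d⁻¹ Φ.ff hdf) := inX_tv Φ hF (rat_f Φ) Φ.ff hdf (inv_mem hd0)
  obtain ⟨g, hgX, hgP, hg1⟩ := exists_phi Φ S (one_mem F₀)
  obtain ⟨a, ha⟩ := hfix _ (hM.sub _ he')
  obtain ⟨b, hb⟩ := hfix _ (hM.sub _ hf')
  obtain ⟨l, hl⟩ := hfix _ (hM.sub _ hgX)
  rw [tv_act] at ha hb
  have e1 : hh v Φ.e = 0 := by
    by_contra h0
    have h1 := congrArg (fun z => hh z Φ.e) ha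
    simp only [herm_add_left, herm_smul_left, Φ.ee, mul_zero, add_zero] at h1
    have ha1 : a = 1 := mul_right_cancel₀ h0 (h1.symm.trans (one_mul _).symm)
    have h2 := congrArg (fun z => hh z Φ.f) ha
    simp only [herm_add_left, herm_smul_left, Φ.ef, ha1] at h2
    exact h0 ((mul_eq_zero.1 (show d * hh v Φ.e = 0 by linear_combination h2)).resolve_left hd)
  have e2 : hh v Φ.f = 0 := by
    by_contra h0
    have h1 := congrArg (fun z => hh z Φ.f) hb
    simp only [herm_add_left, herm_smul_left, Φ.ff, mul_zero, add_zero] at h1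
    have hb1 : b = 1 := mul_right_cancel₀ h0 (h1.symm.trans (one_mul _).symm)
    have h2 := congrArg (fun z => hh z Φ.e) hb
    simp only [herm_add_left, herm_smul_left, Φ.fe, hb1] at h2
    exact h0 ((mul_eq_zero.1 (show d⁻¹ * hh v Φ.f = 0 by linear_combination h2)).resolve_left
      (inv_ne_zero hd))
  have hx := Φ.span v
  rw [e1, e2, zero_smul, zero_smul, zero_add, zero_add] at hx
  have hk0 : hh v Φ.k ≠ 0 := fun h0 => hv (by rw [hx, h0, zero_smul])
  rw [hx, act_smul, act_k hF Φ hgP, hg1] at hl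
  have h3 := congrArg (fun z => hh z Φ.f) hl
  simp only [herm_add_left, herm_smul_left, Φ.ef, Φ.kf] at h3
  exact hk0 (by linear_combination h3)

theorem Over.phi_rat (S : Sub q q0 r F₀) (hq : 3 ≤ q) (hM : Over F₀ Φ M) {x : F}
    (hx : x ∈ phiAdd S.hF Φ M) : x ∈ F₀ := by
  have hy : ∀ y ∈ F₀, dd q x y ∈ F₀ := fun y hy => by
    obtain ⟨g, hgX, hgP, hg⟩ := exists_phi Φ S hy
    exact hM.root_rat S hq (dd_mem_root S.hF Φ M hx ⟨g, hM.sub _ hgX, hgP, hg⟩)
  obtain ⟨t, ht, htq⟩ := S.exists_nonfix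
  have h1 := hy 1 (one_mem _)
  have h2 := hy t ht
  unfold dd at h1 h2
  have h3 : x * (t - t ^ q) ∈ F₀ := by
    have := sub_mem h2 (mul_mem ht h1)
    convert this using 1
    rw [one_pow]; ring
  have := div_mem h3 (sub_mem ht (S.pow_mem ht))
  rwa [mul_div_cancel_right₀ _ (sub_ne_zero.2 (Ne.symm htq))] at this

theorem Over.inX_of_P (S : Sub q q0 r F₀) (hq : 3 ≤ q) (hM : Over F₀ Φ M) {g : SU 3 F q}
    (hgM : g ∈ M) (hgP : g ∈ Φ.P) : InX F₀ Φ g := by
  have hx : phi Φ g ∈ F₀ := hM.phi_rat S hq ⟨g, hgM, hgP, rfl⟩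
  obtain ⟨h, hhX, hhP, hh'⟩ := exists_phi Φ S hx
  have hu : g * h⁻¹ ∈ Φ.P := mul_mem hgP (inv_mem hhP)
  have hp := phi_mul S.hF Φ hu hhP
  rw [inv_mul_cancel_right, hh'] at hp
  have h0 : phi Φ (g * h⁻¹) = 0 := by linear_combination -hp
  have hm : mu Φ (g * h⁻¹) ∈ F₀ :=
    hM.root_rat S hq ⟨_, mul_mem hgM (inv_mem (hM.sub _ hhX)), hu, h0, rfl⟩
  have := (inX_P Φ S.hF hu (h0 ▸ zero_mem _) hm).mul hhX
  rwa [inv_mul_cancel_right] at this

/-- An element of an overgroup fixing the line of `e` is in the subfield subgroup. -/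
theorem Over.inX_of_line (S : Sub q q0 r F₀) (hq : 3 ≤ q) (hM : Over F₀ Φ M) {g : SU 3 F q}
    (hgM : g ∈ M) {a : F} (ha : a ≠ 0) (hg : act g Φ.e = a • Φ.e) : InX F₀ Φ g := by
  have hF := S.hF
  obtain ⟨d, hd0, hd, hds⟩ := S.exists_skew0
  have h1 : a ^ (q + 1) ∈ F₀ := by
    have hr : d ∈ rootAdd hF Φ M :=
      (tv_mem_iff hF Φ M hds).1 (hM.sub _ (inX_tv Φ hF (rat_e Φ) Φ.ee hds hd0))
    have := div_mem (hM.root_rat S hq (root_smul_mem hF Φ M hgM ha hg hr)) hd0
    rwa [mul_div_cancel_right₀ _ hd] at this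
  have h2 : a ^ 2 / a ^ q ∈ F₀ := by
    obtain ⟨x, hxX, hxP, hx⟩ := exists_phi Φ S (one_mem F₀)
    have hp : (1 : F) ∈ phiAdd hF Φ M := ⟨x, hM.sub _ hxX, hxP, hx⟩
    have := hM.phi_rat S hq (phi_smul_mem hF Φ M hgM ha hg hp)
    rwa [mul_one] at this
  obtain ⟨t, te, tf, tk⟩ := exists_torus' Φ hF ha
  have haq := pow_ne_zero q ha
  have htX : InX F₀ Φ t := by
    refine inX_of_rat Φ (b := a / a ^ q) (div_ne_zero ha haq) ?_ ?_ ?_
    · rw [te, smul_smul]
      refine (rat_e Φ).smul Φ ?_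
      convert h2 using 1
      field_simp
    · rw [tf, smul_smul]
      refine (rat_f Φ).smul Φ ?_
      convert div_mem h2 h1 using 1
      field_simp
      rw [pow_succ]; ring
    · rw [tk, smul_smul]
      refine (rat_k Φ).smul Φ ?_
      convert one_mem F₀ using 1
      field_simp
  have hP : t⁻¹ * g ∈ Φ.P := by
    have := congrArg (act t⁻¹) te
    rw [act_inv_act, act_smul] at this
    rw [mem_P, act_mul, hg, act_smul, ← this]
  have := htX.mul (hM.inX_of_P S hq (mul_mem (inv_mem (hM.sub _ htX)) hgM) hP)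
  rwa [mul_inv_cancel_left] at this

/-- An element taking a rational isotropic line to a rational line is in the subfield subgroup. -/
theorem Over.key (S : Sub q q0 r F₀) (hq : 3 ≤ q) (hM : Over F₀ Φ M) {g : SU 3 F q}
    (hgM : g ∈ M) {v w : Fin 3 → F} (hv : Rat F₀ Φ v) (hv0 : v ≠ 0) (hvv : hh v v = 0)
    (hw : Rat F₀ Φ w) {a : F} (hg : act g v = a • w) : InX F₀ Φ g := by
  have hF := S.hF
  have ha : a ≠ 0 := fun h => act_ne_zero g hv0 (by rw [hg, h, zero_smul])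
  have hw0 : w ≠ 0 := fun h => act_ne_zero g hv0 (by rw [hg, h, smul_zero])
  have hww : hh w w = 0 := by
    have := herm_act g v v
    rw [hg, herm_smul_left, herm_smul_right, hvv] at this
    simpa [ha] using this
  obtain ⟨Φv, hΦv, rfl⟩ := exists_rframe_at Φ S hv hv0 hvv
  obtain ⟨Φw, hΦw, rfl⟩ := exists_rframe_at Φ S hw hw0 hww
  obtain ⟨h, hhX, hhe, -⟩ := exists_map Φv hF (rframe_trans hF (rframe_symm hF hΦv) hΦw)
  have hMv := hM.congr hF hΦv
  have h1 : act (h⁻¹ * g) Φv.e = a • Φv.e := by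
    rw [act_mul, hg, act_smul, ← hhe, act_inv_act]
  have h2 := hMv.inX_of_line S hq (mul_mem (inv_mem (hMv.sub _ hhX)) hgM) ha h1
  have h3 := hhX.mul h2
  rw [mul_inv_cancel_left] at h3
  exact (inX_congr hF hΦv g).1 h3

theorem Over.rho_rat (S : Sub q q0 r F₀) (hq : 3 ≤ q) (hq0 : 3 ≤ q0) (hM : Over F₀ Φ M) {d : F}
    (hd0 : d ∈ F₀) (hd : d ≠ 0) (hds : d + d ^ q = 0) {A : SL(2, fixedF S.hF)}
    (hA : rho Φ S.hF hd hds A ∈ M) : A ∈ (SUThree49SL2.incl (small S.hF F₀)).range := by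
  have hF := S.hF
  by_contra hA0
  obtain ⟨x, hx⟩ := exists_fixed_notMem S
  have hdq : d ^ q = -d := by linear_combination hds
  have hs : d * (x : F) + (d * (x : F)) ^ q = 0 := by
    rw [mul_pow, hdq, show (x : F) ^ q = x from x.2]; ring
  have h := SUThree49SL2.gen_big (small hF F₀) S.prime S.odd (small_pow S)
    (by rw [card_small S]; exact hq0) (M.comap (rho Φ hF hd hds))
    (fun A => hM.sub _ (inX_rho Φ hF hd hds hd0 A)) hA hA0 x
  rw [Subgroup.mem_comap, rho_up Φ hF hd hds x hs, tv_mem_iff hF Φ M hs] at h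
  have := div_mem (hM.root_rat S hq h) hd0
  rw [mul_div_cancel_left₀ _ hd] at this
  exact hx this

/-- An element fixing the line of the unit vector of the frame is in the subfield subgroup. -/
theorem Over.inX_of_unit (S : Sub q q0 r F₀) (hq : 3 ≤ q) (hq0 : 3 ≤ q0) (hM : Over F₀ Φ M)
    {g : SU 3 F q} (hgM : g ∈ M) {l : F} (hg : act g Φ.k = l • Φ.k) : InX F₀ Φ g := by
  have hF := S.hF
  have hk0 : Φ.k ≠ 0 := fun h => by
    have := Φ.kk; rw [h, herm_zero_left] at this; exact zero_ne_one this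
  have hl : l ≠ 0 := fun h => act_ne_zero g hk0 (by rw [hg, h, zero_smul])
  obtain ⟨d, hd0, hd, hds⟩ := S.exists_skew0
  have hdq : d ^ q = -d := by linear_combination hds
  have hvk : hh (act g Φ.e) Φ.k = 0 := by
    have h1 := herm_act g Φ.e Φ.k
    rw [hg, herm_smul_right, Φ.ek] at h1
    exact (mul_eq_zero.1 h1).resolve_left (pow_ne_zero _ hl)
  obtain ⟨v, hvdef⟩ : ∃ v, v = act g Φ.e := ⟨_, rfl⟩
  rw [← hvdef] at hvk
  have hsp : v = hh v Φ.f • Φ.e + hh v Φ.e • Φ.f := by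
    conv_lhs => rw [Φ.span v, hvk, zero_smul, add_zero]
  have hvv : hh v v = 0 := by rw [hvdef, herm_act, Φ.ee]
  have hv0 : v ≠ 0 := hvdef ▸ act_ne_zero g (e_ne_zero Φ)
  obtain ⟨α, hα⟩ : ∃ α, α = hh v Φ.f := ⟨_, rfl⟩
  obtain ⟨β, hβ⟩ : ∃ β, β = hh v Φ.e := ⟨_, rfl⟩
  rw [← hα, ← hβ] at hsp
  have hev : hh Φ.e v = β ^ q := by rw [hβ, ← herm_conj hF]
  have hfv : hh Φ.f v = α ^ q := by rw [hα, ← herm_conj hF]
  have hkv : hh Φ.k v = 0 := herm_skew_zero hF hvk
  have hiso : α * β ^ q + β * α ^ q = 0 := by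
    have h1 := hvv
    conv_lhs at h1 => arg 4; rw [hsp]
    rw [herm_add_left, herm_smul_left, herm_smul_left, hev, hfv] at h1
    exact h1
  have hfix1 : ∀ y : F, y ^ q = y → (1 + y) ^ q = 1 + y := fun y hy => by
    rw [add_pow_q hF, one_pow, hy]
  have f00 : (1 + d * β ^ q * α) ^ q = 1 + d * β ^ q * α := hfix1 _ (by
    rw [mul_pow, mul_pow, hdq, pow_q_q hF]; linear_combination -d * hiso)
  have f11 : (1 + d * α ^ q * β) ^ q = 1 + d * α ^ q * β := hfix1 _ (by
    rw [mul_pow, mul_pow, hdq, pow_q_q hF]; linear_combination -d * hiso)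
  have f01 : (α ^ (q + 1)) ^ q = α ^ (q + 1) := by rw [pow_succ, mul_pow, pow_q_q hF]; ring
  have f10 : (d ^ 2 * β ^ (q + 1)) ^ q = d ^ 2 * β ^ (q + 1) := by
    rw [mul_pow, ← pow_mul d, mul_comm 2 q, pow_mul, hdq, pow_succ β, mul_pow, pow_q_q hF]; ring
  let A : SL(2, fixedF hF) := ⟨!![⟨1 + d * β ^ q * α, f00⟩, ⟨α ^ (q + 1), f01⟩;
      ⟨d ^ 2 * β ^ (q + 1), f10⟩, ⟨1 + d * α ^ q * β, f11⟩], by
    rw [Matrix.det_fin_two_of]
    refine Subtype.ext ?_
    push_cast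
    rw [pow_succ, pow_succ]
    linear_combination d * hiso⟩
  have hy : rho Φ hF hd hds A = tv hF v d hvv hds := by
    refine act_ext Φ ?_ ?_ ?_
    · rw [act_rho_e, tv_act, hev, hsp]
      show ((1 + d * β ^ q * α : F)) • Φ.e + ((d ^ 2 * β ^ (q + 1) : F) / d) • Φ.f = _
      rw [smul_add, smul_smul, smul_smul, show d ^ 2 * β ^ (q + 1) / d = d * β ^ q * β by
        field_simp; rw [pow_succ]]
      module
    · rw [act_rho_f, tv_act, hfv, hsp]
      show ((d * α ^ (q + 1) : F)) • Φ.e + ((1 + d * α ^ q * β : F)) • Φ.f = _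
      rw [smul_add, smul_smul, smul_smul, pow_succ]
      module
    · rw [act_rho_k, tv_act, hkv]; simp
  have hconj : tv hF v d hvv hds = g * tv hF Φ.e d Φ.ee hds * g⁻¹ := by
    refine su_ext fun x => ?_
    rw [act_mul, act_mul, tv_act, tv_act, act_add, act_smul, act_act_inv, ← hvdef,
      ← herm_act g (act g⁻¹ x) Φ.e, act_act_inv, ← hvdef]
  obtain ⟨B, hB⟩ := hM.rho_rat S hq hq0 hd0 hd hds (A := A) (by
    rw [hy, hconj]
    exact mul_mem (mul_mem hgM (hM.sub _ (inX_tv Φ hF (rat_e Φ) Φ.ee hds hd0))) (inv_mem hgM))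
  have hent : ∀ i j, (A.1 i j : F) ∈ F₀ := fun i j => by rw [← hB]; exact (B.1 i j).2
  have m00 : d * β ^ q * α ∈ F₀ := by
    have := sub_mem (show (1 + d * β ^ q * α : F) ∈ F₀ from hent 0 0) (one_mem F₀)
    simpa using this
  have m10 : d ^ 2 * β ^ (q + 1) ∈ F₀ := hent 1 0
  by_cases hb : β = 0
  · refine hM.key S hq hgM (rat_e Φ) (e_ne_zero Φ) Φ.ee (rat_e Φ) (a := α) ?_
    rw [← hvdef, hsp, hb, zero_smul, add_zero]
  · have hab : α / β ∈ F₀ := by
      have := div_mem m00 (div_mem m10 hd0)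
      convert this using 1
      field_simp
      rw [pow_succ]; ring
    refine hM.key S hq hgM (rat_e Φ) (e_ne_zero Φ) Φ.ee
      (((rat_e Φ).smul Φ hab).add Φ (rat_f Φ)) (a := β) ?_
    rw [← hvdef, hsp, smul_add, smul_smul, mul_div_cancel₀ _ hb]

/-- An element taking a rational unit line to a rational unit line is in the subfield subgroup. -/
theorem Over.key_unit (S : Sub q q0 r F₀) (hq : 3 ≤ q) (hq0 : 3 ≤ q0) (hM : Over F₀ Φ M)
    {g : SU 3 F q} (hgM : g ∈ M) {v w : Fin 3 → F} (hv : Rat F₀ Φ v) (hvv : hh v v = 1)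
    (hw : Rat F₀ Φ w) (hww : hh w w = 1) {a : F} (hg : act g v = a • w) : InX F₀ Φ g := by
  have hF := S.hF
  obtain ⟨Φv, hΦv, rfl⟩ := exists_rframe_unit Φ S hv hvv
  obtain ⟨Φw, hΦw, rfl⟩ := exists_rframe_unit Φ S hw hww
  obtain ⟨h, hhX, -, -, c, hc, hhk⟩ := exists_map Φv hF (rframe_trans hF (rframe_symm hF hΦv) hΦw)
  have hMv := hM.congr hF hΦv
  have h0 : Φw.k = c⁻¹ • act h Φv.k := by rw [hhk, smul_smul, inv_mul_cancel₀ hc, one_smul]
  have h1 : act (h⁻¹ * g) Φv.k = (a * c⁻¹) • Φv.k := by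
    rw [act_mul, hg, h0, act_smul, act_smul, act_inv_act, smul_smul]
  have h2 := hMv.inX_of_unit S hq hq0 (mul_mem (inv_mem (hMv.sub _ hhX)) hgM) h1
  have h3 := hhX.mul h2
  rw [mul_inv_cancel_left] at h3
  exact (inX_congr hF hΦv g).1 h3

end Cfsg.Agent.SUThree49
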