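import Cfsg.Agent.Lib.SUThree44Base
import Cfsg.Agent.Lib.SubfieldRational

/-!
Rational frames for a subfield of odd prime index and the subfield subgroup of `SU_3(q)` in a frame.
-/

set_option autoImplicit false
set_option linter.unusedSectionVars false
set_option linter.unusedVariables false

namespace Cfsg.Agent.SUThree49

open Cfsg Cfsg.Agent.OrthUnitaryHerm Cfsg.Agent.OrthUnitaryTransvection Cfsg.Agent.OrthUnitaryMaximal
open Cfsg.Agent.MinIndexPSU3Geo89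
open Cfsg.Agent.SUThree44Base (vec)
open scoped Matrix

variable {F : Type*} [Field F] [Fintype F] {q q0 r : ℕ} {F₀ : Subfield F}

local notation "hh" => hermForm 3 F q

/-- The numerical hypotheses on the subfield. -/
structure Sub (q q0 r : ℕ) (F₀ : Subfield F) : Prop where
  hF : Fintype.card F = q ^ 2
  card0 : Nat.card F₀ = q0 ^ 2
  prime : r.Prime
  odd : Odd r
  hqq : q = q0 ^ r

theorem exists_sub (hF : Fintype.card F = q ^ 2) (hr : r.Prime) (hodd : Odd r)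
    (hc : Fintype.card F = Nat.card F₀ ^ r) : ∃ q0, Sub q q0 r F₀ := by
  obtain ⟨p, f, hp, -, hf, hq⟩ := exists_prime_pow hF
  obtain ⟨a, -, ha⟩ := (Nat.dvd_prime_pow hp).1 (show Nat.card F₀ ∣ p ^ (f * 2) by
    rw [pow_mul, ← hq, ← hF, hc]; exact dvd_pow_self _ hr.ne_zero)
  have he : f * 2 = a * r := Nat.pow_right_injective hp.two_le (by
    show p ^ (f * 2) = p ^ (a * r)
    rw [pow_mul, ← hq, ← hF, hc, ha, pow_mul])
  obtain ⟨b, hb⟩ : 2 ∣ a := (Nat.coprime_two_left.2 hodd).dvd_of_dvd_mul_right ⟨f, by linarith⟩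
  refine ⟨p ^ b, hF, ?_, hr, hodd, ?_⟩
  · rw [ha, hb, ← pow_mul, mul_comm]
  · rw [hq, ← pow_mul]
    congr 1
    rw [hb] at he
    linarith

namespace Sub

variable (S : Sub q q0 r F₀)

include S in
theorem two_le : 2 ≤ q0 := by
  haveI := Fintype.ofFinite F₀
  exact two_le_q (F := F₀) (by rw [← Nat.card_eq_fintype_card, S.card0])

include S in
theorem lt : q0 < q := by
  rw [S.hqq]
  conv_lhs => rw [← pow_one q0]
  exact Nat.pow_lt_pow_right S.two_le S.prime.one_lt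

include S in
theorem pow_q {x : F} (hx : x ∈ F₀) : x ^ q = x ^ q0 := by
  haveI := Fintype.ofFinite F₀
  have h2 : x ^ q0 ^ 2 = x := by
    have := congrArg Subtype.val (FiniteField.pow_card (⟨x, hx⟩ : F₀))
    rwa [← Nat.card_eq_fintype_card, S.card0] at this
  obtain ⟨j, hj⟩ := S.odd
  rw [S.hqq, hj]
  clear hj
  induction j with
  | zero => simp
  | succ j ih => rw [show 2 * (j + 1) + 1 = 2 * j + 1 + 2 by ring, pow_add, pow_mul, ih, ← pow_mul,
      mul_comm, pow_mul, h2]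

include S in
theorem pow_mem {x : F} (hx : x ∈ F₀) : x ^ q ∈ F₀ := _root_.pow_mem hx q

include S in
theorem exists_trace0 {a : F} (ha : a ∈ F₀) (haq : a ^ q = a) : ∃ x ∈ F₀, x + x ^ q = a := by
  haveI := Fintype.ofFinite F₀
  obtain ⟨x, hx⟩ := exists_trace (F := F₀) (q := q0) (by rw [← Nat.card_eq_fintype_card, S.card0])
    (a := ⟨a, ha⟩) (Subtype.ext (by simpa using (S.pow_q ha).symm.trans haq))
  exact ⟨x, x.2, by rw [S.pow_q x.2]; exact congrArg Subtype.val hx⟩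

include S in
theorem exists_norm0 {a : F} (ha : a ∈ F₀) (haq : a ^ q = a) : ∃ x ∈ F₀, x ^ (q + 1) = a := by
  haveI := Fintype.ofFinite F₀
  obtain ⟨x, hx⟩ := exists_norm_eq (F := F₀) (q := q0) (by rw [← Nat.card_eq_fintype_card, S.card0])
    (a := ⟨a, ha⟩) (Subtype.ext (by simpa using (S.pow_q ha).symm.trans haq))
  refine ⟨x, x.2, ?_⟩
  rw [pow_succ, S.pow_q x.2, ← pow_succ]
  exact congrArg Subtype.val hx

include S in
theorem exists_skew0 : ∃ d ∈ F₀, d ≠ 0 ∧ d + d ^ q = 0 := by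
  haveI := Fintype.ofFinite F₀
  obtain ⟨x, hx0, hx⟩ := exists_skew (F := F₀) (q := q0) (by rw [← Nat.card_eq_fintype_card, S.card0])
  exact ⟨x, x.2, fun h => hx0 (Subtype.ext h), by rw [S.pow_q x.2]; exact congrArg Subtype.val hx⟩

include S in
theorem exists_nonfix : ∃ t ∈ F₀, t ^ q ≠ t := by
  haveI := Fintype.ofFinite F₀
  by_contra h
  push Not at h
  have hF0 : Fintype.card F₀ = q0 ^ 2 := by rw [← Nat.card_eq_fintype_card, S.card0]
  have h1 := MinIndexPSU3Stab89.card_fixed (F := F₀) hF0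
  rw [Nat.card_congr (Equiv.subtypeUnivEquiv fun x : F₀ =>
    Subtype.ext (by simpa using (S.pow_q x.2).symm.trans (h x x.2))), S.card0] at h1
  have := S.two_le
  nlinarith

include S in
theorem mem_of_pow_prime {p : ℕ} [CharP F p] [Fact p.Prime] {x : F} (hx : x ^ p ∈ F₀) : x ∈ F₀ := by
  haveI : CharP F₀ p := (RingHom.charP_iff (F₀.subtype : F₀ →+* F) F₀.subtype.injective p).mpr ‹_›
  have hinj : Function.Injective (frobenius F₀ p) := (frobenius F₀ p).injective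
  obtain ⟨y, hy⟩ := (Finite.injective_iff_surjective.1 hinj) ⟨_, hx⟩
  have : (y : F) = x := (frobenius F p).injective (congrArg Subtype.val hy)
  exact this ▸ y.2

include S in
theorem q_ne : q ≠ 0 := q_ne_zero S.hF

end Sub

/-- The fixed field of `x ↦ x^q`. -/
def fixedF (hF : Fintype.card F = q ^ 2) : Subfield F where
  carrier := {x | x ^ q = x}
  mul_mem' {a b} ha hb := by
    show (a * b) ^ q = a * b
    rw [mul_pow, show a ^ q = a from ha, show b ^ q = b from hb]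
  one_mem' := one_pow q
  add_mem' {a b} ha hb := by
    show (a + b) ^ q = a + b
    rw [add_pow_q hF, show a ^ q = a from ha, show b ^ q = b from hb]
  zero_mem' := zero_pow_q hF
  neg_mem' {a} ha := by
    show (-a) ^ q = -a
    rw [neg_pow_q hF, show a ^ q = a from ha]
  inv_mem' a ha := by
    show a⁻¹ ^ q = a⁻¹
    rw [inv_pow, show a ^ q = a from ha]

/-- The fixed field inside the subfield, seen in the fixed field. -/
def small (hF : Fintype.card F = q ^ 2) (F₀ : Subfield F) : Subfield (fixedF hF) :=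
  F₀.comap (fixedF hF).subtype

theorem card_fixedF (hF : Fintype.card F = q ^ 2) : Nat.card (fixedF hF) = q :=
  MinIndexPSU3Stab89.card_fixed hF

theorem card_small (S : Sub q q0 r F₀) : Nat.card (small S.hF F₀) = q0 := by
  haveI := Fintype.ofFinite F₀
  refine (Nat.card_congr ?_).trans (MinIndexPSU3Stab89.card_fixed (F := F₀) (q := q0)
    (by rw [← Nat.card_eq_fintype_card, S.card0]))
  exact
    { toFun := fun x => ⟨⟨x.1.1, x.2⟩, Subtype.ext (by
        show x.1.1 ^ q0 = x.1.1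
        rw [← S.pow_q (show x.1.1 ∈ F₀ from x.2)]
        exact x.1.2)⟩
      invFun := fun x => ⟨⟨x.1.1, by
        show x.1.1 ^ q = x.1.1
        rw [S.pow_q x.1.2]
        exact congrArg Subtype.val x.2⟩, x.1.2⟩
      left_inv := fun x => rfl
      right_inv := fun x => rfl }

/-! ### Coordinates -/

variable (Φ : Frame q F)

/-- The coordinates in a frame. -/
def coord (x : Fin 3 → F) : Fin 3 → F := ![hh x Φ.f, hh x Φ.e, hh x Φ.k]

/-- The vector with given coordinates. -/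
def vof (c : Fin 3 → F) : Fin 3 → F := vec Φ (c 0) (c 1) (c 2)

/-- The form in coordinates. -/
def hc (q : ℕ) (v w : Fin 3 → F) : F := v 0 * w 1 ^ q + v 1 * w 0 ^ q + v 2 * w 2 ^ q

theorem herm_vec_k (hF : Fintype.card F = q ^ 2) (a b c : F) : hh (vec Φ a b c) Φ.k = c := by
  simp [vec, herm_add_left, herm_smul_left, Φ.ek, Φ.fk, Φ.kk]

theorem coord_vof (hF : Fintype.card F = q ^ 2) (c : Fin 3 → F) : coord Φ (vof Φ c) = c := by
  funext i
  fin_cases i
  · exact SUThree44Base.herm_vec_f Φ hF _ _ _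
  · exact SUThree44Base.herm_vec_e Φ hF _ _ _
  · exact herm_vec_k Φ hF _ _ _

theorem vof_coord (x : Fin 3 → F) : vof Φ (coord Φ x) = x := (Φ.span x).symm

theorem herm_vof (hF : Fintype.card F = q ^ 2) (v w : Fin 3 → F) :
    hh (vof Φ v) (vof Φ w) = hc q v w := by
  simp [vof, vec, hc, herm_add_left, herm_add_right hF, herm_smul_left, herm_smul_right,
    Φ.ee, Φ.ef, Φ.ek, Φ.fe, Φ.ff, Φ.fk, Φ.ke, Φ.kf, Φ.kk]
  ring

/-- The matrix with the frame vectors as columns. -/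
def colMat : Matrix (Fin 3) (Fin 3) F := Matrix.of fun i j => (![Φ.e, Φ.f, Φ.k] j) i

/-- The matrix taking coordinates. -/
def rowMat : Matrix (Fin 3) (Fin 3) F :=
  Matrix.of fun i j => hh (Pi.single j 1) (![Φ.f, Φ.e, Φ.k] i)

theorem colMat_mulVec (c : Fin 3 → F) : colMat Φ *ᵥ c = vof Φ c := by
  funext i
  simp [colMat, vof, vec, Matrix.mulVec, dotProduct, Fin.sum_univ_three]
  ring

theorem rowMat_mulVec (x : Fin 3 → F) : rowMat Φ *ᵥ x = coord Φ x := by
  funext i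
  have e : coord Φ x i = hh x ((![Φ.f, Φ.e, Φ.k] : Fin 3 → Fin 3 → F) i) := by fin_cases i <;> rfl
  rw [e]
  simp only [rowMat, Matrix.mulVec, dotProduct, Matrix.of_apply, herm_single_left]
  exact Finset.sum_congr rfl fun j _ => mul_comm _ _

/-- The matrix acting by a given coordinate matrix. -/
def mat (C : Matrix (Fin 3) (Fin 3) F) : Matrix (Fin 3) (Fin 3) F := colMat Φ * C * rowMat Φ

theorem mat_mulVec (C : Matrix (Fin 3) (Fin 3) F) (x : Fin 3 → F) :
    mat Φ C *ᵥ x = vof Φ (C *ᵥ coord Φ x) := by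
  rw [mat, ← Matrix.mulVec_mulVec, ← Matrix.mulVec_mulVec, rowMat_mulVec, colMat_mulVec]

theorem det_mat (C : Matrix (Fin 3) (Fin 3) F) : (mat Φ C).det = C.det := by
  have h : colMat Φ * rowMat Φ = 1 := Matrix.ext_of_mulVec_single fun i => by
    rw [← Matrix.mulVec_mulVec, rowMat_mulVec, colMat_mulVec, vof_coord, Matrix.one_mulVec]
  have hd := congrArg Matrix.det h
  rw [Matrix.det_mul, Matrix.det_one] at hd
  rw [mat, Matrix.det_mul, Matrix.det_mul]
  linear_combination C.det * hd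

theorem isU_mat (hF : Fintype.card F = q ^ 2) {C : Matrix (Fin 3) (Fin 3) F}
    (hC : ∀ v w, hc q (C *ᵥ v) (C *ᵥ w) = hc q v w) : IsU q (mat Φ C) := by
  intro x y
  rw [mat_mulVec, mat_mulVec, herm_vof Φ hF, hC, ← herm_vof Φ hF, vof_coord, vof_coord]

/-- The element with given coordinate matrix. -/
def build (hF : Fintype.card F = q ^ 2) (C : Matrix (Fin 3) (Fin 3) F) (hd : C.det = 1)
    (hC : ∀ v w, hc q (C *ᵥ v) (C *ᵥ w) = hc q v w) : SU 3 F q :=
  mkSU (mat Φ C) ((det_mat Φ C).trans hd) (isU_mat Φ hF hC)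

theorem act_build (hF : Fintype.card F = q ^ 2) (C : Matrix (Fin 3) (Fin 3) F) (hd : C.det = 1)
    (hC : ∀ v w, hc q (C *ᵥ v) (C *ᵥ w) = hc q v w) (x : Fin 3 → F) :
    act (build Φ hF C hd hC) x = vof Φ (C *ᵥ coord Φ x) := mat_mulVec Φ C x

theorem act_ext {g h : SU 3 F q} (he : act g Φ.e = act h Φ.e) (hf : act g Φ.f = act h Φ.f)
    (hk : act g Φ.k = act h Φ.k) : g = h := su_ext fun x => by
  rw [Φ.span x]
  simp only [act_add, act_smul, he, hf, hk]

/-! ### Rational vectors and the subfield subgroup -/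

variable (F₀)

/-- The vectors with coordinates in the subfield. -/
def Rat (v : Fin 3 → F) : Prop := hh v Φ.f ∈ F₀ ∧ hh v Φ.e ∈ F₀ ∧ hh v Φ.k ∈ F₀

/-- A frame of rational vectors. -/
def RFrame (Φ' : Frame q F) : Prop := Rat F₀ Φ Φ'.e ∧ Rat F₀ Φ Φ'.f ∧ Rat F₀ Φ Φ'.k

/-- The elements preserving the rational vectors up to one scalar. -/
def InX (g : SU 3 F q) : Prop :=
  ∃ b : F, b ≠ 0 ∧ ∀ v, Rat F₀ Φ v → Rat F₀ Φ (b • act g v)

/-- The group of such elements. -/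
noncomputable def xGroup : Subgroup (SU 3 F q) :=
  let S : Submonoid (SU 3 F q) :=
    { carrier := {g | InX F₀ Φ g}
      one_mem' := ⟨1, one_ne_zero, fun v hv => by rw [one_smul, act_one]; exact hv⟩
      mul_mem' := by
        rintro g h ⟨b, hb0, hb⟩ ⟨c, hc0, hc⟩
        refine ⟨b * c, mul_ne_zero hb0 hc0, fun v hv => ?_⟩
        rw [act_mul, ← smul_smul, ← act_smul]
        exact hb _ (hc v hv) }
  { S with
    inv_mem' := fun {g} hg => by
      haveI : Finite (SU 3 F q) := inferInstance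
      obtain ⟨n, hn⟩ : ∃ n, orderOf g = n + 1 :=
        ⟨orderOf g - 1, (Nat.sub_add_cancel (orderOf_pos g)).symm⟩
      have h1 : g⁻¹ = g ^ n := inv_eq_of_mul_eq_one_right (by
        rw [← pow_succ', ← hn, pow_orderOf_eq_one])
      rw [h1]
      exact S.pow_mem hg n }

theorem mem_xGroup {g : SU 3 F q} : g ∈ xGroup F₀ Φ ↔ InX F₀ Φ g := Iff.rfl

variable {F₀}

theorem Rat.add {v w : Fin 3 → F} (hv : Rat F₀ Φ v) (hw : Rat F₀ Φ w) : Rat F₀ Φ (v + w) := by
  unfold Rat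
  simp only [herm_add_left]
  exact ⟨add_mem hv.1 hw.1, add_mem hv.2.1 hw.2.1, add_mem hv.2.2 hw.2.2⟩

theorem Rat.smul {v : Fin 3 → F} {c : F} (hc : c ∈ F₀) (hv : Rat F₀ Φ v) : Rat F₀ Φ (c • v) := by
  unfold Rat
  simp only [herm_smul_left]
  exact ⟨mul_mem hc hv.1, mul_mem hc hv.2.1, mul_mem hc hv.2.2⟩

theorem rat_zero : Rat F₀ Φ 0 := by
  unfold Rat
  simp only [herm_zero_left]
  exact ⟨zero_mem _, zero_mem _, zero_mem _⟩

theorem Rat.sub {v w : Fin 3 → F} (hv : Rat F₀ Φ v) (hw : Rat F₀ Φ w) : Rat F₀ Φ (v - w) := by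
  unfold Rat
  simp only [herm_sub_left]
  exact ⟨sub_mem hv.1 hw.1, sub_mem hv.2.1 hw.2.1, sub_mem hv.2.2 hw.2.2⟩

theorem rat_iff_coord {v : Fin 3 → F} : Rat F₀ Φ v ↔ ∀ i, coord Φ v i ∈ F₀ := by
  refine ⟨fun h i => ?_, fun h => ⟨h 0, h 1, h 2⟩⟩
  fin_cases i
  exacts [h.1, h.2.1, h.2.2]

theorem rat_vof (hF : Fintype.card F = q ^ 2) {c : Fin 3 → F} (h : ∀ i, c i ∈ F₀) :
    Rat F₀ Φ (vof Φ c) := by
  rw [rat_iff_coord, coord_vof Φ hF]; exact h

theorem rat_e : Rat F₀ Φ Φ.e := by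
  unfold Rat; rw [Φ.ef, Φ.ee, Φ.ek]; exact ⟨one_mem _, zero_mem _, zero_mem _⟩

theorem rat_f : Rat F₀ Φ Φ.f := by
  unfold Rat; rw [Φ.ff, Φ.fe, Φ.fk]; exact ⟨zero_mem _, one_mem _, zero_mem _⟩

theorem rat_k : Rat F₀ Φ Φ.k := by
  unfold Rat; rw [Φ.kf, Φ.ke, Φ.kk]; exact ⟨zero_mem _, zero_mem _, one_mem _⟩

theorem rframe_self : RFrame F₀ Φ Φ := ⟨rat_e Φ, rat_f Φ, rat_k Φ⟩

theorem Rat.herm (hF : Fintype.card F = q ^ 2) {v w : Fin 3 → F} (hv : Rat F₀ Φ v)
    (hw : Rat F₀ Φ w) : hh v w ∈ F₀ := by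
  rw [← vof_coord Φ v, ← vof_coord Φ w, herm_vof Φ hF]
  rw [rat_iff_coord] at hv hw
  exact add_mem (add_mem (mul_mem (hv 0) (_root_.pow_mem (hw 1) q))
    (mul_mem (hv 1) (_root_.pow_mem (hw 0) q))) (mul_mem (hv 2) (_root_.pow_mem (hw 2) q))

theorem Rat.of_smul {v : Fin 3 → F} {a : F} (hv : Rat F₀ Φ v) (hv0 : v ≠ 0)
    (h : Rat F₀ Φ (a • v)) : a ∈ F₀ := by
  obtain ⟨i, hi⟩ : ∃ i, coord Φ v i ≠ 0 := by
    by_contra hn
    push Not at hn
    apply hv0
    rw [← vof_coord Φ v, funext hn]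
    simp [vof, vec]
  rw [rat_iff_coord] at hv h
  have e : coord Φ (a • v) i = a * coord Φ v i := by
    fin_cases i <;> exact herm_smul_left _ _ _
  have := div_mem (h i) (hv i)
  rwa [e, mul_div_cancel_right₀ _ hi] at this

variable {Φ}

theorem rat_congr (hF : Fintype.card F = q ^ 2) {Φ' : Frame q F} (h : RFrame F₀ Φ Φ')
    (v : Fin 3 → F) : Rat F₀ Φ' v ↔ Rat F₀ Φ v := by
  refine ⟨fun hv => ?_, fun hv => ⟨hv.herm Φ hF h.2.1, hv.herm Φ hF h.1, hv.herm Φ hF h.2.2⟩⟩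
  rw [Φ'.span v]
  exact ((h.1.smul Φ hv.1).add Φ (h.2.1.smul Φ hv.2.1)).add Φ (h.2.2.smul Φ hv.2.2)

theorem inX_congr (hF : Fintype.card F = q ^ 2) {Φ' : Frame q F} (h : RFrame F₀ Φ Φ')
    (g : SU 3 F q) : InX F₀ Φ' g ↔ InX F₀ Φ g := by
  unfold InX
  simp only [rat_congr hF h]

theorem rframe_trans (hF : Fintype.card F = q ^ 2) {Φ' Φ'' : Frame q F} (h : RFrame F₀ Φ Φ')
    (h' : RFrame F₀ Φ' Φ'') : RFrame F₀ Φ Φ'' := by
  unfold RFrame at h'
  simp only [rat_congr hF h] at h'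
  exact h'

theorem rframe_symm (hF : Fintype.card F = q ^ 2) {Φ' : Frame q F} (h : RFrame F₀ Φ Φ') :
    RFrame F₀ Φ' Φ := by
  unfold RFrame
  simp only [rat_congr hF h]
  exact rframe_self Φ

variable (Φ)

theorem inX_of_rat {g : SU 3 F q} {b : F} (hb : b ≠ 0) (he : Rat F₀ Φ (b • act g Φ.e))
    (hf : Rat F₀ Φ (b • act g Φ.f)) (hk : Rat F₀ Φ (b • act g Φ.k)) : InX F₀ Φ g := by
  refine ⟨b, hb, fun v hv => ?_⟩
  rw [Φ.span v]
  simp only [act_add, act_smul, smul_add]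
  rw [smul_comm b, smul_comm b, smul_comm b]
  exact ((he.smul Φ hv.1).add Φ (hf.smul Φ hv.2.1)).add Φ (hk.smul Φ hv.2.2)

theorem inX_tv (hF : Fintype.card F = q ^ 2) {v : Fin 3 → F} (hv : Rat F₀ Φ v) (hv0 : hh v v = 0)
    {c : F} (hc : c + c ^ q = 0) (hc0 : c ∈ F₀) : InX F₀ Φ (tv hF v c hv0 hc) :=
  ⟨1, one_ne_zero, fun w hw => by
    rw [one_smul, tv_act]
    exact hw.add Φ (hv.smul Φ (mul_mem hc0 (hw.herm Φ hF hv)))⟩

theorem inX_build (hF : Fintype.card F = q ^ 2) {C : Matrix (Fin 3) (Fin 3) F} (hd : C.det = 1)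
    (hC : ∀ v w, hc q (C *ᵥ v) (C *ᵥ w) = hc q v w) (h0 : ∀ i j, C i j ∈ F₀) :
    InX F₀ Φ (build Φ hF C hd hC) :=
  ⟨1, one_ne_zero, fun v hv => by
    rw [one_smul, act_build]
    refine rat_vof Φ hF fun i => ?_
    rw [rat_iff_coord] at hv
    simp only [Matrix.mulVec, dotProduct, Fin.sum_univ_three]
    exact add_mem (add_mem (mul_mem (h0 _ _) (hv 0)) (mul_mem (h0 _ _) (hv 1)))
      (mul_mem (h0 _ _) (hv 2))⟩

/-- An element of the subfield subgroup taking one rational frame to another. -/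
theorem exists_map (hF : Fintype.card F = q ^ 2) {Φ' : Frame q F} (h : RFrame F₀ Φ Φ') :
    ∃ g, InX F₀ Φ g ∧ act g Φ.e = Φ'.e ∧ act g Φ.f = Φ'.f ∧
      ∃ c : F, c ≠ 0 ∧ act g Φ.k = c • Φ'.k := by
  let w : Fin 3 → Fin 3 → F := ![Φ'.e, Φ'.f, Φ'.k]
  let C0 : Matrix (Fin 3) (Fin 3) F := Matrix.of fun i j => coord Φ (w j) i
  have h0 : ∀ i j, C0 i j ∈ F₀ := fun i j => by
    show coord Φ (w j) i ∈ F₀
    fin_cases j
    exacts [(rat_iff_coord Φ).1 h.1 i, (rat_iff_coord Φ).1 h.2.1 i, (rat_iff_coord Φ).1 h.2.2 i]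
  have hC0v : ∀ v : Fin 3 → F, vof Φ (C0 *ᵥ v) = vof Φ' v := by
    intro v
    conv_rhs => rw [vof, vec, ← vof_coord Φ Φ'.e, ← vof_coord Φ Φ'.f, ← vof_coord Φ Φ'.k]
    simp [C0, w, vof, vec, Matrix.mulVec, dotProduct, Fin.sum_univ_three]
    module
  have hC0 : ∀ v u, hc q (C0 *ᵥ v) (C0 *ᵥ u) = hc q v u := fun v u => by
    rw [← herm_vof Φ hF, hC0v, hC0v, herm_vof Φ' hF]
  have hd0 : C0.det ^ (q + 1) = 1 := by
    rw [← det_mat Φ]; exact (isU_mat Φ hF hC0).det_pow hF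
  have hdne : C0.det ≠ 0 := fun e => by
    rw [e, zero_pow (Nat.succ_ne_zero q)] at hd0; exact zero_ne_one hd0
  have hdmem : C0.det ∈ F₀ := by
    rw [Matrix.det_fin_three]
    simp only [sub_eq_add_neg]
    repeat' apply add_mem
    all_goals (first | apply neg_mem | skip)
    all_goals exact mul_mem (mul_mem (h0 _ _) (h0 _ _)) (h0 _ _)
  let dg : Fin 3 → F := ![1, 1, C0.det⁻¹]
  let C : Matrix (Fin 3) (Fin 3) F := C0 * Matrix.diagonal dg
  have hd : C.det = 1 := by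
    rw [Matrix.det_mul, Matrix.det_diagonal, Fin.prod_univ_three]
    simp [dg, hdne]
  have hC : ∀ v u, hc q (C *ᵥ v) (C *ᵥ u) = hc q v u := fun v u => by
    rw [← Matrix.mulVec_mulVec, ← Matrix.mulVec_mulVec, hC0]
    have : C0.det⁻¹ * C0.det⁻¹ ^ q = 1 := by rw [← pow_succ', inv_pow, hd0, inv_one]
    simp only [hc, Matrix.mulVec_diagonal, dg, Matrix.cons_val_zero, Matrix.cons_val_one,
      Matrix.cons_val, one_mul, mul_pow]
    linear_combination (v 2 * u 2 ^ q) * this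
  have hc0 : ∀ i j, C i j ∈ F₀ := fun i j => by
    show (C0 * Matrix.diagonal dg) i j ∈ F₀
    rw [Matrix.mul_diagonal]
    refine mul_mem (h0 _ _) ?_
    fin_cases j
    exacts [one_mem _, one_mem _, inv_mem hdmem]
  have himg : ∀ x, act (build Φ hF C hd hC) x = vof Φ' (Matrix.diagonal dg *ᵥ coord Φ x) := by
    intro x
    rw [act_build, ← Matrix.mulVec_mulVec, hC0v]
  refine ⟨build Φ hF C hd hC, inX_build Φ hF hd hC hc0, ?_, ?_, C0.det⁻¹, inv_ne_zero hdne, ?_⟩ <;>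
    rw [himg] <;>
    simp [coord, vof, vec, dg, Matrix.mulVec_diagonal, Φ.ee, Φ.ef, Φ.ek, Φ.fe, Φ.ff, Φ.fk, Φ.ke,
      Φ.kf, Φ.kk]

end Cfsg.Agent.SUThree49
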