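import Cfsg.Agent.Lib.SUThree49Invol
import Cfsg.Agent.S1225

/-!
The subfield subgroup would be strongly embedded in a proper overgroup; for `q₀ ≠ 2` this is impossible.
-/

set_option autoImplicit false
set_option linter.unusedSectionVars false
set_option linter.unusedVariables false

namespace Cfsg.Agent.SUThree49

open Cfsg Cfsg.Agent.OrthUnitaryHerm Cfsg.Agent.OrthUnitaryTransvection Cfsg.Agent.OrthUnitaryMaximal
open Cfsg.Agent.MinIndexPSU3Geo89 Cfsg.Agent.MinIndexPSU3Stab89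
open Cfsg.Agent.SUThree44Base (vec)
open scoped Matrix MatrixGroups

variable {F : Type*} [Field F] [Fintype F] {q q0 r : ℕ} {F₀ : Subfield F}

local notation "hh" => hermForm 3 F q

variable {Φ : Frame q F} {M : Subgroup (SU 3 F q)}

theorem two_ne_of_q0_two (S : Sub q q0 r F₀) (h : q0 = 2) : (2 : F) = 0 := by
  haveI := Fintype.ofFinite F₀
  have h4 := FiniteField.cast_card_eq_zero F₀
  rw [← Nat.card_eq_fintype_card, S.card0, h] at h4
  have h5 : (2 : F₀) * 2 = 0 := by push_cast at h4; linear_combination h4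
  exact congrArg Subtype.val ((mul_self_eq_zero).1 h5)

theorem three_le_q0 (S : Sub q q0 r F₀) (h2 : (2 : F) ≠ 0) : 3 ≤ q0 := by
  have := S.two_le
  by_contra h
  exact h2 (two_ne_of_q0_two S (by omega))

theorem charP_two (h2 : (2 : F) = 0) : CharP F 2 :=
  CharTwo.of_one_ne_zero_of_two_eq_zero one_ne_zero h2

theorem tv_sq (hF : Fintype.card F = q ^ 2) (h2 : (2 : F) = 0) {v : Fin 3 → F} (hv : hh v v = 0) {c : F}
    (hc : c + c ^ q = 0) : tv hF v c hv hc * tv hF v c hv hc = 1 := by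
  refine su_ext fun x => ?_
  rw [act_mul, act_one, tv_act, tv_act, herm_add_left, herm_smul_left, hv, mul_zero, add_zero,
    add_assoc, ← add_smul, show c * hh x v + c * hh x v = 0 by linear_combination c * hh x v * h2,
    zero_smul, add_zero]

theorem tv_ne_one (hF : Fintype.card F = q ^ 2) (Ψ : Frame q F) {c : F} (hc : c + c ^ q = 0)
    (hc0 : c ≠ 0) : tv hF Ψ.e c Ψ.ee hc ≠ 1 := fun h => hc0 (by
  have := mu_tv hF Ψ c hc
  rw [h, mu_one] at this
  exact this.symm)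

/-- The subfield subgroup has an involution. -/
theorem exists_invol (S : Sub q q0 r F₀) (Ψ : Frame q F) :
    ∃ z : SU 3 F q, InX F₀ Ψ z ∧ z * z = 1 ∧ z ≠ 1 := by
  have hF := S.hF
  by_cases h2 : (2 : F) = 0
  · obtain ⟨d, hd0, hd, hds⟩ := S.exists_skew0
    exact ⟨_, inX_tv Ψ hF (rat_e Ψ) Ψ.ee hds hd0, tv_sq hF h2 Ψ.ee hds, tv_ne_one hF Ψ hds hd⟩
  · obtain ⟨t, te, tf, tk⟩ := exists_torus' Ψ hF (a := (-1 : F)) (neg_ne_zero.2 one_ne_zero)
    rw [neg_pow_q hF, one_pow] at tf tk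
    rw [inv_neg, inv_one] at tf
    rw [div_self (neg_ne_zero.2 one_ne_zero), one_smul] at tk
    refine ⟨t, inX_of_rat Ψ (one_ne_zero (α := F)) ?_ ?_ ?_, ?_, fun h => ?_⟩
    · rw [one_smul, te]; exact (rat_e Ψ).smul Ψ (neg_mem (one_mem _))
    · rw [one_smul, tf]; exact (rat_f Ψ).smul Ψ (neg_mem (one_mem _))
    · rw [one_smul, tk]; exact rat_k Ψ
    · refine eq_one_of_fix (Φ := Ψ) ?_ ?_ ?_
      · rw [act_mul, te, act_smul, te, smul_smul]; simp
      · rw [act_mul, tf, act_smul, tf, smul_smul]; simp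
      · rw [act_mul, tk, tk]
    · rw [h, act_one] at te
      have := smul_left_injective F (e_ne_zero Ψ) ((one_smul F Ψ.e).trans te)
      exact h2 (by linear_combination this)

/-- Conjugate involutions inside the subfield subgroup. -/
theorem Over.key_invol (S : Sub q q0 r F₀) (hq : 3 ≤ q) (hM : Over F₀ Φ M) {g y : SU 3 F q}
    (hgM : g ∈ M) (hy : InX F₀ Φ y) (hy' : InX F₀ Φ (g⁻¹ * y * g)) (hy2 : y * y = 1) (hy1 : y ≠ 1) :
    InX F₀ Φ g := by
  have hF := S.hF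
  by_cases h2 : (2 : F) = 0
  · haveI := charP_two h2
    haveI : Fact (Nat.Prime 2) := ⟨Nat.prime_two⟩
    exact hM.key_p S hq (p := 2) hgM hy hy' (by rw [sq]; exact hy2) hy1
  have hy2' : g⁻¹ * y * g * (g⁻¹ * y * g) = 1 := by
    rw [show g⁻¹ * y * g * (g⁻¹ * y * g) = g⁻¹ * (y * y) * g by group, hy2]; group
  have hy1' : g⁻¹ * y * g ≠ 1 := fun h => hy1 (by
    rw [show y = g * (g⁻¹ * y * g) * g⁻¹ by group, h]; group)
  obtain ⟨Φ1, h1, he1, hf1, hk1⟩ := hom_of_invol S h2 hy hy2 hy1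
  obtain ⟨Φ2, h2', he2, hf2, hk2⟩ := hom_of_invol S h2 hy' hy2' hy1'
  obtain ⟨w, hw⟩ : ∃ w, w = act g Φ2.k := ⟨_, rfl⟩
  have hyw : act y w = w := by
    have h3 := congrArg (act g) hk2
    rw [act_mul, act_mul, act_act_inv] at h3
    rw [hw]; exact h3
  have hzero : ∀ z, act y z = -z → hh w z = 0 := fun z hz => by
    have h3 := herm_act y w z
    rw [hyw, hz, ← neg_one_smul F, herm_smul_right, neg_pow_q hF, one_pow] at h3
    exact (mul_eq_zero.1 (show (2 : F) * hh w z = 0 by linear_combination -h3)).resolve_left h2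
  have hsp := Φ1.span w
  rw [hzero _ hf1, hzero _ he1, zero_smul, zero_smul, zero_add, zero_add] at hsp
  exact hM.key_unit S hq (three_le_q0 S h2) hgM h2'.2.2 Φ2.kk h1.2.2 Φ1.kk (hw.symm.trans hsp)

/-- Membership in the intersection of the subfield subgroup and its conjugate. -/
def InD (F₀ : Subfield F) (Φ : Frame q F) (u d : SU 3 F q) : Prop :=
  InX F₀ Φ d ∧ InX F₀ Φ (u⁻¹ * d * u)

theorem inD_congr (hF : Fintype.card F = q ^ 2) {Φ' : Frame q F} (h : RFrame F₀ Φ Φ')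
    (u d : SU 3 F q) : InD F₀ Φ' u d ↔ InD F₀ Φ u d := by
  unfold InD; rw [inX_congr hF h, inX_congr hF h]

theorem InD.mul {u a b : SU 3 F q} (ha : InD F₀ Φ u a) (hb : InD F₀ Φ u b) : InD F₀ Φ u (a * b) := by
  refine ⟨ha.1.mul hb.1, ?_⟩
  rw [show u⁻¹ * (a * b) * u = u⁻¹ * a * u * (u⁻¹ * b * u) by group]
  exact ha.2.mul hb.2

theorem InD.inv {u a : SU 3 F q} (ha : InD F₀ Φ u a) : InD F₀ Φ u a⁻¹ := by
  refine ⟨ha.1.inv, ?_⟩
  rw [show u⁻¹ * a⁻¹ * u = (u⁻¹ * a * u)⁻¹ by group]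
  exact ha.2.inv

theorem InD.one {u : SU 3 F q} : InD F₀ Φ u 1 := by
  refine ⟨(xGroup F₀ Φ).one_mem, ?_⟩
  rw [mul_one, inv_mul_cancel]
  exact (xGroup F₀ Φ).one_mem

/-- The intersection as a subgroup. -/
noncomputable def dGroup (F₀ : Subfield F) (Φ : Frame q F) (u : SU 3 F q) :
    Subgroup (SU 3 F q) where
  carrier := {d | InD F₀ Φ u d}
  one_mem' := InD.one
  mul_mem' := InD.mul
  inv_mem' := InD.inv

theorem mem_dGroup {u d : SU 3 F q} : d ∈ dGroup F₀ Φ u ↔ InD F₀ Φ u d := Iff.rfl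

theorem mem_subgroupOf_conj {G : Type*} [Group G] {A B : Subgroup G} (g x : B) :
    x ∈ (A.subgroupOf B).map (MulAut.conj g).toMonoidHom ↔ (g : G)⁻¹ * x * g ∈ A := by
  constructor
  · rintro ⟨h, hhA, rfl⟩
    show (g : G)⁻¹ * ((g : G) * h * (g : G)⁻¹) * g ∈ A
    rw [show (g : G)⁻¹ * ((g : G) * h * (g : G)⁻¹) * g = h by group]
    exact hhA
  · intro h
    refine ⟨g⁻¹ * x * g, h, ?_⟩
    show g * (g⁻¹ * x * g) * g⁻¹ = x
    group

/-- The group theoretic consequence of strong embedding. -/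
theorem Over.strong (S : Sub q q0 r F₀) (hq : 3 ≤ q) (hM : Over F₀ Φ M)
    (hbad : ∃ g ∈ M, ¬ InX F₀ Φ g) :
    IsStronglyEmbedded ((xGroup F₀ Φ).subgroupOf M) := by
  obtain ⟨g0, hg0, hg0X⟩ := hbad
  refine ⟨fun h => hg0X ?_, ?_, fun g hg => ?_⟩
  · have : (⟨g0, hg0⟩ : M) ∈ (xGroup F₀ Φ).subgroupOf M := h ▸ Subgroup.mem_top _
    exact this
  · obtain ⟨z, hz, hz2, hz1⟩ := exists_invol S Φ
    haveI : Fact (Nat.Prime 2) := ⟨Nat.prime_two⟩
    have ho : orderOf z = 2 := orderOf_eq_prime (by rw [sq]; exact hz2) hz1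
    have hm : (⟨z, hM.sub z hz⟩ : M) ∈ (xGroup F₀ Φ).subgroupOf M := hz
    have h := Subgroup.orderOf_dvd_natCard _ hm
    rw [← Subgroup.orderOf_coe (⟨z, hM.sub z hz⟩ : M), ho] at h
    exact even_iff_two_dvd.2 h
  · rw [← Nat.not_even_iff_odd, even_iff_two_dvd]
    intro h
    haveI : Fact (Nat.Prime 2) := ⟨Nat.prime_two⟩
    obtain ⟨y, hy⟩ := exists_prime_orderOf_dvd_card' 2 h
    obtain ⟨h1, h2⟩ := y.2
    have hy' := (mem_subgroupOf_conj g y.1).1 h2
    have ho : orderOf ((y.1 : M) : SU 3 F q) = 2 := by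
      rw [Subgroup.orderOf_coe, Subgroup.orderOf_coe, hy]
    obtain ⟨z, hz⟩ : ∃ z, z = ((y.1 : M) : SU 3 F q) := ⟨_, rfl⟩
    rw [← hz] at ho hy'
    refine hg (hM.key_invol S hq g.2 (y := z) (hz ▸ h1) hy' ?_ fun h => ?_)
    · rw [← sq, ← ho, pow_orderOf_eq_one]
    · rw [h, orderOf_one] at ho; norm_num at ho

/-- An outer involution, the transitivity and the absence of elements of order the characteristic. -/
theorem Over.exists_outer (S : Sub q q0 r F₀) (hq : 3 ≤ q) (hM : Over F₀ Φ M)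
    (hbad : ∃ g ∈ M, ¬ InX F₀ Φ g) :
    ∃ u : SU 3 F q,
      (∀ s t, InX F₀ Φ s → s * s = 1 → s ≠ 1 → InX F₀ Φ t → t * t = 1 → t ≠ 1 →
        ∃ d, InD F₀ Φ u d ∧ d * s * d⁻¹ = t) ∧
      (∀ (p : ℕ) [Fact p.Prime] [CharP F p], ∀ d, InD F₀ Φ u d → d ^ p = 1 → d = 1) ∧
      (∀ d, InD F₀ Φ u d → d * d = 1 → d = 1) := by
  have hse := hM.strong S hq hbad
  obtain ⟨g, hg, hgX⟩ := hbad
  obtain ⟨z, hz, hz2, hz1⟩ := exists_invol S Φ
  obtain ⟨u, hu⟩ : ∃ u, u = g * z * g⁻¹ := ⟨_, rfl⟩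
  have huM : u ∈ M := hu ▸ mul_mem (mul_mem hg (hM.sub z hz)) (inv_mem hg)
  have hu2 : u * u = 1 := by
    rw [hu, show g * z * g⁻¹ * (g * z * g⁻¹) = g * (z * z) * g⁻¹ by group, hz2]; group
  have hu1 : u ≠ 1 := fun h => hz1 (by
    rw [show z = g⁻¹ * (g * z * g⁻¹) * g by group, ← hu, h]; group)
  have huX : ¬ InX F₀ Φ u := fun h => by
    have : InX F₀ Φ g⁻¹ := hM.key_invol S hq (inv_mem hg) hz
      (by rwa [inv_inv, ← hu]) hz2 hz1
    exact hgX (by simpa using this.inv)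
  haveI : Fact (Nat.Prime 2) := ⟨Nat.prime_two⟩
  refine ⟨u, fun s t hs hs2 hs1 ht ht2 ht1 => ?_, fun p _ _ d hd hdp => ?_, fun d hd hd2 => ?_⟩
  · have ho : ∀ (x : SU 3 F q) (hx : x ∈ M), x * x = 1 → x ≠ 1 → orderOf (⟨x, hx⟩ : M) = 2 :=
      fun x hx h h' => by
        rw [← Subgroup.orderOf_coe]
        exact orderOf_eq_prime (by rw [sq]; exact h) h'
    obtain ⟨d, ⟨hd1, hd2⟩, hdst⟩ := (S1225.result _ hse ⟨u, huM⟩ (ho u huM hu2 hu1) huX
      ⟨s, hM.sub s hs⟩ ⟨t, hM.sub t ht⟩ (ho s _ hs2 hs1) hs (ho t _ ht2 ht1) ht).1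
    exact ⟨d.1, ⟨hd1, (mem_subgroupOf_conj _ d).1 hd2⟩, congrArg Subtype.val hdst⟩
  · by_contra h
    exact huX (hM.key_p S hq huM hd.1 hd.2 hdp h)
  · by_contra h
    exact huX (hM.key_invol S hq huM hd.1 hd.2 hd2 h)

/-- The involutions of the subfield subgroup. -/
def Inv (F₀ : Subfield F) (Φ : Frame q F) : Type _ :=
  {s : SU 3 F q // InX F₀ Φ s ∧ s * s = 1 ∧ s ≠ 1}

instance : Finite (Inv F₀ Φ) := Subtype.finite

/-- Conjugation on the involutions. -/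
@[reducible] def conjInv {A : Subgroup (SU 3 F q)} (hA : ∀ a ∈ A, InX F₀ Φ a) :
    MulAction A (Inv F₀ Φ) where
  smul a s := ⟨a.1 * s.1 * a.1⁻¹, ((hA _ a.2).mul s.2.1).mul (hA _ a.2).inv, by
    rw [show a.1 * s.1 * a.1⁻¹ * (a.1 * s.1 * a.1⁻¹) = a.1 * (s.1 * s.1) * a.1⁻¹ by group, s.2.2.1]
    group, fun h => s.2.2.2 (by
    rw [show s.1 = a.1⁻¹ * (a.1 * s.1 * a.1⁻¹) * a.1 by group, h]; group)⟩
  one_smul s := Subtype.ext (by show (1 : SU 3 F q) * s.1 * 1⁻¹ = s.1; group)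
  mul_smul a b s := Subtype.ext (by
    show a.1 * b.1 * s.1 * (a.1 * b.1)⁻¹ = a.1 * (b.1 * s.1 * b.1⁻¹) * a.1⁻¹
    group)

theorem Over.all_inX_odd (S : Sub q q0 r F₀) (hq : 3 ≤ q) (h2 : (2 : F) ≠ 0) (hM : Over F₀ Φ M) :
    ∀ g ∈ M, InX F₀ Φ g := by
  by_contra hbad
  push Not at hbad
  have hF := S.hF
  obtain ⟨u, htr, hnp, -⟩ := hM.exists_outer S hq hbad
  obtain ⟨p, f, hp, hc, -, hpf⟩ := exists_prime_pow hF
  haveI : Fact p.Prime := ⟨hp⟩
  haveI := hc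
  obtain ⟨s0, hs0X, hs0P, hs0⟩ := exists_phi Φ S (one_mem F₀)
  have hA : ∀ a ∈ Subgroup.zpowers s0, InX F₀ Φ a := fun a ha =>
    (Subgroup.zpowers_le.2 (show s0 ∈ xGroup F₀ Φ from hs0X)) ha
  have hpg : IsPGroup p (Subgroup.zpowers s0) := by
    have h1 : IsPGroup p Φ.P := IsPGroup.of_card (n := f * 3) (by rw [card_P hF Φ, hpf, ← pow_mul])
    exact h1.to_le (Subgroup.zpowers_le.2 hs0P)
  have hdvd : p ∣ Nat.card (Inv F₀ Φ) := by
    letI := conjInv hA
    have h0 : MulAction.fixedPoints (Subgroup.zpowers s0) (Inv F₀ Φ) = ∅ := by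
      refine Set.eq_empty_iff_forall_notMem.2 fun s hs => ?_
      have hcomm : s0 * s.1 * s0⁻¹ = s.1 :=
        congrArg Subtype.val (hs ⟨s0, Subgroup.mem_zpowers s0⟩)
      have hcomm' : s.1 * s0 * s.1⁻¹ = s0 := by
        rw [← mul_inv_eq_iff_eq_mul.1 hcomm, mul_inv_cancel_right]
      obtain ⟨-, hw, hw1⟩ := s.2
      have hs01 : s0 ≠ 1 := fun h => by
        rw [h, phi_one] at hs0; exact zero_ne_one hs0
      have hline : mkLine (act s.1 Φ.e) (act_ne_zero s.1 (e_ne_zero Φ)) (by rw [herm_act, Φ.ee]) = Φ.line := by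
        by_contra hne
        refine hs01 (semiregular hF Φ hs0P hne ?_)
        rw [smul_mkLine]
        refine Subtype.ext ?_
        show lineOf (act s0 (act s.1 Φ.e)) = lineOf (act s.1 Φ.e)
        rw [← act_mul, show s0 * s.1 = s.1 * s0 by
          rw [← mul_inv_eq_iff_eq_mul.1 hcomm'], act_mul, (mem_P Φ).1 hs0P]
      obtain ⟨a, ha0, ha⟩ := mkLine_eq hline
      have ha2 : a * a = 1 := by
        have h1 : act (s.1 * s.1) Φ.e = (a * a) • Φ.e := by
          rw [act_mul, ha, act_smul, ha, smul_smul]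
        rw [hw, act_one] at h1
        exact (smul_left_injective F (e_ne_zero Φ) (h1.symm.trans (one_smul F _).symm))
      have h1 := phi_conj hF Φ ha0 ha hs0P
      rw [hcomm', hs0, mul_one, eq_comm, div_eq_one_iff_eq (pow_ne_zero _ ha0), sq, ha2] at h1
      have ha1 : a = 1 := by rw [← pow_q_q hF a, ← h1, one_pow]
      have hP : s.1 ∈ Φ.P := by rw [mem_P, ha, ha1, one_smul]
      have hphi : phi Φ s.1 = 0 := by
        have h3 := phi_mul hF Φ hP hP
        rw [hw, phi_one] at h3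
        exact (mul_eq_zero.1 (show (2 : F) * phi Φ s.1 = 0 by linear_combination -h3)).resolve_left h2
      have hmu : mu Φ s.1 = 0 := by
        have h3 := mu_mul hF Φ hP hP
        rw [hw, mu_one, hphi, zero_mul, sub_zero] at h3
        exact (mul_eq_zero.1 (show (2 : F) * mu Φ s.1 = 0 by linear_combination -h3)).resolve_left h2
      exact s.2.2.2 (eq_of_phi_mu hF Φ hP (one_mem _) (by rw [hphi, phi_one]) (by rw [hmu, mu_one]))
    have hm := hpg.card_modEq_card_fixedPoints (Inv F₀ Φ)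
    rw [h0, Nat.card_coe_set_eq, Set.ncard_empty] at hm
    exact Nat.modEq_zero_iff_dvd.1 hm
  have hD : ∀ a ∈ dGroup F₀ Φ u, InX F₀ Φ a := fun a ha => ha.1
  have hdvd' : p ∣ Nat.card (dGroup F₀ Φ u) := by
    letI := conjInv hD
    haveI : MulAction.IsPretransitive (dGroup F₀ Φ u) (Inv F₀ Φ) := ⟨fun s t => by
      obtain ⟨d, hd, hdst⟩ := htr s.1 t.1 s.2.1 s.2.2.1 s.2.2.2 t.2.1 t.2.2.1 t.2.2.2
      exact ⟨⟨d, hd⟩, Subtype.ext hdst⟩⟩
    obtain ⟨z, hz⟩ := exists_invol S Φ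
    have z' : Inv F₀ Φ := ⟨z, hz⟩
    refine hdvd.trans ?_
    rw [← MulAction.index_stabilizer_of_transitive (dGroup F₀ Φ u) z']
    exact Subgroup.index_dvd_card _
  obtain ⟨d, hd⟩ := exists_prime_orderOf_dvd_card' p hdvd'
  have h1 : d.1 = 1 := hnp p d.1 d.2 (by
    rw [← Subgroup.coe_pow, ← hd, pow_orderOf_eq_one]; rfl)
  have : d = 1 := Subtype.ext h1
  rw [this, orderOf_one] at hd
  exact hp.one_lt.ne hd

/-! ### Even `q₀ ≥ 4` -/

theorem inD_P_trivial (S : Sub q q0 r F₀) (h2 : (2 : F) = 0) {u : SU 3 F q} (Ψ : Frame q F)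
    (hnp : ∀ d, InD F₀ Φ u d → d * d = 1 → d = 1) {d : SU 3 F q} (hd : InD F₀ Φ u d)
    (hdP : d ∈ Ψ.P) : d = 1 := by
  have hF := S.hF
  have hd2 : InD F₀ Φ u (d * d) := hd.mul hd
  have hdP2 : d * d ∈ Ψ.P := mul_mem hdP hdP
  have hp2 : phi Ψ (d * d) = 0 := by
    rw [phi_mul hF Ψ hdP hdP]; linear_combination phi Ψ d * h2
  have h4 : d * d * (d * d) = 1 := by
    refine eq_of_phi_mu hF Ψ (mul_mem hdP2 hdP2) (one_mem _) ?_ ?_
    · rw [phi_mul hF Ψ hdP2 hdP2, hp2, phi_one, add_zero]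
    · rw [mu_mul hF Ψ hdP2 hdP2, hp2, mu_one]; linear_combination mu Ψ (d * d) * h2
  exact hnp d hd (hnp _ hd2 h4)

theorem Over.all_inX_even (S : Sub q q0 r F₀) (hq : 3 ≤ q) (h2 : (2 : F) = 0) (hq0 : 3 ≤ q0)
    (hM : Over F₀ Φ M) : ∀ g ∈ M, InX F₀ Φ g := by
  by_contra hbad
  push Not at hbad
  have hF := S.hF
  obtain ⟨u, htr, -, hn2⟩ := hM.exists_outer S hq hbad
  obtain ⟨δ, hδ0, hδ, hδs⟩ := S.exists_skew0
  -- a second root
  obtain ⟨κ, hκ0, hκq, hκz, hκ1⟩ : ∃ κ : F, κ ∈ F₀ ∧ κ ^ q = κ ∧ κ ≠ 0 ∧ κ ≠ 1 := by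
    by_contra hn
    push Not at hn
    have hsub : ∀ x : small hF F₀, x = 0 ∨ x = 1 := fun x => by
      rcases eq_or_ne (x.1.1 : F) 0 with h | h
      · exact Or.inl (Subtype.ext (Subtype.ext h))
      · exact Or.inr (Subtype.ext (Subtype.ext (hn x.1.1 x.2 x.1.2 h)))
    have : Nat.card (small hF F₀) ≤ 2 := by
      refine (Nat.card_le_card_of_surjective (fun b : Bool => if b then (1 : small hF F₀) else 0)
        fun x => ?_).trans (by simp)
      rcases hsub x with h | h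
      · exact ⟨false, h.symm⟩
      · exact ⟨true, h.symm⟩
    rw [card_small S] at this
    omega
  have hc2 : δ * κ + (δ * κ) ^ q = 0 := by rw [mul_pow, hκq]; linear_combination κ * hδs
  have hs1 : InX F₀ Φ (tv hF Φ.e δ Φ.ee hδs) := inX_tv Φ hF (rat_e Φ) Φ.ee hδs hδ0
  obtain ⟨d, hd, hdst⟩ := htr _ _ hs1 (tv_sq hF h2 Φ.ee hδs) (tv_ne_one hF Φ hδs hδ)
    (inX_tv Φ hF (rat_e Φ) Φ.ee hc2 (mul_mem hδ0 hκ0)) (tv_sq hF h2 Φ.ee hc2)
    (tv_ne_one hF Φ hc2 (mul_ne_zero hδ hκz))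
  -- conjugates of root elements
  have hline : ∀ (Ψ Ψ' : Frame q F) (g : SU 3 F q) (c c' : F) (hc : c + c ^ q = 0)
      (hc' : c' + c' ^ q = 0), c' ≠ 0 →
      g * tv hF Ψ.e c Ψ.ee hc * g⁻¹ = tv hF Ψ'.e c' Ψ'.ee hc' → g • Ψ.line = Ψ'.line := by
    intro Ψ Ψ' g c c' hc hc' hc0 h
    by_contra hne
    refine tv_ne_one hF Ψ' hc' hc0 (semiregular hF Ψ' (tv_mem_P hF Ψ' c' hc') hne ?_)
    rw [← h, mul_smul, mul_smul, inv_smul_smul, MulAction.mem_stabilizer_iff.1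
      (P_le_stab Ψ (tv_mem_P hF Ψ c hc))]
  have hdL := hline Φ Φ d δ (δ * κ) hδs hc2 (mul_ne_zero hδ hκz) hdst
  obtain ⟨a, ha0, ha⟩ : ∃ a : F, a ≠ 0 ∧ act d Φ.e = a • Φ.e := by
    rw [Frame.line, smul_mkLine] at hdL
    exact mkLine_eq hdL
  have hsv : a ^ (q + 1) = κ := by
    have h1 := mu_conj hF Φ ha0 ha (tv_mem_P hF Φ δ hδs) (phi_tv hF Φ δ hδs)
    rw [hdst, mu_tv, mu_tv] at h1
    exact mul_left_cancel₀ hδ (by linear_combination -h1)
  have hs_ne : a ^ (q + 1) ≠ 1 := hsv ▸ hκ1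
  have haq := pow_ne_zero q ha0
  have ht_ne : a ^ 2 / a ^ q ≠ 1 := by
    intro h
    rw [div_eq_one_iff_eq haq] at h
    have h4 : a ^ 4 = a := by
      calc a ^ 4 = (a ^ 2) ^ 2 := by ring
        _ = (a ^ q) ^ 2 := by rw [h]
        _ = (a ^ 2) ^ q := by rw [← pow_mul, ← pow_mul, mul_comm]
        _ = a := by rw [h, pow_q_q hF]
    apply hs_ne
    apply mul_left_cancel₀ ha0
    rw [mul_one, pow_succ, ← h]
    linear_combination h4
  have hta : a ^ 2 / a ^ q ∈ F₀ := by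
    obtain ⟨x, hxX, hxP, hx⟩ := exists_phi Φ S (one_mem F₀)
    have := hM.phi_rat S hq (phi_smul_mem hF Φ M (hM.sub _ hd.1) ha0 ha
      ⟨x, hM.sub _ hxX, hxP, hx⟩)
    rwa [mul_one] at this
  obtain ⟨t, te, tf, tk⟩ := exists_torus' Φ hF ha0
  have htX : InX F₀ Φ t := by
    refine inX_of_rat Φ (b := a / a ^ q) (div_ne_zero ha0 haq) ?_ ?_ ?_
    · rw [te, smul_smul]
      refine (rat_e Φ).smul Φ ?_
      convert hta using 1
      field_simp
    · rw [tf, smul_smul]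
      refine (rat_f Φ).smul Φ ?_
      convert div_mem hta (show a ^ (q + 1) ∈ F₀ from hsv ▸ hκ0) using 1
      field_simp
      rw [pow_succ]; ring
    · rw [tk, smul_smul]
      refine (rat_k Φ).smul Φ ?_
      convert one_mem F₀ using 1
      field_simp
  -- `d` is conjugate to `t` by a rational element fixing `e`
  let Q := xGroup F₀ Φ ⊓ Φ.P
  have hQ : ∀ x : Q, x.1⁻¹ * d * x.1 * d⁻¹ ∈ Q := fun x => by
    obtain ⟨hxX, hxP⟩ := Subgroup.mem_inf.1 x.2
    refine Subgroup.mem_inf.2 ⟨((InX.inv hxX).mul hd.1 |>.mul hxX).mul hd.1.inv, ?_⟩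
    rw [mul_assoc (x.1⁻¹ : SU 3 F q), mul_assoc (x.1⁻¹ : SU 3 F q)]
    exact mul_mem (inv_mem hxP) (conj_mem_P Φ ha0 ha hxP)
  have hcomm : ∀ z ∈ Φ.P, d * z * d⁻¹ = z → z = 1 := by
    intro z hz h
    have h1 := phi_conj hF Φ ha0 ha hz
    rw [h] at h1
    have hp : phi Φ z = 0 := by
      by_contra h0
      exact ht_ne (mul_right_cancel₀ h0 (by rw [one_mul]; exact h1.symm))
    have h3 := mu_conj hF Φ ha0 ha hz hp
    rw [h] at h3
    have hm : mu Φ z = 0 := by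
      by_contra h0
      exact hs_ne (mul_right_cancel₀ h0 (by rw [one_mul]; exact h3.symm))
    exact eq_of_phi_mu hF Φ hz (one_mem _) (by rw [hp, phi_one]) (by rw [hm, mu_one])
  have hinj : Function.Injective fun x : Q => (⟨_, hQ x⟩ : Q) := by
    intro x y h
    have h1 : x.1⁻¹ * d * x.1 * d⁻¹ = y.1⁻¹ * d * y.1 * d⁻¹ := congrArg Subtype.val h
    have h2' : x.1⁻¹ * d * x.1 = y.1⁻¹ * d * y.1 := mul_right_cancel h1
    have h3 : d * (x.1 * y.1⁻¹) * d⁻¹ = x.1 * y.1⁻¹ := by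
      calc d * (x.1 * y.1⁻¹) * d⁻¹ = x.1 * (x.1⁻¹ * d * x.1) * y.1⁻¹ * d⁻¹ := by group
        _ = x.1 * y.1⁻¹ := by rw [h2']; group
    exact Subtype.ext (mul_inv_eq_one.1 (hcomm _ (mul_mem x.2.2 (inv_mem y.2.2)) h3))
  have htd : t * d⁻¹ ∈ Q := by
    refine Subgroup.mem_inf.2 ⟨htX.mul hd.1.inv, ?_⟩
    have e1 : act d⁻¹ Φ.e = a⁻¹ • Φ.e := by
      rw [eq_inv_smul_iff₀ ha0, ← act_smul, ← ha, act_inv_act]
    rw [mem_P, act_mul, e1, act_smul, te, smul_smul, inv_mul_cancel₀ ha0, one_smul]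
  obtain ⟨⟨x, hxX, hxP⟩, hx⟩ := (Finite.injective_iff_surjective.1 hinj) ⟨_, htd⟩
  have hdx : x⁻¹ * d * x = t := mul_right_cancel (congrArg Subtype.val hx)
  obtain ⟨b, hb0, hb⟩ := hxX
  obtain ⟨y, hy⟩ : ∃ y, y = b • act x Φ.f := ⟨_, rfl⟩
  have hf0 : Φ.f ≠ 0 := fun h => by
    have := Φ.fe; rw [h, herm_zero_left] at this; exact zero_ne_one this
  have hyr : Rat F₀ Φ y := hy ▸ hb _ (rat_f Φ)
  have hy0 : y ≠ 0 := hy ▸ smul_ne_zero hb0 (act_ne_zero x hf0)
  have hyy : hh y y = 0 := by rw [hy, herm_smul_left, herm_smul_right, herm_act, Φ.ff]; ring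
  obtain ⟨Φy, hΦy, hΦye⟩ := exists_rframe_at Φ S hyr hy0 hyy
  -- the fixed lines of `d`
  have hfixed : ∀ K : Line q F, d • K = K ↔ K = Φ.line ∨ K = Φy.line := by
    intro K
    constructor
    · intro hK
      obtain ⟨v, hv0, hv, rfl⟩ := exists_rep K
      rw [smul_mkLine] at hK
      obtain ⟨l, hl0, hl⟩ := mkLine_eq hK
      obtain ⟨w, hw⟩ : ∃ w, w = act x⁻¹ v := ⟨_, rfl⟩
      have hvw : v = act x w := by rw [hw, act_act_inv]
      have htw : act t w = l • w := by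
        rw [← hdx, act_mul, act_mul, ← hvw, hl, act_smul, ← hw]
      have hsp := Φ.span w
      have hww : hh w w = 0 := by rw [hw, herm_act, hv]
      obtain ⟨A, hA⟩ : ∃ A, A = hh w Φ.f := ⟨_, rfl⟩
      obtain ⟨B, hB⟩ : ∃ B, B = hh w Φ.e := ⟨_, rfl⟩
      obtain ⟨C, hC⟩ : ∃ C, C = hh w Φ.k := ⟨_, rfl⟩
      rw [← hA, ← hB, ← hC] at hsp
      rw [hsp, act_add, act_add, act_smul, act_smul, act_smul, te, tf, tk] at htw
      have g1 := congrArg (fun z => hh z Φ.f) htw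
      have g2 := congrArg (fun z => hh z Φ.e) htw
      have g3 := congrArg (fun z => hh z Φ.k) htw
      simp only [herm_add_left, herm_smul_left, Φ.ee, Φ.ef, Φ.ek, Φ.fe, Φ.ff, Φ.fk, Φ.ke, Φ.kf,
        Φ.kk, mul_one, mul_zero, add_zero, zero_add] at g1 g2 g3
      have n1 : a ≠ (a ^ q)⁻¹ := fun h => hs_ne (by
        rw [pow_succ]; nth_rw 2 [h]; rw [mul_inv_cancel₀ haq])
      have n2 : a ≠ a ^ q / a := fun h => ht_ne (by
        rw [div_eq_one_iff_eq haq, sq]; rw [eq_div_iff ha0] at h; exact h)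
      have n3 : (a ^ q)⁻¹ ≠ a ^ q / a := fun h => ht_ne (by
        rw [inv_eq_iff_eq_inv, inv_div, eq_div_iff haq] at h
        have h' := congrArg (· ^ q) h
        simp only [mul_pow, pow_q_q hF] at h'
        rw [div_eq_one_iff_eq haq, sq]
        exact h')
      have eA : A ≠ 0 → l = a := fun h => mul_right_cancel₀ h (by linear_combination -g1)
      have eB : B ≠ 0 → l = (a ^ q)⁻¹ := fun h => mul_right_cancel₀ h (by linear_combination -g2)
      have eC : C ≠ 0 → l = a ^ q / a := fun h => mul_right_cancel₀ h (by linear_combination -g3)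
      have hC0 : C = 0 := by
        by_contra h
        have A0 : A = 0 := by by_contra h'; exact n2 ((eA h').symm.trans (eC h))
        have B0 : B = 0 := by by_contra h'; exact n3 ((eB h').symm.trans (eC h))
        rw [hsp, A0, B0] at hww
        simp [herm_smul_left, herm_smul_right, Φ.kk, h] at hww
      have hw0 : w ≠ 0 := hw ▸ act_ne_zero _ hv0
      rcases eq_or_ne B 0 with B0 | B0
      · left
        rw [B0, hC0, zero_smul, zero_smul, add_zero, add_zero] at hsp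
        refine Subtype.ext ?_
        show lineOf v = lineOf Φ.e
        rw [hvw, hsp, act_smul, (mem_P Φ).1 hxP, lineOf_smul]
        exact fun h => hw0 (by rw [hsp, h, zero_smul])
      · right
        have A0 : A = 0 := by by_contra h'; exact n1 ((eA h').symm.trans (eB B0))
        rw [A0, hC0, zero_smul, zero_smul, add_zero, zero_add] at hsp
        refine Subtype.ext ?_
        show lineOf v = lineOf Φy.e
        rw [hvw, hsp, act_smul, hΦye, hy, lineOf_smul B0, lineOf_smul hb0]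
    · rintro (rfl | rfl)
      · exact hdL
      · refine Subtype.ext ?_
        show act d '' lineOf Φy.e = lineOf Φy.e
        rw [image_lineOf, hΦye, hy, act_smul, lineOf_smul hb0, lineOf_smul hb0,
          show act d (act x Φ.f) = act x (act t Φ.f) by rw [← hdx, act_mul, act_mul, act_act_inv],
          tf, act_smul, lineOf_smul (inv_ne_zero haq)]
  have hne : Φy.line ≠ Φ.line := fun h => by
    obtain ⟨c, hc, he⟩ := mkLine_eq h
    have h3 := herm_act x Φ.f Φ.e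
    rw [(mem_P Φ).1 hxP, Φ.fe] at h3
    have h4 := congrArg (fun z => hh z Φ.e) he
    simp only [hΦye, hy, herm_smul_left, Φ.ee, mul_zero, h3, mul_one] at h4
    exact hb0 h4
  -- an element of the intersection moving one fixed line to the other
  have hy1 : InX F₀ Φ (tv hF Φy.e δ Φy.ee hδs) := inX_tv Φ hF hΦy.1 Φy.ee hδs hδ0
  obtain ⟨g, hg, hgst⟩ := htr _ _ hs1 (tv_sq hF h2 Φ.ee hδs) (tv_ne_one hF Φ hδs hδ)
    hy1 (tv_sq hF h2 Φy.ee hδs) (tv_ne_one hF Φy hδs hδ)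
  have hgL := hline Φ Φy g δ δ hδs hδs hδ hgst
  have hd' : InD F₀ Φ u (g * d * g⁻¹) := (hg.mul hd).mul hg.inv
  have hd'y : (g * d * g⁻¹) • Φy.line = Φy.line := by
    rw [← hgL, mul_smul, mul_smul, inv_smul_smul, hdL]
  have hdy : d • Φy.line = Φy.line := (hfixed _).2 (Or.inr rfl)
  have hab : d * (g * d * g⁻¹) = g * d * g⁻¹ * d := by
    let A : MulAction.stabilizer (SU 3 F q) Φy.line := ⟨d, hdy⟩
    let B : MulAction.stabilizer (SU 3 F q) Φy.line := ⟨g * d * g⁻¹, hd'y⟩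
    have hker : A * B * (B * A)⁻¹ ∈ (eigHom Φy).ker := by
      rw [MonoidHom.mem_ker, map_mul, map_inv, map_mul, map_mul, mul_comm (eigHom Φy B), mul_inv_cancel]
    have h1 := (mem_eig_ker Φy).1 hker
    have h3 := inD_P_trivial S h2 (u := u) Φy hn2
      ((hd.mul hd').mul (hd'.mul hd).inv) h1
    exact mul_inv_eq_one.1 h3
  have hd'e : (g * d * g⁻¹) • Φ.line = Φ.line := by
    have h1 : d • ((g * d * g⁻¹) • Φ.line) = (g * d * g⁻¹) • Φ.line := by
      rw [← mul_smul, hab, mul_smul, hdL]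
    rcases (hfixed _).1 h1 with h | h
    · exact h
    · exact absurd ((smul_left_cancel _ (h.trans hd'y.symm)).symm) hne
  have hgy : g • Φy.line = Φ.line := by
    have h1 : d • (g⁻¹ • Φ.line) = g⁻¹ • Φ.line := by
      have := congrArg (g⁻¹ • ·) hd'e
      simpa [mul_smul] using this
    rcases (hfixed _).1 h1 with h | h
    · rw [inv_smul_eq_iff] at h
      exact absurd (hgL.symm.trans h.symm) hne
    · rw [inv_smul_eq_iff] at h
      exact h.symm
  have hodd : Odd (orderOf g) := by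
    rw [← Nat.not_even_iff_odd, even_iff_two_dvd]
    rintro ⟨k, hk⟩
    have hgk : g ^ k ∈ dGroup F₀ Φ u := pow_mem hg k
    have := hn2 _ hgk (by rw [← pow_add, ← two_mul, ← hk, pow_orderOf_eq_one])
    have hle := Nat.le_of_dvd (by
      rcases Nat.eq_zero_or_pos k with h0 | h0
      · rw [h0, mul_zero] at hk; exact absurd hk (orderOf_pos g).ne'
      · exact h0) (orderOf_dvd_of_pow_eq_one this)
    have := orderOf_pos g
    omega
  obtain ⟨k, hk⟩ := hodd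
  have h2e : g * g ∈ MulAction.stabilizer (SU 3 F q) Φ.line := by
    rw [MulAction.mem_stabilizer_iff, mul_smul, hgL, hgy]
  have hgmem : g ∈ MulAction.stabilizer (SU 3 F q) Φ.line := by
    have h3 : g = (g * g) ^ (k + 1) := by
      rw [← sq, ← pow_mul, show 2 * (k + 1) = orderOf g + 1 by omega, pow_succ, pow_orderOf_eq_one, one_mul]
    rw [h3]; exact pow_mem h2e _
  exact hne (hgL.symm.trans hgmem)

end Cfsg.Agent.SUThree49
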