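import Cfsg.Agent.Lib.SUThree49Two

/-!
Subfield subgroups of odd prime index are maximal in `SU_3(q)`.
-/

set_option autoImplicit false
set_option linter.unusedSectionVars false
set_option linter.unusedVariables false

namespace Cfsg.Agent.SUThree49

open Cfsg Cfsg.Agent.OrthUnitaryHerm Cfsg.Agent.OrthUnitaryTransvection Cfsg.Agent.OrthUnitaryMaximal
open Cfsg.Agent.MinIndexPSU3Geo89 Cfsg.Agent.MinIndexPSU3Stab89
open scoped Matrix MatrixGroups Pointwise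

variable {F : Type*} [Field F] [Fintype F] {q q0 r : ℕ} {F₀ : Subfield F}

local notation "hh" => hermForm 3 F q

variable {Φ : Frame q F} {M : Subgroup (SU 3 F q)}

theorem conj_mem_map {G : Type*} [Group G] {A : Subgroup G} (O : Subgroup A) (hO : O.Normal)
    {m : G} (hm : m ∈ A) {x : G} (hx : x ∈ O.map A.subtype) : m * x * m⁻¹ ∈ O.map A.subtype := by
  obtain ⟨y, hy, rfl⟩ := hx
  exact ⟨⟨m, hm⟩ * y * ⟨m, hm⟩⁻¹, hO.conj_mem y hy _, rfl⟩

theorem core_image {G : Type*} [Group G] {A : Subgroup G} (O : Subgroup A) (hO : O.Normal)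
    {z : G} (hz : z ∈ A) (hc : ∀ g : A, (⟨z, hz⟩ : A) * g * (⟨z, hz⟩ : A)⁻¹ * g⁻¹ ∈ O) :
    ∃ O' : Subgroup G, Nat.card O' = Nat.card O ∧ (∀ m ∈ A, ∀ x ∈ O', m * x * m⁻¹ ∈ O') ∧
      ∀ g ∈ A, g * z * g⁻¹ * z⁻¹ ∈ O' := by
  refine ⟨O.map A.subtype, Subgroup.card_map_of_injective A.subtype_injective,
    fun m hm x hx => conj_mem_map O hO hm hx, fun g hg => ?_⟩
  refine ⟨_, inv_mem (hc ⟨g, hg⟩), ?_⟩
  show (z * g * z⁻¹ * g⁻¹)⁻¹ = g * z * g⁻¹ * z⁻¹
  group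

set_option maxHeartbeats 400000 in
theorem Over.isolated (S : Sub q q0 r F₀) (hq : 3 ≤ q) (hq0 : q0 = 2) (hM : Over F₀ Φ M)
    (h2 : (2 : F) = 0) (h1s : (1 : F) + 1 ^ q = 0) {z : SU 3 F q}
    (hz : z = tv S.hF Φ.e 1 Φ.ee h1s) (hzX : InX F₀ Φ z) (hz2 : z * z = 1) (hz1 : z ≠ 1)
    (hzP : z ∈ Φ.P) (hzM : z ∈ M) : IsIsolatedInvolution (⟨z, hzM⟩ : M) := by
  have hF := S.hF
  haveI := charP_two h2
  haveI : Fact (Nat.Prime 2) := ⟨Nat.prime_two⟩
  refine ⟨?_, fun g hcomm => ?_⟩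
  · rw [← Subgroup.orderOf_coe]
    exact orderOf_eq_prime (by rw [sq]; exact hz2) hz1
  · obtain ⟨w, hw⟩ : ∃ w, w = g.1 * z * g.1⁻¹ := ⟨_, rfl⟩
    have hc : z * w = w * z := hw ▸ congrArg Subtype.val hcomm.eq
    have hwM : w ∈ M := hw ▸ mul_mem (mul_mem g.2 hzM) (inv_mem g.2)
    have hw2 : w * w = 1 := by
      rw [hw, show g.1 * z * g.1⁻¹ * (g.1 * z * g.1⁻¹) = g.1 * (z * z) * g.1⁻¹ by group, hz2]
      group
    have hw1 : w ≠ 1 := fun h => hz1 (by
      rw [show z = g.1⁻¹ * (g.1 * z * g.1⁻¹) * g.1 by group, ← hw, h]; group)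
    have hwX : InX F₀ Φ w := hM.key_invol S hq hwM hzX
      (by rw [mul_assoc, hc, inv_mul_cancel_left]; exact hzX) hz2 hz1
    obtain ⟨Φ1, h1, hwP1⟩ := fix_of_p S (p := 2) hwX (by rw [sq]; exact hw2) hw1
    have hline : z • Φ1.line = Φ1.line := by
      by_contra hne
      refine hw1 (semiregular hF Φ1 hwP1 hne ?_)
      rw [← mul_smul, ← hc, mul_smul, MulAction.mem_stabilizer_iff.1 (P_le_stab Φ1 hwP1)]
    have heq : Φ1.line = Φ.line := by
      by_contra hne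
      exact hz1 (semiregular hF Φ hzP hne hline)
    obtain ⟨c, hc0, hce⟩ := mkLine_eq heq
    have hwP : w ∈ Φ.P := by
      have h3 := (mem_P Φ1).1 hwP1
      rw [hce, act_smul] at h3
      rw [mem_P]
      exact smul_right_injective _ hc0 h3
    have hphi : phi Φ w = 0 := by
      have h3 := mu_mul hF Φ hwP hwP
      rw [hw2, mu_one, ← pow_succ'] at h3
      exact (pow_eq_zero_iff (Nat.succ_ne_zero q)).1
        (show phi Φ w ^ (q + 1) = 0 by linear_combination mu Φ w * h2 + h3)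
    have hroot : mu Φ w ∈ rootAdd hF Φ M := ⟨w, hwM, hwP, hphi, rfl⟩
    have hm0 := hM.root_rat S hq hroot
    have hms : mu Φ w + mu Φ w ^ q = 0 := rootAdd_le hF Φ M hroot
    rw [S.pow_q hm0, hq0] at hms
    have hmne : mu Φ w ≠ 0 := fun h => hw1 (eq_of_phi_mu hF Φ hwP (one_mem _)
      (by rw [hphi, phi_one]) (by rw [h, mu_one]))
    have hm1 : mu Φ w = 1 := by
      have h3 : mu Φ w * (1 + mu Φ w) = 0 := by linear_combination hms
      have h4 := (mul_eq_zero.1 h3).resolve_left hmne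
      linear_combination h4 - h2
    refine Subtype.ext ?_
    show g.1 * z * g.1⁻¹ = z
    rw [← hw, hz]
    exact eq_of_phi_mu hF Φ hwP (tv_mem_P hF Φ 1 h1s) (by rw [hphi, phi_tv hF Φ 1 h1s])
      (by rw [hm1, mu_tv hF Φ 1 h1s])

set_option maxHeartbeats 400000 in
theorem FourElt.core_prime (hF : Fintype.card F = q ^ 2) (h2 : (2 : F) = 0) {f : SU 3 F q}
    (hf : FourElt Φ f) (hfM : f ∈ M) (O : Subgroup M) [O.Normal] (hOodd : Odd (Nat.card O))
    {l : ℕ} (hl : l.Prime) (hld : l ∣ Nat.card O) : l = 3 := by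
  haveI : Fact (Nat.Prime 2) := ⟨Nat.prime_two⟩
  haveI : Fact (Nat.Prime 3) := ⟨Nat.prime_three⟩
  have hfP := hf.mem
  haveI : Fact l.Prime := ⟨hl⟩
  let fM : M := ⟨f, hfM⟩
  let ψ : Subgroup.zpowers fM →* MulAut O :=
    (MulAut.conjNormal (H := O)).comp (Subgroup.zpowers fM).subtype
  letI : MulAction (Subgroup.zpowers fM) (Sylow l O) := MulAction.compHom _ ψ
  have hpg : IsPGroup 2 (Subgroup.zpowers fM) := by
    have h4 : fM ^ 2 ^ 2 = 1 := Subtype.ext (by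
      show f ^ 2 ^ 2 = 1
      exact P_pow_four hF h2 Φ hfP)
    obtain ⟨k, -, hk⟩ := (Nat.dvd_prime_pow Nat.prime_two).1 (orderOf_dvd_of_pow_eq_one h4)
    exact IsPGroup.of_card (n := k) (by rw [Nat.card_zpowers, hk])
  have hn : ¬ 2 ∣ Nat.card (Sylow l O) := by
    intro h
    obtain ⟨P⟩ := (inferInstance : Nonempty (Sylow l O))
    rw [Sylow.card_eq_index_normalizer P] at h
    have := hOodd.of_dvd_nat (Subgroup.index_dvd_card (Subgroup.normalizer (P : Set O)))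
    exact Nat.not_even_iff_odd.2 this (even_iff_two_dvd.2 h)
  obtain ⟨P, hP⟩ := hpg.nonempty_fixed_point_of_prime_not_dvd_card (Sylow l O) hn
  have hPf : (MulAut.conjNormal (H := O) fM) • (P : Subgroup O) = (P : Subgroup O) :=
    congrArg (fun Q : Sylow l O => (Q : Subgroup O)) (hP ⟨fM, Subgroup.mem_zpowers fM⟩)
  have hPl : l ∣ Nat.card P := by
    have := P.pow_dvd_card_of_pow_dvd_card (n := 1) (by rw [pow_one]; exact hld)
    rwa [pow_one] at this
  haveI : Nontrivial P := Finite.one_lt_card_iff_nontrivial.1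
    (lt_of_lt_of_le hl.one_lt (Nat.le_of_dvd Nat.card_pos hPl))
  let ι : (P : Subgroup O) →* SU 3 F q := (M.subtype.comp O.subtype).comp (P : Subgroup O).subtype
  have hι : Function.Injective ι :=
    (Subtype.val_injective.comp Subtype.val_injective).comp Subtype.val_injective
  let A : Subgroup (SU 3 F q) := (Subgroup.center (P : Subgroup O)).map ι
  have hAodd : Odd (Nat.card A) := by
    rw [Subgroup.card_map_of_injective hι]
    exact hOodd.of_dvd_nat ((Subgroup.card_subgroup_dvd_card _).trans (Subgroup.card_subgroup_dvd_card _))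
  have hAab : ∀ a ∈ A, ∀ b ∈ A, a * b = b * a := by
    rintro _ ⟨a, ha, rfl⟩ _ ⟨b, hb, rfl⟩
    rw [← map_mul, ← map_mul, Subgroup.mem_center_iff.1 ha b]
  have hAinv : ∀ a ∈ A, f * a * f⁻¹ ∈ A := by
    rintro _ ⟨a, ha, rfl⟩
    have hmem : MulAut.conjNormal (H := O) fM a.1 ∈ (P : Subgroup O) := by
      exact (le_of_eq hPf) (Subgroup.smul_mem_pointwise_smul _ _ _ a.2)
    refine ⟨⟨_, hmem⟩, Subgroup.mem_center_iff.2 fun y => ?_, ?_⟩
    · obtain ⟨s, hs, hsy⟩ := (Subgroup.mem_smul_pointwise_iff_exists _ _ _).1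
        (show y.1 ∈ (MulAut.conjNormal (H := O) fM) • (P : Subgroup O) from hPf.symm ▸ y.2)
      have hc : s * a.1 = a.1 * s := congrArg Subtype.val (Subgroup.mem_center_iff.1 ha ⟨s, hs⟩)
      refine Subtype.ext ?_
      show y.1 * MulAut.conjNormal fM a.1 = MulAut.conjNormal fM a.1 * y.1
      rw [← hsy, MulAut.smul_def, ← map_mul, ← map_mul, hc]
    · show ((MulAut.conjNormal fM a.1 : O) : M).1 = f * ((a.1 : O) : M).1 * f⁻¹
      rw [MulAut.conjNormal_apply]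
      rfl
  have hsc := hf.scalar_of_abelian hF h2 hAodd hAab hAinv
  haveI := (P.2.center_nontrivial : Nontrivial (Subgroup.center (P : Subgroup O)))
  obtain ⟨a, ha1⟩ := exists_ne (1 : Subgroup.center (P : Subgroup O))
  obtain ⟨c, hc⟩ := hsc (Subgroup.mem_map_of_mem ι a.2)
  have h3 : (ι a.1) ^ 3 = 1 := su_ext fun v => by
    rw [pow_succ, pow_two, act_mul, act_mul, hc, hc, hc, act_one, smul_smul, smul_smul,
      show c * c * c = c ^ 3 by ring, IsScalar.pow_three Φ ⟨c, hc⟩ hc, one_smul]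
  have hne : a.1 ≠ 1 := fun h => ha1 (Subtype.ext h)
  have ho : orderOf a.1 = 3 := orderOf_eq_prime (hι (by rw [map_pow, map_one]; exact h3)) hne
  obtain ⟨k, hk⟩ := IsPGroup.iff_card.1 P.2
  have hd : 3 ∣ l ^ k := by
    have h := orderOf_dvd_natCard a.1
    rwa [ho, hk] at h
  exact ((Nat.prime_dvd_prime_iff_eq Nat.prime_three hl).1 (Nat.prime_three.dvd_of_dvd_pow hd)).symm

set_option maxHeartbeats 800000 in
theorem Over.all_inX_two (S : Sub q q0 r F₀) (hq : 3 ≤ q) (hq0 : q0 = 2) (hM : Over F₀ Φ M) :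
    ∀ g ∈ M, InX F₀ Φ g := by
  classical
  have hF := S.hF
  have h2 : (2 : F) = 0 := two_ne_of_q0_two S hq0
  haveI := charP_two h2
  haveI : Fact (Nat.Prime 2) := ⟨Nat.prime_two⟩
  haveI : Fact (Nat.Prime 3) := ⟨Nat.prime_three⟩
  have h1s : (1 : F) + 1 ^ q = 0 := by rw [one_pow]; linear_combination h2
  obtain ⟨z, hz⟩ : ∃ z, z = tv hF Φ.e 1 Φ.ee h1s := ⟨_, rfl⟩
  have hzX : InX F₀ Φ z := hz ▸ inX_tv Φ hF (rat_e Φ) Φ.ee h1s (one_mem _)
  have hz2 : z * z = 1 := hz ▸ tv_sq hF h2 Φ.ee h1s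
  have hz1 : z ≠ 1 := hz ▸ tv_ne_one hF Φ h1s one_ne_zero
  have hzP : z ∈ Φ.P := hz ▸ tv_mem_P hF Φ 1 h1s
  -- the element of order four
  obtain ⟨f, hfX, hfP, hf1⟩ := exists_phi Φ S (one_mem F₀)
  have hff : f * f = z := by
    rw [hz]
    refine eq_of_phi_mu hF Φ (mul_mem hfP hfP) (tv_mem_P hF Φ 1 h1s) ?_ ?_
    · rw [phi_mul hF Φ hfP hfP, phi_tv hF Φ 1 h1s, hf1]; linear_combination h2
    · rw [mu_mul hF Φ hfP hfP, mu_tv hF Φ 1 h1s, hf1, one_pow]
      linear_combination (mu Φ f - 1) * h2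
  have hf : FourElt Φ f :=
    ⟨hfP, hf1, fun v => by rw [hff, hz, tv_act, one_mul]⟩
  have hfM : f ∈ M := hM.sub f hfX
  have hzM : z ∈ M := hM.sub z hzX
  have hiso := hM.isolated S hq hq0 h2 h1s hz hzX hz2 hz1 hzP hzM
  obtain ⟨O, hON, hOodd, hOc⟩ := ZStarTheorem.exists_odd_normal hiso
  haveI := hON
  obtain ⟨O', hcard, hO'n, hZ'⟩ := core_image O hON hzM hOc
  -- the odd core is a three-group
  have hthree : ∀ l : ℕ, l.Prime → l ∣ Nat.card O → l = 3 := fun l hl hld =>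
    hf.core_prime hF h2 hfM O hOodd hl hld
  obtain ⟨n, hn⟩ : ∃ n, Nat.card O = 3 ^ n :=
    ⟨_, Nat.eq_prime_pow_of_unique_prime_dvd Nat.card_pos.ne' (fun {l} h1 h2 => hthree l h1 h2)⟩
  have hpO : IsPGroup 3 O' := IsPGroup.of_card (n := n) (by rw [hcard, hn])
  have h27 : Nat.card O' ≤ 27 := hf.card_le hF h2 hpO fun a ha => hO'n f hfM a ha
  -- the part of the odd core inside the subfield subgroup
  have hZ : ∀ g : M, g.1 * z * g.1⁻¹ * z⁻¹ ∈ O' := fun g => hZ' g.1 g.2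
  let R : Subgroup (SU 3 F q) := O' ⊓ xGroup F₀ Φ
  have hRle : R ≤ O' := inf_le_left
  have hRinv : ∀ a ∈ R, f * a * f⁻¹ ∈ R := fun a ha =>
    Subgroup.mem_inf.2 ⟨hO'n f hfM a (Subgroup.mem_inf.1 ha).1,
      (hfX.mul (Subgroup.mem_inf.1 ha).2).mul hfX.inv⟩
  obtain ⟨k, hk⟩ := IsPGroup.iff_card.1 (hpO.to_le hRle)
  have hRodd : Odd (Nat.card R) := by rw [hk]; exact Odd.pow (by decide)
  have h3k : 3 ≤ k := by
    by_contra hlt
    push Not at hlt
    have hab : ∀ a b : R, a * b = b * a := by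
      interval_cases k
      · haveI := (Nat.card_eq_one_iff_unique.1 (by rw [hk]; rfl : Nat.card R = 1)).1
        exact fun a b => Subsingleton.elim _ _
      · haveI : IsCyclic R := isCyclic_of_prime_card (p := 3) (by rw [hk, pow_one])
        letI := IsCyclic.commGroup (α := R)
        exact mul_comm
      · exact IsPGroup.commutative_of_card_eq_prime_sq hk
    have hsc := hf.scalar_of_abelian hF h2 hRodd
      (fun a ha b hb => congrArg Subtype.val (hab ⟨a, ha⟩ ⟨b, hb⟩)) hRinv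
    obtain ⟨Φ', he', hf', hk'⟩ :=
      exists_mkFrame hF Φ.ff Φ.ee Φ.ef Φ.kf Φ.ke Φ.kk
    obtain ⟨h, hhX, hhe, -⟩ := exists_map Φ (F₀ := F₀) hF (Φ' := Φ')
      ⟨he' ▸ rat_f Φ, hf' ▸ rat_e Φ, hk' ▸ rat_k Φ⟩
    have hmem : h * z * h⁻¹ * z⁻¹ ∈ R :=
      Subgroup.mem_inf.2 ⟨hZ ⟨h, hM.sub h hhX⟩, ((hhX.mul hzX).mul hhX.inv).mul hzX.inv⟩
    obtain ⟨c, hc⟩ := hsc hmem
    have h3 := hc Φ.e
    rw [act_mul, (mem_P Φ).1 (inv_mem hzP), act_mul, act_mul, hz, tv_act, act_add, act_smul,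
      act_act_inv, hhe, he', ← herm_act h (act h⁻¹ Φ.e) Φ.e, act_act_inv, hhe, he', Φ.ef] at h3
    have h4 := congrArg (fun v => hh v Φ.e) h3
    simp only [herm_add_left, herm_smul_left, Φ.ee, Φ.fe, mul_zero, mul_one, zero_add] at h4
    exact one_ne_zero h4
  have hRO : R = O' := by
    refine Subgroup.eq_of_le_of_card_ge hRle (h27.trans ?_)
    rw [hk]
    exact (show 27 = 3 ^ 3 from rfl).le.trans (Nat.pow_le_pow_right (by norm_num) h3k)
  intro g hg
  have hmem : g * z * g⁻¹ * z⁻¹ ∈ R := by rw [hRO]; exact hZ ⟨g, hg⟩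
  have hX : InX F₀ Φ (g * z * g⁻¹) := by
    have := InX.mul (Subgroup.mem_inf.1 hmem).2 hzX
    rwa [inv_mul_cancel_right] at this
  have := (hM.key_invol S hq (inv_mem hg) hzX (by rwa [inv_inv]) hz2 hz1).inv
  rwa [inv_inv] at this

/-- A proper overgroup of the subfield subgroup is contained in it. -/
theorem Over.all_inX (S : Sub q q0 r F₀) (hq : 3 ≤ q) (hM : Over F₀ Φ M) :
    ∀ g ∈ M, InX F₀ Φ g := by
  by_cases h2 : (2 : F) = 0
  · by_cases h0 : q0 = 2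
    · exact hM.all_inX_two S hq h0
    · exact hM.all_inX_even S hq h2 (by have := S.two_le; omega)
  · exact hM.all_inX_odd S hq h2

theorem exists_not_inX (S : Sub q q0 r F₀) (Φ : Frame q F) : ∃ g : SU 3 F q, ¬ InX F₀ Φ g := by
  have hF := S.hF
  obtain ⟨x, hx⟩ := exists_fixed_notMem S
  obtain ⟨d, hd0, hd, hds⟩ := S.exists_skew0
  have hdq : d ^ q = -d := by linear_combination hds
  have hs : d * (x : F) + (d * (x : F)) ^ q = 0 := by
    rw [mul_pow, hdq, show (x : F) ^ q = x from x.2]; ring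
  refine ⟨tv hF Φ.e (d * (x : F)) Φ.ee hs, fun ⟨b, hb0, hb⟩ => hx ?_⟩
  have hk := hb Φ.k (rat_k Φ)
  rw [tv_act, Φ.ke, mul_zero, zero_smul, add_zero] at hk
  have hb' : b ∈ F₀ := (rat_k Φ).of_smul Φ (fun h => by
    have := Φ.kk; rw [h, herm_zero_left] at this; exact zero_ne_one this) hk
  have hf := (hb Φ.f (rat_f Φ)).1
  rw [tv_act, herm_smul_left, herm_add_left, herm_smul_left, Φ.ff, Φ.fe, Φ.ef, zero_add] at hf
  simp only [mul_one] at hf
  have := div_mem (div_mem hf hb') hd0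
  rw [mul_div_cancel_left₀ _ hb0, mul_div_cancel_left₀ _ hd] at this
  exact this

/-- Subfield subgroups of odd prime index are maximal in `SU_3(q)`. -/
theorem maximal_subf {F : Type*} [Field F] [Fintype F] (q : ℕ) (hF : Fintype.card F = q ^ 2) (hq : 3 ≤ q) :
    (∀ (F₀ : Subfield F) (r : ℕ) (P : Matrix.GeneralLinearGroup (Fin 3) F), r.Prime → Odd r → Fintype.card F = Nat.card F₀ ^ r → Cfsg.Geo.IsFormRationalStructure (Cfsg.hermForm 3 F q) F₀ 1 P → Cfsg.Geo.IsMaximalIn (Cfsg.GU 3 F q ⊓ Cfsg.Geo.specialLinear (Fin 3) F) (Cfsg.Geo.subfieldSubgroup F₀ P ⊓ (Cfsg.GU 3 F q ⊓ Cfsg.Geo.specialLinear (Fin 3) F))) := by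
  intro F₀ r P hr hodd hc hP
  obtain ⟨q0, S⟩ := exists_sub hF hr hodd hc
  obtain ⟨Φ, hΦ⟩ := exists_ratFrame S P hP
  refine SUThree44Base.isMaximalIn_of3 hF _ ?_ fun M hLM g hg hgX => ?_
  · obtain ⟨g, hg⟩ := exists_not_inX S Φ
    exact ⟨g, fun h => hg ((hΦ g).1 h)⟩
  · by_contra hne
    exact hgX ((hΦ g).2 (Over.all_inX S hq ⟨fun x hx => hLM ((hΦ x).2 hx), hne⟩ g hg))

end Cfsg.Agent.SUThree49
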