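import Cfsg.Agent.Lib.SUThree49Strong
import Cfsg.Agent.Lib.ZStarTheorem

/-!
The case `q₀ = 2`: a root involution would be isolated, so central modulo the odd core, and the odd core
is a `3`-group inside the subfield subgroup.
-/

set_option autoImplicit false
set_option linter.unusedSectionVars false
set_option linter.unusedVariables false

namespace Cfsg.Agent.SUThree49

open Cfsg Cfsg.Agent.OrthUnitaryHerm Cfsg.Agent.OrthUnitaryTransvection Cfsg.Agent.OrthUnitaryMaximal
open Cfsg.Agent.MinIndexPSU3Geo89 Cfsg.Agent.MinIndexPSU3Stab89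
open Cfsg.Agent.SUThree44Base (vec dep_of_iso_orth)
open scoped Matrix MatrixGroups Pointwise

variable {F : Type*} [Field F] [Fintype F] {q q0 r : ℕ} {F₀ : Subfield F}

local notation "hh" => hermForm 3 F q

/-- Scalar elements. -/
def IsScalar (g : SU 3 F q) : Prop := ∃ l : F, ∀ v, act g v = l • v

theorem IsScalar.comm {g : SU 3 F q} (h : IsScalar g) (x : SU 3 F q) : g * x = x * g := by
  obtain ⟨l, hl⟩ := h
  refine su_ext fun v => ?_
  rw [act_mul, act_mul, hl, hl, act_smul]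

/-- The scalar elements as a subgroup. -/
def scalarSub : Subgroup (SU 3 F q) where
  carrier := {g | IsScalar g}
  one_mem' := ⟨1, fun v => by rw [act_one, one_smul]⟩
  mul_mem' := by
    rintro a b ⟨l, hl⟩ ⟨m, hm⟩
    exact ⟨l * m, fun v => by rw [act_mul, hm, hl, smul_smul]⟩
  inv_mem' := by
    intro a ha
    obtain ⟨l, hl⟩ := ha
    refine ⟨l⁻¹, fun v => ?_⟩
    have h := hl (act a⁻¹ v)
    rw [act_act_inv] at h
    rcases eq_or_ne l 0 with h0 | h0
    · rw [h0, zero_smul] at h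
      subst h
      rw [smul_zero]
      exact Matrix.mulVec_zero _
    · conv_rhs => rw [h, smul_smul, inv_mul_cancel₀ h0, one_smul]

theorem IsScalar.pow_three (Φ : Frame q F) {g : SU 3 F q} (h : IsScalar g) {l : F}
    (hl : ∀ v, act g v = l • v) : l ^ 3 = 1 := by
  have hd := det_coordMat Φ g
  rw [Matrix.det_fin_three] at hd
  simp [coordMat, coord, hl, herm_smul_left, Φ.ee, Φ.ef, Φ.ek, Φ.fe, Φ.ff, Φ.fk, Φ.ke, Φ.kf, Φ.kk] at hd
  linear_combination hd

theorem card_le_three (Φ : Frame q F) {A : Subgroup (SU 3 F q)} (hA : A ≤ scalarSub) :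
    Nat.card A ≤ 3 := by
  classical
  have hA' : ∀ a : A, ∃ l : F, ∀ v, act a.1 v = l • v := fun a => hA a.2
  choose l hl using hA'
  let f : A → {x : F // x ∈ (Polynomial.nthRoots 3 (1 : F)).toFinset} := fun a => ⟨l a, by
    rw [Multiset.mem_toFinset, Polynomial.mem_nthRoots (by norm_num)]
    exact IsScalar.pow_three Φ ⟨_, hl a⟩ (hl a)⟩
  have hinj : Function.Injective f := fun a b h => Subtype.ext (su_ext fun v => by
    rw [hl a, hl b, show l a = l b from congrArg Subtype.val h])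
  refine (Nat.card_le_card_of_injective f hinj).trans ?_
  rw [Nat.card_eq_fintype_card, Fintype.card_coe]
  exact (Multiset.toFinset_card_le _).trans (Polynomial.card_nthRoots 3 1)

variable {Φ : Frame q F}

theorem P_pow_four (hF : Fintype.card F = q ^ 2) (h2 : (2 : F) = 0) (Ψ : Frame q F) {x : SU 3 F q}
    (hx : x ∈ Ψ.P) : x ^ 4 = 1 := by
  have hx2 := mul_mem hx hx
  have hp : phi Ψ (x * x) = 0 := by rw [phi_mul hF Ψ hx hx]; linear_combination phi Ψ x * h2
  rw [show x ^ 4 = (x * x) * (x * x) by simp [pow_succ, mul_assoc]]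
  refine eq_of_phi_mu hF Ψ (mul_mem hx2 hx2) (one_mem _) ?_ ?_
  · rw [phi_mul hF Ψ hx2 hx2, hp, phi_one, add_zero]
  · rw [mu_mul hF Ψ hx2 hx2, hp, mu_one]; linear_combination mu Ψ (x * x) * h2

theorem eq_one_of_odd_four {G : Type*} [Monoid G] {x : G} {n : ℕ} (hn : Odd n) (h : x ^ n = 1)
    (h4 : x ^ 4 = 1) : x = 1 := by
  refine orderOf_eq_one_iff.1 (Nat.eq_one_of_dvd_coprimes ?_ (orderOf_dvd_of_pow_eq_one h)
    (orderOf_dvd_of_pow_eq_one h4))
  exact Nat.Coprime.pow_right 2 (Nat.coprime_two_right.2 hn)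

theorem eq_one_of_fix_iso (hF : Fintype.card F = q ^ 2) (h2 : (2 : F) = 0) {x : SU 3 F q} {n : ℕ}
    (hn : Odd n) (h : x ^ n = 1) {v : Fin 3 → F} (hv0 : v ≠ 0) (hv : hh v v = 0)
    (hfix : act x v = v) : x = 1 := by
  obtain ⟨Ψ, rfl⟩ := exists_frame hF hv0 hv
  exact eq_one_of_odd_four hn h (P_pow_four hF h2 Ψ hfix)

/-- The data of an element of order four over a root involution. -/
structure FourElt (Φ : Frame q F) (f : SU 3 F q) : Prop where
  mem : f ∈ Φ.P
  phi : MinIndexPSU3Geo89.phi Φ f = 1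
  sq : ∀ v, act (f * f) v = v + hh v Φ.e • Φ.e

variable {f : SU 3 F q}

theorem FourElt.fix_line (hF : Fintype.card F = q ^ 2) (hf : FourElt Φ f) {a : SU 3 F q}
    (hc : (f * f) * a = a * (f * f)) : ∃ c : F, c ≠ 0 ∧ act a Φ.e = c • Φ.e := by
  have hne : f * f ≠ 1 := fun h => by
    have h1 := hf.sq Φ.f
    rw [h, act_one, Φ.fe, one_smul] at h1
    exact e_ne_zero Φ (left_eq_add.mp h1)
  have hline : mkLine (act a Φ.e) (act_ne_zero a (e_ne_zero Φ)) (by rw [herm_act, Φ.ee]) = Φ.line := by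
    by_contra hne'
    refine hne (semiregular hF Φ (mul_mem hf.mem hf.mem) hne' ?_)
    rw [smul_mkLine]
    refine Subtype.ext ?_
    show lineOf (act (f * f) (act a Φ.e)) = lineOf (act a Φ.e)
    rw [← act_mul, hc, act_mul, (mem_P Φ).1 (mul_mem hf.mem hf.mem)]
  exact mkLine_eq hline

theorem FourElt.eig_norm (hF : Fintype.card F = q ^ 2) (hf : FourElt Φ f) {a : SU 3 F q} {c : F}
    (ha : act a Φ.e = c • Φ.e) (hc : (f * f) * a = a * (f * f)) : c ^ (q + 1) = 1 := by
  have h := congrArg (fun x => hh (act x Φ.f) Φ.f) hc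
  simp only [act_mul (f * f) a, act_mul a (f * f), hf.sq, act_add, act_smul, herm_add_left,
    herm_smul_left, Φ.fe, Φ.ef, one_mul, mul_one, ha] at h
  -- h : ... + h(a f, e) = ... + c
  have h1 : hh (act a Φ.f) Φ.e = c := by linear_combination h
  have h2 := herm_act a Φ.f Φ.e
  rw [ha, herm_smul_right, Φ.fe, h1] at h2
  rw [pow_succ]; exact h2

theorem FourElt.scalar_of_comm (hF : Fintype.card F = q ^ 2) (h2 : (2 : F) = 0) (hf : FourElt Φ f)
    {a : SU 3 F q} {n : ℕ} (hn : Odd n) (han : a ^ n = 1) (hc : f * a = a * f) : IsScalar a := by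
  have hc2 : (f * f) * a = a * (f * f) := by rw [mul_assoc, hc, ← mul_assoc, hc, mul_assoc]
  obtain ⟨c, hc0, ha⟩ := hf.fix_line hF hc2
  have hs := hf.eig_norm hF ha hc2
  have ht := phi_conj hF Φ hc0 ha hf.mem
  rw [← hc, mul_inv_cancel_right, hf.phi, mul_one, eq_comm, div_eq_one_iff_eq (pow_ne_zero _ hc0)] at ht
  have h3 : c ^ 3 = 1 := by rw [pow_succ, ← ht] at hs; linear_combination hs
  have hci : (c ^ q)⁻¹ = c := by
    rw [← ht]; refine inv_eq_of_mul_eq_one_left ?_; linear_combination h3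
  have hck : c ^ q / c = c := by rw [← ht]; field_simp
  obtain ⟨t, te, tf, tk⟩ := exists_torus' Φ hF hc0
  rw [hci] at tf
  rw [hck] at tk
  have hts : ∀ v, act t v = c • v := fun v => by
    rw [Φ.span v]
    simp only [act_add, act_smul, te, tf, tk, smul_add, smul_smul, mul_comm c]
  have htc : IsScalar t := ⟨c, hts⟩
  have hP : t⁻¹ * a ∈ Φ.P := by
    have := congrArg (act t⁻¹) te
    rw [act_inv_act, act_smul] at this
    rw [mem_P, act_mul, ha, act_smul, ← this]
  have ht3 : t ^ 3 = 1 := su_ext fun v => by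
    rw [pow_succ, pow_two, act_mul, act_mul, hts, hts, hts, act_one, smul_smul, smul_smul]
    rw [show c * c * c = c ^ 3 by ring, h3, one_smul]
  have hcomm : Commute t⁻¹ a := (show Commute t a from htc.comm a).inv_left
  have h4 : t⁻¹ * a = 1 := by
    refine eq_one_of_odd_four (n := 3 * n) (Odd.mul (by decide) hn) ?_ (P_pow_four hF h2 Φ hP)
    rw [hcomm.mul_pow, inv_pow, pow_mul t, ht3, one_pow, inv_one, mul_comm 3 n, pow_mul a, han,
      one_pow, one_mul]
  rw [← inv_mul_eq_one.1 h4]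
  exact htc

/-- An abelian subgroup of odd order normalised by `f` is scalar. -/
theorem FourElt.scalar_of_abelian (hF : Fintype.card F = q ^ 2) (h2 : (2 : F) = 0) (hf : FourElt Φ f)
    {A : Subgroup (SU 3 F q)} (hodd : Odd (Nat.card A)) (hab : ∀ a ∈ A, ∀ b ∈ A, a * b = b * a)
    (hinv : ∀ a ∈ A, f * a * f⁻¹ ∈ A) : A ≤ scalarSub := by
  have hpow : ∀ a ∈ A, a ^ Nat.card A = 1 := fun a ha => by
    have := pow_card_eq_one' (G := A) (x := ⟨a, ha⟩)
    exact congrArg Subtype.val this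
  have hz : ∀ a ∈ A, (f * f) * a = a * (f * f) → IsScalar a := by
    intro a ha hc
    obtain ⟨c, hc0, hae⟩ := hf.fix_line hF hc
    have hbA : f * a * f⁻¹ * a⁻¹ ∈ A := mul_mem (hinv a ha) (inv_mem ha)
    have hfi : act f⁻¹ Φ.e = Φ.e := (mem_P Φ).1 (inv_mem hf.mem)
    have hai : act a⁻¹ Φ.e = c⁻¹ • Φ.e := by
      rw [eq_inv_smul_iff₀ hc0, ← act_smul, ← hae, act_inv_act]
    have hb : f * a * f⁻¹ * a⁻¹ = 1 := by
      refine eq_one_of_fix_iso hF h2 hodd (hpow _ hbA) (e_ne_zero Φ) Φ.ee ?_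
      rw [act_mul, act_mul, act_mul, hai, act_smul, hfi, act_smul, hae, smul_smul,
        inv_mul_cancel₀ hc0, one_smul, (mem_P Φ).1 hf.mem]
    exact hf.scalar_of_comm hF h2 hodd (hpow a ha) (mul_inv_eq_iff_eq_mul.1 (mul_inv_eq_one.1 hb))
  have hz' : ∀ a ∈ A, (f * f) * a * (f * f)⁻¹ ∈ A := fun a ha => by
    rw [show (f * f) * a * (f * f)⁻¹ = f * (f * a * f⁻¹) * f⁻¹ by group]
    exact hinv _ (hinv a ha)
  have hsqz : (f * f) * (f * f) = 1 := su_ext fun v => by
    rw [act_mul, hf.sq, hf.sq, act_one, herm_add_left, herm_smul_left, Φ.ee, mul_zero, add_zero,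
      add_assoc, ← add_smul, show hh v Φ.e + hh v Φ.e = 0 by linear_combination hh v Φ.e * h2,
      zero_smul, add_zero]
  have hzi : (f * f)⁻¹ = f * f := inv_eq_of_mul_eq_one_left hsqz
  -- inverted elements are trivial
  have hinverted : ∀ a ∈ A, (f * f) * a * (f * f)⁻¹ = a⁻¹ → a = 1 := by
    intro a ha hai
    obtain ⟨m, hm⟩ := hodd
    have hhalf : a = (a * a) ^ (m + 1) := by
      rw [← pow_two, ← pow_mul, show 2 * (m + 1) = 2 * m + 1 + 1 by ring, pow_succ, ← hm, hpow a ha,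
        one_mul]
    have hza : a * (f * f) * a⁻¹ = a * a * (f * f) := by
      have h1 : (f * f) * a⁻¹ = a * (f * f) := by
        have := congrArg (·⁻¹) hai
        simp only [mul_inv_rev, inv_inv] at this
        calc (f * f) * a⁻¹ = (f * f) * (a⁻¹ * (f * f)⁻¹) * (f * f) := by group
          _ = a * (f * f) := by
            conv_rhs => rw [← this]
            group
      rw [mul_assoc, h1, ← mul_assoc]
    by_contra hne
    have hσ : hh Φ.e (act a Φ.e) ≠ 0 := by
      intro h0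
      obtain ⟨c, hc⟩ := dep_of_iso_orth hF (e_ne_zero Φ) Φ.ee
        (v := act a Φ.e) (by rw [herm_act, Φ.ee]) (herm_skew_zero hF h0)
      have hc0 : c ≠ 0 := fun h => act_ne_zero a (e_ne_zero Φ) (by rw [hc, h, zero_smul])
      have hP : a * a * (f * f) ∈ Φ.P := hza ▸ conj_mem_P Φ hc0 hc (mul_mem hf.mem hf.mem)
      have haP : a * a ∈ Φ.P := by
        have := mul_mem hP (inv_mem (mul_mem hf.mem hf.mem))
        rwa [mul_inv_cancel_right] at this
      have h1 : a * a = 1 := eq_one_of_odd_four ⟨m, hm⟩ (hpow _ (mul_mem ha ha)) (P_pow_four hF h2 Φ haP)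
      rw [h1, one_pow] at hhalf
      exact hne hhalf
    obtain ⟨w, hw⟩ : ∃ w, w = Φ.k - (hh Φ.k (act a Φ.e) / hh Φ.e (act a Φ.e)) • Φ.e := ⟨_, rfl⟩
    have hwe : hh w Φ.e = 0 := by rw [hw, herm_sub_left, herm_smul_left, Φ.ke, Φ.ee]; ring
    have hwae : hh w (act a Φ.e) = 0 := by
      rw [hw, herm_sub_left, herm_smul_left, div_mul_cancel₀ _ hσ, sub_self]
    have hww : hh w w = 1 := by
      rw [hw]
      simp only [herm_sub_left, herm_sub_right hF, herm_smul_left, herm_smul_right, Φ.ee, Φ.ek,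
        Φ.ke, Φ.kk]
      ring
    have hzw : act (f * f) w = w := by rw [hf.sq, hwe, zero_smul, add_zero]
    have haaw : act (a * a) w = w := by
      have h1 : act (a * (f * f) * a⁻¹) w = w := by
        rw [act_mul, act_mul, hf.sq, ← herm_act a (act a⁻¹ w) Φ.e, act_act_inv, hwae, zero_smul,
          add_zero, act_act_inv]
      rwa [hza, act_mul, hzw] at h1
    have haw : act a w = w := by
      have hfixpow : ∀ k : ℕ, act ((a * a) ^ k) w = w := by
        intro k
        induction k with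
        | zero => rw [pow_zero, act_one]
        | succ k ih => rw [pow_succ, act_mul, haaw, ih]
      rw [hhalf]; exact hfixpow _
    obtain ⟨w', hw'⟩ : ∃ w', w' = act f w := ⟨_, rfl⟩
    have hw'w : w' = w + Φ.e := by
      rw [hw', hw, act_sub, act_smul, (mem_P Φ).1 hf.mem, act_k hF Φ hf.mem, hf.phi, one_smul]
      abel
    have hbA := hinv a ha
    have hb1 : f * a * f⁻¹ ≠ 1 := fun h => hne (by
      rw [show a = f⁻¹ * (f * a * f⁻¹) * f by group, h]; group)
    have hbw : act (f * a * f⁻¹) w' = w' := by rw [hw', act_mul, act_mul, act_inv_act, haw]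
    have hw'1 : hh w' w' = 1 := by rw [hw', herm_act, hww]
    obtain ⟨γ, hγ⟩ : ∃ γ, act a w' = γ • w' := by
      refine ⟨hh (act a w') w', ?_⟩
      have hbv : act (f * a * f⁻¹) (act a w') = act a w' := by
        rw [← act_mul, hab _ hbA _ ha, act_mul, hbw]
      obtain ⟨v', hv'⟩ : ∃ v', v' = act a w' - hh (act a w') w' • w' := ⟨_, rfl⟩
      rw [← sub_eq_zero, ← hv']
      by_contra hv0
      have hbv' : act (f * a * f⁻¹) v' = v' := by rw [hv', act_sub, act_smul, hbv, hbw]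
      have hperp : hh v' w' = 0 := by
        rw [hv', herm_sub_left, herm_smul_left, hw'1, mul_one, sub_self]
      refine hb1 ?_
      by_cases hvv : hh v' v' = 0
      · exact eq_one_of_fix_iso hF h2 ⟨m, hm⟩ (hpow _ hbA) hv0 hvv hbv'
      obtain ⟨x, hx⟩ := exists_norm_eq hF (a := -hh v' v') (by rw [neg_pow_q hF, herm_self_pow hF])
      refine eq_one_of_fix_iso hF h2 ⟨m, hm⟩ (hpow _ hbA) (v := x • w' + v') ?_ ?_
        (by rw [act_add, act_smul, hbw, hbv'])
      · intro h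
        have := congrArg (fun u => hh u v') h
        simp only [herm_add_left, herm_smul_left, herm_skew_zero hF hperp, mul_zero, zero_add,
          herm_zero_left] at this
        exact hvv this
      · simp only [herm_add_left, herm_add_right hF, herm_smul_left, herm_smul_right, hperp,
          herm_skew_zero hF hperp, hw'1]
        rw [pow_succ'] at hx
        linear_combination hx
    have hone : hh w w' = 1 := by rw [hw'w, herm_add_right hF, hww, hwe, add_zero]
    have hγ1 : γ = 1 := by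
      have h1 := herm_act a w w'
      rw [haw, hγ, herm_smul_right, hone, mul_one] at h1
      rw [← pow_q_q hF γ, h1, one_pow]
    rw [hγ1, one_smul, hw'w, act_add, haw, add_right_inj] at hγ
    exact hne (eq_one_of_fix_iso hF h2 ⟨m, hm⟩ (hpow a ha) (e_ne_zero Φ) Φ.ee hγ)
  intro a ha
  obtain ⟨a', ha'⟩ : ∃ a', a' = (f * f) * a * (f * f)⁻¹ := ⟨_, rfl⟩
  have ha'A : a' ∈ A := ha' ▸ hz' a ha
  have hback : (f * f) * a' * (f * f)⁻¹ = a := by
    rw [ha', show f * f * (f * f * a * (f * f)⁻¹) * (f * f)⁻¹ =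
      (f * f * (f * f)) * a * (f * f * (f * f))⁻¹ by group, hsqz]
    group
  have hw : a * a'⁻¹ = 1 := by
    refine hinverted _ (mul_mem ha (inv_mem ha'A)) ?_
    rw [show (a * a'⁻¹)⁻¹ = a' * a⁻¹ by group,
      show f * f * (a * a'⁻¹) * (f * f)⁻¹ =
        f * f * a * (f * f)⁻¹ * (f * f * a' * (f * f)⁻¹)⁻¹ by group, hback, ← ha']
  exact hz a ha (mul_inv_eq_iff_eq_mul.1 (ha' ▸ (mul_inv_eq_one.1 hw).symm))

set_option maxHeartbeats 800000 in
/-- Distinct characters give linearly independent matrices. -/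
theorem card_le_of_chars {R B : Subgroup (SU 3 F q)} (Φ : Frame q F)
    (hB : ∀ b ∈ B, ∀ x ∈ R, IsScalar (b * x * b⁻¹ * x⁻¹))
    (hC : ∀ x ∈ R, (∀ b ∈ B, x * b = b * x) → IsScalar x) : Nat.card R ≤ 27 := by
  classical
  -- the character of an element on `B`
  have hchi : ∀ (x : R) (b : B), ∃ l : F, ∀ v, act (b.1 * x.1 * b.1⁻¹ * x.1⁻¹) v = l • v :=
    fun x b => hB b.1 b.2 x.1 x.2
  choose L hL using hchi
  have huniq : ∀ {g : SU 3 F q} {l l' : F}, (∀ v, act g v = l • v) → (∀ v, act g v = l' • v) → l = l' :=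
    fun h h' => smul_left_injective F (e_ne_zero Φ) ((h Φ.e).symm.trans (h' Φ.e))
  let χ : R →* (B →* F) :=
    { toFun := fun x =>
        { toFun := L x
          map_one' := huniq (hL x 1) fun v => by
            rw [show ((1 : B) : SU 3 F q) * x.1 * ((1 : B) : SU 3 F q)⁻¹ * x.1⁻¹ = 1 by simp, act_one,
              one_smul]
          map_mul' := fun b c => huniq (hL x (b * c)) fun v => by
            have hs : IsScalar (c.1 * x.1 * c.1⁻¹ * x.1⁻¹) := ⟨_, hL x c⟩
            rw [show ((b * c : B) : SU 3 F q) * x.1 * ((b * c : B) : SU 3 F q)⁻¹ * x.1⁻¹ =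
              b.1 * (c.1 * x.1 * c.1⁻¹ * x.1⁻¹) * x.1 * b.1⁻¹ * x.1⁻¹ by
                rw [Subgroup.coe_mul]; group, ← hs.comm b.1]
            rw [show c.1 * x.1 * c.1⁻¹ * x.1⁻¹ * b.1 * x.1 * b.1⁻¹ * x.1⁻¹ =
              c.1 * x.1 * c.1⁻¹ * x.1⁻¹ * (b.1 * x.1 * b.1⁻¹ * x.1⁻¹) by group, act_mul, hL x b, hL x c,
              smul_smul, mul_comm] }
      map_one' := MonoidHom.ext fun b => huniq (hL 1 b) fun v => by
        rw [show b.1 * ((1 : R) : SU 3 F q) * b.1⁻¹ * ((1 : R) : SU 3 F q)⁻¹ = 1 by simp, act_one]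
        simp
      map_mul' := fun x y => MonoidHom.ext fun b => huniq (hL (x * y) b) fun v => by
        have hs : IsScalar (b.1 * y.1 * b.1⁻¹ * y.1⁻¹) := ⟨_, hL y b⟩
        rw [show b.1 * ((x * y : R) : SU 3 F q) * b.1⁻¹ * ((x * y : R) : SU 3 F q)⁻¹ =
          b.1 * x.1 * b.1⁻¹ * (b.1 * y.1 * b.1⁻¹ * y.1⁻¹) * x.1⁻¹ by rw [Subgroup.coe_mul]; group,
          mul_assoc (b.1 * x.1 * b.1⁻¹), hs.comm, ← mul_assoc, act_mul, hL x b, hL y b, smul_smul]
        rfl }
  have hker : ∀ x ∈ χ.ker, IsScalar (x : R).1 := by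
    intro x hx
    refine hC _ x.2 fun b hb => ?_
    have h1 : b * x.1 * b⁻¹ * x.1⁻¹ = 1 := su_ext fun v => by
      rw [hL x ⟨b, hb⟩, act_one, show L x ⟨b, hb⟩ = 1 from DFunLike.congr_fun (MonoidHom.mem_ker.1 hx) _,
        one_smul]
    exact (mul_inv_eq_iff_eq_mul.1 (mul_inv_eq_one.1 h1)).symm
  have h3 : Nat.card χ.ker ≤ 3 := by
    rw [← Subgroup.card_map_of_injective (K := χ.ker) R.subtype_injective]
    refine card_le_three Φ ?_
    rintro _ ⟨x, hx, rfl⟩
    exact hker x hx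
  have h9 : Nat.card (Set.range χ) ≤ 9 := by
    haveI : Finite (Set.range χ) := Set.finite_range χ |>.to_subtype
    haveI := Fintype.ofFinite (Set.range χ)
    have hx : ∀ i : Set.range χ, ∃ x : R, χ x = i.1 := fun i => i.2
    choose x hx using hx
    let N : Set.range χ → Matrix (Fin 3) (Fin 3) F := fun i =>
      (((x i).1 : Matrix.SpecialLinearGroup (Fin 3) F) : Matrix (Fin 3) (Fin 3) F)
    have hli : LinearIndependent F N := by
      rw [Fintype.linearIndependent_iff]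
      intro c hc i₀
      obtain ⟨j, l, hjl⟩ : ∃ j l, N i₀ j l ≠ 0 := by
        by_contra hn
        push Not at hn
        refine act_ne_zero (x i₀).1 (e_ne_zero Φ) ?_
        show N i₀ *ᵥ Φ.e = 0
        rw [show N i₀ = 0 from Matrix.ext hn, Matrix.zero_mulVec]
      have hconj : ∀ (b : B) (i : Set.range χ) (v : Fin 3 → F),
          act b.1 (N i *ᵥ act b.1⁻¹ v) = i.1 b • (N i *ᵥ v) := by
        intro b i v
        rw [← hx i]
        show act b.1 (act (x i).1 (act b.1⁻¹ v)) = L (x i) b • act (x i).1 v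
        rw [← hL (x i) b (act (x i).1 v)]
        simp only [← act_mul]
        congr 1
        group
      have hsum : ∀ b : B, ∑ i, (c i * N i j l) * i.1 b = 0 := by
        intro b
        have e : ∑ i, c i • (i.1 b • (N i *ᵥ Pi.single l 1)) = 0 := by
          simp only [← hconj]
          simp only [← act_smul, ← Matrix.smul_mulVec]
          have hsumact : ∀ (w : Set.range χ → Fin 3 → F), ∑ i, act b.1 (w i) = act b.1 (∑ i, w i) :=
            fun w => (Matrix.mulVec_sum _ _ _).symm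
          rw [hsumact, ← Matrix.sum_mulVec, hc, Matrix.zero_mulVec]
          exact Matrix.mulVec_zero _
        have := congrFun e j
        simp only [Finset.sum_apply, Pi.smul_apply, smul_eq_mul, Matrix.mulVec_single_one,
          Matrix.col_apply, Pi.zero_apply] at this
        rw [← this]
        exact Finset.sum_congr rfl fun i _ => by ring
      have hind := Fintype.linearIndependent_iff.1
        ((linearIndependent_monoidHom B F).comp (fun i : Set.range χ => i.1) Subtype.val_injective)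
        (fun i => c i * N i j l) (funext fun b => by
          simp only [Finset.sum_apply, Pi.smul_apply, smul_eq_mul, Function.comp_apply, Pi.zero_apply]
          exact hsum b) i₀
      exact (mul_eq_zero.1 hind).resolve_right hjl
    have := hli.fintype_card_le_finrank
    rw [Nat.card_eq_fintype_card]
    refine this.trans ?_
    simp [Module.finrank_matrix]
  have hk : χ.toHomUnits.ker = χ.ker := by
    ext x
    rw [MonoidHom.mem_ker, MonoidHom.mem_ker, Units.ext_iff]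
    rfl
  have h9' : Nat.card χ.toHomUnits.range ≤ 9 := by
    refine le_trans ?_ h9
    haveI : Finite (Set.range χ) := Set.finite_range χ |>.to_subtype
    refine Nat.card_le_card_of_injective (fun u => ⟨(u.1 : B →* F), ?_⟩) fun u v h =>
      Subtype.ext (Units.ext (congrArg Subtype.val h))
    obtain ⟨x, hx⟩ := u.2
    exact ⟨x, by rw [← hx]; rfl⟩
  rw [← χ.toHomUnits.ker.index_mul_card, Subgroup.index_ker, hk]
  calc Nat.card χ.toHomUnits.range * Nat.card χ.ker ≤ 9 * 3 := Nat.mul_le_mul h9' h3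
    _ = 27 := rfl

set_option maxHeartbeats 800000 in
/-- A `3`-group normalised by `f` has order at most `27`. -/
theorem FourElt.card_le (hF : Fintype.card F = q ^ 2) (h2 : (2 : F) = 0) (hf : FourElt Φ f)
    {R : Subgroup (SU 3 F q)} (hR : IsPGroup 3 R) (hinv : ∀ a ∈ R, f * a * f⁻¹ ∈ R) :
    Nat.card R ≤ 27 := by
  classical
  haveI : Fact (Nat.Prime 3) := ⟨Nat.prime_three⟩
  have hoddR : ∀ A : Subgroup (SU 3 F q), A ≤ R → Odd (Nat.card A) := fun A hA => by
    obtain ⟨n, hn⟩ := IsPGroup.iff_card.1 (hR.to_le hA)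
    rw [hn]; exact Odd.pow (by decide)
  have hfi : ∀ a ∈ R, f⁻¹ * a * f ∈ R := by
    intro a ha
    have hb : Function.Bijective (fun x : R => (⟨f * x.1 * f⁻¹, hinv _ x.2⟩ : R)) :=
      Finite.injective_iff_bijective.1 fun x y h => Subtype.ext (by
        have h1 : f * x.1 * f⁻¹ = f * y.1 * f⁻¹ := congrArg Subtype.val h
        simpa using h1)
    obtain ⟨x, hx⟩ := hb.2 ⟨a, ha⟩
    have h1 : f * x.1 * f⁻¹ = a := congrArg Subtype.val hx
    rw [← h1, show f⁻¹ * (f * x.1 * f⁻¹) * f = x.1 by group]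
    exact x.2
  let B : Subgroup (SU 3 F q) :=
    { carrier := {b | b ∈ R ∧ ∀ x ∈ R, IsScalar (b * x * b⁻¹ * x⁻¹)}
      one_mem' := ⟨one_mem _, fun x _ => by
        rw [show (1 : SU 3 F q) * x * 1⁻¹ * x⁻¹ = 1 by group]; exact scalarSub.one_mem⟩
      mul_mem' := by
        rintro b c ⟨hb, hb'⟩ ⟨hc, hc'⟩
        refine ⟨mul_mem hb hc, fun x hx => ?_⟩
        have e : b * c * x * (b * c)⁻¹ * x⁻¹ = (c * x * c⁻¹ * x⁻¹) * (b * x * b⁻¹ * x⁻¹) := by
          rw [show b * c * x * (b * c)⁻¹ * x⁻¹ = b * (c * x * c⁻¹ * x⁻¹) * x * b⁻¹ * x⁻¹ by group,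
            ← (hc' x hx).comm b]
          group
        rw [e]; exact scalarSub.mul_mem (hc' x hx) (hb' x hx)
      inv_mem' := by
        rintro b ⟨hb, hb'⟩
        refine ⟨inv_mem hb, fun x hx => ?_⟩
        have e : b⁻¹ * x * b⁻¹⁻¹ * x⁻¹ = (b * x * b⁻¹ * x⁻¹)⁻¹ := by
          rw [show b⁻¹ * x * b⁻¹⁻¹ * x⁻¹ = b⁻¹ * (b * x * b⁻¹ * x⁻¹)⁻¹ * b by group,
            mul_assoc, (scalarSub.inv_mem (hb' x hx) : IsScalar _).comm b, inv_mul_cancel_left]
        rw [e]; exact scalarSub.inv_mem (hb' x hx) }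
  have hBR : B ≤ R := fun b hb => hb.1
  have hBinv : ∀ b ∈ B, f * b * f⁻¹ ∈ B := fun b hb => by
    refine ⟨hinv b hb.1, fun x hx => ?_⟩
    have h1 := hb.2 _ (hfi x hx)
    have e : f * b * f⁻¹ * x * (f * b * f⁻¹)⁻¹ * x⁻¹ =
        b * (f⁻¹ * x * f) * b⁻¹ * (f⁻¹ * x * f)⁻¹ := by
      rw [show f * b * f⁻¹ * x * (f * b * f⁻¹)⁻¹ * x⁻¹ =
        f * (b * (f⁻¹ * x * f) * b⁻¹ * (f⁻¹ * x * f)⁻¹) * f⁻¹ by group, ← h1.comm f,
        mul_inv_cancel_right]
    rw [e]; exact h1
  let C : Subgroup (SU 3 F q) :=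
    { carrier := {c | c ∈ R ∧ ∀ b ∈ B, c * b = b * c}
      one_mem' := ⟨one_mem _, fun b _ => by rw [one_mul, mul_one]⟩
      mul_mem' := by
        rintro c d ⟨hc, hc'⟩ ⟨hd, hd'⟩
        exact ⟨mul_mem hc hd, fun b hb => by rw [mul_assoc, hd' b hb, ← mul_assoc, hc' b hb, mul_assoc]⟩
      inv_mem' := by
        rintro c ⟨hc, hc'⟩
        refine ⟨inv_mem hc, fun b hb => ?_⟩
        rw [inv_mul_eq_iff_eq_mul, ← mul_assoc, hc' b hb, mul_inv_cancel_right] }
  have hBn : ∀ x ∈ R, ∀ b ∈ B, x * b * x⁻¹ ∈ B := fun x hx b hb => by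
    have h1 := hb.2 x hx
    have e : x * b * x⁻¹ = (b * x * b⁻¹ * x⁻¹)⁻¹ * b := by group
    refine ⟨mul_mem (mul_mem hx hb.1) (inv_mem hx), fun y hy => ?_⟩
    rw [e]
    have hs : IsScalar (b * x * b⁻¹ * x⁻¹)⁻¹ := scalarSub.inv_mem h1
    rw [show (b * x * b⁻¹ * x⁻¹)⁻¹ * b * y * ((b * x * b⁻¹ * x⁻¹)⁻¹ * b)⁻¹ * y⁻¹ =
      (b * x * b⁻¹ * x⁻¹)⁻¹ * (b * y * b⁻¹) * (b * x * b⁻¹ * x⁻¹) * y⁻¹ by group, hs.comm,
      inv_mul_cancel_right]
    exact hb.2 y hy
  have hCB : ∀ c, c ∈ C → c ∈ B → IsScalar c := by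
    intro c hcC hcB
    have hCBinv : ∀ a ∈ C ⊓ B, f * a * f⁻¹ ∈ C ⊓ B := fun a ha => by
      refine ⟨⟨hinv a ha.2.1, fun b hb => ?_⟩, hBinv a ha.2⟩
      have hb' : f⁻¹ * b * f ∈ B := by
        have hbij : Function.Bijective (fun x : B => (⟨f * x.1 * f⁻¹, hBinv _ x.2⟩ : B)) :=
          Finite.injective_iff_bijective.1 fun x y h => Subtype.ext (by
            have h1 : f * x.1 * f⁻¹ = f * y.1 * f⁻¹ := congrArg Subtype.val h
            simpa using h1)
        obtain ⟨x, hx⟩ := hbij.2 ⟨b, hb⟩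
        have h1 : f * x.1 * f⁻¹ = b := congrArg Subtype.val hx
        rw [← h1, show f⁻¹ * (f * x.1 * f⁻¹) * f = x.1 by group]
        exact x.2
      have h1 := ha.1.2 _ hb'
      calc f * a * f⁻¹ * b = f * (a * (f⁻¹ * b * f)) * f⁻¹ := by group
        _ = b * (f * a * f⁻¹) := by rw [h1]; group
    exact hf.scalar_of_abelian hF h2 (A := C ⊓ B) (hoddR _ (inf_le_right.trans hBR))
      (fun a ha b hb => ha.1.2 b hb.2) hCBinv ⟨hcC, hcB⟩
  -- the centraliser of `B` is scalar
  have hC : ∀ c ∈ C, IsScalar c := by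
    obtain ⟨n, hn⟩ := Subgroup.nilpotent_iff_lowerCentralSeries.1 hR.isNilpotent
    suffices h : ∀ i j, i + j = n → ∀ c : R, c ∈ (⊤ : Subgroup R).lowerCentralSeries j → c.1 ∈ C → IsScalar c.1 from
      fun c hc => h n 0 (add_zero n) ⟨c, hc.1⟩ (by rw [Subgroup.lowerCentralSeries_zero]; exact Subgroup.mem_top _) hc
    intro i
    induction i with
    | zero =>
      intro j hj c hc _
      rw [show j = n by omega, hn, Subgroup.mem_bot] at hc
      rw [hc]; exact scalarSub.one_mem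
    | succ i ih =>
      intro j hj c hc hcC
      refine hCB _ hcC ⟨c.2, fun x hx => ?_⟩
      obtain ⟨y, hy⟩ : ∃ y : R, y = c * ⟨x, hx⟩ * c⁻¹ * (⟨x, hx⟩)⁻¹ := ⟨_, rfl⟩
      have hy1 : (y : SU 3 F q) = c.1 * x * c.1⁻¹ * x⁻¹ := by
        rw [hy, Subgroup.coe_mul, Subgroup.coe_mul, Subgroup.coe_mul, Subgroup.coe_inv, Subgroup.coe_inv]
      rw [← hy1]
      refine ih (j + 1) (by omega) y ?_ ?_
      · rw [hy, Subgroup.lowerCentralSeries_succ]
        have hcom := Subgroup.commutator_mem_commutator hc (Subgroup.mem_top (⟨x, hx⟩ : R))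
        rw [commutatorElement_def] at hcom
        exact hcom
      · rw [hy1]
        rw [show c.1 * x * c.1⁻¹ * x⁻¹ = c.1 * (x * c.1⁻¹ * x⁻¹) by group]
        refine mul_mem hcC ⟨mul_mem (mul_mem hx (inv_mem c.2)) (inv_mem hx), fun b hb => ?_⟩
        have hb' : x⁻¹ * b * x ∈ B := by simpa using hBn x⁻¹ (inv_mem hx) b hb
        have h1 := (inv_mem hcC : c.1⁻¹ ∈ C).2 _ hb'
        calc x * c.1⁻¹ * x⁻¹ * b = x * (c.1⁻¹ * (x⁻¹ * b * x)) * x⁻¹ := by group
          _ = b * (x * c.1⁻¹ * x⁻¹) := by rw [h1]; group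
  exact card_le_of_chars Φ (B := B) (fun b hb => hb.2) fun x hx hxB => hC x ⟨hx, hxB⟩

end Cfsg.Agent.SUThree49
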