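import Mathlib
import Cfsg.Prelude.Def_KGroupFacts
import Cfsg.Agent.Lib.SchurMultiplierCover

/-!
Covering groups correspond to complements of the multiplier in the relation module.
-/

set_option autoImplicit false

namespace Cfsg.Agent.SchurMultiplierComplement

open Cfsg
open scoped commutatorElement

universe u v

variable {G : Type u} [Group G]

local notation "EE" => SchurMultiplierCover.E G
local notation "pp" => SchurMultiplierCover.proj G
local notation "MM" => SchurMultiplierCover.mult G
local notation "deg" => SchurMultiplierCover.degHom G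

/-- A complement of the multiplier in the relation module. -/
structure IsCompl (L : Subgroup (SchurMultiplierCover.E G)) : Prop where
  le : L ≤ (SchurMultiplierCover.proj G).ker
  inf : L ⊓ SchurMultiplierCover.mult G = ⊥
  sup : L ⊔ SchurMultiplierCover.mult G = (SchurMultiplierCover.proj G).ker

theorem IsCompl.normal {L : Subgroup EE} (hL : IsCompl L) : L.Normal :=
  ⟨fun l hl g => by
    rw [Subgroup.mem_center_iff.1 (SchurMultiplierCover.proj_ker_le_center G (hL.le hl)) g,
      mul_inv_cancel_right]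
    exact hl⟩

theorem IsCompl.decomp {L : Subgroup EE} (hL : IsCompl L) {e : EE} (he : e ∈ (pp).ker) :
    ∃ l ∈ L, ∃ m ∈ MM, l * m = e := by
  haveI := hL.normal
  rw [← hL.sup] at he
  exact Subgroup.mem_sup_of_normal_left.1 he

/-- `degHom` is injective on a complement. -/
theorem IsCompl.deg_injective {L : Subgroup EE} (hL : IsCompl L) {a b : EE} (ha : a ∈ L)
    (hb : b ∈ L) (h : deg a = deg b) : a = b := by
  have hm : a * b⁻¹ ∈ L ⊓ MM := by
    refine ⟨L.mul_mem ha (L.inv_mem hb), hL.le (L.mul_mem ha (L.inv_mem hb)), ?_⟩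
    rw [← SchurMultiplierCover.degHom_ker]
    show deg _ = 1
    rw [map_mul, map_inv, h, mul_inv_cancel]
  rw [hL.inf, Subgroup.mem_bot, mul_inv_eq_one] at hm
  exact hm

/-- The image of a complement under `degHom` is the whole image of the relation module. -/
theorem IsCompl.exists_deg_eq {L : Subgroup EE} (hL : IsCompl L) {e : EE}
    (he : Abelianization.of (pp e) = 1) : ∃ l ∈ L, deg l = deg e := by
  have hc : pp e ∈ (commutator EE).map (pp) := by
    rw [commutator_def, Subgroup.map_commutator, Subgroup.map_top_of_surjective _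
      (SchurMultiplierCover.proj_surjective G), ← commutator_def, ← Abelianization.ker_of]
    exact he
  obtain ⟨c, hc, hce⟩ := hc
  have hk : e * c⁻¹ ∈ (pp).ker := by
    rw [MonoidHom.mem_ker, map_mul, map_inv, hce, mul_inv_cancel]
  obtain ⟨l, hl, m, hm, hlm⟩ := hL.decomp hk
  refine ⟨l, hl, ?_⟩
  have h1 : deg c = 1 := by
    rw [← SchurMultiplierCover.degHom_ker] at hc; exact hc
  have h2 : deg m = 1 := by
    have := SchurMultiplierCover.mult_le_commutator G hm
    rw [← SchurMultiplierCover.degHom_ker] at this; exact this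
  have := congrArg (deg) hlm
  rw [map_mul, map_mul, map_inv, h1, h2, inv_one, mul_one, mul_one] at this
  exact this

/-- A covering group gives a complement. -/
theorem isCompl_ker [Finite G] {Γ : Type v} [Group Γ] {σ : Γ →* G} (hσ : IsStemExtension σ)
    (hk : Nonempty (σ.ker ≃* MM)) (Φ : EE →* Γ) (hΦ : σ.comp Φ = pp) : IsCompl Φ.ker := by
  obtain ⟨-, hker⟩ := SchurMultiplierCover.lift_stem hσ Φ hΦ
  have hle : Φ.ker ≤ (pp).ker := fun e he => by
    rw [MonoidHom.mem_ker, ← hΦ, MonoidHom.comp_apply, MonoidHom.mem_ker.1 he, map_one]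
  let θ : MM →* σ.ker :=
    (Φ.comp (MM).subtype).codRestrict σ.ker fun m => hker ▸ Subgroup.mem_map_of_mem Φ m.2
  have hθs : Function.Surjective θ := fun k => by
    obtain ⟨m, hm, he⟩ : (k : Γ) ∈ (MM).map Φ := hker.symm ▸ k.2
    exact ⟨⟨m, hm⟩, Subtype.ext he⟩
  obtain ⟨e⟩ := hk
  have hθ : Function.Bijective θ := hθs.bijective_of_nat_card_le (Nat.card_congr e.toEquiv).ge
  refine ⟨hle, eq_bot_iff.2 ?_, le_antisymm (sup_le hle (SchurMultiplierCover.mult_le_ker G)) ?_⟩
  · rintro m ⟨h1, h2⟩
    have := hθ.1 (a₁ := ⟨m, h2⟩) (a₂ := 1) (Subtype.ext (by show Φ m = Φ 1; rw [map_one]; exact h1))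
    exact congrArg Subtype.val this
  · intro a ha
    obtain ⟨m, hm, he⟩ : Φ a ∈ (MM).map Φ := by
      rw [hker, MonoidHom.mem_ker, ← MonoidHom.comp_apply, hΦ]; exact ha
    have : a = a * m⁻¹ * m := by group
    rw [this]
    exact Subgroup.mul_mem_sup (by rw [MonoidHom.mem_ker, map_mul, map_inv, he, mul_inv_cancel]) hm

/-- A complement gives a covering group, as the quotient. -/
theorem cover_of_compl [Finite G] (L : Subgroup (SchurMultiplierCover.E G)) [L.Normal]
    (hL : IsCompl L) :
    Finite (SchurMultiplierCover.E G ⧸ L) ∧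
      IsStemExtension (QuotientGroup.lift L (SchurMultiplierCover.proj G) hL.le) ∧
      Nonempty ((QuotientGroup.lift L (SchurMultiplierCover.proj G) hL.le).ker ≃*
        SchurMultiplierCover.mult G) := by
  set σ := QuotientGroup.lift L (SchurMultiplierCover.proj G) hL.le with hσdef
  have hσk : ∀ x ∈ σ.ker, ∃ m ∈ MM, QuotientGroup.mk' L m = x := by
    intro x hx
    obtain ⟨e, rfl⟩ := QuotientGroup.mk'_surjective L x
    obtain ⟨l, hl, m, hm, rfl⟩ := hL.decomp (show e ∈ (pp).ker from hx)
    refine ⟨m, hm, ?_⟩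
    rw [map_mul, QuotientGroup.mk'_apply (N := L) (x := l), (QuotientGroup.eq_one_iff l).2 hl,
      one_mul]
  let θ : MM →* σ.ker :=
    ((QuotientGroup.mk' L).comp (MM).subtype).codRestrict σ.ker fun m =>
      SchurMultiplierCover.mult_le_ker G m.2
  have hθ : Function.Bijective θ := by
    refine ⟨(injective_iff_map_eq_one θ).2 fun m hm => ?_, fun x => ?_⟩
    · have h1 : (m : EE) ∈ L := (QuotientGroup.eq_one_iff _).1 (congrArg Subtype.val hm)
      have h2 : (m : EE) ∈ L ⊓ MM := ⟨h1, m.2⟩
      rw [hL.inf] at h2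
      exact Subtype.ext h2
    · obtain ⟨m, hm, he⟩ := hσk x.1 x.2
      exact ⟨⟨m, hm⟩, Subtype.ext he⟩
  haveI : Finite σ.ker := Finite.of_surjective θ hθ.2
  haveI : Finite ((EE ⧸ L) ⧸ σ.ker) := Finite.of_injective _ (QuotientGroup.kerLift_injective σ)
  refine ⟨Finite.of_subgroup_quotient σ.ker, ⟨?_, ?_, ?_⟩, ⟨(MulEquiv.ofBijective θ hθ).symm⟩⟩
  · intro g
    exact ⟨QuotientGroup.mk (SchurMultiplierCover.gen G g), SchurMultiplierCover.proj_gen G g⟩
  · intro x hx
    obtain ⟨m, hm, rfl⟩ := hσk x hx
    rw [Subgroup.mem_center_iff]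
    intro y
    obtain ⟨e, rfl⟩ := QuotientGroup.mk'_surjective L y
    rw [← map_mul, ← map_mul,
      Subgroup.mem_center_iff.1 (SchurMultiplierCover.mult_le_center G hm) e]
  · intro x hx
    obtain ⟨m, hm, rfl⟩ := hσk x hx
    have hle : (commutator EE).map (QuotientGroup.mk' L) ≤ commutator (EE ⧸ L) := by
      rw [commutator_def, commutator_def, Subgroup.map_commutator]
      exact Subgroup.commutator_mono le_top le_top
    exact hle (Subgroup.mem_map_of_mem _ (SchurMultiplierCover.mult_le_commutator G hm))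

end Cfsg.Agent.SchurMultiplierComplement
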