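import Mathlib
import Cfsg.Prelude.Def_KGroupFacts
import Cfsg.Agent.Lib.SchurMultiplierCover
import Cfsg.Agent.Lib.SchurMultiplierExt

/-!
The Schur multiplier of a direct product: `M(Q₁ × Q₂) = M(Q₁) × M(Q₂) × (Q₁ᵃᵇ ⊗ Q₂ᵃᵇ)`.
-/

set_option autoImplicit false

namespace Cfsg.Agent.SchurMultiplierProduct

open Cfsg
open scoped commutatorElement TensorProduct

universe u v w x

/-- The tensor product of the abelianisations, multiplicatively. -/
abbrev AbTensor (Q₁ : Type u) (Q₂ : Type v) [Group Q₁] [Group Q₂] :=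
  Multiplicative (Additive (Abelianization Q₁) ⊗[ℤ] Additive (Abelianization Q₂))

variable {Q₁ : Type u} {Q₂ : Type v} [Group Q₁] [Group Q₂]

/-- Simple tensors of classes of elements. -/
def tens (a : Abelianization Q₁) (b : Abelianization Q₂) : AbTensor Q₁ Q₂ :=
  Multiplicative.ofAdd (Additive.ofMul a ⊗ₜ[ℤ] Additive.ofMul b)

theorem tens_mul_left (a a' : Abelianization Q₁) (b : Abelianization Q₂) :
    tens (a * a') b = tens a b * tens a' b := by
  rw [tens, ofMul_mul, TensorProduct.add_tmul, ofAdd_add]; rfl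

theorem tens_mul_right (a : Abelianization Q₁) (b b' : Abelianization Q₂) :
    tens a (b * b') = tens a b * tens a b' := by
  rw [tens, ofMul_mul, TensorProduct.tmul_add, ofAdd_add]; rfl

theorem tens_one_left (b : Abelianization Q₂) : tens (1 : Abelianization Q₁) b = 1 := by
  rw [tens, ofMul_one, TensorProduct.zero_tmul, ofAdd_zero]

theorem tens_one_right (a : Abelianization Q₁) : tens a (1 : Abelianization Q₂) = 1 := by
  rw [tens, ofMul_one, TensorProduct.tmul_zero, ofAdd_zero]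

theorem tens_induction (P : AbTensor Q₁ Q₂ → Prop) (h1 : P 1) (ht : ∀ a b, P (tens a b))
    (hm : ∀ s t, P s → P t → P (s * t)) (t : AbTensor Q₁ Q₂) : P t := by
  have key : ∀ u : Additive (Abelianization Q₁) ⊗[ℤ] Additive (Abelianization Q₂),
      P (Multiplicative.ofAdd u) := by
    intro u
    induction u with
    | zero => exact h1
    | tmul a b => exact ht (Additive.toMul a) (Additive.toMul b)
    | add a b ha hb => exact hm _ _ ha hb
  exact key (Multiplicative.toAdd t)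

instance finite_abTensor [Finite Q₁] [Finite Q₂] : Finite (AbTensor Q₁ Q₂) := by
  haveI : Module.Finite ℤ (Additive (Abelianization Q₁)) := Module.Finite.of_finite
  haveI : Module.Finite ℤ (Additive (Abelianization Q₂)) := Module.Finite.of_finite
  haveI : AddGroup.FG (Additive (Abelianization Q₁) ⊗[ℤ] Additive (Abelianization Q₂)) :=
    Module.Finite.iff_addGroup_fg.1 (Module.Finite.tensorProduct ℤ _ _)
  haveI : Finite (Additive (Abelianization Q₁) ⊗[ℤ] Additive (Abelianization Q₂)) := by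
    refine AddCommGroup.finite_of_fg_torsion _ fun t => ?_
    refine isOfFinAddOrder_iff_nsmul_eq_zero.2
      ⟨Nat.card (Additive (Abelianization Q₁)), Nat.card_pos, ?_⟩
    induction t with
    | zero => exact nsmul_zero _
    | tmul a b => rw [TensorProduct.smul_tmul', card_nsmul_eq_zero', TensorProduct.zero_tmul]
    | add a b ha hb => rw [nsmul_add, ha, hb, add_zero]
  exact inferInstanceAs (Finite (Additive (Abelianization Q₁) ⊗[ℤ] Additive (Abelianization Q₂)))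

theorem map_mem_commutator {C : Type w} {D : Type x} [Group C] [Group D] (i : C →* D) {c : C}
    (hc : c ∈ commutator C) : i c ∈ commutator D := by
  have hle : (commutator C).map i ≤ commutator D := by
    rw [commutator_def, commutator_def, Subgroup.map_commutator]
    exact Subgroup.commutator_mono le_top le_top
  exact hle (Subgroup.mem_map_of_mem i hc)

/-- Upper bound: the kernel of a stem extension of a product is an image of
`M(Q₁) × M(Q₂) × (Q₁ᵃᵇ ⊗ Q₂ᵃᵇ)`. -/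
theorem exists_surjective_product {Γ : Type x} [Group Γ] {σ : Γ →* Q₁ × Q₂}
    (hσ : IsStemExtension σ) :
    ∃ π : SchurMultiplierCover.mult Q₁ × SchurMultiplierCover.mult Q₂ × AbTensor Q₁ Q₂ →* σ.ker,
      Function.Surjective π := by
  letI : CommGroup σ.ker :=
    { (inferInstance : Group σ.ker) with
      mul_comm := fun a b => Subtype.ext (Subgroup.mem_center_iff.1 (hσ.2.1 b.2) a) }
  obtain ⟨Φ₁, hΦ₁⟩ := SchurMultiplierCover.exists_lift σ hσ.1 hσ.2.1 (MonoidHom.inl Q₁ Q₂)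
  obtain ⟨Φ₂, hΦ₂⟩ := SchurMultiplierCover.exists_lift σ hσ.1 hσ.2.1 (MonoidHom.inr Q₁ Q₂)
  have hp₁ : ∀ e, σ (Φ₁ e) = (SchurMultiplierCover.proj Q₁ e, 1) := fun e => DFunLike.congr_fun hΦ₁ e
  have hp₂ : ∀ e, σ (Φ₂ e) = (1, SchurMultiplierCover.proj Q₂ e) := fun e => DFunLike.congr_fun hΦ₂ e
  let s₁ : Q₁ → Γ := fun q => Φ₁ (SchurMultiplierCover.gen Q₁ q)
  let s₂ : Q₂ → Γ := fun q => Φ₂ (SchurMultiplierCover.gen Q₂ q)
  have hs₁ : ∀ q, σ (s₁ q) = (q, 1) := fun q => by simp [s₁, hp₁, SchurMultiplierCover.proj_gen]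
  have hs₂ : ∀ q, σ (s₂ q) = (1, q) := fun q => by simp [s₂, hp₂, SchurMultiplierCover.proj_gen]
  have hcm : ∀ a b, ⁅s₁ a, s₂ b⁆ ∈ σ.ker := fun a b => by
    rw [MonoidHom.mem_ker, map_commutatorElement, hs₁, hs₂, commutatorElement_eq_one_iff_mul_comm]
    simp
  have hcong : ∀ (g h : Γ), σ g = σ h → ∃ k ∈ Subgroup.center Γ, g = h * k := fun g h e =>
    ⟨h⁻¹ * g, hσ.2.1 (by rw [MonoidHom.mem_ker, map_mul, map_inv, e, inv_mul_cancel]), by group⟩
  have hadd₁ : ∀ a a' b, ⁅s₁ (a * a'), s₂ b⁆ = ⁅s₁ a, s₂ b⁆ * ⁅s₁ a', s₂ b⁆ := by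
    intro a a' b
    obtain ⟨k, hk, e⟩ := hcong (s₁ (a * a')) (s₁ a * s₁ a') (by simp [hs₁, map_mul])
    rw [e, show s₂ b = s₂ b * 1 from (mul_one _).symm,
      SchurMultiplierCover.commutatorElement_mul_center hk (Subgroup.one_mem _), mul_one]
    have hc := Subgroup.mem_center_iff.1 (hσ.2.1 (hcm a' b))
    calc ⁅s₁ a * s₁ a', s₂ b⁆ = (s₁ a * ⁅s₁ a', s₂ b⁆) * (s₁ a)⁻¹ * ⁅s₁ a, s₂ b⁆ := by
          simp only [commutatorElement_def]; group
      _ = ⁅s₁ a', s₂ b⁆ * ⁅s₁ a, s₂ b⁆ := by rw [hc (s₁ a), mul_inv_cancel_right]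
      _ = _ := (hc _).symm
  have hadd₂ : ∀ a b b', ⁅s₁ a, s₂ (b * b')⁆ = ⁅s₁ a, s₂ b⁆ * ⁅s₁ a, s₂ b'⁆ := by
    intro a b b'
    obtain ⟨k, hk, e⟩ := hcong (s₂ (b * b')) (s₂ b * s₂ b') (by simp [hs₂, map_mul])
    rw [e, show s₁ a = s₁ a * 1 from (mul_one _).symm,
      SchurMultiplierCover.commutatorElement_mul_center (Subgroup.one_mem _) hk, mul_one]
    have hc := Subgroup.mem_center_iff.1 (hσ.2.1 (hcm a b'))
    calc ⁅s₁ a, s₂ b * s₂ b'⁆ = ⁅s₁ a, s₂ b⁆ * ((s₂ b * ⁅s₁ a, s₂ b'⁆) * (s₂ b)⁻¹) := by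
          simp only [commutatorElement_def]; group
      _ = ⁅s₁ a, s₂ b⁆ * ⁅s₁ a, s₂ b'⁆ := by rw [hc (s₂ b), mul_inv_cancel_right]
  let inner : Q₁ → (Abelianization Q₂ →* σ.ker) := fun a =>
    Abelianization.lift (MonoidHom.mk' (fun b => ⟨_, hcm a b⟩) fun b b' => Subtype.ext (hadd₂ a b b'))
  let outer : Abelianization Q₁ →* (Abelianization Q₂ →* σ.ker) :=
    Abelianization.lift (MonoidHom.mk' inner fun a a' => by
      refine Abelianization.hom_ext _ _ (MonoidHom.ext fun b => ?_)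
      exact Subtype.ext (hadd₁ a a' b))
  let pair : Additive (Abelianization Q₁) →+
      (Additive (Abelianization Q₂) →+ Additive σ.ker) :=
    AddMonoidHom.mk' (fun a => MonoidHom.toAdditive (outer (Additive.toMul a))) fun a a' => by
      refine AddMonoidHom.ext fun b => ?_
      show Additive.ofMul (outer (Additive.toMul a * Additive.toMul a') (Additive.toMul b)) = _
      rw [map_mul]
      rfl
  let B : AbTensor Q₁ Q₂ →* σ.ker :=
    AddMonoidHom.toMultiplicativeLeft (TensorProduct.liftAddHom pair fun r a b => by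
      rw [map_zsmul, map_zsmul, AddMonoidHom.smul_apply])
  have hB : ∀ a b, (B (tens (Abelianization.of a) (Abelianization.of b)) : Γ) = ⁅s₁ a, s₂ b⁆ := by
    intro a b
    simp [B, tens, pair, outer, inner]
  have hclass₁ : ∀ e, ∃ k ∈ Subgroup.center Γ, Φ₁ e = s₁ (SchurMultiplierCover.proj Q₁ e) * k :=
    fun e => hcong _ _ (by rw [hp₁, hs₁])
  have hclass₂ : ∀ e, ∃ k ∈ Subgroup.center Γ, Φ₂ e = s₂ (SchurMultiplierCover.proj Q₂ e) * k :=
    fun e => hcong _ _ (by rw [hp₂, hs₂])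
  have hpairing : ∀ e f, ⁅Φ₁ e, Φ₂ f⁆ = (B (tens (Abelianization.of (SchurMultiplierCover.proj Q₁ e))
      (Abelianization.of (SchurMultiplierCover.proj Q₂ f))) : Γ) := by
    intro e f
    obtain ⟨k, hk, h1⟩ := hclass₁ e
    obtain ⟨l, hl, h2⟩ := hclass₂ f
    rw [h1, h2, SchurMultiplierCover.commutatorElement_mul_center hk hl, hB]
  have hab₁ : ∀ e ∈ commutator (SchurMultiplierCover.E Q₁),
      Abelianization.of (SchurMultiplierCover.proj Q₁ e) = 1 := fun e he =>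
    (Abelianization.commutator_subset_ker
      ((Abelianization.of).comp (SchurMultiplierCover.proj Q₁))) he
  have hab₂ : ∀ e ∈ commutator (SchurMultiplierCover.E Q₂),
      Abelianization.of (SchurMultiplierCover.proj Q₂ e) = 1 := fun e he =>
    (Abelianization.commutator_subset_ker
      ((Abelianization.of).comp (SchurMultiplierCover.proj Q₂))) he
  have hcomm₁ : ∀ (e : commutator (SchurMultiplierCover.E Q₁)) f, Commute (Φ₁ e) (Φ₂ f) := by
    intro e f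
    apply commutatorElement_eq_one_iff_mul_comm.1
    rw [hpairing, hab₁ _ e.2, tens_one_left, map_one]; rfl
  have hcomm₂ : ∀ e (f : commutator (SchurMultiplierCover.E Q₂)), Commute (Φ₁ e) (Φ₂ f) := by
    intro e f
    apply commutatorElement_eq_one_iff_mul_comm.1
    rw [hpairing, hab₂ _ f.2, tens_one_right, map_one]; rfl
  have hBc : ∀ (g : Γ) t, Commute g (B t : Γ) := fun g t =>
    Subgroup.mem_center_iff.1 (hσ.2.1 (B t).2) g
  let F₂ : commutator (SchurMultiplierCover.E Q₂) × AbTensor Q₁ Q₂ →* Γ :=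
    MonoidHom.noncommCoprod (Φ₂.comp (Subgroup.subtype _)) (σ.ker.subtype.comp B)
      fun f t => hBc _ t
  let F : commutator (SchurMultiplierCover.E Q₁) ×
      (commutator (SchurMultiplierCover.E Q₂) × AbTensor Q₁ Q₂) →* Γ :=
    MonoidHom.noncommCoprod (Φ₁.comp (Subgroup.subtype _)) F₂
      fun e p => (hcomm₁ e _).mul_right (hBc _ p.2)
  have hF : commutator Γ ≤ F.range := by
    rw [commutator_def, Subgroup.commutator_le]
    intro g _ h _
    obtain ⟨k, hk, hgk⟩ := hcong g (Φ₁ (SchurMultiplierCover.gen Q₁ (σ g).1) *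
      Φ₂ (SchurMultiplierCover.gen Q₂ (σ g).2))
      (by simp [hp₁, hp₂, SchurMultiplierCover.proj_gen])
    obtain ⟨l, hl, hhl⟩ := hcong h (Φ₁ (SchurMultiplierCover.gen Q₁ (σ h).1) *
      Φ₂ (SchurMultiplierCover.gen Q₂ (σ h).2))
      (by simp [hp₁, hp₂, SchurMultiplierCover.proj_gen])
    rw [hgk, hhl, SchurMultiplierCover.commutatorElement_mul_center hk hl]
    generalize SchurMultiplierCover.gen Q₁ _ = x
    generalize SchurMultiplierCover.gen Q₂ _ = y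
    generalize SchurMultiplierCover.gen Q₁ _ = x'
    generalize SchurMultiplierCover.gen Q₂ _ = y'
    have mem₁ : ⁅Φ₁ x, Φ₁ x'⁆ ∈ F.range := by
      have hm : ⁅x, x'⁆ ∈ commutator (SchurMultiplierCover.E Q₁) := by
        rw [commutator_def]
        exact Subgroup.commutator_mem_commutator (Subgroup.mem_top _) (Subgroup.mem_top _)
      exact ⟨(⟨_, hm⟩, 1), by
        show Φ₁ ⁅x, x'⁆ * F₂ 1 = _
        rw [map_one, mul_one, map_commutatorElement]⟩
    have mem₂ : ⁅Φ₂ y, Φ₂ y'⁆ ∈ F.range := by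
      have hm : ⁅y, y'⁆ ∈ commutator (SchurMultiplierCover.E Q₂) := by
        rw [commutator_def]
        exact Subgroup.commutator_mem_commutator (Subgroup.mem_top _) (Subgroup.mem_top _)
      exact ⟨(1, (⟨_, hm⟩, 1)), by
        show Φ₁ 1 * (Φ₂ ⁅y, y'⁆ * (B 1 : Γ)) = _
        rw [map_one, map_one, one_mul, OneMemClass.coe_one, mul_one, map_commutatorElement]⟩
    have mem₃ : ∀ e f, ⁅Φ₁ e, Φ₂ f⁆ ∈ F.range := fun e f => by
      rw [hpairing]
      refine ⟨(1, (1, tens (Abelianization.of (SchurMultiplierCover.proj Q₁ e))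
        (Abelianization.of (SchurMultiplierCover.proj Q₂ f)))), ?_⟩
      show Φ₁ 1 * (Φ₂ 1 * _) = _
      rw [map_one, map_one, one_mul, one_mul]
      rfl
    have hc1 : ⁅Φ₁ x, Φ₂ y'⁆ ∈ Subgroup.center Γ := hpairing x y' ▸ hσ.2.1 (B _).2
    have hc2 : ⁅Φ₁ x', Φ₂ y⁆ ∈ Subgroup.center Γ := hpairing x' y ▸ hσ.2.1 (B _).2
    have hyy : ⁅y, y'⁆ ∈ commutator (SchurMultiplierCover.E Q₂) := by
      rw [commutator_def]
      exact Subgroup.commutator_mem_commutator (Subgroup.mem_top _) (Subgroup.mem_top _)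
    have hd : ∀ e, Φ₁ e * ⁅Φ₂ y, Φ₂ y'⁆ = ⁅Φ₂ y, Φ₂ y'⁆ * Φ₁ e := fun e => by
      rw [← map_commutatorElement]; exact (hcomm₂ e ⟨_, hyy⟩).eq
    have hi : ⁅Φ₂ y, Φ₁ x'⁆ = ⁅Φ₁ x', Φ₂ y⁆⁻¹ := (commutatorElement_inv _ _).symm
    have eq : ⁅Φ₁ x * Φ₂ y, Φ₁ x' * Φ₂ y'⁆ =
        ⁅Φ₁ x', Φ₂ y⁆⁻¹ * ⁅Φ₂ y, Φ₂ y'⁆ * (⁅Φ₁ x, Φ₁ x'⁆ * ⁅Φ₁ x, Φ₂ y'⁆) := by
      have c1 := Subgroup.mem_center_iff.1 hc1
      have c2 := Subgroup.mem_center_iff.1 (Subgroup.inv_mem _ hc2)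
      calc ⁅Φ₁ x * Φ₂ y, Φ₁ x' * Φ₂ y'⁆
          = (Φ₁ x * (⁅Φ₂ y, Φ₁ x'⁆ * ((Φ₁ x' * ⁅Φ₂ y, Φ₂ y'⁆) * (Φ₁ x')⁻¹))) * (Φ₁ x)⁻¹ *
            (⁅Φ₁ x, Φ₁ x'⁆ * ((Φ₁ x' * ⁅Φ₁ x, Φ₂ y'⁆) * (Φ₁ x')⁻¹)) := by
              simp only [commutatorElement_def]; group
        _ = (Φ₁ x * (⁅Φ₁ x', Φ₂ y⁆⁻¹ * ⁅Φ₂ y, Φ₂ y'⁆)) * (Φ₁ x)⁻¹ *
            (⁅Φ₁ x, Φ₁ x'⁆ * ⁅Φ₁ x, Φ₂ y'⁆) := by
              rw [hi, hd x', mul_inv_cancel_right, c1 (Φ₁ x'), mul_inv_cancel_right]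
        _ = _ := by
              rw [← mul_assoc (Φ₁ x), c2 (Φ₁ x), mul_assoc _ (Φ₁ x), hd x]
              group
    rw [eq]
    exact F.range.mul_mem (F.range.mul_mem (F.range.inv_mem (mem₃ x' y)) mem₂)
      (F.range.mul_mem mem₁ (mem₃ x y'))
  let j : SchurMultiplierCover.mult Q₁ × SchurMultiplierCover.mult Q₂ × AbTensor Q₁ Q₂ →*
      commutator (SchurMultiplierCover.E Q₁) ×
        (commutator (SchurMultiplierCover.E Q₂) × AbTensor Q₁ Q₂) :=
    MonoidHom.prodMap (Subgroup.inclusion (SchurMultiplierCover.mult_le_commutator Q₁))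
      (MonoidHom.prodMap (Subgroup.inclusion (SchurMultiplierCover.mult_le_commutator Q₂))
        (MonoidHom.id _))
  have hσF : ∀ p, σ (F p) =
      (SchurMultiplierCover.proj Q₁ p.1, SchurMultiplierCover.proj Q₂ p.2.1) := by
    intro p
    show σ (Φ₁ p.1 * (Φ₂ p.2.1 * B p.2.2)) = _
    rw [map_mul, map_mul, hp₁, hp₂, MonoidHom.mem_ker.1 (B p.2.2).2]
    simp
  refine ⟨(F.comp j).codRestrict σ.ker fun m => ?_, fun z => ?_⟩
  · rw [MonoidHom.mem_ker, MonoidHom.comp_apply, hσF]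
    exact Prod.ext m.1.2.1 m.2.1.2.1
  · obtain ⟨⟨a, b, t⟩, hp⟩ := hF (hσ.2.2 z.2)
    have h1 := (hσF (a, b, t)).symm.trans ((congrArg σ hp).trans (MonoidHom.mem_ker.1 z.2))
    obtain ⟨ha, hb⟩ := Prod.ext_iff.1 h1
    exact ⟨(⟨a, ha, a.2⟩, ⟨b, hb, b.2⟩, t), Subtype.ext hp⟩

variable [Finite Q₁] [Finite Q₂]

/-- The product cocycle on a pair of covers. -/
def prodCocycle {C₁ : Type u} {C₂ : Type v} [Group C₁] [Group C₂] (σ₁ : C₁ →* Q₁) (σ₂ : C₂ →* Q₂) :
    SchurMultiplierExt.Cocycle (C₁ × C₂) (AbTensor Q₁ Q₂) :=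
  SchurMultiplierExt.bilinear (fun c => Abelianization.of (σ₁ c.1))
    (fun c => Abelianization.of (σ₂ c.2)) tens
    (fun g h => by rw [Prod.fst_mul, map_mul, map_mul])
    (fun g h => by rw [Prod.snd_mul, map_mul, map_mul]) tens_mul_left tens_mul_right

/-- A stem extension of the product with kernel `M(Q₁) × M(Q₂) × (Q₁ᵃᵇ ⊗ Q₂ᵃᵇ)`. -/
theorem exists_product_cover :
    ∃ (Γ : Type max u v) (_ : Group Γ) (_ : Finite Γ) (σ : Γ →* Q₁ × Q₂), IsStemExtension σ ∧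
      Nonempty (σ.ker ≃*
        SchurMultiplierCover.mult Q₁ × SchurMultiplierCover.mult Q₂ × AbTensor Q₁ Q₂) := by
  obtain ⟨C₁, _, _, σ₁, h₁, ⟨e₁⟩, -⟩ :=
    SchurMultiplierCover.exists_cover_over (SchurMultiplierBasic.stem_id (G := Q₁))
  obtain ⟨C₂, _, _, σ₂, h₂, ⟨e₂⟩, -⟩ :=
    SchurMultiplierCover.exists_cover_over (SchurMultiplierBasic.stem_id (G := Q₂))
  set κ := prodCocycle σ₁ σ₂ with hκ
  have hf : ∀ a b, κ.f a b = tens (Abelianization.of (σ₁ a.1)) (Abelianization.of (σ₂ b.2)) :=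
    fun a b => rfl
  have hker : ∀ (k : σ₁.ker × σ₂.ker) (d : C₁ × C₂),
      κ.f ((k.1 : C₁), (k.2 : C₂)) d = 1 ∧ κ.f d ((k.1 : C₁), (k.2 : C₂)) = 1 := by
    intro k d
    rw [hf, hf, MonoidHom.mem_ker.1 k.1.2, MonoidHom.mem_ker.1 k.2.2, map_one, map_one,
      tens_one_left, tens_one_right]
    exact ⟨rfl, rfl⟩
  let σ : SchurMultiplierExt.Ext κ →* Q₁ × Q₂ :=
    (MonoidHom.prodMap σ₁ σ₂).comp (SchurMultiplierExt.proj κ)
  let j : σ₁.ker × σ₂.ker × AbTensor Q₁ Q₂ →* SchurMultiplierExt.Ext κ :=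
    MonoidHom.mk' (fun p => ⟨p.2.2, ((p.1 : C₁), (p.2.1 : C₂))⟩) fun p p' => by
      ext
      · show p.2.2 * p'.2.2 = p.2.2 * p'.2.2 * κ.f ((p.1 : C₁), (p.2.1 : C₂)) _
        rw [(hker (p.1, p.2.1) _).1, mul_one]
      · rfl
      · rfl
  have hjr : σ.ker = j.range := by
    refine le_antisymm (fun x hx => ?_) ?_
    · have hx' : (σ₁ x.g.1, σ₂ x.g.2) = (1, 1) := hx
      obtain ⟨ha, hb⟩ := Prod.ext_iff.1 hx'
      exact ⟨(⟨x.g.1, ha⟩, ⟨x.g.2, hb⟩, x.z), rfl⟩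
    · rintro _ ⟨p, rfl⟩
      show (σ₁ p.1, σ₂ p.2.1) = (1, 1)
      rw [MonoidHom.mem_ker.1 p.1.2, MonoidHom.mem_ker.1 p.2.1.2]
  have hjinj : Function.Injective j := by
    intro p p' h
    have hz := congrArg SchurMultiplierExt.Ext.z h
    have hg := Prod.ext_iff.1 (congrArg SchurMultiplierExt.Ext.g h)
    exact Prod.ext (Subtype.ext hg.1) (Prod.ext (Subtype.ext hg.2) hz)
  let i₁ : C₁ →* SchurMultiplierExt.Ext κ := MonoidHom.mk' (fun c => ⟨1, (c, 1)⟩) fun a b => by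
    ext
    · show (1 : AbTensor Q₁ Q₂) = 1 * 1 * κ.f (a, 1) (b, 1)
      rw [hf, map_one, map_one, tens_one_right, mul_one, mul_one]
    · rfl
    · exact (mul_one 1).symm
  let i₂ : C₂ →* SchurMultiplierExt.Ext κ := MonoidHom.mk' (fun c => ⟨1, (1, c)⟩) fun a b => by
    ext
    · show (1 : AbTensor Q₁ Q₂) = 1 * 1 * κ.f (1, a) (1, b)
      rw [hf, map_one, map_one, tens_one_left, mul_one, mul_one]
    · exact (mul_one 1).symm
    · rfl
  have hincl : ∀ t, SchurMultiplierExt.incl κ t ∈ commutator (SchurMultiplierExt.Ext κ) := by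
    intro t
    induction t using tens_induction with
    | h1 => rw [map_one]; exact Subgroup.one_mem _
    | ht a b =>
      obtain ⟨a, rfl⟩ : ∃ a', Abelianization.of a' = a := QuotientGroup.mk_surjective a
      obtain ⟨b, rfl⟩ : ∃ b', Abelianization.of b' = b := QuotientGroup.mk_surjective b
      obtain ⟨c, rfl⟩ := h₁.1 a
      obtain ⟨d, rfl⟩ := h₂.1 b
      have h := SchurMultiplierExt.commutator_lift κ (a := ((c, 1) : C₁ × C₂)) (b := (1, d))
        (by simp)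
      rw [hf, hf, map_one σ₁, map_one σ₂] at h
      simp only [map_one, tens_one_left, inv_one, mul_one] at h
      rw [← h, commutator_def]
      exact Subgroup.commutator_mem_commutator (Subgroup.mem_top _) (Subgroup.mem_top _)
    | hm s t hs ht => rw [map_mul]; exact Subgroup.mul_mem _ hs ht
  refine ⟨SchurMultiplierExt.Ext κ, inferInstance, inferInstance, σ, ⟨?_, ?_, ?_⟩, ⟨?_⟩⟩
  · exact (Function.Surjective.prodMap h₁.1 h₂.1).comp (SchurMultiplierExt.proj_surjective κ)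
  · rw [hjr]
    rintro _ ⟨p, rfl⟩
    rw [Subgroup.mem_center_iff]
    intro x
    ext
    · show x.z * p.2.2 * κ.f x.g ((p.1 : C₁), (p.2.1 : C₂)) =
        p.2.2 * x.z * κ.f ((p.1 : C₁), (p.2.1 : C₂)) x.g
      rw [(hker (p.1, p.2.1) x.g).1, (hker (p.1, p.2.1) x.g).2, mul_one, mul_one, mul_comm]
    · exact Subgroup.mem_center_iff.1 (h₁.2.1 p.1.2) x.g.1
    · exact Subgroup.mem_center_iff.1 (h₂.2.1 p.2.1.2) x.g.2
  · rw [hjr]
    rintro _ ⟨p, rfl⟩
    have he : j p = i₁ p.1 * i₂ p.2.1 * SchurMultiplierExt.incl κ p.2.2 := by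
      ext
      · show p.2.2 = (1 * 1 * κ.f ((p.1 : C₁), 1) (1, (p.2.1 : C₂))) * p.2.2 * κ.f _ 1
        rw [κ.one_right, hf, MonoidHom.mem_ker.1 p.1.2, map_one Abelianization.of, tens_one_left]
        simp
      · show (p.1 : C₁) = p.1 * 1 * 1
        simp
      · show (p.2.1 : C₂) = 1 * p.2.1 * 1
        simp
    rw [he]
    exact Subgroup.mul_mem _ (Subgroup.mul_mem _ (map_mem_commutator i₁ (h₁.2.2 p.1.2))
      (map_mem_commutator i₂ (h₂.2.2 p.2.1.2))) (hincl _)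
  · exact ((MulEquiv.subgroupCongr hjr).trans (MonoidHom.ofInjective hjinj).symm).trans
      (e₁.prodCongr (e₂.prodCongr (MulEquiv.refl _)))

/-- The Schur multiplier of a direct product of finite groups. -/
theorem hasSchurMultiplier_prod {A : Type w} {B : Type w} [CommGroup A] [CommGroup B]
    (hA : HasSchurMultiplier Q₁ A) (hB : HasSchurMultiplier Q₂ B) :
    HasSchurMultiplier (Q₁ × Q₂) (A × B × AbTensor Q₁ Q₂) := by
  obtain ⟨eA⟩ := SchurMultiplierCover.hasSchurMultiplier_equiv hA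
  obtain ⟨eB⟩ := SchurMultiplierCover.hasSchurMultiplier_equiv hB
  let e := eA.prodCongr (eB.prodCongr (MulEquiv.refl (AbTensor Q₁ Q₂)))
  obtain ⟨Γ, _, _, σ, hσ, ⟨f⟩⟩ := exists_product_cover (Q₁ := Q₁) (Q₂ := Q₂)
  refine ⟨⟨Γ, inferInstance, inferInstance, σ, hσ, ⟨f.trans e.symm⟩⟩, fun Δ _ _ τ hτ => ?_⟩
  obtain ⟨π, hπ⟩ := exists_surjective_product hτ
  exact ⟨π.comp e.toMonoidHom, hπ.comp e.surjective⟩

end Cfsg.Agent.SchurMultiplierProduct
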