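import Mathlib
import Cfsg.Prelude.Def_KGroupFacts
import Cfsg.Agent.Lib.SchurMultiplierCover

/-!
Complex projective representations and covering groups: lifting along covers, and the monomial
representations showing that every character of the kernel of a stem extension is realised.
-/

set_option autoImplicit false

namespace Cfsg.Agent.SchurMultiplierProjective

open Cfsg
open scoped commutatorElement

universe u v

variable {G : Type u} [Group G]

/-- `Additive ℂˣ` is divisible. -/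
noncomputable def unitsDivisible : DivisibleBy (Additive ℂˣ) ℤ :=
  divisibleByOfSMulRightSurj _ _ fun {n} hn => fun a => by
    obtain ⟨k, hk⟩ : ∃ k : ℕ, n = k ∨ n = -k := ⟨n.natAbs, n.natAbs_eq⟩
    have hk0 : k ≠ 0 := by rintro rfl; simp at hk; exact hn hk
    rcases hk with rfl | rfl
    · obtain ⟨z, hz⟩ := IsAlgClosed.exists_pow_nat_eq ((Additive.toMul a : ℂˣ) : ℂ)
        (Nat.pos_of_ne_zero hk0)
      have hz0 : z ≠ 0 := by
        rintro rfl
        rw [zero_pow hk0] at hz
        exact (Additive.toMul a).ne_zero hz.symm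
      refine ⟨Additive.ofMul (Units.mk0 z hz0), ?_⟩
      show (k : ℤ) • Additive.ofMul (Units.mk0 z hz0) = a
      rw [natCast_zsmul, ← ofMul_pow]
      exact congrArg Additive.ofMul (Units.ext hz)
    · obtain ⟨z, hz⟩ := IsAlgClosed.exists_pow_nat_eq (((Additive.toMul a)⁻¹ : ℂˣ) : ℂ)
        (Nat.pos_of_ne_zero hk0)
      have hz0 : z ≠ 0 := by
        rintro rfl
        rw [zero_pow hk0] at hz
        exact ((Additive.toMul a)⁻¹).ne_zero hz.symm
      refine ⟨Additive.ofMul (Units.mk0 z hz0), ?_⟩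
      show (-(k : ℤ)) • Additive.ofMul (Units.mk0 z hz0) = a
      rw [neg_zsmul, natCast_zsmul, ← ofMul_pow, ← ofMul_inv]
      have : (Units.mk0 z hz0) ^ k = (Additive.toMul a)⁻¹ := Units.ext hz
      rw [this, inv_inv, ofMul_toMul]

/-- A homomorphism into `ℂˣ` on a subgroup of the relation module meeting the multiplier trivially
extends to the free central extension. -/
theorem exists_extension [Finite G] (L : Subgroup (SchurMultiplierCover.E G))
    (hL : L ≤ (SchurMultiplierCover.proj G).ker) (hLM : L ⊓ SchurMultiplierCover.mult G = ⊥)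
    (μ : L →* ℂˣ) :
    ∃ χ : SchurMultiplierCover.E G →* ℂˣ, ∀ l : L, χ l = μ l := by
  letI : CommGroup L :=
    { (inferInstance : Group L) with
      mul_comm := fun a b => Subtype.ext
        (Subgroup.mem_center_iff.1 (SchurMultiplierCover.proj_ker_le_center G (hL b.2)) a) }
  let f : Additive L →+ (G →₀ ℤ) :=
    MonoidHom.toAdditiveLeft ((SchurMultiplierCover.degHom G).comp L.subtype)
  have hf : Function.Injective f := by
    refine (injective_iff_map_eq_zero f).2 fun l hl => ?_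
    have h1 : ((Additive.toMul l : L) : SchurMultiplierCover.E G) ∈
        SchurMultiplierCover.mult G := by
      refine ⟨hL (Additive.toMul l).2, ?_⟩
      rw [← SchurMultiplierCover.degHom_ker]
      exact hl
    have h2 : ((Additive.toMul l : L) : SchurMultiplierCover.E G) ∈
        L ⊓ SchurMultiplierCover.mult G := ⟨(Additive.toMul l).2, h1⟩
    rw [hLM, Subgroup.mem_bot] at h2
    exact Additive.toMul.injective (Subtype.ext h2)
  letI := unitsDivisible
  obtain ⟨h, hh⟩ := (Module.Baer.of_divisible (Additive ℂˣ)).extension_property_addMonoidHom f hf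
    (MonoidHom.toAdditive μ)
  exact ⟨(AddMonoidHom.toMultiplicativeLeft h).comp (SchurMultiplierCover.degHom G),
    fun l => congrArg Additive.toMul (DFunLike.congr_fun hh (Additive.ofMul l))⟩

/-- Projective representations lift along covering groups. -/
theorem projective_lift [Finite G] {Γ : Type v} [Group Γ] (σ : Γ →* G) (hσ : IsStemExtension σ)
    (hk : Nonempty (σ.ker ≃* SchurMultiplierCover.mult G)) (n : ℕ)
    (γ : G →* (GL (Fin n) ℂ ⧸ Subgroup.center (GL (Fin n) ℂ))) :
    ∃ ρ : Γ →* GL (Fin n) ℂ,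
      (QuotientGroup.mk' (Subgroup.center (GL (Fin n) ℂ))).comp ρ = γ.comp σ := by
  rcases isEmpty_or_nonempty (Fin n) with he | hne
  · refine ⟨1, MonoidHom.ext fun x => ?_⟩
    obtain ⟨y, hy⟩ := QuotientGroup.mk'_surjective (Subgroup.center (GL (Fin n) ℂ)) (γ (σ x))
    have : y = 1 := Subsingleton.elim _ _
    rw [this, map_one] at hy
    simp only [MonoidHom.comp_apply, MonoidHom.one_apply, map_one]
    exact hy
  obtain ⟨Φ, hΦ⟩ := SchurMultiplierCover.exists_lift σ hσ.1 hσ.2.1 (MonoidHom.id G)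
  rw [MonoidHom.id_comp] at hΦ
  obtain ⟨hsur, hker⟩ := SchurMultiplierCover.lift_stem hσ Φ hΦ
  have hLle : Φ.ker ≤ (SchurMultiplierCover.proj G).ker := fun e he => by
    rw [MonoidHom.mem_ker, ← hΦ, MonoidHom.comp_apply, MonoidHom.mem_ker.1 he, map_one]
  let θ : SchurMultiplierCover.mult G →* σ.ker :=
    (Φ.comp (SchurMultiplierCover.mult G).subtype).codRestrict σ.ker fun m =>
      hker ▸ Subgroup.mem_map_of_mem Φ m.2
  have hθs : Function.Surjective θ := fun k => by
    obtain ⟨m, hm, he⟩ : (k : Γ) ∈ (SchurMultiplierCover.mult G).map Φ := hker.symm ▸ k.2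
    exact ⟨⟨m, hm⟩, Subtype.ext he⟩
  obtain ⟨e⟩ := hk
  have hθ : Function.Bijective θ :=
    hθs.bijective_of_nat_card_le (Nat.card_congr e.toEquiv).ge
  have hLM : Φ.ker ⊓ SchurMultiplierCover.mult G = ⊥ := by
    rw [eq_bot_iff]
    rintro m ⟨h1, h2⟩
    have := hθ.1 (a₁ := ⟨m, h2⟩) (a₂ := 1) (Subtype.ext (by
      show Φ m = Φ 1
      rw [map_one]; exact h1))
    exact congrArg Subtype.val this
  obtain ⟨Λ, hΛ⟩ := SchurMultiplierCover.exists_lift
    (QuotientGroup.mk' (Subgroup.center (GL (Fin n) ℂ))) (QuotientGroup.mk'_surjective _)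
    (le_of_eq (QuotientGroup.ker_mk' _)) γ
  have hsinj : Function.Injective (Matrix.GeneralLinearGroup.scalar (Fin n) (R := ℂ)) := by
    intro a b h
    have h2 := congrArg (fun M : GL (Fin n) ℂ =>
      (M : Matrix (Fin n) (Fin n) ℂ) hne.some hne.some) h
    exact Units.ext (by simpa [Matrix.GeneralLinearGroup.scalar] using h2)
  have hmem : ∀ l : Φ.ker, Λ l ∈ (Matrix.GeneralLinearGroup.scalar (Fin n) (R := ℂ)).range := by
    intro l
    rw [← Matrix.GeneralLinearGroup.center_eq_range_scalar]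
    have h := DFunLike.congr_fun hΛ (l : SchurMultiplierCover.E G)
    simp only [MonoidHom.comp_apply, MonoidHom.mem_ker.1 (hLle l.2), map_one] at h
    exact (QuotientGroup.eq_one_iff _).1 h
  let μ : Φ.ker →* ℂˣ := (MonoidHom.ofInjective hsinj).symm.toMonoidHom.comp
    ((Λ.comp Φ.ker.subtype).codRestrict _ hmem)
  have hμ : ∀ l, Matrix.GeneralLinearGroup.scalar (Fin n) (μ l) = Λ l := fun l =>
    congrArg Subtype.val ((MonoidHom.ofInjective hsinj).apply_symm_apply _)
  obtain ⟨χ, hχ⟩ := exists_extension Φ.ker hLle hLM μ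
  let S : SchurMultiplierCover.E G →* GL (Fin n) ℂ :=
    (Matrix.GeneralLinearGroup.scalar (Fin n)).comp χ
  have hS : ∀ e, S e ∈ Subgroup.center (GL (Fin n) ℂ) := fun e => by
    rw [Matrix.GeneralLinearGroup.center_eq_range_scalar]; exact ⟨χ e, rfl⟩
  let Λ' : SchurMultiplierCover.E G →* GL (Fin n) ℂ :=
    MonoidHom.mk' (fun e => Λ e * (S e)⁻¹) fun a b => by
      show Λ (a * b) * (S (a * b))⁻¹ = Λ a * (S a)⁻¹ * (Λ b * (S b)⁻¹)
      rw [map_mul, map_mul, mul_inv_rev]
      have e1 := Subgroup.mem_center_iff.1 ((Subgroup.center _).inv_mem (hS a))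
      calc Λ a * Λ b * ((S b)⁻¹ * (S a)⁻¹) = Λ a * ((Λ b * (S b)⁻¹) * (S a)⁻¹) := by group
        _ = Λ a * ((S a)⁻¹ * (Λ b * (S b)⁻¹)) := by rw [e1]
        _ = _ := by group
  have hΛ' : Φ.ker ≤ Λ'.ker := fun l hl => by
    show Λ l * (S l)⁻¹ = 1
    have h1 : S l = Λ l := by
      show Matrix.GeneralLinearGroup.scalar (Fin n) (χ l) = Λ l
      rw [hχ ⟨l, hl⟩, hμ]
    rw [h1, mul_inv_cancel]
  refine ⟨Φ.liftOfSurjective hsur ⟨Λ', hΛ'⟩, MonoidHom.ext fun x => ?_⟩
  obtain ⟨e', rfl⟩ := hsur x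
  have hl : (Φ.liftOfSurjective hsur ⟨Λ', hΛ'⟩) (Φ e') = Λ' e' := by simp
  rw [MonoidHom.comp_apply, hl, MonoidHom.comp_apply,
    show σ (Φ e') = SchurMultiplierCover.proj G e' from DFunLike.congr_fun hΦ e']
  show QuotientGroup.mk' _ (Λ e' * (S e')⁻¹) = _
  have hone : QuotientGroup.mk' (Subgroup.center (GL (Fin n) ℂ)) (S e') = 1 :=
    (QuotientGroup.eq_one_iff _).2 (hS e')
  rw [map_mul, map_inv, hone, inv_one, mul_one]
  exact DFunLike.congr_fun hΛ e'

/-- Monomial representations realising a character of the kernel by scalars. -/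
theorem exists_monomial {Δ : Type v} [Group Δ] [Finite G] (τ : Δ →* G) (hs : Function.Surjective τ)
    (hc : τ.ker ≤ Subgroup.center Δ) (χ : τ.ker →* ℂˣ) :
    ∃ (n : ℕ) (_ : NeZero n) (R : Δ →* GL (Fin n) ℂ),
      ∀ k : τ.ker, R k = Matrix.GeneralLinearGroup.scalar (Fin n) (χ k) := by
  classical
  obtain ⟨n, ⟨e⟩⟩ := Finite.exists_equiv_fin G
  haveI : NeZero n := ⟨fun h => by subst h; exact (e 1).elim0⟩
  set s := Function.surjInv hs with hsdef
  have hτs : ∀ q, τ (s q) = q := Function.surjInv_eq hs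
  have hck : ∀ d q, (s (τ d * q))⁻¹ * d * s q ∈ τ.ker := fun d q => by
    rw [MonoidHom.mem_ker, map_mul, map_mul, map_inv, hτs, hτs, mul_assoc, inv_mul_cancel]
  let c : Δ → G → ℂ := fun d q => (χ ⟨_, hck d q⟩ : ℂ)
  let M : Δ → Matrix (Fin n) (Fin n) ℂ := fun d =>
    Matrix.of fun i j => if e.symm i = τ d * e.symm j then c d (e.symm j) else 0
  have hMone : M 1 = 1 := by
    ext i j
    simp only [M, Matrix.of_apply, map_one, one_mul, e.symm.injective.eq_iff, Matrix.one_apply]
    refine if_congr Iff.rfl ?_ rfl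
    simp only [c]
    refine (congrArg (fun x : ℂˣ => (x : ℂ))
      ((congrArg χ (Subtype.ext ?_)).trans (map_one χ))).trans Units.val_one
    simp
  have hMmul : ∀ d d', M (d * d') = M d * M d' := by
    intro d d'
    ext i j
    rw [Matrix.mul_apply, Finset.sum_eq_single (e (τ d' * e.symm j))]
    · simp only [M, Matrix.of_apply, Equiv.symm_apply_apply, if_pos rfl, if_true, map_mul, mul_assoc]
      by_cases h : e.symm i = τ d * (τ d' * e.symm j)
      · rw [if_pos h, if_pos h]
        simp only [c, ← Units.val_mul, ← map_mul]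
        congr 2
        apply Subtype.ext
        show (s (τ (d * d') * e.symm j))⁻¹ * (d * d') * s (e.symm j) =
          ((s (τ d * (τ d' * e.symm j)))⁻¹ * d * s (τ d' * e.symm j)) *
          ((s (τ d' * e.symm j))⁻¹ * d' * s (e.symm j))
        rw [map_mul, mul_assoc (τ d)]
        group
      · rw [if_neg h, if_neg h, zero_mul]
    · intro k _ hk
      simp only [M, Matrix.of_apply]
      rw [if_neg (fun h : e.symm k = τ d' * e.symm j => hk (by rw [← h, e.apply_symm_apply])),
        mul_zero]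
    · intro h; exact absurd (Finset.mem_univ _) h
  let R0 : Δ →* Matrix (Fin n) (Fin n) ℂ :=
    { toFun := M, map_one' := hMone, map_mul' := hMmul }
  refine ⟨n, inferInstance, R0.toHomUnits, fun k => ?_⟩
  apply Units.ext
  ext i j
  show M k i j = (Matrix.scalar (Fin n) ((χ k : ℂˣ) : ℂ)) i j
  simp only [M, Matrix.of_apply, MonoidHom.mem_ker.1 k.2, one_mul, e.symm.injective.eq_iff,
    Matrix.scalar_apply, Matrix.diagonal_apply]
  refine if_congr Iff.rfl ?_ rfl
  simp only [c]
  congr 2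
  apply Subtype.ext
  show (s (τ k * e.symm j))⁻¹ * k * s (e.symm j) = k
  rw [MonoidHom.mem_ker.1 k.2, one_mul, mul_assoc,
    ← Subgroup.mem_center_iff.1 (hc k.2) (s (e.symm j))]
  group

/-- If all projective representations lift along a stem extension, it is a covering group. -/
theorem surjective_of_lifts [Finite G] {Γ : Type v} [Group Γ] (σ : Γ →* G) (hσ : IsStemExtension σ)
    (hlift : ∀ (n : ℕ) (γ : G →* (GL (Fin n) ℂ ⧸ Subgroup.center (GL (Fin n) ℂ))),
      ∃ ρ : Γ →* GL (Fin n) ℂ,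
        (QuotientGroup.mk' (Subgroup.center (GL (Fin n) ℂ))).comp ρ = γ.comp σ)
    {Δ : Type*} [Group Δ] [Finite Δ] (τ : Δ →* G) (hτ : IsStemExtension τ) :
    ∃ π : σ.ker →* τ.ker, Function.Surjective π := by
  obtain ⟨Φ, hΦ⟩ := SchurMultiplierCover.exists_lift σ hσ.1 hσ.2.1 (MonoidHom.id G)
  rw [MonoidHom.id_comp] at hΦ
  obtain ⟨-, hkerσ⟩ := SchurMultiplierCover.lift_stem hσ Φ hΦ
  obtain ⟨Ψ, hΨ⟩ := SchurMultiplierCover.exists_lift τ hτ.1 hτ.2.1 (MonoidHom.id G)
  rw [MonoidHom.id_comp] at hΨ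
  obtain ⟨-, hkerτ⟩ := SchurMultiplierCover.lift_stem hτ Ψ hΨ
  let a : SchurMultiplierCover.mult G →* σ.ker :=
    (Φ.comp (SchurMultiplierCover.mult G).subtype).codRestrict σ.ker fun m =>
      hkerσ ▸ Subgroup.mem_map_of_mem Φ m.2
  let b : SchurMultiplierCover.mult G →* τ.ker :=
    (Ψ.comp (SchurMultiplierCover.mult G).subtype).codRestrict τ.ker fun m =>
      hkerτ ▸ Subgroup.mem_map_of_mem Ψ m.2
  have ha : Function.Surjective a := fun k => by
    obtain ⟨m, hm, he⟩ : (k : Γ) ∈ (SchurMultiplierCover.mult G).map Φ := hkerσ.symm ▸ k.2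
    exact ⟨⟨m, hm⟩, Subtype.ext he⟩
  have hb : Function.Surjective b := fun k => by
    obtain ⟨m, hm, he⟩ : (k : Δ) ∈ (SchurMultiplierCover.mult G).map Ψ := hkerτ.symm ▸ k.2
    exact ⟨⟨m, hm⟩, Subtype.ext he⟩
  letI : CommGroup τ.ker :=
    { (inferInstance : Group τ.ker) with
      mul_comm := fun x y => Subtype.ext (Subgroup.mem_center_iff.1 (hτ.2.1 y.2) x) }
  have hle : a.ker ≤ b.ker := by
    intro m hm
    rw [MonoidHom.mem_ker, ← CommGroup.forall_apply_eq_apply_iff τ.ker (M := ℂ)]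
    intro χ
    rw [map_one]
    obtain ⟨n, _, R, hR⟩ := exists_monomial τ hτ.1 hτ.2.1 χ
    have hkerR : τ.ker ≤ ((QuotientGroup.mk' (Subgroup.center (GL (Fin n) ℂ))).comp R).ker := by
      intro k hk
      rw [MonoidHom.mem_ker, MonoidHom.comp_apply, QuotientGroup.mk'_apply,
        QuotientGroup.eq_one_iff, hR ⟨k, hk⟩, Matrix.GeneralLinearGroup.center_eq_range_scalar]
      exact ⟨_, rfl⟩
    let γ := τ.liftOfSurjective hτ.1 ⟨_, hkerR⟩
    have hγ : γ.comp τ = (QuotientGroup.mk' (Subgroup.center (GL (Fin n) ℂ))).comp R :=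
      MonoidHom.ext fun d => by simp [γ]
    obtain ⟨ρ, hρ⟩ := hlift n γ
    have h1 := SchurMultiplierCover.eq_on_commutator
      (σ := QuotientGroup.mk' (Subgroup.center (GL (Fin n) ℂ))) (le_of_eq (QuotientGroup.ker_mk' _))
      (ρ.comp Φ) (R.comp Ψ) (by
        rw [← MonoidHom.comp_assoc, hρ, MonoidHom.comp_assoc, hΦ, ← MonoidHom.comp_assoc, ← hγ,
          MonoidHom.comp_assoc, hΨ]) (SchurMultiplierCover.mult_le_commutator G m.2)
    rw [MonoidHom.comp_apply, MonoidHom.comp_apply,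
      show Φ m = 1 from congrArg Subtype.val (MonoidHom.mem_ker.1 hm), map_one] at h1
    have h2 : Matrix.GeneralLinearGroup.scalar (Fin n) (χ (b m)) = 1 := by
      rw [← hR]; exact h1.symm
    have h3 := congrArg (fun M : GL (Fin n) ℂ => (M : Matrix (Fin n) (Fin n) ℂ) 0 0) h2
    exact Units.ext (by simpa [Matrix.GeneralLinearGroup.scalar] using h3)
  exact ⟨a.liftOfSurjective ha ⟨b, hle⟩, fun k => by
    obtain ⟨m, rfl⟩ := hb k
    exact ⟨a m, by simp⟩⟩

end Cfsg.Agent.SchurMultiplierProjective
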