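import Mathlib
import Cfsg.Agent.Lib.SectionalFourGroup

/-!
2-groups `S` with a good subgroup `T` (see `SectionalFourGroup`): structure of `S` and the bound
`FrattiniLE 4` for all of its subgroups.
-/

set_option autoImplicit false

namespace Cfsg.Agent.SectionalFourGroup

variable {G : Type*} [Group G] [Finite G] {S T : Subgroup G}

theorem ri_ne (H K : Subgroup G) : H.relIndex K ≠ 0 :=
  Subgroup.index_ne_zero_of_finite

theorem mem_sup_of_le_normalizer {H N : Subgroup G} (hn : ∀ h ∈ H, ∀ x ∈ N, h * x * h⁻¹ ∈ N)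
    {g : G} (hg : g ∈ H ⊔ N) : ∃ h ∈ H, ∃ x ∈ N, g = h * x := by
  have hle : H ≤ Subgroup.normalizer (N : Set G) := fun h hh =>
    (mem_nor.2 ⟨Subgroup.mem_top h, hn h hh⟩ : h ∈ nor (⊤ : Subgroup G) N).2
  rw [← SetLike.mem_coe, Subgroup.coe_mul_of_left_le_normalizer_right H N hle] at hg
  obtain ⟨h, hh, x, hx, rfl⟩ := hg
  exact ⟨h, hh, x, hx, rfl⟩

theorem relIndex_sup_le {U K X J : Subgroup G} (hKU : K ≤ U) (hsq : ∀ u ∈ U, u * u ∈ K)
    (hXU : X ≤ U) (hJ : J ≤ K ⊔ X) : K.relIndex J ≤ K.relIndex X := by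
  haveI : (K.subgroupOf U).Normal := ⟨fun x hx u => conj_mem_of_sq hKU hsq u.2 hx⟩
  refine le_trans (Subgroup.relIndex_le_of_le_right hJ
    (ri_ne _ _)) (le_of_eq ?_)
  rw [← Subgroup.relIndex_subgroupOf (sup_le hKU hXU), Subgroup.subgroupOf_sup hKU hXU,
    Subgroup.relIndex_sup_left, Subgroup.relIndex_subgroupOf hXU]

theorem relIndex_step {K X Y : Subgroup G} (hXY : X ≤ Y) :
    K.relIndex Y ≤ K.relIndex X * X.relIndex Y := by
  have h := Nat.le_of_dvd (Nat.pos_of_ne_zero (ri_ne _ _))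
    (Subgroup.relIndex_dvd_of_le_left Y (inf_le_left : K ⊓ X ≤ K))
  rwa [← Subgroup.relIndex_mul_relIndex (K ⊓ X) X Y inf_le_right hXY,
    Subgroup.inf_relIndex_right] at h

theorem relIndex_le_card {K X : Subgroup G} : K.relIndex X ≤ Nat.card X :=
  Nat.le_of_dvd Nat.card_pos ((Subgroup.relIndex_dvd_of_le_left X bot_le).trans
    (by rw [Subgroup.relIndex_bot_left]))

/-- Subgroups of `N_S(T)`. -/
theorem bound_nor (hS : IsPGroup 2 S) (hT : Good S T) {U : Subgroup G} (hU : U ≤ nor S T) :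
    FrattiniLE 4 U := by
  classical
  intro K hKU hsq
  by_cases hUT : U ≤ T
  · refine le_trans relIndex_le_card (le_trans (Subgroup.card_le_of_le hUT) ?_)
    rw [hT.2.1]; norm_num
  obtain ⟨u0, hu0, hu0T⟩ := Set.not_subset.1 hUT
  obtain ⟨s, hs, hmin⟩ := Finset.exists_min_image
    ((Set.toFinite {x | x ∈ U ∧ x ∉ T}).toFinset) orderOf ⟨u0, by simpa using ⟨hu0, hu0T⟩⟩
  simp only [Set.Finite.mem_toFinset, Set.mem_setOf_eq] at hs hmin
  obtain ⟨hsU, hsT⟩ := hs
  have hsS : s ∈ S := (mem_nor.1 (hU hsU)).1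
  have hss : s * s ∈ T := by
    by_contra hcon
    have h1 := hmin (s * s) ⟨mul_mem hsU hsU, hcon⟩
    obtain ⟨k, hk⟩ := hS ⟨s, hsS⟩
    have hk' : s ^ (2 ^ k) = 1 := by simpa using congrArg Subtype.val hk
    obtain ⟨j, -, hj⟩ := (Nat.dvd_prime_pow Nat.prime_two).1 (orderOf_dvd_of_pow_eq_one hk')
    have hs1 : orderOf s ≠ 1 := fun h => hsT (by rw [orderOf_eq_one_iff.1 h]; exact one_mem T)
    have heven : 2 ∣ orderOf s := by
      rw [hj]
      exact dvd_pow_self 2 (fun h => hs1 (by rw [hj, h, pow_zero]))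
    have hpos := orderOf_pos s
    rw [← sq, orderOf_pow_of_dvd (by norm_num) heven] at h1
    omega
  obtain ⟨-, -, -⟩ := comm_facts hT (hU hsU) hsT hss
  set X := U ⊓ T with hX
  -- the kernel contains the commutators with s
  have hfX : K.relIndex X ≤ 4 := by
    let d : X →* G := MonoidHom.mk' (fun t => s * (t : G) * s⁻¹ * (t : G)⁻¹) (fun a b => by
      have hn := (mem_nor.1 (hU hsU)).2
      have h1 : s * (b : G) * s⁻¹ * (b : G)⁻¹ ∈ T := mul_mem (hn b b.2.2) (inv_mem b.2.2)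
      calc s * ((a * b : X) : G) * s⁻¹ * ((a * b : X) : G)⁻¹
          = (s * a * s⁻¹) * (s * b * s⁻¹ * (b : G)⁻¹) * (a : G)⁻¹ := by
            rw [Subgroup.coe_mul]; group
        _ = (s * a * s⁻¹) * ((a : G)⁻¹ * (s * b * s⁻¹ * (b : G)⁻¹)) := by
            rw [mul_assoc, comm_of hT h1 (inv_mem a.2.2)]
        _ = _ := by group)
    have hR : d.range ≤ K ⊓ X := by
      rintro _ ⟨t, rfl⟩
      exact Subgroup.mem_inf.2 ⟨comm_mem_of_sq hsq hsU t.2.1, Subgroup.mem_inf.2 ⟨
        mul_mem (mul_mem (mul_mem hsU t.2.1) (inv_mem hsU)) (inv_mem t.2.1),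
        mul_mem ((mem_nor.1 (hU hsU)).2 t t.2.2) (inv_mem t.2.2)⟩⟩
    have hker : Nat.card d.ker ≤ 4 := le_trans
      (Nat.card_le_card_of_injective
        (fun x : d.ker => (⟨((x : X) : G), mem_fix.2 ⟨(x : X).2.2, by
          have h : s * ((x : X) : G) * s⁻¹ * ((x : X) : G)⁻¹ = 1 := x.2
          rwa [mul_inv_eq_one, mul_inv_eq_iff_eq_mul] at h⟩⟩ : fix T s))
        (fun a b h => Subtype.ext (Subtype.ext (congrArg (fun z : fix T s => (z : G)) h))))
      (card_fix_le hT hsS hsT)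
    have h1 : Nat.card d.ker * Nat.card d.range = Nat.card X := by
      rw [← Subgroup.index_ker, Subgroup.card_mul_index]
    have h2 := card_mul_relIndex (inf_le_right : K ⊓ X ≤ X)
    rw [Subgroup.inf_relIndex_right] at h2
    have h3 := Subgroup.card_le_of_le hR
    have h4 : 0 < Nat.card d.range := Nat.card_pos
    have h5 : Nat.card d.range * K.relIndex X ≤ Nat.card d.range * Nat.card d.ker := by
      rw [Nat.mul_comm (Nat.card d.range) (Nat.card d.ker), h1, ← h2]
      exact Nat.mul_le_mul_right _ h3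
    exact le_trans (Nat.le_of_mul_le_mul_left h5 h4) hker
  set L := K ⊔ X with hL
  have hLU : L ≤ U := sup_le hKU inf_le_left
  have hfL : K.relIndex L ≤ 4 := le_trans (relIndex_sup_le hKU hsq inf_le_left le_rfl) hfX
  have hUL : L.relIndex U ≤ 4 := by
    by_contra hcon
    have hHN : (U ⊔ T) ≤ nor S T := sup_le hU (le_nor hT)
    have h1 : T.relIndex U ≤ T.relIndex (U ⊔ T) :=
      Subgroup.relIndex_le_of_le_right le_sup_left (ri_ne _ _)
    have h2 := card_mul_relIndex (le_sup_right : T ≤ (U ⊔ T))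
    have h3 := Subgroup.card_le_of_le hHN
    have h4 := card_nor_le hS hT
    rw [hT.2.1] at h2
    have h5 : X.relIndex U = T.relIndex U := by rw [hX, inf_comm, Subgroup.inf_relIndex_right]
    have h6 := Subgroup.relIndex_mul_relIndex X L U le_sup_right hLU
    rw [h5] at h6
    obtain ⟨j, hj⟩ := two_pow_relIndex (H := L) hS (hU.trans inf_le_left)
    have hj3 : 3 ≤ j := by
      by_contra hj'
      exact hcon (by
        rw [hj]; exact le_trans (Nat.pow_le_pow_right two_pos (show j ≤ 2 by omega)) (by norm_num))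
    have h8 : 8 ≤ L.relIndex U := by
      rw [hj]; exact le_trans (by norm_num) (Nat.pow_le_pow_right two_pos hj3)
    have hpos : 0 < X.relIndex L :=
      Nat.pos_of_ne_zero (ri_ne _ _)
    have h9 : L.relIndex U ≤ X.relIndex L * L.relIndex U := Nat.le_mul_of_pos_left _ hpos
    have hXL : X.relIndex L = 1 := by nlinarith
    have hLX : L ≤ X := Subgroup.relIndex_eq_one.1 hXL
    rw [hXL, one_mul] at h6
    refine no_elem128 hT le_sup_right hHN ?_ (by omega)
    intro g hg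
    obtain ⟨x, hx, t, ht, rfl⟩ :=
      mem_sup_of_le_normalizer (fun h hh => (mem_nor.1 (hU hh)).2) hg
    have hxx : x * x ∈ T := (hLX (le_sup_left (a := K) (hsq x hx))).2
    have he : x * t * (x * t) = (x * x) * ((x⁻¹ * t * x) * t) := by group
    rw [he]
    have hx' := (mem_nor.1 (hU (inv_mem hx))).2 t ht
    rw [inv_inv] at hx'
    exact mul_mem hxx (mul_mem hx' ht)
  calc K.relIndex U ≤ K.relIndex L * L.relIndex U := relIndex_step hLU
    _ ≤ 4 * 4 := Nat.mul_le_mul hfL hUL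
    _ = 2 ^ 4 := by norm_num

/-- The data attached to a second good subgroup `T' ≤ N_S(T)` normal there. -/
structure Pair (S T T' : Subgroup G) : Prop where
  pgroup : IsPGroup 2 S
  good : Good S T
  good' : Good S T'
  le : T' ≤ nor S T
  normal : nor S T ≤ nor S T'
  ne : T' ≠ T

namespace Pair

variable {T' : Subgroup G} (P : Pair S T T')
include P

theorem exists_outside : ∃ a ∈ T', a ∉ T := by
  by_contra hcon
  push Not at hcon
  exact P.ne (Subgroup.eq_of_le_of_card_ge hcon (by rw [P.good.2.1, P.good'.2.1]))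

theorem decomp {m : G} (hm : m ∈ T ⊔ T') : ∃ t ∈ T, ∃ a ∈ T', m = t * a :=
  mem_sup_of_le_normalizer (fun t ht => (mem_nor.1 (P.normal (le_nor P.good ht))).2) hm

theorem le_nor_sup : T ⊔ T' ≤ nor S T := sup_le (le_nor P.good) P.le

theorem sq_mem {m : G} (hm : m ∈ T ⊔ T') : m * m ∈ T := by
  obtain ⟨t, ht, a, ha, rfl⟩ := P.decomp hm
  rw [show t * a * (t * a) = t * (a * t * a⁻¹) * (a * a) by group, P.good'.2.2.1 a ha, mul_one]
  exact mul_mem ht ((mem_nor.1 (P.le ha)).2 t ht)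

theorem card_facts : Nat.card (T ⊓ T' : Subgroup G) = 4 ∧ Nat.card (T ⊔ T' : Subgroup G) = 64 := by
  classical
  have hfib : 256 ≤ Nat.card (T ⊓ T' : Subgroup G) * Nat.card (T ⊔ T' : Subgroup G) := by
    have : Fintype G := Fintype.ofFinite G
    have h := Finset.card_le_mul_card_image_of_maps_to
      (f := fun p : T × T' => (p.1 : G) * p.2)
      (s := (Finset.univ : Finset (T × T'))) (t := ((T ⊔ T' : Subgroup G) : Set G).toFinset)
      (fun p _ => by simpa using Subgroup.mul_mem_sup p.1.2 p.2.2)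
      (Nat.card (T ⊓ T' : Subgroup G)) (fun m _ => by
        by_cases hne : ((Finset.univ : Finset (T × T')).filter
            fun p => (p.1 : G) * p.2 = m).Nonempty
        · obtain ⟨p0, hp0⟩ := hne
          simp only [Finset.mem_filter, Finset.mem_univ, true_and] at hp0
          rw [← Fintype.card_coe, ← Nat.card_eq_fintype_card]
          refine Nat.card_le_card_of_injective (fun p => (⟨(p0.1 : G)⁻¹ * p.1.1,
            Subgroup.mem_inf.2 ⟨mul_mem (inv_mem p0.1.2) p.1.1.2, ?_⟩⟩ : (T ⊓ T' : Subgroup G))) ?_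
          · have hp : (p.1.1 : G) * p.1.2 = m := (Finset.mem_filter.1 p.2).2
            have e : (p0.1 : G)⁻¹ * p.1.1 = (p0.2 : G) * (p.1.2 : G)⁻¹ := by
              rw [inv_mul_eq_iff_eq_mul, ← mul_assoc, hp0]
              exact eq_mul_inv_of_mul_eq hp
            rw [e]
            exact mul_mem p0.2.2 (inv_mem p.1.2.2)
          · intro p q h
            have h1 : (p.1.1 : G) = q.1.1 := mul_left_cancel (congrArg Subtype.val h)
            have hp : (p.1.1 : G) * p.1.2 = m := (Finset.mem_filter.1 p.2).2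
            have hq : (q.1.1 : G) * q.1.2 = m := (Finset.mem_filter.1 q.2).2
            have h2 : (p.1.2 : G) = q.1.2 := mul_left_cancel
              ((hp.trans hq.symm).trans (by rw [h1]) : (p.1.1 : G) * p.1.2 = p.1.1 * q.1.2)
            exact Subtype.ext (Prod.ext (Subtype.ext h1) (Subtype.ext h2))
        · simp [Finset.not_nonempty_iff_eq_empty.1 hne])
    rw [Finset.card_univ, ← Nat.card_eq_fintype_card, Nat.card_prod, P.good.2.1, P.good'.2.1,
      ← Set.ncard_eq_toFinset_card', ncard_coe] at h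
    simpa using h
  obtain ⟨a, ha, haT⟩ := P.exists_outside
  have h4 : Nat.card (T ⊓ T' : Subgroup G) ≤ 4 := le_trans
    (Subgroup.card_le_of_le (show T ⊓ T' ≤ fix T a from fun z hz =>
      mem_fix.2 ⟨hz.1, comm_of P.good' ha hz.2⟩))
    (card_fix_le P.good (mem_nor.1 (P.le ha)).1 haT)
  obtain ⟨j, hj⟩ : ∃ j, Nat.card (T ⊔ T' : Subgroup G) = 2 ^ j :=
    two_pow_card P.pgroup (sup_le P.good.1 P.good'.1)
  have h128 := le_trans (Subgroup.card_le_of_le P.le_nor_sup) (card_nor_le P.pgroup P.good)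
  have hne : Nat.card (T ⊔ T' : Subgroup G) ≠ 128 :=
    no_elem128 P.good le_sup_left P.le_nor_sup (fun m hm => P.sq_mem hm)
  have h64 : Nat.card (T ⊔ T' : Subgroup G) ≤ 64 := by
    rw [hj] at h128 hne ⊢
    have : j ≤ 6 := by
      by_contra hcon
      rcases (Nat.lt_or_ge j 8) with h | h
      · exact hne (by rw [show j = 7 by omega]; norm_num)
      · have := Nat.pow_le_pow_right two_pos h
        omega
    exact le_trans (Nat.pow_le_pow_right two_pos this) (by norm_num)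
  constructor <;> nlinarith

theorem fix_eq {a : G} (ha : a ∈ T') (haT : a ∉ T) : fix T a = T ⊓ T' := by
  have hle : T ⊓ T' ≤ fix T a := fun z hz => mem_fix.2 ⟨hz.1, comm_of P.good' ha hz.2⟩
  refine (Subgroup.eq_of_le_of_card_ge hle ?_).symm
  rw [P.card_facts.1]
  exact card_fix_le P.good (mem_nor.1 (P.le ha)).1 haT

theorem inK {m : G} (hm : m ∈ T ⊔ T') : InK S T (T ⊓ T') m := by
  obtain ⟨t, ht, a, ha, rfl⟩ := P.decomp hm
  refine ⟨P.le_nor_sup hm, fun z hz => ?_, fun x hx => ?_⟩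
  · calc t * a * z = t * (a * z) := mul_assoc _ _ _
      _ = t * z * a := by rw [comm_of P.good' ha hz.2, mul_assoc]
      _ = z * (t * a) := by rw [comm_of P.good ht hz.1, mul_assoc]
  · have hc : a * x * a⁻¹ * x⁻¹ ∈ T ⊓ T' := by
      by_cases haT : a ∈ T
      · rw [comm_of P.good haT hx, mul_inv_cancel_right, mul_inv_cancel]; exact one_mem _
      · rw [← P.fix_eq ha haT]
        exact (comm_facts P.good (P.le ha) haT (by rw [P.good'.2.2.1 a ha]; exact one_mem T)).2.1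
          x hx
    have e : t * a * x * (t * a)⁻¹ * x⁻¹ = a * x * a⁻¹ * x⁻¹ := by
      have hax : a * x * a⁻¹ ∈ T := (mem_nor.1 (P.le ha)).2 x hx
      calc t * a * x * (t * a)⁻¹ * x⁻¹ = t * (a * x * a⁻¹) * t⁻¹ * x⁻¹ := by group
        _ = _ := by rw [comm_of P.good ht hax, mul_inv_cancel_right]
    rw [e]
    exact hc

theorem sq_mem_inf {m : G} (hm : m ∈ T ⊔ T') : m * m ∈ T ⊓ T' := by
  obtain ⟨t, ht, a, ha, rfl⟩ := P.decomp hm
  have h := (P.inK (Subgroup.mem_sup_right ha)).2.2 t ht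
  rw [inv_of P.good' ha, inv_of P.good ht] at h
  have e : t * a * (t * a) = (a * t * a * t)⁻¹ := by
    rw [show (a * t * a * t)⁻¹ = t⁻¹ * a⁻¹ * (t⁻¹ * a⁻¹) by group, inv_of P.good' ha,
      inv_of P.good ht]
  rw [e]
  exact inv_mem h

theorem involution {m : G} (hm : m ∈ T ⊔ T') (h1 : m * m = 1) : m ∈ T ∨ m ∈ T' := by
  obtain ⟨t, ht, a, ha, rfl⟩ := P.decomp hm
  by_cases haT : a ∈ T
  · exact Or.inl (mul_mem ht haT)
  · right
    have hat : a * t = t * a := by
      calc a * t = t⁻¹ * (t * a * (t * a)) * a⁻¹ := by group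
        _ = t * a := by rw [h1, mul_one, inv_of P.good ht, inv_of P.good' ha]
    have : t ∈ T ⊓ T' := P.fix_eq ha haT ▸ mem_fix.2 ⟨ht, hat⟩
    exact mul_mem this.2 ha

theorem relIndex_nor : (T ⊔ T').relIndex (nor S T) ≤ 2 := by
  have h := card_mul_relIndex P.le_nor_sup
  have h128 := card_nor_le P.pgroup P.good
  rw [P.card_facts.2] at h
  omega

theorem eq_or_eq {R : Subgroup G} (hR : R ≤ nor S T) (h16 : Nat.card R = 16)
    (hsq : ∀ r ∈ R, r * r = 1) : R = T ∨ R = T' := by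
  have hc : ∀ a ∈ R, ∀ b ∈ R, a * b = b * a := fun a ha b hb => by
    have e : ∀ x ∈ R, x⁻¹ = x := fun x hx => inv_eq_of_mul_eq_one_right (hsq x hx)
    calc a * b = (a * b)⁻¹ := (e _ (mul_mem ha hb)).symm
      _ = b * a := by rw [mul_inv_rev, e a ha, e b hb]
  set X := R ⊓ (T ⊔ T') with hX
  have h8 : 8 ≤ Nat.card X := by
    have h1 : X.relIndex R ≤ 2 := by
      rw [hX, inf_comm, Subgroup.inf_relIndex_right]
      exact le_trans (Subgroup.relIndex_le_of_le_right hR
        (ri_ne _ _)) P.relIndex_nor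
    have h2 := card_mul_relIndex (inf_le_left : X ≤ R)
    rw [h16] at h2
    nlinarith
  have hXu : X ≤ T ∨ X ≤ T' := by
    by_contra hcon
    push Not at hcon
    obtain ⟨a, ha, haT⟩ := Set.not_subset.1 hcon.1
    obtain ⟨b, hb, hbT⟩ := Set.not_subset.1 hcon.2
    have haT' := (P.involution ha.2 (hsq a ha.1)).resolve_left haT
    have hbT0 := (P.involution hb.2 (hsq b hb.1)).resolve_right hbT
    rcases P.involution (mul_mem ha.2 hb.2) (hsq _ (mul_mem ha.1 hb.1)) with h | h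
    · exact haT ((Subgroup.mul_mem_cancel_right T hbT0).1 h)
    · exact hbT ((Subgroup.mul_mem_cancel_left T' haT').1 h)
  rcases hXu with hXT | hXT
  · left
    refine Subgroup.eq_of_le_of_card_ge (fun r hr => ?_) (by rw [P.good.2.1, h16])
    by_contra hrT
    have := le_trans (Subgroup.card_le_of_le (show X ≤ fix T r from fun x hx =>
      mem_fix.2 ⟨hXT hx, hc r hr x hx.1⟩)) (card_fix_le P.good (mem_nor.1 (hR hr)).1 hrT)
    omega
  · right
    refine Subgroup.eq_of_le_of_card_ge (fun r hr => ?_) (by rw [P.good'.2.1, h16])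
    by_contra hrT
    have := le_trans (Subgroup.card_le_of_le (show X ≤ fix T' r from fun x hx =>
      mem_fix.2 ⟨hXT hx, hc r hr x hx.1⟩)) (card_fix_le P.good' (mem_nor.1 (hR hr)).1 hrT)
    omega

theorem inK_imp_mem {n : G} (hn : InK S T (T ⊓ T') n) : n ∈ T ⊔ T' := by
  by_contra hnot
  have h := inK_ncard P.good P.card_facts.1.le (insert n ((T ⊔ T' : Subgroup G) : Set G))
    (by rintro s (rfl | hs); exacts [hn, P.inK hs])
  rw [Set.ncard_insert_of_notMem hnot, ncard_coe, P.card_facts.2] at h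
  omega

theorem exists_moved {n : G} (hn : n ∈ nor S T) (hnM : n ∉ T ⊔ T') :
    ∃ c ∈ T, n * c * n⁻¹ * c⁻¹ ∉ T ⊓ T' := by
  by_contra hcon
  push Not at hcon
  obtain ⟨hnS, hnT⟩ := mem_nor.1 hn
  have hnT' := (mem_nor.1 (P.normal hn)).2
  have hne : ∃ z ∈ T ⊓ T', n * z * n⁻¹ ≠ z := by
    by_contra hc2
    push Not at hc2
    exact hnM (P.inK_imp_mem ⟨hn, fun z hz => mul_inv_eq_iff_eq_mul.1 (hc2 z hz), hcon⟩)
  obtain ⟨z2, hz2, hz2n⟩ := hne
  obtain ⟨a0, ha0, ha0T⟩ := P.exists_outside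
  obtain ⟨-, -, hsurj⟩ := comm_facts P.good (P.le ha0) ha0T
    (by rw [P.good'.2.2.1 a0 ha0]; exact one_mem T)
  rw [P.fix_eq ha0 ha0T] at hsurj
  have hconjZ : ∀ z ∈ T ⊓ T', n * z * n⁻¹ ∈ T ⊓ T' := fun z hz =>
    ⟨hnT z hz.1, hnT' z hz.2⟩
  have hn2 : n * n ∈ T ⊔ T' := by
    have hi : ((T ⊔ T').subgroupOf (nor S T)).index = 2 := by
      have h1 := P.relIndex_nor
      have h2 : (T ⊔ T').relIndex (nor S T) ≠ 1 := fun h =>
        hnM (Subgroup.relIndex_eq_one.1 h hn)
      have h3 : (T ⊔ T').relIndex (nor S T) ≠ 0 := (ri_ne _ _)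
      show (T ⊔ T').relIndex (nor S T) = 2
      omega
    exact Subgroup.mem_subgroupOf.1 (Subgroup.mul_self_mem_of_index_two hi ⟨n, hn⟩)
  set e' := n * a0 * n⁻¹ with he'
  have he'T : e' ∈ T' := hnT' a0 ha0
  set e := e' * a0 with he
  have heT : e ∈ T' := mul_mem he'T ha0
  have key : ∀ t ∈ T, e * t * e⁻¹ * t⁻¹
      = (a0 * t * a0⁻¹ * t⁻¹) * (n * (a0 * t * a0⁻¹ * t⁻¹) * n⁻¹) := by
    intro t ht
    have hx : a0 * t * a0⁻¹ * t⁻¹ ∈ T ⊓ T' := (P.inK (Subgroup.mem_sup_right ha0)).2.2 t ht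
    have hn' : n⁻¹ ∈ nor S T := inv_mem hn
    have ht' : n⁻¹ * t * n ∈ T := by
      have := (mem_nor.1 hn').2 t ht
      rwa [inv_inv] at this
    obtain ⟨z, hz, hzt⟩ : ∃ z ∈ T ⊓ T', n⁻¹ * t * n = z * t := by
      refine ⟨(n * (n⁻¹ * t * n) * n⁻¹ * (n⁻¹ * t * n)⁻¹)⁻¹, inv_mem (hcon _ ht'), ?_⟩
      group
    have he't : e' * t * e'⁻¹ * t⁻¹ = n * (a0 * t * a0⁻¹ * t⁻¹) * n⁻¹ := by
      have haz : a0 * z = z * a0 := comm_of P.good' ha0 hz.2
      have h1 : a0 * (z * t) * a0⁻¹ * (z * t)⁻¹ = a0 * t * a0⁻¹ * t⁻¹ := by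
        calc a0 * (z * t) * a0⁻¹ * (z * t)⁻¹ = (a0 * z) * (t * a0⁻¹ * t⁻¹) * z⁻¹ := by group
          _ = z * (a0 * t * a0⁻¹ * t⁻¹) * z⁻¹ := by rw [haz]; group
          _ = _ := by rw [comm_of P.good hz.1 hx.1, mul_inv_cancel_right]
      rw [← h1, ← hzt, he']
      group
    calc e * t * e⁻¹ * t⁻¹
        = e' * (a0 * t * a0⁻¹ * t⁻¹) * e'⁻¹ * (e' * t * e'⁻¹ * t⁻¹) := by rw [he]; group
      _ = _ := by rw [comm_of P.good' he'T hx.2, mul_inv_cancel_right, he't]
  set z1 := z2 * (n * z2 * n⁻¹) with hz1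
  have hz2' := hconjZ z2 hz2
  have hz1mem : z1 ∈ T ⊓ T' := mul_mem hz2 hz2'
  have hz11 : z1 ≠ 1 := fun h => hz2n (by
    have h' : z2 * (n * z2 * n⁻¹) = 1 := h
    rw [eq_inv_of_mul_eq_one_right h', inv_of P.good hz2.1])
  have hz1n : n * z1 * n⁻¹ = z1 := by
    have hh : n * n * z2 = z2 * (n * n) := (P.inK hn2).2.1 z2 hz2
    calc n * z1 * n⁻¹ = (n * z2 * n⁻¹) * ((n * n * z2) * (n * n)⁻¹) := by rw [hz1]; group
      _ = (n * z2 * n⁻¹) * z2 := by rw [hh, mul_inv_cancel_right]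
      _ = z1 := comm_of P.good hz2'.1 hz2.1
  obtain ⟨t1, ht1, ht1z⟩ := hsurj z1 hz1mem
  have hfixe : e * t1 = t1 * e := by
    have := key t1 ht1
    rw [ht1z, hz1n, P.good.2.2.1 z1 hz1mem.1] at this
    rwa [mul_inv_eq_one, mul_inv_eq_iff_eq_mul] at this
  have heTT : e ∈ T := by
    by_contra hnot
    have : t1 ∈ T ⊓ T' := P.fix_eq heT hnot ▸ mem_fix.2 ⟨ht1, hfixe⟩
    apply hz11
    rw [← ht1z, comm_of P.good' ha0 this.2, mul_inv_cancel_right, mul_inv_cancel]
  obtain ⟨t2, ht2, ht2z⟩ := hsurj z2 hz2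
  have := key t2 ht2
  rw [comm_of P.good heTT ht2, mul_inv_cancel_right, mul_inv_cancel, ht2z] at this
  apply hz2n
  rw [eq_inv_of_mul_eq_one_right this.symm, inv_of P.good hz2.1]

theorem swap_nor {s : G} (hs : s ∈ S) (hsN : ∀ x ∈ nor S T, s * x * s⁻¹ ∈ nor S T)
    (hnot : s ∉ nor S T) :
    T.map (MulAut.conj s).toMonoidHom = T' ∧ T'.map (MulAut.conj s).toMonoidHom = T := by
  have himg : ∀ R : Subgroup G, R ≤ nor S T → Nat.card R = 16 → (∀ r ∈ R, r * r = 1) →
      R.map (MulAut.conj s).toMonoidHom = T ∨ R.map (MulAut.conj s).toMonoidHom = T' := by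
    intro R hR h16 hsq
    refine P.eq_or_eq ?_ (by rwa [Subgroup.card_map_of_injective (MulAut.conj s).injective]) ?_
    · rintro _ ⟨r, hr, rfl⟩; exact hsN r (hR hr)
    · rintro _ ⟨r, hr, rfl⟩; rw [← map_mul, hsq r hr, map_one]
  have h1 := (himg T (le_nor P.good) P.good.2.1 P.good.2.2.1).resolve_left fun h =>
    hnot (mem_nor.2 ⟨hs, fun t ht => by
      have : (MulAut.conj s) t ∈ T.map (MulAut.conj s).toMonoidHom := ⟨t, ht, rfl⟩
      rw [h] at this; exact this⟩)
  refine ⟨h1, (himg T' P.le P.good'.2.1 P.good'.2.2.1).resolve_right fun h => P.ne ?_⟩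
  exact (Subgroup.map_injective (MulAut.conj s).injective (h.trans h1.symm))

theorem structure_top :
    ∀ s ∈ S, ∀ x ∈ nor S T, s * x * s⁻¹ ∈ nor S T := by
  intro s hs
  have hWS : nor S (nor S T) ≤ S := inf_le_left
  have hWeq : nor S (nor S T) = S := by
    by_contra hne
    obtain ⟨h, hh, hhW, hhn⟩ := exists_normalizing P.pgroup hWS hne
    have hN : nor S T ≤ nor S (nor S T) := fun x hx =>
      mem_nor.2 ⟨(mem_nor.1 hx).1, fun y hy => mul_mem (mul_mem hx hy) (inv_mem hx)⟩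
    set R := T.map (MulAut.conj h).toMonoidHom with hR
    have hRg : Good S R := good_conj P.good hh
    have hRW : R ≤ nor S (nor S T) := by
      rintro _ ⟨t, ht, rfl⟩; exact hhn t (hN (le_nor P.good ht))
    have hRN : R ≤ nor S T := by
      intro a ha
      by_contra haN
      obtain ⟨haS, haNN⟩ := mem_nor.1 (hRW ha)
      obtain ⟨e1, e2⟩ := P.swap_nor haS haNN haN
      have hX : R ⊓ (T ⊔ T') ≤ T ⊓ T' := by
        intro x hx
        have hax : a * x * a⁻¹ = x := by rw [comm_of hRg ha hx.1, mul_inv_cancel_right]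
        rcases P.involution hx.2 (hRg.2.2.1 x hx.1) with h' | h'
        · exact ⟨h', e1 ▸ ⟨x, h', hax⟩⟩
        · exact ⟨e2 ▸ ⟨x, h', hax⟩, h'⟩
      set A := R ⊓ nor S T with hA
      have hAidx : A.relIndex R ≤ 2 := by
        have hcard : (R : Set G).ncard ≤ (((A : Set G)) ∪ (a * ·) '' (A : Set G)).ncard := by
          refine Set.ncard_le_ncard fun r hr => ?_
          by_cases hrN : r ∈ nor S T
          · exact Or.inl ⟨hr, hrN⟩
          · obtain ⟨hrS, hrNN⟩ := mem_nor.1 (hRW hr)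
            obtain ⟨f1, f2⟩ := P.swap_nor hrS hrNN hrN
            refine Or.inr ⟨a⁻¹ * r, Subgroup.mem_inf.2 ⟨mul_mem (inv_mem ha) hr,
              mem_nor.2 ⟨mul_mem (inv_mem haS) hrS, fun t ht => ?_⟩⟩, by group⟩
            have h1 : r * t * r⁻¹ ∈ T' := f1 ▸ ⟨t, ht, rfl⟩
            rw [← e1] at h1
            obtain ⟨t', ht', htt⟩ := h1
            simp only [MulEquiv.coe_toMonoidHom, MulAut.conj_apply] at htt
            rw [show a⁻¹ * r * t * (a⁻¹ * r)⁻¹ = a⁻¹ * (r * t * r⁻¹) * a by group, ← htt]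
            simpa [mul_assoc] using ht'
        have h2 := le_trans hcard (Set.ncard_union_le _ _)
        have h3 : ((a * ·) '' (A : Set G)).ncard ≤ (A : Set G).ncard := Set.ncard_image_le
        simp only [ncard_coe] at h2 h3
        have h4 : Nat.card A * A.relIndex R = Nat.card R :=
          card_mul_relIndex (inf_le_left : A ≤ R)
        have h2' : Nat.card R ≤ Nat.card A + Nat.card A :=
          le_trans h2 (Nat.add_le_add_left h3 _)
        have h5 : 0 < Nat.card A := Nat.card_pos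
        by_contra hgt
        have h6 : 3 * Nat.card A ≤ Nat.card A * A.relIndex R := by
          rw [Nat.mul_comm]; exact Nat.mul_le_mul_left _ (by omega)
        omega
      have hA2 : (R ⊓ (T ⊔ T')).relIndex A ≤ 2 := by
        rw [← Subgroup.inf_relIndex_right]
        have : R ⊓ (T ⊔ T') ⊓ A = (T ⊔ T') ⊓ A := by
          rw [hA]; ext x; simp only [Subgroup.mem_inf]; tauto
        rw [this, Subgroup.inf_relIndex_right]
        exact le_trans (Subgroup.relIndex_le_of_le_right inf_le_right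
          (ri_ne _ _)) P.relIndex_nor
      have hsub : R ⊓ (T ⊔ T') ≤ A := fun x hx => ⟨hx.1, P.le_nor_sup hx.2⟩
      have c1 := card_mul_relIndex (inf_le_left : A ≤ R)
      have c2 := card_mul_relIndex hsub
      have c3 := Subgroup.card_le_of_le hX
      rw [P.card_facts.1] at c3
      rw [hRg.2.1] at c1
      have hA8 : 8 ≤ Nat.card A := by nlinarith
      have hX4 : Nat.card (R ⊓ (T ⊔ T') : Subgroup G) = 4 := by nlinarith
      have hXZ : R ⊓ (T ⊔ T') = T ⊓ T' :=
        Subgroup.eq_of_le_of_card_ge hX (by rw [P.card_facts.1]; omega)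
      obtain ⟨n, hn, hnM⟩ : ∃ n ∈ A, n ∉ T ⊔ T' := by
        by_contra hcon
        push Not at hcon
        have := Subgroup.card_le_of_le (show A ≤ R ⊓ (T ⊔ T') from fun x hx => ⟨hx.1, hcon x hx⟩)
        omega
      have hnR : n ∈ R := hn.1
      have hnT : n ∉ T := fun h => hnM (Subgroup.mem_sup_left h)
      have hnn : n * n ∈ T := by rw [hRg.2.2.1 n hnR]; exact one_mem T
      have hZf : T ⊓ T' ≤ fix T n := fun z hz => mem_fix.2 ⟨hz.1,
        comm_of hRg hnR (hXZ.symm.le hz).1⟩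
      have heq : T ⊓ T' = fix T n := Subgroup.eq_of_le_of_card_ge hZf (by
        rw [P.card_facts.1]; exact card_fix_le P.good (mem_nor.1 hn.2).1 hnT)
      refine hnM (P.inK_imp_mem ⟨hn.2, fun z hz => (mem_fix.1 (hZf hz)).2, fun t ht => ?_⟩)
      rw [heq]
      exact (comm_facts P.good hn.2 hnT hnn).2.1 t ht
    apply hhW
    refine mem_nor.2 ⟨hh, fun x hx => ?_⟩
    -- h normalises the set {T, T'} hence N
    have hT'h : T'.map (MulAut.conj h).toMonoidHom ≤ nor S (nor S T) := by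
      rintro _ ⟨t, ht, rfl⟩; exact hhn t (hN (P.le ht))
    rcases P.eq_or_eq hRN (by rw [hR, Subgroup.card_map_of_injective (MulAut.conj h).injective,
      P.good.2.1]) hRg.2.2.1 with h' | h'
    · -- h normalises T
      have hhT : h ∈ nor S T := mem_nor.2 ⟨hh, fun t ht => h' ▸ ⟨t, ht, rfl⟩⟩
      exact mul_mem (mul_mem hhT hx) (inv_mem hhT)
    · -- `h x h⁻¹` normalises `T' = R`, and `nor S T' = nor S T`
      have hle : (nor S T').map (MulAut.conj h⁻¹).toMonoidHom ≤ nor S T := by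
        rintro _ ⟨y, hy, rfl⟩
        obtain ⟨hyS, hyn⟩ := mem_nor.1 hy
        refine mem_nor.2 ⟨mul_mem (mul_mem (inv_mem hh) hyS) (by simpa using hh), fun t ht => ?_⟩
        have h1 : h * t * h⁻¹ ∈ T' := h' ▸ ⟨t, ht, rfl⟩
        have h2 := hyn _ h1
        rw [← h'] at h2
        obtain ⟨t', ht', htt⟩ := h2
        simp only [MulEquiv.coe_toMonoidHom, MulAut.conj_apply] at htt ⊢
        have e : h⁻¹ * y * h⁻¹⁻¹ * t * (h⁻¹ * y * h⁻¹⁻¹)⁻¹
            = h⁻¹ * (y * (h * t * h⁻¹) * y⁻¹) * h := by group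
        rw [e, ← htt, show h⁻¹ * (h * t' * h⁻¹) * h = t' by group]
        exact ht'
      have heq : nor S T = nor S T' := Subgroup.eq_of_le_of_card_ge P.normal (by
        have := Subgroup.card_le_of_le hle
        rwa [Subgroup.card_map_of_injective (MulAut.conj h⁻¹).injective] at this)
      rw [heq]
      obtain ⟨hxS, hxn⟩ := mem_nor.1 hx
      refine mem_nor.2 ⟨mul_mem (mul_mem hh hxS) (inv_mem hh), fun t ht => ?_⟩
      rw [← h'] at ht ⊢
      obtain ⟨t', ht', rfl⟩ := ht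
      refine ⟨x * t' * x⁻¹, hxn t' ht', ?_⟩
      simp only [MulEquiv.coe_toMonoidHom, MulAut.conj_apply]
      group
  intro x hx
  rw [← hWeq] at hs
  exact (mem_nor.1 hs).2 x hx

end Pair

end Cfsg.Agent.SectionalFourGroup
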