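import Mathlib
import Cfsg.Agent.Lib.SectionalFourGroupBound

/-!
2-groups with a good subgroup (see `SectionalFourGroup`): all subgroups satisfy `FrattiniLE 4`.
-/

set_option autoImplicit false

namespace Cfsg.Agent.SectionalFourGroup

variable {G : Type*} [Group G] [Finite G] {S T : Subgroup G}

theorem two_mul_relIndex_le {K X : Subgroup G} {z : G} (hzK : z ∈ K) (hzX : z ∈ X) (hz : z ≠ 1) :
    2 * K.relIndex X ≤ Nat.card X := by
  have h1 : Nat.card (K ⊓ X : Subgroup G) * K.relIndex X = Nat.card X := by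
    rw [← Subgroup.inf_relIndex_right, card_mul_relIndex inf_le_right]
  have h2 : 1 < Nat.card (K ⊓ X : Subgroup G) :=
    (Subgroup.one_lt_card_iff_ne_bot _).2 fun h =>
      hz ((Subgroup.eq_bot_iff_forall _).1 h z ⟨hzK, hzX⟩)
  rw [← h1]
  exact Nat.mul_le_mul_right _ h2

/-- A subgroup of `S` not contained in `N_S(T)`. -/
theorem Pair.bound_outside {T' : Subgroup G} (P : Pair S T T') {U : Subgroup G} (hU : U ≤ S)
    (hUN : ¬ U ≤ nor S T) : FrattiniLE 4 U := by
  classical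
  intro K hKU hsq
  obtain ⟨u, hu, huN⟩ := Set.not_subset.1 hUN
  obtain ⟨e1, e2⟩ := P.swap_nor (hU hu) (P.structure_top u (hU hu)) huN
  have c1 : ∀ t ∈ T, u * t * u⁻¹ ∈ T' := fun t ht => e1 ▸ ⟨t, ht, rfl⟩
  have c2 : ∀ a ∈ T', u * a * u⁻¹ ∈ T := fun a ha => e2 ▸ ⟨a, ha, rfl⟩
  have d1 : ∀ a ∈ T', u⁻¹ * a * u ∈ T := fun a ha => by
    rw [← e1] at ha
    obtain ⟨t, ht, rfl⟩ := ha
    simp only [MulEquiv.coe_toMonoidHom, MulAut.conj_apply]
    simpa [mul_assoc] using ht
  have d2 : ∀ t ∈ T, u⁻¹ * t * u ∈ T' := fun t ht => by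
    rw [← e2] at ht
    obtain ⟨a, ha, rfl⟩ := ht
    simp only [MulEquiv.coe_toMonoidHom, MulAut.conj_apply]
    simpa [mul_assoc] using ha
  set UN := U ⊓ nor S T with hUNdef
  have hUNidx : UN.relIndex U ≤ 2 := by
    have hsub : (U : Set G) ⊆ (UN : Set G) ∪ (u * ·) '' (UN : Set G) := by
      intro r hr
      by_cases hrN : r ∈ nor S T
      · exact Or.inl ⟨hr, hrN⟩
      obtain ⟨f1, -⟩ := P.swap_nor (hU hr) (P.structure_top r (hU hr)) hrN
      refine Or.inr ⟨u⁻¹ * r, Subgroup.mem_inf.2 ⟨mul_mem (inv_mem hu) hr,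
        mem_nor.2 ⟨mul_mem (inv_mem (hU hu)) (hU hr), fun t ht => ?_⟩⟩, by group⟩
      have h1 : r * t * r⁻¹ ∈ T' := f1 ▸ ⟨t, ht, rfl⟩
      have h2 := d1 _ h1
      rwa [show u⁻¹ * r * t * (u⁻¹ * r)⁻¹ = u⁻¹ * (r * t * r⁻¹) * u by group]
    have h2 := le_trans (Set.ncard_le_ncard hsub) (Set.ncard_union_le _ _)
    have h3 : ((u * ·) '' (UN : Set G)).ncard ≤ (UN : Set G).ncard := Set.ncard_image_le
    simp only [ncard_coe] at h2 h3
    have h4 : Nat.card UN * UN.relIndex U = Nat.card U := card_mul_relIndex inf_le_left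
    have h5 : Nat.card U ≤ Nat.card UN + Nat.card UN := le_trans h2 (Nat.add_le_add_left h3 _)
    by_contra hgt
    have h6 : 3 * Nat.card UN ≤ Nat.card UN * UN.relIndex U := by
      rw [Nat.mul_comm]; exact Nat.mul_le_mul_left _ (by omega)
    have h7 : 0 < Nat.card UN := Nat.card_pos
    omega
  set M := T ⊔ T' with hM
  set UM := U ⊓ M with hUMdef
  set X := U ⊓ T with hX
  set Y := U ⊓ T' with hY
  set Z0 := U ⊓ (T ⊓ T') with hZ0
  have hMN : M ≤ nor S T := P.le_nor_sup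
  have hXUM : X ≤ UM := inf_le_inf_left U le_sup_left
  have hYUM : Y ≤ UM := inf_le_inf_left U le_sup_right
  have hUMUN : UM ≤ UN := inf_le_inf_left U hMN
  have hconjK : ∀ x ∈ U, ∀ y ∈ U, x * y * x⁻¹ * y⁻¹ ∈ K := fun x hx y hy =>
    comm_mem_of_sq hsq hx hy
  -- the bound by `f(Z0) * p`
  have hkey : K.relIndex UM ≤ K.relIndex Z0 * Y.relIndex UM := by
    have hYJ : Y ≤ K ⊔ X := by
      intro v hv
      set w := u⁻¹ * v * u with hw
      have hwU : w ∈ U := mul_mem (mul_mem (inv_mem hu) hv.1) hu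
      have hwX : w ∈ X := ⟨hwU, d1 v hv.2⟩
      rw [show v = (u * w * u⁻¹ * w⁻¹) * w by rw [hw]; group]
      exact Subgroup.mul_mem_sup (hconjK u hu w hwU) hwX
    have h1 : K.relIndex (X ⊔ Y) ≤ K.relIndex X :=
      relIndex_sup_le hKU hsq inf_le_left (sup_le le_sup_right hYJ)
    have h2 : K.relIndex X ≤ K.relIndex Z0 * Z0.relIndex X :=
      relIndex_step (inf_le_inf_left U inf_le_left)
    have h3 : Z0.relIndex X ≤ Y.relIndex (X ⊔ Y) := by
      have e : Y ⊓ X = Z0 := by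
        rw [hX, hY, hZ0]; ext x; simp only [Subgroup.mem_inf]; tauto
      rw [← e, Subgroup.inf_relIndex_right]
      exact Subgroup.relIndex_le_of_le_right le_sup_left (ri_ne _ _)
    have h4 := Subgroup.relIndex_mul_relIndex Y (X ⊔ Y) UM le_sup_right (sup_le hXUM hYUM)
    calc K.relIndex UM ≤ K.relIndex (X ⊔ Y) * (X ⊔ Y).relIndex UM :=
          relIndex_step (sup_le hXUM hYUM)
      _ ≤ (K.relIndex Z0 * Y.relIndex (X ⊔ Y)) * (X ⊔ Y).relIndex UM :=
          Nat.mul_le_mul_right _ (le_trans h1 (le_trans h2 (Nat.mul_le_mul_left _ h3)))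
      _ = K.relIndex Z0 * Y.relIndex UM := by rw [Nat.mul_assoc, h4]
  have hpT : Y.relIndex UM = T'.relIndex UM := by
    rw [← Subgroup.inf_relIndex_right T' UM]
    congr 1
    rw [hY, hUMdef]
    ext x
    simp only [Subgroup.mem_inf]
    exact ⟨fun h => ⟨h.2, h.1, Subgroup.mem_sup_right h.2⟩, fun h => ⟨h.2.1, h.1⟩⟩
  have hTM : T'.relIndex M = 4 := by
    have h := card_mul_relIndex (le_sup_right : T' ≤ T ⊔ T')
    rw [P.good'.2.1, P.card_facts.2] at h
    show T'.relIndex (T ⊔ T') = 4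
    omega
  have hp4 : Y.relIndex UM ≤ 4 := by
    rw [hpT, ← hTM]
    exact Subgroup.relIndex_le_of_le_right inf_le_right (ri_ne _ _)
  have hZ04 : Nat.card Z0 ≤ 4 := by
    rw [← P.card_facts.1]; exact Subgroup.card_le_of_le inf_le_right
  have hfZ4 : K.relIndex Z0 ≤ 4 := le_trans relIndex_le_card hZ04
  have hfZ2 : 2 ≤ Y.relIndex UM → K.relIndex Z0 ≤ 2 := by
    intro hp
    obtain ⟨m, hm, hmT'⟩ : ∃ m ∈ UM, m ∉ T' := by
      by_contra hcon
      push Not at hcon
      have : T'.relIndex UM = 1 := Subgroup.relIndex_eq_one.2 hcon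
      omega
    obtain ⟨z, hzK, hzZ, hz1⟩ : ∃ z, z ∈ K ∧ z ∈ Z0 ∧ z ≠ 1 := by
      by_cases hmT : m ∈ T
      · have hm' : u * m * u⁻¹ ∈ T' := c1 m hmT
        have hm'U : u * m * u⁻¹ ∈ U := mul_mem (mul_mem hu hm.1) (inv_mem hu)
        have hm'T : u * m * u⁻¹ ∉ T := fun h => hmT' (by
          have := d2 _ h
          rwa [show u⁻¹ * (u * m * u⁻¹) * u = m by group] at this)
        refine ⟨_, hconjK _ hm'U _ hm.1, Subgroup.mem_inf.2 ⟨hKU (hconjK _ hm'U _ hm.1),
          (P.inK (Subgroup.mem_sup_right hm')).2.2 m hmT⟩, fun h => hmT' ?_⟩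
        rw [mul_inv_eq_one, mul_inv_eq_iff_eq_mul] at h
        have : m ∈ T ⊓ T' := P.fix_eq hm' hm'T ▸ mem_fix.2 ⟨hmT, h⟩
        exact this.2
      · refine ⟨m * m, hsq m hm.1, Subgroup.mem_inf.2 ⟨mul_mem hm.1 hm.1, P.sq_mem_inf hm.2⟩,
          fun h => ?_⟩
        exact (P.involution hm.2 h).elim hmT hmT'
    have := two_mul_relIndex_le hzK hzZ hz1
    omega
  have hM8 : K.relIndex UM ≤ 8 := by
    by_cases hp : 2 ≤ Y.relIndex UM
    · exact le_trans hkey (le_trans (Nat.mul_le_mul (hfZ2 hp) hp4) (by norm_num))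
    · exact le_trans hkey (le_trans (Nat.mul_le_mul hfZ4 (show Y.relIndex UM ≤ 1 by omega))
        (by norm_num))
  have hM4 : (∃ n ∈ UN, n ∉ M) → K.relIndex UM ≤ 4 := by
    rintro ⟨n, hn, hnM⟩
    rcases Nat.lt_or_ge (Y.relIndex UM) 3 with hp | hp
    · rcases Nat.lt_or_ge (Y.relIndex UM) 2 with hp1 | hp1
      · exact le_trans hkey (le_trans (Nat.mul_le_mul hfZ4 (show Y.relIndex UM ≤ 1 by omega))
          (by norm_num))
      · exact le_trans hkey (le_trans (Nat.mul_le_mul (hfZ2 hp1) (show Y.relIndex UM ≤ 2 by omega))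
          (by norm_num))
    have hUMnor : ∀ x ∈ UM, ∀ a ∈ T', x * a * x⁻¹ ∈ T' := fun x hx =>
      (mem_nor.1 (P.normal (hMN hx.2))).2
    have hfull : ∀ c ∈ T, ∃ m ∈ UM, ∃ a ∈ T', c = m * a := by
      have hsup : UM ⊔ T' = M := by
        refine Subgroup.eq_of_le_of_card_ge (sup_le inf_le_right le_sup_right) ?_
        have h1 := card_mul_relIndex (le_sup_right : T' ≤ UM ⊔ T')
        rw [P.good'.2.1] at h1
        have h2 : 3 ≤ T'.relIndex (UM ⊔ T') := le_trans (by omega)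
          (Subgroup.relIndex_le_of_le_right le_sup_left (ri_ne _ _))
        have h3 : Nat.card (UM ⊔ T' : Subgroup G) ∣ 64 := by
          rw [← P.card_facts.2]
          exact Subgroup.card_dvd_of_le (sup_le inf_le_right le_sup_right)
        have h4 : Nat.card M = 64 := P.card_facts.2
        obtain ⟨j, hj, hj'⟩ :=
          (Nat.dvd_prime_pow Nat.prime_two).1 (show _ ∣ 2 ^ 6 from h3)
        rw [h4, hj']
        have : 6 ≤ j := by
          by_contra hcon
          have := Nat.pow_le_pow_right two_pos (show j ≤ 5 by omega)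
          omega
        exact Nat.pow_le_pow_right two_pos this
      intro c hc
      exact mem_sup_of_le_normalizer hUMnor (hsup ▸ Subgroup.mem_sup_left hc)
    by_cases hXT : X ≤ T'
    · -- X = Y = Z0
      have hYT : Y ≤ T := fun v hv => by
        have h1 : u⁻¹ * v * u ∈ X :=
          Subgroup.mem_inf.2 ⟨mul_mem (mul_mem (inv_mem hu) hv.1) hu, d1 v hv.2⟩
        have h2 := c2 _ (hXT h1)
        rwa [show u * (u⁻¹ * v * u) * u⁻¹ = v by group] at h2
      have hYZ : Y = Z0 := le_antisymm (fun v hv => ⟨hv.1, hYT hv, hv.2⟩)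
        (inf_le_inf_left U inf_le_right)
      obtain ⟨hnS, hnT⟩ := mem_nor.1 hn.2
      obtain ⟨c, hc, hbad⟩ := P.exists_moved hn.2 hnM
      obtain ⟨m, hm, a, ha, hcm⟩ := hfull c hc
      set k := n * m * n⁻¹ * m⁻¹ with hk
      have hkK : k ∈ K := hconjK n hn.1 m hm.1
      have hkUM : k ∈ UM := by
        refine Subgroup.mem_inf.2 ⟨hKU hkK, mul_mem ?_ (inv_mem hm.2)⟩
        obtain ⟨t, ht, a', ha', rfl⟩ := P.decomp hm.2
        rw [show n * (t * a') * n⁻¹ = (n * t * n⁻¹) * (n * a' * n⁻¹) by group]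
        exact Subgroup.mul_mem_sup (hnT t ht) ((mem_nor.1 (P.normal hn.2)).2 a' ha')
      have hkT' : k ∉ T' := fun hkT => hbad <| by
        refine Subgroup.mem_inf.2 ⟨mul_mem (hnT c hc) (inv_mem hc), ?_⟩
        have h1 : n * c * n⁻¹ * c⁻¹ = k * (m * (n * a * n⁻¹ * a⁻¹) * m⁻¹) := by
          rw [hk, hcm]; group
        rw [h1]
        exact mul_mem hkT (hUMnor m hm _
          (mul_mem ((mem_nor.1 (P.normal hn.2)).2 a ha) (inv_mem ha)))
      set J := Z0 ⊔ Subgroup.zpowers k with hJ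
      have hJUM : J ≤ UM :=
        sup_le (hYZ ▸ hYUM) (Subgroup.zpowers_le.2 hkUM)
      have h1 : K.relIndex J ≤ K.relIndex Z0 := relIndex_sup_le hKU hsq inf_le_left
        (sup_le le_sup_right (Subgroup.zpowers_le.2 (Subgroup.mem_sup_left hkK)))
      have h2 := Subgroup.relIndex_mul_relIndex Z0 J UM le_sup_left hJUM
      have h3 : 2 ≤ Z0.relIndex J := by
        have : Z0.relIndex J ≠ 1 := fun h => hkT' (Subgroup.relIndex_eq_one.1 h
          (Subgroup.mem_sup_right (Subgroup.mem_zpowers k))).2.2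
        have := ri_ne Z0 J
        omega
      rw [← hYZ] at h2 h3
      have h4 : J.relIndex UM ≤ 2 := by nlinarith
      calc K.relIndex UM ≤ K.relIndex J * J.relIndex UM := relIndex_step hJUM
        _ ≤ 2 * 2 := Nat.mul_le_mul (le_trans h1 (hfZ2 (by omega))) h4
        _ = 4 := rfl
    · obtain ⟨b, hb, hbT⟩ := Set.not_subset.1 hXT
      have hbN' : b ∈ nor S T' := P.normal (le_nor P.good hb.2)
      have hfix : fix T' b = T ⊓ T' := by
        refine (Subgroup.eq_of_le_of_card_ge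
          (show T ⊓ T' ≤ fix T' b from
            fun z hz => mem_fix.2 ⟨hz.2, comm_of P.good hb.2 hz.1⟩) ?_).symm
        rw [P.card_facts.1]
        exact card_fix_le P.good' (hU hb.1) hbT
      have hall : Z0 ≤ K := by
        intro z hz
        have hz' : z ∈ fix T' b := hfix.symm ▸ hz.2
        obtain ⟨a, ha, haz⟩ := (comm_facts P.good' hbN' hbT
          (by rw [P.good.2.2.1 b hb.2]; exact one_mem T')).2.2 z hz'
        obtain ⟨m0, hm0, a0, ha0, hc0⟩ := hfull _ (d1 a ha)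
        set t := u * a0⁻¹ * u⁻¹ with ht
        have htT : t ∈ T := c2 _ (inv_mem ha0)
        have hm : a * t ∈ U := by
          have h' : u * m0 * u⁻¹ = a * t := by
            rw [ht, show m0 = (u⁻¹ * a * u) * a0⁻¹ by rw [hc0, mul_inv_cancel_right]]
            group
          rw [← h']
          exact mul_mem (mul_mem hu hm0.1) (inv_mem hu)
        have h1 := hconjK b hb.1 _ hm
        have h2 : b * (a * t) * b⁻¹ * (a * t)⁻¹ = z := by
          have htb : t * b⁻¹ = b⁻¹ * t := comm_of P.good htT (inv_mem hb.2)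
          calc b * (a * t) * b⁻¹ * (a * t)⁻¹ = b * a * (t * b⁻¹) * t⁻¹ * a⁻¹ := by group
            _ = b * a * b⁻¹ * a⁻¹ := by rw [htb]; group
            _ = z := haz
        rwa [h2] at h1
      have h1 : K.relIndex Z0 = 1 := Subgroup.relIndex_eq_one.2 hall
      rw [h1, Nat.one_mul] at hkey
      exact le_trans hkey hp4
  have hMidx : UM.relIndex UN ≤ 2 := by
    have e : M ⊓ UN = UM := by
      rw [hUNdef, hUMdef]; ext x; simp only [Subgroup.mem_inf]
      exact ⟨fun h => ⟨h.2.1, h.1⟩, fun h => ⟨h.2, h.1, hMN h.2⟩⟩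
    rw [← e, Subgroup.inf_relIndex_right]
    exact le_trans (Subgroup.relIndex_le_of_le_right inf_le_right (ri_ne _ _)) P.relIndex_nor
  have hUN8 : K.relIndex UN ≤ 8 := by
    by_cases hcase : ∃ n ∈ UN, n ∉ M
    · exact le_trans (relIndex_step hUMUN)
        (le_trans (Nat.mul_le_mul (hM4 hcase) hMidx) (by norm_num))
    · push Not at hcase
      have h1 : UM.relIndex UN = 1 :=
        Subgroup.relIndex_eq_one.2 fun x hx => ⟨hx.1, hcase x hx⟩
      refine le_trans (relIndex_step hUMUN) ?_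
      rw [h1, Nat.mul_one]
      exact hM8
  calc K.relIndex U ≤ K.relIndex UN * UN.relIndex U := relIndex_step inf_le_left
    _ ≤ 8 * 2 := Nat.mul_le_mul hUN8 hUNidx
    _ = 2 ^ 4 := by norm_num

theorem frattiniLE_of_good (hS : IsPGroup 2 S) (hT : Good S T) {U : Subgroup G} (hU : U ≤ S) :
    FrattiniLE 4 U := by
  by_cases hUN : U ≤ nor S T
  · exact bound_nor hS hT hUN
  have hne : nor S T ≠ S := fun h => hUN (by rw [h]; exact hU)
  obtain ⟨g, hg, hgN, hgn⟩ := exists_normalizing hS inf_le_left hne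
  have hgi : ∀ x ∈ nor S T, g⁻¹ * x * g ∈ nor S T := by
    intro x hx
    have h : g⁻¹ ∈ nor S (nor S T) := inv_mem (mem_nor.2 ⟨hg, hgn⟩)
    have := (mem_nor.1 h).2 x hx
    rwa [inv_inv] at this
  have P : Pair S T (T.map (MulAut.conj g).toMonoidHom) := by
    refine ⟨hS, hT, good_conj hT hg, ?_, fun x hx => ?_, fun h => hgN ?_⟩
    · rintro _ ⟨t, ht, rfl⟩; exact hgn t (le_nor hT ht)
    · refine mem_nor.2 ⟨(mem_nor.1 hx).1, ?_⟩
      rintro _ ⟨t, ht, rfl⟩
      refine ⟨g⁻¹ * x * g * t * (g⁻¹ * x * g)⁻¹, (mem_nor.1 (hgi x hx)).2 t ht, ?_⟩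
      simp only [MulEquiv.coe_toMonoidHom, MulAut.conj_apply]
      group
    · exact mem_nor.2 ⟨hg, fun t ht => h ▸ ⟨t, ht, rfl⟩⟩
  exact P.bound_outside hU hUN

end Cfsg.Agent.SectionalFourGroup
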