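/-
helper59: a p-group (p odd) in which the class of every element outside the derived
subgroup is a whole coset, with a group of automorphisms that is transitive and abelian
on the non-trivial elements of the abelianisation, has class at most two.
-/
import Mathlib
import Cfsg.Agent.Lib.FrobeniusBasic

set_option autoImplicit false

open scoped commutatorElement

namespace Cfsg.Agent.SeenOnceClassTwo59

open Subgroup

/-- `p ^ a - 1` is not covered by divisors coming from two proper exponents. -/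
theorem num {p a s w j e : ℕ} (hp : 1 < p) (hs : s < a) (hw : w < a) (hs0 : 0 < s) (hw0 : 0 < w)
    (hje : p ^ a - 1 ∣ j * e) (hj : j ∣ p ^ s - 1) (he : e ∣ p ^ w - 1) : False := by
  have key : ∀ {t i : ℕ}, t < a → 0 < t → i ∣ p ^ t - 1 →
      ∃ g, 2 * g ≤ a ∧ 0 < g ∧ Nat.gcd (p ^ a - 1) i ∣ p ^ g - 1 := by
    intro t i ht ht0 hi
    refine ⟨Nat.gcd a t, ?_, Nat.gcd_pos_of_pos_right a ht0, ?_⟩
    · obtain ⟨c, hc⟩ := Nat.gcd_dvd_left a t
      have hle : Nat.gcd a t ≤ t := Nat.le_of_dvd ht0 (Nat.gcd_dvd_right a t)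
      generalize Nat.gcd a t = g at hc hle
      subst hc
      rcases Nat.lt_or_ge c 2 with hc2 | hc2
      · exfalso
        have : g * c ≤ g * 1 := Nat.mul_le_mul_left _ (by omega)
        omega
      · calc 2 * g ≤ c * g := Nat.mul_le_mul_right _ hc2
          _ = g * c := Nat.mul_comm _ _
    · rw [← Nat.pow_sub_one_gcd_pow_sub_one]
      exact Nat.dvd_gcd (Nat.gcd_dvd_left _ _) ((Nat.gcd_dvd_right _ _).trans hi)
  obtain ⟨g1, hg1, hg10, h1⟩ := key hs hs0 hj
  obtain ⟨g2, hg2, hg20, h2⟩ := key hw hw0 he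
  have hd : p ^ a - 1 ∣ (p ^ g1 - 1) * (p ^ g2 - 1) :=
    (Nat.dvd_gcd_mul_gcd_iff_dvd_mul.2 hje).trans (Nat.mul_dvd_mul h1 h2)
  have hA : 2 ≤ p ^ g1 := le_trans (by omega) (Nat.le_self_pow hg10.ne' p)
  have hB : 2 ≤ p ^ g2 := le_trans (by omega) (Nat.le_self_pow hg20.ne' p)
  have hC : p ^ g1 * p ^ g2 ≤ p ^ a := by
    rw [← pow_add]; exact Nat.pow_le_pow_right (by omega) (by omega)
  obtain ⟨A, hA'⟩ : ∃ A, p ^ g1 = A + 1 := ⟨p ^ g1 - 1, by omega⟩
  obtain ⟨C, hC'⟩ : ∃ C, p ^ g2 = C + 1 := ⟨p ^ g2 - 1, by omega⟩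
  rw [hA', hC', Nat.add_sub_cancel, Nat.add_sub_cancel] at hd
  rw [hA', hC'] at hC
  have hpos : 0 < A * C := Nat.mul_pos (by omega) (by omega)
  have hle := Nat.le_of_dvd hpos hd
  have : (A + 1) * (C + 1) = A * C + A + C + 1 := by ring
  omega

section act

variable {B M : Type*} [Group B] [Group M]

/-- Restriction of an action by automorphisms to an invariant subgroup. -/
def res (φ : B →* MulAut M) (X : Subgroup M) (hX : ∀ β : B, ∀ x ∈ X, φ β x ∈ X) :
    B →* MulAut X where
  toFun β :=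
    { toFun := fun x => ⟨φ β x, hX β x x.2⟩
      invFun := fun x => ⟨φ β⁻¹ x, hX β⁻¹ x x.2⟩
      left_inv := fun x => Subtype.ext (by
        change φ β⁻¹ (φ β (x : M)) = x
        rw [map_inv]
        exact MulAut.inv_apply_self M (φ β) x)
      right_inv := fun x => Subtype.ext (by
        change φ β (φ β⁻¹ (x : M)) = x
        rw [map_inv]
        exact MulAut.apply_inv_self M (φ β) x)
      map_mul' := fun x y => Subtype.ext (map_mul (φ β) (x : M) y) }
  map_one' := MulEquiv.ext fun x => Subtype.ext (by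
    change φ 1 (x : M) = x
    rw [map_one]; rfl)
  map_mul' β γ := MulEquiv.ext fun x => Subtype.ext (by
    change φ (β * γ) (x : M) = φ β (φ γ (x : M))
    rw [map_mul]; rfl)

theorem res_ker (φ : B →* MulAut M) (X : Subgroup M) (hX : ∀ β : B, ∀ x ∈ X, φ β x ∈ X) {β : B} :
    β ∈ (res φ X hX).ker ↔ ∀ x ∈ X, φ β x = x := by
  rw [MonoidHom.mem_ker]
  refine ⟨fun h x hx => ?_, fun h => MulEquiv.ext fun x => Subtype.ext (h x x.2)⟩
  exact congrArg Subtype.val (DFunLike.congr_fun h (⟨x, hx⟩ : X))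

/-- A semiregular action: the order of the image divides the number of non-trivial points. -/
theorem index_ker_dvd [Finite M] (φ : B →* MulAut M) (X : Subgroup M)
    (hX : ∀ β : B, ∀ x ∈ X, φ β x ∈ X)
    (hfree : ∀ β : B, ∀ x ∈ X, x ≠ 1 → φ β x = x → ∀ y ∈ X, φ β y = y) :
    (res φ X hX).ker.index ∣ Nat.card X - 1 := by
  rw [Subgroup.index_ker]
  let _ : MulAction (res φ X hX).range {x : X // x ≠ 1} :=
    { smul := fun m x => ⟨(m : MulAut X) x.1, fun e => x.2 (by
        have := congrArg ((m : MulAut X)).symm e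
        simpa using this)⟩
      one_smul := fun x => rfl
      mul_smul := fun m m' x => rfl }
  have hS : Nat.card {x : X // x ≠ 1} = Nat.card X - 1 := by
    have h := Set.ncard_add_ncard_compl ({1} : Set X)
    rw [Set.ncard_singleton] at h
    have e : Nat.card {x : X // x ≠ 1} = (({1} : Set X)ᶜ).ncard := by
      rw [← Nat.card_coe_set_eq]; rfl
    omega
  rw [← hS]
  refine FrobeniusBasic.card_dvd_of_free fun m x e => ?_
  obtain ⟨_, β, rfl⟩ := m
  have e' : φ β (x.1 : M) = x.1 := congrArg (fun z => ((z.1 : X) : M)) e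
  refine Subtype.ext (MulEquiv.ext fun y => Subtype.ext ?_)
  exact hfree β x.1 x.1.2 (fun h => x.2 (Subtype.ext h)) e' y y.2

end act

variable {B P : Type*} [Group B] [Group P]

/-- Changing the arguments of a commutator by elements central modulo `Z`. -/
theorem comm_congr_mod {Z : Subgroup P} [Z.Normal] {D : Subgroup P}
    (hD : ∀ d ∈ D, ∀ y : P, ⁅d, y⁆ ∈ Z) {a a' b b' : P} (ha : a⁻¹ * a' ∈ D) (hb : b⁻¹ * b' ∈ D) :
    QuotientGroup.mk' Z ⁅a', b'⁆ = QuotientGroup.mk' Z ⁅a, b⁆ := by
  have hc : ∀ d ∈ D, ∀ q : P ⧸ Z, QuotientGroup.mk' Z d * q = q * QuotientGroup.mk' Z d := by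
    intro d hd q
    obtain ⟨y, rfl⟩ := QuotientGroup.mk'_surjective Z q
    rw [← commutatorElement_eq_one_iff_mul_comm, ← map_commutatorElement,
      QuotientGroup.mk'_apply, QuotientGroup.eq_one_iff]
    exact hD d hd y
  set π := QuotientGroup.mk' Z
  have ea : π a' = π a * π (a⁻¹ * a') := by rw [← map_mul, mul_inv_cancel_left]
  have eb : π b' = π b * π (b⁻¹ * b') := by rw [← map_mul, mul_inv_cancel_left]
  rw [map_commutatorElement, map_commutatorElement, ea, eb]
  generalize hu : π (a⁻¹ * a') = u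
  generalize hv : π (b⁻¹ * b') = v
  have hu' : ∀ q, u * q = q * u := hu ▸ hc _ ha
  have hv' : ∀ q, v * q = q * v := hv ▸ hc _ hb
  calc ⁅π a * u, π b * v⁆ = π a * (u * (π b * v)) * u⁻¹ * (π a)⁻¹ * (v⁻¹ * (π b)⁻¹) := by
        rw [commutatorElement_def]; group
    _ = π a * (π b * v) * (π a)⁻¹ * (v⁻¹ * (π b)⁻¹) := by rw [hu']; group
    _ = π a * π b * (v * (π a)⁻¹) * (v⁻¹ * (π b)⁻¹) := by group
    _ = ⁅π a, π b⁆ := by rw [hv', commutatorElement_def]; group

/-- Two automorphisms that agree modulo the derived subgroup agree on it modulo the next term. -/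
theorem agree_on_commutator {Z : Subgroup P} [Z.Normal]
    (hD : ∀ d ∈ commutator P, ∀ y : P, ⁅d, y⁆ ∈ Z) (u v : MulAut P)
    (huv : ∀ x, (u x)⁻¹ * v x ∈ commutator P) {d : P} (hd : d ∈ commutator P) :
    (u d)⁻¹ * v d ∈ Z := by
  rw [← QuotientGroup.eq]
  have hle : commutator P ≤
      MonoidHom.eqLocus ((QuotientGroup.mk' Z).comp u.toMonoidHom)
        ((QuotientGroup.mk' Z).comp v.toMonoidHom) := by
    rw [commutator_def, Subgroup.commutator_le]
    intro x _ y _
    change QuotientGroup.mk' Z (u ⁅x, y⁆) = QuotientGroup.mk' Z (v ⁅x, y⁆)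
    rw [map_commutatorElement u x y, map_commutatorElement v x y]
    exact (comm_congr_mod hD (huv x) (huv y)).symm
  exact hle hd

variable [Finite P]

/-- The core: the third term of the lower central series is trivial when the fourth is. -/
theorem core {p : ℕ} [Fact p.Prime] (hp2 : p ≠ 2) (hP : IsPGroup p P)
    (hcam : ∀ x ∉ commutator P, ∀ c ∈ commutator P, ∃ y, ⁅x, y⁆ = c)
    (act : B →* MulAut P)
    (htr : ∀ x ∉ commutator P, ∀ y ∉ commutator P, ∃ β, (act β x)⁻¹ * y ∈ commutator P)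
    (hab : ∀ β γ x, (act β (act γ x))⁻¹ * act γ (act β x) ∈ commutator P)
    (hne : ∃ x, x ∉ commutator P)
    (h4 : ∀ d ∈ commutator P, ∀ y : P, ⁅d, y⁆ ∈ center P) :
    ∀ d ∈ commutator P, d ∈ center P := by
  classical
  set D := commutator P with hDdef
  set π := QuotientGroup.mk' D with hπ
  have hDn : D.Normal := inferInstance
  -- `D` is abelian
  have hDab : ∀ c ∈ D, ∀ d ∈ D, c * d = d * c := by
    have hDC : ⁅D, (⊤ : Subgroup P)⁆ ≤ center P :=
      Subgroup.commutator_le.2 fun d hd y _ => h4 d hd y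
    have h1 : ⁅⁅D, (⊤ : Subgroup P)⁆, (⊤ : Subgroup P)⁆ = ⊥ :=
      eq_bot_iff.2 ((Subgroup.commutator_mono hDC le_rfl).trans (Subgroup.commutator_le.2
        fun z hz y _ => by
          rw [Subgroup.mem_bot, commutatorElement_eq_one_iff_mul_comm]
          exact ((Subgroup.mem_center_iff.1 hz) y).symm))
    have h2 : ⁅⁅(⊤ : Subgroup P), D⁆, (⊤ : Subgroup P)⁆ = ⊥ := by
      rw [Subgroup.commutator_comm ⊤ D]; exact h1
    have h3 := Subgroup.commutator_commutator_eq_bot_of_rotate h2 h1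
    rw [← commutator_def, ← hDdef] at h3
    intro c hc d hd
    rw [← commutatorElement_eq_one_iff_mul_comm, ← Subgroup.mem_bot, ← h3]
    exact Subgroup.commutator_mem_commutator hc hd
  set Z : Subgroup P := ⁅D, (⊤ : Subgroup P)⁆ with hZdef
  have hZn : Z.Normal := inferInstance
  have hZD : Z ≤ D := Subgroup.commutator_le_left D ⊤
  have hZC : Z ≤ center P := Subgroup.commutator_le.2 fun d hd y _ => h4 d hd y
  have hDZ : ∀ d ∈ D, ∀ y : P, ⁅d, y⁆ ∈ Z := fun d hd y =>
    Subgroup.commutator_mem_commutator hd (Subgroup.mem_top y)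
  suffices hZbot : Z = ⊥ by
    intro d hd
    rw [Subgroup.mem_center_iff]
    intro y
    have := hDZ d hd y
    rw [hZbot, Subgroup.mem_bot, commutatorElement_eq_one_iff_mul_comm] at this
    exact this.symm
  by_contra hZne
  have hpo : Odd p := (Fact.out : p.Prime).odd_of_ne_two hp2
  have hPodd : Odd (Nat.card P) := by
    obtain ⟨n, hn⟩ := IsPGroup.iff_card.1 hP
    rw [hn]; exact hpo.pow
  -- an automorphism of two-power order inverting the abelianisation
  obtain ⟨x0, hx0⟩ := hne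
  obtain ⟨β0, hβ0⟩ := htr x0 hx0 x0⁻¹ (fun h => hx0 (by simpa using D.inv_mem h))
  have hmk : ∀ {a b : P}, a⁻¹ * b ∈ D → π a = π b := fun h => QuotientGroup.eq.2 h
  have hmk' : ∀ (β : B) {a b : P}, π a = π b → π (act β a) = π (act β b) := by
    intro β a b h
    have h' : a⁻¹ * b ∈ D := QuotientGroup.eq.1 h
    refine QuotientGroup.eq.2 ?_
    rw [← map_inv, ← map_mul]
    have := Subgroup.Characteristic.fixed (H := D) (inferInstance) (act β)
    rw [← this] at h'
    simpa using h'
  have hinv0 : ∀ x, π (act β0 x) = (π x)⁻¹ := by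
    intro x
    by_cases hx : x ∈ D
    · have h1 : π x = π 1 := hmk (by simpa using D.inv_mem hx)
      rw [hmk' β0 h1, h1, map_one, map_one, inv_one]
    · obtain ⟨γ, hγ⟩ := htr x0 hx0 x hx
      have h1 : π x = π (act γ x0) := (hmk hγ).symm
      rw [hmk' β0 h1, hmk (hab β0 γ x0), hmk' γ (hmk hβ0), h1]
      simp
  set o := orderOf (act β0) with ho
  have ho0 : 0 < o := orderOf_pos _
  obtain ⟨e, q, hq, hoe⟩ := Nat.exists_eq_pow_mul_and_not_dvd ho0.ne' 2 (by omega)
  set h := (act β0) ^ q with hh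
  have hhe : h ^ (2 ^ e) = 1 := by
    rw [hh, ← pow_mul, mul_comm, ← hoe, ho]; exact pow_orderOf_eq_one _
  have hinv : ∀ x, π (h x) = (π x)⁻¹ := by
    intro x
    have hk : ∀ k : ℕ, π (((act β0) ^ (2 * k + 1)) x) = (π x)⁻¹ := by
      intro k
      induction k with
      | zero => simpa using hinv0 x
      | succ k ih =>
        rw [show 2 * (k + 1) + 1 = (2 + (2 * k + 1)) by ring, pow_add, pow_two]
        change π (act β0 (act β0 (((act β0) ^ (2 * k + 1)) x))) = _
        rw [hinv0, hinv0, inv_inv, ih]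
    obtain ⟨k, rfl⟩ : Odd q := Nat.odd_iff.2 (by omega)
    exact hk k
  -- `h` fixes the derived subgroup modulo `Z` and inverts `Z`
  have hhD : ∀ d ∈ D, d⁻¹ * h d ∈ Z := by
    intro d hd
    rw [← QuotientGroup.eq]
    have hle : D ≤ MonoidHom.eqLocus (QuotientGroup.mk' Z)
        ((QuotientGroup.mk' Z).comp h.toMonoidHom) := by
      rw [hDdef, commutator_def, Subgroup.commutator_le]
      intro x _ y _
      change QuotientGroup.mk' Z ⁅x, y⁆ = QuotientGroup.mk' Z (h ⁅x, y⁆)
      have e1 : QuotientGroup.mk' Z (h ⁅x, y⁆) = QuotientGroup.mk' Z ⁅x⁻¹, y⁻¹⁆ := by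
        rw [map_commutatorElement h x y]
        refine comm_congr_mod hDZ ?_ ?_
        · exact QuotientGroup.eq.1 ((map_inv π x).trans (hinv x).symm)
        · exact QuotientGroup.eq.1 ((map_inv π y).trans (hinv y).symm)
      rw [e1, map_commutatorElement, map_commutatorElement]
      have hc : ∀ q : P ⧸ Z, ⁅QuotientGroup.mk' Z x, QuotientGroup.mk' Z y⁆ * q =
          q * ⁅QuotientGroup.mk' Z x, QuotientGroup.mk' Z y⁆ := by
        intro q
        obtain ⟨w, rfl⟩ := QuotientGroup.mk'_surjective Z q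
        rw [← commutatorElement_eq_one_iff_mul_comm, ← map_commutatorElement,
          ← map_commutatorElement, QuotientGroup.mk'_apply, QuotientGroup.eq_one_iff]
        exact hDZ _ (Subgroup.commutator_mem_commutator (mem_top x) (mem_top y)) w
      rw [map_inv, map_inv]
      generalize QuotientGroup.mk' Z x = a at hc ⊢
      generalize QuotientGroup.mk' Z y = b at hc ⊢
      calc ⁅a, b⁆ = (b * a)⁻¹ * (⁅a, b⁆ * (b * a)) := by rw [hc]; group
        _ = ⁅a⁻¹, b⁻¹⁆ := by rw [commutatorElement_def, commutatorElement_def]; group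
    exact hle hd
  have hhZ : ∀ c ∈ Z, h c = c⁻¹ := by
    intro c hc
    rw [hZdef, Subgroup.commutator_def] at hc
    induction hc using Subgroup.closure_induction with
    | mem c hc =>
      obtain ⟨d, hd, y, -, rfl⟩ := hc
      rw [map_commutatorElement h d y]
      obtain ⟨z, hz, hdz⟩ : ∃ z ∈ Z, h d = d * z := ⟨d⁻¹ * h d, hhD d hd, by group⟩
      obtain ⟨k, hk, hyk⟩ : ∃ k ∈ D, h y = y⁻¹ * k := by
        refine ⟨y * h y, ?_, by group⟩
        rw [← QuotientGroup.eq_one_iff]
        change π (y * h y) = 1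
        rw [map_mul, hinv, mul_inv_cancel]
      rw [hdz, hyk]
      have hzc : ∀ w, z * w = w * z := fun w => ((Subgroup.mem_center_iff.1 (hZC hz)) w).symm
      have h1 : ⁅d * z, y⁻¹ * k⁆ = ⁅d, y⁻¹ * k⁆ := by
        rw [commutatorElement_def, commutatorElement_def]
        calc d * z * (y⁻¹ * k) * (d * z)⁻¹ * (y⁻¹ * k)⁻¹
            = d * (z * (y⁻¹ * k)) * z⁻¹ * d⁻¹ * (y⁻¹ * k)⁻¹ := by group
          _ = _ := by rw [hzc]; group
      rw [h1]
      have hdk : d * k = k * d := hDab d hd k hk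
      have h2 : ⁅d, y⁻¹ * k⁆ = ⁅d, y⁻¹⁆ := by
        rw [commutatorElement_def, commutatorElement_def]
        calc d * (y⁻¹ * k) * d⁻¹ * (y⁻¹ * k)⁻¹ = d * y⁻¹ * (k * d⁻¹) * k⁻¹ * y := by group
          _ = d * y⁻¹ * (d⁻¹ * k) * k⁻¹ * y := by
              rw [show k * d⁻¹ = d⁻¹ * k by
                calc k * d⁻¹ = d⁻¹ * (d * k) * d⁻¹ := by group
                  _ = d⁻¹ * k := by rw [hdk]; group]
          _ = _ := by group
      rw [h2]
      have hcc := (Subgroup.mem_center_iff.1 (hZC (hDZ d hd y))) y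
      calc ⁅d, y⁻¹⁆ = y⁻¹ * ((y * ⁅d, y⁻¹⁆)) := by group
        _ = y⁻¹ * (⁅d, y⁆⁻¹ * y) := by rw [commutatorElement_def, commutatorElement_def]; group
        _ = y⁻¹ * (y * ⁅d, y⁆⁻¹) := by
            congr 1
            calc ⁅d, y⁆⁻¹ * y = ⁅d, y⁆⁻¹ * (y * ⁅d, y⁆) * ⁅d, y⁆⁻¹ := by group
              _ = y * ⁅d, y⁆⁻¹ := by rw [hcc]; group
        _ = _ := by group
    | one => simp
    | mul a b ha hb iha ihb =>
      have ha' : a ∈ Z := by rw [hZdef, Subgroup.commutator_def]; exact ha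
      rw [map_mul, iha, ihb, mul_inv_rev]
      exact ((Subgroup.mem_center_iff.1 (Z.inv_mem ha' |> fun h => hZC h)) b⁻¹).symm
    | inv a _ ih => rw [map_inv, ih]
  -- the hom `k ↦ ⁅x, k⁆` from `D`
  let ψ : P → (D →* P) := fun x =>
    { toFun := fun k => ⁅x, (k : P)⁆
      map_one' := by simp
      map_mul' := fun k l => by
        have hcz : ⁅x, (l : P)⁆ ∈ center P := by
          rw [← commutatorElement_inv]
          exact (center P).inv_mem (h4 l l.2 x)
        rw [Subgroup.coe_mul, commutatorElement_def, commutatorElement_def, commutatorElement_def]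
        have hc := (Subgroup.mem_center_iff.1 hcz) (k : P)
        rw [commutatorElement_def] at hc
        calc x * ((k : P) * l) * x⁻¹ * ((k : P) * l)⁻¹
            = (x * k * x⁻¹) * ((x * l * x⁻¹ * (l : P)⁻¹) ) * (k : P)⁻¹ := by group
          _ = (x * k * x⁻¹ * (k : P)⁻¹) * ((k : P) * (x * l * x⁻¹ * (l : P)⁻¹)) * (k : P)⁻¹ := by
              group
          _ = (x * k * x⁻¹ * (k : P)⁻¹) * (x * l * x⁻¹ * (l : P)⁻¹) := by rw [hc]; group }
  have hψ : ∀ x (k : D), ψ x k = ⁅x, (k : P)⁆ := fun _ _ => rfl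
  have hDodd : Odd (Nat.card D) := Odd.of_dvd_nat hPodd (Subgroup.card_subgroup_dvd_card D)
  have hsurjD : ∀ x ∉ D, Z ≤ (ψ x).range := by
    intro x hx
    -- a representative of the coset that `h` inverts
    let σ : Equiv.Perm P := h.toEquiv.trans (Equiv.inv P)
    have hσ : ∀ z, σ z = (h z)⁻¹ := fun z => rfl
    have hinvmem : ∀ z, x⁻¹ * σ z ∈ D ↔ x⁻¹ * z ∈ D := by
      intro z
      rw [← QuotientGroup.eq, ← QuotientGroup.eq, hσ]
      have e : (((h z)⁻¹ : P) : P ⧸ D) = ((z : P) : P ⧸ D) := by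
        have := hinv z
        change (π (h z)⁻¹ : P ⧸ D) = π z
        rw [map_inv, this, inv_inv]
      rw [e]
    let τ : Equiv.Perm {z : P // x⁻¹ * z ∈ D} := σ.subtypePerm hinvmem
    have hcard : Nat.card {z : P // x⁻¹ * z ∈ D} = Nat.card D := by
      refine Nat.card_congr
        { toFun := fun z => ⟨x⁻¹ * z, z.2⟩
          invFun := fun d => ⟨x * d, by simpa using d.2⟩
          left_inv := fun z => Subtype.ext (by simp)
          right_inv := fun d => Subtype.ext (by simp) }
    have hσ2 : σ * σ = (h * h).toEquiv := by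
      refine Equiv.ext fun z => ?_
      change σ (σ z) = h (h z)
      rw [hσ, hσ, map_inv, inv_inv]
    have hσpow : ∀ n : ℕ, (σ * σ) ^ n = ((h * h) ^ n).toEquiv := by
      intro n
      induction n with
      | zero => rfl
      | succ n ih => rw [pow_succ, pow_succ, ih, hσ2]; rfl
    have hτ : τ ^ (2 ^ (e + 1)) = 1 := by
      refine Equiv.ext fun z => Subtype.ext ?_
      rw [Equiv.Perm.subtypePerm_pow, Equiv.Perm.subtypePerm_apply]
      have hval : σ ^ (2 ^ (e + 1)) = 1 := by
        rw [pow_succ', pow_mul, pow_two, hσpow, ← pow_two, ← pow_mul, mul_comm 2, pow_mul, hhe,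
          one_pow]
        rfl
      exact Equiv.Perm.congr_fun hval z
    have : Fintype {z : P // x⁻¹ * z ∈ D} := Fintype.ofFinite _
    obtain ⟨⟨x', hx'm⟩, hfix⟩ := Equiv.Perm.exists_fixed_point_of_prime (p := 2) (by
      rw [← Nat.card_eq_fintype_card, hcard]
      exact fun hd => (Nat.not_even_iff_odd.2 hDodd) ((even_iff_two_dvd).2 hd)) hτ
    have hx' : h x' = x'⁻¹ := by
      have := congrArg Subtype.val hfix
      change σ x' = x' at this
      rw [hσ] at this
      exact inv_eq_iff_eq_inv.1 this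
    have hx'D : x' ∉ D := fun h' => hx (by
      have := D.mul_mem h' (D.inv_mem hx'm)
      simpa using this)
    -- squares of `Z` are in the range at `x'`
    have hsq : ∀ c ∈ Z, c * c ∈ (ψ x').range := by
      intro c hc
      obtain ⟨y, hy⟩ := hcam x' hx'D c (hZD hc)
      obtain ⟨k, hk, hyk⟩ : ∃ k ∈ D, h y = y⁻¹ * k := by
        refine ⟨y * h y, ?_, by group⟩
        rw [← QuotientGroup.eq_one_iff]
        change π (y * h y) = 1
        rw [map_mul, hinv, mul_inv_cancel]
      have hcen : ∀ w, w * c = c * w := Subgroup.mem_center_iff.1 (hZC hc)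
      have e1 : c⁻¹ = ⁅x'⁻¹, y⁻¹ * k⁆ := by
        rw [← hhZ c hc, ← hy, map_commutatorElement h x' y, hx', hyk]
      -- ⁅x'⁻¹, k⁆ = c⁻¹ * c⁻¹
      have e2 : ⁅x', k⁆ = c * c := by
        rw [commutatorElement_def] at hy e1 ⊢
        have f1 : x' * y = c * y * x' := by rw [← hy]; group
        have f2 : x'⁻¹ * y⁻¹ * x' * y = c := by
          calc x'⁻¹ * y⁻¹ * x' * y = x'⁻¹ * y⁻¹ * (x' * y) := by group
            _ = x'⁻¹ * y⁻¹ * (c * y * x') := by rw [f1]
            _ = x'⁻¹ * y⁻¹ * ((y * c) * x') := by rw [hcen y]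
            _ = x'⁻¹ * (c * x') := by group
            _ = x'⁻¹ * (x' * c) := by rw [hcen x']
            _ = c := by group
        -- value of the commutator of x'⁻¹ and k
        have f3 : x'⁻¹ * k * x' * k⁻¹ = c⁻¹ * c⁻¹ := by
          calc x'⁻¹ * k * x' * k⁻¹
              = y * (x'⁻¹ * y⁻¹ * x' * y)⁻¹ * (x'⁻¹ * (y⁻¹ * k) * x' * (y⁻¹ * k)⁻¹) * y⁻¹ := by
                group
            _ = y * c⁻¹ * c⁻¹ * y⁻¹ := by
              rw [f2]
              simp only [inv_inv] at e1
              rw [← e1]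
            _ = (y * (c * c)⁻¹) * y⁻¹ := by group
            _ = ((c * c)⁻¹ * y) * y⁻¹ := by
              rw [(Subgroup.mem_center_iff.1 ((center P).inv_mem
                ((center P).mul_mem (hZC hc) (hZC hc)))) y]
            _ = c⁻¹ * c⁻¹ := by group
        calc x' * k * x'⁻¹ * k⁻¹ = x' * (x'⁻¹ * k * x' * k⁻¹)⁻¹ * x'⁻¹ := by group
          _ = (x' * (c * c)) * x'⁻¹ := by rw [f3, mul_inv_rev, inv_inv]
          _ = ((c * c) * x') * x'⁻¹ := by
            rw [(Subgroup.mem_center_iff.1 ((center P).mul_mem (hZC hc) (hZC hc))) x']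
          _ = c * c := by group
      exact ⟨⟨k, hk⟩, e2⟩
    intro c hc
    obtain ⟨m, hm⟩ := Odd.of_dvd_nat hPodd (orderOf_dvd_natCard c)
    have hmem := (ψ x').range.pow_mem (hsq c hc) (m + 1)
    have e : (c * c) ^ (m + 1) = c := by
      rw [← pow_two, ← pow_mul, show 2 * (m + 1) = (2 * m + 1) + 1 by ring, ← hm, pow_succ,
        pow_orderOf_eq_one, one_mul]
    rw [e] at hmem
    obtain ⟨k, hk⟩ := hmem
    refine ⟨k, ?_⟩
    rw [hψ] at hk ⊢
    rw [← hk]
    -- move back from x' to x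
    obtain ⟨d, hd, rfl⟩ : ∃ d ∈ D, x' = x * d := ⟨x⁻¹ * x', hx'm, by group⟩
    rw [commutatorElement_def, commutatorElement_def]
    calc x * (k : P) * x⁻¹ * (k : P)⁻¹ = x * ((k : P) * d) * d⁻¹ * x⁻¹ * (k : P)⁻¹ := by group
      _ = x * d * (k : P) * (x * d)⁻¹ * (k : P)⁻¹ := by rw [← hDab d hd k k.2]; group
  -- the sizes
  have hx0Z : Nat.card Z ≤ Z.relIndex D := by
    have h1 : Nat.card Z ≤ Nat.card (ψ x0).range :=
      Nat.le_of_dvd Nat.card_pos (Subgroup.card_dvd_of_le (hsurjD x0 hx0))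
    have h2 : Z.subgroupOf D ≤ (ψ x0).ker := by
      intro k hk
      rw [MonoidHom.mem_ker, hψ, commutatorElement_eq_one_iff_mul_comm]
      exact Subgroup.mem_center_iff.1 (hZC (Subgroup.mem_subgroupOf.1 hk)) x0
    rw [← Subgroup.index_ker] at h1
    exact h1.trans (Nat.le_of_dvd (Nat.pos_of_ne_zero Subgroup.index_ne_zero_of_finite)
      (Subgroup.index_dvd_of_le h2))
  have hDlt : Z.relIndex D < D.index := by
    let θ : P →* P ⧸ Z :=
      { toFun := fun y => QuotientGroup.mk' Z ⁅x0, y⁆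
        map_one' := by simp
        map_mul' := fun y w => by
          have hd : ⁅x0, w⁆ ∈ D :=
            Subgroup.commutator_mem_commutator (Subgroup.mem_top _) (Subgroup.mem_top _)
          have hc : QuotientGroup.mk' Z y * QuotientGroup.mk' Z ⁅x0, w⁆ =
              QuotientGroup.mk' Z ⁅x0, w⁆ * QuotientGroup.mk' Z y := by
            symm
            rw [← commutatorElement_eq_one_iff_mul_comm, ← map_commutatorElement,
              QuotientGroup.mk'_apply, QuotientGroup.eq_one_iff]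
            exact hDZ _ hd y
          have e : ⁅x0, y * w⁆ = ⁅x0, y⁆ * (y * ⁅x0, w⁆ * y⁻¹) := by
            rw [commutatorElement_def, commutatorElement_def, commutatorElement_def]; group
          rw [e, map_mul, map_mul, map_mul, map_inv, hc]
          group }
    have hθ : ∀ y, θ y = QuotientGroup.mk' Z ⁅x0, y⁆ := fun _ => rfl
    have hsur : D.map (QuotientGroup.mk' Z) ≤ θ.range := by
      rintro _ ⟨c, hc, rfl⟩
      obtain ⟨y, hy⟩ := hcam x0 hx0 c hc
      exact ⟨y, by rw [hθ, hy]⟩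
    have hlt : D < θ.ker := by
      have hle : D ≤ θ.ker := fun d hd => by
        rw [MonoidHom.mem_ker, hθ, QuotientGroup.mk'_apply, QuotientGroup.eq_one_iff,
          ← commutatorElement_inv]
        exact Z.inv_mem (hDZ d hd x0)
      refine lt_of_le_of_ne hle fun e => hx0 ?_
      rw [e, MonoidHom.mem_ker, hθ, commutatorElement_self, map_one]
    have h1 : Nat.card (D.map (QuotientGroup.mk' Z)) ≤ θ.ker.index := by
      rw [Subgroup.index_ker]
      exact Nat.le_of_dvd Nat.card_pos (Subgroup.card_dvd_of_le hsur)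
    have h2 : Z.relIndex D = Nat.card (D.map (QuotientGroup.mk' Z)) := by
      have := Subgroup.relIndex_ker (QuotientGroup.mk' Z) (K := D)
      rw [QuotientGroup.ker_mk'] at this
      rw [this]
    have h3 : θ.ker.index < D.index := Subgroup.index_strictAnti hlt
    omega
  -- the radical and a minimal invariant subgroup above it
  set R : Subgroup P := D ⊓ center P with hR
  have hRn : R.Normal := inferInstance
  have hZR : Z ≤ R := le_inf hZD hZC
  have hDchar : ∀ (β : B) x, x ∈ D → act β x ∈ D := by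
    intro β x hx
    have := Subgroup.Characteristic.fixed (H := D) (inferInstance) (act β)
    rw [← this] at hx
    exact hx
  have hRchar : ∀ (β : B) x, x ∈ R → act β x ∈ R := by
    intro β x hx
    refine ⟨hDchar β x hx.1, ?_⟩
    have := Subgroup.Characteristic.fixed (H := center P) (inferInstance) (act β)
    have hx2 := hx.2
    rw [← this] at hx2
    exact hx2
  have hagree : ∀ β γ : B, ∀ d ∈ D, (act β (act γ d))⁻¹ * act γ (act β d) ∈ Z :=
    fun β γ d hd => agree_on_commutator hDZ (act β * act γ) (act γ * act β) (hab β γ) hd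
  let φN : B →* MulAut (P ⧸ D) :=
    { toFun := fun β => QuotientGroup.congr D D (act β)
        (Subgroup.characteristic_iff_map_eq.1 inferInstance (act β))
      map_one' := MulEquiv.ext fun q => by
        obtain ⟨y, rfl⟩ := QuotientGroup.mk_surjective q
        simp
      map_mul' := fun β γ => MulEquiv.ext fun q => by
        obtain ⟨y, rfl⟩ := QuotientGroup.mk_surjective q
        simp [map_mul] <;> rfl }
  have hφN : ∀ β y, φN β (π y) = π (act β y) := fun _ _ => rfl
  let φR : B →* MulAut (P ⧸ R) :=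
    { toFun := fun β => QuotientGroup.congr R R (act β) (by
        refine le_antisymm ?_ ?_
        · rintro _ ⟨x, hx, rfl⟩; exact hRchar β x hx
        · intro x hx
          refine ⟨act β⁻¹ x, hRchar β⁻¹ x hx, ?_⟩
          rw [map_inv]
          exact MulAut.apply_inv_self P (act β) x)
      map_one' := MulEquiv.ext fun q => by
        obtain ⟨y, rfl⟩ := QuotientGroup.mk_surjective q
        simp
      map_mul' := fun β γ => MulEquiv.ext fun q => by
        obtain ⟨y, rfl⟩ := QuotientGroup.mk_surjective q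
        simp [map_mul] <;> rfl }
  set ρ := QuotientGroup.mk' R with hρ
  have hφR : ∀ β y, φR β (ρ y) = ρ (act β y) := fun _ _ => rfl
  have hRD : D.map ρ ≠ ⊥ := by
    intro hb
    apply hZne
    rw [eq_bot_iff, hZdef, Subgroup.commutator_le]
    intro d hd y _
    have : ρ d = 1 := Subgroup.mem_bot.1 (hb ▸ Subgroup.mem_map_of_mem ρ hd)
    rw [hρ, QuotientGroup.mk'_apply, QuotientGroup.eq_one_iff] at this
    rw [Subgroup.mem_bot, commutatorElement_eq_one_iff_mul_comm]
    exact ((Subgroup.mem_center_iff.1 this.2) y).symm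
  let Good : Subgroup (P ⧸ R) → Prop :=
    fun X => X ≠ ⊥ ∧ X ≤ D.map ρ ∧ ∀ β : B, ∀ x ∈ X, φR β x ∈ X
  obtain ⟨S, hS, hSmin⟩ : ∃ S, Good S ∧ ∀ X, Good X → X ≤ S → X = S := by
    have hex : ∃ n, ∃ X, Good X ∧ Nat.card X = n := ⟨_, D.map ρ, ⟨hRD, le_rfl, fun β q hq => by
      obtain ⟨y, hy, rfl⟩ := hq
      exact ⟨act β y, hDchar β y hy, rfl⟩⟩, rfl⟩
    obtain ⟨X, hX, hXn⟩ := Nat.find_spec hex
    refine ⟨X, hX, fun Y hY hle => Subgroup.eq_of_le_of_card_ge hle ?_⟩
    rw [hXn]
    exact Nat.find_min' hex ⟨Y, hY, rfl⟩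
  obtain ⟨hS1, hSD, hSinv⟩ := hS
  have hcommS : ∀ β γ : B, ∀ x ∈ S, φR β (φR γ x) = φR γ (φR β x) := by
    intro β γ x hx
    obtain ⟨d, hd, rfl⟩ := hSD hx
    rw [hφR, hφR, hφR, hφR]
    exact QuotientGroup.eq.2 (hZR (hagree β γ d hd))
  have hSfree : ∀ β : B, ∀ x ∈ S, x ≠ 1 → φR β x = x → ∀ y ∈ S, φR β y = y := by
    intro β x hx hx1 hfx y hy
    let F : Subgroup (P ⧸ R) := S ⊓ MonoidHom.eqLocus (φR β).toMonoidHom (MonoidHom.id _)
    have hF : Good F := by
      refine ⟨fun hb => hx1 (Subgroup.mem_bot.1 (hb ▸ (⟨hx, hfx⟩ : x ∈ F))),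
        inf_le_left.trans hSD, ?_⟩
      rintro γ z ⟨hz1, hz2⟩
      refine ⟨hSinv γ z hz1, ?_⟩
      change φR β (φR γ z) = φR γ z
      rw [hcommS β γ z hz1]
      exact congrArg (φR γ) hz2
    have : y ∈ F := (hSmin F hF inf_le_left).symm ▸ hy
    exact this.2
  have hj := index_ker_dvd φR S hSinv hSfree
  set C := (res φR S hSinv).ker with hC
  -- an element of `S` and the kernel it gives
  obtain ⟨bq, hbS, hb1⟩ := S.bot_or_exists_ne_one.resolve_left hS1
  obtain ⟨b, hbD, rfl⟩ := hSD hbS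
  have hbc : b ∉ center P := fun h => hb1 (by
    rw [hρ, QuotientGroup.mk'_apply, QuotientGroup.eq_one_iff]
    exact ⟨hbD, h⟩)
  let κ : P →* P :=
    { toFun := fun y => ⁅b, y⁆
      map_one' := by simp
      map_mul' := fun y w => by
        have hc := (Subgroup.mem_center_iff.1 (h4 b hbD w)) y
        have e : ⁅b, y * w⁆ = ⁅b, y⁆ * (y * ⁅b, w⁆ * y⁻¹) := by
          rw [commutatorElement_def, commutatorElement_def, commutatorElement_def]; group
        rw [e, hc]; group }
  have hκ : ∀ y, κ y = ⁅b, y⁆ := fun _ => rfl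
  have hDκ : D ≤ κ.ker := fun d hd => by
    rw [MonoidHom.mem_ker, hκ, commutatorElement_eq_one_iff_mul_comm]
    exact hDab b hbD d hd
  set W := κ.ker.map π with hW
  have hWinv : ∀ β : C, ∀ q ∈ W, (φN.comp C.subtype) β q ∈ W := by
    rintro ⟨β, hβ⟩ _ ⟨y, hy, rfl⟩
    refine ⟨act β y, ?_, rfl⟩
    rw [SetLike.mem_coe, MonoidHom.mem_ker, hκ] at hy ⊢
    have hfx : ρ (act β b) = ρ b := (res_ker φR S hSinv).1 hβ (ρ b) hbS
    have hz : b⁻¹ * act β b ∈ center P := (QuotientGroup.eq.1 hfx.symm).2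
    have h1 : ⁅act β b, act β y⁆ = 1 := by
      rw [← map_commutatorElement (act β) b y, hy, map_one]
    rw [commutatorElement_eq_one_iff_mul_comm] at h1 ⊢
    have hzc := Subgroup.mem_center_iff.1 hz
    calc b * act β y = act β b * act β y * (b⁻¹ * act β b)⁻¹ := by
          rw [mul_assoc, Subgroup.mem_center_iff.1 ((center P).inv_mem hz) (act β y)]; group
      _ = act β y * act β b * (b⁻¹ * act β b)⁻¹ := by rw [h1]
      _ = act β y * b := by group
  have hNfree : ∀ β : B, ∀ q : P ⧸ D, q ≠ 1 → φN β q = q → ∀ r, φN β r = r := by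
    intro β q hq hfx r
    obtain ⟨x, rfl⟩ := QuotientGroup.mk_surjective q
    obtain ⟨y, rfl⟩ := QuotientGroup.mk_surjective r
    have hx : x ∉ D := fun h => hq ((QuotientGroup.eq_one_iff x).2 h)
    change π (act β x) = π x at hfx
    change π (act β y) = π y
    by_cases hy : y ∈ D
    · have h1 : π y = 1 := (QuotientGroup.eq_one_iff y).2 hy
      rw [h1]; exact (QuotientGroup.eq_one_iff _).2 (hDchar β y hy)
    · obtain ⟨γ, hγ⟩ := htr x hx y hy
      rw [← hmk' β (hmk hγ), hmk (hab β γ x), hmk' γ hfx, hmk hγ]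
  have he := index_ker_dvd (φN.comp C.subtype) W hWinv
    (fun β x _ hx1 hfx y _ => hNfree β x hx1 hfx y)
  have hQ : IsPGroup p (P ⧸ D) := hP.to_quotient D
  obtain ⟨a, ha⟩ := IsPGroup.iff_card.1 hQ
  obtain ⟨s, hs⟩ := IsPGroup.iff_card.1 ((hP.to_quotient R).to_subgroup S)
  obtain ⟨w, hw⟩ := IsPGroup.iff_card.1 (hQ.to_subgroup W)
  have hp1 : 1 < p := (Fact.out : p.Prime).one_lt
  have hDa : D.index = p ^ a := by rw [Subgroup.index_eq_card, ha]
  have hS_lt : Nat.card S < p ^ a := by
    have h1 : Nat.card S ≤ Nat.card (D.map ρ) :=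
      Nat.le_of_dvd Nat.card_pos (Subgroup.card_dvd_of_le hSD)
    have h2 : Nat.card (D.map ρ) = R.relIndex D := by
      have := Subgroup.relIndex_ker ρ (K := D)
      rw [hρ, QuotientGroup.ker_mk'] at this
      rw [hρ, this]
    have h3 : R.relIndex D ≤ Z.relIndex D :=
      Subgroup.relIndex_le_of_le_left hZR (Subgroup.FiniteIndex.index_ne_zero)
    omega
  have hW_bot : W ≠ ⊥ := by
    intro hb
    have hk : κ.ker = D := le_antisymm (fun y hy => by
      have : π y = 1 := Subgroup.mem_bot.1 (hb ▸ Subgroup.mem_map_of_mem π hy)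
      exact (QuotientGroup.eq_one_iff y).1 this) hDκ
    have h1 : κ.ker.index ≤ Nat.card Z := by
      rw [Subgroup.index_ker]
      refine Nat.le_of_dvd Nat.card_pos (Subgroup.card_dvd_of_le ?_)
      rintro _ ⟨y, rfl⟩
      exact hDZ b hbD y
    rw [hk] at h1
    omega
  have hW_top : W ≠ ⊤ := by
    intro ht
    apply hbc
    rw [Subgroup.mem_center_iff]
    intro y
    obtain ⟨z, hz, hzy⟩ : π y ∈ W := ht ▸ Subgroup.mem_top _
    have hy : y ∈ κ.ker := by
      have := κ.ker.mul_mem hz (hDκ (QuotientGroup.eq.1 hzy))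
      simpa using this
    rw [MonoidHom.mem_ker, hκ, commutatorElement_eq_one_iff_mul_comm] at hy
    exact hy.symm
  have hs0 : 0 < s := by
    rcases Nat.eq_zero_or_pos s with h0 | h0
    · exact absurd (Subgroup.card_eq_one.1 (by rw [hs, h0, pow_zero])) hS1
    · exact h0
  have hw0 : 0 < w := by
    rcases Nat.eq_zero_or_pos w with h0 | h0
    · exact absurd (Subgroup.card_eq_one.1 (by rw [hw, h0, pow_zero])) hW_bot
    · exact h0
  have hwa : w < a := by
    have h1 : Nat.card W ≤ p ^ a := ha ▸ Subgroup.card_le_card_group W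
    have h2 : Nat.card W ≠ p ^ a := fun e =>
      hW_top (Subgroup.eq_top_of_card_eq W (e.trans ha.symm))
    rw [hw] at h1 h2
    exact (Nat.pow_lt_pow_iff_right hp1).1 (lt_of_le_of_ne h1 h2)
  have hsa : s < a := (Nat.pow_lt_pow_iff_right hp1).1 (hs ▸ hS_lt)
  refine num hp1 hsa hwa hs0 hw0 ?_ (hs ▸ hj) (hw ▸ he)
  -- `p ^ a - 1` divides the product of the two indices
  set K := φN.ker with hK
  have hfix : (res (φN.comp C.subtype) W hWinv).ker = K.subgroupOf C := by
    ext ⟨β, hβ⟩
    rw [res_ker, Subgroup.mem_subgroupOf, MonoidHom.mem_ker]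
    constructor
    · intro h
      obtain ⟨q, hq, hq1⟩ := W.bot_or_exists_ne_one.resolve_left hW_bot
      exact MulEquiv.ext fun r => hNfree β q hq1 (h q hq) r
    · intro h q _
      exact DFunLike.congr_fun h q
  rw [hfix, mul_comm]
  have hdiv : K.index ∣ (K.subgroupOf C).index * C.index := by
    have h1 : (K.subgroupOf C).index * C.index = (K ⊓ C).index := by
      rw [← Subgroup.relIndex_mul_index (inf_le_right : K ⊓ C ≤ C), Subgroup.inf_relIndex_right]
      rfl
    rw [h1]
    exact Subgroup.index_dvd_of_le inf_le_left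
  refine dvd_trans ?_ hdiv
  -- the image acts transitively, hence its order is divisible by `p ^ a - 1`
  rw [hK, Subgroup.index_ker]
  let _ : MulAction φN.range {q : P ⧸ D // q ≠ 1} :=
    { smul := fun m x => ⟨(m : MulAut (P ⧸ D)) x.1, fun e => x.2 (by
        have := congrArg ((m : MulAut (P ⧸ D))).symm e
        simpa using this)⟩
      one_smul := fun x => rfl
      mul_smul := fun m m' x => rfl }
  have : MulAction.IsPretransitive φN.range {q : P ⧸ D // q ≠ 1} := ⟨fun x y => by
    obtain ⟨⟨q, hq⟩, ⟨r, hr⟩⟩ := x, y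
    obtain ⟨x, rfl⟩ := QuotientGroup.mk_surjective q
    obtain ⟨y, rfl⟩ := QuotientGroup.mk_surjective r
    obtain ⟨β, hβ⟩ := htr x (fun h => hq ((QuotientGroup.eq_one_iff x).2 h)) y
      (fun h => hr ((QuotientGroup.eq_one_iff y).2 h))
    exact ⟨⟨φN β, β, rfl⟩, Subtype.ext (hmk hβ)⟩⟩
  have : Nonempty {q : P ⧸ D // q ≠ 1} :=
    ⟨⟨π x0, fun h => hx0 ((QuotientGroup.eq_one_iff x0).1 h)⟩⟩
  have hcard : Nat.card {q : P ⧸ D // q ≠ 1} = p ^ a - 1 := by
    have h := Set.ncard_add_ncard_compl ({1} : Set (P ⧸ D))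
    rw [Set.ncard_singleton, ha] at h
    have e : Nat.card {q : P ⧸ D // q ≠ 1} = (({1} : Set (P ⧸ D))ᶜ).ncard := by
      rw [← Nat.card_coe_set_eq]; rfl
    omega
  rw [← hcard]
  obtain ⟨z⟩ := this
  rw [← MulAction.index_stabilizer_of_transitive φN.range z]
  exact Subgroup.index_dvd_card _

/-- Class at most two. -/
theorem commutator_le_center {p : ℕ} [Fact p.Prime] (hp2 : p ≠ 2) (hP : IsPGroup p P)
    (hcam : ∀ x ∉ commutator P, ∀ c ∈ commutator P, ∃ y, ⁅x, y⁆ = c)
    (act : B →* MulAut P)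
    (htr : ∀ x ∉ commutator P, ∀ y ∉ commutator P, ∃ β, (act β x)⁻¹ * y ∈ commutator P)
    (hab : ∀ β γ x, (act β (act γ x))⁻¹ * act γ (act β x) ∈ commutator P) :
    commutator P ≤ center P := by
  have : Group.IsNilpotent P := hP.isNilpotent
  have hnil : ∀ X : Subgroup P, X ≤ ⁅X, (⊤ : Subgroup P)⁆ → X = ⊥ := by
    intro X hX
    obtain ⟨n, hn⟩ := (Subgroup.isNilpotent_iff_lowerCentralSeries (⊤ : Subgroup P)).1
      inferInstance
    have : ∀ k, X ≤ (⊤ : Subgroup P).lowerCentralSeries k := by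
      intro k
      induction k with
      | zero => exact le_top
      | succ k ih => exact hX.trans (Subgroup.commutator_mono ih le_rfl)
    exact eq_bot_iff.2 (hn ▸ this n)
  by_cases hne : ∃ x, x ∉ commutator P
  swap
  · push Not at hne
    have : commutator P = ⊥ :=
      hnil _ (by
        have e : commutator P = ⊤ := eq_top_iff.2 fun x _ => hne x
        rw [e, ← _root_.commutator_def, e])
    exact this ▸ bot_le
  set D := commutator P with hD
  set Z : Subgroup P := ⁅D, (⊤ : Subgroup P)⁆ with hZ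
  set M : Subgroup P := ⁅Z, (⊤ : Subgroup P)⁆ with hM
  have hMD : M ≤ D := (Subgroup.commutator_le_left Z ⊤).trans (Subgroup.commutator_le_left D ⊤)
  have hMchar : ∀ φ : MulAut P, M.map φ.toMonoidHom = M := fun φ =>
    Subgroup.characteristic_iff_map_eq.1 inferInstance φ
  let act' : B →* MulAut (P ⧸ M) :=
    { toFun := fun β => QuotientGroup.congr M M (act β) (hMchar (act β))
      map_one' := MulEquiv.ext fun q => by
        obtain ⟨y, rfl⟩ := QuotientGroup.mk_surjective q
        simp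
      map_mul' := fun β γ => MulEquiv.ext fun q => by
        obtain ⟨y, rfl⟩ := QuotientGroup.mk_surjective q
        simp [map_mul] <;> rfl }
  set f := QuotientGroup.mk' M with hf
  have hfs : Function.Surjective f := QuotientGroup.mk'_surjective M
  have hDq : commutator (P ⧸ M) = D.map f := by
    simp only [hD, _root_.commutator_def, Subgroup.map_commutator,
      Subgroup.map_top_of_surjective f hfs]
  have hmem : ∀ x : P, f x ∈ commutator (P ⧸ M) ↔ x ∈ D := by
    intro x
    rw [hDq]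
    refine ⟨?_, Subgroup.mem_map_of_mem f⟩
    rintro ⟨d, hd, he⟩
    have := D.mul_mem hd (hMD (QuotientGroup.eq.1 he))
    simpa using this
  have key : ∀ d ∈ commutator (P ⧸ M), d ∈ center (P ⧸ M) := by
    refine core hp2 (hP.to_quotient M) ?_ act' ?_ ?_ ?_ ?_
    · intro q hq c hc
      obtain ⟨x, rfl⟩ := hfs q
      obtain ⟨c', rfl⟩ := hfs c
      obtain ⟨y, hy⟩ := hcam x (fun h => hq ((hmem x).2 h)) c' ((hmem c').1 hc)
      exact ⟨f y, by rw [← map_commutatorElement, hy]⟩
    · intro q hq r hr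
      obtain ⟨x, rfl⟩ := hfs q
      obtain ⟨y, rfl⟩ := hfs r
      obtain ⟨β, hβ⟩ := htr x (fun h => hq ((hmem x).2 h)) y (fun h => hr ((hmem y).2 h))
      exact ⟨β, (hmem _).2 hβ⟩
    · intro β γ q
      obtain ⟨x, rfl⟩ := hfs q
      exact (hmem _).2 (hab β γ x)
    · obtain ⟨x, hx⟩ := hne
      exact ⟨f x, fun h => hx ((hmem x).1 h)⟩
    · intro q hq r
      obtain ⟨d, rfl⟩ := hfs q
      obtain ⟨y, rfl⟩ := hfs r
      rw [Subgroup.mem_center_iff]
      intro s
      obtain ⟨v, rfl⟩ := hfs s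
      symm
      rw [← map_commutatorElement, ← commutatorElement_eq_one_iff_mul_comm,
        ← map_commutatorElement, hf, QuotientGroup.mk'_apply, QuotientGroup.eq_one_iff]
      exact Subgroup.commutator_mem_commutator
        (Subgroup.commutator_mem_commutator ((hmem d).1 hq) (mem_top y)) (mem_top v)
  have hZM : Z ≤ M := by
    rw [hZ, Subgroup.commutator_le]
    intro d hd y _
    have := (Subgroup.mem_center_iff.1 (key (f d) ((hmem d).2 hd))) (f y)
    have h1 : f ⁅d, y⁆ = 1 := by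
      rw [map_commutatorElement, commutatorElement_eq_one_iff_mul_comm]; exact this.symm
    exact (QuotientGroup.eq_one_iff _).1 h1
  have hZbot : Z = ⊥ := hnil Z hZM
  intro d hd
  rw [Subgroup.mem_center_iff]
  intro y
  have : ⁅d, y⁆ ∈ Z := Subgroup.commutator_mem_commutator hd (mem_top y)
  rw [hZbot, Subgroup.mem_bot, commutatorElement_eq_one_iff_mul_comm] at this
  exact this.symm

end Cfsg.Agent.SeenOnceClassTwo59
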