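/-
helper59: if the derived subgroup minus a normal subgroup `K` is a single conjugacy class and
the centre modulo `K` lies in the derived subgroup, then the group is solvable.
-/
import Mathlib
import Cfsg.Agent.S0081
import Cfsg.Agent.S0033
import Cfsg.Agent.S0205
import Cfsg.Agent.Lib.PGroupsBasic
import Cfsg.Agent.Lib.CharBasicOrth
import Cfsg.Agent.Lib.SeenOnceClassTwo59

set_option autoImplicit false

open scoped commutatorElement Pointwise

namespace Cfsg.Agent.SeenOnceSolvable59

open Subgroup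

section pair

variable {P W : Type*} [Group P] [CommGroup W] [MulDistribMulAction P W]

/-- Two commuting operators of exponent `p` with enough fixed-point-free products leave
nothing. -/
theorem pair {p : ℕ} (hp : p.Prime) (U : Subgroup W) (hU : ∀ (z : P), ∀ u ∈ U, z • u ∈ U)
    (a b : P) (hcomm : ∀ u ∈ U, a • b • u = b • a • u) (hap : ∀ u ∈ U, a ^ p • u = u)
    (hbp : ∀ u ∈ U, b ^ p • u = u) (hb : ∀ u ∈ U, b • u = u → u = 1)
    (hab : ∀ i : ℕ, ∀ u ∈ U, (a * b ^ i) • u = u → u = 1) :
    ∀ u ∈ U, u ^ p = 1 := by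
  classical
  intro u hu
  -- the product over an orbit of a fixed point free operator of exponent p
  have norm : ∀ z : P, (∀ v ∈ U, z ^ p • v = v) → (∀ v ∈ U, z • v = v → v = 1) →
      ∀ v ∈ U, ∏ j ∈ Finset.range p, z ^ j • v = 1 := by
    intro z hz1 hz2 v hv
    refine hz2 _ (U.prod_mem fun j _ => hU _ v hv) ?_
    rw [Finset.smul_prod']
    have h1 : ∀ j, z • (z ^ j • v) = z ^ (j + 1) • v := fun j => by
      rw [← mul_smul, ← pow_succ']
    simp only [h1]
    have h2 := Finset.prod_range_succ' (fun j => z ^ j • v) p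
    have h3 := Finset.prod_range_succ (fun j => z ^ j • v) p
    rw [h3, hz1 v hv, pow_zero, one_smul] at h2
    exact (mul_right_cancel h2).symm
  -- powers of b commute with a on U
  have hcb : ∀ i : ℕ, ∀ v ∈ U, a • b ^ i • v = b ^ i • a • v := by
    intro i
    induction i with
    | zero => intro v _; simp
    | succ i ih =>
      intro v hv
      simp only [pow_succ, mul_smul]
      rw [ih (b • v) (hU _ v hv), hcomm v hv]
  have hpw : ∀ (i j : ℕ), ∀ v ∈ U, (a * b ^ i) ^ j • v = a ^ j • b ^ (i * j) • v := by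
    intro i j
    induction j with
    | zero => intro v _; simp
    | succ j ih =>
      intro v hv
      have hc : ∀ k : ℕ, ∀ x ∈ U, a ^ k • b ^ i • x = b ^ i • a ^ k • x := by
        intro k
        induction k with
        | zero => intro x _; simp
        | succ k ihk =>
          intro x hx
          rw [pow_succ', mul_smul, mul_smul, ihk x hx, hcb i _ (hU _ x hx)]
      rw [pow_succ', mul_smul, ih v hv, mul_smul, ← hc j _ (hU _ v hv), ← mul_smul (b ^ i),
        ← pow_add, ← mul_smul a (a ^ j), ← pow_succ', Nat.mul_succ, Nat.add_comm (i * j)]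
  -- each line
  have hline : ∀ i : ℕ, ∏ j ∈ Finset.range p, a ^ j • b ^ (i * j) • u = 1 := by
    intro i
    rw [← norm (a * b ^ i) (fun v hv => ?_) (hab i) u hu]
    · exact Finset.prod_congr rfl fun j _ => (hpw i j u hu).symm
    · rw [hpw i p v hv, pow_mul, hap _ (hU _ v hv)]
      have : ∀ k : ℕ, ∀ x ∈ U, (b ^ p) ^ k • x = x := by
        intro k
        induction k with
        | zero => intro x _; simp
        | succ k ihk => intro x hx; rw [pow_succ, mul_smul, hbp x hx, ihk x hx]
      rw [← pow_mul, Nat.mul_comm i p, pow_mul]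
      exact this i v hv
  have hsum : ∏ i ∈ Finset.range p, ∏ j ∈ Finset.range p, a ^ j • b ^ (i * j) • u = 1 :=
    Finset.prod_eq_one fun i _ => hline i
  rw [Finset.prod_comm] at hsum
  -- all columns but the first are trivial
  have hcol : ∀ j ∈ Finset.range p, j ≠ 0 →
      ∏ i ∈ Finset.range p, a ^ j • b ^ (i * j) • u = 1 := by
    intro j hj hj0
    rw [← Finset.smul_prod']
    have hjp : j.Coprime p :=
      ((Nat.Prime.coprime_iff_not_dvd hp).2
        (Nat.not_dvd_of_pos_of_lt (Nat.pos_of_ne_zero hj0) (Finset.mem_range.1 hj))).symm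
    have hbj : ∀ v ∈ U, (b ^ j) ^ p • v = v := by
      intro v hv
      rw [← pow_mul, Nat.mul_comm, pow_mul]
      have : ∀ k : ℕ, (b ^ p) ^ k • v = v := by
        intro k
        induction k with
        | zero => simp
        | succ k ihk => rw [pow_succ, mul_smul, hbp v hv, ihk]
      exact this j
    have hbjf : ∀ v ∈ U, b ^ j • v = v → v = 1 := by
      intro v hv hfx
      refine hb v hv ?_
      have hmem : b ∈ MulAction.stabilizer P v := by
        have h1 : b ^ j ∈ MulAction.stabilizer P v := hfx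
        have h2 : b ^ p ∈ MulAction.stabilizer P v := hbp v hv
        have h3 := (MulAction.stabilizer P v).mul_mem
          ((MulAction.stabilizer P v).zpow_mem h1 (Nat.gcdA j p))
          ((MulAction.stabilizer P v).zpow_mem h2 (Nat.gcdB j p))
        rw [← zpow_natCast, ← zpow_mul, ← zpow_natCast, ← zpow_mul, ← zpow_add,
          ← Nat.gcd_eq_gcd_ab, hjp, Nat.cast_one, zpow_one] at h3
        exact h3
      exact hmem
    have := norm (b ^ j) hbj hbjf u hu
    have e : ∀ i, b ^ (i * j) • u = (b ^ j) ^ i • u := fun i => by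
      rw [← pow_mul, Nat.mul_comm]
    simp only [e]
    rw [this, smul_one]
  rw [Finset.prod_eq_single 0 hcol (fun h => absurd (Finset.mem_range.2 hp.pos) h)] at hsum
  simpa using hsum

/-- The fixed subgroup of a set of operators. -/
def fixed (S : Set P) (W : Type*) [CommGroup W] [MulDistribMulAction P W] : Subgroup W where
  carrier := {w | ∀ z ∈ S, z • w = w}
  one_mem' := fun z _ => smul_one z
  mul_mem' := fun {v w} hv hw z hz => by rw [smul_mul', hv z hz, hw z hz]
  inv_mem' := fun {v} hv z hz => by rw [smul_inv', hv z hz]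

theorem mem_fixed {S : Set P} {w : W} : w ∈ fixed S W ↔ ∀ z ∈ S, z • w = w := Iff.rfl

/-- No class-two group with non-cyclic abelianisation of exponent `p`, with all elements outside
the derived subgroup fixed-point-free on a non-trivial abelian group of order prime to `p`. -/
theorem no_action [Finite P] [Finite W] [Nontrivial W] {p : ℕ} [Fact p.Prime] (hp2 : p ≠ 2)
    (hDc : commutator P ≤ center P) (hexp : ∀ x : P, x ^ p ∈ commutator P)
    (hbig : p ^ 2 ≤ (commutator P).index)
    (hfpf : ∀ x ∉ commutator P, ∀ w : W, x • w = w → w = 1)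
    (hco : p.Coprime (Nat.card W)) : False := by
  classical
  have hp : p.Prime := Fact.out
  set D := commutator P with hD
  have hDexp : ∀ d ∈ D, d ^ p = 1 := by
    have hle : D ≤ (center P) := hDc
    intro d hd
    rw [hD, _root_.commutator_def, Subgroup.commutator_def] at hd
    induction hd using Subgroup.closure_induction with
    | mem d hd =>
      obtain ⟨x, -, y, -, rfl⟩ := hd
      have hc : ∀ x y : P, ⁅x, y⁆ ∈ center P := fun x y =>
        hle (Subgroup.commutator_mem_commutator (Subgroup.mem_top x) (Subgroup.mem_top y))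
      have hk : ∀ k : ℕ, ⁅x ^ k, y⁆ = ⁅x, y⁆ ^ k := by
        intro k
        induction k with
        | zero => simp
        | succ k ih =>
          have e : ⁅x ^ (k + 1), y⁆ = x ^ k * ⁅x, y⁆ * (x ^ k)⁻¹ * ⁅x ^ k, y⁆ := by
            rw [commutatorElement_def, commutatorElement_def, commutatorElement_def, pow_succ]
            group
          rw [e, Subgroup.mem_center_iff.1 (hc x y) (x ^ k), mul_inv_cancel_right, ih, pow_succ']
      rw [← hk, commutatorElement_eq_one_iff_mul_comm]
      exact ((Subgroup.mem_center_iff.1 (hle (hexp x))) y).symm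
    | one => simp
    | mul a b ha hb iha ihb =>
      have ha' : a ∈ center P := hle (by rw [hD, _root_.commutator_def, Subgroup.commutator_def]; exact ha)
      rw [(show Commute a b from ((Subgroup.mem_center_iff.1 ha') b).symm).mul_pow, iha, ihb,
        one_mul]
    | inv a _ ih => rw [inv_pow, ih, inv_one]
  -- a maximal subgroup of `D` with non-trivial fixed points
  obtain ⟨N, hN, hNmax⟩ : ∃ N : Subgroup P, (N ≤ D ∧ fixed (N : Set P) W ≠ ⊥) ∧
      ∀ M : Subgroup P, N ≤ M → M ≤ D → fixed (M : Set P) W ≠ ⊥ → M = N := by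
    obtain ⟨N, hN⟩ := (Set.toFinite {N : Subgroup P | N ≤ D ∧ fixed (N : Set P) W ≠ ⊥}).exists_maximal
      ⟨⊥, bot_le, fun h => by
        obtain ⟨w, hw⟩ := exists_ne (1 : W)
        refine hw (Subgroup.mem_bot.1 (h ▸ mem_fixed.2 fun z hz => ?_))
        rw [show z = 1 from Subgroup.mem_bot.1 hz, one_smul]⟩
    exact ⟨N, hN.prop, fun M h1 h2 h3 => le_antisymm (hN.le_of_ge ⟨h2, h3⟩ h1) h1⟩
  obtain ⟨hND, hU1⟩ := hN
  set U := fixed (N : Set P) W with hUdef
  have hU : ∀ z : P, ∀ u ∈ U, z • u ∈ U := by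
    intro z u hu n hn
    have hc : n * z = z * n := ((Subgroup.mem_center_iff.1 (hDc (hND hn))) z).symm
    rw [← mul_smul, hc, mul_smul, hu n hn]
  have hNtriv : ∀ n ∈ N, ∀ u ∈ U, n • u = u := fun n hn u hu => hu n hn
  -- elements of `D` outside `N` are fixed-point-free on `U`
  have hDfpf : ∀ d ∈ D, d ∉ N → ∀ u ∈ U, d • u = u → u = 1 := by
    intro d hd hdN u hu hfx
    by_contra hu1
    refine hdN ?_
    rw [← hNmax (N ⊔ zpowers d) le_sup_left (sup_le hND (zpowers_le.2 hd)) ?_]
    · exact le_sup_right (a := N) (mem_zpowers d)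
    · intro hb
      refine hu1 (Subgroup.mem_bot.1 (hb ▸ ?_))
      have : N ⊔ zpowers d ≤ MulAction.stabilizer P u :=
        sup_le (fun n hn => hu n hn) (zpowers_le.2 hfx)
      exact mem_fixed.2 fun z hz => this hz
  have hoDfpf : ∀ x ∉ D, ∀ u ∈ U, x • u = u → u = 1 := fun x hx u _ h => hfpf x hx u h
  -- the contradiction from a pair
  have fin : ∀ a b : P, (∀ u ∈ U, a • b • u = b • a • u) → a ^ p ∈ N → b ^ p ∈ N →
      (∀ u ∈ U, b • u = u → u = 1) → (∀ i : ℕ, ∀ u ∈ U, (a * b ^ i) • u = u → u = 1) →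
      False := by
    intro a b h1 h2 h3 h4 h5
    obtain ⟨u, hu, hu1⟩ := U.bot_or_exists_ne_one.resolve_left hU1
    have h := pair hp U hU a b h1 (fun v hv => hNtriv _ h2 v hv) (fun v hv => hNtriv _ h3 v hv)
      h4 h5 u hu
    have ho : orderOf u ∣ Nat.gcd p (Nat.card W) :=
      Nat.dvd_gcd (orderOf_dvd_of_pow_eq_one h) (orderOf_dvd_natCard u)
    rw [hco] at ho
    exact hu1 (orderOf_eq_one_iff.1 (Nat.dvd_one.1 ho))
  have hc2 : ∀ x y : P, ∀ u ∈ U, ⁅x, y⁆ ∈ N → x • y • u = y • x • u := by
    intro x y u hu h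
    have e : x * y = ⁅x, y⁆ * (y * x) := by rw [commutatorElement_def]; group
    rw [← mul_smul, e, mul_smul, mul_smul]
    exact hNtriv _ h _ (hU _ _ (hU _ _ hu))
  by_cases hDN : D = N
  · -- two elements independent modulo `D`
    have hDt : D ≠ ⊤ := by
      intro e
      rw [e, index_top] at hbig
      have := Nat.one_lt_pow (two_ne_zero) hp.one_lt
      omega
    obtain ⟨y, -, hy⟩ := SetLike.exists_of_lt (lt_top_iff_ne_top.2 hDt)
    set D1 := D ⊔ zpowers y with hD1
    have hD1t : D1 ≠ ⊤ := by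
      intro e
      -- then the index would be at most p
      set ρ := QuotientGroup.mk' D
      have h1 : D1.map ρ = ⊤ := by
        rw [e, Subgroup.map_top_of_surjective ρ (QuotientGroup.mk'_surjective D)]
      rw [hD1, Subgroup.map_sup, MonoidHom.map_zpowers,
        show D.map ρ = ⊥ by rw [Subgroup.map_eq_bot_iff, QuotientGroup.ker_mk'], bot_sup_eq] at h1
      have h2 : D.index = orderOf (ρ y) := by
        rw [Subgroup.index_eq_card, ← Nat.card_zpowers, h1, Subgroup.card_top]
      have h3 : orderOf (ρ y) ∣ p := orderOf_dvd_of_pow_eq_one (by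
        rw [← map_pow]; exact (QuotientGroup.eq_one_iff _).2 (hexp y))
      have h4 := Nat.le_of_dvd hp.pos h3
      have : p < p ^ 2 := by nlinarith [hp.one_lt]
      omega
    obtain ⟨x, -, hx⟩ := SetLike.exists_of_lt (lt_top_iff_ne_top.2 hD1t)
    refine fin x y (fun u hu => hc2 x y u hu (hDN ▸ Subgroup.commutator_mem_commutator
      (Subgroup.mem_top _) (Subgroup.mem_top _))) (hDN ▸ hexp x) (hDN ▸ hexp y) (hoDfpf y hy)
      (fun i => hoDfpf _ fun h => hx ?_)
    have h' := D1.mul_mem (le_sup_left (b := zpowers y) h)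
      (le_sup_right (a := D) (Subgroup.inv_mem _ (Subgroup.pow_mem _ (mem_zpowers y) i)))
    simpa using h'
  · obtain ⟨b, hbD, hbN⟩ := SetLike.exists_of_lt (lt_of_le_of_ne hND fun e => hDN e.symm)
    -- `D = N ⊔ ⟨b⟩`
    have hgen : D ≤ N ⊔ zpowers b := by
      by_contra hne
      obtain ⟨c, hcD, hc⟩ := SetLike.not_le_iff_exists.1 hne
      refine fin c b (fun u _ => ?_) (by rw [hDexp c hcD]; exact N.one_mem)
        (by rw [hDexp b hbD]; exact N.one_mem) (hDfpf b hbD hbN)
        (fun i => hDfpf _ (D.mul_mem hcD (D.pow_mem hbD i)) fun h => hc ?_)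
      · rw [← mul_smul, ← mul_smul, ((Subgroup.mem_center_iff.1 (hDc hcD)) b).symm]
      · have h' := (N ⊔ zpowers b).mul_mem (le_sup_left (b := zpowers b) h)
          (le_sup_right (a := N) (Subgroup.inv_mem _ (Subgroup.pow_mem _ (mem_zpowers b) i)))
        simpa using h'
    have hNn : N.Normal := ⟨fun n hn g => by
      rw [Subgroup.mem_center_iff.1 (hDc (hND hn)) g, mul_inv_cancel_right]; exact hn⟩
    -- the power map into `D / N`
    let π : P →* P ⧸ N :=
      { toFun := fun x => QuotientGroup.mk' N (x ^ p)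
        map_one' := by simp
        map_mul' := fun x y => by
          rw [← map_mul]
          congr 1
          -- class two: (x y)^p = x^p y^p for odd p
          have hz : ∀ w, w * ⁅y, x⁆ = ⁅y, x⁆ * w := Subgroup.mem_center_iff.1
            (hDc (Subgroup.commutator_mem_commutator (Subgroup.mem_top _) (Subgroup.mem_top _)))
          set z := ⁅y, x⁆ with hzdef
          have hzc : ∀ w, Commute z w := fun w => (hz w).symm
          have hyx : y * x = z * (x * y) := by rw [hzdef, commutatorElement_def]; group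
          have hyk : ∀ k : ℕ, y ^ k * x = z ^ k * (x * y ^ k) := by
            intro k
            induction k with
            | zero => simp
            | succ k ih =>
              calc y ^ (k + 1) * x = y ^ k * (y * x) := by rw [pow_succ, mul_assoc]
                _ = y ^ k * z * (x * y) := by rw [hyx]; group
                _ = z * (y ^ k * x) * y := by rw [(hzc (y ^ k)).symm.eq]; group
                _ = z * (z ^ k * (x * y ^ k)) * y := by rw [ih]
                _ = _ := by rw [pow_succ' z, pow_succ y]; group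
          have key : ∀ k : ℕ, ∃ m : ℕ, 2 * m + k = k * k ∧ (x * y) ^ k = z ^ m * (x ^ k * y ^ k) := by
            intro k
            induction k with
            | zero => exact ⟨0, by simp, by simp⟩
            | succ k ih =>
              obtain ⟨m, hm, he⟩ := ih
              refine ⟨m + k, by nlinarith, ?_⟩
              calc (x * y) ^ (k + 1) = z ^ m * (x ^ k * y ^ k) * (x * y) := by rw [pow_succ, he]
                _ = z ^ m * (x ^ k * (y ^ k * x)) * y := by group
                _ = z ^ m * (x ^ k * z ^ k) * (x * y ^ k) * y := by rw [hyk]; group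
                _ = z ^ m * (z ^ k * x ^ k) * (x * y ^ k) * y := by
                  rw [((hzc (x ^ k)).pow_left k).symm.eq]
                _ = _ := by rw [pow_add, pow_succ x, pow_succ y]; group
          obtain ⟨m, hm, he⟩ := key p
          obtain ⟨t, ht⟩ := hp.odd_of_ne_two hp2
          have hdm : p ∣ m := ⟨t, by
            have h2 : 2 * m + p = p * (2 * t + 1) := by rw [← ht]; exact hm
            have h3 : p * (2 * t + 1) = 2 * (p * t) + p := by ring
            omega⟩
          rw [he, orderOf_dvd_iff_pow_eq_one.1 (dvd_trans (orderOf_dvd_of_pow_eq_one (hDexp z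
            (Subgroup.commutator_mem_commutator (Subgroup.mem_top _) (Subgroup.mem_top _)))) hdm),
            one_mul] }
    have hπ : ∀ x, π x = QuotientGroup.mk' N (x ^ p) := fun _ => rfl
    have hker : ¬ π.ker ≤ D := by
      intro hle
      have h1 : D.index ≤ π.ker.index :=
        Nat.le_of_dvd (Nat.pos_of_ne_zero Subgroup.index_ne_zero_of_finite)
          (Subgroup.index_dvd_of_le hle)
      have h2 : π.range ≤ zpowers (QuotientGroup.mk' N b) := by
        rintro _ ⟨x, rfl⟩
        have := hgen (hexp x)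
        have h3 : (N ⊔ zpowers b).map (QuotientGroup.mk' N) = zpowers (QuotientGroup.mk' N b) := by
          rw [Subgroup.map_sup, MonoidHom.map_zpowers,
            show N.map (QuotientGroup.mk' N) = ⊥ by
              rw [Subgroup.map_eq_bot_iff, QuotientGroup.ker_mk'], bot_sup_eq]
        rw [← h3]
        exact Subgroup.mem_map_of_mem _ this
      have h4 : π.ker.index ≤ p := by
        rw [Subgroup.index_ker]
        refine (Nat.le_of_dvd Nat.card_pos (Subgroup.card_dvd_of_le h2)).trans ?_
        rw [Nat.card_zpowers]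
        exact Nat.le_of_dvd hp.pos (orderOf_dvd_of_pow_eq_one (by
          rw [← map_pow, hDexp b hbD, map_one]))
      have : p < p ^ 2 := by nlinarith [hp.one_lt]
      omega
    obtain ⟨a, haK, haD⟩ := SetLike.not_le_iff_exists.1 hker
    rw [MonoidHom.mem_ker, hπ, QuotientGroup.mk'_apply, QuotientGroup.eq_one_iff] at haK
    refine fin a b (fun u _ => ?_) haK (by rw [hDexp b hbD]; exact N.one_mem) (hDfpf b hbD hbN)
      (fun i => hoDfpf _ fun h => haD ?_)
    · rw [← mul_smul, ← mul_smul, (Subgroup.mem_center_iff.1 (hDc hbD)) a]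
    · have h' := D.mul_mem h (D.inv_mem (D.pow_mem hbD i))
      simpa using h'

end pair

section main

variable {G : Type*} [Group G] [Finite G]

/-- The hypothesis. -/
structure Hyp (K : Subgroup G) (g : G) : Prop where
  mem : g ∈ commutator G
  not_mem : g ∉ K
  le : K ≤ commutator G
  cls : ∀ x ∈ commutator G, x ∉ K → IsConj g x

variable {K : Subgroup G} [K.Normal] {g : G}

theorem Hyp.change (h : Hyp K g) {x : G} (hx : x ∈ commutator G) (hxK : x ∉ K) : Hyp K x :=
  ⟨hx, hxK, h.le, fun y hy hyK => (h.cls x hx hxK).symm.trans (h.cls y hy hyK)⟩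

theorem conj_iff {v x : G} : v * x * v⁻¹ ∈ K ↔ x ∈ K :=
  ⟨fun h => by simpa [mul_assoc] using (inferInstance : K.Normal).conj_mem _ h v⁻¹,
    fun h => (inferInstance : K.Normal).conj_mem x h v⟩

/-- The prime, and the first facts. -/
theorem Hyp.exists_prime (h : Hyp K g) : ∃ p : ℕ, p.Prime ∧ g ^ p ∈ K ∧
    (∃ k, g ^ (p ^ k) = 1) ∧
    (∀ x ∈ commutator G, ∀ y ∈ commutator G, ⁅x, y⁆ ∈ K) ∧ (∀ x ∈ commutator G, x ^ p ∈ K) := by
  set π := QuotientGroup.mk' K with hπ
  have h1 : π g ≠ 1 := fun e => h.not_mem ((QuotientGroup.eq_one_iff g).1 e)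
  set d := orderOf (π g) with hd
  have hd1 : d ≠ 1 := fun e => h1 (orderOf_eq_one_iff.1 e)
  set p := d.minFac
  have hp : p.Prime := Nat.minFac_prime hd1
  obtain ⟨m, hm⟩ := Nat.minFac_dvd d
  -- all non-trivial elements of the image have the same order
  have hord : ∀ x ∈ commutator G, x ∉ K → orderOf (π x) = d := by
    intro x hx hxK
    obtain ⟨v, hv⟩ := isConj_iff.1 (h.cls x hx hxK)
    rw [← hv, map_mul, map_mul, map_inv]
    exact orderOf_injective (MulAut.conj (π v)).toMonoidHom (MulAut.conj (π v)).injective _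
  have hm0 : m ≠ 0 := fun e => by
    rw [e, mul_zero] at hm; exact (orderOf_pos (π g)).ne' hm
  have hgm : g ^ m ∉ K := by
    intro e
    have e' : π g ^ m = 1 := by rw [← map_pow]; exact (QuotientGroup.eq_one_iff _).2 e
    have := Nat.le_of_dvd (Nat.pos_of_ne_zero hm0) (orderOf_dvd_of_pow_eq_one e')
    rw [← hd, hm] at this
    have h2 := hp.two_le
    nlinarith [Nat.pos_of_ne_zero hm0]
  have hdp : d = p := by
    have e := hord (g ^ m) ((commutator G).pow_mem h.mem m) hgm
    rw [map_pow, orderOf_pow' _ hm0, ← hd, hm, Nat.gcd_eq_right (Dvd.intro_left p rfl),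
      Nat.mul_div_cancel _ (Nat.pos_of_ne_zero hm0)] at e
    rw [hm]; exact e.symm
  have hxp : ∀ x ∈ commutator G, x ^ p ∈ K := by
    intro x hx
    by_cases hxK : x ∈ K
    · exact K.pow_mem hxK p
    · rw [← QuotientGroup.eq_one_iff, ← hdp, ← hord x hx hxK]
      exact (map_pow π x _).trans (pow_orderOf_eq_one _)
  set N := (commutator G).map π with hN
  have hNn : N.Normal := (inferInstance : (commutator G).Normal).map π
    (QuotientGroup.mk'_surjective K)
  have := Fact.mk hp
  have hNp : IsPGroup p N := by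
    intro x
    obtain ⟨y, hy, hxy⟩ := x.2
    refine ⟨1, Subtype.ext ?_⟩
    rw [pow_one, Subgroup.coe_pow, ← hxy, ← map_pow]
    exact (QuotientGroup.eq_one_iff _).2 (hxp y hy)
  have : Nontrivial N := ⟨⟨⟨π g, Subgroup.mem_map_of_mem π h.mem⟩, 1, fun e => h1 (congrArg Subtype.val e)⟩⟩
  have := hNp.center_nontrivial
  obtain ⟨⟨z, hzN⟩, hz, hz1⟩ := (center N).bot_or_exists_ne_one.resolve_left
    ((Subgroup.nontrivial_iff_ne_bot _).1 this)
  have habN : ∀ x ∈ commutator G, ∀ y ∈ commutator G, ⁅x, y⁆ ∈ K := by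
    intro x hx y hy
    rw [← QuotientGroup.eq_one_iff]
    change π ⁅x, y⁆ = 1
    rw [map_commutatorElement, commutatorElement_eq_one_iff_mul_comm]
    by_cases hxK : x ∈ K
    · rw [show π x = 1 from (QuotientGroup.eq_one_iff x).2 hxK, one_mul, mul_one]
    obtain ⟨w, hw, rfl⟩ := hzN
    have hwK : w ∉ K := fun e => hz1 (Subtype.ext ((QuotientGroup.eq_one_iff w).2 e))
    obtain ⟨v, hv⟩ := isConj_iff.1 ((h.change hw hwK).cls x hx hxK)
    have hy' : π (v⁻¹ * y * v) ∈ N := Subgroup.mem_map_of_mem π (by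
      simpa using (inferInstance : (commutator G).Normal).conj_mem y hy v⁻¹)
    have hc := congrArg Subtype.val (Subgroup.mem_center_iff.1 hz ⟨_, hy'⟩)
    change π (v⁻¹ * y * v) * π w = π w * π (v⁻¹ * y * v) at hc
    rw [← hv, ← map_mul, ← map_mul]
    rw [← map_mul, ← map_mul] at hc
    calc π (v * w * v⁻¹ * y) = π v * π (w * (v⁻¹ * y * v)) * (π v)⁻¹ := by
          rw [← map_inv, ← map_mul, ← map_mul]; congr 1; group
      _ = π v * π (v⁻¹ * y * v * w) * (π v)⁻¹ := by rw [hc]
      _ = π (y * (v * w * v⁻¹)) := by rw [← map_inv, ← map_mul, ← map_mul]; congr 1; group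
  refine ⟨p, hp, hxp g h.mem, ?_, habN, hxp⟩
  -- `g` is a `p`-element
  obtain ⟨k, t, ht, hgo⟩ := Nat.exists_eq_pow_mul_and_not_dvd (orderOf_pos g).ne' p hp.ne_one
  have hgt : g ^ t ∉ K := by
    intro e
    refine ht ?_
    rw [← hdp, hd]
    exact orderOf_dvd_of_pow_eq_one (by rw [← map_pow]; exact (QuotientGroup.eq_one_iff _).2 e)
  obtain ⟨v, hv⟩ := isConj_iff.1 (h.cls _ ((commutator G).pow_mem h.mem t) hgt)
  refine ⟨k, ?_⟩
  have e : (g ^ t) ^ (p ^ k) = 1 := by
    rw [← pow_mul, Nat.mul_comm, ← hgo, pow_orderOf_eq_one]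
  rw [← hv, conj_pow] at e
  exact conj_eq_one_iff.1 e

/-- Inside a Sylow subgroup the class of `g` is the whole coset. -/
theorem Hyp.sylow_class (h : Hyp K g) {p : ℕ} [Fact p.Prime] (P : Sylow p G) (hgP : g ∈ P) :
    (∀ y ∈ (P : Subgroup G), ⁅y, g⁆ ∈ K) ∧
      ∀ c ∈ (P : Subgroup G) ⊓ K, ∃ y ∈ (P : Subgroup G), ⁅y, g⁆ = c := by
  classical
  obtain ⟨q, hq, hgq, -, habN, hxq⟩ := h.exists_prime
  set π := QuotientGroup.mk' K with hπ
  have := Fact.mk hq
  -- the prime is p
  have hpq : q = p := by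
    obtain ⟨k, hk⟩ := P.2 ⟨g, hgP⟩
    have h1 : orderOf (π g) ∣ p ^ k :=
      (orderOf_map_dvd π g).trans (orderOf_dvd_of_pow_eq_one (congrArg Subtype.val hk))
    have h2 : orderOf (π g) = q := orderOf_eq_prime (by
      rw [← map_pow]; exact (QuotientGroup.eq_one_iff _).2 hgq)
      (fun e => h.not_mem ((QuotientGroup.eq_one_iff g).1 e))
    exact (Nat.prime_dvd_prime_iff_eq hq Fact.out).1 (hq.dvd_of_dvd_pow (h2 ▸ h1))
  subst hpq
  set N := (commutator G).map π with hN
  have hNn : N.Normal := (inferInstance : (commutator G).Normal).map π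
    (QuotientGroup.mk'_surjective K)
  have hNP : N ≤ (P : Subgroup G).map π := by
    have hNp : IsPGroup q N := by
      intro x
      obtain ⟨y, hy, hxy⟩ := x.2
      refine ⟨1, Subtype.ext ?_⟩
      rw [pow_one, Subgroup.coe_pow, ← hxy, ← map_pow]
      exact (QuotientGroup.eq_one_iff _).2 (hxq y hy)
    exact IsPGroup.le_sylow_of_normal hNp (P.mapSurjective (QuotientGroup.mk'_surjective K))
  have hcen : ∀ y ∈ (P : Subgroup G), ⁅y, g⁆ ∈ K := by
    set PQ := (P : Subgroup G).map π with hPQ
    have hPQp : IsPGroup q PQ := P.2.map π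
    have : Nontrivial PQ := ⟨⟨⟨π g, Subgroup.mem_map_of_mem π hgP⟩, 1, fun e =>
      h.not_mem ((QuotientGroup.eq_one_iff g).1 (congrArg Subtype.val e))⟩⟩
    -- a non-trivial element of `N` central in `PQ`
    have hNne : N.subgroupOf PQ ≠ ⊥ := by
      intro e
      rw [Subgroup.subgroupOf_eq_bot, disjoint_iff, inf_eq_left.2 hNP] at e
      exact h.not_mem ((QuotientGroup.eq_one_iff g).1
        (Subgroup.mem_bot.1 (e ▸ Subgroup.mem_map_of_mem π h.mem)))
    obtain ⟨⟨z, hzP⟩, ⟨hzN, hzc⟩, hz1⟩ : ∃ z : PQ, z ∈ N.subgroupOf PQ ⊓ center PQ ∧ z ≠ 1 := by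
      have hne := PGroupsBasic.inf_center_ne_bot hPQp hNne
      exact (N.subgroupOf PQ ⊓ center PQ).bot_or_exists_ne_one.resolve_left hne
    obtain ⟨w, hw, rfl⟩ := Subgroup.mem_subgroupOf.1 hzN
    have hwK : w ∉ K := fun e => hz1 (Subtype.ext ((QuotientGroup.eq_one_iff w).2 e))
    -- its centraliser modulo `K`
    let C : Subgroup G :=
      { carrier := {y | ⁅y, w⁆ ∈ K}
        one_mem' := by simp
        mul_mem' := fun {a b} ha hb => by
          have e : ⁅a * b, w⁆ = a * ⁅b, w⁆ * a⁻¹ * ⁅a, w⁆ := by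
            rw [commutatorElement_def, commutatorElement_def, commutatorElement_def]; group
          change ⁅a * b, w⁆ ∈ K
          rw [e]
          exact K.mul_mem ((inferInstance : K.Normal).conj_mem _ hb a) ha
        inv_mem' := fun {a} ha => by
          have e : ⁅a⁻¹, w⁆ = a⁻¹ * ⁅a, w⁆⁻¹ * a⁻¹⁻¹ := by
            rw [commutatorElement_def, commutatorElement_def]; group
          change ⁅a⁻¹, w⁆ ∈ K
          rw [e]
          exact (inferInstance : K.Normal).conj_mem _ (K.inv_mem ha) a⁻¹ }
    have hGC : commutator G ≤ C := fun y hy => habN y hy w hw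
    have hCn : C.Normal := ⟨fun y hy v => by
      have h1 : ⁅v, y⁆ ∈ C := hGC (Subgroup.commutator_mem_commutator (mem_top v) (mem_top y))
      have e : v * y * v⁻¹ = ⁅v, y⁆ * y := by rw [commutatorElement_def]; group
      rw [e]; exact C.mul_mem h1 hy⟩
    have hPC : (P : Subgroup G) ≤ C := by
      intro y hy
      have := congrArg Subtype.val (Subgroup.mem_center_iff.1 hzc ⟨π y, Subgroup.mem_map_of_mem π hy⟩)
      change π y * π w = π w * π y at this
      change ⁅y, w⁆ ∈ K
      rw [← QuotientGroup.eq_one_iff]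
      change π ⁅y, w⁆ = 1
      rw [map_commutatorElement, commutatorElement_eq_one_iff_mul_comm]
      exact this
    intro y hy
    obtain ⟨v, hv⟩ := isConj_iff.1 ((h.change hw hwK).cls g h.mem h.not_mem)
    have h1 : v⁻¹ * y * v ∈ C := by simpa using hCn.conj_mem y (hPC hy) v⁻¹
    have e : ⁅y, g⁆ = v * ⁅v⁻¹ * y * v, w⁆ * v⁻¹ := by
      rw [← hv, commutatorElement_def, commutatorElement_def]; group
    rw [e]
    exact (inferInstance : K.Normal).conj_mem _ h1 v
  refine ⟨hcen, ?_⟩
  -- counting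
  have hclass : {x | IsConj g x} = (commutator G : Set G) \ (K : Set G) := by
    ext x
    constructor
    · intro hx
      obtain ⟨v, hv⟩ := isConj_iff.1 hx
      rw [← hv]
      exact ⟨(inferInstance : (commutator G).Normal).conj_mem g h.mem v,
        fun e => h.not_mem (conj_iff.1 e)⟩
    · exact fun hx => h.cls x hx.1 hx.2
  set C := centralizer ({g} : Set G) with hC
  have hcount : Nat.card {x : G // IsConj g x} * Nat.card C = Nat.card G :=
    CharBasicOrth.card_conj_mul_card_centralizer g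
  have hdvd : Nat.card C * Nat.card K ∣ Nat.card G := by
    have h1 : Nat.card {x : G // IsConj g x} = Nat.card (commutator G) - Nat.card K := by
      change Nat.card ({x | IsConj g x} : Set G) = _
      rw [Nat.card_coe_set_eq, hclass, Set.ncard_sdiff h.le, ← Nat.card_coe_set_eq,
        ← Nat.card_coe_set_eq]
      rfl
    obtain ⟨m, hm⟩ := Subgroup.card_dvd_of_le h.le
    rw [h1, hm, ← Nat.mul_sub_one] at hcount
    exact ⟨m - 1, by rw [← hcount]; ring⟩
  set CP := C.subgroupOf (P : Subgroup G) with hCP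
  set KP := K.subgroupOf (P : Subgroup G) with hKP
  have hsize : Nat.card CP * Nat.card KP ≤ Nat.card P := by
    refine Nat.le_of_dvd Nat.card_pos ?_
    obtain ⟨i, hi⟩ := IsPGroup.iff_card.1 (P.2.to_subgroup CP)
    obtain ⟨j, hj⟩ := IsPGroup.iff_card.1 (P.2.to_subgroup KP)
    rw [hi, hj, ← pow_add]
    refine P.pow_dvd_card_of_pow_dvd_card ?_
    rw [pow_add, ← hi, ← hj]
    exact (Nat.mul_dvd_mul
      (Subgroup.card_comap_dvd_of_injective C (P : Subgroup G).subtype (Subgroup.subtype_injective _))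
      (Subgroup.card_comap_dvd_of_injective K (P : Subgroup G).subtype
        (Subgroup.subtype_injective _))).trans hdvd
  -- the map from cosets
  intro c hc
  let f : (P : Subgroup G) ⧸ CP → KP := Quotient.lift
    (fun y => (⟨⟨⁅(y : G), g⁆, (P : Subgroup G).mul_mem ((P : Subgroup G).mul_mem
      ((P : Subgroup G).mul_mem y.2 hgP) ((P : Subgroup G).inv_mem y.2))
      ((P : Subgroup G).inv_mem hgP)⟩, hcen y y.2⟩ : KP))
    (fun y z hyz => by
      have hyz : y⁻¹ * z ∈ CP := QuotientGroup.leftRel_apply.1 hyz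
      have hc : g * ((y : G)⁻¹ * z) = (y : G)⁻¹ * z * g := by
        have := Subgroup.mem_centralizer_singleton_iff.1 hyz
        simpa using this.symm
      refine Subtype.ext (Subtype.ext ?_)
      change ⁅(y : G), g⁆ = ⁅(z : G), g⁆
      rw [commutatorElement_def, commutatorElement_def]
      calc (y : G) * g * (y : G)⁻¹ * g⁻¹
          = y * (g * ((y : G)⁻¹ * z)) * (z : G)⁻¹ * g⁻¹ := by group
        _ = y * ((y : G)⁻¹ * z * g) * (z : G)⁻¹ * g⁻¹ := by rw [hc]
        _ = _ := by group)
  have hinj : Function.Injective f := by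
    intro q r e
    obtain ⟨y, rfl⟩ := QuotientGroup.mk_surjective q
    obtain ⟨z, rfl⟩ := QuotientGroup.mk_surjective r
    have e' : (y : G) * g * (y : G)⁻¹ = z * g * (z : G)⁻¹ :=
      mul_right_cancel (congrArg (fun x : KP => ((x : (P : Subgroup G)) : G)) e)
    refine QuotientGroup.eq.2 (Subgroup.mem_centralizer_singleton_iff.2 ?_)
    change (y : G)⁻¹ * z * g = g * ((y : G)⁻¹ * z)
    calc (y : G)⁻¹ * z * g = (y : G)⁻¹ * ((z : G) * g * (z : G)⁻¹) * z := by group
      _ = g * ((y : G)⁻¹ * z) := by rw [← e']; group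
  have hbij : Function.Bijective f := by
    refine hinj.bijective_of_nat_card_le ?_
    have := Subgroup.card_eq_card_quotient_mul_card_subgroup CP
    rw [this, Nat.mul_comm (Nat.card (_ ⧸ CP))] at hsize
    exact Nat.le_of_mul_le_mul_left hsize Nat.card_pos
  obtain ⟨q, hq'⟩ := hbij.surjective ⟨⟨c, hc.1⟩, hc.2⟩
  obtain ⟨y, rfl⟩ := QuotientGroup.mk_surjective q
  exact ⟨y, y.2, congrArg (fun x : KP => ((x : (P : Subgroup G)) : G)) hq'⟩

theorem Hyp.sylow_mem_commutator (h : Hyp K g) {p : ℕ} [Fact p.Prime] (hp2 : p ≠ 2)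
    (P : Sylow p G) (hgP : g ∈ P)
    (hcen : ∀ u : G, (∀ v : G, ⁅u, v⁆ ∈ K) → u ∈ commutator G) :
    (P : Subgroup G) ≤ commutator G := by
  classical
  obtain ⟨q, hq, hgq, -, habN, hxq⟩ := h.exists_prime
  set π := QuotientGroup.mk' K with hπ
  have hab' : ∀ x ∈ commutator G, ∀ y ∈ commutator G, π x * π y = π y * π x := by
    intro x hx y hy
    rw [← commutatorElement_eq_one_iff_mul_comm, ← map_commutatorElement]
    exact (QuotientGroup.eq_one_iff _).2 (habN x hx y hy)
  -- an element inverting `g`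
  obtain ⟨h0, hh0⟩ := isConj_iff.1 (h.cls g⁻¹ ((commutator G).inv_mem h.mem)
    (fun e => h.not_mem (by simpa using K.inv_mem e)))
  have hinv : ∀ n ∈ commutator G, π (h0 * n * h0⁻¹) = (π n)⁻¹ := by
    intro n hn
    by_cases hnK : n ∈ K
    · rw [show π n = 1 from (QuotientGroup.eq_one_iff n).2 hnK, inv_one]
      exact (QuotientGroup.eq_one_iff _).2 (conj_iff.2 hnK)
    obtain ⟨v, rfl⟩ := isConj_iff.1 (h.cls n hn hnK)
    -- `h0 v` and `v h0` differ by an element of the derived subgroup
    have hs : ⁅h0, v⁆ ∈ commutator G :=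
      Subgroup.commutator_mem_commutator (mem_top _) (mem_top _)
    have hm : v * g⁻¹ * v⁻¹ ∈ commutator G :=
      (inferInstance : (commutator G).Normal).conj_mem _ ((commutator G).inv_mem h.mem) v
    have e : h0 * (v * g * v⁻¹) * h0⁻¹ = ⁅h0, v⁆ * (v * g⁻¹ * v⁻¹) * ⁅h0, v⁆⁻¹ := by
      rw [← hh0, commutatorElement_def]; group
    rw [e, map_mul, map_mul, map_inv, hab' _ hs _ hm, mul_inv_cancel_right, ← map_inv]
    congr 1
    group
  -- make it of two-power order modulo K
  obtain ⟨e, o, ho, hoe⟩ := Nat.exists_eq_pow_mul_and_not_dvd (orderOf_pos (π h0)).ne' 2 (by omega)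
  set h1 := h0 ^ o with hh1
  have hinv1 : ∀ n ∈ commutator G, π h1 * π n * (π h1)⁻¹ = (π n)⁻¹ := by
    intro n hn
    obtain ⟨k, hk⟩ : Odd o := Nat.odd_iff.2 (by omega)
    have : ∀ j : ℕ, π (h0 ^ (2 * j + 1)) * π n * (π (h0 ^ (2 * j + 1)))⁻¹ = (π n)⁻¹ := by
      intro j
      induction j with
      | zero =>
        rw [show 2 * 0 + 1 = 1 from rfl, pow_one, ← map_inv, ← map_mul, ← map_mul]
        exact hinv n hn
      | succ j ih =>
        have hm : h0 ^ (2 * j + 1) * n * (h0 ^ (2 * j + 1))⁻¹ ∈ commutator G :=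
          (inferInstance : (commutator G).Normal).conj_mem n hn _
        have h2 : ∀ m ∈ commutator G, π h0 * (π h0 * π m * (π h0)⁻¹) * (π h0)⁻¹ = π m := by
          intro m hm
          have a1 := hinv m hm
          rw [map_mul, map_mul, map_inv] at a1
          rw [a1]
          have a2 := hinv m⁻¹ ((commutator G).inv_mem hm)
          rw [map_mul, map_mul, map_inv, map_inv, inv_inv] at a2
          exact a2
        have a := h2 _ hm
        rw [map_mul, map_mul, map_inv, ih] at a
        rw [show 2 * (j + 1) + 1 = 1 + (1 + (2 * j + 1)) by ring, pow_add, pow_add, pow_one,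
          map_mul, map_mul, mul_inv_rev, mul_inv_rev, ← a, ← ih]
        group
    rw [hh1, hk]; exact this k
  intro u hu
  -- the coset of `u` modulo the derived subgroup
  set N := (commutator G).map π with hN
  have hmk : ∀ m : G, π m ∈ N → m ∈ commutator G := by
    rintro m ⟨n, hn, e⟩
    have := (commutator G).mul_mem hn (h.le (QuotientGroup.eq.1 e))
    simpa using this
  let σ : Equiv.Perm (G ⧸ K) := (MulAut.conj (π h1)).toEquiv
  have hcl : ∀ a b : G, a⁻¹ * b * a * b⁻¹ ∈ commutator G := by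
    intro a b
    have := Subgroup.commutator_mem_commutator (mem_top a⁻¹) (mem_top b)
      (H₁ := (⊤ : Subgroup G)) (H₂ := (⊤ : Subgroup G))
    rw [commutatorElement_def, inv_inv] at this
    exact this
  have hNn : N.Normal := (inferInstance : (commutator G).Normal).map π
    (QuotientGroup.mk'_surjective K)
  have hσmem : ∀ z, (π u)⁻¹ * σ z ∈ N ↔ (π u)⁻¹ * z ∈ N := by
    intro z
    obtain ⟨m, rfl⟩ := QuotientGroup.mk'_surjective K z
    have key : (π m)⁻¹ * σ (π m) ∈ N := by
      change (π m)⁻¹ * (π h1 * π m * (π h1)⁻¹) ∈ N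
      rw [← map_inv, ← map_inv, ← map_mul, ← map_mul, ← map_mul]
      refine Subgroup.mem_map_of_mem π ?_
      have := hcl m h1
      simpa [mul_assoc] using this
    constructor
    · intro hz
      have e : (π u)⁻¹ * π m = (π u)⁻¹ * σ (π m) * ((π m)⁻¹ * σ (π m))⁻¹ := by group
      exact e ▸ N.mul_mem hz (N.inv_mem key)
    · intro hz
      have e : (π u)⁻¹ * σ (π m) = (π u)⁻¹ * π m * ((π m)⁻¹ * σ (π m)) := by group
      exact e ▸ N.mul_mem hz key
  let τ : Equiv.Perm {z : G ⧸ K // (π u)⁻¹ * z ∈ N} := σ.subtypePerm hσmem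
  have hNcard : ∃ a, Nat.card N = q ^ a := by
    have := Fact.mk hq
    refine IsPGroup.iff_card.1 (fun x => ?_)
    obtain ⟨y, hy, hxy⟩ := x.2
    refine ⟨1, Subtype.ext ?_⟩
    rw [pow_one, Subgroup.coe_pow, ← hxy, ← map_pow]
    exact (QuotientGroup.eq_one_iff _).2 (hxq y hy)
  have := Fact.mk hq
  have hqp : q = p := by
    obtain ⟨k, hk⟩ := P.2 ⟨g, hgP⟩
    have h1 : orderOf (π g) ∣ p ^ k :=
      (orderOf_map_dvd π g).trans (orderOf_dvd_of_pow_eq_one (congrArg Subtype.val hk))
    have h2 : orderOf (π g) = q := orderOf_eq_prime (by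
      rw [← map_pow]; exact (QuotientGroup.eq_one_iff _).2 hgq)
      (fun e => h.not_mem ((QuotientGroup.eq_one_iff g).1 e))
    exact (Nat.prime_dvd_prime_iff_eq hq Fact.out).1 (hq.dvd_of_dvd_pow (h2 ▸ h1))
  have hNodd : Odd (Nat.card N) := by
    obtain ⟨a, ha⟩ := hNcard
    rw [ha, hqp]
    exact ((Fact.out : p.Prime).odd_of_ne_two hp2).pow
  have hcard : Nat.card {z : G ⧸ K // (π u)⁻¹ * z ∈ N} = Nat.card N :=
    Nat.card_congr
      { toFun := fun z => ⟨(π u)⁻¹ * z, z.2⟩
        invFun := fun d => ⟨π u * d, by simpa using d.2⟩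
        left_inv := fun z => Subtype.ext (by simp)
        right_inv := fun d => Subtype.ext (by simp) }
  have hσpow : ∀ n : ℕ, ∀ z, (σ ^ n) z = π h1 ^ n * z * (π h1 ^ n)⁻¹ := by
    intro n
    induction n with
    | zero => intro z; simp
    | succ n ih =>
      intro z
      rw [pow_succ', Equiv.Perm.mul_apply, ih]
      change π h1 * (π h1 ^ n * z * (π h1 ^ n)⁻¹) * (π h1)⁻¹ = _
      rw [pow_succ']; group
  have hτ : τ ^ (2 ^ e) = 1 := by
    refine Equiv.ext fun z => Subtype.ext ?_
    rw [Equiv.Perm.subtypePerm_pow, Equiv.Perm.subtypePerm_apply]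
    change (σ ^ (2 ^ e)) z.1 = z.1
    rw [hσpow, hh1, map_pow, ← pow_mul, mul_comm o, ← hoe, pow_orderOf_eq_one]
    simp
  have : Fintype {z : G ⧸ K // (π u)⁻¹ * z ∈ N} := Fintype.ofFinite _
  obtain ⟨⟨z, hzu⟩, hfix⟩ := Equiv.Perm.exists_fixed_point_of_prime (p := 2) (by
    rw [← Nat.card_eq_fintype_card, hcard]
    exact fun hd => (Nat.not_even_iff_odd.2 hNodd) ((even_iff_two_dvd).2 hd)) hτ
  obtain ⟨w, rfl⟩ := QuotientGroup.mk'_surjective K z
  have hfix' : π h1 * π w * (π h1)⁻¹ = π w := congrArg Subtype.val hfix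
  have hwu : u⁻¹ * w ∈ commutator G := hmk _ (by rw [map_mul, map_inv]; exact hzu)
  -- `w` centralises the image of the derived subgroup
  have hwc : ∀ n ∈ commutator G, π w * π n = π n * π w := by
    intro n hn
    have h1' : π u * π n = π n * π u := by
      by_cases hnK : n ∈ K
      · rw [show π n = 1 from (QuotientGroup.eq_one_iff n).2 hnK, one_mul, mul_one]
      obtain ⟨v, hv⟩ := isConj_iff.1 (h.cls n hn hnK)
      have hu' : ⁅u, v⁆ ∈ commutator G :=
        Subgroup.commutator_mem_commutator (mem_top _) (mem_top _)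
      have hug : π u * π g = π g * π u := by
        rw [← commutatorElement_eq_one_iff_mul_comm, ← map_commutatorElement]
        exact (QuotientGroup.eq_one_iff _).2 ((h.sylow_class P hgP).1 u hu)
      have hm : v * (u * g * u⁻¹) * v⁻¹ ∈ commutator G :=
        (inferInstance : (commutator G).Normal).conj_mem _
          ((inferInstance : (commutator G).Normal).conj_mem _ h.mem u) v
      have e : u * n * u⁻¹ = ⁅u, v⁆ * (v * (u * g * u⁻¹) * v⁻¹) * ⁅u, v⁆⁻¹ := by
        rw [← hv, commutatorElement_def]; group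
      have e2 : π (u * n * u⁻¹) = π n := by
        rw [e, map_mul, map_mul, map_inv, hab' _ hu' _ hm, mul_inv_cancel_right, ← hv,
          map_mul, map_mul, map_mul, map_mul, map_mul, map_mul, map_inv π u, hug,
          mul_inv_cancel_right]
      rw [map_mul, map_mul, map_inv] at e2
      exact mul_inv_eq_iff_eq_mul.1 e2
    have h2' := hab' _ hwu n hn
    have e : π w = π u * π (u⁻¹ * w) := by rw [← map_mul, mul_inv_cancel_left]
    rw [e, mul_assoc, h2', ← mul_assoc, h1', mul_assoc]
  -- hence `w` is central modulo `K`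
  have hwz : ∀ v, ⁅w, v⁆ ∈ K := by
    intro v
    have hd : ⁅w, v⁆ ∈ commutator G :=
      Subgroup.commutator_mem_commutator (mem_top _) (mem_top _)
    obtain ⟨n, hn, hv⟩ : ∃ n ∈ commutator G, π h1 * π v * (π h1)⁻¹ = π v * π n := by
      refine ⟨v⁻¹ * (h1 * v * h1⁻¹), by simpa [mul_assoc] using hcl v h1, ?_⟩
      rw [← map_inv, ← map_mul, ← map_mul, ← map_mul]; congr 1; group
    have e1 : π h1 * π ⁅w, v⁆ * (π h1)⁻¹ = π ⁅w, v⁆ := by
      rw [map_commutatorElement]
      change MulAut.conj (π h1) ⁅π w, π v⁆ = _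
      rw [map_commutatorElement]
      change ⁅π h1 * π w * (π h1)⁻¹, π h1 * π v * (π h1)⁻¹⁆ = _
      rw [hfix', hv, commutatorElement_def, commutatorElement_def]
      have hc := hwc n hn
      calc π w * (π v * π n) * (π w)⁻¹ * (π v * π n)⁻¹
          = π w * π v * (π w)⁻¹ * (π w * π n) * (π w)⁻¹ * (π n)⁻¹ * (π v)⁻¹ := by group
        _ = π w * π v * (π w)⁻¹ * (π n * π w) * (π w)⁻¹ * (π n)⁻¹ * (π v)⁻¹ := by rw [hc]
        _ = _ := by group
    rw [hinv1 _ hd] at e1
    by_contra hK
    have hne : π ⁅w, v⁆ ≠ 1 := fun e => hK ((QuotientGroup.eq_one_iff _).1 e)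
    have h2 : π ⁅w, v⁆ ^ 2 = 1 := by
      rw [pow_two]; nth_rewrite 1 [← e1]; exact inv_mul_cancel _
    have h3 : orderOf (π ⁅w, v⁆) = 2 := orderOf_eq_prime h2 hne
    have h4 : orderOf (π ⁅w, v⁆) ∣ q :=
      orderOf_dvd_of_pow_eq_one (by rw [← map_pow]; exact (QuotientGroup.eq_one_iff _).2 (hxq _ hd))
    rw [h3, hqp] at h4
    exact hp2 ((Nat.prime_dvd_prime_iff_eq Nat.prime_two Fact.out).1 h4).symm
  have := (commutator G).mul_mem (hcen w hwz) ((commutator G).inv_mem hwu)
  simpa using this

/-- The main statement. -/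
theorem Hyp.solvable (h : Hyp K g) (hcen : ∀ u : G, (∀ v : G, ⁅u, v⁆ ∈ K) → u ∈ commutator G) :
    Group.IsSolvable G := by
  classical
  obtain ⟨p, hp, hgp, ⟨k, hgk⟩, habN, hxp⟩ := h.exists_prime
  have := Fact.mk hp
  obtain ⟨P, hgP⟩ : ∃ P : Sylow p G, g ∈ P := by
    have hgen : IsPGroup p (zpowers g) := by
      intro x
      obtain ⟨i, hi⟩ := x.2
      refine ⟨k, Subtype.ext ?_⟩
      rw [Subgroup.coe_pow, Subgroup.coe_one, ← hi, ← zpow_natCast, ← zpow_mul,
        mul_comm, zpow_mul, zpow_natCast, hgk, one_zpow]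
    obtain ⟨P, hP⟩ := hgen.exists_le_sylow
    exact ⟨P, hP (mem_zpowers g)⟩
  set PP := (P : Subgroup G) with hPP
  obtain ⟨hPK, hclass⟩ := h.sylow_class P hgP
  -- `P ∩ K` is in the derived subgroup of `P`
  have hKD : ∀ x : PP, (x : G) ∈ K → x ∈ commutator PP := by
    intro x hx
    obtain ⟨y, hy, hyc⟩ := hclass x ⟨x.2, hx⟩
    have h1 : ⁅(⟨y, hy⟩ : PP), (⟨g, hgP⟩ : PP)⁆ ∈ commutator PP :=
      Subgroup.commutator_mem_commutator (mem_top _) (mem_top _)
    convert h1 using 1
    exact Subtype.ext hyc.symm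
  have hTate : Cfsg.HasNormalPComplement p K := by
    refine Cfsg.Agent.S0081.result P K ?_
    intro x hx
    exact ⟨⟨x, hx.2⟩, PGroupsBasic.commutator_le_frattini P.2 (hKD ⟨x, hx.2⟩ hx.1), rfl⟩
  obtain ⟨Q, R0, hR0n, hR0c⟩ := hTate
  set R := R0.map K.subtype with hRdef
  have hRK : R ≤ K := Subgroup.map_subtype_le R0
  have hRcard : Nat.card R = (Q : Subgroup K).index := by
    rw [hRdef, Subgroup.card_subtype, hR0c.index_eq_card]
  have hpR : ¬ p ∣ Nat.card R := hRcard ▸ Q.not_dvd_index
  have hRn : R.Normal := by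
    refine ⟨fun r hr v => ?_⟩
    have hvK : v * r * v⁻¹ ∈ K := conj_iff.2 (hRK hr)
    refine ⟨⟨v * r * v⁻¹, hvK⟩, ?_, rfl⟩
    rw [SetLike.mem_coe, ← QuotientGroup.eq_one_iff, ← orderOf_eq_one_iff, ← Nat.dvd_one]
    have h1 : orderOf ((⟨v * r * v⁻¹, hvK⟩ : K) : K ⧸ R0) ∣ Nat.card (K ⧸ R0) :=
      orderOf_dvd_natCard _
    rw [← Subgroup.index_eq_card, hR0c.symm.index_eq_card] at h1
    have h2 : orderOf ((⟨v * r * v⁻¹, hvK⟩ : K) : K ⧸ R0) ∣ Nat.card R := by
      refine (orderOf_map_dvd (QuotientGroup.mk' R0) _).trans ?_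
      rw [← Subgroup.orderOf_coe]
      change orderOf (v * r * v⁻¹) ∣ _
      rw [show v * r * v⁻¹ = MulAut.conj v r from rfl]
      refine (orderOf_map_dvd (MulAut.conj v).toMonoidHom r).trans ?_
      have h3 := orderOf_dvd_natCard (⟨r, hr⟩ : R)
      rwa [← Subgroup.orderOf_coe] at h3
    obtain ⟨j, hj⟩ := IsPGroup.iff_card.1 Q.2
    rw [hj] at h1
    have := Nat.dvd_gcd h1 h2
    rwa [Nat.Coprime.gcd_eq_one ((hp.coprime_iff_not_dvd.2 hpR).pow_left j)] at this
  -- the three layers
  have hKsolv : Group.IsSolvable R → Group.IsSolvable K := by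
    intro hR
    have h1 : Group.IsSolvable R0 := solvable_of_solvable_injective (G' := R)
      (f := (Subgroup.equivMapOfInjective R0 K.subtype K.subtype_injective).toMonoidHom)
      (MulEquiv.injective _)
    have h2 : Group.IsSolvable (K ⧸ R0) := by
      have : IsPGroup p (K ⧸ R0) := by
        refine IsPGroup.iff_card.2 ?_
        rw [← Subgroup.index_eq_card, hR0c.symm.index_eq_card]
        exact IsPGroup.iff_card.1 Q.2
      have := this.isNilpotent
      infer_instance
    exact solvable_of_ker_le_range R0.subtype (QuotientGroup.mk' R0)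
      (by rw [QuotientGroup.ker_mk', Subgroup.range_subtype])
  have hfinal : Group.IsSolvable R → Group.IsSolvable G := by
    intro hR
    have := hKsolv hR
    have h1 : Group.IsSolvable (G ⧸ K) := by
      rw [isSolvable_def]
      refine ⟨2, ?_⟩
      rw [derivedSeries_succ, derivedSeries_one, eq_bot_iff, Subgroup.commutator_le]
      have hcm : commutator (G ⧸ K) = (commutator G).map (QuotientGroup.mk' K) := by
        simp only [_root_.commutator_def, Subgroup.map_commutator,
          Subgroup.map_top_of_surjective _ (QuotientGroup.mk'_surjective K)]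
      rw [hcm]
      rintro _ ⟨x, hx, rfl⟩ _ ⟨y, hy, rfl⟩
      rw [Subgroup.mem_bot, ← map_commutatorElement]
      exact (QuotientGroup.eq_one_iff _).2 (habN x hx y hy)
    exact solvable_of_ker_le_range K.subtype (QuotientGroup.mk' K)
      (by rw [QuotientGroup.ker_mk', Subgroup.range_subtype])
  refine hfinal ?_
  rcases eq_or_ne p 2 with rfl | hp2
  · exact Cfsg.Agent.S0205.result (Nat.not_even_iff_odd.1 fun he => hpR he.two_dvd)
  -- odd p
  have hPG := h.sylow_mem_commutator hp2 P hgP hcen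
  have hDK : ∀ x : PP, x ∈ commutator PP ↔ (x : G) ∈ K := by
    refine fun x => ⟨fun hx => ?_, hKD x⟩
    have : commutator PP ≤ K.subgroupOf PP := by
      rw [_root_.commutator_def, Subgroup.commutator_le]
      intro a _ b _
      exact habN a (hPG a.2) b (hPG b.2)
    exact this hx
  -- elements outside the derived subgroup are fixed-point-free
  have hfpf : ∀ x : PP, x ∉ commutator PP → ∀ r ∈ R, (x : G) * r * (x : G)⁻¹ = r → r = 1 := by
    intro x hx r hr hfx
    have hxK : (x : G) ∉ K := fun e => hx ((hDK x).2 e)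
    have hh := h.change (hPG x.2) hxK
    have hc : Commute (x : G) r := mul_inv_eq_iff_eq_mul.1 hfx
    have hrx : (x : G) * r ∉ K := fun e => hxK (by
      have := K.mul_mem e (K.inv_mem (hRK hr)); simpa using this)
    obtain ⟨v, hv⟩ := isConj_iff.1 (hh.cls _ ((commutator G).mul_mem (hPG x.2) (h.le (hRK hr))) hrx)
    obtain ⟨i, hi⟩ := P.2 x
    have hi' : (x : G) ^ p ^ i = 1 := congrArg Subtype.val hi
    have h1 : ((x : G) * r) ^ p ^ i = 1 := by rw [← hv, conj_pow, hi']; group
    rw [hc.mul_pow, hi', one_mul] at h1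
    have h2 : orderOf r ∣ Nat.gcd (p ^ i) (Nat.card R) := by
      refine Nat.dvd_gcd (orderOf_dvd_of_pow_eq_one h1) ?_
      have h3 := orderOf_dvd_natCard (⟨r, hr⟩ : R)
      rwa [← Subgroup.orderOf_coe] at h3
    rw [Nat.Coprime.gcd_eq_one ((hp.coprime_iff_not_dvd.2 hpR).pow_left i)] at h2
    exact orderOf_eq_one_iff.1 (Nat.dvd_one.1 h2)
  have hexp : ∀ x : PP, x ^ p ∈ commutator PP := fun x => (hDK _).2 (hxp x (hPG x.2))
  -- class at most two
  have hclass2 : commutator PP ≤ center PP := by
    refine SeenOnceClassTwo59.commutator_le_center (p := p) hp2 P.2 ?_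
      (Subgroup.normalizerMonoidHom PP) ?_ ?_
    · intro x hx c hc
      have hxK : (x : G) ∉ K := fun e => hx ((hDK x).2 e)
      obtain ⟨y, hy, hyc⟩ := ((h.change (hPG x.2) hxK).sylow_class P x.2).2 (c⁻¹ : PP)
        ⟨(c⁻¹).2, (hDK _).1 ((commutator PP).inv_mem hc)⟩
      refine ⟨⟨y, hy⟩, ?_⟩
      rw [← commutatorElement_inv]
      refine inv_eq_iff_eq_inv.2 (Subtype.ext ?_)
      exact hyc
    · intro x hx y hy
      have hxK : (x : G) ∉ K := fun e => hx ((hDK x).2 e)
      have hyK : (y : G) ∉ K := fun e => hy ((hDK y).2 e)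
      obtain ⟨v, hv⟩ := isConj_iff.1 ((h.change (hPG x.2) hxK).cls y (hPG y.2) hyK)
      have htop := Sylow.normalizer_sup_eq_top' P hPG
      have hv0 : v ∈ normalizer (PP : Set G) ⊔ commutator G := htop ▸ mem_top v
      have hvmem : v ∈ ((commutator G ⊔ normalizer (PP : Set G) : Subgroup G) : Set G) := by
        rw [sup_comm]; exact hv0
      rw [Subgroup.normal_mul] at hvmem
      obtain ⟨s, hs, n, hn, rfl⟩ := hvmem
      refine ⟨⟨n, hn⟩, (hDK _).2 ?_⟩
      change (n * (x : G) * n⁻¹)⁻¹ * (y : G) ∈ K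
      rw [← QuotientGroup.eq]
      have hm : n * (x : G) * n⁻¹ ∈ commutator G :=
        (inferInstance : (commutator G).Normal).conj_mem _ (hPG x.2) n
      have := habN s hs _ hm
      rw [← hv]
      rw [show s * n * (x : G) * (s * n)⁻¹ = ⁅s, n * (x : G) * n⁻¹⁆ * (n * (x : G) * n⁻¹) by
        rw [commutatorElement_def]; group]
      exact ((QuotientGroup.mk_mul K _ _).trans
        (by rw [(QuotientGroup.eq_one_iff _).2 this, one_mul])).symm
    · intro β γ x
      refine (hDK _).2 ?_
      set a := (β : G)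
      set b := (γ : G)
      change (a * (b * (x : G) * b⁻¹) * a⁻¹)⁻¹ * (b * (a * (x : G) * a⁻¹) * b⁻¹) ∈ K
      rw [← QuotientGroup.eq]
      have hm : b * (a * (x : G) * a⁻¹) * b⁻¹ ∈ commutator G :=
        (inferInstance : (commutator G).Normal).conj_mem _
          ((inferInstance : (commutator G).Normal).conj_mem _ (hPG x.2) a) b
      have hs : ⁅a, b⁆ ∈ commutator G :=
        Subgroup.commutator_mem_commutator (mem_top _) (mem_top _)
      have := habN _ hs _ hm
      rw [show a * (b * (x : G) * b⁻¹) * a⁻¹ = ⁅⁅a, b⁆, b * (a * (x : G) * a⁻¹) * b⁻¹⁆ *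
        (b * (a * (x : G) * a⁻¹) * b⁻¹) by
        simp only [commutatorElement_def]; group, QuotientGroup.mk_mul,
        (QuotientGroup.eq_one_iff _).2 this, one_mul]
  set D := commutator PP with hD
  by_cases hbig : p ^ 2 ≤ D.index
  · -- `R` is trivial
    suffices R = ⊥ by
      rw [this]; infer_instance
    by_contra hR1
    obtain ⟨q, hq, hqR⟩ := Nat.exists_prime_and_dvd (n := Nat.card R)
      (fun e => hR1 (Subgroup.card_eq_one.1 e))
    have := Fact.mk hq
    let actR : PP →* MulAut R := (MulAut.conjNormal (H := R)).comp PP.subtype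
    let _ : MulAction PP (Sylow q R) := MulAction.compHom _ actR
    have hnd : ¬ p ∣ Nat.card (Sylow q R) := by
      obtain ⟨Q1⟩ : Nonempty (Sylow q R) := inferInstance
      intro hd
      exact hpR (hd.trans ((Sylow.card_dvd_index Q1).trans (Subgroup.index_dvd_card _)))
    obtain ⟨Q1, hQ1⟩ := (show IsPGroup p PP from P.2).nonempty_fixed_point_of_prime_not_dvd_card
      (Sylow q R) hnd
    set Q2 := (Q1 : Subgroup R).map R.subtype with hQ2
    have hQinv : ∀ (x : PP), ∀ a ∈ Q2, (x : G) * a * (x : G)⁻¹ ∈ Q2 := by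
      rintro x _ ⟨a, ha, rfl⟩
      refine ⟨actR x a, ?_, rfl⟩
      have h1 := congrArg (fun S : Sylow q R => (S : Subgroup R)) (hQ1 x)
      change actR x • (Q1 : Subgroup R) = (Q1 : Subgroup R) at h1
      rw [← h1]
      exact Subgroup.smul_mem_pointwise_smul a (actR x) _ ha
    set V := Q2 ⊓ centralizer (Q2 : Set G) with hV
    have hVinv : ∀ (x : PP), ∀ a ∈ V, (x : G) * a * (x : G)⁻¹ ∈ V := by
      intro x a ha
      refine ⟨hQinv x a ha.1, fun b hb => ?_⟩
      have h1 : (x : G)⁻¹ * b * (x : G) ∈ Q2 := by simpa using hQinv x⁻¹ b hb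
      have h2 := ha.2 _ h1
      calc b * ((x : G) * a * (x : G)⁻¹) = (x : G) * ((x : G)⁻¹ * b * (x : G) * a) * (x : G)⁻¹ := by
            group
        _ = (x : G) * (a * ((x : G)⁻¹ * b * (x : G))) * (x : G)⁻¹ := by rw [h2]
        _ = _ := by group
    let _ : CommGroup V := { (inferInstance : Group V) with
      mul_comm := fun a b => Subtype.ext ((b.2.2 a a.2.1)) }
    have hVne : V ≠ ⊥ := by
      have hQ0 : (Q1 : Subgroup R) ≠ ⊥ := Q1.ne_bot_of_dvd_card hqR
      have : Nontrivial Q1 := (Subgroup.nontrivial_iff_ne_bot _).2 hQ0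
      have := Q1.2.center_nontrivial
      obtain ⟨z, hz, hz1⟩ := (center Q1).bot_or_exists_ne_one.resolve_left
        ((Subgroup.nontrivial_iff_ne_bot _).1 this)
      intro e
      refine hz1 (Subtype.ext (Subtype.ext (Subgroup.mem_bot.1 (e ▸ ⟨⟨z, z.2, rfl⟩, ?_⟩ :
        ((z : R) : G) ∈ (⊥ : Subgroup G)))))
      rintro _ ⟨a, ha, rfl⟩
      exact congrArg (fun w : Q1 => ((w : R) : G)) (Subgroup.mem_center_iff.1 hz ⟨a, ha⟩)
    have : Nontrivial V := (Subgroup.nontrivial_iff_ne_bot V).2 hVne
    let _ : MulDistribMulAction PP V :=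
      { smul := fun x a => ⟨(x : G) * a * (x : G)⁻¹, hVinv x a a.2⟩
        one_smul := fun a => Subtype.ext (by
          change ((1 : PP) : G) * (a : G) * ((1 : PP) : G)⁻¹ = a
          simp)
        mul_smul := fun x y a => Subtype.ext (by
          change ((x * y : PP) : G) * (a : G) * ((x * y : PP) : G)⁻¹ =
            (x : G) * ((y : G) * a * (y : G)⁻¹) * (x : G)⁻¹
          push_cast; group)
        smul_mul := fun x a b => Subtype.ext (by
          change (x : G) * ((a * b : V) : G) * (x : G)⁻¹ =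
            (x : G) * a * (x : G)⁻¹ * ((x : G) * b * (x : G)⁻¹)
          push_cast; group)
        smul_one := fun x => Subtype.ext (by
          change (x : G) * ((1 : V) : G) * (x : G)⁻¹ = ((1 : V) : G)
          simp) }
    have hVR : V ≤ R := inf_le_left.trans (Subgroup.map_subtype_le _)
    refine no_action (P := PP) (W := V) hp2 hclass2 hexp hbig ?_ ?_
    · intro x hx w hw
      exact Subtype.ext (hfpf x hx w (hVR w.2) (congrArg Subtype.val hw))
    · exact (hp.coprime_iff_not_dvd.2 hpR).coprime_dvd_right (Subgroup.card_dvd_of_le hVR)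
  · -- `P` is cyclic of order `p`
    have hPab : ∀ a b : PP, a * b = b * a := by
      have : IsCyclic (PP ⧸ D) := by
        obtain ⟨a, ha⟩ := IsPGroup.iff_card.1 ((show IsPGroup p PP from P.2).to_quotient D)
        rw [← Subgroup.index_eq_card] at ha
        have ha1 : a < 2 := (Nat.pow_lt_pow_iff_right hp.one_lt).1 (ha ▸ (not_le.1 hbig))
        interval_cases a
        · have : Subsingleton (PP ⧸ D) := (Nat.card_eq_one_iff_unique.1 (by
            rw [← Subgroup.index_eq_card, ha, pow_zero])).1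
          infer_instance
        · exact isCyclic_of_prime_card (p := p) (by rw [← Subgroup.index_eq_card, ha, pow_one])
      intro a b
      exact commutative_of_cyclic_center_quotient (QuotientGroup.mk' D)
        (by rw [QuotientGroup.ker_mk']; exact hclass2) a b
    have hgp1 : g ^ p = 1 := by
      have h1 : D = ⊥ := by
        rw [hD, _root_.commutator_def, eq_bot_iff, Subgroup.commutator_le]
        intro a _ b _
        rw [Subgroup.mem_bot, commutatorElement_eq_one_iff_mul_comm]
        exact hPab a b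
      have := hexp ⟨g, hgP⟩
      rw [h1, Subgroup.mem_bot] at this
      exact congrArg Subtype.val this
    by_cases hR1 : R = ⊥
    · rw [hR1]; infer_instance
    let φ : R ≃* R := MulAut.conjNormal (H := R) g
    have hgD : (⟨g, hgP⟩ : PP) ∉ commutator PP := fun e => h.not_mem ((hDK _).1 e)
    have hφ : MonoidHom.FixedPointFree (φ : R →* R) := fun r hr =>
      Subtype.ext (hfpf ⟨g, hgP⟩ hgD r r.2 (congrArg Subtype.val hr))
    have hφ1 : φ ≠ 1 := by
      intro e
      obtain ⟨r, hr, hr1⟩ := R.bot_or_exists_ne_one.resolve_left hR1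
      refine hr1 (congrArg Subtype.val (hφ (g := (⟨r, hr⟩ : R)) ?_))
      exact DFunLike.congr_fun e (⟨r, hr⟩ : R)
    have hφp : φ ^ p = 1 := by
      change (MulAut.conjNormal (H := R) g) ^ p = 1
      rw [← map_pow, hgp1, map_one]
    have := Cfsg.Agent.S0033.result φ hφ p hp (orderOf_eq_prime hφp hφ1)
    infer_instance

end main

end Cfsg.Agent.SeenOnceSolvable59
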