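import Mathlib
import Cfsg.Agent.Lib.PGroupsBasic
import Cfsg.Agent.Lib.FourGenerator94

/-!
Preliminaries for 2-groups with a self-centralising elementary abelian subgroup of order 8: an
involution `a` with `⟨a⟩ × C_U(a)` self-centralising for a normal elementary abelian `U`, 2-groups of
exponent 4 with an involution of small centraliser, and the action on normal subgroups of order 8.
-/

set_option autoImplicit false
set_option linter.unusedSectionVars false
set_option linter.unusedVariables false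
set_option linter.style.haveILetI false

open Subgroup

namespace Cfsg.Agent.SelfCentE8Base94

variable {P : Type*} [Group P]

/-- A normal elementary abelian subgroup `U` and an involution `a` such that `C_U(a)` has order 4
and the elements commuting with `a` and `C_U(a)` are in `⟨a⟩ C_U(a)`. -/
structure Pair (P : Type*) [Group P] where
  U : Subgroup P
  normal : U.Normal
  sq : ∀ u ∈ U, u * u = 1
  a : P
  a2 : a * a = 1
  aU : a ∉ U
  big : 8 ≤ Nat.card U
  fix4 : Nat.card ↥(U ⊓ centralizer ({a} : Set P)) = 4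
  self : ∀ x : P, x * a = a * x → (∀ u ∈ U, u * a = a * u → x * u = u * x) →
    (x ∈ U ∧ x * a = a * x) ∨ (a * x ∈ U ∧ a * x * a = a * (a * x))
  hP : IsPGroup 2 P

theorem inv_of_sq {x : P} (h : x * x = 1) : x⁻¹ = x := inv_eq_of_mul_eq_one_right h

theorem comm_of_sq {U : Subgroup P} (h : ∀ u ∈ U, u * u = 1) {x y : P} (hx : x ∈ U) (hy : y ∈ U) :
    x * y = y * x := by
  have h1 := inv_of_sq (h _ (mul_mem hx hy))
  rw [mul_inv_rev, inv_of_sq (h x hx), inv_of_sq (h y hy)] at h1
  exact h1.symm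

section pair

variable (p : Pair P)

/-- `C_U(a)`. -/
def Pair.F : Subgroup P := p.U ⊓ centralizer ({p.a} : Set P)

theorem mem_F {u : P} : u ∈ p.F ↔ u ∈ p.U ∧ u * p.a = p.a * u := by
  simp only [Pair.F, Subgroup.mem_inf, mem_centralizer_iff, Set.mem_singleton_iff, forall_eq]
  exact and_congr_right fun _ => eq_comm

theorem card_F : Nat.card p.F = 4 := p.fix4

theorem conj_U {u : P} (hu : u ∈ p.U) (g : P) : g * u * g⁻¹ ∈ p.U := p.normal.conj_mem u hu g

theorem aU_mem {u : P} (hu : u ∈ p.U) : p.a * u * p.a ∈ p.U := by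
  have := conj_U p hu p.a
  rwa [inv_of_sq p.a2] at this

/-- The commutator of an element of `U` with `a`. -/
theorem comm_mem_F {u : P} (hu : u ∈ p.U) : u * (p.a * u * p.a) ∈ p.F := by
  have h1 := aU_mem p hu
  have hc := comm_of_sq p.sq hu h1
  refine (mem_F p).mpr ⟨mul_mem hu h1, ?_⟩
  calc u * (p.a * u * p.a) * p.a = u * p.a * u * (p.a * p.a) := by group
    _ = u * p.a * u := by rw [p.a2, mul_one]
    _ = p.a * (p.a * u * p.a) * u := by
      rw [show p.a * (p.a * u * p.a) * u = (p.a * p.a) * (u * p.a) * u by group, p.a2, one_mul]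
    _ = _ := by rw [mul_assoc p.a, ← hc]

/-- `self` in the form used below. -/
theorem self_cases {x : P} (h1 : x * p.a = p.a * x) (h2 : ∀ u ∈ p.F, x * u = u * x) :
    x ∈ p.F ∨ p.a * x ∈ p.F := by
  rcases p.self x h1 (fun u hu hua => h2 u ((mem_F p).mpr ⟨hu, hua⟩)) with h | h
  · exact Or.inl ((mem_F p).mpr h)
  · exact Or.inr ((mem_F p).mpr h)

/-- Elements commuting with all of `U`. -/
def Pair.B : Subgroup P := centralizer (p.U : Set P)

theorem mem_B {x : P} : x ∈ p.B ↔ ∀ u ∈ p.U, u * x = x * u := mem_centralizer_iff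

theorem U_le_B : p.U ≤ p.B := fun u hu => (mem_B p).mpr fun v hv => comm_of_sq p.sq hv hu

theorem B_normal : p.B.Normal := by
  haveI := p.normal
  exact inferInstanceAs (centralizer (p.U : Set P)).Normal

theorem a_not_B [Finite P] : p.a ∉ p.B := by
  intro h
  have hle : p.U ≤ p.F := fun u hu => (mem_F p).mpr ⟨hu, (mem_B p).mp h u hu⟩
  have h1 := Subgroup.card_le_of_le hle
  rw [card_F] at h1
  have := p.big
  omega

theorem self_B [Finite P] {x : P} (h1 : x * p.a = p.a * x) (hx : x ∈ p.B) : x ∈ p.F := by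
  rcases self_cases p h1 (fun u hu => ((mem_B p).mp hx u ((mem_F p).mp hu).1).symm) with h | h
  · exact h
  · refine absurd ?_ (a_not_B p)
    have : p.a = p.a * x * x⁻¹ := by group
    rw [this]
    exact mul_mem (U_le_B p ((mem_F p).mp h).1) (inv_mem hx)

theorem F_le_U : p.F ≤ p.U := fun u hu => ((mem_F p).mp hu).1

theorem F_fix {u : P} (hu : u ∈ p.F) : p.a * u * p.a = u := by
  rw [← ((mem_F p).mp hu).2, mul_assoc, p.a2, mul_one]

/-- `u ↦ [u, a]` on `U`. -/
def Pair.comHom : p.U →* P := MonoidHom.mk' (fun u => (u : P) * (p.a * u * p.a)) fun u v => by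
  have hc := comm_of_sq p.sq v.2 (aU_mem p u.2)
  show (u : P) * v * (p.a * (u * v) * p.a) = _
  calc (u : P) * v * (p.a * (u * v) * p.a)
      = (u : P) * v * (p.a * u * (p.a * p.a) * v * p.a) := by rw [p.a2, mul_one]; group
    _ = (u : P) * ((v : P) * (p.a * u * p.a)) * (p.a * v * p.a) := by group
    _ = _ := by rw [hc]; group

theorem range_comHom_le : p.comHom.range ≤ p.F := by
  rintro _ ⟨u, rfl⟩; exact comm_mem_F p u.2

theorem ker_comHom : p.comHom.ker = p.F.subgroupOf p.U := by
  ext u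
  rw [MonoidHom.mem_ker, mem_subgroupOf, mem_F]
  show (u : P) * (p.a * u * p.a) = 1 ↔ _
  constructor
  · intro h
    refine ⟨u.2, ?_⟩
    rw [mul_eq_one_iff_inv_eq, inv_of_sq (p.sq u u.2)] at h
    have h2 := congrArg (· * p.a) h
    simp only [mul_assoc, p.a2, mul_one] at h2
    exact h2
  · rintro ⟨-, h⟩
    rw [← h, mul_assoc (u : P) p.a p.a, p.a2, mul_one, p.sq u u.2]

theorem card_range : Nat.card p.comHom.range * 4 = Nat.card p.U := by
  have h1 := p.comHom.ker.card_mul_index
  rw [Subgroup.index_ker, ker_comHom,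
    Nat.card_congr (Subgroup.subgroupOfEquivOfLe (F_le_U p)).toEquiv, card_F, mul_comm] at h1
  exact h1

end pair

theorem three_in [Finite P] {H : Subgroup P} {x y z : P} (hx : x ∈ H) (hy : y ∈ H) (hz : z ∈ H)
    (hxy : x ≠ y) (hxz : x ≠ z) (hyz : y ≠ z) : 3 ≤ Nat.card H := by
  have hinj : Function.Injective (![⟨x, hx⟩, ⟨y, hy⟩, ⟨z, hz⟩] : Fin 3 → H) := by
    intro i j e
    fin_cases i <;> fin_cases j <;>
      first | rfl | exact absurd (congrArg Subtype.val e) hxy |
        exact absurd (congrArg Subtype.val e) hxz | exact absurd (congrArg Subtype.val e) hyz |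
        exact absurd (congrArg Subtype.val e).symm hxy |
        exact absurd (congrArg Subtype.val e).symm hxz |
        exact absurd (congrArg Subtype.val e).symm hyz
  simpa using Nat.card_le_card_of_injective _ hinj

/-! ### An involution with a centraliser of order at most 4 in exponent 4 -/

theorem fixed_abelian {L : Subgroup P} [Finite P] (hLn : L.Normal)
    (hc : ∀ x ∈ L, ∀ y ∈ L, x * y = y * x) (h8 : Nat.card L = 8) (he : ∀ x ∈ L, x ^ 4 = 1)
    {a : P} (ha : a * a = 1)
    (hfix : Nat.card ↥(L ⊓ centralizer ({a} : Set P)) ≤ 2) : False := by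
  haveI := Fact.mk Nat.prime_two
  set Fx := L ⊓ centralizer ({a} : Set P) with hFx
  have hmem : ∀ x, x ∈ Fx ↔ x ∈ L ∧ x * a = a * x := fun x => by
    simp only [hFx, Subgroup.mem_inf, mem_centralizer_iff, Set.mem_singleton_iff, forall_eq]
    exact and_congr_right fun _ => eq_comm
  have hcj : ∀ x ∈ L, a * x * a ∈ L := fun x hx => by
    have := hLn.conj_mem x hx a
    rwa [inv_of_sq ha] at this
  have hfix' : ∀ x, a * x * a = x → x * a = a * x := fun x hx => by
    conv_lhs => rw [← hx, mul_assoc, ha, mul_one]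
  let φ : L →* P := MonoidHom.mk' (fun x => (x : P)⁻¹ * (a * x * a)) fun x y => by
    have hcc := hc _ (inv_mem y.2) _ (mul_mem (inv_mem x.2) (hcj x x.2))
    show ((x : P) * y)⁻¹ * (a * (x * y) * a) = _
    calc ((x : P) * y)⁻¹ * (a * (x * y) * a)
        = (y : P)⁻¹ * ((x : P)⁻¹ * (a * x * (a * a) * y * a)) := by rw [ha, mul_one]; group
      _ = ((y : P)⁻¹ * ((x : P)⁻¹ * (a * x * a))) * (a * y * a) := by group
      _ = _ := by rw [hcc]; group
  have hker : φ.ker = Fx.subgroupOf L := by
    ext x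
    rw [MonoidHom.mem_ker, mem_subgroupOf, hmem]
    show (x : P)⁻¹ * (a * x * a) = 1 ↔ _
    rw [inv_mul_eq_one]
    refine ⟨fun h => ⟨x.2, hfix' x h.symm⟩, fun h => ?_⟩
    rw [← h.2, mul_assoc, ha, mul_one]
  have hr : 4 ≤ Nat.card φ.range := by
    have h1 := φ.ker.card_mul_index
    rw [Subgroup.index_ker, hker,
      Nat.card_congr (Subgroup.subgroupOfEquivOfLe (inf_le_left : Fx ≤ L)).toEquiv, h8] at h1
    nlinarith
  have hinv : ∀ y ∈ φ.range, y ∈ L ∧ a * y * a = y⁻¹ := by
    rintro _ ⟨x, rfl⟩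
    refine ⟨mul_mem (inv_mem x.2) (hcj x x.2), ?_⟩
    show a * ((x : P)⁻¹ * (a * x * a)) * a = ((x : P)⁻¹ * (a * x * a))⁻¹
    rw [show a * ((x : P)⁻¹ * (a * x * a)) * a = a * (x : P)⁻¹ * a * x * (a * a) by group, ha,
      mul_one, mul_inv_rev, mul_inv_rev, mul_inv_rev, inv_of_sq ha, inv_inv]
    group
  by_cases h2 : ∀ y ∈ φ.range, y * y = 1
  · have hle : φ.range ≤ Fx := fun y hy => (hmem y).mpr ⟨(hinv y hy).1,
      hfix' y ((hinv y hy).2.trans (inv_of_sq (h2 y hy)))⟩
    have := Subgroup.card_le_of_le hle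
    omega
  push_neg at h2
  obtain ⟨m, hm, hm2⟩ := h2
  obtain ⟨hmL, hma⟩ := hinv m hm
  have hm4 : m * m * (m * m) = 1 := by rw [← TwoCentral94.pow_four]; exact he m hmL
  have hminv : m⁻¹ = m * m * m := inv_eq_of_mul_eq_one_right (by
    calc m * (m * m * m) = m * m * (m * m) := by group
      _ = 1 := hm4)
  have hmm : m * m ∈ Fx := (hmem _).mpr ⟨mul_mem hmL hmL, hfix' _ (by
    calc a * (m * m) * a = (a * m * (a * a) * m * a) := by rw [ha, mul_one]; group
      _ = (a * m * a) * (a * m * a) := by group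
      _ = m * m := by rw [hma, ← mul_inv_rev]; exact inv_of_sq hm4)⟩
  let ψ : L →* P := MonoidHom.mk' (fun x => (x : P) * x) fun x y => by
    show (x : P) * y * (x * y) = _
    calc (x : P) * y * (x * y) = x * ((y : P) * x) * y := by group
      _ = _ := by rw [hc y y.2 x x.2]; group
  have hker2 : 4 ≤ Nat.card ψ.ker := by
    have h1 := ψ.ker.card_mul_index
    rw [Subgroup.index_ker, h8] at h1
    have h2 : Nat.card ψ.range ≤ Nat.card ψ.ker := by
      refine Nat.card_le_card_of_injective (fun y => (⟨⟨(y : P), ?_⟩, ?_⟩ : ψ.ker))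
        fun y z e => Subtype.ext (congrArg (fun w : ψ.ker => ((w : L) : P)) e)
      · obtain ⟨x, hx⟩ := y.2
        rw [← hx]
        exact mul_mem x.2 x.2
      · obtain ⟨x, hx⟩ := y.2
        show (y : P) * y = 1
        rw [← hx]
        show (x : P) * x * ((x : P) * x) = 1
        rw [← TwoCentral94.pow_four]; exact he _ x.2
    rcases Nat.lt_or_ge (Nat.card ψ.ker) 4 with h | h
    · have : Nat.card ψ.ker * Nat.card ψ.range ≤ Nat.card ψ.ker * Nat.card ψ.ker :=
        Nat.mul_le_mul_left _ h2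
      interval_cases hk : Nat.card ψ.ker <;> omega
    · exact h
  obtain ⟨u, huL, hu2, hu1, hum⟩ : ∃ u ∈ L, u * u = 1 ∧ u ≠ 1 ∧ u ≠ m * m := by
    by_contra hcon
    push_neg at hcon
    have hsub : (fun x : ψ.ker => ((x : L) : P)) '' Set.univ ⊆ {1, m * m} := by
      rintro _ ⟨x, -, rfl⟩
      by_cases hx1 : ((x : L) : P) = 1
      · exact Or.inl hx1
      · exact Or.inr (hcon _ (x : L).2 x.2 hx1)
    have h1 := Set.ncard_le_ncard hsub (Set.toFinite _)
    rw [Set.ncard_image_of_injective _ (fun x y e => Subtype.ext (Subtype.ext e)),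
      Set.ncard_univ] at h1
    have h2 := (Set.ncard_insert_le (1 : P) {m * m})
    rw [Set.ncard_singleton] at h2
    omega
  have hua : a * u * a = u * (m * m) := by
    have hU : (a * u * a) * (a * u * a) = 1 := by
      rw [show (a * u * a) * (a * u * a) = a * u * (a * a) * u * a by group, ha, mul_one,
        show a * u * u * a = a * (u * u) * a by group, hu2, mul_one, ha]
    have hcu := hc _ huL _ (hcj u huL)
    have hmem2 : u * (a * u * a) ∈ Fx := by
      refine (hmem _).mpr ⟨mul_mem huL (hcj u huL), hfix' _ ?_⟩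
      calc a * (u * (a * u * a)) * a = (a * u * a) * u * (a * a) := by group
        _ = _ := by rw [ha, mul_one, hcu]
    by_cases h1 : u * (a * u * a) = 1
    · exfalso
      have he1 : u = a * u * a := (inv_of_sq hu2).symm.trans (inv_eq_of_mul_eq_one_right h1)
      have : u ∈ Fx := (hmem u).mpr ⟨huL, hfix' u he1.symm⟩
      have := three_in (one_mem _) hmm this (Ne.symm hm2) (Ne.symm hu1) (Ne.symm hum)
      omega
    · have hh : u * (a * u * a) = m * m := by
        by_contra hne
        have := three_in (one_mem _) hmm hmem2 (Ne.symm hm2) (Ne.symm h1) (Ne.symm hne)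
        omega
      rw [← hh, ← mul_assoc u u, hu2, one_mul]
  have hmu : m * u ∈ Fx := by
    refine (hmem _).mpr ⟨mul_mem hmL huL, hfix' _ ?_⟩
    calc a * (m * u) * a = a * m * (a * a) * u * a := by rw [ha, mul_one]; group
      _ = (a * m * a) * (a * u * a) := by group
      _ = m⁻¹ * (u * (m * m)) := by rw [hma, hua]
      _ = m⁻¹ * ((m * m) * u) := by rw [hc u huL _ (mul_mem hmL hmL)]
      _ = m * u := by group
  have n1 : m * u ≠ 1 := fun e => hm2 (by
    rw [mul_eq_one_iff_eq_inv, inv_of_sq hu2] at e; rw [e]; exact hu2)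
  have n2 : m * u ≠ m * m := fun e => hm2 (by rw [← mul_left_cancel e]; exact hu2)
  have := three_in (one_mem _) hmm hmu (Ne.symm hm2) n1.symm n2.symm
  omega


theorem mem_cent {a x : P} : x ∈ centralizer ({a} : Set P) ↔ x * a = a * x := by
  simp only [mem_centralizer_iff, Set.mem_singleton_iff, forall_eq]
  exact eq_comm

/-- In a 2-group of exponent 4, an involution with centraliser of order at most 4 forces order at
most 8. -/
theorem card_le_eight [Finite P] (hP : IsPGroup 2 P) (he : ∀ x : P, x ^ 4 = 1) {a : P}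
    (ha : a * a = 1) (hC : Nat.card (centralizer ({a} : Set P)) ≤ 4) : Nat.card P ≤ 8 := by
  by_contra h8
  haveI := Fact.mk Nat.prime_two
  have ha1 : a ≠ 1 := by
    intro h
    have hle : (⊤ : Subgroup P) ≤ centralizer ({a} : Set P) := fun x _ => mem_cent.mpr (by simp [h])
    have := Subgroup.card_le_of_le hle
    rw [Subgroup.card_top] at this
    omega
  obtain ⟨k, hk⟩ := IsPGroup.iff_card.mp hP
  have hk4 : 4 ≤ k := by
    by_contra hc
    have : 2 ^ k ≤ 2 ^ 3 := Nat.pow_le_pow_right two_pos (by omega)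
    omega
  have hz : Nat.card (zpowers a) = 2 ^ 1 := by
    rw [Nat.card_zpowers, pow_one]
    exact orderOf_eq_prime (by rw [pow_two]; exact ha) ha1
  obtain ⟨R, hR, hRa⟩ := Sylow.exists_subgroup_card_pow_prime_le (n := 1) (m := 4) 2
    (hk ▸ pow_dvd_pow 2 hk4) (zpowers a) hz (by norm_num)
  have haR : a ∈ R := hRa (mem_zpowers a)
  have hR16 : Nat.card R = 16 := hR
  have hRp : IsPGroup 2 R := hP.to_subgroup R
  obtain ⟨N, hNn, -, hNle, hN⟩ := PGroupsBasic.exists_normal_card (p := 2) hRp
    (bot_le : (⊥ : Subgroup R) ≤ ⊤) 2 (by rw [Subgroup.card_bot, Subgroup.card_top, hR16]; norm_num)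
  rw [Subgroup.card_bot, one_mul] at hN
  haveI := hNn
  obtain ⟨e, heN, he1⟩ : ∃ e : R, e ∈ N ⊓ center R ∧ e ≠ 1 := by
    have hne := PGroupsBasic.inf_center_ne_bot (p := 2) hRp (N := N) (fun h => by
      rw [h, Subgroup.card_bot] at hN; omega)
    by_contra hcon
    push_neg at hcon
    exact hne ((Subgroup.eq_bot_iff_forall _).mpr hcon)
  obtain ⟨n, hnN, hn1, hne'⟩ : ∃ n ∈ N, n ≠ 1 ∧ n ≠ e := by
    by_contra hcon
    push_neg at hcon
    have hsub : (N : Set R) ⊆ {1, e} := fun x hx => by
      by_cases h : x = 1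
      · exact Or.inl h
      · exact Or.inr (hcon x hx h)
    have h1 := Set.ncard_le_ncard hsub (Set.toFinite _)
    rw [← Nat.card_coe_set_eq, SetLike.coe_sort_coe, hN] at h1
    have h2 := Set.ncard_insert_le (1 : R) {e}
    rw [Set.ncard_singleton] at h2
    omega
  have hin : (centralizer ({n} : Set R)).index ≤ 2 := by
    refine (FourGenerator94.index_le_ncard (fun g : R => g * n * g⁻¹) ((N : Set R) \ {1, e})
      (fun g => ⟨hNn.conj_mem n hnN g, ?_⟩) fun g h hh => mem_cent.mpr ?_).trans ?_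
    · rintro (h | h)
      · exact hn1 (conj_eq_one_iff.mp h)
      · refine hne' ?_
        have h2 := congrArg (fun z => g⁻¹ * z * g) (Set.mem_singleton_iff.mp h)
        simp only [mul_assoc, inv_mul_cancel_left, inv_mul_cancel, mul_one] at h2
        rw [h2, ← mem_center_iff.mp heN.2 g, inv_mul_cancel_left]
    · calc g⁻¹ * h * n = g⁻¹ * (h * n * h⁻¹) * h := by group
        _ = n * (g⁻¹ * h) := by rw [← hh]; group
    · rw [Set.ncard_sdiff (fun x hx => by
        rcases hx with rfl | rfl
        · exact one_mem N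
        · exact heN.1), ← Nat.card_coe_set_eq, SetLike.coe_sort_coe, hN, Set.ncard_pair (Ne.symm he1)]
      norm_num
  obtain ⟨L, hLn, hNL, hL8, hNc⟩ : ∃ L : Subgroup R, L.Normal ∧ N ≤ L ∧ Nat.card L = 8 ∧
      ∀ x ∈ L, ∀ y ∈ N, x * y = y * x := by
    have hcen : ∀ x ∈ centralizer ({n} : Set R), ∀ y ∈ N, x * y = y * x := by
      intro x hx y hy
      set M := N ⊓ centralizer ({x} : Set R)
      have h3 : 3 ≤ Nat.card M := three_in (one_mem _)
        ⟨heN.1, mem_cent.mpr (mem_center_iff.mp heN.2 x).symm⟩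
        ⟨hnN, mem_cent.mpr (mem_cent.mp hx).symm⟩ (Ne.symm he1) (Ne.symm hn1) (Ne.symm hne')
      have h4 := Subgroup.card_dvd_of_le (inf_le_left : M ≤ N)
      rw [hN] at h4
      have h5 : Nat.card M = 4 := by
        have := Nat.le_of_dvd (by norm_num) h4
        interval_cases hh : Nat.card M <;> first | rfl | (exfalso; revert h4; decide)
      have hMN : M = N := Subgroup.eq_of_le_of_card_ge inf_le_left (by rw [hN, h5]; norm_num)
      exact (mem_cent.mp ((hMN ▸ hy : y ∈ M).2)).symm
    have hidx := (centralizer ({n} : Set R)).card_mul_index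
    rw [hR16] at hidx
    by_cases h16 : Nat.card (centralizer ({n} : Set R)) = 8
    · have hNle' : N ≤ centralizer ({n} : Set R) := fun y hy => by
        refine mem_cent.mpr ?_
        exact (hcen n (mem_cent.mpr rfl) y hy).symm
      exact ⟨_, PGroupsBasic.normal_of_index_eq (p := 2) hRp (by rw [h16] at hidx; omega), hNle', h16, hcen⟩
    · have htop : centralizer ({n} : Set R) = ⊤ := by
        rw [← Subgroup.index_eq_one]
        have : (centralizer ({n} : Set R)).index ≠ 0 := Subgroup.index_ne_zero_of_finite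
        interval_cases hh : (centralizer ({n} : Set R)).index <;> omega
      obtain ⟨L, hLn, hNL, -, hL⟩ := PGroupsBasic.exists_normal_card (p := 2) hRp
        (le_top : N ≤ ⊤) 1 (by rw [hN, Subgroup.card_top, hR16]; norm_num)
      exact ⟨L, hLn, hNL, by rw [hL, hN]; norm_num, fun x _ => hcen x (htop ▸ mem_top x)⟩
  have hLc : ∀ x ∈ L, ∀ y ∈ L, x * y = y * x := by
    have hidx : (N.subgroupOf L).index = 2 := by
      have h := (N.subgroupOf L).card_mul_index
      rw [Nat.card_congr (Subgroup.subgroupOfEquivOfLe hNL).toEquiv, hN, hL8] at h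
      omega
    intro x hx y hy
    by_cases hxN : x ∈ N
    · exact (hNc y hy x hxN).symm
    by_cases hyN : y ∈ N
    · exact hNc x hx y hyN
    have h1 : (⟨x, hx⟩⁻¹ * ⟨y, hy⟩ : L) ∈ N.subgroupOf L := by
      rw [Subgroup.mul_mem_iff_of_index_two hidx]
      simp [mem_subgroupOf, hxN, hyN]
    have h2 := hNc x hx _ (mem_subgroupOf.mp h1)
    simp only [Subgroup.coe_mul, Subgroup.coe_inv, mul_inv_cancel_left] at h2
    have h3 := congrArg (x * ·) h2
    simp only [mul_assoc, mul_inv_cancel_left] at h3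
    rw [← h3]
  set a' : R := ⟨a, haR⟩
  have ha' : a' * a' = 1 := Subtype.ext ha
  have hCR : Nat.card (centralizer ({a'} : Set R)) ≤ 4 := le_trans
    (Nat.card_le_card_of_injective (fun x => (⟨((x : R) : P), mem_cent.mpr
      (congrArg Subtype.val (mem_cent.mp x.2))⟩ : centralizer ({a} : Set P)))
      fun x y h => Subtype.ext (Subtype.ext
        (congrArg (fun z : centralizer ({a} : Set P) => (z : P)) h))) hC
  have haL : a' ∉ L := fun h => by
    have hle : L ≤ centralizer ({a'} : Set R) := fun x hx => mem_cent.mpr (hLc x hx a' h)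
    have := Subgroup.card_le_of_le hle
    omega
  refine fixed_abelian hLn hLc hL8 (fun x _ => Subtype.ext (by simpa using he (x : P))) ha' ?_
  let φ : Fin 2 × ↥(L ⊓ centralizer ({a'} : Set R)) → centralizer ({a'} : Set R) := fun q =>
    if q.1 = 0 then ⟨(q.2 : R), q.2.2.2⟩ else ⟨a' * (q.2 : R), mul_mem (mem_cent.mpr rfl) q.2.2.2⟩
  have hφ : Function.Injective φ := by
    rintro ⟨i, x⟩ ⟨j, y⟩ h
    fin_cases i <;> fin_cases j <;> simp [φ] at h
    · simp [h]
    · refine absurd ?_ haL
      have : a' = (x : R) * (y : R)⁻¹ := by rw [h]; group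
      rw [this]; exact mul_mem x.2.1 (inv_mem y.2.1)
    · refine absurd ?_ haL
      have : a' = (y : R) * (x : R)⁻¹ := by rw [← h]; group
      rw [this]; exact mul_mem y.2.1 (inv_mem x.2.1)
    · simp [h]
  have := (Nat.card_le_card_of_injective φ hφ).trans hCR
  rw [Nat.card_prod, Nat.card_fin] at this
  omega


theorem four_list [Finite P] {N : Subgroup P} (hN : Nat.card N = 4) {e n y : P} (he : e ∈ N)
    (hn : n ∈ N) (hy : y ∈ N) (he1 : e ≠ 1) (hn1 : n ≠ 1) (hne : n ≠ e) (hee : e * n ≠ 1) :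
    y = 1 ∨ y = e ∨ y = n ∨ y = e * n := by
  by_contra hcon
  push_neg at hcon
  obtain ⟨h1, h2, h3, h4⟩ := hcon
  have q1 : e * n ≠ e := fun h => hn1 (mul_eq_left.mp h)
  have q2 : e * n ≠ n := fun h => he1 (mul_eq_right.mp h)
  have hinj : Function.Injective (![⟨1, one_mem _⟩, ⟨e, he⟩, ⟨n, hn⟩, ⟨e * n, mul_mem he hn⟩,
      ⟨y, hy⟩] : Fin 5 → N) := by
    intro i j q
    fin_cases i <;> fin_cases j <;> simp_all [Subtype.ext_iff, eq_comm]
  have := Nat.card_le_card_of_injective _ hinj
  rw [Nat.card_fin, hN] at this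
  omega

/-- A group acting on an elementary abelian normal subgroup of order 8: modulo the kernel and the
squares at most four cosets. -/
theorem eight_sup_le [Finite P] (hP : IsPGroup 2 P) {U : Subgroup P} [U.Normal]
    (hU8 : Nat.card U = 8) (hsq : ∀ u ∈ U, u * u = 1) {H : Subgroup P} {K : Subgroup H}
    (hK : ∀ h : H, h * h ∈ K) : ((centralizer (U : Set P)).subgroupOf H ⊔ K).index ≤ 4 := by
  haveI := Fact.mk Nat.prime_two
  set CH := (centralizer (U : Set P)).subgroupOf H with hCH
  obtain ⟨U2, hU2n, -, hU2le, hU2⟩ := PGroupsBasic.exists_normal_card (p := 2) hP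
    (bot_le : (⊥ : Subgroup P) ≤ U) 2 (by rw [Subgroup.card_bot, hU8]; norm_num)
  rw [Subgroup.card_bot, one_mul] at hU2
  haveI := hU2n
  obtain ⟨e, he, he1⟩ : ∃ e : P, e ∈ U2 ⊓ center P ∧ e ≠ 1 := by
    have hne := PGroupsBasic.inf_center_ne_bot (p := 2) hP (N := U2) (fun h => by
      rw [h, Subgroup.card_bot] at hU2; omega)
    by_contra hcon
    push_neg at hcon
    exact hne ((Subgroup.eq_bot_iff_forall _).mpr hcon)
  obtain ⟨n, hn, hn1, hne⟩ : ∃ n ∈ U2, n ≠ 1 ∧ n ≠ e := by
    by_contra hcon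
    push_neg at hcon
    have hsub : (U2 : Set P) ⊆ {1, e} := fun x hx => by
      by_cases h : x = 1
      · exact Or.inl h
      · exact Or.inr (hcon x hx h)
    have h1 := Set.ncard_le_ncard hsub (Set.toFinite _)
    rw [← Nat.card_coe_set_eq, SetLike.coe_sort_coe, hU2] at h1
    have h2 := Set.ncard_insert_le (1 : P) {e}
    rw [Set.ncard_singleton] at h2
    omega
  have hen : e * n ≠ 1 := fun h => hne (by
    rw [← inv_of_sq (hsq e (hU2le he.1))]; exact eq_inv_of_mul_eq_one_right h)
  obtain ⟨u, hu, hu2⟩ : ∃ u ∈ U, u ∉ U2 := SetLike.not_le_iff_exists.mp fun h => by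
    have := Subgroup.card_le_of_le h
    omega
  have hgen : ∀ y ∈ U, y ∈ Subgroup.closure ({e, n, u} : Set P) := by
    have h2 : U2 ≤ U ⊓ Subgroup.closure ({e, n, u} : Set P) := fun y hy => ⟨hU2le hy, by
      rcases four_list hU2 he.1 hn hy he1 hn1 hne hen with rfl | rfl | rfl | rfl
      · exact one_mem _
      · exact subset_closure (by simp)
      · exact subset_closure (by simp)
      · exact mul_mem (subset_closure (by simp)) (subset_closure (by simp))⟩
    have hd1 := Subgroup.card_dvd_of_le h2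
    have hd2 := Subgroup.card_dvd_of_le (inf_le_left : U ⊓ Subgroup.closure ({e, n, u} : Set P) ≤ U)
    rw [hU8] at hd2
    rw [hU2] at hd1
    have h5 : Nat.card ↥(U ⊓ Subgroup.closure ({e, n, u} : Set P)) ≠ 4 := fun h4 => by
      have := Subgroup.eq_of_le_of_card_ge h2 (by omega)
      exact hu2 (this.symm ▸ (⟨hu, subset_closure (by simp)⟩ :
        u ∈ U ⊓ Subgroup.closure ({e, n, u} : Set P)))
    have h6 : Nat.card ↥(U ⊓ Subgroup.closure ({e, n, u} : Set P)) = 8 := by
      have := Nat.le_of_dvd (by norm_num) hd2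
      interval_cases hh : Nat.card ↥(U ⊓ Subgroup.closure ({e, n, u} : Set P)) <;> omega
    have h7 := Subgroup.eq_of_le_of_card_ge
      (inf_le_left : U ⊓ Subgroup.closure ({e, n, u} : Set P) ≤ U) (by omega)
    intro y hy
    exact ((h7.symm ▸ hy : y ∈ U ⊓ Subgroup.closure ({e, n, u} : Set P))).2
  let φ : H → P × P := fun g => ((g : P) * n * (g : P)⁻¹, (g : P) * u * (g : P)⁻¹)
  let S : Set (P × P) := ({n, e * n} : Set P) ×ˢ ((U : Set P) \ (U2 : Set P))
  have hec : ∀ g : P, g * e * g⁻¹ = e := fun g => by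
    rw [mem_center_iff.mp he.2 g, mul_inv_cancel_right]
  have hφ : ∀ g, φ g ∈ S := by
    intro g
    refine ⟨?_, Subgroup.Normal.conj_mem inferInstance u hu _, fun h => hu2 ?_⟩
    · rcases four_list hU2 he.1 hn (hU2n.conj_mem n hn (g : P)) he1 hn1 hne hen with h | h | h | h
      · exact absurd (conj_eq_one_iff.mp h) hn1
      · refine absurd ?_ hne
        rw [← hec (g : P)] at h
        exact mul_left_cancel (mul_right_cancel h)
      · exact Or.inl h
      · exact Or.inr h
    · have := hU2n.conj_mem _ h ((g : P))⁻¹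
      simpa [φ, mul_assoc] using this
  have hinj : ∀ g h, φ g = φ h → g⁻¹ * h ∈ CH := by
    intro g h e'
    rw [Prod.ext_iff] at e'
    obtain ⟨e1, e2⟩ := e'
    simp only [φ] at e1 e2
    rw [hCH, mem_subgroupOf]
    push_cast
    refine mem_centralizer_iff.mpr fun y hy => ?_
    have hle : Subgroup.closure ({e, n, u} : Set P) ≤ centralizer ({(g : P)⁻¹ * h} : Set P) := by
      rw [Subgroup.closure_le]
      intro w hw
      refine (mem_cent.mpr ?_ : w ∈ centralizer ({(g : P)⁻¹ * h} : Set P))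
      have key : (g : P)⁻¹ * h * w * ((g : P)⁻¹ * h)⁻¹ = w := by
        rcases hw with rfl | rfl | rfl
        · exact hec _
        · calc _ = (g : P)⁻¹ * ((h : P) * w * (h : P)⁻¹) * g := by group
            _ = w := by rw [← e1]; group
        · calc _ = (g : P)⁻¹ * ((h : P) * w * (h : P)⁻¹) * g := by group
            _ = w := by rw [← e2]; group
      exact (mul_inv_eq_iff_eq_mul.mp key).symm
    exact mem_cent.mp (hle (hgen y hy))
  have hS : S.ncard ≤ 8 := by
    have h1 := Set.ncard_insert_le n ({e * n} : Set P)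
    rw [Set.ncard_singleton] at h1
    have h2 : ((U : Set P) \ (U2 : Set P)).ncard = 4 := by
      rw [Set.ncard_sdiff hU2le, ← Nat.card_coe_set_eq, ← Nat.card_coe_set_eq, SetLike.coe_sort_coe,
        SetLike.coe_sort_coe, hU8, hU2]
      norm_num
    rw [Set.ncard_prod, h2]
    omega
  have hidx : CH.index ≤ 8 := (FourGenerator94.index_le_ncard φ S hφ hinj).trans hS
  by_cases hle : K ≤ CH
  · have h8 : CH.index < 8 := by
      by_contra hcon
      have hsur := FourGenerator94.surj_of_index φ S hφ hinj (hS.trans (not_lt.mp hcon))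
      have hnu : n * u ∈ (U : Set P) \ (U2 : Set P) :=
        ⟨mul_mem (hU2le hn) hu, fun h => hu2 (by simpa using mul_mem (inv_mem hn) h)⟩
      obtain ⟨g, hg⟩ := hsur (e * n, u) ⟨Or.inr rfl, hu, hu2⟩
      obtain ⟨x, hx⟩ := hsur (n, n * u) ⟨Or.inl rfl, hnu⟩
      simp only [φ, Prod.mk.injEq] at hg hx
      have hmem : ((g * x * g⁻¹ * x⁻¹ : H) : P) ∈ centralizer (U : Set P) :=
        mem_subgroupOf.mp (hle (FourGenerator94.comm_mem_K hK g x))
      push_cast at hmem
      have h0 := mem_centralizer_iff.mp hmem ((x : P) * ((g : P) * u * (g : P)⁻¹) * (x : P)⁻¹)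
        (Subgroup.Normal.conj_mem inferInstance _ (Subgroup.Normal.conj_mem inferInstance u hu _) _)
      have h1 : (g : P) * ((x : P) * u * (x : P)⁻¹) * (g : P)⁻¹ =
          (x : P) * ((g : P) * u * (g : P)⁻¹) * (x : P)⁻¹ := by
        calc (g : P) * ((x : P) * u * (x : P)⁻¹) * (g : P)⁻¹ = ((g : P) * x * (g : P)⁻¹ * (x : P)⁻¹) *
              ((x : P) * ((g : P) * u * (g : P)⁻¹) * (x : P)⁻¹) *
              ((g : P) * x * (g : P)⁻¹ * (x : P)⁻¹)⁻¹ := by group
          _ = _ := by rw [← h0, mul_inv_cancel_right]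
      rw [hx.2, hg.2, hx.2] at h1
      rw [← conj_mul, hg.1, hg.2] at h1
      exact he1 (mul_eq_right.mp (mul_right_cancel h1))
    obtain ⟨i, hi⟩ := IsPGroup.index (hP.to_subgroup H) CH
    rw [hi] at h8
    have h3 : i < 3 := (Nat.pow_lt_pow_iff_right (by norm_num : 1 < 2)).mp h8
    refine le_trans (Nat.le_of_dvd (Nat.pos_of_ne_zero Subgroup.index_ne_zero_of_finite)
      (Subgroup.index_dvd_of_le le_sup_left)) ?_
    rw [hi]
    exact (Nat.pow_le_pow_right two_pos (by omega : i ≤ 2)).trans (by norm_num)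
  · have h1 := Subgroup.relIndex_mul_index (le_sup_left : CH ≤ CH ⊔ K)
    have h2 : CH.relIndex (CH ⊔ K) ≠ 1 := fun e =>
      hle (le_sup_right.trans (Subgroup.relIndex_eq_one.mp e))
    have h3 : CH.relIndex (CH ⊔ K) ≠ 0 := Subgroup.index_ne_zero_of_finite
    have h4 : 2 * (CH ⊔ K).index ≤ CH.relIndex (CH ⊔ K) * (CH ⊔ K).index :=
      Nat.mul_le_mul_right _ (by omega)
    omega

/-- Splitting the index along the intersection with a normal subgroup. -/
theorem index_split [Finite P] {H : Subgroup P} {K : Subgroup H} (hK : ∀ h : H, h * h ∈ K)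
    (C : Subgroup H) : K.index = K.relIndex C * (C ⊔ K).index := by
  haveI := FourGenerator94.K_normal hK
  rw [← Subgroup.relIndex_sup_right (H := C) (K := K), Subgroup.relIndex_mul_index le_sup_right]

theorem sup_le_index [Finite P] {H : Subgroup P} (C K : Subgroup H) : (C ⊔ K).index ≤ C.index :=
  Nat.le_of_dvd (Nat.pos_of_ne_zero Subgroup.index_ne_zero_of_finite)
    (Subgroup.index_dvd_of_le le_sup_left)

theorem relIndex_le_card [Finite P] {H : Subgroup P} {K : Subgroup H} (W : Subgroup P) :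
    K.relIndex (W.subgroupOf H) ≤ Nat.card W := by
  refine le_trans (Nat.le_of_dvd Nat.card_pos ?_) (Nat.card_le_card_of_injective
    (fun x : W.subgroupOf H => (⟨((x : H) : P), x.2⟩ : W)) fun x y e =>
      Subtype.ext (Subtype.ext (congrArg (fun w : W => (w : P)) e)))
  exact Subgroup.index_dvd_card (K.subgroupOf (W.subgroupOf H))

/-- The case of a self-centralising normal elementary abelian subgroup of order 8. -/
theorem index_le_of_self_eight [Finite P] (hP : IsPGroup 2 P) {U : Subgroup P} [U.Normal]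
    (hU8 : Nat.card U = 8) (hsq : ∀ u ∈ U, u * u = 1) (hself : centralizer (U : Set P) ≤ U)
    {H : Subgroup P} {K : Subgroup H} (hK : ∀ h : H, h * h ∈ K) : K.index ≤ 16 := by
  have hCU : centralizer (U : Set P) = U := le_antisymm hself fun x hx =>
    mem_centralizer_iff.mpr fun y hy => comm_of_sq hsq hy hx
  have h4 := eight_sup_le hP hU8 hsq hK
  rw [hCU] at h4
  rw [index_split hK (U.subgroupOf H)]
  have h8 := relIndex_le_card (K := K) (H := H) U
  rw [hU8] at h8
  by_cases h : K.relIndex (U.subgroupOf H) ≤ 4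
  · exact le_trans (Nat.mul_le_mul h h4) (by norm_num)
  -- otherwise `H` centralises `U`
  haveI := Fact.mk Nat.prime_two
  haveI := FourGenerator94.K_normal hK
  have hd : K.relIndex (U.subgroupOf H) * Nat.card (K.subgroupOf (U.subgroupOf H)) =
      Nat.card (U.subgroupOf H) := by
    rw [mul_comm]; exact (K.subgroupOf (U.subgroupOf H)).card_mul_index
  have hle : Nat.card (U.subgroupOf H) ≤ 8 := by
    rw [← hU8]
    exact Nat.card_le_card_of_injective (fun x : U.subgroupOf H => (⟨((x : H) : P), x.2⟩ : U))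
      fun x y e => Subtype.ext (Subtype.ext (congrArg (fun w : U => (w : P)) e))
  have h1 : Nat.card (K.subgroupOf (U.subgroupOf H)) = 1 := by
    have hpos : 0 < Nat.card (K.subgroupOf (U.subgroupOf H)) := Nat.card_pos
    nlinarith
  have hbot := Subgroup.card_eq_one.mp h1
  have hcardU : Nat.card (U.subgroupOf H) = 8 := by
    obtain ⟨i, hi⟩ := IsPGroup.iff_card.mp ((hP.to_subgroup H).to_subgroup (U.subgroupOf H))
    rw [h1, mul_one] at hd
    rw [hi] at hle hd ⊢
    have h3 : i < 4 := (Nat.pow_lt_pow_iff_right (by norm_num : 1 < 2)).mp (lt_of_le_of_lt hle (by norm_num))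
    interval_cases i <;> omega
  have hUH : U ≤ H := by
    have hb : Function.Bijective (fun x : U.subgroupOf H => (⟨((x : H) : P), x.2⟩ : U)) :=
      Function.Injective.bijective_of_nat_card_le
        (fun x y e => Subtype.ext (Subtype.ext (congrArg (fun w : U => (w : P)) e)))
        (by rw [hcardU, hU8])
    intro x hx
    obtain ⟨y, hy⟩ := hb.2 ⟨x, hx⟩
    rw [← show ((y : H) : P) = x from congrArg Subtype.val hy]
    exact (y : H).2
  have htop : U.subgroupOf H = ⊤ := by
    refine eq_top_iff.mpr fun h _ => ?_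
    refine hself (mem_centralizer_iff.mpr fun x hx => ?_)
    have hm : (h * ⟨x, hUH hx⟩ * h⁻¹ * (⟨x, hUH hx⟩ : H)⁻¹ : H) ∈ U.subgroupOf H := by
      rw [mem_subgroupOf]
      push_cast
      exact mul_mem (Subgroup.Normal.conj_mem inferInstance x hx _) (inv_mem hx)
    have hk : (⟨_, hm⟩ : U.subgroupOf H) ∈ K.subgroupOf (U.subgroupOf H) :=
      mem_subgroupOf.mpr (FourGenerator94.comm_mem_K hK _ _)
    rw [hbot, mem_bot] at hk
    have h2 := congrArg (fun z : U.subgroupOf H => ((z : H) : P)) hk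
    simp only [Subgroup.coe_mul, Subgroup.coe_inv, OneMemClass.coe_one] at h2
    rw [mul_inv_eq_one, mul_inv_eq_iff_eq_mul] at h2
    exact h2.symm
  rw [htop, top_sup_eq, Subgroup.index_top, mul_one]
  rw [htop] at h8
  omega

end Cfsg.Agent.SelfCentE8Base94
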