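import Mathlib
import Cfsg.Agent.Lib.PGroupsCritical
import Cfsg.Agent.Lib.SelfCentE8Base94

/-!
A pair `(U, a)` with `U` of order 16: `U` is self-centralising, the quotient by `U` has order at most
8, and subgroups have at most 16 cosets modulo their squares.
-/

set_option autoImplicit false
set_option linter.unusedSectionVars false
set_option linter.unusedVariables false
set_option linter.style.haveILetI false

open Subgroup
open scoped commutatorElement

namespace Cfsg.Agent.SelfCentE8Sixteen94

open SelfCentE8Base94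

variable {P : Type*} [Group P] [Finite P] (p : Pair P) (h16 : Nat.card p.U = 16)

include h16 in
theorem range_eq : p.comHom.range = p.F := by
  refine Subgroup.eq_of_le_of_card_ge (range_comHom_le p) ?_
  have := card_range p
  rw [card_F]
  omega

include h16 in
theorem exists_comm {e : P} (he : e ∈ p.F) : ∃ u ∈ p.U, u * (p.a * u * p.a) = e := by
  rw [← range_eq p h16] at he
  obtain ⟨u, hu⟩ := he
  exact ⟨u, u.2, hu⟩

omit [Finite P] in
theorem fixed_comm {x : P} (h : p.a * x * p.a = x) : x * p.a = p.a * x := by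
  conv_lhs => rw [← h, mul_assoc, p.a2, mul_one]

include h16 in
/-- Adjusting an element moved by an element of `F`. -/
theorem exists_fixed {x e : P} (he : e ∈ p.F) (hx : p.a * x * p.a = x * e) :
    ∃ u ∈ p.U, x * u * p.a = p.a * (x * u) := by
  obtain ⟨u, hu, hue⟩ := exists_comm p h16 he
  refine ⟨u, hu, fixed_comm p ?_⟩
  calc p.a * (x * u) * p.a = p.a * x * (p.a * p.a) * u * p.a := by rw [p.a2, mul_one]; group
    _ = (p.a * x * p.a) * (p.a * u * p.a) := by group
    _ = x * (u * ((p.a * u * p.a) * (p.a * u * p.a))) := by rw [hx, ← hue]; group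
    _ = x * u := by rw [p.sq _ (aU_mem p hu), mul_one]

omit [Finite P] in
theorem fixed_mem_F {y : P} (hy : y ∈ p.U) (h : p.a * y * p.a = y⁻¹) : y ∈ p.F := by
  rw [inv_of_sq (p.sq y hy)] at h
  exact (mem_F p).mpr ⟨hy, fixed_comm p h⟩

omit [Finite P] in
theorem inverted_comm (x : P) :
    p.a * (x⁻¹ * (p.a * x * p.a)) * p.a = (x⁻¹ * (p.a * x * p.a))⁻¹ := by
  rw [show p.a * (x⁻¹ * (p.a * x * p.a)) * p.a = p.a * x⁻¹ * p.a * x * (p.a * p.a) by group, p.a2,
    mul_one, mul_inv_rev, mul_inv_rev, mul_inv_rev, inv_of_sq p.a2, inv_inv]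
  group

include h16 in
theorem inverted_mem {y : P} (hy : y ∈ p.B) (h : p.a * y * p.a = y⁻¹) : y ∈ p.U := by
  obtain ⟨k, hk⟩ := p.hP y
  induction k generalizing y with
  | zero => rw [pow_zero, pow_one] at hk; rw [hk]; exact one_mem _
  | succ k ih =>
    have h2 : p.a * (y * y) * p.a = (y * y)⁻¹ := by
      calc p.a * (y * y) * p.a = p.a * y * (p.a * p.a) * y * p.a := by rw [p.a2, mul_one]; group
        _ = (p.a * y * p.a) * (p.a * y * p.a) := by group
        _ = _ := by rw [h, mul_inv_rev]
    have hyU : y * y ∈ p.U := ih (mul_mem hy hy) h2 (by rw [← pow_two, ← pow_mul, ← pow_succ']; exact hk)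
    have hF := fixed_mem_F p hyU h2
    have he : p.a * y * p.a = y * (y * y) := by
      rw [h]; exact inv_eq_of_mul_eq_one_right (by rw [← mul_assoc]; exact p.sq _ hyU)
    obtain ⟨u, hu, hfix⟩ := exists_fixed p h16 hF he
    have := (F_le_U p) (self_B p hfix (mul_mem hy (U_le_B p hu)))
    exact (Subgroup.mul_mem_cancel_right _ hu).mp this

include h16 in
theorem B_eq : p.B = p.U := by
  refine le_antisymm (fun x hx => ?_) (U_le_B p)
  set y := x⁻¹ * (p.a * x * p.a) with hy
  have hax : p.a * x * p.a ∈ p.B := by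
    have := (B_normal p).conj_mem x hx p.a
    rwa [inv_of_sq p.a2] at this
  have hyU := inverted_mem p h16 (mul_mem (inv_mem hx) hax) (inverted_comm p x)
  have hF := fixed_mem_F p hyU (inverted_comm p x)
  obtain ⟨u, hu, hfix⟩ := exists_fixed p h16 hF (show p.a * x * p.a = x * y by rw [hy]; group)
  exact (Subgroup.mul_mem_cancel_right _ hu).mp
    ((F_le_U p) (self_B p hfix (mul_mem hx (U_le_B p hu))))

include h16 in
/-- Elements centralising `F` and `a` modulo `U`. -/
theorem fix_cases {g : P} (hF : ∀ e ∈ p.F, g * e = e * g)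
    (hg : g⁻¹ * (p.a * g * p.a) ∈ p.U) : g ∈ p.U ∨ p.a * g ∈ p.U := by
  have hy := fixed_mem_F p hg (inverted_comm p g)
  obtain ⟨u, hu, hfix⟩ := exists_fixed p h16 hy (show p.a * g * p.a = g * (g⁻¹ * (p.a * g * p.a)) by group)
  have hc : ∀ e ∈ p.F, g * u * e = e * (g * u) := fun e he => by
    rw [mul_assoc, comm_of_sq p.sq hu (F_le_U p he), ← mul_assoc, hF e he, mul_assoc]
  rcases self_cases p hfix hc with h | h
  · exact Or.inl ((Subgroup.mul_mem_cancel_right _ hu).mp (F_le_U p h))
  · rw [← mul_assoc] at h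
    exact Or.inr ((Subgroup.mul_mem_cancel_right _ hu).mp (F_le_U p h))

/-! ### The quotient by `U` -/

theorem exists_central : ∃ e ∈ p.F, e ≠ 1 ∧ ∀ g : P, g * e = e * g := by
  haveI := Fact.mk Nat.prime_two
  haveI := p.normal
  have hne := PGroupsBasic.inf_center_ne_bot (p := 2) p.hP (N := p.U) fun h => by
    have := p.big
    rw [h, Subgroup.card_bot] at this
    omega
  by_contra hcon
  push_neg at hcon
  refine hne ((Subgroup.eq_bot_iff_forall _).mpr fun x hx => ?_)
  by_contra hx1
  obtain ⟨g, hg⟩ := hcon x ((mem_F p).mpr ⟨hx.1, (mem_center_iff.mp hx.2 p.a).symm⟩) hx1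
  exact hg (mem_center_iff.mp hx.2 g)

omit [Finite P] in
/-- `[g, a] ∈ U` implies that `g` normalises `F`. -/
theorem conj_mem_F {g : P} (hg : g⁻¹ * (p.a * g * p.a) ∈ p.U) {e : P} (he : e ∈ p.F) :
    g * e * g⁻¹ ∈ p.F := by
  refine (mem_F p).mpr ⟨conj_U p (F_le_U p he) g, fixed_comm p ?_⟩
  set u := g⁻¹ * (p.a * g * p.a) with hu
  have hue := comm_of_sq p.sq hg (F_le_U p he)
  calc p.a * (g * e * g⁻¹) * p.a
      = p.a * g * (p.a * p.a) * e * (p.a * p.a) * g⁻¹ * p.a := by rw [p.a2, mul_one, mul_one]; group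
    _ = (p.a * g * p.a) * (p.a * e * p.a) * (p.a * g⁻¹ * p.a) := by group
    _ = (p.a * g * p.a) * e * (p.a * g * p.a)⁻¹ := by
      rw [F_fix p he, mul_inv_rev, mul_inv_rev, inv_of_sq p.a2, mul_assoc p.a g⁻¹ p.a]
    _ = g * (u * e * u⁻¹) * g⁻¹ := by rw [hu]; group
    _ = g * e * g⁻¹ := by rw [hue, mul_inv_cancel_right]

include h16 in
theorem card_quotient_cent [p.U.Normal] :
    Nat.card (centralizer ({(p.a : P ⧸ p.U)} : Set (P ⧸ p.U))) ≤ 4 := by
  set C := centralizer ({(p.a : P ⧸ p.U)} : Set (P ⧸ p.U)) with hC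
  set T := C.comap (QuotientGroup.mk' p.U) with hT
  have hmem : ∀ g, g ∈ T → g⁻¹ * (p.a * g * p.a) ∈ p.U := by
    intro g hg
    have h1 : (g : P ⧸ p.U) * (p.a : P ⧸ p.U) = (p.a : P ⧸ p.U) * (g : P ⧸ p.U) := mem_cent.mp hg
    rw [← QuotientGroup.eq_one_iff]
    simp only [QuotientGroup.mk_mul, QuotientGroup.mk_inv]
    have h2 : (p.a : P ⧸ p.U) * (p.a : P ⧸ p.U) = 1 := by
      rw [← QuotientGroup.mk_mul, p.a2, QuotientGroup.mk_one]
    rw [mul_assoc (p.a : P ⧸ p.U), h1, ← mul_assoc (p.a : P ⧸ p.U), h2, one_mul, inv_mul_cancel]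
  obtain ⟨e, he, he1, hec⟩ := exists_central p
  obtain ⟨n, hn, hn1, hne⟩ : ∃ n ∈ p.F, n ≠ 1 ∧ n ≠ e := by
    by_contra hcon
    push_neg at hcon
    have hsub : (p.F : Set P) ⊆ {1, e} := fun x hx => by
      by_cases h : x = 1
      · exact Or.inl h
      · exact Or.inr (hcon x hx h)
    have h1 := Set.ncard_le_ncard hsub (Set.toFinite _)
    rw [← Nat.card_coe_set_eq, SetLike.coe_sort_coe, card_F] at h1
    have h2 := Set.ncard_insert_le (1 : P) {e}
    rw [Set.ncard_singleton] at h2
    omega
  have hen : e * n ≠ 1 := fun h => hne (by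
    rw [← inv_of_sq (p.sq e (F_le_U p he))]; exact eq_inv_of_mul_eq_one_right h)
  set Fix := (centralizer ({n} : Set P)).subgroupOf T
  have hidx : Fix.index ≤ 2 := by
    refine (FourGenerator94.index_le_ncard (fun g : T => (g : P) * n * (g : P)⁻¹) {n, e * n}
      (fun g => ?_) fun g h hh => mem_subgroupOf.mpr (mem_cent.mpr ?_)).trans
      ((Set.ncard_insert_le _ _).trans (by rw [Set.ncard_singleton]))
    · rcases four_list (card_F p) he hn (conj_mem_F p (hmem g g.2) hn) he1 hn1 hne hen with h | h | h | h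
      · exact absurd (conj_eq_one_iff.mp h) hn1
      · refine absurd ?_ hne
        have h2 : (g : P) * n = e * (g : P) := by rw [← h]; group
        rw [← hec] at h2
        exact mul_left_cancel h2
      · exact Or.inl h
      · exact Or.inr h
    · push_cast
      calc (g : P)⁻¹ * h * n = (g : P)⁻¹ * ((h : P) * n * (h : P)⁻¹) * h := by group
        _ = n * ((g : P)⁻¹ * h) := by rw [← hh]; group
  have hsub : ∀ g : Fix, ((g : T) : P) ∈ p.U ∨ p.a * ((g : T) : P) ∈ p.U := by
    intro g
    refine fix_cases p h16 (fun x hx => ?_) (hmem _ (g : T).2)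
    have hgn : ((g : T) : P) * n = n * ((g : T) : P) := mem_cent.mp (mem_subgroupOf.mp g.2)
    rcases four_list (card_F p) he hn hx he1 hn1 hne hen with rfl | rfl | rfl | rfl
    · simp
    · exact hec _
    · exact hgn
    · rw [← mul_assoc, hec, mul_assoc, hgn, mul_assoc]
  have hFix : Nat.card Fix ≤ 2 * 16 := by
    have : Nat.card Fix ≤ Nat.card (Fin 2 × p.U) := by
      classical
      refine Nat.card_le_card_of_injective (fun g => if h : ((g : T) : P) ∈ p.U then
        (0, ⟨_, h⟩) else (1, ⟨p.a * ((g : T) : P), (hsub g).resolve_left h⟩)) ?_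
      intro g h e'
      simp only at e'
      split_ifs at e' <;> simp at e'
      · exact e'
      · exact e'
    simpa [Nat.card_prod, h16] using this
  have hTcard : Nat.card T ≤ 64 := by
    rw [← Fix.card_mul_index]
    exact le_trans (Nat.mul_le_mul hFix hidx) (by norm_num)
  have h1 := T.card_mul_index
  have h2 := C.card_mul_index
  have h3 := p.U.card_mul_index
  rw [h16, Subgroup.index_eq_card] at h3
  rw [hT, Subgroup.index_comap_of_surjective _ (QuotientGroup.mk'_surjective _), ← hT, ← h3, ← h2] at h1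
  have hpos : 0 < C.index := Nat.pos_of_ne_zero Subgroup.index_ne_zero_of_finite
  have h4 : Nat.card T = 16 * Nat.card C := by
    refine Nat.eq_of_mul_eq_mul_right hpos ?_
    rw [h1]; ring
  omega

include h16 in
theorem pow_four_mem (g : P) : g ^ 4 ∈ p.U := by
  haveI := Fact.mk Nat.prime_two
  haveI := p.normal
  obtain ⟨U1, hU1n, -, hU1U, hU1⟩ := PGroupsBasic.exists_normal_card (p := 2) p.hP
    (bot_le : (⊥ : Subgroup P) ≤ p.U) 1 (by rw [Subgroup.card_bot, h16]; norm_num)
  rw [Subgroup.card_bot, one_mul] at hU1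
  haveI := hU1n
  obtain ⟨U2, hU2n, hU12, hU2U, hU2⟩ := PGroupsBasic.exists_normal_card (p := 2) p.hP hU1U 1
    (by rw [hU1, h16]; norm_num)
  haveI := hU2n
  obtain ⟨U3, hU3n, hU23, hU3U, hU3⟩ := PGroupsBasic.exists_normal_card (p := 2) p.hP hU2U 1
    (by rw [hU2, hU1, h16]; norm_num)
  haveI := hU3n
  let d : P → P → P := fun g x => g * x * g⁻¹ * x⁻¹
  have hd : ∀ g x, d g x = ⁅g, x⁆ := fun g x => by simp [d, commutatorElement_def]
  have hcard3 : Nat.card p.U = Nat.card U3 * 2 := by rw [hU3, hU2, hU1, h16]; norm_num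
  have s3 : ∀ x ∈ p.U, ∀ g, d g x ∈ U3 := fun x hx g => by
    rw [hd]; exact PGroupsCritical.commutator_mem_of_succ (p := 2) p.hP hU3U hcard3 hx g
  have s2 : ∀ x ∈ U3, ∀ g, d g x ∈ U2 := fun x hx g => by
    rw [hd]; exact PGroupsCritical.commutator_mem_of_succ (p := 2) p.hP hU23 (by rw [hU3, pow_one]) hx g
  have s1 : ∀ x ∈ U2, ∀ g, d g x ∈ U1 := fun x hx g => by
    rw [hd]; exact PGroupsCritical.commutator_mem_of_succ (p := 2) p.hP hU12 (by rw [hU2, pow_one]) hx g
  have s0 : ∀ x ∈ U1, ∀ g, d g x = 1 := fun x hx g => by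
    have := PGroupsBasic.le_center_of_card_eq_prime (p := 2) p.hP (N := U1) (by rw [hU1, pow_one]) hx
    simp only [d]
    rw [mem_center_iff.mp this g, mul_inv_cancel_right, mul_inv_cancel]
  have hdU : ∀ x ∈ p.U, ∀ g, d g x ∈ p.U := fun x hx g => hU3U (s3 x hx g)
  have key : ∀ g, ∀ x ∈ p.U, d (g * g) x = d g (d g x) := by
    intro g x hx
    have h1 := hdU x hx g
    calc d (g * g) x = d g (d g x) * (d g x * d g x) := by simp only [d]; group
      _ = _ := by rw [p.sq _ h1, mul_one]
  rw [← B_eq p h16, mem_B]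
  intro x hx
  have h : d (g ^ 4) x = 1 := by
    rw [TwoCentral94.pow_four, key _ x hx, key g x hx, key g _ (hdU _ (hdU x hx g) g)]
    exact s0 _ (s1 _ (s2 _ (s3 x hx g) g) g) g
  simp only [d] at h
  rw [mul_inv_eq_one, mul_inv_eq_iff_eq_mul] at h
  exact h.symm

include h16 in
theorem card_quotient_le [p.U.Normal] : Nat.card (P ⧸ p.U) ≤ 8 := by
  refine card_le_eight (p.hP.to_quotient _) (fun q => ?_) (a := (p.a : P ⧸ p.U)) ?_
    (card_quotient_cent p h16)
  · induction q using QuotientGroup.induction_on with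
    | _ g => rw [← QuotientGroup.mk_pow, QuotientGroup.eq_one_iff]; exact pow_four_mem p h16 g
  · rw [← QuotientGroup.mk_mul, p.a2, QuotientGroup.mk_one]

set_option maxHeartbeats 1000000 in
include h16 in
/-- Every subgroup has at most 16 cosets modulo its squares. -/
theorem index_le_sixteen {H : Subgroup P} {K : Subgroup H} (hK : ∀ h : H, h * h ∈ K) :
    K.index ≤ 16 := by
  haveI := Fact.mk Nat.prime_two
  haveI := p.normal
  haveI := FourGenerator94.K_normal hK
  set W := p.U.subgroupOf H with hW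
  rw [index_split hK W]
  set X := P ⧸ p.U
  set π := QuotientGroup.mk' p.U
  set Y := H.map π with hY
  have hX8 : Nat.card X ≤ 8 := card_quotient_le p h16
  have hWY : W.index = Nat.card Y := by
    rw [hY, ← Subgroup.relIndex_ker π (K := H), QuotientGroup.ker_mk']; rfl
  have hYle : Nat.card Y ≤ Nat.card X := Nat.card_le_card_of_injective _ Subtype.val_injective
  have hW8 : W.index ≤ 8 := hWY ▸ hYle.trans hX8
  have hr16 : K.relIndex W ≤ 16 := by rw [← h16]; exact relIndex_le_card p.U
  have hWle : Nat.card W ≤ 16 := by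
    rw [← h16]
    exact Nat.card_le_card_of_injective (fun x : W => (⟨((x : H) : P), x.2⟩ : p.U))
      fun x y e => Subtype.ext (Subtype.ext (congrArg (fun w : p.U => (w : P)) e))
  have hWK : K.relIndex W * Nat.card (K.subgroupOf W) = Nat.card W := by
    rw [mul_comm]; exact (K.subgroupOf W).card_mul_index
  have hsupW : (W ⊔ K).index ≤ W.index := sup_le_index W K
  -- the commutators of `H` with `H ⊓ U`
  have hcom : ∀ h : H, ∀ x : W, h * (x : H) * h⁻¹ * (x : H)⁻¹ ∈ W := by
    intro h x
    refine mem_subgroupOf.mpr ?_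
    push_cast
    exact mul_mem (conj_U p (mem_subgroupOf.mp x.2) _) (inv_mem (mem_subgroupOf.mp x.2))
  -- `H` is not the whole group modulo `U` when it acts with small commutators
  have ha2 : (p.a : X) * (p.a : X) = 1 := by rw [← QuotientGroup.mk_mul, p.a2, QuotientGroup.mk_one]
  have hsup4 : (W ⊔ K).index ≤ 4 := by
    by_cases hle : K ≤ W
    · by_contra hc
      obtain ⟨i, hi⟩ := IsPGroup.index (p.hP.to_subgroup H) W
      have hi3 : i = 3 := by
        rw [hi] at hW8 hsupW
        have h1 : i < 4 := (Nat.pow_lt_pow_iff_right (by norm_num : 1 < 2)).mp (by omega)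
        interval_cases i <;> omega
      have hYX : Y = ⊤ := Subgroup.eq_top_of_le_card _ (by
        rw [← hWY, hi, hi3]; exact hX8)
      have hYc : ∀ q : X, q * (p.a : X) = (p.a : X) * q := by
        intro q
        obtain ⟨h, hh, rfl⟩ : q ∈ Y := hYX ▸ mem_top q
        obtain ⟨k, hk, hka⟩ : (p.a : X) ∈ Y := hYX ▸ mem_top _
        have h1 := hle (FourGenerator94.comm_mem_K hK ⟨h, hh⟩ ⟨k, hk⟩)
        rw [hW, mem_subgroupOf] at h1
        push_cast at h1
        have h2 : π (h * k * h⁻¹ * k⁻¹) = 1 := (QuotientGroup.eq_one_iff _).mpr h1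
        simp only [map_mul, map_inv] at h2
        rw [mul_inv_eq_one, mul_inv_eq_iff_eq_mul] at h2
        rw [← hka]; exact h2
      have h8 : Nat.card X = 8 := le_antisymm hX8 (by
        have := hYle; rw [← hWY, hi, hi3] at this; exact this)
      have := card_quotient_cent p h16
      rw [show centralizer ({(p.a : X)} : Set X) = ⊤ from
        eq_top_iff.mpr fun q _ => mem_cent.mpr (hYc q), Subgroup.card_top, h8] at this
      omega
    · have h1 := Subgroup.relIndex_mul_index (le_sup_left : W ≤ W ⊔ K)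
      have h2 : W.relIndex (W ⊔ K) ≠ 1 := fun e =>
        hle (le_sup_right.trans (Subgroup.relIndex_eq_one.mp e))
      have h3 : W.relIndex (W ⊔ K) ≠ 0 := Subgroup.index_ne_zero_of_finite
      have h4 : 2 * (W ⊔ K).index ≤ W.relIndex (W ⊔ K) * (W ⊔ K).index :=
        Nat.mul_le_mul_right _ (by omega)
      omega
  have hU_of_card : 16 ≤ Nat.card W → p.U ≤ H := by
    intro h
    have hb : Function.Bijective (fun x : W => (⟨((x : H) : P), x.2⟩ : p.U)) :=
      Function.Injective.bijective_of_nat_card_le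
        (fun x y e => Subtype.ext (Subtype.ext (congrArg (fun w : p.U => (w : P)) e)))
        (by rw [h16]; exact h)
    intro x hx
    obtain ⟨y, hy⟩ := hb.2 ⟨x, hx⟩
    rw [← show ((y : H) : P) = x from congrArg Subtype.val hy]
    exact (y : H).2
  have htriv : Nat.card (K.subgroupOf W) = 1 → ∀ h : H, ∀ x : W,
      ((h : P)) * ((x : H) : P) = ((x : H) : P) * (h : P) := by
    intro h1 h x
    have hk : (⟨_, hcom h x⟩ : W) ∈ K.subgroupOf W :=
      mem_subgroupOf.mpr (FourGenerator94.comm_mem_K hK _ _)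
    rw [Subgroup.card_eq_one.mp h1, mem_bot] at hk
    have h2 := congrArg (fun z : W => ((z : H) : P)) hk
    simp only [Subgroup.coe_mul, Subgroup.coe_inv, OneMemClass.coe_one] at h2
    rw [mul_inv_eq_one, mul_inv_eq_iff_eq_mul] at h2
    exact h2
  by_cases hs1 : (W ⊔ K).index ≤ 1
  · exact le_trans (Nat.mul_le_mul hr16 hs1) (by norm_num)
  by_cases hbad : K.relIndex W ≤ 4
  · exact le_trans (Nat.mul_le_mul hbad hsup4) (by norm_num)
  have hWone : Nat.card W = 16 → Nat.card (K.subgroupOf W) ≠ 1 := by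
    intro hc h1
    refine hs1 (le_trans hsupW (le_of_eq ?_))
    rw [Subgroup.index_eq_one, eq_top_iff]
    intro h _
    rw [hW, mem_subgroupOf, ← B_eq p h16, mem_B]
    intro u hu
    exact (htriv h1 h ⟨⟨u, hU_of_card hc.ge hu⟩, mem_subgroupOf.mpr hu⟩).symm
  by_cases hs2 : (W ⊔ K).index ≤ 2
  · by_cases hr8 : K.relIndex W ≤ 8
    · exact le_trans (Nat.mul_le_mul hr8 hs2) (by norm_num)
    · have hpos : 0 < Nat.card (K.subgroupOf W) := Nat.card_pos
      obtain ⟨i, hi⟩ := IsPGroup.index ((p.hP.to_subgroup H).to_subgroup W) (K.subgroupOf W)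
      rw [show (K.subgroupOf W).index = K.relIndex W from rfl] at hi
      have h5 : K.relIndex W = 16 := by
        rw [hi] at hr16 hr8 ⊢
        have h1 : i < 5 := (Nat.pow_lt_pow_iff_right (by norm_num : 1 < 2)).mp (by omega)
        interval_cases i <;> omega
      rw [h5] at hWK
      exact absurd (by omega) (hWone (by omega))
  exfalso
  -- the remaining case: `W` of index at least 4 and `H` with small commutators
  have hY4 : 4 ≤ Nat.card Y := by
    obtain ⟨i, hi⟩ := IsPGroup.index (p.hP.to_subgroup H) (W ⊔ K)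
    rw [← hWY]
    refine le_trans ?_ hsupW
    rw [hi] at hs2 ⊢
    have : 2 ≤ i := by
      by_contra hc
      interval_cases i <;> omega
    exact le_trans (by norm_num) (Nat.pow_le_pow_right two_pos this)
  have hWK8 : 8 ≤ K.relIndex W := by
    obtain ⟨i, hi⟩ := IsPGroup.index ((p.hP.to_subgroup H).to_subgroup W) (K.subgroupOf W)
    rw [show (K.subgroupOf W).index = K.relIndex W from rfl] at hi
    rw [hi] at hbad ⊢
    have : 3 ≤ i := by
      by_contra hc
      interval_cases i <;> omega
    exact le_trans (by norm_num) (Nat.pow_le_pow_right two_pos this)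
  -- every element of `H` fixes `F` when it commutes with `a` modulo `U`; and `a` is not in `Y`
  have hfixF : ∀ h ∈ H, h⁻¹ * (p.a * h * p.a) ∈ p.U → h ∉ p.U → ∀ e ∈ p.F, h * e = e * h := by
    intro h hh hha hhU e he
    obtain ⟨u, hu, hue⟩ := exists_comm p h16 he
    by_cases hc : Nat.card W = 16
    · have hUH := hU_of_card hc.ge
      have hk2 : Nat.card (K.subgroupOf W) ≤ 2 := by
        rw [hc] at hWK
        have : 0 < Nat.card (K.subgroupOf W) := Nat.card_pos
        nlinarith
      let c : P → P := fun x => h * x * h⁻¹ * x⁻¹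
      have hcK : ∀ x ∈ p.U, ∃ z : K.subgroupOf W, (((z : W) : H) : P) = c x := by
        intro x hx
        exact ⟨⟨⟨_, hcom ⟨h, hh⟩ ⟨⟨x, hUH hx⟩, mem_subgroupOf.mpr hx⟩⟩,
          mem_subgroupOf.mpr (FourGenerator94.comm_mem_K hK _ _)⟩, rfl⟩
      have htwo : ∀ x ∈ p.U, ∀ y ∈ p.U, c x ≠ 1 → c y ≠ 1 → c x = c y := by
        intro x hx y hy hx1 hy1
        by_contra hne
        obtain ⟨z1, hz1⟩ := hcK x hx
        obtain ⟨z2, hz2⟩ := hcK y hy
        have hinj : Function.Injective (![1, z1, z2] : Fin 3 → K.subgroupOf W) := by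
          intro i j q
          have q' := congrArg (fun z : K.subgroupOf W => (((z : W) : H) : P)) q
          fin_cases i <;> fin_cases j <;> simp_all [eq_comm]
        have := Nat.card_le_card_of_injective _ hinj
        rw [Nat.card_fin] at this; omega
      set v := p.a * u * p.a with hv
      have hvU := aU_mem p hu
      have hcv : c v = p.a * c u * p.a := by
        set t := h⁻¹ * (p.a * h * p.a) with ht
        have htu := comm_of_sq p.sq hha hvU
        have e1 : c v = h * (t * v * t⁻¹) * h⁻¹ * v⁻¹ := by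
          rw [htu, mul_inv_cancel_right]
        rw [e1, ht, hv]
        simp only [c]
        rw [show (h⁻¹ * (p.a * h * p.a))⁻¹ = p.a⁻¹ * h⁻¹ * p.a⁻¹ * h by group, inv_of_sq p.a2]
        calc h * (h⁻¹ * (p.a * h * p.a) * (p.a * u * p.a) * (p.a * h⁻¹ * p.a * h)) * h⁻¹ *
              (p.a * u * p.a)⁻¹
            = p.a * h * (p.a * p.a) * u * (p.a * p.a) * h⁻¹ * p.a * (p.a * u * p.a)⁻¹ := by group
          _ = p.a * h * 1 * u * 1 * h⁻¹ * p.a * (p.a * u⁻¹ * p.a) := by
            rw [p.a2, mul_inv_rev, mul_inv_rev, inv_of_sq p.a2, mul_assoc p.a u⁻¹ p.a]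
          _ = p.a * h * u * h⁻¹ * (p.a * p.a) * u⁻¹ * p.a := by group
          _ = p.a * h * u * h⁻¹ * 1 * u⁻¹ * p.a := by rw [p.a2]
          _ = _ := by group
      have hce : c e = 1 := by
        have hmul : c e = c u * c v := by
          rw [← hue]
          simp only [c]
          have hcc : h * v * h⁻¹ * v⁻¹ * u⁻¹ = u⁻¹ * (h * v * h⁻¹ * v⁻¹) :=
            comm_of_sq p.sq (mul_mem (conj_U p hvU h) (inv_mem hvU)) (inv_mem hu)
          calc h * (u * v) * h⁻¹ * (u * v)⁻¹ = h * u * h⁻¹ * (h * v * h⁻¹ * v⁻¹ * u⁻¹) := by group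
            _ = _ := by rw [hcc]; group
        have hcU : c u ∈ p.U := mul_mem (conj_U p hu h) (inv_mem hu)
        by_cases h1 : c u = 1
        · rw [hmul, hcv, h1, mul_one, p.a2, one_mul]
        · have h2 : c v ≠ 1 := fun q => h1 (by
            rw [hcv] at q
            have := congrArg (fun z => p.a * z * p.a) q
            simpa [← mul_assoc, p.a2, mul_assoc _ p.a p.a] using this)
          rw [hmul, ← htwo u hu v hvU h1 h2]
          exact p.sq _ hcU
      simp only [c] at hce
      rwa [mul_inv_eq_one, mul_inv_eq_iff_eq_mul] at hce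
    · have hW8' : Nat.card W = 8 ∧ Nat.card (K.subgroupOf W) = 1 := by
        obtain ⟨i, hi⟩ := IsPGroup.iff_card.mp ((p.hP.to_subgroup H).to_subgroup W)
        have hpos : 0 < Nat.card (K.subgroupOf W) := Nat.card_pos
        have hi3 : i = 3 := by
          rw [hi] at hWle hc hWK
          have h1 : i < 5 := (Nat.pow_lt_pow_iff_right (by norm_num : 1 < 2)).mp (by omega)
          interval_cases i <;> first | rfl | omega | nlinarith
        rw [hi, hi3] at hWK ⊢
        exact ⟨by norm_num, by nlinarith⟩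
      -- `C_U(h)` is `H ⊓ U`, an `a`-invariant hyperplane
      set L := p.U ⊓ centralizer ({h} : Set P) with hL
      have hL8 : 8 ≤ Nat.card L := by
        rw [← hW8'.1]
        exact Nat.card_le_card_of_injective (fun x : W => (⟨((x : H) : P), mem_subgroupOf.mp x.2,
          mem_cent.mpr (htriv hW8'.2 ⟨h, hh⟩ x).symm⟩ : L))
          fun x y q => Subtype.ext (Subtype.ext (congrArg (fun w : L => (w : P)) q))
      have hLa : ∀ x ∈ L, p.a * x * p.a ∈ L := by
        intro x hx
        refine ⟨aU_mem p hx.1, mem_cent.mpr ?_⟩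
        set t := h⁻¹ * (p.a * h * p.a) with ht
        have htu := comm_of_sq p.sq hha (aU_mem p hx.1)
        have hxh := mem_cent.mp hx.2
        have e2 : h * t * (p.a * x * p.a) = (p.a * x * p.a) * (h * t) := by
          rw [ht]
          calc h * (h⁻¹ * (p.a * h * p.a)) * (p.a * x * p.a)
              = p.a * h * (p.a * p.a) * x * p.a := by group
            _ = p.a * (x * h) * p.a := by rw [p.a2, mul_one, hxh]; group
            _ = p.a * x * (p.a * p.a) * h * p.a := by rw [p.a2, mul_one]; group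
            _ = _ := by group
        have e3 : h * (p.a * x * p.a) * t = p.a * x * p.a * h * t := by
          rw [mul_assoc h, ← htu, ← mul_assoc, e2, mul_assoc (p.a * x * p.a)]
        exact (mul_right_cancel e3).symm
      have hLu : e ∈ L := by
        by_cases huL : u ∈ L
        · rw [← hue]; exact mul_mem huL (hLa u huL)
        · have hLt : L < p.U := lt_of_le_of_ne inf_le_left fun q => huL (q ▸ hu)
          have hidx : (L.subgroupOf p.U).index = 2 := by
            have h1 := (L.subgroupOf p.U).card_mul_index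
            rw [Nat.card_congr (Subgroup.subgroupOfEquivOfLe hLt.le).toEquiv, h16] at h1
            have h2 : (L.subgroupOf p.U).index ≠ 1 := fun q =>
              hLt.not_ge (Subgroup.relIndex_eq_one.mp q)
            have h3 : (L.subgroupOf p.U).index ≠ 0 := Subgroup.index_ne_zero_of_finite
            have h5 := Nat.mul_le_mul_right (L.subgroupOf p.U).index hL8
            omega
          have hva : p.a * u * p.a ∉ L := fun q => huL (by
            have := hLa _ q
            rwa [show p.a * (p.a * u * p.a) * p.a = (p.a * p.a) * u * (p.a * p.a) by group, p.a2,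
              one_mul, mul_one] at this)
          have h4 : ((⟨u, hu⟩ : p.U) * ⟨p.a * u * p.a, aU_mem p hu⟩) ∈ L.subgroupOf p.U := by
            rw [Subgroup.mul_mem_iff_of_index_two hidx]
            simp [mem_subgroupOf, huL, hva]
          rw [← hue]; exact mem_subgroupOf.mp h4
      exact (mem_cent.mp hLu.2).symm
  have haY : (p.a : X) ∉ Y := by
    rintro ⟨h, hh, hha⟩
    have hhU : p.a * h ∈ p.U := by
      have : ((p.a * h : P) : X) = 1 := by
        rw [QuotientGroup.mk_mul, show (h : X) = (p.a : X) from hha, ha2]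
      exact (QuotientGroup.eq_one_iff _).mp this
    have hht : ∀ x ∈ p.U, p.a * x * p.a = h * x * h⁻¹ := fun x hx => by
      have := comm_of_sq p.sq hhU (conj_U p hx 1)
      simp only [one_mul, inv_one, mul_one] at this
      calc p.a * x * p.a = p.a * (x * (p.a * h)) * h⁻¹ := by group
        _ = (p.a * p.a) * h * x * h⁻¹ := by rw [← this]; group
        _ = _ := by rw [p.a2, one_mul]
    have hk2 : Nat.card W = 16 ∧ Nat.card (K.subgroupOf W) ≤ 2 ∨
        Nat.card (K.subgroupOf W) = 1 := by
      by_cases hc : Nat.card W = 16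
      · left; refine ⟨hc, ?_⟩
        have h5 := Nat.mul_le_mul_right (Nat.card (K.subgroupOf W)) hWK8
        omega
      · right
        obtain ⟨i, hi⟩ := IsPGroup.iff_card.mp ((p.hP.to_subgroup H).to_subgroup W)
        have hpos : 0 < Nat.card (K.subgroupOf W) := Nat.card_pos
        rw [hi] at hWle hc hWK
        have h5 := Nat.mul_le_mul_right (Nat.card (K.subgroupOf W)) hWK8
        have h1 : i < 5 := (Nat.pow_lt_pow_iff_right (by norm_num : 1 < 2)).mp (by omega)
        have h6 : i ≤ 3 := by
          by_contra hc'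
          exact hc (by rw [show i = 4 by omega]; norm_num)
        have h7 := Nat.pow_le_pow_right (show 0 < 2 by norm_num) h6
        omega
    rcases hk2 with ⟨hc, hk⟩ | h1
    · -- the range of `[·, a]` would have order 2
      have hUH := hU_of_card hc.ge
      have hle : Nat.card p.comHom.range ≤ Nat.card (K.subgroupOf W) := by
        refine Nat.card_le_card_of_injective (fun z => ⟨⟨⟨(z : P), ?_⟩, ?_⟩, ?_⟩)
          fun y z q => Subtype.ext (congrArg (fun w : K.subgroupOf W => (((w : W) : H) : P)) q)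
        · exact hUH ((range_comHom_le p).trans (F_le_U p) z.2)
        · exact mem_subgroupOf.mpr ((range_comHom_le p).trans (F_le_U p) z.2)
        · obtain ⟨u, hu⟩ := z.2
          rw [mem_subgroupOf]
          have e1 : (⟨(z : P), hUH ((range_comHom_le p).trans (F_le_U p) z.2)⟩ : H) =
              ⟨h, hh⟩ * ⟨(u : P), hUH u.2⟩ * (⟨h, hh⟩ : H)⁻¹ * (⟨(u : P), hUH u.2⟩ : H)⁻¹ := by
            refine Subtype.ext ?_
            push_cast
            rw [← hht u u.2, ← hu]
            show (u : P) * (p.a * u * p.a) = _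
            rw [inv_of_sq (p.sq u u.2), comm_of_sq p.sq u.2 (aU_mem p u.2)]
          show (⟨(z : P), hUH ((range_comHom_le p).trans (F_le_U p) z.2)⟩ : H) ∈ K
          exact e1.symm ▸ FourGenerator94.comm_mem_K hK _ _
      rw [range_eq p h16, card_F] at hle
      omega
    · -- `a` would centralise `H ⊓ U`
      have hle : Nat.card W ≤ Nat.card p.F :=
        Nat.card_le_card_of_injective (fun x => (⟨((x : H) : P), (mem_F p).mpr
          ⟨mem_subgroupOf.mp x.2, fixed_comm p (by
            rw [hht _ (mem_subgroupOf.mp x.2), htriv h1 ⟨h, hh⟩ x, mul_inv_cancel_right])⟩⟩ : p.F))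
          fun x y q => Subtype.ext (Subtype.ext (congrArg (fun w : p.F => (w : P)) q))
      rw [card_F] at hle
      rw [h1, mul_one] at hWK
      omega
  have hY4' : Nat.card Y = 4 ∧ Nat.card X = 8 := by
    have hne : Y ≠ ⊤ := fun q => haY (q ▸ mem_top _)
    have h1 : Nat.card Y * Y.index = Nat.card X := Y.card_mul_index
    have h2 : Y.index ≠ 1 := fun q => hne (Subgroup.index_eq_one.mp q)
    have h3 : Y.index ≠ 0 := Subgroup.index_ne_zero_of_finite
    have h4 : Nat.card Y * 2 ≤ Nat.card Y * Y.index := Nat.mul_le_mul_left _ (by omega)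
    omega
  haveI : Y.Normal := by
    have h1 := Y.card_mul_index
    exact PGroupsBasic.normal_of_index_eq (p := 2) (p.hP.to_quotient _) (by
      rw [hY4'.1, hY4'.2] at h1; omega)
  have hne := PGroupsBasic.inf_center_ne_bot (p := 2) (p.hP.to_quotient _) (N := Y) (fun q => by
    rw [q, Subgroup.card_bot] at hY4; omega)
  refine hne ((Subgroup.eq_bot_iff_forall _).mpr ?_)
  rintro _ ⟨⟨h, hh, rfl⟩, hz⟩
  by_contra hq1
  have hhU : h ∉ p.U := fun q => hq1 ((QuotientGroup.eq_one_iff h).mpr q)
  have hha : h⁻¹ * (p.a * h * p.a) ∈ p.U := by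
    rw [← QuotientGroup.eq_one_iff]
    have h1 := mem_center_iff.mp hz (p.a : X)
    simp only [π, QuotientGroup.mk'_apply] at h1
    simp only [QuotientGroup.mk_mul, QuotientGroup.mk_inv]
    rw [h1, mul_assoc (h : X), ha2, mul_one, inv_mul_cancel]
  rcases fix_cases p h16 (hfixF h hh hha hhU) hha with q | q
  · exact hhU q
  · refine haY ⟨h, hh, ?_⟩
    have : ((p.a * h : P) : X) = 1 := (QuotientGroup.eq_one_iff _).mpr q
    rw [QuotientGroup.mk_mul] at this
    show (h : X) = (p.a : X)
    rw [eq_inv_of_mul_eq_one_right this, inv_eq_of_mul_eq_one_right ha2]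

end Cfsg.Agent.SelfCentE8Sixteen94
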